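import Cfsg.Agent.Lib.Helper28.S1692.Seeds65

set_option autoImplicit false
set_option maxRecDepth 100000
set_option linter.all false

namespace Cfsg.Agent.Helper28.S1692

open Cfsg.Agent.Helper28
open Cfsg.Spor.ON (Gen)

noncomputable section

namespace K66
abbrev LD1_c0 := D1.c0
abbrev LD1_c1 := D1.c1
abbrev LD1_c2 := D1.c2
abbrev LD1_c3 := D1.c3
abbrev LD1_c4 := D1.c4
abbrev LD1_c5 := D1.c5
abbrev LD1_c6 := D1.c6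
abbrev LD1_c7 := D1.c7
abbrev LD1_c8 := D1.c8
abbrev LD1_c9 := D1.c9
abbrev LD1_c10 := D1.c10
abbrev LD1_c11 := D1.c11
abbrev LD1_c12 := D1.c12
abbrev LD1_c13 := D1.c13
abbrev LD1_c14 := D1.c14
abbrev LD1_c15 := D1.c15
abbrev LD1_c16 := D1.c16
abbrev LD1_c17 := D1.c17
abbrev LD1_c18 := D1.c18
abbrev LD1_c19 := D1.c19
abbrev LD1_c20 := D1.c20
abbrev LD1_c21 := D1.c21
abbrev LD1_c22 := D1.c22
abbrev LD1_c23 := D1.c23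
abbrev LD1_c24 := D1.c24
abbrev LD1_c25 := D1.c25
abbrev LD1_c26 := D1.c26
abbrev LD1_c27 := D1.c27
abbrev LD1_c28 := D1.c28
abbrev LD1_c29 := D1.c29
abbrev LD1_c30 := D1.c30
abbrev LD1_c31 := D1.c31
abbrev LD1_c32 := D1.c32
abbrev LD2_c0 := D2.c0
abbrev LD2_c1 := D2.c1
abbrev LD2_c2 := D2.c2
abbrev LD2_c3 := D2.c3
abbrev LD2_c4 := D2.c4
abbrev LD2_c5 := D2.c5
abbrev LD2_c6 := D2.c6
abbrev LD2_c7 := D2.c7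
abbrev LD2_c8 := D2.c8
abbrev LD2_c9 := D2.c9
abbrev LD2_c10 := D2.c10
abbrev LD2_c11 := D2.c11
abbrev LD2_c12 := D2.c12
abbrev LD2_c13 := D2.c13
abbrev LD2_c14 := D2.c14
abbrev LD2_c15 := D2.c15
abbrev LD2_c16 := D2.c16
abbrev LD2_c17 := D2.c17
abbrev LD2_c18 := D2.c18
abbrev LD2_c19 := D2.c19
abbrev LD2_c20 := D2.c20
abbrev LD2_c21 := D2.c21
abbrev LD2_c22 := D2.c22
abbrev LD2_c23 := D2.c23
abbrev LD2_c24 := D2.c24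
abbrev LD2_c25 := D2.c25
abbrev LD2_c26 := D2.c26
abbrev LD2_c27 := D2.c27
abbrev LD2_c28 := D2.c28
abbrev LD2_c29 := D2.c29
abbrev LD2_c30 := D2.c30
abbrev LD2_c31 := D2.c31
abbrev LD2_c32 := D2.c32
abbrev LD2_c33 := D2.c33
abbrev LD2_c34 := D2.c34
abbrev LD2_c35 := D2.c35
abbrev LD2_c36 := D2.c36
abbrev LD2_c37 := D2.c37
abbrev LD2_c38 := D2.c38
abbrev LD2_c39 := D2.c39
abbrev LD2_c40 := D2.c40
abbrev LD2_c41 := D2.c41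
abbrev LD2_c42 := D2.c42
abbrev LD2_c43 := D2.c43
abbrev LD2_c44 := D2.c44
abbrev LD2_c45 := D2.c45
abbrev LD2_c46 := D2.c46
abbrev LD2_c47 := D2.c47
abbrev LD2_c48 := D2.c48
abbrev LD2_c49 := D2.c49
abbrev LD2_c50 := D2.c50
abbrev LD2_c51 := D2.c51
abbrev LD2_c52 := D2.c52
abbrev LD2_c53 := D2.c53
abbrev LD2_c54 := D2.c54
abbrev LD2_c55 := D2.c55
abbrev LD2_c56 := D2.c56
abbrev LD2_c57 := D2.c57
abbrev LD2_c58 := D2.c58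
abbrev LD2_c59 := D2.c59
abbrev LD3_c0 := D3.c0
abbrev LD3_c1 := D3.c1
abbrev LD3_c2 := D3.c2
abbrev LD3_c3 := D3.c3
abbrev LD3_c4 := D3.c4
abbrev LD3_c5 := D3.c5
abbrev LD3_c6 := D3.c6
abbrev LD3_c7 := D3.c7
abbrev LD3_c8 := D3.c8
abbrev LD3_c9 := D3.c9
abbrev LD3_c10 := D3.c10
abbrev LD3_c11 := D3.c11
abbrev LD3_c12 := D3.c12
abbrev LD3_c13 := D3.c13
abbrev LD3_c14 := D3.c14
abbrev LD3_c15 := D3.c15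
abbrev LD3_c16 := D3.c16
abbrev LD3_c17 := D3.c17
abbrev LD3_c18 := D3.c18
abbrev LD3_c19 := D3.c19
abbrev LD3_c20 := D3.c20
abbrev LD3_c21 := D3.c21
abbrev LD3_c22 := D3.c22
abbrev LD3_c23 := D3.c23
abbrev LD3_c24 := D3.c24
abbrev LD3_c25 := D3.c25
abbrev LD3_c26 := D3.c26
abbrev LD3_c27 := D3.c27
abbrev LD3_c28 := D3.c28
abbrev LD3_c29 := D3.c29
abbrev LD3_c30 := D3.c30
abbrev LD3_c31 := D3.c31
abbrev LD3_c32 := D3.c32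
abbrev LD3_c33 := D3.c33
abbrev LD3_c34 := D3.c34
abbrev LD3_c35 := D3.c35
abbrev LD3_c36 := D3.c36
abbrev LD3_c37 := D3.c37
abbrev LD3_c38 := D3.c38
abbrev LD3_c39 := D3.c39
abbrev LD3_c40 := D3.c40
abbrev LD3_c41 := D3.c41
abbrev LD3_c42 := D3.c42
abbrev LD3_c43 := D3.c43
abbrev LD3_c44 := D3.c44
abbrev LD3_c45 := D3.c45
abbrev LD3_c46 := D3.c46
abbrev LD3_c47 := D3.c47
abbrev LD3_c48 := D3.c48
abbrev LD3_c49 := D3.c49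
abbrev LD3_c50 := D3.c50
abbrev LD3_c51 := D3.c51
abbrev LD3_c52 := D3.c52
abbrev LD3_c53 := D3.c53
abbrev LD3_c54 := D3.c54
abbrev LD3_c55 := D3.c55
abbrev LD3_c56 := D3.c56
abbrev LD3_c57 := D3.c57
abbrev LD3_c58 := D3.c58
abbrev LD3_c59 := D3.c59
abbrev LD3_c60 := D3.c60
abbrev LD3_c61 := D3.c61
abbrev LG_g := Gen.g
abbrev Lsl_gt : Gen × Bool := sl_gt
alias Lfl_gt := fl_gt
alias Lpr_gt := pr_gt
abbrev Lsl_gf : Gen × Bool := sl_gf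
alias Lfl_gf := fl_gf
alias Lpr_gf := pr_gf
alias Lre_g := re_g
alias Leoe_g := eoe_g
abbrev LG_a := Gen.a
abbrev Lsl_at : Gen × Bool := sl_at
alias Lfl_at := fl_at
alias Lpr_at := pr_at
abbrev Lsl_af : Gen × Bool := sl_af
alias Lfl_af := fl_af
alias Lpr_af := pr_af
alias Lre_a := re_a
alias Leoe_a := eoe_a
abbrev LG_b := Gen.b
abbrev Lsl_bt : Gen × Bool := sl_bt
alias Lfl_bt := fl_bt
alias Lpr_bt := pr_bt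
abbrev Lsl_bf : Gen × Bool := sl_bf
alias Lfl_bf := fl_bf
alias Lpr_bf := pr_bf
alias Lre_b := re_b
alias Leoe_b := eoe_b
abbrev LG_c := Gen.c
abbrev Lsl_ct : Gen × Bool := sl_ct
alias Lfl_ct := fl_ct
alias Lpr_ct := pr_ct
abbrev Lsl_cf : Gen × Bool := sl_cf
alias Lfl_cf := fl_cf
alias Lpr_cf := pr_cf
alias Lre_c := re_c
alias Leoe_c := eoe_c
abbrev LG_d := Gen.d
abbrev Lsl_dt : Gen × Bool := sl_dt
alias Lfl_dt := fl_dt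
alias Lpr_dt := pr_dt
abbrev Lsl_df : Gen × Bool := sl_df
alias Lfl_df := fl_df
alias Lpr_df := pr_df
alias Lre_d := re_d
alias Leoe_d := eoe_d
abbrev LG_e := Gen.e
abbrev Lsl_et : Gen × Bool := sl_et
alias Lfl_et := fl_et
alias Lpr_et := pr_et
abbrev Lsl_ef : Gen × Bool := sl_ef
alias Lfl_ef := fl_ef
alias Lpr_ef := pr_ef
alias Lre_e := re_e
alias Leoe_e := eoe_e
abbrev LG_f := Gen.f
abbrev Lsl_ft : Gen × Bool := sl_ft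
alias Lfl_ft := fl_ft
alias Lpr_ft := pr_ft
abbrev Lsl_ff : Gen × Bool := sl_ff
alias Lfl_ff := fl_ff
alias Lpr_ff := pr_ff
alias Lre_f := re_f
alias Leoe_f := eoe_f
abbrev LK := Pt.mk
abbrev LQ : Type := Qt rels S
abbrev LP (p : Pt) : LQ := P p
abbrev Led (l : Gen × Bool) (c : LQ) : LQ := ed l c
abbrev LEOK (x : Gen) (p : Pt) : Prop := EntryOK rels S fwd inv o plet idx x p
alias Lpe := pe
alias Lpn := pn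
alias Lgr := gr
alias Lpq := pq
alias Lpqs := pqs
alias Llr := lr
alias Leop := eop
alias Lefun := efun
alias Lecon := econ
theorem Lrfl {α : Sort _} {a : α} : a = a := rfl
alias Lrot0 := rot0
alias Lrot1 := rot1
alias Lrot2 := rot2
alias Lrot3 := rot3
alias Lrot4 := rot4
alias Lrot5 := rot5
alias Lrot6 := rot6
alias Lrot7 := rot7
alias Lrot8 := rot8
alias Lrot9 := rot9
alias Lrot10 := rot10
alias Lrot11 := rot11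
alias Lrot12 := rot12
alias Lrot14 := rot14
alias Lrot15 := rot15
alias Lrot17 := rot17
alias Lrot18 := rot18
alias Lrot19 := rot19
alias Lrot20 := rot20
alias Lrot21 := rot21
alias Lrot22 := rot22
alias Lrot23 := rot23
alias Lrot24 := rot24
alias Lrot25 := rot25
alias Lrot26 := rot26
alias Lrot27 := rot27
alias Lrot28 := rot28
alias Lrot29 := rot29
alias Lrot30 := rot30
alias Lrot31 := rot31
alias Lrot33 := rot33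
alias Lrot34 := rot34
alias Lrot35 := rot35
alias Lrot36 := rot36
alias Lrot37 := rot37
alias Lrot38 := rot38
alias Lrot39 := rot39
alias Lrot40 := rot40
alias Lrot42 := rot42
alias Lrot43 := rot43
alias Lrot44 := rot44
alias Lrot45 := rot45
alias Lrot46 := rot46
alias Lrot47 := rot47
alias Lrot48 := rot48
alias Lrot49 := rot49
alias Lrot50 := rot50
alias Lrot51 := rot51
alias Lrot52 := rot52
alias Lrot54 := rot54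
alias Lrot55 := rot55
alias Lrot56 := rot56
alias Lrot57 := rot57
alias Lrot58 := rot58
alias Lrot59 := rot59
alias Lrot60 := rot60
alias Lrot61 := rot61
alias Lrot62 := rot62
alias Lrot63 := rot63
alias Lrot64 := rot64
alias Lrot65 := rot65
alias Lrot66 := rot66
alias Lrot67 := rot67
alias Lrot68 := rot68
alias Lrot69 := rot69
alias Lrot70 := rot70
alias Lrot71 := rot71
alias Lrot72 := rot72
alias Lrot73 := rot73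
alias Lrot74 := rot74
alias Lrot75 := rot75
alias Lrot76 := rot76
alias Lrot77 := rot77
alias Lrot78 := rot78
alias Lrot79 := rot79
alias Lrot80 := rot80
alias Lrot81 := rot81
alias Lrot82 := rot82
alias Lrot83 := rot83
alias Lrot84 := rot84
alias Lrot86 := rot86
alias Lrot87 := rot87
alias Lrot88 := rot88
alias Lrot90 := rot90
alias Lrot91 := rot91
alias Lrot92 := rot92
alias Lrot93 := rot93
alias Lrot94 := rot94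
alias Lrot95 := rot95
alias Lrot96 := rot96
alias Lrot97 := rot97
alias Lrot99 := rot99
alias Lrot100 := rot100
alias Lrot101 := rot101
alias Lrot103 := rot103
alias Lrot104 := rot104
alias Lrot105 := rot105
alias Lrot106 := rot106
alias Lrot107 := rot107
alias Lrot108 := rot108
alias Lrot110 := rot110
alias Lrot111 := rot111
alias Lrot112 := rot112
alias Lrot113 := rot113
alias Lrot114 := rot114
alias Lrot116 := rot116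
alias Lrot117 := rot117
alias Lrot118 := rot118
alias Lrot119 := rot119
alias Lrot121 := rot121
alias Lrot122 := rot122
alias Lrot123 := rot123
alias Lrot124 := rot124
alias Lrot125 := rot125
alias Lrot126 := rot126
alias Lrot127 := rot127
alias Lrot128 := rot128
alias Lrot129 := rot129
alias Lrot130 := rot130
alias Lrot131 := rot131
alias Lrot132 := rot132
alias Lrot134 := rot134
alias Lrot135 := rot135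
alias Lrot136 := rot136
alias Lrot137 := rot137
alias Lrot138 := rot138
alias Lrot139 := rot139
alias Lrot141 := rot141
alias Lrot142 := rot142
alias Lrot143 := rot143
alias Lrot144 := rot144
alias Lrot145 := rot145
alias Lrot147 := rot147
alias Lrot148 := rot148
alias Lrot149 := rot149
alias Lrot150 := rot150
alias Lrot151 := rot151
alias Lrot152 := rot152
alias Lrot153 := rot153
alias Lrot155 := rot155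
alias Lrot156 := rot156
alias Lrot158 := rot158
alias Lrot160 := rot160
alias Lrot161 := rot161
alias Lrot162 := rot162
alias Lrot163 := rot163
alias Lrot164 := rot164
alias Lrot166 := rot166
alias Lrot167 := rot167
alias Lrot168 := rot168
alias Lrot169 := rot169
alias Lrot170 := rot170
alias Lrot171 := rot171
alias Lrot172 := rot172
alias Lrot174 := rot174
alias Lrot176 := rot176
alias Lrot179 := rot179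
alias Lrot180 := rot180
alias Lrot181 := rot181
alias Lrot182 := rot182
alias Lrot183 := rot183
alias Lrot185 := rot185

section
variable (IH : IHT)
include IH

theorem f416024 : Led Lsl_gt (LP (LK LD1_c15 LD2_c4 LD3_c34)) = (LP (LK LD1_c24 LD2_c53 LD3_c19)) :=
  Lre_g IH (LK LD1_c15 LD2_c4 LD3_c34) (LK LD1_c24 LD2_c53 LD3_c19) Lrfl Lrfl
theorem f503916 : Led Lsl_at (LP (LK LD1_c9 LD2_c46 LD3_c42)) = (LP (LK LD1_c17 LD2_c56 LD3_c45)) :=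
  Lre_a IH (LK LD1_c9 LD2_c46 LD3_c42) (LK LD1_c17 LD2_c56 LD3_c45) Lrfl Lrfl
theorem f503917 : Led Lsl_gt (LP (LK LD1_c24 LD2_c53 LD3_c19)) = (LP (LK LD1_c17 LD2_c56 LD3_c45)) :=
  Lgr Lrot46 (Lpe (f416024 IH) (Lpr_ft (K65.f503905 IH) (Lpr_at (f503916 IH) (Lpn (LP (LK LD1_c17 LD2_c56 LD3_c45))))))
theorem f720711 : Led Lsl_ct (LP (LK LD1_c24 LD2_c53 LD3_c19)) = (LP (LK LD1_c20 LD2_c13 LD3_c23)) :=
  Lgr Lrot110 (Lpe (f416024 IH) (Lpe (K65.f40927 IH) (Lpe (K52.f710424 IH) (Lpe (K52.f612931 IH) (Lpqs (K52.f710504 IH) (Lpe (K51.f689255 IH) (Lpr_ct (K53.f77396 IH) (Lpr_gt (K53.f415606 IH) (Lpr_ct (K58.f720707 IH) (Lpr_df (K54.f614356 IH) (Lpn (LP (LK LD1_c20 LD2_c13 LD3_c23)))))))))))))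
theorem f720769 : Led Lsl_cf (LP (LK LD1_c24 LD2_c53 LD3_c19)) = (LP (LK LD1_c20 LD2_c13 LD3_c23)) :=
  Lgr Lrot11 (Lpr_ct (f720711 IH) (Lpn (LP (LK LD1_c20 LD2_c13 LD3_c23))))
theorem f645019 : Led Lsl_ct (LP (LK LD1_c5 LD2_c44 LD3_c7)) = (LP (LK LD1_c11 LD2_c18 LD3_c20)) :=
  Lre_c IH (LK LD1_c5 LD2_c44 LD3_c7) (LK LD1_c11 LD2_c18 LD3_c20) Lrfl Lrfl
theorem f738378 : Led Lsl_bt (LP (LK LD1_c5 LD2_c44 LD3_c7)) = (LP (LK LD1_c11 LD2_c18 LD3_c19)) :=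
  Lre_b IH (LK LD1_c5 LD2_c44 LD3_c7) (LK LD1_c11 LD2_c18 LD3_c19) Lrfl Lrfl
theorem f740339 : Led Lsl_gf (LP (LK LD1_c20 LD2_c13 LD3_c23)) = (LP (LK LD1_c11 LD2_c18 LD3_c19)) :=
  Lgr Lrot181 (Lpe (f720769 IH) (Lpr_gt (f503917 IH) (Lpe (K53.f503914 IH) (Lpr_bt (K51.f706132 IH) (Lpr_gt (K65.f640818 IH) (Lpe (K51.f382433 IH) (Lpe (K51.f382436 IH) (Lpr_gt (K65.f740336 IH) (Lpe (f645019 IH) (Lpr_bt (f738378 IH) (Lpn (LP (LK LD1_c11 LD2_c18 LD3_c19)))))))))))))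
theorem f710383 : Led Lsl_dt (LP (LK LD1_c20 LD2_c14 LD3_c48)) = (LP (LK LD1_c11 LD2_c18 LD3_c19)) :=
  Lre_d IH (LK LD1_c20 LD2_c14 LD3_c48) (LK LD1_c11 LD2_c18 LD3_c19) Lrfl Lrfl
theorem f425988 : Led Lsl_dt (LP (LK LD1_c5 LD2_c58 LD3_c43)) = (LP (LK LD1_c11 LD2_c41 LD3_c55)) :=
  Lre_d IH (LK LD1_c5 LD2_c58 LD3_c43) (LK LD1_c11 LD2_c41 LD3_c55) Lrfl Lrfl
theorem f643719 : Led Lsl_et (LP (LK LD1_c5 LD2_c58 LD3_c43)) = (LP (LK LD1_c11 LD2_c41 LD3_c56)) :=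
  Lre_e IH (LK LD1_c5 LD2_c58 LD3_c43) (LK LD1_c11 LD2_c41 LD3_c56) Lrfl Lrfl
theorem f840120 : Led Lsl_gf (LP (LK LD1_c20 LD2_c14 LD3_c48)) = (LP (LK LD1_c11 LD2_c41 LD3_c56)) :=
  Lgr Lrot138 (Lpr_dt (f710383 IH) (Lpe (f740339 IH) (Lpe (K54.f614358 IH) (Lpr_et (K65.f744564 IH) (Lpe (K55.f744565 IH) (Lpe (K55.f709903 IH) (Lpr_dt (K55.f709901 IH) (Lpr_gt (K65.f840117 IH) (Lpe (f425988 IH) (Lpr_et (f643719 IH) (Lpn (LP (LK LD1_c11 LD2_c41 LD3_c56)))))))))))))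
theorem f840121 : Led Lsl_gt (LP (LK LD1_c11 LD2_c41 LD3_c56)) = (LP (LK LD1_c20 LD2_c14 LD3_c48)) :=
  Leop (Lpr_gf (f840120 IH) (Lpn (LP (LK LD1_c11 LD2_c41 LD3_c56))))
theorem seed_1959 : LEOK LG_g (LK LD1_c11 LD2_c41 LD3_c56) :=
  Leoe_g (LK LD1_c11 LD2_c41 LD3_c56) (f840121 IH)
def v27515 : LQ := Led Lsl_dt K65.v7593
theorem f840128 : Led Lsl_dt K65.v7593 = v27515 :=
  Lrfl
theorem f667138 : Led Lsl_ef (LP (LK LD1_c3 LD2_c52 LD3_c6)) = K65.v7593 :=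
  Lgr Lrot88 (Lpr_et (K65.f667135 IH) (Lpn K65.v7593))
theorem f103774 : Led Lsl_gt (LP (LK LD1_c6 LD2_c53 LD3_c16)) = (LP (LK LD1_c13 LD2_c5 LD3_c29)) :=
  Lre_g IH (LK LD1_c6 LD2_c53 LD3_c16) (LK LD1_c13 LD2_c5 LD3_c29) Lrfl Lrfl
theorem f840133 : Led Lsl_gt (LP (LK LD1_c22 LD2_c16 LD3_c15)) = v27515 :=
  Lgr Lrot139 (Lpe (K63.f103775 IH) (Lpe (f103774 IH) (Lpe (K4.f103736 IH) (Lpr_dt (K5.f130150 IH) (Lpe (K5.f56814 IH) (Lpe (K1.f56675 IH) (Lpr_et (K6.f57266 IH) (Lpq (K62.f802112 IH) (Lpe (K62.f667133 IH) (Lpr_ef (f667138 IH) (Lpr_dt (f840128 IH) (Lpn v27515))))))))))))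
theorem f840134 : Led Lsl_gf (LP (LK LD1_c22 LD2_c16 LD3_c16)) = v27515 :=
  Lgr Lrot76 (Lpr_af (K63.f788412 IH) (Lpr_ff (K63.f788337 IH) (Lpr_gt (f840133 IH) (Lpn v27515))))
theorem f667142 : Led Lsl_ft (LP (LK LD1_c13 LD2_c12 LD3_c60)) = K65.v7593 :=
  Lgr Lrot48 (Lpr_ff (K65.f667139 IH) (Lpn K65.v7593))
theorem f840132 : Led Lsl_ff (LP (LK LD1_c22 LD2_c16 LD3_c24)) = v27515 :=
  Lgr Lrot19 (Lpr_dt (K63.f814406 IH) (Lpr_ft (f667142 IH) (Lpr_dt (f840128 IH) (Lpn v27515))))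
theorem f840135 : Led Lsl_gt (LP (LK LD1_c22 LD2_c16 LD3_c16)) = (LP (LK LD1_c23 LD2_c54 LD3_c26)) :=
  Lgr Lrot46 (Lpr_gf (f840134 IH) (Lpe (f840132 IH) (Lpr_at (K63.f814400 IH) (Lpn (LP (LK LD1_c23 LD2_c54 LD3_c26))))))
theorem f840136 : Led Lsl_gt (LP (LK LD1_c22 LD2_c16 LD3_c16)) = (LP (LK LD1_c23 LD2_c54 LD3_c26)) :=
  Leop (Lpe (f840135 IH) (Lpn (LP (LK LD1_c22 LD2_c16 LD3_c16))))
theorem seed_1960 : LEOK LG_g (LK LD1_c22 LD2_c16 LD3_c16) :=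
  Leoe_g (LK LD1_c22 LD2_c16 LD3_c16) (f840136 IH)
def v27544 : LQ := Led Lsl_gt K48.v7615
theorem f840230 : Led Lsl_gt K48.v7615 = v27544 :=
  Lrfl
theorem f667288 : Led Lsl_et (LP (LK LD1_c13 LD2_c13 LD3_c26)) = K48.v7615 :=
  Lgr Lrot87 (Lpr_ef (K48.f667286 IH) (Lpn K48.v7615))
theorem f529528 : Led Lsl_af (LP (LK LD1_c22 LD2_c27 LD3_c50)) = (LP (LK LD1_c22 LD2_c14 LD3_c24)) :=
  Lgr Lrot45 (Lpe (K46.f516228 IH) (Lpr_at (K46.f516194 IH) (Lpr_ft (K48.f529523 IH) (Lpn (LP (LK LD1_c22 LD2_c14 LD3_c24))))))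
theorem f655812 : Led Lsl_gf (LP (LK LD1_c22 LD2_c27 LD3_c50)) = (LP (LK LD1_c14 LD2_c12 LD3_c58)) :=
  Lgr Lrot76 (Lpr_af (f529528 IH) (Lpe (K48.f529523 IH) (Lpr_gt (K46.f655810 IH) (Lpn (LP (LK LD1_c14 LD2_c12 LD3_c58))))))
theorem f655522 : Led Lsl_et (LP (LK LD1_c7 LD2_c32 LD3_c16)) = (LP (LK LD1_c14 LD2_c12 LD3_c59)) :=
  Lre_e IH (LK LD1_c7 LD2_c32 LD3_c16) (LK LD1_c14 LD2_c12 LD3_c59) Lrfl Lrfl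
theorem f522827 : Led Lsl_gt (LP (LK LD1_c14 LD2_c44 LD3_c4)) = (LP (LK LD1_c13 LD2_c7 LD3_c43)) :=
  Lgr Lrot46 (Lpr_gf (K64.f522825 IH) (Lpe (K60.f493046 IH) (Lpr_at (K60.f492581 IH) (Lpn (LP (LK LD1_c13 LD2_c7 LD3_c43))))))
theorem f655816 : Led Lsl_gf (LP (LK LD1_c14 LD2_c27 LD3_c40)) = (LP (LK LD1_c14 LD2_c12 LD3_c59)) :=
  Lgr Lrot141 (Lpr_ef (K60.f461602 IH) (Lpr_dt (K60.f517033 IH) (Lpr_gt (f522827 IH) (Lpe (K63.f98788 IH) (Lpe (K34.f98752 IH) (Lpr_gt (K34.f16716 IH) (Lpr_dt (K34.f16717 IH) (Lpr_gt (K46.f655810 IH) (Lpe (K46.f103807 IH) (Lpr_et (f655522 IH) (Lpn (LP (LK LD1_c14 LD2_c12 LD3_c59)))))))))))))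
theorem f461610 : Led Lsl_bt (LP (LK LD1_c7 LD2_c40 LD3_c15)) = (LP (LK LD1_c14 LD2_c27 LD3_c40)) :=
  Lre_b IH (LK LD1_c7 LD2_c40 LD3_c15) (LK LD1_c14 LD2_c27 LD3_c40) Lrfl Lrfl
theorem f461612 : Led Lsl_et (LP (LK LD1_c14 LD2_c27 LD3_c40)) = (LP (LK LD1_c13 LD2_c23 LD3_c4)) :=
  Lgr Lrot74 (Lpe (f461610 IH) (Lpr_ef (K48.f461607 IH) (Lpe (K60.f461611 IH) (Lpn (LP (LK LD1_c13 LD2_c23 LD3_c4))))))
theorem f529557 : Led Lsl_af (LP (LK LD1_c14 LD2_c27 LD3_c40)) = (LP (LK LD1_c22 LD2_c14 LD3_c27)) :=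
  Lgr Lrot50 (Lpr_et (f461612 IH) (Lpr_at (K60.f518367 IH) (Lpr_et (K60.f529555 IH) (Lpn (LP (LK LD1_c22 LD2_c14 LD3_c27))))))
theorem f655818 : Led Lsl_gt (LP (LK LD1_c13 LD2_c6 LD3_c48)) = (LP (LK LD1_c14 LD2_c12 LD3_c59)) :=
  Lgr Lrot5 (Lpr_ft (K60.f529567 IH) (Lpe (f529557 IH) (Lpr_gf (f655816 IH) (Lpn (LP (LK LD1_c14 LD2_c12 LD3_c59))))))
theorem f518153 : Led Lsl_et (LP (LK LD1_c6 LD2_c54 LD3_c2)) = (LP (LK LD1_c13 LD2_c6 LD3_c48)) :=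
  Lre_e IH (LK LD1_c6 LD2_c54 LD3_c2) (LK LD1_c13 LD2_c6 LD3_c48) Lrfl Lrfl
def v22244 : LQ := Led Lsl_gt (LP (LK LD1_c7 LD2_c33 LD3_c16))
theorem f805004 : Led Lsl_gt (LP (LK LD1_c7 LD2_c33 LD3_c16)) = v22244 :=
  Lrfl
theorem f518037 : Led Lsl_ft (LP (LK LD1_c7 LD2_c33 LD3_c16)) = (LP (LK LD1_c13 LD2_c18 LD3_c38)) :=
  Lgr Lrot48 (Lpr_ff (K47.f518031 IH) (Lpn (LP (LK LD1_c13 LD2_c18 LD3_c38))))
theorem f805005 : Led Lsl_gf (LP (LK LD1_c13 LD2_c6 LD3_c47)) = v22244 :=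
  Lgr Lrot76 (Lpe (K47.f518203 IH) (Lpe (f518037 IH) (Lpr_gt (f805004 IH) (Lpn v22244))))
theorem f840233 : Led Lsl_df v22244 = v27544 :=
  Lgr Lrot135 (Lpe (f805005 IH) (Lpe (K62.f96326 IH) (Lpr_et (f518153 IH) (Lpr_gt (f655818 IH) (Lpe (f655522 IH) (Lpr_dt (K46.f103807 IH) (Lpe (f655812 IH) (Lpe (K46.f492559 IH) (Lpr_et (f667288 IH) (Lpr_gt (f840230 IH) (Lpn v27544)))))))))))
theorem f486116 : Led Lsl_dt (LP (LK LD1_c3 LD2_c46 LD3_c8)) = (LP (LK LD1_c7 LD2_c33 LD3_c16)) :=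
  Lre_d IH (LK LD1_c3 LD2_c46 LD3_c8) (LK LD1_c7 LD2_c33 LD3_c16) Lrfl Lrfl
theorem f665268 : Led Lsl_ft (LP (LK LD1_c13 LD2_c18 LD3_c1)) = (LP (LK LD1_c7 LD2_c34 LD3_c41)) :=
  Lgr Lrot101 (Lpe (K62.f665127 IH) (Lpr_ff (K62.f665266 IH) (Lpe (K62.f665025 IH) (Lpn (LP (LK LD1_c7 LD2_c34 LD3_c41))))))
theorem f666076 : Led Lsl_gt (LP (LK LD1_c13 LD2_c3 LD3_c6)) = (LP (LK LD1_c14 LD2_c17 LD3_c23)) :=
  Lgr Lrot46 (Lpr_gf (K65.f666074 IH) (Lpr_ft (f665268 IH) (Lpr_at (K62.f665025 IH) (Lpn (LP (LK LD1_c14 LD2_c17 LD3_c23))))))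
theorem f535273 : Led Lsl_ft (LP (LK LD1_c23 LD2_c47 LD3_c57)) = (LP (LK LD1_c30 LD2_c34 LD3_c47)) :=
  Lgr Lrot48 (Lpr_ff (K49.f535269 IH) (Lpn (LP (LK LD1_c30 LD2_c34 LD3_c47))))
theorem f103680 : Led Lsl_ct (LP (LK LD1_c14 LD2_c12 LD3_c46)) = (LP (LK LD1_c23 LD2_c47 LD3_c57)) :=
  Lre_c IH (LK LD1_c14 LD2_c12 LD3_c46) (LK LD1_c23 LD2_c47 LD3_c57) Lrfl Lrfl
theorem f535281 : Led Lsl_ff (LP (LK LD1_c14 LD2_c12 LD3_c46)) = (LP (LK LD1_c22 LD2_c33 LD3_c43)) :=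
  Lgr Lrot23 (Lpr_ct (f103680 IH) (Lpr_ft (f535273 IH) (Lpr_ct (K49.f520785 IH) (Lpn (LP (LK LD1_c22 LD2_c33 LD3_c43))))))
theorem f535293 : Led Lsl_at (LP (LK LD1_c13 LD2_c49 LD3_c47)) = (LP (LK LD1_c22 LD2_c33 LD3_c43)) :=
  Lgr Lrot66 (Lpr_ff (K47.f484045 IH) (Lpr_af (K4.f103689 IH) (Lpr_ff (f535281 IH) (Lpn (LP (LK LD1_c22 LD2_c33 LD3_c43))))))
theorem f666083 : Led Lsl_gf (LP (LK LD1_c22 LD2_c33 LD3_c43)) = (LP (LK LD1_c14 LD2_c17 LD3_c23)) :=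
  Lgr Lrot76 (Lpe (f535293 IH) (Lpr_ff (K47.f484045 IH) (Lpr_gt (f666076 IH) (Lpn (LP (LK LD1_c14 LD2_c17 LD3_c23))))))
theorem f465465 : Led Lsl_dt (LP (LK LD1_c3 LD2_c27 LD3_c47)) = (LP (LK LD1_c6 LD2_c57 LD3_c48)) :=
  Lre_d IH (LK LD1_c3 LD2_c27 LD3_c47) (LK LD1_c6 LD2_c57 LD3_c48) Lrfl Lrfl
theorem f493141 : Led Lsl_et (LP (LK LD1_c3 LD2_c27 LD3_c47)) = (LP (LK LD1_c6 LD2_c57 LD3_c49)) :=
  Lre_e IH (LK LD1_c3 LD2_c27 LD3_c47) (LK LD1_c6 LD2_c57 LD3_c49) Lrfl Lrfl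
theorem f491721 : Led Lsl_gt (LP (LK LD1_c6 LD2_c57 LD3_c49)) = (LP (LK LD1_c13 LD2_c13 LD3_c17)) :=
  Lre_g IH (LK LD1_c6 LD2_c57 LD3_c49) (LK LD1_c13 LD2_c13 LD3_c17) Lrfl Lrfl
theorem f666088 : Led Lsl_dt (LP (LK LD1_c13 LD2_c13 LD3_c17)) = (LP (LK LD1_c14 LD2_c17 LD3_c23)) :=
  Lgr Lrot171 (Lpe (f491721 IH) (Lpe (f493141 IH) (Lpr_dt (f465465 IH) (Lpe (K48.f462757 IH) (Lpe (K48.f518333 IH) (Lpr_et (K48.f486102 IH) (Lpe (K48.f483344 IH) (Lpr_ef (K48.f535302 IH) (Lpr_dt (K48.f520784 IH) (Lpr_gf (f666083 IH) (Lpn (LP (LK LD1_c14 LD2_c17 LD3_c23)))))))))))))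
theorem f814878 : Led Lsl_ff (LP (LK LD1_c14 LD2_c42 LD3_c46)) = K63.v23116 :=
  Lgr Lrot30 (Lpr_at (K33.f477382 IH) (Lpr_ft (K40.f520586 IH) (Lpr_at (K63.f814873 IH) (Lpn K63.v23116))))
theorem f666090 : Led Lsl_df (LP (LK LD1_c13 LD2_c13 LD3_c17)) = (LP (LK LD1_c14 LD2_c17 LD3_c23)) :=
  Lgr Lrot38 (Lpr_dt (f666088 IH) (Lpn (LP (LK LD1_c14 LD2_c17 LD3_c23))))
theorem f808744 : Led Lsl_ft (LP (LK LD1_c13 LD2_c13 LD3_c17)) = K63.v22617 :=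
  Lgr Lrot54 (Lpr_df (f666090 IH) (Lpe (K62.f665260 IH) (Lpr_df (K63.f808741 IH) (Lpn K63.v22617))))
theorem f808745 : Led Lsl_ff (LP (LK LD1_c13 LD2_c13 LD3_c17)) = K63.v22617 :=
  Lgr Lrot3 (Lpr_ft (f808744 IH) (Lpn K63.v22617))
theorem f814881 : Led Lsl_et (LP (LK LD1_c13 LD2_c13 LD3_c17)) = K63.v23116 :=
  Lgr Lrot69 (Lpr_ff (f808745 IH) (Lpe (K63.f808736 IH) (Lpe (K33.f487946 IH) (Lpr_ef (K33.f520073 IH) (Lpr_ff (f814878 IH) (Lpn K63.v23116))))))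
def v23121 : LQ := Led Lsl_gt (LP (LK LD1_c7 LD2_c47 LD3_c48))
theorem f814956 : Led Lsl_gt (LP (LK LD1_c7 LD2_c47 LD3_c48)) = v23121 :=
  Lrfl
theorem f814958 : Led Lsl_gf K63.v23116 = v23121 :=
  Lgr Lrot76 (Lpe (K63.f814873 IH) (Lpe (K40.f520586 IH) (Lpr_gt (f814956 IH) (Lpn v23121))))
theorem f840236 : Led Lsl_ef v23121 = v27544 :=
  Lgr Lrot114 (Lpe (f814958 IH) (Lpe (f814881 IH) (Lpr_dt (f666088 IH) (Lpe (f666083 IH) (Lpe (K48.f520784 IH) (Lpe (K48.f535302 IH) (Lpr_gt (K48.f483344 IH) (Lpr_dt (f486116 IH) (Lpr_gt (f805004 IH) (Lpr_df (f840233 IH) (Lpn v27544)))))))))))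
theorem f840239 : Led Lsl_gf (LP (LK LD1_c14 LD2_c18 LD3_c22)) = (LP (LK LD1_c23 LD2_c48 LD3_c11)) :=
  Lgr Lrot134 (Lpe (K33.f477384 IH) (Lpe (K33.f477334 IH) (Lpr_gt (f814956 IH) (Lpr_ef (f840236 IH) (Lpe (f840233 IH) (Lpe (f805005 IH) (Lpe (K62.f96326 IH) (Lpr_et (f518153 IH) (Lpr_gt (f655818 IH) (Lpr_dt (K63.f103806 IH) (Lpn (LP (LK LD1_c23 LD2_c48 LD3_c11)))))))))))))
theorem f840240 : Led Lsl_gt (LP (LK LD1_c23 LD2_c48 LD3_c11)) = (LP (LK LD1_c14 LD2_c18 LD3_c22)) :=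
  Leop (Lpr_gf (f840239 IH) (Lpn (LP (LK LD1_c23 LD2_c48 LD3_c11))))
theorem seed_1961 : LEOK LG_g (LK LD1_c23 LD2_c48 LD3_c11) :=
  Leoe_g (LK LD1_c23 LD2_c48 LD3_c11) (f840240 IH)
def v7678 : LQ := Led Lsl_gt (LP (LK LD1_c3 LD2_c54 LD3_c45))
def v27643 : LQ := Led Lsl_bt v7678
theorem f840637 : Led Lsl_bt v7678 = v27643 :=
  Lrfl
theorem f667686 : Led Lsl_gt (LP (LK LD1_c3 LD2_c54 LD3_c45)) = v7678 :=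
  Lrfl
def v6770 : LQ := Led Lsl_et (LP (LK LD1_c3 LD2_c29 LD3_c7))
theorem f658310 : Led Lsl_et (LP (LK LD1_c3 LD2_c29 LD3_c7)) = v6770 :=
  Lrfl
theorem f658312 : Led Lsl_ef (LP (LK LD1_c3 LD2_c29 LD3_c7)) = v6770 :=
  Lgr Lrot88 (Lpr_et (f658310 IH) (Lpn v6770))
theorem f667688 : Led Lsl_dt v6770 = v7678 :=
  Lgr Lrot56 (Lpe (f658312 IH) (Lpr_gt (K28.f18766 IH) (Lpe (K3.f63713 IH) (Lpr_dt (K3.f62839 IH) (Lpr_gt (K3.f93466 IH) (Lpe (K3.f15083 IH) (Lpr_et (K4.f15085 IH) (Lpe (K33.f482303 IH) (Lpr_dt (K29.f456655 IH) (Lpr_gt (f667686 IH) (Lpn v7678)))))))))))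
theorem f511987 : Led Lsl_af (LP (LK LD1_c1 LD2_c41 LD3_c51)) = K46.v2306 :=
  Lgr Lrot45 (Lpr_ft (K46.f511984 IH) (Lpe (K46.f511981 IH) (Lpr_ft (K46.f511986 IH) (Lpn K46.v2306))))
theorem f658313 : Led Lsl_at (LP (LK LD1_c3 LD2_c30 LD3_c26)) = v6770 :=
  Lgr Lrot80 (Lpe (K48.f461351 IH) (Lpr_af (f511987 IH) (Lpq (K46.f654600 IH) (Lpr_ef (f658312 IH) (Lpn v6770)))))
theorem f667689 : Led Lsl_af (LP (LK LD1_c7 LD2_c2 LD3_c48)) = v7678 :=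
  Lgr Lrot117 (Lpr_dt (K61.f461366 IH) (Lpr_at (f658313 IH) (Lpr_dt (f667688 IH) (Lpn v7678))))
theorem f667693 : Led Lsl_ft (LP (LK LD1_c7 LD2_c39 LD3_c1)) = v7678 :=
  Lgr Lrot2 (Lpr_gt (K61.f459792 IH) (Lpr_gt (K48.f482014 IH) (Lpr_af (f667689 IH) (Lpn v7678))))
theorem f459793 : Led Lsl_bt (LP (LK LD1_c14 LD2_c25 LD3_c14)) = (LP (LK LD1_c7 LD2_c39 LD3_c1)) :=
  Lre_b IH (LK LD1_c14 LD2_c25 LD3_c14) (LK LD1_c7 LD2_c39 LD3_c1) Lrfl Lrfl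
theorem f840640 : Led Lsl_ff (LP (LK LD1_c14 LD2_c25 LD3_c14)) = v27643 :=
  Lgr Lrot25 (Lpr_bt (f459793 IH) (Lpr_ft (f667693 IH) (Lpr_bt (f840637 IH) (Lpn v27643))))
theorem f840641 : Led Lsl_ft (LP (LK LD1_c14 LD2_c25 LD3_c14)) = v27643 :=
  Lgr Lrot48 (Lpr_ff (f840640 IH) (Lpn v27643))
theorem f142590 : Led Lsl_dt (LP (LK LD1_c7 LD2_c41 LD3_c18)) = (LP (LK LD1_c3 LD2_c50 LD3_c7)) :=
  Lre_d IH (LK LD1_c7 LD2_c41 LD3_c18) (LK LD1_c3 LD2_c50 LD3_c7) Lrfl Lrfl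
theorem f117159 : Led Lsl_dt (LP (LK LD1_c7 LD2_c40 LD3_c60)) = (LP (LK LD1_c14 LD2_c28 LD3_c61)) :=
  Lre_d IH (LK LD1_c7 LD2_c40 LD3_c60) (LK LD1_c14 LD2_c28 LD3_c61) Lrfl Lrfl
theorem f809745 : Led Lsl_af (LP (LK LD1_c7 LD2_c41 LD3_c18)) = (LP (LK LD1_c14 LD2_c28 LD3_c61)) :=
  Lgr Lrot117 (Lpr_dt (f142590 IH) (Lpr_at (K63.f666312 IH) (Lpqs (K63.f809070 IH) (Lpr_dt (f117159 IH) (Lpn (LP (LK LD1_c14 LD2_c28 LD3_c61)))))))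
theorem f142679 : Led Lsl_dt (LP (LK LD1_c7 LD2_c40 LD3_c61)) = (LP (LK LD1_c14 LD2_c29 LD3_c1)) :=
  Lre_d IH (LK LD1_c7 LD2_c40 LD3_c61) (LK LD1_c14 LD2_c29 LD3_c1) Lrfl Lrfl
theorem f809735 : Led Lsl_ff (LP (LK LD1_c7 LD2_c41 LD3_c18)) = (LP (LK LD1_c14 LD2_c29 LD3_c1)) :=
  Lgr Lrot19 (Lpr_dt (f142590 IH) (Lpqs (K63.f809073 IH) (Lpe (K63.f809056 IH) (Lpr_dt (f142679 IH) (Lpn (LP (LK LD1_c14 LD2_c29 LD3_c1)))))))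
theorem f809739 : Led Lsl_ft (LP (LK LD1_c7 LD2_c41 LD3_c18)) = (LP (LK LD1_c14 LD2_c29 LD3_c1)) :=
  Lgr Lrot48 (Lpr_ff (f809735 IH) (Lpn (LP (LK LD1_c14 LD2_c29 LD3_c1))))
theorem f809441 : Led Lsl_ff (LP (LK LD1_c22 LD2_c13 LD3_c35)) = (LP (LK LD1_c22 LD2_c40 LD3_c7)) :=
  Lgr Lrot3 (Lpr_ft (K64.f809433 IH) (Lpn (LP (LK LD1_c22 LD2_c40 LD3_c7))))
theorem f809431 : Led Lsl_at (LP (LK LD1_c22 LD2_c13 LD3_c34)) = (LP (LK LD1_c22 LD2_c40 LD3_c7)) :=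
  Lgr Lrot100 (Lpr_af (K64.f809429 IH) (Lpn (LP (LK LD1_c22 LD2_c40 LD3_c7))))
theorem f809419 : Led Lsl_ff (LP (LK LD1_c22 LD2_c13 LD3_c34)) = (LP (LK LD1_c22 LD2_c40 LD3_c6)) :=
  Lgr Lrot19 (Lpe (K64.f804471 IH) (Lpr_ft (K64.f809417 IH) (Lpe (K64.f655693 IH) (Lpn (LP (LK LD1_c22 LD2_c40 LD3_c6))))))
theorem f809443 : Led Lsl_at (LP (LK LD1_c22 LD2_c13 LD3_c35)) = (LP (LK LD1_c22 LD2_c40 LD3_c6)) :=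
  Lgr Lrot66 (Lpr_ff (f809441 IH) (Lpe (f809431 IH) (Lpr_ff (f809419 IH) (Lpn (LP (LK LD1_c22 LD2_c40 LD3_c6))))))
theorem f802868 : Led Lsl_dt (LP (LK LD1_c22 LD2_c13 LD3_c35)) = (LP (LK LD1_c13 LD2_c10 LD3_c35)) :=
  Lgr Lrot42 (Lpr_df (K64.f802864 IH) (Lpn (LP (LK LD1_c13 LD2_c10 LD3_c35))))
theorem f486291 : Led Lsl_bf (LP (LK LD1_c14 LD2_c29 LD3_c2)) = (LP (LK LD1_c13 LD2_c10 LD3_c35)) :=
  Lgr Lrot24 (Lpr_bt (K64.f486289 IH) (Lpn (LP (LK LD1_c13 LD2_c10 LD3_c35))))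
theorem f443419 : Led Lsl_gt (LP (LK LD1_c13 LD2_c22 LD3_c17)) = (LP (LK LD1_c22 LD2_c39 LD3_c25)) :=
  Lre_g IH (LK LD1_c13 LD2_c22 LD3_c17) (LK LD1_c22 LD2_c39 LD3_c25) Lrfl Lrfl
theorem f122289 : Led Lsl_et (LP (LK LD1_c14 LD2_c29 LD3_c2)) = (LP (LK LD1_c7 LD2_c40 LD3_c61)) :=
  Lre_e IH (LK LD1_c14 LD2_c29 LD3_c2) (LK LD1_c7 LD2_c40 LD3_c61) Lrfl Lrfl
theorem f533141 : Led Lsl_df (LP (LK LD1_c22 LD2_c39 LD3_c25)) = (LP (LK LD1_c14 LD2_c29 LD3_c2)) :=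
  Lgr Lrot132 (Lpe (f443419 IH) (Lpe (K61.f443416 IH) (Lpr_gf (K34.f533135 IH) (Lpe (K7.f111134 IH) (Lpe (K4.f111233 IH) (Lpe (K7.f122287 IH) (Lpe (K7.f117134 IH) (Lpr_et (K29.f117154 IH) (Lpe (K63.f117315 IH) (Lpe (f122289 IH) (Lpn (LP (LK LD1_c14 LD2_c29 LD3_c2)))))))))))))
theorem f802870 : Led Lsl_bf (LP (LK LD1_c22 LD2_c13 LD3_c35)) = (LP (LK LD1_c22 LD2_c39 LD3_c25)) :=
  Lgr Lrot93 (Lpr_dt (f802868 IH) (Lpe (f486291 IH) (Lpe (f533141 IH) (Lpn (LP (LK LD1_c22 LD2_c39 LD3_c25))))))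
theorem f809413 : Led Lsl_af (LP (LK LD1_c24 LD2_c10 LD3_c41)) = (LP (LK LD1_c30 LD2_c38 LD3_c40)) :=
  Lgr Lrot117 (Lpr_dt (K46.f533999 IH) (Lpr_at (K64.f809407 IH) (Lpe (K64.f655700 IH) (Lpn (LP (LK LD1_c30 LD2_c38 LD3_c40))))))
theorem f809449 : Led Lsl_af (LP (LK LD1_c22 LD2_c39 LD3_c25)) = (LP (LK LD1_c14 LD2_c29 LD3_c40)) :=
  Lgr Lrot36 (Lpe (f802870 IH) (Lpr_at (f809443 IH) (Lpr_bt (K64.f655695 IH) (Lpe (f809413 IH) (Lpr_bt (K61.f441242 IH) (Lpn (LP (LK LD1_c14 LD2_c29 LD3_c40))))))))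
theorem f533149 : Led Lsl_et (LP (LK LD1_c22 LD2_c39 LD3_c25)) = (LP (LK LD1_c30 LD2_c37 LD3_c56)) :=
  Lre_e IH (LK LD1_c22 LD2_c39 LD3_c25) (LK LD1_c30 LD2_c37 LD3_c56) Lrfl Lrfl
theorem f441243 : Led Lsl_et (LP (LK LD1_c24 LD2_c10 LD3_c49)) = (LP (LK LD1_c14 LD2_c29 LD3_c40)) :=
  Lre_e IH (LK LD1_c24 LD2_c10 LD3_c49) (LK LD1_c14 LD2_c29 LD3_c40) Lrfl Lrfl
theorem f809457 : Led Lsl_at (LP (LK LD1_c30 LD2_c37 LD3_c56)) = (LP (LK LD1_c24 LD2_c10 LD3_c49)) :=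
  Lgr Lrot80 (Lpe (f533149 IH) (Lpr_af (f809449 IH) (Lpe (f441243 IH) (Lpn (LP (LK LD1_c24 LD2_c10 LD3_c49))))))
theorem f142678 : Led Lsl_dt (LP (LK LD1_c14 LD2_c29 LD3_c1)) = (LP (LK LD1_c7 LD2_c40 LD3_c61)) :=
  Lre_d IH (LK LD1_c14 LD2_c29 LD3_c1) (LK LD1_c7 LD2_c40 LD3_c61) Lrfl Lrfl
theorem f533150 : Led Lsl_et (LP (LK LD1_c24 LD2_c10 LD3_c12)) = (LP (LK LD1_c14 LD2_c29 LD3_c1)) :=
  Lre_e IH (LK LD1_c24 LD2_c10 LD3_c12) (LK LD1_c14 LD2_c29 LD3_c1) Lrfl Lrfl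
theorem f533151 : Led Lsl_dt (LP (LK LD1_c30 LD2_c37 LD3_c56)) = (LP (LK LD1_c24 LD2_c10 LD3_c12)) :=
  Lgr Lrot77 (Lpe (f533149 IH) (Lpr_df (f533141 IH) (Lpe (K64.f486288 IH) (Lpe (f142678 IH) (Lpe (f533150 IH) (Lpn (LP (LK LD1_c24 LD2_c10 LD3_c12))))))))
theorem f533154 : Led Lsl_df (LP (LK LD1_c30 LD2_c37 LD3_c56)) = (LP (LK LD1_c24 LD2_c10 LD3_c12)) :=
  Lgr Lrot38 (Lpr_dt (f533151 IH) (Lpn (LP (LK LD1_c24 LD2_c10 LD3_c12))))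
theorem f441244 : Led Lsl_dt (LP (LK LD1_c24 LD2_c10 LD3_c49)) = (LP (LK LD1_c14 LD2_c29 LD3_c39)) :=
  Lre_d IH (LK LD1_c24 LD2_c10 LD3_c49) (LK LD1_c14 LD2_c29 LD3_c39) Lrfl Lrfl
theorem f809481 : Led Lsl_af (LP (LK LD1_c24 LD2_c10 LD3_c12)) = (LP (LK LD1_c14 LD2_c29 LD3_c39)) :=
  Lgr Lrot117 (Lpe (f533154 IH) (Lpr_at (f809457 IH) (Lpr_dt (f441244 IH) (Lpn (LP (LK LD1_c14 LD2_c29 LD3_c39))))))
theorem f809489 : Led Lsl_et (LP (LK LD1_c7 LD2_c41 LD3_c22)) = (LP (LK LD1_c14 LD2_c29 LD3_c39)) :=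
  Lre_e IH (LK LD1_c7 LD2_c41 LD3_c22) (LK LD1_c14 LD2_c29 LD3_c39) Lrfl Lrfl
theorem f809490 : Led Lsl_at (LP (LK LD1_c14 LD2_c29 LD3_c1)) = (LP (LK LD1_c7 LD2_c41 LD3_c22)) :=
  Lgr Lrot80 (Lpe (f533150 IH) (Lpr_af (f809481 IH) (Lpe (f809489 IH) (Lpn (LP (LK LD1_c7 LD2_c41 LD3_c22))))))
theorem f809753 : Led Lsl_ft (LP (LK LD1_c7 LD2_c41 LD3_c22)) = (LP (LK LD1_c14 LD2_c28 LD3_c61)) :=
  Lgr Lrot101 (Lpe (f809490 IH) (Lpe (f809739 IH) (Lpr_af (f809745 IH) (Lpn (LP (LK LD1_c14 LD2_c28 LD3_c61))))))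
theorem f467725 : Led Lsl_ff (LP (LK LD1_c3 LD2_c54 LD3_c45)) = (LP (LK LD1_c3 LD2_c48 LD3_c60)) :=
  Lgr Lrot19 (Lpr_dt (K29.f145394 IH) (Lpr_ft (K29.f467722 IH) (Lpr_dt (K29.f459687 IH) (Lpn (LP (LK LD1_c3 LD2_c48 LD3_c60))))))
theorem f482075 : Led Lsl_at (LP (LK LD1_c3 LD2_c54 LD3_c45)) = (LP (LK LD1_c3 LD2_c48 LD3_c57)) :=
  Lgr Lrot66 (Lpr_ff (f467725 IH) (Lpe (K48.f467743 IH) (Lpr_ff (K33.f482073 IH) (Lpn (LP (LK LD1_c3 LD2_c48 LD3_c57))))))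
theorem f487069 : Led Lsl_gt (LP (LK LD1_c3 LD2_c48 LD3_c60)) = (LP (LK LD1_c7 LD2_c39 LD3_c1)) :=
  Lgr Lrot5 (Lpe (f467725 IH) (Lpr_at (f482075 IH) (Lpe (K61.f459792 IH) (Lpn (LP (LK LD1_c7 LD2_c39 LD3_c1))))))
theorem f482004 : Led Lsl_ct (LP (LK LD1_c7 LD2_c39 LD3_c1)) = (LP (LK LD1_c14 LD2_c25 LD3_c15)) :=
  Lre_c IH (LK LD1_c7 LD2_c39 LD3_c1) (LK LD1_c14 LD2_c25 LD3_c15) Lrfl Lrfl
theorem f487071 : Led Lsl_gf (LP (LK LD1_c14 LD2_c17 LD3_c59)) = (LP (LK LD1_c14 LD2_c25 LD3_c15)) :=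
  Lgr Lrot104 (Lpr_ct (K48.f89160 IH) (Lpe (K33.f88561 IH) (Lpr_cf (K33.f483331 IH) (Lpe (K33.f84944 IH) (Lpe (K33.f84956 IH) (Lpr_gf (K37.f459821 IH) (Lpq (K37.f482298 IH) (Lpe (K29.f459689 IH) (Lpr_gt (f487069 IH) (Lpr_ct (f482004 IH) (Lpn (LP (LK LD1_c14 LD2_c25 LD3_c15)))))))))))))
theorem f88562 : Led Lsl_ct (LP (LK LD1_c7 LD2_c35 LD3_c0)) = (LP (LK LD1_c14 LD2_c17 LD3_c59)) :=
  Lre_c IH (LK LD1_c7 LD2_c35 LD3_c0) (LK LD1_c14 LD2_c17 LD3_c59) Lrfl Lrfl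
theorem f466243 : Led Lsl_ct (LP (LK LD1_c22 LD2_c42 LD3_c38)) = (LP (LK LD1_c30 LD2_c40 LD3_c0)) :=
  Lre_c IH (LK LD1_c22 LD2_c42 LD3_c38) (LK LD1_c30 LD2_c40 LD3_c0) Lrfl Lrfl
theorem f485351 : Led Lsl_dt (LP (LK LD1_c7 LD2_c41 LD3_c20)) = (LP (LK LD1_c14 LD2_c29 LD3_c34)) :=
  Lre_d IH (LK LD1_c7 LD2_c41 LD3_c20) (LK LD1_c14 LD2_c29 LD3_c34) Lrfl Lrfl
theorem f485350 : Led Lsl_ct (LP (LK LD1_c24 LD2_c10 LD3_c38)) = (LP (LK LD1_c14 LD2_c29 LD3_c34)) :=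
  Lre_c IH (LK LD1_c24 LD2_c10 LD3_c38) (LK LD1_c14 LD2_c29 LD3_c34) Lrfl Lrfl
theorem f486225 : Led Lsl_gf (LP (LK LD1_c24 LD2_c10 LD3_c38)) = (LP (LK LD1_c30 LD2_c40 LD3_c0)) :=
  Lgr Lrot104 (Lpr_ct (f485350 IH) (Lpe (f485351 IH) (Lpe (K33.f485140 IH) (Lpe (K33.f485345 IH) (Lpe (K33.f480891 IH) (Lpe (K33.f486133 IH) (Lpe (K64.f89171 IH) (Lpr_gt (K34.f486222 IH) (Lpr_ct (f466243 IH) (Lpn (LP (LK LD1_c30 LD2_c40 LD3_c0))))))))))))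
theorem f486227 : Led Lsl_ct (LP (LK LD1_c14 LD2_c29 LD3_c34)) = (LP (LK LD1_c24 LD2_c10 LD3_c38)) :=
  Lre_c IH (LK LD1_c14 LD2_c29 LD3_c34) (LK LD1_c24 LD2_c10 LD3_c38) Lrfl Lrfl
theorem f486228 : Led Lsl_bt (LP (LK LD1_c14 LD2_c29 LD3_c34)) = (LP (LK LD1_c7 LD2_c41 LD3_c22)) :=
  Lre_b IH (LK LD1_c14 LD2_c29 LD3_c34) (LK LD1_c7 LD2_c41 LD3_c22) Lrfl Lrfl
theorem f487076 : Led Lsl_bt (LP (LK LD1_c7 LD2_c39 LD3_c1)) = (LP (LK LD1_c14 LD2_c25 LD3_c14)) :=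
  Lre_b IH (LK LD1_c7 LD2_c39 LD3_c1) (LK LD1_c14 LD2_c25 LD3_c14) Lrfl Lrfl
theorem f487077 : Led Lsl_gt (LP (LK LD1_c7 LD2_c41 LD3_c22)) = (LP (LK LD1_c14 LD2_c25 LD3_c14)) :=
  Lgr Lrot164 (Lpe (f486228 IH) (Lpr_ct (f486227 IH) (Lpr_gf (f486225 IH) (Lpe (f466243 IH) (Lpe (K34.f486222 IH) (Lpe (K33.f89148 IH) (Lpr_ct (f88562 IH) (Lpr_gf (f487071 IH) (Lpe (f482004 IH) (Lpr_bt (f487076 IH) (Lpn (LP (LK LD1_c14 LD2_c25 LD3_c14)))))))))))))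
theorem f809755 : Led Lsl_gf (LP (LK LD1_c7 LD2_c41 LD3_c18)) = (LP (LK LD1_c14 LD2_c25 LD3_c14)) :=
  Lgr Lrot76 (Lpr_af (f809745 IH) (Lpe (f809753 IH) (Lpr_gt (f487077 IH) (Lpn (LP (LK LD1_c14 LD2_c25 LD3_c14))))))
theorem f122323 : Led Lsl_gt (LP (LK LD1_c7 LD2_c41 LD3_c18)) = (LP (LK LD1_c14 LD2_c29 LD3_c30)) :=
  Lre_g IH (LK LD1_c7 LD2_c41 LD3_c18) (LK LD1_c14 LD2_c29 LD3_c30) Lrfl Lrfl
theorem f840642 : Led Lsl_af (LP (LK LD1_c14 LD2_c29 LD3_c30)) = v27643 :=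
  Lgr Lrot31 (Lpe (f122323 IH) (Lpr_gf (f809755 IH) (Lpr_ft (f840641 IH) (Lpn v27643))))
theorem f667690 : Led Lsl_df v6770 = v7678 :=
  Lgr Lrot38 (Lpr_dt (f667688 IH) (Lpn v7678))
theorem f511989 : Led Lsl_ff (LP (LK LD1_c1 LD2_c41 LD3_c50)) = K46.v2306 :=
  Lgr Lrot3 (Lpr_ft (K46.f511986 IH) (Lpn K46.v2306))
theorem f511985 : Led Lsl_ff (LP (LK LD1_c1 LD2_c41 LD3_c51)) = K46.v2305 :=
  Lgr Lrot3 (Lpr_ft (K46.f511984 IH) (Lpn K46.v2305))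
theorem f511990 : Led Lsl_at (LP (LK LD1_c1 LD2_c41 LD3_c51)) = K46.v2306 :=
  Lgr Lrot66 (Lpr_ff (f511985 IH) (Lpe (K46.f511980 IH) (Lpr_ff (f511989 IH) (Lpn K46.v2306))))
theorem f658311 : Led Lsl_af (LP (LK LD1_c3 LD2_c30 LD3_c26)) = v6770 :=
  Lgr Lrot50 (Lpr_et (K48.f64273 IH) (Lpr_at (f511990 IH) (Lpq (K46.f654600 IH) (Lpr_et (f658310 IH) (Lpn v6770)))))
theorem f667691 : Led Lsl_at (LP (LK LD1_c7 LD2_c2 LD3_c48)) = v7678 :=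
  Lgr Lrot51 (Lpe (K48.f64274 IH) (Lpr_af (f658311 IH) (Lpr_df (f667690 IH) (Lpn v7678))))
theorem f482023 : Led Lsl_bt (LP (LK LD1_c13 LD2_c21 LD3_c45)) = (LP (LK LD1_c7 LD2_c2 LD3_c48)) :=
  Lre_b IH (LK LD1_c13 LD2_c21 LD3_c45) (LK LD1_c7 LD2_c2 LD3_c48) Lrfl Lrfl
theorem f667692 : Led Lsl_at (LP (LK LD1_c22 LD2_c38 LD3_c29)) = (LP (LK LD1_c13 LD2_c21 LD3_c45)) :=
  Lre_a IH (LK LD1_c22 LD2_c38 LD3_c29) (LK LD1_c13 LD2_c21 LD3_c45) Lrfl Lrfl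
theorem f840644 : Led Lsl_bt (LP (LK LD1_c14 LD2_c29 LD3_c30)) = (LP (LK LD1_c22 LD2_c38 LD3_c29)) :=
  Lgr Lrot62 (Lpr_af (f840642 IH) (Lpe (f840637 IH) (Lpe (f667691 IH) (Lpe (f482023 IH) (Lpe (f667692 IH) (Lpn (LP (LK LD1_c22 LD2_c38 LD3_c29))))))))
theorem f840645 : Led Lsl_bt (LP (LK LD1_c14 LD2_c29 LD3_c30)) = (LP (LK LD1_c22 LD2_c38 LD3_c29)) :=
  Leop (Lpe (f840644 IH) (Lpn (LP (LK LD1_c14 LD2_c29 LD3_c30))))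
theorem seed_1962 : LEOK LG_b (LK LD1_c14 LD2_c29 LD3_c30) :=
  Leoe_b (LK LD1_c14 LD2_c29 LD3_c30) (f840645 IH)
def v27840 : LQ := Led Lsl_bt K54.v7782
theorem f841579 : Led Lsl_bt K54.v7782 = v27840 :=
  Lrfl
theorem f841584 : Led Lsl_ff (LP (LK LD1_c8 LD2_c35 LD3_c17)) = v27840 :=
  Lgr Lrot25 (Lpr_bt (K49.f421779 IH) (Lpr_ft (K54.f693675 IH) (Lpqs (K54.f738515 IH) (Lpr_bt (f841579 IH) (Lpn v27840)))))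
theorem f841587 : Led Lsl_ft (LP (LK LD1_c8 LD2_c35 LD3_c17)) = v27840 :=
  Lgr Lrot48 (Lpr_ff (f841584 IH) (Lpn v27840))
theorem f693678 : Led Lsl_at (LP (LK LD1_c4 LD2_c18 LD3_c16)) = K54.v12586 :=
  Lgr Lrot66 (Lpr_ff (K54.f693674 IH) (Lpe (K54.f693671 IH) (Lpr_ff (K54.f693677 IH) (Lpn K54.v12586))))
theorem f738534 : Led Lsl_ft (LP (LK LD1_c8 LD2_c35 LD3_c20)) = K53.v12463 :=
  Lgr Lrot48 (Lpr_ff (K54.f738529 IH) (Lpn K53.v12463))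
theorem f738535 : Led Lsl_ff (LP (LK LD1_c16 LD2_c6 LD3_c46)) = (LP (LK LD1_c9 LD2_c39 LD3_c6)) :=
  Lgr Lrot23 (Lpr_ct (K52.f421836 IH) (Lpr_ft (f738534 IH) (Lpr_ct (K53.f718576 IH) (Lpn (LP (LK LD1_c9 LD2_c39 LD3_c6))))))
theorem f397688 : Led Lsl_ff (LP (LK LD1_c8 LD2_c42 LD3_c2)) = (LP (LK LD1_c4 LD2_c53 LD3_c42)) :=
  Lgr Lrot23 (Lpe (K30.f216717 IH) (Lpr_ft (K30.f397685 IH) (Lpr_ct (K38.f2839 IH) (Lpn (LP (LK LD1_c4 LD2_c53 LD3_c42))))))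
theorem f397634 : Led Lsl_at (LP (LK LD1_c8 LD2_c42 LD3_c2)) = (LP (LK LD1_c4 LD2_c53 LD3_c38)) :=
  Lgr Lrot100 (Lpr_af (K30.f397611 IH) (Lpn (LP (LK LD1_c4 LD2_c53 LD3_c38))))
theorem f2291 : Led Lsl_gt (LP (LK LD1_c9 LD2_c39 LD3_c7)) = (LP (LK LD1_c4 LD2_c53 LD3_c38)) :=
  Lre_g IH (LK LD1_c9 LD2_c39 LD3_c7) (LK LD1_c4 LD2_c53 LD3_c38) Lrfl Lrfl
theorem f398359 : Led Lsl_gf (LP (LK LD1_c9 LD2_c39 LD3_c7)) = (LP (LK LD1_c4 LD2_c53 LD3_c42)) :=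
  Lgr Lrot47 (Lpr_gt (f2291 IH) (Lpe (f397634 IH) (Lpr_ff (f397688 IH) (Lpn (LP (LK LD1_c4 LD2_c53 LD3_c42))))))
theorem f738703 : Led Lsl_at (LP (LK LD1_c16 LD2_c6 LD3_c46)) = (LP (LK LD1_c9 LD2_c39 LD3_c7)) :=
  Lgr Lrot26 (Lpr_ff (f738535 IH) (Lpe (K53.f397712 IH) (Lpe (f398359 IH) (Lpn (LP (LK LD1_c9 LD2_c39 LD3_c7))))))
theorem f421834 : Led Lsl_bt (LP (LK LD1_c24 LD2_c45 LD3_c27)) = (LP (LK LD1_c16 LD2_c6 LD3_c46)) :=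
  Lgr Lrot92 (Lpr_ct (K49.f421826 IH) (Lpe (K49.f421823 IH) (Lpe (K30.f326142 IH) (Lpe (K49.f326221 IH) (Lpe (K30.f397450 IH) (Lpe (K20.f250559 IH) (Lpr_gt (K38.f398263 IH) (Lpe (K30.f397063 IH) (Lpe (K38.f397799 IH) (Lpr_gt (K54.f421777 IH) (Lpn (LP (LK LD1_c16 LD2_c6 LD3_c46)))))))))))))
theorem f270613 : Led Lsl_gt (LP (LK LD1_c5 LD2_c44 LD3_c46)) = (LP (LK LD1_c11 LD2_c18 LD3_c13)) :=
  Lre_g IH (LK LD1_c5 LD2_c44 LD3_c46) (LK LD1_c11 LD2_c18 LD3_c13) Lrfl Lrfl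
theorem f386627 : Led Lsl_df (LP (LK LD1_c11 LD2_c6 LD3_c26)) = (LP (LK LD1_c11 LD2_c18 LD3_c13)) :=
  Lgr Lrot153 (Lpr_gt (K39.f386625 IH) (Lpr_dt (K36.f383357 IH) (Lpe (K36.f383361 IH) (Lpe (K36.f289467 IH) (Lpe (K27.f381135 IH) (Lpr_df (K27.f381735 IH) (Lpr_gf (K20.f270608 IH) (Lpe (K20.f270607 IH) (Lpr_gt (f270613 IH) (Lpn (LP (LK LD1_c11 LD2_c18 LD3_c13))))))))))))
theorem f542181 : Led Lsl_dt (LP (LK LD1_c5 LD2_c47 LD3_c11)) = (LP (LK LD1_c3 LD2_c58 LD3_c58)) :=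
  Lgr Lrot42 (Lpr_df (K37.f542151 IH) (Lpn (LP (LK LD1_c3 LD2_c58 LD3_c58))))
theorem f579839 : Led Lsl_dt (LP (LK LD1_c2 LD2_c26 LD3_c28)) = (LP (LK LD1_c4 LD2_c57 LD3_c3)) :=
  Lre_d IH (LK LD1_c2 LD2_c26 LD3_c28) (LK LD1_c4 LD2_c57 LD3_c3) Lrfl Lrfl
theorem f579840 : Led Lsl_ct (LP (LK LD1_c4 LD2_c57 LD3_c3)) = (LP (LK LD1_c9 LD2_c45 LD3_c13)) :=
  Lre_c IH (LK LD1_c4 LD2_c57 LD3_c3) (LK LD1_c9 LD2_c45 LD3_c13) Lrfl Lrfl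
theorem f579838 : Led Lsl_dt (LP (LK LD1_c9 LD2_c45 LD3_c13)) = (LP (LK LD1_c17 LD2_c54 LD3_c52)) :=
  Lre_d IH (LK LD1_c9 LD2_c45 LD3_c13) (LK LD1_c17 LD2_c54 LD3_c52) Lrfl Lrfl
theorem f579926 : Led Lsl_cf (LP (LK LD1_c11 LD2_c18 LD3_c13)) = (LP (LK LD1_c17 LD2_c54 LD3_c52)) :=
  Lgr Lrot161 (Lpe (f386627 IH) (Lpe (K41.f552468 IH) (Lpe (K44.f579916 IH) (Lpr_ff (K44.f579922 IH) (Lpr_dt (f542181 IH) (Lpr_ct (K35.f495249 IH) (Lpq (K44.f579844 IH) (Lpr_dt (f579839 IH) (Lpr_ct (f579840 IH) (Lpr_dt (f579838 IH) (Lpn (LP (LK LD1_c17 LD2_c54 LD3_c52)))))))))))))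
theorem f403677 : Led Lsl_cf (LP (LK LD1_c26 LD2_c3 LD3_c40)) = (LP (LK LD1_c24 LD2_c52 LD3_c53)) :=
  Lgr Lrot1 (Lpr_at (K41.f403657 IH) (Lpr_ct (K41.f403672 IH) (Lpr_at (K41.f390140 IH) (Lpn (LP (LK LD1_c24 LD2_c52 LD3_c53))))))
theorem f403725 : Led Lsl_af (LP (LK LD1_c25 LD2_c43 LD3_c5)) = (LP (LK LD1_c25 LD2_c42 LD3_c24)) :=
  Lgr Lrot0 (Lpr_at (K41.f403723 IH) (Lpn (LP (LK LD1_c25 LD2_c42 LD3_c24))))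
theorem f403741 : Led Lsl_gt (LP (LK LD1_c26 LD2_c3 LD3_c40)) = (LP (LK LD1_c25 LD2_c43 LD3_c5)) :=
  Lgr Lrot46 (Lpr_gf (K41.f403674 IH) (Lpr_ft (K41.f403737 IH) (Lpe (f403725 IH) (Lpn (LP (LK LD1_c25 LD2_c43 LD3_c5))))))
theorem f403765 : Led Lsl_ct (LP (LK LD1_c16 LD2_c5 LD3_c18)) = (LP (LK LD1_c25 LD2_c43 LD3_c5)) :=
  Lgr Lrot40 (Lpr_ff (K41.f403763 IH) (Lpr_cf (K38.f392572 IH) (Lpe (K41.f403714 IH) (Lpn (LP (LK LD1_c25 LD2_c43 LD3_c5))))))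
theorem f384680 : Led Lsl_bt (LP (LK LD1_c16 LD2_c5 LD3_c18)) = (LP (LK LD1_c26 LD2_c2 LD3_c20)) :=
  Lre_b IH (LK LD1_c16 LD2_c5 LD3_c18) (LK LD1_c26 LD2_c2 LD3_c20) Lrfl Lrfl
theorem f237490 : Led Lsl_ct (LP (LK LD1_c16 LD2_c17 LD3_c27)) = (LP (LK LD1_c8 LD2_c41 LD3_c53)) :=
  Lre_c IH (LK LD1_c16 LD2_c17 LD3_c27) (LK LD1_c8 LD2_c41 LD3_c53) Lrfl Lrfl
theorem f404505 : Led Lsl_gt (LP (LK LD1_c26 LD2_c2 LD3_c20)) = (LP (LK LD1_c16 LD2_c17 LD3_c27)) :=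
  Lgr Lrot82 (Lpe (f384680 IH) (Lpr_ct (f403765 IH) (Lpe (f403741 IH) (Lpr_cf (f403677 IH) (Lpe (K49.f403522 IH) (Lpe (K41.f282046 IH) (Lpr_bf (K41.f378628 IH) (Lpr_ct (K17.f282024 IH) (Lpr_gf (K31.f280130 IH) (Lpe (f237490 IH) (Lpn (LP (LK LD1_c16 LD2_c17 LD3_c27)))))))))))))
theorem f579932 : Led Lsl_bf (LP (LK LD1_c16 LD2_c17 LD3_c27)) = (LP (LK LD1_c17 LD2_c54 LD3_c52)) :=
  Lgr Lrot34 (Lpe (f404505 IH) (Lpe (f384680 IH) (Lpr_ct (f403765 IH) (Lpe (f403741 IH) (Lpr_cf (f403677 IH) (Lpe (K31.f140382 IH) (Lpe (K20.f140378 IH) (Lpr_ct (K20.f140404 IH) (Lpe (K39.f140406 IH) (Lpr_cf (f579926 IH) (Lpn (LP (LK LD1_c17 LD2_c54 LD3_c52)))))))))))))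
theorem f383879 : Led Lsl_ft (LP (LK LD1_c9 LD2_c45 LD3_c41)) = (LP (LK LD1_c17 LD2_c54 LD3_c52)) :=
  Lre_f IH (LK LD1_c9 LD2_c45 LD3_c41) (LK LD1_c17 LD2_c54 LD3_c52) Lrfl Lrfl
theorem f383925 : Led Lsl_bt (LP (LK LD1_c17 LD2_c55 LD3_c21)) = (LP (LK LD1_c9 LD2_c45 LD3_c41)) :=
  Lre_b IH (LK LD1_c17 LD2_c55 LD3_c21) (LK LD1_c9 LD2_c45 LD3_c41) Lrfl Lrfl
theorem f579940 : Led Lsl_ft (LP (LK LD1_c16 LD2_c17 LD3_c27)) = (LP (LK LD1_c17 LD2_c55 LD3_c21)) :=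
  Lgr Lrot75 (Lpr_bf (f579932 IH) (Lpe (f383879 IH) (Lpe (f383925 IH) (Lpn (LP (LK LD1_c17 LD2_c55 LD3_c21))))))
theorem f29700 : Led Lsl_bt (LP (LK LD1_c4 LD2_c0 LD3_c20)) = (LP (LK LD1_c8 LD2_c1 LD3_c38)) :=
  Lre_b IH (LK LD1_c4 LD2_c0 LD3_c20) (LK LD1_c8 LD2_c1 LD3_c38) Lrfl Lrfl
theorem f237488 : Led Lsl_ct (LP (LK LD1_c8 LD2_c41 LD3_c53)) = (LP (LK LD1_c16 LD2_c17 LD3_c27)) :=
  Lre_c IH (LK LD1_c8 LD2_c41 LD3_c53) (LK LD1_c16 LD2_c17 LD3_c27) Lrfl Lrfl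
theorem f398077 : Led Lsl_gf (LP (LK LD1_c26 LD2_c2 LD3_c22)) = (LP (LK LD1_c16 LD2_c17 LD3_c27)) :=
  Lgr Lrot129 (Lpr_cf (K38.f398015 IH) (Lpr_bt (K38.f398008 IH) (Lpe (K38.f397995 IH) (Lpe (f29700 IH) (Lpr_ct (K1.f29636 IH) (Lpe (K12.f30683 IH) (Lpr_cf (K13.f237467 IH) (Lpr_bt (K16.f229264 IH) (Lpr_gt (K31.f229265 IH) (Lpr_ct (f237488 IH) (Lpn (LP (LK LD1_c16 LD2_c17 LD3_c27)))))))))))))
theorem f579948 : Led Lsl_af (LP (LK LD1_c16 LD2_c5 LD3_c20)) = (LP (LK LD1_c17 LD2_c55 LD3_c21)) :=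
  Lgr Lrot31 (Lpe (K38.f237566 IH) (Lpr_gf (f398077 IH) (Lpr_ft (f579940 IH) (Lpn (LP (LK LD1_c17 LD2_c55 LD3_c21))))))
theorem f237593 : Led Lsl_et (LP (LK LD1_c16 LD2_c5 LD3_c20)) = (LP (LK LD1_c26 LD2_c2 LD3_c23)) :=
  Lre_e IH (LK LD1_c16 LD2_c5 LD3_c20) (LK LD1_c26 LD2_c2 LD3_c23) Lrfl Lrfl
theorem f383937 : Led Lsl_et (LP (LK LD1_c27 LD2_c40 LD3_c40)) = (LP (LK LD1_c17 LD2_c55 LD3_c21)) :=
  Lre_e IH (LK LD1_c27 LD2_c40 LD3_c40) (LK LD1_c17 LD2_c55 LD3_c21) Lrfl Lrfl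
theorem f579957 : Led Lsl_at (LP (LK LD1_c26 LD2_c2 LD3_c23)) = (LP (LK LD1_c27 LD2_c40 LD3_c40)) :=
  Lgr Lrot80 (Lpe (f237593 IH) (Lpr_af (f579948 IH) (Lpe (f383937 IH) (Lpn (LP (LK LD1_c27 LD2_c40 LD3_c40))))))
theorem f237578 : Led Lsl_et (LP (LK LD1_c26 LD2_c2 LD3_c23)) = (LP (LK LD1_c16 LD2_c5 LD3_c20)) :=
  Lre_e IH (LK LD1_c26 LD2_c2 LD3_c23) (LK LD1_c16 LD2_c5 LD3_c20) Lrfl Lrfl
theorem f237579 : Led Lsl_et (LP (LK LD1_c8 LD2_c41 LD3_c54)) = (LP (LK LD1_c16 LD2_c17 LD3_c31)) :=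
  Lre_e IH (LK LD1_c8 LD2_c41 LD3_c54) (LK LD1_c16 LD2_c17 LD3_c31) Lrfl Lrfl
theorem f237580 : Led Lsl_cf (LP (LK LD1_c26 LD2_c2 LD3_c23)) = (LP (LK LD1_c16 LD2_c17 LD3_c31)) :=
  Lgr Lrot39 (Lpr_et (f237578 IH) (Lpr_ct (K38.f237564 IH) (Lpr_et (f237579 IH) (Lpn (LP (LK LD1_c16 LD2_c17 LD3_c31))))))
theorem f383870 : Led Lsl_ct (LP (LK LD1_c9 LD2_c45 LD3_c41)) = (LP (LK LD1_c5 LD2_c44 LD3_c42)) :=
  Lgr Lrot59 (Lpr_cf (K39.f383863 IH) (Lpn (LP (LK LD1_c5 LD2_c44 LD3_c42))))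
theorem f383837 : Led Lsl_bt (LP (LK LD1_c5 LD2_c44 LD3_c42)) = (LP (LK LD1_c11 LD2_c19 LD3_c31)) :=
  Lre_b IH (LK LD1_c5 LD2_c44 LD3_c42) (LK LD1_c11 LD2_c19 LD3_c31) Lrfl Lrfl
theorem f318933 : Led Lsl_ct (LP (LK LD1_c11 LD2_c19 LD3_c31)) = (LP (LK LD1_c20 LD2_c16 LD3_c17)) :=
  Lre_c IH (LK LD1_c11 LD2_c19 LD3_c31) (LK LD1_c20 LD2_c16 LD3_c17) Lrfl Lrfl
theorem f382306 : Led Lsl_bt (LP (LK LD1_c5 LD2_c43 LD3_c49)) = (LP (LK LD1_c11 LD2_c17 LD3_c37)) :=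
  Lre_b IH (LK LD1_c5 LD2_c43 LD3_c49) (LK LD1_c11 LD2_c17 LD3_c37) Lrfl Lrfl
theorem f318932 : Led Lsl_bt (LP (LK LD1_c11 LD2_c19 LD3_c31)) = (LP (LK LD1_c5 LD2_c44 LD3_c42)) :=
  Lre_b IH (LK LD1_c11 LD2_c19 LD3_c31) (LK LD1_c5 LD2_c44 LD3_c42) Lrfl Lrfl
theorem f383830 : Led Lsl_gt (LP (LK LD1_c27 LD2_c25 LD3_c6)) = (LP (LK LD1_c20 LD2_c16 LD3_c17)) :=
  Lgr Lrot65 (Lpe (K49.f232494 IH) (Lpr_bt (K49.f232225 IH) (Lpe (K52.f382326 IH) (Lpe (f382306 IH) (Lpr_ct (K27.f383810 IH) (Lpe (K39.f318724 IH) (Lpe (K39.f318713 IH) (Lpe (K39.f318931 IH) (Lpe (f318932 IH) (Lpr_ct (f318933 IH) (Lpn (LP (LK LD1_c20 LD2_c16 LD3_c17)))))))))))))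
theorem f383832 : Led Lsl_ct (LP (LK LD1_c20 LD2_c16 LD3_c17)) = (LP (LK LD1_c11 LD2_c19 LD3_c31)) :=
  Lre_c IH (LK LD1_c20 LD2_c16 LD3_c17) (LK LD1_c11 LD2_c19 LD3_c31) Lrfl Lrfl
theorem f383833 : Led Lsl_gf (LP (LK LD1_c8 LD2_c41 LD3_c26)) = (LP (LK LD1_c11 LD2_c19 LD3_c31)) :=
  Lgr Lrot129 (Lpe (K30.f216724 IH) (Lpr_bt (K54.f216723 IH) (Lpe (K13.f216713 IH) (Lpe (K38.f29659 IH) (Lpr_ct (K13.f29815 IH) (Lpr_gt (K49.f29827 IH) (Lpe (K49.f1999 IH) (Lpr_bt (K52.f29839 IH) (Lpr_gt (f383830 IH) (Lpr_ct (f383832 IH) (Lpn (LP (LK LD1_c11 LD2_c19 LD3_c31)))))))))))))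
theorem f236491 : Led Lsl_gt (LP (LK LD1_c7 LD2_c55 LD3_c51)) = (LP (LK LD1_c14 LD2_c57 LD3_c34)) :=
  Lre_g IH (LK LD1_c7 LD2_c55 LD3_c51) (LK LD1_c14 LD2_c57 LD3_c34) Lrfl Lrfl
theorem f383838 : Led Lsl_bf (LP (LK LD1_c14 LD2_c57 LD3_c34)) = (LP (LK LD1_c20 LD2_c16 LD3_c17)) :=
  Lgr Lrot34 (Lpe (f236491 IH) (Lpe (K16.f236490 IH) (Lpr_ct (K13.f236477 IH) (Lpe (K12.f29643 IH) (Lpe (K12.f28941 IH) (Lpr_gf (K13.f216713 IH) (Lpe (K54.f216723 IH) (Lpr_ct (K30.f216724 IH) (Lpr_gf (f383833 IH) (Lpe (f383832 IH) (Lpn (LP (LK LD1_c20 LD2_c16 LD3_c17)))))))))))))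
theorem f383926 : Led Lsl_cf (LP (LK LD1_c17 LD2_c55 LD3_c21)) = (LP (LK LD1_c14 LD2_c57 LD3_c34)) :=
  Lgr Lrot97 (Lpr_bt (f383925 IH) (Lpr_ct (f383870 IH) (Lpr_bt (f383837 IH) (Lpr_ct (f318933 IH) (Lpe (f383838 IH) (Lpn (LP (LK LD1_c14 LD2_c57 LD3_c34))))))))
theorem f383931 : Led Lsl_et (LP (LK LD1_c17 LD2_c55 LD3_c21)) = (LP (LK LD1_c27 LD2_c40 LD3_c40)) :=
  Lre_e IH (LK LD1_c17 LD2_c55 LD3_c21) (LK LD1_c27 LD2_c40 LD3_c40) Lrfl Lrfl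
theorem f383844 : Led Lsl_et (LP (LK LD1_c24 LD2_c45 LD3_c3)) = (LP (LK LD1_c14 LD2_c57 LD3_c34)) :=
  Lre_e IH (LK LD1_c24 LD2_c45 LD3_c3) (LK LD1_c14 LD2_c57 LD3_c34) Lrfl Lrfl
theorem f383932 : Led Lsl_ct (LP (LK LD1_c27 LD2_c40 LD3_c40)) = (LP (LK LD1_c24 LD2_c45 LD3_c3)) :=
  Lgr Lrot15 (Lpe (f383931 IH) (Lpr_cf (f383926 IH) (Lpe (f383844 IH) (Lpn (LP (LK LD1_c24 LD2_c45 LD3_c3))))))
theorem f579961 : Led Lsl_af (LP (LK LD1_c16 LD2_c17 LD3_c31)) = (LP (LK LD1_c24 LD2_c45 LD3_c3)) :=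
  Lgr Lrot68 (Lpe (f237580 IH) (Lpr_at (f579957 IH) (Lpr_ct (f383932 IH) (Lpn (LP (LK LD1_c24 LD2_c45 LD3_c3))))))
theorem f579963 : Led Lsl_at (LP (LK LD1_c16 LD2_c17 LD3_c31)) = (LP (LK LD1_c24 LD2_c45 LD3_c3)) :=
  Lgr Lrot100 (Lpr_af (f579961 IH) (Lpn (LP (LK LD1_c24 LD2_c45 LD3_c3))))
theorem f579965 : Led Lsl_af (LP (LK LD1_c8 LD2_c41 LD3_c54)) = (LP (LK LD1_c14 LD2_c57 LD3_c34)) :=
  Lgr Lrot50 (Lpr_et (f237579 IH) (Lpr_at (f579963 IH) (Lpr_et (f383844 IH) (Lpn (LP (LK LD1_c14 LD2_c57 LD3_c34))))))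
theorem f579969 : Led Lsl_ft (LP (LK LD1_c8 LD2_c41 LD3_c53)) = (LP (LK LD1_c14 LD2_c57 LD3_c34)) :=
  Lgr Lrot2 (Lpe (K31.f280130 IH) (Lpr_gt (K41.f280114 IH) (Lpr_af (f579965 IH) (Lpn (LP (LK LD1_c14 LD2_c57 LD3_c34))))))
theorem f241652 : Led Lsl_ft (LP (LK LD1_c7 LD2_c55 LD3_c51)) = (LP (LK LD1_c4 LD2_c22 LD3_c3)) :=
  Lgr Lrot75 (Lpe (K16.f236490 IH) (Lpr_ff (K13.f241649 IH) (Lpe (K17.f38969 IH) (Lpn (LP (LK LD1_c4 LD2_c22 LD3_c3))))))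
theorem f417993 : Led Lsl_gt (LP (LK LD1_c14 LD2_c57 LD3_c34)) = (LP (LK LD1_c8 LD2_c41 LD3_c55)) :=
  Lgr Lrot46 (Lpe (f236491 IH) (Lpr_ft (f241652 IH) (Lpr_at (K16.f279412 IH) (Lpn (LP (LK LD1_c8 LD2_c41 LD3_c55))))))
theorem f38983 : Led Lsl_bt (LP (LK LD1_c4 LD2_c22 LD3_c10)) = (LP (LK LD1_c2 LD2_c8 LD3_c33)) :=
  Lre_b IH (LK LD1_c4 LD2_c22 LD3_c10) (LK LD1_c2 LD2_c8 LD3_c33) Lrfl Lrfl
theorem f270746 : Led Lsl_gt (LP (LK LD1_c20 LD2_c54 LD3_c38)) = (LP (LK LD1_c11 LD2_c51 LD3_c60)) :=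
  Lre_g IH (LK LD1_c20 LD2_c54 LD3_c38) (LK LD1_c11 LD2_c51 LD3_c60) Lrfl Lrfl
theorem f398094 : Led Lsl_ct (LP (LK LD1_c17 LD2_c43 LD3_c59)) = (LP (LK LD1_c20 LD2_c54 LD3_c38)) :=
  Lgr Lrot91 (Lpe (K38.f398084 IH) (Lpe (K38.f397957 IH) (Lpr_ct (K38.f397965 IH) (Lpr_gf (K38.f398086 IH) (Lpe (K38.f39506 IH) (Lpr_bt (f38983 IH) (Lpe (K13.f238864 IH) (Lpe (K16.f43202 IH) (Lpr_ct (K17.f270738 IH) (Lpe (f270746 IH) (Lpn (LP (LK LD1_c20 LD2_c54 LD3_c38)))))))))))))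
theorem f398099 : Led Lsl_gt (LP (LK LD1_c16 LD2_c17 LD3_c32)) = (LP (LK LD1_c20 LD2_c54 LD3_c38)) :=
  Lgr Lrot65 (Lpe (K17.f280104 IH) (Lpr_bt (K16.f279413 IH) (Lpe (K30.f397260 IH) (Lpe (K27.f229786 IH) (Lpe (K27.f229787 IH) (Lpr_gf (K30.f397262 IH) (Lpr_cf (K16.f260518 IH) (Lpe (K30.f270433 IH) (Lpe (K31.f229444 IH) (Lpr_ct (f398094 IH) (Lpn (LP (LK LD1_c20 LD2_c54 LD3_c38)))))))))))))
theorem f398097 : Led Lsl_cf (LP (LK LD1_c17 LD2_c43 LD3_c59)) = (LP (LK LD1_c20 LD2_c54 LD3_c38)) :=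
  Lgr Lrot11 (Lpr_ct (f398094 IH) (Lpn (LP (LK LD1_c20 LD2_c54 LD3_c38))))
theorem f396936 : Led Lsl_dt (LP (LK LD1_c27 LD2_c30 LD3_c45)) = (LP (LK LD1_c17 LD2_c43 LD3_c59)) :=
  Lre_d IH (LK LD1_c27 LD2_c30 LD3_c45) (LK LD1_c17 LD2_c43 LD3_c59) Lrfl Lrfl
theorem f298172 : Led Lsl_ff (LP (LK LD1_c8 LD2_c42 LD3_c19)) = (LP (LK LD1_c9 LD2_c44 LD3_c61)) :=
  Lgr Lrot25 (Lpr_bt (K31.f38972 IH) (Lpr_ft (K19.f298170 IH) (Lpr_bt (K31.f182336 IH) (Lpn (LP (LK LD1_c9 LD2_c44 LD3_c61))))))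
theorem f182337 : Led Lsl_gt (LP (LK LD1_c9 LD2_c44 LD3_c61)) = (LP (LK LD1_c17 LD2_c54 LD3_c27)) :=
  Lre_g IH (LK LD1_c9 LD2_c44 LD3_c61) (LK LD1_c17 LD2_c54 LD3_c27) Lrfl Lrfl
theorem f298342 : Led Lsl_gf (LP (LK LD1_c16 LD2_c18 LD3_c30)) = (LP (LK LD1_c17 LD2_c54 LD3_c27)) :=
  Lgr Lrot76 (Lpe (K31.f298182 IH) (Lpr_ff (f298172 IH) (Lpr_gt (f182337 IH) (Lpn (LP (LK LD1_c17 LD2_c54 LD3_c27))))))
theorem f417997 : Led Lsl_dt (LP (LK LD1_c14 LD2_c57 LD3_c34)) = (LP (LK LD1_c17 LD2_c54 LD3_c27)) :=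
  Lgr Lrot6 (Lpr_gt (f417993 IH) (Lpr_ct (K17.f280104 IH) (Lpr_gt (f398099 IH) (Lpe (f398097 IH) (Lpe (f396936 IH) (Lpr_cf (K31.f396932 IH) (Lpr_gf (K31.f298305 IH) (Lpe (K31.f298222 IH) (Lpr_gf (f298342 IH) (Lpn (LP (LK LD1_c17 LD2_c54 LD3_c27))))))))))))
theorem f579973 : Led Lsl_ff (LP (LK LD1_c16 LD2_c17 LD3_c28)) = (LP (LK LD1_c17 LD2_c54 LD3_c27)) :=
  Lgr Lrot19 (Lpr_dt (K31.f280133 IH) (Lpr_ft (f579969 IH) (Lpr_dt (f417997 IH) (Lpn (LP (LK LD1_c17 LD2_c54 LD3_c27))))))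
theorem f579979 : Led Lsl_ft (LP (LK LD1_c16 LD2_c17 LD3_c28)) = (LP (LK LD1_c17 LD2_c54 LD3_c27)) :=
  Lgr Lrot48 (Lpr_ff (f579973 IH) (Lpn (LP (LK LD1_c17 LD2_c54 LD3_c27))))
theorem f398464 : Led Lsl_bt (LP (LK LD1_c26 LD2_c15 LD3_c18)) = (LP (LK LD1_c16 LD2_c17 LD3_c28)) :=
  Lre_b IH (LK LD1_c26 LD2_c15 LD3_c18) (LK LD1_c16 LD2_c17 LD3_c28) Lrfl Lrfl
theorem f216633 : Led Lsl_bt (LP (LK LD1_c17 LD2_c54 LD3_c27)) = (LP (LK LD1_c27 LD2_c40 LD3_c4)) :=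
  Lre_b IH (LK LD1_c17 LD2_c54 LD3_c27) (LK LD1_c27 LD2_c40 LD3_c4) Lrfl Lrfl
theorem f580107 : Led Lsl_ff (LP (LK LD1_c26 LD2_c15 LD3_c18)) = (LP (LK LD1_c27 LD2_c40 LD3_c4)) :=
  Lgr Lrot25 (Lpr_bt (f398464 IH) (Lpr_ft (f579979 IH) (Lpr_bt (f216633 IH) (Lpn (LP (LK LD1_c27 LD2_c40 LD3_c4))))))
theorem f237493 : Led Lsl_dt (LP (LK LD1_c26 LD2_c15 LD3_c18)) = (LP (LK LD1_c16 LD2_c17 LD3_c26)) :=
  Lre_d IH (LK LD1_c26 LD2_c15 LD3_c18) (LK LD1_c16 LD2_c17 LD3_c26) Lrfl Lrfl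
theorem f418002 : Led Lsl_df (LP (LK LD1_c20 LD2_c16 LD3_c17)) = (LP (LK LD1_c27 LD2_c40 LD3_c4)) :=
  Lgr Lrot12 (Lpe (f383838 IH) (Lpr_dt (f417997 IH) (Lpr_bt (f216633 IH) (Lpn (LP (LK LD1_c27 LD2_c40 LD3_c4))))))
theorem f418010 : Led Lsl_dt (LP (LK LD1_c20 LD2_c16 LD3_c17)) = (LP (LK LD1_c27 LD2_c40 LD3_c4)) :=
  Lgr Lrot42 (Lpr_df (f418002 IH) (Lpn (LP (LK LD1_c27 LD2_c40 LD3_c4))))
theorem f580109 : Led Lsl_ft (LP (LK LD1_c16 LD2_c17 LD3_c26)) = (LP (LK LD1_c20 LD2_c16 LD3_c17)) :=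
  Lgr Lrot54 (Lpe (f237493 IH) (Lpr_ff (f580107 IH) (Lpe (f418010 IH) (Lpn (LP (LK LD1_c20 LD2_c16 LD3_c17))))))
theorem f30699 : Led Lsl_gt (LP (LK LD1_c17 LD2_c43 LD3_c47)) = (LP (LK LD1_c9 LD2_c38 LD3_c2)) :=
  Lre_g IH (LK LD1_c17 LD2_c43 LD3_c47) (LK LD1_c9 LD2_c38 LD3_c2) Lrfl Lrfl
theorem f237485 : Led Lsl_bt (LP (LK LD1_c16 LD2_c17 LD3_c26)) = (LP (LK LD1_c8 LD2_c41 LD3_c53)) :=
  Lre_b IH (LK LD1_c16 LD2_c17 LD3_c26) (LK LD1_c8 LD2_c41 LD3_c53) Lrfl Lrfl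
theorem f237486 : Led Lsl_cf (LP (LK LD1_c17 LD2_c43 LD3_c47)) = (LP (LK LD1_c16 LD2_c17 LD3_c26)) :=
  Lgr Lrot160 (Lpr_gt (f30699 IH) (Lpe (K30.f30698 IH) (Lpr_bt (K30.f30695 IH) (Lpr_gt (K13.f30692 IH) (Lpr_ct (K1.f29636 IH) (Lpe (K12.f30683 IH) (Lpr_cf (K13.f237467 IH) (Lpr_bt (K16.f229264 IH) (Lpr_gt (K31.f229265 IH) (Lpe (f237485 IH) (Lpn (LP (LK LD1_c16 LD2_c17 LD3_c26)))))))))))))
theorem f237491 : Led Lsl_ct (LP (LK LD1_c17 LD2_c43 LD3_c47)) = (LP (LK LD1_c16 LD2_c17 LD3_c26)) :=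
  Lgr Lrot59 (Lpr_cf (f237486 IH) (Lpn (LP (LK LD1_c16 LD2_c17 LD3_c26))))
theorem f580111 : Led Lsl_ff (LP (LK LD1_c17 LD2_c43 LD3_c47)) = (LP (LK LD1_c11 LD2_c19 LD3_c31)) :=
  Lgr Lrot23 (Lpr_ct (f237491 IH) (Lpr_ft (f580109 IH) (Lpr_ct (f383832 IH) (Lpn (LP (LK LD1_c11 LD2_c19 LD3_c31))))))
theorem f580117 : Led Lsl_at (LP (LK LD1_c17 LD2_c43 LD3_c47)) = (LP (LK LD1_c16 LD2_c6 LD3_c47)) :=
  Lgr Lrot26 (Lpr_ff (f580111 IH) (Lpe (f383833 IH) (Lpr_gt (K49.f421821 IH) (Lpn (LP (LK LD1_c16 LD2_c6 LD3_c47))))))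
theorem f580121 : Led Lsl_af (LP (LK LD1_c16 LD2_c17 LD3_c26)) = (LP (LK LD1_c24 LD2_c45 LD3_c27)) :=
  Lgr Lrot68 (Lpe (f237486 IH) (Lpr_at (f580117 IH) (Lpe (K49.f421832 IH) (Lpn (LP (LK LD1_c24 LD2_c45 LD3_c27))))))
theorem f580123 : Led Lsl_at (LP (LK LD1_c16 LD2_c17 LD3_c26)) = (LP (LK LD1_c24 LD2_c45 LD3_c27)) :=
  Lgr Lrot100 (Lpr_af (f580121 IH) (Lpn (LP (LK LD1_c24 LD2_c45 LD3_c27))))
theorem f237489 : Led Lsl_bt (LP (LK LD1_c8 LD2_c41 LD3_c53)) = (LP (LK LD1_c16 LD2_c17 LD3_c26)) :=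
  Lre_b IH (LK LD1_c8 LD2_c41 LD3_c53) (LK LD1_c16 LD2_c17 LD3_c26) Lrfl Lrfl
theorem f197262 : Led Lsl_gt (LP (LK LD1_c17 LD2_c54 LD3_c28)) = (LP (LK LD1_c9 LD2_c44 LD3_c61)) :=
  Lre_g IH (LK LD1_c17 LD2_c54 LD3_c28) (LK LD1_c9 LD2_c44 LD3_c61) Lrfl Lrfl
theorem f298298 : Led Lsl_gf (LP (LK LD1_c17 LD2_c54 LD3_c28)) = (LP (LK LD1_c16 LD2_c18 LD3_c30)) :=
  Lgr Lrot47 (Lpr_gt (f197262 IH) (Lpe (K31.f236835 IH) (Lpr_ff (K31.f298287 IH) (Lpn (LP (LK LD1_c16 LD2_c18 LD3_c30))))))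
theorem f579981 : Led Lsl_at (LP (LK LD1_c16 LD2_c17 LD3_c28)) = (LP (LK LD1_c17 LD2_c54 LD3_c28)) :=
  Lgr Lrot26 (Lpr_ff (f579973 IH) (Lpe (f298342 IH) (Lpe (f298298 IH) (Lpn (LP (LK LD1_c17 LD2_c54 LD3_c28))))))
theorem f236492 : Led Lsl_gt (LP (LK LD1_c14 LD2_c57 LD3_c35)) = (LP (LK LD1_c7 LD2_c55 LD3_c51)) :=
  Lre_g IH (LK LD1_c14 LD2_c57 LD3_c35) (LK LD1_c7 LD2_c55 LD3_c51) Lrfl Lrfl
theorem f397433 : Led Lsl_df (LP (LK LD1_c14 LD2_c57 LD3_c35)) = (LP (LK LD1_c17 LD2_c54 LD3_c28)) :=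
  Lgr Lrot153 (Lpr_gt (f236492 IH) (Lpr_dt (K16.f238854 IH) (Lpr_cf (K16.f172756 IH) (Lpe (K31.f172810 IH) (Lpe (K31.f172814 IH) (Lpr_df (K31.f397429 IH) (Lpr_gf (K31.f298305 IH) (Lpe (K31.f298222 IH) (Lpe (f298298 IH) (Lpn (LP (LK LD1_c17 LD2_c54 LD3_c28))))))))))))
theorem f579987 : Led Lsl_af (LP (LK LD1_c8 LD2_c41 LD3_c53)) = (LP (LK LD1_c14 LD2_c57 LD3_c35)) :=
  Lgr Lrot117 (Lpr_dt (K31.f229266 IH) (Lpr_at (f579981 IH) (Lpe (f397433 IH) (Lpn (LP (LK LD1_c14 LD2_c57 LD3_c35))))))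
theorem f738707 : Led Lsl_bf (LP (LK LD1_c14 LD2_c57 LD3_c35)) = (LP (LK LD1_c9 LD2_c39 LD3_c7)) :=
  Lgr Lrot81 (Lpe (f579987 IH) (Lpr_bt (f237489 IH) (Lpr_at (f580123 IH) (Lpr_bt (f421834 IH) (Lpr_at (f738703 IH) (Lpn (LP (LK LD1_c9 LD2_c39 LD3_c7))))))))
theorem f271519 : Led Lsl_bt (LP (LK LD1_c16 LD2_c5 LD3_c54)) = (LP (LK LD1_c8 LD2_c34 LD3_c43)) :=
  Lre_b IH (LK LD1_c16 LD2_c5 LD3_c54) (LK LD1_c8 LD2_c34 LD3_c43) Lrfl Lrfl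
theorem f170213 : Led Lsl_ct (LP (LK LD1_c4 LD2_c17 LD3_c48)) = (LP (LK LD1_c8 LD2_c34 LD3_c43)) :=
  Lre_c IH (LK LD1_c4 LD2_c17 LD3_c48) (LK LD1_c8 LD2_c34 LD3_c43) Lrfl Lrfl
theorem f392827 : Led Lsl_ft (LP (LK LD1_c8 LD2_c34 LD3_c43)) = (LP (LK LD1_c8 LD2_c22 LD3_c56)) :=
  Lgr Lrot4 (Lpe (f170213 IH) (Lpr_ff (K49.f392823 IH) (Lpe (K49.f171005 IH) (Lpn (LP (LK LD1_c8 LD2_c22 LD3_c56))))))
theorem f403548 : Led Lsl_bt (LP (LK LD1_c8 LD2_c22 LD3_c56)) = (LP (LK LD1_c15 LD2_c39 LD3_c23)) :=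
  Lgr Lrot35 (Lpe (f392827 IH) (Lpe (f271519 IH) (Lpr_ff (K54.f403546 IH) (Lpn (LP (LK LD1_c15 LD2_c39 LD3_c23))))))
theorem f280120 : Led Lsl_gf (LP (LK LD1_c14 LD2_c57 LD3_c35)) = (LP (LK LD1_c8 LD2_c41 LD3_c55)) :=
  Lgr Lrot47 (Lpr_gt (f236492 IH) (Lpe (K16.f241663 IH) (Lpr_ff (K17.f280112 IH) (Lpn (LP (LK LD1_c8 LD2_c41 LD3_c55))))))
theorem f170234 : Led Lsl_ct (LP (LK LD1_c8 LD2_c34 LD3_c23)) = (LP (LK LD1_c4 LD2_c17 LD3_c49)) :=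
  Lre_c IH (LK LD1_c8 LD2_c34 LD3_c23) (LK LD1_c4 LD2_c17 LD3_c49) Lrfl Lrfl
theorem f170644 : Led Lsl_gt (LP (LK LD1_c4 LD2_c11 LD3_c28)) = (LP (LK LD1_c8 LD2_c22 LD3_c39)) :=
  Lre_g IH (LK LD1_c4 LD2_c11 LD3_c28) (LK LD1_c8 LD2_c22 LD3_c39) Lrfl Lrfl
theorem f403497 : Led Lsl_gt (LP (LK LD1_c8 LD2_c22 LD3_c39)) = (LP (LK LD1_c8 LD2_c34 LD3_c23)) :=
  Lgr Lrot46 (Lpe (f170644 IH) (Lpr_ft (K41.f403487 IH) (Lpr_at (K41.f170238 IH) (Lpn (LP (LK LD1_c8 LD2_c34 LD3_c23))))))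
theorem f200131 : Led Lsl_bt (LP (LK LD1_c15 LD2_c45 LD3_c50)) = (LP (LK LD1_c8 LD2_c22 LD3_c39)) :=
  Lre_b IH (LK LD1_c15 LD2_c45 LD3_c50) (LK LD1_c8 LD2_c22 LD3_c39) Lrfl Lrfl
theorem f404599 : Led Lsl_cf (LP (LK LD1_c14 LD2_c57 LD3_c35)) = (LP (LK LD1_c15 LD2_c45 LD3_c50)) :=
  Lgr Lrot58 (Lpr_gf (f280120 IH) (Lpe (K17.f280103 IH) (Lpr_bt (K17.f270798 IH) (Lpr_gf (K54.f403556 IH) (Lpe (f403548 IH) (Lpr_ct (K49.f171005 IH) (Lpr_gf (K49.f404595 IH) (Lpe (f170234 IH) (Lpe (f403497 IH) (Lpe (f200131 IH) (Lpn (LP (LK LD1_c15 LD2_c45 LD3_c50)))))))))))))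
theorem f404602 : Led Lsl_ct (LP (LK LD1_c14 LD2_c57 LD3_c35)) = (LP (LK LD1_c15 LD2_c45 LD3_c50)) :=
  Lgr Lrot59 (Lpr_cf (f404599 IH) (Lpn (LP (LK LD1_c15 LD2_c45 LD3_c50))))
theorem f170274 : Led Lsl_at (LP (LK LD1_c2 LD2_c6 LD3_c21)) = (LP (LK LD1_c4 LD2_c18 LD3_c10)) :=
  Lre_a IH (LK LD1_c2 LD2_c6 LD3_c21) (LK LD1_c4 LD2_c18 LD3_c10) Lrfl Lrfl
theorem f299387 : Led Lsl_bf (LP (LK LD1_c4 LD2_c11 LD3_c36)) = (LP (LK LD1_c4 LD2_c18 LD3_c10)) :=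
  Lgr Lrot81 (Lpr_at (K49.f170988 IH) (Lpr_bt (K49.f170947 IH) (Lpr_at (K18.f299380 IH) (Lpr_bt (K27.f53377 IH) (Lpr_at (f170274 IH) (Lpn (LP (LK LD1_c4 LD2_c18 LD3_c10))))))))
theorem f406085 : Led Lsl_bf (LP (LK LD1_c4 LD2_c11 LD3_c14)) = (LP (LK LD1_c4 LD2_c17 LD3_c49)) :=
  Lgr Lrot61 (Lpr_ft (K50.f406079 IH) (Lpe (f299387 IH) (Lpr_ft (K41.f403501 IH) (Lpn (LP (LK LD1_c4 LD2_c17 LD3_c49))))))
theorem f170258 : Led Lsl_bt (LP (LK LD1_c8 LD2_c35 LD3_c12)) = (LP (LK LD1_c4 LD2_c18 LD3_c9)) :=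
  Lre_b IH (LK LD1_c8 LD2_c35 LD3_c12) (LK LD1_c4 LD2_c18 LD3_c9) Lrfl Lrfl
theorem f398158 : Led Lsl_ct (LP (LK LD1_c8 LD2_c35 LD3_c12)) = (LP (LK LD1_c8 LD2_c35 LD3_c36)) :=
  Lre_c IH (LK LD1_c8 LD2_c35 LD3_c12) (LK LD1_c8 LD2_c35 LD3_c36) Lrfl Lrfl
theorem f398172 : Led Lsl_bt (LP (LK LD1_c2 LD2_c6 LD3_c31)) = (LP (LK LD1_c4 LD2_c18 LD3_c27)) :=
  Lre_b IH (LK LD1_c2 LD2_c6 LD3_c31) (LK LD1_c4 LD2_c18 LD3_c27) Lrfl Lrfl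
theorem f271516 : Led Lsl_gt (LP (LK LD1_c4 LD2_c18 LD3_c27)) = (LP (LK LD1_c8 LD2_c35 LD3_c43)) :=
  Lre_g IH (LK LD1_c4 LD2_c18 LD3_c27) (LK LD1_c8 LD2_c35 LD3_c43) Lrfl Lrfl
theorem f406175 : Led Lsl_ct (LP (LK LD1_c8 LD2_c35 LD3_c43)) = (LP (LK LD1_c8 LD2_c22 LD3_c39)) :=
  Lgr Lrot91 (Lpe (f271516 IH) (Lpe (f398172 IH) (Lpr_ct (K50.f52062 IH) (Lpr_gf (K52.f398169 IH) (Lpe (f398158 IH) (Lpr_bt (f170258 IH) (Lpe (K50.f406074 IH) (Lpr_bf (f406085 IH) (Lpr_ct (K41.f170237 IH) (Lpe (f403497 IH) (Lpn (LP (LK LD1_c8 LD2_c22 LD3_c39)))))))))))))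
theorem f406177 : Led Lsl_cf (LP (LK LD1_c8 LD2_c35 LD3_c43)) = (LP (LK LD1_c8 LD2_c22 LD3_c39)) :=
  Lgr Lrot11 (Lpr_ct (f406175 IH) (Lpn (LP (LK LD1_c8 LD2_c22 LD3_c39))))
theorem f170949 : Led Lsl_gt (LP (LK LD1_c8 LD2_c23 LD3_c11)) = (LP (LK LD1_c4 LD2_c11 LD3_c48)) :=
  Lre_g IH (LK LD1_c8 LD2_c23 LD3_c11) (LK LD1_c4 LD2_c11 LD3_c48) Lrfl Lrfl
theorem f406179 : Led Lsl_bt (LP (LK LD1_c8 LD2_c35 LD3_c43)) = (LP (LK LD1_c8 LD2_c23 LD3_c11)) :=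
  Lgr Lrot130 (Lpr_ct (f406175 IH) (Lpe (f170644 IH) (Lpe (K49.f170948 IH) (Lpr_bt (K49.f170947 IH) (Lpr_gf (K9.f170917 IH) (Lpe (K0.f2164 IH) (Lpr_ct (K30.f2271 IH) (Lpe (K30.f170945 IH) (Lpe (K30.f52219 IH) (Lpe (f170949 IH) (Lpn (LP (LK LD1_c8 LD2_c23 LD3_c11)))))))))))))
theorem f738711 : Led Lsl_ct (LP (LK LD1_c8 LD2_c23 LD3_c11)) = (LP (LK LD1_c9 LD2_c39 LD3_c7)) :=
  Lgr Lrot83 (Lpe (f406179 IH) (Lpr_cf (f406177 IH) (Lpe (f200131 IH) (Lpe (f404602 IH) (Lpr_bf (f738707 IH) (Lpn (LP (LK LD1_c9 LD2_c39 LD3_c7))))))))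
theorem f738754 : Led Lsl_cf (LP (LK LD1_c8 LD2_c23 LD3_c11)) = (LP (LK LD1_c9 LD2_c39 LD3_c7)) :=
  Lgr Lrot11 (Lpr_ct (f738711 IH) (Lpn (LP (LK LD1_c9 LD2_c39 LD3_c7))))
theorem f738818 : Led Lsl_at (LP (LK LD1_c8 LD2_c23 LD3_c11)) = (LP (LK LD1_c8 LD2_c35 LD3_c20)) :=
  Lgr Lrot107 (Lpr_cf (f738754 IH) (Lpe (f738703 IH) (Lpe (K52.f421776 IH) (Lpn (LP (LK LD1_c8 LD2_c35 LD3_c20))))))
theorem f841580 : Led Lsl_af (LP (LK LD1_c8 LD2_c35 LD3_c43)) = v27840 :=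
  Lgr Lrot36 (Lpr_bt (f406179 IH) (Lpr_at (f738818 IH) (Lpr_bt (K54.f421775 IH) (Lpr_at (f693678 IH) (Lpqs (K54.f738515 IH) (Lpr_bt (f841579 IH) (Lpn v27840)))))))
def v12609 : LQ := Led Lsl_gf (LP (LK LD1_c4 LD2_c18 LD3_c27))
theorem f693786 : Led Lsl_gf (LP (LK LD1_c4 LD2_c18 LD3_c27)) = v12609 :=
  Lrfl
theorem f841588 : (LP (LK LD1_c8 LD2_c35 LD3_c17)) = v12609 :=
  (Llr Lrot52 (Lpr_ft (f841587 IH) (Lpe (f841580 IH) (Lpe (f271516 IH) (Lpr_gf (f693786 IH) (Lpn v12609)))))).symm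
theorem f841589 : Led Lsl_gt (LP (LK LD1_c8 LD2_c35 LD3_c17)) = (LP (LK LD1_c4 LD2_c18 LD3_c27)) :=
  Leop (Lpr_gf (f693786 IH) (Lpq (f841588 IH) (Lpn (LP (LK LD1_c8 LD2_c35 LD3_c17)))))
theorem seed_1963 : LEOK LG_g (LK LD1_c8 LD2_c35 LD3_c17) :=
  Leoe_g (LK LD1_c8 LD2_c35 LD3_c17) (f841589 IH)
def v27926 : LQ := Led Lsl_et K60.v7841
theorem f842064 : Led Lsl_et K60.v7841 = v27926 :=
  Lrfl
theorem f842067 : Led Lsl_ef K60.v7841 = v27926 :=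
  Lgr Lrot88 (Lpr_et (f842064 IH) (Lpn v27926))
def v10024 : LQ := Led Lsl_ct K60.v3153
theorem f678427 : Led Lsl_ct K60.v3153 = v10024 :=
  Lrfl
theorem f771240 : K60.v7841 = v10024 :=
  Lefun (Lecon (K60.f675242 IH) (K60.f771237 IH)) (f678427 IH)
def v4353 : LQ := Led Lsl_et (LP (LK LD1_c2 LD2_c19 LD3_c48))
def v23978 : LQ := Led Lsl_ft v4353
theorem f821696 : Led Lsl_ft v4353 = v23978 :=
  Lrfl
theorem f821700 : Led Lsl_ff v4353 = v23978 :=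
  Lgr Lrot3 (Lpr_ft (f821696 IH) (Lpn v23978))
theorem f632875 : Led Lsl_et (LP (LK LD1_c2 LD2_c19 LD3_c48)) = v4353 :=
  Lrfl
theorem f632876 : Led Lsl_af K60.v1324 = v4353 :=
  Lgr Lrot50 (Lpe (K60.f494846 IH) (Lpr_at (K5.f23582 IH) (Lpr_et (f632875 IH) (Lpn v4353))))
theorem f821704 : Led Lsl_gf K60.v7842 = v23978 :=
  Lgr Lrot47 (Lpe (K60.f668678 IH) (Lpr_af (f632876 IH) (Lpr_ff (f821700 IH) (Lpn v23978))))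
def v10029 : LQ := Led Lsl_ct K60.v3154
theorem f678439 : Led Lsl_ct K60.v3154 = v10029 :=
  Lrfl
theorem f771244 : K60.v7842 = v10029 :=
  Lefun (Lecon (K60.f675235 IH) (K60.f771242 IH).symm) (f678439 IH)
def v23976 : LQ := Led Lsl_gf v4353
theorem f821684 : Led Lsl_gf v4353 = v23976 :=
  Lrfl
theorem f632878 : Led Lsl_ef (LP (LK LD1_c2 LD2_c19 LD3_c48)) = v4353 :=
  Lgr Lrot88 (Lpr_et (f632875 IH) (Lpn v4353))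
theorem f632880 : Led Lsl_ct K60.v1322 = v4353 :=
  Lgr Lrot15 (Lpe (K60.f494830 IH) (Lpe (K2.f23576 IH) (Lpr_ef (f632878 IH) (Lpn v4353))))
theorem f450587 : Led Lsl_bf (LP (LK LD1_c1 LD2_c7 LD3_c6)) = K34.v124 :=
  Lgr Lrot93 (Lpr_dt (K2.f23575 IH) (Lpe (K5.f83096 IH) (Lpr_dt (K34.f450585 IH) (Lpn K34.v124))))
theorem f494832 : Led Lsl_bf K58.v954 = K60.v1322 :=
  Lgr Lrot96 (Lpe (K58.f490721 IH) (Lpe (f450587 IH) (Lpr_et (K60.f494830 IH) (Lpn K60.v1322))))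
theorem f821687 : Led Lsl_ct K60.v8485 = v23976 :=
  Lgr Lrot91 (Lpe (K60.f671373 IH) (Lpe (K60.f624073 IH) (Lpr_ct (K60.f508682 IH) (Lpqs (K60.f769148 IH) (Lpe (K60.f681452 IH) (Lpe (K59.f625658 IH) (Lpr_bt (K59.f625656 IH) (Lpq (K59.f769135 IH) (Lpqs (K58.f769102 IH) (Lpe (K58.f626300 IH) (Lpr_bf (f494832 IH) (Lpr_ct (f632880 IH) (Lpr_gf (f821684 IH) (Lpn v23976))))))))))))))
theorem f678440 : Led Lsl_cf K60.v3154 = v10029 :=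
  Lgr Lrot11 (Lpr_ct (f678439 IH) (Lpn v10029))
theorem f821688 : Led Lsl_af v10029 = v23976 :=
  Lgr Lrot68 (Lpe (f678440 IH) (Lpqs (K60.f771242 IH) (Lpr_at (K60.f771173 IH) (Lpr_ct (f821687 IH) (Lpn v23976)))))
theorem f821689 : Led Lsl_cf K60.v8485 = v23976 :=
  Lgr Lrot11 (Lpr_ct (f821687 IH) (Lpn v23976))
theorem f771174 : Led Lsl_ff K60.v9276 = K60.v8485 :=
  Lgr Lrot30 (Lpe (K60.f674989 IH) (Lpr_ft (K60.f674998 IH) (Lpr_at (K60.f771173 IH) (Lpn K60.v8485))))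
theorem f821691 : Led Lsl_ft v10024 = v23976 :=
  Lgr Lrot4 (Lpe (f678427 IH) (Lpq (K60.f771237 IH) (Lpr_ff (f771174 IH) (Lpr_cf (f821689 IH) (Lpn v23976)))))
theorem f821705 : Led Lsl_gt v10024 = v23978 :=
  Lgr Lrot5 (Lpr_ft (f821691 IH) (Lpe (f821688 IH) (Lpq (f771244 IH) (Lpr_gf (f821704 IH) (Lpn v23978)))))
theorem f82308 : Led Lsl_ft (LP (LK LD1_c2 LD2_c19 LD3_c48)) = (LP (LK LD1_c1 LD2_c32 LD3_c32)) :=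
  Lgr Lrot142 (Lpr_dt (K2.f82303 IH) (Lpr_ct (K2.f26144 IH) (Lpr_dt (K2.f26143 IH) (Lpr_ct (K2.f26087 IH) (Lpr_dt (K2.f26085 IH) (Lpr_ct (K2.f26074 IH) (Lpr_dt (K11.f26107 IH) (Lpr_ct (K5.f26145 IH) (Lpe (K46.f26147 IH) (Lpn (LP (LK LD1_c1 LD2_c32 LD3_c32))))))))))))
theorem f821703 : Led Lsl_et K46.v5692 = v23978 :=
  Lgr Lrot69 (Lpe (K46.f648879 IH) (Lpe (K32.f442412 IH) (Lpe (f82308 IH) (Lpr_ef (f632878 IH) (Lpr_ff (f821700 IH) (Lpn v23978))))))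
def v25653 : LQ := Led Lsl_ft K58.v5691
theorem f829734 : Led Lsl_ft K58.v5691 = v25653 :=
  Lrfl
theorem f829737 : Led Lsl_ff K58.v5691 = v25653 :=
  Lgr Lrot3 (Lpr_ft (f829734 IH) (Lpn v25653))
theorem f829739 : Led Lsl_dt K46.v5692 = v25653 :=
  Lgr Lrot60 (Lpe (K46.f648879 IH) (Lpr_df (K58.f648877 IH) (Lpr_ff (f829737 IH) (Lpn v25653))))
theorem f648876 : Led Lsl_af K59.v1974 = K58.v5691 :=
  Lgr Lrot117 (Lpe (K59.f506698 IH) (Lpr_at (K46.f82783 IH) (Lpr_dt (K58.f648875 IH) (Lpn K58.v5691))))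
theorem f829740 : Led Lsl_gf K59.v8308 = v25653 :=
  Lgr Lrot47 (Lpe (K59.f670740 IH) (Lpr_af (f648876 IH) (Lpr_ff (f829737 IH) (Lpn v25653))))
theorem f153671 : Led Lsl_dt (LP (LK LD1_c3 LD2_c7 LD3_c51)) = (LP (LK LD1_c6 LD2_c20 LD3_c35)) :=
  Lre_d IH (LK LD1_c3 LD2_c7 LD3_c51) (LK LD1_c6 LD2_c20 LD3_c35) Lrfl Lrfl
def v17476 : LQ := Led Lsl_gf (LP (LK LD1_c6 LD2_c19 LD3_c41))
theorem f760007 : Led Lsl_gf (LP (LK LD1_c6 LD2_c19 LD3_c41)) = v17476 :=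
  Lrfl
theorem f760008 : Led Lsl_gt (LP (LK LD1_c6 LD2_c20 LD3_c35)) = v17476 :=
  Lgr Lrot5 (Lpr_ft (K57.f204561 IH) (Lpr_at (K57.f204566 IH) (Lpr_gf (f760007 IH) (Lpn v17476))))
theorem f842070 : Led Lsl_df v17476 = v27926 :=
  Lgr Lrot132 (Lpe (f760008 IH) (Lpe (f153671 IH) (Lpe (K57.f153600 IH) (Lpr_ef (K59.f759975 IH) (Lpe (K59.f759978 IH) (Lpr_gf (f829740 IH) (Lpe (f829739 IH) (Lpr_et (f821703 IH) (Lpe (f821705 IH) (Lpq (f771240 IH) (Lpr_ef (f842067 IH) (Lpn v27926))))))))))))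
theorem f675240 : Led Lsl_af K60.v9277 = K60.v7841 :=
  Lgr Lrot0 (Lpr_at (K60.f675239 IH) (Lpn K60.v7841))
def v17580 : LQ := Led Lsl_dt (LP (LK LD1_c6 LD2_c20 LD3_c34))
theorem f760990 : Led Lsl_dt (LP (LK LD1_c6 LD2_c20 LD3_c34)) = v17580 :=
  Lrfl
theorem f760991 : Led Lsl_df (LP (LK LD1_c6 LD2_c20 LD3_c34)) = v17580 :=
  Lgr Lrot38 (Lpr_dt (f760990 IH) (Lpn v17580))
theorem f107549 : Led Lsl_gt (LP (LK LD1_c6 LD2_c20 LD3_c34)) = (LP (LK LD1_c3 LD2_c7 LD3_c50)) :=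
  Lre_g IH (LK LD1_c6 LD2_c20 LD3_c34) (LK LD1_c3 LD2_c7 LD3_c50) Lrfl Lrfl
theorem f107548 : Led Lsl_dt (LP (LK LD1_c1 LD2_c30 LD3_c6)) = (LP (LK LD1_c3 LD2_c7 LD3_c50)) :=
  Lre_d IH (LK LD1_c1 LD2_c30 LD3_c6) (LK LD1_c3 LD2_c7 LD3_c50) Lrfl Lrfl
theorem f107547 : Led Lsl_et (LP (LK LD1_c1 LD2_c30 LD3_c6)) = (LP (LK LD1_c0 LD2_c41 LD3_c38)) :=
  Lre_e IH (LK LD1_c1 LD2_c30 LD3_c6) (LK LD1_c0 LD2_c41 LD3_c38) Lrfl Lrfl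
theorem f674867 : Led Lsl_ff K58.v2552 = K58.v9243 :=
  Lgr Lrot3 (Lpr_ft (K58.f674863 IH) (Lpn K58.v9243))
theorem f527436 : Led Lsl_cf K48.v793 = K58.v2552 :=
  Lgr Lrot39 (Lpe (K48.f459415 IH) (Lpr_ct (K8.f148053 IH) (Lpr_et (K58.f527434 IH) (Lpn K58.v2552))))
theorem f674872 : Led Lsl_ct K48.v2570 = K58.v9243 :=
  Lgr Lrot40 (Lpe (K49.f527540 IH) (Lpr_cf (f527436 IH) (Lpr_ff (f674867 IH) (Lpn K58.v9243))))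
theorem f147556 : Led Lsl_et (LP (LK LD1_c1 LD2_c48 LD3_c48)) = (LP (LK LD1_c0 LD2_c51 LD3_c8)) :=
  Lre_e IH (LK LD1_c1 LD2_c48 LD3_c48) (LK LD1_c0 LD2_c51 LD3_c8) Lrfl Lrfl
theorem f527435 : Led Lsl_af (LP (LK LD1_c1 LD2_c48 LD3_c48)) = K58.v2552 :=
  Lgr Lrot50 (Lpr_et (f147556 IH) (Lpr_at (K7.f148427 IH) (Lpr_et (K58.f527434 IH) (Lpn K58.v2552))))
theorem f674874 : Led Lsl_gf K58.v2568 = K58.v9243 :=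
  Lgr Lrot47 (Lpe (K58.f527527 IH) (Lpr_af (f527435 IH) (Lpr_ff (f674867 IH) (Lpn K58.v9243))))
def v9265 : LQ := Led Lsl_ct K58.v2568
theorem f674949 : Led Lsl_ct K58.v2568 = v9265 :=
  Lrfl
theorem f674950 : Led Lsl_cf K58.v2568 = v9265 :=
  Lgr Lrot11 (Lpr_ct (f674949 IH) (Lpn v9265))
theorem f626302 : Led Lsl_gt K59.v963 = K58.v3571 :=
  Lgr Lrot5 (Lpe (K59.f490756 IH) (Lpr_at (K59.f490722 IH) (Lpr_gf (K58.f626301 IH) (Lpn K58.v3571))))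
theorem f674951 : Led Lsl_bf K58.v3571 = v9265 :=
  Lgr Lrot34 (Lpe (f626302 IH) (Lpe (K59.f490757 IH) (Lpr_ct (K59.f452823 IH) (Lpe (K35.f452826 IH) (Lpe (K35.f435427 IH) (Lpe (K32.f206522 IH) (Lpr_bf (K24.f124189 IH) (Lpr_ct (K58.f206507 IH) (Lpr_gf (K58.f527527 IH) (Lpr_cf (f674950 IH) (Lpn v9265)))))))))))
theorem f674992 : Led Lsl_gt v4353 = K60.v9277 :=
  Lgr Lrot65 (Lpe (f632880 IH) (Lpe (f494832 IH) (Lpr_gf (K58.f626301 IH) (Lpr_bf (f674951 IH) (Lpe (f674950 IH) (Lpr_gf (f674874 IH) (Lpe (f674872 IH) (Lpe (K48.f527534 IH) (Lpr_bf (K60.f527547 IH) (Lpr_ct (K60.f674990 IH) (Lpn K60.v9277)))))))))))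
theorem f760992 : Led Lsl_ef K60.v9277 = v17580 :=
  Lgr Lrot17 (Lpe (f674992 IH) (Lpe (f632875 IH) (Lpr_dt (K2.f82303 IH) (Lpr_gf (K8.f107539 IH) (Lpe (K8.f69244 IH) (Lpe (K3.f61831 IH) (Lpe (f107547 IH) (Lpr_dt (f107548 IH) (Lpe (f107549 IH) (Lpr_df (f760991 IH) (Lpn v17580)))))))))))
theorem f760994 : Led Lsl_et K60.v9277 = v17580 :=
  Lgr Lrot87 (Lpr_ef (f760992 IH) (Lpn v17580))
theorem f842068 : Led Lsl_at v17580 = v27926 :=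
  Lgr Lrot80 (Lpe (f760994 IH) (Lpr_af (f675240 IH) (Lpr_ef (f842067 IH) (Lpn v27926))))
def v17578 : LQ := Led Lsl_ft (LP (LK LD1_c6 LD2_c20 LD3_c33))
theorem f760982 : Led Lsl_ft (LP (LK LD1_c6 LD2_c20 LD3_c33)) = v17578 :=
  Lrfl
def v17575 : LQ := Led Lsl_at (LP (LK LD1_c6 LD2_c20 LD3_c33))
theorem f760969 : Led Lsl_at (LP (LK LD1_c6 LD2_c20 LD3_c33)) = v17575 :=
  Lrfl
theorem f760970 : Led Lsl_af (LP (LK LD1_c6 LD2_c20 LD3_c33)) = v17575 :=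
  Lgr Lrot0 (Lpr_at (f760969 IH) (Lpn v17575))
theorem f204578 : Led Lsl_gt (LP (LK LD1_c3 LD2_c7 LD3_c50)) = (LP (LK LD1_c6 LD2_c20 LD3_c33)) :=
  Lre_g IH (LK LD1_c3 LD2_c7 LD3_c50) (LK LD1_c6 LD2_c20 LD3_c33) Lrfl Lrfl
theorem f760975 : Led Lsl_ft (LP (LK LD1_c6 LD2_c20 LD3_c34)) = v17575 :=
  Lgr Lrot2 (Lpr_gt (f107549 IH) (Lpr_gt (f204578 IH) (Lpr_af (f760970 IH) (Lpn v17575))))
theorem f760983 : Led Lsl_af (LP (LK LD1_c6 LD2_c20 LD3_c34)) = v17578 :=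
  Lgr Lrot45 (Lpr_ft (f760975 IH) (Lpe (f760970 IH) (Lpr_ft (f760982 IH) (Lpn v17578))))
theorem f842072 : v17476 = v17578 :=
  (Llr Lrot44 (Lpr_df (f842070 IH) (Lpe (f842068 IH) (Lpe (f760990 IH) (Lpr_af (f760983 IH) (Lpn v17578)))))).symm
theorem f760984 : Led Lsl_ff (LP (LK LD1_c6 LD2_c20 LD3_c33)) = v17578 :=
  Lgr Lrot3 (Lpr_ft (f760982 IH) (Lpn v17578))
theorem f842075 : v17575 = (LP (LK LD1_c12 LD2_c14 LD3_c28)) :=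
  (Llr Lrot26 (Lpe (f760969 IH) (Lpr_ff (f760984 IH) (Lpq (f842072 IH) (Lpe (f760007 IH) (Lpr_gt (K57.f152617 IH) (Lpn (LP (LK LD1_c12 LD2_c14 LD3_c28))))))))).symm
theorem f842076 : Led Lsl_at (LP (LK LD1_c12 LD2_c14 LD3_c28)) = (LP (LK LD1_c6 LD2_c20 LD3_c33)) :=
  Leop (Lpr_af (f760970 IH) (Lpqs (f842075 IH) (Lpn (LP (LK LD1_c12 LD2_c14 LD3_c28)))))
theorem seed_1964 : LEOK LG_a (LK LD1_c12 LD2_c14 LD3_c28) :=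
  Leoe_a (LK LD1_c12 LD2_c14 LD3_c28) (f842076 IH)
def v28161 : LQ := Led Lsl_gt K60.v7987
theorem f843084 : Led Lsl_gt K60.v7987 = v28161 :=
  Lrfl
theorem f454204 : Led Lsl_et (LP (LK LD1_c9 LD2_c32 LD3_c33)) = (LP (LK LD1_c4 LD2_c49 LD3_c61)) :=
  Lre_e IH (LK LD1_c9 LD2_c32 LD3_c33) (LK LD1_c4 LD2_c49 LD3_c61) Lrfl Lrfl
theorem f454563 : Led Lsl_bt (LP (LK LD1_c4 LD2_c49 LD3_c61)) = (LP (LK LD1_c3 LD2_c21 LD3_c49)) :=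
  Lgr Lrot119 (Lpe (f454204 IH) (Lpr_bf (K24.f454551 IH) (Lpe (K24.f454453 IH) (Lpn (LP (LK LD1_c3 LD2_c21 LD3_c49))))))
theorem f454567 : Led Lsl_bf (LP (LK LD1_c4 LD2_c49 LD3_c61)) = (LP (LK LD1_c3 LD2_c21 LD3_c49)) :=
  Lgr Lrot24 (Lpr_bt (f454563 IH) (Lpn (LP (LK LD1_c3 LD2_c21 LD3_c49))))
theorem f454326 : Led Lsl_ct (LP (LK LD1_c3 LD2_c21 LD3_c49)) = (LP (LK LD1_c6 LD2_c47 LD3_c3)) :=
  Lre_c IH (LK LD1_c3 LD2_c21 LD3_c49) (LK LD1_c6 LD2_c47 LD3_c3) Lrfl Lrfl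
def v19588 : LQ := Led Lsl_ft (LP (LK LD1_c6 LD2_c44 LD3_c14))
theorem f780849 : Led Lsl_ft (LP (LK LD1_c6 LD2_c44 LD3_c14)) = v19588 :=
  Lrfl
theorem f780852 : Led Lsl_ff (LP (LK LD1_c6 LD2_c44 LD3_c14)) = v19588 :=
  Lgr Lrot3 (Lpr_ft (f780849 IH) (Lpn v19588))
theorem f780854 : Led Lsl_bt K55.v15987 = v19588 :=
  Lgr Lrot35 (Lpe (K55.f744557 IH) (Lpe (K60.f159036 IH) (Lpr_ff (f780852 IH) (Lpn v19588))))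
def v12975 : LQ := Led Lsl_et (LP (LK LD1_c4 LD2_c35 LD3_c52))
theorem f699963 : Led Lsl_et (LP (LK LD1_c4 LD2_c35 LD3_c52)) = v12975 :=
  Lrfl
theorem f699966 : Led Lsl_ef (LP (LK LD1_c4 LD2_c35 LD3_c52)) = v12975 :=
  Lgr Lrot88 (Lpr_et (f699963 IH) (Lpn v12975))
theorem f699967 : Led Lsl_at (LP (LK LD1_c6 LD2_c44 LD3_c14)) = v12975 :=
  Lgr Lrot80 (Lpe (K60.f148997 IH) (Lpr_af (K32.f159020 IH) (Lpr_ef (f699966 IH) (Lpn v12975))))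
theorem f149309 : Led Lsl_gt (LP (LK LD1_c17 LD2_c0 LD3_c32)) = (LP (LK LD1_c9 LD2_c8 LD3_c6)) :=
  Lre_g IH (LK LD1_c17 LD2_c0 LD3_c32) (LK LD1_c9 LD2_c8 LD3_c6) Lrfl Lrfl
theorem f739252 : Led Lsl_gf (LP (LK LD1_c17 LD2_c0 LD3_c32)) = (LP (LK LD1_c9 LD2_c31 LD3_c11)) :=
  Lgr Lrot47 (Lpr_gt (f149309 IH) (Lpr_af (K52.f202137 IH) (Lpr_ff (K54.f739244 IH) (Lpn (LP (LK LD1_c9 LD2_c31 LD3_c11))))))
theorem f141032 : Led Lsl_gt (LP (LK LD1_c5 LD2_c0 LD3_c1)) = (LP (LK LD1_c2 LD2_c27 LD3_c47)) :=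
  Lre_g IH (LK LD1_c5 LD2_c0 LD3_c1) (LK LD1_c2 LD2_c27 LD3_c47) Lrfl Lrfl
theorem f141033 : Led Lsl_bt (LP (LK LD1_c9 LD2_c50 LD3_c35)) = (LP (LK LD1_c5 LD2_c0 LD3_c1)) :=
  Lre_b IH (LK LD1_c9 LD2_c50 LD3_c35) (LK LD1_c5 LD2_c0 LD3_c1) Lrfl Lrfl
theorem f739254 : Led Lsl_cf (LP (LK LD1_c17 LD2_c0 LD3_c32)) = (LP (LK LD1_c9 LD2_c50 LD3_c35)) :=
  Lgr Lrot58 (Lpr_gf (f739252 IH) (Lpe (K54.f141031 IH) (Lpr_bt (K54.f705571 IH) (Lpe (K54.f739019 IH) (Lpr_bf (K54.f739013 IH) (Lpr_ct (K54.f705460 IH) (Lpe (K54.f76911 IH) (Lpe (K17.f141117 IH) (Lpe (f141032 IH) (Lpe (f141033 IH) (Lpn (LP (LK LD1_c9 LD2_c50 LD3_c35)))))))))))))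
theorem f202144 : Led Lsl_ct (LP (LK LD1_c4 LD2_c35 LD3_c57)) = (LP (LK LD1_c9 LD2_c8 LD3_c6)) :=
  Lre_c IH (LK LD1_c4 LD2_c35 LD3_c57) (LK LD1_c9 LD2_c8 LD3_c6) Lrfl Lrfl
theorem f699968 : Led Lsl_bt (LP (LK LD1_c4 LD2_c35 LD3_c57)) = v12975 :=
  Lgr Lrot119 (Lpe (K52.f71127 IH) (Lpe (K32.f149326 IH) (Lpr_ef (f699966 IH) (Lpn v12975))))
theorem f413818 : Led Lsl_at (LP (LK LD1_c4 LD2_c58 LD3_c14)) = (LP (LK LD1_c2 LD2_c27 LD3_c47)) :=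
  Lre_a IH (LK LD1_c4 LD2_c58 LD3_c14) (LK LD1_c2 LD2_c27 LD3_c47) Lrfl Lrfl
theorem f413819 : Led Lsl_ft (LP (LK LD1_c9 LD2_c32 LD3_c9)) = (LP (LK LD1_c4 LD2_c58 LD3_c14)) :=
  Lgr Lrot101 (Lpe (K17.f413817 IH) (Lpr_ff (K17.f413813 IH) (Lpe (f413818 IH) (Lpn (LP (LK LD1_c4 LD2_c58 LD3_c14))))))
theorem f415211 : Led Lsl_gt (LP (LK LD1_c9 LD2_c32 LD3_c9)) = (LP (LK LD1_c5 LD2_c0 LD3_c1)) :=
  Lgr Lrot5 (Lpr_ft (f413819 IH) (Lpr_at (f413818 IH) (Lpe (f141032 IH) (Lpn (LP (LK LD1_c5 LD2_c0 LD3_c1))))))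
theorem f414077 : Led Lsl_bt (LP (LK LD1_c6 LD2_c46 LD3_c27)) = (LP (LK LD1_c9 LD2_c32 LD3_c9)) :=
  Lgr Lrot62 (Lpe (K17.f413883 IH) (Lpe (K17.f413572 IH) (Lpr_af (K17.f414052 IH) (Lpe (K17.f413669 IH) (Lpe (K31.f413804 IH) (Lpn (LP (LK LD1_c9 LD2_c32 LD3_c9))))))))
theorem f413874 : Led Lsl_ff (LP (LK LD1_c6 LD2_c46 LD3_c28)) = (LP (LK LD1_c3 LD2_c23 LD3_c38)) :=
  Lgr Lrot23 (Lpr_ct (K17.f413552 IH) (Lpr_ft (K17.f413864 IH) (Lpr_ct (K17.f413873 IH) (Lpn (LP (LK LD1_c3 LD2_c23 LD3_c38))))))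
theorem f414014 : Led Lsl_at (LP (LK LD1_c6 LD2_c46 LD3_c28)) = (LP (LK LD1_c12 LD2_c56 LD3_c24)) :=
  Lre_a IH (LK LD1_c6 LD2_c46 LD3_c28) (LK LD1_c12 LD2_c56 LD3_c24) Lrfl Lrfl
theorem f415170 : Led Lsl_gf (LP (LK LD1_c12 LD2_c56 LD3_c24)) = (LP (LK LD1_c6 LD2_c50 LD3_c31)) :=
  Lgr Lrot76 (Lpe (f414014 IH) (Lpr_ff (f413874 IH) (Lpr_gt (K51.f76882 IH) (Lpn (LP (LK LD1_c6 LD2_c50 LD3_c31))))))
theorem f739259 : Led Lsl_gt v12975 = (LP (LK LD1_c6 LD2_c44 LD3_c52)) :=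
  Lgr Lrot82 (Lpe (f699968 IH) (Lpr_ct (f202144 IH) (Lpe (f149309 IH) (Lpr_cf (f739254 IH) (Lpr_bt (f141033 IH) (Lpe (f415211 IH) (Lpe (f414077 IH) (Lpr_ct (K17.f413903 IH) (Lpr_gf (f415170 IH) (Lpe (K60.f706701 IH) (Lpn (LP (LK LD1_c6 LD2_c44 LD3_c52)))))))))))))
theorem f509298 : Led Lsl_at (LP (LK LD1_c3 LD2_c20 LD3_c33)) = (LP (LK LD1_c6 LD2_c44 LD3_c52)) :=
  Lre_a IH (LK LD1_c3 LD2_c20 LD3_c33) (LK LD1_c6 LD2_c44 LD3_c52) Lrfl Lrfl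
theorem f739260 : Led Lsl_gf v12975 = K51.v6327 :=
  Lgr Lrot47 (Lpr_gt (f739259 IH) (Lpe (f509298 IH) (Lpr_ff (K51.f652778 IH) (Lpn K51.v6327))))
theorem f780855 : Led Lsl_gf K51.v6327 = v19588 :=
  Lgr Lrot47 (Lpe (f739260 IH) (Lpe (f699967 IH) (Lpr_ff (f780852 IH) (Lpn v19588))))
theorem f780844 : Led Lsl_af K51.v6327 = K60.v19587 :=
  Lgr Lrot45 (Lpe (K51.f652778 IH) (Lpr_at (f509298 IH) (Lpr_ft (K60.f780843 IH) (Lpn K60.v19587))))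
theorem f780856 : Led Lsl_gt (LP (LK LD1_c6 LD2_c44 LD3_c52)) = v19588 :=
  Lgr Lrot5 (Lpr_ft (K60.f780843 IH) (Lpe (f780844 IH) (Lpr_gf (f780855 IH) (Lpn v19588))))
theorem f781276 : Led Lsl_bf (LP (LK LD1_c6 LD2_c44 LD3_c52)) = K60.v19616 :=
  Lgr Lrot24 (Lpr_bt (K60.f781274 IH) (Lpn K60.v19616))
theorem f843087 : Led Lsl_ct K60.v19616 = v28161 :=
  Lgr Lrot63 (Lpe (f781276 IH) (Lpr_gt (f780856 IH) (Lpe (f780854 IH) (Lpe (K55.f744559 IH) (Lpr_gt (K55.f454324 IH) (Lpe (f454326 IH) (Lpe (f454567 IH) (Lpr_gt (K50.f509502 IH) (Lpqs (K46.f653292 IH) (Lpr_ct (K60.f669519 IH) (Lpr_gt (f843084 IH) (Lpn v28161))))))))))))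
def v4302 : LQ := Led Lsl_et (LP (LK LD1_c2 LD2_c19 LD3_c1))
theorem f632524 : Led Lsl_et (LP (LK LD1_c2 LD2_c19 LD3_c1)) = v4302 :=
  Lrfl
theorem f738003 : Led Lsl_df (LP (LK LD1_c5 LD2_c42 LD3_c5)) = K55.v15555 :=
  Lgr Lrot38 (Lpr_dt (K55.f738001 IH) (Lpn K55.v15555))
def v8202 : LQ := Led Lsl_ft K54.v1911
theorem f670322 : Led Lsl_ft K54.v1911 = v8202 :=
  Lrfl
theorem f670323 : Led Lsl_ff K54.v1911 = v8202 :=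
  Lgr Lrot3 (Lpr_ft (f670322 IH) (Lpn v8202))
theorem f699841 : Led Lsl_bf v8202 = K51.v12954 :=
  Lgr Lrot61 (Lpe (f670323 IH) (Lpe (K54.f549480 IH) (Lpr_ft (K51.f699839 IH) (Lpn K51.v12954))))
theorem f707337 : v8202 = K60.v6350 :=
  Lefun (Lecon (Lfl_bf (f699841 IH)) (K51.f707329 IH)) (K60.f652942 IH)
theorem f506357 : Led Lsl_ef (LP (LK LD1_c1 LD2_c31 LD3_c22)) = K54.v1911 :=
  Lgr Lrot88 (Lpr_et (K54.f506356 IH) (Lpn K54.v1911))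
theorem f702245 : Led Lsl_ef v8202 = K53.v13303 :=
  Lgr Lrot21 (Lpe (f670323 IH) (Lpe (f506357 IH) (Lpr_ft (K36.f449240 IH) (Lpr_et (K35.f177079 IH) (Lpr_ft (K53.f702242 IH) (Lpn K53.v13303))))))
def v17133 : LQ := Led Lsl_gt (LP (LK LD1_c6 LD2_c12 LD3_c7))
theorem f756272 : Led Lsl_gt (LP (LK LD1_c6 LD2_c12 LD3_c7)) = v17133 :=
  Lrfl
theorem f164290 : Led Lsl_et (LP (LK LD1_c9 LD2_c1 LD3_c38)) = (LP (LK LD1_c4 LD2_c31 LD3_c54)) :=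
  Lre_e IH (LK LD1_c9 LD2_c1 LD3_c38) (LK LD1_c4 LD2_c31 LD3_c54) Lrfl Lrfl
theorem f699770 : Led Lsl_dt (LP (LK LD1_c6 LD2_c12 LD3_c10)) = K50.v12949 :=
  Lgr Lrot136 (Lpr_et (K50.f180392 IH) (Lpe (K17.f23044 IH) (Lpr_ef (K32.f59878 IH) (Lpr_dt (K10.f60122 IH) (Lpe (K10.f175847 IH) (Lpe (K10.f175858 IH) (Lpr_gf (K10.f180348 IH) (Lpe (f164290 IH) (Lpe (K36.f164285 IH) (Lpr_gf (K50.f699768 IH) (Lpn K50.v12949)))))))))))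
def v15509 : LQ := Led Lsl_ft (LP (LK LD1_c5 LD2_c40 LD3_c61))
theorem f737810 : Led Lsl_ft (LP (LK LD1_c5 LD2_c40 LD3_c61)) = v15509 :=
  Lrfl
theorem f737811 : Led Lsl_df K50.v4937 = v15509 :=
  Lgr Lrot78 (Lpe (K50.f640986 IH) (Lpe (K36.f177001 IH) (Lpr_ft (f737810 IH) (Lpn v15509))))
theorem f756277 : Led Lsl_et v15509 = v17133 :=
  Lgr Lrot122 (Lpe (f737811 IH) (Lpr_gt (K50.f699769 IH) (Lpe (f699770 IH) (Lpr_et (K50.f180392 IH) (Lpr_gt (K17.f141018 IH) (Lpr_dt (K16.f59970 IH) (Lpr_gt (K17.f59971 IH) (Lpe (K16.f59972 IH) (Lpr_et (K32.f59973 IH) (Lpr_gt (f756272 IH) (Lpn v17133)))))))))))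
theorem f177013 : Led Lsl_et (LP (LK LD1_c2 LD2_c46 LD3_c30)) = (LP (LK LD1_c5 LD2_c40 LD3_c61)) :=
  Lre_e IH (LK LD1_c2 LD2_c46 LD3_c30) (LK LD1_c5 LD2_c40 LD3_c61) Lrfl Lrfl
theorem f756279 : Led Lsl_ff (LP (LK LD1_c9 LD2_c1 LD3_c39)) = v17133 :=
  Lgr Lrot72 (Lpr_et (K35.f177078 IH) (Lpr_ft (K36.f449270 IH) (Lpr_et (f177013 IH) (Lpr_ft (f737810 IH) (Lpr_et (f756277 IH) (Lpn v17133))))))
theorem f756280 : Led Lsl_dt K53.v13303 = v17133 :=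
  Lgr Lrot60 (Lpe (K53.f702242 IH) (Lpe (K39.f177082 IH) (Lpr_ff (f756279 IH) (Lpn v17133))))
theorem f756274 : Led Lsl_gf (LP (LK LD1_c9 LD2_c4 LD3_c15)) = v17133 :=
  Lgr Lrot76 (Lpe (K55.f706856 IH) (Lpe (K55.f443733 IH) (Lpr_gt (f756272 IH) (Lpn v17133))))
theorem f706858 : Led Lsl_dt (LP (LK LD1_c11 LD2_c29 LD3_c23)) = (LP (LK LD1_c9 LD2_c4 LD3_c15)) :=
  Lgr Lrot60 (Lpr_ff (K55.f639760 IH) (Lpr_df (K55.f27042 IH) (Lpr_ff (K55.f706852 IH) (Lpn (LP (LK LD1_c9 LD2_c4 LD3_c15))))))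
theorem f204838 : Led Lsl_et (LP (LK LD1_c11 LD2_c29 LD3_c23)) = (LP (LK LD1_c5 LD2_c50 LD3_c55)) :=
  Lre_e IH (LK LD1_c11 LD2_c29 LD3_c23) (LK LD1_c5 LD2_c50 LD3_c55) Lrfl Lrfl
theorem f406406 : Led Lsl_af (LP (LK LD1_c9 LD2_c6 LD3_c11)) = (LP (LK LD1_c5 LD2_c50 LD3_c56)) :=
  Lgr Lrot0 (Lpr_at (K50.f406404 IH) (Lpn (LP (LK LD1_c5 LD2_c50 LD3_c56))))
theorem f381343 : Led Lsl_ft (LP (LK LD1_c2 LD2_c51 LD3_c39)) = (LP (LK LD1_c5 LD2_c50 LD3_c56)) :=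
  Lre_f IH (LK LD1_c2 LD2_c51 LD3_c39) (LK LD1_c5 LD2_c50 LD3_c56) Lrfl Lrfl
theorem f406414 : Led Lsl_gf (LP (LK LD1_c9 LD2_c6 LD3_c11)) = (LP (LK LD1_c5 LD2_c50 LD3_c55)) :=
  Lgr Lrot76 (Lpr_af (f406406 IH) (Lpe (f381343 IH) (Lpr_gt (K53.f204837 IH) (Lpn (LP (LK LD1_c5 LD2_c50 LD3_c55))))))
theorem f781279 : Led Lsl_et K55.v15555 = K60.v19616 :=
  Lgr Lrot185 (Lpe (f738003 IH) (Lpe (K53.f408235 IH) (Lpe (K53.f242704 IH) (Lpr_gf (f406414 IH) (Lpe (f204838 IH) (Lpr_dt (f706858 IH) (Lpr_gf (f756274 IH) (Lpe (f756280 IH) (Lpe (f702245 IH) (Lpqs (f707337 IH) (Lpr_gf (K60.f781278 IH) (Lpn K60.v19616))))))))))))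
theorem f781282 : Led Lsl_gf K60.v19616 = v4302 :=
  Lgr Lrot141 (Lpe (f781279 IH) (Lpe (f738003 IH) (Lpr_gt (K53.f225946 IH) (Lpe (K35.f226014 IH) (Lpr_et (K35.f204842 IH) (Lpr_gt (K11.f204835 IH) (Lpr_dt (K11.f198625 IH) (Lpe (K11.f198517 IH) (Lpr_df (K39.f198515 IH) (Lpr_et (f632524 IH) (Lpn v4302)))))))))))
def v4999 : LQ := Led Lsl_et (LP (LK LD1_c2 LD2_c55 LD3_c14))
theorem f641265 : Led Lsl_et (LP (LK LD1_c2 LD2_c55 LD3_c14)) = v4999 :=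
  Lrfl
theorem f632527 : Led Lsl_ef (LP (LK LD1_c2 LD2_c19 LD3_c1)) = v4302 :=
  Lgr Lrot88 (Lpr_et (f632524 IH) (Lpn v4302))
theorem f641267 : Led Lsl_bf v4302 = v4999 :=
  Lgr Lrot96 (Lpe (f632527 IH) (Lpe (K54.f549473 IH) (Lpr_et (f641265 IH) (Lpn v4999))))
def v16334 : LQ := Led Lsl_et (LP (LK LD1_c5 LD2_c57 LD3_c49))
theorem f748812 : Led Lsl_et (LP (LK LD1_c5 LD2_c57 LD3_c49)) = v16334 :=
  Lrfl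
theorem f748815 : Led Lsl_ef (LP (LK LD1_c5 LD2_c57 LD3_c49)) = v16334 :=
  Lgr Lrot88 (Lpr_et (f748812 IH) (Lpn v16334))
theorem f748817 : Led Lsl_ct v4999 = v16334 :=
  Lgr Lrot15 (Lpe (f641265 IH) (Lpe (K8.f26565 IH) (Lpr_ef (f748815 IH) (Lpn v16334))))
def v14159 : LQ := Led Lsl_ct (LP (LK LD1_c5 LD2_c0 LD3_c1))
theorem f720563 : Led Lsl_ct (LP (LK LD1_c5 LD2_c0 LD3_c1)) = v14159 :=
  Lrfl
theorem f781284 : Led Lsl_gt v14159 = v16334 :=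
  Lgr Lrot149 (Lpe (f720563 IH) (Lpe (f415211 IH) (Lpe (f414077 IH) (Lpr_ct (K17.f413903 IH) (Lpr_gf (f415170 IH) (Lpe (K60.f706701 IH) (Lpr_bt (K60.f781274 IH) (Lpr_gf (f781282 IH) (Lpr_bf (f641267 IH) (Lpr_ct (f748817 IH) (Lpn v16334)))))))))))
theorem f720556 : Led Lsl_bt (LP (LK LD1_c5 LD2_c0 LD3_c1)) = (LP (LK LD1_c9 LD2_c50 LD3_c35)) :=
  Lre_b IH (LK LD1_c5 LD2_c0 LD3_c1) (LK LD1_c9 LD2_c50 LD3_c35) Lrfl Lrfl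
def v4512 : LQ := Led Lsl_gf (LP (LK LD1_c2 LD2_c22 LD3_c46))
def v24053 : LQ := Led Lsl_ct v4512
theorem f822240 : Led Lsl_ct v4512 = v24053 :=
  Lrfl
def v7988 : LQ := Led Lsl_ft K46.v1567
theorem f669520 : Led Lsl_ft K46.v1567 = v7988 :=
  Lrfl
theorem f669522 : Led Lsl_ff K46.v1567 = v7988 :=
  Lgr Lrot3 (Lpr_ft (f669520 IH) (Lpn v7988))
theorem f203182 : Led Lsl_af (LP (LK LD1_c1 LD2_c21 LD3_c43)) = (LP (LK LD1_c2 LD2_c13 LD3_c52)) :=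
  Lgr Lrot45 (Lpe (K38.f203175 IH) (Lpr_at (K50.f203178 IH) (Lpe (K8.f163554 IH) (Lpn (LP (LK LD1_c2 LD2_c13 LD3_c52))))))
theorem f631718 : Led Lsl_at K46.v1567 = K50.v4184 :=
  Lgr Lrot80 (Lpe (K46.f499989 IH) (Lpr_af (f203182 IH) (Lpr_ef (K50.f631717 IH) (Lpn K50.v4184))))
theorem f669523 : Led Lsl_at K50.v2181 = v7988 :=
  Lgr Lrot66 (Lpe (K60.f653315 IH) (Lpe (f631718 IH) (Lpr_ff (f669522 IH) (Lpn v7988))))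
theorem f634313 : Led Lsl_gf (LP (LK LD1_c2 LD2_c22 LD3_c46)) = v4512 :=
  Lrfl
theorem f454231 : Led Lsl_at (LP (LK LD1_c4 LD2_c49 LD3_c61)) = (LP (LK LD1_c2 LD2_c22 LD3_c46)) :=
  Lre_a IH (LK LD1_c4 LD2_c49 LD3_c61) (LK LD1_c2 LD2_c22 LD3_c46) Lrfl Lrfl
theorem f634314 : Led Lsl_gt (LP (LK LD1_c3 LD2_c21 LD3_c25)) = v4512 :=
  Lgr Lrot5 (Lpr_ft (K50.f454229 IH) (Lpr_at (f454231 IH) (Lpr_gf (f634313 IH) (Lpn v4512))))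
theorem f705943 : v7988 = v4512 :=
  (Llr Lrot26 (Lpe (f669523 IH) (Lpe (K60.f653315 IH) (Lpq (K50.f705942 IH) (Lpe (K50.f634312 IH) (Lpr_gt (f634314 IH) (Lpn v4512))))))).symm
theorem f669517 : Led Lsl_cf K46.v1567 = K60.v7987 :=
  Lgr Lrot39 (Lpe (K46.f499990 IH) (Lpr_ct (K36.f499987 IH) (Lpr_et (K60.f669516 IH) (Lpn K60.v7987))))
theorem f822243 : Led Lsl_ff K60.v7987 = v24053 :=
  Lgr Lrot23 (Lpe (f669517 IH) (Lpr_ft (f669520 IH) (Lpqs (f705943 IH) (Lpr_ct (f822240 IH) (Lpn v24053)))))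
theorem f822245 : Led Lsl_ft K60.v7987 = v24053 :=
  Lgr Lrot48 (Lpr_ff (f822243 IH) (Lpn v24053))
theorem f672100 : Led Lsl_cf K50.v2181 = K60.v8728 :=
  Lgr Lrot11 (Lpr_ct (K60.f672099 IH) (Lpn K60.v8728))
theorem f822241 : Led Lsl_af K60.v8728 = v24053 :=
  Lgr Lrot68 (Lpe (f672100 IH) (Lpr_at (f669523 IH) (Lpqs (f705943 IH) (Lpr_ct (f822240 IH) (Lpn v24053)))))
theorem f843086 : Led Lsl_gf K60.v8728 = v28161 :=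
  Lgr Lrot76 (Lpr_af (f822241 IH) (Lpe (f822245 IH) (Lpr_gt (f843084 IH) (Lpn v28161))))
theorem f843091 : Led Lsl_gf (LP (LK LD1_c9 LD2_c50 LD3_c35)) = K50.v8727 :=
  Lgr Lrot124 (Lpe (f720556 IH) (Lpr_ct (f720563 IH) (Lpr_gt (f781284 IH) (Lpe (f748817 IH) (Lpe (f641267 IH) (Lpe (f781282 IH) (Lpr_ct (f843087 IH) (Lpe (f843086 IH) (Lpe (K60.f672099 IH) (Lpr_bt (K50.f672095 IH) (Lpn K50.v8727)))))))))))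
theorem f698822 : Led Lsl_ft K50.v8727 = K50.v12884 :=
  Lgr Lrot48 (Lpr_ff (K50.f698820 IH) (Lpn K50.v12884))
theorem f158477 : Led Lsl_et (LP (LK LD1_c11 LD2_c33 LD3_c54)) = (LP (LK LD1_c5 LD2_c54 LD3_c3)) :=
  Lre_e IH (LK LD1_c11 LD2_c33 LD3_c54) (LK LD1_c5 LD2_c54 LD3_c3) Lrfl Lrfl
theorem f698811 : Led Lsl_af (LP (LK LD1_c11 LD2_c33 LD3_c54)) = K50.v12884 :=
  Lgr Lrot50 (Lpr_et (f158477 IH) (Lpe (K8.f158860 IH) (Lpr_et (K50.f698810 IH) (Lpn K50.v12884))))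
theorem f843092 : Led Lsl_gt (LP (LK LD1_c9 LD2_c50 LD3_c35)) = (LP (LK LD1_c11 LD2_c33 LD3_c54)) :=
  Lgr Lrot46 (Lpr_gf (f843091 IH) (Lpr_ft (f698822 IH) (Lpe (f698811 IH) (Lpn (LP (LK LD1_c11 LD2_c33 LD3_c54))))))
theorem f843093 : Led Lsl_gt (LP (LK LD1_c9 LD2_c50 LD3_c35)) = (LP (LK LD1_c11 LD2_c33 LD3_c54)) :=
  Leop (Lpe (f843092 IH) (Lpn (LP (LK LD1_c9 LD2_c50 LD3_c35))))
theorem seed_1965 : LEOK LG_g (LK LD1_c9 LD2_c50 LD3_c35) :=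
  Leoe_g (LK LD1_c9 LD2_c50 LD3_c35) (f843093 IH)
def v8050 : LQ := Led Lsl_gt K54.v1715
def v28309 : LQ := Led Lsl_ct v8050
theorem f843621 : Led Lsl_ct v8050 = v28309 :=
  Lrfl
theorem f669788 : Led Lsl_gt K54.v1715 = v8050 :=
  Lrfl
def v15541 : LQ := Led Lsl_gt (LP (LK LD1_c5 LD2_c41 LD3_c30))
theorem f737918 : Led Lsl_gt (LP (LK LD1_c5 LD2_c41 LD3_c30)) = v15541 :=
  Lrfl
theorem f739218 : (LP (LK LD1_c2 LD2_c48 LD3_c42)) = v15541 :=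
  Lefun (Lecon (Lfl_gf (K54.f639122 IH)) (K54.f739216 IH).symm) (f737918 IH)
theorem f639123 : Led Lsl_gt (LP (LK LD1_c5 LD2_c45 LD3_c51)) = (LP (LK LD1_c11 LD2_c22 LD3_c4)) :=
  Lre_g IH (LK LD1_c5 LD2_c45 LD3_c51) (LK LD1_c11 LD2_c22 LD3_c4) Lrfl Lrfl
theorem f639124 : Led Lsl_ct (LP (LK LD1_c11 LD2_c22 LD3_c4)) = (LP (LK LD1_c20 LD2_c19 LD3_c44)) :=
  Lre_c IH (LK LD1_c11 LD2_c22 LD3_c4) (LK LD1_c20 LD2_c19 LD3_c44) Lrfl Lrfl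
theorem f843626 : Led Lsl_df (LP (LK LD1_c20 LD2_c19 LD3_c44)) = v28309 :=
  Lgr Lrot162 (Lpe (f639124 IH) (Lpe (f639123 IH) (Lpe (K54.f444612 IH) (Lpqs (f739218 IH) (Lpe (f737918 IH) (Lpe (K56.f614368 IH) (Lpq (K54.f739226 IH) (Lpe (K54.f500996 IH) (Lpr_ct (K54.f501004 IH) (Lpr_gt (f669788 IH) (Lpr_ct (f843621 IH) (Lpn v28309))))))))))))
theorem f500836 : Led Lsl_ct (LP (LK LD1_c1 LD2_c24 LD3_c8)) = (LP (LK LD1_c0 LD2_c38 LD3_c51)) :=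
  Lre_c IH (LK LD1_c1 LD2_c24 LD3_c8) (LK LD1_c0 LD2_c38 LD3_c51) Lrfl Lrfl
theorem f446003 : Led Lsl_ct (LP (LK LD1_c2 LD2_c48 LD3_c13)) = (LP (LK LD1_c1 LD2_c20 LD3_c20)) :=
  Lre_c IH (LK LD1_c2 LD2_c48 LD3_c13) (LK LD1_c1 LD2_c20 LD3_c20) Lrfl Lrfl
theorem f140827 : Led Lsl_dt (LP (LK LD1_c6 LD2_c0 LD3_c56)) = (LP (LK LD1_c11 LD2_c46 LD3_c23)) :=
  Lre_d IH (LK LD1_c6 LD2_c0 LD3_c56) (LK LD1_c11 LD2_c46 LD3_c23) Lrfl Lrfl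
theorem f140223 : Led Lsl_dt (LP (LK LD1_c11 LD2_c46 LD3_c23)) = (LP (LK LD1_c6 LD2_c0 LD3_c56)) :=
  Lre_d IH (LK LD1_c11 LD2_c46 LD3_c23) (LK LD1_c6 LD2_c0 LD3_c56) Lrfl Lrfl
theorem f564034 : Led Lsl_ct (LP (LK LD1_c20 LD2_c16 LD3_c54)) = (LP (LK LD1_c11 LD2_c46 LD3_c23)) :=
  Lgr Lrot110 (Lpr_gf (K53.f564022 IH) (Lpe (K41.f564024 IH) (Lpe (K41.f564017 IH) (Lpe (K41.f500845 IH) (Lpr_gt (K5.f75884 IH) (Lpr_ct (K9.f140184 IH) (Lpr_gt (K9.f140185 IH) (Lpr_ct (K56.f140218 IH) (Lpe (f140223 IH) (Lpn (LP (LK LD1_c11 LD2_c46 LD3_c23))))))))))))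
theorem f564042 : Led Lsl_cf (LP (LK LD1_c20 LD2_c16 LD3_c54)) = (LP (LK LD1_c11 LD2_c46 LD3_c23)) :=
  Lgr Lrot11 (Lpr_ct (f564034 IH) (Lpn (LP (LK LD1_c11 LD2_c46 LD3_c23))))
theorem f564041 : Led Lsl_dt (LP (LK LD1_c11 LD2_c19 LD3_c48)) = (LP (LK LD1_c20 LD2_c16 LD3_c54)) :=
  Lre_d IH (LK LD1_c11 LD2_c19 LD3_c48) (LK LD1_c20 LD2_c16 LD3_c54) Lrfl Lrfl
theorem f564046 : Led Lsl_gt (LP (LK LD1_c20 LD2_c14 LD3_c46)) = (LP (LK LD1_c11 LD2_c19 LD3_c48)) :=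
  Lre_g IH (LK LD1_c20 LD2_c14 LD3_c46) (LK LD1_c11 LD2_c19 LD3_c48) Lrfl Lrfl
theorem f564047 : Led Lsl_dt (LP (LK LD1_c11 LD2_c18 LD3_c18)) = (LP (LK LD1_c20 LD2_c14 LD3_c46)) :=
  Lre_d IH (LK LD1_c11 LD2_c18 LD3_c18) (LK LD1_c20 LD2_c14 LD3_c46) Lrfl Lrfl
theorem f564051 : Led Lsl_ct (LP (LK LD1_c5 LD2_c44 LD3_c47)) = (LP (LK LD1_c11 LD2_c19 LD3_c40)) :=
  Lre_c IH (LK LD1_c5 LD2_c44 LD3_c47) (LK LD1_c11 LD2_c19 LD3_c40) Lrfl Lrfl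
theorem f564049 : Led Lsl_gt (LP (LK LD1_c11 LD2_c19 LD3_c40)) = (LP (LK LD1_c20 LD2_c16 LD3_c35)) :=
  Lre_g IH (LK LD1_c11 LD2_c19 LD3_c40) (LK LD1_c20 LD2_c16 LD3_c35) Lrfl Lrfl
theorem f749412 : Led Lsl_dt (LP (LK LD1_c20 LD2_c16 LD3_c35)) = (LP (LK LD1_c11 LD2_c46 LD3_c13)) :=
  Lgr Lrot57 (Lpe (f564049 IH) (Lpe (f564051 IH) (Lpr_gt (K52.f564048 IH) (Lpr_dt (f564047 IH) (Lpr_gt (f564046 IH) (Lpr_dt (f564041 IH) (Lpr_cf (f564042 IH) (Lpe (f140827 IH) (Lpr_gf (K56.f749385 IH) (Lpn (LP (LK LD1_c11 LD2_c46 LD3_c13))))))))))))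
theorem f749414 : Led Lsl_gf (LP (LK LD1_c11 LD2_c19 LD3_c44)) = (LP (LK LD1_c20 LD2_c16 LD3_c35)) :=
  Lgr Lrot147 (Lpr_ct (K45.f140483 IH) (Lpr_gt (K45.f140482 IH) (Lpr_ct (f446003 IH) (Lpe (K5.f75864 IH) (Lpe (f500836 IH) (Lpe (K9.f140227 IH) (Lpe (K9.f140186 IH) (Lpr_gf (K56.f749385 IH) (Lpe (f749412 IH) (Lpn (LP (LK LD1_c20 LD2_c16 LD3_c35))))))))))))
theorem f749416 : Led Lsl_df (LP (LK LD1_c20 LD2_c16 LD3_c35)) = (LP (LK LD1_c11 LD2_c46 LD3_c13)) :=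
  Lgr Lrot155 (Lpe (f749414 IH) (Lpr_ct (K45.f140483 IH) (Lpr_gt (K45.f140482 IH) (Lpr_ct (f446003 IH) (Lpr_dt (K41.f383329 IH) (Lpe (f500836 IH) (Lpe (K9.f140227 IH) (Lpe (K9.f140186 IH) (Lpr_gf (K56.f749385 IH) (Lpn (LP (LK LD1_c11 LD2_c46 LD3_c13))))))))))))
theorem f749146 : Led Lsl_cf (LP (LK LD1_c11 LD2_c46 LD3_c13)) = K56.v16395 :=
  Lgr Lrot11 (Lpr_ct (K56.f749145 IH) (Lpn K56.v16395))
theorem f749418 : Led Lsl_cf (LP (LK LD1_c20 LD2_c16 LD3_c35)) = (LP (LK LD1_c20 LD2_c14 LD3_c50)) :=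
  Lgr Lrot99 (Lpr_df (f749416 IH) (Lpr_cf (f749146 IH) (Lpe (K56.f749141 IH) (Lpe (K55.f74649 IH) (Lpe (K53.f75996 IH) (Lpe (K51.f74621 IH) (Lpr_gt (K51.f382410 IH) (Lpr_ct (f645019 IH) (Lpr_gt (K65.f384022 IH) (Lpn (LP (LK LD1_c20 LD2_c14 LD3_c50))))))))))))
theorem f749420 : Led Lsl_ct (LP (LK LD1_c20 LD2_c16 LD3_c35)) = (LP (LK LD1_c20 LD2_c14 LD3_c50)) :=
  Lgr Lrot59 (Lpr_cf (f749418 IH) (Lpn (LP (LK LD1_c20 LD2_c14 LD3_c50))))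
theorem f706090 : Led Lsl_bt (LP (LK LD1_c20 LD2_c16 LD3_c36)) = (LP (LK LD1_c11 LD2_c19 LD3_c40)) :=
  Lre_b IH (LK LD1_c20 LD2_c16 LD3_c36) (LK LD1_c11 LD2_c19 LD3_c40) Lrfl Lrfl
theorem f424026 : Led Lsl_ct (LP (LK LD1_c9 LD2_c2 LD3_c0)) = (LP (LK LD1_c16 LD2_c52 LD3_c0)) :=
  Lre_c IH (LK LD1_c9 LD2_c2 LD3_c0) (LK LD1_c16 LD2_c52 LD3_c0) Lrfl Lrfl
theorem f424027 : Led Lsl_gt (LP (LK LD1_c16 LD2_c52 LD3_c0)) = (LP (LK LD1_c26 LD2_c49 LD3_c4)) :=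
  Lre_g IH (LK LD1_c16 LD2_c52 LD3_c0) (LK LD1_c26 LD2_c49 LD3_c4) Lrfl Lrfl
theorem f749425 : Led Lsl_ct (LP (LK LD1_c20 LD2_c16 LD3_c36)) = (LP (LK LD1_c26 LD2_c49 LD3_c4)) :=
  Lgr Lrot10 (Lpr_bt (f706090 IH) (Lpr_gt (f564049 IH) (Lpr_ct (f749420 IH) (Lpr_gt (K65.f720352 IH) (Lpe (K51.f74614 IH) (Lpr_bt (K51.f74610 IH) (Lpr_gt (K51.f706016 IH) (Lpr_bf (K39.f424020 IH) (Lpr_ct (f424026 IH) (Lpr_gt (f424027 IH) (Lpn (LP (LK LD1_c26 LD2_c49 LD3_c4)))))))))))))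
theorem f639800 : Led Lsl_ct (LP (LK LD1_c16 LD2_c57 LD3_c3)) = (LP (LK LD1_c9 LD2_c5 LD3_c8)) :=
  Lre_c IH (LK LD1_c16 LD2_c57 LD3_c3) (LK LD1_c9 LD2_c5 LD3_c8) Lrfl Lrfl
theorem f640281 : Led Lsl_ct (LP (LK LD1_c5 LD2_c45 LD3_c50)) = (LP (LK LD1_c11 LD2_c22 LD3_c2)) :=
  Lre_c IH (LK LD1_c5 LD2_c45 LD3_c50) (LK LD1_c11 LD2_c22 LD3_c2) Lrfl Lrfl
theorem f640296 : Led Lsl_ff (LP (LK LD1_c16 LD2_c57 LD3_c3)) = (LP (LK LD1_c11 LD2_c22 LD3_c2)) :=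
  Lgr Lrot23 (Lpr_ct (f639800 IH) (Lpr_ft (K54.f640290 IH) (Lpr_ct (f640281 IH) (Lpn (LP (LK LD1_c11 LD2_c22 LD3_c2))))))
theorem f640299 : Led Lsl_at (LP (LK LD1_c16 LD2_c57 LD3_c3)) = (LP (LK LD1_c9 LD2_c5 LD3_c9)) :=
  Lre_a IH (LK LD1_c16 LD2_c57 LD3_c3) (LK LD1_c9 LD2_c5 LD3_c9) Lrfl Lrfl
theorem f640300 : Led Lsl_at (LP (LK LD1_c5 LD2_c45 LD3_c51)) = (LP (LK LD1_c11 LD2_c22 LD3_c2)) :=
  Lre_a IH (LK LD1_c5 LD2_c45 LD3_c51) (LK LD1_c11 LD2_c22 LD3_c2) Lrfl Lrfl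
theorem f640301 : Led Lsl_ft (LP (LK LD1_c9 LD2_c5 LD3_c9)) = (LP (LK LD1_c5 LD2_c45 LD3_c51)) :=
  Lgr Lrot101 (Lpe (f640299 IH) (Lpr_ff (f640296 IH) (Lpe (f640300 IH) (Lpn (LP (LK LD1_c5 LD2_c45 LD3_c51))))))
theorem f640311 : Led Lsl_ff (LP (LK LD1_c9 LD2_c5 LD3_c9)) = (LP (LK LD1_c5 LD2_c45 LD3_c51)) :=
  Lgr Lrot3 (Lpr_ft (f640301 IH) (Lpn (LP (LK LD1_c5 LD2_c45 LD3_c51))))
theorem f640313 : Led Lsl_at (LP (LK LD1_c9 LD2_c5 LD3_c9)) = (LP (LK LD1_c16 LD2_c57 LD3_c3)) :=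
  Lre_a IH (LK LD1_c9 LD2_c5 LD3_c9) (LK LD1_c16 LD2_c57 LD3_c3) Lrfl Lrfl
theorem f640322 : Led Lsl_gf (LP (LK LD1_c16 LD2_c57 LD3_c3)) = (LP (LK LD1_c11 LD2_c22 LD3_c4)) :=
  Lgr Lrot76 (Lpe (f640313 IH) (Lpr_ff (f640311 IH) (Lpr_gt (f639123 IH) (Lpn (LP (LK LD1_c11 LD2_c22 LD3_c4))))))
theorem f639127 : Led Lsl_ct (LP (LK LD1_c20 LD2_c19 LD3_c44)) = (LP (LK LD1_c11 LD2_c22 LD3_c4)) :=
  Lre_c IH (LK LD1_c20 LD2_c19 LD3_c44) (LK LD1_c11 LD2_c22 LD3_c4) Lrfl Lrfl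
theorem f749432 : Led Lsl_bf (LP (LK LD1_c20 LD2_c16 LD3_c35)) = (LP (LK LD1_c20 LD2_c19 LD3_c44)) :=
  Lgr Lrot34 (Lpe (f564049 IH) (Lpe (f706090 IH) (Lpr_ct (f749425 IH) (Lpe (f424027 IH) (Lpe (f424026 IH) (Lpqs (K51.f706241 IH) (Lpe (K51.f698726 IH) (Lpr_bf (K54.f639793 IH) (Lpr_ct (K54.f639802 IH) (Lpr_gf (f640322 IH) (Lpe (f639127 IH) (Lpn (LP (LK LD1_c20 LD2_c19 LD3_c44))))))))))))))
theorem f843627 : Led Lsl_bt (LP (LK LD1_c11 LD2_c46 LD3_c13)) = v28309 :=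
  Lgr Lrot95 (Lpe (f749412 IH) (Lpr_bf (f749432 IH) (Lpr_df (f843626 IH) (Lpn v28309))))
theorem f843629 : Led Lsl_gf (LP (LK LD1_c9 LD2_c50 LD3_c26)) = v28309 :=
  Lgr Lrot124 (Lpr_bf (K53.f719432 IH) (Lpr_ct (K52.f501011 IH) (Lpr_gt (K52.f157163 IH) (Lpe (K31.f116886 IH) (Lpr_bt (K53.f415641 IH) (Lpr_gt (K53.f75996 IH) (Lpr_ct (K55.f74649 IH) (Lpr_gt (K56.f749141 IH) (Lpe (K56.f749145 IH) (Lpr_bt (f843627 IH) (Lpn v28309)))))))))))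
theorem f636096 : Led Lsl_at (LP (LK LD1_c4 LD2_c59 LD3_c58)) = (LP (LK LD1_c9 LD2_c50 LD3_c26)) :=
  Lre_a IH (LK LD1_c4 LD2_c59 LD3_c58) (LK LD1_c9 LD2_c50 LD3_c26) Lrfl Lrfl
def v14148 : LQ := Led Lsl_ft (LP (LK LD1_c4 LD2_c59 LD3_c58))
theorem f720518 : Led Lsl_ft (LP (LK LD1_c4 LD2_c59 LD3_c58)) = v14148 :=
  Lrfl
theorem f720520 : Led Lsl_ff (LP (LK LD1_c4 LD2_c59 LD3_c58)) = v14148 :=
  Lgr Lrot3 (Lpr_ft (f720518 IH) (Lpn v14148))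
theorem f843630 : Led Lsl_gt v14148 = v28309 :=
  Lgr Lrot5 (Lpe (f720520 IH) (Lpr_at (f636096 IH) (Lpr_gf (f843629 IH) (Lpn v28309))))
theorem f720521 : Led Lsl_bt K53.v4551 = v14148 :=
  Lgr Lrot35 (Lpe (K53.f636081 IH) (Lpe (K53.f140717 IH) (Lpr_ff (f720520 IH) (Lpn v14148))))
theorem f719455 : Led Lsl_ct K53.v4551 = K53.v14137 :=
  Lgr Lrot59 (Lpr_cf (K53.f719454 IH) (Lpn K53.v14137))
theorem f843623 : Led Lsl_cf v8050 = v28309 :=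
  Lgr Lrot11 (Lpr_ct (f843621 IH) (Lpn v28309))
theorem f701010 : Led Lsl_at K56.v4228 = K54.v13087 :=
  Lgr Lrot66 (Lpr_ff (K56.f645803 IH) (Lpr_af (K54.f645896 IH) (Lpr_ff (K54.f701009 IH) (Lpn K54.v13087))))
theorem f701013 : Led Lsl_gt v8050 = K54.v13087 :=
  Lgr Lrot46 (Lpe (f669788 IH) (Lpe (K56.f645803 IH) (Lpr_at (f701010 IH) (Lpn K54.v13087))))
theorem f645784 : Led Lsl_bt (LP (LK LD1_c4 LD2_c39 LD3_c9)) = (LP (LK LD1_c2 LD2_c57 LD3_c42)) :=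
  Lgr Lrot35 (Lpr_ff (K53.f645781 IH) (Lpe (K53.f645459 IH) (Lpe (K55.f645601 IH) (Lpn (LP (LK LD1_c2 LD2_c57 LD3_c42))))))
theorem f101630 : Led Lsl_ct (LP (LK LD1_c5 LD2_c57 LD3_c52)) = (LP (LK LD1_c11 LD2_c40 LD3_c30)) :=
  Lre_c IH (LK LD1_c5 LD2_c57 LD3_c52) (LK LD1_c11 LD2_c40 LD3_c30) Lrfl Lrfl
theorem f843631 : Led Lsl_gf K53.v14137 = (LP (LK LD1_c11 LD2_c40 LD3_c30)) :=
  Lgr Lrot126 (Lpe (f719455 IH) (Lpr_bt (f720521 IH) (Lpr_gt (f843630 IH) (Lpe (f843623 IH) (Lpr_gt (f701013 IH) (Lpe (K54.f701006 IH) (Lpr_bt (f645784 IH) (Lpr_gt (K55.f645610 IH) (Lpq (K55.f713933 IH) (Lpr_bf (K51.f101627 IH) (Lpr_ct (f101630 IH) (Lpn (LP (LK LD1_c11 LD2_c40 LD3_c30))))))))))))))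
theorem f719467 : Led Lsl_ff (LP (LK LD1_c4 LD2_c59 LD3_c55)) = K53.v14138 :=
  Lgr Lrot3 (Lpr_ft (K53.f719464 IH) (Lpn K53.v14138))
theorem f77385 : Led Lsl_ct (LP (LK LD1_c4 LD2_c59 LD3_c19)) = (LP (LK LD1_c9 LD2_c49 LD3_c1)) :=
  Lre_c IH (LK LD1_c4 LD2_c59 LD3_c19) (LK LD1_c9 LD2_c49 LD3_c1) Lrfl Lrfl
theorem f714655 : Led Lsl_gt (LP (LK LD1_c9 LD2_c49 LD3_c1)) = (LP (LK LD1_c11 LD2_c40 LD3_c30)) :=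
  Lgr Lrot149 (Lpe (f77385 IH) (Lpe (K9.f77378 IH) (Lpe (K9.f77372 IH) (Lpe (K9.f77374 IH) (Lpr_gf (K9.f77363 IH) (Lpe (K9.f140106 IH) (Lpr_bt (K60.f140102 IH) (Lpr_gf (K55.f632025 IH) (Lpq (K55.f713933 IH) (Lpr_bf (K51.f101627 IH) (Lpr_ct (f101630 IH) (Lpn (LP (LK LD1_c11 LD2_c40 LD3_c30))))))))))))))
theorem f843632 : K53.v14138 = (LP (LK LD1_c9 LD2_c49 LD3_c1)) :=
  (Llr Lrot52 (Lpe (f719467 IH) (Lpr_at (K53.f719452 IH) (Lpr_gf (f843631 IH) (Lpe (f714655 IH) (Lpn (LP (LK LD1_c9 LD2_c49 LD3_c1)))))))).symm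
theorem f843633 : Led Lsl_at (LP (LK LD1_c9 LD2_c49 LD3_c1)) = (LP (LK LD1_c4 LD2_c59 LD3_c59)) :=
  Leop (Lpr_af (K53.f719465 IH) (Lpqs (f843632 IH) (Lpn (LP (LK LD1_c9 LD2_c49 LD3_c1)))))
theorem seed_1966 : LEOK LG_a (LK LD1_c9 LD2_c49 LD3_c1) :=
  Leoe_a (LK LD1_c9 LD2_c49 LD3_c1) (f843633 IH)
def v8091 : LQ := Led Lsl_ct K48.v1800
def v28341 : LQ := Led Lsl_gt v8091
theorem f844013 : Led Lsl_gt v8091 = v28341 :=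
  Lrfl
theorem f669934 : Led Lsl_ct K48.v1800 = v8091 :=
  Lrfl
theorem f669935 : Led Lsl_cf K48.v1800 = v8091 :=
  Lgr Lrot11 (Lpr_ct (f669934 IH) (Lpn v8091))
def v8089 : LQ := Led Lsl_gt K48.v1800
theorem f669932 : Led Lsl_gt K48.v1800 = v8089 :=
  Lrfl
def v18778 : LQ := Led Lsl_et (LP (LK LD1_c6 LD2_c32 LD3_c59))
theorem f768481 : Led Lsl_et (LP (LK LD1_c6 LD2_c32 LD3_c59)) = v18778 :=
  Lrfl
theorem f768484 : Led Lsl_ef (LP (LK LD1_c6 LD2_c32 LD3_c59)) = v18778 :=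
  Lgr Lrot88 (Lpr_et (f768481 IH) (Lpn v18778))
theorem f24931 : Led Lsl_dt (LP (LK LD1_c3 LD2_c19 LD3_c19)) = (LP (LK LD1_c6 LD2_c42 LD3_c40)) :=
  Lre_d IH (LK LD1_c3 LD2_c19 LD3_c19) (LK LD1_c6 LD2_c42 LD3_c40) Lrfl Lrfl
theorem f675168 : Led Lsl_ef (LP (LK LD1_c12 LD2_c50 LD3_c15)) = (LP (LK LD1_c7 LD2_c26 LD3_c54)) :=
  Lgr Lrot17 (Lpe (K65.f432226 IH) (Lpe (K49.f432224 IH) (Lpr_dt (f24931 IH) (Lpr_gf (K49.f675166 IH) (Lpe (K48.f20153 IH) (Lpr_gf (K48.f662760 IH) (Lpr_ef (K48.f438912 IH) (Lpr_dt (K48.f438903 IH) (Lpr_gf (K48.f649906 IH) (Lpr_df (K48.f662916 IH) (Lpn (LP (LK LD1_c7 LD2_c26 LD3_c54)))))))))))))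
theorem f768486 : Led Lsl_bt (LP (LK LD1_c12 LD2_c50 LD3_c15)) = v18778 :=
  Lgr Lrot119 (Lpr_ef (f675168 IH) (Lpe (K58.f662928 IH) (Lpq (K51.f708341 IH) (Lpr_ef (f768484 IH) (Lpn v18778)))))
theorem f705033 : Led Lsl_ff (LP (LK LD1_c12 LD2_c50 LD3_c15)) = K65.v13813 :=
  Lgr Lrot3 (Lpr_ft (K65.f705032 IH) (Lpn K65.v13813))
theorem f708258 : Led Lsl_bf K65.v13813 = K50.v6287 :=
  Lgr Lrot81 (Lpe (K65.f705031 IH) (Lpr_bt (K65.f57617 IH) (Lpr_at (K32.f503233 IH) (Lpr_bt (K51.f705068 IH) (Lpr_at (K51.f708256 IH) (Lpn K50.v6287))))))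
theorem f768487 : Led Lsl_ff K50.v6287 = v18778 :=
  Lgr Lrot25 (Lpe (f708258 IH) (Lpe (f705033 IH) (Lpr_bt (f768486 IH) (Lpn v18778))))
theorem f708257 : Led Lsl_af K51.v13822 = K50.v6287 :=
  Lgr Lrot0 (Lpr_at (K51.f708256 IH) (Lpn K50.v6287))
def v8645 : LQ := Led Lsl_dt K51.v2134
theorem f671885 : Led Lsl_dt K51.v2134 = v8645 :=
  Lrfl
theorem f708814 : Led Lsl_gt v8645 = K51.v13822 :=
  Lgr Lrot139 (Lpe (f671885 IH) (Lpe (K51.f509161 IH) (Lpe (K6.f62576 IH) (Lpr_dt (K51.f62340 IH) (Lpe (K51.f144028 IH) (Lpe (K5.f112960 IH) (Lpr_et (K5.f112962 IH) (Lpq (K63.f708764 IH) (Lpe (K63.f646926 IH) (Lpe (K51.f503510 IH) (Lpr_dt (K51.f705072 IH) (Lpn K51.v13822))))))))))))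
theorem f768489 : Led Lsl_gf v8645 = v18778 :=
  Lgr Lrot47 (Lpr_gt (f708814 IH) (Lpr_af (f708257 IH) (Lpr_ff (f768487 IH) (Lpn v18778))))
theorem f652597 : Led Lsl_ff (LP (LK LD1_c3 LD2_c19 LD3_c56)) = K51.v6290 :=
  Lgr Lrot3 (Lpr_ft (K51.f652594 IH) (Lpn K51.v6290))
theorem f652600 : Led Lsl_dt K51.v2140 = K51.v6290 :=
  Lgr Lrot60 (Lpe (K51.f509197 IH) (Lpe (K50.f62368 IH) (Lpr_ff (f652597 IH) (Lpn K51.v6290))))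
theorem f708289 : K51.v6290 = v8645 :=
  Lefun (Lecon (f652600 IH) (K51.f708283 IH)) (f671885 IH)
theorem f652587 : Led Lsl_ff K50.v3187 = K50.v6288 :=
  Lgr Lrot3 (Lpr_ft (K50.f652586 IH) (Lpn K50.v6288))
theorem f652599 : Led Lsl_at K50.v3187 = K51.v6290 :=
  Lgr Lrot66 (Lpr_ff (f652587 IH) (Lpe (K50.f652582 IH) (Lpr_ff (f652597 IH) (Lpn K51.v6290))))
theorem f768490 : Led Lsl_gt K50.v6288 = v18778 :=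
  Lgr Lrot5 (Lpe (f652587 IH) (Lpr_at (f652599 IH) (Lpqs (f708289 IH) (Lpr_gf (f768489 IH) (Lpn v18778)))))
theorem f671904 : Led Lsl_et (LP (LK LD1_c4 LD2_c47 LD3_c59)) = K51.v8650 :=
  Lgr Lrot87 (Lpr_ef (K51.f671903 IH) (Lpn K51.v8650))
def v5282 : LQ := Led Lsl_gt (LP (LK LD1_c3 LD2_c2 LD3_c59))
theorem f646896 : Led Lsl_gt (LP (LK LD1_c3 LD2_c2 LD3_c59)) = v5282 :=
  Lrfl
theorem f768491 : K51.v13782 = v5282 :=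
  (Llr Lrot56 (Lpe (K51.f704816 IH) (Lpr_et (f671904 IH) (Lpq (K51.f708295 IH) (Lpr_gt (f768490 IH) (Lpe (f768481 IH) (Lpr_dt (K51.f708338 IH) (Lpe (K51.f703231 IH) (Lpr_df (K51.f703243 IH) (Lpr_et (K51.f704623 IH) (Lpe (K51.f708335 IH) (Lpr_dt (K48.f444187 IH) (Lpr_gt (f646896 IH) (Lpn v5282)))))))))))))).symm
theorem f708262 : Led Lsl_et K51.v8769 = K51.v13782 :=
  Lgr Lrot87 (Lpr_ef (K51.f708261 IH) (Lpn K51.v13782))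
def v8664 : LQ := Led Lsl_dt K51.v2139
theorem f671936 : Led Lsl_dt K51.v2139 = v8664 :=
  Lrfl
def v8090 : LQ := Led Lsl_gf K48.v1800
theorem f669933 : Led Lsl_gf K48.v1800 = v8090 :=
  Lrfl
theorem f768492 : v8664 = v8090 :=
  (Llr Lrot171 (Lpe (f671936 IH) (Lpqs (K51.f708131 IH) (Lpe (K51.f668997 IH) (Lpe (K51.f509564 IH) (Lpr_dt (K51.f653171 IH) (Lpe (K51.f653174 IH) (Lpr_df (K51.f672247 IH) (Lpr_et (f708262 IH) (Lpqs (f768491 IH) (Lpe (f646896 IH) (Lpe (K51.f444185 IH) (Lpr_dt (K48.f502977 IH) (Lpr_gf (f669933 IH) (Lpn v8090))))))))))))))).symm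
theorem f671937 : Led Lsl_df K51.v2139 = v8664 :=
  Lgr Lrot38 (Lpr_dt (f671936 IH) (Lpn v8664))
theorem f708300 : v8664 = K51.v11135 :=
  (Llr Lrot78 (Lpe (f671937 IH) (Lpq (K51.f708292 IH) (Lpe (K51.f672241 IH) (Lpr_dt (K51.f672258 IH) (Lpq (K51.f708132 IH) (Lpr_ft (K51.f683227 IH) (Lpn K51.v11135)))))))).symm
theorem f683228 : Led Lsl_ff K51.v3617 = K51.v11135 :=
  Lgr Lrot3 (Lpr_ft (K51.f683227 IH) (Lpn K51.v11135))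
theorem f626437 : Led Lsl_af K51.v968 = K51.v3613 :=
  Lgr Lrot45 (Lpr_ft (K51.f626426 IH) (Lpe (K51.f626425 IH) (Lpr_ft (K51.f626436 IH) (Lpn K51.v3613))))
theorem f683198 : Led Lsl_at K51.v3617 = K51.v11122 :=
  Lgr Lrot80 (Lpe (K51.f626446 IH) (Lpr_af (f626437 IH) (Lpr_ef (K51.f683197 IH) (Lpn K51.v11122))))
theorem f768493 : K51.v11122 = v8089 :=
  (Llr Lrot26 (Lpe (f683198 IH) (Lpr_ff (f683228 IH) (Lpq (f708300 IH) (Lpqs (f768492 IH) (Lpe (f669933 IH) (Lpr_gt (f669932 IH) (Lpn v8089)))))))).symm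
theorem f509560 : Led Lsl_at (LP (LK LD1_c1 LD2_c37 LD3_c7)) = K51.v2195 :=
  Lgr Lrot51 (Lpe (K50.f416185 IH) (Lpe (K46.f450670 IH) (Lpr_df (K51.f509559 IH) (Lpn K51.v2195))))
theorem f668995 : Led Lsl_gf K51.v2195 = K51.v7923 :=
  Lgr Lrot76 (Lpe (f509560 IH) (Lpr_ff (K32.f495180 IH) (Lpr_gt (K51.f668994 IH) (Lpn K51.v7923))))
theorem f454385 : Led Lsl_dt (LP (LK LD1_c6 LD2_c46 LD3_c59)) = (LP (LK LD1_c3 LD2_c21 LD3_c40)) :=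
  Lre_d IH (LK LD1_c6 LD2_c46 LD3_c59) (LK LD1_c3 LD2_c21 LD3_c40) Lrfl Lrfl
theorem f454369 : Led Lsl_ft (LP (LK LD1_c4 LD2_c49 LD3_c45)) = (LP (LK LD1_c3 LD2_c21 LD3_c44)) :=
  Lgr Lrot48 (Lpr_ff (K50.f454352 IH) (Lpn (LP (LK LD1_c3 LD2_c21 LD3_c44))))
theorem f416195 : Led Lsl_gt (LP (LK LD1_c4 LD2_c49 LD3_c45)) = (LP (LK LD1_c9 LD2_c32 LD3_c5)) :=
  Lre_g IH (LK LD1_c4 LD2_c49 LD3_c45) (LK LD1_c9 LD2_c32 LD3_c5) Lrfl Lrfl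
theorem f454375 : Led Lsl_at (LP (LK LD1_c3 LD2_c21 LD3_c44)) = (LP (LK LD1_c6 LD2_c46 LD3_c59)) :=
  Lre_a IH (LK LD1_c3 LD2_c21 LD3_c44) (LK LD1_c6 LD2_c46 LD3_c59) Lrfl Lrfl
theorem f454381 : Led Lsl_gt (LP (LK LD1_c9 LD2_c32 LD3_c5)) = (LP (LK LD1_c6 LD2_c46 LD3_c59)) :=
  Lgr Lrot46 (Lpe (f416195 IH) (Lpr_ft (f454369 IH) (Lpr_at (f454375 IH) (Lpn (LP (LK LD1_c6 LD2_c46 LD3_c59))))))
theorem f844014 : Led Lsl_df (LP (LK LD1_c9 LD2_c32 LD3_c5)) = v28341 :=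
  Lgr Lrot153 (Lpr_gt (f454381 IH) (Lpr_dt (f454385 IH) (Lpe (K51.f454386 IH) (Lpr_df (K51.f509559 IH) (Lpr_gf (f668995 IH) (Lpe (K51.f708304 IH) (Lpq (K51.f709491 IH) (Lpqs (f768493 IH) (Lpe (f669932 IH) (Lpr_cf (f669935 IH) (Lpr_gt (f844013 IH) (Lpn v28341))))))))))))
theorem f416194 : Led Lsl_dt (LP (LK LD1_c2 LD2_c22 LD3_c37)) = (LP (LK LD1_c4 LD2_c49 LD3_c45)) :=
  Lre_d IH (LK LD1_c2 LD2_c22 LD3_c37) (LK LD1_c4 LD2_c49 LD3_c45) Lrfl Lrfl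
theorem f844016 : Led Lsl_ef K60.v8421 = v28341 :=
  Lgr Lrot114 (Lpe (K60.f671178 IH) (Lpe (K60.f507842 IH) (Lpr_dt (K7.f24303 IH) (Lpr_gt (K51.f156467 IH) (Lpe (K4.f109965 IH) (Lpr_et (K4.f109967 IH) (Lpqs (K65.f708440 IH) (Lpe (K65.f634239 IH) (Lpr_dt (f416194 IH) (Lpr_gt (f416195 IH) (Lpr_df (f844014 IH) (Lpn v28341))))))))))))
theorem f844018 : Led Lsl_et K60.v8421 = v28341 :=
  Lgr Lrot87 (Lpr_ef (f844016 IH) (Lpn v28341))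
def v9906 : LQ := Led Lsl_et K60.v3111
theorem f678023 : Led Lsl_et K60.v3111 = v9906 :=
  Lrfl
theorem f678024 : Led Lsl_ef K60.v3111 = v9906 :=
  Lgr Lrot88 (Lpr_et (f678023 IH) (Lpn v9906))
theorem f844019 : Led Lsl_af v9906 = v28341 :=
  Lgr Lrot50 (Lpe (f678024 IH) (Lpr_at (K60.f678014 IH) (Lpqs (K60.f771147 IH) (Lpr_et (f844018 IH) (Lpn v28341)))))
def v6269 : LQ := Led Lsl_gt (LP (LK LD1_c3 LD2_c19 LD3_c47))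
theorem f652515 : Led Lsl_gt (LP (LK LD1_c3 LD2_c19 LD3_c47)) = v6269 :=
  Lrfl
theorem f704659 : Led Lsl_at K51.v6271 = K51.v13751 :=
  Lgr Lrot66 (Lpe (K51.f652517 IH) (Lpe (K4.f120207 IH) (Lpr_ff (K51.f704657 IH) (Lpn K51.v13751))))
theorem f704664 : Led Lsl_gt v6269 = K51.v13751 :=
  Lgr Lrot46 (Lpe (f652515 IH) (Lpr_ft (K51.f652517 IH) (Lpr_at (f704659 IH) (Lpn K51.v13751))))
theorem f707522 : v6269 = K51.v4498 :=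
  Lefun (Lecon (Lfl_gt (f704664 IH)) (K51.f707497 IH)) (K51.f634247 IH)
theorem f634246 : Led Lsl_ft (LP (LK LD1_c3 LD2_c21 LD3_c40)) = K51.v4498 :=
  Lgr Lrot48 (Lpr_ff (K51.f634243 IH) (Lpn K51.v4498))
theorem f705789 : Led Lsl_dt K51.v4498 = K50.v13901 :=
  Lgr Lrot60 (Lpe (f634246 IH) (Lpe (f454385 IH) (Lpr_ff (K50.f705784 IH) (Lpn K50.v13901))))
theorem f454780 : Led Lsl_gt (LP (LK LD1_c6 LD2_c47 LD3_c7)) = (LP (LK LD1_c3 LD2_c21 LD3_c44)) :=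
  Lre_g IH (LK LD1_c6 LD2_c47 LD3_c7) (LK LD1_c3 LD2_c21 LD3_c44) Lrfl Lrfl
theorem f705792 : Led Lsl_gf (LP (LK LD1_c6 LD2_c47 LD3_c7)) = K50.v13901 :=
  Lgr Lrot47 (Lpr_gt (f454780 IH) (Lpe (K50.f454364 IH) (Lpr_ff (K50.f705784 IH) (Lpn K50.v13901))))
theorem f715540 : Led Lsl_dt v9906 = (LP (LK LD1_c6 LD2_c47 LD3_c7)) :=
  Lgr Lrot56 (Lpe (f678024 IH) (Lpe (K60.f623912 IH) (Lpe (K60.f453732 IH) (Lpr_dt (K44.f24192 IH) (Lpr_gt (K4.f24156 IH) (Lpr_df (K51.f120492 IH) (Lpr_et (K51.f103553 IH) (Lpr_gt (f652515 IH) (Lpqs (f707522 IH) (Lpr_dt (f705789 IH) (Lpe (f705792 IH) (Lpn (LP (LK LD1_c6 LD2_c47 LD3_c7))))))))))))))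
def v19821 : LQ := Led Lsl_ft (LP (LK LD1_c6 LD2_c47 LD3_c6))
theorem f782323 : Led Lsl_ft (LP (LK LD1_c6 LD2_c47 LD3_c6)) = v19821 :=
  Lrfl
theorem f782325 : Led Lsl_ff (LP (LK LD1_c6 LD2_c47 LD3_c6)) = v19821 :=
  Lgr Lrot3 (Lpr_ft (f782323 IH) (Lpn v19821))
def v19820 : LQ := Led Lsl_at (LP (LK LD1_c6 LD2_c47 LD3_c6))
theorem f782315 : Led Lsl_at (LP (LK LD1_c6 LD2_c47 LD3_c6)) = v19820 :=
  Lrfl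
theorem f782316 : Led Lsl_af (LP (LK LD1_c6 LD2_c47 LD3_c6)) = v19820 :=
  Lgr Lrot0 (Lpr_at (f782315 IH) (Lpn v19820))
theorem f454371 : Led Lsl_gt (LP (LK LD1_c3 LD2_c21 LD3_c44)) = (LP (LK LD1_c6 LD2_c47 LD3_c6)) :=
  Lre_g IH (LK LD1_c3 LD2_c21 LD3_c44) (LK LD1_c6 LD2_c47 LD3_c6) Lrfl Lrfl
theorem f782321 : Led Lsl_ft (LP (LK LD1_c6 LD2_c47 LD3_c7)) = v19820 :=
  Lgr Lrot2 (Lpr_gt (f454780 IH) (Lpr_gt (f454371 IH) (Lpr_af (f782316 IH) (Lpn v19820))))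
theorem f782322 : Led Lsl_ff (LP (LK LD1_c6 LD2_c47 LD3_c7)) = v19820 :=
  Lgr Lrot3 (Lpr_ft (f782321 IH) (Lpn v19820))
theorem f782326 : Led Lsl_at (LP (LK LD1_c6 LD2_c47 LD3_c7)) = v19821 :=
  Lgr Lrot66 (Lpr_ff (f782322 IH) (Lpe (f782315 IH) (Lpr_ff (f782325 IH) (Lpn v19821))))
theorem f844015 : Led Lsl_dt (LP (LK LD1_c9 LD2_c32 LD3_c5)) = v28341 :=
  Lgr Lrot42 (Lpr_df (f844014 IH) (Lpn v28341))
theorem f844021 : v19821 = (LP (LK LD1_c9 LD2_c32 LD3_c5)) :=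
  (Llr Lrot51 (Lpe (f782326 IH) (Lpe (f715540 IH) (Lpr_af (f844019 IH) (Lpe (f844015 IH) (Lpn (LP (LK LD1_c9 LD2_c32 LD3_c5)))))))).symm
theorem f782324 : Led Lsl_af (LP (LK LD1_c6 LD2_c47 LD3_c7)) = v19821 :=
  Lgr Lrot45 (Lpr_ft (f782321 IH) (Lpe (f782316 IH) (Lpr_ft (f782323 IH) (Lpn v19821))))
theorem f844022 : Led Lsl_at (LP (LK LD1_c9 LD2_c32 LD3_c5)) = (LP (LK LD1_c6 LD2_c47 LD3_c7)) :=
  Leop (Lpr_af (f782324 IH) (Lpqs (f844021 IH) (Lpn (LP (LK LD1_c9 LD2_c32 LD3_c5)))))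
theorem seed_1967 : LEOK LG_a (LK LD1_c9 LD2_c32 LD3_c5) :=
  Leoe_a (LK LD1_c9 LD2_c32 LD3_c5) (f844022 IH)
def v8148 : LQ := Led Lsl_bt K59.v1858
def v28396 : LQ := Led Lsl_ct v8148
theorem f844397 : Led Lsl_ct v8148 = v28396 :=
  Lrfl
def v25879 : LQ := Led Lsl_ft K65.v5991
theorem f830961 : Led Lsl_ft K65.v5991 = v25879 :=
  Lrfl
theorem f830965 : Led Lsl_ff K65.v5991 = v25879 :=
  Lgr Lrot3 (Lpr_ft (f830961 IH) (Lpn v25879))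
theorem f650413 : Led Lsl_bf (LP (LK LD1_c3 LD2_c16 LD3_c1)) = K65.v5991 :=
  Lgr Lrot93 (Lpr_dt (K4.f110203 IH) (Lpr_bt (K59.f118528 IH) (Lpr_dt (K65.f650412 IH) (Lpn K65.v5991))))
theorem f830966 : Led Lsl_bt K46.v5998 = v25879 :=
  Lgr Lrot35 (Lpe (K46.f650442 IH) (Lpr_bf (f650413 IH) (Lpr_ff (f830965 IH) (Lpn v25879))))
theorem f777615 : Led Lsl_cf (LP (LK LD1_c6 LD2_c37 LD3_c19)) = K61.v19059 :=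
  Lgr Lrot11 (Lpr_ct (K61.f777613 IH) (Lpn K61.v19059))
def v21476 : LQ := Led Lsl_gf (LP (LK LD1_c7 LD2_c20 LD3_c10))
theorem f797445 : Led Lsl_gf (LP (LK LD1_c7 LD2_c20 LD3_c10)) = v21476 :=
  Lrfl
theorem f701212 : Led Lsl_bf (LP (LK LD1_c7 LD2_c20 LD3_c10)) = K58.v13120 :=
  Lgr Lrot93 (Lpr_dt (K65.f115143 IH) (Lpe (K5.f114993 IH) (Lpr_dt (K58.f701210 IH) (Lpn K58.v13120))))
theorem f701218 : Led Lsl_et (LP (LK LD1_c4 LD2_c40 LD3_c12)) = K58.v13120 :=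
  Lgr Lrot87 (Lpr_ef (K58.f701214 IH) (Lpn K58.v13120))
theorem f58064 : Led Lsl_et (LP (LK LD1_c9 LD2_c28 LD3_c17)) = (LP (LK LD1_c4 LD2_c47 LD3_c39)) :=
  Lre_e IH (LK LD1_c9 LD2_c28 LD3_c17) (LK LD1_c4 LD2_c47 LD3_c39) Lrfl Lrfl
theorem f701220 : Led Lsl_cf (LP (LK LD1_c9 LD2_c28 LD3_c17)) = K58.v13120 :=
  Lgr Lrot39 (Lpr_et (f58064 IH) (Lpr_ct (K7.f115152 IH) (Lpr_et (f701218 IH) (Lpn K58.v13120))))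
def v13609 : LQ := Led Lsl_bt (LP (LK LD1_c4 LD2_c45 LD3_c56))
theorem f703893 : Led Lsl_bt (LP (LK LD1_c4 LD2_c45 LD3_c56)) = v13609 :=
  Lrfl
def v13636 : LQ := Led Lsl_bt (LP (LK LD1_c4 LD2_c46 LD3_c10))
theorem f704001 : Led Lsl_bt (LP (LK LD1_c4 LD2_c46 LD3_c10)) = v13636 :=
  Lrfl
theorem f703894 : Led Lsl_bf (LP (LK LD1_c4 LD2_c45 LD3_c56)) = v13609 :=
  Lgr Lrot24 (Lpr_bt (f703893 IH) (Lpn v13609))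
theorem f704004 : Led Lsl_ef v13609 = v13636 :=
  Lgr Lrot29 (Lpe (f703894 IH) (Lpr_et (K58.f435798 IH) (Lpr_bt (f704001 IH) (Lpn v13636))))
theorem f633267 : Led Lsl_bf (LP (LK LD1_c2 LD2_c21 LD3_c5)) = K59.v4418 :=
  Lgr Lrot24 (Lpr_bt (K59.f633266 IH) (Lpn K59.v4418))
theorem f704003 : Led Lsl_df K59.v4418 = v13636 :=
  Lgr Lrot12 (Lpe (f633267 IH) (Lpr_dt (K57.f435797 IH) (Lpr_bt (f704001 IH) (Lpn v13636))))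
theorem f704006 : Led Lsl_dt K59.v4418 = v13636 :=
  Lgr Lrot42 (Lpr_df (f704003 IH) (Lpn v13636))
theorem f770948 : v13636 = (LP (LK LD1_c3 LD2_c17 LD3_c21)) :=
  Lefun (Lecon (f704006 IH) (K59.f770937 IH).symm) (K46.f119400 IH)
theorem f770957 : v13609 = (LP (LK LD1_c3 LD2_c16 LD3_c58)) :=
  Lefun (Lecon (Lfl_ef (f704004 IH)) (f770948 IH)) (K46.f155212 IH)
theorem f797447 : Led Lsl_bt K61.v19059 = v21476 :=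
  Lgr Lrot22 (Lpe (f777615 IH) (Lpr_gf (K59.f776761 IH) (Lpe (K65.f776760 IH) (Lpe (K49.f650463 IH) (Lpq (f770957 IH) (Lpe (f703893 IH) (Lpr_ct (K60.f435793 IH) (Lpe (K60.f779976 IH) (Lpr_cf (f701220 IH) (Lpe (f701212 IH) (Lpr_gf (f797445 IH) (Lpn v21476))))))))))))
theorem f770616 : Led Lsl_ct (LP (LK LD1_c7 LD2_c20 LD3_c10)) = (LP (LK LD1_c12 LD2_c50 LD3_c12)) :=
  Lgr Lrot59 (Lpr_cf (K58.f770611 IH) (Lpn (LP (LK LD1_c12 LD2_c50 LD3_c12))))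
theorem f500080 : Led Lsl_ct (LP (LK LD1_c3 LD2_c19 LD3_c19)) = (LP (LK LD1_c6 LD2_c42 LD3_c39)) :=
  Lre_c IH (LK LD1_c3 LD2_c19 LD3_c19) (LK LD1_c6 LD2_c42 LD3_c39) Lrfl Lrfl
theorem f830969 : Led Lsl_gt K65.v6236 = v25879 :=
  Lgr Lrot164 (Lpe (K65.f652243 IH) (Lpr_ct (f500080 IH) (Lpe (K58.f652059 IH) (Lpe (f770616 IH) (Lpr_gf (f797445 IH) (Lpe (f797447 IH) (Lpe (f777615 IH) (Lpr_gf (K59.f776761 IH) (Lpe (K65.f776760 IH) (Lpr_bt (f830966 IH) (Lpn v25879)))))))))))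
theorem f115142 : Led Lsl_et (LP (LK LD1_c3 LD2_c40 LD3_c0)) = (LP (LK LD1_c7 LD2_c20 LD3_c10)) :=
  Lre_e IH (LK LD1_c3 LD2_c40 LD3_c0) (LK LD1_c7 LD2_c20 LD3_c10) Lrfl Lrfl
theorem f701216 : Led Lsl_bt (LP (LK LD1_c7 LD2_c20 LD3_c10)) = K58.v13120 :=
  Lgr Lrot119 (Lpe (f115142 IH) (Lpr_bf (K5.f115135 IH) (Lpr_ef (K58.f701214 IH) (Lpn K58.v13120))))
def v25878 : LQ := Led Lsl_ct K65.v5991
theorem f830951 : Led Lsl_ct K65.v5991 = v25878 :=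
  Lrfl
theorem f830953 : Led Lsl_cf K65.v5991 = v25878 :=
  Lgr Lrot11 (Lpr_ct (f830951 IH) (Lpn v25878))
theorem f764559 : Led Lsl_af K65.v5991 = K65.v17991 :=
  Lgr Lrot117 (Lpe (K65.f650414 IH) (Lpe (K59.f440305 IH) (Lpr_dt (K65.f764558 IH) (Lpn K65.v17991))))
def v5452 : LQ := Led Lsl_ct (LP (LK LD1_c3 LD2_c7 LD3_c59))
def v25317 : LQ := Led Lsl_gf v5452
theorem f828018 : Led Lsl_gf v5452 = v25317 :=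
  Lrfl
def v25256 : LQ := Led Lsl_ct K59.v5399
theorem f827760 : Led Lsl_ct K59.v5399 = v25256 :=
  Lrfl
theorem f647706 : Led Lsl_ct (LP (LK LD1_c3 LD2_c7 LD3_c59)) = v5452 :=
  Lrfl
theorem f647707 : Led Lsl_cf (LP (LK LD1_c3 LD2_c7 LD3_c59)) = v5452 :=
  Lgr Lrot11 (Lpr_ct (f647706 IH) (Lpn v5452))
theorem f827761 : Led Lsl_af v5452 = v25256 :=
  Lgr Lrot68 (Lpe (f647707 IH) (Lpr_at (K59.f647699 IH) (Lpqs (K59.f771136 IH) (Lpr_ct (f827760 IH) (Lpn v25256)))))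
def v8149 : LQ := Led Lsl_ct K59.v1858
theorem f670182 : Led Lsl_ct K59.v1858 = v8149 :=
  Lrfl
theorem f670183 : Led Lsl_cf K59.v1858 = v8149 :=
  Lgr Lrot11 (Lpr_ct (f670182 IH) (Lpn v8149))
theorem f827764 : Led Lsl_ff v8149 = v25256 :=
  Lgr Lrot23 (Lpe (f670183 IH) (Lpr_ft (K59.f647704 IH) (Lpqs (K59.f771136 IH) (Lpr_ct (f827760 IH) (Lpn v25256)))))
theorem f827765 : Led Lsl_ft v8149 = v25256 :=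
  Lgr Lrot48 (Lpr_ff (f827764 IH) (Lpn v25256))
theorem f828019 : Led Lsl_gt v8149 = v25317 :=
  Lgr Lrot5 (Lpr_ft (f827765 IH) (Lpe (f827761 IH) (Lpr_gf (f828018 IH) (Lpn v25317))))
theorem f647394 : Led Lsl_gf K59.v1858 = K59.v5402 :=
  Lgr Lrot47 (Lpe (K59.f504606 IH) (Lpe (K65.f154049 IH) (Lpr_ff (K65.f647390 IH) (Lpn K59.v5402))))
theorem f152500 : Led Lsl_dt (LP (LK LD1_c1 LD2_c29 LD3_c54)) = (LP (LK LD1_c3 LD2_c7 LD3_c22)) :=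
  Lre_d IH (LK LD1_c1 LD2_c29 LD3_c54) (LK LD1_c3 LD2_c7 LD3_c22) Lrfl Lrfl
theorem f435540 : Led Lsl_ft (LP (LK LD1_c3 LD2_c7 LD3_c23)) = (LP (LK LD1_c1 LD2_c29 LD3_c54)) :=
  Lre_f IH (LK LD1_c3 LD2_c7 LD3_c23) (LK LD1_c1 LD2_c29 LD3_c54) Lrfl Lrfl
theorem f647389 : Led Lsl_df (LP (LK LD1_c3 LD2_c7 LD3_c23)) = K59.v5402 :=
  Lgr Lrot78 (Lpr_ft (f435540 IH) (Lpr_dt (f152500 IH) (Lpr_ft (K59.f647387 IH) (Lpn K59.v5402))))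
theorem f504599 : Led Lsl_gt (LP (LK LD1_c3 LD2_c7 LD3_c23)) = (LP (LK LD1_c1 LD2_c30 LD3_c8)) :=
  Lre_g IH (LK LD1_c3 LD2_c7 LD3_c23) (LK LD1_c1 LD2_c30 LD3_c8) Lrfl Lrfl
def v5431 : LQ := Led Lsl_gf (LP (LK LD1_c3 LD2_c7 LD3_c53))
theorem f647606 : Led Lsl_gf (LP (LK LD1_c3 LD2_c7 LD3_c53)) = v5431 :=
  Lrfl
theorem f647617 : Led Lsl_gt (LP (LK LD1_c3 LD2_c7 LD3_c57)) = v5431 :=
  Lgr Lrot5 (Lpr_ft (K46.f647614 IH) (Lpe (K46.f647611 IH) (Lpr_gf (f647606 IH) (Lpn v5431))))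
theorem f504587 : Led Lsl_bt (LP (LK LD1_c1 LD2_c30 LD3_c7)) = (LP (LK LD1_c3 LD2_c7 LD3_c52)) :=
  Lre_b IH (LK LD1_c1 LD2_c30 LD3_c7) (LK LD1_c3 LD2_c7 LD3_c52) Lrfl Lrfl
theorem f761930 : Led Lsl_cf v5431 = K57.v6213 :=
  Lgr Lrot160 (Lpe (f647606 IH) (Lpe (K46.f419113 IH) (Lpr_bt (f504587 IH) (Lpr_gt (K57.f444009 IH) (Lpqs (K59.f761926 IH) (Lpr_ct (K57.f704707 IH) (Lpr_gt (K57.f704740 IH) (Lpe (K57.f633472 IH) (Lpr_bt (K57.f633493 IH) (Lpr_gt (K57.f704776 IH) (Lpe (K59.f704781 IH) (Lpn K57.v6213))))))))))))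
theorem f771958 : v5431 = (LP (LK LD1_c6 LD2_c19 LD3_c51)) :=
  Lefun (Lecon (Lfl_cf (f761930 IH)) (K59.f771868 IH).symm) (K59.f440303 IH)
theorem f828020 : Led Lsl_cf K65.v17991 = v25317 :=
  Lgr Lrot99 (Lpe (K65.f764558 IH) (Lpr_cf (K59.f440309 IH) (Lpq (f771958 IH) (Lpe (f647617 IH) (Lpe (K46.f504595 IH) (Lpe (f504599 IH) (Lpr_df (f647389 IH) (Lpe (f647394 IH) (Lpr_ct (f670182 IH) (Lpr_gt (f828019 IH) (Lpn v25317)))))))))))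
theorem f830952 : Led Lsl_af v25317 = v25878 :=
  Lgr Lrot68 (Lpe (f828020 IH) (Lpe (f764559 IH) (Lpr_ct (f830951 IH) (Lpn v25878))))
def v25316 : LQ := Led Lsl_gt v5452
theorem f828016 : Led Lsl_gt v5452 = v25316 :=
  Lrfl
def v25257 : LQ := Led Lsl_ct K59.v5400
theorem f827768 : Led Lsl_ct K59.v5400 = v25257 :=
  Lrfl
theorem f827771 : Led Lsl_ff v5452 = v25257 :=
  Lgr Lrot23 (Lpe (f647707 IH) (Lpr_ft (K59.f647710 IH) (Lpqs (K59.f771137 IH) (Lpr_ct (f827768 IH) (Lpn v25257)))))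
theorem f827773 : Led Lsl_ft v5452 = v25257 :=
  Lgr Lrot48 (Lpr_ff (f827771 IH) (Lpn v25257))
theorem f827769 : Led Lsl_af v8149 = v25257 :=
  Lgr Lrot68 (Lpe (f670183 IH) (Lpr_at (K59.f647713 IH) (Lpqs (K59.f771137 IH) (Lpr_ct (f827768 IH) (Lpn v25257)))))
theorem f828017 : Led Lsl_gf v8149 = v25316 :=
  Lgr Lrot76 (Lpr_af (f827769 IH) (Lpe (f827773 IH) (Lpr_gt (f828016 IH) (Lpn v25316))))
theorem f830959 : Led Lsl_ft v25316 = v25878 :=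
  Lgr Lrot2 (Lpe (f828017 IH) (Lpr_gt (f828019 IH) (Lpr_af (f830952 IH) (Lpn v25878))))
theorem f830963 : Led Lsl_cf v25316 = v25879 :=
  Lgr Lrot108 (Lpr_ft (f830959 IH) (Lpe (f830953 IH) (Lpr_ft (f830961 IH) (Lpn v25879))))
theorem f670180 : Led Lsl_bt K59.v1858 = v8148 :=
  Lrfl
theorem f830970 : Led Lsl_gf K58.v13120 = v8148 :=
  Lgr Lrot124 (Lpe (f701216 IH) (Lpr_ct (f770616 IH) (Lpr_gt (K58.f652059 IH) (Lpe (f500080 IH) (Lpr_bt (K65.f652243 IH) (Lpr_gt (f830969 IH) (Lpe (f830963 IH) (Lpe (f828017 IH) (Lpe (f670182 IH) (Lpr_bt (f670180 IH) (Lpn v8148)))))))))))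
theorem f133426 : Led Lsl_af (LP (LK LD1_c4 LD2_c40 LD3_c12)) = (LP (LK LD1_c6 LD2_c17 LD3_c18)) :=
  Lgr Lrot68 (Lpe (K5.f115147 IH) (Lpr_at (K5.f133419 IH) (Lpe (K5.f133306 IH) (Lpn (LP (LK LD1_c6 LD2_c17 LD3_c18))))))
theorem f133439 : Led Lsl_at (LP (LK LD1_c4 LD2_c40 LD3_c12)) = (LP (LK LD1_c6 LD2_c17 LD3_c18)) :=
  Lgr Lrot100 (Lpr_af (f133426 IH) (Lpn (LP (LK LD1_c6 LD2_c17 LD3_c18))))
theorem f701215 : Led Lsl_at (LP (LK LD1_c12 LD2_c11 LD3_c5)) = K58.v13120 :=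
  Lgr Lrot80 (Lpe (K59.f79408 IH) (Lpe (f133439 IH) (Lpr_ef (K58.f701214 IH) (Lpn K58.v13120))))
def v17609 : LQ := Led Lsl_dt (LP (LK LD1_c6 LD2_c20 LD3_c44))
theorem f761095 : Led Lsl_dt (LP (LK LD1_c6 LD2_c20 LD3_c44)) = v17609 :=
  Lrfl
theorem f761097 : Led Lsl_df (LP (LK LD1_c6 LD2_c20 LD3_c44)) = v17609 :=
  Lgr Lrot38 (Lpr_dt (f761095 IH) (Lpn v17609))
theorem f775468 : Led Lsl_ff v17609 = (LP (LK LD1_c12 LD2_c11 LD3_c5)) :=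
  Lgr Lrot19 (Lpe (f761097 IH) (Lpq (K57.f760042 IH) (Lpq (K58.f769935 IH) (Lpe (K58.f758136 IH) (Lpr_dt (K4.f79407 IH) (Lpn (LP (LK LD1_c12 LD2_c11 LD3_c5))))))))
theorem f775469 : Led Lsl_ft v17609 = (LP (LK LD1_c12 LD2_c11 LD3_c5)) :=
  Lgr Lrot48 (Lpr_ff (f775468 IH) (Lpn (LP (LK LD1_c12 LD2_c11 LD3_c5))))
theorem f830971 : Led Lsl_gt v17609 = v8148 :=
  Lgr Lrot5 (Lpr_ft (f775469 IH) (Lpr_at (f701215 IH) (Lpr_gf (f830970 IH) (Lpn v8148))))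
def v17614 : LQ := Led Lsl_gt (LP (LK LD1_c6 LD2_c20 LD3_c46))
theorem f761120 : Led Lsl_gt (LP (LK LD1_c6 LD2_c20 LD3_c46)) = v17614 :=
  Lrfl
theorem f770571 : (LP (LK LD1_c4 LD2_c45 LD3_c2)) = v17614 :=
  Lefun (Lecon (Lfl_gf (K58.f703474 IH)) (K58.f770551 IH).symm) (f761120 IH)
theorem f113647 : Led Lsl_ct (LP (LK LD1_c4 LD2_c45 LD3_c2)) = (LP (LK LD1_c2 LD2_c20 LD3_c41)) :=
  Lre_c IH (LK LD1_c4 LD2_c45 LD3_c2) (LK LD1_c2 LD2_c20 LD3_c41) Lrfl Lrfl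
theorem f844401 : Led Lsl_gf (LP (LK LD1_c9 LD2_c22 LD3_c53)) = v28396 :=
  Lgr Lrot104 (Lpr_ct (K4.f102142 IH) (Lpe (K4.f102145 IH) (Lpe (f113647 IH) (Lpqs (f770571 IH) (Lpe (f761120 IH) (Lpe (K58.f419110 IH) (Lpe (K57.f647621 IH) (Lpr_df (f761097 IH) (Lpr_gt (f830971 IH) (Lpr_ct (f844397 IH) (Lpn v28396)))))))))))
theorem f102152 : Led Lsl_gt (LP (LK LD1_c9 LD2_c22 LD3_c53)) = (LP (LK LD1_c17 LD2_c19 LD3_c17)) :=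
  Lre_g IH (LK LD1_c9 LD2_c22 LD3_c53) (LK LD1_c17 LD2_c19 LD3_c17) Lrfl Lrfl
def v25255 : LQ := Led Lsl_bt K59.v5399
theorem f827751 : Led Lsl_bt K59.v5399 = v25255 :=
  Lrfl
theorem f670181 : Led Lsl_bf K59.v1858 = v8148 :=
  Lgr Lrot24 (Lpr_bt (f670180 IH) (Lpn v8148))
theorem f827754 : Led Lsl_ff v8148 = v25255 :=
  Lgr Lrot25 (Lpe (f670181 IH) (Lpr_ft (K59.f647704 IH) (Lpqs (K59.f771136 IH) (Lpr_bt (f827751 IH) (Lpn v25255)))))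
theorem f827752 : Led Lsl_bf K59.v5399 = v25255 :=
  Lgr Lrot24 (Lpr_bt (f827751 IH) (Lpn v25255))
theorem f153507 : Led Lsl_gt (LP (LK LD1_c3 LD2_c8 LD3_c57)) = (LP (LK LD1_c4 LD2_c42 LD3_c12)) :=
  Lgr Lrot5 (Lpr_ft (K7.f153502 IH) (Lpr_at (K7.f153486 IH) (Lpe (K50.f153506 IH) (Lpn (LP (LK LD1_c4 LD2_c42 LD3_c12))))))
theorem f78441 : Led Lsl_gt (LP (LK LD1_c4 LD2_c45 LD3_c57)) = (LP (LK LD1_c9 LD2_c24 LD3_c23)) :=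
  Lre_g IH (LK LD1_c4 LD2_c45 LD3_c57) (LK LD1_c9 LD2_c24 LD3_c23) Lrfl Lrfl
theorem f827758 : Led Lsl_cf (LP (LK LD1_c9 LD2_c24 LD3_c23)) = v25255 :=
  Lgr Lrot163 (Lpe (f78441 IH) (Lpe (K4.f78448 IH) (Lpr_gf (K58.f633249 IH) (Lpqs (K58.f770956 IH) (Lpe (K58.f634031 IH) (Lpe (K50.f415357 IH) (Lpe (f153507 IH) (Lpe (K50.f153513 IH) (Lpr_bt (K59.f504618 IH) (Lpe (K59.f647391 IH) (Lpr_bf (f827752 IH) (Lpn v25255))))))))))))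
theorem f827759 : Led Lsl_ct (LP (LK LD1_c9 LD2_c24 LD3_c23)) = v25255 :=
  Lgr Lrot59 (Lpr_cf (f827758 IH) (Lpn v25255))
theorem f844400 : Led Lsl_ff (LP (LK LD1_c9 LD2_c24 LD3_c23)) = v28396 :=
  Lgr Lrot23 (Lpr_ct (f827759 IH) (Lpe (f827754 IH) (Lpr_ct (f844397 IH) (Lpn v28396))))
theorem f844403 : Led Lsl_af (LP (LK LD1_c17 LD2_c19 LD3_c17)) = (LP (LK LD1_c9 LD2_c24 LD3_c23)) :=
  Lgr Lrot31 (Lpe (f102152 IH) (Lpr_gf (f844401 IH) (Lpe (f844400 IH) (Lpn (LP (LK LD1_c9 LD2_c24 LD3_c23))))))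
theorem f844404 : Led Lsl_at (LP (LK LD1_c9 LD2_c24 LD3_c23)) = (LP (LK LD1_c17 LD2_c19 LD3_c17)) :=
  Leop (Lpr_af (f844403 IH) (Lpn (LP (LK LD1_c9 LD2_c24 LD3_c23))))
theorem seed_1968 : LEOK LG_a (LK LD1_c9 LD2_c24 LD3_c23) :=
  Leoe_a (LK LD1_c9 LD2_c24 LD3_c23) (f844404 IH)
theorem f844405 : Led Lsl_at (LP (LK LD1_c17 LD2_c19 LD3_c17)) = (LP (LK LD1_c9 LD2_c24 LD3_c23)) :=
  Lgr Lrot100 (Lpr_af (f844403 IH) (Lpn (LP (LK LD1_c9 LD2_c24 LD3_c23))))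
theorem f78443 : Led Lsl_gt (LP (LK LD1_c9 LD2_c24 LD3_c24)) = (LP (LK LD1_c4 LD2_c45 LD3_c57)) :=
  Lre_g IH (LK LD1_c9 LD2_c24 LD3_c24) (LK LD1_c4 LD2_c45 LD3_c57) Lrfl Lrfl
theorem f844407 : Led Lsl_ff (LP (LK LD1_c17 LD2_c19 LD3_c17)) = (LP (LK LD1_c9 LD2_c24 LD3_c24)) :=
  Lgr Lrot52 (Lpr_at (f844405 IH) (Lpe (f78441 IH) (Lpe (f78443 IH) (Lpn (LP (LK LD1_c9 LD2_c24 LD3_c24))))))
theorem f844410 : Led Lsl_ft (LP (LK LD1_c17 LD2_c19 LD3_c17)) = (LP (LK LD1_c9 LD2_c24 LD3_c24)) :=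
  Lgr Lrot48 (Lpr_ff (f844407 IH) (Lpn (LP (LK LD1_c9 LD2_c24 LD3_c24))))
theorem f844412 : Led Lsl_af v28396 = (LP (LK LD1_c9 LD2_c24 LD3_c24)) :=
  Lgr Lrot45 (Lpe (f844400 IH) (Lpe (f844403 IH) (Lpr_ft (f844410 IH) (Lpn (LP (LK LD1_c9 LD2_c24 LD3_c24))))))
theorem f78490 : Led Lsl_ft (LP (LK LD1_c2 LD2_c20 LD3_c60)) = (LP (LK LD1_c4 LD2_c45 LD3_c58)) :=
  Lre_f IH (LK LD1_c2 LD2_c20 LD3_c60) (LK LD1_c4 LD2_c45 LD3_c58) Lrfl Lrfl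
theorem f703720 : Led Lsl_bt (LP (LK LD1_c4 LD2_c45 LD3_c58)) = K65.v13569 :=
  Lgr Lrot35 (Lpe (f78490 IH) (Lpe (K3.f78222 IH) (Lpr_ff (K65.f703719 IH) (Lpn K65.v13569))))
theorem f113667 : Led Lsl_ct (LP (LK LD1_c4 LD2_c45 LD3_c58)) = (LP (LK LD1_c9 LD2_c24 LD3_c27)) :=
  Lre_c IH (LK LD1_c4 LD2_c45 LD3_c58) (LK LD1_c9 LD2_c24 LD3_c27) Lrfl Lrfl
theorem f844402 : Led Lsl_gt (LP (LK LD1_c9 LD2_c24 LD3_c27)) = v28396 :=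
  Lgr Lrot65 (Lpe (f113667 IH) (Lpr_bt (f703720 IH) (Lpr_gf (K65.f833406 IH) (Lpe (K65.f833403 IH) (Lpe (K65.f830946 IH) (Lpe (K65.f670190 IH) (Lpe (K65.f504607 IH) (Lpr_gf (K59.f504606 IH) (Lpr_bf (f670181 IH) (Lpr_ct (f844397 IH) (Lpn v28396)))))))))))
theorem f844413 : Led Lsl_gt (LP (LK LD1_c17 LD2_c19 LD3_c17)) = (LP (LK LD1_c9 LD2_c24 LD3_c27)) :=
  Lgr Lrot5 (Lpr_ft (f844410 IH) (Lpe (f844412 IH) (Lpe (f844402 IH) (Lpn (LP (LK LD1_c9 LD2_c24 LD3_c27))))))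
theorem f844414 : Led Lsl_gt (LP (LK LD1_c17 LD2_c19 LD3_c17)) = (LP (LK LD1_c9 LD2_c24 LD3_c27)) :=
  Leop (Lpe (f844413 IH) (Lpn (LP (LK LD1_c17 LD2_c19 LD3_c17))))
theorem seed_1969 : LEOK LG_g (LK LD1_c17 LD2_c19 LD3_c17) :=
  Leoe_g (LK LD1_c17 LD2_c19 LD3_c17) (f844414 IH)
def v2156 : LQ := Led Lsl_gt (LP (LK LD1_c1 LD2_c36 LD3_c40))
def v8700 : LQ := Led Lsl_dt v2156
def v28930 : LQ := Led Lsl_gt v8700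
theorem f846845 : Led Lsl_gt v8700 = v28930 :=
  Lrfl
theorem f672035 : Led Lsl_dt v2156 = v8700 :=
  Lrfl
theorem f509324 : Led Lsl_gt (LP (LK LD1_c1 LD2_c36 LD3_c40)) = v2156 :=
  Lrfl
theorem f494501 : Led Lsl_et (LP (LK LD1_c2 LD2_c16 LD3_c16)) = (LP (LK LD1_c1 LD2_c36 LD3_c40)) :=
  Lre_e IH (LK LD1_c2 LD2_c16 LD3_c16) (LK LD1_c1 LD2_c36 LD3_c40) Lrfl Lrfl
theorem f452840 : Led Lsl_et (LP (LK LD1_c1 LD2_c23 LD3_c19)) = (LP (LK LD1_c2 LD2_c54 LD3_c45)) :=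
  Lre_e IH (LK LD1_c1 LD2_c23 LD3_c19) (LK LD1_c2 LD2_c54 LD3_c45) Lrfl Lrfl
def v16289 : LQ := Led Lsl_et (LP (LK LD1_c5 LD2_c56 LD3_c58))
theorem f748186 : Led Lsl_et (LP (LK LD1_c5 LD2_c56 LD3_c58)) = v16289 :=
  Lrfl
theorem f748189 : Led Lsl_ef (LP (LK LD1_c5 LD2_c56 LD3_c58)) = v16289 :=
  Lgr Lrot88 (Lpr_et (f748186 IH) (Lpn v16289))
theorem f846846 : Led Lsl_dt v16289 = v28930 :=
  Lgr Lrot56 (Lpe (f748189 IH) (Lpr_gt (K48.f83083 IH) (Lpe (f452840 IH) (Lpr_dt (K40.f82178 IH) (Lpqs (K44.f545844 IH) (Lpe (K44.f494497 IH) (Lpe (K40.f494500 IH) (Lpr_et (f494501 IH) (Lpr_gt (f509324 IH) (Lpr_dt (f672035 IH) (Lpr_gt (f846845 IH) (Lpn v28930))))))))))))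
theorem f711068 : Led Lsl_at (LP (LK LD1_c11 LD2_c42 LD3_c16)) = (LP (LK LD1_c11 LD2_c39 LD3_c11)) :=
  Lgr Lrot67 (Lpr_bf (K52.f643584 IH) (Lpr_af (K35.f508093 IH) (Lpe (K55.f614602 IH) (Lpr_af (K52.f711064 IH) (Lpe (K48.f83084 IH) (Lpn (LP (LK LD1_c11 LD2_c39 LD3_c11))))))))
theorem f711076 : Led Lsl_ef (LP (LK LD1_c17 LD2_c31 LD3_c49)) = (LP (LK LD1_c11 LD2_c39 LD3_c11)) :=
  Lgr Lrot20 (Lpe (K55.f644084 IH) (Lpr_et (K50.f644004 IH) (Lpr_at (f711068 IH) (Lpn (LP (LK LD1_c11 LD2_c39 LD3_c11))))))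
theorem f748191 : Led Lsl_bt (LP (LK LD1_c17 LD2_c31 LD3_c49)) = v16289 :=
  Lgr Lrot119 (Lpr_ef (f711076 IH) (Lpe (K52.f669693 IH) (Lpr_ef (f748189 IH) (Lpn v16289))))
theorem f414941 : Led Lsl_bt (LP (LK LD1_c9 LD2_c31 LD3_c20)) = (LP (LK LD1_c4 LD2_c49 LD3_c17)) :=
  Lre_b IH (LK LD1_c9 LD2_c31 LD3_c20) (LK LD1_c4 LD2_c49 LD3_c17) Lrfl Lrfl
theorem f652976 : Led Lsl_ff (LP (LK LD1_c9 LD2_c31 LD3_c20)) = K55.v6357 :=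
  Lgr Lrot25 (Lpr_bt (f414941 IH) (Lpr_ft (K35.f508113 IH) (Lpr_bt (K55.f652973 IH) (Lpn K55.v6357))))
theorem f748106 : Led Lsl_at (LP (LK LD1_c9 LD2_c31 LD3_c20)) = (LP (LK LD1_c6 LD2_c44 LD3_c56)) :=
  Lgr Lrot26 (Lpr_ff (f652976 IH) (Lpqs (K55.f748094 IH) (Lpr_gt (K46.f652734 IH) (Lpr_gt (K46.f142148 IH) (Lpn (LP (LK LD1_c6 LD2_c44 LD3_c56)))))))
theorem f414954 : Led Lsl_bt (LP (LK LD1_c4 LD2_c49 LD3_c17)) = (LP (LK LD1_c9 LD2_c31 LD3_c20)) :=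
  Lre_b IH (LK LD1_c4 LD2_c49 LD3_c17) (LK LD1_c9 LD2_c31 LD3_c20) Lrfl Lrfl
theorem f417129 : Led Lsl_bt (LP (LK LD1_c6 LD2_c45 LD3_c25)) = (LP (LK LD1_c3 LD2_c20 LD3_c47)) :=
  Lre_b IH (LK LD1_c6 LD2_c45 LD3_c25) (LK LD1_c3 LD2_c20 LD3_c47) Lrfl Lrfl
theorem f748110 : Led Lsl_bf (LP (LK LD1_c9 LD2_c30 LD3_c44)) = (LP (LK LD1_c6 LD2_c44 LD3_c56)) :=
  Lgr Lrot81 (Lpr_at (K55.f644069 IH) (Lpr_bt (f417129 IH) (Lpe (K35.f508107 IH) (Lpr_bt (f414954 IH) (Lpr_at (f748106 IH) (Lpn (LP (LK LD1_c6 LD2_c44 LD3_c56))))))))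
theorem f748192 : Led Lsl_ff (LP (LK LD1_c6 LD2_c44 LD3_c56)) = v16289 :=
  Lgr Lrot25 (Lpe (f748110 IH) (Lpr_ft (K55.f644082 IH) (Lpr_bt (f748191 IH) (Lpn v16289))))
theorem f748193 : Led Lsl_ft (LP (LK LD1_c6 LD2_c44 LD3_c56)) = v16289 :=
  Lgr Lrot48 (Lpr_ff (f748192 IH) (Lpn v16289))
def v19623 : LQ := Led Lsl_dt (LP (LK LD1_c6 LD2_c44 LD3_c56))
theorem f781320 : Led Lsl_dt (LP (LK LD1_c6 LD2_c44 LD3_c56)) = v19623 :=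
  Lrfl
theorem f781323 : Led Lsl_df (LP (LK LD1_c6 LD2_c44 LD3_c56)) = v19623 :=
  Lgr Lrot38 (Lpr_dt (f781320 IH) (Lpn v19623))
theorem f846851 : Led Lsl_ff v19623 = v28930 :=
  Lgr Lrot19 (Lpe (f781323 IH) (Lpr_ft (f748193 IH) (Lpr_dt (f846846 IH) (Lpn v28930))))
theorem f538231 : Led Lsl_at (LP (LK LD1_c9 LD2_c10 LD3_c12)) = (LP (LK LD1_c4 LD2_c37 LD3_c34)) :=
  Lre_a IH (LK LD1_c9 LD2_c10 LD3_c12) (LK LD1_c4 LD2_c37 LD3_c34) Lrfl Lrfl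
theorem f642807 : Led Lsl_gf (LP (LK LD1_c9 LD2_c10 LD3_c47)) = (LP (LK LD1_c17 LD2_c2 LD3_c9)) :=
  Lgr Lrot47 (Lpr_gt (K42.f99669 IH) (Lpe (f538231 IH) (Lpr_ff (K55.f642798 IH) (Lpn (LP (LK LD1_c17 LD2_c2 LD3_c9))))))
theorem f642809 : Led Lsl_gt (LP (LK LD1_c9 LD2_c9 LD3_c12)) = (LP (LK LD1_c17 LD2_c2 LD3_c9)) :=
  Lgr Lrot5 (Lpr_ft (K42.f507753 IH) (Lpr_at (K42.f615037 IH) (Lpr_gf (f642807 IH) (Lpn (LP (LK LD1_c17 LD2_c2 LD3_c9))))))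
theorem f622283 : Led Lsl_ft (LP (LK LD1_c4 LD2_c36 LD3_c40)) = (LP (LK LD1_c9 LD2_c7 LD3_c52)) :=
  Lgr Lrot48 (Lpr_ff (K60.f622269 IH) (Lpn (LP (LK LD1_c9 LD2_c7 LD3_c52))))
theorem f622291 : Led Lsl_ft (LP (LK LD1_c4 LD2_c37 LD3_c35)) = (LP (LK LD1_c2 LD2_c15 LD3_c59)) :=
  Lre_f IH (LK LD1_c4 LD2_c37 LD3_c35) (LK LD1_c2 LD2_c15 LD3_c59) Lrfl Lrfl
theorem f622292 : Led Lsl_ef (LP (LK LD1_c4 LD2_c37 LD3_c35)) = (LP (LK LD1_c9 LD2_c7 LD3_c52)) :=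
  Lgr Lrot21 (Lpr_ft (f622291 IH) (Lpr_et (K42.f99667 IH) (Lpr_ft (K4.f99653 IH) (Lpr_et (K49.f142125 IH) (Lpr_ft (f622283 IH) (Lpn (LP (LK LD1_c9 LD2_c7 LD3_c52))))))))
theorem f622275 : Led Lsl_ft (LP (LK LD1_c2 LD2_c15 LD3_c47)) = (LP (LK LD1_c4 LD2_c37 LD3_c16)) :=
  Lre_f IH (LK LD1_c2 LD2_c15 LD3_c47) (LK LD1_c4 LD2_c37 LD3_c16) Lrfl Lrfl
theorem f622276 : Led Lsl_at (LP (LK LD1_c4 LD2_c37 LD3_c16)) = (LP (LK LD1_c9 LD2_c7 LD3_c52)) :=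
  Lgr Lrot66 (Lpe (f622275 IH) (Lpe (K60.f613126 IH) (Lpr_ff (K60.f622269 IH) (Lpn (LP (LK LD1_c9 LD2_c7 LD3_c52))))))
theorem f642788 : Led Lsl_ef (LP (LK LD1_c4 LD2_c37 LD3_c16)) = (LP (LK LD1_c9 LD2_c9 LD3_c5)) :=
  Lgr Lrot20 (Lpr_at (f622276 IH) (Lpe (f622292 IH) (Lpr_at (K55.f642782 IH) (Lpn (LP (LK LD1_c9 LD2_c9 LD3_c5))))))
def v12964 : LQ := Led Lsl_at (LP (LK LD1_c4 LD2_c35 LD3_c42))
theorem f699901 : Led Lsl_at (LP (LK LD1_c4 LD2_c35 LD3_c42)) = v12964 :=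
  Lrfl
theorem f613134 : Led Lsl_at (LP (LK LD1_c2 LD2_c15 LD3_c47)) = (LP (LK LD1_c4 LD2_c36 LD3_c40)) :=
  Lre_a IH (LK LD1_c2 LD2_c15 LD3_c47) (LK LD1_c4 LD2_c36 LD3_c40) Lrfl Lrfl
theorem f622285 : Led Lsl_ft (LP (LK LD1_c4 LD2_c37 LD3_c16)) = (LP (LK LD1_c2 LD2_c15 LD3_c47)) :=
  Lre_f IH (LK LD1_c4 LD2_c37 LD3_c16) (LK LD1_c2 LD2_c15 LD3_c47) Lrfl Lrfl
theorem f622286 : Led Lsl_af (LP (LK LD1_c4 LD2_c37 LD3_c16)) = (LP (LK LD1_c9 LD2_c7 LD3_c52)) :=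
  Lgr Lrot45 (Lpr_ft (f622285 IH) (Lpr_at (f613134 IH) (Lpr_ft (f622283 IH) (Lpn (LP (LK LD1_c9 LD2_c7 LD3_c52))))))
theorem f622294 : Led Lsl_gt (LP (LK LD1_c2 LD2_c53 LD3_c56)) = (LP (LK LD1_c4 LD2_c37 LD3_c16)) :=
  Lgr Lrot46 (Lpe (K49.f614979 IH) (Lpr_ft (f622283 IH) (Lpe (f622286 IH) (Lpn (LP (LK LD1_c4 LD2_c37 LD3_c16))))))
theorem f699905 : Led Lsl_gt (LP (LK LD1_c4 LD2_c37 LD3_c16)) = v12964 :=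
  Lgr Lrot46 (Lpe (f622294 IH) (Lpr_ft (K53.f508537 IH) (Lpr_at (f699901 IH) (Lpn v12964))))
theorem f781327 : Led Lsl_ef v12964 = v19623 :=
  Lgr Lrot17 (Lpe (f699905 IH) (Lpr_ef (f642788 IH) (Lpr_dt (K55.f504764 IH) (Lpe (f642809 IH) (Lpr_df (K46.f653020 IH) (Lpqs (K51.f706532 IH) (Lpe (K50.f644820 IH) (Lpe (K51.f509312 IH) (Lpr_dt (K46.f509303 IH) (Lpe (K46.f652859 IH) (Lpr_df (f781323 IH) (Lpn v19623))))))))))))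
theorem f699904 : Led Lsl_ff (LP (LK LD1_c4 LD2_c37 LD3_c14)) = v12964 :=
  Lgr Lrot30 (Lpr_at (K45.f622251 IH) (Lpr_ft (K53.f508537 IH) (Lpr_at (f699901 IH) (Lpn v12964))))
theorem f846853 : Led Lsl_et (LP (LK LD1_c11 LD2_c48 LD3_c54)) = v28930 :=
  Lgr Lrot69 (Lpr_ff (K45.f614922 IH) (Lpe (K50.f622256 IH) (Lpr_ff (f699904 IH) (Lpr_ef (f781327 IH) (Lpr_ff (f846851 IH) (Lpn v28930))))))
def v2157 : LQ := Led Lsl_gf (LP (LK LD1_c1 LD2_c36 LD3_c40))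
def v8705 : LQ := Led Lsl_dt v2157
theorem f672047 : Led Lsl_dt v2157 = v8705 :=
  Lrfl
theorem f672048 : Led Lsl_df v2157 = v8705 :=
  Lgr Lrot38 (Lpr_dt (f672047 IH) (Lpn v8705))
theorem f509333 : Led Lsl_gf (LP (LK LD1_c1 LD2_c36 LD3_c40)) = v2157 :=
  Lrfl
theorem f206819 : Led Lsl_dt (LP (LK LD1_c0 LD2_c44 LD3_c47)) = (LP (LK LD1_c1 LD2_c36 LD3_c40)) :=
  Lre_d IH (LK LD1_c0 LD2_c44 LD3_c47) (LK LD1_c1 LD2_c36 LD3_c40) Lrfl Lrfl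
theorem f206818 : Led Lsl_et (LP (LK LD1_c0 LD2_c44 LD3_c47)) = (LP (LK LD1_c0 LD2_c19 LD3_c53)) :=
  Lre_e IH (LK LD1_c0 LD2_c44 LD3_c47) (LK LD1_c0 LD2_c19 LD3_c53) Lrfl Lrfl
theorem f672049 : Led Lsl_ef (LP (LK LD1_c9 LD2_c9 LD3_c59)) = v8705 :=
  Lgr Lrot17 (Lpe (K42.f100073 IH) (Lpe (K42.f99626 IH) (Lpe (K5.f99624 IH) (Lpr_gf (K42.f206810 IH) (Lpe (K11.f206791 IH) (Lpe (K4.f24318 IH) (Lpe (f206818 IH) (Lpr_dt (f206819 IH) (Lpr_gf (f509333 IH) (Lpr_df (f672048 IH) (Lpn v8705)))))))))))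
theorem f672050 : Led Lsl_et (LP (LK LD1_c9 LD2_c9 LD3_c59)) = v8705 :=
  Lgr Lrot87 (Lpr_ef (f672049 IH) (Lpn v8705))
theorem f846856 : Led Lsl_gf v8705 = v28930 :=
  Lgr Lrot141 (Lpe (f672050 IH) (Lpr_dt (K42.f100080 IH) (Lpe (K42.f615065 IH) (Lpe (K42.f505200 IH) (Lpr_et (K42.f505197 IH) (Lpqs (K42.f615000 IH) (Lpe (K42.f509240 IH) (Lpr_dt (K45.f509242 IH) (Lpqs (K45.f557974 IH) (Lpr_gt (K45.f69257 IH) (Lpe (K45.f538066 IH) (Lpr_et (f846853 IH) (Lpn v28930)))))))))))))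
theorem f781321 : Led Lsl_af (LP (LK LD1_c9 LD2_c7 LD3_c54)) = v19623 :=
  Lgr Lrot117 (Lpr_dt (K51.f622274 IH) (Lpr_at (f748106 IH) (Lpr_dt (f781320 IH) (Lpn v19623))))
theorem f846857 : Led Lsl_gt v8705 = (LP (LK LD1_c9 LD2_c7 LD3_c54)) :=
  Lgr Lrot46 (Lpr_gf (f846856 IH) (Lpe (f846851 IH) (Lpe (f781321 IH) (Lpn (LP (LK LD1_c9 LD2_c7 LD3_c54))))))
def v8697 : LQ := Led Lsl_at v2156
def v28916 : LQ := Led Lsl_dt v8697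
theorem f846791 : Led Lsl_dt v8697 = v28916 :=
  Lrfl
theorem f672027 : Led Lsl_at v2156 = v8697 :=
  Lrfl
theorem f672028 : Led Lsl_af v2156 = v8697 :=
  Lgr Lrot0 (Lpr_at (f672027 IH) (Lpn v8697))
theorem f672029 : Led Lsl_ft v2157 = v8697 :=
  Lgr Lrot2 (Lpe (f509333 IH) (Lpr_gt (f509324 IH) (Lpr_af (f672028 IH) (Lpn v8697))))
theorem f846794 : Led Lsl_ff v8705 = v28916 :=
  Lgr Lrot19 (Lpe (f672048 IH) (Lpr_ft (f672029 IH) (Lpr_dt (f846791 IH) (Lpn v28916))))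
theorem f846795 : Led Lsl_ft v8705 = v28916 :=
  Lgr Lrot48 (Lpr_ff (f846794 IH) (Lpn v28916))
theorem f672036 : Led Lsl_df v2156 = v8700 :=
  Lgr Lrot38 (Lpr_dt (f672035 IH) (Lpn v8700))
theorem f846792 : Led Lsl_af v8700 = v28916 :=
  Lgr Lrot117 (Lpe (f672036 IH) (Lpr_at (f672027 IH) (Lpr_dt (f846791 IH) (Lpn v28916))))
theorem f846858 : Led Lsl_gf v8700 = (LP (LK LD1_c9 LD2_c7 LD3_c54)) :=
  Lgr Lrot76 (Lpr_af (f846792 IH) (Lpe (f846795 IH) (Lpr_gt (f846857 IH) (Lpn (LP (LK LD1_c9 LD2_c7 LD3_c54))))))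
theorem f453976 : Led Lsl_at (LP (LK LD1_c0 LD2_c44 LD3_c47)) = (LP (LK LD1_c1 LD2_c36 LD3_c37)) :=
  Lre_a IH (LK LD1_c0 LD2_c44 LD3_c47) (LK LD1_c1 LD2_c36 LD3_c37) Lrfl Lrfl
theorem f509257 : Led Lsl_af (LP (LK LD1_c1 LD2_c36 LD3_c40)) = K65.v2153 :=
  Lgr Lrot117 (Lpr_dt (K50.f509256 IH) (Lpr_at (f453976 IH) (Lpr_dt (K65.f509255 IH) (Lpn K65.v2153))))
def v2158 : LQ := Led Lsl_ft (LP (LK LD1_c1 LD2_c36 LD3_c40))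
theorem f509343 : Led Lsl_ft (LP (LK LD1_c1 LD2_c36 LD3_c40)) = v2158 :=
  Lrfl
theorem f652737 : Led Lsl_at v2158 = K65.v6323 :=
  Lgr Lrot66 (Lpe (f509343 IH) (Lpr_af (f509257 IH) (Lpr_ff (K65.f652730 IH) (Lpn K65.v6323))))
theorem f652748 : Led Lsl_gt v2156 = K65.v6323 :=
  Lgr Lrot46 (Lpe (f509324 IH) (Lpr_ft (f509343 IH) (Lpr_at (f652737 IH) (Lpn K65.v6323))))
theorem f652728 : Led Lsl_df (LP (LK LD1_c3 LD2_c20 LD3_c32)) = K65.v6323 :=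
  Lgr Lrot38 (Lpr_dt (K65.f652721 IH) (Lpn K65.v6323))
theorem f416528 : Led Lsl_ct (LP (LK LD1_c17 LD2_c0 LD3_c13)) = (LP (LK LD1_c9 LD2_c7 LD3_c54)) :=
  Lre_c IH (LK LD1_c17 LD2_c0 LD3_c13) (LK LD1_c9 LD2_c7 LD3_c54) Lrfl Lrfl
theorem f846859 : Led Lsl_gf (LP (LK LD1_c12 LD2_c44 LD3_c49)) = (LP (LK LD1_c17 LD2_c0 LD3_c13)) :=
  Lgr Lrot144 (Lpr_dt (K45.f642442 IH) (Lpr_gt (K45.f642445 IH) (Lpr_dt (K65.f652724 IH) (Lpe (K17.f413702 IH) (Lpr_df (f652728 IH) (Lpe (f652748 IH) (Lpr_df (f672036 IH) (Lpr_gf (f846858 IH) (Lpe (f416528 IH) (Lpn (LP (LK LD1_c17 LD2_c0 LD3_c13))))))))))))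
theorem f846860 : Led Lsl_gt (LP (LK LD1_c17 LD2_c0 LD3_c13)) = (LP (LK LD1_c12 LD2_c44 LD3_c49)) :=
  Leop (Lpr_gf (f846859 IH) (Lpn (LP (LK LD1_c17 LD2_c0 LD3_c13))))
theorem seed_1970 : LEOK LG_g (LK LD1_c17 LD2_c0 LD3_c13) :=
  Leoe_g (LK LD1_c17 LD2_c0 LD3_c13) (f846860 IH)
def v8741 : LQ := Led Lsl_bt K53.v2187
def v28985 : LQ := Led Lsl_gf v8741
theorem f847072 : Led Lsl_gf v8741 = v28985 :=
  Lrfl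
def v4601 : LQ := Led Lsl_bt (LP (LK LD1_c2 LD2_c34 LD3_c12))
def v24186 : LQ := Led Lsl_dt v4601
theorem f822862 : Led Lsl_dt v4601 = v24186 :=
  Lrfl
theorem f636348 : Led Lsl_bt (LP (LK LD1_c2 LD2_c34 LD3_c12)) = v4601 :=
  Lrfl
theorem f636350 : Led Lsl_ff (LP (LK LD1_c5 LD2_c8 LD3_c23)) = v4601 :=
  Lgr Lrot25 (Lpr_bt (K57.f22376 IH) (Lpr_ft (K48.f623726 IH) (Lpr_bt (f636348 IH) (Lpn v4601))))
theorem f636352 : Led Lsl_ft (LP (LK LD1_c5 LD2_c8 LD3_c23)) = v4601 :=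
  Lgr Lrot48 (Lpr_ff (f636350 IH) (Lpn v4601))
theorem f822865 : Led Lsl_ff K57.v5645 = v24186 :=
  Lgr Lrot19 (Lpe (K57.f648657 IH) (Lpr_ft (f636352 IH) (Lpr_dt (f822862 IH) (Lpn v24186))))
theorem f822868 : Led Lsl_ft K57.v5645 = v24186 :=
  Lgr Lrot48 (Lpr_ff (f822865 IH) (Lpn v24186))
theorem f623293 : Led Lsl_et (LP (LK LD1_c5 LD2_c48 LD3_c57)) = (LP (LK LD1_c2 LD2_c50 LD3_c29)) :=
  Lre_e IH (LK LD1_c5 LD2_c48 LD3_c57) (LK LD1_c2 LD2_c50 LD3_c29) Lrfl Lrfl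
theorem f672149 : Led Lsl_bt K53.v2187 = v8741 :=
  Lrfl
theorem f415032 : Led Lsl_bt (LP (LK LD1_c5 LD2_c48 LD3_c57)) = (LP (LK LD1_c2 LD2_c50 LD3_c31)) :=
  Lre_b IH (LK LD1_c5 LD2_c48 LD3_c57) (LK LD1_c2 LD2_c50 LD3_c31) Lrfl Lrfl
theorem f672151 : Led Lsl_ff (LP (LK LD1_c5 LD2_c48 LD3_c57)) = v8741 :=
  Lgr Lrot25 (Lpr_bt (f415032 IH) (Lpr_ft (K53.f623438 IH) (Lpr_bt (f672149 IH) (Lpn v8741))))
theorem f822869 : Led Lsl_ef v8741 = v24186 :=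
  Lgr Lrot21 (Lpe (f672151 IH) (Lpr_et (f623293 IH) (Lpe (K57.f623278 IH) (Lpr_et (K57.f648653 IH) (Lpr_ft (f822868 IH) (Lpn v24186))))))
theorem f822864 : Led Lsl_df v4601 = v24186 :=
  Lgr Lrot38 (Lpr_dt (f822862 IH) (Lpn v24186))
def v24183 : LQ := Led Lsl_gt v4601
theorem f822841 : Led Lsl_gt v4601 = v24183 :=
  Lrfl
def v14405 : LQ := Led Lsl_at (LP (LK LD1_c5 LD2_c8 LD3_c23))
theorem f722369 : Led Lsl_at (LP (LK LD1_c5 LD2_c8 LD3_c23)) = v14405 :=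
  Lrfl
theorem f822842 : Led Lsl_gf v14405 = v24183 :=
  Lgr Lrot76 (Lpe (f722369 IH) (Lpr_ff (f636350 IH) (Lpr_gt (f822841 IH) (Lpn v24183))))
def v18129 : LQ := Led Lsl_et (LP (LK LD1_c6 LD2_c26 LD3_c34))
theorem f765168 : Led Lsl_et (LP (LK LD1_c6 LD2_c26 LD3_c34)) = v18129 :=
  Lrfl
theorem f765171 : Led Lsl_ef (LP (LK LD1_c6 LD2_c26 LD3_c34)) = v18129 :=
  Lgr Lrot88 (Lpr_et (f765168 IH) (Lpn v18129))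
theorem f506543 : Led Lsl_at (LP (LK LD1_c6 LD2_c26 LD3_c34)) = (LP (LK LD1_c3 LD2_c11 LD3_c10)) :=
  Lre_a IH (LK LD1_c6 LD2_c26 LD3_c34) (LK LD1_c3 LD2_c11 LD3_c10) Lrfl Lrfl
theorem f623299 : Led Lsl_ff (LP (LK LD1_c6 LD2_c26 LD3_c34)) = (LP (LK LD1_c5 LD2_c48 LD3_c54)) :=
  Lgr Lrot30 (Lpr_at (f506543 IH) (Lpr_ft (K57.f623294 IH) (Lpr_at (K57.f496152 IH) (Lpn (LP (LK LD1_c5 LD2_c48 LD3_c54))))))
theorem f640538 : Led Lsl_bt (LP (LK LD1_c6 LD2_c26 LD3_c34)) = K51.v4839 :=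
  Lgr Lrot35 (Lpr_ff (f623299 IH) (Lpe (K57.f623252 IH) (Lpr_ff (K51.f640537 IH) (Lpn K51.v4839))))
theorem f765173 : Led Lsl_bt K53.v14126 = v18129 :=
  Lgr Lrot119 (Lpe (K53.f719141 IH) (Lpq (K53.f698949 IH) (Lpe (f640538 IH) (Lpr_ef (f765171 IH) (Lpn v18129)))))
theorem f719146 : Led Lsl_dt (LP (LK LD1_c10 LD2_c19 LD3_c3)) = K53.v14126 :=
  Lgr Lrot42 (Lpr_df (K53.f719145 IH) (Lpn K53.v14126))
theorem f506554 : Led Lsl_bt (LP (LK LD1_c2 LD2_c31 LD3_c24)) = (LP (LK LD1_c5 LD2_c8 LD3_c23)) :=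
  Lre_b IH (LK LD1_c2 LD2_c31 LD3_c24) (LK LD1_c5 LD2_c8 LD3_c23) Lrfl Lrfl
theorem f722371 : Led Lsl_bf (LP (LK LD1_c10 LD2_c19 LD3_c3)) = v14405 :=
  Lgr Lrot81 (Lpr_at (K53.f623746 IH) (Lpr_bt (K48.f164392 IH) (Lpe (K53.f623718 IH) (Lpr_bt (f506554 IH) (Lpr_at (f722369 IH) (Lpn v14405))))))
theorem f765174 : Led Lsl_df v14405 = v18129 :=
  Lgr Lrot12 (Lpe (f722371 IH) (Lpr_dt (f719146 IH) (Lpr_bt (f765173 IH) (Lpn v18129))))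
theorem f623371 : Led Lsl_dt (LP (LK LD1_c5 LD2_c48 LD3_c53)) = (LP (LK LD1_c11 LD2_c27 LD3_c9)) :=
  Lre_d IH (LK LD1_c5 LD2_c48 LD3_c53) (LK LD1_c11 LD2_c27 LD3_c9) Lrfl Lrfl
theorem f73276 : Led Lsl_et (LP (LK LD1_c5 LD2_c47 LD3_c27)) = (LP (LK LD1_c2 LD2_c49 LD3_c42)) :=
  Lre_e IH (LK LD1_c5 LD2_c47 LD3_c27) (LK LD1_c2 LD2_c49 LD3_c42) Lrfl Lrfl
theorem f139387 : Led Lsl_ff (LP (LK LD1_c1 LD2_c56 LD3_c24)) = (LP (LK LD1_c2 LD2_c49 LD3_c42)) :=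
  Lgr Lrot25 (Lpr_bt (K8.f139386 IH) (Lpr_ft (K6.f139382 IH) (Lpr_bt (K4.f74959 IH) (Lpn (LP (LK LD1_c2 LD2_c49 LD3_c42))))))
theorem f685994 : Led Lsl_ft (LP (LK LD1_c3 LD2_c59 LD3_c25)) = K58.v11811 :=
  Lgr Lrot48 (Lpr_ff (K58.f685993 IH) (Lpn K58.v11811))
theorem f711247 : Led Lsl_ef (LP (LK LD1_c5 LD2_c52 LD3_c42)) = K58.v11811 :=
  Lgr Lrot21 (Lpr_ft (K53.f711241 IH) (Lpr_et (f73276 IH) (Lpe (f139387 IH) (Lpr_et (K57.f101698 IH) (Lpr_ft (f685994 IH) (Lpn K58.v11811))))))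
theorem f822844 : Led Lsl_dt K58.v11811 = v24183 :=
  Lgr Lrot136 (Lpe (f711247 IH) (Lpe (K53.f56725 IH) (Lpe (K52.f56724 IH) (Lpr_dt (K52.f56703 IH) (Lpr_gf (K65.f699197 IH) (Lpe (f623371 IH) (Lpe (K65.f623369 IH) (Lpr_ef (f765171 IH) (Lpe (f765174 IH) (Lpr_gf (f822842 IH) (Lpn v24183)))))))))))
def v24677 : LQ := Led Lsl_gf K65.v4909
theorem f825107 : Led Lsl_gf K65.v4909 = v24677 :=
  Lrfl
theorem f640865 : Led Lsl_df (LP (LK LD1_c2 LD2_c52 LD3_c37)) = K65.v4909 :=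
  Lgr Lrot38 (Lpr_dt (K65.f640863 IH) (Lpn K65.v4909))
theorem f746591 : Led Lsl_af K65.v4909 = K65.v16115 :=
  Lgr Lrot117 (Lpe (f640865 IH) (Lpr_at (K41.f500320 IH) (Lpr_dt (K65.f746590 IH) (Lpn K65.v16115))))
theorem f746596 : Led Lsl_ft (LP (LK LD1_c12 LD2_c30 LD3_c3)) = K65.v16115 :=
  Lgr Lrot48 (Lpr_ff (K65.f746593 IH) (Lpn K65.v16115))
theorem f825108 : Led Lsl_gt (LP (LK LD1_c12 LD2_c30 LD3_c3)) = v24677 :=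
  Lgr Lrot5 (Lpr_ft (f746596 IH) (Lpe (f746591 IH) (Lpr_gf (f825107 IH) (Lpn v24677))))
theorem f825100 : Led Lsl_at (LP (LK LD1_c12 LD2_c30 LD3_c6)) = K65.v24676 :=
  Lgr Lrot51 (Lpe (K55.f741650 IH) (Lpr_af (K65.f785251 IH) (Lpr_df (K65.f825095 IH) (Lpn K65.v24676))))
theorem f825109 : Led Lsl_ff (LP (LK LD1_c12 LD2_c30 LD3_c6)) = v24677 :=
  Lgr Lrot52 (Lpr_at (f825100 IH) (Lpe (K65.f825091 IH) (Lpr_gf (f825107 IH) (Lpn v24677))))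
def v20165 : LQ := Led Lsl_ft (LP (LK LD1_c6 LD2_c51 LD3_c13))
theorem f785280 : Led Lsl_ft (LP (LK LD1_c6 LD2_c51 LD3_c13)) = v20165 :=
  Lrfl
theorem f825111 : Led Lsl_dt v20165 = v24677 :=
  Lgr Lrot60 (Lpe (f785280 IH) (Lpr_df (K55.f741655 IH) (Lpr_ff (f825109 IH) (Lpn v24677))))
theorem f847074 : Led Lsl_et v20165 = v28985 :=
  Lgr Lrot185 (Lpr_dt (f825111 IH) (Lpe (f825108 IH) (Lpe (K65.f505677 IH) (Lpe (K53.f505674 IH) (Lpr_ef (f711247 IH) (Lpr_dt (f822844 IH) (Lpe (f822841 IH) (Lpr_df (f822864 IH) (Lpe (f822869 IH) (Lpr_gf (f847072 IH) (Lpn v28985)))))))))))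
theorem f847076 : Led Lsl_ef v20165 = v28985 :=
  Lgr Lrot88 (Lpr_et (f847074 IH) (Lpn v28985))
theorem f785281 : Led Lsl_af (LP (LK LD1_c17 LD2_c16 LD3_c37)) = v20165 :=
  Lgr Lrot45 (Lpr_ft (K65.f785253 IH) (Lpe (K65.f785251 IH) (Lpr_ft (f785280 IH) (Lpn v20165))))
theorem f782042 : Led Lsl_ff (LP (LK LD1_c6 LD2_c46 LD3_c25)) = K65.v19770 :=
  Lgr Lrot3 (Lpr_ft (K65.f782040 IH) (Lpn K65.v19770))
theorem f785126 : Led Lsl_ff (LP (LK LD1_c6 LD2_c51 LD3_c9)) = K65.v20162 :=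
  Lgr Lrot3 (Lpr_ft (K65.f785125 IH) (Lpn K65.v20162))
theorem f785256 : Led Lsl_et (LP (LK LD1_c17 LD2_c16 LD3_c37)) = K65.v20162 :=
  Lgr Lrot69 (Lpr_ff (K65.f785255 IH) (Lpe (K65.f782034 IH) (Lpr_ff (f782042 IH) (Lpq (K65.f785160 IH) (Lpe (K52.f101708 IH) (Lpr_ff (f785126 IH) (Lpn K65.v20162)))))))
theorem f847077 : Led Lsl_at K65.v20162 = v28985 :=
  Lgr Lrot80 (Lpe (f785256 IH) (Lpr_af (f785281 IH) (Lpr_ef (f847076 IH) (Lpn v28985))))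
def v20159 : LQ := Led Lsl_gt (LP (LK LD1_c6 LD2_c51 LD3_c9))
theorem f785119 : Led Lsl_gt (LP (LK LD1_c6 LD2_c51 LD3_c9)) = v20159 :=
  Lrfl
theorem f847081 : Led Lsl_gt v20159 = v28985 :=
  Lgr Lrot46 (Lpe (f785119 IH) (Lpr_ft (K65.f785125 IH) (Lpr_at (f847077 IH) (Lpn v28985))))
def v15860 : LQ := Led Lsl_et (LP (LK LD1_c5 LD2_c48 LD3_c54))
theorem f743940 : Led Lsl_et (LP (LK LD1_c5 LD2_c48 LD3_c54)) = v15860 :=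
  Lrfl
theorem f743943 : Led Lsl_ef (LP (LK LD1_c5 LD2_c48 LD3_c54)) = v15860 :=
  Lgr Lrot88 (Lpr_et (f743940 IH) (Lpn v15860))
theorem f623303 : Led Lsl_et (LP (LK LD1_c2 LD2_c50 LD3_c29)) = (LP (LK LD1_c5 LD2_c48 LD3_c57)) :=
  Lre_e IH (LK LD1_c2 LD2_c50 LD3_c29) (LK LD1_c5 LD2_c48 LD3_c57) Lrfl Lrfl
theorem f743944 : Led Lsl_at (LP (LK LD1_c5 LD2_c48 LD3_c57)) = v15860 :=
  Lgr Lrot80 (Lpe (f623303 IH) (Lpe (K65.f496151 IH) (Lpr_ef (f743943 IH) (Lpn v15860))))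
theorem f822846 : Led Lsl_df K58.v11811 = v24183 :=
  Lgr Lrot38 (Lpr_dt (f822844 IH) (Lpn v24183))
theorem f741675 : Led Lsl_at K58.v11811 = K57.v15804 :=
  Lgr Lrot66 (Lpe (f685994 IH) (Lpr_af (K65.f139423 IH) (Lpr_ff (K65.f741674 IH) (Lpn K57.v15804))))
theorem f822847 : Led Lsl_at K57.v14404 = v24183 :=
  Lgr Lrot51 (Lpe (K57.f749921 IH) (Lpe (f741675 IH) (Lpr_df (f822846 IH) (Lpn v24183))))
theorem f822849 : Led Lsl_gt K57.v14566 = v4601 :=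
  Lgr Lrot5 (Lpr_ft (K65.f749922 IH) (Lpr_at (f822847 IH) (Lpe (f822841 IH) (Lpn v4601))))
def v20160 : LQ := Led Lsl_gf (LP (LK LD1_c6 LD2_c51 LD3_c9))
theorem f785120 : Led Lsl_gf (LP (LK LD1_c6 LD2_c51 LD3_c9)) = v20160 :=
  Lrfl
theorem f822870 : v8741 = v20160 :=
  (Llr Lrot121 (Lpr_ef (f822869 IH) (Lpe (f822864 IH) (Lpe (f822849 IH) (Lpe (K65.f723792 IH) (Lpr_et (K57.f73274 IH) (Lpr_gf (K8.f74176 IH) (Lpe (K2.f73828 IH) (Lpr_dt (K2.f73829 IH) (Lpe (K52.f138001 IH) (Lpe (K52.f101709 IH) (Lpr_gf (f785120 IH) (Lpn v20160))))))))))))).symm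
theorem f822871 : v15860 = v20159 :=
  (Llr Lrot26 (Lpe (f743944 IH) (Lpr_ff (f672151 IH) (Lpqs (f822870 IH) (Lpe (f785120 IH) (Lpr_gt (f785119 IH) (Lpn v20159))))))).symm
theorem f623281 : Led Lsl_gt (LP (LK LD1_c6 LD2_c26 LD3_c35)) = (LP (LK LD1_c12 LD2_c25 LD3_c4)) :=
  Lre_g IH (LK LD1_c6 LD2_c26 LD3_c35) (LK LD1_c12 LD2_c25 LD3_c4) Lrfl Lrfl
theorem f623282 : Led Lsl_gt (LP (LK LD1_c12 LD2_c25 LD3_c4)) = (LP (LK LD1_c11 LD2_c27 LD3_c10)) :=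
  Lgr Lrot46 (Lpe (f623281 IH) (Lpr_ft (K57.f623272 IH) (Lpr_at (K57.f623166 IH) (Lpn (LP (LK LD1_c11 LD2_c27 LD3_c10))))))
theorem f56720 : Led Lsl_gt (LP (LK LD1_c5 LD2_c52 LD3_c45)) = (LP (LK LD1_c11 LD2_c31 LD3_c52)) :=
  Lre_g IH (LK LD1_c5 LD2_c52 LD3_c45) (LK LD1_c11 LD2_c31 LD3_c52) Lrfl Lrfl
theorem f847082 : Led Lsl_df (LP (LK LD1_c12 LD2_c25 LD3_c4)) = (LP (LK LD1_c11 LD2_c31 LD3_c52)) :=
  Lgr Lrot135 (Lpr_gt (f623282 IH) (Lpe (K57.f623251 IH) (Lpr_et (f743940 IH) (Lpqs (f822871 IH) (Lpr_gt (f847081 IH) (Lpe (f847074 IH) (Lpr_dt (f825111 IH) (Lpe (f825107 IH) (Lpe (K65.f640863 IH) (Lpr_et (K41.f56712 IH) (Lpr_gt (f56720 IH) (Lpn (LP (LK LD1_c11 LD2_c31 LD3_c52))))))))))))))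
theorem f847083 : Led Lsl_dt (LP (LK LD1_c11 LD2_c31 LD3_c52)) = (LP (LK LD1_c12 LD2_c25 LD3_c4)) :=
  Leop (Lpr_df (f847082 IH) (Lpn (LP (LK LD1_c11 LD2_c31 LD3_c52))))
theorem seed_1971 : LEOK LG_d (LK LD1_c11 LD2_c31 LD3_c52) :=
  Leoe_d (LK LD1_c11 LD2_c31 LD3_c52) (f847083 IH)
def v29071 : LQ := Led Lsl_bt K63.v8863
theorem f847580 : Led Lsl_bt K63.v8863 = v29071 :=
  Lrfl
theorem f672549 : Led Lsl_cf K61.v2255 = K63.v8863 :=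
  Lgr Lrot11 (Lpr_ct (K63.f672548 IH) (Lpn K63.v8863))
theorem f819334 : Led Lsl_ff K63.v8863 = K61.v11778 :=
  Lgr Lrot23 (Lpe (f672549 IH) (Lpqs (K64.f819286 IH) (Lpe (K61.f685868 IH) (Lpr_ct (K61.f685860 IH) (Lpn K61.v11778)))))
theorem f791731 : Led Lsl_bf K61.v11778 = K61.v21034 :=
  Lgr Lrot90 (Lpe (K61.f685861 IH) (Lpr_bt (K61.f659539 IH) (Lpe (K61.f659535 IH) (Lpr_bt (K61.f659517 IH) (Lpr_ct (K61.f791730 IH) (Lpn K61.v21034))))))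
theorem f847583 : Led Lsl_ff K61.v21034 = v29071 :=
  Lgr Lrot25 (Lpe (f791731 IH) (Lpe (f819334 IH) (Lpr_bt (f847580 IH) (Lpn v29071))))
def v21036 : LQ := Led Lsl_ft (LP (LK LD1_c7 LD2_c10 LD3_c39))
theorem f791743 : Led Lsl_ft (LP (LK LD1_c7 LD2_c10 LD3_c39)) = v21036 :=
  Lrfl
theorem f847585 : Led Lsl_ct v21036 = v29071 :=
  Lgr Lrot40 (Lpe (f791743 IH) (Lpr_cf (K61.f791732 IH) (Lpr_ff (f847583 IH) (Lpn v29071))))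
theorem f791744 : Led Lsl_bf K61.v6929 = v21036 :=
  Lgr Lrot61 (Lpe (K61.f659529 IH) (Lpr_bt (K61.f659517 IH) (Lpr_ft (f791743 IH) (Lpn v21036))))
theorem f143208 : Led Lsl_bt (LP (LK LD1_c13 LD2_c4 LD3_c19)) = (LP (LK LD1_c13 LD2_c46 LD3_c18)) :=
  Lgr Lrot127 (Lpr_bf (K63.f143206 IH) (Lpn (LP (LK LD1_c13 LD2_c46 LD3_c18))))
theorem f847584 : Led Lsl_gf (LP (LK LD1_c13 LD2_c46 LD3_c18)) = v29071 :=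
  Lgr Lrot124 (Lpe (f143208 IH) (Lpr_ct (K63.f143203 IH) (Lpe (K65.f833592 IH) (Lpr_cf (K65.f833587 IH) (Lpe (K65.f833586 IH) (Lpe (K61.f657509 IH) (Lpr_ct (K61.f106920 IH) (Lpr_gt (K61.f511292 IH) (Lpr_cf (f672549 IH) (Lpr_bt (f847580 IH) (Lpn v29071)))))))))))
theorem f17983 : Led Lsl_bt (LP (LK LD1_c7 LD2_c16 LD3_c40)) = (LP (LK LD1_c13 LD2_c46 LD3_c17)) :=
  Lre_b IH (LK LD1_c7 LD2_c16 LD3_c40) (LK LD1_c13 LD2_c46 LD3_c17) Lrfl Lrfl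
theorem f847588 : Led Lsl_gf (LP (LK LD1_c22 LD2_c46 LD3_c55)) = (LP (LK LD1_c13 LD2_c46 LD3_c17)) :=
  Lgr Lrot181 (Lpr_ct (K64.f107929 IH) (Lpr_gt (K64.f441761 IH) (Lpe (K61.f10698 IH) (Lpr_bt (K61.f10726 IH) (Lpqs (K64.f819292 IH) (Lpe (K64.f791722 IH) (Lpr_bf (f791744 IH) (Lpr_ct (f847585 IH) (Lpe (f847584 IH) (Lpe (K63.f17989 IH) (Lpr_bt (f17983 IH) (Lpn (LP (LK LD1_c13 LD2_c46 LD3_c17))))))))))))))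
theorem f847589 : Led Lsl_gt (LP (LK LD1_c13 LD2_c46 LD3_c17)) = (LP (LK LD1_c22 LD2_c46 LD3_c55)) :=
  Leop (Lpr_gf (f847588 IH) (Lpn (LP (LK LD1_c13 LD2_c46 LD3_c17))))
theorem seed_1972 : LEOK LG_g (LK LD1_c13 LD2_c46 LD3_c17) :=
  Leoe_g (LK LD1_c13 LD2_c46 LD3_c17) (f847589 IH)
def v2279 : LQ := Led Lsl_gf (LP (LK LD1_c1 LD2_c40 LD3_c17))
def v8912 : LQ := Led Lsl_et v2279
def v29171 : LQ := Led Lsl_gt v8912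
theorem f847937 : Led Lsl_gt v8912 = v29171 :=
  Lrfl
theorem f672721 : Led Lsl_et v2279 = v8912 :=
  Lrfl
def v8911 : LQ := Led Lsl_dt v2279
theorem f672719 : Led Lsl_dt v2279 = v8911 :=
  Lrfl
def v2278 : LQ := Led Lsl_gt (LP (LK LD1_c1 LD2_c40 LD3_c17))
def v8906 : LQ := Led Lsl_dt v2278
def v29154 : LQ := Led Lsl_ft v8906
theorem f847884 : Led Lsl_ft v8906 = v29154 :=
  Lrfl
def v29150 : LQ := Led Lsl_gt v8906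
theorem f847875 : Led Lsl_gt v8906 = v29150 :=
  Lrfl
def v8903 : LQ := Led Lsl_at v2278
def v29135 : LQ := Led Lsl_dt v8903
theorem f847829 : Led Lsl_dt v8903 = v29135 :=
  Lrfl
theorem f672699 : Led Lsl_at v2278 = v8903 :=
  Lrfl
theorem f672707 : Led Lsl_dt v2278 = v8906 :=
  Lrfl
theorem f672708 : Led Lsl_df v2278 = v8906 :=
  Lgr Lrot38 (Lpr_dt (f672707 IH) (Lpn v8906))
theorem f847830 : Led Lsl_af v8906 = v29135 :=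
  Lgr Lrot117 (Lpe (f672708 IH) (Lpr_at (f672699 IH) (Lpr_dt (f847829 IH) (Lpn v29135))))
theorem f672700 : Led Lsl_af v2278 = v8903 :=
  Lgr Lrot0 (Lpr_at (f672699 IH) (Lpn v8903))
theorem f511426 : Led Lsl_gt (LP (LK LD1_c1 LD2_c40 LD3_c17)) = v2278 :=
  Lrfl
theorem f511429 : Led Lsl_gf (LP (LK LD1_c1 LD2_c40 LD3_c17)) = v2279 :=
  Lrfl
theorem f672701 : Led Lsl_ft v2279 = v8903 :=
  Lgr Lrot2 (Lpe (f511429 IH) (Lpr_gt (f511426 IH) (Lpr_af (f672700 IH) (Lpn v8903))))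
theorem f672720 : Led Lsl_df v2279 = v8911 :=
  Lgr Lrot38 (Lpr_dt (f672719 IH) (Lpn v8911))
theorem f847832 : Led Lsl_ff v8911 = v29135 :=
  Lgr Lrot19 (Lpe (f672720 IH) (Lpr_ft (f672701 IH) (Lpr_dt (f847829 IH) (Lpn v29135))))
theorem f847833 : Led Lsl_ft v8911 = v29135 :=
  Lgr Lrot48 (Lpr_ff (f847832 IH) (Lpn v29135))
theorem f847885 : Led Lsl_af v8911 = v29154 :=
  Lgr Lrot45 (Lpr_ft (f847833 IH) (Lpe (f847830 IH) (Lpr_ft (f847884 IH) (Lpn v29154))))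
theorem f847888 : Led Lsl_gt v29150 = v8911 :=
  Lgr Lrot46 (Lpe (f847875 IH) (Lpr_ft (f847884 IH) (Lpe (f847885 IH) (Lpn v8911))))
theorem f15612 : Led Lsl_et (LP (LK LD1_c0 LD2_c46 LD3_c37)) = (LP (LK LD1_c1 LD2_c40 LD3_c17)) :=
  Lre_e IH (LK LD1_c0 LD2_c46 LD3_c37) (LK LD1_c1 LD2_c40 LD3_c17) Lrfl Lrfl
theorem f441988 : Led Lsl_et (LP (LK LD1_c13 LD2_c10 LD3_c40)) = (LP (LK LD1_c6 LD2_c56 LD3_c22)) :=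
  Lre_e IH (LK LD1_c13 LD2_c10 LD3_c40) (LK LD1_c6 LD2_c56 LD3_c22) Lrfl Lrfl
theorem f847876 : Led Lsl_dt (LP (LK LD1_c13 LD2_c10 LD3_c40)) = v29150 :=
  Lgr Lrot56 (Lpr_et (f441988 IH) (Lpr_gt (K63.f93251 IH) (Lpe (K5.f15071 IH) (Lpr_dt (K2.f11972 IH) (Lpr_gt (K2.f11953 IH) (Lpe (K0.f14555 IH) (Lpr_et (f15612 IH) (Lpr_gt (f511426 IH) (Lpr_dt (f672707 IH) (Lpr_gt (f847875 IH) (Lpn v29150)))))))))))
theorem f97811 : Led Lsl_af (LP (LK LD1_c3 LD2_c27 LD3_c13)) = (LP (LK LD1_c3 LD2_c50 LD3_c51)) :=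
  Lgr Lrot0 (Lpr_at (K3.f97802 IH) (Lpn (LP (LK LD1_c3 LD2_c50 LD3_c51))))
theorem f97801 : Led Lsl_ft (LP (LK LD1_c7 LD2_c42 LD3_c50)) = (LP (LK LD1_c3 LD2_c50 LD3_c51)) :=
  Lre_f IH (LK LD1_c7 LD2_c42 LD3_c50) (LK LD1_c3 LD2_c50 LD3_c51) Lrfl Lrfl
theorem f441986 : Led Lsl_gf (LP (LK LD1_c6 LD2_c56 LD3_c22)) = (LP (LK LD1_c7 LD2_c42 LD3_c50)) :=
  Lgr Lrot47 (Lpr_gt (K63.f93251 IH) (Lpr_af (f97811 IH) (Lpe (f97801 IH) (Lpn (LP (LK LD1_c7 LD2_c42 LD3_c50))))))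
theorem f89924 : Led Lsl_gt (LP (LK LD1_c7 LD2_c37 LD3_c31)) = (LP (LK LD1_c14 LD2_c22 LD3_c30)) :=
  Lre_g IH (LK LD1_c7 LD2_c37 LD3_c31) (LK LD1_c14 LD2_c22 LD3_c30) Lrfl Lrfl
theorem f89925 : Led Lsl_gf (LP (LK LD1_c13 LD2_c10 LD3_c20)) = (LP (LK LD1_c14 LD2_c22 LD3_c30)) :=
  Lgr Lrot76 (Lpr_af (K3.f89897 IH) (Lpe (K3.f89896 IH) (Lpr_gt (f89924 IH) (Lpn (LP (LK LD1_c14 LD2_c22 LD3_c30))))))
theorem f847938 : Led Lsl_df (LP (LK LD1_c14 LD2_c22 LD3_c30)) = v29171 :=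
  Lgr Lrot135 (Lpe (f89925 IH) (Lpe (K60.f89906 IH) (Lpr_et (K3.f97794 IH) (Lpe (f441986 IH) (Lpe (f441988 IH) (Lpr_dt (f847876 IH) (Lpr_gt (f847888 IH) (Lpe (f672719 IH) (Lpr_et (f672721 IH) (Lpr_gt (f847937 IH) (Lpn v29171)))))))))))
theorem f89955 : Led Lsl_dt (LP (LK LD1_c3 LD2_c48 LD3_c14)) = (LP (LK LD1_c7 LD2_c37 LD3_c31)) :=
  Lre_d IH (LK LD1_c3 LD2_c48 LD3_c14) (LK LD1_c7 LD2_c37 LD3_c31) Lrfl Lrfl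
def v22496 : LQ := Led Lsl_et (LP (LK LD1_c7 LD2_c37 LD3_c30))
theorem f807311 : Led Lsl_et (LP (LK LD1_c7 LD2_c37 LD3_c30)) = v22496 :=
  Lrfl
theorem f807312 : Led Lsl_ef (LP (LK LD1_c7 LD2_c37 LD3_c30)) = v22496 :=
  Lgr Lrot88 (Lpr_et (f807311 IH) (Lpn v22496))
theorem f807313 : Led Lsl_df (LP (LK LD1_c14 LD2_c33 LD3_c23)) = v22496 :=
  Lgr Lrot132 (Lpe (K63.f11864 IH) (Lpe (K63.f11863 IH) (Lpe (K63.f11862 IH) (Lpe (K65.f11861 IH) (Lpr_dt (K3.f11516 IH) (Lpr_gf (K0.f11521 IH) (Lpe (K3.f11837 IH) (Lpr_et (K3.f11865 IH) (Lpe (K63.f11866 IH) (Lpr_ef (f807312 IH) (Lpn v22496)))))))))))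
theorem f666665 : Led Lsl_et (LP (LK LD1_c3 LD2_c51 LD3_c1)) = (LP (LK LD1_c7 LD2_c43 LD3_c20)) :=
  Lre_e IH (LK LD1_c3 LD2_c51 LD3_c1) (LK LD1_c7 LD2_c43 LD3_c20) Lrfl Lrfl
theorem f97563 : Led Lsl_gt (LP (LK LD1_c14 LD2_c33 LD3_c27)) = (LP (LK LD1_c7 LD2_c43 LD3_c20)) :=
  Lre_g IH (LK LD1_c14 LD2_c33 LD3_c27) (LK LD1_c7 LD2_c43 LD3_c20) Lrfl Lrfl
theorem f847942 : Led Lsl_ef (LP (LK LD1_c14 LD2_c33 LD3_c27)) = v29171 :=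
  Lgr Lrot114 (Lpr_gt (f97563 IH) (Lpe (f666665 IH) (Lpr_dt (K63.f11863 IH) (Lpr_gt (K63.f11864 IH) (Lpr_df (f807313 IH) (Lpe (f807312 IH) (Lpr_gt (K63.f11866 IH) (Lpr_dt (f89955 IH) (Lpr_gt (f89924 IH) (Lpr_df (f847938 IH) (Lpn v29171)))))))))))
theorem f89276 : Led Lsl_ct (LP (LK LD1_c14 LD2_c18 LD3_c17)) = (LP (LK LD1_c23 LD2_c56 LD3_c19)) :=
  Lre_c IH (LK LD1_c14 LD2_c18 LD3_c17) (LK LD1_c23 LD2_c56 LD3_c19) Lrfl Lrfl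
theorem f89241 : Led Lsl_at (LP (LK LD1_c14 LD2_c25 LD3_c61)) = (LP (LK LD1_c7 LD2_c39 LD3_c43)) :=
  Lre_a IH (LK LD1_c14 LD2_c25 LD3_c61) (LK LD1_c7 LD2_c39 LD3_c43) Lrfl Lrfl
theorem f89240 : Led Lsl_bt (LP (LK LD1_c7 LD2_c39 LD3_c43)) = (LP (LK LD1_c3 LD2_c49 LD3_c32)) :=
  Lre_b IH (LK LD1_c7 LD2_c39 LD3_c43) (LK LD1_c3 LD2_c49 LD3_c32) Lrfl Lrfl
theorem f439674 : Led Lsl_bt (LP (LK LD1_c7 LD2_c35 LD3_c12)) = (LP (LK LD1_c6 LD2_c33 LD3_c32)) :=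
  Lgr Lrot62 (Lpr_af (K2.f89235 IH) (Lpe (f89240 IH) (Lpe (f89241 IH) (Lpr_bf (K60.f128723 IH) (Lpr_af (K51.f439670 IH) (Lpn (LP (LK LD1_c6 LD2_c33 LD3_c32))))))))
theorem f439682 : Led Lsl_bf (LP (LK LD1_c7 LD2_c35 LD3_c12)) = (LP (LK LD1_c6 LD2_c33 LD3_c32)) :=
  Lgr Lrot24 (Lpr_bt (f439674 IH) (Lpn (LP (LK LD1_c6 LD2_c33 LD3_c32))))
theorem f708396 : Led Lsl_bt (LP (LK LD1_c14 LD2_c18 LD3_c17)) = (LP (LK LD1_c12 LD2_c4 LD3_c31)) :=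
  Lgr Lrot35 (Lpe (K2.f89248 IH) (Lpr_bf (f439682 IH) (Lpr_ff (K51.f708394 IH) (Lpn (LP (LK LD1_c12 LD2_c4 LD3_c31))))))
theorem f454374 : Led Lsl_ct (LP (LK LD1_c6 LD2_c47 LD3_c15)) = (LP (LK LD1_c12 LD2_c57 LD3_c34)) :=
  Lre_c IH (LK LD1_c6 LD2_c47 LD3_c15) (LK LD1_c12 LD2_c57 LD3_c34) Lrfl Lrfl
theorem f129962 : Led Lsl_ct (LP (LK LD1_c17 LD2_c17 LD3_c8)) = (LP (LK LD1_c9 LD2_c21 LD3_c7)) :=
  Lre_c IH (LK LD1_c17 LD2_c17 LD3_c8) (LK LD1_c9 LD2_c21 LD3_c7) Lrfl Lrfl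
theorem f709478 : Led Lsl_gt (LP (LK LD1_c12 LD2_c57 LD3_c34)) = (LP (LK LD1_c17 LD2_c17 LD3_c8)) :=
  Lgr Lrot150 (Lpe (f454374 IH) (Lpe (K50.f701548 IH) (Lpe (K50.f502974 IH) (Lpr_gt (K50.f140038 IH) (Lpr_ct (K63.f502973 IH) (Lpr_gt (K51.f502972 IH) (Lpq (K51.f674274 IH) (Lpqs (K51.f708033 IH) (Lpr_ct (K51.f129967 IH) (Lpe (K51.f129959 IH) (Lpe (f129962 IH) (Lpn (LP (LK LD1_c17 LD2_c17 LD3_c8))))))))))))))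
theorem f129956 : Led Lsl_ct (LP (LK LD1_c9 LD2_c21 LD3_c7)) = (LP (LK LD1_c17 LD2_c17 LD3_c8)) :=
  Lre_c IH (LK LD1_c9 LD2_c21 LD3_c7) (LK LD1_c17 LD2_c17 LD3_c8) Lrfl Lrfl
theorem f127402 : Led Lsl_bt (LP (LK LD1_c12 LD2_c33 LD3_c59)) = (LP (LK LD1_c6 LD2_c33 LD3_c28)) :=
  Lre_b IH (LK LD1_c12 LD2_c33 LD3_c59) (LK LD1_c6 LD2_c33 LD3_c28) Lrfl Lrfl
theorem f127391 : Led Lsl_af (LP (LK LD1_c12 LD2_c33 LD3_c59)) = (LP (LK LD1_c13 LD2_c10 LD3_c1)) :=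
  Lgr Lrot0 (Lpr_at (K5.f127384 IH) (Lpn (LP (LK LD1_c13 LD2_c10 LD3_c1))))
theorem f90010 : Led Lsl_bt (LP (LK LD1_c6 LD2_c56 LD3_c8)) = (LP (LK LD1_c13 LD2_c10 LD3_c1)) :=
  Lre_b IH (LK LD1_c6 LD2_c56 LD3_c8) (LK LD1_c13 LD2_c10 LD3_c1) Lrfl Lrfl
theorem f129954 : Led Lsl_bt (LP (LK LD1_c9 LD2_c21 LD3_c7)) = (LP (LK LD1_c7 LD2_c37 LD3_c31)) :=
  Lgr Lrot62 (Lpr_af (K51.f129949 IH) (Lpe (f127402 IH) (Lpr_af (f127391 IH) (Lpe (f90010 IH) (Lpr_af (K63.f89884 IH) (Lpn (LP (LK LD1_c7 LD2_c37 LD3_c31))))))))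
theorem f712596 : Led Lsl_bt (LP (LK LD1_c7 LD2_c42 LD3_c28)) = (LP (LK LD1_c14 LD2_c22 LD3_c30)) :=
  Lgr Lrot92 (Lpr_ct (K63.f712572 IH) (Lpe (K63.f442213 IH) (Lpe (f89276 IH) (Lpr_bt (f708396 IH) (Lpr_gt (K50.f701548 IH) (Lpr_ct (f454374 IH) (Lpr_gt (f709478 IH) (Lpe (f129956 IH) (Lpr_bt (f129954 IH) (Lpr_gt (f89924 IH) (Lpn (LP (LK LD1_c14 LD2_c22 LD3_c30)))))))))))))
theorem f712598 : Led Lsl_bf (LP (LK LD1_c7 LD2_c42 LD3_c28)) = (LP (LK LD1_c14 LD2_c22 LD3_c30)) :=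
  Lgr Lrot24 (Lpr_bt (f712596 IH) (Lpn (LP (LK LD1_c14 LD2_c22 LD3_c30))))
theorem f441318 : Led Lsl_dt (LP (LK LD1_c7 LD2_c42 LD3_c28)) = (LP (LK LD1_c14 LD2_c31 LD3_c43)) :=
  Lre_d IH (LK LD1_c7 LD2_c42 LD3_c28) (LK LD1_c14 LD2_c31 LD3_c43) Lrfl Lrfl
theorem f847939 : Led Lsl_bt (LP (LK LD1_c14 LD2_c31 LD3_c43)) = v29171 :=
  Lgr Lrot95 (Lpe (f441318 IH) (Lpr_bf (f712598 IH) (Lpr_df (f847938 IH) (Lpn v29171))))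
theorem f754772 : Led Lsl_et (LP (LK LD1_c7 LD2_c44 LD3_c52)) = (LP (LK LD1_c14 LD2_c31 LD3_c43)) :=
  Lre_e IH (LK LD1_c7 LD2_c44 LD3_c52) (LK LD1_c14 LD2_c31 LD3_c43) Lrfl Lrfl
def v22929 : LQ := Led Lsl_bt (LP (LK LD1_c7 LD2_c44 LD3_c52))
theorem f813734 : Led Lsl_bt (LP (LK LD1_c7 LD2_c44 LD3_c52)) = v22929 :=
  Lrfl
theorem f813735 : Led Lsl_bf (LP (LK LD1_c7 LD2_c44 LD3_c52)) = v22929 :=
  Lgr Lrot24 (Lpr_bt (f813734 IH) (Lpn v22929))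
theorem f847944 : (LP (LK LD1_c14 LD2_c33 LD3_c27)) = v22929 :=
  (Llr Lrot74 (Lpr_ef (f847942 IH) (Lpe (f847939 IH) (Lpe (f754772 IH) (Lpr_bf (f813735 IH) (Lpn v22929)))))).symm
theorem f847945 : Led Lsl_bt (LP (LK LD1_c14 LD2_c33 LD3_c27)) = (LP (LK LD1_c7 LD2_c44 LD3_c52)) :=
  Leop (Lpr_bf (f813735 IH) (Lpq (f847944 IH) (Lpn (LP (LK LD1_c14 LD2_c33 LD3_c27)))))
theorem seed_1973 : LEOK LG_b (LK LD1_c14 LD2_c33 LD3_c27) :=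
  Leoe_b (LK LD1_c14 LD2_c33 LD3_c27) (f847945 IH)
def v29245 : LQ := Led Lsl_bt K61.v8964
theorem f848292 : Led Lsl_bt K61.v8964 = v29245 :=
  Lrfl
theorem f682643 : Led Lsl_bf K61.v3560 = K64.v10949 :=
  Lgr Lrot24 (Lpr_bt (K64.f682642 IH) (Lpn K64.v10949))
theorem f848294 : Led Lsl_cf K64.v10949 = v29245 :=
  Lgr Lrot97 (Lpe (f682643 IH) (Lpe (K64.f626267 IH) (Lpr_bt (K61.f626264 IH) (Lpr_ct (K61.f672967 IH) (Lpr_bt (f848292 IH) (Lpn v29245))))))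
theorem f86672 : Led Lsl_bt (LP (LK LD1_c13 LD2_c26 LD3_c16)) = (LP (LK LD1_c22 LD2_c45 LD3_c46)) :=
  Lre_b IH (LK LD1_c13 LD2_c26 LD3_c16) (LK LD1_c22 LD2_c45 LD3_c46) Lrfl Lrfl
theorem f848293 : Led Lsl_bf K61.v8964 = v29245 :=
  Lgr Lrot24 (Lpr_bt (f848292 IH) (Lpn v29245))
theorem f672969 : Led Lsl_gt (LP (LK LD1_c6 LD2_c58 LD3_c4)) = K61.v8964 :=
  Lgr Lrot65 (Lpe (K29.f9854 IH) (Lpr_bt (K29.f9855 IH) (Lpr_gf (K64.f626551 IH) (Lpr_bf (K63.f667467 IH) (Lpe (K63.f667465 IH) (Lpr_gf (K61.f667449 IH) (Lpe (K64.f667452 IH) (Lpe (K61.f535581 IH) (Lpr_bf (K61.f626265 IH) (Lpr_ct (K61.f672967 IH) (Lpn K61.v8964)))))))))))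
theorem f18127 : Led Lsl_ct (LP (LK LD1_c22 LD2_c45 LD3_c33)) = (LP (LK LD1_c13 LD2_c26 LD3_c7)) :=
  Lre_c IH (LK LD1_c22 LD2_c45 LD3_c33) (LK LD1_c13 LD2_c26 LD3_c7) Lrfl Lrfl
theorem f848298 : Led Lsl_gt (LP (LK LD1_c22 LD2_c45 LD3_c46)) = (LP (LK LD1_c22 LD2_c45 LD3_c33)) :=
  Lgr Lrot82 (Lpe (f86672 IH) (Lpr_ct (K64.f86677 IH) (Lpr_gf (K64.f682644 IH) (Lpr_cf (f848294 IH) (Lpe (f848293 IH) (Lpe (f672969 IH) (Lpe (K29.f9851 IH) (Lpe (K29.f9841 IH) (Lpe (K64.f19300 IH) (Lpe (f18127 IH) (Lpn (LP (LK LD1_c22 LD2_c45 LD3_c33)))))))))))))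
theorem f848299 : Led Lsl_gt (LP (LK LD1_c22 LD2_c45 LD3_c46)) = (LP (LK LD1_c22 LD2_c45 LD3_c33)) :=
  Leop (Lpe (f848298 IH) (Lpn (LP (LK LD1_c22 LD2_c45 LD3_c46))))
theorem seed_1974 : LEOK LG_g (LK LD1_c22 LD2_c45 LD3_c46) :=
  Leoe_g (LK LD1_c22 LD2_c45 LD3_c46) (f848299 IH)
def v2455 : LQ := Led Lsl_gf (LP (LK LD1_c1 LD2_c45 LD3_c46))
def v9131 : LQ := Led Lsl_bt v2455
def v29512 : LQ := Led Lsl_ct v9131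
theorem f849508 : Led Lsl_ct v9131 = v29512 :=
  Lrfl
theorem f849510 : Led Lsl_cf v9131 = v29512 :=
  Lgr Lrot11 (Lpr_ct (f849508 IH) (Lpn v29512))
theorem f673723 : Led Lsl_bt v2455 = v9131 :=
  Lrfl
theorem f673724 : Led Lsl_bf v2455 = v9131 :=
  Lgr Lrot24 (Lpr_bt (f673723 IH) (Lpn v9131))
def v9132 : LQ := Led Lsl_ct v2455
theorem f673725 : Led Lsl_ct v2455 = v9132 :=
  Lrfl
theorem f673726 : Led Lsl_cf v2455 = v9132 :=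
  Lgr Lrot11 (Lpr_ct (f673725 IH) (Lpn v9132))
theorem f522394 : Led Lsl_gf (LP (LK LD1_c1 LD2_c45 LD3_c46)) = v2455 :=
  Lrfl
def v324 : LQ := Led Lsl_ct K11.v106
theorem f452142 : Led Lsl_ct K11.v106 = v324 :=
  Lrfl
theorem f452143 : Led Lsl_cf K11.v106 = v324 :=
  Lgr Lrot11 (Lpr_ct (f452142 IH) (Lpn v324))
def v1199 : LQ := Led Lsl_bt v324
theorem f493913 : Led Lsl_bt v324 = v1199 :=
  Lrfl
def v4054 : LQ := Led Lsl_gt v1199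
theorem f629207 : Led Lsl_gt v1199 = v4054 :=
  Lrfl
theorem f673727 : Led Lsl_bf v4054 = v9132 :=
  Lgr Lrot34 (Lpe (f629207 IH) (Lpe (f493913 IH) (Lpe (f452143 IH) (Lpe (K11.f448785 IH) (Lpr_cf (K61.f450846 IH) (Lpe (K61.f450849 IH) (Lpe (K49.f10909 IH) (Lpr_ct (K49.f10950 IH) (Lpr_gf (f522394 IH) (Lpr_cf (f673726 IH) (Lpn v9132)))))))))))
def v12224 : LQ := Led Lsl_ct v4054
theorem f688122 : Led Lsl_ct v4054 = v12224 :=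
  Lrfl
theorem f849512 : Led Lsl_bt v12224 = v29512 :=
  Lgr Lrot128 (Lpe (f688122 IH) (Lpr_bf (f673727 IH) (Lpe (f673725 IH) (Lpr_bf (f673724 IH) (Lpr_cf (f849510 IH) (Lpn v29512))))))
theorem f688123 : Led Lsl_cf v4054 = v12224 :=
  Lgr Lrot11 (Lpr_ct (f688122 IH) (Lpn v12224))
def v259 : LQ := Led Lsl_dt (LP (LK LD1_c0 LD2_c24 LD3_c29))
def v1100 : LQ := Led Lsl_ct v259
def v3882 : LQ := Led Lsl_bt v1100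
theorem f627721 : Led Lsl_bt v1100 = v3882 :=
  Lrfl
theorem f491487 : Led Lsl_ct v259 = v1100 :=
  Lrfl
theorem f451408 : Led Lsl_dt (LP (LK LD1_c0 LD2_c24 LD3_c29)) = v259 :=
  Lrfl
theorem f451411 : Led Lsl_ff (LP (LK LD1_c0 LD2_c46 LD3_c5)) = v259 :=
  Lgr Lrot19 (Lpr_dt (K5.f19767 IH) (Lpe (K6.f142752 IH) (Lpr_dt (f451408 IH) (Lpn v259))))
theorem f143288 : Led Lsl_ft (LP (LK LD1_c0 LD2_c9 LD3_c17)) = (LP (LK LD1_c0 LD2_c20 LD3_c36)) :=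
  Lre_f IH (LK LD1_c0 LD2_c9 LD3_c17) (LK LD1_c0 LD2_c20 LD3_c36) Lrfl Lrfl
theorem f154107 : Led Lsl_af (LP (LK LD1_c0 LD2_c20 LD3_c36)) = (LP (LK LD1_c0 LD2_c20 LD3_c36)) :=
  Lgr Lrot31 (Lpr_gf (K7.f154105 IH) (Lpr_gf (K6.f143286 IH) (Lpr_ft (f143288 IH) (Lpn (LP (LK LD1_c0 LD2_c20 LD3_c36))))))
theorem f121378 : Led Lsl_bt (LP (LK LD1_c0 LD2_c10 LD3_c54)) = (LP (LK LD1_c0 LD2_c24 LD3_c29)) :=
  Lre_b IH (LK LD1_c0 LD2_c10 LD3_c54) (LK LD1_c0 LD2_c24 LD3_c29) Lrfl Lrfl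
theorem f142748 : Led Lsl_ef (LP (LK LD1_c0 LD2_c10 LD3_c54)) = (LP (LK LD1_c0 LD2_c20 LD3_c36)) :=
  Lgr Lrot29 (Lpr_bt (f121378 IH) (Lpr_et (K6.f142744 IH) (Lpr_bt (K2.f21049 IH) (Lpn (LP (LK LD1_c0 LD2_c20 LD3_c36))))))
theorem f435244 : Led Lsl_at (LP (LK LD1_c0 LD2_c10 LD3_c54)) = (LP (LK LD1_c0 LD2_c10 LD3_c54)) :=
  Lgr Lrot80 (Lpr_ef (f142748 IH) (Lpr_af (f154107 IH) (Lpe (K6.f142740 IH) (Lpn (LP (LK LD1_c0 LD2_c10 LD3_c54))))))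
theorem f142754 : Led Lsl_ft (LP (LK LD1_c0 LD2_c10 LD3_c54)) = (LP (LK LD1_c0 LD2_c9 LD3_c22)) :=
  Lgr Lrot75 (Lpe (K5.f10006 IH) (Lpr_ff (K6.f142752 IH) (Lpe (K2.f12632 IH) (Lpn (LP (LK LD1_c0 LD2_c9 LD3_c22))))))
theorem f435248 : Led Lsl_ff (LP (LK LD1_c0 LD2_c10 LD3_c54)) = (LP (LK LD1_c0 LD2_c9 LD3_c22)) :=
  Lgr Lrot30 (Lpr_at (f435244 IH) (Lpr_ft (f142754 IH) (Lpr_at (K6.f145426 IH) (Lpn (LP (LK LD1_c0 LD2_c9 LD3_c22))))))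
theorem f448783 : Led Lsl_ff (LP (LK LD1_c0 LD2_c20 LD3_c41)) = K11.v106 :=
  Lgr Lrot19 (Lpr_dt (K6.f12146 IH) (Lpe (f435248 IH) (Lpr_dt (K11.f448781 IH) (Lpn K11.v106))))
theorem f448876 : Led Lsl_ft (LP (LK LD1_c0 LD2_c20 LD3_c41)) = K11.v106 :=
  Lgr Lrot48 (Lpr_ff (f448783 IH) (Lpn K11.v106))
theorem f451412 : Led Lsl_bt K11.v106 = v259 :=
  Lgr Lrot35 (Lpe (f448876 IH) (Lpe (K6.f12171 IH) (Lpr_ff (f451411 IH) (Lpn v259))))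
theorem f493914 : Led Lsl_bf v324 = v1199 :=
  Lgr Lrot24 (Lpr_bt (f493913 IH) (Lpn v1199))
theorem f627723 : Led Lsl_cf v1199 = v3882 :=
  Lgr Lrot97 (Lpe (f493914 IH) (Lpe (f452143 IH) (Lpr_bt (f451412 IH) (Lpr_ct (f491487 IH) (Lpr_bt (f627721 IH) (Lpn v3882))))))
theorem f627722 : Led Lsl_bf v1100 = v3882 :=
  Lgr Lrot24 (Lpr_bt (f627721 IH) (Lpn v3882))
theorem f451409 : Led Lsl_bf K11.v106 = v259 :=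
  Lgr Lrot93 (Lpe (K11.f448782 IH) (Lpr_bt (f121378 IH) (Lpr_dt (f451408 IH) (Lpn v259))))
theorem f491490 : Led Lsl_gt (LP (LK LD1_c3 LD2_c37 LD3_c44)) = v1100 :=
  Lgr Lrot65 (Lpe (K62.f156176 IH) (Lpr_bt (K11.f156071 IH) (Lpe (K7.f10087 IH) (Lpe (K35.f10086 IH) (Lpr_ct (K35.f9946 IH) (Lpr_gf (K35.f450922 IH) (Lpe (K35.f450925 IH) (Lpr_gf (K11.f448784 IH) (Lpr_bf (f451409 IH) (Lpr_ct (f491487 IH) (Lpn v1100)))))))))))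
theorem f438951 : Led Lsl_bt (LP (LK LD1_c7 LD2_c15 LD3_c52)) = (LP (LK LD1_c3 LD2_c37 LD3_c44)) :=
  Lre_b IH (LK LD1_c7 LD2_c15 LD3_c52) (LK LD1_c3 LD2_c37 LD3_c44) Lrfl Lrfl
theorem f438954 : Led Lsl_ct (LP (LK LD1_c7 LD2_c15 LD3_c52)) = (LP (LK LD1_c3 LD2_c37 LD3_c45)) :=
  Lre_c IH (LK LD1_c7 LD2_c15 LD3_c52) (LK LD1_c3 LD2_c37 LD3_c45) Lrfl Lrfl
theorem f429206 : Led Lsl_gt (LP (LK LD1_c7 LD2_c15 LD3_c54)) = (LP (LK LD1_c3 LD2_c37 LD3_c45)) :=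
  Lre_g IH (LK LD1_c7 LD2_c15 LD3_c54) (LK LD1_c3 LD2_c37 LD3_c45) Lrfl Lrfl
def v21295 : LQ := Led Lsl_ct (LP (LK LD1_c7 LD2_c15 LD3_c54))
theorem f794936 : Led Lsl_ct (LP (LK LD1_c7 LD2_c15 LD3_c54)) = v21295 :=
  Lrfl
theorem f794937 : Led Lsl_cf (LP (LK LD1_c7 LD2_c15 LD3_c54)) = v21295 :=
  Lgr Lrot11 (Lpr_ct (f794936 IH) (Lpn v21295))
theorem f849513 : Led Lsl_gf v21295 = v29512 :=
  Lgr Lrot181 (Lpe (f794937 IH) (Lpr_gt (f429206 IH) (Lpe (f438954 IH) (Lpr_bt (f438951 IH) (Lpr_gt (f491490 IH) (Lpr_bf (f627722 IH) (Lpe (f627723 IH) (Lpr_gt (f629207 IH) (Lpr_cf (f688123 IH) (Lpr_bt (f849512 IH) (Lpn v29512)))))))))))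
theorem f794924 : Led Lsl_bt (LP (LK LD1_c7 LD2_c15 LD3_c54)) = (LP (LK LD1_c13 LD2_c44 LD3_c38)) :=
  Lre_b IH (LK LD1_c7 LD2_c15 LD3_c54) (LK LD1_c13 LD2_c44 LD3_c38) Lrfl Lrfl
def v2456 : LQ := Led Lsl_at (LP (LK LD1_c1 LD2_c45 LD3_c46))
theorem f522401 : Led Lsl_at (LP (LK LD1_c1 LD2_c45 LD3_c46)) = v2456 :=
  Lrfl
theorem f522402 : Led Lsl_af (LP (LK LD1_c1 LD2_c45 LD3_c46)) = v2456 :=
  Lgr Lrot0 (Lpr_at (f522401 IH) (Lpn v2456))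
theorem f660686 : Led Lsl_ff v2456 = K61.v7065 :=
  Lgr Lrot30 (Lpe (f522402 IH) (Lpr_ft (K61.f522406 IH) (Lpr_at (K61.f660681 IH) (Lpn K61.v7065))))
theorem f660689 : Led Lsl_gf v2455 = K61.v7065 :=
  Lgr Lrot47 (Lpe (f522394 IH) (Lpr_af (f522402 IH) (Lpr_ff (f660686 IH) (Lpn K61.v7065))))
def v21194 : LQ := Led Lsl_gt (LP (LK LD1_c7 LD2_c13 LD3_c18))
theorem f794350 : Led Lsl_gt (LP (LK LD1_c7 LD2_c13 LD3_c18)) = v21194 :=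
  Lrfl
def v7023 : LQ := Led Lsl_ft (LP (LK LD1_c3 LD2_c36 LD3_c29))
theorem f660392 : Led Lsl_ft (LP (LK LD1_c3 LD2_c36 LD3_c29)) = v7023 :=
  Lrfl
theorem f794351 : Led Lsl_at v7023 = v21194 :=
  Lgr Lrot26 (Lpe (f660392 IH) (Lpr_gt (K49.f10889 IH) (Lpr_gt (f794350 IH) (Lpn v21194))))
theorem f660395 : Led Lsl_ff (LP (LK LD1_c3 LD2_c36 LD3_c29)) = v7023 :=
  Lgr Lrot3 (Lpr_ft (f660392 IH) (Lpn v7023))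
theorem f10884 : Led Lsl_bt (LP (LK LD1_c3 LD2_c36 LD3_c29)) = (LP (LK LD1_c1 LD2_c45 LD3_c5)) :=
  Lre_b IH (LK LD1_c3 LD2_c36 LD3_c29) (LK LD1_c1 LD2_c45 LD3_c5) Lrfl Lrfl
theorem f660396 : Led Lsl_bt K47.v2425 = v7023 :=
  Lgr Lrot35 (Lpe (K47.f519626 IH) (Lpe (f10884 IH) (Lpr_ff (f660395 IH) (Lpn v7023))))
theorem f446281 : Led Lsl_at (LP (LK LD1_c1 LD2_c45 LD3_c5)) = (LP (LK LD1_c0 LD2_c49 LD3_c32)) :=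
  Lre_a IH (LK LD1_c1 LD2_c45 LD3_c5) (LK LD1_c0 LD2_c49 LD3_c32) Lrfl Lrfl
theorem f456882 : Led Lsl_ft (LP (LK LD1_c0 LD2_c49 LD3_c32)) = (LP (LK LD1_c1 LD2_c45 LD3_c48)) :=
  Lre_f IH (LK LD1_c0 LD2_c49 LD3_c32) (LK LD1_c1 LD2_c45 LD3_c48) Lrfl Lrfl
theorem f519632 : Led Lsl_at (LP (LK LD1_c1 LD2_c45 LD3_c48)) = K47.v2425 :=
  Lgr Lrot66 (Lpe (f456882 IH) (Lpe (f446281 IH) (Lpr_ff (K47.f519631 IH) (Lpn K47.v2425))))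
theorem f441811 : Led Lsl_bt (LP (LK LD1_c0 LD2_c49 LD3_c32)) = (LP (LK LD1_c1 LD2_c45 LD3_c46)) :=
  Lre_b IH (LK LD1_c0 LD2_c49 LD3_c32) (LK LD1_c1 LD2_c45 LD3_c46) Lrfl Lrfl
theorem f19792 : Led Lsl_ft (LP (LK LD1_c1 LD2_c45 LD3_c48)) = (LP (LK LD1_c0 LD2_c49 LD3_c32)) :=
  Lre_f IH (LK LD1_c1 LD2_c45 LD3_c48) (LK LD1_c0 LD2_c49 LD3_c32) Lrfl Lrfl
theorem f522407 : Led Lsl_bf (LP (LK LD1_c1 LD2_c45 LD3_c48)) = K61.v2457 :=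
  Lgr Lrot61 (Lpr_ft (f19792 IH) (Lpr_bt (f441811 IH) (Lpr_ft (K61.f522406 IH) (Lpn K61.v2457))))
theorem f794353 : Led Lsl_bf K61.v7065 = v21194 :=
  Lgr Lrot81 (Lpe (K61.f660684 IH) (Lpe (f522407 IH) (Lpr_at (f519632 IH) (Lpr_bt (f660396 IH) (Lpr_at (f794351 IH) (Lpn v21194))))))
theorem f10869 : Led Lsl_et (LP (LK LD1_c7 LD2_c13 LD3_c15)) = (LP (LK LD1_c3 LD2_c36 LD3_c29)) :=
  Lre_e IH (LK LD1_c7 LD2_c13 LD3_c15) (LK LD1_c3 LD2_c36 LD3_c29) Lrfl Lrfl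
theorem f10870 : Led Lsl_et (LP (LK LD1_c3 LD2_c36 LD3_c29)) = (LP (LK LD1_c7 LD2_c13 LD3_c15)) :=
  Lre_e IH (LK LD1_c3 LD2_c36 LD3_c29) (LK LD1_c7 LD2_c13 LD3_c15) Lrfl Lrfl
theorem f10871 : Led Lsl_ct (LP (LK LD1_c3 LD2_c36 LD3_c29)) = (LP (LK LD1_c3 LD2_c36 LD3_c29)) :=
  Lgr Lrot15 (Lpe (f10869 IH) (Lpr_cf (K47.f10857 IH) (Lpe (f10870 IH) (Lpn (LP (LK LD1_c3 LD2_c36 LD3_c29))))))
theorem f660397 : Led Lsl_ct v7023 = v7023 :=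
  Lgr Lrot40 (Lpe (f660392 IH) (Lpe (f10871 IH) (Lpr_ff (f660395 IH) (Lpn v7023))))
theorem f794352 : Led Lsl_af v7023 = v21194 :=
  Lgr Lrot0 (Lpr_at (f794351 IH) (Lpn v21194))
theorem f794354 : Led Lsl_cf v21194 = v21194 :=
  Lgr Lrot1 (Lpe (f794352 IH) (Lpr_ct (f660397 IH) (Lpr_at (f794351 IH) (Lpn v21194))))
theorem f10897 : Led Lsl_ct (LP (LK LD1_c13 LD2_c40 LD3_c16)) = (LP (LK LD1_c7 LD2_c13 LD3_c18)) :=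
  Lre_c IH (LK LD1_c13 LD2_c40 LD3_c16) (LK LD1_c7 LD2_c13 LD3_c18) Lrfl Lrfl
theorem f849514 : Led Lsl_gt (LP (LK LD1_c13 LD2_c44 LD3_c38)) = (LP (LK LD1_c13 LD2_c40 LD3_c16)) :=
  Lgr Lrot82 (Lpe (f794924 IH) (Lpr_ct (f794936 IH) (Lpr_gf (f849513 IH) (Lpe (f849508 IH) (Lpe (f673724 IH) (Lpr_gf (f660689 IH) (Lpr_bf (f794353 IH) (Lpe (f794354 IH) (Lpe (f794350 IH) (Lpe (f10897 IH) (Lpn (LP (LK LD1_c13 LD2_c40 LD3_c16)))))))))))))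
theorem f849515 : Led Lsl_gt (LP (LK LD1_c13 LD2_c44 LD3_c38)) = (LP (LK LD1_c13 LD2_c40 LD3_c16)) :=
  Leop (Lpe (f849514 IH) (Lpn (LP (LK LD1_c13 LD2_c44 LD3_c38))))
theorem seed_1975 : LEOK LG_g (LK LD1_c13 LD2_c44 LD3_c38) :=
  Leoe_g (LK LD1_c13 LD2_c44 LD3_c38) (f849515 IH)
def v29676 : LQ := Led Lsl_dt K57.v9227
theorem f850320 : Led Lsl_dt K57.v9227 = v29676 :=
  Lrfl
theorem f23632 : Led Lsl_ct (LP (LK LD1_c3 LD2_c13 LD3_c38)) = (LP (LK LD1_c6 LD2_c30 LD3_c57)) :=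
  Lre_c IH (LK LD1_c3 LD2_c13 LD3_c38) (LK LD1_c6 LD2_c30 LD3_c57) Lrfl Lrfl
theorem f760476 : K57.v6452 = (LP (LK LD1_c6 LD2_c30 LD3_c57)) :=
  Lefun (Lecon (K57.f653469 IH) (K57.f760465 IH)) (f23632 IH)
theorem f649518 : Led Lsl_dt (LP (LK LD1_c12 LD2_c30 LD3_c33)) = (LP (LK LD1_c6 LD2_c30 LD3_c57)) :=
  Lre_d IH (LK LD1_c12 LD2_c30 LD3_c33) (LK LD1_c6 LD2_c30 LD3_c57) Lrfl Lrfl
theorem f850323 : Led Lsl_ff (LP (LK LD1_c12 LD2_c30 LD3_c33)) = v29676 :=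
  Lgr Lrot19 (Lpr_dt (f649518 IH) (Lpq (f760476 IH) (Lpr_ft (K57.f716253 IH) (Lpqs (K57.f754165 IH) (Lpr_dt (f850320 IH) (Lpn v29676))))))
theorem f415744 : Led Lsl_dt (LP (LK LD1_c3 LD2_c21 LD3_c59)) = (LP (LK LD1_c6 LD2_c47 LD3_c38)) :=
  Lre_d IH (LK LD1_c3 LD2_c21 LD3_c59) (LK LD1_c6 LD2_c47 LD3_c38) Lrfl Lrfl
theorem f760527 : Led Lsl_af (LP (LK LD1_c12 LD2_c30 LD3_c33)) = (LP (LK LD1_c6 LD2_c47 LD3_c38)) :=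
  Lgr Lrot117 (Lpr_dt (f649518 IH) (Lpq (f760476 IH) (Lpe (K57.f653467 IH) (Lpr_dt (f415744 IH) (Lpn (LP (LK LD1_c6 LD2_c47 LD3_c38)))))))
theorem f760529 : Led Lsl_at (LP (LK LD1_c12 LD2_c30 LD3_c33)) = (LP (LK LD1_c6 LD2_c47 LD3_c38)) :=
  Lgr Lrot100 (Lpr_af (f760527 IH) (Lpn (LP (LK LD1_c6 LD2_c47 LD3_c38))))
def v13932 : LQ := Led Lsl_dt (LP (LK LD1_c4 LD2_c50 LD3_c7))
theorem f716256 : Led Lsl_dt (LP (LK LD1_c4 LD2_c50 LD3_c7)) = v13932 :=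
  Lrfl
theorem f415766 : Led Lsl_dt (LP (LK LD1_c6 LD2_c47 LD3_c38)) = (LP (LK LD1_c3 LD2_c21 LD3_c59)) :=
  Lre_d IH (LK LD1_c6 LD2_c47 LD3_c38) (LK LD1_c3 LD2_c21 LD3_c59) Lrfl Lrfl
theorem f716258 : Led Lsl_ff (LP (LK LD1_c6 LD2_c47 LD3_c38)) = v13932 :=
  Lgr Lrot19 (Lpr_dt (f415766 IH) (Lpr_ft (K57.f634008 IH) (Lpr_dt (f716256 IH) (Lpn v13932))))
theorem f716259 : Led Lsl_ft (LP (LK LD1_c6 LD2_c47 LD3_c38)) = v13932 :=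
  Lgr Lrot48 (Lpr_ff (f716258 IH) (Lpn v13932))
theorem f850324 : Led Lsl_at v13932 = v29676 :=
  Lgr Lrot66 (Lpe (f716259 IH) (Lpe (f760529 IH) (Lpr_ff (f850323 IH) (Lpn v29676))))
def v19850 : LQ := Led Lsl_gt (LP (LK LD1_c6 LD2_c47 LD3_c38))
theorem f782503 : Led Lsl_gt (LP (LK LD1_c6 LD2_c47 LD3_c38)) = v19850 :=
  Lrfl
theorem f850327 : Led Lsl_gt v19850 = v29676 :=
  Lgr Lrot46 (Lpe (f782503 IH) (Lpr_ft (f716259 IH) (Lpr_at (f850324 IH) (Lpn v29676))))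
def v6451 : LQ := Led Lsl_gf (LP (LK LD1_c3 LD2_c21 LD3_c59))
theorem f653465 : Led Lsl_gf (LP (LK LD1_c3 LD2_c21 LD3_c59)) = v6451 :=
  Lrfl
theorem f754164 : K56.v2545 = v6451 :=
  Lefun (Lecon (Lfl_gt (K56.f674760 IH)) (K56.f754161 IH)) (f653465 IH)
def v18601 : LQ := Led Lsl_et (LP (LK LD1_c6 LD2_c31 LD3_c13))
theorem f767655 : Led Lsl_et (LP (LK LD1_c6 LD2_c31 LD3_c13)) = v18601 :=
  Lrfl
theorem f767656 : Led Lsl_ef (LP (LK LD1_c6 LD2_c31 LD3_c13)) = v18601 :=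
  Lgr Lrot88 (Lpr_et (f767655 IH) (Lpn v18601))
theorem f782505 : Led Lsl_dt v18601 = v19850 :=
  Lgr Lrot56 (Lpe (f767656 IH) (Lpr_gt (K59.f23776 IH) (Lpe (K59.f148350 IH) (Lpe (K7.f148348 IH) (Lpe (K6.f142287 IH) (Lpr_df (K6.f125594 IH) (Lpr_et (K56.f527303 IH) (Lpqs (f754164 IH) (Lpe (f653465 IH) (Lpr_dt (f415744 IH) (Lpr_gt (f782503 IH) (Lpn v19850))))))))))))
theorem f850322 : Led Lsl_df K57.v9227 = v29676 :=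
  Lgr Lrot38 (Lpr_dt (f850320 IH) (Lpn v29676))
theorem f416112 : Led Lsl_ct (LP (LK LD1_c6 LD2_c12 LD3_c22)) = (LP (LK LD1_c3 LD2_c2 LD3_c47)) :=
  Lre_c IH (LK LD1_c6 LD2_c12 LD3_c22) (LK LD1_c3 LD2_c2 LD3_c47) Lrfl Lrfl
def v17142 : LQ := Led Lsl_gt (LP (LK LD1_c6 LD2_c12 LD3_c22))
theorem f756327 : Led Lsl_gt (LP (LK LD1_c6 LD2_c12 LD3_c22)) = v17142 :=
  Lrfl
theorem f850328 : v18601 = v17142 :=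
  (Llr Lrot153 (Lpr_dt (f782505 IH) (Lpr_gt (f850327 IH) (Lpe (f850322 IH) (Lpq (K57.f754165 IH) (Lpe (K57.f716252 IH) (Lpqs (K57.f760555 IH) (Lpr_df (K49.f674902 IH) (Lpe (K49.f674903 IH) (Lpr_df (K49.f649686 IH) (Lpqs (K49.f663542 IH) (Lpe (K49.f413504 IH) (Lpe (f416112 IH) (Lpr_gt (f756327 IH) (Lpn v17142))))))))))))))).symm
def v29664 : LQ := Led Lsl_et K60.v9214
theorem f850216 : Led Lsl_et K60.v9214 = v29664 :=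
  Lrfl
theorem f850220 : Led Lsl_ef K60.v9214 = v29664 :=
  Lgr Lrot88 (Lpr_et (f850216 IH) (Lpn v29664))
theorem f850224 : Led Lsl_ct v18601 = v29664 :=
  Lgr Lrot15 (Lpe (f767655 IH) (Lpr_cf (K59.f767652 IH) (Lpqs (K59.f772338 IH) (Lpq (K65.f772343 IH) (Lpr_ef (f850220 IH) (Lpn v29664))))))
theorem f775681 : Led Lsl_dt K60.v17716 = K60.v9223 :=
  Lgr Lrot77 (Lpr_ef (K60.f775680 IH) (Lpe (K60.f674231 IH) (Lpr_ef (K49.f674235 IH) (Lpe (K60.f674238 IH) (Lpr_ef (K60.f674741 IH) (Lpn K60.v9223))))))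
theorem f775682 : Led Lsl_df K60.v17716 = K60.v9223 :=
  Lgr Lrot38 (Lpr_dt (f775681 IH) (Lpn K60.v9223))
theorem f625380 : Led Lsl_ef (LP (LK LD1_c3 LD2_c40 LD3_c28)) = K56.v3377 :=
  Lgr Lrot21 (Lpr_ft (K49.f125567 IH) (Lpr_et (K35.f125566 IH) (Lpr_ft (K5.f125562 IH) (Lpr_et (K56.f459397 IH) (Lpr_ft (K56.f625378 IH) (Lpn K56.v3377))))))
def v21468 : LQ := Led Lsl_dt (LP (LK LD1_c7 LD2_c20 LD3_c3))
theorem f797368 : Led Lsl_dt (LP (LK LD1_c7 LD2_c20 LD3_c3)) = v21468 :=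
  Lrfl
theorem f797369 : Led Lsl_df (LP (LK LD1_c7 LD2_c20 LD3_c3)) = v21468 :=
  Lgr Lrot38 (Lpr_dt (f797368 IH) (Lpn v21468))
theorem f850221 : Led Lsl_gf v21468 = v29664 :=
  Lgr Lrot138 (Lpe (f797369 IH) (Lpr_gt (K65.f674794 IH) (Lpe (K57.f674789 IH) (Lpe (f625380 IH) (Lpr_gt (K49.f527258 IH) (Lpr_ef (K60.f674741 IH) (Lpe (f775682 IH) (Lpr_gt (K60.f779692 IH) (Lpe (K60.f779690 IH) (Lpr_et (f850216 IH) (Lpn v29664)))))))))))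
theorem f674795 : Led Lsl_ct (LP (LK LD1_c13 LD2_c52 LD3_c22)) = (LP (LK LD1_c7 LD2_c20 LD3_c3)) :=
  Lre_c IH (LK LD1_c13 LD2_c52 LD3_c22) (LK LD1_c7 LD2_c20 LD3_c3) Lrfl Lrfl
theorem f435856 : Led Lsl_ef (LP (LK LD1_c6 LD2_c9 LD3_c18)) = (LP (LK LD1_c7 LD2_c27 LD3_c6)) :=
  Lgr Lrot88 (Lpr_et (K48.f435844 IH) (Lpn (LP (LK LD1_c7 LD2_c27 LD3_c6))))
theorem f153239 : Led Lsl_et (LP (LK LD1_c3 LD2_c13 LD3_c42)) = (LP (LK LD1_c6 LD2_c30 LD3_c60)) :=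
  Lre_e IH (LK LD1_c3 LD2_c13 LD3_c42) (LK LD1_c6 LD2_c30 LD3_c60) Lrfl Lrfl
theorem f209448 : Led Lsl_ft (LP (LK LD1_c14 LD2_c4 LD3_c46)) = (LP (LK LD1_c7 LD2_c27 LD3_c6)) :=
  Lre_f IH (LK LD1_c14 LD2_c4 LD3_c46) (LK LD1_c7 LD2_c27 LD3_c6) Lrfl Lrfl
theorem f435858 : Led Lsl_et (LP (LK LD1_c12 LD2_c30 LD3_c38)) = (LP (LK LD1_c14 LD2_c4 LD3_c46)) :=
  Lgr Lrot69 (Lpe (K58.f153315 IH) (Lpe (f153239 IH) (Lpe (K7.f153307 IH) (Lpr_ef (f435856 IH) (Lpe (f209448 IH) (Lpn (LP (LK LD1_c14 LD2_c4 LD3_c46))))))))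
theorem f209425 : Led Lsl_dt (LP (LK LD1_c6 LD2_c31 LD3_c43)) = (LP (LK LD1_c12 LD2_c31 LD3_c23)) :=
  Lre_d IH (LK LD1_c6 LD2_c31 LD3_c43) (LK LD1_c12 LD2_c31 LD3_c23) Lrfl Lrfl
theorem f209413 : Led Lsl_dt (LP (LK LD1_c14 LD2_c4 LD3_c45)) = (LP (LK LD1_c7 LD2_c27 LD3_c6)) :=
  Lre_d IH (LK LD1_c14 LD2_c4 LD3_c45) (LK LD1_c7 LD2_c27 LD3_c6) Lrfl Lrfl
theorem f209445 : Led Lsl_at (LP (LK LD1_c12 LD2_c31 LD3_c23)) = (LP (LK LD1_c14 LD2_c4 LD3_c45)) :=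
  Lgr Lrot51 (Lpe (f209425 IH) (Lpr_af (K48.f209440 IH) (Lpe (f209413 IH) (Lpn (LP (LK LD1_c14 LD2_c4 LD3_c45))))))
theorem f209455 : Led Lsl_ft (LP (LK LD1_c21 LD2_c37 LD3_c33)) = (LP (LK LD1_c12 LD2_c31 LD3_c23)) :=
  Lre_f IH (LK LD1_c21 LD2_c37 LD3_c33) (LK LD1_c12 LD2_c31 LD3_c23) Lrfl Lrfl
theorem f209456 : Led Lsl_ft (LP (LK LD1_c14 LD2_c4 LD3_c45)) = (LP (LK LD1_c23 LD2_c38 LD3_c4)) :=
  Lre_f IH (LK LD1_c14 LD2_c4 LD3_c45) (LK LD1_c23 LD2_c38 LD3_c4) Lrfl Lrfl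
theorem f209457 : Led Lsl_af (LP (LK LD1_c21 LD2_c37 LD3_c33)) = (LP (LK LD1_c23 LD2_c38 LD3_c4)) :=
  Lgr Lrot45 (Lpr_ft (f209455 IH) (Lpr_at (f209445 IH) (Lpr_ft (f209456 IH) (Lpn (LP (LK LD1_c23 LD2_c38 LD3_c4))))))
theorem f209459 : Led Lsl_at (LP (LK LD1_c21 LD2_c37 LD3_c33)) = (LP (LK LD1_c23 LD2_c38 LD3_c4)) :=
  Lgr Lrot100 (Lpr_af (f209457 IH) (Lpn (LP (LK LD1_c23 LD2_c38 LD3_c4))))
theorem f209464 : Led Lsl_dt (LP (LK LD1_c12 LD2_c31 LD3_c24)) = (LP (LK LD1_c21 LD2_c37 LD3_c33)) :=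
  Lre_d IH (LK LD1_c12 LD2_c31 LD3_c24) (LK LD1_c21 LD2_c37 LD3_c33) Lrfl Lrfl
theorem f209465 : Led Lsl_dt (LP (LK LD1_c23 LD2_c38 LD3_c4)) = (LP (LK LD1_c14 LD2_c4 LD3_c46)) :=
  Lre_d IH (LK LD1_c23 LD2_c38 LD3_c4) (LK LD1_c14 LD2_c4 LD3_c46) Lrfl Lrfl
theorem f209466 : Led Lsl_af (LP (LK LD1_c12 LD2_c31 LD3_c24)) = (LP (LK LD1_c14 LD2_c4 LD3_c46)) :=
  Lgr Lrot117 (Lpr_dt (f209464 IH) (Lpr_at (f209459 IH) (Lpr_dt (f209465 IH) (Lpn (LP (LK LD1_c14 LD2_c4 LD3_c46))))))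
theorem f209428 : Led Lsl_ct (LP (LK LD1_c6 LD2_c31 LD3_c44)) = (LP (LK LD1_c12 LD2_c31 LD3_c24)) :=
  Lre_c IH (LK LD1_c6 LD2_c31 LD3_c44) (LK LD1_c12 LD2_c31 LD3_c24) Lrfl Lrfl
theorem f435831 : Led Lsl_ef (LP (LK LD1_c14 LD2_c4 LD3_c33)) = (LP (LK LD1_c12 LD2_c31 LD3_c24)) :=
  Lgr Lrot28 (Lpr_ct (K58.f107015 IH) (Lpr_et (K48.f435827 IH) (Lpr_ct (f209428 IH) (Lpn (LP (LK LD1_c12 LD2_c31 LD3_c24))))))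
theorem f435860 : Led Lsl_af (LP (LK LD1_c12 LD2_c30 LD3_c38)) = (LP (LK LD1_c14 LD2_c4 LD3_c33)) :=
  Lgr Lrot50 (Lpr_et (f435858 IH) (Lpe (f209466 IH) (Lpe (f435831 IH) (Lpn (LP (LK LD1_c14 LD2_c4 LD3_c33))))))
theorem f760600 : Led Lsl_gf (LP (LK LD1_c13 LD2_c52 LD3_c22)) = (LP (LK LD1_c7 LD2_c26 LD3_c55)) :=
  Lgr Lrot47 (Lpr_gt (K57.f760598 IH) (Lpr_af (f435860 IH) (Lpe (K48.f106979 IH) (Lpn (LP (LK LD1_c7 LD2_c26 LD3_c55))))))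
theorem f649513 : Led Lsl_ct (LP (LK LD1_c3 LD2_c14 LD3_c23)) = (LP (LK LD1_c6 LD2_c32 LD3_c26)) :=
  Lre_c IH (LK LD1_c3 LD2_c14 LD3_c23) (LK LD1_c6 LD2_c32 LD3_c26) Lrfl Lrfl
def v18722 : LQ := Led Lsl_gt (LP (LK LD1_c6 LD2_c32 LD3_c26))
theorem f768197 : Led Lsl_gt (LP (LK LD1_c6 LD2_c32 LD3_c26)) = v18722 :=
  Lrfl
theorem f797371 : Led Lsl_ct v18722 = v21468 :=
  Lgr Lrot151 (Lpe (f768197 IH) (Lpe (f649513 IH) (Lpr_gf (K48.f649906 IH) (Lpr_dt (K48.f662917 IH) (Lpr_gt (K48.f86744 IH) (Lpr_ct (K58.f106999 IH) (Lpe (f760600 IH) (Lpr_ct (f674795 IH) (Lpr_dt (f797368 IH) (Lpn v21468))))))))))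
theorem f797372 : Led Lsl_cf v18722 = v21468 :=
  Lgr Lrot11 (Lpr_ct (f797371 IH) (Lpn v21468))
def v9193 : LQ := Led Lsl_ct K57.v2509
theorem f673964 : Led Lsl_ct K57.v2509 = v9193 :=
  Lrfl
theorem f761386 : K57.v7241 = v9193 :=
  Lefun (Lecon (K57.f760633 IH) ((K57.f761375 IH).trans (K57.f761384 IH).symm)) (f673964 IH)
theorem f124229 : Led Lsl_gt (LP (LK LD1_c7 LD2_c26 LD3_c53)) = (LP (LK LD1_c14 LD2_c4 LD3_c28)) :=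
  Lre_g IH (LK LD1_c7 LD2_c26 LD3_c53) (LK LD1_c14 LD2_c4 LD3_c28) Lrfl Lrfl
theorem f797374 : Led Lsl_df v18722 = (LP (LK LD1_c14 LD2_c4 LD3_c28)) :=
  Lgr Lrot174 (Lpr_ct (f797371 IH) (Lpe (f797368 IH) (Lpe (K57.f12468 IH) (Lpe (K57.f12480 IH) (Lpr_gf (K57.f523684 IH) (Lpr_ct (f673964 IH) (Lpq (f761386 IH) (Lpe (K57.f662619 IH) (Lpr_dt (K3.f107023 IH) (Lpr_gt (f124229 IH) (Lpn (LP (LK LD1_c14 LD2_c4 LD3_c28)))))))))))))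
theorem f797375 : Led Lsl_dt v18722 = (LP (LK LD1_c14 LD2_c4 LD3_c28)) :=
  Lgr Lrot42 (Lpr_df (f797374 IH) (Lpn (LP (LK LD1_c14 LD2_c4 LD3_c28))))
theorem f416113 : Led Lsl_dt (LP (LK LD1_c12 LD2_c4 LD3_c18)) = (LP (LK LD1_c6 LD2_c12 LD3_c22)) :=
  Lre_d IH (LK LD1_c12 LD2_c4 LD3_c18) (LK LD1_c6 LD2_c12 LD3_c22) Lrfl Lrfl
theorem f66490 : Led Lsl_dt (LP (LK LD1_c3 LD2_c19 LD3_c2)) = (LP (LK LD1_c6 LD2_c42 LD3_c6)) :=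
  Lre_d IH (LK LD1_c3 LD2_c19 LD3_c2) (LK LD1_c6 LD2_c42 LD3_c6) Lrfl Lrfl
theorem f504401 : Led Lsl_et (LP (LK LD1_c6 LD2_c12 LD3_c22)) = (LP (LK LD1_c3 LD2_c2 LD3_c45)) :=
  Lre_e IH (LK LD1_c6 LD2_c12 LD3_c22) (LK LD1_c3 LD2_c2 LD3_c45) Lrfl Lrfl
theorem f416129 : Led Lsl_dt (LP (LK LD1_c6 LD2_c12 LD3_c22)) = (LP (LK LD1_c12 LD2_c4 LD3_c18)) :=
  Lre_d IH (LK LD1_c6 LD2_c12 LD3_c22) (LK LD1_c12 LD2_c4 LD3_c18) Lrfl Lrfl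
theorem f649446 : Led Lsl_gf (LP (LK LD1_c6 LD2_c42 LD3_c6)) = (LP (LK LD1_c12 LD2_c4 LD3_c18)) :=
  Lgr Lrot145 (Lpe (f66490 IH) (Lpr_et (K56.f66493 IH) (Lpr_gt (K6.f143184 IH) (Lpr_dt (K8.f145276 IH) (Lpe (K28.f207784 IH) (Lpe (K24.f148638 IH) (Lpr_et (K46.f128337 IH) (Lpq (K46.f649400 IH) (Lpe (K46.f646842 IH) (Lpe (f504401 IH) (Lpr_dt (f416129 IH) (Lpn (LP (LK LD1_c12 LD2_c4 LD3_c18))))))))))))))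
theorem f66491 : Led Lsl_ct (LP (LK LD1_c6 LD2_c42 LD3_c6)) = (LP (LK LD1_c12 LD2_c49 LD3_c20)) :=
  Lre_c IH (LK LD1_c6 LD2_c42 LD3_c6) (LK LD1_c12 LD2_c49 LD3_c20) Lrfl Lrfl
theorem f440060 : Led Lsl_gt (LP (LK LD1_c12 LD2_c49 LD3_c20)) = (LP (LK LD1_c21 LD2_c57 LD3_c40)) :=
  Lre_g IH (LK LD1_c12 LD2_c49 LD3_c20) (LK LD1_c21 LD2_c57 LD3_c40) Lrfl Lrfl
theorem f850329 : Led Lsl_cf (LP (LK LD1_c14 LD2_c4 LD3_c28)) = (LP (LK LD1_c21 LD2_c57 LD3_c40)) :=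
  Lgr Lrot99 (Lpe (f797375 IH) (Lpr_cf (f797372 IH) (Lpr_gf (f850221 IH) (Lpe (f850224 IH) (Lpqs (f850328 IH) (Lpe (f756327 IH) (Lpe (f416113 IH) (Lpe (f649446 IH) (Lpr_ct (f66491 IH) (Lpr_gt (f440060 IH) (Lpn (LP (LK LD1_c21 LD2_c57 LD3_c40)))))))))))))
theorem f850330 : Led Lsl_ct (LP (LK LD1_c21 LD2_c57 LD3_c40)) = (LP (LK LD1_c14 LD2_c4 LD3_c28)) :=
  Leop (Lpr_cf (f850329 IH) (Lpn (LP (LK LD1_c21 LD2_c57 LD3_c40))))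
theorem seed_1976 : LEOK LG_c (LK LD1_c21 LD2_c57 LD3_c40) :=
  Leoe_c (LK LD1_c21 LD2_c57 LD3_c40) (f850330 IH)
def v18687 : LQ := Led Lsl_at (LP (LK LD1_c6 LD2_c32 LD3_c9))
theorem f768052 : Led Lsl_at (LP (LK LD1_c6 LD2_c32 LD3_c9)) = v18687 :=
  Lrfl
theorem f768054 : Led Lsl_ef K50.v5853 = v18687 :=
  Lgr Lrot20 (Lpe (K50.f649828 IH) (Lpr_et (K62.f649821 IH) (Lpr_at (f768052 IH) (Lpn v18687))))
theorem f768055 : Led Lsl_et K50.v5853 = v18687 :=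
  Lgr Lrot87 (Lpr_ef (f768054 IH) (Lpn v18687))
theorem f772587 : v18687 = v18601 :=
  Lefun (Lecon (f768055 IH) (K59.f772577 IH).symm) (f767655 IH)
def v18691 : LQ := Led Lsl_ft (LP (LK LD1_c6 LD2_c32 LD3_c9))
theorem f768067 : Led Lsl_ft (LP (LK LD1_c6 LD2_c32 LD3_c9)) = v18691 :=
  Lrfl
theorem f768068 : Led Lsl_ff (LP (LK LD1_c6 LD2_c32 LD3_c9)) = v18691 :=
  Lgr Lrot3 (Lpr_ft (f768067 IH) (Lpn v18691))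
theorem f416125 : Led Lsl_gt (LP (LK LD1_c12 LD2_c4 LD3_c17)) = (LP (LK LD1_c6 LD2_c12 LD3_c22)) :=
  Lre_g IH (LK LD1_c12 LD2_c4 LD3_c17) (LK LD1_c6 LD2_c12 LD3_c22) Lrfl Lrfl
theorem f850334 : v18691 = (LP (LK LD1_c12 LD2_c4 LD3_c17)) :=
  (Llr Lrot52 (Lpe (f768068 IH) (Lpr_at (f768052 IH) (Lpqs (f772587 IH) (Lpqs (f850328 IH) (Lpe (f756327 IH) (Lpe (f416125 IH) (Lpn (LP (LK LD1_c12 LD2_c4 LD3_c17)))))))))).symm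
theorem f782507 : Led Lsl_df v18601 = v19850 :=
  Lgr Lrot38 (Lpr_dt (f782505 IH) (Lpn v19850))
theorem f768053 : Led Lsl_af (LP (LK LD1_c6 LD2_c32 LD3_c9)) = v18687 :=
  Lgr Lrot0 (Lpr_at (f768052 IH) (Lpn v18687))
def v18690 : LQ := Led Lsl_dt (LP (LK LD1_c6 LD2_c32 LD3_c9))
theorem f768064 : Led Lsl_dt (LP (LK LD1_c6 LD2_c32 LD3_c9)) = v18690 :=
  Lrfl
theorem f782508 : Led Lsl_at v18690 = v19850 :=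
  Lgr Lrot51 (Lpe (f768064 IH) (Lpr_af (f768053 IH) (Lpqs (f772587 IH) (Lpr_df (f782507 IH) (Lpn v19850)))))
theorem f633933 : Led Lsl_gt (LP (LK LD1_c12 LD2_c58 LD3_c12)) = (LP (LK LD1_c6 LD2_c47 LD3_c38)) :=
  Lre_g IH (LK LD1_c12 LD2_c58 LD3_c12) (LK LD1_c6 LD2_c47 LD3_c38) Lrfl Lrfl
theorem f782509 : Led Lsl_ff v18690 = (LP (LK LD1_c12 LD2_c58 LD3_c12)) :=
  Lgr Lrot52 (Lpr_at (f782508 IH) (Lpe (f782503 IH) (Lpe (f633933 IH) (Lpn (LP (LK LD1_c12 LD2_c58 LD3_c12))))))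
theorem f768065 : Led Lsl_df (LP (LK LD1_c6 LD2_c32 LD3_c9)) = v18690 :=
  Lgr Lrot38 (Lpr_dt (f768064 IH) (Lpn v18690))
theorem f782510 : Led Lsl_dt v18691 = (LP (LK LD1_c12 LD2_c58 LD3_c12)) :=
  Lgr Lrot60 (Lpe (f768067 IH) (Lpr_df (f768065 IH) (Lpr_ff (f782509 IH) (Lpn (LP (LK LD1_c12 LD2_c58 LD3_c12))))))
theorem f850335 : Led Lsl_dt (LP (LK LD1_c12 LD2_c4 LD3_c17)) = (LP (LK LD1_c12 LD2_c58 LD3_c12)) :=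
  Leop (Lpe (f782510 IH) (Lpqs (f850334 IH) (Lpn (LP (LK LD1_c12 LD2_c4 LD3_c17)))))
theorem seed_1977 : LEOK LG_d (LK LD1_c12 LD2_c4 LD3_c17) :=
  Leoe_d (LK LD1_c12 LD2_c4 LD3_c17) (f850335 IH)
theorem f850337 : Led Lsl_ft (LP (LK LD1_c12 LD2_c4 LD3_c17)) = (LP (LK LD1_c6 LD2_c32 LD3_c9)) :=
  Leop (Lpr_ff (f768068 IH) (Lpqs (f850334 IH) (Lpn (LP (LK LD1_c12 LD2_c4 LD3_c17)))))
theorem seed_1978 : LEOK LG_f (LK LD1_c12 LD2_c4 LD3_c17) :=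
  Leoe_f (LK LD1_c12 LD2_c4 LD3_c17) (f850337 IH)
def v9231 : LQ := Led Lsl_gf K57.v2546
def v29684 : LQ := Led Lsl_bt v9231
theorem f850391 : Led Lsl_bt v9231 = v29684 :=
  Lrfl
def v18587 : LQ := Led Lsl_gf (LP (LK LD1_c6 LD2_c30 LD3_c60))
theorem f767596 : Led Lsl_gf (LP (LK LD1_c6 LD2_c30 LD3_c60)) = v18587 :=
  Lrfl
theorem f95796 : Led Lsl_ct (LP (LK LD1_c6 LD2_c30 LD3_c60)) = (LP (LK LD1_c3 LD2_c13 LD3_c39)) :=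
  Lre_c IH (LK LD1_c6 LD2_c30 LD3_c60) (LK LD1_c3 LD2_c13 LD3_c39) Lrfl Lrfl
theorem f661565 : Led Lsl_dt K56.v2510 = K57.v7151 :=
  Lgr Lrot60 (Lpe (K56.f523685 IH) (Lpe (K1.f12464 IH) (Lpr_ff (K57.f661564 IH) (Lpn K57.v7151))))
theorem f674781 : Led Lsl_gf K57.v2546 = v9231 :=
  Lrfl
theorem f12542 : Led Lsl_et (LP (LK LD1_c1 LD2_c46 LD3_c61)) = (LP (LK LD1_c3 LD2_c39 LD3_c58)) :=
  Lre_e IH (LK LD1_c1 LD2_c46 LD3_c61) (LK LD1_c3 LD2_c39 LD3_c58) Lrfl Lrfl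
theorem f527313 : Led Lsl_at (LP (LK LD1_c3 LD2_c39 LD3_c58)) = K57.v2546 :=
  Lgr Lrot80 (Lpe (f12542 IH) (Lpr_af (K5.f134595 IH) (Lpr_ef (K58.f527312 IH) (Lpn K57.v2546))))
theorem f674782 : Led Lsl_gt K57.v7151 = v9231 :=
  Lgr Lrot5 (Lpe (K57.f661564 IH) (Lpr_at (f527313 IH) (Lpr_gf (f674781 IH) (Lpn v9231))))
theorem f767599 : Led Lsl_ct v9231 = v18587 :=
  Lgr Lrot152 (Lpe (f674782 IH) (Lpe (f661565 IH) (Lpr_gt (K56.f625377 IH) (Lpr_ct (K57.f680816 IH) (Lpqs (K57.f760542 IH) (Lpe (K57.f649515 IH) (Lpr_ct (K57.f23643 IH) (Lpe (K58.f23645 IH) (Lpe (f95796 IH) (Lpr_gf (f767596 IH) (Lpn v18587)))))))))))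
theorem f107000 : Led Lsl_af (LP (LK LD1_c6 LD2_c30 LD3_c60)) = (LP (LK LD1_c7 LD2_c26 LD3_c55)) :=
  Lgr Lrot68 (Lpr_ct (f95796 IH) (Lpr_at (K3.f106994 IH) (Lpr_ct (K58.f106999 IH) (Lpn (LP (LK LD1_c7 LD2_c26 LD3_c55))))))
theorem f435862 : Led Lsl_ft (LP (LK LD1_c14 LD2_c4 LD3_c33)) = (LP (LK LD1_c7 LD2_c26 LD3_c55)) :=
  Lre_f IH (LK LD1_c14 LD2_c4 LD3_c33) (LK LD1_c7 LD2_c26 LD3_c55) Lrfl Lrfl
theorem f767597 : Led Lsl_gt (LP (LK LD1_c14 LD2_c4 LD3_c33)) = v18587 :=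
  Lgr Lrot5 (Lpr_ft (f435862 IH) (Lpe (f107000 IH) (Lpr_gf (f767596 IH) (Lpn v18587))))
theorem f662929 : Led Lsl_bf K51.v6470 = (LP (LK LD1_c7 LD2_c26 LD3_c54)) :=
  Lgr Lrot24 (Lpr_bt (K58.f662928 IH) (Lpn (LP (LK LD1_c7 LD2_c26 LD3_c54))))
theorem f709252 : Led Lsl_bt (LP (LK LD1_c9 LD2_c20 LD3_c53)) = K58.v6465 :=
  Lgr Lrot35 (Lpr_ff (K57.f709248 IH) (Lpqs (K51.f708341 IH) (Lpr_bf (f662929 IH) (Lpe (K58.f662925 IH) (Lpn K58.v6465)))))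
theorem f709267 : Led Lsl_gf (LP (LK LD1_c17 LD2_c16 LD3_c49)) = (LP (LK LD1_c12 LD2_c58 LD3_c26)) :=
  Lgr Lrot76 (Lpr_af (K57.f709256 IH) (Lpr_ff (K57.f504436 IH) (Lpr_gt (K57.f504462 IH) (Lpn (LP (LK LD1_c12 LD2_c58 LD3_c26))))))
theorem f760153 : Led Lsl_ef (LP (LK LD1_c6 LD2_c28 LD3_c9)) = K57.v17502 :=
  Lgr Lrot28 (Lpr_ct (K60.f24359 IH) (Lpr_et (K3.f104204 IH) (Lpr_ct (K57.f760151 IH) (Lpn K57.v17502))))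
theorem f760190 : Led Lsl_et (LP (LK LD1_c6 LD2_c28 LD3_c9)) = K57.v17502 :=
  Lgr Lrot87 (Lpr_ef (f760153 IH) (Lpn K57.v17502))
theorem f134068 : Led Lsl_af (LP (LK LD1_c6 LD2_c28 LD3_c9)) = (LP (LK LD1_c6 LD2_c48 LD3_c28)) :=
  Lgr Lrot68 (Lpr_ct (K60.f24359 IH) (Lpr_at (K6.f107485 IH) (Lpr_ct (K6.f134063 IH) (Lpn (LP (LK LD1_c6 LD2_c48 LD3_c28))))))
theorem f760209 : Led Lsl_et (LP (LK LD1_c12 LD2_c58 LD3_c26)) = (LP (LK LD1_c6 LD2_c48 LD3_c28)) :=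
  Lgr Lrot123 (Lpr_af (K57.f760204 IH) (Lpe (f760190 IH) (Lpr_af (f134068 IH) (Lpn (LP (LK LD1_c6 LD2_c48 LD3_c28))))))
theorem f23542 : Led Lsl_et (LP (LK LD1_c4 LD2_c43 LD3_c59)) = (LP (LK LD1_c9 LD2_c20 LD3_c48)) :=
  Lre_e IH (LK LD1_c4 LD2_c43 LD3_c59) (LK LD1_c9 LD2_c20 LD3_c48) Lrfl Lrfl
theorem f760213 : Led Lsl_cf (LP (LK LD1_c12 LD2_c58 LD3_c26)) = (LP (LK LD1_c9 LD2_c20 LD3_c48)) :=
  Lgr Lrot39 (Lpr_et (f760209 IH) (Lpe (K6.f134073 IH) (Lpr_et (f23542 IH) (Lpn (LP (LK LD1_c9 LD2_c20 LD3_c48))))))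
theorem f23518 : Led Lsl_bf (LP (LK LD1_c9 LD2_c21 LD3_c56)) = (LP (LK LD1_c9 LD2_c20 LD3_c48)) :=
  Lgr Lrot24 (Lpr_bt (K2.f23516 IH) (Lpn (LP (LK LD1_c9 LD2_c20 LD3_c48))))
theorem f850397 : Led Lsl_gf (LP (LK LD1_c9 LD2_c21 LD3_c56)) = v29684 :=
  Lgr Lrot124 (Lpr_bf (f23518 IH) (Lpe (f760213 IH) (Lpe (f709267 IH) (Lpe (K57.f702494 IH) (Lpr_bt (f709252 IH) (Lpq (K58.f663549 IH) (Lpr_gt (K58.f441731 IH) (Lpr_ct (K48.f435837 IH) (Lpr_gt (f767597 IH) (Lpe (f767599 IH) (Lpr_bt (f850391 IH) (Lpn v29684))))))))))))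
theorem f767583 : Led Lsl_af K58.v9230 = (LP (LK LD1_c7 LD2_c20 LD3_c3)) :=
  Lgr Lrot0 (Lpr_at (K58.f767582 IH) (Lpn (LP (LK LD1_c7 LD2_c20 LD3_c3))))
theorem f767592 : Led Lsl_ft v9231 = (LP (LK LD1_c7 LD2_c20 LD3_c3)) :=
  Lgr Lrot2 (Lpe (f674781 IH) (Lpr_gt (K58.f674780 IH) (Lpr_af (f767583 IH) (Lpn (LP (LK LD1_c7 LD2_c20 LD3_c3))))))
theorem f767594 : Led Lsl_ff v9231 = (LP (LK LD1_c7 LD2_c20 LD3_c3)) :=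
  Lgr Lrot3 (Lpr_ft (f767592 IH) (Lpn (LP (LK LD1_c7 LD2_c20 LD3_c3))))
theorem f850395 : Led Lsl_ff (LP (LK LD1_c12 LD2_c16 LD3_c3)) = v29684 :=
  Lgr Lrot25 (Lpr_bt (K65.f767590 IH) (Lpe (f767594 IH) (Lpr_bt (f850391 IH) (Lpn v29684))))
theorem f850398 : Led Lsl_gt (LP (LK LD1_c9 LD2_c21 LD3_c56)) = (LP (LK LD1_c12 LD2_c16 LD3_c30)) :=
  Lgr Lrot46 (Lpr_gf (f850397 IH) (Lpe (f850395 IH) (Lpe (K58.f761683 IH) (Lpn (LP (LK LD1_c12 LD2_c16 LD3_c30))))))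
theorem f850399 : Led Lsl_gt (LP (LK LD1_c9 LD2_c21 LD3_c56)) = (LP (LK LD1_c12 LD2_c16 LD3_c30)) :=
  Leop (Lpe (f850398 IH) (Lpn (LP (LK LD1_c9 LD2_c21 LD3_c56))))
theorem seed_1979 : LEOK LG_g (LK LD1_c9 LD2_c21 LD3_c56) :=
  Leoe_g (LK LD1_c9 LD2_c21 LD3_c56) (f850399 IH)
theorem f86342 : Led Lsl_et (LP (LK LD1_c3 LD2_c10 LD3_c61)) = (LP (LK LD1_c6 LD2_c26 LD3_c16)) :=
  Lre_e IH (LK LD1_c3 LD2_c10 LD3_c61) (LK LD1_c6 LD2_c26 LD3_c16) Lrfl Lrfl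
theorem f95790 : Led Lsl_df (LP (LK LD1_c3 LD2_c13 LD3_c19)) = (LP (LK LD1_c6 LD2_c26 LD3_c16)) :=
  Lgr Lrot70 (Lpr_et (K5.f23647 IH) (Lpr_dt (K5.f23602 IH) (Lpr_et (K5.f95788 IH) (Lpr_dt (K65.f86335 IH) (Lpr_et (f86342 IH) (Lpn (LP (LK LD1_c6 LD2_c26 LD3_c16))))))))
theorem f23623 : Led Lsl_dt (LP (LK LD1_c1 LD2_c33 LD3_c22)) = (LP (LK LD1_c3 LD2_c13 LD3_c39)) :=
  Lre_d IH (LK LD1_c1 LD2_c33 LD3_c22) (LK LD1_c3 LD2_c13 LD3_c39) Lrfl Lrfl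
theorem f95792 : Led Lsl_bt (LP (LK LD1_c3 LD2_c13 LD3_c39)) = (LP (LK LD1_c6 LD2_c26 LD3_c16)) :=
  Lgr Lrot95 (Lpe (f23623 IH) (Lpr_bf (K57.f23612 IH) (Lpr_df (f95790 IH) (Lpn (LP (LK LD1_c6 LD2_c26 LD3_c16))))))
def v18082 : LQ := Led Lsl_gt (LP (LK LD1_c6 LD2_c26 LD3_c16))
theorem f764970 : Led Lsl_gt (LP (LK LD1_c6 LD2_c26 LD3_c16)) = v18082 :=
  Lrfl
def v22082 : LQ := Led Lsl_ft (LP (LK LD1_c7 LD2_c31 LD3_c0))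
theorem f801165 : Led Lsl_ft (LP (LK LD1_c7 LD2_c31 LD3_c0)) = v22082 :=
  Lrfl
theorem f801168 : Led Lsl_ff (LP (LK LD1_c7 LD2_c31 LD3_c0)) = v22082 :=
  Lgr Lrot3 (Lpr_ft (f801165 IH) (Lpn v22082))
def v18081 : LQ := Led Lsl_et (LP (LK LD1_c6 LD2_c26 LD3_c15))
theorem f764962 : Led Lsl_et (LP (LK LD1_c6 LD2_c26 LD3_c15)) = v18081 :=
  Lrfl
theorem f764965 : Led Lsl_ef (LP (LK LD1_c6 LD2_c26 LD3_c15)) = v18081 :=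
  Lgr Lrot88 (Lpr_et (f764962 IH) (Lpn v18081))
theorem f126300 : Led Lsl_af (LP (LK LD1_c3 LD2_c45 LD3_c8)) = (LP (LK LD1_c6 LD2_c26 LD3_c15)) :=
  Lgr Lrot68 (Lpr_ct (K5.f12512 IH) (Lpr_at (K5.f126298 IH) (Lpr_ct (K5.f88975 IH) (Lpn (LP (LK LD1_c6 LD2_c26 LD3_c15))))))
theorem f764966 : Led Lsl_at (LP (LK LD1_c7 LD2_c31 LD3_c0)) = v18081 :=
  Lgr Lrot80 (Lpe (K56.f114207 IH) (Lpr_af (f126300 IH) (Lpr_ef (f764965 IH) (Lpn v18081))))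
theorem f764967 : Led Lsl_ct K65.v5618 = v18081 :=
  Lgr Lrot15 (Lpe (K65.f648551 IH) (Lpe (K5.f88974 IH) (Lpr_ef (f764965 IH) (Lpn v18081))))
theorem f648553 : Led Lsl_bf K65.v1942 = K65.v5618 :=
  Lgr Lrot96 (Lpe (K65.f506507 IH) (Lpr_bt (K5.f88982 IH) (Lpr_et (K65.f648551 IH) (Lpn K65.v5618))))
def v8246 : LQ := Led Lsl_gt K65.v1942
theorem f670498 : Led Lsl_gt K65.v1942 = v8246 :=
  Lrfl
def v17513 : LQ := Led Lsl_bt (LP (LK LD1_c6 LD2_c19 LD3_c54))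
theorem f760328 : Led Lsl_bt (LP (LK LD1_c6 LD2_c19 LD3_c54)) = v17513 :=
  Lrfl
def v8247 : LQ := Led Lsl_gf K65.v1942
theorem f670499 : Led Lsl_gf K65.v1942 = v8247 :=
  Lrfl
theorem f506508 : Led Lsl_dt K56.v488 = K65.v1942 :=
  Lgr Lrot77 (Lpe (K56.f453591 IH) (Lpr_df (K2.f79141 IH) (Lpr_ef (K5.f95753 IH) (Lpe (K5.f82464 IH) (Lpr_ef (K65.f506507 IH) (Lpn K65.v1942))))))
def v8207 : LQ := Led Lsl_et K48.v1920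
theorem f670350 : Led Lsl_et K48.v1920 = v8207 :=
  Lrfl
theorem f670352 : Led Lsl_ef K48.v1920 = v8207 :=
  Lgr Lrot88 (Lpr_et (f670350 IH) (Lpn v8207))
theorem f670500 : Led Lsl_dt v8207 = v8247 :=
  Lgr Lrot136 (Lpe (f670352 IH) (Lpe (K48.f506395 IH) (Lpe (K5.f129071 IH) (Lpr_dt (K5.f82442 IH) (Lpe (K5.f16666 IH) (Lpe (K2.f61251 IH) (Lpe (K2.f61252 IH) (Lpr_ef (K56.f453592 IH) (Lpr_dt (f506508 IH) (Lpr_gf (f670499 IH) (Lpn v8247)))))))))))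
theorem f670502 : Led Lsl_df v8207 = v8247 :=
  Lgr Lrot38 (Lpr_dt (f670500 IH) (Lpn v8247))
theorem f670351 : Led Lsl_af K65.v5745 = v8207 :=
  Lgr Lrot50 (Lpe (K65.f649167 IH) (Lpr_at (K48.f649149 IH) (Lpqs (K48.f649372 IH) (Lpr_et (f670350 IH) (Lpn v8207)))))
theorem f670503 : Led Lsl_at K65.v5533 = v8247 :=
  Lgr Lrot51 (Lpr_df (K65.f649169 IH) (Lpr_af (f670351 IH) (Lpr_df (f670502 IH) (Lpn v8247))))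
theorem f707705 : Led Lsl_bt v8247 = (LP (LK LD1_c6 LD2_c21 LD3_c0)) :=
  Lgr Lrot62 (Lpe (f670503 IH) (Lpe (K65.f648117 IH) (Lpe (K48.f639263 IH) (Lpr_bf (K51.f647869 IH) (Lpr_af (K51.f707701 IH) (Lpn (LP (LK LD1_c6 LD2_c21 LD3_c0))))))))
theorem f760331 : Led Lsl_ff v8247 = v17513 :=
  Lgr Lrot25 (Lpr_bt (f707705 IH) (Lpe (K51.f707709 IH) (Lpr_bt (f760328 IH) (Lpn v17513))))
theorem f760333 : Led Lsl_ft v8247 = v17513 :=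
  Lgr Lrot48 (Lpr_ff (f760331 IH) (Lpn v17513))
theorem f648116 : Led Lsl_ft K51.v5480 = K51.v5532 :=
  Lgr Lrot48 (Lpr_ff (K51.f648115 IH) (Lpn K51.v5532))
theorem f707708 : Led Lsl_af (LP (LK LD1_c6 LD2_c19 LD3_c54)) = K51.v5532 :=
  Lgr Lrot45 (Lpr_ft (K51.f707706 IH) (Lpe (K51.f707701 IH) (Lpr_ft (f648116 IH) (Lpn K51.v5532))))
def v5479 : LQ := Led Lsl_bt (LP (LK LD1_c3 LD2_c8 LD3_c20))
theorem f647866 : Led Lsl_bt (LP (LK LD1_c3 LD2_c8 LD3_c20)) = v5479 :=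
  Lrfl
theorem f647867 : Led Lsl_bf (LP (LK LD1_c3 LD2_c8 LD3_c20)) = v5479 :=
  Lgr Lrot24 (Lpr_bt (f647866 IH) (Lpn v5479))
theorem f760329 : Led Lsl_af v5479 = v17513 :=
  Lgr Lrot36 (Lpe (f647867 IH) (Lpr_at (K48.f639283 IH) (Lpr_bt (K51.f648113 IH) (Lpe (f707708 IH) (Lpr_bt (f760328 IH) (Lpn v17513))))))
theorem f760335 : v8246 = v5479 :=
  (Llr Lrot46 (Lpe (f670498 IH) (Lpr_gf (f670499 IH) (Lpr_ft (f760333 IH) (Lpe (f760329 IH) (Lpn v5479)))))).symm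
def v17094 : LQ := Led Lsl_ct (LP (LK LD1_c6 LD2_c11 LD3_c23))
theorem f755063 : Led Lsl_ct (LP (LK LD1_c6 LD2_c11 LD3_c23)) = v17094 :=
  Lrfl
theorem f764968 : Led Lsl_gt v17094 = v18081 :=
  Lgr Lrot149 (Lpe (f755063 IH) (Lpr_gf (K32.f62028 IH) (Lpe (K65.f62073 IH) (Lpr_ct (K57.f62075 IH) (Lpe (K48.f62076 IH) (Lpr_cf (K48.f140707 IH) (Lpr_bt (f647866 IH) (Lpq (f760335 IH) (Lpe (f670498 IH) (Lpr_bf (f648553 IH) (Lpr_ct (f764967 IH) (Lpn v18081))))))))))))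
theorem f801171 : Led Lsl_gf v17094 = v22082 :=
  Lgr Lrot47 (Lpr_gt (f764968 IH) (Lpe (f764966 IH) (Lpr_ff (f801168 IH) (Lpn v22082))))
theorem f755066 : Led Lsl_ff (LP (LK LD1_c6 LD2_c41 LD3_c21)) = v17094 :=
  Lgr Lrot23 (Lpr_ct (K61.f651719 IH) (Lpr_ft (K49.f651989 IH) (Lpq (K49.f663239 IH) (Lpr_ct (f755063 IH) (Lpn v17094)))))
theorem f755067 : Led Lsl_at (LP (LK LD1_c6 LD2_c41 LD3_c24)) = v17094 :=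
  Lgr Lrot66 (Lpr_ff (K61.f663253 IH) (Lpr_af (K61.f663258 IH) (Lpr_ff (f755066 IH) (Lpn v17094))))
theorem f801172 : Led Lsl_gt (LP (LK LD1_c12 LD2_c34 LD3_c29)) = v22082 :=
  Lgr Lrot5 (Lpe (K61.f663253 IH) (Lpr_at (f755067 IH) (Lpr_gf (f801171 IH) (Lpn v22082))))
def v18842 : LQ := Led Lsl_bt (LP (LK LD1_c6 LD2_c33 LD3_c48))
theorem f776081 : Led Lsl_bt (LP (LK LD1_c6 LD2_c33 LD3_c48)) = v18842 :=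
  Lrfl
theorem f801170 : Led Lsl_ct K65.v7330 = v22082 :=
  Lgr Lrot40 (Lpe (K65.f664598 IH) (Lpe (K6.f12460 IH) (Lpr_ff (f801168 IH) (Lpn v22082))))
theorem f664599 : Led Lsl_bf K57.v7151 = K65.v7330 :=
  Lgr Lrot61 (Lpe (K57.f661564 IH) (Lpr_bt (K58.f12456 IH) (Lpr_ft (K65.f664598 IH) (Lpn K65.v7330))))
theorem f801173 : v18842 = v18082 :=
  (Llr Lrot92 (Lpe (f776081 IH) (Lpr_ct (K61.f663251 IH) (Lpr_gt (f801172 IH) (Lpe (f801170 IH) (Lpe (f664599 IH) (Lpr_gt (f674782 IH) (Lpr_ct (f767599 IH) (Lpe (f767596 IH) (Lpe (K58.f95801 IH) (Lpr_bt (f95792 IH) (Lpr_gt (f764970 IH) (Lpn v18082))))))))))))).symm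
def v5408 : LQ := Led Lsl_ct (LP (LK LD1_c3 LD2_c7 LD3_c30))
def v25271 : LQ := Led Lsl_gt v5408
theorem f827846 : Led Lsl_gt v5408 = v25271 :=
  Lrfl
theorem f647508 : Led Lsl_ct (LP (LK LD1_c3 LD2_c7 LD3_c30)) = v5408 :=
  Lrfl
theorem f776082 : Led Lsl_bf (LP (LK LD1_c6 LD2_c33 LD3_c48)) = v18842 :=
  Lgr Lrot24 (Lpr_bt (f776081 IH) (Lpn v18842))
theorem f827847 : Led Lsl_ct v18842 = v25271 :=
  Lgr Lrot63 (Lpe (f776082 IH) (Lpr_gt (K49.f62061 IH) (Lpe (K65.f62073 IH) (Lpr_ct (K57.f62075 IH) (Lpr_gt (K57.f415543 IH) (Lpr_cf (K31.f415893 IH) (Lpr_bt (K51.f647868 IH) (Lpq (K51.f707604 IH) (Lpr_gt (K51.f104223 IH) (Lpr_ct (f647508 IH) (Lpr_gt (f827846 IH) (Lpn v25271))))))))))))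
def v5462 : LQ := Led Lsl_ct (LP (LK LD1_c3 LD2_c8 LD3_c10))
def v25338 : LQ := Led Lsl_ft v5462
theorem f828099 : Led Lsl_ft v5462 = v25338 :=
  Lrfl
theorem f828102 : Led Lsl_ff v5462 = v25338 :=
  Lgr Lrot3 (Lpr_ft (f828099 IH) (Lpn v25338))
theorem f647756 : Led Lsl_ct (LP (LK LD1_c3 LD2_c8 LD3_c10)) = v5462 :=
  Lrfl
theorem f647509 : Led Lsl_cf (LP (LK LD1_c3 LD2_c7 LD3_c30)) = v5408 :=
  Lgr Lrot11 (Lpr_ct (f647508 IH) (Lpn v5408))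
theorem f647757 : Led Lsl_af v5408 = v5462 :=
  Lgr Lrot68 (Lpe (f647509 IH) (Lpr_at (K51.f136078 IH) (Lpr_ct (f647756 IH) (Lpn v5462))))
def v25272 : LQ := Led Lsl_gf v5408
theorem f827851 : Led Lsl_gf v5408 = v25272 :=
  Lrfl
theorem f828105 : Led Lsl_gf v25272 = v25338 :=
  Lgr Lrot47 (Lpe (f827851 IH) (Lpr_af (f647757 IH) (Lpr_ff (f828102 IH) (Lpn v25338))))
def v25335 : LQ := Led Lsl_gt v5462
theorem f828081 : Led Lsl_gt v5462 = v25335 :=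
  Lrfl
def v19378 : LQ := Led Lsl_ct (LP (LK LD1_c6 LD2_c41 LD3_c23))
theorem f779346 : Led Lsl_ct (LP (LK LD1_c6 LD2_c41 LD3_c23)) = v19378 :=
  Lrfl
def v18084 : LQ := Led Lsl_ft (LP (LK LD1_c6 LD2_c26 LD3_c16))
theorem f764976 : Led Lsl_ft (LP (LK LD1_c6 LD2_c26 LD3_c16)) = v18084 :=
  Lrfl
theorem f764980 : Led Lsl_ff (LP (LK LD1_c6 LD2_c26 LD3_c16)) = v18084 :=
  Lgr Lrot3 (Lpr_ft (f764976 IH) (Lpn v18084))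
def v13403 : LQ := Led Lsl_dt (LP (LK LD1_c4 LD2_c43 LD3_c43))
theorem f702746 : Led Lsl_dt (LP (LK LD1_c4 LD2_c43 LD3_c43)) = v13403 :=
  Lrfl
def v4339 : LQ := Led Lsl_dt (LP (LK LD1_c2 LD2_c19 LD3_c38))
theorem f632775 : Led Lsl_dt (LP (LK LD1_c2 LD2_c19 LD3_c38)) = v4339 :=
  Lrfl
theorem f632778 : Led Lsl_df (LP (LK LD1_c2 LD2_c19 LD3_c38)) = v4339 :=
  Lgr Lrot38 (Lpr_dt (f632775 IH) (Lpn v4339))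
theorem f702750 : Led Lsl_ef v4339 = v13403 :=
  Lgr Lrot73 (Lpe (f632778 IH) (Lpr_et (K4.f26114 IH) (Lpr_dt (K3.f26091 IH) (Lpr_et (K57.f26135 IH) (Lpr_dt (f702746 IH) (Lpn v13403))))))
theorem f86341 : Led Lsl_dt (LP (LK LD1_c3 LD2_c10 LD3_c61)) = (LP (LK LD1_c1 LD2_c31 LD3_c56)) :=
  Lre_d IH (LK LD1_c3 LD2_c10 LD3_c61) (LK LD1_c1 LD2_c31 LD3_c56) Lrfl Lrfl
theorem f632776 : Led Lsl_af (LP (LK LD1_c3 LD2_c10 LD3_c61)) = v4339 :=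
  Lgr Lrot117 (Lpr_dt (f86341 IH) (Lpe (K4.f121360 IH) (Lpr_dt (f632775 IH) (Lpn v4339))))
theorem f702752 : Led Lsl_at (LP (LK LD1_c6 LD2_c26 LD3_c16)) = v13403 :=
  Lgr Lrot80 (Lpe (f86342 IH) (Lpr_af (f632776 IH) (Lpr_ef (f702750 IH) (Lpn v13403))))
theorem f147511 : Led Lsl_df (LP (LK LD1_c1 LD2_c6 LD3_c0)) = (LP (LK LD1_c1 LD2_c33 LD3_c30)) :=
  Lgr Lrot12 (Lpr_bt (K3.f104328 IH) (Lpr_dt (K6.f147508 IH) (Lpr_bt (K8.f147510 IH) (Lpn (LP (LK LD1_c1 LD2_c33 LD3_c30))))))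
theorem f441185 : Led Lsl_et (LP (LK LD1_c12 LD2_c1 LD3_c21)) = (LP (LK LD1_c6 LD2_c10 LD3_c16)) :=
  Lre_e IH (LK LD1_c12 LD2_c1 LD3_c21) (LK LD1_c6 LD2_c10 LD3_c16) Lrfl Lrfl
theorem f140128 : Led Lsl_bt (LP (LK LD1_c6 LD2_c41 LD3_c23)) = (LP (LK LD1_c3 LD2_c18 LD3_c47)) :=
  Lre_b IH (LK LD1_c6 LD2_c41 LD3_c23) (LK LD1_c3 LD2_c18 LD3_c47) Lrfl Lrfl
theorem f441173 : Led Lsl_bt (LP (LK LD1_c6 LD2_c10 LD3_c19)) = (LP (LK LD1_c12 LD2_c1 LD3_c21)) :=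
  Lre_b IH (LK LD1_c6 LD2_c10 LD3_c19) (LK LD1_c12 LD2_c1 LD3_c21) Lrfl Lrfl
theorem f441174 : Led Lsl_df (LP (LK LD1_c6 LD2_c41 LD3_c23)) = (LP (LK LD1_c12 LD2_c1 LD3_c21)) :=
  Lgr Lrot12 (Lpr_bt (f140128 IH) (Lpr_dt (K49.f441158 IH) (Lpr_bt (f441173 IH) (Lpn (LP (LK LD1_c12 LD2_c1 LD3_c21))))))
theorem f702751 : Led Lsl_gt (LP (LK LD1_c6 LD2_c41 LD3_c23)) = v13403 :=
  Lgr Lrot112 (Lpr_df (f441174 IH) (Lpr_et (f441185 IH) (Lpqs (K48.f663119 IH) (Lpe (K48.f649694 IH) (Lpe (K48.f160780 IH) (Lpe (f147511 IH) (Lpr_gf (K3.f104326 IH) (Lpr_df (K3.f77870 IH) (Lpr_gf (K3.f94933 IH) (Lpe (K5.f26138 IH) (Lpr_dt (f702746 IH) (Lpn v13403))))))))))))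
theorem f764984 : Led Lsl_gf (LP (LK LD1_c6 LD2_c41 LD3_c23)) = v18084 :=
  Lgr Lrot47 (Lpr_gt (f702751 IH) (Lpe (f702752 IH) (Lpr_ff (f764980 IH) (Lpn v18084))))
theorem f95785 : Led Lsl_et (LP (LK LD1_c6 LD2_c26 LD3_c16)) = (LP (LK LD1_c3 LD2_c10 LD3_c61)) :=
  Lre_e IH (LK LD1_c6 LD2_c26 LD3_c16) (LK LD1_c3 LD2_c10 LD3_c61) Lrfl Lrfl
theorem f95786 : Led Lsl_dt (LP (LK LD1_c3 LD2_c13 LD3_c19)) = (LP (LK LD1_c6 LD2_c26 LD3_c16)) :=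
  Lgr Lrot77 (Lpe (K5.f23611 IH) (Lpe (K5.f23651 IH) (Lpr_ef (K5.f95781 IH) (Lpe (f86341 IH) (Lpe (f95785 IH) (Lpn (LP (LK LD1_c6 LD2_c26 LD3_c16))))))))
theorem f764978 : Led Lsl_df (LP (LK LD1_c6 LD2_c30 LD3_c28)) = v18084 :=
  Lgr Lrot78 (Lpr_ft (K57.f23625 IH) (Lpr_dt (f95786 IH) (Lpr_ft (f764976 IH) (Lpn v18084))))
theorem f647758 : Led Lsl_cf (LP (LK LD1_c3 LD2_c8 LD3_c10)) = v5462 :=
  Lgr Lrot11 (Lpr_ct (f647756 IH) (Lpn v5462))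
theorem f779348 : Led Lsl_gf v5462 = v19378 :=
  Lgr Lrot104 (Lpe (f647758 IH) (Lpr_df (K5.f126957 IH) (Lpe (K51.f126965 IH) (Lpr_gf (K51.f702346 IH) (Lpqs (K51.f707736 IH) (Lpe (K51.f671727 IH) (Lpqs (K57.f760552 IH) (Lpe (K57.f702745 IH) (Lpr_df (f764978 IH) (Lpe (f764984 IH) (Lpr_ct (f779346 IH) (Lpn v19378))))))))))))
theorem f776083 : Led Lsl_ff (LP (LK LD1_c6 LD2_c41 LD3_c23)) = v18842 :=
  Lgr Lrot25 (Lpr_bt (f140128 IH) (Lpr_ft (K46.f651720 IH) (Lpqs (K49.f663244 IH) (Lpr_bt (f776081 IH) (Lpn v18842)))))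
theorem f776084 : Led Lsl_ft (LP (LK LD1_c6 LD2_c41 LD3_c23)) = v18842 :=
  Lgr Lrot48 (Lpr_ff (f776083 IH) (Lpn v18842))
theorem f779347 : Led Lsl_cf (LP (LK LD1_c6 LD2_c41 LD3_c23)) = v19378 :=
  Lgr Lrot11 (Lpr_ct (f779346 IH) (Lpn v19378))
theorem f827849 : Led Lsl_ff v19378 = v25271 :=
  Lgr Lrot23 (Lpe (f779347 IH) (Lpr_ft (f776084 IH) (Lpr_ct (f827847 IH) (Lpn v25271))))
theorem f827850 : Led Lsl_ft v19378 = v25271 :=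
  Lgr Lrot48 (Lpr_ff (f827849 IH) (Lpn v25271))
theorem f828082 : Led Lsl_at v25271 = v25335 :=
  Lgr Lrot26 (Lpe (f827850 IH) (Lpe (f779348 IH) (Lpr_gt (f828081 IH) (Lpn v25335))))
theorem f828083 : Led Lsl_af v25271 = v25335 :=
  Lgr Lrot0 (Lpr_at (f828082 IH) (Lpn v25335))
theorem f828084 : Led Lsl_ft v25272 = v25335 :=
  Lgr Lrot2 (Lpe (f827851 IH) (Lpr_gt (f827846 IH) (Lpr_af (f828083 IH) (Lpn v25335))))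
theorem f828085 : Led Lsl_af v25272 = v19378 :=
  Lgr Lrot45 (Lpr_ft (f828084 IH) (Lpe (f828083 IH) (Lpe (f827849 IH) (Lpn v19378))))
theorem f828106 : Led Lsl_gt v25271 = v25338 :=
  Lgr Lrot5 (Lpe (f827849 IH) (Lpe (f828085 IH) (Lpr_gf (f828105 IH) (Lpn v25338))))
theorem f828104 : Led Lsl_ct K51.v5463 = v25338 :=
  Lgr Lrot40 (Lpe (K51.f647762 IH) (Lpr_cf (f647758 IH) (Lpr_ff (f828102 IH) (Lpn v25338))))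
theorem f761234 : Led Lsl_ff (LP (LK LD1_c6 LD2_c20 LD3_c60)) = K57.v17640 :=
  Lgr Lrot3 (Lpr_ft (K57.f761229 IH) (Lpn K57.v17640))
theorem f761238 : Led Lsl_bt K51.v5463 = K57.v17640 :=
  Lgr Lrot35 (Lpe (K51.f647762 IH) (Lpe (K5.f126981 IH) (Lpr_ff (f761234 IH) (Lpn K57.v17640))))
theorem f850396 : Led Lsl_gt K57.v17640 = v29684 :=
  Lgr Lrot164 (Lpe (f761238 IH) (Lpr_ct (f828104 IH) (Lpe (f828106 IH) (Lpe (f827847 IH) (Lpqs (f801173 IH) (Lpe (f764970 IH) (Lpe (f95792 IH) (Lpr_ct (K58.f95801 IH) (Lpr_gf (f767596 IH) (Lpe (f767599 IH) (Lpr_bt (f850391 IH) (Lpn v29684))))))))))))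
theorem f761233 : Led Lsl_df K51.v13322 = K57.v17640 :=
  Lgr Lrot78 (Lpe (K56.f702334 IH) (Lpe (K5.f126983 IH) (Lpr_ft (K57.f761229 IH) (Lpn K57.v17640))))
theorem f78032 : Led Lsl_ct (LP (LK LD1_c9 LD2_c21 LD3_c48)) = (LP (LK LD1_c4 LD2_c44 LD3_c30)) :=
  Lre_c IH (LK LD1_c9 LD2_c21 LD3_c48) (LK LD1_c4 LD2_c44 LD3_c30) Lrfl Lrfl
theorem f86185 : Led Lsl_gt (LP (LK LD1_c17 LD2_c17 LD3_c60)) = (LP (LK LD1_c9 LD2_c21 LD3_c48)) :=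
  Lre_g IH (LK LD1_c17 LD2_c17 LD3_c60) (LK LD1_c9 LD2_c21 LD3_c48) Lrfl Lrfl
theorem f850403 : Led Lsl_cf (LP (LK LD1_c17 LD2_c17 LD3_c60)) = v29684 :=
  Lgr Lrot169 (Lpr_gt (f86185 IH) (Lpr_ct (f78032 IH) (Lpe (K51.f78011 IH) (Lpe (K56.f78023 IH) (Lpr_gf (K56.f703294 IH) (Lpe (K56.f712654 IH) (Lpe (K56.f703382 IH) (Lpr_df (f761233 IH) (Lpr_gt (f850396 IH) (Lpn v29684))))))))))
theorem f23543 : Led Lsl_ft (LP (LK LD1_c9 LD2_c21 LD3_c56)) = (LP (LK LD1_c17 LD2_c18 LD3_c10)) :=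
  Lre_f IH (LK LD1_c9 LD2_c21 LD3_c56) (LK LD1_c17 LD2_c18 LD3_c10) Lrfl Lrfl
theorem f761237 : Led Lsl_at (LP (LK LD1_c17 LD2_c18 LD3_c10)) = K57.v17640 :=
  Lgr Lrot66 (Lpe (f23543 IH) (Lpr_af (K52.f136082 IH) (Lpr_ff (f761234 IH) (Lpn K57.v17640))))
theorem f850401 : Led Lsl_gf K57.v17640 = (LP (LK LD1_c12 LD2_c16 LD3_c30)) :=
  Lgr Lrot76 (Lpe (f761237 IH) (Lpe (f23543 IH) (Lpr_gt (f850398 IH) (Lpn (LP (LK LD1_c12 LD2_c16 LD3_c30))))))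
theorem f761679 : Led Lsl_ft (LP (LK LD1_c12 LD2_c16 LD3_c30)) = (LP (LK LD1_c12 LD2_c16 LD3_c4)) :=
  Lgr Lrot48 (Lpr_ff (K58.f761675 IH) (Lpn (LP (LK LD1_c12 LD2_c16 LD3_c4))))
theorem f850402 : Led Lsl_af v29684 = (LP (LK LD1_c12 LD2_c16 LD3_c4)) :=
  Lgr Lrot31 (Lpe (f850396 IH) (Lpr_gf (f850401 IH) (Lpr_ft (f761679 IH) (Lpn (LP (LK LD1_c12 LD2_c16 LD3_c4))))))
theorem f715916 : Led Lsl_ct (LP (LK LD1_c9 LD2_c28 LD3_c1)) = (LP (LK LD1_c12 LD2_c16 LD3_c4)) :=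
  Lgr Lrot59 (Lpr_cf (K52.f715913 IH) (Lpn (LP (LK LD1_c12 LD2_c16 LD3_c4))))
theorem f850404 : Led Lsl_at (LP (LK LD1_c17 LD2_c17 LD3_c60)) = (LP (LK LD1_c9 LD2_c28 LD3_c1)) :=
  Lgr Lrot107 (Lpr_cf (f850403 IH) (Lpr_af (f850402 IH) (Lpe (f715916 IH) (Lpn (LP (LK LD1_c9 LD2_c28 LD3_c1))))))
theorem f850405 : Led Lsl_at (LP (LK LD1_c17 LD2_c17 LD3_c60)) = (LP (LK LD1_c9 LD2_c28 LD3_c1)) :=
  Leop (Lpe (f850404 IH) (Lpn (LP (LK LD1_c17 LD2_c17 LD3_c60))))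
theorem seed_1980 : LEOK LG_a (LK LD1_c17 LD2_c17 LD3_c60) :=
  Leoe_a (LK LD1_c17 LD2_c17 LD3_c60) (f850405 IH)
theorem f58089 : Led Lsl_dt (LP (LK LD1_c9 LD2_c21 LD3_c48)) = (LP (LK LD1_c17 LD2_c18 LD3_c0)) :=
  Lre_d IH (LK LD1_c9 LD2_c21 LD3_c48) (LK LD1_c17 LD2_c18 LD3_c0) Lrfl Lrfl
theorem f58090 : Led Lsl_gt (LP (LK LD1_c17 LD2_c18 LD3_c0)) = (LP (LK LD1_c27 LD2_c7 LD3_c41)) :=
  Lre_g IH (LK LD1_c17 LD2_c18 LD3_c0) (LK LD1_c27 LD2_c7 LD3_c41) Lrfl Lrfl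
theorem f23530 : Led Lsl_dt (LP (LK LD1_c9 LD2_c21 LD3_c56)) = (LP (LK LD1_c4 LD2_c44 LD3_c35)) :=
  Lre_d IH (LK LD1_c9 LD2_c21 LD3_c56) (LK LD1_c4 LD2_c44 LD3_c35) Lrfl Lrfl
theorem f703318 : Led Lsl_dt (LP (LK LD1_c6 LD2_c21 LD3_c11)) = (LP (LK LD1_c12 LD2_c16 LD3_c25)) :=
  Lre_d IH (LK LD1_c6 LD2_c21 LD3_c11) (LK LD1_c12 LD2_c16 LD3_c25) Lrfl Lrfl
theorem f703317 : Led Lsl_ct (LP (LK LD1_c21 LD2_c21 LD3_c36)) = (LP (LK LD1_c12 LD2_c16 LD3_c25)) :=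
  Lre_c IH (LK LD1_c21 LD2_c21 LD3_c36) (LK LD1_c12 LD2_c16 LD3_c25) Lrfl Lrfl
theorem f850408 : Led Lsl_dt (LP (LK LD1_c27 LD2_c7 LD3_c41)) = (LP (LK LD1_c21 LD2_c21 LD3_c36)) :=
  Lgr Lrot105 (Lpe (f58090 IH) (Lpe (f58089 IH) (Lpe (f86185 IH) (Lpr_cf (f850403 IH) (Lpe (f850397 IH) (Lpr_dt (f23530 IH) (Lpr_gt (K51.f703379 IH) (Lpqs (K51.f707743 IH) (Lpr_dt (f703318 IH) (Lpe (f703317 IH) (Lpn (LP (LK LD1_c21 LD2_c21 LD3_c36)))))))))))))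
theorem f850409 : Led Lsl_dt (LP (LK LD1_c27 LD2_c7 LD3_c41)) = (LP (LK LD1_c21 LD2_c21 LD3_c36)) :=
  Leop (Lpe (f850408 IH) (Lpn (LP (LK LD1_c27 LD2_c7 LD3_c41))))
theorem seed_1981 : LEOK LG_d (LK LD1_c27 LD2_c7 LD3_c41) :=
  Leoe_d (LK LD1_c27 LD2_c7 LD3_c41) (f850409 IH)
theorem f850407 : Led Lsl_ct (LP (LK LD1_c17 LD2_c17 LD3_c60)) = v29684 :=
  Lgr Lrot59 (Lpr_cf (f850403 IH) (Lpn v29684))
theorem f850416 : Led Lsl_ff (LP (LK LD1_c17 LD2_c17 LD3_c60)) = (LP (LK LD1_c9 LD2_c28 LD3_c0)) :=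
  Lgr Lrot23 (Lpr_ct (f850407 IH) (Lpe (f850395 IH) (Lpe (K65.f837675 IH) (Lpn (LP (LK LD1_c9 LD2_c28 LD3_c0))))))
theorem f850417 : Led Lsl_ft (LP (LK LD1_c9 LD2_c28 LD3_c0)) = (LP (LK LD1_c17 LD2_c17 LD3_c60)) :=
  Leop (Lpr_ff (f850416 IH) (Lpn (LP (LK LD1_c9 LD2_c28 LD3_c0))))
theorem seed_1982 : LEOK LG_f (LK LD1_c9 LD2_c28 LD3_c0) :=
  Leoe_f (LK LD1_c9 LD2_c28 LD3_c0) (f850417 IH)
def v9485 : LQ := Led Lsl_bt K59.v2716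
def v29963 : LQ := Led Lsl_ct v9485
theorem f851918 : Led Lsl_ct v9485 = v29963 :=
  Lrfl
theorem f851920 : Led Lsl_cf v9485 = v29963 :=
  Lgr Lrot11 (Lpr_ct (f851918 IH) (Lpn v29963))
theorem f676150 : Led Lsl_bt K59.v2716 = v9485 :=
  Lrfl
theorem f676151 : Led Lsl_bf K59.v2716 = v9485 :=
  Lgr Lrot24 (Lpr_bt (f676150 IH) (Lpn v9485))
theorem f12723 : Led Lsl_dt (LP (LK LD1_c1 LD2_c53 LD3_c33)) = (LP (LK LD1_c0 LD2_c53 LD3_c22)) :=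
  Lre_d IH (LK LD1_c1 LD2_c53 LD3_c33) (LK LD1_c0 LD2_c53 LD3_c22) Lrfl Lrfl
theorem f90424 : Led Lsl_gt (LP (LK LD1_c12 LD2_c13 LD3_c45)) = (LP (LK LD1_c21 LD2_c19 LD3_c54)) :=
  Lre_g IH (LK LD1_c12 LD2_c13 LD3_c45) (LK LD1_c21 LD2_c19 LD3_c54) Lrfl Lrfl
theorem f851924 : Led Lsl_dt (LP (LK LD1_c21 LD2_c19 LD3_c54)) = v29963 :=
  Lgr Lrot182 (Lpe (f90424 IH) (Lpe (K60.f90403 IH) (Lpe (K58.f90134 IH) (Lpe (K2.f66815 IH) (Lpe (K11.f154957 IH) (Lpe (K7.f67138 IH) (Lpr_cf (K1.f67086 IH) (Lpe (K1.f20928 IH) (Lpe (K1.f12725 IH) (Lpe (K5.f12724 IH) (Lpe (K5.f12720 IH) (Lpe (K7.f12718 IH) (Lpe (K3.f12709 IH) (Lpe (K3.f11116 IH) (Lpe (K4.f12722 IH) (Lpe (f12723 IH) (Lpr_gf (K59.f531341 IH) (Lpr_bf (f676151 IH) (Lpr_cf (f851920 IH) (Lpn v29963))))))))))))))))))))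
theorem f531347 : Led Lsl_cf (LP (LK LD1_c6 LD2_c41 LD3_c34)) = K59.v2716 :=
  Lgr Lrot166 (Lpr_gt (K7.f126159 IH) (Lpr_dt (K5.f114277 IH) (Lpe (K34.f143644 IH) (Lpr_dt (K4.f114198 IH) (Lpe (K4.f114334 IH) (Lpe (K4.f85600 IH) (Lpe (K4.f85599 IH) (Lpe (f12723 IH) (Lpr_gf (K59.f531341 IH) (Lpn K59.v2716))))))))))
theorem f531352 : Led Lsl_ft (LP (LK LD1_c7 LD2_c4 LD3_c10)) = K59.v2716 :=
  Lgr Lrot4 (Lpe (K5.f126204 IH) (Lpr_ff (K7.f126157 IH) (Lpr_cf (f531347 IH) (Lpn K59.v2716))))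
theorem f11132 : Led Lsl_bt (LP (LK LD1_c13 LD2_c24 LD3_c8)) = (LP (LK LD1_c7 LD2_c4 LD3_c10)) :=
  Lre_b IH (LK LD1_c13 LD2_c24 LD3_c8) (LK LD1_c7 LD2_c4 LD3_c10) Lrfl Lrfl
theorem f676152 : Led Lsl_ff (LP (LK LD1_c13 LD2_c24 LD3_c8)) = v9485 :=
  Lgr Lrot25 (Lpr_bt (f11132 IH) (Lpr_ft (f531352 IH) (Lpr_bt (f676150 IH) (Lpn v9485))))
theorem f676153 : Led Lsl_ft (LP (LK LD1_c13 LD2_c24 LD3_c8)) = v9485 :=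
  Lgr Lrot48 (Lpr_ff (f676152 IH) (Lpn v9485))
theorem f11133 : Led Lsl_ct (LP (LK LD1_c22 LD2_c42 LD3_c15)) = (LP (LK LD1_c13 LD2_c24 LD3_c8)) :=
  Lre_c IH (LK LD1_c22 LD2_c42 LD3_c15) (LK LD1_c13 LD2_c24 LD3_c8) Lrfl Lrfl
theorem f851921 : Led Lsl_ff (LP (LK LD1_c22 LD2_c42 LD3_c15)) = v29963 :=
  Lgr Lrot23 (Lpr_ct (f11133 IH) (Lpr_ft (f676153 IH) (Lpr_ct (f851918 IH) (Lpn v29963))))
theorem f11130 : Led Lsl_dt (LP (LK LD1_c3 LD2_c31 LD3_c9)) = (LP (LK LD1_c1 LD2_c42 LD3_c7)) :=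
  Lre_d IH (LK LD1_c3 LD2_c31 LD3_c9) (LK LD1_c1 LD2_c42 LD3_c7) Lrfl Lrfl
theorem f83640 : Led Lsl_bt (LP (LK LD1_c6 LD2_c27 LD3_c31)) = (LP (LK LD1_c12 LD2_c26 LD3_c34)) :=
  Lre_b IH (LK LD1_c6 LD2_c27 LD3_c31) (LK LD1_c12 LD2_c26 LD3_c34) Lrfl Lrfl
theorem f90432 : Led Lsl_gt (LP (LK LD1_c12 LD2_c26 LD3_c34)) = (LP (LK LD1_c21 LD2_c33 LD3_c42)) :=
  Lre_g IH (LK LD1_c12 LD2_c26 LD3_c34) (LK LD1_c21 LD2_c33 LD3_c42) Lrfl Lrfl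
theorem f435143 : Led Lsl_df (LP (LK LD1_c22 LD2_c42 LD3_c15)) = (LP (LK LD1_c21 LD2_c33 LD3_c42)) :=
  Lgr Lrot183 (Lpr_ct (f11133 IH) (Lpr_bt (f11132 IH) (Lpr_gt (K5.f11131 IH) (Lpr_dt (f11130 IH) (Lpr_ct (K3.f11129 IH) (Lpr_bt (K3.f11128 IH) (Lpe (K3.f11126 IH) (Lpr_dt (K61.f435138 IH) (Lpr_ct (K2.f20858 IH) (Lpr_bt (K2.f20853 IH) (Lpr_gt (K6.f145468 IH) (Lpe (K1.f20930 IH) (Lpe (K7.f154088 IH) (Lpe (K7.f429032 IH) (Lpr_gt (K7.f154371 IH) (Lpr_dt (K7.f429658 IH) (Lpr_ct (K5.f83638 IH) (Lpr_bt (f83640 IH) (Lpr_gt (f90432 IH) (Lpn (LP (LK LD1_c21 LD2_c33 LD3_c42))))))))))))))))))))))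
theorem f435145 : Led Lsl_dt (LP (LK LD1_c22 LD2_c42 LD3_c15)) = (LP (LK LD1_c21 LD2_c33 LD3_c42)) :=
  Lgr Lrot42 (Lpr_df (f435143 IH) (Lpn (LP (LK LD1_c21 LD2_c33 LD3_c42))))
theorem f851926 : Led Lsl_ff (LP (LK LD1_c21 LD2_c19 LD3_c54)) = (LP (LK LD1_c21 LD2_c33 LD3_c42)) :=
  Lgr Lrot19 (Lpr_dt (f851924 IH) (Lpe (f851921 IH) (Lpr_dt (f435145 IH) (Lpn (LP (LK LD1_c21 LD2_c33 LD3_c42))))))
theorem f851927 : Led Lsl_ft (LP (LK LD1_c21 LD2_c33 LD3_c42)) = (LP (LK LD1_c21 LD2_c19 LD3_c54)) :=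
  Leop (Lpr_ff (f851926 IH) (Lpn (LP (LK LD1_c21 LD2_c33 LD3_c42))))
theorem seed_1983 : LEOK LG_f (LK LD1_c21 LD2_c33 LD3_c42) :=
  Leoe_f (LK LD1_c21 LD2_c33 LD3_c42) (f851927 IH)
def v9674 : LQ := Led Lsl_at K55.v3005
def v30231 : LQ := Led Lsl_et v9674
theorem f853222 : Led Lsl_et v9674 = v30231 :=
  Lrfl
theorem f853224 : Led Lsl_ef v9674 = v30231 :=
  Lgr Lrot88 (Lpr_et (f853222 IH) (Lpn v30231))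
theorem f677138 : Led Lsl_at K55.v3005 = v9674 :=
  Lrfl
theorem f677139 : Led Lsl_af K55.v3005 = v9674 :=
  Lgr Lrot0 (Lpr_at (f677138 IH) (Lpn v9674))
theorem f853225 : Led Lsl_at K55.v9678 = v30231 :=
  Lgr Lrot80 (Lpe (K55.f677148 IH) (Lpr_af (f677139 IH) (Lpr_ef (f853224 IH) (Lpn v30231))))
def v19593 : LQ := Led Lsl_ft (LP (LK LD1_c6 LD2_c44 LD3_c16))
theorem f780880 : Led Lsl_ft (LP (LK LD1_c6 LD2_c44 LD3_c16)) = v19593 :=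
  Lrfl
def v19590 : LQ := Led Lsl_at (LP (LK LD1_c6 LD2_c44 LD3_c16))
theorem f780865 : Led Lsl_at (LP (LK LD1_c6 LD2_c44 LD3_c16)) = v19590 :=
  Lrfl
theorem f780866 : Led Lsl_af (LP (LK LD1_c6 LD2_c44 LD3_c16)) = v19590 :=
  Lgr Lrot0 (Lpr_at (f780865 IH) (Lpn v19590))
theorem f780867 : Led Lsl_ft (LP (LK LD1_c6 LD2_c44 LD3_c17)) = v19590 :=
  Lgr Lrot2 (Lpr_gt (K55.f157783 IH) (Lpr_gt (K60.f157784 IH) (Lpr_af (f780866 IH) (Lpn v19590))))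
theorem f780881 : Led Lsl_af (LP (LK LD1_c6 LD2_c44 LD3_c17)) = v19593 :=
  Lgr Lrot45 (Lpr_ft (f780867 IH) (Lpe (f780866 IH) (Lpr_ft (f780880 IH) (Lpn v19593))))
theorem f853226 : Led Lsl_df v19593 = v30231 :=
  Lgr Lrot18 (Lpe (f780881 IH) (Lpr_dt (K55.f677151 IH) (Lpr_at (f853225 IH) (Lpn v30231))))
theorem f780882 : Led Lsl_ff (LP (LK LD1_c6 LD2_c44 LD3_c16)) = v19593 :=
  Lgr Lrot3 (Lpr_ft (f780880 IH) (Lpn v19593))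
theorem f495963 : Led Lsl_dt (LP (LK LD1_c6 LD2_c44 LD3_c16)) = (LP (LK LD1_c12 LD2_c53 LD3_c14)) :=
  Lre_d IH (LK LD1_c6 LD2_c44 LD3_c16) (LK LD1_c12 LD2_c53 LD3_c14) Lrfl Lrfl
theorem f853228 : Led Lsl_ft (LP (LK LD1_c12 LD2_c53 LD3_c14)) = v30231 :=
  Lgr Lrot54 (Lpe (f495963 IH) (Lpr_ff (f780882 IH) (Lpr_df (f853226 IH) (Lpn v30231))))
theorem f853230 : Led Lsl_ff (LP (LK LD1_c12 LD2_c53 LD3_c14)) = v30231 :=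
  Lgr Lrot3 (Lpr_ft (f853228 IH) (Lpn v30231))
def v16940 : LQ := Led Lsl_gf (LP (LK LD1_c6 LD2_c8 LD3_c56))
theorem f753664 : Led Lsl_gf (LP (LK LD1_c6 LD2_c8 LD3_c56)) = v16940 :=
  Lrfl
theorem f23075 : Led Lsl_bt (LP (LK LD1_c3 LD2_c0 LD3_c48)) = (LP (LK LD1_c6 LD2_c8 LD3_c56)) :=
  Lre_b IH (LK LD1_c3 LD2_c0 LD3_c48) (LK LD1_c6 LD2_c8 LD3_c56) Lrfl Lrfl
theorem f23076 : Led Lsl_bt (LP (LK LD1_c3 LD2_c21 LD3_c4)) = (LP (LK LD1_c1 LD2_c36 LD3_c49)) :=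
  Lre_b IH (LK LD1_c3 LD2_c21 LD3_c4) (LK LD1_c1 LD2_c36 LD3_c49) Lrfl Lrfl
theorem f23077 : Led Lsl_dt (LP (LK LD1_c6 LD2_c8 LD3_c56)) = (LP (LK LD1_c3 LD2_c21 LD3_c4)) :=
  Lgr Lrot79 (Lpe (f23075 IH) (Lpr_df (K9.f22949 IH) (Lpe (f23076 IH) (Lpn (LP (LK LD1_c3 LD2_c21 LD3_c4))))))
def v6375 : LQ := Led Lsl_gt (LP (LK LD1_c3 LD2_c21 LD3_c4))
theorem f653083 : Led Lsl_gt (LP (LK LD1_c3 LD2_c21 LD3_c4)) = v6375 :=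
  Lrfl
def v16158 : LQ := Led Lsl_gf (LP (LK LD1_c5 LD2_c53 LD3_c36))
theorem f746768 : Led Lsl_gf (LP (LK LD1_c5 LD2_c53 LD3_c36)) = v16158 :=
  Lrfl
theorem f139494 : Led Lsl_et (LP (LK LD1_c2 LD2_c53 LD3_c8)) = (LP (LK LD1_c1 LD2_c22 LD3_c39)) :=
  Lre_e IH (LK LD1_c2 LD2_c53 LD3_c8) (LK LD1_c1 LD2_c22 LD3_c39) Lrfl Lrfl
theorem f139495 : Led Lsl_dt (LP (LK LD1_c2 LD2_c53 LD3_c8)) = (LP (LK LD1_c5 LD2_c53 LD3_c36)) :=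
  Lre_d IH (LK LD1_c2 LD2_c53 LD3_c8) (LK LD1_c5 LD2_c53 LD3_c36) Lrfl Lrfl
def v5301 : LQ := Led Lsl_gt (LP (LK LD1_c3 LD2_c5 LD3_c8))
theorem f646957 : Led Lsl_gt (LP (LK LD1_c3 LD2_c5 LD3_c8)) = v5301 :=
  Lrfl
theorem f646958 : Led Lsl_gf (LP (LK LD1_c5 LD2_c54 LD3_c31)) = v5301 :=
  Lgr Lrot76 (Lpe (K56.f138460 IH) (Lpe (K64.f138471 IH) (Lpr_gt (f646957 IH) (Lpn v5301))))
theorem f752504 : (LP (LK LD1_c3 LD2_c0 LD3_c46)) = v5301 :=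
  Lefun (Lecon (Lfl_gt (K56.f646364 IH)) (K56.f752498 IH)) (f646958 IH)
theorem f23102 : Led Lsl_et (LP (LK LD1_c6 LD2_c8 LD3_c56)) = (LP (LK LD1_c3 LD2_c0 LD3_c46)) :=
  Lre_e IH (LK LD1_c6 LD2_c8 LD3_c56) (LK LD1_c3 LD2_c0 LD3_c46) Lrfl Lrfl
theorem f752508 : v16158 = (LP (LK LD1_c3 LD2_c21 LD3_c4)) :=
  (Llr Lrot145 (Lpe (f746768 IH) (Lpe (f139495 IH) (Lpr_et (f139494 IH) (Lpr_gt (K32.f202064 IH) (Lpe (K11.f104810 IH) (Lpe (K35.f202562 IH) (Lpe (K6.f80266 IH) (Lpr_et (K56.f138456 IH) (Lpr_gt (f646957 IH) (Lpq (f752504 IH) (Lpe (f23102 IH) (Lpr_dt (f23077 IH) (Lpn (LP (LK LD1_c3 LD2_c21 LD3_c4)))))))))))))))).symm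
theorem f752509 : (LP (LK LD1_c5 LD2_c53 LD3_c36)) = v6375 :=
  Lefun (Lecon (Lfl_gf (f746768 IH)) (f752508 IH)) (f653083 IH)
theorem f557962 : Led Lsl_dt (LP (LK LD1_c12 LD2_c53 LD3_c14)) = (LP (LK LD1_c6 LD2_c44 LD3_c16)) :=
  Lre_d IH (LK LD1_c12 LD2_c53 LD3_c14) (LK LD1_c6 LD2_c44 LD3_c16) Lrfl Lrfl
theorem f753665 : Led Lsl_et (LP (LK LD1_c12 LD2_c53 LD3_c14)) = v16940 :=
  Lgr Lrot121 (Lpr_dt (f557962 IH) (Lpe (K60.f157784 IH) (Lpr_df (K55.f557972 IH) (Lpr_et (K55.f104876 IH) (Lpe (K32.f202064 IH) (Lpe (f139494 IH) (Lpr_dt (f139495 IH) (Lpqs (f752509 IH) (Lpe (f653083 IH) (Lpe (f23077 IH) (Lpr_gf (f753664 IH) (Lpn v16940))))))))))))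
def v3006 : LQ := Led Lsl_gf K55.v436
theorem f536470 : Led Lsl_gf K55.v436 = v3006 :=
  Lrfl
theorem f677140 : Led Lsl_ft v3006 = v9674 :=
  Lgr Lrot2 (Lpe (f536470 IH) (Lpr_gt (K55.f536469 IH) (Lpr_af (f677139 IH) (Lpn v9674))))
def v9683 : LQ := Led Lsl_et v3006
theorem f677163 : Led Lsl_et v3006 = v9683 :=
  Lrfl
theorem f677164 : Led Lsl_ef v3006 = v9683 :=
  Lgr Lrot88 (Lpr_et (f677163 IH) (Lpn v9683))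
theorem f853231 : Led Lsl_ft v16940 = v9683 :=
  Lgr Lrot86 (Lpe (f753665 IH) (Lpr_ff (f853230 IH) (Lpe (f853222 IH) (Lpe (f677140 IH) (Lpr_ef (f677164 IH) (Lpn v9683))))))
theorem f753666 : Led Lsl_ef (LP (LK LD1_c12 LD2_c53 LD3_c14)) = v16940 :=
  Lgr Lrot88 (Lpr_et (f753665 IH) (Lpn v16940))
theorem f495958 : Led Lsl_dt (LP (LK LD1_c1 LD2_c36 LD3_c32)) = K35.v1506 :=
  Lgr Lrot57 (Lpe (K8.f56813 IH) (Lpe (K32.f149649 IH) (Lpr_gt (K8.f159022 IH) (Lpr_dt (K32.f69010 IH) (Lpr_gt (K39.f210032 IH) (Lpr_dt (K8.f119079 IH) (Lpe (K8.f129116 IH) (Lpe (K8.f73838 IH) (Lpr_gf (K35.f495957 IH) (Lpn K35.v1506))))))))))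
theorem f209303 : Led Lsl_et (LP (LK LD1_c1 LD2_c36 LD3_c32)) = (LP (LK LD1_c3 LD2_c20 LD3_c17)) :=
  Lre_e IH (LK LD1_c1 LD2_c36 LD3_c32) (LK LD1_c3 LD2_c20 LD3_c17) Lrfl Lrfl
theorem f746966 : Led Lsl_gf K55.v15748 = (LP (LK LD1_c12 LD2_c53 LD3_c14)) :=
  Lgr Lrot134 (Lpe (K55.f746961 IH) (Lpr_et (K55.f746963 IH) (Lpe (K55.f741230 IH) (Lpe (K40.f137290 IH) (Lpr_dt (K8.f137288 IH) (Lpr_gt (K43.f495956 IH) (Lpe (f495958 IH) (Lpr_et (f209303 IH) (Lpr_gt (K60.f157784 IH) (Lpr_dt (f495963 IH) (Lpn (LP (LK LD1_c12 LD2_c53 LD3_c14)))))))))))))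
theorem f510172 : Led Lsl_dt (LP (LK LD1_c3 LD2_c20 LD3_c54)) = (LP (LK LD1_c6 LD2_c45 LD3_c42)) :=
  Lre_d IH (LK LD1_c3 LD2_c20 LD3_c54) (LK LD1_c6 LD2_c45 LD3_c42) Lrfl Lrfl
theorem f509407 : Led Lsl_at (LP (LK LD1_c3 LD2_c20 LD3_c56)) = (LP (LK LD1_c6 LD2_c45 LD3_c42)) :=
  Lre_a IH (LK LD1_c3 LD2_c20 LD3_c56) (LK LD1_c6 LD2_c45 LD3_c42) Lrfl Lrfl
theorem f510315 : Led Lsl_at (LP (LK LD1_c9 LD2_c31 LD3_c14)) = (LP (LK LD1_c4 LD2_c49 LD3_c16)) :=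
  Lre_a IH (LK LD1_c9 LD2_c31 LD3_c14) (LK LD1_c4 LD2_c49 LD3_c16) Lrfl Lrfl
theorem f510316 : Led Lsl_ft (LP (LK LD1_c6 LD2_c45 LD3_c42)) = (LP (LK LD1_c9 LD2_c31 LD3_c14)) :=
  Lgr Lrot101 (Lpe (f509407 IH) (Lpr_ff (K50.f510313 IH) (Lpe (f510315 IH) (Lpn (LP (LK LD1_c9 LD2_c31 LD3_c14))))))
theorem f416522 : Led Lsl_gt (LP (LK LD1_c9 LD2_c31 LD3_c17)) = (LP (LK LD1_c4 LD2_c49 LD3_c16)) :=
  Lre_g IH (LK LD1_c9 LD2_c31 LD3_c17) (LK LD1_c4 LD2_c49 LD3_c16) Lrfl Lrfl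
theorem f510394 : Led Lsl_gt (LP (LK LD1_c6 LD2_c45 LD3_c42)) = (LP (LK LD1_c9 LD2_c31 LD3_c17)) :=
  Lgr Lrot5 (Lpr_ft (f510316 IH) (Lpr_at (f510315 IH) (Lpe (f416522 IH) (Lpn (LP (LK LD1_c9 LD2_c31 LD3_c17))))))
theorem f753667 : Led Lsl_df (LP (LK LD1_c9 LD2_c31 LD3_c17)) = v16940 :=
  Lgr Lrot168 (Lpe (f510394 IH) (Lpe (f510172 IH) (Lpr_et (K54.f510165 IH) (Lpr_gf (K52.f711575 IH) (Lpe (K65.f700884 IH) (Lpr_dt (K55.f61088 IH) (Lpe (K55.f557987 IH) (Lpr_df (K56.f746956 IH) (Lpr_gf (f746966 IH) (Lpr_ef (f753666 IH) (Lpn v16940)))))))))))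
theorem f753669 : Led Lsl_dt (LP (LK LD1_c9 LD2_c31 LD3_c17)) = v16940 :=
  Lgr Lrot42 (Lpr_df (f753667 IH) (Lpn v16940))
theorem f415059 : Led Lsl_gt (LP (LK LD1_c6 LD2_c45 LD3_c47)) = (LP (LK LD1_c3 LD2_c20 LD3_c56)) :=
  Lre_g IH (LK LD1_c6 LD2_c45 LD3_c47) (LK LD1_c3 LD2_c20 LD3_c56) Lrfl Lrfl
theorem f510349 : Led Lsl_gf (LP (LK LD1_c6 LD2_c45 LD3_c47)) = (LP (LK LD1_c9 LD2_c31 LD3_c14)) :=
  Lgr Lrot47 (Lpr_gt (f415059 IH) (Lpe (K50.f509406 IH) (Lpr_ff (K50.f510329 IH) (Lpn (LP (LK LD1_c9 LD2_c31 LD3_c14))))))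
theorem f714914 : Led Lsl_df (LP (LK LD1_c6 LD2_c45 LD3_c47)) = v9683 :=
  Lgr Lrot132 (Lpr_gf (f510349 IH) (Lpe (K50.f510343 IH) (Lpqs (K52.f714868 IH) (Lpe (K52.f640987 IH) (Lpe (K52.f71217 IH) (Lpr_dt (K6.f71209 IH) (Lpe (K2.f37955 IH) (Lpe (K2.f22773 IH) (Lpr_et (K55.f452811 IH) (Lpr_gf (f536470 IH) (Lpr_ef (f677164 IH) (Lpn v9683))))))))))))
def v19682 : LQ := Led Lsl_at (LP (LK LD1_c6 LD2_c45 LD3_c46))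
theorem f781633 : Led Lsl_at (LP (LK LD1_c6 LD2_c45 LD3_c46)) = v19682 :=
  Lrfl
theorem f781634 : Led Lsl_af (LP (LK LD1_c6 LD2_c45 LD3_c46)) = v19682 :=
  Lgr Lrot0 (Lpr_at (f781633 IH) (Lpn v19682))
theorem f415009 : Led Lsl_gt (LP (LK LD1_c3 LD2_c20 LD3_c56)) = (LP (LK LD1_c6 LD2_c45 LD3_c46)) :=
  Lre_g IH (LK LD1_c3 LD2_c20 LD3_c56) (LK LD1_c6 LD2_c45 LD3_c46) Lrfl Lrfl
theorem f781636 : Led Lsl_ft (LP (LK LD1_c6 LD2_c45 LD3_c47)) = v19682 :=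
  Lgr Lrot2 (Lpr_gt (f415059 IH) (Lpr_gt (f415009 IH) (Lpr_af (f781634 IH) (Lpn v19682))))
theorem f853233 : (LP (LK LD1_c9 LD2_c31 LD3_c17)) = v19682 :=
  (Llr Lrot78 (Lpr_dt (f753669 IH) (Lpr_ft (f853231 IH) (Lpe (f714914 IH) (Lpr_ft (f781636 IH) (Lpn v19682)))))).symm
theorem f853234 : Led Lsl_at (LP (LK LD1_c9 LD2_c31 LD3_c17)) = (LP (LK LD1_c6 LD2_c45 LD3_c46)) :=
  Leop (Lpr_af (f781634 IH) (Lpq (f853233 IH) (Lpn (LP (LK LD1_c9 LD2_c31 LD3_c17)))))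
theorem seed_1984 : LEOK LG_a (LK LD1_c9 LD2_c31 LD3_c17) :=
  Leoe_a (LK LD1_c9 LD2_c31 LD3_c17) (f853234 IH)
def v1629 : LQ := Led Lsl_et (LP (LK LD1_c1 LD2_c22 LD3_c45))
def v8015 : LQ := Led Lsl_gt v1629
def v28237 : LQ := Led Lsl_et v8015
theorem f843322 : Led Lsl_et v8015 = v28237 :=
  Lrfl
theorem f843323 : Led Lsl_ef v8015 = v28237 :=
  Lgr Lrot88 (Lpr_et (f843322 IH) (Lpn v28237))
def v8017 : LQ := Led Lsl_ft v1629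
theorem f669646 : Led Lsl_ft v1629 = v8017 :=
  Lrfl
theorem f669643 : Led Lsl_gt v1629 = v8015 :=
  Lrfl
theorem f500429 : Led Lsl_et (LP (LK LD1_c1 LD2_c22 LD3_c45)) = v1629 :=
  Lrfl
theorem f500432 : Led Lsl_ef (LP (LK LD1_c1 LD2_c22 LD3_c45)) = v1629 :=
  Lgr Lrot88 (Lpr_et (f500429 IH) (Lpn v1629))
theorem f500433 : Led Lsl_at K55.v436 = v1629 :=
  Lgr Lrot80 (Lpe (K55.f452811 IH) (Lpe (K6.f71130 IH) (Lpr_ef (f500432 IH) (Lpn v1629))))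
def v3007 : LQ := Led Lsl_ft K55.v436
theorem f536471 : Led Lsl_ft K55.v436 = v3007 :=
  Lrfl
theorem f536473 : Led Lsl_ff K55.v436 = v3007 :=
  Lgr Lrot3 (Lpr_ft (f536471 IH) (Lpn v3007))
theorem f669647 : Led Lsl_af v3007 = v8017 :=
  Lgr Lrot45 (Lpe (f536473 IH) (Lpr_at (f500433 IH) (Lpr_ft (f669646 IH) (Lpn v8017))))
theorem f669650 : Led Lsl_gt v8015 = v3007 :=
  Lgr Lrot46 (Lpe (f669643 IH) (Lpr_ft (f669646 IH) (Lpe (f669647 IH) (Lpn v3007))))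
def v1635 : LQ := Led Lsl_et (LP (LK LD1_c1 LD2_c22 LD3_c56))
def v8024 : LQ := Led Lsl_ft v1635
theorem f669669 : Led Lsl_ft v1635 = v8024 :=
  Lrfl
theorem f669672 : Led Lsl_ff v1635 = v8024 :=
  Lgr Lrot3 (Lpr_ft (f669669 IH) (Lpn v8024))
theorem f500461 : Led Lsl_et (LP (LK LD1_c1 LD2_c22 LD3_c56)) = v1635 :=
  Lrfl
theorem f452813 : Led Lsl_ef (LP (LK LD1_c0 LD2_c38 LD3_c22)) = K55.v436 :=
  Lgr Lrot88 (Lpr_et (K55.f452811 IH) (Lpn K55.v436))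
theorem f500463 : Led Lsl_df K55.v436 = v1635 :=
  Lgr Lrot70 (Lpe (f452813 IH) (Lpr_dt (K2.f22773 IH) (Lpr_et (K37.f137408 IH) (Lpr_dt (K43.f186706 IH) (Lpr_et (f500461 IH) (Lpn v1635))))))
theorem f669674 : Led Lsl_dt v3007 = v8024 :=
  Lgr Lrot60 (Lpe (f536471 IH) (Lpr_df (f500463 IH) (Lpr_ff (f669672 IH) (Lpn v8024))))
def v4946 : LQ := Led Lsl_et (LP (LK LD1_c2 LD2_c53 LD3_c22))
def v24745 : LQ := Led Lsl_gf v4946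
theorem f825405 : Led Lsl_gf v4946 = v24745 :=
  Lrfl
theorem f641008 : Led Lsl_et (LP (LK LD1_c2 LD2_c53 LD3_c22)) = v4946 :=
  Lrfl
theorem f641012 : Led Lsl_ef (LP (LK LD1_c2 LD2_c53 LD3_c22)) = v4946 :=
  Lgr Lrot88 (Lpr_et (f641008 IH) (Lpn v4946))
theorem f71798 : Led Lsl_at (LP (LK LD1_c2 LD2_c53 LD3_c22)) = (LP (LK LD1_c1 LD2_c22 LD3_c56)) :=
  Lre_a IH (LK LD1_c2 LD2_c53 LD3_c22) (LK LD1_c1 LD2_c22 LD3_c56) Lrfl Lrfl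
theorem f641013 : Led Lsl_at v1635 = v4946 :=
  Lgr Lrot80 (Lpe (f500461 IH) (Lpe (f71798 IH) (Lpr_ef (f641012 IH) (Lpn v4946))))
theorem f825406 : Led Lsl_gt v8024 = v24745 :=
  Lgr Lrot5 (Lpe (f669672 IH) (Lpr_at (f641013 IH) (Lpr_gf (f825405 IH) (Lpn v24745))))
theorem f641015 : Led Lsl_dt v1629 = v4946 :=
  Lgr Lrot77 (Lpe (f500429 IH) (Lpe (K2.f71007 IH) (Lpe (K2.f71105 IH) (Lpe (K2.f71805 IH) (Lpr_ef (f641012 IH) (Lpn v4946))))))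
def v5070 : LQ := Led Lsl_et (LP (LK LD1_c2 LD2_c57 LD3_c2))
theorem f645181 : Led Lsl_et (LP (LK LD1_c2 LD2_c57 LD3_c2)) = v5070 :=
  Lrfl
theorem f645182 : Led Lsl_ef (LP (LK LD1_c2 LD2_c57 LD3_c2)) = v5070 :=
  Lgr Lrot88 (Lpr_et (f645181 IH) (Lpn v5070))
theorem f825407 : Led Lsl_dt v5070 = v24745 :=
  Lgr Lrot136 (Lpe (f645182 IH) (Lpe (K56.f69074 IH) (Lpe (K56.f202612 IH) (Lpe (K52.f202115 IH) (Lpe (K5.f60870 IH) (Lpe (K6.f80266 IH) (Lpr_gf (K8.f138483 IH) (Lpr_ef (f500432 IH) (Lpr_dt (f641015 IH) (Lpr_gf (f825405 IH) (Lpn v24745)))))))))))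
theorem f210100 : Led Lsl_et (LP (LK LD1_c9 LD2_c13 LD3_c19)) = (LP (LK LD1_c6 LD2_c1 LD3_c45)) :=
  Lgr Lrot87 (Lpr_ef (K56.f210090 IH) (Lpn (LP (LK LD1_c6 LD2_c1 LD3_c45))))
theorem f419073 : Led Lsl_dt (LP (LK LD1_c9 LD2_c13 LD3_c33)) = (LP (LK LD1_c4 LD2_c38 LD3_c52)) :=
  Lre_d IH (LK LD1_c9 LD2_c13 LD3_c33) (LK LD1_c4 LD2_c38 LD3_c52) Lrfl Lrfl
theorem f557956 : Led Lsl_df (LP (LK LD1_c6 LD2_c44 LD3_c18)) = (LP (LK LD1_c9 LD2_c13 LD3_c19)) :=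
  Lgr Lrot18 (Lpr_at (K40.f557954 IH) (Lpr_dt (f419073 IH) (Lpr_at (K32.f204211 IH) (Lpn (LP (LK LD1_c9 LD2_c13 LD3_c19))))))
theorem f843324 : Led Lsl_df (LP (LK LD1_c9 LD2_c13 LD3_c29)) = v28237 :=
  Lgr Lrot168 (Lpr_gf (K50.f644149 IH) (Lpr_df (f557956 IH) (Lpr_et (f210100 IH) (Lpe (K55.f210096 IH) (Lpr_ef (f645182 IH) (Lpr_dt (f825407 IH) (Lpe (f825406 IH) (Lpe (f669674 IH) (Lpe (f669650 IH) (Lpr_ef (f843323 IH) (Lpn v28237)))))))))))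
def v28238 : LQ := Led Lsl_ft v8015
theorem f843329 : Led Lsl_ft v8015 = v28238 :=
  Lrfl
theorem f843331 : Led Lsl_ff v8015 = v28238 :=
  Lgr Lrot3 (Lpr_ft (f843329 IH) (Lpn v28238))
def v8016 : LQ := Led Lsl_gf v1629
def v28241 : LQ := Led Lsl_et v8016
theorem f843338 : Led Lsl_et v8016 = v28241 :=
  Lrfl
theorem f843339 : Led Lsl_ef v8016 = v28241 :=
  Lgr Lrot88 (Lpr_et (f843338 IH) (Lpn v28241))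
theorem f669644 : Led Lsl_gf v1629 = v8016 :=
  Lrfl
theorem f509865 : Led Lsl_dt (LP (LK LD1_c2 LD2_c22 LD3_c26)) = (LP (LK LD1_c4 LD2_c49 LD3_c16)) :=
  Lre_d IH (LK LD1_c2 LD2_c22 LD3_c26) (LK LD1_c4 LD2_c49 LD3_c16) Lrfl Lrfl
theorem f77040 : Led Lsl_gt (LP (LK LD1_c4 LD2_c49 LD3_c16)) = (LP (LK LD1_c9 LD2_c31 LD3_c16)) :=
  Lre_g IH (LK LD1_c4 LD2_c49 LD3_c16) (LK LD1_c9 LD2_c31 LD3_c16) Lrfl Lrfl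
theorem f843340 : Led Lsl_df (LP (LK LD1_c9 LD2_c31 LD3_c16)) = v28241 :=
  Lgr Lrot132 (Lpe (f77040 IH) (Lpe (f509865 IH) (Lpq (K54.f739129 IH) (Lpe (K54.f699979 IH) (Lpe (K52.f71127 IH) (Lpr_dt (K7.f37816 IH) (Lpr_gf (K8.f71120 IH) (Lpe (K2.f70926 IH) (Lpr_et (f500429 IH) (Lpr_gf (f669644 IH) (Lpr_ef (f843339 IH) (Lpn v28241))))))))))))
theorem f781637 : Led Lsl_ff (LP (LK LD1_c6 LD2_c45 LD3_c47)) = v19682 :=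
  Lgr Lrot3 (Lpr_ft (f781636 IH) (Lpn v19682))
def v19683 : LQ := Led Lsl_ft (LP (LK LD1_c6 LD2_c45 LD3_c46))
theorem f781638 : Led Lsl_ft (LP (LK LD1_c6 LD2_c45 LD3_c46)) = v19683 :=
  Lrfl
theorem f781640 : Led Lsl_ff (LP (LK LD1_c6 LD2_c45 LD3_c46)) = v19683 :=
  Lgr Lrot3 (Lpr_ft (f781638 IH) (Lpn v19683))
theorem f781641 : Led Lsl_at (LP (LK LD1_c6 LD2_c45 LD3_c47)) = v19683 :=
  Lgr Lrot66 (Lpr_ff (f781637 IH) (Lpe (f781633 IH) (Lpr_ff (f781640 IH) (Lpn v19683))))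
theorem f853249 : v19683 = (LP (LK LD1_c9 LD2_c31 LD3_c16)) :=
  (Llr Lrot26 (Lpe (f781641 IH) (Lpr_ff (f781637 IH) (Lpq (f853233 IH) (Lpr_gt (f416522 IH) (Lpr_gt (f77040 IH) (Lpn (LP (LK LD1_c9 LD2_c31 LD3_c16))))))))).symm
theorem f781639 : Led Lsl_af (LP (LK LD1_c6 LD2_c45 LD3_c47)) = v19683 :=
  Lgr Lrot45 (Lpr_ft (f781636 IH) (Lpe (f781634 IH) (Lpr_ft (f781638 IH) (Lpn v19683))))
theorem f715140 : Led Lsl_dt (LP (LK LD1_c6 LD2_c45 LD3_c47)) = v9683 :=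
  Lgr Lrot42 (Lpr_df (f714914 IH) (Lpn v9683))
def v16939 : LQ := Led Lsl_gt (LP (LK LD1_c6 LD2_c8 LD3_c56))
theorem f753663 : Led Lsl_gt (LP (LK LD1_c6 LD2_c8 LD3_c56)) = v16939 :=
  Lrfl
theorem f853232 : Led Lsl_af v16939 = v9683 :=
  Lgr Lrot31 (Lpe (f753663 IH) (Lpr_gf (f753664 IH) (Lpr_ft (f853231 IH) (Lpn v9683))))
theorem f853269 : v28241 = v16939 :=
  (Llr Lrot18 (Lpe (f843340 IH) (Lpq (f853249 IH) (Lpe (f781639 IH) (Lpr_dt (f715140 IH) (Lpe (f853232 IH) (Lpn v16939))))))).symm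
theorem f510339 : Led Lsl_dt (LP (LK LD1_c12 LD2_c55 LD3_c26)) = (LP (LK LD1_c6 LD2_c45 LD3_c46)) :=
  Lre_d IH (LK LD1_c12 LD2_c55 LD3_c26) (LK LD1_c6 LD2_c45 LD3_c46) Lrfl Lrfl
theorem f843341 : Led Lsl_dt (LP (LK LD1_c9 LD2_c31 LD3_c16)) = v28241 :=
  Lgr Lrot42 (Lpr_df (f843340 IH) (Lpn v28241))
theorem f853256 : Led Lsl_ff (LP (LK LD1_c12 LD2_c55 LD3_c26)) = v28241 :=
  Lgr Lrot19 (Lpr_dt (f510339 IH) (Lpr_ft (f781638 IH) (Lpqs (f853249 IH) (Lpr_dt (f843341 IH) (Lpn v28241)))))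
theorem f853270 : Led Lsl_at (LP (LK LD1_c12 LD2_c55 LD3_c26)) = v16940 :=
  Lgr Lrot66 (Lpr_ff (f853256 IH) (Lpqs (f853269 IH) (Lpr_af (f853232 IH) (Lpe (f853231 IH) (Lpn v16940)))))
theorem f853271 : Led Lsl_af (LP (LK LD1_c12 LD2_c55 LD3_c26)) = v16940 :=
  Lgr Lrot0 (Lpr_at (f853270 IH) (Lpn v16940))
theorem f853257 : Led Lsl_ft (LP (LK LD1_c12 LD2_c55 LD3_c26)) = v28241 :=
  Lgr Lrot48 (Lpr_ff (f853256 IH) (Lpn v28241))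
theorem f677141 : Led Lsl_ff v3006 = v9674 :=
  Lgr Lrot3 (Lpr_ft (f677140 IH) (Lpn v9674))
theorem f853229 : Led Lsl_ff v16940 = v9683 :=
  Lgr Lrot72 (Lpe (f753666 IH) (Lpr_ft (f853228 IH) (Lpe (f853224 IH) (Lpe (f677141 IH) (Lpr_et (f677163 IH) (Lpn v9683))))))
theorem f853272 : Led Lsl_at v28241 = v9683 :=
  Lgr Lrot66 (Lpe (f853257 IH) (Lpr_af (f853271 IH) (Lpr_ff (f853229 IH) (Lpn v9683))))
def v28233 : LQ := Led Lsl_at v8015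
theorem f843311 : Led Lsl_at v8015 = v28233 :=
  Lrfl
theorem f843312 : Led Lsl_af v8015 = v28233 :=
  Lgr Lrot0 (Lpr_at (f843311 IH) (Lpn v28233))
theorem f843313 : Led Lsl_ft v8016 = v28233 :=
  Lgr Lrot2 (Lpe (f669644 IH) (Lpr_gt (f669643 IH) (Lpr_af (f843312 IH) (Lpn v28233))))
theorem f843330 : Led Lsl_af v8016 = v28238 :=
  Lgr Lrot45 (Lpr_ft (f843313 IH) (Lpe (f843312 IH) (Lpr_ft (f843329 IH) (Lpn v28238))))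
theorem f853273 : v28238 = v3006 :=
  (Llr Lrot50 (Lpe (f843330 IH) (Lpr_et (f843338 IH) (Lpr_at (f853272 IH) (Lpe (f677164 IH) (Lpn v3006)))))).symm
theorem f853275 : v8015 = v9674 :=
  Lefun (Lecon (Lfl_ff (f843331 IH)) (f853273 IH)) (f677140 IH)
theorem f853282 : v30231 = v28237 :=
  Lefun (Lecon (f853222 IH) (f853275 IH).symm) (f843322 IH)
theorem f853283 : v19593 = (LP (LK LD1_c9 LD2_c13 LD3_c29)) :=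
  Lefun (Lecon (Lfl_df (f853226 IH)) (f853282 IH)) (Lfl_df (f843324 IH))
theorem f853284 : Led Lsl_at (LP (LK LD1_c9 LD2_c13 LD3_c29)) = (LP (LK LD1_c6 LD2_c44 LD3_c17)) :=
  Leop (Lpr_af (f780881 IH) (Lpqs (f853283 IH) (Lpn (LP (LK LD1_c9 LD2_c13 LD3_c29)))))
theorem seed_1985 : LEOK LG_a (LK LD1_c9 LD2_c13 LD3_c29) :=
  Leoe_a (LK LD1_c9 LD2_c13 LD3_c29) (f853284 IH)
theorem f204240 : Led Lsl_bt (LP (LK LD1_c9 LD2_c13 LD3_c29)) = (LP (LK LD1_c4 LD2_c38 LD3_c50)) :=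
  Lre_b IH (LK LD1_c9 LD2_c13 LD3_c29) (LK LD1_c4 LD2_c38 LD3_c50) Lrfl Lrfl
def v13065 : LQ := Led Lsl_at (LP (LK LD1_c4 LD2_c38 LD3_c49))
theorem f700882 : Led Lsl_at (LP (LK LD1_c4 LD2_c38 LD3_c49)) = v13065 :=
  Lrfl
theorem f700883 : Led Lsl_af (LP (LK LD1_c4 LD2_c38 LD3_c49)) = v13065 :=
  Lgr Lrot0 (Lpr_at (f700882 IH) (Lpn v13065))
theorem f700885 : Led Lsl_ft (LP (LK LD1_c4 LD2_c38 LD3_c50)) = v13065 :=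
  Lgr Lrot2 (Lpr_gt (K56.f61130 IH) (Lpr_gt (K50.f61087 IH) (Lpr_af (f700883 IH) (Lpn v13065))))
theorem f853288 : K60.v19591 = v13065 :=
  (Llr Lrot61 (Lpe (K60.f780870 IH) (Lpr_ft (f780880 IH) (Lpqs (f853283 IH) (Lpr_bt (f204240 IH) (Lpr_ft (f700885 IH) (Lpn v13065))))))).symm
theorem f700886 : Led Lsl_ff (LP (LK LD1_c4 LD2_c38 LD3_c50)) = v13065 :=
  Lgr Lrot3 (Lpr_ft (f700885 IH) (Lpn v13065))
def v13066 : LQ := Led Lsl_ft (LP (LK LD1_c4 LD2_c38 LD3_c49))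
theorem f700887 : Led Lsl_ft (LP (LK LD1_c4 LD2_c38 LD3_c49)) = v13066 :=
  Lrfl
theorem f700889 : Led Lsl_ff (LP (LK LD1_c4 LD2_c38 LD3_c49)) = v13066 :=
  Lgr Lrot3 (Lpr_ft (f700887 IH) (Lpn v13066))
theorem f700890 : Led Lsl_at (LP (LK LD1_c4 LD2_c38 LD3_c50)) = v13066 :=
  Lgr Lrot66 (Lpr_ff (f700886 IH) (Lpe (f700882 IH) (Lpr_ff (f700889 IH) (Lpn v13066))))
theorem f61110 : Led Lsl_gt (LP (LK LD1_c9 LD2_c13 LD3_c17)) = (LP (LK LD1_c4 LD2_c38 LD3_c52)) :=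
  Lre_g IH (LK LD1_c9 LD2_c13 LD3_c17) (LK LD1_c4 LD2_c38 LD3_c52) Lrfl Lrfl
theorem f61109 : Led Lsl_gt (LP (LK LD1_c4 LD2_c38 LD3_c52)) = (LP (LK LD1_c9 LD2_c13 LD3_c18)) :=
  Lre_g IH (LK LD1_c4 LD2_c38 LD3_c52) (LK LD1_c9 LD2_c13 LD3_c18) Lrfl Lrfl
theorem f853302 : v13066 = (LP (LK LD1_c9 LD2_c13 LD3_c18)) :=
  (Llr Lrot26 (Lpe (f700890 IH) (Lpr_ff (f700886 IH) (Lpq (f853288 IH) (Lpqs (K60.f780874 IH) (Lpr_gt (f61110 IH) (Lpr_gt (f61109 IH) (Lpn (LP (LK LD1_c9 LD2_c13 LD3_c18)))))))))).symm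
theorem f204237 : Led Lsl_bt (LP (LK LD1_c9 LD2_c13 LD3_c25)) = (LP (LK LD1_c4 LD2_c38 LD3_c49)) :=
  Lre_b IH (LK LD1_c9 LD2_c13 LD3_c25) (LK LD1_c4 LD2_c38 LD3_c49) Lrfl Lrfl
theorem f92067 : Led Lsl_gt (LP (LK LD1_c9 LD2_c5 LD3_c57)) = (LP (LK LD1_c4 LD2_c34 LD3_c32)) :=
  Lre_g IH (LK LD1_c9 LD2_c5 LD3_c57) (LK LD1_c4 LD2_c34 LD3_c32) Lrfl Lrfl
theorem f559330 : Led Lsl_bf (LP (LK LD1_c11 LD2_c44 LD3_c33)) = (LP (LK LD1_c6 LD2_c0 LD3_c26)) :=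
  Lgr Lrot96 (Lpr_et (K65.f501949 IH) (Lpe (K37.f501908 IH) (Lpr_et (K42.f559326 IH) (Lpn (LP (LK LD1_c6 LD2_c0 LD3_c26))))))
theorem f501965 : Led Lsl_gt (LP (LK LD1_c11 LD2_c44 LD3_c33)) = (LP (LK LD1_c6 LD2_c0 LD3_c6)) :=
  Lre_g IH (LK LD1_c11 LD2_c44 LD3_c33) (LK LD1_c6 LD2_c0 LD3_c6) Lrfl Lrfl
theorem f643121 : Led Lsl_cf (LP (LK LD1_c9 LD2_c5 LD3_c57)) = (LP (LK LD1_c6 LD2_c0 LD3_c6)) :=
  Lgr Lrot125 (Lpr_gt (f92067 IH) (Lpe (K6.f79865 IH) (Lpr_bt (K50.f79864 IH) (Lpe (K32.f438469 IH) (Lpe (K42.f438482 IH) (Lpr_ct (K42.f438483 IH) (Lpr_gt (K42.f643116 IH) (Lpe (K42.f500826 IH) (Lpe (f559330 IH) (Lpr_gt (f501965 IH) (Lpn (LP (LK LD1_c6 LD2_c0 LD3_c6)))))))))))))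
theorem f643128 : Led Lsl_bf (LP (LK LD1_c9 LD2_c13 LD3_c18)) = (LP (LK LD1_c6 LD2_c0 LD3_c6)) :=
  Lgr Lrot34 (Lpe (f61109 IH) (Lpe (K32.f61108 IH) (Lpr_ct (K11.f61076 IH) (Lpe (K24.f435550 IH) (Lpe (K42.f435554 IH) (Lpr_gf (K32.f438469 IH) (Lpe (K50.f79864 IH) (Lpr_ct (K6.f79865 IH) (Lpe (f92067 IH) (Lpr_cf (f643121 IH) (Lpn (LP (LK LD1_c6 LD2_c0 LD3_c6)))))))))))))
theorem f643130 : Led Lsl_bt (LP (LK LD1_c9 LD2_c13 LD3_c18)) = (LP (LK LD1_c6 LD2_c0 LD3_c6)) :=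
  Lgr Lrot127 (Lpr_bf (f643128 IH) (Lpn (LP (LK LD1_c6 LD2_c0 LD3_c6))))
def v16419 : LQ := Led Lsl_at (LP (LK LD1_c6 LD2_c0 LD3_c5))
theorem f749269 : Led Lsl_at (LP (LK LD1_c6 LD2_c0 LD3_c5)) = v16419 :=
  Lrfl
theorem f749270 : Led Lsl_af (LP (LK LD1_c6 LD2_c0 LD3_c5)) = v16419 :=
  Lgr Lrot0 (Lpr_at (f749269 IH) (Lpn v16419))
theorem f76154 : Led Lsl_gt (LP (LK LD1_c6 LD2_c0 LD3_c6)) = (LP (LK LD1_c2 LD2_c56 LD3_c22)) :=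
  Lre_g IH (LK LD1_c6 LD2_c0 LD3_c6) (LK LD1_c2 LD2_c56 LD3_c22) Lrfl Lrfl
theorem f749271 : Led Lsl_ft (LP (LK LD1_c6 LD2_c0 LD3_c6)) = v16419 :=
  Lgr Lrot2 (Lpr_gt (f76154 IH) (Lpr_gt (K45.f76156 IH) (Lpr_af (f749270 IH) (Lpn v16419))))
theorem f853307 : (LP (LK LD1_c9 LD2_c13 LD3_c25)) = v16419 :=
  (Llr Lrot61 (Lpr_bt (f204237 IH) (Lpr_ft (f700887 IH) (Lpqs (f853302 IH) (Lpr_bt (f643130 IH) (Lpr_ft (f749271 IH) (Lpn v16419))))))).symm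
theorem f749272 : Led Lsl_ff (LP (LK LD1_c6 LD2_c0 LD3_c6)) = v16419 :=
  Lgr Lrot3 (Lpr_ft (f749271 IH) (Lpn v16419))
def v16420 : LQ := Led Lsl_ft (LP (LK LD1_c6 LD2_c0 LD3_c5))
theorem f749273 : Led Lsl_ft (LP (LK LD1_c6 LD2_c0 LD3_c5)) = v16420 :=
  Lrfl
theorem f749275 : Led Lsl_ff (LP (LK LD1_c6 LD2_c0 LD3_c5)) = v16420 :=
  Lgr Lrot3 (Lpr_ft (f749273 IH) (Lpn v16420))
theorem f749276 : Led Lsl_at (LP (LK LD1_c6 LD2_c0 LD3_c6)) = v16420 :=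
  Lgr Lrot66 (Lpr_ff (f749272 IH) (Lpe (f749269 IH) (Lpr_ff (f749275 IH) (Lpn v16420))))
theorem f853317 : v16420 = (LP (LK LD1_c11 LD2_c44 LD3_c32)) :=
  (Llr Lrot26 (Lpe (f749276 IH) (Lpr_ff (f749272 IH) (Lpq (f853307 IH) (Lpr_gt (K50.f644126 IH) (Lpr_gt (K60.f501954 IH) (Lpn (LP (LK LD1_c11 LD2_c44 LD3_c32))))))))).symm
theorem f644340 : Led Lsl_bf (LP (LK LD1_c6 LD2_c0 LD3_c5)) = (LP (LK LD1_c9 LD2_c13 LD3_c32)) :=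
  Lgr Lrot24 (Lpr_bt (K60.f643279 IH) (Lpn (LP (LK LD1_c9 LD2_c13 LD3_c32))))
theorem f853322 : (LP (LK LD1_c9 LD2_c13 LD3_c32)) = v19590 :=
  (Llr Lrot61 (Lpe (f644340 IH) (Lpr_ft (f749273 IH) (Lpqs (f853317 IH) (Lpq (K60.f780889 IH) (Lpe (K60.f780885 IH) (Lpr_ft (f780867 IH) (Lpn v19590)))))))).symm
def v25120 : LQ := Led Lsl_gt K55.v5256
theorem f827130 : Led Lsl_gt K55.v5256 = v25120 :=
  Lrfl
theorem f83786 : Led Lsl_dt (LP (LK LD1_c6 LD2_c15 LD3_c49)) = (LP (LK LD1_c3 LD2_c4 LD3_c60)) :=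
  Lre_d IH (LK LD1_c6 LD2_c15 LD3_c49) (LK LD1_c3 LD2_c4 LD3_c60) Lrfl Lrfl
theorem f551641 : Led Lsl_et (LP (LK LD1_c12 LD2_c9 LD3_c24)) = (LP (LK LD1_c6 LD2_c15 LD3_c52)) :=
  Lre_e IH (LK LD1_c12 LD2_c9 LD3_c24) (LK LD1_c6 LD2_c15 LD3_c52) Lrfl Lrfl
theorem f572315 : Led Lsl_ft (LP (LK LD1_c2 LD2_c46 LD3_c60)) = (LP (LK LD1_c5 LD2_c42 LD3_c1)) :=
  Lre_f IH (LK LD1_c2 LD2_c46 LD3_c60) (LK LD1_c5 LD2_c42 LD3_c1) Lrfl Lrfl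
theorem f572316 : Led Lsl_at (LP (LK LD1_c5 LD2_c42 LD3_c1)) = (LP (LK LD1_c6 LD2_c15 LD3_c52)) :=
  Lgr Lrot26 (Lpe (f572315 IH) (Lpr_gt (K42.f572313 IH) (Lpr_gt (K39.f503110 IH) (Lpn (LP (LK LD1_c6 LD2_c15 LD3_c52))))))
theorem f269092 : Led Lsl_et (LP (LK LD1_c11 LD2_c14 LD3_c22)) = (LP (LK LD1_c5 LD2_c42 LD3_c1)) :=
  Lre_e IH (LK LD1_c11 LD2_c14 LD3_c22) (LK LD1_c5 LD2_c42 LD3_c1) Lrfl Lrfl
theorem f551633 : Led Lsl_et (LP (LK LD1_c6 LD2_c15 LD3_c52)) = (LP (LK LD1_c12 LD2_c9 LD3_c24)) :=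
  Lre_e IH (LK LD1_c6 LD2_c15 LD3_c52) (LK LD1_c12 LD2_c9 LD3_c24) Lrfl Lrfl
theorem f613001 : Led Lsl_af (LP (LK LD1_c11 LD2_c14 LD3_c22)) = (LP (LK LD1_c12 LD2_c9 LD3_c24)) :=
  Lgr Lrot50 (Lpr_et (f269092 IH) (Lpr_at (f572316 IH) (Lpr_et (f551633 IH) (Lpn (LP (LK LD1_c12 LD2_c9 LD3_c24))))))
theorem f68783 : Led Lsl_bt (LP (LK LD1_c11 LD2_c14 LD3_c22)) = (LP (LK LD1_c5 LD2_c42 LD3_c26)) :=
  Lre_b IH (LK LD1_c11 LD2_c14 LD3_c22) (LK LD1_c5 LD2_c42 LD3_c26) Lrfl Lrfl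
theorem f68738 : Led Lsl_at (LP (LK LD1_c5 LD2_c42 LD3_c26)) = (LP (LK LD1_c5 LD2_c46 LD3_c57)) :=
  Lgr Lrot100 (Lpr_af (K16.f68735 IH) (Lpn (LP (LK LD1_c5 LD2_c46 LD3_c57))))
theorem f580412 : Led Lsl_df (LP (LK LD1_c9 LD2_c3 LD3_c25)) = (LP (LK LD1_c12 LD2_c32 LD3_c61)) :=
  Lgr Lrot162 (Lpe (K42.f538142 IH) (Lpr_gf (K41.f538130 IH) (Lpe (K40.f538128 IH) (Lpr_gf (K44.f580406 IH) (Lpr_dt (K44.f136409 IH) (Lpr_gt (K40.f136413 IH) (Lpr_ct (K40.f424995 IH) (Lpr_gt (K8.f127655 IH) (Lpe (K5.f127641 IH) (Lpn (LP (LK LD1_c12 LD2_c32 LD3_c61))))))))))))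
theorem f538144 : Led Lsl_bt (LP (LK LD1_c9 LD2_c3 LD3_c25)) = (LP (LK LD1_c16 LD2_c54 LD3_c19)) :=
  Lre_b IH (LK LD1_c9 LD2_c3 LD3_c25) (LK LD1_c16 LD2_c54 LD3_c19) Lrfl Lrfl
theorem f580417 : Led Lsl_dt (LP (LK LD1_c16 LD2_c54 LD3_c19)) = (LP (LK LD1_c12 LD2_c35 LD3_c20)) :=
  Lgr Lrot79 (Lpe (f538144 IH) (Lpr_df (f580412 IH) (Lpr_bf (K6.f141518 IH) (Lpn (LP (LK LD1_c12 LD2_c35 LD3_c20))))))
theorem f580423 : Led Lsl_ff (LP (LK LD1_c16 LD2_c54 LD3_c19)) = (LP (LK LD1_c11 LD2_c16 LD3_c21)) :=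
  Lgr Lrot19 (Lpr_dt (f580417 IH) (Lpe (K6.f141524 IH) (Lpr_dt (K41.f567625 IH) (Lpn (LP (LK LD1_c11 LD2_c16 LD3_c21))))))
theorem f580426 : Led Lsl_ft (LP (LK LD1_c16 LD2_c54 LD3_c19)) = (LP (LK LD1_c11 LD2_c16 LD3_c21)) :=
  Lgr Lrot48 (Lpr_ff (f580423 IH) (Lpn (LP (LK LD1_c11 LD2_c16 LD3_c21))))
theorem f580428 : Led Lsl_ff (LP (LK LD1_c9 LD2_c3 LD3_c25)) = (LP (LK LD1_c5 LD2_c43 LD3_c1)) :=
  Lgr Lrot25 (Lpr_bt (f538144 IH) (Lpr_ft (f580426 IH) (Lpr_bt (K36.f540116 IH) (Lpn (LP (LK LD1_c5 LD2_c43 LD3_c1))))))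
theorem f580419 : Led Lsl_et (LP (LK LD1_c9 LD2_c3 LD3_c25)) = (LP (LK LD1_c16 LD2_c54 LD3_c15)) :=
  Lre_e IH (LK LD1_c9 LD2_c3 LD3_c25) (LK LD1_c16 LD2_c54 LD3_c15) Lrfl Lrfl
theorem f580430 : Led Lsl_ft (LP (LK LD1_c16 LD2_c54 LD3_c15)) = (LP (LK LD1_c26 LD2_c50 LD3_c31)) :=
  Lre_f IH (LK LD1_c16 LD2_c54 LD3_c15) (LK LD1_c26 LD2_c50 LD3_c31) Lrfl Lrfl
theorem f540119 : Led Lsl_et (LP (LK LD1_c11 LD2_c16 LD3_c16)) = (LP (LK LD1_c5 LD2_c43 LD3_c1)) :=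
  Lre_e IH (LK LD1_c11 LD2_c16 LD3_c16) (LK LD1_c5 LD2_c43 LD3_c1) Lrfl Lrfl
theorem f580431 : Led Lsl_ft (LP (LK LD1_c20 LD2_c12 LD3_c19)) = (LP (LK LD1_c11 LD2_c16 LD3_c16)) :=
  Lre_f IH (LK LD1_c20 LD2_c12 LD3_c19) (LK LD1_c11 LD2_c16 LD3_c16) Lrfl Lrfl
theorem f580432 : Led Lsl_et (LP (LK LD1_c26 LD2_c50 LD3_c31)) = (LP (LK LD1_c20 LD2_c12 LD3_c19)) :=
  Lgr Lrot69 (Lpe (f580430 IH) (Lpe (f580419 IH) (Lpr_ff (f580428 IH) (Lpe (f540119 IH) (Lpe (f580431 IH) (Lpn (LP (LK LD1_c20 LD2_c12 LD3_c19))))))))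
theorem f580434 : Led Lsl_ct (LP (LK LD1_c16 LD2_c54 LD3_c16)) = (LP (LK LD1_c26 LD2_c50 LD3_c31)) :=
  Lre_c IH (LK LD1_c16 LD2_c54 LD3_c16) (LK LD1_c26 LD2_c50 LD3_c31) Lrfl Lrfl
theorem f412088 : Led Lsl_ct (LP (LK LD1_c20 LD2_c12 LD3_c19)) = (LP (LK LD1_c11 LD2_c16 LD3_c17)) :=
  Lre_c IH (LK LD1_c20 LD2_c12 LD3_c19) (LK LD1_c11 LD2_c16 LD3_c17) Lrfl Lrfl
theorem f580435 : Led Lsl_ef (LP (LK LD1_c16 LD2_c54 LD3_c16)) = (LP (LK LD1_c11 LD2_c16 LD3_c17)) :=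
  Lgr Lrot28 (Lpr_ct (f580434 IH) (Lpr_et (f580432 IH) (Lpr_ct (f412088 IH) (Lpn (LP (LK LD1_c11 LD2_c16 LD3_c17))))))
theorem f580444 : Led Lsl_dt (LP (LK LD1_c16 LD2_c54 LD3_c16)) = (LP (LK LD1_c9 LD2_c3 LD3_c23)) :=
  Lre_d IH (LK LD1_c16 LD2_c54 LD3_c16) (LK LD1_c9 LD2_c3 LD3_c23) Lrfl Lrfl
theorem f280324 : Led Lsl_dt (LP (LK LD1_c5 LD2_c42 LD3_c60)) = (LP (LK LD1_c11 LD2_c16 LD3_c17)) :=
  Lre_d IH (LK LD1_c5 LD2_c42 LD3_c60) (LK LD1_c11 LD2_c16 LD3_c17) Lrfl Lrfl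
theorem f280325 : Led Lsl_dt (LP (LK LD1_c16 LD2_c52 LD3_c28)) = (LP (LK LD1_c9 LD2_c2 LD3_c12)) :=
  Lre_d IH (LK LD1_c16 LD2_c52 LD3_c28) (LK LD1_c9 LD2_c2 LD3_c12) Lrfl Lrfl
theorem f580445 : Led Lsl_et (LP (LK LD1_c9 LD2_c3 LD3_c23)) = (LP (LK LD1_c16 LD2_c52 LD3_c28)) :=
  Lgr Lrot71 (Lpe (f580444 IH) (Lpr_ef (f580435 IH) (Lpe (f280324 IH) (Lpr_ef (K16.f280299 IH) (Lpe (f280325 IH) (Lpn (LP (LK LD1_c16 LD2_c52 LD3_c28))))))))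
theorem f580452 : Led Lsl_ef (LP (LK LD1_c9 LD2_c3 LD3_c23)) = (LP (LK LD1_c16 LD2_c52 LD3_c28)) :=
  Lgr Lrot88 (Lpr_et (f580445 IH) (Lpn (LP (LK LD1_c16 LD2_c52 LD3_c28))))
theorem f281864 : Led Lsl_bt (LP (LK LD1_c9 LD2_c2 LD3_c21)) = (LP (LK LD1_c16 LD2_c52 LD3_c28)) :=
  Lre_b IH (LK LD1_c9 LD2_c2 LD3_c21) (LK LD1_c16 LD2_c52 LD3_c28) Lrfl Lrfl
theorem f580456 : Led Lsl_bt (LP (LK LD1_c9 LD2_c3 LD3_c23)) = (LP (LK LD1_c11 LD2_c24 LD3_c3)) :=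
  Lgr Lrot119 (Lpr_ef (f580452 IH) (Lpe (f281864 IH) (Lpr_ef (K32.f268682 IH) (Lpn (LP (LK LD1_c11 LD2_c24 LD3_c3))))))
theorem f580463 : Led Lsl_bf (LP (LK LD1_c4 LD2_c33 LD3_c3)) = (LP (LK LD1_c5 LD2_c46 LD3_c57)) :=
  Lgr Lrot61 (Lpr_ft (K51.f580454 IH) (Lpr_bt (f580456 IH) (Lpr_ft (K16.f68746 IH) (Lpn (LP (LK LD1_c5 LD2_c46 LD3_c57))))))
theorem f580465 : Led Lsl_at (LP (LK LD1_c4 LD2_c33 LD3_c3)) = (LP (LK LD1_c9 LD2_c3 LD3_c16)) :=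
  Lre_a IH (LK LD1_c4 LD2_c33 LD3_c3) (LK LD1_c9 LD2_c3 LD3_c16) Lrfl Lrfl
theorem f613005 : Led Lsl_bt (LP (LK LD1_c9 LD2_c3 LD3_c16)) = (LP (LK LD1_c12 LD2_c9 LD3_c24)) :=
  Lgr Lrot62 (Lpe (f580465 IH) (Lpr_bf (f580463 IH) (Lpe (f68738 IH) (Lpe (f68783 IH) (Lpr_af (f613001 IH) (Lpn (LP (LK LD1_c12 LD2_c9 LD3_c24))))))))
theorem f568902 : Led Lsl_et (LP (LK LD1_c5 LD2_c49 LD3_c42)) = (LP (LK LD1_c11 LD2_c28 LD3_c5)) :=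
  Lre_e IH (LK LD1_c5 LD2_c49 LD3_c42) (LK LD1_c11 LD2_c28 LD3_c5) Lrfl Lrfl
theorem f568903 : Led Lsl_df (LP (LK LD1_c9 LD2_c3 LD3_c16)) = (LP (LK LD1_c11 LD2_c28 LD3_c5)) :=
  Lgr Lrot70 (Lpr_et (K51.f557201 IH) (Lpr_dt (K39.f551628 IH) (Lpr_et (K44.f494152 IH) (Lpr_dt (K42.f568893 IH) (Lpr_et (f568902 IH) (Lpn (LP (LK LD1_c11 LD2_c28 LD3_c5))))))))
theorem f613010 : Led Lsl_bt (LP (LK LD1_c20 LD2_c25 LD3_c44)) = (LP (LK LD1_c11 LD2_c28 LD3_c5)) :=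
  Lre_b IH (LK LD1_c20 LD2_c25 LD3_c44) (LK LD1_c11 LD2_c28 LD3_c5) Lrfl Lrfl
theorem f613011 : Led Lsl_df (LP (LK LD1_c20 LD2_c25 LD3_c44)) = (LP (LK LD1_c12 LD2_c9 LD3_c24)) :=
  Lgr Lrot12 (Lpr_bt (f613010 IH) (Lpe (f568903 IH) (Lpr_bt (f613005 IH) (Lpn (LP (LK LD1_c12 LD2_c9 LD3_c24))))))
theorem f202613 : Led Lsl_ef (LP (LK LD1_c1 LD2_c28 LD3_c42)) = (LP (LK LD1_c2 LD2_c57 LD3_c4)) :=
  Lgr Lrot73 (Lpr_dt (K37.f202611 IH) (Lpr_et (K37.f112390 IH) (Lpr_dt (K11.f202572 IH) (Lpr_et (K56.f202612 IH) (Lpr_dt (K56.f139492 IH) (Lpn (LP (LK LD1_c2 LD2_c57 LD3_c4))))))))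
theorem f204735 : Led Lsl_dt (LP (LK LD1_c2 LD2_c57 LD3_c4)) = (LP (LK LD1_c1 LD2_c24 LD3_c17)) :=
  Lre_d IH (LK LD1_c2 LD2_c57 LD3_c4) (LK LD1_c1 LD2_c24 LD3_c17) Lrfl Lrfl
theorem f613021 : Led Lsl_et (LP (LK LD1_c11 LD2_c28 LD3_c3)) = (LP (LK LD1_c20 LD2_c25 LD3_c44)) :=
  Lre_e IH (LK LD1_c11 LD2_c28 LD3_c3) (LK LD1_c20 LD2_c25 LD3_c44) Lrfl Lrfl
theorem f614425 : Led Lsl_gf (LP (LK LD1_c11 LD2_c48 LD3_c27)) = (LP (LK LD1_c20 LD2_c25 LD3_c44)) :=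
  Lgr Lrot141 (Lpe (K56.f420475 IH) (Lpr_dt (K56.f420474 IH) (Lpr_gt (K56.f69122 IH) (Lpe (f204735 IH) (Lpe (f202613 IH) (Lpr_gt (K38.f202641 IH) (Lpe (K38.f546893 IH) (Lpe (K40.f557858 IH) (Lpr_df (K42.f568898 IH) (Lpr_et (f613021 IH) (Lpn (LP (LK LD1_c20 LD2_c25 LD3_c44)))))))))))))
theorem f420604 : Led Lsl_dt (LP (LK LD1_c20 LD2_c50 LD3_c56)) = (LP (LK LD1_c11 LD2_c48 LD3_c27)) :=
  Lre_d IH (LK LD1_c20 LD2_c50 LD3_c56) (LK LD1_c11 LD2_c48 LD3_c27) Lrfl Lrfl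
theorem f420603 : Led Lsl_et (LP (LK LD1_c20 LD2_c50 LD3_c56)) = (LP (LK LD1_c11 LD2_c48 LD3_c28)) :=
  Lre_e IH (LK LD1_c20 LD2_c50 LD3_c56) (LK LD1_c11 LD2_c48 LD3_c28) Lrfl Lrfl
theorem f739185 : Led Lsl_gf (LP (LK LD1_c6 LD2_c12 LD3_c5)) = (LP (LK LD1_c11 LD2_c48 LD3_c28)) :=
  Lgr Lrot138 (Lpr_dt (K52.f443747 IH) (Lpr_gt (K63.f646803 IH) (Lpqs (K63.f739181 IH) (Lpe (f83786 IH) (Lpr_et (K6.f132993 IH) (Lpr_gt (K39.f503110 IH) (Lpe (f551641 IH) (Lpe (f613011 IH) (Lpe (f614425 IH) (Lpe (f420604 IH) (Lpr_et (f420603 IH) (Lpn (LP (LK LD1_c11 LD2_c48 LD3_c28))))))))))))))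
theorem f827131 : Led Lsl_df (LP (LK LD1_c9 LD2_c13 LD3_c32)) = v25120 :=
  Lgr Lrot135 (Lpe (K60.f618605 IH) (Lpr_df (f557956 IH) (Lpr_et (f210100 IH) (Lpr_gt (K56.f210092 IH) (Lpe (K57.f210104 IH) (Lpr_dt (K57.f210105 IH) (Lpe (f739185 IH) (Lpe (K52.f443752 IH) (Lpr_et (K55.f646811 IH) (Lpr_gt (f827130 IH) (Lpn v25120)))))))))))
theorem f827133 : Led Lsl_dt (LP (LK LD1_c9 LD2_c13 LD3_c32)) = v25120 :=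
  Lgr Lrot42 (Lpr_df (f827131 IH) (Lpn v25120))
theorem f853327 : Led Lsl_ff K55.v9678 = v25120 :=
  Lgr Lrot19 (Lpe (K55.f677150 IH) (Lpr_ft (f780867 IH) (Lpq (f853322 IH) (Lpr_dt (f827133 IH) (Lpn v25120)))))
theorem f853330 : Led Lsl_ft K55.v9678 = v25120 :=
  Lgr Lrot48 (Lpr_ff (f853327 IH) (Lpn v25120))
def v9679 : LQ := Led Lsl_ft K55.v3005
theorem f677153 : Led Lsl_ft K55.v3005 = v9679 :=
  Lrfl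
theorem f677155 : Led Lsl_ff K55.v3005 = v9679 :=
  Lgr Lrot3 (Lpr_ft (f677153 IH) (Lpn v9679))
theorem f677156 : Led Lsl_at v3006 = v9679 :=
  Lgr Lrot66 (Lpr_ff (f677141 IH) (Lpe (f677138 IH) (Lpr_ff (f677155 IH) (Lpn v9679))))
theorem f853274 : v8016 = v9679 :=
  Lefun (Lecon (Lfl_af (f843330 IH)) (f853273 IH)) (f677156 IH)
theorem f853332 : Led Lsl_ef (LP (LK LD1_c12 LD2_c55 LD3_c26)) = v25120 :=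
  Lgr Lrot21 (Lpr_ft (f853257 IH) (Lpe (f843339 IH) (Lpqs (f853274 IH) (Lpe (f677155 IH) (Lpr_et (K55.f677148 IH) (Lpr_ft (f853330 IH) (Lpn v25120)))))))
theorem f781635 : Led Lsl_et (LP (LK LD1_c6 LD2_c45 LD3_c46)) = (LP (LK LD1_c12 LD2_c55 LD3_c27)) :=
  Lre_e IH (LK LD1_c6 LD2_c45 LD3_c46) (LK LD1_c12 LD2_c55 LD3_c27) Lrfl Lrfl
theorem f104838 : Led Lsl_et (LP (LK LD1_c17 LD2_c7 LD3_c55)) = (LP (LK LD1_c9 LD2_c13 LD3_c32)) :=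
  Lre_e IH (LK LD1_c17 LD2_c7 LD3_c55) (LK LD1_c9 LD2_c13 LD3_c32) Lrfl Lrfl
theorem f853333 : Led Lsl_dt (LP (LK LD1_c12 LD2_c55 LD3_c27)) = (LP (LK LD1_c17 LD2_c7 LD3_c55)) :=
  Lgr Lrot77 (Lpe (f781635 IH) (Lpe (f510339 IH) (Lpr_ef (f853332 IH) (Lpe (f827133 IH) (Lpe (f104838 IH) (Lpn (LP (LK LD1_c17 LD2_c7 LD3_c55))))))))
theorem f853334 : Led Lsl_dt (LP (LK LD1_c12 LD2_c55 LD3_c27)) = (LP (LK LD1_c17 LD2_c7 LD3_c55)) :=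
  Leop (Lpe (f853333 IH) (Lpn (LP (LK LD1_c12 LD2_c55 LD3_c27))))
theorem seed_1986 : LEOK LG_d (LK LD1_c12 LD2_c55 LD3_c27) :=
  Leoe_d (LK LD1_c12 LD2_c55 LD3_c27) (f853334 IH)
theorem f104782 : Led Lsl_et (LP (LK LD1_c2 LD2_c16 LD3_c26)) = (LP (LK LD1_c1 LD2_c5 LD3_c6)) :=
  Lre_e IH (LK LD1_c2 LD2_c16 LD3_c26) (LK LD1_c1 LD2_c5 LD3_c6) Lrfl Lrfl
theorem f149331 : Led Lsl_et (LP (LK LD1_c4 LD2_c35 LD3_c57)) = (LP (LK LD1_c2 LD2_c15 LD3_c9)) :=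
  Lre_e IH (LK LD1_c4 LD2_c35 LD3_c57) (LK LD1_c2 LD2_c15 LD3_c9) Lrfl Lrfl
theorem f138468 : Led Lsl_et (LP (LK LD1_c11 LD2_c34 LD3_c50)) = (LP (LK LD1_c5 LD2_c54 LD3_c29)) :=
  Lre_e IH (LK LD1_c11 LD2_c34 LD3_c50) (LK LD1_c5 LD2_c54 LD3_c29) Lrfl Lrfl
theorem f23096 : Led Lsl_et (LP (LK LD1_c3 LD2_c0 LD3_c46)) = (LP (LK LD1_c6 LD2_c8 LD3_c56)) :=
  Lre_e IH (LK LD1_c3 LD2_c0 LD3_c46) (LK LD1_c6 LD2_c8 LD3_c56) Lrfl Lrfl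
theorem f712211 : Led Lsl_af (LP (LK LD1_c11 LD2_c34 LD3_c50)) = (LP (LK LD1_c6 LD2_c8 LD3_c56)) :=
  Lgr Lrot50 (Lpr_et (f138468 IH) (Lpq (K52.f712198 IH) (Lpe (K52.f646367 IH) (Lpr_et (f23096 IH) (Lpn (LP (LK LD1_c6 LD2_c8 LD3_c56)))))))
theorem f22944 : Led Lsl_bt (LP (LK LD1_c6 LD2_c8 LD3_c56)) = (LP (LK LD1_c3 LD2_c0 LD3_c48)) :=
  Lre_b IH (LK LD1_c6 LD2_c8 LD3_c56) (LK LD1_c3 LD2_c0 LD3_c48) Lrfl Lrfl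
theorem f22945 : Led Lsl_bt (LP (LK LD1_c1 LD2_c36 LD3_c49)) = (LP (LK LD1_c3 LD2_c21 LD3_c4)) :=
  Lre_b IH (LK LD1_c1 LD2_c36 LD3_c49) (LK LD1_c3 LD2_c21 LD3_c4) Lrfl Lrfl
theorem f22946 : Led Lsl_df (LP (LK LD1_c6 LD2_c8 LD3_c56)) = (LP (LK LD1_c3 LD2_c21 LD3_c4)) :=
  Lgr Lrot12 (Lpr_bt (f22944 IH) (Lpr_dt (K0.f22942 IH) (Lpr_bt (f22945 IH) (Lpn (LP (LK LD1_c3 LD2_c21 LD3_c4))))))
theorem f23103 : Led Lsl_at (LP (LK LD1_c6 LD2_c46 LD3_c0)) = (LP (LK LD1_c3 LD2_c21 LD3_c4)) :=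
  Lre_a IH (LK LD1_c6 LD2_c46 LD3_c0) (LK LD1_c3 LD2_c21 LD3_c4) Lrfl Lrfl
theorem f712215 : Led Lsl_dt (LP (LK LD1_c11 LD2_c34 LD3_c50)) = (LP (LK LD1_c6 LD2_c46 LD3_c0)) :=
  Lgr Lrot44 (Lpr_af (f712211 IH) (Lpr_df (f22946 IH) (Lpe (f23103 IH) (Lpn (LP (LK LD1_c6 LD2_c46 LD3_c0))))))
def v13882 : LQ := Led Lsl_gf (LP (LK LD1_c4 LD2_c49 LD3_c29))
theorem f705681 : Led Lsl_gf (LP (LK LD1_c4 LD2_c49 LD3_c29)) = v13882 :=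
  Lrfl
theorem f634210 : Led Lsl_at (LP (LK LD1_c9 LD2_c31 LD3_c41)) = (LP (LK LD1_c4 LD2_c49 LD3_c29)) :=
  Lre_a IH (LK LD1_c9 LD2_c31 LD3_c41) (LK LD1_c4 LD2_c49 LD3_c29) Lrfl Lrfl
theorem f59859 : Led Lsl_bt (LP (LK LD1_c6 LD2_c12 LD3_c4)) = (LP (LK LD1_c12 LD2_c3 LD3_c54)) :=
  Lre_b IH (LK LD1_c6 LD2_c12 LD3_c4) (LK LD1_c12 LD2_c3 LD3_c54) Lrfl Lrfl
theorem f141068 : Led Lsl_bt (LP (LK LD1_c17 LD2_c12 LD3_c32)) = (LP (LK LD1_c9 LD2_c17 LD3_c24)) :=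
  Lre_b IH (LK LD1_c17 LD2_c12 LD3_c32) (LK LD1_c9 LD2_c17 LD3_c24) Lrfl Lrfl
theorem f639684 : Led Lsl_ft (LP (LK LD1_c12 LD2_c3 LD3_c54)) = (LP (LK LD1_c17 LD2_c12 LD3_c32)) :=
  Lgr Lrot75 (Lpe (f59859 IH) (Lpr_ff (K50.f639682 IH) (Lpe (f141068 IH) (Lpn (LP (LK LD1_c17 LD2_c12 LD3_c32))))))
theorem f22964 : Led Lsl_bt (LP (LK LD1_c3 LD2_c21 LD3_c5)) = (LP (LK LD1_c6 LD2_c46 LD3_c3)) :=
  Lre_b IH (LK LD1_c3 LD2_c21 LD3_c5) (LK LD1_c6 LD2_c46 LD3_c3) Lrfl Lrfl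
theorem f414738 : Led Lsl_bt (LP (LK LD1_c12 LD2_c3 LD3_c54)) = (LP (LK LD1_c6 LD2_c12 LD3_c4)) :=
  Lre_b IH (LK LD1_c12 LD2_c3 LD3_c54) (LK LD1_c6 LD2_c12 LD3_c4) Lrfl Lrfl
theorem f414739 : Led Lsl_dt (LP (LK LD1_c6 LD2_c46 LD3_c3)) = (LP (LK LD1_c12 LD2_c3 LD3_c54)) :=
  Lgr Lrot79 (Lpe (f22964 IH) (Lpr_df (K24.f414736 IH) (Lpe (f414738 IH) (Lpn (LP (LK LD1_c12 LD2_c3 LD3_c54))))))
theorem f141060 : Led Lsl_bt (LP (LK LD1_c9 LD2_c17 LD3_c24)) = (LP (LK LD1_c17 LD2_c12 LD3_c32)) :=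
  Lre_b IH (LK LD1_c9 LD2_c17 LD3_c24) (LK LD1_c17 LD2_c12 LD3_c32) Lrfl Lrfl
theorem f73947 : Led Lsl_bt (LP (LK LD1_c9 LD2_c31 LD3_c43)) = (LP (LK LD1_c4 LD2_c49 LD3_c30)) :=
  Lre_b IH (LK LD1_c9 LD2_c31 LD3_c43) (LK LD1_c4 LD2_c49 LD3_c30) Lrfl Lrfl
theorem f141061 : Led Lsl_dt (LP (LK LD1_c17 LD2_c12 LD3_c32)) = (LP (LK LD1_c9 LD2_c31 LD3_c43)) :=
  Lgr Lrot79 (Lpe (f141060 IH) (Lpr_df (K24.f141056 IH) (Lpe (f73947 IH) (Lpn (LP (LK LD1_c9 LD2_c31 LD3_c43))))))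
theorem f639834 : Led Lsl_ff (LP (LK LD1_c6 LD2_c46 LD3_c3)) = (LP (LK LD1_c9 LD2_c31 LD3_c43)) :=
  Lgr Lrot19 (Lpr_dt (f414739 IH) (Lpr_ft (f639684 IH) (Lpr_dt (f141061 IH) (Lpn (LP (LK LD1_c9 LD2_c31 LD3_c43))))))
theorem f414520 : Led Lsl_ct (LP (LK LD1_c6 LD2_c46 LD3_c3)) = (LP (LK LD1_c12 LD2_c55 LD3_c49)) :=
  Lre_c IH (LK LD1_c6 LD2_c46 LD3_c3) (LK LD1_c12 LD2_c55 LD3_c49) Lrfl Lrfl
theorem f141072 : Led Lsl_ct (LP (LK LD1_c17 LD2_c33 LD3_c40)) = (LP (LK LD1_c9 LD2_c31 LD3_c43)) :=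
  Lre_c IH (LK LD1_c17 LD2_c33 LD3_c40) (LK LD1_c9 LD2_c31 LD3_c43) Lrfl Lrfl
theorem f639838 : Led Lsl_ft (LP (LK LD1_c12 LD2_c55 LD3_c49)) = (LP (LK LD1_c17 LD2_c33 LD3_c40)) :=
  Lgr Lrot4 (Lpe (f414520 IH) (Lpr_ff (f639834 IH) (Lpe (f141072 IH) (Lpn (LP (LK LD1_c17 LD2_c33 LD3_c40))))))
theorem f23101 : Led Lsl_bt (LP (LK LD1_c6 LD2_c46 LD3_c1)) = (LP (LK LD1_c12 LD2_c55 LD3_c49)) :=
  Lre_b IH (LK LD1_c6 LD2_c46 LD3_c1) (LK LD1_c12 LD2_c55 LD3_c49) Lrfl Lrfl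
theorem f141077 : Led Lsl_bt (LP (LK LD1_c17 LD2_c33 LD3_c40)) = (LP (LK LD1_c9 LD2_c31 LD3_c42)) :=
  Lre_b IH (LK LD1_c17 LD2_c33 LD3_c40) (LK LD1_c9 LD2_c31 LD3_c42) Lrfl Lrfl
theorem f639841 : Led Lsl_ff (LP (LK LD1_c6 LD2_c46 LD3_c1)) = (LP (LK LD1_c9 LD2_c31 LD3_c42)) :=
  Lgr Lrot25 (Lpr_bt (f23101 IH) (Lpr_ft (f639838 IH) (Lpr_bt (f141077 IH) (Lpn (LP (LK LD1_c9 LD2_c31 LD3_c42))))))
theorem f23099 : Led Lsl_ct (LP (LK LD1_c6 LD2_c46 LD3_c1)) = (LP (LK LD1_c3 LD2_c21 LD3_c4)) :=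
  Lre_c IH (LK LD1_c6 LD2_c46 LD3_c1) (LK LD1_c3 LD2_c21 LD3_c4) Lrfl Lrfl
theorem f414267 : Led Lsl_ct (LP (LK LD1_c4 LD2_c49 LD3_c29)) = (LP (LK LD1_c9 LD2_c31 LD3_c42)) :=
  Lre_c IH (LK LD1_c4 LD2_c49 LD3_c29) (LK LD1_c9 LD2_c31 LD3_c42) Lrfl Lrfl
theorem f639864 : Led Lsl_ft (LP (LK LD1_c3 LD2_c21 LD3_c4)) = (LP (LK LD1_c4 LD2_c49 LD3_c29)) :=
  Lgr Lrot4 (Lpe (f23099 IH) (Lpr_ff (f639841 IH) (Lpe (f414267 IH) (Lpn (LP (LK LD1_c4 LD2_c49 LD3_c29))))))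
theorem f634211 : Led Lsl_at (LP (LK LD1_c4 LD2_c49 LD3_c29)) = (LP (LK LD1_c9 LD2_c31 LD3_c41)) :=
  Lre_a IH (LK LD1_c4 LD2_c49 LD3_c29) (LK LD1_c9 LD2_c31 LD3_c41) Lrfl Lrfl
theorem f639867 : Led Lsl_ff (LP (LK LD1_c6 LD2_c46 LD3_c0)) = (LP (LK LD1_c9 LD2_c31 LD3_c41)) :=
  Lgr Lrot30 (Lpr_at (f23103 IH) (Lpr_ft (f639864 IH) (Lpr_at (f634211 IH) (Lpn (LP (LK LD1_c9 LD2_c31 LD3_c41))))))
theorem f639871 : Led Lsl_ft (LP (LK LD1_c6 LD2_c46 LD3_c0)) = (LP (LK LD1_c9 LD2_c31 LD3_c41)) :=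
  Lgr Lrot48 (Lpr_ff (f639867 IH) (Lpn (LP (LK LD1_c9 LD2_c31 LD3_c41))))
theorem f705682 : Led Lsl_gt (LP (LK LD1_c6 LD2_c46 LD3_c0)) = v13882 :=
  Lgr Lrot5 (Lpr_ft (f639871 IH) (Lpr_at (f634210 IH) (Lpr_gf (f705681 IH) (Lpn v13882))))
theorem f712222 : K52.v12979 = v13882 :=
  (Llr Lrot37 (Lpe (K52.f699982 IH) (Lpr_et (f149331 IH) (Lpe (K7.f149332 IH) (Lpe (K4.f26928 IH) (Lpr_gt (K4.f56602 IH) (Lpe (K6.f137310 IH) (Lpr_et (K56.f137312 IH) (Lpr_gt (K52.f138413 IH) (Lpe (f138468 IH) (Lpr_dt (f712215 IH) (Lpr_gt (f705682 IH) (Lpn v13882))))))))))))).symm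
theorem f853335 : Led Lsl_gt (LP (LK LD1_c12 LD2_c55 LD3_c26)) = (LP (LK LD1_c11 LD2_c34 LD3_c50)) :=
  Lgr Lrot137 (Lpr_ef (f853332 IH) (Lpe (f827131 IH) (Lpe (K60.f104837 IH) (Lpe (K11.f104783 IH) (Lpr_et (f104782 IH) (Lpr_gf (K7.f149332 IH) (Lpe (f149331 IH) (Lpr_dt (K52.f699982 IH) (Lpqs (f712222 IH) (Lpe (f705682 IH) (Lpe (f712215 IH) (Lpn (LP (LK LD1_c11 LD2_c34 LD3_c50))))))))))))))
theorem f853336 : Led Lsl_gt (LP (LK LD1_c12 LD2_c55 LD3_c26)) = (LP (LK LD1_c11 LD2_c34 LD3_c50)) :=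
  Leop (Lpe (f853335 IH) (Lpn (LP (LK LD1_c12 LD2_c55 LD3_c26))))
theorem seed_1987 : LEOK LG_g (LK LD1_c12 LD2_c55 LD3_c26) :=
  Leoe_g (LK LD1_c12 LD2_c55 LD3_c26) (f853336 IH)
def v9675 : LQ := Led Lsl_bt K55.v3005
def v30233 : LQ := Led Lsl_et v9675
theorem f853479 : Led Lsl_et v9675 = v30233 :=
  Lrfl
theorem f853482 : Led Lsl_ef v9675 = v30233 :=
  Lgr Lrot88 (Lpr_et (f853479 IH) (Lpn v30233))
def v4881 : LQ := Led Lsl_et (LP (LK LD1_c2 LD2_c51 LD3_c48))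
def v24642 : LQ := Led Lsl_gt v4881
theorem f824942 : Led Lsl_gt v4881 = v24642 :=
  Lrfl
def v15992 : LQ := Led Lsl_ct (LP (LK LD1_c5 LD2_c51 LD3_c6))
theorem f744678 : Led Lsl_ct (LP (LK LD1_c5 LD2_c51 LD3_c6)) = v15992 :=
  Lrfl
theorem f640692 : Led Lsl_et (LP (LK LD1_c2 LD2_c51 LD3_c48)) = v4881 :=
  Lrfl
theorem f640694 : Led Lsl_cf (LP (LK LD1_c2 LD2_c51 LD3_c49)) = v4881 :=
  Lgr Lrot39 (Lpr_et (K7.f22317 IH) (Lpr_ct (K36.f8374 IH) (Lpr_et (f640692 IH) (Lpn v4881))))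
theorem f744682 : Led Lsl_ff v4881 = v15992 :=
  Lgr Lrot23 (Lpe (f640694 IH) (Lpr_ft (K55.f22321 IH) (Lpr_ct (f744678 IH) (Lpn v15992))))
theorem f744685 : Led Lsl_ft v4881 = v15992 :=
  Lgr Lrot48 (Lpr_ff (f744682 IH) (Lpn v15992))
def v4885 : LQ := Led Lsl_ct (LP (LK LD1_c2 LD2_c51 LD3_c61))
theorem f640713 : Led Lsl_ct (LP (LK LD1_c2 LD2_c51 LD3_c61)) = v4885 :=
  Lrfl
theorem f640715 : Led Lsl_cf (LP (LK LD1_c2 LD2_c51 LD3_c61)) = v4885 :=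
  Lgr Lrot11 (Lpr_ct (f640713 IH) (Lpn v4885))
theorem f744679 : Led Lsl_af v4885 = v15992 :=
  Lgr Lrot68 (Lpe (f640715 IH) (Lpr_at (K55.f22264 IH) (Lpr_ct (f744678 IH) (Lpn v15992))))
theorem f824943 : Led Lsl_gf v4885 = v24642 :=
  Lgr Lrot76 (Lpr_af (f744679 IH) (Lpe (f744685 IH) (Lpr_gt (f824942 IH) (Lpn v24642))))
theorem f206032 : Led Lsl_ct (LP (LK LD1_c2 LD2_c55 LD3_c21)) = (LP (LK LD1_c5 LD2_c57 LD3_c58)) :=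
  Lre_c IH (LK LD1_c2 LD2_c55 LD3_c21) (LK LD1_c5 LD2_c57 LD3_c58) Lrfl Lrfl
def v16336 : LQ := Led Lsl_gt (LP (LK LD1_c5 LD2_c57 LD3_c53))
theorem f748831 : Led Lsl_gt (LP (LK LD1_c5 LD2_c57 LD3_c53)) = v16336 :=
  Lrfl
theorem f452814 : Led Lsl_bt (LP (LK LD1_c0 LD2_c38 LD3_c24)) = K55.v436 :=
  Lgr Lrot119 (Lpe (K50.f59504 IH) (Lpe (K4.f22461 IH) (Lpr_ef (f452813 IH) (Lpn K55.v436))))
theorem f677142 : Led Lsl_bt K55.v3005 = v9675 :=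
  Lrfl
theorem f677143 : Led Lsl_bf K55.v3005 = v9675 :=
  Lgr Lrot24 (Lpr_bt (f677142 IH) (Lpn v9675))
theorem f824944 : Led Lsl_ct v9675 = v24642 :=
  Lgr Lrot64 (Lpe (f677143 IH) (Lpe (K55.f536469 IH) (Lpe (f452814 IH) (Lpr_ct (K59.f446812 IH) (Lpr_gf (K32.f451466 IH) (Lpr_cf (K42.f491588 IH) (Lpq (K35.f623411 IH) (Lpqs (K49.f623415 IH) (Lpe (K49.f494349 IH) (Lpe (K7.f22260 IH) (Lpr_ct (f640713 IH) (Lpr_gf (f824943 IH) (Lpn v24642)))))))))))))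
theorem f824945 : v16336 = v9675 :=
  (Llr Lrot82 (Lpe (f748831 IH) (Lpe (K55.f206024 IH) (Lpr_ct (f206032 IH) (Lpe (K56.f748481 IH) (Lpe (K56.f686125 IH) (Lpe (K56.f627862 IH) (Lpq (K35.f623411 IH) (Lpqs (K49.f623415 IH) (Lpe (K49.f494349 IH) (Lpe (K7.f22260 IH) (Lpr_ct (f640713 IH) (Lpr_gf (f824943 IH) (Lpe (f824944 IH) (Lpn v9675))))))))))))))).symm
theorem f206035 : Led Lsl_ft (LP (LK LD1_c5 LD2_c57 LD3_c53)) = (LP (LK LD1_c11 LD2_c40 LD3_c33)) :=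
  Lre_f IH (LK LD1_c5 LD2_c57 LD3_c53) (LK LD1_c11 LD2_c40 LD3_c33) Lrfl Lrfl
theorem f427121 : Led Lsl_af (LP (LK LD1_c5 LD2_c57 LD3_c53)) = (LP (LK LD1_c5 LD2_c57 LD3_c31)) :=
  Lgr Lrot68 (Lpe (K55.f206012 IH) (Lpe (K55.f426852 IH) (Lpr_ct (K55.f427118 IH) (Lpn (LP (LK LD1_c5 LD2_c57 LD3_c31))))))
theorem f747085 : Led Lsl_at (LP (LK LD1_c11 LD2_c40 LD3_c33)) = K55.v16218 :=
  Lgr Lrot66 (Lpe (f206035 IH) (Lpr_af (f427121 IH) (Lpr_ff (K55.f747084 IH) (Lpn K55.v16218))))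
theorem f748832 : Led Lsl_gf K55.v16218 = v16336 :=
  Lgr Lrot76 (Lpe (f747085 IH) (Lpe (f206035 IH) (Lpr_gt (f748831 IH) (Lpn v16336))))
theorem f427123 : Led Lsl_et (LP (LK LD1_c5 LD2_c57 LD3_c31)) = (LP (LK LD1_c2 LD2_c55 LD3_c2)) :=
  Lre_e IH (LK LD1_c5 LD2_c57 LD3_c31) (LK LD1_c2 LD2_c55 LD3_c2) Lrfl Lrfl
theorem f426845 : Led Lsl_ft (LP (LK LD1_c2 LD2_c55 LD3_c2)) = (LP (LK LD1_c1 LD2_c23 LD3_c50)) :=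
  Lre_f IH (LK LD1_c2 LD2_c55 LD3_c2) (LK LD1_c1 LD2_c23 LD3_c50) Lrfl Lrfl
theorem f426784 : Led Lsl_ft (LP (LK LD1_c2 LD2_c55 LD3_c47)) = (LP (LK LD1_c5 LD2_c58 LD3_c45)) :=
  Lre_f IH (LK LD1_c2 LD2_c55 LD3_c47) (LK LD1_c5 LD2_c58 LD3_c45) Lrfl Lrfl
theorem f747087 : Led Lsl_et (LP (LK LD1_c5 LD2_c58 LD3_c45)) = K55.v16218 :=
  Lgr Lrot69 (Lpe (f426784 IH) (Lpe (K55.f428852 IH) (Lpe (f426845 IH) (Lpe (f427123 IH) (Lpr_ff (K55.f747084 IH) (Lpn K55.v16218))))))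
theorem f428148 : Led Lsl_gt (LP (LK LD1_c6 LD2_c0 LD3_c5)) = (LP (LK LD1_c11 LD2_c44 LD3_c33)) :=
  Lre_g IH (LK LD1_c6 LD2_c0 LD3_c5) (LK LD1_c11 LD2_c44 LD3_c33) Lrfl Lrfl
theorem f853485 : Led Lsl_df (LP (LK LD1_c11 LD2_c44 LD3_c32)) = v30233 :=
  Lgr Lrot132 (Lpe (K60.f501954 IH) (Lpe (K65.f559387 IH) (Lpe (f428148 IH) (Lpe (K45.f76157 IH) (Lpe (K45.f428140 IH) (Lpe (K45.f428147 IH) (Lpe (K45.f426747 IH) (Lpr_et (f747087 IH) (Lpr_gf (f748832 IH) (Lpqs (f824945 IH) (Lpr_ef (f853482 IH) (Lpn v30233))))))))))))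
theorem f76158 : Led Lsl_dt (LP (LK LD1_c6 LD2_c0 LD3_c5)) = (LP (LK LD1_c11 LD2_c44 LD3_c40)) :=
  Lre_d IH (LK LD1_c6 LD2_c0 LD3_c5) (LK LD1_c11 LD2_c44 LD3_c40) Lrfl Lrfl
theorem f853487 : Led Lsl_ft (LP (LK LD1_c11 LD2_c44 LD3_c40)) = v30233 :=
  Lgr Lrot54 (Lpe (f76158 IH) (Lpr_ff (f749275 IH) (Lpqs (f853317 IH) (Lpr_df (f853485 IH) (Lpn v30233)))))
theorem f76159 : Led Lsl_gt (LP (LK LD1_c11 LD2_c44 LD3_c40)) = (LP (LK LD1_c20 LD2_c46 LD3_c2)) :=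
  Lre_g IH (LK LD1_c11 LD2_c44 LD3_c40) (LK LD1_c20 LD2_c46 LD3_c2) Lrfl Lrfl
def v16338 : LQ := Led Lsl_ft (LP (LK LD1_c5 LD2_c57 LD3_c58))
theorem f748837 : Led Lsl_ft (LP (LK LD1_c5 LD2_c57 LD3_c58)) = v16338 :=
  Lrfl
theorem f748841 : Led Lsl_ff (LP (LK LD1_c5 LD2_c57 LD3_c58)) = v16338 :=
  Lgr Lrot3 (Lpr_ft (f748837 IH) (Lpn v16338))
theorem f426162 : Led Lsl_at (LP (LK LD1_c5 LD2_c57 LD3_c58)) = (LP (LK LD1_c5 LD2_c57 LD3_c40)) :=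
  Lgr Lrot107 (Lpe (f206032 IH) (Lpr_af (K24.f426148 IH) (Lpe (K56.f426161 IH) (Lpn (LP (LK LD1_c5 LD2_c57 LD3_c40))))))
def v16325 : LQ := Led Lsl_gf (LP (LK LD1_c5 LD2_c57 LD3_c40))
theorem f748466 : Led Lsl_gf (LP (LK LD1_c5 LD2_c57 LD3_c40)) = v16325 :=
  Lrfl
theorem f748845 : Led Lsl_gf v16325 = v16338 :=
  Lgr Lrot47 (Lpe (f748466 IH) (Lpe (f426162 IH) (Lpr_ff (f748841 IH) (Lpn v16338))))
theorem f427124 : Led Lsl_bt (LP (LK LD1_c2 LD2_c55 LD3_c10)) = (LP (LK LD1_c1 LD2_c23 LD3_c42)) :=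
  Lre_b IH (LK LD1_c2 LD2_c55 LD3_c10) (LK LD1_c1 LD2_c23 LD3_c42) Lrfl Lrfl
theorem f426943 : Led Lsl_ct (LP (LK LD1_c2 LD2_c55 LD3_c10)) = (LP (LK LD1_c5 LD2_c57 LD3_c40)) :=
  Lre_c IH (LK LD1_c2 LD2_c55 LD3_c10) (LK LD1_c5 LD2_c57 LD3_c40) Lrfl Lrfl
theorem f24045 : Led Lsl_bt (LP (LK LD1_c1 LD2_c22 LD3_c59)) = (LP (LK LD1_c2 LD2_c53 LD3_c59)) :=
  Lre_b IH (LK LD1_c1 LD2_c22 LD3_c59) (LK LD1_c2 LD2_c53 LD3_c59) Lrfl Lrfl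
theorem f643453 : Led Lsl_gt (LP (LK LD1_c5 LD2_c57 LD3_c40)) = K56.v4894 :=
  Lgr Lrot65 (Lpe (f426943 IH) (Lpr_bt (f427124 IH) (Lpr_gf (K45.f500674 IH) (Lpqs (K45.f643429 IH) (Lpe (f24045 IH) (Lpr_ct (K55.f24044 IH) (Lpr_gf (K24.f206542 IH) (Lpe (K24.f206520 IH) (Lpe (K60.f163611 IH) (Lpe (K45.f163614 IH) (Lpr_ct (K56.f640762 IH) (Lpn K56.v4894))))))))))))
def v14112 : LQ := Led Lsl_ct (LP (LK LD1_c4 LD2_c58 LD3_c43))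
theorem f719056 : Led Lsl_ct (LP (LK LD1_c4 LD2_c58 LD3_c43)) = v14112 :=
  Lrfl
theorem f719057 : Led Lsl_af K56.v4894 = v14112 :=
  Lgr Lrot68 (Lpe (K56.f640763 IH) (Lpr_at (K45.f640760 IH) (Lpqs (K45.f643194 IH) (Lpr_ct (f719056 IH) (Lpn v14112)))))
theorem f748467 : Led Lsl_ff v14112 = v16325 :=
  Lgr Lrot52 (Lpe (f719057 IH) (Lpe (f643453 IH) (Lpr_gf (f748466 IH) (Lpn v16325))))
theorem f686126 : Led Lsl_ft K56.v4894 = K56.v11843 :=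
  Lgr Lrot48 (Lpr_ff (K56.f686124 IH) (Lpn K56.v11843))
theorem f748468 : Led Lsl_at K56.v11843 = v16325 :=
  Lgr Lrot66 (Lpe (f686126 IH) (Lpr_af (f719057 IH) (Lpr_ff (f748467 IH) (Lpn v16325))))
theorem f748846 : Led Lsl_gt K56.v4894 = v16338 :=
  Lgr Lrot5 (Lpr_ft (f686126 IH) (Lpr_at (f748468 IH) (Lpr_gf (f748845 IH) (Lpn v16338))))
def v1584 : LQ := Led Lsl_et (LP (LK LD1_c1 LD2_c21 LD3_c61))
theorem f500198 : Led Lsl_et (LP (LK LD1_c1 LD2_c21 LD3_c61)) = v1584 :=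
  Lrfl
theorem f500201 : Led Lsl_ef (LP (LK LD1_c1 LD2_c21 LD3_c61)) = v1584 :=
  Lgr Lrot88 (Lpr_et (f500198 IH) (Lpn v1584))
theorem f500203 : Led Lsl_ct (LP (LK LD1_c1 LD2_c22 LD3_c0)) = v1584 :=
  Lgr Lrot15 (Lpe (K50.f22292 IH) (Lpe (K4.f8352 IH) (Lpr_ef (f500201 IH) (Lpn v1584))))
def v7990 : LQ := Led Lsl_gf v1584
theorem f669525 : Led Lsl_gf v1584 = v7990 :=
  Lrfl
theorem f748843 : Led Lsl_ct (LP (LK LD1_c5 LD2_c58 LD3_c0)) = v16338 :=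
  Lgr Lrot40 (Lpe (K24.f426147 IH) (Lpe (K56.f206025 IH) (Lpr_ff (f748841 IH) (Lpn v16338))))
def v16321 : LQ := Led Lsl_gf (LP (LK LD1_c5 LD2_c57 LD3_c31))
theorem f748446 : Led Lsl_gf (LP (LK LD1_c5 LD2_c57 LD3_c31)) = v16321 :=
  Lrfl
theorem f748447 : Led Lsl_gt (LP (LK LD1_c11 LD2_c40 LD3_c33)) = v16321 :=
  Lgr Lrot5 (Lpr_ft (K24.f206029 IH) (Lpr_at (K55.f426159 IH) (Lpr_gf (f748446 IH) (Lpn v16321))))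
theorem f748847 : Led Lsl_cf v7990 = v16321 :=
  Lgr Lrot125 (Lpe (f669525 IH) (Lpe (f500203 IH) (Lpr_bt (K8.f22232 IH) (Lpr_gt (K35.f22245 IH) (Lpe (K45.f163614 IH) (Lpr_ct (K56.f640762 IH) (Lpr_gt (f748846 IH) (Lpe (f748843 IH) (Lpr_bt (K24.f425981 IH) (Lpr_gt (f748447 IH) (Lpn v16321)))))))))))
theorem f452817 : Led Lsl_cf K29.v269 = K24.v437 :=
  Lgr Lrot108 (Lpe (K35.f451472 IH) (Lpe (K49.f446809 IH) (Lpr_ft (K24.f452815 IH) (Lpn K24.v437))))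
theorem f452812 : Led Lsl_bf (LP (LK LD1_c0 LD2_c38 LD3_c24)) = K55.v436 :=
  Lgr Lrot96 (Lpr_et (K24.f22471 IH) (Lpr_bt (K2.f59463 IH) (Lpr_et (K55.f452811 IH) (Lpn K55.v436))))
theorem f536474 : Led Lsl_bt K24.v437 = v3007 :=
  Lgr Lrot35 (Lpe (K24.f452815 IH) (Lpr_bf (f452812 IH) (Lpr_ff (f536473 IH) (Lpn v3007))))
theorem f669645 : Led Lsl_gt v3007 = v8016 :=
  Lgr Lrot5 (Lpe (f536473 IH) (Lpr_at (f500433 IH) (Lpr_gf (f669644 IH) (Lpn v8016))))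
theorem f748849 : Led Lsl_bf v8016 = v16321 :=
  Lgr Lrot34 (Lpe (f669645 IH) (Lpe (f536474 IH) (Lpe (f452817 IH) (Lpe (K35.f452346 IH) (Lpq (K35.f535787 IH) (Lpe (K35.f500211 IH) (Lpe (K35.f22245 IH) (Lpe (K8.f22232 IH) (Lpr_ct (f500203 IH) (Lpr_gf (f669525 IH) (Lpr_cf (f748847 IH) (Lpn v16321))))))))))))
theorem f853444 : Led Lsl_ff v16321 = v9675 :=
  Lgr Lrot25 (Lpe (f748849 IH) (Lpqs (f853274 IH) (Lpe (f677155 IH) (Lpr_bt (f677142 IH) (Lpn v9675)))))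
def v7989 : LQ := Led Lsl_gt v1584
def v28163 : LQ := Led Lsl_at v7989
theorem f843097 : Led Lsl_at v7989 = v28163 :=
  Lrfl
theorem f843098 : Led Lsl_af v7989 = v28163 :=
  Lgr Lrot0 (Lpr_at (f843097 IH) (Lpn v28163))
theorem f669524 : Led Lsl_gt v1584 = v7989 :=
  Lrfl
theorem f843099 : Led Lsl_ft v7990 = v28163 :=
  Lgr Lrot2 (Lpe (f669525 IH) (Lpr_gt (f669524 IH) (Lpr_af (f843098 IH) (Lpn v28163))))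
theorem f824946 : Led Lsl_ct v24642 = v9675 :=
  Lgr Lrot59 (Lpe (f824944 IH) (Lpn v9675))
theorem f853457 : v28163 = v24642 :=
  (Llr Lrot4 (Lpe (f843099 IH) (Lpr_cf (f748847 IH) (Lpr_ff (f853444 IH) (Lpe (f824946 IH) (Lpn v24642)))))).symm
theorem f843100 : Led Lsl_ff v7990 = v28163 :=
  Lgr Lrot3 (Lpr_ft (f843099 IH) (Lpn v28163))
def v28167 : LQ := Led Lsl_ft v7989
theorem f843109 : Led Lsl_ft v7989 = v28167 :=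
  Lrfl
theorem f843111 : Led Lsl_ff v7989 = v28167 :=
  Lgr Lrot3 (Lpr_ft (f843109 IH) (Lpn v28167))
theorem f843112 : Led Lsl_at v7990 = v28167 :=
  Lgr Lrot66 (Lpr_ff (f843100 IH) (Lpe (f843097 IH) (Lpr_ff (f843111 IH) (Lpn v28167))))
def v24643 : LQ := Led Lsl_gf v4881
theorem f824948 : Led Lsl_gf v4881 = v24643 :=
  Lrfl
theorem f640695 : Led Lsl_ef (LP (LK LD1_c2 LD2_c51 LD3_c48)) = v4881 :=
  Lgr Lrot88 (Lpr_et (f640692 IH) (Lpn v4881))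
theorem f640696 : Led Lsl_at v1584 = v4881 :=
  Lgr Lrot80 (Lpe (f500198 IH) (Lpe (K24.f8359 IH) (Lpr_ef (f640695 IH) (Lpn v4881))))
theorem f22294 : Led Lsl_ft (LP (LK LD1_c1 LD2_c22 LD3_c0)) = (LP (LK LD1_c2 LD2_c51 LD3_c61)) :=
  Lre_f IH (LK LD1_c1 LD2_c22 LD3_c0) (LK LD1_c2 LD2_c51 LD3_c61) Lrfl Lrfl
theorem f500200 : Led Lsl_cf (LP (LK LD1_c1 LD2_c22 LD3_c0)) = v1584 :=
  Lgr Lrot39 (Lpr_et (K55.f22309 IH) (Lpr_ct (K4.f8356 IH) (Lpr_et (f500198 IH) (Lpn v1584))))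
theorem f640717 : Led Lsl_ff v1584 = v4885 :=
  Lgr Lrot23 (Lpe (f500200 IH) (Lpr_ft (f22294 IH) (Lpr_ct (f640713 IH) (Lpn v4885))))
theorem f824949 : Led Lsl_gt v4885 = v24643 :=
  Lgr Lrot5 (Lpe (f640717 IH) (Lpr_at (f640696 IH) (Lpr_gf (f824948 IH) (Lpn v24643))))
theorem f853458 : v28167 = v24643 :=
  (Llr Lrot26 (Lpe (f843112 IH) (Lpr_ff (f843100 IH) (Lpqs (f853457 IH) (Lpe (f824943 IH) (Lpr_gt (f824949 IH) (Lpn v24643))))))).symm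
def v4993 : LQ := Led Lsl_et (LP (LK LD1_c2 LD2_c55 LD3_c4))
def v24811 : LQ := Led Lsl_gf v4993
theorem f825711 : Led Lsl_gf v4993 = v24811 :=
  Lrfl
theorem f641228 : Led Lsl_et (LP (LK LD1_c2 LD2_c55 LD3_c4)) = v4993 :=
  Lrfl
theorem f641231 : Led Lsl_ef (LP (LK LD1_c2 LD2_c55 LD3_c4)) = v4993 :=
  Lgr Lrot88 (Lpr_et (f641228 IH) (Lpn v4993))
theorem f72572 : Led Lsl_at (LP (LK LD1_c2 LD2_c55 LD3_c4)) = (LP (LK LD1_c1 LD2_c23 LD3_c41)) :=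
  Lre_a IH (LK LD1_c2 LD2_c55 LD3_c4) (LK LD1_c1 LD2_c23 LD3_c41) Lrfl Lrfl
theorem f500672 : Led Lsl_et (LP (LK LD1_c1 LD2_c23 LD3_c41)) = (LP (LK LD1_c2 LD2_c55 LD3_c32)) :=
  Lre_e IH (LK LD1_c1 LD2_c23 LD3_c41) (LK LD1_c2 LD2_c55 LD3_c32) Lrfl Lrfl
theorem f641233 : Led Lsl_at (LP (LK LD1_c2 LD2_c55 LD3_c32)) = v4993 :=
  Lgr Lrot80 (Lpe (f500672 IH) (Lpe (f72572 IH) (Lpr_ef (f641231 IH) (Lpn v4993))))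
def v5003 : LQ := Led Lsl_ft (LP (LK LD1_c2 LD2_c55 LD3_c32))
theorem f641279 : Led Lsl_ft (LP (LK LD1_c2 LD2_c55 LD3_c32)) = v5003 :=
  Lrfl
theorem f641281 : Led Lsl_ff (LP (LK LD1_c2 LD2_c55 LD3_c32)) = v5003 :=
  Lgr Lrot3 (Lpr_ft (f641279 IH) (Lpn v5003))
theorem f825712 : Led Lsl_gt v5003 = v24811 :=
  Lgr Lrot5 (Lpe (f641281 IH) (Lpr_at (f641233 IH) (Lpr_gf (f825711 IH) (Lpn v24811))))
theorem f500676 : Led Lsl_ct (LP (LK LD1_c2 LD2_c55 LD3_c32)) = (LP (LK LD1_c1 LD2_c23 LD3_c42)) :=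
  Lre_c IH (LK LD1_c2 LD2_c55 LD3_c32) (LK LD1_c1 LD2_c23 LD3_c42) Lrfl Lrfl
theorem f641282 : Led Lsl_ct (LP (LK LD1_c2 LD2_c55 LD3_c36)) = v5003 :=
  Lgr Lrot40 (Lpe (K41.f500678 IH) (Lpe (f500676 IH) (Lpr_ff (f641281 IH) (Lpn v5003))))
theorem f163574 : Led Lsl_gt (LP (LK LD1_c4 LD2_c34 LD3_c45)) = (LP (LK LD1_c2 LD2_c14 LD3_c25)) :=
  Lre_g IH (LK LD1_c4 LD2_c34 LD3_c45) (LK LD1_c2 LD2_c14 LD3_c25) Lrfl Lrfl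
def v12930 : LQ := Led Lsl_bt (LP (LK LD1_c4 LD2_c34 LD3_c45))
theorem f699662 : Led Lsl_bt (LP (LK LD1_c4 LD2_c34 LD3_c45)) = v12930 :=
  Lrfl
theorem f699663 : Led Lsl_bf (LP (LK LD1_c4 LD2_c34 LD3_c45)) = v12930 :=
  Lgr Lrot24 (Lpr_bt (f699662 IH) (Lpn v12930))
theorem f825713 : Led Lsl_ct v12930 = v24811 :=
  Lgr Lrot63 (Lpe (f699663 IH) (Lpr_gt (f163574 IH) (Lpe (K8.f163616 IH) (Lpr_ct (K53.f206517 IH) (Lpr_gt (K32.f206522 IH) (Lpr_cf (K55.f435429 IH) (Lpr_bt (K45.f631837 IH) (Lpqs (K55.f699899 IH) (Lpr_gt (K55.f641252 IH) (Lpr_ct (f641282 IH) (Lpr_gt (f825712 IH) (Lpn v24811))))))))))))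
theorem f163609 : Led Lsl_gt (LP (LK LD1_c9 LD2_c6 LD3_c12)) = (LP (LK LD1_c4 LD2_c34 LD3_c45)) :=
  Lre_g IH (LK LD1_c9 LD2_c6 LD3_c12) (LK LD1_c4 LD2_c34 LD3_c45) Lrfl Lrfl
theorem f163606 : Led Lsl_bt (LP (LK LD1_c5 LD2_c51 LD3_c6)) = (LP (LK LD1_c9 LD2_c6 LD3_c12)) :=
  Lgr Lrot127 (Lpr_bf (K32.f163602 IH) (Lpn (LP (LK LD1_c9 LD2_c6 LD3_c12))))
theorem f640693 : Led Lsl_af v1584 = v4881 :=
  Lgr Lrot50 (Lpe (f500201 IH) (Lpr_at (K7.f8377 IH) (Lpr_et (f640692 IH) (Lpn v4881))))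
theorem f640720 : Led Lsl_ft v1584 = v4885 :=
  Lgr Lrot48 (Lpr_ff (f640717 IH) (Lpn v4885))
theorem f744683 : Led Lsl_at v4885 = v15992 :=
  Lgr Lrot66 (Lpe (f640720 IH) (Lpr_af (f640693 IH) (Lpr_ff (f744682 IH) (Lpn v15992))))
theorem f744687 : Led Lsl_gt v7989 = v15992 :=
  Lgr Lrot46 (Lpe (f669524 IH) (Lpr_ft (f640720 IH) (Lpr_at (f744683 IH) (Lpn v15992))))
theorem f426268 : Led Lsl_et (LP (LK LD1_c1 LD2_c23 LD3_c29)) = (LP (LK LD1_c2 LD2_c55 LD3_c5)) :=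
  Lre_e IH (LK LD1_c1 LD2_c23 LD3_c29) (LK LD1_c2 LD2_c55 LD3_c5) Lrfl Lrfl
theorem f641234 : Led Lsl_ct (LP (LK LD1_c2 LD2_c55 LD3_c5)) = v4993 :=
  Lgr Lrot15 (Lpe (f426268 IH) (Lpe (K32.f426281 IH) (Lpr_ef (f641231 IH) (Lpn v4993))))
theorem f427117 : Led Lsl_bt (LP (LK LD1_c2 LD2_c55 LD3_c5)) = (LP (LK LD1_c5 LD2_c57 LD3_c31)) :=
  Lre_b IH (LK LD1_c2 LD2_c55 LD3_c5) (LK LD1_c5 LD2_c57 LD3_c31) Lrfl Lrfl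
def v16320 : LQ := Led Lsl_gt (LP (LK LD1_c5 LD2_c57 LD3_c31))
theorem f748442 : Led Lsl_gt (LP (LK LD1_c5 LD2_c57 LD3_c31)) = v16320 :=
  Lrfl
theorem f825716 : Led Lsl_cf v7989 = v16320 :=
  Lgr Lrot125 (Lpr_gt (f744687 IH) (Lpe (f744678 IH) (Lpr_bt (f163606 IH) (Lpr_gt (f163609 IH) (Lpr_bf (f699663 IH) (Lpr_ct (f825713 IH) (Lpe (f825711 IH) (Lpe (f641234 IH) (Lpr_bt (f427117 IH) (Lpr_gt (f748442 IH) (Lpn v16320)))))))))))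
theorem f640697 : Led Lsl_ct (LP (LK LD1_c2 LD2_c51 LD3_c49)) = v4881 :=
  Lgr Lrot15 (Lpe (K8.f22336 IH) (Lpe (K7.f8376 IH) (Lpr_ef (f640695 IH) (Lpn v4881))))
theorem f599816 : Led Lsl_gt (LP (LK LD1_c4 LD2_c34 LD3_c43)) = (LP (LK LD1_c5 LD2_c50 LD3_c38)) :=
  Lgr Lrot5 (Lpr_ft (K32.f163601 IH) (Lpr_at (K55.f152049 IH) (Lpr_gf (K54.f599814 IH) (Lpn (LP (LK LD1_c5 LD2_c50 LD3_c38))))))
def v15960 : LQ := Led Lsl_et (LP (LK LD1_c5 LD2_c50 LD3_c35))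
theorem f744416 : Led Lsl_et (LP (LK LD1_c5 LD2_c50 LD3_c35)) = v15960 :=
  Lrfl
theorem f500045 : Led Lsl_bt (LP (LK LD1_c2 LD2_c51 LD3_c29)) = (LP (LK LD1_c5 LD2_c50 LD3_c35)) :=
  Lre_b IH (LK LD1_c2 LD2_c51 LD3_c29) (LK LD1_c5 LD2_c50 LD3_c35) Lrfl Lrfl
theorem f500042 : Led Lsl_et (LP (LK LD1_c5 LD2_c50 LD3_c38)) = (LP (LK LD1_c2 LD2_c51 LD3_c29)) :=
  Lre_e IH (LK LD1_c5 LD2_c50 LD3_c38) (LK LD1_c2 LD2_c51 LD3_c29) Lrfl Lrfl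
theorem f744417 : Led Lsl_bf (LP (LK LD1_c5 LD2_c50 LD3_c38)) = v15960 :=
  Lgr Lrot96 (Lpr_et (f500042 IH) (Lpr_bt (f500045 IH) (Lpr_et (f744416 IH) (Lpn v15960))))
def v4953 : LQ := Led Lsl_gt (LP (LK LD1_c2 LD2_c53 LD3_c59))
theorem f641037 : Led Lsl_gt (LP (LK LD1_c2 LD2_c53 LD3_c59)) = v4953 :=
  Lrfl
theorem f643430 : (LP (LK LD1_c1 LD2_c23 LD3_c42)) = v4953 :=
  Lefun (Lecon (Lfl_gf (K45.f500674 IH)) (K45.f643429 IH)) (f641037 IH)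
theorem f500675 : Led Lsl_ct (LP (LK LD1_c1 LD2_c23 LD3_c42)) = (LP (LK LD1_c2 LD2_c55 LD3_c32)) :=
  Lre_c IH (LK LD1_c1 LD2_c23 LD3_c42) (LK LD1_c2 LD2_c55 LD3_c32) Lrfl Lrfl
def v5000 : LQ := Led Lsl_gt (LP (LK LD1_c2 LD2_c55 LD3_c32))
theorem f641273 : Led Lsl_gt (LP (LK LD1_c2 LD2_c55 LD3_c32)) = v5000 :=
  Lrfl
theorem f744423 : Led Lsl_cf v5000 = v15960 :=
  Lgr Lrot163 (Lpe (f641273 IH) (Lpe (f500675 IH) (Lpqs (f643430 IH) (Lpe (f641037 IH) (Lpe (f24045 IH) (Lpr_ct (K55.f24044 IH) (Lpr_gf (K24.f206542 IH) (Lpe (K24.f206520 IH) (Lpr_bt (K7.f152052 IH) (Lpr_gf (K54.f599814 IH) (Lpr_bf (f744417 IH) (Lpn v15960))))))))))))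
def v16219 : LQ := Led Lsl_ct (LP (LK LD1_c5 LD2_c55 LD3_c16))
theorem f747091 : Led Lsl_ct (LP (LK LD1_c5 LD2_c55 LD3_c16)) = v16219 :=
  Lrfl
theorem f641230 : Led Lsl_cf (LP (LK LD1_c2 LD2_c55 LD3_c5)) = v4993 :=
  Lgr Lrot39 (Lpr_et (K41.f427503 IH) (Lpr_ct (K28.f426062 IH) (Lpr_et (f641228 IH) (Lpn v4993))))
theorem f747095 : Led Lsl_ff v4993 = v16219 :=
  Lgr Lrot23 (Lpe (f641230 IH) (Lpr_ft (K41.f641247 IH) (Lpqs (K55.f643432 IH) (Lpr_ct (f747091 IH) (Lpn v16219)))))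
theorem f426280 : Led Lsl_at (LP (LK LD1_c1 LD2_c23 LD3_c41)) = (LP (LK LD1_c2 LD2_c55 LD3_c4)) :=
  Lre_a IH (LK LD1_c1 LD2_c23 LD3_c41) (LK LD1_c2 LD2_c55 LD3_c4) Lrfl Lrfl
theorem f105180 : Led Lsl_et (LP (LK LD1_c2 LD2_c55 LD3_c32)) = (LP (LK LD1_c1 LD2_c23 LD3_c41)) :=
  Lre_e IH (LK LD1_c2 LD2_c55 LD3_c32) (LK LD1_c1 LD2_c23 LD3_c41) Lrfl Lrfl
theorem f641229 : Led Lsl_af (LP (LK LD1_c2 LD2_c55 LD3_c32)) = v4993 :=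
  Lgr Lrot50 (Lpr_et (f105180 IH) (Lpr_at (f426280 IH) (Lpr_et (f641228 IH) (Lpn v4993))))
theorem f747096 : Led Lsl_at v5003 = v16219 :=
  Lgr Lrot66 (Lpe (f641279 IH) (Lpr_af (f641229 IH) (Lpr_ff (f747095 IH) (Lpn v16219))))
theorem f747100 : Led Lsl_gt v5000 = v16219 :=
  Lgr Lrot46 (Lpe (f641273 IH) (Lpr_ft (f641279 IH) (Lpr_at (f747096 IH) (Lpn v16219))))
theorem f72411 : Led Lsl_gt (LP (LK LD1_c11 LD2_c40 LD3_c31)) = (LP (LK LD1_c5 LD2_c57 LD3_c53)) :=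
  Lre_g IH (LK LD1_c11 LD2_c40 LD3_c31) (LK LD1_c5 LD2_c57 LD3_c53) Lrfl Lrfl
theorem f747089 : Led Lsl_gf (LP (LK LD1_c11 LD2_c40 LD3_c31)) = K55.v16218 :=
  Lgr Lrot47 (Lpr_gt (f72411 IH) (Lpr_af (f427121 IH) (Lpr_ff (K55.f747084 IH) (Lpn K55.v16218))))
theorem f824950 : Led Lsl_ct (LP (LK LD1_c11 LD2_c40 LD3_c31)) = v24643 :=
  Lgr Lrot91 (Lpr_gf (f747089 IH) (Lpe (K55.f747080 IH) (Lpr_ct (f747091 IH) (Lpe (f747100 IH) (Lpr_cf (f744423 IH) (Lpe (f744417 IH) (Lpe (f599816 IH) (Lpe (K8.f163593 IH) (Lpr_ct (f640697 IH) (Lpr_gf (f824948 IH) (Lpn v24643)))))))))))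
theorem f824951 : Led Lsl_cf (LP (LK LD1_c11 LD2_c40 LD3_c31)) = v24643 :=
  Lgr Lrot11 (Lpr_ct (f824950 IH) (Lpn v24643))
theorem f853459 : Led Lsl_ff v16320 = (LP (LK LD1_c11 LD2_c40 LD3_c31)) :=
  Lgr Lrot23 (Lpe (f825716 IH) (Lpr_ft (f843109 IH) (Lpqs (f853458 IH) (Lpe (f824951 IH) (Lpn (LP (LK LD1_c11 LD2_c40 LD3_c31)))))))
theorem f853456 : Led Lsl_at v16321 = (LP (LK LD1_c11 LD2_c40 LD3_c31)) :=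
  Lgr Lrot26 (Lpr_ff (f853444 IH) (Lpq (f824945 IH) (Lpe (f748832 IH) (Lpe (f747089 IH) (Lpn (LP (LK LD1_c11 LD2_c40 LD3_c31)))))))
theorem f853460 : Led Lsl_at v16320 = v9675 :=
  Lgr Lrot66 (Lpr_ff (f853459 IH) (Lpe (f853456 IH) (Lpr_ff (f853444 IH) (Lpn v9675))))
theorem f427120 : Led Lsl_et (LP (LK LD1_c2 LD2_c55 LD3_c2)) = (LP (LK LD1_c5 LD2_c57 LD3_c31)) :=
  Lre_e IH (LK LD1_c2 LD2_c55 LD3_c2) (LK LD1_c5 LD2_c57 LD3_c31) Lrfl Lrfl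
theorem f501962 : Led Lsl_et (LP (LK LD1_c6 LD2_c0 LD3_c2)) = (LP (LK LD1_c2 LD2_c56 LD3_c20)) :=
  Lre_e IH (LK LD1_c6 LD2_c0 LD3_c2) (LK LD1_c2 LD2_c56 LD3_c20) Lrfl Lrfl
theorem f559385 : Led Lsl_dt (LP (LK LD1_c6 LD2_c0 LD3_c2)) = (LP (LK LD1_c2 LD2_c56 LD3_c22)) :=
  Lgr Lrot42 (Lpr_df (K65.f559382 IH) (Lpn (LP (LK LD1_c2 LD2_c56 LD3_c22))))
theorem f559389 : Led Lsl_dt (LP (LK LD1_c11 LD2_c44 LD3_c42)) = (LP (LK LD1_c6 LD2_c0 LD3_c6)) :=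
  Lre_d IH (LK LD1_c11 LD2_c44 LD3_c42) (LK LD1_c6 LD2_c0 LD3_c6) Lrfl Lrfl
theorem f748444 : Led Lsl_et (LP (LK LD1_c11 LD2_c44 LD3_c42)) = v16320 :=
  Lgr Lrot122 (Lpr_dt (f559389 IH) (Lpr_gt (f76154 IH) (Lpe (f559385 IH) (Lpr_et (f501962 IH) (Lpr_gt (K40.f501745 IH) (Lpr_dt (K6.f135922 IH) (Lpr_gt (K40.f427306 IH) (Lpe (K34.f425937 IH) (Lpr_et (f427120 IH) (Lpr_gt (f748442 IH) (Lpn v16320)))))))))))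
theorem f853480 : Led Lsl_af (LP (LK LD1_c11 LD2_c44 LD3_c42)) = v30233 :=
  Lgr Lrot50 (Lpr_et (f748444 IH) (Lpr_at (f853460 IH) (Lpr_et (f853479 IH) (Lpn v30233))))
theorem f853489 : Led Lsl_gt (LP (LK LD1_c20 LD2_c46 LD3_c2)) = (LP (LK LD1_c11 LD2_c44 LD3_c42)) :=
  Lgr Lrot46 (Lpe (f76159 IH) (Lpr_ft (f853487 IH) (Lpe (f853480 IH) (Lpn (LP (LK LD1_c11 LD2_c44 LD3_c42))))))
theorem f853490 : Led Lsl_gt (LP (LK LD1_c20 LD2_c46 LD3_c2)) = (LP (LK LD1_c11 LD2_c44 LD3_c42)) :=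
  Leop (Lpe (f853489 IH) (Lpn (LP (LK LD1_c20 LD2_c46 LD3_c2))))
theorem seed_1988 : LEOK LG_g (LK LD1_c20 LD2_c46 LD3_c2) :=
  Leoe_g (LK LD1_c20 LD2_c46 LD3_c2) (f853490 IH)
def v30451 : LQ := Led Lsl_dt K64.v9824
theorem f854457 : Led Lsl_dt K64.v9824 = v30451 :=
  Lrfl
def v18294 : LQ := Led Lsl_ct (LP (LK LD1_c6 LD2_c28 LD3_c14))
theorem f766141 : Led Lsl_ct (LP (LK LD1_c6 LD2_c28 LD3_c14)) = v18294 :=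
  Lrfl
theorem f677700 : Led Lsl_cf K58.v3085 = K64.v9824 :=
  Lgr Lrot11 (Lpr_ct (K64.f677699 IH) (Lpn K64.v9824))
theorem f766143 : Led Lsl_ff K64.v9824 = v18294 :=
  Lgr Lrot23 (Lpe (f677700 IH) (Lpr_ft (K58.f670754 IH) (Lpqs (K58.f707805 IH) (Lpr_ct (f766141 IH) (Lpn v18294)))))
theorem f494779 : Led Lsl_bt (LP (LK LD1_c6 LD2_c28 LD3_c14)) = (LP (LK LD1_c3 LD2_c12 LD3_c5)) :=
  Lre_b IH (LK LD1_c6 LD2_c28 LD3_c14) (LK LD1_c3 LD2_c12 LD3_c5) Lrfl Lrfl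
def v4396 : LQ := Led Lsl_gt (LP (LK LD1_c2 LD2_c20 LD3_c34))
theorem f633131 : Led Lsl_gt (LP (LK LD1_c2 LD2_c20 LD3_c34)) = v4396 :=
  Lrfl
theorem f773954 : v18294 = v4396 :=
  (Llr Lrot10 (Lpe (f766141 IH) (Lpr_bt (f494779 IH) (Lpr_gt (K59.f506677 IH) (Lpr_ct (K46.f506705 IH) (Lpr_gt (K59.f648874 IH) (Lpq (K59.f663850 IH) (Lpr_cf (K59.f772261 IH) (Lpe (K59.f772260 IH) (Lpqs (K59.f770704 IH) (Lpqs (K59.f773953 IH) (Lpe (K59.f633096 IH) (Lpe (K59.f102299 IH) (Lpr_ct (K59.f102305 IH) (Lpr_gt (f633131 IH) (Lpn v4396)))))))))))))))).symm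
def v23998 : LQ := Led Lsl_dt v4396
theorem f821861 : Led Lsl_dt v4396 = v23998 :=
  Lrfl
theorem f821862 : Led Lsl_df v4396 = v23998 :=
  Lgr Lrot38 (Lpr_dt (f821861 IH) (Lpn v23998))
theorem f854460 : Led Lsl_ff v23998 = v30451 :=
  Lgr Lrot19 (Lpe (f821862 IH) (Lpq (f773954 IH) (Lpe (f766143 IH) (Lpr_dt (f854457 IH) (Lpn v30451)))))
theorem f854461 : Led Lsl_ft v23998 = v30451 :=
  Lgr Lrot48 (Lpr_ff (f854460 IH) (Lpn v30451))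
theorem f633417 : Led Lsl_dt (LP (LK LD1_c9 LD2_c27 LD3_c48)) = (LP (LK LD1_c4 LD2_c47 LD3_c22)) :=
  Lre_d IH (LK LD1_c9 LD2_c27 LD3_c48) (LK LD1_c4 LD2_c47 LD3_c22) Lrfl Lrfl
theorem f821863 : Led Lsl_gf (LP (LK LD1_c9 LD2_c27 LD3_c48)) = v23998 :=
  Lgr Lrot143 (Lpr_dt (f633417 IH) (Lpe (K59.f633410 IH) (Lpr_df (K57.f633428 IH) (Lpqs (K59.f770439 IH) (Lpe (K59.f652297 IH) (Lpq (K58.f770429 IH) (Lpqs (K58.f758522 IH) (Lpe (K57.f668795 IH) (Lpe (K57.f494982 IH) (Lpe (K7.f102302 IH) (Lpr_gt (f633131 IH) (Lpr_dt (f821861 IH) (Lpn v23998)))))))))))))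
theorem f701276 : Led Lsl_at K58.v4398 = K58.v13132 :=
  Lgr Lrot66 (Lpe (K58.f633135 IH) (Lpe (K7.f103344 IH) (Lpr_ff (K59.f701274 IH) (Lpn K58.v13132))))
theorem f701280 : Led Lsl_gt v4396 = K58.v13132 :=
  Lgr Lrot46 (Lpe (f633131 IH) (Lpr_ft (K58.f633135 IH) (Lpr_at (f701276 IH) (Lpn K58.v13132))))
theorem f773966 : Led Lsl_at K64.v9824 = K59.v4397 :=
  Lgr Lrot26 (Lpr_ff (f766143 IH) (Lpqs (f773954 IH) (Lpr_gt (f701280 IH) (Lpe (K59.f701279 IH) (Lpn K59.v4397)))))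
theorem f773967 : Led Lsl_af K64.v9824 = K59.v4397 :=
  Lgr Lrot0 (Lpr_at (f773966 IH) (Lpn K59.v4397))
def v24000 : LQ := Led Lsl_dt K59.v4397
theorem f821877 : Led Lsl_dt K59.v4397 = v24000 :=
  Lrfl
theorem f821878 : Led Lsl_df K59.v4397 = v24000 :=
  Lgr Lrot38 (Lpr_dt (f821877 IH) (Lpn v24000))
theorem f854458 : Led Lsl_af v24000 = v30451 :=
  Lgr Lrot117 (Lpe (f821878 IH) (Lpe (f773967 IH) (Lpr_dt (f854457 IH) (Lpn v30451))))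
theorem f854462 : Led Lsl_gt (LP (LK LD1_c9 LD2_c27 LD3_c48)) = v24000 :=
  Lgr Lrot46 (Lpr_gf (f821863 IH) (Lpr_ft (f854461 IH) (Lpe (f854458 IH) (Lpn v24000))))
theorem f674118 : Led Lsl_et (LP (LK LD1_c17 LD2_c27 LD3_c5)) = (LP (LK LD1_c9 LD2_c27 LD3_c48)) :=
  Lre_e IH (LK LD1_c17 LD2_c27 LD3_c5) (LK LD1_c9 LD2_c27 LD3_c48) Lrfl Lrfl
theorem f674112 : Led Lsl_dt (LP (LK LD1_c17 LD2_c27 LD3_c5)) = (LP (LK LD1_c9 LD2_c27 LD3_c46)) :=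
  Lre_d IH (LK LD1_c17 LD2_c27 LD3_c5) (LK LD1_c9 LD2_c27 LD3_c46) Lrfl Lrfl
theorem f633374 : Led Lsl_gt (LP (LK LD1_c17 LD2_c27 LD3_c4)) = (LP (LK LD1_c9 LD2_c27 LD3_c46)) :=
  Lre_g IH (LK LD1_c17 LD2_c27 LD3_c4) (LK LD1_c9 LD2_c27 LD3_c46) Lrfl Lrfl
theorem f103453 : Led Lsl_et (LP (LK LD1_c4 LD2_c44 LD3_c54)) = (LP (LK LD1_c9 LD2_c22 LD3_c25)) :=
  Lre_e IH (LK LD1_c4 LD2_c44 LD3_c54) (LK LD1_c9 LD2_c22 LD3_c25) Lrfl Lrfl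
theorem f103400 : Led Lsl_gt (LP (LK LD1_c9 LD2_c22 LD3_c25)) = (LP (LK LD1_c17 LD2_c18 LD3_c57)) :=
  Lre_g IH (LK LD1_c9 LD2_c22 LD3_c25) (LK LD1_c17 LD2_c18 LD3_c57) Lrfl Lrfl
theorem f103406 : Led Lsl_et (LP (LK LD1_c27 LD2_c8 LD3_c52)) = (LP (LK LD1_c17 LD2_c18 LD3_c57)) :=
  Lre_e IH (LK LD1_c27 LD2_c8 LD3_c52) (LK LD1_c17 LD2_c18 LD3_c57) Lrfl Lrfl
theorem f854464 : Led Lsl_df (LP (LK LD1_c17 LD2_c27 LD3_c4)) = (LP (LK LD1_c27 LD2_c8 LD3_c52)) :=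
  Lgr Lrot170 (Lpr_gt (f633374 IH) (Lpe (f674112 IH) (Lpr_et (f674118 IH) (Lpr_gt (f854462 IH) (Lpe (f821878 IH) (Lpe (K59.f633132 IH) (Lpe (K58.f102303 IH) (Lpr_et (f103453 IH) (Lpr_gt (f103400 IH) (Lpe (f103406 IH) (Lpn (LP (LK LD1_c27 LD2_c8 LD3_c52)))))))))))))
theorem f854465 : Led Lsl_dt (LP (LK LD1_c27 LD2_c8 LD3_c52)) = (LP (LK LD1_c17 LD2_c27 LD3_c4)) :=
  Leop (Lpr_df (f854464 IH) (Lpn (LP (LK LD1_c27 LD2_c8 LD3_c52))))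
theorem seed_1989 : LEOK LG_d (LK LD1_c27 LD2_c8 LD3_c52) :=
  Leoe_d (LK LD1_c27 LD2_c8 LD3_c52) (f854465 IH)
def v9826 : LQ := Led Lsl_et K58.v3085
def v30453 : LQ := Led Lsl_gt v9826
theorem f854482 : Led Lsl_gt v9826 = v30453 :=
  Lrfl
theorem f677710 : Led Lsl_et K58.v3085 = v9826 :=
  Lrfl
theorem f494891 : Led Lsl_dt (LP (LK LD1_c6 LD2_c42 LD3_c49)) = (LP (LK LD1_c12 LD2_c50 LD3_c33)) :=
  Lre_d IH (LK LD1_c6 LD2_c42 LD3_c49) (LK LD1_c12 LD2_c50 LD3_c33) Lrfl Lrfl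
theorem f770351 : Led Lsl_gt (LP (LK LD1_c12 LD2_c50 LD3_c33)) = (LP (LK LD1_c9 LD2_c22 LD3_c2)) :=
  Lgr Lrot112 (Lpe (f494891 IH) (Lpr_et (K59.f507240 IH) (Lpr_gf (K58.f652270 IH) (Lpqs (K58.f770164 IH) (Lpe (K58.f99195 IH) (Lpr_dt (K3.f99198 IH) (Lpr_gf (K3.f102001 IH) (Lpe (K1.f13683 IH) (Lpe (K3.f98915 IH) (Lpe (K60.f98933 IH) (Lpr_dt (K37.f98901 IH) (Lpn (LP (LK LD1_c9 LD2_c22 LD3_c2))))))))))))))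
theorem f775662 : Led Lsl_gt K59.v18464 = K58.v9825 :=
  Lgr Lrot94 (Lpe (K59.f775491 IH) (Lpr_gt (K59.f775492 IH) (Lpr_dt (f494891 IH) (Lpr_gt (f770351 IH) (Lpr_dt (K42.f102327 IH) (Lpe (K58.f102324 IH) (Lpr_df (K58.f102322 IH) (Lpr_gf (K59.f633111 IH) (Lpq (K59.f770362 IH) (Lpr_df (K58.f677704 IH) (Lpn K58.v9825)))))))))))
theorem f653592 : Led Lsl_et (LP (LK LD1_c9 LD2_c27 LD3_c7)) = (LP (LK LD1_c4 LD2_c47 LD3_c4)) :=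
  Lre_e IH (LK LD1_c9 LD2_c27 LD3_c7) (LK LD1_c4 LD2_c47 LD3_c4) Lrfl Lrfl
theorem f854483 : Led Lsl_df (LP (LK LD1_c12 LD2_c16 LD3_c3)) = v30453 :=
  Lgr Lrot135 (Lpr_gt (K57.f761235 IH) (Lpe (K65.f136147 IH) (Lpe (K65.f708539 IH) (Lpe (K51.f674554 IH) (Lpe (f653592 IH) (Lpe (K65.f775499 IH) (Lpr_gt (f775662 IH) (Lpe (K58.f677702 IH) (Lpr_et (f677710 IH) (Lpr_gt (f854482 IH) (Lpn v30453)))))))))))
theorem f153098 : Led Lsl_dt (LP (LK LD1_c9 LD2_c28 LD3_c0)) = (LP (LK LD1_c17 LD2_c27 LD3_c29)) :=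
  Lre_d IH (LK LD1_c9 LD2_c28 LD3_c0) (LK LD1_c17 LD2_c27 LD3_c29) Lrfl Lrfl
theorem f837693 : Led Lsl_ct (LP (LK LD1_c17 LD2_c27 LD3_c29)) = (LP (LK LD1_c27 LD2_c16 LD3_c22)) :=
  Lgr Lrot59 (Lpr_cf (K65.f837687 IH) (Lpn (LP (LK LD1_c27 LD2_c16 LD3_c22))))
theorem f101946 : Led Lsl_dt (LP (LK LD1_c27 LD2_c16 LD3_c22)) = (LP (LK LD1_c17 LD2_c26 LD3_c34)) :=
  Lre_d IH (LK LD1_c27 LD2_c16 LD3_c22) (LK LD1_c17 LD2_c26 LD3_c34) Lrfl Lrfl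
theorem f101947 : Led Lsl_ct (LP (LK LD1_c17 LD2_c26 LD3_c34)) = (LP (LK LD1_c9 LD2_c27 LD3_c30)) :=
  Lre_c IH (LK LD1_c17 LD2_c26 LD3_c34) (LK LD1_c9 LD2_c27 LD3_c30) Lrfl Lrfl
theorem f101938 : Led Lsl_dt (LP (LK LD1_c9 LD2_c27 LD3_c30)) = (LP (LK LD1_c17 LD2_c10 LD3_c40)) :=
  Lgr Lrot42 (Lpr_df (K65.f101928 IH) (Lpn (LP (LK LD1_c17 LD2_c10 LD3_c40))))
theorem f101941 : Led Lsl_et (LP (LK LD1_c9 LD2_c16 LD3_c3)) = (LP (LK LD1_c17 LD2_c10 LD3_c40)) :=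
  Lre_e IH (LK LD1_c9 LD2_c16 LD3_c3) (LK LD1_c17 LD2_c10 LD3_c40) Lrfl Lrfl
theorem f766892 : Led Lsl_ct (LP (LK LD1_c17 LD2_c10 LD3_c40)) = K65.v18418 :=
  Lgr Lrot15 (Lpe (f101941 IH) (Lpr_cf (K9.f139941 IH) (Lpr_ef (K65.f766889 IH) (Lpn K65.v18418))))
theorem f759189 : Led Lsl_at (LP (LK LD1_c6 LD2_c29 LD3_c28)) = (LP (LK LD1_c6 LD2_c19 LD3_c24)) :=
  Lgr Lrot26 (Lpr_ff (K57.f759183 IH) (Lpq (K57.f708514 IH) (Lpr_gt (K57.f77810 IH) (Lpr_gt (K51.f110466 IH) (Lpn (LP (LK LD1_c6 LD2_c19 LD3_c24)))))))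
theorem f708524 : Led Lsl_et (LP (LK LD1_c6 LD2_c19 LD3_c24)) = (LP (LK LD1_c12 LD2_c14 LD3_c8)) :=
  Lre_e IH (LK LD1_c6 LD2_c19 LD3_c24) (LK LD1_c12 LD2_c14 LD3_c8) Lrfl Lrfl
theorem f766890 : Led Lsl_at (LP (LK LD1_c12 LD2_c14 LD3_c8)) = K65.v18418 :=
  Lgr Lrot80 (Lpe (f708524 IH) (Lpe (f759189 IH) (Lpr_ef (K65.f766889 IH) (Lpn K65.v18418))))
theorem f854487 : Led Lsl_ff (LP (LK LD1_c12 LD2_c14 LD3_c8)) = v30453 :=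
  Lgr Lrot103 (Lpr_at (f766890 IH) (Lpe (f766892 IH) (Lpe (f101938 IH) (Lpe (f101947 IH) (Lpe (f101946 IH) (Lpe (f837693 IH) (Lpe (f153098 IH) (Lpr_cf (K65.f837675 IH) (Lpr_df (f854483 IH) (Lpn v30453))))))))))
theorem f110467 : Led Lsl_et (LP (LK LD1_c12 LD2_c14 LD3_c8)) = (LP (LK LD1_c6 LD2_c19 LD3_c24)) :=
  Lre_e IH (LK LD1_c12 LD2_c14 LD3_c8) (LK LD1_c6 LD2_c19 LD3_c24) Lrfl Lrfl
theorem f701322 : Led Lsl_et (LP (LK LD1_c4 LD2_c40 LD3_c41)) = (LP (LK LD1_c9 LD2_c16 LD3_c48)) :=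
  Lre_e IH (LK LD1_c4 LD2_c40 LD3_c41) (LK LD1_c9 LD2_c16 LD3_c48) Lrfl Lrfl
theorem f708525 : Led Lsl_cf (LP (LK LD1_c12 LD2_c14 LD3_c8)) = (LP (LK LD1_c9 LD2_c16 LD3_c48)) :=
  Lgr Lrot39 (Lpr_et (f110467 IH) (Lpqs (K51.f708519 IH) (Lpe (K50.f701331 IH) (Lpr_et (f701322 IH) (Lpn (LP (LK LD1_c9 LD2_c16 LD3_c48)))))))
theorem f708527 : Led Lsl_ct (LP (LK LD1_c12 LD2_c14 LD3_c8)) = (LP (LK LD1_c9 LD2_c16 LD3_c48)) :=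
  Lgr Lrot59 (Lpr_cf (f708525 IH) (Lpn (LP (LK LD1_c9 LD2_c16 LD3_c48))))
theorem f701376 : Led Lsl_ft (LP (LK LD1_c9 LD2_c16 LD3_c48)) = (LP (LK LD1_c17 LD2_c11 LD3_c48)) :=
  Lre_f IH (LK LD1_c9 LD2_c16 LD3_c48) (LK LD1_c17 LD2_c11 LD3_c48) Lrfl Lrfl
theorem f854488 : Led Lsl_ct (LP (LK LD1_c17 LD2_c11 LD3_c48)) = v30453 :=
  Lgr Lrot40 (Lpe (f701376 IH) (Lpe (f708527 IH) (Lpr_ff (f854487 IH) (Lpn v30453))))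
theorem f854485 : Led Lsl_dt (LP (LK LD1_c12 LD2_c16 LD3_c3)) = v30453 :=
  Lgr Lrot42 (Lpr_df (f854483 IH) (Lpn v30453))
theorem f641594 : Led Lsl_gt (LP (LK LD1_c4 LD2_c47 LD3_c14)) = (LP (LK LD1_c9 LD2_c27 LD3_c29)) :=
  Lre_g IH (LK LD1_c4 LD2_c47 LD3_c14) (LK LD1_c9 LD2_c27 LD3_c29) Lrfl Lrfl
theorem f854491 : Led Lsl_df (LP (LK LD1_c17 LD2_c11 LD3_c48)) = (LP (LK LD1_c9 LD2_c27 LD3_c29)) :=
  Lgr Lrot174 (Lpr_ct (f854488 IH) (Lpe (f854485 IH) (Lpe (K57.f126993 IH) (Lpr_df (K5.f126983 IH) (Lpr_gf (K52.f702328 IH) (Lpq (K52.f715912 IH) (Lpe (K52.f704388 IH) (Lpr_gt (K52.f110920 IH) (Lpr_dt (K65.f101925 IH) (Lpr_gt (f641594 IH) (Lpn (LP (LK LD1_c9 LD2_c27 LD3_c29)))))))))))))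
theorem f854492 : Led Lsl_dt (LP (LK LD1_c9 LD2_c27 LD3_c29)) = (LP (LK LD1_c17 LD2_c11 LD3_c48)) :=
  Leop (Lpr_df (f854491 IH) (Lpn (LP (LK LD1_c9 LD2_c27 LD3_c29))))
theorem seed_1990 : LEOK LG_d (LK LD1_c9 LD2_c27 LD3_c29) :=
  Leoe_d (LK LD1_c9 LD2_c27 LD3_c29) (f854492 IH)
theorem f715918 : Led Lsl_dt (LP (LK LD1_c9 LD2_c28 LD3_c1)) = (LP (LK LD1_c17 LD2_c27 LD3_c31)) :=
  Lre_d IH (LK LD1_c9 LD2_c28 LD3_c1) (LK LD1_c17 LD2_c27 LD3_c31) Lrfl Lrfl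
theorem f854498 : Led Lsl_ct (LP (LK LD1_c17 LD2_c26 LD3_c31)) = (LP (LK LD1_c9 LD2_c27 LD3_c29)) :=
  Lre_c IH (LK LD1_c17 LD2_c26 LD3_c31) (LK LD1_c9 LD2_c27 LD3_c29) Lrfl Lrfl
theorem f854499 : Led Lsl_dt (LP (LK LD1_c27 LD2_c16 LD3_c18)) = (LP (LK LD1_c17 LD2_c26 LD3_c31)) :=
  Lre_d IH (LK LD1_c27 LD2_c16 LD3_c18) (LK LD1_c17 LD2_c26 LD3_c31) Lrfl Lrfl
theorem f854500 : Led Lsl_ct (LP (LK LD1_c17 LD2_c27 LD3_c31)) = (LP (LK LD1_c27 LD2_c16 LD3_c18)) :=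
  Lgr Lrot176 (Lpe (f715918 IH) (Lpr_cf (K52.f715913 IH) (Lpr_df (K65.f766893 IH) (Lpe (f766892 IH) (Lpe (f101938 IH) (Lpe (f101947 IH) (Lpe (f101946 IH) (Lpe (f837693 IH) (Lpe (f153098 IH) (Lpr_cf (K65.f837675 IH) (Lpr_df (f854483 IH) (Lpe (f854488 IH) (Lpr_df (f854491 IH) (Lpe (f854498 IH) (Lpe (f854499 IH) (Lpn (LP (LK LD1_c27 LD2_c16 LD3_c18))))))))))))))))))
theorem f854501 : Led Lsl_ct (LP (LK LD1_c17 LD2_c27 LD3_c31)) = (LP (LK LD1_c27 LD2_c16 LD3_c18)) :=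
  Leop (Lpe (f854500 IH) (Lpn (LP (LK LD1_c17 LD2_c27 LD3_c31))))
theorem seed_1991 : LEOK LG_c (LK LD1_c17 LD2_c27 LD3_c31) :=
  Leoe_c (LK LD1_c17 LD2_c27 LD3_c31) (f854501 IH)
theorem f854490 : Led Lsl_cf (LP (LK LD1_c17 LD2_c11 LD3_c48)) = v30453 :=
  Lgr Lrot11 (Lpr_ct (f854488 IH) (Lpn v30453))
def v30452 : LQ := Led Lsl_et K64.v9824
theorem f854474 : Led Lsl_et K64.v9824 = v30452 :=
  Lrfl
theorem f677712 : Led Lsl_ef K58.v3085 = v9826 :=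
  Lgr Lrot88 (Lpr_et (f677710 IH) (Lpn v9826))
theorem f854476 : Led Lsl_cf v9826 = v30452 :=
  Lgr Lrot39 (Lpe (f677712 IH) (Lpr_ct (K64.f677699 IH) (Lpr_et (f854474 IH) (Lpn v30452))))
theorem f854477 : Led Lsl_ef K64.v9824 = v30452 :=
  Lgr Lrot88 (Lpr_et (f854474 IH) (Lpn v30452))
theorem f854479 : Led Lsl_ct v9826 = v30452 :=
  Lgr Lrot15 (Lpe (f677710 IH) (Lpr_cf (f677700 IH) (Lpr_ef (f854477 IH) (Lpn v30452))))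
def v3088 : LQ := Led Lsl_et K51.v497
theorem f623813 : Led Lsl_et K51.v497 = v3088 :=
  Lrfl
theorem f623814 : Led Lsl_ef K51.v497 = v3088 :=
  Lgr Lrot88 (Lpr_et (f623813 IH) (Lpn v3088))
theorem f677711 : Led Lsl_bf v3088 = v9826 :=
  Lgr Lrot96 (Lpe (f623814 IH) (Lpr_bt (K58.f623804 IH) (Lpr_et (f677710 IH) (Lpn v9826))))
def v9831 : LQ := Led Lsl_gt v3088
theorem f677727 : Led Lsl_gt v3088 = v9831 :=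
  Lrfl
def v5777 : LQ := Led Lsl_bt (LP (LK LD1_c3 LD2_c13 LD3_c15))
theorem f649311 : Led Lsl_bt (LP (LK LD1_c3 LD2_c13 LD3_c15)) = v5777 :=
  Lrfl
theorem f639255 : Led Lsl_ft (LP (LK LD1_c3 LD2_c6 LD3_c61)) = (LP (LK LD1_c3 LD2_c13 LD3_c15)) :=
  Lgr Lrot48 (Lpr_ff (K48.f639251 IH) (Lpn (LP (LK LD1_c3 LD2_c13 LD3_c15))))
theorem f649314 : Led Lsl_ff (LP (LK LD1_c6 LD2_c19 LD3_c8)) = v5777 :=
  Lgr Lrot25 (Lpr_bt (K38.f67058 IH) (Lpr_ft (f639255 IH) (Lpr_bt (f649311 IH) (Lpn v5777))))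
theorem f649315 : Led Lsl_dt K51.v5532 = v5777 :=
  Lgr Lrot60 (Lpe (f648116 IH) (Lpe (K51.f647871 IH) (Lpr_ff (f649314 IH) (Lpn v5777))))
theorem f104227 : Led Lsl_et (LP (LK LD1_c0 LD2_c41 LD3_c36)) = (LP (LK LD1_c1 LD2_c29 LD3_c61)) :=
  Lre_e IH (LK LD1_c0 LD2_c41 LD3_c36) (LK LD1_c1 LD2_c29 LD3_c61) Lrfl Lrfl
theorem f632592 : Led Lsl_et K51.v1852 = K51.v4310 :=
  Lgr Lrot69 (Lpe (K51.f504572 IH) (Lpe (f104227 IH) (Lpe (K4.f120170 IH) (Lpe (K5.f120179 IH) (Lpr_ff (K51.f632588 IH) (Lpn K51.v4310))))))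
theorem f677728 : Led Lsl_df (LP (LK LD1_c6 LD2_c20 LD3_c61)) = v9831 :=
  Lgr Lrot135 (Lpr_gt (K57.f647766 IH) (Lpe (K57.f647516 IH) (Lpr_et (f632592 IH) (Lpe (K51.f632593 IH) (Lpe (K51.f91452 IH) (Lpe (K51.f91453 IH) (Lpr_gt (K51.f649106 IH) (Lpe (K51.f623808 IH) (Lpr_et (f623813 IH) (Lpr_gt (f677727 IH) (Lpn v9831)))))))))))
theorem f677729 : Led Lsl_dt (LP (LK LD1_c6 LD2_c20 LD3_c61)) = v9831 :=
  Lgr Lrot42 (Lpr_df (f677728 IH) (Lpn v9831))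
theorem f707719 : v5777 = v9831 :=
  Lefun (Lecon (f649315 IH) (K51.f707712 IH)) (f677729 IH)
theorem f78044 : Led Lsl_ct (LP (LK LD1_c4 LD2_c40 LD3_c48)) = (LP (LK LD1_c9 LD2_c16 LD3_c59)) :=
  Lre_c IH (LK LD1_c4 LD2_c40 LD3_c48) (LK LD1_c9 LD2_c16 LD3_c59) Lrfl Lrfl
theorem f854480 : Led Lsl_gt (LP (LK LD1_c9 LD2_c16 LD3_c59)) = v30452 :=
  Lgr Lrot149 (Lpe (f78044 IH) (Lpr_gf (K59.f701467 IH) (Lpqs (K59.f770522 IH) (Lpe (K59.f701598 IH) (Lpr_ct (K59.f501058 IH) (Lpe (K32.f501078 IH) (Lpr_cf (K24.f454831 IH) (Lpr_bt (f649311 IH) (Lpqs (f707719 IH) (Lpe (f677727 IH) (Lpr_bf (f677711 IH) (Lpr_ct (f854479 IH) (Lpn v30452)))))))))))))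
theorem f701427 : Led Lsl_dt (LP (LK LD1_c9 LD2_c16 LD3_c59)) = (LP (LK LD1_c17 LD2_c12 LD3_c2)) :=
  Lre_d IH (LK LD1_c9 LD2_c16 LD3_c59) (LK LD1_c17 LD2_c12 LD3_c2) Lrfl Lrfl
theorem f110563 : Led Lsl_et (LP (LK LD1_c4 LD2_c45 LD3_c35)) = (LP (LK LD1_c2 LD2_c20 LD3_c53)) :=
  Lre_e IH (LK LD1_c4 LD2_c45 LD3_c35) (LK LD1_c2 LD2_c20 LD3_c53) Lrfl Lrfl
theorem f102983 : Led Lsl_dt (LP (LK LD1_c4 LD2_c45 LD3_c35)) = (LP (LK LD1_c9 LD2_c23 LD3_c52)) :=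
  Lre_d IH (LK LD1_c4 LD2_c45 LD3_c35) (LK LD1_c9 LD2_c23 LD3_c52) Lrfl Lrfl
theorem f701426 : Led Lsl_et (LP (LK LD1_c9 LD2_c16 LD3_c59)) = (LP (LK LD1_c4 LD2_c40 LD3_c46)) :=
  Lre_e IH (LK LD1_c9 LD2_c16 LD3_c59) (LK LD1_c4 LD2_c40 LD3_c46) Lrfl Lrfl
theorem f708650 : Led Lsl_gf (LP (LK LD1_c9 LD2_c23 LD3_c52)) = (LP (LK LD1_c17 LD2_c12 LD3_c2)) :=
  Lgr Lrot145 (Lpe (f102983 IH) (Lpr_et (f110563 IH) (Lpe (K3.f102969 IH) (Lpr_dt (K3.f78340 IH) (Lpe (K5.f110518 IH) (Lpe (K3.f78646 IH) (Lpr_et (K28.f78651 IH) (Lpq (K51.f708647 IH) (Lpe (K51.f701421 IH) (Lpe (f701426 IH) (Lpr_dt (f701427 IH) (Lpn (LP (LK LD1_c17 LD2_c12 LD3_c2))))))))))))))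
theorem f136210 : Led Lsl_ct (LP (LK LD1_c9 LD2_c23 LD3_c52)) = (LP (LK LD1_c17 LD2_c20 LD3_c47)) :=
  Lre_c IH (LK LD1_c9 LD2_c23 LD3_c52) (LK LD1_c17 LD2_c20 LD3_c47) Lrfl Lrfl
theorem f854510 : Led Lsl_gt (LP (LK LD1_c17 LD2_c20 LD3_c47)) = (LP (LK LD1_c17 LD2_c26 LD3_c31)) :=
  Lgr Lrot150 (Lpe (f136210 IH) (Lpr_gf (f708650 IH) (Lpe (f701427 IH) (Lpr_gt (f854480 IH) (Lpe (f854476 IH) (Lpr_gt (f854482 IH) (Lpe (f854490 IH) (Lpr_df (f854491 IH) (Lpe (f854498 IH) (Lpn (LP (LK LD1_c17 LD2_c26 LD3_c31))))))))))))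
theorem f854511 : Led Lsl_gt (LP (LK LD1_c17 LD2_c20 LD3_c47)) = (LP (LK LD1_c17 LD2_c26 LD3_c31)) :=
  Leop (Lpe (f854510 IH) (Lpn (LP (LK LD1_c17 LD2_c20 LD3_c47))))
theorem seed_1992 : LEOK LG_g (LK LD1_c17 LD2_c20 LD3_c47) :=
  Leoe_g (LK LD1_c17 LD2_c20 LD3_c47) (f854511 IH)
def v30455 : LQ := Led Lsl_dt v9826
theorem f854549 : Led Lsl_dt v9826 = v30455 :=
  Lrfl
theorem f854553 : Led Lsl_gt (LP (LK LD1_c12 LD2_c16 LD3_c25)) = v30455 :=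
  Lgr Lrot139 (Lpe (f703318 IH) (Lpq (K51.f707743 IH) (Lpe (K51.f703379 IH) (Lpe (K2.f23532 IH) (Lpr_dt (K2.f23539 IH) (Lpe (K2.f23504 IH) (Lpe (K3.f98849 IH) (Lpr_et (K58.f98850 IH) (Lpq (K58.f770360 IH) (Lpe (K58.f677695 IH) (Lpr_ef (f677712 IH) (Lpr_dt (f854549 IH) (Lpn v30455)))))))))))))
theorem f633020 : Led Lsl_dt (LP (LK LD1_c12 LD2_c50 LD3_c37)) = (LP (LK LD1_c21 LD2_c58 LD3_c58)) :=
  Lre_d IH (LK LD1_c12 LD2_c50 LD3_c37) (LK LD1_c21 LD2_c58 LD3_c58) Lrfl Lrfl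
theorem f854551 : Led Lsl_df v9826 = v30455 :=
  Lgr Lrot38 (Lpr_dt (f854549 IH) (Lpn v30455))
theorem f854554 : Led Lsl_gt (LP (LK LD1_c21 LD2_c58 LD3_c58)) = (LP (LK LD1_c17 LD2_c27 LD3_c29)) :=
  Lgr Lrot49 (Lpe (f633020 IH) (Lpr_gf (K58.f770234 IH) (Lpe (K58.f703319 IH) (Lpr_gt (f854553 IH) (Lpe (f854551 IH) (Lpr_gt (f854482 IH) (Lpe (f854483 IH) (Lpe (K65.f837680 IH) (Lpe (K65.f837682 IH) (Lpn (LP (LK LD1_c17 LD2_c27 LD3_c29))))))))))))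
theorem f854555 : Led Lsl_gt (LP (LK LD1_c21 LD2_c58 LD3_c58)) = (LP (LK LD1_c17 LD2_c27 LD3_c29)) :=
  Leop (Lpe (f854554 IH) (Lpn (LP (LK LD1_c21 LD2_c58 LD3_c58))))
theorem seed_1993 : LEOK LG_g (LK LD1_c21 LD2_c58 LD3_c58) :=
  Leoe_g (LK LD1_c21 LD2_c58 LD3_c58) (f854555 IH)
def v10541 : LQ := Led Lsl_dt K57.v3375
def v31709 : LQ := Led Lsl_gt v10541
theorem f859824 : Led Lsl_gt v10541 = v31709 :=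
  Lrfl
theorem f680806 : Led Lsl_dt K57.v3375 = v10541 :=
  Lrfl
theorem f859828 : Led Lsl_dt v29664 = v31709 :=
  Lgr Lrot56 (Lpe (f850220 IH) (Lpe (K60.f674403 IH) (Lpe (K58.f527234 IH) (Lpr_dt (K4.f104122 IH) (Lpe (K5.f120984 IH) (Lpe (K4.f124110 IH) (Lpr_et (K56.f459397 IH) (Lpr_gt (K57.f625375 IH) (Lpr_dt (f680806 IH) (Lpr_gt (f859824 IH) (Lpn v31709)))))))))))
theorem f416128 : Led Lsl_ct (LP (LK LD1_c3 LD2_c2 LD3_c47)) = (LP (LK LD1_c6 LD2_c12 LD3_c22)) :=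
  Lre_c IH (LK LD1_c3 LD2_c2 LD3_c47) (LK LD1_c6 LD2_c12 LD3_c22) Lrfl Lrfl
def v17149 : LQ := Led Lsl_dt (LP (LK LD1_c6 LD2_c12 LD3_c26))
theorem f756365 : Led Lsl_dt (LP (LK LD1_c6 LD2_c12 LD3_c26)) = v17149 :=
  Lrfl
theorem f756366 : Led Lsl_df (LP (LK LD1_c6 LD2_c12 LD3_c26)) = v17149 :=
  Lgr Lrot38 (Lpr_dt (f756365 IH) (Lpn v17149))
def v13936 : LQ := Led Lsl_at (LP (LK LD1_c4 LD2_c50 LD3_c8))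
theorem f716267 : Led Lsl_at (LP (LK LD1_c4 LD2_c50 LD3_c8)) = v13936 :=
  Lrfl
theorem f144082 : Led Lsl_bt (LP (LK LD1_c3 LD2_c21 LD3_c60)) = (LP (LK LD1_c1 LD2_c37 LD3_c17)) :=
  Lre_b IH (LK LD1_c3 LD2_c21 LD3_c60) (LK LD1_c1 LD2_c37 LD3_c17) Lrfl Lrfl
theorem f435255 : Led Lsl_bt (LP (LK LD1_c2 LD2_c22 LD3_c53)) = (LP (LK LD1_c4 LD2_c50 LD3_c8)) :=
  Lre_b IH (LK LD1_c2 LD2_c22 LD3_c53) (LK LD1_c4 LD2_c50 LD3_c8) Lrfl Lrfl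
theorem f633934 : Led Lsl_ff (LP (LK LD1_c3 LD2_c21 LD3_c60)) = (LP (LK LD1_c4 LD2_c50 LD3_c8)) :=
  Lgr Lrot25 (Lpr_bt (f144082 IH) (Lpr_ft (K52.f509678 IH) (Lpqs (K52.f633568 IH) (Lpr_bt (f435255 IH) (Lpn (LP (LK LD1_c4 LD2_c50 LD3_c8)))))))
theorem f633938 : Led Lsl_ft (LP (LK LD1_c3 LD2_c21 LD3_c60)) = (LP (LK LD1_c4 LD2_c50 LD3_c8)) :=
  Lgr Lrot48 (Lpr_ff (f633934 IH) (Lpn (LP (LK LD1_c4 LD2_c50 LD3_c8))))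
def v6454 : LQ := Led Lsl_at (LP (LK LD1_c3 LD2_c21 LD3_c60))
theorem f653472 : Led Lsl_at (LP (LK LD1_c3 LD2_c21 LD3_c60)) = v6454 :=
  Lrfl
theorem f653473 : Led Lsl_af (LP (LK LD1_c3 LD2_c21 LD3_c60)) = v6454 :=
  Lgr Lrot0 (Lpr_at (f653472 IH) (Lpn v6454))
theorem f716271 : Led Lsl_ff v6454 = v13936 :=
  Lgr Lrot30 (Lpe (f653473 IH) (Lpr_ft (f633938 IH) (Lpr_at (f716267 IH) (Lpn v13936))))
theorem f415768 : Led Lsl_gt (LP (LK LD1_c6 LD2_c47 LD3_c40)) = (LP (LK LD1_c3 LD2_c21 LD3_c60)) :=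
  Lre_g IH (LK LD1_c6 LD2_c47 LD3_c40) (LK LD1_c3 LD2_c21 LD3_c60) Lrfl Lrfl
theorem f716275 : Led Lsl_gf (LP (LK LD1_c6 LD2_c47 LD3_c40)) = v13936 :=
  Lgr Lrot47 (Lpr_gt (f415768 IH) (Lpr_af (f653473 IH) (Lpr_ff (f716271 IH) (Lpn v13936))))
theorem f649910 : Led Lsl_et K48.v2016 = K48.v5873 :=
  Lgr Lrot87 (Lpr_ef (K48.f649909 IH) (Lpn K48.v5873))
theorem f663670 : K48.v5873 = K49.v5827 :=
  Lefun (Lecon (f649910 IH) (K48.f663651 IH).symm) (K49.f649685 IH)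
theorem f663585 : Led Lsl_ft K48.v5873 = (LP (LK LD1_c12 LD2_c4 LD3_c14)) :=
  Lgr Lrot48 (Lpr_ff (K48.f663582 IH) (Lpn (LP (LK LD1_c12 LD2_c4 LD3_c14))))
theorem f663581 : Led Lsl_af K48.v5875 = (LP (LK LD1_c12 LD2_c4 LD3_c14)) :=
  Lgr Lrot0 (Lpr_at (K48.f663580 IH) (Lpn (LP (LK LD1_c12 LD2_c4 LD3_c14))))
theorem f653519 : Led Lsl_gt (LP (LK LD1_c12 LD2_c4 LD3_c15)) = (LP (LK LD1_c6 LD2_c12 LD3_c26)) :=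
  Lre_g IH (LK LD1_c12 LD2_c4 LD3_c15) (LK LD1_c6 LD2_c12 LD3_c26) Lrfl Lrfl
theorem f663821 : K48.v5875 = (LP (LK LD1_c6 LD2_c12 LD3_c26)) :=
  (Llr Lrot26 (Lpr_af (f663581 IH) (Lpe (f663585 IH) (Lpqs (f663670 IH) (Lpqs (K49.f663542 IH) (Lpr_gt (K58.f653520 IH) (Lpr_gt (f653519 IH) (Lpn (LP (LK LD1_c6 LD2_c12 LD3_c26)))))))))).symm
theorem f57168 : Led Lsl_gt (LP (LK LD1_c12 LD2_c4 LD3_c20)) = (LP (LK LD1_c6 LD2_c12 LD3_c24)) :=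
  Lre_g IH (LK LD1_c12 LD2_c4 LD3_c20) (LK LD1_c6 LD2_c12 LD3_c24) Lrfl Lrfl
theorem f663890 : Led Lsl_ft (LP (LK LD1_c12 LD2_c4 LD3_c20)) = K48.v5869 :=
  Lgr Lrot2 (Lpr_gt (f57168 IH) (Lpq (K57.f663884 IH) (Lpe (K57.f649895 IH) (Lpr_af (K59.f649898 IH) (Lpn K48.v5869)))))
theorem f663645 : (LP (LK LD1_c1 LD2_c33 LD3_c41)) = K48.v5825 :=
  Lefun (Lecon (Lfl_ff (K46.f506903 IH)) (K48.f663635 IH)) (K48.f649600 IH)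
theorem f663896 : Led Lsl_ef (LP (LK LD1_c12 LD2_c4 LD3_c20)) = K48.v5875 :=
  Lgr Lrot21 (Lpr_ft (f663890 IH) (Lpqs (K48.f663632 IH) (Lpr_et (K48.f148373 IH) (Lpr_ft (K48.f649600 IH) (Lpq (f663645 IH) (Lpr_et (K48.f438911 IH) (Lpr_ft (K48.f649915 IH) (Lpn K48.v5875))))))))
theorem f756368 : Led Lsl_gt K49.v9252 = v17149 :=
  Lgr Lrot112 (Lpe (K49.f674901 IH) (Lpr_et (K49.f674904 IH) (Lpr_gf (K49.f675202 IH) (Lpe (K49.f634069 IH) (Lpr_dt (K49.f84592 IH) (Lpe (K49.f634059 IH) (Lpe (K49.f675203 IH) (Lpe (f57168 IH) (Lpr_ef (f663896 IH) (Lpqs (f663821 IH) (Lpr_dt (f756365 IH) (Lpn v17149))))))))))))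
theorem f653474 : Led Lsl_df K57.v2205 = v6454 :=
  Lgr Lrot18 (Lpe (K57.f509665 IH) (Lpr_dt (K65.f446098 IH) (Lpr_at (f653472 IH) (Lpn v6454))))
theorem f716273 : Led Lsl_dt K57.v4519 = v13936 :=
  Lgr Lrot60 (Lpe (K57.f634351 IH) (Lpr_df (f653474 IH) (Lpr_ff (f716271 IH) (Lpn v13936))))
theorem f760568 : v13936 = K49.v9252 :=
  Lefun (Lecon (f716273 IH) (K57.f760555 IH)) (K49.f674901 IH)
theorem f760578 : (LP (LK LD1_c6 LD2_c47 LD3_c40)) = v17149 :=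
  Lefun (Lecon (Lfl_gf (f716275 IH)) (f760568 IH)) (f756368 IH)
theorem f633956 : Led Lsl_gt (LP (LK LD1_c6 LD2_c47 LD3_c41)) = (LP (LK LD1_c12 LD2_c58 LD3_c15)) :=
  Lre_g IH (LK LD1_c6 LD2_c47 LD3_c41) (LK LD1_c12 LD2_c58 LD3_c15) Lrfl Lrfl
theorem f859832 : Led Lsl_ct (LP (LK LD1_c12 LD2_c58 LD3_c15)) = v31709 :=
  Lgr Lrot151 (Lpe (f633956 IH) (Lpe (K65.f144085 IH) (Lpe (f415768 IH) (Lpqs (f760578 IH) (Lpe (f756366 IH) (Lpr_gt (K58.f416120 IH) (Lpr_ct (f416128 IH) (Lpr_gt (f756327 IH) (Lpq (f850328 IH) (Lpr_ct (f850224 IH) (Lpr_dt (f859828 IH) (Lpn v31709))))))))))))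
theorem f859831 : Led Lsl_ef (LP (LK LD1_c12 LD2_c49 LD3_c46)) = v31709 :=
  Lgr Lrot73 (Lpr_dt (K61.f652085 IH) (Lpr_et (K60.f779681 IH) (Lpe (K60.f779689 IH) (Lpr_et (f850216 IH) (Lpr_dt (f859828 IH) (Lpn v31709))))))
theorem f859834 : Led Lsl_ef (LP (LK LD1_c12 LD2_c58 LD3_c15)) = (LP (LK LD1_c21 LD2_c58 LD3_c1)) :=
  Lgr Lrot28 (Lpr_ct (f859832 IH) (Lpe (f859831 IH) (Lpr_ct (K61.f652177 IH) (Lpn (LP (LK LD1_c21 LD2_c58 LD3_c1))))))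
theorem f859835 : Led Lsl_et (LP (LK LD1_c21 LD2_c58 LD3_c1)) = (LP (LK LD1_c12 LD2_c58 LD3_c15)) :=
  Leop (Lpr_ef (f859834 IH) (Lpn (LP (LK LD1_c21 LD2_c58 LD3_c1))))
theorem seed_1994 : LEOK LG_e (LK LD1_c21 LD2_c58 LD3_c1) :=
  Leoe_e (LK LD1_c21 LD2_c58 LD3_c1) (f859835 IH)
theorem f837664 : Led Lsl_dt (LP (LK LD1_c22 LD2_c8 LD3_c9)) = (LP (LK LD1_c12 LD2_c58 LD3_c15)) :=
  Lre_d IH (LK LD1_c22 LD2_c8 LD3_c9) (LK LD1_c12 LD2_c58 LD3_c15) Lrfl Lrfl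
theorem f859826 : Led Lsl_df v29664 = v31709 :=
  Lgr Lrot84 (Lpe (f850224 IH) (Lpr_df (f782507 IH) (Lpe (f782503 IH) (Lpe (f415744 IH) (Lpq (K56.f754161 IH) (Lpe (K56.f674760 IH) (Lpe (K56.f527308 IH) (Lpr_gt (K57.f625375 IH) (Lpr_dt (f680806 IH) (Lpr_gt (f859824 IH) (Lpn v31709)))))))))))
theorem f850219 : Led Lsl_cf v18601 = v29664 :=
  Lgr Lrot39 (Lpe (f767656 IH) (Lpr_ct (K59.f767651 IH) (Lpqs (K59.f772338 IH) (Lpq (K65.f772343 IH) (Lpr_et (f850216 IH) (Lpn v29664))))))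
theorem f653463 : Led Lsl_ct (LP (LK LD1_c12 LD2_c58 LD3_c12)) = (LP (LK LD1_c22 LD2_c8 LD3_c4)) :=
  Lre_c IH (LK LD1_c12 LD2_c58 LD3_c12) (LK LD1_c22 LD2_c8 LD3_c4) Lrfl Lrfl
theorem f782514 : Led Lsl_dt (LP (LK LD1_c22 LD2_c8 LD3_c4)) = (LP (LK LD1_c30 LD2_c19 LD3_c29)) :=
  Lre_d IH (LK LD1_c22 LD2_c8 LD3_c4) (LK LD1_c30 LD2_c19 LD3_c29) Lrfl Lrfl
theorem f859836 : Led Lsl_cf (LP (LK LD1_c22 LD2_c8 LD3_c9)) = (LP (LK LD1_c30 LD2_c19 LD3_c29)) :=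
  Lgr Lrot116 (Lpr_dt (f837664 IH) (Lpr_ct (f859832 IH) (Lpe (f859826 IH) (Lpe (f850219 IH) (Lpq (f772587 IH) (Lpe (f768052 IH) (Lpr_ff (f768068 IH) (Lpr_dt (f782510 IH) (Lpr_ct (f653463 IH) (Lpr_dt (f782514 IH) (Lpn (LP (LK LD1_c30 LD2_c19 LD3_c29)))))))))))))
theorem f859837 : Led Lsl_ct (LP (LK LD1_c30 LD2_c19 LD3_c29)) = (LP (LK LD1_c22 LD2_c8 LD3_c9)) :=
  Leop (Lpr_cf (f859836 IH) (Lpn (LP (LK LD1_c30 LD2_c19 LD3_c29))))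
theorem seed_1995 : LEOK LG_c (LK LD1_c30 LD2_c19 LD3_c29) :=
  Leoe_c (LK LD1_c30 LD2_c19 LD3_c29) (f859837 IH)
def v31710 : LQ := Led Lsl_gf v10541
theorem f859847 : Led Lsl_gf v10541 = v31710 :=
  Lrfl
theorem f415376 : Led Lsl_dt (LP (LK LD1_c4 LD2_c41 LD3_c50)) = (LP (LK LD1_c9 LD2_c18 LD3_c15)) :=
  Lre_d IH (LK LD1_c4 LD2_c41 LD3_c50) (LK LD1_c9 LD2_c18 LD3_c15) Lrfl Lrfl
theorem f772632 : Led Lsl_af (LP (LK LD1_c12 LD2_c49 LD3_c46)) = (LP (LK LD1_c9 LD2_c18 LD3_c15)) :=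
  Lgr Lrot117 (Lpr_dt (K61.f652085 IH) (Lpq (K59.f772629 IH) (Lpe (K59.f701775 IH) (Lpr_dt (f415376 IH) (Lpn (LP (LK LD1_c9 LD2_c18 LD3_c15)))))))
theorem f772634 : Led Lsl_at (LP (LK LD1_c12 LD2_c49 LD3_c46)) = (LP (LK LD1_c9 LD2_c18 LD3_c15)) :=
  Lgr Lrot100 (Lpr_af (f772632 IH) (Lpn (LP (LK LD1_c9 LD2_c18 LD3_c15))))
def v9189 : LQ := Led Lsl_dt K56.v2508
def v29634 : LQ := Led Lsl_gt v9189
theorem f850009 : Led Lsl_gt v9189 = v29634 :=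
  Lrfl
theorem f673954 : Led Lsl_dt K56.v2508 = v9189 :=
  Lrfl
def v18689 : LQ := Led Lsl_ct (LP (LK LD1_c6 LD2_c32 LD3_c9))
theorem f768060 : Led Lsl_ct (LP (LK LD1_c6 LD2_c32 LD3_c9)) = v18689 :=
  Lrfl
theorem f768062 : Led Lsl_ef K50.v5855 = v18689 :=
  Lgr Lrot28 (Lpe (K50.f649837 IH) (Lpr_et (K62.f649821 IH) (Lpr_ct (f768060 IH) (Lpn v18689))))
theorem f850012 : Led Lsl_dt v18689 = v29634 :=
  Lgr Lrot56 (Lpe (f768062 IH) (Lpqs (K58.f769996 IH) (Lpe (K58.f673928 IH) (Lpe (K58.f523670 IH) (Lpr_dt (K4.f66467 IH) (Lpr_gt (K4.f12569 IH) (Lpe (K1.f12408 IH) (Lpr_et (K56.f12476 IH) (Lpr_gt (K56.f523681 IH) (Lpr_dt (f673954 IH) (Lpr_gt (f850009 IH) (Lpn v29634))))))))))))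
theorem f768063 : Led Lsl_et K50.v5855 = v18689 :=
  Lgr Lrot87 (Lpr_ef (f768062 IH) (Lpn v18689))
theorem f415374 : Led Lsl_dt (LP (LK LD1_c9 LD2_c18 LD3_c15)) = (LP (LK LD1_c4 LD2_c41 LD3_c50)) :=
  Lre_d IH (LK LD1_c9 LD2_c18 LD3_c15) (LK LD1_c4 LD2_c41 LD3_c50) Lrfl Lrfl
theorem f850014 : Led Lsl_ef (LP (LK LD1_c9 LD2_c18 LD3_c15)) = v29634 :=
  Lgr Lrot73 (Lpr_dt (f415374 IH) (Lpr_et (K50.f701776 IH) (Lpe (K50.f701780 IH) (Lpr_et (f768063 IH) (Lpr_dt (f850012 IH) (Lpn v29634))))))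
theorem f850016 : Led Lsl_et (LP (LK LD1_c9 LD2_c18 LD3_c15)) = v29634 :=
  Lgr Lrot87 (Lpr_ef (f850014 IH) (Lpn v29634))
theorem f859846 : Led Lsl_at v29634 = v31709 :=
  Lgr Lrot80 (Lpe (f850016 IH) (Lpe (f772634 IH) (Lpr_ef (f859831 IH) (Lpn v31709))))
theorem f859849 : Led Lsl_ff v29634 = v31710 :=
  Lgr Lrot52 (Lpr_at (f859846 IH) (Lpe (f859824 IH) (Lpr_gf (f859847 IH) (Lpn v31710))))
theorem f859853 : Led Lsl_ft v29634 = v31710 :=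
  Lgr Lrot48 (Lpr_ff (f859849 IH) (Lpn v31710))
def v13235 : LQ := Led Lsl_et (LP (LK LD1_c4 LD2_c41 LD3_c52))
theorem f701836 : Led Lsl_et (LP (LK LD1_c4 LD2_c41 LD3_c52)) = v13235 :=
  Lrfl
theorem f850015 : Led Lsl_bt v13235 = v29634 :=
  Lgr Lrot119 (Lpe (f701836 IH) (Lpe (K50.f701807 IH) (Lpr_ef (f850014 IH) (Lpn v29634))))
def v30992 : LQ := Led Lsl_gt K65.v10170
theorem f856623 : Led Lsl_gt K65.v10170 = v30992 :=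
  Lrfl
theorem f150682 : Led Lsl_ft (LP (LK LD1_c0 LD2_c42 LD3_c27)) = (LP (LK LD1_c1 LD2_c6 LD3_c3)) :=
  Lgr Lrot4 (Lpe (K5.f69139 IH) (Lpr_ff (K7.f150676 IH) (Lpe (K2.f60964 IH) (Lpn (LP (LK LD1_c1 LD2_c6 LD3_c3))))))
theorem f150673 : Led Lsl_af (LP (LK LD1_c0 LD2_c42 LD3_c27)) = (LP (LK LD1_c1 LD2_c6 LD3_c4)) :=
  Lgr Lrot68 (Lpr_ct (K5.f125475 IH) (Lpr_at (K7.f150660 IH) (Lpr_ct (K7.f61142 IH) (Lpn (LP (LK LD1_c1 LD2_c6 LD3_c4))))))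
theorem f436556 : Led Lsl_ff (LP (LK LD1_c1 LD2_c6 LD3_c4)) = (LP (LK LD1_c0 LD2_c42 LD3_c28)) :=
  Lgr Lrot30 (Lpe (f150673 IH) (Lpr_ft (f150682 IH) (Lpe (K56.f126340 IH) (Lpn (LP (LK LD1_c0 LD2_c42 LD3_c28))))))
theorem f622725 : Led Lsl_et K34.v2239 = K56.v3063 :=
  Lgr Lrot69 (Lpr_ff (K49.f527797 IH) (Lpe (K34.f124431 IH) (Lpr_ff (f436556 IH) (Lpr_ef (K56.f453592 IH) (Lpr_ff (K56.f622724 IH) (Lpn K56.v3063))))))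
theorem f506793 : Led Lsl_at (LP (LK LD1_c3 LD2_c10 LD3_c34)) = K34.v1996 :=
  Lgr Lrot66 (Lpe (K5.f129072 IH) (Lpe (K34.f129061 IH) (Lpr_ff (K46.f506791 IH) (Lpn K34.v1996))))
theorem f506796 : Led Lsl_gt K48.v1920 = K34.v1996 :=
  Lgr Lrot46 (Lpe (K48.f506395 IH) (Lpr_ft (K5.f129072 IH) (Lpr_at (f506793 IH) (Lpn K34.v1996))))
def v25465 : LQ := Led Lsl_ft K57.v5575
theorem f828824 : Led Lsl_ft K57.v5575 = v25465 :=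
  Lrfl
theorem f828828 : Led Lsl_ff K57.v5575 = v25465 :=
  Lgr Lrot3 (Lpr_ft (f828824 IH) (Lpn v25465))
theorem f670890 : Led Lsl_ff K48.v8206 = K48.v8347 :=
  Lgr Lrot3 (Lpr_ft (K48.f670888 IH) (Lpn K48.v8347))
theorem f828831 : Led Lsl_et K48.v8206 = v25465 :=
  Lgr Lrot69 (Lpr_ff (f670890 IH) (Lpe (K48.f670883 IH) (Lpq (K48.f670891 IH) (Lpq (K50.f649379 IH) (Lpe (K50.f648320 IH) (Lpr_ef (K57.f648319 IH) (Lpr_ff (f828828 IH) (Lpn v25465))))))))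
theorem f649232 : Led Lsl_bt (LP (LK LD1_c3 LD2_c12 LD3_c56)) = K57.v5758 :=
  Lgr Lrot119 (Lpe (K51.f59493 IH) (Lpe (K48.f68275 IH) (Lpr_ef (K57.f649231 IH) (Lpn K57.v5758))))
theorem f776315 : Led Lsl_gt K59.v8242 = K57.v5758 :=
  Lgr Lrot164 (Lpr_bf (K59.f772266 IH) (Lpe (K59.f769032 IH) (Lpr_gf (K59.f776310 IH) (Lpe (K65.f776313 IH) (Lpr_gf (K46.f651003 IH) (Lpq (K59.f771922 IH) (Lpe (K59.f652659 IH) (Lpr_ct (K32.f415435 IH) (Lpr_gf (K16.f421007 IH) (Lpe (K11.f445904 IH) (Lpr_bt (f649232 IH) (Lpn K57.v5758))))))))))))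
theorem f828832 : Led Lsl_gf K59.v8242 = v25465 :=
  Lgr Lrot47 (Lpr_gt (f776315 IH) (Lpr_af (K57.f649384 IH) (Lpr_ff (f828828 IH) (Lpn v25465))))
theorem f506428 : Led Lsl_dt K58.v487 = K57.v1927 :=
  Lgr Lrot77 (Lpe (K58.f453584 IH) (Lpe (K5.f82513 IH) (Lpe (K5.f131389 IH) (Lpe (K5.f82505 IH) (Lpr_ef (K57.f506426 IH) (Lpn K57.v1927))))))
def v7830 : LQ := Led Lsl_et K59.v1317
theorem f668634 : Led Lsl_et K59.v1317 = v7830 :=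
  Lrfl
theorem f668635 : Led Lsl_ef K59.v1317 = v7830 :=
  Lgr Lrot88 (Lpr_et (f668634 IH) (Lpn v7830))
theorem f670410 : Led Lsl_dt v7830 = K59.v8221 :=
  Lgr Lrot136 (Lpe (f668635 IH) (Lpe (K59.f494813 IH) (Lpe (K11.f82559 IH) (Lpr_dt (K2.f26085 IH) (Lpe (K3.f26099 IH) (Lpr_df (K34.f124429 IH) (Lpe (K32.f131406 IH) (Lpr_ef (K58.f453587 IH) (Lpr_dt (f506428 IH) (Lpr_gf (K59.f670408 IH) (Lpn K59.v8221)))))))))))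
theorem f648488 : Led Lsl_af K59.v1939 = K59.v5607 :=
  Lgr Lrot45 (Lpr_ft (K59.f648480 IH) (Lpe (K59.f648476 IH) (Lpr_ft (K59.f648487 IH) (Lpn K59.v5607))))
theorem f773302 : Led Lsl_af v7830 = K59.v8242 :=
  Lgr Lrot117 (Lpr_dt (f670410 IH) (Lpq (K59.f773299 IH) (Lpe (f648488 IH) (Lpr_dt (K59.f670488 IH) (Lpn K59.v8242)))))
theorem f773303 : Led Lsl_at v7830 = K59.v8242 :=
  Lgr Lrot100 (Lpr_af (f773302 IH) (Lpn K59.v8242))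
def v5605 : LQ := Led Lsl_dt (LP (LK LD1_c3 LD2_c10 LD3_c52))
theorem f648482 : Led Lsl_dt (LP (LK LD1_c3 LD2_c10 LD3_c52)) = v5605 :=
  Lrfl
theorem f648483 : Led Lsl_df (LP (LK LD1_c3 LD2_c10 LD3_c52)) = v5605 :=
  Lgr Lrot38 (Lpr_dt (f648482 IH) (Lpn v5605))
theorem f670411 : Led Lsl_df v7830 = K59.v8221 :=
  Lgr Lrot38 (Lpr_dt (f670410 IH) (Lpn K59.v8221))
theorem f773300 : Led Lsl_ff v5605 = v7830 :=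
  Lgr Lrot19 (Lpe (f648483 IH) (Lpr_ft (K59.f648487 IH) (Lpqs (K59.f773299 IH) (Lpe (f670411 IH) (Lpn v7830)))))
theorem f773301 : Led Lsl_ft v5605 = v7830 :=
  Lgr Lrot48 (Lpr_ff (f773300 IH) (Lpn v7830))
theorem f828833 : Led Lsl_gt v5605 = v25465 :=
  Lgr Lrot5 (Lpr_ft (f773301 IH) (Lpr_at (f773303 IH) (Lpr_gf (f828832 IH) (Lpn v25465))))
def v25519 : LQ := Led Lsl_et v5605
theorem f829077 : Led Lsl_et v5605 = v25519 :=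
  Lrfl
theorem f829078 : Led Lsl_ef v5605 = v25519 :=
  Lgr Lrot88 (Lpr_et (f829077 IH) (Lpn v25519))
theorem f856627 : Led Lsl_dt v25519 = v30992 :=
  Lgr Lrot56 (Lpe (f829078 IH) (Lpr_gt (f828833 IH) (Lpe (f828831 IH) (Lpe (K48.f670348 IH) (Lpr_gt (f506796 IH) (Lpe (K59.f527879 IH) (Lpr_et (f622725 IH) (Lpq (K56.f754156 IH) (Lpe (K56.f679045 IH) (Lpr_dt (K65.f679061 IH) (Lpr_gt (f856623 IH) (Lpn v30992))))))))))))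
def v25681 : LQ := Led Lsl_gt K65.v5745
theorem f829921 : Led Lsl_gt K65.v5745 = v25681 :=
  Lrfl
def v11042 : LQ := Led Lsl_gt K58.v3587
theorem f682926 : Led Lsl_gt K58.v3587 = v11042 :=
  Lrfl
theorem f682939 : Led Lsl_gt v11042 = K58.v3592 :=
  Lgr Lrot46 (Lpe (f682926 IH) (Lpr_ft (K58.f682935 IH) (Lpe (K58.f682936 IH) (Lpn K58.v3592))))
def v9758 : LQ := Led Lsl_et K56.v3062
theorem f677517 : Led Lsl_et K56.v3062 = v9758 :=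
  Lrfl
theorem f677518 : Led Lsl_ef K56.v3062 = v9758 :=
  Lgr Lrot88 (Lpr_et (f677517 IH) (Lpn v9758))
theorem f682927 : Led Lsl_dt v9758 = v11042 :=
  Lgr Lrot56 (Lpe (f677518 IH) (Lpe (K56.f622721 IH) (Lpe (K56.f453591 IH) (Lpr_dt (K2.f79139 IH) (Lpr_gt (K0.f23449 IH) (Lpe (K5.f23440 IH) (Lpr_et (K58.f450612 IH) (Lpr_gt (K58.f490746 IH) (Lpr_dt (K58.f626359 IH) (Lpr_gt (f682926 IH) (Lpn v11042)))))))))))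
theorem f668481 : Led Lsl_et K35.v1932 = K56.v7801 :=
  Lgr Lrot69 (Lpe (K35.f506448 IH) (Lpe (K59.f125543 IH) (Lpe (K5.f125536 IH) (Lpr_ef (K56.f494691 IH) (Lpr_ff (K56.f668477 IH) (Lpn K56.v7801))))))
theorem f649161 : Led Lsl_df (LP (LK LD1_c3 LD2_c12 LD3_c42)) = K48.v5744 :=
  Lgr Lrot38 (Lpr_dt (K48.f649159 IH) (Lpn K48.v5744))
theorem f682940 : Led Lsl_gf K48.v5744 = K59.v3593 :=
  Lgr Lrot138 (Lpe (f649161 IH) (Lpqs (K34.f527823 IH) (Lpr_gt (K34.f506792 IH) (Lpr_df (K48.f506450 IH) (Lpr_et (f668481 IH) (Lpe (K56.f668482 IH) (Lpr_ef (f677518 IH) (Lpr_dt (f682927 IH) (Lpr_gt (f682939 IH) (Lpe (K58.f626371 IH) (Lpr_et (K59.f626373 IH) (Lpn K59.v3593))))))))))))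
theorem f672505 : Led Lsl_df K59.v3593 = K59.v8854 :=
  Lgr Lrot38 (Lpr_dt (K59.f672504 IH) (Lpn K59.v8854))
theorem f670433 : Led Lsl_bf K51.v6607 = K59.v8225 :=
  Lgr Lrot93 (Lpe (K51.f654398 IH) (Lpr_bt (K49.f527807 IH) (Lpr_dt (K59.f670432 IH) (Lpn K59.v8225))))
theorem f766786 : Led Lsl_ef K59.v8225 = K59.v18404 :=
  Lgr Lrot29 (Lpe (f670433 IH) (Lpe (K51.f707845 IH) (Lpr_bt (K59.f766782 IH) (Lpn K59.v18404))))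
theorem f766785 : Led Lsl_df K59.v8852 = K59.v18404 :=
  Lgr Lrot12 (Lpr_bt (K59.f707863 IH) (Lpe (K51.f91453 IH) (Lpr_bt (K59.f766782 IH) (Lpn K59.v18404))))
theorem f672498 : Led Lsl_at K59.v2242 = K59.v8852 :=
  Lgr Lrot80 (Lpe (K59.f510433 IH) (Lpr_af (K35.f510426 IH) (Lpr_ef (K59.f672497 IH) (Lpn K59.v8852))))
theorem f672499 : Led Lsl_gt K50.v4272 = K59.v8852 :=
  Lgr Lrot46 (Lpe (K50.f670614 IH) (Lpe (K59.f649255 IH) (Lpr_at (f672498 IH) (Lpn K59.v8852))))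
theorem f829924 : Led Lsl_et K50.v7817 = v25681 :=
  Lgr Lrot122 (Lpe (K50.f668568 IH) (Lpr_gt (f672499 IH) (Lpr_df (f766785 IH) (Lpe (f766786 IH) (Lpr_gt (K59.f672503 IH) (Lpe (f672505 IH) (Lpe (f682940 IH) (Lpe (K48.f649159 IH) (Lpr_et (K65.f649165 IH) (Lpr_gt (f829921 IH) (Lpn v25681)))))))))))
theorem f829929 : Led Lsl_ff v25519 = v25681 :=
  Lgr Lrot72 (Lpe (f829078 IH) (Lpr_ft (f773301 IH) (Lpe (f668635 IH) (Lpr_ft (K59.f668636 IH) (Lpqs (K59.f772595 IH) (Lpr_et (f829924 IH) (Lpn v25681)))))))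
theorem f649170 : Led Lsl_dt K65.v5533 = K65.v5745 :=
  Lgr Lrot42 (Lpr_df (K65.f649169 IH) (Lpn K65.v5745))
def v8248 : LQ := Led Lsl_ft K65.v1942
theorem f670504 : Led Lsl_ft K65.v1942 = v8248 :=
  Lrfl
theorem f670507 : Led Lsl_ff K65.v1942 = v8248 :=
  Lgr Lrot3 (Lpr_ft (f670504 IH) (Lpn v8248))
theorem f143659 : Led Lsl_at (LP (LK LD1_c2 LD2_c19 LD3_c39)) = (LP (LK LD1_c1 LD2_c31 LD3_c57)) :=
  Lgr Lrot100 (Lpr_af (K6.f143657 IH) (Lpn (LP (LK LD1_c1 LD2_c31 LD3_c57))))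
theorem f632789 : Led Lsl_at K65.v1942 = K65.v4340 :=
  Lgr Lrot80 (Lpe (K65.f506505 IH) (Lpe (f143659 IH) (Lpr_ef (K65.f632788 IH) (Lpn K65.v4340))))
theorem f670510 : Led Lsl_gf K65.v5533 = v8248 :=
  Lgr Lrot47 (Lpr_gt (K65.f649171 IH) (Lpe (f632789 IH) (Lpr_ff (f670507 IH) (Lpn v8248))))
theorem f143651 : Led Lsl_af (LP (LK LD1_c1 LD2_c31 LD3_c54)) = (LP (LK LD1_c1 LD2_c31 LD3_c41)) :=
  Lgr Lrot0 (Lpr_at (K6.f143649 IH) (Lpn (LP (LK LD1_c1 LD2_c31 LD3_c41))))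
theorem f143674 : Led Lsl_ft (LP (LK LD1_c1 LD2_c31 LD3_c57)) = (LP (LK LD1_c1 LD2_c31 LD3_c41)) :=
  Lgr Lrot101 (Lpe (f143659 IH) (Lpr_ff (K6.f143672 IH) (Lpr_af (f143651 IH) (Lpn (LP (LK LD1_c1 LD2_c31 LD3_c41))))))
def v1925 : LQ := Led Lsl_dt (LP (LK LD1_c1 LD2_c31 LD3_c40))
theorem f506410 : Led Lsl_dt (LP (LK LD1_c1 LD2_c31 LD3_c40)) = v1925 :=
  Lrfl
theorem f506413 : Led Lsl_ef (LP (LK LD1_c1 LD2_c31 LD3_c41)) = v1925 :=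
  Lgr Lrot73 (Lpr_dt (K6.f82439 IH) (Lpr_et (K7.f129044 IH) (Lpr_dt (K5.f119850 IH) (Lpr_et (K46.f209085 IH) (Lpr_dt (f506410 IH) (Lpn v1925))))))
theorem f506415 : Led Lsl_et (LP (LK LD1_c1 LD2_c31 LD3_c41)) = v1925 :=
  Lgr Lrot87 (Lpr_ef (f506413 IH) (Lpn v1925))
def v8219 : LQ := Led Lsl_ft v1925
theorem f670397 : Led Lsl_ft v1925 = v8219 :=
  Lrfl
theorem f670509 : Led Lsl_et v8219 = v8248 :=
  Lgr Lrot69 (Lpe (f670397 IH) (Lpe (f506415 IH) (Lpe (f143674 IH) (Lpr_ef (K65.f506507 IH) (Lpr_ff (f670507 IH) (Lpn v8248))))))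
theorem f670400 : Led Lsl_df K46.v1926 = v8219 :=
  Lgr Lrot78 (Lpe (K48.f506419 IH) (Lpr_dt (f506410 IH) (Lpr_ft (f670397 IH) (Lpn v8219))))
theorem f701837 : Led Lsl_ef (LP (LK LD1_c4 LD2_c41 LD3_c52)) = v13235 :=
  Lgr Lrot88 (Lpr_et (f701836 IH) (Lpn v13235))
theorem f829923 : Led Lsl_dt v13235 = v25681 :=
  Lgr Lrot56 (Lpe (f701837 IH) (Lpr_gt (K50.f701806 IH) (Lpe (K51.f701813 IH) (Lpe (K50.f670882 IH) (Lpe (K48.f506782 IH) (Lpr_df (f670400 IH) (Lpr_et (f670509 IH) (Lpe (f670510 IH) (Lpr_dt (f649170 IH) (Lpr_gt (f829921 IH) (Lpn v25681)))))))))))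
theorem f856630 : Led Lsl_ff v13235 = v30992 :=
  Lgr Lrot19 (Lpr_dt (f829923 IH) (Lpe (f829929 IH) (Lpr_dt (f856627 IH) (Lpn v30992))))
theorem f859855 : Led Lsl_bf v30992 = v31710 :=
  Lgr Lrot61 (Lpe (f856630 IH) (Lpr_bt (f850015 IH) (Lpr_ft (f859853 IH) (Lpn v31710))))
def v19857 : LQ := Led Lsl_gf (LP (LK LD1_c6 LD2_c47 LD3_c41))
theorem f782544 : Led Lsl_gf (LP (LK LD1_c6 LD2_c47 LD3_c41)) = v19857 :=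
  Lrfl
theorem f859857 : Led Lsl_cf v19857 = v31710 :=
  Lgr Lrot160 (Lpe (f782544 IH) (Lpe (K65.f144085 IH) (Lpr_bt (f144082 IH) (Lpe (K32.f144073 IH) (Lpr_ct (K49.f652311 IH) (Lpr_gt (K49.f679082 IH) (Lpe (K49.f679075 IH) (Lpr_bt (K65.f679065 IH) (Lpr_gt (f856623 IH) (Lpr_bf (f859855 IH) (Lpn v31710)))))))))))
theorem f509669 : Led Lsl_dt (LP (LK LD1_c6 LD2_c47 LD3_c41)) = (LP (LK LD1_c12 LD2_c58 LD3_c16)) :=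
  Lre_d IH (LK LD1_c6 LD2_c47 LD3_c41) (LK LD1_c12 LD2_c58 LD3_c16) Lrfl Lrfl
theorem f633952 : Led Lsl_gt (LP (LK LD1_c12 LD2_c58 LD3_c16)) = (LP (LK LD1_c22 LD2_c8 LD3_c10)) :=
  Lre_g IH (LK LD1_c12 LD2_c58 LD3_c16) (LK LD1_c22 LD2_c8 LD3_c10) Lrfl Lrfl
theorem f680807 : Led Lsl_df K57.v3375 = v10541 :=
  Lgr Lrot38 (Lpr_dt (f680806 IH) (Lpn v10541))
theorem f859860 : Led Lsl_dt (LP (LK LD1_c22 LD2_c8 LD3_c10)) = (LP (LK LD1_c12 LD2_c58 LD3_c22)) :=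
  Lgr Lrot105 (Lpe (f633952 IH) (Lpe (f509669 IH) (Lpr_gf (f782544 IH) (Lpr_cf (f859857 IH) (Lpe (f859847 IH) (Lpe (f680807 IH) (Lpr_gt (K57.f625382 IH) (Lpr_dt (f661565 IH) (Lpr_cf (K57.f760620 IH) (Lpn (LP (LK LD1_c12 LD2_c58 LD3_c22))))))))))))
theorem f859861 : Led Lsl_dt (LP (LK LD1_c22 LD2_c8 LD3_c10)) = (LP (LK LD1_c12 LD2_c58 LD3_c22)) :=
  Leop (Lpe (f859860 IH) (Lpn (LP (LK LD1_c22 LD2_c8 LD3_c10))))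
theorem seed_1996 : LEOK LG_d (LK LD1_c22 LD2_c8 LD3_c10) :=
  Leoe_d (LK LD1_c22 LD2_c8 LD3_c10) (f859861 IH)
def v10546 : LQ := Led Lsl_dt K56.v3376
def v31718 : LQ := Led Lsl_ct v10546
theorem f859927 : Led Lsl_ct v10546 = v31718 :=
  Lrfl
theorem f859929 : Led Lsl_cf v10546 = v31718 :=
  Lgr Lrot11 (Lpr_ct (f859927 IH) (Lpn v31718))
theorem f680818 : Led Lsl_dt K56.v3376 = v10546 :=
  Lrfl
theorem f680819 : Led Lsl_df K56.v3376 = v10546 :=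
  Lgr Lrot38 (Lpr_dt (f680818 IH) (Lpn v10546))
theorem f23629 : Led Lsl_dt (LP (LK LD1_c3 LD2_c13 LD3_c38)) = (LP (LK LD1_c6 LD2_c30 LD3_c58)) :=
  Lre_d IH (LK LD1_c3 LD2_c13 LD3_c38) (LK LD1_c6 LD2_c30 LD3_c58) Lrfl Lrfl
theorem f23742 : Led Lsl_gt (LP (LK LD1_c6 LD2_c30 LD3_c58)) = (LP (LK LD1_c6 LD2_c32 LD3_c28)) :=
  Lre_g IH (LK LD1_c6 LD2_c30 LD3_c58) (LK LD1_c6 LD2_c32 LD3_c28) Lrfl Lrfl
theorem f438925 : Led Lsl_ct (LP (LK LD1_c6 LD2_c32 LD3_c28)) = (LP (LK LD1_c12 LD2_c32 LD3_c30)) :=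
  Lre_c IH (LK LD1_c6 LD2_c32 LD3_c28) (LK LD1_c12 LD2_c32 LD3_c30) Lrfl Lrfl
theorem f859933 : Led Lsl_gt (LP (LK LD1_c12 LD2_c32 LD3_c30)) = v31718 :=
  Lgr Lrot150 (Lpe (f438925 IH) (Lpe (f23742 IH) (Lpe (f23629 IH) (Lpr_gt (K57.f441727 IH) (Lpr_ct (K57.f662629 IH) (Lpe (K57.f662631 IH) (Lpq (K57.f760542 IH) (Lpe (K57.f680817 IH) (Lpr_df (f680819 IH) (Lpr_cf (f859929 IH) (Lpn v31718)))))))))))
theorem f673955 : Led Lsl_df K56.v2508 = v9189 :=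
  Lgr Lrot38 (Lpr_dt (f673954 IH) (Lpn v9189))
theorem f761465 : Led Lsl_ff v9189 = v10546 :=
  Lgr Lrot19 (Lpe (f673955 IH) (Lpq (K57.f761380 IH) (Lpe (K57.f680801 IH) (Lpr_dt (f680818 IH) (Lpn v10546)))))
theorem f761467 : Led Lsl_ft v9189 = v10546 :=
  Lgr Lrot48 (Lpr_ff (f761465 IH) (Lpn v10546))
def v29636 : LQ := Led Lsl_ct v9189
theorem f850019 : Led Lsl_ct v9189 = v29636 :=
  Lrfl
theorem f850020 : Led Lsl_cf v9189 = v29636 :=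
  Lgr Lrot11 (Lpr_ct (f850019 IH) (Lpn v29636))
theorem f859930 : Led Lsl_ff v29636 = v31718 :=
  Lgr Lrot23 (Lpe (f850020 IH) (Lpr_ft (f761467 IH) (Lpr_ct (f859927 IH) (Lpn v31718))))
def v31711 : LQ := Led Lsl_ct v10541
theorem f859879 : Led Lsl_ct v10541 = v31711 :=
  Lrfl
theorem f859881 : Led Lsl_cf v10541 = v31711 :=
  Lgr Lrot11 (Lpr_ct (f859879 IH) (Lpn v31711))
def v9194 : LQ := Led Lsl_dt K57.v2509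
theorem f673966 : Led Lsl_dt K57.v2509 = v9194 :=
  Lrfl
theorem f673967 : Led Lsl_df K57.v2509 = v9194 :=
  Lgr Lrot38 (Lpr_dt (f673966 IH) (Lpn v9194))
theorem f673960 : Led Lsl_ff K56.v2508 = K57.v9191 :=
  Lgr Lrot3 (Lpr_ft (K57.f673958 IH) (Lpn K57.v9191))
theorem f673961 : Led Lsl_at K57.v2509 = K57.v9191 :=
  Lgr Lrot66 (Lpr_ff (K57.f673949 IH) (Lpe (K57.f673946 IH) (Lpr_ff (f673960 IH) (Lpn K57.v9191))))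
theorem f761463 : Led Lsl_af v9194 = v10546 :=
  Lgr Lrot117 (Lpe (f673967 IH) (Lpr_at (f673961 IH) (Lpq (K57.f761383 IH) (Lpr_dt (f680818 IH) (Lpn v10546)))))
theorem f761459 : Led Lsl_ff v10541 = v9194 :=
  Lgr Lrot19 (Lpe (f680807 IH) (Lpqs (K57.f761381 IH) (Lpe (K57.f673949 IH) (Lpr_dt (f673966 IH) (Lpn v9194)))))
theorem f761468 : Led Lsl_af v9189 = v10541 :=
  Lgr Lrot45 (Lpr_ft (f761467 IH) (Lpe (f761463 IH) (Lpe (f761459 IH) (Lpn v10541))))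
theorem f859885 : Led Lsl_at v29636 = v31711 :=
  Lgr Lrot107 (Lpe (f850019 IH) (Lpr_af (f761468 IH) (Lpr_cf (f859881 IH) (Lpn v31711))))
def v29639 : LQ := Led Lsl_ct v9194
theorem f850043 : Led Lsl_ct v9194 = v29639 :=
  Lrfl
theorem f850044 : Led Lsl_cf v9194 = v29639 :=
  Lgr Lrot11 (Lpr_ct (f850043 IH) (Lpn v29639))
theorem f859882 : Led Lsl_ff v29639 = v31711 :=
  Lgr Lrot23 (Lpe (f850044 IH) (Lpe (f761459 IH) (Lpr_ct (f859879 IH) (Lpn v31711))))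
theorem f859931 : Led Lsl_at v29639 = v31718 :=
  Lgr Lrot66 (Lpr_ff (f859882 IH) (Lpe (f859885 IH) (Lpr_ff (f859930 IH) (Lpn v31718))))
theorem f859934 : Led Lsl_gf (LP (LK LD1_c12 LD2_c32 LD3_c30)) = v31711 :=
  Lgr Lrot47 (Lpr_gt (f859933 IH) (Lpe (f859931 IH) (Lpr_ff (f859882 IH) (Lpn v31711))))
theorem f438919 : Led Lsl_dt (LP (LK LD1_c12 LD2_c32 LD3_c30)) = (LP (LK LD1_c21 LD2_c38 LD3_c24)) :=
  Lre_d IH (LK LD1_c12 LD2_c32 LD3_c30) (LK LD1_c21 LD2_c38 LD3_c24) Lrfl Lrfl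
theorem f760519 : Led Lsl_dt (LP (LK LD1_c23 LD2_c22 LD3_c9)) = (LP (LK LD1_c13 LD2_c52 LD3_c22)) :=
  Lre_d IH (LK LD1_c23 LD2_c22 LD3_c9) (LK LD1_c13 LD2_c52 LD3_c22) Lrfl Lrfl
theorem f859935 : Led Lsl_gt (LP (LK LD1_c21 LD2_c38 LD3_c24)) = (LP (LK LD1_c23 LD2_c22 LD3_c9)) :=
  Lgr Lrot49 (Lpe (f438919 IH) (Lpr_gf (f859934 IH) (Lpe (f859879 IH) (Lpr_gt (f859824 IH) (Lpe (f859826 IH) (Lpe (f850221 IH) (Lpe (f797369 IH) (Lpe (f674795 IH) (Lpe (f760519 IH) (Lpn (LP (LK LD1_c23 LD2_c22 LD3_c9))))))))))))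
theorem f859936 : Led Lsl_gt (LP (LK LD1_c21 LD2_c38 LD3_c24)) = (LP (LK LD1_c23 LD2_c22 LD3_c9)) :=
  Leop (Lpe (f859935 IH) (Lpn (LP (LK LD1_c21 LD2_c38 LD3_c24))))
theorem seed_1997 : LEOK LG_g (LK LD1_c21 LD2_c38 LD3_c24) :=
  Leoe_g (LK LD1_c21 LD2_c38 LD3_c24) (f859936 IH)
def v31927 : LQ := Led Lsl_gt K60.v10646
theorem f860944 : Led Lsl_gt K60.v10646 = v31927 :=
  Lrfl
def v18991 : LQ := Led Lsl_dt (LP (LK LD1_c6 LD2_c36 LD3_c15))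
theorem f777100 : Led Lsl_dt (LP (LK LD1_c6 LD2_c36 LD3_c15)) = v18991 :=
  Lrfl
def v18896 : LQ := Led Lsl_dt (LP (LK LD1_c6 LD2_c34 LD3_c41))
theorem f776330 : Led Lsl_dt (LP (LK LD1_c6 LD2_c34 LD3_c41)) = v18896 :=
  Lrfl
theorem f773584 : Led Lsl_ff (LP (LK LD1_c12 LD2_c1 LD3_c46)) = (LP (LK LD1_c6 LD2_c34 LD3_c41)) :=
  Lgr Lrot23 (Lpr_ct (K61.f769473 IH) (Lpr_ft (K61.f773582 IH) (Lpr_ct (K61.f650252 IH) (Lpn (LP (LK LD1_c6 LD2_c34 LD3_c41))))))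
theorem f773560 : Led Lsl_at (LP (LK LD1_c12 LD2_c1 LD3_c46)) = (LP (LK LD1_c6 LD2_c34 LD3_c42)) :=
  Lgr Lrot107 (Lpr_cf (K58.f769471 IH) (Lpr_af (K61.f773556 IH) (Lpe (K58.f151008 IH) (Lpn (LP (LK LD1_c6 LD2_c34 LD3_c42))))))
theorem f776334 : Led Lsl_cf K56.v9314 = v18896 :=
  Lgr Lrot118 (Lpe (K56.f675357 IH) (Lpq (K58.f769504 IH) (Lpe (K58.f650232 IH) (Lpr_dt (K5.f66019 IH) (Lpr_ct (K58.f650236 IH) (Lpe (K61.f769540 IH) (Lpr_ct (K61.f150986 IH) (Lpe (f773560 IH) (Lpr_ff (f773584 IH) (Lpr_dt (f776330 IH) (Lpn v18896)))))))))))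
theorem f769561 : Led Lsl_dt (LP (LK LD1_c12 LD2_c35 LD3_c44)) = (LP (LK LD1_c12 LD2_c35 LD3_c48)) :=
  Lgr Lrot42 (Lpr_df (K61.f769557 IH) (Lpn (LP (LK LD1_c12 LD2_c35 LD3_c48))))
theorem f776344 : Led Lsl_cf K58.v6750 = K59.v18898 :=
  Lgr Lrot55 (Lpe (K58.f658221 IH) (Lpq (K58.f769508 IH) (Lpe (K59.f650244 IH) (Lpr_dt (K58.f439874 IH) (Lpr_ct (K61.f439875 IH) (Lpr_dt (f769561 IH) (Lpr_ct (K61.f650252 IH) (Lpr_dt (f776330 IH) (Lpe (f776334 IH) (Lpe (K56.f675357 IH) (Lpq (K58.f769504 IH) (Lpe (K58.f650232 IH) (Lpr_dt (K5.f66019 IH) (Lpr_ct (K58.f650236 IH) (Lpe (K61.f769540 IH) (Lpr_ct (K61.f150986 IH) (Lpr_dt (K59.f776342 IH) (Lpn K59.v18898))))))))))))))))))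
theorem f754502 : Led Lsl_gt K58.v6750 = K56.v6127 :=
  Lgr Lrot9 (Lpe (K61.f658222 IH) (Lpe (K58.f527739 IH) (Lpr_ct (K56.f105399 IH) (Lpr_gt (K56.f646554 IH) (Lpq (K56.f651968 IH) (Lpe (K49.f650279 IH) (Lpqs (K46.f651808 IH) (Lpr_df (K35.f624112 IH) (Lpr_cf (K46.f651622 IH) (Lpqs (K56.f754495 IH) (Lpe (K56.f651345 IH) (Lpr_cf (K56.f651389 IH) (Lpn K56.v6127)))))))))))))
theorem f777104 : Led Lsl_gf K61.v10645 = v18991 :=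
  Lgr Lrot143 (Lpe (K61.f681240 IH) (Lpe (K59.f625578 IH) (Lpr_df (K56.f625581 IH) (Lpr_gf (K56.f664735 IH) (Lpe (K56.f664725 IH) (Lpe (f754502 IH) (Lpr_cf (f776344 IH) (Lpe (K59.f776348 IH) (Lpr_dt (f777100 IH) (Lpn v18991))))))))))
theorem f860948 : Led Lsl_et (LP (LK LD1_c12 LD2_c3 LD3_c4)) = v31927 :=
  Lgr Lrot122 (Lpr_dt (K59.f663314 IH) (Lpe (K59.f663348 IH) (Lpe (K59.f96763 IH) (Lpr_et (K59.f776351 IH) (Lpe (K59.f776348 IH) (Lpr_dt (f777100 IH) (Lpe (f777104 IH) (Lpe (K61.f681239 IH) (Lpr_et (K60.f681241 IH) (Lpr_gt (f860944 IH) (Lpn v31927)))))))))))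
theorem f860951 : Led Lsl_gf (LP (LK LD1_c12 LD2_c2 LD3_c56)) = v31927 :=
  Lgr Lrot141 (Lpe (K59.f646655 IH) (Lpr_dt (K59.f103842 IH) (Lpr_gt (K59.f118284 IH) (Lpe (K4.f118113 IH) (Lpe (K4.f118350 IH) (Lpe (K57.f118400 IH) (Lpr_dt (K57.f118592 IH) (Lpr_gt (K57.f755196 IH) (Lpe (K59.f663314 IH) (Lpr_et (f860948 IH) (Lpn v31927)))))))))))
theorem f663227 : Led Lsl_gt (LP (LK LD1_c12 LD2_c1 LD3_c26)) = (LP (LK LD1_c6 LD2_c11 LD3_c22)) :=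
  Lgr Lrot5 (Lpr_ft (K46.f441162 IH) (Lpq (K49.f663222 IH) (Lpe (K49.f646692 IH) (Lpe (K46.f62033 IH) (Lpn (LP (LK LD1_c6 LD2_c11 LD3_c22)))))))
theorem f860952 : Led Lsl_ct (LP (LK LD1_c12 LD2_c1 LD3_c26)) = v31927 :=
  Lgr Lrot8 (Lpr_gt (f663227 IH) (Lpr_dt (K46.f651689 IH) (Lpr_gt (K46.f439802 IH) (Lpr_dt (K60.f439809 IH) (Lpe (K57.f441182 IH) (Lpe (K57.f509054 IH) (Lpe (K59.f509060 IH) (Lpe (K59.f777268 IH) (Lpr_gf (f860951 IH) (Lpn v31927))))))))))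
def v19015 : LQ := Led Lsl_gt (LP (LK LD1_c6 LD2_c36 LD3_c40))
theorem f777247 : Led Lsl_gt (LP (LK LD1_c6 LD2_c36 LD3_c40)) = v19015 :=
  Lrfl
theorem f860954 : Led Lsl_dt v19015 = v31927 :=
  Lgr Lrot113 (Lpe (f777247 IH) (Lpe (K56.f103816 IH) (Lpr_gf (K56.f650639 IH) (Lpq (K56.f754235 IH) (Lpr_ct (K62.f415976 IH) (Lpr_gt (K57.f114016 IH) (Lpr_dt (K32.f62017 IH) (Lpr_gt (K49.f62030 IH) (Lpq (K49.f663244 IH) (Lpe (K46.f651721 IH) (Lpr_ct (f860952 IH) (Lpn v31927))))))))))))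
theorem f103893 : Led Lsl_et (LP (LK LD1_c7 LD2_c44 LD3_c59)) = (LP (LK LD1_c14 LD2_c37 LD3_c3)) :=
  Lre_e IH (LK LD1_c7 LD2_c44 LD3_c59) (LK LD1_c14 LD2_c37 LD3_c3) Lrfl Lrfl
theorem f777273 : Led Lsl_df (LP (LK LD1_c12 LD2_c2 LD3_c56)) = (LP (LK LD1_c12 LD2_c47 LD3_c47)) :=
  Lgr Lrot38 (Lpr_dt (K59.f777268 IH) (Lpn (LP (LK LD1_c12 LD2_c47 LD3_c47))))
theorem f118297 : Led Lsl_et (LP (LK LD1_c12 LD2_c41 LD3_c37)) = (LP (LK LD1_c6 LD2_c37 LD3_c55)) :=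
  Lre_e IH (LK LD1_c12 LD2_c41 LD3_c37) (LK LD1_c6 LD2_c37 LD3_c55) Lrfl Lrfl
theorem f646661 : Led Lsl_dt (LP (LK LD1_c21 LD2_c48 LD3_c30)) = (LP (LK LD1_c12 LD2_c41 LD3_c37)) :=
  Lre_d IH (LK LD1_c21 LD2_c48 LD3_c30) (LK LD1_c12 LD2_c41 LD3_c37) Lrfl Lrfl
theorem f777275 : Led Lsl_ef (LP (LK LD1_c21 LD2_c48 LD3_c30)) = (LP (LK LD1_c12 LD2_c47 LD3_c47)) :=
  Lgr Lrot73 (Lpr_dt (f646661 IH) (Lpr_et (f118297 IH) (Lpr_dt (K59.f118288 IH) (Lpr_et (K59.f646655 IH) (Lpr_dt (K59.f777268 IH) (Lpn (LP (LK LD1_c12 LD2_c47 LD3_c47))))))))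
theorem f860955 : Led Lsl_gf (LP (LK LD1_c14 LD2_c37 LD3_c3)) = (LP (LK LD1_c21 LD2_c48 LD3_c30)) :=
  Lgr Lrot141 (Lpe (f103893 IH) (Lpr_dt (K61.f103882 IH) (Lpr_gt (K48.f103839 IH) (Lpe (K56.f103892 IH) (Lpr_et (K56.f103928 IH) (Lpr_gt (f777247 IH) (Lpr_dt (f860954 IH) (Lpe (f860951 IH) (Lpr_df (f777273 IH) (Lpe (f777275 IH) (Lpn (LP (LK LD1_c21 LD2_c48 LD3_c30)))))))))))))
theorem f860956 : Led Lsl_gt (LP (LK LD1_c21 LD2_c48 LD3_c30)) = (LP (LK LD1_c14 LD2_c37 LD3_c3)) :=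
  Leop (Lpr_gf (f860955 IH) (Lpn (LP (LK LD1_c21 LD2_c48 LD3_c30))))
theorem seed_1998 : LEOK LG_g (LK LD1_c21 LD2_c48 LD3_c30) :=
  Leoe_g (LK LD1_c21 LD2_c48 LD3_c30) (f860956 IH)
def v31981 : LQ := Led Lsl_bt K59.v10708
theorem f861281 : Led Lsl_bt K59.v10708 = v31981 :=
  Lrfl
def v25267 : LQ := Led Lsl_et K57.v5404
theorem f827836 : Led Lsl_et K57.v5404 = v25267 :=
  Lrfl
theorem f827837 : Led Lsl_bf K59.v9340 = v25267 :=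
  Lgr Lrot96 (Lpe (K59.f675447 IH) (Lpr_bt (K57.f675440 IH) (Lpqs (K57.f761546 IH) (Lpr_et (f827836 IH) (Lpn v25267)))))
theorem f861283 : Led Lsl_df v25267 = v31981 :=
  Lgr Lrot12 (Lpe (f827837 IH) (Lpr_dt (K59.f681471 IH) (Lpr_bt (f861281 IH) (Lpn v31981))))
theorem f861284 : Led Lsl_dt v25267 = v31981 :=
  Lgr Lrot42 (Lpr_df (f861283 IH) (Lpn v31981))
theorem f827838 : Led Lsl_ef K57.v5404 = v25267 :=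
  Lgr Lrot88 (Lpr_et (f827836 IH) (Lpn v25267))
theorem f91970 : Led Lsl_dt (LP (LK LD1_c1 LD2_c37 LD3_c52)) = (LP (LK LD1_c0 LD2_c45 LD3_c23)) :=
  Lre_d IH (LK LD1_c1 LD2_c37 LD3_c52) (LK LD1_c0 LD2_c45 LD3_c23) Lrfl Lrfl
def v8808 : LQ := Led Lsl_gt K60.v2217
theorem f672358 : Led Lsl_gt K60.v2217 = v8808 :=
  Lrfl
def v29010 : LQ := Led Lsl_dt v8808
theorem f847233 : Led Lsl_dt v8808 = v29010 :=
  Lrfl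
theorem f861285 : Led Lsl_gt v29010 = v31981 :=
  Lgr Lrot139 (Lpe (f847233 IH) (Lpe (f672358 IH) (Lpe (K60.f509721 IH) (Lpr_dt (f91970 IH) (Lpr_gf (K3.f95557 IH) (Lpr_df (K3.f104200 IH) (Lpr_et (K3.f61927 IH) (Lpr_gf (K57.f647496 IH) (Lpr_ef (f827838 IH) (Lpr_dt (f861284 IH) (Lpn v31981)))))))))))
def v29791 : LQ := Led Lsl_dt K60.v9346
theorem f851109 : Led Lsl_dt K60.v9346 = v29791 :=
  Lrfl
def v9899 : LQ := Led Lsl_ct K60.v3110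
theorem f678005 : Led Lsl_ct K60.v3110 = v9899 :=
  Lrfl
theorem f771148 : Led Lsl_af K60.v9594 = v9899 :=
  Lgr Lrot68 (Lpe (K60.f676786 IH) (Lpqs (K60.f771146 IH) (Lpe (K60.f678000 IH) (Lpr_ct (f678005 IH) (Lpn v9899)))))
theorem f771153 : Led Lsl_ff v9899 = K60.v9346 :=
  Lgr Lrot30 (Lpe (f771148 IH) (Lpr_ft (K60.f771145 IH) (Lpr_at (K60.f771150 IH) (Lpn K60.v9346))))
theorem f771155 : Led Lsl_ft v9899 = K60.v9346 :=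
  Lgr Lrot48 (Lpr_ff (f771153 IH) (Lpn K60.v9346))
theorem f459608 : Led Lsl_ct (LP (LK LD1_c1 LD2_c37 LD3_c55)) = (LP (LK LD1_c3 LD2_c22 LD3_c61)) :=
  Lre_c IH (LK LD1_c1 LD2_c37 LD3_c55) (LK LD1_c3 LD2_c22 LD3_c61) Lrfl Lrfl
theorem f509723 : Led Lsl_ef (LP (LK LD1_c1 LD2_c37 LD3_c52)) = K60.v2217 :=
  Lgr Lrot88 (Lpr_et (K60.f509721 IH) (Lpn K60.v2217))
theorem f509724 : Led Lsl_bt (LP (LK LD1_c1 LD2_c37 LD3_c55)) = K60.v2217 :=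
  Lgr Lrot119 (Lpe (K58.f95545 IH) (Lpe (K3.f91959 IH) (Lpr_ef (f509723 IH) (Lpn K60.v2217))))
theorem f459414 : Led Lsl_bf K51.v512 = K48.v793 :=
  Lgr Lrot96 (Lpe (K51.f453717 IH) (Lpe (K48.f152081 IH) (Lpr_et (K48.f459412 IH) (Lpn K48.v793))))
theorem f623899 : Led Lsl_bf K48.v2570 = K51.v3108 :=
  Lgr Lrot61 (Lpe (K48.f527539 IH) (Lpe (f459414 IH) (Lpr_ft (K51.f623897 IH) (Lpn K51.v3108))))
theorem f671187 : Led Lsl_ff K60.v2032 = K60.v8423 :=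
  Lgr Lrot3 (Lpr_ft (K60.f671184 IH) (Lpn K60.v8423))
theorem f507844 : Led Lsl_cf K51.v512 = K60.v2032 :=
  Lgr Lrot39 (Lpe (K51.f453717 IH) (Lpr_ct (K7.f24302 IH) (Lpr_et (K60.f507842 IH) (Lpn K60.v2032))))
theorem f671190 : Led Lsl_ct K51.v3108 = K60.v8423 :=
  Lgr Lrot40 (Lpe (K51.f623897 IH) (Lpr_cf (f507844 IH) (Lpr_ff (f671187 IH) (Lpn K60.v8423))))
theorem f24198 : Led Lsl_at (LP (LK LD1_c0 LD2_c43 LD3_c38)) = (LP (LK LD1_c1 LD2_c33 LD3_c58)) :=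
  Lre_a IH (LK LD1_c0 LD2_c43 LD3_c38) (LK LD1_c1 LD2_c33 LD3_c58) Lrfl Lrfl
theorem f507843 : Led Lsl_af K60.v515 = K60.v2032 :=
  Lgr Lrot50 (Lpe (K60.f453734 IH) (Lpr_at (f24198 IH) (Lpr_et (K60.f507842 IH) (Lpn K60.v2032))))
theorem f671189 : Led Lsl_at K60.v3113 = K60.v8423 :=
  Lgr Lrot66 (Lpe (K60.f623915 IH) (Lpr_af (f507843 IH) (Lpr_ff (f671187 IH) (Lpn K60.v8423))))
theorem f671192 : Led Lsl_gt K60.v3110 = K60.v8423 :=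
  Lgr Lrot46 (Lpe (K60.f623911 IH) (Lpr_ft (K60.f623915 IH) (Lpr_at (f671189 IH) (Lpn K60.v8423))))
theorem f678006 : Led Lsl_cf K60.v3110 = v9899 :=
  Lgr Lrot11 (Lpr_ct (f678005 IH) (Lpn v9899))
theorem f771286 : v8808 = v9899 :=
  (Llr Lrot82 (Lpe (f672358 IH) (Lpe (f509724 IH) (Lpr_ct (f459608 IH) (Lpr_gf (K58.f653744 IH) (Lpq (K58.f768778 IH) (Lpe (K58.f680966 IH) (Lpe (K58.f625471 IH) (Lpr_gf (K48.f527541 IH) (Lpr_bf (f623899 IH) (Lpr_ct (f671190 IH) (Lpe (f671192 IH) (Lpr_cf (f678006 IH) (Lpn v9899)))))))))))))).symm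
theorem f847234 : Led Lsl_df v8808 = v29010 :=
  Lgr Lrot38 (Lpr_dt (f847233 IH) (Lpn v29010))
theorem f851113 : Led Lsl_ff v29010 = v29791 :=
  Lgr Lrot19 (Lpe (f847234 IH) (Lpqs (f771286 IH) (Lpr_ft (f771155 IH) (Lpr_dt (f851109 IH) (Lpn v29791)))))
theorem f851115 : Led Lsl_ft v29010 = v29791 :=
  Lgr Lrot48 (Lpr_ff (f851113 IH) (Lpn v29791))
theorem f771151 : Led Lsl_af K60.v9904 = K60.v9346 :=
  Lgr Lrot0 (Lpr_at (K60.f771150 IH) (Lpn K60.v9346))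
theorem f527883 : Led Lsl_af K60.v2217 = K60.v2617 :=
  Lgr Lrot50 (Lpe (f509723 IH) (Lpr_at (K2.f95543 IH) (Lpr_et (K60.f527882 IH) (Lpn K60.v2617))))
theorem f672368 : Led Lsl_af K60.v7338 = K60.v8811 :=
  Lgr Lrot45 (Lpe (K60.f664632 IH) (Lpe (f527883 IH) (Lpr_ft (K60.f672367 IH) (Lpn K60.v8811))))
theorem f672372 : Led Lsl_gt v8808 = K60.v7338 :=
  Lgr Lrot46 (Lpe (f672358 IH) (Lpr_ft (K60.f672367 IH) (Lpe (f672368 IH) (Lpn K60.v7338))))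
def v8809 : LQ := Led Lsl_gf K60.v2217
theorem f672359 : Led Lsl_gf K60.v2217 = v8809 :=
  Lrfl
theorem f672360 : Led Lsl_gt K60.v7338 = v8809 :=
  Lgr Lrot5 (Lpe (K60.f664632 IH) (Lpe (f527883 IH) (Lpr_gf (f672359 IH) (Lpn v8809))))
theorem f771287 : K60.v9904 = v8809 :=
  (Llr Lrot26 (Lpr_af (f771151 IH) (Lpe (f771155 IH) (Lpq (f771286 IH) (Lpr_gt (f672372 IH) (Lpr_gt (f672360 IH) (Lpn v8809))))))).symm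
def v29012 : LQ := Led Lsl_dt v8809
theorem f847241 : Led Lsl_dt v8809 = v29012 :=
  Lrfl
theorem f847243 : Led Lsl_df v8809 = v29012 :=
  Lgr Lrot38 (Lpr_dt (f847241 IH) (Lpn v29012))
theorem f851110 : Led Lsl_af v29012 = v29791 :=
  Lgr Lrot117 (Lpe (f847243 IH) (Lpq (f771287 IH) (Lpr_at (K60.f771150 IH) (Lpr_dt (f851109 IH) (Lpn v29791)))))
theorem f861286 : Led Lsl_gf v29012 = v31981 :=
  Lgr Lrot76 (Lpr_af (f851110 IH) (Lpe (f851115 IH) (Lpr_gt (f861285 IH) (Lpn v31981))))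
def v29013 : LQ := Led Lsl_et v8809
theorem f847245 : Led Lsl_et v8809 = v29013 :=
  Lrfl
theorem f107474 : Led Lsl_ff (LP (LK LD1_c1 LD2_c33 LD3_c49)) = (LP (LK LD1_c2 LD2_c19 LD3_c53)) :=
  Lgr Lrot19 (Lpr_dt (K3.f24312 IH) (Lpr_ft (K3.f107464 IH) (Lpr_dt (K3.f23540 IH) (Lpn (LP (LK LD1_c2 LD2_c19 LD3_c53))))))
theorem f702941 : Led Lsl_et (LP (LK LD1_c6 LD2_c32 LD3_c43)) = K51.v13433 :=
  Lgr Lrot69 (Lpe (K51.f103554 IH) (Lpe (K4.f93222 IH) (Lpr_ff (f107474 IH) (Lpe (K2.f23533 IH) (Lpr_ff (K57.f702937 IH) (Lpn K51.v13433))))))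
theorem f439731 : Led Lsl_dt (LP (LK LD1_c12 LD2_c0 LD3_c4)) = (LP (LK LD1_c6 LD2_c32 LD3_c43)) :=
  Lgr Lrot60 (Lpe (K5.f127056 IH) (Lpr_df (K59.f439727 IH) (Lpe (K51.f103544 IH) (Lpn (LP (LK LD1_c6 LD2_c32 LD3_c43))))))
theorem f439733 : Led Lsl_df (LP (LK LD1_c12 LD2_c0 LD3_c4)) = (LP (LK LD1_c6 LD2_c32 LD3_c43)) :=
  Lgr Lrot38 (Lpr_dt (f439731 IH) (Lpn (LP (LK LD1_c6 LD2_c32 LD3_c43))))
theorem f440106 : Led Lsl_gt (LP (LK LD1_c6 LD2_c28 LD3_c17)) = (LP (LK LD1_c12 LD2_c0 LD3_c4)) :=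
  Lgr Lrot46 (Lpe (K51.f62913 IH) (Lpr_ft (K4.f62912 IH) (Lpr_at (K5.f128611 IH) (Lpn (LP (LK LD1_c12 LD2_c0 LD3_c4))))))
def v18302 : LQ := Led Lsl_dt (LP (LK LD1_c6 LD2_c28 LD3_c17))
theorem f766202 : Led Lsl_dt (LP (LK LD1_c6 LD2_c28 LD3_c17)) = v18302 :=
  Lrfl
theorem f766204 : Led Lsl_df (LP (LK LD1_c6 LD2_c28 LD3_c17)) = v18302 :=
  Lgr Lrot38 (Lpr_dt (f766202 IH) (Lpn v18302))
theorem f861288 : Led Lsl_gt v29013 = v18302 :=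
  Lgr Lrot137 (Lpe (f847245 IH) (Lpr_dt (f847241 IH) (Lpr_gf (f861286 IH) (Lpe (f861284 IH) (Lpe (f827838 IH) (Lpr_gf (K63.f702942 IH) (Lpe (f702941 IH) (Lpe (f439733 IH) (Lpe (f440106 IH) (Lpr_df (f766204 IH) (Lpn v18302)))))))))))
theorem f847248 : Led Lsl_ef v8809 = v29013 :=
  Lgr Lrot88 (Lpr_et (f847245 IH) (Lpn v29013))
def v6435 : LQ := Led Lsl_gf (LP (LK LD1_c3 LD2_c21 LD3_c46))
def v26227 : LQ := Led Lsl_ct v6435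
theorem f832682 : Led Lsl_ct v6435 = v26227 :=
  Lrfl
theorem f653406 : Led Lsl_gf (LP (LK LD1_c3 LD2_c21 LD3_c46)) = v6435 :=
  Lrfl
def v5894 : LQ := Led Lsl_gf (LP (LK LD1_c3 LD2_c14 LD3_c35))
theorem f649966 : Led Lsl_gf (LP (LK LD1_c3 LD2_c14 LD3_c35)) = v5894 :=
  Lrfl
theorem f702302 : Led Lsl_gf v5894 = K51.v13315 :=
  Lgr Lrot47 (Lpe (f649966 IH) (Lpr_af (K51.f120605 IH) (Lpr_ff (K51.f702296 IH) (Lpn K51.v13315))))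
theorem f707494 : v5894 = (LP (LK LD1_c3 LD2_c23 LD3_c51)) :=
  Lefun (Lecon (Lfl_gf (f702302 IH)) (K51.f707485 IH).symm) (K46.f654210 IH)
def v6584 : LQ := Led Lsl_dt (LP (LK LD1_c3 LD2_c23 LD3_c51))
theorem f654299 : Led Lsl_dt (LP (LK LD1_c3 LD2_c23 LD3_c51)) = v6584 :=
  Lrfl
theorem f654301 : Led Lsl_df (LP (LK LD1_c3 LD2_c23 LD3_c51)) = v6584 :=
  Lgr Lrot38 (Lpr_dt (f654299 IH) (Lpn v6584))
theorem f832685 : Led Lsl_gf v6584 = v26227 :=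
  Lgr Lrot148 (Lpe (f654301 IH) (Lpq (f707494 IH) (Lpe (f649966 IH) (Lpe (K59.f439727 IH) (Lpr_ct (K51.f128742 IH) (Lpe (K51.f128739 IH) (Lpr_gf (K51.f708400 IH) (Lpe (K51.f416192 IH) (Lpr_gf (f653406 IH) (Lpr_ct (f832682 IH) (Lpn v26227)))))))))))
def v18759 : LQ := Led Lsl_et (LP (LK LD1_c6 LD2_c32 LD3_c42))
theorem f768327 : Led Lsl_et (LP (LK LD1_c6 LD2_c32 LD3_c42)) = v18759 :=
  Lrfl
theorem f654302 : Led Lsl_bt (LP (LK LD1_c3 LD2_c23 LD3_c53)) = v6584 :=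
  Lgr Lrot95 (Lpe (K58.f76844 IH) (Lpe (K46.f77081 IH) (Lpr_df (f654301 IH) (Lpn v6584))))
theorem f654303 : Led Lsl_ef (LP (LK LD1_c6 LD2_c49 LD3_c41)) = v6584 :=
  Lgr Lrot29 (Lpr_bt (K46.f76867 IH) (Lpe (K58.f76888 IH) (Lpr_bt (f654302 IH) (Lpn v6584))))
theorem f768328 : Led Lsl_af v6584 = v18759 :=
  Lgr Lrot50 (Lpe (f654303 IH) (Lpe (K51.f653815 IH) (Lpq (K51.f707475 IH) (Lpr_et (f768327 IH) (Lpn v18759)))))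
theorem f768330 : Led Lsl_ef (LP (LK LD1_c6 LD2_c32 LD3_c42)) = v18759 :=
  Lgr Lrot88 (Lpr_et (f768327 IH) (Lpn v18759))
theorem f768333 : Led Lsl_df K54.v13314 = v18759 :=
  Lgr Lrot168 (Lpe (K54.f702290 IH) (Lpe (f439731 IH) (Lpe (K5.f128609 IH) (Lpe (K52.f126531 IH) (Lpr_ef (K59.f759786 IH) (Lpe (K59.f759784 IH) (Lpr_gf (K51.f708693 IH) (Lpr_df (K51.f702294 IH) (Lpe (K51.f702303 IH) (Lpr_ef (f768330 IH) (Lpn v18759)))))))))))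
theorem f509761 : Led Lsl_at (LP (LK LD1_c3 LD2_c23 LD3_c51)) = (LP (LK LD1_c6 LD2_c50 LD3_c47)) :=
  Lre_a IH (LK LD1_c3 LD2_c23 LD3_c51) (LK LD1_c6 LD2_c50 LD3_c47) Lrfl Lrfl
theorem f653987 : Led Lsl_ft (LP (LK LD1_c6 LD2_c50 LD3_c47)) = K46.v6115 :=
  Lgr Lrot101 (Lpe (f509761 IH) (Lpr_ff (K46.f653985 IH) (Lpe (K51.f653816 IH) (Lpn K46.v6115))))
theorem f768335 : Led Lsl_ft K59.v18758 = v18759 :=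
  Lgr Lrot54 (Lpe (K59.f768323 IH) (Lpqs (K51.f707475 IH) (Lpe (f653987 IH) (Lpqs (K54.f708455 IH) (Lpr_df (f768333 IH) (Lpn v18759))))))
theorem f832686 : Led Lsl_gt K59.v18758 = v26227 :=
  Lgr Lrot5 (Lpr_ft (f768335 IH) (Lpe (f768328 IH) (Lpr_gf (f832685 IH) (Lpn v26227))))
theorem f847251 : Led Lsl_df v26227 = v29013 :=
  Lgr Lrot132 (Lpe (f832686 IH) (Lpe (K59.f768323 IH) (Lpe (K51.f103545 IH) (Lpe (K4.f93222 IH) (Lpr_dt (K3.f24312 IH) (Lpe (K4.f95579 IH) (Lpe (f91970 IH) (Lpr_et (K60.f509721 IH) (Lpr_gf (f672359 IH) (Lpr_ef (f847248 IH) (Lpn v29013)))))))))))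
theorem f847252 : Led Lsl_dt v26227 = v29013 :=
  Lgr Lrot42 (Lpr_df (f847251 IH) (Lpn v29013))
theorem f772226 : Led Lsl_ef K59.v18758 = K59.v17594 :=
  Lgr Lrot88 (Lpr_et (K59.f772223 IH) (Lpn K59.v17594))
def v17590 : LQ := Led Lsl_et (LP (LK LD1_c6 LD2_c20 LD3_c37))
theorem f761022 : Led Lsl_et (LP (LK LD1_c6 LD2_c20 LD3_c37)) = v17590 :=
  Lrfl
theorem f761025 : Led Lsl_ef (LP (LK LD1_c6 LD2_c20 LD3_c37)) = v17590 :=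
  Lgr Lrot88 (Lpr_et (f761022 IH) (Lpn v17590))
theorem f761026 : Led Lsl_at (LP (LK LD1_c6 LD2_c20 LD3_c40)) = v17590 :=
  Lgr Lrot80 (Lpe (K52.f647599 IH) (Lpe (K57.f504586 IH) (Lpr_ef (f761025 IH) (Lpn v17590))))
theorem f649053 : Led Lsl_dt (LP (LK LD1_c6 LD2_c29 LD3_c8)) = (LP (LK LD1_c3 LD2_c12 LD3_c31)) :=
  Lre_d IH (LK LD1_c6 LD2_c29 LD3_c8) (LK LD1_c3 LD2_c12 LD3_c31) Lrfl Lrfl
theorem f707898 : Led Lsl_ff (LP (LK LD1_c6 LD2_c29 LD3_c8)) = (LP (LK LD1_c6 LD2_c20 LD3_c40)) :=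
  Lgr Lrot19 (Lpr_dt (f649053 IH) (Lpr_ft (K51.f649062 IH) (Lpqs (K51.f707822 IH) (Lpe (K52.f670697 IH) (Lpn (LP (LK LD1_c6 LD2_c20 LD3_c40)))))))
theorem f715828 : Led Lsl_ft (LP (LK LD1_c6 LD2_c29 LD3_c8)) = (LP (LK LD1_c6 LD2_c20 LD3_c40)) :=
  Lgr Lrot48 (Lpr_ff (f707898 IH) (Lpn (LP (LK LD1_c6 LD2_c20 LD3_c40))))
theorem f649092 : Led Lsl_at (LP (LK LD1_c12 LD2_c28 LD3_c33)) = (LP (LK LD1_c6 LD2_c29 LD3_c8)) :=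
  Lre_a IH (LK LD1_c12 LD2_c28 LD3_c33) (LK LD1_c6 LD2_c29 LD3_c8) Lrfl Lrfl
theorem f761028 : Led Lsl_ff (LP (LK LD1_c12 LD2_c28 LD3_c33)) = v17590 :=
  Lgr Lrot30 (Lpr_at (f649092 IH) (Lpr_ft (f715828 IH) (Lpr_at (f761026 IH) (Lpn v17590))))
theorem f761031 : Led Lsl_ft (LP (LK LD1_c12 LD2_c28 LD3_c33)) = v17590 :=
  Lgr Lrot48 (Lpr_ff (f761028 IH) (Lpn v17590))
theorem f766702 : Led Lsl_dt v17590 = K58.v18387 :=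
  Lgr Lrot60 (Lpe (f761031 IH) (Lpe (K58.f708000 IH) (Lpr_ff (K58.f766696 IH) (Lpn K58.v18387))))
def v13757 : LQ := Led Lsl_et (LP (LK LD1_c4 LD2_c47 LD3_c50))
theorem f704695 : Led Lsl_et (LP (LK LD1_c4 LD2_c47 LD3_c50)) = v13757 :=
  Lrfl
theorem f761027 : Led Lsl_ct v13757 = v17590 :=
  Lgr Lrot15 (Lpe (f704695 IH) (Lpr_cf (K57.f704689 IH) (Lpq (K57.f715893 IH) (Lpr_ef (f761025 IH) (Lpn v17590)))))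
theorem f766701 : Led Lsl_ct K58.v13466 = K58.v18387 :=
  Lgr Lrot40 (Lpe (K58.f703157 IH) (Lpr_cf (K58.f703155 IH) (Lpq (K52.f707997 IH) (Lpr_ff (K58.f766696 IH) (Lpn K58.v18387)))))
theorem f632929 : Led Lsl_af K51.v1328 = K51.v4363 :=
  Lgr Lrot45 (Lpe (K51.f494874 IH) (Lpr_at (K46.f144051 IH) (Lpr_ft (K51.f632928 IH) (Lpn K51.v4363))))
theorem f632933 : Led Lsl_gt K51.v4361 = K51.v1328 :=
  Lgr Lrot46 (Lpe (K51.f632920 IH) (Lpr_ft (K51.f632928 IH) (Lpe (f632929 IH) (Lpn K51.v1328))))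
def v6434 : LQ := Led Lsl_ft (LP (LK LD1_c3 LD2_c21 LD3_c45))
theorem f653401 : Led Lsl_ft (LP (LK LD1_c3 LD2_c21 LD3_c45)) = v6434 :=
  Lrfl
theorem f653404 : Led Lsl_ff (LP (LK LD1_c3 LD2_c21 LD3_c45)) = v6434 :=
  Lgr Lrot3 (Lpr_ft (f653401 IH) (Lpn v6434))
theorem f653405 : Led Lsl_ct K32.v2200 = v6434 :=
  Lgr Lrot40 (Lpe (K32.f509586 IH) (Lpe (K62.f414559 IH) (Lpr_ff (f653404 IH) (Lpn v6434))))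
theorem f766705 : Led Lsl_gf v13757 = v6434 :=
  Lgr Lrot172 (Lpr_ct (f761027 IH) (Lpr_dt (f766702 IH) (Lpe (f766701 IH) (Lpqs (K58.f707934 IH) (Lpe (K58.f703024 IH) (Lpe (K58.f632965 IH) (Lpe (f632933 IH) (Lpr_dt (K51.f708008 IH) (Lpr_gt (K51.f653378 IH) (Lpr_ct (f653405 IH) (Lpn v6434)))))))))))
theorem f653384 : Led Lsl_at (LP (LK LD1_c3 LD2_c21 LD3_c45)) = (LP (LK LD1_c6 LD2_c46 LD3_c60)) :=
  Lre_a IH (LK LD1_c3 LD2_c21 LD3_c45) (LK LD1_c6 LD2_c46 LD3_c60) Lrfl Lrfl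
theorem f766706 : Led Lsl_gt v13757 = (LP (LK LD1_c6 LD2_c46 LD3_c60)) :=
  Lgr Lrot46 (Lpr_gf (f766705 IH) (Lpe (f653404 IH) (Lpr_at (f653384 IH) (Lpn (LP (LK LD1_c6 LD2_c46 LD3_c60))))))
theorem f649054 : Led Lsl_gt (LP (LK LD1_c12 LD2_c28 LD3_c38)) = (LP (LK LD1_c6 LD2_c29 LD3_c8)) :=
  Lre_g IH (LK LD1_c12 LD2_c28 LD3_c38) (LK LD1_c6 LD2_c29 LD3_c8) Lrfl Lrfl
theorem f761032 : Led Lsl_gf (LP (LK LD1_c12 LD2_c28 LD3_c38)) = v17590 :=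
  Lgr Lrot47 (Lpr_gt (f649054 IH) (Lpe (f649092 IH) (Lpr_ff (f761028 IH) (Lpn v17590))))
theorem f454422 : Led Lsl_dt (LP (LK LD1_c6 LD2_c46 LD3_c60)) = (LP (LK LD1_c12 LD2_c56 LD3_c59)) :=
  Lre_d IH (LK LD1_c6 LD2_c46 LD3_c60) (LK LD1_c12 LD2_c56 LD3_c59) Lrfl Lrfl
theorem f715766 : Led Lsl_af (LP (LK LD1_c9 LD2_c21 LD3_c26)) = (LP (LK LD1_c12 LD2_c57 LD3_c26)) :=
  Lgr Lrot0 (Lpr_at (K58.f708006 IH) (Lpn (LP (LK LD1_c12 LD2_c57 LD3_c26))))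
theorem f715791 : Led Lsl_gt (LP (LK LD1_c12 LD2_c56 LD3_c59)) = (LP (LK LD1_c9 LD2_c21 LD3_c26)) :=
  Lgr Lrot46 (Lpe (K51.f708798 IH) (Lpr_ft (K62.f715785 IH) (Lpe (f715766 IH) (Lpn (LP (LK LD1_c9 LD2_c21 LD3_c26))))))
theorem f766707 : Led Lsl_dt (LP (LK LD1_c12 LD2_c28 LD3_c38)) = K59.v17594 :=
  Lgr Lrot57 (Lpr_gf (f761032 IH) (Lpe (f761027 IH) (Lpr_gt (f766706 IH) (Lpr_dt (f454422 IH) (Lpr_gt (f715791 IH) (Lpr_dt (K58.f670704 IH) (Lpr_cf (K51.f670699 IH) (Lpe (K59.f670698 IH) (Lpr_gf (K59.f761048 IH) (Lpn K59.v17594))))))))))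
theorem f766708 : Led Lsl_df (LP (LK LD1_c12 LD2_c28 LD3_c38)) = K59.v17594 :=
  Lgr Lrot38 (Lpr_dt (f766707 IH) (Lpn K59.v17594))
theorem f766695 : Led Lsl_df v17590 = K58.v18387 :=
  Lgr Lrot78 (Lpe (f761028 IH) (Lpr_dt (K64.f708001 IH) (Lpr_ft (K58.f766691 IH) (Lpn K58.v18387))))
theorem f664463 : Led Lsl_dt (LP (LK LD1_c3 LD2_c45 LD3_c16)) = (LP (LK LD1_c7 LD2_c31 LD3_c18)) :=
  Lre_d IH (LK LD1_c3 LD2_c45 LD3_c16) (LK LD1_c7 LD2_c31 LD3_c18) Lrfl Lrfl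
theorem f772050 : (LP (LK LD1_c3 LD2_c45 LD3_c16)) = K58.v18387 :=
  Lefun (Lecon (Lfl_gf (K59.f664462 IH)) ((K59.f772029 IH).trans (K58.f767179 IH).symm)) (K58.f766710 IH)
theorem f772095 : v17590 = (LP (LK LD1_c7 LD2_c31 LD3_c18)) :=
  Lefun (Lecon (Lfl_df (f766695 IH)) (f772050 IH).symm) (f664463 IH)
theorem f664617 : Led Lsl_et (LP (LK LD1_c3 LD2_c45 LD3_c16)) = (LP (LK LD1_c7 LD2_c31 LD3_c19)) :=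
  Lre_e IH (LK LD1_c3 LD2_c45 LD3_c16) (LK LD1_c7 LD2_c31 LD3_c19) Lrfl Lrfl
def v22097 : LQ := Led Lsl_gf (LP (LK LD1_c7 LD2_c31 LD3_c19))
theorem f801334 : Led Lsl_gf (LP (LK LD1_c7 LD2_c31 LD3_c19)) = v22097 :=
  Lrfl
theorem f861289 : v22097 = (LP (LK LD1_c12 LD2_c27 LD3_c50)) :=
  (Llr Lrot141 (Lpe (f801334 IH) (Lpe (f664617 IH) (Lpr_dt (f664463 IH) (Lpq (f772095 IH) (Lpe (f761032 IH) (Lpr_df (f766708 IH) (Lpe (f772226 IH) (Lpr_gt (f832686 IH) (Lpr_dt (f847252 IH) (Lpr_gt (f861288 IH) (Lpe (f766202 IH) (Lpr_et (K57.f709486 IH) (Lpn (LP (LK LD1_c12 LD2_c27 LD3_c50)))))))))))))))).symm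
theorem f861290 : Led Lsl_gt (LP (LK LD1_c12 LD2_c27 LD3_c50)) = (LP (LK LD1_c7 LD2_c31 LD3_c19)) :=
  Leop (Lpr_gf (f801334 IH) (Lpqs (f861289 IH) (Lpn (LP (LK LD1_c12 LD2_c27 LD3_c50)))))
theorem seed_1999 : LEOK LG_g (LK LD1_c12 LD2_c27 LD3_c50) :=
  Leoe_g (LK LD1_c12 LD2_c27 LD3_c50) (f861290 IH)
def v17531 : LQ := Led Lsl_et (LP (LK LD1_c6 LD2_c20 LD3_c11))
theorem f760430 : Led Lsl_et (LP (LK LD1_c6 LD2_c20 LD3_c11)) = v17531 :=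
  Lrfl
theorem f157796 : Led Lsl_gf (LP (LK LD1_c7 LD2_c30 LD3_c57)) = (LP (LK LD1_c4 LD2_c37 LD3_c55)) :=
  Lgr Lrot181 (Lpr_ct (K32.f66529 IH) (Lpr_gt (K32.f157793 IH) (Lpe (K7.f130911 IH) (Lpr_bt (K7.f15593 IH) (Lpr_gt (K11.f15591 IH) (Lpe (K7.f130922 IH) (Lpr_ct (K6.f75056 IH) (Lpr_gt (K11.f80052 IH) (Lpe (K7.f93905 IH) (Lpr_bt (K30.f93906 IH) (Lpn (LP (LK LD1_c4 LD2_c37 LD3_c55)))))))))))))
theorem f157798 : Led Lsl_et (LP (LK LD1_c9 LD2_c11 LD3_c28)) = (LP (LK LD1_c4 LD2_c37 LD3_c55)) :=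
  Lre_e IH (LK LD1_c9 LD2_c11 LD3_c28) (LK LD1_c4 LD2_c37 LD3_c55) Lrfl Lrfl
theorem f157799 : Led Lsl_dt (LP (LK LD1_c9 LD2_c11 LD3_c28)) = (LP (LK LD1_c17 LD2_c5 LD3_c3)) :=
  Lre_d IH (LK LD1_c9 LD2_c11 LD3_c28) (LK LD1_c17 LD2_c5 LD3_c3) Lrfl Lrfl
def v10723 : LQ := Led Lsl_bt K59.v3443
def v31990 : LQ := Led Lsl_gf v10723
theorem f861352 : Led Lsl_gf v10723 = v31990 :=
  Lrfl
def v22101 : LQ := Led Lsl_et (LP (LK LD1_c7 LD2_c31 LD3_c20))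
theorem f801361 : Led Lsl_et (LP (LK LD1_c7 LD2_c31 LD3_c20)) = v22101 :=
  Lrfl
theorem f801364 : Led Lsl_ef (LP (LK LD1_c7 LD2_c31 LD3_c20)) = v22101 :=
  Lgr Lrot88 (Lpr_et (f801361 IH) (Lpn v22101))
theorem f141988 : Led Lsl_et (LP (LK LD1_c4 LD2_c36 LD3_c39)) = (LP (LK LD1_c9 LD2_c9 LD3_c22)) :=
  Lre_e IH (LK LD1_c4 LD2_c36 LD3_c39) (LK LD1_c9 LD2_c9 LD3_c22) Lrfl Lrfl
theorem f801366 : Led Lsl_bt (LP (LK LD1_c9 LD2_c9 LD3_c22)) = v22101 :=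
  Lgr Lrot119 (Lpe (f141988 IH) (Lpr_bf (K32.f428455 IH) (Lpr_ef (f801364 IH) (Lpn v22101))))
theorem f613139 : Led Lsl_ct (LP (LK LD1_c9 LD2_c9 LD3_c22)) = (LP (LK LD1_c4 LD2_c36 LD3_c40)) :=
  Lre_c IH (LK LD1_c9 LD2_c9 LD3_c22) (LK LD1_c4 LD2_c36 LD3_c40) Lrfl Lrfl
def v5929 : LQ := Led Lsl_gt (LP (LK LD1_c3 LD2_c15 LD3_c5))
theorem f650098 : Led Lsl_gt (LP (LK LD1_c3 LD2_c15 LD3_c5)) = v5929 :=
  Lrfl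
theorem f703279 : Led Lsl_gt v5929 = K58.v13491 :=
  Lgr Lrot46 (Lpe (f650098 IH) (Lpr_ft (K58.f508543 IH) (Lpr_at (K58.f703275 IH) (Lpn K58.v13491))))
theorem f646539 : Led Lsl_ff (LP (LK LD1_c3 LD2_c1 LD3_c61)) = K58.v5209 :=
  Lgr Lrot3 (Lpr_ft (K58.f646535 IH) (Lpn K58.v5209))
theorem f646544 : Led Lsl_gf K56.v2636 = K58.v5209 :=
  Lgr Lrot47 (Lpe (K56.f529945 IH) (Lpr_af (K3.f105251 IH) (Lpr_ff (f646539 IH) (Lpn K58.v5209))))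
theorem f768790 : v5929 = K58.v5209 :=
  Lefun (Lecon (Lfl_gt (f703279 IH)) (K58.f768783 IH).symm) (f646544 IH)
theorem f646537 : Led Lsl_cf K56.v2624 = K58.v5209 :=
  Lgr Lrot108 (Lpe (K56.f527923 IH) (Lpe (K60.f459557 IH) (Lpr_ft (K58.f646535 IH) (Lpn K58.v5209))))
theorem f681509 : Led Lsl_bt K59.v3443 = v10723 :=
  Lrfl
theorem f801367 : Led Lsl_gt v10723 = v22101 :=
  Lgr Lrot164 (Lpe (f681509 IH) (Lpe (K59.f625671 IH) (Lpr_gf (K56.f527926 IH) (Lpr_cf (f646537 IH) (Lpq (f768790 IH) (Lpe (f650098 IH) (Lpr_bf (K58.f435598 IH) (Lpr_ct (K58.f435605 IH) (Lpe (K49.f614979 IH) (Lpe (f613139 IH) (Lpr_bt (f801366 IH) (Lpn v22101))))))))))))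
theorem f801365 : Led Lsl_at v17531 = v22101 :=
  Lgr Lrot80 (Lpe (f760430 IH) (Lpe (K32.f428525 IH) (Lpr_ef (f801364 IH) (Lpn v22101))))
theorem f861353 : Led Lsl_ff v17531 = v31990 :=
  Lgr Lrot52 (Lpr_at (f801365 IH) (Lpe (f801367 IH) (Lpr_gf (f861352 IH) (Lpn v31990))))
theorem f861357 : Led Lsl_ft v17531 = v31990 :=
  Lgr Lrot48 (Lpr_ff (f861353 IH) (Lpn v31990))
theorem f760432 : Led Lsl_ef (LP (LK LD1_c6 LD2_c20 LD3_c11)) = v17531 :=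
  Lgr Lrot88 (Lpr_et (f760430 IH) (Lpn v17531))
theorem f801362 : Led Lsl_af v17531 = v22101 :=
  Lgr Lrot50 (Lpe (f760432 IH) (Lpr_at (K32.f428447 IH) (Lpr_et (f801361 IH) (Lpn v22101))))
def v8500 : LQ := Led Lsl_bt K59.v2068
def v28839 : LQ := Led Lsl_gt v8500
theorem f846407 : Led Lsl_gt v8500 = v28839 :=
  Lrfl
theorem f671451 : Led Lsl_bt K59.v2068 = v8500 :=
  Lrfl
theorem f446216 : Led Lsl_ct (LP (LK LD1_c17 LD2_c0 LD3_c11)) = (LP (LK LD1_c9 LD2_c7 LD3_c52)) :=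
  Lre_c IH (LK LD1_c17 LD2_c0 LD3_c11) (LK LD1_c9 LD2_c7 LD3_c52) Lrfl Lrfl
theorem f846408 : Led Lsl_bt (LP (LK LD1_c17 LD2_c0 LD3_c11)) = v28839 :=
  Lgr Lrot92 (Lpr_ct (f446216 IH) (Lpr_gt (K60.f446204 IH) (Lpe (K58.f446198 IH) (Lpe (K58.f446206 IH) (Lpqs (K58.f768779 IH) (Lpe (K58.f646533 IH) (Lpr_ct (K58.f459560 IH) (Lpr_gt (K58.f625584 IH) (Lpq (K59.f769111 IH) (Lpe (K59.f671453 IH) (Lpr_bt (f671451 IH) (Lpr_gt (f846407 IH) (Lpn v28839)))))))))))))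
theorem f613133 : Led Lsl_ct (LP (LK LD1_c4 LD2_c36 LD3_c40)) = (LP (LK LD1_c9 LD2_c9 LD3_c22)) :=
  Lre_c IH (LK LD1_c4 LD2_c36 LD3_c40) (LK LD1_c9 LD2_c9 LD3_c22) Lrfl Lrfl
theorem f622278 : Led Lsl_ft (LP (LK LD1_c9 LD2_c9 LD3_c22)) = (LP (LK LD1_c17 LD2_c0 LD3_c11)) :=
  Lgr Lrot4 (Lpe (f613133 IH) (Lpr_ff (K60.f622269 IH) (Lpe (f446216 IH) (Lpn (LP (LK LD1_c17 LD2_c0 LD3_c11))))))
theorem f207052 : Led Lsl_et (LP (LK LD1_c9 LD2_c9 LD3_c22)) = (LP (LK LD1_c4 LD2_c36 LD3_c39)) :=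
  Lre_e IH (LK LD1_c9 LD2_c9 LD3_c22) (LK LD1_c4 LD2_c36 LD3_c39) Lrfl Lrfl
theorem f801363 : Led Lsl_bf (LP (LK LD1_c9 LD2_c9 LD3_c22)) = v22101 :=
  Lgr Lrot96 (Lpr_et (f207052 IH) (Lpr_bt (K32.f428449 IH) (Lpr_et (f801361 IH) (Lpn v22101))))
theorem f846411 : Led Lsl_ff v22101 = v28839 :=
  Lgr Lrot25 (Lpe (f801363 IH) (Lpr_ft (f622278 IH) (Lpr_bt (f846408 IH) (Lpn v28839))))
theorem f861358 : Led Lsl_af v28839 = v31990 :=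
  Lgr Lrot45 (Lpe (f846411 IH) (Lpe (f801362 IH) (Lpr_ft (f861357 IH) (Lpn v31990))))
def v28840 : LQ := Led Lsl_gf v8500
theorem f846414 : Led Lsl_gf v8500 = v28840 :=
  Lrfl
theorem f861361 : v17531 = v28840 :=
  (Llr Lrot52 (Lpr_ft (f861357 IH) (Lpe (f861358 IH) (Lpe (f846407 IH) (Lpr_gf (f846414 IH) (Lpn v28840)))))).symm
def v28843 : LQ := Led Lsl_et v8500
theorem f846422 : Led Lsl_et v8500 = v28843 :=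
  Lrfl
theorem f846424 : Led Lsl_ef v8500 = v28843 :=
  Lgr Lrot88 (Lpr_et (f846422 IH) (Lpn v28843))
theorem f671452 : Led Lsl_bf K59.v2068 = v8500 :=
  Lgr Lrot24 (Lpr_bt (f671451 IH) (Lpn v8500))
theorem f846425 : Led Lsl_bt K59.v8503 = v28843 :=
  Lgr Lrot119 (Lpe (K59.f671457 IH) (Lpr_bf (f671452 IH) (Lpr_ef (f846424 IH) (Lpn v28843))))
theorem f119175 : Led Lsl_bt (LP (LK LD1_c12 LD2_c39 LD3_c60)) = (LP (LK LD1_c6 LD2_c37 LD3_c4)) :=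
  Lre_b IH (LK LD1_c12 LD2_c39 LD3_c60) (LK LD1_c6 LD2_c37 LD3_c4) Lrfl Lrfl
theorem f846426 : Led Lsl_df (LP (LK LD1_c12 LD2_c39 LD3_c60)) = v28843 :=
  Lgr Lrot12 (Lpr_bt (f119175 IH) (Lpr_dt (K59.f671461 IH) (Lpr_bt (f846425 IH) (Lpn v28843))))
theorem f861362 : Led Lsl_gf (LP (LK LD1_c17 LD2_c5 LD3_c3)) = (LP (LK LD1_c12 LD2_c39 LD3_c60)) :=
  Lgr Lrot145 (Lpe (f157799 IH) (Lpr_et (f157798 IH) (Lpe (f157796 IH) (Lpr_dt (K7.f150609 IH) (Lpr_gt (K6.f91442 IH) (Lpe (K32.f91489 IH) (Lpr_et (f760430 IH) (Lpqs (f861361 IH) (Lpe (f846414 IH) (Lpr_ef (f846424 IH) (Lpe (f846426 IH) (Lpn (LP (LK LD1_c12 LD2_c39 LD3_c60))))))))))))))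
theorem f861363 : Led Lsl_gt (LP (LK LD1_c12 LD2_c39 LD3_c60)) = (LP (LK LD1_c17 LD2_c5 LD3_c3)) :=
  Leop (Lpr_gf (f861362 IH) (Lpn (LP (LK LD1_c12 LD2_c39 LD3_c60))))
theorem seed_2000 : LEOK LG_g (LK LD1_c12 LD2_c39 LD3_c60) :=
  Leoe_g (LK LD1_c12 LD2_c39 LD3_c60) (f861363 IH)
def v953 : LQ := Led Lsl_ct K34.v124
def v3568 : LQ := Led Lsl_bt v953
def v10974 : LQ := Led Lsl_gf v3568
def v32529 : LQ := Led Lsl_dt v10974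
theorem f863595 : Led Lsl_dt v10974 = v32529 :=
  Lrfl
theorem f682702 : Led Lsl_gf v3568 = v10974 :=
  Lrfl
def v4352 : LQ := Led Lsl_bt (LP (LK LD1_c2 LD2_c19 LD3_c48))
theorem f632867 : Led Lsl_bt (LP (LK LD1_c2 LD2_c19 LD3_c48)) = v4352 :=
  Lrfl
theorem f490715 : Led Lsl_ct K34.v124 = v953 :=
  Lrfl
theorem f490717 : Led Lsl_cf K34.v124 = v953 :=
  Lgr Lrot11 (Lpr_ct (f490715 IH) (Lpn v953))
theorem f626292 : Led Lsl_bt v953 = v3568 :=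
  Lrfl
theorem f626293 : Led Lsl_bf v953 = v3568 :=
  Lgr Lrot24 (Lpr_bt (f626292 IH) (Lpn v3568))
theorem f632870 : Led Lsl_cf v3568 = v4352 :=
  Lgr Lrot97 (Lpe (f626293 IH) (Lpe (f490717 IH) (Lpe (f450587 IH) (Lpr_ct (K2.f23580 IH) (Lpr_bt (f632867 IH) (Lpn v4352))))))
theorem f632869 : Led Lsl_bf (LP (LK LD1_c2 LD2_c19 LD3_c48)) = v4352 :=
  Lgr Lrot24 (Lpr_bt (f632867 IH) (Lpn v4352))
theorem f202466 : Led Lsl_bt (LP (LK LD1_c7 LD2_c2 LD3_c7)) = (LP (LK LD1_c12 LD2_c1 LD3_c32)) :=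
  Lgr Lrot95 (Lpr_df (K34.f202401 IH) (Lpe (K7.f98889 IH) (Lpe (K7.f150905 IH) (Lpn (LP (LK LD1_c12 LD2_c1 LD3_c32))))))
theorem f682703 : Led Lsl_ct (LP (LK LD1_c7 LD2_c2 LD3_c7)) = v10974 :=
  Lgr Lrot64 (Lpr_bt (f202466 IH) (Lpe (K7.f96238 IH) (Lpe (K59.f115523 IH) (Lpr_ct (K4.f12753 IH) (Lpe (K4.f115516 IH) (Lpr_cf (K32.f152610 IH) (Lpr_gf (K7.f152600 IH) (Lpr_bf (f632869 IH) (Lpe (f632870 IH) (Lpr_gf (f682702 IH) (Lpn v10974)))))))))))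
def v20205 : LQ := Led Lsl_at (LP (LK LD1_c6 LD2_c51 LD3_c55))
theorem f785604 : Led Lsl_at (LP (LK LD1_c6 LD2_c51 LD3_c55)) = v20205 :=
  Lrfl
theorem f785607 : Led Lsl_cf (LP (LK LD1_c12 LD2_c1 LD3_c14)) = v20205 :=
  Lgr Lrot1 (Lpr_at (K7.f18283 IH) (Lpr_ct (K2.f18263 IH) (Lpr_at (f785604 IH) (Lpn v20205))))
def v18289 : LQ := Led Lsl_ct (LP (LK LD1_c6 LD2_c28 LD3_c12))
theorem f766114 : Led Lsl_ct (LP (LK LD1_c6 LD2_c28 LD3_c12)) = v18289 :=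
  Lrfl
theorem f420220 : Led Lsl_cf (LP (LK LD1_c9 LD2_c19 LD3_c53)) = (LP (LK LD1_c7 LD2_c43 LD3_c10)) :=
  Lgr Lrot169 (Lpr_gt (K32.f420218 IH) (Lpr_ct (K11.f204182 IH) (Lpe (K11.f61187 IH) (Lpe (K11.f202937 IH) (Lpe (K11.f202152 IH) (Lpe (K6.f40562 IH) (Lpe (K6.f40560 IH) (Lpr_df (K11.f40555 IH) (Lpe (K28.f15570 IH) (Lpn (LP (LK LD1_c7 LD2_c43 LD3_c10))))))))))))
theorem f766116 : Led Lsl_dt (LP (LK LD1_c6 LD2_c49 LD3_c37)) = v18289 :=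
  Lgr Lrot113 (Lpe (K6.f23358 IH) (Lpr_df (K11.f14076 IH) (Lpe (K11.f15569 IH) (Lpe (f420220 IH) (Lpr_gt (K32.f420218 IH) (Lpr_dt (K11.f64594 IH) (Lpe (K46.f604990 IH) (Lpr_dt (K46.f83077 IH) (Lpr_ct (f766114 IH) (Lpn v18289))))))))))
theorem f766117 : Led Lsl_df (LP (LK LD1_c6 LD2_c49 LD3_c37)) = v18289 :=
  Lgr Lrot38 (Lpr_dt (f766116 IH) (Lpn v18289))
theorem f40522 : Led Lsl_dt (LP (LK LD1_c8 LD2_c0 LD3_c20)) = (LP (LK LD1_c6 LD2_c56 LD3_c38)) :=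
  Lgr Lrot44 (Lpr_af (K6.f40419 IH) (Lpe (K4.f15540 IH) (Lpe (K11.f15544 IH) (Lpn (LP (LK LD1_c6 LD2_c56 LD3_c38))))))
theorem f202428 : Led Lsl_dt (LP (LK LD1_c7 LD2_c2 LD3_c6)) = (LP (LK LD1_c6 LD2_c33 LD3_c39)) :=
  Lgr Lrot44 (Lpr_af (K32.f202423 IH) (Lpe (K7.f101904 IH) (Lpr_af (K7.f150823 IH) (Lpn (LP (LK LD1_c6 LD2_c33 LD3_c39))))))
theorem f766118 : Led Lsl_gt (LP (LK LD1_c7 LD2_c1 LD3_c57)) = v18289 :=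
  Lgr Lrot94 (Lpe (K2.f18269 IH) (Lpr_gt (K32.f64917 IH) (Lpr_dt (f202428 IH) (Lpr_gt (K11.f15591 IH) (Lpr_dt (K11.f15587 IH) (Lpr_cf (K11.f15538 IH) (Lpe (f40522 IH) (Lpr_gf (K6.f40527 IH) (Lpr_df (f766117 IH) (Lpn v18289))))))))))
theorem f785609 : Led Lsl_gt v18289 = v20205 :=
  Lgr Lrot46 (Lpe (f766118 IH) (Lpr_ft (K2.f18266 IH) (Lpr_at (f785604 IH) (Lpn v20205))))
theorem f863602 : Led Lsl_ct (LP (LK LD1_c9 LD2_c48 LD3_c55)) = v32529 :=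
  Lgr Lrot151 (Lpe (K32.f40413 IH) (Lpe (K6.f40315 IH) (Lpr_gf (K6.f40527 IH) (Lpr_dt (f766116 IH) (Lpr_gt (f785609 IH) (Lpe (f785607 IH) (Lpr_gt (K32.f100213 IH) (Lpr_ct (f682703 IH) (Lpr_dt (f863595 IH) (Lpn v32529))))))))))
theorem f202508 : Led Lsl_bt (LP (LK LD1_c9 LD2_c48 LD3_c55)) = (LP (LK LD1_c17 LD2_c59 LD3_c12)) :=
  Lre_b IH (LK LD1_c9 LD2_c48 LD3_c55) (LK LD1_c17 LD2_c59 LD3_c12) Lrfl Lrfl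
def v12981 : LQ := Led Lsl_bt (LP (LK LD1_c4 LD2_c36 LD3_c0))
theorem f699999 : Led Lsl_bt (LP (LK LD1_c4 LD2_c36 LD3_c0)) = v12981 :=
  Lrfl
theorem f137308 : Led Lsl_bt (LP (LK LD1_c2 LD2_c53 LD3_c37)) = (LP (LK LD1_c3 LD2_c55 LD3_c41)) :=
  Lgr Lrot128 (Lpe (K2.f61206 IH) (Lpr_bf (K6.f137304 IH) (Lpe (K5.f132314 IH) (Lpr_bf (K5.f12280 IH) (Lpe (K3.f11843 IH) (Lpn (LP (LK LD1_c3 LD2_c55 LD3_c41))))))))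
theorem f682704 : Led Lsl_cf (LP (LK LD1_c7 LD2_c2 LD3_c7)) = v10974 :=
  Lgr Lrot11 (Lpr_ct (f682703 IH) (Lpn v10974))
theorem f700004 : Led Lsl_gf v10974 = v12981 :=
  Lgr Lrot181 (Lpe (f682704 IH) (Lpr_gt (K32.f58411 IH) (Lpe (K2.f18261 IH) (Lpr_bt (K2.f18256 IH) (Lpr_gt (K3.f97578 IH) (Lpe (f137308 IH) (Lpr_ct (K7.f22813 IH) (Lpe (K6.f104753 IH) (Lpe (K2.f70860 IH) (Lpr_bt (f699999 IH) (Lpn v12981)))))))))))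
theorem f82994 : Led Lsl_bt (LP (LK LD1_c5 LD2_c55 LD3_c51)) = (LP (LK LD1_c2 LD2_c54 LD3_c17)) :=
  Lre_b IH (LK LD1_c5 LD2_c55 LD3_c51) (LK LD1_c2 LD2_c54 LD3_c17) Lrfl Lrfl
theorem f700002 : Led Lsl_cf (LP (LK LD1_c5 LD2_c55 LD3_c51)) = v12981 :=
  Lgr Lrot97 (Lpr_bt (f82994 IH) (Lpr_ct (K6.f71912 IH) (Lpe (K2.f71321 IH) (Lpr_ct (K2.f70888 IH) (Lpr_bt (f699999 IH) (Lpn v12981))))))
def v16253 : LQ := Led Lsl_gt (LP (LK LD1_c5 LD2_c55 LD3_c51))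
theorem f747329 : Led Lsl_gt (LP (LK LD1_c5 LD2_c55 LD3_c51)) = v16253 :=
  Lrfl
def v1263 : LQ := Led Lsl_bt (LP (LK LD1_c1 LD2_c4 LD3_c32))
theorem f494384 : Led Lsl_bt (LP (LK LD1_c1 LD2_c4 LD3_c32)) = v1263 :=
  Lrfl
theorem f494385 : Led Lsl_bf (LP (LK LD1_c1 LD2_c4 LD3_c32)) = v1263 :=
  Lgr Lrot24 (Lpr_bt (f494384 IH) (Lpn v1263))
theorem f163585 : Led Lsl_bf (LP (LK LD1_c0 LD2_c37 LD3_c56)) = (LP (LK LD1_c1 LD2_c4 LD3_c17)) :=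
  Lgr Lrot24 (Lpr_bt (K8.f163581 IH) (Lpn (LP (LK LD1_c1 LD2_c4 LD3_c17))))
theorem f494392 : Led Lsl_cf K42.v413 = v1263 :=
  Lgr Lrot58 (Lpr_gf (K42.f494341 IH) (Lpe (K42.f494335 IH) (Lpe (f163585 IH) (Lpe (K8.f151796 IH) (Lpe (K6.f35235 IH) (Lpr_ct (K6.f35236 IH) (Lpe (K6.f71936 IH) (Lpe (K2.f71911 IH) (Lpr_gf (K8.f161427 IH) (Lpr_bf (f494385 IH) (Lpn v1263)))))))))))
theorem f494393 : Led Lsl_ct K42.v413 = v1263 :=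
  Lgr Lrot59 (Lpr_cf (f494392 IH) (Lpn v1263))
theorem f537089 : v1263 = (LP (LK LD1_c2 LD2_c14 LD3_c6)) :=
  Lefun (Lecon (f494393 IH) (K42.f536880 IH)) (K12.f26671 IH)
theorem f204721 : Led Lsl_dt (LP (LK LD1_c3 LD2_c5 LD3_c25)) = (LP (LK LD1_c6 LD2_c16 LD3_c41)) :=
  Lre_d IH (LK LD1_c3 LD2_c5 LD3_c25) (LK LD1_c6 LD2_c16 LD3_c41) Lrfl Lrfl
theorem f543830 : Led Lsl_gt (LP (LK LD1_c7 LD2_c34 LD3_c5)) = (LP (LK LD1_c12 LD2_c10 LD3_c21)) :=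
  Lgr Lrot180 (Lpr_ct (K3.f109895 IH) (Lpe (K3.f109893 IH) (Lpr_dt (K3.f108996 IH) (Lpe (K3.f109018 IH) (Lpr_dt (K28.f94531 IH) (Lpr_ct (K37.f543816 IH) (Lpe (f204721 IH) (Lpe (K38.f204724 IH) (Lpe (K40.f543829 IH) (Lpn (LP (LK LD1_c12 LD2_c10 LD3_c21))))))))))))
theorem f109902 : Led Lsl_bt (LP (LK LD1_c4 LD2_c45 LD3_c16)) = (LP (LK LD1_c7 LD2_c34 LD3_c5)) :=
  Lgr Lrot127 (Lpr_bf (K3.f109898 IH) (Lpn (LP (LK LD1_c7 LD2_c34 LD3_c5))))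
theorem f747331 : Led Lsl_df (LP (LK LD1_c9 LD2_c23 LD3_c12)) = v16253 :=
  Lgr Lrot183 (Lpr_ct (K7.f17123 IH) (Lpr_bt (f109902 IH) (Lpr_gt (f543830 IH) (Lpr_dt (K40.f543829 IH) (Lpe (K40.f557847 IH) (Lpr_bt (K36.f301907 IH) (Lpe (K41.f301965 IH) (Lpr_dt (K55.f146399 IH) (Lpr_ct (K60.f146343 IH) (Lpe (K37.f211006 IH) (Lpr_gt (K36.f177099 IH) (Lpr_dt (K9.f26631 IH) (Lpr_ct (K12.f26671 IH) (Lpq (f537089 IH) (Lpe (f494385 IH) (Lpe (K8.f161427 IH) (Lpr_dt (K8.f71949 IH) (Lpr_ct (K6.f71842 IH) (Lpr_bt (K46.f72080 IH) (Lpr_gt (f747329 IH) (Lpn v16253)))))))))))))))))))))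
theorem f863601 : Led Lsl_gf (LP (LK LD1_c9 LD2_c18 LD3_c7)) = v32529 :=
  Lgr Lrot143 (Lpr_dt (K11.f61179 IH) (Lpe (K11.f203408 IH) (Lpe (K11.f152475 IH) (Lpr_gf (K32.f203405 IH) (Lpr_df (f747331 IH) (Lpe (f747329 IH) (Lpr_cf (f700002 IH) (Lpe (f700004 IH) (Lpr_dt (f863595 IH) (Lpn v32529))))))))))
theorem f141761 : Led Lsl_bt (LP (LK LD1_c6 LD2_c36 LD3_c22)) = (LP (LK LD1_c12 LD2_c38 LD3_c42)) :=
  Lre_b IH (LK LD1_c6 LD2_c36 LD3_c22) (LK LD1_c12 LD2_c38 LD3_c42) Lrfl Lrfl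
theorem f863604 : Led Lsl_gf (LP (LK LD1_c17 LD2_c59 LD3_c12)) = (LP (LK LD1_c12 LD2_c38 LD3_c42)) :=
  Lgr Lrot124 (Lpe (f202508 IH) (Lpr_ct (f863602 IH) (Lpe (f863601 IH) (Lpe (K11.f155794 IH) (Lpr_bt (K11.f141784 IH) (Lpe (K8.f141779 IH) (Lpr_ct (K4.f26388 IH) (Lpr_gt (K7.f80029 IH) (Lpr_cf (K32.f141762 IH) (Lpr_bt (f141761 IH) (Lpn (LP (LK LD1_c12 LD2_c38 LD3_c42)))))))))))))
theorem f863605 : Led Lsl_gt (LP (LK LD1_c12 LD2_c38 LD3_c42)) = (LP (LK LD1_c17 LD2_c59 LD3_c12)) :=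
  Leop (Lpr_gf (f863604 IH) (Lpn (LP (LK LD1_c12 LD2_c38 LD3_c42))))
theorem seed_2001 : LEOK LG_g (LK LD1_c12 LD2_c38 LD3_c42) :=
  Leoe_g (LK LD1_c12 LD2_c38 LD3_c42) (f863605 IH)
def v3576 : LQ := Led Lsl_dt K51.v956
def v10998 : LQ := Led Lsl_et v3576
def v32570 : LQ := Led Lsl_ft v10998
theorem f863816 : Led Lsl_ft v10998 = v32570 :=
  Lrfl
theorem f863820 : Led Lsl_ff v10998 = v32570 :=
  Lgr Lrot3 (Lpr_ft (f863816 IH) (Lpn v32570))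
theorem f682806 : Led Lsl_et v3576 = v10998 :=
  Lrfl
theorem f626323 : Led Lsl_dt K51.v956 = v3576 :=
  Lrfl
def v1854 : LQ := Led Lsl_ct (LP (LK LD1_c1 LD2_c30 LD3_c5))
theorem f504575 : Led Lsl_ct (LP (LK LD1_c1 LD2_c30 LD3_c5)) = v1854 :=
  Lrfl
theorem f504578 : Led Lsl_df K32.v486 = v1854 :=
  Lgr Lrot43 (Lpe (K32.f453578 IH) (Lpr_dt (K5.f82516 IH) (Lpr_ct (K5.f82392 IH) (Lpr_dt (K5.f131552 IH) (Lpr_ct (K7.f131561 IH) (Lpr_dt (K7.f152392 IH) (Lpr_ct (K7.f61175 IH) (Lpr_dt (K7.f61138 IH) (Lpr_ct (K3.f60957 IH) (Lpr_dt (K2.f60991 IH) (Lpr_ct (K3.f25761 IH) (Lpr_dt (K1.f25017 IH) (Lpr_ct (K3.f58915 IH) (Lpr_dt (K5.f91441 IH) (Lpr_ct (f504575 IH) (Lpn v1854))))))))))))))))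
theorem f626328 : Led Lsl_gf v1854 = v3576 :=
  Lgr Lrot143 (Lpe (f504578 IH) (Lpe (K32.f453576 IH) (Lpe (K5.f82513 IH) (Lpr_gf (K58.f131402 IH) (Lpr_df (K5.f128915 IH) (Lpe (K5.f59508 IH) (Lpr_cf (K63.f450608 IH) (Lpr_gt (K51.f490730 IH) (Lpr_dt (f626323 IH) (Lpn v3576))))))))))
theorem f453581 : Led Lsl_gf (LP (LK LD1_c2 LD2_c18 LD3_c7)) = K32.v486 :=
  Lgr Lrot148 (Lpe (K3.f104725 IH) (Lpr_gt (K55.f443199 IH) (Lpr_dt (K2.f26143 IH) (Lpr_ct (K2.f26087 IH) (Lpe (K2.f26076 IH) (Lpe (K3.f26099 IH) (Lpr_df (K34.f124429 IH) (Lpe (K32.f131406 IH) (Lpr_ct (K32.f453576 IH) (Lpn K32.v486))))))))))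
theorem f90089 : Led Lsl_dt (LP (LK LD1_c3 LD2_c46 LD3_c30)) = (LP (LK LD1_c7 LD2_c33 LD3_c56)) :=
  Lre_d IH (LK LD1_c3 LD2_c46 LD3_c30) (LK LD1_c7 LD2_c33 LD3_c56) Lrfl Lrfl
theorem f104256 : Led Lsl_et (LP (LK LD1_c1 LD2_c50 LD3_c21)) = (LP (LK LD1_c3 LD2_c46 LD3_c30)) :=
  Lre_e IH (LK LD1_c1 LD2_c50 LD3_c21) (LK LD1_c3 LD2_c46 LD3_c30) Lrfl Lrfl
theorem f104258 : Led Lsl_df (LP (LK LD1_c1 LD2_c50 LD3_c21)) = (LP (LK LD1_c1 LD2_c29 LD3_c60)) :=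
  Lgr Lrot70 (Lpr_et (f104256 IH) (Lpr_dt (f90089 IH) (Lpr_et (K51.f104251 IH) (Lpr_dt (K51.f104257 IH) (Lpr_et (K51.f61942 IH) (Lpn (LP (LK LD1_c1 LD2_c29 LD3_c60))))))))
theorem f626330 : Led Lsl_ct (LP (LK LD1_c3 LD2_c7 LD3_c13)) = v3576 :=
  Lgr Lrot8 (Lpe (K5.f128365 IH) (Lpr_dt (K5.f118700 IH) (Lpr_gt (K5.f61929 IH) (Lpe (f104258 IH) (Lpe (K3.f68343 IH) (Lpr_df (K3.f104725 IH) (Lpr_gf (f453581 IH) (Lpr_df (f504578 IH) (Lpr_gf (f626328 IH) (Lpn v3576))))))))))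
theorem f117026 : Led Lsl_at (LP (LK LD1_c1 LD2_c32 LD3_c35)) = (LP (LK LD1_c1 LD2_c29 LD3_c51)) :=
  Lgr Lrot26 (Lpr_ff (K4.f112040 IH) (Lpr_gt (K4.f116772 IH) (Lpe (K4.f110804 IH) (Lpn (LP (LK LD1_c1 LD2_c29 LD3_c51))))))
theorem f508771 : Led Lsl_df K63.v957 = K59.v2091 :=
  Lgr Lrot106 (Lpe (K63.f490735 IH) (Lpe (K63.f453507 IH) (Lpr_ct (K3.f57580 IH) (Lpr_dt (K5.f66653 IH) (Lpr_ct (K4.f110388 IH) (Lpe (f117026 IH) (Lpr_ff (K4.f112040 IH) (Lpr_dt (K5.f89452 IH) (Lpr_ct (K59.f508766 IH) (Lpn K59.v2091))))))))))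
theorem f626331 : Led Lsl_at (LP (LK LD1_c3 LD2_c10 LD3_c50)) = v3576 :=
  Lgr Lrot33 (Lpr_ff (K59.f508770 IH) (Lpe (f508771 IH) (Lpe (K63.f490735 IH) (Lpe (K63.f453507 IH) (Lpr_ct (K3.f57580 IH) (Lpr_dt (K5.f66653 IH) (Lpr_ct (K4.f110388 IH) (Lpr_dt (K5.f110451 IH) (Lpr_ct (f626330 IH) (Lpn v3576))))))))))
theorem f91376 : Led Lsl_et (LP (LK LD1_c6 LD2_c26 LD3_c1)) = (LP (LK LD1_c3 LD2_c10 LD3_c50)) :=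
  Lre_e IH (LK LD1_c6 LD2_c26 LD3_c1) (LK LD1_c3 LD2_c10 LD3_c50) Lrfl Lrfl
theorem f682807 : Led Lsl_af (LP (LK LD1_c6 LD2_c26 LD3_c1)) = v10998 :=
  Lgr Lrot50 (Lpr_et (f91376 IH) (Lpr_at (f626331 IH) (Lpr_et (f682806 IH) (Lpn v10998))))
def v18038 : LQ := Led Lsl_gf (LP (LK LD1_c6 LD2_c26 LD3_c1))
theorem f764770 : Led Lsl_gf (LP (LK LD1_c6 LD2_c26 LD3_c1)) = v18038 :=
  Lrfl
theorem f863827 : Led Lsl_gf v18038 = v32570 :=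
  Lgr Lrot47 (Lpe (f764770 IH) (Lpr_af (f682807 IH) (Lpr_ff (f863820 IH) (Lpn v32570))))
theorem f118347 : Led Lsl_gt (LP (LK LD1_c6 LD2_c36 LD3_c51)) = (LP (LK LD1_c12 LD2_c39 LD3_c19)) :=
  Lre_g IH (LK LD1_c6 LD2_c36 LD3_c51) (LK LD1_c12 LD2_c39 LD3_c19) Lrfl Lrfl
theorem f508686 : Led Lsl_ct (LP (LK LD1_c12 LD2_c39 LD3_c19)) = (LP (LK LD1_c21 LD2_c45 LD3_c33)) :=
  Lre_c IH (LK LD1_c12 LD2_c39 LD3_c19) (LK LD1_c21 LD2_c45 LD3_c33) Lrfl Lrfl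
theorem f614723 : Led Lsl_ef (LP (LK LD1_c12 LD2_c32 LD3_c51)) = (LP (LK LD1_c9 LD2_c11 LD3_c34)) :=
  Lgr Lrot28 (Lpr_ct (K57.f435456 IH) (Lpr_et (K42.f614721 IH) (Lpr_ct (K49.f207331 IH) (Lpn (LP (LK LD1_c9 LD2_c11 LD3_c34))))))
theorem f68453 : Led Lsl_bt (LP (LK LD1_c12 LD2_c32 LD3_c51)) = (LP (LK LD1_c6 LD2_c32 LD3_c38)) :=
  Lre_b IH (LK LD1_c12 LD2_c32 LD3_c51) (LK LD1_c6 LD2_c32 LD3_c38) Lrfl Lrfl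
theorem f68380 : Led Lsl_et (LP (LK LD1_c3 LD2_c14 LD3_c31)) = (LP (LK LD1_c2 LD2_c21 LD3_c54)) :=
  Lgr Lrot74 (Lpe (K59.f68378 IH) (Lpr_ef (K24.f68376 IH) (Lpe (K59.f68379 IH) (Lpn (LP (LK LD1_c2 LD2_c21 LD3_c54))))))
theorem f68444 : Led Lsl_ct (LP (LK LD1_c6 LD2_c32 LD3_c38)) = (LP (LK LD1_c3 LD2_c14 LD3_c31)) :=
  Lre_c IH (LK LD1_c6 LD2_c32 LD3_c38) (LK LD1_c3 LD2_c14 LD3_c31) Lrfl Lrfl
theorem f68446 : Led Lsl_ef (LP (LK LD1_c6 LD2_c32 LD3_c38)) = (LP (LK LD1_c4 LD2_c48 LD3_c1)) :=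
  Lgr Lrot28 (Lpr_ct (f68444 IH) (Lpr_et (f68380 IH) (Lpr_ct (K59.f68445 IH) (Lpn (LP (LK LD1_c4 LD2_c48 LD3_c1))))))
theorem f68450 : Led Lsl_et (LP (LK LD1_c6 LD2_c32 LD3_c38)) = (LP (LK LD1_c4 LD2_c48 LD3_c1)) :=
  Lgr Lrot87 (Lpr_ef (f68446 IH) (Lpn (LP (LK LD1_c4 LD2_c48 LD3_c1))))
theorem f614732 : Led Lsl_bt (LP (LK LD1_c4 LD2_c48 LD3_c1)) = (LP (LK LD1_c9 LD2_c11 LD3_c34)) :=
  Lgr Lrot119 (Lpe (f68450 IH) (Lpe (f68453 IH) (Lpr_ef (f614723 IH) (Lpn (LP (LK LD1_c9 LD2_c11 LD3_c34))))))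
theorem f112894 : Led Lsl_ct (LP (LK LD1_c9 LD2_c11 LD3_c50)) = (LP (LK LD1_c17 LD2_c5 LD3_c36)) :=
  Lre_c IH (LK LD1_c9 LD2_c11 LD3_c50) (LK LD1_c17 LD2_c5 LD3_c36) Lrfl Lrfl
theorem f775137 : Led Lsl_gt (LP (LK LD1_c21 LD2_c45 LD3_c33)) = (LP (LK LD1_c17 LD2_c5 LD3_c36)) :=
  Lgr Lrot149 (Lpe (f508686 IH) (Lpe (f118347 IH) (Lpe (K4.f118349 IH) (Lpr_ct (K46.f118355 IH) (Lpr_gf (K46.f508685 IH) (Lpq (K46.f651829 IH) (Lpqs (K59.f771584 IH) (Lpe (K59.f68455 IH) (Lpr_bt (f614732 IH) (Lpe (K49.f643764 IH) (Lpe (K42.f112886 IH) (Lpr_ct (f112894 IH) (Lpn (LP (LK LD1_c17 LD2_c5 LD3_c36)))))))))))))))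
theorem f760865 : Led Lsl_bt (LP (LK LD1_c6 LD2_c44 LD3_c29)) = K59.v17548 :=
  Lgr Lrot35 (Lpe (K52.f207363 IH) (Lpe (K59.f160799 IH) (Lpr_ff (K59.f760864 IH) (Lpn K59.v17548))))
def v18358 : LQ := Led Lsl_gf (LP (LK LD1_c6 LD2_c28 LD3_c56))
theorem f766551 : Led Lsl_gf (LP (LK LD1_c6 LD2_c28 LD3_c56)) = v18358 :=
  Lrfl
theorem f766552 : Led Lsl_gt K59.v17548 = v18358 :=
  Lgr Lrot5 (Lpe (K59.f760864 IH) (Lpe (K59.f208842 IH) (Lpr_gf (f766551 IH) (Lpn v18358))))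
theorem f775139 : Led Lsl_bt (LP (LK LD1_c12 LD2_c39 LD3_c19)) = v18358 :=
  Lgr Lrot92 (Lpr_ct (f508686 IH) (Lpr_gt (f775137 IH) (Lpe (f112894 IH) (Lpr_bt (K42.f112886 IH) (Lpr_gt (K49.f643764 IH) (Lpr_ct (K49.f207333 IH) (Lpr_gt (K42.f207328 IH) (Lpe (K53.f207330 IH) (Lpr_bt (f760865 IH) (Lpr_gt (f766552 IH) (Lpn v18358)))))))))))
theorem f775140 : Led Lsl_bf (LP (LK LD1_c12 LD2_c39 LD3_c19)) = v18358 :=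
  Lgr Lrot24 (Lpr_bt (f775139 IH) (Lpn v18358))
theorem f128878 : Led Lsl_bt (LP (LK LD1_c6 LD2_c28 LD3_c24)) = (LP (LK LD1_c3 LD2_c16 LD3_c9)) :=
  Lgr Lrot127 (Lpr_bf (K7.f128875 IH) (Lpn (LP (LK LD1_c3 LD2_c16 LD3_c9))))
theorem f69311 : Led Lsl_ct (LP (LK LD1_c3 LD2_c23 LD3_c15)) = (LP (LK LD1_c1 LD2_c38 LD3_c1)) :=
  Lre_c IH (LK LD1_c3 LD2_c23 LD3_c15) (LK LD1_c1 LD2_c38 LD3_c1) Lrfl Lrfl
theorem f128880 : Led Lsl_ct (LP (LK LD1_c6 LD2_c28 LD3_c24)) = (LP (LK LD1_c6 LD2_c26 LD3_c1)) :=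
  Lgr Lrot83 (Lpr_bf (K7.f128875 IH) (Lpr_cf (K59.f69287 IH) (Lpe (K3.f69310 IH) (Lpe (f69311 IH) (Lpe (K59.f91366 IH) (Lpn (LP (LK LD1_c6 LD2_c26 LD3_c1))))))))
theorem f775141 : Led Lsl_cf v18038 = v18358 :=
  Lgr Lrot160 (Lpe (f764770 IH) (Lpe (f128880 IH) (Lpr_bt (f128878 IH) (Lpq (K59.f771510 IH) (Lpe (K59.f704839 IH) (Lpr_ct (K59.f68455 IH) (Lpq (K59.f771584 IH) (Lpqs (K46.f651829 IH) (Lpe (K46.f508685 IH) (Lpe (K46.f118355 IH) (Lpr_bt (K4.f118349 IH) (Lpr_gt (f118347 IH) (Lpr_bf (f775140 IH) (Lpn v18358))))))))))))))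
theorem f119196 : Led Lsl_gt (LP (LK LD1_c12 LD2_c39 LD3_c19)) = (LP (LK LD1_c6 LD2_c36 LD3_c46)) :=
  Lre_g IH (LK LD1_c12 LD2_c39 LD3_c19) (LK LD1_c6 LD2_c36 LD3_c46) Lrfl Lrfl
theorem f118803 : Led Lsl_ct (LP (LK LD1_c6 LD2_c36 LD3_c46)) = (LP (LK LD1_c12 LD2_c38 LD3_c44)) :=
  Lre_c IH (LK LD1_c6 LD2_c36 LD3_c46) (LK LD1_c12 LD2_c38 LD3_c44) Lrfl Lrfl
theorem f118804 : Led Lsl_gt (LP (LK LD1_c12 LD2_c38 LD3_c44)) = (LP (LK LD1_c21 LD2_c45 LD3_c0)) :=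
  Lre_g IH (LK LD1_c12 LD2_c38 LD3_c44) (LK LD1_c21 LD2_c45 LD3_c0) Lrfl Lrfl
theorem f128851 : Led Lsl_et (LP (LK LD1_c6 LD2_c19 LD3_c29)) = (LP (LK LD1_c3 LD2_c7 LD3_c13)) :=
  Lre_e IH (LK LD1_c6 LD2_c19 LD3_c29) (LK LD1_c3 LD2_c7 LD3_c13) Lrfl Lrfl
theorem f682808 : Led Lsl_cf (LP (LK LD1_c6 LD2_c19 LD3_c29)) = v10998 :=
  Lgr Lrot39 (Lpr_et (f128851 IH) (Lpr_ct (f626330 IH) (Lpr_et (f682806 IH) (Lpn v10998))))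
def v17458 : LQ := Led Lsl_ft (LP (LK LD1_c6 LD2_c19 LD3_c29))
theorem f759893 : Led Lsl_ft (LP (LK LD1_c6 LD2_c19 LD3_c29)) = v17458 :=
  Lrfl
theorem f863825 : Led Lsl_ct v17458 = v32570 :=
  Lgr Lrot40 (Lpe (f759893 IH) (Lpr_cf (f682808 IH) (Lpr_ff (f863820 IH) (Lpn v32570))))
theorem f93912 : Led Lsl_at (LP (LK LD1_c3 LD2_c17 LD3_c32)) = (LP (LK LD1_c6 LD2_c38 LD3_c21)) :=
  Lre_a IH (LK LD1_c3 LD2_c17 LD3_c32) (LK LD1_c6 LD2_c38 LD3_c21) Lrfl Lrfl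
theorem f128893 : Led Lsl_bf (LP (LK LD1_c6 LD2_c19 LD3_c29)) = (LP (LK LD1_c6 LD2_c38 LD3_c21)) :=
  Lgr Lrot81 (Lpe (K7.f128871 IH) (Lpr_bt (f128878 IH) (Lpr_at (K56.f93440 IH) (Lpr_bt (K63.f62208 IH) (Lpr_at (f93912 IH) (Lpn (LP (LK LD1_c6 LD2_c38 LD3_c21))))))))
theorem f128836 : Led Lsl_ft (LP (LK LD1_c12 LD2_c42 LD3_c23)) = (LP (LK LD1_c6 LD2_c38 LD3_c21)) :=
  Lre_f IH (LK LD1_c12 LD2_c42 LD3_c23) (LK LD1_c6 LD2_c38 LD3_c21) Lrfl Lrfl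
theorem f759894 : Led Lsl_bf (LP (LK LD1_c12 LD2_c42 LD3_c23)) = v17458 :=
  Lgr Lrot61 (Lpr_ft (f128836 IH) (Lpe (f128893 IH) (Lpr_ft (f759893 IH) (Lpn v17458))))
theorem f759903 : Led Lsl_gt (LP (LK LD1_c6 LD2_c38 LD3_c25)) = (LP (LK LD1_c12 LD2_c42 LD3_c23)) :=
  Lre_g IH (LK LD1_c6 LD2_c38 LD3_c25) (LK LD1_c12 LD2_c42 LD3_c23) Lrfl Lrfl
theorem f62272 : Led Lsl_bt (LP (LK LD1_c12 LD2_c42 LD3_c30)) = (LP (LK LD1_c6 LD2_c38 LD3_c25)) :=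
  Lre_b IH (LK LD1_c12 LD2_c42 LD3_c30) (LK LD1_c6 LD2_c38 LD3_c25) Lrfl Lrfl
theorem f863828 : Led Lsl_cf (LP (LK LD1_c21 LD2_c45 LD3_c0)) = (LP (LK LD1_c12 LD2_c42 LD3_c30)) :=
  Lgr Lrot163 (Lpe (f118804 IH) (Lpe (f118803 IH) (Lpe (f119196 IH) (Lpr_bf (f775140 IH) (Lpe (f775141 IH) (Lpr_gf (f863827 IH) (Lpe (f863825 IH) (Lpe (f759894 IH) (Lpe (f759903 IH) (Lpe (f62272 IH) (Lpn (LP (LK LD1_c12 LD2_c42 LD3_c30)))))))))))))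
theorem f863829 : Led Lsl_ct (LP (LK LD1_c12 LD2_c42 LD3_c30)) = (LP (LK LD1_c21 LD2_c45 LD3_c0)) :=
  Leop (Lpr_cf (f863828 IH) (Lpn (LP (LK LD1_c12 LD2_c42 LD3_c30))))
theorem seed_2002 : LEOK LG_c (LK LD1_c12 LD2_c42 LD3_c30) :=
  Leoe_c (LK LD1_c12 LD2_c42 LD3_c30) (f863829 IH)
def v21334 : LQ := Led Lsl_at (LP (LK LD1_c7 LD2_c16 LD3_c9))
theorem f795095 : Led Lsl_at (LP (LK LD1_c7 LD2_c16 LD3_c9)) = v21334 :=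
  Lrfl
def v21040 : LQ := Led Lsl_dt (LP (LK LD1_c7 LD2_c10 LD3_c42))
theorem f791769 : Led Lsl_dt (LP (LK LD1_c7 LD2_c10 LD3_c42)) = v21040 :=
  Lrfl
theorem f791770 : Led Lsl_df (LP (LK LD1_c7 LD2_c10 LD3_c42)) = v21040 :=
  Lgr Lrot38 (Lpr_dt (f791769 IH) (Lpn v21040))
def v7066 : LQ := Led Lsl_at (LP (LK LD1_c3 LD2_c37 LD3_c52))
theorem f660690 : Led Lsl_at (LP (LK LD1_c3 LD2_c37 LD3_c52)) = v7066 :=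
  Lrfl
theorem f660691 : Led Lsl_af (LP (LK LD1_c3 LD2_c37 LD3_c52)) = v7066 :=
  Lgr Lrot0 (Lpr_at (f660690 IH) (Lpn v7066))
theorem f795097 : Led Lsl_df v7066 = v21334 :=
  Lgr Lrot18 (Lpe (f660691 IH) (Lpr_dt (K49.f441813 IH) (Lpr_at (f795095 IH) (Lpn v21334))))
theorem f795098 : Led Lsl_dt v7066 = v21334 :=
  Lgr Lrot42 (Lpr_df (f795097 IH) (Lpn v21334))
def v3282 : LQ := Led Lsl_gf K49.v690
def v10319 : LQ := Led Lsl_dt v3282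
theorem f679811 : Led Lsl_dt v3282 = v10319 :=
  Lrfl
theorem f679812 : Led Lsl_df v3282 = v10319 :=
  Lgr Lrot38 (Lpr_dt (f679811 IH) (Lpn v10319))
def v3281 : LQ := Led Lsl_gt K49.v690
def v10316 : LQ := Led Lsl_ft v3281
theorem f679803 : Led Lsl_ft v3281 = v10316 :=
  Lrfl
theorem f679805 : Led Lsl_ff v3281 = v10316 :=
  Lgr Lrot3 (Lpr_ft (f679803 IH) (Lpn v10316))
def v10314 : LQ := Led Lsl_dt v3281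
theorem f679799 : Led Lsl_dt v3281 = v10314 :=
  Lrfl
def v21029 : LQ := Led Lsl_ft (LP (LK LD1_c7 LD2_c10 LD3_c37))
theorem f791715 : Led Lsl_ft (LP (LK LD1_c7 LD2_c10 LD3_c37)) = v21029 :=
  Lrfl
theorem f791718 : Led Lsl_ff (LP (LK LD1_c7 LD2_c10 LD3_c37)) = v21029 :=
  Lgr Lrot3 (Lpr_ft (f791715 IH) (Lpn v21029))
theorem f659500 : Led Lsl_dt (LP (LK LD1_c7 LD2_c10 LD3_c37)) = (LP (LK LD1_c3 LD2_c34 LD3_c43)) :=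
  Lre_d IH (LK LD1_c7 LD2_c10 LD3_c37) (LK LD1_c3 LD2_c34 LD3_c43) Lrfl Lrfl
theorem f791720 : Led Lsl_dt (LP (LK LD1_c7 LD2_c10 LD3_c38)) = v21029 :=
  Lgr Lrot60 (Lpe (K47.f659499 IH) (Lpe (f659500 IH) (Lpr_ff (f791718 IH) (Lpn v21029))))
def v21031 : LQ := Led Lsl_gf (LP (LK LD1_c7 LD2_c10 LD3_c38))
theorem f791723 : Led Lsl_gf (LP (LK LD1_c7 LD2_c10 LD3_c38)) = v21031 :=
  Lrfl
theorem f791724 : Led Lsl_gt K61.v6929 = v21031 :=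
  Lgr Lrot5 (Lpe (K61.f659529 IH) (Lpr_at (K61.f659515 IH) (Lpr_gf (f791723 IH) (Lpn v21031))))
theorem f819291 : (LP (LK LD1_c3 LD2_c34 LD3_c47)) = v21031 :=
  Lefun (Lecon (Lfl_gf (K61.f659544 IH)) (K64.f819290 IH).symm) (f791724 IH)
theorem f522403 : Led Lsl_cf K49.v733 = v2456 :=
  Lgr Lrot1 (Lpe (K49.f456976 IH) (Lpr_ct (K49.f10950 IH) (Lpr_at (f522401 IH) (Lpn v2456))))
def v7072 : LQ := Led Lsl_at (LP (LK LD1_c3 LD2_c37 LD3_c53))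
theorem f660711 : Led Lsl_at (LP (LK LD1_c3 LD2_c37 LD3_c53)) = v7072 :=
  Lrfl
theorem f660713 : Led Lsl_df v2456 = v7072 :=
  Lgr Lrot18 (Lpe (f522402 IH) (Lpr_dt (K61.f10951 IH) (Lpr_at (f660711 IH) (Lpn v7072))))
theorem f819297 : Led Lsl_gt v21029 = v7072 :=
  Lgr Lrot49 (Lpe (f791720 IH) (Lpr_gf (f791723 IH) (Lpq (f819291 IH) (Lpe (K61.f10981 IH) (Lpr_gt (K61.f519529 IH) (Lpq (K61.f787452 IH) (Lpe (K61.f519512 IH) (Lpr_gt (K47.f519488 IH) (Lpe (K49.f519493 IH) (Lpr_cf (f522403 IH) (Lpr_df (f660713 IH) (Lpn v7072))))))))))))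
theorem f819298 : Led Lsl_gf v21029 = K61.v7073 :=
  Lgr Lrot47 (Lpr_gt (f819297 IH) (Lpe (f660711 IH) (Lpr_ff (K61.f660719 IH) (Lpn K61.v7073))))
theorem f791717 : Led Lsl_df (LP (LK LD1_c7 LD2_c10 LD3_c38)) = v21029 :=
  Lgr Lrot78 (Lpr_ft (K61.f659526 IH) (Lpr_dt (K61.f433070 IH) (Lpr_ft (f791715 IH) (Lpn v21029))))
theorem f791674 : Led Lsl_ff (LP (LK LD1_c7 LD2_c10 LD3_c36)) = K61.v21026 :=
  Lgr Lrot3 (Lpr_ft (K61.f791671 IH) (Lpn K61.v21026))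
theorem f791686 : Led Lsl_ct (LP (LK LD1_c7 LD2_c10 LD3_c38)) = K61.v21026 :=
  Lgr Lrot40 (Lpe (K47.f659499 IH) (Lpe (K63.f11905 IH) (Lpr_ff (f791674 IH) (Lpn K61.v21026))))
theorem f819293 : (LP (LK LD1_c7 LD2_c10 LD3_c38)) = K64.v6934 :=
  Lefun (Lecon (Lfl_gf (f791723 IH)) (f819291 IH).symm) (K64.f659549 IH)
theorem f819296 : K64.v21024 = K61.v21026 :=
  Lefun (Lecon (K64.f791664 IH) (f819293 IH).symm) (f791686 IH)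
def v9135 : LQ := Led Lsl_gt v2456
theorem f673733 : Led Lsl_gt v2456 = v9135 :=
  Lrfl
theorem f660688 : Led Lsl_ft v2456 = K61.v7065 :=
  Lgr Lrot48 (Lpr_ff (f660686 IH) (Lpn K61.v7065))
theorem f673734 : Led Lsl_gf K61.v2457 = v9135 :=
  Lgr Lrot76 (Lpr_af (K61.f660684 IH) (Lpe (f660688 IH) (Lpr_gt (f673733 IH) (Lpn v9135))))
def v973 : LQ := Led Lsl_bt K61.v136
def v3629 : LQ := Led Lsl_gt v973
def v11169 : LQ := Led Lsl_bt v3629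
theorem f683319 : Led Lsl_bt v3629 = v11169 :=
  Lrfl
theorem f683320 : Led Lsl_bf v3629 = v11169 :=
  Lgr Lrot24 (Lpr_bt (f683319 IH) (Lpn v11169))
theorem f626480 : Led Lsl_gt v973 = v3629 :=
  Lrfl
theorem f490789 : Led Lsl_bt K61.v136 = v973 :=
  Lrfl
theorem f456790 : Led Lsl_bf K61.v163 = K49.v690 :=
  Lgr Lrot93 (Lpe (K61.f450834 IH) (Lpr_bt (K47.f10737 IH) (Lpr_dt (K49.f456789 IH) (Lpn K49.v690))))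
theorem f522409 : Led Lsl_ff (LP (LK LD1_c1 LD2_c45 LD3_c46)) = K61.v2457 :=
  Lgr Lrot3 (Lpr_ft (K61.f522406 IH) (Lpn K61.v2457))
theorem f10961 : Led Lsl_ct (LP (LK LD1_c1 LD2_c45 LD3_c46)) = (LP (LK LD1_c0 LD2_c49 LD3_c40)) :=
  Lre_c IH (LK LD1_c1 LD2_c45 LD3_c46) (LK LD1_c0 LD2_c49 LD3_c40) Lrfl Lrfl
theorem f522411 : Led Lsl_ct K49.v690 = K61.v2457 :=
  Lgr Lrot40 (Lpe (K49.f456797 IH) (Lpe (f10961 IH) (Lpr_ff (f522409 IH) (Lpn K61.v2457))))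
theorem f683321 : Led Lsl_cf v9135 = v11169 :=
  Lgr Lrot160 (Lpe (f673734 IH) (Lpe (f522411 IH) (Lpe (f456790 IH) (Lpr_gt (K61.f450923 IH) (Lpe (K61.f450927 IH) (Lpe (K35.f447635 IH) (Lpr_cf (K61.f450678 IH) (Lpr_bt (f490789 IH) (Lpr_gt (f626480 IH) (Lpr_bf (f683320 IH) (Lpn v11169)))))))))))
theorem f819301 : Led Lsl_gf K64.v11896 = v11169 :=
  Lgr Lrot144 (Lpe (K64.f815468 IH) (Lpe (K63.f683448 IH) (Lpr_dt (K64.f791662 IH) (Lpqs (f819296 IH) (Lpe (f791686 IH) (Lpr_df (f791717 IH) (Lpr_gf (f819298 IH) (Lpe (K61.f660721 IH) (Lpr_gf (f673734 IH) (Lpr_cf (f683321 IH) (Lpn v11169)))))))))))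
theorem f819302 : Led Lsl_dt v11169 = v11169 :=
  Lgr Lrot6 (Lpe (f819301 IH) (Lpe (K64.f686315 IH) (Lpr_gt (K61.f680442 IH) (Lpe (K61.f625236 IH) (Lpq (K49.f683810 IH) (Lpe (K49.f625237 IH) (Lpr_cf (K61.f625236 IH) (Lpe (K61.f680442 IH) (Lpr_cf (K64.f686315 IH) (Lpr_gf (f819301 IH) (Lpn v11169)))))))))))
theorem f683322 : Led Lsl_ct v9135 = v11169 :=
  Lgr Lrot59 (Lpr_cf (f683321 IH) (Lpn v11169))
theorem f522404 : Led Lsl_ct K49.v733 = v2456 :=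
  Lgr Lrot59 (Lpr_cf (f522403 IH) (Lpn v2456))
theorem f624966 : Led Lsl_gt K49.v690 = v3281 :=
  Lrfl
theorem f624967 : Led Lsl_gf K49.v733 = v3281 :=
  Lgr Lrot76 (Lpe (K49.f456975 IH) (Lpr_ff (K49.f456793 IH) (Lpr_gt (f624966 IH) (Lpn v3281))))
theorem f679800 : Led Lsl_df v3281 = v10314 :=
  Lgr Lrot38 (Lpr_dt (f679799 IH) (Lpn v10314))
theorem f819304 : v10314 = v3281 :=
  (Llr Lrot155 (Lpe (f679800 IH) (Lpe (f624967 IH) (Lpr_ct (f522404 IH) (Lpr_gt (f673733 IH) (Lpr_ct (f683322 IH) (Lpr_dt (f819302 IH) (Lpe (f683322 IH) (Lpe (f673733 IH) (Lpe (f522404 IH) (Lpr_gf (f624967 IH) (Lpn v3281)))))))))))).symm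
theorem f819305 : Led Lsl_df v10316 = v10316 :=
  Lgr Lrot78 (Lpe (f679805 IH) (Lpr_dt (f679799 IH) (Lpqs (f819304 IH) (Lpr_ft (f679803 IH) (Lpn v10316)))))
def v10311 : LQ := Led Lsl_at v3281
theorem f679789 : Led Lsl_at v3281 = v10311 :=
  Lrfl
theorem f679790 : Led Lsl_af v3281 = v10311 :=
  Lgr Lrot0 (Lpr_at (f679789 IH) (Lpn v10311))
theorem f624968 : Led Lsl_gf K49.v690 = v3282 :=
  Lrfl
theorem f679791 : Led Lsl_ft v3282 = v10311 :=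
  Lgr Lrot2 (Lpe (f624968 IH) (Lpr_gt (f624966 IH) (Lpr_af (f679790 IH) (Lpn v10311))))
theorem f679804 : Led Lsl_af v3282 = v10316 :=
  Lgr Lrot45 (Lpr_ft (f679791 IH) (Lpe (f679790 IH) (Lpr_ft (f679803 IH) (Lpn v10316))))
theorem f679792 : Led Lsl_ff v3282 = v10311 :=
  Lgr Lrot3 (Lpr_ft (f679791 IH) (Lpn v10311))
theorem f679806 : Led Lsl_at v3282 = v10316 :=
  Lgr Lrot66 (Lpr_ff (f679792 IH) (Lpe (f679789 IH) (Lpr_ff (f679805 IH) (Lpn v10316))))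
theorem f819306 : v10319 = v3282 :=
  (Llr Lrot44 (Lpe (f679811 IH) (Lpr_af (f679804 IH) (Lpr_df (f819305 IH) (Lpe (f679806 IH) (Lpn v3282)))))).symm
theorem f456792 : Led Lsl_df (LP (LK LD1_c0 LD2_c48 LD3_c50)) = K49.v690 :=
  Lgr Lrot38 (Lpr_dt (K49.f456789 IH) (Lpn K49.v690))
theorem f519531 : Led Lsl_af K49.v690 = K49.v2408 :=
  Lgr Lrot117 (Lpe (f456792 IH) (Lpr_at (K61.f10738 IH) (Lpr_dt (K49.f519530 IH) (Lpn K49.v2408))))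
theorem f519535 : Led Lsl_ft K49.v733 = K49.v2408 :=
  Lgr Lrot48 (Lpr_ff (K49.f519533 IH) (Lpn K49.v2408))
theorem f624969 : Led Lsl_gt K49.v733 = v3282 :=
  Lgr Lrot5 (Lpr_ft (f519535 IH) (Lpe (f519531 IH) (Lpr_gf (f624968 IH) (Lpn v3282))))
theorem f450746 : Led Lsl_dt (LP (LK LD1_c3 LD2_c34 LD3_c46)) = (LP (LK LD1_c1 LD2_c44 LD3_c7)) :=
  Lre_d IH (LK LD1_c3 LD2_c34 LD3_c46) (LK LD1_c1 LD2_c44 LD3_c7) Lrfl Lrfl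
theorem f19493 : Led Lsl_gt (LP (LK LD1_c7 LD2_c10 LD3_c42)) = (LP (LK LD1_c3 LD2_c34 LD3_c46)) :=
  Lre_g IH (LK LD1_c7 LD2_c10 LD3_c42) (LK LD1_c3 LD2_c34 LD3_c46) Lrfl Lrfl
theorem f819309 : v9135 = v21040 :=
  (Llr Lrot94 (Lpe (f673733 IH) (Lpe (f522404 IH) (Lpr_gt (f624969 IH) (Lpq (f819306 IH) (Lpe (f679812 IH) (Lpe (f624968 IH) (Lpe (f456792 IH) (Lpe (K47.f107803 IH) (Lpe (f450746 IH) (Lpe (f19493 IH) (Lpr_df (f791770 IH) (Lpn v21040))))))))))))).symm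
def v26968 : LQ := Led Lsl_ct v7066
theorem f836871 : Led Lsl_ct v7066 = v26968 :=
  Lrfl
theorem f836873 : Led Lsl_cf v7066 = v26968 :=
  Lgr Lrot11 (Lpr_ct (f836871 IH) (Lpn v26968))
theorem f660693 : Led Lsl_ft v2455 = v7066 :=
  Lgr Lrot2 (Lpe (f522394 IH) (Lpr_gt (K49.f441812 IH) (Lpr_af (f660691 IH) (Lpn v7066))))
theorem f836874 : Led Lsl_ff v9132 = v26968 :=
  Lgr Lrot23 (Lpe (f673726 IH) (Lpr_ft (f660693 IH) (Lpr_ct (f836871 IH) (Lpn v26968))))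
def v12226 : LQ := Led Lsl_ft v4054
theorem f688126 : Led Lsl_ft v4054 = v12226 :=
  Lrfl
theorem f836875 : Led Lsl_bt v12226 = v26968 :=
  Lgr Lrot35 (Lpe (f688126 IH) (Lpr_bf (f673727 IH) (Lpr_ff (f836874 IH) (Lpn v26968))))
def v11168 : LQ := Led Lsl_at v3629
theorem f683315 : Led Lsl_at v3629 = v11168 :=
  Lrfl
theorem f683316 : Led Lsl_af v3629 = v11168 :=
  Lgr Lrot0 (Lpr_at (f683315 IH) (Lpn v11168))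
theorem f688128 : Led Lsl_ff v4054 = v12226 :=
  Lgr Lrot3 (Lpr_ft (f688126 IH) (Lpn v12226))
def v12223 : LQ := Led Lsl_at v4054
theorem f688116 : Led Lsl_at v4054 = v12223 :=
  Lrfl
theorem f688117 : Led Lsl_af v4054 = v12223 :=
  Lgr Lrot0 (Lpr_at (f688116 IH) (Lpn v12223))
def v4055 : LQ := Led Lsl_gf v1199
theorem f629209 : Led Lsl_gf v1199 = v4055 :=
  Lrfl
theorem f688119 : Led Lsl_ft v4055 = v12223 :=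
  Lgr Lrot2 (Lpe (f629209 IH) (Lpr_gt (f629207 IH) (Lpr_af (f688117 IH) (Lpn v12223))))
theorem f688120 : Led Lsl_ff v4055 = v12223 :=
  Lgr Lrot3 (Lpr_ft (f688119 IH) (Lpn v12223))
theorem f688129 : Led Lsl_at v4055 = v12226 :=
  Lgr Lrot66 (Lpr_ff (f688120 IH) (Lpe (f688116 IH) (Lpr_ff (f688128 IH) (Lpn v12226))))
def v32829 : LQ := Led Lsl_bt v11168
theorem f864668 : Led Lsl_bt v11168 = v32829 :=
  Lrfl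
theorem f864669 : Led Lsl_bf v11168 = v32829 :=
  Lgr Lrot24 (Lpr_bt (f864668 IH) (Lpn v32829))
def v12227 : LQ := Led Lsl_bt v4055
theorem f688131 : Led Lsl_bt v4055 = v12227 :=
  Lrfl
theorem f688132 : Led Lsl_bf v4055 = v12227 :=
  Lgr Lrot24 (Lpr_bt (f688131 IH) (Lpn v12227))
def v3630 : LQ := Led Lsl_gf v973
def v11174 : LQ := Led Lsl_bt v3630
def v32844 : LQ := Led Lsl_gt v11174
theorem f864732 : Led Lsl_gt v11174 = v32844 :=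
  Lrfl
theorem f683333 : Led Lsl_bt v3630 = v11174 :=
  Lrfl
def v11175 : LQ := Led Lsl_ct v3630
theorem f683335 : Led Lsl_ct v3630 = v11175 :=
  Lrfl
def v3340 : LQ := Led Lsl_bt K49.v731
def v10444 : LQ := Led Lsl_gf v3340
def v31530 : LQ := Led Lsl_ct v10444
theorem f859064 : Led Lsl_ct v10444 = v31530 :=
  Lrfl
theorem f859066 : Led Lsl_cf v10444 = v31530 :=
  Lgr Lrot11 (Lpr_ct (f859064 IH) (Lpn v31530))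
theorem f452147 : Led Lsl_dt (LP (LK LD1_c0 LD2_c45 LD3_c61)) = v324 :=
  Lgr Lrot113 (Lpe (K6.f143204 IH) (Lpr_df (K29.f450753 IH) (Lpe (K61.f450755 IH) (Lpr_ct (K6.f12728 IH) (Lpe (K3.f12716 IH) (Lpr_dt (K3.f7399 IH) (Lpr_gt (K5.f11109 IH) (Lpr_dt (K11.f448781 IH) (Lpr_ct (f452142 IH) (Lpn v324))))))))))
theorem f452144 : Led Lsl_df (LP (LK LD1_c0 LD2_c45 LD3_c61)) = v324 :=
  Lgr Lrot43 (Lpr_ct (K6.f12728 IH) (Lpr_dt (K7.f12718 IH) (Lpr_ct (K5.f12720 IH) (Lpe (K1.f12669 IH) (Lpr_ct (K0.f12160 IH) (Lpr_dt (K6.f12120 IH) (Lpr_ct (K61.f450677 IH) (Lpr_dt (K61.f451420 IH) (Lpe (K61.f451416 IH) (Lpr_dt (K61.f435138 IH) (Lpr_ct (K2.f20858 IH) (Lpe (K7.f20849 IH) (Lpr_ct (K6.f145452 IH) (Lpr_dt (K11.f448781 IH) (Lpr_ct (f452142 IH) (Lpn v324))))))))))))))))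
theorem f452148 : Led Lsl_af v324 = v324 :=
  Lgr Lrot117 (Lpe (f452144 IH) (Lpr_at (K61.f438891 IH) (Lpr_dt (f452147 IH) (Lpn v324))))
theorem f452145 : Led Lsl_ff K61.v136 = v324 :=
  Lgr Lrot23 (Lpe (K61.f450678 IH) (Lpr_ft (f448876 IH) (Lpr_ct (f452142 IH) (Lpn v324))))
theorem f452149 : Led Lsl_ft K61.v136 = v324 :=
  Lgr Lrot101 (Lpe (K61.f450679 IH) (Lpr_ff (f452145 IH) (Lpr_af (f452148 IH) (Lpn v324))))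
theorem f490790 : Led Lsl_bf K61.v136 = v973 :=
  Lgr Lrot24 (Lpr_bt (f490789 IH) (Lpn v973))
theorem f493916 : Led Lsl_ff v973 = v1199 :=
  Lgr Lrot25 (Lpe (f490790 IH) (Lpr_ft (f452149 IH) (Lpr_bt (f493913 IH) (Lpn v1199))))
theorem f491503 : Led Lsl_df v973 = K61.v1102 :=
  Lgr Lrot12 (Lpe (f490790 IH) (Lpr_dt (K61.f451420 IH) (Lpr_bt (K61.f491501 IH) (Lpn K61.v1102))))
theorem f491506 : Led Lsl_dt v973 = K61.v1102 :=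
  Lgr Lrot42 (Lpr_df (f491503 IH) (Lpn K61.v1102))
theorem f493917 : Led Lsl_dt (LP (LK LD1_c1 LD2_c39 LD3_c8)) = v1199 :=
  Lgr Lrot60 (Lpr_ff (K61.f491504 IH) (Lpe (f491506 IH) (Lpr_ff (f493916 IH) (Lpn v1199))))
def v10446 : LQ := Led Lsl_ct v3340
theorem f680411 : Led Lsl_ct v3340 = v10446 :=
  Lrfl
theorem f625221 : Led Lsl_bt K49.v731 = v3340 :=
  Lrfl
theorem f625222 : Led Lsl_bf K49.v731 = v3340 :=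
  Lgr Lrot24 (Lpr_bt (f625221 IH) (Lpn v3340))
theorem f451480 : Led Lsl_gf K61.v136 = K64.v271 :=
  Lgr Lrot148 (Lpr_dt (K61.f451420 IH) (Lpe (K61.f451419 IH) (Lpr_dt (K29.f450754 IH) (Lpe (K29.f450751 IH) (Lpe (K0.f11490 IH) (Lpe (K0.f11497 IH) (Lpe (K0.f9958 IH) (Lpr_gf (K64.f447628 IH) (Lpr_ct (K64.f451476 IH) (Lpn K64.v271))))))))))
theorem f451478 : Led Lsl_df K64.v271 = K64.v271 :=
  Lgr Lrot43 (Lpe (K64.f451477 IH) (Lpe (K47.f447626 IH) (Lpr_ct (K7.f143261 IH) (Lpr_dt (K7.f143259 IH) (Lpe (K6.f143255 IH) (Lpr_dt (K6.f10913 IH) (Lpr_ct (K49.f450823 IH) (Lpe (K49.f450825 IH) (Lpe (K49.f450824 IH) (Lpr_dt (K7.f10919 IH) (Lpr_ct (K6.f143224 IH) (Lpe (K7.f143263 IH) (Lpr_ct (K7.f154354 IH) (Lpr_dt (K47.f447625 IH) (Lpr_ct (K64.f451476 IH) (Lpn K64.v271))))))))))))))))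
theorem f452146 : Led Lsl_gf K64.v271 = v324 :=
  Lgr Lrot148 (Lpe (f451478 IH) (Lpe (f451480 IH) (Lpr_dt (K61.f451420 IH) (Lpe (K61.f451416 IH) (Lpe (K61.f135049 IH) (Lpr_gf (K7.f154105 IH) (Lpr_df (K11.f447633 IH) (Lpr_gf (K11.f448784 IH) (Lpr_ct (f452142 IH) (Lpn v324))))))))))
theorem f451413 : Led Lsl_ft (LP (LK LD1_c0 LD2_c46 LD3_c5)) = v259 :=
  Lgr Lrot48 (Lpr_ff (f451411 IH) (Lpn v259))
theorem f491489 : Led Lsl_ff (LP (LK LD1_c1 LD2_c39 LD3_c17)) = v1100 :=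
  Lgr Lrot23 (Lpr_ct (K47.f12172 IH) (Lpr_ft (f451413 IH) (Lpr_ct (f491487 IH) (Lpn v1100))))
theorem f491492 : Led Lsl_ft (LP (LK LD1_c1 LD2_c39 LD3_c17)) = v1100 :=
  Lgr Lrot48 (Lpr_ff (f491489 IH) (Lpn v1100))
def v2259 : LQ := Led Lsl_bt (LP (LK LD1_c1 LD2_c39 LD3_c17))
theorem f511302 : Led Lsl_bt (LP (LK LD1_c1 LD2_c39 LD3_c17)) = v2259 :=
  Lrfl
theorem f511303 : Led Lsl_bf (LP (LK LD1_c1 LD2_c39 LD3_c17)) = v2259 :=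
  Lgr Lrot24 (Lpr_bt (f511302 IH) (Lpn v2259))
theorem f627724 : Led Lsl_ff v2259 = v3882 :=
  Lgr Lrot25 (Lpe (f511303 IH) (Lpr_ft (f491492 IH) (Lpr_bt (f627721 IH) (Lpn v3882))))
theorem f511304 : Led Lsl_cf v973 = v2259 :=
  Lgr Lrot97 (Lpe (f490790 IH) (Lpe (K61.f450678 IH) (Lpr_bt (K47.f84797 IH) (Lpr_ct (K6.f12174 IH) (Lpr_bt (f511302 IH) (Lpn v2259))))))
theorem f493918 : Led Lsl_ft v973 = v1199 :=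
  Lgr Lrot48 (Lpr_ff (f493916 IH) (Lpn v1199))
theorem f627725 : Led Lsl_ct v1199 = v3882 :=
  Lgr Lrot40 (Lpe (f493918 IH) (Lpr_cf (f511304 IH) (Lpr_ff (f627724 IH) (Lpn v3882))))
theorem f680414 : Led Lsl_gf v3882 = v10446 :=
  Lgr Lrot126 (Lpe (f627725 IH) (Lpe (f493914 IH) (Lpe (f452146 IH) (Lpe (K64.f451477 IH) (Lpe (K64.f447628 IH) (Lpe (K0.f9982 IH) (Lpr_bt (K49.f10071 IH) (Lpr_gt (K49.f456973 IH) (Lpr_bf (f625222 IH) (Lpr_ct (f680411 IH) (Lpn v10446)))))))))))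
theorem f680408 : Led Lsl_gf v3340 = v10444 :=
  Lrfl
theorem f792160 : Led Lsl_df K65.v21090 = v10444 :=
  Lgr Lrot155 (Lpr_gt (K65.f792158 IH) (Lpq (K61.f787453 IH) (Lpe (K61.f673393 IH) (Lpe (K61.f657509 IH) (Lpr_ct (K61.f106920 IH) (Lpr_dt (f493917 IH) (Lpr_cf (f627723 IH) (Lpr_gf (f680414 IH) (Lpe (f680411 IH) (Lpr_gf (f680408 IH) (Lpn v10444)))))))))))
def v7774 : LQ := Led Lsl_dt (LP (LK LD1_c3 LD2_c56 LD3_c50))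
theorem f668331 : Led Lsl_dt (LP (LK LD1_c3 LD2_c56 LD3_c50)) = v7774 :=
  Lrfl
theorem f815462 : Led Lsl_af v10444 = v7774 :=
  Lgr Lrot117 (Lpe (f792160 IH) (Lpq (K65.f815461 IH) (Lpe (K61.f668327 IH) (Lpr_dt (f668331 IH) (Lpn v7774)))))
theorem f815463 : Led Lsl_at v10444 = v7774 :=
  Lgr Lrot100 (Lpr_af (f815462 IH) (Lpn v7774))
def v27819 : LQ := Led Lsl_ct v7774
theorem f841498 : Led Lsl_ct v7774 = v27819 :=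
  Lrfl
theorem f859069 : Led Lsl_at v27819 = v31530 :=
  Lgr Lrot107 (Lpe (f841498 IH) (Lpe (f815463 IH) (Lpr_cf (f859066 IH) (Lpn v31530))))
def v10443 : LQ := Led Lsl_gt v3340
def v31528 : LQ := Led Lsl_ct v10443
theorem f859055 : Led Lsl_ct v10443 = v31528 :=
  Lrfl
def v26812 : LQ := Led Lsl_dt K61.v6964
theorem f835881 : Led Lsl_dt K61.v6964 = v26812 :=
  Lrfl
theorem f792132 : Led Lsl_at K61.v6964 = K61.v7776 :=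
  Lgr Lrot100 (Lpr_af (K61.f792131 IH) (Lpn K61.v7776))
theorem f792152 : Led Lsl_ft K61.v7772 = K61.v6964 :=
  Lgr Lrot101 (Lpe (K61.f668326 IH) (Lpr_ff (K63.f668341 IH) (Lpe (f792132 IH) (Lpn K61.v6964))))
theorem f835884 : Led Lsl_ff v10444 = v26812 :=
  Lgr Lrot19 (Lpe (f792160 IH) (Lpq (K65.f815461 IH) (Lpr_ft (f792152 IH) (Lpr_dt (f835881 IH) (Lpn v26812)))))
theorem f835889 : Led Lsl_ft v10444 = v26812 :=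
  Lgr Lrot48 (Lpr_ff (f835884 IH) (Lpn v26812))
theorem f680407 : Led Lsl_gt v3340 = v10443 :=
  Lrfl
def v2783 : LQ := Led Lsl_dt (LP (LK LD1_c1 LD2_c55 LD3_c8))
def v9573 : LQ := Led Lsl_ft v2783
theorem f676714 : Led Lsl_ft v2783 = v9573 :=
  Lrfl
theorem f535587 : Led Lsl_dt (LP (LK LD1_c1 LD2_c55 LD3_c8)) = v2783 :=
  Lrfl
theorem f676716 : Led Lsl_df K63.v2785 = v9573 :=
  Lgr Lrot78 (Lpe (K63.f535593 IH) (Lpr_dt (f535587 IH) (Lpr_ft (f676714 IH) (Lpn v9573))))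
def v1020 : LQ := Led Lsl_bt K35.v176
def v3724 : LQ := Led Lsl_gt v1020
def v11383 : LQ := Led Lsl_at v3724
theorem f684327 : Led Lsl_at v3724 = v11383 :=
  Lrfl
theorem f684328 : Led Lsl_af v3724 = v11383 :=
  Lgr Lrot0 (Lpr_at (f684327 IH) (Lpn v11383))
theorem f627023 : Led Lsl_gt v1020 = v3724 :=
  Lrfl
def v3725 : LQ := Led Lsl_gf v1020
theorem f627025 : Led Lsl_gf v1020 = v3725 :=
  Lrfl
theorem f684329 : Led Lsl_ft v3725 = v11383 :=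
  Lgr Lrot2 (Lpe (f627025 IH) (Lpr_gt (f627023 IH) (Lpr_af (f684328 IH) (Lpn v11383))))
theorem f684330 : Led Lsl_ff v3725 = v11383 :=
  Lgr Lrot3 (Lpr_ft (f684329 IH) (Lpn v11383))
def v9567 : LQ := Led Lsl_dt K61.v2782
theorem f676697 : Led Lsl_dt K61.v2782 = v9567 :=
  Lrfl
theorem f535588 : Led Lsl_df (LP (LK LD1_c1 LD2_c55 LD3_c8)) = v2783 :=
  Lgr Lrot38 (Lpr_dt (f535587 IH) (Lpn v2783))
theorem f676698 : Led Lsl_af v2783 = v9567 :=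
  Lgr Lrot117 (Lpe (f535588 IH) (Lpr_at (K61.f535582 IH) (Lpr_dt (f676697 IH) (Lpn v9567))))
def v11386 : LQ := Led Lsl_dt v3724
theorem f684337 : Led Lsl_dt v3724 = v11386 :=
  Lrfl
theorem f684338 : Led Lsl_df v3724 = v11386 :=
  Lgr Lrot38 (Lpr_dt (f684337 IH) (Lpn v11386))
def v11895 : LQ := Led Lsl_ft K64.v3927
theorem f686309 : Led Lsl_ft K64.v3927 = v11895 :=
  Lrfl
theorem f686311 : Led Lsl_ff K64.v3927 = v11895 :=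
  Lgr Lrot3 (Lpr_ft (f686309 IH) (Lpn v11895))
def v26534 : LQ := Led Lsl_ct K64.v6735
theorem f834212 : Led Lsl_ct K64.v6735 = v26534 :=
  Lrfl
theorem f834214 : Led Lsl_cf K64.v6735 = v26534 :=
  Lgr Lrot11 (Lpr_ct (f834212 IH) (Lpn v26534))
def v11892 : LQ := Led Lsl_ct K64.v3927
theorem f686303 : Led Lsl_ct K64.v3927 = v11892 :=
  Lrfl
theorem f834219 : Led Lsl_at v11892 = v26534 :=
  Lgr Lrot107 (Lpe (f686303 IH) (Lpr_af (K64.f686296 IH) (Lpq (K64.f815471 IH) (Lpr_cf (f834214 IH) (Lpn v26534)))))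
def v26530 : LQ := Led Lsl_dt K47.v6734
theorem f834194 : Led Lsl_dt K47.v6734 = v26530 :=
  Lrfl
theorem f834197 : Led Lsl_ff K64.v11896 = v26530 :=
  Lgr Lrot19 (Lpe (K64.f815468 IH) (Lpr_ft (K64.f815448 IH) (Lpr_dt (f834194 IH) (Lpn v26530))))
theorem f834199 : Led Lsl_bt K64.v11890 = v26530 :=
  Lgr Lrot35 (Lpe (K64.f686297 IH) (Lpr_bf (K64.f686314 IH) (Lpr_ff (f834197 IH) (Lpn v26530))))
theorem f10982 : Led Lsl_dt (LP (LK LD1_c3 LD2_c34 LD3_c47)) = (LP (LK LD1_c7 LD2_c10 LD3_c45)) :=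
  Lre_d IH (LK LD1_c3 LD2_c34 LD3_c47) (LK LD1_c7 LD2_c10 LD3_c45) Lrfl Lrfl
theorem f10960 : Led Lsl_at (LP (LK LD1_c3 LD2_c34 LD3_c46)) = (LP (LK LD1_c7 LD2_c10 LD3_c41)) :=
  Lre_a IH (LK LD1_c3 LD2_c34 LD3_c46) (LK LD1_c7 LD2_c10 LD3_c41) Lrfl Lrfl
theorem f10959 : Led Lsl_ft (LP (LK LD1_c7 LD2_c10 LD3_c45)) = (LP (LK LD1_c3 LD2_c34 LD3_c46)) :=
  Lre_f IH (LK LD1_c7 LD2_c10 LD3_c45) (LK LD1_c3 LD2_c34 LD3_c46) Lrfl Lrfl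
theorem f683828 : Led Lsl_gf (LP (LK LD1_c7 LD2_c16 LD3_c9)) = (LP (LK LD1_c7 LD2_c10 LD3_c45)) :=
  Lgr Lrot47 (Lpr_gt (K49.f683826 IH) (Lpe (f10960 IH) (Lpe (f10959 IH) (Lpn (LP (LK LD1_c7 LD2_c10 LD3_c45))))))
theorem f660682 : Led Lsl_dt (LP (LK LD1_c7 LD2_c16 LD3_c9)) = (LP (LK LD1_c3 LD2_c37 LD3_c52)) :=
  Lre_d IH (LK LD1_c7 LD2_c16 LD3_c9) (LK LD1_c3 LD2_c37 LD3_c52) Lrfl Lrfl
def v7067 : LQ := Led Lsl_ct (LP (LK LD1_c3 LD2_c37 LD3_c52))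
theorem f660695 : Led Lsl_ct (LP (LK LD1_c3 LD2_c37 LD3_c52)) = v7067 :=
  Lrfl
theorem f683837 : Led Lsl_dt v7067 = v7067 :=
  Lgr Lrot27 (Lpe (f660695 IH) (Lpe (K49.f441812 IH) (Lpe (K49.f10950 IH) (Lpr_gf (K49.f456974 IH) (Lpr_df (K49.f625238 IH) (Lpqs (K49.f683810 IH) (Lpe (K49.f456974 IH) (Lpr_ct (K49.f10950 IH) (Lpr_gt (K49.f441812 IH) (Lpr_ct (f660695 IH) (Lpn v7067)))))))))))
theorem f834198 : Led Lsl_gf v7067 = v26530 :=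
  Lgr Lrot143 (Lpr_dt (f683837 IH) (Lpe (f660695 IH) (Lpe (f660682 IH) (Lpr_gf (f683828 IH) (Lpe (f10982 IH) (Lpqs (f819291 IH) (Lpe (f791724 IH) (Lpqs (K64.f819290 IH) (Lpr_cf (K61.f672546 IH) (Lpr_gt (K64.f815496 IH) (Lpr_dt (f834194 IH) (Lpn v26530))))))))))))
theorem f660696 : Led Lsl_cf (LP (LK LD1_c3 LD2_c37 LD3_c52)) = v7067 :=
  Lgr Lrot11 (Lpr_ct (f660695 IH) (Lpn v7067))
theorem f519537 : Led Lsl_bf K49.v2408 = K49.v2408 :=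
  Lgr Lrot61 (Lpe (K49.f519533 IH) (Lpe (K49.f456977 IH) (Lpr_ft (f519535 IH) (Lpn K49.v2408))))
theorem f519536 : Led Lsl_gf K49.v732 = K49.v2408 :=
  Lgr Lrot47 (Lpe (K49.f456974 IH) (Lpr_af (K49.f456976 IH) (Lpr_ff (K49.f519533 IH) (Lpn K49.v2408))))
theorem f834216 : Led Lsl_gt K49.v10469 = v26534 :=
  Lgr Lrot65 (Lpe (K49.f680473 IH) (Lpe (K49.f625234 IH) (Lpr_gf (f519536 IH) (Lpr_bf (f519537 IH) (Lpr_ct (K61.f660687 IH) (Lpe (K61.f660680 IH) (Lpr_cf (f660696 IH) (Lpr_gf (f834198 IH) (Lpe (f834199 IH) (Lpq (K64.f815471 IH) (Lpr_ct (f834212 IH) (Lpn v26534))))))))))))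
theorem f834220 : Led Lsl_ff v11892 = K49.v11278 :=
  Lgr Lrot52 (Lpr_at (f834219 IH) (Lpe (f834216 IH) (Lpr_gf (K49.f683808 IH) (Lpn K49.v11278))))
theorem f686304 : Led Lsl_cf K64.v3927 = v11892 :=
  Lgr Lrot11 (Lpr_ct (f686303 IH) (Lpn v11892))
theorem f834223 : v11895 = K49.v3674 :=
  (Llr Lrot4 (Lpe (f686309 IH) (Lpr_cf (f686304 IH) (Lpr_ff (f834220 IH) (Lpe (K49.f683806 IH) (Lpn K49.v3674)))))).symm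
def v11277 : LQ := Led Lsl_bt K49.v3674
theorem f683804 : Led Lsl_bt K49.v3674 = v11277 :=
  Lrfl
theorem f683805 : Led Lsl_bf K49.v3674 = v11277 :=
  Lgr Lrot24 (Lpr_bt (f683804 IH) (Lpn v11277))
def v11891 : LQ := Led Lsl_bt K64.v3927
theorem f686299 : Led Lsl_bt K64.v3927 = v11891 :=
  Lrfl
theorem f834239 : Led Lsl_ff v11277 = v11891 :=
  Lgr Lrot25 (Lpe (f683805 IH) (Lpq (f834223 IH) (Lpe (f686311 IH) (Lpr_bt (f686299 IH) (Lpn v11891)))))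
theorem f834242 : Led Lsl_ft v11277 = v11891 :=
  Lgr Lrot48 (Lpr_ff (f834239 IH) (Lpn v11891))
def v3561 : LQ := Led Lsl_dt K61.v929
theorem f626268 : Led Lsl_dt K61.v929 = v3561 :=
  Lrfl
def v9570 : LQ := Led Lsl_gf v2783
theorem f676708 : Led Lsl_gf v2783 = v9570 :=
  Lrfl
theorem f626269 : Led Lsl_df K61.v929 = v3561 :=
  Lgr Lrot38 (Lpr_dt (f626268 IH) (Lpn v3561))
theorem f676700 : Led Lsl_ff v3561 = v9567 :=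
  Lgr Lrot19 (Lpe (f626269 IH) (Lpr_ft (K61.f535585 IH) (Lpr_dt (f676697 IH) (Lpn v9567))))
theorem f676701 : Led Lsl_ft v3561 = v9567 :=
  Lgr Lrot48 (Lpr_ff (f676700 IH) (Lpn v9567))
theorem f676709 : Led Lsl_gt v3561 = v9570 :=
  Lgr Lrot5 (Lpr_ft (f676701 IH) (Lpe (f676698 IH) (Lpr_gf (f676708 IH) (Lpn v9570))))
def v3726 : LQ := Led Lsl_at v1020
theorem f627026 : Led Lsl_at v1020 = v3726 :=
  Lrfl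
theorem f491048 : Led Lsl_bt K35.v176 = v1020 :=
  Lrfl
theorem f450929 : Led Lsl_ft K61.v165 = K35.v176 :=
  Lgr Lrot4 (Lpe (K61.f450845 IH) (Lpr_ff (K11.f447634 IH) (Lpr_cf (K61.f450927 IH) (Lpn K35.v176))))
def v1002 : LQ := Led Lsl_bt K61.v165
theorem f490947 : Led Lsl_bt K61.v165 = v1002 :=
  Lrfl
theorem f490948 : Led Lsl_bf K61.v165 = v1002 :=
  Lgr Lrot24 (Lpr_bt (f490947 IH) (Lpn v1002))
theorem f491051 : Led Lsl_ff v1002 = v1020 :=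
  Lgr Lrot25 (Lpe (f490948 IH) (Lpr_ft (f450929 IH) (Lpr_bt (f491048 IH) (Lpn v1020))))
theorem f490949 : Led Lsl_df v1002 = v1002 :=
  Lgr Lrot12 (Lpe (f490948 IH) (Lpe (K61.f450847 IH) (Lpr_bt (f490947 IH) (Lpn v1002))))
theorem f450836 : Led Lsl_ct (LP (LK LD1_c0 LD2_c22 LD3_c18)) = K61.v163 :=
  Lgr Lrot7 (Lpe (K0.f9978 IH) (Lpr_gf (K0.f11887 IH) (Lpe (K3.f11499 IH) (Lpe (K24.f11493 IH) (Lpe (K29.f9949 IH) (Lpr_gt (K61.f450745 IH) (Lpe (K29.f450743 IH) (Lpr_gt (K3.f11896 IH) (Lpr_dt (K61.f450832 IH) (Lpn K61.v163))))))))))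
theorem f450926 : Led Lsl_dt K35.v176 = K35.v176 :=
  Lgr Lrot57 (Lpe (K61.f450923 IH) (Lpe (f450836 IH) (Lpr_gt (K47.f447629 IH) (Lpe (K47.f447626 IH) (Lpe (K7.f10369 IH) (Lpr_dt (K0.f9967 IH) (Lpe (K29.f9979 IH) (Lpr_df (K35.f10074 IH) (Lpr_gf (K35.f450922 IH) (Lpn K35.v176))))))))))
theorem f491049 : Led Lsl_bf K35.v176 = v1020 :=
  Lgr Lrot24 (Lpr_bt (f491048 IH) (Lpn v1020))
theorem f491050 : Led Lsl_df v1020 = v1020 :=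
  Lgr Lrot12 (Lpe (f491049 IH) (Lpr_dt (f450926 IH) (Lpr_bt (f491048 IH) (Lpn v1020))))
theorem f491052 : Led Lsl_ft v1002 = v1020 :=
  Lgr Lrot54 (Lpr_df (f490949 IH) (Lpr_ff (f491051 IH) (Lpr_df (f491050 IH) (Lpn v1020))))
def v3692 : LQ := Led Lsl_gt v1002
theorem f626824 : Led Lsl_gt v1002 = v3692 :=
  Lrfl
theorem f627031 : Led Lsl_gt v3692 = v3726 :=
  Lgr Lrot46 (Lpe (f626824 IH) (Lpr_ft (f491052 IH) (Lpr_at (f627026 IH) (Lpn v3726))))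
def v11322 : LQ := Led Lsl_bt v3692
theorem f684033 : Led Lsl_bt v3692 = v11322 :=
  Lrfl
theorem f684034 : Led Lsl_bf v3692 = v11322 :=
  Lgr Lrot24 (Lpr_bt (f684033 IH) (Lpn v11322))
def v10947 : LQ := Led Lsl_dt K61.v3559
theorem f682634 : Led Lsl_dt K61.v3559 = v10947 :=
  Lrfl
theorem f682635 : Led Lsl_bf v3561 = v10947 :=
  Lgr Lrot93 (Lpe (f626269 IH) (Lpr_bt (K61.f626264 IH) (Lpr_dt (f682634 IH) (Lpn v10947))))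
theorem f447627 : Led Lsl_ff (LP (LK LD1_c0 LD2_c21 LD3_c52)) = K47.v85 :=
  Lgr Lrot19 (Lpr_dt (K7.f10919 IH) (Lpe (K33.f446854 IH) (Lpr_dt (K47.f447625 IH) (Lpn K47.v85))))
theorem f447630 : Led Lsl_ft (LP (LK LD1_c0 LD2_c21 LD3_c52)) = K47.v85 :=
  Lgr Lrot48 (Lpr_ff (f447627 IH) (Lpn K47.v85))
theorem f451479 : Led Lsl_ff K49.v161 = K64.v271 :=
  Lgr Lrot23 (Lpe (K49.f450824 IH) (Lpr_ft (f447630 IH) (Lpr_ct (K64.f451476 IH) (Lpn K64.v271))))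
theorem f451481 : Led Lsl_ft K49.v161 = K64.v271 :=
  Lgr Lrot54 (Lpr_df (K49.f450825 IH) (Lpr_ff (f451479 IH) (Lpr_df (f451478 IH) (Lpn K64.v271))))
theorem f491610 : Led Lsl_ff K49.v995 = K64.v1126 :=
  Lgr Lrot25 (Lpe (K49.f490920 IH) (Lpr_ft (f451481 IH) (Lpr_bt (K64.f491607 IH) (Lpn K64.v1126))))
def v3676 : LQ := Led Lsl_at K49.v995
theorem f626721 : Led Lsl_at K49.v995 = v3676 :=
  Lrfl
theorem f627937 : Led Lsl_gf v3676 = K64.v3927 :=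
  Lgr Lrot76 (Lpe (f626721 IH) (Lpr_ff (f491610 IH) (Lpr_gt (K64.f627936 IH) (Lpn K64.v3927))))
def v2397 : LQ := Led Lsl_bt (LP (LK LD1_c1 LD2_c44 LD3_c25))
def v9033 : LQ := Led Lsl_at v2397
theorem f673304 : Led Lsl_at v2397 = v9033 :=
  Lrfl
theorem f519480 : Led Lsl_bt (LP (LK LD1_c1 LD2_c44 LD3_c25)) = v2397 :=
  Lrfl
theorem f154976 : Led Lsl_bt (LP (LK LD1_c0 LD2_c21 LD3_c52)) = (LP (LK LD1_c0 LD2_c48 LD3_c49)) :=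
  Lre_b IH (LK LD1_c0 LD2_c21 LD3_c52) (LK LD1_c0 LD2_c48 LD3_c49) Lrfl Lrfl
theorem f519482 : Led Lsl_cf K49.v995 = v2397 :=
  Lgr Lrot97 (Lpe (K49.f490920 IH) (Lpe (K49.f450824 IH) (Lpr_bt (f154976 IH) (Lpr_ct (K7.f10937 IH) (Lpr_bt (f519480 IH) (Lpn v2397))))))
theorem f519483 : Led Lsl_ct K49.v995 = v2397 :=
  Lgr Lrot59 (Lpr_cf (f519482 IH) (Lpn v2397))
theorem f626722 : Led Lsl_af K49.v995 = v3676 :=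
  Lgr Lrot0 (Lpr_at (f626721 IH) (Lpn v3676))
theorem f673306 : Led Lsl_cf v3676 = v9033 :=
  Lgr Lrot1 (Lpe (f626722 IH) (Lpr_ct (f519483 IH) (Lpr_at (f673304 IH) (Lpn v9033))))
theorem f673307 : Led Lsl_ct v3676 = v9033 :=
  Lgr Lrot59 (Lpr_cf (f673306 IH) (Lpn v9033))
def v3668 : LQ := Led Lsl_bt K47.v993
def v11260 : LQ := Led Lsl_at v3668
theorem f683718 : Led Lsl_at v3668 = v11260 :=
  Lrfl
theorem f626690 : Led Lsl_bt K47.v993 = v3668 :=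
  Lrfl
theorem f490914 : Led Lsl_ft (LP (LK LD1_c1 LD2_c44 LD3_c25)) = K47.v993 :=
  Lgr Lrot48 (Lpr_ff (K47.f490913 IH) (Lpn K47.v993))
theorem f519481 : Led Lsl_bf (LP (LK LD1_c1 LD2_c44 LD3_c25)) = v2397 :=
  Lgr Lrot24 (Lpr_bt (f519480 IH) (Lpn v2397))
theorem f626693 : Led Lsl_ff v2397 = v3668 :=
  Lgr Lrot25 (Lpe (f519481 IH) (Lpr_ft (f490914 IH) (Lpr_bt (f626690 IH) (Lpn v3668))))
theorem f626695 : Led Lsl_ft v2397 = v3668 :=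
  Lgr Lrot48 (Lpr_ff (f626693 IH) (Lpn v3668))
theorem f673305 : Led Lsl_af v2397 = v9033 :=
  Lgr Lrot0 (Lpr_at (f673304 IH) (Lpn v9033))
theorem f683721 : Led Lsl_ff v9033 = v11260 :=
  Lgr Lrot30 (Lpe (f673305 IH) (Lpr_ft (f626695 IH) (Lpr_at (f683718 IH) (Lpn v11260))))
theorem f683724 : Led Lsl_ft v9033 = v11260 :=
  Lgr Lrot48 (Lpr_ff (f683721 IH) (Lpn v11260))
theorem f683719 : Led Lsl_af v3668 = v11260 :=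
  Lgr Lrot0 (Lpr_at (f683718 IH) (Lpn v11260))
def v11259 : LQ := Led Lsl_gf v3668
theorem f683717 : Led Lsl_gf v3668 = v11259 :=
  Lrfl
theorem f683726 : Led Lsl_gt v9033 = v11259 :=
  Lgr Lrot5 (Lpr_ft (f683724 IH) (Lpe (f683719 IH) (Lpr_gf (f683717 IH) (Lpn v11259))))
theorem f491608 : Led Lsl_bf K64.v271 = K64.v1126 :=
  Lgr Lrot24 (Lpr_bt (K64.f491607 IH) (Lpn K64.v1126))
theorem f491609 : Led Lsl_df K64.v1126 = K64.v1126 :=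
  Lgr Lrot12 (Lpe (f491608 IH) (Lpe (f451478 IH) (Lpr_bt (K64.f491607 IH) (Lpn K64.v1126))))
theorem f491611 : Led Lsl_ft K49.v995 = K64.v1126 :=
  Lgr Lrot54 (Lpr_df (K49.f490921 IH) (Lpr_ff (f491610 IH) (Lpr_df (f491609 IH) (Lpn K64.v1126))))
theorem f626694 : Led Lsl_ct K64.v1126 = v3668 :=
  Lgr Lrot40 (Lpe (f491611 IH) (Lpr_cf (f519482 IH) (Lpr_ff (f626693 IH) (Lpn v3668))))
theorem f684035 : Led Lsl_cf v11259 = v11322 :=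
  Lgr Lrot160 (Lpe (f683717 IH) (Lpe (f626694 IH) (Lpe (f491608 IH) (Lpe (f451480 IH) (Lpe (K61.f450678 IH) (Lpr_gt (K24.f12163 IH) (Lpr_cf (K61.f450846 IH) (Lpr_bt (f490947 IH) (Lpr_gt (f626824 IH) (Lpr_bf (f684034 IH) (Lpn v11322)))))))))))
theorem f684036 : Led Lsl_ct v11259 = v11322 :=
  Lgr Lrot59 (Lpr_cf (f684035 IH) (Lpn v11322))
theorem f815478 : v11322 = v10947 :=
  (Llr Lrot151 (Lpe (f684036 IH) (Lpe (f683726 IH) (Lpe (f673307 IH) (Lpr_gf (f627937 IH) (Lpq (K64.f815472 IH) (Lpe (K64.f683436 IH) (Lpe (K64.f626551 IH) (Lpr_ct (K29.f9854 IH) (Lpr_gt (f672969 IH) (Lpe (K63.f672968 IH) (Lpr_dt (f682634 IH) (Lpn v10947))))))))))))).symm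
theorem f815479 : v3692 = v3561 :=
  Lefun (Lecon (Lfl_bf (f684034 IH)) (f815478 IH)) (Lfl_bf (f682635 IH))
theorem f815480 : v3726 = v9570 :=
  Lefun (Lecon (f627031 IH) (f815479 IH)) (f676709 IH)
def v3686 : LQ := Led Lsl_bt K35.v1000
def v11307 : LQ := Led Lsl_at v3686
theorem f683956 : Led Lsl_at v3686 = v11307 :=
  Lrfl
theorem f626796 : Led Lsl_bt K35.v1000 = v3686 :=
  Lrfl
theorem f490942 : Led Lsl_ft (LP (LK LD1_c1 LD2_c44 LD3_c36)) = K35.v1000 :=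
  Lgr Lrot48 (Lpr_ff (K35.f490941 IH) (Lpn K35.v1000))
def v2412 : LQ := Led Lsl_bt (LP (LK LD1_c1 LD2_c44 LD3_c36))
theorem f519554 : Led Lsl_bt (LP (LK LD1_c1 LD2_c44 LD3_c36)) = v2412 :=
  Lrfl
theorem f519555 : Led Lsl_bf (LP (LK LD1_c1 LD2_c44 LD3_c36)) = v2412 :=
  Lgr Lrot24 (Lpr_bt (f519554 IH) (Lpn v2412))
theorem f626799 : Led Lsl_ff v2412 = v3686 :=
  Lgr Lrot25 (Lpe (f519555 IH) (Lpr_ft (f490942 IH) (Lpr_bt (f626796 IH) (Lpn v3686))))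
theorem f626801 : Led Lsl_ft v2412 = v3686 :=
  Lgr Lrot48 (Lpr_ff (f626799 IH) (Lpn v3686))
def v9083 : LQ := Led Lsl_at v2412
theorem f673458 : Led Lsl_at v2412 = v9083 :=
  Lrfl
theorem f673459 : Led Lsl_af v2412 = v9083 :=
  Lgr Lrot0 (Lpr_at (f673458 IH) (Lpn v9083))
theorem f683959 : Led Lsl_ff v9083 = v11307 :=
  Lgr Lrot30 (Lpe (f673459 IH) (Lpr_ft (f626801 IH) (Lpr_at (f683956 IH) (Lpn v11307))))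
theorem f519556 : Led Lsl_cf v1002 = v2412 :=
  Lgr Lrot97 (Lpe (f490948 IH) (Lpe (K61.f450846 IH) (Lpr_bt (K11.f432844 IH) (Lpr_ct (K34.f12177 IH) (Lpr_bt (f519554 IH) (Lpn v2412))))))
theorem f519557 : Led Lsl_ct v1002 = v2412 :=
  Lgr Lrot59 (Lpr_cf (f519556 IH) (Lpn v2412))
def v3694 : LQ := Led Lsl_at v1002
theorem f626826 : Led Lsl_at v1002 = v3694 :=
  Lrfl
theorem f626827 : Led Lsl_af v1002 = v3694 :=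
  Lgr Lrot0 (Lpr_at (f626826 IH) (Lpn v3694))
theorem f673460 : Led Lsl_cf v3694 = v9083 :=
  Lgr Lrot1 (Lpe (f626827 IH) (Lpr_ct (f519557 IH) (Lpr_at (f673458 IH) (Lpn v9083))))
theorem f627030 : Led Lsl_ff v3694 = v3726 :=
  Lgr Lrot30 (Lpe (f626827 IH) (Lpr_ft (f491052 IH) (Lpr_at (f627026 IH) (Lpn v3726))))
theorem f450850 : Led Lsl_at K61.v165 = K61.v165 :=
  Lgr Lrot107 (Lpe (K61.f450845 IH) (Lpe (K11.f433151 IH) (Lpr_cf (K61.f450846 IH) (Lpn K61.v165))))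
theorem f626828 : Led Lsl_bf v3694 = v3694 :=
  Lgr Lrot81 (Lpe (f626827 IH) (Lpe (f490948 IH) (Lpr_at (f450850 IH) (Lpr_bt (f490947 IH) (Lpr_at (f626826 IH) (Lpn v3694))))))
theorem f450928 : Led Lsl_at K35.v176 = K35.v176 :=
  Lgr Lrot107 (Lpe (K35.f450925 IH) (Lpr_af (K11.f447637 IH) (Lpr_cf (K61.f450927 IH) (Lpn K35.v176))))
theorem f627027 : Led Lsl_af v1020 = v3726 :=
  Lgr Lrot0 (Lpr_at (f627026 IH) (Lpn v3726))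
theorem f627028 : Led Lsl_bf v3726 = v3726 :=
  Lgr Lrot81 (Lpe (f627027 IH) (Lpe (f491049 IH) (Lpr_at (f450928 IH) (Lpr_bt (f491048 IH) (Lpr_at (f627026 IH) (Lpn v3726))))))
theorem f627032 : Led Lsl_ft v3694 = v3726 :=
  Lgr Lrot75 (Lpr_bf (f626828 IH) (Lpr_ff (f627030 IH) (Lpr_bf (f627028 IH) (Lpn v3726))))
theorem f683961 : Led Lsl_ct v3726 = v11307 :=
  Lgr Lrot40 (Lpe (f627032 IH) (Lpr_cf (f673460 IH) (Lpr_ff (f683959 IH) (Lpn v11307))))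
def v9082 : LQ := Led Lsl_gf v2412
theorem f673457 : Led Lsl_gf v2412 = v9082 :=
  Lrfl
theorem f683963 : Led Lsl_gf v9082 = v11307 :=
  Lgr Lrot47 (Lpe (f673457 IH) (Lpr_af (f673459 IH) (Lpr_ff (f683959 IH) (Lpn v11307))))
theorem f686300 : Led Lsl_bf K64.v3927 = v11891 :=
  Lgr Lrot24 (Lpr_bt (f686299 IH) (Lpn v11891))
theorem f686301 : Led Lsl_cf v9082 = v11891 :=
  Lgr Lrot58 (Lpr_gf (f683963 IH) (Lpe (f683961 IH) (Lpe (f627028 IH) (Lpe (f627031 IH) (Lpr_bf (f684034 IH) (Lpe (f684035 IH) (Lpe (f683726 IH) (Lpe (f673307 IH) (Lpr_gf (f627937 IH) (Lpr_bf (f686300 IH) (Lpn v11891)))))))))))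
theorem f686302 : Led Lsl_ct v9082 = v11891 :=
  Lgr Lrot59 (Lpr_cf (f686301 IH) (Lpn v11891))
theorem f815499 : Led Lsl_dt v11891 = K63.v7649 :=
  Lgr Lrot27 (Lpe (f686302 IH) (Lpr_gf (f683963 IH) (Lpe (f683961 IH) (Lpqs (f815480 IH) (Lpe (f676709 IH) (Lpe (f626268 IH) (Lpr_gt (K61.f535581 IH) (Lpr_ct (K64.f667452 IH) (Lpe (K61.f667449 IH) (Lpr_ct (K63.f667464 IH) (Lpn K63.v7649)))))))))))
theorem f815437 : Led Lsl_ft K63.v7649 = K61.v8918 :=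
  Lgr Lrot48 (Lpr_ff (K64.f815436 IH) (Lpn K61.v8918))
theorem f834244 : Led Lsl_df v11277 = K61.v8918 :=
  Lgr Lrot78 (Lpr_ft (f834242 IH) (Lpr_dt (f815499 IH) (Lpr_ft (f815437 IH) (Lpn K61.v8918))))
def v11306 : LQ := Led Lsl_gf v3686
theorem f683953 : Led Lsl_gf v3686 = v11306 :=
  Lrfl
theorem f626800 : Led Lsl_ct v1020 = v3686 :=
  Lgr Lrot40 (Lpe (f491052 IH) (Lpr_cf (f519556 IH) (Lpr_ff (f626799 IH) (Lpn v3686))))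
theorem f683954 : Led Lsl_ct v11277 = v11306 :=
  Lgr Lrot64 (Lpe (f683805 IH) (Lpe (K49.f626719 IH) (Lpe (K49.f490919 IH) (Lpe (K49.f450824 IH) (Lpe (K7.f10932 IH) (Lpe (K0.f9982 IH) (Lpr_gf (K35.f450922 IH) (Lpr_bf (f491049 IH) (Lpr_ct (f626800 IH) (Lpr_gf (f683953 IH) (Lpn v11306)))))))))))
theorem f683955 : Led Lsl_cf v11277 = v11306 :=
  Lgr Lrot11 (Lpr_ct (f683954 IH) (Lpn v11306))
theorem f683962 : Led Lsl_ft v9083 = v11307 :=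
  Lgr Lrot48 (Lpr_ff (f683959 IH) (Lpn v11307))
theorem f683957 : Led Lsl_af v3686 = v11307 :=
  Lgr Lrot0 (Lpr_at (f683956 IH) (Lpn v11307))
theorem f683964 : Led Lsl_gt v9083 = v11306 :=
  Lgr Lrot5 (Lpr_ft (f683962 IH) (Lpe (f683957 IH) (Lpr_gf (f683953 IH) (Lpn v11306))))
theorem f673461 : Led Lsl_ct v3694 = v9083 :=
  Lgr Lrot59 (Lpr_cf (f673460 IH) (Lpn v9083))
theorem f627024 : Led Lsl_gf v3694 = v3724 :=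
  Lgr Lrot76 (Lpe (f626826 IH) (Lpr_ff (f491051 IH) (Lpr_gt (f627023 IH) (Lpn v3724))))
theorem f834245 : v11386 = K61.v2787 :=
  (Llr Lrot6 (Lpe (f684337 IH) (Lpe (f627024 IH) (Lpr_ct (f673461 IH) (Lpr_gt (f683964 IH) (Lpe (f683955 IH) (Lpr_df (f834244 IH) (Lpe (K64.f672758 IH) (Lpe (K61.f667478 IH) (Lpe (K61.f85704 IH) (Lpr_gf (K61.f535597 IH) (Lpn K61.v2787)))))))))))).symm
theorem f834246 : v3724 = v9567 :=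
  Lefun (Lecon (Lfl_df (f684338 IH)) ((f834245 IH).trans (K63.f792137 IH).symm)) (f676697 IH)
theorem f834247 : v2783 = v11383 :=
  Lefun (Lecon (Lfl_af (f676698 IH)) (f834246 IH).symm) (f684327 IH)
theorem f834249 : v3725 = v9573 :=
  Lefun (Lecon (Lfl_ff (f684330 IH)) (f834247 IH).symm) (f676714 IH)
def v11389 : LQ := Led Lsl_bt v3725
theorem f684345 : Led Lsl_bt v3725 = v11389 :=
  Lrfl
theorem f684346 : Led Lsl_bf v3725 = v11389 :=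
  Lgr Lrot24 (Lpr_bt (f684345 IH) (Lpn v11389))
theorem f834251 : Led Lsl_df v11389 = K61.v7776 :=
  Lgr Lrot12 (Lpe (f684346 IH) (Lpqs (f834249 IH) (Lpe (f676716 IH) (Lpr_bt (K63.f668342 IH) (Lpn K61.v7776)))))
theorem f834270 : Led Lsl_dt v11389 = K61.v7776 :=
  Lgr Lrot42 (Lpr_df (f834251 IH) (Lpn K61.v7776))
theorem f835882 : Led Lsl_af v11389 = v26812 :=
  Lgr Lrot117 (Lpr_dt (f834270 IH) (Lpe (K61.f792131 IH) (Lpr_dt (f835881 IH) (Lpn v26812))))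
theorem f835890 : v10443 = v11389 :=
  (Llr Lrot46 (Lpe (f680407 IH) (Lpr_gf (f680408 IH) (Lpr_ft (f835889 IH) (Lpe (f835882 IH) (Lpn v11389)))))).symm
theorem f668333 : Led Lsl_df (LP (LK LD1_c3 LD2_c56 LD3_c50)) = v7774 :=
  Lgr Lrot38 (Lpr_dt (f668331 IH) (Lpn v7774))
theorem f834271 : Led Lsl_ft v11389 = v7774 :=
  Lgr Lrot54 (Lpr_df (f834251 IH) (Lpe (K61.f668339 IH) (Lpr_df (f668333 IH) (Lpn v7774))))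
theorem f834272 : Led Lsl_ff v11389 = v7774 :=
  Lgr Lrot3 (Lpr_ft (f834271 IH) (Lpn v7774))
theorem f841499 : Led Lsl_cf v7774 = v27819 :=
  Lgr Lrot11 (Lpr_ct (f841498 IH) (Lpn v27819))
theorem f859057 : Led Lsl_ff v27819 = v31528 :=
  Lgr Lrot23 (Lpe (f841499 IH) (Lpe (f834272 IH) (Lpq (f835890 IH) (Lpr_ct (f859055 IH) (Lpn v31528)))))
def v3929 : LQ := Led Lsl_at K64.v1126
theorem f627939 : Led Lsl_at K64.v1126 = v3929 :=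
  Lrfl
theorem f627943 : Led Lsl_ff v3676 = v3929 :=
  Lgr Lrot30 (Lpe (f626722 IH) (Lpr_ft (f491611 IH) (Lpr_at (f627939 IH) (Lpn v3929))))
theorem f446864 : Led Lsl_af (LP (LK LD1_c0 LD2_c9 LD3_c50)) = (LP (LK LD1_c0 LD2_c9 LD3_c50)) :=
  Lgr Lrot45 (Lpe (K33.f446854 IH) (Lpr_at (K49.f446860 IH) (Lpr_ft (K33.f446858 IH) (Lpn (LP (LK LD1_c0 LD2_c9 LD3_c50))))))
theorem f446868 : Led Lsl_at (LP (LK LD1_c0 LD2_c21 LD3_c52)) = (LP (LK LD1_c0 LD2_c21 LD3_c52)) :=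
  Lgr Lrot51 (Lpe (K6.f10913 IH) (Lpr_af (f446864 IH) (Lpe (K7.f10919 IH) (Lpn (LP (LK LD1_c0 LD2_c21 LD3_c52))))))
theorem f450826 : Led Lsl_at K49.v161 = K49.v161 :=
  Lgr Lrot107 (Lpe (K49.f450823 IH) (Lpe (f446868 IH) (Lpr_cf (K49.f450824 IH) (Lpn K49.v161))))
theorem f626723 : Led Lsl_bf v3676 = v3676 :=
  Lgr Lrot81 (Lpe (f626722 IH) (Lpe (K49.f490920 IH) (Lpr_at (f450826 IH) (Lpr_bt (K49.f490919 IH) (Lpr_at (f626721 IH) (Lpn v3676))))))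
theorem f451482 : Led Lsl_af K64.v271 = K64.v271 :=
  Lgr Lrot45 (Lpe (f451479 IH) (Lpr_at (f450826 IH) (Lpr_ft (f451481 IH) (Lpn K64.v271))))
theorem f627940 : Led Lsl_af K64.v1126 = v3929 :=
  Lgr Lrot0 (Lpr_at (f627939 IH) (Lpn v3929))
theorem f627941 : Led Lsl_bf v3929 = v3929 :=
  Lgr Lrot81 (Lpe (f627940 IH) (Lpe (f491608 IH) (Lpe (f451482 IH) (Lpr_bt (K64.f491607 IH) (Lpr_at (f627939 IH) (Lpn v3929))))))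
theorem f627945 : Led Lsl_ft v3676 = v3929 :=
  Lgr Lrot75 (Lpr_bf (f626723 IH) (Lpr_ff (f627943 IH) (Lpr_bf (f627941 IH) (Lpn v3929))))
theorem f627947 : Led Lsl_gt v3676 = K64.v3928 :=
  Lgr Lrot5 (Lpr_ft (f627945 IH) (Lpe (f627940 IH) (Lpr_gf (K64.f627938 IH) (Lpn K64.v3928))))
def v11258 : LQ := Led Lsl_gt v3668
theorem f683715 : Led Lsl_gt v3668 = v11258 :=
  Lrfl
theorem f683716 : Led Lsl_gf v9033 = v11258 :=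
  Lgr Lrot76 (Lpe (f673304 IH) (Lpr_ff (f626693 IH) (Lpr_gt (f683715 IH) (Lpn v11258))))
def v10466 : LQ := Led Lsl_gt K49.v3345
theorem f680469 : Led Lsl_gt K49.v3345 = v10466 :=
  Lrfl
theorem f686316 : Led Lsl_cf v11258 = v10466 :=
  Lgr Lrot125 (Lpe (f683716 IH) (Lpe (f673307 IH) (Lpe (f626723 IH) (Lpr_gt (f627947 IH) (Lpr_bf (K64.f686314 IH) (Lpe (K64.f686315 IH) (Lpr_gt (K61.f680442 IH) (Lpe (K61.f625235 IH) (Lpr_bt (K49.f625233 IH) (Lpr_gt (f680469 IH) (Lpn v10466)))))))))))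
theorem f686318 : Led Lsl_bf v10444 = v10466 :=
  Lgr Lrot156 (Lpe (f680408 IH) (Lpe (f625221 IH) (Lpr_ct (K61.f625223 IH) (Lpr_gt (K61.f680427 IH) (Lpr_cf (K64.f686315 IH) (Lpe (K64.f686314 IH) (Lpe (K64.f627938 IH) (Lpr_ct (f626694 IH) (Lpr_gt (f683715 IH) (Lpr_cf (f686316 IH) (Lpn v10466)))))))))))
theorem f686319 : Led Lsl_bt v10444 = v10466 :=
  Lgr Lrot127 (Lpr_bf (f686318 IH) (Lpn v10466))
def v10317 : LQ := Led Lsl_bt v3282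
def v31263 : LQ := Led Lsl_at v10317
theorem f857945 : Led Lsl_at v10317 = v31263 :=
  Lrfl
theorem f679807 : Led Lsl_bt v3282 = v10317 :=
  Lrfl
theorem f679808 : Led Lsl_bf v3282 = v10317 :=
  Lgr Lrot24 (Lpr_bt (f679807 IH) (Lpn v10317))
theorem f819308 : Led Lsl_df v10317 = v10317 :=
  Lgr Lrot12 (Lpe (f679808 IH) (Lpq (f819306 IH) (Lpe (f679812 IH) (Lpr_bt (f679807 IH) (Lpn v10317)))))
theorem f857946 : Led Lsl_af v10317 = v31263 :=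
  Lgr Lrot0 (Lpr_at (f857945 IH) (Lpn v31263))
theorem f857948 : Led Lsl_df v31263 = v31263 :=
  Lgr Lrot18 (Lpe (f857946 IH) (Lpe (f819308 IH) (Lpr_at (f857945 IH) (Lpn v31263))))
def v10312 : LQ := Led Lsl_bt v3281
def v31251 : LQ := Led Lsl_ft v10312
theorem f857879 : Led Lsl_ft v10312 = v31251 :=
  Lrfl
theorem f679793 : Led Lsl_bt v3281 = v10312 :=
  Lrfl
theorem f857881 : Led Lsl_bf v10316 = v31251 :=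
  Lgr Lrot61 (Lpe (f679805 IH) (Lpr_bt (f679793 IH) (Lpr_ft (f857879 IH) (Lpn v31251))))
theorem f857883 : Led Lsl_ff v10312 = v31251 :=
  Lgr Lrot3 (Lpr_ft (f857879 IH) (Lpn v31251))
def v31249 : LQ := Led Lsl_at v10312
theorem f857866 : Led Lsl_at v10312 = v31249 :=
  Lrfl
theorem f679794 : Led Lsl_bf v3281 = v10312 :=
  Lgr Lrot24 (Lpr_bt (f679793 IH) (Lpn v10312))
theorem f450833 : Led Lsl_cf (LP (LK LD1_c0 LD2_c22 LD3_c18)) = K61.v163 :=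
  Lgr Lrot55 (Lpr_dt (K0.f9965 IH) (Lpr_ct (K0.f9964 IH) (Lpr_dt (K0.f9954 IH) (Lpr_ct (K0.f9966 IH) (Lpr_dt (K0.f9967 IH) (Lpr_ct (K0.f9968 IH) (Lpr_dt (K0.f10068 IH) (Lpr_ct (K0.f9982 IH) (Lpr_dt (K0.f9958 IH) (Lpr_ct (K0.f9960 IH) (Lpr_dt (K0.f9950 IH) (Lpr_ct (K0.f9983 IH) (Lpr_dt (K0.f9984 IH) (Lpr_ct (K3.f9985 IH) (Lpr_dt (K61.f450832 IH) (Lpn K61.v163))))))))))))))))
theorem f450837 : Led Lsl_af K61.v163 = K61.v163 :=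
  Lgr Lrot68 (Lpe (f450833 IH) (Lpe (K0.f10099 IH) (Lpr_ct (f450836 IH) (Lpn K61.v163))))
theorem f450838 : Led Lsl_ft (LP (LK LD1_c0 LD2_c22 LD3_c17)) = K61.v163 :=
  Lgr Lrot142 (Lpe (K35.f10074 IH) (Lpr_ct (K29.f9979 IH) (Lpr_dt (K0.f9974 IH) (Lpr_ct (K0.f9973 IH) (Lpe (K0.f9969 IH) (Lpr_ct (K0.f9977 IH) (Lpr_dt (K0.f9978 IH) (Lpr_ct (f450836 IH) (Lpr_af (f450837 IH) (Lpn K61.v163))))))))))
theorem f456796 : Led Lsl_bt K61.v163 = K49.v690 :=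
  Lgr Lrot35 (Lpe (f450838 IH) (Lpe (K49.f10909 IH) (Lpr_ff (K49.f456793 IH) (Lpn K49.v690))))
theorem f450827 : Led Lsl_gt K61.v136 = K49.v161 :=
  Lgr Lrot150 (Lpe (K61.f450677 IH) (Lpr_gf (K35.f447635 IH) (Lpe (K11.f447632 IH) (Lpe (K7.f154105 IH) (Lpr_ct (K2.f20858 IH) (Lpe (K7.f154124 IH) (Lpe (K6.f143255 IH) (Lpe (K7.f10919 IH) (Lpr_cf (K49.f450824 IH) (Lpn K49.v161))))))))))
theorem f511305 : Led Lsl_ct v973 = v2259 :=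
  Lgr Lrot59 (Lpr_cf (f511304 IH) (Lpn v2259))
def v8874 : LQ := Led Lsl_gf v2259
theorem f672584 : Led Lsl_gf v2259 = v8874 :=
  Lrfl
theorem f679795 : Led Lsl_cf v8874 = v10312 :=
  Lgr Lrot160 (Lpe (f672584 IH) (Lpe (f511305 IH) (Lpe (f490790 IH) (Lpr_gt (f450827 IH) (Lpe (K49.f450824 IH) (Lpe (K6.f10914 IH) (Lpr_cf (f450833 IH) (Lpr_bt (f456796 IH) (Lpr_gt (f624966 IH) (Lpr_bf (f679794 IH) (Lpn v10312)))))))))))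
theorem f679796 : Led Lsl_ct v8874 = v10312 :=
  Lgr Lrot59 (Lpr_cf (f679795 IH) (Lpn v10312))
def v8873 : LQ := Led Lsl_gt v2259
def v29088 : LQ := Led Lsl_ft v8873
theorem f847626 : Led Lsl_ft v8873 = v29088 :=
  Lrfl
def v29085 : LQ := Led Lsl_at v8873
theorem f847618 : Led Lsl_at v8873 = v29085 :=
  Lrfl
theorem f847619 : Led Lsl_af v8873 = v29085 :=
  Lgr Lrot0 (Lpr_at (f847618 IH) (Lpn v29085))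
theorem f672583 : Led Lsl_gt v2259 = v8873 :=
  Lrfl
theorem f847620 : Led Lsl_ft v8874 = v29085 :=
  Lgr Lrot2 (Lpe (f672584 IH) (Lpr_gt (f672583 IH) (Lpr_af (f847619 IH) (Lpn v29085))))
theorem f847627 : Led Lsl_af v8874 = v29088 :=
  Lgr Lrot45 (Lpr_ft (f847620 IH) (Lpe (f847619 IH) (Lpr_ft (f847626 IH) (Lpn v29088))))
theorem f857868 : Led Lsl_cf v29088 = v31249 :=
  Lgr Lrot1 (Lpe (f847627 IH) (Lpr_ct (f679796 IH) (Lpr_at (f857866 IH) (Lpn v31249))))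
theorem f847628 : Led Lsl_ff v8873 = v29088 :=
  Lgr Lrot3 (Lpr_ft (f847626 IH) (Lpn v29088))
def v27818 : LQ := Led Lsl_gt v7774
theorem f841493 : Led Lsl_gt v7774 = v27818 :=
  Lrfl
def v4056 : LQ := Led Lsl_at v1199
theorem f629210 : Led Lsl_at v1199 = v4056 :=
  Lrfl
def v3631 : LQ := Led Lsl_at v973
theorem f626482 : Led Lsl_at v973 = v3631 :=
  Lrfl
theorem f626483 : Led Lsl_af v973 = v3631 :=
  Lgr Lrot0 (Lpr_at (f626482 IH) (Lpn v3631))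
theorem f629214 : Led Lsl_ff v3631 = v4056 :=
  Lgr Lrot30 (Lpe (f626483 IH) (Lpr_ft (f493918 IH) (Lpr_at (f629210 IH) (Lpn v4056))))
theorem f627752 : Led Lsl_df v3631 = K61.v3889 :=
  Lgr Lrot18 (Lpe (f626483 IH) (Lpr_dt (f491506 IH) (Lpr_at (K61.f627749 IH) (Lpn K61.v3889))))
theorem f626484 : Led Lsl_bf v3631 = v3631 :=
  Lgr Lrot81 (Lpe (f626483 IH) (Lpe (f490790 IH) (Lpr_at (K61.f450679 IH) (Lpr_bt (f490789 IH) (Lpr_at (f626482 IH) (Lpn v3631))))))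
theorem f627758 : Led Lsl_dt v3631 = K61.v3889 :=
  Lgr Lrot79 (Lpr_bf (f626484 IH) (Lpr_df (f627752 IH) (Lpr_bf (K61.f627751 IH) (Lpn K61.v3889))))
theorem f629217 : Led Lsl_dt K61.v2257 = v4056 :=
  Lgr Lrot60 (Lpr_ff (K61.f627753 IH) (Lpe (f627758 IH) (Lpr_ff (f629214 IH) (Lpn v4056))))
def v11765 : LQ := Led Lsl_at v3882
theorem f685790 : Led Lsl_at v3882 = v11765 :=
  Lrfl
theorem f629211 : Led Lsl_af v1199 = v4056 :=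
  Lgr Lrot0 (Lpr_at (f629210 IH) (Lpn v4056))
theorem f685792 : Led Lsl_cf v4056 = v11765 :=
  Lgr Lrot1 (Lpe (f629211 IH) (Lpr_ct (f627725 IH) (Lpr_at (f685790 IH) (Lpn v11765))))
theorem f627726 : Led Lsl_ft v2259 = v3882 :=
  Lgr Lrot48 (Lpr_ff (f627724 IH) (Lpn v3882))
theorem f685794 : Led Lsl_gt v8873 = v11765 :=
  Lgr Lrot46 (Lpe (f672583 IH) (Lpr_ft (f627726 IH) (Lpr_at (f685790 IH) (Lpn v11765))))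
theorem f841495 : Led Lsl_cf v8873 = v27818 :=
  Lgr Lrot169 (Lpr_gt (f685794 IH) (Lpe (f685792 IH) (Lpe (f629217 IH) (Lpr_cf (K61.f657514 IH) (Lpr_gf (K61.f676642 IH) (Lpr_cf (K61.f685873 IH) (Lpe (K61.f668324 IH) (Lpr_df (f668333 IH) (Lpr_gt (f841493 IH) (Lpn v27818))))))))))
theorem f841496 : Led Lsl_ct v8873 = v27818 :=
  Lgr Lrot59 (Lpr_cf (f841495 IH) (Lpn v27818))
theorem f857871 : Led Lsl_ft v27818 = v31249 :=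
  Lgr Lrot4 (Lpe (f841496 IH) (Lpr_ff (f847628 IH) (Lpr_cf (f857868 IH) (Lpn v31249))))
def v7765 : LQ := Led Lsl_bt (LP (LK LD1_c3 LD2_c56 LD3_c48))
def v27797 : LQ := Led Lsl_gt v7765
theorem f841409 : Led Lsl_gt v7765 = v27797 :=
  Lrfl
theorem f668300 : Led Lsl_bt (LP (LK LD1_c3 LD2_c56 LD3_c48)) = v7765 :=
  Lrfl
theorem f134993 : Led Lsl_bt (LP (LK LD1_c6 LD2_c52 LD3_c40)) = (LP (LK LD1_c3 LD2_c25 LD3_c13)) :=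
  Lre_b IH (LK LD1_c6 LD2_c52 LD3_c40) (LK LD1_c3 LD2_c25 LD3_c13) Lrfl Lrfl
theorem f668303 : Led Lsl_ff (LP (LK LD1_c6 LD2_c52 LD3_c40)) = v7765 :=
  Lgr Lrot25 (Lpr_bt (f134993 IH) (Lpr_ft (K5.f134991 IH) (Lpr_bt (f668300 IH) (Lpn v7765))))
def v20238 : LQ := Led Lsl_at (LP (LK LD1_c6 LD2_c52 LD3_c40))
theorem f785836 : Led Lsl_at (LP (LK LD1_c6 LD2_c52 LD3_c40)) = v20238 :=
  Lrfl
theorem f841410 : Led Lsl_gf v20238 = v27797 :=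
  Lgr Lrot76 (Lpe (f785836 IH) (Lpr_ff (f668303 IH) (Lpr_gt (f841409 IH) (Lpn v27797))))
theorem f493919 : Led Lsl_dt (LP (LK LD1_c3 LD2_c25 LD3_c12)) = (LP (LK LD1_c6 LD2_c52 LD3_c40)) :=
  Lre_d IH (LK LD1_c3 LD2_c25 LD3_c12) (LK LD1_c6 LD2_c52 LD3_c40) Lrfl Lrfl
theorem f785838 : Led Lsl_df K61.v6659 = v20238 :=
  Lgr Lrot18 (Lpe (K61.f657513 IH) (Lpr_dt (f493919 IH) (Lpr_at (f785836 IH) (Lpn v20238))))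
theorem f629213 : Led Lsl_df K61.v2257 = v4056 :=
  Lgr Lrot18 (Lpe (K61.f511295 IH) (Lpr_dt (f493917 IH) (Lpr_at (f629210 IH) (Lpn v4056))))
theorem f629215 : Led Lsl_gt v3629 = v4056 :=
  Lgr Lrot46 (Lpe (f626480 IH) (Lpr_ft (f493918 IH) (Lpr_at (f629210 IH) (Lpn v4056))))
def v11171 : LQ := Led Lsl_dt v3629
theorem f683325 : Led Lsl_dt v3629 = v11171 :=
  Lrfl
theorem f683326 : Led Lsl_df v3629 = v11171 :=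
  Lgr Lrot38 (Lpr_dt (f683325 IH) (Lpn v11171))
theorem f819303 : v11171 = v3629 :=
  (Llr Lrot12 (Lpe (f683326 IH) (Lpr_bt (f683319 IH) (Lpr_dt (f819302 IH) (Lpe (f683320 IH) (Lpn v3629)))))).symm
theorem f841411 : Led Lsl_dt v8873 = v27797 :=
  Lgr Lrot57 (Lpe (f672583 IH) (Lpe (f511305 IH) (Lpr_gt (f626480 IH) (Lpq (f819303 IH) (Lpe (f683326 IH) (Lpr_gt (f629215 IH) (Lpe (f629213 IH) (Lpr_cf (K61.f657514 IH) (Lpr_df (f785838 IH) (Lpr_gf (f841410 IH) (Lpn v27797)))))))))))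
theorem f841412 : Led Lsl_df v8873 = v27797 :=
  Lgr Lrot38 (Lpr_dt (f841411 IH) (Lpn v27797))
theorem f450756 : Led Lsl_dt (LP (LK LD1_c6 LD2_c52 LD3_c40)) = (LP (LK LD1_c3 LD2_c25 LD3_c12)) :=
  Lre_d IH (LK LD1_c6 LD2_c52 LD3_c40) (LK LD1_c3 LD2_c25 LD3_c12) Lrfl Lrfl
theorem f535560 : Led Lsl_ft (LP (LK LD1_c3 LD2_c25 LD3_c12)) = K61.v2777 :=
  Lgr Lrot48 (Lpr_ff (K61.f535558 IH) (Lpn K61.v2777))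
theorem f668304 : Led Lsl_dt K61.v2777 = v7765 :=
  Lgr Lrot60 (Lpe (f535560 IH) (Lpe (f450756 IH) (Lpr_ff (f668303 IH) (Lpn v7765))))
theorem f841497 : Led Lsl_dt v27818 = v27818 :=
  Lgr Lrot105 (Lpe (f841493 IH) (Lpe (f668331 IH) (Lpq (K61.f792155 IH) (Lpe (K61.f659693 IH) (Lpr_cf (K61.f659696 IH) (Lpe (K61.f659698 IH) (Lpr_dt (f668304 IH) (Lpr_gt (f841409 IH) (Lpe (f841412 IH) (Lpr_cf (f841495 IH) (Lpn v27818)))))))))))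
theorem f819310 : Led Lsl_df v10312 = v10312 :=
  Lgr Lrot12 (Lpe (f679794 IH) (Lpq (f819304 IH) (Lpe (f679800 IH) (Lpr_bt (f679793 IH) (Lpn v10312)))))
theorem f857867 : Led Lsl_af v10312 = v31249 :=
  Lgr Lrot0 (Lpr_at (f857866 IH) (Lpn v31249))
theorem f857869 : Led Lsl_df v31249 = v31249 :=
  Lgr Lrot18 (Lpe (f857867 IH) (Lpe (f819310 IH) (Lpr_at (f857866 IH) (Lpn v31249))))
theorem f857872 : Led Lsl_ff v27818 = v31249 :=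
  Lgr Lrot19 (Lpr_dt (f841497 IH) (Lpr_ft (f857871 IH) (Lpe (f857869 IH) (Lpn v31249))))
theorem f857884 : Led Lsl_at v27818 = v31251 :=
  Lgr Lrot66 (Lpr_ff (f857872 IH) (Lpe (f857866 IH) (Lpr_ff (f857883 IH) (Lpn v31251))))
theorem f857947 : Led Lsl_bf v27818 = v31263 :=
  Lgr Lrot81 (Lpr_at (f857884 IH) (Lpe (f857881 IH) (Lpe (f679804 IH) (Lpr_bt (f679807 IH) (Lpr_at (f857945 IH) (Lpn v31263))))))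
theorem f857949 : Led Lsl_bt v27818 = v31263 :=
  Lgr Lrot95 (Lpe (f841497 IH) (Lpr_bf (f857947 IH) (Lpr_df (f857948 IH) (Lpn v31263))))
theorem f626481 : Led Lsl_gf v973 = v3630 :=
  Lrfl
theorem f683334 : Led Lsl_bf v3630 = v11174 :=
  Lgr Lrot24 (Lpr_bt (f683333 IH) (Lpn v11174))
def v9571 : LQ := Led Lsl_ct v2783
def v30056 : LQ := Led Lsl_gf v9571
theorem f852470 : Led Lsl_gf v9571 = v30056 :=
  Lrfl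
theorem f676710 : Led Lsl_ct v2783 = v9571 :=
  Lrfl
theorem f668334 : Led Lsl_bt v2783 = v7774 :=
  Lgr Lrot95 (Lpe (f535587 IH) (Lpe (K63.f12735 IH) (Lpr_df (f668333 IH) (Lpn v7774))))
def v8875 : LQ := Led Lsl_at v2259
theorem f672585 : Led Lsl_at v2259 = v8875 :=
  Lrfl
theorem f672586 : Led Lsl_af v2259 = v8875 :=
  Lgr Lrot0 (Lpr_at (f672585 IH) (Lpn v8875))
theorem f685793 : Led Lsl_ff v8875 = v11765 :=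
  Lgr Lrot30 (Lpe (f672586 IH) (Lpr_ft (f627726 IH) (Lpr_at (f685790 IH) (Lpn v11765))))
theorem f672587 : Led Lsl_cf v3631 = v8875 :=
  Lgr Lrot1 (Lpe (f626483 IH) (Lpr_ct (f511305 IH) (Lpr_at (f672585 IH) (Lpn v8875))))
theorem f629212 : Led Lsl_bf v4056 = v4056 :=
  Lgr Lrot81 (Lpe (f629211 IH) (Lpe (f493914 IH) (Lpe (f452148 IH) (Lpr_bt (f493913 IH) (Lpr_at (f629210 IH) (Lpn v4056))))))
theorem f629216 : Led Lsl_ft v3631 = v4056 :=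
  Lgr Lrot75 (Lpr_bf (f626484 IH) (Lpr_ff (f629214 IH) (Lpr_bf (f629212 IH) (Lpn v4056))))
theorem f685795 : Led Lsl_ct v4056 = v11765 :=
  Lgr Lrot40 (Lpe (f629216 IH) (Lpr_cf (f672587 IH) (Lpr_ff (f685793 IH) (Lpn v11765))))
theorem f629218 : Led Lsl_gf v3630 = v4056 :=
  Lgr Lrot47 (Lpe (f626481 IH) (Lpr_af (f626483 IH) (Lpr_ff (f629214 IH) (Lpn v4056))))
theorem f852472 : Led Lsl_ct v11174 = v30056 :=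
  Lgr Lrot64 (Lpe (f683334 IH) (Lpr_gf (f629218 IH) (Lpr_bf (f629212 IH) (Lpr_ct (f685795 IH) (Lpe (f685794 IH) (Lpr_cf (f841495 IH) (Lpe (f841493 IH) (Lpe (f668334 IH) (Lpr_ct (f676710 IH) (Lpr_gf (f852470 IH) (Lpn v30056)))))))))))
def v11385 : LQ := Led Lsl_ct v3724
theorem f684335 : Led Lsl_ct v3724 = v11385 :=
  Lrfl
theorem f684336 : Led Lsl_cf v3724 = v11385 :=
  Lgr Lrot11 (Lpr_ct (f684335 IH) (Lpn v11385))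
def v10952 : LQ := Led Lsl_ct v3561
theorem f682651 : Led Lsl_ct v3561 = v10952 :=
  Lrfl
theorem f834280 : Led Lsl_ff v11385 = v10952 :=
  Lgr Lrot23 (Lpe (f684336 IH) (Lpqs (f834246 IH) (Lpe (f676700 IH) (Lpr_ct (f682651 IH) (Lpn v10952)))))
def v11390 : LQ := Led Lsl_ct v3725
theorem f684347 : Led Lsl_ct v3725 = v11390 :=
  Lrfl
theorem f684348 : Led Lsl_cf v3725 = v11390 :=
  Lgr Lrot11 (Lpr_ct (f684347 IH) (Lpn v11390))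
def v11388 : LQ := Led Lsl_ft v3724
theorem f684341 : Led Lsl_ft v3724 = v11388 :=
  Lrfl
theorem f684343 : Led Lsl_ff v3724 = v11388 :=
  Lgr Lrot3 (Lpr_ft (f684341 IH) (Lpn v11388))
theorem f684344 : Led Lsl_at v3725 = v11388 :=
  Lgr Lrot66 (Lpr_ff (f684330 IH) (Lpe (f684327 IH) (Lpr_ff (f684343 IH) (Lpn v11388))))
theorem f834248 : v3561 = v11388 :=
  Lefun (Lecon (Lfl_ff (f676700 IH)) (f834246 IH).symm) (f684341 IH)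
theorem f834277 : Led Lsl_af v11390 = v10952 :=
  Lgr Lrot68 (Lpe (f684348 IH) (Lpr_at (f684344 IH) (Lpq (f834248 IH) (Lpr_ct (f682651 IH) (Lpn v10952)))))
theorem f834278 : Led Lsl_at v11390 = v10952 :=
  Lgr Lrot100 (Lpr_af (f834277 IH) (Lpn v10952))
theorem f676711 : Led Lsl_cf v2783 = v9571 :=
  Lgr Lrot11 (Lpr_ct (f676710 IH) (Lpn v9571))
theorem f834273 : Led Lsl_ff v9571 = v11390 :=
  Lgr Lrot23 (Lpe (f676711 IH) (Lpqs (f834247 IH) (Lpe (f684330 IH) (Lpr_ct (f684347 IH) (Lpn v11390)))))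
theorem f834274 : Led Lsl_ft v9571 = v11390 :=
  Lgr Lrot48 (Lpr_ff (f834273 IH) (Lpn v11390))
theorem f834281 : Led Lsl_at v11385 = v9571 :=
  Lgr Lrot66 (Lpr_ff (f834280 IH) (Lpe (f834278 IH) (Lpe (f834274 IH) (Lpn v9571))))
theorem f852471 : Led Lsl_gt v10952 = v30056 :=
  Lgr Lrot5 (Lpe (f834280 IH) (Lpr_at (f834281 IH) (Lpr_gf (f852470 IH) (Lpn v30056))))
theorem f682636 : Led Lsl_df K61.v3559 = v10947 :=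
  Lgr Lrot38 (Lpr_dt (f682634 IH) (Lpn v10947))
theorem f682637 : Led Lsl_bt v3561 = v10947 :=
  Lgr Lrot95 (Lpe (f626268 IH) (Lpr_bf (K61.f626265 IH) (Lpr_df (f682636 IH) (Lpn v10947))))
theorem f857950 : Led Lsl_gf v10947 = v31263 :=
  Lgr Lrot124 (Lpe (f682637 IH) (Lpr_ct (f682651 IH) (Lpr_gt (f852471 IH) (Lpe (f852472 IH) (Lpe (f683334 IH) (Lpe (f626481 IH) (Lpr_ct (f511305 IH) (Lpr_gt (f672583 IH) (Lpr_cf (f841495 IH) (Lpr_bt (f857949 IH) (Lpn v31263)))))))))))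
def v26827 : LQ := Led Lsl_dt K63.v6972
theorem f835942 : Led Lsl_dt K63.v6972 = v26827 :=
  Lrfl
theorem f835943 : Led Lsl_af v10947 = v26827 :=
  Lgr Lrot117 (Lpe (f682636 IH) (Lpr_at (K63.f682632 IH) (Lpq (K63.f792134 IH) (Lpr_dt (f835942 IH) (Lpn v26827)))))
theorem f792088 : Led Lsl_ft K61.v6974 = K61.v21092 :=
  Lgr Lrot48 (Lpr_ff (K61.f792086 IH) (Lpn K61.v21092))
theorem f659748 : Led Lsl_bf K47.v2400 = K61.v6977 :=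
  Lgr Lrot61 (Lpe (K47.f519509 IH) (Lpr_bt (K61.f519510 IH) (Lpr_ft (K61.f659747 IH) (Lpn K61.v6977))))
theorem f792083 : Led Lsl_af K61.v6977 = K61.v21092 :=
  Lgr Lrot36 (Lpe (f659748 IH) (Lpe (K47.f519502 IH) (Lpr_bt (K61.f519504 IH) (Lpr_at (K61.f519505 IH) (Lpr_bt (K61.f792082 IH) (Lpn K61.v21092))))))
def v10944 : LQ := Led Lsl_gt K61.v3559
theorem f682630 : Led Lsl_gt K61.v3559 = v10944 :=
  Lrfl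
theorem f792161 : K61.v6977 = v10944 :=
  (Llr Lrot26 (Lpr_af (f792083 IH) (Lpe (f792088 IH) (Lpqs (K61.f792126 IH) (Lpe (K61.f682631 IH) (Lpr_gt (f682630 IH) (Lpn v10944))))))).symm
def v6848 : LQ := Led Lsl_bt (LP (LK LD1_c3 LD2_c31 LD3_c59))
theorem f658951 : Led Lsl_bt (LP (LK LD1_c3 LD2_c31 LD3_c59)) = v6848 :=
  Lrfl
theorem f19210 : Led Lsl_at (LP (LK LD1_c3 LD2_c31 LD3_c59)) = (LP (LK LD1_c7 LD2_c5 LD3_c17)) :=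
  Lre_a IH (LK LD1_c3 LD2_c31 LD3_c59) (LK LD1_c7 LD2_c5 LD3_c17) Lrfl Lrfl
theorem f19212 : Led Lsl_ff (LP (LK LD1_c3 LD2_c31 LD3_c59)) = (LP (LK LD1_c3 LD2_c27 LD3_c58)) :=
  Lgr Lrot30 (Lpr_at (f19210 IH) (Lpr_ft (K7.f19208 IH) (Lpr_at (K33.f19211 IH) (Lpn (LP (LK LD1_c3 LD2_c27 LD3_c58))))))
theorem f19299 : Led Lsl_bt (LP (LK LD1_c6 LD2_c58 LD3_c5)) = (LP (LK LD1_c3 LD2_c27 LD3_c58)) :=
  Lre_b IH (LK LD1_c6 LD2_c58 LD3_c5) (LK LD1_c3 LD2_c27 LD3_c58) Lrfl Lrfl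
theorem f658954 : Led Lsl_ff (LP (LK LD1_c6 LD2_c58 LD3_c5)) = v6848 :=
  Lgr Lrot25 (Lpr_bt (f19299 IH) (Lpe (f19212 IH) (Lpr_bt (f658951 IH) (Lpn v6848))))
theorem f143226 : Led Lsl_dt (LP (LK LD1_c6 LD2_c58 LD3_c5)) = (LP (LK LD1_c3 LD2_c27 LD3_c57)) :=
  Lre_d IH (LK LD1_c6 LD2_c58 LD3_c5) (LK LD1_c3 LD2_c27 LD3_c57) Lrfl Lrfl
theorem f658955 : Led Lsl_dt K61.v2335 = v6848 :=
  Lgr Lrot60 (Lpe (K61.f514702 IH) (Lpe (f143226 IH) (Lpr_ff (f658954 IH) (Lpn v6848))))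
def v26650 : LQ := Led Lsl_gt v6848
theorem f834940 : Led Lsl_gt v6848 = v26650 :=
  Lrfl
theorem f490839 : Led Lsl_at (LP (LK LD1_c6 LD2_c58 LD3_c5)) = (LP (LK LD1_c13 LD2_c13 LD3_c48)) :=
  Lre_a IH (LK LD1_c6 LD2_c58 LD3_c5) (LK LD1_c13 LD2_c13 LD3_c48) Lrfl Lrfl
theorem f834941 : Led Lsl_gf (LP (LK LD1_c13 LD2_c13 LD3_c48)) = v26650 :=
  Lgr Lrot76 (Lpe (f490839 IH) (Lpr_ff (f658954 IH) (Lpr_gt (f834940 IH) (Lpn v26650))))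
def v8920 : LQ := Led Lsl_dt K61.v2287
theorem f672761 : Led Lsl_dt K61.v2287 = v8920 :=
  Lrfl
theorem f672762 : Led Lsl_df K61.v2287 = v8920 :=
  Lgr Lrot38 (Lpr_dt (f672761 IH) (Lpn v8920))
theorem f815474 : v8920 = v11895 :=
  (Llr Lrot78 (Lpe (f672762 IH) (Lpq (K64.f815438 IH) (Lpe (K64.f683441 IH) (Lpr_dt (K64.f683435 IH) (Lpqs (K64.f815472 IH) (Lpr_ft (f686309 IH) (Lpn v11895)))))))).symm
def v9031 : LQ := Led Lsl_gt v2397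
theorem f673302 : Led Lsl_gt v2397 = v9031 :=
  Lrfl
theorem f834942 : Led Lsl_dt v9031 = v26650 :=
  Lgr Lrot57 (Lpe (f673302 IH) (Lpe (f519483 IH) (Lpr_gt (K49.f626719 IH) (Lpq (f834223 IH) (Lpq (f815474 IH) (Lpe (f672762 IH) (Lpr_gt (K61.f626558 IH) (Lpe (K61.f626556 IH) (Lpe (K29.f9852 IH) (Lpe (K29.f9863 IH) (Lpr_gf (f834941 IH) (Lpn v26650))))))))))))
theorem f834944 : Led Lsl_df v9031 = v26650 :=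
  Lgr Lrot38 (Lpr_dt (f834942 IH) (Lpn v26650))
theorem f835947 : Led Lsl_cf v9031 = v26827 :=
  Lgr Lrot14 (Lpr_df (f834944 IH) (Lpe (f834940 IH) (Lpe (f658955 IH) (Lpr_gf (K61.f672966 IH) (Lpe (K63.f672968 IH) (Lpr_gt (f682630 IH) (Lpq (f792161 IH) (Lpq (K61.f792114 IH) (Lpe (K61.f659741 IH) (Lpr_gt (K63.f659734 IH) (Lpr_dt (f835942 IH) (Lpn v26827))))))))))))
def v10467 : LQ := Led Lsl_gf K49.v3345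
theorem f680470 : Led Lsl_gf K49.v3345 = v10467 :=
  Lrfl
theorem f834217 : v10467 = v10947 :=
  (Llr Lrot147 (Lpe (f680470 IH) (Lpr_ct (K49.f680473 IH) (Lpr_gt (f834216 IH) (Lpe (f834214 IH) (Lpe (K64.f658138 IH) (Lpe (K47.f106243 IH) (Lpr_gf (K61.f787432 IH) (Lpe (K61.f787442 IH) (Lpqs (K61.f787443 IH) (Lpqs (K61.f792114 IH) (Lpqs (f792161 IH) (Lpe (f682630 IH) (Lpr_df (f682636 IH) (Lpn v10947))))))))))))))).symm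
def v11384 : LQ := Led Lsl_bt v3724
theorem f684331 : Led Lsl_bt v3724 = v11384 :=
  Lrfl
theorem f684332 : Led Lsl_bf v3724 = v11384 :=
  Lgr Lrot24 (Lpr_bt (f684331 IH) (Lpn v11384))
theorem f834279 : Led Lsl_ff v11384 = v10947 :=
  Lgr Lrot25 (Lpe (f684332 IH) (Lpqs (f834246 IH) (Lpe (f676700 IH) (Lpr_bt (f682637 IH) (Lpn v10947)))))
theorem f834287 : Led Lsl_at v11384 = v10466 :=
  Lgr Lrot26 (Lpr_ff (f834279 IH) (Lpq (f834217 IH) (Lpe (f680470 IH) (Lpr_gt (f680469 IH) (Lpn v10466)))))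
theorem f627944 : Led Lsl_gt K49.v3674 = v3929 :=
  Lgr Lrot46 (Lpe (K49.f626719 IH) (Lpr_ft (f491611 IH) (Lpr_at (f627939 IH) (Lpn v3929))))
theorem f683723 : Led Lsl_ct v3929 = v11260 :=
  Lgr Lrot40 (Lpe (f627945 IH) (Lpr_cf (f673306 IH) (Lpr_ff (f683721 IH) (Lpn v11260))))
def v9032 : LQ := Led Lsl_gf v2397
theorem f673303 : Led Lsl_gf v2397 = v9032 :=
  Lrfl
theorem f683725 : Led Lsl_gf v9032 = v11260 :=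
  Lgr Lrot47 (Lpe (f673303 IH) (Lpr_af (f673305 IH) (Lpr_ff (f683721 IH) (Lpn v11260))))
theorem f684333 : Led Lsl_cf v9032 = v11384 :=
  Lgr Lrot58 (Lpr_gf (f683725 IH) (Lpe (f683723 IH) (Lpe (f627941 IH) (Lpe (f627944 IH) (Lpr_bf (f683805 IH) (Lpr_ct (f683954 IH) (Lpe (f683964 IH) (Lpe (f673461 IH) (Lpr_gf (f627024 IH) (Lpr_bf (f684332 IH) (Lpn v11384)))))))))))
theorem f684334 : Led Lsl_ct v9032 = v11384 :=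
  Lgr Lrot59 (Lpr_cf (f684333 IH) (Lpn v11384))
theorem f834289 : Led Lsl_af v9032 = v11258 :=
  Lgr Lrot68 (Lpr_ct (f684334 IH) (Lpr_at (f834287 IH) (Lpe (f686316 IH) (Lpn v11258))))
theorem f683722 : Led Lsl_gt v9031 = v11260 :=
  Lgr Lrot46 (Lpe (f673302 IH) (Lpr_ft (f626695 IH) (Lpr_at (f683718 IH) (Lpn v11260))))
theorem f834291 : Led Lsl_ft v9031 = v11258 :=
  Lgr Lrot2 (Lpr_gt (f683722 IH) (Lpe (f683725 IH) (Lpr_af (f834289 IH) (Lpn v11258))))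
theorem f686317 : Led Lsl_ct v11258 = v10466 :=
  Lgr Lrot59 (Lpr_cf (f686316 IH) (Lpn v10466))
theorem f835949 : Led Lsl_ft v10466 = v26827 :=
  Lgr Lrot4 (Lpe (f686317 IH) (Lpe (f834291 IH) (Lpr_cf (f835947 IH) (Lpn v26827))))
theorem f857951 : Led Lsl_gt v10466 = v31263 :=
  Lgr Lrot5 (Lpr_ft (f835949 IH) (Lpe (f835943 IH) (Lpr_gf (f857950 IH) (Lpn v31263))))
theorem f859067 : Led Lsl_gt v11175 = v31530 :=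
  Lgr Lrot149 (Lpe (f683335 IH) (Lpr_gf (f629218 IH) (Lpr_bf (f629212 IH) (Lpr_ct (f685795 IH) (Lpe (f685794 IH) (Lpr_cf (f841495 IH) (Lpr_bt (f857949 IH) (Lpe (f857951 IH) (Lpe (f686319 IH) (Lpr_ct (f859064 IH) (Lpn v31530)))))))))))
theorem f859072 : Led Lsl_gt v31528 = v11175 :=
  Lgr Lrot5 (Lpe (f859057 IH) (Lpr_at (f859069 IH) (Lpe (f859067 IH) (Lpn v11175))))
def v10451 : LQ := Led Lsl_gf K61.v3341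
theorem f680428 : Led Lsl_gf K61.v3341 = v10451 :=
  Lrfl
def v31541 : LQ := Led Lsl_ct v10451
theorem f859116 : Led Lsl_ct v10451 = v31541 :=
  Lrfl
theorem f859118 : Led Lsl_cf v10451 = v31541 :=
  Lgr Lrot11 (Lpr_ct (f859116 IH) (Lpn v31541))
theorem f864736 : Led Lsl_bt v31541 = v32844 :=
  Lgr Lrot92 (Lpe (f859118 IH) (Lpe (f680428 IH) (Lpe (K61.f625223 IH) (Lpr_bt (f625221 IH) (Lpr_gt (f680407 IH) (Lpr_ct (f859055 IH) (Lpr_gt (f859072 IH) (Lpe (f683335 IH) (Lpr_bt (f683333 IH) (Lpr_gt (f864732 IH) (Lpn v32844)))))))))))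
theorem f680429 : Led Lsl_gt K61.v3346 = v10451 :=
  Lgr Lrot5 (Lpr_ft (K61.f680395 IH) (Lpe (K61.f680392 IH) (Lpr_gf (f680428 IH) (Lpn v10451))))
def v26971 : LQ := Led Lsl_bt v7067
theorem f836890 : Led Lsl_bt v7067 = v26971 :=
  Lrfl
theorem f864740 : Led Lsl_gf v26971 = v32844 :=
  Lgr Lrot124 (Lpe (f836890 IH) (Lpe (f660696 IH) (Lpr_gt (K61.f660680 IH) (Lpe (K61.f660687 IH) (Lpe (f519537 IH) (Lpe (f519536 IH) (Lpr_ct (K61.f625235 IH) (Lpr_gt (f680429 IH) (Lpr_cf (f859118 IH) (Lpr_bt (f864736 IH) (Lpn v32844)))))))))))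
theorem f836892 : Led Lsl_bf v7067 = v26971 :=
  Lgr Lrot24 (Lpr_bt (f836890 IH) (Lpn v26971))
theorem f836893 : Led Lsl_df v26971 = v26971 :=
  Lgr Lrot12 (Lpe (f836892 IH) (Lpr_dt (f683837 IH) (Lpr_bt (f836890 IH) (Lpn v26971))))
theorem f836872 : Led Lsl_af v7067 = v26968 :=
  Lgr Lrot68 (Lpe (f660696 IH) (Lpr_at (f660690 IH) (Lpr_ct (f836871 IH) (Lpn v26968))))
theorem f836891 : Led Lsl_af v12227 = v26971 :=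
  Lgr Lrot36 (Lpe (f688132 IH) (Lpr_at (f688129 IH) (Lpr_bt (f836875 IH) (Lpe (f836872 IH) (Lpr_bt (f836890 IH) (Lpn v26971))))))
def v10447 : LQ := Led Lsl_dt v3340
theorem f680415 : Led Lsl_dt v3340 = v10447 :=
  Lrfl
theorem f680417 : Led Lsl_df v3340 = v10447 :=
  Lgr Lrot38 (Lpr_dt (f680415 IH) (Lpn v10447))
theorem f680418 : Led Lsl_bt K49.v3342 = v10447 :=
  Lgr Lrot95 (Lpe (K49.f625225 IH) (Lpr_bf (f625222 IH) (Lpr_df (f680417 IH) (Lpn v10447))))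
theorem f683818 : v10447 = v3340 :=
  Lefun (Lecon (f680418 IH) (K49.f683817 IH)) (f625221 IH)
theorem f680412 : Led Lsl_cf v3340 = v10446 :=
  Lgr Lrot11 (Lpr_ct (f680411 IH) (Lpn v10446))
theorem f629208 : Led Lsl_gf v3631 = v4054 :=
  Lgr Lrot76 (Lpe (f626482 IH) (Lpr_ff (f493916 IH) (Lpr_gt (f629207 IH) (Lpn v4054))))
theorem f672588 : Led Lsl_ct v3631 = v8875 :=
  Lgr Lrot59 (Lpr_cf (f672587 IH) (Lpn v8875))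
theorem f680413 : Led Lsl_gt v8875 = v10446 :=
  Lgr Lrot65 (Lpe (f672588 IH) (Lpe (f626484 IH) (Lpr_gf (f629208 IH) (Lpr_bf (f673727 IH) (Lpe (f673726 IH) (Lpr_gf (f660689 IH) (Lpe (K61.f660687 IH) (Lpe (K49.f519538 IH) (Lpr_bf (f625222 IH) (Lpr_ct (f680411 IH) (Lpn v10446)))))))))))
theorem f683824 : Led Lsl_df v4054 = v4054 :=
  Lgr Lrot155 (Lpe (f629208 IH) (Lpr_ct (f672588 IH) (Lpr_gt (f680413 IH) (Lpe (f680412 IH) (Lpq (f683818 IH) (Lpe (f680417 IH) (Lpr_cf (f680412 IH) (Lpe (f680413 IH) (Lpe (f672588 IH) (Lpr_gf (f629208 IH) (Lpn v4054)))))))))))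
theorem f688118 : Led Lsl_df v12223 = v12223 :=
  Lgr Lrot18 (Lpe (f688117 IH) (Lpe (f683824 IH) (Lpr_at (f688116 IH) (Lpn v12223))))
theorem f688121 : Led Lsl_dt v4055 = v4055 :=
  Lgr Lrot60 (Lpr_ff (f688120 IH) (Lpr_df (f688118 IH) (Lpe (f688119 IH) (Lpn v4055))))
theorem f688133 : Led Lsl_df v12227 = v12227 :=
  Lgr Lrot12 (Lpe (f688132 IH) (Lpr_dt (f688121 IH) (Lpr_bt (f688131 IH) (Lpn v12227))))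
theorem f836895 : Led Lsl_at v12227 = v26971 :=
  Lgr Lrot51 (Lpr_df (f688133 IH) (Lpr_af (f836891 IH) (Lpr_df (f836893 IH) (Lpn v26971))))
theorem f683317 : Led Lsl_ft v3630 = v11168 :=
  Lgr Lrot2 (Lpe (f626481 IH) (Lpr_gt (f626480 IH) (Lpr_af (f683316 IH) (Lpn v11168))))
theorem f864671 : Led Lsl_ff v11174 = v32829 :=
  Lgr Lrot25 (Lpe (f683334 IH) (Lpr_ft (f683317 IH) (Lpr_bt (f864668 IH) (Lpn v32829))))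
def v11176 : LQ := Led Lsl_dt v3630
theorem f683337 : Led Lsl_dt v3630 = v11176 :=
  Lrfl
theorem f683338 : Led Lsl_df v3630 = v11176 :=
  Lgr Lrot38 (Lpr_dt (f683337 IH) (Lpn v11176))
def v11173 : LQ := Led Lsl_ft v3629
theorem f683329 : Led Lsl_ft v3629 = v11173 :=
  Lrfl
theorem f683331 : Led Lsl_ff v3629 = v11173 :=
  Lgr Lrot3 (Lpr_ft (f683329 IH) (Lpn v11173))
theorem f819315 : Led Lsl_df v11173 = v11173 :=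
  Lgr Lrot78 (Lpe (f683331 IH) (Lpr_dt (f683325 IH) (Lpqs (f819303 IH) (Lpr_ft (f683329 IH) (Lpn v11173)))))
theorem f683330 : Led Lsl_af v3630 = v11173 :=
  Lgr Lrot45 (Lpr_ft (f683317 IH) (Lpe (f683316 IH) (Lpr_ft (f683329 IH) (Lpn v11173))))
theorem f683318 : Led Lsl_ff v3630 = v11168 :=
  Lgr Lrot3 (Lpr_ft (f683317 IH) (Lpn v11168))
theorem f683332 : Led Lsl_at v3630 = v11173 :=
  Lgr Lrot66 (Lpr_ff (f683318 IH) (Lpe (f683315 IH) (Lpr_ff (f683331 IH) (Lpn v11173))))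
theorem f819316 : v11176 = v3630 :=
  (Llr Lrot44 (Lpe (f683337 IH) (Lpr_af (f683330 IH) (Lpr_df (f819315 IH) (Lpe (f683332 IH) (Lpn v3630)))))).symm
theorem f819318 : Led Lsl_df v11174 = v11174 :=
  Lgr Lrot12 (Lpe (f683334 IH) (Lpq (f819316 IH) (Lpe (f683338 IH) (Lpr_bt (f683333 IH) (Lpn v11174)))))
theorem f819317 : Led Lsl_df v11168 = v11168 :=
  Lgr Lrot78 (Lpe (f683318 IH) (Lpr_dt (f683337 IH) (Lpqs (f819316 IH) (Lpr_ft (f683317 IH) (Lpn v11168)))))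
theorem f864670 : Led Lsl_df v32829 = v32829 :=
  Lgr Lrot12 (Lpe (f864669 IH) (Lpe (f819317 IH) (Lpr_bt (f864668 IH) (Lpn v32829))))
theorem f864672 : Led Lsl_ft v11174 = v32829 :=
  Lgr Lrot54 (Lpr_df (f819318 IH) (Lpr_ff (f864671 IH) (Lpr_df (f864670 IH) (Lpn v32829))))
theorem f864743 : v12227 = v32829 :=
  (Llr Lrot31 (Lpr_at (f836895 IH) (Lpr_gf (f864740 IH) (Lpe (f864732 IH) (Lpr_ft (f864672 IH) (Lpn v32829)))))).symm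
theorem f864744 : v11168 = v4055 :=
  Lefun (Lecon (Lfl_bf (f864669 IH)) (f864743 IH).symm) (Lfl_bf (f688132 IH))
theorem f864747 : v3629 = v12226 :=
  Lefun (Lecon (Lfl_af (f683316 IH)) (f864744 IH)) (f688129 IH)
theorem f864752 : v26968 = v11169 :=
  Lefun (Lecon (f836875 IH) (f864747 IH).symm) (f683319 IH)
theorem f864757 : v7066 = v9135 :=
  Lefun (Lecon (Lfl_cf (f836873 IH)) (f864752 IH)) (Lfl_cf (f683321 IH))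
theorem f864764 : (LP (LK LD1_c7 LD2_c10 LD3_c42)) = v21334 :=
  Lefun (Lecon (Lfl_df (f791770 IH)) ((f819309 IH).symm.trans (f864757 IH).symm)) (f795098 IH)
theorem f864769 : Led Lsl_at (LP (LK LD1_c7 LD2_c16 LD3_c9)) = (LP (LK LD1_c7 LD2_c10 LD3_c42)) :=
  Leop (Lpqs (f864764 IH) (Lpe (f795095 IH) (Lpn (LP (LK LD1_c7 LD2_c16 LD3_c9)))))
theorem seed_2003 : LEOK LG_a (LK LD1_c7 LD2_c16 LD3_c9) :=
  Leoe_a (LK LD1_c7 LD2_c16 LD3_c9) (f864769 IH)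
def v3841 : LQ := Led Lsl_bt K60.v1067
def v11665 : LQ := Led Lsl_gf v3841
theorem f685424 : Led Lsl_gf v3841 = v11665 :=
  Lrfl
def v9120 : LQ := Led Lsl_bt K35.v2451
theorem f673680 : Led Lsl_bt K35.v2451 = v9120 :=
  Lrfl
theorem f490212 : Led Lsl_ff (LP (LK LD1_c1 LD2_c41 LD3_c11)) = K35.v878 :=
  Lgr Lrot19 (Lpr_dt (K32.f87126 IH) (Lpe (K3.f88778 IH) (Lpr_dt (K35.f490209 IH) (Lpn K35.v878))))
theorem f490214 : Led Lsl_bt K35.v213 = K35.v878 :=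
  Lgr Lrot35 (Lpe (K60.f451145 IH) (Lpe (K3.f86926 IH) (Lpr_ff (f490212 IH) (Lpn K35.v878))))
theorem f491238 : Led Lsl_cf K35.v213 = K60.v1067 :=
  Lgr Lrot11 (Lpr_ct (K60.f491236 IH) (Lpn K60.v1067))
theorem f627513 : Led Lsl_bt K60.v1067 = v3841 :=
  Lrfl
theorem f627514 : Led Lsl_bf K60.v1067 = v3841 :=
  Lgr Lrot24 (Lpr_bt (f627513 IH) (Lpn v3841))
theorem f673682 : Led Lsl_cf v3841 = v9120 :=
  Lgr Lrot97 (Lpe (f627514 IH) (Lpe (f491238 IH) (Lpr_bt (f490214 IH) (Lpr_ct (K35.f522373 IH) (Lpr_bt (f673680 IH) (Lpn v9120))))))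
theorem f673681 : Led Lsl_bf K35.v2451 = v9120 :=
  Lgr Lrot24 (Lpr_bt (f673680 IH) (Lpn v9120))
theorem f522371 : Led Lsl_gf K47.v1008 = K35.v2451 :=
  Lgr Lrot76 (Lpe (K47.f490983 IH) (Lpe (K47.f490855 IH) (Lpr_gt (K35.f522370 IH) (Lpn K35.v2451))))
theorem f490981 : Led Lsl_cf K11.v167 = K47.v1008 :=
  Lgr Lrot11 (Lpr_ct (K47.f490979 IH) (Lpn K47.v1008))
theorem f450859 : Led Lsl_bt (LP (LK LD1_c7 LD2_c16 LD3_c8)) = (LP (LK LD1_c3 LD2_c37 LD3_c52)) :=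
  Lre_b IH (LK LD1_c7 LD2_c16 LD3_c8) (LK LD1_c3 LD2_c37 LD3_c52) Lrfl Lrfl
theorem f685425 : Led Lsl_ct (LP (LK LD1_c7 LD2_c16 LD3_c8)) = v11665 :=
  Lgr Lrot64 (Lpr_bt (f450859 IH) (Lpe (K49.f441812 IH) (Lpe (f441811 IH) (Lpr_ct (K11.f10940 IH) (Lpr_gf (K11.f450855 IH) (Lpr_cf (f490981 IH) (Lpr_gf (f522371 IH) (Lpr_bf (f673681 IH) (Lpe (f673682 IH) (Lpr_gf (f685424 IH) (Lpn v11665)))))))))))
def v21331 : LQ := Led Lsl_at (LP (LK LD1_c7 LD2_c16 LD3_c8))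
theorem f795085 : Led Lsl_at (LP (LK LD1_c7 LD2_c16 LD3_c8)) = v21331 :=
  Lrfl
theorem f795086 : Led Lsl_af (LP (LK LD1_c7 LD2_c16 LD3_c8)) = v21331 :=
  Lgr Lrot0 (Lpr_at (f795085 IH) (Lpn v21331))
def v20567 : LQ := Led Lsl_ct (LP (LK LD1_c6 LD2_c59 LD3_c35))
theorem f787953 : Led Lsl_ct (LP (LK LD1_c6 LD2_c59 LD3_c35)) = v20567 :=
  Lrfl
theorem f787954 : Led Lsl_cf (LP (LK LD1_c6 LD2_c59 LD3_c35)) = v20567 :=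
  Lgr Lrot11 (Lpr_ct (f787953 IH) (Lpn v20567))
theorem f87040 : Led Lsl_gt (LP (LK LD1_c6 LD2_c59 LD3_c35)) = (LP (LK LD1_c3 LD2_c28 LD3_c60)) :=
  Lre_g IH (LK LD1_c6 LD2_c59 LD3_c35) (LK LD1_c3 LD2_c28 LD3_c60) Lrfl Lrfl
theorem f87067 : Led Lsl_ct (LP (LK LD1_c6 LD2_c59 LD3_c23)) = (LP (LK LD1_c3 LD2_c28 LD3_c60)) :=
  Lre_c IH (LK LD1_c6 LD2_c59 LD3_c23) (LK LD1_c3 LD2_c28 LD3_c60) Lrfl Lrfl
theorem f87063 : Led Lsl_bt (LP (LK LD1_c6 LD2_c59 LD3_c23)) = (LP (LK LD1_c3 LD2_c28 LD3_c54)) :=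
  Lre_b IH (LK LD1_c6 LD2_c59 LD3_c23) (LK LD1_c3 LD2_c28 LD3_c54) Lrfl Lrfl
theorem f10963 : Led Lsl_bt (LP (LK LD1_c1 LD2_c45 LD3_c46)) = (LP (LK LD1_c0 LD2_c49 LD3_c32)) :=
  Lre_b IH (LK LD1_c1 LD2_c45 LD3_c46) (LK LD1_c0 LD2_c49 LD3_c32) Lrfl Lrfl
theorem f522410 : Led Lsl_bt (LP (LK LD1_c1 LD2_c45 LD3_c48)) = K61.v2457 :=
  Lgr Lrot35 (Lpe (f456882 IH) (Lpe (f10963 IH) (Lpr_ff (f522409 IH) (Lpn K61.v2457))))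
def v9136 : LQ := Led Lsl_gf v2456
theorem f673735 : Led Lsl_gf v2456 = v9136 :=
  Lrfl
theorem f673736 : Led Lsl_gt K61.v2457 = v9136 :=
  Lgr Lrot5 (Lpe (f522409 IH) (Lpr_at (f522401 IH) (Lpr_gf (f673735 IH) (Lpn v9136))))
theorem f787955 : Led Lsl_bf v9136 = v20567 :=
  Lgr Lrot34 (Lpe (f673736 IH) (Lpe (f522410 IH) (Lpr_ct (K3.f18005 IH) (Lpe (K11.f450863 IH) (Lpe (K33.f106639 IH) (Lpr_gf (K33.f450865 IH) (Lpe (f87063 IH) (Lpr_ct (f87067 IH) (Lpe (f87040 IH) (Lpr_cf (f787954 IH) (Lpn v20567)))))))))))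
theorem f787956 : Led Lsl_bt v9136 = v20567 :=
  Lgr Lrot127 (Lpr_bf (f787955 IH) (Lpn v20567))
def v21333 : LQ := Led Lsl_ft (LP (LK LD1_c7 LD2_c16 LD3_c8))
theorem f795091 : Led Lsl_ft (LP (LK LD1_c7 LD2_c16 LD3_c8)) = v21333 :=
  Lrfl
theorem f795093 : Led Lsl_ff (LP (LK LD1_c7 LD2_c16 LD3_c8)) = v21333 :=
  Lgr Lrot3 (Lpr_ft (f795091 IH) (Lpn v21333))
def v7069 : LQ := Led Lsl_ft (LP (LK LD1_c3 LD2_c37 LD3_c52))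
theorem f660702 : Led Lsl_ft (LP (LK LD1_c3 LD2_c37 LD3_c52)) = v7069 :=
  Lrfl
theorem f795094 : Led Lsl_bt v7069 = v21333 :=
  Lgr Lrot35 (Lpe (f660702 IH) (Lpe (f450859 IH) (Lpr_ff (f795093 IH) (Lpn v21333))))
def v29526 : LQ := Led Lsl_ct v9136
theorem f849563 : Led Lsl_ct v9136 = v29526 :=
  Lrfl
theorem f849564 : Led Lsl_cf v9136 = v29526 :=
  Lgr Lrot11 (Lpr_ct (f849563 IH) (Lpn v29526))
def v26973 : LQ := Led Lsl_ft v7067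
theorem f836900 : Led Lsl_ft v7067 = v26973 :=
  Lrfl
theorem f660704 : Led Lsl_ff (LP (LK LD1_c3 LD2_c37 LD3_c52)) = v7069 :=
  Lgr Lrot3 (Lpr_ft (f660702 IH) (Lpn v7069))
theorem f836902 : Led Lsl_cf v7069 = v26973 :=
  Lgr Lrot108 (Lpe (f660704 IH) (Lpr_ct (f660695 IH) (Lpr_ft (f836900 IH) (Lpn v26973))))
def v32834 : LQ := Led Lsl_ft v11169
theorem f864696 : Led Lsl_ft v11169 = v32834 :=
  Lrfl
def v32832 : LQ := Led Lsl_at v11169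
theorem f864683 : Led Lsl_at v11169 = v32832 :=
  Lrfl
theorem f864684 : Led Lsl_af v11169 = v32832 :=
  Lgr Lrot0 (Lpr_at (f864683 IH) (Lpn v32832))
def v29522 : LQ := Led Lsl_at v9135
theorem f849545 : Led Lsl_at v9135 = v29522 :=
  Lrfl
theorem f849546 : Led Lsl_af v9135 = v29522 :=
  Lgr Lrot0 (Lpr_at (f849545 IH) (Lpn v29522))
theorem f864685 : Led Lsl_cf v29522 = v32832 :=
  Lgr Lrot1 (Lpe (f849546 IH) (Lpr_ct (f683322 IH) (Lpr_at (f864683 IH) (Lpn v32832))))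
def v21039 : LQ := Led Lsl_at (LP (LK LD1_c7 LD2_c10 LD3_c42))
theorem f791763 : Led Lsl_at (LP (LK LD1_c7 LD2_c10 LD3_c42)) = v21039 :=
  Lrfl
theorem f791764 : Led Lsl_af (LP (LK LD1_c7 LD2_c10 LD3_c42)) = v21039 :=
  Lgr Lrot0 (Lpr_at (f791763 IH) (Lpn v21039))
theorem f849547 : Led Lsl_df v21039 = v29522 :=
  Lgr Lrot18 (Lpe (f791764 IH) (Lpr_dt (f791769 IH) (Lpq (f819309 IH) (Lpr_at (f849545 IH) (Lpn v29522)))))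
def v21038 : LQ := Led Lsl_ft (LP (LK LD1_c7 LD2_c10 LD3_c41))
theorem f791749 : Led Lsl_ft (LP (LK LD1_c7 LD2_c10 LD3_c41)) = v21038 :=
  Lrfl
theorem f791754 : Led Lsl_ff (LP (LK LD1_c7 LD2_c10 LD3_c41)) = v21038 :=
  Lgr Lrot3 (Lpr_ft (f791749 IH) (Lpn v21038))
theorem f791748 : Led Lsl_at (LP (LK LD1_c7 LD2_c10 LD3_c41)) = (LP (LK LD1_c3 LD2_c34 LD3_c46)) :=
  Lre_a IH (LK LD1_c7 LD2_c10 LD3_c41) (LK LD1_c3 LD2_c34 LD3_c46) Lrfl Lrfl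
theorem f791760 : Led Lsl_gf (LP (LK LD1_c7 LD2_c10 LD3_c42)) = v21038 :=
  Lgr Lrot47 (Lpr_gt (f19493 IH) (Lpe (f791748 IH) (Lpr_ff (f791754 IH) (Lpn v21038))))
theorem f456794 : Led Lsl_ft (LP (LK LD1_c3 LD2_c34 LD3_c46)) = (LP (LK LD1_c7 LD2_c10 LD3_c45)) :=
  Lre_f IH (LK LD1_c3 LD2_c34 LD3_c46) (LK LD1_c7 LD2_c10 LD3_c45) Lrfl Lrfl
theorem f791756 : Led Lsl_at (LP (LK LD1_c7 LD2_c10 LD3_c45)) = v21038 :=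
  Lgr Lrot66 (Lpe (f456794 IH) (Lpe (f791748 IH) (Lpr_ff (f791754 IH) (Lpn v21038))))
def v6936 : LQ := Led Lsl_gt (LP (LK LD1_c3 LD2_c34 LD3_c46))
theorem f659559 : Led Lsl_gt (LP (LK LD1_c3 LD2_c34 LD3_c46)) = v6936 :=
  Lrfl
theorem f791762 : Led Lsl_gt v6936 = v21038 :=
  Lgr Lrot46 (Lpe (f659559 IH) (Lpr_ft (f456794 IH) (Lpr_at (f791756 IH) (Lpn v21038))))
theorem f791767 : Led Lsl_ft v6936 = v21039 :=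
  Lgr Lrot2 (Lpr_gt (f791762 IH) (Lpe (f791760 IH) (Lpr_af (f791764 IH) (Lpn v21039))))
theorem f791768 : Led Lsl_ff v6936 = v21039 :=
  Lgr Lrot3 (Lpr_ft (f791767 IH) (Lpn v21039))
theorem f10971 : Led Lsl_dt (LP (LK LD1_c3 LD2_c34 LD3_c45)) = (LP (LK LD1_c7 LD2_c10 LD3_c41)) :=
  Lre_d IH (LK LD1_c3 LD2_c34 LD3_c45) (LK LD1_c7 LD2_c10 LD3_c41) Lrfl Lrfl
theorem f791752 : Led Lsl_df K47.v6928 = v21038 :=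
  Lgr Lrot78 (Lpe (K47.f659506 IH) (Lpr_dt (f10971 IH) (Lpr_ft (f791749 IH) (Lpn v21038))))
theorem f819311 : Led Lsl_dt v9136 = v6936 :=
  Lgr Lrot57 (Lpe (f673736 IH) (Lpe (f522411 IH) (Lpr_gt (f624966 IH) (Lpq (f819304 IH) (Lpe (f679800 IH) (Lpe (f624967 IH) (Lpr_dt (K49.f519500 IH) (Lpr_cf (K47.f659501 IH) (Lpr_df (f791752 IH) (Lpe (f791762 IH) (Lpn v6936)))))))))))
theorem f819312 : Led Lsl_df v9136 = v6936 :=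
  Lgr Lrot38 (Lpr_dt (f819311 IH) (Lpn v6936))
theorem f849549 : Led Lsl_ft v9136 = v29522 :=
  Lgr Lrot54 (Lpr_df (f819312 IH) (Lpr_ff (f791768 IH) (Lpr_df (f849547 IH) (Lpn v29522))))
theorem f849550 : Led Lsl_ff v9136 = v29522 :=
  Lgr Lrot3 (Lpr_ft (f849549 IH) (Lpn v29522))
theorem f864688 : Led Lsl_ft v29526 = v32832 :=
  Lgr Lrot4 (Lpe (f849563 IH) (Lpr_ff (f849550 IH) (Lpr_cf (f864685 IH) (Lpn v32832))))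
theorem f864697 : Led Lsl_af v29526 = v32834 :=
  Lgr Lrot45 (Lpr_ft (f864688 IH) (Lpe (f864684 IH) (Lpr_ft (f864696 IH) (Lpn v32834))))
theorem f836903 : Led Lsl_ff v7067 = v26973 :=
  Lgr Lrot3 (Lpr_ft (f836900 IH) (Lpn v26973))
theorem f836876 : Led Lsl_ft v9132 = v26968 :=
  Lgr Lrot48 (Lpr_ff (f836874 IH) (Lpn v26968))
theorem f673728 : Led Lsl_bt v4054 = v9132 :=
  Lgr Lrot127 (Lpr_bf (f673727 IH) (Lpn v9132))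
theorem f683825 : Led Lsl_dt v9132 = v9132 :=
  Lgr Lrot79 (Lpe (f673728 IH) (Lpr_df (f683824 IH) (Lpr_bf (f673727 IH) (Lpn v9132))))
theorem f836878 : Led Lsl_df v26968 = v26968 :=
  Lgr Lrot78 (Lpe (f836874 IH) (Lpr_dt (f683825 IH) (Lpr_ft (f836876 IH) (Lpn v26968))))
theorem f836879 : Led Lsl_at v7067 = v26968 :=
  Lgr Lrot51 (Lpe (f683837 IH) (Lpr_af (f836872 IH) (Lpr_df (f836878 IH) (Lpn v26968))))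
theorem f836904 : Led Lsl_at v9132 = v26973 :=
  Lgr Lrot66 (Lpr_ff (f836874 IH) (Lpe (f836879 IH) (Lpr_ff (f836903 IH) (Lpn v26973))))
theorem f864700 : Led Lsl_ff v11169 = v32834 :=
  Lgr Lrot3 (Lpr_ft (f864696 IH) (Lpn v32834))
theorem f864702 : Led Lsl_bt v11173 = v32834 :=
  Lgr Lrot35 (Lpe (f683329 IH) (Lpr_bf (f683320 IH) (Lpr_ff (f864700 IH) (Lpn v32834))))
def v32827 : LQ := Led Lsl_gt v11168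
theorem f864664 : Led Lsl_gt v11168 = v32827 :=
  Lrfl
theorem f864665 : Led Lsl_gf v11173 = v32827 :=
  Lgr Lrot76 (Lpe (f683332 IH) (Lpr_ff (f683318 IH) (Lpr_gt (f864664 IH) (Lpn v32827))))
theorem f864745 : v32827 = v1199 :=
  Lefun (Lecon (f864664 IH) (f864744 IH)) (Lfl_gf (f629209 IH))
theorem f864751 : v11173 = v4054 :=
  Lefun (Lecon (Lfl_gf (f864665 IH)) (f864745 IH)) (f629207 IH)
theorem f864753 : v32834 = v9132 :=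
  Lefun (Lecon (f864702 IH) (f864751 IH)) (f673728 IH)
theorem f864758 : v29526 = v26973 :=
  Lefun (Lecon (Lfl_af (f864697 IH)) (f864753 IH)) (f836904 IH)
theorem f864766 : v9136 = v7069 :=
  Lefun (Lecon (Lfl_cf (f849564 IH)) (f864758 IH)) (Lfl_cf (f836902 IH))
theorem f864771 : v20567 = v21333 :=
  Lefun (Lecon (f787956 IH) (f864766 IH)) (f795094 IH)
theorem f685426 : Led Lsl_cf (LP (LK LD1_c7 LD2_c16 LD3_c8)) = v11665 :=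
  Lgr Lrot11 (Lpr_ct (f685425 IH) (Lpn v11665))
def v20563 : LQ := Led Lsl_at (LP (LK LD1_c6 LD2_c59 LD3_c34))
theorem f787937 : Led Lsl_at (LP (LK LD1_c6 LD2_c59 LD3_c34)) = v20563 :=
  Lrfl
theorem f787938 : Led Lsl_af (LP (LK LD1_c6 LD2_c59 LD3_c34)) = v20563 :=
  Lgr Lrot0 (Lpr_at (f787937 IH) (Lpn v20563))
theorem f85002 : Led Lsl_gt (LP (LK LD1_c3 LD2_c28 LD3_c60)) = (LP (LK LD1_c6 LD2_c59 LD3_c34)) :=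
  Lre_g IH (LK LD1_c3 LD2_c28 LD3_c60) (LK LD1_c6 LD2_c59 LD3_c34) Lrfl Lrfl
theorem f787940 : Led Lsl_ft (LP (LK LD1_c6 LD2_c59 LD3_c35)) = v20563 :=
  Lgr Lrot2 (Lpr_gt (f87040 IH) (Lpr_gt (f85002 IH) (Lpr_af (f787938 IH) (Lpn v20563))))
theorem f864800 : v11665 = v20563 :=
  (Llr Lrot108 (Lpe (f685426 IH) (Lpr_ft (f795091 IH) (Lpq (f864771 IH) (Lpe (f787954 IH) (Lpr_ft (f787940 IH) (Lpn v20563))))))).symm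
theorem f455505 : Led Lsl_ct (LP (LK LD1_c6 LD2_c59 LD3_c34)) = (LP (LK LD1_c13 LD2_c16 LD3_c7)) :=
  Lre_c IH (LK LD1_c6 LD2_c59 LD3_c34) (LK LD1_c13 LD2_c16 LD3_c7) Lrfl Lrfl
theorem f864806 : v21331 = (LP (LK LD1_c13 LD2_c16 LD3_c7)) :=
  (Llr Lrot68 (Lpe (f795086 IH) (Lpr_ct (f685425 IH) (Lpqs (f864800 IH) (Lpe (f787938 IH) (Lpr_ct (f455505 IH) (Lpn (LP (LK LD1_c13 LD2_c16 LD3_c7))))))))).symm
theorem f864807 : Led Lsl_at (LP (LK LD1_c13 LD2_c16 LD3_c7)) = (LP (LK LD1_c7 LD2_c16 LD3_c8)) :=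
  Leop (Lpr_af (f795086 IH) (Lpqs (f864806 IH) (Lpn (LP (LK LD1_c13 LD2_c16 LD3_c7)))))
theorem seed_2004 : LEOK LG_a (LK LD1_c13 LD2_c16 LD3_c7) :=
  Leoe_a (LK LD1_c13 LD2_c16 LD3_c7) (f864807 IH)
def v32901 : LQ := Led Lsl_gf K61.v11197
theorem f865038 : Led Lsl_gf K61.v11197 = v32901 :=
  Lrfl
def v10468 : LQ := Led Lsl_at K49.v3345
def v31571 : LQ := Led Lsl_ct v10468
theorem f859224 : Led Lsl_ct v10468 = v31571 :=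
  Lrfl
theorem f680471 : Led Lsl_at K49.v3345 = v10468 :=
  Lrfl
theorem f680472 : Led Lsl_af K49.v3345 = v10468 :=
  Lgr Lrot0 (Lpr_at (f680471 IH) (Lpn v10468))
theorem f857952 : Led Lsl_ff v10468 = v31263 :=
  Lgr Lrot52 (Lpe (f680472 IH) (Lpr_gf (f680470 IH) (Lpqs (f834217 IH) (Lpr_gf (f857950 IH) (Lpn v31263)))))
theorem f857953 : Led Lsl_bt v10468 = v31249 :=
  Lgr Lrot35 (Lpr_ff (f857952 IH) (Lpe (f857949 IH) (Lpr_ff (f857872 IH) (Lpn v31249))))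
def v27799 : LQ := Led Lsl_at v7765
theorem f841417 : Led Lsl_at v7765 = v27799 :=
  Lrfl
theorem f668306 : Led Lsl_ft (LP (LK LD1_c6 LD2_c52 LD3_c40)) = v7765 :=
  Lgr Lrot48 (Lpr_ff (f668303 IH) (Lpn v7765))
def v20236 : LQ := Led Lsl_gt (LP (LK LD1_c6 LD2_c52 LD3_c40))
theorem f785832 : Led Lsl_gt (LP (LK LD1_c6 LD2_c52 LD3_c40)) = v20236 :=
  Lrfl
theorem f841421 : Led Lsl_gt v20236 = v27799 :=
  Lgr Lrot46 (Lpe (f785832 IH) (Lpr_ft (f668306 IH) (Lpr_at (f841417 IH) (Lpn v27799))))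
def v9552 : LQ := Led Lsl_at K61.v2777
theorem f676643 : Led Lsl_at K61.v2777 = v9552 :=
  Lrfl
theorem f676644 : Led Lsl_af K61.v2777 = v9552 :=
  Lgr Lrot0 (Lpr_at (f676643 IH) (Lpn v9552))
theorem f841419 : Led Lsl_df v9552 = v27799 :=
  Lgr Lrot18 (Lpe (f676644 IH) (Lpr_dt (f668304 IH) (Lpr_at (f841417 IH) (Lpn v27799))))
theorem f676646 : Led Lsl_ff K61.v6659 = v9552 :=
  Lgr Lrot30 (Lpe (K61.f657513 IH) (Lpr_ft (f535560 IH) (Lpr_at (f676643 IH) (Lpn v9552))))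
theorem f676648 : Led Lsl_ct K61.v3889 = v9552 :=
  Lgr Lrot40 (Lpe (K61.f627755 IH) (Lpr_cf (K61.f657514 IH) (Lpr_ff (f676646 IH) (Lpn v9552))))
def v11764 : LQ := Led Lsl_gt v3882
theorem f685788 : Led Lsl_gt v3882 = v11764 :=
  Lrfl
theorem f841422 : Led Lsl_df v20236 = v11764 :=
  Lgr Lrot153 (Lpr_gt (f841421 IH) (Lpe (f841419 IH) (Lpe (f676648 IH) (Lpe (f627758 IH) (Lpr_gf (f629208 IH) (Lpr_df (f683824 IH) (Lpe (f629207 IH) (Lpr_cf (f627723 IH) (Lpr_gt (f685788 IH) (Lpn v11764))))))))))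
theorem f841423 : Led Lsl_dt v20236 = v11764 :=
  Lgr Lrot42 (Lpr_df (f841422 IH) (Lpn v11764))
theorem f847621 : Led Lsl_ff v8874 = v29085 :=
  Lgr Lrot3 (Lpr_ft (f847620 IH) (Lpn v29085))
theorem f857882 : Led Lsl_cf v29085 = v31251 :=
  Lgr Lrot108 (Lpe (f847621 IH) (Lpr_ct (f679796 IH) (Lpr_ft (f857879 IH) (Lpn v31251))))
theorem f857885 : Led Lsl_bt v10316 = v31251 :=
  Lgr Lrot35 (Lpe (f679803 IH) (Lpr_bf (f679794 IH) (Lpr_ff (f857883 IH) (Lpn v31251))))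
def v10439 : LQ := Led Lsl_bt K49.v3339
theorem f680387 : Led Lsl_bt K49.v3339 = v10439 :=
  Lrfl
theorem f680388 : Led Lsl_bf K49.v3339 = v10439 :=
  Lgr Lrot24 (Lpr_bt (f680387 IH) (Lpn v10439))
theorem f680389 : Led Lsl_ff K49.v3345 = v10439 :=
  Lgr Lrot25 (Lpe (K49.f625234 IH) (Lpr_ft (K49.f625219 IH) (Lpr_bt (f680387 IH) (Lpn v10439))))
theorem f680390 : Led Lsl_ft K49.v3345 = v10439 :=
  Lgr Lrot48 (Lpr_ff (f680389 IH) (Lpn v10439))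
theorem f857955 : v10439 = v10317 :=
  (Llr Lrot101 (Lpe (f680390 IH) (Lpr_af (f680472 IH) (Lpr_ff (f857952 IH) (Lpe (f857945 IH) (Lpn v10317)))))).symm
theorem f857956 : K49.v3339 = v3282 :=
  Lefun (Lecon (Lfl_bf (f680388 IH)) (f857955 IH)) (Lfl_bf (f679808 IH))
theorem f857960 : K49.v731 = v10316 :=
  Lefun (Lecon (Lfl_af (K49.f625218 IH)) (f857956 IH)) (f679806 IH)
theorem f857967 : v31251 = v3340 :=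
  Lefun (Lecon (f857885 IH) (f857960 IH).symm) (f625221 IH)
theorem f857976 : v29085 = v10446 :=
  Lefun (Lecon (Lfl_cf (f857882 IH)) (f857967 IH)) (f680411 IH)
def v27798 : LQ := Led Lsl_gf v7765
theorem f841413 : Led Lsl_gf v7765 = v27798 :=
  Lrfl
theorem f668302 : Led Lsl_df K61.v2777 = v7765 :=
  Lgr Lrot12 (Lpe (K61.f535556 IH) (Lpr_dt (K5.f106038 IH) (Lpr_bt (f668300 IH) (Lpn v7765))))
theorem f685797 : Led Lsl_gf v8874 = v11765 :=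
  Lgr Lrot47 (Lpe (f672584 IH) (Lpr_af (f672586 IH) (Lpr_ff (f685793 IH) (Lpn v11765))))
theorem f841414 : Led Lsl_dt v8874 = v27798 :=
  Lgr Lrot57 (Lpr_gf (f685797 IH) (Lpe (f685795 IH) (Lpe (f629218 IH) (Lpq (f819316 IH) (Lpe (f683338 IH) (Lpe (f626481 IH) (Lpr_dt (f491506 IH) (Lpr_cf (K61.f535557 IH) (Lpr_df (f668302 IH) (Lpr_gf (f841413 IH) (Lpn v27798)))))))))))
theorem f841415 : Led Lsl_df v8874 = v27798 :=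
  Lgr Lrot38 (Lpr_dt (f841414 IH) (Lpn v27798))
def v20237 : LQ := Led Lsl_gf (LP (LK LD1_c6 LD2_c52 LD3_c40))
theorem f785833 : Led Lsl_gf (LP (LK LD1_c6 LD2_c52 LD3_c40)) = v20237 :=
  Lrfl
theorem f493915 : Led Lsl_df (LP (LK LD1_c1 LD2_c39 LD3_c8)) = v1199 :=
  Lgr Lrot12 (Lpr_bt (K61.f143228 IH) (Lpr_dt (f452147 IH) (Lpr_bt (f493913 IH) (Lpn v1199))))
theorem f629219 : Led Lsl_gt v3631 = v4055 :=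
  Lgr Lrot5 (Lpr_ft (f629216 IH) (Lpe (f629211 IH) (Lpr_gf (f629209 IH) (Lpn v4055))))
theorem f785834 : Led Lsl_dt v10446 = v20237 :=
  Lgr Lrot57 (Lpe (f680413 IH) (Lpe (f672588 IH) (Lpr_gt (f629219 IH) (Lpr_dt (f688121 IH) (Lpe (f629209 IH) (Lpe (f493915 IH) (Lpe (K61.f106920 IH) (Lpe (f450756 IH) (Lpr_gf (f785833 IH) (Lpn v20237))))))))))
theorem f857977 : Led Lsl_ff v27798 = v20237 :=
  Lgr Lrot19 (Lpe (f841415 IH) (Lpr_ft (f847620 IH) (Lpqs (f857976 IH) (Lpr_dt (f785834 IH) (Lpn v20237)))))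
theorem f857979 : Led Lsl_at v27798 = v20236 :=
  Lgr Lrot26 (Lpr_ff (f857977 IH) (Lpe (f785833 IH) (Lpr_gt (f785832 IH) (Lpn v20236))))
theorem f857981 : v29088 = v11764 :=
  (Llr Lrot117 (Lpe (f847627 IH) (Lpr_dt (f841414 IH) (Lpr_at (f857979 IH) (Lpr_dt (f841423 IH) (Lpn v11764)))))).symm
theorem f857986 : Led Lsl_gt v11389 = v31249 :=
  Lgr Lrot49 (Lpr_df (f834251 IH) (Lpqs (K65.f815460 IH) (Lpe (K65.f792081 IH) (Lpqs (K61.f792105 IH) (Lpe (K61.f673394 IH) (Lpe (K61.f657509 IH) (Lpr_dt (f493919 IH) (Lpr_gt (f785832 IH) (Lpr_dt (f841423 IH) (Lpq (f857981 IH) (Lpr_cf (f857868 IH) (Lpr_df (f857869 IH) (Lpn v31249)))))))))))))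
theorem f857987 : Led Lsl_gf v10444 = v31249 :=
  Lgr Lrot76 (Lpr_af (f815462 IH) (Lpe (f834271 IH) (Lpr_gt (f857986 IH) (Lpn v31249))))
def v11170 : LQ := Led Lsl_ct v3629
theorem f683323 : Led Lsl_ct v3629 = v11170 :=
  Lrfl
theorem f859068 : Led Lsl_gf v11170 = v31530 :=
  Lgr Lrot126 (Lpe (f683323 IH) (Lpr_bt (f683319 IH) (Lpe (f819301 IH) (Lpe (K64.f686315 IH) (Lpr_gt (K61.f680442 IH) (Lpe (K61.f625235 IH) (Lpr_bt (K49.f625233 IH) (Lpr_gt (f680469 IH) (Lpe (f686319 IH) (Lpr_ct (f859064 IH) (Lpn v31530)))))))))))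
def v11897 : LQ := Led Lsl_ct K64.v3928
theorem f686321 : Led Lsl_ct K64.v3928 = v11897 :=
  Lrfl
theorem f859227 : Led Lsl_gt v11897 = v31571 :=
  Lgr Lrot65 (Lpe (f686321 IH) (Lpr_bt (K64.f686313 IH) (Lpr_gf (f819301 IH) (Lpe (f683319 IH) (Lpr_ct (f683323 IH) (Lpr_gf (f859068 IH) (Lpe (f859064 IH) (Lpr_gf (f857987 IH) (Lpe (f857953 IH) (Lpr_ct (f859224 IH) (Lpn v31571)))))))))))
theorem f686322 : Led Lsl_cf K64.v3928 = v11897 :=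
  Lgr Lrot11 (Lpr_ct (f686321 IH) (Lpn v11897))
theorem f834215 : Led Lsl_ff v11897 = v26534 :=
  Lgr Lrot23 (Lpe (f686322 IH) (Lpq (K64.f815469 IH) (Lpr_ft (K64.f815446 IH) (Lpr_ct (f834212 IH) (Lpn v26534)))))
theorem f834218 : Led Lsl_ft v11897 = v26534 :=
  Lgr Lrot48 (Lpr_ff (f834215 IH) (Lpn v26534))
theorem f834213 : Led Lsl_af v11892 = v26534 :=
  Lgr Lrot68 (Lpe (f686304 IH) (Lpr_at (K64.f686295 IH) (Lpq (K64.f815471 IH) (Lpr_ct (f834212 IH) (Lpn v26534)))))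
theorem f859229 : Led Lsl_gf v11892 = v31571 :=
  Lgr Lrot76 (Lpr_af (f834213 IH) (Lpe (f834218 IH) (Lpr_gt (f859227 IH) (Lpn v31571))))
theorem f857880 : Led Lsl_af v27818 = v31251 :=
  Lgr Lrot45 (Lpr_ft (f857871 IH) (Lpe (f857867 IH) (Lpr_ft (f857879 IH) (Lpn v31251))))
def v10445 : LQ := Led Lsl_at v3340
theorem f680409 : Led Lsl_at v3340 = v10445 :=
  Lrfl
theorem f857975 : v27818 = v10445 :=
  Lefun (Lecon (Lfl_af (f857880 IH)) (f857967 IH)) (f680409 IH)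
theorem f680477 : Led Lsl_df K49.v3345 = K49.v10470 :=
  Lgr Lrot38 (Lpr_dt (K49.f680475 IH) (Lpn K49.v10470))
theorem f683838 : Led Lsl_df v10468 = v10468 :=
  Lgr Lrot18 (Lpe (f680472 IH) (Lpq (K49.f683809 IH) (Lpe (f680477 IH) (Lpr_at (f680471 IH) (Lpn v10468)))))
theorem f857954 : Led Lsl_ft v10468 = v31263 :=
  Lgr Lrot54 (Lpr_df (f683838 IH) (Lpr_ff (f857952 IH) (Lpr_df (f857948 IH) (Lpn v31263))))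
theorem f857988 : Led Lsl_bt v31249 = v10468 :=
  Lgr Lrot35 (Lpe (f857871 IH) (Lpqs (f857975 IH) (Lpq (f857975 IH) (Lpr_bf (f857947 IH) (Lpe (f857954 IH) (Lpn v10468))))))
theorem f452150 : Led Lsl_gf v324 = K49.v161 :=
  Lgr Lrot76 (Lpr_af (f452148 IH) (Lpe (f452149 IH) (Lpr_gt (f450827 IH) (Lpn K49.v161))))
theorem f857989 : Led Lsl_gf v11384 = v10468 :=
  Lgr Lrot181 (Lpe (f684333 IH) (Lpe (f673303 IH) (Lpe (f519483 IH) (Lpe (K49.f490920 IH) (Lpe (f452150 IH) (Lpr_bf (f493914 IH) (Lpr_ct (f627725 IH) (Lpr_gt (f685788 IH) (Lpq (f857981 IH) (Lpr_cf (f857868 IH) (Lpr_bt (f857988 IH) (Lpn v10468))))))))))))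
theorem f834288 : Led Lsl_af v11384 = v10466 :=
  Lgr Lrot0 (Lpr_at (f834287 IH) (Lpn v10466))
theorem f835950 : Led Lsl_ff v10466 = v26827 :=
  Lgr Lrot3 (Lpr_ft (f835949 IH) (Lpn v26827))
theorem f857990 : Led Lsl_gt v26827 = v10468 :=
  Lgr Lrot5 (Lpe (f835950 IH) (Lpe (f834288 IH) (Lpr_gf (f857989 IH) (Lpn v10468))))
theorem f835945 : Led Lsl_df K63.v6972 = v26827 :=
  Lgr Lrot38 (Lpr_dt (f835942 IH) (Lpn v26827))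
theorem f792087 : Led Lsl_gt K63.v6972 = K61.v21092 :=
  Lgr Lrot46 (Lpe (K63.f659734 IH) (Lpr_ft (K61.f659747 IH) (Lpr_at (K61.f792085 IH) (Lpn K61.v21092))))
theorem f865041 : Led Lsl_ct K61.v21092 = v32901 :=
  Lgr Lrot152 (Lpe (f792087 IH) (Lpr_df (f835945 IH) (Lpr_gt (f857990 IH) (Lpr_ct (f859224 IH) (Lpe (f859229 IH) (Lpe (f686304 IH) (Lpq (K64.f815472 IH) (Lpe (K64.f683435 IH) (Lpr_cf (K64.f683432 IH) (Lpr_gf (f865038 IH) (Lpn v32901)))))))))))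
theorem f865044 : Led Lsl_cf K61.v21092 = v32901 :=
  Lgr Lrot11 (Lpr_ct (f865041 IH) (Lpn v32901))
theorem f676750 : Led Lsl_bt (LP (LK LD1_c6 LD2_c58 LD3_c3)) = (LP (LK LD1_c13 LD2_c13 LD3_c47)) :=
  Lre_b IH (LK LD1_c6 LD2_c58 LD3_c3) (LK LD1_c13 LD2_c13 LD3_c47) Lrfl Lrfl
def v26417 : LQ := Led Lsl_bt K61.v6657
theorem f833575 : Led Lsl_bt K61.v6657 = v26417 :=
  Lrfl
theorem f833576 : Led Lsl_bf K61.v6657 = v26417 :=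
  Lgr Lrot24 (Lpr_bt (f833575 IH) (Lpn v26417))
theorem f676647 : Led Lsl_gt K61.v6657 = v9552 :=
  Lgr Lrot46 (Lpe (K61.f657508 IH) (Lpr_ft (f535560 IH) (Lpr_at (f676643 IH) (Lpn v9552))))
theorem f676645 : Led Lsl_cf K61.v3889 = v9552 :=
  Lgr Lrot1 (Lpe (K61.f627750 IH) (Lpr_ct (K61.f535559 IH) (Lpr_at (f676643 IH) (Lpn v9552))))
theorem f627756 : Led Lsl_gf K61.v2256 = K61.v3889 :=
  Lgr Lrot47 (Lpe (K61.f511293 IH) (Lpr_af (K61.f511295 IH) (Lpr_ff (K61.f627753 IH) (Lpn K61.v3889))))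
def v21516 : LQ := Led Lsl_gt (LP (LK LD1_c7 LD2_c20 LD3_c52))
theorem f797637 : Led Lsl_gt (LP (LK LD1_c7 LD2_c20 LD3_c52)) = v21516 :=
  Lrfl
theorem f131190 : Led Lsl_bt (LP (LK LD1_c3 LD2_c40 LD3_c21)) = (LP (LK LD1_c7 LD2_c20 LD3_c52)) :=
  Lre_b IH (LK LD1_c3 LD2_c40 LD3_c21) (LK LD1_c7 LD2_c20 LD3_c52) Lrfl Lrfl
theorem f797639 : Led Lsl_bt K64.v8868 = v21516 :=
  Lgr Lrot92 (Lpe (K64.f672562 IH) (Lpe (K61.f511293 IH) (Lpe (K61.f106920 IH) (Lpr_bt (K61.f106919 IH) (Lpr_gt (K3.f12732 IH) (Lpr_ct (K3.f106888 IH) (Lpr_gt (K4.f115501 IH) (Lpe (K5.f131191 IH) (Lpr_bt (f131190 IH) (Lpr_gt (f797637 IH) (Lpn v21516)))))))))))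
theorem f131094 : Led Lsl_bt (LP (LK LD1_c7 LD2_c20 LD3_c52)) = (LP (LK LD1_c3 LD2_c40 LD3_c21)) :=
  Lre_b IH (LK LD1_c7 LD2_c20 LD3_c52) (LK LD1_c3 LD2_c40 LD3_c21) Lrfl Lrfl
theorem f114091 : Led Lsl_bt (LP (LK LD1_c3 LD2_c31 LD3_c7)) = (LP (LK LD1_c7 LD2_c4 LD3_c7)) :=
  Lre_b IH (LK LD1_c3 LD2_c31 LD3_c7) (LK LD1_c7 LD2_c4 LD3_c7) Lrfl Lrfl
theorem f131193 : Led Lsl_cf (LP (LK LD1_c7 LD2_c20 LD3_c52)) = (LP (LK LD1_c7 LD2_c4 LD3_c7)) :=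
  Lgr Lrot97 (Lpr_bt (f131094 IH) (Lpr_ct (K5.f131191 IH) (Lpe (K4.f106855 IH) (Lpe (K3.f106713 IH) (Lpr_bt (f114091 IH) (Lpn (LP (LK LD1_c7 LD2_c4 LD3_c7))))))))
theorem f109133 : Led Lsl_bt (LP (LK LD1_c1 LD2_c53 LD3_c30)) = (LP (LK LD1_c3 LD2_c53 LD3_c44)) :=
  Lre_b IH (LK LD1_c1 LD2_c53 LD3_c30) (LK LD1_c3 LD2_c53 LD3_c44) Lrfl Lrfl
theorem f86619 : Led Lsl_bt (LP (LK LD1_c7 LD2_c4 LD3_c7)) = (LP (LK LD1_c3 LD2_c31 LD3_c7)) :=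
  Lre_b IH (LK LD1_c7 LD2_c4 LD3_c7) (LK LD1_c3 LD2_c31 LD3_c7) Lrfl Lrfl
theorem f114097 : Led Lsl_ft (LP (LK LD1_c3 LD2_c53 LD3_c44)) = (LP (LK LD1_c7 LD2_c4 LD3_c7)) :=
  Lgr Lrot75 (Lpe (f109133 IH) (Lpr_ff (K4.f114095 IH) (Lpe (f86619 IH) (Lpn (LP (LK LD1_c7 LD2_c4 LD3_c7))))))
theorem f85686 : Led Lsl_bt (LP (LK LD1_c3 LD2_c53 LD3_c44)) = (LP (LK LD1_c1 LD2_c53 LD3_c30)) :=
  Lre_b IH (LK LD1_c3 LD2_c53 LD3_c44) (LK LD1_c1 LD2_c53 LD3_c30) Lrfl Lrfl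
theorem f131061 : Led Lsl_bt (LP (LK LD1_c3 LD2_c42 LD3_c49)) = (LP (LK LD1_c7 LD2_c26 LD3_c17)) :=
  Lre_b IH (LK LD1_c3 LD2_c42 LD3_c49) (LK LD1_c7 LD2_c26 LD3_c17) Lrfl Lrfl
theorem f131062 : Led Lsl_cf (LP (LK LD1_c3 LD2_c53 LD3_c44)) = (LP (LK LD1_c7 LD2_c26 LD3_c17)) :=
  Lgr Lrot97 (Lpr_bt (f85686 IH) (Lpe (K4.f109134 IH) (Lpe (K3.f87530 IH) (Lpr_ct (K5.f131059 IH) (Lpr_bt (f131061 IH) (Lpn (LP (LK LD1_c7 LD2_c26 LD3_c17))))))))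
theorem f439765 : Led Lsl_ft (LP (LK LD1_c7 LD2_c20 LD3_c52)) = (LP (LK LD1_c7 LD2_c26 LD3_c17)) :=
  Lgr Lrot4 (Lpr_cf (f131193 IH) (Lpe (f114097 IH) (Lpr_cf (f131062 IH) (Lpn (LP (LK LD1_c7 LD2_c26 LD3_c17))))))
theorem f131180 : Led Lsl_at (LP (LK LD1_c7 LD2_c26 LD3_c17)) = (LP (LK LD1_c14 LD2_c3 LD3_c36)) :=
  Lre_a IH (LK LD1_c7 LD2_c26 LD3_c17) (LK LD1_c14 LD2_c3 LD3_c36) Lrfl Lrfl
theorem f797638 : Led Lsl_gf (LP (LK LD1_c14 LD2_c3 LD3_c36)) = v21516 :=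
  Lgr Lrot76 (Lpe (f131180 IH) (Lpe (f439765 IH) (Lpr_gt (f797637 IH) (Lpn v21516))))
theorem f131104 : Led Lsl_bt (LP (LK LD1_c3 LD2_c40 LD3_c20)) = (LP (LK LD1_c7 LD2_c20 LD3_c51)) :=
  Lre_b IH (LK LD1_c3 LD2_c40 LD3_c20) (LK LD1_c7 LD2_c20 LD3_c51) Lrfl Lrfl
theorem f131105 : Led Lsl_at (LP (LK LD1_c7 LD2_c20 LD3_c51)) = (LP (LK LD1_c13 LD2_c53 LD3_c41)) :=
  Lre_a IH (LK LD1_c7 LD2_c20 LD3_c51) (LK LD1_c13 LD2_c53 LD3_c41) Lrfl Lrfl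
theorem f131069 : Led Lsl_bt (LP (LK LD1_c7 LD2_c26 LD3_c17)) = (LP (LK LD1_c3 LD2_c42 LD3_c49)) :=
  Lre_b IH (LK LD1_c7 LD2_c26 LD3_c17) (LK LD1_c3 LD2_c42 LD3_c49) Lrfl Lrfl
theorem f131106 : Led Lsl_at (LP (LK LD1_c14 LD2_c3 LD3_c36)) = (LP (LK LD1_c7 LD2_c26 LD3_c17)) :=
  Lre_a IH (LK LD1_c14 LD2_c3 LD3_c36) (LK LD1_c7 LD2_c26 LD3_c17) Lrfl Lrfl
theorem f131107 : Led Lsl_bt (LP (LK LD1_c13 LD2_c53 LD3_c41)) = (LP (LK LD1_c14 LD2_c3 LD3_c36)) :=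
  Lgr Lrot62 (Lpe (f131105 IH) (Lpe (f131104 IH) (Lpr_af (K5.f131100 IH) (Lpe (f131069 IH) (Lpe (f131106 IH) (Lpn (LP (LK LD1_c14 LD2_c3 LD3_c36))))))))
theorem f124271 : Led Lsl_bt (LP (LK LD1_c7 LD2_c26 LD3_c19)) = (LP (LK LD1_c3 LD2_c42 LD3_c50)) :=
  Lre_b IH (LK LD1_c7 LD2_c26 LD3_c19) (LK LD1_c3 LD2_c42 LD3_c50) Lrfl Lrfl
theorem f131137 : Led Lsl_ct (LP (LK LD1_c6 LD2_c57 LD3_c59)) = (LP (LK LD1_c7 LD2_c26 LD3_c19)) :=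
  Lgr Lrot83 (Lpe (K65.f19325 IH) (Lpe (K4.f19321 IH) (Lpe (K4.f19328 IH) (Lpr_cf (K7.f131135 IH) (Lpe (f124271 IH) (Lpn (LP (LK LD1_c7 LD2_c26 LD3_c19))))))))
theorem f115381 : Led Lsl_bt (LP (LK LD1_c13 LD2_c13 LD3_c35)) = (LP (LK LD1_c6 LD2_c57 LD3_c60)) :=
  Lre_b IH (LK LD1_c13 LD2_c13 LD3_c35) (LK LD1_c6 LD2_c57 LD3_c60) Lrfl Lrfl
theorem f115397 : Led Lsl_bt (LP (LK LD1_c7 LD2_c5 LD3_c15)) = (LP (LK LD1_c13 LD2_c26 LD3_c5)) :=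
  Lre_b IH (LK LD1_c7 LD2_c5 LD3_c15) (LK LD1_c13 LD2_c26 LD3_c5) Lrfl Lrfl
theorem f115415 : Led Lsl_ff (LP (LK LD1_c13 LD2_c13 LD3_c35)) = (LP (LK LD1_c13 LD2_c26 LD3_c5)) :=
  Lgr Lrot25 (Lpr_bt (f115381 IH) (Lpr_ft (K33.f115413 IH) (Lpr_bt (f115397 IH) (Lpn (LP (LK LD1_c13 LD2_c26 LD3_c5))))))
theorem f115448 : Led Lsl_dt (LP (LK LD1_c13 LD2_c13 LD3_c35)) = (LP (LK LD1_c6 LD2_c57 LD3_c59)) :=
  Lre_d IH (LK LD1_c13 LD2_c13 LD3_c35) (LK LD1_c6 LD2_c57 LD3_c59) Lrfl Lrfl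
theorem f115449 : Led Lsl_dt (LP (LK LD1_c7 LD2_c5 LD3_c14)) = (LP (LK LD1_c13 LD2_c26 LD3_c5)) :=
  Lre_d IH (LK LD1_c7 LD2_c5 LD3_c14) (LK LD1_c13 LD2_c26 LD3_c5) Lrfl Lrfl
theorem f115450 : Led Lsl_ft (LP (LK LD1_c6 LD2_c57 LD3_c59)) = (LP (LK LD1_c7 LD2_c5 LD3_c14)) :=
  Lgr Lrot54 (Lpe (f115448 IH) (Lpr_ff (f115415 IH) (Lpe (f115449 IH) (Lpn (LP (LK LD1_c7 LD2_c5 LD3_c14))))))
theorem f115459 : Led Lsl_ff (LP (LK LD1_c6 LD2_c57 LD3_c59)) = (LP (LK LD1_c7 LD2_c5 LD3_c14)) :=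
  Lgr Lrot3 (Lpr_ft (f115450 IH) (Lpn (LP (LK LD1_c7 LD2_c5 LD3_c14))))
theorem f131111 : Led Lsl_bt (LP (LK LD1_c7 LD2_c20 LD3_c51)) = (LP (LK LD1_c3 LD2_c40 LD3_c20)) :=
  Lre_b IH (LK LD1_c7 LD2_c20 LD3_c51) (LK LD1_c3 LD2_c40 LD3_c20) Lrfl Lrfl
theorem f131132 : Led Lsl_bt (LP (LK LD1_c3 LD2_c42 LD3_c50)) = (LP (LK LD1_c7 LD2_c26 LD3_c19)) :=
  Lre_b IH (LK LD1_c3 LD2_c42 LD3_c50) (LK LD1_c7 LD2_c26 LD3_c19) Lrfl Lrfl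
theorem f131133 : Led Lsl_ff (LP (LK LD1_c7 LD2_c20 LD3_c51)) = (LP (LK LD1_c7 LD2_c26 LD3_c19)) :=
  Lgr Lrot25 (Lpr_bt (f131111 IH) (Lpr_ft (K5.f131128 IH) (Lpr_bt (f131132 IH) (Lpn (LP (LK LD1_c7 LD2_c26 LD3_c19))))))
theorem f131148 : Led Lsl_cf (LP (LK LD1_c7 LD2_c5 LD3_c14)) = (LP (LK LD1_c7 LD2_c20 LD3_c51)) :=
  Lgr Lrot108 (Lpe (f115459 IH) (Lpr_ct (f131137 IH) (Lpe (f131133 IH) (Lpn (LP (LK LD1_c7 LD2_c20 LD3_c51))))))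
theorem f115456 : Led Lsl_at (LP (LK LD1_c7 LD2_c5 LD3_c14)) = (LP (LK LD1_c13 LD2_c26 LD3_c4)) :=
  Lre_a IH (LK LD1_c7 LD2_c5 LD3_c14) (LK LD1_c13 LD2_c26 LD3_c4) Lrfl Lrfl
theorem f131161 : Led Lsl_at (LP (LK LD1_c13 LD2_c53 LD3_c41)) = (LP (LK LD1_c7 LD2_c20 LD3_c51)) :=
  Lre_a IH (LK LD1_c13 LD2_c53 LD3_c41) (LK LD1_c7 LD2_c20 LD3_c51) Lrfl Lrfl
theorem f131162 : Led Lsl_ct (LP (LK LD1_c13 LD2_c26 LD3_c4)) = (LP (LK LD1_c13 LD2_c53 LD3_c41)) :=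
  Lgr Lrot111 (Lpe (f115456 IH) (Lpr_cf (f131148 IH) (Lpe (f131161 IH) (Lpn (LP (LK LD1_c13 LD2_c53 LD3_c41))))))
theorem f131168 : Led Lsl_cf (LP (LK LD1_c13 LD2_c26 LD3_c4)) = (LP (LK LD1_c13 LD2_c53 LD3_c41)) :=
  Lgr Lrot11 (Lpr_ct (f131162 IH) (Lpn (LP (LK LD1_c13 LD2_c53 LD3_c41))))
theorem f115337 : Led Lsl_at (LP (LK LD1_c13 LD2_c13 LD3_c34)) = (LP (LK LD1_c6 LD2_c57 LD3_c59)) :=
  Lre_a IH (LK LD1_c13 LD2_c13 LD3_c34) (LK LD1_c6 LD2_c57 LD3_c59) Lrfl Lrfl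
theorem f115457 : Led Lsl_ff (LP (LK LD1_c13 LD2_c13 LD3_c34)) = (LP (LK LD1_c13 LD2_c26 LD3_c4)) :=
  Lgr Lrot30 (Lpr_at (f115337 IH) (Lpr_ft (f115450 IH) (Lpr_at (f115456 IH) (Lpn (LP (LK LD1_c13 LD2_c26 LD3_c4))))))
theorem f115480 : Led Lsl_gt (LP (LK LD1_c13 LD2_c13 LD3_c33)) = (LP (LK LD1_c6 LD2_c57 LD3_c59)) :=
  Lre_g IH (LK LD1_c13 LD2_c13 LD3_c33) (LK LD1_c6 LD2_c57 LD3_c59) Lrfl Lrfl
theorem f115481 : Led Lsl_gf (LP (LK LD1_c13 LD2_c13 LD3_c33)) = (LP (LK LD1_c13 LD2_c26 LD3_c4)) :=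
  Lgr Lrot47 (Lpr_gt (f115480 IH) (Lpe (f115337 IH) (Lpr_ff (f115457 IH) (Lpn (LP (LK LD1_c13 LD2_c26 LD3_c4))))))
theorem f833577 : Led Lsl_cf (LP (LK LD1_c13 LD2_c13 LD3_c33)) = v26417 :=
  Lgr Lrot58 (Lpr_gf (f115481 IH) (Lpr_cf (f131168 IH) (Lpr_bt (f131107 IH) (Lpr_gf (f797638 IH) (Lpe (f797639 IH) (Lpe (K64.f672562 IH) (Lpr_gf (f627756 IH) (Lpr_cf (f676645 IH) (Lpe (f676647 IH) (Lpr_bf (f833576 IH) (Lpn v26417)))))))))))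
theorem f833578 : Led Lsl_ct (LP (LK LD1_c13 LD2_c13 LD3_c33)) = v26417 :=
  Lgr Lrot59 (Lpr_cf (f833577 IH) (Lpn v26417))
theorem f865043 : Led Lsl_bf (LP (LK LD1_c13 LD2_c13 LD3_c33)) = v32901 :=
  Lgr Lrot90 (Lpr_ct (f833578 IH) (Lpe (f833576 IH) (Lpr_ct (K61.f792094 IH) (Lpr_bt (K61.f792082 IH) (Lpr_ct (f865041 IH) (Lpn v32901))))))
theorem f92258 : Led Lsl_bt (LP (LK LD1_c3 LD2_c24 LD3_c22)) = (LP (LK LD1_c6 LD2_c51 LD3_c25)) :=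
  Lre_b IH (LK LD1_c3 LD2_c24 LD3_c22) (LK LD1_c6 LD2_c51 LD3_c25) Lrfl Lrfl
theorem f115282 : Led Lsl_at (LP (LK LD1_c6 LD2_c51 LD3_c25)) = (LP (LK LD1_c13 LD2_c2 LD3_c37)) :=
  Lre_a IH (LK LD1_c6 LD2_c51 LD3_c25) (LK LD1_c13 LD2_c2 LD3_c37) Lrfl Lrfl
theorem f115121 : Led Lsl_bt (LP (LK LD1_c7 LD2_c5 LD3_c14)) = (LP (LK LD1_c3 LD2_c31 LD3_c52)) :=
  Lre_b IH (LK LD1_c7 LD2_c5 LD3_c14) (LK LD1_c3 LD2_c31 LD3_c52) Lrfl Lrfl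
theorem f115390 : Led Lsl_at (LP (LK LD1_c13 LD2_c26 LD3_c4)) = (LP (LK LD1_c7 LD2_c5 LD3_c14)) :=
  Lre_a IH (LK LD1_c13 LD2_c26 LD3_c4) (LK LD1_c7 LD2_c5 LD3_c14) Lrfl Lrfl
theorem f115391 : Led Lsl_bt (LP (LK LD1_c13 LD2_c2 LD3_c37)) = (LP (LK LD1_c13 LD2_c26 LD3_c4)) :=
  Lgr Lrot62 (Lpe (f115282 IH) (Lpe (f92258 IH) (Lpr_af (K33.f115386 IH) (Lpe (f115121 IH) (Lpe (f115390 IH) (Lpn (LP (LK LD1_c13 LD2_c26 LD3_c4))))))))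
theorem f115260 : Led Lsl_bt (LP (LK LD1_c6 LD2_c51 LD3_c26)) = (LP (LK LD1_c13 LD2_c2 LD3_c38)) :=
  Lre_b IH (LK LD1_c6 LD2_c51 LD3_c26) (LK LD1_c13 LD2_c2 LD3_c38) Lrfl Lrfl
theorem f115261 : Led Lsl_bt (LP (LK LD1_c13 LD2_c26 LD3_c18)) = (LP (LK LD1_c7 LD2_c5 LD3_c21)) :=
  Lre_b IH (LK LD1_c13 LD2_c26 LD3_c18) (LK LD1_c7 LD2_c5 LD3_c21) Lrfl Lrfl
theorem f115262 : Led Lsl_ft (LP (LK LD1_c13 LD2_c2 LD3_c38)) = (LP (LK LD1_c13 LD2_c26 LD3_c18)) :=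
  Lgr Lrot75 (Lpe (f115260 IH) (Lpr_ff (K33.f115258 IH) (Lpe (f115261 IH) (Lpn (LP (LK LD1_c13 LD2_c26 LD3_c18))))))
theorem f115277 : Led Lsl_dt (LP (LK LD1_c6 LD2_c51 LD3_c25)) = (LP (LK LD1_c13 LD2_c2 LD3_c38)) :=
  Lre_d IH (LK LD1_c6 LD2_c51 LD3_c25) (LK LD1_c13 LD2_c2 LD3_c38) Lrfl Lrfl
theorem f86636 : Led Lsl_dt (LP (LK LD1_c13 LD2_c26 LD3_c18)) = (LP (LK LD1_c7 LD2_c5 LD3_c20)) :=
  Lre_d IH (LK LD1_c13 LD2_c26 LD3_c18) (LK LD1_c7 LD2_c5 LD3_c20) Lrfl Lrfl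
theorem f115278 : Led Lsl_ff (LP (LK LD1_c6 LD2_c51 LD3_c25)) = (LP (LK LD1_c7 LD2_c5 LD3_c20)) :=
  Lgr Lrot19 (Lpr_dt (f115277 IH) (Lpr_ft (f115262 IH) (Lpr_dt (f86636 IH) (Lpn (LP (LK LD1_c7 LD2_c5 LD3_c20))))))
theorem f106279 : Led Lsl_bt (LP (LK LD1_c3 LD2_c31 LD3_c8)) = (LP (LK LD1_c7 LD2_c4 LD3_c8)) :=
  Lre_b IH (LK LD1_c3 LD2_c31 LD3_c8) (LK LD1_c7 LD2_c4 LD3_c8) Lrfl Lrfl
theorem f114077 : Led Lsl_ff (LP (LK LD1_c3 LD2_c53 LD3_c46)) = (LP (LK LD1_c7 LD2_c4 LD3_c8)) :=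
  Lgr Lrot25 (Lpr_bt (K64.f85606 IH) (Lpr_ft (K4.f114037 IH) (Lpr_bt (f106279 IH) (Lpn (LP (LK LD1_c7 LD2_c4 LD3_c8))))))
theorem f115285 : Led Lsl_ct (LP (LK LD1_c6 LD2_c51 LD3_c25)) = (LP (LK LD1_c7 LD2_c4 LD3_c8)) :=
  Lgr Lrot40 (Lpr_ff (f115278 IH) (Lpr_cf (K64.f85647 IH) (Lpr_ff (f114077 IH) (Lpn (LP (LK LD1_c7 LD2_c4 LD3_c8))))))
theorem f115291 : Led Lsl_at (LP (LK LD1_c13 LD2_c2 LD3_c37)) = (LP (LK LD1_c6 LD2_c51 LD3_c25)) :=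
  Lre_a IH (LK LD1_c13 LD2_c2 LD3_c37) (LK LD1_c6 LD2_c51 LD3_c25) Lrfl Lrfl
theorem f115292 : Led Lsl_at (LP (LK LD1_c7 LD2_c4 LD3_c8)) = (LP (LK LD1_c13 LD2_c24 LD3_c5)) :=
  Lre_a IH (LK LD1_c7 LD2_c4 LD3_c8) (LK LD1_c13 LD2_c24 LD3_c5) Lrfl Lrfl
theorem f115293 : Led Lsl_cf (LP (LK LD1_c13 LD2_c2 LD3_c37)) = (LP (LK LD1_c13 LD2_c24 LD3_c5)) :=
  Lgr Lrot1 (Lpr_at (f115291 IH) (Lpr_ct (f115285 IH) (Lpr_at (f115292 IH) (Lpn (LP (LK LD1_c13 LD2_c24 LD3_c5))))))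
theorem f115300 : Led Lsl_ct (LP (LK LD1_c13 LD2_c2 LD3_c37)) = (LP (LK LD1_c13 LD2_c24 LD3_c5)) :=
  Lgr Lrot59 (Lpr_cf (f115293 IH) (Lpn (LP (LK LD1_c13 LD2_c24 LD3_c5))))
theorem f85492 : Led Lsl_bt (LP (LK LD1_c6 LD2_c58 LD3_c52)) = (LP (LK LD1_c3 LD2_c28 LD3_c23)) :=
  Lre_b IH (LK LD1_c6 LD2_c58 LD3_c52) (LK LD1_c3 LD2_c28 LD3_c23) Lrfl Lrfl
theorem f106827 : Led Lsl_gt (LP (LK LD1_c13 LD2_c39 LD3_c14)) = (LP (LK LD1_c7 LD2_c12 LD3_c49)) :=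
  Lre_g IH (LK LD1_c13 LD2_c39 LD3_c14) (LK LD1_c7 LD2_c12 LD3_c49) Lrfl Lrfl
theorem f85652 : Led Lsl_gt (LP (LK LD1_c3 LD2_c53 LD3_c46)) = (LP (LK LD1_c7 LD2_c49 LD3_c5)) :=
  Lre_g IH (LK LD1_c3 LD2_c53 LD3_c46) (LK LD1_c7 LD2_c49 LD3_c5) Lrfl Lrfl
theorem f86630 : Led Lsl_bt (LP (LK LD1_c14 LD2_c45 LD3_c5)) = (LP (LK LD1_c7 LD2_c49 LD3_c5)) :=
  Lre_b IH (LK LD1_c14 LD2_c45 LD3_c5) (LK LD1_c7 LD2_c49 LD3_c5) Lrfl Lrfl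
theorem f121531 : Led Lsl_cf (LP (LK LD1_c13 LD2_c39 LD3_c14)) = (LP (LK LD1_c14 LD2_c45 LD3_c5)) :=
  Lgr Lrot160 (Lpr_gt (f106827 IH) (Lpr_cf (K47.f106818 IH) (Lpr_bt (f85492 IH) (Lpr_gt (K4.f85591 IH) (Lpr_ct (K4.f121523 IH) (Lpr_gt (K4.f114146 IH) (Lpr_cf (K4.f85649 IH) (Lpr_bt (K64.f85646 IH) (Lpr_gt (f85652 IH) (Lpe (f86630 IH) (Lpn (LP (LK LD1_c14 LD2_c45 LD3_c5)))))))))))))
theorem f106814 : Led Lsl_at (LP (LK LD1_c13 LD2_c39 LD3_c15)) = (LP (LK LD1_c7 LD2_c12 LD3_c49)) :=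
  Lre_a IH (LK LD1_c13 LD2_c39 LD3_c15) (LK LD1_c7 LD2_c12 LD3_c49) Lrfl Lrfl
theorem f106815 : Led Lsl_at (LP (LK LD1_c7 LD2_c5 LD3_c59)) = (LP (LK LD1_c13 LD2_c27 LD3_c21)) :=
  Lre_a IH (LK LD1_c7 LD2_c5 LD3_c59) (LK LD1_c13 LD2_c27 LD3_c21) Lrfl Lrfl
theorem f106816 : Led Lsl_ff (LP (LK LD1_c13 LD2_c39 LD3_c15)) = (LP (LK LD1_c13 LD2_c27 LD3_c21)) :=
  Lgr Lrot30 (Lpr_at (f106814 IH) (Lpr_ft (K47.f106812 IH) (Lpr_at (f106815 IH) (Lpn (LP (LK LD1_c13 LD2_c27 LD3_c21))))))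
theorem f106839 : Led Lsl_gf (LP (LK LD1_c13 LD2_c39 LD3_c14)) = (LP (LK LD1_c13 LD2_c27 LD3_c21)) :=
  Lgr Lrot47 (Lpr_gt (f106827 IH) (Lpe (f106814 IH) (Lpr_ff (f106816 IH) (Lpn (LP (LK LD1_c13 LD2_c27 LD3_c21))))))
theorem f106830 : Led Lsl_cf (LP (LK LD1_c13 LD2_c27 LD3_c21)) = (LP (LK LD1_c7 LD2_c48 LD3_c57)) :=
  Lgr Lrot108 (Lpe (f106816 IH) (Lpr_ct (K47.f106825 IH) (Lpe (K47.f85489 IH) (Lpn (LP (LK LD1_c7 LD2_c48 LD3_c57))))))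
theorem f85507 : Led Lsl_ft (LP (LK LD1_c13 LD2_c15 LD3_c30)) = (LP (LK LD1_c6 LD2_c59 LD3_c17)) :=
  Lre_f IH (LK LD1_c13 LD2_c15 LD3_c30) (LK LD1_c6 LD2_c59 LD3_c17) Lrfl Lrfl
theorem f85508 : Led Lsl_bt (LP (LK LD1_c7 LD2_c48 LD3_c57)) = (LP (LK LD1_c13 LD2_c15 LD3_c30)) :=
  Lgr Lrot35 (Lpr_ff (K47.f85489 IH) (Lpe (K47.f85503 IH) (Lpe (f85507 IH) (Lpn (LP (LK LD1_c13 LD2_c15 LD3_c30))))))
theorem f85544 : Led Lsl_gt (LP (LK LD1_c6 LD2_c59 LD3_c15)) = (LP (LK LD1_c13 LD2_c15 LD3_c30)) :=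
  Lre_g IH (LK LD1_c6 LD2_c59 LD3_c15) (LK LD1_c13 LD2_c15 LD3_c30) Lrfl Lrfl
theorem f86632 : Led Lsl_at (LP (LK LD1_c13 LD2_c26 LD3_c17)) = (LP (LK LD1_c7 LD2_c5 LD3_c20)) :=
  Lre_a IH (LK LD1_c13 LD2_c26 LD3_c17) (LK LD1_c7 LD2_c5 LD3_c20) Lrfl Lrfl
theorem f115283 : Led Lsl_ft (LP (LK LD1_c13 LD2_c2 LD3_c37)) = (LP (LK LD1_c13 LD2_c26 LD3_c17)) :=
  Lgr Lrot101 (Lpe (f115282 IH) (Lpr_ff (f115278 IH) (Lpe (f86632 IH) (Lpn (LP (LK LD1_c13 LD2_c26 LD3_c17))))))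
theorem f115326 : Led Lsl_gt (LP (LK LD1_c13 LD2_c2 LD3_c37)) = (LP (LK LD1_c13 LD2_c26 LD3_c16)) :=
  Lgr Lrot5 (Lpr_ft (f115283 IH) (Lpr_at (f86632 IH) (Lpe (K64.f19337 IH) (Lpn (LP (LK LD1_c13 LD2_c26 LD3_c16))))))
theorem f121536 : Led Lsl_gf (LP (LK LD1_c13 LD2_c24 LD3_c5)) = (LP (LK LD1_c7 LD2_c49 LD3_c5)) :=
  Lgr Lrot181 (Lpe (f115293 IH) (Lpr_gt (f115326 IH) (Lpr_cf (K64.f86670 IH) (Lpr_bt (K64.f85545 IH) (Lpr_gt (f85544 IH) (Lpe (f85508 IH) (Lpe (f106830 IH) (Lpe (f106839 IH) (Lpr_cf (f121531 IH) (Lpr_bt (f86630 IH) (Lpn (LP (LK LD1_c7 LD2_c49 LD3_c5)))))))))))))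
theorem f86649 : Led Lsl_ct (LP (LK LD1_c14 LD2_c45 LD3_c6)) = (LP (LK LD1_c7 LD2_c49 LD3_c5)) :=
  Lre_c IH (LK LD1_c14 LD2_c45 LD3_c6) (LK LD1_c7 LD2_c49 LD3_c5) Lrfl Lrfl
theorem f865048 : Led Lsl_gt (LP (LK LD1_c13 LD2_c13 LD3_c47)) = (LP (LK LD1_c14 LD2_c45 LD3_c6)) :=
  Lgr Lrot82 (Lpe (f676750 IH) (Lpr_ct (K61.f676751 IH) (Lpq (K61.f790107 IH) (Lpr_gf (K61.f792089 IH) (Lpr_cf (f865044 IH) (Lpe (f865043 IH) (Lpr_gf (f115481 IH) (Lpe (f115391 IH) (Lpr_ct (f115300 IH) (Lpr_gf (f121536 IH) (Lpe (f86649 IH) (Lpn (LP (LK LD1_c14 LD2_c45 LD3_c6))))))))))))))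
theorem f865049 : Led Lsl_gt (LP (LK LD1_c13 LD2_c13 LD3_c47)) = (LP (LK LD1_c14 LD2_c45 LD3_c6)) :=
  Leop (Lpe (f865048 IH) (Lpn (LP (LK LD1_c13 LD2_c13 LD3_c47))))
theorem seed_2005 : LEOK LG_g (LK LD1_c13 LD2_c13 LD3_c47) :=
  Leoe_g (LK LD1_c13 LD2_c13 LD3_c47) (f865049 IH)
def v27833 : LQ := Led Lsl_bt K61.v7779
theorem f841553 : Led Lsl_bt K61.v7779 = v27833 :=
  Lrfl
theorem f92269 : Led Lsl_bt (LP (LK LD1_c13 LD2_c13 LD3_c47)) = (LP (LK LD1_c6 LD2_c58 LD3_c3)) :=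
  Lre_b IH (LK LD1_c13 LD2_c13 LD3_c47) (LK LD1_c6 LD2_c58 LD3_c3) Lrfl Lrfl
theorem f841555 : Led Lsl_cf (LP (LK LD1_c13 LD2_c13 LD3_c47)) = v27833 :=
  Lgr Lrot97 (Lpr_bt (f92269 IH) (Lpr_ct (K61.f676751 IH) (Lpqs (K63.f792136 IH) (Lpe (K63.f676694 IH) (Lpr_ct (K63.f668351 IH) (Lpr_bt (f841553 IH) (Lpn v27833)))))))
theorem f841554 : Led Lsl_bf K61.v7779 = v27833 :=
  Lgr Lrot24 (Lpr_bt (f841553 IH) (Lpn v27833))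
theorem f86631 : Led Lsl_ct (LP (LK LD1_c7 LD2_c49 LD3_c5)) = (LP (LK LD1_c14 LD2_c45 LD3_c6)) :=
  Lre_c IH (LK LD1_c7 LD2_c49 LD3_c5) (LK LD1_c14 LD2_c45 LD3_c6) Lrfl Lrfl
theorem f121533 : Led Lsl_bt (LP (LK LD1_c7 LD2_c49 LD3_c5)) = (LP (LK LD1_c14 LD2_c45 LD3_c5)) :=
  Lre_b IH (LK LD1_c7 LD2_c49 LD3_c5) (LK LD1_c14 LD2_c45 LD3_c5) Lrfl Lrfl
theorem f865050 : Led Lsl_gf (LP (LK LD1_c22 LD2_c30 LD3_c5)) = (LP (LK LD1_c14 LD2_c45 LD3_c5)) :=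
  Lgr Lrot181 (Lpe (K63.f441122 IH) (Lpr_gt (K63.f107851 IH) (Lpr_cf (K63.f107856 IH) (Lpr_bt (K63.f815378 IH) (Lpe (K63.f815381 IH) (Lpr_bf (f841554 IH) (Lpe (f841555 IH) (Lpr_gt (f865048 IH) (Lpe (f86631 IH) (Lpr_bt (f121533 IH) (Lpn (LP (LK LD1_c14 LD2_c45 LD3_c5)))))))))))))
theorem f865051 : Led Lsl_gt (LP (LK LD1_c14 LD2_c45 LD3_c5)) = (LP (LK LD1_c22 LD2_c30 LD3_c5)) :=
  Leop (Lpr_gf (f865050 IH) (Lpn (LP (LK LD1_c14 LD2_c45 LD3_c5))))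
theorem seed_2006 : LEOK LG_g (LK LD1_c14 LD2_c45 LD3_c5) :=
  Leoe_g (LK LD1_c14 LD2_c45 LD3_c5) (f865051 IH)
def v11656 : LQ := Led Lsl_bt K60.v3838
def v34077 : LQ := Led Lsl_dt v11656
theorem f869648 : Led Lsl_dt v11656 = v34077 :=
  Lrfl
theorem f685361 : Led Lsl_bt K60.v3838 = v11656 :=
  Lrfl
theorem f626863 : Led Lsl_ff (LP (LK LD1_c3 LD2_c34 LD3_c23)) = K60.v3700 :=
  Lgr Lrot30 (Lpr_at (K11.f432924 IH) (Lpr_ft (K60.f490978 IH) (Lpr_at (K60.f626859 IH) (Lpn K60.v3700))))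
theorem f627492 : Led Lsl_ft (LP (LK LD1_c3 LD2_c28 LD3_c59)) = K60.v3838 :=
  Lgr Lrot4 (Lpr_cf (K11.f447975 IH) (Lpr_ff (f626863 IH) (Lpr_cf (K60.f627490 IH) (Lpn K60.v3838))))
theorem f685363 : Led Lsl_ff (LP (LK LD1_c6 LD2_c59 LD3_c32)) = v11656 :=
  Lgr Lrot25 (Lpr_bt (K11.f433094 IH) (Lpr_ft (f627492 IH) (Lpr_bt (f685361 IH) (Lpn v11656))))
theorem f685364 : Led Lsl_ft (LP (LK LD1_c6 LD2_c59 LD3_c32)) = v11656 :=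
  Lgr Lrot48 (Lpr_ff (f685363 IH) (Lpn v11656))
theorem f433093 : Led Lsl_bt (LP (LK LD1_c6 LD2_c59 LD3_c20)) = (LP (LK LD1_c13 LD2_c15 LD3_c45)) :=
  Lre_b IH (LK LD1_c6 LD2_c59 LD3_c20) (LK LD1_c13 LD2_c15 LD3_c45) Lrfl Lrfl
theorem f433095 : Led Lsl_dt (LP (LK LD1_c13 LD2_c15 LD3_c45)) = (LP (LK LD1_c6 LD2_c59 LD3_c32)) :=
  Lgr Lrot79 (Lpe (f433093 IH) (Lpr_df (K11.f433091 IH) (Lpe (K11.f433094 IH) (Lpn (LP (LK LD1_c6 LD2_c59 LD3_c32))))))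
theorem f869651 : Led Lsl_ff (LP (LK LD1_c13 LD2_c15 LD3_c45)) = v34077 :=
  Lgr Lrot19 (Lpr_dt (f433095 IH) (Lpr_ft (f685364 IH) (Lpr_dt (f869648 IH) (Lpn v34077))))
theorem f85409 : Led Lsl_bt (LP (LK LD1_c13 LD2_c15 LD3_c45)) = (LP (LK LD1_c6 LD2_c59 LD3_c20)) :=
  Lre_b IH (LK LD1_c13 LD2_c15 LD3_c45) (LK LD1_c6 LD2_c59 LD3_c20) Lrfl Lrfl
theorem f685369 : Led Lsl_ff (LP (LK LD1_c6 LD2_c59 LD3_c20)) = K60.v11657 :=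
  Lgr Lrot19 (Lpr_dt (K11.f433097 IH) (Lpr_ft (f627492 IH) (Lpr_dt (K60.f685365 IH) (Lpn K60.v11657))))
theorem f685374 : Led Lsl_ft (LP (LK LD1_c6 LD2_c59 LD3_c20)) = K60.v11657 :=
  Lgr Lrot48 (Lpr_ff (f685369 IH) (Lpn K60.v11657))
theorem f869652 : Led Lsl_bt K60.v11657 = v34077 :=
  Lgr Lrot35 (Lpe (f685374 IH) (Lpe (f85409 IH) (Lpr_ff (f869651 IH) (Lpn v34077))))
theorem f65446 : Led Lsl_et (LP (LK LD1_c0 LD2_c19 LD3_c39)) = (LP (LK LD1_c0 LD2_c44 LD3_c2)) :=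
  Lre_e IH (LK LD1_c0 LD2_c19 LD3_c39) (LK LD1_c0 LD2_c44 LD3_c2) Lrfl Lrfl
theorem f626866 : Led Lsl_dt (LP (LK LD1_c3 LD2_c1 LD3_c32)) = K60.v3700 :=
  Lgr Lrot56 (Lpe (K11.f447731 IH) (Lpr_gt (K11.f65439 IH) (Lpe (f65446 IH) (Lpr_dt (K2.f23663 IH) (Lpe (K2.f91232 IH) (Lpe (K0.f17774 IH) (Lpr_et (K0.f17770 IH) (Lpr_gt (K3.f17768 IH) (Lpr_dt (K59.f434185 IH) (Lpr_gt (K60.f626864 IH) (Lpn K60.v3700)))))))))))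
theorem f529955 : Led Lsl_df (LP (LK LD1_c1 LD2_c50 LD3_c23)) = K34.v2638 :=
  Lgr Lrot38 (Lpr_dt (K34.f529952 IH) (Lpn K34.v2638))
theorem f432974 : Led Lsl_cf (LP (LK LD1_c3 LD2_c34 LD3_c24)) = (LP (LK LD1_c6 LD2_c10 LD3_c4)) :=
  Lgr Lrot166 (Lpr_gt (K11.f432968 IH) (Lpr_dt (K7.f84300 IH) (Lpr_gt (K3.f88970 IH) (Lpr_dt (K3.f86346 IH) (Lpr_ct (K5.f88975 IH) (Lpe (K5.f126292 IH) (Lpe (K60.f126184 IH) (Lpe (K5.f106712 IH) (Lpe (K60.f126122 IH) (Lpn (LP (LK LD1_c6 LD2_c10 LD3_c4))))))))))))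
theorem f114046 : Led Lsl_ct (LP (LK LD1_c6 LD2_c10 LD3_c2)) = (LP (LK LD1_c3 LD2_c53 LD3_c47)) :=
  Lgr Lrot59 (Lpr_cf (K34.f114039 IH) (Lpn (LP (LK LD1_c3 LD2_c53 LD3_c47))))
theorem f429739 : Led Lsl_dt (LP (LK LD1_c12 LD2_c0 LD3_c58)) = (LP (LK LD1_c6 LD2_c10 LD3_c4)) :=
  Lgr Lrot6 (Lpr_gt (K60.f78925 IH) (Lpr_ct (f114046 IH) (Lpr_gt (K11.f429719 IH) (Lpr_ct (K11.f155115 IH) (Lpe (K7.f155170 IH) (Lpe (K7.f61744 IH) (Lpr_gf (K11.f105719 IH) (Lpe (K5.f105723 IH) (Lpe (K60.f126122 IH) (Lpn (LP (LK LD1_c6 LD2_c10 LD3_c4))))))))))))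
theorem f685367 : Led Lsl_cf (LP (LK LD1_c12 LD2_c0 LD3_c58)) = K60.v11657 :=
  Lgr Lrot55 (Lpr_dt (f429739 IH) (Lpe (f432974 IH) (Lpr_dt (K61.f155072 IH) (Lpr_ct (K11.f155062 IH) (Lpr_dt (K59.f155065 IH) (Lpr_ct (K60.f432783 IH) (Lpr_dt (K60.f432909 IH) (Lpe (K60.f432902 IH) (Lpr_dt (K34.f432874 IH) (Lpr_ct (K34.f529959 IH) (Lpe (f529955 IH) (Lpr_ct (K11.f447727 IH) (Lpr_dt (f626866 IH) (Lpr_ct (K60.f627488 IH) (Lpr_dt (K60.f685365 IH) (Lpn K60.v11657))))))))))))))))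
theorem f433052 : Led Lsl_gt (LP (LK LD1_c6 LD2_c41 LD3_c36)) = (LP (LK LD1_c12 LD2_c0 LD3_c58)) :=
  Lgr Lrot49 (Lpe (K4.f114198 IH) (Lpr_gf (K34.f143644 IH) (Lpr_cf (K6.f114275 IH) (Lpr_gt (K65.f109192 IH) (Lpr_dt (K11.f85595 IH) (Lpe (K7.f155057 IH) (Lpr_dt (K11.f155061 IH) (Lpr_cf (f432974 IH) (Lpe (f429739 IH) (Lpn (LP (LK LD1_c12 LD2_c0 LD3_c58))))))))))))
theorem f429717 : Led Lsl_gf (LP (LK LD1_c3 LD2_c53 LD3_c45)) = (LP (LK LD1_c3 LD2_c35 LD3_c30)) :=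
  Lgr Lrot144 (Lpr_dt (K4.f89013 IH) (Lpr_gt (K3.f85662 IH) (Lpr_dt (K59.f85298 IH) (Lpe (K59.f85299 IH) (Lpe (K59.f89118 IH) (Lpe (K59.f25421 IH) (Lpe (K11.f90680 IH) (Lpr_gf (K11.f429714 IH) (Lpe (K11.f155115 IH) (Lpn (LP (LK LD1_c3 LD2_c35 LD3_c30))))))))))))
def v6993 : LQ := Led Lsl_bt (LP (LK LD1_c3 LD2_c35 LD3_c30))
theorem f659846 : Led Lsl_bt (LP (LK LD1_c3 LD2_c35 LD3_c30)) = v6993 :=
  Lrfl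
theorem f659847 : Led Lsl_bf (LP (LK LD1_c3 LD2_c35 LD3_c30)) = v6993 :=
  Lgr Lrot24 (Lpr_bt (f659846 IH) (Lpn v6993))
def v26868 : LQ := Led Lsl_ct v6993
theorem f836205 : Led Lsl_ct v6993 = v26868 :=
  Lrfl
theorem f792125 : Led Lsl_ct K61.v6974 = K65.v20507 :=
  Lgr Lrot59 (Lpr_cf (K65.f792124 IH) (Lpn K65.v20507))
def v20511 : LQ := Led Lsl_ft (LP (LK LD1_c6 LD2_c58 LD3_c40))
theorem f787496 : Led Lsl_ft (LP (LK LD1_c6 LD2_c58 LD3_c40)) = v20511 :=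
  Lrfl
theorem f787497 : Led Lsl_af K61.v8919 = v20511 :=
  Lgr Lrot45 (Lpr_ft (K61.f787438 IH) (Lpe (K61.f787435 IH) (Lpr_ft (f787496 IH) (Lpn v20511))))
theorem f787500 : Led Lsl_gt K65.v20507 = K61.v8919 :=
  Lgr Lrot46 (Lpe (K65.f787430 IH) (Lpr_ft (f787496 IH) (Lpe (f787497 IH) (Lpn K61.v8919))))
theorem f792153 : Led Lsl_gf K61.v11782 = K61.v8918 :=
  Lgr Lrot181 (Lpe (K61.f685872 IH) (Lpe (K61.f668346 IH) (Lpe (K61.f440548 IH) (Lpr_bt (K61.f535584 IH) (Lpr_gt (K61.f668324 IH) (Lpe (K61.f685876 IH) (Lpq (K61.f792126 IH) (Lpr_ct (f792125 IH) (Lpr_gt (f787500 IH) (Lpe (K61.f672759 IH) (Lpr_bt (K61.f672755 IH) (Lpn K61.v8918))))))))))))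
theorem f815477 : Led Lsl_df v11891 = K63.v7649 :=
  Lgr Lrot12 (Lpe (f686300 IH) (Lpq (K64.f815472 IH) (Lpe (K64.f683436 IH) (Lpr_bt (K63.f667468 IH) (Lpn K63.v7649)))))
theorem f834241 : Led Lsl_dt v11277 = K61.v8918 :=
  Lgr Lrot60 (Lpr_ff (f834239 IH) (Lpr_df (f815477 IH) (Lpr_ff (K64.f815436 IH) (Lpn K61.v8918))))
theorem f852474 : Led Lsl_gf v11174 = v11277 :=
  Lgr Lrot147 (Lpr_ct (f852472 IH) (Lpe (f852470 IH) (Lpe (f676711 IH) (Lpe (f535587 IH) (Lpe (K63.f109144 IH) (Lpr_gf (K61.f668346 IH) (Lpr_cf (K61.f685872 IH) (Lpr_gf (f792153 IH) (Lpe (f834241 IH) (Lpn v11277))))))))))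
def v7777 : LQ := Led Lsl_gt (LP (LK LD1_c3 LD2_c56 LD3_c51))
def v27827 : LQ := Led Lsl_ct v7777
theorem f841529 : Led Lsl_ct v7777 = v27827 :=
  Lrfl
theorem f685877 : Led Lsl_ct K61.v7778 = K61.v11782 :=
  Lgr Lrot59 (Lpr_cf (K61.f685872 IH) (Lpn K61.v11782))
theorem f815384 : Led Lsl_af K61.v7778 = K63.v23179 :=
  Lgr Lrot68 (Lpr_ct (f685877 IH) (Lpr_at (K64.f791661 IH) (Lpr_ct (K63.f815383 IH) (Lpn K63.v23179))))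
theorem f668343 : Led Lsl_gt (LP (LK LD1_c3 LD2_c56 LD3_c51)) = v7777 :=
  Lrfl
theorem f668361 : Led Lsl_af K61.v3560 = K65.v7781 :=
  Lgr Lrot45 (Lpr_ft (K61.f668352 IH) (Lpe (K61.f668349 IH) (Lpr_ft (K65.f668360 IH) (Lpn K65.v7781))))
theorem f668364 : Led Lsl_gt v7777 = K61.v3560 :=
  Lgr Lrot46 (Lpe (f668343 IH) (Lpr_ft (K65.f668360 IH) (Lpe (f668361 IH) (Lpn K61.v3560))))
theorem f815386 : Led Lsl_ft v7777 = K63.v23179 :=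
  Lgr Lrot2 (Lpr_gt (f668364 IH) (Lpr_gt (K61.f668354 IH) (Lpr_af (f815384 IH) (Lpn K63.v23179))))
theorem f815388 : Led Lsl_ff v7777 = K63.v23179 :=
  Lgr Lrot3 (Lpr_ft (f815386 IH) (Lpn K63.v23179))
def v23175 : LQ := Led Lsl_at (LP (LK LD1_c7 LD2_c48 LD3_c55))
theorem f815362 : Led Lsl_at (LP (LK LD1_c7 LD2_c48 LD3_c55)) = v23175 :=
  Lrfl
theorem f85501 : Led Lsl_ct (LP (LK LD1_c14 LD2_c44 LD3_c46)) = (LP (LK LD1_c7 LD2_c48 LD3_c55)) :=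
  Lre_c IH (LK LD1_c14 LD2_c44 LD3_c46) (LK LD1_c7 LD2_c48 LD3_c55) Lrfl Lrfl
theorem f85494 : Led Lsl_gt (LP (LK LD1_c3 LD2_c53 LD3_c41)) = (LP (LK LD1_c7 LD2_c48 LD3_c55)) :=
  Lre_g IH (LK LD1_c3 LD2_c53 LD3_c41) (LK LD1_c7 LD2_c48 LD3_c55) Lrfl Lrfl
theorem f85499 : Led Lsl_ct (LP (LK LD1_c7 LD2_c48 LD3_c55)) = (LP (LK LD1_c14 LD2_c44 LD3_c46)) :=
  Lre_c IH (LK LD1_c7 LD2_c48 LD3_c55) (LK LD1_c14 LD2_c44 LD3_c46) Lrfl Lrfl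
theorem f441125 : Led Lsl_gf (LP (LK LD1_c13 LD2_c35 LD3_c34)) = (LP (LK LD1_c14 LD2_c44 LD3_c46)) :=
  Lgr Lrot129 (Lpr_cf (K63.f441122 IH) (Lpr_bt (K63.f85684 IH) (Lpr_gt (K61.f85681 IH) (Lpe (K3.f85305 IH) (Lpr_ct (K3.f85304 IH) (Lpr_gt (K3.f18010 IH) (Lpe (K11.f85325 IH) (Lpr_bt (K63.f85491 IH) (Lpr_gt (f85494 IH) (Lpr_ct (f85499 IH) (Lpn (LP (LK LD1_c14 LD2_c44 LD3_c46)))))))))))))
theorem f107854 : Led Lsl_at (LP (LK LD1_c13 LD2_c35 LD3_c35)) = (LP (LK LD1_c7 LD2_c10 LD3_c35)) :=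
  Lre_a IH (LK LD1_c13 LD2_c35 LD3_c35) (LK LD1_c7 LD2_c10 LD3_c35) Lrfl Lrfl
theorem f441127 : Led Lsl_ff (LP (LK LD1_c13 LD2_c35 LD3_c35)) = (LP (LK LD1_c14 LD2_c44 LD3_c46)) :=
  Lgr Lrot52 (Lpr_at (f107854 IH) (Lpe (K63.f107851 IH) (Lpr_gf (f441125 IH) (Lpn (LP (LK LD1_c14 LD2_c44 LD3_c46))))))
theorem f107868 : Led Lsl_ft (LP (LK LD1_c7 LD2_c10 LD3_c35)) = (LP (LK LD1_c13 LD2_c35 LD3_c37)) :=
  Lre_f IH (LK LD1_c7 LD2_c10 LD3_c35) (LK LD1_c13 LD2_c35 LD3_c37) Lrfl Lrfl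
theorem f441129 : Led Lsl_at (LP (LK LD1_c13 LD2_c35 LD3_c37)) = (LP (LK LD1_c14 LD2_c44 LD3_c46)) :=
  Lgr Lrot66 (Lpe (f107868 IH) (Lpe (f107854 IH) (Lpr_ff (f441127 IH) (Lpn (LP (LK LD1_c14 LD2_c44 LD3_c46))))))
theorem f815364 : Led Lsl_cf (LP (LK LD1_c13 LD2_c35 LD3_c37)) = v23175 :=
  Lgr Lrot1 (Lpr_at (f441129 IH) (Lpr_ct (f85501 IH) (Lpr_at (f815362 IH) (Lpn v23175))))
theorem f107861 : Led Lsl_ft (LP (LK LD1_c13 LD2_c35 LD3_c37)) = (LP (LK LD1_c7 LD2_c10 LD3_c35)) :=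
  Lre_f IH (LK LD1_c13 LD2_c35 LD3_c37) (LK LD1_c7 LD2_c10 LD3_c35) Lrfl Lrfl
theorem f815366 : Led Lsl_ft (LP (LK LD1_c7 LD2_c48 LD3_c56)) = v23175 :=
  Lgr Lrot4 (Lpe (K47.f107847 IH) (Lpe (f107861 IH) (Lpr_cf (f815364 IH) (Lpn v23175))))
theorem f815367 : Led Lsl_ff (LP (LK LD1_c7 LD2_c48 LD3_c56)) = v23175 :=
  Lgr Lrot3 (Lpr_ft (f815366 IH) (Lpn v23175))
theorem f815389 : Led Lsl_bt v7777 = v23175 :=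
  Lgr Lrot35 (Lpr_ff (f815388 IH) (Lpe (K63.f815378 IH) (Lpr_ff (f815367 IH) (Lpn v23175))))
theorem f441137 : Led Lsl_bt (LP (LK LD1_c13 LD2_c35 LD3_c37)) = (LP (LK LD1_c7 LD2_c10 LD3_c38)) :=
  Lre_b IH (LK LD1_c13 LD2_c35 LD3_c37) (LK LD1_c7 LD2_c10 LD3_c38) Lrfl Lrfl
theorem f815365 : Led Lsl_ct (LP (LK LD1_c13 LD2_c35 LD3_c37)) = v23175 :=
  Lgr Lrot59 (Lpr_cf (f815364 IH) (Lpn v23175))
theorem f18000 : Led Lsl_bt (LP (LK LD1_c1 LD2_c44 LD3_c9)) = (LP (LK LD1_c3 LD2_c34 LD3_c47)) :=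
  Lre_b IH (LK LD1_c1 LD2_c44 LD3_c9) (LK LD1_c3 LD2_c34 LD3_c47) Lrfl Lrfl
theorem f86713 : Led Lsl_bt (LP (LK LD1_c7 LD2_c12 LD3_c49)) = (LP (LK LD1_c3 LD2_c36 LD3_c14)) :=
  Lre_b IH (LK LD1_c7 LD2_c12 LD3_c49) (LK LD1_c3 LD2_c36 LD3_c14) Lrfl Lrfl
theorem f106800 : Led Lsl_ct (LP (LK LD1_c7 LD2_c12 LD3_c49)) = (LP (LK LD1_c6 LD2_c58 LD3_c52)) :=
  Lgr Lrot83 (Lpe (K47.f106799 IH) (Lpr_cf (K3.f106777 IH) (Lpe (K2.f19395 IH) (Lpe (K3.f85342 IH) (Lpe (f85492 IH) (Lpn (LP (LK LD1_c6 LD2_c58 LD3_c52))))))))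
theorem f85528 : Led Lsl_gt (LP (LK LD1_c13 LD2_c15 LD3_c6)) = (LP (LK LD1_c6 LD2_c58 LD3_c52)) :=
  Lre_g IH (LK LD1_c13 LD2_c15 LD3_c6) (LK LD1_c6 LD2_c58 LD3_c52) Lrfl Lrfl
theorem f819319 : v23175 = (LP (LK LD1_c13 LD2_c15 LD3_c6)) :=
  (Llr Lrot64 (Lpe (f815365 IH) (Lpr_bt (f441137 IH) (Lpr_gf (f791723 IH) (Lpq (f819291 IH) (Lpe (f18000 IH) (Lpr_ct (K0.f17994 IH) (Lpe (K3.f86709 IH) (Lpe (K3.f86705 IH) (Lpe (K3.f86712 IH) (Lpe (f86713 IH) (Lpr_ct (f106800 IH) (Lpe (f85528 IH) (Lpn (LP (LK LD1_c13 LD2_c15 LD3_c6)))))))))))))))).symm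
theorem f85354 : Led Lsl_bt (LP (LK LD1_c3 LD2_c28 LD3_c23)) = (LP (LK LD1_c6 LD2_c58 LD3_c52)) :=
  Lre_b IH (LK LD1_c3 LD2_c28 LD3_c23) (LK LD1_c6 LD2_c58 LD3_c52) Lrfl Lrfl
def v27606 : LQ := Led Lsl_ct K63.v7648
theorem f840488 : Led Lsl_ct K63.v7648 = v27606 :=
  Lrfl
theorem f841536 : Led Lsl_gt v27606 = v27827 :=
  Lgr Lrot149 (Lpe (f840488 IH) (Lpq (K64.f815434 IH) (Lpe (K64.f667483 IH) (Lpe (K61.f514578 IH) (Lpr_ct (K3.f11129 IH) (Lpe (K2.f87588 IH) (Lpe (K3.f85342 IH) (Lpr_bt (f85354 IH) (Lpe (f85528 IH) (Lpq (f819319 IH) (Lpe (f815389 IH) (Lpr_ct (f841529 IH) (Lpn v27827)))))))))))))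
theorem f840492 : Led Lsl_ff K63.v9480 = v27606 :=
  Lgr Lrot23 (Lpe (K63.f676135 IH) (Lpr_ft (K63.f667462 IH) (Lpr_ct (f840488 IH) (Lpn v27606))))
theorem f815454 : Led Lsl_af K61.v8918 = K63.v9480 :=
  Lgr Lrot36 (Lpe (K61.f672756 IH) (Lpq (K64.f815438 IH) (Lpe (K63.f683440 IH) (Lpr_bt (K63.f683443 IH) (Lpr_at (K64.f815452 IH) (Lpr_bt (K63.f815393 IH) (Lpn K63.v9480)))))))
theorem f841538 : Led Lsl_gf K61.v8918 = v27827 :=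
  Lgr Lrot76 (Lpr_af (f815454 IH) (Lpr_ff (f840492 IH) (Lpr_gt (f841536 IH) (Lpn v27827))))
def v10950 : LQ := Led Lsl_dt K61.v3560
theorem f682645 : Led Lsl_dt K61.v3560 = v10950 :=
  Lrfl
def v23609 : LQ := Led Lsl_at (LP (LK LD1_c7 LD2_c55 LD3_c24))
theorem f819361 : Led Lsl_at (LP (LK LD1_c7 LD2_c55 LD3_c24)) = v23609 :=
  Lrfl
theorem f535573 : Led Lsl_dt (LP (LK LD1_c3 LD2_c56 LD3_c51)) = (LP (LK LD1_c7 LD2_c55 LD3_c24)) :=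
  Lre_d IH (LK LD1_c3 LD2_c56 LD3_c51) (LK LD1_c7 LD2_c55 LD3_c24) Lrfl Lrfl
theorem f819363 : Led Lsl_df K61.v7779 = v23609 :=
  Lgr Lrot18 (Lpe (K61.f668349 IH) (Lpr_dt (f535573 IH) (Lpr_at (f819361 IH) (Lpn v23609))))
theorem f668353 : Led Lsl_ff K61.v3560 = K61.v7779 :=
  Lgr Lrot3 (Lpr_ft (K61.f668352 IH) (Lpn K61.v7779))
theorem f819365 : Led Lsl_ft v10950 = v23609 :=
  Lgr Lrot54 (Lpe (f682645 IH) (Lpr_ff (f668353 IH) (Lpr_df (f819363 IH) (Lpn v23609))))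
theorem f819362 : Led Lsl_af (LP (LK LD1_c7 LD2_c55 LD3_c24)) = v23609 :=
  Lgr Lrot0 (Lpr_at (f819361 IH) (Lpn v23609))
def v23608 : LQ := Led Lsl_gf (LP (LK LD1_c7 LD2_c55 LD3_c24))
theorem f819360 : Led Lsl_gf (LP (LK LD1_c7 LD2_c55 LD3_c24)) = v23608 :=
  Lrfl
theorem f819367 : Led Lsl_gt v10950 = v23608 :=
  Lgr Lrot5 (Lpr_ft (f819365 IH) (Lpe (f819362 IH) (Lpr_gf (f819360 IH) (Lpn v23608))))
theorem f852475 : Led Lsl_df v30056 = v23608 :=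
  Lgr Lrot84 (Lpe (f852472 IH) (Lpr_df (f819318 IH) (Lpr_gf (f852474 IH) (Lpr_df (f834244 IH) (Lpr_gf (f841538 IH) (Lpe (f841529 IH) (Lpr_gt (f668364 IH) (Lpr_dt (f682645 IH) (Lpr_gt (f819367 IH) (Lpn v23608))))))))))
def v9569 : LQ := Led Lsl_gt v2783
theorem f676707 : Led Lsl_gt v2783 = v9569 :=
  Lrfl
theorem f676715 : Led Lsl_af v3561 = v9573 :=
  Lgr Lrot45 (Lpr_ft (f676701 IH) (Lpe (f676698 IH) (Lpr_ft (f676714 IH) (Lpn v9573))))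
theorem f676718 : Led Lsl_gt v9569 = v3561 :=
  Lgr Lrot46 (Lpe (f676707 IH) (Lpr_ft (f676714 IH) (Lpe (f676715 IH) (Lpn v3561))))
theorem f815481 : v1002 = v9569 :=
  Lefun (Lecon (Lfl_gt (f626824 IH)) (f815479 IH)) (Lfl_gt (f676718 IH))
theorem f155114 : Led Lsl_dt (LP (LK LD1_c1 LD2_c44 LD3_c36)) = (LP (LK LD1_c3 LD2_c35 LD3_c30)) :=
  Lre_d IH (LK LD1_c1 LD2_c44 LD3_c36) (LK LD1_c3 LD2_c35 LD3_c30) Lrfl Lrfl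
theorem f659848 : Led Lsl_df v2412 = v6993 :=
  Lgr Lrot12 (Lpe (f519555 IH) (Lpr_dt (f155114 IH) (Lpr_bt (f659846 IH) (Lpn v6993))))
theorem f659849 : Led Lsl_dt v2412 = v6993 :=
  Lgr Lrot42 (Lpr_df (f659848 IH) (Lpn v6993))
theorem f836206 : Led Lsl_cf v6993 = v26868 :=
  Lgr Lrot11 (Lpr_ct (f836205 IH) (Lpn v26868))
def v23610 : LQ := Led Lsl_ct (LP (LK LD1_c7 LD2_c55 LD3_c24))
theorem f819369 : Led Lsl_ct (LP (LK LD1_c7 LD2_c55 LD3_c24)) = v23610 :=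
  Lrfl
theorem f852477 : Led Lsl_gf v26868 = v23610 :=
  Lgr Lrot104 (Lpe (f836206 IH) (Lpe (f659849 IH) (Lpe (f519557 IH) (Lpqs (f815481 IH) (Lpe (f676707 IH) (Lpr_cf (f676711 IH) (Lpr_gf (f852470 IH) (Lpr_df (f852475 IH) (Lpe (f819360 IH) (Lpr_ct (f819369 IH) (Lpn v23610)))))))))))
theorem f819368 : Led Lsl_bt (LP (LK LD1_c7 LD2_c55 LD3_c24)) = (LP (LK LD1_c14 LD2_c56 LD3_c55)) :=
  Lre_b IH (LK LD1_c7 LD2_c55 LD3_c24) (LK LD1_c14 LD2_c56 LD3_c55) Lrfl Lrfl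
theorem f869654 : Led Lsl_gf (LP (LK LD1_c14 LD2_c56 LD3_c55)) = v34077 :=
  Lgr Lrot124 (Lpe (f819368 IH) (Lpr_ct (f819369 IH) (Lpe (f852477 IH) (Lpe (f836205 IH) (Lpe (f659847 IH) (Lpe (f429717 IH) (Lpr_ct (K4.f114330 IH) (Lpr_gt (f433052 IH) (Lpr_cf (f685367 IH) (Lpr_bt (f869652 IH) (Lpn v34077)))))))))))
theorem f433118 : Led Lsl_at (LP (LK LD1_c13 LD2_c15 LD3_c45)) = (LP (LK LD1_c22 LD2_c30 LD3_c47)) :=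
  Lre_a IH (LK LD1_c13 LD2_c15 LD3_c45) (LK LD1_c22 LD2_c30 LD3_c47) Lrfl Lrfl
theorem f869655 : Led Lsl_gt (LP (LK LD1_c14 LD2_c56 LD3_c55)) = (LP (LK LD1_c22 LD2_c30 LD3_c47)) :=
  Lgr Lrot46 (Lpr_gf (f869654 IH) (Lpe (f869651 IH) (Lpr_at (f433118 IH) (Lpn (LP (LK LD1_c22 LD2_c30 LD3_c47))))))
theorem f869656 : Led Lsl_gt (LP (LK LD1_c14 LD2_c56 LD3_c55)) = (LP (LK LD1_c22 LD2_c30 LD3_c47)) :=
  Leop (Lpe (f869655 IH) (Lpn (LP (LK LD1_c14 LD2_c56 LD3_c55))))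
theorem seed_2007 : LEOK LG_g (LK LD1_c14 LD2_c56 LD3_c55) :=
  Leoe_g (LK LD1_c14 LD2_c56 LD3_c55) (f869656 IH)
def v34476 : LQ := Led Lsl_ct K59.v11809
theorem f871050 : Led Lsl_ct K59.v11809 = v34476 :=
  Lrfl
def v34475 : LQ := Led Lsl_bt K59.v11809
theorem f871046 : Led Lsl_bt K59.v11809 = v34475 :=
  Lrfl
def v5509 : LQ := Led Lsl_gt (LP (LK LD1_c3 LD2_c8 LD3_c51))
theorem f648010 : Led Lsl_gt (LP (LK LD1_c3 LD2_c8 LD3_c51)) = v5509 :=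
  Lrfl
theorem f702067 : Led Lsl_gt v5509 = K58.v13275 :=
  Lgr Lrot46 (Lpe (f648010 IH) (Lpr_ft (K58.f623700 IH) (Lpr_at (K58.f702063 IH) (Lpn K58.v13275))))
theorem f768748 : v5509 = (LP (LK LD1_c3 LD2_c23 LD3_c17)) :=
  Lefun (Lecon (Lfl_gt (f702067 IH)) (K58.f768737 IH)) (Lfl_gt (K58.f77085 IH))
theorem f91375 : Led Lsl_dt (LP (LK LD1_c6 LD2_c49 LD3_c52)) = (LP (LK LD1_c3 LD2_c23 LD3_c15)) :=
  Lre_d IH (LK LD1_c6 LD2_c49 LD3_c52) (LK LD1_c3 LD2_c23 LD3_c15) Lrfl Lrfl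
def v20034 : LQ := Led Lsl_gf (LP (LK LD1_c6 LD2_c49 LD3_c52))
theorem f784442 : Led Lsl_gf (LP (LK LD1_c6 LD2_c49 LD3_c52)) = v20034 :=
  Lrfl
def v26282 : LQ := Led Lsl_et K60.v6516
theorem f832936 : Led Lsl_et K60.v6516 = v26282 :=
  Lrfl
theorem f832937 : Led Lsl_ef K60.v6516 = v26282 :=
  Lgr Lrot88 (Lpr_et (f832936 IH) (Lpn v26282))
theorem f95677 : Led Lsl_ft (LP (LK LD1_c3 LD2_c22 LD3_c55)) = (LP (LK LD1_c6 LD2_c49 LD3_c22)) :=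
  Lre_f IH (LK LD1_c3 LD2_c22 LD3_c55) (LK LD1_c6 LD2_c49 LD3_c22) Lrfl Lrfl
theorem f675631 : Led Lsl_et (LP (LK LD1_c6 LD2_c49 LD3_c22)) = K58.v9382 :=
  Lgr Lrot69 (Lpe (f95677 IH) (Lpe (K30.f95690 IH) (Lpr_ff (K37.f95700 IH) (Lpr_ef (K60.f529937 IH) (Lpr_ff (K58.f675627 IH) (Lpn K58.v9382))))))
def v19983 : LQ := Led Lsl_ft (LP (LK LD1_c6 LD2_c49 LD3_c21))
theorem f784149 : Led Lsl_ft (LP (LK LD1_c6 LD2_c49 LD3_c21)) = v19983 :=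
  Lrfl
theorem f784152 : Led Lsl_ff (LP (LK LD1_c6 LD2_c49 LD3_c21)) = v19983 :=
  Lgr Lrot3 (Lpr_ft (f784149 IH) (Lpn v19983))
theorem f784155 : Led Lsl_dt (LP (LK LD1_c6 LD2_c49 LD3_c22)) = v19983 :=
  Lgr Lrot60 (Lpe (f95677 IH) (Lpe (K65.f95679 IH) (Lpr_ff (f784152 IH) (Lpn v19983))))
def v22057 : LQ := Led Lsl_gf (LP (LK LD1_c7 LD2_c30 LD3_c41))
theorem f800971 : Led Lsl_gf (LP (LK LD1_c7 LD2_c30 LD3_c41)) = v22057 :=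
  Lrfl
theorem f95673 : Led Lsl_dt (LP (LK LD1_c3 LD2_c22 LD3_c55)) = (LP (LK LD1_c6 LD2_c49 LD3_c21)) :=
  Lre_d IH (LK LD1_c3 LD2_c22 LD3_c55) (LK LD1_c6 LD2_c49 LD3_c21) Lrfl Lrfl
theorem f85160 : Led Lsl_dt (LP (LK LD1_c7 LD2_c30 LD3_c41)) = (LP (LK LD1_c3 LD2_c44 LD3_c51)) :=
  Lre_d IH (LK LD1_c7 LD2_c30 LD3_c41) (LK LD1_c3 LD2_c44 LD3_c51) Lrfl Lrfl
theorem f95674 : Led Lsl_at (LP (LK LD1_c6 LD2_c49 LD3_c21)) = (LP (LK LD1_c7 LD2_c30 LD3_c41)) :=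
  Lgr Lrot51 (Lpe (f95673 IH) (Lpr_af (K30.f95667 IH) (Lpe (f85160 IH) (Lpn (LP (LK LD1_c7 LD2_c30 LD3_c41))))))
theorem f800972 : Led Lsl_gt v19983 = v22057 :=
  Lgr Lrot5 (Lpe (f784152 IH) (Lpr_at (f95674 IH) (Lpr_gf (f800971 IH) (Lpn v22057))))
def v13414 : LQ := Led Lsl_gt (LP (LK LD1_c4 LD2_c43 LD3_c47))
theorem f702818 : Led Lsl_gt (LP (LK LD1_c4 LD2_c43 LD3_c47)) = v13414 :=
  Lrfl
theorem f82778 : Led Lsl_at (LP (LK LD1_c3 LD2_c13 LD3_c10)) = (LP (LK LD1_c6 LD2_c30 LD3_c8)) :=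
  Lre_a IH (LK LD1_c3 LD2_c13 LD3_c10) (LK LD1_c6 LD2_c30 LD3_c8) Lrfl Lrfl
theorem f702819 : Led Lsl_gf (LP (LK LD1_c6 LD2_c30 LD3_c8)) = v13414 :=
  Lgr Lrot76 (Lpe (f82778 IH) (Lpe (K59.f505716 IH) (Lpr_gt (f702818 IH) (Lpn v13414))))
theorem f771545 : (LP (LK LD1_c6 LD2_c50 LD3_c46)) = v13414 :=
  Lefun (Lecon (Lfl_gt (K59.f653860 IH)) (K59.f771500 IH).symm) (f702819 IH)
def v20122 : LQ := Led Lsl_ct (LP (LK LD1_c6 LD2_c50 LD3_c46))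
theorem f784892 : Led Lsl_ct (LP (LK LD1_c6 LD2_c50 LD3_c46)) = v20122 :=
  Lrfl
def v4342 : LQ := Led Lsl_gt (LP (LK LD1_c2 LD2_c19 LD3_c41))
theorem f632802 : Led Lsl_gt (LP (LK LD1_c2 LD2_c19 LD3_c41)) = v4342 :=
  Lrfl
theorem f527760 : Led Lsl_gt (LP (LK LD1_c3 LD2_c22 LD3_c57)) = K59.v2607 :=
  Lgr Lrot5 (Lpr_ft (K58.f95669 IH) (Lpr_at (K2.f95660 IH) (Lpr_gf (K59.f527759 IH) (Lpn K59.v2607))))
theorem f453648 : Led Lsl_at (LP (LK LD1_c1 LD2_c32 LD3_c61)) = (LP (LK LD1_c3 LD2_c13 LD3_c8)) :=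
  Lre_a IH (LK LD1_c1 LD2_c32 LD3_c61) (LK LD1_c3 LD2_c13 LD3_c8) Lrfl Lrfl
theorem f632803 : Led Lsl_gf (LP (LK LD1_c3 LD2_c13 LD3_c8)) = v4342 :=
  Lgr Lrot76 (Lpe (f453648 IH) (Lpe (K59.f505718 IH) (Lpr_gt (f632802 IH) (Lpn v4342))))
theorem f771571 : (LP (LK LD1_c3 LD2_c22 LD3_c57)) = v4342 :=
  Lefun (Lecon (Lfl_gt (f527760 IH)) (K59.f771547 IH)) (f632803 IH)
theorem f664474 : Led Lsl_gt (LP (LK LD1_c6 LD2_c49 LD3_c22)) = K59.v7313 :=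
  Lgr Lrot5 (Lpr_ft (K59.f95693 IH) (Lpr_at (K30.f95670 IH) (Lpr_gf (K59.f664473 IH) (Lpn K59.v7313))))
theorem f649904 : Led Lsl_dt K58.v2017 = K58.v5870 :=
  Lgr Lrot42 (Lpr_df (K58.f649903 IH) (Lpn K58.v5870))
def v20030 : LQ := Led Lsl_et (LP (LK LD1_c6 LD2_c49 LD3_c50))
theorem f784426 : Led Lsl_et (LP (LK LD1_c6 LD2_c49 LD3_c50)) = v20030 :=
  Lrfl
theorem f761924 : Led Lsl_gt K59.v8192 = K57.v17730 :=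
  Lgr Lrot149 (Lpe (K59.f670294 IH) (Lpe (K59.f504770 IH) (Lpe (K57.f79862 IH) (Lpr_ct (K32.f79851 IH) (Lpe (K31.f146034 IH) (Lpe (K6.f139833 IH) (Lpr_bt (K46.f139846 IH) (Lpe (K48.f134822 IH) (Lpr_bf (K57.f652019 IH) (Lpq (K57.f663679 IH) (Lpr_ct (K57.f761921 IH) (Lpn K57.v17730))))))))))))
theorem f91372 : Led Lsl_gt (LP (LK LD1_c3 LD2_c23 LD3_c15)) = (LP (LK LD1_c6 LD2_c49 LD3_c50)) :=
  Lre_g IH (LK LD1_c3 LD2_c23 LD3_c15) (LK LD1_c6 LD2_c49 LD3_c50) Lrfl Lrfl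
theorem f771511 : K57.v17730 = (LP (LK LD1_c6 LD2_c49 LD3_c50)) :=
  Lefun (Lecon (f761924 IH) (K59.f771465 IH)) (f91372 IH)
theorem f784427 : Led Lsl_cf K58.v10192 = v20030 :=
  Lgr Lrot39 (Lpe (K58.f679182 IH) (Lpr_ct (K65.f703698 IH) (Lpq (K65.f770691 IH) (Lpqs (f771511 IH) (Lpr_et (f784426 IH) (Lpn v20030))))))
theorem f784897 : Led Lsl_gf v20030 = v20122 :=
  Lgr Lrot104 (Lpe (f784427 IH) (Lpq (K58.f770692 IH) (Lpe (f649904 IH) (Lpr_cf (K59.f671064 IH) (Lpqs (K59.f772246 IH) (Lpe (f664474 IH) (Lpe (K59.f442199 IH) (Lpqs (f771571 IH) (Lpe (f632802 IH) (Lpe (K59.f26294 IH) (Lpqs (K59.f771566 IH) (Lpr_gt (K58.f654323 IH) (Lpr_ct (f784892 IH) (Lpn v20122))))))))))))))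
theorem f800973 : Led Lsl_dt v20030 = v22057 :=
  Lgr Lrot57 (Lpr_gf (f784897 IH) (Lpe (f784892 IH) (Lpqs (f771545 IH) (Lpe (f702819 IH) (Lpr_dt (K59.f632427 IH) (Lpq (K59.f771547 IH) (Lpe (K59.f527759 IH) (Lpr_dt (K59.f85157 IH) (Lpe (K59.f85159 IH) (Lpe (f85160 IH) (Lpr_gf (f800971 IH) (Lpn v22057))))))))))))
theorem f784428 : Led Lsl_ef (LP (LK LD1_c6 LD2_c49 LD3_c50)) = v20030 :=
  Lgr Lrot88 (Lpr_et (f784426 IH) (Lpn v20030))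
theorem f632419 : Led Lsl_dt (LP (LK LD1_c6 LD2_c21 LD3_c49)) = (LP (LK LD1_c12 LD2_c17 LD3_c22)) :=
  Lre_d IH (LK LD1_c6 LD2_c21 LD3_c49) (LK LD1_c12 LD2_c17 LD3_c22) Lrfl Lrfl
def v20005 : LQ := Led Lsl_dt (LP (LK LD1_c6 LD2_c49 LD3_c33))
theorem f784261 : Led Lsl_dt (LP (LK LD1_c6 LD2_c49 LD3_c33)) = v20005 :=
  Lrfl
theorem f784262 : Led Lsl_af (LP (LK LD1_c6 LD2_c49 LD3_c52)) = v20005 :=
  Lgr Lrot117 (Lpr_dt (f91375 IH) (Lpr_at (K3.f93273 IH) (Lpr_dt (f784261 IH) (Lpn v20005))))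
theorem f761952 : Led Lsl_ff (LP (LK LD1_c6 LD2_c21 LD3_c49)) = K59.v17733 :=
  Lgr Lrot3 (Lpr_ft (K59.f761949 IH) (Lpn K59.v17733))
theorem f761955 : Led Lsl_ct K59.v5496 = K59.v17733 :=
  Lgr Lrot40 (Lpe (K59.f647942 IH) (Lpe (K65.f614589 IH) (Lpr_ff (f761952 IH) (Lpn K59.v17733))))
theorem f93285 : Led Lsl_ct (LP (LK LD1_c3 LD2_c23 LD3_c2)) = (LP (LK LD1_c6 LD2_c49 LD3_c33)) :=
  Lre_c IH (LK LD1_c3 LD2_c23 LD3_c2) (LK LD1_c6 LD2_c49 LD3_c33) Lrfl Lrfl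
theorem f771453 : K59.v17733 = (LP (LK LD1_c6 LD2_c49 LD3_c33)) :=
  Lefun (Lecon (f761955 IH) (K59.f771451 IH)) (f93285 IH)
theorem f632421 : Led Lsl_dt (LP (LK LD1_c12 LD2_c17 LD3_c22)) = (LP (LK LD1_c6 LD2_c21 LD3_c49)) :=
  Lre_d IH (LK LD1_c12 LD2_c17 LD3_c22) (LK LD1_c6 LD2_c21 LD3_c49) Lrfl Lrfl
theorem f784264 : Led Lsl_ff (LP (LK LD1_c12 LD2_c17 LD3_c22)) = v20005 :=
  Lgr Lrot19 (Lpr_dt (f632421 IH) (Lpr_ft (K59.f761949 IH) (Lpqs (f771453 IH) (Lpr_dt (f784261 IH) (Lpn v20005)))))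
theorem f784265 : Led Lsl_ft (LP (LK LD1_c12 LD2_c17 LD3_c22)) = v20005 :=
  Lgr Lrot48 (Lpr_ff (f784264 IH) (Lpn v20005))
theorem f784443 : Led Lsl_gt (LP (LK LD1_c12 LD2_c17 LD3_c22)) = v20034 :=
  Lgr Lrot5 (Lpr_ft (f784265 IH) (Lpe (f784262 IH) (Lpr_gf (f784442 IH) (Lpn v20034))))
theorem f832938 : Led Lsl_df v20034 = v26282 :=
  Lgr Lrot132 (Lpe (f784443 IH) (Lpe (f632419 IH) (Lpr_gf (K57.f761918 IH) (Lpqs (f771511 IH) (Lpr_ef (f784428 IH) (Lpr_dt (f800973 IH) (Lpe (f800972 IH) (Lpe (f784155 IH) (Lpr_et (f675631 IH) (Lpe (K60.f675633 IH) (Lpr_ef (f832937 IH) (Lpn v26282))))))))))))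
theorem f871053 : Led Lsl_gf v26282 = v34476 :=
  Lgr Lrot148 (Lpe (f832938 IH) (Lpe (f784442 IH) (Lpr_dt (f91375 IH) (Lpr_ct (f69311 IH) (Lpe (K58.f90569 IH) (Lpq (f768748 IH) (Lpe (f648010 IH) (Lpr_df (K58.f627773 IH) (Lpr_gf (K59.f685950 IH) (Lpr_ct (f871050 IH) (Lpn v34476)))))))))))
def v10023 : LQ := Led Lsl_bt K60.v3153
def v30865 : LQ := Led Lsl_et v10023
theorem f856113 : Led Lsl_et v10023 = v30865 :=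
  Lrfl
theorem f678425 : Led Lsl_bt K60.v3153 = v10023 :=
  Lrfl
theorem f771239 : K60.v10195 = v10023 :=
  Lefun (Lecon (Lfl_bf (K60.f771210 IH)) (K60.f771237 IH)) (f678425 IH)
theorem f771235 : Led Lsl_cf K60.v10195 = K60.v6516 :=
  Lgr Lrot11 (Lpr_ct (K60.f771233 IH) (Lpn K60.v6516))
theorem f856116 : Led Lsl_cf v26282 = v30865 :=
  Lgr Lrot39 (Lpe (f832937 IH) (Lpe (f771235 IH) (Lpqs (f771239 IH) (Lpr_et (f856113 IH) (Lpn v30865)))))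
def v10026 : LQ := Led Lsl_et K60.v3153
theorem f678431 : Led Lsl_et K60.v3153 = v10026 :=
  Lrfl
theorem f678432 : Led Lsl_ef K60.v3153 = v10026 :=
  Lgr Lrot88 (Lpr_et (f678431 IH) (Lpn v10026))
theorem f856115 : Led Lsl_bf v10026 = v30865 :=
  Lgr Lrot96 (Lpe (f678432 IH) (Lpr_bt (f678425 IH) (Lpr_et (f856113 IH) (Lpn v30865))))
def v6166 : LQ := Led Lsl_gt (LP (LK LD1_c3 LD2_c18 LD3_c33))
def v26007 : LQ := Led Lsl_dt v6166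
theorem f831607 : Led Lsl_dt v6166 = v26007 :=
  Lrfl
theorem f831609 : Led Lsl_df v6166 = v26007 :=
  Lgr Lrot38 (Lpr_dt (f831607 IH) (Lpn v26007))
def v25703 : LQ := Led Lsl_dt K52.v5779
theorem f830072 : Led Lsl_dt K52.v5779 = v25703 :=
  Lrfl
theorem f830077 : Led Lsl_ff K48.v6163 = v25703 :=
  Lgr Lrot19 (Lpe (K48.f651589 IH) (Lpr_ft (K52.f650553 IH) (Lpq (K52.f662855 IH) (Lpr_dt (f830072 IH) (Lpn v25703)))))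
theorem f651588 : Led Lsl_af (LP (LK LD1_c3 LD2_c18 LD3_c33)) = K48.v6163 :=
  Lgr Lrot117 (Lpr_dt (K59.f62163 IH) (Lpr_at (K48.f453939 IH) (Lpr_dt (K48.f651587 IH) (Lpn K48.v6163))))
theorem f650570 : Led Lsl_ft (LP (LK LD1_c3 LD2_c18 LD3_c33)) = K59.v6018 :=
  Lgr Lrot48 (Lpr_ff (K59.f650568 IH) (Lpn K59.v6018))
theorem f830080 : Led Lsl_at K59.v6018 = v25703 :=
  Lgr Lrot66 (Lpe (f650570 IH) (Lpr_af (f651588 IH) (Lpr_ff (f830077 IH) (Lpn v25703))))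
theorem f651596 : Led Lsl_gt (LP (LK LD1_c3 LD2_c18 LD3_c33)) = v6166 :=
  Lrfl
theorem f830083 : Led Lsl_gt v6166 = v25703 :=
  Lgr Lrot46 (Lpe (f651596 IH) (Lpr_ft (f650570 IH) (Lpr_at (f830080 IH) (Lpn v25703))))
theorem f651592 : Led Lsl_et K46.v6016 = K48.v6163 :=
  Lgr Lrot87 (Lpr_ef (K48.f651591 IH) (Lpn K48.v6163))
def v13335 : LQ := Led Lsl_et (LP (LK LD1_c4 LD2_c43 LD3_c15))
theorem f702415 : Led Lsl_et (LP (LK LD1_c4 LD2_c43 LD3_c15)) = v13335 :=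
  Lrfl
theorem f702417 : Led Lsl_ef (LP (LK LD1_c4 LD2_c43 LD3_c15)) = v13335 :=
  Lgr Lrot88 (Lpr_et (f702415 IH) (Lpn v13335))
theorem f702398 : Led Lsl_et K60.v6410 = K50.v13334 :=
  Lgr Lrot74 (Lpe (K60.f653243 IH) (Lpr_ef (K49.f653249 IH) (Lpqs (K49.f675103 IH) (Lpr_bf (K50.f702396 IH) (Lpn K50.v13334)))))
theorem f702414 : Led Lsl_ef K60.v6410 = K50.v13334 :=
  Lgr Lrot88 (Lpr_et (f702398 IH) (Lpn K50.v13334))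
theorem f702418 : Led Lsl_ct K60.v6410 = v13335 :=
  Lgr Lrot15 (Lpr_ef (f702414 IH) (Lpe (K50.f702393 IH) (Lpr_ef (f702417 IH) (Lpn v13335))))
def v8847 : LQ := Led Lsl_ct K51.v2230
theorem f672470 : Led Lsl_ct K51.v2230 = v8847 :=
  Lrfl
theorem f702419 : Led Lsl_gf v8847 = v13335 :=
  Lgr Lrot126 (Lpe (f672470 IH) (Lpe (K51.f509764 IH) (Lpr_gt (K32.f509778 IH) (Lpe (K35.f509779 IH) (Lpr_gt (K24.f23212 IH) (Lpe (K24.f413642 IH) (Lpr_bt (K60.f413644 IH) (Lpr_gt (K49.f413645 IH) (Lpr_bf (K60.f653244 IH) (Lpr_ct (f702418 IH) (Lpn v13335)))))))))))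
theorem f672471 : Led Lsl_cf K51.v2230 = v8847 :=
  Lgr Lrot11 (Lpr_ct (f672470 IH) (Lpn v8847))
theorem f73756 : Led Lsl_ct (LP (LK LD1_c3 LD2_c24 LD3_c12)) = (LP (LK LD1_c1 LD2_c38 LD3_c22)) :=
  Lre_c IH (LK LD1_c3 LD2_c24 LD3_c12) (LK LD1_c1 LD2_c38 LD3_c22) Lrfl Lrfl
def v6609 : LQ := Led Lsl_gf (LP (LK LD1_c3 LD2_c24 LD3_c12))
theorem f654408 : Led Lsl_gf (LP (LK LD1_c3 LD2_c24 LD3_c12)) = v6609 :=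
  Lrfl
theorem f663078 : (LP (LK LD1_c3 LD2_c7 LD3_c44)) = v6609 :=
  Lefun (Lecon (Lfl_gt (K52.f647542 IH)) (K52.f663077 IH)) (f654408 IH)
def v7230 : LQ := Led Lsl_gf (LP (LK LD1_c3 LD2_c42 LD3_c59))
theorem f662567 : Led Lsl_gf (LP (LK LD1_c3 LD2_c42 LD3_c59)) = v7230 :=
  Lrfl
theorem f662568 : Led Lsl_gt (LP (LK LD1_c6 LD2_c30 LD3_c27)) = v7230 :=
  Lgr Lrot5 (Lpr_ft (K48.f124554 IH) (Lpe (K48.f139730 IH) (Lpr_gf (f662567 IH) (Lpn v7230))))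
theorem f663069 : (LP (LK LD1_c3 LD2_c18 LD3_c31)) = v7230 :=
  Lefun (Lecon (Lfl_gf (K48.f650542 IH)) (K48.f663068 IH)) (f662568 IH)
theorem f702420 : Led Lsl_gt K48.v6163 = K60.v6410 :=
  Lgr Lrot9 (Lpe (K48.f651587 IH) (Lpqs (f663069 IH) (Lpe (f662567 IH) (Lpr_ct (K49.f128951 IH) (Lpqs (f663078 IH) (Lpe (f654408 IH) (Lpr_ct (f73756 IH) (Lpr_df (K51.f509765 IH) (Lpr_cf (f672471 IH) (Lpr_gf (f702419 IH) (Lpe (f702418 IH) (Lpn K60.v6410))))))))))))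
theorem f650810 : Led Lsl_ef (LP (LK LD1_c3 LD2_c17 LD3_c5)) = K65.v6067 :=
  Lgr Lrot88 (Lpr_et (K65.f650809 IH) (Lpn K65.v6067))
theorem f769265 : K60.v6410 = K65.v6067 :=
  Lefun (Lecon (Lfl_ef (f702414 IH)) (K58.f769258 IH)) (K65.f650809 IH)
theorem f769278 : Led Lsl_gt K59.v17993 = K60.v17143 :=
  Lgr Lrot139 (Lpe (K59.f764579 IH) (Lpe (K48.f124831 IH) (Lpe (K51.f124830 IH) (Lpr_dt (K5.f82402 IH) (Lpe (K5.f124821 IH) (Lpr_df (K1.f61937 IH) (Lpr_et (K65.f61963 IH) (Lpe (K58.f61964 IH) (Lpr_ef (f650810 IH) (Lpq (f769265 IH) (Lpr_dt (K60.f756331 IH) (Lpn K60.v17143))))))))))))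
theorem f755080 : Led Lsl_af K48.v5231 = K59.v17096 :=
  Lgr Lrot117 (Lpe (K48.f646702 IH) (Lpr_at (K48.f502918 IH) (Lpr_dt (K59.f755079 IH) (Lpn K59.v17096))))
theorem f769279 : Led Lsl_gf K48.v5231 = K60.v17143 :=
  Lgr Lrot76 (Lpr_af (f755080 IH) (Lpr_ff (K59.f764582 IH) (Lpr_gt (f769278 IH) (Lpn K60.v17143))))
theorem f646703 : Led Lsl_et (LP (LK LD1_c3 LD2_c2 LD3_c18)) = (LP (LK LD1_c6 LD2_c11 LD3_c28)) :=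
  Lre_e IH (LK LD1_c3 LD2_c2 LD3_c18) (LK LD1_c6 LD2_c11 LD3_c28) Lrfl Lrfl
def v17100 : LQ := Led Lsl_gt (LP (LK LD1_c6 LD2_c11 LD3_c28))
theorem f755097 : Led Lsl_gt (LP (LK LD1_c6 LD2_c11 LD3_c28)) = v17100 :=
  Lrfl
theorem f831618 : Led Lsl_ef v17100 = v26007 :=
  Lgr Lrot17 (Lpe (f755097 IH) (Lpe (f646703 IH) (Lpr_dt (K48.f646699 IH) (Lpr_gf (f769279 IH) (Lpe (K60.f756331 IH) (Lpe (f702420 IH) (Lpe (f651592 IH) (Lpq (K52.f662855 IH) (Lpr_dt (f830072 IH) (Lpe (f830083 IH) (Lpr_df (f831609 IH) (Lpn v26007))))))))))))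
def v25887 : LQ := Led Lsl_gt K59.v6018
theorem f831016 : Led Lsl_gt K59.v6018 = v25887 :=
  Lrfl
def v6015 : LQ := Led Lsl_gf (LP (LK LD1_c3 LD2_c16 LD3_c23))
theorem f650546 : Led Lsl_gf (LP (LK LD1_c3 LD2_c16 LD3_c23)) = v6015 :=
  Lrfl
theorem f650555 : Led Lsl_gt (LP (LK LD1_c3 LD2_c18 LD3_c31)) = v6015 :=
  Lgr Lrot5 (Lpr_ft (K52.f650553 IH) (Lpe (K48.f650548 IH) (Lpr_gf (f650546 IH) (Lpn v6015))))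
theorem f663073 : (LP (LK LD1_c3 LD2_c42 LD3_c59)) = v6015 :=
  Lefun (Lecon (Lfl_gf (f662567 IH)) (f663069 IH).symm) (f650555 IH)
theorem f771170 : Led Lsl_af K60.v9279 = K60.v8485 :=
  Lgr Lrot36 (Lpe (K60.f674999 IH) (Lpe (K49.f527553 IH) (Lpr_bt (K58.f625470 IH) (Lpr_at (K60.f680964 IH) (Lpr_bt (K60.f771169 IH) (Lpn K60.v8485))))))
theorem f771183 : Led Lsl_ff K60.v8485 = K60.v9276 :=
  Lgr Lrot30 (Lpe (f771170 IH) (Lpe (K60.f675000 IH) (Lpr_at (K60.f674988 IH) (Lpn K60.v9276))))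
def v10027 : LQ := Led Lsl_ft K60.v3153
theorem f678433 : Led Lsl_ft K60.v3153 = v10027 :=
  Lrfl
theorem f771241 : K60.v8485 = v10027 :=
  Lefun (Lecon (Lfl_ff (f771183 IH)) (K60.f771237 IH)) (f678433 IH)
def v25107 : LQ := Led Lsl_gt K48.v5231
theorem f827057 : Led Lsl_gt K48.v5231 = v25107 :=
  Lrfl
theorem f827058 : Led Lsl_at K60.v10031 = v25107 :=
  Lgr Lrot26 (Lpe (K60.f771248 IH) (Lpe (f769279 IH) (Lpr_gt (f827057 IH) (Lpn v25107))))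
theorem f678434 : Led Lsl_af K60.v3154 = v10027 :=
  Lgr Lrot45 (Lpr_ft (K60.f678423 IH) (Lpe (K60.f678422 IH) (Lpr_ft (f678433 IH) (Lpn v10027))))
theorem f827062 : Led Lsl_ef v10027 = v25107 :=
  Lgr Lrot20 (Lpe (f678434 IH) (Lpr_et (K60.f678443 IH) (Lpr_at (f827058 IH) (Lpn v25107))))
theorem f831020 : Led Lsl_dt v25107 = v25887 :=
  Lgr Lrot56 (Lpe (f827062 IH) (Lpq (f771241 IH) (Lpe (K60.f671372 IH) (Lpe (K60.f508639 IH) (Lpr_dt (K51.f79286 IH) (Lpr_gt (K3.f79321 IH) (Lpe (K5.f26106 IH) (Lpr_et (K49.f79325 IH) (Lpqs (f663073 IH) (Lpe (f650546 IH) (Lpr_dt (K59.f650565 IH) (Lpr_gt (f831016 IH) (Lpn v25887)))))))))))))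
def v10207 : LQ := Led Lsl_at K65.v3231
theorem f679253 : Led Lsl_at K65.v3231 = v10207 :=
  Lrfl
theorem f679254 : Led Lsl_af K65.v3231 = v10207 :=
  Lgr Lrot0 (Lpr_at (f679253 IH) (Lpn v10207))
def v3232 : LQ := Led Lsl_gf K60.v590
theorem f624712 : Led Lsl_gf K60.v590 = v3232 :=
  Lrfl
theorem f679255 : Led Lsl_ft v3232 = v10207 :=
  Lgr Lrot2 (Lpe (f624712 IH) (Lpr_gt (K65.f624711 IH) (Lpr_af (f679254 IH) (Lpn v10207))))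
theorem f679256 : Led Lsl_ff v3232 = v10207 :=
  Lgr Lrot3 (Lpr_ft (f679255 IH) (Lpn v10207))
theorem f771213 : Led Lsl_ft K60.v10195 = K60.v10569 :=
  Lgr Lrot75 (Lpr_bf (K60.f771210 IH) (Lpr_ff (f771174 IH) (Lpe (K60.f771169 IH) (Lpn K60.v10569))))
theorem f771214 : Led Lsl_af K60.v10195 = K60.v9271 :=
  Lgr Lrot45 (Lpr_ft (f771213 IH) (Lpe (K60.f680965 IH) (Lpr_ft (K60.f674973 IH) (Lpn K60.v9271))))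
theorem f775392 : K60.v10195 = v10207 :=
  Lefun (Lecon (Lfl_af (f771214 IH)) (K65.f775390 IH)) (f679253 IH)
theorem f775396 : v3232 = K60.v10569 :=
  Lefun (Lecon (Lfl_ff (f679256 IH)) (f775392 IH).symm) (f771213 IH)
def v10216 : LQ := Led Lsl_et v3232
theorem f679275 : Led Lsl_et v3232 = v10216 :=
  Lrfl
theorem f827063 : Led Lsl_bt v10216 = v25107 :=
  Lgr Lrot119 (Lpe (f679275 IH) (Lpqs (f775396 IH) (Lpr_bf (K60.f771171 IH) (Lpqs (f771241 IH) (Lpr_ef (f827062 IH) (Lpn v25107))))))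
def v24027 : LQ := Led Lsl_gf K54.v4433
theorem f822037 : Led Lsl_gf K54.v4433 = v24027 :=
  Lrfl
theorem f633349 : Led Lsl_dt K35.v4408 = K54.v4433 :=
  Lgr Lrot42 (Lpr_df (K54.f633348 IH) (Lpn K54.v4433))
theorem f703673 : Led Lsl_ef K35.v4408 = K59.v13555 :=
  Lgr Lrot29 (Lpe (K35.f633191 IH) (Lpr_et (K49.f98968 IH) (Lpr_bt (K59.f703670 IH) (Lpn K59.v13555))))
theorem f703675 : Led Lsl_et K35.v4408 = K59.v13555 :=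
  Lgr Lrot87 (Lpr_ef (f703673 IH) (Lpn K59.v13555))
def v23990 : LQ := Led Lsl_dt K59.v4389
theorem f821767 : Led Lsl_dt K59.v4389 = v23990 :=
  Lrfl
theorem f632821 : Led Lsl_cf (LP (LK LD1_c2 LD2_c19 LD3_c41)) = K59.v4345 :=
  Lgr Lrot11 (Lpr_ct (K59.f632819 IH) (Lpn K59.v4345))
theorem f446005 : Led Lsl_ct (LP (LK LD1_c9 LD2_c20 LD3_c37)) = (LP (LK LD1_c4 LD2_c43 LD3_c47)) :=
  Lre_c IH (LK LD1_c9 LD2_c20 LD3_c37) (LK LD1_c4 LD2_c43 LD3_c47) Lrfl Lrfl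
theorem f821772 : Led Lsl_gf K59.v13555 = v23990 :=
  Lgr Lrot179 (Lpe (K59.f703672 IH) (Lpe (K59.f775200 IH) (Lpr_ct (f446005 IH) (Lpr_dt (K59.f26294 IH) (Lpr_cf (f632821 IH) (Lpqs (K59.f773955 IH) (Lpe (K59.f703357 IH) (Lpe (K59.f102311 IH) (Lpr_gf (K59.f633096 IH) (Lpr_dt (f821767 IH) (Lpn v23990)))))))))))
def v10187 : LQ := Led Lsl_dt K59.v3222
theorem f679168 : Led Lsl_dt K59.v3222 = v10187 :=
  Lrfl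
theorem f679169 : Led Lsl_df K59.v3222 = v10187 :=
  Lgr Lrot38 (Lpr_dt (f679168 IH) (Lpn v10187))
theorem f821771 : Led Lsl_ff v10187 = v23990 :=
  Lgr Lrot19 (Lpe (f679169 IH) (Lpr_ft (K59.f679172 IH) (Lpqs (K59.f770704 IH) (Lpqs (K59.f773953 IH) (Lpr_dt (f821767 IH) (Lpn v23990))))))
theorem f679165 : Led Lsl_bf K59.v3222 = K59.v10185 :=
  Lgr Lrot24 (Lpr_bt (K59.f679164 IH) (Lpn K59.v10185))
theorem f770714 : Led Lsl_bf K59.v18701 = v10187 :=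
  Lgr Lrot93 (Lpe (K59.f768105 IH) (Lpqs (K59.f663859 IH) (Lpqs (K59.f770713 IH) (Lpe (f679165 IH) (Lpr_dt (f679168 IH) (Lpn v10187))))))
theorem f770716 : Led Lsl_bt K59.v18701 = v10187 :=
  Lgr Lrot127 (Lpr_bf (f770714 IH) (Lpn v10187))
theorem f649885 : Led Lsl_bt (LP (LK LD1_c3 LD2_c14 LD3_c19)) = (LP (LK LD1_c6 LD2_c32 LD3_c14)) :=
  Lre_b IH (LK LD1_c3 LD2_c14 LD3_c19) (LK LD1_c6 LD2_c32 LD3_c14) Lrfl Lrfl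
def v18608 : LQ := Led Lsl_bt (LP (LK LD1_c6 LD2_c31 LD3_c16))
theorem f767707 : Led Lsl_bt (LP (LK LD1_c6 LD2_c31 LD3_c16)) = v18608 :=
  Lrfl
theorem f767708 : Led Lsl_bf (LP (LK LD1_c6 LD2_c31 LD3_c16)) = v18608 :=
  Lgr Lrot24 (Lpr_bt (f767707 IH) (Lpn v18608))
theorem f770717 : Led Lsl_af v18608 = v10187 :=
  Lgr Lrot36 (Lpe (f767708 IH) (Lpq (K57.f663644 IH) (Lpe (K46.f649879 IH) (Lpr_bt (f649885 IH) (Lpr_at (K59.f768103 IH) (Lpr_bt (f770716 IH) (Lpn v10187)))))))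
theorem f821773 : Led Lsl_gt K59.v13555 = v18608 :=
  Lgr Lrot46 (Lpr_gf (f821772 IH) (Lpe (f821771 IH) (Lpe (f770717 IH) (Lpn v18608))))
theorem f767709 : Led Lsl_df K58.v5824 = v18608 :=
  Lgr Lrot12 (Lpe (K58.f649598 IH) (Lpr_dt (K48.f148376 IH) (Lpr_bt (f767707 IH) (Lpn v18608))))
theorem f624674 : Led Lsl_dt K59.v3224 = K59.v3224 :=
  Lgr Lrot60 (Lpe (K59.f624672 IH) (Lpe (K58.f455013 IH) (Lpr_ff (K59.f624673 IH) (Lpn K59.v3224))))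
theorem f679194 : Led Lsl_gf v3232 = K60.v10194 :=
  Lgr Lrot47 (Lpe (f624712 IH) (Lpr_af (K65.f624676 IH) (Lpr_ff (K60.f679190 IH) (Lpn K60.v10194))))
theorem f679276 : Led Lsl_ef v3232 = v10216 :=
  Lgr Lrot88 (Lpr_et (f679275 IH) (Lpn v10216))
theorem f822039 : Led Lsl_dt v10216 = v24027 :=
  Lgr Lrot136 (Lpe (f679276 IH) (Lpr_gf (f679194 IH) (Lpe (K60.f679186 IH) (Lpr_dt (f624674 IH) (Lpe (K59.f633103 IH) (Lpq (K59.f773952 IH) (Lpr_df (f767709 IH) (Lpe (f821773 IH) (Lpe (f703675 IH) (Lpr_dt (f633349 IH) (Lpr_gf (f822037 IH) (Lpn v24027))))))))))))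
theorem f822041 : Led Lsl_df v10216 = v24027 :=
  Lgr Lrot38 (Lpr_dt (f822039 IH) (Lpn v24027))
theorem f831022 : Led Lsl_bf v24027 = v25887 :=
  Lgr Lrot93 (Lpe (f822041 IH) (Lpr_bt (f827063 IH) (Lpr_dt (f831020 IH) (Lpn v25887))))
def v10212 : LQ := Led Lsl_ft K65.v3231
theorem f679265 : Led Lsl_ft K65.v3231 = v10212 :=
  Lrfl
theorem f679267 : Led Lsl_ff K65.v3231 = v10212 :=
  Lgr Lrot3 (Lpr_ft (f679265 IH) (Lpn v10212))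
theorem f679268 : Led Lsl_at v3232 = v10212 :=
  Lgr Lrot66 (Lpr_ff (f679256 IH) (Lpe (f679253 IH) (Lpr_ff (f679267 IH) (Lpn v10212))))
theorem f775395 : K58.v3390 = v10212 :=
  Lefun (Lecon (Lfl_ff (K60.f674972 IH)) (K65.f775390 IH)) (f679265 IH)
def v10572 : LQ := Led Lsl_et K58.v3390
theorem f680972 : Led Lsl_et K58.v3390 = v10572 :=
  Lrfl
theorem f775399 : Led Lsl_af v10216 = v10572 :=
  Lgr Lrot50 (Lpe (f679276 IH) (Lpr_at (f679268 IH) (Lpq (f775395 IH) (Lpr_et (f680972 IH) (Lpn v10572)))))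
theorem f775400 : Led Lsl_at v10216 = v10572 :=
  Lgr Lrot100 (Lpr_af (f775399 IH) (Lpn v10572))
theorem f680974 : Led Lsl_ef K58.v3390 = v10572 :=
  Lgr Lrot88 (Lpr_et (f680972 IH) (Lpn v10572))
theorem f680975 : Led Lsl_bt K48.v3393 = v10572 :=
  Lgr Lrot119 (Lpe (K48.f625476 IH) (Lpr_bf (K58.f625471 IH) (Lpr_ef (f680974 IH) (Lpn v10572))))
def v8724 : LQ := Led Lsl_bt K48.v2180
theorem f672089 : Led Lsl_bt K48.v2180 = v8724 :=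
  Lrfl
theorem f672090 : Led Lsl_bf K48.v2180 = v8724 :=
  Lgr Lrot24 (Lpr_bt (f672089 IH) (Lpn v8724))
theorem f680976 : Led Lsl_df v8724 = v10572 :=
  Lgr Lrot12 (Lpe (f672090 IH) (Lpr_dt (K49.f662777 IH) (Lpr_bt (f680975 IH) (Lpn v10572))))
theorem f822042 : Led Lsl_at v8724 = v24027 :=
  Lgr Lrot51 (Lpr_df (f680976 IH) (Lpe (f775400 IH) (Lpr_df (f822041 IH) (Lpn v24027))))
def v6402 : LQ := Led Lsl_bt (LP (LK LD1_c3 LD2_c21 LD3_c19))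
theorem f653225 : Led Lsl_bt (LP (LK LD1_c3 LD2_c21 LD3_c19)) = v6402 :=
  Lrfl
theorem f675182 : Led Lsl_ff v8724 = v6402 :=
  Lgr Lrot25 (Lpe (f672090 IH) (Lpqs (K49.f675149 IH) (Lpe (K49.f653213 IH) (Lpr_bt (f653225 IH) (Lpn v6402)))))
def v4432 : LQ := Led Lsl_dt (LP (LK LD1_c2 LD2_c21 LD3_c29))
def v24023 : LQ := Led Lsl_gf v4432
theorem f822007 : Led Lsl_gf v4432 = v24023 :=
  Lrfl
def v24021 : LQ := Led Lsl_dt K49.v4431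
theorem f821992 : Led Lsl_dt K49.v4431 = v24021 :=
  Lrfl
theorem f633339 : Led Lsl_dt (LP (LK LD1_c2 LD2_c21 LD3_c29)) = v4432 :=
  Lrfl
theorem f633341 : Led Lsl_df (LP (LK LD1_c2 LD2_c21 LD3_c29)) = v4432 :=
  Lgr Lrot38 (Lpr_dt (f633339 IH) (Lpn v4432))
theorem f821993 : Led Lsl_af v4432 = v24021 :=
  Lgr Lrot117 (Lpe (f633341 IH) (Lpr_at (K49.f633337 IH) (Lpr_dt (f821992 IH) (Lpn v24021))))
def v24022 : LQ := Led Lsl_et K49.v4431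
theorem f821996 : Led Lsl_et K49.v4431 = v24022 :=
  Lrfl
theorem f821999 : Led Lsl_ef K49.v4431 = v24022 :=
  Lgr Lrot88 (Lpr_et (f821996 IH) (Lpn v24022))
def v9199 : LQ := Led Lsl_ft K49.v2513
theorem f674219 : Led Lsl_ft K49.v2513 = v9199 :=
  Lrfl
theorem f674224 : Led Lsl_ff K49.v2513 = v9199 :=
  Lgr Lrot3 (Lpr_ft (f674219 IH) (Lpn v9199))
theorem f128965 : Led Lsl_at (LP (LK LD1_c1 LD2_c33 LD3_c4)) = (LP (LK LD1_c1 LD2_c48 LD3_c31)) :=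
  Lgr Lrot107 (Lpr_cf (K5.f124538 IH) (Lpr_af (K5.f128963 IH) (Lpe (K5.f124234 IH) (Lpn (LP (LK LD1_c1 LD2_c48 LD3_c31))))))
theorem f121296 : Led Lsl_at (LP (LK LD1_c0 LD2_c51 LD3_c2)) = (LP (LK LD1_c0 LD2_c43 LD3_c20)) :=
  Lgr Lrot51 (Lpe (K7.f13597 IH) (Lpr_af (K4.f121290 IH) (Lpe (K4.f23695 IH) (Lpn (LP (LK LD1_c0 LD2_c43 LD3_c20))))))
theorem f440070 : Led Lsl_af (LP (LK LD1_c1 LD2_c47 LD3_c8)) = (LP (LK LD1_c1 LD2_c33 LD3_c25)) :=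
  Lgr Lrot36 (Lpe (K49.f124563 IH) (Lpr_at (f128965 IH) (Lpr_bt (K6.f121259 IH) (Lpr_at (f121296 IH) (Lpr_bt (K4.f94024 IH) (Lpn (LP (LK LD1_c1 LD2_c33 LD3_c25))))))))
theorem f523706 : Led Lsl_af (LP (LK LD1_c3 LD2_c13 LD3_c44)) = K49.v2513 :=
  Lgr Lrot50 (Lpr_et (K54.f94025 IH) (Lpe (f440070 IH) (Lpr_et (K49.f523705 IH) (Lpn K49.v2513))))
theorem f674229 : Led Lsl_gf K54.v5811 = v9199 :=
  Lgr Lrot47 (Lpe (K54.f649539 IH) (Lpr_af (f523706 IH) (Lpr_ff (f674224 IH) (Lpn v9199))))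
theorem f674230 : Led Lsl_gt K49.v4431 = v9199 :=
  Lgr Lrot5 (Lpr_ft (K49.f673983 IH) (Lpe (K49.f673984 IH) (Lpqs (K51.f674021 IH) (Lpq (K54.f663085 IH) (Lpr_gf (f674229 IH) (Lpn v9199))))))
theorem f523712 : Led Lsl_dt (LP (LK LD1_c3 LD2_c25 LD3_c32)) = K49.v2513 :=
  Lgr Lrot77 (Lpe (K51.f209541 IH) (Lpr_df (K11.f209546 IH) (Lpe (K5.f124691 IH) (Lpe (K5.f107268 IH) (Lpr_ef (K49.f523709 IH) (Lpn K49.v2513))))))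
def v6676 : LQ := Led Lsl_ft (LP (LK LD1_c3 LD2_c25 LD3_c32))
theorem f657635 : Led Lsl_ft (LP (LK LD1_c3 LD2_c25 LD3_c32)) = v6676 :=
  Lrfl
theorem f657637 : Led Lsl_ff (LP (LK LD1_c3 LD2_c25 LD3_c32)) = v6676 :=
  Lgr Lrot3 (Lpr_ft (f657635 IH) (Lpn v6676))
theorem f674222 : Led Lsl_df v6676 = v9199 :=
  Lgr Lrot78 (Lpe (f657637 IH) (Lpr_dt (f523712 IH) (Lpr_ft (f674219 IH) (Lpn v9199))))
def v9257 : LQ := Led Lsl_gf K54.v2562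
theorem f674925 : Led Lsl_gf K54.v2562 = v9257 :=
  Lrfl
theorem f527497 : Led Lsl_at (LP (LK LD1_c3 LD2_c25 LD3_c32)) = K54.v2562 :=
  Lgr Lrot80 (Lpe (K51.f209541 IH) (Lpr_af (K11.f209535 IH) (Lpr_ef (K54.f527496 IH) (Lpn K54.v2562))))
theorem f674926 : Led Lsl_gt v6676 = v9257 :=
  Lgr Lrot5 (Lpe (f657637 IH) (Lpr_at (f527497 IH) (Lpr_gf (f674925 IH) (Lpn v9257))))
def v17295 : LQ := Led Lsl_et (LP (LK LD1_c6 LD2_c17 LD3_c30))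
theorem f758221 : Led Lsl_et (LP (LK LD1_c6 LD2_c17 LD3_c30)) = v17295 :=
  Lrfl
theorem f758223 : Led Lsl_ef (LP (LK LD1_c6 LD2_c17 LD3_c30)) = v17295 :=
  Lgr Lrot88 (Lpr_et (f758221 IH) (Lpn v17295))
theorem f94204 : Led Lsl_et (LP (LK LD1_c1 LD2_c33 LD3_c33)) = (LP (LK LD1_c3 LD2_c13 LD3_c59)) :=
  Lre_e IH (LK LD1_c1 LD2_c33 LD3_c33) (LK LD1_c3 LD2_c13 LD3_c59) Lrfl Lrfl
theorem f494931 : Led Lsl_cf (LP (LK LD1_c3 LD2_c22 LD3_c54)) = K30.v1339 :=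
  Lgr Lrot11 (Lpr_ct (K30.f494930 IH) (Lpn K30.v1339))
theorem f494944 : Led Lsl_af K30.v1339 = (LP (LK LD1_c1 LD2_c33 LD3_c33)) :=
  Lgr Lrot68 (Lpe (f494931 IH) (Lpr_at (K51.f494940 IH) (Lpr_ct (K2.f68341 IH) (Lpn (LP (LK LD1_c1 LD2_c33 LD3_c33))))))
theorem f494955 : Led Lsl_at K30.v1339 = (LP (LK LD1_c1 LD2_c33 LD3_c33)) :=
  Lgr Lrot100 (Lpr_af (f494944 IH) (Lpn (LP (LK LD1_c1 LD2_c33 LD3_c33))))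
theorem f649746 : Led Lsl_ef K30.v1339 = K51.v5837 :=
  Lgr Lrot20 (Lpr_at (f494955 IH) (Lpr_et (f94204 IH) (Lpr_at (K51.f649742 IH) (Lpn K51.v5837))))
theorem f494956 : Led Lsl_bt K30.v1339 = (LP (LK LD1_c1 LD2_c34 LD3_c36)) :=
  Lgr Lrot62 (Lpr_af (f494944 IH) (Lpe (K11.f94210 IH) (Lpr_af (K46.f209485 IH) (Lpr_bf (K7.f116063 IH) (Lpe (K30.f208077 IH) (Lpn (LP (LK LD1_c1 LD2_c34 LD3_c36))))))))
theorem f649747 : Led Lsl_bt (LP (LK LD1_c3 LD2_c15 LD3_c45)) = K51.v5837 :=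
  Lgr Lrot119 (Lpe (K50.f128919 IH) (Lpe (f494956 IH) (Lpr_ef (f649746 IH) (Lpn K51.v5837))))
theorem f663538 : Led Lsl_gf (LP (LK LD1_c6 LD2_c17 LD3_c30)) = K51.v5837 :=
  Lgr Lrot181 (Lpr_ct (K56.f58362 IH) (Lpe (K56.f444209 IH) (Lpe (K56.f66930 IH) (Lpr_bt (K1.f66927 IH) (Lpr_gt (K32.f443219 IH) (Lpe (K48.f416064 IH) (Lpr_ct (K48.f416065 IH) (Lpr_gt (K52.f663536 IH) (Lpr_cf (K50.f128920 IH) (Lpr_bt (f649747 IH) (Lpn K51.v5837)))))))))))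
theorem f649749 : Led Lsl_et K30.v1339 = K51.v5837 :=
  Lgr Lrot87 (Lpr_ef (f649746 IH) (Lpn K51.v5837))
theorem f494928 : Led Lsl_df (LP (LK LD1_c1 LD2_c38 LD3_c31)) = K30.v1339 :=
  Lgr Lrot155 (Lpr_gt (K5.f104323 IH) (Lpr_ct (K2.f19345 IH) (Lpr_gt (K2.f18617 IH) (Lpe (K2.f66801 IH) (Lpr_dt (K2.f66811 IH) (Lpe (K2.f66847 IH) (Lpr_gf (K3.f99091 IH) (Lpe (K3.f99090 IH) (Lpr_gf (K30.f494924 IH) (Lpn K30.v1339))))))))))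
theorem f209530 : Led Lsl_df (LP (LK LD1_c1 LD2_c26 LD3_c25)) = (LP (LK LD1_c1 LD2_c48 LD3_c41)) :=
  Lgr Lrot78 (Lpe (K4.f121316 IH) (Lpe (K2.f94200 IH) (Lpr_ft (K11.f209528 IH) (Lpn (LP (LK LD1_c1 LD2_c48 LD3_c41))))))
theorem f527499 : Led Lsl_dt (LP (LK LD1_c3 LD2_c13 LD3_c44)) = K54.v2562 :=
  Lgr Lrot77 (Lpe (K49.f94652 IH) (Lpe (K2.f23700 IH) (Lpe (K4.f106136 IH) (Lpr_df (f209530 IH) (Lpr_ef (K54.f527496 IH) (Lpn K54.v2562))))))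
theorem f758225 : Led Lsl_df v9257 = v17295 :=
  Lgr Lrot170 (Lpe (f674925 IH) (Lpe (f527499 IH) (Lpr_et (K54.f94025 IH) (Lpe (K2.f94650 IH) (Lpr_dt (K2.f83743 IH) (Lpr_gt (K2.f12663 IH) (Lpr_df (f494928 IH) (Lpr_et (f649749 IH) (Lpe (f663538 IH) (Lpr_ef (f758223 IH) (Lpn v17295)))))))))))
theorem f444211 : Led Lsl_ct (LP (LK LD1_c3 LD2_c5 LD3_c58)) = (LP (LK LD1_c6 LD2_c17 LD3_c31)) :=
  Lre_c IH (LK LD1_c3 LD2_c5 LD3_c58) (LK LD1_c6 LD2_c17 LD3_c31) Lrfl Lrfl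
theorem f647040 : Led Lsl_bt (LP (LK LD1_c3 LD2_c5 LD3_c58)) = (LP (LK LD1_c6 LD2_c17 LD3_c30)) :=
  Lre_b IH (LK LD1_c3 LD2_c5 LD3_c58) (LK LD1_c6 LD2_c17 LD3_c30) Lrfl Lrfl
theorem f444212 : Led Lsl_gt (LP (LK LD1_c6 LD2_c17 LD3_c31)) = (LP (LK LD1_c12 LD2_c11 LD3_c32)) :=
  Lre_g IH (LK LD1_c6 LD2_c17 LD3_c31) (LK LD1_c12 LD2_c11 LD3_c32) Lrfl Lrfl
theorem f715598 : Led Lsl_ct (LP (LK LD1_c6 LD2_c28 LD3_c37)) = (LP (LK LD1_c12 LD2_c11 LD3_c32)) :=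
  Lgr Lrot10 (Lpr_bt (K51.f128626 IH) (Lpqs (K57.f708174 IH) (Lpe (K57.f647240 IH) (Lpr_ct (K48.f416065 IH) (Lpr_gt (K52.f663536 IH) (Lpr_cf (K50.f128920 IH) (Lpr_bt (f649747 IH) (Lpe (f663538 IH) (Lpe (f647040 IH) (Lpr_ct (f444211 IH) (Lpr_gt (f444212 IH) (Lpn (LP (LK LD1_c12 LD2_c11 LD3_c32))))))))))))))
theorem f128671 : Led Lsl_ft (LP (LK LD1_c3 LD2_c12 LD3_c16)) = (LP (LK LD1_c6 LD2_c28 LD3_c37)) :=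
  Lre_f IH (LK LD1_c3 LD2_c12 LD3_c16) (LK LD1_c6 LD2_c28 LD3_c37) Lrfl Lrfl
theorem f715609 : Led Lsl_ff (LP (LK LD1_c6 LD2_c28 LD3_c33)) = (LP (LK LD1_c12 LD2_c11 LD3_c32)) :=
  Lgr Lrot23 (Lpr_ct (K59.f128672 IH) (Lpr_ft (f128671 IH) (Lpr_ct (f715598 IH) (Lpn (LP (LK LD1_c12 LD2_c11 LD3_c32))))))
theorem f128680 : Led Lsl_at (LP (LK LD1_c6 LD2_c28 LD3_c33)) = (LP (LK LD1_c4 LD2_c44 LD3_c45)) :=
  Lgr Lrot100 (Lpr_af (K59.f128673 IH) (Lpn (LP (LK LD1_c4 LD2_c44 LD3_c45))))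
theorem f715614 : Led Lsl_at (LP (LK LD1_c9 LD2_c22 LD3_c10)) = (LP (LK LD1_c12 LD2_c11 LD3_c32)) :=
  Lgr Lrot66 (Lpe (K59.f128565 IH) (Lpe (f128680 IH) (Lpr_ff (f715609 IH) (Lpn (LP (LK LD1_c12 LD2_c11 LD3_c32))))))
def v13514 : LQ := Led Lsl_gt (LP (LK LD1_c4 LD2_c44 LD3_c45))
theorem f703413 : Led Lsl_gt (LP (LK LD1_c4 LD2_c44 LD3_c45)) = v13514 :=
  Lrfl
theorem f715626 : v13514 = (LP (LK LD1_c6 LD2_c17 LD3_c31)) :=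
  (Llr Lrot5 (Lpe (f703413 IH) (Lpr_ft (K59.f128565 IH) (Lpr_at (f715614 IH) (Lpe (f444212 IH) (Lpn (LP (LK LD1_c6 LD2_c17 LD3_c31)))))))).symm
theorem f209363 : Led Lsl_bt (LP (LK LD1_c3 LD2_c14 LD3_c3)) = (LP (LK LD1_c6 LD2_c31 LD3_c33)) :=
  Lre_b IH (LK LD1_c3 LD2_c14 LD3_c3) (LK LD1_c6 LD2_c31 LD3_c33) Lrfl Lrfl
theorem f715631 : Led Lsl_gt (LP (LK LD1_c6 LD2_c17 LD3_c30)) = (LP (LK LD1_c6 LD2_c31 LD3_c33)) :=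
  Lgr Lrot164 (Lpe (f647040 IH) (Lpr_ct (f444211 IH) (Lpq (f715626 IH) (Lpe (f703413 IH) (Lpe (K59.f128669 IH) (Lpe (K51.f128677 IH) (Lpr_bf (K51.f708159 IH) (Lpr_ct (K51.f663046 IH) (Lpe (K51.f209410 IH) (Lpe (K49.f209359 IH) (Lpr_bt (f209363 IH) (Lpn (LP (LK LD1_c6 LD2_c31 LD3_c33))))))))))))))
def v7258 : LQ := Led Lsl_bt (LP (LK LD1_c3 LD2_c43 LD3_c20))
theorem f662689 : Led Lsl_bt (LP (LK LD1_c3 LD2_c43 LD3_c20)) = v7258 :=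
  Lrfl
theorem f209365 : Led Lsl_et (LP (LK LD1_c3 LD2_c14 LD3_c3)) = (LP (LK LD1_c3 LD2_c43 LD3_c20)) :=
  Lgr Lrot87 (Lpr_ef (K49.f209361 IH) (Lpn (LP (LK LD1_c3 LD2_c43 LD3_c20))))
theorem f209369 : Led Lsl_bt (LP (LK LD1_c6 LD2_c31 LD3_c33)) = (LP (LK LD1_c3 LD2_c14 LD3_c3)) :=
  Lre_b IH (LK LD1_c6 LD2_c31 LD3_c33) (LK LD1_c3 LD2_c14 LD3_c3) Lrfl Lrfl
theorem f662693 : Led Lsl_ef (LP (LK LD1_c6 LD2_c31 LD3_c33)) = v7258 :=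
  Lgr Lrot29 (Lpr_bt (f209369 IH) (Lpr_et (f209365 IH) (Lpr_bt (f662689 IH) (Lpn v7258))))
theorem f649541 : Led Lsl_bf K48.v2009 = K49.v5812 :=
  Lgr Lrot61 (Lpe (K48.f506867 IH) (Lpr_bt (K54.f129283 IH) (Lpr_ft (K49.f649540 IH) (Lpn K49.v5812))))
theorem f662692 : Led Lsl_df K49.v5812 = v7258 :=
  Lgr Lrot12 (Lpe (f649541 IH) (Lpe (K48.f506865 IH) (Lpr_bt (f662689 IH) (Lpn v7258))))
theorem f822002 : Led Lsl_df K49.v9198 = v24022 :=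
  Lgr Lrot168 (Lpe (K49.f673980 IH) (Lpr_df (f662692 IH) (Lpe (f662693 IH) (Lpe (f715631 IH) (Lpr_ef (f758223 IH) (Lpe (f758225 IH) (Lpe (f674926 IH) (Lpr_df (f674222 IH) (Lpe (f674230 IH) (Lpr_ef (f821999 IH) (Lpn v24022)))))))))))
theorem f822004 : Led Lsl_ft v24021 = v24022 :=
  Lgr Lrot54 (Lpe (f821992 IH) (Lpr_ff (K49.f673981 IH) (Lpr_df (f822002 IH) (Lpn v24022))))
theorem f822005 : Led Lsl_ff v24021 = v24022 :=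
  Lgr Lrot3 (Lpr_ft (f822004 IH) (Lpn v24022))
theorem f822008 : Led Lsl_gt v24022 = v24023 :=
  Lgr Lrot5 (Lpe (f822005 IH) (Lpe (f821993 IH) (Lpr_gf (f822007 IH) (Lpn v24023))))
theorem f822000 : Led Lsl_at K54.v4433 = v24022 :=
  Lgr Lrot80 (Lpe (K54.f633343 IH) (Lpr_af (K49.f633338 IH) (Lpr_ef (f821999 IH) (Lpn v24022))))
theorem f674192 : Led Lsl_ff v4432 = K54.v4433 :=
  Lgr Lrot19 (Lpe (f633341 IH) (Lpr_ft (K49.f633350 IH) (Lpqs (K51.f674021 IH) (Lpr_dt (f633349 IH) (Lpn K54.v4433)))))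
theorem f674194 : Led Lsl_ft v4432 = K54.v4433 :=
  Lgr Lrot48 (Lpr_ff (f674192 IH) (Lpn K54.v4433))
def v10196 : LQ := Led Lsl_gf K60.v3225
theorem f679198 : Led Lsl_gf K60.v3225 = v10196 :=
  Lrfl
theorem f102316 : Led Lsl_dt (LP (LK LD1_c1 LD2_c7 LD3_c31)) = (LP (LK LD1_c0 LD2_c30 LD3_c59)) :=
  Lre_d IH (LK LD1_c1 LD2_c7 LD3_c31) (LK LD1_c0 LD2_c30 LD3_c59) Lrfl Lrfl
theorem f102366 : Led Lsl_ft (LP (LK LD1_c0 LD2_c46 LD3_c22)) = (LP (LK LD1_c1 LD2_c7 LD3_c31)) :=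
  Lgr Lrot54 (Lpe (K2.f26118 IH) (Lpr_ff (K3.f102352 IH) (Lpe (f102316 IH) (Lpn (LP (LK LD1_c1 LD2_c7 LD3_c31))))))
theorem f455015 : Led Lsl_af (LP (LK LD1_c0 LD2_c46 LD3_c22)) = K54.v583 :=
  Lgr Lrot45 (Lpr_ft (f102366 IH) (Lpe (K59.f102906 IH) (Lpr_ft (K54.f455014 IH) (Lpn K54.v583))))
theorem f624679 : Led Lsl_at K60.v590 = K60.v3225 :=
  Lgr Lrot80 (Lpe (K60.f455069 IH) (Lpr_af (f455015 IH) (Lpr_ef (K60.f624678 IH) (Lpn K60.v3225))))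
theorem f624718 : Led Lsl_ff K60.v590 = K60.v3234 :=
  Lgr Lrot3 (Lpr_ft (K60.f624717 IH) (Lpn K60.v3234))
theorem f679199 : Led Lsl_gt K60.v3234 = v10196 :=
  Lgr Lrot5 (Lpe (f624718 IH) (Lpr_at (f624679 IH) (Lpr_gf (f679198 IH) (Lpn v10196))))
theorem f771216 : v10196 = K58.v3390 :=
  (Llr Lrot46 (Lpe (f679199 IH) (Lpr_gf (K60.f679197 IH) (Lpr_ft (f771213 IH) (Lpe (K60.f680965 IH) (Lpn K58.v3390)))))).symm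
theorem f771219 : Led Lsl_gt v4432 = v8724 :=
  Lgr Lrot139 (Lpe (f633339 IH) (Lpr_gf (K49.f633335 IH) (Lpqs (K49.f663084 IH) (Lpe (K49.f523705 IH) (Lpr_dt (K5.f107268 IH) (Lpr_gf (K3.f107261 IH) (Lpr_df (K54.f455017 IH) (Lpr_et (K60.f624675 IH) (Lpr_gf (f679198 IH) (Lpqs (f771216 IH) (Lpr_ef (f680974 IH) (Lpe (f680976 IH) (Lpn v8724)))))))))))))
theorem f822006 : Led Lsl_gt v8724 = v24022 :=
  Lgr Lrot46 (Lpe (f771219 IH) (Lpr_ft (f674194 IH) (Lpr_at (f822000 IH) (Lpn v24022))))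
theorem f675185 : Led Lsl_ft v8724 = v6402 :=
  Lgr Lrot48 (Lpr_ff (f675182 IH) (Lpn v6402))
theorem f822009 : Led Lsl_at v6402 = v24023 :=
  Lgr Lrot26 (Lpe (f675185 IH) (Lpr_gt (f822006 IH) (Lpr_gt (f822008 IH) (Lpn v24023))))
theorem f822010 : Led Lsl_af v6402 = v24023 :=
  Lgr Lrot0 (Lpr_at (f822009 IH) (Lpn v24023))
theorem f822043 : Led Lsl_ff v24023 = v24027 :=
  Lgr Lrot30 (Lpe (f822010 IH) (Lpe (f675182 IH) (Lpr_at (f822042 IH) (Lpn v24027))))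
theorem f653222 : Led Lsl_af (LP (LK LD1_c3 LD2_c21 LD3_c19)) = K49.v6401 :=
  Lgr Lrot45 (Lpr_ft (K49.f653212 IH) (Lpe (K49.f653211 IH) (Lpr_ft (K49.f653221 IH) (Lpn K49.v6401))))
theorem f772365 : Led Lsl_at K60.v6410 = v6166 :=
  Lgr Lrot26 (Lpe (K60.f675199 IH) (Lpqs (K60.f772364 IH) (Lpe (K60.f651597 IH) (Lpr_gt (f651596 IH) (Lpn v6166)))))
theorem f772366 : Led Lsl_af K60.v6410 = v6166 :=
  Lgr Lrot0 (Lpr_at (f772365 IH) (Lpn v6166))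
theorem f822011 : Led Lsl_bf v6166 = v24023 :=
  Lgr Lrot81 (Lpe (f772366 IH) (Lpe (K60.f653244 IH) (Lpqs (K49.f675150 IH) (Lpe (f653222 IH) (Lpr_bt (f653225 IH) (Lpr_at (f822009 IH) (Lpn v24023)))))))
theorem f831024 : Led Lsl_ft v6166 = v25887 :=
  Lgr Lrot75 (Lpr_bf (f822011 IH) (Lpr_ff (f822043 IH) (Lpr_bf (f831022 IH) (Lpn v25887))))
theorem f831025 : Led Lsl_ff v6166 = v25887 :=
  Lgr Lrot3 (Lpr_ft (f831024 IH) (Lpn v25887))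
theorem f831610 : Led Lsl_ff v25107 = v26007 :=
  Lgr Lrot19 (Lpr_dt (f831020 IH) (Lpe (f831025 IH) (Lpr_dt (f831607 IH) (Lpn v26007))))
theorem f831617 : Led Lsl_ft v25107 = v26007 :=
  Lgr Lrot48 (Lpr_ff (f831610 IH) (Lpn v26007))
theorem f827064 : Led Lsl_et v10027 = v25107 :=
  Lgr Lrot87 (Lpr_ef (f827062 IH) (Lpn v25107))
theorem f831622 : Led Lsl_ft v17100 = v10026 :=
  Lgr Lrot86 (Lpr_ef (f831618 IH) (Lpe (f831617 IH) (Lpe (f827064 IH) (Lpq (f771241 IH) (Lpr_ff (f771183 IH) (Lpqs (K60.f771237 IH) (Lpr_ef (f678432 IH) (Lpn v10026))))))))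
theorem f831624 : Led Lsl_ff v17100 = v10026 :=
  Lgr Lrot3 (Lpr_ft (f831622 IH) (Lpn v10026))
theorem f772367 : Led Lsl_ef K58.v6064 = v6166 :=
  Lgr Lrot20 (Lpe (K58.f650802 IH) (Lpr_et (K65.f650809 IH) (Lpq (f769265 IH) (Lpr_at (f772365 IH) (Lpn v6166)))))
def v16999 : LQ := Led Lsl_dt (LP (LK LD1_c6 LD2_c10 LD3_c16))
theorem f754106 : Led Lsl_dt (LP (LK LD1_c6 LD2_c10 LD3_c16)) = v16999 :=
  Lrfl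
theorem f831611 : Led Lsl_gt v16999 = v26007 :=
  Lgr Lrot139 (Lpe (f754106 IH) (Lpqs (K48.f663119 IH) (Lpe (K48.f649694 IH) (Lpe (K48.f160780 IH) (Lpe (f147511 IH) (Lpr_gf (K3.f104326 IH) (Lpr_df (K3.f77870 IH) (Lpr_et (K65.f77872 IH) (Lpr_gf (K58.f650774 IH) (Lpq (K58.f769417 IH) (Lpr_ef (f772367 IH) (Lpr_dt (f831607 IH) (Lpn v26007)))))))))))))
theorem f754109 : Led Lsl_ff K48.v5231 = v16999 :=
  Lgr Lrot19 (Lpe (K48.f646702 IH) (Lpr_ft (K48.f646706 IH) (Lpqs (K51.f663209 IH) (Lpr_dt (f754106 IH) (Lpn v16999)))))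
theorem f755082 : Led Lsl_at K48.v5231 = K59.v17096 :=
  Lgr Lrot51 (Lpe (K48.f646699 IH) (Lpe (K48.f502917 IH) (Lpr_df (K59.f755081 IH) (Lpn K59.v17096))))
theorem f831612 : Led Lsl_gf K59.v17096 = v26007 :=
  Lgr Lrot76 (Lpe (f755082 IH) (Lpr_ff (f754109 IH) (Lpr_gt (f831611 IH) (Lpn v26007))))
theorem f827060 : Led Lsl_af K60.v10031 = v25107 :=
  Lgr Lrot0 (Lpr_at (f827058 IH) (Lpn v25107))
theorem f831613 : Led Lsl_gt K59.v17096 = K60.v10031 :=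
  Lgr Lrot46 (Lpr_gf (f831612 IH) (Lpe (f831610 IH) (Lpe (f827060 IH) (Lpn K60.v10031))))
theorem f663152 : Led Lsl_af (LP (LK LD1_c6 LD2_c25 LD3_c39)) = K48.v5232 :=
  Lgr Lrot45 (Lpr_ft (K48.f663150 IH) (Lpr_at (K48.f502917 IH) (Lpr_ft (K48.f646706 IH) (Lpn K48.v5232))))
theorem f754108 : Led Lsl_df (LP (LK LD1_c6 LD2_c10 LD3_c16)) = v16999 :=
  Lgr Lrot38 (Lpr_dt (f754106 IH) (Lpn v16999))
theorem f764580 : Led Lsl_af v16999 = K59.v17993 :=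
  Lgr Lrot117 (Lpe (f754108 IH) (Lpq (K51.f663209 IH) (Lpe (f663152 IH) (Lpr_dt (K59.f764579 IH) (Lpn K59.v17993)))))
theorem f831615 : Led Lsl_gf v16999 = K60.v10031 :=
  Lgr Lrot76 (Lpr_af (f764580 IH) (Lpe (K59.f764584 IH) (Lpr_gt (f831613 IH) (Lpn K60.v10031))))
theorem f771250 : Led Lsl_ff K60.v17143 = K60.v10031 :=
  Lgr Lrot3 (Lpr_ft (K60.f771248 IH) (Lpn K60.v10031))
theorem f831616 : Led Lsl_af v26007 = K60.v17143 :=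
  Lgr Lrot31 (Lpe (f831611 IH) (Lpr_gf (f831615 IH) (Lpe (f771250 IH) (Lpn K60.v17143))))
def v19462 : LQ := Led Lsl_bt (LP (LK LD1_c6 LD2_c42 LD3_c40))
theorem f779852 : Led Lsl_bt (LP (LK LD1_c6 LD2_c42 LD3_c40)) = v19462 :=
  Lrfl
theorem f756329 : Led Lsl_bf (LP (LK LD1_c6 LD2_c12 LD3_c23)) = K60.v17143 :=
  Lgr Lrot24 (Lpr_bt (K60.f756328 IH) (Lpn K60.v17143))
theorem f779855 : Led Lsl_ef K60.v17143 = v19462 :=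
  Lgr Lrot29 (Lpe (f756329 IH) (Lpr_et (K49.f663523 IH) (Lpr_bt (f779852 IH) (Lpn v19462))))
theorem f831619 : Led Lsl_at v17100 = v19462 :=
  Lgr Lrot80 (Lpr_ef (f831618 IH) (Lpr_af (f831616 IH) (Lpr_ef (f779855 IH) (Lpn v19462))))
def v17097 : LQ := Led Lsl_et (LP (LK LD1_c6 LD2_c11 LD3_c26))
theorem f755085 : Led Lsl_et (LP (LK LD1_c6 LD2_c11 LD3_c26)) = v17097 :=
  Lrfl
theorem f118726 : Led Lsl_et (LP (LK LD1_c1 LD2_c34 LD3_c44)) = (LP (LK LD1_c3 LD2_c15 LD3_c58)) :=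
  Lre_e IH (LK LD1_c1 LD2_c34 LD3_c44) (LK LD1_c3 LD2_c15 LD3_c58) Lrfl Lrfl
theorem f650420 : Led Lsl_ef (LP (LK LD1_c3 LD2_c17 LD3_c7)) = K59.v5992 :=
  Lgr Lrot21 (Lpr_ft (K58.f118725 IH) (Lpr_et (K1.f61958 IH) (Lpr_ft (K4.f118716 IH) (Lpr_et (f118726 IH) (Lpr_ft (K59.f650418 IH) (Lpn K59.v5992))))))
theorem f830968 : Led Lsl_dt K59.v5992 = v25879 :=
  Lgr Lrot60 (Lpe (K59.f650418 IH) (Lpr_df (K65.f650414 IH) (Lpr_ff (f830965 IH) (Lpn v25879))))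
theorem f779854 : Led Lsl_df K65.v6236 = v19462 :=
  Lgr Lrot12 (Lpe (K65.f652244 IH) (Lpr_dt (f24931 IH) (Lpr_bt (f779852 IH) (Lpn v19462))))
theorem f831614 : Led Lsl_gt v17097 = v19462 :=
  Lgr Lrot137 (Lpe (f755085 IH) (Lpr_dt (K59.f755079 IH) (Lpr_gf (f831612 IH) (Lpe (f831607 IH) (Lpe (f772367 IH) (Lpqs (K58.f769417 IH) (Lpe (K58.f650775 IH) (Lpr_ef (f650420 IH) (Lpr_dt (f830968 IH) (Lpe (f830969 IH) (Lpr_df (f779854 IH) (Lpn v19462))))))))))))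
theorem f831625 : Led Lsl_gf v17097 = v10026 :=
  Lgr Lrot47 (Lpr_gt (f831614 IH) (Lpe (f831619 IH) (Lpr_ff (f831624 IH) (Lpn v10026))))
def v18315 : LQ := Led Lsl_et (LP (LK LD1_c6 LD2_c28 LD3_c26))
theorem f766287 : Led Lsl_et (LP (LK LD1_c6 LD2_c28 LD3_c26)) = v18315 :=
  Lrfl
theorem f766290 : Led Lsl_ef (LP (LK LD1_c6 LD2_c28 LD3_c26)) = v18315 :=
  Lgr Lrot88 (Lpr_et (f766287 IH) (Lpn v18315))
theorem f766292 : Led Lsl_ct v17097 = v18315 :=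
  Lgr Lrot15 (Lpe (f755085 IH) (Lpqs (K51.f663300 IH) (Lpr_cf (K51.f708471 IH) (Lpr_ef (f766290 IH) (Lpn v18315)))))
def v30869 : LQ := Led Lsl_dt v10026
theorem f856139 : Led Lsl_dt v10026 = v30869 :=
  Lrfl
theorem f125512 : Led Lsl_et (LP (LK LD1_c6 LD2_c25 LD3_c38)) = (LP (LK LD1_c3 LD2_c10 LD3_c31)) :=
  Lre_e IH (LK LD1_c6 LD2_c25 LD3_c38) (LK LD1_c3 LD2_c10 LD3_c31) Lrfl Lrfl
theorem f856145 : Led Lsl_gf K65.v17991 = v30869 :=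
  Lgr Lrot145 (Lpe (K65.f764558 IH) (Lpr_et (f125512 IH) (Lpr_gt (K5.f125515 IH) (Lpr_dt (K5.f23602 IH) (Lpe (K5.f124584 IH) (Lpe (K4.f79310 IH) (Lpr_et (K60.f453849 IH) (Lpr_gt (K60.f624062 IH) (Lpr_ef (f678432 IH) (Lpr_dt (f856139 IH) (Lpn v30869)))))))))))
theorem f828021 : Led Lsl_ct K65.v17991 = v25317 :=
  Lgr Lrot59 (Lpr_cf (f828020 IH) (Lpn v25317))
def v5453 : LQ := Led Lsl_dt (LP (LK LD1_c3 LD2_c7 LD3_c59))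
theorem f647708 : Led Lsl_dt (LP (LK LD1_c3 LD2_c7 LD3_c59)) = v5453 :=
  Lrfl
def v25320 : LQ := Led Lsl_ct v5453
theorem f828028 : Led Lsl_ct v5453 = v25320 :=
  Lrfl
theorem f828029 : Led Lsl_cf v5453 = v25320 :=
  Lgr Lrot11 (Lpr_ct (f828028 IH) (Lpn v25320))
theorem f856146 : Led Lsl_gf v25320 = v18315 :=
  Lgr Lrot104 (Lpe (f828029 IH) (Lpe (f647708 IH) (Lpr_cf (f647707 IH) (Lpr_gf (f828018 IH) (Lpe (f828021 IH) (Lpr_gf (f856145 IH) (Lpe (f856139 IH) (Lpe (f831625 IH) (Lpr_ct (f766292 IH) (Lpn v18315))))))))))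
def v17624 : LQ := Led Lsl_dt (LP (LK LD1_c6 LD2_c20 LD3_c50))
theorem f761145 : Led Lsl_dt (LP (LK LD1_c6 LD2_c20 LD3_c50)) = v17624 :=
  Lrfl
theorem f761147 : Led Lsl_df (LP (LK LD1_c6 LD2_c20 LD3_c50)) = v17624 :=
  Lgr Lrot38 (Lpr_dt (f761145 IH) (Lpn v17624))
theorem f761148 : Led Lsl_bt v5453 = v17624 :=
  Lgr Lrot95 (Lpe (f647708 IH) (Lpe (K59.f444019 IH) (Lpr_df (f761147 IH) (Lpn v17624))))
theorem f871054 : Led Lsl_gf v34475 = v17624 :=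
  Lgr Lrot124 (Lpe (f871046 IH) (Lpr_ct (f871050 IH) (Lpe (f871053 IH) (Lpr_cf (f856116 IH) (Lpe (f856115 IH) (Lpe (f831625 IH) (Lpr_ct (f766292 IH) (Lpe (f856146 IH) (Lpe (f828028 IH) (Lpr_bt (f761148 IH) (Lpn v17624)))))))))))
def v29790 : LQ := Led Lsl_et K60.v9345
theorem f851096 : Led Lsl_et K60.v9345 = v29790 :=
  Lrfl
theorem f851100 : Led Lsl_ef K60.v9345 = v29790 :=
  Lgr Lrot88 (Lpr_et (f851096 IH) (Lpn v29790))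
theorem f672375 : Led Lsl_et K59.v7310 = K60.v8811 :=
  Lgr Lrot69 (Lpe (K59.f664454 IH) (Lpe (K2.f85152 IH) (Lpe (K5.f95619 IH) (Lpr_ef (f509723 IH) (Lpr_ff (K60.f672371 IH) (Lpn K60.v8811))))))
theorem f766711 : Led Lsl_dt K58.v5723 = K58.v5723 :=
  Lgr Lrot6 (Lpr_gt (K58.f766710 IH) (Lpe (K58.f766694 IH) (Lpqs (K58.f707934 IH) (Lpe (K58.f703023 IH) (Lpr_ct (K51.f144097 IH) (Lpe (K51.f144053 IH) (Lpe (K51.f144097 IH) (Lpr_gf (K58.f703023 IH) (Lpq (K58.f707934 IH) (Lpr_cf (K58.f766694 IH) (Lpe (K58.f766710 IH) (Lpn K58.v5723))))))))))))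
theorem f85088 : Led Lsl_dt (LP (LK LD1_c7 LD2_c31 LD3_c18)) = (LP (LK LD1_c3 LD2_c45 LD3_c16)) :=
  Lre_d IH (LK LD1_c7 LD2_c31 LD3_c18) (LK LD1_c3 LD2_c45 LD3_c16) Lrfl Lrfl
def v20532 : LQ := Led Lsl_ft (LP (LK LD1_c6 LD2_c59 LD3_c2))
theorem f787706 : Led Lsl_ft (LP (LK LD1_c6 LD2_c59 LD3_c2)) = v20532 :=
  Lrfl
theorem f787710 : Led Lsl_ff (LP (LK LD1_c6 LD2_c59 LD3_c2)) = v20532 :=
  Lgr Lrot3 (Lpr_ft (f787706 IH) (Lpn v20532))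
theorem f90465 : Led Lsl_ft (LP (LK LD1_c3 LD2_c28 LD3_c35)) = (LP (LK LD1_c6 LD2_c59 LD3_c3)) :=
  Lre_f IH (LK LD1_c3 LD2_c28 LD3_c35) (LK LD1_c6 LD2_c59 LD3_c3) Lrfl Lrfl
theorem f787713 : Led Lsl_dt (LP (LK LD1_c6 LD2_c59 LD3_c3)) = v20532 :=
  Lgr Lrot60 (Lpe (f90465 IH) (Lpe (K59.f62283 IH) (Lpr_ff (f787710 IH) (Lpn v20532))))
theorem f787714 : Led Lsl_gf K59.v17625 = v20532 :=
  Lgr Lrot179 (Lpr_ct (K59.f771305 IH) (Lpr_gt (K59.f113304 IH) (Lpr_ct (K59.f113145 IH) (Lpr_dt (K61.f92230 IH) (Lpe (K6.f92154 IH) (Lpe (K57.f89828 IH) (Lpr_cf (K57.f435411 IH) (Lpr_gf (K63.f760077 IH) (Lpqs (K63.f772884 IH) (Lpr_dt (f787713 IH) (Lpn v20532)))))))))))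
theorem f851104 : Led Lsl_df K59.v17625 = v29790 :=
  Lgr Lrot132 (Lpr_gf (f787714 IH) (Lpe (f787713 IH) (Lpq (K63.f772884 IH) (Lpe (K63.f760088 IH) (Lpr_ef (f761025 IH) (Lpqs (f772095 IH) (Lpr_dt (f85088 IH) (Lpqs (f772050 IH) (Lpe (K58.f766710 IH) (Lpe (f766711 IH) (Lpqs (K58.f767179 IH) (Lpq (K59.f772029 IH) (Lpr_et (f672375 IH) (Lpr_gf (K60.f675457 IH) (Lpr_ef (f851100 IH) (Lpn v29790))))))))))))))))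
theorem f761151 : Led Lsl_ff (LP (LK LD1_c6 LD2_c20 LD3_c50)) = K59.v17625 :=
  Lgr Lrot3 (Lpr_ft (K59.f761149 IH) (Lpn K59.v17625))
theorem f851106 : Led Lsl_ft v17624 = v29790 :=
  Lgr Lrot54 (Lpe (f761145 IH) (Lpr_ff (f761151 IH) (Lpr_df (f851104 IH) (Lpn v29790))))
def v29011 : LQ := Led Lsl_et v8808
theorem f847235 : Led Lsl_et v8808 = v29011 :=
  Lrfl
theorem f847237 : Led Lsl_ef v8808 = v29011 :=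
  Lgr Lrot88 (Lpr_et (f847235 IH) (Lpn v29011))
theorem f851097 : Led Lsl_af v29011 = v29790 :=
  Lgr Lrot50 (Lpe (f847237 IH) (Lpqs (f771286 IH) (Lpe (f771148 IH) (Lpqs (K60.f771149 IH) (Lpr_et (f851096 IH) (Lpn v29790))))))
theorem f871055 : Led Lsl_gt v34475 = v29011 :=
  Lgr Lrot46 (Lpr_gf (f871054 IH) (Lpr_ft (f851106 IH) (Lpe (f851097 IH) (Lpn v29011))))
theorem f647598 : Led Lsl_et (LP (LK LD1_c6 LD2_c20 LD3_c40)) = (LP (LK LD1_c3 LD2_c7 LD3_c52)) :=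
  Lre_e IH (LK LD1_c6 LD2_c20 LD3_c40) (LK LD1_c3 LD2_c7 LD3_c52) Lrfl Lrfl
def v17587 : LQ := Led Lsl_dt (LP (LK LD1_c6 LD2_c20 LD3_c36))
theorem f761014 : Led Lsl_dt (LP (LK LD1_c6 LD2_c20 LD3_c36)) = v17587 :=
  Lrfl
def v20531 : LQ := Led Lsl_gf (LP (LK LD1_c6 LD2_c59 LD3_c2))
theorem f787699 : Led Lsl_gf (LP (LK LD1_c6 LD2_c59 LD3_c2)) = v20531 :=
  Lrfl
def v18232 : LQ := Led Lsl_et (LP (LK LD1_c6 LD2_c27 LD3_c33))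
theorem f765653 : Led Lsl_et (LP (LK LD1_c6 LD2_c27 LD3_c33)) = v18232 :=
  Lrfl
theorem f765654 : Led Lsl_af (LP (LK LD1_c6 LD2_c59 LD3_c2)) = v18232 :=
  Lgr Lrot50 (Lpr_et (K59.f90389 IH) (Lpr_at (K3.f90384 IH) (Lpr_et (f765653 IH) (Lpn v18232))))
theorem f761015 : Led Lsl_df (LP (LK LD1_c6 LD2_c20 LD3_c36)) = v17587 :=
  Lgr Lrot38 (Lpr_dt (f761014 IH) (Lpn v17587))
theorem f765657 : Led Lsl_ef (LP (LK LD1_c6 LD2_c27 LD3_c33)) = v18232 :=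
  Lgr Lrot88 (Lpr_et (f765653 IH) (Lpn v18232))
theorem f765660 : Led Lsl_dt (LP (LK LD1_c6 LD2_c49 LD3_c31)) = v18232 :=
  Lgr Lrot77 (Lpe (K3.f90459 IH) (Lpe (K4.f90469 IH) (Lpe (K3.f76787 IH) (Lpe (K7.f76760 IH) (Lpr_ef (f765657 IH) (Lpn v18232))))))
theorem f772890 : Led Lsl_ff v17587 = v18232 :=
  Lgr Lrot19 (Lpe (f761015 IH) (Lpr_ft (K59.f761018 IH) (Lpqs (K59.f771445 IH) (Lpr_dt (f765660 IH) (Lpn v18232)))))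
theorem f772891 : Led Lsl_ft v17587 = v18232 :=
  Lgr Lrot48 (Lpr_ff (f772890 IH) (Lpn v18232))
theorem f787700 : Led Lsl_gt v17587 = v20531 :=
  Lgr Lrot5 (Lpr_ft (f772891 IH) (Lpe (f765654 IH) (Lpr_gf (f787699 IH) (Lpn v20531))))
theorem f847239 : Led Lsl_df v20531 = v29011 :=
  Lgr Lrot132 (Lpe (f787700 IH) (Lpe (f761014 IH) (Lpe (K57.f444009 IH) (Lpe (f647598 IH) (Lpr_dt (K59.f670698 IH) (Lpq (K59.f772228 IH) (Lpe (K59.f664453 IH) (Lpr_df (K56.f85084 IH) (Lpr_et (K60.f664629 IH) (Lpe (f672372 IH) (Lpr_ef (f847237 IH) (Lpn v29011))))))))))))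
theorem f62324 : Led Lsl_gt (LP (LK LD1_c6 LD2_c19 LD3_c49)) = (LP (LK LD1_c12 LD2_c14 LD3_c31)) :=
  Lre_g IH (LK LD1_c6 LD2_c19 LD3_c49) (LK LD1_c12 LD2_c14 LD3_c31) Lrfl Lrfl
theorem f62325 : Led Lsl_dt (LP (LK LD1_c21 LD2_c20 LD3_c28)) = (LP (LK LD1_c12 LD2_c14 LD3_c31)) :=
  Lre_d IH (LK LD1_c21 LD2_c20 LD3_c28) (LK LD1_c12 LD2_c14 LD3_c31) Lrfl Lrfl
theorem f871057 : Led Lsl_ef v34475 = (LP (LK LD1_c21 LD2_c20 LD3_c28)) :=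
  Lgr Lrot167 (Lpr_gt (f871055 IH) (Lpe (f847239 IH) (Lpe (f787699 IH) (Lpe (K59.f62323 IH) (Lpr_et (K3.f62322 IH) (Lpr_gt (K2.f62315 IH) (Lpe (K3.f61910 IH) (Lpr_dt (K3.f61919 IH) (Lpr_gt (f62324 IH) (Lpe (f62325 IH) (Lpn (LP (LK LD1_c21 LD2_c20 LD3_c28)))))))))))))
theorem f871047 : Led Lsl_bf K59.v11809 = v34475 :=
  Lgr Lrot24 (Lpr_bt (f871046 IH) (Lpn v34475))
theorem f871058 : Led Lsl_bt K59.v18518 = (LP (LK LD1_c21 LD2_c20 LD3_c28)) :=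
  Lgr Lrot119 (Lpe (K59.f772137 IH) (Lpq (K59.f772147 IH) (Lpr_bf (f871047 IH) (Lpr_ef (f871057 IH) (Lpn (LP (LK LD1_c21 LD2_c20 LD3_c28)))))))
theorem f871059 : Led Lsl_bt (LP (LK LD1_c12 LD2_c29 LD3_c51)) = (LP (LK LD1_c21 LD2_c20 LD3_c28)) :=
  Leop (Lpe (f871058 IH) (Lpq (K59.f772140 IH) (Lpn (LP (LK LD1_c12 LD2_c29 LD3_c51)))))
theorem seed_2008 : LEOK LG_b (LK LD1_c12 LD2_c29 LD3_c51) :=
  Leoe_b (LK LD1_c12 LD2_c29 LD3_c51) (f871059 IH)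
def v34479 : LQ := Led Lsl_dt K49.v11813
theorem f871133 : Led Lsl_dt K49.v11813 = v34479 :=
  Lrfl
def v16043 : LQ := Led Lsl_dt (LP (LK LD1_c5 LD2_c51 LD3_c59))
theorem f744958 : Led Lsl_dt (LP (LK LD1_c5 LD2_c51 LD3_c59)) = v16043 :=
  Lrfl
theorem f744960 : Led Lsl_df (LP (LK LD1_c5 LD2_c51 LD3_c59)) = v16043 :=
  Lgr Lrot38 (Lpr_dt (f744958 IH) (Lpn v16043))
theorem f871137 : Led Lsl_ff v16043 = v34479 :=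
  Lgr Lrot19 (Lpe (f744960 IH) (Lpr_ft (K49.f685965 IH) (Lpr_dt (f871133 IH) (Lpn v34479))))
def v4898 : LQ := Led Lsl_dt (LP (LK LD1_c2 LD2_c52 LD3_c13))
theorem f640769 : Led Lsl_dt (LP (LK LD1_c2 LD2_c52 LD3_c13)) = v4898 :=
  Lrfl
theorem f640771 : Led Lsl_df (LP (LK LD1_c2 LD2_c52 LD3_c13)) = v4898 :=
  Lgr Lrot38 (Lpr_dt (f640769 IH) (Lpn v4898))
theorem f744959 : Led Lsl_af v4898 = v16043 :=
  Lgr Lrot117 (Lpe (f640771 IH) (Lpr_at (K58.f500220 IH) (Lpr_dt (f744958 IH) (Lpn v16043))))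
def v24663 : LQ := Led Lsl_gf v4898
theorem f825032 : Led Lsl_gf v4898 = v24663 :=
  Lrfl
theorem f871140 : Led Lsl_gf v24663 = v34479 :=
  Lgr Lrot47 (Lpe (f825032 IH) (Lpr_af (f744959 IH) (Lpr_ff (f871137 IH) (Lpn v34479))))
def v4896 : LQ := Led Lsl_gt (LP (LK LD1_c2 LD2_c52 LD3_c13))
theorem f640766 : Led Lsl_gt (LP (LK LD1_c2 LD2_c52 LD3_c13)) = v4896 :=
  Lrfl
theorem f685964 : Led Lsl_gt v4896 = K49.v11813 :=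
  Lgr Lrot46 (Lpe (f640766 IH) (Lpr_ft (K49.f627778 IH) (Lpr_at (K49.f685960 IH) (Lpn K49.v11813))))
theorem f826759 : (LP (LK LD1_c3 LD2_c59 LD3_c25)) = v4896 :=
  Lefun (Lecon (Lfl_gf (K65.f689196 IH)) (K65.f826758 IH)) (f640766 IH)
theorem f40484 : Led Lsl_gt (LP (LK LD1_c3 LD2_c59 LD3_c51)) = (LP (LK LD1_c1 LD2_c56 LD3_c34)) :=
  Lre_g IH (LK LD1_c3 LD2_c59 LD3_c51) (LK LD1_c1 LD2_c56 LD3_c34) Lrfl Lrfl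
def v12300 : LQ := Led Lsl_et (LP (LK LD1_c3 LD2_c59 LD3_c51))
theorem f689253 : Led Lsl_et (LP (LK LD1_c3 LD2_c59 LD3_c51)) = v12300 :=
  Lrfl
theorem f689254 : Led Lsl_ef (LP (LK LD1_c3 LD2_c59 LD3_c51)) = v12300 :=
  Lgr Lrot88 (Lpr_et (f689253 IH) (Lpn v12300))
theorem f871141 : Led Lsl_df v24663 = v12300 :=
  Lgr Lrot132 (Lpr_gf (f871140 IH) (Lpe (f871133 IH) (Lpe (f685964 IH) (Lpq (f826759 IH) (Lpe (K57.f101698 IH) (Lpr_dt (K6.f37819 IH) (Lpe (K6.f37771 IH) (Lpe (K1.f37454 IH) (Lpr_et (K52.f112570 IH) (Lpe (f40484 IH) (Lpr_ef (f689254 IH) (Lpn v12300))))))))))))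
theorem f414190 : Led Lsl_et (LP (LK LD1_c2 LD2_c52 LD3_c13)) = (LP (LK LD1_c5 LD2_c51 LD3_c60)) :=
  Lre_e IH (LK LD1_c2 LD2_c52 LD3_c13) (LK LD1_c5 LD2_c51 LD3_c60) Lrfl Lrfl
theorem f414196 : Led Lsl_gt (LP (LK LD1_c5 LD2_c51 LD3_c60)) = (LP (LK LD1_c11 LD2_c31 LD3_c1)) :=
  Lre_g IH (LK LD1_c5 LD2_c51 LD3_c60) (LK LD1_c11 LD2_c31 LD3_c1) Lrfl Lrfl
theorem f100473 : Led Lsl_at (LP (LK LD1_c6 LD2_c51 LD3_c5)) = (LP (LK LD1_c3 LD2_c24 LD3_c6)) :=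
  Lre_a IH (LK LD1_c6 LD2_c51 LD3_c5) (LK LD1_c3 LD2_c24 LD3_c6) Lrfl Lrfl
theorem f413603 : Led Lsl_bt (LP (LK LD1_c6 LD2_c46 LD3_c29)) = (LP (LK LD1_c3 LD2_c21 LD3_c24)) :=
  Lre_b IH (LK LD1_c6 LD2_c46 LD3_c29) (LK LD1_c3 LD2_c21 LD3_c24) Lrfl Lrfl
theorem f101469 : Led Lsl_bt (LP (LK LD1_c1 LD2_c38 LD3_c21)) = (LP (LK LD1_c3 LD2_c24 LD3_c6)) :=
  Lre_b IH (LK LD1_c1 LD2_c38 LD3_c21) (LK LD1_c3 LD2_c24 LD3_c6) Lrfl Lrfl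
theorem f413604 : Led Lsl_ff (LP (LK LD1_c6 LD2_c46 LD3_c29)) = (LP (LK LD1_c3 LD2_c24 LD3_c6)) :=
  Lgr Lrot25 (Lpr_bt (f413603 IH) (Lpr_ft (K16.f413565 IH) (Lpr_bt (f101469 IH) (Lpn (LP (LK LD1_c3 LD2_c24 LD3_c6))))))
theorem f782079 : Led Lsl_at (LP (LK LD1_c6 LD2_c46 LD3_c29)) = K60.v19774 :=
  Lgr Lrot66 (Lpr_ff (f413604 IH) (Lpe (f100473 IH) (Lpr_ff (K60.f782078 IH) (Lpn K60.v19774))))
theorem f101587 : Led Lsl_gt (LP (LK LD1_c3 LD2_c24 LD3_c6)) = (LP (LK LD1_c6 LD2_c51 LD3_c14)) :=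
  Lre_g IH (LK LD1_c3 LD2_c24 LD3_c6) (LK LD1_c6 LD2_c51 LD3_c14) Lrfl Lrfl
theorem f782088 : Led Lsl_gt (LP (LK LD1_c6 LD2_c51 LD3_c14)) = K60.v19774 :=
  Lgr Lrot46 (Lpe (f101587 IH) (Lpe (f413604 IH) (Lpr_at (f782079 IH) (Lpn K60.v19774))))
def v20168 : LQ := Led Lsl_dt (LP (LK LD1_c6 LD2_c51 LD3_c14))
theorem f785293 : Led Lsl_dt (LP (LK LD1_c6 LD2_c51 LD3_c14)) = v20168 :=
  Lrfl
theorem f785294 : Led Lsl_df (LP (LK LD1_c6 LD2_c51 LD3_c14)) = v20168 :=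
  Lgr Lrot38 (Lpr_dt (f785293 IH) (Lpn v20168))
theorem f871143 : (LP (LK LD1_c11 LD2_c31 LD3_c1)) = v20168 :=
  (Llr Lrot137 (Lpe (f414196 IH) (Lpe (f414190 IH) (Lpr_dt (f640769 IH) (Lpr_gf (f825032 IH) (Lpr_df (f871141 IH) (Lpe (f689254 IH) (Lpe (K55.f414040 IH) (Lpe (K31.f414025 IH) (Lpr_dt (K60.f782074 IH) (Lpe (f782088 IH) (Lpr_df (f785294 IH) (Lpn v20168))))))))))))).symm
theorem f871144 : Led Lsl_dt (LP (LK LD1_c11 LD2_c31 LD3_c1)) = (LP (LK LD1_c6 LD2_c51 LD3_c14)) :=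
  Leop (Lpr_df (f785294 IH) (Lpq (f871143 IH) (Lpn (LP (LK LD1_c11 LD2_c31 LD3_c1)))))
theorem seed_2009 : LEOK LG_d (LK LD1_c11 LD2_c31 LD3_c1) :=
  Leoe_d (LK LD1_c11 LD2_c31 LD3_c1) (f871144 IH)
def v34486 : LQ := Led Lsl_gf K49.v11815
theorem f871171 : Led Lsl_gf K49.v11815 = v34486 :=
  Lrfl
theorem f871173 : Led Lsl_et (LP (LK LD1_c21 LD2_c36 LD3_c40)) = v34486 :=
  Lgr Lrot121 (Lpe (K65.f825096 IH) (Lpe (K57.f40278 IH) (Lpe (K52.f40671 IH) (Lpr_et (K52.f40330 IH) (Lpr_gf (K4.f69054 IH) (Lpe (K45.f69027 IH) (Lpr_dt (K49.f570799 IH) (Lpr_gf (K49.f643786 IH) (Lpr_df (K49.f685982 IH) (Lpr_gf (f871171 IH) (Lpn v34486)))))))))))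
theorem f871174 : Led Lsl_ef (LP (LK LD1_c21 LD2_c36 LD3_c40)) = v34486 :=
  Lgr Lrot88 (Lpr_et (f871173 IH) (Lpn v34486))
theorem f506195 : Led Lsl_dt (LP (LK LD1_c2 LD2_c51 LD3_c25)) = (LP (LK LD1_c5 LD2_c50 LD3_c30)) :=
  Lre_d IH (LK LD1_c2 LD2_c51 LD3_c25) (LK LD1_c5 LD2_c50 LD3_c30) Lrfl Lrfl
theorem f436270 : Led Lsl_gt (LP (LK LD1_c11 LD2_c28 LD3_c58)) = (LP (LK LD1_c5 LD2_c50 LD3_c30)) :=
  Lre_g IH (LK LD1_c11 LD2_c28 LD3_c58) (LK LD1_c5 LD2_c50 LD3_c30) Lrfl Lrfl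
theorem f871175 : Led Lsl_df (LP (LK LD1_c11 LD2_c28 LD3_c58)) = v34486 :=
  Lgr Lrot170 (Lpr_gt (f436270 IH) (Lpe (f506195 IH) (Lpr_et (K57.f505021 IH) (Lpr_gt (K65.f436250 IH) (Lpq (K65.f826787 IH) (Lpr_dt (K65.f825093 IH) (Lpe (K65.f825092 IH) (Lpe (K65.f505677 IH) (Lpr_et (K41.f505705 IH) (Lpr_gt (K65.f642469 IH) (Lpr_ef (f871174 IH) (Lpn v34486))))))))))))
theorem f825098 : Led Lsl_dt (LP (LK LD1_c15 LD2_c4 LD3_c10)) = (LP (LK LD1_c21 LD2_c36 LD3_c40)) :=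
  Lgr Lrot42 (Lpr_df (K65.f825096 IH) (Lpn (LP (LK LD1_c21 LD2_c36 LD3_c40))))
theorem f871178 : Led Lsl_et (LP (LK LD1_c11 LD2_c28 LD3_c58)) = (LP (LK LD1_c11 LD2_c31 LD3_c9)) :=
  Lgr Lrot71 (Lpr_df (f871175 IH) (Lpe (f871173 IH) (Lpe (f825098 IH) (Lpr_ef (K57.f615456 IH) (Lpe (K57.f22802 IH) (Lpn (LP (LK LD1_c11 LD2_c31 LD3_c9))))))))
theorem f871179 : Led Lsl_et (LP (LK LD1_c11 LD2_c28 LD3_c58)) = (LP (LK LD1_c11 LD2_c31 LD3_c9)) :=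
  Leop (Lpe (f871178 IH) (Lpn (LP (LK LD1_c11 LD2_c28 LD3_c58))))
theorem seed_2010 : LEOK LG_e (LK LD1_c11 LD2_c28 LD3_c58) :=
  Leoe_e (LK LD1_c11 LD2_c28 LD3_c58) (f871179 IH)
theorem f505046 : Led Lsl_at (LP (LK LD1_c11 LD2_c28 LD3_c53)) = (LP (LK LD1_c5 LD2_c50 LD3_c30)) :=
  Lre_a IH (LK LD1_c11 LD2_c28 LD3_c53) (LK LD1_c5 LD2_c50 LD3_c30) Lrfl Lrfl
theorem f762107 : Led Lsl_gf (LP (LK LD1_c11 LD2_c28 LD3_c58)) = K65.v17770 :=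
  Lgr Lrot47 (Lpr_gt (f436270 IH) (Lpe (f505046 IH) (Lpr_ff (K65.f762103 IH) (Lpn K65.v17770))))
theorem f689230 : Led Lsl_ef (LP (LK LD1_c5 LD2_c50 LD3_c27)) = K56.v12296 :=
  Lgr Lrot21 (Lpr_ft (K42.f615085 IH) (Lpr_et (K45.f69027 IH) (Lpe (K32.f497196 IH) (Lpr_et (K32.f149988 IH) (Lpr_ft (K56.f689228 IH) (Lpn K56.v12296))))))
theorem f749926 : Led Lsl_gt (LP (LK LD1_c9 LD2_c5 LD3_c40)) = (LP (LK LD1_c12 LD2_c25 LD3_c2)) :=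
  Lgr Lrot5 (Lpr_ft (K57.f505161 IH) (Lpr_at (K57.f56706 IH) (Lpr_gf (K57.f749924 IH) (Lpn (LP (LK LD1_c12 LD2_c25 LD3_c2))))))
theorem f56691 : Led Lsl_bt (LP (LK LD1_c5 LD2_c52 LD3_c45)) = (LP (LK LD1_c2 LD2_c52 LD3_c38)) :=
  Lre_b IH (LK LD1_c5 LD2_c52 LD3_c45) (LK LD1_c2 LD2_c52 LD3_c38) Lrfl Lrfl
theorem f56693 : Led Lsl_df (LP (LK LD1_c5 LD2_c52 LD3_c45)) = (LP (LK LD1_c5 LD2_c49 LD3_c0)) :=
  Lgr Lrot12 (Lpr_bt (f56691 IH) (Lpr_dt (K24.f56684 IH) (Lpr_bt (K52.f56692 IH) (Lpn (LP (LK LD1_c5 LD2_c49 LD3_c0))))))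
theorem f505165 : Led Lsl_df (LP (LK LD1_c9 LD2_c5 LD3_c40)) = (LP (LK LD1_c11 LD2_c31 LD3_c54)) :=
  Lgr Lrot78 (Lpr_ft (K57.f505161 IH) (Lpe (f56693 IH) (Lpr_ft (K41.f56714 IH) (Lpn (LP (LK LD1_c11 LD2_c31 LD3_c54))))))
theorem f871180 : Led Lsl_gf (LP (LK LD1_c12 LD2_c30 LD3_c10)) = (LP (LK LD1_c21 LD2_c36 LD3_c40)) :=
  Lgr Lrot141 (Lpe (K41.f505657 IH) (Lpe (f505165 IH) (Lpr_gt (f749926 IH) (Lpe (K57.f623311 IH) (Lpq (K56.f749907 IH) (Lpe (f689230 IH) (Lpr_gt (K42.f506204 IH) (Lpr_dt (K65.f762099 IH) (Lpe (f762107 IH) (Lpr_df (f871175 IH) (Lpe (f871174 IH) (Lpn (LP (LK LD1_c21 LD2_c36 LD3_c40))))))))))))))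
theorem f871181 : Led Lsl_gt (LP (LK LD1_c21 LD2_c36 LD3_c40)) = (LP (LK LD1_c12 LD2_c30 LD3_c10)) :=
  Leop (Lpr_gf (f871180 IH) (Lpn (LP (LK LD1_c21 LD2_c36 LD3_c40))))
theorem seed_2011 : LEOK LG_g (LK LD1_c21 LD2_c36 LD3_c40) :=
  Leoe_g (LK LD1_c21 LD2_c36 LD3_c40) (f871181 IH)
def v11845 : LQ := Led Lsl_et K56.v3908
def v34518 : LQ := Led Lsl_gf v11845
theorem f871366 : Led Lsl_gf v11845 = v34518 :=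
  Lrfl
theorem f686129 : Led Lsl_et K56.v3908 = v11845 :=
  Lrfl
theorem f686130 : Led Lsl_cf K58.v3910 = v11845 :=
  Lgr Lrot39 (Lpe (K58.f627857 IH) (Lpr_ct (K56.f627849 IH) (Lpr_et (f686129 IH) (Lpn v11845))))
def v5658 : LQ := Led Lsl_et (LP (LK LD1_c3 LD2_c11 LD3_c17))
def v25607 : LQ := Led Lsl_ft v5658
theorem f829529 : Led Lsl_ft v5658 = v25607 :=
  Lrfl
theorem f648725 : Led Lsl_et (LP (LK LD1_c3 LD2_c11 LD3_c17)) = v5658 :=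
  Lrfl
theorem f648728 : Led Lsl_ef (LP (LK LD1_c3 LD2_c11 LD3_c17)) = v5658 :=
  Lgr Lrot88 (Lpr_et (f648725 IH) (Lpn v5658))
theorem f506586 : Led Lsl_ct (LP (LK LD1_c3 LD2_c11 LD3_c17)) = (LP (LK LD1_c1 LD2_c32 LD3_c2)) :=
  Lre_c IH (LK LD1_c3 LD2_c11 LD3_c17) (LK LD1_c1 LD2_c32 LD3_c2) Lrfl Lrfl
theorem f67316 : Led Lsl_et (LP (LK LD1_c1 LD2_c32 LD3_c2)) = (LP (LK LD1_c3 LD2_c11 LD3_c19)) :=
  Lre_e IH (LK LD1_c1 LD2_c32 LD3_c2) (LK LD1_c3 LD2_c11 LD3_c19) Lrfl Lrfl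
theorem f648729 : Led Lsl_ct (LP (LK LD1_c3 LD2_c11 LD3_c19)) = v5658 :=
  Lgr Lrot15 (Lpe (f67316 IH) (Lpe (f506586 IH) (Lpr_ef (f648728 IH) (Lpn v5658))))
theorem f829531 : Led Lsl_cf K58.v5660 = v25607 :=
  Lgr Lrot108 (Lpe (K58.f648734 IH) (Lpr_ct (f648729 IH) (Lpr_ft (f829529 IH) (Lpn v25607))))
theorem f829532 : Led Lsl_ff v5658 = v25607 :=
  Lgr Lrot3 (Lpr_ft (f829529 IH) (Lpn v25607))
theorem f648726 : Led Lsl_cf (LP (LK LD1_c3 LD2_c11 LD3_c19)) = v5658 :=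
  Lgr Lrot39 (Lpr_et (K58.f67299 IH) (Lpr_ct (K58.f69080 IH) (Lpr_et (f648725 IH) (Lpn v5658))))
theorem f829534 : Led Lsl_ct K58.v5660 = v25607 :=
  Lgr Lrot40 (Lpe (K58.f648731 IH) (Lpr_cf (f648726 IH) (Lpr_ff (f829532 IH) (Lpn v25607))))
theorem f506609 : Led Lsl_ff (LP (LK LD1_c1 LD2_c32 LD3_c5)) = K35.v1960 :=
  Lgr Lrot3 (Lpr_ft (K35.f506608 IH) (Lpn K35.v1960))
theorem f648732 : Led Lsl_bf K35.v1960 = K58.v5660 :=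
  Lgr Lrot61 (Lpe (f506609 IH) (Lpr_bt (K59.f414842 IH) (Lpr_ft (K58.f648731 IH) (Lpn K58.v5660))))
theorem f829535 : Led Lsl_gt K58.v8579 = v25607 :=
  Lgr Lrot65 (Lpe (K58.f671665 IH) (Lpe (K58.f508837 IH) (Lpe (K32.f453908 IH) (Lpq (K49.f678544 IH) (Lpq (K49.f678527 IH) (Lpqs (K58.f768871 IH) (Lpe (K58.f509520 IH) (Lpr_ct (K32.f416659 IH) (Lpe (K32.f417124 IH) (Lpr_cf (K32.f140021 IH) (Lpr_gf (K32.f509783 IH) (Lpq (K35.f623406 IH) (Lpr_bf (f648732 IH) (Lpr_ct (f829534 IH) (Lpn v25607)))))))))))))))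
def v8578 : LQ := Led Lsl_gf K58.v2098
theorem f671663 : Led Lsl_gf K58.v2098 = v8578 :=
  Lrfl
def v28869 : LQ := Led Lsl_dt v8578
theorem f846553 : Led Lsl_dt v8578 = v28869 :=
  Lrfl
def v8575 : LQ := Led Lsl_dt K46.v2097
theorem f671647 : Led Lsl_dt K46.v2097 = v8575 :=
  Lrfl
theorem f671648 : Led Lsl_af K58.v2098 = v8575 :=
  Lgr Lrot117 (Lpe (K59.f508838 IH) (Lpr_at (K46.f508834 IH) (Lpr_dt (f671647 IH) (Lpn v8575))))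
def v8576 : LQ := Led Lsl_et K46.v2097
theorem f671651 : Led Lsl_et K46.v2097 = v8576 :=
  Lrfl
theorem f671654 : Led Lsl_ef K46.v2097 = v8576 :=
  Lgr Lrot88 (Lpr_et (f671651 IH) (Lpn v8576))
theorem f671656 : Led Lsl_bt K48.v6163 = v8576 :=
  Lgr Lrot119 (Lpe (f651592 IH) (Lpe (K46.f650556 IH) (Lpr_ef (f671654 IH) (Lpn v8576))))
theorem f651580 : Led Lsl_bf (LP (LK LD1_c3 LD2_c18 LD3_c31)) = K51.v6162 :=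
  Lgr Lrot24 (Lpr_bt (K51.f651578 IH) (Lpn K51.v6162))
theorem f671657 : Led Lsl_df K51.v6162 = v8576 :=
  Lgr Lrot12 (Lpe (f651580 IH) (Lpr_dt (K48.f651587 IH) (Lpr_bt (f671656 IH) (Lpn v8576))))
theorem f671659 : Led Lsl_ft v8575 = v8576 :=
  Lgr Lrot54 (Lpe (f671647 IH) (Lpr_ff (K51.f651582 IH) (Lpr_df (f671657 IH) (Lpn v8576))))
theorem f671660 : Led Lsl_ff v8575 = v8576 :=
  Lgr Lrot3 (Lpr_ft (f671659 IH) (Lpn v8576))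
theorem f671664 : Led Lsl_gt v8576 = v8578 :=
  Lgr Lrot5 (Lpe (f671660 IH) (Lpe (f671648 IH) (Lpr_gf (f671663 IH) (Lpn v8578))))
def v8580 : LQ := Led Lsl_gt K59.v2099
theorem f671669 : Led Lsl_gt K59.v2099 = v8580 :=
  Lrfl
theorem f624420 : Led Lsl_ff K58.v2098 = K59.v2099 :=
  Lgr Lrot25 (Lpe (K58.f508837 IH) (Lpr_ft (K32.f508993 IH) (Lpqs (K46.f624135 IH) (Lpr_bt (K59.f508845 IH) (Lpn K59.v2099)))))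
theorem f671649 : Led Lsl_df K46.v2097 = v8575 :=
  Lgr Lrot38 (Lpr_dt (f671647 IH) (Lpn v8575))
theorem f671650 : Led Lsl_at K58.v2098 = v8575 :=
  Lgr Lrot51 (Lpe (K58.f508836 IH) (Lpr_af (K46.f508835 IH) (Lpr_df (f671649 IH) (Lpn v8575))))
theorem f671670 : Led Lsl_gf v8575 = v8580 :=
  Lgr Lrot76 (Lpe (f671650 IH) (Lpr_ff (f624420 IH) (Lpr_gt (f671669 IH) (Lpn v8580))))
def v25102 : LQ := Led Lsl_ct K65.v5222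
theorem f827022 : Led Lsl_ct K65.v5222 = v25102 :=
  Lrfl
theorem f446195 : Led Lsl_bt (LP (LK LD1_c2 LD2_c20 LD3_c16)) = (LP (LK LD1_c4 LD2_c44 LD3_c27)) :=
  Lre_b IH (LK LD1_c2 LD2_c20 LD3_c16) (LK LD1_c4 LD2_c44 LD3_c27) Lrfl Lrfl
def v18177 : LQ := Led Lsl_ct (LP (LK LD1_c6 LD2_c26 LD3_c54))
theorem f765381 : Led Lsl_ct (LP (LK LD1_c6 LD2_c26 LD3_c54)) = v18177 :=
  Lrfl
theorem f827024 : Led Lsl_gf v18177 = v25102 :=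
  Lgr Lrot126 (Lpe (f765381 IH) (Lpr_bt (K58.f67204 IH) (Lpe (K9.f67311 IH) (Lpe (K17.f140084 IH) (Lpr_gt (K35.f416631 IH) (Lpe (K32.f446180 IH) (Lpr_bt (f446195 IH) (Lpq (K58.f768796 IH) (Lpr_gt (K49.f646731 IH) (Lpr_bf (K65.f646601 IH) (Lpr_ct (f827022 IH) (Lpn v25102))))))))))))
theorem f765382 : Led Lsl_cf (LP (LK LD1_c6 LD2_c26 LD3_c54)) = v18177 :=
  Lgr Lrot11 (Lpr_ct (f765381 IH) (Lpn v18177))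
theorem f634171 : Led Lsl_ct K32.v2234 = K35.v4487 :=
  Lgr Lrot40 (Lpe (K32.f509790 IH) (Lpe (K9.f139994 IH) (Lpr_ff (K35.f634169 IH) (Lpn K35.v4487))))
def v8743 : LQ := Led Lsl_gt K58.v2188
theorem f672166 : Led Lsl_gt K58.v2188 = v8743 :=
  Lrfl
theorem f768867 : K24.v547 = v8743 :=
  Lefun (Lecon (Lfl_gf (K46.f624546 IH)) (K58.f768818 IH)) (f672166 IH)
theorem f508843 : Led Lsl_bf K24.v547 = K59.v2099 :=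
  Lgr Lrot96 (Lpe (K24.f453907 IH) (Lpr_bt (K49.f453900 IH) (Lpr_et (K59.f508842 IH) (Lpn K59.v2099))))
def v6142 : LQ := Led Lsl_et (LP (LK LD1_c3 LD2_c18 LD3_c22))
theorem f651499 : Led Lsl_et (LP (LK LD1_c3 LD2_c18 LD3_c22)) = v6142 :=
  Lrfl
theorem f651501 : Led Lsl_ef (LP (LK LD1_c3 LD2_c18 LD3_c22)) = v6142 :=
  Lgr Lrot88 (Lpr_et (f651499 IH) (Lpn v6142))
theorem f651502 : Led Lsl_ct K59.v2099 = v6142 :=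
  Lgr Lrot15 (Lpe (K59.f508842 IH) (Lpe (K46.f416449 IH) (Lpr_ef (f651501 IH) (Lpn v6142))))
theorem f775887 : Led Lsl_gf v5658 = v6142 :=
  Lgr Lrot126 (Lpe (f648729 IH) (Lpr_bt (K60.f416543 IH) (Lpr_gt (K35.f506596 IH) (Lpqs (K35.f509840 IH) (Lpr_ct (f634171 IH) (Lpe (K35.f634174 IH) (Lpe (K55.f509410 IH) (Lpr_bt (K58.f509526 IH) (Lpr_gt (f672166 IH) (Lpq (f768867 IH) (Lpr_bf (f508843 IH) (Lpr_ct (f651502 IH) (Lpn v6142)))))))))))))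
def v8581 : LQ := Led Lsl_gf K59.v2099
theorem f671671 : Led Lsl_gf K59.v2099 = v8581 :=
  Lrfl
def v25101 : LQ := Led Lsl_gf K65.v5222
theorem f827021 : Led Lsl_gf K65.v5222 = v25101 :=
  Lrfl
theorem f827026 : Led Lsl_df v8581 = v25101 :=
  Lgr Lrot155 (Lpe (f671671 IH) (Lpr_ct (f651502 IH) (Lpe (f775887 IH) (Lpe (f648726 IH) (Lpr_dt (K58.f67317 IH) (Lpr_cf (f765382 IH) (Lpr_gf (f827024 IH) (Lpe (f827022 IH) (Lpr_gf (f827021 IH) (Lpn v25101))))))))))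
theorem f671652 : Led Lsl_af K59.v2099 = v8576 :=
  Lgr Lrot50 (Lpe (K59.f508844 IH) (Lpr_at (K46.f508834 IH) (Lpr_et (f671651 IH) (Lpn v8576))))
theorem f671672 : Led Lsl_gt v8575 = v8581 :=
  Lgr Lrot5 (Lpr_ft (f671659 IH) (Lpe (f671652 IH) (Lpr_gf (f671671 IH) (Lpn v8581))))
def v8522 : LQ := Led Lsl_gt K46.v2077
theorem f671515 : Led Lsl_gt K46.v2077 = v8522 :=
  Lrfl
theorem f671516 : Led Lsl_gf K46.v2097 = v8522 :=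
  Lgr Lrot76 (Lpe (K46.f508834 IH) (Lpr_ff (K46.f508850 IH) (Lpqs (K46.f624129 IH) (Lpr_gt (f671515 IH) (Lpn v8522)))))
theorem f705736 : Led Lsl_gt K51.v6426 = K51.v13893 :=
  Lgr Lrot5 (Lpe (K51.f653361 IH) (Lpr_at (K46.f653343 IH) (Lpqs (K51.f678943 IH) (Lpr_gf (K51.f705735 IH) (Lpn K51.v13893)))))
theorem f705742 : v8522 = K51.v7919 :=
  (Llr Lrot164 (Lpe (f671515 IH) (Lpe (K46.f508710 IH) (Lpr_ct (K34.f140004 IH) (Lpq (K46.f624130 IH) (Lpr_gf (K46.f624296 IH) (Lpr_cf (K46.f651176 IH) (Lpe (K46.f651172 IH) (Lpr_bf (K51.f651281 IH) (Lpr_ct (K51.f705738 IH) (Lpe (f705736 IH) (Lpe (K51.f653364 IH) (Lpqs (K51.f678949 IH) (Lpr_bt (K51.f668986 IH) (Lpn K51.v7919))))))))))))))).symm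
def v1784 : LQ := Led Lsl_et (LP (LK LD1_c1 LD2_c26 LD3_c58))
theorem f502875 : Led Lsl_et (LP (LK LD1_c1 LD2_c26 LD3_c58)) = v1784 :=
  Lrfl
def v8077 : LQ := Led Lsl_gf v1784
theorem f669889 : Led Lsl_gf v1784 = v8077 :=
  Lrfl
theorem f827027 : Led Lsl_ef v8077 = v25101 :=
  Lgr Lrot114 (Lpe (f669889 IH) (Lpe (f502875 IH) (Lpe (K3.f110339 IH) (Lpr_gt (K3.f104162 IH) (Lpe (K3.f78133 IH) (Lpr_et (K51.f632898 IH) (Lpq (K51.f708049 IH) (Lpq (f705742 IH) (Lpe (f671516 IH) (Lpr_dt (f671647 IH) (Lpr_gt (f671672 IH) (Lpr_df (f827026 IH) (Lpn v25101)))))))))))))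
theorem f827029 : Led Lsl_et v8077 = v25101 :=
  Lgr Lrot87 (Lpr_ef (f827027 IH) (Lpn v25101))
def v10021 : LQ := Led Lsl_ft K60.v3151
theorem f678414 : Led Lsl_ft K60.v3151 = v10021 :=
  Lrfl
def v10018 : LQ := Led Lsl_gt K60.v3151
theorem f678405 : Led Lsl_gt K60.v3151 = v10018 :=
  Lrfl
theorem f624054 : Led Lsl_ef K60.v535 = K60.v3151 :=
  Lgr Lrot88 (Lpr_et (K60.f624052 IH) (Lpn K60.v3151))
theorem f453837 : Led Lsl_af K51.v353 = K60.v535 :=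
  Lgr Lrot117 (Lpe (K51.f452374 IH) (Lpe (K3.f79300 IH) (Lpr_dt (K60.f453836 IH) (Lpn K60.v535))))
theorem f624055 : Led Lsl_at K60.v2835 = K60.v3151 :=
  Lgr Lrot80 (Lpe (K60.f535889 IH) (Lpr_af (f453837 IH) (Lpr_ef (f624054 IH) (Lpn K60.v3151))))
theorem f678415 : Led Lsl_af K60.v9647 = v10021 :=
  Lgr Lrot45 (Lpe (K60.f677050 IH) (Lpr_at (f624055 IH) (Lpr_ft (f678414 IH) (Lpn v10021))))
theorem f678417 : Led Lsl_gt v10018 = K60.v9647 :=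
  Lgr Lrot46 (Lpe (f678405 IH) (Lpr_ft (f678414 IH) (Lpe (f678415 IH) (Lpn K60.v9647))))
def v3609 : LQ := Led Lsl_bt K51.v967
def v11102 : LQ := Led Lsl_gf v3609
theorem f683136 : Led Lsl_gf v3609 = v11102 :=
  Lrfl
theorem f670014 : Led Lsl_ef K62.v1838 = K65.v8104 :=
  Lgr Lrot88 (Lpr_et (K65.f670011 IH) (Lpn K65.v8104))
theorem f455021 : Led Lsl_dt (LP (LK LD1_c0 LD2_c46 LD3_c13)) = K54.v583 :=
  Lgr Lrot60 (Lpe (K2.f94344 IH) (Lpe (K2.f91953 IH) (Lpr_ff (K54.f455018 IH) (Lpn K54.v583))))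
theorem f504491 : Led Lsl_cf K54.v583 = K62.v1838 :=
  Lgr Lrot99 (Lpe (f455021 IH) (Lpe (K3.f98696 IH) (Lpr_gf (K3.f98701 IH) (Lpe (K0.f11878 IH) (Lpr_gf (K0.f11883 IH) (Lpe (K2.f15030 IH) (Lpr_gt (K2.f90598 IH) (Lpr_ct (K2.f66812 IH) (Lpr_gt (K62.f504488 IH) (Lpn K62.v1838))))))))))
theorem f670016 : Led Lsl_ct K60.v3225 = K65.v8104 :=
  Lgr Lrot15 (Lpe (K60.f624675 IH) (Lpr_cf (f504491 IH) (Lpr_ef (f670014 IH) (Lpn K65.v8104))))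
theorem f504493 : Led Lsl_af (LP (LK LD1_c1 LD2_c39 LD3_c40)) = K62.v1838 :=
  Lgr Lrot68 (Lpr_ct (K3.f94780 IH) (Lpr_at (K54.f455019 IH) (Lpr_ct (K62.f504492 IH) (Lpn K62.v1838))))
theorem f670015 : Led Lsl_at K60.v2266 = K65.v8104 :=
  Lgr Lrot80 (Lpe (K60.f511349 IH) (Lpr_af (f504493 IH) (Lpr_ef (f670014 IH) (Lpn K65.v8104))))
theorem f771209 : Led Lsl_gf K65.v8104 = K60.v9622 :=
  Lgr Lrot76 (Lpe (f670015 IH) (Lpr_ff (K60.f672646 IH) (Lpr_gt (K60.f771208 IH) (Lpn K60.v9622))))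
theorem f490755 : Led Lsl_bf K29.v269 = K59.v963 :=
  Lgr Lrot61 (Lpe (K35.f451472 IH) (Lpr_bt (K58.f450615 IH) (Lpr_ft (K59.f490754 IH) (Lpn K59.v963))))
def v959 : LQ := Led Lsl_et K51.v126
def v3583 : LQ := Led Lsl_ft v959
theorem f626347 : Led Lsl_ft v959 = v3583 :=
  Lrfl
theorem f626349 : Led Lsl_ff v959 = v3583 :=
  Lgr Lrot3 (Lpr_ft (f626347 IH) (Lpn v3583))
theorem f490742 : Led Lsl_et K51.v126 = v959 :=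
  Lrfl
theorem f490743 : Led Lsl_cf K58.v127 = v959 :=
  Lgr Lrot39 (Lpe (K58.f450614 IH) (Lpr_ct (K51.f450606 IH) (Lpr_et (f490742 IH) (Lpn v959))))
theorem f626350 : Led Lsl_ct K59.v963 = v3583 :=
  Lgr Lrot40 (Lpe (K59.f490754 IH) (Lpr_cf (f490743 IH) (Lpr_ff (f626349 IH) (Lpn v3583))))
def v3569 : LQ := Led Lsl_et v953
def v10976 : LQ := Led Lsl_gt v3569
theorem f682709 : Led Lsl_gt v3569 = v10976 :=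
  Lrfl
theorem f626294 : Led Lsl_et v953 = v3569 :=
  Lrfl
theorem f626297 : Led Lsl_ef v953 = v3569 :=
  Lgr Lrot88 (Lpr_et (f626294 IH) (Lpn v3569))
theorem f626299 : Led Lsl_ct K58.v954 = v3569 :=
  Lgr Lrot15 (Lpe (K58.f490719 IH) (Lpr_cf (f490717 IH) (Lpr_ef (f626297 IH) (Lpn v3569))))
theorem f623903 : Led Lsl_bt K48.v2570 = K51.v3108 :=
  Lgr Lrot35 (Lpe (K49.f527540 IH) (Lpe (K60.f459417 IH) (Lpr_ff (K51.f623900 IH) (Lpn K51.v3108))))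
theorem f623902 : Led Lsl_at K51.v524 = K51.v3108 :=
  Lgr Lrot66 (Lpe (K51.f453771 IH) (Lpr_af (K51.f453716 IH) (Lpr_ff (K51.f623900 IH) (Lpn K51.v3108))))
theorem f623905 : Led Lsl_gt K51.v967 = K51.v3108 :=
  Lgr Lrot46 (Lpe (K51.f490776 IH) (Lpr_ft (K51.f453771 IH) (Lpr_at (f623902 IH) (Lpn K51.v3108))))
theorem f626428 : Led Lsl_bt K51.v967 = v3609 :=
  Lrfl
theorem f626429 : Led Lsl_bf K51.v967 = v3609 :=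
  Lgr Lrot24 (Lpr_bt (f626428 IH) (Lpn v3609))
theorem f682710 : Led Lsl_ct v3609 = v10976 :=
  Lgr Lrot63 (Lpe (f626429 IH) (Lpr_gt (f623905 IH) (Lpe (f623903 IH) (Lpr_ct (f674872 IH) (Lpe (f674874 IH) (Lpr_cf (f674950 IH) (Lpe (f674951 IH) (Lpe (K58.f626301 IH) (Lpr_ct (f626299 IH) (Lpr_gt (f682709 IH) (Lpn v10976)))))))))))
theorem f450636 : Led Lsl_bt (LP (LK LD1_c0 LD2_c19 LD3_c30)) = K51.v131 :=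
  Lgr Lrot119 (Lpe (K32.f24051 IH) (Lpe (K3.f23172 IH) (Lpr_ef (K51.f450635 IH) (Lpn K51.v131))))
theorem f682712 : Led Lsl_gf v3583 = v10976 :=
  Lgr Lrot126 (Lpe (f626350 IH) (Lpe (f490755 IH) (Lpr_gt (K35.f452334 IH) (Lpq (K35.f535783 IH) (Lpe (K53.f500222 IH) (Lpr_gt (K17.f20291 IH) (Lpr_cf (K55.f24035 IH) (Lpr_bt (f450636 IH) (Lpr_gt (K51.f490776 IH) (Lpr_bf (f626429 IH) (Lpr_ct (f682710 IH) (Lpn v10976))))))))))))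
theorem f455007 : Led Lsl_bt (LP (LK LD1_c0 LD2_c46 LD3_c12)) = K58.v581 :=
  Lgr Lrot22 (Lpr_ct (K2.f91962 IH) (Lpe (K2.f91955 IH) (Lpe (K1.f59462 IH) (Lpr_gf (K2.f91947 IH) (Lpe (K3.f91959 IH) (Lpr_ct (K2.f91963 IH) (Lpe (K4.f91964 IH) (Lpe (K4.f25208 IH) (Lpr_bt (K63.f453509 IH) (Lpr_gf (K63.f455005 IH) (Lpn K58.v581)))))))))))
theorem f455020 : Led Lsl_bt K60.v535 = K54.v583 :=
  Lgr Lrot35 (Lpr_ff (K60.f455004 IH) (Lpe (f455007 IH) (Lpr_ff (K54.f455018 IH) (Lpn K54.v583))))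
theorem f624677 : Led Lsl_bf K60.v3151 = K60.v3225 :=
  Lgr Lrot96 (Lpe (f624054 IH) (Lpr_bt (f455020 IH) (Lpr_et (K60.f624675 IH) (Lpn K60.v3225))))
theorem f771227 : v11102 = K60.v3151 :=
  (Llr Lrot181 (Lpe (f683136 IH) (Lpr_ct (f682710 IH) (Lpe (f682712 IH) (Lpe (f626350 IH) (Lpe (f490755 IH) (Lpr_gt (K35.f452334 IH) (Lpr_bf (K58.f535768 IH) (Lpr_ct (K60.f676907 IH) (Lpe (f771209 IH) (Lpe (f670016 IH) (Lpe (f624677 IH) (Lpn K60.v3151))))))))))))).symm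
theorem f771228 : v3609 = v10018 :=
  Lefun (Lecon (Lfl_gf (f683136 IH)) (f771227 IH)) (f678405 IH)
def v11106 : LQ := Led Lsl_ft v3609
theorem f683147 : Led Lsl_ft v3609 = v11106 :=
  Lrfl
def v10019 : LQ := Led Lsl_gf K60.v3151
theorem f678406 : Led Lsl_gf K60.v3151 = v10019 :=
  Lrfl
theorem f678407 : Led Lsl_gt K60.v9647 = v10019 :=
  Lgr Lrot5 (Lpe (K60.f677050 IH) (Lpr_at (f624055 IH) (Lpr_gf (f678406 IH) (Lpn v10019))))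
theorem f771276 : Led Lsl_at v11106 = v10019 :=
  Lgr Lrot26 (Lpe (f683147 IH) (Lpqs (f771228 IH) (Lpr_gt (f678417 IH) (Lpr_gt (f678407 IH) (Lpn v10019)))))
theorem f683149 : Led Lsl_ff v3609 = v11106 :=
  Lgr Lrot3 (Lpr_ft (f683147 IH) (Lpn v11106))
theorem f683150 : Led Lsl_bt K51.v3613 = v11106 :=
  Lgr Lrot35 (Lpe (K51.f626436 IH) (Lpr_bf (f626429 IH) (Lpr_ff (f683149 IH) (Lpn v11106))))
def v9887 : LQ := Led Lsl_bt K51.v3106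
theorem f677952 : Led Lsl_bt K51.v3106 = v9887 :=
  Lrfl
theorem f709498 : v11106 = v9887 :=
  Lefun (Lecon (f683150 IH) (K51.f709494 IH)) (f677952 IH)
theorem f677953 : Led Lsl_bf K51.v3106 = v9887 :=
  Lgr Lrot24 (Lpr_bt (f677952 IH) (Lpn v9887))
theorem f490744 : Led Lsl_ef K51.v126 = v959 :=
  Lgr Lrot88 (Lpr_et (f490742 IH) (Lpn v959))
theorem f490745 : Led Lsl_ct K58.v127 = v959 :=
  Lgr Lrot15 (Lpe (K58.f450612 IH) (Lpr_cf (K63.f450608 IH) (Lpr_ef (f490744 IH) (Lpn v959))))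
def v3581 : LQ := Led Lsl_gf v959
theorem f626344 : Led Lsl_gf v959 = v3581 :=
  Lrfl
theorem f677954 : Led Lsl_cf v3581 = v9887 :=
  Lgr Lrot160 (Lpe (f626344 IH) (Lpe (f490745 IH) (Lpe (K59.f450613 IH) (Lpr_gt (K29.f451465 IH) (Lpr_ct (K35.f491570 IH) (Lpq (K49.f535846 IH) (Lpe (K49.f494347 IH) (Lpr_cf (K24.f24038 IH) (Lpr_bt (K51.f453768 IH) (Lpr_gt (K51.f623890 IH) (Lpr_bf (f677953 IH) (Lpn v9887))))))))))))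
theorem f677955 : Led Lsl_ct v3581 = v9887 :=
  Lgr Lrot59 (Lpr_cf (f677954 IH) (Lpn v9887))
def v3580 : LQ := Led Lsl_gt v959
def v11016 : LQ := Led Lsl_ft v3580
theorem f682848 : Led Lsl_ft v3580 = v11016 :=
  Lrfl
def v11011 : LQ := Led Lsl_at v3580
theorem f682836 : Led Lsl_at v3580 = v11011 :=
  Lrfl
theorem f682837 : Led Lsl_af v3580 = v11011 :=
  Lgr Lrot0 (Lpr_at (f682836 IH) (Lpn v11011))
theorem f626343 : Led Lsl_gt v959 = v3580 :=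
  Lrfl
theorem f682838 : Led Lsl_ft v3581 = v11011 :=
  Lgr Lrot2 (Lpe (f626344 IH) (Lpr_gt (f626343 IH) (Lpr_af (f682837 IH) (Lpn v11011))))
theorem f682849 : Led Lsl_af v3581 = v11016 :=
  Lgr Lrot45 (Lpr_ft (f682838 IH) (Lpe (f682837 IH) (Lpr_ft (f682848 IH) (Lpn v11016))))
theorem f771279 : Led Lsl_cf v11016 = v10019 :=
  Lgr Lrot1 (Lpe (f682849 IH) (Lpr_ct (f677955 IH) (Lpq (f709498 IH) (Lpr_at (f771276 IH) (Lpn v10019)))))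
theorem f682711 : Led Lsl_cf v3609 = v10976 :=
  Lgr Lrot11 (Lpr_ct (f682710 IH) (Lpn v10976))
theorem f709552 : v10976 = v11011 :=
  (Llr Lrot108 (Lpe (f682711 IH) (Lpr_ft (f683147 IH) (Lpqs (f709498 IH) (Lpe (f677954 IH) (Lpr_ft (f682838 IH) (Lpn v11011))))))).symm
theorem f682839 : Led Lsl_ff v3581 = v11011 :=
  Lgr Lrot3 (Lpr_ft (f682838 IH) (Lpn v11011))
theorem f682850 : Led Lsl_ff v3580 = v11016 :=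
  Lgr Lrot3 (Lpr_ft (f682848 IH) (Lpn v11016))
theorem f682851 : Led Lsl_at v3581 = v11016 :=
  Lgr Lrot66 (Lpr_ff (f682839 IH) (Lpe (f682836 IH) (Lpr_ff (f682850 IH) (Lpn v11016))))
def v10977 : LQ := Led Lsl_gf v3569
theorem f682713 : Led Lsl_gf v3569 = v10977 :=
  Lrfl
theorem f490716 : Led Lsl_af K51.v126 = v953 :=
  Lgr Lrot68 (Lpe (K63.f450608 IH) (Lpr_at (K59.f450593 IH) (Lpr_ct (f490715 IH) (Lpn v953))))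
theorem f626298 : Led Lsl_at v959 = v3569 :=
  Lgr Lrot80 (Lpe (f490742 IH) (Lpr_af (f490716 IH) (Lpr_ef (f626297 IH) (Lpn v3569))))
theorem f682714 : Led Lsl_gt v3583 = v10977 :=
  Lgr Lrot5 (Lpe (f626349 IH) (Lpr_at (f626298 IH) (Lpr_gf (f682713 IH) (Lpn v10977))))
theorem f709553 : v11016 = v10977 :=
  (Llr Lrot26 (Lpe (f682851 IH) (Lpr_ff (f682839 IH) (Lpq (f709552 IH) (Lpe (f682712 IH) (Lpr_gt (f682714 IH) (Lpn v10977))))))).symm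
def v10703 : LQ := Led Lsl_gf K59.v3438
theorem f681453 : Led Lsl_gf K59.v3438 = v10703 :=
  Lrfl
theorem f769149 : K59.v1785 = v10703 :=
  Lefun (Lecon (Lfl_gt (K59.f669902 IH)) ((K59.f769112 IH).symm.trans (K59.f769136 IH))) (f681453 IH)
theorem f502877 : Led Lsl_ef (LP (LK LD1_c1 LD2_c26 LD3_c58)) = v1784 :=
  Lgr Lrot88 (Lpr_et (f502875 IH) (Lpn v1784))
theorem f502878 : Led Lsl_bt K35.v460 = v1784 :=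
  Lgr Lrot119 (Lpe (K35.f452997 IH) (Lpe (K3.f18898 IH) (Lpr_ef (f502877 IH) (Lpn v1784))))
def v9886 : LQ := Led Lsl_ft K51.v3105
theorem f677948 : Led Lsl_ft K51.v3105 = v9886 :=
  Lrfl
def v9881 : LQ := Led Lsl_at K51.v3105
theorem f677929 : Led Lsl_at K51.v3105 = v9881 :=
  Lrfl
theorem f677930 : Led Lsl_af K51.v3105 = v9881 :=
  Lgr Lrot0 (Lpr_at (f677929 IH) (Lpn v9881))
theorem f677931 : Led Lsl_ft K51.v3106 = v9881 :=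
  Lgr Lrot2 (Lpe (K51.f623889 IH) (Lpr_gt (K51.f623888 IH) (Lpr_af (f677930 IH) (Lpn v9881))))
theorem f677949 : Led Lsl_af K51.v3106 = v9886 :=
  Lgr Lrot45 (Lpr_ft (f677931 IH) (Lpe (f677930 IH) (Lpr_ft (f677948 IH) (Lpn v9886))))
theorem f677950 : Led Lsl_ff K51.v3105 = v9886 :=
  Lgr Lrot3 (Lpr_ft (f677948 IH) (Lpn v9886))
theorem f677932 : Led Lsl_ff K51.v3106 = v9881 :=
  Lgr Lrot3 (Lpr_ft (f677931 IH) (Lpn v9881))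
theorem f677951 : Led Lsl_at K51.v3106 = v9886 :=
  Lgr Lrot66 (Lpr_ff (f677932 IH) (Lpe (f677929 IH) (Lpr_ff (f677950 IH) (Lpn v9886))))
theorem f709497 : K51.v968 = v9886 :=
  Lefun (Lecon (Lfl_af (f626437 IH)) (K51.f709494 IH)) (f677951 IH)
def v3614 : LQ := Led Lsl_bt K51.v968
theorem f626440 : Led Lsl_bt K51.v968 = v3614 :=
  Lrfl
theorem f626441 : Led Lsl_bf K51.v968 = v3614 :=
  Lgr Lrot24 (Lpr_bt (f626440 IH) (Lpn v3614))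
def v11125 : LQ := Led Lsl_at v3614
theorem f683201 : Led Lsl_at v3614 = v11125 :=
  Lrfl
theorem f683202 : Led Lsl_af v3614 = v11125 :=
  Lgr Lrot0 (Lpr_at (f683201 IH) (Lpn v11125))
theorem f771278 : Led Lsl_bf v11125 = v10019 :=
  Lgr Lrot81 (Lpe (f683202 IH) (Lpe (f626441 IH) (Lpqs (f709497 IH) (Lpe (f677949 IH) (Lpr_bt (f677952 IH) (Lpq (f709498 IH) (Lpr_at (f771276 IH) (Lpn v10019))))))))
theorem f771283 : v8077 = v11125 :=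
  (Llr Lrot124 (Lpe (f669889 IH) (Lpe (f502878 IH) (Lpr_ct (K59.f502884 IH) (Lpqs (f769149 IH) (Lpe (f681453 IH) (Lpe (K59.f625658 IH) (Lpr_bt (K59.f625656 IH) (Lpq (K59.f769135 IH) (Lpqs (K58.f769102 IH) (Lpr_gt (K59.f626312 IH) (Lpr_ct (f626350 IH) (Lpr_gt (f682714 IH) (Lpq (f709553 IH) (Lpr_cf (f771279 IH) (Lpe (f771278 IH) (Lpn v11125))))))))))))))))).symm
def v11128 : LQ := Led Lsl_et v3614
theorem f683209 : Led Lsl_et v3614 = v11128 :=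
  Lrfl
theorem f683211 : Led Lsl_ef v3614 = v11128 :=
  Lgr Lrot88 (Lpr_et (f683209 IH) (Lpn v11128))
theorem f827030 : Led Lsl_af v11128 = v25101 :=
  Lgr Lrot50 (Lpe (f683211 IH) (Lpr_at (f683201 IH) (Lpq (f771283 IH) (Lpr_et (f827029 IH) (Lpn v25101)))))
theorem f672259 : Led Lsl_df K51.v2198 = K51.v8774 :=
  Lgr Lrot38 (Lpr_dt (K51.f672258 IH) (Lpn K51.v8774))
theorem f683210 : Led Lsl_bf K51.v3617 = v11128 :=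
  Lgr Lrot96 (Lpe (K51.f626447 IH) (Lpr_bt (f626440 IH) (Lpr_et (f683209 IH) (Lpn v11128))))
def v8772 : LQ := Led Lsl_bt K51.v2198
theorem f672254 : Led Lsl_bt K51.v2198 = v8772 :=
  Lrfl
theorem f715559 : Led Lsl_df v11128 = v8772 :=
  Lgr Lrot12 (Lpe (f683210 IH) (Lpqs (K51.f708132 IH) (Lpe (f672259 IH) (Lpr_bt (f672254 IH) (Lpn v8772)))))
theorem f715560 : Led Lsl_dt v11128 = v8772 :=
  Lgr Lrot42 (Lpr_df (f715559 IH) (Lpn v8772))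
theorem f827025 : Led Lsl_dt v8581 = v25101 :=
  Lgr Lrot6 (Lpe (f671671 IH) (Lpr_ct (f651502 IH) (Lpe (f775887 IH) (Lpe (f648726 IH) (Lpe (K58.f67300 IH) (Lpr_cf (f765382 IH) (Lpr_gf (f827024 IH) (Lpe (f827022 IH) (Lpr_gf (f827021 IH) (Lpn v25101))))))))))
theorem f827031 : Led Lsl_at v8772 = v8581 :=
  Lgr Lrot51 (Lpe (f715560 IH) (Lpr_af (f827030 IH) (Lpe (f827025 IH) (Lpn v8581))))
def v8660 : LQ := Led Lsl_et K58.v2138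
theorem f671926 : Led Lsl_et K58.v2138 = v8660 :=
  Lrfl
theorem f509196 : Led Lsl_ef (LP (LK LD1_c1 LD2_c36 LD3_c21)) = K51.v2139 :=
  Lgr Lrot88 (Lpr_et (K51.f509194 IH) (Lpn K51.v2139))
theorem f671927 : Led Lsl_bf K51.v2139 = v8660 :=
  Lgr Lrot96 (Lpe (f509196 IH) (Lpr_bt (K58.f509191 IH) (Lpr_et (f671926 IH) (Lpn v8660))))
theorem f708298 : Led Lsl_ff v8660 = v8772 :=
  Lgr Lrot25 (Lpe (f671927 IH) (Lpq (K51.f708292 IH) (Lpe (K51.f672241 IH) (Lpr_bt (f672254 IH) (Lpn v8772)))))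
theorem f715558 : Led Lsl_ft v8660 = v8772 :=
  Lgr Lrot48 (Lpr_ff (f708298 IH) (Lpn v8772))
theorem f827034 : v8660 = v8580 :=
  (Llr Lrot52 (Lpr_ft (f715558 IH) (Lpr_at (f827031 IH) (Lpe (f671672 IH) (Lpr_gf (f671670 IH) (Lpn v8580)))))).symm
def v25100 : LQ := Led Lsl_gt K65.v5222
theorem f827012 : Led Lsl_gt K65.v5222 = v25100 :=
  Lrfl
theorem f671928 : Led Lsl_ef K58.v2138 = v8660 :=
  Lgr Lrot88 (Lpr_et (f671926 IH) (Lpn v8660))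
theorem f827013 : Led Lsl_dt v8660 = v25100 :=
  Lgr Lrot56 (Lpe (f671928 IH) (Lpr_gt (K58.f671920 IH) (Lpq (K58.f769571 IH) (Lpe (K58.f647141 IH) (Lpr_dt (K3.f25112 IH) (Lpr_gt (K4.f77831 IH) (Lpr_df (K59.f502847 IH) (Lpr_et (K65.f650068 IH) (Lpq (K65.f708137 IH) (Lpe (K65.f646595 IH) (Lpr_dt (K65.f646600 IH) (Lpr_gt (f827012 IH) (Lpn v25100)))))))))))))
theorem f827015 : Led Lsl_df v8660 = v25100 :=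
  Lgr Lrot38 (Lpr_dt (f827013 IH) (Lpn v25100))
theorem f769576 : Led Lsl_et (LP (LK LD1_c6 LD2_c36 LD3_c34)) = K58.v6289 :=
  Lgr Lrot87 (Lpr_ef (K58.f769572 IH) (Lpn K58.v6289))
def v19011 : LQ := Led Lsl_dt (LP (LK LD1_c6 LD2_c36 LD3_c34))
theorem f777227 : Led Lsl_dt (LP (LK LD1_c6 LD2_c36 LD3_c34)) = v19011 :=
  Lrfl
theorem f777228 : Led Lsl_df (LP (LK LD1_c6 LD2_c36 LD3_c34)) = v19011 :=
  Lgr Lrot38 (Lpr_dt (f777227 IH) (Lpn v19011))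
theorem f827016 : Led Lsl_ef v19011 = v25100 :=
  Lgr Lrot73 (Lpe (f777228 IH) (Lpr_et (f769576 IH) (Lpe (K58.f652592 IH) (Lpr_et (f671926 IH) (Lpr_dt (f827013 IH) (Lpn v25100))))))
def v25375 : LQ := Led Lsl_ct K58.v5508
theorem f828367 : Led Lsl_ct K58.v5508 = v25375 :=
  Lrfl
def v5507 : LQ := Led Lsl_gf (LP (LK LD1_c3 LD2_c8 LD3_c48))
theorem f648003 : Led Lsl_gf (LP (LK LD1_c3 LD2_c8 LD3_c48)) = v5507 :=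
  Lrfl
theorem f769918 : (LP (LK LD1_c6 LD2_c18 LD3_c11)) = v5507 :=
  Lefun (Lecon (Lfl_gt (K58.f758919 IH)) (K58.f769916 IH)) (f648003 IH)
def v5337 : LQ := Led Lsl_gf (LP (LK LD1_c3 LD2_c6 LD3_c21))
theorem f647158 : Led Lsl_gf (LP (LK LD1_c3 LD2_c6 LD3_c21)) = v5337 :=
  Lrfl
theorem f653605 : Led Lsl_gf v5337 = K58.v6486 :=
  Lgr Lrot47 (Lpe (f647158 IH) (Lpe (K5.f114806 IH) (Lpr_ff (K58.f653601 IH) (Lpn K58.v6486))))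
theorem f769932 : v5337 = (LP (LK LD1_c4 LD2_c42 LD3_c6)) :=
  Lefun (Lecon (Lfl_gf (f653605 IH)) (K58.f769929 IH)) (K58.f506116 IH)
theorem f702026 : Led Lsl_cf (LP (LK LD1_c4 LD2_c42 LD3_c6)) = K59.v13267 :=
  Lgr Lrot11 (Lpr_ct (K59.f702024 IH) (Lpn K59.v13267))
theorem f79098 : Led Lsl_dt (LP (LK LD1_c3 LD2_c16 LD3_c33)) = (LP (LK LD1_c6 LD2_c36 LD3_c28)) :=
  Lre_d IH (LK LD1_c3 LD2_c16 LD3_c33) (LK LD1_c6 LD2_c36 LD3_c28) Lrfl Lrfl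
theorem f650600 : Led Lsl_gt (LP (LK LD1_c6 LD2_c36 LD3_c28)) = (LP (LK LD1_c12 LD2_c38 LD3_c54)) :=
  Lre_g IH (LK LD1_c6 LD2_c36 LD3_c28) (LK LD1_c12 LD2_c38 LD3_c54) Lrfl Lrfl
theorem f828370 : Led Lsl_dt (LP (LK LD1_c12 LD2_c38 LD3_c54)) = v25375 :=
  Lgr Lrot113 (Lpe (f650600 IH) (Lpe (f79098 IH) (Lpe (K59.f79057 IH) (Lpq (K59.f771875 IH) (Lpe (f702026 IH) (Lpq (f769932 IH) (Lpe (f647158 IH) (Lpr_dt (K58.f79047 IH) (Lpqs (f769918 IH) (Lpe (f648003 IH) (Lpr_dt (K58.f648004 IH) (Lpr_ct (f828367 IH) (Lpn v25375)))))))))))))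
theorem f828372 : Led Lsl_df (LP (LK LD1_c12 LD2_c38 LD3_c54)) = v25375 :=
  Lgr Lrot38 (Lpr_dt (f828370 IH) (Lpn v25375))
theorem f118601 : Led Lsl_dt (LP (LK LD1_c12 LD2_c38 LD3_c56)) = (LP (LK LD1_c6 LD2_c36 LD3_c29)) :=
  Lre_d IH (LK LD1_c12 LD2_c38 LD3_c56) (LK LD1_c6 LD2_c36 LD3_c29) Lrfl Lrfl
def v17693 : LQ := Led Lsl_at (LP (LK LD1_c6 LD2_c21 LD3_c26))
theorem f761778 : Led Lsl_at (LP (LK LD1_c6 LD2_c21 LD3_c26)) = v17693 :=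
  Lrfl
theorem f761779 : Led Lsl_af (LP (LK LD1_c6 LD2_c21 LD3_c26)) = v17693 :=
  Lgr Lrot0 (Lpr_at (f761778 IH) (Lpn v17693))
theorem f761781 : Led Lsl_ft K59.v5486 = v17693 :=
  Lgr Lrot2 (Lpe (K59.f647899 IH) (Lpr_gt (K58.f504651 IH) (Lpr_af (f761779 IH) (Lpn v17693))))
theorem f441113 : Led Lsl_ft (LP (LK LD1_c3 LD2_c16 LD3_c33)) = (LP (LK LD1_c6 LD2_c36 LD3_c29)) :=
  Lre_f IH (LK LD1_c3 LD2_c16 LD3_c33) (LK LD1_c6 LD2_c36 LD3_c29) Lrfl Lrfl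
theorem f771890 : v17693 = (LP (LK LD1_c6 LD2_c36 LD3_c29)) :=
  Lefun (Lecon (f761781 IH) (K59.f771805 IH)) (f441113 IH)
theorem f702033 : Led Lsl_dt (LP (LK LD1_c6 LD2_c21 LD3_c26)) = (LP (LK LD1_c12 LD2_c16 LD3_c50)) :=
  Lre_d IH (LK LD1_c6 LD2_c21 LD3_c26) (LK LD1_c12 LD2_c16 LD3_c50) Lrfl Lrfl
theorem f772927 : Led Lsl_af (LP (LK LD1_c12 LD2_c38 LD3_c56)) = (LP (LK LD1_c12 LD2_c16 LD3_c50)) :=
  Lgr Lrot117 (Lpr_dt (f118601 IH) (Lpq (f771890 IH) (Lpe (f761779 IH) (Lpr_dt (f702033 IH) (Lpn (LP (LK LD1_c12 LD2_c16 LD3_c50)))))))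
theorem f772932 : Led Lsl_at (LP (LK LD1_c12 LD2_c38 LD3_c56)) = (LP (LK LD1_c12 LD2_c16 LD3_c50)) :=
  Lgr Lrot100 (Lpr_af (f772927 IH) (Lpn (LP (LK LD1_c12 LD2_c16 LD3_c50))))
theorem f772925 : Led Lsl_ft (LP (LK LD1_c6 LD2_c36 LD3_c28)) = (LP (LK LD1_c12 LD2_c38 LD3_c56)) :=
  Lre_f IH (LK LD1_c6 LD2_c36 LD3_c28) (LK LD1_c12 LD2_c38 LD3_c56) Lrfl Lrfl
theorem f772945 : Led Lsl_gt (LP (LK LD1_c12 LD2_c38 LD3_c54)) = (LP (LK LD1_c12 LD2_c16 LD3_c50)) :=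
  Lgr Lrot46 (Lpe (f650600 IH) (Lpr_ft (f772925 IH) (Lpr_at (f772932 IH) (Lpn (LP (LK LD1_c12 LD2_c16 LD3_c50))))))
theorem f702032 : Led Lsl_dt (LP (LK LD1_c12 LD2_c16 LD3_c50)) = (LP (LK LD1_c6 LD2_c21 LD3_c26)) :=
  Lre_d IH (LK LD1_c12 LD2_c16 LD3_c50) (LK LD1_c6 LD2_c21 LD3_c26) Lrfl Lrfl
def v17992 : LQ := Led Lsl_ft (LP (LK LD1_c6 LD2_c25 LD3_c38))
theorem f764566 : Led Lsl_ft (LP (LK LD1_c6 LD2_c25 LD3_c38)) = v17992 :=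
  Lrfl
theorem f118745 : Led Lsl_bt (LP (LK LD1_c6 LD2_c19 LD3_c51)) = (LP (LK LD1_c12 LD2_c14 LD3_c33)) :=
  Lre_b IH (LK LD1_c6 LD2_c19 LD3_c51) (LK LD1_c12 LD2_c14 LD3_c33) Lrfl Lrfl
theorem f118839 : Led Lsl_ct (LP (LK LD1_c12 LD2_c14 LD3_c33)) = (LP (LK LD1_c12 LD2_c38 LD3_c40)) :=
  Lgr Lrot59 (Lpr_cf (K59.f118831 IH) (Lpn (LP (LK LD1_c12 LD2_c38 LD3_c40))))
theorem f118841 : Led Lsl_bt (LP (LK LD1_c12 LD2_c38 LD3_c40)) = (LP (LK LD1_c6 LD2_c36 LD3_c17)) :=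
  Lre_b IH (LK LD1_c12 LD2_c38 LD3_c40) (LK LD1_c6 LD2_c36 LD3_c17) Lrfl Lrfl
theorem f118842 : Led Lsl_ct (LP (LK LD1_c6 LD2_c36 LD3_c17)) = (LP (LK LD1_c3 LD2_c16 LD3_c29)) :=
  Lre_c IH (LK LD1_c6 LD2_c36 LD3_c17) (LK LD1_c3 LD2_c16 LD3_c29) Lrfl Lrfl
theorem f440307 : Led Lsl_bf (LP (LK LD1_c6 LD2_c25 LD3_c38)) = (LP (LK LD1_c3 LD2_c16 LD3_c29)) :=
  Lgr Lrot90 (Lpr_ct (K59.f440303 IH) (Lpr_bt (f118745 IH) (Lpr_ct (f118839 IH) (Lpr_bt (f118841 IH) (Lpr_ct (f118842 IH) (Lpn (LP (LK LD1_c3 LD2_c16 LD3_c29))))))))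
theorem f650580 : Led Lsl_ff (LP (LK LD1_c3 LD2_c16 LD3_c29)) = K46.v6021 :=
  Lgr Lrot3 (Lpr_ft (K46.f650578 IH) (Lpn K46.v6021))
theorem f764568 : Led Lsl_bf K46.v6021 = v17992 :=
  Lgr Lrot61 (Lpe (f650580 IH) (Lpe (f440307 IH) (Lpr_ft (f764566 IH) (Lpn v17992))))
theorem f761786 : Led Lsl_bt K58.v17560 = K58.v17694 :=
  Lgr Lrot127 (Lpr_bf (K58.f761785 IH) (Lpn K58.v17694))
theorem f764571 : Led Lsl_ff (LP (LK LD1_c6 LD2_c25 LD3_c38)) = v17992 :=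
  Lgr Lrot3 (Lpr_ft (f764566 IH) (Lpn v17992))
theorem f125505 : Led Lsl_at (LP (LK LD1_c6 LD2_c25 LD3_c38)) = (LP (LK LD1_c3 LD2_c15 LD3_c58)) :=
  Lgr Lrot80 (Lpe (K59.f125504 IH) (Lpr_af (K5.f125496 IH) (Lpe (K65.f118728 IH) (Lpn (LP (LK LD1_c3 LD2_c15 LD3_c58))))))
theorem f764573 : Led Lsl_at K59.v5992 = v17992 :=
  Lgr Lrot66 (Lpe (K59.f650418 IH) (Lpe (f125505 IH) (Lpr_ff (f764571 IH) (Lpn v17992))))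
theorem f764578 : Led Lsl_gt K65.v5989 = v17992 :=
  Lgr Lrot46 (Lpe (K65.f650410 IH) (Lpr_ft (K59.f650418 IH) (Lpr_at (f764573 IH) (Lpn v17992))))
theorem f771823 : v17992 = K58.v17560 :=
  Lefun (Lecon (f764578 IH) (K65.f771753 IH).symm) (K58.f760910 IH)
theorem f771911 : K46.v6021 = K58.v17694 :=
  Lefun (Lecon (Lfl_bf (f764568 IH)) (f771823 IH)) (f761786 IH)
def v18994 : LQ := Led Lsl_ft (LP (LK LD1_c6 LD2_c36 LD3_c19))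
theorem f777123 : Led Lsl_ft (LP (LK LD1_c6 LD2_c36 LD3_c19)) = v18994 :=
  Lrfl
theorem f777126 : Led Lsl_df K46.v6021 = v18994 :=
  Lgr Lrot78 (Lpe (f650580 IH) (Lpr_dt (K46.f78768 IH) (Lpr_ft (f777123 IH) (Lpn v18994))))
theorem f777127 : Led Lsl_ff (LP (LK LD1_c6 LD2_c36 LD3_c19)) = v18994 :=
  Lgr Lrot3 (Lpr_ft (f777123 IH) (Lpn v18994))
theorem f78783 : Led Lsl_at (LP (LK LD1_c6 LD2_c36 LD3_c19)) = (LP (LK LD1_c3 LD2_c16 LD3_c36)) :=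
  Lre_a IH (LK LD1_c6 LD2_c36 LD3_c19) (LK LD1_c3 LD2_c16 LD3_c36) Lrfl Lrfl
def v6029 : LQ := Led Lsl_gf (LP (LK LD1_c3 LD2_c16 LD3_c36))
theorem f650629 : Led Lsl_gf (LP (LK LD1_c3 LD2_c16 LD3_c36)) = v6029 :=
  Lrfl
theorem f777131 : Led Lsl_gf v6029 = v18994 :=
  Lgr Lrot47 (Lpe (f650629 IH) (Lpe (f78783 IH) (Lpr_ff (f777127 IH) (Lpn v18994))))
def v18993 : LQ := Led Lsl_gt (LP (LK LD1_c6 LD2_c36 LD3_c19))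
theorem f777115 : Led Lsl_gt (LP (LK LD1_c6 LD2_c36 LD3_c19)) = v18993 :=
  Lrfl
theorem f89095 : Led Lsl_bt (LP (LK LD1_c6 LD2_c59 LD3_c2)) = (LP (LK LD1_c3 LD2_c28 LD3_c41)) :=
  Lre_b IH (LK LD1_c6 LD2_c59 LD3_c2) (LK LD1_c3 LD2_c28 LD3_c41) Lrfl Lrfl
theorem f90814 : Led Lsl_et (LP (LK LD1_c12 LD2_c48 LD3_c24)) = (LP (LK LD1_c6 LD2_c41 LD3_c37)) :=
  Lre_e IH (LK LD1_c12 LD2_c48 LD3_c24) (LK LD1_c6 LD2_c41 LD3_c37) Lrfl Lrfl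
theorem f134505 : Led Lsl_et (LP (LK LD1_c12 LD2_c33 LD3_c22)) = (LP (LK LD1_c21 LD2_c39 LD3_c30)) :=
  Lre_e IH (LK LD1_c12 LD2_c33 LD3_c22) (LK LD1_c21 LD2_c39 LD3_c30) Lrfl Lrfl
theorem f134506 : Led Lsl_cf (LP (LK LD1_c12 LD2_c48 LD3_c24)) = (LP (LK LD1_c21 LD2_c39 LD3_c30)) :=
  Lgr Lrot39 (Lpr_et (f90814 IH) (Lpr_ct (K60.f134496 IH) (Lpr_et (f134505 IH) (Lpn (LP (LK LD1_c21 LD2_c39 LD3_c30))))))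
theorem f89077 : Led Lsl_bt (LP (LK LD1_c12 LD2_c48 LD3_c24)) = (LP (LK LD1_c6 LD2_c41 LD3_c39)) :=
  Lre_b IH (LK LD1_c12 LD2_c48 LD3_c24) (LK LD1_c6 LD2_c41 LD3_c39) Lrfl Lrfl
theorem f89076 : Led Lsl_bt (LP (LK LD1_c3 LD2_c28 LD3_c41)) = (LP (LK LD1_c6 LD2_c59 LD3_c2)) :=
  Lre_b IH (LK LD1_c3 LD2_c28 LD3_c41) (LK LD1_c6 LD2_c59 LD3_c2) Lrfl Lrfl
theorem f134519 : Led Lsl_bt (LP (LK LD1_c12 LD2_c33 LD3_c24)) = (LP (LK LD1_c21 LD2_c39 LD3_c30)) :=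
  Lre_b IH (LK LD1_c12 LD2_c33 LD3_c24) (LK LD1_c21 LD2_c39 LD3_c30) Lrfl Lrfl
theorem f134520 : Led Lsl_ct (LP (LK LD1_c6 LD2_c59 LD3_c2)) = (LP (LK LD1_c12 LD2_c33 LD3_c24)) :=
  Lgr Lrot83 (Lpe (f89076 IH) (Lpr_cf (K3.f88993 IH) (Lpe (f89077 IH) (Lpr_cf (f134506 IH) (Lpe (f134519 IH) (Lpn (LP (LK LD1_c12 LD2_c33 LD3_c24))))))))
def v13784 : LQ := Led Lsl_bt (LP (LK LD1_c4 LD2_c47 LD3_c60))
theorem f704823 : Led Lsl_bt (LP (LK LD1_c4 LD2_c47 LD3_c60)) = v13784 :=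
  Lrfl
theorem f650464 : Led Lsl_bt (LP (LK LD1_c3 LD2_c16 LD3_c61)) = (LP (LK LD1_c6 LD2_c36 LD3_c36)) :=
  Lre_b IH (LK LD1_c3 LD2_c16 LD3_c61) (LK LD1_c6 LD2_c36 LD3_c36) Lrfl Lrfl
theorem f776724 : Led Lsl_gf v13784 = (LP (LK LD1_c6 LD2_c36 LD3_c36)) :=
  Lgr Lrot124 (Lpe (f704823 IH) (Lpr_ct (K59.f677942 IH) (Lpe (K59.f772762 IH) (Lpe (f134520 IH) (Lpr_bt (f89095 IH) (Lpr_gt (K59.f62662 IH) (Lpe (K59.f776722 IH) (Lpr_gt (K59.f776719 IH) (Lpe (K57.f118539 IH) (Lpr_bt (f650464 IH) (Lpn (LP (LK LD1_c6 LD2_c36 LD3_c36)))))))))))))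
theorem f78981 : Led Lsl_ft (LP (LK LD1_c6 LD2_c36 LD3_c36)) = (LP (LK LD1_c3 LD2_c16 LD3_c36)) :=
  Lre_f IH (LK LD1_c6 LD2_c36 LD3_c36) (LK LD1_c3 LD2_c16 LD3_c36) Lrfl Lrfl
theorem f776726 : Led Lsl_gt v13784 = (LP (LK LD1_c6 LD2_c36 LD3_c19)) :=
  Lgr Lrot46 (Lpr_gf (f776724 IH) (Lpr_ft (f78981 IH) (Lpr_at (K46.f78775 IH) (Lpn (LP (LK LD1_c6 LD2_c36 LD3_c19))))))
theorem f652590 : Led Lsl_bf (LP (LK LD1_c3 LD2_c19 LD3_c56)) = K58.v6289 :=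
  Lgr Lrot24 (Lpr_bt (K58.f652589 IH) (Lpn K58.v6289))
theorem f769577 : Led Lsl_bf (LP (LK LD1_c6 LD2_c36 LD3_c34)) = (LP (LK LD1_c6 LD2_c43 LD3_c40)) :=
  Lgr Lrot96 (Lpr_et (f769576 IH) (Lpe (f652590 IH) (Lpr_et (K50.f62371 IH) (Lpn (LP (LK LD1_c6 LD2_c43 LD3_c40))))))
theorem f704824 : Led Lsl_bf (LP (LK LD1_c4 LD2_c47 LD3_c60)) = v13784 :=
  Lgr Lrot24 (Lpr_bt (f704823 IH) (Lpn v13784))
theorem f769583 : Led Lsl_ft (LP (LK LD1_c6 LD2_c36 LD3_c34)) = v13784 :=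
  Lgr Lrot75 (Lpr_bf (f769577 IH) (Lpq (K51.f709508 IH) (Lpe (K51.f704809 IH) (Lpr_bf (f704824 IH) (Lpn v13784)))))
theorem f769584 : Led Lsl_ff (LP (LK LD1_c6 LD2_c36 LD3_c34)) = v13784 :=
  Lgr Lrot3 (Lpr_ft (f769583 IH) (Lpn v13784))
theorem f777116 : Led Lsl_at (LP (LK LD1_c6 LD2_c36 LD3_c34)) = v18993 :=
  Lgr Lrot26 (Lpr_ff (f769584 IH) (Lpr_gt (f776726 IH) (Lpr_gt (f777115 IH) (Lpn v18993))))
theorem f777117 : Led Lsl_af (LP (LK LD1_c6 LD2_c36 LD3_c34)) = v18993 :=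
  Lgr Lrot0 (Lpr_at (f777116 IH) (Lpn v18993))
theorem f777118 : Led Lsl_ft v6029 = v18993 :=
  Lgr Lrot2 (Lpe (f650629 IH) (Lpr_gt (K58.f78795 IH) (Lpr_af (f777117 IH) (Lpn v18993))))
theorem f777119 : Led Lsl_af v6029 = v13784 :=
  Lgr Lrot45 (Lpr_ft (f777118 IH) (Lpe (f777117 IH) (Lpr_ft (f769583 IH) (Lpn v13784))))
theorem f777132 : Led Lsl_gt (LP (LK LD1_c6 LD2_c36 LD3_c34)) = v18994 :=
  Lgr Lrot5 (Lpr_ft (f769583 IH) (Lpe (f777119 IH) (Lpr_gf (f777131 IH) (Lpn v18994))))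
theorem f648005 : Led Lsl_bf (LP (LK LD1_c3 LD2_c8 LD3_c50)) = K58.v5508 :=
  Lgr Lrot93 (Lpr_dt (K9.f61838 IH) (Lpr_bt (K58.f67178 IH) (Lpr_dt (K58.f648004 IH) (Lpn K58.v5508))))
theorem f623420 : Led Lsl_af K29.v1115 = K35.v2819 :=
  Lgr Lrot50 (Lpe (K29.f491575 IH) (Lpr_at (K35.f491564 IH) (Lpq (K49.f623412 IH) (Lpr_et (K35.f535758 IH) (Lpn K35.v2819)))))
theorem f627811 : Led Lsl_gt (LP (LK LD1_c3 LD2_c8 LD3_c50)) = K35.v3903 :=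
  Lgr Lrot5 (Lpr_ft (K35.f622865 IH) (Lpe (f623420 IH) (Lpr_gf (K35.f627810 IH) (Lpn K35.v3903))))
theorem f627814 : Led Lsl_cf (LP (LK LD1_c5 LD2_c45 LD3_c59)) = K35.v3903 :=
  Lgr Lrot166 (Lpr_gt (K48.f419102 IH) (Lpr_dt (K52.f204648 IH) (Lpr_gt (K35.f68944 IH) (Lpr_dt (K11.f68640 IH) (Lpe (K11.f61870 IH) (Lpe (K11.f67105 IH) (Lpe (K29.f416969 IH) (Lpr_df (K29.f491576 IH) (Lpr_gf (K35.f627810 IH) (Lpn K35.v3903))))))))))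
theorem f435581 : Led Lsl_bt (LP (LK LD1_c1 LD2_c34 LD3_c11)) = (LP (LK LD1_c3 LD2_c15 LD3_c6)) :=
  Lre_b IH (LK LD1_c1 LD2_c34 LD3_c11) (LK LD1_c3 LD2_c15 LD3_c6) Lrfl Lrfl
def v17005 : LQ := Led Lsl_et (LP (LK LD1_c6 LD2_c10 LD3_c20))
theorem f754278 : Led Lsl_et (LP (LK LD1_c6 LD2_c10 LD3_c20)) = v17005 :=
  Lrfl
theorem f754279 : Led Lsl_bf (LP (LK LD1_c6 LD2_c10 LD3_c22)) = v17005 :=
  Lgr Lrot96 (Lpr_et (K57.f62169 IH) (Lpr_bt (K51.f139966 IH) (Lpr_et (f754278 IH) (Lpn v17005))))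
def v18414 : LQ := Led Lsl_et (LP (LK LD1_c6 LD2_c29 LD3_c25))
theorem f766869 : Led Lsl_et (LP (LK LD1_c6 LD2_c29 LD3_c25)) = v18414 :=
  Lrfl
theorem f766871 : Led Lsl_ef (LP (LK LD1_c6 LD2_c29 LD3_c25)) = v18414 :=
  Lgr Lrot88 (Lpr_et (f766869 IH) (Lpn v18414))
theorem f139969 : Led Lsl_cf (LP (LK LD1_c6 LD2_c10 LD3_c20)) = (LP (LK LD1_c6 LD2_c29 LD3_c25)) :=
  Lgr Lrot11 (Lpr_ct (K9.f139964 IH) (Lpn (LP (LK LD1_c6 LD2_c29 LD3_c25))))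
theorem f766872 : Led Lsl_ct v17005 = v18414 :=
  Lgr Lrot15 (Lpe (f754278 IH) (Lpr_cf (f139969 IH) (Lpr_ef (f766871 IH) (Lpn v18414))))
theorem f828371 : Led Lsl_gt v18414 = v25375 :=
  Lgr Lrot65 (Lpe (f766872 IH) (Lpe (f754279 IH) (Lpq (K49.f663198 IH) (Lpqs (K59.f768875 IH) (Lpe (K59.f650104 IH) (Lpe (f435581 IH) (Lpr_ct (K35.f435587 IH) (Lpe (K48.f419102 IH) (Lpr_cf (f627814 IH) (Lpe (f627811 IH) (Lpr_bf (f648005 IH) (Lpr_ct (f828367 IH) (Lpn v25375)))))))))))))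
theorem f828373 : Led Lsl_gf v19011 = v17005 :=
  Lgr Lrot144 (Lpe (f777228 IH) (Lpr_gt (f777132 IH) (Lpe (f777126 IH) (Lpqs (f771911 IH) (Lpe (K58.f761783 IH) (Lpe (f702032 IH) (Lpe (f772945 IH) (Lpr_df (f828372 IH) (Lpe (f828371 IH) (Lpe (f766872 IH) (Lpn v17005)))))))))))
def v17004 : LQ := Led Lsl_dt (LP (LK LD1_c6 LD2_c10 LD3_c20))
theorem f754270 : Led Lsl_dt (LP (LK LD1_c6 LD2_c10 LD3_c20)) = v17004 :=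
  Lrfl
theorem f846558 : Led Lsl_gf v17004 = v28869 :=
  Lgr Lrot134 (Lpe (f754270 IH) (Lpr_et (f754278 IH) (Lpe (f828373 IH) (Lpr_ef (f827016 IH) (Lpe (f827015 IH) (Lpqs (f827034 IH) (Lpe (f671670 IH) (Lpe (f671647 IH) (Lpr_et (f671651 IH) (Lpr_gt (f671664 IH) (Lpr_dt (f846553 IH) (Lpn v28869))))))))))))
theorem f871368 : Led Lsl_ct v17004 = v34518 :=
  Lgr Lrot152 (Lpr_gf (f846558 IH) (Lpe (f846553 IH) (Lpe (f671663 IH) (Lpr_ct (K58.f671665 IH) (Lpr_gt (f829535 IH) (Lpe (f829531 IH) (Lpe (K60.f648736 IH) (Lpr_cf (f686130 IH) (Lpr_gf (f871366 IH) (Lpn v34518))))))))))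
theorem f754273 : Led Lsl_ff K65.v5222 = v17004 :=
  Lgr Lrot19 (Lpe (K65.f646602 IH) (Lpr_ft (K48.f646604 IH) (Lpq (K48.f663184 IH) (Lpr_dt (f754270 IH) (Lpn v17004)))))
theorem f754274 : Led Lsl_bt K48.v5235 = v17004 :=
  Lgr Lrot35 (Lpe (K49.f646725 IH) (Lpr_bf (K65.f646601 IH) (Lpr_ff (f754273 IH) (Lpn v17004))))
theorem f754276 : Led Lsl_ef K51.v5240 = v17004 :=
  Lgr Lrot29 (Lpe (K51.f646751 IH) (Lpr_et (K48.f646486 IH) (Lpq (K48.f663197 IH) (Lpr_bt (f754274 IH) (Lpn v17004)))))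
theorem f754277 : Led Lsl_et K51.v5240 = v17004 :=
  Lgr Lrot87 (Lpr_ef (f754276 IH) (Lpn v17004))
def v17360 : LQ := Led Lsl_gt (LP (LK LD1_c6 LD2_c18 LD3_c15))
theorem f758927 : Led Lsl_gt (LP (LK LD1_c6 LD2_c18 LD3_c15)) = v17360 :=
  Lrfl
theorem f79654 : Led Lsl_ct (LP (LK LD1_c3 LD2_c6 LD3_c24)) = (LP (LK LD1_c6 LD2_c18 LD3_c15)) :=
  Lre_c IH (LK LD1_c3 LD2_c6 LD3_c24) (LK LD1_c6 LD2_c18 LD3_c15) Lrfl Lrfl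
theorem f58441 : Led Lsl_gt (LP (LK LD1_c12 LD2_c11 LD3_c15)) = (LP (LK LD1_c6 LD2_c17 LD3_c27)) :=
  Lre_g IH (LK LD1_c12 LD2_c11 LD3_c15) (LK LD1_c6 LD2_c17 LD3_c27) Lrfl Lrfl
theorem f62112 : Led Lsl_gt (LP (LK LD1_c3 LD2_c2 LD3_c23)) = (LP (LK LD1_c6 LD2_c9 LD3_c53)) :=
  Lre_g IH (LK LD1_c3 LD2_c2 LD3_c23) (LK LD1_c6 LD2_c9 LD3_c53) Lrfl Lrfl
theorem f758928 : Led Lsl_ct K51.v5240 = v17360 :=
  Lgr Lrot63 (Lpe (K51.f646751 IH) (Lpr_gt (f62112 IH) (Lpr_bf (K52.f58311 IH) (Lpr_ct (K1.f58290 IH) (Lpr_gt (f58441 IH) (Lpr_cf (K57.f708850 IH) (Lpe (K57.f708860 IH) (Lpr_gt (K57.f67916 IH) (Lpr_ct (f79654 IH) (Lpr_gt (f758927 IH) (Lpn v17360)))))))))))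
theorem f758930 : Led Lsl_cf K51.v5240 = v17360 :=
  Lgr Lrot11 (Lpr_ct (f758928 IH) (Lpn v17360))
theorem f871370 : Led Lsl_ef v17360 = v34518 :=
  Lgr Lrot28 (Lpe (f758930 IH) (Lpr_et (f754277 IH) (Lpr_ct (f871368 IH) (Lpn v34518))))
theorem f871372 : Led Lsl_et v17360 = v34518 :=
  Lgr Lrot87 (Lpr_ef (f871370 IH) (Lpn v34518))
theorem f76602 : Led Lsl_bt (LP (LK LD1_c1 LD2_c29 LD3_c22)) = (LP (LK LD1_c0 LD2_c41 LD3_c20)) :=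
  Lre_b IH (LK LD1_c1 LD2_c29 LD3_c22) (LK LD1_c0 LD2_c41 LD3_c20) Lrfl Lrfl
theorem f76661 : Led Lsl_ct (LP (LK LD1_c1 LD2_c29 LD3_c22)) = (LP (LK LD1_c3 LD2_c6 LD3_c29)) :=
  Lre_c IH (LK LD1_c1 LD2_c29 LD3_c22) (LK LD1_c3 LD2_c6 LD3_c29) Lrfl Lrfl
theorem f76607 : Led Lsl_gt (LP (LK LD1_c6 LD2_c18 LD3_c28)) = (LP (LK LD1_c3 LD2_c6 LD3_c29)) :=
  Lre_g IH (LK LD1_c6 LD2_c18 LD3_c28) (LK LD1_c3 LD2_c6 LD3_c29) Lrfl Lrfl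
theorem f708899 : Led Lsl_ct (LP (LK LD1_c9 LD2_c21 LD3_c11)) = (LP (LK LD1_c6 LD2_c18 LD3_c28)) :=
  Lgr Lrot91 (Lpr_gf (K51.f678332 IH) (Lpe (K51.f678331 IH) (Lpr_ct (K51.f682819 IH) (Lpr_gf (K51.f708897 IH) (Lpe (K51.f647225 IH) (Lpr_bt (K46.f79737 IH) (Lpe (K31.f61832 IH) (Lpe (f76602 IH) (Lpr_ct (f76661 IH) (Lpe (f76607 IH) (Lpn (LP (LK LD1_c6 LD2_c18 LD3_c28)))))))))))))
theorem f708904 : Led Lsl_cf (LP (LK LD1_c9 LD2_c21 LD3_c11)) = (LP (LK LD1_c6 LD2_c18 LD3_c28)) :=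
  Lgr Lrot11 (Lpr_ct (f708899 IH) (Lpn (LP (LK LD1_c6 LD2_c18 LD3_c28))))
theorem f758931 : Led Lsl_ff (LP (LK LD1_c6 LD2_c18 LD3_c28)) = v17360 :=
  Lgr Lrot23 (Lpe (f708904 IH) (Lpr_ft (K51.f708896 IH) (Lpr_ct (f758928 IH) (Lpn v17360))))
theorem f758933 : Led Lsl_ft (LP (LK LD1_c6 LD2_c18 LD3_c28)) = v17360 :=
  Lgr Lrot48 (Lpr_ff (f758931 IH) (Lpn v17360))
def v17375 : LQ := Led Lsl_et (LP (LK LD1_c6 LD2_c18 LD3_c28))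
theorem f759019 : Led Lsl_et (LP (LK LD1_c6 LD2_c18 LD3_c28)) = v17375 :=
  Lrfl
theorem f759021 : Led Lsl_ef (LP (LK LD1_c6 LD2_c18 LD3_c28)) = v17375 :=
  Lgr Lrot88 (Lpr_et (f759019 IH) (Lpn v17375))
def v34517 : LQ := Led Lsl_gt v11845
theorem f871359 : Led Lsl_gt v11845 = v34517 :=
  Lrfl
theorem f686131 : Led Lsl_ef K56.v3908 = v11845 :=
  Lgr Lrot88 (Lpr_et (f686129 IH) (Lpn v11845))
theorem f686132 : Led Lsl_ct K58.v3910 = v11845 :=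
  Lgr Lrot15 (Lpe (K58.f627855 IH) (Lpr_cf (K56.f627850 IH) (Lpr_ef (f686131 IH) (Lpn v11845))))
def v18423 : LQ := Led Lsl_dt (LP (LK LD1_c6 LD2_c29 LD3_c31))
theorem f766907 : Led Lsl_dt (LP (LK LD1_c6 LD2_c29 LD3_c31)) = v18423 :=
  Lrfl
theorem f766908 : Led Lsl_bf K57.v5741 = v18423 :=
  Lgr Lrot93 (Lpe (K57.f649146 IH) (Lpr_bt (K49.f649137 IH) (Lpr_dt (f766907 IH) (Lpn v18423))))
def v7245 : LQ := Led Lsl_gt (LP (LK LD1_c3 LD2_c43 LD3_c12))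
def v27146 : LQ := Led Lsl_et v7245
theorem f837970 : Led Lsl_et v7245 = v27146 :=
  Lrfl
theorem f837973 : Led Lsl_ef v7245 = v27146 :=
  Lgr Lrot88 (Lpr_et (f837970 IH) (Lpn v27146))
def v17365 : LQ := Led Lsl_bt (LP (LK LD1_c6 LD2_c18 LD3_c16))
theorem f758963 : Led Lsl_bt (LP (LK LD1_c6 LD2_c18 LD3_c16)) = v17365 :=
  Lrfl
theorem f758964 : Led Lsl_bf (LP (LK LD1_c6 LD2_c18 LD3_c16)) = v17365 :=
  Lgr Lrot24 (Lpr_bt (f758963 IH) (Lpn v17365))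
def v17361 : LQ := Led Lsl_gf (LP (LK LD1_c6 LD2_c18 LD3_c15))
theorem f758935 : Led Lsl_gf (LP (LK LD1_c6 LD2_c18 LD3_c15)) = v17361 :=
  Lrfl
theorem f76599 : Led Lsl_at (LP (LK LD1_c3 LD2_c6 LD3_c29)) = (LP (LK LD1_c6 LD2_c18 LD3_c15)) :=
  Lre_a IH (LK LD1_c3 LD2_c6 LD3_c29) (LK LD1_c6 LD2_c18 LD3_c15) Lrfl Lrfl
theorem f76625 : Led Lsl_ft (LP (LK LD1_c6 LD2_c18 LD3_c30)) = (LP (LK LD1_c3 LD2_c6 LD3_c29)) :=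
  Lre_f IH (LK LD1_c6 LD2_c18 LD3_c30) (LK LD1_c3 LD2_c6 LD3_c29) Lrfl Lrfl
theorem f758936 : Led Lsl_gt (LP (LK LD1_c6 LD2_c18 LD3_c30)) = v17361 :=
  Lgr Lrot5 (Lpr_ft (f76625 IH) (Lpr_at (f76599 IH) (Lpr_gf (f758935 IH) (Lpn v17361))))
theorem f67680 : Led Lsl_et (LP (LK LD1_c6 LD2_c18 LD3_c18)) = (LP (LK LD1_c3 LD2_c6 LD3_c25)) :=
  Lre_e IH (LK LD1_c6 LD2_c18 LD3_c18) (LK LD1_c3 LD2_c6 LD3_c25) Lrfl Lrfl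
theorem f68016 : Led Lsl_bf (LP (LK LD1_c6 LD2_c18 LD3_c18)) = (LP (LK LD1_c6 LD2_c27 LD3_c30)) :=
  Lgr Lrot96 (Lpr_et (f67680 IH) (Lpr_bt (K7.f68008 IH) (Lpr_et (K2.f68015 IH) (Lpn (LP (LK LD1_c6 LD2_c27 LD3_c30))))))
theorem f67681 : Led Lsl_dt (LP (LK LD1_c6 LD2_c18 LD3_c18)) = (LP (LK LD1_c3 LD2_c6 LD3_c24)) :=
  Lre_d IH (LK LD1_c6 LD2_c18 LD3_c18) (LK LD1_c3 LD2_c6 LD3_c24) Lrfl Lrfl
theorem f68175 : Led Lsl_bf (LP (LK LD1_c3 LD2_c12 LD3_c47)) = (LP (LK LD1_c3 LD2_c6 LD3_c24)) :=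
  Lgr Lrot93 (Lpr_dt (K2.f68170 IH) (Lpe (f68016 IH) (Lpr_dt (f67681 IH) (Lpn (LP (LK LD1_c3 LD2_c6 LD3_c24))))))
theorem f758938 : Led Lsl_ct K51.v10001 = v17361 :=
  Lgr Lrot91 (Lpr_gf (K51.f703069 IH) (Lpe (K51.f703067 IH) (Lpr_ct (K51.f127214 IH) (Lpr_gf (K51.f127212 IH) (Lpe (K51.f709052 IH) (Lpr_bt (K52.f709063 IH) (Lpe (K2.f66750 IH) (Lpr_bf (f68175 IH) (Lpr_ct (f79654 IH) (Lpr_gf (f758935 IH) (Lpn v17361)))))))))))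
theorem f709048 : Led Lsl_bf (LP (LK LD1_c6 LD2_c25 LD3_c42)) = K51.v10001 :=
  Lgr Lrot81 (Lpe (K51.f663478 IH) (Lpr_bt (K51.f140019 IH) (Lpr_at (K56.f646757 IH) (Lpqs (K50.f663373 IH) (Lpe (K51.f708882 IH) (Lpr_at (K51.f709046 IH) (Lpn K51.v10001)))))))
theorem f662643 : Led Lsl_gt (LP (LK LD1_c3 LD2_c43 LD3_c12)) = v7245 :=
  Lrfl
theorem f758965 : Led Lsl_cf v7245 = v17365 :=
  Lgr Lrot58 (Lpe (f662643 IH) (Lpe (K51.f208771 IH) (Lpr_bt (K48.f208769 IH) (Lpe (K51.f115520 IH) (Lpr_bf (f709048 IH) (Lpr_ct (f758938 IH) (Lpe (f758936 IH) (Lpe (K32.f68290 IH) (Lpe (K58.f76617 IH) (Lpr_bf (f758964 IH) (Lpn v17365)))))))))))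
theorem f758966 : Led Lsl_ct v7245 = v17365 :=
  Lgr Lrot59 (Lpr_cf (f758965 IH) (Lpn v17365))
theorem f759137 : Led Lsl_ff (LP (LK LD1_c6 LD2_c18 LD3_c34)) = v17365 :=
  Lgr Lrot25 (Lpr_bt (K51.f76652 IH) (Lpqs (K58.f759126 IH) (Lpe (K58.f758971 IH) (Lpr_bt (f758963 IH) (Lpn v17365)))))
theorem f759089 : Led Lsl_at (LP (LK LD1_c6 LD2_c18 LD3_c34)) = (LP (LK LD1_c6 LD2_c30 LD3_c30)) :=
  Lgr Lrot100 (Lpr_af (K57.f759087 IH) (Lpn (LP (LK LD1_c6 LD2_c30 LD3_c30))))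
theorem f68487 : Led Lsl_gt (LP (LK LD1_c3 LD2_c13 LD3_c20)) = (LP (LK LD1_c6 LD2_c30 LD3_c29)) :=
  Lre_g IH (LK LD1_c3 LD2_c13 LD3_c20) (LK LD1_c6 LD2_c30 LD3_c29) Lrfl Lrfl
theorem f209033 : Led Lsl_gf (LP (LK LD1_c6 LD2_c52 LD3_c26)) = (LP (LK LD1_c6 LD2_c30 LD3_c29)) :=
  Lgr Lrot76 (Lpr_af (K48.f209027 IH) (Lpe (K46.f68484 IH) (Lpr_gt (f68487 IH) (Lpn (LP (LK LD1_c6 LD2_c30 LD3_c29))))))
theorem f759151 : (LP (LK LD1_c6 LD2_c30 LD3_c29)) = v17365 :=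
  (Llr Lrot47 (Lpe (f209033 IH) (Lpr_gt (K51.f209039 IH) (Lpe (f759089 IH) (Lpr_ff (f759137 IH) (Lpn v17365)))))).symm
theorem f766909 : Led Lsl_df (LP (LK LD1_c6 LD2_c29 LD3_c31)) = v18423 :=
  Lgr Lrot38 (Lpr_dt (f766907 IH) (Lpn v18423))
theorem f26241 : Led Lsl_et (LP (LK LD1_c1 LD2_c48 LD3_c3)) = (LP (LK LD1_c0 LD2_c50 LD3_c47)) :=
  Lre_e IH (LK LD1_c1 LD2_c48 LD3_c3) (LK LD1_c0 LD2_c50 LD3_c47) Lrfl Lrfl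
theorem f766911 : Led Lsl_ef (LP (LK LD1_c6 LD2_c30 LD3_c29)) = v18423 :=
  Lgr Lrot17 (Lpe (f68487 IH) (Lpe (K49.f68504 IH) (Lpr_dt (K49.f129097 IH) (Lpr_gf (K3.f84637 IH) (Lpr_df (K4.f114995 IH) (Lpe (K4.f26232 IH) (Lpe (f26241 IH) (Lpr_dt (K34.f209014 IH) (Lpr_gf (K49.f657526 IH) (Lpq (K49.f674240 IH) (Lpr_df (f766909 IH) (Lpn v18423))))))))))))
theorem f766912 : Led Lsl_et (LP (LK LD1_c6 LD2_c30 LD3_c29)) = v18423 :=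
  Lgr Lrot87 (Lpr_ef (f766911 IH) (Lpn v18423))
theorem f837975 : Led Lsl_ct v18423 = v27146 :=
  Lgr Lrot15 (Lpe (f766912 IH) (Lpqs (f759151 IH) (Lpe (f758966 IH) (Lpr_ef (f837973 IH) (Lpn v27146)))))
theorem f662644 : Led Lsl_gf (LP (LK LD1_c6 LD2_c31 LD3_c39)) = v7245 :=
  Lgr Lrot76 (Lpr_af (K46.f209408 IH) (Lpe (K46.f209402 IH) (Lpr_gt (f662643 IH) (Lpn v7245))))
def v18644 : LQ := Led Lsl_dt (LP (LK LD1_c6 LD2_c31 LD3_c39))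
theorem f767875 : Led Lsl_dt (LP (LK LD1_c6 LD2_c31 LD3_c39)) = v18644 :=
  Lrfl
def v21820 : LQ := Led Lsl_gf (LP (LK LD1_c7 LD2_c27 LD3_c2))
theorem f799486 : Led Lsl_gf (LP (LK LD1_c7 LD2_c27 LD3_c2)) = v21820 :=
  Lrfl
def v5842 : LQ := Led Lsl_dt (LP (LK LD1_c3 LD2_c14 LD3_c0))
theorem f649776 : Led Lsl_dt (LP (LK LD1_c3 LD2_c14 LD3_c0)) = v5842 :=
  Lrfl
theorem f208793 : Led Lsl_dt (LP (LK LD1_c7 LD2_c27 LD3_c2)) = (LP (LK LD1_c3 LD2_c43 LD3_c12)) :=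
  Lre_d IH (LK LD1_c7 LD2_c27 LD3_c2) (LK LD1_c3 LD2_c43 LD3_c12) Lrfl Lrfl
theorem f649777 : Led Lsl_af (LP (LK LD1_c7 LD2_c27 LD3_c2)) = v5842 :=
  Lgr Lrot117 (Lpr_dt (f208793 IH) (Lpe (K51.f209403 IH) (Lpr_dt (f649776 IH) (Lpn v5842))))
theorem f649778 : Led Lsl_df (LP (LK LD1_c3 LD2_c14 LD3_c0)) = v5842 :=
  Lgr Lrot38 (Lpr_dt (f649776 IH) (Lpn v5842))
theorem f767878 : Led Lsl_ff v5842 = v18644 :=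
  Lgr Lrot19 (Lpe (f649778 IH) (Lpr_ft (K49.f209355 IH) (Lpr_dt (f767875 IH) (Lpn v18644))))
theorem f799487 : Led Lsl_gt v18644 = v21820 :=
  Lgr Lrot5 (Lpe (f767878 IH) (Lpe (f649777 IH) (Lpr_gf (f799486 IH) (Lpn v21820))))
def v27140 : LQ := Led Lsl_et K57.v7240
theorem f837919 : Led Lsl_et K57.v7240 = v27140 :=
  Lrfl
theorem f837922 : Led Lsl_ef K57.v7240 = v27140 :=
  Lgr Lrot88 (Lpr_et (f837919 IH) (Lpn v27140))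
theorem f147534 : Led Lsl_et (LP (LK LD1_c12 LD2_c31 LD3_c14)) = (LP (LK LD1_c6 LD2_c31 LD3_c28)) :=
  Lre_e IH (LK LD1_c12 LD2_c31 LD3_c14) (LK LD1_c6 LD2_c31 LD3_c28) Lrfl Lrfl
theorem f147535 : Led Lsl_df (LP (LK LD1_c14 LD2_c4 LD3_c29)) = (LP (LK LD1_c12 LD2_c31 LD3_c14)) :=
  Lgr Lrot170 (Lpr_gt (K58.f107045 IH) (Lpe (K3.f107023 IH) (Lpr_et (K57.f124228 IH) (Lpr_gt (K5.f124685 IH) (Lpr_dt (K6.f147518 IH) (Lpr_gt (K6.f147517 IH) (Lpe (K7.f147437 IH) (Lpr_et (K49.f147532 IH) (Lpr_gt (K46.f147533 IH) (Lpe (f147534 IH) (Lpn (LP (LK LD1_c12 LD2_c31 LD3_c14)))))))))))))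
theorem f837925 : Led Lsl_df v21820 = v27140 :=
  Lgr Lrot168 (Lpe (f799487 IH) (Lpe (f767875 IH) (Lpr_et (K49.f209357 IH) (Lpe (K46.f649727 IH) (Lpe (f147534 IH) (Lpe (f147535 IH) (Lpr_gf (K58.f767550 IH) (Lpe (K58.f767549 IH) (Lpe (K57.f662627 IH) (Lpr_ef (f837922 IH) (Lpn v27140)))))))))))
theorem f662602 : Led Lsl_ef (LP (LK LD1_c6 LD2_c30 LD3_c56)) = K49.v7236 :=
  Lgr Lrot21 (Lpr_ft (K57.f440000 IH) (Lpr_et (K58.f148139 IH) (Lpe (K57.f121262 IH) (Lpr_et (K5.f129294 IH) (Lpr_ft (K49.f662599 IH) (Lpn K49.v7236))))))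
theorem f662603 : Led Lsl_ff (LP (LK LD1_c3 LD2_c43 LD3_c0)) = K49.v7236 :=
  Lgr Lrot3 (Lpr_ft (K49.f662599 IH) (Lpn K49.v7236))
theorem f662606 : Led Lsl_ct K48.v2557 = K49.v7236 :=
  Lgr Lrot40 (Lpe (K48.f527467 IH) (Lpe (K5.f129284 IH) (Lpr_ff (f662603 IH) (Lpn K49.v7236))))
theorem f662841 : K49.v7236 = (LP (LK LD1_c3 LD2_c21 LD3_c13)) :=
  Lefun (Lecon (f662606 IH) ((K48.f662825 IH).trans (K46.f649437 IH))) (K49.f414094 IH)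
def v6385 : LQ := Led Lsl_dt (LP (LK LD1_c3 LD2_c21 LD3_c13))
theorem f653142 : Led Lsl_dt (LP (LK LD1_c3 LD2_c21 LD3_c13)) = v6385 :=
  Lrfl
def v5819 : LQ := Led Lsl_dt (LP (LK LD1_c3 LD2_c13 LD3_c47))
def v25759 : LQ := Led Lsl_gf v5819
theorem f830287 : Led Lsl_gf v5819 = v25759 :=
  Lrfl
def v7235 : LQ := Led Lsl_dt (LP (LK LD1_c3 LD2_c43 LD3_c0))
theorem f662595 : Led Lsl_dt (LP (LK LD1_c3 LD2_c43 LD3_c0)) = v7235 :=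
  Lrfl
theorem f649569 : Led Lsl_dt (LP (LK LD1_c3 LD2_c13 LD3_c47)) = v5819 :=
  Lrfl
theorem f649570 : Led Lsl_df (LP (LK LD1_c3 LD2_c13 LD3_c47)) = v5819 :=
  Lgr Lrot38 (Lpr_dt (f649569 IH) (Lpn v5819))
theorem f662596 : Led Lsl_af v5819 = v7235 :=
  Lgr Lrot117 (Lpe (f649570 IH) (Lpe (K5.f129286 IH) (Lpr_dt (f662595 IH) (Lpn v7235))))
theorem f653151 : Led Lsl_ff (LP (LK LD1_c3 LD2_c21 LD3_c13)) = K49.v6387 :=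
  Lgr Lrot3 (Lpr_ft (K49.f653148 IH) (Lpn K49.v6387))
theorem f454718 : Led Lsl_ct (LP (LK LD1_c3 LD2_c21 LD3_c13)) = (LP (LK LD1_c1 LD2_c36 LD3_c52)) :=
  Lre_c IH (LK LD1_c3 LD2_c21 LD3_c13) (LK LD1_c1 LD2_c36 LD3_c52) Lrfl Lrfl
def v2175 : LQ := Led Lsl_ft (LP (LK LD1_c1 LD2_c36 LD3_c52))
theorem f509473 : Led Lsl_ft (LP (LK LD1_c1 LD2_c36 LD3_c52)) = v2175 :=
  Lrfl
theorem f653154 : Led Lsl_ct v2175 = K49.v6387 :=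
  Lgr Lrot40 (Lpe (f509473 IH) (Lpe (f454718 IH) (Lpr_ff (f653151 IH) (Lpn K49.v6387))))
def v5261 : LQ := Led Lsl_ft (LP (LK LD1_c3 LD2_c2 LD3_c43))
theorem f646828 : Led Lsl_ft (LP (LK LD1_c3 LD2_c2 LD3_c43)) = v5261 :=
  Lrfl
theorem f646830 : Led Lsl_ff (LP (LK LD1_c3 LD2_c2 LD3_c43)) = v5261 :=
  Lgr Lrot3 (Lpr_ft (f646828 IH) (Lpn v5261))
theorem f649442 : Led Lsl_df v5261 = v2175 :=
  Lgr Lrot78 (Lpe (f646830 IH) (Lpr_dt (K46.f646824 IH) (Lpqs (K46.f649437 IH) (Lpr_ft (f509473 IH) (Lpn v2175)))))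
theorem f649443 : Led Lsl_dt v5261 = v2175 :=
  Lgr Lrot42 (Lpr_df (f649442 IH) (Lpn v2175))
theorem f646831 : Led Lsl_at K46.v1792 = v5261 :=
  Lgr Lrot66 (Lpr_ff (K46.f646820 IH) (Lpe (K46.f646817 IH) (Lpr_ff (f646830 IH) (Lpn v5261))))
theorem f662784 : v5261 = (LP (LK LD1_c1 LD2_c33 LD3_c32)) :=
  Lefun (Lecon (f646831 IH) ((K46.f649434 IH).symm.trans (K48.f662780 IH))) (K48.f209491 IH)
theorem f662806 : v2175 = (LP (LK LD1_c1 LD2_c48 LD3_c33)) :=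
  Lefun (Lecon (f649443 IH) (f662784 IH)) (Lfl_df (K48.f147513 IH))
theorem f662834 : K49.v6387 = (LP (LK LD1_c3 LD2_c43 LD3_c0)) :=
  Lefun (Lecon (f653154 IH) (f662806 IH)) (K48.f129292 IH)
theorem f662597 : Led Lsl_df (LP (LK LD1_c3 LD2_c43 LD3_c0)) = v7235 :=
  Lgr Lrot38 (Lpr_dt (f662595 IH) (Lpn v7235))
theorem f663969 : Led Lsl_ff v7235 = v6385 :=
  Lgr Lrot19 (Lpe (f662597 IH) (Lpq (f662834 IH) (Lpe (f653151 IH) (Lpr_dt (f653142 IH) (Lpn v6385)))))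
theorem f830288 : Led Lsl_gt v6385 = v25759 :=
  Lgr Lrot5 (Lpe (f663969 IH) (Lpe (f662596 IH) (Lpr_gf (f830287 IH) (Lpn v25759))))
theorem f837976 : Led Lsl_df v25759 = v27146 :=
  Lgr Lrot168 (Lpe (f830288 IH) (Lpe (f653142 IH) (Lpq (f662841 IH) (Lpe (f662602 IH) (Lpe (K57.f662627 IH) (Lpr_ef (f837922 IH) (Lpe (f837925 IH) (Lpe (f799487 IH) (Lpe (f767875 IH) (Lpr_gf (f662644 IH) (Lpr_ef (f837973 IH) (Lpn v27146))))))))))))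
def v17144 : LQ := Led Lsl_ct (LP (LK LD1_c6 LD2_c12 LD3_c23))
theorem f756332 : Led Lsl_ct (LP (LK LD1_c6 LD2_c12 LD3_c23)) = v17144 :=
  Lrfl
theorem f837979 : Led Lsl_gt v17144 = v27146 :=
  Lgr Lrot94 (Lpe (f756332 IH) (Lpr_gt (K48.f663520 IH) (Lpe (K48.f662653 IH) (Lpr_gt (K48.f148104 IH) (Lpr_dt (K48.f209496 IH) (Lpe (K49.f129288 IH) (Lpr_df (f649570 IH) (Lpr_gf (f830287 IH) (Lpr_df (f837976 IH) (Lpn v27146))))))))))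
def v25099 : LQ := Led Lsl_dt K48.v5221
theorem f827006 : Led Lsl_dt K48.v5221 = v25099 :=
  Lrfl
theorem f827008 : Led Lsl_bf K59.v17993 = v25099 :=
  Lgr Lrot93 (Lpe (K59.f764581 IH) (Lpr_bt (K51.f663158 IH) (Lpr_dt (f827006 IH) (Lpn v25099))))
theorem f871361 : Led Lsl_ct v25099 = v34517 :=
  Lgr Lrot63 (Lpe (f827008 IH) (Lpr_gt (f769278 IH) (Lpe (K60.f756328 IH) (Lpr_ct (f756332 IH) (Lpr_gt (f837979 IH) (Lpe (f837975 IH) (Lpe (f766908 IH) (Lpq (K58.f769912 IH) (Lpe (K58.f686138 IH) (Lpr_ct (f686132 IH) (Lpr_gt (f871359 IH) (Lpn v34517))))))))))))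
theorem f827009 : Led Lsl_df K48.v5221 = v25099 :=
  Lgr Lrot38 (Lpr_dt (f827006 IH) (Lpn v25099))
theorem f827010 : Led Lsl_at K65.v5222 = v25099 :=
  Lgr Lrot51 (Lpe (K65.f646600 IH) (Lpr_af (K48.f646598 IH) (Lpr_df (f827009 IH) (Lpn v25099))))
theorem f827023 : Led Lsl_cf K65.v5222 = v25102 :=
  Lgr Lrot11 (Lpr_ct (f827022 IH) (Lpn v25102))
theorem f871362 : Led Lsl_af v25102 = v34517 :=
  Lgr Lrot68 (Lpe (f827023 IH) (Lpr_at (f827010 IH) (Lpr_ct (f871361 IH) (Lpn v34517))))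
theorem f871365 : Led Lsl_at v25102 = v34517 :=
  Lgr Lrot100 (Lpr_af (f871362 IH) (Lpn v34517))
theorem f871367 : Led Lsl_ff v25102 = v34518 :=
  Lgr Lrot52 (Lpr_at (f871365 IH) (Lpe (f871359 IH) (Lpr_gf (f871366 IH) (Lpn v34518))))
theorem f646603 : Led Lsl_bt K46.v1788 = K65.v5222 :=
  Lgr Lrot95 (Lpe (K46.f502904 IH) (Lpe (K56.f414634 IH) (Lpr_df (K65.f646602 IH) (Lpn K65.v5222))))
theorem f827037 : Led Lsl_bf K46.v5972 = K65.v25103 :=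
  Lgr Lrot96 (Lpe (K56.f650318 IH) (Lpr_bt (f646603 IH) (Lpr_et (K65.f827036 IH) (Lpn K65.v25103))))
theorem f79824 : Led Lsl_ct (LP (LK LD1_c3 LD2_c12 LD3_c60)) = (LP (LK LD1_c6 LD2_c29 LD3_c56)) :=
  Lre_c IH (LK LD1_c3 LD2_c12 LD3_c60) (LK LD1_c6 LD2_c29 LD3_c56) Lrfl Lrfl
def v18462 : LQ := Led Lsl_gf (LP (LK LD1_c6 LD2_c29 LD3_c56))
theorem f767090 : Led Lsl_gf (LP (LK LD1_c6 LD2_c29 LD3_c56)) = v18462 :=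
  Lrfl
theorem f827049 : Led Lsl_cf v18462 = K65.v25103 :=
  Lgr Lrot160 (Lpe (f767090 IH) (Lpe (f79824 IH) (Lpr_bt (K58.f79739 IH) (Lpe (K24.f445956 IH) (Lpr_ct (K11.f445904 IH) (Lpe (K16.f421007 IH) (Lpe (K32.f415435 IH) (Lpr_bt (K59.f652659 IH) (Lpqs (K59.f771922 IH) (Lpe (K46.f651003 IH) (Lpr_bf (f827037 IH) (Lpn K65.v25103))))))))))))
theorem f827051 : Led Lsl_et v18462 = v25102 :=
  Lgr Lrot158 (Lpr_cf (f827049 IH) (Lpe (K65.f827036 IH) (Lpr_cf (f827023 IH) (Lpn v25102))))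
theorem f827052 : Led Lsl_ef v18462 = v25102 :=
  Lgr Lrot88 (Lpr_et (f827051 IH) (Lpn v25102))
theorem f871376 : Led Lsl_ff v17375 = v18462 :=
  Lgr Lrot72 (Lpe (f759021 IH) (Lpr_ft (f758933 IH) (Lpr_et (f871372 IH) (Lpe (f871367 IH) (Lpe (f827052 IH) (Lpn v18462))))))
theorem f649272 : Led Lsl_gt (LP (LK LD1_c6 LD2_c29 LD3_c56)) = (LP (LK LD1_c12 LD2_c29 LD3_c37)) :=
  Lre_g IH (LK LD1_c6 LD2_c29 LD3_c56) (LK LD1_c12 LD2_c29 LD3_c37) Lrfl Lrfl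
theorem f871378 : Led Lsl_at v17375 = (LP (LK LD1_c12 LD2_c29 LD3_c37)) :=
  Lgr Lrot26 (Lpr_ff (f871376 IH) (Lpe (f767090 IH) (Lpr_gt (f649272 IH) (Lpn (LP (LK LD1_c12 LD2_c29 LD3_c37))))))
theorem f758939 : Led Lsl_af (LP (LK LD1_c6 LD2_c18 LD3_c28)) = v17361 :=
  Lgr Lrot68 (Lpe (f708904 IH) (Lpr_at (K51.f709046 IH) (Lpr_ct (f758938 IH) (Lpn v17361))))
theorem f871382 : Led Lsl_ef v17361 = (LP (LK LD1_c12 LD2_c29 LD3_c37)) :=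
  Lgr Lrot20 (Lpe (f758939 IH) (Lpr_et (f759019 IH) (Lpr_at (f871378 IH) (Lpn (LP (LK LD1_c12 LD2_c29 LD3_c37))))))
theorem f871385 : Led Lsl_et v17361 = (LP (LK LD1_c12 LD2_c29 LD3_c37)) :=
  Lgr Lrot87 (Lpr_ef (f871382 IH) (Lpn (LP (LK LD1_c12 LD2_c29 LD3_c37))))
def v30849 : LQ := Led Lsl_et K51.v10001
theorem f856012 : Led Lsl_et K51.v10001 = v30849 :=
  Lrfl
theorem f856014 : Led Lsl_ef K51.v10001 = v30849 :=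
  Lgr Lrot88 (Lpr_et (f856012 IH) (Lpn v30849))
theorem f871386 : Led Lsl_cf v30849 = (LP (LK LD1_c12 LD2_c29 LD3_c37)) :=
  Lgr Lrot39 (Lpe (f856014 IH) (Lpr_ct (f758938 IH) (Lpr_et (f871385 IH) (Lpn (LP (LK LD1_c12 LD2_c29 LD3_c37))))))
theorem f856013 : Led Lsl_bf (LP (LK LD1_c12 LD2_c23 LD3_c55)) = v30849 :=
  Lgr Lrot96 (Lpr_et (K52.f115521 IH) (Lpr_bt (K51.f709050 IH) (Lpr_et (f856012 IH) (Lpn v30849))))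
theorem f708998 : Led Lsl_bt (LP (LK LD1_c12 LD2_c14 LD3_c3)) = (LP (LK LD1_c21 LD2_c20 LD3_c8)) :=
  Lre_b IH (LK LD1_c12 LD2_c14 LD3_c3) (LK LD1_c21 LD2_c20 LD3_c8) Lrfl Lrfl
theorem f871383 : Led Lsl_bt (LP (LK LD1_c21 LD2_c36 LD3_c27)) = (LP (LK LD1_c12 LD2_c29 LD3_c37)) :=
  Lre_b IH (LK LD1_c21 LD2_c36 LD3_c27) (LK LD1_c12 LD2_c29 LD3_c37) Lrfl Lrfl
theorem f871387 : Led Lsl_ct (LP (LK LD1_c21 LD2_c20 LD3_c8)) = (LP (LK LD1_c21 LD2_c36 LD3_c27)) :=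
  Lgr Lrot83 (Lpe (f708998 IH) (Lpe (K52.f708996 IH) (Lpr_bf (f856013 IH) (Lpr_cf (f871386 IH) (Lpe (f871383 IH) (Lpn (LP (LK LD1_c21 LD2_c36 LD3_c27))))))))
theorem f871388 : Led Lsl_ct (LP (LK LD1_c21 LD2_c20 LD3_c8)) = (LP (LK LD1_c21 LD2_c36 LD3_c27)) :=
  Leop (Lpe (f871387 IH) (Lpn (LP (LK LD1_c21 LD2_c20 LD3_c8))))
theorem seed_2012 : LEOK LG_c (LK LD1_c21 LD2_c20 LD3_c8) :=
  Leoe_c (LK LD1_c21 LD2_c20 LD3_c8) (f871388 IH)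
def v34529 : LQ := Led Lsl_ct K56.v11851
theorem f871447 : Led Lsl_ct K56.v11851 = v34529 :=
  Lrfl
theorem f570795 : Led Lsl_dt (LP (LK LD1_c9 LD2_c47 LD3_c58)) = (LP (LK LD1_c9 LD2_c49 LD3_c39)) :=
  Lre_d IH (LK LD1_c9 LD2_c47 LD3_c58) (LK LD1_c9 LD2_c49 LD3_c39) Lrfl Lrfl
theorem f615273 : Led Lsl_et (LP (LK LD1_c9 LD2_c47 LD3_c58)) = (LP (LK LD1_c4 LD2_c58 LD3_c43)) :=
  Lre_e IH (LK LD1_c9 LD2_c47 LD3_c58) (LK LD1_c4 LD2_c58 LD3_c43) Lrfl Lrfl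
theorem f686148 : Led Lsl_gt (LP (LK LD1_c4 LD2_c58 LD3_c43)) = K56.v11851 :=
  Lgr Lrot137 (Lpe (f615273 IH) (Lpr_dt (f570795 IH) (Lpe (K45.f615271 IH) (Lpe (K42.f438668 IH) (Lpr_et (K42.f615173 IH) (Lpqs (K51.f669416 IH) (Lpe (K51.f640529 IH) (Lpr_ef (K48.f640544 IH) (Lpe (K48.f640546 IH) (Lpe (K53.f636379 IH) (Lpr_df (K56.f686146 IH) (Lpn K56.v11851))))))))))))
theorem f640761 : Led Lsl_af (LP (LK LD1_c2 LD2_c52 LD3_c10)) = K45.v4893 :=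
  Lgr Lrot0 (Lpr_at (K45.f640760 IH) (Lpn K45.v4893))
theorem f685962 : Led Lsl_bf K45.v4893 = K49.v11813 :=
  Lgr Lrot81 (Lpe (f640761 IH) (Lpr_bt (K45.f163614 IH) (Lpr_at (K35.f500204 IH) (Lpqs (K35.f623414 IH) (Lpr_bt (K49.f627775 IH) (Lpr_at (K49.f685960 IH) (Lpn K49.v11813)))))))
def v12285 : LQ := Led Lsl_gt (LP (LK LD1_c3 LD2_c59 LD3_c25))
theorem f689195 : Led Lsl_gt (LP (LK LD1_c3 LD2_c59 LD3_c25)) = v12285 :=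
  Lrfl
theorem f826762 : K49.v11813 = v12285 :=
  Lefun (Lecon (f685964 IH) (f826759 IH).symm) (f689195 IH)
def v11801 : LQ := Led Lsl_bt K60.v3893
def v34455 : LQ := Led Lsl_at v11801
theorem f870936 : Led Lsl_at v11801 = v34455 :=
  Lrfl
theorem f685927 : Led Lsl_bt K60.v3893 = v11801 :=
  Lrfl
theorem f676909 : Led Lsl_cf K58.v2821 = K60.v9622 :=
  Lgr Lrot11 (Lpr_ct (K60.f676907 IH) (Lpn K60.v9622))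
theorem f500210 : Led Lsl_bt (LP (LK LD1_c1 LD2_c22 LD3_c6)) = (LP (LK LD1_c2 LD2_c52 LD3_c13)) :=
  Lre_b IH (LK LD1_c1 LD2_c22 LD3_c6) (LK LD1_c2 LD2_c52 LD3_c13) Lrfl Lrfl
theorem f676912 : Led Lsl_bt K65.v4897 = K60.v9622 :=
  Lgr Lrot128 (Lpe (K65.f640767 IH) (Lpe (f500210 IH) (Lpqs (K56.f535784 IH) (Lpe (K56.f535769 IH) (Lpr_bf (K58.f535768 IH) (Lpr_cf (f676909 IH) (Lpn K60.v9622)))))))
theorem f685930 : Led Lsl_ff K65.v4897 = v11801 :=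
  Lgr Lrot25 (Lpr_bt (f676912 IH) (Lpe (K60.f676910 IH) (Lpr_bt (f685927 IH) (Lpn v11801))))
theorem f685932 : Led Lsl_ft K65.v4897 = v11801 :=
  Lgr Lrot48 (Lpr_ff (f685930 IH) (Lpn v11801))
theorem f870940 : Led Lsl_gt K65.v16023 = v34455 :=
  Lgr Lrot46 (Lpe (K65.f750322 IH) (Lpr_ft (f685932 IH) (Lpr_at (f870936 IH) (Lpn v34455))))
def v34454 : LQ := Led Lsl_gt v11801
theorem f870927 : Led Lsl_gt v11801 = v34454 :=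
  Lrfl
def v13001 : LQ := Led Lsl_et (LP (LK LD1_c4 LD2_c36 LD3_c47))
theorem f700126 : Led Lsl_et (LP (LK LD1_c4 LD2_c36 LD3_c47)) = v13001 :=
  Lrfl
theorem f700129 : Led Lsl_ef (LP (LK LD1_c4 LD2_c36 LD3_c47)) = v13001 :=
  Lgr Lrot88 (Lpr_et (f700126 IH) (Lpn v13001))
theorem f161375 : Led Lsl_et (LP (LK LD1_c2 LD2_c15 LD3_c36)) = (LP (LK LD1_c4 LD2_c36 LD3_c48)) :=
  Lre_e IH (LK LD1_c2 LD2_c15 LD3_c36) (LK LD1_c4 LD2_c36 LD3_c48) Lrfl Lrfl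
theorem f700131 : Led Lsl_ct (LP (LK LD1_c4 LD2_c36 LD3_c48)) = v13001 :=
  Lgr Lrot15 (Lpe (f161375 IH) (Lpe (K4.f99595 IH) (Lpr_ef (f700129 IH) (Lpn v13001))))
theorem f613135 : Led Lsl_bt (LP (LK LD1_c4 LD2_c36 LD3_c48)) = (LP (LK LD1_c2 LD2_c15 LD3_c47)) :=
  Lre_b IH (LK LD1_c4 LD2_c36 LD3_c48) (LK LD1_c2 LD2_c15 LD3_c47) Lrfl Lrfl
theorem f627776 : Led Lsl_bf K35.v1113 = K49.v3896 :=
  Lgr Lrot24 (Lpr_bt (K49.f627775 IH) (Lpn K49.v3896))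
theorem f640768 : Led Lsl_cf (LP (LK LD1_c2 LD2_c52 LD3_c13)) = K65.v4897 :=
  Lgr Lrot11 (Lpr_ct (K65.f640767 IH) (Lpn K65.v4897))
theorem f685931 : Led Lsl_ct K49.v3896 = v11801 :=
  Lgr Lrot40 (Lpe (K49.f627778 IH) (Lpr_cf (f640768 IH) (Lpr_ff (f685930 IH) (Lpn v11801))))
theorem f700133 : Led Lsl_gf v11801 = v13001 :=
  Lgr Lrot126 (Lpe (f685931 IH) (Lpe (f627776 IH) (Lpq (K49.f535846 IH) (Lpe (K49.f494347 IH) (Lpr_ct (K24.f24048 IH) (Lpe (K32.f436221 IH) (Lpr_cf (K35.f446191 IH) (Lpr_bt (K51.f446203 IH) (Lpe (K51.f622267 IH) (Lpe (f613135 IH) (Lpr_ct (f700131 IH) (Lpn v13001))))))))))))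
def v24660 : LQ := Led Lsl_gf K65.v4897
theorem f825022 : Led Lsl_gf K65.v4897 = v24660 :=
  Lrfl
theorem f622300 : Led Lsl_bt (LP (LK LD1_c9 LD2_c9 LD3_c30)) = (LP (LK LD1_c4 LD2_c37 LD3_c16)) :=
  Lre_b IH (LK LD1_c9 LD2_c9 LD3_c30) (LK LD1_c4 LD2_c37 LD3_c16) Lrfl Lrfl
theorem f825024 : Led Lsl_ct (LP (LK LD1_c9 LD2_c9 LD3_c30)) = v24660 :=
  Lgr Lrot64 (Lpr_bt (f622300 IH) (Lpe (f622294 IH) (Lpe (K58.f435596 IH) (Lpe (K35.f435600 IH) (Lpe (K32.f24041 IH) (Lpe (K24.f24022 IH) (Lpe (K17.f20291 IH) (Lpe (K49.f22246 IH) (Lpr_ct (K65.f640767 IH) (Lpr_gf (f825022 IH) (Lpn v24660)))))))))))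
theorem f825025 : Led Lsl_cf (LP (LK LD1_c9 LD2_c9 LD3_c30)) = v24660 :=
  Lgr Lrot11 (Lpr_ct (f825024 IH) (Lpn v24660))
theorem f700132 : Led Lsl_ft (LP (LK LD1_c9 LD2_c9 LD3_c30)) = (LP (LK LD1_c4 LD2_c36 LD3_c48)) :=
  Lre_f IH (LK LD1_c9 LD2_c9 LD3_c30) (LK LD1_c4 LD2_c36 LD3_c48) Lrfl Lrfl
theorem f825026 : Led Lsl_ft v13001 = v24660 :=
  Lgr Lrot4 (Lpe (f700131 IH) (Lpe (f700132 IH) (Lpr_cf (f825025 IH) (Lpn v24660))))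
theorem f870928 : Led Lsl_at v24660 = v34454 :=
  Lgr Lrot26 (Lpe (f825026 IH) (Lpe (f700133 IH) (Lpr_gt (f870927 IH) (Lpn v34454))))
theorem f150698 : Led Lsl_at (LP (LK LD1_c4 LD2_c36 LD3_c47)) = (LP (LK LD1_c5 LD2_c51 LD3_c44)) :=
  Lgr Lrot51 (Lpr_df (K8.f139516 IH) (Lpe (K8.f139518 IH) (Lpr_df (K7.f150696 IH) (Lpn (LP (LK LD1_c5 LD2_c51 LD3_c44))))))
theorem f744876 : Led Lsl_af v13001 = K65.v16023 :=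
  Lgr Lrot50 (Lpe (f700129 IH) (Lpr_at (f150698 IH) (Lpr_et (K65.f744875 IH) (Lpn K65.v16023))))
theorem f870932 : Led Lsl_ff K65.v16023 = v34454 :=
  Lgr Lrot30 (Lpe (f744876 IH) (Lpr_ft (f825026 IH) (Lpr_at (f870928 IH) (Lpn v34454))))
theorem f870934 : Led Lsl_ft K65.v16023 = v34454 :=
  Lgr Lrot48 (Lpr_ff (f870932 IH) (Lpn v34454))
theorem f870930 : Led Lsl_af v24660 = v34454 :=
  Lgr Lrot0 (Lpr_at (f870928 IH) (Lpn v34454))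
theorem f870941 : Led Lsl_gf v24660 = v34455 :=
  Lgr Lrot76 (Lpr_af (f870930 IH) (Lpe (f870934 IH) (Lpr_gt (f870940 IH) (Lpn v34455))))
def v5008 : LQ := Led Lsl_ft (LP (LK LD1_c2 LD2_c55 LD3_c34))
theorem f641296 : Led Lsl_ft (LP (LK LD1_c2 LD2_c55 LD3_c34)) = v5008 :=
  Lrfl
theorem f699907 : Led Lsl_bt v5008 = v12964 :=
  Lgr Lrot35 (Lpe (f641296 IH) (Lpr_bf (K45.f641290 IH) (Lpq (K45.f643425 IH) (Lpr_ff (f699904 IH) (Lpn v12964)))))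
theorem f641299 : Led Lsl_ff (LP (LK LD1_c2 LD2_c55 LD3_c34)) = v5008 :=
  Lgr Lrot3 (Lpr_ft (f641296 IH) (Lpn v5008))
theorem f641300 : Led Lsl_at K45.v1670 = v5008 :=
  Lgr Lrot66 (Lpr_ff (K45.f641288 IH) (Lpe (K45.f641284 IH) (Lpr_ff (f641299 IH) (Lpn v5008))))
def v4954 : LQ := Led Lsl_at (LP (LK LD1_c2 LD2_c53 LD3_c59))
theorem f641039 : Led Lsl_at (LP (LK LD1_c2 LD2_c53 LD3_c59)) = v4954 :=
  Lrfl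
theorem f643440 : v5008 = v4954 :=
  Lefun (Lecon (f641300 IH) (K45.f643429 IH)) (f641039 IH)
def v24758 : LQ := Led Lsl_ct v4954
theorem f825465 : Led Lsl_ct v4954 = v24758 :=
  Lrfl
def v12283 : LQ := Led Lsl_et (LP (LK LD1_c3 LD2_c59 LD3_c17))
theorem f689177 : Led Lsl_et (LP (LK LD1_c3 LD2_c59 LD3_c17)) = v12283 :=
  Lrfl
def v5172 : LQ := Led Lsl_et (LP (LK LD1_c3 LD2_c0 LD3_c37))
theorem f646350 : Led Lsl_et (LP (LK LD1_c3 LD2_c0 LD3_c37)) = v5172 :=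
  Lrfl
theorem f646351 : Led Lsl_ef (LP (LK LD1_c3 LD2_c0 LD3_c37)) = v5172 :=
  Lgr Lrot88 (Lpr_et (f646350 IH) (Lpn v5172))
theorem f689180 : Led Lsl_cf v5172 = v12283 :=
  Lgr Lrot39 (Lpe (f646351 IH) (Lpe (K8.f139375 IH) (Lpr_et (f689177 IH) (Lpn v12283))))
theorem f689179 : Led Lsl_bf (LP (LK LD1_c3 LD2_c59 LD3_c25)) = v12283 :=
  Lgr Lrot96 (Lpr_et (K57.f139429 IH) (Lpr_bt (K8.f139386 IH) (Lpr_et (f689177 IH) (Lpn v12283))))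
theorem f685968 : Led Lsl_bt K45.v4893 = K49.v11813 :=
  Lgr Lrot127 (Lpr_bf (f685962 IH) (Lpn K49.v11813))
theorem f748470 : Led Lsl_ft v14112 = v16325 :=
  Lgr Lrot48 (Lpr_ff (f748467 IH) (Lpn v16325))
theorem f719058 : Led Lsl_cf (LP (LK LD1_c4 LD2_c58 LD3_c43)) = v14112 :=
  Lgr Lrot11 (Lpr_ct (f719056 IH) (Lpn v14112))
theorem f719059 : Led Lsl_at K56.v4894 = v14112 :=
  Lgr Lrot107 (Lpe (K56.f640762 IH) (Lpr_af (f640761 IH) (Lpqs (K45.f643194 IH) (Lpr_cf (f719058 IH) (Lpn v14112)))))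
theorem f748471 : Led Lsl_af K56.v11843 = v16325 :=
  Lgr Lrot45 (Lpe (K56.f686124 IH) (Lpr_at (f719059 IH) (Lpr_ft (f748470 IH) (Lpn v16325))))
theorem f748480 : Led Lsl_gt v14112 = K56.v16326 :=
  Lgr Lrot5 (Lpr_ft (f748470 IH) (Lpe (f748471 IH) (Lpr_gf (K56.f748479 IH) (Lpn K56.v16326))))
def v4995 : LQ := Led Lsl_gf (LP (LK LD1_c2 LD2_c55 LD3_c5))
theorem f641239 : Led Lsl_gf (LP (LK LD1_c2 LD2_c55 LD3_c5)) = v4995 :=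
  Lrfl
theorem f641240 : Led Lsl_gt (LP (LK LD1_c2 LD2_c55 LD3_c36)) = v4995 :=
  Lgr Lrot5 (Lpr_ft (K41.f641237 IH) (Lpr_at (K41.f427125 IH) (Lpr_gf (f641239 IH) (Lpn v4995))))
theorem f699900 : v4954 = v4995 :=
  (Llr Lrot26 (Lpe (f641039 IH) (Lpr_ff (K45.f631839 IH) (Lpqs (K55.f699899 IH) (Lpr_gt (K55.f641252 IH) (Lpr_gt (f641240 IH) (Lpn v4995))))))).symm
theorem f826820 : Led Lsl_gf v5172 = v24758 :=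
  Lgr Lrot129 (Lpr_cf (f689180 IH) (Lpe (f689179 IH) (Lpr_gt (f689195 IH) (Lpq (f826762 IH) (Lpe (f685968 IH) (Lpqs (K45.f643194 IH) (Lpr_ct (f719056 IH) (Lpr_gt (f748480 IH) (Lpe (K56.f748477 IH) (Lpr_bt (K55.f426134 IH) (Lpr_gt (f641240 IH) (Lpq (f699900 IH) (Lpr_ct (f825465 IH) (Lpn v24758))))))))))))))
theorem f870942 : Led Lsl_ct v12285 = v34455 :=
  Lgr Lrot91 (Lpe (f689195 IH) (Lpr_bf (f689179 IH) (Lpe (f689180 IH) (Lpr_gf (f826820 IH) (Lpe (f825465 IH) (Lpq (f643440 IH) (Lpr_bt (f699907 IH) (Lpe (f699905 IH) (Lpe (f622300 IH) (Lpr_ct (f825024 IH) (Lpr_gf (f870941 IH) (Lpn v34455))))))))))))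
def v16327 : LQ := Led Lsl_bt (LP (LK LD1_c5 LD2_c57 LD3_c42))
theorem f748487 : Led Lsl_bt (LP (LK LD1_c5 LD2_c57 LD3_c42)) = v16327 :=
  Lrfl
theorem f748490 : Led Lsl_ff (LP (LK LD1_c9 LD2_c13 LD3_c37)) = v16327 :=
  Lgr Lrot25 (Lpr_bt (K56.f643149 IH) (Lpr_ft (K56.f644325 IH) (Lpr_bt (f748487 IH) (Lpn v16327))))
theorem f748493 : Led Lsl_gf (LP (LK LD1_c6 LD2_c8 LD3_c13)) = v16327 :=
  Lgr Lrot47 (Lpe (K32.f411187 IH) (Lpr_af (K35.f506972 IH) (Lpr_ff (f748490 IH) (Lpn v16327))))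
def v15973 : LQ := Led Lsl_ft (LP (LK LD1_c5 LD2_c50 LD3_c44))
theorem f744485 : Led Lsl_ft (LP (LK LD1_c5 LD2_c50 LD3_c44)) = v15973 :=
  Lrfl
theorem f744489 : Led Lsl_ff (LP (LK LD1_c5 LD2_c50 LD3_c44)) = v15973 :=
  Lgr Lrot3 (Lpr_ft (f744485 IH) (Lpn v15973))
theorem f748494 : Led Lsl_gt v15973 = v16327 :=
  Lgr Lrot5 (Lpe (f744489 IH) (Lpe (K16.f411177 IH) (Lpr_gf (f748493 IH) (Lpn v16327))))
theorem f744490 : Led Lsl_bt (LP (LK LD1_c9 LD2_c7 LD3_c52)) = v15973 :=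
  Lgr Lrot35 (Lpe (f622283 IH) (Lpr_bf (K65.f613102 IH) (Lpr_ff (f744489 IH) (Lpn v15973))))
theorem f622288 : Led Lsl_ct (LP (LK LD1_c9 LD2_c7 LD3_c52)) = (LP (LK LD1_c17 LD2_c0 LD3_c11)) :=
  Lre_c IH (LK LD1_c9 LD2_c7 LD3_c52) (LK LD1_c17 LD2_c0 LD3_c11) Lrfl Lrfl
theorem f622289 : Led Lsl_ff (LP (LK LD1_c9 LD2_c9 LD3_c22)) = (LP (LK LD1_c17 LD2_c0 LD3_c11)) :=
  Lgr Lrot23 (Lpr_ct (f613139 IH) (Lpr_ft (f622283 IH) (Lpr_ct (f622288 IH) (Lpn (LP (LK LD1_c17 LD2_c0 LD3_c11))))))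
theorem f428521 : Led Lsl_at (LP (LK LD1_c9 LD2_c9 LD3_c22)) = (LP (LK LD1_c4 LD2_c37 LD3_c12)) :=
  Lre_a IH (LK LD1_c9 LD2_c9 LD3_c22) (LK LD1_c4 LD2_c37 LD3_c12) Lrfl Lrfl
theorem f622312 : Led Lsl_ft (LP (LK LD1_c4 LD2_c37 LD3_c12)) = (LP (LK LD1_c9 LD2_c10 LD3_c9)) :=
  Lre_f IH (LK LD1_c4 LD2_c37 LD3_c12) (LK LD1_c9 LD2_c10 LD3_c9) Lrfl Lrfl
theorem f622313 : Led Lsl_at (LP (LK LD1_c9 LD2_c10 LD3_c9)) = (LP (LK LD1_c17 LD2_c0 LD3_c11)) :=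
  Lgr Lrot66 (Lpe (f622312 IH) (Lpe (f428521 IH) (Lpr_ff (f622289 IH) (Lpn (LP (LK LD1_c17 LD2_c0 LD3_c11))))))
theorem f161658 : Led Lsl_gt (LP (LK LD1_c4 LD2_c37 LD3_c12)) = (LP (LK LD1_c9 LD2_c10 LD3_c6)) :=
  Lre_g IH (LK LD1_c4 LD2_c37 LD3_c12) (LK LD1_c9 LD2_c10 LD3_c6) Lrfl Lrfl
theorem f622319 : Led Lsl_gt (LP (LK LD1_c9 LD2_c10 LD3_c6)) = (LP (LK LD1_c17 LD2_c0 LD3_c11)) :=
  Lgr Lrot46 (Lpe (f161658 IH) (Lpr_ft (f622312 IH) (Lpr_at (f622313 IH) (Lpn (LP (LK LD1_c17 LD2_c0 LD3_c11))))))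
theorem f622271 : Led Lsl_ct (LP (LK LD1_c2 LD2_c15 LD3_c47)) = (LP (LK LD1_c4 LD2_c37 LD3_c12)) :=
  Lre_c IH (LK LD1_c2 LD2_c15 LD3_c47) (LK LD1_c4 LD2_c37 LD3_c12) Lrfl Lrfl
theorem f699537 : Led Lsl_cf (LP (LK LD1_c9 LD2_c10 LD3_c6)) = (LP (LK LD1_c9 LD2_c47 LD3_c26)) :=
  Lgr Lrot163 (Lpe (f161658 IH) (Lpe (f622271 IH) (Lpr_gf (K51.f622267 IH) (Lpe (K51.f446203 IH) (Lpe (K35.f446191 IH) (Lpr_gf (K32.f436221 IH) (Lpe (K24.f24048 IH) (Lpr_bt (K7.f22251 IH) (Lpe (K53.f22283 IH) (Lpr_bf (K56.f699533 IH) (Lpn (LP (LK LD1_c9 LD2_c47 LD3_c26)))))))))))))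
theorem f138964 : Led Lsl_bt (LP (LK LD1_c2 LD2_c27 LD3_c11)) = (LP (LK LD1_c4 LD2_c58 LD3_c23)) :=
  Lre_b IH (LK LD1_c2 LD2_c27 LD3_c11) (LK LD1_c4 LD2_c58 LD3_c23) Lrfl Lrfl
def v14110 : LQ := Led Lsl_gf (LP (LK LD1_c4 LD2_c58 LD3_c41))
theorem f719052 : Led Lsl_gf (LP (LK LD1_c4 LD2_c58 LD3_c41)) = v14110 :=
  Lrfl
theorem f748495 : Led Lsl_cf v14110 = (LP (LK LD1_c5 LD2_c57 LD3_c42)) :=
  Lgr Lrot160 (Lpe (f719052 IH) (Lpe (K45.f428925 IH) (Lpr_bt (f138964 IH) (Lpr_gt (K50.f149886 IH) (Lpe (f699537 IH) (Lpr_gt (f622319 IH) (Lpe (f622288 IH) (Lpr_bt (f744490 IH) (Lpr_gt (f748494 IH) (Lpe (f748487 IH) (Lpn (LP (LK LD1_c5 LD2_c57 LD3_c42)))))))))))))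
theorem f871452 : Led Lsl_gf v14110 = v34529 :=
  Lgr Lrot129 (Lpr_cf (f748495 IH) (Lpr_bt (f748487 IH) (Lpe (f748493 IH) (Lpe (K65.f613129 IH) (Lpr_ct (K65.f744880 IH) (Lpr_gt (f870940 IH) (Lpe (f870942 IH) (Lpq (f826762 IH) (Lpe (f685962 IH) (Lpqs (K45.f643194 IH) (Lpr_gt (f686148 IH) (Lpr_ct (f871447 IH) (Lpn v34529)))))))))))))
theorem f644317 : Led Lsl_af (LP (LK LD1_c5 LD2_c57 LD3_c60)) = (LP (LK LD1_c5 LD2_c57 LD3_c42)) :=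
  Lgr Lrot0 (Lpr_at (K56.f644315 IH) (Lpn (LP (LK LD1_c5 LD2_c57 LD3_c42))))
theorem f748496 : Led Lsl_ct v14110 = (LP (LK LD1_c5 LD2_c57 LD3_c42)) :=
  Lgr Lrot59 (Lpr_cf (f748495 IH) (Lpn (LP (LK LD1_c5 LD2_c57 LD3_c42))))
theorem f748860 : Led Lsl_af v14110 = K56.v16340 :=
  Lgr Lrot68 (Lpr_ct (f748496 IH) (Lpe (f644317 IH) (Lpr_ct (K56.f748859 IH) (Lpn K56.v16340))))
theorem f644291 : Led Lsl_ct (LP (LK LD1_c9 LD2_c47 LD3_c55)) = (LP (LK LD1_c5 LD2_c57 LD3_c41)) :=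
  Lgr Lrot59 (Lpr_cf (K45.f644289 IH) (Lpn (LP (LK LD1_c5 LD2_c57 LD3_c41))))
theorem f748862 : Led Lsl_ff (LP (LK LD1_c9 LD2_c47 LD3_c55)) = K56.v16340 :=
  Lgr Lrot23 (Lpr_ct (f644291 IH) (Lpe (K56.f644309 IH) (Lpr_ct (K56.f748859 IH) (Lpn K56.v16340))))
theorem f748867 : Led Lsl_ft (LP (LK LD1_c9 LD2_c47 LD3_c55)) = K56.v16340 :=
  Lgr Lrot48 (Lpr_ff (f748862 IH) (Lpn K56.v16340))
theorem f871453 : Led Lsl_gt (LP (LK LD1_c9 LD2_c47 LD3_c55)) = v34529 :=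
  Lgr Lrot5 (Lpr_ft (f748867 IH) (Lpe (f748860 IH) (Lpr_gf (f871452 IH) (Lpn v34529))))
theorem f748802 : Led Lsl_ct (LP (LK LD1_c11 LD2_c40 LD3_c22)) = (LP (LK LD1_c10 LD2_c7 LD3_c10)) :=
  Lgr Lrot59 (Lpr_cf (K55.f748800 IH) (Lpn (LP (LK LD1_c10 LD2_c7 LD3_c10))))
theorem f622472 : Led Lsl_gt (LP (LK LD1_c10 LD2_c7 LD3_c10)) = (LP (LK LD1_c18 LD2_c26 LD3_c21)) :=
  Lre_g IH (LK LD1_c10 LD2_c7 LD3_c10) (LK LD1_c18 LD2_c26 LD3_c21) Lrfl Lrfl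
theorem f871449 : Led Lsl_cf K56.v11851 = v34529 :=
  Lgr Lrot11 (Lpr_ct (f871447 IH) (Lpn v34529))
theorem f686142 : Led Lsl_dt (LP (LK LD1_c10 LD2_c19 LD3_c2)) = K56.v11851 :=
  Lgr Lrot60 (Lpe (K53.f669369 IH) (Lpe (K53.f139348 IH) (Lpr_ff (K56.f686140 IH) (Lpn K56.v11851))))
theorem f871455 : Led Lsl_ct (LP (LK LD1_c18 LD2_c26 LD3_c21)) = (LP (LK LD1_c10 LD2_c19 LD3_c2)) :=
  Lgr Lrot110 (Lpe (f622472 IH) (Lpe (f748802 IH) (Lpe (K55.f500626 IH) (Lpe (K56.f161299 IH) (Lpr_gt (K45.f428129 IH) (Lpe (K45.f644289 IH) (Lpr_gt (f871453 IH) (Lpe (f871449 IH) (Lpe (f686142 IH) (Lpn (LP (LK LD1_c10 LD2_c19 LD3_c2))))))))))))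
theorem f871456 : Led Lsl_ct (LP (LK LD1_c18 LD2_c26 LD3_c21)) = (LP (LK LD1_c10 LD2_c19 LD3_c2)) :=
  Leop (Lpe (f871455 IH) (Lpn (LP (LK LD1_c18 LD2_c26 LD3_c21))))
theorem seed_2013 : LEOK LG_c (LK LD1_c18 LD2_c26 LD3_c21) :=
  Leoe_c (LK LD1_c18 LD2_c26 LD3_c21) (f871456 IH)
def v11852 : LQ := Led Lsl_at K42.v3911
def v34531 : LQ := Led Lsl_et v11852
theorem f871479 : Led Lsl_et v11852 = v34531 :=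
  Lrfl
theorem f871482 : Led Lsl_ef v11852 = v34531 :=
  Lgr Lrot88 (Lpr_et (f871479 IH) (Lpn v34531))
theorem f686149 : Led Lsl_at K42.v3911 = v11852 :=
  Lrfl
theorem f686153 : Led Lsl_gt K53.v4891 = v11852 :=
  Lgr Lrot46 (Lpe (K53.f640756 IH) (Lpr_ft (K56.f627864 IH) (Lpr_at (f686149 IH) (Lpn v11852))))
theorem f643186 : Led Lsl_at (LP (LK LD1_c5 LD2_c51 LD3_c52)) = (LP (LK LD1_c9 LD2_c47 LD3_c58)) :=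
  Lgr Lrot100 (Lpr_af (K45.f643184 IH) (Lpn (LP (LK LD1_c9 LD2_c47 LD3_c58))))
theorem f643114 : Led Lsl_gt (LP (LK LD1_c17 LD2_c56 LD3_c6)) = (LP (LK LD1_c9 LD2_c47 LD3_c58)) :=
  Lre_g IH (LK LD1_c17 LD2_c56 LD3_c6) (LK LD1_c9 LD2_c47 LD3_c58) Lrfl Lrfl
theorem f643204 : Led Lsl_gt (LP (LK LD1_c11 LD2_c30 LD3_c60)) = (LP (LK LD1_c17 LD2_c56 LD3_c6)) :=
  Lgr Lrot5 (Lpr_ft (K57.f622579 IH) (Lpr_at (f643186 IH) (Lpe (f643114 IH) (Lpn (LP (LK LD1_c17 LD2_c56 LD3_c6))))))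
theorem f415215 : Led Lsl_et (LP (LK LD1_c9 LD2_c46 LD3_c12)) = (LP (LK LD1_c17 LD2_c56 LD3_c6)) :=
  Lre_e IH (LK LD1_c9 LD2_c46 LD3_c12) (LK LD1_c17 LD2_c56 LD3_c6) Lrfl Lrfl
theorem f75465 : Led Lsl_dt (LP (LK LD1_c4 LD2_c59 LD3_c20)) = (LP (LK LD1_c9 LD2_c45 LD3_c51)) :=
  Lre_d IH (LK LD1_c4 LD2_c59 LD3_c20) (LK LD1_c9 LD2_c45 LD3_c51) Lrfl Lrfl
theorem f415213 : Led Lsl_dt (LP (LK LD1_c5 LD2_c0 LD3_c1)) = (LP (LK LD1_c9 LD2_c50 LD3_c36)) :=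
  Lre_d IH (LK LD1_c5 LD2_c0 LD3_c1) (LK LD1_c9 LD2_c50 LD3_c36) Lrfl Lrfl
theorem f643208 : Led Lsl_gf (LP (LK LD1_c6 LD2_c46 LD3_c38)) = (LP (LK LD1_c9 LD2_c50 LD3_c36)) :=
  Lgr Lrot134 (Lpe (K42.f416533 IH) (Lpr_et (K42.f622888 IH) (Lpr_gt (f643204 IH) (Lpe (f415215 IH) (Lpr_dt (K55.f415214 IH) (Lpr_gt (K55.f40257 IH) (Lpe (f75465 IH) (Lpe (K31.f413805 IH) (Lpr_gt (f415211 IH) (Lpr_dt (f415213 IH) (Lpn (LP (LK LD1_c9 LD2_c50 LD3_c36)))))))))))))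
theorem f643212 : Led Lsl_et (LP (LK LD1_c5 LD2_c0 LD3_c1)) = (LP (LK LD1_c9 LD2_c50 LD3_c37)) :=
  Lre_e IH (LK LD1_c5 LD2_c0 LD3_c1) (LK LD1_c9 LD2_c50 LD3_c37) Lrfl Lrfl
theorem f438666 : Led Lsl_dt (LP (LK LD1_c6 LD2_c21 LD3_c38)) = (LP (LK LD1_c3 LD2_c8 LD3_c29)) :=
  Lre_d IH (LK LD1_c6 LD2_c21 LD3_c38) (LK LD1_c3 LD2_c8 LD3_c29) Lrfl Lrfl
theorem f506159 : Led Lsl_ff (LP (LK LD1_c6 LD2_c21 LD3_c38)) = (LP (LK LD1_c5 LD2_c50 LD3_c35)) :=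
  Lgr Lrot19 (Lpr_dt (f438666 IH) (Lpr_ft (K35.f506157 IH) (Lpr_dt (K57.f500044 IH) (Lpn (LP (LK LD1_c5 LD2_c50 LD3_c35))))))
theorem f505047 : Led Lsl_at (LP (LK LD1_c6 LD2_c21 LD3_c38)) = (LP (LK LD1_c12 LD2_c17 LD3_c5)) :=
  Lre_a IH (LK LD1_c6 LD2_c21 LD3_c38) (LK LD1_c12 LD2_c17 LD3_c5) Lrfl Lrfl
theorem f506184 : Led Lsl_gf (LP (LK LD1_c12 LD2_c17 LD3_c5)) = (LP (LK LD1_c11 LD2_c29 LD3_c2)) :=
  Lgr Lrot76 (Lpe (f505047 IH) (Lpr_ff (f506159 IH) (Lpr_gt (K57.f506183 IH) (Lpn (LP (LK LD1_c11 LD2_c29 LD3_c2))))))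
theorem f765421 : Led Lsl_gf (LP (LK LD1_c9 LD2_c50 LD3_c37)) = (LP (LK LD1_c12 LD2_c17 LD3_c6)) :=
  Lgr Lrot141 (Lpe (f643212 IH) (Lpr_dt (f415213 IH) (Lpe (f643208 IH) (Lpe (K42.f416533 IH) (Lpr_et (K42.f622888 IH) (Lpr_gt (f643204 IH) (Lpr_dt (K57.f765417 IH) (Lpe (f506184 IH) (Lpe (K35.f505042 IH) (Lpr_et (K35.f505005 IH) (Lpn (LP (LK LD1_c12 LD2_c17 LD3_c6)))))))))))))
theorem f505003 : Led Lsl_ff (LP (LK LD1_c12 LD2_c29 LD3_c49)) = (LP (LK LD1_c12 LD2_c17 LD3_c6)) :=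
  Lgr Lrot3 (Lpr_ft (K35.f504958 IH) (Lpn (LP (LK LD1_c12 LD2_c17 LD3_c6))))
theorem f765423 : Led Lsl_gt (LP (LK LD1_c9 LD2_c50 LD3_c37)) = (LP (LK LD1_c6 LD2_c30 LD3_c6)) :=
  Lgr Lrot46 (Lpr_gf (f765421 IH) (Lpe (f505003 IH) (Lpr_at (K35.f140791 IH) (Lpn (LP (LK LD1_c6 LD2_c30 LD3_c6))))))
theorem f623069 : Led Lsl_ff (LP (LK LD1_c12 LD2_c56 LD3_c36)) = (LP (LK LD1_c17 LD2_c34 LD3_c35)) :=
  Lgr Lrot3 (Lpr_ft (K65.f623051 IH) (Lpn (LP (LK LD1_c17 LD2_c34 LD3_c35))))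
theorem f643210 : Led Lsl_gt (LP (LK LD1_c17 LD2_c34 LD3_c35)) = (LP (LK LD1_c9 LD2_c50 LD3_c36)) :=
  Lgr Lrot5 (Lpe (f623069 IH) (Lpr_at (K65.f416651 IH) (Lpr_gf (f643208 IH) (Lpn (LP (LK LD1_c9 LD2_c50 LD3_c36))))))
theorem f871485 : Led Lsl_df (LP (LK LD1_c17 LD2_c34 LD3_c35)) = v34531 :=
  Lgr Lrot170 (Lpr_gt (f643210 IH) (Lpe (f415213 IH) (Lpr_et (f643212 IH) (Lpr_gt (f765423 IH) (Lpe (K32.f140754 IH) (Lpe (K48.f643555 IH) (Lpe (K48.f506251 IH) (Lpe (K53.f642261 IH) (Lpqs (K53.f643543 IH) (Lpr_gt (f686153 IH) (Lpr_ef (f871482 IH) (Lpn v34531))))))))))))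
def v19787 : LQ := Led Lsl_gt (LP (LK LD1_c6 LD2_c46 LD3_c38))
theorem f782144 : Led Lsl_gt (LP (LK LD1_c6 LD2_c46 LD3_c38)) = v19787 :=
  Lrfl
theorem f416416 : Led Lsl_bt (LP (LK LD1_c3 LD2_c21 LD3_c28)) = (LP (LK LD1_c6 LD2_c46 LD3_c38)) :=
  Lre_b IH (LK LD1_c3 LD2_c21 LD3_c28) (LK LD1_c6 LD2_c46 LD3_c38) Lrfl Lrfl
theorem f416765 : Led Lsl_bt (LP (LK LD1_c9 LD2_c32 LD3_c18)) = (LP (LK LD1_c4 LD2_c49 LD3_c51)) :=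
  Lre_b IH (LK LD1_c9 LD2_c32 LD3_c18) (LK LD1_c4 LD2_c49 LD3_c51) Lrfl Lrfl
theorem f623044 : Led Lsl_ft (LP (LK LD1_c6 LD2_c46 LD3_c38)) = (LP (LK LD1_c9 LD2_c32 LD3_c18)) :=
  Lgr Lrot75 (Lpe (f416416 IH) (Lpr_ff (K57.f623040 IH) (Lpe (f416765 IH) (Lpn (LP (LK LD1_c9 LD2_c32 LD3_c18))))))
theorem f782145 : Led Lsl_gf (LP (LK LD1_c17 LD2_c34 LD3_c35)) = v19787 :=
  Lgr Lrot76 (Lpe (K65.f622994 IH) (Lpe (f623044 IH) (Lpr_gt (f782144 IH) (Lpn v19787))))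
theorem f138961 : Led Lsl_at (LP (LK LD1_c2 LD2_c27 LD3_c11)) = (LP (LK LD1_c4 LD2_c58 LD3_c19)) :=
  Lre_a IH (LK LD1_c2 LD2_c27 LD3_c11) (LK LD1_c4 LD2_c58 LD3_c19) Lrfl Lrfl
theorem f686154 : Led Lsl_gf (LP (LK LD1_c4 LD2_c58 LD3_c19)) = v11852 :=
  Lgr Lrot76 (Lpe (f138961 IH) (Lpe (K53.f642260 IH) (Lpqs (K53.f643543 IH) (Lpr_gt (f686153 IH) (Lpn v11852)))))
theorem f139362 : Led Lsl_et (LP (LK LD1_c2 LD2_c26 LD3_c61)) = (LP (LK LD1_c4 LD2_c58 LD3_c19)) :=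
  Lre_e IH (LK LD1_c2 LD2_c26 LD3_c61) (LK LD1_c4 LD2_c58 LD3_c19) Lrfl Lrfl
theorem f73774 : Led Lsl_dt (LP (LK LD1_c5 LD2_c0 LD3_c0)) = (LP (LK LD1_c9 LD2_c50 LD3_c33)) :=
  Lre_d IH (LK LD1_c5 LD2_c0 LD3_c0) (LK LD1_c9 LD2_c50 LD3_c33) Lrfl Lrfl
theorem f871487 : v19787 = (LP (LK LD1_c9 LD2_c50 LD3_c33)) :=
  (Llr Lrot134 (Lpe (f782145 IH) (Lpr_df (f871485 IH) (Lpe (f871482 IH) (Lpe (f686154 IH) (Lpe (f139362 IH) (Lpr_dt (K6.f139178 IH) (Lpe (K6.f139339 IH) (Lpe (K7.f26451 IH) (Lpr_et (K17.f139341 IH) (Lpr_gt (K17.f73773 IH) (Lpr_dt (f73774 IH) (Lpn (LP (LK LD1_c9 LD2_c50 LD3_c33))))))))))))))).symm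
theorem f871488 : Led Lsl_gt (LP (LK LD1_c9 LD2_c50 LD3_c33)) = (LP (LK LD1_c17 LD2_c34 LD3_c35)) :=
  Leop (Lpr_gf (f782145 IH) (Lpqs (f871487 IH) (Lpn (LP (LK LD1_c9 LD2_c50 LD3_c33)))))
theorem seed_2014 : LEOK LG_g (LK LD1_c9 LD2_c50 LD3_c33) :=
  Leoe_g (LK LD1_c9 LD2_c50 LD3_c33) (f871488 IH)
def v11853 : LQ := Led Lsl_dt K42.v3911
def v34532 : LQ := Led Lsl_gt v11853
theorem f871493 : Led Lsl_gt v11853 = v34532 :=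
  Lrfl
theorem f686157 : Led Lsl_dt K42.v3911 = v11853 :=
  Lrfl
theorem f686160 : Led Lsl_ff (LP (LK LD1_c5 LD2_c51 LD3_c51)) = v11853 :=
  Lgr Lrot19 (Lpr_dt (K56.f535822 IH) (Lpr_ft (K56.f627864 IH) (Lpr_dt (f686157 IH) (Lpn v11853))))
def v14113 : LQ := Led Lsl_dt (LP (LK LD1_c4 LD2_c58 LD3_c43))
theorem f719060 : Led Lsl_dt (LP (LK LD1_c4 LD2_c58 LD3_c43)) = v14113 :=
  Lrfl
theorem f719062 : Led Lsl_df (LP (LK LD1_c4 LD2_c58 LD3_c43)) = v14113 :=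
  Lgr Lrot38 (Lpr_dt (f719060 IH) (Lpn v14113))
theorem f719064 : Led Lsl_at (LP (LK LD1_c5 LD2_c51 LD3_c51)) = v14113 :=
  Lgr Lrot51 (Lpe (K53.f535820 IH) (Lpr_af (f640761 IH) (Lpqs (K45.f643194 IH) (Lpr_df (f719062 IH) (Lpn v14113)))))
theorem f871495 : Led Lsl_gf v14113 = v34532 :=
  Lgr Lrot76 (Lpe (f719064 IH) (Lpr_ff (f686160 IH) (Lpr_gt (f871493 IH) (Lpn v34532))))
theorem f413842 : Led Lsl_et (LP (LK LD1_c0 LD2_c32 LD3_c54)) = (LP (LK LD1_c1 LD2_c10 LD3_c61)) :=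
  Lre_e IH (LK LD1_c0 LD2_c32 LD3_c54) (LK LD1_c1 LD2_c10 LD3_c61) Lrfl Lrfl
theorem f415107 : Led Lsl_et (LP (LK LD1_c4 LD2_c59 LD3_c61)) = (LP (LK LD1_c2 LD2_c27 LD3_c45)) :=
  Lre_e IH (LK LD1_c4 LD2_c59 LD3_c61) (LK LD1_c2 LD2_c27 LD3_c45) Lrfl Lrfl
theorem f415108 : Led Lsl_dt (LP (LK LD1_c4 LD2_c59 LD3_c61)) = (LP (LK LD1_c9 LD2_c50 LD3_c31)) :=
  Lre_d IH (LK LD1_c4 LD2_c59 LD3_c61) (LK LD1_c9 LD2_c50 LD3_c31) Lrfl Lrfl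
theorem f719063 : Led Lsl_gf (LP (LK LD1_c9 LD2_c50 LD3_c31)) = v14113 :=
  Lgr Lrot134 (Lpe (f415108 IH) (Lpr_et (f415107 IH) (Lpr_gt (K53.f77425 IH) (Lpe (f413842 IH) (Lpr_dt (K8.f56891 IH) (Lpr_gt (K6.f74378 IH) (Lpe (K2.f72519 IH) (Lpr_et (K53.f415199 IH) (Lpr_gt (K45.f209966 IH) (Lpr_dt (f719060 IH) (Lpn v14113)))))))))))
theorem f719136 : Led Lsl_dt (LP (LK LD1_c11 LD2_c30 LD3_c55)) = K53.v14125 :=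
  Lgr Lrot42 (Lpr_df (K53.f719135 IH) (Lpn K53.v14125))
def v14154 : LQ := Led Lsl_at (LP (LK LD1_c4 LD2_c59 LD3_c61))
theorem f720546 : Led Lsl_at (LP (LK LD1_c4 LD2_c59 LD3_c61)) = v14154 :=
  Lrfl
theorem f636088 : Led Lsl_af (LP (LK LD1_c2 LD2_c27 LD3_c45)) = K53.v4552 :=
  Lgr Lrot45 (Lpr_ft (K53.f636081 IH) (Lpe (K53.f636079 IH) (Lpr_ft (K53.f636087 IH) (Lpn K53.v4552))))
theorem f720548 : Led Lsl_ef K53.v4552 = v14154 :=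
  Lgr Lrot20 (Lpe (f636088 IH) (Lpr_et (K53.f636086 IH) (Lpr_at (f720546 IH) (Lpn v14154))))
theorem f720549 : Led Lsl_et K53.v4552 = v14154 :=
  Lgr Lrot87 (Lpr_ef (f720548 IH) (Lpn v14154))
theorem f719466 : Led Lsl_cf K53.v4552 = K53.v14138 :=
  Lgr Lrot108 (Lpe (K53.f636090 IH) (Lpr_ct (K46.f415850 IH) (Lpr_ft (K53.f719464 IH) (Lpn K53.v14138))))
theorem f140846 : Led Lsl_ct (LP (LK LD1_c9 LD2_c49 LD3_c1)) = (LP (LK LD1_c4 LD2_c59 LD3_c19)) :=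
  Lre_c IH (LK LD1_c9 LD2_c49 LD3_c1) (LK LD1_c4 LD2_c59 LD3_c19) Lrfl Lrfl
theorem f843637 : K53.v4552 = (LP (LK LD1_c4 LD2_c59 LD3_c19)) :=
  Lefun (Lecon (Lfl_cf (f719466 IH)) (f843632 IH)) (f140846 IH)
theorem f843653 : v14154 = K53.v14125 :=
  Lefun (Lecon (f720549 IH) (f843637 IH)) (K53.f719133 IH)
theorem f720547 : Led Lsl_af (LP (LK LD1_c4 LD2_c59 LD3_c61)) = v14154 :=
  Lgr Lrot0 (Lpr_at (f720546 IH) (Lpn v14154))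
theorem f843695 : Led Lsl_af (LP (LK LD1_c11 LD2_c30 LD3_c55)) = (LP (LK LD1_c9 LD2_c50 LD3_c31)) :=
  Lgr Lrot117 (Lpr_dt (f719136 IH) (Lpq (f843653 IH) (Lpe (f720547 IH) (Lpr_dt (f415108 IH) (Lpn (LP (LK LD1_c9 LD2_c50 LD3_c31)))))))
theorem f843697 : Led Lsl_at (LP (LK LD1_c11 LD2_c30 LD3_c55)) = (LP (LK LD1_c9 LD2_c50 LD3_c31)) :=
  Lgr Lrot100 (Lpr_af (f843695 IH) (Lpn (LP (LK LD1_c9 LD2_c50 LD3_c31))))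
theorem f871496 : Led Lsl_ff (LP (LK LD1_c11 LD2_c30 LD3_c55)) = v34532 :=
  Lgr Lrot52 (Lpr_at (f843697 IH) (Lpr_gf (f719063 IH) (Lpr_gf (f871495 IH) (Lpn v34532))))
theorem f871497 : Led Lsl_ft (LP (LK LD1_c11 LD2_c30 LD3_c55)) = v34532 :=
  Lgr Lrot48 (Lpr_ff (f871496 IH) (Lpn v34532))
theorem f843701 : Led Lsl_ft (LP (LK LD1_c11 LD2_c30 LD3_c56)) = (LP (LK LD1_c9 LD2_c50 LD3_c31)) :=
  Lgr Lrot2 (Lpr_gt (K56.f640757 IH) (Lpr_gt (K53.f640758 IH) (Lpr_af (f843695 IH) (Lpn (LP (LK LD1_c9 LD2_c50 LD3_c31))))))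
theorem f871498 : Led Lsl_af (LP (LK LD1_c11 LD2_c30 LD3_c56)) = v34532 :=
  Lgr Lrot45 (Lpr_ft (f843701 IH) (Lpe (f843695 IH) (Lpr_ft (f871497 IH) (Lpn v34532))))
theorem f752155 : Led Lsl_ef (LP (LK LD1_c10 LD2_c4 LD3_c45)) = (LP (LK LD1_c11 LD2_c30 LD3_c56)) :=
  Lgr Lrot88 (Lpr_et (K56.f752151 IH) (Lpn (LP (LK LD1_c11 LD2_c30 LD3_c56))))
theorem f165748 : Led Lsl_ct (LP (LK LD1_c10 LD2_c4 LD3_c45)) = (LP (LK LD1_c5 LD2_c7 LD3_c3)) :=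
  Lre_c IH (LK LD1_c10 LD2_c4 LD3_c45) (LK LD1_c5 LD2_c7 LD3_c3) Lrfl Lrfl
theorem f597879 : Led Lsl_at (LP (LK LD1_c10 LD2_c18 LD3_c18)) = (LP (LK LD1_c10 LD2_c4 LD3_c45)) :=
  Lgr Lrot107 (Lpe (K64.f387092 IH) (Lpr_af (K50.f597873 IH) (Lpe (f165748 IH) (Lpn (LP (LK LD1_c10 LD2_c4 LD3_c45))))))
theorem f598369 : Led Lsl_af (LP (LK LD1_c10 LD2_c18 LD3_c18)) = (LP (LK LD1_c10 LD2_c4 LD3_c45)) :=
  Lgr Lrot0 (Lpr_at (f597879 IH) (Lpn (LP (LK LD1_c10 LD2_c4 LD3_c45))))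
theorem f871500 : Led Lsl_et (LP (LK LD1_c10 LD2_c18 LD3_c18)) = v34532 :=
  Lgr Lrot123 (Lpr_af (f598369 IH) (Lpr_ef (f752155 IH) (Lpr_af (f871498 IH) (Lpn v34532))))
theorem f871501 : Led Lsl_cf (LP (LK LD1_c10 LD2_c18 LD3_c19)) = v34532 :=
  Lgr Lrot39 (Lpr_et (K50.f387103 IH) (Lpr_ct (K64.f387092 IH) (Lpr_et (f871500 IH) (Lpn v34532))))
def v15657 : LQ := Led Lsl_gf (LP (LK LD1_c5 LD2_c44 LD3_c36))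
theorem f738496 : Led Lsl_gf (LP (LK LD1_c5 LD2_c44 LD3_c36)) = v15657 :=
  Lrfl
theorem f428128 : Led Lsl_dt (LP (LK LD1_c11 LD2_c40 LD3_c21)) = (LP (LK LD1_c5 LD2_c57 LD3_c42)) :=
  Lre_d IH (LK LD1_c11 LD2_c40 LD3_c21) (LK LD1_c5 LD2_c57 LD3_c42) Lrfl Lrfl
theorem f644323 : Led Lsl_ft (LP (LK LD1_c11 LD2_c40 LD3_c41)) = (LP (LK LD1_c11 LD2_c40 LD3_c21)) :=
  Lgr Lrot54 (Lpe (K56.f206036 IH) (Lpr_ff (K56.f644321 IH) (Lpe (f428128 IH) (Lpn (LP (LK LD1_c11 LD2_c40 LD3_c21))))))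
theorem f426171 : Led Lsl_dt (LP (LK LD1_c11 LD2_c40 LD3_c42)) = (LP (LK LD1_c5 LD2_c57 LD3_c60)) :=
  Lre_d IH (LK LD1_c11 LD2_c40 LD3_c42) (LK LD1_c5 LD2_c57 LD3_c60) Lrfl Lrfl
theorem f644319 : Led Lsl_af (LP (LK LD1_c11 LD2_c40 LD3_c42)) = (LP (LK LD1_c11 LD2_c40 LD3_c21)) :=
  Lgr Lrot117 (Lpr_dt (f426171 IH) (Lpr_at (K56.f644315 IH) (Lpr_dt (K56.f428127 IH) (Lpn (LP (LK LD1_c11 LD2_c40 LD3_c21))))))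
theorem f426170 : Led Lsl_dt (LP (LK LD1_c5 LD2_c57 LD3_c60)) = (LP (LK LD1_c11 LD2_c40 LD3_c42)) :=
  Lre_d IH (LK LD1_c5 LD2_c57 LD3_c60) (LK LD1_c11 LD2_c40 LD3_c42) Lrfl Lrfl
theorem f644313 : Led Lsl_ft (LP (LK LD1_c11 LD2_c40 LD3_c42)) = (LP (LK LD1_c11 LD2_c40 LD3_c20)) :=
  Lgr Lrot54 (Lpe (f426170 IH) (Lpr_ff (K56.f644309 IH) (Lpe (K55.f428132 IH) (Lpn (LP (LK LD1_c11 LD2_c40 LD3_c20))))))
theorem f644331 : Led Lsl_af (LP (LK LD1_c11 LD2_c40 LD3_c41)) = (LP (LK LD1_c11 LD2_c40 LD3_c20)) :=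
  Lgr Lrot45 (Lpr_ft (f644323 IH) (Lpe (f644319 IH) (Lpr_ft (f644313 IH) (Lpn (LP (LK LD1_c11 LD2_c40 LD3_c20))))))
theorem f749615 : Led Lsl_gf (LP (LK LD1_c11 LD2_c18 LD3_c60)) = (LP (LK LD1_c11 LD2_c40 LD3_c42)) :=
  Lgr Lrot47 (Lpr_gt (K56.f749612 IH) (Lpr_af (f644331 IH) (Lpe (f644313 IH) (Lpn (LP (LK LD1_c11 LD2_c40 LD3_c42))))))
theorem f383751 : Led Lsl_ct (LP (LK LD1_c11 LD2_c18 LD3_c60)) = (LP (LK LD1_c5 LD2_c44 LD3_c27)) :=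
  Lre_c IH (LK LD1_c11 LD2_c18 LD3_c60) (LK LD1_c5 LD2_c44 LD3_c27) Lrfl Lrfl
theorem f748486 : Led Lsl_gf v14112 = (LP (LK LD1_c5 LD2_c57 LD3_c58)) :=
  Lgr Lrot76 (Lpe (f719059 IH) (Lpr_ff (K56.f686124 IH) (Lpr_gt (K56.f748481 IH) (Lpn (LP (LK LD1_c5 LD2_c57 LD3_c58))))))
theorem f749617 : Led Lsl_ct K56.v15646 = v14113 :=
  Lgr Lrot110 (Lpe (K56.f738462 IH) (Lpe (f383751 IH) (Lpr_gf (f749615 IH) (Lpe (f426170 IH) (Lpr_gt (K56.f206031 IH) (Lpr_ct (f206032 IH) (Lpe (f748486 IH) (Lpe (f719058 IH) (Lpr_df (f719062 IH) (Lpn v14113))))))))))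
theorem f719061 : Led Lsl_af (LP (LK LD1_c5 LD2_c51 LD3_c51)) = v14113 :=
  Lgr Lrot117 (Lpr_dt (K56.f535822 IH) (Lpr_at (K45.f640760 IH) (Lpqs (K45.f643194 IH) (Lpr_dt (f719060 IH) (Lpn v14113)))))
def v16029 : LQ := Led Lsl_ct (LP (LK LD1_c5 LD2_c51 LD3_c51))
theorem f744902 : Led Lsl_ct (LP (LK LD1_c5 LD2_c51 LD3_c51)) = v16029 :=
  Lrfl
theorem f749618 : Led Lsl_af K56.v15646 = v16029 :=
  Lgr Lrot68 (Lpr_ct (f749617 IH) (Lpe (f719061 IH) (Lpr_ct (f744902 IH) (Lpn v16029))))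
def v15647 : LQ := Led Lsl_gf (LP (LK LD1_c5 LD2_c44 LD3_c27))
theorem f738463 : Led Lsl_gf (LP (LK LD1_c5 LD2_c44 LD3_c27)) = v15647 :=
  Lrfl
theorem f749621 : Led Lsl_ft v15647 = v16029 :=
  Lgr Lrot2 (Lpe (f738463 IH) (Lpr_gt (K56.f738462 IH) (Lpr_af (f749618 IH) (Lpn v16029))))
theorem f749623 : Led Lsl_ff v15647 = v16029 :=
  Lgr Lrot3 (Lpr_ft (f749621 IH) (Lpn v16029))
theorem f749624 : Led Lsl_ct v15647 = v11853 :=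
  Lgr Lrot40 (Lpr_ff (f749623 IH) (Lpe (f744902 IH) (Lpr_ff (f686160 IH) (Lpn v11853))))
def v5163 : LQ := Led Lsl_et (LP (LK LD1_c3 LD2_c0 LD3_c7))
def v25049 : LQ := Led Lsl_ft v5163
theorem f826740 : Led Lsl_ft v5163 = v25049 :=
  Lrfl
theorem f826743 : Led Lsl_ff v5163 = v25049 :=
  Lgr Lrot3 (Lpr_ft (f826740 IH) (Lpn v25049))
theorem f646300 : Led Lsl_et (LP (LK LD1_c3 LD2_c0 LD3_c7)) = v5163 :=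
  Lrfl
theorem f646301 : Led Lsl_af (LP (LK LD1_c5 LD2_c44 LD3_c27)) = v5163 :=
  Lgr Lrot50 (Lpe (K55.f427759 IH) (Lpr_at (K56.f427762 IH) (Lpr_et (f646300 IH) (Lpn v5163))))
theorem f826746 : Led Lsl_gf v15647 = v25049 :=
  Lgr Lrot47 (Lpe (f738463 IH) (Lpr_af (f646301 IH) (Lpr_ff (f826743 IH) (Lpn v25049))))
theorem f382419 : Led Lsl_et (LP (LK LD1_c5 LD2_c44 LD3_c1)) = (LP (LK LD1_c2 LD2_c48 LD3_c0)) :=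
  Lre_e IH (LK LD1_c5 LD2_c44 LD3_c1) (LK LD1_c2 LD2_c48 LD3_c0) Lrfl Lrfl
theorem f646302 : Led Lsl_df (LP (LK LD1_c5 LD2_c44 LD3_c1)) = v5163 :=
  Lgr Lrot70 (Lpr_et (f382419 IH) (Lpe (K38.f427509 IH) (Lpr_et (K32.f427504 IH) (Lpr_dt (K36.f55981 IH) (Lpr_et (f646300 IH) (Lpn v5163))))))
theorem f826745 : Led Lsl_dt K56.v15626 = v25049 :=
  Lgr Lrot60 (Lpe (K56.f738360 IH) (Lpr_df (f646302 IH) (Lpr_ff (f826743 IH) (Lpn v25049))))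
theorem f738363 : Led Lsl_ff (LP (LK LD1_c5 LD2_c44 LD3_c1)) = K56.v15626 :=
  Lgr Lrot3 (Lpr_ft (K56.f738360 IH) (Lpn K56.v15626))
theorem f383752 : Led Lsl_at (LP (LK LD1_c5 LD2_c44 LD3_c1)) = (LP (LK LD1_c2 LD2_c48 LD3_c8)) :=
  Lgr Lrot100 (Lpr_af (K56.f383747 IH) (Lpn (LP (LK LD1_c2 LD2_c48 LD3_c8))))
theorem f738367 : Led Lsl_gf (LP (LK LD1_c5 LD2_c44 LD3_c26)) = K56.v15626 :=
  Lgr Lrot47 (Lpr_gt (K55.f383757 IH) (Lpe (f383752 IH) (Lpr_ff (f738363 IH) (Lpn K56.v15626))))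
theorem f738368 : Led Lsl_ct (LP (LK LD1_c5 LD2_c44 LD3_c26)) = (LP (LK LD1_c11 LD2_c18 LD3_c58)) :=
  Lre_c IH (LK LD1_c5 LD2_c44 LD3_c26) (LK LD1_c11 LD2_c18 LD3_c58) Lrfl Lrfl
theorem f871503 : v15657 = (LP (LK LD1_c11 LD2_c18 LD3_c58)) :=
  (Llr Lrot104 (Lpe (f738496 IH) (Lpr_ct (K50.f597894 IH) (Lpe (K50.f597896 IH) (Lpr_cf (f871501 IH) (Lpe (f871493 IH) (Lpe (f749624 IH) (Lpr_gf (f826746 IH) (Lpe (f826745 IH) (Lpe (f738367 IH) (Lpr_ct (f738368 IH) (Lpn (LP (LK LD1_c11 LD2_c18 LD3_c58)))))))))))))).symm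
theorem f871504 : Led Lsl_gt (LP (LK LD1_c11 LD2_c18 LD3_c58)) = (LP (LK LD1_c5 LD2_c44 LD3_c36)) :=
  Leop (Lpr_gf (f738496 IH) (Lpqs (f871503 IH) (Lpn (LP (LK LD1_c11 LD2_c18 LD3_c58)))))
theorem seed_2015 : LEOK LG_g (LK LD1_c11 LD2_c18 LD3_c58) :=
  Leoe_g (LK LD1_c11 LD2_c18 LD3_c58) (f871504 IH)
def v34533 : LQ := Led Lsl_et v11853
theorem f871505 : Led Lsl_et v11853 = v34533 :=
  Lrfl
theorem f871508 : Led Lsl_ef v11853 = v34533 :=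
  Lgr Lrot88 (Lpr_et (f871505 IH) (Lpn v34533))
theorem f686158 : Led Lsl_bf K35.v3912 = v11853 :=
  Lgr Lrot93 (Lpe (K49.f627867 IH) (Lpr_bt (K42.f627861 IH) (Lpr_dt (f686157 IH) (Lpn v11853))))
theorem f871512 : Led Lsl_bt K49.v11856 = v34533 :=
  Lgr Lrot119 (Lpe (K49.f686180 IH) (Lpr_bf (f686158 IH) (Lpr_ef (f871508 IH) (Lpn v34533))))
theorem f686190 : Led Lsl_ft (LP (LK LD1_c10 LD2_c2 LD3_c41)) = K49.v11856 :=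
  Lgr Lrot48 (Lpr_ff (K49.f686186 IH) (Lpn K49.v11856))
theorem f177699 : Led Lsl_bt (LP (LK LD1_c18 LD2_c21 LD3_c3)) = (LP (LK LD1_c10 LD2_c2 LD3_c41)) :=
  Lre_b IH (LK LD1_c18 LD2_c21 LD3_c3) (LK LD1_c10 LD2_c2 LD3_c41) Lrfl Lrfl
theorem f871513 : Led Lsl_ff (LP (LK LD1_c18 LD2_c21 LD3_c3)) = v34533 :=
  Lgr Lrot25 (Lpr_bt (f177699 IH) (Lpr_ft (f686190 IH) (Lpr_bt (f871512 IH) (Lpn v34533))))
theorem f686159 : Led Lsl_df K42.v3911 = v11853 :=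
  Lgr Lrot38 (Lpr_dt (f686157 IH) (Lpn v11853))
theorem f387081 : Led Lsl_dt (LP (LK LD1_c4 LD2_c58 LD3_c44)) = (LP (LK LD1_c2 LD2_c27 LD3_c11)) :=
  Lre_d IH (LK LD1_c4 LD2_c58 LD3_c44) (LK LD1_c2 LD2_c27 LD3_c11) Lrfl Lrfl
theorem f387080 : Led Lsl_et (LP (LK LD1_c4 LD2_c58 LD3_c44)) = (LP (LK LD1_c2 LD2_c27 LD3_c14)) :=
  Lre_e IH (LK LD1_c4 LD2_c58 LD3_c44) (LK LD1_c2 LD2_c27 LD3_c14) Lrfl Lrfl
theorem f871509 : Led Lsl_gt (LP (LK LD1_c10 LD2_c4 LD3_c47)) = v34533 :=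
  Lgr Lrot131 (Lpe (K50.f558486 IH) (Lpe (K50.f558484 IH) (Lpr_gf (K56.f569489 IH) (Lpe (K28.f386873 IH) (Lpe (K28.f384181 IH) (Lpe (f387080 IH) (Lpr_dt (f387081 IH) (Lpr_gf (K45.f636060 IH) (Lpq (K45.f643197 IH) (Lpr_df (f686159 IH) (Lpr_et (f871505 IH) (Lpn v34533))))))))))))
theorem f579435 : Led Lsl_ft (LP (LK LD1_c10 LD2_c4 LD3_c47)) = (LP (LK LD1_c18 LD2_c23 LD3_c28)) :=
  Lre_f IH (LK LD1_c10 LD2_c4 LD3_c47) (LK LD1_c18 LD2_c23 LD3_c28) Lrfl Lrfl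
theorem f597475 : Led Lsl_ft (LP (LK LD1_c18 LD2_c43 LD3_c19)) = (LP (LK LD1_c10 LD2_c18 LD3_c17)) :=
  Lre_f IH (LK LD1_c18 LD2_c43 LD3_c19) (LK LD1_c10 LD2_c18 LD3_c17) Lrfl Lrfl
theorem f597476 : Led Lsl_af (LP (LK LD1_c18 LD2_c43 LD3_c19)) = (LP (LK LD1_c18 LD2_c23 LD3_c28)) :=
  Lgr Lrot45 (Lpr_ft (f597475 IH) (Lpr_at (K50.f597457 IH) (Lpr_ft (f579435 IH) (Lpn (LP (LK LD1_c18 LD2_c23 LD3_c28))))))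
theorem f871510 : Led Lsl_gf (LP (LK LD1_c18 LD2_c43 LD3_c19)) = v34533 :=
  Lgr Lrot76 (Lpr_af (f597476 IH) (Lpe (f579435 IH) (Lpr_gt (f871509 IH) (Lpn v34533))))
theorem f579432 : Led Lsl_gt (LP (LK LD1_c18 LD2_c23 LD3_c27)) = (LP (LK LD1_c10 LD2_c4 LD3_c47)) :=
  Lre_g IH (LK LD1_c18 LD2_c23 LD3_c27) (LK LD1_c10 LD2_c4 LD3_c47) Lrfl Lrfl
theorem f597478 : Led Lsl_gt (LP (LK LD1_c18 LD2_c43 LD3_c19)) = (LP (LK LD1_c18 LD2_c23 LD3_c27)) :=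
  Lgr Lrot5 (Lpr_ft (f597475 IH) (Lpr_at (K50.f597457 IH) (Lpe (f579432 IH) (Lpn (LP (LK LD1_c18 LD2_c23 LD3_c27))))))
theorem f871515 : Led Lsl_at (LP (LK LD1_c18 LD2_c21 LD3_c3)) = (LP (LK LD1_c18 LD2_c23 LD3_c27)) :=
  Lgr Lrot26 (Lpr_ff (f871513 IH) (Lpe (f871510 IH) (Lpr_gt (f597478 IH) (Lpn (LP (LK LD1_c18 LD2_c23 LD3_c27))))))
theorem f871516 : Led Lsl_at (LP (LK LD1_c18 LD2_c21 LD3_c3)) = (LP (LK LD1_c18 LD2_c23 LD3_c27)) :=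
  Leop (Lpe (f871515 IH) (Lpn (LP (LK LD1_c18 LD2_c21 LD3_c3))))
theorem seed_2016 : LEOK LG_a (LK LD1_c18 LD2_c21 LD3_c3) :=
  Leoe_a (LK LD1_c18 LD2_c21 LD3_c3) (f871516 IH)
def v3937 : LQ := Led Lsl_gt K30.v1132
def v11914 : LQ := Led Lsl_bt v3937
def v34677 : LQ := Led Lsl_at v11914
theorem f872086 : Led Lsl_at v11914 = v34677 :=
  Lrfl
theorem f686401 : Led Lsl_bt v3937 = v11914 :=
  Lrfl
theorem f627993 : Led Lsl_gt K30.v1132 = v3937 :=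
  Lrfl
theorem f627997 : Led Lsl_ct (LP (LK LD1_c3 LD2_c44 LD3_c47)) = v3937 :=
  Lgr Lrot63 (Lpe (K28.f440652 IH) (Lpr_gt (K62.f440663 IH) (Lpr_bf (K29.f476428 IH) (Lpr_ct (K29.f4536 IH) (Lpr_gt (K29.f483472 IH) (Lpr_cf (K4.f12788 IH) (Lpr_bt (K29.f12783 IH) (Lpe (K29.f483486 IH) (Lpr_ct (K30.f491639 IH) (Lpr_gt (f627993 IH) (Lpn v3937)))))))))))
theorem f627999 : Led Lsl_ff (LP (LK LD1_c3 LD2_c30 LD3_c4)) = v3937 :=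
  Lgr Lrot23 (Lpr_ct (K2.f95334 IH) (Lpr_ft (K3.f85208 IH) (Lpr_ct (f627997 IH) (Lpn v3937))))
theorem f628000 : Led Lsl_ft (LP (LK LD1_c3 LD2_c30 LD3_c4)) = v3937 :=
  Lgr Lrot48 (Lpr_ff (f627999 IH) (Lpn v3937))
theorem f95339 : Led Lsl_bt (LP (LK LD1_c7 LD2_c1 LD3_c51)) = (LP (LK LD1_c3 LD2_c30 LD3_c4)) :=
  Lre_b IH (LK LD1_c7 LD2_c1 LD3_c51) (LK LD1_c3 LD2_c30 LD3_c4) Lrfl Lrfl
theorem f686404 : Led Lsl_ff (LP (LK LD1_c7 LD2_c1 LD3_c51)) = v11914 :=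
  Lgr Lrot25 (Lpr_bt (f95339 IH) (Lpr_ft (f628000 IH) (Lpr_bt (f686401 IH) (Lpn v11914))))
theorem f686406 : Led Lsl_ft (LP (LK LD1_c7 LD2_c1 LD3_c51)) = v11914 :=
  Lgr Lrot48 (Lpr_ff (f686404 IH) (Lpn v11914))
theorem f872091 : Led Lsl_gt (LP (LK LD1_c13 LD2_c20 LD3_c6)) = v34677 :=
  Lgr Lrot46 (Lpe (K47.f94898 IH) (Lpr_ft (f686406 IH) (Lpr_at (f872086 IH) (Lpn v34677))))
theorem f91253 : Led Lsl_ct (LP (LK LD1_c6 LD2_c59 LD3_c47)) = (LP (LK LD1_c13 LD2_c16 LD3_c29)) :=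
  Lre_c IH (LK LD1_c6 LD2_c59 LD3_c47) (LK LD1_c13 LD2_c16 LD3_c29) Lrfl Lrfl
theorem f94508 : Led Lsl_cf (LP (LK LD1_c13 LD2_c16 LD3_c28)) = (LP (LK LD1_c7 LD2_c18 LD3_c56)) :=
  Lgr Lrot97 (Lpr_bt (K62.f91254 IH) (Lpr_ct (f91253 IH) (Lpe (K47.f91248 IH) (Lpr_ct (K32.f94505 IH) (Lpr_bt (K43.f94507 IH) (Lpn (LP (LK LD1_c7 LD2_c18 LD3_c56))))))))
def v20855 : LQ := Led Lsl_ft (LP (LK LD1_c7 LD2_c6 LD3_c4))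
theorem f790422 : Led Lsl_ft (LP (LK LD1_c7 LD2_c6 LD3_c4)) = v20855 :=
  Lrfl
theorem f795484 : Led Lsl_bt v20855 = K62.v21389 :=
  Lgr Lrot35 (Lpe (f790422 IH) (Lpr_bf (K3.f109568 IH) (Lpr_ff (K62.f795482 IH) (Lpn K62.v21389))))
theorem f872092 : Led Lsl_ct v20855 = v34677 :=
  Lgr Lrot10 (Lpr_bt (f795484 IH) (Lpe (K62.f795487 IH) (Lpe (K47.f609534 IH) (Lpr_gt (K47.f94524 IH) (Lpr_cf (f94508 IH) (Lpr_bt (K32.f94512 IH) (Lpr_gt (K47.f611485 IH) (Lpe (K47.f659875 IH) (Lpr_ct (K47.f659870 IH) (Lpr_gt (f872091 IH) (Lpn v34677)))))))))))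
theorem f97491 : Led Lsl_bt (LP (LK LD1_c7 LD2_c17 LD3_c10)) = (LP (LK LD1_c13 LD2_c47 LD3_c5)) :=
  Lre_b IH (LK LD1_c7 LD2_c17 LD3_c10) (LK LD1_c13 LD2_c47 LD3_c5) Lrfl Lrfl
theorem f872093 : Led Lsl_gt (LP (LK LD1_c13 LD2_c47 LD3_c5)) = (LP (LK LD1_c22 LD2_c36 LD3_c31)) :=
  Lgr Lrot82 (Lpe (f97491 IH) (Lpr_ct (K62.f795338 IH) (Lpe (K63.f795344 IH) (Lpe (K47.f609551 IH) (Lpr_bt (K47.f609549 IH) (Lpr_gf (K62.f795487 IH) (Lpe (f795484 IH) (Lpr_ct (f872092 IH) (Lpe (f872091 IH) (Lpe (K47.f659870 IH) (Lpn (LP (LK LD1_c22 LD2_c36 LD3_c31)))))))))))))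
theorem f872094 : Led Lsl_gt (LP (LK LD1_c13 LD2_c47 LD3_c5)) = (LP (LK LD1_c22 LD2_c36 LD3_c31)) :=
  Leop (Lpe (f872093 IH) (Lpn (LP (LK LD1_c13 LD2_c47 LD3_c5))))
theorem seed_2017 : LEOK LG_g (LK LD1_c13 LD2_c47 LD3_c5) :=
  Leoe_g (LK LD1_c13 LD2_c47 LD3_c5) (f872094 IH)
def v34693 : LQ := Led Lsl_bt K49.v11920
theorem f872214 : Led Lsl_bt K49.v11920 = v34693 :=
  Lrfl
theorem f686458 : Led Lsl_et (LP (LK LD1_c7 LD2_c1 LD3_c54)) = K49.v11920 :=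
  Lgr Lrot87 (Lpr_ef (K49.f686455 IH) (Lpn K49.v11920))
theorem f872218 : Led Lsl_ef (LP (LK LD1_c13 LD2_c20 LD3_c12)) = v34693 :=
  Lgr Lrot29 (Lpr_bt (K33.f18731 IH) (Lpr_et (f686458 IH) (Lpr_bt (f872214 IH) (Lpn v34693))))
theorem f473903 : Led Lsl_gt (LP (LK LD1_c13 LD2_c11 LD3_c24)) = (LP (LK LD1_c22 LD2_c23 LD3_c55)) :=
  Lre_g IH (LK LD1_c13 LD2_c11 LD3_c24) (LK LD1_c22 LD2_c23 LD3_c55) Lrfl Lrfl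
theorem f540255 : Led Lsl_df (LP (LK LD1_c7 LD2_c12 LD3_c31)) = (LP (LK LD1_c4 LD2_c24 LD3_c0)) :=
  Lgr Lrot70 (Lpr_et (K37.f17914 IH) (Lpr_dt (K36.f540249 IH) (Lpr_et (K40.f36564 IH) (Lpr_dt (K6.f36523 IH) (Lpr_et (K43.f112862 IH) (Lpn (LP (LK LD1_c4 LD2_c24 LD3_c0))))))))
theorem f137684 : Led Lsl_et (LP (LK LD1_c4 LD2_c24 LD3_c0)) = (LP (LK LD1_c2 LD2_c9 LD3_c25)) :=
  Lre_e IH (LK LD1_c4 LD2_c24 LD3_c0) (LK LD1_c2 LD2_c9 LD3_c25) Lrfl Lrfl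
theorem f488202 : Led Lsl_et (LP (LK LD1_c22 LD2_c56 LD3_c48)) = (LP (LK LD1_c13 LD2_c33 LD3_c48)) :=
  Lre_e IH (LK LD1_c22 LD2_c56 LD3_c48) (LK LD1_c13 LD2_c33 LD3_c48) Lrfl Lrfl
theorem f621546 : Led Lsl_gf (LP (LK LD1_c20 LD2_c34 LD3_c61)) = (LP (LK LD1_c13 LD2_c33 LD3_c48)) :=
  Lgr Lrot138 (Lpr_dt (K61.f621538 IH) (Lpr_gt (K41.f513475 IH) (Lpr_df (f540255 IH) (Lpr_et (f137684 IH) (Lpr_gt (K6.f36545 IH) (Lpe (K6.f137679 IH) (Lpr_dt (K6.f137663 IH) (Lpr_gt (K43.f577470 IH) (Lpe (K46.f488203 IH) (Lpr_et (f488202 IH) (Lpn (LP (LK LD1_c13 LD2_c33 LD3_c48)))))))))))))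
theorem f91098 : Led Lsl_gt (LP (LK LD1_c13 LD2_c3 LD3_c27)) = (LP (LK LD1_c22 LD2_c13 LD3_c17)) :=
  Lre_g IH (LK LD1_c13 LD2_c3 LD3_c27) (LK LD1_c22 LD2_c13 LD3_c17) Lrfl Lrfl
theorem f512694 : Led Lsl_gf (LP (LK LD1_c30 LD2_c20 LD3_c51)) = (LP (LK LD1_c22 LD2_c13 LD3_c17)) :=
  Lgr Lrot76 (Lpe (K62.f512685 IH) (Lpr_ff (K34.f512683 IH) (Lpr_gt (f91098 IH) (Lpn (LP (LK LD1_c22 LD2_c13 LD3_c17))))))
theorem f472515 : Led Lsl_gt (LP (LK LD1_c6 LD2_c56 LD3_c50)) = (LP (LK LD1_c13 LD2_c11 LD3_c24)) :=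
  Lre_g IH (LK LD1_c6 LD2_c56 LD3_c50) (LK LD1_c13 LD2_c11 LD3_c24) Lrfl Lrfl
theorem f621550 : Led Lsl_df (LP (LK LD1_c22 LD2_c13 LD3_c17)) = (LP (LK LD1_c13 LD2_c11 LD3_c24)) :=
  Lgr Lrot153 (Lpe (f512694 IH) (Lpr_dt (K61.f512696 IH) (Lpe (K41.f513493 IH) (Lpe (K61.f621538 IH) (Lpr_gf (f621546 IH) (Lpe (K43.f467213 IH) (Lpe (K61.f522666 IH) (Lpe (K43.f472507 IH) (Lpr_gt (f472515 IH) (Lpn (LP (LK LD1_c13 LD2_c11 LD3_c24))))))))))))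
theorem f464268 : Led Lsl_bf (LP (LK LD1_c13 LD2_c18 LD3_c14)) = (LP (LK LD1_c13 LD2_c2 LD3_c58)) :=
  Lgr Lrot61 (Lpr_ft (K28.f97516 IH) (Lpr_bt (K3.f97533 IH) (Lpr_ft (K28.f464266 IH) (Lpn (LP (LK LD1_c13 LD2_c2 LD3_c58))))))
theorem f91530 : Led Lsl_ct (LP (LK LD1_c13 LD2_c3 LD3_c30)) = (LP (LK LD1_c6 LD2_c51 LD3_c59)) :=
  Lre_c IH (LK LD1_c13 LD2_c3 LD3_c30) (LK LD1_c6 LD2_c51 LD3_c59) Lrfl Lrfl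
theorem f512282 : Led Lsl_ct (LP (LK LD1_c3 LD2_c24 LD3_c45)) = (LP (LK LD1_c3 LD2_c30 LD3_c36)) :=
  Lgr Lrot176 (Lpe (K34.f91000 IH) (Lpe (f91530 IH) (Lpr_df (K33.f472975 IH) (Lpe (K29.f16045 IH) (Lpe (K2.f15301 IH) (Lpr_cf (K29.f457441 IH) (Lpe (K61.f129748 IH) (Lpe (K28.f458366 IH) (Lpe (K28.f458369 IH) (Lpe (K28.f458370 IH) (Lpe (K28.f473065 IH) (Lpe (K28.f15471 IH) (Lpe (K33.f15297 IH) (Lpr_cf (K33.f512278 IH) (Lpe (K33.f468338 IH) (Lpn (LP (LK LD1_c3 LD2_c30 LD3_c36))))))))))))))))))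
theorem f564323 : Led Lsl_gf (LP (LK LD1_c6 LD2_c51 LD3_c58)) = (LP (LK LD1_c13 LD2_c3 LD3_c16)) :=
  Lgr Lrot124 (Lpe (K41.f488207 IH) (Lpr_ct (f512282 IH) (Lpr_gt (K61.f512620 IH) (Lpr_cf (K28.f464258 IH) (Lpe (f464268 IH) (Lpr_gt (K28.f463600 IH) (Lpr_ct (K37.f490096 IH) (Lpr_gt (K41.f564313 IH) (Lpe (K7.f94466 IH) (Lpe (K55.f116608 IH) (Lpn (LP (LK LD1_c13 LD2_c3 LD3_c16)))))))))))))
theorem f97868 : Led Lsl_et (LP (LK LD1_c3 LD2_c50 LD3_c48)) = (LP (LK LD1_c7 LD2_c42 LD3_c42)) :=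
  Lre_e IH (LK LD1_c3 LD2_c50 LD3_c48) (LK LD1_c7 LD2_c42 LD3_c42) Lrfl Lrfl
theorem f621555 : Led Lsl_ef (LP (LK LD1_c13 LD2_c45 LD3_c47)) = (LP (LK LD1_c13 LD2_c11 LD3_c24)) :=
  Lgr Lrot114 (Lpe (K61.f487796 IH) (Lpe (f97868 IH) (Lpe (K5.f127253 IH) (Lpr_gt (K28.f142474 IH) (Lpe (K36.f116581 IH) (Lpr_et (K7.f116573 IH) (Lpe (f564323 IH) (Lpr_dt (K34.f91094 IH) (Lpr_gt (f91098 IH) (Lpr_df (f621550 IH) (Lpn (LP (LK LD1_c13 LD2_c11 LD3_c24)))))))))))))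
theorem f621561 : Led Lsl_et (LP (LK LD1_c13 LD2_c45 LD3_c47)) = (LP (LK LD1_c13 LD2_c11 LD3_c24)) :=
  Lgr Lrot87 (Lpr_ef (f621555 IH) (Lpn (LP (LK LD1_c13 LD2_c11 LD3_c24))))
theorem f467112 : Led Lsl_dt (LP (LK LD1_c13 LD2_c45 LD3_c47)) = (LP (LK LD1_c23 LD2_c12 LD3_c58)) :=
  Lre_d IH (LK LD1_c13 LD2_c45 LD3_c47) (LK LD1_c23 LD2_c12 LD3_c58) Lrfl Lrfl
theorem f456673 : Led Lsl_bt (LP (LK LD1_c13 LD2_c45 LD3_c53)) = (LP (LK LD1_c7 LD2_c16 LD3_c25)) :=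
  Lre_b IH (LK LD1_c13 LD2_c45 LD3_c53) (LK LD1_c7 LD2_c16 LD3_c25) Lrfl Lrfl
theorem f872217 : Led Lsl_df (LP (LK LD1_c13 LD2_c45 LD3_c53)) = v34693 :=
  Lgr Lrot12 (Lpr_bt (f456673 IH) (Lpr_dt (K61.f686453 IH) (Lpr_bt (f872214 IH) (Lpn v34693))))
theorem f872221 : Led Lsl_gf (LP (LK LD1_c23 LD2_c12 LD3_c58)) = (LP (LK LD1_c13 LD2_c45 LD3_c53)) :=
  Lgr Lrot145 (Lpe (f467112 IH) (Lpr_et (f621561 IH) (Lpr_gt (f473903 IH) (Lpe (K43.f473898 IH) (Lpr_gt (K43.f473901 IH) (Lpe (K41.f513184 IH) (Lpe (K43.f575200 IH) (Lpr_gt (K55.f575272 IH) (Lpr_ef (f872218 IH) (Lpe (f872217 IH) (Lpn (LP (LK LD1_c13 LD2_c45 LD3_c53)))))))))))))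
theorem f872222 : Led Lsl_gt (LP (LK LD1_c13 LD2_c45 LD3_c53)) = (LP (LK LD1_c23 LD2_c12 LD3_c58)) :=
  Leop (Lpr_gf (f872221 IH) (Lpn (LP (LK LD1_c13 LD2_c45 LD3_c53))))
theorem seed_2018 : LEOK LG_g (LK LD1_c13 LD2_c45 LD3_c53) :=
  Leoe_g (LK LD1_c13 LD2_c45 LD3_c53) (f872222 IH)
def v34695 : LQ := Led Lsl_bt K49.v11922
theorem f872238 : Led Lsl_bt K49.v11922 = v34695 :=
  Lrfl
theorem f473556 : Led Lsl_et (LP (LK LD1_c1 LD2_c52 LD3_c56)) = (LP (LK LD1_c3 LD2_c52 LD3_c35)) :=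
  Lre_e IH (LK LD1_c1 LD2_c52 LD3_c56) (LK LD1_c3 LD2_c52 LD3_c35) Lrfl Lrfl
theorem f661956 : Led Lsl_ft (LP (LK LD1_c7 LD2_c30 LD3_c55)) = K48.v7194 :=
  Lgr Lrot86 (Lpe (K48.f525826 IH) (Lpr_ff (K41.f473679 IH) (Lpe (f473556 IH) (Lpe (K29.f473553 IH) (Lpr_ef (K48.f661953 IH) (Lpn K48.v7194))))))
theorem f661959 : Led Lsl_ff (LP (LK LD1_c7 LD2_c30 LD3_c55)) = K48.v7194 :=
  Lgr Lrot3 (Lpr_ft (f661956 IH) (Lpn K48.v7194))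
def v6696 : LQ := Led Lsl_et (LP (LK LD1_c3 LD2_c26 LD3_c14))
theorem f657854 : Led Lsl_et (LP (LK LD1_c3 LD2_c26 LD3_c14)) = v6696 :=
  Lrfl
theorem f661954 : Led Lsl_ct v6696 = K48.v7194 :=
  Lgr Lrot15 (Lpe (f657854 IH) (Lpe (K29.f472219 IH) (Lpr_ef (K48.f661953 IH) (Lpn K48.v7194))))
theorem f686517 : Led Lsl_ff v6696 = K49.v11922 :=
  Lgr Lrot23 (Lpr_ct (f661954 IH) (Lpe (f661959 IH) (Lpr_ct (K49.f686514 IH) (Lpn K49.v11922))))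
theorem f686547 : Led Lsl_ft v6696 = K49.v11922 :=
  Lgr Lrot48 (Lpr_ff (f686517 IH) (Lpn K49.v11922))
def v20324 : LQ := Led Lsl_et (LP (LK LD1_c6 LD2_c54 LD3_c24))
theorem f786330 : Led Lsl_et (LP (LK LD1_c6 LD2_c54 LD3_c24)) = v20324 :=
  Lrfl
theorem f657856 : Led Lsl_ef (LP (LK LD1_c3 LD2_c26 LD3_c14)) = v6696 :=
  Lgr Lrot88 (Lpr_et (f657854 IH) (Lpn v6696))
theorem f786331 : Led Lsl_bf v6696 = v20324 :=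
  Lgr Lrot96 (Lpe (f657856 IH) (Lpr_bt (K41.f472225 IH) (Lpr_et (f786330 IH) (Lpn v20324))))
theorem f872243 : Led Lsl_ff v20324 = v34695 :=
  Lgr Lrot25 (Lpe (f786331 IH) (Lpr_ft (f686547 IH) (Lpr_bt (f872238 IH) (Lpn v34695))))
def v11916 : LQ := Led Lsl_gt K35.v3938
def v34680 : LQ := Led Lsl_bt v11916
theorem f872115 : Led Lsl_bt v11916 = v34680 :=
  Lrfl
theorem f686417 : Led Lsl_gt K35.v3938 = v11916 :=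
  Lrfl
theorem f686420 : Led Lsl_dt v6696 = v11916 :=
  Lgr Lrot56 (Lpe (f657856 IH) (Lpr_gt (K29.f15901 IH) (Lpe (K0.f15062 IH) (Lpr_dt (K0.f14639 IH) (Lpe (K2.f91754 IH) (Lpe (K2.f65859 IH) (Lpr_et (K2.f91766 IH) (Lpr_gt (K35.f491643 IH) (Lpr_dt (K35.f628001 IH) (Lpr_gt (f686417 IH) (Lpn v11916)))))))))))
theorem f872117 : Led Lsl_df v20324 = v34680 :=
  Lgr Lrot12 (Lpe (f786331 IH) (Lpr_dt (f686420 IH) (Lpr_bt (f872115 IH) (Lpn v34680))))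
theorem f872120 : Led Lsl_dt v20324 = v34680 :=
  Lgr Lrot42 (Lpr_df (f872117 IH) (Lpn v34680))
theorem f475425 : Led Lsl_at (LP (LK LD1_c3 LD2_c26 LD3_c14)) = (LP (LK LD1_c1 LD2_c40 LD3_c19)) :=
  Lgr Lrot67 (Lpe (K32.f15937 IH) (Lpe (K41.f475330 IH) (Lpr_bf (K34.f475423 IH) (Lpe (K34.f457831 IH) (Lpe (K34.f457792 IH) (Lpn (LP (LK LD1_c1 LD2_c40 LD3_c19))))))))
theorem f657857 : Led Lsl_at (LP (LK LD1_c3 LD2_c27 LD3_c27)) = v6696 :=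
  Lgr Lrot80 (Lpe (K34.f457798 IH) (Lpe (f475425 IH) (Lpr_ef (f657856 IH) (Lpn v6696))))
theorem f686421 : Led Lsl_af (LP (LK LD1_c6 LD2_c57 LD3_c1)) = v11916 :=
  Lgr Lrot117 (Lpr_dt (K34.f457808 IH) (Lpr_at (f657857 IH) (Lpr_dt (f686420 IH) (Lpn v11916))))
theorem f686423 : Led Lsl_ft (LP (LK LD1_c7 LD2_c18 LD3_c38)) = v11916 :=
  Lgr Lrot2 (Lpr_gt (K35.f628010 IH) (Lpe (K34.f485863 IH) (Lpr_af (f686421 IH) (Lpn v11916))))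
theorem f628012 : Led Lsl_bt (LP (LK LD1_c13 LD2_c49 LD3_c54)) = (LP (LK LD1_c7 LD2_c18 LD3_c38)) :=
  Lre_b IH (LK LD1_c13 LD2_c49 LD3_c54) (LK LD1_c7 LD2_c18 LD3_c38) Lrfl Lrfl
theorem f872118 : Led Lsl_ff (LP (LK LD1_c13 LD2_c49 LD3_c54)) = v34680 :=
  Lgr Lrot25 (Lpr_bt (f628012 IH) (Lpr_ft (f686423 IH) (Lpr_bt (f872115 IH) (Lpn v34680))))
theorem f872247 : Led Lsl_dt (LP (LK LD1_c13 LD2_c49 LD3_c54)) = v34695 :=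
  Lgr Lrot60 (Lpr_ff (f872118 IH) (Lpe (f872120 IH) (Lpr_ff (f872243 IH) (Lpn v34695))))
theorem f794439 : Led Lsl_ct v20324 = K62.v21208 :=
  Lgr Lrot15 (Lpe (f786330 IH) (Lpe (K32.f475153 IH) (Lpr_ef (K62.f794435 IH) (Lpn K62.v21208))))
theorem f872246 : Led Lsl_ct K62.v20927 = v34695 :=
  Lgr Lrot40 (Lpr_ff (K62.f794436 IH) (Lpe (f794439 IH) (Lpr_ff (f872243 IH) (Lpn v34695))))
theorem f795509 : Led Lsl_df K62.v20927 = K62.v21392 :=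
  Lgr Lrot12 (Lpe (K62.f791120 IH) (Lpe (K30.f482612 IH) (Lpr_bt (K62.f795507 IH) (Lpn K62.v21392))))
theorem f794444 : Led Lsl_dt (LP (LK LD1_c13 LD2_c52 LD3_c3)) = K62.v21208 :=
  Lgr Lrot42 (Lpr_df (K62.f794440 IH) (Lpn K62.v21208))
theorem f795511 : Led Lsl_dt K62.v20927 = K62.v21392 :=
  Lgr Lrot60 (Lpr_ff (K62.f794436 IH) (Lpe (f794444 IH) (Lpr_ff (K62.f795510 IH) (Lpn K62.v21392))))
theorem f511798 : Led Lsl_et (LP (LK LD1_c7 LD2_c19 LD3_c51)) = (LP (LK LD1_c13 LD2_c52 LD3_c1)) :=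
  Lre_e IH (LK LD1_c7 LD2_c19 LD3_c51) (LK LD1_c13 LD2_c52 LD3_c1) Lrfl Lrfl
theorem f511802 : Led Lsl_dt (LP (LK LD1_c7 LD2_c19 LD3_c51)) = (LP (LK LD1_c13 LD2_c52 LD3_c0)) :=
  Lre_d IH (LK LD1_c7 LD2_c19 LD3_c51) (LK LD1_c13 LD2_c52 LD3_c0) Lrfl Lrfl
theorem f795526 : Led Lsl_gt (LP (LK LD1_c13 LD2_c52 LD3_c0)) = K62.v21392 :=
  Lgr Lrot112 (Lpe (f511802 IH) (Lpr_et (f511798 IH) (Lpe (K62.f610442 IH) (Lpe (K34.f513218 IH) (Lpr_dt (K61.f17892 IH) (Lpr_gf (K61.f621507 IH) (Lpr_df (K43.f578023 IH) (Lpe (K43.f522654 IH) (Lpr_ef (K62.f791121 IH) (Lpr_dt (f795511 IH) (Lpn K62.v21392)))))))))))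
theorem f790424 : Led Lsl_ff (LP (LK LD1_c7 LD2_c6 LD3_c4)) = v20855 :=
  Lgr Lrot3 (Lpr_ft (f790422 IH) (Lpn v20855))
theorem f659866 : Led Lsl_ef (LP (LK LD1_c3 LD2_c35 LD3_c39)) = K47.v6995 :=
  Lgr Lrot88 (Lpr_et (K47.f659862 IH) (Lpn K47.v6995))
theorem f659873 : Led Lsl_at (LP (LK LD1_c7 LD2_c6 LD3_c4)) = K47.v6995 :=
  Lgr Lrot80 (Lpe (K61.f109501 IH) (Lpr_af (K24.f109563 IH) (Lpr_ef (f659866 IH) (Lpn K47.v6995))))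
theorem f98502 : Led Lsl_et (LP (LK LD1_c1 LD2_c43 LD3_c25)) = (LP (LK LD1_c3 LD2_c33 LD3_c22)) :=
  Lre_e IH (LK LD1_c1 LD2_c43 LD3_c25) (LK LD1_c3 LD2_c33 LD3_c22) Lrfl Lrfl
theorem f530935 : Led Lsl_dt (LP (LK LD1_c13 LD2_c52 LD3_c1)) = (LP (LK LD1_c22 LD2_c50 LD3_c2)) :=
  Lgr Lrot42 (Lpr_df (K57.f530933 IH) (Lpn (LP (LK LD1_c22 LD2_c50 LD3_c2))))
theorem f511796 : Led Lsl_et (LP (LK LD1_c13 LD2_c52 LD3_c1)) = (LP (LK LD1_c7 LD2_c19 LD3_c51)) :=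
  Lre_e IH (LK LD1_c13 LD2_c52 LD3_c1) (LK LD1_c7 LD2_c19 LD3_c51) Lrfl Lrfl
theorem f659867 : Led Lsl_gt (LP (LK LD1_c7 LD2_c19 LD3_c51)) = K47.v6995 :=
  Lgr Lrot131 (Lpe (f511796 IH) (Lpr_dt (f530935 IH) (Lpe (K47.f530925 IH) (Lpe (K47.f98505 IH) (Lpe (K41.f98503 IH) (Lpe (f98502 IH) (Lpr_dt (K44.f89717 IH) (Lpe (K8.f98500 IH) (Lpe (K8.f98484 IH) (Lpr_et (K47.f659862 IH) (Lpn K47.v6995)))))))))))
theorem f790426 : Led Lsl_gf (LP (LK LD1_c7 LD2_c19 LD3_c51)) = v20855 :=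
  Lgr Lrot47 (Lpr_gt (f659867 IH) (Lpe (f659873 IH) (Lpr_ff (f790424 IH) (Lpn v20855))))
theorem f511799 : Led Lsl_cf (LP (LK LD1_c7 LD2_c19 LD3_c51)) = (LP (LK LD1_c7 LD2_c34 LD3_c37)) :=
  Lgr Lrot39 (Lpr_et (f511798 IH) (Lpr_ct (K57.f511794 IH) (Lpr_et (K62.f460030 IH) (Lpn (LP (LK LD1_c7 LD2_c34 LD3_c37))))))
theorem f511801 : Led Lsl_at (LP (LK LD1_c3 LD2_c46 LD3_c52)) = (LP (LK LD1_c7 LD2_c34 LD3_c37)) :=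
  Lre_a IH (LK LD1_c3 LD2_c46 LD3_c52) (LK LD1_c7 LD2_c34 LD3_c37) Lrfl Lrfl
theorem f520697 : Led Lsl_bt (LP (LK LD1_c7 LD2_c34 LD3_c37)) = (LP (LK LD1_c13 LD2_c17 LD3_c57)) :=
  Lgr Lrot62 (Lpe (f511801 IH) (Lpe (K47.f511758 IH) (Lpr_af (K33.f520692 IH) (Lpe (K47.f455510 IH) (Lpe (K47.f520696 IH) (Lpn (LP (LK LD1_c13 LD2_c17 LD3_c57))))))))
theorem f659871 : Led Lsl_ct (LP (LK LD1_c7 LD2_c1 LD3_c51)) = K47.v6995 :=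
  Lgr Lrot10 (Lpr_bt (f95339 IH) (Lpr_gt (K34.f485861 IH) (Lpr_ct (K35.f481876 IH) (Lpe (K29.f485764 IH) (Lpe (K29.f455916 IH) (Lpr_bt (K46.f467635 IH) (Lpe (K62.f523215 IH) (Lpe (f520697 IH) (Lpe (f511799 IH) (Lpr_gt (f659867 IH) (Lpn K47.v6995)))))))))))
theorem f660058 : Led Lsl_ff (LP (LK LD1_c7 LD2_c19 LD3_c50)) = K47.v6995 :=
  Lgr Lrot3 (Lpr_ft (K61.f660055 IH) (Lpn K47.v6995))
theorem f686405 : Led Lsl_ct (LP (LK LD1_c7 LD2_c19 LD3_c50)) = v11914 :=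
  Lgr Lrot40 (Lpr_ff (f660058 IH) (Lpe (f659871 IH) (Lpr_ff (f686404 IH) (Lpn v11914))))
theorem f790423 : Led Lsl_af (LP (LK LD1_c7 LD2_c19 LD3_c50)) = v20855 :=
  Lgr Lrot45 (Lpr_ft (K61.f660055 IH) (Lpe (K61.f659863 IH) (Lpr_ft (f790422 IH) (Lpn v20855))))
theorem f872089 : Led Lsl_cf v20855 = v34677 :=
  Lgr Lrot1 (Lpe (f790423 IH) (Lpr_ct (f686405 IH) (Lpr_at (f872086 IH) (Lpn v34677))))
theorem f661512 : Led Lsl_ff (LP (LK LD1_c3 LD2_c39 LD3_c49)) = K62.v7141 :=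
  Lgr Lrot3 (Lpr_ft (K62.f661510 IH) (Lpn K62.v7141))
theorem f790427 : Led Lsl_gt K62.v7141 = v20855 :=
  Lgr Lrot5 (Lpe (f661512 IH) (Lpr_at (K62.f511763 IH) (Lpr_gf (f790426 IH) (Lpn v20855))))
theorem f661513 : Led Lsl_bt K34.v2495 = K62.v7141 :=
  Lgr Lrot35 (Lpe (K61.f523452 IH) (Lpe (K47.f511759 IH) (Lpr_ff (f661512 IH) (Lpn K62.v7141))))
theorem f872095 : Led Lsl_gf (LP (LK LD1_c13 LD2_c20 LD3_c7)) = v34677 :=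
  Lgr Lrot129 (Lpr_cf (K47.f659877 IH) (Lpr_bt (K47.f5572 IH) (Lpr_gt (K47.f5089 IH) (Lpe (K33.f5558 IH) (Lpr_ct (K33.f5562 IH) (Lpr_gt (K34.f457021 IH) (Lpq (K34.f522307 IH) (Lpr_cf (K34.f523450 IH) (Lpr_bt (f661513 IH) (Lpr_gt (f790427 IH) (Lpr_ct (f872092 IH) (Lpn v34677))))))))))))
theorem f659872 : Led Lsl_dt (LP (LK LD1_c13 LD2_c20 LD3_c7)) = (LP (LK LD1_c22 LD2_c36 LD3_c35)) :=
  Lre_d IH (LK LD1_c13 LD2_c20 LD3_c7) (LK LD1_c22 LD2_c36 LD3_c35) Lrfl Lrfl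
theorem f872249 : Led Lsl_gf (LP (LK LD1_c13 LD2_c49 LD3_c54)) = (LP (LK LD1_c22 LD2_c36 LD3_c35)) :=
  Lgr Lrot143 (Lpr_dt (f872247 IH) (Lpe (f872246 IH) (Lpr_df (f795509 IH) (Lpe (f795526 IH) (Lpe (f511802 IH) (Lpr_gf (f790426 IH) (Lpr_cf (f872089 IH) (Lpe (f872095 IH) (Lpr_dt (f659872 IH) (Lpn (LP (LK LD1_c22 LD2_c36 LD3_c35))))))))))))
theorem f872250 : Led Lsl_gt (LP (LK LD1_c22 LD2_c36 LD3_c35)) = (LP (LK LD1_c13 LD2_c49 LD3_c54)) :=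
  Leop (Lpr_gf (f872249 IH) (Lpn (LP (LK LD1_c22 LD2_c36 LD3_c35))))
theorem seed_2019 : LEOK LG_g (LK LD1_c22 LD2_c36 LD3_c35) :=
  Leoe_g (LK LD1_c22 LD2_c36 LD3_c35) (f872250 IH)
def v34697 : LQ := Led Lsl_bt K60.v11925
theorem f872259 : Led Lsl_bt K60.v11925 = v34697 :=
  Lrfl
theorem f477545 : Led Lsl_gt (LP (LK LD1_c7 LD2_c47 LD3_c45)) = (LP (LK LD1_c7 LD2_c0 LD3_c1)) :=
  Lgr Lrot49 (Lpe (K29.f461510 IH) (Lpr_gf (K29.f461301 IH) (Lpe (K29.f457906 IH) (Lpe (K29.f477537 IH) (Lpr_dt (K29.f467471 IH) (Lpr_gt (K29.f477543 IH) (Lpr_dt (K24.f440181 IH) (Lpr_cf (K28.f463831 IH) (Lpe (K29.f463837 IH) (Lpn (LP (LK LD1_c7 LD2_c0 LD3_c1))))))))))))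
theorem f666427 : Led Lsl_gt v6770 = K48.v7532 :=
  Lgr Lrot131 (Lpe (f658310 IH) (Lpr_dt (K29.f463833 IH) (Lpe (f477545 IH) (Lpe (K29.f461510 IH) (Lpr_gf (K29.f461301 IH) (Lpe (K24.f64981 IH) (Lpr_dt (K29.f14966 IH) (Lpe (K29.f443453 IH) (Lpe (K48.f477217 IH) (Lpr_et (K63.f666374 IH) (Lpn K48.v7532)))))))))))
theorem f666373 : Led Lsl_at K48.v6803 = K48.v7532 :=
  Lgr Lrot107 (Lpe (K61.f658567 IH) (Lpr_af (K48.f627439 IH) (Lpr_cf (K48.f666369 IH) (Lpn K48.v7532))))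
theorem f666428 : Led Lsl_gf v6770 = K48.v3810 :=
  Lgr Lrot47 (Lpr_gt (f666427 IH) (Lpe (f666373 IH) (Lpe (K48.f658572 IH) (Lpn K48.v3810))))
def v18857 : LQ := Led Lsl_et (LP (LK LD1_c6 LD2_c34 LD3_c3))
theorem f776181 : Led Lsl_et (LP (LK LD1_c6 LD2_c34 LD3_c3)) = v18857 :=
  Lrfl
theorem f776185 : Led Lsl_ef (LP (LK LD1_c6 LD2_c34 LD3_c3)) = v18857 :=
  Lgr Lrot88 (Lpr_et (f776181 IH) (Lpn v18857))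
theorem f776188 : Led Lsl_ct v6770 = v18857 :=
  Lgr Lrot15 (Lpe (f658310 IH) (Lpe (K28.f463744 IH) (Lpr_ef (f776185 IH) (Lpn v18857))))
def v20740 : LQ := Led Lsl_ct (LP (LK LD1_c7 LD2_c3 LD3_c53))
theorem f789621 : Led Lsl_ct (LP (LK LD1_c7 LD2_c3 LD3_c53)) = v20740 :=
  Lrfl

end

end K66

end

end Cfsg.Agent.Helper28.S1692
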