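import Cfsg.Agent.Lib.Helper28.S1692.Seeds66

set_option autoImplicit false
set_option maxRecDepth 100000
set_option linter.all false

namespace Cfsg.Agent.Helper28.S1692

open Cfsg.Agent.Helper28
open Cfsg.Spor.ON (Gen)

noncomputable section

namespace K67
abbrev LD1_c0 := D1.c0
abbrev LD1_c1 := D1.c1
abbrev LD1_c2 := D1.c2
abbrev LD1_c3 := D1.c3
abbrev LD1_c4 := D1.c4
abbrev LD1_c5 := D1.c5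
abbrev LD1_c6 := D1.c6
abbrev LD1_c7 := D1.c7
abbrev LD1_c8 := D1.c8
abbrev LD1_c9 := D1.c9
abbrev LD1_c10 := D1.c10
abbrev LD1_c11 := D1.c11
abbrev LD1_c12 := D1.c12
abbrev LD1_c13 := D1.c13
abbrev LD1_c14 := D1.c14
abbrev LD1_c15 := D1.c15
abbrev LD1_c16 := D1.c16
abbrev LD1_c17 := D1.c17
abbrev LD1_c18 := D1.c18
abbrev LD1_c19 := D1.c19
abbrev LD1_c20 := D1.c20
abbrev LD1_c21 := D1.c21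
abbrev LD1_c22 := D1.c22
abbrev LD1_c23 := D1.c23
abbrev LD1_c24 := D1.c24
abbrev LD1_c25 := D1.c25
abbrev LD1_c26 := D1.c26
abbrev LD1_c27 := D1.c27
abbrev LD1_c28 := D1.c28
abbrev LD1_c29 := D1.c29
abbrev LD1_c30 := D1.c30
abbrev LD1_c31 := D1.c31
abbrev LD1_c32 := D1.c32
abbrev LD2_c0 := D2.c0
abbrev LD2_c1 := D2.c1
abbrev LD2_c2 := D2.c2
abbrev LD2_c3 := D2.c3
abbrev LD2_c4 := D2.c4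
abbrev LD2_c5 := D2.c5
abbrev LD2_c6 := D2.c6
abbrev LD2_c7 := D2.c7
abbrev LD2_c8 := D2.c8
abbrev LD2_c9 := D2.c9
abbrev LD2_c10 := D2.c10
abbrev LD2_c11 := D2.c11
abbrev LD2_c12 := D2.c12
abbrev LD2_c13 := D2.c13
abbrev LD2_c14 := D2.c14
abbrev LD2_c15 := D2.c15
abbrev LD2_c16 := D2.c16
abbrev LD2_c17 := D2.c17
abbrev LD2_c18 := D2.c18
abbrev LD2_c19 := D2.c19
abbrev LD2_c20 := D2.c20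
abbrev LD2_c21 := D2.c21
abbrev LD2_c22 := D2.c22
abbrev LD2_c23 := D2.c23
abbrev LD2_c24 := D2.c24
abbrev LD2_c25 := D2.c25
abbrev LD2_c26 := D2.c26
abbrev LD2_c27 := D2.c27
abbrev LD2_c28 := D2.c28
abbrev LD2_c29 := D2.c29
abbrev LD2_c30 := D2.c30
abbrev LD2_c31 := D2.c31
abbrev LD2_c32 := D2.c32
abbrev LD2_c33 := D2.c33
abbrev LD2_c34 := D2.c34
abbrev LD2_c35 := D2.c35
abbrev LD2_c36 := D2.c36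
abbrev LD2_c37 := D2.c37
abbrev LD2_c38 := D2.c38
abbrev LD2_c39 := D2.c39
abbrev LD2_c40 := D2.c40
abbrev LD2_c41 := D2.c41
abbrev LD2_c42 := D2.c42
abbrev LD2_c43 := D2.c43
abbrev LD2_c44 := D2.c44
abbrev LD2_c45 := D2.c45
abbrev LD2_c46 := D2.c46
abbrev LD2_c47 := D2.c47
abbrev LD2_c48 := D2.c48
abbrev LD2_c49 := D2.c49
abbrev LD2_c50 := D2.c50
abbrev LD2_c51 := D2.c51
abbrev LD2_c52 := D2.c52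
abbrev LD2_c53 := D2.c53
abbrev LD2_c54 := D2.c54
abbrev LD2_c55 := D2.c55
abbrev LD2_c56 := D2.c56
abbrev LD2_c57 := D2.c57
abbrev LD2_c58 := D2.c58
abbrev LD2_c59 := D2.c59
abbrev LD3_c0 := D3.c0
abbrev LD3_c1 := D3.c1
abbrev LD3_c2 := D3.c2
abbrev LD3_c3 := D3.c3
abbrev LD3_c4 := D3.c4
abbrev LD3_c5 := D3.c5
abbrev LD3_c6 := D3.c6
abbrev LD3_c7 := D3.c7
abbrev LD3_c8 := D3.c8
abbrev LD3_c9 := D3.c9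
abbrev LD3_c10 := D3.c10
abbrev LD3_c11 := D3.c11
abbrev LD3_c12 := D3.c12
abbrev LD3_c13 := D3.c13
abbrev LD3_c14 := D3.c14
abbrev LD3_c15 := D3.c15
abbrev LD3_c16 := D3.c16
abbrev LD3_c17 := D3.c17
abbrev LD3_c18 := D3.c18
abbrev LD3_c19 := D3.c19
abbrev LD3_c20 := D3.c20
abbrev LD3_c21 := D3.c21
abbrev LD3_c22 := D3.c22
abbrev LD3_c23 := D3.c23
abbrev LD3_c24 := D3.c24
abbrev LD3_c25 := D3.c25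
abbrev LD3_c26 := D3.c26
abbrev LD3_c27 := D3.c27
abbrev LD3_c28 := D3.c28
abbrev LD3_c29 := D3.c29
abbrev LD3_c30 := D3.c30
abbrev LD3_c31 := D3.c31
abbrev LD3_c32 := D3.c32
abbrev LD3_c33 := D3.c33
abbrev LD3_c34 := D3.c34
abbrev LD3_c35 := D3.c35
abbrev LD3_c36 := D3.c36
abbrev LD3_c37 := D3.c37
abbrev LD3_c38 := D3.c38
abbrev LD3_c39 := D3.c39
abbrev LD3_c40 := D3.c40
abbrev LD3_c41 := D3.c41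
abbrev LD3_c42 := D3.c42
abbrev LD3_c43 := D3.c43
abbrev LD3_c44 := D3.c44
abbrev LD3_c45 := D3.c45
abbrev LD3_c46 := D3.c46
abbrev LD3_c47 := D3.c47
abbrev LD3_c48 := D3.c48
abbrev LD3_c49 := D3.c49
abbrev LD3_c50 := D3.c50
abbrev LD3_c51 := D3.c51
abbrev LD3_c52 := D3.c52
abbrev LD3_c53 := D3.c53
abbrev LD3_c54 := D3.c54
abbrev LD3_c55 := D3.c55
abbrev LD3_c56 := D3.c56
abbrev LD3_c57 := D3.c57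
abbrev LD3_c58 := D3.c58
abbrev LD3_c59 := D3.c59
abbrev LD3_c60 := D3.c60
abbrev LD3_c61 := D3.c61
abbrev LG_g := Gen.g
abbrev Lsl_gt : Gen × Bool := sl_gt
alias Lfl_gt := fl_gt
alias Lpr_gt := pr_gt
abbrev Lsl_gf : Gen × Bool := sl_gf
alias Lfl_gf := fl_gf
alias Lpr_gf := pr_gf
alias Lre_g := re_g
alias Leoe_g := eoe_g
abbrev LG_a := Gen.a
abbrev Lsl_at : Gen × Bool := sl_at
alias Lfl_at := fl_at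
alias Lpr_at := pr_at
abbrev Lsl_af : Gen × Bool := sl_af
alias Lfl_af := fl_af
alias Lpr_af := pr_af
alias Lre_a := re_a
alias Leoe_a := eoe_a
abbrev LG_b := Gen.b
abbrev Lsl_bt : Gen × Bool := sl_bt
alias Lfl_bt := fl_bt
alias Lpr_bt := pr_bt
abbrev Lsl_bf : Gen × Bool := sl_bf
alias Lfl_bf := fl_bf
alias Lpr_bf := pr_bf
alias Lre_b := re_b
alias Leoe_b := eoe_b
abbrev LG_c := Gen.c
abbrev Lsl_ct : Gen × Bool := sl_ct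
alias Lfl_ct := fl_ct
alias Lpr_ct := pr_ct
abbrev Lsl_cf : Gen × Bool := sl_cf
alias Lfl_cf := fl_cf
alias Lpr_cf := pr_cf
alias Lre_c := re_c
alias Leoe_c := eoe_c
abbrev LG_d := Gen.d
abbrev Lsl_dt : Gen × Bool := sl_dt
alias Lfl_dt := fl_dt
alias Lpr_dt := pr_dt
abbrev Lsl_df : Gen × Bool := sl_df
alias Lfl_df := fl_df
alias Lpr_df := pr_df
alias Lre_d := re_d
alias Leoe_d := eoe_d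
abbrev LG_e := Gen.e
abbrev Lsl_et : Gen × Bool := sl_et
alias Lfl_et := fl_et
alias Lpr_et := pr_et
abbrev Lsl_ef : Gen × Bool := sl_ef
alias Lfl_ef := fl_ef
alias Lpr_ef := pr_ef
alias Lre_e := re_e
alias Leoe_e := eoe_e
abbrev LG_f := Gen.f
abbrev Lsl_ft : Gen × Bool := sl_ft
alias Lfl_ft := fl_ft
alias Lpr_ft := pr_ft
abbrev Lsl_ff : Gen × Bool := sl_ff
alias Lfl_ff := fl_ff
alias Lpr_ff := pr_ff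
alias Lre_f := re_f
alias Leoe_f := eoe_f
abbrev LK := Pt.mk
abbrev LQ : Type := Qt rels S
abbrev LP (p : Pt) : LQ := P p
abbrev Led (l : Gen × Bool) (c : LQ) : LQ := ed l c
abbrev LEOK (x : Gen) (p : Pt) : Prop := EntryOK rels S fwd inv o plet idx x p
alias Lpe := pe
alias Lpn := pn
alias Lgr := gr
alias Lpq := pq
alias Lpqs := pqs
alias Llr := lr
alias Leop := eop
alias Lefun := efun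
alias Lecon := econ
theorem Lrfl {α : Sort _} {a : α} : a = a := rfl
alias Lrot0 := rot0
alias Lrot1 := rot1
alias Lrot2 := rot2
alias Lrot3 := rot3
alias Lrot4 := rot4
alias Lrot5 := rot5
alias Lrot6 := rot6
alias Lrot7 := rot7
alias Lrot8 := rot8
alias Lrot9 := rot9
alias Lrot11 := rot11
alias Lrot12 := rot12
alias Lrot14 := rot14
alias Lrot15 := rot15
alias Lrot16 := rot16
alias Lrot17 := rot17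
alias Lrot18 := rot18
alias Lrot19 := rot19
alias Lrot20 := rot20
alias Lrot21 := rot21
alias Lrot22 := rot22
alias Lrot23 := rot23
alias Lrot24 := rot24
alias Lrot25 := rot25
alias Lrot26 := rot26
alias Lrot27 := rot27
alias Lrot28 := rot28
alias Lrot29 := rot29
alias Lrot30 := rot30
alias Lrot31 := rot31
alias Lrot32 := rot32
alias Lrot33 := rot33
alias Lrot34 := rot34
alias Lrot35 := rot35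
alias Lrot36 := rot36
alias Lrot38 := rot38
alias Lrot39 := rot39
alias Lrot40 := rot40
alias Lrot41 := rot41
alias Lrot42 := rot42
alias Lrot43 := rot43
alias Lrot44 := rot44
alias Lrot45 := rot45
alias Lrot46 := rot46
alias Lrot47 := rot47
alias Lrot48 := rot48
alias Lrot49 := rot49
alias Lrot50 := rot50
alias Lrot51 := rot51
alias Lrot52 := rot52
alias Lrot54 := rot54
alias Lrot55 := rot55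
alias Lrot56 := rot56
alias Lrot57 := rot57
alias Lrot58 := rot58
alias Lrot59 := rot59
alias Lrot60 := rot60
alias Lrot61 := rot61
alias Lrot62 := rot62
alias Lrot63 := rot63
alias Lrot64 := rot64
alias Lrot65 := rot65
alias Lrot66 := rot66
alias Lrot67 := rot67
alias Lrot68 := rot68
alias Lrot69 := rot69
alias Lrot70 := rot70
alias Lrot71 := rot71
alias Lrot72 := rot72
alias Lrot73 := rot73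
alias Lrot74 := rot74
alias Lrot75 := rot75
alias Lrot76 := rot76
alias Lrot77 := rot77
alias Lrot78 := rot78
alias Lrot79 := rot79
alias Lrot80 := rot80
alias Lrot81 := rot81
alias Lrot82 := rot82
alias Lrot83 := rot83
alias Lrot84 := rot84
alias Lrot85 := rot85
alias Lrot86 := rot86
alias Lrot87 := rot87
alias Lrot88 := rot88
alias Lrot89 := rot89
alias Lrot90 := rot90
alias Lrot91 := rot91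
alias Lrot92 := rot92
alias Lrot93 := rot93
alias Lrot94 := rot94
alias Lrot95 := rot95
alias Lrot96 := rot96
alias Lrot97 := rot97
alias Lrot99 := rot99
alias Lrot100 := rot100
alias Lrot101 := rot101
alias Lrot103 := rot103
alias Lrot104 := rot104
alias Lrot105 := rot105
alias Lrot106 := rot106
alias Lrot107 := rot107
alias Lrot108 := rot108
alias Lrot109 := rot109
alias Lrot110 := rot110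
alias Lrot111 := rot111
alias Lrot112 := rot112
alias Lrot113 := rot113
alias Lrot114 := rot114
alias Lrot115 := rot115
alias Lrot117 := rot117
alias Lrot118 := rot118
alias Lrot119 := rot119
alias Lrot121 := rot121
alias Lrot122 := rot122
alias Lrot123 := rot123
alias Lrot124 := rot124
alias Lrot125 := rot125
alias Lrot126 := rot126
alias Lrot127 := rot127
alias Lrot128 := rot128
alias Lrot129 := rot129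
alias Lrot130 := rot130
alias Lrot131 := rot131
alias Lrot132 := rot132
alias Lrot134 := rot134
alias Lrot135 := rot135
alias Lrot136 := rot136
alias Lrot137 := rot137
alias Lrot138 := rot138
alias Lrot139 := rot139
alias Lrot141 := rot141
alias Lrot142 := rot142
alias Lrot143 := rot143
alias Lrot144 := rot144
alias Lrot145 := rot145
alias Lrot146 := rot146
alias Lrot147 := rot147
alias Lrot148 := rot148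
alias Lrot149 := rot149
alias Lrot150 := rot150
alias Lrot151 := rot151
alias Lrot152 := rot152
alias Lrot153 := rot153
alias Lrot154 := rot154
alias Lrot155 := rot155
alias Lrot156 := rot156
alias Lrot157 := rot157
alias Lrot158 := rot158
alias Lrot160 := rot160
alias Lrot162 := rot162
alias Lrot163 := rot163
alias Lrot164 := rot164
alias Lrot165 := rot165
alias Lrot166 := rot166
alias Lrot168 := rot168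
alias Lrot169 := rot169
alias Lrot170 := rot170
alias Lrot171 := rot171
alias Lrot172 := rot172
alias Lrot173 := rot173
alias Lrot175 := rot175
alias Lrot176 := rot176
alias Lrot178 := rot178
alias Lrot179 := rot179
alias Lrot180 := rot180
alias Lrot181 := rot181
alias Lrot182 := rot182
alias Lrot183 := rot183
alias Lrot185 := rot185
alias Lrot186 := rot186
alias Lrot189 := rot189
alias Lrot190 := rot190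
alias Lrot191 := rot191

section
variable (IH : IHT)
include IH

theorem f625716 : Led Lsl_df K48.v3249 = K48.v3457 :=
  Lgr Lrot38 (Lpr_dt (K48.f625714 IH) (Lpn K48.v3457))
def v3458 : LQ := Led Lsl_ct K48.v843
theorem f625720 : Led Lsl_ct K48.v843 = v3458 :=
  Lrfl
def v10763 : LQ := Led Lsl_gt v3458
theorem f681641 : Led Lsl_gt v3458 = v10763 :=
  Lrfl
def v3259 : LQ := Led Lsl_bt K33.v665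
def v10272 : LQ := Led Lsl_ct v3259
theorem f679601 : Led Lsl_ct v3259 = v10272 :=
  Lrfl
def v2064 : LQ := Led Lsl_gt (LP (LK LD1_c1 LD2_c34 LD3_c39))
def v8493 : LQ := Led Lsl_et v2064
theorem f671401 : Led Lsl_et v2064 = v8493 :=
  Lrfl
theorem f671405 : Led Lsl_ef v2064 = v8493 :=
  Lgr Lrot88 (Lpr_et (f671401 IH) (Lpn v8493))
theorem f508654 : Led Lsl_gt (LP (LK LD1_c1 LD2_c34 LD3_c39)) = v2064 :=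
  Lrfl
theorem f459599 : Led Lsl_bt K30.v206 = K34.v827 :=
  Lgr Lrot35 (Lpe (K30.f451076 IH) (Lpe (K34.f120553 IH) (Lpr_ff (K34.f459598 IH) (Lpn K34.v827))))
theorem f459649 : Led Lsl_ct K30.v206 = K29.v837 :=
  Lgr Lrot40 (Lpe (K30.f451076 IH) (Lpe (K28.f120545 IH) (Lpr_ff (K29.f459648 IH) (Lpn K29.v837))))
theorem f511958 : Led Lsl_af K29.v837 = K33.v2301 :=
  Lgr Lrot45 (Lpe (K29.f459648 IH) (Lpr_at (K29.f120543 IH) (Lpr_ft (K33.f511957 IH) (Lpn K33.v2301))))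
theorem f511962 : Led Lsl_gt K35.v2300 = K29.v837 :=
  Lgr Lrot46 (Lpe (K35.f511955 IH) (Lpr_ft (K33.f511957 IH) (Lpe (f511958 IH) (Lpn K29.v837))))
theorem f527952 : v2064 = K35.v2502 :=
  (Llr Lrot82 (Lpe (f508654 IH) (Lpr_bf (K46.f65853 IH) (Lpr_ct (K33.f65927 IH) (Lpe (K29.f65928 IH) (Lpr_cf (K34.f473824 IH) (Lpr_bt (K34.f527946 IH) (Lpe (K34.f527944 IH) (Lpe (f459599 IH) (Lpr_ct (f459649 IH) (Lpe (f511962 IH) (Lpr_cf (K35.f523639 IH) (Lpn K35.v2502))))))))))))).symm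
theorem f523629 : Led Lsl_et K34.v747 = K47.v2498 :=
  Lgr Lrot87 (Lpr_ef (K47.f523628 IH) (Lpn K47.v2498))
theorem f671407 : Led Lsl_bt K47.v2498 = v8493 :=
  Lgr Lrot119 (Lpe (f523629 IH) (Lpr_bf (K35.f523638 IH) (Lpq (f527952 IH) (Lpr_ef (f671405 IH) (Lpn v8493)))))
theorem f523630 : Led Lsl_dt K33.v665 = K47.v2498 :=
  Lgr Lrot42 (Lpr_df (K47.f523627 IH) (Lpn K47.v2498))
theorem f624867 : Led Lsl_bt K33.v665 = v3259 :=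
  Lrfl
theorem f624868 : Led Lsl_bf K33.v665 = v3259 :=
  Lgr Lrot24 (Lpr_bt (f624867 IH) (Lpn v3259))
theorem f671409 : Led Lsl_df v3259 = v8493 :=
  Lgr Lrot12 (Lpe (f624868 IH) (Lpr_dt (f523630 IH) (Lpr_bt (f671407 IH) (Lpn v8493))))
def v5951 : LQ := Led Lsl_et (LP (LK LD1_c3 LD2_c15 LD3_c26))
theorem f650199 : Led Lsl_et (LP (LK LD1_c3 LD2_c15 LD3_c26)) = v5951 :=
  Lrfl
theorem f650203 : Led Lsl_ff K34.v2055 = v5951 :=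
  Lgr Lrot72 (Lpe (K34.f508599 IH) (Lpr_ft (K3.f98638 IH) (Lpr_et (K29.f65499 IH) (Lpr_ft (K29.f65515 IH) (Lpr_et (f650199 IH) (Lpn v5951))))))
theorem f508596 : Led Lsl_af (LP (LK LD1_c1 LD2_c34 LD3_c39)) = K34.v2055 :=
  Lgr Lrot50 (Lpr_et (K46.f65851 IH) (Lpr_at (K3.f65951 IH) (Lpr_et (K34.f508595 IH) (Lpn K34.v2055))))
theorem f650207 : Led Lsl_gf (LP (LK LD1_c3 LD2_c15 LD3_c49)) = v5951 :=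
  Lgr Lrot47 (Lpr_gt (K29.f65929 IH) (Lpr_af (f508596 IH) (Lpr_ff (f650203 IH) (Lpn v5951))))
theorem f464859 : Led Lsl_ct (LP (LK LD1_c3 LD2_c15 LD3_c49)) = (LP (LK LD1_c3 LD2_c29 LD3_c28)) :=
  Lgr Lrot15 (Lpe (K29.f104111 IH) (Lpr_cf (K29.f464857 IH) (Lpe (K33.f460607 IH) (Lpn (LP (LK LD1_c3 LD2_c29 LD3_c28))))))
theorem f520699 : Led Lsl_at (LP (LK LD1_c1 LD2_c46 LD3_c49)) = (LP (LK LD1_c3 LD2_c15 LD3_c49)) :=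
  Lgr Lrot107 (Lpr_cf (K33.f511739 IH) (Lpr_af (K33.f520692 IH) (Lpe (f464859 IH) (Lpn (LP (LK LD1_c3 LD2_c15 LD3_c49))))))
theorem f523640 : Led Lsl_ff (LP (LK LD1_c1 LD2_c46 LD3_c49)) = K35.v2502 :=
  Lgr Lrot3 (Lpr_ft (K35.f523637 IH) (Lpn K35.v2502))
theorem f650208 : Led Lsl_gt K35.v2502 = v5951 :=
  Lgr Lrot5 (Lpe (f523640 IH) (Lpr_at (f520699 IH) (Lpr_gf (f650207 IH) (Lpn v5951))))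
def v6699 : LQ := Led Lsl_dt (LP (LK LD1_c3 LD2_c26 LD3_c23))
theorem f657874 : Led Lsl_dt (LP (LK LD1_c3 LD2_c26 LD3_c23)) = v6699 :=
  Lrfl
theorem f671412 : Led Lsl_gf v3259 = v6699 :=
  Lgr Lrot134 (Lpr_df (f671409 IH) (Lpe (f671405 IH) (Lpqs (f527952 IH) (Lpr_gt (f650208 IH) (Lpe (f650199 IH) (Lpe (K29.f65516 IH) (Lpe (K29.f441015 IH) (Lpe (K32.f94336 IH) (Lpr_et (K33.f94632 IH) (Lpr_gt (K33.f132068 IH) (Lpr_dt (f657874 IH) (Lpn v6699))))))))))))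
theorem f657876 : Led Lsl_df (LP (LK LD1_c3 LD2_c26 LD3_c23)) = v6699 :=
  Lgr Lrot38 (Lpr_dt (f657874 IH) (Lpn v6699))
theorem f625722 : Led Lsl_cf K48.v843 = v3458 :=
  Lgr Lrot11 (Lpr_ct (f625720 IH) (Lpn v3458))
theorem f679605 : Led Lsl_gf v3458 = v10272 :=
  Lgr Lrot104 (Lpe (f625722 IH) (Lpe (K48.f459669 IH) (Lpe (K2.f87679 IH) (Lpr_gf (K28.f466693 IH) (Lpe (K28.f5938 IH) (Lpr_gf (K33.f484331 IH) (Lpr_df (f657876 IH) (Lpe (f671412 IH) (Lpr_ct (f679601 IH) (Lpn v10272))))))))))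
def v7035 : LQ := Led Lsl_et (LP (LK LD1_c3 LD2_c37 LD3_c23))
theorem f660469 : Led Lsl_et (LP (LK LD1_c3 LD2_c37 LD3_c23)) = v7035 :=
  Lrfl
theorem f660471 : Led Lsl_ef (LP (LK LD1_c3 LD2_c37 LD3_c23)) = v7035 :=
  Lgr Lrot88 (Lpr_et (f660469 IH) (Lpn v7035))
theorem f514771 : Led Lsl_bt (LP (LK LD1_c3 LD2_c37 LD3_c23)) = (LP (LK LD1_c1 LD2_c45 LD3_c35)) :=
  Lre_b IH (LK LD1_c3 LD2_c37 LD3_c23) (LK LD1_c1 LD2_c45 LD3_c35) Lrfl Lrfl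
theorem f660473 : Led Lsl_bt K33.v2350 = v7035 :=
  Lgr Lrot119 (Lpe (K33.f514770 IH) (Lpe (f514771 IH) (Lpr_ef (f660471 IH) (Lpn v7035))))
theorem f660474 : Led Lsl_ff v3259 = v7035 :=
  Lgr Lrot25 (Lpe (f624868 IH) (Lpr_ft (K33.f519308 IH) (Lpqs (K33.f522178 IH) (Lpr_bt (f660473 IH) (Lpn v7035)))))
theorem f514773 : Led Lsl_bt (LP (LK LD1_c1 LD2_c45 LD3_c35)) = (LP (LK LD1_c3 LD2_c37 LD3_c23)) :=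
  Lre_b IH (LK LD1_c1 LD2_c45 LD3_c35) (LK LD1_c3 LD2_c37 LD3_c23) Lrfl Lrfl
theorem f660470 : Led Lsl_bf K33.v2350 = v7035 :=
  Lgr Lrot96 (Lpe (K33.f514772 IH) (Lpr_bt (f514773 IH) (Lpr_et (f660469 IH) (Lpn v7035))))
theorem f10408 : Led Lsl_bt (LP (LK LD1_c0 LD2_c48 LD3_c29)) = (LP (LK LD1_c0 LD2_c21 LD3_c48)) :=
  Lre_b IH (LK LD1_c0 LD2_c48 LD3_c29) (LK LD1_c0 LD2_c21 LD3_c48) Lrfl Lrfl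
theorem f455862 : Led Lsl_bt K24.v159 = K33.v666 :=
  Lgr Lrot35 (Lpe (K24.f450810 IH) (Lpe (f10408 IH) (Lpr_ff (K33.f455860 IH) (Lpn K33.v666))))
theorem f450797 : Led Lsl_cf (LP (LK LD1_c0 LD2_c21 LD3_c48)) = K61.v158 :=
  Lgr Lrot11 (Lpr_ct (K61.f450796 IH) (Lpn K61.v158))
theorem f490903 : Led Lsl_ct K24.v159 = K61.v992 :=
  Lgr Lrot40 (Lpe (K24.f450810 IH) (Lpr_cf (f450797 IH) (Lpr_ff (K61.f490901 IH) (Lpn K61.v992))))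
def v990 : LQ := Led Lsl_gf K61.v158
theorem f490892 : Led Lsl_gf K61.v158 = v990 :=
  Lrfl
theorem f490904 : Led Lsl_gf v990 = K61.v992 :=
  Lgr Lrot47 (Lpe (f490892 IH) (Lpr_af (K61.f450805 IH) (Lpr_ff (K61.f490901 IH) (Lpn K61.v992))))
theorem f490893 : Led Lsl_ct K24.v308 = v990 :=
  Lgr Lrot152 (Lpe (K24.f452100 IH) (Lpe (K24.f451175 IH) (Lpr_gt (K24.f145380 IH) (Lpq (K24.f455974 IH) (Lpe (K24.f450911 IH) (Lpr_gt (K24.f5939 IH) (Lpr_ct (K29.f5912 IH) (Lpe (K24.f5916 IH) (Lpr_cf (f450797 IH) (Lpr_gf (f490892 IH) (Lpn v990)))))))))))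
def v1063 : LQ := Led Lsl_ct K34.v208
theorem f491213 : Led Lsl_ct K34.v208 = v1063 :=
  Lrfl
def v3832 : LQ := Led Lsl_gt v1063
theorem f627461 : Led Lsl_gt v1063 = v3832 :=
  Lrfl
theorem f660476 : Led Lsl_cf v3832 = v7035 :=
  Lgr Lrot163 (Lpe (f627461 IH) (Lpe (f491213 IH) (Lpr_gf (K48.f491210 IH) (Lpr_bf (K48.f493758 IH) (Lpr_ct (f490893 IH) (Lpr_gf (f490904 IH) (Lpe (f490903 IH) (Lpr_bt (f455862 IH) (Lpe (K33.f514909 IH) (Lpr_bf (f660470 IH) (Lpn v7035)))))))))))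
theorem f660477 : Led Lsl_ct v3832 = v7035 :=
  Lgr Lrot59 (Lpr_cf (f660476 IH) (Lpn v7035))
theorem f679604 : Led Lsl_ff v3832 = v10272 :=
  Lgr Lrot23 (Lpr_ct (f660477 IH) (Lpe (f660474 IH) (Lpr_ct (f679601 IH) (Lpn v10272))))
theorem f681642 : Led Lsl_at v3832 = v10763 :=
  Lgr Lrot26 (Lpr_ff (f679604 IH) (Lpe (f679605 IH) (Lpr_gt (f681641 IH) (Lpn v10763))))
def v9428 : LQ := Led Lsl_gt K46.v2671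
theorem f675927 : Led Lsl_gt K46.v2671 = v9428 :=
  Lrfl
theorem f530261 : Led Lsl_et (LP (LK LD1_c3 LD2_c1 LD3_c33)) = K46.v2671 :=
  Lgr Lrot87 (Lpr_ef (K46.f530259 IH) (Lpn K46.v2671))
theorem f502858 : Led Lsl_gf (LP (LK LD1_c1 LD2_c43 LD3_c61)) = K60.v1782 :=
  Lgr Lrot143 (Lpr_dt (K60.f155067 IH) (Lpe (K11.f155062 IH) (Lpe (K61.f155072 IH) (Lpr_gf (K11.f432970 IH) (Lpe (K3.f18012 IH) (Lpe (K3.f86339 IH) (Lpe (K3.f95749 IH) (Lpr_gt (K3.f106284 IH) (Lpr_dt (K60.f502854 IH) (Lpn K60.v1782))))))))))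
def v2673 : LQ := Led Lsl_dt (LP (LK LD1_c1 LD2_c52 LD3_c12))
theorem f530264 : Led Lsl_dt (LP (LK LD1_c1 LD2_c52 LD3_c12)) = v2673 :=
  Lrfl
theorem f530267 : Led Lsl_ef K60.v1782 = v2673 :=
  Lgr Lrot73 (Lpe (K60.f502857 IH) (Lpr_et (K4.f63107 IH) (Lpr_dt (K2.f62678 IH) (Lpr_et (K29.f12321 IH) (Lpr_dt (f530264 IH) (Lpn v2673))))))
theorem f530266 : Led Lsl_df (LP (LK LD1_c1 LD2_c52 LD3_c12)) = v2673 :=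
  Lgr Lrot38 (Lpr_dt (f530264 IH) (Lpn v2673))
def v7031 : LQ := Led Lsl_dt (LP (LK LD1_c3 LD2_c37 LD3_c22))
theorem f660457 : Led Lsl_dt (LP (LK LD1_c3 LD2_c37 LD3_c22)) = v7031 :=
  Lrfl
theorem f660459 : Led Lsl_df (LP (LK LD1_c3 LD2_c37 LD3_c22)) = v7031 :=
  Lgr Lrot38 (Lpr_dt (f660457 IH) (Lpn v7031))
theorem f675930 : Led Lsl_et v7031 = v9428 :=
  Lgr Lrot122 (Lpe (f660459 IH) (Lpr_gt (K60.f519788 IH) (Lpr_df (f530266 IH) (Lpe (f530267 IH) (Lpe (f502858 IH) (Lpr_dt (K60.f155067 IH) (Lpr_gt (K11.f155063 IH) (Lpe (K4.f84965 IH) (Lpr_et (f530261 IH) (Lpr_gt (f675927 IH) (Lpn v9428)))))))))))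
theorem f660460 : Led Lsl_at (LP (LK LD1_c3 LD2_c37 LD3_c23)) = v7031 :=
  Lgr Lrot51 (Lpe (K64.f467483 IH) (Lpe (K33.f456874 IH) (Lpr_df (f660459 IH) (Lpn v7031))))
theorem f675931 : Led Lsl_af v7035 = v9428 :=
  Lgr Lrot50 (Lpe (f660471 IH) (Lpr_at (f660460 IH) (Lpr_et (f675930 IH) (Lpn v9428))))
theorem f681644 : Led Lsl_cf v9428 = v10763 :=
  Lgr Lrot1 (Lpe (f675931 IH) (Lpe (f660476 IH) (Lpr_at (f681642 IH) (Lpn v10763))))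
theorem f789627 : Led Lsl_df v9428 = K66.v20740 :=
  Lgr Lrot162 (Lpr_cf (f681644 IH) (Lpe (f681641 IH) (Lpe (f625720 IH) (Lpr_gf (K48.f625711 IH) (Lpe (f625716 IH) (Lpqs (K48.f627451 IH) (Lpe (K48.f514549 IH) (Lpr_ct (K5.f62702 IH) (Lpr_gt (K33.f62737 IH) (Lpr_ct (K66.f789621 IH) (Lpn K66.v20740)))))))))))
def v7526 : LQ := Led Lsl_dt (LP (LK LD1_c3 LD2_c50 LD3_c12))
theorem f666334 : Led Lsl_dt (LP (LK LD1_c3 LD2_c50 LD3_c12)) = v7526 :=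
  Lrfl
theorem f666337 : Led Lsl_ff K46.v2671 = v7526 :=
  Lgr Lrot19 (Lpe (K46.f530258 IH) (Lpr_ft (K7.f84941 IH) (Lpr_dt (f666334 IH) (Lpn v7526))))
theorem f666339 : Led Lsl_ft K46.v2671 = v7526 :=
  Lgr Lrot48 (Lpr_ff (f666337 IH) (Lpn v7526))
theorem f666335 : Led Lsl_af v6699 = v7526 :=
  Lgr Lrot117 (Lpe (f657876 IH) (Lpe (K29.f117336 IH) (Lpr_dt (f666334 IH) (Lpn v7526))))
theorem f675929 : Led Lsl_gf v6699 = v9428 :=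
  Lgr Lrot76 (Lpr_af (f666335 IH) (Lpe (f666339 IH) (Lpr_gt (f675927 IH) (Lpn v9428))))
def v7433 : LQ := Led Lsl_ft (LP (LK LD1_c3 LD2_c47 LD3_c20))
theorem f665496 : Led Lsl_ft (LP (LK LD1_c3 LD2_c47 LD3_c20)) = v7433 :=
  Lrfl
theorem f665498 : Led Lsl_df (LP (LK LD1_c3 LD2_c47 LD3_c21)) = v7433 :=
  Lgr Lrot78 (Lpr_ft (K4.f15102 IH) (Lpr_dt (K48.f15251 IH) (Lpr_ft (f665496 IH) (Lpn v7433))))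
theorem f665499 : Led Lsl_ff (LP (LK LD1_c3 LD2_c47 LD3_c20)) = v7433 :=
  Lgr Lrot3 (Lpr_ft (f665496 IH) (Lpn v7433))
theorem f117347 : Led Lsl_af (LP (LK LD1_c1 LD2_c52 LD3_c4)) = (LP (LK LD1_c3 LD2_c47 LD3_c20)) :=
  Lgr Lrot0 (Lpr_at (K4.f117345 IH) (Lpn (LP (LK LD1_c3 LD2_c47 LD3_c20))))
theorem f665502 : Led Lsl_gf K48.v2672 = v7433 :=
  Lgr Lrot47 (Lpe (K48.f530263 IH) (Lpr_af (f117347 IH) (Lpr_ff (f665499 IH) (Lpn v7433))))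
theorem f624804 : Led Lsl_af K34.v1054 = K48.v3249 :=
  Lgr Lrot50 (Lpe (K34.f491188 IH) (Lpr_at (K49.f459667 IH) (Lpq (K34.f493753 IH) (Lpqs (K34.f493785 IH) (Lpr_et (K48.f624803 IH) (Lpn K48.v3249))))))
theorem f627381 : Led Lsl_ct K34.v1054 = K48.v3810 :=
  Lgr Lrot15 (Lpe (K34.f491187 IH) (Lpr_cf (K49.f491184 IH) (Lpr_ef (K48.f627380 IH) (Lpn K48.v3810))))
theorem f658576 : Led Lsl_at K48.v3810 = K48.v6804 :=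
  Lgr Lrot107 (Lpe (f627381 IH) (Lpr_af (f624804 IH) (Lpqs (K48.f627451 IH) (Lpr_cf (K48.f658575 IH) (Lpn K48.v6804)))))
theorem f665490 : Led Lsl_af K48.v2672 = K63.v7432 :=
  Lgr Lrot117 (Lpr_dt (K48.f627383 IH) (Lpr_at (f658576 IH) (Lpr_dt (K63.f665489 IH) (Lpn K63.v7432))))
theorem f665493 : Led Lsl_ft (LP (LK LD1_c3 LD2_c50 LD3_c19)) = K63.v7432 :=
  Lgr Lrot101 (Lpr_af (K48.f665480 IH) (Lpe (K48.f665479 IH) (Lpr_af (f665490 IH) (Lpn K63.v7432))))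
theorem f665503 : Led Lsl_gt (LP (LK LD1_c3 LD2_c50 LD3_c19)) = v7433 :=
  Lgr Lrot5 (Lpr_ft (f665493 IH) (Lpe (f665490 IH) (Lpr_gf (f665502 IH) (Lpn v7433))))
theorem f789631 : Led Lsl_gt K66.v18857 = K66.v20740 :=
  Lgr Lrot94 (Lpe (K66.f776188 IH) (Lpr_gt (K66.f666427 IH) (Lpe (K63.f666366 IH) (Lpr_gt (f665503 IH) (Lpe (f665498 IH) (Lpe (K4.f15103 IH) (Lpr_df (f657876 IH) (Lpr_gf (f675929 IH) (Lpr_df (f789627 IH) (Lpn K66.v20740))))))))))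
theorem f872264 : Led Lsl_gt (LP (LK LD1_c13 LD2_c23 LD3_c35)) = K66.v34697 :=
  Lgr Lrot164 (Lpe (K34.f477724 IH) (Lpr_ct (K66.f789621 IH) (Lpe (f789631 IH) (Lpe (K66.f776188 IH) (Lpr_gf (K66.f666428 IH) (Lpr_bf (K48.f628023 IH) (Lpe (K48.f628024 IH) (Lpr_gf (K46.f628171 IH) (Lpr_cf (K60.f686680 IH) (Lpr_bt (K66.f872259 IH) (Lpn K66.v34697)))))))))))
theorem f116490 : Led Lsl_dt (LP (LK LD1_c13 LD2_c57 LD3_c23)) = (LP (LK LD1_c7 LD2_c22 LD3_c53)) :=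
  Lre_d IH (LK LD1_c13 LD2_c57 LD3_c23) (LK LD1_c7 LD2_c22 LD3_c53) Lrfl Lrfl
theorem f796467 : Led Lsl_at (LP (LK LD1_c22 LD2_c43 LD3_c3)) = (LP (LK LD1_c13 LD2_c57 LD3_c23)) :=
  Lgr Lrot51 (Lpe (K57.f466321 IH) (Lpr_af (K64.f796463 IH) (Lpe (f116490 IH) (Lpn (LP (LK LD1_c13 LD2_c57 LD3_c23))))))
theorem f621845 : Led Lsl_bt (LP (LK LD1_c21 LD2_c14 LD3_c22)) = (LP (LK LD1_c13 LD2_c57 LD3_c19)) :=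
  Lgr Lrot127 (Lpr_bf (K64.f544218 IH) (Lpn (LP (LK LD1_c13 LD2_c57 LD3_c19))))
theorem f796324 : Led Lsl_ff (LP (LK LD1_c22 LD2_c43 LD3_c3)) = (LP (LK LD1_c13 LD2_c57 LD3_c19)) :=
  Lgr Lrot25 (Lpe (K57.f488292 IH) (Lpr_ft (K64.f796322 IH) (Lpr_bt (f621845 IH) (Lpn (LP (LK LD1_c13 LD2_c57 LD3_c19))))))
theorem f576309 : Led Lsl_ct (LP (LK LD1_c21 LD2_c14 LD3_c22)) = (LP (LK LD1_c26 LD2_c22 LD3_c46)) :=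
  Lgr Lrot59 (Lpr_cf (K43.f576307 IH) (Lpn (LP (LK LD1_c26 LD2_c22 LD3_c46))))
theorem f480022 : Led Lsl_bt (LP (LK LD1_c14 LD2_c55 LD3_c17)) = (LP (LK LD1_c7 LD2_c54 LD3_c38)) :=
  Lre_b IH (LK LD1_c14 LD2_c55 LD3_c17) (LK LD1_c7 LD2_c54 LD3_c38) Lrfl Lrfl
theorem f470280 : Led Lsl_bt (LP (LK LD1_c7 LD2_c4 LD3_c60)) = (LP (LK LD1_c13 LD2_c25 LD3_c37)) :=
  Lre_b IH (LK LD1_c7 LD2_c4 LD3_c60) (LK LD1_c13 LD2_c25 LD3_c37) Lrfl Lrfl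
theorem f621852 : Led Lsl_gt (LP (LK LD1_c13 LD2_c25 LD3_c37)) = (LP (LK LD1_c13 LD2_c57 LD3_c19)) :=
  Lgr Lrot164 (Lpe (f470280 IH) (Lpr_ct (K42.f459014 IH) (Lpr_gf (K33.f470278 IH) (Lpe (K33.f463367 IH) (Lpe (K33.f479992 IH) (Lpe (f480022 IH) (Lpr_ct (K47.f480024 IH) (Lpr_gf (K47.f607987 IH) (Lpe (f576309 IH) (Lpr_bt (f621845 IH) (Lpn (LP (LK LD1_c13 LD2_c57 LD3_c19)))))))))))))
theorem f520366 : Led Lsl_ff (LP (LK LD1_c13 LD2_c24 LD3_c56)) = (LP (LK LD1_c13 LD2_c25 LD3_c37)) :=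
  Lgr Lrot25 (Lpr_bt (K33.f459267 IH) (Lpr_ft (K33.f520364 IH) (Lpr_bt (f470280 IH) (Lpn (LP (LK LD1_c13 LD2_c25 LD3_c37))))))
theorem f621854 : Led Lsl_gf (LP (LK LD1_c22 LD2_c43 LD3_c28)) = (LP (LK LD1_c13 LD2_c57 LD3_c19)) :=
  Lgr Lrot76 (Lpe (K33.f480418 IH) (Lpr_ff (f520366 IH) (Lpr_gt (f621852 IH) (Lpn (LP (LK LD1_c13 LD2_c57 LD3_c19))))))
theorem f796924 : Led Lsl_gt (LP (LK LD1_c22 LD2_c43 LD3_c28)) = (LP (LK LD1_c13 LD2_c57 LD3_c23)) :=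
  Lgr Lrot46 (Lpr_gf (f621854 IH) (Lpe (f796324 IH) (Lpr_at (f796467 IH) (Lpn (LP (LK LD1_c13 LD2_c57 LD3_c23))))))
theorem f607798 : Led Lsl_gf (LP (LK LD1_c14 LD2_c55 LD3_c1)) = (LP (LK LD1_c14 LD2_c49 LD3_c35)) :=
  Lgr Lrot76 (Lpe (K33.f479848 IH) (Lpr_ff (K40.f520590 IH) (Lpr_gt (K46.f607796 IH) (Lpn (LP (LK LD1_c14 LD2_c49 LD3_c35))))))
theorem f121197 : Led Lsl_dt (LP (LK LD1_c7 LD2_c51 LD3_c38)) = (LP (LK LD1_c14 LD2_c49 LD3_c34)) :=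
  Lre_d IH (LK LD1_c7 LD2_c51 LD3_c38) (LK LD1_c14 LD2_c49 LD3_c34) Lrfl Lrfl
theorem f535125 : Led Lsl_ct (LP (LK LD1_c24 LD2_c43 LD3_c28)) = (LP (LK LD1_c23 LD2_c36 LD3_c12)) :=
  Lgr Lrot59 (Lpr_cf (K64.f535119 IH) (Lpn (LP (LK LD1_c23 LD2_c36 LD3_c12))))
theorem f121121 : Led Lsl_dt (LP (LK LD1_c14 LD2_c49 LD3_c34)) = (LP (LK LD1_c7 LD2_c51 LD3_c38)) :=
  Lre_d IH (LK LD1_c14 LD2_c49 LD3_c34) (LK LD1_c7 LD2_c51 LD3_c38) Lrfl Lrfl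
theorem f535137 : Led Lsl_gf (LP (LK LD1_c14 LD2_c54 LD3_c36)) = (LP (LK LD1_c14 LD2_c49 LD3_c34)) :=
  Lgr Lrot147 (Lpr_ct (K64.f480580 IH) (Lpe (K64.f521327 IH) (Lpr_ct (f535125 IH) (Lpe (K57.f532271 IH) (Lpr_cf (K35.f532258 IH) (Lpr_gf (K35.f461109 IH) (Lpe (K35.f463145 IH) (Lpr_gf (K41.f463244 IH) (Lpe (f121121 IH) (Lpn (LP (LK LD1_c14 LD2_c49 LD3_c34))))))))))))
theorem f535139 : Led Lsl_gt (LP (LK LD1_c7 LD2_c54 LD3_c59)) = (LP (LK LD1_c14 LD2_c49 LD3_c34)) :=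
  Lgr Lrot5 (Lpr_ft (K47.f521253 IH) (Lpr_at (K47.f480565 IH) (Lpr_gf (f535137 IH) (Lpn (LP (LK LD1_c14 LD2_c49 LD3_c34))))))
theorem f472577 : Led Lsl_ef (LP (LK LD1_c13 LD2_c25 LD3_c52)) = (LP (LK LD1_c13 LD2_c25 LD3_c12)) :=
  Lgr Lrot29 (Lpr_bt (K47.f472565 IH) (Lpr_et (K34.f472574 IH) (Lpr_bt (K34.f472576 IH) (Lpn (LP (LK LD1_c13 LD2_c25 LD3_c12))))))
theorem f116488 : Led Lsl_dt (LP (LK LD1_c7 LD2_c22 LD3_c53)) = (LP (LK LD1_c13 LD2_c57 LD3_c23)) :=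
  Lre_d IH (LK LD1_c7 LD2_c22 LD3_c53) (LK LD1_c13 LD2_c57 LD3_c23) Lrfl Lrfl
theorem f796462 : Led Lsl_et (LP (LK LD1_c7 LD2_c22 LD3_c53)) = (LP (LK LD1_c13 LD2_c57 LD3_c24)) :=
  Lre_e IH (LK LD1_c7 LD2_c22 LD3_c53) (LK LD1_c13 LD2_c57 LD3_c24) Lrfl Lrfl
theorem f796928 : Led Lsl_gf (LP (LK LD1_c13 LD2_c25 LD3_c52)) = (LP (LK LD1_c13 LD2_c57 LD3_c24)) :=
  Lgr Lrot141 (Lpr_ef (f472577 IH) (Lpe (K47.f480351 IH) (Lpr_gt (f535139 IH) (Lpe (f121197 IH) (Lpr_et (K57.f489358 IH) (Lpe (f607798 IH) (Lpr_dt (K33.f480422 IH) (Lpr_gt (f796924 IH) (Lpe (f116488 IH) (Lpr_et (f796462 IH) (Lpn (LP (LK LD1_c13 LD2_c57 LD3_c24)))))))))))))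
theorem f796930 : Led Lsl_gt (LP (LK LD1_c14 LD2_c8 LD3_c52)) = (LP (LK LD1_c13 LD2_c57 LD3_c24)) :=
  Lgr Lrot5 (Lpr_ft (K64.f523370 IH) (Lpr_at (K57.f472584 IH) (Lpr_gf (f796928 IH) (Lpn (LP (LK LD1_c13 LD2_c57 LD3_c24))))))
theorem f523190 : Led Lsl_et (LP (LK LD1_c7 LD2_c29 LD3_c32)) = (LP (LK LD1_c14 LD2_c8 LD3_c52)) :=
  Lre_e IH (LK LD1_c7 LD2_c29 LD3_c32) (LK LD1_c14 LD2_c8 LD3_c52) Lrfl Lrfl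
theorem f523191 : Led Lsl_cf (LP (LK LD1_c14 LD2_c17 LD3_c4)) = (LP (LK LD1_c14 LD2_c8 LD3_c52)) :=
  Lgr Lrot39 (Lpr_et (K34.f92885 IH) (Lpr_ct (K47.f523183 IH) (Lpr_et (f523190 IH) (Lpn (LP (LK LD1_c14 LD2_c8 LD3_c52))))))
theorem f116483 : Led Lsl_et (LP (LK LD1_c1 LD2_c47 LD3_c32)) = (LP (LK LD1_c3 LD2_c41 LD3_c14)) :=
  Lre_e IH (LK LD1_c1 LD2_c47 LD3_c32) (LK LD1_c3 LD2_c41 LD3_c14) Lrfl Lrfl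
theorem f516394 : Led Lsl_gf (LP (LK LD1_c23 LD2_c29 LD3_c14)) = (LP (LK LD1_c14 LD2_c47 LD3_c2)) :=
  Lgr Lrot134 (Lpe (K64.f123839 IH) (Lpr_et (K64.f123838 IH) (Lpr_gt (K39.f116487 IH) (Lpe (f116483 IH) (Lpr_dt (K5.f116501 IH) (Lpr_gt (K5.f116530 IH) (Lpr_df (K5.f123715 IH) (Lpr_et (K33.f123726 IH) (Lpr_gt (K34.f516390 IH) (Lpr_dt (K46.f515138 IH) (Lpn (LP (LK LD1_c14 LD2_c47 LD3_c2)))))))))))))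
theorem f515557 : Led Lsl_ff (LP (LK LD1_c24 LD2_c3 LD3_c42)) = (LP (LK LD1_c14 LD2_c47 LD3_c2)) :=
  Lgr Lrot19 (Lpr_dt (K33.f515556 IH) (Lpr_ft (K33.f515550 IH) (Lpr_dt (K46.f515138 IH) (Lpn (LP (LK LD1_c14 LD2_c47 LD3_c2))))))
theorem f485013 : Led Lsl_at (LP (LK LD1_c24 LD2_c3 LD3_c42)) = (LP (LK LD1_c14 LD2_c24 LD3_c42)) :=
  Lre_a IH (LK LD1_c24 LD2_c3 LD3_c42) (LK LD1_c14 LD2_c24 LD3_c42) Lrfl Lrfl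
theorem f516396 : Led Lsl_gt (LP (LK LD1_c23 LD2_c29 LD3_c14)) = (LP (LK LD1_c14 LD2_c24 LD3_c42)) :=
  Lgr Lrot46 (Lpr_gf (f516394 IH) (Lpe (f515557 IH) (Lpr_at (f485013 IH) (Lpn (LP (LK LD1_c14 LD2_c24 LD3_c42))))))
theorem f796940 : Led Lsl_gt (LP (LK LD1_c14 LD2_c17 LD3_c4)) = (LP (LK LD1_c22 LD2_c33 LD3_c23)) :=
  Lgr Lrot94 (Lpr_cf (f523191 IH) (Lpr_gt (f796930 IH) (Lpr_dt (K64.f123839 IH) (Lpr_gt (f516396 IH) (Lpr_dt (K33.f484802 IH) (Lpe (K33.f484530 IH) (Lpe (K34.f484768 IH) (Lpe (K39.f484769 IH) (Lpe (K39.f484925 IH) (Lpn (LP (LK LD1_c22 LD2_c33 LD3_c23))))))))))))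
theorem f523374 : Led Lsl_ft (LP (LK LD1_c14 LD2_c17 LD3_c4)) = (LP (LK LD1_c22 LD2_c21 LD3_c35)) :=
  Lgr Lrot4 (Lpr_cf (f523191 IH) (Lpr_ff (K64.f523372 IH) (Lpe (K64.f523297 IH) (Lpn (LP (LK LD1_c22 LD2_c21 LD3_c35))))))
theorem f523287 : Led Lsl_at (LP (LK LD1_c22 LD2_c21 LD3_c35)) = (LP (LK LD1_c13 LD2_c23 LD3_c35)) :=
  Lgr Lrot51 (Lpe (K63.f484765 IH) (Lpr_af (K34.f523092 IH) (Lpe (K34.f477796 IH) (Lpn (LP (LK LD1_c13 LD2_c23 LD3_c35))))))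
theorem f796942 : Led Lsl_gf (LP (LK LD1_c13 LD2_c23 LD3_c35)) = (LP (LK LD1_c22 LD2_c33 LD3_c23)) :=
  Lgr Lrot76 (Lpe (f523287 IH) (Lpe (f523374 IH) (Lpr_gt (f796940 IH) (Lpn (LP (LK LD1_c22 LD2_c33 LD3_c23))))))
theorem f654760 : Led Lsl_ft (LP (LK LD1_c22 LD2_c33 LD3_c23)) = (LP (LK LD1_c14 LD2_c17 LD3_c8)) :=
  Lgr Lrot48 (Lpr_ff (K63.f654756 IH) (Lpn (LP (LK LD1_c14 LD2_c17 LD3_c8))))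
theorem f872265 : Led Lsl_at (LP (LK LD1_c14 LD2_c17 LD3_c8)) = K66.v34697 :=
  Lgr Lrot26 (Lpe (f654760 IH) (Lpe (f796942 IH) (Lpr_gt (f872264 IH) (Lpn K66.v34697))))
theorem f872268 : Led Lsl_af (LP (LK LD1_c14 LD2_c17 LD3_c8)) = K66.v34697 :=
  Lgr Lrot0 (Lpr_at (f872265 IH) (Lpn K66.v34697))
theorem f872269 : Led Lsl_dt (LP (LK LD1_c14 LD2_c24 LD3_c44)) = K66.v34697 :=
  Lgr Lrot44 (Lpr_af (K63.f654771 IH) (Lpe (K63.f523406 IH) (Lpr_af (f872268 IH) (Lpn K66.v34697))))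
theorem f654778 : Led Lsl_et (LP (LK LD1_c14 LD2_c24 LD3_c44)) = (LP (LK LD1_c24 LD2_c3 LD3_c49)) :=
  Lre_e IH (LK LD1_c14 LD2_c24 LD3_c44) (LK LD1_c24 LD2_c3 LD3_c49) Lrfl Lrfl
theorem f427243 : Led Lsl_ef (LP (LK LD1_c14 LD2_c30 LD3_c47)) = (LP (LK LD1_c11 LD2_c30 LD3_c7)) :=
  Lgr Lrot20 (Lpr_at (K8.f12310 IH) (Lpr_et (K5.f12249 IH) (Lpr_at (K56.f427235 IH) (Lpn (LP (LK LD1_c11 LD2_c30 LD3_c7))))))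
theorem f427248 : Led Lsl_et (LP (LK LD1_c14 LD2_c30 LD3_c47)) = (LP (LK LD1_c11 LD2_c30 LD3_c7)) :=
  Lgr Lrot87 (Lpr_ef (f427243 IH) (Lpn (LP (LK LD1_c11 LD2_c30 LD3_c7))))
theorem f427251 : Led Lsl_ef (LP (LK LD1_c13 LD2_c9 LD3_c0)) = (LP (LK LD1_c20 LD2_c27 LD3_c18)) :=
  Lgr Lrot29 (Lpe (K8.f136559 IH) (Lpr_et (f427248 IH) (Lpr_bt (K56.f427234 IH) (Lpn (LP (LK LD1_c20 LD2_c27 LD3_c18))))))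
theorem f427214 : Led Lsl_dt (LP (LK LD1_c20 LD2_c27 LD3_c18)) = (LP (LK LD1_c11 LD2_c30 LD3_c6)) :=
  Lre_d IH (LK LD1_c20 LD2_c27 LD3_c18) (LK LD1_c11 LD2_c30 LD3_c6) Lrfl Lrfl
theorem f712029 : Led Lsl_bt (LP (LK LD1_c7 LD2_c34 LD3_c57)) = (LP (LK LD1_c14 LD2_c17 LD3_c49)) :=
  Lre_b IH (LK LD1_c7 LD2_c34 LD3_c57) (LK LD1_c14 LD2_c17 LD3_c49) Lrfl Lrfl
theorem f807850 : K63.v22542 = (LP (LK LD1_c14 LD2_c17 LD3_c49)) :=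
  Lefun (Lecon (K63.f807772 IH) (K63.f807837 IH).symm) (f712029 IH)
theorem f665747 : Led Lsl_at (LP (LK LD1_c7 LD2_c38 LD3_c30)) = (LP (LK LD1_c14 LD2_c24 LD3_c1)) :=
  Lre_a IH (LK LD1_c7 LD2_c38 LD3_c30) (LK LD1_c14 LD2_c24 LD3_c1) Lrfl Lrfl
theorem f807579 : Led Lsl_ff (LP (LK LD1_c14 LD2_c24 LD3_c0)) = (LP (LK LD1_c11 LD2_c30 LD3_c6)) :=
  Lgr Lrot3 (Lpr_ft (K63.f807571 IH) (Lpn (LP (LK LD1_c11 LD2_c30 LD3_c6))))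
theorem f786593 : Led Lsl_bf (LP (LK LD1_c6 LD2_c55 LD3_c32)) = K63.v20363 :=
  Lgr Lrot61 (Lpr_ft (K8.f125852 IH) (Lpr_bt (K56.f136588 IH) (Lpr_ft (K63.f786592 IH) (Lpn K63.v20363))))
theorem f807565 : Led Lsl_at (LP (LK LD1_c14 LD2_c24 LD3_c0)) = K63.v20363 :=
  Lgr Lrot67 (Lpr_bf (K63.f807563 IH) (Lpe (K63.f427269 IH) (Lpr_bf (K8.f12276 IH) (Lpr_af (K8.f136589 IH) (Lpr_bf (f786593 IH) (Lpn K63.v20363))))))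
theorem f76066 : Led Lsl_et (LP (LK LD1_c6 LD2_c8 LD3_c47)) = (LP (LK LD1_c11 LD2_c59 LD3_c0)) :=
  Lre_e IH (LK LD1_c6 LD2_c8 LD3_c47) (LK LD1_c11 LD2_c59 LD3_c0) Lrfl Lrfl
theorem f712527 : Led Lsl_cf (LP (LK LD1_c6 LD2_c8 LD3_c47)) = (LP (LK LD1_c11 LD2_c25 LD3_c38)) :=
  Lgr Lrot39 (Lpr_et (f76066 IH) (Lpr_ct (K56.f712524 IH) (Lpr_et (K56.f136514 IH) (Lpn (LP (LK LD1_c11 LD2_c25 LD3_c38))))))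
theorem f427261 : Led Lsl_bt (LP (LK LD1_c5 LD2_c51 LD3_c21)) = (LP (LK LD1_c11 LD2_c30 LD3_c6)) :=
  Lre_b IH (LK LD1_c5 LD2_c51 LD3_c21) (LK LD1_c11 LD2_c30 LD3_c6) Lrfl Lrfl
theorem f741761 : Led Lsl_gf (LP (LK LD1_c14 LD2_c17 LD3_c49)) = (LP (LK LD1_c11 LD2_c30 LD3_c6)) :=
  Lgr Lrot124 (Lpe (f712029 IH) (Lpr_ct (K52.f712030 IH) (Lpr_gt (K52.f440792 IH) (Lpe (K4.f96696 IH) (Lpe (K4.f112244 IH) (Lpe (K52.f440859 IH) (Lpe (f712527 IH) (Lpr_gt (K56.f741755 IH) (Lpr_cf (K61.f427262 IH) (Lpr_bt (f427261 IH) (Lpn (LP (LK LD1_c11 LD2_c30 LD3_c6)))))))))))))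
theorem f807633 : Led Lsl_gf K63.v20363 = (LP (LK LD1_c14 LD2_c17 LD3_c49)) :=
  Lgr Lrot76 (Lpe (f807565 IH) (Lpr_ff (f807579 IH) (Lpe (f741761 IH) (Lpn (LP (LK LD1_c14 LD2_c17 LD3_c49))))))
theorem f808146 : Led Lsl_gf (LP (LK LD1_c14 LD2_c24 LD3_c1)) = K63.v20363 :=
  Lgr Lrot76 (Lpe (f665747 IH) (Lpr_ff (K63.f807770 IH) (Lpqs (f807850 IH) (Lpe (f807633 IH) (Lpn K63.v20363)))))
theorem f786594 : Led Lsl_ff (LP (LK LD1_c6 LD2_c55 LD3_c25)) = K63.v20363 :=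
  Lgr Lrot3 (Lpr_ft (K63.f786592 IH) (Lpn K63.v20363))
theorem f808147 : Led Lsl_gt (LP (LK LD1_c14 LD2_c24 LD3_c1)) = (LP (LK LD1_c11 LD2_c30 LD3_c6)) :=
  Lgr Lrot46 (Lpr_gf (f808146 IH) (Lpe (f786594 IH) (Lpr_at (K56.f427222 IH) (Lpn (LP (LK LD1_c11 LD2_c30 LD3_c6))))))
theorem f807624 : Led Lsl_dt (LP (LK LD1_c24 LD2_c2 LD3_c42)) = (LP (LK LD1_c14 LD2_c24 LD3_c1)) :=
  Lre_d IH (LK LD1_c24 LD2_c2 LD3_c42) (LK LD1_c14 LD2_c24 LD3_c1) Lrfl Lrfl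
theorem f807651 : Led Lsl_et (LP (LK LD1_c24 LD2_c2 LD3_c42)) = (LP (LK LD1_c31 LD2_c20 LD3_c32)) :=
  Lre_e IH (LK LD1_c24 LD2_c2 LD3_c42) (LK LD1_c31 LD2_c20 LD3_c32) Lrfl Lrfl
theorem f872271 : Led Lsl_gt (LP (LK LD1_c24 LD2_c3 LD3_c49)) = (LP (LK LD1_c31 LD2_c20 LD3_c32)) :=
  Lgr Lrot131 (Lpe (f654778 IH) (Lpr_dt (f872269 IH) (Lpe (f872264 IH) (Lpr_df (K34.f477736 IH) (Lpe (K34.f532659 IH) (Lpr_ef (f427251 IH) (Lpr_dt (f427214 IH) (Lpe (f808147 IH) (Lpe (f807624 IH) (Lpr_et (f807651 IH) (Lpn (LP (LK LD1_c31 LD2_c20 LD3_c32)))))))))))))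
theorem f872272 : Led Lsl_gt (LP (LK LD1_c24 LD2_c3 LD3_c49)) = (LP (LK LD1_c31 LD2_c20 LD3_c32)) :=
  Leop (Lpe (f872271 IH) (Lpn (LP (LK LD1_c24 LD2_c3 LD3_c49))))
theorem seed_2020 : LEOK LG_g (LK LD1_c24 LD2_c3 LD3_c49) :=
  Leoe_g (LK LD1_c24 LD2_c3 LD3_c49) (f872272 IH)
def v34727 : LQ := Led Lsl_bt K49.v11939
theorem f872464 : Led Lsl_bt K49.v11939 = v34727 :=
  Lrfl
theorem f872468 : Led Lsl_ef (LP (LK LD1_c13 LD2_c2 LD3_c54)) = v34727 :=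
  Lgr Lrot29 (Lpr_bt (K41.f15883 IH) (Lpr_et (K49.f686799 IH) (Lpr_bt (f872464 IH) (Lpn v34727))))
theorem f478822 : Led Lsl_bt (LP (LK LD1_c13 LD2_c36 LD3_c20)) = (LP (LK LD1_c7 LD2_c10 LD3_c54)) :=
  Lre_b IH (LK LD1_c13 LD2_c36 LD3_c20) (LK LD1_c7 LD2_c10 LD3_c54) Lrfl Lrfl
theorem f872467 : Led Lsl_df (LP (LK LD1_c13 LD2_c36 LD3_c20)) = v34727 :=
  Lgr Lrot12 (Lpr_bt (f478822 IH) (Lpr_dt (K49.f686795 IH) (Lpr_bt (f872464 IH) (Lpn v34727))))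
theorem f872471 : Led Lsl_gt (LP (LK LD1_c22 LD2_c22 LD3_c24)) = (LP (LK LD1_c13 LD2_c36 LD3_c20)) :=
  Lgr Lrot139 (Lpe (K61.f97894 IH) (Lpe (K33.f97893 IH) (Lpe (K37.f97878 IH) (Lpe (K5.f127421 IH) (Lpe (K37.f24145 IH) (Lpr_df (K40.f427065 IH) (Lpr_et (K36.f426705 IH) (Lpr_gf (K43.f575218 IH) (Lpr_ef (f872468 IH) (Lpe (f872467 IH) (Lpn (LP (LK LD1_c13 LD2_c36 LD3_c20)))))))))))))
theorem f872472 : Led Lsl_gt (LP (LK LD1_c22 LD2_c22 LD3_c24)) = (LP (LK LD1_c13 LD2_c36 LD3_c20)) :=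
  Leop (Lpe (f872471 IH) (Lpn (LP (LK LD1_c22 LD2_c22 LD3_c24))))
theorem seed_2021 : LEOK LG_g (LK LD1_c22 LD2_c22 LD3_c24) :=
  Leoe_g (LK LD1_c22 LD2_c22 LD3_c24) (f872472 IH)
def v12128 : LQ := Led Lsl_gt K63.v4017
def v35181 : LQ := Led Lsl_et v12128
theorem f874316 : Led Lsl_et v12128 = v35181 :=
  Lrfl
theorem f874319 : Led Lsl_ef v12128 = v35181 :=
  Lgr Lrot88 (Lpr_et (f874316 IH) (Lpn v35181))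
def v27375 : LQ := Led Lsl_et K48.v7480
theorem f839143 : Led Lsl_et K48.v7480 = v27375 :=
  Lrfl
theorem f839149 : Led Lsl_gf K63.v9408 = v27375 :=
  Lgr Lrot141 (Lpe (K63.f675745 IH) (Lpr_dt (K48.f666161 IH) (Lpe (K48.f666162 IH) (Lpr_df (K48.f491919 IH) (Lpr_et (K48.f63742 IH) (Lpr_gt (K24.f19076 IH) (Lpr_dt (K34.f18354 IH) (Lpr_gt (K48.f19089 IH) (Lpr_df (K48.f665916 IH) (Lpr_et (f839143 IH) (Lpn v27375)))))))))))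
def v6785 : LQ := Led Lsl_gt (LP (LK LD1_c3 LD2_c29 LD3_c56))
def v26579 : LQ := Led Lsl_ft v6785
theorem f834583 : Led Lsl_ft v6785 = v26579 :=
  Lrfl
theorem f834587 : Led Lsl_ff v6785 = v26579 :=
  Lgr Lrot3 (Lpr_ft (f834583 IH) (Lpn v26579))
def v7609 : LQ := Led Lsl_et (LP (LK LD1_c3 LD2_c52 LD3_c57))
theorem f667226 : Led Lsl_et (LP (LK LD1_c3 LD2_c52 LD3_c57)) = v7609 :=
  Lrfl
theorem f667228 : Led Lsl_ef (LP (LK LD1_c3 LD2_c52 LD3_c57)) = v7609 :=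
  Lgr Lrot88 (Lpr_et (f667226 IH) (Lpn v7609))
theorem f658462 : Led Lsl_gt (LP (LK LD1_c3 LD2_c29 LD3_c56)) = v6785 :=
  Lrfl
theorem f667230 : Led Lsl_df v6785 = v7609 :=
  Lgr Lrot168 (Lpe (f658462 IH) (Lpe (K60.f63636 IH) (Lpr_et (K34.f63635 IH) (Lpe (K1.f4467 IH) (Lpe (K1.f65002 IH) (Lpr_dt (K1.f65001 IH) (Lpe (K1.f64986 IH) (Lpe (K1.f64972 IH) (Lpe (K30.f458082 IH) (Lpr_ef (f667228 IH) (Lpn v7609)))))))))))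
theorem f667231 : Led Lsl_dt v6785 = v7609 :=
  Lgr Lrot42 (Lpr_df (f667230 IH) (Lpn v7609))
theorem f675749 : Led Lsl_ff v7609 = K63.v9408 :=
  Lgr Lrot72 (Lpe (f667228 IH) (Lpr_ft (K33.f487637 IH) (Lpr_et (K33.f443522 IH) (Lpr_ft (K48.f530110 IH) (Lpr_et (K63.f675745 IH) (Lpn K63.v9408))))))
theorem f675752 : Led Lsl_ft v7609 = K63.v9408 :=
  Lgr Lrot48 (Lpr_ff (f675749 IH) (Lpn K63.v9408))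
theorem f834590 : Led Lsl_dt K63.v9408 = v26579 :=
  Lgr Lrot60 (Lpe (f675752 IH) (Lpe (f667231 IH) (Lpr_ff (f834587 IH) (Lpn v26579))))
def v26576 : LQ := Led Lsl_at v6785
theorem f834555 : Led Lsl_at v6785 = v26576 :=
  Lrfl
def v9436 : LQ := Led Lsl_et K34.v2682
theorem f675971 : Led Lsl_et K34.v2682 = v9436 :=
  Lrfl
theorem f487623 : Led Lsl_ft (LP (LK LD1_c7 LD2_c47 LD3_c44)) = (LP (LK LD1_c7 LD2_c2 LD3_c33)) :=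
  Lgr Lrot4 (Lpr_cf (K29.f476332 IH) (Lpr_ff (K33.f487619 IH) (Lpe (K33.f443601 IH) (Lpn (LP (LK LD1_c7 LD2_c2 LD3_c33))))))
theorem f487614 : Led Lsl_af (LP (LK LD1_c7 LD2_c47 LD3_c45)) = (LP (LK LD1_c7 LD2_c2 LD3_c33)) :=
  Lgr Lrot68 (Lpe (K29.f468592 IH) (Lpr_at (K33.f487609 IH) (Lpr_ct (K33.f443519 IH) (Lpn (LP (LK LD1_c7 LD2_c2 LD3_c33))))))
theorem f487605 : Led Lsl_ft (LP (LK LD1_c7 LD2_c47 LD3_c45)) = (LP (LK LD1_c7 LD2_c2 LD3_c34)) :=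
  Lgr Lrot4 (Lpe (K29.f468590 IH) (Lpr_ff (K33.f487603 IH) (Lpe (K29.f461387 IH) (Lpn (LP (LK LD1_c7 LD2_c2 LD3_c34))))))
theorem f487752 : Led Lsl_af (LP (LK LD1_c7 LD2_c47 LD3_c44)) = (LP (LK LD1_c7 LD2_c2 LD3_c34)) :=
  Lgr Lrot45 (Lpr_ft (f487623 IH) (Lpe (f487614 IH) (Lpr_ft (f487605 IH) (Lpn (LP (LK LD1_c7 LD2_c2 LD3_c34))))))
theorem f530373 : Led Lsl_at (LP (LK LD1_c3 LD2_c52 LD3_c57)) = K34.v2682 :=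
  Lgr Lrot51 (Lpe (K29.f458088 IH) (Lpr_af (f487752 IH) (Lpr_df (K47.f530366 IH) (Lpn K34.v2682))))
theorem f675972 : Led Lsl_af v7609 = v9436 :=
  Lgr Lrot50 (Lpe (f667228 IH) (Lpr_at (f530373 IH) (Lpr_et (f675971 IH) (Lpn v9436))))
theorem f834557 : Led Lsl_df v9436 = v26576 :=
  Lgr Lrot18 (Lpe (f675972 IH) (Lpe (f667230 IH) (Lpr_at (f834555 IH) (Lpn v26576))))
theorem f530363 : Led Lsl_ct K30.v870 = K34.v2682 :=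
  Lgr Lrot8 (Lpe (K30.f490174 IH) (Lpe (K1.f62771 IH) (Lpr_gt (K1.f62791 IH) (Lpr_dt (K29.f18780 IH) (Lpe (K3.f18744 IH) (Lpe (K29.f18791 IH) (Lpr_gf (K29.f63663 IH) (Lpe (K3.f63657 IH) (Lpr_gf (K34.f530360 IH) (Lpn K34.v2682))))))))))
theorem f625799 : Led Lsl_ef K30.v870 = K49.v3472 :=
  Lgr Lrot88 (Lpr_et (K49.f625795 IH) (Lpn K49.v3472))
theorem f675974 : Led Lsl_cf K49.v3472 = v9436 :=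
  Lgr Lrot39 (Lpe (f625799 IH) (Lpr_ct (f530363 IH) (Lpr_et (f675971 IH) (Lpn v9436))))
theorem f625804 : Led Lsl_dt K63.v1055 = K49.v3472 :=
  Lgr Lrot60 (Lpr_ff (K63.f493827 IH) (Lpe (K49.f493829 IH) (Lpr_ff (K49.f625800 IH) (Lpn K49.v3472))))
def v6787 : LQ := Led Lsl_at (LP (LK LD1_c3 LD2_c29 LD3_c56))
theorem f658468 : Led Lsl_at (LP (LK LD1_c3 LD2_c29 LD3_c56)) = v6787 :=
  Lrfl
theorem f439916 : Led Lsl_et (LP (LK LD1_c7 LD2_c1 LD3_c29)) = (LP (LK LD1_c3 LD2_c29 LD3_c56)) :=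
  Lre_e IH (LK LD1_c7 LD2_c1 LD3_c29) (LK LD1_c3 LD2_c29 LD3_c56) Lrfl Lrfl
theorem f658472 : Led Lsl_ef (LP (LK LD1_c3 LD2_c51 LD3_c25)) = v6787 :=
  Lgr Lrot20 (Lpe (K52.f130616 IH) (Lpr_et (f439916 IH) (Lpr_at (f658468 IH) (Lpn v6787))))
theorem f658473 : Led Lsl_dt K46.v2063 = v6787 :=
  Lgr Lrot77 (Lpe (K46.f508647 IH) (Lpr_df (K3.f65774 IH) (Lpe (K51.f64005 IH) (Lpe (K63.f65733 IH) (Lpr_ef (f658472 IH) (Lpn v6787))))))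
theorem f834561 : Led Lsl_gt v6787 = v26576 :=
  Lgr Lrot49 (Lpe (f658473 IH) (Lpe (K46.f508651 IH) (Lpe (K46.f451069 IH) (Lpr_gt (K34.f120569 IH) (Lpr_dt (K63.f451066 IH) (Lpr_gt (K63.f491189 IH) (Lpr_dt (f625804 IH) (Lpr_cf (f675974 IH) (Lpr_df (f834557 IH) (Lpn v26576))))))))))
theorem f834591 : Led Lsl_gf v6787 = v26579 :=
  Lgr Lrot47 (Lpr_gt (f834561 IH) (Lpe (f834555 IH) (Lpr_ff (f834587 IH) (Lpn v26579))))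
theorem f115862 : Led Lsl_at (LP (LK LD1_c0 LD2_c47 LD3_c22)) = (LP (LK LD1_c1 LD2_c34 LD3_c38)) :=
  Lgr Lrot67 (Lpe (K4.f19045 IH) (Lpe (K6.f115823 IH) (Lpr_bf (K4.f115857 IH) (Lpe (K4.f65932 IH) (Lpe (K5.f23665 IH) (Lpn (LP (LK LD1_c1 LD2_c34 LD3_c38))))))))
theorem f508648 : Led Lsl_af (LP (LK LD1_c1 LD2_c41 LD3_c39)) = K46.v2063 :=
  Lgr Lrot50 (Lpr_et (K34.f63635 IH) (Lpr_at (f115862 IH) (Lpr_et (K46.f508647 IH) (Lpn K46.v2063))))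
theorem f658471 : Led Lsl_df K46.v2063 = v6787 :=
  Lgr Lrot18 (Lpe (f508648 IH) (Lpr_dt (K60.f63636 IH) (Lpr_at (f658468 IH) (Lpn v6787))))
theorem f508649 : Led Lsl_cf (LP (LK LD1_c1 LD2_c34 LD3_c39)) = K46.v2063 :=
  Lgr Lrot39 (Lpr_et (K46.f65851 IH) (Lpr_ct (K2.f23664 IH) (Lpr_et (K46.f508647 IH) (Lpn K46.v2063))))
def v2065 : LQ := Led Lsl_dt (LP (LK LD1_c1 LD2_c34 LD3_c39))
theorem f508655 : Led Lsl_dt (LP (LK LD1_c1 LD2_c34 LD3_c39)) = v2065 :=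
  Lrfl
theorem f508656 : Led Lsl_df (LP (LK LD1_c1 LD2_c34 LD3_c39)) = v2065 :=
  Lgr Lrot38 (Lpr_dt (f508655 IH) (Lpn v2065))
def v8495 : LQ := Led Lsl_gf v2065
theorem f671420 : Led Lsl_gf v2065 = v8495 :=
  Lrfl
theorem f487950 : Led Lsl_gt (LP (LK LD1_c7 LD2_c40 LD3_c4)) = (LP (LK LD1_c14 LD2_c27 LD3_c17)) :=
  Lre_g IH (LK LD1_c7 LD2_c40 LD3_c4) (LK LD1_c14 LD2_c27 LD3_c17) Lrfl Lrfl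
theorem f487954 : Led Lsl_dt (LP (LK LD1_c13 LD2_c4 LD3_c6)) = (LP (LK LD1_c14 LD2_c27 LD3_c17)) :=
  Lgr Lrot56 (Lpr_et (K34.f463425 IH) (Lpe (K28.f463453 IH) (Lpe (K4.f103786 IH) (Lpr_dt (K4.f111368 IH) (Lpr_gt (K48.f155761 IH) (Lpe (K36.f114459 IH) (Lpr_et (K65.f114462 IH) (Lpr_gt (K33.f487944 IH) (Lpr_dt (K49.f487940 IH) (Lpr_gt (f487950 IH) (Lpn (LP (LK LD1_c14 LD2_c27 LD3_c17)))))))))))))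
theorem f487963 : Led Lsl_et (LP (LK LD1_c22 LD2_c14 LD3_c26)) = (LP (LK LD1_c13 LD2_c4 LD3_c5)) :=
  Lre_e IH (LK LD1_c22 LD2_c14 LD3_c26) (LK LD1_c13 LD2_c4 LD3_c5) Lrfl Lrfl
theorem f487964 : Led Lsl_et (LP (LK LD1_c14 LD2_c27 LD3_c17)) = (LP (LK LD1_c24 LD2_c7 LD3_c59)) :=
  Lre_e IH (LK LD1_c14 LD2_c27 LD3_c17) (LK LD1_c24 LD2_c7 LD3_c59) Lrfl Lrfl
theorem f487965 : Led Lsl_df (LP (LK LD1_c22 LD2_c14 LD3_c26)) = (LP (LK LD1_c24 LD2_c7 LD3_c59)) :=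
  Lgr Lrot70 (Lpr_et (f487963 IH) (Lpr_dt (K46.f463432 IH) (Lpr_et (K46.f463440 IH) (Lpr_dt (f487954 IH) (Lpr_et (f487964 IH) (Lpn (LP (LK LD1_c24 LD2_c7 LD3_c59))))))))
theorem f487970 : Led Lsl_dt (LP (LK LD1_c22 LD2_c14 LD3_c26)) = (LP (LK LD1_c24 LD2_c7 LD3_c59)) :=
  Lgr Lrot42 (Lpr_df (f487965 IH) (Lpn (LP (LK LD1_c24 LD2_c7 LD3_c59))))
theorem f487974 : Led Lsl_bt (LP (LK LD1_c13 LD2_c4 LD3_c8)) = (LP (LK LD1_c22 LD2_c14 LD3_c26)) :=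
  Lre_b IH (LK LD1_c13 LD2_c4 LD3_c8) (LK LD1_c22 LD2_c14 LD3_c26) Lrfl Lrfl
theorem f468941 : Led Lsl_dt (LP (LK LD1_c22 LD2_c14 LD3_c31)) = (LP (LK LD1_c13 LD2_c4 LD3_c8)) :=
  Lre_d IH (LK LD1_c22 LD2_c14 LD3_c31) (LK LD1_c13 LD2_c4 LD3_c8) Lrfl Lrfl
theorem f487975 : Led Lsl_bf (LP (LK LD1_c22 LD2_c14 LD3_c31)) = (LP (LK LD1_c24 LD2_c7 LD3_c59)) :=
  Lgr Lrot93 (Lpr_dt (f468941 IH) (Lpr_bt (f487974 IH) (Lpr_dt (f487970 IH) (Lpn (LP (LK LD1_c24 LD2_c7 LD3_c59))))))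
theorem f468940 : Led Lsl_et (LP (LK LD1_c22 LD2_c14 LD3_c31)) = (LP (LK LD1_c13 LD2_c4 LD3_c10)) :=
  Lre_e IH (LK LD1_c22 LD2_c14 LD3_c31) (LK LD1_c13 LD2_c4 LD3_c10) Lrfl Lrfl
theorem f487978 : Led Lsl_bt (LP (LK LD1_c13 LD2_c4 LD3_c10)) = (LP (LK LD1_c14 LD2_c27 LD3_c17)) :=
  Lgr Lrot119 (Lpe (f468940 IH) (Lpr_bf (f487975 IH) (Lpe (f487964 IH) (Lpn (LP (LK LD1_c14 LD2_c27 LD3_c17))))))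
theorem f487982 : Led Lsl_gt (LP (LK LD1_c14 LD2_c27 LD3_c21)) = (LP (LK LD1_c7 LD2_c40 LD3_c5)) :=
  Lre_g IH (LK LD1_c14 LD2_c27 LD3_c21) (LK LD1_c7 LD2_c40 LD3_c5) Lrfl Lrfl
theorem f487983 : Led Lsl_ct (LP (LK LD1_c7 LD2_c52 LD3_c61)) = (LP (LK LD1_c14 LD2_c27 LD3_c21)) :=
  Lgr Lrot91 (Lpe (K48.f456152 IH) (Lpe (K33.f456133 IH) (Lpr_ct (K33.f456153 IH) (Lpe (K63.f456156 IH) (Lpe (K63.f484516 IH) (Lpr_bt (f487978 IH) (Lpe (f487950 IH) (Lpe (K33.f487980 IH) (Lpr_ct (K48.f487981 IH) (Lpe (f487982 IH) (Lpn (LP (LK LD1_c14 LD2_c27 LD3_c21)))))))))))))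
theorem f487990 : Led Lsl_ct (LP (LK LD1_c7 LD2_c40 LD3_c5)) = (LP (LK LD1_c3 LD2_c49 LD3_c36)) :=
  Lre_c IH (LK LD1_c7 LD2_c40 LD3_c5) (LK LD1_c3 LD2_c49 LD3_c36) Lrfl Lrfl
theorem f487991 : Led Lsl_gt (LP (LK LD1_c3 LD2_c35 LD3_c55)) = (LP (LK LD1_c3 LD2_c49 LD3_c35)) :=
  Lgr Lrot150 (Lpr_cf (K5.f91268 IH) (Lpr_gf (K29.f477161 IH) (Lpe (K33.f451197 IH) (Lpr_gt (K48.f456152 IH) (Lpr_ct (f487983 IH) (Lpr_gt (f487982 IH) (Lpr_ct (f487990 IH) (Lpe (K49.f89311 IH) (Lpe (K33.f459811 IH) (Lpn (LP (LK LD1_c3 LD2_c49 LD3_c35))))))))))))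
theorem f671421 : Led Lsl_dt K60.v7498 = v8495 :=
  Lgr Lrot136 (Lpe (K65.f666119 IH) (Lpe (f487991 IH) (Lpe (K5.f91241 IH) (Lpr_dt (K4.f91240 IH) (Lpe (K3.f17776 IH) (Lpe (K3.f17743 IH) (Lpr_gf (K2.f91232 IH) (Lpe (K46.f65851 IH) (Lpr_dt (f508655 IH) (Lpr_gf (f671420 IH) (Lpn v8495)))))))))))
def v6901 : LQ := Led Lsl_gt (LP (LK LD1_c3 LD2_c34 LD3_c12))
def v26704 : LQ := Led Lsl_et v6901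
theorem f835386 : Led Lsl_et v6901 = v26704 :=
  Lrfl
def v2415 : LQ := Led Lsl_dt (LP (LK LD1_c1 LD2_c44 LD3_c50))
def v9089 : LQ := Led Lsl_gt v2415
theorem f673480 : Led Lsl_gt v2415 = v9089 :=
  Lrfl
theorem f519569 : Led Lsl_dt (LP (LK LD1_c1 LD2_c44 LD3_c50)) = v2415 :=
  Lrfl
theorem f472717 : Led Lsl_ct (LP (LK LD1_c13 LD2_c22 LD3_c27)) = (LP (LK LD1_c7 LD2_c3 LD3_c6)) :=
  Lre_c IH (LK LD1_c13 LD2_c22 LD3_c27) (LK LD1_c7 LD2_c3 LD3_c6) Lrfl Lrfl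
theorem f467210 : Led Lsl_ct (LP (LK LD1_c7 LD2_c9 LD3_c32)) = (LP (LK LD1_c3 LD2_c34 LD3_c12)) :=
  Lre_c IH (LK LD1_c7 LD2_c9 LD3_c32) (LK LD1_c3 LD2_c34 LD3_c12) Lrfl Lrfl
theorem f659347 : Led Lsl_gt (LP (LK LD1_c3 LD2_c34 LD3_c12)) = v6901 :=
  Lrfl
theorem f665920 : Led Lsl_ct v6901 = K48.v7480 :=
  Lgr Lrot110 (Lpe (f659347 IH) (Lpe (f467210 IH) (Lpe (K34.f516600 IH) (Lpe (K34.f472347 IH) (Lpr_gt (K34.f472345 IH) (Lpr_ct (K62.f17813 IH) (Lpr_gt (K62.f472715 IH) (Lpr_ct (f472717 IH) (Lpr_df (K48.f665916 IH) (Lpn K48.v7480))))))))))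
theorem f665921 : Led Lsl_cf v6901 = K48.v7480 :=
  Lgr Lrot11 (Lpr_ct (f665920 IH) (Lpn K48.v7480))
theorem f673481 : Led Lsl_df v6901 = v9089 :=
  Lgr Lrot84 (Lpr_cf (f665921 IH) (Lpe (K48.f665918 IH) (Lpe (K48.f19089 IH) (Lpe (K34.f18354 IH) (Lpe (K24.f19076 IH) (Lpe (K24.f460730 IH) (Lpr_gt (K24.f17821 IH) (Lpr_dt (f519569 IH) (Lpr_gt (f673480 IH) (Lpn v9089))))))))))
theorem f673482 : Led Lsl_dt v6901 = v9089 :=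
  Lgr Lrot42 (Lpr_df (f673481 IH) (Lpn v9089))
def v7497 : LQ := Led Lsl_dt (LP (LK LD1_c3 LD2_c49 LD3_c35))
theorem f666105 : Led Lsl_dt (LP (LK LD1_c3 LD2_c49 LD3_c35)) = v7497 :=
  Lrfl
theorem f666110 : Led Lsl_gf K64.v7033 = v7497 :=
  Lgr Lrot134 (Lpe (K64.f660463 IH) (Lpe (K64.f660134 IH) (Lpr_gt (K24.f17821 IH) (Lpe (K4.f17793 IH) (Lpr_dt (K3.f17743 IH) (Lpr_gt (K3.f17776 IH) (Lpe (K4.f91240 IH) (Lpr_et (K5.f91241 IH) (Lpr_gt (f487991 IH) (Lpr_dt (f666105 IH) (Lpn v7497)))))))))))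
theorem f835391 : Led Lsl_gf K60.v7498 = v26704 :=
  Lgr Lrot141 (Lpe (K60.f666115 IH) (Lpr_dt (f666105 IH) (Lpe (f666110 IH) (Lpe (K64.f660463 IH) (Lpe (K64.f660134 IH) (Lpr_gt (K24.f17821 IH) (Lpr_dt (f519569 IH) (Lpr_gt (f673480 IH) (Lpe (f673482 IH) (Lpr_et (f835386 IH) (Lpn v26704)))))))))))
theorem f839150 : Led Lsl_ct v26704 = v27375 :=
  Lgr Lrot8 (Lpe (f835391 IH) (Lpr_dt (f671421 IH) (Lpe (f671420 IH) (Lpe (f508656 IH) (Lpr_cf (f508649 IH) (Lpr_df (f658471 IH) (Lpr_gf (f834591 IH) (Lpe (f834590 IH) (Lpr_gf (f839149 IH) (Lpn v27375))))))))))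
theorem f674758 : Led Lsl_bt K49.v3416 = K61.v9225 :=
  Lgr Lrot119 (Lpe (K49.f625566 IH) (Lpr_bf (K41.f527291 IH) (Lpr_ef (K61.f674754 IH) (Lpn K61.v9225))))
theorem f528919 : Led Lsl_ft (LP (LK LD1_c3 LD2_c52 LD3_c44)) = (LP (LK LD1_c3 LD2_c52 LD3_c40)) :=
  Lgr Lrot4 (Lpe (K32.f473300 IH) (Lpr_ff (K35.f528913 IH) (Lpe (K29.f473440 IH) (Lpn (LP (LK LD1_c3 LD2_c52 LD3_c40))))))
theorem f528911 : Led Lsl_af (LP (LK LD1_c3 LD2_c52 LD3_c44)) = (LP (LK LD1_c3 LD2_c52 LD3_c39)) :=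
  Lgr Lrot68 (Lpe (K29.f473302 IH) (Lpr_at (K35.f528901 IH) (Lpe (K35.f483804 IH) (Lpn (LP (LK LD1_c3 LD2_c52 LD3_c39))))))
theorem f529081 : Led Lsl_ft (LP (LK LD1_c3 LD2_c52 LD3_c43)) = (LP (LK LD1_c3 LD2_c52 LD3_c39)) :=
  Lgr Lrot101 (Lpr_af (K35.f529069 IH) (Lpe (f528919 IH) (Lpr_af (f528911 IH) (Lpn (LP (LK LD1_c3 LD2_c52 LD3_c39))))))
theorem f480542 : Led Lsl_ef (LP (LK LD1_c3 LD2_c52 LD3_c43)) = (LP (LK LD1_c1 LD2_c54 LD3_c17)) :=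
  Lgr Lrot88 (Lpr_et (K33.f479823 IH) (Lpn (LP (LK LD1_c1 LD2_c54 LD3_c17))))
def v7427 : LQ := Led Lsl_et (LP (LK LD1_c3 LD2_c47 LD3_c8))
theorem f665435 : Led Lsl_et (LP (LK LD1_c3 LD2_c47 LD3_c8)) = v7427 :=
  Lrfl
theorem f665437 : Led Lsl_ef (LP (LK LD1_c3 LD2_c47 LD3_c8)) = v7427 :=
  Lgr Lrot88 (Lpr_et (f665435 IH) (Lpn v7427))
theorem f667206 : Led Lsl_ff v7427 = K61.v7604 :=
  Lgr Lrot72 (Lpe (f665437 IH) (Lpe (K49.f528731 IH) (Lpe (f480542 IH) (Lpr_ft (f529081 IH) (Lpr_et (K61.f667203 IH) (Lpn K61.v7604))))))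
theorem f485441 : Led Lsl_cf (LP (LK LD1_c3 LD2_c55 LD3_c43)) = (LP (LK LD1_c3 LD2_c47 LD3_c8)) :=
  Lgr Lrot11 (Lpr_ct (K33.f485437 IH) (Lpn (LP (LK LD1_c3 LD2_c47 LD3_c8))))
theorem f485443 : Led Lsl_bt (LP (LK LD1_c1 LD2_c54 LD3_c1)) = (LP (LK LD1_c3 LD2_c47 LD3_c8)) :=
  Lgr Lrot128 (Lpe (K33.f123380 IH) (Lpr_bf (K33.f485132 IH) (Lpe (K33.f485352 IH) (Lpe (K33.f485354 IH) (Lpr_cf (f485441 IH) (Lpn (LP (LK LD1_c3 LD2_c47 LD3_c8))))))))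
theorem f665436 : Led Lsl_bf K49.v2727 = v7427 :=
  Lgr Lrot96 (Lpe (K49.f531624 IH) (Lpr_bt (f485443 IH) (Lpr_et (f665435 IH) (Lpn v7427))))
theorem f535542 : Led Lsl_ft K49.v2727 = K49.v2774 :=
  Lgr Lrot48 (Lpr_ff (K49.f535539 IH) (Lpn K49.v2774))
theorem f667207 : Led Lsl_bt K49.v2774 = K61.v7604 :=
  Lgr Lrot35 (Lpe (f535542 IH) (Lpr_bf (f665436 IH) (Lpr_ff (f667206 IH) (Lpn K61.v7604))))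
def v7753 : LQ := Led Lsl_et (LP (LK LD1_c3 LD2_c56 LD3_c28))
theorem f668200 : Led Lsl_et (LP (LK LD1_c3 LD2_c56 LD3_c28)) = v7753 :=
  Lrfl
theorem f528199 : Led Lsl_ft (LP (LK LD1_c3 LD2_c54 LD3_c54)) = (LP (LK LD1_c1 LD2_c54 LD3_c18)) :=
  Lgr Lrot2 (Lpe (K33.f484553 IH) (Lpe (K33.f476761 IH) (Lpr_af (K35.f528193 IH) (Lpn (LP (LK LD1_c1 LD2_c54 LD3_c18))))))
def v7684 : LQ := Led Lsl_et (LP (LK LD1_c3 LD2_c54 LD3_c54))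
theorem f667727 : Led Lsl_et (LP (LK LD1_c3 LD2_c54 LD3_c54)) = v7684 :=
  Lrfl
theorem f667730 : Led Lsl_ef (LP (LK LD1_c3 LD2_c54 LD3_c54)) = v7684 :=
  Lgr Lrot88 (Lpr_et (f667727 IH) (Lpn v7684))
theorem f668204 : Led Lsl_ff v7684 = v7753 :=
  Lgr Lrot72 (Lpe (f667730 IH) (Lpr_ft (f528199 IH) (Lpr_et (K46.f479818 IH) (Lpr_ft (K35.f528859 IH) (Lpr_et (f668200 IH) (Lpn v7753))))))
theorem f667729 : Led Lsl_cf K49.v2727 = v7684 :=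
  Lgr Lrot39 (Lpe (K49.f531624 IH) (Lpr_ct (K35.f437629 IH) (Lpr_et (f667727 IH) (Lpn v7684))))
theorem f668207 : Led Lsl_ct K49.v2774 = v7753 :=
  Lgr Lrot40 (Lpe (f535542 IH) (Lpr_cf (f667729 IH) (Lpr_ff (f668204 IH) (Lpn v7753))))
theorem f528210 : Led Lsl_at (LP (LK LD1_c1 LD2_c54 LD3_c16)) = (LP (LK LD1_c3 LD2_c54 LD3_c54)) :=
  Lgr Lrot66 (Lpr_ff (K35.f528208 IH) (Lpr_af (K35.f528193 IH) (Lpe (f528199 IH) (Lpn (LP (LK LD1_c3 LD2_c54 LD3_c54))))))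
theorem f667728 : Led Lsl_af K49.v2733 = v7684 :=
  Lgr Lrot50 (Lpe (K49.f531662 IH) (Lpr_at (f528210 IH) (Lpr_et (f667727 IH) (Lpn v7684))))
theorem f676325 : Led Lsl_gt v7753 = K49.v9504 :=
  Lgr Lrot5 (Lpe (f668204 IH) (Lpe (f667728 IH) (Lpr_gf (K49.f676324 IH) (Lpn K49.v9504))))
theorem f676368 : Led Lsl_ct K49.v9107 = K49.v9504 :=
  Lgr Lrot8 (Lpe (K49.f673602 IH) (Lpr_dt (K49.f672611 IH) (Lpe (K49.f672610 IH) (Lpe (K49.f511328 IH) (Lpe (K33.f137118 IH) (Lpe (K48.f137147 IH) (Lpr_gf (K49.f676367 IH) (Lpe (K49.f676365 IH) (Lpr_gf (K49.f676324 IH) (Lpn K49.v9504))))))))))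
theorem f835392 : Led Lsl_bt K49.v9107 = v26704 :=
  Lgr Lrot130 (Lpr_ct (f676368 IH) (Lpe (f676325 IH) (Lpe (f668207 IH) (Lpr_bt (f667207 IH) (Lpr_gf (K61.f674755 IH) (Lpe (f674758 IH) (Lpr_ct (K65.f675781 IH) (Lpe (K65.f675780 IH) (Lpr_cf (K60.f666118 IH) (Lpr_gf (f835391 IH) (Lpn v26704)))))))))))
theorem f682472 : Led Lsl_dt K61.v9171 = K49.v9107 :=
  Lgr Lrot6 (Lpe (K61.f673872 IH) (Lpr_ct (K61.f673873 IH) (Lpr_gt (K61.f682471 IH) (Lpe (K61.f682469 IH) (Lpe (K61.f626192 IH) (Lpr_cf (K61.f535547 IH) (Lpr_gf (K61.f660440 IH) (Lpe (K49.f660428 IH) (Lpr_gf (K49.f673602 IH) (Lpn K49.v9107))))))))))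
def v3410 : LQ := Led Lsl_ct K49.v813
theorem f625540 : Led Lsl_ct K49.v813 = v3410 :=
  Lrfl
def v3408 : LQ := Led Lsl_ct K49.v811
def v10615 : LQ := Led Lsl_gf v3408
theorem f681135 : Led Lsl_gf v3408 = v10615 :=
  Lrfl
def v10556 : LQ := Led Lsl_ct K62.v3384
theorem f680884 : Led Lsl_ct K62.v3384 = v10556 :=
  Lrfl
theorem f625422 : Led Lsl_df K62.v795 = K62.v3384 :=
  Lgr Lrot38 (Lpr_dt (K62.f625420 IH) (Lpn K62.v3384))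
theorem f625425 : Led Lsl_at K49.v811 = K62.v3384 :=
  Lgr Lrot51 (Lpe (K49.f459516 IH) (Lpr_af (K34.f459507 IH) (Lpq (K64.f529172 IH) (Lpr_df (f625422 IH) (Lpn K62.v3384)))))
theorem f625536 : Led Lsl_ct K49.v811 = v3408 :=
  Lrfl
theorem f625537 : Led Lsl_cf K49.v811 = v3408 :=
  Lgr Lrot11 (Lpr_ct (f625536 IH) (Lpn v3408))
theorem f680885 : Led Lsl_af v3408 = v10556 :=
  Lgr Lrot68 (Lpe (f625537 IH) (Lpr_at (f625425 IH) (Lpr_ct (f680884 IH) (Lpn v10556))))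
theorem f625423 : Led Lsl_ff K49.v813 = K62.v3384 :=
  Lgr Lrot19 (Lpe (K49.f459527 IH) (Lpr_ft (K34.f459510 IH) (Lpq (K64.f529172 IH) (Lpr_dt (K62.f625420 IH) (Lpn K62.v3384)))))
theorem f625424 : Led Lsl_ft K49.v813 = K62.v3384 :=
  Lgr Lrot48 (Lpr_ff (f625423 IH) (Lpn K62.v3384))
theorem f625541 : Led Lsl_cf K49.v813 = v3410 :=
  Lgr Lrot11 (Lpr_ct (f625540 IH) (Lpn v3410))
theorem f680887 : Led Lsl_ff v3410 = v10556 :=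
  Lgr Lrot23 (Lpe (f625541 IH) (Lpr_ft (f625424 IH) (Lpr_ct (f680884 IH) (Lpn v10556))))
theorem f680888 : Led Lsl_ft v3410 = v10556 :=
  Lgr Lrot48 (Lpr_ff (f680887 IH) (Lpn v10556))
theorem f681136 : Led Lsl_gt v3410 = v10615 :=
  Lgr Lrot5 (Lpr_ft (f680888 IH) (Lpe (f680885 IH) (Lpr_gf (f681135 IH) (Lpn v10615))))
theorem f682474 : Led Lsl_cf K61.v9171 = v10615 :=
  Lgr Lrot99 (Lpr_df (K61.f682473 IH) (Lpr_cf (K49.f676369 IH) (Lpe (f676325 IH) (Lpe (f668207 IH) (Lpe (K49.f535540 IH) (Lpr_df (K62.f625532 IH) (Lpe (K49.f625530 IH) (Lpr_ct (f625540 IH) (Lpr_gt (f681136 IH) (Lpn v10615))))))))))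
theorem f682475 : Led Lsl_ct K61.v9171 = v10615 :=
  Lgr Lrot59 (Lpr_cf (f682474 IH) (Lpn v10615))
def v2583 : LQ := Led Lsl_dt (LP (LK LD1_c1 LD2_c49 LD3_c13))
theorem f527607 : Led Lsl_dt (LP (LK LD1_c1 LD2_c49 LD3_c13)) = v2583 :=
  Lrfl
theorem f527609 : Led Lsl_df (LP (LK LD1_c1 LD2_c49 LD3_c13)) = v2583 :=
  Lgr Lrot38 (Lpr_dt (f527607 IH) (Lpn v2583))
theorem f527610 : Led Lsl_bt K49.v811 = v2583 :=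
  Lgr Lrot95 (Lpe (K49.f459516 IH) (Lpe (K33.f12863 IH) (Lpr_df (f527609 IH) (Lpn v2583))))
def v9296 : LQ := Led Lsl_gt v2583
theorem f675272 : Led Lsl_gt v2583 = v9296 :=
  Lrfl
def v3361 : LQ := Led Lsl_ct K61.v748
def v10500 : LQ := Led Lsl_gt v3361
theorem f680614 : Led Lsl_gt v3361 = v10500 :=
  Lrfl
theorem f625310 : Led Lsl_ct K61.v748 = v3361 :=
  Lrfl
theorem f109114 : Led Lsl_gt (LP (LK LD1_c0 LD2_c22 LD3_c20)) = (LP (LK LD1_c0 LD2_c23 LD3_c30)) :=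
  Lgr Lrot49 (Lpe (K5.f388 IH) (Lpe (K3.f98009 IH) (Lpr_cf (K3.f88482 IH) (Lpr_gt (K3.f96765 IH) (Lpr_dt (K3.f10805 IH) (Lpr_gt (K3.f98083 IH) (Lpr_dt (K3.f94422 IH) (Lpr_cf (K3.f109106 IH) (Lpe (K3.f5785 IH) (Lpn (LP (LK LD1_c0 LD2_c23 LD3_c30))))))))))))
theorem f675274 : Led Lsl_dt K49.v2704 = v9296 :=
  Lgr Lrot56 (Lpe (K49.f530485 IH) (Lpr_gt (K29.f470912 IH) (Lpe (K3.f97324 IH) (Lpr_dt (K5.f388 IH) (Lpr_gt (f109114 IH) (Lpe (K7.f5791 IH) (Lpr_et (K49.f120570 IH) (Lpe (K33.f511466 IH) (Lpr_dt (f527607 IH) (Lpr_gt (f675272 IH) (Lpn v9296)))))))))))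
theorem f530486 : Led Lsl_bt K49.v875 = K49.v2704 :=
  Lgr Lrot119 (Lpe (K49.f490195 IH) (Lpe (K28.f446569 IH) (Lpr_ef (K49.f530485 IH) (Lpn K49.v2704))))
theorem f625826 : Led Lsl_df K49.v875 = K49.v3478 :=
  Lgr Lrot38 (Lpr_dt (K49.f625824 IH) (Lpn K49.v3478))
theorem f675275 : Led Lsl_bf K49.v3478 = v9296 :=
  Lgr Lrot93 (Lpe (f625826 IH) (Lpr_bt (f530486 IH) (Lpr_dt (f675274 IH) (Lpn v9296))))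
theorem f680617 : Led Lsl_ct v9296 = v10500 :=
  Lgr Lrot63 (Lpe (f675275 IH) (Lpe (K63.f625828 IH) (Lpe (K63.f493536 IH) (Lpr_ct (K61.f493815 IH) (Lpr_gt (K61.f627198 IH) (Lpe (K61.f627194 IH) (Lpr_bt (K61.f625309 IH) (Lpe (K61.f625304 IH) (Lpr_ct (f625310 IH) (Lpr_gt (f680614 IH) (Lpn v10500)))))))))))
def v3355 : LQ := Led Lsl_dt K34.v743
def v10490 : LQ := Led Lsl_ct v3355
theorem f680546 : Led Lsl_ct v3355 = v10490 :=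
  Lrfl
theorem f625267 : Led Lsl_dt K34.v743 = v3355 :=
  Lrfl
theorem f625271 : Led Lsl_ff K61.v748 = v3355 :=
  Lgr Lrot19 (Lpe (K61.f457065 IH) (Lpr_ft (K34.f457067 IH) (Lpq (K34.f522306 IH) (Lpr_dt (f625267 IH) (Lpn v3355)))))
theorem f625273 : Led Lsl_ft K61.v748 = v3355 :=
  Lgr Lrot48 (Lpr_ff (f625271 IH) (Lpn v3355))
theorem f625311 : Led Lsl_cf K61.v748 = v3361 :=
  Lgr Lrot11 (Lpr_ct (f625310 IH) (Lpn v3361))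
theorem f680550 : Led Lsl_ff v3361 = v10490 :=
  Lgr Lrot23 (Lpe (f625311 IH) (Lpr_ft (f625273 IH) (Lpr_ct (f680546 IH) (Lpn v10490))))
theorem f680552 : Led Lsl_ft v3361 = v10490 :=
  Lgr Lrot48 (Lpr_ff (f680550 IH) (Lpn v10490))
def v3354 : LQ := Led Lsl_dt K34.v742
theorem f625261 : Led Lsl_dt K34.v742 = v3354 :=
  Lrfl
theorem f625263 : Led Lsl_df K34.v742 = v3354 :=
  Lgr Lrot38 (Lpr_dt (f625261 IH) (Lpn v3354))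
theorem f625266 : Led Lsl_at K61.v748 = v3354 :=
  Lgr Lrot51 (Lpe (K61.f457064 IH) (Lpr_af (K34.f457056 IH) (Lpqs (K34.f522307 IH) (Lpr_df (f625263 IH) (Lpn v3354)))))
def v750 : LQ := Led Lsl_dt (LP (LK LD1_c0 LD2_c50 LD3_c8))
theorem f457071 : Led Lsl_dt (LP (LK LD1_c0 LD2_c50 LD3_c8)) = v750 :=
  Lrfl
theorem f457072 : Led Lsl_df (LP (LK LD1_c0 LD2_c50 LD3_c8)) = v750 :=
  Lgr Lrot38 (Lpr_dt (f457071 IH) (Lpn v750))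
theorem f625264 : Led Lsl_ff v750 = v3354 :=
  Lgr Lrot19 (Lpe (f457072 IH) (Lpr_ft (K35.f457059 IH) (Lpqs (K34.f522307 IH) (Lpr_dt (f625261 IH) (Lpn v3354)))))
theorem f625272 : Led Lsl_at v750 = v3355 :=
  Lgr Lrot66 (Lpr_ff (f625264 IH) (Lpe (f625266 IH) (Lpr_ff (f625271 IH) (Lpn v3355))))
def v3363 : LQ := Led Lsl_ct v750
theorem f625314 : Led Lsl_ct v750 = v3363 :=
  Lrfl
theorem f625315 : Led Lsl_cf v750 = v3363 :=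
  Lgr Lrot11 (Lpr_ct (f625314 IH) (Lpn v3363))
theorem f680547 : Led Lsl_af v3363 = v10490 :=
  Lgr Lrot68 (Lpe (f625315 IH) (Lpr_at (f625272 IH) (Lpr_ct (f680546 IH) (Lpn v10490))))
theorem f680615 : Led Lsl_gf v3363 = v10500 :=
  Lgr Lrot76 (Lpr_af (f680547 IH) (Lpe (f680552 IH) (Lpr_gt (f680614 IH) (Lpn v10500))))
theorem f523636 : Led Lsl_bt v750 = K65.v2501 :=
  Lgr Lrot95 (Lpe (f457071 IH) (Lpe (K33.f5822 IH) (Lpr_df (K65.f523635 IH) (Lpn K65.v2501))))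
def v9174 : LQ := Led Lsl_gt K65.v2501
theorem f673879 : Led Lsl_gt K65.v2501 = v9174 :=
  Lrfl
theorem f682476 : Led Lsl_bt K61.v9171 = v9174 :=
  Lgr Lrot92 (Lpr_ct (f682475 IH) (Lpe (f681135 IH) (Lpe (f625536 IH) (Lpr_bt (f527610 IH) (Lpr_gt (f675272 IH) (Lpr_ct (f680617 IH) (Lpe (f680615 IH) (Lpe (f625314 IH) (Lpr_bt (f523636 IH) (Lpr_gt (f673879 IH) (Lpn v9174)))))))))))
theorem f682477 : Led Lsl_bf K61.v9171 = v9174 :=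
  Lgr Lrot24 (Lpr_bt (f682476 IH) (Lpn v9174))
theorem f835393 : Led Lsl_df v9174 = v26704 :=
  Lgr Lrot12 (Lpe (f682477 IH) (Lpr_dt (f682472 IH) (Lpr_bt (f835392 IH) (Lpn v26704))))
theorem f835394 : Led Lsl_dt v9174 = v26704 :=
  Lgr Lrot42 (Lpr_df (f835393 IH) (Lpn v26704))
def v4016 : LQ := Led Lsl_gf K30.v1179
theorem f628995 : Led Lsl_gf K30.v1179 = v4016 :=
  Lrfl
theorem f508660 : Led Lsl_bf K29.v1136 = K47.v2066 :=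
  Lgr Lrot61 (Lpe (K29.f491709 IH) (Lpe (K46.f65853 IH) (Lpr_ft (K47.f508659 IH) (Lpn K47.v2066))))
theorem f628998 : Led Lsl_ct K47.v2066 = v4016 :=
  Lgr Lrot64 (Lpe (f508660 IH) (Lpe (K29.f491707 IH) (Lpe (K29.f451500 IH) (Lpqs (K24.f456259 IH) (Lpe (K24.f451006 IH) (Lpe (K11.f4492 IH) (Lpe (K4.f12851 IH) (Lpr_gf (K11.f447676 IH) (Lpr_bf (K30.f451572 IH) (Lpr_ct (K30.f493526 IH) (Lpr_gf (f628995 IH) (Lpn v4016))))))))))))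
theorem f628999 : Led Lsl_cf K47.v2066 = v4016 :=
  Lgr Lrot11 (Lpr_ct (f628998 IH) (Lpn v4016))
theorem f687700 : Led Lsl_gt K63.v4017 = v12128 :=
  Lrfl
theorem f839151 : Led Lsl_dt v12128 = v27375 :=
  Lgr Lrot113 (Lpe (f687700 IH) (Lpe (K63.f629005 IH) (Lpr_gf (f628995 IH) (Lpe (f628999 IH) (Lpqs (K47.f528039 IH) (Lpe (K47.f523632 IH) (Lpr_dt (K65.f523633 IH) (Lpr_gt (f673879 IH) (Lpr_dt (f835394 IH) (Lpr_ct (f839150 IH) (Lpn v27375)))))))))))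
theorem f839146 : Led Lsl_ef K48.v7480 = v27375 :=
  Lgr Lrot88 (Lpr_et (f839143 IH) (Lpn v27375))
theorem f874324 : Led Lsl_dt (LP (LK LD1_c13 LD2_c22 LD3_c28)) = v35181 :=
  Lgr Lrot77 (Lpe (K48.f534962 IH) (Lpr_df (K48.f665916 IH) (Lpr_ef (f839146 IH) (Lpe (f839151 IH) (Lpr_ef (f874319 IH) (Lpn v35181))))))
theorem f534957 : Led Lsl_et (LP (LK LD1_c13 LD2_c22 LD3_c28)) = (LP (LK LD1_c7 LD2_c3 LD3_c6)) :=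
  Lre_e IH (LK LD1_c13 LD2_c22 LD3_c28) (LK LD1_c7 LD2_c3 LD3_c6) Lrfl Lrfl
theorem f63574 : Led Lsl_dt (LP (LK LD1_c13 LD2_c21 LD3_c0)) = (LP (LK LD1_c7 LD2_c2 LD3_c23)) :=
  Lre_d IH (LK LD1_c13 LD2_c21 LD3_c0) (LK LD1_c7 LD2_c2 LD3_c23) Lrfl Lrfl
theorem f64965 : Led Lsl_dt (LP (LK LD1_c6 LD2_c58 LD3_c47)) = (LP (LK LD1_c13 LD2_c14 LD3_c61)) :=
  Lre_d IH (LK LD1_c6 LD2_c58 LD3_c47) (LK LD1_c13 LD2_c14 LD3_c61) Lrfl Lrfl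
theorem f64964 : Led Lsl_et (LP (LK LD1_c6 LD2_c58 LD3_c47)) = (LP (LK LD1_c3 LD2_c29 LD3_c9)) :=
  Lre_e IH (LK LD1_c6 LD2_c58 LD3_c47) (LK LD1_c3 LD2_c29 LD3_c9) Lrfl Lrfl
theorem f839148 : Led Lsl_gt v9436 = v27375 :=
  Lgr Lrot131 (Lpe (f675971 IH) (Lpe (K47.f530366 IH) (Lpe (K29.f461392 IH) (Lpe (K29.f18972 IH) (Lpe (K24.f18821 IH) (Lpe (f64964 IH) (Lpr_dt (f64965 IH) (Lpe (K48.f18845 IH) (Lpr_df (K48.f665916 IH) (Lpr_et (f839143 IH) (Lpn v27375)))))))))))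
theorem f658474 : Led Lsl_et (LP (LK LD1_c3 LD2_c51 LD3_c25)) = v6787 :=
  Lgr Lrot87 (Lpr_ef (f658472 IH) (Lpn v6787))
theorem f65764 : Led Lsl_dt (LP (LK LD1_c7 LD2_c44 LD3_c16)) = (LP (LK LD1_c3 LD2_c51 LD3_c24)) :=
  Lre_d IH (LK LD1_c7 LD2_c44 LD3_c16) (LK LD1_c3 LD2_c51 LD3_c24) Lrfl Lrfl
theorem f439930 : Led Lsl_et (LP (LK LD1_c7 LD2_c44 LD3_c16)) = (LP (LK LD1_c14 LD2_c35 LD3_c40)) :=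
  Lre_e IH (LK LD1_c7 LD2_c44 LD3_c16) (LK LD1_c14 LD2_c35 LD3_c40) Lrfl Lrfl
theorem f874320 : Led Lsl_gf (LP (LK LD1_c14 LD2_c35 LD3_c40)) = v35181 :=
  Lgr Lrot141 (Lpe (f439930 IH) (Lpr_dt (f65764 IH) (Lpr_gt (K63.f65742 IH) (Lpe (K63.f65733 IH) (Lpr_et (f658474 IH) (Lpr_gt (f834561 IH) (Lpe (f834557 IH) (Lpr_gt (f839148 IH) (Lpe (f839151 IH) (Lpr_et (f874316 IH) (Lpn v35181)))))))))))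
theorem f65845 : Led Lsl_dt (LP (LK LD1_c24 LD2_c18 LD3_c55)) = (LP (LK LD1_c14 LD2_c35 LD3_c40)) :=
  Lre_d IH (LK LD1_c24 LD2_c18 LD3_c55) (LK LD1_c14 LD2_c35 LD3_c40) Lrfl Lrfl
theorem f65844 : Led Lsl_et (LP (LK LD1_c24 LD2_c18 LD3_c55)) = (LP (LK LD1_c14 LD2_c35 LD3_c41)) :=
  Lre_e IH (LK LD1_c24 LD2_c18 LD3_c55) (LK LD1_c14 LD2_c35 LD3_c41) Lrfl Lrfl
theorem f874328 : Led Lsl_gf (LP (LK LD1_c13 LD2_c21 LD3_c0)) = (LP (LK LD1_c14 LD2_c35 LD3_c41)) :=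
  Lgr Lrot138 (Lpr_dt (f63574 IH) (Lpr_gt (K63.f19120 IH) (Lpe (K2.f18310 IH) (Lpr_et (K2.f18326 IH) (Lpr_gt (K48.f19089 IH) (Lpe (f534957 IH) (Lpr_dt (f874324 IH) (Lpe (f874320 IH) (Lpe (f65845 IH) (Lpr_et (f65844 IH) (Lpn (LP (LK LD1_c14 LD2_c35 LD3_c41)))))))))))))
theorem f874329 : Led Lsl_gt (LP (LK LD1_c14 LD2_c35 LD3_c41)) = (LP (LK LD1_c13 LD2_c21 LD3_c0)) :=
  Leop (Lpr_gf (f874328 IH) (Lpn (LP (LK LD1_c14 LD2_c35 LD3_c41))))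
theorem seed_2022 : LEOK LG_g (LK LD1_c14 LD2_c35 LD3_c41) :=
  Leoe_g (LK LD1_c14 LD2_c35 LD3_c41) (f874329 IH)
theorem f874330 : Led Lsl_gt (LP (LK LD1_c13 LD2_c21 LD3_c0)) = (LP (LK LD1_c14 LD2_c36 LD3_c55)) :=
  Lgr Lrot46 (Lpr_gf (f874328 IH) (Lpe (K63.f812916 IH) (Lpr_at (K63.f812902 IH) (Lpn (LP (LK LD1_c14 LD2_c36 LD3_c55))))))
theorem f801753 : Led Lsl_cf (LP (LK LD1_c7 LD2_c32 LD3_c19)) = K63.v22169 :=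
  Lgr Lrot11 (Lpr_ct (K63.f801752 IH) (Lpn K63.v22169))
theorem f93646 : Led Lsl_ct (LP (LK LD1_c23 LD2_c48 LD3_c23)) = (LP (LK LD1_c14 LD2_c13 LD3_c2)) :=
  Lre_c IH (LK LD1_c23 LD2_c48 LD3_c23) (LK LD1_c14 LD2_c13 LD3_c2) Lrfl Lrfl
theorem f754771 : Led Lsl_ct (LP (LK LD1_c14 LD2_c36 LD3_c55)) = (LP (LK LD1_c24 LD2_c20 LD3_c16)) :=
  Lre_c IH (LK LD1_c14 LD2_c36 LD3_c55) (LK LD1_c24 LD2_c20 LD3_c16) Lrfl Lrfl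
theorem f874336 : Led Lsl_gf (LP (LK LD1_c23 LD2_c48 LD3_c23)) = (LP (LK LD1_c24 LD2_c20 LD3_c16)) :=
  Lgr Lrot104 (Lpr_ct (f93646 IH) (Lpe (K51.f93633 IH) (Lpr_cf (f801753 IH) (Lpqs (K63.f804794 IH) (Lpe (K63.f754057 IH) (Lpe (K63.f18291 IH) (Lpe (K63.f19120 IH) (Lpe (f63574 IH) (Lpr_gt (f874330 IH) (Lpr_ct (f754771 IH) (Lpn (LP (LK LD1_c24 LD2_c20 LD3_c16)))))))))))))
theorem f874337 : Led Lsl_gt (LP (LK LD1_c24 LD2_c20 LD3_c16)) = (LP (LK LD1_c23 LD2_c48 LD3_c23)) :=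
  Leop (Lpr_gf (f874336 IH) (Lpn (LP (LK LD1_c24 LD2_c20 LD3_c16))))
theorem seed_2023 : LEOK LG_g (LK LD1_c24 LD2_c20 LD3_c16) :=
  Leoe_g (LK LD1_c24 LD2_c20 LD3_c16) (f874337 IH)
def v12130 : LQ := Led Lsl_et K63.v4017
def v35188 : LQ := Led Lsl_ft v12130
theorem f874381 : Led Lsl_ft v12130 = v35188 :=
  Lrfl
def v35186 : LQ := Led Lsl_gt v12130
theorem f874371 : Led Lsl_gt v12130 = v35186 :=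
  Lrfl
theorem f687712 : Led Lsl_et K63.v4017 = v12130 :=
  Lrfl
theorem f687715 : Led Lsl_ef K63.v4017 = v12130 :=
  Lgr Lrot88 (Lpr_et (f687712 IH) (Lpn v12130))
theorem f629006 : Led Lsl_af K63.v2643 = K63.v4017 :=
  Lgr Lrot117 (Lpe (K63.f530013 IH) (Lpr_at (K34.f493768 IH) (Lpr_dt (K63.f629005 IH) (Lpn K63.v4017))))
theorem f687716 : Led Lsl_at K63.v9406 = v12130 :=
  Lgr Lrot80 (Lpe (K63.f675723 IH) (Lpr_af (f629006 IH) (Lpr_ef (f687715 IH) (Lpn v12130))))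
def v29867 : LQ := Led Lsl_ft K63.v9406
theorem f851535 : Led Lsl_ft K63.v9406 = v29867 :=
  Lrfl
theorem f851537 : Led Lsl_ff K63.v9406 = v29867 :=
  Lgr Lrot3 (Lpr_ft (f851535 IH) (Lpn v29867))
theorem f874382 : Led Lsl_af v29867 = v35188 :=
  Lgr Lrot45 (Lpe (f851537 IH) (Lpr_at (f687716 IH) (Lpr_ft (f874381 IH) (Lpn v35188))))
theorem f874386 : Led Lsl_gt v35186 = v29867 :=
  Lgr Lrot46 (Lpe (f874371 IH) (Lpr_ft (f874381 IH) (Lpe (f874382 IH) (Lpn v29867))))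
def v35187 : LQ := Led Lsl_gf v12130
theorem f874372 : Led Lsl_gf v12130 = v35187 :=
  Lrfl
theorem f874373 : Led Lsl_gt v29867 = v35187 :=
  Lgr Lrot5 (Lpe (f851537 IH) (Lpr_at (f687716 IH) (Lpr_gf (f874372 IH) (Lpn v35187))))
theorem f813122 : (LP (LK LD1_c7 LD2_c35 LD3_c29)) = K63.v7527 :=
  Lefun (Lecon (Lfl_ff (K63.f806533 IH)) (K63.f813102 IH).symm) (K63.f666346 IH)
theorem f813143 : K63.v22725 = (LP (LK LD1_c14 LD2_c18 LD3_c45)) :=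
  Lefun (Lecon (K63.f810001 IH) (f813122 IH).symm) (K63.f65027 IH)
theorem f789079 : Led Lsl_dt (LP (LK LD1_c7 LD2_c44 LD3_c18)) = (LP (LK LD1_c13 LD2_c20 LD3_c49)) :=
  Lgr Lrot42 (Lpr_df (K61.f789077 IH) (Lpn (LP (LK LD1_c13 LD2_c20 LD3_c49))))
theorem f813219 : Led Lsl_ff (LP (LK LD1_c7 LD2_c44 LD3_c18)) = (LP (LK LD1_c13 LD2_c19 LD3_c31)) :=
  Lgr Lrot19 (Lpr_dt (f789079 IH) (Lpe (K63.f812609 IH) (Lpqs (f813143 IH) (Lpr_dt (K52.f65020 IH) (Lpn (LP (LK LD1_c13 LD2_c19 LD3_c31)))))))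
theorem f813225 : Led Lsl_at (LP (LK LD1_c7 LD2_c44 LD3_c18)) = (LP (LK LD1_c13 LD2_c19 LD3_c30)) :=
  Lgr Lrot26 (Lpr_ff (f813219 IH) (Lpr_gt (K52.f65019 IH) (Lpr_gt (K63.f63175 IH) (Lpn (LP (LK LD1_c13 LD2_c19 LD3_c30))))))
def v22726 : LQ := Led Lsl_ft (LP (LK LD1_c7 LD2_c41 LD3_c36))
theorem f810002 : Led Lsl_ft (LP (LK LD1_c7 LD2_c41 LD3_c36)) = v22726 :=
  Lrfl
theorem f812610 : Led Lsl_at v22726 = (LP (LK LD1_c13 LD2_c20 LD3_c49)) :=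
  Lgr Lrot66 (Lpe (f810002 IH) (Lpr_af (K63.f809999 IH) (Lpr_ff (K63.f812609 IH) (Lpn (LP (LK LD1_c13 LD2_c20 LD3_c49))))))
theorem f813229 : Led Lsl_df v22726 = (LP (LK LD1_c13 LD2_c19 LD3_c30)) :=
  Lgr Lrot18 (Lpr_at (f812610 IH) (Lpe (K61.f789077 IH) (Lpr_at (f813225 IH) (Lpn (LP (LK LD1_c13 LD2_c19 LD3_c30))))))
theorem f810003 : Led Lsl_ff (LP (LK LD1_c7 LD2_c41 LD3_c36)) = v22726 :=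
  Lgr Lrot3 (Lpr_ft (f810002 IH) (Lpn v22726))
theorem f812614 : Led Lsl_af v22726 = (LP (LK LD1_c13 LD2_c20 LD3_c49)) :=
  Lgr Lrot45 (Lpe (f810003 IH) (Lpr_at (K63.f809998 IH) (Lpr_ft (K63.f812613 IH) (Lpn (LP (LK LD1_c13 LD2_c20 LD3_c49))))))
theorem f813271 : Led Lsl_gf v22726 = K63.v20683 :=
  Lgr Lrot76 (Lpr_af (f812614 IH) (Lpe (K63.f812613 IH) (Lpqs (f813143 IH) (Lpe (K63.f807062 IH) (Lpn K63.v20683)))))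
theorem f812543 : Led Lsl_af (LP (LK LD1_c13 LD2_c20 LD3_c51)) = (LP (LK LD1_c14 LD2_c30 LD3_c5)) :=
  Lgr Lrot45 (Lpr_ft (K63.f658547 IH) (Lpr_at (K63.f789117 IH) (Lpqs (K63.f812480 IH) (Lpr_ft (K63.f812538 IH) (Lpn (LP (LK LD1_c14 LD2_c30 LD3_c5)))))))
theorem f813272 : Led Lsl_gt v22726 = (LP (LK LD1_c13 LD2_c20 LD3_c51)) :=
  Lgr Lrot46 (Lpr_gf (f813271 IH) (Lpqs (K63.f812480 IH) (Lpr_ft (K63.f812538 IH) (Lpe (f812543 IH) (Lpn (LP (LK LD1_c13 LD2_c20 LD3_c51)))))))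
theorem f812638 : Led Lsl_ft (LP (LK LD1_c14 LD2_c35 LD3_c34)) = (LP (LK LD1_c22 LD2_c35 LD3_c59)) :=
  Lgr Lrot48 (Lpr_ff (K63.f812632 IH) (Lpn (LP (LK LD1_c22 LD2_c35 LD3_c59))))
theorem f812640 : Led Lsl_af (LP (LK LD1_c14 LD2_c35 LD3_c35)) = (LP (LK LD1_c22 LD2_c35 LD3_c59)) :=
  Lgr Lrot45 (Lpr_ft (K63.f812605 IH) (Lpe (K63.f812623 IH) (Lpr_ft (f812638 IH) (Lpn (LP (LK LD1_c22 LD2_c35 LD3_c59))))))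
theorem f812644 : Led Lsl_dt (LP (LK LD1_c14 LD2_c35 LD3_c35)) = (LP (LK LD1_c13 LD2_c20 LD3_c51)) :=
  Lgr Lrot44 (Lpr_af (f812640 IH) (Lpe (K63.f812636 IH) (Lpe (K63.f812534 IH) (Lpn (LP (LK LD1_c13 LD2_c20 LD3_c51))))))
theorem f874375 : Led Lsl_et (LP (LK LD1_c14 LD2_c35 LD3_c35)) = v35187 :=
  Lgr Lrot185 (Lpr_dt (f812644 IH) (Lpe (f813272 IH) (Lpr_df (f813229 IH) (Lpe (K63.f63175 IH) (Lpe (K63.f65039 IH) (Lpr_dt (K63.f65040 IH) (Lpr_gf (K34.f511970 IH) (Lpqs (K34.f528014 IH) (Lpr_df (K63.f629008 IH) (Lpr_et (f687712 IH) (Lpr_gf (f874372 IH) (Lpn v35187))))))))))))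
theorem f874378 : Led Lsl_ef (LP (LK LD1_c14 LD2_c35 LD3_c35)) = v35187 :=
  Lgr Lrot88 (Lpr_et (f874375 IH) (Lpn v35187))
theorem f812621 : Led Lsl_ff (LP (LK LD1_c14 LD2_c35 LD3_c35)) = (LP (LK LD1_c13 LD2_c20 LD3_c50)) :=
  Lgr Lrot3 (Lpr_ft (K63.f812605 IH) (Lpn (LP (LK LD1_c13 LD2_c20 LD3_c50))))
theorem f812634 : Led Lsl_at (LP (LK LD1_c14 LD2_c35 LD3_c35)) = (LP (LK LD1_c22 LD2_c35 LD3_c59)) :=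
  Lgr Lrot66 (Lpr_ff (f812621 IH) (Lpe (K63.f812625 IH) (Lpr_ff (K63.f812632 IH) (Lpn (LP (LK LD1_c22 LD2_c35 LD3_c59))))))
theorem f812642 : Led Lsl_df (LP (LK LD1_c14 LD2_c30 LD3_c5)) = (LP (LK LD1_c22 LD2_c35 LD3_c59)) :=
  Lgr Lrot78 (Lpe (K63.f812532 IH) (Lpe (K63.f65790 IH) (Lpr_ft (f812638 IH) (Lpn (LP (LK LD1_c22 LD2_c35 LD3_c59))))))
theorem f813993 : Led Lsl_et (LP (LK LD1_c22 LD2_c35 LD3_c59)) = K63.v22951 :=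
  Lgr Lrot185 (Lpe (f812642 IH) (Lpr_gf (K63.f812607 IH) (Lpe (f789079 IH) (Lpe (K61.f64007 IH) (Lpr_ef (f658472 IH) (Lpe (f658471 IH) (Lpe (K46.f508651 IH) (Lpr_df (K63.f530013 IH) (Lpr_et (K63.f675723 IH) (Lpr_gf (K63.f813990 IH) (Lpn K63.v22951)))))))))))
theorem f874379 : Led Lsl_at K63.v22951 = v35187 :=
  Lgr Lrot80 (Lpe (f813993 IH) (Lpe (f812634 IH) (Lpr_ef (f874378 IH) (Lpn v35187))))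
theorem f874387 : Led Lsl_ft v35186 = K63.v22951 :=
  Lgr Lrot2 (Lpr_gt (f874386 IH) (Lpr_gt (f874373 IH) (Lpe (f874379 IH) (Lpn K63.v22951))))
theorem f813985 : Led Lsl_df (LP (LK LD1_c7 LD2_c45 LD3_c7)) = K63.v22951 :=
  Lgr Lrot38 (Lpr_dt (K63.f813984 IH) (Lpn K63.v22951))
theorem f667105 : Led Lsl_ft (LP (LK LD1_c7 LD2_c45 LD3_c7)) = (LP (LK LD1_c14 LD2_c37 LD3_c25)) :=
  Lre_f IH (LK LD1_c7 LD2_c45 LD3_c7) (LK LD1_c14 LD2_c37 LD3_c25) Lrfl Lrfl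
theorem f874388 : Led Lsl_df v35186 = (LP (LK LD1_c14 LD2_c37 LD3_c25)) :=
  Lgr Lrot78 (Lpr_ft (f874387 IH) (Lpe (f813985 IH) (Lpr_ft (f667105 IH) (Lpn (LP (LK LD1_c14 LD2_c37 LD3_c25))))))
def v23013 : LQ := Led Lsl_at (LP (LK LD1_c7 LD2_c45 LD3_c48))
theorem f814326 : Led Lsl_at (LP (LK LD1_c7 LD2_c45 LD3_c48)) = v23013 :=
  Lrfl
theorem f629012 : Led Lsl_at K63.v2643 = K63.v4017 :=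
  Lgr Lrot51 (Lpe (K63.f530012 IH) (Lpr_af (K30.f493767 IH) (Lpr_df (K63.f629008 IH) (Lpn K63.v4017))))
theorem f687713 : Led Lsl_af K63.v9406 = v12130 :=
  Lgr Lrot50 (Lpe (K63.f675725 IH) (Lpr_at (f629012 IH) (Lpr_et (f687712 IH) (Lpn v12130))))
theorem f814328 : Led Lsl_df v12130 = v23013 :=
  Lgr Lrot18 (Lpe (f687713 IH) (Lpe (K63.f675724 IH) (Lpr_at (f814326 IH) (Lpn v23013))))
theorem f629018 : Led Lsl_at (LP (LK LD1_c3 LD2_c46 LD3_c58)) = K35.v4018 :=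
  Lgr Lrot80 (Lpe (K63.f477432 IH) (Lpr_af (K30.f493767 IH) (Lpr_ef (K48.f629017 IH) (Lpn K35.v4018))))
theorem f665609 : Led Lsl_af (LP (LK LD1_c3 LD2_c51 LD3_c60)) = K64.v7443 :=
  Lgr Lrot117 (Lpr_dt (K29.f461289 IH) (Lpr_at (f629018 IH) (Lpr_dt (K64.f665608 IH) (Lpn K64.v7443))))
theorem f814329 : Led Lsl_ef K64.v7443 = v23013 :=
  Lgr Lrot20 (Lpe (f665609 IH) (Lpr_et (K63.f477845 IH) (Lpr_at (f814326 IH) (Lpn v23013))))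
theorem f443427 : Led Lsl_gt (LP (LK LD1_c13 LD2_c22 LD3_c2)) = (LP (LK LD1_c7 LD2_c2 LD3_c54)) :=
  Lre_g IH (LK LD1_c13 LD2_c22 LD3_c2) (LK LD1_c7 LD2_c2 LD3_c54) Lrfl Lrfl
def v23047 : LQ := Led Lsl_et (LP (LK LD1_c7 LD2_c46 LD3_c14))
theorem f814505 : Led Lsl_et (LP (LK LD1_c7 LD2_c46 LD3_c14)) = v23047 :=
  Lrfl
theorem f814507 : Led Lsl_ef (LP (LK LD1_c7 LD2_c46 LD3_c14)) = v23047 :=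
  Lgr Lrot88 (Lpr_et (f814505 IH) (Lpn v23047))
theorem f807207 : Led Lsl_ff (LP (LK LD1_c7 LD2_c36 LD3_c60)) = K63.v22479 :=
  Lgr Lrot3 (Lpr_ft (K63.f807204 IH) (Lpn K63.v22479))
theorem f656865 : Led Lsl_at (LP (LK LD1_c7 LD2_c36 LD3_c60)) = (LP (LK LD1_c3 LD2_c52 LD3_c14)) :=
  Lgr Lrot100 (Lpr_af (K63.f656863 IH) (Lpn (LP (LK LD1_c3 LD2_c52 LD3_c14))))
theorem f530417 : Led Lsl_ft (LP (LK LD1_c3 LD2_c52 LD3_c14)) = (LP (LK LD1_c7 LD2_c46 LD3_c17)) :=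
  Lre_f IH (LK LD1_c3 LD2_c52 LD3_c14) (LK LD1_c7 LD2_c46 LD3_c17) Lrfl Lrfl
theorem f807211 : Led Lsl_at (LP (LK LD1_c7 LD2_c46 LD3_c17)) = K63.v22479 :=
  Lgr Lrot66 (Lpe (f530417 IH) (Lpe (f656865 IH) (Lpr_ff (f807207 IH) (Lpn K63.v22479))))
theorem f478365 : Led Lsl_gt (LP (LK LD1_c3 LD2_c52 LD3_c14)) = (LP (LK LD1_c7 LD2_c46 LD3_c14)) :=
  Lre_g IH (LK LD1_c3 LD2_c52 LD3_c14) (LK LD1_c7 LD2_c46 LD3_c14) Lrfl Lrfl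
theorem f807215 : Led Lsl_gt (LP (LK LD1_c7 LD2_c46 LD3_c14)) = K63.v22479 :=
  Lgr Lrot46 (Lpe (f478365 IH) (Lpr_ft (f530417 IH) (Lpr_at (f807211 IH) (Lpn K63.v22479))))
theorem f530411 : Led Lsl_ft (LP (LK LD1_c3 LD2_c52 LD3_c18)) = (LP (LK LD1_c7 LD2_c46 LD3_c27)) :=
  Lre_f IH (LK LD1_c3 LD2_c52 LD3_c18) (LK LD1_c7 LD2_c46 LD3_c27) Lrfl Lrfl
theorem f807212 : Led Lsl_et (LP (LK LD1_c7 LD2_c46 LD3_c27)) = K63.v22479 :=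
  Lgr Lrot69 (Lpe (f530411 IH) (Lpe (K48.f64197 IH) (Lpr_ff (K46.f530410 IH) (Lpq (K46.f655359 IH) (Lpe (K63.f477841 IH) (Lpr_ff (f807207 IH) (Lpn K63.v22479)))))))
theorem f656177 : Led Lsl_dt (LP (LK LD1_c7 LD2_c46 LD3_c27)) = (LP (LK LD1_c14 LD2_c39 LD3_c46)) :=
  Lre_d IH (LK LD1_c7 LD2_c46 LD3_c27) (LK LD1_c14 LD2_c39 LD3_c46) Lrfl Lrfl
theorem f64059 : Led Lsl_et (LP (LK LD1_c7 LD2_c3 LD3_c1)) = (LP (LK LD1_c13 LD2_c22 LD3_c21)) :=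
  Lre_e IH (LK LD1_c7 LD2_c3 LD3_c1) (LK LD1_c13 LD2_c22 LD3_c21) Lrfl Lrfl
theorem f656157 : Led Lsl_af (LP (LK LD1_c7 LD2_c46 LD3_c26)) = (LP (LK LD1_c13 LD2_c22 LD3_c21)) :=
  Lgr Lrot50 (Lpe (K48.f64199 IH) (Lpr_at (K61.f656153 IH) (Lpr_et (f64059 IH) (Lpn (LP (LK LD1_c13 LD2_c22 LD3_c21))))))
theorem f656159 : Led Lsl_at (LP (LK LD1_c7 LD2_c46 LD3_c26)) = (LP (LK LD1_c13 LD2_c22 LD3_c21)) :=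
  Lgr Lrot100 (Lpr_af (f656157 IH) (Lpn (LP (LK LD1_c13 LD2_c22 LD3_c21))))
theorem f443359 : Led Lsl_gt (LP (LK LD1_c22 LD2_c39 LD3_c33)) = (LP (LK LD1_c13 LD2_c22 LD3_c21)) :=
  Lre_g IH (LK LD1_c22 LD2_c39 LD3_c33) (LK LD1_c13 LD2_c22 LD3_c21) Lrfl Lrfl
theorem f656254 : Led Lsl_gt (LP (LK LD1_c14 LD2_c39 LD3_c46)) = (LP (LK LD1_c22 LD2_c39 LD3_c33)) :=
  Lgr Lrot5 (Lpr_ft (K61.f64208 IH) (Lpr_at (f656159 IH) (Lpe (f443359 IH) (Lpn (LP (LK LD1_c22 LD2_c39 LD3_c33))))))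
theorem f63950 : Led Lsl_et (LP (LK LD1_c7 LD2_c37 LD3_c1)) = (LP (LK LD1_c3 LD2_c47 LD3_c59)) :=
  Lre_e IH (LK LD1_c7 LD2_c37 LD3_c1) (LK LD1_c3 LD2_c47 LD3_c59) Lrfl Lrfl
theorem f63776 : Led Lsl_dt (LP (LK LD1_c7 LD2_c2 LD3_c11)) = (LP (LK LD1_c3 LD2_c30 LD3_c14)) :=
  Lre_d IH (LK LD1_c7 LD2_c2 LD3_c11) (LK LD1_c3 LD2_c30 LD3_c14) Lrfl Lrfl
theorem f63777 : Led Lsl_et (LP (LK LD1_c13 LD2_c20 LD3_c43)) = (LP (LK LD1_c7 LD2_c2 LD3_c11)) :=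
  Lre_e IH (LK LD1_c13 LD2_c20 LD3_c43) (LK LD1_c7 LD2_c2 LD3_c11) Lrfl Lrfl
theorem f63779 : Led Lsl_df (LP (LK LD1_c13 LD2_c20 LD3_c43)) = (LP (LK LD1_c14 LD2_c21 LD3_c7)) :=
  Lgr Lrot70 (Lpr_et (f63777 IH) (Lpr_dt (f63776 IH) (Lpr_et (K63.f63775 IH) (Lpr_dt (K3.f63763 IH) (Lpr_et (K63.f63778 IH) (Lpn (LP (LK LD1_c14 LD2_c21 LD3_c7))))))))
theorem f63932 : Led Lsl_gt (LP (LK LD1_c22 LD2_c37 LD3_c8)) = (LP (LK LD1_c13 LD2_c20 LD3_c43)) :=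
  Lre_g IH (LK LD1_c22 LD2_c37 LD3_c8) (LK LD1_c13 LD2_c20 LD3_c43) Lrfl Lrfl
theorem f63929 : Led Lsl_et (LP (LK LD1_c14 LD2_c21 LD3_c7)) = (LP (LK LD1_c7 LD2_c36 LD3_c44)) :=
  Lre_e IH (LK LD1_c14 LD2_c21 LD3_c7) (LK LD1_c7 LD2_c36 LD3_c44) Lrfl Lrfl
theorem f63938 : Led Lsl_df (LP (LK LD1_c22 LD2_c37 LD3_c8)) = (LP (LK LD1_c14 LD2_c21 LD3_c20)) :=
  Lgr Lrot135 (Lpr_gt (f63932 IH) (Lpr_df (f63779 IH) (Lpr_et (f63929 IH) (Lpr_gt (K3.f63782 IH) (Lpe (K63.f63933 IH) (Lpr_dt (K29.f63934 IH) (Lpr_gt (K1.f14965 IH) (Lpe (K29.f63935 IH) (Lpr_et (K63.f63936 IH) (Lpr_gt (K63.f63937 IH) (Lpn (LP (LK LD1_c14 LD2_c21 LD3_c20)))))))))))))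
theorem f63749 : Led Lsl_dt (LP (LK LD1_c7 LD2_c36 LD3_c37)) = (LP (LK LD1_c3 LD2_c47 LD3_c47)) :=
  Lre_d IH (LK LD1_c7 LD2_c36 LD3_c37) (LK LD1_c3 LD2_c47 LD3_c47) Lrfl Lrfl
theorem f63940 : Led Lsl_et (LP (LK LD1_c7 LD2_c36 LD3_c37)) = (LP (LK LD1_c14 LD2_c20 LD3_c50)) :=
  Lre_e IH (LK LD1_c7 LD2_c36 LD3_c37) (LK LD1_c14 LD2_c20 LD3_c50) Lrfl Lrfl
theorem f63941 : Led Lsl_gt (LP (LK LD1_c14 LD2_c20 LD3_c50)) = (LP (LK LD1_c23 LD2_c58 LD3_c43)) :=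
  Lre_g IH (LK LD1_c14 LD2_c20 LD3_c50) (LK LD1_c23 LD2_c58 LD3_c43) Lrfl Lrfl
theorem f63942 : Led Lsl_et (LP (LK LD1_c14 LD2_c21 LD3_c20)) = (LP (LK LD1_c23 LD2_c58 LD3_c43)) :=
  Lgr Lrot122 (Lpe (f63938 IH) (Lpr_gt (f63932 IH) (Lpr_df (f63779 IH) (Lpr_et (f63929 IH) (Lpr_gt (K3.f63782 IH) (Lpr_dt (K61.f63783 IH) (Lpr_gt (K3.f63736 IH) (Lpe (f63749 IH) (Lpr_et (f63940 IH) (Lpr_gt (f63941 IH) (Lpn (LP (LK LD1_c23 LD2_c58 LD3_c43)))))))))))))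
theorem f63945 : Led Lsl_ef (LP (LK LD1_c14 LD2_c21 LD3_c20)) = (LP (LK LD1_c23 LD2_c58 LD3_c43)) :=
  Lgr Lrot88 (Lpr_et (f63942 IH) (Lpn (LP (LK LD1_c23 LD2_c58 LD3_c43))))
theorem f443360 : Led Lsl_dt (LP (LK LD1_c23 LD2_c58 LD3_c43)) = (LP (LK LD1_c22 LD2_c39 LD3_c33)) :=
  Lgr Lrot136 (Lpe (f63945 IH) (Lpe (K63.f63937 IH) (Lpe (K63.f63936 IH) (Lpr_dt (K29.f63935 IH) (Lpe (K1.f14965 IH) (Lpe (K29.f63934 IH) (Lpe (K29.f63949 IH) (Lpe (f63950 IH) (Lpr_dt (K34.f443333 IH) (Lpe (f443359 IH) (Lpn (LP (LK LD1_c22 LD2_c39 LD3_c33)))))))))))))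
theorem f493199 : Led Lsl_gf (LP (LK LD1_c13 LD2_c22 LD3_c2)) = (LP (LK LD1_c14 LD2_c38 LD3_c56)) :=
  Lgr Lrot47 (Lpr_gt (f443427 IH) (Lpr_af (K63.f493191 IH) (Lpe (K63.f491885 IH) (Lpn (LP (LK LD1_c14 LD2_c38 LD3_c56))))))
theorem f814508 : Led Lsl_df (LP (LK LD1_c13 LD2_c22 LD3_c2)) = v23047 :=
  Lgr Lrot132 (Lpr_gf (f493199 IH) (Lpe (K63.f493202 IH) (Lpe (K63.f807126 IH) (Lpr_ef (f63945 IH) (Lpr_dt (f443360 IH) (Lpe (f656254 IH) (Lpe (f656177 IH) (Lpr_et (f807212 IH) (Lpe (f807215 IH) (Lpr_ef (f814507 IH) (Lpn v23047)))))))))))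
theorem f63923 : Led Lsl_ft (LP (LK LD1_c23 LD2_c59 LD3_c5)) = (LP (LK LD1_c14 LD2_c21 LD3_c7)) :=
  Lre_f IH (LK LD1_c23 LD2_c59 LD3_c5) (LK LD1_c14 LD2_c21 LD3_c7) Lrfl Lrfl
theorem f667091 : Led Lsl_et (LP (LK LD1_c3 LD2_c51 LD3_c43)) = (LP (LK LD1_c7 LD2_c45 LD3_c7)) :=
  Lre_e IH (LK LD1_c3 LD2_c51 LD3_c43) (LK LD1_c7 LD2_c45 LD3_c7) Lrfl Lrfl
theorem f812691 : Led Lsl_ef (LP (LK LD1_c23 LD2_c59 LD3_c5)) = (LP (LK LD1_c14 LD2_c37 LD3_c25)) :=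
  Lgr Lrot21 (Lpr_ft (f63923 IH) (Lpr_et (f63929 IH) (Lpqs (K63.f812512 IH) (Lpe (K63.f667102 IH) (Lpr_et (f667091 IH) (Lpr_ft (f667105 IH) (Lpn (LP (LK LD1_c14 LD2_c37 LD3_c25)))))))))
theorem f807085 : Led Lsl_at (LP (LK LD1_c7 LD2_c36 LD3_c44)) = K63.v22462 :=
  Lgr Lrot66 (Lpr_ff (K63.f807042 IH) (Lpe (K63.f807038 IH) (Lpr_ff (K63.f807084 IH) (Lpn K63.v22462))))
theorem f812784 : Led Lsl_af (LP (LK LD1_c14 LD2_c21 LD3_c7)) = (LP (LK LD1_c7 LD2_c45 LD3_c11)) :=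
  Lgr Lrot50 (Lpr_et (f63929 IH) (Lpr_at (f807085 IH) (Lpqs (K63.f812511 IH) (Lpr_et (K63.f443241 IH) (Lpn (LP (LK LD1_c7 LD2_c45 LD3_c11)))))))
theorem f812786 : Led Lsl_at (LP (LK LD1_c14 LD2_c21 LD3_c7)) = (LP (LK LD1_c7 LD2_c45 LD3_c11)) :=
  Lgr Lrot100 (Lpr_af (f812784 IH) (Lpn (LP (LK LD1_c7 LD2_c45 LD3_c11))))
theorem f810453 : Led Lsl_gt (LP (LK LD1_c14 LD2_c37 LD3_c31)) = (LP (LK LD1_c7 LD2_c45 LD3_c11)) :=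
  Lre_g IH (LK LD1_c14 LD2_c37 LD3_c31) (LK LD1_c7 LD2_c45 LD3_c11) Lrfl Lrfl
theorem f812798 : Led Lsl_gt (LP (LK LD1_c23 LD2_c59 LD3_c5)) = (LP (LK LD1_c14 LD2_c37 LD3_c31)) :=
  Lgr Lrot5 (Lpr_ft (f63923 IH) (Lpr_at (f812786 IH) (Lpe (f810453 IH) (Lpn (LP (LK LD1_c14 LD2_c37 LD3_c31))))))
theorem f874395 : v23047 = (LP (LK LD1_c14 LD2_c37 LD3_c31)) :=
  (Llr Lrot135 (Lpe (f814508 IH) (Lpr_gt (f443427 IH) (Lpe (K63.f443423 IH) (Lpr_et (K63.f64982 IH) (Lpr_gt (K64.f665604 IH) (Lpr_ef (f814329 IH) (Lpe (f814328 IH) (Lpr_gt (f874371 IH) (Lpr_df (f874388 IH) (Lpe (f812691 IH) (Lpr_gt (f812798 IH) (Lpn (LP (LK LD1_c14 LD2_c37 LD3_c31))))))))))))))).symm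
theorem f874396 : Led Lsl_dt (LP (LK LD1_c14 LD2_c37 LD3_c31)) = (LP (LK LD1_c13 LD2_c22 LD3_c2)) :=
  Leop (Lpr_df (f814508 IH) (Lpqs (f874395 IH) (Lpn (LP (LK LD1_c14 LD2_c37 LD3_c31)))))
theorem seed_2024 : LEOK LG_d (LK LD1_c14 LD2_c37 LD3_c31) :=
  Leoe_d (LK LD1_c14 LD2_c37 LD3_c31) (f874396 IH)
theorem f874398 : Led Lsl_et (LP (LK LD1_c14 LD2_c37 LD3_c31)) = (LP (LK LD1_c7 LD2_c46 LD3_c14)) :=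
  Leop (Lpr_ef (f814507 IH) (Lpqs (f874395 IH) (Lpn (LP (LK LD1_c14 LD2_c37 LD3_c31)))))
theorem seed_2025 : LEOK LG_e (LK LD1_c14 LD2_c37 LD3_c31) :=
  Leoe_e (LK LD1_c14 LD2_c37 LD3_c31) (f874398 IH)
theorem f814510 : Led Lsl_dt (LP (LK LD1_c13 LD2_c22 LD3_c2)) = v23047 :=
  Lgr Lrot42 (Lpr_df (f814508 IH) (Lpn v23047))
theorem f814020 : Led Lsl_df (LP (LK LD1_c7 LD2_c45 LD3_c11)) = K63.v22958 :=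
  Lgr Lrot38 (Lpr_dt (K63.f814018 IH) (Lpn K63.v22958))
def v27467 : LQ := Led Lsl_dt K63.v7558
theorem f839685 : Led Lsl_dt K63.v7558 = v27467 :=
  Lrfl
theorem f839689 : Led Lsl_gt K63.v20579 = v27467 :=
  Lgr Lrot112 (Lpe (K63.f788012 IH) (Lpe (K63.f65170 IH) (Lpr_gf (K63.f810219 IH) (Lpe (K63.f810215 IH) (Lpr_dt (K63.f115737 IH) (Lpe (K63.f115734 IH) (Lpe (K4.f65287 IH) (Lpe (K52.f65204 IH) (Lpr_ef (K63.f666727 IH) (Lpr_dt (f839685 IH) (Lpn v27467)))))))))))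
theorem f839687 : Led Lsl_df K63.v7558 = v27467 :=
  Lgr Lrot38 (Lpr_dt (f839685 IH) (Lpn v27467))
theorem f63223 : Led Lsl_gt (LP (LK LD1_c7 LD2_c2 LD3_c17)) = (LP (LK LD1_c13 LD2_c16 LD3_c52)) :=
  Lre_g IH (LK LD1_c7 LD2_c2 LD3_c17) (LK LD1_c13 LD2_c16 LD3_c52) Lrfl Lrfl
def v20686 : LQ := Led Lsl_dt (LP (LK LD1_c7 LD2_c2 LD3_c17))
theorem f789128 : Led Lsl_dt (LP (LK LD1_c7 LD2_c2 LD3_c17)) = v20686 :=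
  Lrfl
theorem f789129 : Led Lsl_df (LP (LK LD1_c7 LD2_c2 LD3_c17)) = v20686 :=
  Lgr Lrot38 (Lpr_dt (f789128 IH) (Lpn v20686))
theorem f811092 : Led Lsl_gf v20686 = K63.v7558 :=
  Lgr Lrot138 (Lpe (f789129 IH) (Lpr_gt (f63223 IH) (Lpe (K2.f63221 IH) (Lpr_et (K1.f63203 IH) (Lpe (K63.f63569 IH) (Lpe (K63.f62838 IH) (Lpe (K63.f65201 IH) (Lpr_gt (K63.f811090 IH) (Lpe (K63.f65341 IH) (Lpr_et (K63.f666725 IH) (Lpn K63.v7558)))))))))))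
theorem f461363 : Led Lsl_et (LP (LK LD1_c7 LD2_c2 LD3_c17)) = (LP (LK LD1_c13 LD2_c20 LD3_c53)) :=
  Lre_e IH (LK LD1_c7 LD2_c2 LD3_c17) (LK LD1_c13 LD2_c20 LD3_c53) Lrfl Lrfl
theorem f461372 : Led Lsl_gt (LP (LK LD1_c13 LD2_c20 LD3_c53)) = (LP (LK LD1_c22 LD2_c37 LD3_c17)) :=
  Lre_g IH (LK LD1_c13 LD2_c20 LD3_c53) (LK LD1_c22 LD2_c37 LD3_c17) Lrfl Lrfl
theorem f874407 : Led Lsl_et (LP (LK LD1_c13 LD2_c22 LD3_c2)) = (LP (LK LD1_c22 LD2_c37 LD3_c17)) :=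
  Lgr Lrot122 (Lpr_dt (f814510 IH) (Lpqs (f874395 IH) (Lpr_gt (f810453 IH) (Lpr_df (f814020 IH) (Lpe (K63.f814021 IH) (Lpr_gt (f839689 IH) (Lpe (f839687 IH) (Lpe (f811092 IH) (Lpe (f789128 IH) (Lpr_et (f461363 IH) (Lpr_gt (f461372 IH) (Lpn (LP (LK LD1_c22 LD2_c37 LD3_c17))))))))))))))
theorem f874408 : Led Lsl_et (LP (LK LD1_c13 LD2_c22 LD3_c2)) = (LP (LK LD1_c22 LD2_c37 LD3_c17)) :=
  Leop (Lpe (f874407 IH) (Lpn (LP (LK LD1_c13 LD2_c22 LD3_c2))))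
theorem seed_2026 : LEOK LG_e (LK LD1_c13 LD2_c22 LD3_c2) :=
  Leoe_e (LK LD1_c13 LD2_c22 LD3_c2) (f874408 IH)
def v35550 : LQ := Led Lsl_gf (LP (LK LD1_c7 LD2_c55 LD3_c44))
theorem f875790 : Led Lsl_gf (LP (LK LD1_c7 LD2_c55 LD3_c44)) = v35550 :=
  Lrfl
theorem f270382 : Led Lsl_ct (LP (LK LD1_c7 LD2_c55 LD3_c44)) = (LP (LK LD1_c14 LD2_c57 LD3_c24)) :=
  Lre_c IH (LK LD1_c7 LD2_c55 LD3_c44) (LK LD1_c14 LD2_c57 LD3_c24) Lrfl Lrfl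
theorem f215534 : Led Lsl_dt (LP (LK LD1_c15 LD2_c45 LD3_c13)) = (LP (LK LD1_c25 LD2_c41 LD3_c57)) :=
  Lre_d IH (LK LD1_c15 LD2_c45 LD3_c13) (LK LD1_c25 LD2_c41 LD3_c57) Lrfl Lrfl
theorem f365591 : Led Lsl_at (LP (LK LD1_c25 LD2_c41 LD3_c57)) = (LP (LK LD1_c19 LD2_c16 LD3_c41)) :=
  Lgr Lrot51 (Lpe (f215534 IH) (Lpe (K25.f357340 IH) (Lpr_df (K27.f365589 IH) (Lpn (LP (LK LD1_c19 LD2_c16 LD3_c41))))))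
theorem f365608 : Led Lsl_ff (LP (LK LD1_c25 LD2_c41 LD3_c57)) = (LP (LK LD1_c19 LD2_c5 LD3_c41)) :=
  Lgr Lrot30 (Lpr_at (f365591 IH) (Lpe (K27.f365597 IH) (Lpr_at (K27.f365602 IH) (Lpn (LP (LK LD1_c19 LD2_c5 LD3_c41))))))
theorem f303016 : Led Lsl_dt (LP (LK LD1_c25 LD2_c41 LD3_c57)) = (LP (LK LD1_c15 LD2_c45 LD3_c13)) :=
  Lre_d IH (LK LD1_c25 LD2_c41 LD3_c57) (LK LD1_c15 LD2_c45 LD3_c13) Lrfl Lrfl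
theorem f365610 : Led Lsl_ft (LP (LK LD1_c15 LD2_c45 LD3_c13)) = (LP (LK LD1_c10 LD2_c32 LD3_c34)) :=
  Lgr Lrot54 (Lpe (f303016 IH) (Lpr_ff (f365608 IH) (Lpe (K20.f192413 IH) (Lpn (LP (LK LD1_c10 LD2_c32 LD3_c34))))))
theorem f359414 : Led Lsl_af (LP (LK LD1_c10 LD2_c32 LD3_c46)) = (LP (LK LD1_c10 LD2_c32 LD3_c34)) :=
  Lgr Lrot68 (Lpe (K25.f250519 IH) (Lpr_at (K26.f359410 IH) (Lpe (K26.f192401 IH) (Lpn (LP (LK LD1_c10 LD2_c32 LD3_c34))))))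
theorem f365616 : Led Lsl_gt (LP (LK LD1_c15 LD2_c45 LD3_c13)) = (LP (LK LD1_c8 LD2_c22 LD3_c18)) :=
  Lgr Lrot5 (Lpr_ft (f365610 IH) (Lpe (f359414 IH) (Lpr_gf (K20.f258417 IH) (Lpn (LP (LK LD1_c8 LD2_c22 LD3_c18))))))
theorem f321025 : Led Lsl_bf (LP (LK LD1_c7 LD2_c55 LD3_c46)) = (LP (LK LD1_c4 LD2_c11 LD3_c9)) :=
  Lgr Lrot93 (Lpr_dt (K20.f321023 IH) (Lpr_bt (K24.f215472 IH) (Lpr_dt (K16.f215468 IH) (Lpn (LP (LK LD1_c4 LD2_c11 LD3_c9))))))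
theorem f270526 : Led Lsl_bt (LP (LK LD1_c7 LD2_c55 LD3_c44)) = (LP (LK LD1_c3 LD2_c57 LD3_c3)) :=
  Lre_b IH (LK LD1_c7 LD2_c55 LD3_c44) (LK LD1_c3 LD2_c57 LD3_c3) Lrfl Lrfl
theorem f365621 : Led Lsl_gf (LP (LK LD1_c9 LD2_c36 LD3_c47)) = (LP (LK LD1_c14 LD2_c57 LD3_c24)) :=
  Lgr Lrot126 (Lpe (K18.f301641 IH) (Lpr_bt (K26.f361280 IH) (Lpr_gt (K26.f361311 IH) (Lpe (K21.f309904 IH) (Lpr_gt (f365616 IH) (Lpe (K20.f215475 IH) (Lpe (f321025 IH) (Lpr_gt (K20.f227964 IH) (Lpe (f270526 IH) (Lpr_ct (f270382 IH) (Lpn (LP (LK LD1_c14 LD2_c57 LD3_c24)))))))))))))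
theorem f306616 : Led Lsl_ct (LP (LK LD1_c9 LD2_c36 LD3_c47)) = (LP (LK LD1_c4 LD2_c52 LD3_c12)) :=
  Lre_c IH (LK LD1_c9 LD2_c36 LD3_c47) (LK LD1_c4 LD2_c52 LD3_c12) Lrfl Lrfl
theorem f347277 : Led Lsl_ct (LP (LK LD1_c17 LD2_c42 LD3_c12)) = (LP (LK LD1_c9 LD2_c36 LD3_c48)) :=
  Lre_c IH (LK LD1_c17 LD2_c42 LD3_c12) (LK LD1_c9 LD2_c36 LD3_c48) Lrfl Lrfl
theorem f347329 : Led Lsl_bt (LP (LK LD1_c9 LD2_c36 LD3_c48)) = (LP (LK LD1_c17 LD2_c42 LD3_c8)) :=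
  Lre_b IH (LK LD1_c9 LD2_c36 LD3_c48) (LK LD1_c17 LD2_c42 LD3_c8) Lrfl Lrfl
theorem f361301 : Led Lsl_gf (LP (LK LD1_c17 LD2_c42 LD3_c12)) = (LP (LK LD1_c25 LD2_c21 LD3_c1)) :=
  Lgr Lrot126 (Lpe (K27.f326858 IH) (Lpr_bt (f347329 IH) (Lpr_gt (K26.f361289 IH) (Lpe (K26.f357492 IH) (Lpe (K26.f322524 IH) (Lpe (K25.f215511 IH) (Lpr_bt (K26.f215518 IH) (Lpe (K21.f326788 IH) (Lpe (K26.f328798 IH) (Lpr_ct (K26.f301382 IH) (Lpn (LP (LK LD1_c25 LD2_c21 LD3_c1)))))))))))))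
theorem f875794 : Led Lsl_df (LP (LK LD1_c15 LD2_c22 LD3_c5)) = v35550 :=
  Lgr Lrot155 (Lpr_gt (K25.f352783 IH) (Lpr_ct (K26.f301382 IH) (Lpe (f361301 IH) (Lpr_ct (f347277 IH) (Lpr_dt (K26.f305944 IH) (Lpe (f306616 IH) (Lpr_gf (f365621 IH) (Lpe (f270382 IH) (Lpr_gf (f875790 IH) (Lpn v35550))))))))))
theorem f324682 : Led Lsl_dt (LP (LK LD1_c26 LD2_c5 LD3_c48)) = (LP (LK LD1_c16 LD2_c9 LD3_c1)) :=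
  Lre_d IH (LK LD1_c26 LD2_c5 LD3_c48) (LK LD1_c16 LD2_c9 LD3_c1) Lrfl Lrfl
theorem f875791 : Led Lsl_gt (LP (LK LD1_c15 LD2_c57 LD3_c6)) = v35550 :=
  Lgr Lrot5 (Lpr_ft (K16.f222038 IH) (Lpr_at (K16.f270522 IH) (Lpr_gf (f875790 IH) (Lpn v35550))))
theorem f371138 : Led Lsl_et (LP (LK LD1_c18 LD2_c5 LD3_c50)) = (LP (LK LD1_c17 LD2_c43 LD3_c19)) :=
  Lgr Lrot122 (Lpr_dt (K27.f311534 IH) (Lpe (K27.f361106 IH) (Lpr_df (K20.f322108 IH) (Lpe (K27.f322122 IH) (Lpe (K27.f340637 IH) (Lpr_dt (K27.f222400 IH) (Lpr_gt (K26.f361738 IH) (Lpe (K25.f343744 IH) (Lpr_et (K23.f301110 IH) (Lpr_gt (K54.f371126 IH) (Lpn (LP (LK LD1_c17 LD2_c43 LD3_c19)))))))))))))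
theorem f371140 : Led Lsl_bf (LP (LK LD1_c17 LD2_c41 LD3_c53)) = (LP (LK LD1_c17 LD2_c43 LD3_c19)) :=
  Lgr Lrot96 (Lpr_et (K21.f307224 IH) (Lpr_bt (K27.f371056 IH) (Lpr_et (f371138 IH) (Lpn (LP (LK LD1_c17 LD2_c43 LD3_c19))))))
theorem f371143 : Led Lsl_bt (LP (LK LD1_c9 LD2_c36 LD3_c36)) = (LP (LK LD1_c9 LD2_c37 LD3_c42)) :=
  Lgr Lrot95 (Lpe (K21.f301233 IH) (Lpr_bf (f371140 IH) (Lpe (K54.f170355 IH) (Lpn (LP (LK LD1_c9 LD2_c37 LD3_c42))))))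
theorem f301215 : Led Lsl_ct (LP (LK LD1_c9 LD2_c36 LD3_c36)) = (LP (LK LD1_c17 LD2_c41 LD3_c52)) :=
  Lre_c IH (LK LD1_c9 LD2_c36 LD3_c36) (LK LD1_c17 LD2_c41 LD3_c52) Lrfl Lrfl
theorem f371150 : Led Lsl_gf (LP (LK LD1_c17 LD2_c41 LD3_c52)) = (LP (LK LD1_c15 LD2_c27 LD3_c16)) :=
  Lgr Lrot129 (Lpe (f301215 IH) (Lpr_bt (f371143 IH) (Lpe (K54.f371118 IH) (Lpe (K15.f258477 IH) (Lpe (K15.f258448 IH) (Lpe (K20.f321068 IH) (Lpe (K20.f284129 IH) (Lpe (K20.f310305 IH) (Lpr_gt (K20.f222030 IH) (Lpr_ct (K23.f222023 IH) (Lpn (LP (LK LD1_c15 LD2_c27 LD3_c16)))))))))))))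
theorem f307202 : Led Lsl_dt (LP (LK LD1_c17 LD2_c41 LD3_c52)) = (LP (LK LD1_c27 LD2_c29 LD3_c15)) :=
  Lre_d IH (LK LD1_c17 LD2_c41 LD3_c52) (LK LD1_c27 LD2_c29 LD3_c15) Lrfl Lrfl
theorem f171956 : Led Lsl_ct (LP (LK LD1_c15 LD2_c0 LD3_c59)) = (LP (LK LD1_c7 LD2_c57 LD3_c40)) :=
  Lre_c IH (LK LD1_c15 LD2_c0 LD3_c59) (LK LD1_c7 LD2_c57 LD3_c40) Lrfl Lrfl
theorem f167158 : Led Lsl_ct (LP (LK LD1_c8 LD2_c24 LD3_c12)) = (LP (LK LD1_c4 LD2_c12 LD3_c20)) :=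
  Lre_c IH (LK LD1_c8 LD2_c24 LD3_c12) (LK LD1_c4 LD2_c12 LD3_c20) Lrfl Lrfl
theorem f167205 : Led Lsl_gt (LP (LK LD1_c15 LD2_c48 LD3_c1)) = (LP (LK LD1_c8 LD2_c24 LD3_c12)) :=
  Lre_g IH (LK LD1_c15 LD2_c48 LD3_c1) (LK LD1_c8 LD2_c24 LD3_c12) Lrfl Lrfl
theorem f356879 : Led Lsl_cf (LP (LK LD1_c15 LD2_c48 LD3_c1)) = (LP (LK LD1_c15 LD2_c36 LD3_c28)) :=
  Lgr Lrot169 (Lpr_gt (f167205 IH) (Lpr_ct (f167158 IH) (Lpe (K14.f246747 IH) (Lpe (f171956 IH) (Lpe (K18.f290806 IH) (Lpe (K21.f275844 IH) (Lpr_gf (K19.f274532 IH) (Lpe (K24.f237158 IH) (Lpr_gt (K25.f356877 IH) (Lpn (LP (LK LD1_c15 LD2_c36 LD3_c28))))))))))))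
theorem f356881 : Led Lsl_dt (LP (LK LD1_c25 LD2_c44 LD3_c42)) = (LP (LK LD1_c15 LD2_c48 LD3_c1)) :=
  Lre_d IH (LK LD1_c25 LD2_c44 LD3_c42) (LK LD1_c15 LD2_c48 LD3_c1) Lrfl Lrfl
theorem f371152 : Led Lsl_gt (LP (LK LD1_c27 LD2_c29 LD3_c15)) = (LP (LK LD1_c25 LD2_c44 LD3_c42)) :=
  Lgr Lrot189 (Lpe (f307202 IH) (Lpr_gf (f371150 IH) (Lpe (K23.f222013 IH) (Lpr_gt (K26.f222028 IH) (Lpe (K26.f363181 IH) (Lpr_gt (K25.f356866 IH) (Lpr_dt (K25.f356873 IH) (Lpe (f356879 IH) (Lpe (f356881 IH) (Lpn (LP (LK LD1_c25 LD2_c44 LD3_c42))))))))))))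
theorem f371159 : Led Lsl_cf (LP (LK LD1_c15 LD2_c36 LD3_c28)) = (LP (LK LD1_c15 LD2_c48 LD3_c1)) :=
  Lgr Lrot14 (Lpe (K25.f356873 IH) (Lpe (K25.f356866 IH) (Lpr_df (K26.f363181 IH) (Lpe (K26.f222028 IH) (Lpr_ct (K23.f222023 IH) (Lpe (f371150 IH) (Lpr_dt (f307202 IH) (Lpr_gt (f371152 IH) (Lpr_dt (f356881 IH) (Lpn (LP (LK LD1_c15 LD2_c48 LD3_c1))))))))))))
theorem f219717 : Led Lsl_gt (LP (LK LD1_c15 LD2_c48 LD3_c2)) = (LP (LK LD1_c25 LD2_c44 LD3_c43)) :=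
  Lre_g IH (LK LD1_c15 LD2_c48 LD3_c2) (LK LD1_c25 LD2_c44 LD3_c43) Lrfl Lrfl
theorem f371161 : Led Lsl_df (LP (LK LD1_c17 LD2_c42 LD3_c9)) = (LP (LK LD1_c25 LD2_c44 LD3_c43)) :=
  Lgr Lrot84 (Lpr_cf (K35.f361317 IH) (Lpr_df (K18.f275701 IH) (Lpe (K18.f261028 IH) (Lpr_df (K15.f261006 IH) (Lpe (K25.f260811 IH) (Lpr_cf (f371159 IH) (Lpr_gt (f167205 IH) (Lpr_dt (K23.f219716 IH) (Lpr_gt (f219717 IH) (Lpn (LP (LK LD1_c25 LD2_c44 LD3_c43))))))))))))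
theorem f371166 : Led Lsl_dt (LP (LK LD1_c17 LD2_c42 LD3_c9)) = (LP (LK LD1_c25 LD2_c44 LD3_c43)) :=
  Lgr Lrot42 (Lpr_df (f371161 IH) (Lpn (LP (LK LD1_c25 LD2_c44 LD3_c43))))
theorem f301299 : Led Lsl_dt (LP (LK LD1_c26 LD2_c5 LD3_c51)) = (LP (LK LD1_c16 LD2_c9 LD3_c4)) :=
  Lre_d IH (LK LD1_c26 LD2_c5 LD3_c51) (LK LD1_c16 LD2_c9 LD3_c4) Lrfl Lrfl
theorem f371168 : Led Lsl_gf (LP (LK LD1_c26 LD2_c5 LD3_c51)) = (LP (LK LD1_c25 LD2_c44 LD3_c43)) :=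
  Lgr Lrot143 (Lpr_dt (f301299 IH) (Lpe (K23.f301292 IH) (Lpe (K23.f301185 IH) (Lpe (K23.f347274 IH) (Lpr_df (K21.f306606 IH) (Lpe (K26.f305948 IH) (Lpe (f306616 IH) (Lpr_gt (K18.f301642 IH) (Lpr_dt (f371166 IH) (Lpn (LP (LK LD1_c25 LD2_c44 LD3_c43))))))))))))
theorem f326267 : Led Lsl_at (LP (LK LD1_c15 LD2_c27 LD3_c16)) = (LP (LK LD1_c14 LD2_c57 LD3_c24)) :=
  Lgr Lrot80 (Lpe (K23.f222012 IH) (Lpr_af (K30.f326083 IH) (Lpe (K23.f270763 IH) (Lpn (LP (LK LD1_c14 LD2_c57 LD3_c24))))))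
theorem f326269 : Led Lsl_af (LP (LK LD1_c25 LD2_c18 LD3_c59)) = (LP (LK LD1_c24 LD2_c44 LD3_c59)) :=
  Lgr Lrot117 (Lpr_dt (K23.f222025 IH) (Lpr_at (f326267 IH) (Lpr_dt (K23.f270764 IH) (Lpn (LP (LK LD1_c24 LD2_c44 LD3_c59))))))
theorem f326271 : Led Lsl_at (LP (LK LD1_c25 LD2_c18 LD3_c59)) = (LP (LK LD1_c24 LD2_c44 LD3_c59)) :=
  Lgr Lrot100 (Lpr_af (f326269 IH) (Lpn (LP (LK LD1_c24 LD2_c44 LD3_c59))))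
theorem f371170 : Led Lsl_ff (LP (LK LD1_c25 LD2_c18 LD3_c59)) = (LP (LK LD1_c25 LD2_c44 LD3_c43)) :=
  Lgr Lrot52 (Lpr_at (f326271 IH) (Lpr_gf (K23.f347255 IH) (Lpr_gf (f371168 IH) (Lpn (LP (LK LD1_c25 LD2_c44 LD3_c43))))))
theorem f371174 : Led Lsl_ft (LP (LK LD1_c25 LD2_c18 LD3_c59)) = (LP (LK LD1_c25 LD2_c44 LD3_c43)) :=
  Lgr Lrot48 (Lpr_ff (f371170 IH) (Lpn (LP (LK LD1_c25 LD2_c44 LD3_c43))))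
theorem f371176 : Led Lsl_ff (LP (LK LD1_c15 LD2_c27 LD3_c16)) = (LP (LK LD1_c17 LD2_c42 LD3_c9)) :=
  Lgr Lrot19 (Lpr_dt (K23.f53946 IH) (Lpr_ft (f371174 IH) (Lpe (f371161 IH) (Lpn (LP (LK LD1_c17 LD2_c42 LD3_c9))))))
theorem f306617 : Led Lsl_ct (LP (LK LD1_c4 LD2_c52 LD3_c13)) = (LP (LK LD1_c9 LD2_c36 LD3_c51)) :=
  Lre_c IH (LK LD1_c4 LD2_c52 LD3_c13) (LK LD1_c9 LD2_c36 LD3_c51) Lrfl Lrfl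
theorem f270531 : Led Lsl_ct (LP (LK LD1_c14 LD2_c57 LD3_c24)) = (LP (LK LD1_c7 LD2_c55 LD3_c44)) :=
  Lre_c IH (LK LD1_c14 LD2_c57 LD3_c24) (LK LD1_c7 LD2_c55 LD3_c44) Lrfl Lrfl
theorem f347320 : Led Lsl_gt (LP (LK LD1_c9 LD2_c36 LD3_c51)) = (LP (LK LD1_c14 LD2_c57 LD3_c24)) :=
  Lgr Lrot150 (Lpe (f306617 IH) (Lpe (K23.f301660 IH) (Lpe (K23.f305698 IH) (Lpr_gt (K23.f347274 IH) (Lpr_ct (K23.f301301 IH) (Lpr_gt (K23.f347312 IH) (Lpe (K18.f266666 IH) (Lpr_df (K16.f274526 IH) (Lpe (f270531 IH) (Lpn (LP (LK LD1_c14 LD2_c57 LD3_c24))))))))))))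
theorem f371192 : Led Lsl_gf (LP (LK LD1_c9 LD2_c36 LD3_c51)) = (LP (LK LD1_c17 LD2_c42 LD3_c9)) :=
  Lgr Lrot47 (Lpr_gt (f347320 IH) (Lpe (f326267 IH) (Lpr_ff (f371176 IH) (Lpn (LP (LK LD1_c17 LD2_c42 LD3_c9))))))
theorem f347324 : Led Lsl_dt (LP (LK LD1_c9 LD2_c36 LD3_c51)) = (LP (LK LD1_c17 LD2_c42 LD3_c15)) :=
  Lre_d IH (LK LD1_c9 LD2_c36 LD3_c51) (LK LD1_c17 LD2_c42 LD3_c15) Lrfl Lrfl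
theorem f875800 : Led Lsl_gf (LP (LK LD1_c26 LD2_c5 LD3_c48)) = (LP (LK LD1_c17 LD2_c42 LD3_c15)) :=
  Lgr Lrot143 (Lpr_dt (f324682 IH) (Lpr_cf (K23.f347205 IH) (Lpe (K21.f274490 IH) (Lpe (K25.f352783 IH) (Lpr_df (f875794 IH) (Lpe (f875791 IH) (Lpe (K18.f301643 IH) (Lpe (f371192 IH) (Lpr_dt (f347324 IH) (Lpn (LP (LK LD1_c17 LD2_c42 LD3_c15))))))))))))
theorem f875801 : Led Lsl_gt (LP (LK LD1_c17 LD2_c42 LD3_c15)) = (LP (LK LD1_c26 LD2_c5 LD3_c48)) :=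
  Leop (Lpr_gf (f875800 IH) (Lpn (LP (LK LD1_c17 LD2_c42 LD3_c15))))
theorem seed_2027 : LEOK LG_g (LK LD1_c17 LD2_c42 LD3_c15) :=
  Leoe_g (LK LD1_c17 LD2_c42 LD3_c15) (f875801 IH)
def v35573 : LQ := Led Lsl_at (LP (LK LD1_c7 LD2_c57 LD3_c22))
theorem f875915 : Led Lsl_at (LP (LK LD1_c7 LD2_c57 LD3_c22)) = v35573 :=
  Lrfl
theorem f875916 : Led Lsl_af (LP (LK LD1_c7 LD2_c57 LD3_c22)) = v35573 :=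
  Lgr Lrot0 (Lpr_at (f875915 IH) (Lpn v35573))
theorem f444842 : Led Lsl_gt (LP (LK LD1_c7 LD2_c57 LD3_c23)) = (LP (LK LD1_c3 LD2_c57 LD3_c61)) :=
  Lre_g IH (LK LD1_c7 LD2_c57 LD3_c23) (LK LD1_c3 LD2_c57 LD3_c61) Lrfl Lrfl
theorem f875919 : Led Lsl_ft (LP (LK LD1_c7 LD2_c57 LD3_c23)) = v35573 :=
  Lgr Lrot2 (Lpr_gt (f444842 IH) (Lpr_gt (K50.f38729 IH) (Lpr_af (f875916 IH) (Lpn v35573))))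
theorem f445592 : Led Lsl_ct (LP (LK LD1_c15 LD2_c0 LD3_c17)) = (LP (LK LD1_c7 LD2_c57 LD3_c23)) :=
  Lre_c IH (LK LD1_c15 LD2_c0 LD3_c17) (LK LD1_c7 LD2_c57 LD3_c23) Lrfl Lrfl
theorem f503093 : Led Lsl_dt (LP (LK LD1_c8 LD2_c46 LD3_c37)) = (LP (LK LD1_c9 LD2_c47 LD3_c6)) :=
  Lgr Lrot42 (Lpr_df (K32.f503088 IH) (Lpn (LP (LK LD1_c9 LD2_c47 LD3_c6))))
theorem f553984 : Led Lsl_bt (LP (LK LD1_c15 LD2_c7 LD3_c52)) = (LP (LK LD1_c8 LD2_c46 LD3_c37)) :=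
  Lgr Lrot95 (Lpr_df (K39.f553980 IH) (Lpe (K55.f453415 IH) (Lpe (f503093 IH) (Lpn (LP (LK LD1_c8 LD2_c46 LD3_c37))))))
theorem f755518 : Led Lsl_bt (LP (LK LD1_c13 LD2_c52 LD3_c45)) = (LP (LK LD1_c20 LD2_c24 LD3_c31)) :=
  Lgr Lrot128 (Lpr_cf (K64.f560146 IH) (Lpe (f553984 IH) (Lpe (K53.f618509 IH) (Lpr_bf (K48.f559306 IH) (Lpr_cf (K64.f755514 IH) (Lpn (LP (LK LD1_c20 LD2_c24 LD3_c31))))))))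
theorem f123305 : Led Lsl_bt (LP (LK LD1_c14 LD2_c48 LD3_c56)) = (LP (LK LD1_c7 LD2_c51 LD3_c23)) :=
  Lre_b IH (LK LD1_c14 LD2_c48 LD3_c56) (LK LD1_c7 LD2_c51 LD3_c23) Lrfl Lrfl
theorem f144582 : Led Lsl_gt (LP (LK LD1_c7 LD2_c51 LD3_c23)) = (LP (LK LD1_c3 LD2_c55 LD3_c10)) :=
  Lre_g IH (LK LD1_c7 LD2_c51 LD3_c23) (LK LD1_c3 LD2_c55 LD3_c10) Lrfl Lrfl
theorem f122952 : Led Lsl_bt (LP (LK LD1_c7 LD2_c52 LD3_c5)) = (LP (LK LD1_c3 LD2_c55 LD3_c10)) :=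
  Lre_b IH (LK LD1_c7 LD2_c52 LD3_c5) (LK LD1_c3 LD2_c55 LD3_c10) Lrfl Lrfl
theorem f122953 : Led Lsl_ct (LP (LK LD1_c7 LD2_c52 LD3_c5)) = (LP (LK LD1_c14 LD2_c50 LD3_c29)) :=
  Lre_c IH (LK LD1_c7 LD2_c52 LD3_c5) (LK LD1_c14 LD2_c50 LD3_c29) Lrfl Lrfl
theorem f755540 : Led Lsl_gf (LP (LK LD1_c8 LD2_c46 LD3_c37)) = (LP (LK LD1_c14 LD2_c50 LD3_c29)) :=
  Lgr Lrot126 (Lpe (K64.f617964 IH) (Lpr_bt (f755518 IH) (Lpr_gt (K64.f615553 IH) (Lpr_ct (K57.f615517 IH) (Lpr_gt (K55.f438267 IH) (Lpr_cf (K48.f615540 IH) (Lpr_bt (f123305 IH) (Lpr_gt (f144582 IH) (Lpe (f122952 IH) (Lpr_ct (f122953 IH) (Lpn (LP (LK LD1_c14 LD2_c50 LD3_c29)))))))))))))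
theorem f30786 : Led Lsl_at (LP (LK LD1_c15 LD2_c7 LD3_c52)) = (LP (LK LD1_c8 LD2_c2 LD3_c30)) :=
  Lre_a IH (LK LD1_c15 LD2_c7 LD3_c52) (LK LD1_c8 LD2_c2 LD3_c30) Lrfl Lrfl
theorem f36808 : Led Lsl_af (LP (LK LD1_c3 LD2_c3 LD3_c38)) = (LP (LK LD1_c4 LD2_c0 LD3_c54)) :=
  Lgr Lrot68 (Lpr_ct (K1.f36805 IH) (Lpr_at (K1.f29996 IH) (Lpr_ct (K40.f30046 IH) (Lpn (LP (LK LD1_c4 LD2_c0 LD3_c54))))))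
theorem f36830 : Led Lsl_bt (LP (LK LD1_c3 LD2_c3 LD3_c38)) = (LP (LK LD1_c6 LD2_c13 LD3_c33)) :=
  Lre_b IH (LK LD1_c3 LD2_c3 LD3_c38) (LK LD1_c6 LD2_c13 LD3_c33) Lrfl Lrfl
theorem f553995 : Led Lsl_at (LP (LK LD1_c6 LD2_c13 LD3_c33)) = (LP (LK LD1_c8 LD2_c46 LD3_c37)) :=
  Lgr Lrot67 (Lpe (f36830 IH) (Lpr_af (f36808 IH) (Lpe (K53.f30771 IH) (Lpe (f30786 IH) (Lpr_bf (K39.f553992 IH) (Lpn (LP (LK LD1_c8 LD2_c46 LD3_c37))))))))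
theorem f445763 : Led Lsl_ft (LP (LK LD1_c12 LD2_c5 LD3_c54)) = (LP (LK LD1_c6 LD2_c13 LD3_c33)) :=
  Lre_f IH (LK LD1_c12 LD2_c5 LD3_c54) (LK LD1_c6 LD2_c13 LD3_c33) Lrfl Lrfl
theorem f755542 : Led Lsl_gt (LP (LK LD1_c12 LD2_c5 LD3_c54)) = (LP (LK LD1_c14 LD2_c50 LD3_c29)) :=
  Lgr Lrot5 (Lpr_ft (f445763 IH) (Lpr_at (f553995 IH) (Lpr_gf (f755540 IH) (Lpn (LP (LK LD1_c14 LD2_c50 LD3_c29))))))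
theorem f36838 : Led Lsl_bt (LP (LK LD1_c6 LD2_c13 LD3_c37)) = (LP (LK LD1_c12 LD2_c5 LD3_c54)) :=
  Lre_b IH (LK LD1_c6 LD2_c13 LD3_c37) (LK LD1_c12 LD2_c5 LD3_c54) Lrfl Lrfl
theorem f16543 : Led Lsl_bt (LP (LK LD1_c4 LD2_c26 LD3_c25)) = (LP (LK LD1_c2 LD2_c10 LD3_c35)) :=
  Lre_b IH (LK LD1_c4 LD2_c26 LD3_c25) (LK LD1_c2 LD2_c10 LD3_c35) Lrfl Lrfl
theorem f445130 : Led Lsl_ct (LP (LK LD1_c4 LD2_c26 LD3_c25)) = (LP (LK LD1_c8 LD2_c50 LD3_c9)) :=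
  Lre_c IH (LK LD1_c4 LD2_c26 LD3_c25) (LK LD1_c8 LD2_c50 LD3_c9) Lrfl Lrfl
theorem f755546 : Led Lsl_bt (LP (LK LD1_c24 LD2_c36 LD3_c43)) = (LP (LK LD1_c14 LD2_c50 LD3_c29)) :=
  Lre_b IH (LK LD1_c24 LD2_c36 LD3_c43) (LK LD1_c14 LD2_c50 LD3_c29) Lrfl Lrfl
theorem f755548 : Led Lsl_ct (LP (LK LD1_c24 LD2_c36 LD3_c43)) = (LP (LK LD1_c14 LD2_c50 LD3_c32)) :=
  Lre_c IH (LK LD1_c24 LD2_c36 LD3_c43) (LK LD1_c14 LD2_c50 LD3_c32) Lrfl Lrfl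
theorem f755562 : Led Lsl_gf (LP (LK LD1_c8 LD2_c50 LD3_c9)) = (LP (LK LD1_c14 LD2_c50 LD3_c32)) :=
  Lgr Lrot126 (Lpe (f445130 IH) (Lpr_bt (f16543 IH) (Lpr_gt (K1.f16422 IH) (Lpe (K37.f444835 IH) (Lpe (K37.f30628 IH) (Lpe (K37.f36842 IH) (Lpr_bt (f36838 IH) (Lpr_gt (f755542 IH) (Lpe (f755546 IH) (Lpr_ct (f755548 IH) (Lpn (LP (LK LD1_c14 LD2_c50 LD3_c32)))))))))))))
theorem f38703 : Led Lsl_ct (LP (LK LD1_c3 LD2_c57 LD3_c61)) = (LP (LK LD1_c7 LD2_c57 LD3_c21)) :=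
  Lre_c IH (LK LD1_c3 LD2_c57 LD3_c61) (LK LD1_c7 LD2_c57 LD3_c21) Lrfl Lrfl
theorem f38704 : Led Lsl_ct (LP (LK LD1_c8 LD2_c50 LD3_c9)) = (LP (LK LD1_c4 LD2_c26 LD3_c25)) :=
  Lre_c IH (LK LD1_c8 LD2_c50 LD3_c9) (LK LD1_c4 LD2_c26 LD3_c25) Lrfl Lrfl
theorem f38705 : Led Lsl_bt (LP (LK LD1_c7 LD2_c57 LD3_c21)) = (LP (LK LD1_c8 LD2_c50 LD3_c9)) :=
  Lgr Lrot128 (Lpe (f38703 IH) (Lpe (K50.f38702 IH) (Lpr_cf (K1.f38698 IH) (Lpe (f16543 IH) (Lpe (f38704 IH) (Lpn (LP (LK LD1_c8 LD2_c50 LD3_c9))))))))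
theorem f445485 : Led Lsl_ct (LP (LK LD1_c7 LD2_c57 LD3_c21)) = (LP (LK LD1_c3 LD2_c57 LD3_c61)) :=
  Lre_c IH (LK LD1_c7 LD2_c57 LD3_c21) (LK LD1_c3 LD2_c57 LD3_c61) Lrfl Lrfl
theorem f144626 : Led Lsl_bt (LP (LK LD1_c7 LD2_c52 LD3_c6)) = (LP (LK LD1_c14 LD2_c50 LD3_c32)) :=
  Lre_b IH (LK LD1_c7 LD2_c52 LD3_c6) (LK LD1_c14 LD2_c50 LD3_c32) Lrfl Lrfl
theorem f144625 : Led Lsl_ct (LP (LK LD1_c7 LD2_c52 LD3_c6)) = (LP (LK LD1_c3 LD2_c55 LD3_c10)) :=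
  Lre_c IH (LK LD1_c7 LD2_c52 LD3_c6) (LK LD1_c3 LD2_c55 LD3_c10) Lrfl Lrfl
theorem f144540 : Led Lsl_at (LP (LK LD1_c7 LD2_c52 LD3_c0)) = (LP (LK LD1_c6 LD2_c42 LD3_c17)) :=
  Lgr Lrot100 (Lpr_af (K56.f144537 IH) (Lpn (LP (LK LD1_c6 LD2_c42 LD3_c17))))
theorem f144576 : Led Lsl_ft (LP (LK LD1_c3 LD2_c55 LD3_c8)) = (LP (LK LD1_c7 LD2_c52 LD3_c0)) :=
  Lre_f IH (LK LD1_c3 LD2_c55 LD3_c8) (LK LD1_c7 LD2_c52 LD3_c0) Lrfl Lrfl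
theorem f122973 : Led Lsl_gt (LP (LK LD1_c3 LD2_c55 LD3_c8)) = (LP (LK LD1_c7 LD2_c51 LD3_c59)) :=
  Lre_g IH (LK LD1_c3 LD2_c55 LD3_c8) (LK LD1_c7 LD2_c51 LD3_c59) Lrfl Lrfl
theorem f144628 : Led Lsl_gt (LP (LK LD1_c7 LD2_c51 LD3_c59)) = (LP (LK LD1_c6 LD2_c42 LD3_c17)) :=
  Lgr Lrot46 (Lpe (f122973 IH) (Lpr_ft (f144576 IH) (Lpr_at (f144540 IH) (Lpn (LP (LK LD1_c6 LD2_c42 LD3_c17))))))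
theorem f122974 : Led Lsl_bt (LP (LK LD1_c14 LD2_c50 LD3_c6)) = (LP (LK LD1_c7 LD2_c51 LD3_c59)) :=
  Lre_b IH (LK LD1_c14 LD2_c50 LD3_c6) (LK LD1_c7 LD2_c51 LD3_c59) Lrfl Lrfl
theorem f755566 : Led Lsl_cf (LP (LK LD1_c7 LD2_c57 LD3_c22)) = (LP (LK LD1_c14 LD2_c50 LD3_c6)) :=
  Lgr Lrot58 (Lpe (K50.f38729 IH) (Lpe (f445485 IH) (Lpr_bt (f38705 IH) (Lpr_gf (f755562 IH) (Lpe (f144626 IH) (Lpr_ct (f144625 IH) (Lpe (f144582 IH) (Lpr_cf (K57.f144612 IH) (Lpe (f144628 IH) (Lpe (f122974 IH) (Lpn (LP (LK LD1_c14 LD2_c50 LD3_c6)))))))))))))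
theorem f755568 : Led Lsl_at (LP (LK LD1_c24 LD2_c36 LD3_c23)) = (LP (LK LD1_c14 LD2_c50 LD3_c6)) :=
  Lre_a IH (LK LD1_c24 LD2_c36 LD3_c23) (LK LD1_c14 LD2_c50 LD3_c6) Lrfl Lrfl
theorem f875917 : Led Lsl_cf (LP (LK LD1_c24 LD2_c36 LD3_c23)) = v35573 :=
  Lgr Lrot1 (Lpr_at (f755568 IH) (Lpe (f755566 IH) (Lpr_at (f875915 IH) (Lpn v35573))))
theorem f875921 : Led Lsl_ff (LP (LK LD1_c15 LD2_c0 LD3_c17)) = (LP (LK LD1_c24 LD2_c36 LD3_c23)) :=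
  Lgr Lrot23 (Lpr_ct (f445592 IH) (Lpr_ft (f875919 IH) (Lpe (f875917 IH) (Lpn (LP (LK LD1_c24 LD2_c36 LD3_c23))))))
theorem f875922 : Led Lsl_ft (LP (LK LD1_c24 LD2_c36 LD3_c23)) = (LP (LK LD1_c15 LD2_c0 LD3_c17)) :=
  Leop (Lpr_ff (f875921 IH) (Lpn (LP (LK LD1_c24 LD2_c36 LD3_c23))))
theorem seed_2028 : LEOK LG_f (LK LD1_c24 LD2_c36 LD3_c23) :=
  Leoe_f (LK LD1_c24 LD2_c36 LD3_c23) (f875922 IH)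
def v35627 : LQ := Led Lsl_dt (LP (LK LD1_c7 LD2_c59 LD3_c43))
theorem f876149 : Led Lsl_dt (LP (LK LD1_c7 LD2_c59 LD3_c43)) = v35627 :=
  Lrfl
theorem f876150 : Led Lsl_df (LP (LK LD1_c7 LD2_c59 LD3_c43)) = v35627 :=
  Lgr Lrot38 (Lpr_dt (f876149 IH) (Lpn v35627))
theorem f40514 : Led Lsl_gt (LP (LK LD1_c7 LD2_c59 LD3_c43)) = (LP (LK LD1_c3 LD2_c59 LD3_c9)) :=
  Lre_g IH (LK LD1_c7 LD2_c59 LD3_c43) (LK LD1_c3 LD2_c59 LD3_c9) Lrfl Lrfl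
theorem f150012 : Led Lsl_dt (LP (LK LD1_c1 LD2_c56 LD3_c34)) = (LP (LK LD1_c3 LD2_c59 LD3_c9)) :=
  Lre_d IH (LK LD1_c1 LD2_c56 LD3_c34) (LK LD1_c3 LD2_c59 LD3_c9) Lrfl Lrfl
theorem f73967 : Led Lsl_et (LP (LK LD1_c2 LD2_c52 LD3_c5)) = (LP (LK LD1_c5 LD2_c51 LD3_c43)) :=
  Lre_e IH (LK LD1_c2 LD2_c52 LD3_c5) (LK LD1_c5 LD2_c51 LD3_c43) Lrfl Lrfl
theorem f876151 : Led Lsl_ef (LP (LK LD1_c11 LD2_c30 LD3_c42)) = v35627 :=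
  Lgr Lrot17 (Lpe (K55.f73968 IH) (Lpe (f73967 IH) (Lpe (K8.f73965 IH) (Lpr_gf (K8.f73295 IH) (Lpr_df (K8.f149985 IH) (Lpe (K7.f36254 IH) (Lpe (K17.f150011 IH) (Lpr_dt (f150012 IH) (Lpe (f40514 IH) (Lpr_df (f876150 IH) (Lpn v35627)))))))))))
theorem f876153 : Led Lsl_et (LP (LK LD1_c11 LD2_c30 LD3_c42)) = v35627 :=
  Lgr Lrot87 (Lpr_ef (f876151 IH) (Lpn v35627))
theorem f119883 : Led Lsl_et (LP (LK LD1_c20 LD2_c22 LD3_c47)) = (LP (LK LD1_c11 LD2_c25 LD3_c15)) :=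
  Lre_e IH (LK LD1_c20 LD2_c22 LD3_c47) (LK LD1_c11 LD2_c25 LD3_c15) Lrfl Lrfl
theorem f876154 : Led Lsl_bf (LP (LK LD1_c20 LD2_c22 LD3_c47)) = v35627 :=
  Lgr Lrot96 (Lpr_et (f119883 IH) (Lpe (K55.f747459 IH) (Lpr_et (f876153 IH) (Lpn v35627))))
theorem f40515 : Led Lsl_bt (LP (LK LD1_c15 LD2_c4 LD3_c27)) = (LP (LK LD1_c7 LD2_c59 LD3_c43)) :=
  Lre_b IH (LK LD1_c15 LD2_c4 LD3_c27) (LK LD1_c7 LD2_c59 LD3_c43) Lrfl Lrfl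
theorem f876155 : Led Lsl_dt (LP (LK LD1_c20 LD2_c22 LD3_c47)) = (LP (LK LD1_c15 LD2_c4 LD3_c27)) :=
  Lgr Lrot79 (Lpr_bf (f876154 IH) (Lpe (f876149 IH) (Lpe (f40515 IH) (Lpn (LP (LK LD1_c15 LD2_c4 LD3_c27))))))
theorem f876156 : Led Lsl_dt (LP (LK LD1_c20 LD2_c22 LD3_c47)) = (LP (LK LD1_c15 LD2_c4 LD3_c27)) :=
  Leop (Lpe (f876155 IH) (Lpn (LP (LK LD1_c20 LD2_c22 LD3_c47))))
theorem seed_2029 : LEOK LG_d (LK LD1_c20 LD2_c22 LD3_c47) :=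
  Leoe_d (LK LD1_c20 LD2_c22 LD3_c47) (f876156 IH)
def v35646 : LQ := Led Lsl_gf (LP (LK LD1_c8 LD2_c0 LD3_c3))
theorem f876268 : Led Lsl_gf (LP (LK LD1_c8 LD2_c0 LD3_c3)) = v35646 :=
  Lrfl
theorem f139428 : Led Lsl_ct (LP (LK LD1_c3 LD2_c59 LD3_c25)) = (LP (LK LD1_c8 LD2_c0 LD3_c3)) :=
  Lre_c IH (LK LD1_c3 LD2_c59 LD3_c25) (LK LD1_c8 LD2_c0 LD3_c3) Lrfl Lrfl
theorem f689181 : Led Lsl_ef (LP (LK LD1_c3 LD2_c59 LD3_c17)) = K66.v12283 :=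
  Lgr Lrot88 (Lpr_et (K66.f689177 IH) (Lpn K66.v12283))
theorem f689183 : Led Lsl_bt (LP (LK LD1_c3 LD2_c59 LD3_c25)) = K66.v12283 :=
  Lgr Lrot119 (Lpe (K57.f101698 IH) (Lpe (K58.f139394 IH) (Lpr_ef (f689181 IH) (Lpn K66.v12283))))
theorem f744419 : Led Lsl_gt K66.v12283 = K66.v15960 :=
  Lgr Lrot131 (Lpe (K66.f689177 IH) (Lpr_dt (K6.f139374 IH) (Lpr_gf (K8.f150384 IH) (Lpe (K8.f72586 IH) (Lpe (K8.f150391 IH) (Lpe (K42.f150393 IH) (Lpr_dt (K42.f570770 IH) (Lpqs (K46.f643532 IH) (Lpe (K46.f640672 IH) (Lpe (K35.f500046 IH) (Lpr_et (K66.f744416 IH) (Lpn K66.v15960))))))))))))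
def v13003 : LQ := Led Lsl_gf (LP (LK LD1_c4 LD2_c36 LD3_c48))
theorem f700138 : Led Lsl_gf (LP (LK LD1_c4 LD2_c36 LD3_c48)) = v13003 :=
  Lrfl
theorem f824952 : Led Lsl_bt (LP (LK LD1_c11 LD2_c40 LD3_c31)) = v13003 :=
  Lgr Lrot130 (Lpr_ct (K66.f824950 IH) (Lpe (K66.f824949 IH) (Lpe (K66.f640713 IH) (Lpr_bt (K7.f22260 IH) (Lpr_gf (K49.f494347 IH) (Lpqs (K49.f535846 IH) (Lpr_bf (K66.f627776 IH) (Lpr_ct (K66.f685931 IH) (Lpr_gf (K66.f700133 IH) (Lpe (K66.f700131 IH) (Lpr_gf (f700138 IH) (Lpn v13003))))))))))))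
theorem f824953 : Led Lsl_bf (LP (LK LD1_c11 LD2_c40 LD3_c31)) = v13003 :=
  Lgr Lrot24 (Lpr_bt (f824952 IH) (Lpn v13003))
theorem f876270 : Led Lsl_ct v13003 = v35646 :=
  Lgr Lrot64 (Lpe (f824953 IH) (Lpr_gf (K66.f747089 IH) (Lpe (K55.f747080 IH) (Lpr_ct (K66.f747091 IH) (Lpe (K66.f747100 IH) (Lpr_cf (K66.f744423 IH) (Lpe (f744419 IH) (Lpe (f689183 IH) (Lpr_ct (f139428 IH) (Lpr_gf (f876268 IH) (Lpn v35646)))))))))))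
theorem f713217 : Led Lsl_at (LP (LK LD1_c11 LD2_c29 LD3_c37)) = (LP (LK LD1_c5 LD2_c51 LD3_c26)) :=
  Lgr Lrot100 (Lpr_af (K55.f713215 IH) (Lpn (LP (LK LD1_c5 LD2_c51 LD3_c26))))
theorem f22327 : Led Lsl_ct (LP (LK LD1_c5 LD2_c51 LD3_c4)) = (LP (LK LD1_c11 LD2_c29 LD3_c37)) :=
  Lre_c IH (LK LD1_c5 LD2_c51 LD3_c4) (LK LD1_c11 LD2_c29 LD3_c37) Lrfl Lrfl
theorem f713127 : Led Lsl_ff (LP (LK LD1_c5 LD2_c51 LD3_c30)) = (LP (LK LD1_c11 LD2_c29 LD3_c37)) :=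
  Lgr Lrot23 (Lpr_ct (K55.f22302 IH) (Lpr_ft (K53.f640705 IH) (Lpqs (K53.f713120 IH) (Lpr_ct (f22327 IH) (Lpn (LP (LK LD1_c11 LD2_c29 LD3_c37)))))))
theorem f713134 : Led Lsl_ft (LP (LK LD1_c5 LD2_c51 LD3_c30)) = (LP (LK LD1_c11 LD2_c29 LD3_c37)) :=
  Lgr Lrot48 (Lpr_ff (f713127 IH) (Lpn (LP (LK LD1_c11 LD2_c29 LD3_c37))))
theorem f713221 : Led Lsl_gt (LP (LK LD1_c11 LD2_c29 LD3_c46)) = (LP (LK LD1_c5 LD2_c51 LD3_c26)) :=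
  Lgr Lrot46 (Lpe (K55.f710289 IH) (Lpr_ft (f713134 IH) (Lpr_at (f713217 IH) (Lpn (LP (LK LD1_c5 LD2_c51 LD3_c26))))))
theorem f640703 : Led Lsl_bt (LP (LK LD1_c2 LD2_c51 LD3_c59)) = (LP (LK LD1_c5 LD2_c51 LD3_c25)) :=
  Lre_b IH (LK LD1_c2 LD2_c51 LD3_c59) (LK LD1_c5 LD2_c51 LD3_c25) Lrfl Lrfl
theorem f615533 : Led Lsl_gt (LP (LK LD1_c5 LD2_c51 LD3_c25)) = (LP (LK LD1_c11 LD2_c30 LD3_c15)) :=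
  Lre_g IH (LK LD1_c5 LD2_c51 LD3_c25) (LK LD1_c11 LD2_c30 LD3_c15) Lrfl Lrfl
def v15803 : LQ := Led Lsl_et (LP (LK LD1_c5 LD2_c47 LD3_c29))
theorem f741665 : Led Lsl_et (LP (LK LD1_c5 LD2_c47 LD3_c29)) = v15803 :=
  Lrfl
theorem f139435 : Led Lsl_et (LP (LK LD1_c8 LD2_c0 LD3_c3)) = (LP (LK LD1_c3 LD2_c59 LD3_c24)) :=
  Lre_e IH (LK LD1_c8 LD2_c0 LD3_c3) (LK LD1_c3 LD2_c59 LD3_c24) Lrfl Lrfl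
theorem f741666 : Led Lsl_af (LP (LK LD1_c8 LD2_c0 LD3_c3)) = v15803 :=
  Lgr Lrot50 (Lpr_et (f139435 IH) (Lpr_at (K6.f139418 IH) (Lpr_et (f741665 IH) (Lpn v15803))))
def v16038 : LQ := Led Lsl_ct (LP (LK LD1_c5 LD2_c51 LD3_c58))
theorem f744944 : Led Lsl_ct (LP (LK LD1_c5 LD2_c51 LD3_c58)) = v16038 :=
  Lrfl
theorem f744945 : Led Lsl_cf (LP (LK LD1_c5 LD2_c51 LD3_c58)) = v16038 :=
  Lgr Lrot11 (Lpr_ct (f744944 IH) (Lpn v16038))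
theorem f82967 : Led Lsl_ct (LP (LK LD1_c6 LD2_c30 LD3_c20)) = (LP (LK LD1_c12 LD2_c30 LD3_c2)) :=
  Lre_c IH (LK LD1_c6 LD2_c30 LD3_c20) (LK LD1_c12 LD2_c30 LD3_c2) Lrfl Lrfl
theorem f826776 : Led Lsl_ef v16038 = (LP (LK LD1_c12 LD2_c30 LD3_c2)) :=
  Lgr Lrot28 (Lpe (f744945 IH) (Lpq (K65.f826761 IH) (Lpe (K57.f741673 IH) (Lpr_ct (f82967 IH) (Lpn (LP (LK LD1_c12 LD2_c30 LD3_c2)))))))
theorem f157646 : Led Lsl_et (LP (LK LD1_c3 LD2_c59 LD3_c34)) = (LP (LK LD1_c8 LD2_c0 LD3_c16)) :=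
  Lre_e IH (LK LD1_c3 LD2_c59 LD3_c34) (LK LD1_c8 LD2_c0 LD3_c16) Lrfl Lrfl
theorem f741668 : Led Lsl_ef (LP (LK LD1_c5 LD2_c47 LD3_c29)) = v15803 :=
  Lgr Lrot88 (Lpr_et (f741665 IH) (Lpn v15803))
theorem f826778 : Led Lsl_ft v16038 = v15803 :=
  Lgr Lrot86 (Lpr_ef (f826776 IH) (Lpe (K53.f641807 IH) (Lpe (f157646 IH) (Lpr_ff (K8.f157659 IH) (Lpr_ef (f741668 IH) (Lpn v15803))))))
theorem f876269 : Led Lsl_gt v16038 = v35646 :=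
  Lgr Lrot5 (Lpr_ft (f826778 IH) (Lpe (f741666 IH) (Lpr_gf (f876268 IH) (Lpn v35646))))
def v16037 : LQ := Led Lsl_bt (LP (LK LD1_c5 LD2_c51 LD3_c58))
theorem f744942 : Led Lsl_bt (LP (LK LD1_c5 LD2_c51 LD3_c58)) = v16037 :=
  Lrfl
theorem f876273 : (LP (LK LD1_c11 LD2_c30 LD3_c15)) = v16037 :=
  (Llr Lrot164 (Lpe (f615533 IH) (Lpe (f640703 IH) (Lpr_ct (K55.f22304 IH) (Lpe (f713221 IH) (Lpr_cf (K55.f206012 IH) (Lpe (K66.f72411 IH) (Lpr_bf (f824953 IH) (Lpr_ct (f876270 IH) (Lpe (f876269 IH) (Lpe (f744944 IH) (Lpr_bt (f744942 IH) (Lpn v16037))))))))))))).symm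
theorem f744943 : Led Lsl_bf (LP (LK LD1_c5 LD2_c51 LD3_c58)) = v16037 :=
  Lgr Lrot24 (Lpr_bt (f744942 IH) (Lpn v16037))
theorem f876274 : Led Lsl_bt (LP (LK LD1_c11 LD2_c30 LD3_c15)) = (LP (LK LD1_c5 LD2_c51 LD3_c58)) :=
  Leop (Lpr_bf (f744943 IH) (Lpq (f876273 IH) (Lpn (LP (LK LD1_c11 LD2_c30 LD3_c15)))))
theorem seed_2030 : LEOK LG_b (LK LD1_c11 LD2_c30 LD3_c15) :=
  Leoe_b (LK LD1_c11 LD2_c30 LD3_c15) (f876274 IH)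
def v35658 : LQ := Led Lsl_at (LP (LK LD1_c8 LD2_c0 LD3_c22))
theorem f876343 : Led Lsl_at (LP (LK LD1_c8 LD2_c0 LD3_c22)) = v35658 :=
  Lrfl
theorem f876344 : Led Lsl_af (LP (LK LD1_c8 LD2_c0 LD3_c22)) = v35658 :=
  Lgr Lrot0 (Lpr_at (f876343 IH) (Lpn v35658))
theorem f876345 : Led Lsl_ft (LP (LK LD1_c8 LD2_c0 LD3_c23)) = v35658 :=
  Lgr Lrot2 (Lpr_gt (K9.f101683 IH) (Lpr_gt (K52.f99585 IH) (Lpr_af (f876344 IH) (Lpn v35658))))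
theorem f876347 : Led Lsl_ff (LP (LK LD1_c8 LD2_c0 LD3_c23)) = v35658 :=
  Lgr Lrot3 (Lpr_ft (f876345 IH) (Lpn v35658))
theorem f140216 : Led Lsl_bf (LP (LK LD1_c6 LD2_c0 LD3_c56)) = (LP (LK LD1_c8 LD2_c0 LD3_c23)) :=
  Lgr Lrot24 (Lpr_bt (K9.f140187 IH) (Lpn (LP (LK LD1_c8 LD2_c0 LD3_c23))))
theorem f876348 : Led Lsl_bt K56.v16440 = v35658 :=
  Lgr Lrot35 (Lpe (K56.f749381 IH) (Lpr_bf (f140216 IH) (Lpr_ff (f876347 IH) (Lpn v35658))))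
theorem f641480 : Led Lsl_bt (LP (LK LD1_c11 LD2_c46 LD3_c14)) = (LP (LK LD1_c6 LD2_c0 LD3_c53)) :=
  Lre_b IH (LK LD1_c11 LD2_c46 LD3_c14) (LK LD1_c6 LD2_c0 LD3_c53) Lrfl Lrfl
theorem f712631 : Led Lsl_bt (LP (LK LD1_c8 LD2_c0 LD3_c22)) = (LP (LK LD1_c15 LD2_c5 LD3_c2)) :=
  Lre_b IH (LK LD1_c8 LD2_c0 LD3_c22) (LK LD1_c15 LD2_c5 LD3_c2) Lrfl Lrfl
theorem f876349 : Led Lsl_af (LP (LK LD1_c11 LD2_c46 LD3_c14)) = (LP (LK LD1_c15 LD2_c5 LD3_c2)) :=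
  Lgr Lrot36 (Lpr_bt (f641480 IH) (Lpr_at (K56.f749377 IH) (Lpr_bt (f876348 IH) (Lpe (f876344 IH) (Lpr_bt (f712631 IH) (Lpn (LP (LK LD1_c15 LD2_c5 LD3_c2))))))))
theorem f876350 : Led Lsl_at (LP (LK LD1_c15 LD2_c5 LD3_c2)) = (LP (LK LD1_c11 LD2_c46 LD3_c14)) :=
  Leop (Lpr_af (f876349 IH) (Lpn (LP (LK LD1_c15 LD2_c5 LD3_c2))))
theorem seed_2031 : LEOK LG_a (LK LD1_c15 LD2_c5 LD3_c2) :=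
  Leoe_a (LK LD1_c15 LD2_c5 LD3_c2) (f876350 IH)
def v35659 : LQ := Led Lsl_dt (LP (LK LD1_c8 LD2_c0 LD3_c22))
theorem f876540 : Led Lsl_dt (LP (LK LD1_c8 LD2_c0 LD3_c22)) = v35659 :=
  Lrfl
theorem f876353 : Led Lsl_ft (LP (LK LD1_c8 LD2_c0 LD3_c48)) = (LP (LK LD1_c15 LD2_c5 LD3_c2)) :=
  Lgr Lrot2 (Lpr_gt (K55.f739825 IH) (Lpr_gt (K52.f713018 IH) (Lpr_af (f876349 IH) (Lpn (LP (LK LD1_c15 LD2_c5 LD3_c2))))))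
def v12298 : LQ := Led Lsl_at (LP (LK LD1_c3 LD2_c59 LD3_c50))
theorem f689241 : Led Lsl_at (LP (LK LD1_c3 LD2_c59 LD3_c50)) = v12298 :=
  Lrfl
theorem f689242 : Led Lsl_af (LP (LK LD1_c3 LD2_c59 LD3_c50)) = v12298 :=
  Lgr Lrot0 (Lpr_at (f689241 IH) (Lpn v12298))
theorem f689244 : Led Lsl_ft (LP (LK LD1_c3 LD2_c59 LD3_c51)) = v12298 :=
  Lgr Lrot2 (Lpr_gt (K66.f40484 IH) (Lpr_gt (K24.f40479 IH) (Lpr_af (f689242 IH) (Lpn v12298))))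
theorem f689246 : Led Lsl_ff (LP (LK LD1_c3 LD2_c59 LD3_c51)) = v12298 :=
  Lgr Lrot3 (Lpr_ft (f689244 IH) (Lpn v12298))
theorem f876357 : v12298 = (LP (LK LD1_c8 LD2_c0 LD3_c22)) :=
  (Llr Lrot25 (Lpe (f689246 IH) (Lpr_bt (K55.f689247 IH) (Lpr_ft (f876353 IH) (Lpr_bt (K52.f40508 IH) (Lpn (LP (LK LD1_c8 LD2_c0 LD3_c22)))))))).symm
theorem f427685 : Led Lsl_dt (LP (LK LD1_c8 LD2_c0 LD3_c50)) = (LP (LK LD1_c3 LD2_c59 LD3_c51)) :=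
  Lre_d IH (LK LD1_c8 LD2_c0 LD3_c50) (LK LD1_c3 LD2_c59 LD3_c51) Lrfl Lrfl
theorem f876543 : Led Lsl_ff (LP (LK LD1_c8 LD2_c0 LD3_c50)) = v35659 :=
  Lgr Lrot19 (Lpr_dt (f427685 IH) (Lpr_ft (f689244 IH) (Lpqs (f876357 IH) (Lpr_dt (f876540 IH) (Lpn v35659)))))
theorem f876546 : Led Lsl_ft (LP (LK LD1_c8 LD2_c0 LD3_c50)) = v35659 :=
  Lgr Lrot48 (Lpr_ff (f876543 IH) (Lpn v35659))
theorem f876360 : (LP (LK LD1_c3 LD2_c59 LD3_c50)) = v35658 :=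
  Lefun (Lecon (Lfl_af (f689242 IH)) (f876357 IH)) (f876343 IH)
theorem f415978 : Led Lsl_dt (LP (LK LD1_c8 LD2_c0 LD3_c46)) = (LP (LK LD1_c3 LD2_c59 LD3_c50)) :=
  Lre_d IH (LK LD1_c8 LD2_c0 LD3_c46) (LK LD1_c3 LD2_c59 LD3_c50) Lrfl Lrfl
theorem f876541 : Led Lsl_af (LP (LK LD1_c8 LD2_c0 LD3_c46)) = v35659 :=
  Lgr Lrot117 (Lpr_dt (f415978 IH) (Lpqs (f876360 IH) (Lpe (f876344 IH) (Lpr_dt (f876540 IH) (Lpn v35659)))))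
theorem f876547 : Led Lsl_gt (LP (LK LD1_c8 LD2_c0 LD3_c50)) = (LP (LK LD1_c15 LD2_c5 LD3_c28)) :=
  Lgr Lrot5 (Lpr_ft (f876546 IH) (Lpe (f876541 IH) (Lpe (K52.f711199 IH) (Lpn (LP (LK LD1_c15 LD2_c5 LD3_c28))))))
theorem f876548 : Led Lsl_gt (LP (LK LD1_c8 LD2_c0 LD3_c50)) = (LP (LK LD1_c15 LD2_c5 LD3_c28)) :=
  Leop (Lpe (f876547 IH) (Lpn (LP (LK LD1_c8 LD2_c0 LD3_c50))))
theorem seed_2032 : LEOK LG_g (LK LD1_c8 LD2_c0 LD3_c50) :=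
  Leoe_g (LK LD1_c8 LD2_c0 LD3_c50) (f876548 IH)
theorem f739841 : Led Lsl_bt (LP (LK LD1_c15 LD2_c5 LD3_c30)) = (LP (LK LD1_c8 LD2_c0 LD3_c50)) :=
  Lre_b IH (LK LD1_c15 LD2_c5 LD3_c30) (LK LD1_c8 LD2_c0 LD3_c50) Lrfl Lrfl
theorem f739842 : Led Lsl_ct (LP (LK LD1_c15 LD2_c5 LD3_c30)) = (LP (LK LD1_c24 LD2_c53 LD3_c38)) :=
  Lre_c IH (LK LD1_c15 LD2_c5 LD3_c30) (LK LD1_c24 LD2_c53 LD3_c38) Lrfl Lrfl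
theorem f701021 : Led Lsl_gf K50.v4223 = K52.v13089 :=
  Lgr Lrot76 (Lpe (K50.f645484 IH) (Lpe (K50.f645714 IH) (Lpr_gt (K52.f701020 IH) (Lpn K52.v13089))))
theorem f632046 : Led Lsl_ct (LP (LK LD1_c9 LD2_c13 LD3_c52)) = (LP (LK LD1_c17 LD2_c8 LD3_c15)) :=
  Lre_c IH (LK LD1_c9 LD2_c13 LD3_c52) (LK LD1_c17 LD2_c8 LD3_c15) Lrfl Lrfl
theorem f876549 : Led Lsl_gf (LP (LK LD1_c24 LD2_c53 LD3_c38)) = (LP (LK LD1_c17 LD2_c8 LD3_c15)) :=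
  Lgr Lrot129 (Lpe (f739842 IH) (Lpr_bt (f739841 IH) (Lpr_gt (f876547 IH) (Lpe (K52.f711202 IH) (Lpr_ct (K52.f701024 IH) (Lpe (f701021 IH) (Lpe (K50.f632044 IH) (Lpr_bt (K52.f632042 IH) (Lpr_gt (K55.f632026 IH) (Lpr_ct (f632046 IH) (Lpn (LP (LK LD1_c17 LD2_c8 LD3_c15)))))))))))))
theorem f876550 : Led Lsl_gt (LP (LK LD1_c17 LD2_c8 LD3_c15)) = (LP (LK LD1_c24 LD2_c53 LD3_c38)) :=
  Leop (Lpr_gf (f876549 IH) (Lpn (LP (LK LD1_c17 LD2_c8 LD3_c15))))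
theorem seed_2033 : LEOK LG_g (LK LD1_c17 LD2_c8 LD3_c15) :=
  Leoe_g (LK LD1_c17 LD2_c8 LD3_c15) (f876550 IH)
def v35661 : LQ := Led Lsl_et (LP (LK LD1_c8 LD2_c0 LD3_c23))
theorem f876560 : Led Lsl_et (LP (LK LD1_c8 LD2_c0 LD3_c23)) = v35661 :=
  Lrfl
theorem f876563 : Led Lsl_ef (LP (LK LD1_c8 LD2_c0 LD3_c23)) = v35661 :=
  Lgr Lrot88 (Lpr_et (f876560 IH) (Lpn v35661))
def v11814 : LQ := Led Lsl_dt K49.v3896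
theorem f685969 : Led Lsl_dt K49.v3896 = v11814 :=
  Lrfl
def v34481 : LQ := Led Lsl_gt v11814
theorem f871157 : Led Lsl_gt v11814 = v34481 :=
  Lrfl
theorem f876566 : Led Lsl_df v34481 = v35661 :=
  Lgr Lrot168 (Lpe (f871157 IH) (Lpe (f685969 IH) (Lpr_et (K49.f685975 IH) (Lpr_gf (K66.f871171 IH) (Lpe (K66.f871173 IH) (Lpe (K65.f825096 IH) (Lpe (K57.f40278 IH) (Lpe (K52.f40671 IH) (Lpe (K9.f101683 IH) (Lpr_ef (f876563 IH) (Lpn v35661)))))))))))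
theorem f685972 : Led Lsl_ff K66.v4898 = v11814 :=
  Lgr Lrot19 (Lpe (K66.f640771 IH) (Lpr_ft (K49.f627778 IH) (Lpr_dt (f685969 IH) (Lpn v11814))))
theorem f744961 : Led Lsl_at K66.v4898 = K66.v16043 :=
  Lgr Lrot51 (Lpe (K66.f640769 IH) (Lpe (K49.f500219 IH) (Lpr_df (K66.f744960 IH) (Lpn K66.v16043))))
theorem f871158 : Led Lsl_gf K66.v16043 = v34481 :=
  Lgr Lrot76 (Lpe (f744961 IH) (Lpr_ff (f685972 IH) (Lpr_gt (f871157 IH) (Lpn v34481))))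
theorem f414207 : Led Lsl_et (LP (LK LD1_c5 LD2_c51 LD3_c59)) = (LP (LK LD1_c11 LD2_c31 LD3_c0)) :=
  Lre_e IH (LK LD1_c5 LD2_c51 LD3_c59) (LK LD1_c11 LD2_c31 LD3_c0) Lrfl Lrfl
theorem f414204 : Led Lsl_gt (LP (LK LD1_c11 LD2_c31 LD3_c0)) = (LP (LK LD1_c20 LD2_c27 LD3_c59)) :=
  Lre_g IH (LK LD1_c11 LD2_c31 LD3_c0) (LK LD1_c20 LD2_c27 LD3_c59) Lrfl Lrfl
theorem f876567 : Led Lsl_df (LP (LK LD1_c12 LD2_c56 LD3_c26)) = (LP (LK LD1_c20 LD2_c27 LD3_c59)) :=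
  Lgr Lrot135 (Lpr_gt (K60.f413914 IH) (Lpe (K60.f413882 IH) (Lpr_et (K17.f413896 IH) (Lpr_gt (K9.f40494 IH) (Lpr_ef (f876563 IH) (Lpe (f876566 IH) (Lpe (f871158 IH) (Lpe (K66.f744958 IH) (Lpr_et (f414207 IH) (Lpr_gt (f414204 IH) (Lpn (LP (LK LD1_c20 LD2_c27 LD3_c59)))))))))))))
theorem f876568 : Led Lsl_dt (LP (LK LD1_c20 LD2_c27 LD3_c59)) = (LP (LK LD1_c12 LD2_c56 LD3_c26)) :=
  Leop (Lpr_df (f876567 IH) (Lpn (LP (LK LD1_c20 LD2_c27 LD3_c59))))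
theorem seed_2034 : LEOK LG_d (LK LD1_c20 LD2_c27 LD3_c59) :=
  Leoe_d (LK LD1_c20 LD2_c27 LD3_c59) (f876568 IH)
def v16480 : LQ := Led Lsl_bt (LP (LK LD1_c6 LD2_c1 LD3_c42))
theorem f749710 : Led Lsl_bt (LP (LK LD1_c6 LD2_c1 LD3_c42)) = v16480 :=
  Lrfl
def v35663 : LQ := Led Lsl_gt (LP (LK LD1_c8 LD2_c0 LD3_c28))
theorem f876595 : Led Lsl_gt (LP (LK LD1_c8 LD2_c0 LD3_c28)) = v35663 :=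
  Lrfl
theorem f150018 : Led Lsl_ct (LP (LK LD1_c3 LD2_c59 LD3_c43)) = (LP (LK LD1_c8 LD2_c0 LD3_c28)) :=
  Lre_c IH (LK LD1_c3 LD2_c59 LD3_c43) (LK LD1_c8 LD2_c0 LD3_c28) Lrfl Lrfl
def v12295 : LQ := Led Lsl_gf (LP (LK LD1_c3 LD2_c59 LD3_c43))
theorem f689226 : Led Lsl_gf (LP (LK LD1_c3 LD2_c59 LD3_c43)) = v12295 :=
  Lrfl
theorem f711299 : (LP (LK LD1_c2 LD2_c50 LD3_c29)) = v12295 :=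
  Lefun (Lecon (Lfl_gt (K65.f640559 IH)) (K65.f711296 IH)) (f689226 IH)
theorem f69092 : Led Lsl_bt (LP (LK LD1_c1 LD2_c24 LD3_c21)) = (LP (LK LD1_c2 LD2_c57 LD3_c5)) :=
  Lre_b IH (LK LD1_c1 LD2_c24 LD3_c21) (LK LD1_c2 LD2_c57 LD3_c5) Lrfl Lrfl
theorem f69095 : Led Lsl_gt (LP (LK LD1_c6 LD2_c1 LD3_c42)) = (LP (LK LD1_c2 LD2_c57 LD3_c5)) :=
  Lre_g IH (LK LD1_c6 LD2_c1 LD3_c42) (LK LD1_c2 LD2_c57 LD3_c5) Lrfl Lrfl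
theorem f749711 : Led Lsl_bf (LP (LK LD1_c6 LD2_c1 LD3_c42)) = v16480 :=
  Lgr Lrot24 (Lpr_bt (f749710 IH) (Lpn v16480))
theorem f876597 : Led Lsl_ct v16480 = v35663 :=
  Lgr Lrot63 (Lpe (f749711 IH) (Lpr_gt (f69095 IH) (Lpe (f69092 IH) (Lpr_ct (K11.f69064 IH) (Lpe (K24.f210120 IH) (Lpr_cf (K24.f438323 IH) (Lpr_bt (K65.f438335 IH) (Lpqs (f711299 IH) (Lpe (f689226 IH) (Lpr_ct (f150018 IH) (Lpr_gt (f876595 IH) (Lpn v35663))))))))))))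
theorem f749905 : Led Lsl_ft (LP (LK LD1_c8 LD2_c0 LD3_c28)) = (LP (LK LD1_c12 LD2_c25 LD3_c1)) :=
  Lgr Lrot48 (Lpr_ff (K56.f749895 IH) (Lpn (LP (LK LD1_c12 LD2_c25 LD3_c1))))
theorem f438398 : Led Lsl_ct (LP (LK LD1_c11 LD2_c27 LD3_c8)) = (LP (LK LD1_c5 LD2_c48 LD3_c53)) :=
  Lre_c IH (LK LD1_c11 LD2_c27 LD3_c8) (LK LD1_c5 LD2_c48 LD3_c53) Lrfl Lrfl
theorem f750099 : Led Lsl_at (LP (LK LD1_c12 LD2_c25 LD3_c1)) = (LP (LK LD1_c11 LD2_c27 LD3_c8)) :=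
  Lgr Lrot107 (Lpe (K56.f69124 IH) (Lpq (K56.f749907 IH) (Lpe (K57.f689233 IH) (Lpqs (K65.f711301 IH) (Lpe (f438398 IH) (Lpn (LP (LK LD1_c11 LD2_c27 LD3_c8))))))))
theorem f876596 : Led Lsl_gf (LP (LK LD1_c11 LD2_c27 LD3_c8)) = v35663 :=
  Lgr Lrot76 (Lpe (f750099 IH) (Lpe (f749905 IH) (Lpr_gt (f876595 IH) (Lpn v35663))))
theorem f623375 : Led Lsl_ct (LP (LK LD1_c5 LD2_c48 LD3_c53)) = (LP (LK LD1_c11 LD2_c27 LD3_c8)) :=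
  Lre_c IH (LK LD1_c5 LD2_c48 LD3_c53) (LK LD1_c11 LD2_c27 LD3_c8) Lrfl Lrfl
def v15858 : LQ := Led Lsl_bt (LP (LK LD1_c5 LD2_c48 LD3_c53))
theorem f743924 : Led Lsl_bt (LP (LK LD1_c5 LD2_c48 LD3_c53)) = v15858 :=
  Lrfl
theorem f743927 : Led Lsl_ff (LP (LK LD1_c6 LD2_c51 LD3_c0)) = v15858 :=
  Lgr Lrot25 (Lpr_bt (K52.f425759 IH) (Lpr_ft (K57.f654350 IH) (Lpqs (K65.f711301 IH) (Lpr_bt (f743924 IH) (Lpn v15858)))))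
theorem f743928 : Led Lsl_at (LP (LK LD1_c20 LD2_c22 LD3_c41)) = v15858 :=
  Lgr Lrot66 (Lpe (K52.f119863 IH) (Lpe (K36.f498358 IH) (Lpr_ff (f743927 IH) (Lpn v15858))))
theorem f415442 : Led Lsl_gt (LP (LK LD1_c11 LD2_c26 LD3_c20)) = (LP (LK LD1_c9 LD2_c12 LD3_c61)) :=
  Lgr Lrot65 (Lpe (K55.f57512 IH) (Lpr_bt (K55.f57511 IH) (Lpe (K7.f57147 IH) (Lpe (K48.f57114 IH) (Lpe (K32.f57118 IH) (Lpe (K16.f57140 IH) (Lpr_cf (K17.f415427 IH) (Lpe (K17.f210113 IH) (Lpe (K56.f150512 IH) (Lpr_ct (K11.f150486 IH) (Lpn (LP (LK LD1_c9 LD2_c12 LD3_c61)))))))))))))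
def v15832 : LQ := Led Lsl_gf (LP (LK LD1_c5 LD2_c48 LD3_c26))
theorem f741921 : Led Lsl_gf (LP (LK LD1_c5 LD2_c48 LD3_c26)) = v15832 :=
  Lrfl
theorem f750015 : (LP (LK LD1_c11 LD2_c25 LD3_c10)) = v15832 :=
  (Llr Lrot130 (Lpe (K38.f119856 IH) (Lpr_ct (K56.f119867 IH) (Lpr_gf (K56.f641458 IH) (Lpq (K56.f749995 IH) (Lpe (K56.f502755 IH) (Lpr_bt (K56.f641430 IH) (Lpq (K56.f669223 IH) (Lpe (K17.f210113 IH) (Lpe (K56.f150512 IH) (Lpr_ct (K11.f150486 IH) (Lpe (f415442 IH) (Lpe (K55.f57512 IH) (Lpr_gf (f741921 IH) (Lpn v15832))))))))))))))).symm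
theorem f415447 : Led Lsl_gt (LP (LK LD1_c5 LD2_c48 LD3_c26)) = (LP (LK LD1_c11 LD2_c26 LD3_c18)) :=
  Lre_g IH (LK LD1_c5 LD2_c48 LD3_c26) (LK LD1_c11 LD2_c26 LD3_c18) Lrfl Lrfl
theorem f750057 : v15858 = (LP (LK LD1_c11 LD2_c26 LD3_c18)) :=
  (Llr Lrot26 (Lpe (f743928 IH) (Lpe (K52.f119863 IH) (Lpqs (f750015 IH) (Lpe (f741921 IH) (Lpr_gt (f415447 IH) (Lpn (LP (LK LD1_c11 LD2_c26 LD3_c18))))))))).symm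
theorem f57022 : Led Lsl_gt (LP (LK LD1_c9 LD2_c49 LD3_c4)) = (LP (LK LD1_c4 LD2_c59 LD3_c21)) :=
  Lre_g IH (LK LD1_c9 LD2_c49 LD3_c4) (LK LD1_c4 LD2_c59 LD3_c21) Lrfl Lrfl
theorem f498240 : Led Lsl_gt (LP (LK LD1_c17 LD2_c5 LD3_c24)) = (LP (LK LD1_c9 LD2_c49 LD3_c4)) :=
  Lgr Lrot5 (Lpr_ft (K32.f498227 IH) (Lpr_at (K32.f498228 IH) (Lpe (f57022 IH) (Lpn (LP (LK LD1_c9 LD2_c49 LD3_c4))))))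
theorem f743653 : K55.v15843 = (LP (LK LD1_c9 LD2_c49 LD3_c4)) :=
  (Llr Lrot26 (Lpe (K55.f742004 IH) (Lpr_ff (K55.f742011 IH) (Lpqs (K60.f742067 IH) (Lpq (K55.f743565 IH) (Lpe (K55.f498230 IH) (Lpr_gt (f498240 IH) (Lpn (LP (LK LD1_c9 LD2_c49 LD3_c4)))))))))).symm
theorem f699138 : Led Lsl_dt (LP (LK LD1_c22 LD2_c3 LD3_c22)) = (LP (LK LD1_c12 LD2_c53 LD3_c40)) :=
  Lre_d IH (LK LD1_c22 LD2_c3 LD3_c22) (LK LD1_c12 LD2_c53 LD3_c40) Lrfl Lrfl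
theorem f57087 : Led Lsl_dt (LP (LK LD1_c9 LD2_c49 LD3_c4)) = (LP (LK LD1_c17 LD2_c59 LD3_c28)) :=
  Lre_d IH (LK LD1_c9 LD2_c49 LD3_c4) (LK LD1_c17 LD2_c59 LD3_c28) Lrfl Lrfl
theorem f743663 : Led Lsl_ff (LP (LK LD1_c22 LD2_c3 LD3_c22)) = (LP (LK LD1_c17 LD2_c59 LD3_c28)) :=
  Lgr Lrot19 (Lpr_dt (f699138 IH) (Lpr_ft (K55.f742006 IH) (Lpqs (f743653 IH) (Lpr_dt (f57087 IH) (Lpn (LP (LK LD1_c17 LD2_c59 LD3_c28)))))))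
theorem f743671 : Led Lsl_ft (LP (LK LD1_c22 LD2_c3 LD3_c22)) = (LP (LK LD1_c17 LD2_c59 LD3_c28)) :=
  Lgr Lrot48 (Lpr_ff (f743663 IH) (Lpn (LP (LK LD1_c17 LD2_c59 LD3_c28))))
theorem f742018 : Led Lsl_dt (LP (LK LD1_c11 LD2_c26 LD3_c19)) = (LP (LK LD1_c20 LD2_c24 LD3_c0)) :=
  Lre_d IH (LK LD1_c11 LD2_c26 LD3_c19) (LK LD1_c20 LD2_c24 LD3_c0) Lrfl Lrfl
theorem f742019 : Led Lsl_bt (LP (LK LD1_c20 LD2_c24 LD3_c0)) = (LP (LK LD1_c22 LD2_c3 LD3_c22)) :=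
  Lgr Lrot95 (Lpe (f742018 IH) (Lpr_bf (K55.f742014 IH) (Lpe (f699138 IH) (Lpn (LP (LK LD1_c22 LD2_c3 LD3_c22))))))
theorem f743675 : Led Lsl_bt (LP (LK LD1_c17 LD2_c59 LD3_c28)) = (LP (LK LD1_c27 LD2_c42 LD3_c52)) :=
  Lre_b IH (LK LD1_c17 LD2_c59 LD3_c28) (LK LD1_c27 LD2_c42 LD3_c52) Lrfl Lrfl
theorem f743676 : Led Lsl_ff (LP (LK LD1_c20 LD2_c24 LD3_c0)) = (LP (LK LD1_c27 LD2_c42 LD3_c52)) :=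
  Lgr Lrot25 (Lpr_bt (f742019 IH) (Lpr_ft (f743671 IH) (Lpr_bt (f743675 IH) (Lpn (LP (LK LD1_c27 LD2_c42 LD3_c52))))))
theorem f742023 : Led Lsl_dt (LP (LK LD1_c20 LD2_c24 LD3_c0)) = (LP (LK LD1_c11 LD2_c26 LD3_c19)) :=
  Lre_d IH (LK LD1_c20 LD2_c24 LD3_c0) (LK LD1_c11 LD2_c26 LD3_c19) Lrfl Lrfl
theorem f699136 : Led Lsl_dt (LP (LK LD1_c17 LD2_c59 LD3_c27)) = (LP (LK LD1_c27 LD2_c42 LD3_c52)) :=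
  Lre_d IH (LK LD1_c17 LD2_c59 LD3_c27) (LK LD1_c27 LD2_c42 LD3_c52) Lrfl Lrfl
theorem f743684 : Led Lsl_ft (LP (LK LD1_c11 LD2_c26 LD3_c19)) = (LP (LK LD1_c17 LD2_c59 LD3_c27)) :=
  Lgr Lrot54 (Lpe (f742023 IH) (Lpr_ff (f743676 IH) (Lpe (f699136 IH) (Lpn (LP (LK LD1_c17 LD2_c59 LD3_c27))))))
theorem f150523 : Led Lsl_gt (LP (LK LD1_c9 LD2_c12 LD3_c61)) = (LP (LK LD1_c17 LD2_c7 LD3_c17)) :=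
  Lre_g IH (LK LD1_c9 LD2_c12 LD3_c61) (LK LD1_c17 LD2_c7 LD3_c17) Lrfl Lrfl
theorem f57089 : Led Lsl_bt (LP (LK LD1_c17 LD2_c59 LD3_c27)) = (LP (LK LD1_c9 LD2_c49 LD3_c4)) :=
  Lre_b IH (LK LD1_c17 LD2_c59 LD3_c27) (LK LD1_c9 LD2_c49 LD3_c4) Lrfl Lrfl
theorem f698946 : Led Lsl_cf (LP (LK LD1_c17 LD2_c7 LD3_c17)) = (LP (LK LD1_c17 LD2_c59 LD3_c27)) :=
  Lgr Lrot58 (Lpe (f150523 IH) (Lpe (K11.f150486 IH) (Lpr_bt (K56.f150512 IH) (Lpe (K32.f419065 IH) (Lpe (K51.f419068 IH) (Lpr_ct (K52.f419072 IH) (Lpq (K52.f698908 IH) (Lpe (K46.f651071 IH) (Lpr_cf (K52.f56993 IH) (Lpe (f57022 IH) (Lpe (f57089 IH) (Lpn (LP (LK LD1_c17 LD2_c59 LD3_c27))))))))))))))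
theorem f743688 : Led Lsl_ff (LP (LK LD1_c9 LD2_c12 LD3_c58)) = (LP (LK LD1_c17 LD2_c7 LD3_c17)) :=
  Lgr Lrot23 (Lpe (K55.f742031 IH) (Lpr_ft (f743684 IH) (Lpe (f698946 IH) (Lpn (LP (LK LD1_c17 LD2_c7 LD3_c17))))))
theorem f743692 : Led Lsl_ft (LP (LK LD1_c9 LD2_c12 LD3_c58)) = (LP (LK LD1_c17 LD2_c7 LD3_c17)) :=
  Lgr Lrot48 (Lpr_ff (f743688 IH) (Lpn (LP (LK LD1_c17 LD2_c7 LD3_c17))))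
theorem f743694 : Led Lsl_af (LP (LK LD1_c9 LD2_c12 LD3_c59)) = (LP (LK LD1_c17 LD2_c7 LD3_c17)) :=
  Lgr Lrot45 (Lpe (K55.f742038 IH) (Lpr_at (K55.f742034 IH) (Lpr_ft (f743692 IH) (Lpn (LP (LK LD1_c17 LD2_c7 LD3_c17))))))
theorem f438828 : Led Lsl_cf (LP (LK LD1_c11 LD2_c25 LD3_c55)) = (LP (LK LD1_c9 LD2_c12 LD3_c59)) :=
  Lgr Lrot11 (Lpr_ct (K52.f438798 IH) (Lpn (LP (LK LD1_c9 LD2_c12 LD3_c59))))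
theorem f743696 : Led Lsl_at (LP (LK LD1_c11 LD2_c25 LD3_c55)) = (LP (LK LD1_c17 LD2_c59 LD3_c27)) :=
  Lgr Lrot107 (Lpr_cf (f438828 IH) (Lpr_af (f743694 IH) (Lpr_cf (f698946 IH) (Lpn (LP (LK LD1_c17 LD2_c59 LD3_c27))))))
theorem f743700 : Led Lsl_gt (LP (LK LD1_c11 LD2_c26 LD3_c18)) = (LP (LK LD1_c17 LD2_c59 LD3_c27)) :=
  Lgr Lrot46 (Lpe (f415447 IH) (Lpr_ft (K55.f741927 IH) (Lpqs (K55.f742044 IH) (Lpr_at (f743696 IH) (Lpn (LP (LK LD1_c17 LD2_c59 LD3_c27)))))))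
theorem f699132 : Led Lsl_bt (LP (LK LD1_c9 LD2_c49 LD3_c4)) = (LP (LK LD1_c17 LD2_c59 LD3_c27)) :=
  Lre_b IH (LK LD1_c9 LD2_c49 LD3_c4) (LK LD1_c17 LD2_c59 LD3_c27) Lrfl Lrfl
theorem f207091 : Led Lsl_af (LP (LK LD1_c4 LD2_c37 LD3_c50)) = (LP (LK LD1_c3 LD2_c20 LD3_c26)) :=
  Lgr Lrot117 (Lpr_dt (K35.f148810 IH) (Lpr_at (K35.f207082 IH) (Lpr_dt (K35.f207090 IH) (Lpn (LP (LK LD1_c3 LD2_c20 LD3_c26))))))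
theorem f152547 : Led Lsl_gt (LP (LK LD1_c9 LD2_c11 LD3_c18)) = (LP (LK LD1_c4 LD2_c37 LD3_c50)) :=
  Lre_g IH (LK LD1_c9 LD2_c11 LD3_c18) (LK LD1_c4 LD2_c37 LD3_c50) Lrfl Lrfl
theorem f207246 : Led Lsl_ft (LP (LK LD1_c6 LD2_c44 LD3_c39)) = (LP (LK LD1_c3 LD2_c20 LD3_c26)) :=
  Lre_f IH (LK LD1_c6 LD2_c44 LD3_c39) (LK LD1_c3 LD2_c20 LD3_c26) Lrfl Lrfl
theorem f207268 : Led Lsl_gf (LP (LK LD1_c9 LD2_c11 LD3_c18)) = (LP (LK LD1_c6 LD2_c44 LD3_c39)) :=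
  Lgr Lrot47 (Lpr_gt (f152547 IH) (Lpr_af (f207091 IH) (Lpe (f207246 IH) (Lpn (LP (LK LD1_c6 LD2_c44 LD3_c39))))))
theorem f743595 : Led Lsl_at (LP (LK LD1_c6 LD2_c44 LD3_c37)) = (LP (LK LD1_c9 LD2_c11 LD3_c18)) :=
  Lgr Lrot26 (Lpr_ff (K60.f743574 IH) (Lpr_gt (K55.f207247 IH) (Lpe (f207268 IH) (Lpn (LP (LK LD1_c9 LD2_c11 LD3_c18))))))
theorem f743599 : Led Lsl_cf K55.v15843 = (LP (LK LD1_c9 LD2_c11 LD3_c18)) :=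
  Lgr Lrot1 (Lpe (K55.f742005 IH) (Lpe (K52.f699139 IH) (Lpr_at (f743595 IH) (Lpn (LP (LK LD1_c9 LD2_c11 LD3_c18))))))
theorem f743608 : Led Lsl_ct K55.v15843 = (LP (LK LD1_c9 LD2_c11 LD3_c18)) :=
  Lgr Lrot59 (Lpr_cf (f743599 IH) (Lpn (LP (LK LD1_c9 LD2_c11 LD3_c18))))
theorem f40621 : Led Lsl_gt (LP (LK LD1_c4 LD2_c37 LD3_c47)) = (LP (LK LD1_c9 LD2_c11 LD3_c10)) :=
  Lre_g IH (LK LD1_c4 LD2_c37 LD3_c47) (LK LD1_c9 LD2_c11 LD3_c10) Lrfl Lrfl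
theorem f876599 : v16480 = (LP (LK LD1_c9 LD2_c11 LD3_c10)) :=
  (Llr Lrot125 (Lpr_ct (f876597 IH) (Lpe (f876596 IH) (Lpe (f623375 IH) (Lpr_bt (f743924 IH) (Lpqs (f750057 IH) (Lpr_gt (f743700 IH) (Lpe (f699132 IH) (Lpq (f743653 IH) (Lpr_ct (f743608 IH) (Lpr_gt (f152547 IH) (Lpe (K55.f40612 IH) (Lpr_bt (K55.f40629 IH) (Lpr_gt (f40621 IH) (Lpn (LP (LK LD1_c9 LD2_c11 LD3_c10))))))))))))))))).symm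
theorem f876601 : Led Lsl_bt (LP (LK LD1_c6 LD2_c1 LD3_c42)) = (LP (LK LD1_c9 LD2_c11 LD3_c10)) :=
  Leop (Lpq (f876599 IH) (Lpe (f749710 IH) (Lpn (LP (LK LD1_c6 LD2_c1 LD3_c42)))))
theorem seed_2035 : LEOK LG_b (LK LD1_c6 LD2_c1 LD3_c42) :=
  Leoe_b (LK LD1_c6 LD2_c1 LD3_c42) (f876601 IH)
def v16484 : LQ := Led Lsl_et (LP (LK LD1_c6 LD2_c1 LD3_c43))
theorem f749722 : Led Lsl_et (LP (LK LD1_c6 LD2_c1 LD3_c43)) = v16484 :=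
  Lrfl
theorem f749723 : Led Lsl_ef (LP (LK LD1_c6 LD2_c1 LD3_c43)) = v16484 :=
  Lgr Lrot88 (Lpr_et (f749722 IH) (Lpn v16484))
theorem f202254 : Led Lsl_gt (LP (LK LD1_c6 LD2_c1 LD3_c43)) = (LP (LK LD1_c2 LD2_c56 LD3_c60)) :=
  Lre_g IH (LK LD1_c6 LD2_c1 LD3_c43) (LK LD1_c2 LD2_c56 LD3_c60) Lrfl Lrfl
theorem f23151 : Led Lsl_gt (LP (LK LD1_c9 LD2_c17 LD3_c19)) = (LP (LK LD1_c17 LD2_c12 LD3_c27)) :=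
  Lre_g IH (LK LD1_c9 LD2_c17 LD3_c19) (LK LD1_c17 LD2_c12 LD3_c27) Lrfl Lrfl
theorem f749724 : Led Lsl_df (LP (LK LD1_c17 LD2_c12 LD3_c27)) = v16484 :=
  Lgr Lrot132 (Lpe (f23151 IH) (Lpe (K52.f23138 IH) (Lpqs (K53.f715025 IH) (Lpe (K53.f641022 IH) (Lpe (K6.f137338 IH) (Lpr_dt (K6.f137336 IH) (Lpr_gf (K11.f202241 IH) (Lpe (K11.f202214 IH) (Lpr_et (K16.f202216 IH) (Lpe (f202254 IH) (Lpr_ef (f749723 IH) (Lpn v16484))))))))))))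
theorem f749726 : Led Lsl_dt (LP (LK LD1_c17 LD2_c12 LD3_c27)) = v16484 :=
  Lgr Lrot42 (Lpr_df (f749724 IH) (Lpn v16484))
def v16513 : LQ := Led Lsl_at (LP (LK LD1_c6 LD2_c1 LD3_c58))
theorem f750134 : Led Lsl_at (LP (LK LD1_c6 LD2_c1 LD3_c58)) = v16513 :=
  Lrfl
theorem f645185 : Led Lsl_af (LP (LK LD1_c2 LD2_c57 LD3_c3)) = K56.v5071 :=
  Lgr Lrot45 (Lpr_ft (K56.f645177 IH) (Lpe (K56.f645175 IH) (Lpr_ft (K56.f645184 IH) (Lpn K56.v5071))))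
theorem f750136 : Led Lsl_ef K56.v5071 = v16513 :=
  Lgr Lrot20 (Lpe (f645185 IH) (Lpr_et (K56.f645180 IH) (Lpr_at (f750134 IH) (Lpn v16513))))
theorem f750137 : Led Lsl_et K56.v5071 = v16513 :=
  Lgr Lrot87 (Lpr_ef (f750136 IH) (Lpn v16513))
def v24897 : LQ := Led Lsl_gt K56.v5069
theorem f826137 : Led Lsl_gt K56.v5069 = v24897 :=
  Lrfl
theorem f826138 : Led Lsl_gf K56.v5071 = v24897 :=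
  Lgr Lrot76 (Lpe (K56.f645188 IH) (Lpr_ff (K56.f645178 IH) (Lpr_gt (f826137 IH) (Lpn v24897))))
theorem f69093 : Led Lsl_gt (LP (LK LD1_c2 LD2_c57 LD3_c5)) = (LP (LK LD1_c6 LD2_c1 LD3_c43)) :=
  Lre_g IH (LK LD1_c2 LD2_c57 LD3_c5) (LK LD1_c6 LD2_c1 LD3_c43) Lrfl Lrfl
theorem f749842 : Led Lsl_at (LP (LK LD1_c6 LD2_c1 LD3_c55)) = (LP (LK LD1_c9 LD2_c11 LD3_c11)) :=
  Lgr Lrot100 (Lpr_af (K56.f749840 IH) (Lpn (LP (LK LD1_c9 LD2_c11 LD3_c11))))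
theorem f557947 : Led Lsl_gt (LP (LK LD1_c9 LD2_c11 LD3_c10)) = (LP (LK LD1_c17 LD2_c4 LD3_c39)) :=
  Lre_g IH (LK LD1_c9 LD2_c11 LD3_c10) (LK LD1_c17 LD2_c4 LD3_c39) Lrfl Lrfl
theorem f749844 : Led Lsl_ff (LP (LK LD1_c6 LD2_c1 LD3_c55)) = (LP (LK LD1_c9 LD2_c11 LD3_c10)) :=
  Lgr Lrot52 (Lpr_at (f749842 IH) (Lpe (K56.f557946 IH) (Lpe (f557947 IH) (Lpn (LP (LK LD1_c9 LD2_c11 LD3_c10))))))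
theorem f749847 : Led Lsl_ft (LP (LK LD1_c6 LD2_c1 LD3_c55)) = (LP (LK LD1_c9 LD2_c11 LD3_c10)) :=
  Lgr Lrot48 (Lpr_ff (f749844 IH) (Lpn (LP (LK LD1_c9 LD2_c11 LD3_c10))))
theorem f645179 : Led Lsl_bt (LP (LK LD1_c2 LD2_c57 LD3_c3)) = (LP (LK LD1_c6 LD2_c1 LD3_c55)) :=
  Lre_b IH (LK LD1_c2 LD2_c57 LD3_c3) (LK LD1_c6 LD2_c1 LD3_c55) Lrfl Lrfl
theorem f749849 : Led Lsl_bf K56.v5069 = (LP (LK LD1_c9 LD2_c11 LD3_c10)) :=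
  Lgr Lrot61 (Lpe (K56.f645178 IH) (Lpr_bt (f645179 IH) (Lpr_ft (f749847 IH) (Lpn (LP (LK LD1_c9 LD2_c11 LD3_c10))))))
theorem f876600 : (LP (LK LD1_c6 LD2_c1 LD3_c42)) = K56.v5069 :=
  Lefun (Lecon (Lfl_bf (f749711 IH)) (f876599 IH)) (Lfl_bf (f749849 IH))
theorem f876603 : v24897 = (LP (LK LD1_c2 LD2_c57 LD3_c5)) :=
  Lefun (Lecon (f826137 IH) (f876600 IH).symm) (f69095 IH)
theorem f876618 : K56.v5071 = (LP (LK LD1_c6 LD2_c1 LD3_c43)) :=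
  Lefun (Lecon (Lfl_gf (f826138 IH)) (f876603 IH)) (f69093 IH)
theorem f876638 : v16513 = v16484 :=
  Lefun (Lecon (f750137 IH) (f876618 IH)) (f749722 IH)
theorem f750135 : Led Lsl_af (LP (LK LD1_c6 LD2_c1 LD3_c58)) = v16513 :=
  Lgr Lrot0 (Lpr_at (f750134 IH) (Lpn v16513))
theorem f876639 : Led Lsl_af (LP (LK LD1_c17 LD2_c12 LD3_c27)) = (LP (LK LD1_c11 LD2_c48 LD3_c28)) :=
  Lgr Lrot117 (Lpr_dt (f749726 IH) (Lpq (f876638 IH) (Lpe (f750135 IH) (Lpr_dt (K57.f210105 IH) (Lpn (LP (LK LD1_c11 LD2_c48 LD3_c28)))))))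
theorem f876640 : Led Lsl_at (LP (LK LD1_c11 LD2_c48 LD3_c28)) = (LP (LK LD1_c17 LD2_c12 LD3_c27)) :=
  Leop (Lpr_af (f876639 IH) (Lpn (LP (LK LD1_c11 LD2_c48 LD3_c28))))
theorem seed_2036 : LEOK LG_a (LK LD1_c11 LD2_c48 LD3_c28) :=
  Leoe_a (LK LD1_c11 LD2_c48 LD3_c28) (f876640 IH)
def v35679 : LQ := Led Lsl_dt (LP (LK LD1_c8 LD2_c0 LD3_c47))
theorem f876811 : Led Lsl_dt (LP (LK LD1_c8 LD2_c0 LD3_c47)) = v35679 :=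
  Lrfl
theorem f876814 : Led Lsl_df (LP (LK LD1_c8 LD2_c0 LD3_c47)) = v35679 :=
  Lgr Lrot38 (Lpr_dt (f876811 IH) (Lpn v35679))
def v35677 : LQ := Led Lsl_et (LP (LK LD1_c8 LD2_c0 LD3_c44))
theorem f876799 : Led Lsl_et (LP (LK LD1_c8 LD2_c0 LD3_c44)) = v35677 :=
  Lrfl
theorem f876803 : Led Lsl_ef (LP (LK LD1_c8 LD2_c0 LD3_c44)) = v35677 :=
  Lgr Lrot88 (Lpr_et (f876799 IH) (Lpn v35677))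
theorem f876805 : Led Lsl_bt (LP (LK LD1_c8 LD2_c0 LD3_c47)) = v35677 :=
  Lgr Lrot119 (Lpe (K57.f689243 IH) (Lpe (K24.f40482 IH) (Lpr_ef (f876803 IH) (Lpn v35677))))
theorem f180685 : Led Lsl_gt (LP (LK LD1_c10 LD2_c18 LD3_c49)) = (LP (LK LD1_c5 LD2_c14 LD3_c39)) :=
  Lre_g IH (LK LD1_c10 LD2_c18 LD3_c49) (LK LD1_c5 LD2_c14 LD3_c39) Lrfl Lrfl
theorem f876807 : Led Lsl_df (LP (LK LD1_c10 LD2_c18 LD3_c49)) = v35677 :=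
  Lgr Lrot170 (Lpr_gt (f180685 IH) (Lpr_df (K41.f615399 IH) (Lpr_et (K55.f74724 IH) (Lpe (K7.f150224 IH) (Lpr_dt (K6.f138899 IH) (Lpr_gt (K37.f150380 IH) (Lpe (K8.f72586 IH) (Lpr_et (K56.f748818 IH) (Lpr_gt (K56.f748829 IH) (Lpr_ef (f876803 IH) (Lpn v35677)))))))))))
theorem f876818 : Led Lsl_bt (LP (LK LD1_c10 LD2_c18 LD3_c49)) = v35679 :=
  Lgr Lrot95 (Lpr_df (f876807 IH) (Lpe (f876805 IH) (Lpr_df (f876814 IH) (Lpn v35679))))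
theorem f112571 : Led Lsl_et (LP (LK LD1_c8 LD2_c0 LD3_c47)) = (LP (LK LD1_c3 LD2_c59 LD3_c50)) :=
  Lre_e IH (LK LD1_c8 LD2_c0 LD3_c47) (LK LD1_c3 LD2_c59 LD3_c50) Lrfl Lrfl
theorem f414047 : Led Lsl_gt (LP (LK LD1_c15 LD2_c4 LD3_c12)) = (LP (LK LD1_c7 LD2_c59 LD3_c43)) :=
  Lre_g IH (LK LD1_c15 LD2_c4 LD3_c12) (LK LD1_c7 LD2_c59 LD3_c43) Lrfl Lrfl
theorem f55710 : Led Lsl_bt (LP (LK LD1_c8 LD2_c12 LD3_c49)) = (LP (LK LD1_c4 LD2_c6 LD3_c6)) :=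
  Lre_b IH (LK LD1_c8 LD2_c12 LD3_c49) (LK LD1_c4 LD2_c6 LD3_c6) Lrfl Lrfl
theorem f73224 : Led Lsl_df (LP (LK LD1_c8 LD2_c12 LD3_c49)) = (LP (LK LD1_c5 LD2_c47 LD3_c36)) :=
  Lgr Lrot12 (Lpr_bt (f55710 IH) (Lpr_dt (K2.f73205 IH) (Lpr_bt (K2.f73223 IH) (Lpn (LP (LK LD1_c5 LD2_c47 LD3_c36))))))
theorem f876815 : Led Lsl_gt (LP (LK LD1_c8 LD2_c12 LD3_c49)) = v35679 :=
  Lgr Lrot112 (Lpr_df (f73224 IH) (Lpr_et (K2.f73799 IH) (Lpe (K55.f744858 IH) (Lpr_ef (f876151 IH) (Lpe (f876150 IH) (Lpe (f414047 IH) (Lpe (K32.f40246 IH) (Lpe (K24.f414039 IH) (Lpe (f112571 IH) (Lpr_dt (f876811 IH) (Lpn v35679)))))))))))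
theorem f646337 : Led Lsl_cf (LP (LK LD1_c3 LD2_c0 LD3_c26)) = K52.v5169 :=
  Lgr Lrot11 (Lpr_ct (K52.f646335 IH) (Lpn K52.v5169))
def v5102 : LQ := Led Lsl_ct (LP (LK LD1_c2 LD2_c57 LD3_c40))
theorem f645940 : Led Lsl_ct (LP (LK LD1_c2 LD2_c57 LD3_c40)) = v5102 :=
  Lrfl
theorem f646339 : Led Lsl_at v5102 = K52.v5169 :=
  Lgr Lrot107 (Lpe (f645940 IH) (Lpe (K55.f645371 IH) (Lpr_cf (f646337 IH) (Lpn K52.v5169))))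
def v5168 : LQ := Led Lsl_ct (LP (LK LD1_c3 LD2_c0 LD3_c25))
theorem f646330 : Led Lsl_ct (LP (LK LD1_c3 LD2_c0 LD3_c25)) = v5168 :=
  Lrfl
theorem f645941 : Led Lsl_cf (LP (LK LD1_c2 LD2_c57 LD3_c40)) = v5102 :=
  Lgr Lrot11 (Lpr_ct (f645940 IH) (Lpn v5102))
theorem f646332 : Led Lsl_ff v5102 = v5168 :=
  Lgr Lrot23 (Lpe (f645941 IH) (Lpe (K55.f645367 IH) (Lpr_ct (f646330 IH) (Lpn v5168))))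
theorem f691621 : Led Lsl_gt v5168 = K52.v12341 :=
  Lgr Lrot5 (Lpe (f646332 IH) (Lpr_at (f646339 IH) (Lpr_gf (K52.f691620 IH) (Lpn K52.v12341))))
theorem f75975 : Led Lsl_bt (LP (LK LD1_c3 LD2_c0 LD3_c16)) = (LP (LK LD1_c1 LD2_c25 LD3_c58)) :=
  Lre_b IH (LK LD1_c3 LD2_c0 LD3_c16) (LK LD1_c1 LD2_c25 LD3_c58) Lrfl Lrfl
theorem f75009 : Led Lsl_ct (LP (LK LD1_c3 LD2_c0 LD3_c16)) = (LP (LK LD1_c6 LD2_c8 LD3_c5)) :=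
  Lre_c IH (LK LD1_c3 LD2_c0 LD3_c16) (LK LD1_c6 LD2_c8 LD3_c5) Lrfl Lrfl
theorem f876819 : Led Lsl_ct (LP (LK LD1_c10 LD2_c18 LD3_c49)) = (LP (LK LD1_c11 LD2_c58 LD3_c13)) :=
  Lgr Lrot64 (Lpr_bt (f876818 IH) (Lpe (f876815 IH) (Lpe (K2.f55785 IH) (Lpr_ct (K52.f691618 IH) (Lpe (f691621 IH) (Lpe (f646330 IH) (Lpe (K46.f140970 IH) (Lpe (f75975 IH) (Lpr_ct (f75009 IH) (Lpe (K56.f646333 IH) (Lpn (LP (LK LD1_c11 LD2_c58 LD3_c13)))))))))))))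
theorem f876820 : Led Lsl_ct (LP (LK LD1_c10 LD2_c18 LD3_c49)) = (LP (LK LD1_c11 LD2_c58 LD3_c13)) :=
  Leop (Lpe (f876819 IH) (Lpn (LP (LK LD1_c10 LD2_c18 LD3_c49))))
theorem seed_2037 : LEOK LG_c (LK LD1_c10 LD2_c18 LD3_c49) :=
  Leoe_c (LK LD1_c10 LD2_c18 LD3_c49) (f876820 IH)
theorem f876806 : Led Lsl_ct K56.v16393 = v35677 :=
  Lgr Lrot15 (Lpe (K56.f749117 IH) (Lpr_cf (K24.f415604 IH) (Lpr_ef (f876803 IH) (Lpn v35677))))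
theorem f749124 : Led Lsl_dt (LP (LK LD1_c11 LD2_c58 LD3_c55)) = K56.v16393 :=
  Lgr Lrot42 (Lpr_df (K56.f749121 IH) (Lpn K56.v16393))
theorem f749128 : Led Lsl_ct (LP (LK LD1_c21 LD2_c3 LD3_c42)) = (LP (LK LD1_c11 LD2_c58 LD3_c55)) :=
  Lre_c IH (LK LD1_c21 LD2_c3 LD3_c42) (LK LD1_c11 LD2_c58 LD3_c55) Lrfl Lrfl
theorem f387187 : Led Lsl_ft (LP (LK LD1_c10 LD2_c18 LD3_c15)) = (LP (LK LD1_c18 LD2_c43 LD3_c17)) :=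
  Lre_f IH (LK LD1_c10 LD2_c18 LD3_c15) (LK LD1_c18 LD2_c43 LD3_c17) Lrfl Lrfl
theorem f752105 : Led Lsl_af (LP (LK LD1_c11 LD2_c58 LD3_c13)) = (LP (LK LD1_c18 LD2_c43 LD3_c17)) :=
  Lgr Lrot45 (Lpr_ft (K56.f752103 IH) (Lpr_at (K56.f387191 IH) (Lpr_ft (f387187 IH) (Lpn (LP (LK LD1_c18 LD2_c43 LD3_c17))))))
theorem f387211 : Led Lsl_et (LP (LK LD1_c9 LD2_c48 LD3_c48)) = (LP (LK LD1_c4 LD2_c59 LD3_c9)) :=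
  Lre_e IH (LK LD1_c9 LD2_c48 LD3_c48) (LK LD1_c4 LD2_c59 LD3_c9) Lrfl Lrfl
theorem f387212 : Led Lsl_df (LP (LK LD1_c9 LD2_c48 LD3_c48)) = (LP (LK LD1_c10 LD2_c18 LD3_c15)) :=
  Lgr Lrot70 (Lpr_et (f387211 IH) (Lpr_dt (K38.f387210 IH) (Lpr_et (K38.f387208 IH) (Lpr_dt (K32.f308063 IH) (Lpr_et (K56.f387160 IH) (Lpn (LP (LK LD1_c10 LD2_c18 LD3_c15))))))))
theorem f387215 : Led Lsl_ct (LP (LK LD1_c9 LD2_c48 LD3_c48)) = (LP (LK LD1_c17 LD2_c59 LD3_c7)) :=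
  Lre_c IH (LK LD1_c9 LD2_c48 LD3_c48) (LK LD1_c17 LD2_c59 LD3_c7) Lrfl Lrfl
theorem f876823 : Led Lsl_df (LP (LK LD1_c21 LD2_c3 LD3_c42)) = (LP (LK LD1_c17 LD2_c59 LD3_c7)) :=
  Lgr Lrot106 (Lpr_ct (f749128 IH) (Lpr_dt (f749124 IH) (Lpr_ct (f876806 IH) (Lpe (f876807 IH) (Lpr_ct (f876819 IH) (Lpr_af (f752105 IH) (Lpe (f387187 IH) (Lpe (f387212 IH) (Lpr_ct (f387215 IH) (Lpn (LP (LK LD1_c17 LD2_c59 LD3_c7))))))))))))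
theorem f876824 : Led Lsl_dt (LP (LK LD1_c17 LD2_c59 LD3_c7)) = (LP (LK LD1_c21 LD2_c3 LD3_c42)) :=
  Leop (Lpr_df (f876823 IH) (Lpn (LP (LK LD1_c17 LD2_c59 LD3_c7))))
theorem seed_2038 : LEOK LG_d (LK LD1_c17 LD2_c59 LD3_c7) :=
  Leoe_d (LK LD1_c17 LD2_c59 LD3_c7) (f876824 IH)
def v35686 : LQ := Led Lsl_et (LP (LK LD1_c8 LD2_c0 LD3_c50))
theorem f876856 : Led Lsl_et (LP (LK LD1_c8 LD2_c0 LD3_c50)) = v35686 :=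
  Lrfl
theorem f876859 : Led Lsl_ef (LP (LK LD1_c8 LD2_c0 LD3_c50)) = v35686 :=
  Lgr Lrot88 (Lpr_et (f876856 IH) (Lpn v35686))
theorem f739837 : Led Lsl_bt (LP (LK LD1_c8 LD2_c0 LD3_c50)) = (LP (LK LD1_c15 LD2_c5 LD3_c30)) :=
  Lre_b IH (LK LD1_c8 LD2_c0 LD3_c50) (LK LD1_c15 LD2_c5 LD3_c30) Lrfl Lrfl
theorem f739829 : Led Lsl_dt (LP (LK LD1_c15 LD2_c5 LD3_c30)) = (LP (LK LD1_c8 LD2_c0 LD3_c48)) :=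
  Lre_d IH (LK LD1_c15 LD2_c5 LD3_c30) (LK LD1_c8 LD2_c0 LD3_c48) Lrfl Lrfl
theorem f424212 : Led Lsl_gt (LP (LK LD1_c11 LD2_c7 LD3_c6)) = (LP (LK LD1_c20 LD2_c0 LD3_c23)) :=
  Lre_g IH (LK LD1_c11 LD2_c7 LD3_c6) (LK LD1_c20 LD2_c0 LD3_c23) Lrfl Lrfl
theorem f739835 : Led Lsl_et (LP (LK LD1_c15 LD2_c5 LD3_c30)) = (LP (LK LD1_c20 LD2_c0 LD3_c23)) :=
  Lgr Lrot122 (Lpr_dt (f739829 IH) (Lpr_gt (K55.f739825 IH) (Lpr_df (K51.f573001 IH) (Lpr_et (K51.f172487 IH) (Lpe (K39.f424209 IH) (Lpr_dt (K40.f211897 IH) (Lpr_gt (K39.f211852 IH) (Lpe (K43.f211891 IH) (Lpr_et (K54.f424211 IH) (Lpr_gt (f424212 IH) (Lpn (LP (LK LD1_c20 LD2_c0 LD3_c23)))))))))))))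
theorem f876863 : Led Lsl_bt (LP (LK LD1_c20 LD2_c0 LD3_c23)) = v35686 :=
  Lgr Lrot119 (Lpe (f739835 IH) (Lpe (f739837 IH) (Lpr_ef (f876859 IH) (Lpn v35686))))
theorem f414045 : Led Lsl_dt (LP (LK LD1_c15 LD2_c4 LD3_c12)) = (LP (LK LD1_c8 LD2_c0 LD3_c24)) :=
  Lre_d IH (LK LD1_c15 LD2_c4 LD3_c12) (LK LD1_c8 LD2_c0 LD3_c24) Lrfl Lrfl
def v35625 : LQ := Led Lsl_et (LP (LK LD1_c7 LD2_c59 LD3_c42))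
theorem f876137 : Led Lsl_et (LP (LK LD1_c7 LD2_c59 LD3_c42)) = v35625 :=
  Lrfl
theorem f876140 : Led Lsl_ef (LP (LK LD1_c7 LD2_c59 LD3_c42)) = v35625 :=
  Lgr Lrot88 (Lpr_et (f876137 IH) (Lpn v35625))
theorem f876139 : Led Lsl_df (LP (LK LD1_c11 LD2_c24 LD3_c27)) = v35625 :=
  Lgr Lrot70 (Lpr_et (K65.f828247 IH) (Lpe (K65.f828244 IH) (Lpr_et (K65.f767326 IH) (Lpe (K65.f741657 IH) (Lpr_et (f876137 IH) (Lpn v35625))))))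
theorem f319484 : Led Lsl_et (LP (LK LD1_c11 LD2_c6 LD3_c60)) = (LP (LK LD1_c11 LD2_c12 LD3_c3)) :=
  Lgr Lrot87 (Lpr_ef (K53.f319481 IH) (Lpn (LP (LK LD1_c11 LD2_c12 LD3_c3))))
theorem f876861 : Led Lsl_gf (LP (LK LD1_c11 LD2_c12 LD3_c3)) = v35686 :=
  Lgr Lrot141 (Lpe (f319484 IH) (Lpr_dt (K53.f615434 IH) (Lpr_gt (K57.f757847 IH) (Lpr_df (f876139 IH) (Lpe (f876140 IH) (Lpr_gt (K65.f414046 IH) (Lpr_dt (f414045 IH) (Lpr_gt (K55.f414040 IH) (Lpe (f427685 IH) (Lpr_et (f876856 IH) (Lpn v35686)))))))))))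
theorem f552630 : Led Lsl_ct (LP (LK LD1_c5 LD2_c42 LD3_c49)) = (LP (LK LD1_c11 LD2_c15 LD3_c52)) :=
  Lre_c IH (LK LD1_c5 LD2_c42 LD3_c49) (LK LD1_c11 LD2_c15 LD3_c52) Lrfl Lrfl
theorem f552625 : Led Lsl_gt (LP (LK LD1_c11 LD2_c15 LD3_c52)) = (LP (LK LD1_c20 LD2_c11 LD3_c32)) :=
  Lre_g IH (LK LD1_c11 LD2_c15 LD3_c52) (LK LD1_c20 LD2_c11 LD3_c32) Lrfl Lrfl
theorem f876864 : Led Lsl_ct (LP (LK LD1_c20 LD2_c0 LD3_c23)) = (LP (LK LD1_c20 LD2_c11 LD3_c32)) :=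
  Lgr Lrot63 (Lpr_bt (f876863 IH) (Lpe (f876861 IH) (Lpe (K36.f225488 IH) (Lpr_ct (K54.f727699 IH) (Lpr_gt (K54.f731545 IH) (Lpe (K54.f731548 IH) (Lpr_bt (K54.f186519 IH) (Lpr_gt (K54.f714527 IH) (Lpr_ct (f552630 IH) (Lpr_gt (f552625 IH) (Lpn (LP (LK LD1_c20 LD2_c11 LD3_c32)))))))))))))
theorem f876865 : Led Lsl_ct (LP (LK LD1_c20 LD2_c0 LD3_c23)) = (LP (LK LD1_c20 LD2_c11 LD3_c32)) :=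
  Leop (Lpe (f876864 IH) (Lpn (LP (LK LD1_c20 LD2_c0 LD3_c23))))
theorem seed_2039 : LEOK LG_c (LK LD1_c20 LD2_c0 LD3_c23) :=
  Leoe_c (LK LD1_c20 LD2_c0 LD3_c23) (f876865 IH)
theorem f140828 : Led Lsl_dt (LP (LK LD1_c15 LD2_c5 LD3_c5)) = (LP (LK LD1_c8 LD2_c0 LD3_c23)) :=
  Lre_d IH (LK LD1_c15 LD2_c5 LD3_c5) (LK LD1_c8 LD2_c0 LD3_c23) Lrfl Lrfl
def v12299 : LQ := Led Lsl_ft (LP (LK LD1_c3 LD2_c59 LD3_c50))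
theorem f689248 : Led Lsl_ft (LP (LK LD1_c3 LD2_c59 LD3_c50)) = v12299 :=
  Lrfl
theorem f876368 : (LP (LK LD1_c8 LD2_c0 LD3_c23)) = v12299 :=
  Lefun (Lecon (Lfl_ff (f876347 IH)) (f876360 IH).symm) (f689248 IH)
theorem f689249 : Led Lsl_af (LP (LK LD1_c3 LD2_c59 LD3_c51)) = v12299 :=
  Lgr Lrot45 (Lpr_ft (f689244 IH) (Lpe (f689242 IH) (Lpr_ft (f689248 IH) (Lpn v12299))))
theorem f414041 : Led Lsl_dt (LP (LK LD1_c3 LD2_c59 LD3_c51)) = (LP (LK LD1_c8 LD2_c0 LD3_c50)) :=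
  Lre_d IH (LK LD1_c3 LD2_c59 LD3_c51) (LK LD1_c8 LD2_c0 LD3_c50) Lrfl Lrfl
theorem f876523 : Led Lsl_af (LP (LK LD1_c15 LD2_c5 LD3_c5)) = (LP (LK LD1_c8 LD2_c0 LD3_c50)) :=
  Lgr Lrot117 (Lpr_dt (f140828 IH) (Lpqs (f876368 IH) (Lpe (f689249 IH) (Lpr_dt (f414041 IH) (Lpn (LP (LK LD1_c8 LD2_c0 LD3_c50)))))))
theorem f876525 : Led Lsl_at (LP (LK LD1_c15 LD2_c5 LD3_c5)) = (LP (LK LD1_c8 LD2_c0 LD3_c50)) :=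
  Lgr Lrot100 (Lpr_af (f876523 IH) (Lpn (LP (LK LD1_c8 LD2_c0 LD3_c50))))
def v15488 : LQ := Led Lsl_gt (LP (LK LD1_c5 LD2_c40 LD3_c43))
theorem f737729 : Led Lsl_gt (LP (LK LD1_c5 LD2_c40 LD3_c43)) = v15488 :=
  Lrfl
theorem f579047 : Led Lsl_dt (LP (LK LD1_c7 LD2_c59 LD3_c29)) = (LP (LK LD1_c4 LD2_c19 LD3_c52)) :=
  Lgr Lrot105 (Lpe (K42.f99586 IH) (Lpe (K9.f40146 IH) (Lpe (K42.f571863 IH) (Lpe (K42.f571870 IH) (Lpr_gt (K43.f577591 IH) (Lpr_dt (K38.f423542 IH) (Lpr_gt (K43.f579043 IH) (Lpr_dt (K50.f557107 IH) (Lpe (K40.f225662 IH) (Lpn (LP (LK LD1_c4 LD2_c19 LD3_c52))))))))))))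
theorem f40276 : Led Lsl_et (LP (LK LD1_c7 LD2_c59 LD3_c32)) = (LP (LK LD1_c3 LD2_c59 LD3_c5)) :=
  Lre_e IH (LK LD1_c7 LD2_c59 LD3_c32) (LK LD1_c3 LD2_c59 LD3_c5) Lrfl Lrfl
theorem f737730 : Led Lsl_et (LP (LK LD1_c15 LD2_c5 LD3_c5)) = v15488 :=
  Lgr Lrot122 (Lpr_dt (f140828 IH) (Lpr_gt (K9.f101683 IH) (Lpe (K1.f40272 IH) (Lpr_et (f40276 IH) (Lpr_gt (K42.f99586 IH) (Lpr_dt (f579047 IH) (Lpr_gt (K40.f180231 IH) (Lpr_df (K36.f225659 IH) (Lpr_et (K12.f225544 IH) (Lpr_gt (f737729 IH) (Lpn v15488)))))))))))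
theorem f737731 : Led Lsl_ef (LP (LK LD1_c15 LD2_c5 LD3_c5)) = v15488 :=
  Lgr Lrot88 (Lpr_et (f737730 IH) (Lpn v15488))
theorem f876857 : Led Lsl_af v15488 = v35686 :=
  Lgr Lrot50 (Lpe (f737731 IH) (Lpr_at (f876525 IH) (Lpr_et (f876856 IH) (Lpn v35686))))
theorem f225515 : Led Lsl_gt (LP (LK LD1_c11 LD2_c12 LD3_c2)) = (LP (LK LD1_c5 LD2_c40 LD3_c43)) :=
  Lre_g IH (LK LD1_c11 LD2_c12 LD3_c2) (LK LD1_c5 LD2_c40 LD3_c43) Lrfl Lrfl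
theorem f876872 : Led Lsl_ft (LP (LK LD1_c11 LD2_c12 LD3_c2)) = v35686 :=
  Lgr Lrot2 (Lpr_gt (f225515 IH) (Lpr_gt (f737729 IH) (Lpr_af (f876857 IH) (Lpn v35686))))
theorem f225548 : Led Lsl_bt (LP (LK LD1_c20 LD2_c6 LD3_c45)) = (LP (LK LD1_c11 LD2_c12 LD3_c2)) :=
  Lre_b IH (LK LD1_c20 LD2_c6 LD3_c45) (LK LD1_c11 LD2_c12 LD3_c2) Lrfl Lrfl
theorem f739839 : Led Lsl_ef (LP (LK LD1_c15 LD2_c5 LD3_c30)) = (LP (LK LD1_c20 LD2_c0 LD3_c23)) :=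
  Lgr Lrot88 (Lpr_et (f739835 IH) (Lpn (LP (LK LD1_c20 LD2_c0 LD3_c23))))
theorem f876858 : Led Lsl_bf (LP (LK LD1_c20 LD2_c0 LD3_c23)) = v35686 :=
  Lgr Lrot96 (Lpe (f739839 IH) (Lpr_bt (f739841 IH) (Lpr_et (f876856 IH) (Lpn v35686))))
theorem f876873 : Led Lsl_ff (LP (LK LD1_c20 LD2_c6 LD3_c45)) = (LP (LK LD1_c20 LD2_c0 LD3_c23)) :=
  Lgr Lrot25 (Lpr_bt (f225548 IH) (Lpr_ft (f876872 IH) (Lpe (f876858 IH) (Lpn (LP (LK LD1_c20 LD2_c0 LD3_c23))))))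
theorem f876874 : Led Lsl_ft (LP (LK LD1_c20 LD2_c0 LD3_c23)) = (LP (LK LD1_c20 LD2_c6 LD3_c45)) :=
  Leop (Lpr_ff (f876873 IH) (Lpn (LP (LK LD1_c20 LD2_c0 LD3_c23))))
theorem seed_2040 : LEOK LG_f (LK LD1_c20 LD2_c0 LD3_c23) :=
  Leoe_f (LK LD1_c20 LD2_c0 LD3_c23) (f876874 IH)
def v35724 : LQ := Led Lsl_at (LP (LK LD1_c8 LD2_c2 LD3_c36))
theorem f877060 : Led Lsl_at (LP (LK LD1_c8 LD2_c2 LD3_c36)) = v35724 :=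
  Lrfl
theorem f81521 : Led Lsl_ft (LP (LK LD1_c15 LD2_c8 LD3_c38)) = (LP (LK LD1_c8 LD2_c2 LD3_c36)) :=
  Lre_f IH (LK LD1_c15 LD2_c8 LD3_c38) (LK LD1_c8 LD2_c2 LD3_c36) Lrfl Lrfl
theorem f568143 : Led Lsl_ct (LP (LK LD1_c8 LD2_c51 LD3_c12)) = (LP (LK LD1_c16 LD2_c32 LD3_c60)) :=
  Lre_c IH (LK LD1_c8 LD2_c51 LD3_c12) (LK LD1_c16 LD2_c32 LD3_c60) Lrfl Lrfl
theorem f444883 : Led Lsl_et (LP (LK LD1_c4 LD2_c26 LD3_c44)) = (LP (LK LD1_c8 LD2_c51 LD3_c6)) :=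
  Lre_e IH (LK LD1_c4 LD2_c26 LD3_c44) (LK LD1_c8 LD2_c51 LD3_c6) Lrfl Lrfl
theorem f568131 : Led Lsl_gf (LP (LK LD1_c8 LD2_c45 LD3_c59)) = (LP (LK LD1_c8 LD2_c51 LD3_c6)) :=
  Lgr Lrot141 (Lpe (K46.f81262 IH) (Lpr_dt (K46.f81294 IH) (Lpr_gt (K46.f568127 IH) (Lpe (K46.f568129 IH) (Lpe (K46.f445446 IH) (Lpe (K46.f445538 IH) (Lpr_dt (K46.f445265 IH) (Lpr_gt (K46.f444875 IH) (Lpe (K37.f444856 IH) (Lpr_et (f444883 IH) (Lpn (LP (LK LD1_c8 LD2_c51 LD3_c6)))))))))))))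
theorem f81269 : Led Lsl_gt (LP (LK LD1_c8 LD2_c45 LD3_c59)) = (LP (LK LD1_c16 LD2_c24 LD3_c10)) :=
  Lre_g IH (LK LD1_c8 LD2_c45 LD3_c59) (LK LD1_c16 LD2_c24 LD3_c10) Lrfl Lrfl
theorem f444860 : Led Lsl_ft (LP (LK LD1_c8 LD2_c51 LD3_c6)) = (LP (LK LD1_c16 LD2_c32 LD3_c60)) :=
  Lre_f IH (LK LD1_c8 LD2_c51 LD3_c6) (LK LD1_c16 LD2_c32 LD3_c60) Lrfl Lrfl
theorem f568133 : Led Lsl_af (LP (LK LD1_c16 LD2_c24 LD3_c10)) = (LP (LK LD1_c16 LD2_c32 LD3_c60)) :=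
  Lgr Lrot31 (Lpe (f81269 IH) (Lpr_gf (f568131 IH) (Lpr_ft (f444860 IH) (Lpn (LP (LK LD1_c16 LD2_c32 LD3_c60))))))
theorem f696813 : Led Lsl_cf (LP (LK LD1_c15 LD2_c0 LD3_c29)) = (LP (LK LD1_c16 LD2_c24 LD3_c10)) :=
  Lgr Lrot1 (Lpr_at (K57.f696807 IH) (Lpr_ct (f568143 IH) (Lpe (f568133 IH) (Lpn (LP (LK LD1_c16 LD2_c24 LD3_c10))))))
theorem f81260 : Led Lsl_ct (LP (LK LD1_c6 LD2_c24 LD3_c52)) = (LP (LK LD1_c8 LD2_c45 LD3_c59)) :=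
  Lgr Lrot59 (Lpr_cf (K46.f81248 IH) (Lpn (LP (LK LD1_c8 LD2_c45 LD3_c59))))
theorem f444848 : Led Lsl_cf (LP (LK LD1_c6 LD2_c13 LD3_c57)) = (LP (LK LD1_c6 LD2_c24 LD3_c21)) :=
  Lgr Lrot11 (Lpr_ct (K37.f444845 IH) (Lpn (LP (LK LD1_c6 LD2_c24 LD3_c21))))
theorem f34424 : Led Lsl_at (LP (LK LD1_c15 LD2_c10 LD3_c53)) = (LP (LK LD1_c15 LD2_c13 LD3_c59)) :=
  Lgr Lrot100 (Lpr_af (K10.f34419 IH) (Lpn (LP (LK LD1_c15 LD2_c13 LD3_c59))))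
theorem f34127 : Led Lsl_ft (LP (LK LD1_c8 LD2_c3 LD3_c51)) = (LP (LK LD1_c15 LD2_c10 LD3_c53)) :=
  Lre_f IH (LK LD1_c8 LD2_c3 LD3_c51) (LK LD1_c15 LD2_c10 LD3_c53) Lrfl Lrfl
theorem f34096 : Led Lsl_gt (LP (LK LD1_c8 LD2_c3 LD3_c51)) = (LP (LK LD1_c15 LD2_c10 LD3_c50)) :=
  Lre_g IH (LK LD1_c8 LD2_c3 LD3_c51) (LK LD1_c15 LD2_c10 LD3_c50) Lrfl Lrfl
theorem f34539 : Led Lsl_gt (LP (LK LD1_c15 LD2_c10 LD3_c50)) = (LP (LK LD1_c15 LD2_c13 LD3_c59)) :=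
  Lgr Lrot46 (Lpe (f34096 IH) (Lpr_ft (f34127 IH) (Lpr_at (f34424 IH) (Lpn (LP (LK LD1_c15 LD2_c13 LD3_c59))))))
theorem f445121 : Led Lsl_cf (LP (LK LD1_c15 LD2_c10 LD3_c50)) = (LP (LK LD1_c8 LD2_c10 LD3_c42)) :=
  Lgr Lrot169 (Lpr_gt (f34539 IH) (Lpr_ct (K2.f34228 IH) (Lpe (K37.f81228 IH) (Lpr_cf (K32.f81245 IH) (Lpe (K37.f70155 IH) (Lpr_cf (f444848 IH) (Lpe (K37.f56354 IH) (Lpe (K8.f56337 IH) (Lpr_gt (K47.f46738 IH) (Lpn (LP (LK LD1_c8 LD2_c10 LD3_c42))))))))))))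
theorem f445123 : Led Lsl_ct (LP (LK LD1_c15 LD2_c10 LD3_c50)) = (LP (LK LD1_c8 LD2_c10 LD3_c42)) :=
  Lgr Lrot59 (Lpr_cf (f445121 IH) (Lpn (LP (LK LD1_c8 LD2_c10 LD3_c42))))
theorem f696891 : Led Lsl_gf (LP (LK LD1_c6 LD2_c24 LD3_c52)) = (LP (LK LD1_c8 LD2_c2 LD3_c36)) :=
  Lgr Lrot147 (Lpr_ct (f81260 IH) (Lpr_gt (f81269 IH) (Lpe (f696813 IH) (Lpr_df (K57.f696882 IH) (Lpe (f445123 IH) (Lpe (f34096 IH) (Lpe (K10.f34438 IH) (Lpe (K37.f34477 IH) (Lpe (K37.f81510 IH) (Lpn (LP (LK LD1_c8 LD2_c2 LD3_c36))))))))))))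
theorem f81522 : Led Lsl_ft (LP (LK LD1_c8 LD2_c2 LD3_c36)) = (LP (LK LD1_c15 LD2_c8 LD3_c38)) :=
  Lre_f IH (LK LD1_c8 LD2_c2 LD3_c36) (LK LD1_c15 LD2_c8 LD3_c38) Lrfl Lrfl
theorem f696893 : Led Lsl_af (LP (LK LD1_c12 LD2_c22 LD3_c41)) = (LP (LK LD1_c15 LD2_c8 LD3_c38)) :=
  Lgr Lrot31 (Lpe (K47.f59772 IH) (Lpr_gf (f696891 IH) (Lpr_ft (f81522 IH) (Lpn (LP (LK LD1_c15 LD2_c8 LD3_c38))))))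
theorem f696897 : Led Lsl_at (LP (LK LD1_c12 LD2_c22 LD3_c41)) = (LP (LK LD1_c15 LD2_c8 LD3_c38)) :=
  Lgr Lrot100 (Lpr_af (f696893 IH) (Lpn (LP (LK LD1_c15 LD2_c8 LD3_c38))))
theorem f877063 : Led Lsl_ff (LP (LK LD1_c12 LD2_c22 LD3_c41)) = v35724 :=
  Lgr Lrot30 (Lpr_at (f696897 IH) (Lpr_ft (f81521 IH) (Lpr_at (f877060 IH) (Lpn v35724))))
theorem f877064 : Led Lsl_ft (LP (LK LD1_c12 LD2_c22 LD3_c41)) = v35724 :=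
  Lgr Lrot48 (Lpr_ff (f877063 IH) (Lpn v35724))
def v12310 : LQ := Led Lsl_at (LP (LK LD1_c4 LD2_c0 LD3_c55))
theorem f689301 : Led Lsl_at (LP (LK LD1_c4 LD2_c0 LD3_c55)) = v12310 :=
  Lrfl
theorem f689302 : Led Lsl_af (LP (LK LD1_c4 LD2_c0 LD3_c55)) = v12310 :=
  Lgr Lrot0 (Lpr_at (f689301 IH) (Lpn v12310))
theorem f877062 : Led Lsl_ef v12310 = v35724 :=
  Lgr Lrot20 (Lpe (f689302 IH) (Lpr_et (K61.f37405 IH) (Lpr_at (f877060 IH) (Lpn v35724))))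
theorem f689305 : Led Lsl_ft (LP (LK LD1_c4 LD2_c0 LD3_c56)) = v12310 :=
  Lgr Lrot2 (Lpr_gt (K37.f30053 IH) (Lpr_gt (K37.f30627 IH) (Lpr_af (f689302 IH) (Lpn v12310))))
theorem f689306 : Led Lsl_ff (LP (LK LD1_c4 LD2_c0 LD3_c56)) = v12310 :=
  Lgr Lrot3 (Lpr_ft (f689305 IH) (Lpn v12310))
theorem f35717 : Led Lsl_et (LP (LK LD1_c4 LD2_c0 LD3_c56)) = (LP (LK LD1_c8 LD2_c2 LD3_c39)) :=
  Lre_e IH (LK LD1_c4 LD2_c0 LD3_c56) (LK LD1_c8 LD2_c2 LD3_c39) Lrfl Lrfl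
theorem f35704 : Led Lsl_ft (LP (LK LD1_c8 LD2_c2 LD3_c39)) = (LP (LK LD1_c15 LD2_c8 LD3_c48)) :=
  Lre_f IH (LK LD1_c8 LD2_c2 LD3_c39) (LK LD1_c15 LD2_c8 LD3_c48) Lrfl Lrfl
theorem f877065 : Led Lsl_ef (LP (LK LD1_c12 LD2_c22 LD3_c41)) = (LP (LK LD1_c15 LD2_c8 LD3_c48)) :=
  Lgr Lrot21 (Lpr_ft (f877064 IH) (Lpe (f877062 IH) (Lpe (f689306 IH) (Lpr_et (f35717 IH) (Lpr_ft (f35704 IH) (Lpn (LP (LK LD1_c15 LD2_c8 LD3_c48))))))))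
theorem f877066 : Led Lsl_et (LP (LK LD1_c15 LD2_c8 LD3_c48)) = (LP (LK LD1_c12 LD2_c22 LD3_c41)) :=
  Leop (Lpr_ef (f877065 IH) (Lpn (LP (LK LD1_c15 LD2_c8 LD3_c48))))
theorem seed_2041 : LEOK LG_e (LK LD1_c15 LD2_c8 LD3_c48) :=
  Leoe_e (LK LD1_c15 LD2_c8 LD3_c48) (f877066 IH)
def v35726 : LQ := Led Lsl_ft (LP (LK LD1_c8 LD2_c3 LD3_c17))
theorem f877984 : Led Lsl_ft (LP (LK LD1_c8 LD2_c3 LD3_c17)) = v35726 :=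
  Lrfl
theorem f877989 : Led Lsl_ff (LP (LK LD1_c8 LD2_c3 LD3_c17)) = v35726 :=
  Lgr Lrot3 (Lpr_ft (f877984 IH) (Lpn v35726))
theorem f877992 : Led Lsl_dt (LP (LK LD1_c21 LD2_c30 LD3_c43)) = v35726 :=
  Lgr Lrot60 (Lpe (K37.f407965 IH) (Lpe (K47.f407962 IH) (Lpr_ff (f877989 IH) (Lpn v35726))))
theorem f554271 : Led Lsl_cf (LP (LK LD1_c20 LD2_c26 LD3_c19)) = (LP (LK LD1_c14 LD2_c1 LD3_c60)) :=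
  Lgr Lrot108 (Lpr_ft (K37.f411238 IH) (Lpr_ct (K39.f554265 IH) (Lpr_ft (K28.f159416 IH) (Lpn (LP (LK LD1_c14 LD2_c1 LD3_c60))))))
theorem f554282 : Led Lsl_ct (LP (LK LD1_c20 LD2_c26 LD3_c19)) = (LP (LK LD1_c14 LD2_c1 LD3_c60)) :=
  Lgr Lrot59 (Lpr_cf (f554271 IH) (Lpn (LP (LK LD1_c14 LD2_c1 LD3_c60))))
theorem f159452 : Led Lsl_at (LP (LK LD1_c14 LD2_c1 LD3_c60)) = (LP (LK LD1_c23 LD2_c34 LD3_c42)) :=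
  Lre_a IH (LK LD1_c14 LD2_c1 LD3_c60) (LK LD1_c23 LD2_c34 LD3_c42) Lrfl Lrfl
theorem f554284 : Led Lsl_cf (LP (LK LD1_c21 LD2_c30 LD3_c43)) = (LP (LK LD1_c23 LD2_c34 LD3_c42)) :=
  Lgr Lrot1 (Lpe (K37.f411239 IH) (Lpr_ct (f554282 IH) (Lpr_at (f159452 IH) (Lpn (LP (LK LD1_c23 LD2_c34 LD3_c42))))))
theorem f159476 : Led Lsl_gt (LP (LK LD1_c14 LD2_c1 LD3_c57)) = (LP (LK LD1_c23 LD2_c34 LD3_c42)) :=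
  Lre_g IH (LK LD1_c14 LD2_c1 LD3_c57) (LK LD1_c23 LD2_c34 LD3_c42) Lrfl Lrfl
theorem f420371 : Led Lsl_et (LP (LK LD1_c6 LD2_c24 LD3_c51)) = (LP (LK LD1_c12 LD2_c22 LD3_c40)) :=
  Lre_e IH (LK LD1_c6 LD2_c24 LD3_c51) (LK LD1_c12 LD2_c22 LD3_c40) Lrfl Lrfl
theorem f608405 : Led Lsl_ct (LP (LK LD1_c12 LD2_c22 LD3_c40)) = (LP (LK LD1_c14 LD2_c1 LD3_c57)) :=
  Lgr Lrot15 (Lpe (f420371 IH) (Lpe (K46.f81292 IH) (Lpr_ef (K64.f608403 IH) (Lpn (LP (LK LD1_c14 LD2_c1 LD3_c57))))))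
theorem f272099 : Led Lsl_af (LP (LK LD1_c8 LD2_c5 LD3_c16)) = (LP (LK LD1_c8 LD2_c3 LD3_c47)) :=
  Lgr Lrot0 (Lpr_at (K16.f272091 IH) (Lpn (LP (LK LD1_c8 LD2_c3 LD3_c47))))
theorem f159857 : Led Lsl_et (LP (LK LD1_c7 LD2_c29 LD3_c9)) = (LP (LK LD1_c14 LD2_c7 LD3_c54)) :=
  Lre_e IH (LK LD1_c7 LD2_c29 LD3_c9) (LK LD1_c14 LD2_c7 LD3_c54) Lrfl Lrfl
theorem f160743 : Led Lsl_cf (LP (LK LD1_c12 LD2_c5 LD3_c50)) = (LP (LK LD1_c14 LD2_c7 LD3_c54)) :=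
  Lgr Lrot39 (Lpr_et (K35.f160652 IH) (Lpr_ct (K36.f160659 IH) (Lpr_et (f159857 IH) (Lpn (LP (LK LD1_c14 LD2_c7 LD3_c54))))))
theorem f160066 : Led Lsl_at (LP (LK LD1_c7 LD2_c29 LD3_c10)) = (LP (LK LD1_c14 LD2_c7 LD3_c54)) :=
  Lre_a IH (LK LD1_c7 LD2_c29 LD3_c10) (LK LD1_c14 LD2_c7 LD3_c54) Lrfl Lrfl
theorem f159770 : Led Lsl_et (LP (LK LD1_c7 LD2_c29 LD3_c10)) = (LP (LK LD1_c3 LD2_c44 LD3_c8)) :=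
  Lre_e IH (LK LD1_c7 LD2_c29 LD3_c10) (LK LD1_c3 LD2_c44 LD3_c8) Lrfl Lrfl
theorem f160616 : Led Lsl_ct (LP (LK LD1_c8 LD2_c1 LD3_c14)) = (LP (LK LD1_c7 LD2_c29 LD3_c10)) :=
  Lgr Lrot15 (Lpe (K35.f80878 IH) (Lpr_cf (K37.f159776 IH) (Lpe (f159770 IH) (Lpn (LP (LK LD1_c7 LD2_c29 LD3_c10))))))
theorem f160745 : Led Lsl_at (LP (LK LD1_c12 LD2_c5 LD3_c50)) = (LP (LK LD1_c8 LD2_c1 LD3_c14)) :=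
  Lgr Lrot107 (Lpr_cf (f160743 IH) (Lpe (f160066 IH) (Lpe (f160616 IH) (Lpn (LP (LK LD1_c8 LD2_c1 LD3_c14))))))
theorem f538629 : Led Lsl_dt (LP (LK LD1_c8 LD2_c5 LD3_c16)) = (LP (LK LD1_c12 LD2_c5 LD3_c50)) :=
  Lgr Lrot44 (Lpr_af (f272099 IH) (Lpr_df (K35.f538627 IH) (Lpe (f160745 IH) (Lpn (LP (LK LD1_c12 LD2_c5 LD3_c50))))))
theorem f607033 : Led Lsl_gf (LP (LK LD1_c12 LD2_c22 LD3_c40)) = (LP (LK LD1_c12 LD2_c5 LD3_c50)) :=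
  Lgr Lrot145 (Lpe (K64.f59774 IH) (Lpr_et (K64.f59773 IH) (Lpr_gt (K46.f607031 IH) (Lpr_dt (K46.f81236 IH) (Lpr_gt (K46.f70201 IH) (Lpr_df (K32.f81206 IH) (Lpr_et (K47.f34492 IH) (Lpr_gt (K13.f34584 IH) (Lpe (K35.f81237 IH) (Lpr_dt (f538629 IH) (Lpn (LP (LK LD1_c12 LD2_c5 LD3_c50)))))))))))))
theorem f240516 : Led Lsl_et (LP (LK LD1_c4 LD2_c1 LD3_c17)) = (LP (LK LD1_c8 LD2_c3 LD3_c17)) :=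
  Lre_e IH (LK LD1_c4 LD2_c1 LD3_c17) (LK LD1_c8 LD2_c3 LD3_c17) Lrfl Lrfl
theorem f240517 : Led Lsl_cf (LP (LK LD1_c10 LD2_c9 LD3_c22)) = (LP (LK LD1_c8 LD2_c3 LD3_c17)) :=
  Lgr Lrot39 (Lpr_et (K44.f21729 IH) (Lpr_ct (K13.f240239 IH) (Lpr_et (f240516 IH) (Lpn (LP (LK LD1_c8 LD2_c3 LD3_c17))))))
theorem f877991 : Led Lsl_ct (LP (LK LD1_c18 LD2_c30 LD3_c4)) = v35726 :=
  Lgr Lrot40 (Lpe (K44.f410278 IH) (Lpr_cf (f240517 IH) (Lpr_ff (f877989 IH) (Lpn v35726))))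
theorem f410283 : Led Lsl_af (LP (LK LD1_c18 LD2_c30 LD3_c4)) = (LP (LK LD1_c25 LD2_c1 LD3_c25)) :=
  Lgr Lrot0 (Lpr_at (K44.f410279 IH) (Lpn (LP (LK LD1_c25 LD2_c1 LD3_c25))))
theorem f262429 : Led Lsl_ft (LP (LK LD1_c15 LD2_c12 LD3_c24)) = (LP (LK LD1_c25 LD2_c1 LD3_c25)) :=
  Lre_f IH (LK LD1_c15 LD2_c12 LD3_c24) (LK LD1_c25 LD2_c1 LD3_c25) Lrfl Lrfl
theorem f242130 : Led Lsl_gt (LP (LK LD1_c15 LD2_c12 LD3_c24)) = (LP (LK LD1_c25 LD2_c1 LD3_c22)) :=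
  Lre_g IH (LK LD1_c15 LD2_c12 LD3_c24) (LK LD1_c25 LD2_c1 LD3_c22) Lrfl Lrfl
theorem f410303 : Led Lsl_gf (LP (LK LD1_c18 LD2_c30 LD3_c4)) = (LP (LK LD1_c25 LD2_c1 LD3_c22)) :=
  Lgr Lrot76 (Lpr_af (f410283 IH) (Lpe (f262429 IH) (Lpr_gt (f242130 IH) (Lpn (LP (LK LD1_c25 LD2_c1 LD3_c22))))))
theorem f877996 : Led Lsl_ct (LP (LK LD1_c15 LD2_c13 LD3_c45)) = (LP (LK LD1_c25 LD2_c1 LD3_c22)) :=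
  Lgr Lrot186 (Lpe (K47.f193421 IH) (Lpr_dt (f538629 IH) (Lpe (f607033 IH) (Lpr_ct (f608405 IH) (Lpr_gt (f159476 IH) (Lpe (f554284 IH) (Lpr_dt (f877992 IH) (Lpe (f877991 IH) (Lpr_gf (f410303 IH) (Lpn (LP (LK LD1_c25 LD2_c1 LD3_c22))))))))))))
theorem f877997 : Led Lsl_ct (LP (LK LD1_c15 LD2_c13 LD3_c45)) = (LP (LK LD1_c25 LD2_c1 LD3_c22)) :=
  Leop (Lpe (f877996 IH) (Lpn (LP (LK LD1_c15 LD2_c13 LD3_c45))))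
theorem seed_2042 : LEOK LG_c (LK LD1_c15 LD2_c13 LD3_c45) :=
  Leoe_c (LK LD1_c15 LD2_c13 LD3_c45) (f877997 IH)
def v35766 : LQ := Led Lsl_ft (LP (LK LD1_c8 LD2_c6 LD3_c28))
theorem f878232 : Led Lsl_ft (LP (LK LD1_c8 LD2_c6 LD3_c28)) = v35766 :=
  Lrfl
theorem f50490 : Led Lsl_gt (LP (LK LD1_c8 LD2_c6 LD3_c28)) = (LP (LK LD1_c15 LD2_c15 LD3_c59)) :=
  Lre_g IH (LK LD1_c8 LD2_c6 LD3_c28) (LK LD1_c15 LD2_c15 LD3_c59) Lrfl Lrfl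
theorem f50440 : Led Lsl_et (LP (LK LD1_c8 LD2_c6 LD3_c28)) = (LP (LK LD1_c4 LD2_c2 LD3_c54)) :=
  Lre_e IH (LK LD1_c8 LD2_c6 LD3_c28) (LK LD1_c4 LD2_c2 LD3_c54) Lrfl Lrfl
theorem f49342 : Led Lsl_et (LP (LK LD1_c5 LD2_c16 LD3_c59)) = (LP (LK LD1_c10 LD2_c23 LD3_c35)) :=
  Lre_e IH (LK LD1_c5 LD2_c16 LD3_c59) (LK LD1_c10 LD2_c23 LD3_c35) Lrfl Lrfl
theorem f50441 : Led Lsl_af (LP (LK LD1_c8 LD2_c6 LD3_c28)) = (LP (LK LD1_c10 LD2_c23 LD3_c35)) :=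
  Lgr Lrot50 (Lpr_et (f50440 IH) (Lpr_at (K14.f50424 IH) (Lpr_et (f49342 IH) (Lpn (LP (LK LD1_c10 LD2_c23 LD3_c35))))))
theorem f49360 : Led Lsl_ft (LP (LK LD1_c18 LD2_c51 LD3_c25)) = (LP (LK LD1_c10 LD2_c23 LD3_c35)) :=
  Lre_f IH (LK LD1_c18 LD2_c51 LD3_c25) (LK LD1_c10 LD2_c23 LD3_c35) Lrfl Lrfl
theorem f878233 : Led Lsl_af (LP (LK LD1_c18 LD2_c51 LD3_c25)) = v35766 :=
  Lgr Lrot45 (Lpr_ft (f49360 IH) (Lpe (f50441 IH) (Lpr_ft (f878232 IH) (Lpn v35766))))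
theorem f878236 : Led Lsl_gt (LP (LK LD1_c15 LD2_c15 LD3_c59)) = (LP (LK LD1_c18 LD2_c51 LD3_c25)) :=
  Lgr Lrot46 (Lpe (f50490 IH) (Lpr_ft (f878232 IH) (Lpe (f878233 IH) (Lpn (LP (LK LD1_c18 LD2_c51 LD3_c25))))))
theorem f878237 : Led Lsl_gt (LP (LK LD1_c15 LD2_c15 LD3_c59)) = (LP (LK LD1_c18 LD2_c51 LD3_c25)) :=
  Leop (Lpe (f878236 IH) (Lpn (LP (LK LD1_c15 LD2_c15 LD3_c59))))
theorem seed_2043 : LEOK LG_g (LK LD1_c15 LD2_c15 LD3_c59) :=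
  Leoe_g (LK LD1_c15 LD2_c15 LD3_c59) (f878237 IH)
def v35771 : LQ := Led Lsl_at (LP (LK LD1_c8 LD2_c7 LD3_c1))
theorem f878258 : Led Lsl_at (LP (LK LD1_c8 LD2_c7 LD3_c1)) = v35771 :=
  Lrfl
theorem f190044 : Led Lsl_bt (LP (LK LD1_c4 LD2_c14 LD3_c21)) = (LP (LK LD1_c8 LD2_c27 LD3_c23)) :=
  Lre_b IH (LK LD1_c4 LD2_c14 LD3_c21) (LK LD1_c8 LD2_c27 LD3_c23) Lrfl Lrfl
theorem f315523 : Led Lsl_ff (LP (LK LD1_c8 LD2_c7 LD3_c1)) = (LP (LK LD1_c8 LD2_c27 LD3_c23)) :=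
  Lgr Lrot25 (Lpr_bt (K39.f30976 IH) (Lpr_ft (K20.f315521 IH) (Lpr_bt (f190044 IH) (Lpn (LP (LK LD1_c8 LD2_c27 LD3_c23))))))
theorem f190038 : Led Lsl_at (LP (LK LD1_c15 LD2_c52 LD3_c44)) = (LP (LK LD1_c8 LD2_c27 LD3_c23)) :=
  Lre_a IH (LK LD1_c15 LD2_c52 LD3_c44) (LK LD1_c8 LD2_c27 LD3_c23) Lrfl Lrfl
theorem f878261 : Led Lsl_ff (LP (LK LD1_c15 LD2_c52 LD3_c44)) = v35771 :=
  Lgr Lrot30 (Lpr_at (f190038 IH) (Lpe (f315523 IH) (Lpr_at (f878258 IH) (Lpn v35771))))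
theorem f878264 : Led Lsl_ft (LP (LK LD1_c15 LD2_c52 LD3_c44)) = v35771 :=
  Lgr Lrot48 (Lpr_ff (f878261 IH) (Lpn v35771))
theorem f878259 : Led Lsl_af (LP (LK LD1_c8 LD2_c7 LD3_c1)) = v35771 :=
  Lgr Lrot0 (Lpr_at (f878258 IH) (Lpn v35771))
theorem f291071 : Led Lsl_gt (LP (LK LD1_c15 LD2_c17 LD3_c4)) = (LP (LK LD1_c8 LD2_c7 LD3_c1)) :=
  Lre_g IH (LK LD1_c15 LD2_c17 LD3_c4) (LK LD1_c8 LD2_c7 LD3_c1) Lrfl Lrfl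
theorem f878266 : Led Lsl_gt (LP (LK LD1_c15 LD2_c52 LD3_c44)) = (LP (LK LD1_c15 LD2_c17 LD3_c4)) :=
  Lgr Lrot5 (Lpr_ft (f878264 IH) (Lpe (f878259 IH) (Lpe (f291071 IH) (Lpn (LP (LK LD1_c15 LD2_c17 LD3_c4))))))
theorem f878267 : Led Lsl_gt (LP (LK LD1_c15 LD2_c52 LD3_c44)) = (LP (LK LD1_c15 LD2_c17 LD3_c4)) :=
  Leop (Lpe (f878266 IH) (Lpn (LP (LK LD1_c15 LD2_c52 LD3_c44))))
theorem seed_2044 : LEOK LG_g (LK LD1_c15 LD2_c52 LD3_c44) :=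
  Leoe_g (LK LD1_c15 LD2_c52 LD3_c44) (f878267 IH)
def v35781 : LQ := Led Lsl_ct (LP (LK LD1_c8 LD2_c7 LD3_c40))
theorem f878323 : Led Lsl_ct (LP (LK LD1_c8 LD2_c7 LD3_c40)) = v35781 :=
  Lrfl
theorem f315597 : Led Lsl_dt (LP (LK LD1_c2 LD2_c43 LD3_c49)) = (LP (LK LD1_c5 LD2_c35 LD3_c55)) :=
  Lre_d IH (LK LD1_c2 LD2_c43 LD3_c49) (LK LD1_c5 LD2_c35 LD3_c55) Lrfl Lrfl
theorem f330089 : Led Lsl_gt (LP (LK LD1_c5 LD2_c35 LD3_c55)) = (LP (LK LD1_c11 LD2_c4 LD3_c6)) :=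
  Lre_g IH (LK LD1_c5 LD2_c35 LD3_c55) (LK LD1_c11 LD2_c4 LD3_c6) Lrfl Lrfl
theorem f878327 : Led Lsl_dt (LP (LK LD1_c11 LD2_c4 LD3_c6)) = v35781 :=
  Lgr Lrot113 (Lpe (f330089 IH) (Lpe (f315597 IH) (Lpe (K24.f277985 IH) (Lpe (K25.f338657 IH) (Lpe (K19.f310557 IH) (Lpr_dt (K19.f42268 IH) (Lpr_gt (K19.f42403 IH) (Lpr_dt (K19.f305634 IH) (Lpr_ct (f878323 IH) (Lpn v35781))))))))))
def v14644 : LQ := Led Lsl_at (LP (LK LD1_c5 LD2_c16 LD3_c15))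
theorem f724754 : Led Lsl_at (LP (LK LD1_c5 LD2_c16 LD3_c15)) = v14644 :=
  Lrfl
theorem f724755 : Led Lsl_af (LP (LK LD1_c5 LD2_c16 LD3_c15)) = v14644 :=
  Lgr Lrot0 (Lpr_at (f724754 IH) (Lpn v14644))
theorem f724756 : Led Lsl_ft (LP (LK LD1_c5 LD2_c16 LD3_c16)) = v14644 :=
  Lgr Lrot2 (Lpr_gt (K23.f32381 IH) (Lpr_gt (K15.f32383 IH) (Lpr_af (f724755 IH) (Lpn v14644))))
theorem f724757 : Led Lsl_ff (LP (LK LD1_c5 LD2_c16 LD3_c16)) = v14644 :=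
  Lgr Lrot3 (Lpr_ft (f724756 IH) (Lpn v14644))
def v14687 : LQ := Led Lsl_ft (LP (LK LD1_c5 LD2_c18 LD3_c18))
theorem f724959 : Led Lsl_ft (LP (LK LD1_c5 LD2_c18 LD3_c18)) = v14687 :=
  Lrfl
def v14686 : LQ := Led Lsl_at (LP (LK LD1_c5 LD2_c18 LD3_c18))
theorem f724955 : Led Lsl_at (LP (LK LD1_c5 LD2_c18 LD3_c18)) = v14686 :=
  Lrfl
theorem f724956 : Led Lsl_af (LP (LK LD1_c5 LD2_c18 LD3_c18)) = v14686 :=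
  Lgr Lrot0 (Lpr_at (f724955 IH) (Lpn v14686))
theorem f724957 : Led Lsl_ft (LP (LK LD1_c5 LD2_c18 LD3_c19)) = v14686 :=
  Lgr Lrot2 (Lpr_gt (K17.f32207 IH) (Lpr_gt (K17.f32209 IH) (Lpr_af (f724956 IH) (Lpn v14686))))
theorem f724960 : Led Lsl_af (LP (LK LD1_c5 LD2_c18 LD3_c19)) = v14687 :=
  Lgr Lrot45 (Lpr_ft (f724957 IH) (Lpe (f724956 IH) (Lpr_ft (f724959 IH) (Lpn v14687))))
def v15051 : LQ := Led Lsl_ft (LP (LK LD1_c5 LD2_c31 LD3_c1))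
theorem f729766 : Led Lsl_ft (LP (LK LD1_c5 LD2_c31 LD3_c1)) = v15051 :=
  Lrfl
theorem f729768 : Led Lsl_ff (LP (LK LD1_c5 LD2_c31 LD3_c1)) = v15051 :=
  Lgr Lrot3 (Lpr_ft (f729766 IH) (Lpn v15051))
theorem f638387 : Led Lsl_af (LP (LK LD1_c2 LD2_c41 LD3_c55)) = K54.v4661 :=
  Lgr Lrot45 (Lpr_ft (K54.f638384 IH) (Lpe (K54.f638383 IH) (Lpr_ft (K54.f638386 IH) (Lpn K54.v4661))))
def v15050 : LQ := Led Lsl_at (LP (LK LD1_c5 LD2_c31 LD3_c1))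
theorem f729762 : Led Lsl_at (LP (LK LD1_c5 LD2_c31 LD3_c1)) = v15050 :=
  Lrfl
theorem f729763 : Led Lsl_af (LP (LK LD1_c5 LD2_c31 LD3_c1)) = v15050 :=
  Lgr Lrot0 (Lpr_at (f729762 IH) (Lpn v15050))
theorem f261459 : Led Lsl_gt (LP (LK LD1_c2 LD2_c41 LD3_c48)) = (LP (LK LD1_c5 LD2_c31 LD3_c1)) :=
  Lre_g IH (LK LD1_c2 LD2_c41 LD3_c48) (LK LD1_c5 LD2_c31 LD3_c1) Lrfl Lrfl
theorem f729764 : Led Lsl_ft (LP (LK LD1_c5 LD2_c31 LD3_c2)) = v15050 :=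
  Lgr Lrot2 (Lpr_gt (K15.f261621 IH) (Lpr_gt (f261459 IH) (Lpr_af (f729763 IH) (Lpn v15050))))
theorem f729765 : Led Lsl_ff (LP (LK LD1_c5 LD2_c31 LD3_c2)) = v15050 :=
  Lgr Lrot3 (Lpr_ft (f729764 IH) (Lpn v15050))
theorem f729769 : Led Lsl_at (LP (LK LD1_c5 LD2_c31 LD3_c2)) = v15051 :=
  Lgr Lrot66 (Lpr_ff (f729765 IH) (Lpe (f729762 IH) (Lpr_ff (f729768 IH) (Lpn v15051))))
theorem f342354 : Led Lsl_bt (LP (LK LD1_c2 LD2_c41 LD3_c54)) = (LP (LK LD1_c5 LD2_c31 LD3_c18)) :=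
  Lre_b IH (LK LD1_c2 LD2_c41 LD3_c54) (LK LD1_c5 LD2_c31 LD3_c18) Lrfl Lrfl
theorem f729798 : Led Lsl_bf K54.v4661 = K54.v15058 :=
  Lgr Lrot61 (Lpe (K54.f638388 IH) (Lpr_bt (f342354 IH) (Lpr_ft (K54.f729796 IH) (Lpn K54.v15058))))
theorem f729812 : Led Lsl_ft (LP (LK LD1_c15 LD2_c9 LD3_c9)) = (LP (LK LD1_c8 LD2_c54 LD3_c11)) :=
  Lgr Lrot2 (Lpe (K23.f293103 IH) (Lpe (K30.f339964 IH) (Lpr_af (K54.f729802 IH) (Lpn (LP (LK LD1_c8 LD2_c54 LD3_c11))))))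
theorem f729818 : (LP (LK LD1_c10 LD2_c31 LD3_c26)) = K54.v15057 :=
  (Llr Lrot61 (Lpe (K23.f346265 IH) (Lpr_ft (f729812 IH) (Lpe (K25.f355966 IH) (Lpr_ft (K54.f729794 IH) (Lpn K54.v15057)))))).symm
theorem f729825 : Led Lsl_ff (LP (LK LD1_c15 LD2_c15 LD3_c0)) = (LP (LK LD1_c15 LD2_c19 LD3_c45)) :=
  Lgr Lrot19 (Lpr_dt (K21.f330254 IH) (Lpr_ft (K54.f729794 IH) (Lpq (f729818 IH) (Lpe (K23.f346195 IH) (Lpn (LP (LK LD1_c15 LD2_c19 LD3_c45)))))))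
theorem f345803 : Led Lsl_et (LP (LK LD1_c10 LD2_c31 LD3_c27)) = (LP (LK LD1_c18 LD2_c40 LD3_c28)) :=
  Lgr Lrot87 (Lpr_ef (K23.f345799 IH) (Lpn (LP (LK LD1_c18 LD2_c40 LD3_c28))))
theorem f345772 : Led Lsl_df (LP (LK LD1_c15 LD2_c14 LD3_c29)) = (LP (LK LD1_c10 LD2_c31 LD3_c27)) :=
  Lgr Lrot38 (Lpr_dt (K23.f345768 IH) (Lpn (LP (LK LD1_c10 LD2_c31 LD3_c27))))
theorem f353438 : Led Lsl_gf (LP (LK LD1_c15 LD2_c14 LD3_c29)) = (LP (LK LD1_c15 LD2_c14 LD3_c43)) :=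
  Lgr Lrot145 (Lpr_df (f345772 IH) (Lpr_et (f345803 IH) (Lpr_gt (K25.f353430 IH) (Lpe (K23.f310543 IH) (Lpe (K23.f340674 IH) (Lpr_df (K23.f320773 IH) (Lpr_et (K21.f320775 IH) (Lpr_gt (K23.f340670 IH) (Lpe (K21.f323803 IH) (Lpe (K25.f237061 IH) (Lpn (LP (LK LD1_c15 LD2_c14 LD3_c43)))))))))))))
theorem f729831 : Led Lsl_at (LP (LK LD1_c15 LD2_c15 LD3_c0)) = (LP (LK LD1_c15 LD2_c14 LD3_c29)) :=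
  Lgr Lrot26 (Lpr_ff (f729825 IH) (Lpe (K25.f237066 IH) (Lpe (f353438 IH) (Lpn (LP (LK LD1_c15 LD2_c14 LD3_c29))))))
theorem f729841 : K54.v15058 = (LP (LK LD1_c10 LD2_c31 LD3_c27)) :=
  (Llr Lrot117 (Lpe (K54.f729797 IH) (Lpe (K23.f330262 IH) (Lpr_at (f729831 IH) (Lpr_dt (K23.f345768 IH) (Lpn (LP (LK LD1_c10 LD2_c31 LD3_c27)))))))).symm
theorem f729846 : K54.v4661 = (LP (LK LD1_c5 LD2_c31 LD3_c2)) :=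
  Lefun (Lecon (Lfl_bf (f729798 IH)) (f729841 IH)) (Lfl_bf (K23.f345770 IH))
theorem f729847 : (LP (LK LD1_c2 LD2_c41 LD3_c55)) = v15051 :=
  Lefun (Lecon (Lfl_af (f638387 IH)) (f729846 IH)) (f729769 IH)
theorem f729862 : Led Lsl_ff (LP (LK LD1_c5 LD2_c31 LD3_c24)) = (LP (LK LD1_c10 LD2_c53 LD3_c36)) :=
  Lgr Lrot19 (Lpr_dt (K17.f212212 IH) (Lpqs (f729847 IH) (Lpe (f729768 IH) (Lpr_dt (K54.f261460 IH) (Lpn (LP (LK LD1_c10 LD2_c53 LD3_c36)))))))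
theorem f335512 : Led Lsl_gt (LP (LK LD1_c18 LD2_c44 LD3_c57)) = (LP (LK LD1_c10 LD2_c53 LD3_c36)) :=
  Lgr Lrot137 (Lpe (K23.f259219 IH) (Lpe (K21.f317714 IH) (Lpe (K23.f335498 IH) (Lpe (K22.f263255 IH) (Lpr_et (K22.f335508 IH) (Lpe (K22.f335482 IH) (Lpr_ef (K54.f263390 IH) (Lpr_dt (K15.f261846 IH) (Lpe (K54.f261853 IH) (Lpe (K54.f261854 IH) (Lpn (LP (LK LD1_c10 LD2_c53 LD3_c36)))))))))))))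
theorem f340804 : Led Lsl_et (LP (LK LD1_c15 LD2_c15 LD3_c22)) = (LP (LK LD1_c10 LD2_c53 LD3_c36)) :=
  Lgr Lrot122 (Lpr_dt (K23.f261901 IH) (Lpe (K23.f261896 IH) (Lpe (K17.f282481 IH) (Lpr_et (K17.f282489 IH) (Lpr_gt (K23.f340746 IH) (Lpr_dt (K22.f263255 IH) (Lpr_gt (K23.f335498 IH) (Lpr_df (K21.f317714 IH) (Lpr_et (K23.f259219 IH) (Lpr_gt (f335512 IH) (Lpn (LP (LK LD1_c10 LD2_c53 LD3_c36)))))))))))))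
theorem f366226 : Led Lsl_gf (LP (LK LD1_c10 LD2_c25 LD3_c42)) = (LP (LK LD1_c10 LD2_c53 LD3_c36)) :=
  Lgr Lrot141 (Lpe (K25.f323308 IH) (Lpr_dt (K25.f323306 IH) (Lpe (K27.f366224 IH) (Lpe (K13.f47695 IH) (Lpr_et (K27.f366216 IH) (Lpr_gt (K27.f342105 IH) (Lpe (K23.f340304 IH) (Lpr_gt (K23.f236243 IH) (Lpe (K23.f261901 IH) (Lpr_et (f340804 IH) (Lpn (LP (LK LD1_c10 LD2_c53 LD3_c36)))))))))))))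
theorem f729870 : Led Lsl_at (LP (LK LD1_c5 LD2_c31 LD3_c24)) = (LP (LK LD1_c10 LD2_c22 LD3_c5)) :=
  Lgr Lrot26 (Lpr_ff (f729862 IH) (Lpe (f366226 IH) (Lpr_gt (K25.f323330 IH) (Lpn (LP (LK LD1_c10 LD2_c22 LD3_c5))))))
theorem f729876 : v14687 = (LP (LK LD1_c5 LD2_c16 LD3_c15)) :=
  (Llr Lrot50 (Lpe (f724960 IH) (Lpr_et (K25.f335542 IH) (Lpr_at (f729870 IH) (Lpr_et (K15.f48897 IH) (Lpn (LP (LK LD1_c5 LD2_c16 LD3_c15)))))))).symm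
theorem f729877 : (LP (LK LD1_c5 LD2_c18 LD3_c19)) = v14644 :=
  Lefun (Lecon (Lfl_af (f724960 IH)) (f729876 IH)) (f724754 IH)
theorem f729894 : Led Lsl_ff (LP (LK LD1_c15 LD2_c15 LD3_c22)) = (LP (LK LD1_c8 LD2_c57 LD3_c16)) :=
  Lgr Lrot72 (Lpr_et (f340804 IH) (Lpe (f729862 IH) (Lpr_et (K17.f260639 IH) (Lpqs (f729877 IH) (Lpe (f724757 IH) (Lpr_et (K23.f250082 IH) (Lpn (LP (LK LD1_c8 LD2_c57 LD3_c16)))))))))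
def v12717 : LQ := Led Lsl_at (LP (LK LD1_c4 LD2_c29 LD3_c29))
theorem f697816 : Led Lsl_at (LP (LK LD1_c4 LD2_c29 LD3_c29)) = v12717 :=
  Lrfl
theorem f697817 : Led Lsl_af (LP (LK LD1_c4 LD2_c29 LD3_c29)) = v12717 :=
  Lgr Lrot0 (Lpr_at (f697816 IH) (Lpn v12717))
theorem f697818 : Led Lsl_ft (LP (LK LD1_c4 LD2_c29 LD3_c30)) = v12717 :=
  Lgr Lrot2 (Lpr_gt (K23.f185025 IH) (Lpr_gt (K21.f185023 IH) (Lpr_af (f697817 IH) (Lpn v12717))))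
theorem f697819 : Led Lsl_ff (LP (LK LD1_c4 LD2_c29 LD3_c30)) = v12717 :=
  Lgr Lrot3 (Lpr_ft (f697818 IH) (Lpn v12717))
theorem f729904 : (LP (LK LD1_c8 LD2_c6 LD3_c11)) = v12717 :=
  (Llr Lrot60 (Lpe (K23.f261901 IH) (Lpr_ff (f729894 IH) (Lpe (K25.f250080 IH) (Lpr_ff (f697819 IH) (Lpn v12717)))))).symm
theorem f353777 : Led Lsl_bf (LP (LK LD1_c5 LD2_c24 LD3_c3)) = (LP (LK LD1_c8 LD2_c6 LD3_c11)) :=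
  Lgr Lrot24 (Lpr_bt (K25.f353775 IH) (Lpn (LP (LK LD1_c8 LD2_c6 LD3_c11))))
def v14748 : LQ := Led Lsl_ft (LP (LK LD1_c5 LD2_c24 LD3_c3))
theorem f726457 : Led Lsl_ft (LP (LK LD1_c5 LD2_c24 LD3_c3)) = v14748 :=
  Lrfl
theorem f729911 : (LP (LK LD1_c8 LD2_c57 LD3_c14)) = v14748 :=
  (Llr Lrot61 (Lpr_bt (K56.f281378 IH) (Lpr_ft (f697818 IH) (Lpq (f729904 IH) (Lpe (f353777 IH) (Lpr_ft (f726457 IH) (Lpn v14748))))))).symm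
theorem f729918 : Led Lsl_ff (LP (LK LD1_c10 LD2_c38 LD3_c53)) = (LP (LK LD1_c16 LD2_c45 LD3_c54)) :=
  Lgr Lrot19 (Lpr_dt (K25.f306489 IH) (Lpr_ft (f726457 IH) (Lpq (f729911 IH) (Lpr_dt (K23.f250094 IH) (Lpn (LP (LK LD1_c16 LD2_c45 LD3_c54)))))))
theorem f194718 : Led Lsl_bt (LP (LK LD1_c15 LD2_c16 LD3_c58)) = (LP (LK LD1_c8 LD2_c6 LD3_c59)) :=
  Lre_b IH (LK LD1_c15 LD2_c16 LD3_c58) (LK LD1_c8 LD2_c6 LD3_c59) Lrfl Lrfl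
theorem f346231 : Led Lsl_et (LP (LK LD1_c8 LD2_c8 LD3_c24)) = (LP (LK LD1_c15 LD2_c16 LD3_c58)) :=
  Lgr Lrot74 (Lpe (K23.f345947 IH) (Lpr_ef (K23.f346212 IH) (Lpe (f194718 IH) (Lpn (LP (LK LD1_c15 LD2_c16 LD3_c58))))))
theorem f346038 : Led Lsl_dt (LP (LK LD1_c15 LD2_c19 LD3_c40)) = (LP (LK LD1_c8 LD2_c8 LD3_c24)) :=
  Lre_d IH (LK LD1_c15 LD2_c19 LD3_c40) (LK LD1_c8 LD2_c8 LD3_c24) Lrfl Lrfl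
theorem f346261 : Led Lsl_et (LP (LK LD1_c24 LD2_c58 LD3_c8)) = (LP (LK LD1_c15 LD2_c19 LD3_c40)) :=
  Lgr Lrot71 (Lpe (K26.f218977 IH) (Lpr_ef (K23.f346259 IH) (Lpr_df (K23.f346249 IH) (Lpe (f346231 IH) (Lpe (f346038 IH) (Lpn (LP (LK LD1_c15 LD2_c19 LD3_c40))))))))
theorem f284550 : Led Lsl_gt (LP (LK LD1_c25 LD2_c25 LD3_c19)) = (LP (LK LD1_c18 LD2_c58 LD3_c24)) :=
  Lgr Lrot137 (Lpe (K25.f284548 IH) (Lpr_dt (K19.f284546 IH) (Lpe (K19.f182831 IH) (Lpe (K23.f182832 IH) (Lpr_et (K23.f220649 IH) (Lpe (K13.f171895 IH) (Lpe (K16.f243950 IH) (Lpr_dt (K18.f246380 IH) (Lpe (K18.f193166 IH) (Lpe (K23.f193174 IH) (Lpn (LP (LK LD1_c18 LD2_c58 LD3_c24)))))))))))))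
theorem f346319 : Led Lsl_gt (LP (LK LD1_c18 LD2_c58 LD3_c25)) = (LP (LK LD1_c15 LD2_c19 LD3_c40)) :=
  Lgr Lrot131 (Lpe (K23.f284552 IH) (Lpr_dt (K23.f193175 IH) (Lpe (f284550 IH) (Lpe (K25.f323270 IH) (Lpr_gf (K25.f323262 IH) (Lpe (K25.f293763 IH) (Lpr_dt (K22.f293968 IH) (Lpr_gf (K23.f293103 IH) (Lpe (K25.f293106 IH) (Lpr_et (f346261 IH) (Lpn (LP (LK LD1_c15 LD2_c19 LD3_c40)))))))))))))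
theorem f729922 : Led Lsl_at (LP (LK LD1_c10 LD2_c38 LD3_c53)) = (LP (LK LD1_c15 LD2_c19 LD3_c40)) :=
  Lgr Lrot26 (Lpr_ff (f729918 IH) (Lpe (K26.f342620 IH) (Lpr_gt (f346319 IH) (Lpn (LP (LK LD1_c15 LD2_c19 LD3_c40))))))
def v14747 : LQ := Led Lsl_at (LP (LK LD1_c5 LD2_c24 LD3_c3))
theorem f726453 : Led Lsl_at (LP (LK LD1_c5 LD2_c24 LD3_c3)) = v14747 :=
  Lrfl
theorem f726454 : Led Lsl_af (LP (LK LD1_c5 LD2_c24 LD3_c3)) = v14747 :=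
  Lgr Lrot0 (Lpr_at (f726453 IH) (Lpn v14747))
theorem f729930 : v14747 = (LP (LK LD1_c8 LD2_c8 LD3_c24)) :=
  (Llr Lrot117 (Lpe (f726454 IH) (Lpr_dt (K25.f331512 IH) (Lpr_at (f729922 IH) (Lpr_dt (f346038 IH) (Lpn (LP (LK LD1_c8 LD2_c8 LD3_c24)))))))).symm
theorem f726455 : Led Lsl_ft (LP (LK LD1_c5 LD2_c24 LD3_c4)) = v14747 :=
  Lgr Lrot2 (Lpr_gt (K18.f251016 IH) (Lpr_gt (K25.f291697 IH) (Lpr_af (f726454 IH) (Lpn v14747))))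
def v12315 : LQ := Led Lsl_ft (LP (LK LD1_c4 LD2_c3 LD3_c57))
theorem f689325 : Led Lsl_ft (LP (LK LD1_c4 LD2_c3 LD3_c57)) = v12315 :=
  Lrfl
theorem f729939 : (LP (LK LD1_c8 LD2_c2 LD3_c57)) = v12315 :=
  (Llr Lrot61 (Lpe (K22.f339733 IH) (Lpr_ft (f726455 IH) (Lpqs (f729930 IH) (Lpr_bt (K23.f345956 IH) (Lpr_ft (f689325 IH) (Lpn v12315))))))).symm
theorem f729946 : Led Lsl_ff (LP (LK LD1_c8 LD2_c8 LD3_c26)) = (LP (LK LD1_c15 LD2_c9 LD3_c17)) :=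
  Lgr Lrot19 (Lpr_dt (K23.f237021 IH) (Lpr_ft (f689325 IH) (Lpq (f729939 IH) (Lpr_dt (K22.f304369 IH) (Lpn (LP (LK LD1_c15 LD2_c9 LD3_c17)))))))
theorem f729954 : Led Lsl_at (LP (LK LD1_c8 LD2_c8 LD3_c26)) = (LP (LK LD1_c15 LD2_c9 LD3_c16)) :=
  Lgr Lrot26 (Lpr_ff (f729946 IH) (Lpe (K22.f327383 IH) (Lpe (K19.f305580 IH) (Lpn (LP (LK LD1_c15 LD2_c9 LD3_c16))))))
def v12314 : LQ := Led Lsl_at (LP (LK LD1_c4 LD2_c3 LD3_c57))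
theorem f689321 : Led Lsl_at (LP (LK LD1_c4 LD2_c3 LD3_c57)) = v12314 :=
  Lrfl
theorem f689322 : Led Lsl_af (LP (LK LD1_c4 LD2_c3 LD3_c57)) = v12314 :=
  Lgr Lrot0 (Lpr_at (f689321 IH) (Lpn v12314))
theorem f729964 : v12314 = (LP (LK LD1_c8 LD2_c2 LD3_c56)) :=
  (Llr Lrot117 (Lpe (f689322 IH) (Lpr_dt (K23.f293081 IH) (Lpr_at (f729954 IH) (Lpr_dt (K19.f269302 IH) (Lpn (LP (LK LD1_c8 LD2_c2 LD3_c56)))))))).symm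
theorem f689323 : Led Lsl_ft (LP (LK LD1_c4 LD2_c3 LD3_c58)) = v12314 :=
  Lgr Lrot2 (Lpr_gt (K18.f211403 IH) (Lpr_gt (K23.f227984 IH) (Lpr_af (f689322 IH) (Lpn v12314))))
def v12718 : LQ := Led Lsl_ft (LP (LK LD1_c4 LD2_c29 LD3_c29))
theorem f697820 : Led Lsl_ft (LP (LK LD1_c4 LD2_c29 LD3_c29)) = v12718 :=
  Lrfl
theorem f729973 : (LP (LK LD1_c8 LD2_c6 LD3_c12)) = v12718 :=
  (Llr Lrot61 (Lpe (K21.f330532 IH) (Lpr_ft (f689323 IH) (Lpqs (f729964 IH) (Lpe (K23.f342379 IH) (Lpr_ft (f697820 IH) (Lpn v12718))))))).symm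
theorem f729980 : Led Lsl_ff (LP (LK LD1_c8 LD2_c57 LD3_c13)) = (LP (LK LD1_c10 LD2_c26 LD3_c21)) :=
  Lgr Lrot19 (Lpr_dt (K21.f185024 IH) (Lpr_ft (f697820 IH) (Lpq (f729973 IH) (Lpr_dt (K23.f263431 IH) (Lpn (LP (LK LD1_c10 LD2_c26 LD3_c21)))))))
theorem f729988 : Led Lsl_ft (LP (LK LD1_c8 LD2_c57 LD3_c13)) = (LP (LK LD1_c10 LD2_c26 LD3_c21)) :=
  Lgr Lrot48 (Lpr_ff (f729980 IH) (Lpn (LP (LK LD1_c10 LD2_c26 LD3_c21))))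
theorem f729996 : Led Lsl_ff (LP (LK LD1_c5 LD2_c31 LD3_c20)) = (LP (LK LD1_c10 LD2_c22 LD3_c5)) :=
  Lgr Lrot72 (Lpe (K21.f285572 IH) (Lpr_ft (f729988 IH) (Lpr_et (K17.f48904 IH) (Lpr_ft (f724959 IH) (Lpqs (f729876 IH) (Lpr_et (K23.f263057 IH) (Lpn (LP (LK LD1_c10 LD2_c22 LD3_c5)))))))))
theorem f273514 : Led Lsl_ct (LP (LK LD1_c5 LD2_c31 LD3_c20)) = (LP (LK LD1_c10 LD2_c54 LD3_c19)) :=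
  Lre_c IH (LK LD1_c5 LD2_c31 LD3_c20) (LK LD1_c10 LD2_c54 LD3_c19) Lrfl Lrfl
theorem f263054 : Led Lsl_ct (LP (LK LD1_c18 LD2_c49 LD3_c8)) = (LP (LK LD1_c10 LD2_c22 LD3_c5)) :=
  Lre_c IH (LK LD1_c18 LD2_c49 LD3_c8) (LK LD1_c10 LD2_c22 LD3_c5) Lrfl Lrfl
theorem f730002 : Led Lsl_ft (LP (LK LD1_c10 LD2_c54 LD3_c19)) = (LP (LK LD1_c18 LD2_c49 LD3_c8)) :=
  Lgr Lrot4 (Lpe (f273514 IH) (Lpr_ff (f729996 IH) (Lpe (f263054 IH) (Lpn (LP (LK LD1_c18 LD2_c49 LD3_c8))))))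
theorem f730008 : Led Lsl_ff (LP (LK LD1_c10 LD2_c54 LD3_c19)) = (LP (LK LD1_c18 LD2_c49 LD3_c8)) :=
  Lgr Lrot3 (Lpr_ft (f730002 IH) (Lpn (LP (LK LD1_c18 LD2_c49 LD3_c8))))
theorem f273513 : Led Lsl_ct (LP (LK LD1_c10 LD2_c54 LD3_c19)) = (LP (LK LD1_c5 LD2_c31 LD3_c20)) :=
  Lre_c IH (LK LD1_c10 LD2_c54 LD3_c19) (LK LD1_c5 LD2_c31 LD3_c20) Lrfl Lrfl
theorem f285576 : Led Lsl_et (LP (LK LD1_c16 LD2_c45 LD3_c52)) = (LP (LK LD1_c10 LD2_c54 LD3_c19)) :=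
  Lgr Lrot158 (Lpe (K46.f285575 IH) (Lpr_ef (K21.f285572 IH) (Lpe (f273513 IH) (Lpn (LP (LK LD1_c10 LD2_c54 LD3_c19))))))
theorem f285690 : Led Lsl_ef (LP (LK LD1_c16 LD2_c45 LD3_c52)) = (LP (LK LD1_c10 LD2_c54 LD3_c19)) :=
  Lgr Lrot88 (Lpr_et (f285576 IH) (Lpn (LP (LK LD1_c10 LD2_c54 LD3_c19))))
theorem f263446 : Led Lsl_ct (LP (LK LD1_c18 LD2_c56 LD3_c3)) = (LP (LK LD1_c10 LD2_c26 LD3_c21)) :=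
  Lre_c IH (LK LD1_c18 LD2_c56 LD3_c3) (LK LD1_c10 LD2_c26 LD3_c21) Lrfl Lrfl
theorem f729984 : Led Lsl_ft (LP (LK LD1_c16 LD2_c45 LD3_c52)) = (LP (LK LD1_c18 LD2_c56 LD3_c3)) :=
  Lgr Lrot4 (Lpe (K46.f285575 IH) (Lpr_ff (f729980 IH) (Lpe (f263446 IH) (Lpn (LP (LK LD1_c18 LD2_c56 LD3_c3))))))
theorem f350718 : Led Lsl_et (LP (LK LD1_c18 LD2_c56 LD3_c3)) = (LP (LK LD1_c10 LD2_c26 LD3_c19)) :=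
  Lre_e IH (LK LD1_c18 LD2_c56 LD3_c3) (LK LD1_c10 LD2_c26 LD3_c19) Lrfl Lrfl
theorem f694140 : Led Lsl_et (LP (LK LD1_c10 LD2_c22 LD3_c3)) = (LP (LK LD1_c18 LD2_c49 LD3_c8)) :=
  Lre_e IH (LK LD1_c10 LD2_c22 LD3_c3) (LK LD1_c18 LD2_c49 LD3_c8) Lrfl Lrfl
theorem f730010 : Led Lsl_ft (LP (LK LD1_c10 LD2_c26 LD3_c19)) = (LP (LK LD1_c10 LD2_c22 LD3_c3)) :=
  Lgr Lrot86 (Lpe (f350718 IH) (Lpe (f729984 IH) (Lpr_ef (f285690 IH) (Lpr_ff (f730008 IH) (Lpe (f694140 IH) (Lpn (LP (LK LD1_c10 LD2_c22 LD3_c3))))))))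
theorem f50839 : Led Lsl_bt (LP (LK LD1_c4 LD2_c54 LD3_c29)) = (LP (LK LD1_c8 LD2_c26 LD3_c14)) :=
  Lgr Lrot119 (Lpe (K13.f43295 IH) (Lpr_bf (K9.f50831 IH) (Lpe (K9.f45003 IH) (Lpn (LP (LK LD1_c8 LD2_c26 LD3_c14))))))
theorem f50841 : Led Lsl_bf (LP (LK LD1_c4 LD2_c54 LD3_c29)) = (LP (LK LD1_c8 LD2_c26 LD3_c14)) :=
  Lgr Lrot24 (Lpr_bt (f50839 IH) (Lpn (LP (LK LD1_c8 LD2_c26 LD3_c14))))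
theorem f330784 : Led Lsl_gf (LP (LK LD1_c10 LD2_c20 LD3_c49)) = (LP (LK LD1_c10 LD2_c26 LD3_c19)) :=
  Lgr Lrot126 (Lpr_cf (K14.f252410 IH) (Lpe (f50841 IH) (Lpr_gt (K21.f330640 IH) (Lpr_ct (K22.f165396 IH) (Lpe (K22.f330575 IH) (Lpr_cf (K19.f233484 IH) (Lpe (K1.f45825 IH) (Lpr_gt (K21.f45833 IH) (Lpr_bf (K21.f330556 IH) (Lpr_ct (K24.f32213 IH) (Lpn (LP (LK LD1_c10 LD2_c26 LD3_c19)))))))))))))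
theorem f330596 : Led Lsl_bt (LP (LK LD1_c5 LD2_c18 LD3_c19)) = (LP (LK LD1_c10 LD2_c26 LD3_c22)) :=
  Lre_b IH (LK LD1_c5 LD2_c18 LD3_c19) (LK LD1_c10 LD2_c26 LD3_c22) Lrfl Lrfl
theorem f32212 : Led Lsl_ct (LP (LK LD1_c5 LD2_c18 LD3_c19)) = (LP (LK LD1_c10 LD2_c26 LD3_c23)) :=
  Lre_c IH (LK LD1_c5 LD2_c18 LD3_c19) (LK LD1_c10 LD2_c26 LD3_c23) Lrfl Lrfl
theorem f339929 : Led Lsl_gf (LP (LK LD1_c10 LD2_c26 LD3_c23)) = (LP (LK LD1_c10 LD2_c20 LD3_c49)) :=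
  Lgr Lrot126 (Lpe (f32212 IH) (Lpr_bt (f330596 IH) (Lpr_gt (K23.f339923 IH) (Lpr_ct (K19.f233468 IH) (Lpr_gt (K23.f335245 IH) (Lpe (K23.f43375 IH) (Lpe (K22.f335210 IH) (Lpr_gt (K14.f43309 IH) (Lpr_bf (f50841 IH) (Lpe (K14.f252410 IH) (Lpn (LP (LK LD1_c10 LD2_c20 LD3_c49)))))))))))))
theorem f730016 : Led Lsl_af (LP (LK LD1_c10 LD2_c26 LD3_c23)) = (LP (LK LD1_c10 LD2_c22 LD3_c3)) :=
  Lgr Lrot31 (Lpr_gf (f339929 IH) (Lpr_gf (f330784 IH) (Lpr_ft (f730010 IH) (Lpn (LP (LK LD1_c10 LD2_c22 LD3_c3))))))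
theorem f48716 : Led Lsl_dt (LP (LK LD1_c10 LD2_c26 LD3_c23)) = (LP (LK LD1_c18 LD2_c56 LD3_c6)) :=
  Lre_d IH (LK LD1_c10 LD2_c26 LD3_c23) (LK LD1_c18 LD2_c56 LD3_c6) Lrfl Lrfl
theorem f342521 : Led Lsl_dt (LP (LK LD1_c18 LD2_c49 LD3_c7)) = (LP (LK LD1_c10 LD2_c22 LD3_c3)) :=
  Lre_d IH (LK LD1_c18 LD2_c49 LD3_c7) (LK LD1_c10 LD2_c22 LD3_c3) Lrfl Lrfl
theorem f730020 : Led Lsl_at (LP (LK LD1_c18 LD2_c56 LD3_c6)) = (LP (LK LD1_c18 LD2_c49 LD3_c7)) :=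
  Lgr Lrot51 (Lpe (f48716 IH) (Lpr_af (f730016 IH) (Lpe (f342521 IH) (Lpn (LP (LK LD1_c18 LD2_c49 LD3_c7))))))
theorem f342522 : Led Lsl_gt (LP (LK LD1_c28 LD2_c18 LD3_c33)) = (LP (LK LD1_c18 LD2_c49 LD3_c7)) :=
  Lre_g IH (LK LD1_c28 LD2_c18 LD3_c33) (LK LD1_c18 LD2_c49 LD3_c7) Lrfl Lrfl
theorem f693849 : Led Lsl_ff (LP (LK LD1_c4 LD2_c18 LD3_c53)) = K50.v12624 :=
  Lgr Lrot3 (Lpr_ft (K50.f693846 IH) (Lpn K50.v12624))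
theorem f693845 : Led Lsl_et K50.v12491 = K50.v12624 :=
  Lgr Lrot87 (Lpr_ef (K50.f693844 IH) (Lpn K50.v12624))
theorem f693850 : Led Lsl_ft (LP (LK LD1_c8 LD2_c36 LD3_c32)) = (LP (LK LD1_c8 LD2_c24 LD3_c44)) :=
  Lgr Lrot86 (Lpe (K25.f305777 IH) (Lpr_ff (f693849 IH) (Lpe (f693845 IH) (Lpe (K50.f692431 IH) (Lpe (K21.f166983 IH) (Lpn (LP (LK LD1_c8 LD2_c24 LD3_c44))))))))
theorem f326850 : Led Lsl_gt (LP (LK LD1_c9 LD2_c37 LD3_c30)) = (LP (LK LD1_c15 LD2_c47 LD3_c53)) :=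
  Lgr Lrot139 (Lpe (K25.f170103 IH) (Lpr_gf (K21.f326838 IH) (Lpe (K21.f222088 IH) (Lpr_dt (K12.f167249 IH) (Lpe (K14.f246674 IH) (Lpe (K14.f230313 IH) (Lpr_et (K21.f246684 IH) (Lpe (K19.f246685 IH) (Lpe (K25.f246686 IH) (Lpe (K26.f306018 IH) (Lpn (LP (LK LD1_c15 LD2_c47 LD3_c53)))))))))))))
theorem f693856 : Led Lsl_af (LP (LK LD1_c15 LD2_c47 LD3_c53)) = (LP (LK LD1_c8 LD2_c24 LD3_c44)) :=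
  Lgr Lrot31 (Lpe (f326850 IH) (Lpr_gf (K25.f326841 IH) (Lpr_ft (f693850 IH) (Lpn (LP (LK LD1_c8 LD2_c24 LD3_c44))))))
def v12492 : LQ := Led Lsl_ft (LP (LK LD1_c4 LD2_c12 LD3_c29))
theorem f692433 : Led Lsl_ft (LP (LK LD1_c4 LD2_c12 LD3_c29)) = v12492 :=
  Lrfl
theorem f692434 : Led Lsl_af (LP (LK LD1_c4 LD2_c12 LD3_c30)) = v12492 :=
  Lgr Lrot45 (Lpr_ft (K50.f692431 IH) (Lpe (K50.f692430 IH) (Lpr_ft (f692433 IH) (Lpn v12492))))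
theorem f693866 : (LP (LK LD1_c8 LD2_c24 LD3_c7)) = v12492 :=
  (Llr Lrot123 (Lpe (K25.f166959 IH) (Lpr_af (f693856 IH) (Lpe (K21.f189467 IH) (Lpr_af (f692434 IH) (Lpn v12492)))))).symm
theorem f693862 : Led Lsl_at (LP (LK LD1_c16 LD2_c7 LD3_c22)) = (LP (LK LD1_c8 LD2_c36 LD3_c32)) :=
  Lgr Lrot51 (Lpe (K25.f305982 IH) (Lpr_af (f693856 IH) (Lpr_df (K25.f305778 IH) (Lpn (LP (LK LD1_c8 LD2_c36 LD3_c32))))))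
theorem f693864 : Led Lsl_ft (LP (LK LD1_c15 LD2_c47 LD3_c53)) = (LP (LK LD1_c16 LD2_c7 LD3_c22)) :=
  Lgr Lrot101 (Lpr_af (f693856 IH) (Lpe (f693850 IH) (Lpe (f693862 IH) (Lpn (LP (LK LD1_c16 LD2_c7 LD3_c22))))))
theorem f693877 : Led Lsl_ff (LP (LK LD1_c4 LD2_c18 LD3_c52)) = (LP (LK LD1_c8 LD2_c36 LD3_c1)) :=
  Lgr Lrot72 (Lpe (K19.f304592 IH) (Lpr_ft (f692433 IH) (Lpq (f693866 IH) (Lpr_et (K25.f305981 IH) (Lpr_ft (f693864 IH) (Lpr_et (K25.f246686 IH) (Lpn (LP (LK LD1_c8 LD2_c36 LD3_c1)))))))))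
theorem f693889 : K50.v12624 = (LP (LK LD1_c8 LD2_c36 LD3_c0)) :=
  (Llr Lrot26 (Lpe (K50.f693842 IH) (Lpr_ff (f693877 IH) (Lpr_gt (K19.f246685 IH) (Lpr_gt (K21.f260930 IH) (Lpn (LP (LK LD1_c8 LD2_c36 LD3_c0)))))))).symm
theorem f693894 : K50.v12491 = (LP (LK LD1_c8 LD2_c24 LD3_c6)) :=
  Lefun (Lecon (Lfl_ef (K50.f693844 IH)) (f693889 IH)) (K21.f260933 IH)
theorem f693901 : Led Lsl_ff (LP (LK LD1_c8 LD2_c24 LD3_c43)) = (LP (LK LD1_c5 LD2_c2 LD3_c15)) :=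
  Lgr Lrot19 (Lpr_dt (K14.f166878 IH) (Lpr_ft (K50.f692431 IH) (Lpqs (f693894 IH) (Lpe (K21.f260920 IH) (Lpn (LP (LK LD1_c5 LD2_c2 LD3_c15)))))))
theorem f693909 : Led Lsl_at (LP (LK LD1_c8 LD2_c24 LD3_c43)) = (LP (LK LD1_c5 LD2_c2 LD3_c14)) :=
  Lgr Lrot26 (Lpr_ff (f693901 IH) (Lpr_gt (K21.f166656 IH) (Lpr_gt (K21.f166659 IH) (Lpn (LP (LK LD1_c5 LD2_c2 LD3_c14))))))
theorem f693875 : Led Lsl_ff (LP (LK LD1_c8 LD2_c24 LD3_c40)) = (LP (LK LD1_c5 LD2_c2 LD3_c14)) :=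
  Lgr Lrot19 (Lpr_dt (K19.f166879 IH) (Lpr_ft (f692433 IH) (Lpq (f693866 IH) (Lpr_dt (K26.f305979 IH) (Lpn (LP (LK LD1_c5 LD2_c2 LD3_c14)))))))
theorem f693917 : Led Lsl_af (LP (LK LD1_c5 LD2_c2 LD3_c15)) = (LP (LK LD1_c8 LD2_c24 LD3_c40)) :=
  Lgr Lrot45 (Lpe (f693901 IH) (Lpr_at (f693909 IH) (Lpe (f693875 IH) (Lpn (LP (LK LD1_c8 LD2_c24 LD3_c40))))))
theorem f693923 : Led Lsl_at (LP (LK LD1_c9 LD2_c55 LD3_c21)) = (LP (LK LD1_c15 LD2_c48 LD3_c47)) :=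
  Lgr Lrot80 (Lpe (K23.f260926 IH) (Lpr_af (f693917 IH) (Lpe (K19.f304582 IH) (Lpn (LP (LK LD1_c15 LD2_c48 LD3_c47))))))
theorem f693931 : Led Lsl_ff (LP (LK LD1_c9 LD2_c55 LD3_c21)) = (LP (LK LD1_c10 LD2_c10 LD3_c17)) :=
  Lgr Lrot52 (Lpr_at (f693923 IH) (Lpe (K19.f312513 IH) (Lpr_gf (K46.f312501 IH) (Lpn (LP (LK LD1_c10 LD2_c10 LD3_c17))))))
theorem f693941 : Led Lsl_ft (LP (LK LD1_c9 LD2_c55 LD3_c21)) = (LP (LK LD1_c10 LD2_c10 LD3_c17)) :=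
  Lgr Lrot48 (Lpr_ff (f693931 IH) (Lpn (LP (LK LD1_c10 LD2_c10 LD3_c17))))
theorem f693949 : Led Lsl_af (LP (LK LD1_c16 LD2_c7 LD3_c59)) = (LP (LK LD1_c10 LD2_c10 LD3_c17)) :=
  Lgr Lrot31 (Lpr_gf (K21.f330786 IH) (Lpe (K23.f330647 IH) (Lpr_ft (f693941 IH) (Lpn (LP (LK LD1_c10 LD2_c10 LD3_c17))))))
theorem f693925 : Led Lsl_af (LP (LK LD1_c9 LD2_c55 LD3_c21)) = (LP (LK LD1_c15 LD2_c48 LD3_c47)) :=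
  Lgr Lrot0 (Lpr_at (f693923 IH) (Lpn (LP (LK LD1_c15 LD2_c48 LD3_c47))))
theorem f693955 : Led Lsl_ft (LP (LK LD1_c16 LD2_c7 LD3_c59)) = (LP (LK LD1_c15 LD2_c48 LD3_c47)) :=
  Lgr Lrot101 (Lpr_af (f693949 IH) (Lpe (f693941 IH) (Lpr_af (f693925 IH) (Lpn (LP (LK LD1_c15 LD2_c48 LD3_c47))))))
theorem f693959 : Led Lsl_ff (LP (LK LD1_c26 LD2_c4 LD3_c28)) = (LP (LK LD1_c25 LD2_c45 LD3_c18)) :=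
  Lgr Lrot23 (Lpr_ct (K19.f304619 IH) (Lpr_ft (f693955 IH) (Lpr_ct (K21.f214559 IH) (Lpn (LP (LK LD1_c25 LD2_c45 LD3_c18))))))
theorem f693965 : Led Lsl_ft (LP (LK LD1_c26 LD2_c4 LD3_c28)) = (LP (LK LD1_c25 LD2_c45 LD3_c18)) :=
  Lgr Lrot48 (Lpr_ff (f693959 IH) (Lpn (LP (LK LD1_c25 LD2_c45 LD3_c18))))
theorem f693927 : Led Lsl_af (LP (LK LD1_c18 LD2_c9 LD3_c56)) = (LP (LK LD1_c25 LD2_c45 LD3_c18)) :=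
  Lgr Lrot68 (Lpr_ct (K21.f307275 IH) (Lpr_at (f693923 IH) (Lpr_ct (K21.f214559 IH) (Lpn (LP (LK LD1_c25 LD2_c45 LD3_c18))))))
theorem f307270 : Led Lsl_ct (LP (LK LD1_c18 LD2_c31 LD3_c49)) = (LP (LK LD1_c10 LD2_c10 LD3_c17)) :=
  Lre_c IH (LK LD1_c18 LD2_c31 LD3_c49) (LK LD1_c10 LD2_c10 LD3_c17) Lrfl Lrfl
theorem f693937 : Led Lsl_ft (LP (LK LD1_c18 LD2_c9 LD3_c56)) = (LP (LK LD1_c18 LD2_c31 LD3_c49)) :=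
  Lgr Lrot4 (Lpe (K23.f307267 IH) (Lpr_ff (f693931 IH) (Lpe (f307270 IH) (Lpn (LP (LK LD1_c18 LD2_c31 LD3_c49))))))
theorem f693967 : Led Lsl_af (LP (LK LD1_c26 LD2_c4 LD3_c28)) = (LP (LK LD1_c18 LD2_c31 LD3_c49)) :=
  Lgr Lrot45 (Lpr_ft (f693965 IH) (Lpe (f693927 IH) (Lpr_ft (f693937 IH) (Lpn (LP (LK LD1_c18 LD2_c31 LD3_c49))))))
theorem f694015 : Led Lsl_at (LP (LK LD1_c16 LD2_c7 LD3_c58)) = (LP (LK LD1_c10 LD2_c10 LD3_c16)) :=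
  Lgr Lrot80 (Lpe (K19.f312526 IH) (Lpr_af (f693967 IH) (Lpe (K25.f312448 IH) (Lpn (LP (LK LD1_c10 LD2_c10 LD3_c16))))))
theorem f215037 : Led Lsl_et (LP (LK LD1_c5 LD2_c21 LD3_c19)) = (LP (LK LD1_c10 LD2_c32 LD3_c58)) :=
  Lre_e IH (LK LD1_c5 LD2_c21 LD3_c19) (LK LD1_c10 LD2_c32 LD3_c58) Lrfl Lrfl
theorem f355626 : Led Lsl_gf (LP (LK LD1_c10 LD2_c10 LD3_c14)) = (LP (LK LD1_c10 LD2_c32 LD3_c58)) :=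
  Lgr Lrot141 (Lpr_ef (K25.f305964 IH) (Lpr_dt (K25.f306021 IH) (Lpr_gt (K25.f355621 IH) (Lpe (K25.f47676 IH) (Lpr_et (K25.f214277 IH) (Lpr_gt (K14.f215023 IH) (Lpr_dt (K12.f43857 IH) (Lpe (K14.f215025 IH) (Lpe (K14.f190437 IH) (Lpr_et (f215037 IH) (Lpn (LP (LK LD1_c10 LD2_c32 LD3_c58)))))))))))))
theorem f355628 : Led Lsl_ft (LP (LK LD1_c10 LD2_c32 LD3_c58)) = (LP (LK LD1_c19 LD2_c6 LD3_c23)) :=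
  Lre_f IH (LK LD1_c10 LD2_c32 LD3_c58) (LK LD1_c19 LD2_c6 LD3_c23) Lrfl Lrfl
theorem f355629 : Led Lsl_af (LP (LK LD1_c18 LD2_c31 LD3_c43)) = (LP (LK LD1_c19 LD2_c6 LD3_c23)) :=
  Lgr Lrot31 (Lpe (K25.f306047 IH) (Lpr_gf (f355626 IH) (Lpr_ft (f355628 IH) (Lpn (LP (LK LD1_c19 LD2_c6 LD3_c23))))))
theorem f364938 : Led Lsl_ct (LP (LK LD1_c18 LD2_c31 LD3_c43)) = (LP (LK LD1_c15 LD2_c38 LD3_c41)) :=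
  Lgr Lrot111 (Lpr_af (f355629 IH) (Lpe (K26.f190387 IH) (Lpr_af (K26.f364928 IH) (Lpn (LP (LK LD1_c15 LD2_c38 LD3_c41))))))
theorem f307208 : Led Lsl_dt (LP (LK LD1_c28 LD2_c6 LD3_c14)) = (LP (LK LD1_c18 LD2_c31 LD3_c43)) :=
  Lre_d IH (LK LD1_c28 LD2_c6 LD3_c14) (LK LD1_c18 LD2_c31 LD3_c43) Lrfl Lrfl
theorem f190386 : Led Lsl_dt (LP (LK LD1_c28 LD2_c31 LD3_c55)) = (LP (LK LD1_c19 LD2_c6 LD3_c23)) :=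
  Lre_d IH (LK LD1_c28 LD2_c31 LD3_c55) (LK LD1_c19 LD2_c6 LD3_c23) Lrfl Lrfl
theorem f355638 : Led Lsl_at (LP (LK LD1_c28 LD2_c6 LD3_c14)) = (LP (LK LD1_c28 LD2_c31 LD3_c55)) :=
  Lgr Lrot51 (Lpe (K25.f306048 IH) (Lpr_af (f355629 IH) (Lpe (f190386 IH) (Lpn (LP (LK LD1_c28 LD2_c31 LD3_c55))))))
theorem f355640 : Led Lsl_af (LP (LK LD1_c28 LD2_c6 LD3_c14)) = (LP (LK LD1_c28 LD2_c31 LD3_c55)) :=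
  Lgr Lrot0 (Lpr_at (f355638 IH) (Lpn (LP (LK LD1_c28 LD2_c31 LD3_c55))))
theorem f307367 : Led Lsl_ft (LP (LK LD1_c19 LD2_c6 LD3_c22)) = (LP (LK LD1_c28 LD2_c31 LD3_c55)) :=
  Lre_f IH (LK LD1_c19 LD2_c6 LD3_c22) (LK LD1_c28 LD2_c31 LD3_c55) Lrfl Lrfl
theorem f171458 : Led Lsl_ct (LP (LK LD1_c5 LD2_c10 LD3_c56)) = (LP (LK LD1_c10 LD2_c12 LD3_c32)) :=
  Lre_c IH (LK LD1_c5 LD2_c10 LD3_c56) (LK LD1_c10 LD2_c12 LD3_c32) Lrfl Lrfl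
theorem f307361 : Led Lsl_dt (LP (LK LD1_c18 LD2_c35 LD3_c31)) = (LP (LK LD1_c10 LD2_c12 LD3_c32)) :=
  Lre_d IH (LK LD1_c18 LD2_c35 LD3_c31) (LK LD1_c10 LD2_c12 LD3_c32) Lrfl Lrfl
theorem f307261 : Led Lsl_ct (LP (LK LD1_c10 LD2_c10 LD3_c16)) = (LP (LK LD1_c5 LD2_c9 LD3_c44)) :=
  Lre_c IH (LK LD1_c10 LD2_c10 LD3_c16) (LK LD1_c5 LD2_c9 LD3_c44) Lrfl Lrfl
theorem f307271 : Led Lsl_dt (LP (LK LD1_c28 LD2_c6 LD3_c24)) = (LP (LK LD1_c18 LD2_c31 LD3_c49)) :=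
  Lre_d IH (LK LD1_c28 LD2_c6 LD3_c24) (LK LD1_c18 LD2_c31 LD3_c49) Lrfl Lrfl
theorem f214992 : Led Lsl_dt (LP (LK LD1_c17 LD2_c47 LD3_c59)) = (LP (LK LD1_c27 LD2_c35 LD3_c15)) :=
  Lre_d IH (LK LD1_c17 LD2_c47 LD3_c59) (LK LD1_c27 LD2_c35 LD3_c15) Lrfl Lrfl
theorem f307280 : Led Lsl_gf (LP (LK LD1_c28 LD2_c6 LD3_c24)) = (LP (LK LD1_c27 LD2_c35 LD3_c15)) :=
  Lgr Lrot143 (Lpr_dt (f307271 IH) (Lpe (K25.f307279 IH) (Lpe (K21.f307272 IH) (Lpr_gf (K23.f307277 IH) (Lpe (K14.f214980 IH) (Lpe (K14.f214978 IH) (Lpe (K12.f214117 IH) (Lpr_gt (K23.f214990 IH) (Lpr_dt (f214992 IH) (Lpn (LP (LK LD1_c27 LD2_c35 LD3_c15))))))))))))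
theorem f307296 : Led Lsl_dt (LP (LK LD1_c18 LD2_c31 LD3_c49)) = (LP (LK LD1_c28 LD2_c6 LD3_c24)) :=
  Lre_d IH (LK LD1_c18 LD2_c31 LD3_c49) (LK LD1_c28 LD2_c6 LD3_c24) Lrfl Lrfl
theorem f307297 : Led Lsl_et (LP (LK LD1_c18 LD2_c31 LD3_c49)) = (LP (LK LD1_c10 LD2_c10 LD3_c16)) :=
  Lre_e IH (LK LD1_c18 LD2_c31 LD3_c49) (LK LD1_c10 LD2_c10 LD3_c16) Lrfl Lrfl
theorem f214234 : Led Lsl_et (LP (LK LD1_c5 LD2_c9 LD3_c27)) = (LP (LK LD1_c10 LD2_c9 LD3_c39)) :=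
  Lre_e IH (LK LD1_c5 LD2_c9 LD3_c27) (LK LD1_c10 LD2_c9 LD3_c39) Lrfl Lrfl
theorem f307298 : Led Lsl_gt (LP (LK LD1_c10 LD2_c10 LD3_c16)) = (LP (LK LD1_c10 LD2_c32 LD3_c58)) :=
  Lgr Lrot131 (Lpe (f307297 IH) (Lpr_dt (f307296 IH) (Lpr_gf (f307280 IH) (Lpe (f214992 IH) (Lpe (K23.f214990 IH) (Lpe (f214234 IH) (Lpr_dt (K14.f214232 IH) (Lpe (K14.f215252 IH) (Lpe (K14.f190437 IH) (Lpr_et (f215037 IH) (Lpn (LP (LK LD1_c10 LD2_c32 LD3_c58)))))))))))))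
theorem f215602 : Led Lsl_dt (LP (LK LD1_c10 LD2_c32 LD3_c58)) = (LP (LK LD1_c19 LD2_c6 LD3_c22)) :=
  Lre_d IH (LK LD1_c10 LD2_c32 LD3_c58) (LK LD1_c19 LD2_c6 LD3_c22) Lrfl Lrfl
theorem f307362 : Led Lsl_gf (LP (LK LD1_c18 LD2_c35 LD3_c31)) = (LP (LK LD1_c19 LD2_c6 LD3_c22)) :=
  Lgr Lrot143 (Lpr_dt (f307361 IH) (Lpe (f171458 IH) (Lpr_df (K21.f307352 IH) (Lpe (K21.f307239 IH) (Lpr_df (K21.f306967 IH) (Lpe (K23.f214987 IH) (Lpe (f307261 IH) (Lpr_gt (f307298 IH) (Lpr_dt (f215602 IH) (Lpn (LP (LK LD1_c19 LD2_c6 LD3_c22))))))))))))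
theorem f355644 : Led Lsl_gf (LP (LK LD1_c28 LD2_c6 LD3_c14)) = (LP (LK LD1_c18 LD2_c35 LD3_c31)) :=
  Lgr Lrot76 (Lpr_af (f355640 IH) (Lpe (f307367 IH) (Lpe (f307362 IH) (Lpn (LP (LK LD1_c18 LD2_c35 LD3_c31))))))
theorem f307359 : Led Lsl_dt (LP (LK LD1_c10 LD2_c12 LD3_c32)) = (LP (LK LD1_c18 LD2_c35 LD3_c31)) :=
  Lre_d IH (LK LD1_c10 LD2_c12 LD3_c32) (LK LD1_c18 LD2_c35 LD3_c31) Lrfl Lrfl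
theorem f262549 : Led Lsl_af (LP (LK LD1_c10 LD2_c25 LD3_c30)) = (LP (LK LD1_c10 LD2_c28 LD3_c1)) :=
  Lgr Lrot36 (Lpr_bt (K14.f49007 IH) (Lpe (K14.f251138 IH) (Lpr_bt (K18.f243127 IH) (Lpr_at (K15.f262543 IH) (Lpr_bt (K13.f229074 IH) (Lpn (LP (LK LD1_c10 LD2_c28 LD3_c1))))))))
theorem f371308 : Led Lsl_gt (LP (LK LD1_c5 LD2_c19 LD3_c5)) = (LP (LK LD1_c10 LD2_c22 LD3_c31)) :=
  Lgr Lrot5 (Lpr_ft (K13.f229070 IH) (Lpe (f262549 IH) (Lpr_gf (K30.f371106 IH) (Lpn (LP (LK LD1_c10 LD2_c22 LD3_c31))))))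
theorem f371656 : Led Lsl_gf (LP (LK LD1_c10 LD2_c12 LD3_c32)) = (LP (LK LD1_c9 LD2_c39 LD3_c50)) :=
  Lgr Lrot148 (Lpr_dt (f307359 IH) (Lpe (f355644 IH) (Lpr_dt (f307208 IH) (Lpr_ct (f364938 IH) (Lpe (K26.f364940 IH) (Lpr_gf (K38.f371310 IH) (Lpe (K30.f302857 IH) (Lpe (f371308 IH) (Lpe (K26.f294608 IH) (Lpn (LP (LK LD1_c9 LD2_c39 LD3_c50))))))))))))
theorem f372292 : Led Lsl_et (LP (LK LD1_c18 LD2_c31 LD3_c43)) = (LP (LK LD1_c18 LD2_c9 LD3_c8)) :=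
  Lgr Lrot185 (Lpr_dt (K25.f306048 IH) (Lpr_gf (f355644 IH) (Lpe (f307359 IH) (Lpr_gf (f371656 IH) (Lpe (K26.f229054 IH) (Lpr_dt (K44.f43580 IH) (Lpe (K44.f266155 IH) (Lpe (K15.f249475 IH) (Lpr_et (K22.f266167 IH) (Lpe (K26.f257616 IH) (Lpn (LP (LK LD1_c18 LD2_c9 LD3_c8)))))))))))))
theorem f259741 : Led Lsl_et (LP (LK LD1_c10 LD2_c20 LD3_c20)) = (LP (LK LD1_c5 LD2_c15 LD3_c31)) :=
  Lre_e IH (LK LD1_c10 LD2_c20 LD3_c20) (LK LD1_c5 LD2_c15 LD3_c31) Lrfl Lrfl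
theorem f372299 : Led Lsl_ff (LP (LK LD1_c18 LD2_c31 LD3_c43)) = (LP (LK LD1_c15 LD2_c38 LD3_c40)) :=
  Lgr Lrot72 (Lpr_et (f372292 IH) (Lpr_ft (K26.f364039 IH) (Lpr_et (f259741 IH) (Lpe (K26.f364100 IH) (Lpr_et (K14.f232066 IH) (Lpn (LP (LK LD1_c15 LD2_c38 LD3_c40))))))))
theorem f372310 : Led Lsl_ft (LP (LK LD1_c18 LD2_c31 LD3_c43)) = (LP (LK LD1_c15 LD2_c38 LD3_c40)) :=
  Lgr Lrot48 (Lpr_ff (f372299 IH) (Lpn (LP (LK LD1_c15 LD2_c38 LD3_c40))))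
theorem f215601 : Led Lsl_et (LP (LK LD1_c10 LD2_c32 LD3_c58)) = (LP (LK LD1_c5 LD2_c21 LD3_c19)) :=
  Lre_e IH (LK LD1_c10 LD2_c32 LD3_c58) (LK LD1_c5 LD2_c21 LD3_c19) Lrfl Lrfl
theorem f364092 : Led Lsl_at (LP (LK LD1_c15 LD2_c38 LD3_c40)) = (LP (LK LD1_c10 LD2_c32 LD3_c58)) :=
  Lgr Lrot80 (Lpe (K14.f232066 IH) (Lpr_af (K26.f364082 IH) (Lpe (f215601 IH) (Lpn (LP (LK LD1_c10 LD2_c32 LD3_c58))))))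
theorem f372357 : Led Lsl_gt (LP (LK LD1_c18 LD2_c31 LD3_c43)) = (LP (LK LD1_c10 LD2_c10 LD3_c16)) :=
  Lgr Lrot5 (Lpr_ft (f372310 IH) (Lpr_at (f364092 IH) (Lpe (f307298 IH) (Lpn (LP (LK LD1_c10 LD2_c10 LD3_c16))))))
theorem f694025 : Led Lsl_ff (LP (LK LD1_c16 LD2_c7 LD3_c58)) = (LP (LK LD1_c10 LD2_c10 LD3_c14)) :=
  Lgr Lrot52 (Lpr_at (f694015 IH) (Lpe (f372357 IH) (Lpe (K25.f306047 IH) (Lpn (LP (LK LD1_c10 LD2_c10 LD3_c14))))))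
theorem f694033 : Led Lsl_ft (LP (LK LD1_c16 LD2_c7 LD3_c58)) = (LP (LK LD1_c10 LD2_c10 LD3_c14)) :=
  Lgr Lrot48 (Lpr_ff (f694025 IH) (Lpn (LP (LK LD1_c10 LD2_c10 LD3_c14))))
theorem f362474 : Led Lsl_bt (LP (LK LD1_c8 LD2_c24 LD3_c43)) = (LP (LK LD1_c10 LD2_c7 LD3_c24)) :=
  Lgr Lrot95 (Lpe (K25.f166961 IH) (Lpe (K26.f166981 IH) (Lpr_df (K26.f362470 IH) (Lpn (LP (LK LD1_c10 LD2_c7 LD3_c24))))))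
theorem f166964 : Led Lsl_ct (LP (LK LD1_c8 LD2_c24 LD3_c43)) = (LP (LK LD1_c15 LD2_c48 LD3_c51)) :=
  Lre_c IH (LK LD1_c8 LD2_c24 LD3_c43) (LK LD1_c15 LD2_c48 LD3_c51) Lrfl Lrfl
theorem f263628 : Led Lsl_gt (LP (LK LD1_c10 LD2_c7 LD3_c24)) = (LP (LK LD1_c15 LD2_c50 LD3_c43)) :=
  Lgr Lrot46 (Lpe (K26.f33256 IH) (Lpr_ft (K12.f33241 IH) (Lpr_at (K15.f263624 IH) (Lpn (LP (LK LD1_c15 LD2_c50 LD3_c43))))))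
theorem f316069 : Led Lsl_ct (LP (LK LD1_c8 LD2_c20 LD3_c59)) = (LP (LK LD1_c4 LD2_c10 LD3_c20)) :=
  Lre_c IH (LK LD1_c8 LD2_c20 LD3_c59) (LK LD1_c4 LD2_c10 LD3_c20) Lrfl Lrfl
theorem f361562 : Led Lsl_gf (LP (LK LD1_c10 LD2_c28 LD3_c25)) = (LP (LK LD1_c18 LD2_c58 LD3_c54)) :=
  Lgr Lrot104 (Lpr_ct (K25.f300475 IH) (Lpr_df (K20.f316067 IH) (Lpe (f316069 IH) (Lpr_gf (K26.f361466 IH) (Lpe (K26.f188660 IH) (Lpe (K20.f188694 IH) (Lpr_df (K20.f193177 IH) (Lpe (K27.f341042 IH) (Lpe (K21.f321140 IH) (Lpn (LP (LK LD1_c18 LD2_c58 LD3_c54))))))))))))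
theorem f362504 : Led Lsl_gf (LP (LK LD1_c15 LD2_c48 LD3_c51)) = (LP (LK LD1_c10 LD2_c27 LD3_c52)) :=
  Lgr Lrot129 (Lpe (f166964 IH) (Lpr_bt (f362474 IH) (Lpr_gt (f263628 IH) (Lpr_bf (K21.f231841 IH) (Lpe (K21.f321140 IH) (Lpe (f361562 IH) (Lpe (K25.f300472 IH) (Lpr_bt (K25.f355878 IH) (Lpr_gt (K25.f46366 IH) (Lpr_ct (K26.f45761 IH) (Lpn (LP (LK LD1_c10 LD2_c27 LD3_c52)))))))))))))
theorem f166962 : Led Lsl_ct (LP (LK LD1_c15 LD2_c48 LD3_c51)) = (LP (LK LD1_c8 LD2_c24 LD3_c43)) :=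
  Lre_c IH (LK LD1_c15 LD2_c48 LD3_c51) (LK LD1_c8 LD2_c24 LD3_c43) Lrfl Lrfl
theorem f248594 : Led Lsl_ct (LP (LK LD1_c8 LD2_c36 LD3_c31)) = (LP (LK LD1_c16 LD2_c8 LD3_c2)) :=
  Lre_c IH (LK LD1_c8 LD2_c36 LD3_c31) (LK LD1_c16 LD2_c8 LD3_c2) Lrfl Lrfl
theorem f305775 : Led Lsl_ef (LP (LK LD1_c15 LD2_c48 LD3_c51)) = (LP (LK LD1_c16 LD2_c8 LD3_c2)) :=
  Lgr Lrot28 (Lpr_ct (f166962 IH) (Lpr_et (K19.f305773 IH) (Lpr_ct (f248594 IH) (Lpn (LP (LK LD1_c16 LD2_c8 LD3_c2))))))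
theorem f305785 : Led Lsl_dt (LP (LK LD1_c16 LD2_c8 LD3_c2)) = (LP (LK LD1_c26 LD2_c4 LD3_c31)) :=
  Lre_d IH (LK LD1_c16 LD2_c8 LD3_c2) (LK LD1_c26 LD2_c4 LD3_c31) Lrfl Lrfl
theorem f43760 : Led Lsl_dt (LP (LK LD1_c9 LD2_c39 LD3_c50)) = (LP (LK LD1_c17 LD2_c46 LD3_c25)) :=
  Lre_d IH (LK LD1_c9 LD2_c39 LD3_c50) (LK LD1_c17 LD2_c46 LD3_c25) Lrfl Lrfl
theorem f362506 : Led Lsl_gt (LP (LK LD1_c26 LD2_c4 LD3_c31)) = (LP (LK LD1_c17 LD2_c46 LD3_c25)) :=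
  Lgr Lrot112 (Lpe (f305785 IH) (Lpe (f305775 IH) (Lpr_gf (f362504 IH) (Lpe (K21.f248191 IH) (Lpe (K15.f248178 IH) (Lpe (K14.f43577 IH) (Lpe (K9.f43489 IH) (Lpe (K12.f43494 IH) (Lpe (K26.f43759 IH) (Lpr_dt (f43760 IH) (Lpn (LP (LK LD1_c17 LD2_c46 LD3_c25)))))))))))))
theorem f229082 : Led Lsl_dt (LP (LK LD1_c17 LD2_c46 LD3_c25)) = (LP (LK LD1_c9 LD2_c39 LD3_c50)) :=
  Lre_d IH (LK LD1_c17 LD2_c46 LD3_c25) (LK LD1_c9 LD2_c39 LD3_c50) Lrfl Lrfl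
theorem f362508 : Led Lsl_gf (LP (LK LD1_c16 LD2_c8 LD3_c2)) = (LP (LK LD1_c15 LD2_c38 LD3_c40)) :=
  Lgr Lrot144 (Lpr_dt (f305785 IH) (Lpr_gt (f362506 IH) (Lpr_dt (f229082 IH) (Lpr_cf (K26.f294608 IH) (Lpr_df (K17.f229662 IH) (Lpe (K24.f229669 IH) (Lpe (K24.f332990 IH) (Lpr_gf (K24.f332998 IH) (Lpe (K14.f232074 IH) (Lpn (LP (LK LD1_c15 LD2_c38 LD3_c40))))))))))))
theorem f694043 : Led Lsl_af (LP (LK LD1_c16 LD2_c8 LD3_c2)) = (LP (LK LD1_c10 LD2_c10 LD3_c14)) :=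
  Lgr Lrot31 (Lpr_gf (f362508 IH) (Lpr_gf (K19.f312527 IH) (Lpr_ft (f694033 IH) (Lpn (LP (LK LD1_c10 LD2_c10 LD3_c14))))))
theorem f694017 : Led Lsl_af (LP (LK LD1_c16 LD2_c7 LD3_c58)) = (LP (LK LD1_c10 LD2_c10 LD3_c16)) :=
  Lgr Lrot0 (Lpr_at (f694015 IH) (Lpn (LP (LK LD1_c10 LD2_c10 LD3_c16))))
theorem f694053 : Led Lsl_ft (LP (LK LD1_c16 LD2_c8 LD3_c2)) = (LP (LK LD1_c10 LD2_c10 LD3_c16)) :=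
  Lgr Lrot101 (Lpr_af (f694043 IH) (Lpe (f694033 IH) (Lpr_af (f694017 IH) (Lpn (LP (LK LD1_c10 LD2_c10 LD3_c16))))))
theorem f694061 : Led Lsl_ff (LP (LK LD1_c16 LD2_c8 LD3_c2)) = (LP (LK LD1_c10 LD2_c10 LD3_c16)) :=
  Lgr Lrot3 (Lpr_ft (f694053 IH) (Lpn (LP (LK LD1_c10 LD2_c10 LD3_c16))))
theorem f305787 : Led Lsl_bt (LP (LK LD1_c16 LD2_c8 LD3_c2)) = (LP (LK LD1_c26 LD2_c4 LD3_c30)) :=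
  Lre_b IH (LK LD1_c16 LD2_c8 LD3_c2) (LK LD1_c26 LD2_c4 LD3_c30) Lrfl Lrfl
theorem f307302 : Led Lsl_bt (LP (LK LD1_c18 LD2_c31 LD3_c47)) = (LP (LK LD1_c10 LD2_c10 LD3_c16)) :=
  Lre_b IH (LK LD1_c18 LD2_c31 LD3_c47) (LK LD1_c10 LD2_c10 LD3_c16) Lrfl Lrfl
theorem f694063 : Led Lsl_ft (LP (LK LD1_c26 LD2_c4 LD3_c30)) = (LP (LK LD1_c18 LD2_c31 LD3_c47)) :=
  Lgr Lrot75 (Lpe (f305787 IH) (Lpr_ff (f694061 IH) (Lpe (f307302 IH) (Lpn (LP (LK LD1_c18 LD2_c31 LD3_c47))))))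
theorem f189464 : Led Lsl_bt (LP (LK LD1_c15 LD2_c48 LD3_c51)) = (LP (LK LD1_c25 LD2_c45 LD3_c19)) :=
  Lre_b IH (LK LD1_c15 LD2_c48 LD3_c51) (LK LD1_c25 LD2_c45 LD3_c19) Lrfl Lrfl
theorem f305807 : Led Lsl_bt (LP (LK LD1_c26 LD2_c4 LD3_c30)) = (LP (LK LD1_c16 LD2_c8 LD3_c2)) :=
  Lre_b IH (LK LD1_c26 LD2_c4 LD3_c30) (LK LD1_c16 LD2_c8 LD3_c2) Lrfl Lrfl
theorem f305808 : Led Lsl_et (LP (LK LD1_c25 LD2_c45 LD3_c19)) = (LP (LK LD1_c26 LD2_c4 LD3_c30)) :=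
  Lgr Lrot74 (Lpe (f189464 IH) (Lpr_ef (f305775 IH) (Lpe (f305807 IH) (Lpn (LP (LK LD1_c26 LD2_c4 LD3_c30))))))
theorem f379754 : Led Lsl_et (LP (LK LD1_c18 LD2_c31 LD3_c47)) = (LP (LK LD1_c28 LD2_c6 LD3_c21)) :=
  Lre_e IH (LK LD1_c18 LD2_c31 LD3_c47) (LK LD1_c28 LD2_c6 LD3_c21) Lrfl Lrfl
theorem f693969 : Led Lsl_ff (LP (LK LD1_c32 LD2_c3 LD3_c52)) = (LP (LK LD1_c31 LD2_c59 LD3_c12)) :=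
  Lgr Lrot19 (Lpr_dt (K19.f304620 IH) (Lpr_ft (f693965 IH) (Lpr_dt (K21.f304638 IH) (Lpn (LP (LK LD1_c31 LD2_c59 LD3_c12))))))
theorem f363150 : Led Lsl_gf (LP (LK LD1_c18 LD2_c56 LD3_c4)) = (LP (LK LD1_c25 LD2_c33 LD3_c60)) :=
  Lgr Lrot144 (Lpr_dt (K23.f330603 IH) (Lpr_gt (K23.f339923 IH) (Lpr_dt (K19.f46088 IH) (Lpr_cf (K19.f233427 IH) (Lpe (K19.f233442 IH) (Lpe (K26.f233482 IH) (Lpr_df (K26.f335256 IH) (Lpr_gf (K26.f363148 IH) (Lpe (K26.f362969 IH) (Lpn (LP (LK LD1_c25 LD2_c33 LD3_c60))))))))))))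
theorem f214413 : Led Lsl_dt (LP (LK LD1_c27 LD2_c35 LD3_c15)) = (LP (LK LD1_c17 LD2_c47 LD3_c59)) :=
  Lre_d IH (LK LD1_c27 LD2_c35 LD3_c15) (LK LD1_c17 LD2_c47 LD3_c59) Lrfl Lrfl
theorem f330719 : Led Lsl_ct (LP (LK LD1_c18 LD2_c17 LD3_c35)) = (LP (LK LD1_c27 LD2_c56 LD3_c31)) :=
  Lre_c IH (LK LD1_c18 LD2_c17 LD3_c35) (LK LD1_c27 LD2_c56 LD3_c31) Lrfl Lrfl
theorem f43726 : Led Lsl_at (LP (LK LD1_c27 LD2_c35 LD3_c18)) = (LP (LK LD1_c27 LD2_c33 LD3_c35)) :=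
  Lgr Lrot100 (Lpr_af (K13.f43658 IH) (Lpn (LP (LK LD1_c27 LD2_c33 LD3_c35))))
theorem f214379 : Led Lsl_ft (LP (LK LD1_c27 LD2_c51 LD3_c38)) = (LP (LK LD1_c27 LD2_c35 LD3_c18)) :=
  Lgr Lrot142 (Lpr_dt (K13.f214373 IH) (Lpr_ct (K13.f43366 IH) (Lpr_dt (K13.f43365 IH) (Lpr_ct (K13.f43364 IH) (Lpr_dt (K13.f43358 IH) (Lpr_ct (K13.f43367 IH) (Lpr_dt (K25.f43368 IH) (Lpr_ct (K13.f43369 IH) (Lpe (f43726 IH) (Lpn (LP (LK LD1_c27 LD2_c35 LD3_c18))))))))))))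
theorem f43731 : Led Lsl_gt (LP (LK LD1_c32 LD2_c26 LD3_c24)) = (LP (LK LD1_c27 LD2_c33 LD3_c35)) :=
  Lre_g IH (LK LD1_c32 LD2_c26 LD3_c24) (LK LD1_c27 LD2_c33 LD3_c35) Lrfl Lrfl
theorem f215000 : Led Lsl_gt (LP (LK LD1_c27 LD2_c51 LD3_c38)) = (LP (LK LD1_c32 LD2_c26 LD3_c24)) :=
  Lgr Lrot5 (Lpr_ft (f214379 IH) (Lpr_at (f43726 IH) (Lpe (f43731 IH) (Lpn (LP (LK LD1_c32 LD2_c26 LD3_c24))))))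
theorem f335153 : Led Lsl_ct (LP (LK LD1_c27 LD2_c53 LD3_c40)) = (LP (LK LD1_c32 LD2_c26 LD3_c24)) :=
  Lgr Lrot152 (Lpe (K26.f233658 IH) (Lpe (K26.f190689 IH) (Lpr_gt (K22.f335145 IH) (Lpr_ct (K26.f163905 IH) (Lpr_gt (K19.f312497 IH) (Lpr_ct (K13.f43367 IH) (Lpe (K13.f43365 IH) (Lpe (K13.f43366 IH) (Lpe (f43731 IH) (Lpn (LP (LK LD1_c32 LD2_c26 LD3_c24))))))))))))
theorem f335178 : Led Lsl_cf (LP (LK LD1_c27 LD2_c53 LD3_c40)) = (LP (LK LD1_c32 LD2_c26 LD3_c24)) :=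
  Lgr Lrot11 (Lpr_ct (f335153 IH) (Lpn (LP (LK LD1_c32 LD2_c26 LD3_c24))))
theorem f342672 : Led Lsl_gf (LP (LK LD1_c18 LD2_c31 LD3_c49)) = (LP (LK LD1_c28 LD2_c5 LD3_c2)) :=
  Lgr Lrot147 (Lpr_ct (f307270 IH) (Lpe (K46.f312501 IH) (Lpr_ct (K54.f306997 IH) (Lpe (K26.f335247 IH) (Lpr_cf (f335178 IH) (Lpe (f215000 IH) (Lpe (K13.f214157 IH) (Lpr_gf (K23.f214994 IH) (Lpr_df (K23.f342664 IH) (Lpn (LP (LK LD1_c28 LD2_c5 LD3_c2))))))))))))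
theorem f215004 : Led Lsl_dt (LP (LK LD1_c27 LD2_c35 LD3_c13)) = (LP (LK LD1_c17 LD2_c47 LD3_c58)) :=
  Lre_d IH (LK LD1_c27 LD2_c35 LD3_c13) (LK LD1_c17 LD2_c47 LD3_c58) Lrfl Lrfl
theorem f362686 : Led Lsl_gt (LP (LK LD1_c28 LD2_c6 LD3_c24)) = (LP (LK LD1_c27 LD2_c35 LD3_c13)) :=
  Lgr Lrot49 (Lpe (f307296 IH) (Lpr_gf (f342672 IH) (Lpe (K25.f342659 IH) (Lpr_gt (K54.f362684 IH) (Lpe (K54.f362675 IH) (Lpr_gt (K54.f362651 IH) (Lpr_dt (K23.f46092 IH) (Lpe (K23.f339899 IH) (Lpe (f215004 IH) (Lpn (LP (LK LD1_c27 LD2_c35 LD3_c13))))))))))))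
theorem f165394 : Led Lsl_dt (LP (LK LD1_c18 LD2_c17 LD3_c35)) = (LP (LK LD1_c10 LD2_c0 LD3_c37)) :=
  Lre_d IH (LK LD1_c18 LD2_c17 LD3_c35) (LK LD1_c10 LD2_c0 LD3_c37) Lrfl Lrfl
theorem f330780 : Led Lsl_ct (LP (LK LD1_c27 LD2_c56 LD3_c31)) = (LP (LK LD1_c18 LD2_c17 LD3_c35)) :=
  Lre_c IH (LK LD1_c27 LD2_c56 LD3_c31) (LK LD1_c18 LD2_c17 LD3_c35) Lrfl Lrfl
theorem f330781 : Led Lsl_gt (LP (LK LD1_c32 LD2_c30 LD3_c31)) = (LP (LK LD1_c27 LD2_c56 LD3_c31)) :=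
  Lre_g IH (LK LD1_c32 LD2_c30 LD3_c31) (LK LD1_c27 LD2_c56 LD3_c31) Lrfl Lrfl
theorem f330782 : Led Lsl_ct (LP (LK LD1_c28 LD2_c6 LD3_c24)) = (LP (LK LD1_c32 LD2_c30 LD3_c31)) :=
  Lgr Lrot152 (Lpr_gf (f307280 IH) (Lpe (f214992 IH) (Lpr_gt (K23.f43314 IH) (Lpr_ct (K13.f43303 IH) (Lpr_gt (K21.f330640 IH) (Lpr_ct (K22.f165396 IH) (Lpe (f165394 IH) (Lpe (f330780 IH) (Lpe (f330781 IH) (Lpn (LP (LK LD1_c32 LD2_c30 LD3_c31))))))))))))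
theorem f214253 : Led Lsl_at (LP (LK LD1_c28 LD2_c4 LD3_c40)) = (LP (LK LD1_c27 LD2_c51 LD3_c38)) :=
  Lgr Lrot100 (Lpr_af (K13.f214158 IH) (Lpn (LP (LK LD1_c27 LD2_c51 LD3_c38))))
theorem f214375 : Led Lsl_df (LP (LK LD1_c28 LD2_c4 LD3_c40)) = (LP (LK LD1_c27 LD2_c35 LD3_c18)) :=
  Lgr Lrot18 (Lpr_at (f214253 IH) (Lpr_dt (K13.f214373 IH) (Lpe (K13.f43658 IH) (Lpn (LP (LK LD1_c27 LD2_c35 LD3_c18))))))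
theorem f43729 : Led Lsl_gt (LP (LK LD1_c32 LD2_c26 LD3_c59)) = (LP (LK LD1_c27 LD2_c35 LD3_c18)) :=
  Lre_g IH (LK LD1_c32 LD2_c26 LD3_c59) (LK LD1_c27 LD2_c35 LD3_c18) Lrfl Lrfl
theorem f362842 : Led Lsl_dt (LP (LK LD1_c27 LD2_c56 LD3_c31)) = (LP (LK LD1_c32 LD2_c26 LD3_c59)) :=
  Lgr Lrot57 (Lpe (f330781 IH) (Lpe (f330782 IH) (Lpr_gt (f362686 IH) (Lpr_dt (f215004 IH) (Lpe (K53.f215002 IH) (Lpr_dt (K12.f214121 IH) (Lpe (K13.f214119 IH) (Lpr_df (f214375 IH) (Lpe (f43729 IH) (Lpn (LP (LK LD1_c32 LD2_c26 LD3_c59))))))))))))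
theorem f362847 : Led Lsl_df (LP (LK LD1_c27 LD2_c56 LD3_c31)) = (LP (LK LD1_c32 LD2_c26 LD3_c59)) :=
  Lgr Lrot38 (Lpr_dt (f362842 IH) (Lpn (LP (LK LD1_c32 LD2_c26 LD3_c59))))
theorem f214403 : Led Lsl_gt (LP (LK LD1_c28 LD2_c4 LD3_c40)) = (LP (LK LD1_c32 LD2_c26 LD3_c59)) :=
  Lgr Lrot5 (Lpr_ft (K13.f214395 IH) (Lpe (K13.f43658 IH) (Lpe (f43729 IH) (Lpn (LP (LK LD1_c32 LD2_c26 LD3_c59))))))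
theorem f363104 : Led Lsl_ct (LP (LK LD1_c32 LD2_c26 LD3_c59)) = (LP (LK LD1_c28 LD2_c8 LD3_c21)) :=
  Lgr Lrot8 (Lpr_gt (f43729 IH) (Lpe (f214375 IH) (Lpr_gt (f214403 IH) (Lpe (f362847 IH) (Lpe (f330719 IH) (Lpe (K26.f330708 IH) (Lpr_gf (K54.f362971 IH) (Lpe (K19.f212366 IH) (Lpe (K22.f233636 IH) (Lpn (LP (LK LD1_c28 LD2_c8 LD3_c21))))))))))))
theorem f363131 : Led Lsl_gt (LP (LK LD1_c27 LD2_c50 LD3_c26)) = (LP (LK LD1_c26 LD2_c4 LD3_c28)) :=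
  Lgr Lrot9 (Lpr_df (K23.f330652 IH) (Lpe (K23.f215007 IH) (Lpr_ct (K13.f214122 IH) (Lpr_gt (f214403 IH) (Lpr_ct (f363104 IH) (Lpe (K22.f330768 IH) (Lpe (K22.f214982 IH) (Lpr_gf (K25.f307234 IH) (Lpe (K19.f304619 IH) (Lpn (LP (LK LD1_c26 LD2_c4 LD3_c28))))))))))))
theorem f339919 : Led Lsl_cf (LP (LK LD1_c27 LD2_c50 LD3_c26)) = (LP (LK LD1_c18 LD2_c58 LD3_c30)) :=
  Lgr Lrot11 (Lpr_ct (K23.f339917 IH) (Lpn (LP (LK LD1_c18 LD2_c58 LD3_c30))))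
theorem f363135 : Led Lsl_gt (LP (LK LD1_c28 LD2_c6 LD3_c23)) = (LP (LK LD1_c25 LD2_c45 LD3_c18)) :=
  Lgr Lrot150 (Lpe (K25.f355945 IH) (Lpr_gf (K54.f362694 IH) (Lpe (K54.f362679 IH) (Lpr_gt (K54.f362651 IH) (Lpe (f339919 IH) (Lpr_gt (f363131 IH) (Lpr_ct (K19.f304619 IH) (Lpe (K19.f304602 IH) (Lpe (K23.f214561 IH) (Lpn (LP (LK LD1_c25 LD2_c45 LD3_c18))))))))))))
theorem f378248 : Led Lsl_gf (LP (LK LD1_c27 LD2_c35 LD3_c15)) = (LP (LK LD1_c31 LD2_c59 LD3_c12)) :=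
  Lgr Lrot143 (Lpr_dt (f214413 IH) (Lpe (K23.f330585 IH) (Lpe (K23.f330603 IH) (Lpr_gf (f363150 IH) (Lpe (K26.f362962 IH) (Lpr_gf (K26.f362967 IH) (Lpr_cf (K25.f355942 IH) (Lpr_gt (f363135 IH) (Lpr_dt (K21.f304638 IH) (Lpn (LP (LK LD1_c31 LD2_c59 LD3_c12))))))))))))
theorem f693973 : Led Lsl_at (LP (LK LD1_c32 LD2_c3 LD3_c52)) = (LP (LK LD1_c28 LD2_c6 LD3_c24)) :=
  Lgr Lrot26 (Lpr_ff (f693969 IH) (Lpe (f378248 IH) (Lpe (f307280 IH) (Lpn (LP (LK LD1_c28 LD2_c6 LD3_c24))))))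
theorem f370462 : Led Lsl_et (LP (LK LD1_c27 LD2_c49 LD3_c18)) = (LP (LK LD1_c18 LD2_c8 LD3_c57)) :=
  Lre_e IH (LK LD1_c27 LD2_c49 LD3_c18) (LK LD1_c18 LD2_c8 LD3_c57) Lrfl Lrfl
theorem f370463 : Led Lsl_ct (LP (LK LD1_c18 LD2_c56 LD3_c4)) = (LP (LK LD1_c27 LD2_c49 LD3_c18)) :=
  Lgr Lrot15 (Lpr_ef (K23.f339935 IH) (Lpr_cf (K27.f370456 IH) (Lpe (f370462 IH) (Lpn (LP (LK LD1_c27 LD2_c49 LD3_c18))))))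
theorem f370474 : Led Lsl_gf (LP (LK LD1_c18 LD2_c9 LD3_c56)) = (LP (LK LD1_c27 LD2_c49 LD3_c18)) :=
  Lgr Lrot104 (Lpr_ct (K21.f307275 IH) (Lpr_df (K21.f307259 IH) (Lpe (f307270 IH) (Lpr_gf (f342672 IH) (Lpe (K25.f342659 IH) (Lpe (K25.f355928 IH) (Lpr_df (K26.f362960 IH) (Lpe (f363150 IH) (Lpr_ct (f370463 IH) (Lpn (LP (LK LD1_c27 LD2_c49 LD3_c18))))))))))))
theorem f307269 : Led Lsl_ct (LP (LK LD1_c27 LD2_c50 LD3_c27)) = (LP (LK LD1_c32 LD2_c29 LD3_c8)) :=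
  Lre_c IH (LK LD1_c27 LD2_c50 LD3_c27) (LK LD1_c32 LD2_c29 LD3_c8) Lrfl Lrfl
theorem f43312 : Led Lsl_gt (LP (LK LD1_c27 LD2_c35 LD3_c17)) = (LP (LK LD1_c17 LD2_c47 LD3_c60)) :=
  Lre_g IH (LK LD1_c27 LD2_c35 LD3_c17) (LK LD1_c17 LD2_c47 LD3_c60) Lrfl Lrfl
theorem f214417 : Led Lsl_gt (LP (LK LD1_c18 LD2_c30 LD3_c35)) = (LP (LK LD1_c27 LD2_c35 LD3_c17)) :=
  Lgr Lrot5 (Lpr_ft (K13.f214411 IH) (Lpe (K13.f43650 IH) (Lpe (f43312 IH) (Lpn (LP (LK LD1_c27 LD2_c35 LD3_c17))))))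
theorem f370472 : Led Lsl_dt (LP (LK LD1_c27 LD2_c35 LD3_c17)) = (LP (LK LD1_c27 LD2_c49 LD3_c18)) :=
  Lgr Lrot113 (Lpe (f214417 IH) (Lpe (K12.f214121 IH) (Lpr_gf (K53.f215002 IH) (Lpr_ct (K23.f339899 IH) (Lpe (K19.f46389 IH) (Lpe (K1.f46119 IH) (Lpe (K54.f339925 IH) (Lpr_dt (K54.f330635 IH) (Lpr_ct (f370463 IH) (Lpn (LP (LK LD1_c27 LD2_c49 LD3_c18))))))))))))
theorem f330720 : Led Lsl_gt (LP (LK LD1_c27 LD2_c56 LD3_c31)) = (LP (LK LD1_c32 LD2_c30 LD3_c30)) :=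
  Lre_g IH (LK LD1_c27 LD2_c56 LD3_c31) (LK LD1_c32 LD2_c30 LD3_c30) Lrfl Lrfl
theorem f370490 : Led Lsl_df (LP (LK LD1_c32 LD2_c29 LD3_c8)) = (LP (LK LD1_c32 LD2_c30 LD3_c30)) :=
  Lgr Lrot84 (Lpe (f307269 IH) (Lpe (K21.f307268 IH) (Lpr_gf (f370474 IH) (Lpe (f370472 IH) (Lpe (f214417 IH) (Lpe (K13.f214119 IH) (Lpr_gt (f214403 IH) (Lpe (f362847 IH) (Lpr_gt (f330720 IH) (Lpn (LP (LK LD1_c32 LD2_c30 LD3_c30))))))))))))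
theorem f370492 : Led Lsl_dt (LP (LK LD1_c32 LD2_c29 LD3_c8)) = (LP (LK LD1_c32 LD2_c30 LD3_c30)) :=
  Lgr Lrot42 (Lpr_df (f370490 IH) (Lpn (LP (LK LD1_c32 LD2_c30 LD3_c30))))
theorem f362844 : Led Lsl_cf (LP (LK LD1_c28 LD2_c6 LD3_c24)) = (LP (LK LD1_c32 LD2_c30 LD3_c31)) :=
  Lgr Lrot166 (Lpr_gt (f362686 IH) (Lpr_dt (f215004 IH) (Lpe (K53.f215002 IH) (Lpr_dt (K12.f214121 IH) (Lpr_ct (K13.f214122 IH) (Lpr_df (f214375 IH) (Lpe (f43729 IH) (Lpe (f362842 IH) (Lpe (f330781 IH) (Lpn (LP (LK LD1_c32 LD2_c30 LD3_c31))))))))))))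
theorem f363106 : Led Lsl_cf (LP (LK LD1_c32 LD2_c26 LD3_c59)) = (LP (LK LD1_c28 LD2_c8 LD3_c21)) :=
  Lgr Lrot166 (Lpr_gt (f43729 IH) (Lpe (f214375 IH) (Lpr_gt (f214403 IH) (Lpe (f362847 IH) (Lpr_ct (f330780 IH) (Lpe (K26.f330708 IH) (Lpr_gf (K54.f362971 IH) (Lpe (K19.f212366 IH) (Lpe (K22.f233636 IH) (Lpn (LP (LK LD1_c28 LD2_c8 LD3_c21))))))))))))
theorem f46122 : Led Lsl_dt (LP (LK LD1_c18 LD2_c58 LD3_c18)) = (LP (LK LD1_c10 LD2_c28 LD3_c2)) :=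
  Lre_d IH (LK LD1_c18 LD2_c58 LD3_c18) (LK LD1_c10 LD2_c28 LD3_c2) Lrfl Lrfl
theorem f362702 : Led Lsl_gt (LP (LK LD1_c27 LD2_c56 LD3_c33)) = (LP (LK LD1_c27 LD2_c35 LD3_c22)) :=
  Lgr Lrot180 (Lpr_ct (K54.f362696 IH) (Lpe (K54.f362694 IH) (Lpr_dt (f46122 IH) (Lpr_gt (K25.f46121 IH) (Lpr_dt (K1.f46115 IH) (Lpe (K22.f233648 IH) (Lpe (K19.f212366 IH) (Lpe (K22.f233636 IH) (Lpe (K22.f330768 IH) (Lpn (LP (LK LD1_c27 LD2_c35 LD3_c22))))))))))))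
theorem f312510 : Led Lsl_ct (LP (LK LD1_c28 LD2_c10 LD3_c35)) = (LP (LK LD1_c18 LD2_c38 LD3_c33)) :=
  Lre_c IH (LK LD1_c28 LD2_c10 LD3_c35) (LK LD1_c18 LD2_c38 LD3_c33) Lrfl Lrfl
theorem f355922 : Led Lsl_gt (LP (LK LD1_c28 LD2_c10 LD3_c35)) = (LP (LK LD1_c32 LD2_c32 LD3_c29)) :=
  Lre_g IH (LK LD1_c28 LD2_c10 LD3_c35) (LK LD1_c32 LD2_c32 LD3_c29) Lrfl Lrfl
theorem f363126 : Led Lsl_df (LP (LK LD1_c32 LD2_c30 LD3_c31)) = (LP (LK LD1_c32 LD2_c32 LD3_c29)) :=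
  Lgr Lrot153 (Lpr_gt (f330781 IH) (Lpr_dt (f362842 IH) (Lpr_cf (f363106 IH) (Lpe (K22.f330768 IH) (Lpe (f362702 IH) (Lpr_df (K54.f362704 IH) (Lpe (K54.f335151 IH) (Lpe (f312510 IH) (Lpr_gt (f355922 IH) (Lpn (LP (LK LD1_c32 LD2_c32 LD3_c29))))))))))))
theorem f363152 : Led Lsl_cf (LP (LK LD1_c31 LD2_c59 LD3_c12)) = (LP (LK LD1_c32 LD2_c30 LD3_c30)) :=
  Lgr Lrot99 (Lpe (K21.f304638 IH) (Lpe (K21.f214559 IH) (Lpe (K19.f312513 IH) (Lpe (K26.f306996 IH) (Lpr_gf (K26.f363148 IH) (Lpr_df (K26.f330712 IH) (Lpr_gt (K26.f165395 IH) (Lpr_ct (f330719 IH) (Lpr_gt (f330720 IH) (Lpn (LP (LK LD1_c32 LD2_c30 LD3_c30))))))))))))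
theorem f304617 : Led Lsl_ct (LP (LK LD1_c16 LD2_c7 LD3_c59)) = (LP (LK LD1_c26 LD2_c4 LD3_c28)) :=
  Lre_c IH (LK LD1_c16 LD2_c7 LD3_c59) (LK LD1_c26 LD2_c4 LD3_c28) Lrfl Lrfl
theorem f370495 : Led Lsl_cf (LP (LK LD1_c32 LD2_c32 LD3_c29)) = (LP (LK LD1_c32 LD2_c3 LD3_c52)) :=
  Lgr Lrot55 (Lpe (f363126 IH) (Lpe (f362844 IH) (Lpr_dt (f307271 IH) (Lpr_ct (f307270 IH) (Lpe (K21.f307259 IH) (Lpr_ct (K23.f307267 IH) (Lpr_dt (K21.f307268 IH) (Lpr_ct (f307269 IH) (Lpr_dt (f370492 IH) (Lpe (f363152 IH) (Lpr_dt (K21.f304616 IH) (Lpr_ct (K23.f214561 IH) (Lpr_dt (K19.f304602 IH) (Lpr_ct (f304617 IH) (Lpr_dt (K19.f304618 IH) (Lpn (LP (LK LD1_c32 LD2_c3 LD3_c52))))))))))))))))))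
theorem f370497 : Led Lsl_ct (LP (LK LD1_c32 LD2_c32 LD3_c29)) = (LP (LK LD1_c32 LD2_c3 LD3_c52)) :=
  Lgr Lrot59 (Lpr_cf (f370495 IH) (Lpn (LP (LK LD1_c32 LD2_c3 LD3_c52))))
theorem f693977 : Led Lsl_af (LP (LK LD1_c32 LD2_c32 LD3_c29)) = (LP (LK LD1_c32 LD2_c30 LD3_c31)) :=
  Lgr Lrot68 (Lpr_ct (f370497 IH) (Lpr_at (f693973 IH) (Lpr_ct (f330782 IH) (Lpn (LP (LK LD1_c32 LD2_c30 LD3_c31))))))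
theorem f215017 : Led Lsl_dt (LP (LK LD1_c27 LD2_c33 LD3_c30)) = (LP (LK LD1_c17 LD2_c46 LD3_c46)) :=
  Lre_d IH (LK LD1_c27 LD2_c33 LD3_c30) (LK LD1_c17 LD2_c46 LD3_c46) Lrfl Lrfl
theorem f312511 : Led Lsl_gf (LP (LK LD1_c28 LD2_c10 LD3_c35)) = (LP (LK LD1_c32 LD2_c29 LD3_c8)) :=
  Lgr Lrot104 (Lpr_ct (f312510 IH) (Lpe (K46.f312509 IH) (Lpe (K22.f163907 IH) (Lpr_gf (K19.f312499 IH) (Lpe (K13.f214141 IH) (Lpr_gf (K23.f215015 IH) (Lpe (f215017 IH) (Lpr_gt (K21.f307309 IH) (Lpr_ct (f307269 IH) (Lpn (LP (LK LD1_c32 LD2_c29 LD3_c8))))))))))))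
theorem f693981 : Led Lsl_ft (LP (LK LD1_c32 LD2_c29 LD3_c8)) = (LP (LK LD1_c32 LD2_c30 LD3_c31)) :=
  Lgr Lrot2 (Lpe (f312511 IH) (Lpr_gt (f355922 IH) (Lpr_af (f693977 IH) (Lpn (LP (LK LD1_c32 LD2_c30 LD3_c31))))))
theorem f693987 : Led Lsl_ff (LP (LK LD1_c32 LD2_c29 LD3_c8)) = (LP (LK LD1_c32 LD2_c30 LD3_c31)) :=
  Lgr Lrot3 (Lpr_ft (f693981 IH) (Lpn (LP (LK LD1_c32 LD2_c30 LD3_c31))))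
theorem f307283 : Led Lsl_ct (LP (LK LD1_c32 LD2_c29 LD3_c8)) = (LP (LK LD1_c27 LD2_c50 LD3_c27)) :=
  Lre_c IH (LK LD1_c32 LD2_c29 LD3_c8) (LK LD1_c27 LD2_c50 LD3_c27) Lrfl Lrfl
theorem f693989 : Led Lsl_ft (LP (LK LD1_c27 LD2_c50 LD3_c27)) = (LP (LK LD1_c28 LD2_c6 LD3_c24)) :=
  Lgr Lrot4 (Lpe (f307283 IH) (Lpr_ff (f693987 IH) (Lpe (f330782 IH) (Lpn (LP (LK LD1_c28 LD2_c6 LD3_c24))))))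
theorem f307314 : Led Lsl_bt (LP (LK LD1_c32 LD2_c29 LD3_c5)) = (LP (LK LD1_c27 LD2_c50 LD3_c27)) :=
  Lre_b IH (LK LD1_c32 LD2_c29 LD3_c5) (LK LD1_c27 LD2_c50 LD3_c27) Lrfl Lrfl
theorem f362846 : Led Lsl_bt (LP (LK LD1_c28 LD2_c6 LD3_c24)) = (LP (LK LD1_c32 LD2_c32 LD3_c3)) :=
  Lre_b IH (LK LD1_c28 LD2_c6 LD3_c24) (LK LD1_c32 LD2_c32 LD3_c3) Lrfl Lrfl
theorem f693999 : Led Lsl_ff (LP (LK LD1_c32 LD2_c29 LD3_c5)) = (LP (LK LD1_c32 LD2_c32 LD3_c3)) :=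
  Lgr Lrot25 (Lpr_bt (f307314 IH) (Lpr_ft (f693989 IH) (Lpr_bt (f362846 IH) (Lpn (LP (LK LD1_c32 LD2_c32 LD3_c3))))))
theorem f694003 : Led Lsl_ft (LP (LK LD1_c32 LD2_c29 LD3_c5)) = (LP (LK LD1_c32 LD2_c32 LD3_c3)) :=
  Lgr Lrot48 (Lpr_ff (f693999 IH) (Lpn (LP (LK LD1_c32 LD2_c32 LD3_c3))))
theorem f333023 : Led Lsl_dt (LP (LK LD1_c27 LD2_c50 LD3_c24)) = (LP (LK LD1_c32 LD2_c29 LD3_c5)) :=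
  Lre_d IH (LK LD1_c27 LD2_c50 LD3_c24) (LK LD1_c32 LD2_c29 LD3_c5) Lrfl Lrfl
theorem f350740 : Led Lsl_dt (LP (LK LD1_c32 LD2_c32 LD3_c3)) = (LP (LK LD1_c28 LD2_c6 LD3_c21)) :=
  Lre_d IH (LK LD1_c32 LD2_c32 LD3_c3) (LK LD1_c28 LD2_c6 LD3_c21) Lrfl Lrfl
theorem f694005 : Led Lsl_ff (LP (LK LD1_c27 LD2_c50 LD3_c24)) = (LP (LK LD1_c28 LD2_c6 LD3_c21)) :=
  Lgr Lrot19 (Lpr_dt (f333023 IH) (Lpr_ft (f694003 IH) (Lpr_dt (f350740 IH) (Lpn (LP (LK LD1_c28 LD2_c6 LD3_c21))))))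
theorem f333024 : Led Lsl_et (LP (LK LD1_c27 LD2_c50 LD3_c24)) = (LP (LK LD1_c18 LD2_c9 LD3_c54)) :=
  Lre_e IH (LK LD1_c27 LD2_c50 LD3_c24) (LK LD1_c18 LD2_c9 LD3_c54) Lrfl Lrfl
theorem f694072 : Led Lsl_ff (LP (LK LD1_c25 LD2_c45 LD3_c19)) = (LP (LK LD1_c18 LD2_c9 LD3_c54)) :=
  Lgr Lrot72 (Lpr_et (f305808 IH) (Lpr_ft (f694063 IH) (Lpr_et (f379754 IH) (Lpe (f694005 IH) (Lpr_et (f333024 IH) (Lpn (LP (LK LD1_c18 LD2_c9 LD3_c54))))))))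
theorem f694078 : Led Lsl_ft (LP (LK LD1_c25 LD2_c45 LD3_c19)) = (LP (LK LD1_c18 LD2_c9 LD3_c54)) :=
  Lgr Lrot48 (Lpr_ff (f694072 IH) (Lpn (LP (LK LD1_c18 LD2_c9 LD3_c54))))
theorem f49867 : Led Lsl_bt (LP (LK LD1_c10 LD2_c20 LD3_c13)) = (LP (LK LD1_c18 LD2_c45 LD3_c50)) :=
  Lre_b IH (LK LD1_c10 LD2_c20 LD3_c13) (LK LD1_c18 LD2_c45 LD3_c50) Lrfl Lrfl
theorem f305812 : Led Lsl_bt (LP (LK LD1_c25 LD2_c45 LD3_c19)) = (LP (LK LD1_c15 LD2_c48 LD3_c51)) :=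
  Lre_b IH (LK LD1_c25 LD2_c45 LD3_c19) (LK LD1_c15 LD2_c48 LD3_c51) Lrfl Lrfl
theorem f362484 : Led Lsl_ct (LP (LK LD1_c18 LD2_c45 LD3_c50)) = (LP (LK LD1_c25 LD2_c45 LD3_c19)) :=
  Lgr Lrot83 (Lpe (f49867 IH) (Lpr_cf (K26.f362478 IH) (Lpe (f362474 IH) (Lpe (f166962 IH) (Lpe (f305812 IH) (Lpn (LP (LK LD1_c25 LD2_c45 LD3_c19))))))))
theorem f333011 : Led Lsl_et (LP (LK LD1_c15 LD2_c39 LD3_c10)) = (LP (LK LD1_c25 LD2_c34 LD3_c29)) :=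
  Lre_e IH (LK LD1_c15 LD2_c39 LD3_c10) (LK LD1_c25 LD2_c34 LD3_c29) Lrfl Lrfl
theorem f333012 : Led Lsl_cf (LP (LK LD1_c18 LD2_c9 LD3_c53)) = (LP (LK LD1_c25 LD2_c34 LD3_c29)) :=
  Lgr Lrot39 (Lpr_et (K24.f307346 IH) (Lpr_ct (K24.f333000 IH) (Lpr_et (f333011 IH) (Lpn (LP (LK LD1_c25 LD2_c34 LD3_c29))))))
theorem f333018 : Led Lsl_ct (LP (LK LD1_c18 LD2_c9 LD3_c53)) = (LP (LK LD1_c25 LD2_c34 LD3_c29)) :=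
  Lgr Lrot59 (Lpr_cf (f333012 IH) (Lpn (LP (LK LD1_c25 LD2_c34 LD3_c29))))
theorem f330655 : Led Lsl_bt (LP (LK LD1_c27 LD2_c50 LD3_c24)) = (LP (LK LD1_c18 LD2_c9 LD3_c56)) :=
  Lre_b IH (LK LD1_c27 LD2_c50 LD3_c24) (LK LD1_c18 LD2_c9 LD3_c56) Lrfl Lrfl
theorem f333020 : Led Lsl_bt (LP (LK LD1_c25 LD2_c34 LD3_c29)) = (LP (LK LD1_c31 LD2_c56 LD3_c13)) :=
  Lre_b IH (LK LD1_c25 LD2_c34 LD3_c29) (LK LD1_c31 LD2_c56 LD3_c13) Lrfl Lrfl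
theorem f333021 : Led Lsl_cf (LP (LK LD1_c27 LD2_c50 LD3_c24)) = (LP (LK LD1_c31 LD2_c56 LD3_c13)) :=
  Lgr Lrot97 (Lpr_bt (f330655 IH) (Lpr_ct (K21.f307275 IH) (Lpr_bt (K24.f307263 IH) (Lpr_ct (f333018 IH) (Lpr_bt (f333020 IH) (Lpn (LP (LK LD1_c31 LD2_c56 LD3_c13))))))))
theorem f333025 : Led Lsl_et (LP (LK LD1_c25 LD2_c34 LD3_c28)) = (LP (LK LD1_c31 LD2_c56 LD3_c13)) :=
  Lre_e IH (LK LD1_c25 LD2_c34 LD3_c28) (LK LD1_c31 LD2_c56 LD3_c13) Lrfl Lrfl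
theorem f333026 : Led Lsl_ct (LP (LK LD1_c18 LD2_c9 LD3_c54)) = (LP (LK LD1_c25 LD2_c34 LD3_c28)) :=
  Lgr Lrot15 (Lpe (f333024 IH) (Lpr_cf (f333021 IH) (Lpe (f333025 IH) (Lpn (LP (LK LD1_c25 LD2_c34 LD3_c28))))))
theorem f694080 : Led Lsl_ff (LP (LK LD1_c18 LD2_c45 LD3_c50)) = (LP (LK LD1_c25 LD2_c34 LD3_c28)) :=
  Lgr Lrot23 (Lpr_ct (f362484 IH) (Lpr_ft (f694078 IH) (Lpr_ct (f333026 IH) (Lpn (LP (LK LD1_c25 LD2_c34 LD3_c28))))))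
theorem f48938 : Led Lsl_bt (LP (LK LD1_c18 LD2_c53 LD3_c40)) = (LP (LK LD1_c10 LD2_c24 LD3_c49)) :=
  Lre_b IH (LK LD1_c18 LD2_c53 LD3_c40) (LK LD1_c10 LD2_c24 LD3_c49) Lrfl Lrfl
theorem f49868 : Led Lsl_et (LP (LK LD1_c18 LD2_c45 LD3_c50)) = (LP (LK LD1_c18 LD2_c53 LD3_c40)) :=
  Lgr Lrot74 (Lpe (f49867 IH) (Lpr_ef (K26.f49864 IH) (Lpe (f48938 IH) (Lpn (LP (LK LD1_c18 LD2_c53 LD3_c40))))))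
theorem f333033 : Led Lsl_et (LP (LK LD1_c31 LD2_c56 LD3_c13)) = (LP (LK LD1_c25 LD2_c34 LD3_c28)) :=
  Lre_e IH (LK LD1_c31 LD2_c56 LD3_c13) (LK LD1_c25 LD2_c34 LD3_c28) Lrfl Lrfl
theorem f307276 : Led Lsl_bt (LP (LK LD1_c18 LD2_c9 LD3_c56)) = (LP (LK LD1_c27 LD2_c50 LD3_c24)) :=
  Lre_b IH (LK LD1_c18 LD2_c9 LD3_c56) (LK LD1_c27 LD2_c50 LD3_c24) Lrfl Lrfl
theorem f333015 : Led Lsl_bt (LP (LK LD1_c31 LD2_c56 LD3_c13)) = (LP (LK LD1_c25 LD2_c34 LD3_c29)) :=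
  Lre_b IH (LK LD1_c31 LD2_c56 LD3_c13) (LK LD1_c25 LD2_c34 LD3_c29) Lrfl Lrfl
theorem f333016 : Led Lsl_ct (LP (LK LD1_c27 LD2_c50 LD3_c24)) = (LP (LK LD1_c31 LD2_c56 LD3_c13)) :=
  Lgr Lrot83 (Lpe (f307276 IH) (Lpe (K23.f307267 IH) (Lpe (K24.f307285 IH) (Lpr_cf (f333012 IH) (Lpe (f333015 IH) (Lpn (LP (LK LD1_c31 LD2_c56 LD3_c13))))))))
theorem f350753 : Led Lsl_ct (LP (LK LD1_c16 LD2_c0 LD3_c42)) = (LP (LK LD1_c10 LD2_c10 LD3_c15)) :=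
  Lgr Lrot7 (Lpe (K24.f350744 IH) (Lpe (K24.f342532 IH) (Lpe (K23.f232000 IH) (Lpe (K24.f252838 IH) (Lpr_cf (K24.f350750 IH) (Lpr_gt (K24.f180810 IH) (Lpe (K23.f193199 IH) (Lpr_gt (K24.f193238 IH) (Lpe (K24.f341784 IH) (Lpn (LP (LK LD1_c10 LD2_c10 LD3_c15))))))))))))
theorem f254626 : Led Lsl_bt (LP (LK LD1_c25 LD2_c57 LD3_c60)) = (LP (LK LD1_c16 LD2_c0 LD3_c42)) :=
  Lre_b IH (LK LD1_c25 LD2_c57 LD3_c60) (LK LD1_c16 LD2_c0 LD3_c42) Lrfl Lrfl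
theorem f307262 : Led Lsl_bt (LP (LK LD1_c10 LD2_c10 LD3_c16)) = (LP (LK LD1_c18 LD2_c31 LD3_c47)) :=
  Lre_b IH (LK LD1_c10 LD2_c10 LD3_c16) (LK LD1_c18 LD2_c31 LD3_c47) Lrfl Lrfl
theorem f379731 : Led Lsl_cf (LP (LK LD1_c25 LD2_c57 LD3_c60)) = (LP (LK LD1_c18 LD2_c31 LD3_c47)) :=
  Lgr Lrot97 (Lpr_bt (f254626 IH) (Lpr_ct (f350753 IH) (Lpr_bt (K24.f300204 IH) (Lpr_ct (K25.f259793 IH) (Lpr_bt (f307262 IH) (Lpn (LP (LK LD1_c18 LD2_c31 LD3_c47))))))))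
theorem f379740 : Led Lsl_et (LP (LK LD1_c25 LD2_c57 LD3_c60)) = (LP (LK LD1_c32 LD2_c2 LD3_c38)) :=
  Lre_e IH (LK LD1_c25 LD2_c57 LD3_c60) (LK LD1_c32 LD2_c2 LD3_c38) Lrfl Lrfl
theorem f379741 : Led Lsl_et (LP (LK LD1_c28 LD2_c6 LD3_c21)) = (LP (LK LD1_c18 LD2_c31 LD3_c47)) :=
  Lre_e IH (LK LD1_c28 LD2_c6 LD3_c21) (LK LD1_c18 LD2_c31 LD3_c47) Lrfl Lrfl
theorem f379742 : Led Lsl_ct (LP (LK LD1_c32 LD2_c2 LD3_c38)) = (LP (LK LD1_c28 LD2_c6 LD3_c21)) :=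
  Lgr Lrot15 (Lpe (f379740 IH) (Lpr_cf (f379731 IH) (Lpe (f379741 IH) (Lpn (LP (LK LD1_c28 LD2_c6 LD3_c21))))))
theorem f694007 : Led Lsl_ft (LP (LK LD1_c31 LD2_c56 LD3_c13)) = (LP (LK LD1_c32 LD2_c2 LD3_c38)) :=
  Lgr Lrot4 (Lpe (f333016 IH) (Lpr_ff (f694005 IH) (Lpe (f379742 IH) (Lpn (LP (LK LD1_c32 LD2_c2 LD3_c38))))))
theorem f694011 : Led Lsl_ff (LP (LK LD1_c31 LD2_c56 LD3_c13)) = (LP (LK LD1_c32 LD2_c2 LD3_c38)) :=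
  Lgr Lrot3 (Lpr_ft (f694007 IH) (Lpn (LP (LK LD1_c32 LD2_c2 LD3_c38))))
theorem f694084 : Led Lsl_ft (LP (LK LD1_c18 LD2_c53 LD3_c40)) = (LP (LK LD1_c25 LD2_c57 LD3_c60)) :=
  Lgr Lrot86 (Lpe (f49868 IH) (Lpr_ff (f694080 IH) (Lpe (f333033 IH) (Lpr_ff (f694011 IH) (Lpe (f379740 IH) (Lpn (LP (LK LD1_c25 LD2_c57 LD3_c60))))))))
theorem f48946 : Led Lsl_bt (LP (LK LD1_c10 LD2_c24 LD3_c49)) = (LP (LK LD1_c18 LD2_c53 LD3_c40)) :=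
  Lre_b IH (LK LD1_c10 LD2_c24 LD3_c49) (LK LD1_c18 LD2_c53 LD3_c40) Lrfl Lrfl
theorem f694088 : Led Lsl_ff (LP (LK LD1_c10 LD2_c24 LD3_c49)) = (LP (LK LD1_c16 LD2_c0 LD3_c42)) :=
  Lgr Lrot25 (Lpr_bt (f48946 IH) (Lpr_ft (f694084 IH) (Lpr_bt (f254626 IH) (Lpn (LP (LK LD1_c16 LD2_c0 LD3_c42))))))
theorem f694098 : Led Lsl_at (LP (LK LD1_c10 LD2_c24 LD3_c49)) = (LP (LK LD1_c16 LD2_c0 LD3_c41)) :=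
  Lgr Lrot26 (Lpr_ff (f694088 IH) (Lpr_gt (K24.f254575 IH) (Lpr_gt (K26.f625 IH) (Lpn (LP (LK LD1_c16 LD2_c0 LD3_c41))))))
theorem f49870 : Led Lsl_et (LP (LK LD1_c10 LD2_c20 LD3_c13)) = (LP (LK LD1_c10 LD2_c24 LD3_c49)) :=
  Lgr Lrot87 (Lpr_ef (K26.f49864 IH) (Lpn (LP (LK LD1_c10 LD2_c24 LD3_c49))))
theorem f361575 : Led Lsl_ef (LP (LK LD1_c16 LD2_c0 LD3_c41)) = (LP (LK LD1_c15 LD2_c39 LD3_c9)) :=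
  Lgr Lrot28 (Lpr_ct (K26.f361568 IH) (Lpe (K23.f191713 IH) (Lpr_ct (K27.f361541 IH) (Lpn (LP (LK LD1_c15 LD2_c39 LD3_c9))))))
theorem f361578 : Led Lsl_et (LP (LK LD1_c16 LD2_c0 LD3_c41)) = (LP (LK LD1_c15 LD2_c39 LD3_c9)) :=
  Lgr Lrot87 (Lpr_ef (f361575 IH) (Lpn (LP (LK LD1_c15 LD2_c39 LD3_c9))))
theorem f694104 : Led Lsl_af (LP (LK LD1_c10 LD2_c20 LD3_c13)) = (LP (LK LD1_c15 LD2_c39 LD3_c9)) :=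
  Lgr Lrot50 (Lpr_et (f49870 IH) (Lpr_at (f694098 IH) (Lpr_et (f361578 IH) (Lpn (LP (LK LD1_c15 LD2_c39 LD3_c9))))))
theorem f694110 : Led Lsl_ft (LP (LK LD1_c10 LD2_c20 LD3_c14)) = (LP (LK LD1_c15 LD2_c39 LD3_c9)) :=
  Lgr Lrot2 (Lpr_gt (K21.f47702 IH) (Lpr_gt (K26.f48993 IH) (Lpr_af (f694104 IH) (Lpn (LP (LK LD1_c15 LD2_c39 LD3_c9))))))
theorem f694116 : Led Lsl_ff (LP (LK LD1_c10 LD2_c20 LD3_c14)) = (LP (LK LD1_c15 LD2_c39 LD3_c9)) :=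
  Lgr Lrot3 (Lpr_ft (f694110 IH) (Lpn (LP (LK LD1_c15 LD2_c39 LD3_c9))))
theorem f47713 : Led Lsl_ct (LP (LK LD1_c5 LD2_c15 LD3_c29)) = (LP (LK LD1_c10 LD2_c20 LD3_c15)) :=
  Lre_c IH (LK LD1_c5 LD2_c15 LD3_c29) (LK LD1_c10 LD2_c20 LD3_c15) Lrfl Lrfl
theorem f166605 : Led Lsl_ct (LP (LK LD1_c1 LD2_c11 LD3_c36)) = (LP (LK LD1_c2 LD2_c28 LD3_c53)) :=
  Lre_c IH (LK LD1_c1 LD2_c11 LD3_c36) (LK LD1_c2 LD2_c28 LD3_c53) Lrfl Lrfl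
theorem f362216 : Led Lsl_gt (LP (LK LD1_c10 LD2_c20 LD3_c15)) = (LP (LK LD1_c15 LD2_c39 LD3_c10)) :=
  Lgr Lrot149 (Lpe (f47713 IH) (Lpr_gf (K26.f362212 IH) (Lpe (K26.f185593 IH) (Lpr_ct (K26.f361231 IH) (Lpe (K26.f165620 IH) (Lpe (f166605 IH) (Lpr_bt (K15.f166601 IH) (Lpe (K21.f166656 IH) (Lpe (K24.f166664 IH) (Lpr_ct (K24.f333000 IH) (Lpn (LP (LK LD1_c15 LD2_c39 LD3_c10)))))))))))))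
theorem f694120 : Led Lsl_at (LP (LK LD1_c10 LD2_c20 LD3_c14)) = (LP (LK LD1_c15 LD2_c39 LD3_c10)) :=
  Lgr Lrot26 (Lpr_ff (f694116 IH) (Lpr_gt (K27.f369597 IH) (Lpr_gt (f362216 IH) (Lpn (LP (LK LD1_c15 LD2_c39 LD3_c10))))))
theorem f342583 : Led Lsl_et (LP (LK LD1_c18 LD2_c45 LD3_c52)) = (LP (LK LD1_c10 LD2_c20 LD3_c14)) :=
  Lre_e IH (LK LD1_c18 LD2_c45 LD3_c52) (LK LD1_c10 LD2_c20 LD3_c14) Lrfl Lrfl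
theorem f694124 : Led Lsl_af (LP (LK LD1_c18 LD2_c45 LD3_c52)) = (LP (LK LD1_c25 LD2_c34 LD3_c29)) :=
  Lgr Lrot50 (Lpr_et (f342583 IH) (Lpr_at (f694120 IH) (Lpr_et (f333011 IH) (Lpn (LP (LK LD1_c25 LD2_c34 LD3_c29))))))
theorem f350720 : Led Lsl_bt (LP (LK LD1_c32 LD2_c2 LD3_c38)) = (LP (LK LD1_c25 LD2_c57 LD3_c61)) :=
  Lre_b IH (LK LD1_c32 LD2_c2 LD3_c38) (LK LD1_c25 LD2_c57 LD3_c61) Lrfl Lrfl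
theorem f694009 : Led Lsl_ff (LP (LK LD1_c25 LD2_c34 LD3_c29)) = (LP (LK LD1_c25 LD2_c57 LD3_c61)) :=
  Lgr Lrot25 (Lpr_bt (f333020 IH) (Lpr_ft (f694007 IH) (Lpr_bt (f350720 IH) (Lpn (LP (LK LD1_c25 LD2_c57 LD3_c61))))))
theorem f694132 : Led Lsl_gf (LP (LK LD1_c18 LD2_c45 LD3_c52)) = (LP (LK LD1_c18 LD2_c49 LD3_c13)) :=
  Lgr Lrot76 (Lpr_af (f694124 IH) (Lpr_ff (f694009 IH) (Lpe (K24.f350738 IH) (Lpn (LP (LK LD1_c18 LD2_c49 LD3_c13))))))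
theorem f325907 : Led Lsl_et (LP (LK LD1_c10 LD2_c20 LD3_c14)) = (LP (LK LD1_c18 LD2_c45 LD3_c52)) :=
  Lre_e IH (LK LD1_c10 LD2_c20 LD3_c14) (LK LD1_c18 LD2_c45 LD3_c52) Lrfl Lrfl
theorem f325908 : Led Lsl_ct (LP (LK LD1_c18 LD2_c45 LD3_c52)) = (LP (LK LD1_c18 LD2_c26 LD3_c27)) :=
  Lgr Lrot15 (Lpe (f325907 IH) (Lpr_cf (K21.f325902 IH) (Lpe (K27.f33268 IH) (Lpn (LP (LK LD1_c18 LD2_c26 LD3_c27))))))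
theorem f331444 : Led Lsl_et (LP (LK LD1_c10 LD2_c24 LD3_c50)) = (LP (LK LD1_c18 LD2_c53 LD3_c42)) :=
  Lre_e IH (LK LD1_c10 LD2_c24 LD3_c50) (LK LD1_c18 LD2_c53 LD3_c42) Lrfl Lrfl
theorem f331445 : Led Lsl_cf (LP (LK LD1_c18 LD2_c4 LD3_c25)) = (LP (LK LD1_c18 LD2_c53 LD3_c42)) :=
  Lgr Lrot39 (Lpr_et (K27.f170514 IH) (Lpr_ct (K26.f331437 IH) (Lpr_et (f331444 IH) (Lpn (LP (LK LD1_c18 LD2_c53 LD3_c42))))))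
theorem f48713 : Led Lsl_ct (LP (LK LD1_c10 LD2_c26 LD3_c24)) = (LP (LK LD1_c18 LD2_c56 LD3_c7)) :=
  Lre_c IH (LK LD1_c10 LD2_c26 LD3_c24) (LK LD1_c18 LD2_c56 LD3_c7) Lrfl Lrfl
theorem f694134 : Led Lsl_gf (LP (LK LD1_c18 LD2_c53 LD3_c42)) = (LP (LK LD1_c18 LD2_c56 LD3_c7)) :=
  Lgr Lrot104 (Lpe (f331445 IH) (Lpe (K27.f219969 IH) (Lpe (f325908 IH) (Lpr_gf (f694132 IH) (Lpe (K24.f48925 IH) (Lpr_gf (K25.f232014 IH) (Lpe (K23.f660 IH) (Lpr_gt (K22.f197044 IH) (Lpr_ct (f48713 IH) (Lpn (LP (LK LD1_c18 LD2_c56 LD3_c7))))))))))))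
theorem f167579 : Led Lsl_et (LP (LK LD1_c10 LD2_c2 LD3_c38)) = (LP (LK LD1_c5 LD2_c5 LD3_c48)) :=
  Lre_e IH (LK LD1_c10 LD2_c2 LD3_c38) (LK LD1_c5 LD2_c5 LD3_c48) Lrfl Lrfl
theorem f349881 : Led Lsl_gt (LP (LK LD1_c10 LD2_c26 LD3_c24)) = (LP (LK LD1_c10 LD2_c15 LD3_c22)) :=
  Lgr Lrot112 (Lpe (K25.f48711 IH) (Lpr_et (K25.f335542 IH) (Lpe (K22.f285646 IH) (Lpr_ef (K22.f285643 IH) (Lpe (K22.f285641 IH) (Lpe (K22.f47700 IH) (Lpe (K22.f47691 IH) (Lpr_gf (K25.f349879 IH) (Lpe (f167579 IH) (Lpe (K25.f200303 IH) (Lpn (LP (LK LD1_c10 LD2_c15 LD3_c22)))))))))))))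
theorem f694138 : Led Lsl_dt (LP (LK LD1_c18 LD2_c53 LD3_c42)) = (LP (LK LD1_c28 LD2_c18 LD3_c33)) :=
  Lgr Lrot57 (Lpr_gf (f694134 IH) (Lpe (f48713 IH) (Lpr_gt (f349881 IH) (Lpr_dt (K25.f200311 IH) (Lpe (K25.f349887 IH) (Lpr_dt (K23.f32397 IH) (Lpe (K24.f48370 IH) (Lpe (f342521 IH) (Lpe (f342522 IH) (Lpn (LP (LK LD1_c28 LD2_c18 LD3_c33))))))))))))
theorem f53558 : Led Lsl_et (LP (LK LD1_c18 LD2_c53 LD3_c42)) = (LP (LK LD1_c10 LD2_c24 LD3_c50)) :=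
  Lre_e IH (LK LD1_c18 LD2_c53 LD3_c42) (LK LD1_c10 LD2_c24 LD3_c50) Lrfl Lrfl
theorem f48928 : Led Lsl_dt (LP (LK LD1_c10 LD2_c22 LD3_c7)) = (LP (LK LD1_c18 LD2_c49 LD3_c12)) :=
  Lre_d IH (LK LD1_c10 LD2_c22 LD3_c7) (LK LD1_c18 LD2_c49 LD3_c12) Lrfl Lrfl
theorem f694145 : Led Lsl_gt (LP (LK LD1_c18 LD2_c49 LD3_c12)) = (LP (LK LD1_c28 LD2_c18 LD3_c33)) :=
  Lgr Lrot139 (Lpe (f48928 IH) (Lpe (K26.f342558 IH) (Lpe (K13.f188320 IH) (Lpr_dt (K10.f188318 IH) (Lpe (K10.f53547 IH) (Lpe (K10.f48945 IH) (Lpr_et (K10.f48944 IH) (Lpe (K26.f49054 IH) (Lpe (f53558 IH) (Lpr_dt (f694138 IH) (Lpn (LP (LK LD1_c28 LD2_c18 LD3_c33)))))))))))))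
theorem f730028 : Led Lsl_ff (LP (LK LD1_c18 LD2_c56 LD3_c6)) = (LP (LK LD1_c18 LD2_c49 LD3_c12)) :=
  Lgr Lrot52 (Lpr_at (f730020 IH) (Lpe (f342522 IH) (Lpe (f694145 IH) (Lpn (LP (LK LD1_c18 LD2_c49 LD3_c12))))))
theorem f730039 : Led Lsl_ft (LP (LK LD1_c18 LD2_c56 LD3_c6)) = (LP (LK LD1_c18 LD2_c49 LD3_c12)) :=
  Lgr Lrot48 (Lpr_ff (f730028 IH) (Lpn (LP (LK LD1_c18 LD2_c49 LD3_c12))))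
theorem f48714 : Led Lsl_dt (LP (LK LD1_c18 LD2_c56 LD3_c6)) = (LP (LK LD1_c10 LD2_c26 LD3_c23)) :=
  Lre_d IH (LK LD1_c18 LD2_c56 LD3_c6) (LK LD1_c10 LD2_c26 LD3_c23) Lrfl Lrfl
theorem f32211 : Led Lsl_ct (LP (LK LD1_c10 LD2_c26 LD3_c23)) = (LP (LK LD1_c5 LD2_c18 LD3_c19)) :=
  Lre_c IH (LK LD1_c10 LD2_c26 LD3_c23) (LK LD1_c5 LD2_c18 LD3_c19) Lrfl Lrfl
theorem f212470 : Led Lsl_dt (LP (LK LD1_c10 LD2_c20 LD3_c49)) = (LP (LK LD1_c18 LD2_c46 LD3_c40)) :=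
  Lre_d IH (LK LD1_c10 LD2_c20 LD3_c49) (LK LD1_c18 LD2_c46 LD3_c40) Lrfl Lrfl
theorem f330625 : Led Lsl_gt (LP (LK LD1_c18 LD2_c46 LD3_c40)) = (LP (LK LD1_c28 LD2_c16 LD3_c13)) :=
  Lre_g IH (LK LD1_c18 LD2_c46 LD3_c40) (LK LD1_c28 LD2_c16 LD3_c13) Lrfl Lrfl
theorem f48712 : Led Lsl_ct (LP (LK LD1_c18 LD2_c56 LD3_c7)) = (LP (LK LD1_c10 LD2_c26 LD3_c24)) :=
  Lre_c IH (LK LD1_c18 LD2_c56 LD3_c7) (LK LD1_c10 LD2_c26 LD3_c24) Lrfl Lrfl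
theorem f401458 : Led Lsl_dt (LP (LK LD1_c28 LD2_c16 LD3_c13)) = (LP (LK LD1_c18 LD2_c56 LD3_c7)) :=
  Lgr Lrot105 (Lpe (f330625 IH) (Lpe (f212470 IH) (Lpr_gf (f330784 IH) (Lpe (K24.f32213 IH) (Lpe (K17.f48900 IH) (Lpe (K10.f32337 IH) (Lpr_gt (K17.f48709 IH) (Lpr_dt (K25.f48711 IH) (Lpe (f48712 IH) (Lpn (LP (LK LD1_c18 LD2_c56 LD3_c7))))))))))))
theorem f401465 : Led Lsl_df (LP (LK LD1_c28 LD2_c16 LD3_c13)) = (LP (LK LD1_c18 LD2_c56 LD3_c7)) :=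
  Lgr Lrot38 (Lpr_dt (f401458 IH) (Lpn (LP (LK LD1_c18 LD2_c56 LD3_c7))))
theorem f32197 : Led Lsl_dt (LP (LK LD1_c5 LD2_c18 LD3_c17)) = (LP (LK LD1_c10 LD2_c26 LD3_c18)) :=
  Lre_d IH (LK LD1_c5 LD2_c18 LD3_c17) (LK LD1_c10 LD2_c26 LD3_c18) Lrfl Lrfl
theorem f48706 : Led Lsl_gt (LP (LK LD1_c28 LD2_c24 LD3_c14)) = (LP (LK LD1_c18 LD2_c56 LD3_c0)) :=
  Lre_g IH (LK LD1_c28 LD2_c24 LD3_c14) (LK LD1_c18 LD2_c56 LD3_c0) Lrfl Lrfl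
theorem f395588 : Led Lsl_cf (LP (LK LD1_c28 LD2_c24 LD3_c14)) = (LP (LK LD1_c28 LD2_c16 LD3_c13)) :=
  Lgr Lrot169 (Lpr_gt (f48706 IH) (Lpr_ct (K17.f32201 IH) (Lpe (f32197 IH) (Lpe (K21.f32196 IH) (Lpe (K17.f32207 IH) (Lpe (f32211 IH) (Lpr_gf (f339929 IH) (Lpe (K14.f252387 IH) (Lpr_gt (f330625 IH) (Lpn (LP (LK LD1_c28 LD2_c16 LD3_c13))))))))))))
theorem f341794 : Led Lsl_gf (LP (LK LD1_c18 LD2_c56 LD3_c7)) = (LP (LK LD1_c25 LD2_c34 LD3_c29)) :=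
  Lgr Lrot104 (Lpr_ct (f48712 IH) (Lpe (K25.f48711 IH) (Lpe (f32211 IH) (Lpr_gf (f339929 IH) (Lpr_cf (K14.f252410 IH) (Lpe (K44.f309621 IH) (Lpe (K44.f239641 IH) (Lpr_gt (K24.f341792 IH) (Lpr_ct (f333018 IH) (Lpn (LP (LK LD1_c25 LD2_c34 LD3_c29))))))))))))
theorem f401467 : Led Lsl_gt (LP (LK LD1_c28 LD2_c16 LD3_c13)) = (LP (LK LD1_c25 LD2_c25 LD3_c40)) :=
  Lgr Lrot49 (Lpr_df (f401465 IH) (Lpr_gf (f341794 IH) (Lpe (f333018 IH) (Lpe (K27.f341893 IH) (Lpr_dt (K27.f53469 IH) (Lpr_gt (K27.f53468 IH) (Lpr_dt (K14.f50037 IH) (Lpe (K14.f49827 IH) (Lpe (K14.f50041 IH) (Lpn (LP (LK LD1_c25 LD2_c25 LD3_c40))))))))))))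
theorem f32356 : Led Lsl_ct (LP (LK LD1_c28 LD2_c15 LD3_c11)) = (LP (LK LD1_c18 LD2_c45 LD3_c22)) :=
  Lre_c IH (LK LD1_c28 LD2_c15 LD3_c11) (LK LD1_c18 LD2_c45 LD3_c22) Lrfl Lrfl
theorem f32198 : Led Lsl_ct (LP (LK LD1_c10 LD2_c26 LD3_c18)) = (LP (LK LD1_c18 LD2_c56 LD3_c0)) :=
  Lre_c IH (LK LD1_c10 LD2_c26 LD3_c18) (LK LD1_c18 LD2_c56 LD3_c0) Lrfl Lrfl
theorem f48695 : Led Lsl_df (LP (LK LD1_c28 LD2_c15 LD3_c11)) = (LP (LK LD1_c18 LD2_c56 LD3_c0)) :=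
  Lgr Lrot43 (Lpr_ct (f32356 IH) (Lpr_dt (K17.f32355 IH) (Lpr_ct (K17.f32354 IH) (Lpe (K10.f32337 IH) (Lpr_ct (K2.f32351 IH) (Lpr_dt (K17.f32352 IH) (Lpr_ct (K17.f32353 IH) (Lpr_dt (K17.f48692 IH) (Lpr_ct (K17.f32201 IH) (Lpr_dt (K17.f32200 IH) (Lpr_ct (K17.f32199 IH) (Lpe (K1.f32182 IH) (Lpr_ct (K21.f32196 IH) (Lpr_dt (f32197 IH) (Lpr_ct (f32198 IH) (Lpn (LP (LK LD1_c18 LD2_c56 LD3_c0))))))))))))))))))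
theorem f32366 : Led Lsl_dt (LP (LK LD1_c10 LD2_c22 LD3_c2)) = (LP (LK LD1_c5 LD2_c16 LD3_c14)) :=
  Lre_d IH (LK LD1_c10 LD2_c22 LD3_c2) (LK LD1_c5 LD2_c16 LD3_c14) Lrfl Lrfl
theorem f32367 : Led Lsl_ct (LP (LK LD1_c18 LD2_c49 LD3_c5)) = (LP (LK LD1_c10 LD2_c22 LD3_c2)) :=
  Lre_c IH (LK LD1_c18 LD2_c49 LD3_c5) (LK LD1_c10 LD2_c22 LD3_c2) Lrfl Lrfl
theorem f32368 : Led Lsl_dt (LP (LK LD1_c28 LD2_c18 LD3_c32)) = (LP (LK LD1_c18 LD2_c49 LD3_c5)) :=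
  Lre_d IH (LK LD1_c28 LD2_c18 LD3_c32) (LK LD1_c18 LD2_c49 LD3_c5) Lrfl Lrfl
theorem f32377 : Led Lsl_at (LP (LK LD1_c28 LD2_c15 LD3_c11)) = (LP (LK LD1_c18 LD2_c49 LD3_c5)) :=
  Lre_a IH (LK LD1_c28 LD2_c15 LD3_c11) (LK LD1_c18 LD2_c49 LD3_c5) Lrfl Lrfl
theorem f32378 : Led Lsl_ft (LP (LK LD1_c28 LD2_c18 LD3_c32)) = (LP (LK LD1_c28 LD2_c15 LD3_c11)) :=
  Lgr Lrot142 (Lpr_dt (f32368 IH) (Lpr_ct (f32367 IH) (Lpr_dt (f32366 IH) (Lpr_ct (K26.f32365 IH) (Lpr_dt (K10.f32349 IH) (Lpr_ct (K10.f32369 IH) (Lpr_dt (K10.f32370 IH) (Lpr_ct (K10.f32371 IH) (Lpe (f32377 IH) (Lpn (LP (LK LD1_c28 LD2_c15 LD3_c11))))))))))))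
theorem f32401 : Led Lsl_ff (LP (LK LD1_c28 LD2_c18 LD3_c32)) = (LP (LK LD1_c28 LD2_c15 LD3_c11)) :=
  Lgr Lrot3 (Lpr_ft (f32378 IH) (Lpn (LP (LK LD1_c28 LD2_c15 LD3_c11))))
theorem f48700 : Led Lsl_at (LP (LK LD1_c28 LD2_c18 LD3_c32)) = (LP (LK LD1_c18 LD2_c56 LD3_c0)) :=
  Lgr Lrot33 (Lpr_ff (f32401 IH) (Lpr_dt (K17.f48692 IH) (Lpr_ct (K17.f32201 IH) (Lpr_dt (K17.f32200 IH) (Lpr_ct (K17.f32199 IH) (Lpe (K1.f32182 IH) (Lpr_ct (K21.f32196 IH) (Lpr_dt (f32197 IH) (Lpr_ct (f32198 IH) (Lpn (LP (LK LD1_c18 LD2_c56 LD3_c0))))))))))))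
theorem f48725 : Led Lsl_gt (LP (LK LD1_c28 LD2_c15 LD3_c11)) = (LP (LK LD1_c28 LD2_c24 LD3_c14)) :=
  Lgr Lrot5 (Lpe (f32401 IH) (Lpr_at (f48700 IH) (Lpe (f48706 IH) (Lpn (LP (LK LD1_c28 LD2_c24 LD3_c14))))))
theorem f350714 : Led Lsl_ct (LP (LK LD1_c28 LD2_c24 LD3_c17)) = (LP (LK LD1_c18 LD2_c56 LD3_c2)) :=
  Lre_c IH (LK LD1_c28 LD2_c24 LD3_c17) (LK LD1_c18 LD2_c56 LD3_c2) Lrfl Lrfl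
theorem f401469 : Led Lsl_dt (LP (LK LD1_c28 LD2_c24 LD3_c14)) = (LP (LK LD1_c28 LD2_c24 LD3_c17)) :=
  Lgr Lrot105 (Lpe (f48725 IH) (Lpr_df (f48695 IH) (Lpe (f48706 IH) (Lpr_cf (f395588 IH) (Lpr_gt (f401467 IH) (Lpr_dt (K14.f50041 IH) (Lpe (K24.f350704 IH) (Lpr_dt (K24.f350711 IH) (Lpe (f350714 IH) (Lpn (LP (LK LD1_c28 LD2_c24 LD3_c17))))))))))))
theorem f730045 : Led Lsl_af (LP (LK LD1_c18 LD2_c56 LD3_c2)) = (LP (LK LD1_c18 LD2_c49 LD3_c12)) :=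
  Lgr Lrot109 (Lpe (f350714 IH) (Lpe (f401469 IH) (Lpr_cf (f395588 IH) (Lpr_df (f401465 IH) (Lpe (f48713 IH) (Lpe (K25.f48711 IH) (Lpe (f32211 IH) (Lpe (f48714 IH) (Lpr_ft (f730039 IH) (Lpn (LP (LK LD1_c18 LD2_c49 LD3_c12))))))))))))
theorem f730024 : Led Lsl_af (LP (LK LD1_c18 LD2_c56 LD3_c6)) = (LP (LK LD1_c18 LD2_c49 LD3_c7)) :=
  Lgr Lrot0 (Lpr_at (f730020 IH) (Lpn (LP (LK LD1_c18 LD2_c49 LD3_c7))))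
theorem f730053 : Led Lsl_ft (LP (LK LD1_c18 LD2_c56 LD3_c2)) = (LP (LK LD1_c18 LD2_c49 LD3_c7)) :=
  Lgr Lrot101 (Lpr_af (f730045 IH) (Lpe (f730039 IH) (Lpr_af (f730024 IH) (Lpn (LP (LK LD1_c18 LD2_c49 LD3_c7))))))
theorem f342531 : Led Lsl_ct (LP (LK LD1_c18 LD2_c49 LD3_c7)) = (LP (LK LD1_c28 LD2_c18 LD3_c34)) :=
  Lre_c IH (LK LD1_c18 LD2_c49 LD3_c7) (LK LD1_c28 LD2_c18 LD3_c34) Lrfl Lrfl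
theorem f730055 : Led Lsl_ff (LP (LK LD1_c28 LD2_c24 LD3_c17)) = (LP (LK LD1_c28 LD2_c18 LD3_c34)) :=
  Lgr Lrot23 (Lpr_ct (f350714 IH) (Lpr_ft (f730053 IH) (Lpr_ct (f342531 IH) (Lpn (LP (LK LD1_c28 LD2_c18 LD3_c34))))))
theorem f730061 : Led Lsl_ft (LP (LK LD1_c28 LD2_c24 LD3_c17)) = (LP (LK LD1_c28 LD2_c18 LD3_c34)) :=
  Lgr Lrot48 (Lpr_ff (f730055 IH) (Lpn (LP (LK LD1_c28 LD2_c18 LD3_c34))))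
theorem f32389 : Led Lsl_ct (LP (LK LD1_c10 LD2_c22 LD3_c7)) = (LP (LK LD1_c5 LD2_c16 LD3_c16)) :=
  Lre_c IH (LK LD1_c10 LD2_c22 LD3_c7) (LK LD1_c5 LD2_c16 LD3_c16) Lrfl Lrfl
theorem f32403 : Led Lsl_gt (LP (LK LD1_c28 LD2_c18 LD3_c30)) = (LP (LK LD1_c18 LD2_c49 LD3_c5)) :=
  Lre_g IH (LK LD1_c28 LD2_c18 LD3_c30) (LK LD1_c18 LD2_c49 LD3_c5) Lrfl Lrfl
theorem f342584 : Led Lsl_ct (LP (LK LD1_c28 LD2_c18 LD3_c40)) = (LP (LK LD1_c28 LD2_c18 LD3_c30)) :=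
  Lgr Lrot152 (Lpr_gf (K24.f342519 IH) (Lpe (K13.f188344 IH) (Lpr_gt (K26.f342558 IH) (Lpr_ct (f32389 IH) (Lpr_gt (K23.f32381 IH) (Lpr_ct (K10.f32369 IH) (Lpe (f32366 IH) (Lpe (f32367 IH) (Lpe (f32403 IH) (Lpn (LP (LK LD1_c28 LD2_c18 LD3_c30))))))))))))
theorem f48930 : Led Lsl_dt (LP (LK LD1_c18 LD2_c49 LD3_c12)) = (LP (LK LD1_c10 LD2_c22 LD3_c7)) :=
  Lre_d IH (LK LD1_c18 LD2_c49 LD3_c12) (LK LD1_c10 LD2_c22 LD3_c7) Lrfl Lrfl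
theorem f48929 : Led Lsl_ct (LP (LK LD1_c28 LD2_c18 LD3_c37)) = (LP (LK LD1_c18 LD2_c49 LD3_c12)) :=
  Lre_c IH (LK LD1_c28 LD2_c18 LD3_c37) (LK LD1_c18 LD2_c49 LD3_c12) Lrfl Lrfl
theorem f32385 : Led Lsl_ct (LP (LK LD1_c18 LD2_c49 LD3_c9)) = (LP (LK LD1_c10 LD2_c22 LD3_c4)) :=
  Lre_c IH (LK LD1_c18 LD2_c49 LD3_c9) (LK LD1_c10 LD2_c22 LD3_c4) Lrfl Lrfl
theorem f32386 : Led Lsl_dt (LP (LK LD1_c28 LD2_c18 LD3_c35)) = (LP (LK LD1_c18 LD2_c49 LD3_c9)) :=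
  Lre_d IH (LK LD1_c28 LD2_c18 LD3_c35) (LK LD1_c18 LD2_c49 LD3_c9) Lrfl Lrfl
theorem f342560 : Led Lsl_gt (LP (LK LD1_c25 LD2_c30 LD3_c58)) = (LP (LK LD1_c28 LD2_c18 LD3_c35)) :=
  Lgr Lrot49 (Lpe (K14.f252388 IH) (Lpr_gf (K26.f342556 IH) (Lpe (K26.f32382 IH) (Lpr_gt (K23.f32381 IH) (Lpr_dt (K10.f32349 IH) (Lpr_gt (K15.f32383 IH) (Lpr_dt (K25.f32384 IH) (Lpe (f32385 IH) (Lpe (f32386 IH) (Lpn (LP (LK LD1_c28 LD2_c18 LD3_c35))))))))))))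
theorem f342517 : Led Lsl_gf (LP (LK LD1_c10 LD2_c22 LD3_c3)) = (LP (LK LD1_c15 LD2_c36 LD3_c17)) :=
  Lgr Lrot47 (Lpr_gt (K24.f342515 IH) (Lpr_af (K14.f188486 IH) (Lpr_ff (K14.f252391 IH) (Lpn (LP (LK LD1_c15 LD2_c36 LD3_c17))))))
theorem f32187 : Led Lsl_dt (LP (LK LD1_c10 LD2_c23 LD3_c61)) = (LP (LK LD1_c18 LD2_c52 LD3_c14)) :=
  Lre_d IH (LK LD1_c10 LD2_c23 LD3_c61) (LK LD1_c18 LD2_c52 LD3_c14) Lrfl Lrfl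
theorem f48356 : Led Lsl_cf (LP (LK LD1_c28 LD2_c18 LD3_c32)) = (LP (LK LD1_c18 LD2_c52 LD3_c14)) :=
  Lgr Lrot11 (Lpr_ct (K10.f48350 IH) (Lpn (LP (LK LD1_c18 LD2_c52 LD3_c14))))
theorem f48353 : Led Lsl_af (LP (LK LD1_c28 LD2_c18 LD3_c32)) = (LP (LK LD1_c18 LD2_c56 LD3_c0)) :=
  Lgr Lrot68 (Lpr_ct (K10.f48350 IH) (Lpr_at (K17.f48352 IH) (Lpr_ct (f32198 IH) (Lpn (LP (LK LD1_c18 LD2_c56 LD3_c0))))))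
theorem f48366 : Led Lsl_ft (LP (LK LD1_c18 LD2_c49 LD3_c5)) = (LP (LK LD1_c18 LD2_c56 LD3_c0)) :=
  Lgr Lrot142 (Lpr_dt (K10.f32372 IH) (Lpr_ct (K10.f48350 IH) (Lpr_dt (K10.f32185 IH) (Lpr_ct (K2.f32184 IH) (Lpr_dt (K1.f32170 IH) (Lpr_ct (K10.f32186 IH) (Lpr_dt (f32187 IH) (Lpe (f48356 IH) (Lpr_af (f48353 IH) (Lpn (LP (LK LD1_c18 LD2_c56 LD3_c0))))))))))))
theorem f32406 : Led Lsl_gt (LP (LK LD1_c18 LD2_c49 LD3_c5)) = (LP (LK LD1_c28 LD2_c18 LD3_c29)) :=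
  Lre_g IH (LK LD1_c18 LD2_c49 LD3_c5) (LK LD1_c28 LD2_c18 LD3_c29) Lrfl Lrfl
theorem f48878 : Led Lsl_gt (LP (LK LD1_c28 LD2_c18 LD3_c29)) = (LP (LK LD1_c28 LD2_c18 LD3_c32)) :=
  Lgr Lrot46 (Lpe (f32406 IH) (Lpr_ft (f48366 IH) (Lpe (f48353 IH) (Lpn (LP (LK LD1_c28 LD2_c18 LD3_c32))))))
theorem f342565 : Led Lsl_cf (LP (LK LD1_c28 LD2_c18 LD3_c29)) = (LP (LK LD1_c28 LD2_c18 LD3_c35)) :=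
  Lgr Lrot169 (Lpr_gt (f48878 IH) (Lpr_ct (K10.f48350 IH) (Lpe (f32187 IH) (Lpe (K10.f32186 IH) (Lpe (K15.f48348 IH) (Lpe (K24.f48370 IH) (Lpr_gf (f342517 IH) (Lpe (K14.f252396 IH) (Lpr_gt (f342560 IH) (Lpn (LP (LK LD1_c28 LD2_c18 LD3_c35))))))))))))
theorem f342563 : Led Lsl_gf (LP (LK LD1_c18 LD2_c54 LD3_c21)) = (LP (LK LD1_c28 LD2_c18 LD3_c35)) :=
  Lgr Lrot76 (Lpr_af (K24.f188422 IH) (Lpr_ff (K24.f252402 IH) (Lpr_gt (f342560 IH) (Lpn (LP (LK LD1_c28 LD2_c18 LD3_c35))))))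
theorem f188430 : Led Lsl_dt (LP (LK LD1_c18 LD2_c54 LD3_c21)) = (LP (LK LD1_c10 LD2_c25 LD3_c14)) :=
  Lre_d IH (LK LD1_c18 LD2_c54 LD3_c21) (LK LD1_c10 LD2_c25 LD3_c14) Lrfl Lrfl
theorem f342569 : Led Lsl_dt (LP (LK LD1_c28 LD2_c18 LD3_c29)) = (LP (LK LD1_c28 LD2_c18 LD3_c37)) :=
  Lgr Lrot105 (Lpe (f32406 IH) (Lpe (f32368 IH) (Lpe (f48878 IH) (Lpr_cf (f342565 IH) (Lpe (f342563 IH) (Lpr_dt (f188430 IH) (Lpr_gt (K26.f342558 IH) (Lpr_dt (f48928 IH) (Lpe (f48929 IH) (Lpn (LP (LK LD1_c28 LD2_c18 LD3_c37))))))))))))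
theorem f282687 : Led Lsl_dt (LP (LK LD1_c18 LD2_c49 LD3_c9)) = (LP (LK LD1_c28 LD2_c18 LD3_c35)) :=
  Lre_d IH (LK LD1_c18 LD2_c49 LD3_c9) (LK LD1_c28 LD2_c18 LD3_c35) Lrfl Lrfl
theorem f32390 : Led Lsl_ct (LP (LK LD1_c10 LD2_c22 LD3_c4)) = (LP (LK LD1_c18 LD2_c49 LD3_c9)) :=
  Lre_c IH (LK LD1_c10 LD2_c22 LD3_c4) (LK LD1_c18 LD2_c49 LD3_c9) Lrfl Lrfl
theorem f342530 : Led Lsl_ct (LP (LK LD1_c28 LD2_c18 LD3_c34)) = (LP (LK LD1_c18 LD2_c49 LD3_c7)) :=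
  Lre_c IH (LK LD1_c28 LD2_c18 LD3_c34) (LK LD1_c18 LD2_c49 LD3_c7) Lrfl Lrfl
theorem f342595 : Led Lsl_df (LP (LK LD1_c28 LD2_c18 LD3_c34)) = (LP (LK LD1_c28 LD2_c18 LD3_c30)) :=
  Lgr Lrot43 (Lpr_ct (f342530 IH) (Lpr_dt (f342521 IH) (Lpr_ct (K24.f48370 IH) (Lpr_dt (K25.f32384 IH) (Lpr_ct (f32390 IH) (Lpr_dt (f282687 IH) (Lpe (f342565 IH) (Lpr_dt (f342569 IH) (Lpr_ct (f48929 IH) (Lpr_dt (f48930 IH) (Lpr_ct (f32389 IH) (Lpr_dt (K24.f48924 IH) (Lpr_ct (K24.f48925 IH) (Lpr_dt (K24.f232016 IH) (Lpr_ct (f342584 IH) (Lpn (LP (LK LD1_c28 LD2_c18 LD3_c30))))))))))))))))))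
theorem f342597 : Led Lsl_dt (LP (LK LD1_c28 LD2_c18 LD3_c34)) = (LP (LK LD1_c28 LD2_c18 LD3_c30)) :=
  Lgr Lrot42 (Lpr_df (f342595 IH) (Lpn (LP (LK LD1_c28 LD2_c18 LD3_c30))))
theorem f730065 : Led Lsl_ff (LP (LK LD1_c28 LD2_c24 LD3_c14)) = (LP (LK LD1_c28 LD2_c18 LD3_c30)) :=
  Lgr Lrot19 (Lpr_dt (f401469 IH) (Lpr_ft (f730061 IH) (Lpr_dt (f342597 IH) (Lpn (LP (LK LD1_c28 LD2_c18 LD3_c30))))))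
theorem f730069 : Led Lsl_at (LP (LK LD1_c28 LD2_c24 LD3_c14)) = (LP (LK LD1_c28 LD2_c18 LD3_c29)) :=
  Lgr Lrot26 (Lpr_ff (f730065 IH) (Lpr_gt (f32403 IH) (Lpr_gt (f32406 IH) (Lpn (LP (LK LD1_c28 LD2_c18 LD3_c29))))))
theorem f342567 : Led Lsl_ct (LP (LK LD1_c28 LD2_c18 LD3_c29)) = (LP (LK LD1_c28 LD2_c18 LD3_c35)) :=
  Lgr Lrot59 (Lpr_cf (f342565 IH) (Lpn (LP (LK LD1_c28 LD2_c18 LD3_c35))))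
theorem f730073 : Led Lsl_af (LP (LK LD1_c28 LD2_c16 LD3_c13)) = (LP (LK LD1_c28 LD2_c18 LD3_c35)) :=
  Lgr Lrot68 (Lpe (f395588 IH) (Lpr_at (f730069 IH) (Lpr_ct (f342567 IH) (Lpn (LP (LK LD1_c28 LD2_c18 LD3_c35))))))
theorem f730077 : Led Lsl_at (LP (LK LD1_c18 LD2_c56 LD3_c7)) = (LP (LK LD1_c18 LD2_c49 LD3_c9)) :=
  Lgr Lrot51 (Lpe (f401458 IH) (Lpr_af (f730073 IH) (Lpe (f282687 IH) (Lpn (LP (LK LD1_c18 LD2_c49 LD3_c9))))))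
theorem f190910 : Led Lsl_dt (LP (LK LD1_c10 LD2_c7 LD3_c25)) = (LP (LK LD1_c15 LD2_c51 LD3_c19)) :=
  Lgr Lrot42 (Lpr_df (K26.f190908 IH) (Lpn (LP (LK LD1_c15 LD2_c51 LD3_c19))))
theorem f309541 : Led Lsl_gt (LP (LK LD1_c18 LD2_c26 LD3_c27)) = (LP (LK LD1_c18 LD2_c30 LD3_c20)) :=
  Lgr Lrot137 (Lpe (K27.f190912 IH) (Lpr_dt (f190910 IH) (Lpe (K22.f188659 IH) (Lpe (K12.f188727 IH) (Lpr_et (K12.f49839 IH) (Lpe (K10.f49558 IH) (Lpe (K9.f44983 IH) (Lpe (K9.f50073 IH) (Lpr_gf (K19.f309534 IH) (Lpe (K19.f306459 IH) (Lpn (LP (LK LD1_c18 LD2_c30 LD3_c20)))))))))))))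
theorem f342575 : Led Lsl_gt (LP (LK LD1_c18 LD2_c45 LD3_c52)) = (LP (LK LD1_c18 LD2_c49 LD3_c9)) :=
  Lgr Lrot180 (Lpr_ct (f325908 IH) (Lpr_gt (f309541 IH) (Lpr_dt (K19.f306459 IH) (Lpe (K19.f309534 IH) (Lpe (K9.f50073 IH) (Lpe (K24.f214547 IH) (Lpe (f188430 IH) (Lpr_gf (f342563 IH) (Lpe (f282687 IH) (Lpn (LP (LK LD1_c18 LD2_c49 LD3_c9))))))))))))
theorem f730085 : Led Lsl_ff (LP (LK LD1_c18 LD2_c56 LD3_c7)) = (LP (LK LD1_c18 LD2_c49 LD3_c13)) :=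
  Lgr Lrot52 (Lpr_at (f730077 IH) (Lpe (f342575 IH) (Lpr_gf (f694132 IH) (Lpn (LP (LK LD1_c18 LD2_c49 LD3_c13))))))
theorem f730091 : Led Lsl_ft (LP (LK LD1_c18 LD2_c56 LD3_c7)) = (LP (LK LD1_c18 LD2_c49 LD3_c13)) :=
  Lgr Lrot48 (Lpr_ff (f730085 IH) (Lpn (LP (LK LD1_c18 LD2_c49 LD3_c13))))
theorem f341796 : Led Lsl_bt (LP (LK LD1_c28 LD2_c24 LD3_c21)) = (LP (LK LD1_c18 LD2_c56 LD3_c7)) :=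
  Lre_b IH (LK LD1_c28 LD2_c24 LD3_c21) (LK LD1_c18 LD2_c56 LD3_c7) Lrfl Lrfl
theorem f48931 : Led Lsl_bt (LP (LK LD1_c18 LD2_c49 LD3_c13)) = (LP (LK LD1_c28 LD2_c18 LD3_c39)) :=
  Lre_b IH (LK LD1_c18 LD2_c49 LD3_c13) (LK LD1_c28 LD2_c18 LD3_c39) Lrfl Lrfl
theorem f730093 : Led Lsl_ff (LP (LK LD1_c28 LD2_c24 LD3_c21)) = (LP (LK LD1_c28 LD2_c18 LD3_c39)) :=
  Lgr Lrot25 (Lpr_bt (f341796 IH) (Lpr_ft (f730091 IH) (Lpr_bt (f48931 IH) (Lpn (LP (LK LD1_c28 LD2_c18 LD3_c39))))))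
theorem f370470 : Led Lsl_cf (LP (LK LD1_c18 LD2_c56 LD3_c4)) = (LP (LK LD1_c27 LD2_c49 LD3_c18)) :=
  Lgr Lrot11 (Lpr_ct (f370463 IH) (Lpn (LP (LK LD1_c27 LD2_c49 LD3_c18))))
theorem f48717 : Led Lsl_bt (LP (LK LD1_c18 LD2_c56 LD3_c7)) = (LP (LK LD1_c28 LD2_c24 LD3_c21)) :=
  Lre_b IH (LK LD1_c18 LD2_c56 LD3_c7) (LK LD1_c28 LD2_c24 LD3_c21) Lrfl Lrfl
theorem f370478 : Led Lsl_bt (LP (LK LD1_c32 LD2_c28 LD3_c42)) = (LP (LK LD1_c27 LD2_c49 LD3_c18)) :=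
  Lre_b IH (LK LD1_c32 LD2_c28 LD3_c42) (LK LD1_c27 LD2_c49 LD3_c18) Lrfl Lrfl
theorem f370502 : Led Lsl_ct (LP (LK LD1_c28 LD2_c24 LD3_c21)) = (LP (LK LD1_c32 LD2_c28 LD3_c42)) :=
  Lgr Lrot83 (Lpe (f48717 IH) (Lpe (f48713 IH) (Lpe (K23.f197046 IH) (Lpr_cf (f370470 IH) (Lpe (f370478 IH) (Lpn (LP (LK LD1_c32 LD2_c28 LD3_c42))))))))
theorem f48927 : Led Lsl_ct (LP (LK LD1_c18 LD2_c49 LD3_c13)) = (LP (LK LD1_c10 LD2_c22 LD3_c8)) :=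
  Lre_c IH (LK LD1_c18 LD2_c49 LD3_c13) (LK LD1_c10 LD2_c22 LD3_c8) Lrfl Lrfl
theorem f350741 : Led Lsl_bt (LP (LK LD1_c28 LD2_c18 LD3_c39)) = (LP (LK LD1_c18 LD2_c49 LD3_c13)) :=
  Lre_b IH (LK LD1_c28 LD2_c18 LD3_c39) (LK LD1_c18 LD2_c49 LD3_c13) Lrfl Lrfl
theorem f342663 : Led Lsl_bt (LP (LK LD1_c28 LD2_c5 LD3_c2)) = (LP (LK LD1_c32 LD2_c31 LD3_c42)) :=
  Lre_b IH (LK LD1_c28 LD2_c5 LD3_c2) (LK LD1_c32 LD2_c31 LD3_c42) Lrfl Lrfl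
theorem f395162 : Led Lsl_cf (LP (LK LD1_c28 LD2_c18 LD3_c39)) = (LP (LK LD1_c32 LD2_c31 LD3_c42)) :=
  Lgr Lrot97 (Lpr_bt (f350741 IH) (Lpr_ct (f48927 IH) (Lpr_bt (K23.f259331 IH) (Lpr_ct (K25.f342659 IH) (Lpr_bt (f342663 IH) (Lpn (LP (LK LD1_c32 LD2_c31 LD3_c42))))))))
theorem f730097 : Led Lsl_ft (LP (LK LD1_c32 LD2_c28 LD3_c42)) = (LP (LK LD1_c32 LD2_c31 LD3_c42)) :=
  Lgr Lrot4 (Lpe (f370502 IH) (Lpr_ff (f730093 IH) (Lpr_cf (f395162 IH) (Lpn (LP (LK LD1_c32 LD2_c31 LD3_c42))))))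
theorem f730103 : Led Lsl_ff (LP (LK LD1_c32 LD2_c28 LD3_c42)) = (LP (LK LD1_c32 LD2_c31 LD3_c42)) :=
  Lgr Lrot3 (Lpr_ft (f730097 IH) (Lpn (LP (LK LD1_c32 LD2_c31 LD3_c42))))
theorem f362948 : Led Lsl_ct (LP (LK LD1_c18 LD2_c31 LD3_c39)) = (LP (LK LD1_c25 LD2_c33 LD3_c60)) :=
  Lgr Lrot15 (Lpe (K26.f330714 IH) (Lpr_cf (K26.f362943 IH) (Lpe (K26.f232096 IH) (Lpn (LP (LK LD1_c25 LD2_c33 LD3_c60))))))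
theorem f330717 : Led Lsl_gf (LP (LK LD1_c18 LD2_c31 LD3_c39)) = (LP (LK LD1_c27 LD2_c33 LD3_c39)) :=
  Lgr Lrot144 (Lpr_dt (K26.f330709 IH) (Lpr_gt (K26.f165395 IH) (Lpr_dt (f165394 IH) (Lpe (K22.f165396 IH) (Lpe (K23.f185940 IH) (Lpe (K23.f330647 IH) (Lpr_df (K21.f307259 IH) (Lpe (K21.f307307 IH) (Lpe (K22.f43372 IH) (Lpn (LP (LK LD1_c27 LD2_c33 LD3_c39))))))))))))
theorem f190671 : Led Lsl_ct (LP (LK LD1_c18 LD2_c14 LD3_c32)) = (LP (LK LD1_c27 LD2_c54 LD3_c46)) :=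
  Lre_c IH (LK LD1_c18 LD2_c14 LD3_c32) (LK LD1_c27 LD2_c54 LD3_c46) Lrfl Lrfl
theorem f362706 : Led Lsl_gt (LP (LK LD1_c18 LD2_c38 LD3_c35)) = (LP (LK LD1_c27 LD2_c32 LD3_c16)) :=
  Lgr Lrot150 (Lpe (K54.f306997 IH) (Lpr_gf (K46.f312501 IH) (Lpe (K21.f307272 IH) (Lpr_gt (K23.f330647 IH) (Lpr_ct (K49.f171753 IH) (Lpr_gt (K54.f171754 IH) (Lpr_ct (K54.f362696 IH) (Lpe (K54.f362679 IH) (Lpe (K54.f362602 IH) (Lpn (LP (LK LD1_c27 LD2_c32 LD3_c16))))))))))))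
theorem f215009 : Led Lsl_ct (LP (LK LD1_c32 LD2_c26 LD3_c54)) = (LP (LK LD1_c27 LD2_c35 LD3_c16)) :=
  Lre_c IH (LK LD1_c32 LD2_c26 LD3_c54) (LK LD1_c27 LD2_c35 LD3_c16) Lrfl Lrfl
theorem f362708 : Led Lsl_gt (LP (LK LD1_c27 LD2_c53 LD3_c41)) = (LP (LK LD1_c32 LD2_c26 LD3_c54)) :=
  Lgr Lrot150 (Lpe (K19.f233476 IH) (Lpe (K26.f233482 IH) (Lpr_df (K26.f335256 IH) (Lpr_gt (f362706 IH) (Lpr_ct (K54.f362602 IH) (Lpr_gt (K54.f362651 IH) (Lpe (f339919 IH) (Lpr_df (K23.f330652 IH) (Lpe (f215009 IH) (Lpn (LP (LK LD1_c32 LD2_c26 LD3_c54))))))))))))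
theorem f214414 : Led Lsl_ct (LP (LK LD1_c32 LD2_c26 LD3_c57)) = (LP (LK LD1_c27 LD2_c35 LD3_c17)) :=
  Lre_c IH (LK LD1_c32 LD2_c26 LD3_c57) (LK LD1_c27 LD2_c35 LD3_c17) Lrfl Lrfl
theorem f362739 : Led Lsl_gt (LP (LK LD1_c27 LD2_c54 LD3_c46)) = (LP (LK LD1_c32 LD2_c26 LD3_c57)) :=
  Lgr Lrot9 (Lpr_df (K19.f233477 IH) (Lpr_gt (f362708 IH) (Lpr_ct (f215009 IH) (Lpe (K23.f215007 IH) (Lpr_ct (K13.f214122 IH) (Lpr_df (f214375 IH) (Lpe (K13.f43308 IH) (Lpe (f43312 IH) (Lpe (f214414 IH) (Lpn (LP (LK LD1_c32 LD2_c26 LD3_c57))))))))))))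
theorem f370476 : Led Lsl_df (LP (LK LD1_c27 LD2_c35 LD3_c17)) = (LP (LK LD1_c27 LD2_c49 LD3_c18)) :=
  Lgr Lrot162 (Lpe (f214414 IH) (Lpe (f362739 IH) (Lpe (f190671 IH) (Lpe (K27.f233612 IH) (Lpr_dt (K22.f335181 IH) (Lpe (f330717 IH) (Lpr_ct (f362948 IH) (Lpe (f363150 IH) (Lpr_ct (f370463 IH) (Lpn (LP (LK LD1_c27 LD2_c49 LD3_c18))))))))))))
theorem f362741 : Led Lsl_bt (LP (LK LD1_c27 LD2_c35 LD3_c17)) = (LP (LK LD1_c32 LD2_c26 LD3_c56)) :=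
  Lre_b IH (LK LD1_c27 LD2_c35 LD3_c17) (LK LD1_c32 LD2_c26 LD3_c56) Lrfl Lrfl
theorem f370479 : Led Lsl_dt (LP (LK LD1_c32 LD2_c26 LD3_c56)) = (LP (LK LD1_c32 LD2_c28 LD3_c42)) :=
  Lgr Lrot79 (Lpe (f362741 IH) (Lpr_df (f370476 IH) (Lpe (f370478 IH) (Lpn (LP (LK LD1_c32 LD2_c28 LD3_c42))))))
theorem f370484 : Led Lsl_df (LP (LK LD1_c32 LD2_c26 LD3_c56)) = (LP (LK LD1_c32 LD2_c28 LD3_c42)) :=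
  Lgr Lrot38 (Lpr_dt (f370479 IH) (Lpn (LP (LK LD1_c32 LD2_c28 LD3_c42))))
theorem f342667 : Led Lsl_bt (LP (LK LD1_c27 LD2_c33 LD3_c33)) = (LP (LK LD1_c32 LD2_c26 LD3_c21)) :=
  Lre_b IH (LK LD1_c27 LD2_c33 LD3_c33) (LK LD1_c32 LD2_c26 LD3_c21) Lrfl Lrfl
theorem f342656 : Led Lsl_bt (LP (LK LD1_c32 LD2_c31 LD3_c42)) = (LP (LK LD1_c28 LD2_c5 LD3_c2)) :=
  Lre_b IH (LK LD1_c32 LD2_c31 LD3_c42) (LK LD1_c28 LD2_c5 LD3_c2) Lrfl Lrfl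
theorem f342668 : Led Lsl_dt (LP (LK LD1_c32 LD2_c26 LD3_c21)) = (LP (LK LD1_c32 LD2_c31 LD3_c42)) :=
  Lgr Lrot79 (Lpe (f342667 IH) (Lpr_df (K23.f342664 IH) (Lpe (f342656 IH) (Lpn (LP (LK LD1_c32 LD2_c31 LD3_c42))))))
theorem f730107 : Led Lsl_ft (LP (LK LD1_c32 LD2_c26 LD3_c56)) = (LP (LK LD1_c32 LD2_c26 LD3_c21)) :=
  Lgr Lrot54 (Lpr_df (f370484 IH) (Lpr_ff (f730103 IH) (Lpe (f342668 IH) (Lpn (LP (LK LD1_c32 LD2_c26 LD3_c21))))))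
theorem f214998 : Led Lsl_bt (LP (LK LD1_c32 LD2_c26 LD3_c21)) = (LP (LK LD1_c27 LD2_c33 LD3_c33)) :=
  Lre_b IH (LK LD1_c32 LD2_c26 LD3_c21) (LK LD1_c27 LD2_c33 LD3_c33) Lrfl Lrfl
theorem f730109 : Led Lsl_ff (LP (LK LD1_c27 LD2_c35 LD3_c17)) = (LP (LK LD1_c27 LD2_c33 LD3_c33)) :=
  Lgr Lrot25 (Lpr_bt (f362741 IH) (Lpr_ft (f730107 IH) (Lpr_bt (f214998 IH) (Lpn (LP (LK LD1_c27 LD2_c33 LD3_c33))))))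
theorem f730115 : Led Lsl_at (LP (LK LD1_c27 LD2_c35 LD3_c17)) = (LP (LK LD1_c27 LD2_c33 LD3_c34)) :=
  Lgr Lrot26 (Lpr_ff (f730109 IH) (Lpe (K23.f214994 IH) (Lpr_gt (K25.f214392 IH) (Lpn (LP (LK LD1_c27 LD2_c33 LD3_c34))))))
theorem f730121 : Led Lsl_af (LP (LK LD1_c27 LD2_c49 LD3_c18)) = (LP (LK LD1_c28 LD2_c6 LD3_c23)) :=
  Lgr Lrot117 (Lpe (f370476 IH) (Lpr_at (f730115 IH) (Lpr_dt (K25.f312455 IH) (Lpn (LP (LK LD1_c28 LD2_c6 LD3_c23))))))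
theorem f370482 : Led Lsl_gt (LP (LK LD1_c26 LD2_c4 LD3_c28)) = (LP (LK LD1_c27 LD2_c49 LD3_c18)) :=
  Lgr Lrot94 (Lpe (f304617 IH) (Lpe (K25.f307234 IH) (Lpr_dt (K14.f43311 IH) (Lpr_gt (K14.f43309 IH) (Lpr_dt (K13.f43298 IH) (Lpe (K13.f43303 IH) (Lpe (K13.f43304 IH) (Lpe (f43312 IH) (Lpr_df (f370476 IH) (Lpn (LP (LK LD1_c27 LD2_c49 LD3_c18))))))))))))
theorem f730129 : Led Lsl_ft (LP (LK LD1_c27 LD2_c50 LD3_c26)) = (LP (LK LD1_c28 LD2_c6 LD3_c23)) :=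
  Lgr Lrot2 (Lpr_gt (f363131 IH) (Lpr_gt (f370482 IH) (Lpr_af (f730121 IH) (Lpn (LP (LK LD1_c28 LD2_c6 LD3_c23))))))
theorem f730137 : Led Lsl_ff (LP (LK LD1_c27 LD2_c50 LD3_c26)) = (LP (LK LD1_c28 LD2_c6 LD3_c23)) :=
  Lgr Lrot3 (Lpr_ft (f730129 IH) (Lpn (LP (LK LD1_c28 LD2_c6 LD3_c23))))
theorem f730141 : Led Lsl_ft (LP (LK LD1_c18 LD2_c58 LD3_c30)) = (LP (LK LD1_c18 LD2_c58 LD3_c18)) :=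
  Lgr Lrot4 (Lpe (K23.f339917 IH) (Lpr_ff (f730137 IH) (Lpe (K25.f355945 IH) (Lpn (LP (LK LD1_c18 LD2_c58 LD3_c18))))))
theorem f730161 : Led Lsl_af (LP (LK LD1_c18 LD2_c56 LD3_c4)) = (LP (LK LD1_c18 LD2_c58 LD3_c18)) :=
  Lgr Lrot31 (Lpr_gf (f363150 IH) (Lpe (K26.f362965 IH) (Lpr_ft (f730141 IH) (Lpn (LP (LK LD1_c18 LD2_c58 LD3_c18))))))
theorem f730165 : Led Lsl_at (LP (LK LD1_c18 LD2_c38 LD3_c37)) = (LP (LK LD1_c18 LD2_c58 LD3_c7)) :=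
  Lgr Lrot80 (Lpe (K23.f339931 IH) (Lpr_af (f730161 IH) (Lpe (K25.f356244 IH) (Lpn (LP (LK LD1_c18 LD2_c58 LD3_c7))))))
theorem f169509 : Led Lsl_bt (LP (LK LD1_c2 LD2_c30 LD3_c1)) = (LP (LK LD1_c5 LD2_c5 LD3_c31)) :=
  Lre_b IH (LK LD1_c2 LD2_c30 LD3_c1) (LK LD1_c5 LD2_c5 LD3_c31) Lrfl Lrfl
theorem f169533 : Led Lsl_bt (LP (LK LD1_c18 LD2_c20 LD3_c24)) = (LP (LK LD1_c10 LD2_c2 LD3_c10)) :=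
  Lre_b IH (LK LD1_c18 LD2_c20 LD3_c24) (LK LD1_c10 LD2_c2 LD3_c10) Lrfl Lrfl
theorem f250136 : Led Lsl_ct (LP (LK LD1_c9 LD2_c54 LD3_c56)) = (LP (LK LD1_c18 LD2_c8 LD3_c60)) :=
  Lre_c IH (LK LD1_c9 LD2_c54 LD3_c56) (LK LD1_c18 LD2_c8 LD3_c60) Lrfl Lrfl
theorem f248034 : Led Lsl_gt (LP (LK LD1_c18 LD2_c32 LD3_c53)) = (LP (LK LD1_c10 LD2_c10 LD3_c56)) :=
  Lre_g IH (LK LD1_c18 LD2_c32 LD3_c53) (LK LD1_c10 LD2_c10 LD3_c56) Lrfl Lrfl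
theorem f364398 : Led Lsl_gf (LP (LK LD1_c18 LD2_c32 LD3_c53)) = (LP (LK LD1_c18 LD2_c8 LD3_c60)) :=
  Lgr Lrot47 (Lpr_gt (f248034 IH) (Lpr_af (K26.f364387 IH) (Lpe (K26.f364395 IH) (Lpn (LP (LK LD1_c18 LD2_c8 LD3_c60))))))
theorem f367215 : Led Lsl_ct (LP (LK LD1_c18 LD2_c20 LD3_c24)) = (LP (LK LD1_c18 LD2_c32 LD3_c53)) :=
  Lgr Lrot63 (Lpr_bt (f169533 IH) (Lpr_gt (K23.f169525 IH) (Lpe (f169509 IH) (Lpr_ct (K15.f169549 IH) (Lpr_gt (K22.f179058 IH) (Lpr_cf (K22.f335457 IH) (Lpr_bt (K19.f250344 IH) (Lpr_gt (K27.f367211 IH) (Lpr_ct (f250136 IH) (Lpe (f364398 IH) (Lpn (LP (LK LD1_c18 LD2_c32 LD3_c53)))))))))))))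
theorem f377225 : Led Lsl_gt (LP (LK LD1_c18 LD2_c20 LD3_c24)) = (LP (LK LD1_c10 LD2_c27 LD3_c50)) :=
  Lgr Lrot180 (Lpr_ct (f367215 IH) (Lpr_gt (f248034 IH) (Lpr_dt (K20.f247981 IH) (Lpr_gt (K26.f247984 IH) (Lpe (K26.f362396 IH) (Lpr_ct (K14.f190477 IH) (Lpe (K22.f331320 IH) (Lpe (K21.f192219 IH) (Lpr_df (K15.f192233 IH) (Lpn (LP (LK LD1_c10 LD2_c27 LD3_c50))))))))))))
theorem f730173 : Led Lsl_ff (LP (LK LD1_c18 LD2_c38 LD3_c37)) = (LP (LK LD1_c18 LD2_c20 LD3_c24)) :=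
  Lgr Lrot52 (Lpr_at (f730165 IH) (Lpe (K22.f192242 IH) (Lpe (f377225 IH) (Lpn (LP (LK LD1_c18 LD2_c20 LD3_c24))))))
theorem f730181 : Led Lsl_ft (LP (LK LD1_c18 LD2_c38 LD3_c37)) = (LP (LK LD1_c18 LD2_c20 LD3_c24)) :=
  Lgr Lrot48 (Lpr_ff (f730173 IH) (Lpn (LP (LK LD1_c18 LD2_c20 LD3_c24))))
theorem f730189 : Led Lsl_af (LP (LK LD1_c18 LD2_c38 LD3_c38)) = (LP (LK LD1_c18 LD2_c20 LD3_c24)) :=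
  Lgr Lrot31 (Lpe (K22.f335849 IH) (Lpr_gf (K25.f335865 IH) (Lpr_ft (f730181 IH) (Lpn (LP (LK LD1_c18 LD2_c20 LD3_c24))))))
theorem f730167 : Led Lsl_af (LP (LK LD1_c18 LD2_c38 LD3_c37)) = (LP (LK LD1_c18 LD2_c58 LD3_c7)) :=
  Lgr Lrot0 (Lpr_at (f730165 IH) (Lpn (LP (LK LD1_c18 LD2_c58 LD3_c7))))
theorem f730199 : Led Lsl_ft (LP (LK LD1_c18 LD2_c38 LD3_c38)) = (LP (LK LD1_c18 LD2_c58 LD3_c7)) :=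
  Lgr Lrot101 (Lpr_af (f730189 IH) (Lpe (f730181 IH) (Lpr_af (f730167 IH) (Lpn (LP (LK LD1_c18 LD2_c58 LD3_c7))))))
theorem f730209 : Led Lsl_ff (LP (LK LD1_c18 LD2_c38 LD3_c38)) = (LP (LK LD1_c18 LD2_c58 LD3_c7)) :=
  Lgr Lrot3 (Lpr_ft (f730199 IH) (Lpn (LP (LK LD1_c18 LD2_c58 LD3_c7))))
theorem f378212 : Led Lsl_gt (LP (LK LD1_c19 LD2_c42 LD3_c20)) = (LP (LK LD1_c19 LD2_c11 LD3_c10)) :=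
  Lgr Lrot137 (Lpe (K26.f356871 IH) (Lpr_dt (K30.f363191 IH) (Lpe (K26.f222028 IH) (Lpe (K18.f274501 IH) (Lpr_et (K16.f274503 IH) (Lpr_gf (K16.f263510 IH) (Lpe (K20.f240267 IH) (Lpe (K20.f240273 IH) (Lpe (K22.f240277 IH) (Lpe (K25.f263513 IH) (Lpn (LP (LK LD1_c19 LD2_c11 LD3_c10)))))))))))))
theorem f355577 : Led Lsl_dt (LP (LK LD1_c15 LD2_c14 LD3_c8)) = (LP (LK LD1_c19 LD2_c42 LD3_c20)) :=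
  Lgr Lrot42 (Lpr_df (K25.f355574 IH) (Lpn (LP (LK LD1_c19 LD2_c42 LD3_c20))))
theorem f169877 : Led Lsl_gt (LP (LK LD1_c18 LD2_c19 LD3_c28)) = (LP (LK LD1_c10 LD2_c1 LD3_c38)) :=
  Lre_g IH (LK LD1_c18 LD2_c19 LD3_c28) (LK LD1_c10 LD2_c1 LD3_c38) Lrfl Lrfl
theorem f378218 : Led Lsl_ef (LP (LK LD1_c18 LD2_c19 LD3_c28)) = (LP (LK LD1_c18 LD2_c38 LD3_c38)) :=
  Lgr Lrot114 (Lpr_gt (f169877 IH) (Lpe (K14.f169946 IH) (Lpr_dt (K14.f230857 IH) (Lpr_gt (K17.f230863 IH) (Lpr_df (K20.f288553 IH) (Lpr_et (K14.f214826 IH) (Lpr_gt (K25.f351310 IH) (Lpr_dt (f355577 IH) (Lpr_gt (f378212 IH) (Lpr_df (K25.f263515 IH) (Lpn (LP (LK LD1_c18 LD2_c38 LD3_c38)))))))))))))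
theorem f730217 : Led Lsl_ft (LP (LK LD1_c18 LD2_c19 LD3_c28)) = (LP (LK LD1_c18 LD2_c39 LD3_c51)) :=
  Lgr Lrot86 (Lpr_ef (f378218 IH) (Lpr_ff (f730209 IH) (Lpe (K25.f355956 IH) (Lpe (f730141 IH) (Lpr_ef (K23.f306503 IH) (Lpn (LP (LK LD1_c18 LD2_c39 LD3_c51))))))))
theorem f730225 : Led Lsl_af (LP (LK LD1_c18 LD2_c19 LD3_c27)) = (LP (LK LD1_c18 LD2_c39 LD3_c51)) :=
  Lgr Lrot31 (Lpe (K23.f169873 IH) (Lpe (f169877 IH) (Lpr_ft (f730217 IH) (Lpn (LP (LK LD1_c18 LD2_c39 LD3_c51))))))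
theorem f730233 : Led Lsl_at (LP (LK LD1_c18 LD2_c49 LD3_c10)) = (LP (LK LD1_c18 LD2_c58 LD3_c30)) :=
  Lgr Lrot80 (Lpe (K54.f342638 IH) (Lpr_af (f730225 IH) (Lpe (K23.f306492 IH) (Lpn (LP (LK LD1_c18 LD2_c58 LD3_c30))))))
theorem f730239 : Led Lsl_ff (LP (LK LD1_c18 LD2_c49 LD3_c10)) = (LP (LK LD1_c18 LD2_c56 LD3_c4)) :=
  Lgr Lrot30 (Lpr_at (f730233 IH) (Lpr_ft (f730141 IH) (Lpe (f730161 IH) (Lpn (LP (LK LD1_c18 LD2_c56 LD3_c4))))))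
theorem f730243 : Led Lsl_ft (LP (LK LD1_c18 LD2_c49 LD3_c10)) = (LP (LK LD1_c18 LD2_c56 LD3_c4)) :=
  Lgr Lrot48 (Lpr_ff (f730239 IH) (Lpn (LP (LK LD1_c18 LD2_c56 LD3_c4))))
theorem f348021 : Led Lsl_bt (LP (LK LD1_c10 LD2_c2 LD3_c10)) = (LP (LK LD1_c18 LD2_c20 LD3_c24)) :=
  Lre_b IH (LK LD1_c10 LD2_c2 LD3_c10) (LK LD1_c18 LD2_c20 LD3_c24) Lrfl Lrfl
theorem f348022 : Led Lsl_et (LP (LK LD1_c18 LD2_c20 LD3_c24)) = (LP (LK LD1_c18 LD2_c39 LD3_c7)) :=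
  Lgr Lrot74 (Lpe (f348021 IH) (Lpr_ef (K23.f348019 IH) (Lpe (K25.f185679 IH) (Lpn (LP (LK LD1_c18 LD2_c39 LD3_c7))))))
theorem f730247 : Led Lsl_ff (LP (LK LD1_c18 LD2_c19 LD3_c27)) = (LP (LK LD1_c18 LD2_c39 LD3_c7)) :=
  Lgr Lrot72 (Lpr_et (K54.f342638 IH) (Lpr_ft (f730243 IH) (Lpr_et (K23.f339931 IH) (Lpr_ft (f730181 IH) (Lpr_et (f348022 IH) (Lpn (LP (LK LD1_c18 LD2_c39 LD3_c7))))))))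
theorem f730253 : Led Lsl_ft (LP (LK LD1_c16 LD2_c45 LD3_c55)) = (LP (LK LD1_c25 LD2_c25 LD3_c19)) :=
  Lgr Lrot54 (Lpe (K54.f342636 IH) (Lpr_ff (f730247 IH) (Lpr_df (K25.f323266 IH) (Lpn (LP (LK LD1_c25 LD2_c25 LD3_c19))))))
theorem f294236 : Led Lsl_at (LP (LK LD1_c10 LD2_c27 LD3_c61)) = (LP (LK LD1_c10 LD2_c28 LD3_c8)) :=
  Lgr Lrot80 (Lpe (K24.f254482 IH) (Lpr_af (f262549 IH) (Lpr_ef (K18.f294234 IH) (Lpn (LP (LK LD1_c10 LD2_c28 LD3_c8))))))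
theorem f229974 : Led Lsl_ft (LP (LK LD1_c5 LD2_c19 LD3_c4)) = (LP (LK LD1_c10 LD2_c27 LD3_c61)) :=
  Lre_f IH (LK LD1_c5 LD2_c19 LD3_c4) (LK LD1_c10 LD2_c27 LD3_c61) Lrfl Lrfl
theorem f229968 : Led Lsl_gt (LP (LK LD1_c5 LD2_c19 LD3_c4)) = (LP (LK LD1_c10 LD2_c27 LD3_c59)) :=
  Lre_g IH (LK LD1_c5 LD2_c19 LD3_c4) (LK LD1_c10 LD2_c27 LD3_c59) Lrfl Lrfl
theorem f407436 : Led Lsl_gt (LP (LK LD1_c10 LD2_c27 LD3_c59)) = (LP (LK LD1_c10 LD2_c28 LD3_c8)) :=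
  Lgr Lrot46 (Lpe (f229968 IH) (Lpr_ft (f229974 IH) (Lpr_at (f294236 IH) (Lpn (LP (LK LD1_c10 LD2_c28 LD3_c8))))))
theorem f247016 : Led Lsl_bf (LP (LK LD1_c9 LD2_c52 LD3_c1)) = (LP (LK LD1_c17 LD2_c45 LD3_c37)) :=
  Lgr Lrot93 (Lpe (K20.f246949 IH) (Lpr_bt (K20.f246961 IH) (Lpr_dt (K21.f247011 IH) (Lpn (LP (LK LD1_c17 LD2_c45 LD3_c37))))))
theorem f247018 : Led Lsl_bt (LP (LK LD1_c5 LD2_c0 LD3_c50)) = (LP (LK LD1_c9 LD2_c39 LD3_c24)) :=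
  Lgr Lrot35 (Lpe (K20.f246967 IH) (Lpr_bf (f247016 IH) (Lpe (K21.f246999 IH) (Lpn (LP (LK LD1_c9 LD2_c39 LD3_c24))))))
theorem f246937 : Led Lsl_ct (LP (LK LD1_c5 LD2_c0 LD3_c50)) = (LP (LK LD1_c9 LD2_c51 LD3_c61)) :=
  Lre_c IH (LK LD1_c5 LD2_c0 LD3_c50) (LK LD1_c9 LD2_c51 LD3_c61) Lrfl Lrfl
theorem f246938 : Led Lsl_gt (LP (LK LD1_c9 LD2_c51 LD3_c61)) = (LP (LK LD1_c18 LD2_c3 LD3_c35)) :=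
  Lre_g IH (LK LD1_c9 LD2_c51 LD3_c61) (LK LD1_c18 LD2_c3 LD3_c35) Lrfl Lrfl
theorem f212989 : Led Lsl_dt (LP (LK LD1_c18 LD2_c40 LD3_c21)) = (LP (LK LD1_c10 LD2_c15 LD3_c56)) :=
  Lre_d IH (LK LD1_c18 LD2_c40 LD3_c21) (LK LD1_c10 LD2_c15 LD3_c56) Lrfl Lrfl
theorem f246903 : Led Lsl_ct (LP (LK LD1_c24 LD2_c52 LD3_c33)) = (LP (LK LD1_c15 LD2_c3 LD3_c24)) :=
  Lre_c IH (LK LD1_c24 LD2_c52 LD3_c33) (LK LD1_c15 LD2_c3 LD3_c24) Lrfl Lrfl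
theorem f355036 : Led Lsl_gf (LP (LK LD1_c28 LD2_c27 LD3_c33)) = (LP (LK LD1_c24 LD2_c52 LD3_c33)) :=
  Lgr Lrot144 (Lpr_dt (K25.f316670 IH) (Lpr_gt (K25.f355032 IH) (Lpr_dt (f212989 IH) (Lpe (K20.f320622 IH) (Lpr_df (K20.f320594 IH) (Lpr_gf (K22.f337647 IH) (Lpe (K22.f337660 IH) (Lpe (K22.f337980 IH) (Lpe (f246903 IH) (Lpn (LP (LK LD1_c24 LD2_c52 LD3_c33))))))))))))
theorem f355038 : Led Lsl_cf (LP (LK LD1_c10 LD2_c29 LD3_c15)) = (LP (LK LD1_c18 LD2_c3 LD3_c35)) :=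
  Lgr Lrot99 (Lpe (K20.f242322 IH) (Lpe (K25.f242321 IH) (Lpr_gf (f355036 IH) (Lpe (K23.f246925 IH) (Lpe (K23.f327771 IH) (Lpr_df (K20.f246934 IH) (Lpr_gt (K16.f213496 IH) (Lpr_ct (f246937 IH) (Lpr_gt (f246938 IH) (Lpn (LP (LK LD1_c18 LD2_c3 LD3_c35))))))))))))
theorem f355040 : Led Lsl_ct (LP (LK LD1_c10 LD2_c29 LD3_c15)) = (LP (LK LD1_c18 LD2_c3 LD3_c35)) :=
  Lgr Lrot59 (Lpr_cf (f355038 IH) (Lpn (LP (LK LD1_c18 LD2_c3 LD3_c35))))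
theorem f407438 : Led Lsl_bf (LP (LK LD1_c10 LD2_c27 LD3_c59)) = (LP (LK LD1_c10 LD2_c29 LD3_c15)) :=
  Lgr Lrot165 (Lpr_gt (f407436 IH) (Lpe (K18.f193162 IH) (Lpe (K24.f294264 IH) (Lpe (K24.f248629 IH) (Lpe (K24.f324153 IH) (Lpr_gt (K21.f247006 IH) (Lpe (f247018 IH) (Lpr_ct (f246937 IH) (Lpr_gt (f246938 IH) (Lpe (f355040 IH) (Lpn (LP (LK LD1_c10 LD2_c29 LD3_c15)))))))))))))
theorem f407440 : Led Lsl_bt (LP (LK LD1_c10 LD2_c27 LD3_c59)) = (LP (LK LD1_c10 LD2_c29 LD3_c15)) :=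
  Lgr Lrot127 (Lpr_bf (f407438 IH) (Lpn (LP (LK LD1_c10 LD2_c29 LD3_c15))))
theorem f330794 : Led Lsl_gt (LP (LK LD1_c5 LD2_c3 LD3_c20)) = (LP (LK LD1_c9 LD2_c57 LD3_c31)) :=
  Lre_g IH (LK LD1_c5 LD2_c3 LD3_c20) (LK LD1_c9 LD2_c57 LD3_c31) Lrfl Lrfl
theorem f407446 : Led Lsl_ct (LP (LK LD1_c10 LD2_c27 LD3_c59)) = (LP (LK LD1_c9 LD2_c57 LD3_c31)) :=
  Lgr Lrot63 (Lpr_bt (f407440 IH) (Lpr_gt (K53.f340776 IH) (Lpr_bf (K20.f320801 IH) (Lpr_ct (K20.f180976 IH) (Lpr_gt (K25.f351269 IH) (Lpe (K25.f323609 IH) (Lpr_bt (K25.f323608 IH) (Lpr_gt (K17.f248485 IH) (Lpr_ct (K22.f248653 IH) (Lpr_gt (f330794 IH) (Lpn (LP (LK LD1_c9 LD2_c57 LD3_c31)))))))))))))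
theorem f363217 : Led Lsl_dt (LP (LK LD1_c18 LD2_c58 LD3_c16)) = (LP (LK LD1_c10 LD2_c27 LD3_c59)) :=
  Lre_d IH (LK LD1_c18 LD2_c58 LD3_c16) (LK LD1_c10 LD2_c27 LD3_c59) Lrfl Lrfl
theorem f379033 : Led Lsl_dt (LP (LK LD1_c18 LD2_c13 LD3_c26)) = (LP (LK LD1_c9 LD2_c57 LD3_c31)) :=
  Lre_d IH (LK LD1_c18 LD2_c13 LD3_c26) (LK LD1_c9 LD2_c57 LD3_c31) Lrfl Lrfl
theorem f307473 : Led Lsl_dt (LP (LK LD1_c27 LD2_c52 LD3_c23)) = (LP (LK LD1_c18 LD2_c11 LD3_c45)) :=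
  Lre_d IH (LK LD1_c27 LD2_c52 LD3_c23) (LK LD1_c18 LD2_c11 LD3_c45) Lrfl Lrfl
theorem f379030 : Led Lsl_dt (LP (LK LD1_c9 LD2_c57 LD3_c31)) = (LP (LK LD1_c18 LD2_c13 LD3_c26)) :=
  Lre_d IH (LK LD1_c9 LD2_c57 LD3_c31) (LK LD1_c18 LD2_c13 LD3_c26) Lrfl Lrfl
theorem f379031 : Led Lsl_gf (LP (LK LD1_c27 LD2_c52 LD3_c23)) = (LP (LK LD1_c18 LD2_c13 LD3_c26)) :=
  Lgr Lrot143 (Lpr_dt (f307473 IH) (Lpe (K25.f278238 IH) (Lpe (K25.f278235 IH) (Lpr_gf (K26.f359149 IH) (Lpe (K26.f248489 IH) (Lpe (K26.f248487 IH) (Lpe (K14.f248620 IH) (Lpr_gt (f330794 IH) (Lpr_dt (f379030 IH) (Lpn (LP (LK LD1_c18 LD2_c13 LD3_c26))))))))))))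
theorem f307474 : Led Lsl_dt (LP (LK LD1_c18 LD2_c11 LD3_c45)) = (LP (LK LD1_c27 LD2_c52 LD3_c23)) :=
  Lre_d IH (LK LD1_c18 LD2_c11 LD3_c45) (LK LD1_c27 LD2_c52 LD3_c23) Lrfl Lrfl
theorem f368256 : Led Lsl_gt (LP (LK LD1_c18 LD2_c32 LD3_c56)) = (LP (LK LD1_c10 LD2_c10 LD3_c61)) :=
  Lgr Lrot150 (Lpe (K54.f248029 IH) (Lpr_gf (K27.f368254 IH) (Lpe (K27.f367204 IH) (Lpr_gt (K23.f254198 IH) (Lpr_ct (K23.f254199 IH) (Lpe (K19.f274392 IH) (Lpr_ct (K23.f240278 IH) (Lpe (K20.f240268 IH) (Lpr_cf (K22.f240489 IH) (Lpn (LP (LK LD1_c10 LD2_c10 LD3_c61))))))))))))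
theorem f240509 : Led Lsl_dt (LP (LK LD1_c10 LD2_c10 LD3_c61)) = (LP (LK LD1_c18 LD2_c32 LD3_c61)) :=
  Lre_d IH (LK LD1_c10 LD2_c10 LD3_c61) (LK LD1_c18 LD2_c32 LD3_c61) Lrfl Lrfl
theorem f248736 : Led Lsl_dt (LP (LK LD1_c18 LD2_c34 LD3_c35)) = (LP (LK LD1_c10 LD2_c11 LD3_c49)) :=
  Lre_d IH (LK LD1_c18 LD2_c34 LD3_c35) (LK LD1_c10 LD2_c11 LD3_c49) Lrfl Lrfl
theorem f376741 : Led Lsl_gf (LP (LK LD1_c18 LD2_c34 LD3_c35)) = (LP (LK LD1_c18 LD2_c32 LD3_c61)) :=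
  Lgr Lrot143 (Lpr_dt (f248736 IH) (Lpe (K22.f248737 IH) (Lpr_df (K14.f253625 IH) (Lpr_gf (K14.f254189 IH) (Lpe (K14.f248006 IH) (Lpe (K25.f248011 IH) (Lpe (K54.f248033 IH) (Lpr_gt (f368256 IH) (Lpr_dt (f240509 IH) (Lpn (LP (LK LD1_c18 LD2_c32 LD3_c61))))))))))))
theorem f249687 : Led Lsl_dt (LP (LK LD1_c10 LD2_c11 LD3_c49)) = (LP (LK LD1_c18 LD2_c34 LD3_c35)) :=
  Lre_d IH (LK LD1_c10 LD2_c11 LD3_c49) (LK LD1_c18 LD2_c34 LD3_c35) Lrfl Lrfl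
theorem f379034 : Led Lsl_et (LP (LK LD1_c9 LD2_c57 LD3_c31)) = (LP (LK LD1_c18 LD2_c13 LD3_c27)) :=
  Lre_e IH (LK LD1_c9 LD2_c57 LD3_c31) (LK LD1_c18 LD2_c13 LD3_c27) Lrfl Lrfl
theorem f379035 : Led Lsl_gt (LP (LK LD1_c9 LD2_c58 LD3_c31)) = (LP (LK LD1_c18 LD2_c13 LD3_c27)) :=
  Lgr Lrot131 (Lpr_ef (K25.f249674 IH) (Lpr_dt (f249687 IH) (Lpr_gf (f376741 IH) (Lpe (f240509 IH) (Lpe (f368256 IH) (Lpe (K54.f359139 IH) (Lpr_dt (f307474 IH) (Lpr_gf (f379031 IH) (Lpe (f379030 IH) (Lpr_et (f379034 IH) (Lpn (LP (LK LD1_c18 LD2_c13 LD3_c27)))))))))))))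
theorem f166956 : Led Lsl_ft (LP (LK LD1_c9 LD2_c58 LD3_c31)) = (LP (LK LD1_c5 LD2_c3 LD3_c47)) :=
  Lre_f IH (LK LD1_c9 LD2_c58 LD3_c31) (LK LD1_c5 LD2_c3 LD3_c47) Lrfl Lrfl
theorem f166955 : Led Lsl_at (LP (LK LD1_c5 LD2_c3 LD3_c47)) = (LP (LK LD1_c9 LD2_c58 LD3_c15)) :=
  Lre_a IH (LK LD1_c5 LD2_c3 LD3_c47) (LK LD1_c9 LD2_c58 LD3_c15) Lrfl Lrfl
theorem f379037 : Led Lsl_gf (LP (LK LD1_c9 LD2_c58 LD3_c15)) = (LP (LK LD1_c18 LD2_c13 LD3_c27)) :=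
  Lgr Lrot76 (Lpe (f166955 IH) (Lpe (f166956 IH) (Lpr_gt (f379035 IH) (Lpn (LP (LK LD1_c18 LD2_c13 LD3_c27))))))
theorem f249676 : Led Lsl_et (LP (LK LD1_c5 LD2_c3 LD3_c42)) = (LP (LK LD1_c9 LD2_c58 LD3_c15)) :=
  Lre_e IH (LK LD1_c5 LD2_c3 LD3_c42) (LK LD1_c9 LD2_c58 LD3_c15) Lrfl Lrfl
theorem f185920 : Led Lsl_dt (LP (LK LD1_c18 LD2_c10 LD3_c14)) = (LP (LK LD1_c27 LD2_c50 LD3_c40)) :=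
  Lre_d IH (LK LD1_c18 LD2_c10 LD3_c14) (LK LD1_c27 LD2_c50 LD3_c40) Lrfl Lrfl
theorem f379046 : Led Lsl_gt (LP (LK LD1_c27 LD2_c50 LD3_c40)) = (LP (LK LD1_c18 LD2_c13 LD3_c26)) :=
  Lgr Lrot139 (Lpe (f185920 IH) (Lpe (K19.f306187 IH) (Lpe (K18.f169851 IH) (Lpr_dt (K17.f169849 IH) (Lpe (K17.f261341 IH) (Lpe (K14.f166913 IH) (Lpr_et (f249676 IH) (Lpr_gf (f379037 IH) (Lpe (f379034 IH) (Lpr_dt (f379030 IH) (Lpn (LP (LK LD1_c18 LD2_c13 LD3_c26)))))))))))))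
theorem f407453 : Led Lsl_gf (LP (LK LD1_c18 LD2_c58 LD3_c16)) = (LP (LK LD1_c16 LD2_c45 LD3_c55)) :=
  Lgr Lrot154 (Lpr_dt (f363217 IH) (Lpr_ct (f407446 IH) (Lpe (f379033 IH) (Lpe (f379046 IH) (Lpe (f185920 IH) (Lpe (K19.f306187 IH) (Lpe (K18.f169852 IH) (Lpr_gt (K23.f169873 IH) (Lpr_dt (K54.f342636 IH) (Lpn (LP (LK LD1_c16 LD2_c45 LD3_c55))))))))))))
theorem f309915 : Led Lsl_dt (LP (LK LD1_c15 LD2_c45 LD3_c12)) = (LP (LK LD1_c8 LD2_c22 LD3_c14)) :=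
  Lre_d IH (LK LD1_c15 LD2_c45 LD3_c12) (LK LD1_c8 LD2_c22 LD3_c14) Lrfl Lrfl
theorem f325716 : Led Lsl_gf (LP (LK LD1_c25 LD2_c25 LD3_c19)) = (LP (LK LD1_c18 LD2_c56 LD3_c20)) :=
  Lgr Lrot141 (Lpe (K25.f284548 IH) (Lpr_dt (K19.f284546 IH) (Lpr_gt (K19.f310794 IH) (Lpe (K19.f194739 IH) (Lpe (K19.f310727 IH) (Lpe (K19.f310796 IH) (Lpe (K17.f265808 IH) (Lpe (K26.f309912 IH) (Lpe (f309915 IH) (Lpr_et (K24.f325652 IH) (Lpn (LP (LK LD1_c18 LD2_c56 LD3_c20)))))))))))))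
theorem f251024 : Led Lsl_ft (LP (LK LD1_c10 LD2_c38 LD3_c56)) = (LP (LK LD1_c19 LD2_c17 LD3_c19)) :=
  Lre_f IH (LK LD1_c10 LD2_c38 LD3_c56) (LK LD1_c19 LD2_c17 LD3_c19) Lrfl Lrfl
theorem f331354 : Led Lsl_af (LP (LK LD1_c25 LD2_c25 LD3_c19)) = (LP (LK LD1_c19 LD2_c17 LD3_c19)) :=
  Lgr Lrot31 (Lpr_gf (f325716 IH) (Lpr_gf (K25.f331352 IH) (Lpr_ft (f251024 IH) (Lpn (LP (LK LD1_c19 LD2_c17 LD3_c19))))))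
theorem f331356 : Led Lsl_at (LP (LK LD1_c25 LD2_c25 LD3_c19)) = (LP (LK LD1_c19 LD2_c17 LD3_c19)) :=
  Lgr Lrot100 (Lpr_af (f331354 IH) (Lpn (LP (LK LD1_c19 LD2_c17 LD3_c19))))
theorem f730263 : Led Lsl_gt (LP (LK LD1_c18 LD2_c58 LD3_c16)) = (LP (LK LD1_c19 LD2_c17 LD3_c19)) :=
  Lgr Lrot46 (Lpr_gf (f407453 IH) (Lpr_ft (f730253 IH) (Lpr_at (f331356 IH) (Lpn (LP (LK LD1_c19 LD2_c17 LD3_c19))))))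
theorem f229969 : Led Lsl_dt (LP (LK LD1_c10 LD2_c27 LD3_c59)) = (LP (LK LD1_c18 LD2_c58 LD3_c16)) :=
  Lre_d IH (LK LD1_c10 LD2_c27 LD3_c59) (LK LD1_c18 LD2_c58 LD3_c16) Lrfl Lrfl
theorem f378222 : Led Lsl_et (LP (LK LD1_c18 LD2_c19 LD3_c28)) = (LP (LK LD1_c18 LD2_c38 LD3_c38)) :=
  Lgr Lrot87 (Lpr_ef (f378218 IH) (Lpn (LP (LK LD1_c18 LD2_c38 LD3_c38))))
theorem f730269 : Led Lsl_dt (LP (LK LD1_c18 LD2_c19 LD3_c28)) = (LP (LK LD1_c19 LD2_c17 LD3_c19)) :=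
  Lgr Lrot56 (Lpr_et (f378222 IH) (Lpr_gt (K22.f240277 IH) (Lpe (K20.f240265 IH) (Lpr_dt (K16.f240263 IH) (Lpe (K15.f256268 IH) (Lpe (K14.f44280 IH) (Lpr_et (K14.f229951 IH) (Lpr_gt (f229968 IH) (Lpr_dt (f229969 IH) (Lpr_gt (f730263 IH) (Lpn (LP (LK LD1_c19 LD2_c17 LD3_c19)))))))))))))
theorem f730275 : Led Lsl_ef (LP (LK LD1_c15 LD2_c41 LD3_c60)) = (LP (LK LD1_c19 LD2_c17 LD3_c19)) :=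
  Lgr Lrot73 (Lpe (K25.f340123 IH) (Lpr_et (K25.f263517 IH) (Lpr_dt (K25.f263513 IH) (Lpe (f378218 IH) (Lpr_dt (f730269 IH) (Lpn (LP (LK LD1_c19 LD2_c17 LD3_c19))))))))
theorem f726456 : Led Lsl_ff (LP (LK LD1_c5 LD2_c24 LD3_c4)) = v14747 :=
  Lgr Lrot3 (Lpr_ft (f726455 IH) (Lpn v14747))
theorem f730281 : Led Lsl_ft (LP (LK LD1_c15 LD2_c41 LD3_c60)) = (LP (LK LD1_c15 LD2_c16 LD3_c58)) :=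
  Lgr Lrot86 (Lpr_ef (f730275 IH) (Lpe (f251024 IH) (Lpe (K23.f251021 IH) (Lpr_ff (f726456 IH) (Lpqs (f729930 IH) (Lpr_ef (K23.f346207 IH) (Lpn (LP (LK LD1_c15 LD2_c16 LD3_c58)))))))))
theorem f730289 : Led Lsl_af (LP (LK LD1_c10 LD2_c38 LD3_c54)) = (LP (LK LD1_c15 LD2_c16 LD3_c58)) :=
  Lgr Lrot31 (Lpr_gf (K25.f352086 IH) (Lpr_gf (K25.f340129 IH) (Lpr_ft (f730281 IH) (Lpn (LP (LK LD1_c15 LD2_c16 LD3_c58))))))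
theorem f730293 : Led Lsl_at (LP (LK LD1_c10 LD2_c35 LD3_c41)) = (LP (LK LD1_c10 LD2_c35 LD3_c14)) :=
  Lgr Lrot51 (Lpe (K25.f352090 IH) (Lpr_af (f730289 IH) (Lpe (K23.f346253 IH) (Lpn (LP (LK LD1_c10 LD2_c35 LD3_c14))))))
theorem f730301 : Led Lsl_ff (LP (LK LD1_c10 LD2_c35 LD3_c41)) = (LP (LK LD1_c10 LD2_c35 LD3_c13)) :=
  Lgr Lrot52 (Lpr_at (f730293 IH) (Lpr_gf (K25.f346479 IH) (Lpe (K19.f310794 IH) (Lpn (LP (LK LD1_c10 LD2_c35 LD3_c13))))))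
theorem f730325 : Led Lsl_ft (LP (LK LD1_c10 LD2_c35 LD3_c41)) = (LP (LK LD1_c10 LD2_c35 LD3_c13)) :=
  Lgr Lrot48 (Lpr_ff (f730301 IH) (Lpn (LP (LK LD1_c10 LD2_c35 LD3_c13))))
theorem f730333 : Led Lsl_af (LP (LK LD1_c10 LD2_c35 LD3_c40)) = (LP (LK LD1_c10 LD2_c35 LD3_c13)) :=
  Lgr Lrot31 (Lpe (K25.f201023 IH) (Lpe (K25.f196647 IH) (Lpr_ft (f730325 IH) (Lpn (LP (LK LD1_c10 LD2_c35 LD3_c13))))))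
theorem f730295 : Led Lsl_af (LP (LK LD1_c10 LD2_c35 LD3_c41)) = (LP (LK LD1_c10 LD2_c35 LD3_c14)) :=
  Lgr Lrot0 (Lpr_at (f730293 IH) (Lpn (LP (LK LD1_c10 LD2_c35 LD3_c14))))
theorem f730337 : Led Lsl_ft (LP (LK LD1_c10 LD2_c35 LD3_c40)) = (LP (LK LD1_c10 LD2_c35 LD3_c14)) :=
  Lgr Lrot101 (Lpr_af (f730333 IH) (Lpe (f730325 IH) (Lpr_af (f730295 IH) (Lpn (LP (LK LD1_c10 LD2_c35 LD3_c14))))))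
theorem f353723 : Led Lsl_ct (LP (LK LD1_c15 LD2_c28 LD3_c54)) = (LP (LK LD1_c10 LD2_c35 LD3_c40)) :=
  Lgr Lrot7 (Lpe (K25.f223161 IH) (Lpr_gf (K25.f353721 IH) (Lpe (K25.f247699 IH) (Lpe (K25.f352779 IH) (Lpe (K25.f347981 IH) (Lpr_gt (K25.f352765 IH) (Lpr_dt (K25.f170826 IH) (Lpr_gt (K25.f187974 IH) (Lpe (K25.f340123 IH) (Lpn (LP (LK LD1_c10 LD2_c35 LD3_c40))))))))))))
theorem f730341 : Led Lsl_ff (LP (LK LD1_c15 LD2_c28 LD3_c54)) = (LP (LK LD1_c17 LD2_c49 LD3_c58)) :=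
  Lgr Lrot23 (Lpr_ct (f353723 IH) (Lpr_ft (f730337 IH) (Lpr_ct (K25.f352185 IH) (Lpn (LP (LK LD1_c17 LD2_c49 LD3_c58))))))
theorem f730347 : Led Lsl_ft (LP (LK LD1_c15 LD2_c28 LD3_c54)) = (LP (LK LD1_c17 LD2_c49 LD3_c58)) :=
  Lgr Lrot48 (Lpr_ff (f730341 IH) (Lpn (LP (LK LD1_c17 LD2_c49 LD3_c58))))
theorem f352939 : Led Lsl_ct (LP (LK LD1_c15 LD2_c28 LD3_c55)) = (LP (LK LD1_c10 LD2_c35 LD3_c41)) :=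
  Lgr Lrot59 (Lpr_cf (K25.f352934 IH) (Lpn (LP (LK LD1_c10 LD2_c35 LD3_c41))))
theorem f730297 : Led Lsl_af (LP (LK LD1_c15 LD2_c28 LD3_c55)) = (LP (LK LD1_c17 LD2_c49 LD3_c58)) :=
  Lgr Lrot68 (Lpr_ct (f352939 IH) (Lpr_at (f730293 IH) (Lpr_ct (K25.f352185 IH) (Lpn (LP (LK LD1_c17 LD2_c49 LD3_c58))))))
theorem f353594 : Led Lsl_ct (LP (LK LD1_c17 LD2_c49 LD3_c57)) = (LP (LK LD1_c10 LD2_c35 LD3_c13)) :=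
  Lgr Lrot59 (Lpr_cf (K25.f353591 IH) (Lpn (LP (LK LD1_c10 LD2_c35 LD3_c13))))
theorem f730321 : Led Lsl_ft (LP (LK LD1_c15 LD2_c28 LD3_c55)) = (LP (LK LD1_c17 LD2_c49 LD3_c57)) :=
  Lgr Lrot4 (Lpr_cf (K25.f352934 IH) (Lpr_ff (f730301 IH) (Lpe (f353594 IH) (Lpn (LP (LK LD1_c17 LD2_c49 LD3_c57))))))
theorem f730349 : Led Lsl_af (LP (LK LD1_c15 LD2_c28 LD3_c54)) = (LP (LK LD1_c17 LD2_c49 LD3_c57)) :=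
  Lgr Lrot45 (Lpr_ft (f730347 IH) (Lpe (f730297 IH) (Lpr_ft (f730321 IH) (Lpn (LP (LK LD1_c17 LD2_c49 LD3_c57))))))
theorem f266681 : Led Lsl_et (LP (LK LD1_c27 LD2_c37 LD3_c0)) = (LP (LK LD1_c17 LD2_c49 LD3_c57)) :=
  Lre_e IH (LK LD1_c27 LD2_c37 LD3_c0) (LK LD1_c17 LD2_c49 LD3_c57) Lrfl Lrfl
theorem f730427 : Led Lsl_at (LP (LK LD1_c25 LD2_c21 LD3_c20)) = (LP (LK LD1_c27 LD2_c37 LD3_c0)) :=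
  Lgr Lrot80 (Lpe (K27.f351622 IH) (Lpr_af (f730349 IH) (Lpe (f266681 IH) (Lpn (LP (LK LD1_c27 LD2_c37 LD3_c0))))))
theorem f312425 : Led Lsl_ct (LP (LK LD1_c10 LD2_c11 LD3_c52)) = (LP (LK LD1_c18 LD2_c34 LD3_c40)) :=
  Lre_c IH (LK LD1_c10 LD2_c11 LD3_c52) (LK LD1_c18 LD2_c34 LD3_c40) Lrfl Lrfl
theorem f248032 : Led Lsl_gt (LP (LK LD1_c25 LD2_c20 LD3_c33)) = (LP (LK LD1_c15 LD2_c28 LD3_c24)) :=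
  Lre_g IH (LK LD1_c25 LD2_c20 LD3_c33) (LK LD1_c15 LD2_c28 LD3_c24) Lrfl Lrfl
theorem f260308 : Led Lsl_et (LP (LK LD1_c4 LD2_c55 LD3_c2)) = (LP (LK LD1_c9 LD2_c41 LD3_c38)) :=
  Lre_e IH (LK LD1_c4 LD2_c55 LD3_c2) (LK LD1_c9 LD2_c41 LD3_c38) Lrfl Lrfl
theorem f266682 : Led Lsl_df (LP (LK LD1_c25 LD2_c20 LD3_c33)) = (LP (LK LD1_c27 LD2_c37 LD3_c0)) :=
  Lgr Lrot170 (Lpr_gt (f248032 IH) (Lpe (K27.f248021 IH) (Lpr_et (K27.f266680 IH) (Lpr_gt (K15.f266671 IH) (Lpr_dt (K15.f266664 IH) (Lpe (K15.f266675 IH) (Lpe (K15.f214079 IH) (Lpr_et (f260308 IH) (Lpr_gt (K25.f213990 IH) (Lpe (f266681 IH) (Lpn (LP (LK LD1_c27 LD2_c37 LD3_c0)))))))))))))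
theorem f359129 : Led Lsl_gt (LP (LK LD1_c18 LD2_c34 LD3_c40)) = (LP (LK LD1_c27 LD2_c37 LD3_c0)) :=
  Lgr Lrot94 (Lpe (f312425 IH) (Lpr_gt (K26.f359127 IH) (Lpe (K25.f252597 IH) (Lpr_gt (K25.f248011 IH) (Lpr_dt (K14.f248006 IH) (Lpe (K27.f248030 IH) (Lpe (K27.f248031 IH) (Lpe (f248032 IH) (Lpr_df (f266682 IH) (Lpn (LP (LK LD1_c27 LD2_c37 LD3_c0))))))))))))
theorem f370449 : Led Lsl_af (LP (LK LD1_c28 LD2_c51 LD3_c32)) = (LP (LK LD1_c19 LD2_c58 LD3_c25)) :=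
  Lgr Lrot0 (Lpr_at (K27.f370447 IH) (Lpn (LP (LK LD1_c19 LD2_c58 LD3_c25))))
theorem f370439 : Led Lsl_ft (LP (LK LD1_c15 LD2_c28 LD3_c24)) = (LP (LK LD1_c19 LD2_c58 LD3_c25)) :=
  Lgr Lrot54 (Lpe (K27.f248021 IH) (Lpr_ff (K27.f370433 IH) (Lpe (K27.f339993 IH) (Lpn (LP (LK LD1_c19 LD2_c58 LD3_c25))))))
theorem f303356 : Led Lsl_gt (LP (LK LD1_c15 LD2_c28 LD3_c24)) = (LP (LK LD1_c25 LD2_c20 LD3_c32)) :=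
  Lre_g IH (LK LD1_c15 LD2_c28 LD3_c24) (LK LD1_c25 LD2_c20 LD3_c32) Lrfl Lrfl
theorem f374976 : Led Lsl_gf (LP (LK LD1_c28 LD2_c51 LD3_c32)) = (LP (LK LD1_c25 LD2_c20 LD3_c32)) :=
  Lgr Lrot76 (Lpr_af (f370449 IH) (Lpe (f370439 IH) (Lpr_gt (f303356 IH) (Lpn (LP (LK LD1_c25 LD2_c20 LD3_c32))))))
theorem f312517 : Led Lsl_gf (LP (LK LD1_c15 LD2_c2 LD3_c17)) = (LP (LK LD1_c10 LD2_c11 LD3_c55)) :=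
  Lgr Lrot145 (Lpe (K19.f312410 IH) (Lpe (K54.f312494 IH) (Lpr_gt (K19.f312513 IH) (Lpr_dt (K19.f304602 IH) (Lpe (K25.f307234 IH) (Lpe (K14.f214980 IH) (Lpr_et (K21.f246185 IH) (Lpr_gt (K25.f307236 IH) (Lpe (K22.f305838 IH) (Lpr_dt (K19.f249052 IH) (Lpn (LP (LK LD1_c10 LD2_c11 LD3_c55)))))))))))))
theorem f284614 : Led Lsl_et (LP (LK LD1_c3 LD2_c58 LD3_c25)) = (LP (LK LD1_c7 LD2_c58 LD3_c14)) :=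
  Lre_e IH (LK LD1_c3 LD2_c58 LD3_c25) (LK LD1_c7 LD2_c58 LD3_c14) Lrfl Lrfl
theorem f303346 : Led Lsl_et (LP (LK LD1_c24 LD2_c50 LD3_c46)) = (LP (LK LD1_c15 LD2_c2 LD3_c12)) :=
  Lre_e IH (LK LD1_c24 LD2_c50 LD3_c46) (LK LD1_c15 LD2_c2 LD3_c12) Lrfl Lrfl
theorem f303370 : Led Lsl_dt (LP (LK LD1_c24 LD2_c50 LD3_c46)) = (LP (LK LD1_c25 LD2_c20 LD3_c32)) :=
  Lgr Lrot56 (Lpr_et (f303346 IH) (Lpr_gt (K25.f168040 IH) (Lpe (f284614 IH) (Lpr_dt (K18.f218076 IH) (Lpe (K18.f303333 IH) (Lpe (K18.f282874 IH) (Lpr_et (K22.f303345 IH) (Lpr_gt (K22.f303349 IH) (Lpr_dt (K27.f248021 IH) (Lpr_gt (f303356 IH) (Lpn (LP (LK LD1_c25 LD2_c20 LD3_c32)))))))))))))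
theorem f374978 : Led Lsl_gt (LP (LK LD1_c18 LD2_c34 LD3_c46)) = (LP (LK LD1_c24 LD2_c50 LD3_c46)) :=
  Lgr Lrot94 (Lpe (K22.f249053 IH) (Lpe (f312517 IH) (Lpe (K19.f312405 IH) (Lpr_gt (K27.f367211 IH) (Lpe (K27.f367200 IH) (Lpe (K27.f317759 IH) (Lpe (K27.f317764 IH) (Lpr_gf (f374976 IH) (Lpe (f303370 IH) (Lpn (LP (LK LD1_c24 LD2_c50 LD3_c46))))))))))))
theorem f362895 : Led Lsl_cf (LP (LK LD1_c18 LD2_c54 LD3_c38)) = (LP (LK LD1_c18 LD2_c35 LD3_c26)) :=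
  Lgr Lrot39 (Lpr_et (K18.f49039 IH) (Lpr_ct (K26.f362886 IH) (Lpr_et (K26.f362894 IH) (Lpn (LP (LK LD1_c18 LD2_c35 LD3_c26))))))
theorem f341954 : Led Lsl_bf (LP (LK LD1_c16 LD2_c8 LD3_c9)) = (LP (LK LD1_c18 LD2_c39 LD3_c56)) :=
  Lgr Lrot24 (Lpr_bt (K24.f341951 IH) (Lpn (LP (LK LD1_c18 LD2_c39 LD3_c56))))
theorem f305817 : Led Lsl_gt (LP (LK LD1_c11 LD2_c10 LD3_c33)) = (LP (LK LD1_c20 LD2_c5 LD3_c18)) :=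
  Lre_g IH (LK LD1_c11 LD2_c10 LD3_c33) (LK LD1_c20 LD2_c5 LD3_c18) Lrfl Lrfl
theorem f341975 : Led Lsl_cf (LP (LK LD1_c20 LD2_c5 LD3_c18)) = (LP (LK LD1_c18 LD2_c39 LD3_c56)) :=
  Lgr Lrot58 (Lpe (f305817 IH) (Lpe (K25.f305734 IH) (Lpr_bt (K19.f305731 IH) (Lpr_gf (K21.f307043 IH) (Lpe (K21.f323751 IH) (Lpr_ct (K24.f323753 IH) (Lpe (K23.f328718 IH) (Lpe (K26.f314295 IH) (Lpe (K23.f341907 IH) (Lpr_bf (f341954 IH) (Lpn (LP (LK LD1_c18 LD2_c39 LD3_c56)))))))))))))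
theorem f341977 : Led Lsl_ct (LP (LK LD1_c20 LD2_c5 LD3_c18)) = (LP (LK LD1_c18 LD2_c39 LD3_c56)) :=
  Lgr Lrot59 (Lpr_cf (f341975 IH) (Lpn (LP (LK LD1_c18 LD2_c39 LD3_c56))))
theorem f362913 : Led Lsl_gf (LP (LK LD1_c9 LD2_c43 LD3_c36)) = (LP (LK LD1_c10 LD2_c11 LD3_c56)) :=
  Lgr Lrot147 (Lpr_ct (K49.f330523 IH) (Lpr_gt (K54.f362911 IH) (Lpe (f362895 IH) (Lpr_df (K24.f271286 IH) (Lpe (f341977 IH) (Lpe (f305817 IH) (Lpe (K25.f305734 IH) (Lpe (K19.f305828 IH) (Lpr_df (K19.f305829 IH) (Lpn (LP (LK LD1_c10 LD2_c11 LD3_c56))))))))))))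
theorem f373218 : Led Lsl_gf (LP (LK LD1_c10 LD2_c11 LD3_c55)) = (LP (LK LD1_c17 LD2_c49 LD3_c56)) :=
  Lgr Lrot145 (Lpe (K19.f249052 IH) (Lpr_et (K22.f305838 IH) (Lpe (f362913 IH) (Lpr_dt (K54.f281448 IH) (Lpr_gt (K54.f373213 IH) (Lpr_df (K54.f360392 IH) (Lpe (K26.f359746 IH) (Lpr_gt (K54.f359619 IH) (Lpr_ef (K26.f359137 IH) (Lpr_dt (K25.f252602 IH) (Lpn (LP (LK LD1_c17 LD2_c49 LD3_c56)))))))))))))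
theorem f374980 : Led Lsl_cf (LP (LK LD1_c16 LD2_c39 LD3_c19)) = (LP (LK LD1_c24 LD2_c50 LD3_c46)) :=
  Lgr Lrot99 (Lpr_df (K22.f275646 IH) (Lpr_cf (K25.f356246 IH) (Lpe (K25.f247986 IH) (Lpe (K20.f247988 IH) (Lpe (K25.f248011 IH) (Lpr_df (K25.f252597 IH) (Lpe (f373218 IH) (Lpr_ct (K22.f249053 IH) (Lpr_gt (f374978 IH) (Lpn (LP (LK LD1_c24 LD2_c50 LD3_c46))))))))))))
theorem f353626 : Led Lsl_cf (LP (LK LD1_c27 LD2_c37 LD3_c0)) = (LP (LK LD1_c19 LD2_c10 LD3_c45)) :=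
  Lgr Lrot11 (Lpr_ct (K25.f353596 IH) (Lpn (LP (LK LD1_c19 LD2_c10 LD3_c45))))
theorem f335723 : Led Lsl_gt (LP (LK LD1_c18 LD2_c49 LD3_c21)) = (LP (LK LD1_c19 LD2_c10 LD3_c45)) :=
  Lgr Lrot131 (Lpe (K22.f307746 IH) (Lpr_dt (K23.f307751 IH) (Lpr_gf (K22.f335715 IH) (Lpe (K16.f274509 IH) (Lpr_gf (K19.f274532 IH) (Lpe (K15.f256752 IH) (Lpr_dt (K10.f170738 IH) (Lpe (K19.f284541 IH) (Lpr_df (K19.f284543 IH) (Lpr_et (K25.f284545 IH) (Lpn (LP (LK LD1_c19 LD2_c10 LD3_c45)))))))))))))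
theorem f305858 : Led Lsl_ct (LP (LK LD1_c18 LD2_c34 LD3_c46)) = (LP (LK LD1_c10 LD2_c11 LD3_c55)) :=
  Lre_c IH (LK LD1_c18 LD2_c34 LD3_c46) (LK LD1_c10 LD2_c11 LD3_c55) Lrfl Lrfl
theorem f253633 : Led Lsl_ct (LP (LK LD1_c10 LD2_c11 LD3_c54)) = (LP (LK LD1_c5 LD2_c10 LD3_c35)) :=
  Lre_c IH (LK LD1_c10 LD2_c11 LD3_c54) (LK LD1_c5 LD2_c10 LD3_c35) Lrfl Lrfl
theorem f340183 : Led Lsl_gt (LP (LK LD1_c18 LD2_c34 LD3_c37)) = (LP (LK LD1_c10 LD2_c11 LD3_c54)) :=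
  Lgr Lrot5 (Lpr_ft (K23.f336175 IH) (Lpr_at (K23.f340164 IH) (Lpe (K23.f253630 IH) (Lpn (LP (LK LD1_c10 LD2_c11 LD3_c54))))))
theorem f353630 : Led Lsl_gt (LP (LK LD1_c10 LD2_c22 LD3_c15)) = (LP (LK LD1_c16 LD2_c34 LD3_c44)) :=
  Lgr Lrot9 (Lpe (K22.f250371 IH) (Lpr_gt (f335723 IH) (Lpe (f353626 IH) (Lpr_gt (K25.f353628 IH) (Lpr_ct (f305858 IH) (Lpe (K19.f249052 IH) (Lpe (f253633 IH) (Lpe (f340183 IH) (Lpr_cf (K22.f336168 IH) (Lpn (LP (LK LD1_c16 LD2_c34 LD3_c44))))))))))))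
theorem f370240 : Led Lsl_bt (LP (LK LD1_c31 LD2_c40 LD3_c14)) = (LP (LK LD1_c24 LD2_c49 LD3_c32)) :=
  Lre_b IH (LK LD1_c31 LD2_c40 LD3_c14) (LK LD1_c24 LD2_c49 LD3_c32) Lrfl Lrfl
theorem f371414 : Led Lsl_bt (LP (LK LD1_c15 LD2_c18 LD3_c31)) = (LP (LK LD1_c8 LD2_c18 LD3_c29)) :=
  Lgr Lrot128 (Lpe (K27.f370397 IH) (Lpe (f370240 IH) (Lpr_cf (K30.f371395 IH) (Lpe (K21.f323168 IH) (Lpe (K20.f323161 IH) (Lpn (LP (LK LD1_c8 LD2_c18 LD3_c29))))))))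
theorem f311449 : Led Lsl_et (LP (LK LD1_c16 LD2_c34 LD3_c44)) = (LP (LK LD1_c10 LD2_c21 LD3_c8)) :=
  Lgr Lrot69 (Lpe (K20.f214808 IH) (Lpe (K14.f214826 IH) (Lpr_ff (K19.f311441 IH) (Lpe (K19.f47653 IH) (Lpe (K12.f47633 IH) (Lpn (LP (LK LD1_c10 LD2_c21 LD3_c8))))))))
theorem f328542 : Led Lsl_ef (LP (LK LD1_c8 LD2_c18 LD3_c4)) = (LP (LK LD1_c15 LD2_c33 LD3_c18)) :=
  Lgr Lrot29 (Lpr_bt (K21.f323215 IH) (Lpr_et (K21.f328540 IH) (Lpr_bt (K12.f47626 IH) (Lpn (LP (LK LD1_c15 LD2_c33 LD3_c18))))))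
theorem f370399 : Led Lsl_dt (LP (LK LD1_c8 LD2_c18 LD3_c4)) = (LP (LK LD1_c15 LD2_c18 LD3_c31)) :=
  Lgr Lrot77 (Lpr_ef (f328542 IH) (Lpe (K53.f47610 IH) (Lpe (f311449 IH) (Lpe (K22.f317729 IH) (Lpr_ef (K27.f370391 IH) (Lpn (LP (LK LD1_c15 LD2_c18 LD3_c31))))))))
theorem f370242 : Led Lsl_dt (LP (LK LD1_c31 LD2_c40 LD3_c18)) = (LP (LK LD1_c24 LD2_c49 LD3_c32)) :=
  Lre_d IH (LK LD1_c31 LD2_c40 LD3_c18) (LK LD1_c24 LD2_c49 LD3_c32) Lrfl Lrfl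
theorem f370419 : Led Lsl_ct (LP (LK LD1_c15 LD2_c18 LD3_c31)) = (LP (LK LD1_c24 LD2_c49 LD3_c32)) :=
  Lgr Lrot7 (Lpe (f370399 IH) (Lpr_gf (K27.f331277 IH) (Lpe (K22.f339591 IH) (Lpr_gf (K26.f339634 IH) (Lpe (K27.f356158 IH) (Lpe (K26.f356091 IH) (Lpr_dt (K21.f324989 IH) (Lpr_gt (K27.f370417 IH) (Lpr_dt (f370242 IH) (Lpn (LP (LK LD1_c24 LD2_c49 LD3_c32))))))))))))
theorem f236239 : Led Lsl_ct (LP (LK LD1_c16 LD2_c42 LD3_c53)) = (LP (LK LD1_c8 LD2_c55 LD3_c45)) :=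
  Lre_c IH (LK LD1_c16 LD2_c42 LD3_c53) (LK LD1_c8 LD2_c55 LD3_c45) Lrfl Lrfl
theorem f330168 : Led Lsl_et (LP (LK LD1_c19 LD2_c35 LD3_c3)) = (LP (LK LD1_c16 LD2_c42 LD3_c53)) :=
  Lgr Lrot158 (Lpe (K25.f330132 IH) (Lpr_ef (K23.f330154 IH) (Lpe (f236239 IH) (Lpn (LP (LK LD1_c16 LD2_c42 LD3_c53))))))
theorem f337763 : Led Lsl_gf (LP (LK LD1_c16 LD2_c42 LD3_c53)) = (LP (LK LD1_c8 LD2_c55 LD3_c51)) :=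
  Lgr Lrot141 (Lpe (f330168 IH) (Lpr_dt (K23.f337729 IH) (Lpr_gt (K23.f213073 IH) (Lpe (K23.f213064 IH) (Lpr_et (K16.f213084 IH) (Lpr_gt (K12.f196395 IH) (Lpr_dt (K14.f213056 IH) (Lpr_gt (K15.f213057 IH) (Lpr_df (K15.f254886 IH) (Lpr_et (K14.f254878 IH) (Lpn (LP (LK LD1_c8 LD2_c55 LD3_c51)))))))))))))
theorem f371486 : Led Lsl_gt (LP (LK LD1_c24 LD2_c49 LD3_c32)) = (LP (LK LD1_c16 LD2_c9 LD3_c32)) :=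
  Lgr Lrot65 (Lpe (f370419 IH) (Lpr_bt (f371414 IH) (Lpr_gf (K20.f323217 IH) (Lpe (K22.f298894 IH) (Lpr_ct (K22.f197610 IH) (Lpr_gf (f337763 IH) (Lpe (K23.f254869 IH) (Lpe (K24.f232195 IH) (Lpr_bf (K25.f350054 IH) (Lpr_ct (K25.f330915 IH) (Lpn (LP (LK LD1_c16 LD2_c9 LD3_c32)))))))))))))
theorem f331304 : Led Lsl_dt (LP (LK LD1_c16 LD2_c9 LD3_c32)) = (LP (LK LD1_c26 LD2_c6 LD3_c14)) :=
  Lre_d IH (LK LD1_c16 LD2_c9 LD3_c32) (LK LD1_c26 LD2_c6 LD3_c14) Lrfl Lrfl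
theorem f254042 : Led Lsl_ct (LP (LK LD1_c8 LD2_c37 LD3_c9)) = (LP (LK LD1_c4 LD2_c19 LD3_c25)) :=
  Lre_c IH (LK LD1_c8 LD2_c37 LD3_c9) (LK LD1_c4 LD2_c19 LD3_c25) Lrfl Lrfl
theorem f221690 : Led Lsl_ct (LP (LK LD1_c15 LD2_c1 LD3_c23)) = (LP (LK LD1_c7 LD2_c57 LD3_c55)) :=
  Lre_c IH (LK LD1_c15 LD2_c1 LD3_c23) (LK LD1_c7 LD2_c57 LD3_c55) Lrfl Lrfl
theorem f370411 : Led Lsl_gf (LP (LK LD1_c15 LD2_c41 LD3_c51)) = (LP (LK LD1_c15 LD2_c18 LD3_c31)) :=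
  Lgr Lrot147 (Lpr_ct (K25.f352032 IH) (Lpr_gt (K25.f221703 IH) (Lpr_ct (f221690 IH) (Lpe (K14.f254022 IH) (Lpe (f254042 IH) (Lpe (K20.f310064 IH) (Lpr_cf (K20.f310042 IH) (Lpe (K21.f331275 IH) (Lpr_df (K27.f370403 IH) (Lpn (LP (LK LD1_c15 LD2_c18 LD3_c31))))))))))))
theorem f311397 : Led Lsl_gf (LP (LK LD1_c20 LD2_c56 LD3_c45)) = (LP (LK LD1_c15 LD2_c38 LD3_c38)) :=
  Lgr Lrot138 (Lpr_dt (K22.f274495 IH) (Lpr_gt (K21.f274488 IH) (Lpe (K22.f311383 IH) (Lpr_et (K19.f311385 IH) (Lpr_gt (K19.f262656 IH) (Lpe (K14.f49018 IH) (Lpr_dt (K22.f48275 IH) (Lpr_gt (K18.f49027 IH) (Lpr_df (K24.f287660 IH) (Lpr_et (K25.f287662 IH) (Lpn (LP (LK LD1_c15 LD2_c38 LD3_c38)))))))))))))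
theorem f301366 : Led Lsl_dt (LP (LK LD1_c25 LD2_c21 LD3_c0)) = (LP (LK LD1_c15 LD2_c28 LD3_c39)) :=
  Lre_d IH (LK LD1_c25 LD2_c21 LD3_c0) (LK LD1_c15 LD2_c28 LD3_c39) Lrfl Lrfl
theorem f371488 : Led Lsl_gf (LP (LK LD1_c25 LD2_c21 LD3_c0)) = (LP (LK LD1_c26 LD2_c6 LD3_c14)) :=
  Lgr Lrot143 (Lpr_dt (f301366 IH) (Lpe (K21.f301389 IH) (Lpe (K22.f274495 IH) (Lpr_gf (f311397 IH) (Lpe (K25.f352061 IH) (Lpr_gf (f370411 IH) (Lpe (K27.f370397 IH) (Lpr_gt (f371486 IH) (Lpr_dt (f331304 IH) (Lpn (LP (LK LD1_c26 LD2_c6 LD3_c14))))))))))))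
theorem f301379 : Led Lsl_dt (LP (LK LD1_c15 LD2_c28 LD3_c39)) = (LP (LK LD1_c25 LD2_c21 LD3_c0)) :=
  Lre_d IH (LK LD1_c15 LD2_c28 LD3_c39) (LK LD1_c25 LD2_c21 LD3_c0) Lrfl Lrfl
theorem f359125 : Led Lsl_et (LP (LK LD1_c18 LD2_c34 LD3_c40)) = (LP (LK LD1_c17 LD2_c42 LD3_c12)) :=
  Lgr Lrot158 (Lpe (f312425 IH) (Lpr_ef (K26.f359119 IH) (Lpe (f347277 IH) (Lpn (LP (LK LD1_c17 LD2_c42 LD3_c12))))))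
theorem f312426 : Led Lsl_dt (LP (LK LD1_c18 LD2_c34 LD3_c40)) = (LP (LK LD1_c28 LD2_c9 LD3_c3)) :=
  Lre_d IH (LK LD1_c18 LD2_c34 LD3_c40) (LK LD1_c28 LD2_c9 LD3_c3) Lrfl Lrfl
theorem f371493 : Led Lsl_gf (LP (LK LD1_c28 LD2_c51 LD3_c35)) = (LP (LK LD1_c28 LD2_c9 LD3_c3)) :=
  Lgr Lrot145 (Lpe (K22.f303396 IH) (Lpr_et (K27.f370245 IH) (Lpr_gt (f371486 IH) (Lpr_dt (f331304 IH) (Lpe (f371488 IH) (Lpe (f301379 IH) (Lpr_et (K21.f301365 IH) (Lpe (f361301 IH) (Lpe (f359125 IH) (Lpr_dt (f312426 IH) (Lpn (LP (LK LD1_c28 LD2_c9 LD3_c3)))))))))))))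
theorem f374984 : Led Lsl_gf (LP (LK LD1_c18 LD2_c34 LD3_c40)) = (LP (LK LD1_c24 LD2_c50 LD3_c46)) :=
  Lgr Lrot144 (Lpr_dt (f312426 IH) (Lpe (f371493 IH) (Lpr_dt (K22.f303388 IH) (Lpe (K23.f303387 IH) (Lpr_df (K20.f317742 IH) (Lpe (f353630 IH) (Lpe (K22.f250371 IH) (Lpr_gf (K22.f335818 IH) (Lpr_cf (f374980 IH) (Lpn (LP (LK LD1_c24 LD2_c50 LD3_c46))))))))))))
theorem f730433 : Led Lsl_ff (LP (LK LD1_c25 LD2_c21 LD3_c20)) = (LP (LK LD1_c24 LD2_c50 LD3_c46)) :=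
  Lgr Lrot52 (Lpr_at (f730427 IH) (Lpe (f359129 IH) (Lpr_gf (f374984 IH) (Lpn (LP (LK LD1_c24 LD2_c50 LD3_c46))))))
theorem f730435 : Led Lsl_ft (LP (LK LD1_c25 LD2_c21 LD3_c20)) = (LP (LK LD1_c24 LD2_c50 LD3_c46)) :=
  Lgr Lrot48 (Lpr_ff (f730433 IH) (Lpn (LP (LK LD1_c24 LD2_c50 LD3_c46))))
theorem f254181 : Led Lsl_bt (LP (LK LD1_c24 LD2_c52 LD3_c18)) = (LP (LK LD1_c15 LD2_c3 LD3_c12)) :=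
  Lre_b IH (LK LD1_c24 LD2_c52 LD3_c18) (LK LD1_c15 LD2_c3 LD3_c12) Lrfl Lrfl
theorem f329923 : Led Lsl_bt (LP (LK LD1_c10 LD2_c11 LD3_c36)) = (LP (LK LD1_c15 LD2_c11 LD3_c24)) :=
  Lgr Lrot95 (Lpr_df (K14.f254179 IH) (Lpe (f254181 IH) (Lpr_df (K25.f329916 IH) (Lpn (LP (LK LD1_c15 LD2_c11 LD3_c24))))))
theorem f340679 : Led Lsl_gt (LP (LK LD1_c19 LD2_c6 LD3_c27)) = (LP (LK LD1_c18 LD2_c34 LD3_c7)) :=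
  Lgr Lrot65 (Lpe (K23.f190476 IH) (Lpr_bt (K14.f190474 IH) (Lpr_gf (K23.f340674 IH) (Lpe (K23.f340677 IH) (Lpr_ct (K20.f230656 IH) (Lpr_gf (K23.f321728 IH) (Lpr_cf (K18.f258957 IH) (Lpe (K22.f258990 IH) (Lpe (f329923 IH) (Lpr_ct (K20.f253663 IH) (Lpn (LP (LK LD1_c18 LD2_c34 LD3_c7)))))))))))))
theorem f378216 : Led Lsl_gf (LP (LK LD1_c24 LD2_c52 LD3_c20)) = (LP (LK LD1_c25 LD2_c21 LD3_c20)) :=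
  Lgr Lrot104 (Lpr_ct (K27.f254183 IH) (Lpe (K23.f254184 IH) (Lpe (K20.f254188 IH) (Lpe (f340679 IH) (Lpe (K23.f190476 IH) (Lpr_gf (K25.f351313 IH) (Lpr_df (K25.f355574 IH) (Lpr_gt (f378212 IH) (Lpe (K27.f353905 IH) (Lpn (LP (LK LD1_c25 LD2_c21 LD3_c20))))))))))))
theorem f730437 : Led Lsl_af (LP (LK LD1_c19 LD2_c42 LD3_c18)) = (LP (LK LD1_c24 LD2_c50 LD3_c46)) :=
  Lgr Lrot31 (Lpr_gf (K27.f370453 IH) (Lpr_gf (f378216 IH) (Lpr_ft (f730435 IH) (Lpn (LP (LK LD1_c24 LD2_c50 LD3_c46))))))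
theorem f730429 : Led Lsl_af (LP (LK LD1_c25 LD2_c21 LD3_c20)) = (LP (LK LD1_c27 LD2_c37 LD3_c0)) :=
  Lgr Lrot0 (Lpr_at (f730427 IH) (Lpn (LP (LK LD1_c27 LD2_c37 LD3_c0))))
theorem f730443 : Led Lsl_ft (LP (LK LD1_c19 LD2_c42 LD3_c18)) = (LP (LK LD1_c27 LD2_c37 LD3_c0)) :=
  Lgr Lrot101 (Lpr_af (f730437 IH) (Lpe (f730435 IH) (Lpr_af (f730429 IH) (Lpn (LP (LK LD1_c27 LD2_c37 LD3_c0))))))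
theorem f730449 : Led Lsl_ff (LP (LK LD1_c19 LD2_c42 LD3_c18)) = (LP (LK LD1_c27 LD2_c37 LD3_c0)) :=
  Lgr Lrot3 (Lpr_ft (f730443 IH) (Lpn (LP (LK LD1_c27 LD2_c37 LD3_c0))))
theorem f353748 : Led Lsl_gf (LP (LK LD1_c15 LD2_c28 LD3_c55)) = (LP (LK LD1_c17 LD2_c49 LD3_c61)) :=
  Lgr Lrot104 (Lpr_ct (f352939 IH) (Lpe (K25.f352090 IH) (Lpr_cf (K25.f353742 IH) (Lpr_gf (K25.f351815 IH) (Lpe (K25.f187290 IH) (Lpe (K25.f351607 IH) (Lpr_df (K25.f351613 IH) (Lpe (K27.f342391 IH) (Lpr_ct (K21.f213964 IH) (Lpn (LP (LK LD1_c17 LD2_c49 LD3_c61))))))))))))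
theorem f342395 : Led Lsl_dt (LP (LK LD1_c15 LD2_c28 LD3_c55)) = (LP (LK LD1_c25 LD2_c21 LD3_c22)) :=
  Lre_d IH (LK LD1_c15 LD2_c28 LD3_c55) (LK LD1_c25 LD2_c21 LD3_c22) Lrfl Lrfl
theorem f353750 : Led Lsl_gt (LP (LK LD1_c25 LD2_c21 LD3_c22)) = (LP (LK LD1_c24 LD2_c48 LD3_c36)) :=
  Lgr Lrot49 (Lpe (f342395 IH) (Lpr_gf (f353748 IH) (Lpe (K21.f213964 IH) (Lpe (K25.f325035 IH) (Lpe (K25.f351833 IH) (Lpr_gt (K25.f194304 IH) (Lpr_dt (K20.f247684 IH) (Lpe (K25.f199725 IH) (Lpe (K25.f199751 IH) (Lpn (LP (LK LD1_c24 LD2_c48 LD3_c36))))))))))))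
theorem f167998 : Led Lsl_gt (LP (LK LD1_c7 LD2_c58 LD3_c14)) = (LP (LK LD1_c15 LD2_c2 LD3_c11)) :=
  Lre_g IH (LK LD1_c7 LD2_c58 LD3_c14) (LK LD1_c15 LD2_c2 LD3_c11) Lrfl Lrfl
theorem f353753 : Led Lsl_et (LP (LK LD1_c15 LD2_c28 LD3_c55)) = (LP (LK LD1_c15 LD2_c2 LD3_c11)) :=
  Lgr Lrot122 (Lpr_dt (f342395 IH) (Lpr_gt (f353750 IH) (Lpe (K25.f247699 IH) (Lpr_et (K25.f282887 IH) (Lpr_gt (K18.f284608 IH) (Lpe (K18.f284610 IH) (Lpr_gt (K18.f218874 IH) (Lpe (K18.f218076 IH) (Lpr_et (f284614 IH) (Lpr_gt (f167998 IH) (Lpn (LP (LK LD1_c15 LD2_c2 LD3_c11)))))))))))))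
theorem f353760 : Led Lsl_ef (LP (LK LD1_c15 LD2_c28 LD3_c55)) = (LP (LK LD1_c15 LD2_c2 LD3_c11)) :=
  Lgr Lrot88 (Lpr_et (f353753 IH) (Lpn (LP (LK LD1_c15 LD2_c2 LD3_c11))))
theorem f730453 : Led Lsl_ft (LP (LK LD1_c10 LD2_c54 LD3_c20)) = (LP (LK LD1_c15 LD2_c2 LD3_c11)) :=
  Lgr Lrot86 (Lpe (K30.f339956 IH) (Lpr_ff (f730449 IH) (Lpe (K25.f266693 IH) (Lpe (f730321 IH) (Lpr_ef (f353760 IH) (Lpn (LP (LK LD1_c15 LD2_c2 LD3_c11))))))))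
theorem f339966 : Led Lsl_bt (LP (LK LD1_c19 LD2_c42 LD3_c16)) = (LP (LK LD1_c10 LD2_c54 LD3_c20)) :=
  Lre_b IH (LK LD1_c19 LD2_c42 LD3_c16) (LK LD1_c10 LD2_c54 LD3_c20) Lrfl Lrfl
theorem f353755 : Led Lsl_bt (LP (LK LD1_c15 LD2_c2 LD3_c11)) = (LP (LK LD1_c24 LD2_c50 LD3_c45)) :=
  Lre_b IH (LK LD1_c15 LD2_c2 LD3_c11) (LK LD1_c24 LD2_c50 LD3_c45) Lrfl Lrfl
theorem f730455 : Led Lsl_ff (LP (LK LD1_c19 LD2_c42 LD3_c16)) = (LP (LK LD1_c24 LD2_c50 LD3_c45)) :=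
  Lgr Lrot25 (Lpr_bt (f339966 IH) (Lpr_ft (f730453 IH) (Lpr_bt (f353755 IH) (Lpn (LP (LK LD1_c24 LD2_c50 LD3_c45))))))
theorem f730460 : Led Lsl_ft (LP (LK LD1_c19 LD2_c42 LD3_c16)) = (LP (LK LD1_c24 LD2_c50 LD3_c45)) :=
  Lgr Lrot48 (Lpr_ff (f730455 IH) (Lpn (LP (LK LD1_c24 LD2_c50 LD3_c45))))
theorem f339967 : Led Lsl_ct (LP (LK LD1_c10 LD2_c54 LD3_c23)) = (LP (LK LD1_c19 LD2_c42 LD3_c16)) :=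
  Lre_c IH (LK LD1_c10 LD2_c54 LD3_c23) (LK LD1_c19 LD2_c42 LD3_c16) Lrfl Lrfl
theorem f352094 : Led Lsl_ef (LP (LK LD1_c8 LD2_c54 LD3_c10)) = (LP (LK LD1_c10 LD2_c35 LD3_c41)) :=
  Lgr Lrot73 (Lpr_dt (K25.f275652 IH) (Lpr_et (K25.f352069 IH) (Lpr_dt (K25.f306489 IH) (Lpr_et (K25.f352073 IH) (Lpr_dt (K25.f352090 IH) (Lpn (LP (LK LD1_c10 LD2_c35 LD3_c41))))))))
theorem f353764 : Led Lsl_ct (LP (LK LD1_c8 LD2_c54 LD3_c10)) = (LP (LK LD1_c15 LD2_c2 LD3_c11)) :=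
  Lgr Lrot15 (Lpr_ef (f352094 IH) (Lpe (f352939 IH) (Lpr_ef (f353760 IH) (Lpn (LP (LK LD1_c15 LD2_c2 LD3_c11))))))
theorem f261855 : Led Lsl_ct (LP (LK LD1_c10 LD2_c53 LD3_c35)) = (LP (LK LD1_c5 LD2_c31 LD3_c1)) :=
  Lre_c IH (LK LD1_c10 LD2_c53 LD3_c35) (LK LD1_c5 LD2_c31 LD3_c1) Lrfl Lrfl
theorem f348417 : Led Lsl_bt (LP (LK LD1_c19 LD2_c41 LD3_c6)) = (LP (LK LD1_c10 LD2_c53 LD3_c35)) :=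
  Lre_b IH (LK LD1_c19 LD2_c41 LD3_c6) (LK LD1_c10 LD2_c53 LD3_c35) Lrfl Lrfl
theorem f353825 : Led Lsl_ct (LP (LK LD1_c24 LD2_c50 LD3_c45)) = (LP (LK LD1_c19 LD2_c41 LD3_c6)) :=
  Lgr Lrot83 (Lpe (f353755 IH) (Lpe (f353764 IH) (Lpr_bf (K54.f353821 IH) (Lpe (f261855 IH) (Lpe (f348417 IH) (Lpn (LP (LK LD1_c19 LD2_c41 LD3_c6))))))))
theorem f730462 : Led Lsl_ff (LP (LK LD1_c10 LD2_c54 LD3_c23)) = (LP (LK LD1_c19 LD2_c41 LD3_c6)) :=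
  Lgr Lrot23 (Lpr_ct (f339967 IH) (Lpr_ft (f730460 IH) (Lpr_ct (f353825 IH) (Lpn (LP (LK LD1_c19 LD2_c41 LD3_c6))))))
theorem f375327 : Led Lsl_bt (LP (LK LD1_c10 LD2_c54 LD3_c23)) = (LP (LK LD1_c5 LD2_c31 LD3_c23)) :=
  Lre_b IH (LK LD1_c10 LD2_c54 LD3_c23) (LK LD1_c5 LD2_c31 LD3_c23) Lrfl Lrfl
theorem f348411 : Led Lsl_bt (LP (LK LD1_c10 LD2_c53 LD3_c35)) = (LP (LK LD1_c19 LD2_c41 LD3_c6)) :=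
  Lre_b IH (LK LD1_c10 LD2_c53 LD3_c35) (LK LD1_c19 LD2_c41 LD3_c6) Lrfl Lrfl
theorem f730466 : Led Lsl_ft (LP (LK LD1_c5 LD2_c31 LD3_c23)) = (LP (LK LD1_c10 LD2_c53 LD3_c35)) :=
  Lgr Lrot75 (Lpe (f375327 IH) (Lpr_ff (f730462 IH) (Lpe (f348411 IH) (Lpn (LP (LK LD1_c10 LD2_c53 LD3_c35))))))
theorem f369999 : Led Lsl_cf (LP (LK LD1_c10 LD2_c54 LD3_c14)) = (LP (LK LD1_c8 LD2_c26 LD3_c55)) :=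
  Lgr Lrot11 (Lpr_ct (K27.f369996 IH) (Lpn (LP (LK LD1_c8 LD2_c26 LD3_c55))))
theorem f339982 : Led Lsl_bt (LP (LK LD1_c2 LD2_c41 LD3_c55)) = (LP (LK LD1_c5 LD2_c31 LD3_c22)) :=
  Lre_b IH (LK LD1_c2 LD2_c41 LD3_c55) (LK LD1_c5 LD2_c31 LD3_c22) Lrfl Lrfl
theorem f257183 : Led Lsl_ct (LP (LK LD1_c2 LD2_c41 LD3_c55)) = (LP (LK LD1_c5 LD2_c31 LD3_c23)) :=
  Lre_c IH (LK LD1_c2 LD2_c41 LD3_c55) (LK LD1_c5 LD2_c31 LD3_c23) Lrfl Lrfl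
theorem f375322 : Led Lsl_gt (LP (LK LD1_c10 LD2_c54 LD3_c14)) = (LP (LK LD1_c5 LD2_c31 LD3_c23)) :=
  Lgr Lrot149 (Lpr_cf (f369999 IH) (Lpe (K26.f363957 IH) (Lpe (K26.f264336 IH) (Lpr_ct (K23.f168793 IH) (Lpe (K23.f304367 IH) (Lpe (K25.f216346 IH) (Lpr_bt (K17.f218994 IH) (Lpe (K30.f339978 IH) (Lpe (f339982 IH) (Lpr_ct (f257183 IH) (Lpn (LP (LK LD1_c5 LD2_c31 LD3_c23)))))))))))))
theorem f375179 : Led Lsl_et (LP (LK LD1_c16 LD2_c40 LD3_c40)) = (LP (LK LD1_c8 LD2_c54 LD3_c52)) :=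
  Lre_e IH (LK LD1_c16 LD2_c40 LD3_c40) (LK LD1_c8 LD2_c54 LD3_c52) Lrfl Lrfl
theorem f295168 : Led Lsl_et (LP (LK LD1_c5 LD2_c14 LD3_c59)) = (LP (LK LD1_c10 LD2_c19 LD3_c21)) :=
  Lre_e IH (LK LD1_c5 LD2_c14 LD3_c59) (LK LD1_c10 LD2_c19 LD3_c21) Lrfl Lrfl
theorem f375180 : Led Lsl_bf (LP (LK LD1_c16 LD2_c40 LD3_c40)) = (LP (LK LD1_c10 LD2_c19 LD3_c21)) :=
  Lgr Lrot96 (Lpr_et (f375179 IH) (Lpr_bt (K31.f375138 IH) (Lpr_et (f295168 IH) (Lpn (LP (LK LD1_c10 LD2_c19 LD3_c21))))))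
theorem f218223 : Led Lsl_ct (LP (LK LD1_c16 LD2_c40 LD3_c40)) = (LP (LK LD1_c8 LD2_c54 LD3_c53)) :=
  Lre_c IH (LK LD1_c16 LD2_c40 LD3_c40) (LK LD1_c8 LD2_c54 LD3_c53) Lrfl Lrfl
theorem f218222 : Led Lsl_bt (LP (LK LD1_c8 LD2_c54 LD3_c53)) = (LP (LK LD1_c4 LD2_c28 LD3_c25)) :=
  Lre_b IH (LK LD1_c8 LD2_c54 LD3_c53) (LK LD1_c4 LD2_c28 LD3_c25) Lrfl Lrfl
theorem f218221 : Led Lsl_ct (LP (LK LD1_c4 LD2_c28 LD3_c25)) = (LP (LK LD1_c8 LD2_c54 LD3_c54)) :=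
  Lre_c IH (LK LD1_c4 LD2_c28 LD3_c25) (LK LD1_c8 LD2_c54 LD3_c54) Lrfl Lrfl
theorem f375201 : Led Lsl_ct (LP (LK LD1_c8 LD2_c26 LD3_c23)) = (LP (LK LD1_c10 LD2_c19 LD3_c21)) :=
  Lgr Lrot83 (Lpr_bf (K26.f218203 IH) (Lpe (f218221 IH) (Lpe (f218222 IH) (Lpe (f218223 IH) (Lpr_bf (f375180 IH) (Lpn (LP (LK LD1_c10 LD2_c19 LD3_c21))))))))
theorem f201156 : Led Lsl_ct (LP (LK LD1_c8 LD2_c26 LD3_c51)) = (LP (LK LD1_c4 LD2_c14 LD3_c10)) :=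
  Lre_c IH (LK LD1_c8 LD2_c26 LD3_c51) (LK LD1_c4 LD2_c14 LD3_c10) Lrfl Lrfl
theorem f375209 : Led Lsl_af (LP (LK LD1_c8 LD2_c26 LD3_c51)) = (LP (LK LD1_c10 LD2_c19 LD3_c21)) :=
  Lgr Lrot68 (Lpr_ct (f201156 IH) (Lpe (K26.f363963 IH) (Lpr_ct (f375201 IH) (Lpn (LP (LK LD1_c10 LD2_c19 LD3_c21))))))
theorem f375216 : Led Lsl_at (LP (LK LD1_c8 LD2_c26 LD3_c51)) = (LP (LK LD1_c10 LD2_c19 LD3_c21)) :=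
  Lgr Lrot100 (Lpr_af (f375209 IH) (Lpn (LP (LK LD1_c10 LD2_c19 LD3_c21))))
theorem f375324 : Led Lsl_gf (LP (LK LD1_c10 LD2_c19 LD3_c21)) = (LP (LK LD1_c5 LD2_c31 LD3_c23)) :=
  Lgr Lrot76 (Lpe (f375216 IH) (Lpe (K27.f370005 IH) (Lpr_gt (f375322 IH) (Lpn (LP (LK LD1_c5 LD2_c31 LD3_c23))))))
theorem f330240 : Led Lsl_af (LP (LK LD1_c10 LD2_c31 LD3_c28)) = (LP (LK LD1_c15 LD2_c12 LD3_c48)) :=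
  Lgr Lrot50 (Lpr_et (K21.f330238 IH) (Lpr_at (K23.f194482 IH) (Lpe (K19.f312149 IH) (Lpn (LP (LK LD1_c15 LD2_c12 LD3_c48))))))
theorem f342351 : Led Lsl_gt (LP (LK LD1_c5 LD2_c31 LD3_c18)) = (LP (LK LD1_c10 LD2_c31 LD3_c28)) :=
  Lgr Lrot46 (Lpr_gf (K23.f342348 IH) (Lpe (K21.f312261 IH) (Lpe (f330240 IH) (Lpn (LP (LK LD1_c10 LD2_c31 LD3_c28))))))
theorem f375211 : Led Lsl_gf (LP (LK LD1_c5 LD2_c31 LD3_c19)) = (LP (LK LD1_c10 LD2_c19 LD3_c21)) :=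
  Lgr Lrot129 (Lpe (K27.f185890 IH) (Lpr_bt (f342354 IH) (Lpr_gt (f342351 IH) (Lpe (K22.f235151 IH) (Lpr_ct (K22.f235156 IH) (Lpe (K26.f338030 IH) (Lpe (K26.f338033 IH) (Lpe (K26.f355525 IH) (Lpr_gt (K26.f218225 IH) (Lpr_ct (f375201 IH) (Lpn (LP (LK LD1_c10 LD2_c19 LD3_c21)))))))))))))
theorem f730473 : Led Lsl_af (LP (LK LD1_c5 LD2_c31 LD3_c19)) = (LP (LK LD1_c10 LD2_c53 LD3_c35)) :=
  Lgr Lrot31 (Lpr_gf (f375211 IH) (Lpr_gf (f375324 IH) (Lpr_ft (f730466 IH) (Lpn (LP (LK LD1_c10 LD2_c53 LD3_c35))))))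
theorem f358620 : Led Lsl_et (LP (LK LD1_c5 LD2_c31 LD3_c19)) = (LP (LK LD1_c10 LD2_c54 LD3_c17)) :=
  Lre_e IH (LK LD1_c5 LD2_c31 LD3_c19) (LK LD1_c10 LD2_c54 LD3_c17) Lrfl Lrfl
theorem f348407 : Led Lsl_et (LP (LK LD1_c5 LD2_c31 LD3_c1)) = (LP (LK LD1_c6 LD2_c6 LD3_c22)) :=
  Lgr Lrot87 (Lpr_ef (K54.f348395 IH) (Lpn (LP (LK LD1_c6 LD2_c6 LD3_c22))))
theorem f197542 : Led Lsl_ct (LP (LK LD1_c6 LD2_c6 LD3_c22)) = (LP (LK LD1_c11 LD2_c56 LD3_c2)) :=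
  Lre_c IH (LK LD1_c6 LD2_c6 LD3_c22) (LK LD1_c11 LD2_c56 LD3_c2) Lrfl Lrfl
theorem f348409 : Led Lsl_ef (LP (LK LD1_c10 LD2_c53 LD3_c35)) = (LP (LK LD1_c11 LD2_c56 LD3_c2)) :=
  Lgr Lrot28 (Lpr_ct (f261855 IH) (Lpr_et (f348407 IH) (Lpr_ct (f197542 IH) (Lpn (LP (LK LD1_c11 LD2_c56 LD3_c2))))))
theorem f730480 : Led Lsl_at (LP (LK LD1_c10 LD2_c54 LD3_c17)) = (LP (LK LD1_c11 LD2_c56 LD3_c2)) :=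
  Lgr Lrot80 (Lpe (f358620 IH) (Lpr_af (f730473 IH) (Lpr_ef (f348409 IH) (Lpn (LP (LK LD1_c11 LD2_c56 LD3_c2))))))
theorem f282956 : Led Lsl_ct (LP (LK LD1_c5 LD2_c31 LD3_c21)) = (LP (LK LD1_c10 LD2_c54 LD3_c17)) :=
  Lre_c IH (LK LD1_c5 LD2_c31 LD3_c21) (LK LD1_c10 LD2_c54 LD3_c17) Lrfl Lrfl
theorem f197546 : Led Lsl_ct (LP (LK LD1_c11 LD2_c56 LD3_c2)) = (LP (LK LD1_c6 LD2_c6 LD3_c22)) :=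
  Lre_c IH (LK LD1_c11 LD2_c56 LD3_c2) (LK LD1_c6 LD2_c6 LD3_c22) Lrfl Lrfl
theorem f730484 : Led Lsl_af (LP (LK LD1_c5 LD2_c31 LD3_c21)) = (LP (LK LD1_c6 LD2_c6 LD3_c22)) :=
  Lgr Lrot68 (Lpr_ct (f282956 IH) (Lpr_at (f730480 IH) (Lpr_ct (f197546 IH) (Lpn (LP (LK LD1_c6 LD2_c6 LD3_c22))))))
def v14862 : LQ := Led Lsl_ft (LP (LK LD1_c5 LD2_c26 LD3_c46))
theorem f726992 : Led Lsl_ft (LP (LK LD1_c5 LD2_c26 LD3_c46)) = v14862 :=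
  Lrfl
def v14861 : LQ := Led Lsl_at (LP (LK LD1_c5 LD2_c26 LD3_c46))
theorem f726988 : Led Lsl_at (LP (LK LD1_c5 LD2_c26 LD3_c46)) = v14861 :=
  Lrfl
theorem f726989 : Led Lsl_af (LP (LK LD1_c5 LD2_c26 LD3_c46)) = v14861 :=
  Lgr Lrot0 (Lpr_at (f726988 IH) (Lpn v14861))
theorem f726990 : Led Lsl_ft (LP (LK LD1_c5 LD2_c26 LD3_c47)) = v14861 :=
  Lgr Lrot2 (Lpr_gt (K23.f254629 IH) (Lpr_gt (K22.f236190 IH) (Lpr_af (f726989 IH) (Lpn v14861))))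
theorem f726993 : Led Lsl_af (LP (LK LD1_c5 LD2_c26 LD3_c47)) = v14862 :=
  Lgr Lrot45 (Lpr_ft (f726990 IH) (Lpe (f726989 IH) (Lpr_ft (f726992 IH) (Lpn v14862))))
theorem f730490 : (LP (LK LD1_c8 LD2_c16 LD3_c3)) = v14862 :=
  (Llr Lrot44 (Lpe (K18.f282944 IH) (Lpr_af (f730484 IH) (Lpe (K25.f348391 IH) (Lpr_af (f726993 IH) (Lpn v14862)))))).symm
theorem f730501 : Led Lsl_ff (LP (LK LD1_c10 LD2_c44 LD3_c44)) = (LP (LK LD1_c15 LD2_c15 LD3_c24)) :=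
  Lgr Lrot72 (Lpr_et (K22.f259340 IH) (Lpr_ft (f726992 IH) (Lpq (f730490 IH) (Lpe (K21.f285559 IH) (Lpr_ft (f697820 IH) (Lpq (f729973 IH) (Lpr_et (K17.f254514 IH) (Lpn (LP (LK LD1_c15 LD2_c15 LD3_c24))))))))))
theorem f730509 : Led Lsl_at (LP (LK LD1_c10 LD2_c44 LD3_c44)) = (LP (LK LD1_c15 LD2_c32 LD3_c36)) :=
  Lgr Lrot26 (Lpr_ff (f730501 IH) (Lpe (K23.f348372 IH) (Lpr_gt (K23.f348026 IH) (Lpn (LP (LK LD1_c15 LD2_c32 LD3_c36))))))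
theorem f730519 : v14861 = (LP (LK LD1_c8 LD2_c16 LD3_c2)) :=
  (Llr Lrot50 (Lpe (f726989 IH) (Lpr_et (K22.f259346 IH) (Lpr_at (f730509 IH) (Lpr_et (K23.f282991 IH) (Lpn (LP (LK LD1_c8 LD2_c16 LD3_c2)))))))).symm
theorem f348389 : Led Lsl_ct (LP (LK LD1_c10 LD2_c44 LD3_c45)) = (LP (LK LD1_c5 LD2_c26 LD3_c47)) :=
  Lre_c IH (LK LD1_c10 LD2_c44 LD3_c45) (LK LD1_c5 LD2_c26 LD3_c47) Lrfl Lrfl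
theorem f190078 : Led Lsl_ct (LP (LK LD1_c8 LD2_c16 LD3_c2)) = (LP (LK LD1_c15 LD2_c32 LD3_c35)) :=
  Lre_c IH (LK LD1_c8 LD2_c16 LD3_c2) (LK LD1_c15 LD2_c32 LD3_c35) Lrfl Lrfl
theorem f730524 : Led Lsl_ff (LP (LK LD1_c10 LD2_c44 LD3_c45)) = (LP (LK LD1_c15 LD2_c32 LD3_c35)) :=
  Lgr Lrot23 (Lpr_ct (f348389 IH) (Lpr_ft (f726990 IH) (Lpqs (f730519 IH) (Lpr_ct (f190078 IH) (Lpn (LP (LK LD1_c15 LD2_c32 LD3_c35)))))))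
theorem f730528 : Led Lsl_ft (LP (LK LD1_c10 LD2_c44 LD3_c45)) = (LP (LK LD1_c15 LD2_c32 LD3_c35)) :=
  Lgr Lrot48 (Lpr_ff (f730524 IH) (Lpn (LP (LK LD1_c15 LD2_c32 LD3_c35))))
theorem f730532 : Led Lsl_af (LP (LK LD1_c10 LD2_c44 LD3_c43)) = (LP (LK LD1_c15 LD2_c32 LD3_c35)) :=
  Lgr Lrot31 (Lpr_gf (K26.f353077 IH) (Lpr_gf (K25.f353791 IH) (Lpr_ft (f730528 IH) (Lpn (LP (LK LD1_c15 LD2_c32 LD3_c35))))))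
theorem f323280 : Led Lsl_dt (LP (LK LD1_c25 LD2_c25 LD3_c55)) = (LP (LK LD1_c15 LD2_c32 LD3_c35)) :=
  Lre_d IH (LK LD1_c25 LD2_c25 LD3_c55) (LK LD1_c15 LD2_c32 LD3_c35) Lrfl Lrfl
theorem f730536 : Led Lsl_at (LP (LK LD1_c19 LD2_c26 LD3_c13)) = (LP (LK LD1_c25 LD2_c25 LD3_c55)) :=
  Lgr Lrot51 (Lpe (K26.f335491 IH) (Lpr_af (f730532 IH) (Lpe (f323280 IH) (Lpn (LP (LK LD1_c25 LD2_c25 LD3_c55))))))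
theorem f358583 : Led Lsl_gf (LP (LK LD1_c8 LD2_c17 LD3_c13)) = (LP (LK LD1_c10 LD2_c47 LD3_c28)) :=
  Lgr Lrot126 (Lpe (K25.f199716 IH) (Lpe (K20.f199701 IH) (Lpr_gt (K26.f358566 IH) (Lpr_ct (K24.f167902 IH) (Lpr_gt (K24.f350584 IH) (Lpe (K16.f170732 IH) (Lpr_bt (K17.f170730 IH) (Lpr_gt (K22.f284235 IH) (Lpe (K25.f350336 IH) (Lpr_ct (K25.f323433 IH) (Lpn (LP (LK LD1_c10 LD2_c47 LD3_c28)))))))))))))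
theorem f285547 : Led Lsl_ct (LP (LK LD1_c15 LD2_c32 LD3_c35)) = (LP (LK LD1_c8 LD2_c16 LD3_c2)) :=
  Lre_c IH (LK LD1_c15 LD2_c32 LD3_c35) (LK LD1_c8 LD2_c16 LD3_c2) Lrfl Lrfl
theorem f358614 : Led Lsl_gt (LP (LK LD1_c15 LD2_c35 LD3_c0)) = (LP (LK LD1_c25 LD2_c25 LD3_c55)) :=
  Lgr Lrot49 (Lpe (K23.f226841 IH) (Lpr_gf (f358583 IH) (Lpe (K25.f323433 IH) (Lpe (K25.f340832 IH) (Lpr_dt (K18.f282976 IH) (Lpr_gt (K25.f190063 IH) (Lpe (K25.f335630 IH) (Lpe (f285547 IH) (Lpe (f323280 IH) (Lpn (LP (LK LD1_c25 LD2_c25 LD3_c55))))))))))))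
theorem f373353 : Led Lsl_af (LP (LK LD1_c9 LD2_c51 LD3_c27)) = (LP (LK LD1_c10 LD2_c40 LD3_c39)) :=
  Lgr Lrot31 (Lpe (K24.f309615 IH) (Lpr_gf (K44.f373351 IH) (Lpr_ft (K44.f284841 IH) (Lpn (LP (LK LD1_c10 LD2_c40 LD3_c39))))))
theorem f216924 : Led Lsl_et (LP (LK LD1_c5 LD2_c16 LD3_c56)) = (LP (LK LD1_c10 LD2_c23 LD3_c25)) :=
  Lre_e IH (LK LD1_c5 LD2_c16 LD3_c56) (LK LD1_c10 LD2_c23 LD3_c25) Lrfl Lrfl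
theorem f216925 : Led Lsl_cf (LP (LK LD1_c10 LD2_c40 LD3_c39)) = (LP (LK LD1_c10 LD2_c23 LD3_c25)) :=
  Lgr Lrot39 (Lpr_et (K18.f213043 IH) (Lpr_ct (K12.f216914 IH) (Lpr_et (f216924 IH) (Lpn (LP (LK LD1_c10 LD2_c23 LD3_c25))))))
theorem f373489 : Led Lsl_at (LP (LK LD1_c8 LD2_c6 LD3_c16)) = (LP (LK LD1_c10 LD2_c23 LD3_c25)) :=
  Lgr Lrot107 (Lpe (K13.f233872 IH) (Lpr_af (f373353 IH) (Lpr_cf (f216925 IH) (Lpn (LP (LK LD1_c10 LD2_c23 LD3_c25))))))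
theorem f233876 : Led Lsl_ft (LP (LK LD1_c15 LD2_c15 LD3_c32)) = (LP (LK LD1_c8 LD2_c6 LD3_c16)) :=
  Lre_f IH (LK LD1_c15 LD2_c15 LD3_c32) (LK LD1_c8 LD2_c6 LD3_c16) Lrfl Lrfl
theorem f168593 : Led Lsl_ct (LP (LK LD1_c4 LD2_c55 LD3_c21)) = (LP (LK LD1_c9 LD2_c42 LD3_c18)) :=
  Lre_c IH (LK LD1_c4 LD2_c55 LD3_c21) (LK LD1_c9 LD2_c42 LD3_c18) Lrfl Lrfl
theorem f330476 : Led Lsl_ct (LP (LK LD1_c10 LD2_c38 LD3_c52)) = (LP (LK LD1_c5 LD2_c24 LD3_c6)) :=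
  Lre_c IH (LK LD1_c10 LD2_c38 LD3_c52) (LK LD1_c5 LD2_c24 LD3_c6) Lrfl Lrfl
theorem f346120 : Led Lsl_gf (LP (LK LD1_c10 LD2_c38 LD3_c52)) = (LP (LK LD1_c9 LD2_c42 LD3_c18)) :=
  Lgr Lrot104 (Lpr_ct (f330476 IH) (Lpe (K21.f330458 IH) (Lpe (K22.f330492 IH) (Lpr_gf (K25.f345929 IH) (Lpe (K25.f257684 IH) (Lpe (K17.f283978 IH) (Lpe (K14.f55085 IH) (Lpr_gt (K25.f168574 IH) (Lpr_ct (f168593 IH) (Lpn (LP (LK LD1_c9 LD2_c42 LD3_c18))))))))))))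
theorem f346154 : Led Lsl_gt (LP (LK LD1_c4 LD2_c55 LD3_c36)) = (LP (LK LD1_c9 LD2_c42 LD3_c18)) :=
  Lgr Lrot5 (Lpr_ft (K22.f331538 IH) (Lpr_at (K22.f331539 IH) (Lpr_gf (f346120 IH) (Lpn (LP (LK LD1_c9 LD2_c42 LD3_c18))))))
theorem f330483 : Led Lsl_at (LP (LK LD1_c2 LD2_c38 LD3_c35)) = (LP (LK LD1_c5 LD2_c23 LD3_c61)) :=
  Lre_a IH (LK LD1_c2 LD2_c38 LD3_c35) (LK LD1_c5 LD2_c23 LD3_c61) Lrfl Lrfl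
theorem f342617 : Led Lsl_gf (LP (LK LD1_c5 LD2_c23 LD3_c61)) = (LP (LK LD1_c8 LD2_c57 LD3_c14)) :=
  Lgr Lrot76 (Lpe (f330483 IH) (Lpe (K20.f318339 IH) (Lpr_gt (K23.f342613 IH) (Lpn (LP (LK LD1_c8 LD2_c57 LD3_c14))))))
theorem f342619 : Led Lsl_bt (LP (LK LD1_c4 LD2_c29 LD3_c30)) = (LP (LK LD1_c8 LD2_c57 LD3_c14)) :=
  Lre_b IH (LK LD1_c4 LD2_c29 LD3_c30) (LK LD1_c8 LD2_c57 LD3_c14) Lrfl Lrfl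
theorem f282628 : Led Lsl_ct (LP (LK LD1_c4 LD2_c29 LD3_c30)) = (LP (LK LD1_c8 LD2_c57 LD3_c15)) :=
  Lre_c IH (LK LD1_c4 LD2_c29 LD3_c30) (LK LD1_c8 LD2_c57 LD3_c15) Lrfl Lrfl
theorem f233870 : Led Lsl_ft (LP (LK LD1_c9 LD2_c51 LD3_c27)) = (LP (LK LD1_c18 LD2_c2 LD3_c39)) :=
  Lre_f IH (LK LD1_c9 LD2_c51 LD3_c27) (LK LD1_c18 LD2_c2 LD3_c39) Lrfl Lrfl
theorem f233877 : Led Lsl_ct (LP (LK LD1_c18 LD2_c2 LD3_c39)) = (LP (LK LD1_c15 LD2_c15 LD3_c32)) :=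
  Lgr Lrot40 (Lpe (f233870 IH) (Lpr_cf (K13.f233861 IH) (Lpe (f233876 IH) (Lpn (LP (LK LD1_c15 LD2_c15 LD3_c32))))))
theorem f360461 : Led Lsl_gf (LP (LK LD1_c8 LD2_c57 LD3_c15)) = (LP (LK LD1_c15 LD2_c15 LD3_c32)) :=
  Lgr Lrot126 (Lpe (f282628 IH) (Lpr_bt (f342619 IH) (Lpe (f342617 IH) (Lpe (K22.f318366 IH) (Lpr_gt (f346154 IH) (Lpe (f168593 IH) (Lpe (K25.f325573 IH) (Lpr_gt (K26.f360457 IH) (Lpe (K44.f233868 IH) (Lpr_ct (f233877 IH) (Lpn (LP (LK LD1_c15 LD2_c15 LD3_c32)))))))))))))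
theorem f373499 : Led Lsl_gt (LP (LK LD1_c8 LD2_c57 LD3_c15)) = (LP (LK LD1_c10 LD2_c23 LD3_c25)) :=
  Lgr Lrot46 (Lpr_gf (f360461 IH) (Lpr_ft (f233876 IH) (Lpr_at (f373489 IH) (Lpn (LP (LK LD1_c10 LD2_c23 LD3_c25))))))
theorem f282631 : Led Lsl_ct (LP (LK LD1_c8 LD2_c57 LD3_c15)) = (LP (LK LD1_c4 LD2_c29 LD3_c30)) :=
  Lre_c IH (LK LD1_c8 LD2_c57 LD3_c15) (LK LD1_c4 LD2_c29 LD3_c30) Lrfl Lrfl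
theorem f252658 : Led Lsl_ct (LP (LK LD1_c5 LD2_c28 LD3_c13)) = (LP (LK LD1_c10 LD2_c47 LD3_c38)) :=
  Lre_c IH (LK LD1_c5 LD2_c28 LD3_c13) (LK LD1_c10 LD2_c47 LD3_c38) Lrfl Lrfl
theorem f252660 : Led Lsl_dt (LP (LK LD1_c19 LD2_c31 LD3_c30)) = (LP (LK LD1_c10 LD2_c47 LD3_c38)) :=
  Lre_d IH (LK LD1_c19 LD2_c31 LD3_c30) (LK LD1_c10 LD2_c47 LD3_c38) Lrfl Lrfl
theorem f49354 : Led Lsl_dt (LP (LK LD1_c10 LD2_c23 LD3_c25)) = (LP (LK LD1_c18 LD2_c51 LD3_c0)) :=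
  Lre_d IH (LK LD1_c10 LD2_c23 LD3_c25) (LK LD1_c18 LD2_c51 LD3_c0) Lrfl Lrfl
theorem f373501 : Led Lsl_gf (LP (LK LD1_c19 LD2_c31 LD3_c30)) = (LP (LK LD1_c18 LD2_c51 LD3_c0)) :=
  Lgr Lrot143 (Lpr_dt (f252660 IH) (Lpe (f252658 IH) (Lpr_df (K14.f252578 IH) (Lpr_gf (K15.f259202 IH) (Lpe (K15.f185020 IH) (Lpe (K23.f185025 IH) (Lpe (f282631 IH) (Lpr_gt (f373499 IH) (Lpr_dt (f49354 IH) (Lpn (LP (LK LD1_c18 LD2_c51 LD3_c0))))))))))))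
theorem f252659 : Led Lsl_ct (LP (LK LD1_c10 LD2_c19 LD3_c34)) = (LP (LK LD1_c5 LD2_c15 LD3_c3)) :=
  Lre_c IH (LK LD1_c10 LD2_c19 LD3_c34) (LK LD1_c5 LD2_c15 LD3_c3) Lrfl Lrfl
theorem f252662 : Led Lsl_gt (LP (LK LD1_c19 LD2_c31 LD3_c29)) = (LP (LK LD1_c10 LD2_c47 LD3_c38)) :=
  Lre_g IH (LK LD1_c19 LD2_c31 LD3_c29) (LK LD1_c10 LD2_c47 LD3_c38) Lrfl Lrfl
theorem f361718 : Led Lsl_ct (LP (LK LD1_c19 LD2_c54 LD3_c26)) = (LP (LK LD1_c19 LD2_c31 LD3_c29)) :=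
  Lgr Lrot152 (Lpr_gf (K54.f361708 IH) (Lpe (K14.f49176 IH) (Lpe (K18.f284835 IH) (Lpr_ct (K44.f188410 IH) (Lpr_gt (K44.f284854 IH) (Lpr_ct (f252659 IH) (Lpe (K15.f252568 IH) (Lpe (K26.f252661 IH) (Lpe (f252662 IH) (Lpn (LP (LK LD1_c19 LD2_c31 LD3_c29))))))))))))
theorem f360467 : Led Lsl_dt (LP (LK LD1_c11 LD2_c54 LD3_c57)) = (LP (LK LD1_c18 LD2_c2 LD3_c39)) :=
  Lgr Lrot79 (Lpe (K27.f359722 IH) (Lpr_df (K26.f360463 IH) (Lpe (K44.f233868 IH) (Lpn (LP (LK LD1_c18 LD2_c2 LD3_c39))))))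
theorem f233881 : Led Lsl_cf (LP (LK LD1_c18 LD2_c2 LD3_c39)) = (LP (LK LD1_c15 LD2_c15 LD3_c32)) :=
  Lgr Lrot11 (Lpr_ct (f233877 IH) (Lpn (LP (LK LD1_c15 LD2_c15 LD3_c32))))
theorem f233885 : Led Lsl_dt (LP (LK LD1_c25 LD2_c4 LD3_c54)) = (LP (LK LD1_c15 LD2_c15 LD3_c32)) :=
  Lre_d IH (LK LD1_c25 LD2_c4 LD3_c54) (LK LD1_c15 LD2_c15 LD3_c32) Lrfl Lrfl
theorem f252627 : Led Lsl_dt (LP (LK LD1_c10 LD2_c47 LD3_c38)) = (LP (LK LD1_c19 LD2_c31 LD3_c30)) :=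
  Lre_d IH (LK LD1_c10 LD2_c47 LD3_c38) (LK LD1_c19 LD2_c31 LD3_c30) Lrfl Lrfl
theorem f361724 : Led Lsl_gf (LP (LK LD1_c25 LD2_c4 LD3_c54)) = (LP (LK LD1_c19 LD2_c31 LD3_c30)) :=
  Lgr Lrot154 (Lpr_dt (f233885 IH) (Lpe (f233881 IH) (Lpe (f360467 IH) (Lpe (K26.f183704 IH) (Lpe (K14.f183703 IH) (Lpe (K27.f361706 IH) (Lpr_ct (f361718 IH) (Lpr_gt (f252662 IH) (Lpr_dt (f252627 IH) (Lpn (LP (LK LD1_c19 LD2_c31 LD3_c30))))))))))))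
theorem f170532 : Led Lsl_ct (LP (LK LD1_c5 LD2_c1 LD3_c14)) = (LP (LK LD1_c9 LD2_c52 LD3_c54)) :=
  Lre_c IH (LK LD1_c5 LD2_c1 LD3_c14) (LK LD1_c9 LD2_c52 LD3_c54) Lrfl Lrfl
theorem f366797 : Led Lsl_cf (LP (LK LD1_c8 LD2_c28 LD3_c7)) = (LP (LK LD1_c15 LD2_c19 LD3_c51)) :=
  Lgr Lrot108 (Lpe (K27.f366761 IH) (Lpr_ct (K20.f274761 IH) (Lpr_ft (K27.f366795 IH) (Lpn (LP (LK LD1_c15 LD2_c19 LD3_c51))))))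
theorem f371792 : Led Lsl_et (LP (LK LD1_c9 LD2_c52 LD3_c54)) = (LP (LK LD1_c15 LD2_c19 LD3_c51)) :=
  Lgr Lrot158 (Lpe (f170532 IH) (Lpr_ef (K53.f371788 IH) (Lpr_cf (f366797 IH) (Lpn (LP (LK LD1_c15 LD2_c19 LD3_c51))))))
theorem f371799 : Led Lsl_ft (LP (LK LD1_c5 LD2_c1 LD3_c11)) = (LP (LK LD1_c9 LD2_c52 LD3_c54)) :=
  Lre_f IH (LK LD1_c5 LD2_c1 LD3_c11) (LK LD1_c9 LD2_c52 LD3_c54) Lrfl Lrfl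
theorem f247732 : Led Lsl_et (LP (LK LD1_c2 LD2_c28 LD3_c19)) = (LP (LK LD1_c5 LD2_c1 LD3_c11)) :=
  Lre_e IH (LK LD1_c2 LD2_c28 LD3_c19) (LK LD1_c5 LD2_c1 LD3_c11) Lrfl Lrfl
theorem f266096 : Led Lsl_et (LP (LK LD1_c9 LD2_c51 LD3_c58)) = (LP (LK LD1_c5 LD2_c0 LD3_c47)) :=
  Lre_e IH (LK LD1_c9 LD2_c51 LD3_c58) (LK LD1_c5 LD2_c0 LD3_c47) Lrfl Lrfl
theorem f371800 : Led Lsl_ff (LP (LK LD1_c2 LD2_c28 LD3_c19)) = (LP (LK LD1_c5 LD2_c0 LD3_c47)) :=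
  Lgr Lrot72 (Lpr_et (f247732 IH) (Lpr_ft (f371799 IH) (Lpr_et (f371792 IH) (Lpe (K27.f366799 IH) (Lpr_et (f266096 IH) (Lpn (LP (LK LD1_c5 LD2_c0 LD3_c47))))))))
theorem f371808 : Led Lsl_at (LP (LK LD1_c2 LD2_c28 LD3_c19)) = (LP (LK LD1_c5 LD2_c0 LD3_c46)) :=
  Lgr Lrot26 (Lpr_ff (f371800 IH) (Lpr_gt (K15.f266093 IH) (Lpr_gt (K15.f186849 IH) (Lpn (LP (LK LD1_c5 LD2_c0 LD3_c46))))))
theorem f371815 : Led Lsl_af (LP (LK LD1_c5 LD2_c1 LD3_c10)) = (LP (LK LD1_c9 LD2_c51 LD3_c55)) :=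
  Lgr Lrot117 (Lpr_dt (K14.f247727 IH) (Lpr_at (f371808 IH) (Lpr_dt (K15.f186846 IH) (Lpn (LP (LK LD1_c9 LD2_c51 LD3_c55))))))
theorem f371828 : Led Lsl_ft (LP (LK LD1_c5 LD2_c1 LD3_c25)) = (LP (LK LD1_c9 LD2_c51 LD3_c55)) :=
  Lgr Lrot2 (Lpr_gt (K14.f247888 IH) (Lpr_gt (K14.f247728 IH) (Lpr_af (f371815 IH) (Lpn (LP (LK LD1_c9 LD2_c51 LD3_c55))))))
theorem f371839 : Led Lsl_ff (LP (LK LD1_c5 LD2_c1 LD3_c25)) = (LP (LK LD1_c9 LD2_c51 LD3_c55)) :=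
  Lgr Lrot3 (Lpr_ft (f371828 IH) (Lpn (LP (LK LD1_c9 LD2_c51 LD3_c55))))
theorem f371847 : Led Lsl_at (LP (LK LD1_c5 LD2_c1 LD3_c25)) = (LP (LK LD1_c9 LD2_c51 LD3_c57)) :=
  Lgr Lrot26 (Lpr_ff (f371839 IH) (Lpe (K15.f266106 IH) (Lpe (K14.f186868 IH) (Lpn (LP (LK LD1_c9 LD2_c51 LD3_c57))))))
theorem f371820 : Led Lsl_at (LP (LK LD1_c5 LD2_c1 LD3_c10)) = (LP (LK LD1_c9 LD2_c51 LD3_c55)) :=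
  Lgr Lrot100 (Lpr_af (f371815 IH) (Lpn (LP (LK LD1_c9 LD2_c51 LD3_c55))))
theorem f371859 : Led Lsl_ff (LP (LK LD1_c5 LD2_c1 LD3_c10)) = (LP (LK LD1_c9 LD2_c51 LD3_c57)) :=
  Lgr Lrot30 (Lpr_at (f371820 IH) (Lpe (f371839 IH) (Lpr_at (f371847 IH) (Lpn (LP (LK LD1_c9 LD2_c51 LD3_c57))))))
theorem f371863 : Led Lsl_ft (LP (LK LD1_c5 LD2_c1 LD3_c59)) = (LP (LK LD1_c9 LD2_c52 LD3_c13)) :=
  Lgr Lrot4 (Lpr_cf (K15.f247742 IH) (Lpr_ff (f371859 IH) (Lpe (K14.f248050 IH) (Lpn (LP (LK LD1_c9 LD2_c52 LD3_c13))))))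
theorem f371853 : Led Lsl_af (LP (LK LD1_c5 LD2_c1 LD3_c58)) = (LP (LK LD1_c9 LD2_c52 LD3_c13)) :=
  Lgr Lrot68 (Lpr_ct (K14.f247839 IH) (Lpr_at (f371847 IH) (Lpe (K14.f247954 IH) (Lpn (LP (LK LD1_c9 LD2_c52 LD3_c13))))))
theorem f3371 : Led Lsl_gt (LP (LK LD1_c9 LD2_c52 LD3_c14)) = (LP (LK LD1_c5 LD2_c0 LD3_c54)) :=
  Lre_g IH (LK LD1_c9 LD2_c52 LD3_c14) (LK LD1_c5 LD2_c0 LD3_c54) Lrfl Lrfl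
theorem f266110 : Led Lsl_ct (LP (LK LD1_c9 LD2_c52 LD3_c14)) = (LP (LK LD1_c9 LD2_c51 LD3_c55)) :=
  Lgr Lrot8 (Lpr_gt (f3371 IH) (Lpr_dt (K0.f3327 IH) (Lpr_gt (K10.f33365 IH) (Lpr_dt (K15.f33387 IH) (Lpr_cf (K15.f265939 IH) (Lpe (K15.f33385 IH) (Lpr_gf (K14.f247927 IH) (Lpr_df (K9.f46544 IH) (Lpr_gf (K15.f266106 IH) (Lpn (LP (LK LD1_c9 LD2_c51 LD3_c55))))))))))))
theorem f371843 : Led Lsl_ft (LP (LK LD1_c5 LD2_c1 LD3_c58)) = (LP (LK LD1_c9 LD2_c52 LD3_c14)) :=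
  Lgr Lrot4 (Lpr_cf (K14.f247807 IH) (Lpr_ff (f371839 IH) (Lpe (f266110 IH) (Lpn (LP (LK LD1_c9 LD2_c52 LD3_c14))))))
theorem f371865 : Led Lsl_af (LP (LK LD1_c5 LD2_c1 LD3_c59)) = (LP (LK LD1_c9 LD2_c52 LD3_c14)) :=
  Lgr Lrot45 (Lpr_ft (f371863 IH) (Lpe (f371853 IH) (Lpr_ft (f371843 IH) (Lpn (LP (LK LD1_c9 LD2_c52 LD3_c14))))))
theorem f266038 : Led Lsl_ct (LP (LK LD1_c5 LD2_c1 LD3_c48)) = (LP (LK LD1_c5 LD2_c1 LD3_c42)) :=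
  Lgr Lrot59 (Lpr_cf (K15.f266030 IH) (Lpn (LP (LK LD1_c5 LD2_c1 LD3_c42))))
theorem f265992 : Led Lsl_ct (LP (LK LD1_c8 LD2_c5 LD3_c41)) = (LP (LK LD1_c4 LD2_c2 LD3_c33)) :=
  Lre_c IH (LK LD1_c8 LD2_c5 LD3_c41) (LK LD1_c4 LD2_c2 LD3_c33) Lrfl Lrfl
theorem f266086 : Led Lsl_gf (LP (LK LD1_c8 LD2_c5 LD3_c41)) = (LP (LK LD1_c5 LD2_c9 LD3_c46)) :=
  Lgr Lrot179 (Lpr_ct (f265992 IH) (Lpr_gt (K44.f265990 IH) (Lpe (K22.f265987 IH) (Lpr_dt (K15.f252780 IH) (Lpr_cf (K15.f265961 IH) (Lpr_gf (K15.f265963 IH) (Lpe (f266038 IH) (Lpe (K15.f3584 IH) (Lpr_dt (K15.f266078 IH) (Lpn (LP (LK LD1_c5 LD2_c9 LD3_c46))))))))))))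
theorem f274778 : Led Lsl_df (LP (LK LD1_c9 LD2_c52 LD3_c14)) = (LP (LK LD1_c8 LD2_c5 LD3_c41)) :=
  Lgr Lrot153 (Lpr_gt (f3371 IH) (Lpr_dt (K0.f3327 IH) (Lpe (K0.f3317 IH) (Lpe (K0.f3316 IH) (Lpe (K16.f3721 IH) (Lpe (K19.f3722 IH) (Lpr_gf (K16.f274776 IH) (Lpe (K15.f22087 IH) (Lpe (f266086 IH) (Lpn (LP (LK LD1_c8 LD2_c5 LD3_c41))))))))))))
theorem f371920 : Led Lsl_at (LP (LK LD1_c5 LD2_c1 LD3_c21)) = (LP (LK LD1_c8 LD2_c5 LD3_c41)) :=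
  Lgr Lrot51 (Lpe (K15.f247925 IH) (Lpr_af (f371865 IH) (Lpr_df (f274778 IH) (Lpn (LP (LK LD1_c8 LD2_c5 LD3_c41))))))
theorem f3760 : Led Lsl_et (LP (LK LD1_c9 LD2_c53 LD3_c2)) = (LP (LK LD1_c5 LD2_c1 LD3_c21)) :=
  Lre_e IH (LK LD1_c9 LD2_c53 LD3_c2) (LK LD1_c5 LD2_c1 LD3_c21) Lrfl Lrfl
theorem f345935 : Led Lsl_et (LP (LK LD1_c8 LD2_c5 LD3_c41)) = (LP (LK LD1_c15 LD2_c14 LD3_c31)) :=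
  Lre_e IH (LK LD1_c8 LD2_c5 LD3_c41) (LK LD1_c15 LD2_c14 LD3_c31) Lrfl Lrfl
theorem f371938 : Led Lsl_af (LP (LK LD1_c9 LD2_c53 LD3_c2)) = (LP (LK LD1_c15 LD2_c14 LD3_c31)) :=
  Lgr Lrot50 (Lpr_et (f3760 IH) (Lpr_at (f371920 IH) (Lpr_et (f345935 IH) (Lpn (LP (LK LD1_c15 LD2_c14 LD3_c31))))))
theorem f252726 : Led Lsl_ct (LP (LK LD1_c9 LD2_c53 LD3_c2)) = (LP (LK LD1_c5 LD2_c1 LD3_c22)) :=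
  Lre_c IH (LK LD1_c9 LD2_c53 LD3_c2) (LK LD1_c5 LD2_c1 LD3_c22) Lrfl Lrfl
theorem f371942 : Led Lsl_at (LP (LK LD1_c5 LD2_c1 LD3_c22)) = (LP (LK LD1_c8 LD2_c5 LD3_c42)) :=
  Lgr Lrot107 (Lpe (f252726 IH) (Lpr_af (f371938 IH) (Lpe (K23.f246107 IH) (Lpn (LP (LK LD1_c8 LD2_c5 LD3_c42))))))
theorem f371981 : Led Lsl_af (LP (LK LD1_c9 LD2_c53 LD3_c3)) = (LP (LK LD1_c8 LD2_c6 LD3_c32)) :=
  Lgr Lrot117 (Lpr_dt (K21.f252727 IH) (Lpr_at (f371942 IH) (Lpr_dt (K19.f283782 IH) (Lpn (LP (LK LD1_c8 LD2_c6 LD3_c32))))))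
theorem f365018 : Led Lsl_at (LP (LK LD1_c10 LD2_c15 LD3_c33)) = (LP (LK LD1_c10 LD2_c0 LD3_c42)) :=
  Lgr Lrot100 (Lpr_af (K26.f365016 IH) (Lpn (LP (LK LD1_c10 LD2_c0 LD3_c42))))
theorem f371983 : Led Lsl_at (LP (LK LD1_c5 LD2_c28 LD3_c13)) = (LP (LK LD1_c5 LD2_c15 LD3_c41)) :=
  Lgr Lrot67 (Lpr_bf (K15.f252685 IH) (Lpr_af (f371981 IH) (Lpe (K27.f304222 IH) (Lpe (f365018 IH) (Lpe (K26.f291679 IH) (Lpn (LP (LK LD1_c5 LD2_c15 LD3_c41))))))))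
theorem f371989 : Led Lsl_af (LP (LK LD1_c10 LD2_c47 LD3_c38)) = (LP (LK LD1_c10 LD2_c20 LD3_c42)) :=
  Lgr Lrot68 (Lpr_ct (K26.f252661 IH) (Lpr_at (f371983 IH) (Lpr_ct (K26.f260615 IH) (Lpn (LP (LK LD1_c10 LD2_c20 LD3_c42))))))
theorem f291708 : Led Lsl_dt (LP (LK LD1_c18 LD2_c46 LD3_c30)) = (LP (LK LD1_c10 LD2_c20 LD3_c42)) :=
  Lre_d IH (LK LD1_c18 LD2_c46 LD3_c30) (LK LD1_c10 LD2_c20 LD3_c42) Lrfl Lrfl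
theorem f371991 : Led Lsl_at (LP (LK LD1_c19 LD2_c31 LD3_c30)) = (LP (LK LD1_c18 LD2_c46 LD3_c30)) :=
  Lgr Lrot51 (Lpe (f252627 IH) (Lpr_af (f371989 IH) (Lpe (f291708 IH) (Lpn (LP (LK LD1_c18 LD2_c46 LD3_c30))))))
theorem f326619 : Led Lsl_dt (LP (LK LD1_c19 LD2_c38 LD3_c31)) = (LP (LK LD1_c10 LD2_c51 LD3_c49)) :=
  Lre_d IH (LK LD1_c19 LD2_c38 LD3_c31) (LK LD1_c10 LD2_c51 LD3_c49) Lrfl Lrfl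
theorem f366414 : Led Lsl_ft (LP (LK LD1_c19 LD2_c31 LD3_c30)) = (LP (LK LD1_c19 LD2_c38 LD3_c31)) :=
  Lgr Lrot54 (Lpe (f252627 IH) (Lpr_ff (K27.f366410 IH) (Lpe (f326619 IH) (Lpn (LP (LK LD1_c19 LD2_c38 LD3_c31))))))
theorem f366416 : Led Lsl_ff (LP (LK LD1_c19 LD2_c31 LD3_c30)) = (LP (LK LD1_c19 LD2_c38 LD3_c31)) :=
  Lgr Lrot3 (Lpr_ft (f366414 IH) (Lpn (LP (LK LD1_c19 LD2_c38 LD3_c31))))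
theorem f372000 : Led Lsl_gt (LP (LK LD1_c15 LD2_c15 LD3_c31)) = (LP (LK LD1_c18 LD2_c46 LD3_c30)) :=
  Lgr Lrot46 (Lpe (K21.f326702 IH) (Lpe (f366416 IH) (Lpr_at (f371991 IH) (Lpn (LP (LK LD1_c18 LD2_c46 LD3_c30))))))
theorem f233879 : Led Lsl_ft (LP (LK LD1_c15 LD2_c15 LD3_c31)) = (LP (LK LD1_c25 LD2_c4 LD3_c54)) :=
  Lre_f IH (LK LD1_c15 LD2_c15 LD3_c31) (LK LD1_c25 LD2_c4 LD3_c54) Lrfl Lrfl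
theorem f354070 : Led Lsl_gt (LP (LK LD1_c18 LD2_c46 LD3_c30)) = (LP (LK LD1_c28 LD2_c16 LD3_c2)) :=
  Lre_g IH (LK LD1_c18 LD2_c46 LD3_c30) (LK LD1_c28 LD2_c16 LD3_c2) Lrfl Lrfl
theorem f372002 : Led Lsl_at (LP (LK LD1_c25 LD2_c4 LD3_c54)) = (LP (LK LD1_c28 LD2_c16 LD3_c2)) :=
  Lgr Lrot26 (Lpe (f233879 IH) (Lpr_gt (f372000 IH) (Lpr_gt (f354070 IH) (Lpn (LP (LK LD1_c28 LD2_c16 LD3_c2))))))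
theorem f372007 : Led Lsl_af (LP (LK LD1_c25 LD2_c4 LD3_c54)) = (LP (LK LD1_c28 LD2_c16 LD3_c2)) :=
  Lgr Lrot0 (Lpr_at (f372002 IH) (Lpn (LP (LK LD1_c28 LD2_c16 LD3_c2))))
theorem f373510 : Led Lsl_ff (LP (LK LD1_c28 LD2_c16 LD3_c2)) = (LP (LK LD1_c18 LD2_c51 LD3_c0)) :=
  Lgr Lrot52 (Lpe (f372007 IH) (Lpr_gf (f361724 IH) (Lpr_gf (f373501 IH) (Lpn (LP (LK LD1_c18 LD2_c51 LD3_c0))))))
theorem f373516 : Led Lsl_ft (LP (LK LD1_c28 LD2_c16 LD3_c2)) = (LP (LK LD1_c18 LD2_c51 LD3_c0)) :=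
  Lgr Lrot48 (Lpr_ff (f373510 IH) (Lpn (LP (LK LD1_c18 LD2_c51 LD3_c0))))
theorem f373495 : Led Lsl_af (LP (LK LD1_c15 LD2_c15 LD3_c31)) = (LP (LK LD1_c18 LD2_c51 LD3_c0)) :=
  Lgr Lrot117 (Lpr_dt (K21.f233867 IH) (Lpr_at (f373489 IH) (Lpr_dt (f49354 IH) (Lpn (LP (LK LD1_c18 LD2_c51 LD3_c0))))))
theorem f373520 : Led Lsl_gt (LP (LK LD1_c28 LD2_c16 LD3_c2)) = (LP (LK LD1_c19 LD2_c38 LD3_c31)) :=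
  Lgr Lrot5 (Lpr_ft (f373516 IH) (Lpe (f373495 IH) (Lpe (K21.f326702 IH) (Lpn (LP (LK LD1_c19 LD2_c38 LD3_c31))))))
theorem f284840 : Led Lsl_dt (LP (LK LD1_c18 LD2_c51 LD3_c0)) = (LP (LK LD1_c10 LD2_c23 LD3_c25)) :=
  Lre_d IH (LK LD1_c18 LD2_c51 LD3_c0) (LK LD1_c10 LD2_c23 LD3_c25) Lrfl Lrfl
theorem f361905 : Led Lsl_ft (LP (LK LD1_c10 LD2_c23 LD3_c25)) = (LP (LK LD1_c18 LD2_c51 LD3_c1)) :=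
  Lre_f IH (LK LD1_c10 LD2_c23 LD3_c25) (LK LD1_c18 LD2_c51 LD3_c1) Lrfl Lrfl
theorem f373518 : Led Lsl_df (LP (LK LD1_c28 LD2_c16 LD3_c2)) = (LP (LK LD1_c18 LD2_c51 LD3_c1)) :=
  Lgr Lrot78 (Lpr_ft (f373516 IH) (Lpr_dt (f284840 IH) (Lpr_ft (f361905 IH) (Lpn (LP (LK LD1_c18 LD2_c51 LD3_c1))))))
theorem f261899 : Led Lsl_ct (LP (LK LD1_c15 LD2_c15 LD3_c21)) = (LP (LK LD1_c8 LD2_c6 LD3_c11)) :=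
  Lre_c IH (LK LD1_c15 LD2_c15 LD3_c21) (LK LD1_c8 LD2_c6 LD3_c11) Lrfl Lrfl
theorem f373522 : Led Lsl_gf (LP (LK LD1_c18 LD2_c51 LD3_c1)) = (LP (LK LD1_c15 LD2_c15 LD3_c21)) :=
  Lgr Lrot144 (Lpe (f373518 IH) (Lpr_gt (f373520 IH) (Lpr_dt (f326619 IH) (Lpe (K25.f326620 IH) (Lpr_df (K21.f326617 IH) (Lpe (K21.f261898 IH) (Lpe (K15.f261788 IH) (Lpr_gf (K23.f261896 IH) (Lpe (f261899 IH) (Lpn (LP (LK LD1_c15 LD2_c15 LD3_c21))))))))))))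
theorem f261757 : Led Lsl_ct (LP (LK LD1_c8 LD2_c6 LD3_c11)) = (LP (LK LD1_c15 LD2_c15 LD3_c21)) :=
  Lre_c IH (LK LD1_c8 LD2_c6 LD3_c11) (LK LD1_c15 LD2_c15 LD3_c21) Lrfl Lrfl
theorem f373363 : Led Lsl_df (LP (LK LD1_c15 LD2_c50 LD3_c53)) = (LP (LK LD1_c19 LD2_c20 LD3_c3)) :=
  Lgr Lrot38 (Lpr_dt (K44.f373357 IH) (Lpn (LP (LK LD1_c19 LD2_c20 LD3_c3))))
theorem f373526 : Led Lsl_ct (LP (LK LD1_c18 LD2_c51 LD3_c1)) = (LP (LK LD1_c19 LD2_c20 LD3_c3)) :=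
  Lgr Lrot110 (Lpr_gf (f373522 IH) (Lpe (f261757 IH) (Lpe (K23.f236243 IH) (Lpr_df (K23.f340304 IH) (Lpr_gt (K23.f49138 IH) (Lpr_ct (K21.f260614 IH) (Lpr_gt (K21.f259484 IH) (Lpr_ct (K44.f326713 IH) (Lpr_df (f373363 IH) (Lpn (LP (LK LD1_c19 LD2_c20 LD3_c3))))))))))))
theorem f373535 : Led Lsl_cf (LP (LK LD1_c10 LD2_c23 LD3_c25)) = (LP (LK LD1_c10 LD2_c40 LD3_c39)) :=
  Lgr Lrot108 (Lpr_ft (f361905 IH) (Lpr_ct (f373526 IH) (Lpr_ft (K44.f284841 IH) (Lpn (LP (LK LD1_c10 LD2_c40 LD3_c39))))))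
theorem f342381 : Led Lsl_bt (LP (LK LD1_c4 LD2_c29 LD3_c29)) = (LP (LK LD1_c8 LD2_c2 LD3_c56)) :=
  Lgr Lrot127 (Lpr_bf (K23.f342379 IH) (Lpn (LP (LK LD1_c8 LD2_c2 LD3_c56))))
theorem f285561 : Led Lsl_ct (LP (LK LD1_c4 LD2_c29 LD3_c29)) = (LP (LK LD1_c8 LD2_c57 LD3_c12)) :=
  Lre_c IH (LK LD1_c4 LD2_c29 LD3_c29) (LK LD1_c8 LD2_c57 LD3_c12) Lrfl Lrfl
theorem f373538 : Led Lsl_gt (LP (LK LD1_c10 LD2_c23 LD3_c25)) = (LP (LK LD1_c8 LD2_c57 LD3_c12)) :=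
  Lgr Lrot149 (Lpr_cf (f373535 IH) (Lpe (K56.f352147 IH) (Lpe (K56.f333886 IH) (Lpe (K56.f333887 IH) (Lpe (K56.f293953 IH) (Lpe (K18.f269306 IH) (Lpr_bt (K20.f269305 IH) (Lpe (K19.f269300 IH) (Lpe (f342381 IH) (Lpr_ct (f285561 IH) (Lpn (LP (LK LD1_c8 LD2_c57 LD3_c12)))))))))))))
theorem f285569 : Led Lsl_ct (LP (LK LD1_c8 LD2_c57 LD3_c12)) = (LP (LK LD1_c4 LD2_c29 LD3_c29)) :=
  Lre_c IH (LK LD1_c8 LD2_c57 LD3_c12) (LK LD1_c4 LD2_c29 LD3_c29) Lrfl Lrfl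
theorem f285570 : Led Lsl_ef (LP (LK LD1_c8 LD2_c57 LD3_c12)) = (LP (LK LD1_c15 LD2_c32 LD3_c37)) :=
  Lgr Lrot28 (Lpr_ct (f285569 IH) (Lpr_et (K21.f285567 IH) (Lpr_ct (K23.f282948 IH) (Lpn (LP (LK LD1_c15 LD2_c32 LD3_c37))))))
theorem f282949 : Led Lsl_dt (LP (LK LD1_c15 LD2_c32 LD3_c37)) = (LP (LK LD1_c25 LD2_c25 LD3_c57)) :=
  Lre_d IH (LK LD1_c15 LD2_c32 LD3_c37) (LK LD1_c25 LD2_c25 LD3_c57) Lrfl Lrfl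
theorem f373540 : Led Lsl_gf (LP (LK LD1_c15 LD2_c35 LD3_c0)) = (LP (LK LD1_c25 LD2_c25 LD3_c57)) :=
  Lgr Lrot145 (Lpe (K23.f226841 IH) (Lpr_et (K23.f226840 IH) (Lpr_gt (K13.f234112 IH) (Lpr_dt (K13.f220566 IH) (Lpe (K14.f254786 IH) (Lpe (K15.f49355 IH) (Lpr_et (f216924 IH) (Lpr_gt (f373538 IH) (Lpr_ef (f285570 IH) (Lpr_dt (f282949 IH) (Lpn (LP (LK LD1_c25 LD2_c25 LD3_c57)))))))))))))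
theorem f730540 : Led Lsl_ff (LP (LK LD1_c19 LD2_c26 LD3_c13)) = (LP (LK LD1_c25 LD2_c25 LD3_c57)) :=
  Lgr Lrot52 (Lpr_at (f730536 IH) (Lpe (f358614 IH) (Lpr_gf (f373540 IH) (Lpn (LP (LK LD1_c25 LD2_c25 LD3_c57))))))
theorem f730546 : Led Lsl_ft (LP (LK LD1_c19 LD2_c26 LD3_c13)) = (LP (LK LD1_c25 LD2_c25 LD3_c57)) :=
  Lgr Lrot48 (Lpr_ff (f730540 IH) (Lpn (LP (LK LD1_c25 LD2_c25 LD3_c57))))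
theorem f730538 : Led Lsl_af (LP (LK LD1_c19 LD2_c26 LD3_c13)) = (LP (LK LD1_c25 LD2_c25 LD3_c55)) :=
  Lgr Lrot0 (Lpr_at (f730536 IH) (Lpn (LP (LK LD1_c25 LD2_c25 LD3_c55))))
theorem f730526 : Led Lsl_ft (LP (LK LD1_c19 LD2_c26 LD3_c16)) = (LP (LK LD1_c25 LD2_c25 LD3_c55)) :=
  Lgr Lrot54 (Lpe (K25.f348387 IH) (Lpr_ff (f730524 IH) (Lpe (f323280 IH) (Lpn (LP (LK LD1_c25 LD2_c25 LD3_c55))))))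
theorem f730548 : Led Lsl_af (LP (LK LD1_c19 LD2_c26 LD3_c16)) = (LP (LK LD1_c25 LD2_c25 LD3_c57)) :=
  Lgr Lrot45 (Lpr_ft (f730526 IH) (Lpe (f730538 IH) (Lpr_ft (f730546 IH) (Lpn (LP (LK LD1_c25 LD2_c25 LD3_c57))))))
theorem f730551 : Led Lsl_at (LP (LK LD1_c10 LD2_c44 LD3_c45)) = (LP (LK LD1_c15 LD2_c32 LD3_c37)) :=
  Lgr Lrot51 (Lpe (K25.f348388 IH) (Lpr_af (f730548 IH) (Lpe (f282949 IH) (Lpn (LP (LK LD1_c15 LD2_c32 LD3_c37))))))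
theorem f191313 : Led Lsl_gt (LP (LK LD1_c8 LD2_c15 LD3_c26)) = (LP (LK LD1_c10 LD2_c47 LD3_c37)) :=
  Lgr Lrot49 (Lpe (K26.f53483 IH) (Lpr_gf (K11.f53481 IH) (Lpe (K9.f49622 IH) (Lpr_gt (K10.f191183 IH) (Lpe (K10.f8419 IH) (Lpr_gt (K14.f175058 IH) (Lpr_dt (K14.f175071 IH) (Lpe (K15.f191311 IH) (Lpe (K17.f191312 IH) (Lpn (LP (LK LD1_c10 LD2_c47 LD3_c37))))))))))))
theorem f191340 : Led Lsl_dt (LP (LK LD1_c5 LD2_c28 LD3_c12)) = (LP (LK LD1_c10 LD2_c47 LD3_c37)) :=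
  Lre_d IH (LK LD1_c5 LD2_c28 LD3_c12) (LK LD1_c10 LD2_c47 LD3_c37) Lrfl Lrfl
theorem f191341 : Led Lsl_et (LP (LK LD1_c5 LD2_c28 LD3_c12)) = (LP (LK LD1_c10 LD2_c47 LD3_c38)) :=
  Lre_e IH (LK LD1_c5 LD2_c28 LD3_c12) (LK LD1_c10 LD2_c47 LD3_c38) Lrfl Lrfl
theorem f191342 : Led Lsl_gt (LP (LK LD1_c10 LD2_c47 LD3_c38)) = (LP (LK LD1_c19 LD2_c31 LD3_c28)) :=
  Lre_g IH (LK LD1_c10 LD2_c47 LD3_c38) (LK LD1_c19 LD2_c31 LD3_c28) Lrfl Lrfl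
theorem f191345 : Led Lsl_dt (LP (LK LD1_c19 LD2_c31 LD3_c28)) = (LP (LK LD1_c28 LD2_c54 LD3_c2)) :=
  Lre_d IH (LK LD1_c19 LD2_c31 LD3_c28) (LK LD1_c28 LD2_c54 LD3_c2) Lrfl Lrfl
theorem f340810 : Led Lsl_dt (LP (LK LD1_c25 LD2_c4 LD3_c29)) = (LP (LK LD1_c15 LD2_c15 LD3_c21)) :=
  Lre_d IH (LK LD1_c25 LD2_c4 LD3_c29) (LK LD1_c15 LD2_c15 LD3_c21) Lrfl Lrfl
theorem f340811 : Led Lsl_gf (LP (LK LD1_c25 LD2_c4 LD3_c29)) = (LP (LK LD1_c28 LD2_c54 LD3_c2)) :=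
  Lgr Lrot143 (Lpr_dt (f340810 IH) (Lpe (f261757 IH) (Lpe (K23.f261901 IH) (Lpr_gf (K23.f340808 IH) (Lpe (K23.f254496 IH) (Lpe (K14.f191320 IH) (Lpe (K26.f252661 IH) (Lpr_gt (f191342 IH) (Lpr_dt (f191345 IH) (Lpn (LP (LK LD1_c28 LD2_c54 LD3_c2))))))))))))
theorem f340927 : Led Lsl_dt (LP (LK LD1_c15 LD2_c15 LD3_c21)) = (LP (LK LD1_c25 LD2_c4 LD3_c29)) :=
  Lre_d IH (LK LD1_c15 LD2_c15 LD3_c21) (LK LD1_c25 LD2_c4 LD3_c29) Lrfl Lrfl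
theorem f353795 : Led Lsl_et (LP (LK LD1_c15 LD2_c15 LD3_c21)) = (LP (LK LD1_c10 LD2_c44 LD3_c45)) :=
  Lgr Lrot185 (Lpr_dt (f340927 IH) (Lpr_gf (f340811 IH) (Lpe (f191345 IH) (Lpe (f191342 IH) (Lpe (f191341 IH) (Lpr_dt (f191340 IH) (Lpe (f191313 IH) (Lpe (K26.f53483 IH) (Lpr_et (K25.f191344 IH) (Lpr_gf (K25.f353791 IH) (Lpn (LP (LK LD1_c10 LD2_c44 LD3_c45)))))))))))))
theorem f730555 : Led Lsl_af (LP (LK LD1_c15 LD2_c15 LD3_c21)) = (LP (LK LD1_c8 LD2_c57 LD3_c12)) :=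
  Lgr Lrot50 (Lpr_et (f353795 IH) (Lpr_at (f730551 IH) (Lpe (f285570 IH) (Lpn (LP (LK LD1_c8 LD2_c57 LD3_c12))))))
theorem f729909 : Led Lsl_ff (LP (LK LD1_c8 LD2_c57 LD3_c15)) = (LP (LK LD1_c15 LD2_c15 LD3_c21)) :=
  Lgr Lrot23 (Lpr_ct (f282631 IH) (Lpr_ft (f697818 IH) (Lpq (f729904 IH) (Lpr_ct (f261757 IH) (Lpn (LP (LK LD1_c15 LD2_c15 LD3_c21)))))))
theorem f729978 : Led Lsl_ff (LP (LK LD1_c8 LD2_c57 LD3_c12)) = (LP (LK LD1_c15 LD2_c15 LD3_c23)) :=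
  Lgr Lrot23 (Lpr_ct (f285569 IH) (Lpr_ft (f697820 IH) (Lpq (f729973 IH) (Lpr_ct (K21.f261912 IH) (Lpn (LP (LK LD1_c15 LD2_c15 LD3_c23)))))))
theorem f730565 : Led Lsl_at (LP (LK LD1_c8 LD2_c57 LD3_c15)) = (LP (LK LD1_c15 LD2_c15 LD3_c23)) :=
  Lgr Lrot66 (Lpr_ff (f729909 IH) (Lpr_af (f730555 IH) (Lpr_ff (f729978 IH) (Lpn (LP (LK LD1_c15 LD2_c15 LD3_c23))))))
theorem f730567 : Led Lsl_af (LP (LK LD1_c8 LD2_c57 LD3_c15)) = (LP (LK LD1_c15 LD2_c15 LD3_c23)) :=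
  Lgr Lrot0 (Lpr_at (f730565 IH) (Lpn (LP (LK LD1_c15 LD2_c15 LD3_c23))))
theorem f360473 : Led Lsl_gt (LP (LK LD1_c8 LD2_c57 LD3_c12)) = (LP (LK LD1_c15 LD2_c15 LD3_c32)) :=
  Lgr Lrot65 (Lpe (f285561 IH) (Lpr_bt (f342381 IH) (Lpe (K19.f218978 IH) (Lpe (K17.f218965 IH) (Lpe (K17.f218969 IH) (Lpr_gf (K23.f312471 IH) (Lpe (K23.f300197 IH) (Lpr_gf (K26.f360469 IH) (Lpe (K44.f233868 IH) (Lpr_ct (f233877 IH) (Lpn (LP (LK LD1_c15 LD2_c15 LD3_c32)))))))))))))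
theorem f730585 : Led Lsl_ft (LP (LK LD1_c8 LD2_c57 LD3_c12)) = (LP (LK LD1_c15 LD2_c15 LD3_c23)) :=
  Lgr Lrot2 (Lpr_gt (f360473 IH) (Lpe (f360461 IH) (Lpr_af (f730567 IH) (Lpn (LP (LK LD1_c15 LD2_c15 LD3_c23))))))
theorem f285704 : Led Lsl_dt (LP (LK LD1_c16 LD2_c45 LD3_c51)) = (LP (LK LD1_c8 LD2_c57 LD3_c12)) :=
  Lre_d IH (LK LD1_c16 LD2_c45 LD3_c51) (LK LD1_c8 LD2_c57 LD3_c12) Lrfl Lrfl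
theorem f261914 : Led Lsl_dt (LP (LK LD1_c15 LD2_c15 LD3_c23)) = (LP (LK LD1_c25 LD2_c4 LD3_c32)) :=
  Lre_d IH (LK LD1_c15 LD2_c15 LD3_c23) (LK LD1_c25 LD2_c4 LD3_c32) Lrfl Lrfl
theorem f730591 : Led Lsl_ff (LP (LK LD1_c16 LD2_c45 LD3_c51)) = (LP (LK LD1_c25 LD2_c4 LD3_c32)) :=
  Lgr Lrot19 (Lpr_dt (f285704 IH) (Lpr_ft (f730585 IH) (Lpr_dt (f261914 IH) (Lpn (LP (LK LD1_c25 LD2_c4 LD3_c32))))))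
theorem f730596 : Led Lsl_ft (LP (LK LD1_c16 LD2_c45 LD3_c51)) = (LP (LK LD1_c25 LD2_c4 LD3_c32)) :=
  Lgr Lrot48 (Lpr_ff (f730591 IH) (Lpn (LP (LK LD1_c25 LD2_c4 LD3_c32))))
theorem f730600 : Led Lsl_bt (LP (LK LD1_c26 LD2_c44 LD3_c38)) = (LP (LK LD1_c16 LD2_c45 LD3_c51)) :=
  Lre_b IH (LK LD1_c26 LD2_c44 LD3_c38) (LK LD1_c16 LD2_c45 LD3_c51) Lrfl Lrfl
theorem f730579 : Led Lsl_bt (LP (LK LD1_c25 LD2_c4 LD3_c32)) = (LP (LK LD1_c31 LD2_c45 LD3_c30)) :=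
  Lre_b IH (LK LD1_c25 LD2_c4 LD3_c32) (LK LD1_c31 LD2_c45 LD3_c30) Lrfl Lrfl
theorem f730620 : Led Lsl_ff (LP (LK LD1_c26 LD2_c44 LD3_c38)) = (LP (LK LD1_c31 LD2_c45 LD3_c30)) :=
  Lgr Lrot25 (Lpr_bt (f730600 IH) (Lpr_ft (f730596 IH) (Lpr_bt (f730579 IH) (Lpn (LP (LK LD1_c31 LD2_c45 LD3_c30))))))
theorem f285698 : Led Lsl_dt (LP (LK LD1_c26 LD2_c44 LD3_c38)) = (LP (LK LD1_c16 LD2_c45 LD3_c50)) :=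
  Lre_d IH (LK LD1_c26 LD2_c44 LD3_c38) (LK LD1_c16 LD2_c45 LD3_c50) Lrfl Lrfl
theorem f401502 : Led Lsl_dt (LP (LK LD1_c25 LD2_c4 LD3_c31)) = (LP (LK LD1_c31 LD2_c45 LD3_c30)) :=
  Lre_d IH (LK LD1_c25 LD2_c4 LD3_c31) (LK LD1_c31 LD2_c45 LD3_c30) Lrfl Lrfl
theorem f730622 : Led Lsl_ft (LP (LK LD1_c16 LD2_c45 LD3_c50)) = (LP (LK LD1_c25 LD2_c4 LD3_c31)) :=
  Lgr Lrot54 (Lpe (f285698 IH) (Lpr_ff (f730620 IH) (Lpe (f401502 IH) (Lpn (LP (LK LD1_c25 LD2_c4 LD3_c31))))))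
theorem f285692 : Led Lsl_bt (LP (LK LD1_c8 LD2_c57 LD3_c12)) = (LP (LK LD1_c16 LD2_c45 LD3_c50)) :=
  Lre_b IH (LK LD1_c8 LD2_c57 LD3_c12) (LK LD1_c16 LD2_c45 LD3_c50) Lrfl Lrfl
theorem f366446 : Led Lsl_bt (LP (LK LD1_c15 LD2_c53 LD3_c54)) = (LP (LK LD1_c8 LD2_c27 LD3_c61)) :=
  Lre_b IH (LK LD1_c15 LD2_c53 LD3_c54) (LK LD1_c8 LD2_c27 LD3_c61) Lrfl Lrfl
theorem f366447 : Led Lsl_ct (LP (LK LD1_c16 LD2_c45 LD3_c50)) = (LP (LK LD1_c15 LD2_c53 LD3_c54)) :=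
  Lgr Lrot83 (Lpe (f285692 IH) (Lpe (f285561 IH) (Lpr_bf (K23.f342379 IH) (Lpr_cf (K53.f366442 IH) (Lpe (f366446 IH) (Lpn (LP (LK LD1_c15 LD2_c53 LD3_c54))))))))
theorem f366473 : Led Lsl_cf (LP (LK LD1_c16 LD2_c45 LD3_c50)) = (LP (LK LD1_c15 LD2_c53 LD3_c54)) :=
  Lgr Lrot11 (Lpr_ct (f366447 IH) (Lpn (LP (LK LD1_c15 LD2_c53 LD3_c54))))
theorem f293076 : Led Lsl_bt (LP (LK LD1_c8 LD2_c8 LD3_c27)) = (LP (LK LD1_c15 LD2_c19 LD3_c46)) :=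
  Lre_b IH (LK LD1_c8 LD2_c8 LD3_c27) (LK LD1_c15 LD2_c19 LD3_c46) Lrfl Lrfl
theorem f261915 : Led Lsl_ct (LP (LK LD1_c15 LD2_c15 LD3_c23)) = (LP (LK LD1_c8 LD2_c6 LD3_c12)) :=
  Lre_c IH (LK LD1_c15 LD2_c15 LD3_c23) (LK LD1_c8 LD2_c6 LD3_c12) Lrfl Lrfl
theorem f330518 : Led Lsl_bt (LP (LK LD1_c25 LD2_c4 LD3_c31)) = (LP (LK LD1_c15 LD2_c15 LD3_c23)) :=
  Lre_b IH (LK LD1_c25 LD2_c4 LD3_c31) (LK LD1_c15 LD2_c15 LD3_c23) Lrfl Lrfl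
theorem f330539 : Led Lsl_ct (LP (LK LD1_c15 LD2_c19 LD3_c46)) = (LP (LK LD1_c25 LD2_c4 LD3_c31)) :=
  Lgr Lrot83 (Lpe (f293076 IH) (Lpe (K18.f246106 IH) (Lpr_bf (K21.f330532 IH) (Lpe (f261915 IH) (Lpe (f330518 IH) (Lpn (LP (LK LD1_c25 LD2_c4 LD3_c31))))))))
theorem f401500 : Led Lsl_cf (LP (LK LD1_c15 LD2_c19 LD3_c46)) = (LP (LK LD1_c25 LD2_c4 LD3_c31)) :=
  Lgr Lrot11 (Lpr_ct (f330539 IH) (Lpn (LP (LK LD1_c25 LD2_c4 LD3_c31))))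
theorem f730624 : Led Lsl_ff (LP (LK LD1_c15 LD2_c53 LD3_c54)) = (LP (LK LD1_c15 LD2_c19 LD3_c46)) :=
  Lgr Lrot23 (Lpe (f366473 IH) (Lpr_ft (f730622 IH) (Lpe (f401500 IH) (Lpn (LP (LK LD1_c15 LD2_c19 LD3_c46))))))
theorem f730626 : Led Lsl_ft (LP (LK LD1_c15 LD2_c53 LD3_c54)) = (LP (LK LD1_c15 LD2_c19 LD3_c46)) :=
  Lgr Lrot48 (Lpr_ff (f730624 IH) (Lpn (LP (LK LD1_c15 LD2_c19 LD3_c46))))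
theorem f366456 : Led Lsl_bt (LP (LK LD1_c8 LD2_c27 LD3_c61)) = (LP (LK LD1_c15 LD2_c53 LD3_c54)) :=
  Lre_b IH (LK LD1_c8 LD2_c27 LD3_c61) (LK LD1_c15 LD2_c53 LD3_c54) Lrfl Lrfl
theorem f265693 : Led Lsl_bt (LP (LK LD1_c15 LD2_c19 LD3_c46)) = (LP (LK LD1_c8 LD2_c8 LD3_c27)) :=
  Lre_b IH (LK LD1_c15 LD2_c19 LD3_c46) (LK LD1_c8 LD2_c8 LD3_c27) Lrfl Lrfl
theorem f730628 : Led Lsl_ff (LP (LK LD1_c8 LD2_c27 LD3_c61)) = (LP (LK LD1_c8 LD2_c8 LD3_c27)) :=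
  Lgr Lrot25 (Lpr_bt (f366456 IH) (Lpr_ft (f730626 IH) (Lpr_bt (f265693 IH) (Lpn (LP (LK LD1_c8 LD2_c8 LD3_c27))))))
theorem f730632 : Led Lsl_at (LP (LK LD1_c8 LD2_c27 LD3_c61)) = (LP (LK LD1_c8 LD2_c8 LD3_c25)) :=
  Lgr Lrot26 (Lpr_ff (f730628 IH) (Lpr_gt (K18.f265685 IH) (Lpe (K23.f345938 IH) (Lpn (LP (LK LD1_c8 LD2_c8 LD3_c25))))))
theorem f366449 : Led Lsl_et (LP (LK LD1_c11 LD2_c4 LD3_c27)) = (LP (LK LD1_c8 LD2_c27 LD3_c61)) :=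
  Lgr Lrot158 (Lpe (K23.f338627 IH) (Lpe (K19.f305578 IH) (Lpr_cf (K53.f366442 IH) (Lpn (LP (LK LD1_c8 LD2_c27 LD3_c61))))))
theorem f730638 : Led Lsl_af (LP (LK LD1_c11 LD2_c4 LD3_c27)) = (LP (LK LD1_c15 LD2_c16 LD3_c59)) :=
  Lgr Lrot50 (Lpr_et (f366449 IH) (Lpr_at (f730632 IH) (Lpr_et (K23.f346233 IH) (Lpn (LP (LK LD1_c15 LD2_c16 LD3_c59))))))
theorem f226906 : Led Lsl_gt (LP (LK LD1_c15 LD2_c22 LD3_c36)) = (LP (LK LD1_c8 LD2_c9 LD3_c49)) :=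
  Lre_g IH (LK LD1_c15 LD2_c22 LD3_c36) (LK LD1_c8 LD2_c9 LD3_c49) Lrfl Lrfl
theorem f366467 : Led Lsl_dt (LP (LK LD1_c11 LD2_c4 LD3_c27)) = (LP (LK LD1_c15 LD2_c22 LD3_c36)) :=
  Lgr Lrot136 (Lpr_et (f366449 IH) (Lpe (K46.f228354 IH) (Lpe (K46.f228264 IH) (Lpe (K17.f228260 IH) (Lpe (K12.f178108 IH) (Lpr_df (K13.f228156 IH) (Lpe (K12.f226897 IH) (Lpe (K24.f226792 IH) (Lpr_dt (K19.f226793 IH) (Lpe (f226906 IH) (Lpn (LP (LK LD1_c15 LD2_c22 LD3_c36)))))))))))))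
theorem f346246 : Led Lsl_dt (LP (LK LD1_c15 LD2_c53 LD3_c22)) = (LP (LK LD1_c15 LD2_c16 LD3_c59)) :=
  Lgr Lrot42 (Lpr_df (K23.f346242 IH) (Lpn (LP (LK LD1_c15 LD2_c16 LD3_c59))))
theorem f730644 : Led Lsl_at (LP (LK LD1_c15 LD2_c22 LD3_c36)) = (LP (LK LD1_c15 LD2_c53 LD3_c22)) :=
  Lgr Lrot51 (Lpe (f366467 IH) (Lpr_af (f730638 IH) (Lpe (f346246 IH) (Lpn (LP (LK LD1_c15 LD2_c53 LD3_c22))))))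
theorem f730646 : Led Lsl_af (LP (LK LD1_c15 LD2_c22 LD3_c36)) = (LP (LK LD1_c15 LD2_c53 LD3_c22)) :=
  Lgr Lrot0 (Lpr_at (f730644 IH) (Lpn (LP (LK LD1_c15 LD2_c53 LD3_c22))))
theorem f366469 : Led Lsl_gf (LP (LK LD1_c15 LD2_c22 LD3_c36)) = (LP (LK LD1_c15 LD2_c53 LD3_c24)) :=
  Lgr Lrot134 (Lpe (f366467 IH) (Lpr_et (f366449 IH) (Lpr_gt (K53.f366440 IH) (Lpr_ef (K20.f319715 IH) (Lpr_dt (K19.f220997 IH) (Lpr_gt (K24.f314505 IH) (Lpr_df (K23.f347037 IH) (Lpe (K23.f347027 IH) (Lpr_gt (K24.f347009 IH) (Lpr_dt (K24.f314939 IH) (Lpn (LP (LK LD1_c15 LD2_c53 LD3_c24)))))))))))))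
theorem f730648 : Led Lsl_ft (LP (LK LD1_c15 LD2_c22 LD3_c35)) = (LP (LK LD1_c15 LD2_c53 LD3_c22)) :=
  Lgr Lrot2 (Lpr_gt (K26.f350572 IH) (Lpe (f366469 IH) (Lpr_af (f730646 IH) (Lpn (LP (LK LD1_c15 LD2_c53 LD3_c22))))))
theorem f730654 : Led Lsl_ff (LP (LK LD1_c15 LD2_c22 LD3_c35)) = (LP (LK LD1_c15 LD2_c53 LD3_c22)) :=
  Lgr Lrot3 (Lpr_ft (f730648 IH) (Lpn (LP (LK LD1_c15 LD2_c53 LD3_c22))))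
theorem f238366 : Led Lsl_gt (LP (LK LD1_c8 LD2_c27 LD3_c41)) = (LP (LK LD1_c15 LD2_c53 LD3_c21)) :=
  Lre_g IH (LK LD1_c8 LD2_c27 LD3_c41) (LK LD1_c15 LD2_c53 LD3_c21) Lrfl Lrfl
theorem f730660 : Led Lsl_at (LP (LK LD1_c15 LD2_c22 LD3_c35)) = (LP (LK LD1_c15 LD2_c53 LD3_c21)) :=
  Lgr Lrot26 (Lpr_ff (f730654 IH) (Lpr_gt (K23.f228253 IH) (Lpr_gt (f238366 IH) (Lpn (LP (LK LD1_c15 LD2_c53 LD3_c21))))))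
theorem f730668 : Led Lsl_ff (LP (LK LD1_c15 LD2_c22 LD3_c36)) = (LP (LK LD1_c15 LD2_c53 LD3_c21)) :=
  Lgr Lrot30 (Lpr_at (f730644 IH) (Lpe (f730654 IH) (Lpr_at (f730660 IH) (Lpn (LP (LK LD1_c15 LD2_c53 LD3_c21))))))
theorem f730672 : Led Lsl_ft (LP (LK LD1_c15 LD2_c22 LD3_c36)) = (LP (LK LD1_c15 LD2_c53 LD3_c21)) :=
  Lgr Lrot48 (Lpr_ff (f730668 IH) (Lpn (LP (LK LD1_c15 LD2_c53 LD3_c21))))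
theorem f310602 : Led Lsl_dt (LP (LK LD1_c15 LD2_c53 LD3_c21)) = (LP (LK LD1_c15 LD2_c16 LD3_c56)) :=
  Lgr Lrot113 (Lpe (f238366 IH) (Lpe (K19.f228252 IH) (Lpe (K22.f238356 IH) (Lpr_ct (K23.f310597 IH) (Lpr_gt (K19.f170729 IH) (Lpe (K21.f187938 IH) (Lpr_gt (K20.f187945 IH) (Lpr_dt (K20.f310581 IH) (Lpr_ct (K24.f194715 IH) (Lpn (LP (LK LD1_c15 LD2_c16 LD3_c56))))))))))))
theorem f730674 : Led Lsl_ff (LP (LK LD1_c11 LD2_c4 LD3_c27)) = (LP (LK LD1_c15 LD2_c16 LD3_c56)) :=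
  Lgr Lrot19 (Lpr_dt (f366467 IH) (Lpr_ft (f730672 IH) (Lpr_dt (f310602 IH) (Lpn (LP (LK LD1_c15 LD2_c16 LD3_c56))))))
theorem f729969 : Led Lsl_ff (LP (LK LD1_c8 LD2_c8 LD3_c27)) = (LP (LK LD1_c8 LD2_c27 LD3_c61)) :=
  Lgr Lrot23 (Lpr_ct (K25.f246105 IH) (Lpr_ft (f689323 IH) (Lpqs (f729964 IH) (Lpe (K53.f348017 IH) (Lpn (LP (LK LD1_c8 LD2_c27 LD3_c61)))))))
theorem f730680 : Led Lsl_ft (LP (LK LD1_c15 LD2_c19 LD3_c48)) = (LP (LK LD1_c25 LD2_c6 LD3_c58)) :=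
  Lgr Lrot86 (Lpe (K26.f332897 IH) (Lpr_ff (f729969 IH) (Lpe (f366449 IH) (Lpr_ff (f730674 IH) (Lpe (K24.f310611 IH) (Lpn (LP (LK LD1_c25 LD2_c6 LD3_c58))))))))
theorem f730686 : Led Lsl_af (LP (LK LD1_c19 LD2_c57 LD3_c0)) = (LP (LK LD1_c25 LD2_c6 LD3_c58)) :=
  Lgr Lrot31 (Lpe (K26.f350530 IH) (Lpe (K23.f340270 IH) (Lpr_ft (f730680 IH) (Lpn (LP (LK LD1_c25 LD2_c6 LD3_c58))))))
theorem f730690 : Led Lsl_at (LP (LK LD1_c27 LD2_c24 LD3_c2)) = (LP (LK LD1_c25 LD2_c23 LD3_c2)) :=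
  Lgr Lrot51 (Lpe (K24.f274577 IH) (Lpr_af (f730686 IH) (Lpe (K24.f332818 IH) (Lpn (LP (LK LD1_c25 LD2_c23 LD3_c2))))))
theorem f730698 : Led Lsl_ff (LP (LK LD1_c27 LD2_c24 LD3_c2)) = (LP (LK LD1_c25 LD2_c23 LD3_c1)) :=
  Lgr Lrot52 (Lpr_at (f730690 IH) (Lpr_gf (K24.f350378 IH) (Lpr_gf (K22.f327209 IH) (Lpn (LP (LK LD1_c25 LD2_c23 LD3_c1))))))
theorem f730706 : Led Lsl_ft (LP (LK LD1_c27 LD2_c24 LD3_c2)) = (LP (LK LD1_c25 LD2_c23 LD3_c1)) :=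
  Lgr Lrot48 (Lpr_ff (f730698 IH) (Lpn (LP (LK LD1_c25 LD2_c23 LD3_c1))))
theorem f730712 : Led Lsl_af (LP (LK LD1_c25 LD2_c10 LD3_c55)) = (LP (LK LD1_c25 LD2_c23 LD3_c1)) :=
  Lgr Lrot31 (Lpe (K18.f265681 IH) (Lpe (K24.f265662 IH) (Lpr_ft (f730706 IH) (Lpn (LP (LK LD1_c25 LD2_c23 LD3_c1))))))
theorem f730716 : Led Lsl_at (LP (LK LD1_c15 LD2_c19 LD3_c48)) = (LP (LK LD1_c15 LD2_c53 LD3_c58)) :=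
  Lgr Lrot51 (Lpe (K18.f243991 IH) (Lpr_af (f730712 IH) (Lpr_df (K21.f233817 IH) (Lpn (LP (LK LD1_c15 LD2_c53 LD3_c58))))))
theorem f730736 : Led Lsl_af (LP (LK LD1_c8 LD2_c8 LD3_c29)) = (LP (LK LD1_c15 LD2_c9 LD3_c18)) :=
  Lgr Lrot68 (Lpr_ct (K23.f243999 IH) (Lpr_at (f730716 IH) (Lpe (K21.f314289 IH) (Lpn (LP (LK LD1_c15 LD2_c9 LD3_c18))))))
theorem f730770 : Led Lsl_ft (LP (LK LD1_c20 LD2_c57 LD3_c2)) = (LP (LK LD1_c15 LD2_c9 LD3_c18)) :=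
  Lgr Lrot2 (Lpr_gt (K19.f305612 IH) (Lpr_gt (K21.f327379 IH) (Lpr_af (f730736 IH) (Lpn (LP (LK LD1_c15 LD2_c9 LD3_c18))))))
theorem f730772 : Led Lsl_ff (LP (LK LD1_c20 LD2_c57 LD3_c2)) = (LP (LK LD1_c15 LD2_c9 LD3_c18)) :=
  Lgr Lrot3 (Lpr_ft (f730770 IH) (Lpn (LP (LK LD1_c15 LD2_c9 LD3_c18))))
theorem f730776 : Led Lsl_ft (LP (LK LD1_c11 LD2_c53 LD3_c26)) = (LP (LK LD1_c8 LD2_c6 LD3_c59)) :=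
  Lgr Lrot86 (Lpe (K19.f42481 IH) (Lpr_ff (f730772 IH) (Lpe (K22.f314294 IH) (Lpqs (f729939 IH) (Lpe (f689325 IH) (Lpr_ef (K23.f346212 IH) (Lpn (LP (LK LD1_c8 LD2_c6 LD3_c59)))))))))
theorem f730778 : Led Lsl_af (LP (LK LD1_c11 LD2_c53 LD3_c27)) = (LP (LK LD1_c8 LD2_c6 LD3_c59)) :=
  Lgr Lrot31 (Lpe (K19.f305574 IH) (Lpr_gf (K19.f305599 IH) (Lpr_ft (f730776 IH) (Lpn (LP (LK LD1_c8 LD2_c6 LD3_c59))))))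
theorem f730495 : Led Lsl_ff (LP (LK LD1_c8 LD2_c6 LD3_c58)) = (LP (LK LD1_c11 LD2_c53 LD3_c27)) :=
  Lgr Lrot25 (Lpe (K26.f330380 IH) (Lpr_ft (f726992 IH) (Lpq (f730490 IH) (Lpr_bt (K23.f342383 IH) (Lpn (LP (LK LD1_c11 LD2_c53 LD3_c27)))))))
theorem f730780 : Led Lsl_at (LP (LK LD1_c8 LD2_c6 LD3_c58)) = (LP (LK LD1_c11 LD2_c53 LD3_c26)) :=
  Lgr Lrot66 (Lpr_ff (f730495 IH) (Lpr_af (f730778 IH) (Lpe (f730776 IH) (Lpn (LP (LK LD1_c11 LD2_c53 LD3_c26))))))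
theorem f730784 : Led Lsl_af (LP (LK LD1_c8 LD2_c39 LD3_c15)) = (LP (LK LD1_c8 LD2_c7 LD3_c40)) :=
  Lgr Lrot117 (Lpr_dt (K20.f310581 IH) (Lpr_at (f730780 IH) (Lpr_dt (K19.f305634 IH) (Lpn (LP (LK LD1_c8 LD2_c7 LD3_c40))))))
theorem f730786 : Led Lsl_at (LP (LK LD1_c8 LD2_c39 LD3_c15)) = (LP (LK LD1_c8 LD2_c7 LD3_c40)) :=
  Lgr Lrot100 (Lpr_af (f730784 IH) (Lpn (LP (LK LD1_c8 LD2_c7 LD3_c40))))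
theorem f346971 : Led Lsl_ft (LP (LK LD1_c19 LD2_c55 LD3_c20)) = (LP (LK LD1_c16 LD2_c11 LD3_c19)) :=
  Lgr Lrot48 (Lpr_ff (K23.f346967 IH) (Lpn (LP (LK LD1_c16 LD2_c11 LD3_c19))))
theorem f177609 : Led Lsl_gt (LP (LK LD1_c21 LD2_c2 LD3_c27)) = (LP (LK LD1_c11 LD2_c57 LD3_c20)) :=
  Lre_g IH (LK LD1_c21 LD2_c2 LD3_c27) (LK LD1_c11 LD2_c57 LD3_c20) Lrfl Lrfl
theorem f394593 : Led Lsl_gt (LP (LK LD1_c19 LD2_c55 LD3_c20)) = (LP (LK LD1_c21 LD2_c2 LD3_c27)) :=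
  Lgr Lrot5 (Lpr_ft (f346971 IH) (Lpe (K23.f346952 IH) (Lpe (f177609 IH) (Lpn (LP (LK LD1_c21 LD2_c2 LD3_c27))))))
theorem f255288 : Led Lsl_et (LP (LK LD1_c6 LD2_c7 LD3_c14)) = (LP (LK LD1_c2 LD2_c59 LD3_c46)) :=
  Lre_e IH (LK LD1_c6 LD2_c7 LD3_c14) (LK LD1_c2 LD2_c59 LD3_c46) Lrfl Lrfl
theorem f240743 : Led Lsl_et (LP (LK LD1_c4 LD2_c14 LD3_c33)) = (LP (LK LD1_c8 LD2_c27 LD3_c47)) :=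
  Lre_e IH (LK LD1_c4 LD2_c14 LD3_c33) (LK LD1_c8 LD2_c27 LD3_c47) Lrfl Lrfl
theorem f231570 : Led Lsl_gt (LP (LK LD1_c8 LD2_c27 LD3_c47)) = (LP (LK LD1_c15 LD2_c53 LD3_c27)) :=
  Lre_g IH (LK LD1_c8 LD2_c27 LD3_c47) (LK LD1_c15 LD2_c53 LD3_c27) Lrfl Lrfl
theorem f255289 : Led Lsl_et (LP (LK LD1_c25 LD2_c49 LD3_c30)) = (LP (LK LD1_c15 LD2_c53 LD3_c27)) :=
  Lre_e IH (LK LD1_c25 LD2_c49 LD3_c30) (LK LD1_c15 LD2_c53 LD3_c27) Lrfl Lrfl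
theorem f255290 : Led Lsl_df (LP (LK LD1_c21 LD2_c2 LD3_c27)) = (LP (LK LD1_c25 LD2_c49 LD3_c30)) :=
  Lgr Lrot170 (Lpr_gt (f177609 IH) (Lpe (K20.f177594 IH) (Lpr_et (f255288 IH) (Lpr_gt (K14.f255274 IH) (Lpr_dt (K14.f255278 IH) (Lpe (K20.f255279 IH) (Lpe (K13.f32047 IH) (Lpr_et (f240743 IH) (Lpr_gt (f231570 IH) (Lpe (f255289 IH) (Lpn (LP (LK LD1_c25 LD2_c49 LD3_c30)))))))))))))
theorem f255297 : Led Lsl_dt (LP (LK LD1_c21 LD2_c2 LD3_c27)) = (LP (LK LD1_c25 LD2_c49 LD3_c30)) :=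
  Lgr Lrot42 (Lpr_df (f255290 IH) (Lpn (LP (LK LD1_c25 LD2_c49 LD3_c30))))
theorem f394597 : Led Lsl_cf (LP (LK LD1_c16 LD2_c12 LD3_c30)) = (LP (LK LD1_c25 LD2_c49 LD3_c30)) :=
  Lgr Lrot14 (Lpr_df (K23.f266656 IH) (Lpe (K19.f293515 IH) (Lpe (K18.f269261 IH) (Lpr_gf (K20.f293341 IH) (Lpr_ct (K21.f322819 IH) (Lpe (K20.f322807 IH) (Lpr_dt (K23.f314199 IH) (Lpr_gt (f394593 IH) (Lpr_dt (f255297 IH) (Lpn (LP (LK LD1_c25 LD2_c49 LD3_c30))))))))))))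
theorem f255299 : Led Lsl_et (LP (LK LD1_c15 LD2_c53 LD3_c27)) = (LP (LK LD1_c25 LD2_c49 LD3_c30)) :=
  Lre_e IH (LK LD1_c15 LD2_c53 LD3_c27) (LK LD1_c25 LD2_c49 LD3_c30) Lrfl Lrfl
theorem f394599 : Led Lsl_ct (LP (LK LD1_c8 LD2_c39 LD3_c15)) = (LP (LK LD1_c15 LD2_c53 LD3_c27)) :=
  Lgr Lrot15 (Lpe (K20.f266653 IH) (Lpr_cf (f394597 IH) (Lpe (f255299 IH) (Lpn (LP (LK LD1_c15 LD2_c53 LD3_c27))))))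
theorem f394603 : Led Lsl_cf (LP (LK LD1_c8 LD2_c39 LD3_c15)) = (LP (LK LD1_c15 LD2_c53 LD3_c27)) :=
  Lgr Lrot11 (Lpr_ct (f394599 IH) (Lpn (LP (LK LD1_c15 LD2_c53 LD3_c27))))
theorem f878324 : Led Lsl_af (LP (LK LD1_c15 LD2_c53 LD3_c27)) = v35781 :=
  Lgr Lrot68 (Lpe (f394603 IH) (Lpr_at (f730786 IH) (Lpr_ct (f878323 IH) (Lpn v35781))))
theorem f316837 : Led Lsl_gt (LP (LK LD1_c11 LD2_c2 LD3_c51)) = (LP (LK LD1_c19 LD2_c54 LD3_c21)) :=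
  Lre_g IH (LK LD1_c11 LD2_c2 LD3_c51) (LK LD1_c19 LD2_c54 LD3_c21) Lrfl Lrfl
theorem f394605 : Led Lsl_dt (LP (LK LD1_c19 LD2_c54 LD3_c21)) = (LP (LK LD1_c15 LD2_c53 LD3_c27)) :=
  Lgr Lrot113 (Lpe (f316837 IH) (Lpe (K24.f316836 IH) (Lpe (K23.f335790 IH) (Lpe (K23.f346996 IH) (Lpr_gt (K21.f201020 IH) (Lpe (K10.f194742 IH) (Lpr_gt (K20.f194713 IH) (Lpe (K20.f310573 IH) (Lpr_ct (f394599 IH) (Lpn (LP (LK LD1_c15 LD2_c53 LD3_c27))))))))))))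
theorem f394608 : Led Lsl_df (LP (LK LD1_c19 LD2_c54 LD3_c21)) = (LP (LK LD1_c15 LD2_c53 LD3_c27)) :=
  Lgr Lrot38 (Lpr_dt (f394605 IH) (Lpn (LP (LK LD1_c15 LD2_c53 LD3_c27))))
theorem f878329 : Led Lsl_af (LP (LK LD1_c11 LD2_c4 LD3_c6)) = (LP (LK LD1_c19 LD2_c54 LD3_c21)) :=
  Lgr Lrot117 (Lpr_dt (f878327 IH) (Lpe (f878324 IH) (Lpe (f394608 IH) (Lpn (LP (LK LD1_c19 LD2_c54 LD3_c21))))))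
theorem f878330 : Led Lsl_at (LP (LK LD1_c19 LD2_c54 LD3_c21)) = (LP (LK LD1_c11 LD2_c4 LD3_c6)) :=
  Leop (Lpr_af (f878329 IH) (Lpn (LP (LK LD1_c19 LD2_c54 LD3_c21))))
theorem seed_2045 : LEOK LG_a (LK LD1_c19 LD2_c54 LD3_c21) :=
  Leoe_a (LK LD1_c19 LD2_c54 LD3_c21) (f878330 IH)
def v35800 : LQ := Led Lsl_ct (LP (LK LD1_c8 LD2_c9 LD3_c0))
theorem f878441 : Led Lsl_ct (LP (LK LD1_c8 LD2_c9 LD3_c0)) = v35800 :=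
  Lrfl
theorem f332411 : Led Lsl_at (LP (LK LD1_c10 LD2_c41 LD3_c20)) = (LP (LK LD1_c9 LD2_c43 LD3_c60)) :=
  Lgr Lrot51 (Lpe (K22.f218370 IH) (Lpr_af (K22.f332391 IH) (Lpe (K22.f332410 IH) (Lpn (LP (LK LD1_c9 LD2_c43 LD3_c60))))))
theorem f332468 : Led Lsl_gt (LP (LK LD1_c8 LD2_c57 LD3_c61)) = (LP (LK LD1_c9 LD2_c43 LD3_c60)) :=
  Lgr Lrot46 (Lpr_gf (K31.f332466 IH) (Lpe (K41.f332427 IH) (Lpr_at (f332411 IH) (Lpn (LP (LK LD1_c9 LD2_c43 LD3_c60))))))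
theorem f878449 : Led Lsl_gt (LP (LK LD1_c15 LD2_c53 LD3_c31)) = v35800 :=
  Lgr Lrot65 (Lpr_cf (K31.f388002 IH) (Lpr_bt (K31.f388001 IH) (Lpe (K31.f388024 IH) (Lpe (K31.f332537 IH) (Lpr_ct (K22.f332518 IH) (Lpe (f332468 IH) (Lpe (K31.f319653 IH) (Lpr_gf (K31.f319768 IH) (Lpr_bf (K31.f387876 IH) (Lpr_ct (f878441 IH) (Lpn v35800)))))))))))
theorem f172930 : Led Lsl_ct (LP (LK LD1_c5 LD2_c34 LD3_c40)) = (LP (LK LD1_c2 LD2_c43 LD3_c15)) :=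
  Lre_c IH (LK LD1_c5 LD2_c34 LD3_c40) (LK LD1_c2 LD2_c43 LD3_c15) Lrfl Lrfl
theorem f354505 : Led Lsl_ct (LP (LK LD1_c19 LD2_c52 LD3_c61)) = (LP (LK LD1_c11 LD2_c1 LD3_c41)) :=
  Lre_c IH (LK LD1_c19 LD2_c52 LD3_c61) (LK LD1_c11 LD2_c1 LD3_c41) Lrfl Lrfl
theorem f878446 : Led Lsl_df (LP (LK LD1_c19 LD2_c52 LD3_c61)) = v35800 :=
  Lgr Lrot106 (Lpr_ct (f354505 IH) (Lpr_dt (K54.f179467 IH) (Lpr_ct (f172930 IH) (Lpr_dt (K20.f179180 IH) (Lpr_ct (K22.f178140 IH) (Lpe (K30.f314876 IH) (Lpe (K30.f314877 IH) (Lpr_dt (K31.f387873 IH) (Lpr_ct (f878441 IH) (Lpn v35800))))))))))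
theorem f172940 : Led Lsl_ct (LP (LK LD1_c11 LD2_c1 LD3_c41)) = (LP (LK LD1_c19 LD2_c52 LD3_c61)) :=
  Lre_c IH (LK LD1_c11 LD2_c1 LD3_c41) (LK LD1_c19 LD2_c52 LD3_c61) Lrfl Lrfl
theorem f172928 : Led Lsl_dt (LP (LK LD1_c5 LD2_c34 LD3_c40)) = (LP (LK LD1_c11 LD2_c1 LD3_c41)) :=
  Lre_d IH (LK LD1_c5 LD2_c34 LD3_c40) (LK LD1_c11 LD2_c1 LD3_c41) Lrfl Lrfl
theorem f172874 : Led Lsl_gt (LP (LK LD1_c11 LD2_c1 LD3_c40)) = (LP (LK LD1_c5 LD2_c34 LD3_c40)) :=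
  Lre_g IH (LK LD1_c11 LD2_c1 LD3_c40) (LK LD1_c5 LD2_c34 LD3_c40) Lrfl Lrfl
theorem f399730 : Led Lsl_df (LP (LK LD1_c2 LD2_c41 LD3_c60)) = (LP (LK LD1_c5 LD2_c29 LD3_c12)) :=
  Lgr Lrot38 (Lpr_dt (K31.f399720 IH) (Lpn (LP (LK LD1_c5 LD2_c29 LD3_c12))))
theorem f332455 : Led Lsl_bt (LP (LK LD1_c2 LD2_c41 LD3_c60)) = (LP (LK LD1_c5 LD2_c31 LD3_c33)) :=
  Lre_b IH (LK LD1_c2 LD2_c41 LD3_c60) (LK LD1_c5 LD2_c31 LD3_c33) Lrfl Lrfl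
theorem f172872 : Led Lsl_bt (LP (LK LD1_c10 LD2_c49 LD3_c40)) = (LP (LK LD1_c5 LD2_c29 LD3_c12)) :=
  Lre_b IH (LK LD1_c10 LD2_c49 LD3_c40) (LK LD1_c5 LD2_c29 LD3_c12) Lrfl Lrfl
theorem f399752 : Led Lsl_dt (LP (LK LD1_c5 LD2_c31 LD3_c33)) = (LP (LK LD1_c10 LD2_c49 LD3_c40)) :=
  Lgr Lrot79 (Lpe (f332455 IH) (Lpr_df (f399730 IH) (Lpe (f172872 IH) (Lpn (LP (LK LD1_c10 LD2_c49 LD3_c40))))))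
theorem f332417 : Led Lsl_gt (LP (LK LD1_c9 LD2_c44 LD3_c16)) = (LP (LK LD1_c17 LD2_c53 LD3_c35)) :=
  Lre_g IH (LK LD1_c9 LD2_c44 LD3_c16) (LK LD1_c17 LD2_c53 LD3_c35) Lrfl Lrfl
theorem f332418 : Led Lsl_gf (LP (LK LD1_c19 LD2_c20 LD3_c58)) = (LP (LK LD1_c17 LD2_c53 LD3_c35)) :=
  Lgr Lrot76 (Lpr_af (K22.f332391 IH) (Lpe (K22.f332413 IH) (Lpr_gt (f332417 IH) (Lpn (LP (LK LD1_c17 LD2_c53 LD3_c35))))))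
theorem f168813 : Led Lsl_dt (LP (LK LD1_c4 LD2_c56 LD3_c17)) = (LP (LK LD1_c9 LD2_c44 LD3_c16)) :=
  Lre_d IH (LK LD1_c4 LD2_c56 LD3_c17) (LK LD1_c9 LD2_c44 LD3_c16) Lrfl Lrfl
theorem f319788 : Led Lsl_ct (LP (LK LD1_c16 LD2_c47 LD3_c20)) = (LP (LK LD1_c8 LD2_c58 LD3_c21)) :=
  Lre_c IH (LK LD1_c16 LD2_c47 LD3_c20) (LK LD1_c8 LD2_c58 LD3_c21) Lrfl Lrfl
theorem f319800 : Led Lsl_at (LP (LK LD1_c8 LD2_c58 LD3_c23)) = (LP (LK LD1_c16 LD2_c47 LD3_c20)) :=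
  Lre_a IH (LK LD1_c8 LD2_c58 LD3_c23) (LK LD1_c16 LD2_c47 LD3_c20) Lrfl Lrfl
theorem f319801 : Led Lsl_ff (LP (LK LD1_c8 LD2_c58 LD3_c23)) = (LP (LK LD1_c5 LD2_c33 LD3_c40)) :=
  Lgr Lrot30 (Lpr_at (f319800 IH) (Lpr_ft (K22.f319797 IH) (Lpr_at (K22.f238461 IH) (Lpn (LP (LK LD1_c5 LD2_c33 LD3_c40))))))
theorem f174226 : Led Lsl_gt (LP (LK LD1_c5 LD2_c33 LD3_c40)) = (LP (LK LD1_c10 LD2_c59 LD3_c18)) :=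
  Lre_g IH (LK LD1_c5 LD2_c33 LD3_c40) (LK LD1_c10 LD2_c59 LD3_c18) Lrfl Lrfl
theorem f319843 : Led Lsl_gf (LP (LK LD1_c16 LD2_c47 LD3_c20)) = (LP (LK LD1_c10 LD2_c59 LD3_c18)) :=
  Lgr Lrot76 (Lpe (f319800 IH) (Lpr_ff (f319801 IH) (Lpr_gt (f174226 IH) (Lpn (LP (LK LD1_c10 LD2_c59 LD3_c18))))))
theorem f388366 : Led Lsl_ct (LP (LK LD1_c17 LD2_c53 LD3_c35)) = (LP (LK LD1_c10 LD2_c59 LD3_c18)) :=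
  Lgr Lrot152 (Lpe (f332417 IH) (Lpe (f168813 IH) (Lpr_gt (K30.f168812 IH) (Lpe (K30.f332484 IH) (Lpr_gt (K30.f388352 IH) (Lpr_ct (K30.f319638 IH) (Lpe (K30.f319789 IH) (Lpe (f319788 IH) (Lpr_gf (f319843 IH) (Lpn (LP (LK LD1_c10 LD2_c59 LD3_c18))))))))))))
theorem f199394 : Led Lsl_dt (LP (LK LD1_c11 LD2_c2 LD3_c48)) = (LP (LK LD1_c5 LD2_c35 LD3_c18)) :=
  Lre_d IH (LK LD1_c11 LD2_c2 LD3_c48) (LK LD1_c5 LD2_c35 LD3_c18) Lrfl Lrfl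
theorem f199478 : Led Lsl_ct (LP (LK LD1_c19 LD2_c54 LD3_c17)) = (LP (LK LD1_c11 LD2_c2 LD3_c48)) :=
  Lre_c IH (LK LD1_c19 LD2_c54 LD3_c17) (LK LD1_c11 LD2_c2 LD3_c48) Lrfl Lrfl
theorem f332726 : Led Lsl_dt (LP (LK LD1_c16 LD2_c47 LD3_c20)) = (LP (LK LD1_c19 LD2_c54 LD3_c17)) :=
  Lgr Lrot32 (Lpe (K22.f319790 IH) (Lpe (K20.f319794 IH) (Lpr_ft (K30.f319813 IH) (Lpr_at (K30.f238462 IH) (Lpe (K22.f220924 IH) (Lpe (K22.f238429 IH) (Lpr_cf (K22.f332722 IH) (Lpe (f199394 IH) (Lpe (f199478 IH) (Lpn (LP (LK LD1_c19 LD2_c54 LD3_c17))))))))))))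
theorem f199379 : Led Lsl_ff (LP (LK LD1_c5 LD2_c35 LD3_c51)) = (LP (LK LD1_c5 LD2_c35 LD3_c19)) :=
  Lgr Lrot3 (Lpr_ft (K16.f199364 IH) (Lpn (LP (LK LD1_c5 LD2_c35 LD3_c19))))
theorem f199386 : Led Lsl_bt (LP (LK LD1_c11 LD2_c2 LD3_c48)) = (LP (LK LD1_c5 LD2_c35 LD3_c19)) :=
  Lre_b IH (LK LD1_c11 LD2_c2 LD3_c48) (LK LD1_c5 LD2_c35 LD3_c19) Lrfl Lrfl
theorem f199387 : Led Lsl_ft (LP (LK LD1_c11 LD2_c3 LD3_c57)) = (LP (LK LD1_c11 LD2_c2 LD3_c48)) :=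
  Lgr Lrot75 (Lpe (K22.f177988 IH) (Lpr_ff (f199379 IH) (Lpe (f199386 IH) (Lpn (LP (LK LD1_c11 LD2_c2 LD3_c48))))))
theorem f199393 : Led Lsl_ct (LP (LK LD1_c11 LD2_c2 LD3_c48)) = (LP (LK LD1_c19 LD2_c54 LD3_c17)) :=
  Lre_c IH (LK LD1_c11 LD2_c2 LD3_c48) (LK LD1_c19 LD2_c54 LD3_c17) Lrfl Lrfl
theorem f332699 : Led Lsl_ff (LP (LK LD1_c19 LD2_c49 LD3_c38)) = (LP (LK LD1_c19 LD2_c54 LD3_c17)) :=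
  Lgr Lrot23 (Lpr_ct (K22.f332687 IH) (Lpr_ft (f199387 IH) (Lpr_ct (f199393 IH) (Lpn (LP (LK LD1_c19 LD2_c54 LD3_c17))))))
theorem f225360 : Led Lsl_gt (LP (LK LD1_c19 LD2_c50 LD3_c3)) = (LP (LK LD1_c10 LD2_c59 LD3_c20)) :=
  Lre_g IH (LK LD1_c19 LD2_c50 LD3_c3) (LK LD1_c10 LD2_c59 LD3_c20) Lrfl Lrfl
theorem f396724 : Led Lsl_gf (LP (LK LD1_c19 LD2_c50 LD3_c3)) = (LP (LK LD1_c19 LD2_c54 LD3_c17)) :=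
  Lgr Lrot47 (Lpr_gt (f225360 IH) (Lpe (K40.f380537 IH) (Lpr_ff (f332699 IH) (Lpn (LP (LK LD1_c19 LD2_c54 LD3_c17))))))
theorem f172873 : Led Lsl_bt (LP (LK LD1_c2 LD2_c43 LD3_c15)) = (LP (LK LD1_c1 LD2_c18 LD3_c4)) :=
  Lre_b IH (LK LD1_c2 LD2_c43 LD3_c15) (LK LD1_c1 LD2_c18 LD3_c4) Lrfl Lrfl
theorem f172875 : Led Lsl_ct (LP (LK LD1_c10 LD2_c49 LD3_c40)) = (LP (LK LD1_c11 LD2_c1 LD3_c40)) :=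
  Lgr Lrot64 (Lpr_bt (f172872 IH) (Lpe (K30.f172412 IH) (Lpe (K13.f172401 IH) (Lpr_ct (K9.f172404 IH) (Lpe (K9.f68913 IH) (Lpe (K9.f168296 IH) (Lpe (K9.f172300 IH) (Lpe (f172873 IH) (Lpr_ct (K54.f172314 IH) (Lpe (f172874 IH) (Lpn (LP (LK LD1_c11 LD2_c1 LD3_c40)))))))))))))
theorem f172926 : Led Lsl_cf (LP (LK LD1_c10 LD2_c49 LD3_c40)) = (LP (LK LD1_c11 LD2_c1 LD3_c40)) :=
  Lgr Lrot11 (Lpr_ct (f172875 IH) (Lpn (LP (LK LD1_c11 LD2_c1 LD3_c40))))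
theorem f399761 : Led Lsl_dt (LP (LK LD1_c19 LD2_c50 LD3_c3)) = (LP (LK LD1_c11 LD2_c1 LD3_c40)) :=
  Lgr Lrot105 (Lpr_gf (f396724 IH) (Lpe (f332726 IH) (Lpr_gf (f319843 IH) (Lpe (f388366 IH) (Lpe (f332418 IH) (Lpr_dt (K22.f218370 IH) (Lpr_gt (K22.f218371 IH) (Lpr_dt (f399752 IH) (Lpr_cf (f172926 IH) (Lpn (LP (LK LD1_c11 LD2_c1 LD3_c40))))))))))))
theorem f199479 : Led Lsl_gt (LP (LK LD1_c11 LD2_c2 LD3_c48)) = (LP (LK LD1_c19 LD2_c54 LD3_c15)) :=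
  Lre_g IH (LK LD1_c11 LD2_c2 LD3_c48) (LK LD1_c19 LD2_c54 LD3_c15) Lrfl Lrfl
theorem f878451 : Led Lsl_df (LP (LK LD1_c15 LD2_c53 LD3_c31)) = (LP (LK LD1_c19 LD2_c54 LD3_c15)) :=
  Lgr Lrot153 (Lpr_gt (f878449 IH) (Lpe (f878446 IH) (Lpe (f172940 IH) (Lpe (f172928 IH) (Lpe (f172874 IH) (Lpe (f399761 IH) (Lpr_gf (f396724 IH) (Lpe (f199393 IH) (Lpr_gt (f199479 IH) (Lpn (LP (LK LD1_c19 LD2_c54 LD3_c15))))))))))))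
theorem f878452 : Led Lsl_dt (LP (LK LD1_c19 LD2_c54 LD3_c15)) = (LP (LK LD1_c15 LD2_c53 LD3_c31)) :=
  Leop (Lpr_df (f878451 IH) (Lpn (LP (LK LD1_c19 LD2_c54 LD3_c15))))
theorem seed_2046 : LEOK LG_d (LK LD1_c19 LD2_c54 LD3_c15) :=
  Leoe_d (LK LD1_c19 LD2_c54 LD3_c15) (f878452 IH)
theorem f388416 : Led Lsl_df (LP (LK LD1_c5 LD2_c33 LD3_c35)) = (LP (LK LD1_c8 LD2_c27 LD3_c57)) :=
  Lgr Lrot38 (Lpr_dt (K30.f388414 IH) (Lpn (LP (LK LD1_c8 LD2_c27 LD3_c57))))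
theorem f878448 : Led Lsl_gf (LP (LK LD1_c15 LD2_c53 LD3_c32)) = v35800 :=
  Lgr Lrot104 (Lpe (K41.f275538 IH) (Lpe (K31.f275509 IH) (Lpe (K31.f275540 IH) (Lpe (K30.f319836 IH) (Lpe (K30.f319638 IH) (Lpe (K30.f388352 IH) (Lpr_df (f388416 IH) (Lpe (K30.f387835 IH) (Lpr_ct (f878441 IH) (Lpn v35800))))))))))
theorem f387981 : Led Lsl_gf (LP (LK LD1_c8 LD2_c27 LD3_c58)) = (LP (LK LD1_c8 LD2_c9 LD3_c0)) :=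
  Lgr Lrot124 (Lpe (K30.f387975 IH) (Lpr_ct (K30.f387976 IH) (Lpr_gt (K30.f218243 IH) (Lpe (K22.f218284 IH) (Lpr_bt (K30.f218278 IH) (Lpe (K41.f385138 IH) (Lpr_ct (K22.f168120 IH) (Lpr_gt (K22.f319765 IH) (Lpe (K22.f238480 IH) (Lpr_bt (K30.f314462 IH) (Lpn (LP (LK LD1_c8 LD2_c9 LD3_c0)))))))))))))
theorem f332728 : Led Lsl_gt (LP (LK LD1_c19 LD2_c54 LD3_c16)) = (LP (LK LD1_c11 LD2_c2 LD3_c48)) :=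
  Lre_g IH (LK LD1_c19 LD2_c54 LD3_c16) (LK LD1_c11 LD2_c2 LD3_c48) Lrfl Lrfl
theorem f878459 : Led Lsl_dt (LP (LK LD1_c15 LD2_c53 LD3_c32)) = (LP (LK LD1_c19 LD2_c54 LD3_c16)) :=
  Lgr Lrot57 (Lpr_gf (f878448 IH) (Lpe (f878441 IH) (Lpe (f387981 IH) (Lpr_dt (K30.f387991 IH) (Lpr_gt (K20.f220920 IH) (Lpe (K22.f238459 IH) (Lpr_cf (K22.f332722 IH) (Lpe (f199394 IH) (Lpe (f332728 IH) (Lpn (LP (LK LD1_c19 LD2_c54 LD3_c16))))))))))))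
theorem f878460 : Led Lsl_dt (LP (LK LD1_c15 LD2_c53 LD3_c32)) = (LP (LK LD1_c19 LD2_c54 LD3_c16)) :=
  Leop (Lpe (f878459 IH) (Lpn (LP (LK LD1_c15 LD2_c53 LD3_c32))))
theorem seed_2047 : LEOK LG_d (LK LD1_c15 LD2_c53 LD3_c32) :=
  Leoe_d (LK LD1_c15 LD2_c53 LD3_c32) (f878460 IH)
def v35802 : LQ := Led Lsl_dt (LP (LK LD1_c8 LD2_c9 LD3_c1))
theorem f878483 : Led Lsl_dt (LP (LK LD1_c8 LD2_c9 LD3_c1)) = v35802 :=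
  Lrfl
theorem f878489 : Led Lsl_gf (LP (LK LD1_c19 LD2_c54 LD3_c10)) = v35802 :=
  Lgr Lrot143 (Lpr_dt (K50.f199454 IH) (Lpe (K31.f385102 IH) (Lpe (K31.f174011 IH) (Lpe (K30.f387926 IH) (Lpe (K30.f387861 IH) (Lpr_gf (K31.f388531 IH) (Lpe (K31.f213412 IH) (Lpr_gt (K30.f235763 IH) (Lpr_dt (f878483 IH) (Lpn v35802))))))))))
def v15191 : LQ := Led Lsl_ft (LP (LK LD1_c5 LD2_c33 LD3_c38))
theorem f732777 : Led Lsl_ft (LP (LK LD1_c5 LD2_c33 LD3_c38)) = v15191 :=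
  Lrfl
theorem f732781 : Led Lsl_ff (LP (LK LD1_c5 LD2_c33 LD3_c38)) = v15191 :=
  Lgr Lrot3 (Lpr_ft (f732777 IH) (Lpn v15191))
def v12791 : LQ := Led Lsl_ft (LP (LK LD1_c4 LD2_c30 LD3_c55))
theorem f698234 : Led Lsl_ft (LP (LK LD1_c4 LD2_c30 LD3_c55)) = v12791 :=
  Lrfl
theorem f732783 : Led Lsl_dt v12791 = v15191 :=
  Lgr Lrot60 (Lpe (f698234 IH) (Lpe (K41.f388358 IH) (Lpr_ff (f732781 IH) (Lpn v15191))))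
theorem f171868 : Led Lsl_dt (LP (LK LD1_c2 LD2_c45 LD3_c40)) = (LP (LK LD1_c5 LD2_c39 LD3_c25)) :=
  Lre_d IH (LK LD1_c2 LD2_c45 LD3_c40) (LK LD1_c5 LD2_c39 LD3_c25) Lrfl Lrfl
theorem f736276 : Led Lsl_bf K54.v4744 = K54.v15432 :=
  Lgr Lrot61 (Lpe (K54.f638808 IH) (Lpr_bt (K30.f178091 IH) (Lpr_ft (K54.f736274 IH) (Lpn K54.v15432))))
theorem f382532 : Led Lsl_gf (LP (LK LD1_c4 LD2_c29 LD3_c59)) = (LP (LK LD1_c5 LD2_c29 LD3_c8)) :=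
  Lgr Lrot124 (Lpe (K31.f174439 IH) (Lpr_ct (K12.f174445 IH) (Lpr_gt (K31.f242667 IH) (Lpr_cf (K12.f226556 IH) (Lpr_bt (K27.f226696 IH) (Lpe (K27.f382481 IH) (Lpr_ct (K31.f236225 IH) (Lpr_gt (K31.f382493 IH) (Lpr_cf (K31.f382514 IH) (Lpr_bt (K31.f382509 IH) (Lpn (LP (LK LD1_c5 LD2_c29 LD3_c8)))))))))))))
theorem f382535 : Led Lsl_dt (LP (LK LD1_c2 LD2_c40 LD3_c48)) = (LP (LK LD1_c5 LD2_c29 LD3_c8)) :=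
  Lre_d IH (LK LD1_c2 LD2_c40 LD3_c48) (LK LD1_c5 LD2_c29 LD3_c8) Lrfl Lrfl
theorem f245413 : Led Lsl_dt (LP (LK LD1_c5 LD2_c27 LD3_c57)) = (LP (LK LD1_c10 LD2_c47 LD3_c5)) :=
  Lre_d IH (LK LD1_c5 LD2_c27 LD3_c57) (LK LD1_c10 LD2_c47 LD3_c5) Lrfl Lrfl
theorem f390677 : Led Lsl_gf (LP (LK LD1_c2 LD2_c40 LD3_c48)) = (LP (LK LD1_c4 LD2_c29 LD3_c17)) :=
  Lgr Lrot144 (Lpr_dt (f382535 IH) (Lpe (f382532 IH) (Lpr_dt (K20.f217963 IH) (Lpe (K31.f169284 IH) (Lpe (K31.f169285 IH) (Lpr_gf (K54.f390672 IH) (Lpe (f245413 IH) (Lpr_gf (K30.f245411 IH) (Lpe (K30.f245272 IH) (Lpn (LP (LK LD1_c4 LD2_c29 LD3_c17))))))))))))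
theorem f387770 : Led Lsl_ct (LP (LK LD1_c19 LD2_c34 LD3_c2)) = (LP (LK LD1_c10 LD2_c49 LD3_c32)) :=
  Lre_c IH (LK LD1_c19 LD2_c34 LD3_c2) (LK LD1_c10 LD2_c49 LD3_c32) Lrfl Lrfl
theorem f399502 : Led Lsl_ct (LP (LK LD1_c10 LD2_c54 LD3_c51)) = (LP (LK LD1_c19 LD2_c30 LD3_c49)) :=
  Lgr Lrot8 (Lpr_gt (K31.f399498 IH) (Lpr_dt (K31.f172963 IH) (Lpr_gt (K31.f392462 IH) (Lpr_dt (K31.f387767 IH) (Lpe (f387770 IH) (Lpr_df (K31.f392644 IH) (Lpr_gf (K31.f245392 IH) (Lpr_df (K31.f245243 IH) (Lpe (K31.f245373 IH) (Lpn (LP (LK LD1_c19 LD2_c30 LD3_c49))))))))))))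
theorem f245274 : Led Lsl_dt (LP (LK LD1_c19 LD2_c33 LD3_c28)) = (LP (LK LD1_c10 LD2_c49 LD3_c17)) :=
  Lre_d IH (LK LD1_c19 LD2_c33 LD3_c28) (LK LD1_c10 LD2_c49 LD3_c17) Lrfl Lrfl
theorem f399767 : Led Lsl_gf (LP (LK LD1_c10 LD2_c54 LD3_c51)) = (LP (LK LD1_c19 LD2_c33 LD3_c28)) :=
  Lgr Lrot147 (Lpr_ct (f399502 IH) (Lpr_gt (K31.f245373 IH) (Lpr_ct (K13.f245229 IH) (Lpe (K30.f245253 IH) (Lpe (K30.f245272 IH) (Lpe (K30.f245266 IH) (Lpe (K22.f179323 IH) (Lpe (K31.f179389 IH) (Lpe (f245274 IH) (Lpn (LP (LK LD1_c19 LD2_c33 LD3_c28))))))))))))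
theorem f245273 : Led Lsl_dt (LP (LK LD1_c10 LD2_c49 LD3_c17)) = (LP (LK LD1_c19 LD2_c33 LD3_c28)) :=
  Lre_d IH (LK LD1_c10 LD2_c49 LD3_c17) (LK LD1_c19 LD2_c33 LD3_c28) Lrfl Lrfl
theorem f399769 : Led Lsl_gt (LP (LK LD1_c5 LD2_c29 LD3_c7)) = (LP (LK LD1_c10 LD2_c49 LD3_c17)) :=
  Lgr Lrot94 (Lpe (K31.f349410 IH) (Lpr_gt (K31.f245149 IH) (Lpr_dt (K13.f172951 IH) (Lpr_gt (K30.f172412 IH) (Lpe (f399730 IH) (Lpe (K20.f220884 IH) (Lpe (K31.f281722 IH) (Lpr_gf (f399767 IH) (Lpe (f245273 IH) (Lpn (LP (LK LD1_c10 LD2_c49 LD3_c17))))))))))))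
theorem f736291 : Led Lsl_gf (LP (LK LD1_c11 LD2_c9 LD3_c61)) = (LP (LK LD1_c16 LD2_c49 LD3_c25)) :=
  Lgr Lrot124 (Lpr_bf (K54.f736280 IH) (Lpr_ct (K50.f178107 IH) (Lpe (K54.f404846 IH) (Lpe (K30.f222636 IH) (Lpr_bt (K30.f245699 IH) (Lpe (f390677 IH) (Lpr_ct (K31.f349410 IH) (Lpr_gt (f399769 IH) (Lpr_cf (K31.f386454 IH) (Lpe (K31.f319284 IH) (Lpn (LP (LK LD1_c16 LD2_c49 LD3_c25)))))))))))))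
def v12706 : LQ := Led Lsl_at (LP (LK LD1_c4 LD2_c29 LD3_c15))
theorem f697736 : Led Lsl_at (LP (LK LD1_c4 LD2_c29 LD3_c15)) = v12706 :=
  Lrfl
theorem f697737 : Led Lsl_af (LP (LK LD1_c4 LD2_c29 LD3_c15)) = v12706 :=
  Lgr Lrot0 (Lpr_at (f697736 IH) (Lpn v12706))
theorem f697738 : Led Lsl_ft (LP (LK LD1_c4 LD2_c29 LD3_c16)) = v12706 :=
  Lgr Lrot2 (Lpr_gt (K31.f225828 IH) (Lpr_gt (K30.f179765 IH) (Lpr_af (f697737 IH) (Lpn v12706))))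
theorem f697740 : Led Lsl_ff (LP (LK LD1_c4 LD2_c29 LD3_c16)) = v12706 :=
  Lgr Lrot3 (Lpr_ft (f697738 IH) (Lpn v12706))
theorem f638317 : Led Lsl_af (LP (LK LD1_c2 LD2_c40 LD3_c48)) = K54.v4647 :=
  Lgr Lrot45 (Lpr_ft (K54.f638312 IH) (Lpe (K54.f638311 IH) (Lpr_ft (K54.f638316 IH) (Lpn K54.v4647))))
theorem f727703 : Led Lsl_bf K54.v4647 = K54.v14978 :=
  Lgr Lrot61 (Lpe (K54.f638319 IH) (Lpr_bt (K22.f179322 IH) (Lpr_ft (K54.f727701 IH) (Lpn K54.v14978))))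
theorem f178142 : Led Lsl_ct (LP (LK LD1_c11 LD2_c9 LD3_c9)) = (LP (LK LD1_c5 LD2_c39 LD3_c4)) :=
  Lre_c IH (LK LD1_c11 LD2_c9 LD3_c9) (LK LD1_c5 LD2_c39 LD3_c4) Lrfl Lrfl
theorem f303289 : Led Lsl_ct (LP (LK LD1_c4 LD2_c31 LD3_c32)) = (LP (LK LD1_c9 LD2_c1 LD3_c3)) :=
  Lre_c IH (LK LD1_c4 LD2_c31 LD3_c32) (LK LD1_c9 LD2_c1 LD3_c3) Lrfl Lrfl
theorem f316787 : Led Lsl_ct (LP (LK LD1_c11 LD2_c3 LD3_c28)) = (LP (LK LD1_c5 LD2_c35 LD3_c38)) :=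
  Lre_c IH (LK LD1_c11 LD2_c3 LD3_c28) (LK LD1_c5 LD2_c35 LD3_c38) Lrfl Lrfl
theorem f316831 : Led Lsl_bt (LP (LK LD1_c9 LD2_c0 LD3_c41)) = (LP (LK LD1_c4 LD2_c31 LD3_c23)) :=
  Lre_b IH (LK LD1_c9 LD2_c0 LD3_c41) (LK LD1_c4 LD2_c31 LD3_c23) Lrfl Lrfl
theorem f324545 : Led Lsl_bt (LP (LK LD1_c2 LD2_c43 LD3_c45)) = (LP (LK LD1_c5 LD2_c35 LD3_c38)) :=
  Lre_b IH (LK LD1_c2 LD2_c43 LD3_c45) (LK LD1_c5 LD2_c35 LD3_c38) Lrfl Lrfl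
theorem f324546 : Led Lsl_ff (LP (LK LD1_c9 LD2_c0 LD3_c41)) = (LP (LK LD1_c5 LD2_c35 LD3_c38)) :=
  Lgr Lrot25 (Lpr_bt (f316831 IH) (Lpr_ft (K21.f324491 IH) (Lpr_bt (f324545 IH) (Lpn (LP (LK LD1_c5 LD2_c35 LD3_c38))))))
theorem f344673 : Led Lsl_ct (LP (LK LD1_c9 LD2_c0 LD3_c41)) = (LP (LK LD1_c15 LD2_c1 LD3_c30)) :=
  Lgr Lrot40 (Lpr_ff (f324546 IH) (Lpe (f316787 IH) (Lpr_ff (K23.f344667 IH) (Lpn (LP (LK LD1_c15 LD2_c1 LD3_c30))))))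
theorem f384996 : Led Lsl_gf (LP (LK LD1_c9 LD2_c1 LD3_c3)) = (LP (LK LD1_c16 LD2_c50 LD3_c54)) :=
  Lgr Lrot181 (Lpr_ct (K19.f303277 IH) (Lpr_gt (K19.f175043 IH) (Lpe (K19.f235845 IH) (Lpr_bt (K19.f235844 IH) (Lpr_gt (K19.f235348 IH) (Lpe (f316831 IH) (Lpr_ct (f344673 IH) (Lpr_gt (K30.f371476 IH) (Lpr_cf (K30.f384990 IH) (Lpr_bt (K54.f332103 IH) (Lpn (LP (LK LD1_c16 LD2_c50 LD3_c54)))))))))))))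
theorem f384998 : Led Lsl_gt (LP (LK LD1_c9 LD2_c1 LD3_c3)) = (LP (LK LD1_c16 LD2_c50 LD3_c55)) :=
  Lgr Lrot46 (Lpr_gf (f384996 IH) (Lpe (K30.f384980 IH) (Lpr_at (K30.f384953 IH) (Lpn (LP (LK LD1_c16 LD2_c50 LD3_c55))))))
theorem f245246 : Led Lsl_at (LP (LK LD1_c8 LD2_c56 LD3_c53)) = (LP (LK LD1_c16 LD2_c45 LD3_c0)) :=
  Lre_a IH (LK LD1_c8 LD2_c56 LD3_c53) (LK LD1_c16 LD2_c45 LD3_c0) Lrfl Lrfl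
theorem f245247 : Led Lsl_ft (LP (LK LD1_c5 LD2_c29 LD3_c14)) = (LP (LK LD1_c8 LD2_c56 LD3_c53)) :=
  Lgr Lrot142 (Lpr_dt (K13.f245227 IH) (Lpr_ct (K13.f245228 IH) (Lpr_dt (K13.f245230 IH) (Lpr_ct (K13.f245229 IH) (Lpr_dt (K13.f245236 IH) (Lpr_ct (K13.f245237 IH) (Lpr_dt (K31.f245238 IH) (Lpr_ct (K31.f245239 IH) (Lpe (f245246 IH) (Lpn (LP (LK LD1_c8 LD2_c56 LD3_c53))))))))))))
theorem f168545 : Led Lsl_gt (LP (LK LD1_c5 LD2_c29 LD3_c14)) = (LP (LK LD1_c10 LD2_c49 LD3_c46)) :=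
  Lre_g IH (LK LD1_c5 LD2_c29 LD3_c14) (LK LD1_c10 LD2_c49 LD3_c46) Lrfl Lrfl
theorem f417877 : Led Lsl_gt (LP (LK LD1_c10 LD2_c49 LD3_c46)) = (LP (LK LD1_c16 LD2_c45 LD3_c0)) :=
  Lgr Lrot46 (Lpe (f168545 IH) (Lpr_ft (f245247 IH) (Lpr_at (f245246 IH) (Lpn (LP (LK LD1_c16 LD2_c45 LD3_c0))))))
theorem f399754 : Led Lsl_dt (LP (LK LD1_c10 LD2_c49 LD3_c46)) = (LP (LK LD1_c19 LD2_c34 LD3_c24)) :=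
  Lre_d IH (LK LD1_c10 LD2_c49 LD3_c46) (LK LD1_c19 LD2_c34 LD3_c24) Lrfl Lrfl
theorem f280738 : Led Lsl_dt (LP (LK LD1_c26 LD2_c45 LD3_c31)) = (LP (LK LD1_c16 LD2_c47 LD3_c0)) :=
  Lre_d IH (LK LD1_c26 LD2_c45 LD3_c31) (LK LD1_c16 LD2_c47 LD3_c0) Lrfl Lrfl
theorem f399755 : Led Lsl_gf (LP (LK LD1_c26 LD2_c45 LD3_c31)) = (LP (LK LD1_c19 LD2_c34 LD3_c24)) :=
  Lgr Lrot143 (Lpr_dt (f280738 IH) (Lpe (K20.f280639 IH) (Lpe (K31.f280817 IH) (Lpe (K24.f281578 IH) (Lpr_df (f399730 IH) (Lpe (K30.f172412 IH) (Lpe (K30.f168551 IH) (Lpr_gt (f168545 IH) (Lpr_dt (f399754 IH) (Lpn (LP (LK LD1_c19 LD2_c34 LD3_c24))))))))))))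
theorem f392194 : Led Lsl_ct (LP (LK LD1_c4 LD2_c29 LD3_c16)) = (LP (LK LD1_c8 LD2_c56 LD3_c47)) :=
  Lre_c IH (LK LD1_c4 LD2_c29 LD3_c16) (LK LD1_c8 LD2_c56 LD3_c47) Lrfl Lrfl
theorem f392182 : Led Lsl_dt (LP (LK LD1_c16 LD2_c44 LD3_c57)) = (LP (LK LD1_c8 LD2_c56 LD3_c47)) :=
  Lre_d IH (LK LD1_c16 LD2_c44 LD3_c57) (LK LD1_c8 LD2_c56 LD3_c47) Lrfl Lrfl
theorem f392207 : Led Lsl_gf (LP (LK LD1_c16 LD2_c44 LD3_c57)) = (LP (LK LD1_c11 LD2_c0 LD3_c30)) :=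
  Lgr Lrot143 (Lpr_dt (f392182 IH) (Lpe (f392194 IH) (Lpr_df (K31.f392183 IH) (Lpr_gf (K31.f281610 IH) (Lpe (K31.f280817 IH) (Lpe (K24.f281578 IH) (Lpe (K20.f220884 IH) (Lpr_gt (K31.f218320 IH) (Lpr_dt (K31.f224502 IH) (Lpn (LP (LK LD1_c11 LD2_c0 LD3_c30))))))))))))
theorem f390701 : Led Lsl_af (LP (LK LD1_c19 LD2_c42 LD3_c58)) = (LP (LK LD1_c19 LD2_c33 LD3_c33)) :=
  Lgr Lrot0 (Lpr_at (K31.f390699 IH) (Lpn (LP (LK LD1_c19 LD2_c33 LD3_c33))))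
theorem f392289 : Led Lsl_gt (LP (LK LD1_c16 LD2_c44 LD3_c57)) = (LP (LK LD1_c19 LD2_c42 LD3_c58)) :=
  Lgr Lrot46 (Lpr_gf (f392207 IH) (Lpr_ft (K31.f390709 IH) (Lpe (f390701 IH) (Lpn (LP (LK LD1_c19 LD2_c42 LD3_c58))))))
theorem f392190 : Led Lsl_gf (LP (LK LD1_c4 LD2_c29 LD3_c16)) = (LP (LK LD1_c2 LD2_c40 LD3_c49)) :=
  Lgr Lrot144 (Lpr_dt (K31.f392177 IH) (Lpr_gt (K31.f221290 IH) (Lpr_dt (K20.f221289 IH) (Lpe (K20.f220883 IH) (Lpe (K31.f224503 IH) (Lpe (K31.f271652 IH) (Lpr_df (K52.f388322 IH) (Lpe (K30.f245425 IH) (Lpe (K30.f244984 IH) (Lpn (LP (LK LD1_c2 LD2_c40 LD3_c49))))))))))))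
theorem f392251 : Led Lsl_gf (LP (LK LD1_c16 LD2_c46 LD3_c32)) = (LP (LK LD1_c10 LD2_c53 LD3_c50)) :=
  Lgr Lrot143 (Lpr_dt (K30.f280666 IH) (Lpe (K20.f280667 IH) (Lpe (K20.f280649 IH) (Lpe (K22.f280810 IH) (Lpr_df (K30.f388238 IH) (Lpe (K30.f179765 IH) (Lpe (K30.f226403 IH) (Lpr_gt (K31.f177931 IH) (Lpr_dt (K52.f392242 IH) (Lpn (LP (LK LD1_c10 LD2_c53 LD3_c50))))))))))))
theorem f392253 : Led Lsl_cf (LP (LK LD1_c16 LD2_c44 LD3_c57)) = (LP (LK LD1_c19 LD2_c41 LD3_c41)) :=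
  Lgr Lrot175 (Lpr_dt (f392182 IH) (Lpe (f392194 IH) (Lpr_gf (f392190 IH) (Lpe (K30.f244978 IH) (Lpr_gf (K31.f392233 IH) (Lpr_dt (K52.f392242 IH) (Lpe (f392251 IH) (Lpr_ct (K20.f280731 IH) (Lpe (K31.f280760 IH) (Lpn (LP (LK LD1_c19 LD2_c41 LD3_c41))))))))))))
theorem f392259 : Led Lsl_ct (LP (LK LD1_c16 LD2_c44 LD3_c57)) = (LP (LK LD1_c19 LD2_c41 LD3_c41)) :=
  Lgr Lrot59 (Lpr_cf (f392253 IH) (Lpn (LP (LK LD1_c19 LD2_c41 LD3_c41))))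
theorem f245375 : Led Lsl_dt (LP (LK LD1_c28 LD2_c53 LD3_c39)) = (LP (LK LD1_c19 LD2_c30 LD3_c49)) :=
  Lre_d IH (LK LD1_c28 LD2_c53 LD3_c39) (LK LD1_c19 LD2_c30 LD3_c49) Lrfl Lrfl
theorem f399511 : Led Lsl_gt (LP (LK LD1_c19 LD2_c41 LD3_c42)) = (LP (LK LD1_c28 LD2_c53 LD3_c39)) :=
  Lgr Lrot49 (Lpe (K31.f280737 IH) (Lpe (K31.f224505 IH) (Lpe (f392259 IH) (Lpr_gt (f392289 IH) (Lpr_dt (K31.f224536 IH) (Lpr_gt (K30.f224532 IH) (Lpr_dt (K31.f281720 IH) (Lpr_cf (K31.f399504 IH) (Lpe (f245375 IH) (Lpn (LP (LK LD1_c28 LD2_c53 LD3_c39))))))))))))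
theorem f245473 : Led Lsl_dt (LP (LK LD1_c19 LD2_c34 LD3_c22)) = (LP (LK LD1_c10 LD2_c49 LD3_c44)) :=
  Lre_d IH (LK LD1_c19 LD2_c34 LD3_c22) (LK LD1_c10 LD2_c49 LD3_c44) Lrfl Lrfl
theorem f417879 : Led Lsl_ct (LP (LK LD1_c28 LD2_c53 LD3_c39)) = (LP (LK LD1_c19 LD2_c34 LD3_c22)) :=
  Lgr Lrot110 (Lpe (f399511 IH) (Lpr_cf (K31.f281231 IH) (Lpr_gf (f399755 IH) (Lpe (f399754 IH) (Lpr_gt (f417877 IH) (Lpr_ct (K30.f245269 IH) (Lpe (K31.f245470 IH) (Lpr_ct (K50.f172905 IH) (Lpe (f245473 IH) (Lpn (LP (LK LD1_c19 LD2_c34 LD3_c22))))))))))))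
theorem f417883 : Led Lsl_cf (LP (LK LD1_c28 LD2_c53 LD3_c39)) = (LP (LK LD1_c19 LD2_c34 LD3_c22)) :=
  Lgr Lrot11 (Lpr_ct (f417879 IH) (Lpn (LP (LK LD1_c19 LD2_c34 LD3_c22))))
theorem f280741 : Led Lsl_dt (LP (LK LD1_c19 LD2_c43 LD3_c38)) = (LP (LK LD1_c26 LD2_c44 LD3_c61)) :=
  Lgr Lrot42 (Lpr_df (K20.f280732 IH) (Lpn (LP (LK LD1_c26 LD2_c44 LD3_c61))))
theorem f244931 : Led Lsl_dt (LP (LK LD1_c19 LD2_c30 LD3_c49)) = (LP (LK LD1_c28 LD2_c53 LD3_c39)) :=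
  Lre_d IH (LK LD1_c19 LD2_c30 LD3_c49) (LK LD1_c28 LD2_c53 LD3_c39) Lrfl Lrfl
theorem f399712 : Led Lsl_gf (LP (LK LD1_c19 LD2_c43 LD3_c38)) = (LP (LK LD1_c28 LD2_c53 LD3_c39)) :=
  Lgr Lrot143 (Lpr_dt (f280741 IH) (Lpe (K20.f280731 IH) (Lpe (K20.f280706 IH) (Lpe (K27.f281694 IH) (Lpr_df (K54.f399707 IH) (Lpe (K31.f244830 IH) (Lpe (K31.f244678 IH) (Lpr_gt (K31.f244699 IH) (Lpr_dt (f244931 IH) (Lpn (LP (LK LD1_c28 LD2_c53 LD3_c39))))))))))))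
theorem f281570 : Led Lsl_ct (LP (LK LD1_c10 LD2_c55 LD3_c7)) = (LP (LK LD1_c5 LD2_c31 LD3_c41)) :=
  Lre_c IH (LK LD1_c10 LD2_c55 LD3_c7) (LK LD1_c5 LD2_c31 LD3_c41) Lrfl Lrfl
theorem f280812 : Led Lsl_dt (LP (LK LD1_c11 LD2_c0 LD3_c32)) = (LP (LK LD1_c19 LD2_c51 LD3_c38)) :=
  Lre_d IH (LK LD1_c11 LD2_c0 LD3_c32) (LK LD1_c19 LD2_c51 LD3_c38) Lrfl Lrfl
theorem f399545 : Led Lsl_gt (LP (LK LD1_c19 LD2_c51 LD3_c38)) = (LP (LK LD1_c19 LD2_c34 LD3_c22)) :=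
  Lgr Lrot49 (Lpe (f280812 IH) (Lpe (K14.f226026 IH) (Lpe (K14.f226025 IH) (Lpr_gt (K22.f280810 IH) (Lpr_dt (K20.f280649 IH) (Lpe (K31.f281706 IH) (Lpr_dt (K31.f399537 IH) (Lpe (K50.f172887 IH) (Lpe (f245473 IH) (Lpn (LP (LK LD1_c19 LD2_c34 LD3_c22))))))))))))
theorem f417885 : Led Lsl_gf (LP (LK LD1_c10 LD2_c55 LD3_c7)) = (LP (LK LD1_c11 LD2_c0 LD3_c32)) :=
  Lgr Lrot147 (Lpr_ct (f281570 IH) (Lpr_gt (K31.f221290 IH) (Lpr_ct (K31.f226407 IH) (Lpe (K20.f178896 IH) (Lpe (K20.f280730 IH) (Lpr_gf (f399712 IH) (Lpr_cf (f417883 IH) (Lpe (f399545 IH) (Lpe (f280812 IH) (Lpn (LP (LK LD1_c11 LD2_c0 LD3_c32))))))))))))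
theorem f281612 : Led Lsl_ct (LP (LK LD1_c5 LD2_c31 LD3_c41)) = (LP (LK LD1_c10 LD2_c55 LD3_c7)) :=
  Lre_c IH (LK LD1_c5 LD2_c31 LD3_c41) (LK LD1_c10 LD2_c55 LD3_c7) Lrfl Lrfl
theorem f390333 : Led Lsl_bt (LP (LK LD1_c5 LD2_c31 LD3_c41)) = (LP (LK LD1_c10 LD2_c55 LD3_c6)) :=
  Lre_b IH (LK LD1_c5 LD2_c31 LD3_c41) (LK LD1_c10 LD2_c55 LD3_c6) Lrfl Lrfl
theorem f174157 : Led Lsl_bt (LP (LK LD1_c2 LD2_c42 LD3_c46)) = (LP (LK LD1_c5 LD2_c33 LD3_c14)) :=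
  Lre_b IH (LK LD1_c2 LD2_c42 LD3_c46) (LK LD1_c5 LD2_c33 LD3_c14) Lrfl Lrfl
theorem f276209 : Led Lsl_ff (LP (LK LD1_c2 LD2_c40 LD3_c39)) = (LP (LK LD1_c2 LD2_c42 LD3_c47)) :=
  Lgr Lrot19 (Lpr_dt (K15.f179312 IH) (Lpr_ft (K16.f276205 IH) (Lpr_dt (K14.f225348 IH) (Lpn (LP (LK LD1_c2 LD2_c42 LD3_c47))))))
theorem f289215 : Led Lsl_at (LP (LK LD1_c2 LD2_c40 LD3_c39)) = (LP (LK LD1_c2 LD2_c42 LD3_c46)) :=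
  Lgr Lrot66 (Lpr_ff (f276209 IH) (Lpe (K17.f289204 IH) (Lpr_ff (K17.f289213 IH) (Lpn (LP (LK LD1_c2 LD2_c42 LD3_c46))))))
theorem f382562 : Led Lsl_bt (LP (LK LD1_c8 LD2_c59 LD3_c1)) = (LP (LK LD1_c5 LD2_c34 LD3_c0)) :=
  Lgr Lrot62 (Lpr_af (K27.f382489 IH) (Lpe (f174157 IH) (Lpe (f289215 IH) (Lpe (K31.f173025 IH) (Lpe (K30.f277266 IH) (Lpn (LP (LK LD1_c5 LD2_c34 LD3_c0))))))))
theorem f382596 : Led Lsl_gf (LP (LK LD1_c16 LD2_c48 LD3_c11)) = (LP (LK LD1_c19 LD2_c32 LD3_c16)) :=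
  Lgr Lrot76 (Lpr_af (K27.f382585 IH) (Lpr_ff (K27.f381291 IH) (Lpr_gt (K27.f381310 IH) (Lpn (LP (LK LD1_c19 LD2_c32 LD3_c16))))))
theorem f417887 : Led Lsl_gt (LP (LK LD1_c10 LD2_c55 LD3_c6)) = (LP (LK LD1_c16 LD2_c41 LD3_c20)) :=
  Lgr Lrot82 (Lpe (f390333 IH) (Lpr_ct (f281612 IH) (Lpr_gf (f417885 IH) (Lpe (K14.f226027 IH) (Lpr_bt (K14.f226028 IH) (Lpe (K22.f218316 IH) (Lpe (f382562 IH) (Lpr_ct (K27.f382564 IH) (Lpr_gf (f382596 IH) (Lpr_cf (K27.f382636 IH) (Lpn (LP (LK LD1_c16 LD2_c41 LD3_c20)))))))))))))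
theorem f225829 : Led Lsl_bt (LP (LK LD1_c8 LD2_c56 LD3_c46)) = (LP (LK LD1_c4 LD2_c29 LD3_c16)) :=
  Lre_b IH (LK LD1_c8 LD2_c56 LD3_c46) (LK LD1_c4 LD2_c29 LD3_c16) Lrfl Lrfl
theorem f392179 : Led Lsl_df (LP (LK LD1_c8 LD2_c56 LD3_c46)) = (LP (LK LD1_c10 LD2_c55 LD3_c6)) :=
  Lgr Lrot12 (Lpr_bt (f225829 IH) (Lpr_dt (K31.f392177 IH) (Lpr_bt (f390333 IH) (Lpn (LP (LK LD1_c10 LD2_c55 LD3_c6))))))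
theorem f225917 : Led Lsl_gt (LP (LK LD1_c8 LD2_c56 LD3_c46)) = (LP (LK LD1_c16 LD2_c44 LD3_c52)) :=
  Lre_g IH (LK LD1_c8 LD2_c56 LD3_c46) (LK LD1_c16 LD2_c44 LD3_c52) Lrfl Lrfl
theorem f225897 : Led Lsl_cf (LP (LK LD1_c8 LD2_c56 LD3_c8)) = (LP (LK LD1_c16 LD2_c37 LD3_c27)) :=
  Lgr Lrot11 (Lpr_ct (K30.f225890 IH) (Lpn (LP (LK LD1_c16 LD2_c37 LD3_c27))))
theorem f417893 : Led Lsl_ct (LP (LK LD1_c16 LD2_c44 LD3_c52)) = (LP (LK LD1_c10 LD2_c47 LD3_c44)) :=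
  Lgr Lrot152 (Lpe (f225917 IH) (Lpr_df (f392179 IH) (Lpr_gt (f417887 IH) (Lpe (K27.f382636 IH) (Lpe (f382596 IH) (Lpr_ct (K27.f382574 IH) (Lpr_df (K27.f382577 IH) (Lpr_cf (f225897 IH) (Lpr_gf (K30.f341416 IH) (Lpn (LP (LK LD1_c10 LD2_c47 LD3_c44))))))))))))
theorem f199597 : Led Lsl_bt (LP (LK LD1_c10 LD2_c47 LD3_c44)) = (LP (LK LD1_c19 LD2_c31 LD3_c41)) :=
  Lre_b IH (LK LD1_c10 LD2_c47 LD3_c44) (LK LD1_c19 LD2_c31 LD3_c41) Lrfl Lrfl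
theorem f417897 : Led Lsl_bf (LP (LK LD1_c16 LD2_c44 LD3_c52)) = (LP (LK LD1_c10 LD2_c52 LD3_c7)) :=
  Lgr Lrot90 (Lpr_ct (f417893 IH) (Lpr_bt (f199597 IH) (Lpe (K30.f199594 IH) (Lpr_bt (K30.f384944 IH) (Lpe (K30.f384951 IH) (Lpn (LP (LK LD1_c10 LD2_c52 LD3_c7))))))))
theorem f727723 : Led Lsl_gf (LP (LK LD1_c10 LD2_c49 LD3_c27)) = (LP (LK LD1_c16 LD2_c44 LD3_c52)) :=
  Lgr Lrot124 (Lpr_bf (K54.f727711 IH) (Lpr_ct (f178142 IH) (Lpe (K54.f314886 IH) (Lpe (K30.f354512 IH) (Lpe (K30.f354339 IH) (Lpr_gt (K19.f312992 IH) (Lpr_ct (f303289 IH) (Lpr_gt (f384998 IH) (Lpe (K30.f384955 IH) (Lpe (f417897 IH) (Lpn (LP (LK LD1_c16 LD2_c44 LD3_c52)))))))))))))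
theorem f727717 : Led Lsl_dt (LP (LK LD1_c10 LD2_c49 LD3_c27)) = (LP (LK LD1_c19 LD2_c33 LD3_c53)) :=
  Lre_d IH (LK LD1_c10 LD2_c49 LD3_c27) (LK LD1_c19 LD2_c33 LD3_c53) Lrfl Lrfl
theorem f417899 : Led Lsl_cf (LP (LK LD1_c16 LD2_c44 LD3_c52)) = (LP (LK LD1_c10 LD2_c47 LD3_c44)) :=
  Lgr Lrot11 (Lpr_ct (f417893 IH) (Lpn (LP (LK LD1_c10 LD2_c47 LD3_c44))))
theorem f341261 : Led Lsl_ff (LP (LK LD1_c16 LD2_c37 LD3_c28)) = (LP (LK LD1_c10 LD2_c47 LD3_c47)) :=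
  Lgr Lrot19 (Lpr_dt (K30.f225892 IH) (Lpr_ft (K27.f341253 IH) (Lpr_dt (K30.f178153 IH) (Lpn (LP (LK LD1_c10 LD2_c47 LD3_c47))))))
theorem f195243 : Led Lsl_gt (LP (LK LD1_c8 LD2_c55 LD3_c9)) = (LP (LK LD1_c16 LD2_c41 LD3_c23)) :=
  Lre_g IH (LK LD1_c8 LD2_c55 LD3_c9) (LK LD1_c16 LD2_c41 LD3_c23) Lrfl Lrfl
theorem f384206 : Led Lsl_at (LP (LK LD1_c16 LD2_c37 LD3_c28)) = (LP (LK LD1_c16 LD2_c41 LD3_c23)) :=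
  Lgr Lrot26 (Lpr_ff (f341261 IH) (Lpr_gt (K30.f384194 IH) (Lpr_gt (f195243 IH) (Lpn (LP (LK LD1_c16 LD2_c41 LD3_c23))))))
theorem f225910 : Led Lsl_dt (LP (LK LD1_c8 LD2_c53 LD3_c27)) = (LP (LK LD1_c16 LD2_c37 LD3_c28)) :=
  Lre_d IH (LK LD1_c8 LD2_c53 LD3_c27) (LK LD1_c16 LD2_c37 LD3_c28) Lrfl Lrfl
theorem f384594 : Led Lsl_df (LP (LK LD1_c16 LD2_c37 LD3_c27)) = (LP (LK LD1_c16 LD2_c41 LD3_c23)) :=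
  Lgr Lrot18 (Lpr_at (K30.f225889 IH) (Lpr_dt (f225910 IH) (Lpr_at (f384206 IH) (Lpn (LP (LK LD1_c16 LD2_c41 LD3_c23))))))
theorem f384604 : Led Lsl_dt (LP (LK LD1_c16 LD2_c37 LD3_c27)) = (LP (LK LD1_c16 LD2_c41 LD3_c23)) :=
  Lgr Lrot42 (Lpr_df (f384594 IH) (Lpn (LP (LK LD1_c16 LD2_c41 LD3_c23))))
theorem f174070 : Led Lsl_gt (LP (LK LD1_c16 LD2_c41 LD3_c23)) = (LP (LK LD1_c8 LD2_c55 LD3_c14)) :=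
  Lre_g IH (LK LD1_c16 LD2_c41 LD3_c23) (LK LD1_c8 LD2_c55 LD3_c14) Lrfl Lrfl
theorem f727727 : Led Lsl_gt (LP (LK LD1_c19 LD2_c33 LD3_c53)) = (LP (LK LD1_c16 LD2_c41 LD3_c32)) :=
  Lgr Lrot49 (Lpe (f727717 IH) (Lpr_gf (f727723 IH) (Lpr_cf (f417899 IH) (Lpe (K30.f341416 IH) (Lpr_dt (f384604 IH) (Lpr_gt (f174070 IH) (Lpr_dt (K27.f174069 IH) (Lpe (K9.f168801 IH) (Lpe (K17.f174065 IH) (Lpn (LP (LK LD1_c16 LD2_c41 LD3_c32))))))))))))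
theorem f417889 : Led Lsl_gf (LP (LK LD1_c10 LD2_c55 LD3_c6)) = (LP (LK LD1_c16 LD2_c41 LD3_c32)) :=
  Lgr Lrot47 (Lpr_gt (f417887 IH) (Lpe (K54.f382638 IH) (Lpe (K17.f290340 IH) (Lpn (LP (LK LD1_c16 LD2_c41 LD3_c32))))))
theorem f392308 : Led Lsl_at (LP (LK LD1_c19 LD2_c43 LD3_c22)) = (LP (LK LD1_c10 LD2_c55 LD3_c6)) :=
  Lre_a IH (LK LD1_c19 LD2_c43 LD3_c22) (LK LD1_c10 LD2_c55 LD3_c6) Lrfl Lrfl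
theorem f727734 : Led Lsl_ft (LP (LK LD1_c19 LD2_c33 LD3_c53)) = (LP (LK LD1_c19 LD2_c43 LD3_c22)) :=
  Lgr Lrot2 (Lpr_gt (f727727 IH) (Lpe (f417889 IH) (Lpe (f392308 IH) (Lpn (LP (LK LD1_c19 LD2_c43 LD3_c22))))))
theorem f727741 : Led Lsl_ff (LP (LK LD1_c19 LD2_c33 LD3_c53)) = (LP (LK LD1_c19 LD2_c43 LD3_c22)) :=
  Lgr Lrot3 (Lpr_ft (f727734 IH) (Lpn (LP (LK LD1_c19 LD2_c43 LD3_c22))))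
theorem f382518 : Led Lsl_at (LP (LK LD1_c19 LD2_c33 LD3_c53)) = (LP (LK LD1_c10 LD2_c49 LD3_c29)) :=
  Lre_a IH (LK LD1_c19 LD2_c33 LD3_c53) (LK LD1_c10 LD2_c49 LD3_c29) Lrfl Lrfl
theorem f399573 : Led Lsl_df (LP (LK LD1_c16 LD2_c48 LD3_c13)) = (LP (LK LD1_c20 LD2_c19 LD3_c18)) :=
  Lgr Lrot162 (Lpr_cf (K31.f382514 IH) (Lpe (K31.f392429 IH) (Lpe (K17.f290333 IH) (Lpr_gf (K27.f382620 IH) (Lpr_dt (K27.f382754 IH) (Lpr_gt (K27.f178813 IH) (Lpe (K27.f178802 IH) (Lpr_gt (K54.f178774 IH) (Lpr_ct (K54.f399567 IH) (Lpn (LP (LK LD1_c20 LD2_c19 LD3_c18))))))))))))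
theorem f380980 : Led Lsl_dt (LP (LK LD1_c25 LD2_c38 LD3_c20)) = (LP (LK LD1_c15 LD2_c42 LD3_c29)) :=
  Lre_d IH (LK LD1_c25 LD2_c38 LD3_c20) (LK LD1_c15 LD2_c42 LD3_c29) Lrfl Lrfl
theorem f421926 : Led Lsl_ft (LP (LK LD1_c14 LD2_c57 LD3_c53)) = (LP (LK LD1_c7 LD2_c55 LD3_c56)) :=
  Lre_f IH (LK LD1_c14 LD2_c57 LD3_c53) (LK LD1_c7 LD2_c55 LD3_c56) Lrfl Lrfl
theorem f421927 : Led Lsl_bf (LP (LK LD1_c14 LD2_c57 LD3_c53)) = (LP (LK LD1_c17 LD2_c36 LD3_c61)) :=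
  Lgr Lrot61 (Lpr_ft (f421926 IH) (Lpr_bt (K30.f229451 IH) (Lpr_ft (K49.f421861 IH) (Lpn (LP (LK LD1_c17 LD2_c36 LD3_c61))))))
theorem f2076 : Led Lsl_gt (LP (LK LD1_c9 LD2_c33 LD3_c61)) = (LP (LK LD1_c4 LD2_c50 LD3_c58)) :=
  Lre_g IH (LK LD1_c9 LD2_c33 LD3_c61) (LK LD1_c4 LD2_c50 LD3_c58) Lrfl Lrfl
theorem f38981 : Led Lsl_bt (LP (LK LD1_c3 LD2_c57 LD3_c9)) = (LP (LK LD1_c7 LD2_c55 LD3_c60)) :=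
  Lre_b IH (LK LD1_c3 LD2_c57 LD3_c9) (LK LD1_c7 LD2_c55 LD3_c60) Lrfl Lrfl
theorem f421964 : Led Lsl_gf (LP (LK LD1_c14 LD2_c57 LD3_c53)) = (LP (LK LD1_c7 LD2_c55 LD3_c60)) :=
  Lgr Lrot124 (Lpr_bf (f421927 IH) (Lpr_ct (K49.f29837 IH) (Lpr_gt (f2076 IH) (Lpe (K13.f29815 IH) (Lpr_bt (K38.f29659 IH) (Lpe (K13.f237719 IH) (Lpr_ct (K13.f39190 IH) (Lpe (K12.f39168 IH) (Lpe (K1.f38987 IH) (Lpr_bt (f38981 IH) (Lpn (LP (LK LD1_c7 LD2_c55 LD3_c60)))))))))))))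
theorem f421945 : Led Lsl_at (LP (LK LD1_c7 LD2_c55 LD3_c57)) = (LP (LK LD1_c14 LD2_c57 LD3_c53)) :=
  Lre_a IH (LK LD1_c7 LD2_c55 LD3_c57) (LK LD1_c14 LD2_c57 LD3_c53) Lrfl Lrfl
theorem f421966 : Led Lsl_ft (LP (LK LD1_c14 LD2_c57 LD3_c49)) = (LP (LK LD1_c7 LD2_c55 LD3_c57)) :=
  Lre_f IH (LK LD1_c14 LD2_c57 LD3_c49) (LK LD1_c7 LD2_c55 LD3_c57) Lrfl Lrfl
theorem f421967 : Led Lsl_gt (LP (LK LD1_c14 LD2_c57 LD3_c49)) = (LP (LK LD1_c7 LD2_c55 LD3_c60)) :=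
  Lgr Lrot5 (Lpr_ft (f421966 IH) (Lpr_at (f421945 IH) (Lpr_gf (f421964 IH) (Lpn (LP (LK LD1_c7 LD2_c55 LD3_c60))))))
theorem f421979 : Led Lsl_ct (LP (LK LD1_c24 LD2_c45 LD3_c14)) = (LP (LK LD1_c14 LD2_c57 LD3_c49)) :=
  Lre_c IH (LK LD1_c24 LD2_c45 LD3_c14) (LK LD1_c14 LD2_c57 LD3_c49) Lrfl Lrfl
theorem f199826 : Led Lsl_cf (LP (LK LD1_c7 LD2_c55 LD3_c60)) = (LP (LK LD1_c8 LD2_c33 LD3_c35)) :=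
  Lgr Lrot97 (Lpr_bt (K50.f39010 IH) (Lpr_ct (K1.f38987 IH) (Lpr_bt (K11.f199822 IH) (Lpr_ct (K11.f199770 IH) (Lpr_bt (K11.f199804 IH) (Lpn (LP (LK LD1_c8 LD2_c33 LD3_c35))))))))
theorem f199789 : Led Lsl_bt (LP (LK LD1_c8 LD2_c33 LD3_c35)) = (LP (LK LD1_c4 LD2_c17 LD3_c12)) :=
  Lre_b IH (LK LD1_c8 LD2_c33 LD3_c35) (LK LD1_c4 LD2_c17 LD3_c12) Lrfl Lrfl
theorem f290846 : Led Lsl_df (LP (LK LD1_c8 LD2_c33 LD3_c41)) = (LP (LK LD1_c10 LD2_c32 LD3_c42)) :=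
  Lgr Lrot162 (Lpr_cf (K13.f199628 IH) (Lpr_gf (K17.f290833 IH) (Lpe (K19.f178764 IH) (Lpe (K15.f258399 IH) (Lpr_dt (K16.f231138 IH) (Lpe (K17.f290567 IH) (Lpr_ct (K17.f290563 IH) (Lpe (K17.f218118 IH) (Lpe (K19.f290819 IH) (Lpn (LP (LK LD1_c10 LD2_c32 LD3_c42))))))))))))
theorem f359460 : Led Lsl_gt (LP (LK LD1_c4 LD2_c51 LD3_c39)) = (LP (LK LD1_c4 LD2_c6 LD3_c8)) :=
  Lgr Lrot94 (Lpr_cf (K26.f359448 IH) (Lpr_gt (K18.f41926 IH) (Lpr_dt (K11.f41925 IH) (Lpr_gt (K17.f41924 IH) (Lpe (f290846 IH) (Lpr_cf (K13.f199628 IH) (Lpe (K17.f199620 IH) (Lpe (K12.f211424 IH) (Lpe (K13.f48035 IH) (Lpn (LP (LK LD1_c4 LD2_c6 LD3_c8))))))))))))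
theorem f421988 : Led Lsl_bt (LP (LK LD1_c24 LD2_c45 LD3_c14)) = (LP (LK LD1_c15 LD2_c44 LD3_c43)) :=
  Lgr Lrot92 (Lpr_ct (f421979 IH) (Lpr_gt (f421967 IH) (Lpr_cf (f199826 IH) (Lpr_bt (f199789 IH) (Lpe (K18.f199796 IH) (Lpe (K26.f359448 IH) (Lpr_gt (f359460 IH) (Lpe (K16.f221917 IH) (Lpr_bt (K20.f221914 IH) (Lpr_gt (K27.f221979 IH) (Lpn (LP (LK LD1_c15 LD2_c44 LD3_c43)))))))))))))
theorem f383104 : Led Lsl_ft (LP (LK LD1_c14 LD2_c57 LD3_c55)) = (LP (LK LD1_c24 LD2_c45 LD3_c14)) :=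
  Lre_f IH (LK LD1_c14 LD2_c57 LD3_c55) (LK LD1_c24 LD2_c45 LD3_c14) Lrfl Lrfl
theorem f219670 : Led Lsl_ct (LP (LK LD1_c4 LD2_c28 LD3_c33)) = (LP (LK LD1_c8 LD2_c55 LD3_c19)) :=
  Lre_c IH (LK LD1_c4 LD2_c28 LD3_c33) (LK LD1_c8 LD2_c55 LD3_c19) Lrfl Lrfl
theorem f318774 : Led Lsl_dt (LP (LK LD1_c8 LD2_c55 LD3_c19)) = (LP (LK LD1_c16 LD2_c41 LD3_c51)) :=
  Lre_d IH (LK LD1_c8 LD2_c55 LD3_c19) (LK LD1_c16 LD2_c41 LD3_c51) Lrfl Lrfl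
theorem f243906 : Led Lsl_ct (LP (LK LD1_c11 LD2_c19 LD3_c22)) = (LP (LK LD1_c16 LD2_c41 LD3_c51)) :=
  Lre_c IH (LK LD1_c11 LD2_c19 LD3_c22) (LK LD1_c16 LD2_c41 LD3_c51) Lrfl Lrfl
theorem f383091 : Led Lsl_gt (LP (LK LD1_c16 LD2_c6 LD3_c11)) = (LP (LK LD1_c15 LD2_c44 LD3_c44)) :=
  Lgr Lrot146 (Lpr_dt (K30.f383085 IH) (Lpe (K30.f383005 IH) (Lpr_ct (K27.f318835 IH) (Lpr_gt (K27.f173504 IH) (Lpr_ct (f219670 IH) (Lpr_dt (f318774 IH) (Lpe (f243906 IH) (Lpr_gf (K27.f318825 IH) (Lpe (K27.f221980 IH) (Lpn (LP (LK LD1_c15 LD2_c44 LD3_c44))))))))))))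
theorem f318777 : Led Lsl_bt (LP (LK LD1_c16 LD2_c41 LD3_c51)) = (LP (LK LD1_c10 LD2_c32 LD3_c38)) :=
  Lgr Lrot127 (Lpr_bf (K53.f318772 IH) (Lpn (LP (LK LD1_c10 LD2_c32 LD3_c38))))
theorem f219147 : Led Lsl_bt (LP (LK LD1_c8 LD2_c20 LD3_c12)) = (LP (LK LD1_c4 LD2_c9 LD3_c60)) :=
  Lre_b IH (LK LD1_c8 LD2_c20 LD3_c12) (LK LD1_c4 LD2_c9 LD3_c60) Lrfl Lrfl
theorem f219152 : Led Lsl_ft (LP (LK LD1_c5 LD2_c21 LD3_c13)) = (LP (LK LD1_c8 LD2_c20 LD3_c12)) :=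
  Lgr Lrot75 (Lpe (K53.f42004 IH) (Lpr_ff (K12.f219142 IH) (Lpe (f219147 IH) (Lpn (LP (LK LD1_c8 LD2_c20 LD3_c12))))))
theorem f219135 : Led Lsl_at (LP (LK LD1_c8 LD2_c20 LD3_c12)) = (LP (LK LD1_c15 LD2_c41 LD3_c28)) :=
  Lre_a IH (LK LD1_c8 LD2_c20 LD3_c12) (LK LD1_c15 LD2_c41 LD3_c28) Lrfl Lrfl
theorem f219277 : Led Lsl_gt (LP (LK LD1_c10 LD2_c32 LD3_c38)) = (LP (LK LD1_c15 LD2_c41 LD3_c28)) :=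
  Lgr Lrot46 (Lpe (K53.f41994 IH) (Lpr_ft (f219152 IH) (Lpr_at (f219135 IH) (Lpn (LP (LK LD1_c15 LD2_c41 LD3_c28))))))
theorem f219160 : Led Lsl_ff (LP (LK LD1_c5 LD2_c21 LD3_c13)) = (LP (LK LD1_c8 LD2_c20 LD3_c12)) :=
  Lgr Lrot25 (Lpr_bt (K20.f41984 IH) (Lpr_ft (K12.f219158 IH) (Lpr_bt (K27.f170852 IH) (Lpn (LP (LK LD1_c8 LD2_c20 LD3_c12))))))
theorem f41990 : Led Lsl_at (LP (LK LD1_c5 LD2_c21 LD3_c13)) = (LP (LK LD1_c10 LD2_c32 LD3_c40)) :=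
  Lre_a IH (LK LD1_c5 LD2_c21 LD3_c13) (LK LD1_c10 LD2_c32 LD3_c40) Lrfl Lrfl
theorem f219238 : Led Lsl_at (LP (LK LD1_c15 LD2_c41 LD3_c28)) = (LP (LK LD1_c8 LD2_c20 LD3_c12)) :=
  Lre_a IH (LK LD1_c15 LD2_c41 LD3_c28) (LK LD1_c8 LD2_c20 LD3_c12) Lrfl Lrfl
theorem f219239 : Led Lsl_ft (LP (LK LD1_c10 LD2_c32 LD3_c40)) = (LP (LK LD1_c15 LD2_c41 LD3_c28)) :=
  Lgr Lrot101 (Lpe (f41990 IH) (Lpr_ff (f219160 IH) (Lpe (f219238 IH) (Lpn (LP (LK LD1_c15 LD2_c41 LD3_c28))))))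
theorem f219249 : Led Lsl_ff (LP (LK LD1_c10 LD2_c32 LD3_c40)) = (LP (LK LD1_c15 LD2_c41 LD3_c28)) :=
  Lgr Lrot3 (Lpr_ft (f219239 IH) (Lpn (LP (LK LD1_c15 LD2_c41 LD3_c28))))
theorem f43161 : Led Lsl_at (LP (LK LD1_c10 LD2_c32 LD3_c49)) = (LP (LK LD1_c5 LD2_c21 LD3_c16)) :=
  Lre_a IH (LK LD1_c10 LD2_c32 LD3_c49) (LK LD1_c5 LD2_c21 LD3_c16) Lrfl Lrfl
theorem f43162 : Led Lsl_bf (LP (LK LD1_c10 LD2_c32 LD3_c49)) = (LP (LK LD1_c10 LD2_c32 LD3_c40)) :=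
  Lgr Lrot81 (Lpr_at (f43161 IH) (Lpr_bt (K11.f42655 IH) (Lpr_at (K11.f43159 IH) (Lpr_bt (K53.f42004 IH) (Lpr_at (f41990 IH) (Lpn (LP (LK LD1_c10 LD2_c32 LD3_c40))))))))
theorem f219253 : Led Lsl_bt (LP (LK LD1_c16 LD2_c3 LD3_c61)) = (LP (LK LD1_c15 LD2_c41 LD3_c28)) :=
  Lgr Lrot35 (Lpe (K50.f199876 IH) (Lpr_bf (f43162 IH) (Lpr_ff (f219249 IH) (Lpn (LP (LK LD1_c15 LD2_c41 LD3_c28))))))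
theorem f39655 : Led Lsl_gt (LP (LK LD1_c14 LD2_c57 LD3_c48)) = (LP (LK LD1_c7 LD2_c55 LD3_c57)) :=
  Lre_g IH (LK LD1_c14 LD2_c57 LD3_c48) (LK LD1_c7 LD2_c55 LD3_c57) Lrfl Lrfl
theorem f383093 : Led Lsl_bf (LP (LK LD1_c16 LD2_c6 LD3_c11)) = (LP (LK LD1_c14 LD2_c57 LD3_c55)) :=
  Lgr Lrot165 (Lpr_gt (f383091 IH) (Lpr_ct (K27.f221980 IH) (Lpe (K27.f318825 IH) (Lpe (K27.f243828 IH) (Lpr_bt (f318777 IH) (Lpr_gt (f219277 IH) (Lpe (f219253 IH) (Lpe (K50.f199867 IH) (Lpr_gt (f39655 IH) (Lpe (K20.f43197 IH) (Lpn (LP (LK LD1_c14 LD2_c57 LD3_c55)))))))))))))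
theorem f383096 : Led Lsl_bt (LP (LK LD1_c16 LD2_c6 LD3_c11)) = (LP (LK LD1_c14 LD2_c57 LD3_c55)) :=
  Lgr Lrot127 (Lpr_bf (f383093 IH) (Lpn (LP (LK LD1_c14 LD2_c57 LD3_c55))))
theorem f421994 : Led Lsl_ff (LP (LK LD1_c16 LD2_c6 LD3_c11)) = (LP (LK LD1_c15 LD2_c44 LD3_c43)) :=
  Lgr Lrot25 (Lpr_bt (f383096 IH) (Lpr_ft (f383104 IH) (Lpr_bt (f421988 IH) (Lpn (LP (LK LD1_c15 LD2_c44 LD3_c43))))))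
theorem f421998 : Led Lsl_ft (LP (LK LD1_c16 LD2_c6 LD3_c11)) = (LP (LK LD1_c15 LD2_c44 LD3_c43)) :=
  Lgr Lrot48 (Lpr_ff (f421994 IH) (Lpn (LP (LK LD1_c15 LD2_c44 LD3_c43))))
theorem f422002 : Led Lsl_af (LP (LK LD1_c16 LD2_c6 LD3_c12)) = (LP (LK LD1_c15 LD2_c44 LD3_c43)) :=
  Lgr Lrot31 (Lpr_gf (K27.f221970 IH) (Lpe (f383091 IH) (Lpr_ft (f421998 IH) (Lpn (LP (LK LD1_c15 LD2_c44 LD3_c43))))))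
theorem f422008 : Led Lsl_at (LP (LK LD1_c25 LD2_c38 LD3_c27)) = (LP (LK LD1_c25 LD2_c41 LD3_c14)) :=
  Lgr Lrot51 (Lpr_df (K27.f318832 IH) (Lpr_af (f422002 IH) (Lpe (K27.f221993 IH) (Lpn (LP (LK LD1_c25 LD2_c41 LD3_c14))))))
theorem f243830 : Led Lsl_dt (LP (LK LD1_c8 LD2_c55 LD3_c5)) = (LP (LK LD1_c16 LD2_c41 LD3_c8)) :=
  Lre_d IH (LK LD1_c8 LD2_c55 LD3_c5) (LK LD1_c16 LD2_c41 LD3_c8) Lrfl Lrfl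
theorem f290357 : Led Lsl_af (LP (LK LD1_c8 LD2_c55 LD3_c8)) = (LP (LK LD1_c7 LD2_c58 LD3_c54)) :=
  Lgr Lrot45 (Lpr_ft (K27.f290356 IH) (Lpr_at (K27.f174057 IH) (Lpr_ft (K17.f290354 IH) (Lpn (LP (LK LD1_c7 LD2_c58 LD3_c54))))))
theorem f290365 : Led Lsl_gt (LP (LK LD1_c8 LD2_c55 LD3_c13)) = (LP (LK LD1_c5 LD2_c31 LD3_c36)) :=
  Lgr Lrot5 (Lpr_ft (K17.f290354 IH) (Lpe (f290357 IH) (Lpr_gf (K27.f224512 IH) (Lpn (LP (LK LD1_c5 LD2_c31 LD3_c36))))))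
theorem f224521 : Led Lsl_ct (LP (LK LD1_c5 LD2_c31 LD3_c36)) = (LP (LK LD1_c10 LD2_c54 LD3_c56)) :=
  Lre_c IH (LK LD1_c5 LD2_c31 LD3_c36) (LK LD1_c10 LD2_c54 LD3_c56) Lrfl Lrfl
theorem f281567 : Led Lsl_dt (LP (LK LD1_c19 LD2_c43 LD3_c2)) = (LP (LK LD1_c10 LD2_c54 LD3_c56)) :=
  Lre_d IH (LK LD1_c19 LD2_c43 LD3_c2) (LK LD1_c10 LD2_c54 LD3_c56) Lrfl Lrfl
theorem f382667 : Led Lsl_ct (LP (LK LD1_c25 LD2_c38 LD3_c27)) = (LP (LK LD1_c19 LD2_c43 LD3_c2)) :=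
  Lgr Lrot110 (Lpr_gf (K27.f382661 IH) (Lpe (K27.f290371 IH) (Lpe (K30.f290370 IH) (Lpe (f243830 IH) (Lpr_gt (K9.f169328 IH) (Lpr_ct (K17.f174060 IH) (Lpr_gt (f290365 IH) (Lpr_ct (f224521 IH) (Lpe (f281567 IH) (Lpn (LP (LK LD1_c19 LD2_c43 LD3_c2))))))))))))
theorem f382670 : Led Lsl_cf (LP (LK LD1_c25 LD2_c38 LD3_c27)) = (LP (LK LD1_c19 LD2_c43 LD3_c2)) :=
  Lgr Lrot11 (Lpr_ct (f382667 IH) (Lpn (LP (LK LD1_c19 LD2_c43 LD3_c2))))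
theorem f393434 : Led Lsl_ct (LP (LK LD1_c16 LD2_c36 LD3_c51)) = (LP (LK LD1_c15 LD2_c21 LD3_c16)) :=
  Lgr Lrot40 (Lpr_ff (K31.f393430 IH) (Lpe (K31.f393124 IH) (Lpr_ff (K31.f393077 IH) (Lpn (LP (LK LD1_c15 LD2_c21 LD3_c16))))))
theorem f267350 : Led Lsl_bt (LP (LK LD1_c8 LD2_c55 LD3_c5)) = (LP (LK LD1_c16 LD2_c36 LD3_c44)) :=
  Lre_b IH (LK LD1_c8 LD2_c55 LD3_c5) (LK LD1_c16 LD2_c36 LD3_c44) Lrfl Lrfl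
theorem f224522 : Led Lsl_ct (LP (LK LD1_c8 LD2_c55 LD3_c5)) = (LP (LK LD1_c4 LD2_c30 LD3_c19)) :=
  Lre_c IH (LK LD1_c8 LD2_c55 LD3_c5) (LK LD1_c4 LD2_c30 LD3_c19) Lrfl Lrfl
theorem f173518 : Led Lsl_ct (LP (LK LD1_c4 LD2_c30 LD3_c22)) = (LP (LK LD1_c2 LD2_c12 LD3_c10)) :=
  Lre_c IH (LK LD1_c4 LD2_c30 LD3_c22) (LK LD1_c2 LD2_c12 LD3_c10) Lrfl Lrfl
theorem f383125 : Led Lsl_gt (LP (LK LD1_c8 LD2_c58 LD3_c60)) = (LP (LK LD1_c4 LD2_c30 LD3_c22)) :=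
  Lre_g IH (LK LD1_c8 LD2_c58 LD3_c60) (LK LD1_c4 LD2_c30 LD3_c22) Lrfl Lrfl
theorem f393364 : Led Lsl_gt (LP (LK LD1_c15 LD2_c21 LD3_c16)) = (LP (LK LD1_c10 LD2_c59 LD3_c5)) :=
  Lgr Lrot5 (Lpe (K31.f393077 IH) (Lpr_at (K31.f393081 IH) (Lpr_gf (K31.f393361 IH) (Lpn (LP (LK LD1_c10 LD2_c59 LD3_c5))))))
theorem f393569 : Led Lsl_bf (LP (LK LD1_c8 LD2_c58 LD3_c60)) = (LP (LK LD1_c15 LD2_c19 LD3_c10)) :=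
  Lgr Lrot165 (Lpr_gt (f383125 IH) (Lpr_ct (f173518 IH) (Lpr_gt (K9.f169322 IH) (Lpe (f224522 IH) (Lpr_bt (f267350 IH) (Lpr_gt (K12.f218301 IH) (Lpe (K31.f218884 IH) (Lpr_ct (f393434 IH) (Lpr_gt (f393364 IH) (Lpr_cf (K30.f238346 IH) (Lpn (LP (LK LD1_c15 LD2_c19 LD3_c10)))))))))))))
theorem f393571 : Led Lsl_bt (LP (LK LD1_c8 LD2_c58 LD3_c60)) = (LP (LK LD1_c15 LD2_c19 LD3_c10)) :=
  Lgr Lrot127 (Lpr_bf (f393569 IH) (Lpn (LP (LK LD1_c15 LD2_c19 LD3_c10))))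
theorem f383124 : Led Lsl_dt (LP (LK LD1_c16 LD2_c48 LD3_c7)) = (LP (LK LD1_c8 LD2_c58 LD3_c60)) :=
  Lre_d IH (LK LD1_c16 LD2_c48 LD3_c7) (LK LD1_c8 LD2_c58 LD3_c60) Lrfl Lrfl
theorem f200948 : Led Lsl_gt (LP (LK LD1_c25 LD2_c8 LD3_c4)) = (LP (LK LD1_c15 LD2_c17 LD3_c38)) :=
  Lre_g IH (LK LD1_c25 LD2_c8 LD3_c4) (LK LD1_c15 LD2_c17 LD3_c38) Lrfl Lrfl
theorem f223519 : Led Lsl_ct (LP (LK LD1_c8 LD2_c54 LD3_c37)) = (LP (LK LD1_c15 LD2_c9 LD3_c23)) :=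
  Lgr Lrot59 (Lpr_cf (K30.f223472 IH) (Lpn (LP (LK LD1_c15 LD2_c9 LD3_c23))))
theorem f393062 : Led Lsl_df (LP (LK LD1_c25 LD2_c8 LD3_c4)) = (LP (LK LD1_c15 LD2_c19 LD3_c10)) :=
  Lgr Lrot153 (Lpr_gt (f200948 IH) (Lpr_dt (K17.f200947 IH) (Lpe (K17.f200941 IH) (Lpr_df (K17.f200932 IH) (Lpe (K13.f196435 IH) (Lpr_df (K31.f393057 IH) (Lpr_gf (K31.f292262 IH) (Lpe (f223519 IH) (Lpe (K30.f388368 IH) (Lpn (LP (LK LD1_c15 LD2_c19 LD3_c10))))))))))))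
theorem f393573 : Led Lsl_bf (LP (LK LD1_c16 LD2_c48 LD3_c7)) = (LP (LK LD1_c25 LD2_c8 LD3_c4)) :=
  Lgr Lrot93 (Lpr_dt (f383124 IH) (Lpr_bt (f393571 IH) (Lpe (f393062 IH) (Lpn (LP (LK LD1_c25 LD2_c8 LD3_c4))))))
theorem f393575 : Led Lsl_bt (LP (LK LD1_c16 LD2_c48 LD3_c7)) = (LP (LK LD1_c25 LD2_c8 LD3_c4)) :=
  Lgr Lrot127 (Lpr_bf (f393573 IH) (Lpn (LP (LK LD1_c25 LD2_c8 LD3_c4))))
theorem f311934 : Led Lsl_bf (LP (LK LD1_c2 LD2_c23 LD3_c29)) = (LP (LK LD1_c2 LD2_c25 LD3_c25)) :=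
  Lgr Lrot61 (Lpe (K20.f267580 IH) (Lpr_bt (K10.f188586 IH) (Lpr_ft (K19.f311930 IH) (Lpn (LP (LK LD1_c2 LD2_c25 LD3_c25))))))
theorem f311728 : Led Lsl_gt (LP (LK LD1_c2 LD2_c23 LD3_c29)) = (LP (LK LD1_c2 LD2_c0 LD3_c21)) :=
  Lgr Lrot94 (Lpr_cf (K19.f311713 IH) (Lpr_gt (K14.f41276 IH) (Lpr_dt (K1.f41218 IH) (Lpr_gt (K13.f43239 IH) (Lpe (K14.f189486 IH) (Lpe (K13.f219195 IH) (Lpr_df (K14.f189241 IH) (Lpr_gf (K13.f219166 IH) (Lpe (K10.f45797 IH) (Lpn (LP (LK LD1_c2 LD2_c0 LD3_c21))))))))))))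
theorem f393580 : Led Lsl_cf (LP (LK LD1_c16 LD2_c48 LD3_c7)) = (LP (LK LD1_c25 LD2_c41 LD3_c14)) :=
  Lgr Lrot89 (Lpr_bt (f393575 IH) (Lpr_gt (f200948 IH) (Lpr_dt (K17.f200947 IH) (Lpr_ct (K17.f199506 IH) (Lpr_bt (K16.f200940 IH) (Lpe (K12.f228267 IH) (Lpe (K13.f238331 IH) (Lpr_ct (K12.f200711 IH) (Lpr_bt (K15.f223691 IH) (Lpr_gt (K15.f263688 IH) (Lpr_dt (K15.f219092 IH) (Lpr_ct (K14.f171985 IH) (Lpe (f311934 IH) (Lpr_gt (f311728 IH) (Lpr_dt (K10.f45797 IH) (Lpe (K12.f221910 IH) (Lpr_bt (K20.f221914 IH) (Lpr_gt (K27.f221979 IH) (Lpr_dt (K27.f221984 IH) (Lpn (LP (LK LD1_c25 LD2_c41 LD3_c14))))))))))))))))))))))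
theorem f422012 : Led Lsl_af (LP (LK LD1_c19 LD2_c43 LD3_c2)) = (LP (LK LD1_c16 LD2_c48 LD3_c7)) :=
  Lgr Lrot68 (Lpe (f382670 IH) (Lpr_at (f422008 IH) (Lpe (f393580 IH) (Lpn (LP (LK LD1_c16 LD2_c48 LD3_c7))))))
theorem f392458 : Led Lsl_gf (LP (LK LD1_c19 LD2_c43 LD3_c2)) = (LP (LK LD1_c19 LD2_c32 LD3_c11)) :=
  Lgr Lrot147 (Lpe (f382670 IH) (Lpr_gt (K27.f178812 IH) (Lpe (K30.f383021 IH) (Lpr_df (K30.f383023 IH) (Lpr_cf (K31.f392456 IH) (Lpe (K31.f392433 IH) (Lpe (K31.f382494 IH) (Lpe (K31.f341297 IH) (Lpe (K64.f341347 IH) (Lpn (LP (LK LD1_c19 LD2_c32 LD3_c11))))))))))))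
theorem f422018 : Led Lsl_ft (LP (LK LD1_c26 LD2_c37 LD3_c3)) = (LP (LK LD1_c16 LD2_c48 LD3_c7)) :=
  Lgr Lrot2 (Lpe (K64.f399593 IH) (Lpe (f392458 IH) (Lpr_af (f422012 IH) (Lpn (LP (LK LD1_c16 LD2_c48 LD3_c7))))))
theorem f422024 : Led Lsl_ff (LP (LK LD1_c26 LD2_c37 LD3_c3)) = (LP (LK LD1_c16 LD2_c48 LD3_c7)) :=
  Lgr Lrot3 (Lpr_ft (f422018 IH) (Lpn (LP (LK LD1_c16 LD2_c48 LD3_c7))))
theorem f195219 : Led Lsl_dt (LP (LK LD1_c2 LD2_c11 LD3_c20)) = (LP (LK LD1_c4 LD2_c28 LD3_c33)) :=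
  Lre_d IH (LK LD1_c2 LD2_c11 LD3_c20) (LK LD1_c4 LD2_c28 LD3_c33) Lrfl Lrfl
theorem f383081 : Led Lsl_dt (LP (LK LD1_c26 LD2_c37 LD3_c3)) = (LP (LK LD1_c16 LD2_c40 LD3_c3)) :=
  Lgr Lrot27 (Lpr_cf (K30.f383078 IH) (Lpe (K30.f296130 IH) (Lpe (K30.f383031 IH) (Lpe (K30.f195224 IH) (Lpe (f195219 IH) (Lpr_gt (K27.f195240 IH) (Lpr_ct (K27.f223494 IH) (Lpr_gt (K27.f223493 IH) (Lpr_ct (K64.f290378 IH) (Lpn (LP (LK LD1_c16 LD2_c40 LD3_c3))))))))))))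
theorem f383120 : Led Lsl_dt (LP (LK LD1_c8 LD2_c58 LD3_c60)) = (LP (LK LD1_c16 LD2_c48 LD3_c7)) :=
  Lre_d IH (LK LD1_c8 LD2_c58 LD3_c60) (LK LD1_c16 LD2_c48 LD3_c7) Lrfl Lrfl
theorem f422028 : Led Lsl_ft (LP (LK LD1_c16 LD2_c40 LD3_c3)) = (LP (LK LD1_c8 LD2_c58 LD3_c60)) :=
  Lgr Lrot54 (Lpe (f383081 IH) (Lpr_ff (f422024 IH) (Lpe (f383120 IH) (Lpn (LP (LK LD1_c8 LD2_c58 LD3_c60))))))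
theorem f174438 : Led Lsl_gt (LP (LK LD1_c16 LD2_c41 LD3_c18)) = (LP (LK LD1_c8 LD2_c55 LD3_c13)) :=
  Lre_g IH (LK LD1_c16 LD2_c41 LD3_c18) (LK LD1_c8 LD2_c55 LD3_c13) Lrfl Lrfl
theorem f290367 : Led Lsl_at (LP (LK LD1_c10 LD2_c54 LD3_c55)) = (LP (LK LD1_c5 LD2_c31 LD3_c36)) :=
  Lre_a IH (LK LD1_c10 LD2_c54 LD3_c55) (LK LD1_c5 LD2_c31 LD3_c36) Lrfl Lrfl
theorem f290368 : Led Lsl_ft (LP (LK LD1_c16 LD2_c41 LD3_c18)) = (LP (LK LD1_c10 LD2_c54 LD3_c55)) :=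
  Lgr Lrot2 (Lpr_gt (f174438 IH) (Lpr_gt (f290365 IH) (Lpe (f290367 IH) (Lpn (LP (LK LD1_c10 LD2_c54 LD3_c55))))))
theorem f290375 : Led Lsl_ff (LP (LK LD1_c16 LD2_c41 LD3_c18)) = (LP (LK LD1_c10 LD2_c54 LD3_c55)) :=
  Lgr Lrot3 (Lpr_ft (f290368 IH) (Lpn (LP (LK LD1_c10 LD2_c54 LD3_c55))))
theorem f422032 : Led Lsl_cf (LP (LK LD1_c10 LD2_c54 LD3_c55)) = (LP (LK LD1_c8 LD2_c58 LD3_c60)) :=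
  Lgr Lrot108 (Lpe (f290375 IH) (Lpr_ct (K64.f290378 IH) (Lpr_ft (f422028 IH) (Lpn (LP (LK LD1_c8 LD2_c58 LD3_c60))))))
theorem f220802 : Led Lsl_bt (LP (LK LD1_c4 LD2_c3 LD3_c53)) = (LP (LK LD1_c8 LD2_c8 LD3_c11)) :=
  Lre_b IH (LK LD1_c4 LD2_c3 LD3_c53) (LK LD1_c8 LD2_c8 LD3_c11) Lrfl Lrfl
theorem f290426 : Led Lsl_ct (LP (LK LD1_c8 LD2_c55 LD3_c11)) = (LP (LK LD1_c16 LD2_c41 LD3_c22)) :=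
  Lre_c IH (LK LD1_c8 LD2_c55 LD3_c11) (LK LD1_c16 LD2_c41 LD3_c22) Lrfl Lrfl
theorem f422038 : Led Lsl_gf (LP (LK LD1_c10 LD2_c54 LD3_c55)) = (LP (LK LD1_c16 LD2_c41 LD3_c22)) :=
  Lgr Lrot129 (Lpr_cf (f422032 IH) (Lpr_bt (f393571 IH) (Lpr_gt (K30.f220860 IH) (Lpe (f220802 IH) (Lpr_ct (K15.f201296 IH) (Lpr_gt (K12.f220796 IH) (Lpe (K14.f44734 IH) (Lpr_bt (K17.f199129 IH) (Lpe (K17.f290406 IH) (Lpr_ct (f290426 IH) (Lpn (LP (LK LD1_c16 LD2_c41 LD3_c22)))))))))))))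
theorem f290484 : Led Lsl_ft (LP (LK LD1_c16 LD2_c41 LD3_c22)) = (LP (LK LD1_c8 LD2_c55 LD3_c8)) :=
  Lre_f IH (LK LD1_c16 LD2_c41 LD3_c22) (LK LD1_c8 LD2_c55 LD3_c8) Lrfl Lrfl
theorem f422042 : Led Lsl_gt (LP (LK LD1_c10 LD2_c54 LD3_c55)) = (LP (LK LD1_c7 LD2_c58 LD3_c54)) :=
  Lgr Lrot46 (Lpr_gf (f422038 IH) (Lpr_ft (f290484 IH) (Lpr_at (K27.f290380 IH) (Lpn (LP (LK LD1_c7 LD2_c58 LD3_c54))))))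
theorem f332483 : Led Lsl_gt (LP (LK LD1_c4 LD2_c30 LD3_c27)) = (LP (LK LD1_c8 LD2_c58 LD3_c60)) :=
  Lre_g IH (LK LD1_c4 LD2_c30 LD3_c27) (LK LD1_c8 LD2_c58 LD3_c60) Lrfl Lrfl
theorem f390742 : Led Lsl_dt (LP (LK LD1_c4 LD2_c30 LD3_c27)) = (LP (LK LD1_c8 LD2_c59 LD3_c14)) :=
  Lre_d IH (LK LD1_c4 LD2_c30 LD3_c27) (LK LD1_c8 LD2_c59 LD3_c14) Lrfl Lrfl
theorem f390743 : Led Lsl_gt (LP (LK LD1_c8 LD2_c59 LD3_c14)) = (LP (LK LD1_c16 LD2_c48 LD3_c8)) :=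
  Lre_g IH (LK LD1_c8 LD2_c59 LD3_c14) (LK LD1_c16 LD2_c48 LD3_c8) Lrfl Lrfl
theorem f290397 : Led Lsl_dt (LP (LK LD1_c16 LD2_c41 LD3_c11)) = (LP (LK LD1_c8 LD2_c55 LD3_c6)) :=
  Lre_d IH (LK LD1_c16 LD2_c41 LD3_c11) (LK LD1_c8 LD2_c55 LD3_c6) Lrfl Lrfl
theorem f341276 : Led Lsl_ft (LP (LK LD1_c16 LD2_c37 LD3_c28)) = (LP (LK LD1_c10 LD2_c47 LD3_c47)) :=
  Lgr Lrot48 (Lpr_ff (f341261 IH) (Lpn (LP (LK LD1_c10 LD2_c47 LD3_c47))))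
theorem f341278 : Led Lsl_at (LP (LK LD1_c10 LD2_c47 LD3_c47)) = (LP (LK LD1_c19 LD2_c31 LD3_c44)) :=
  Lre_a IH (LK LD1_c10 LD2_c47 LD3_c47) (LK LD1_c19 LD2_c31 LD3_c44) Lrfl Lrfl
theorem f384624 : Led Lsl_gt (LP (LK LD1_c16 LD2_c41 LD3_c24)) = (LP (LK LD1_c19 LD2_c31 LD3_c44)) :=
  Lgr Lrot46 (Lpr_gf (K30.f384622 IH) (Lpr_ft (f341276 IH) (Lpr_at (f341278 IH) (Lpn (LP (LK LD1_c19 LD2_c31 LD3_c44))))))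
theorem f383013 : Led Lsl_df (LP (LK LD1_c16 LD2_c41 LD3_c46)) = (LP (LK LD1_c16 LD2_c4 LD3_c37)) :=
  Lgr Lrot38 (Lpr_dt (K30.f383000 IH) (Lpn (LP (LK LD1_c16 LD2_c4 LD3_c37))))
theorem f386582 : Led Lsl_gt (LP (LK LD1_c15 LD2_c42 LD3_c44)) = (LP (LK LD1_c25 LD2_c38 LD3_c20)) :=
  Lgr Lrot94 (Lpe (K17.f290427 IH) (Lpr_gt (f384624 IH) (Lpr_dt (K16.f279090 IH) (Lpe (K30.f341366 IH) (Lpr_dt (K30.f341368 IH) (Lpe (K27.f318835 IH) (Lpr_df (f383013 IH) (Lpe (K54.f380978 IH) (Lpe (f380980 IH) (Lpn (LP (LK LD1_c25 LD2_c38 LD3_c20))))))))))))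
theorem f382681 : Led Lsl_ff (LP (LK LD1_c16 LD2_c4 LD3_c45)) = (LP (LK LD1_c15 LD2_c42 LD3_c44)) :=
  Lgr Lrot30 (Lpr_at (K27.f344528 IH) (Lpr_ft (K27.f382679 IH) (Lpr_at (K30.f290513 IH) (Lpn (LP (LK LD1_c15 LD2_c42 LD3_c44))))))
theorem f386585 : Led Lsl_gf (LP (LK LD1_c26 LD2_c1 LD3_c57)) = (LP (LK LD1_c25 LD2_c38 LD3_c20)) :=
  Lgr Lrot76 (Lpe (K27.f344528 IH) (Lpr_ff (f382681 IH) (Lpr_gt (f386582 IH) (Lpn (LP (LK LD1_c25 LD2_c38 LD3_c20))))))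
theorem f422625 : Led Lsl_ct (LP (LK LD1_c16 LD2_c48 LD3_c8)) = (LP (LK LD1_c25 LD2_c38 LD3_c20)) :=
  Lgr Lrot152 (Lpe (f390743 IH) (Lpe (f390742 IH) (Lpr_gt (f332483 IH) (Lpe (f422032 IH) (Lpr_gt (f422042 IH) (Lpe (K17.f290362 IH) (Lpe (f290397 IH) (Lpe (K27.f382672 IH) (Lpr_gf (f386585 IH) (Lpn (LP (LK LD1_c25 LD2_c38 LD3_c20))))))))))))
theorem f382516 : Led Lsl_ct (LP (LK LD1_c5 LD2_c29 LD3_c6)) = (LP (LK LD1_c10 LD2_c49 LD3_c28)) :=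
  Lre_c IH (LK LD1_c5 LD2_c29 LD3_c6) (LK LD1_c10 LD2_c49 LD3_c28) Lrfl Lrfl
theorem f382519 : Led Lsl_at (LP (LK LD1_c19 LD2_c33 LD3_c52)) = (LP (LK LD1_c10 LD2_c49 LD3_c28)) :=
  Lre_a IH (LK LD1_c19 LD2_c33 LD3_c52) (LK LD1_c10 LD2_c49 LD3_c28) Lrfl Lrfl
theorem f401190 : Led Lsl_bt (LP (LK LD1_c8 LD2_c53 LD3_c58)) = (LP (LK LD1_c16 LD2_c38 LD3_c43)) :=
  Lre_b IH (LK LD1_c8 LD2_c53 LD3_c58) (LK LD1_c16 LD2_c38 LD3_c43) Lrfl Lrfl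
theorem f293018 : Led Lsl_dt (LP (LK LD1_c16 LD2_c38 LD3_c44)) = (LP (LK LD1_c8 LD2_c53 LD3_c58)) :=
  Lre_d IH (LK LD1_c16 LD2_c38 LD3_c44) (LK LD1_c8 LD2_c53 LD3_c58) Lrfl Lrfl
theorem f227133 : Led Lsl_dt (LP (LK LD1_c25 LD2_c9 LD3_c33)) = (LP (LK LD1_c15 LD2_c18 LD3_c43)) :=
  Lre_d IH (LK LD1_c25 LD2_c9 LD3_c33) (LK LD1_c15 LD2_c18 LD3_c43) Lrfl Lrfl
theorem f381009 : Led Lsl_bt (LP (LK LD1_c24 LD2_c52 LD3_c41)) = (LP (LK LD1_c25 LD2_c9 LD3_c33)) :=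
  Lgr Lrot95 (Lpr_df (K30.f380912 IH) (Lpr_bf (K30.f319265 IH) (Lpe (f227133 IH) (Lpn (LP (LK LD1_c25 LD2_c9 LD3_c33))))))
theorem f381011 : Led Lsl_bf (LP (LK LD1_c24 LD2_c52 LD3_c41)) = (LP (LK LD1_c25 LD2_c9 LD3_c33)) :=
  Lgr Lrot24 (Lpr_bt (f381009 IH) (Lpn (LP (LK LD1_c25 LD2_c9 LD3_c33))))
theorem f266969 : Led Lsl_bt (LP (LK LD1_c15 LD2_c2 LD3_c36)) = (LP (LK LD1_c7 LD2_c58 LD3_c27)) :=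
  Lre_b IH (LK LD1_c15 LD2_c2 LD3_c36) (LK LD1_c7 LD2_c58 LD3_c27) Lrfl Lrfl
theorem f292914 : Led Lsl_gt (LP (LK LD1_c24 LD2_c51 LD3_c21)) = (LP (LK LD1_c31 LD2_c41 LD3_c23)) :=
  Lre_g IH (LK LD1_c24 LD2_c51 LD3_c21) (LK LD1_c31 LD2_c41 LD3_c23) Lrfl Lrfl
theorem f381013 : Led Lsl_cf (LP (LK LD1_c31 LD2_c41 LD3_c23)) = (LP (LK LD1_c25 LD2_c9 LD3_c33)) :=
  Lgr Lrot58 (Lpe (f292914 IH) (Lpe (K17.f219018 IH) (Lpr_bt (f266969 IH) (Lpe (K18.f303314 IH) (Lpe (K19.f305134 IH) (Lpr_ct (K27.f253814 IH) (Lpe (K27.f380884 IH) (Lpe (K27.f275504 IH) (Lpr_gf (K30.f318572 IH) (Lpr_bf (f381011 IH) (Lpn (LP (LK LD1_c25 LD2_c9 LD3_c33)))))))))))))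
theorem f381015 : Led Lsl_ct (LP (LK LD1_c31 LD2_c41 LD3_c23)) = (LP (LK LD1_c25 LD2_c9 LD3_c33)) :=
  Lgr Lrot59 (Lpr_cf (f381013 IH) (Lpn (LP (LK LD1_c25 LD2_c9 LD3_c33))))
theorem f219022 : Led Lsl_gt (LP (LK LD1_c24 LD2_c51 LD3_c20)) = (LP (LK LD1_c15 LD2_c2 LD3_c36)) :=
  Lre_g IH (LK LD1_c24 LD2_c51 LD3_c20) (LK LD1_c15 LD2_c2 LD3_c36) Lrfl Lrfl
theorem f381020 : Led Lsl_df (LP (LK LD1_c24 LD2_c51 LD3_c20)) = (LP (LK LD1_c15 LD2_c18 LD3_c33)) :=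
  Lgr Lrot155 (Lpr_gt (f219022 IH) (Lpr_ct (K17.f219018 IH) (Lpr_gt (f292914 IH) (Lpr_ct (f381015 IH) (Lpr_dt (f227133 IH) (Lpe (K30.f227116 IH) (Lpe (K30.f218876 IH) (Lpe (K30.f226827 IH) (Lpe (K30.f227120 IH) (Lpn (LP (LK LD1_c15 LD2_c18 LD3_c33))))))))))))
theorem f219021 : Led Lsl_dt (LP (LK LD1_c15 LD2_c2 LD3_c36)) = (LP (LK LD1_c7 LD2_c58 LD3_c26)) :=
  Lre_d IH (LK LD1_c15 LD2_c2 LD3_c36) (LK LD1_c7 LD2_c58 LD3_c26) Lrfl Lrfl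
theorem f223652 : Led Lsl_gt (LP (LK LD1_c8 LD2_c36 LD3_c48)) = (LP (LK LD1_c4 LD2_c19 LD3_c11)) :=
  Lre_g IH (LK LD1_c8 LD2_c36 LD3_c48) (LK LD1_c4 LD2_c19 LD3_c11) Lrfl Lrfl
theorem f226857 : Led Lsl_gt (LP (LK LD1_c8 LD2_c7 LD3_c57)) = (LP (LK LD1_c4 LD2_c3 LD3_c46)) :=
  Lre_g IH (LK LD1_c8 LD2_c7 LD3_c57) (LK LD1_c4 LD2_c3 LD3_c46) Lrfl Lrfl
theorem f292328 : Led Lsl_gf (LP (LK LD1_c8 LD2_c7 LD3_c57)) = (LP (LK LD1_c9 LD2_c37 LD3_c34)) :=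
  Lgr Lrot47 (Lpr_gt (f226857 IH) (Lpe (K17.f227158 IH) (Lpr_ff (K17.f292254 IH) (Lpn (LP (LK LD1_c9 LD2_c37 LD3_c34))))))
theorem f381025 : Led Lsl_df (LP (LK LD1_c8 LD2_c36 LD3_c48)) = (LP (LK LD1_c8 LD2_c7 LD3_c57)) :=
  Lgr Lrot153 (Lpr_gt (f223652 IH) (Lpr_dt (K31.f223597 IH) (Lpe (K27.f218699 IH) (Lpe (f219021 IH) (Lpe (f219022 IH) (Lpr_df (f381020 IH) (Lpr_gf (K38.f292274 IH) (Lpr_cf (K31.f170800 IH) (Lpe (f292328 IH) (Lpn (LP (LK LD1_c8 LD2_c7 LD3_c57))))))))))))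
theorem f381031 : Led Lsl_dt (LP (LK LD1_c8 LD2_c36 LD3_c48)) = (LP (LK LD1_c8 LD2_c7 LD3_c57)) :=
  Lgr Lrot42 (Lpr_df (f381025 IH) (Lpn (LP (LK LD1_c8 LD2_c7 LD3_c57))))
theorem f292998 : Led Lsl_gf (LP (LK LD1_c8 LD2_c36 LD3_c48)) = (LP (LK LD1_c8 LD2_c7 LD3_c30)) :=
  Lgr Lrot47 (Lpr_gt (f223652 IH) (Lpe (K17.f223658 IH) (Lpr_ff (K17.f292988 IH) (Lpn (LP (LK LD1_c8 LD2_c7 LD3_c30))))))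
theorem f293015 : Led Lsl_dt (LP (LK LD1_c8 LD2_c53 LD3_c58)) = (LP (LK LD1_c16 LD2_c38 LD3_c44)) :=
  Lre_d IH (LK LD1_c8 LD2_c53 LD3_c58) (LK LD1_c16 LD2_c38 LD3_c44) Lrfl Lrfl
theorem f227101 : Led Lsl_dt (LP (LK LD1_c15 LD2_c19 LD3_c12)) = (LP (LK LD1_c8 LD2_c8 LD3_c11)) :=
  Lre_d IH (LK LD1_c15 LD2_c19 LD3_c12) (LK LD1_c8 LD2_c8 LD3_c11) Lrfl Lrfl
theorem f381050 : Led Lsl_gt (LP (LK LD1_c16 LD2_c38 LD3_c44)) = (LP (LK LD1_c15 LD2_c19 LD3_c12)) :=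
  Lgr Lrot49 (Lpe (f293015 IH) (Lpr_gf (K38.f293013 IH) (Lpe (K16.f200989 IH) (Lpe (f292998 IH) (Lpr_dt (f381031 IH) (Lpr_gt (f226857 IH) (Lpe (K17.f227105 IH) (Lpe (K20.f218819 IH) (Lpe (f227101 IH) (Lpn (LP (LK LD1_c15 LD2_c19 LD3_c12))))))))))))
theorem f292253 : Led Lsl_at (LP (LK LD1_c25 LD2_c10 LD3_c11)) = (LP (LK LD1_c15 LD2_c19 LD3_c12)) :=
  Lre_a IH (LK LD1_c25 LD2_c10 LD3_c11) (LK LD1_c15 LD2_c19 LD3_c12) Lrfl Lrfl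
theorem f227175 : Led Lsl_dt (LP (LK LD1_c25 LD2_c10 LD3_c11)) = (LP (LK LD1_c15 LD2_c19 LD3_c11)) :=
  Lre_d IH (LK LD1_c25 LD2_c10 LD3_c11) (LK LD1_c15 LD2_c19 LD3_c11) Lrfl Lrfl
theorem f265473 : Led Lsl_at (LP (LK LD1_c16 LD2_c40 LD3_c5)) = (LP (LK LD1_c8 LD2_c54 LD3_c38)) :=
  Lre_a IH (LK LD1_c16 LD2_c40 LD3_c5) (LK LD1_c8 LD2_c54 LD3_c38) Lrfl Lrfl
theorem f292243 : Led Lsl_ft (LP (LK LD1_c25 LD2_c10 LD3_c11)) = (LP (LK LD1_c16 LD2_c40 LD3_c5)) :=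
  Lgr Lrot142 (Lpr_dt (f227175 IH) (Lpr_ct (K31.f227174 IH) (Lpr_dt (K17.f227159 IH) (Lpr_ct (K17.f227176 IH) (Lpr_dt (K17.f227177 IH) (Lpr_ct (K17.f292232 IH) (Lpr_dt (K17.f223477 IH) (Lpr_ct (K17.f223476 IH) (Lpe (f265473 IH) (Lpn (LP (LK LD1_c16 LD2_c40 LD3_c5))))))))))))
theorem f292247 : Led Lsl_ff (LP (LK LD1_c25 LD2_c10 LD3_c11)) = (LP (LK LD1_c16 LD2_c40 LD3_c5)) :=
  Lgr Lrot3 (Lpr_ft (f292243 IH) (Lpn (LP (LK LD1_c16 LD2_c40 LD3_c5))))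
theorem f381061 : Led Lsl_gf (LP (LK LD1_c16 LD2_c38 LD3_c44)) = (LP (LK LD1_c16 LD2_c40 LD3_c5)) :=
  Lgr Lrot47 (Lpr_gt (f381050 IH) (Lpe (f292253 IH) (Lpr_ff (f292247 IH) (Lpn (LP (LK LD1_c16 LD2_c40 LD3_c5))))))
theorem f223521 : Led Lsl_dt (LP (LK LD1_c8 LD2_c54 LD3_c37)) = (LP (LK LD1_c16 LD2_c40 LD3_c5)) :=
  Lre_d IH (LK LD1_c8 LD2_c54 LD3_c37) (LK LD1_c16 LD2_c40 LD3_c5) Lrfl Lrfl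
theorem f223525 : Led Lsl_at (LP (LK LD1_c4 LD2_c28 LD3_c15)) = (LP (LK LD1_c8 LD2_c54 LD3_c37)) :=
  Lre_a IH (LK LD1_c4 LD2_c28 LD3_c15) (LK LD1_c8 LD2_c54 LD3_c37) Lrfl Lrfl
theorem f292214 : Led Lsl_gt (LP (LK LD1_c15 LD2_c19 LD3_c9)) = (LP (LK LD1_c8 LD2_c54 LD3_c37)) :=
  Lgr Lrot46 (Lpe (K31.f200811 IH) (Lpr_ft (K17.f292204 IH) (Lpr_at (f223525 IH) (Lpn (LP (LK LD1_c8 LD2_c54 LD3_c37))))))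
theorem f275516 : Led Lsl_bf (LP (LK LD1_c10 LD2_c58 LD3_c59)) = (LP (LK LD1_c15 LD2_c9 LD3_c21)) :=
  Lgr Lrot93 (Lpr_dt (K31.f275515 IH) (Lpr_bt (K27.f221043 IH) (Lpr_dt (K27.f275512 IH) (Lpn (LP (LK LD1_c15 LD2_c9 LD3_c21))))))
theorem f393451 : Led Lsl_gt (LP (LK LD1_c16 LD2_c36 LD3_c51)) = (LP (LK LD1_c24 LD2_c58 LD3_c18)) :=
  Lgr Lrot65 (Lpr_cf (K31.f393443 IH) (Lpe (K31.f393174 IH) (Lpe (K31.f389561 IH) (Lpe (K31.f388494 IH) (Lpr_ct (K31.f387880 IH) (Lpr_gf (K31.f389559 IH) (Lpe (K30.f389543 IH) (Lpr_gf (K41.f389087 IH) (Lpr_bf (f275516 IH) (Lpr_ct (K27.f223482 IH) (Lpn (LP (LK LD1_c24 LD2_c58 LD3_c18)))))))))))))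
theorem f393457 : Led Lsl_gf (LP (LK LD1_c15 LD2_c21 LD3_c16)) = (LP (LK LD1_c25 LD2_c10 LD3_c9)) :=
  Lgr Lrot147 (Lpe (K31.f393443 IH) (Lpr_gt (f393451 IH) (Lpr_ct (K27.f223497 IH) (Lpe (K27.f275512 IH) (Lpe (K27.f238385 IH) (Lpe (K31.f238406 IH) (Lpr_cf (K31.f391033 IH) (Lpr_gf (K31.f393049 IH) (Lpe (K41.f390068 IH) (Lpn (LP (LK LD1_c25 LD2_c10 LD3_c9))))))))))))
theorem f393608 : Led Lsl_gt (LP (LK LD1_c25 LD2_c12 LD3_c32)) = (LP (LK LD1_c15 LD2_c53 LD3_c10)) :=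
  Lgr Lrot9 (Lpe (K31.f393073 IH) (Lpr_gt (f393364 IH) (Lpr_ct (K30.f238335 IH) (Lpr_gt (K30.f220860 IH) (Lpr_ct (K20.f218819 IH) (Lpr_df (K17.f227105 IH) (Lpe (K30.f226827 IH) (Lpe (K30.f227120 IH) (Lpe (K30.f243663 IH) (Lpn (LP (LK LD1_c15 LD2_c53 LD3_c10))))))))))))
theorem f401197 : Led Lsl_dt (LP (LK LD1_c15 LD2_c53 LD3_c10)) = (LP (LK LD1_c15 LD2_c22 LD3_c28)) :=
  Lgr Lrot105 (Lpe (f393608 IH) (Lpe (K31.f393073 IH) (Lpr_gf (f393457 IH) (Lpe (K31.f220803 IH) (Lpr_gt (f292214 IH) (Lpr_dt (f223521 IH) (Lpe (f381061 IH) (Lpr_dt (f293018 IH) (Lpr_cf (K38.f401188 IH) (Lpn (LP (LK LD1_c15 LD2_c22 LD3_c28))))))))))))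
theorem f188963 : Led Lsl_gt (LP (LK LD1_c8 LD2_c27 LD3_c8)) = (LP (LK LD1_c15 LD2_c52 LD3_c15)) :=
  Lre_g IH (LK LD1_c8 LD2_c27 LD3_c8) (LK LD1_c15 LD2_c52 LD3_c15) Lrfl Lrfl
theorem f389840 : Led Lsl_df (LP (LK LD1_c10 LD2_c46 LD3_c54)) = (LP (LK LD1_c15 LD2_c52 LD3_c15)) :=
  Lgr Lrot84 (Lpe (K31.f243667 IH) (Lpe (K31.f331969 IH) (Lpe (K31.f389561 IH) (Lpr_df (K31.f388479 IH) (Lpr_gf (K31.f389838 IH) (Lpe (K31.f200779 IH) (Lpr_gt (K11.f200792 IH) (Lpr_dt (K10.f52709 IH) (Lpr_gt (f188963 IH) (Lpn (LP (LK LD1_c15 LD2_c52 LD3_c15))))))))))))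
theorem f188962 : Led Lsl_bt (LP (LK LD1_c4 LD2_c14 LD3_c16)) = (LP (LK LD1_c8 LD2_c27 LD3_c8)) :=
  Lre_b IH (LK LD1_c4 LD2_c14 LD3_c16) (LK LD1_c8 LD2_c27 LD3_c8) Lrfl Lrfl
theorem f250589 : Led Lsl_dt (LP (LK LD1_c16 LD2_c0 LD3_c58)) = (LP (LK LD1_c8 LD2_c31 LD3_c54)) :=
  Lre_d IH (LK LD1_c16 LD2_c0 LD3_c58) (LK LD1_c8 LD2_c31 LD3_c54) Lrfl Lrfl
theorem f250616 : Led Lsl_gt (LP (LK LD1_c25 LD2_c58 LD3_c23)) = (LP (LK LD1_c16 LD2_c0 LD3_c58)) :=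
  Lre_g IH (LK LD1_c25 LD2_c58 LD3_c23) (LK LD1_c16 LD2_c0 LD3_c58) Lrfl Lrfl
theorem f250590 : Led Lsl_bf (LP (LK LD1_c16 LD2_c0 LD3_c58)) = (LP (LK LD1_c10 LD2_c32 LD3_c45)) :=
  Lgr Lrot93 (Lpr_dt (f250589 IH) (Lpr_bt (K20.f250586 IH) (Lpr_dt (K18.f43200 IH) (Lpn (LP (LK LD1_c10 LD2_c32 LD3_c45))))))
theorem f399614 : Led Lsl_bt (LP (LK LD1_c26 LD2_c40 LD3_c16)) = (LP (LK LD1_c25 LD2_c58 LD3_c23)) :=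
  Lgr Lrot22 (Lpe (K64.f341348 IH) (Lpr_gf (K64.f399593 IH) (Lpr_cf (K30.f383078 IH) (Lpe (K30.f296130 IH) (Lpe (K30.f296123 IH) (Lpe (K18.f295938 IH) (Lpe (K18.f296126 IH) (Lpe (K18.f296000 IH) (Lpe (f250590 IH) (Lpe (f250616 IH) (Lpn (LP (LK LD1_c25 LD2_c58 LD3_c23)))))))))))))
theorem f341361 : Led Lsl_dt (LP (LK LD1_c10 LD2_c47 LD3_c60)) = (LP (LK LD1_c19 LD2_c32 LD3_c11)) :=
  Lre_d IH (LK LD1_c10 LD2_c47 LD3_c60) (LK LD1_c19 LD2_c32 LD3_c11) Lrfl Lrfl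
theorem f401204 : Led Lsl_gt (LP (LK LD1_c16 LD2_c38 LD3_c43)) = (LP (LK LD1_c10 LD2_c47 LD3_c60)) :=
  Lgr Lrot190 (Lpe (f401190 IH) (Lpr_cf (K38.f401188 IH) (Lpe (f401197 IH) (Lpe (f393608 IH) (Lpe (K31.f393187 IH) (Lpe (K31.f312033 IH) (Lpr_df (f389840 IH) (Lpe (f188963 IH) (Lpe (f188962 IH) (Lpe (K13.f188943 IH) (Lpe (K15.f874 IH) (Lpe (K12.f53401 IH) (Lpe (K27.f53402 IH) (Lpe (K20.f250513 IH) (Lpe (f250589 IH) (Lpe (f250616 IH) (Lpe (f399614 IH) (Lpe (K64.f341358 IH) (Lpe (f341361 IH) (Lpn (LP (LK LD1_c10 LD2_c47 LD3_c60))))))))))))))))))))))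
theorem f401259 : Led Lsl_ft (LP (LK LD1_c16 LD2_c38 LD3_c43)) = (LP (LK LD1_c19 LD2_c33 LD3_c52)) :=
  Lgr Lrot2 (Lpr_gt (f401204 IH) (Lpr_gt (K31.f341297 IH) (Lpe (f382519 IH) (Lpn (LP (LK LD1_c19 LD2_c33 LD3_c52))))))
theorem f422632 : Led Lsl_df (LP (LK LD1_c16 LD2_c48 LD3_c8)) = (LP (LK LD1_c16 LD2_c38 LD3_c43)) :=
  Lgr Lrot157 (Lpr_ct (f422625 IH) (Lpr_dt (f380980 IH) (Lpr_ct (K54.f399567 IH) (Lpe (f399573 IH) (Lpr_ct (K31.f382496 IH) (Lpr_dt (K31.f382495 IH) (Lpr_ct (f382516 IH) (Lpe (f382519 IH) (Lpe (f401259 IH) (Lpn (LP (LK LD1_c16 LD2_c38 LD3_c43))))))))))))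
theorem f392204 : Led Lsl_bt (LP (LK LD1_c4 LD2_c29 LD3_c16)) = (LP (LK LD1_c8 LD2_c56 LD3_c46)) :=
  Lre_b IH (LK LD1_c4 LD2_c29 LD3_c16) (LK LD1_c8 LD2_c56 LD3_c46) Lrfl Lrfl
theorem f221291 : Led Lsl_bt (LP (LK LD1_c10 LD2_c55 LD3_c6)) = (LP (LK LD1_c5 LD2_c31 LD3_c41)) :=
  Lre_b IH (LK LD1_c10 LD2_c55 LD3_c6) (LK LD1_c5 LD2_c31 LD3_c41) Lrfl Lrfl
theorem f392205 : Led Lsl_dt (LP (LK LD1_c8 LD2_c56 LD3_c46)) = (LP (LK LD1_c10 LD2_c55 LD3_c6)) :=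
  Lgr Lrot79 (Lpe (f392204 IH) (Lpr_df (K31.f392183 IH) (Lpe (f221291 IH) (Lpn (LP (LK LD1_c10 LD2_c55 LD3_c6))))))
theorem f392295 : Led Lsl_at (LP (LK LD1_c16 LD2_c44 LD3_c53)) = (LP (LK LD1_c8 LD2_c56 LD3_c46)) :=
  Lre_a IH (LK LD1_c16 LD2_c44 LD3_c53) (LK LD1_c8 LD2_c56 LD3_c46) Lrfl Lrfl
theorem f392296 : Led Lsl_at (LP (LK LD1_c10 LD2_c55 LD3_c6)) = (LP (LK LD1_c19 LD2_c43 LD3_c22)) :=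
  Lre_a IH (LK LD1_c10 LD2_c55 LD3_c6) (LK LD1_c19 LD2_c43 LD3_c22) Lrfl Lrfl
theorem f392297 : Led Lsl_df (LP (LK LD1_c16 LD2_c44 LD3_c53)) = (LP (LK LD1_c19 LD2_c43 LD3_c22)) :=
  Lgr Lrot18 (Lpr_at (f392295 IH) (Lpr_dt (f392205 IH) (Lpr_at (f392296 IH) (Lpn (LP (LK LD1_c19 LD2_c43 LD3_c22))))))
theorem f727749 : Led Lsl_cf (LP (LK LD1_c16 LD2_c38 LD3_c43)) = (LP (LK LD1_c16 LD2_c44 LD3_c53)) :=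
  Lgr Lrot118 (Lpe (f422632 IH) (Lpr_ct (f422625 IH) (Lpr_dt (f380980 IH) (Lpr_ct (K54.f399567 IH) (Lpe (f399573 IH) (Lpr_ct (K31.f382496 IH) (Lpe (f382518 IH) (Lpr_ff (f727741 IH) (Lpe (f392297 IH) (Lpn (LP (LK LD1_c16 LD2_c44 LD3_c53))))))))))))
theorem f422627 : Led Lsl_cf (LP (LK LD1_c16 LD2_c48 LD3_c8)) = (LP (LK LD1_c25 LD2_c38 LD3_c20)) :=
  Lgr Lrot11 (Lpr_ct (f422625 IH) (Lpn (LP (LK LD1_c25 LD2_c38 LD3_c20))))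
theorem f383033 : Led Lsl_dt (LP (LK LD1_c8 LD2_c55 LD3_c17)) = (LP (LK LD1_c16 LD2_c37 LD3_c25)) :=
  Lgr Lrot60 (Lpr_ff (K30.f383026 IH) (Lpr_df (K27.f380931 IH) (Lpe (K30.f382810 IH) (Lpn (LP (LK LD1_c16 LD2_c37 LD3_c25))))))
theorem f392442 : Led Lsl_ct (LP (LK LD1_c16 LD2_c37 LD3_c25)) = (LP (LK LD1_c10 LD2_c49 LD3_c26)) :=
  Lgr Lrot176 (Lpe (f383033 IH) (Lpr_cf (K30.f383021 IH) (Lpe (K30.f178808 IH) (Lpr_cf (K27.f178802 IH) (Lpe (K27.f255941 IH) (Lpr_cf (K30.f384288 IH) (Lpr_df (K30.f384299 IH) (Lpe (K30.f384294 IH) (Lpr_df (K30.f341391 IH) (Lpe (K27.f318835 IH) (Lpr_df (f383013 IH) (Lpe (K30.f179696 IH) (Lpe (K30.f383089 IH) (Lpe (K30.f173472 IH) (Lpr_df (K31.f392434 IH) (Lpn (LP (LK LD1_c10 LD2_c49 LD3_c26))))))))))))))))))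
theorem f727759 : Led Lsl_gt (LP (LK LD1_c10 LD2_c49 LD3_c26)) = (LP (LK LD1_c16 LD2_c44 LD3_c53)) :=
  Lgr Lrot150 (Lpe (f392442 IH) (Lpe (K30.f191921 IH) (Lpe (K30.f225892 IH) (Lpe (K30.f384622 IH) (Lpr_ct (K17.f290427 IH) (Lpr_gt (f386582 IH) (Lpe (f422627 IH) (Lpr_df (f422632 IH) (Lpr_cf (f727749 IH) (Lpn (LP (LK LD1_c16 LD2_c44 LD3_c53))))))))))))
theorem f404851 : Led Lsl_ct (LP (LK LD1_c15 LD2_c1 LD3_c53)) = (LP (LK LD1_c16 LD2_c43 LD3_c6)) :=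
  Lgr Lrot59 (Lpr_cf (K54.f404848 IH) (Lpn (LP (LK LD1_c16 LD2_c43 LD3_c6))))
theorem f171970 : Led Lsl_ct (LP (LK LD1_c27 LD2_c37 LD3_c16)) = (LP (LK LD1_c17 LD2_c50 LD3_c9)) :=
  Lre_c IH (LK LD1_c27 LD2_c37 LD3_c16) (LK LD1_c17 LD2_c50 LD3_c9) Lrfl Lrfl
theorem f199335 : Led Lsl_bt (LP (LK LD1_c28 LD2_c29 LD3_c37)) = (LP (LK LD1_c19 LD2_c3 LD3_c22)) :=
  Lre_b IH (LK LD1_c28 LD2_c29 LD3_c37) (LK LD1_c19 LD2_c3 LD3_c22) Lrfl Lrfl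
theorem f385045 : Led Lsl_gt (LP (LK LD1_c5 LD2_c35 LD3_c38)) = (LP (LK LD1_c11 LD2_c3 LD3_c25)) :=
  Lre_g IH (LK LD1_c5 LD2_c35 LD3_c38) (LK LD1_c11 LD2_c3 LD3_c25) Lrfl Lrfl
theorem f394925 : Led Lsl_ct (LP (LK LD1_c11 LD2_c3 LD3_c25)) = (LP (LK LD1_c19 LD2_c55 LD3_c22)) :=
  Lre_c IH (LK LD1_c11 LD2_c3 LD3_c25) (LK LD1_c19 LD2_c55 LD3_c22) Lrfl Lrfl
theorem f401879 : Led Lsl_gt (LP (LK LD1_c19 LD2_c55 LD3_c22)) = (LP (LK LD1_c29 LD2_c11 LD3_c10)) :=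
  Lre_g IH (LK LD1_c19 LD2_c55 LD3_c22) (LK LD1_c29 LD2_c11 LD3_c10) Lrfl Lrfl
theorem f403383 : Led Lsl_ct (LP (LK LD1_c28 LD2_c29 LD3_c37)) = (LP (LK LD1_c29 LD2_c11 LD3_c10)) :=
  Lgr Lrot63 (Lpr_bt (f199335 IH) (Lpr_gt (K38.f199334 IH) (Lpe (K30.f199324 IH) (Lpr_ct (K12.f172013 IH) (Lpr_gt (K13.f199322 IH) (Lpr_cf (K20.f311618 IH) (Lpr_bt (f324545 IH) (Lpr_gt (f385045 IH) (Lpr_ct (f394925 IH) (Lpr_gt (f401879 IH) (Lpn (LP (LK LD1_c29 LD2_c11 LD3_c10)))))))))))))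
theorem f403385 : Led Lsl_bt (LP (LK LD1_c19 LD2_c3 LD3_c22)) = (LP (LK LD1_c28 LD2_c29 LD3_c37)) :=
  Lre_b IH (LK LD1_c19 LD2_c3 LD3_c22) (LK LD1_c28 LD2_c29 LD3_c37) Lrfl Lrfl
theorem f403386 : Led Lsl_bt (LP (LK LD1_c17 LD2_c50 LD3_c9)) = (LP (LK LD1_c27 LD2_c37 LD3_c15)) :=
  Lre_b IH (LK LD1_c17 LD2_c50 LD3_c9) (LK LD1_c27 LD2_c37 LD3_c15) Lrfl Lrfl
theorem f403387 : Led Lsl_bf (LP (LK LD1_c27 LD2_c37 LD3_c16)) = (LP (LK LD1_c29 LD2_c11 LD3_c10)) :=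
  Lgr Lrot90 (Lpr_ct (f171970 IH) (Lpr_bt (f403386 IH) (Lpr_ct (K38.f252140 IH) (Lpr_bt (f403385 IH) (Lpr_ct (f403383 IH) (Lpn (LP (LK LD1_c29 LD2_c11 LD3_c10))))))))
theorem f403391 : Led Lsl_bt (LP (LK LD1_c27 LD2_c37 LD3_c16)) = (LP (LK LD1_c29 LD2_c11 LD3_c10)) :=
  Lgr Lrot127 (Lpr_bf (f403387 IH) (Lpn (LP (LK LD1_c29 LD2_c11 LD3_c10))))
theorem f401892 : Led Lsl_bt (LP (LK LD1_c29 LD2_c11 LD3_c11)) = (LP (LK LD1_c19 LD2_c55 LD3_c22)) :=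
  Lre_b IH (LK LD1_c29 LD2_c11 LD3_c11) (LK LD1_c19 LD2_c55 LD3_c22) Lrfl Lrfl
theorem f401877 : Led Lsl_gf (LP (LK LD1_c16 LD2_c50 LD3_c18)) = (LP (LK LD1_c11 LD2_c3 LD3_c25)) :=
  Lgr Lrot76 (Lpe (K31.f324474 IH) (Lpr_ff (f324546 IH) (Lpr_gt (f385045 IH) (Lpn (LP (LK LD1_c11 LD2_c3 LD3_c25))))))
theorem f386467 : Led Lsl_cf (LP (LK LD1_c16 LD2_c50 LD3_c18)) = (LP (LK LD1_c24 LD2_c49 LD3_c34)) :=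
  Lgr Lrot11 (Lpr_ct (K31.f386463 IH) (Lpn (LP (LK LD1_c24 LD2_c49 LD3_c34))))
theorem f370263 : Led Lsl_at (LP (LK LD1_c24 LD2_c49 LD3_c27)) = (LP (LK LD1_c15 LD2_c1 LD3_c27)) :=
  Lre_a IH (LK LD1_c24 LD2_c49 LD3_c27) (LK LD1_c15 LD2_c1 LD3_c27) Lrfl Lrfl
theorem f371456 : Led Lsl_gt (LP (LK LD1_c24 LD2_c49 LD3_c26)) = (LP (LK LD1_c15 LD2_c1 LD3_c27)) :=
  Lre_g IH (LK LD1_c24 LD2_c49 LD3_c26) (LK LD1_c15 LD2_c1 LD3_c27) Lrfl Lrfl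
theorem f371457 : Led Lsl_gf (LP (LK LD1_c24 LD2_c49 LD3_c26)) = (LP (LK LD1_c19 LD2_c29 LD3_c13)) :=
  Lgr Lrot47 (Lpr_gt (f371456 IH) (Lpe (f370263 IH) (Lpr_ff (K30.f371447 IH) (Lpn (LP (LK LD1_c19 LD2_c29 LD3_c13))))))
theorem f393193 : Led Lsl_bf (LP (LK LD1_c19 LD2_c30 LD3_c8)) = (LP (LK LD1_c25 LD2_c12 LD3_c32)) :=
  Lgr Lrot61 (Lpr_ft (K31.f393191 IH) (Lpe (K31.f388156 IH) (Lpr_ft (K64.f393084 IH) (Lpn (LP (LK LD1_c25 LD2_c12 LD3_c32))))))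
theorem f228627 : Led Lsl_cf (LP (LK LD1_c11 LD2_c8 LD3_c50)) = (LP (LK LD1_c10 LD2_c36 LD3_c7)) :=
  Lgr Lrot11 (Lpr_ct (K31.f228617 IH) (Lpn (LP (LK LD1_c10 LD2_c36 LD3_c7))))
theorem f247313 : Led Lsl_cf (LP (LK LD1_c15 LD2_c22 LD3_c12)) = (LP (LK LD1_c16 LD2_c44 LD3_c22)) :=
  Lgr Lrot1 (Lpr_at (K30.f247302 IH) (Lpr_ct (K14.f247298 IH) (Lpr_at (K17.f247312 IH) (Lpn (LP (LK LD1_c16 LD2_c44 LD3_c22))))))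
theorem f371390 : Led Lsl_et (LP (LK LD1_c15 LD2_c1 LD3_c27)) = (LP (LK LD1_c24 LD2_c49 LD3_c29)) :=
  Lre_e IH (LK LD1_c15 LD2_c1 LD3_c27) (LK LD1_c24 LD2_c49 LD3_c29) Lrfl Lrfl
theorem f371391 : Led Lsl_cf (LP (LK LD1_c15 LD2_c1 LD3_c27)) = (LP (LK LD1_c8 LD2_c18 LD3_c30)) :=
  Lgr Lrot39 (Lpr_et (f371390 IH) (Lpr_ct (K30.f371377 IH) (Lpr_et (K21.f324359 IH) (Lpn (LP (LK LD1_c8 LD2_c18 LD3_c30))))))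
theorem f312032 : Led Lsl_bt (LP (LK LD1_c19 LD2_c30 LD3_c7)) = (LP (LK LD1_c10 LD2_c46 LD3_c54)) :=
  Lre_b IH (LK LD1_c19 LD2_c30 LD3_c7) (LK LD1_c10 LD2_c46 LD3_c54) Lrfl Lrfl
theorem f371502 : Led Lsl_cf (LP (LK LD1_c24 LD2_c49 LD3_c26)) = (LP (LK LD1_c19 LD2_c30 LD3_c7)) :=
  Lgr Lrot160 (Lpr_gt (f371456 IH) (Lpr_cf (f371391 IH) (Lpr_bt (K31.f236321 IH) (Lpe (K18.f236259 IH) (Lpr_ct (K13.f188606 IH) (Lpr_gt (K19.f312028 IH) (Lpe (K13.f243637 IH) (Lpr_bt (K18.f243652 IH) (Lpr_gt (K31.f243666 IH) (Lpe (f312032 IH) (Lpn (LP (LK LD1_c19 LD2_c30 LD3_c7)))))))))))))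
theorem f246257 : Led Lsl_gt (LP (LK LD1_c8 LD2_c18 LD3_c30)) = (LP (LK LD1_c15 LD2_c37 LD3_c34)) :=
  Lre_g IH (LK LD1_c8 LD2_c18 LD3_c30) (LK LD1_c15 LD2_c37 LD3_c34) Lrfl Lrfl
theorem f324365 : Led Lsl_gt (LP (LK LD1_c15 LD2_c37 LD3_c34)) = (LP (LK LD1_c10 LD2_c46 LD3_c38)) :=
  Lgr Lrot46 (Lpe (f246257 IH) (Lpr_ft (K21.f324350 IH) (Lpr_at (K31.f324354 IH) (Lpn (LP (LK LD1_c10 LD2_c46 LD3_c38))))))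
theorem f217831 : Led Lsl_gt (LP (LK LD1_c10 LD2_c36 LD3_c14)) = (LP (LK LD1_c5 LD2_c22 LD3_c57)) :=
  Lre_g IH (LK LD1_c10 LD2_c36 LD3_c14) (LK LD1_c5 LD2_c22 LD3_c57) Lrfl Lrfl
theorem f275077 : Led Lsl_ct (LP (LK LD1_c19 LD2_c12 LD3_c16)) = (LP (LK LD1_c10 LD2_c36 LD3_c14)) :=
  Lre_c IH (LK LD1_c19 LD2_c12 LD3_c16) (LK LD1_c10 LD2_c36 LD3_c14) Lrfl Lrfl
theorem f282805 : Led Lsl_bf (LP (LK LD1_c15 LD2_c37 LD3_c34)) = (LP (LK LD1_c19 LD2_c12 LD3_c16)) :=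
  Lgr Lrot34 (Lpe (f246257 IH) (Lpe (K21.f236263 IH) (Lpr_ct (K18.f236258 IH) (Lpr_gf (K17.f282798 IH) (Lpe (K15.f243625 IH) (Lpr_gf (K16.f245076 IH) (Lpe (K17.f245078 IH) (Lpe (K31.f274947 IH) (Lpe (f217831 IH) (Lpe (f275077 IH) (Lpn (LP (LK LD1_c19 LD2_c12 LD3_c16)))))))))))))
theorem f286937 : Led Lsl_gt (LP (LK LD1_c19 LD2_c3 LD3_c29)) = (LP (LK LD1_c10 LD2_c36 LD3_c14)) :=
  Lgr Lrot5 (Lpr_ft (K17.f286926 IH) (Lpr_at (K31.f275058 IH) (Lpe (f217831 IH) (Lpn (LP (LK LD1_c10 LD2_c36 LD3_c14))))))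
theorem f371506 : Led Lsl_gf (LP (LK LD1_c16 LD2_c44 LD3_c22)) = (LP (LK LD1_c10 LD2_c46 LD3_c54)) :=
  Lgr Lrot124 (Lpr_bf (K31.f286593 IH) (Lpe (K17.f286933 IH) (Lpr_gt (f286937 IH) (Lpe (f275077 IH) (Lpe (f282805 IH) (Lpr_gt (f324365 IH) (Lpr_ct (K30.f324369 IH) (Lpe (f371457 IH) (Lpr_cf (f371502 IH) (Lpr_bt (f312032 IH) (Lpn (LP (LK LD1_c10 LD2_c46 LD3_c54)))))))))))))
theorem f391261 : Led Lsl_gf (LP (LK LD1_c19 LD2_c30 LD3_c8)) = (LP (LK LD1_c15 LD2_c22 LD3_c30)) :=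
  Lgr Lrot147 (Lpr_ct (K31.f243667 IH) (Lpe (f371506 IH) (Lpe (f247313 IH) (Lpe (K31.f286779 IH) (Lpr_cf (f228627 IH) (Lpr_gf (K31.f391259 IH) (Lpe (K31.f391243 IH) (Lpe (K31.f385127 IH) (Lpe (K31.f385119 IH) (Lpn (LP (LK LD1_c15 LD2_c22 LD3_c30))))))))))))
theorem f244199 : Led Lsl_bt (LP (LK LD1_c9 LD2_c37 LD3_c32)) = (LP (LK LD1_c5 LD2_c39 LD3_c28)) :=
  Lgr Lrot127 (Lpr_bf (K30.f244197 IH) (Lpn (LP (LK LD1_c5 LD2_c39 LD3_c28))))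
theorem f244276 : Led Lsl_gt (LP (LK LD1_c27 LD2_c30 LD3_c5)) = (LP (LK LD1_c17 LD2_c43 LD3_c6)) :=
  Lre_g IH (LK LD1_c27 LD2_c30 LD3_c5) (LK LD1_c17 LD2_c43 LD3_c6) Lrfl Lrfl
theorem f393694 : Led Lsl_cf (LP (LK LD1_c27 LD2_c30 LD3_c5)) = (LP (LK LD1_c25 LD2_c12 LD3_c32)) :=
  Lgr Lrot160 (Lpr_gt (f244276 IH) (Lpe (K30.f170834 IH) (Lpr_bt (f244199 IH) (Lpe (K30.f385100 IH) (Lpe (K30.f384877 IH) (Lpr_gt (K30.f319150 IH) (Lpr_cf (K30.f319156 IH) (Lpr_bt (K30.f319153 IH) (Lpe (f391261 IH) (Lpr_bf (f393193 IH) (Lpn (LP (LK LD1_c25 LD2_c12 LD3_c32)))))))))))))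
theorem f371504 : Led Lsl_ct (LP (LK LD1_c24 LD2_c49 LD3_c26)) = (LP (LK LD1_c19 LD2_c30 LD3_c7)) :=
  Lgr Lrot59 (Lpr_cf (f371502 IH) (Lpn (LP (LK LD1_c19 LD2_c30 LD3_c7))))
theorem f393698 : Led Lsl_bt (LP (LK LD1_c27 LD2_c30 LD3_c5)) = (LP (LK LD1_c24 LD2_c49 LD3_c26)) :=
  Lgr Lrot128 (Lpr_cf (f393694 IH) (Lpe (K31.f393187 IH) (Lpe (K31.f312033 IH) (Lpe (f312032 IH) (Lpe (f371504 IH) (Lpn (LP (LK LD1_c24 LD2_c49 LD3_c26))))))))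
theorem f393700 : Led Lsl_ct (LP (LK LD1_c27 LD2_c30 LD3_c5)) = (LP (LK LD1_c25 LD2_c12 LD3_c32)) :=
  Lgr Lrot59 (Lpr_cf (f393694 IH) (Lpn (LP (LK LD1_c25 LD2_c12 LD3_c32))))
theorem f243676 : Led Lsl_cf (LP (LK LD1_c15 LD2_c53 LD3_c10)) = (LP (LK LD1_c15 LD2_c18 LD3_c33)) :=
  Lgr Lrot11 (Lpr_ct (K30.f243663 IH) (Lpn (LP (LK LD1_c15 LD2_c18 LD3_c33))))
theorem f394889 : Led Lsl_ct (LP (LK LD1_c19 LD2_c55 LD3_c22)) = (LP (LK LD1_c11 LD2_c3 LD3_c25)) :=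
  Lre_c IH (LK LD1_c19 LD2_c55 LD3_c22) (LK LD1_c11 LD2_c3 LD3_c25) Lrfl Lrfl
theorem f401885 : Led Lsl_gt (LP (LK LD1_c25 LD2_c9 LD3_c16)) = (LP (LK LD1_c19 LD2_c55 LD3_c22)) :=
  Lgr Lrot82 (Lpe (K30.f243673 IH) (Lpe (f243676 IH) (Lpe (f393608 IH) (Lpe (f393700 IH) (Lpr_bt (f393698 IH) (Lpr_gf (f371457 IH) (Lpe (K23.f344620 IH) (Lpe (f386467 IH) (Lpr_gf (f401877 IH) (Lpe (f394889 IH) (Lpn (LP (LK LD1_c19 LD2_c55 LD3_c22)))))))))))))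
theorem f243706 : Led Lsl_ct (LP (LK LD1_c25 LD2_c49 LD3_c11)) = (LP (LK LD1_c25 LD2_c9 LD3_c16)) :=
  Lgr Lrot83 (Lpe (K30.f243704 IH) (Lpe (K30.f238466 IH) (Lpe (K30.f243662 IH) (Lpr_cf (f243676 IH) (Lpe (K30.f243705 IH) (Lpn (LP (LK LD1_c25 LD2_c9 LD3_c16))))))))
theorem f401889 : Led Lsl_bt (LP (LK LD1_c11 LD2_c3 LD3_c25)) = (LP (LK LD1_c19 LD2_c55 LD3_c21)) :=
  Lre_b IH (LK LD1_c11 LD2_c3 LD3_c25) (LK LD1_c19 LD2_c55 LD3_c21) Lrfl Lrfl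
theorem f401890 : Led Lsl_gf (LP (LK LD1_c11 LD2_c3 LD3_c44)) = (LP (LK LD1_c19 LD2_c55 LD3_c21)) :=
  Lgr Lrot124 (Lpe (K54.f226566 IH) (Lpr_ct (K30.f226569 IH) (Lpr_gt (K30.f384731 IH) (Lpr_cf (K30.f384978 IH) (Lpr_bt (K30.f384975 IH) (Lpe (K30.f385009 IH) (Lpr_ct (f243706 IH) (Lpr_gt (f401885 IH) (Lpe (f394925 IH) (Lpr_bt (f401889 IH) (Lpn (LP (LK LD1_c19 LD2_c55 LD3_c21)))))))))))))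
theorem f226573 : Led Lsl_et (LP (LK LD1_c5 LD2_c35 LD3_c45)) = (LP (LK LD1_c11 LD2_c3 LD3_c46)) :=
  Lre_e IH (LK LD1_c5 LD2_c35 LD3_c45) (LK LD1_c11 LD2_c3 LD3_c46) Lrfl Lrfl
theorem f226574 : Led Lsl_et (LP (LK LD1_c10 LD2_c52 LD3_c10)) = (LP (LK LD1_c5 LD2_c30 LD3_c21)) :=
  Lre_e IH (LK LD1_c10 LD2_c52 LD3_c10) (LK LD1_c5 LD2_c30 LD3_c21) Lrfl Lrfl
theorem f226575 : Led Lsl_ct (LP (LK LD1_c11 LD2_c3 LD3_c46)) = (LP (LK LD1_c10 LD2_c52 LD3_c10)) :=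
  Lgr Lrot15 (Lpe (f226573 IH) (Lpr_cf (K30.f226561 IH) (Lpe (f226574 IH) (Lpn (LP (LK LD1_c10 LD2_c52 LD3_c10))))))
theorem f226632 : Led Lsl_cf (LP (LK LD1_c11 LD2_c3 LD3_c46)) = (LP (LK LD1_c10 LD2_c52 LD3_c10)) :=
  Lgr Lrot11 (Lpr_ct (f226575 IH) (Lpn (LP (LK LD1_c10 LD2_c52 LD3_c10))))
theorem f226647 : Led Lsl_bt (LP (LK LD1_c11 LD2_c3 LD3_c46)) = (LP (LK LD1_c19 LD2_c56 LD3_c9)) :=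
  Lre_b IH (LK LD1_c11 LD2_c3 LD3_c46) (LK LD1_c19 LD2_c56 LD3_c9) Lrfl Lrfl
theorem f226649 : Led Lsl_bt (LP (LK LD1_c5 LD2_c30 LD3_c24)) = (LP (LK LD1_c10 LD2_c52 LD3_c10)) :=
  Lre_b IH (LK LD1_c5 LD2_c30 LD3_c24) (LK LD1_c10 LD2_c52 LD3_c10) Lrfl Lrfl
theorem f226650 : Led Lsl_ct (LP (LK LD1_c10 LD2_c52 LD3_c15)) = (LP (LK LD1_c5 LD2_c30 LD3_c24)) :=
  Lre_c IH (LK LD1_c10 LD2_c52 LD3_c15) (LK LD1_c5 LD2_c30 LD3_c24) Lrfl Lrfl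
theorem f226651 : Led Lsl_bt (LP (LK LD1_c19 LD2_c39 LD3_c15)) = (LP (LK LD1_c10 LD2_c52 LD3_c15)) :=
  Lre_b IH (LK LD1_c19 LD2_c39 LD3_c15) (LK LD1_c10 LD2_c52 LD3_c15) Lrfl Lrfl
theorem f226652 : Led Lsl_ct (LP (LK LD1_c19 LD2_c56 LD3_c9)) = (LP (LK LD1_c19 LD2_c39 LD3_c15)) :=
  Lgr Lrot83 (Lpe (f226647 IH) (Lpr_cf (f226632 IH) (Lpe (f226649 IH) (Lpe (f226650 IH) (Lpe (f226651 IH) (Lpn (LP (LK LD1_c19 LD2_c39 LD3_c15))))))))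
theorem f226661 : Led Lsl_et (LP (LK LD1_c11 LD2_c3 LD3_c44)) = (LP (LK LD1_c19 LD2_c56 LD3_c9)) :=
  Lre_e IH (LK LD1_c11 LD2_c3 LD3_c44) (LK LD1_c19 LD2_c56 LD3_c9) Lrfl Lrfl
theorem f222424 : Led Lsl_et (LP (LK LD1_c19 LD2_c39 LD3_c15)) = (LP (LK LD1_c10 LD2_c52 LD3_c13)) :=
  Lre_e IH (LK LD1_c19 LD2_c39 LD3_c15) (LK LD1_c10 LD2_c52 LD3_c13) Lrfl Lrfl
theorem f226662 : Led Lsl_cf (LP (LK LD1_c11 LD2_c3 LD3_c44)) = (LP (LK LD1_c10 LD2_c52 LD3_c13)) :=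
  Lgr Lrot39 (Lpr_et (f226661 IH) (Lpr_ct (f226652 IH) (Lpr_et (f222424 IH) (Lpn (LP (LK LD1_c10 LD2_c52 LD3_c13))))))
theorem f179145 : Led Lsl_ct (LP (LK LD1_c5 LD2_c28 LD3_c27)) = (LP (LK LD1_c10 LD2_c48 LD3_c0)) :=
  Lre_c IH (LK LD1_c5 LD2_c28 LD3_c27) (LK LD1_c10 LD2_c48 LD3_c0) Lrfl Lrfl
theorem f384910 : Led Lsl_bt (LP (LK LD1_c10 LD2_c48 LD3_c0)) = (LP (LK LD1_c16 LD2_c37 LD3_c42)) :=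
  Lgr Lrot128 (Lpe (f179145 IH) (Lpe (K27.f179124 IH) (Lpe (K27.f179138 IH) (Lpe (K30.f179144 IH) (Lpr_cf (K30.f384907 IH) (Lpn (LP (LK LD1_c16 LD2_c37 LD3_c42))))))))
theorem f179137 : Led Lsl_ct (LP (LK LD1_c10 LD2_c48 LD3_c0)) = (LP (LK LD1_c5 LD2_c28 LD3_c27)) :=
  Lre_c IH (LK LD1_c10 LD2_c48 LD3_c0) (LK LD1_c5 LD2_c28 LD3_c27) Lrfl Lrfl
theorem f386534 : Led Lsl_gf (LP (LK LD1_c25 LD2_c7 LD3_c58)) = (LP (LK LD1_c16 LD2_c37 LD3_c42)) :=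
  Lgr Lrot124 (Lpr_bf (K31.f375748 IH) (Lpe (K30.f334243 IH) (Lpe (K30.f382901 IH) (Lpr_cf (K30.f199594 IH) (Lpr_bt (K30.f199593 IH) (Lpe (K30.f341416 IH) (Lpe (f225897 IH) (Lpr_gt (K30.f341340 IH) (Lpe (f179137 IH) (Lpr_bt (f384910 IH) (Lpn (LP (LK LD1_c16 LD2_c37 LD3_c42)))))))))))))
theorem f178861 : Led Lsl_bt (LP (LK LD1_c4 LD2_c10 LD3_c50)) = (LP (LK LD1_c2 LD2_c2 LD3_c45)) :=
  Lre_b IH (LK LD1_c4 LD2_c10 LD3_c50) (LK LD1_c2 LD2_c2 LD3_c45) Lrfl Lrfl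
theorem f325837 : Led Lsl_gt (LP (LK LD1_c10 LD2_c51 LD3_c10)) = (LP (LK LD1_c15 LD2_c44 LD3_c14)) :=
  Lgr Lrot149 (Lpr_cf (K22.f222290 IH) (Lpr_gf (K19.f311806 IH) (Lpr_bf (K21.f322714 IH) (Lpr_ct (K21.f325779 IH) (Lpe (K16.f226952 IH) (Lpe (K18.f226955 IH) (Lpr_bt (f178861 IH) (Lpe (K23.f167228 IH) (Lpe (K23.f325835 IH) (Lpr_ct (K23.f325836 IH) (Lpn (LP (LK LD1_c15 LD2_c44 LD3_c14)))))))))))))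
theorem f348214 : Led Lsl_at (LP (LK LD1_c5 LD2_c29 LD3_c59)) = (LP (LK LD1_c8 LD2_c55 LD3_c51)) :=
  Lgr Lrot26 (Lpe (K22.f222289 IH) (Lpr_gt (f325837 IH) (Lpr_gt (K23.f348210 IH) (Lpn (LP (LK LD1_c8 LD2_c55 LD3_c51))))))
theorem f266347 : Led Lsl_et (LP (LK LD1_c8 LD2_c55 LD3_c51)) = (LP (LK LD1_c4 LD2_c28 LD3_c47)) :=
  Lre_e IH (LK LD1_c8 LD2_c55 LD3_c51) (LK LD1_c4 LD2_c28 LD3_c47) Lrfl Lrfl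
theorem f348216 : Led Lsl_af (LP (LK LD1_c2 LD2_c41 LD3_c17)) = (LP (LK LD1_c4 LD2_c28 LD3_c47)) :=
  Lgr Lrot50 (Lpr_et (K21.f222280 IH) (Lpr_at (f348214 IH) (Lpr_et (f266347 IH) (Lpn (LP (LK LD1_c4 LD2_c28 LD3_c47))))))
theorem f348218 : Led Lsl_bt (LP (LK LD1_c10 LD2_c51 LD3_c7)) = (LP (LK LD1_c16 LD2_c43 LD3_c0)) :=
  Lgr Lrot62 (Lpe (K30.f222350 IH) (Lpe (K31.f222273 IH) (Lpr_af (f348216 IH) (Lpe (K14.f254849 IH) (Lpe (K31.f254862 IH) (Lpn (LP (LK LD1_c16 LD2_c43 LD3_c0))))))))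
theorem f348220 : Led Lsl_bf (LP (LK LD1_c10 LD2_c51 LD3_c7)) = (LP (LK LD1_c16 LD2_c43 LD3_c0)) :=
  Lgr Lrot24 (Lpr_bt (f348218 IH) (Lpn (LP (LK LD1_c16 LD2_c43 LD3_c0))))
theorem f234281 : Led Lsl_gt (LP (LK LD1_c16 LD2_c43 LD3_c3)) = (LP (LK LD1_c8 LD2_c55 LD3_c52)) :=
  Lre_g IH (LK LD1_c16 LD2_c43 LD3_c3) (LK LD1_c8 LD2_c55 LD3_c52) Lrfl Lrfl
theorem f375918 : Led Lsl_gf (LP (LK LD1_c16 LD2_c43 LD3_c3)) = (LP (LK LD1_c10 LD2_c51 LD3_c7)) :=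
  Lgr Lrot47 (Lpr_gt (f234281 IH) (Lpe (K30.f234267 IH) (Lpr_ff (K30.f375607 IH) (Lpn (LP (LK LD1_c10 LD2_c51 LD3_c7))))))
theorem f401893 : Led Lsl_ct (LP (LK LD1_c16 LD2_c43 LD3_c3)) = (LP (LK LD1_c19 LD2_c55 LD3_c21)) :=
  Lgr Lrot91 (Lpr_gf (f375918 IH) (Lpr_bf (f348220 IH) (Lpe (K54.f254854 IH) (Lpr_gf (f386534 IH) (Lpe (K30.f384898 IH) (Lpr_bt (K30.f179144 IH) (Lpe (K27.f175118 IH) (Lpe (K54.f179153 IH) (Lpe (f226662 IH) (Lpr_gf (f401890 IH) (Lpn (LP (LK LD1_c19 LD2_c55 LD3_c21)))))))))))))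
theorem f234282 : Led Lsl_bt (LP (LK LD1_c26 LD2_c41 LD3_c53)) = (LP (LK LD1_c16 LD2_c43 LD3_c3)) :=
  Lre_b IH (LK LD1_c26 LD2_c41 LD3_c53) (LK LD1_c16 LD2_c43 LD3_c3) Lrfl Lrfl
theorem f401880 : Led Lsl_bt (LP (LK LD1_c19 LD2_c55 LD3_c21)) = (LP (LK LD1_c11 LD2_c3 LD3_c25)) :=
  Lre_b IH (LK LD1_c19 LD2_c55 LD3_c21) (LK LD1_c11 LD2_c3 LD3_c25) Lrfl Lrfl
theorem f394890 : Led Lsl_bt (LP (LK LD1_c19 LD2_c55 LD3_c22)) = (LP (LK LD1_c29 LD2_c11 LD3_c11)) :=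
  Lre_b IH (LK LD1_c19 LD2_c55 LD3_c22) (LK LD1_c29 LD2_c11 LD3_c11) Lrfl Lrfl
theorem f401895 : Led Lsl_cf (LP (LK LD1_c26 LD2_c41 LD3_c53)) = (LP (LK LD1_c29 LD2_c11 LD3_c11)) :=
  Lgr Lrot97 (Lpr_bt (f234282 IH) (Lpr_ct (f401893 IH) (Lpr_bt (f401880 IH) (Lpr_ct (f394925 IH) (Lpr_bt (f394890 IH) (Lpn (LP (LK LD1_c29 LD2_c11 LD3_c11))))))))
theorem f404893 : Led Lsl_gf (LP (LK LD1_c26 LD2_c41 LD3_c53)) = (LP (LK LD1_c16 LD2_c43 LD3_c6)) :=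
  Lgr Lrot129 (Lpr_cf (f401895 IH) (Lpr_bt (f401892 IH) (Lpr_gt (f401879 IH) (Lpe (f403391 IH) (Lpr_ct (f171970 IH) (Lpe (K38.f351656 IH) (Lpe (K38.f221651 IH) (Lpr_bt (K38.f351743 IH) (Lpe (K54.f394547 IH) (Lpr_ct (f404851 IH) (Lpn (LP (LK LD1_c16 LD2_c43 LD3_c6)))))))))))))
theorem f401898 : Led Lsl_ct (LP (LK LD1_c26 LD2_c41 LD3_c53)) = (LP (LK LD1_c29 LD2_c11 LD3_c11)) :=
  Lgr Lrot59 (Lpr_cf (f401895 IH) (Lpn (LP (LK LD1_c29 LD2_c11 LD3_c11))))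
theorem f344593 : Led Lsl_bt (LP (LK LD1_c11 LD2_c3 LD3_c28)) = (LP (LK LD1_c8 LD2_c20 LD3_c23)) :=
  Lgr Lrot128 (Lpe (K31.f316775 IH) (Lpe (f324545 IH) (Lpr_cf (K20.f312120 IH) (Lpr_bf (K23.f344587 IH) (Lpe (K18.f227991 IH) (Lpn (LP (LK LD1_c8 LD2_c20 LD3_c23))))))))
theorem f199744 : Led Lsl_ct (LP (LK LD1_c25 LD2_c29 LD3_c5)) = (LP (LK LD1_c15 LD2_c34 LD3_c59)) :=
  Lre_c IH (LK LD1_c25 LD2_c29 LD3_c5) (LK LD1_c15 LD2_c34 LD3_c59) Lrfl Lrfl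
theorem f394891 : Led Lsl_gt (LP (LK LD1_c29 LD2_c11 LD3_c11)) = (LP (LK LD1_c25 LD2_c29 LD3_c5)) :=
  Lgr Lrot82 (Lpe (f394890 IH) (Lpr_ct (f394889 IH) (Lpe (f385045 IH) (Lpe (f316787 IH) (Lpr_bt (f344593 IH) (Lpe (K18.f284608 IH) (Lpe (K23.f199694 IH) (Lpr_ct (K30.f199730 IH) (Lpe (K45.f199743 IH) (Lpe (f199744 IH) (Lpn (LP (LK LD1_c25 LD2_c29 LD3_c5)))))))))))))
theorem f234147 : Led Lsl_ct (LP (LK LD1_c15 LD2_c34 LD3_c59)) = (LP (LK LD1_c25 LD2_c29 LD3_c5)) :=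
  Lre_c IH (LK LD1_c15 LD2_c34 LD3_c59) (LK LD1_c25 LD2_c29 LD3_c5) Lrfl Lrfl
theorem f284619 : Led Lsl_bt (LP (LK LD1_c15 LD2_c34 LD3_c59)) = (LP (LK LD1_c25 LD2_c29 LD3_c4)) :=
  Lre_b IH (LK LD1_c15 LD2_c34 LD3_c59) (LK LD1_c25 LD2_c29 LD3_c4) Lrfl Lrfl
theorem f401900 : Led Lsl_gf (LP (LK LD1_c19 LD2_c39 LD3_c9)) = (LP (LK LD1_c25 LD2_c29 LD3_c4)) :=
  Lgr Lrot181 (Lpr_ct (K30.f384898 IH) (Lpe (f386534 IH) (Lpr_cf (K54.f254854 IH) (Lpe (f348220 IH) (Lpe (f375918 IH) (Lpe (f234282 IH) (Lpr_ct (f401898 IH) (Lpr_gt (f394891 IH) (Lpe (f234147 IH) (Lpr_bt (f284619 IH) (Lpn (LP (LK LD1_c25 LD2_c29 LD3_c4)))))))))))))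
theorem f404895 : Led Lsl_gt (LP (LK LD1_c10 LD2_c47 LD3_c61)) = (LP (LK LD1_c16 LD2_c43 LD3_c7)) :=
  Lgr Lrot65 (Lpe (K27.f179138 IH) (Lpr_bt (K30.f179135 IH) (Lpr_gf (f401900 IH) (Lpe (f284619 IH) (Lpr_ct (f234147 IH) (Lpe (f394891 IH) (Lpe (f401898 IH) (Lpr_gf (f404893 IH) (Lpe (K54.f281684 IH) (Lpr_ct (K50.f226222 IH) (Lpn (LP (LK LD1_c16 LD2_c43 LD3_c7)))))))))))))
theorem f404897 : Led Lsl_gf (LP (LK LD1_c10 LD2_c48 LD3_c0)) = (LP (LK LD1_c10 LD2_c49 LD3_c28)) :=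
  Lgr Lrot126 (Lpe (f179145 IH) (Lpr_bt (K27.f179136 IH) (Lpr_gt (f404895 IH) (Lpr_ct (K50.f178107 IH) (Lpe (K54.f404846 IH) (Lpe (K30.f222636 IH) (Lpr_bt (K30.f245699 IH) (Lpe (f390677 IH) (Lpe (K54.f390681 IH) (Lpr_ct (f382516 IH) (Lpn (LP (LK LD1_c10 LD2_c49 LD3_c28)))))))))))))
theorem f179156 : Led Lsl_ct (LP (LK LD1_c5 LD2_c45 LD3_c37)) = (LP (LK LD1_c2 LD2_c48 LD3_c35)) :=
  Lre_c IH (LK LD1_c5 LD2_c45 LD3_c37) (LK LD1_c2 LD2_c48 LD3_c35) Lrfl Lrfl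
theorem f290437 : Led Lsl_dt (LP (LK LD1_c16 LD2_c41 LD3_c24)) = (LP (LK LD1_c8 LD2_c55 LD3_c11)) :=
  Lre_d IH (LK LD1_c16 LD2_c41 LD3_c24) (LK LD1_c8 LD2_c55 LD3_c11) Lrfl Lrfl
theorem f382498 : Led Lsl_dt (LP (LK LD1_c5 LD2_c29 LD3_c6)) = (LP (LK LD1_c10 LD2_c49 LD3_c29)) :=
  Lre_d IH (LK LD1_c5 LD2_c29 LD3_c6) (LK LD1_c10 LD2_c49 LD3_c29) Lrfl Lrfl
theorem f392511 : Led Lsl_gt (LP (LK LD1_c10 LD2_c48 LD3_c38)) = (LP (LK LD1_c5 LD2_c29 LD3_c6)) :=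
  Lgr Lrot94 (Lpe (K30.f384294 IH) (Lpr_gt (K30.f225895 IH) (Lpr_dt (f225910 IH) (Lpe (K30.f384622 IH) (Lpr_dt (f290437 IH) (Lpe (K30.f290429 IH) (Lpr_df (K54.f392507 IH) (Lpe (K54.f382520 IH) (Lpe (f382498 IH) (Lpn (LP (LK LD1_c5 LD2_c29 LD3_c6))))))))))))
theorem f383140 : Led Lsl_af (LP (LK LD1_c16 LD2_c48 LD3_c46)) = (LP (LK LD1_c11 LD2_c19 LD3_c21)) :=
  Lgr Lrot68 (Lpr_ct (K30.f173472 IH) (Lpr_at (K30.f383138 IH) (Lpr_ct (K30.f243820 IH) (Lpn (LP (LK LD1_c11 LD2_c19 LD3_c21))))))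
theorem f399551 : Led Lsl_gt (LP (LK LD1_c9 LD2_c46 LD3_c26)) = (LP (LK LD1_c10 LD2_c49 LD3_c43)) :=
  Lgr Lrot5 (Lpe (K30.f384290 IH) (Lpe (f383140 IH) (Lpr_gf (K50.f399549 IH) (Lpn (LP (LK LD1_c10 LD2_c49 LD3_c43))))))
theorem f404901 : Led Lsl_gf (LP (LK LD1_c5 LD2_c45 LD3_c37)) = (LP (LK LD1_c11 LD2_c21 LD3_c36)) :=
  Lgr Lrot104 (Lpr_ct (f179156 IH) (Lpr_df (K30.f179160 IH) (Lpe (f179137 IH) (Lpr_gf (f404897 IH) (Lpe (f382516 IH) (Lpe (f392511 IH) (Lpr_df (K30.f384260 IH) (Lpr_gt (f399551 IH) (Lpr_ct (K54.f172883 IH) (Lpn (LP (LK LD1_c11 LD2_c21 LD3_c36))))))))))))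
theorem f179172 : Led Lsl_dt (LP (LK LD1_c5 LD2_c45 LD3_c37)) = (LP (LK LD1_c11 LD2_c21 LD3_c41)) :=
  Lre_d IH (LK LD1_c5 LD2_c45 LD3_c37) (LK LD1_c11 LD2_c21 LD3_c41) Lrfl Lrfl
theorem f422046 : Led Lsl_bf (LP (LK LD1_c10 LD2_c54 LD3_c55)) = (LP (LK LD1_c9 LD2_c44 LD3_c13)) :=
  Lgr Lrot34 (Lpr_gf (f422038 IH) (Lpr_bf (K31.f290475 IH) (Lpe (K30.f380829 IH) (Lpr_gf (K54.f396862 IH) (Lpe (K54.f388280 IH) (Lpe (K54.f389425 IH) (Lpe (K24.f319916 IH) (Lpr_ct (K24.f379797 IH) (Lpe (K30.f388352 IH) (Lpr_cf (K30.f332484 IH) (Lpn (LP (LK LD1_c9 LD2_c44 LD3_c13)))))))))))))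
theorem f332478 : Led Lsl_at (LP (LK LD1_c10 LD2_c54 LD3_c47)) = (LP (LK LD1_c5 LD2_c31 LD3_c33)) :=
  Lre_a IH (LK LD1_c10 LD2_c54 LD3_c47) (LK LD1_c5 LD2_c31 LD3_c33) Lrfl Lrfl
theorem f332479 : Led Lsl_ff (LP (LK LD1_c10 LD2_c54 LD3_c47)) = (LP (LK LD1_c9 LD2_c44 LD3_c13)) :=
  Lgr Lrot52 (Lpr_at (f332478 IH) (Lpe (K22.f218371 IH) (Lpr_gf (K30.f332476 IH) (Lpn (LP (LK LD1_c9 LD2_c44 LD3_c13))))))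
theorem f332486 : Led Lsl_ft (LP (LK LD1_c10 LD2_c54 LD3_c47)) = (LP (LK LD1_c9 LD2_c44 LD3_c13)) :=
  Lgr Lrot48 (Lpr_ff (f332479 IH) (Lpn (LP (LK LD1_c9 LD2_c44 LD3_c13))))
theorem f422048 : Led Lsl_bt (LP (LK LD1_c16 LD2_c41 LD3_c18)) = (LP (LK LD1_c10 LD2_c54 LD3_c47)) :=
  Lgr Lrot35 (Lpr_ff (f290375 IH) (Lpr_bf (f422046 IH) (Lpe (f332486 IH) (Lpn (LP (LK LD1_c10 LD2_c54 LD3_c47))))))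
theorem f388413 : Led Lsl_bt (LP (LK LD1_c8 LD2_c8 LD3_c54)) = (LP (LK LD1_c15 LD2_c20 LD3_c31)) :=
  Lre_b IH (LK LD1_c8 LD2_c8 LD3_c54) (LK LD1_c15 LD2_c20 LD3_c31) Lrfl Lrfl
theorem f422052 : Led Lsl_cf (LP (LK LD1_c8 LD2_c8 LD3_c54)) = (LP (LK LD1_c10 LD2_c54 LD3_c47)) :=
  Lgr Lrot97 (Lpr_bt (f388413 IH) (Lpr_ct (K31.f224859 IH) (Lpr_bt (K64.f383175 IH) (Lpr_ct (K27.f223492 IH) (Lpr_bt (f422048 IH) (Lpn (LP (LK LD1_c10 LD2_c54 LD3_c47))))))))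
theorem f219032 : Led Lsl_ct (LP (LK LD1_c15 LD2_c20 LD3_c43)) = (LP (LK LD1_c8 LD2_c8 LD3_c60)) :=
  Lre_c IH (LK LD1_c15 LD2_c20 LD3_c43) (LK LD1_c8 LD2_c8 LD3_c60) Lrfl Lrfl
theorem f391125 : Led Lsl_gf (LP (LK LD1_c15 LD2_c20 LD3_c43)) = (LP (LK LD1_c18 LD2_c2 LD3_c55)) :=
  Lgr Lrot126 (Lpe (K30.f200765 IH) (Lpr_bt (K31.f219031 IH) (Lpr_gt (K31.f391123 IH) (Lpr_ct (K20.f53037 IH) (Lpr_gt (K31.f390092 IH) (Lpe (K13.f196442 IH) (Lpr_bt (K31.f196461 IH) (Lpe (K31.f390084 IH) (Lpr_bf (K30.f388616 IH) (Lpr_ct (K54.f388935 IH) (Lpn (LP (LK LD1_c18 LD2_c2 LD3_c55)))))))))))))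
theorem f422062 : Led Lsl_gt (LP (LK LD1_c9 LD2_c43 LD3_c60)) = (LP (LK LD1_c10 LD2_c54 LD3_c47)) :=
  Lgr Lrot150 (Lpe (K22.f332518 IH) (Lpe (K22.f332517 IH) (Lpe (K30.f332536 IH) (Lpe (K30.f388925 IH) (Lpr_ct (K54.f388935 IH) (Lpe (f391125 IH) (Lpr_ct (f219032 IH) (Lpr_df (K31.f388382 IH) (Lpr_cf (f422052 IH) (Lpn (LP (LK LD1_c10 LD2_c54 LD3_c47))))))))))))
theorem f332488 : Led Lsl_at (LP (LK LD1_c5 LD2_c31 LD3_c33)) = (LP (LK LD1_c10 LD2_c54 LD3_c47)) :=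
  Lre_a IH (LK LD1_c5 LD2_c31 LD3_c33) (LK LD1_c10 LD2_c54 LD3_c47) Lrfl Lrfl
theorem f422064 : Led Lsl_ft (LP (LK LD1_c8 LD2_c57 LD3_c61)) = (LP (LK LD1_c5 LD2_c31 LD3_c33)) :=
  Lgr Lrot2 (Lpr_gt (f332468 IH) (Lpr_gt (f422062 IH) (Lpe (f332488 IH) (Lpn (LP (LK LD1_c5 LD2_c31 LD3_c33))))))
theorem f422072 : Led Lsl_ff (LP (LK LD1_c8 LD2_c57 LD3_c61)) = (LP (LK LD1_c5 LD2_c31 LD3_c33)) :=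
  Lgr Lrot3 (Lpr_ft (f422064 IH) (Lpn (LP (LK LD1_c5 LD2_c31 LD3_c33))))
theorem f422078 : Led Lsl_ft (LP (LK LD1_c8 LD2_c8 LD3_c55)) = (LP (LK LD1_c5 LD2_c33 LD3_c36)) :=
  Lgr Lrot4 (Lpr_cf (K30.f319646 IH) (Lpr_ff (f422072 IH) (Lpe (K31.f218379 IH) (Lpn (LP (LK LD1_c5 LD2_c33 LD3_c36))))))
theorem f422084 : Led Lsl_af (LP (LK LD1_c8 LD2_c8 LD3_c54)) = (LP (LK LD1_c5 LD2_c33 LD3_c36)) :=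
  Lgr Lrot31 (Lpe (K31.f196413 IH) (Lpe (K30.f319645 IH) (Lpr_ft (f422078 IH) (Lpn (LP (LK LD1_c5 LD2_c33 LD3_c36))))))
theorem f422058 : Led Lsl_ft (LP (LK LD1_c8 LD2_c8 LD3_c54)) = (LP (LK LD1_c5 LD2_c33 LD3_c35)) :=
  Lgr Lrot4 (Lpr_cf (f422052 IH) (Lpr_ff (f332479 IH) (Lpe (K30.f332481 IH) (Lpn (LP (LK LD1_c5 LD2_c33 LD3_c35))))))
theorem f422088 : Led Lsl_at (LP (LK LD1_c5 LD2_c33 LD3_c35)) = (LP (LK LD1_c8 LD2_c8 LD3_c55)) :=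
  Lgr Lrot66 (Lpe (f422058 IH) (Lpr_af (f422084 IH) (Lpe (f422078 IH) (Lpn (LP (LK LD1_c8 LD2_c8 LD3_c55))))))
theorem f422092 : Led Lsl_af (LP (LK LD1_c8 LD2_c27 LD3_c57)) = (LP (LK LD1_c8 LD2_c8 LD3_c61)) :=
  Lgr Lrot117 (Lpe (f388416 IH) (Lpr_at (f422088 IH) (Lpr_dt (K31.f387829 IH) (Lpn (LP (LK LD1_c8 LD2_c8 LD3_c61))))))
theorem f422082 : Led Lsl_ff (LP (LK LD1_c8 LD2_c8 LD3_c61)) = (LP (LK LD1_c8 LD2_c27 LD3_c58)) :=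
  Lgr Lrot19 (Lpr_dt (K31.f388477 IH) (Lpr_ft (f422078 IH) (Lpe (K31.f387996 IH) (Lpn (LP (LK LD1_c8 LD2_c27 LD3_c58))))))
theorem f422086 : Led Lsl_at (LP (LK LD1_c8 LD2_c8 LD3_c60)) = (LP (LK LD1_c8 LD2_c27 LD3_c58)) :=
  Lgr Lrot51 (Lpr_df (K31.f388382 IH) (Lpr_af (f422084 IH) (Lpe (K30.f387991 IH) (Lpn (LP (LK LD1_c8 LD2_c27 LD3_c58))))))
theorem f422100 : Led Lsl_ft (LP (LK LD1_c8 LD2_c27 LD3_c57)) = (LP (LK LD1_c8 LD2_c8 LD3_c60)) :=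
  Lgr Lrot101 (Lpr_af (f422092 IH) (Lpr_ff (f422082 IH) (Lpe (f422086 IH) (Lpn (LP (LK LD1_c8 LD2_c8 LD3_c60))))))
theorem f422106 : Led Lsl_ff (LP (LK LD1_c8 LD2_c27 LD3_c57)) = (LP (LK LD1_c8 LD2_c8 LD3_c60)) :=
  Lgr Lrot3 (Lpr_ft (f422100 IH) (Lpn (LP (LK LD1_c8 LD2_c8 LD3_c60))))
theorem f422112 : Led Lsl_ft (LP (LK LD1_c5 LD2_c33 LD3_c35)) = (LP (LK LD1_c8 LD2_c8 LD3_c54)) :=
  Lgr Lrot54 (Lpr_df (f388416 IH) (Lpr_ff (f422106 IH) (Lpr_df (K31.f388382 IH) (Lpn (LP (LK LD1_c8 LD2_c8 LD3_c54))))))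
theorem f422114 : Led Lsl_ff (LP (LK LD1_c10 LD2_c59 LD3_c5)) = (LP (LK LD1_c15 LD2_c20 LD3_c31)) :=
  Lgr Lrot25 (Lpr_bt (K30.f220954 IH) (Lpr_ft (f422112 IH) (Lpr_bt (f388413 IH) (Lpn (LP (LK LD1_c15 LD2_c20 LD3_c31))))))
theorem f422118 : Led Lsl_at (LP (LK LD1_c10 LD2_c59 LD3_c5)) = (LP (LK LD1_c15 LD2_c21 LD3_c15)) :=
  Lgr Lrot26 (Lpr_ff (f422114 IH) (Lpr_gt (K31.f393064 IH) (Lpr_gt (K31.f233907 IH) (Lpn (LP (LK LD1_c15 LD2_c21 LD3_c15))))))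
theorem f422126 : Led Lsl_af (LP (LK LD1_c15 LD2_c53 LD3_c44)) = (LP (LK LD1_c24 LD2_c51 LD3_c14)) :=
  Lgr Lrot117 (Lpe (K30.f388376 IH) (Lpr_at (f422118 IH) (Lpr_dt (K31.f390969 IH) (Lpn (LP (LK LD1_c24 LD2_c51 LD3_c14))))))
theorem f422134 : Led Lsl_ft (LP (LK LD1_c24 LD2_c58 LD3_c38)) = (LP (LK LD1_c24 LD2_c51 LD3_c14)) :=
  Lgr Lrot2 (Lpe (K31.f393049 IH) (Lpe (K31.f391140 IH) (Lpr_af (f422126 IH) (Lpn (LP (LK LD1_c24 LD2_c51 LD3_c14))))))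
theorem f422144 : Led Lsl_ff (LP (LK LD1_c24 LD2_c58 LD3_c38)) = (LP (LK LD1_c24 LD2_c51 LD3_c14)) :=
  Lgr Lrot3 (Lpr_ft (f422134 IH) (Lpn (LP (LK LD1_c24 LD2_c51 LD3_c14))))
theorem f422152 : Led Lsl_ft (LP (LK LD1_c25 LD2_c10 LD3_c9)) = (LP (LK LD1_c15 LD2_c21 LD3_c15)) :=
  Lgr Lrot54 (Lpr_df (K31.f390062 IH) (Lpr_ff (f422144 IH) (Lpe (K31.f390969 IH) (Lpn (LP (LK LD1_c15 LD2_c21 LD3_c15))))))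
theorem f387990 : Led Lsl_at (LP (LK LD1_c19 LD2_c49 LD3_c41)) = (LP (LK LD1_c10 LD2_c59 LD3_c6)) :=
  Lre_a IH (LK LD1_c19 LD2_c49 LD3_c41) (LK LD1_c10 LD2_c59 LD3_c6) Lrfl Lrfl
theorem f390028 : Led Lsl_ff (LP (LK LD1_c19 LD2_c49 LD3_c41)) = (LP (LK LD1_c24 LD2_c58 LD3_c31)) :=
  Lgr Lrot52 (Lpr_at (f387990 IH) (Lpr_gf (K31.f390026 IH) (Lpe (K31.f223582 IH) (Lpn (LP (LK LD1_c24 LD2_c58 LD3_c31))))))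
theorem f422156 : Led Lsl_bf (LP (LK LD1_c25 LD2_c10 LD3_c9)) = (LP (LK LD1_c19 LD2_c49 LD3_c41)) :=
  Lgr Lrot61 (Lpr_ft (f422152 IH) (Lpe (K31.f374741 IH) (Lpe (f390028 IH) (Lpn (LP (LK LD1_c19 LD2_c49 LD3_c41))))))
theorem f389676 : Led Lsl_ff (LP (LK LD1_c15 LD2_c21 LD3_c31)) = (LP (LK LD1_c15 LD2_c9 LD3_c31)) :=
  Lgr Lrot23 (Lpr_ct (K22.f53050 IH) (Lpr_ft (K31.f389672 IH) (Lpr_ct (K18.f52544 IH) (Lpn (LP (LK LD1_c15 LD2_c9 LD3_c31))))))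
theorem f52500 : Led Lsl_ct (LP (LK LD1_c15 LD2_c9 LD3_c34)) = (LP (LK LD1_c8 LD2_c3 LD3_c4)) :=
  Lre_c IH (LK LD1_c15 LD2_c9 LD3_c34) (LK LD1_c8 LD2_c3 LD3_c4) Lrfl Lrfl
theorem f389666 : Led Lsl_at (LP (LK LD1_c15 LD2_c21 LD3_c31)) = (LP (LK LD1_c15 LD2_c9 LD3_c34)) :=
  Lgr Lrot107 (Lpe (K22.f53026 IH) (Lpr_af (K31.f389662 IH) (Lpe (f52500 IH) (Lpn (LP (LK LD1_c15 LD2_c9 LD3_c34))))))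
theorem f393025 : Led Lsl_gf (LP (LK LD1_c15 LD2_c9 LD3_c34)) = (LP (LK LD1_c24 LD2_c58 LD3_c33)) :=
  Lgr Lrot76 (Lpe (f389666 IH) (Lpr_ff (f389676 IH) (Lpr_gt (K31.f52545 IH) (Lpn (LP (LK LD1_c24 LD2_c58 LD3_c33))))))
theorem f393552 : Led Lsl_bt (LP (LK LD1_c15 LD2_c20 LD3_c60)) = (LP (LK LD1_c24 LD2_c58 LD3_c38)) :=
  Lgr Lrot92 (Lpe (K31.f393183 IH) (Lpr_gt (K31.f393547 IH) (Lpe (K31.f331880 IH) (Lpr_bt (K22.f200767 IH) (Lpe (K31.f393370 IH) (Lpr_ct (K31.f223517 IH) (Lpe (f393025 IH) (Lpe (K41.f52492 IH) (Lpr_bt (K31.f238419 IH) (Lpr_gt (K31.f238408 IH) (Lpn (LP (LK LD1_c24 LD2_c58 LD3_c38)))))))))))))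
theorem f393555 : Led Lsl_bf (LP (LK LD1_c15 LD2_c20 LD3_c60)) = (LP (LK LD1_c24 LD2_c58 LD3_c38)) :=
  Lgr Lrot24 (Lpr_bt (f393552 IH) (Lpn (LP (LK LD1_c24 LD2_c58 LD3_c38))))
theorem f422190 : Led Lsl_dt (LP (LK LD1_c15 LD2_c20 LD3_c60)) = (LP (LK LD1_c19 LD2_c49 LD3_c41)) :=
  Lgr Lrot79 (Lpr_bf (f393555 IH) (Lpe (K41.f390068 IH) (Lpr_bf (f422156 IH) (Lpn (LP (LK LD1_c19 LD2_c49 LD3_c41))))))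
theorem f422196 : Led Lsl_gf (LP (LK LD1_c15 LD2_c21 LD3_c30)) = (LP (LK LD1_c19 LD2_c49 LD3_c41)) :=
  Lgr Lrot143 (Lpr_dt (K31.f391169 IH) (Lpe (K31.f391192 IH) (Lpe (K31.f228625 IH) (Lpe (K31.f391294 IH) (Lpe (K18.f51165 IH) (Lpr_gf (K12.f218887 IH) (Lpe (K31.f196916 IH) (Lpr_gt (K31.f393178 IH) (Lpr_dt (f422190 IH) (Lpn (LP (LK LD1_c19 LD2_c49 LD3_c41))))))))))))
theorem f422198 : Led Lsl_gt (LP (LK LD1_c15 LD2_c52 LD3_c7)) = (LP (LK LD1_c19 LD2_c49 LD3_c41)) :=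
  Lgr Lrot5 (Lpe (K31.f389813 IH) (Lpr_at (K31.f389819 IH) (Lpr_gf (f422196 IH) (Lpn (LP (LK LD1_c19 LD2_c49 LD3_c41))))))
theorem f388085 : Led Lsl_at (LP (LK LD1_c10 LD2_c59 LD3_c6)) = (LP (LK LD1_c19 LD2_c49 LD3_c41)) :=
  Lre_a IH (LK LD1_c10 LD2_c59 LD3_c6) (LK LD1_c19 LD2_c49 LD3_c41) Lrfl Lrfl
theorem f422200 : Led Lsl_ft (LP (LK LD1_c15 LD2_c20 LD3_c32)) = (LP (LK LD1_c10 LD2_c59 LD3_c6)) :=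
  Lgr Lrot2 (Lpr_gt (K31.f389563 IH) (Lpr_gt (f422198 IH) (Lpe (f388085 IH) (Lpn (LP (LK LD1_c10 LD2_c59 LD3_c6))))))
theorem f422202 : Led Lsl_ff (LP (LK LD1_c16 LD2_c46 LD3_c55)) = (LP (LK LD1_c10 LD2_c54 LD3_c50)) :=
  Lgr Lrot23 (Lpe (K31.f319656 IH) (Lpr_ft (f422200 IH) (Lpr_ct (K20.f220900 IH) (Lpn (LP (LK LD1_c10 LD2_c54 LD3_c50))))))
theorem f422319 : Led Lsl_ft (LP (LK LD1_c16 LD2_c46 LD3_c55)) = (LP (LK LD1_c10 LD2_c54 LD3_c50)) :=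
  Lgr Lrot48 (Lpr_ff (f422202 IH) (Lpn (LP (LK LD1_c10 LD2_c54 LD3_c50))))
theorem f422321 : Led Lsl_ff (LP (LK LD1_c8 LD2_c58 LD3_c0)) = (LP (LK LD1_c5 LD2_c31 LD3_c34)) :=
  Lgr Lrot25 (Lpr_bt (K30.f217953 IH) (Lpr_ft (f422319 IH) (Lpr_bt (K31.f218321 IH) (Lpn (LP (LK LD1_c5 LD2_c31 LD3_c34))))))
theorem f422325 : Led Lsl_at (LP (LK LD1_c8 LD2_c58 LD3_c0)) = (LP (LK LD1_c5 LD2_c31 LD3_c37)) :=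
  Lgr Lrot26 (Lpr_ff (f422321 IH) (Lpr_gt (K31.f218320 IH) (Lpr_gt (K27.f224489 IH) (Lpn (LP (LK LD1_c5 LD2_c31 LD3_c37))))))
theorem f332470 : Led Lsl_dt (LP (LK LD1_c16 LD2_c46 LD3_c56)) = (LP (LK LD1_c8 LD2_c58 LD3_c0)) :=
  Lre_d IH (LK LD1_c16 LD2_c46 LD3_c56) (LK LD1_c8 LD2_c58 LD3_c0) Lrfl Lrfl
theorem f422333 : Led Lsl_af (LP (LK LD1_c16 LD2_c46 LD3_c56)) = (LP (LK LD1_c10 LD2_c54 LD3_c58)) :=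
  Lgr Lrot117 (Lpr_dt (f332470 IH) (Lpr_at (f422325 IH) (Lpr_dt (K54.f224499 IH) (Lpn (LP (LK LD1_c10 LD2_c54 LD3_c58))))))
theorem f244926 : Led Lsl_at (LP (LK LD1_c10 LD2_c47 LD3_c11)) = (LP (LK LD1_c19 LD2_c30 LD3_c44)) :=
  Lre_a IH (LK LD1_c10 LD2_c47 LD3_c11) (LK LD1_c19 LD2_c30 LD3_c44) Lrfl Lrfl
theorem f373975 : Led Lsl_gt (LP (LK LD1_c16 LD2_c44 LD3_c35)) = (LP (LK LD1_c26 LD2_c43 LD3_c32)) :=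
  Lre_g IH (LK LD1_c16 LD2_c44 LD3_c35) (LK LD1_c26 LD2_c43 LD3_c32) Lrfl Lrfl
theorem f417928 : Led Lsl_gf (LP (LK LD1_c19 LD2_c30 LD3_c44)) = (LP (LK LD1_c26 LD2_c43 LD3_c32)) :=
  Lgr Lrot76 (Lpe (f244926 IH) (Lpr_ff (K31.f245218 IH) (Lpr_gt (f373975 IH) (Lpn (LP (LK LD1_c26 LD2_c43 LD3_c32))))))
theorem f245506 : Led Lsl_dt (LP (LK LD1_c16 LD2_c44 LD3_c47)) = (LP (LK LD1_c26 LD2_c43 LD3_c42)) :=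
  Lre_d IH (LK LD1_c16 LD2_c44 LD3_c47) (LK LD1_c26 LD2_c43 LD3_c42) Lrfl Lrfl
theorem f399988 : Led Lsl_cf (LP (LK LD1_c16 LD2_c46 LD3_c56)) = (LP (LK LD1_c26 LD2_c43 LD3_c32)) :=
  Lgr Lrot175 (Lpr_dt (f332470 IH) (Lpe (K31.f280826 IH) (Lpe (K30.f217951 IH) (Lpe (K31.f169284 IH) (Lpe (K24.f169287 IH) (Lpr_dt (K54.f399979 IH) (Lpr_gt (K54.f226405 IH) (Lpr_ct (K31.f226497 IH) (Lpr_gt (f373975 IH) (Lpn (LP (LK LD1_c26 LD2_c43 LD3_c32))))))))))))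
theorem f399993 : Led Lsl_ct (LP (LK LD1_c16 LD2_c46 LD3_c56)) = (LP (LK LD1_c26 LD2_c43 LD3_c32)) :=
  Lgr Lrot59 (Lpr_cf (f399988 IH) (Lpn (LP (LK LD1_c26 LD2_c43 LD3_c32))))
theorem f417932 : Led Lsl_gt (LP (LK LD1_c26 LD2_c43 LD3_c42)) = (LP (LK LD1_c16 LD2_c46 LD3_c56)) :=
  Lgr Lrot9 (Lpe (f245506 IH) (Lpr_gt (K31.f245504 IH) (Lpr_ct (K30.f226524 IH) (Lpe (K30.f245294 IH) (Lpr_ct (K30.f244984 IH) (Lpe (K30.f245296 IH) (Lpe (K30.f245297 IH) (Lpr_gf (f417928 IH) (Lpe (f399993 IH) (Lpn (LP (LK LD1_c16 LD2_c46 LD3_c56))))))))))))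
theorem f392219 : Led Lsl_gt (LP (LK LD1_c26 LD2_c43 LD3_c34)) = (LP (LK LD1_c29 LD2_c1 LD3_c41)) :=
  Lgr Lrot94 (Lpe (K31.f245309 IH) (Lpr_gt (K31.f392211 IH) (Lpr_dt (K52.f280753 IH) (Lpr_gt (K31.f225222 IH) (Lpr_dt (K20.f280752 IH) (Lpe (K20.f280730 IH) (Lpr_df (K20.f280732 IH) (Lpe (K30.f281599 IH) (Lpe (K31.f281601 IH) (Lpn (LP (LK LD1_c29 LD2_c1 LD3_c41))))))))))))
theorem f388223 : Led Lsl_ct (LP (LK LD1_c19 LD2_c41 LD3_c40)) = (LP (LK LD1_c16 LD2_c44 LD3_c49)) :=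
  Lgr Lrot59 (Lpr_cf (K30.f388218 IH) (Lpn (LP (LK LD1_c16 LD2_c44 LD3_c49))))
theorem f245505 : Led Lsl_dt (LP (LK LD1_c26 LD2_c43 LD3_c42)) = (LP (LK LD1_c16 LD2_c44 LD3_c47)) :=
  Lre_d IH (LK LD1_c26 LD2_c43 LD3_c42) (LK LD1_c16 LD2_c44 LD3_c47) Lrfl Lrfl
theorem f399472 : Led Lsl_gt (LP (LK LD1_c16 LD2_c46 LD3_c58)) = (LP (LK LD1_c26 LD2_c43 LD3_c42)) :=
  Lgr Lrot180 (Lpr_ct (K31.f399462 IH) (Lpr_gt (K31.f245328 IH) (Lpr_dt (K31.f245233 IH) (Lpr_gt (f392219 IH) (Lpr_dt (K31.f281601 IH) (Lpr_ct (f388223 IH) (Lpe (K30.f388212 IH) (Lpe (K31.f245504 IH) (Lpe (f245505 IH) (Lpn (LP (LK LD1_c26 LD2_c43 LD3_c42))))))))))))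
theorem f422341 : Led Lsl_ft (LP (LK LD1_c16 LD2_c46 LD3_c58)) = (LP (LK LD1_c10 LD2_c54 LD3_c58)) :=
  Lgr Lrot2 (Lpr_gt (f399472 IH) (Lpr_gt (f417932 IH) (Lpr_af (f422333 IH) (Lpn (LP (LK LD1_c10 LD2_c54 LD3_c58))))))
theorem f422352 : Led Lsl_ff (LP (LK LD1_c16 LD2_c46 LD3_c58)) = (LP (LK LD1_c10 LD2_c54 LD3_c58)) :=
  Lgr Lrot3 (Lpr_ft (f422341 IH) (Lpn (LP (LK LD1_c10 LD2_c54 LD3_c58))))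
theorem f245369 : Led Lsl_gt (LP (LK LD1_c19 LD2_c30 LD3_c51)) = (LP (LK LD1_c28 LD2_c53 LD3_c41)) :=
  Lre_g IH (LK LD1_c19 LD2_c30 LD3_c51) (LK LD1_c28 LD2_c53 LD3_c41) Lrfl Lrfl
theorem f382542 : Led Lsl_dt (LP (LK LD1_c10 LD2_c49 LD3_c32)) = (LP (LK LD1_c5 LD2_c29 LD3_c7)) :=
  Lre_d IH (LK LD1_c10 LD2_c49 LD3_c32) (LK LD1_c5 LD2_c29 LD3_c7) Lrfl Lrfl
theorem f382544 : Led Lsl_dt (LP (LK LD1_c10 LD2_c49 LD3_c34)) = (LP (LK LD1_c19 LD2_c34 LD3_c9)) :=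
  Lre_d IH (LK LD1_c10 LD2_c49 LD3_c34) (LK LD1_c19 LD2_c34 LD3_c9) Lrfl Lrfl
theorem f382543 : Led Lsl_dt (LP (LK LD1_c19 LD2_c34 LD3_c9)) = (LP (LK LD1_c10 LD2_c49 LD3_c34)) :=
  Lre_d IH (LK LD1_c19 LD2_c34 LD3_c9) (LK LD1_c10 LD2_c49 LD3_c34) Lrfl Lrfl
theorem f387761 : Led Lsl_ct (LP (LK LD1_c28 LD2_c53 LD3_c41)) = (LP (LK LD1_c19 LD2_c34 LD3_c9)) :=
  Lgr Lrot110 (Lpe (f245369 IH) (Lpr_cf (K31.f245241 IH) (Lpe (K31.f245351 IH) (Lpr_df (K31.f387745 IH) (Lpe (K31.f280842 IH) (Lpr_ct (K20.f280774 IH) (Lpr_gt (K31.f382530 IH) (Lpr_ct (K31.f382510 IH) (Lpe (f382543 IH) (Lpn (LP (LK LD1_c19 LD2_c34 LD3_c9))))))))))))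
theorem f387765 : Led Lsl_cf (LP (LK LD1_c28 LD2_c53 LD3_c41)) = (LP (LK LD1_c19 LD2_c34 LD3_c9)) :=
  Lgr Lrot11 (Lpr_ct (f387761 IH) (Lpn (LP (LK LD1_c19 LD2_c34 LD3_c9))))
theorem f387747 : Led Lsl_dt (LP (LK LD1_c10 LD2_c49 LD3_c21)) = (LP (LK LD1_c19 LD2_c33 LD3_c43)) :=
  Lre_d IH (LK LD1_c10 LD2_c49 LD3_c21) (LK LD1_c19 LD2_c33 LD3_c43) Lrfl Lrfl
theorem f349411 : Led Lsl_dt (LP (LK LD1_c5 LD2_c29 LD3_c8)) = (LP (LK LD1_c2 LD2_c40 LD3_c48)) :=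
  Lre_d IH (LK LD1_c5 LD2_c29 LD3_c8) (LK LD1_c2 LD2_c40 LD3_c48) Lrfl Lrfl
theorem f382540 : Led Lsl_dt (LP (LK LD1_c16 LD2_c47 LD3_c2)) = (LP (LK LD1_c19 LD2_c34 LD3_c30)) :=
  Lgr Lrot57 (Lpe (K38.f281572 IH) (Lpe (K38.f280790 IH) (Lpr_gt (K31.f382530 IH) (Lpr_dt (f349411 IH) (Lpr_gt (K31.f245149 IH) (Lpr_dt (K13.f172951 IH) (Lpe (K30.f168551 IH) (Lpe (K30.f168552 IH) (Lpe (K52.f168553 IH) (Lpn (LP (LK LD1_c19 LD2_c34 LD3_c30))))))))))))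
theorem f382549 : Led Lsl_df (LP (LK LD1_c16 LD2_c47 LD3_c2)) = (LP (LK LD1_c19 LD2_c34 LD3_c30)) :=
  Lgr Lrot38 (Lpr_dt (f382540 IH) (Lpn (LP (LK LD1_c19 LD2_c34 LD3_c30))))
theorem f387748 : Led Lsl_cf (LP (LK LD1_c19 LD2_c33 LD3_c43)) = (LP (LK LD1_c28 LD2_c53 LD3_c42)) :=
  Lgr Lrot99 (Lpe (f387747 IH) (Lpe (K31.f312045 IH) (Lpr_gf (K31.f387743 IH) (Lpe (K20.f174456 IH) (Lpe (K31.f174477 IH) (Lpr_df (f382549 IH) (Lpr_gt (K52.f168553 IH) (Lpr_ct (K13.f245228 IH) (Lpe (K31.f245392 IH) (Lpn (LP (LK LD1_c28 LD2_c53 LD3_c42))))))))))))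
theorem f387755 : Led Lsl_ct (LP (LK LD1_c19 LD2_c33 LD3_c43)) = (LP (LK LD1_c28 LD2_c53 LD3_c42)) :=
  Lgr Lrot59 (Lpr_cf (f387748 IH) (Lpn (LP (LK LD1_c28 LD2_c53 LD3_c42))))
theorem f392655 : Led Lsl_dt (LP (LK LD1_c28 LD2_c53 LD3_c41)) = (LP (LK LD1_c19 LD2_c33 LD3_c35)) :=
  Lgr Lrot173 (Lpr_cf (f387765 IH) (Lpe (f382544 IH) (Lpe (K31.f382510 IH) (Lpe (f382535 IH) (Lpe (K31.f245150 IH) (Lpe (f382542 IH) (Lpe (f387770 IH) (Lpr_df (K31.f392644 IH) (Lpe (f387755 IH) (Lpe (f387747 IH) (Lpe (K31.f312045 IH) (Lpe (K31.f245271 IH) (Lpe (K22.f179323 IH) (Lpe (K31.f386509 IH) (Lpe (K54.f387757 IH) (Lpn (LP (LK LD1_c19 LD2_c33 LD3_c35))))))))))))))))))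
theorem f399698 : Led Lsl_gt (LP (LK LD1_c10 LD2_c54 LD3_c58)) = (LP (LK LD1_c19 LD2_c33 LD3_c28)) :=
  Lgr Lrot180 (Lpr_ct (K31.f399666 IH) (Lpr_gt (K31.f244682 IH) (Lpr_dt (K30.f244930 IH) (Lpr_gt (f245369 IH) (Lpr_dt (f392655 IH) (Lpr_ct (K54.f387757 IH) (Lpe (K31.f386447 IH) (Lpe (K31.f179389 IH) (Lpe (f245274 IH) (Lpn (LP (LK LD1_c19 LD2_c33 LD3_c28))))))))))))
theorem f422361 : Led Lsl_at (LP (LK LD1_c16 LD2_c46 LD3_c58)) = (LP (LK LD1_c10 LD2_c54 LD3_c51)) :=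
  Lgr Lrot26 (Lpr_ff (f422352 IH) (Lpr_gt (f399698 IH) (Lpe (f399767 IH) (Lpn (LP (LK LD1_c10 LD2_c54 LD3_c51))))))
theorem f281625 : Led Lsl_dt (LP (LK LD1_c8 LD2_c58 LD3_c2)) = (LP (LK LD1_c16 LD2_c46 LD3_c58)) :=
  Lre_d IH (LK LD1_c8 LD2_c58 LD3_c2) (LK LD1_c16 LD2_c46 LD3_c58) Lrfl Lrfl
theorem f422365 : Led Lsl_af (LP (LK LD1_c8 LD2_c58 LD3_c2)) = (LP (LK LD1_c5 LD2_c31 LD3_c34)) :=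
  Lgr Lrot117 (Lpr_dt (f281625 IH) (Lpr_at (f422361 IH) (Lpr_dt (K31.f281722 IH) (Lpn (LP (LK LD1_c5 LD2_c31 LD3_c34))))))
theorem f375255 : Led Lsl_et (LP (LK LD1_c8 LD2_c58 LD3_c2)) = (LP (LK LD1_c16 LD2_c46 LD3_c59)) :=
  Lre_e IH (LK LD1_c8 LD2_c58 LD3_c2) (LK LD1_c16 LD2_c46 LD3_c59) Lrfl Lrfl
theorem f392293 : Led Lsl_et (LP (LK LD1_c10 LD2_c54 LD3_c52)) = (LP (LK LD1_c5 LD2_c31 LD3_c34)) :=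
  Lre_e IH (LK LD1_c10 LD2_c54 LD3_c52) (LK LD1_c5 LD2_c31 LD3_c34) Lrfl Lrfl
theorem f422385 : Led Lsl_at (LP (LK LD1_c16 LD2_c46 LD3_c59)) = (LP (LK LD1_c10 LD2_c54 LD3_c52)) :=
  Lgr Lrot80 (Lpe (f375255 IH) (Lpr_af (f422365 IH) (Lpe (f392293 IH) (Lpn (LP (LK LD1_c10 LD2_c54 LD3_c52))))))
theorem f375251 : Led Lsl_ct (LP (LK LD1_c8 LD2_c58 LD3_c3)) = (LP (LK LD1_c16 LD2_c46 LD3_c59)) :=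
  Lre_c IH (LK LD1_c8 LD2_c58 LD3_c3) (LK LD1_c16 LD2_c46 LD3_c59) Lrfl Lrfl
theorem f422389 : Led Lsl_ct (LP (LK LD1_c10 LD2_c54 LD3_c52)) = (LP (LK LD1_c5 LD2_c31 LD3_c35)) :=
  Lre_c IH (LK LD1_c10 LD2_c54 LD3_c52) (LK LD1_c5 LD2_c31 LD3_c35) Lrfl Lrfl
theorem f422390 : Led Lsl_af (LP (LK LD1_c8 LD2_c58 LD3_c3)) = (LP (LK LD1_c5 LD2_c31 LD3_c35)) :=
  Lgr Lrot68 (Lpr_ct (f375251 IH) (Lpr_at (f422385 IH) (Lpr_ct (f422389 IH) (Lpn (LP (LK LD1_c5 LD2_c31 LD3_c35))))))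
theorem f422393 : Led Lsl_at (LP (LK LD1_c8 LD2_c58 LD3_c3)) = (LP (LK LD1_c5 LD2_c31 LD3_c35)) :=
  Lgr Lrot100 (Lpr_af (f422390 IH) (Lpn (LP (LK LD1_c5 LD2_c31 LD3_c35))))
theorem f399440 : Led Lsl_et (LP (LK LD1_c4 LD2_c29 LD3_c57)) = (LP (LK LD1_c8 LD2_c58 LD3_c3)) :=
  Lre_e IH (LK LD1_c4 LD2_c29 LD3_c57) (LK LD1_c8 LD2_c58 LD3_c3) Lrfl Lrfl
theorem f281581 : Led Lsl_et (LP (LK LD1_c5 LD2_c31 LD3_c35)) = (LP (LK LD1_c2 LD2_c41 LD3_c60)) :=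
  Lre_e IH (LK LD1_c5 LD2_c31 LD3_c35) (LK LD1_c2 LD2_c41 LD3_c60) Lrfl Lrfl
theorem f422400 : Led Lsl_af (LP (LK LD1_c4 LD2_c29 LD3_c57)) = (LP (LK LD1_c2 LD2_c41 LD3_c60)) :=
  Lgr Lrot50 (Lpr_et (f399440 IH) (Lpr_at (f422393 IH) (Lpr_et (f281581 IH) (Lpn (LP (LK LD1_c2 LD2_c41 LD3_c60))))))
theorem f422076 : Led Lsl_ft (LP (LK LD1_c4 LD2_c29 LD3_c56)) = (LP (LK LD1_c2 LD2_c41 LD3_c60)) :=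
  Lgr Lrot75 (Lpe (K30.f280828 IH) (Lpr_ff (f422072 IH) (Lpe (f332455 IH) (Lpn (LP (LK LD1_c2 LD2_c41 LD3_c60))))))
theorem f422331 : Led Lsl_af (LP (LK LD1_c4 LD2_c29 LD3_c56)) = (LP (LK LD1_c2 LD2_c41 LD3_c61)) :=
  Lgr Lrot68 (Lpr_ct (K31.f280826 IH) (Lpr_at (f422325 IH) (Lpr_ct (K27.f221295 IH) (Lpn (LP (LK LD1_c2 LD2_c41 LD3_c61))))))
theorem f422406 : Led Lsl_ft (LP (LK LD1_c4 LD2_c29 LD3_c57)) = (LP (LK LD1_c2 LD2_c41 LD3_c61)) :=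
  Lgr Lrot101 (Lpr_af (f422400 IH) (Lpe (f422076 IH) (Lpr_af (f422331 IH) (Lpn (LP (LK LD1_c2 LD2_c41 LD3_c61))))))
theorem f422412 : Led Lsl_ff (LP (LK LD1_c4 LD2_c29 LD3_c57)) = (LP (LK LD1_c2 LD2_c41 LD3_c61)) :=
  Lgr Lrot3 (Lpr_ft (f422406 IH) (Lpn (LP (LK LD1_c2 LD2_c41 LD3_c61))))
theorem f422416 : Led Lsl_ft (LP (LK LD1_c8 LD2_c56 LD3_c52)) = (LP (LK LD1_c5 LD2_c29 LD3_c13)) :=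
  Lgr Lrot54 (Lpe (K54.f399434 IH) (Lpr_ff (f422412 IH) (Lpr_df (K31.f399542 IH) (Lpn (LP (LK LD1_c5 LD2_c29 LD3_c13))))))
theorem f245463 : Led Lsl_bt (LP (LK LD1_c16 LD2_c45 LD3_c5)) = (LP (LK LD1_c8 LD2_c56 LD3_c52)) :=
  Lre_b IH (LK LD1_c16 LD2_c45 LD3_c5) (LK LD1_c8 LD2_c56 LD3_c52) Lrfl Lrfl
theorem f422418 : Led Lsl_ff (LP (LK LD1_c16 LD2_c45 LD3_c5)) = (LP (LK LD1_c10 LD2_c49 LD3_c43)) :=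
  Lgr Lrot25 (Lpr_bt (f245463 IH) (Lpr_ft (f422416 IH) (Lpr_bt (K50.f172886 IH) (Lpn (LP (LK LD1_c10 LD2_c49 LD3_c43))))))
theorem f172885 : Led Lsl_at (LP (LK LD1_c19 LD2_c34 LD3_c19)) = (LP (LK LD1_c10 LD2_c49 LD3_c43)) :=
  Lre_a IH (LK LD1_c19 LD2_c34 LD3_c19) (LK LD1_c10 LD2_c49 LD3_c43) Lrfl Lrfl
theorem f168800 : Led Lsl_gt (LP (LK LD1_c4 LD2_c28 LD3_c31)) = (LP (LK LD1_c2 LD2_c11 LD3_c20)) :=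
  Lre_g IH (LK LD1_c4 LD2_c28 LD3_c31) (LK LD1_c2 LD2_c11 LD3_c20) Lrfl Lrfl
theorem f399553 : Led Lsl_dt (LP (LK LD1_c5 LD2_c31 LD3_c36)) = (LP (LK LD1_c10 LD2_c49 LD3_c43)) :=
  Lgr Lrot57 (Lpe (f290365 IH) (Lpe (K17.f174060 IH) (Lpr_gt (f168800 IH) (Lpr_dt (f195219 IH) (Lpr_gt (K30.f195224 IH) (Lpr_dt (f383033 IH) (Lpr_cf (K31.f392456 IH) (Lpe (K31.f392444 IH) (Lpr_gf (K50.f399549 IH) (Lpn (LP (LK LD1_c10 LD2_c49 LD3_c43))))))))))))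
theorem f172904 : Led Lsl_at (LP (LK LD1_c10 LD2_c49 LD3_c43)) = (LP (LK LD1_c19 LD2_c34 LD3_c19)) :=
  Lre_a IH (LK LD1_c10 LD2_c49 LD3_c43) (LK LD1_c19 LD2_c34 LD3_c19) Lrfl Lrfl
theorem f399639 : Led Lsl_df (LP (LK LD1_c10 LD2_c54 LD3_c55)) = (LP (LK LD1_c19 LD2_c34 LD3_c19)) :=
  Lgr Lrot18 (Lpr_at (f290367 IH) (Lpr_dt (f399553 IH) (Lpr_at (f172904 IH) (Lpn (LP (LK LD1_c19 LD2_c34 LD3_c19))))))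
theorem f318592 : Led Lsl_gt (LP (LK LD1_c17 LD2_c56 LD3_c25)) = (LP (LK LD1_c9 LD2_c46 LD3_c26)) :=
  Lre_g IH (LK LD1_c17 LD2_c56 LD3_c25) (LK LD1_c9 LD2_c46 LD3_c26) Lrfl Lrfl
theorem f384301 : Led Lsl_dt (LP (LK LD1_c16 LD2_c41 LD3_c18)) = (LP (LK LD1_c17 LD2_c56 LD3_c25)) :=
  Lgr Lrot115 (Lpe (K27.f223493 IH) (Lpr_ct (K27.f224511 IH) (Lpr_gt (K27.f224510 IH) (Lpr_dt (f243830 IH) (Lpr_gt (K30.f290370 IH) (Lpe (K30.f341391 IH) (Lpr_ct (K30.f384294 IH) (Lpr_df (K30.f384260 IH) (Lpe (f318592 IH) (Lpn (LP (LK LD1_c17 LD2_c56 LD3_c25))))))))))))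
theorem f399643 : Led Lsl_ft (LP (LK LD1_c17 LD2_c56 LD3_c25)) = (LP (LK LD1_c19 LD2_c34 LD3_c19)) :=
  Lgr Lrot54 (Lpe (f384301 IH) (Lpr_ff (f290375 IH) (Lpr_df (f399639 IH) (Lpn (LP (LK LD1_c19 LD2_c34 LD3_c19))))))
theorem f422483 : Led Lsl_at (LP (LK LD1_c16 LD2_c45 LD3_c5)) = (LP (LK LD1_c17 LD2_c56 LD3_c25)) :=
  Lgr Lrot66 (Lpr_ff (f422418 IH) (Lpe (f172885 IH) (Lpe (f399643 IH) (Lpn (LP (LK LD1_c17 LD2_c56 LD3_c25))))))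
theorem f399438 : Led Lsl_dt (LP (LK LD1_c8 LD2_c58 LD3_c1)) = (LP (LK LD1_c16 LD2_c45 LD3_c5)) :=
  Lgr Lrot79 (Lpe (K31.f375262 IH) (Lpr_df (K31.f399436 IH) (Lpe (f245463 IH) (Lpn (LP (LK LD1_c16 LD2_c45 LD3_c5))))))
theorem f384303 : Led Lsl_df (LP (LK LD1_c16 LD2_c41 LD3_c18)) = (LP (LK LD1_c17 LD2_c56 LD3_c25)) :=
  Lgr Lrot38 (Lpr_dt (f384301 IH) (Lpn (LP (LK LD1_c17 LD2_c56 LD3_c25))))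
theorem f422501 : Led Lsl_af (LP (LK LD1_c8 LD2_c58 LD3_c1)) = (LP (LK LD1_c16 LD2_c41 LD3_c18)) :=
  Lgr Lrot117 (Lpr_dt (f399438 IH) (Lpr_at (f422483 IH) (Lpe (f384303 IH) (Lpn (LP (LK LD1_c16 LD2_c41 LD3_c18))))))
theorem f422503 : Led Lsl_at (LP (LK LD1_c8 LD2_c58 LD3_c59)) = (LP (LK LD1_c16 LD2_c40 LD3_c3)) :=
  Lgr Lrot107 (Lpe (K20.f281626 IH) (Lpr_af (f422501 IH) (Lpe (K27.f223492 IH) (Lpn (LP (LK LD1_c16 LD2_c40 LD3_c3))))))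
theorem f174510 : Led Lsl_dt (LP (LK LD1_c16 LD2_c48 LD3_c5)) = (LP (LK LD1_c8 LD2_c58 LD3_c59)) :=
  Lre_d IH (LK LD1_c16 LD2_c48 LD3_c5) (LK LD1_c8 LD2_c58 LD3_c59) Lrfl Lrfl
theorem f422507 : Led Lsl_af (LP (LK LD1_c16 LD2_c48 LD3_c5)) = (LP (LK LD1_c26 LD2_c37 LD3_c3)) :=
  Lgr Lrot117 (Lpr_dt (f174510 IH) (Lpr_at (f422503 IH) (Lpe (K64.f383083 IH) (Lpn (LP (LK LD1_c26 LD2_c37 LD3_c3))))))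
theorem f422014 : Led Lsl_at (LP (LK LD1_c19 LD2_c43 LD3_c2)) = (LP (LK LD1_c16 LD2_c48 LD3_c7)) :=
  Lgr Lrot100 (Lpr_af (f422012 IH) (Lpn (LP (LK LD1_c16 LD2_c48 LD3_c7))))
theorem f422512 : Led Lsl_ft (LP (LK LD1_c16 LD2_c48 LD3_c5)) = (LP (LK LD1_c19 LD2_c43 LD3_c2)) :=
  Lgr Lrot101 (Lpr_af (f422507 IH) (Lpr_ff (f422024 IH) (Lpe (f422014 IH) (Lpn (LP (LK LD1_c19 LD2_c43 LD3_c2))))))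
theorem f422518 : Led Lsl_ff (LP (LK LD1_c16 LD2_c48 LD3_c5)) = (LP (LK LD1_c19 LD2_c43 LD3_c2)) :=
  Lgr Lrot3 (Lpr_ft (f422512 IH) (Lpn (LP (LK LD1_c19 LD2_c43 LD3_c2))))
theorem f422510 : Led Lsl_at (LP (LK LD1_c16 LD2_c48 LD3_c5)) = (LP (LK LD1_c26 LD2_c37 LD3_c3)) :=
  Lgr Lrot100 (Lpr_af (f422507 IH) (Lpn (LP (LK LD1_c26 LD2_c37 LD3_c3))))
theorem f179159 : Led Lsl_dt (LP (LK LD1_c10 LD2_c48 LD3_c0)) = (LP (LK LD1_c19 LD2_c32 LD3_c12)) :=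
  Lre_d IH (LK LD1_c10 LD2_c48 LD3_c0) (LK LD1_c19 LD2_c32 LD3_c12) Lrfl Lrfl
theorem f188878 : Led Lsl_dt (LP (LK LD1_c8 LD2_c35 LD3_c56)) = (LP (LK LD1_c16 LD2_c7 LD3_c12)) :=
  Lre_d IH (LK LD1_c8 LD2_c35 LD3_c56) (LK LD1_c16 LD2_c7 LD3_c12) Lrfl Lrfl
theorem f384305 : Led Lsl_gt (LP (LK LD1_c16 LD2_c48 LD3_c46)) = (LP (LK LD1_c17 LD2_c56 LD3_c25)) :=
  Lgr Lrot94 (Lpe (K31.f173508 IH) (Lpr_gt (K50.f224523 IH) (Lpr_dt (K53.f243813 IH) (Lpr_gt (K27.f318770 IH) (Lpr_dt (f188878 IH) (Lpe (K27.f290352 IH) (Lpe (K27.f174414 IH) (Lpe (f174438 IH) (Lpr_df (f384303 IH) (Lpn (LP (LK LD1_c17 LD2_c56 LD3_c25))))))))))))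
theorem f404899 : Led Lsl_gt (LP (LK LD1_c19 LD2_c32 LD3_c12)) = (LP (LK LD1_c26 LD2_c37 LD3_c3)) :=
  Lgr Lrot49 (Lpe (f179159 IH) (Lpr_gf (f404897 IH) (Lpe (f382516 IH) (Lpr_gt (K31.f392433 IH) (Lpe (K31.f392434 IH) (Lpr_gt (f384305 IH) (Lpe (f384303 IH) (Lpe (K27.f223492 IH) (Lpe (f383081 IH) (Lpn (LP (LK LD1_c26 LD2_c37 LD3_c3))))))))))))
theorem f422540 : Led Lsl_gf (LP (LK LD1_c19 LD2_c32 LD3_c12)) = (LP (LK LD1_c19 LD2_c43 LD3_c2)) :=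
  Lgr Lrot47 (Lpr_gt (f404899 IH) (Lpe (f422510 IH) (Lpr_ff (f422518 IH) (Lpn (LP (LK LD1_c19 LD2_c43 LD3_c2))))))
theorem f195271 : Led Lsl_gt (LP (LK LD1_c8 LD2_c55 LD3_c16)) = (LP (LK LD1_c16 LD2_c41 LD3_c39)) :=
  Lre_g IH (LK LD1_c8 LD2_c55 LD3_c16) (LK LD1_c16 LD2_c41 LD3_c39) Lrfl Lrfl
theorem f243880 : Led Lsl_ct (LP (LK LD1_c16 LD2_c41 LD3_c41)) = (LP (LK LD1_c8 LD2_c55 LD3_c16)) :=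
  Lre_c IH (LK LD1_c16 LD2_c41 LD3_c41) (LK LD1_c8 LD2_c55 LD3_c16) Lrfl Lrfl
theorem f382733 : Led Lsl_gf (LP (LK LD1_c26 LD2_c2 LD3_c7)) = (LP (LK LD1_c16 LD2_c41 LD3_c41)) :=
  Lgr Lrot144 (Lpr_dt (K27.f179717 IH) (Lpr_gt (K27.f179715 IH) (Lpr_dt (K30.f382731 IH) (Lpe (K30.f178165 IH) (Lpe (K30.f178153 IH) (Lpe (K30.f178115 IH) (Lpr_df (K30.f341344 IH) (Lpe (f195271 IH) (Lpe (f243880 IH) (Lpn (LP (LK LD1_c16 LD2_c41 LD3_c41))))))))))))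
theorem f243758 : Led Lsl_ct (LP (LK LD1_c8 LD2_c55 LD3_c16)) = (LP (LK LD1_c16 LD2_c41 LD3_c41)) :=
  Lre_c IH (LK LD1_c8 LD2_c55 LD3_c16) (LK LD1_c16 LD2_c41 LD3_c41) Lrfl Lrfl
theorem f179162 : Led Lsl_dt (LP (LK LD1_c19 LD2_c32 LD3_c12)) = (LP (LK LD1_c10 LD2_c48 LD3_c0)) :=
  Lre_d IH (LK LD1_c19 LD2_c32 LD3_c12) (LK LD1_c10 LD2_c48 LD3_c0) Lrfl Lrfl
theorem f382741 : Led Lsl_ct (LP (LK LD1_c26 LD2_c2 LD3_c7)) = (LP (LK LD1_c19 LD2_c32 LD3_c12)) :=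
  Lgr Lrot110 (Lpr_gf (f382733 IH) (Lpe (f243758 IH) (Lpe (K27.f195270 IH) (Lpr_df (K27.f380931 IH) (Lpe (K30.f341416 IH) (Lpe (f225897 IH) (Lpr_gt (K30.f341340 IH) (Lpr_ct (f179145 IH) (Lpe (f179162 IH) (Lpn (LP (LK LD1_c19 LD2_c32 LD3_c12))))))))))))
theorem f382746 : Led Lsl_cf (LP (LK LD1_c26 LD2_c2 LD3_c7)) = (LP (LK LD1_c19 LD2_c32 LD3_c12)) :=
  Lgr Lrot11 (Lpr_ct (f382741 IH) (Lpn (LP (LK LD1_c19 LD2_c32 LD3_c12))))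
theorem f172914 : Led Lsl_dt (LP (LK LD1_c5 LD2_c45 LD3_c35)) = (LP (LK LD1_c11 LD2_c21 LD3_c38)) :=
  Lre_d IH (LK LD1_c5 LD2_c45 LD3_c35) (LK LD1_c11 LD2_c21 LD3_c38) Lrfl Lrfl
theorem f383216 : Led Lsl_cf (LP (LK LD1_c16 LD2_c4 LD3_c59)) = (LP (LK LD1_c11 LD2_c21 LD3_c38)) :=
  Lgr Lrot55 (Lpr_dt (K27.f179718 IH) (Lpr_ct (f382741 IH) (Lpr_dt (f179162 IH) (Lpr_ct (f179137 IH) (Lpe (K30.f179160 IH) (Lpr_ct (K54.f179171 IH) (Lpr_dt (f179172 IH) (Lpr_ct (K54.f179173 IH) (Lpr_dt (K64.f383214 IH) (Lpe (K64.f341348 IH) (Lpr_dt (K64.f341347 IH) (Lpr_ct (K64.f178166 IH) (Lpe (K27.f380935 IH) (Lpr_ct (K54.f172881 IH) (Lpr_dt (f172914 IH) (Lpn (LP (LK LD1_c11 LD2_c21 LD3_c38))))))))))))))))))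
theorem f380942 : Led Lsl_gt (LP (LK LD1_c20 LD2_c19 LD3_c19)) = (LP (LK LD1_c11 LD2_c21 LD3_c38)) :=
  Lre_g IH (LK LD1_c20 LD2_c19 LD3_c19) (LK LD1_c11 LD2_c21 LD3_c38) Lrfl Lrfl
theorem f422542 : Led Lsl_cf (LP (LK LD1_c20 LD2_c19 LD3_c19)) = (LP (LK LD1_c15 LD2_c42 LD3_c30)) :=
  Lgr Lrot169 (Lpr_gt (f380942 IH) (Lpe (f383216 IH) (Lpe (K27.f179717 IH) (Lpr_cf (f382746 IH) (Lpr_gf (f422540 IH) (Lpe (f382667 IH) (Lpr_gf (K27.f382661 IH) (Lpr_df (f383013 IH) (Lpe (K30.f381006 IH) (Lpn (LP (LK LD1_c15 LD2_c42 LD3_c30))))))))))))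
theorem f422544 : Led Lsl_ct (LP (LK LD1_c20 LD2_c19 LD3_c19)) = (LP (LK LD1_c15 LD2_c42 LD3_c30)) :=
  Lgr Lrot59 (Lpr_cf (f422542 IH) (Lpn (LP (LK LD1_c15 LD2_c42 LD3_c30))))
theorem f243822 : Led Lsl_gt (LP (LK LD1_c11 LD2_c21 LD3_c37)) = (LP (LK LD1_c5 LD2_c45 LD3_c35)) :=
  Lre_g IH (LK LD1_c11 LD2_c21 LD3_c37) (LK LD1_c5 LD2_c45 LD3_c35) Lrfl Lrfl
theorem f399579 : Led Lsl_cf (LP (LK LD1_c17 LD2_c56 LD3_c25)) = (LP (LK LD1_c11 LD2_c21 LD3_c37)) :=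
  Lgr Lrot166 (Lpr_gt (f318592 IH) (Lpe (K30.f384260 IH) (Lpr_gt (f392511 IH) (Lpr_dt (f382498 IH) (Lpe (K31.f382514 IH) (Lpr_df (f399573 IH) (Lpe (K54.f172912 IH) (Lpe (f172914 IH) (Lpe (f243822 IH) (Lpn (LP (LK LD1_c11 LD2_c21 LD3_c37))))))))))))
theorem f422487 : Led Lsl_ft (LP (LK LD1_c16 LD2_c45 LD3_c5)) = (LP (LK LD1_c10 LD2_c49 LD3_c43)) :=
  Lgr Lrot48 (Lpr_ff (f422418 IH) (Lpn (LP (LK LD1_c10 LD2_c49 LD3_c43))))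
theorem f399645 : Led Lsl_ff (LP (LK LD1_c17 LD2_c56 LD3_c25)) = (LP (LK LD1_c19 LD2_c34 LD3_c19)) :=
  Lgr Lrot3 (Lpr_ft (f399643 IH) (Lpn (LP (LK LD1_c19 LD2_c34 LD3_c19))))
theorem f422489 : Led Lsl_af (LP (LK LD1_c16 LD2_c45 LD3_c5)) = (LP (LK LD1_c17 LD2_c56 LD3_c25)) :=
  Lgr Lrot45 (Lpr_ft (f422487 IH) (Lpr_at (f172904 IH) (Lpe (f399645 IH) (Lpn (LP (LK LD1_c17 LD2_c56 LD3_c25))))))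
theorem f174509 : Led Lsl_ct (LP (LK LD1_c8 LD2_c58 LD3_c59)) = (LP (LK LD1_c8 LD2_c58 LD3_c1)) :=
  Lre_c IH (LK LD1_c8 LD2_c58 LD3_c59) (LK LD1_c8 LD2_c58 LD3_c1) Lrfl Lrfl
theorem f173519 : Led Lsl_gt (LP (LK LD1_c4 LD2_c30 LD3_c22)) = (LP (LK LD1_c8 LD2_c58 LD3_c59)) :=
  Lre_g IH (LK LD1_c4 LD2_c30 LD3_c22) (LK LD1_c8 LD2_c58 LD3_c59) Lrfl Lrfl
theorem f173525 : Led Lsl_ct (LP (LK LD1_c2 LD2_c12 LD3_c10)) = (LP (LK LD1_c4 LD2_c30 LD3_c22)) :=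
  Lre_c IH (LK LD1_c2 LD2_c12 LD3_c10) (LK LD1_c4 LD2_c30 LD3_c22) Lrfl Lrfl
theorem f255950 : Led Lsl_ct (LP (LK LD1_c4 LD2_c30 LD3_c31)) = (LP (LK LD1_c8 LD2_c59 LD3_c21)) :=
  Lre_c IH (LK LD1_c4 LD2_c30 LD3_c31) (LK LD1_c8 LD2_c59 LD3_c21) Lrfl Lrfl
theorem f399969 : Led Lsl_gt (LP (LK LD1_c8 LD2_c59 LD3_c21)) = (LP (LK LD1_c16 LD2_c48 LD3_c40)) :=
  Lre_g IH (LK LD1_c8 LD2_c59 LD3_c21) (LK LD1_c16 LD2_c48 LD3_c40) Lrfl Lrfl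
theorem f399970 : Led Lsl_ct (LP (LK LD1_c16 LD2_c48 LD3_c40)) = (LP (LK LD1_c16 LD2_c45 LD3_c5)) :=
  Lgr Lrot151 (Lpe (f399969 IH) (Lpe (f255950 IH) (Lpe (K30.f181780 IH) (Lpr_dt (K30.f173501 IH) (Lpr_gt (K9.f169305 IH) (Lpr_ct (f173525 IH) (Lpr_gt (f173519 IH) (Lpr_ct (f174509 IH) (Lpr_dt (f399438 IH) (Lpn (LP (LK LD1_c16 LD2_c45 LD3_c5))))))))))))
theorem f399973 : Led Lsl_cf (LP (LK LD1_c16 LD2_c48 LD3_c40)) = (LP (LK LD1_c16 LD2_c45 LD3_c5)) :=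
  Lgr Lrot11 (Lpr_ct (f399970 IH) (Lpn (LP (LK LD1_c16 LD2_c45 LD3_c5))))
theorem f422495 : Led Lsl_at (LP (LK LD1_c16 LD2_c48 LD3_c40)) = (LP (LK LD1_c11 LD2_c21 LD3_c37)) :=
  Lgr Lrot107 (Lpr_cf (f399973 IH) (Lpr_af (f422489 IH) (Lpr_cf (f399579 IH) (Lpn (LP (LK LD1_c11 LD2_c21 LD3_c37))))))
theorem f422491 : Led Lsl_ff (LP (LK LD1_c16 LD2_c48 LD3_c40)) = (LP (LK LD1_c11 LD2_c21 LD3_c36)) :=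
  Lgr Lrot23 (Lpr_ct (f399970 IH) (Lpr_ft (f422487 IH) (Lpr_ct (K54.f172883 IH) (Lpn (LP (LK LD1_c11 LD2_c21 LD3_c36))))))
theorem f422499 : Led Lsl_gt (LP (LK LD1_c5 LD2_c45 LD3_c37)) = (LP (LK LD1_c11 LD2_c21 LD3_c37)) :=
  Lgr Lrot46 (Lpr_gf (f404901 IH) (Lpe (f422491 IH) (Lpr_at (f422495 IH) (Lpn (LP (LK LD1_c11 LD2_c21 LD3_c37))))))
theorem f422547 : Led Lsl_gf (LP (LK LD1_c20 LD2_c19 LD3_c19)) = (LP (LK LD1_c11 LD2_c21 LD3_c41)) :=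
  Lgr Lrot147 (Lpr_ct (f422544 IH) (Lpr_gt (K30.f178814 IH) (Lpr_ct (K31.f178762 IH) (Lpe (K27.f255941 IH) (Lpr_cf (K30.f384288 IH) (Lpe (f318592 IH) (Lpr_cf (f399579 IH) (Lpe (f422499 IH) (Lpe (K54.f179157 IH) (Lpn (LP (LK LD1_c11 LD2_c21 LD3_c41))))))))))))
theorem f382730 : Led Lsl_gt (LP (LK LD1_c16 LD2_c48 LD3_c14)) = (LP (LK LD1_c8 LD2_c59 LD3_c2)) :=
  Lre_g IH (LK LD1_c16 LD2_c48 LD3_c14) (LK LD1_c8 LD2_c59 LD3_c2) Lrfl Lrfl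
theorem f383232 : Led Lsl_df (LP (LK LD1_c16 LD2_c48 LD3_c14)) = (LP (LK LD1_c20 LD2_c19 LD3_c19)) :=
  Lgr Lrot155 (Lpr_gt (f382730 IH) (Lpr_ct (K54.f382499 IH) (Lpr_gt (K27.f382488 IH) (Lpr_ct (K27.f382564 IH) (Lpe (K27.f382726 IH) (Lpr_cf (K27.f179710 IH) (Lpe (K27.f179715 IH) (Lpr_cf (f383216 IH) (Lpe (f380942 IH) (Lpn (LP (LK LD1_c20 LD2_c19 LD3_c19))))))))))))
theorem f392305 : Led Lsl_dt (LP (LK LD1_c16 LD2_c44 LD3_c53)) = (LP (LK LD1_c19 LD2_c43 LD3_c22)) :=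
  Lgr Lrot42 (Lpr_df (f392297 IH) (Lpn (LP (LK LD1_c19 LD2_c43 LD3_c22))))
theorem f727769 : Led Lsl_cf (LP (LK LD1_c16 LD2_c48 LD3_c14)) = (LP (LK LD1_c19 LD2_c43 LD3_c22)) :=
  Lgr Lrot14 (Lpr_df (f383232 IH) (Lpr_gf (f422547 IH) (Lpe (f179172 IH) (Lpr_gf (f404901 IH) (Lpe (K54.f172892 IH) (Lpe (K50.f399549 IH) (Lpr_dt (K31.f392444 IH) (Lpr_gt (f727759 IH) (Lpr_dt (f392305 IH) (Lpn (LP (LK LD1_c19 LD2_c43 LD3_c22))))))))))))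
theorem f382614 : Led Lsl_gt (LP (LK LD1_c8 LD2_c59 LD3_c16)) = (LP (LK LD1_c16 LD2_c48 LD3_c14)) :=
  Lre_g IH (LK LD1_c8 LD2_c59 LD3_c16) (LK LD1_c16 LD2_c48 LD3_c14) Lrfl Lrfl
theorem f727777 : Led Lsl_bf (LP (LK LD1_c17 LD2_c53 LD3_c35)) = (LP (LK LD1_c19 LD2_c43 LD3_c22)) :=
  Lgr Lrot156 (Lpe (f332418 IH) (Lpe (K22.f226128 IH) (Lpr_ct (K22.f226129 IH) (Lpr_gt (K30.f226331 IH) (Lpe (K22.f226336 IH) (Lpe (K30.f382610 IH) (Lpr_gt (K30.f382582 IH) (Lpr_ct (K31.f281665 IH) (Lpr_gt (f382614 IH) (Lpr_cf (f727769 IH) (Lpn (LP (LK LD1_c19 LD2_c43 LD3_c22)))))))))))))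
theorem f226117 : Led Lsl_at (LP (LK LD1_c19 LD2_c43 LD3_c15)) = (LP (LK LD1_c10 LD2_c55 LD3_c3)) :=
  Lre_a IH (LK LD1_c19 LD2_c43 LD3_c15) (LK LD1_c10 LD2_c55 LD3_c3) Lrfl Lrfl
theorem f332420 : Led Lsl_ff (LP (LK LD1_c19 LD2_c43 LD3_c15)) = (LP (LK LD1_c17 LD2_c53 LD3_c35)) :=
  Lgr Lrot52 (Lpr_at (f226117 IH) (Lpr_gf (K22.f226126 IH) (Lpr_gf (f332418 IH) (Lpn (LP (LK LD1_c17 LD2_c53 LD3_c35))))))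
theorem f727779 : Led Lsl_bt (LP (LK LD1_c19 LD2_c43 LD3_c15)) = (LP (LK LD1_c19 LD2_c33 LD3_c53)) :=
  Lgr Lrot35 (Lpr_ff (f332420 IH) (Lpr_bf (f727777 IH) (Lpe (f727734 IH) (Lpn (LP (LK LD1_c19 LD2_c33 LD3_c53))))))
theorem f289604 : Led Lsl_gt (LP (LK LD1_c8 LD2_c58 LD3_c23)) = (LP (LK LD1_c16 LD2_c47 LD3_c23)) :=
  Lre_g IH (LK LD1_c8 LD2_c58 LD3_c23) (LK LD1_c16 LD2_c47 LD3_c23) Lrfl Lrfl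
theorem f727797 : Led Lsl_ct (LP (LK LD1_c19 LD2_c43 LD3_c15)) = (LP (LK LD1_c16 LD2_c47 LD3_c23)) :=
  Lgr Lrot63 (Lpr_bt (f727779 IH) (Lpr_gt (f727727 IH) (Lpr_bf (K17.f174066 IH) (Lpe (K17.f224986 IH) (Lpe (K20.f289592 IH) (Lpe (K20.f289596 IH) (Lpr_bt (K20.f289597 IH) (Lpe (K20.f289598 IH) (Lpr_ct (K31.f180406 IH) (Lpr_gt (f289604 IH) (Lpn (LP (LK LD1_c16 LD2_c47 LD3_c23)))))))))))))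
theorem f238486 : Led Lsl_at (LP (LK LD1_c5 LD2_c33 LD3_c40)) = (LP (LK LD1_c10 LD2_c59 LD3_c3)) :=
  Lre_a IH (LK LD1_c5 LD2_c33 LD3_c40) (LK LD1_c10 LD2_c59 LD3_c3) Lrfl Lrfl
theorem f402546 : Led Lsl_gt (LP (LK LD1_c16 LD2_c47 LD3_c23)) = (LP (LK LD1_c10 LD2_c59 LD3_c3)) :=
  Lgr Lrot46 (Lpe (f289604 IH) (Lpr_ft (K40.f319779 IH) (Lpr_at (f238486 IH) (Lpn (LP (LK LD1_c10 LD2_c59 LD3_c3))))))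
theorem f332473 : Led Lsl_dt (LP (LK LD1_c17 LD2_c53 LD3_c17)) = (LP (LK LD1_c9 LD2_c43 LD3_c60)) :=
  Lre_d IH (LK LD1_c17 LD2_c53 LD3_c17) (LK LD1_c9 LD2_c43 LD3_c60) Lrfl Lrfl
theorem f727805 : Led Lsl_gf (LP (LK LD1_c19 LD2_c43 LD3_c15)) = (LP (LK LD1_c17 LD2_c53 LD3_c17)) :=
  Lgr Lrot147 (Lpr_ct (f727797 IH) (Lpr_gt (f402546 IH) (Lpr_ct (K22.f238490 IH) (Lpe (K22.f238481 IH) (Lpe (K22.f238480 IH) (Lpe (K31.f319744 IH) (Lpr_cf (f422052 IH) (Lpe (f422062 IH) (Lpe (f332473 IH) (Lpn (LP (LK LD1_c17 LD2_c53 LD3_c17))))))))))))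
theorem f168822 : Led Lsl_dt (LP (LK LD1_c17 LD2_c53 LD3_c33)) = (LP (LK LD1_c9 LD2_c44 LD3_c15)) :=
  Lre_d IH (LK LD1_c17 LD2_c53 LD3_c33) (LK LD1_c9 LD2_c44 LD3_c15) Lrfl Lrfl
theorem f332674 : Led Lsl_dt (LP (LK LD1_c4 LD2_c4 LD3_c7)) = (LP (LK LD1_c4 LD2_c4 LD3_c39)) :=
  Lgr Lrot27 (Lpr_cf (K20.f319633 IH) (Lpe (K20.f168802 IH) (Lpe (K20.f318384 IH) (Lpe (K20.f318385 IH) (Lpe (f168822 IH) (Lpe (K22.f319820 IH) (Lpr_ct (K22.f332573 IH) (Lpr_gt (K22.f199459 IH) (Lpr_ct (K22.f199395 IH) (Lpn (LP (LK LD1_c4 LD2_c4 LD3_c39))))))))))))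
theorem f727811 : Led Lsl_dt (LP (LK LD1_c19 LD2_c43 LD3_c15)) = (LP (LK LD1_c11 LD2_c9 LD3_c9)) :=
  Lgr Lrot105 (Lpr_gf (f727805 IH) (Lpe (K22.f332410 IH) (Lpe (f332468 IH) (Lpe (K31.f319653 IH) (Lpr_gt (K30.f319645 IH) (Lpr_dt (f332674 IH) (Lpr_gt (K31.f193330 IH) (Lpr_dt (K54.f391468 IH) (Lpe (f178142 IH) (Lpn (LP (LK LD1_c11 LD2_c9 LD3_c9))))))))))))
theorem f226138 : Led Lsl_at (LP (LK LD1_c10 LD2_c55 LD3_c3)) = (LP (LK LD1_c19 LD2_c43 LD3_c15)) :=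
  Lre_a IH (LK LD1_c10 LD2_c55 LD3_c3) (LK LD1_c19 LD2_c43 LD3_c15) Lrfl Lrfl
theorem f179403 : Led Lsl_at (LP (LK LD1_c5 LD2_c29 LD3_c2)) = (LP (LK LD1_c10 LD2_c49 LD3_c13)) :=
  Lre_a IH (LK LD1_c5 LD2_c29 LD3_c2) (LK LD1_c10 LD2_c49 LD3_c13) Lrfl Lrfl
theorem f388145 : Led Lsl_ff (LP (LK LD1_c11 LD2_c9 LD3_c9)) = (LP (LK LD1_c10 LD2_c49 LD3_c13)) :=
  Lgr Lrot3 (Lpr_ft (K54.f388126 IH) (Lpn (LP (LK LD1_c10 LD2_c49 LD3_c13))))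
theorem f727709 : Led Lsl_at (LP (LK LD1_c11 LD2_c9 LD3_c9)) = K54.v14978 :=
  Lgr Lrot66 (Lpr_ff (f388145 IH) (Lpe (f179403 IH) (Lpr_ff (K54.f727704 IH) (Lpn K54.v14978))))
theorem f727817 : (LP (LK LD1_c8 LD2_c56 LD3_c43)) = K54.v14978 :=
  (Llr Lrot18 (Lpe (K31.f388236 IH) (Lpr_at (f226138 IH) (Lpr_dt (f727811 IH) (Lpr_at (f727709 IH) (Lpn K54.v14978)))))).symm
theorem f727822 : K54.v4647 = (LP (LK LD1_c4 LD2_c29 LD3_c15)) :=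
  Lefun (Lecon (Lfl_bf (f727703 IH)) (f727817 IH).symm) (K30.f179773 IH)
theorem f727823 : (LP (LK LD1_c2 LD2_c40 LD3_c48)) = v12706 :=
  Lefun (Lecon (Lfl_af (f638317 IH)) (f727822 IH)) (f697736 IH)
theorem f390683 : Led Lsl_et (LP (LK LD1_c5 LD2_c29 LD3_c9)) = (LP (LK LD1_c2 LD2_c40 LD3_c48)) :=
  Lre_e IH (LK LD1_c5 LD2_c29 LD3_c9) (LK LD1_c2 LD2_c40 LD3_c48) Lrfl Lrfl
theorem f638313 : Led Lsl_ft (LP (LK LD1_c10 LD2_c49 LD3_c38)) = (LP (LK LD1_c5 LD2_c29 LD3_c9)) :=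
  Lre_f IH (LK LD1_c10 LD2_c49 LD3_c38) (LK LD1_c5 LD2_c29 LD3_c9) Lrfl Lrfl
theorem f392192 : Led Lsl_et (LP (LK LD1_c4 LD2_c29 LD3_c16)) = (LP (LK LD1_c8 LD2_c56 LD3_c48)) :=
  Lre_e IH (LK LD1_c4 LD2_c29 LD3_c16) (LK LD1_c8 LD2_c56 LD3_c48) Lrfl Lrfl
theorem f697741 : Led Lsl_ft (LP (LK LD1_c8 LD2_c56 LD3_c48)) = (LP (LK LD1_c16 LD2_c44 LD3_c61)) :=
  Lre_f IH (LK LD1_c8 LD2_c56 LD3_c48) (LK LD1_c16 LD2_c44 LD3_c61) Lrfl Lrfl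
theorem f727838 : Led Lsl_ef (LP (LK LD1_c10 LD2_c49 LD3_c38)) = (LP (LK LD1_c16 LD2_c44 LD3_c61)) :=
  Lgr Lrot21 (Lpr_ft (f638313 IH) (Lpr_et (f390683 IH) (Lpqs (f727823 IH) (Lpe (f697740 IH) (Lpr_et (f392192 IH) (Lpr_ft (f697741 IH) (Lpn (LP (LK LD1_c16 LD2_c44 LD3_c61)))))))))
theorem f727849 : Led Lsl_et (LP (LK LD1_c10 LD2_c49 LD3_c38)) = (LP (LK LD1_c16 LD2_c44 LD3_c61)) :=
  Lgr Lrot87 (Lpr_ef (f727838 IH) (Lpn (LP (LK LD1_c16 LD2_c44 LD3_c61))))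
theorem f727855 : Led Lsl_ct (LP (LK LD1_c19 LD2_c34 LD3_c7)) = (LP (LK LD1_c10 LD2_c49 LD3_c38)) :=
  Lre_c IH (LK LD1_c19 LD2_c34 LD3_c7) (LK LD1_c10 LD2_c49 LD3_c38) Lrfl Lrfl
theorem f727856 : Led Lsl_ct (LP (LK LD1_c16 LD2_c44 LD3_c61)) = (LP (LK LD1_c26 LD2_c43 LD3_c57)) :=
  Lre_c IH (LK LD1_c16 LD2_c44 LD3_c61) (LK LD1_c26 LD2_c43 LD3_c57) Lrfl Lrfl
theorem f727857 : Led Lsl_ef (LP (LK LD1_c19 LD2_c34 LD3_c7)) = (LP (LK LD1_c26 LD2_c43 LD3_c57)) :=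
  Lgr Lrot28 (Lpr_ct (f727855 IH) (Lpr_et (f727849 IH) (Lpr_ct (f727856 IH) (Lpn (LP (LK LD1_c26 LD2_c43 LD3_c57))))))
theorem f727862 : Led Lsl_ft (LP (LK LD1_c19 LD2_c34 LD3_c7)) = (LP (LK LD1_c10 LD2_c49 LD3_c33)) :=
  Lre_f IH (LK LD1_c19 LD2_c34 LD3_c7) (LK LD1_c10 LD2_c49 LD3_c33) Lrfl Lrfl
theorem f392476 : Led Lsl_et (LP (LK LD1_c10 LD2_c49 LD3_c33)) = (LP (LK LD1_c5 LD2_c29 LD3_c7)) :=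
  Lre_e IH (LK LD1_c10 LD2_c49 LD3_c33) (LK LD1_c5 LD2_c29 LD3_c7) Lrfl Lrfl
theorem f727863 : Led Lsl_ft (LP (LK LD1_c16 LD2_c44 LD3_c58)) = (LP (LK LD1_c26 LD2_c43 LD3_c57)) :=
  Lre_f IH (LK LD1_c16 LD2_c44 LD3_c58) (LK LD1_c26 LD2_c43 LD3_c57) Lrfl Lrfl
theorem f392291 : Led Lsl_et (LP (LK LD1_c8 LD2_c56 LD3_c47)) = (LP (LK LD1_c16 LD2_c44 LD3_c58)) :=
  Lre_e IH (LK LD1_c8 LD2_c56 LD3_c47) (LK LD1_c16 LD2_c44 LD3_c58) Lrfl Lrfl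
theorem f727864 : Led Lsl_ft (LP (LK LD1_c5 LD2_c29 LD3_c7)) = (LP (LK LD1_c8 LD2_c56 LD3_c47)) :=
  Lgr Lrot86 (Lpe (f392476 IH) (Lpe (f727862 IH) (Lpr_ef (f727857 IH) (Lpe (f727863 IH) (Lpe (f392291 IH) (Lpn (LP (LK LD1_c8 LD2_c56 LD3_c47))))))))
theorem f727871 : Led Lsl_af (LP (LK LD1_c5 LD2_c29 LD3_c3)) = (LP (LK LD1_c8 LD2_c56 LD3_c47)) :=
  Lgr Lrot31 (Lpe (K31.f179389 IH) (Lpe (f399769 IH) (Lpr_ft (f727864 IH) (Lpn (LP (LK LD1_c8 LD2_c56 LD3_c47))))))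
theorem f727875 : Led Lsl_at (LP (LK LD1_c10 LD2_c49 LD3_c19)) = (LP (LK LD1_c16 LD2_c44 LD3_c57)) :=
  Lgr Lrot51 (Lpe (K31.f386447 IH) (Lpr_af (f727871 IH) (Lpe (f392182 IH) (Lpn (LP (LK LD1_c16 LD2_c44 LD3_c57))))))
theorem f390246 : Led Lsl_dt (LP (LK LD1_c9 LD2_c0 LD3_c61)) = (LP (LK LD1_c10 LD2_c58 LD3_c7)) :=
  Lgr Lrot27 (Lpe (K31.f332081 IH) (Lpr_gf (K30.f245411 IH) (Lpe (K30.f245272 IH) (Lpe (K30.f245266 IH) (Lpe (K31.f245268 IH) (Lpr_gt (K38.f387741 IH) (Lpr_ct (K38.f280790 IH) (Lpr_gt (K38.f281572 IH) (Lpr_ct (K31.f390174 IH) (Lpn (LP (LK LD1_c10 LD2_c58 LD3_c7))))))))))))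
theorem f224500 : Led Lsl_dt (LP (LK LD1_c11 LD2_c0 LD3_c30)) = (LP (LK LD1_c5 LD2_c34 LD3_c10)) :=
  Lre_d IH (LK LD1_c11 LD2_c0 LD3_c30) (LK LD1_c5 LD2_c34 LD3_c10) Lrfl Lrfl
theorem f390305 : Led Lsl_gt (LP (LK LD1_c16 LD2_c44 LD3_c49)) = (LP (LK LD1_c11 LD2_c0 LD3_c30)) :=
  Lgr Lrot49 (Lpe (K30.f388212 IH) (Lpe (K31.f245504 IH) (Lpe (K31.f389119 IH) (Lpr_gt (K31.f332089 IH) (Lpr_dt (f390246 IH) (Lpe (K31.f390167 IH) (Lpr_dt (K31.f281721 IH) (Lpe (K27.f224496 IH) (Lpe (f224500 IH) (Lpn (LP (LK LD1_c11 LD2_c0 LD3_c30))))))))))))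
theorem f727959 : Led Lsl_ff (LP (LK LD1_c10 LD2_c49 LD3_c19)) = (LP (LK LD1_c16 LD2_c44 LD3_c49)) :=
  Lgr Lrot52 (Lpr_at (f727875 IH) (Lpr_gf (f392207 IH) (Lpe (f390305 IH) (Lpn (LP (LK LD1_c16 LD2_c44 LD3_c49))))))
theorem f727970 : Led Lsl_ft (LP (LK LD1_c10 LD2_c49 LD3_c19)) = (LP (LK LD1_c16 LD2_c44 LD3_c49)) :=
  Lgr Lrot48 (Lpr_ff (f727959 IH) (Lpn (LP (LK LD1_c16 LD2_c44 LD3_c49))))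
theorem f727979 : Led Lsl_af (LP (LK LD1_c10 LD2_c49 LD3_c32)) = (LP (LK LD1_c16 LD2_c44 LD3_c49)) :=
  Lgr Lrot31 (Lpr_gf (K31.f392636 IH) (Lpe (K31.f386456 IH) (Lpr_ft (f727970 IH) (Lpn (LP (LK LD1_c16 LD2_c44 LD3_c49))))))
theorem f727955 : Led Lsl_af (LP (LK LD1_c10 LD2_c49 LD3_c19)) = (LP (LK LD1_c16 LD2_c44 LD3_c57)) :=
  Lgr Lrot0 (Lpr_at (f727875 IH) (Lpn (LP (LK LD1_c16 LD2_c44 LD3_c57))))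
theorem f727987 : Led Lsl_ft (LP (LK LD1_c10 LD2_c49 LD3_c32)) = (LP (LK LD1_c16 LD2_c44 LD3_c57)) :=
  Lgr Lrot101 (Lpr_af (f727979 IH) (Lpe (f727970 IH) (Lpr_af (f727955 IH) (Lpn (LP (LK LD1_c16 LD2_c44 LD3_c57))))))
theorem f727989 : Led Lsl_ff (LP (LK LD1_c19 LD2_c34 LD3_c2)) = (LP (LK LD1_c19 LD2_c41 LD3_c41)) :=
  Lgr Lrot23 (Lpr_ct (f387770 IH) (Lpr_ft (f727987 IH) (Lpr_ct (f392259 IH) (Lpn (LP (LK LD1_c19 LD2_c41 LD3_c41))))))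
theorem f727996 : Led Lsl_ft (LP (LK LD1_c19 LD2_c34 LD3_c2)) = (LP (LK LD1_c19 LD2_c41 LD3_c41)) :=
  Lgr Lrot48 (Lpr_ff (f727989 IH) (Lpn (LP (LK LD1_c19 LD2_c41 LD3_c41))))
theorem f728000 : Led Lsl_ff (LP (LK LD1_c28 LD2_c53 LD3_c42)) = (LP (LK LD1_c29 LD2_c1 LD3_c43)) :=
  Lgr Lrot19 (Lpe (K31.f392644 IH) (Lpr_ft (f727996 IH) (Lpr_dt (K31.f280762 IH) (Lpn (LP (LK LD1_c29 LD2_c1 LD3_c43))))))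
theorem f728004 : Led Lsl_at (LP (LK LD1_c28 LD2_c53 LD3_c42)) = (LP (LK LD1_c29 LD2_c1 LD3_c41)) :=
  Lgr Lrot26 (Lpr_ff (f728000 IH) (Lpr_gt (K31.f388313 IH) (Lpr_gt (f392219 IH) (Lpn (LP (LK LD1_c29 LD2_c1 LD3_c41))))))
theorem f281613 : Led Lsl_dt (LP (LK LD1_c10 LD2_c55 LD3_c7)) = (LP (LK LD1_c19 LD2_c43 LD3_c26)) :=
  Lre_d IH (LK LD1_c10 LD2_c55 LD3_c7) (LK LD1_c19 LD2_c43 LD3_c26) Lrfl Lrfl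
theorem f332434 : Led Lsl_dt (LP (LK LD1_c19 LD2_c43 LD3_c18)) = (LP (LK LD1_c10 LD2_c55 LD3_c4)) :=
  Lre_d IH (LK LD1_c19 LD2_c43 LD3_c18) (LK LD1_c10 LD2_c55 LD3_c4) Lrfl Lrfl
theorem f392213 : Led Lsl_ct (LP (LK LD1_c29 LD2_c1 LD3_c43)) = (LP (LK LD1_c19 LD2_c43 LD3_c18)) :=
  Lgr Lrot110 (Lpr_gf (K31.f388311 IH) (Lpe (K30.f245299 IH) (Lpr_gf (K31.f392209 IH) (Lpe (K31.f281236 IH) (Lpr_gt (K31.f225222 IH) (Lpr_ct (K20.f178895 IH) (Lpr_gt (K14.f224535 IH) (Lpr_ct (K14.f226025 IH) (Lpe (f332434 IH) (Lpn (LP (LK LD1_c19 LD2_c43 LD3_c18))))))))))))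
theorem f392215 : Led Lsl_cf (LP (LK LD1_c29 LD2_c1 LD3_c43)) = (LP (LK LD1_c19 LD2_c43 LD3_c18)) :=
  Lgr Lrot11 (Lpr_ct (f392213 IH) (Lpn (LP (LK LD1_c19 LD2_c43 LD3_c18))))
theorem f388345 : Led Lsl_dt (LP (LK LD1_c10 LD2_c55 LD3_c4)) = (LP (LK LD1_c19 LD2_c43 LD3_c18)) :=
  Lre_d IH (LK LD1_c10 LD2_c55 LD3_c4) (LK LD1_c19 LD2_c43 LD3_c18) Lrfl Lrfl
theorem f392261 : Led Lsl_ct (LP (LK LD1_c19 LD2_c43 LD3_c26)) = (LP (LK LD1_c29 LD2_c1 LD3_c41)) :=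
  Lgr Lrot176 (Lpe (f281613 IH) (Lpe (f281612 IH) (Lpe (K31.f392177 IH) (Lpe (K31.f392181 IH) (Lpe (f392182 IH) (Lpr_cf (f392253 IH) (Lpe (K31.f280764 IH) (Lpr_cf (f392215 IH) (Lpe (f388345 IH) (Lpe (K14.f226025 IH) (Lpr_df (K30.f388238 IH) (Lpe (K30.f226524 IH) (Lpe (K30.f388201 IH) (Lpe (f388223 IH) (Lpe (K31.f281601 IH) (Lpn (LP (LK LD1_c29 LD2_c1 LD3_c41))))))))))))))))))
theorem f392265 : Led Lsl_cf (LP (LK LD1_c19 LD2_c43 LD3_c26)) = (LP (LK LD1_c29 LD2_c1 LD3_c41)) :=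
  Lgr Lrot11 (Lpr_ct (f392261 IH) (Lpn (LP (LK LD1_c29 LD2_c1 LD3_c41))))
theorem f728008 : Led Lsl_af (LP (LK LD1_c19 LD2_c33 LD3_c43)) = (LP (LK LD1_c19 LD2_c43 LD3_c26)) :=
  Lgr Lrot68 (Lpr_ct (f387755 IH) (Lpr_at (f728004 IH) (Lpe (f392265 IH) (Lpn (LP (LK LD1_c19 LD2_c43 LD3_c26))))))
theorem f392657 : Led Lsl_dt (LP (LK LD1_c19 LD2_c34 LD3_c2)) = (LP (LK LD1_c28 LD2_c53 LD3_c42)) :=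
  Lgr Lrot42 (Lpr_df (K31.f392644 IH) (Lpn (LP (LK LD1_c28 LD2_c53 LD3_c42))))
theorem f382523 : Led Lsl_ct (LP (LK LD1_c10 LD2_c49 LD3_c34)) = (LP (LK LD1_c5 LD2_c29 LD3_c8)) :=
  Lre_c IH (LK LD1_c10 LD2_c49 LD3_c34) (LK LD1_c5 LD2_c29 LD3_c8) Lrfl Lrfl
theorem f728014 : Led Lsl_ft (LP (LK LD1_c19 LD2_c34 LD3_c9)) = (LP (LK LD1_c19 LD2_c43 LD3_c26)) :=
  Lgr Lrot142 (Lpr_dt (f382543 IH) (Lpr_ct (f382523 IH) (Lpr_dt (f349411 IH) (Lpr_ct (K31.f349410 IH) (Lpr_dt (K31.f387767 IH) (Lpr_ct (K31.f387768 IH) (Lpr_dt (f392657 IH) (Lpe (f387748 IH) (Lpr_af (f728008 IH) (Lpn (LP (LK LD1_c19 LD2_c43 LD3_c26))))))))))))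
theorem f728024 : Led Lsl_ff (LP (LK LD1_c19 LD2_c34 LD3_c9)) = (LP (LK LD1_c19 LD2_c43 LD3_c26)) :=
  Lgr Lrot3 (Lpr_ft (f728014 IH) (Lpn (LP (LK LD1_c19 LD2_c43 LD3_c26))))
theorem f281614 : Led Lsl_dt (LP (LK LD1_c19 LD2_c43 LD3_c26)) = (LP (LK LD1_c10 LD2_c55 LD3_c7)) :=
  Lre_d IH (LK LD1_c19 LD2_c43 LD3_c26) (LK LD1_c10 LD2_c55 LD3_c7) Lrfl Lrfl
theorem f392195 : Led Lsl_dt (LP (LK LD1_c8 LD2_c56 LD3_c47)) = (LP (LK LD1_c16 LD2_c44 LD3_c57)) :=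
  Lre_d IH (LK LD1_c8 LD2_c56 LD3_c47) (LK LD1_c16 LD2_c44 LD3_c57) Lrfl Lrfl
theorem f728032 : Led Lsl_at (LP (LK LD1_c19 LD2_c34 LD3_c9)) = (LP (LK LD1_c19 LD2_c43 LD3_c18)) :=
  Lgr Lrot33 (Lpr_ff (f728024 IH) (Lpr_dt (f281614 IH) (Lpr_ct (f281570 IH) (Lpe (K31.f392183 IH) (Lpr_ct (f392194 IH) (Lpr_dt (f392195 IH) (Lpr_ct (f392259 IH) (Lpr_dt (K31.f280762 IH) (Lpr_ct (f392213 IH) (Lpn (LP (LK LD1_c19 LD2_c43 LD3_c18))))))))))))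
theorem f728010 : Led Lsl_at (LP (LK LD1_c19 LD2_c33 LD3_c43)) = (LP (LK LD1_c19 LD2_c43 LD3_c26)) :=
  Lgr Lrot100 (Lpr_af (f728008 IH) (Lpn (LP (LK LD1_c19 LD2_c43 LD3_c26))))
theorem f728038 : Led Lsl_ff (LP (LK LD1_c19 LD2_c33 LD3_c43)) = (LP (LK LD1_c19 LD2_c43 LD3_c18)) :=
  Lgr Lrot30 (Lpr_at (f728010 IH) (Lpe (f728024 IH) (Lpr_at (f728032 IH) (Lpn (LP (LK LD1_c19 LD2_c43 LD3_c18))))))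
theorem f387750 : Led Lsl_dt (LP (LK LD1_c19 LD2_c33 LD3_c43)) = (LP (LK LD1_c10 LD2_c49 LD3_c21)) :=
  Lre_d IH (LK LD1_c19 LD2_c33 LD3_c43) (LK LD1_c10 LD2_c49 LD3_c21) Lrfl Lrfl
theorem f728042 : Led Lsl_ft (LP (LK LD1_c10 LD2_c49 LD3_c21)) = (LP (LK LD1_c10 LD2_c55 LD3_c4)) :=
  Lgr Lrot54 (Lpe (f387750 IH) (Lpr_ff (f728038 IH) (Lpe (f388345 IH) (Lpn (LP (LK LD1_c10 LD2_c55 LD3_c4))))))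
theorem f728051 : Led Lsl_ff (LP (LK LD1_c10 LD2_c49 LD3_c21)) = (LP (LK LD1_c10 LD2_c55 LD3_c4)) :=
  Lgr Lrot3 (Lpr_ft (f728042 IH) (Lpn (LP (LK LD1_c10 LD2_c55 LD3_c4))))
theorem f728057 : Led Lsl_ft (LP (LK LD1_c5 LD2_c29 LD3_c4)) = (LP (LK LD1_c5 LD2_c31 LD3_c40)) :=
  Lgr Lrot4 (Lpe (K31.f386503 IH) (Lpr_ff (f728051 IH) (Lpe (K14.f226025 IH) (Lpn (LP (LK LD1_c5 LD2_c31 LD3_c40))))))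
theorem f728059 : Led Lsl_ff (LP (LK LD1_c10 LD2_c49 LD3_c14)) = (LP (LK LD1_c10 LD2_c55 LD3_c3)) :=
  Lgr Lrot25 (Lpr_bt (K31.f387734 IH) (Lpr_ft (f728057 IH) (Lpr_bt (K30.f226118 IH) (Lpn (LP (LK LD1_c10 LD2_c55 LD3_c3))))))
theorem f728088 : Led Lsl_ft (LP (LK LD1_c16 LD2_c47 LD3_c24)) = (LP (LK LD1_c10 LD2_c59 LD3_c19)) :=
  Lgr Lrot4 (Lpe (K31.f387735 IH) (Lpr_ff (f728059 IH) (Lpr_cf (K41.f226121 IH) (Lpn (LP (LK LD1_c10 LD2_c59 LD3_c19))))))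
theorem f728092 : Led Lsl_af (LP (LK LD1_c16 LD2_c47 LD3_c23)) = (LP (LK LD1_c10 LD2_c59 LD3_c19)) :=
  Lgr Lrot31 (Lpe (f289604 IH) (Lpe (K31.f180407 IH) (Lpr_ft (f728088 IH) (Lpn (LP (LK LD1_c10 LD2_c59 LD3_c19))))))
theorem f388431 : Led Lsl_cf (LP (LK LD1_c17 LD2_c53 LD3_c35)) = (LP (LK LD1_c10 LD2_c59 LD3_c18)) :=
  Lgr Lrot11 (Lpr_ct (f388366 IH) (Lpn (LP (LK LD1_c10 LD2_c59 LD3_c18))))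
theorem f727803 : Led Lsl_ff (LP (LK LD1_c10 LD2_c59 LD3_c18)) = (LP (LK LD1_c16 LD2_c47 LD3_c23)) :=
  Lgr Lrot23 (Lpe (f388431 IH) (Lpe (f332420 IH) (Lpr_ct (f727797 IH) (Lpn (LP (LK LD1_c16 LD2_c47 LD3_c23))))))
theorem f728094 : Led Lsl_at (LP (LK LD1_c10 LD2_c59 LD3_c18)) = (LP (LK LD1_c16 LD2_c47 LD3_c24)) :=
  Lgr Lrot66 (Lpr_ff (f727803 IH) (Lpr_af (f728092 IH) (Lpe (f728088 IH) (Lpn (LP (LK LD1_c16 LD2_c47 LD3_c24))))))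
theorem f319845 : Led Lsl_dt (LP (LK LD1_c19 LD2_c50 LD3_c1)) = (LP (LK LD1_c10 LD2_c59 LD3_c18)) :=
  Lre_d IH (LK LD1_c19 LD2_c50 LD3_c1) (LK LD1_c10 LD2_c59 LD3_c18) Lrfl Lrfl
theorem f728098 : Led Lsl_af (LP (LK LD1_c19 LD2_c50 LD3_c1)) = (LP (LK LD1_c19 LD2_c52 LD3_c60)) :=
  Lgr Lrot117 (Lpr_dt (f319845 IH) (Lpr_at (f728094 IH) (Lpe (K54.f319818 IH) (Lpn (LP (LK LD1_c19 LD2_c52 LD3_c60))))))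
theorem f332719 : Led Lsl_dt (LP (LK LD1_c25 LD2_c49 LD3_c20)) = (LP (LK LD1_c15 LD2_c53 LD3_c14)) :=
  Lre_d IH (LK LD1_c25 LD2_c49 LD3_c20) (LK LD1_c15 LD2_c53 LD3_c14) Lrfl Lrfl
theorem f332738 : Led Lsl_bf (LP (LK LD1_c25 LD2_c49 LD3_c20)) = (LP (LK LD1_c19 LD2_c14 LD3_c32)) :=
  Lgr Lrot93 (Lpr_dt (f332719 IH) (Lpr_bt (K22.f332732 IH) (Lpr_dt (K45.f312114 IH) (Lpn (LP (LK LD1_c19 LD2_c14 LD3_c32))))))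
theorem f396715 : Led Lsl_bt (LP (LK LD1_c25 LD2_c49 LD3_c20)) = (LP (LK LD1_c19 LD2_c14 LD3_c32)) :=
  Lgr Lrot127 (Lpr_bf (f332738 IH) (Lpn (LP (LK LD1_c19 LD2_c14 LD3_c32))))
theorem f380473 : Led Lsl_bt (LP (LK LD1_c2 LD2_c46 LD3_c12)) = (LP (LK LD1_c5 LD2_c33 LD3_c40)) :=
  Lgr Lrot127 (Lpr_bf (K40.f380191 IH) (Lpn (LP (LK LD1_c5 LD2_c33 LD3_c40))))
theorem f319846 : Led Lsl_dt (LP (LK LD1_c10 LD2_c59 LD3_c18)) = (LP (LK LD1_c19 LD2_c50 LD3_c1)) :=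
  Lre_d IH (LK LD1_c10 LD2_c59 LD3_c18) (LK LD1_c19 LD2_c50 LD3_c1) Lrfl Lrfl
theorem f591165 : Led Lsl_cf (LP (LK LD1_c25 LD2_c49 LD3_c20)) = (LP (LK LD1_c19 LD2_c50 LD3_c1)) :=
  Lgr Lrot89 (Lpr_bt (f396715 IH) (Lpe (K45.f409937 IH) (Lpr_dt (K41.f331656 IH) (Lpr_ct (K45.f331655 IH) (Lpe (K22.f331652 IH) (Lpr_gt (K41.f331754 IH) (Lpe (K41.f397373 IH) (Lpr_ct (K47.f588296 IH) (Lpr_bt (K47.f591159 IH) (Lpe (K39.f551813 IH) (Lpr_dt (K39.f181307 IH) (Lpr_ct (K37.f181268 IH) (Lpr_bt (K37.f181267 IH) (Lpr_gt (K30.f181225 IH) (Lpr_dt (K30.f380161 IH) (Lpr_ct (K30.f226758 IH) (Lpr_bt (f380473 IH) (Lpr_gt (f174226 IH) (Lpr_dt (f319846 IH) (Lpn (LP (LK LD1_c19 LD2_c50 LD3_c1))))))))))))))))))))))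
theorem f727707 : Led Lsl_cf (LP (LK LD1_c19 LD2_c52 LD3_c60)) = (LP (LK LD1_c25 LD2_c14 LD3_c49)) :=
  Lgr Lrot11 (Lpr_ct (K54.f727705 IH) (Lpn (LP (LK LD1_c25 LD2_c14 LD3_c49))))
theorem f728102 : Led Lsl_at (LP (LK LD1_c25 LD2_c49 LD3_c20)) = (LP (LK LD1_c25 LD2_c14 LD3_c49)) :=
  Lgr Lrot107 (Lpr_cf (f591165 IH) (Lpr_af (f728098 IH) (Lpr_cf (f727707 IH) (Lpn (LP (LK LD1_c25 LD2_c14 LD3_c49))))))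
theorem f244560 : Led Lsl_df (LP (LK LD1_c5 LD2_c39 LD3_c5)) = (LP (LK LD1_c8 LD2_c10 LD3_c6)) :=
  Lgr Lrot12 (Lpr_bt (K22.f179325 IH) (Lpr_dt (K30.f244547 IH) (Lpr_bt (K30.f244053 IH) (Lpn (LP (LK LD1_c8 LD2_c10 LD3_c6))))))
theorem f244593 : Led Lsl_dt (LP (LK LD1_c25 LD2_c14 LD3_c57)) = (LP (LK LD1_c15 LD2_c22 LD3_c61)) :=
  Lre_d IH (LK LD1_c25 LD2_c14 LD3_c57) (LK LD1_c15 LD2_c22 LD3_c61) Lrfl Lrfl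
theorem f728108 : Led Lsl_ff (LP (LK LD1_c25 LD2_c49 LD3_c20)) = (LP (LK LD1_c25 LD2_c14 LD3_c57)) :=
  Lgr Lrot103 (Lpr_at (f728102 IH) (Lpe (K54.f727705 IH) (Lpr_df (K54.f319818 IH) (Lpe (K31.f387735 IH) (Lpe (K31.f179404 IH) (Lpr_cf (K31.f179328 IH) (Lpr_df (f244560 IH) (Lpe (K30.f199462 IH) (Lpe (f244593 IH) (Lpn (LP (LK LD1_c25 LD2_c14 LD3_c57))))))))))))
theorem f728116 : Led Lsl_ft (LP (LK LD1_c25 LD2_c49 LD3_c20)) = (LP (LK LD1_c25 LD2_c14 LD3_c57)) :=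
  Lgr Lrot48 (Lpr_ff (f728108 IH) (Lpn (LP (LK LD1_c25 LD2_c14 LD3_c57))))
theorem f332718 : Led Lsl_dt (LP (LK LD1_c15 LD2_c53 LD3_c14)) = (LP (LK LD1_c25 LD2_c49 LD3_c20)) :=
  Lre_d IH (LK LD1_c15 LD2_c53 LD3_c14) (LK LD1_c25 LD2_c49 LD3_c20) Lrfl Lrfl
theorem f728122 : Led Lsl_ff (LP (LK LD1_c15 LD2_c53 LD3_c14)) = (LP (LK LD1_c15 LD2_c22 LD3_c61)) :=
  Lgr Lrot19 (Lpr_dt (f332718 IH) (Lpr_ft (f728116 IH) (Lpr_dt (f244593 IH) (Lpn (LP (LK LD1_c15 LD2_c22 LD3_c61))))))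
theorem f244592 : Led Lsl_dt (LP (LK LD1_c15 LD2_c22 LD3_c61)) = (LP (LK LD1_c25 LD2_c14 LD3_c57)) :=
  Lre_d IH (LK LD1_c15 LD2_c22 LD3_c61) (LK LD1_c25 LD2_c14 LD3_c57) Lrfl Lrfl
theorem f418759 : Led Lsl_bt (LP (LK LD1_c20 LD2_c1 LD3_c25)) = (LP (LK LD1_c11 LD2_c7 LD3_c51)) :=
  Lre_b IH (LK LD1_c20 LD2_c1 LD3_c25) (LK LD1_c11 LD2_c7 LD3_c51) Lrfl Lrfl
theorem f565646 : Led Lsl_ct (LP (LK LD1_c13 LD2_c30 LD3_c37)) = (LP (LK LD1_c10 LD2_c36 LD3_c29)) :=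
  Lgr Lrot8 (Lpr_gt (K41.f565642 IH) (Lpe (K18.f210742 IH) (Lpr_gt (K38.f2987 IH) (Lpe (K38.f550011 IH) (Lpr_cf (K39.f550003 IH) (Lpe (K41.f168728 IH) (Lpe (K41.f168710 IH) (Lpr_df (K41.f400177 IH) (Lpe (K41.f400084 IH) (Lpn (LP (LK LD1_c10 LD2_c36 LD3_c29))))))))))))
theorem f312939 : Led Lsl_bf (LP (LK LD1_c5 LD2_c23 LD3_c1)) = (LP (LK LD1_c10 LD2_c31 LD3_c1)) :=
  Lgr Lrot24 (Lpr_bt (K54.f312928 IH) (Lpn (LP (LK LD1_c10 LD2_c31 LD3_c1))))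
theorem f312943 : Led Lsl_bt (LP (LK LD1_c10 LD2_c36 LD3_c29)) = (LP (LK LD1_c19 LD2_c3 LD3_c41)) :=
  Lgr Lrot95 (Lpe (K41.f312930 IH) (Lpr_bf (f312939 IH) (Lpe (K22.f312770 IH) (Lpn (LP (LK LD1_c19 LD2_c3 LD3_c41))))))
theorem f595632 : Led Lsl_cf (LP (LK LD1_c20 LD2_c1 LD3_c25)) = (LP (LK LD1_c16 LD2_c47 LD3_c50)) :=
  Lgr Lrot89 (Lpr_bt (f418759 IH) (Lpe (K52.f595630 IH) (Lpr_dt (K52.f595620 IH) (Lpe (K52.f595625 IH) (Lpr_bt (K52.f549813 IH) (Lpr_gt (K31.f411916 IH) (Lpr_dt (K16.f268840 IH) (Lpr_ct (K31.f268858 IH) (Lpe (K42.f556340 IH) (Lpr_gt (K41.f98098 IH) (Lpr_dt (K41.f98099 IH) (Lpr_ct (f565646 IH) (Lpr_bt (f312943 IH) (Lpe (K54.f312843 IH) (Lpr_dt (K54.f218432 IH) (Lpr_ct (K54.f218436 IH) (Lpr_bt (K20.f213006 IH) (Lpe (K50.f387831 IH) (Lpr_dt (K50.f379827 IH)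 (Lpn (LP (LK LD1_c16 LD2_c47 LD3_c50))))))))))))))))))))))
theorem f595636 : Led Lsl_ct (LP (LK LD1_c20 LD2_c1 LD3_c25)) = (LP (LK LD1_c16 LD2_c47 LD3_c50)) :=
  Lgr Lrot59 (Lpr_cf (f595632 IH) (Lpn (LP (LK LD1_c16 LD2_c47 LD3_c50))))
theorem f418747 : Led Lsl_bt (LP (LK LD1_c11 LD2_c7 LD3_c51)) = (LP (LK LD1_c20 LD2_c1 LD3_c25)) :=
  Lre_b IH (LK LD1_c11 LD2_c7 LD3_c51) (LK LD1_c20 LD2_c1 LD3_c25) Lrfl Lrfl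
theorem f380296 : Led Lsl_ct (LP (LK LD1_c5 LD2_c38 LD3_c16)) = (LP (LK LD1_c11 LD2_c7 LD3_c51)) :=
  Lre_c IH (LK LD1_c5 LD2_c38 LD3_c16) (LK LD1_c11 LD2_c7 LD3_c51) Lrfl Lrfl
theorem f319324 : Led Lsl_af (LP (LK LD1_c4 LD2_c30 LD3_c38)) = (LP (LK LD1_c2 LD2_c43 LD3_c16)) :=
  Lgr Lrot0 (Lpr_at (K20.f319322 IH) (Lpn (LP (LK LD1_c2 LD2_c43 LD3_c16))))
theorem f418716 : Led Lsl_ct (LP (LK LD1_c1 LD2_c18 LD3_c50)) = (LP (LK LD1_c2 LD2_c43 LD3_c16)) :=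
  Lgr Lrot111 (Lpe (K20.f319334 IH) (Lpr_cf (K56.f418710 IH) (Lpr_af (f319324 IH) (Lpn (LP (LK LD1_c2 LD2_c43 LD3_c16))))))
theorem f319337 : Led Lsl_bt (LP (LK LD1_c2 LD2_c45 LD3_c1)) = (LP (LK LD1_c1 LD2_c18 LD3_c50)) :=
  Lre_b IH (LK LD1_c2 LD2_c45 LD3_c1) (LK LD1_c1 LD2_c18 LD3_c50) Lrfl Lrfl
theorem f418719 : Led Lsl_ct (LP (LK LD1_c5 LD2_c38 LD3_c17)) = (LP (LK LD1_c2 LD2_c45 LD3_c1)) :=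
  Lre_c IH (LK LD1_c5 LD2_c38 LD3_c17) (LK LD1_c2 LD2_c45 LD3_c1) Lrfl Lrfl
theorem f319326 : Led Lsl_bt (LP (LK LD1_c2 LD2_c43 LD3_c16)) = (LP (LK LD1_c5 LD2_c34 LD3_c41)) :=
  Lre_b IH (LK LD1_c2 LD2_c43 LD3_c16) (LK LD1_c5 LD2_c34 LD3_c41) Lrfl Lrfl
theorem f418720 : Led Lsl_ct (LP (LK LD1_c5 LD2_c34 LD3_c41)) = (LP (LK LD1_c11 LD2_c1 LD3_c42)) :=
  Lre_c IH (LK LD1_c5 LD2_c34 LD3_c41) (LK LD1_c11 LD2_c1 LD3_c42) Lrfl Lrfl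
theorem f418721 : Led Lsl_bf (LP (LK LD1_c5 LD2_c38 LD3_c17)) = (LP (LK LD1_c11 LD2_c1 LD3_c42)) :=
  Lgr Lrot90 (Lpr_ct (f418719 IH) (Lpr_bt (f319337 IH) (Lpr_ct (f418716 IH) (Lpr_bt (f319326 IH) (Lpr_ct (f418720 IH) (Lpn (LP (LK LD1_c11 LD2_c1 LD3_c42))))))))
theorem f418736 : Led Lsl_et (LP (LK LD1_c5 LD2_c38 LD3_c17)) = (LP (LK LD1_c2 LD2_c45 LD3_c0)) :=
  Lre_e IH (LK LD1_c5 LD2_c38 LD3_c17) (LK LD1_c2 LD2_c45 LD3_c0) Lrfl Lrfl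
theorem f319832 : Led Lsl_et (LP (LK LD1_c5 LD2_c34 LD3_c40)) = (LP (LK LD1_c11 LD2_c1 LD3_c42)) :=
  Lre_e IH (LK LD1_c5 LD2_c34 LD3_c40) (LK LD1_c11 LD2_c1 LD3_c42) Lrfl Lrfl
theorem f418737 : Led Lsl_bt (LP (LK LD1_c2 LD2_c45 LD3_c0)) = (LP (LK LD1_c5 LD2_c34 LD3_c40)) :=
  Lgr Lrot119 (Lpe (f418736 IH) (Lpr_bf (f418721 IH) (Lpe (f319832 IH) (Lpn (LP (LK LD1_c5 LD2_c34 LD3_c40))))))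
theorem f171845 : Led Lsl_dt (LP (LK LD1_c5 LD2_c38 LD3_c16)) = (LP (LK LD1_c2 LD2_c45 LD3_c0)) :=
  Lre_d IH (LK LD1_c5 LD2_c38 LD3_c16) (LK LD1_c2 LD2_c45 LD3_c0) Lrfl Lrfl
theorem f418742 : Led Lsl_bf (LP (LK LD1_c5 LD2_c38 LD3_c16)) = (LP (LK LD1_c11 LD2_c1 LD3_c41)) :=
  Lgr Lrot93 (Lpr_dt (f171845 IH) (Lpr_bt (f418737 IH) (Lpr_dt (f172928 IH) (Lpn (LP (LK LD1_c11 LD2_c1 LD3_c41))))))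
theorem f595662 : Led Lsl_bf (LP (LK LD1_c19 LD2_c52 LD3_c61)) = (LP (LK LD1_c16 LD2_c47 LD3_c50)) :=
  Lgr Lrot90 (Lpr_ct (f354505 IH) (Lpe (f418742 IH) (Lpr_ct (f380296 IH) (Lpr_bt (f418747 IH) (Lpr_ct (f595636 IH) (Lpn (LP (LK LD1_c16 LD2_c47 LD3_c50))))))))
theorem f379810 : Led Lsl_dt (LP (LK LD1_c5 LD2_c32 LD3_c61)) = (LP (LK LD1_c10 LD2_c57 LD3_c49)) :=
  Lre_d IH (LK LD1_c5 LD2_c32 LD3_c61) (LK LD1_c10 LD2_c57 LD3_c49) Lrfl Lrfl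
theorem f379841 : Led Lsl_ff (LP (LK LD1_c16 LD2_c47 LD3_c50)) = (LP (LK LD1_c10 LD2_c57 LD3_c49)) :=
  Lgr Lrot19 (Lpr_dt (K38.f379840 IH) (Lpr_ft (K24.f379831 IH) (Lpr_dt (f379810 IH) (Lpn (LP (LK LD1_c10 LD2_c57 LD3_c49))))))
theorem f213737 : Led Lsl_bt (LP (LK LD1_c19 LD2_c47 LD3_c52)) = (LP (LK LD1_c10 LD2_c57 LD3_c49)) :=
  Lre_b IH (LK LD1_c19 LD2_c47 LD3_c52) (LK LD1_c10 LD2_c57 LD3_c49) Lrfl Lrfl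
theorem f595666 : Led Lsl_ft (LP (LK LD1_c19 LD2_c52 LD3_c61)) = (LP (LK LD1_c19 LD2_c47 LD3_c52)) :=
  Lgr Lrot75 (Lpr_bf (f595662 IH) (Lpr_ff (f379841 IH) (Lpe (f213737 IH) (Lpn (LP (LK LD1_c19 LD2_c47 LD3_c52))))))
theorem f387551 : Led Lsl_dt (LP (LK LD1_c10 LD2_c57 LD3_c48)) = (LP (LK LD1_c19 LD2_c47 LD3_c52)) :=
  Lre_d IH (LK LD1_c10 LD2_c57 LD3_c48) (LK LD1_c19 LD2_c47 LD3_c52) Lrfl Lrfl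
theorem f216388 : Led Lsl_dt (LP (LK LD1_c15 LD2_c53 LD3_c33)) = (LP (LK LD1_c8 LD2_c27 LD3_c51)) :=
  Lre_d IH (LK LD1_c15 LD2_c53 LD3_c33) (LK LD1_c8 LD2_c27 LD3_c51) Lrfl Lrfl
theorem f387918 : Led Lsl_at (LP (LK LD1_c19 LD2_c47 LD3_c52)) = (LP (LK LD1_c15 LD2_c53 LD3_c33)) :=
  Lgr Lrot51 (Lpe (f387551 IH) (Lpr_af (K30.f387916 IH) (Lpe (f216388 IH) (Lpn (LP (LK LD1_c15 LD2_c53 LD3_c33))))))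
theorem f199476 : Led Lsl_dt (LP (LK LD1_c15 LD2_c22 LD3_c50)) = (LP (LK LD1_c25 LD2_c14 LD3_c41)) :=
  Lre_d IH (LK LD1_c15 LD2_c22 LD3_c50) (LK LD1_c25 LD2_c14 LD3_c41) Lrfl Lrfl
theorem f387859 : Led Lsl_gt (LP (LK LD1_c25 LD2_c14 LD3_c41)) = (LP (LK LD1_c15 LD2_c53 LD3_c33)) :=
  Lgr Lrot49 (Lpe (f199476 IH) (Lpr_gf (K30.f199474 IH) (Lpe (K22.f332713 IH) (Lpr_gt (K30.f332710 IH) (Lpe (f244560 IH) (Lpr_gt (K22.f179303 IH) (Lpr_dt (K30.f387851 IH) (Lpe (K30.f216387 IH) (Lpe (f216388 IH) (Lpn (LP (LK LD1_c15 LD2_c53 LD3_c33))))))))))))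
theorem f595670 : Led Lsl_gt (LP (LK LD1_c19 LD2_c52 LD3_c61)) = (LP (LK LD1_c25 LD2_c14 LD3_c41)) :=
  Lgr Lrot5 (Lpr_ft (f595666 IH) (Lpr_at (f387918 IH) (Lpe (f387859 IH) (Lpn (LP (LK LD1_c25 LD2_c14 LD3_c41))))))
theorem f172929 : Led Lsl_gt (LP (LK LD1_c11 LD2_c1 LD3_c41)) = (LP (LK LD1_c19 LD2_c52 LD3_c59)) :=
  Lre_g IH (LK LD1_c11 LD2_c1 LD3_c41) (LK LD1_c19 LD2_c52 LD3_c59) Lrfl Lrfl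
theorem f199460 : Led Lsl_dt (LP (LK LD1_c25 LD2_c14 LD3_c41)) = (LP (LK LD1_c15 LD2_c22 LD3_c50)) :=
  Lre_d IH (LK LD1_c25 LD2_c14 LD3_c41) (LK LD1_c15 LD2_c22 LD3_c50) Lrfl Lrfl
theorem f199447 : Led Lsl_dt (LP (LK LD1_c8 LD2_c10 LD3_c1)) = (LP (LK LD1_c11 LD2_c3 LD3_c57)) :=
  Lgr Lrot60 (Lpr_ff (K30.f199433 IH) (Lpe (f199394 IH) (Lpe (f199387 IH) (Lpn (LP (LK LD1_c11 LD2_c3 LD3_c57))))))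
theorem f595672 : Led Lsl_dt (LP (LK LD1_c19 LD2_c52 LD3_c59)) = (LP (LK LD1_c16 LD2_c47 LD3_c23)) :=
  Lgr Lrot57 (Lpe (f172929 IH) (Lpe (f354505 IH) (Lpr_gt (f595670 IH) (Lpr_dt (f199460 IH) (Lpr_gt (K22.f199459 IH) (Lpr_dt (f199447 IH) (Lpe (K22.f332687 IH) (Lpe (K22.f238483 IH) (Lpe (f402546 IH) (Lpn (LP (LK LD1_c16 LD2_c47 LD3_c23))))))))))))
theorem f595674 : Led Lsl_df (LP (LK LD1_c19 LD2_c52 LD3_c59)) = (LP (LK LD1_c16 LD2_c47 LD3_c23)) :=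
  Lgr Lrot38 (Lpr_dt (f595672 IH) (Lpn (LP (LK LD1_c16 LD2_c47 LD3_c23))))
theorem f174824 : Led Lsl_dt (LP (LK LD1_c9 LD2_c3 LD3_c2)) = (LP (LK LD1_c4 LD2_c32 LD3_c53)) :=
  Lre_d IH (LK LD1_c9 LD2_c3 LD3_c2) (LK LD1_c4 LD2_c32 LD3_c53) Lrfl Lrfl
theorem f591163 : Led Lsl_bf (LP (LK LD1_c16 LD2_c24 LD3_c27)) = (LP (LK LD1_c11 LD2_c6 LD3_c17)) :=
  Lgr Lrot24 (Lpr_bt (K47.f591159 IH) (Lpn (LP (LK LD1_c11 LD2_c6 LD3_c17))))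
theorem f552551 : Led Lsl_ff (LP (LK LD1_c11 LD2_c6 LD3_c17)) = (LP (LK LD1_c16 LD2_c22 LD3_c6)) :=
  Lgr Lrot30 (Lpe (K47.f551815 IH) (Lpr_ft (K39.f547321 IH) (Lpr_at (K39.f552542 IH) (Lpn (LP (LK LD1_c16 LD2_c22 LD3_c6))))))
theorem f591173 : Led Lsl_bf (LP (LK LD1_c16 LD2_c22 LD3_c6)) = (LP (LK LD1_c21 LD2_c15 LD3_c1)) :=
  Lgr Lrot61 (Lpe (f552551 IH) (Lpe (f591163 IH) (Lpr_ft (K47.f591171 IH) (Lpn (LP (LK LD1_c21 LD2_c15 LD3_c1))))))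
theorem f338091 : Led Lsl_bf (LP (LK LD1_c18 LD2_c2 LD3_c41)) = (LP (LK LD1_c17 LD2_c51 LD3_c47)) :=
  Lgr Lrot24 (Lpr_bt (K41.f338077 IH) (Lpn (LP (LK LD1_c17 LD2_c51 LD3_c47))))
theorem f338103 : Led Lsl_bt (LP (LK LD1_c10 LD2_c31 LD3_c33)) = (LP (LK LD1_c5 LD2_c24 LD3_c12)) :=
  Lgr Lrot128 (Lpe (K22.f235169 IH) (Lpr_bf (f338091 IH) (Lpe (K27.f331695 IH) (Lpr_bf (K22.f331574 IH) (Lpe (K22.f331719 IH) (Lpn (LP (LK LD1_c5 LD2_c24 LD3_c12))))))))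
theorem f277908 : Led Lsl_bt (LP (LK LD1_c19 LD2_c3 LD3_c21)) = (LP (LK LD1_c15 LD2_c22 LD3_c61)) :=
  Lgr Lrot127 (Lpr_bf (K30.f277906 IH) (Lpn (LP (LK LD1_c15 LD2_c22 LD3_c61))))
theorem f390286 : Led Lsl_bt (LP (LK LD1_c25 LD2_c14 LD3_c57)) = (LP (LK LD1_c19 LD2_c18 LD3_c24)) :=
  Lgr Lrot95 (Lpe (f244592 IH) (Lpe (f277908 IH) (Lpr_df (K38.f390284 IH) (Lpn (LP (LK LD1_c19 LD2_c18 LD3_c24))))))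
theorem f595676 : Led Lsl_ct (LP (LK LD1_c19 LD2_c52 LD3_c59)) = (LP (LK LD1_c25 LD2_c14 LD3_c57)) :=
  Lgr Lrot191 (Lpr_df (f595674 IH) (Lpe (f289604 IH) (Lpe (K40.f380050 IH) (Lpe (K30.f174835 IH) (Lpe (K30.f174832 IH) (Lpe (K10.f174831 IH) (Lpe (K10.f174840 IH) (Lpe (K10.f174812 IH) (Lpe (f174824 IH) (Lpe (K39.f553416 IH) (Lpr_bf (f591173 IH) (Lpr_cf (K47.f591480 IH) (Lpe (K41.f400175 IH) (Lpr_gf (K41.f370105 IH) (Lpe (f338103 IH) (Lpe (K22.f235169 IH) (Lpe (K38.f235184 IH) (Lpe (K38.f338226 IH) (Lpe (f390286 IH) (Lpn (LP (LK LD1_c25 LD2_c14 LD3_c57))))))))))))))))))))))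
theorem f595678 : Led Lsl_cf (LP (LK LD1_c19 LD2_c52 LD3_c59)) = (LP (LK LD1_c25 LD2_c14 LD3_c57)) :=
  Lgr Lrot11 (Lpr_ct (f595676 IH) (Lpn (LP (LK LD1_c25 LD2_c14 LD3_c57))))
theorem f727801 : Led Lsl_cf (LP (LK LD1_c19 LD2_c43 LD3_c15)) = (LP (LK LD1_c16 LD2_c47 LD3_c23)) :=
  Lgr Lrot11 (Lpr_ct (f727797 IH) (Lpn (LP (LK LD1_c16 LD2_c47 LD3_c23))))
theorem f391466 : Led Lsl_df (LP (LK LD1_c8 LD2_c10 LD3_c5)) = (LP (LK LD1_c5 LD2_c39 LD3_c4)) :=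
  Lgr Lrot153 (Lpr_gt (K54.f391462 IH) (Lpr_dt (K22.f238472 IH) (Lpe (K31.f238488 IH) (Lpe (K30.f238489 IH) (Lpe (K31.f387638 IH) (Lpe (f171868 IH) (Lpe (K22.f171867 IH) (Lpe (K20.f179300 IH) (Lpr_gt (K31.f178141 IH) (Lpn (LP (LK LD1_c5 LD2_c39 LD3_c4))))))))))))
theorem f223685 : Led Lsl_ct (LP (LK LD1_c8 LD2_c10 LD3_c5)) = (LP (LK LD1_c15 LD2_c22 LD3_c58)) :=
  Lre_c IH (LK LD1_c8 LD2_c10 LD3_c5) (LK LD1_c15 LD2_c22 LD3_c58) Lrfl Lrfl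
theorem f728128 : Led Lsl_at (LP (LK LD1_c15 LD2_c53 LD3_c14)) = (LP (LK LD1_c15 LD2_c22 LD3_c58)) :=
  Lgr Lrot33 (Lpr_ff (f728122 IH) (Lpr_dt (f244592 IH) (Lpe (f595678 IH) (Lpr_dt (f595672 IH) (Lpe (f727801 IH) (Lpr_dt (f727811 IH) (Lpr_ct (f178142 IH) (Lpe (f391466 IH) (Lpr_ct (f223685 IH) (Lpn (LP (LK LD1_c15 LD2_c22 LD3_c58))))))))))))
theorem f728130 : Led Lsl_af (LP (LK LD1_c8 LD2_c27 LD3_c37)) = (LP (LK LD1_c8 LD2_c10 LD3_c5)) :=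
  Lgr Lrot68 (Lpr_ct (K30.f238463 IH) (Lpr_at (f728128 IH) (Lpr_ct (K31.f244015 IH) (Lpn (LP (LK LD1_c8 LD2_c10 LD3_c5))))))
theorem f727813 : Led Lsl_df (LP (LK LD1_c17 LD2_c53 LD3_c35)) = (LP (LK LD1_c10 LD2_c49 LD3_c13)) :=
  Lgr Lrot78 (Lpe (f332420 IH) (Lpr_dt (f727811 IH) (Lpr_ft (K54.f388126 IH) (Lpn (LP (LK LD1_c10 LD2_c49 LD3_c13))))))
theorem f728139 : Led Lsl_ft (LP (LK LD1_c8 LD2_c27 LD3_c36)) = (LP (LK LD1_c8 LD2_c10 LD3_c5)) :=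
  Lgr Lrot2 (Lpr_gt (K30.f396727 IH) (Lpe (K22.f332716 IH) (Lpr_af (f728130 IH) (Lpn (LP (LK LD1_c8 LD2_c10 LD3_c5))))))
theorem f382962 : Led Lsl_et (LP (LK LD1_c29 LD2_c9 LD3_c48)) = (LP (LK LD1_c19 LD2_c54 LD3_c12)) :=
  Lre_e IH (LK LD1_c29 LD2_c9 LD3_c48) (LK LD1_c19 LD2_c54 LD3_c12) Lrfl Lrfl
theorem f382963 : Led Lsl_et (LP (LK LD1_c26 LD2_c4 LD3_c43)) = (LP (LK LD1_c32 LD2_c4 LD3_c0)) :=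
  Lre_e IH (LK LD1_c26 LD2_c4 LD3_c43) (LK LD1_c32 LD2_c4 LD3_c0) Lrfl Lrfl
theorem f382964 : Led Lsl_cf (LP (LK LD1_c29 LD2_c9 LD3_c48)) = (LP (LK LD1_c32 LD2_c4 LD3_c0)) :=
  Lgr Lrot39 (Lpr_et (f382962 IH) (Lpr_ct (K30.f382954 IH) (Lpr_et (f382963 IH) (Lpn (LP (LK LD1_c32 LD2_c4 LD3_c0))))))
theorem f382972 : Led Lsl_ct (LP (LK LD1_c29 LD2_c9 LD3_c48)) = (LP (LK LD1_c32 LD2_c4 LD3_c0)) :=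
  Lgr Lrot59 (Lpr_cf (f382964 IH) (Lpn (LP (LK LD1_c32 LD2_c4 LD3_c0))))
theorem f382977 : Led Lsl_bt (LP (LK LD1_c19 LD2_c54 LD3_c14)) = (LP (LK LD1_c29 LD2_c9 LD3_c48)) :=
  Lre_b IH (LK LD1_c19 LD2_c54 LD3_c14) (LK LD1_c29 LD2_c9 LD3_c48) Lrfl Lrfl
theorem f382974 : Led Lsl_bt (LP (LK LD1_c32 LD2_c4 LD3_c0)) = (LP (LK LD1_c26 LD2_c4 LD3_c45)) :=
  Lre_b IH (LK LD1_c32 LD2_c4 LD3_c0) (LK LD1_c26 LD2_c4 LD3_c45) Lrfl Lrfl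
theorem f382978 : Led Lsl_ct (LP (LK LD1_c26 LD2_c4 LD3_c45)) = (LP (LK LD1_c16 LD2_c8 LD3_c12)) :=
  Lre_c IH (LK LD1_c26 LD2_c4 LD3_c45) (LK LD1_c16 LD2_c8 LD3_c12) Lrfl Lrfl
theorem f382979 : Led Lsl_bt (LP (LK LD1_c16 LD2_c8 LD3_c12)) = (LP (LK LD1_c26 LD2_c4 LD3_c40)) :=
  Lre_b IH (LK LD1_c16 LD2_c8 LD3_c12) (LK LD1_c26 LD2_c4 LD3_c40) Lrfl Lrfl
theorem f382980 : Led Lsl_cf (LP (LK LD1_c19 LD2_c54 LD3_c14)) = (LP (LK LD1_c26 LD2_c4 LD3_c40)) :=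
  Lgr Lrot97 (Lpr_bt (f382977 IH) (Lpr_ct (f382972 IH) (Lpr_bt (f382974 IH) (Lpr_ct (f382978 IH) (Lpr_bt (f382979 IH) (Lpn (LP (LK LD1_c26 LD2_c4 LD3_c40))))))))
theorem f199472 : Led Lsl_et (LP (LK LD1_c19 LD2_c54 LD3_c14)) = (LP (LK LD1_c11 LD2_c2 LD3_c46)) :=
  Lre_e IH (LK LD1_c19 LD2_c54 LD3_c14) (LK LD1_c11 LD2_c2 LD3_c46) Lrfl Lrfl
theorem f381100 : Led Lsl_et (LP (LK LD1_c16 LD2_c8 LD3_c10)) = (LP (LK LD1_c26 LD2_c4 LD3_c40)) :=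
  Lre_e IH (LK LD1_c16 LD2_c8 LD3_c10) (LK LD1_c26 LD2_c4 LD3_c40) Lrfl Lrfl
theorem f382983 : Led Lsl_ct (LP (LK LD1_c11 LD2_c2 LD3_c46)) = (LP (LK LD1_c16 LD2_c8 LD3_c10)) :=
  Lgr Lrot15 (Lpe (f199472 IH) (Lpr_cf (f382980 IH) (Lpe (f381100 IH) (Lpn (LP (LK LD1_c16 LD2_c8 LD3_c10))))))
theorem f270937 : Led Lsl_bt (LP (LK LD1_c15 LD2_c47 LD3_c59)) = (LP (LK LD1_c8 LD2_c24 LD3_c11)) :=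
  Lre_b IH (LK LD1_c15 LD2_c47 LD3_c59) (LK LD1_c8 LD2_c24 LD3_c11) Lrfl Lrfl
theorem f381081 : Led Lsl_dt (LP (LK LD1_c8 LD2_c36 LD3_c47)) = (LP (LK LD1_c8 LD2_c7 LD3_c56)) :=
  Lgr Lrot182 (Lpe (K30.f216328 IH) (Lpe (K31.f216327 IH) (Lpe (K12.f200714 IH) (Lpe (K12.f180101 IH) (Lpr_gf (K12.f216309 IH) (Lpe (K12.f27963 IH) (Lpe (K12.f28121 IH) (Lpe (K12.f50142 IH) (Lpe (K12.f51409 IH) (Lpe (K16.f53371 IH) (Lpe (K16.f270925 IH) (Lpe (K16.f270930 IH) (Lpr_gf (K16.f270933 IH) (Lpe (f270937 IH) (Lpr_cf (K30.f381079 IH) (Lpe (K30.f289558 IH) (Lpe (K30.f319271 IH) (Lpr_bf (K30.f319265 IH) (Lpe (K30.f227116 IH) (Lpn (LP (LK LD1_c8 LD2_c7 LD3_c56))))))))))))))))))))))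
theorem f228159 : Led Lsl_bt (LP (LK LD1_c16 LD2_c8 LD3_c10)) = (LP (LK LD1_c8 LD2_c36 LD3_c47)) :=
  Lre_b IH (LK LD1_c16 LD2_c8 LD3_c10) (LK LD1_c8 LD2_c36 LD3_c47) Lrfl Lrfl
theorem f381083 : Led Lsl_df (LP (LK LD1_c16 LD2_c8 LD3_c10)) = (LP (LK LD1_c9 LD2_c0 LD3_c0)) :=
  Lgr Lrot12 (Lpr_bt (f228159 IH) (Lpr_dt (f381081 IH) (Lpe (K30.f319221 IH) (Lpn (LP (LK LD1_c9 LD2_c0 LD3_c0))))))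
theorem f396731 : Led Lsl_dt (LP (LK LD1_c8 LD2_c27 LD3_c36)) = (LP (LK LD1_c8 LD2_c9 LD3_c45)) :=
  Lgr Lrot6 (Lpr_gt (K30.f396727 IH) (Lpr_ct (K41.f199453 IH) (Lpr_gt (K30.f199467 IH) (Lpr_ct (f382983 IH) (Lpr_df (f381083 IH) (Lpe (K31.f319216 IH) (Lpr_gf (K30.f354515 IH) (Lpe (K30.f179490 IH) (Lpe (K38.f314870 IH) (Lpn (LP (LK LD1_c8 LD2_c9 LD3_c45))))))))))))
theorem f728141 : Led Lsl_cf (LP (LK LD1_c10 LD2_c49 LD3_c13)) = (LP (LK LD1_c8 LD2_c9 LD3_c45)) :=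
  Lgr Lrot118 (Lpe (f727813 IH) (Lpr_ct (f388366 IH) (Lpr_dt (f319846 IH) (Lpe (f591165 IH) (Lpr_dt (f332719 IH) (Lpr_ct (K22.f238464 IH) (Lpr_af (f728130 IH) (Lpe (f728139 IH) (Lpr_dt (f396731 IH) (Lpn (LP (LK LD1_c8 LD2_c9 LD3_c45))))))))))))
theorem f332453 : Led Lsl_gt (LP (LK LD1_c5 LD2_c31 LD3_c33)) = (LP (LK LD1_c4 LD2_c56 LD3_c17)) :=
  Lgr Lrot46 (Lpe (K22.f218371 IH) (Lpr_ft (K30.f332444 IH) (Lpr_at (K30.f332446 IH) (Lpn (LP (LK LD1_c4 LD2_c56 LD3_c17))))))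
theorem f728151 : Led Lsl_df (LP (LK LD1_c10 LD2_c49 LD3_c13)) = (LP (LK LD1_c17 LD2_c53 LD3_c35)) :=
  Lgr Lrot84 (Lpr_cf (f728141 IH) (Lpe (f396731 IH) (Lpe (K30.f238465 IH) (Lpr_df (K22.f238459 IH) (Lpe (K20.f220920 IH) (Lpe (K22.f218378 IH) (Lpr_gt (f332453 IH) (Lpr_dt (f168813 IH) (Lpr_gt (f332417 IH) (Lpn (LP (LK LD1_c17 LD2_c53 LD3_c35))))))))))))
theorem f728147 : Led Lsl_ct (LP (LK LD1_c10 LD2_c49 LD3_c13)) = (LP (LK LD1_c8 LD2_c9 LD3_c45)) :=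
  Lgr Lrot59 (Lpr_cf (f728141 IH) (Lpn (LP (LK LD1_c8 LD2_c9 LD3_c45))))
theorem f396729 : Led Lsl_df (LP (LK LD1_c8 LD2_c27 LD3_c36)) = (LP (LK LD1_c8 LD2_c9 LD3_c45)) :=
  Lgr Lrot153 (Lpr_gt (K30.f396727 IH) (Lpr_dt (K24.f379786 IH) (Lpe (K24.f379797 IH) (Lpe (K30.f319789 IH) (Lpr_gf (K22.f319786 IH) (Lpr_df (K41.f388354 IH) (Lpe (K30.f167850 IH) (Lpe (K31.f247329 IH) (Lpr_gt (K38.f223738 IH) (Lpn (LP (LK LD1_c8 LD2_c9 LD3_c45))))))))))))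
theorem f591167 : Led Lsl_ct (LP (LK LD1_c25 LD2_c49 LD3_c20)) = (LP (LK LD1_c19 LD2_c50 LD3_c1)) :=
  Lgr Lrot59 (Lpr_cf (f591165 IH) (Lpn (LP (LK LD1_c19 LD2_c50 LD3_c1))))
theorem f728114 : Led Lsl_ft (LP (LK LD1_c15 LD2_c53 LD3_c14)) = (LP (LK LD1_c15 LD2_c22 LD3_c61)) :=
  Lgr Lrot54 (Lpe (f332719 IH) (Lpr_ff (f728108 IH) (Lpe (f244592 IH) (Lpn (LP (LK LD1_c15 LD2_c22 LD3_c61))))))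
theorem f728170 : Led Lsl_af (LP (LK LD1_c15 LD2_c53 LD3_c11)) = (LP (LK LD1_c15 LD2_c22 LD3_c61)) :=
  Lgr Lrot109 (Lpe (K30.f238466 IH) (Lpr_df (f396729 IH) (Lpe (f728147 IH) (Lpr_df (f728151 IH) (Lpr_cf (f388431 IH) (Lpe (f319845 IH) (Lpe (f591167 IH) (Lpe (f332718 IH) (Lpr_ft (f728114 IH) (Lpn (LP (LK LD1_c15 LD2_c22 LD3_c61))))))))))))
theorem f728106 : Led Lsl_af (LP (LK LD1_c15 LD2_c53 LD3_c14)) = (LP (LK LD1_c15 LD2_c22 LD3_c58)) :=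
  Lgr Lrot117 (Lpr_dt (f332718 IH) (Lpr_at (f728102 IH) (Lpr_dt (K54.f387865 IH) (Lpn (LP (LK LD1_c15 LD2_c22 LD3_c58))))))
theorem f728179 : Led Lsl_ft (LP (LK LD1_c15 LD2_c53 LD3_c11)) = (LP (LK LD1_c15 LD2_c22 LD3_c58)) :=
  Lgr Lrot101 (Lpr_af (f728170 IH) (Lpe (f728114 IH) (Lpr_af (f728106 IH) (Lpn (LP (LK LD1_c15 LD2_c22 LD3_c58))))))
theorem f728183 : Led Lsl_ff (LP (LK LD1_c8 LD2_c27 LD3_c36)) = (LP (LK LD1_c8 LD2_c10 LD3_c5)) :=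
  Lgr Lrot23 (Lpr_ct (K30.f238466 IH) (Lpr_ft (f728179 IH) (Lpr_ct (K31.f244015 IH) (Lpn (LP (LK LD1_c8 LD2_c10 LD3_c5))))))
theorem f401309 : Led Lsl_et (LP (LK LD1_c8 LD2_c27 LD3_c36)) = (LP (LK LD1_c15 LD2_c53 LD3_c12)) :=
  Lre_e IH (LK LD1_c8 LD2_c27 LD3_c36) (LK LD1_c15 LD2_c53 LD3_c12) Lrfl Lrfl
theorem f728200 : Led Lsl_ft (LP (LK LD1_c15 LD2_c53 LD3_c12)) = (LP (LK LD1_c25 LD2_c49 LD3_c15)) :=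
  Lre_f IH (LK LD1_c15 LD2_c53 LD3_c12) (LK LD1_c25 LD2_c49 LD3_c15) Lrfl Lrfl
theorem f391474 : Led Lsl_et (LP (LK LD1_c15 LD2_c22 LD3_c59)) = (LP (LK LD1_c8 LD2_c10 LD3_c5)) :=
  Lre_e IH (LK LD1_c15 LD2_c22 LD3_c59) (LK LD1_c8 LD2_c10 LD3_c5) Lrfl Lrfl
theorem f728201 : Led Lsl_ft (LP (LK LD1_c25 LD2_c14 LD3_c53)) = (LP (LK LD1_c15 LD2_c22 LD3_c59)) :=
  Lre_f IH (LK LD1_c25 LD2_c14 LD3_c53) (LK LD1_c15 LD2_c22 LD3_c59) Lrfl Lrfl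
theorem f728202 : Led Lsl_et (LP (LK LD1_c25 LD2_c49 LD3_c15)) = (LP (LK LD1_c25 LD2_c14 LD3_c53)) :=
  Lgr Lrot69 (Lpe (f728200 IH) (Lpe (f401309 IH) (Lpr_ff (f728183 IH) (Lpe (f391474 IH) (Lpe (f728201 IH) (Lpn (LP (LK LD1_c25 LD2_c14 LD3_c53))))))))
theorem f728208 : Led Lsl_ef (LP (LK LD1_c25 LD2_c49 LD3_c15)) = (LP (LK LD1_c25 LD2_c14 LD3_c53)) :=
  Lgr Lrot88 (Lpr_et (f728202 IH) (Lpn (LP (LK LD1_c25 LD2_c14 LD3_c53))))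
theorem f243693 : Led Lsl_bt (LP (LK LD1_c25 LD2_c49 LD3_c15)) = (LP (LK LD1_c32 LD2_c0 LD3_c7)) :=
  Lre_b IH (LK LD1_c25 LD2_c49 LD3_c15) (LK LD1_c32 LD2_c0 LD3_c7) Lrfl Lrfl
theorem f728210 : Led Lsl_bt (LP (LK LD1_c31 LD2_c49 LD3_c40)) = (LP (LK LD1_c25 LD2_c14 LD3_c53)) :=
  Lre_b IH (LK LD1_c31 LD2_c49 LD3_c40) (LK LD1_c25 LD2_c14 LD3_c53) Lrfl Lrfl
theorem f728211 : Led Lsl_et (LP (LK LD1_c32 LD2_c0 LD3_c7)) = (LP (LK LD1_c31 LD2_c49 LD3_c40)) :=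
  Lgr Lrot74 (Lpe (f243693 IH) (Lpr_ef (f728208 IH) (Lpe (f728210 IH) (Lpn (LP (LK LD1_c31 LD2_c49 LD3_c40))))))
theorem f243687 : Led Lsl_ft (LP (LK LD1_c25 LD2_c49 LD3_c9)) = (LP (LK LD1_c32 LD2_c0 LD3_c7)) :=
  Lre_f IH (LK LD1_c25 LD2_c49 LD3_c9) (LK LD1_c32 LD2_c0 LD3_c7) Lrfl Lrfl
theorem f243702 : Led Lsl_et (LP (LK LD1_c15 LD2_c53 LD3_c10)) = (LP (LK LD1_c25 LD2_c49 LD3_c9)) :=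
  Lre_e IH (LK LD1_c15 LD2_c53 LD3_c10) (LK LD1_c25 LD2_c49 LD3_c9) Lrfl Lrfl
theorem f244036 : Led Lsl_ft (LP (LK LD1_c31 LD2_c49 LD3_c40)) = (LP (LK LD1_c25 LD2_c14 LD3_c47)) :=
  Lre_f IH (LK LD1_c31 LD2_c49 LD3_c40) (LK LD1_c25 LD2_c14 LD3_c47) Lrfl Lrfl
theorem f244020 : Led Lsl_et (LP (LK LD1_c25 LD2_c14 LD3_c47)) = (LP (LK LD1_c15 LD2_c22 LD3_c57)) :=
  Lre_e IH (LK LD1_c25 LD2_c14 LD3_c47) (LK LD1_c15 LD2_c22 LD3_c57) Lrfl Lrfl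
theorem f728216 : Led Lsl_ff (LP (LK LD1_c15 LD2_c53 LD3_c10)) = (LP (LK LD1_c15 LD2_c22 LD3_c57)) :=
  Lgr Lrot72 (Lpr_et (f243702 IH) (Lpr_ft (f243687 IH) (Lpr_et (f728211 IH) (Lpr_ft (f244036 IH) (Lpr_et (f244020 IH) (Lpn (LP (LK LD1_c15 LD2_c22 LD3_c57))))))))
theorem f227131 : Led Lsl_gt (LP (LK LD1_c15 LD2_c21 LD3_c18)) = (LP (LK LD1_c25 LD2_c12 LD3_c37)) :=
  Lre_g IH (LK LD1_c15 LD2_c21 LD3_c18) (LK LD1_c25 LD2_c12 LD3_c37) Lrfl Lrfl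
theorem f728222 : Led Lsl_at (LP (LK LD1_c15 LD2_c53 LD3_c10)) = (LP (LK LD1_c25 LD2_c12 LD3_c37)) :=
  Lgr Lrot26 (Lpr_ff (f728216 IH) (Lpr_gt (K64.f393088 IH) (Lpr_gt (f227131 IH) (Lpn (LP (LK LD1_c25 LD2_c12 LD3_c37))))))
theorem f243678 : Led Lsl_et (LP (LK LD1_c25 LD2_c49 LD3_c9)) = (LP (LK LD1_c15 LD2_c53 LD3_c10)) :=
  Lre_e IH (LK LD1_c25 LD2_c49 LD3_c9) (LK LD1_c15 LD2_c53 LD3_c10) Lrfl Lrfl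
theorem f374754 : Led Lsl_et (LP (LK LD1_c25 LD2_c12 LD3_c37)) = (LP (LK LD1_c31 LD2_c48 LD3_c57)) :=
  Lre_e IH (LK LD1_c25 LD2_c12 LD3_c37) (LK LD1_c31 LD2_c48 LD3_c57) Lrfl Lrfl
theorem f728230 : Led Lsl_af (LP (LK LD1_c25 LD2_c49 LD3_c9)) = (LP (LK LD1_c31 LD2_c48 LD3_c57)) :=
  Lgr Lrot50 (Lpr_et (f243678 IH) (Lpr_at (f728222 IH) (Lpr_et (f374754 IH) (Lpn (LP (LK LD1_c31 LD2_c48 LD3_c57))))))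
theorem f243679 : Led Lsl_et (LP (LK LD1_c15 LD2_c18 LD3_c33)) = (LP (LK LD1_c25 LD2_c9 LD3_c17)) :=
  Lre_e IH (LK LD1_c15 LD2_c18 LD3_c33) (LK LD1_c25 LD2_c9 LD3_c17) Lrfl Lrfl
theorem f243680 : Led Lsl_cf (LP (LK LD1_c25 LD2_c49 LD3_c9)) = (LP (LK LD1_c25 LD2_c9 LD3_c17)) :=
  Lgr Lrot39 (Lpr_et (f243678 IH) (Lpr_ct (K30.f243663 IH) (Lpr_et (f243679 IH) (Lpn (LP (LK LD1_c25 LD2_c9 LD3_c17))))))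
theorem f243684 : Led Lsl_ct (LP (LK LD1_c25 LD2_c49 LD3_c9)) = (LP (LK LD1_c25 LD2_c9 LD3_c17)) :=
  Lgr Lrot59 (Lpr_cf (f243680 IH) (Lpn (LP (LK LD1_c25 LD2_c9 LD3_c17))))
theorem f374739 : Led Lsl_cf (LP (LK LD1_c15 LD2_c41 LD3_c53)) = (LP (LK LD1_c25 LD2_c12 LD3_c37)) :=
  Lgr Lrot169 (Lpe (K38.f292302 IH) (Lpr_ct (K17.f227180 IH) (Lpe (K17.f227159 IH) (Lpe (K31.f227174 IH) (Lpr_gf (K31.f292225 IH) (Lpr_cf (K31.f374735 IH) (Lpe (K31.f233907 IH) (Lpe (K30.f227115 IH) (Lpr_gt (f227131 IH) (Lpn (LP (LK LD1_c25 LD2_c12 LD3_c37))))))))))))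
theorem f374747 : Led Lsl_et (LP (LK LD1_c15 LD2_c41 LD3_c53)) = (LP (LK LD1_c25 LD2_c37 LD3_c29)) :=
  Lre_e IH (LK LD1_c15 LD2_c41 LD3_c53) (LK LD1_c25 LD2_c37 LD3_c29) Lrfl Lrfl
theorem f374748 : Led Lsl_et (LP (LK LD1_c31 LD2_c48 LD3_c57)) = (LP (LK LD1_c25 LD2_c12 LD3_c37)) :=
  Lre_e IH (LK LD1_c31 LD2_c48 LD3_c57) (LK LD1_c25 LD2_c12 LD3_c37) Lrfl Lrfl
theorem f374749 : Led Lsl_ct (LP (LK LD1_c25 LD2_c37 LD3_c29)) = (LP (LK LD1_c31 LD2_c48 LD3_c57)) :=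
  Lgr Lrot15 (Lpe (f374747 IH) (Lpr_cf (f374739 IH) (Lpe (f374748 IH) (Lpn (LP (LK LD1_c31 LD2_c48 LD3_c57))))))
theorem f728234 : Led Lsl_at (LP (LK LD1_c25 LD2_c9 LD3_c17)) = (LP (LK LD1_c25 LD2_c37 LD3_c29)) :=
  Lgr Lrot107 (Lpe (f243684 IH) (Lpr_af (f728230 IH) (Lpe (f374749 IH) (Lpn (LP (LK LD1_c25 LD2_c37 LD3_c29))))))
theorem f728236 : Led Lsl_af (LP (LK LD1_c25 LD2_c9 LD3_c17)) = (LP (LK LD1_c25 LD2_c37 LD3_c29)) :=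
  Lgr Lrot0 (Lpr_at (f728234 IH) (Lpn (LP (LK LD1_c25 LD2_c37 LD3_c29))))
theorem f243703 : Led Lsl_et (LP (LK LD1_c25 LD2_c9 LD3_c17)) = (LP (LK LD1_c15 LD2_c18 LD3_c33)) :=
  Lre_e IH (LK LD1_c25 LD2_c9 LD3_c17) (LK LD1_c15 LD2_c18 LD3_c33) Lrfl Lrfl
theorem f728242 : Led Lsl_at (LP (LK LD1_c15 LD2_c18 LD3_c33)) = (LP (LK LD1_c15 LD2_c41 LD3_c53)) :=
  Lgr Lrot80 (Lpe (f243703 IH) (Lpr_af (f728236 IH) (Lpe (f374747 IH) (Lpn (LP (LK LD1_c15 LD2_c41 LD3_c53))))))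
theorem f728246 : Led Lsl_ff (LP (LK LD1_c15 LD2_c18 LD3_c33)) = (LP (LK LD1_c15 LD2_c41 LD3_c54)) :=
  Lgr Lrot52 (Lpr_at (f728242 IH) (Lpe (K38.f170794 IH) (Lpe (K31.f170799 IH) (Lpn (LP (LK LD1_c15 LD2_c41 LD3_c54))))))
theorem f170793 : Led Lsl_at (LP (LK LD1_c15 LD2_c41 LD3_c55)) = (LP (LK LD1_c8 LD2_c20 LD3_c25)) :=
  Lre_a IH (LK LD1_c15 LD2_c41 LD3_c55) (LK LD1_c8 LD2_c20 LD3_c25) Lrfl Lrfl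
theorem f292239 : Led Lsl_ft (LP (LK LD1_c15 LD2_c18 LD3_c34)) = (LP (LK LD1_c15 LD2_c41 LD3_c55)) :=
  Lgr Lrot142 (Lpr_dt (K17.f227177 IH) (Lpr_ct (K17.f292232 IH) (Lpr_dt (K17.f223477 IH) (Lpr_ct (K17.f223476 IH) (Lpr_dt (K17.f223475 IH) (Lpr_ct (K17.f223453 IH) (Lpe (K31.f244038 IH) (Lpe (K16.f170773 IH) (Lpe (f170793 IH) (Lpn (LP (LK LD1_c15 LD2_c41 LD3_c55))))))))))))
theorem f292332 : Led Lsl_gt (LP (LK LD1_c15 LD2_c18 LD3_c34)) = (LP (LK LD1_c15 LD2_c41 LD3_c54)) :=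
  Lgr Lrot5 (Lpr_ft (f292239 IH) (Lpr_at (f170793 IH) (Lpe (K31.f170799 IH) (Lpn (LP (LK LD1_c15 LD2_c41 LD3_c54))))))
theorem f391472 : Led Lsl_gf (LP (LK LD1_c8 LD2_c7 LD3_c58)) = (LP (LK LD1_c9 LD2_c37 LD3_c32)) :=
  Lgr Lrot181 (Lpr_ct (K17.f227176 IH) (Lpr_gt (f292332 IH) (Lpr_cf (K31.f244009 IH) (Lpr_bt (K31.f223682 IH) (Lpr_gt (K54.f391462 IH) (Lpr_bf (K30.f354522 IH) (Lpe (K30.f319138 IH) (Lpr_gt (K54.f384936 IH) (Lpe (K30.f179470 IH) (Lpe (K30.f244197 IH) (Lpn (LP (LK LD1_c9 LD2_c37 LD3_c32)))))))))))))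
theorem f292991 : Led Lsl_bt (LP (LK LD1_c8 LD2_c36 LD3_c49)) = (LP (LK LD1_c8 LD2_c7 LD3_c58)) :=
  Lgr Lrot35 (Lpr_ff (K17.f292988 IH) (Lpe (K16.f256675 IH) (Lpe (K31.f292260 IH) (Lpn (LP (LK LD1_c8 LD2_c7 LD3_c58))))))
theorem f391477 : Led Lsl_gt (LP (LK LD1_c8 LD2_c53 LD3_c59)) = (LP (LK LD1_c15 LD2_c17 LD3_c36)) :=
  Lgr Lrot65 (Lpe (K31.f292895 IH) (Lpr_bt (f292991 IH) (Lpr_gf (f391472 IH) (Lpr_bf (K30.f244197 IH) (Lpr_ct (K30.f179470 IH) (Lpe (K54.f384936 IH) (Lpr_cf (K30.f319138 IH) (Lpr_gf (K54.f314886 IH) (Lpe (K31.f228395 IH) (Lpr_ct (K31.f228396 IH) (Lpn (LP (LK LD1_c15 LD2_c17 LD3_c36)))))))))))))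
theorem f391470 : Led Lsl_gf (LP (LK LD1_c8 LD2_c36 LD3_c49)) = (LP (LK LD1_c8 LD2_c7 LD3_c28)) :=
  Lgr Lrot124 (Lpr_bf (K17.f256708 IH) (Lpr_ct (K17.f227176 IH) (Lpr_gt (f292332 IH) (Lpr_cf (K31.f244009 IH) (Lpr_bt (K31.f223682 IH) (Lpr_gt (K54.f391462 IH) (Lpr_ct (K22.f332713 IH) (Lpe (K30.f199474 IH) (Lpe (K22.f332573 IH) (Lpr_bt (K30.f332577 IH) (Lpn (LP (LK LD1_c8 LD2_c7 LD3_c28)))))))))))))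
theorem f244017 : Led Lsl_ct (LP (LK LD1_c15 LD2_c41 LD3_c54)) = (LP (LK LD1_c15 LD2_c22 LD3_c57)) :=
  Lgr Lrot59 (Lpr_cf (K31.f244009 IH) (Lpn (LP (LK LD1_c15 LD2_c22 LD3_c57))))
theorem f200812 : Led Lsl_ct (LP (LK LD1_c25 LD2_c10 LD3_c9)) = (LP (LK LD1_c15 LD2_c19 LD3_c9)) :=
  Lre_c IH (LK LD1_c25 LD2_c10 LD3_c9) (LK LD1_c15 LD2_c19 LD3_c9) Lrfl Lrfl
theorem f390064 : Led Lsl_cf (LP (LK LD1_c11 LD2_c9 LD3_c8)) = (LP (LK LD1_c15 LD2_c17 LD3_c36)) :=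
  Lgr Lrot166 (Lpr_gt (K31.f390058 IH) (Lpr_dt (K31.f238409 IH) (Lpr_gt (K31.f238408 IH) (Lpe (K31.f390062 IH) (Lpr_ct (f200812 IH) (Lpe (K31.f292943 IH) (Lpe (K31.f267405 IH) (Lpe (K17.f200942 IH) (Lpe (K31.f199596 IH) (Lpn (LP (LK LD1_c15 LD2_c17 LD3_c36))))))))))))
theorem f391479 : Led Lsl_dt (LP (LK LD1_c15 LD2_c22 LD3_c57)) = (LP (LK LD1_c11 LD2_c9 LD3_c8)) :=
  Lgr Lrot27 (Lpe (f244017 IH) (Lpe (f292332 IH) (Lpe (K17.f227176 IH) (Lpr_gf (f391472 IH) (Lpr_df (K30.f332612 IH) (Lpe (f391470 IH) (Lpr_ct (K31.f292895 IH) (Lpr_gt (f391477 IH) (Lpe (f390064 IH) (Lpn (LP (LK LD1_c11 LD2_c9 LD3_c8))))))))))))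
theorem f227184 : Led Lsl_dt (LP (LK LD1_c15 LD2_c19 LD3_c11)) = (LP (LK LD1_c25 LD2_c10 LD3_c11)) :=
  Lre_d IH (LK LD1_c15 LD2_c19 LD3_c11) (LK LD1_c25 LD2_c10 LD3_c11) Lrfl Lrfl
theorem f223480 : Led Lsl_gt (LP (LK LD1_c16 LD2_c40 LD3_c7)) = (LP (LK LD1_c8 LD2_c54 LD3_c38)) :=
  Lre_g IH (LK LD1_c16 LD2_c40 LD3_c7) (LK LD1_c8 LD2_c54 LD3_c38) Lrfl Lrfl
theorem f292249 : Led Lsl_gt (LP (LK LD1_c25 LD2_c10 LD3_c11)) = (LP (LK LD1_c16 LD2_c40 LD3_c7)) :=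
  Lgr Lrot5 (Lpr_ft (f292243 IH) (Lpr_at (f265473 IH) (Lpe (f223480 IH) (Lpn (LP (LK LD1_c16 LD2_c40 LD3_c7))))))
theorem f393120 : Led Lsl_df (LP (LK LD1_c15 LD2_c17 LD3_c36)) = (LP (LK LD1_c16 LD2_c40 LD3_c7)) :=
  Lgr Lrot84 (Lpe (K31.f228396 IH) (Lpe (f391479 IH) (Lpe (K31.f244011 IH) (Lpr_df (K31.f244098 IH) (Lpr_gf (K31.f393118 IH) (Lpe (K31.f374737 IH) (Lpe (K31.f292225 IH) (Lpr_dt (f227184 IH) (Lpr_gt (f292249 IH) (Lpn (LP (LK LD1_c16 LD2_c40 LD3_c7))))))))))))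
theorem f393764 : Led Lsl_dt (LP (LK LD1_c15 LD2_c17 LD3_c36)) = (LP (LK LD1_c16 LD2_c40 LD3_c7)) :=
  Lgr Lrot42 (Lpr_df (f393120 IH) (Lpn (LP (LK LD1_c16 LD2_c40 LD3_c7))))
theorem f200958 : Led Lsl_gt (LP (LK LD1_c8 LD2_c7 LD3_c29)) = (LP (LK LD1_c4 LD2_c3 LD3_c28)) :=
  Lre_g IH (LK LD1_c8 LD2_c7 LD3_c29) (LK LD1_c4 LD2_c3 LD3_c28) Lrfl Lrfl
theorem f293007 : Led Lsl_gt (LP (LK LD1_c8 LD2_c36 LD3_c49)) = (LP (LK LD1_c8 LD2_c7 LD3_c29)) :=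
  Lgr Lrot5 (Lpr_ft (K17.f292996 IH) (Lpr_at (K16.f200987 IH) (Lpe (f200958 IH) (Lpn (LP (LK LD1_c8 LD2_c7 LD3_c29))))))
theorem f393766 : Led Lsl_dt (LP (LK LD1_c8 LD2_c7 LD3_c29)) = (LP (LK LD1_c9 LD2_c37 LD3_c33)) :=
  Lgr Lrot57 (Lpe (f293007 IH) (Lpr_cf (K17.f292888 IH) (Lpr_gt (f391477 IH) (Lpr_dt (f393764 IH) (Lpr_gt (f223480 IH) (Lpr_dt (K17.f223475 IH) (Lpr_cf (K31.f223387 IH) (Lpe (K17.f244090 IH) (Lpe (K38.f170796 IH) (Lpn (LP (LK LD1_c9 LD2_c37 LD3_c33))))))))))))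
theorem f393779 : Led Lsl_df (LP (LK LD1_c8 LD2_c7 LD3_c29)) = (LP (LK LD1_c9 LD2_c37 LD3_c33)) :=
  Lgr Lrot38 (Lpr_dt (f393766 IH) (Lpn (LP (LK LD1_c9 LD2_c37 LD3_c33))))
theorem f201040 : Led Lsl_gt (LP (LK LD1_c25 LD2_c11 LD3_c2)) = (LP (LK LD1_c15 LD2_c19 LD3_c60)) :=
  Lre_g IH (LK LD1_c25 LD2_c11 LD3_c2) (LK LD1_c15 LD2_c19 LD3_c60) Lrfl Lrfl
theorem f393862 : Led Lsl_df (LP (LK LD1_c25 LD2_c11 LD3_c2)) = (LP (LK LD1_c15 LD2_c41 LD3_c54)) :=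
  Lgr Lrot153 (Lpr_gt (f201040 IH) (Lpr_dt (K17.f200944 IH) (Lpe (K17.f196434 IH) (Lpe (K17.f200879 IH) (Lpe (f200958 IH) (Lpr_df (f393779 IH) (Lpe (K38.f292266 IH) (Lpe (K17.f227180 IH) (Lpr_gt (f292332 IH) (Lpn (LP (LK LD1_c15 LD2_c41 LD3_c54))))))))))))
theorem f393864 : Led Lsl_dt (LP (LK LD1_c25 LD2_c11 LD3_c2)) = (LP (LK LD1_c15 LD2_c41 LD3_c54)) :=
  Lgr Lrot42 (Lpr_df (f393862 IH) (Lpn (LP (LK LD1_c15 LD2_c41 LD3_c54))))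
theorem f728248 : Led Lsl_ft (LP (LK LD1_c24 LD2_c51 LD3_c20)) = (LP (LK LD1_c25 LD2_c11 LD3_c2)) :=
  Lgr Lrot54 (Lpr_df (f381020 IH) (Lpr_ff (f728246 IH) (Lpe (f393864 IH) (Lpn (LP (LK LD1_c25 LD2_c11 LD3_c2))))))
theorem f219037 : Led Lsl_gt (LP (LK LD1_c15 LD2_c2 LD3_c36)) = (LP (LK LD1_c24 LD2_c51 LD3_c19)) :=
  Lre_g IH (LK LD1_c15 LD2_c2 LD3_c36) (LK LD1_c24 LD2_c51 LD3_c19) Lrfl Lrfl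
theorem f728252 : Led Lsl_af (LP (LK LD1_c24 LD2_c51 LD3_c19)) = (LP (LK LD1_c25 LD2_c11 LD3_c2)) :=
  Lgr Lrot31 (Lpe (f219037 IH) (Lpe (f219022 IH) (Lpr_ft (f728248 IH) (Lpn (LP (LK LD1_c25 LD2_c11 LD3_c2))))))
theorem f227134 : Led Lsl_dt (LP (LK LD1_c15 LD2_c18 LD3_c43)) = (LP (LK LD1_c25 LD2_c9 LD3_c33)) :=
  Lre_d IH (LK LD1_c15 LD2_c18 LD3_c43) (LK LD1_c25 LD2_c9 LD3_c33) Lrfl Lrfl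
theorem f381018 : Led Lsl_dt (LP (LK LD1_c24 LD2_c51 LD3_c20)) = (LP (LK LD1_c15 LD2_c18 LD3_c33)) :=
  Lgr Lrot6 (Lpr_gt (f219022 IH) (Lpr_ct (K17.f219018 IH) (Lpr_gt (f292914 IH) (Lpr_ct (f381015 IH) (Lpe (f227134 IH) (Lpe (K30.f227116 IH) (Lpe (K30.f218876 IH) (Lpe (K30.f226827 IH) (Lpe (K30.f227120 IH) (Lpn (LP (LK LD1_c15 LD2_c18 LD3_c33))))))))))))
theorem f201057 : Led Lsl_gt (LP (LK LD1_c15 LD2_c19 LD3_c60)) = (LP (LK LD1_c25 LD2_c11 LD3_c1)) :=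
  Lre_g IH (LK LD1_c15 LD2_c19 LD3_c60) (LK LD1_c25 LD2_c11 LD3_c1) Lrfl Lrfl
theorem f292925 : Led Lsl_gf (LP (LK LD1_c24 LD2_c51 LD3_c18)) = (LP (LK LD1_c25 LD2_c11 LD3_c1)) :=
  Lgr Lrot76 (Lpe (K17.f292915 IH) (Lpr_ff (K17.f292912 IH) (Lpr_gt (f201057 IH) (Lpn (LP (LK LD1_c25 LD2_c11 LD3_c1))))))
theorem f332583 : Led Lsl_dt (LP (LK LD1_c9 LD2_c37 LD3_c32)) = (LP (LK LD1_c8 LD2_c7 LD3_c28)) :=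
  Lgr Lrot79 (Lpr_bf (K30.f244197 IH) (Lpe (K22.f244203 IH) (Lpr_bf (K30.f332575 IH) (Lpn (LP (LK LD1_c8 LD2_c7 LD3_c28))))))
theorem f391488 : Led Lsl_df (LP (LK LD1_c25 LD2_c11 LD3_c1)) = (LP (LK LD1_c15 LD2_c41 LD3_c53)) :=
  Lgr Lrot153 (Lpe (f292925 IH) (Lpr_dt (K17.f219042 IH) (Lpr_cf (K17.f219040 IH) (Lpe (K17.f223648 IH) (Lpr_gf (f391470 IH) (Lpe (f332583 IH) (Lpe (K30.f170795 IH) (Lpe (K30.f170703 IH) (Lpr_gt (K38.f170794 IH) (Lpn (LP (LK LD1_c15 LD2_c41 LD3_c53))))))))))))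
theorem f728244 : Led Lsl_af (LP (LK LD1_c24 LD2_c51 LD3_c20)) = (LP (LK LD1_c25 LD2_c11 LD3_c1)) :=
  Lgr Lrot117 (Lpr_dt (f381018 IH) (Lpr_at (f728242 IH) (Lpe (f391488 IH) (Lpn (LP (LK LD1_c25 LD2_c11 LD3_c1))))))
theorem f728258 : Led Lsl_ft (LP (LK LD1_c24 LD2_c51 LD3_c19)) = (LP (LK LD1_c25 LD2_c11 LD3_c1)) :=
  Lgr Lrot101 (Lpr_af (f728252 IH) (Lpe (f728248 IH) (Lpr_af (f728244 IH) (Lpn (LP (LK LD1_c25 LD2_c11 LD3_c1))))))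
theorem f728262 : Led Lsl_ff (LP (LK LD1_c24 LD2_c51 LD3_c19)) = (LP (LK LD1_c25 LD2_c11 LD3_c1)) :=
  Lgr Lrot3 (Lpr_ft (f728258 IH) (Lpn (LP (LK LD1_c25 LD2_c11 LD3_c1))))
theorem f199124 : Led Lsl_gt (LP (LK LD1_c8 LD2_c7 LD3_c16)) = (LP (LK LD1_c15 LD2_c17 LD3_c35)) :=
  Lre_g IH (LK LD1_c8 LD2_c7 LD3_c16) (LK LD1_c15 LD2_c17 LD3_c35) Lrfl Lrfl
theorem f393785 : Led Lsl_ct (LP (LK LD1_c15 LD2_c17 LD3_c35)) = (LP (LK LD1_c25 LD2_c7 LD3_c61)) :=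
  Lre_c IH (LK LD1_c15 LD2_c17 LD3_c35) (LK LD1_c25 LD2_c7 LD3_c61) Lrfl Lrfl
theorem f374745 : Led Lsl_ct (LP (LK LD1_c15 LD2_c41 LD3_c53)) = (LP (LK LD1_c25 LD2_c12 LD3_c37)) :=
  Lgr Lrot59 (Lpr_cf (f374739 IH) (Lpn (LP (LK LD1_c25 LD2_c12 LD3_c37))))
theorem f393786 : Led Lsl_df (LP (LK LD1_c25 LD2_c7 LD3_c61)) = (LP (LK LD1_c25 LD2_c12 LD3_c37)) :=
  Lgr Lrot162 (Lpe (f393785 IH) (Lpe (f199124 IH) (Lpe (K17.f200941 IH) (Lpe (f200958 IH) (Lpr_dt (f393766 IH) (Lpr_gt (K38.f170796 IH) (Lpe (K16.f170773 IH) (Lpr_gt (K38.f170794 IH) (Lpr_ct (f374745 IH) (Lpn (LP (LK LD1_c25 LD2_c12 LD3_c37))))))))))))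
theorem f393790 : Led Lsl_dt (LP (LK LD1_c25 LD2_c7 LD3_c61)) = (LP (LK LD1_c25 LD2_c12 LD3_c37)) :=
  Lgr Lrot42 (Lpr_df (f393786 IH) (Lpn (LP (LK LD1_c25 LD2_c12 LD3_c37))))
theorem f391492 : Led Lsl_dt (LP (LK LD1_c25 LD2_c11 LD3_c1)) = (LP (LK LD1_c15 LD2_c41 LD3_c53)) :=
  Lgr Lrot42 (Lpr_df (f391488 IH) (Lpn (LP (LK LD1_c15 LD2_c41 LD3_c53))))
theorem f393794 : Led Lsl_gf (LP (LK LD1_c25 LD2_c7 LD3_c61)) = (LP (LK LD1_c20 LD2_c2 LD3_c58)) :=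
  Lgr Lrot143 (Lpr_dt (f393790 IH) (Lpe (f374745 IH) (Lpe (f391492 IH) (Lpe (f201057 IH) (Lpe (K17.f201036 IH) (Lpe (K30.f200953 IH) (Lpe (K30.f201050 IH) (Lpr_gt (K31.f391142 IH) (Lpe (K31.f238411 IH) (Lpn (LP (LK LD1_c20 LD2_c2 LD3_c58))))))))))))
theorem f375904 : Led Lsl_ct (LP (LK LD1_c16 LD2_c42 LD3_c61)) = (LP (LK LD1_c26 LD2_c41 LD3_c50)) :=
  Lre_c IH (LK LD1_c16 LD2_c42 LD3_c61) (LK LD1_c26 LD2_c41 LD3_c50) Lrfl Lrfl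
theorem f389879 : Led Lsl_at (LP (LK LD1_c26 LD2_c41 LD3_c50)) = (LP (LK LD1_c19 LD2_c36 LD3_c44)) :=
  Lgr Lrot107 (Lpe (f375904 IH) (Lpr_af (K31.f389875 IH) (Lpe (K31.f234818 IH) (Lpn (LP (LK LD1_c19 LD2_c36 LD3_c44))))))
theorem f389872 : Led Lsl_ff (LP (LK LD1_c26 LD2_c41 LD3_c48)) = (LP (LK LD1_c19 LD2_c36 LD3_c44)) :=
  Lgr Lrot23 (Lpr_ct (K31.f254867 IH) (Lpr_ft (K31.f389870 IH) (Lpr_ct (K31.f234813 IH) (Lpn (LP (LK LD1_c19 LD2_c36 LD3_c44))))))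
theorem f389905 : Led Lsl_at (LP (LK LD1_c26 LD2_c41 LD3_c48)) = (LP (LK LD1_c19 LD2_c36 LD3_c47)) :=
  Lgr Lrot66 (Lpr_ff (f389872 IH) (Lpe (f389879 IH) (Lpr_ff (K31.f389902 IH) (Lpn (LP (LK LD1_c19 LD2_c36 LD3_c47))))))
theorem f389956 : Led Lsl_af (LP (LK LD1_c26 LD2_c41 LD3_c48)) = (LP (LK LD1_c19 LD2_c36 LD3_c47)) :=
  Lgr Lrot0 (Lpr_at (f389905 IH) (Lpn (LP (LK LD1_c19 LD2_c36 LD3_c47))))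
theorem f389894 : Led Lsl_ft (LP (LK LD1_c26 LD2_c41 LD3_c50)) = (LP (LK LD1_c19 LD2_c36 LD3_c47)) :=
  Lgr Lrot4 (Lpe (f375904 IH) (Lpr_ff (K31.f389888 IH) (Lpe (K30.f375674 IH) (Lpn (LP (LK LD1_c19 LD2_c36 LD3_c47))))))
theorem f389886 : Led Lsl_af (LP (LK LD1_c26 LD2_c41 LD3_c50)) = (LP (LK LD1_c19 LD2_c36 LD3_c44)) :=
  Lgr Lrot0 (Lpr_at (f389879 IH) (Lpn (LP (LK LD1_c19 LD2_c36 LD3_c44))))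
theorem f389968 : Led Lsl_ft (LP (LK LD1_c26 LD2_c41 LD3_c48)) = (LP (LK LD1_c19 LD2_c36 LD3_c44)) :=
  Lgr Lrot101 (Lpr_af (f389956 IH) (Lpe (f389894 IH) (Lpr_af (f389886 IH) (Lpn (LP (LK LD1_c19 LD2_c36 LD3_c44))))))
theorem f200973 : Led Lsl_ct (LP (LK LD1_c15 LD2_c17 LD3_c54)) = (LP (LK LD1_c25 LD2_c8 LD3_c35)) :=
  Lre_c IH (LK LD1_c15 LD2_c17 LD3_c54) (LK LD1_c25 LD2_c8 LD3_c35) Lrfl Lrfl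
theorem f375711 : Led Lsl_bt (LP (LK LD1_c26 LD2_c41 LD3_c48)) = (LP (LK LD1_c25 LD2_c8 LD3_c45)) :=
  Lgr Lrot128 (Lpe (K31.f254864 IH) (Lpr_bf (K31.f375707 IH) (Lpe (f200973 IH) (Lpe (K22.f200964 IH) (Lpe (K22.f200950 IH) (Lpn (LP (LK LD1_c25 LD2_c8 LD3_c45))))))))
theorem f375713 : Led Lsl_bf (LP (LK LD1_c26 LD2_c41 LD3_c48)) = (LP (LK LD1_c25 LD2_c8 LD3_c45)) :=
  Lgr Lrot24 (Lpr_bt (f375711 IH) (Lpn (LP (LK LD1_c25 LD2_c8 LD3_c45))))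
theorem f389972 : Led Lsl_ff (LP (LK LD1_c25 LD2_c8 LD3_c45)) = (LP (LK LD1_c26 LD2_c4 LD3_c41)) :=
  Lgr Lrot25 (Lpe (f375713 IH) (Lpr_ft (f389968 IH) (Lpe (K31.f234824 IH) (Lpn (LP (LK LD1_c26 LD2_c4 LD3_c41))))))
theorem f389976 : Led Lsl_ft (LP (LK LD1_c25 LD2_c8 LD3_c45)) = (LP (LK LD1_c26 LD2_c4 LD3_c41)) :=
  Lgr Lrot48 (Lpr_ff (f389972 IH) (Lpn (LP (LK LD1_c26 LD2_c4 LD3_c41))))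
theorem f389978 : Led Lsl_ff (LP (LK LD1_c25 LD2_c8 LD3_c34)) = (LP (LK LD1_c20 LD2_c2 LD3_c58)) :=
  Lgr Lrot23 (Lpr_ct (K30.f200967 IH) (Lpr_ft (f389976 IH) (Lpe (K31.f228163 IH) (Lpn (LP (LK LD1_c20 LD2_c2 LD3_c58))))))
theorem f391136 : Led Lsl_af (LP (LK LD1_c20 LD2_c3 LD3_c6)) = (LP (LK LD1_c25 LD2_c8 LD3_c34)) :=
  Lgr Lrot117 (Lpr_dt (K31.f391134 IH) (Lpr_at (K31.f53039 IH) (Lpe (K22.f200962 IH) (Lpn (LP (LK LD1_c25 LD2_c8 LD3_c34))))))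
theorem f393797 : Led Lsl_gt (LP (LK LD1_c25 LD2_c7 LD3_c61)) = (LP (LK LD1_c20 LD2_c3 LD3_c6)) :=
  Lgr Lrot46 (Lpr_gf (f393794 IH) (Lpe (f389978 IH) (Lpe (f391136 IH) (Lpn (LP (LK LD1_c20 LD2_c3 LD3_c6))))))
theorem f289607 : Led Lsl_dt (LP (LK LD1_c8 LD2_c58 LD3_c16)) = (LP (LK LD1_c4 LD2_c30 LD3_c4)) :=
  Lre_d IH (LK LD1_c8 LD2_c58 LD3_c16) (LK LD1_c4 LD2_c30 LD3_c4) Lrfl Lrfl
theorem f167920 : Led Lsl_dt (LP (LK LD1_c4 LD2_c30 LD3_c4)) = (LP (LK LD1_c8 LD2_c58 LD3_c16)) :=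
  Lre_d IH (LK LD1_c4 LD2_c30 LD3_c4) (LK LD1_c8 LD2_c58 LD3_c16) Lrfl Lrfl
theorem f388386 : Led Lsl_gf (LP (LK LD1_c5 LD2_c34 LD3_c39)) = (LP (LK LD1_c8 LD2_c58 LD3_c16)) :=
  Lgr Lrot143 (Lpr_dt (K30.f179464 IH) (Lpe (K30.f179490 IH) (Lpr_df (K30.f387856 IH) (Lpe (K31.f388378 IH) (Lpr_df (K31.f388382 IH) (Lpe (K31.f196413 IH) (Lpr_cf (K20.f319633 IH) (Lpr_gt (K22.f167919 IH) (Lpr_dt (f167920 IH) (Lpn (LP (LK LD1_c8 LD2_c58 LD3_c16))))))))))))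
theorem f388388 : Led Lsl_gt (LP (LK LD1_c4 LD2_c30 LD3_c36)) = (LP (LK LD1_c8 LD2_c58 LD3_c16)) :=
  Lgr Lrot5 (Lpr_ft (K20.f319291 IH) (Lpr_at (K30.f179462 IH) (Lpr_gf (f388386 IH) (Lpn (LP (LK LD1_c8 LD2_c58 LD3_c16))))))
theorem f388455 : Led Lsl_gf (LP (LK LD1_c15 LD2_c54 LD3_c34)) = (LP (LK LD1_c9 LD2_c0 LD3_c0)) :=
  Lgr Lrot144 (Lpr_dt (K31.f387928 IH) (Lpr_gt (K30.f220905 IH) (Lpr_dt (K31.f388450 IH) (Lpe (K22.f168162 IH) (Lpe (f289607 IH) (Lpe (f388388 IH) (Lpe (K20.f225239 IH) (Lpe (K30.f179858 IH) (Lpe (K30.f319145 IH) (Lpn (LP (LK LD1_c9 LD2_c0 LD3_c0))))))))))))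
theorem f319234 : Led Lsl_gt (LP (LK LD1_c25 LD2_c9 LD3_c32)) = (LP (LK LD1_c15 LD2_c18 LD3_c43)) :=
  Lre_g IH (LK LD1_c25 LD2_c9 LD3_c32) (LK LD1_c15 LD2_c18 LD3_c43) Lrfl Lrfl
theorem f388459 : Led Lsl_ct (LP (LK LD1_c25 LD2_c14 LD3_c46)) = (LP (LK LD1_c25 LD2_c9 LD3_c32)) :=
  Lgr Lrot64 (Lpr_bt (K31.f388158 IH) (Lpe (K31.f179335 IH) (Lpe (K22.f179325 IH) (Lpe (K31.f179328 IH) (Lpe (K31.f179311 IH) (Lpe (K31.f388118 IH) (Lpr_gf (f388455 IH) (Lpr_bf (K30.f319221 IH) (Lpr_ct (K30.f227116 IH) (Lpe (f319234 IH) (Lpn (LP (LK LD1_c25 LD2_c9 LD3_c32)))))))))))))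
theorem f388462 : Led Lsl_cf (LP (LK LD1_c25 LD2_c14 LD3_c46)) = (LP (LK LD1_c25 LD2_c9 LD3_c32)) :=
  Lgr Lrot11 (Lpr_ct (f388459 IH) (Lpn (LP (LK LD1_c25 LD2_c9 LD3_c32))))
theorem f297485 : Led Lsl_bt (LP (LK LD1_c16 LD2_c44 LD3_c20)) = (LP (LK LD1_c26 LD2_c43 LD3_c12)) :=
  Lre_b IH (LK LD1_c16 LD2_c44 LD3_c20) (LK LD1_c26 LD2_c43 LD3_c12) Lrfl Lrfl
theorem f388465 : Led Lsl_bt (LP (LK LD1_c19 LD2_c29 LD3_c12)) = (LP (LK LD1_c25 LD2_c9 LD3_c32)) :=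
  Lgr Lrot128 (Lpr_cf (K31.f282841 IH) (Lpe (f297485 IH) (Lpr_cf (K31.f388150 IH) (Lpe (K31.f388158 IH) (Lpr_cf (f388462 IH) (Lpn (LP (LK LD1_c25 LD2_c9 LD3_c32))))))))
theorem f388467 : Led Lsl_bf (LP (LK LD1_c19 LD2_c29 LD3_c12)) = (LP (LK LD1_c25 LD2_c9 LD3_c32)) :=
  Lgr Lrot24 (Lpr_bt (f388465 IH) (Lpn (LP (LK LD1_c25 LD2_c9 LD3_c32))))
theorem f282875 : Led Lsl_bt (LP (LK LD1_c5 LD2_c27 LD3_c43)) = (LP (LK LD1_c10 LD2_c46 LD3_c31)) :=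
  Lre_b IH (LK LD1_c5 LD2_c27 LD3_c43) (LK LD1_c10 LD2_c46 LD3_c31) Lrfl Lrfl
theorem f388472 : Led Lsl_gt (LP (LK LD1_c25 LD2_c12 LD3_c37)) = (LP (LK LD1_c25 LD2_c14 LD3_c46)) :=
  Lgr Lrot149 (Lpe (f374745 IH) (Lpe (K38.f170794 IH) (Lpe (K30.f170700 IH) (Lpr_ct (K12.f170791 IH) (Lpe (K18.f284566 IH) (Lpe (K20.f197008 IH) (Lpr_bt (f282875 IH) (Lpe (K31.f282840 IH) (Lpr_bf (f388467 IH) (Lpe (f388462 IH) (Lpn (LP (LK LD1_c25 LD2_c14 LD3_c46)))))))))))))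
theorem f381085 : Led Lsl_df (LP (LK LD1_c8 LD2_c36 LD3_c47)) = (LP (LK LD1_c8 LD2_c7 LD3_c56)) :=
  Lgr Lrot38 (Lpr_dt (f381081 IH) (Lpn (LP (LK LD1_c8 LD2_c7 LD3_c56))))
theorem f381091 : Led Lsl_gt (LP (LK LD1_c26 LD2_c4 LD3_c42)) = (LP (LK LD1_c16 LD2_c8 LD3_c11)) :=
  Lre_g IH (LK LD1_c26 LD2_c4 LD3_c42) (LK LD1_c16 LD2_c8 LD3_c11) Lrfl Lrfl
theorem f393809 : Led Lsl_cf (LP (LK LD1_c26 LD2_c4 LD3_c42)) = (LP (LK LD1_c20 LD2_c3 LD3_c6)) :=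
  Lgr Lrot169 (Lpr_gt (f381091 IH) (Lpr_ct (K30.f334191 IH) (Lpr_df (f381085 IH) (Lpe (K30.f226828 IH) (Lpe (f319234 IH) (Lpe (f388459 IH) (Lpe (f388472 IH) (Lpe (f393790 IH) (Lpr_gt (f393797 IH) (Lpn (LP (LK LD1_c20 LD2_c3 LD3_c6))))))))))))
theorem f393811 : Led Lsl_at (LP (LK LD1_c26 LD2_c4 LD3_c42)) = (LP (LK LD1_c25 LD2_c8 LD3_c45)) :=
  Lgr Lrot107 (Lpr_cf (f393809 IH) (Lpr_af (f391136 IH) (Lpe (K22.f200950 IH) (Lpn (LP (LK LD1_c25 LD2_c8 LD3_c45))))))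
theorem f332590 : Led Lsl_gt (LP (LK LD1_c25 LD2_c8 LD3_c46)) = (LP (LK LD1_c15 LD2_c17 LD3_c59)) :=
  Lre_g IH (LK LD1_c25 LD2_c8 LD3_c46) (LK LD1_c15 LD2_c17 LD3_c59) Lrfl Lrfl
theorem f393833 : Led Lsl_ff (LP (LK LD1_c26 LD2_c4 LD3_c42)) = (LP (LK LD1_c25 LD2_c8 LD3_c46)) :=
  Lgr Lrot52 (Lpr_at (f393811 IH) (Lpe (K22.f200949 IH) (Lpe (f332590 IH) (Lpn (LP (LK LD1_c25 LD2_c8 LD3_c46))))))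
theorem f393839 : Led Lsl_ft (LP (LK LD1_c26 LD2_c4 LD3_c42)) = (LP (LK LD1_c25 LD2_c8 LD3_c46)) :=
  Lgr Lrot48 (Lpr_ff (f393833 IH) (Lpn (LP (LK LD1_c25 LD2_c8 LD3_c46))))
theorem f401218 : Led Lsl_ct (LP (LK LD1_c25 LD2_c8 LD3_c46)) = (LP (LK LD1_c25 LD2_c14 LD3_c15)) :=
  Lgr Lrot40 (Lpe (f393839 IH) (Lpr_cf (f393809 IH) (Lpr_ff (K38.f401214 IH) (Lpn (LP (LK LD1_c25 LD2_c14 LD3_c15))))))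
theorem f393815 : Led Lsl_ct (LP (LK LD1_c26 LD2_c4 LD3_c42)) = (LP (LK LD1_c20 LD2_c3 LD3_c6)) :=
  Lgr Lrot59 (Lpr_cf (f393809 IH) (Lpn (LP (LK LD1_c20 LD2_c3 LD3_c6))))
theorem f228430 : Led Lsl_bt (LP (LK LD1_c10 LD2_c36 LD3_c5)) = (LP (LK LD1_c19 LD2_c11 LD3_c56)) :=
  Lre_b IH (LK LD1_c10 LD2_c36 LD3_c5) (LK LD1_c19 LD2_c11 LD3_c56) Lrfl Lrfl
theorem f393829 : Led Lsl_bf (LP (LK LD1_c26 LD2_c4 LD3_c42)) = (LP (LK LD1_c25 LD2_c7 LD3_c54)) :=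
  Lgr Lrot90 (Lpr_ct (f393815 IH) (Lpr_bt (K38.f388132 IH) (Lpr_ct (K31.f228431 IH) (Lpr_bt (f228430 IH) (Lpe (K31.f228427 IH) (Lpn (LP (LK LD1_c25 LD2_c7 LD3_c54))))))))
theorem f393843 : Led Lsl_bf (LP (LK LD1_c16 LD2_c37 LD3_c14)) = (LP (LK LD1_c25 LD2_c8 LD3_c46)) :=
  Lgr Lrot61 (Lpe (K31.f389919 IH) (Lpe (f393829 IH) (Lpr_ft (f393839 IH) (Lpn (LP (LK LD1_c25 LD2_c8 LD3_c46))))))
theorem f278946 : Led Lsl_bt (LP (LK LD1_c4 LD2_c27 LD3_c46)) = (LP (LK LD1_c8 LD2_c53 LD3_c21)) :=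
  Lre_b IH (LK LD1_c4 LD2_c27 LD3_c46) (LK LD1_c8 LD2_c53 LD3_c21) Lrfl Lrfl
theorem f278947 : Led Lsl_cf (LP (LK LD1_c5 LD2_c22 LD3_c45)) = (LP (LK LD1_c8 LD2_c53 LD3_c21)) :=
  Lgr Lrot97 (Lpr_bt (K17.f171978 IH) (Lpr_ct (K15.f224349 IH) (Lpr_bt (K16.f278939 IH) (Lpr_ct (K16.f219629 IH) (Lpr_bt (f278946 IH) (Lpn (LP (LK LD1_c8 LD2_c53 LD3_c21))))))))
theorem f256822 : Led Lsl_gt (LP (LK LD1_c5 LD2_c22 LD3_c45)) = (LP (LK LD1_c10 LD2_c35 LD3_c47)) :=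
  Lre_g IH (LK LD1_c5 LD2_c22 LD3_c45) (LK LD1_c10 LD2_c35 LD3_c47) Lrfl Lrfl
theorem f275088 : Led Lsl_ct (LP (LK LD1_c19 LD2_c11 LD3_c20)) = (LP (LK LD1_c10 LD2_c35 LD3_c47)) :=
  Lre_c IH (LK LD1_c19 LD2_c11 LD3_c20) (LK LD1_c10 LD2_c35 LD3_c47) Lrfl Lrfl
theorem f349406 : Led Lsl_ff (LP (LK LD1_c8 LD2_c26 LD3_c44)) = (LP (LK LD1_c10 LD2_c46 LD3_c15)) :=
  Lgr Lrot3 (Lpr_ft (K30.f349400 IH) (Lpn (LP (LK LD1_c10 LD2_c46 LD3_c15))))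
theorem f349425 : Led Lsl_cf (LP (LK LD1_c10 LD2_c46 LD3_c15)) = (LP (LK LD1_c16 LD2_c13 LD3_c36)) :=
  Lgr Lrot108 (Lpe (f349406 IH) (Lpr_ct (K30.f349419 IH) (Lpr_ft (K30.f343957 IH) (Lpn (LP (LK LD1_c16 LD2_c13 LD3_c36))))))
theorem f278043 : Led Lsl_gt (LP (LK LD1_c19 LD2_c28 LD3_c44)) = (LP (LK LD1_c10 LD2_c46 LD3_c15)) :=
  Lre_g IH (LK LD1_c19 LD2_c28 LD3_c44) (LK LD1_c10 LD2_c46 LD3_c15) Lrfl Lrfl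
theorem f168607 : Led Lsl_gt (LP (LK LD1_c4 LD2_c27 LD3_c60)) = (LP (LK LD1_c8 LD2_c53 LD3_c57)) :=
  Lre_g IH (LK LD1_c4 LD2_c27 LD3_c60) (LK LD1_c8 LD2_c53 LD3_c57) Lrfl Lrfl
theorem f279155 : Led Lsl_bt (LP (LK LD1_c16 LD2_c38 LD3_c39)) = (LP (LK LD1_c8 LD2_c53 LD3_c57)) :=
  Lre_b IH (LK LD1_c16 LD2_c38 LD3_c39) (LK LD1_c8 LD2_c53 LD3_c57) Lrfl Lrfl
theorem f349459 : Led Lsl_cf (LP (LK LD1_c19 LD2_c28 LD3_c44)) = (LP (LK LD1_c16 LD2_c38 LD3_c39)) :=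
  Lgr Lrot160 (Lpr_gt (f278043 IH) (Lpr_cf (f349425 IH) (Lpr_bt (K30.f187193 IH) (Lpe (K16.f279147 IH) (Lpr_ct (K16.f219721 IH) (Lpe (K16.f278524 IH) (Lpe (K16.f191919 IH) (Lpr_bt (K17.f168606 IH) (Lpr_gt (f168607 IH) (Lpe (f279155 IH) (Lpn (LP (LK LD1_c16 LD2_c38 LD3_c39)))))))))))))
theorem f219724 : Led Lsl_bt (LP (LK LD1_c8 LD2_c53 LD3_c21)) = (LP (LK LD1_c4 LD2_c27 LD3_c46)) :=
  Lre_b IH (LK LD1_c8 LD2_c53 LD3_c21) (LK LD1_c4 LD2_c27 LD3_c46) Lrfl Lrfl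
theorem f349466 : Led Lsl_gt (LP (LK LD1_c26 LD2_c36 LD3_c50)) = (LP (LK LD1_c16 LD2_c38 LD3_c39)) :=
  Lre_g IH (LK LD1_c26 LD2_c36 LD3_c50) (LK LD1_c16 LD2_c38 LD3_c39) Lrfl Lrfl
theorem f349467 : Led Lsl_bt (LP (LK LD1_c19 LD2_c11 LD3_c20)) = (LP (LK LD1_c26 LD2_c36 LD3_c50)) :=
  Lgr Lrot130 (Lpr_ct (f275088 IH) (Lpe (f256822 IH) (Lpr_cf (f278947 IH) (Lpr_bt (f219724 IH) (Lpr_gf (K16.f279147 IH) (Lpe (K30.f187193 IH) (Lpe (f349425 IH) (Lpe (f278043 IH) (Lpr_cf (f349459 IH) (Lpe (f349466 IH) (Lpn (LP (LK LD1_c26 LD2_c36 LD3_c50)))))))))))))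
theorem f349461 : Led Lsl_bt (LP (LK LD1_c8 LD2_c53 LD3_c57)) = (LP (LK LD1_c16 LD2_c38 LD3_c39)) :=
  Lre_b IH (LK LD1_c8 LD2_c53 LD3_c57) (LK LD1_c16 LD2_c38 LD3_c39) Lrfl Lrfl
theorem f349474 : Led Lsl_ct (LP (LK LD1_c8 LD2_c53 LD3_c57)) = (LP (LK LD1_c16 LD2_c38 LD3_c40)) :=
  Lre_c IH (LK LD1_c8 LD2_c53 LD3_c57) (LK LD1_c16 LD2_c38 LD3_c40) Lrfl Lrfl
theorem f401233 : Led Lsl_gt (LP (LK LD1_c16 LD2_c38 LD3_c40)) = (LP (LK LD1_c25 LD2_c14 LD3_c15)) :=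
  Lgr Lrot65 (Lpe (f349474 IH) (Lpr_bt (f349461 IH) (Lpe (f349466 IH) (Lpe (f349467 IH) (Lpr_ct (f275088 IH) (Lpe (f256822 IH) (Lpr_cf (f278947 IH) (Lpe (K31.f289094 IH) (Lpr_bf (f393843 IH) (Lpr_ct (f401218 IH) (Lpn (LP (LK LD1_c25 LD2_c14 LD3_c15)))))))))))))
theorem f389974 : Led Lsl_ft (LP (LK LD1_c25 LD2_c8 LD3_c34)) = (LP (LK LD1_c20 LD2_c2 LD3_c58)) :=
  Lgr Lrot4 (Lpe (K22.f200950 IH) (Lpr_ff (f389972 IH) (Lpe (K31.f228160 IH) (Lpn (LP (LK LD1_c20 LD2_c2 LD3_c58))))))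
theorem f401216 : Led Lsl_at (LP (LK LD1_c20 LD2_c2 LD3_c58)) = (LP (LK LD1_c25 LD2_c14 LD3_c15)) :=
  Lgr Lrot66 (Lpe (f389974 IH) (Lpe (K31.f391144 IH) (Lpr_ff (K38.f401214 IH) (Lpn (LP (LK LD1_c25 LD2_c14 LD3_c15))))))
theorem f401235 : Led Lsl_gf (LP (LK LD1_c16 LD2_c38 LD3_c40)) = (LP (LK LD1_c25 LD2_c8 LD3_c34)) :=
  Lgr Lrot47 (Lpr_gt (f401233 IH) (Lpe (f401216 IH) (Lpe (f389974 IH) (Lpn (LP (LK LD1_c25 LD2_c8 LD3_c34))))))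
theorem f201092 : Led Lsl_gt (LP (LK LD1_c8 LD2_c7 LD3_c49)) = (LP (LK LD1_c15 LD2_c18 LD3_c32)) :=
  Lre_g IH (LK LD1_c8 LD2_c7 LD3_c49) (LK LD1_c15 LD2_c18 LD3_c32) Lrfl Lrfl
theorem f292296 : Led Lsl_ct (LP (LK LD1_c15 LD2_c18 LD3_c32)) = (LP (LK LD1_c25 LD2_c9 LD3_c14)) :=
  Lre_c IH (LK LD1_c15 LD2_c18 LD3_c32) (LK LD1_c25 LD2_c9 LD3_c14) Lrfl Lrfl
theorem f381035 : Led Lsl_dt (LP (LK LD1_c16 LD2_c38 LD3_c40)) = (LP (LK LD1_c25 LD2_c9 LD3_c14)) :=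
  Lgr Lrot27 (Lpe (f349474 IH) (Lpe (f168607 IH) (Lpe (K17.f292893 IH) (Lpe (f223652 IH) (Lpr_df (f381025 IH) (Lpr_gt (f226857 IH) (Lpr_ct (K30.f227073 IH) (Lpr_gt (f201092 IH) (Lpr_ct (f292296 IH) (Lpn (LP (LK LD1_c25 LD2_c9 LD3_c14))))))))))))
theorem f227074 : Led Lsl_ct (LP (LK LD1_c25 LD2_c9 LD3_c14)) = (LP (LK LD1_c15 LD2_c18 LD3_c32)) :=
  Lre_c IH (LK LD1_c25 LD2_c9 LD3_c14) (LK LD1_c15 LD2_c18 LD3_c32) Lrfl Lrfl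
theorem f219017 : Led Lsl_dt (LP (LK LD1_c7 LD2_c58 LD3_c26)) = (LP (LK LD1_c15 LD2_c2 LD3_c36)) :=
  Lre_d IH (LK LD1_c7 LD2_c58 LD3_c26) (LK LD1_c15 LD2_c2 LD3_c36) Lrfl Lrfl
theorem f401239 : Led Lsl_df (LP (LK LD1_c15 LD2_c18 LD3_c32)) = (LP (LK LD1_c24 LD2_c51 LD3_c19)) :=
  Lgr Lrot84 (Lpe (f227074 IH) (Lpe (f381035 IH) (Lpr_gf (f401235 IH) (Lpr_df (K22.f200962 IH) (Lpe (K31.f391123 IH) (Lpe (K64.f219034 IH) (Lpr_gt (K31.f219028 IH) (Lpr_dt (f219017 IH) (Lpr_gt (f219037 IH) (Lpn (LP (LK LD1_c24 LD2_c51 LD3_c19))))))))))))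
theorem f728266 : Led Lsl_ft (LP (LK LD1_c15 LD2_c18 LD3_c32)) = (LP (LK LD1_c15 LD2_c41 LD3_c53)) :=
  Lgr Lrot54 (Lpr_df (f401239 IH) (Lpr_ff (f728262 IH) (Lpr_df (f391488 IH) (Lpn (LP (LK LD1_c15 LD2_c41 LD3_c53))))))
theorem f728272 : Led Lsl_ff (LP (LK LD1_c25 LD2_c9 LD3_c14)) = (LP (LK LD1_c25 LD2_c12 LD3_c37)) :=
  Lgr Lrot23 (Lpr_ct (f227074 IH) (Lpr_ft (f728266 IH) (Lpr_ct (f374745 IH) (Lpn (LP (LK LD1_c25 LD2_c12 LD3_c37))))))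
theorem f728278 : Led Lsl_ft (LP (LK LD1_c25 LD2_c9 LD3_c14)) = (LP (LK LD1_c25 LD2_c12 LD3_c37)) :=
  Lgr Lrot48 (Lpr_ff (f728272 IH) (Lpn (LP (LK LD1_c25 LD2_c12 LD3_c37))))
theorem f728282 : Led Lsl_ff (LP (LK LD1_c16 LD2_c38 LD3_c40)) = (LP (LK LD1_c25 LD2_c7 LD3_c61)) :=
  Lgr Lrot19 (Lpr_dt (f381035 IH) (Lpr_ft (f728278 IH) (Lpe (f393786 IH) (Lpn (LP (LK LD1_c25 LD2_c7 LD3_c61))))))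
theorem f728286 : Led Lsl_at (LP (LK LD1_c16 LD2_c38 LD3_c40)) = (LP (LK LD1_c11 LD2_c9 LD3_c8)) :=
  Lgr Lrot26 (Lpr_ff (f728282 IH) (Lpr_gt (f393797 IH) (Lpr_gt (K31.f228400 IH) (Lpn (LP (LK LD1_c11 LD2_c9 LD3_c8))))))
theorem f728290 : Led Lsl_af (LP (LK LD1_c8 LD2_c53 LD3_c57)) = (LP (LK LD1_c15 LD2_c17 LD3_c36)) :=
  Lgr Lrot68 (Lpr_ct (f349474 IH) (Lpr_at (f728286 IH) (Lpr_ct (K31.f228396 IH) (Lpn (LP (LK LD1_c15 LD2_c17 LD3_c36))))))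
theorem f728308 : Led Lsl_ft (LP (LK LD1_c8 LD2_c53 LD3_c58)) = (LP (LK LD1_c15 LD2_c17 LD3_c36)) :=
  Lgr Lrot2 (Lpr_gt (K38.f191923 IH) (Lpr_gt (f168607 IH) (Lpr_af (f728290 IH) (Lpn (LP (LK LD1_c15 LD2_c17 LD3_c36))))))
theorem f728318 : Led Lsl_ff (LP (LK LD1_c8 LD2_c53 LD3_c58)) = (LP (LK LD1_c15 LD2_c17 LD3_c36)) :=
  Lgr Lrot3 (Lpr_ft (f728308 IH) (Lpn (LP (LK LD1_c15 LD2_c17 LD3_c36))))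
theorem f728322 : Led Lsl_at (LP (LK LD1_c8 LD2_c53 LD3_c58)) = (LP (LK LD1_c15 LD2_c17 LD3_c35)) :=
  Lgr Lrot26 (Lpr_ff (f728318 IH) (Lpr_gt (K31.f199596 IH) (Lpr_gt (f199124 IH) (Lpn (LP (LK LD1_c15 LD2_c17 LD3_c35))))))
theorem f293020 : Led Lsl_et (LP (LK LD1_c16 LD2_c38 LD3_c45)) = (LP (LK LD1_c8 LD2_c53 LD3_c58)) :=
  Lre_e IH (LK LD1_c16 LD2_c38 LD3_c45) (LK LD1_c8 LD2_c53 LD3_c58) Lrfl Lrfl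
theorem f728324 : Led Lsl_et (LP (LK LD1_c15 LD2_c17 LD3_c35)) = (LP (LK LD1_c25 LD2_c8 LD3_c0)) :=
  Lre_e IH (LK LD1_c15 LD2_c17 LD3_c35) (LK LD1_c25 LD2_c8 LD3_c0) Lrfl Lrfl
theorem f728325 : Led Lsl_af (LP (LK LD1_c16 LD2_c38 LD3_c45)) = (LP (LK LD1_c25 LD2_c8 LD3_c0)) :=
  Lgr Lrot50 (Lpr_et (f293020 IH) (Lpr_at (f728322 IH) (Lpr_et (f728324 IH) (Lpn (LP (LK LD1_c25 LD2_c8 LD3_c0))))))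
theorem f381064 : Led Lsl_et (LP (LK LD1_c8 LD2_c53 LD3_c58)) = (LP (LK LD1_c16 LD2_c38 LD3_c45)) :=
  Lre_e IH (LK LD1_c8 LD2_c53 LD3_c58) (LK LD1_c16 LD2_c38 LD3_c45) Lrfl Lrfl
theorem f401194 : Led Lsl_et (LP (LK LD1_c25 LD2_c14 LD3_c16)) = (LP (LK LD1_c15 LD2_c22 LD3_c28)) :=
  Lre_e IH (LK LD1_c25 LD2_c14 LD3_c16) (LK LD1_c15 LD2_c22 LD3_c28) Lrfl Lrfl
theorem f401195 : Led Lsl_ct (LP (LK LD1_c16 LD2_c38 LD3_c45)) = (LP (LK LD1_c25 LD2_c14 LD3_c16)) :=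
  Lgr Lrot15 (Lpe (f381064 IH) (Lpr_cf (K38.f401188 IH) (Lpe (f401194 IH) (Lpn (LP (LK LD1_c25 LD2_c14 LD3_c16))))))
theorem f728331 : Led Lsl_ct (LP (LK LD1_c31 LD2_c46 LD3_c54)) = (LP (LK LD1_c25 LD2_c8 LD3_c0)) :=
  Lre_c IH (LK LD1_c31 LD2_c46 LD3_c54) (LK LD1_c25 LD2_c8 LD3_c0) Lrfl Lrfl
theorem f728332 : Led Lsl_at (LP (LK LD1_c25 LD2_c14 LD3_c16)) = (LP (LK LD1_c31 LD2_c46 LD3_c54)) :=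
  Lgr Lrot107 (Lpe (f401195 IH) (Lpr_af (f728325 IH) (Lpe (f728331 IH) (Lpn (LP (LK LD1_c31 LD2_c46 LD3_c54))))))
theorem f728341 : Led Lsl_af (LP (LK LD1_c25 LD2_c14 LD3_c16)) = (LP (LK LD1_c31 LD2_c46 LD3_c54)) :=
  Lgr Lrot0 (Lpr_at (f728332 IH) (Lpn (LP (LK LD1_c31 LD2_c46 LD3_c54))))
theorem f393792 : Led Lsl_et (LP (LK LD1_c25 LD2_c7 LD3_c61)) = (LP (LK LD1_c31 LD2_c46 LD3_c54)) :=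
  Lre_e IH (LK LD1_c25 LD2_c7 LD3_c61) (LK LD1_c31 LD2_c46 LD3_c54) Lrfl Lrfl
theorem f728344 : Led Lsl_at (LP (LK LD1_c15 LD2_c22 LD3_c28)) = (LP (LK LD1_c25 LD2_c7 LD3_c61)) :=
  Lgr Lrot80 (Lpe (f401194 IH) (Lpr_af (f728341 IH) (Lpe (f393792 IH) (Lpn (LP (LK LD1_c25 LD2_c7 LD3_c61))))))
theorem f401191 : Led Lsl_bt (LP (LK LD1_c8 LD2_c9 LD3_c45)) = (LP (LK LD1_c15 LD2_c22 LD3_c28)) :=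
  Lre_b IH (LK LD1_c8 LD2_c9 LD3_c45) (LK LD1_c15 LD2_c22 LD3_c28) Lrfl Lrfl
theorem f728143 : Led Lsl_at (LP (LK LD1_c5 LD2_c39 LD3_c5)) = (LP (LK LD1_c8 LD2_c9 LD3_c45)) :=
  Lgr Lrot107 (Lpe (K22.f179304 IH) (Lpe (K54.f179321 IH) (Lpr_cf (f728141 IH) (Lpn (LP (LK LD1_c8 LD2_c9 LD3_c45))))))
theorem f179385 : Led Lsl_at (LP (LK LD1_c20 LD2_c3 LD3_c13)) = (LP (LK LD1_c11 LD2_c9 LD3_c11)) :=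
  Lre_a IH (LK LD1_c20 LD2_c3 LD3_c13) (LK LD1_c11 LD2_c9 LD3_c11) Lrfl Lrfl
theorem f728346 : Led Lsl_bf (LP (LK LD1_c20 LD2_c3 LD3_c13)) = (LP (LK LD1_c25 LD2_c7 LD3_c61)) :=
  Lgr Lrot81 (Lpr_at (f179385 IH) (Lpr_bt (K22.f179382 IH) (Lpr_at (f728143 IH) (Lpr_bt (f401191 IH) (Lpr_at (f728344 IH) (Lpn (LP (LK LD1_c25 LD2_c7 LD3_c61))))))))
theorem f280061 : Led Lsl_ct (LP (LK LD1_c25 LD2_c7 LD3_c61)) = (LP (LK LD1_c15 LD2_c17 LD3_c35)) :=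
  Lre_c IH (LK LD1_c25 LD2_c7 LD3_c61) (LK LD1_c15 LD2_c17 LD3_c35) Lrfl Lrfl
theorem f393053 : Led Lsl_cf (LP (LK LD1_c15 LD2_c19 LD3_c57)) = (LP (LK LD1_c24 LD2_c58 LD3_c38)) :=
  Lgr Lrot11 (Lpr_ct (K31.f393051 IH) (Lpn (LP (LK LD1_c24 LD2_c58 LD3_c38))))
theorem f292258 : Led Lsl_gt (LP (LK LD1_c8 LD2_c8 LD3_c18)) = (LP (LK LD1_c15 LD2_c9 LD3_c22)) :=
  Lgr Lrot5 (Lpr_ft (K17.f292241 IH) (Lpr_at (K17.f223478 IH) (Lpe (K31.f223485 IH) (Lpn (LP (LK LD1_c15 LD2_c9 LD3_c22))))))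
theorem f393557 : Led Lsl_gf (LP (LK LD1_c15 LD2_c2 LD3_c35)) = (LP (LK LD1_c15 LD2_c19 LD3_c57)) :=
  Lgr Lrot126 (Lpr_cf (K17.f219040 IH) (Lpe (K17.f293047 IH) (Lpr_gt (f292258 IH) (Lpr_ct (K31.f223506 IH) (Lpe (K31.f393543 IH) (Lpr_cf (K31.f393443 IH) (Lpe (K31.f393174 IH) (Lpr_gt (K31.f393178 IH) (Lpr_bf (f393555 IH) (Lpe (f393053 IH) (Lpn (LP (LK LD1_c15 LD2_c19 LD3_c57)))))))))))))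
theorem f393799 : Led Lsl_gt (LP (LK LD1_c15 LD2_c17 LD3_c35)) = (LP (LK LD1_c8 LD2_c53 LD3_c59)) :=
  Lgr Lrot150 (Lpe (f280061 IH) (Lpr_gf (f393794 IH) (Lpr_df (K31.f238411 IH) (Lpr_gt (K31.f238408 IH) (Lpe (f393053 IH) (Lpe (f393557 IH) (Lpr_ct (K17.f219014 IH) (Lpe (K17.f223648 IH) (Lpr_cf (K17.f292888 IH) (Lpn (LP (LK LD1_c8 LD2_c53 LD3_c59))))))))))))
theorem f244095 : Led Lsl_ct (LP (LK LD1_c9 LD2_c37 LD3_c33)) = (LP (LK LD1_c17 LD2_c43 LD3_c9)) :=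
  Lre_c IH (LK LD1_c9 LD2_c37 LD3_c33) (LK LD1_c17 LD2_c43 LD3_c9) Lrfl Lrfl
theorem f393702 : Led Lsl_ft (LP (LK LD1_c27 LD2_c30 LD3_c5)) = (LP (LK LD1_c25 LD2_c9 LD3_c32)) :=
  Lgr Lrot4 (Lpr_cf (f393694 IH) (Lpe (K64.f393084 IH) (Lpr_cf (f388462 IH) (Lpn (LP (LK LD1_c25 LD2_c9 LD3_c32))))))
theorem f244096 : Led Lsl_gt (LP (LK LD1_c17 LD2_c43 LD3_c6)) = (LP (LK LD1_c27 LD2_c30 LD3_c4)) :=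
  Lre_g IH (LK LD1_c17 LD2_c43 LD3_c6) (LK LD1_c27 LD2_c30 LD3_c4) Lrfl Lrfl
theorem f393708 : Led Lsl_af (LP (LK LD1_c27 LD2_c30 LD3_c4)) = (LP (LK LD1_c25 LD2_c9 LD3_c32)) :=
  Lgr Lrot31 (Lpe (f244096 IH) (Lpe (f244276 IH) (Lpr_ft (f393702 IH) (Lpn (LP (LK LD1_c25 LD2_c9 LD3_c32))))))
theorem f393710 : Led Lsl_at (LP (LK LD1_c27 LD2_c30 LD3_c4)) = (LP (LK LD1_c25 LD2_c9 LD3_c32)) :=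
  Lgr Lrot100 (Lpr_af (f393708 IH) (Lpn (LP (LK LD1_c25 LD2_c9 LD3_c32))))
theorem f393706 : Led Lsl_ff (LP (LK LD1_c27 LD2_c30 LD3_c5)) = (LP (LK LD1_c25 LD2_c9 LD3_c32)) :=
  Lgr Lrot3 (Lpr_ft (f393702 IH) (Lpn (LP (LK LD1_c25 LD2_c9 LD3_c32))))
theorem f227123 : Led Lsl_at (LP (LK LD1_c15 LD2_c21 LD3_c18)) = (LP (LK LD1_c25 LD2_c12 LD3_c32)) :=
  Lre_a IH (LK LD1_c15 LD2_c21 LD3_c18) (LK LD1_c25 LD2_c12 LD3_c32) Lrfl Lrfl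
theorem f393696 : Led Lsl_at (LP (LK LD1_c27 LD2_c30 LD3_c5)) = (LP (LK LD1_c25 LD2_c9 LD3_c31)) :=
  Lgr Lrot107 (Lpr_cf (f393694 IH) (Lpe (f227123 IH) (Lpr_cf (K30.f227118 IH) (Lpn (LP (LK LD1_c25 LD2_c9 LD3_c31))))))
theorem f393720 : Led Lsl_ff (LP (LK LD1_c27 LD2_c30 LD3_c4)) = (LP (LK LD1_c25 LD2_c9 LD3_c31)) :=
  Lgr Lrot30 (Lpr_at (f393710 IH) (Lpe (f393706 IH) (Lpr_at (f393696 IH) (Lpn (LP (LK LD1_c25 LD2_c9 LD3_c31))))))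
theorem f227168 : Led Lsl_ct (LP (LK LD1_c8 LD2_c7 LD3_c57)) = (LP (LK LD1_c15 LD2_c18 LD3_c46)) :=
  Lre_c IH (LK LD1_c8 LD2_c7 LD3_c57) (LK LD1_c15 LD2_c18 LD3_c46) Lrfl Lrfl
theorem f393151 : Led Lsl_gf (LP (LK LD1_c25 LD2_c9 LD3_c32)) = (LP (LK LD1_c15 LD2_c18 LD3_c46)) :=
  Lgr Lrot104 (Lpe (f388462 IH) (Lpr_df (K31.f244098 IH) (Lpr_cf (K31.f393128 IH) (Lpr_gf (K31.f393147 IH) (Lpe (K31.f220820 IH) (Lpr_gf (K31.f292262 IH) (Lpe (K17.f244104 IH) (Lpe (f292328 IH) (Lpr_ct (f227168 IH) (Lpn (LP (LK LD1_c15 LD2_c18 LD3_c46))))))))))))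
theorem f393722 : Led Lsl_gt (LP (LK LD1_c25 LD2_c9 LD3_c31)) = (LP (LK LD1_c15 LD2_c18 LD3_c46)) :=
  Lgr Lrot5 (Lpe (f393720 IH) (Lpr_at (f393710 IH) (Lpr_gf (f393151 IH) (Lpn (LP (LK LD1_c15 LD2_c18 LD3_c46))))))
theorem f227167 : Led Lsl_ct (LP (LK LD1_c15 LD2_c18 LD3_c46)) = (LP (LK LD1_c8 LD2_c7 LD3_c57)) :=
  Lre_c IH (LK LD1_c15 LD2_c18 LD3_c46) (LK LD1_c8 LD2_c7 LD3_c57) Lrfl Lrfl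
theorem f253904 : Led Lsl_bt (LP (LK LD1_c11 LD2_c5 LD3_c0)) = (LP (LK LD1_c5 LD2_c36 LD3_c28)) :=
  Lre_b IH (LK LD1_c11 LD2_c5 LD3_c0) (LK LD1_c5 LD2_c36 LD3_c28) Lrfl Lrfl
theorem f278261 : Led Lsl_bf (LP (LK LD1_c8 LD2_c11 LD3_c22)) = (LP (LK LD1_c5 LD2_c36 LD3_c29)) :=
  Lgr Lrot96 (Lpr_et (K23.f278250 IH) (Lpe (K18.f254162 IH) (Lpr_et (K15.f254207 IH) (Lpn (LP (LK LD1_c5 LD2_c36 LD3_c29))))))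
theorem f274397 : Led Lsl_bt (LP (LK LD1_c19 LD2_c57 LD3_c50)) = (LP (LK LD1_c11 LD2_c5 LD3_c2)) :=
  Lre_b IH (LK LD1_c19 LD2_c57 LD3_c50) (LK LD1_c11 LD2_c5 LD3_c2) Lrfl Lrfl
theorem f278272 : Led Lsl_bt (LP (LK LD1_c10 LD2_c35 LD3_c2)) = (LP (LK LD1_c19 LD2_c10 LD3_c33)) :=
  Lre_b IH (LK LD1_c10 LD2_c35 LD3_c2) (LK LD1_c19 LD2_c10 LD3_c33) Lrfl Lrfl
theorem f278273 : Led Lsl_cf (LP (LK LD1_c19 LD2_c57 LD3_c50)) = (LP (LK LD1_c19 LD2_c10 LD3_c33)) :=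
  Lgr Lrot97 (Lpr_bt (f274397 IH) (Lpr_ct (K23.f253660 IH) (Lpe (f278261 IH) (Lpr_ct (K23.f278267 IH) (Lpr_bt (f278272 IH) (Lpn (LP (LK LD1_c19 LD2_c10 LD3_c33))))))))
theorem f278277 : Led Lsl_et (LP (LK LD1_c19 LD2_c57 LD3_c50)) = (LP (LK LD1_c11 LD2_c5 LD3_c0)) :=
  Lre_e IH (LK LD1_c19 LD2_c57 LD3_c50) (LK LD1_c11 LD2_c5 LD3_c0) Lrfl Lrfl
theorem f278278 : Led Lsl_et (LP (LK LD1_c10 LD2_c35 LD3_c1)) = (LP (LK LD1_c19 LD2_c10 LD3_c33)) :=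
  Lre_e IH (LK LD1_c10 LD2_c35 LD3_c1) (LK LD1_c19 LD2_c10 LD3_c33) Lrfl Lrfl
theorem f278279 : Led Lsl_ct (LP (LK LD1_c11 LD2_c5 LD3_c0)) = (LP (LK LD1_c10 LD2_c35 LD3_c1)) :=
  Lgr Lrot15 (Lpe (f278277 IH) (Lpr_cf (f278273 IH) (Lpe (f278278 IH) (Lpn (LP (LK LD1_c10 LD2_c35 LD3_c1))))))
theorem f253939 : Led Lsl_gt (LP (LK LD1_c10 LD2_c35 LD3_c1)) = (LP (LK LD1_c19 LD2_c10 LD3_c31)) :=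
  Lre_g IH (LK LD1_c10 LD2_c35 LD3_c1) (LK LD1_c19 LD2_c10 LD3_c31) Lrfl Lrfl
theorem f278287 : Led Lsl_ct (LP (LK LD1_c28 LD2_c36 LD3_c37)) = (LP (LK LD1_c19 LD2_c10 LD3_c31)) :=
  Lre_c IH (LK LD1_c28 LD2_c36 LD3_c37) (LK LD1_c19 LD2_c10 LD3_c31) Lrfl Lrfl
theorem f393726 : Led Lsl_bf (LP (LK LD1_c25 LD2_c9 LD3_c31)) = (LP (LK LD1_c28 LD2_c36 LD3_c37)) :=
  Lgr Lrot165 (Lpr_gt (f393722 IH) (Lpr_ct (f227167 IH) (Lpr_gt (f226857 IH) (Lpe (K30.f226827 IH) (Lpr_bt (K30.f226826 IH) (Lpr_gt (K14.f253899 IH) (Lpe (f253904 IH) (Lpr_ct (f278279 IH) (Lpr_gt (f253939 IH) (Lpe (f278287 IH) (Lpn (LP (LK LD1_c28 LD2_c36 LD3_c37)))))))))))))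
theorem f393739 : Led Lsl_bt (LP (LK LD1_c25 LD2_c9 LD3_c31)) = (LP (LK LD1_c28 LD2_c36 LD3_c37)) :=
  Lgr Lrot127 (Lpr_bf (f393726 IH) (Lpn (LP (LK LD1_c28 LD2_c36 LD3_c37))))
theorem f331975 : Led Lsl_bt (LP (LK LD1_c10 LD2_c46 LD3_c54)) = (LP (LK LD1_c19 LD2_c30 LD3_c7)) :=
  Lre_b IH (LK LD1_c10 LD2_c46 LD3_c54) (LK LD1_c19 LD2_c30 LD3_c7) Lrfl Lrfl
theorem f393197 : Led Lsl_ft (LP (LK LD1_c19 LD2_c30 LD3_c7)) = (LP (LK LD1_c26 LD2_c43 LD3_c12)) :=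
  Lgr Lrot75 (Lpe (f331975 IH) (Lpr_ff (K31.f393195 IH) (Lpe (K31.f213845 IH) (Lpn (LP (LK LD1_c26 LD2_c43 LD3_c12))))))
theorem f393644 : Led Lsl_ff (LP (LK LD1_c19 LD2_c30 LD3_c7)) = (LP (LK LD1_c26 LD2_c43 LD3_c12)) :=
  Lgr Lrot3 (Lpr_ft (f393197 IH) (Lpn (LP (LK LD1_c26 LD2_c43 LD3_c12))))
theorem f388469 : Led Lsl_ct (LP (LK LD1_c19 LD2_c29 LD3_c12)) = (LP (LK LD1_c26 LD2_c43 LD3_c12)) :=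
  Lgr Lrot83 (Lpr_bf (f388467 IH) (Lpe (f388459 IH) (Lpr_bf (K31.f388156 IH) (Lpe (K31.f388152 IH) (Lpe (K31.f213845 IH) (Lpn (LP (LK LD1_c26 LD2_c43 LD3_c12))))))))
theorem f393646 : Led Lsl_ft (LP (LK LD1_c24 LD2_c49 LD3_c26)) = (LP (LK LD1_c19 LD2_c29 LD3_c12)) :=
  Lgr Lrot4 (Lpr_cf (f371502 IH) (Lpr_ff (f393644 IH) (Lpe (f388469 IH) (Lpn (LP (LK LD1_c19 LD2_c29 LD3_c12))))))
theorem f371362 : Led Lsl_gt (LP (LK LD1_c15 LD2_c1 LD3_c27)) = (LP (LK LD1_c24 LD2_c49 LD3_c25)) :=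
  Lre_g IH (LK LD1_c15 LD2_c1 LD3_c27) (LK LD1_c24 LD2_c49 LD3_c25) Lrfl Lrfl
theorem f393648 : Led Lsl_af (LP (LK LD1_c24 LD2_c49 LD3_c25)) = (LP (LK LD1_c19 LD2_c29 LD3_c12)) :=
  Lgr Lrot31 (Lpe (f371362 IH) (Lpe (f371456 IH) (Lpr_ft (f393646 IH) (Lpn (LP (LK LD1_c19 LD2_c29 LD3_c12))))))
theorem f393650 : Led Lsl_at (LP (LK LD1_c24 LD2_c49 LD3_c25)) = (LP (LK LD1_c19 LD2_c29 LD3_c12)) :=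
  Lgr Lrot100 (Lpr_af (f393648 IH) (Lpn (LP (LK LD1_c19 LD2_c29 LD3_c12))))
theorem f370281 : Led Lsl_ft (LP (LK LD1_c10 LD2_c46 LD3_c31)) = (LP (LK LD1_c15 LD2_c1 LD3_c27)) :=
  Lgr Lrot75 (Lpe (f282875 IH) (Lpr_ff (K27.f370279 IH) (Lpe (K31.f370262 IH) (Lpn (LP (LK LD1_c15 LD2_c1 LD3_c27))))))
theorem f282876 : Led Lsl_gt (LP (LK LD1_c10 LD2_c46 LD3_c31)) = (LP (LK LD1_c19 LD2_c29 LD3_c11)) :=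
  Lre_g IH (LK LD1_c10 LD2_c46 LD3_c31) (LK LD1_c19 LD2_c29 LD3_c11) Lrfl Lrfl
theorem f371459 : Led Lsl_at (LP (LK LD1_c15 LD2_c1 LD3_c27)) = (LP (LK LD1_c24 LD2_c49 LD3_c27)) :=
  Lre_a IH (LK LD1_c15 LD2_c1 LD3_c27) (LK LD1_c24 LD2_c49 LD3_c27) Lrfl Lrfl
theorem f375048 : Led Lsl_gt (LP (LK LD1_c19 LD2_c29 LD3_c11)) = (LP (LK LD1_c24 LD2_c49 LD3_c27)) :=
  Lgr Lrot46 (Lpe (f282876 IH) (Lpr_ft (f370281 IH) (Lpr_at (f371459 IH) (Lpn (LP (LK LD1_c24 LD2_c49 LD3_c27))))))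
theorem f393652 : Led Lsl_ff (LP (LK LD1_c24 LD2_c49 LD3_c25)) = (LP (LK LD1_c19 LD2_c29 LD3_c11)) :=
  Lgr Lrot52 (Lpr_at (f393650 IH) (Lpe (K31.f371464 IH) (Lpe (f375048 IH) (Lpn (LP (LK LD1_c19 LD2_c29 LD3_c11))))))
theorem f393658 : Led Lsl_ft (LP (LK LD1_c24 LD2_c49 LD3_c25)) = (LP (LK LD1_c19 LD2_c29 LD3_c11)) :=
  Lgr Lrot48 (Lpr_ff (f393652 IH) (Lpn (LP (LK LD1_c19 LD2_c29 LD3_c11))))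
theorem f231238 : Led Lsl_ct (LP (LK LD1_c4 LD2_c27 LD3_c42)) = (LP (LK LD1_c2 LD2_c11 LD3_c1)) :=
  Lre_c IH (LK LD1_c4 LD2_c27 LD3_c42) (LK LD1_c2 LD2_c11 LD3_c1) Lrfl Lrfl
theorem f253923 : Led Lsl_gt (LP (LK LD1_c19 LD2_c10 LD3_c32)) = (LP (LK LD1_c10 LD2_c35 LD3_c1)) :=
  Lre_g IH (LK LD1_c19 LD2_c10 LD3_c32) (LK LD1_c10 LD2_c35 LD3_c1) Lrfl Lrfl
theorem f278284 : Led Lsl_ct (LP (LK LD1_c28 LD2_c36 LD3_c39)) = (LP (LK LD1_c19 LD2_c10 LD3_c32)) :=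
  Lre_c IH (LK LD1_c28 LD2_c36 LD3_c39) (LK LD1_c19 LD2_c10 LD3_c32) Lrfl Lrfl
theorem f370222 : Led Lsl_cf (LP (LK LD1_c4 LD2_c3 LD3_c39)) = (LP (LK LD1_c7 LD2_c57 LD3_c56)) :=
  Lgr Lrot14 (Lpe (K16.f276689 IH) (Lpr_gf (K16.f276675 IH) (Lpe (K18.f290777 IH) (Lpe (K18.f300771 IH) (Lpr_ct (K16.f170857 IH) (Lpe (K16.f275471 IH) (Lpr_dt (K18.f224012 IH) (Lpr_gt (K27.f370214 IH) (Lpr_dt (K27.f223169 IH) (Lpn (LP (LK LD1_c7 LD2_c57 LD3_c56))))))))))))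
theorem f371363 : Led Lsl_bt (LP (LK LD1_c28 LD2_c36 LD3_c39)) = (LP (LK LD1_c24 LD2_c49 LD3_c25)) :=
  Lgr Lrot92 (Lpr_ct (f278284 IH) (Lpr_gt (f253923 IH) (Lpe (f278279 IH) (Lpr_bt (f253904 IH) (Lpe (K20.f276236 IH) (Lpr_ct (f231238 IH) (Lpr_gt (K30.f371360 IH) (Lpr_cf (f370222 IH) (Lpr_bt (K31.f370270 IH) (Lpr_gt (f371362 IH) (Lpn (LP (LK LD1_c24 LD2_c49 LD3_c25)))))))))))))
theorem f221736 : Led Lsl_bt (LP (LK LD1_c15 LD2_c1 LD3_c21)) = (LP (LK LD1_c7 LD2_c57 LD3_c54)) :=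
  Lre_b IH (LK LD1_c15 LD2_c1 LD3_c21) (LK LD1_c7 LD2_c57 LD3_c54) Lrfl Lrfl
theorem f221682 : Led Lsl_bt (LP (LK LD1_c7 LD2_c57 LD3_c54)) = (LP (LK LD1_c15 LD2_c1 LD3_c21)) :=
  Lre_b IH (LK LD1_c7 LD2_c57 LD3_c54) (LK LD1_c15 LD2_c1 LD3_c21) Lrfl Lrfl
theorem f169255 : Led Lsl_bt (LP (LK LD1_c9 LD2_c41 LD3_c13)) = (LP (LK LD1_c4 LD2_c54 LD3_c54)) :=
  Lre_b IH (LK LD1_c9 LD2_c41 LD3_c13) (LK LD1_c4 LD2_c54 LD3_c54) Lrfl Lrfl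
theorem f221683 : Led Lsl_ct (LP (LK LD1_c15 LD2_c1 LD3_c21)) = (LP (LK LD1_c9 LD2_c41 LD3_c13)) :=
  Lgr Lrot83 (Lpe (f221682 IH) (Lpe (K14.f219131 IH) (Lpr_bf (K15.f221678 IH) (Lpe (K14.f218559 IH) (Lpe (f169255 IH) (Lpn (LP (LK LD1_c9 LD2_c41 LD3_c13))))))))
theorem f218581 : Led Lsl_gt (LP (LK LD1_c17 LD2_c49 LD3_c2)) = (LP (LK LD1_c9 LD2_c41 LD3_c13)) :=
  Lre_g IH (LK LD1_c17 LD2_c49 LD3_c2) (LK LD1_c9 LD2_c41 LD3_c13) Lrfl Lrfl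
theorem f221744 : Led Lsl_ct (LP (LK LD1_c27 LD2_c36 LD3_c6)) = (LP (LK LD1_c17 LD2_c49 LD3_c2)) :=
  Lre_c IH (LK LD1_c27 LD2_c36 LD3_c6) (LK LD1_c17 LD2_c49 LD3_c2) Lrfl Lrfl
theorem f282877 : Led Lsl_bf (LP (LK LD1_c19 LD2_c29 LD3_c11)) = (LP (LK LD1_c27 LD2_c36 LD3_c6)) :=
  Lgr Lrot34 (Lpe (f282876 IH) (Lpe (f282875 IH) (Lpr_ct (K20.f197008 IH) (Lpr_gf (K18.f282846 IH) (Lpr_cf (K18.f260987 IH) (Lpr_gf (K15.f254139 IH) (Lpe (f221736 IH) (Lpr_ct (f221683 IH) (Lpe (f218581 IH) (Lpe (f221744 IH) (Lpn (LP (LK LD1_c27 LD2_c36 LD3_c6)))))))))))))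
theorem f282880 : Led Lsl_bt (LP (LK LD1_c19 LD2_c29 LD3_c11)) = (LP (LK LD1_c27 LD2_c36 LD3_c6)) :=
  Lgr Lrot127 (Lpr_bf (f282877 IH) (Lpn (LP (LK LD1_c27 LD2_c36 LD3_c6))))
theorem f393662 : Led Lsl_ff (LP (LK LD1_c28 LD2_c36 LD3_c39)) = (LP (LK LD1_c27 LD2_c36 LD3_c6)) :=
  Lgr Lrot25 (Lpr_bt (f371363 IH) (Lpr_ft (f393658 IH) (Lpr_bt (f282880 IH) (Lpn (LP (LK LD1_c27 LD2_c36 LD3_c6))))))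
theorem f274918 : Led Lsl_ct (LP (LK LD1_c17 LD2_c49 LD3_c2)) = (LP (LK LD1_c27 LD2_c36 LD3_c6)) :=
  Lre_c IH (LK LD1_c17 LD2_c49 LD3_c2) (LK LD1_c27 LD2_c36 LD3_c6) Lrfl Lrfl
theorem f393664 : Led Lsl_ft (LP (LK LD1_c19 LD2_c10 LD3_c32)) = (LP (LK LD1_c17 LD2_c49 LD3_c2)) :=
  Lgr Lrot4 (Lpe (f278284 IH) (Lpr_ff (f393662 IH) (Lpe (f274918 IH) (Lpn (LP (LK LD1_c17 LD2_c49 LD3_c2))))))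
theorem f393668 : Led Lsl_af (LP (LK LD1_c19 LD2_c10 LD3_c31)) = (LP (LK LD1_c17 LD2_c49 LD3_c2)) :=
  Lgr Lrot31 (Lpe (f253939 IH) (Lpe (f253923 IH) (Lpr_ft (f393664 IH) (Lpn (LP (LK LD1_c17 LD2_c49 LD3_c2))))))
theorem f278283 : Led Lsl_ct (LP (LK LD1_c19 LD2_c10 LD3_c31)) = (LP (LK LD1_c28 LD2_c36 LD3_c37)) :=
  Lre_c IH (LK LD1_c19 LD2_c10 LD3_c31) (LK LD1_c28 LD2_c36 LD3_c37) Lrfl Lrfl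
theorem f393672 : Led Lsl_at (LP (LK LD1_c28 LD2_c36 LD3_c37)) = (LP (LK LD1_c27 LD2_c36 LD3_c6)) :=
  Lgr Lrot107 (Lpe (f278283 IH) (Lpr_af (f393668 IH) (Lpe (f221744 IH) (Lpn (LP (LK LD1_c27 LD2_c36 LD3_c6))))))
theorem f223296 : Led Lsl_ct (LP (LK LD1_c9 LD2_c41 LD3_c1)) = (LP (LK LD1_c4 LD2_c54 LD3_c58)) :=
  Lre_c IH (LK LD1_c9 LD2_c41 LD3_c1) (LK LD1_c4 LD2_c54 LD3_c58) Lrfl Lrfl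
theorem f223336 : Led Lsl_gt (LP (LK LD1_c9 LD2_c41 LD3_c26)) = (LP (LK LD1_c4 LD2_c54 LD3_c58)) :=
  Lre_g IH (LK LD1_c9 LD2_c41 LD3_c26) (LK LD1_c4 LD2_c54 LD3_c58) Lrfl Lrfl
theorem f223337 : Led Lsl_ct (LP (LK LD1_c17 LD2_c49 LD3_c27)) = (LP (LK LD1_c9 LD2_c41 LD3_c26)) :=
  Lre_c IH (LK LD1_c17 LD2_c49 LD3_c27) (LK LD1_c9 LD2_c41 LD3_c26) Lrfl Lrfl
theorem f270954 : Led Lsl_bt (LP (LK LD1_c5 LD2_c28 LD3_c20)) = (LP (LK LD1_c2 LD2_c40 LD3_c30)) :=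
  Lre_b IH (LK LD1_c5 LD2_c28 LD3_c20) (LK LD1_c2 LD2_c40 LD3_c30) Lrfl Lrfl
theorem f178167 : Led Lsl_bt (LP (LK LD1_c10 LD2_c47 LD3_c60)) = (LP (LK LD1_c19 LD2_c32 LD3_c10)) :=
  Lre_b IH (LK LD1_c10 LD2_c47 LD3_c60) (LK LD1_c19 LD2_c32 LD3_c10) Lrfl Lrfl
theorem f274887 : Led Lsl_gf (LP (LK LD1_c17 LD2_c49 LD3_c27)) = (LP (LK LD1_c19 LD2_c32 LD3_c10)) :=
  Lgr Lrot181 (Lpr_ct (f223337 IH) (Lpr_gt (f223336 IH) (Lpe (f223296 IH) (Lpr_bt (K23.f223284 IH) (Lpr_gt (K16.f274879 IH) (Lpe (f270954 IH) (Lpr_ct (K27.f178154 IH) (Lpr_gt (K27.f7736 IH) (Lpe (K64.f178166 IH) (Lpr_bt (f178167 IH) (Lpn (LP (LK LD1_c19 LD2_c32 LD3_c10)))))))))))))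
theorem f178159 : Led Lsl_bt (LP (LK LD1_c19 LD2_c31 LD3_c43)) = (LP (LK LD1_c10 LD2_c47 LD3_c45)) :=
  Lre_b IH (LK LD1_c19 LD2_c31 LD3_c43) (LK LD1_c10 LD2_c47 LD3_c45) Lrfl Lrfl
theorem f178148 : Led Lsl_bt (LP (LK LD1_c10 LD2_c47 LD3_c45)) = (LP (LK LD1_c19 LD2_c31 LD3_c43)) :=
  Lre_b IH (LK LD1_c10 LD2_c47 LD3_c45) (LK LD1_c19 LD2_c31 LD3_c43) Lrfl Lrfl
theorem f178139 : Led Lsl_bt (LP (LK LD1_c19 LD2_c58 LD3_c27)) = (LP (LK LD1_c11 LD2_c5 LD3_c21)) :=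
  Lre_b IH (LK LD1_c19 LD2_c58 LD3_c27) (LK LD1_c11 LD2_c5 LD3_c21) Lrfl Lrfl
theorem f178149 : Led Lsl_ct (LP (LK LD1_c19 LD2_c31 LD3_c43)) = (LP (LK LD1_c19 LD2_c58 LD3_c27)) :=
  Lgr Lrot83 (Lpe (f178148 IH) (Lpr_cf (K30.f178119 IH) (Lpe (K30.f178143 IH) (Lpe (K30.f178132 IH) (Lpe (f178139 IH) (Lpn (LP (LK LD1_c19 LD2_c58 LD3_c27))))))))
theorem f174939 : Led Lsl_bt (LP (LK LD1_c4 LD2_c27 LD3_c32)) = (LP (LK LD1_c8 LD2_c52 LD3_c54)) :=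
  Lre_b IH (LK LD1_c4 LD2_c27 LD3_c32) (LK LD1_c8 LD2_c52 LD3_c54) Lrfl Lrfl
theorem f174940 : Led Lsl_gt (LP (LK LD1_c8 LD2_c52 LD3_c54)) = (LP (LK LD1_c16 LD2_c36 LD3_c13)) :=
  Lre_g IH (LK LD1_c8 LD2_c52 LD3_c54) (LK LD1_c16 LD2_c36 LD3_c13) Lrfl Lrfl
theorem f261080 : Led Lsl_ct (LP (LK LD1_c16 LD2_c36 LD3_c13)) = (LP (LK LD1_c26 LD2_c33 LD3_c8)) :=
  Lre_c IH (LK LD1_c16 LD2_c36 LD3_c13) (LK LD1_c26 LD2_c33 LD3_c8) Lrfl Lrfl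
theorem f261081 : Led Lsl_gt (LP (LK LD1_c26 LD2_c33 LD3_c8)) = (LP (LK LD1_c19 LD2_c58 LD3_c27)) :=
  Lgr Lrot149 (Lpe (f261080 IH) (Lpe (f174940 IH) (Lpe (f174939 IH) (Lpr_ct (K15.f220857 IH) (Lpr_gf (K15.f261069 IH) (Lpe (K16.f7846 IH) (Lpr_bt (K27.f7849 IH) (Lpe (K30.f178115 IH) (Lpe (f178159 IH) (Lpr_ct (f178149 IH) (Lpn (LP (LK LD1_c19 LD2_c58 LD3_c27)))))))))))))
theorem f274901 : Led Lsl_bf (LP (LK LD1_c17 LD2_c49 LD3_c27)) = (LP (LK LD1_c16 LD2_c36 LD3_c13)) :=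
  Lgr Lrot34 (Lpr_gf (f274887 IH) (Lpe (f178167 IH) (Lpr_ct (K64.f178166 IH) (Lpe (K27.f7736 IH) (Lpe (K27.f178154 IH) (Lpe (K30.f178115 IH) (Lpe (f178159 IH) (Lpr_ct (f178149 IH) (Lpe (f261081 IH) (Lpe (f261080 IH) (Lpn (LP (LK LD1_c16 LD2_c36 LD3_c13)))))))))))))
theorem f274900 : Led Lsl_bt (LP (LK LD1_c9 LD2_c41 LD3_c26)) = (LP (LK LD1_c17 LD2_c49 LD3_c26)) :=
  Lre_b IH (LK LD1_c9 LD2_c41 LD3_c26) (LK LD1_c17 LD2_c49 LD3_c26) Lrfl Lrfl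
theorem f274905 : Led Lsl_ct (LP (LK LD1_c17 LD2_c49 LD3_c26)) = (LP (LK LD1_c27 LD2_c36 LD3_c33)) :=
  Lre_c IH (LK LD1_c17 LD2_c49 LD3_c26) (LK LD1_c27 LD2_c36 LD3_c33) Lrfl Lrfl
theorem f261083 : Led Lsl_ct (LP (LK LD1_c26 LD2_c33 LD3_c8)) = (LP (LK LD1_c16 LD2_c36 LD3_c13)) :=
  Lre_c IH (LK LD1_c26 LD2_c33 LD3_c8) (LK LD1_c16 LD2_c36 LD3_c13) Lrfl Lrfl
theorem f274906 : Led Lsl_bt (LP (LK LD1_c27 LD2_c36 LD3_c33)) = (LP (LK LD1_c26 LD2_c33 LD3_c8)) :=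
  Lgr Lrot128 (Lpe (f274905 IH) (Lpe (f274900 IH) (Lpe (f223337 IH) (Lpr_bf (f274901 IH) (Lpe (f261083 IH) (Lpn (LP (LK LD1_c26 LD2_c33 LD3_c8))))))))
theorem f274909 : Led Lsl_bf (LP (LK LD1_c27 LD2_c36 LD3_c33)) = (LP (LK LD1_c26 LD2_c33 LD3_c8)) :=
  Lgr Lrot24 (Lpr_bt (f274906 IH) (Lpn (LP (LK LD1_c26 LD2_c33 LD3_c8))))
theorem f261061 : Led Lsl_bt (LP (LK LD1_c8 LD2_c52 LD3_c54)) = (LP (LK LD1_c4 LD2_c27 LD3_c32)) :=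
  Lre_b IH (LK LD1_c8 LD2_c52 LD3_c54) (LK LD1_c4 LD2_c27 LD3_c32) Lrfl Lrfl
theorem f261062 : Led Lsl_bt (LP (LK LD1_c5 LD2_c36 LD3_c30)) = (LP (LK LD1_c11 LD2_c5 LD3_c5)) :=
  Lre_b IH (LK LD1_c5 LD2_c36 LD3_c30) (LK LD1_c11 LD2_c5 LD3_c5) Lrfl Lrfl
theorem f261063 : Led Lsl_cf (LP (LK LD1_c8 LD2_c52 LD3_c54)) = (LP (LK LD1_c11 LD2_c5 LD3_c5)) :=
  Lgr Lrot97 (Lpr_bt (f261061 IH) (Lpr_ct (K15.f220857 IH) (Lpe (K18.f261051 IH) (Lpr_ct (K15.f261057 IH) (Lpr_bt (f261062 IH) (Lpn (LP (LK LD1_c11 LD2_c5 LD3_c5))))))))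
theorem f226940 : Led Lsl_bt (LP (LK LD1_c11 LD2_c5 LD3_c5)) = (LP (LK LD1_c5 LD2_c36 LD3_c30)) :=
  Lre_b IH (LK LD1_c11 LD2_c5 LD3_c5) (LK LD1_c5 LD2_c36 LD3_c30) Lrfl Lrfl
theorem f274914 : Led Lsl_gt (LP (LK LD1_c27 LD2_c36 LD3_c33)) = (LP (LK LD1_c27 LD2_c36 LD3_c6)) :=
  Lgr Lrot82 (Lpr_bf (f274909 IH) (Lpr_ct (f261083 IH) (Lpe (f174940 IH) (Lpr_cf (f261063 IH) (Lpr_bt (f226940 IH) (Lpr_gf (K15.f254139 IH) (Lpe (f221736 IH) (Lpr_ct (f221683 IH) (Lpe (f218581 IH) (Lpe (f221744 IH) (Lpn (LP (LK LD1_c27 LD2_c36 LD3_c6)))))))))))))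
theorem f274917 : Led Lsl_gt (LP (LK LD1_c27 LD2_c36 LD3_c5)) = (LP (LK LD1_c27 LD2_c36 LD3_c33)) :=
  Lre_g IH (LK LD1_c27 LD2_c36 LD3_c5) (LK LD1_c27 LD2_c36 LD3_c33) Lrfl Lrfl
theorem f393676 : Led Lsl_ff (LP (LK LD1_c28 LD2_c36 LD3_c37)) = (LP (LK LD1_c27 LD2_c36 LD3_c5)) :=
  Lgr Lrot52 (Lpr_at (f393672 IH) (Lpe (f274914 IH) (Lpe (f274917 IH) (Lpn (LP (LK LD1_c27 LD2_c36 LD3_c5))))))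
theorem f393682 : Led Lsl_ft (LP (LK LD1_c28 LD2_c36 LD3_c37)) = (LP (LK LD1_c27 LD2_c36 LD3_c5)) :=
  Lgr Lrot48 (Lpr_ff (f393676 IH) (Lpn (LP (LK LD1_c27 LD2_c36 LD3_c5))))
theorem f393674 : Led Lsl_af (LP (LK LD1_c28 LD2_c36 LD3_c37)) = (LP (LK LD1_c27 LD2_c36 LD3_c6)) :=
  Lgr Lrot0 (Lpr_at (f393672 IH) (Lpn (LP (LK LD1_c27 LD2_c36 LD3_c6))))
theorem f371515 : Led Lsl_bf (LP (LK LD1_c28 LD2_c36 LD3_c39)) = (LP (LK LD1_c24 LD2_c49 LD3_c25)) :=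
  Lgr Lrot24 (Lpr_bt (f371363 IH) (Lpn (LP (LK LD1_c24 LD2_c49 LD3_c25))))
theorem f393656 : Led Lsl_ft (LP (LK LD1_c28 LD2_c36 LD3_c39)) = (LP (LK LD1_c27 LD2_c36 LD3_c6)) :=
  Lgr Lrot75 (Lpr_bf (f371515 IH) (Lpr_ff (f393652 IH) (Lpr_bf (f282877 IH) (Lpn (LP (LK LD1_c27 LD2_c36 LD3_c6))))))
theorem f393684 : Led Lsl_af (LP (LK LD1_c28 LD2_c36 LD3_c39)) = (LP (LK LD1_c27 LD2_c36 LD3_c5)) :=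
  Lgr Lrot45 (Lpr_ft (f393656 IH) (Lpe (f393674 IH) (Lpr_ft (f393682 IH) (Lpn (LP (LK LD1_c27 LD2_c36 LD3_c5))))))
theorem f393712 : Led Lsl_bt (LP (LK LD1_c27 LD2_c30 LD3_c4)) = (LP (LK LD1_c27 LD2_c36 LD3_c5)) :=
  Lgr Lrot62 (Lpr_af (f393708 IH) (Lpe (f388465 IH) (Lpe (f393650 IH) (Lpe (f371363 IH) (Lpr_af (f393684 IH) (Lpn (LP (LK LD1_c27 LD2_c36 LD3_c5))))))))
theorem f393714 : Led Lsl_bf (LP (LK LD1_c27 LD2_c30 LD3_c4)) = (LP (LK LD1_c27 LD2_c36 LD3_c5)) :=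
  Lgr Lrot24 (Lpr_bt (f393712 IH) (Lpn (LP (LK LD1_c27 LD2_c36 LD3_c5))))
theorem f393753 : Led Lsl_ff (LP (LK LD1_c25 LD2_c9 LD3_c31)) = (LP (LK LD1_c27 LD2_c30 LD3_c4)) :=
  Lgr Lrot25 (Lpr_bt (f393739 IH) (Lpr_ft (f393682 IH) (Lpe (f393714 IH) (Lpn (LP (LK LD1_c27 LD2_c30 LD3_c4))))))
theorem f393642 : Led Lsl_ff (LP (LK LD1_c24 LD2_c49 LD3_c26)) = (LP (LK LD1_c19 LD2_c29 LD3_c12)) :=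
  Lgr Lrot23 (Lpr_ct (f371504 IH) (Lpr_ft (f393197 IH) (Lpe (K31.f282841 IH) (Lpn (LP (LK LD1_c19 LD2_c29 LD3_c12))))))
theorem f393654 : Led Lsl_at (LP (LK LD1_c24 LD2_c49 LD3_c26)) = (LP (LK LD1_c19 LD2_c29 LD3_c11)) :=
  Lgr Lrot66 (Lpr_ff (f393642 IH) (Lpe (f393650 IH) (Lpr_ff (f393652 IH) (Lpn (LP (LK LD1_c19 LD2_c29 LD3_c11))))))
theorem f393737 : Led Lsl_at (LP (LK LD1_c25 LD2_c9 LD3_c31)) = (LP (LK LD1_c27 LD2_c30 LD3_c5)) :=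
  Lgr Lrot67 (Lpr_bf (f393726 IH) (Lpr_af (f393674 IH) (Lpe (f282880 IH) (Lpe (f393654 IH) (Lpe (f393698 IH) (Lpn (LP (LK LD1_c27 LD2_c30 LD3_c5))))))))
theorem f221758 : Led Lsl_ct (LP (LK LD1_c27 LD2_c36 LD3_c5)) = (LP (LK LD1_c17 LD2_c49 LD3_c1)) :=
  Lre_c IH (LK LD1_c27 LD2_c36 LD3_c5) (LK LD1_c17 LD2_c49 LD3_c1) Lrfl Lrfl
theorem f221742 : Led Lsl_gt (LP (LK LD1_c9 LD2_c41 LD3_c13)) = (LP (LK LD1_c17 LD2_c49 LD3_c1)) :=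
  Lre_g IH (LK LD1_c9 LD2_c41 LD3_c13) (LK LD1_c17 LD2_c49 LD3_c1) Lrfl Lrfl
theorem f393716 : Led Lsl_gt (LP (LK LD1_c27 LD2_c30 LD3_c4)) = (LP (LK LD1_c17 LD2_c43 LD3_c9)) :=
  Lgr Lrot82 (Lpr_bf (f393714 IH) (Lpr_ct (f221758 IH) (Lpe (f221742 IH) (Lpe (f221683 IH) (Lpr_bt (f221736 IH) (Lpe (K16.f261273 IH) (Lpe (K30.f170790 IH) (Lpr_ct (K30.f170703 IH) (Lpe (K38.f170796 IH) (Lpe (K38.f170797 IH) (Lpn (LP (LK LD1_c17 LD2_c43 LD3_c9)))))))))))))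
theorem f393759 : Led Lsl_gf (LP (LK LD1_c27 LD2_c30 LD3_c5)) = (LP (LK LD1_c17 LD2_c43 LD3_c9)) :=
  Lgr Lrot76 (Lpe (f393737 IH) (Lpr_ff (f393753 IH) (Lpr_gt (f393716 IH) (Lpn (LP (LK LD1_c17 LD2_c43 LD3_c9))))))
theorem f728356 : Led Lsl_gf (LP (LK LD1_c20 LD2_c3 LD3_c13)) = (LP (LK LD1_c19 LD2_c30 LD3_c8)) :=
  Lgr Lrot124 (Lpr_bf (f728346 IH) (Lpr_ct (f280061 IH) (Lpr_gt (f393799 IH) (Lpe (K31.f292895 IH) (Lpr_bt (f292991 IH) (Lpr_gt (K38.f292266 IH) (Lpr_ct (f244095 IH) (Lpe (f393759 IH) (Lpr_cf (f393694 IH) (Lpe (f393193 IH) (Lpn (LP (LK LD1_c19 LD2_c30 LD3_c8)))))))))))))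
theorem f179377 : Led Lsl_at (LP (LK LD1_c19 LD2_c33 LD3_c30)) = (LP (LK LD1_c10 LD2_c49 LD3_c18)) :=
  Lre_a IH (LK LD1_c19 LD2_c33 LD3_c30) (LK LD1_c10 LD2_c49 LD3_c18) Lrfl Lrfl
theorem f179378 : Led Lsl_at (LP (LK LD1_c11 LD2_c9 LD3_c11)) = (LP (LK LD1_c20 LD2_c3 LD3_c13)) :=
  Lre_a IH (LK LD1_c11 LD2_c9 LD3_c11) (LK LD1_c20 LD2_c3 LD3_c13) Lrfl Lrfl
theorem f179379 : Led Lsl_cf (LP (LK LD1_c19 LD2_c33 LD3_c30)) = (LP (LK LD1_c20 LD2_c3 LD3_c13)) :=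
  Lgr Lrot1 (Lpr_at (f179377 IH) (Lpr_ct (K30.f179371 IH) (Lpr_at (f179378 IH) (Lpn (LP (LK LD1_c20 LD2_c3 LD3_c13))))))
theorem f179390 : Led Lsl_ct (LP (LK LD1_c19 LD2_c33 LD3_c30)) = (LP (LK LD1_c20 LD2_c3 LD3_c13)) :=
  Lgr Lrot59 (Lpr_cf (f179379 IH) (Lpn (LP (LK LD1_c20 LD2_c3 LD3_c13))))
theorem f223886 : Led Lsl_bt (LP (LK LD1_c4 LD2_c14 LD3_c6)) = (LP (LK LD1_c8 LD2_c26 LD3_c44)) :=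
  Lre_b IH (LK LD1_c4 LD2_c14 LD3_c6) (LK LD1_c8 LD2_c26 LD3_c44) Lrfl Lrfl
theorem f245154 : Led Lsl_gt (LP (LK LD1_c15 LD2_c51 LD3_c30)) = (LP (LK LD1_c8 LD2_c26 LD3_c44)) :=
  Lre_g IH (LK LD1_c15 LD2_c51 LD3_c30) (LK LD1_c8 LD2_c26 LD3_c44) Lrfl Lrfl
theorem f728362 : Led Lsl_bt (LP (LK LD1_c19 LD2_c33 LD3_c30)) = (LP (LK LD1_c15 LD2_c51 LD3_c30)) :=
  Lgr Lrot22 (Lpr_ct (f179390 IH) (Lpr_gf (f728356 IH) (Lpe (K31.f312033 IH) (Lpe (K31.f243666 IH) (Lpe (K18.f243652 IH) (Lpr_ct (K13.f243637 IH) (Lpe (K19.f312028 IH) (Lpe (K13.f188606 IH) (Lpr_bt (f223886 IH) (Lpe (f245154 IH) (Lpn (LP (LK LD1_c15 LD2_c51 LD3_c30)))))))))))))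
theorem f179393 : Led Lsl_at (LP (LK LD1_c10 LD2_c49 LD3_c18)) = (LP (LK LD1_c19 LD2_c33 LD3_c30)) :=
  Lre_a IH (LK LD1_c10 LD2_c49 LD3_c18) (LK LD1_c19 LD2_c33 LD3_c30) Lrfl Lrfl
theorem f179381 : Led Lsl_bt (LP (LK LD1_c5 LD2_c29 LD3_c3)) = (LP (LK LD1_c10 LD2_c49 LD3_c18)) :=
  Lre_b IH (LK LD1_c5 LD2_c29 LD3_c3) (LK LD1_c10 LD2_c49 LD3_c18) Lrfl Lrfl
theorem f393000 : Led Lsl_bt (LP (LK LD1_c16 LD2_c44 LD3_c56)) = (LP (LK LD1_c8 LD2_c56 LD3_c47)) :=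
  Lre_b IH (LK LD1_c16 LD2_c44 LD3_c56) (LK LD1_c8 LD2_c56 LD3_c47) Lrfl Lrfl
theorem f728364 : Led Lsl_af (LP (LK LD1_c16 LD2_c44 LD3_c56)) = (LP (LK LD1_c15 LD2_c51 LD3_c30)) :=
  Lgr Lrot36 (Lpr_bt (f393000 IH) (Lpe (f727871 IH) (Lpr_bt (f179381 IH) (Lpr_at (f179393 IH) (Lpr_bt (f728362 IH) (Lpn (LP (LK LD1_c15 LD2_c51 LD3_c30))))))))
theorem f312022 : Led Lsl_af (LP (LK LD1_c5 LD2_c27 LD3_c36)) = (LP (LK LD1_c4 LD2_c13 LD3_c61)) :=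
  Lgr Lrot68 (Lpe (K17.f278023 IH) (Lpr_at (K19.f312020 IH) (Lpr_ct (K12.f188568 IH) (Lpn (LP (LK LD1_c4 LD2_c13 LD3_c61))))))
theorem f312016 : Led Lsl_ft (LP (LK LD1_c5 LD2_c27 LD3_c36)) = (LP (LK LD1_c4 LD2_c14 LD3_c6)) :=
  Lgr Lrot4 (Lpe (K16.f278013 IH) (Lpr_ff (K19.f312012 IH) (Lpe (K13.f188606 IH) (Lpn (LP (LK LD1_c4 LD2_c14 LD3_c6))))))
theorem f349168 : Led Lsl_at (LP (LK LD1_c4 LD2_c14 LD3_c6)) = (LP (LK LD1_c4 LD2_c55 LD3_c6)) :=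
  Lgr Lrot66 (Lpe (f312016 IH) (Lpr_af (f312022 IH) (Lpr_ff (K26.f349166 IH) (Lpn (LP (LK LD1_c4 LD2_c55 LD3_c6))))))
theorem f349258 : Led Lsl_at (LP (LK LD1_c15 LD2_c51 LD3_c31)) = (LP (LK LD1_c8 LD2_c26 LD3_c44)) :=
  Lre_a IH (LK LD1_c15 LD2_c51 LD3_c31) (LK LD1_c8 LD2_c26 LD3_c44) Lrfl Lrfl
theorem f349259 : Led Lsl_bf (LP (LK LD1_c15 LD2_c51 LD3_c31)) = (LP (LK LD1_c17 LD2_c50 LD3_c6)) :=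
  Lgr Lrot81 (Lpr_at (f349258 IH) (Lpr_bt (K30.f236322 IH) (Lpr_at (f349168 IH) (Lpr_bt (K26.f219090 IH) (Lpr_at (K52.f349255 IH) (Lpn (LP (LK LD1_c17 LD2_c50 LD3_c6))))))))
theorem f392196 : Led Lsl_bt (LP (LK LD1_c8 LD2_c56 LD3_c47)) = (LP (LK LD1_c16 LD2_c44 LD3_c56)) :=
  Lre_b IH (LK LD1_c8 LD2_c56 LD3_c47) (LK LD1_c16 LD2_c44 LD3_c56) Lrfl Lrfl
theorem f409395 : Led Lsl_gf (LP (LK LD1_c15 LD2_c51 LD3_c31)) = (LP (LK LD1_c16 LD2_c44 LD3_c56)) :=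
  Lgr Lrot124 (Lpr_bf (f349259 IH) (Lpr_ct (K52.f349192 IH) (Lpe (K52.f349246 IH) (Lpr_cf (K52.f409391 IH) (Lpr_bt (K52.f236265 IH) (Lpe (K31.f392233 IH) (Lpr_ct (K30.f244978 IH) (Lpe (f392190 IH) (Lpe (K31.f392181 IH) (Lpr_bt (f392196 IH) (Lpn (LP (LK LD1_c16 LD2_c44 LD3_c56)))))))))))))
theorem f349266 : Led Lsl_at (LP (LK LD1_c8 LD2_c26 LD3_c44)) = (LP (LK LD1_c15 LD2_c51 LD3_c31)) :=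
  Lre_a IH (LK LD1_c8 LD2_c26 LD3_c44) (LK LD1_c15 LD2_c51 LD3_c31) Lrfl Lrfl
theorem f409397 : Led Lsl_gt (LP (LK LD1_c10 LD2_c46 LD3_c15)) = (LP (LK LD1_c16 LD2_c44 LD3_c56)) :=
  Lgr Lrot5 (Lpe (f349406 IH) (Lpr_at (f349266 IH) (Lpr_gf (f409395 IH) (Lpn (LP (LK LD1_c16 LD2_c44 LD3_c56))))))
theorem f728378 : Led Lsl_ft (LP (LK LD1_c19 LD2_c28 LD3_c44)) = (LP (LK LD1_c15 LD2_c51 LD3_c30)) :=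
  Lgr Lrot2 (Lpr_gt (f278043 IH) (Lpr_gt (f409397 IH) (Lpr_af (f728364 IH) (Lpn (LP (LK LD1_c15 LD2_c51 LD3_c30))))))
theorem f728382 : Led Lsl_ff (LP (LK LD1_c19 LD2_c28 LD3_c44)) = (LP (LK LD1_c15 LD2_c51 LD3_c30)) :=
  Lgr Lrot3 (Lpr_ft (f728378 IH) (Lpn (LP (LK LD1_c15 LD2_c51 LD3_c30))))
theorem f728366 : Led Lsl_bf (LP (LK LD1_c19 LD2_c33 LD3_c30)) = (LP (LK LD1_c15 LD2_c51 LD3_c30)) :=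
  Lgr Lrot24 (Lpr_bt (f728362 IH) (Lpn (LP (LK LD1_c15 LD2_c51 LD3_c30))))
theorem f727873 : Led Lsl_at (LP (LK LD1_c5 LD2_c29 LD3_c3)) = (LP (LK LD1_c8 LD2_c56 LD3_c47)) :=
  Lgr Lrot100 (Lpr_af (f727871 IH) (Lpn (LP (LK LD1_c8 LD2_c56 LD3_c47))))
theorem f728369 : Led Lsl_at (LP (LK LD1_c16 LD2_c44 LD3_c56)) = (LP (LK LD1_c15 LD2_c51 LD3_c30)) :=
  Lgr Lrot67 (Lpe (f392196 IH) (Lpe (f727873 IH) (Lpe (K22.f179324 IH) (Lpe (f179377 IH) (Lpr_bf (f728366 IH) (Lpn (LP (LK LD1_c15 LD2_c51 LD3_c30))))))))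
theorem f278039 : Led Lsl_at (LP (LK LD1_c10 LD2_c46 LD3_c15)) = (LP (LK LD1_c19 LD2_c28 LD3_c45)) :=
  Lre_a IH (LK LD1_c10 LD2_c46 LD3_c15) (LK LD1_c19 LD2_c28 LD3_c45) Lrfl Lrfl
theorem f349402 : Led Lsl_ff (LP (LK LD1_c15 LD2_c51 LD3_c31)) = (LP (LK LD1_c19 LD2_c28 LD3_c45)) :=
  Lgr Lrot30 (Lpr_at (f349258 IH) (Lpr_ft (K30.f349400 IH) (Lpr_at (f278039 IH) (Lpn (LP (LK LD1_c19 LD2_c28 LD3_c45))))))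
theorem f349479 : Led Lsl_gf (LP (LK LD1_c15 LD2_c51 LD3_c30)) = (LP (LK LD1_c19 LD2_c28 LD3_c45)) :=
  Lgr Lrot47 (Lpr_gt (f245154 IH) (Lpe (f349258 IH) (Lpr_ff (f349402 IH) (Lpn (LP (LK LD1_c19 LD2_c28 LD3_c45))))))
theorem f172917 : Led Lsl_bt (LP (LK LD1_c2 LD2_c40 LD3_c18)) = (LP (LK LD1_c1 LD2_c16 LD3_c53)) :=
  Lre_b IH (LK LD1_c2 LD2_c40 LD3_c18) (LK LD1_c1 LD2_c16 LD3_c53) Lrfl Lrfl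
theorem f245151 : Led Lsl_bt (LP (LK LD1_c5 LD2_c29 LD3_c7)) = (LP (LK LD1_c10 LD2_c49 LD3_c31)) :=
  Lre_b IH (LK LD1_c5 LD2_c29 LD3_c7) (LK LD1_c10 LD2_c49 LD3_c31) Lrfl Lrfl
theorem f245152 : Led Lsl_gt (LP (LK LD1_c8 LD2_c26 LD3_c44)) = (LP (LK LD1_c10 LD2_c49 LD3_c31)) :=
  Lgr Lrot164 (Lpe (f223886 IH) (Lpr_ct (K13.f188606 IH) (Lpr_gf (K15.f245141 IH) (Lpe (K15.f245136 IH) (Lpe (K15.f172918 IH) (Lpe (f172917 IH) (Lpr_ct (K13.f245148 IH) (Lpe (K31.f245149 IH) (Lpe (K31.f245150 IH) (Lpr_bt (f245151 IH) (Lpn (LP (LK LD1_c10 LD2_c49 LD3_c31)))))))))))))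
theorem f349408 : Led Lsl_gt (LP (LK LD1_c10 LD2_c49 LD3_c31)) = (LP (LK LD1_c19 LD2_c28 LD3_c45)) :=
  Lgr Lrot46 (Lpe (f245152 IH) (Lpr_ft (K30.f349400 IH) (Lpr_at (f278039 IH) (Lpn (LP (LK LD1_c19 LD2_c28 LD3_c45))))))
theorem f728373 : Led Lsl_ff (LP (LK LD1_c16 LD2_c44 LD3_c56)) = (LP (LK LD1_c10 LD2_c49 LD3_c31)) :=
  Lgr Lrot52 (Lpr_at (f728369 IH) (Lpr_gf (f349479 IH) (Lpe (f349408 IH) (Lpn (LP (LK LD1_c10 LD2_c49 LD3_c31))))))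
theorem f728384 : Led Lsl_at (LP (LK LD1_c19 LD2_c28 LD3_c44)) = (LP (LK LD1_c10 LD2_c49 LD3_c31)) :=
  Lgr Lrot66 (Lpr_ff (f728382 IH) (Lpe (f728369 IH) (Lpr_ff (f728373 IH) (Lpn (LP (LK LD1_c10 LD2_c49 LD3_c31))))))
theorem f392471 : Led Lsl_bt (LP (LK LD1_c10 LD2_c49 LD3_c31)) = (LP (LK LD1_c5 LD2_c29 LD3_c7)) :=
  Lre_b IH (LK LD1_c10 LD2_c49 LD3_c31) (LK LD1_c5 LD2_c29 LD3_c7) Lrfl Lrfl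
theorem f727983 : Led Lsl_at (LP (LK LD1_c5 LD2_c29 LD3_c7)) = (LP (LK LD1_c8 LD2_c56 LD3_c44)) :=
  Lgr Lrot51 (Lpe (f382542 IH) (Lpr_af (f727979 IH) (Lpe (K30.f388212 IH) (Lpn (LP (LK LD1_c8 LD2_c56 LD3_c44))))))
theorem f319201 : Led Lsl_at (LP (LK LD1_c16 LD2_c44 LD3_c48)) = (LP (LK LD1_c26 LD2_c43 LD3_c43)) :=
  Lre_a IH (LK LD1_c16 LD2_c44 LD3_c48) (LK LD1_c26 LD2_c43 LD3_c43) Lrfl Lrfl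
theorem f728386 : Led Lsl_bf (LP (LK LD1_c19 LD2_c28 LD3_c44)) = (LP (LK LD1_c26 LD2_c43 LD3_c43)) :=
  Lgr Lrot81 (Lpr_at (f728384 IH) (Lpr_bt (f392471 IH) (Lpr_at (f727983 IH) (Lpr_bt (K30.f226525 IH) (Lpr_at (f319201 IH) (Lpn (LP (LK LD1_c26 LD2_c43 LD3_c43))))))))
theorem f319192 : Led Lsl_at (LP (LK LD1_c26 LD2_c43 LD3_c43)) = (LP (LK LD1_c16 LD2_c44 LD3_c48)) :=
  Lre_a IH (LK LD1_c26 LD2_c43 LD3_c43) (LK LD1_c16 LD2_c44 LD3_c48) Lrfl Lrfl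
theorem f319193 : Led Lsl_at (LP (LK LD1_c15 LD2_c22 LD3_c30)) = (LP (LK LD1_c25 LD2_c14 LD3_c19)) :=
  Lre_a IH (LK LD1_c15 LD2_c22 LD3_c30) (LK LD1_c25 LD2_c14 LD3_c19) Lrfl Lrfl
theorem f319194 : Led Lsl_cf (LP (LK LD1_c26 LD2_c43 LD3_c43)) = (LP (LK LD1_c25 LD2_c14 LD3_c19)) :=
  Lgr Lrot1 (Lpr_at (f319192 IH) (Lpr_ct (K31.f319187 IH) (Lpr_at (f319193 IH) (Lpn (LP (LK LD1_c25 LD2_c14 LD3_c19))))))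
theorem f319197 : Led Lsl_ct (LP (LK LD1_c26 LD2_c43 LD3_c43)) = (LP (LK LD1_c25 LD2_c14 LD3_c19)) :=
  Lgr Lrot59 (Lpr_cf (f319194 IH) (Lpn (LP (LK LD1_c25 LD2_c14 LD3_c19))))
theorem f728394 : Led Lsl_gt (LP (LK LD1_c20 LD2_c3 LD3_c12)) = (LP (LK LD1_c25 LD2_c14 LD3_c19)) :=
  Lgr Lrot149 (Lpe (K31.f388152 IH) (Lpe (K31.f213797 IH) (Lpe (K17.f213788 IH) (Lpr_ct (K14.f213789 IH) (Lpe (K14.f213778 IH) (Lpr_cf (K17.f278023 IH) (Lpr_bt (K30.f278020 IH) (Lpe (f278043 IH) (Lpr_bf (f728386 IH) (Lpr_ct (f319197 IH) (Lpn (LP (LK LD1_c25 LD2_c14 LD3_c19)))))))))))))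
theorem f393113 : Led Lsl_dt (LP (LK LD1_c20 LD2_c3 LD3_c12)) = (LP (LK LD1_c15 LD2_c20 LD3_c61)) :=
  Lgr Lrot79 (Lpe (K31.f388158 IH) (Lpr_df (K31.f244098 IH) (Lpr_bf (K31.f393108 IH) (Lpn (LP (LK LD1_c15 LD2_c20 LD3_c61))))))
theorem f728402 : Led Lsl_gf (LP (LK LD1_c19 LD2_c33 LD3_c29)) = (LP (LK LD1_c26 LD2_c43 LD3_c43)) :=
  Lgr Lrot104 (Lpr_ct (K30.f179425 IH) (Lpe (K22.f286679 IH) (Lpe (K31.f52727 IH) (Lpr_gf (K31.f393880 IH) (Lpe (K31.f253211 IH) (Lpe (K31.f393145 IH) (Lpe (f393113 IH) (Lpr_gt (f728394 IH) (Lpe (f319194 IH) (Lpn (LP (LK LD1_c26 LD2_c43 LD3_c43))))))))))))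
theorem f728406 : Led Lsl_ff (LP (LK LD1_c19 LD2_c33 LD3_c30)) = (LP (LK LD1_c26 LD2_c43 LD3_c43)) :=
  Lgr Lrot52 (Lpr_at (f179377 IH) (Lpe (K22.f179387 IH) (Lpr_gf (f728402 IH) (Lpn (LP (LK LD1_c26 LD2_c43 LD3_c43))))))
theorem f728410 : Led Lsl_ft (LP (LK LD1_c20 LD2_c3 LD3_c13)) = (LP (LK LD1_c25 LD2_c14 LD3_c19)) :=
  Lgr Lrot4 (Lpe (f179390 IH) (Lpr_ff (f728406 IH) (Lpr_cf (f319194 IH) (Lpn (LP (LK LD1_c25 LD2_c14 LD3_c19))))))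
theorem f728416 : Led Lsl_ff (LP (LK LD1_c20 LD2_c3 LD3_c13)) = (LP (LK LD1_c25 LD2_c14 LD3_c19)) :=
  Lgr Lrot3 (Lpr_ft (f728410 IH) (Lpn (LP (LK LD1_c25 LD2_c14 LD3_c19))))
theorem f244617 : Led Lsl_at (LP (LK LD1_c25 LD2_c14 LD3_c54)) = (LP (LK LD1_c15 LD2_c22 LD3_c60)) :=
  Lre_a IH (LK LD1_c25 LD2_c14 LD3_c54) (LK LD1_c15 LD2_c22 LD3_c60) Lrfl Lrfl
theorem f244618 : Led Lsl_dt (LP (LK LD1_c20 LD2_c3 LD3_c13)) = (LP (LK LD1_c25 LD2_c14 LD3_c54)) :=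
  Lgr Lrot44 (Lpe (f179378 IH) (Lpr_df (K41.f244562 IH) (Lpe (f244617 IH) (Lpn (LP (LK LD1_c25 LD2_c14 LD3_c54))))))
theorem f319196 : Led Lsl_at (LP (LK LD1_c25 LD2_c14 LD3_c19)) = (LP (LK LD1_c15 LD2_c22 LD3_c30)) :=
  Lre_a IH (LK LD1_c25 LD2_c14 LD3_c19) (LK LD1_c15 LD2_c22 LD3_c30) Lrfl Lrfl
theorem f385122 : Led Lsl_at (LP (LK LD1_c15 LD2_c53 LD3_c13)) = (LP (LK LD1_c25 LD2_c49 LD3_c17)) :=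
  Lre_a IH (LK LD1_c15 LD2_c53 LD3_c13) (LK LD1_c25 LD2_c49 LD3_c17) Lrfl Lrfl
theorem f385123 : Led Lsl_df (LP (LK LD1_c25 LD2_c14 LD3_c19)) = (LP (LK LD1_c25 LD2_c49 LD3_c17)) :=
  Lgr Lrot18 (Lpr_at (f319196 IH) (Lpr_dt (K31.f385119 IH) (Lpr_at (f385122 IH) (Lpn (LP (LK LD1_c25 LD2_c49 LD3_c17))))))
theorem f728418 : Led Lsl_ft (LP (LK LD1_c25 LD2_c14 LD3_c54)) = (LP (LK LD1_c25 LD2_c49 LD3_c17)) :=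
  Lgr Lrot54 (Lpe (f244618 IH) (Lpr_ff (f728416 IH) (Lpr_df (f385123 IH) (Lpn (LP (LK LD1_c25 LD2_c49 LD3_c17))))))
theorem f385132 : Led Lsl_at (LP (LK LD1_c25 LD2_c49 LD3_c17)) = (LP (LK LD1_c15 LD2_c53 LD3_c13)) :=
  Lre_a IH (LK LD1_c25 LD2_c49 LD3_c17) (LK LD1_c15 LD2_c53 LD3_c13) Lrfl Lrfl
theorem f728423 : Led Lsl_gt (LP (LK LD1_c25 LD2_c14 LD3_c54)) = (LP (LK LD1_c20 LD2_c2 LD3_c56)) :=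
  Lgr Lrot5 (Lpr_ft (f728418 IH) (Lpr_at (f385132 IH) (Lpr_gf (K31.f390030 IH) (Lpn (LP (LK LD1_c20 LD2_c2 LD3_c56))))))
theorem f728431 : Led Lsl_bf (LP (LK LD1_c25 LD2_c14 LD3_c54)) = (LP (LK LD1_c25 LD2_c12 LD3_c37)) :=
  Lgr Lrot165 (Lpr_gt (f728423 IH) (Lpr_ct (K31.f256989 IH) (Lpr_gt (K31.f256926 IH) (Lpe (K31.f256931 IH) (Lpr_bt (K31.f244044 IH) (Lpe (K15.f244042 IH) (Lpe (K30.f170702 IH) (Lpe (K16.f170773 IH) (Lpr_gt (K38.f170794 IH) (Lpr_cf (f374739 IH) (Lpn (LP (LK LD1_c25 LD2_c12 LD3_c37)))))))))))))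
theorem f728437 : Led Lsl_bt (LP (LK LD1_c25 LD2_c49 LD3_c17)) = (LP (LK LD1_c25 LD2_c9 LD3_c14)) :=
  Lgr Lrot35 (Lpe (f728418 IH) (Lpr_bf (f728431 IH) (Lpe (f728278 IH) (Lpn (LP (LK LD1_c25 LD2_c9 LD3_c14))))))
theorem f728439 : Led Lsl_bf (LP (LK LD1_c25 LD2_c49 LD3_c17)) = (LP (LK LD1_c25 LD2_c9 LD3_c14)) :=
  Lgr Lrot24 (Lpr_bt (f728437 IH) (Lpn (LP (LK LD1_c25 LD2_c9 LD3_c14))))
theorem f292290 : Led Lsl_gt (LP (LK LD1_c15 LD2_c18 LD3_c32)) = (LP (LK LD1_c15 LD2_c41 LD3_c55)) :=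
  Lgr Lrot46 (Lpe (f201092 IH) (Lpr_ft (K31.f292270 IH) (Lpr_at (K16.f170786 IH) (Lpn (LP (LK LD1_c15 LD2_c41 LD3_c55))))))
theorem f238379 : Led Lsl_ct (LP (LK LD1_c8 LD2_c36 LD3_c48)) = (LP (LK LD1_c16 LD2_c8 LD3_c14)) :=
  Lre_c IH (LK LD1_c8 LD2_c36 LD3_c48) (LK LD1_c16 LD2_c8 LD3_c14) Lrfl Lrfl
theorem f219059 : Led Lsl_cf (LP (LK LD1_c24 LD2_c50 LD3_c50)) = (LP (LK LD1_c15 LD2_c9 LD3_c11)) :=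
  Lgr Lrot11 (Lpr_ct (K31.f219056 IH) (Lpn (LP (LK LD1_c15 LD2_c9 LD3_c11))))
theorem f393831 : Led Lsl_gf (LP (LK LD1_c26 LD2_c4 LD3_c42)) = (LP (LK LD1_c16 LD2_c8 LD3_c14)) :=
  Lgr Lrot104 (Lpr_ct (f393815 IH) (Lpr_df (K31.f391138 IH) (Lpe (K31.f391115 IH) (Lpr_gf (K41.f391057 IH) (Lpr_cf (f219059 IH) (Lpe (K31.f390979 IH) (Lpe (K17.f200938 IH) (Lpe (f292998 IH) (Lpr_ct (f238379 IH) (Lpn (LP (LK LD1_c16 LD2_c8 LD3_c14))))))))))))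
theorem f728592 : Led Lsl_gf (LP (LK LD1_c25 LD2_c49 LD3_c17)) = (LP (LK LD1_c19 LD2_c11 LD3_c57)) :=
  Lgr Lrot124 (Lpr_bf (f728439 IH) (Lpr_ct (f227074 IH) (Lpr_gt (f292290 IH) (Lpr_cf (K31.f170800 IH) (Lpr_bt (K16.f256675 IH) (Lpe (f292998 IH) (Lpr_ct (f238379 IH) (Lpe (f393831 IH) (Lpr_cf (f393809 IH) (Lpr_bt (K38.f388132 IH) (Lpn (LP (LK LD1_c19 LD2_c11 LD3_c57)))))))))))))
theorem f728594 : Led Lsl_ff (LP (LK LD1_c15 LD2_c53 LD3_c13)) = (LP (LK LD1_c15 LD2_c22 LD3_c60)) :=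
  Lgr Lrot52 (Lpr_at (f385122 IH) (Lpr_gf (f728592 IH) (Lpr_gf (K41.f388154 IH) (Lpn (LP (LK LD1_c15 LD2_c22 LD3_c60))))))
theorem f728596 : Led Lsl_ft (LP (LK LD1_c25 LD2_c49 LD3_c18)) = (LP (LK LD1_c25 LD2_c14 LD3_c55)) :=
  Lgr Lrot4 (Lpe (K30.f200433 IH) (Lpr_ff (f728594 IH) (Lpe (K30.f244074 IH) (Lpn (LP (LK LD1_c25 LD2_c14 LD3_c55))))))
theorem f728687 : Led Lsl_ff (LP (LK LD1_c25 LD2_c49 LD3_c18)) = (LP (LK LD1_c25 LD2_c14 LD3_c55)) :=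
  Lgr Lrot3 (Lpr_ft (f728596 IH) (Lpn (LP (LK LD1_c25 LD2_c14 LD3_c55))))
theorem f396721 : Led Lsl_bt (LP (LK LD1_c25 LD2_c49 LD3_c18)) = (LP (LK LD1_c19 LD2_c14 LD3_c31)) :=
  Lgr Lrot127 (Lpr_bf (K30.f332736 IH) (Lpn (LP (LK LD1_c19 LD2_c14 LD3_c31))))
theorem f728689 : Led Lsl_ft (LP (LK LD1_c19 LD2_c14 LD3_c31)) = (LP (LK LD1_c28 LD2_c29 LD3_c36)) :=
  Lgr Lrot75 (Lpe (f396721 IH) (Lpr_ff (f728687 IH) (Lpe (K30.f277910 IH) (Lpn (LP (LK LD1_c28 LD2_c29 LD3_c36))))))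
theorem f728691 : Led Lsl_ff (LP (LK LD1_c10 LD2_c37 LD3_c23)) = (LP (LK LD1_c19 LD2_c3 LD3_c21)) :=
  Lgr Lrot23 (Lpr_ct (K30.f235926 IH) (Lpr_ft (f728689 IH) (Lpr_ct (K30.f256965 IH) (Lpn (LP (LK LD1_c19 LD2_c3 LD3_c21))))))
theorem f728693 : Led Lsl_at (LP (LK LD1_c10 LD2_c37 LD3_c23)) = (LP (LK LD1_c19 LD2_c3 LD3_c22)) :=
  Lgr Lrot26 (Lpr_ff (f728691 IH) (Lpe (K38.f312870 IH) (Lpr_gt (K38.f312864 IH) (Lpn (LP (LK LD1_c19 LD2_c3 LD3_c22))))))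
theorem f217663 : Led Lsl_dt (LP (LK LD1_c10 LD2_c39 LD3_c43)) = (LP (LK LD1_c5 LD2_c24 LD3_c30)) :=
  Lre_d IH (LK LD1_c10 LD2_c39 LD3_c43) (LK LD1_c5 LD2_c24 LD3_c30) Lrfl Lrfl
theorem f217664 : Led Lsl_gt (LP (LK LD1_c19 LD2_c18 LD3_c25)) = (LP (LK LD1_c10 LD2_c39 LD3_c43)) :=
  Lre_g IH (LK LD1_c19 LD2_c18 LD3_c25) (LK LD1_c10 LD2_c39 LD3_c43) Lrfl Lrfl
theorem f417752 : Led Lsl_dt (LP (LK LD1_c19 LD2_c3 LD3_c22)) = (LP (LK LD1_c19 LD2_c18 LD3_c25)) :=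
  Lgr Lrot57 (Lpe (K38.f312864 IH) (Lpe (K38.f312755 IH) (Lpr_gt (K19.f312884 IH) (Lpr_dt (K54.f417719 IH) (Lpr_gt (K54.f213001 IH) (Lpr_dt (K22.f213000 IH) (Lpe (K20.f213003 IH) (Lpe (f217663 IH) (Lpe (f217664 IH) (Lpn (LP (LK LD1_c19 LD2_c18 LD3_c25))))))))))))
theorem f728701 : Led Lsl_af (LP (LK LD1_c19 LD2_c14 LD3_c32)) = (LP (LK LD1_c19 LD2_c18 LD3_c25)) :=
  Lgr Lrot117 (Lpr_dt (K45.f312856 IH) (Lpr_at (f728693 IH) (Lpr_dt (f417752 IH) (Lpn (LP (LK LD1_c19 LD2_c18 LD3_c25))))))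
theorem f409948 : Led Lsl_gt (LP (LK LD1_c18 LD2_c2 LD3_c42)) = (LP (LK LD1_c19 LD2_c14 LD3_c32)) :=
  Lgr Lrot5 (Lpe (K22.f338209 IH) (Lpr_at (K22.f338208 IH) (Lpr_gf (K45.f409937 IH) (Lpn (LP (LK LD1_c19 LD2_c14 LD3_c32))))))
theorem f728709 : Led Lsl_ft (LP (LK LD1_c19 LD2_c14 LD3_c35)) = (LP (LK LD1_c19 LD2_c18 LD3_c25)) :=
  Lgr Lrot2 (Lpe (K54.f399938 IH) (Lpr_gt (f409948 IH) (Lpr_af (f728701 IH) (Lpn (LP (LK LD1_c19 LD2_c18 LD3_c25))))))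
theorem f728717 : Led Lsl_ff (LP (LK LD1_c19 LD2_c14 LD3_c35)) = (LP (LK LD1_c19 LD2_c18 LD3_c25)) :=
  Lgr Lrot3 (Lpr_ft (f728709 IH) (Lpn (LP (LK LD1_c19 LD2_c18 LD3_c25))))
theorem f312880 : Led Lsl_dt (LP (LK LD1_c19 LD2_c14 LD3_c35)) = (LP (LK LD1_c10 LD2_c37 LD3_c24)) :=
  Lre_d IH (LK LD1_c19 LD2_c14 LD3_c35) (LK LD1_c10 LD2_c37 LD3_c24) Lrfl Lrfl
theorem f728724 : Led Lsl_ft (LP (LK LD1_c10 LD2_c37 LD3_c24)) = (LP (LK LD1_c19 LD2_c3 LD3_c22)) :=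
  Lgr Lrot54 (Lpe (f312880 IH) (Lpr_ff (f728717 IH) (Lpe (f417752 IH) (Lpn (LP (LK LD1_c19 LD2_c3 LD3_c22))))))
theorem f221608 : Led Lsl_ct (LP (LK LD1_c19 LD2_c14 LD3_c34)) = (LP (LK LD1_c10 LD2_c37 LD3_c24)) :=
  Lre_c IH (LK LD1_c19 LD2_c14 LD3_c34) (LK LD1_c10 LD2_c37 LD3_c24) Lrfl Lrfl
theorem f171969 : Led Lsl_ct (LP (LK LD1_c17 LD2_c50 LD3_c9)) = (LP (LK LD1_c27 LD2_c37 LD3_c16)) :=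
  Lre_c IH (LK LD1_c17 LD2_c50 LD3_c9) (LK LD1_c27 LD2_c37 LD3_c16) Lrfl Lrfl
theorem f403389 : Led Lsl_cf (LP (LK LD1_c28 LD2_c29 LD3_c37)) = (LP (LK LD1_c29 LD2_c11 LD3_c10)) :=
  Lgr Lrot11 (Lpr_ct (f403383 IH) (Lpn (LP (LK LD1_c29 LD2_c11 LD3_c10))))
theorem f403393 : Led Lsl_cf (LP (LK LD1_c27 LD2_c37 LD3_c15)) = (LP (LK LD1_c19 LD2_c3 LD3_c22)) :=
  Lgr Lrot97 (Lpr_bt (K38.f252139 IH) (Lpr_ct (f171969 IH) (Lpr_bt (f403391 IH) (Lpe (f403389 IH) (Lpr_bt (f199335 IH) (Lpn (LP (LK LD1_c19 LD2_c3 LD3_c22))))))))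
theorem f728730 : Led Lsl_ff (LP (LK LD1_c19 LD2_c14 LD3_c34)) = (LP (LK LD1_c27 LD2_c37 LD3_c15)) :=
  Lgr Lrot23 (Lpr_ct (f221608 IH) (Lpr_ft (f728724 IH) (Lpe (f403393 IH) (Lpn (LP (LK LD1_c27 LD2_c37 LD3_c15))))))
theorem f728733 : Led Lsl_ft (LP (LK LD1_c19 LD2_c14 LD3_c34)) = (LP (LK LD1_c27 LD2_c37 LD3_c15)) :=
  Lgr Lrot48 (Lpr_ff (f728730 IH) (Lpn (LP (LK LD1_c27 LD2_c37 LD3_c15))))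
theorem f728699 : Led Lsl_af (LP (LK LD1_c19 LD2_c14 LD3_c31)) = (LP (LK LD1_c27 LD2_c37 LD3_c15)) :=
  Lgr Lrot68 (Lpr_ct (K30.f228435 IH) (Lpr_at (f728693 IH) (Lpe (f403393 IH) (Lpn (LP (LK LD1_c27 LD2_c37 LD3_c15))))))
theorem f728735 : Led Lsl_af (LP (LK LD1_c19 LD2_c14 LD3_c34)) = (LP (LK LD1_c28 LD2_c29 LD3_c36)) :=
  Lgr Lrot45 (Lpr_ft (f728733 IH) (Lpe (f728699 IH) (Lpr_ft (f728689 IH) (Lpn (LP (LK LD1_c28 LD2_c29 LD3_c36))))))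
theorem f728740 : Led Lsl_at (LP (LK LD1_c10 LD2_c37 LD3_c24)) = (LP (LK LD1_c19 LD2_c3 LD3_c21)) :=
  Lgr Lrot107 (Lpe (f221608 IH) (Lpr_af (f728735 IH) (Lpe (K30.f235660 IH) (Lpn (LP (LK LD1_c19 LD2_c3 LD3_c21))))))
theorem f224200 : Led Lsl_bt (LP (LK LD1_c19 LD2_c14 LD3_c33)) = (LP (LK LD1_c10 LD2_c37 LD3_c24)) :=
  Lre_b IH (LK LD1_c19 LD2_c14 LD3_c33) (LK LD1_c10 LD2_c37 LD3_c24) Lrfl Lrfl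
theorem f728742 : Led Lsl_af (LP (LK LD1_c19 LD2_c14 LD3_c33)) = (LP (LK LD1_c25 LD2_c49 LD3_c11)) :=
  Lgr Lrot36 (Lpr_bt (f224200 IH) (Lpr_at (f728740 IH) (Lpr_bt (f277908 IH) (Lpe (f728170 IH) (Lpr_bt (K30.f243704 IH) (Lpn (LP (LK LD1_c25 LD2_c49 LD3_c11))))))))
theorem f728744 : Led Lsl_at (LP (LK LD1_c19 LD2_c14 LD3_c33)) = (LP (LK LD1_c25 LD2_c49 LD3_c11)) :=
  Lgr Lrot100 (Lpr_af (f728742 IH) (Lpn (LP (LK LD1_c25 LD2_c49 LD3_c11))))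
theorem f728728 : Led Lsl_ff (LP (LK LD1_c19 LD2_c14 LD3_c33)) = (LP (LK LD1_c28 LD2_c29 LD3_c37)) :=
  Lgr Lrot25 (Lpr_bt (f224200 IH) (Lpr_ft (f728724 IH) (Lpr_bt (f403385 IH) (Lpn (LP (LK LD1_c28 LD2_c29 LD3_c37))))))
theorem f728757 : Led Lsl_gt (LP (LK LD1_c28 LD2_c29 LD3_c37)) = (LP (LK LD1_c26 LD2_c48 LD3_c21)) :=
  Lgr Lrot5 (Lpe (f728728 IH) (Lpr_at (f728744 IH) (Lpr_gf (K30.f385009 IH) (Lpn (LP (LK LD1_c26 LD2_c48 LD3_c21))))))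
theorem f728759 : Led Lsl_bt (LP (LK LD1_c15 LD2_c1 LD3_c53)) = (LP (LK LD1_c19 LD2_c32 LD3_c45)) :=
  Lgr Lrot92 (Lpr_ct (f404851 IH) (Lpe (f404893 IH) (Lpr_cf (f401895 IH) (Lpr_bt (f401892 IH) (Lpr_gt (f401879 IH) (Lpe (f403389 IH) (Lpr_gt (f728757 IH) (Lpe (K30.f384992 IH) (Lpr_bt (K30.f319273 IH) (Lpe (K30.f384338 IH) (Lpn (LP (LK LD1_c19 LD2_c32 LD3_c45)))))))))))))
theorem f728761 : Led Lsl_bf (LP (LK LD1_c15 LD2_c1 LD3_c53)) = (LP (LK LD1_c19 LD2_c32 LD3_c45)) :=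
  Lgr Lrot24 (Lpr_bt (f728759 IH) (Lpn (LP (LK LD1_c19 LD2_c32 LD3_c45))))
theorem f736295 : Led Lsl_cf (LP (LK LD1_c11 LD2_c9 LD3_c61)) = (LP (LK LD1_c19 LD2_c32 LD3_c45)) :=
  Lgr Lrot58 (Lpr_gf (f736291 IH) (Lpr_cf (K52.f319280 IH) (Lpr_bt (K31.f319279 IH) (Lpe (K31.f386437 IH) (Lpr_bf (K31.f386420 IH) (Lpr_ct (K31.f234884 IH) (Lpe (K31.f223078 IH) (Lpe (K23.f234866 IH) (Lpe (K54.f228022 IH) (Lpr_bf (f728761 IH) (Lpn (LP (LK LD1_c19 LD2_c32 LD3_c45)))))))))))))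
theorem f736302 : Led Lsl_df (LP (LK LD1_c11 LD2_c9 LD3_c61)) = (LP (LK LD1_c10 LD2_c59 LD3_c45)) :=
  Lgr Lrot84 (Lpr_cf (f736295 IH) (Lpr_df (K31.f384331 IH) (Lpe (K31.f318598 IH) (Lpe (K20.f174026 IH) (Lpe (K27.f238387 IH) (Lpe (K31.f238396 IH) (Lpr_gt (K31.f238393 IH) (Lpr_dt (K31.f238394 IH) (Lpr_gt (K31.f392321 IH) (Lpn (LP (LK LD1_c10 LD2_c59 LD3_c45))))))))))))
theorem f384369 : Led Lsl_at (LP (LK LD1_c19 LD2_c49 LD3_c57)) = (LP (LK LD1_c10 LD2_c59 LD3_c15)) :=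
  Lre_a IH (LK LD1_c19 LD2_c49 LD3_c57) (LK LD1_c10 LD2_c59 LD3_c15) Lrfl Lrfl
theorem f392385 : Led Lsl_ff (LP (LK LD1_c19 LD2_c49 LD3_c57)) = (LP (LK LD1_c10 LD2_c59 LD3_c45)) :=
  Lgr Lrot52 (Lpr_at (f384369 IH) (Lpr_gf (K31.f392158 IH) (Lpe (K20.f226199 IH) (Lpn (LP (LK LD1_c10 LD2_c59 LD3_c45))))))
theorem f392610 : Led Lsl_ft (LP (LK LD1_c19 LD2_c49 LD3_c57)) = (LP (LK LD1_c10 LD2_c59 LD3_c45)) :=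
  Lgr Lrot48 (Lpr_ff (f392385 IH) (Lpn (LP (LK LD1_c10 LD2_c59 LD3_c45))))
theorem f384347 : Led Lsl_at (LP (LK LD1_c10 LD2_c59 LD3_c15)) = (LP (LK LD1_c19 LD2_c49 LD3_c57)) :=
  Lre_a IH (LK LD1_c10 LD2_c59 LD3_c15) (LK LD1_c19 LD2_c49 LD3_c57) Lrfl Lrfl
theorem f381076 : Led Lsl_at (LP (LK LD1_c16 LD2_c49 LD3_c26)) = (LP (LK LD1_c8 LD2_c59 LD3_c61)) :=
  Lre_a IH (LK LD1_c16 LD2_c49 LD3_c26) (LK LD1_c8 LD2_c59 LD3_c61) Lrfl Lrfl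
theorem f384348 : Led Lsl_dt (LP (LK LD1_c19 LD2_c49 LD3_c57)) = (LP (LK LD1_c16 LD2_c49 LD3_c26)) :=
  Lgr Lrot44 (Lpe (f384347 IH) (Lpr_df (K30.f384343 IH) (Lpe (f381076 IH) (Lpn (LP (LK LD1_c16 LD2_c49 LD3_c26))))))
theorem f384366 : Led Lsl_df (LP (LK LD1_c19 LD2_c49 LD3_c57)) = (LP (LK LD1_c16 LD2_c49 LD3_c26)) :=
  Lgr Lrot38 (Lpr_dt (f384348 IH) (Lpn (LP (LK LD1_c16 LD2_c49 LD3_c26))))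
theorem f736306 : Led Lsl_ft (LP (LK LD1_c11 LD2_c9 LD3_c61)) = (LP (LK LD1_c16 LD2_c49 LD3_c26)) :=
  Lgr Lrot54 (Lpr_df (f736302 IH) (Lpe (f392610 IH) (Lpr_df (f384366 IH) (Lpn (LP (LK LD1_c16 LD2_c49 LD3_c26))))))
theorem f736309 : Led Lsl_ff (LP (LK LD1_c11 LD2_c9 LD3_c61)) = (LP (LK LD1_c16 LD2_c49 LD3_c26)) :=
  Lgr Lrot3 (Lpr_ft (f736306 IH) (Lpn (LP (LK LD1_c16 LD2_c49 LD3_c26))))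
theorem f736314 : Led Lsl_gf (LP (LK LD1_c10 LD2_c48 LD3_c22)) = (LP (LK LD1_c16 LD2_c49 LD3_c26)) :=
  Lgr Lrot47 (Lpr_gt (K31.f390321 IH) (Lpe (K54.f390335 IH) (Lpr_ff (f736309 IH) (Lpn (LP (LK LD1_c16 LD2_c49 LD3_c26))))))
theorem f386519 : Led Lsl_ct (LP (LK LD1_c10 LD2_c51 LD3_c12)) = (LP (LK LD1_c5 LD2_c29 LD3_c60)) :=
  Lre_c IH (LK LD1_c10 LD2_c51 LD3_c12) (LK LD1_c5 LD2_c29 LD3_c60) Lrfl Lrfl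
theorem f736282 : Led Lsl_bt (LP (LK LD1_c11 LD2_c9 LD3_c61)) = (LP (LK LD1_c16 LD2_c43 LD3_c7)) :=
  Lgr Lrot127 (Lpr_bf (K54.f736280 IH) (Lpn (LP (LK LD1_c16 LD2_c43 LD3_c7))))
theorem f736313 : Led Lsl_bt K54.v15431 = (LP (LK LD1_c16 LD2_c49 LD3_c26)) :=
  Lgr Lrot35 (Lpe (K54.f736264 IH) (Lpe (f736282 IH) (Lpr_ff (f736309 IH) (Lpn (LP (LK LD1_c16 LD2_c49 LD3_c26))))))
theorem f736322 : (LP (LK LD1_c10 LD2_c51 LD3_c12)) = K54.v15431 :=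
  (Llr Lrot58 (Lpr_ct (f386519 IH) (Lpe (K30.f224852 IH) (Lpe (K30.f175173 IH) (Lpr_bt (K30.f225255 IH) (Lpr_gf (K12.f226771 IH) (Lpe (K31.f253734 IH) (Lpr_ct (K14.f226763 IH) (Lpe (K31.f267740 IH) (Lpe (K31.f267741 IH) (Lpr_gf (f736314 IH) (Lpe (f736313 IH) (Lpn K54.v15431))))))))))))).symm
def v15001 : LQ := Led Lsl_ft (LP (LK LD1_c5 LD2_c29 LD3_c60))
theorem f729563 : Led Lsl_ft (LP (LK LD1_c5 LD2_c29 LD3_c60)) = v15001 :=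
  Lrfl
theorem f736332 : (LP (LK LD1_c8 LD2_c55 LD3_c54)) = v15001 :=
  (Llr Lrot108 (Lpr_ct (K50.f226222 IH) (Lpr_ft (K54.f736264 IH) (Lpq (f736322 IH) (Lpr_ct (f386519 IH) (Lpr_ft (f729563 IH) (Lpn v15001))))))).symm
theorem f386520 : Led Lsl_dt (LP (LK LD1_c10 LD2_c51 LD3_c13)) = (LP (LK LD1_c5 LD2_c29 LD3_c60)) :=
  Lre_d IH (LK LD1_c10 LD2_c51 LD3_c13) (LK LD1_c5 LD2_c29 LD3_c60) Lrfl Lrfl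
theorem f736339 : Led Lsl_ff (LP (LK LD1_c10 LD2_c51 LD3_c13)) = (LP (LK LD1_c10 LD2_c56 LD3_c18)) :=
  Lgr Lrot19 (Lpr_dt (f386520 IH) (Lpr_ft (f729563 IH) (Lpq (f736332 IH) (Lpr_dt (K50.f391403 IH) (Lpn (LP (LK LD1_c10 LD2_c56 LD3_c18)))))))
theorem f281123 : Led Lsl_gf (LP (LK LD1_c10 LD2_c56 LD3_c19)) = (LP (LK LD1_c16 LD2_c45 LD3_c33)) :=
  Lgr Lrot47 (Lpr_gt (K30.f168103 IH) (Lpe (K30.f281111 IH) (Lpr_ff (K30.f281112 IH) (Lpn (LP (LK LD1_c16 LD2_c45 LD3_c33))))))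
theorem f736349 : Led Lsl_at (LP (LK LD1_c10 LD2_c51 LD3_c13)) = (LP (LK LD1_c10 LD2_c56 LD3_c19)) :=
  Lgr Lrot26 (Lpr_ff (f736339 IH) (Lpr_gt (K50.f281115 IH) (Lpe (f281123 IH) (Lpn (LP (LK LD1_c10 LD2_c56 LD3_c19))))))
theorem f224853 : Led Lsl_dt (LP (LK LD1_c5 LD2_c29 LD3_c60)) = (LP (LK LD1_c10 LD2_c51 LD3_c13)) :=
  Lre_d IH (LK LD1_c5 LD2_c29 LD3_c60) (LK LD1_c10 LD2_c51 LD3_c13) Lrfl Lrfl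
def v15000 : LQ := Led Lsl_at (LP (LK LD1_c5 LD2_c29 LD3_c60))
theorem f729557 : Led Lsl_at (LP (LK LD1_c5 LD2_c29 LD3_c60)) = v15000 :=
  Lrfl
theorem f729558 : Led Lsl_af (LP (LK LD1_c5 LD2_c29 LD3_c60)) = v15000 :=
  Lgr Lrot0 (Lpr_at (f729557 IH) (Lpn v15000))
theorem f736358 : v15000 = (LP (LK LD1_c8 LD2_c55 LD3_c55)) :=
  (Llr Lrot117 (Lpe (f729558 IH) (Lpr_dt (f224853 IH) (Lpr_at (f736349 IH) (Lpe (K54.f296660 IH) (Lpn (LP (LK LD1_c8 LD2_c55 LD3_c55)))))))).symm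
theorem f729561 : Led Lsl_ft (LP (LK LD1_c5 LD2_c29 LD3_c61)) = v15000 :=
  Lgr Lrot2 (Lpr_gt (K30.f217116 IH) (Lpr_gt (K30.f224852 IH) (Lpr_af (f729558 IH) (Lpn v15000))))
theorem f736367 : (LP (LK LD1_c8 LD2_c59 LD3_c58)) = K54.v15432 :=
  (Llr Lrot108 (Lpr_ct (K30.f225256 IH) (Lpr_ft (f729561 IH) (Lpqs (f736358 IH) (Lpr_ct (K30.f179230 IH) (Lpr_ft (K54.f736274 IH) (Lpn K54.v15432))))))).symm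
theorem f736372 : K54.v4744 = (LP (LK LD1_c4 LD2_c30 LD3_c55)) :=
  Lefun (Lecon (Lfl_bf (f736276 IH)) (f736367 IH).symm) (K30.f173999 IH)
theorem f736376 : (LP (LK LD1_c2 LD2_c45 LD3_c40)) = v12791 :=
  Lefun (Lecon (Lfl_ff (K54.f638808 IH)) (f736372 IH)) (f698234 IH)
theorem f736389 : v15191 = (LP (LK LD1_c5 LD2_c39 LD3_c25)) :=
  Lefun (Lecon (f732783 IH) (f736376 IH).symm) (f171868 IH)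
theorem f226725 : Led Lsl_ct (LP (LK LD1_c10 LD2_c59 LD3_c13)) = (LP (LK LD1_c5 LD2_c33 LD3_c38)) :=
  Lre_c IH (LK LD1_c10 LD2_c59 LD3_c13) (LK LD1_c5 LD2_c33 LD3_c38) Lrfl Lrfl
theorem f736396 : Led Lsl_ff (LP (LK LD1_c10 LD2_c59 LD3_c13)) = (LP (LK LD1_c11 LD2_c9 LD3_c55)) :=
  Lgr Lrot23 (Lpr_ct (f226725 IH) (Lpr_ft (f732777 IH) (Lpqs (f736389 IH) (Lpr_ct (K30.f171869 IH) (Lpn (LP (LK LD1_c11 LD2_c9 LD3_c55)))))))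
theorem f736407 : Led Lsl_at (LP (LK LD1_c10 LD2_c59 LD3_c13)) = (LP (LK LD1_c11 LD2_c10 LD3_c5)) :=
  Lgr Lrot26 (Lpr_ff (f736396 IH) (Lpr_gt (K31.f387640 IH) (Lpe (K31.f387823 IH) (Lpn (LP (LK LD1_c11 LD2_c10 LD3_c5))))))
theorem f736409 : Led Lsl_af (LP (LK LD1_c10 LD2_c59 LD3_c13)) = (LP (LK LD1_c11 LD2_c10 LD3_c5)) :=
  Lgr Lrot0 (Lpr_at (f736407 IH) (Lpn (LP (LK LD1_c11 LD2_c10 LD3_c5))))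
theorem f736429 : Led Lsl_ft (LP (LK LD1_c10 LD2_c59 LD3_c16)) = (LP (LK LD1_c11 LD2_c10 LD3_c5)) :=
  Lgr Lrot142 (Lpr_dt (K50.f384364 IH) (Lpe (K50.f698227 IH) (Lpr_dt (K50.f199454 IH) (Lpe (K31.f385098 IH) (Lpr_dt (K31.f174010 IH) (Lpr_ct (K30.f225265 IH) (Lpe (K41.f388354 IH) (Lpr_ct (K22.f225697 IH) (Lpr_af (f736409 IH) (Lpn (LP (LK LD1_c11 LD2_c10 LD3_c5))))))))))))
theorem f736437 : Led Lsl_ff (LP (LK LD1_c10 LD2_c59 LD3_c16)) = (LP (LK LD1_c11 LD2_c10 LD3_c5)) :=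
  Lgr Lrot3 (Lpr_ft (f736429 IH) (Lpn (LP (LK LD1_c11 LD2_c10 LD3_c5))))
theorem f319823 : Led Lsl_dt (LP (LK LD1_c20 LD2_c4 LD3_c46)) = (LP (LK LD1_c11 LD2_c10 LD3_c5)) :=
  Lre_d IH (LK LD1_c20 LD2_c4 LD3_c46) (LK LD1_c11 LD2_c10 LD3_c5) Lrfl Lrfl
theorem f736443 : Led Lsl_ft (LP (LK LD1_c19 LD2_c49 LD3_c61)) = (LP (LK LD1_c20 LD2_c4 LD3_c46)) :=
  Lgr Lrot54 (Lpe (K50.f384364 IH) (Lpr_ff (f736437 IH) (Lpe (f319823 IH) (Lpn (LP (LK LD1_c20 LD2_c4 LD3_c46))))))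
theorem f698229 : Led Lsl_ct (LP (LK LD1_c19 LD2_c54 LD3_c10)) = (LP (LK LD1_c19 LD2_c49 LD3_c61)) :=
  Lgr Lrot59 (Lpr_cf (K50.f698227 IH) (Lpn (LP (LK LD1_c19 LD2_c49 LD3_c61))))
theorem f736445 : Led Lsl_ff (LP (LK LD1_c19 LD2_c54 LD3_c10)) = (LP (LK LD1_c25 LD2_c14 LD3_c38)) :=
  Lgr Lrot23 (Lpr_ct (f698229 IH) (Lpr_ft (f736443 IH) (Lpe (K38.f638798 IH) (Lpn (LP (LK LD1_c25 LD2_c14 LD3_c38))))))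
theorem f595680 : Led Lsl_gf (LP (LK LD1_c19 LD2_c52 LD3_c61)) = (LP (LK LD1_c25 LD2_c14 LD3_c38)) :=
  Lgr Lrot147 (Lpr_ct (f354505 IH) (Lpr_gt (f172929 IH) (Lpr_ct (f595676 IH) (Lpe (f244592 IH) (Lpe (K30.f244591 IH) (Lpe (K30.f332710 IH) (Lpr_cf (K41.f332705 IH) (Lpe (K19.f199435 IH) (Lpe (K38.f199437 IH) (Lpn (LP (LK LD1_c25 LD2_c14 LD3_c38))))))))))))
theorem f736451 : Led Lsl_at (LP (LK LD1_c19 LD2_c54 LD3_c10)) = (LP (LK LD1_c25 LD2_c14 LD3_c41)) :=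
  Lgr Lrot26 (Lpr_ff (f736445 IH) (Lpe (f595680 IH) (Lpr_gt (f595670 IH) (Lpn (LP (LK LD1_c25 LD2_c14 LD3_c41))))))
theorem f736453 : Led Lsl_af (LP (LK LD1_c19 LD2_c54 LD3_c10)) = (LP (LK LD1_c25 LD2_c14 LD3_c41)) :=
  Lgr Lrot0 (Lpr_at (f736451 IH) (Lpn (LP (LK LD1_c25 LD2_c14 LD3_c41))))
theorem f199456 : Led Lsl_dt (LP (LK LD1_c11 LD2_c2 LD3_c45)) = (LP (LK LD1_c19 LD2_c54 LD3_c10)) :=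
  Lre_d IH (LK LD1_c11 LD2_c2 LD3_c45) (LK LD1_c19 LD2_c54 LD3_c10) Lrfl Lrfl
theorem f736455 : Led Lsl_af (LP (LK LD1_c11 LD2_c2 LD3_c45)) = (LP (LK LD1_c15 LD2_c22 LD3_c50)) :=
  Lgr Lrot117 (Lpr_dt (f199456 IH) (Lpr_at (f736451 IH) (Lpr_dt (f199460 IH) (Lpn (LP (LK LD1_c15 LD2_c22 LD3_c50))))))
theorem f736463 : Led Lsl_ft (LP (LK LD1_c11 LD2_c2 LD3_c46)) = (LP (LK LD1_c15 LD2_c22 LD3_c50)) :=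
  Lgr Lrot2 (Lpr_gt (K30.f199466 IH) (Lpr_gt (K31.f199450 IH) (Lpr_af (f736455 IH) (Lpn (LP (LK LD1_c15 LD2_c22 LD3_c50))))))
theorem f736473 : Led Lsl_ff (LP (LK LD1_c11 LD2_c2 LD3_c46)) = (LP (LK LD1_c15 LD2_c22 LD3_c50)) :=
  Lgr Lrot3 (Lpr_ft (f736463 IH) (Lpn (LP (LK LD1_c15 LD2_c22 LD3_c50))))
theorem f199469 : Led Lsl_dt (LP (LK LD1_c11 LD2_c2 LD3_c46)) = (LP (LK LD1_c19 LD2_c54 LD3_c13)) :=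
  Lre_d IH (LK LD1_c11 LD2_c2 LD3_c46) (LK LD1_c19 LD2_c54 LD3_c13) Lrfl Lrfl
theorem f736479 : Led Lsl_ft (LP (LK LD1_c19 LD2_c54 LD3_c13)) = (LP (LK LD1_c25 LD2_c14 LD3_c41)) :=
  Lgr Lrot54 (Lpe (f199469 IH) (Lpr_ff (f736473 IH) (Lpe (f199460 IH) (Lpn (LP (LK LD1_c25 LD2_c14 LD3_c41))))))
theorem f878490 : Led Lsl_gt (LP (LK LD1_c19 LD2_c54 LD3_c13)) = v35802 :=
  Lgr Lrot5 (Lpr_ft (f736479 IH) (Lpe (f736453 IH) (Lpr_gf (f878489 IH) (Lpn v35802))))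
theorem f388517 : Led Lsl_bt (LP (LK LD1_c29 LD2_c9 LD3_c47)) = (LP (LK LD1_c19 LD2_c54 LD3_c13)) :=
  Lre_b IH (LK LD1_c29 LD2_c9 LD3_c47) (LK LD1_c19 LD2_c54 LD3_c13) Lrfl Lrfl
theorem f878486 : Led Lsl_df (LP (LK LD1_c8 LD2_c9 LD3_c1)) = v35802 :=
  Lgr Lrot38 (Lpr_dt (f878483 IH) (Lpn v35802))
theorem f385046 : Led Lsl_dt (LP (LK LD1_c11 LD2_c3 LD3_c25)) = (LP (LK LD1_c19 LD2_c55 LD3_c23)) :=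
  Lre_d IH (LK LD1_c11 LD2_c3 LD3_c25) (LK LD1_c19 LD2_c55 LD3_c23) Lrfl Lrfl
theorem f878493 : Led Lsl_cf (LP (LK LD1_c29 LD2_c9 LD3_c47)) = (LP (LK LD1_c19 LD2_c55 LD3_c23)) :=
  Lgr Lrot89 (Lpr_bt (f388517 IH) (Lpr_gt (f878490 IH) (Lpe (f878486 IH) (Lpr_ct (K30.f53024 IH) (Lpr_bt (K30.f52302 IH) (Lpr_gt (K11.f52288 IH) (Lpr_dt (K10.f52265 IH) (Lpr_ct (K11.f52320 IH) (Lpr_bt (K10.f196414 IH) (Lpe (K10.f194616 IH) (Lpr_dt (K10.f194605 IH) (Lpr_ct (K10.f42551 IH) (Lpr_bt (K10.f194418 IH) (Lpr_gt (K19.f251778 IH) (Lpr_dt (K13.f184416 IH) (Lpe (K20.f312120 IH) (Lpr_bt (f324545 IH) (Lpr_gt (f385045 IH) (Lpr_dt (f385046 IH) (Lpn (LP (LK LD1_c19 LD2_c55 LD3_c23))))))))))))))))))))))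
theorem f878494 : Led Lsl_ct (LP (LK LD1_c19 LD2_c55 LD3_c23)) = (LP (LK LD1_c29 LD2_c9 LD3_c47)) :=
  Leop (Lpr_cf (f878493 IH) (Lpn (LP (LK LD1_c19 LD2_c55 LD3_c23))))
theorem seed_2048 : LEOK LG_c (LK LD1_c19 LD2_c55 LD3_c23) :=
  Leoe_c (LK LD1_c19 LD2_c55 LD3_c23) (f878494 IH)
def v35825 : LQ := Led Lsl_at (LP (LK LD1_c8 LD2_c10 LD3_c40))
theorem f878643 : Led Lsl_at (LP (LK LD1_c8 LD2_c10 LD3_c40)) = v35825 :=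
  Lrfl
theorem f46666 : Led Lsl_bt (LP (LK LD1_c8 LD2_c10 LD3_c40)) = (LP (LK LD1_c4 LD2_c4 LD3_c57)) :=
  Lre_b IH (LK LD1_c8 LD2_c10 LD3_c40) (LK LD1_c4 LD2_c4 LD3_c57) Lrfl Lrfl
theorem f46663 : Led Lsl_bt (LP (LK LD1_c4 LD2_c2 LD3_c40)) = (LP (LK LD1_c8 LD2_c5 LD3_c57)) :=
  Lre_b IH (LK LD1_c4 LD2_c2 LD3_c40) (LK LD1_c8 LD2_c5 LD3_c57) Lrfl Lrfl
theorem f46667 : Led Lsl_ff (LP (LK LD1_c8 LD2_c10 LD3_c40)) = (LP (LK LD1_c8 LD2_c5 LD3_c57)) :=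
  Lgr Lrot25 (Lpr_bt (f46666 IH) (Lpr_ft (K1.f46659 IH) (Lpr_bt (f46663 IH) (Lpn (LP (LK LD1_c8 LD2_c5 LD3_c57))))))
theorem f46679 : Led Lsl_at (LP (LK LD1_c15 LD2_c14 LD3_c53)) = (LP (LK LD1_c8 LD2_c5 LD3_c57)) :=
  Lre_a IH (LK LD1_c15 LD2_c14 LD3_c53) (LK LD1_c8 LD2_c5 LD3_c57) Lrfl Lrfl
theorem f878647 : Led Lsl_ff (LP (LK LD1_c15 LD2_c14 LD3_c53)) = v35825 :=
  Lgr Lrot30 (Lpr_at (f46679 IH) (Lpe (f46667 IH) (Lpr_at (f878643 IH) (Lpn v35825))))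
theorem f45936 : Led Lsl_gt (LP (LK LD1_c15 LD2_c14 LD3_c55)) = (LP (LK LD1_c8 LD2_c5 LD3_c57)) :=
  Lre_g IH (LK LD1_c15 LD2_c14 LD3_c55) (LK LD1_c8 LD2_c5 LD3_c57) Lrfl Lrfl
theorem f878653 : Led Lsl_gf (LP (LK LD1_c15 LD2_c14 LD3_c55)) = v35825 :=
  Lgr Lrot47 (Lpr_gt (f45936 IH) (Lpe (f46679 IH) (Lpr_ff (f878647 IH) (Lpn v35825))))
theorem f45969 : Led Lsl_dt (LP (LK LD1_c15 LD2_c14 LD3_c53)) = (LP (LK LD1_c8 LD2_c5 LD3_c56)) :=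
  Lre_d IH (LK LD1_c15 LD2_c14 LD3_c53) (LK LD1_c8 LD2_c5 LD3_c56) Lrfl Lrfl
theorem f878651 : Led Lsl_dt (LP (LK LD1_c15 LD2_c14 LD3_c44)) = v35825 :=
  Lgr Lrot60 (Lpe (K14.f45976 IH) (Lpe (f45969 IH) (Lpr_ff (f878647 IH) (Lpn v35825))))
theorem f405637 : Led Lsl_dt (LP (LK LD1_c25 LD2_c3 LD3_c50)) = (LP (LK LD1_c31 LD2_c45 LD3_c14)) :=
  Lre_d IH (LK LD1_c25 LD2_c3 LD3_c50) (LK LD1_c31 LD2_c45 LD3_c14) Lrfl Lrfl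
theorem f43993 : Led Lsl_dt (LP (LK LD1_c10 LD2_c33 LD3_c6)) = (LP (LK LD1_c5 LD2_c21 LD3_c23)) :=
  Lre_d IH (LK LD1_c10 LD2_c33 LD3_c6) (LK LD1_c5 LD2_c21 LD3_c23) Lrfl Lrfl
theorem f45942 : Led Lsl_ct (LP (LK LD1_c19 LD2_c6 LD3_c41)) = (LP (LK LD1_c10 LD2_c33 LD3_c6)) :=
  Lre_c IH (LK LD1_c19 LD2_c6 LD3_c41) (LK LD1_c10 LD2_c33 LD3_c6) Lrfl Lrfl
theorem f45943 : Led Lsl_gt (LP (LK LD1_c28 LD2_c32 LD3_c11)) = (LP (LK LD1_c19 LD2_c6 LD3_c41)) :=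
  Lre_g IH (LK LD1_c28 LD2_c32 LD3_c11) (LK LD1_c19 LD2_c6 LD3_c41) Lrfl Lrfl
theorem f283875 : Led Lsl_ct (LP (LK LD1_c10 LD2_c33 LD3_c19)) = (LP (LK LD1_c9 LD2_c56 LD3_c41)) :=
  Lgr Lrot59 (Lpr_cf (K17.f283869 IH) (Lpn (LP (LK LD1_c9 LD2_c56 LD3_c41))))
theorem f215446 : Led Lsl_dt (LP (LK LD1_c5 LD2_c21 LD3_c30)) = (LP (LK LD1_c10 LD2_c33 LD3_c19)) :=
  Lre_d IH (LK LD1_c5 LD2_c21 LD3_c30) (LK LD1_c10 LD2_c33 LD3_c19) Lrfl Lrfl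
theorem f283891 : Led Lsl_gf (LP (LK LD1_c10 LD2_c9 LD3_c41)) = (LP (LK LD1_c5 LD2_c21 LD3_c24)) :=
  Lgr Lrot144 (Lpr_dt (K17.f283811 IH) (Lpr_gt (K17.f283882 IH) (Lpr_dt (K17.f169849 IH) (Lpe (f283875 IH) (Lpe (f215446 IH) (Lpe (K14.f249549 IH) (Lpr_df (K14.f195837 IH) (Lpe (K14.f194899 IH) (Lpe (K1.f46413 IH) (Lpn (LP (LK LD1_c5 LD2_c21 LD3_c24))))))))))))
theorem f45932 : Led Lsl_ct (LP (LK LD1_c10 LD2_c33 LD3_c6)) = (LP (LK LD1_c19 LD2_c6 LD3_c41)) :=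
  Lre_c IH (LK LD1_c10 LD2_c33 LD3_c6) (LK LD1_c19 LD2_c6 LD3_c41) Lrfl Lrfl
theorem f214600 : Led Lsl_gt (LP (LK LD1_c18 LD2_c11 LD3_c17)) = (LP (LK LD1_c27 LD2_c51 LD3_c29)) :=
  Lre_g IH (LK LD1_c18 LD2_c11 LD3_c17) (LK LD1_c27 LD2_c51 LD3_c29) Lrfl Lrfl
theorem f215833 : Led Lsl_bt (LP (LK LD1_c32 LD2_c29 LD3_c15)) = (LP (LK LD1_c27 LD2_c51 LD3_c29)) :=
  Lre_b IH (LK LD1_c32 LD2_c29 LD3_c15) (LK LD1_c27 LD2_c51 LD3_c29) Lrfl Lrfl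
theorem f283942 : Led Lsl_cf (LP (LK LD1_c28 LD2_c32 LD3_c11)) = (LP (LK LD1_c32 LD2_c29 LD3_c15)) :=
  Lgr Lrot160 (Lpr_gt (f45943 IH) (Lpe (f45932 IH) (Lpr_bt (K44.f46515 IH) (Lpe (f283891 IH) (Lpr_ct (K17.f283910 IH) (Lpr_gt (K16.f215823 IH) (Lpe (K14.f214308 IH) (Lpr_bt (K44.f214238 IH) (Lpr_gt (f214600 IH) (Lpe (f215833 IH) (Lpn (LP (LK LD1_c32 LD2_c29 LD3_c15)))))))))))))
theorem f405768 : Led Lsl_gt (LP (LK LD1_c31 LD2_c45 LD3_c14)) = (LP (LK LD1_c32 LD2_c29 LD3_c15)) :=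
  Lgr Lrot9 (Lpe (f405637 IH) (Lpr_gt (K53.f405765 IH) (Lpr_ct (K14.f45941 IH) (Lpr_gt (K14.f45937 IH) (Lpr_ct (K10.f45914 IH) (Lpe (f43993 IH) (Lpe (f45942 IH) (Lpe (f45943 IH) (Lpr_cf (f283942 IH) (Lpn (LP (LK LD1_c32 LD2_c29 LD3_c15))))))))))))
theorem f285475 : Led Lsl_dt (LP (LK LD1_c18 LD2_c31 LD3_c1)) = (LP (LK LD1_c28 LD2_c5 LD3_c15)) :=
  Lre_d IH (LK LD1_c18 LD2_c31 LD3_c1) (LK LD1_c28 LD2_c5 LD3_c15) Lrfl Lrfl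
theorem f294099 : Led Lsl_gt (LP (LK LD1_c18 LD2_c31 LD3_c12)) = (LP (LK LD1_c18 LD2_c11 LD3_c56)) :=
  Lgr Lrot46 (Lpe (K44.f165549 IH) (Lpr_ft (K18.f294091 IH) (Lpr_at (K18.f169923 IH) (Lpn (LP (LK LD1_c18 LD2_c11 LD3_c56))))))
theorem f242432 : Led Lsl_at (LP (LK LD1_c10 LD2_c9 LD3_c59)) = (LP (LK LD1_c18 LD2_c31 LD3_c9)) :=
  Lre_a IH (LK LD1_c10 LD2_c9 LD3_c59) (LK LD1_c18 LD2_c31 LD3_c9) Lrfl Lrfl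
theorem f242433 : Led Lsl_cf (LP (LK LD1_c18 LD2_c40 LD3_c33)) = (LP (LK LD1_c18 LD2_c31 LD3_c9)) :=
  Lgr Lrot1 (Lpr_at (K44.f242431 IH) (Lpr_ct (K44.f242424 IH) (Lpr_at (f242432 IH) (Lpn (LP (LK LD1_c18 LD2_c31 LD3_c9))))))
theorem f242447 : Led Lsl_ct (LP (LK LD1_c18 LD2_c40 LD3_c33)) = (LP (LK LD1_c18 LD2_c31 LD3_c9)) :=
  Lgr Lrot59 (Lpr_cf (f242433 IH) (Lpn (LP (LK LD1_c18 LD2_c31 LD3_c9))))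
theorem f294068 : Led Lsl_bt (LP (LK LD1_c18 LD2_c31 LD3_c9)) = (LP (LK LD1_c18 LD2_c11 LD3_c56)) :=
  Lgr Lrot128 (Lpe (f242447 IH) (Lpe (K44.f293638 IH) (Lpe (K18.f240423 IH) (Lpr_bf (K18.f294064 IH) (Lpr_cf (K18.f169924 IH) (Lpn (LP (LK LD1_c18 LD2_c11 LD3_c56))))))))
theorem f240082 : Led Lsl_gt (LP (LK LD1_c18 LD2_c26 LD3_c53)) = (LP (LK LD1_c10 LD2_c7 LD3_c38)) :=
  Lre_g IH (LK LD1_c18 LD2_c26 LD3_c53) (LK LD1_c10 LD2_c7 LD3_c38) Lrfl Lrfl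
theorem f293618 : Led Lsl_gf (LP (LK LD1_c18 LD2_c26 LD3_c53)) = (LP (LK LD1_c18 LD2_c40 LD3_c33)) :=
  Lgr Lrot47 (Lpr_gt (f240082 IH) (Lpe (K18.f293610 IH) (Lpr_ff (K18.f293611 IH) (Lpn (LP (LK LD1_c18 LD2_c40 LD3_c33))))))
theorem f278220 : Led Lsl_gt (LP (LK LD1_c9 LD2_c56 LD3_c32)) = (LP (LK LD1_c18 LD2_c11 LD3_c35)) :=
  Lre_g IH (LK LD1_c9 LD2_c56 LD3_c32) (LK LD1_c18 LD2_c11 LD3_c35) Lrfl Lrfl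
theorem f278625 : Led Lsl_bt (LP (LK LD1_c27 LD2_c52 LD3_c6)) = (LP (LK LD1_c18 LD2_c11 LD3_c35)) :=
  Lre_b IH (LK LD1_c27 LD2_c52 LD3_c6) (LK LD1_c18 LD2_c11 LD3_c35) Lrfl Lrfl
theorem f306333 : Led Lsl_cf (LP (LK LD1_c18 LD2_c26 LD3_c53)) = (LP (LK LD1_c27 LD2_c52 LD3_c6)) :=
  Lgr Lrot160 (Lpr_gt (f240082 IH) (Lpr_cf (K44.f306272 IH) (Lpr_bt (K44.f278624 IH) (Lpe (K22.f278620 IH) (Lpr_ct (K17.f278617 IH) (Lpr_gt (K16.f278609 IH) (Lpe (K16.f192126 IH) (Lpr_bt (K23.f278219 IH) (Lpr_gt (f278220 IH) (Lpe (f278625 IH) (Lpn (LP (LK LD1_c27 LD2_c52 LD3_c6)))))))))))))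
theorem f370910 : Led Lsl_gf (LP (LK LD1_c18 LD2_c31 LD3_c1)) = (LP (LK LD1_c18 LD2_c11 LD3_c35)) :=
  Lgr Lrot181 (Lpr_ct (K44.f285472 IH) (Lpr_gt (K44.f370908 IH) (Lpr_cf (K44.f278347 IH) (Lpr_bt (K44.f165555 IH) (Lpr_gt (f294099 IH) (Lpe (f294068 IH) (Lpe (f242433 IH) (Lpe (f293618 IH) (Lpr_cf (f306333 IH) (Lpr_bt (f278625 IH) (Lpn (LP (LK LD1_c18 LD2_c11 LD3_c35)))))))))))))
theorem f585647 : Led Lsl_dt (LP (LK LD1_c27 LD2_c51 LD3_c29)) = (LP (LK LD1_c18 LD2_c11 LD3_c35)) :=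
  Lgr Lrot115 (Lpe (f214600 IH) (Lpe (K44.f583636 IH) (Lpe (K44.f583653 IH) (Lpr_dt (K44.f278343 IH) (Lpr_gt (K44.f259676 IH) (Lpe (K44.f585645 IH) (Lpr_ct (K44.f585640 IH) (Lpe (f285475 IH) (Lpr_gf (f370910 IH) (Lpn (LP (LK LD1_c18 LD2_c11 LD3_c35))))))))))))
theorem f585651 : Led Lsl_df (LP (LK LD1_c27 LD2_c51 LD3_c29)) = (LP (LK LD1_c18 LD2_c11 LD3_c35)) :=
  Lgr Lrot38 (Lpr_dt (f585647 IH) (Lpn (LP (LK LD1_c18 LD2_c11 LD3_c35))))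
theorem f283945 : Led Lsl_bt (LP (LK LD1_c27 LD2_c51 LD3_c29)) = (LP (LK LD1_c32 LD2_c29 LD3_c15)) :=
  Lre_b IH (LK LD1_c27 LD2_c51 LD3_c29) (LK LD1_c32 LD2_c29 LD3_c15) Lrfl Lrfl
theorem f585653 : Led Lsl_dt (LP (LK LD1_c32 LD2_c29 LD3_c15)) = (LP (LK LD1_c27 LD2_c52 LD3_c6)) :=
  Lgr Lrot79 (Lpe (f283945 IH) (Lpr_df (f585651 IH) (Lpe (f278625 IH) (Lpn (LP (LK LD1_c27 LD2_c52 LD3_c6))))))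
theorem f306337 : Led Lsl_ct (LP (LK LD1_c18 LD2_c26 LD3_c53)) = (LP (LK LD1_c27 LD2_c52 LD3_c6)) :=
  Lgr Lrot59 (Lpr_cf (f306333 IH) (Lpn (LP (LK LD1_c27 LD2_c52 LD3_c6))))
theorem f878654 : Led Lsl_dt (LP (LK LD1_c15 LD2_c14 LD3_c55)) = (LP (LK LD1_c18 LD2_c26 LD3_c53)) :=
  Lgr Lrot105 (Lpr_gf (f878653 IH) (Lpe (f878651 IH) (Lpe (K53.f233518 IH) (Lpe (K53.f45965 IH) (Lpr_gt (K53.f405568 IH) (Lpr_dt (f405637 IH) (Lpr_gt (f405768 IH) (Lpr_dt (f585653 IH) (Lpe (f306337 IH) (Lpn (LP (LK LD1_c18 LD2_c26 LD3_c53))))))))))))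
theorem f878655 : Led Lsl_dt (LP (LK LD1_c15 LD2_c14 LD3_c55)) = (LP (LK LD1_c18 LD2_c26 LD3_c53)) :=
  Leop (Lpe (f878654 IH) (Lpn (LP (LK LD1_c15 LD2_c14 LD3_c55))))
theorem seed_2049 : LEOK LG_d (LK LD1_c15 LD2_c14 LD3_c55) :=
  Leoe_d (LK LD1_c15 LD2_c14 LD3_c55) (f878655 IH)
theorem f878652 : Led Lsl_ft (LP (LK LD1_c15 LD2_c14 LD3_c53)) = v35825 :=
  Lgr Lrot48 (Lpr_ff (f878647 IH) (Lpn v35825))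
theorem f878644 : Led Lsl_af (LP (LK LD1_c8 LD2_c10 LD3_c40)) = v35825 :=
  Lgr Lrot0 (Lpr_at (f878643 IH) (Lpn v35825))
theorem f240524 : Led Lsl_gt (LP (LK LD1_c15 LD2_c23 LD3_c54)) = (LP (LK LD1_c8 LD2_c10 LD3_c40)) :=
  Lre_g IH (LK LD1_c15 LD2_c23 LD3_c54) (LK LD1_c8 LD2_c10 LD3_c40) Lrfl Lrfl
theorem f878675 : Led Lsl_gt (LP (LK LD1_c15 LD2_c14 LD3_c53)) = (LP (LK LD1_c15 LD2_c23 LD3_c54)) :=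
  Lgr Lrot5 (Lpr_ft (f878652 IH) (Lpe (f878644 IH) (Lpe (f240524 IH) (Lpn (LP (LK LD1_c15 LD2_c23 LD3_c54))))))
theorem f878676 : Led Lsl_gt (LP (LK LD1_c15 LD2_c14 LD3_c53)) = (LP (LK LD1_c15 LD2_c23 LD3_c54)) :=
  Leop (Lpe (f878675 IH) (Lpn (LP (LK LD1_c15 LD2_c14 LD3_c53))))
theorem seed_2050 : LEOK LG_g (LK LD1_c15 LD2_c14 LD3_c53) :=
  Leoe_g (LK LD1_c15 LD2_c14 LD3_c53) (f878676 IH)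
def v35844 : LQ := Led Lsl_gt (LP (LK LD1_c8 LD2_c11 LD3_c32))
theorem f878760 : Led Lsl_gt (LP (LK LD1_c8 LD2_c11 LD3_c32)) = v35844 :=
  Lrfl
theorem f878763 : Led Lsl_df (LP (LK LD1_c15 LD2_c28 LD3_c45)) = v35844 :=
  Lgr Lrot135 (Lpr_gt (K25.f352952 IH) (Lpr_df (K10.f191743 IH) (Lpr_et (K25.f312018 IH) (Lpe (K25.f353179 IH) (Lpr_ef (K27.f286171 IH) (Lpe (K15.f260390 IH) (Lpr_gt (K15.f232142 IH) (Lpe (K15.f232004 IH) (Lpr_et (K21.f194302 IH) (Lpr_gt (f878760 IH) (Lpn v35844)))))))))))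
theorem f353785 : Led Lsl_bt (LP (LK LD1_c10 LD2_c38 LD3_c54)) = (LP (LK LD1_c5 LD2_c26 LD3_c47)) :=
  Lgr Lrot127 (Lpr_bf (K25.f353783 IH) (Lpn (LP (LK LD1_c5 LD2_c26 LD3_c47))))
theorem f353740 : Led Lsl_ct (LP (LK LD1_c10 LD2_c38 LD3_c54)) = (LP (LK LD1_c15 LD2_c25 LD3_c33)) :=
  Lgr Lrot7 (Lpr_df (K25.f352092 IH) (Lpe (K25.f352096 IH) (Lpe (K19.f182848 IH) (Lpe (K24.f328385 IH) (Lpe (K54.f231329 IH) (Lpr_gt (K25.f353738 IH) (Lpr_dt (K25.f325038 IH) (Lpe (K25.f351820 IH) (Lpr_dt (K25.f351778 IH) (Lpn (LP (LK LD1_c15 LD2_c25 LD3_c33))))))))))))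
theorem f352947 : Led Lsl_bt (LP (LK LD1_c15 LD2_c28 LD3_c45)) = (LP (LK LD1_c17 LD2_c48 LD3_c61)) :=
  Lgr Lrot127 (Lpr_bf (K25.f352945 IH) (Lpn (LP (LK LD1_c17 LD2_c48 LD3_c61))))
theorem f259369 : Led Lsl_gt (LP (LK LD1_c5 LD2_c26 LD3_c45)) = (LP (LK LD1_c10 LD2_c44 LD3_c39)) :=
  Lre_g IH (LK LD1_c5 LD2_c26 LD3_c45) (LK LD1_c10 LD2_c44 LD3_c39) Lrfl Lrfl
theorem f353871 : Led Lsl_ct (LP (LK LD1_c15 LD2_c28 LD3_c45)) = (LP (LK LD1_c10 LD2_c44 LD3_c39)) :=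
  Lgr Lrot63 (Lpr_bt (f352947 IH) (Lpr_gt (K25.f351512 IH) (Lpe (K10.f187284 IH) (Lpr_ct (K25.f187290 IH) (Lpe (K25.f351815 IH) (Lpe (f353740 IH) (Lpr_bt (f353785 IH) (Lpr_gt (K23.f254629 IH) (Lpr_ct (K25.f341825 IH) (Lpr_gt (f259369 IH) (Lpn (LP (LK LD1_c10 LD2_c44 LD3_c39)))))))))))))
theorem f317491 : Led Lsl_gt (LP (LK LD1_c15 LD2_c33 LD3_c22)) = (LP (LK LD1_c8 LD2_c17 LD3_c15)) :=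
  Lgr Lrot5 (Lpr_ft (K12.f189665 IH) (Lpr_at (K20.f317483 IH) (Lpe (K25.f199754 IH) (Lpn (LP (LK LD1_c8 LD2_c17 LD3_c15))))))
theorem f197550 : Led Lsl_gt (LP (LK LD1_c8 LD2_c56 LD3_c0)) = (LP (LK LD1_c4 LD2_c28 LD3_c51)) :=
  Lre_g IH (LK LD1_c8 LD2_c56 LD3_c0) (LK LD1_c4 LD2_c28 LD3_c51) Lrfl Lrfl
theorem f358001 : Led Lsl_ct (LP (LK LD1_c8 LD2_c17 LD3_c15)) = (LP (LK LD1_c8 LD2_c56 LD3_c0)) :=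
  Lgr Lrot91 (Lpe (f317491 IH) (Lpr_bf (K12.f214034 IH) (Lpr_ct (K26.f357818 IH) (Lpe (K26.f264581 IH) (Lpe (K26.f264571 IH) (Lpr_bt (K25.f264542 IH) (Lpe (K22.f8582 IH) (Lpe (K19.f197526 IH) (Lpr_ct (K25.f197532 IH) (Lpe (f197550 IH) (Lpn (LP (LK LD1_c8 LD2_c56 LD3_c0)))))))))))))
theorem f358004 : Led Lsl_cf (LP (LK LD1_c8 LD2_c17 LD3_c15)) = (LP (LK LD1_c8 LD2_c56 LD3_c0)) :=
  Lgr Lrot11 (Lpr_ct (f358001 IH) (Lpn (LP (LK LD1_c8 LD2_c56 LD3_c0))))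
theorem f197533 : Led Lsl_dt (LP (LK LD1_c4 LD2_c28 LD3_c51)) = (LP (LK LD1_c8 LD2_c56 LD3_c1)) :=
  Lre_d IH (LK LD1_c4 LD2_c28 LD3_c51) (LK LD1_c8 LD2_c56 LD3_c1) Lrfl Lrfl
theorem f347927 : Led Lsl_gt (LP (LK LD1_c8 LD2_c56 LD3_c1)) = (LP (LK LD1_c16 LD2_c43 LD3_c20)) :=
  Lre_g IH (LK LD1_c8 LD2_c56 LD3_c1) (LK LD1_c16 LD2_c43 LD3_c20) Lrfl Lrfl
theorem f878776 : Led Lsl_df (LP (LK LD1_c10 LD2_c44 LD3_c39)) = (LP (LK LD1_c16 LD2_c43 LD3_c20)) :=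
  Lgr Lrot84 (Lpe (f353871 IH) (Lpr_df (f878763 IH) (Lpe (f878760 IH) (Lpr_df (K20.f247696 IH) (Lpe (K25.f199754 IH) (Lpr_cf (f358004 IH) (Lpr_gt (f197550 IH) (Lpr_dt (f197533 IH) (Lpr_gt (f347927 IH) (Lpn (LP (LK LD1_c16 LD2_c43 LD3_c20))))))))))))
theorem f878777 : Led Lsl_dt (LP (LK LD1_c16 LD2_c43 LD3_c20)) = (LP (LK LD1_c10 LD2_c44 LD3_c39)) :=
  Leop (Lpr_df (f878776 IH) (Lpn (LP (LK LD1_c16 LD2_c43 LD3_c20))))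
theorem seed_2051 : LEOK LG_d (LK LD1_c16 LD2_c43 LD3_c20) :=
  Leoe_d (LK LD1_c16 LD2_c43 LD3_c20) (f878777 IH)
def v35845 : LQ := Led Lsl_gf (LP (LK LD1_c8 LD2_c11 LD3_c32))
theorem f878780 : Led Lsl_gf (LP (LK LD1_c8 LD2_c11 LD3_c32)) = v35845 :=
  Lrfl
theorem f194235 : Led Lsl_et (LP (LK LD1_c4 LD2_c15 LD3_c14)) = (LP (LK LD1_c8 LD2_c29 LD3_c24)) :=
  Lre_e IH (LK LD1_c4 LD2_c15 LD3_c14) (LK LD1_c8 LD2_c29 LD3_c24) Lrfl Lrfl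
theorem f194236 : Led Lsl_cf (LP (LK LD1_c8 LD2_c11 LD3_c32)) = (LP (LK LD1_c8 LD2_c29 LD3_c24)) :=
  Lgr Lrot39 (Lpr_et (K20.f194234 IH) (Lpr_ct (K13.f194224 IH) (Lpr_et (f194235 IH) (Lpn (LP (LK LD1_c8 LD2_c29 LD3_c24))))))
theorem f194296 : Led Lsl_ct (LP (LK LD1_c8 LD2_c11 LD3_c32)) = (LP (LK LD1_c8 LD2_c29 LD3_c24)) :=
  Lgr Lrot59 (Lpr_cf (f194236 IH) (Lpn (LP (LK LD1_c8 LD2_c29 LD3_c24))))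
theorem f194295 : Led Lsl_ct (LP (LK LD1_c4 LD2_c5 LD3_c22)) = (LP (LK LD1_c8 LD2_c11 LD3_c35)) :=
  Lre_c IH (LK LD1_c4 LD2_c5 LD3_c22) (LK LD1_c8 LD2_c11 LD3_c35) Lrfl Lrfl
theorem f352532 : Led Lsl_gt (LP (LK LD1_c19 LD2_c11 LD3_c13)) = (LP (LK LD1_c15 LD2_c28 LD3_c58)) :=
  Lgr Lrot65 (Lpe (K17.f194723 IH) (Lpe (K23.f194719 IH) (Lpr_gf (K19.f305599 IH) (Lpr_bf (K25.f352433 IH) (Lpr_ct (K25.f352528 IH) (Lpe (K25.f230853 IH) (Lpe (f194295 IH) (Lpe (K25.f194304 IH) (Lpr_bf (K25.f351851 IH) (Lpr_ct (K25.f187334 IH) (Lpn (LP (LK LD1_c15 LD2_c28 LD3_c58)))))))))))))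
theorem f335636 : Led Lsl_dt (LP (LK LD1_c8 LD2_c16 LD3_c2)) = (LP (LK LD1_c8 LD2_c29 LD3_c17)) :=
  Lgr Lrot42 (Lpr_df (K25.f335630 IH) (Lpn (LP (LK LD1_c8 LD2_c29 LD3_c17))))
theorem f323278 : Led Lsl_bf (LP (LK LD1_c8 LD2_c16 LD3_c2)) = (LP (LK LD1_c15 LD2_c32 LD3_c3)) :=
  Lgr Lrot24 (Lpr_bt (K25.f323276 IH) (Lpn (LP (LK LD1_c15 LD2_c32 LD3_c3))))
theorem f335638 : Led Lsl_bf (LP (LK LD1_c10 LD2_c35 LD3_c13)) = (LP (LK LD1_c8 LD2_c29 LD3_c17)) :=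
  Lgr Lrot93 (Lpe (K19.f284543 IH) (Lpe (f323278 IH) (Lpr_dt (f335636 IH) (Lpn (LP (LK LD1_c8 LD2_c29 LD3_c17))))))
theorem f190064 : Led Lsl_ct (LP (LK LD1_c8 LD2_c29 LD3_c17)) = (LP (LK LD1_c15 LD2_c56 LD3_c18)) :=
  Lre_c IH (LK LD1_c8 LD2_c29 LD3_c17) (LK LD1_c15 LD2_c56 LD3_c18) Lrfl Lrfl
theorem f379547 : Led Lsl_gf (LP (LK LD1_c15 LD2_c56 LD3_c18)) = (LP (LK LD1_c8 LD2_c29 LD3_c24)) :=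
  Lgr Lrot126 (Lpe (f190064 IH) (Lpe (f335638 IH) (Lpr_gt (K19.f310794 IH) (Lpr_ct (K17.f194723 IH) (Lpr_gt (f352532 IH) (Lpe (K25.f187334 IH) (Lpe (K25.f351851 IH) (Lpr_gt (K25.f194304 IH) (Lpe (K20.f194294 IH) (Lpr_ct (f194296 IH) (Lpn (LP (LK LD1_c8 LD2_c29 LD3_c24)))))))))))))
theorem f878785 : Led Lsl_bt (LP (LK LD1_c9 LD2_c33 LD3_c26)) = v35845 :=
  Lgr Lrot130 (Lpr_ct (K23.f323716 IH) (Lpr_gf (K23.f346417 IH) (Lpe (K23.f194731 IH) (Lpr_bt (K10.f194711 IH) (Lpe (K19.f310794 IH) (Lpr_bf (f335638 IH) (Lpr_ct (f190064 IH) (Lpr_gf (f379547 IH) (Lpe (f194296 IH) (Lpr_gf (f878780 IH) (Lpn v35845)))))))))))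
theorem f314618 : Led Lsl_gf (LP (LK LD1_c15 LD2_c11 LD3_c50)) = (LP (LK LD1_c15 LD2_c3 LD3_c21)) :=
  Lgr Lrot134 (Lpr_df (K22.f240357 IH) (Lpr_et (K22.f314612 IH) (Lpr_gt (K22.f238106 IH) (Lpe (K15.f238079 IH) (Lpr_dt (K20.f238077 IH) (Lpe (K14.f246817 IH) (Lpe (K14.f171264 IH) (Lpr_et (K19.f171304 IH) (Lpr_gt (K22.f171310 IH) (Lpr_dt (K23.f171311 IH) (Lpn (LP (LK LD1_c15 LD2_c3 LD3_c21)))))))))))))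
theorem f240297 : Led Lsl_dt (LP (LK LD1_c9 LD2_c43 LD3_c31)) = (LP (LK LD1_c4 LD2_c55 LD3_c53)) :=
  Lre_d IH (LK LD1_c9 LD2_c43 LD3_c31) (LK LD1_c4 LD2_c55 LD3_c53) Lrfl Lrfl
theorem f314620 : Led Lsl_et (LP (LK LD1_c9 LD2_c43 LD3_c31)) = (LP (LK LD1_c15 LD2_c3 LD3_c21)) :=
  Lgr Lrot121 (Lpr_dt (f240297 IH) (Lpe (K23.f168765 IH) (Lpe (K13.f240296 IH) (Lpr_et (K13.f240288 IH) (Lpr_gf (K13.f240248 IH) (Lpe (K13.f239807 IH) (Lpr_dt (K14.f235386 IH) (Lpe (K22.f239853 IH) (Lpe (K22.f240355 IH) (Lpr_gf (f314618 IH) (Lpn (LP (LK LD1_c15 LD2_c3 LD3_c21)))))))))))))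
theorem f314623 : Led Lsl_ef (LP (LK LD1_c9 LD2_c43 LD3_c31)) = (LP (LK LD1_c15 LD2_c3 LD3_c21)) :=
  Lgr Lrot88 (Lpr_et (f314620 IH) (Lpn (LP (LK LD1_c15 LD2_c3 LD3_c21))))
theorem f346384 : Led Lsl_ef (LP (LK LD1_c9 LD2_c33 LD3_c26)) = (LP (LK LD1_c4 LD2_c55 LD3_c53)) :=
  Lgr Lrot73 (Lpr_dt (K23.f346380 IH) (Lpr_et (K23.f346373 IH) (Lpr_dt (K23.f171311 IH) (Lpe (f314623 IH) (Lpr_dt (f240297 IH) (Lpn (LP (LK LD1_c4 LD2_c55 LD3_c53))))))))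
theorem f878787 : Led Lsl_ef (LP (LK LD1_c9 LD2_c43 LD3_c29)) = v35845 :=
  Lgr Lrot29 (Lpr_bt (K23.f168794 IH) (Lpe (f346384 IH) (Lpr_bt (f878785 IH) (Lpn v35845))))
theorem f878789 : Led Lsl_et (LP (LK LD1_c9 LD2_c43 LD3_c29)) = v35845 :=
  Lgr Lrot87 (Lpr_ef (f878787 IH) (Lpn v35845))
theorem f264347 : Led Lsl_dt (LP (LK LD1_c9 LD2_c43 LD3_c29)) = (LP (LK LD1_c17 LD2_c52 LD3_c44)) :=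
  Lre_d IH (LK LD1_c9 LD2_c43 LD3_c29) (LK LD1_c17 LD2_c52 LD3_c44) Lrfl Lrfl
theorem f286302 : Led Lsl_dt (LP (LK LD1_c18 LD2_c45 LD3_c27)) = (LP (LK LD1_c18 LD2_c27 LD3_c61)) :=
  Lgr Lrot42 (Lpr_df (K17.f286300 IH) (Lpn (LP (LK LD1_c18 LD2_c27 LD3_c61))))
theorem f878792 : Led Lsl_gf (LP (LK LD1_c17 LD2_c52 LD3_c44)) = (LP (LK LD1_c18 LD2_c27 LD3_c61)) :=
  Lgr Lrot134 (Lpe (f264347 IH) (Lpr_et (f878789 IH) (Lpe (f878780 IH) (Lpe (K21.f194302 IH) (Lpr_dt (K15.f232004 IH) (Lpr_gt (K15.f264948 IH) (Lpr_df (K17.f189758 IH) (Lpr_et (K15.f189762 IH) (Lpr_gt (K17.f189771 IH) (Lpr_dt (f286302 IH) (Lpn (LP (LK LD1_c18 LD2_c27 LD3_c61)))))))))))))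
theorem f878793 : Led Lsl_gt (LP (LK LD1_c18 LD2_c27 LD3_c61)) = (LP (LK LD1_c17 LD2_c52 LD3_c44)) :=
  Leop (Lpr_gf (f878792 IH) (Lpn (LP (LK LD1_c18 LD2_c27 LD3_c61))))
theorem seed_2052 : LEOK LG_g (LK LD1_c18 LD2_c27 LD3_c61) :=
  Leoe_g (LK LD1_c18 LD2_c27 LD3_c61) (f878793 IH)
theorem f878786 : Led Lsl_bf (LP (LK LD1_c9 LD2_c33 LD3_c26)) = v35845 :=
  Lgr Lrot24 (Lpr_bt (f878785 IH) (Lpn v35845))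
theorem f315592 : Led Lsl_bt (LP (LK LD1_c2 LD2_c44 LD3_c24)) = (LP (LK LD1_c5 LD2_c36 LD3_c4)) :=
  Lre_b IH (LK LD1_c2 LD2_c44 LD3_c24) (LK LD1_c5 LD2_c36 LD3_c4) Lrfl Lrfl
def v4730 : LQ := Led Lsl_ct (LP (LK LD1_c2 LD2_c44 LD3_c24))
theorem f638710 : Led Lsl_ct (LP (LK LD1_c2 LD2_c44 LD3_c24)) = v4730 :=
  Lrfl
def v5132 : LQ := Led Lsl_ct (LP (LK LD1_c2 LD2_c59 LD3_c19))
theorem f646131 : Led Lsl_ct (LP (LK LD1_c2 LD2_c59 LD3_c19)) = v5132 :=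
  Lrfl
def v4152 : LQ := Led Lsl_ct (LP (LK LD1_c2 LD2_c11 LD3_c35))
theorem f631484 : Led Lsl_ct (LP (LK LD1_c2 LD2_c11 LD3_c35)) = v4152 :=
  Lrfl
theorem f212924 : Led Lsl_dt (LP (LK LD1_c19 LD2_c54 LD3_c0)) = (LP (LK LD1_c11 LD2_c2 LD3_c39)) :=
  Lre_d IH (LK LD1_c19 LD2_c54 LD3_c0) (LK LD1_c11 LD2_c2 LD3_c39) Lrfl Lrfl
theorem f337946 : Led Lsl_ct (LP (LK LD1_c8 LD2_c39 LD3_c44)) = (LP (LK LD1_c11 LD2_c2 LD3_c39)) :=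
  Lgr Lrot91 (Lpe (K17.f235613 IH) (Lpr_bf (K21.f295407 IH) (Lpr_ct (K18.f295210 IH) (Lpe (K22.f295236 IH) (Lpr_cf (K22.f337937 IH) (Lpr_bt (K22.f324131 IH) (Lpe (K21.f292529 IH) (Lpe (K10.f31084 IH) (Lpr_ct (K20.f31089 IH) (Lpr_gf (K26.f212922 IH) (Lpn (LP (LK LD1_c11 LD2_c2 LD3_c39)))))))))))))
theorem f322769 : Led Lsl_ct (LP (LK LD1_c5 LD2_c36 LD3_c0)) = (LP (LK LD1_c11 LD2_c4 LD3_c18)) :=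
  Lre_c IH (LK LD1_c5 LD2_c36 LD3_c0) (LK LD1_c11 LD2_c4 LD3_c18) Lrfl Lrfl
theorem f332925 : Led Lsl_gt (LP (LK LD1_c11 LD2_c4 LD3_c18)) = (LP (LK LD1_c19 LD2_c56 LD3_c55)) :=
  Lre_g IH (LK LD1_c11 LD2_c4 LD3_c18) (LK LD1_c19 LD2_c56 LD3_c55) Lrfl Lrfl
theorem f344842 : Led Lsl_cf (LP (LK LD1_c8 LD2_c39 LD3_c25)) = (LP (LK LD1_c16 LD2_c10 LD3_c19)) :=
  Lgr Lrot11 (Lpr_ct (K23.f344840 IH) (Lpn (LP (LK LD1_c16 LD2_c10 LD3_c19))))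
theorem f357615 : Led Lsl_ct (LP (LK LD1_c19 LD2_c56 LD3_c55)) = (LP (LK LD1_c16 LD2_c12 LD3_c50)) :=
  Lgr Lrot110 (Lpe (f332925 IH) (Lpe (f322769 IH) (Lpr_gf (K26.f357611 IH) (Lpe (K21.f247165 IH) (Lpr_gt (K14.f212904 IH) (Lpr_ct (K14.f212680 IH) (Lpe (K23.f212686 IH) (Lpe (f344842 IH) (Lpe (K19.f31151 IH) (Lpn (LP (LK LD1_c16 LD2_c12 LD3_c50))))))))))))
theorem f360543 : Led Lsl_gf (LP (LK LD1_c26 LD2_c6 LD3_c33)) = (LP (LK LD1_c19 LD2_c56 LD3_c55)) :=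
  Lgr Lrot144 (Lpr_dt (K26.f360538 IH) (Lpr_gt (K26.f212925 IH) (Lpr_dt (f212924 IH) (Lpe (f337946 IH) (Lpe (K17.f31234 IH) (Lpr_gf (K26.f187951 IH) (Lpe (K26.f310553 IH) (Lpe (K23.f329860 IH) (Lpe (f357615 IH) (Lpn (LP (LK LD1_c19 LD2_c56 LD3_c55))))))))))))
theorem f358217 : Led Lsl_cf (LP (LK LD1_c19 LD2_c56 LD3_c55)) = (LP (LK LD1_c16 LD2_c12 LD3_c50)) :=
  Lgr Lrot11 (Lpr_ct (f357615 IH) (Lpn (LP (LK LD1_c16 LD2_c12 LD3_c50))))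
theorem f344943 : Led Lsl_bt (LP (LK LD1_c16 LD2_c12 LD3_c50)) = (LP (LK LD1_c19 LD2_c10 LD3_c29)) :=
  Lgr Lrot119 (Lpe (K19.f241914 IH) (Lpr_bf (K23.f344941 IH) (Lpe (K23.f291713 IH) (Lpn (LP (LK LD1_c19 LD2_c10 LD3_c29))))))
theorem f352555 : Led Lsl_bf (LP (LK LD1_c10 LD2_c35 LD3_c39)) = (LP (LK LD1_c8 LD2_c56 LD3_c5)) :=
  Lgr Lrot24 (Lpr_bt (K25.f352553 IH) (Lpn (LP (LK LD1_c8 LD2_c56 LD3_c5))))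
theorem f360551 : Led Lsl_bt (LP (LK LD1_c16 LD2_c9 LD3_c51)) = (LP (LK LD1_c18 LD2_c52 LD3_c29)) :=
  Lgr Lrot130 (Lpr_ct (K26.f347082 IH) (Lpr_gf (f360543 IH) (Lpr_cf (f358217 IH) (Lpr_bt (f344943 IH) (Lpr_gf (K27.f231327 IH) (Lpr_bf (f352555 IH) (Lpr_ct (K23.f323511 IH) (Lpe (K26.f352325 IH) (Lpe (K26.f348287 IH) (Lpr_gf (K26.f360512 IH) (Lpn (LP (LK LD1_c18 LD2_c52 LD3_c29)))))))))))))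
theorem f360553 : Led Lsl_bf (LP (LK LD1_c11 LD2_c2 LD3_c55)) = (LP (LK LD1_c15 LD2_c35 LD3_c4)) :=
  Lgr Lrot93 (Lpr_dt (K23.f347058 IH) (Lpr_bt (f360551 IH) (Lpe (K26.f360518 IH) (Lpn (LP (LK LD1_c15 LD2_c35 LD3_c4))))))
theorem f360555 : Led Lsl_bt (LP (LK LD1_c11 LD2_c2 LD3_c55)) = (LP (LK LD1_c15 LD2_c35 LD3_c4)) :=
  Lgr Lrot127 (Lpr_bf (f360553 IH) (Lpn (LP (LK LD1_c15 LD2_c35 LD3_c4))))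
theorem f222448 : Led Lsl_et (LP (LK LD1_c15 LD2_c35 LD3_c4)) = (LP (LK LD1_c8 LD2_c17 LD3_c15)) :=
  Lre_e IH (LK LD1_c15 LD2_c35 LD3_c4) (LK LD1_c8 LD2_c17 LD3_c15) Lrfl Lrfl
theorem f360557 : Led Lsl_bf (LP (LK LD1_c5 LD2_c35 LD3_c22)) = (LP (LK LD1_c8 LD2_c17 LD3_c15)) :=
  Lgr Lrot96 (Lpr_et (K23.f347057 IH) (Lpr_bt (f360555 IH) (Lpr_et (f222448 IH) (Lpn (LP (LK LD1_c8 LD2_c17 LD3_c15))))))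
def v1447 : LQ := Led Lsl_ft (LP (LK LD1_c1 LD2_c18 LD3_c29))
theorem f495617 : Led Lsl_ft (LP (LK LD1_c1 LD2_c18 LD3_c29)) = v1447 :=
  Lrfl
theorem f495620 : Led Lsl_ff (LP (LK LD1_c1 LD2_c18 LD3_c29)) = v1447 :=
  Lgr Lrot3 (Lpr_ft (f495617 IH) (Lpn v1447))
theorem f178195 : Led Lsl_ct (LP (LK LD1_c1 LD2_c18 LD3_c29)) = (LP (LK LD1_c0 LD2_c36 LD3_c9)) :=
  Lre_c IH (LK LD1_c1 LD2_c18 LD3_c29) (LK LD1_c0 LD2_c36 LD3_c9) Lrfl Lrfl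
theorem f495621 : Led Lsl_ct (LP (LK LD1_c1 LD2_c18 LD3_c33)) = v1447 :=
  Lgr Lrot40 (Lpe (K26.f354282 IH) (Lpe (f178195 IH) (Lpr_ff (f495620 IH) (Lpn v1447))))
theorem f631487 : Led Lsl_gf v1447 = v4152 :=
  Lgr Lrot129 (Lpe (f495621 IH) (Lpr_bt (K26.f354244 IH) (Lpr_gt (K23.f346382 IH) (Lpr_bf (f360557 IH) (Lpr_ct (f358001 IH) (Lpr_gt (f197550 IH) (Lpe (K25.f197532 IH) (Lpr_bt (K19.f197526 IH) (Lpr_gt (K22.f8582 IH) (Lpr_ct (f631484 IH) (Lpn v4152)))))))))))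
theorem f354269 : Led Lsl_ft (LP (LK LD1_c1 LD2_c18 LD3_c33)) = (LP (LK LD1_c0 LD2_c36 LD3_c9)) :=
  Lre_f IH (LK LD1_c1 LD2_c18 LD3_c33) (LK LD1_c0 LD2_c36 LD3_c9) Lrfl Lrfl
theorem f495618 : Led Lsl_cf (LP (LK LD1_c1 LD2_c18 LD3_c33)) = v1447 :=
  Lgr Lrot108 (Lpr_ft (f354269 IH) (Lpr_ct (K30.f178196 IH) (Lpr_ft (f495617 IH) (Lpn v1447))))
theorem f638711 : Led Lsl_cf (LP (LK LD1_c2 LD2_c44 LD3_c24)) = v4730 :=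
  Lgr Lrot11 (Lpr_ct (f638710 IH) (Lpn v4730))
theorem f646135 : Led Lsl_gf v4730 = v5132 :=
  Lgr Lrot104 (Lpe (f638711 IH) (Lpe (K26.f354272 IH) (Lpr_cf (f495618 IH) (Lpr_gf (f631487 IH) (Lpe (f631484 IH) (Lpe (K22.f8582 IH) (Lpe (K22.f183344 IH) (Lpr_gt (K19.f195705 IH) (Lpr_ct (f646131 IH) (Lpn v5132))))))))))
theorem f197574 : Led Lsl_bt (LP (LK LD1_c2 LD2_c59 LD3_c16)) = (LP (LK LD1_c1 LD2_c25 LD3_c22)) :=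
  Lre_b IH (LK LD1_c2 LD2_c59 LD3_c16) (LK LD1_c1 LD2_c25 LD3_c22) Lrfl Lrfl
theorem f197576 : Led Lsl_ct (LP (LK LD1_c2 LD2_c59 LD3_c16)) = (LP (LK LD1_c6 LD2_c6 LD3_c20)) :=
  Lre_c IH (LK LD1_c2 LD2_c59 LD3_c16) (LK LD1_c6 LD2_c6 LD3_c20) Lrfl Lrfl
def v16729 : LQ := Led Lsl_gf (LP (LK LD1_c6 LD2_c6 LD3_c20))
theorem f751302 : Led Lsl_gf (LP (LK LD1_c6 LD2_c6 LD3_c20)) = v16729 :=
  Lrfl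
theorem f878794 : Led Lsl_cf v16729 = v35845 :=
  Lgr Lrot160 (Lpe (f751302 IH) (Lpe (f197576 IH) (Lpr_bt (f197574 IH) (Lpr_gt (K19.f195705 IH) (Lpr_ct (f646131 IH) (Lpe (f646135 IH) (Lpe (f638710 IH) (Lpr_bt (f315592 IH) (Lpe (K23.f346377 IH) (Lpr_bf (f878786 IH) (Lpn v35845)))))))))))
theorem f183746 : Led Lsl_dt (LP (LK LD1_c6 LD2_c6 LD3_c20)) = (LP (LK LD1_c11 LD2_c55 LD3_c60)) :=
  Lre_d IH (LK LD1_c6 LD2_c6 LD3_c20) (LK LD1_c11 LD2_c55 LD3_c60) Lrfl Lrfl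
theorem f347930 : Led Lsl_dt (LP (LK LD1_c19 LD2_c28 LD3_c39)) = (LP (LK LD1_c10 LD2_c46 LD3_c11)) :=
  Lre_d IH (LK LD1_c19 LD2_c28 LD3_c39) (LK LD1_c10 LD2_c46 LD3_c11) Lrfl Lrfl
theorem f878798 : Led Lsl_gt (LP (LK LD1_c11 LD2_c55 LD3_c60)) = (LP (LK LD1_c19 LD2_c28 LD3_c39)) :=
  Lgr Lrot49 (Lpe (f183746 IH) (Lpr_gf (f751302 IH) (Lpr_cf (f878794 IH) (Lpe (f878780 IH) (Lpr_dt (K25.f232138 IH) (Lpr_gt (K23.f199752 IH) (Lpr_dt (K23.f199753 IH) (Lpr_cf (K25.f347925 IH) (Lpe (f347930 IH) (Lpn (LP (LK LD1_c19 LD2_c28 LD3_c39))))))))))))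
theorem f878799 : Led Lsl_gt (LP (LK LD1_c11 LD2_c55 LD3_c60)) = (LP (LK LD1_c19 LD2_c28 LD3_c39)) :=
  Leop (Lpe (f878798 IH) (Lpn (LP (LK LD1_c11 LD2_c55 LD3_c60))))
theorem seed_2053 : LEOK LG_g (LK LD1_c11 LD2_c55 LD3_c60) :=
  Leoe_g (LK LD1_c11 LD2_c55 LD3_c60) (f878799 IH)
def v35864 : LQ := Led Lsl_at (LP (LK LD1_c8 LD2_c11 LD3_c53))
theorem f878891 : Led Lsl_at (LP (LK LD1_c8 LD2_c11 LD3_c53)) = v35864 :=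
  Lrfl
theorem f878892 : Led Lsl_af (LP (LK LD1_c8 LD2_c11 LD3_c53)) = v35864 :=
  Lgr Lrot0 (Lpr_at (f878891 IH) (Lpn v35864))
theorem f878895 : Led Lsl_ft (LP (LK LD1_c8 LD2_c11 LD3_c54)) = v35864 :=
  Lgr Lrot2 (Lpr_gt (K19.f237929 IH) (Lpr_gt (K19.f237932 IH) (Lpr_af (f878892 IH) (Lpn v35864))))
def v35821 : LQ := Led Lsl_ft (LP (LK LD1_c8 LD2_c10 LD3_c23))
theorem f878623 : Led Lsl_ft (LP (LK LD1_c8 LD2_c10 LD3_c23)) = v35821 :=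
  Lrfl
def v35820 : LQ := Led Lsl_at (LP (LK LD1_c8 LD2_c10 LD3_c23))
theorem f878619 : Led Lsl_at (LP (LK LD1_c8 LD2_c10 LD3_c23)) = v35820 :=
  Lrfl
theorem f878620 : Led Lsl_af (LP (LK LD1_c8 LD2_c10 LD3_c23)) = v35820 :=
  Lgr Lrot0 (Lpr_at (f878619 IH) (Lpn v35820))
theorem f878621 : Led Lsl_ft (LP (LK LD1_c8 LD2_c10 LD3_c24)) = v35820 :=
  Lgr Lrot2 (Lpr_gt (K19.f189904 IH) (Lpr_gt (K23.f189908 IH) (Lpr_af (f878620 IH) (Lpn v35820))))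
theorem f878624 : Led Lsl_af (LP (LK LD1_c8 LD2_c10 LD3_c24)) = v35821 :=
  Lgr Lrot45 (Lpr_ft (f878621 IH) (Lpe (f878620 IH) (Lpr_ft (f878623 IH) (Lpn v35821))))
theorem f878893 : Led Lsl_ef v35821 = v35864 :=
  Lgr Lrot20 (Lpe (f878624 IH) (Lpe (K19.f312200 IH) (Lpr_at (f878891 IH) (Lpn v35864))))
theorem f878625 : Led Lsl_ff (LP (LK LD1_c8 LD2_c10 LD3_c23)) = v35821 :=
  Lgr Lrot3 (Lpr_ft (f878623 IH) (Lpn v35821))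
theorem f878896 : Led Lsl_ff (LP (LK LD1_c15 LD2_c23 LD3_c20)) = (LP (LK LD1_c11 LD2_c9 LD3_c37)) :=
  Lgr Lrot72 (Lpr_et (K19.f237935 IH) (Lpr_ft (f878895 IH) (Lpe (f878893 IH) (Lpe (f878625 IH) (Lpe (K23.f243724 IH) (Lpn (LP (LK LD1_c11 LD2_c9 LD3_c37))))))))
theorem f878897 : Led Lsl_ft (LP (LK LD1_c11 LD2_c9 LD3_c37)) = (LP (LK LD1_c15 LD2_c23 LD3_c20)) :=
  Leop (Lpr_ff (f878896 IH) (Lpn (LP (LK LD1_c11 LD2_c9 LD3_c37))))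
theorem seed_2054 : LEOK LG_f (LK LD1_c11 LD2_c9 LD3_c37) :=
  Leoe_f (LK LD1_c11 LD2_c9 LD3_c37) (f878897 IH)
def v35867 : LQ := Led Lsl_dt (LP (LK LD1_c8 LD2_c11 LD3_c60))
theorem f880754 : Led Lsl_dt (LP (LK LD1_c8 LD2_c11 LD3_c60)) = v35867 :=
  Lrfl
theorem f55367 : Led Lsl_gt (LP (LK LD1_c8 LD2_c11 LD3_c60)) = (LP (LK LD1_c4 LD2_c5 LD3_c33)) :=
  Lre_g IH (LK LD1_c8 LD2_c11 LD3_c60) (LK LD1_c4 LD2_c5 LD3_c33) Lrfl Lrfl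
def v16797 : LQ := Led Lsl_dt (LP (LK LD1_c6 LD2_c6 LD3_c53))
theorem f751657 : Led Lsl_dt (LP (LK LD1_c6 LD2_c6 LD3_c53)) = v16797 :=
  Lrfl
theorem f751658 : Led Lsl_df (LP (LK LD1_c6 LD2_c6 LD3_c53)) = v16797 :=
  Lgr Lrot38 (Lpr_dt (f751657 IH) (Lpn v16797))
theorem f751663 : Led Lsl_af (LP (LK LD1_c6 LD2_c6 LD3_c54)) = K57.v16799 :=
  Lgr Lrot45 (Lpr_ft (K57.f751655 IH) (Lpe (K57.f751654 IH) (Lpr_ft (K57.f751662 IH) (Lpn K57.v16799))))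
theorem f751685 : (LP (LK LD1_c6 LD2_c6 LD3_c53)) = K56.v14928 :=
  Lefun (Lecon (Lfl_ff (K57.f751664 IH)) (K57.f751679 IH).symm) (K56.f727305 IH)
theorem f756615 : Led Lsl_cf (LP (LK LD1_c11 LD2_c12 LD3_c10)) = v16797 :=
  Lgr Lrot118 (Lpr_dt (K57.f756609 IH) (Lpe (K57.f756603 IH) (Lpr_dt (K57.f9193 IH) (Lpr_ct (K57.f739644 IH) (Lpr_dt (K57.f55741 IH) (Lpe (K57.f739631 IH) (Lpr_af (f751663 IH) (Lpq (K57.f751679 IH) (Lpr_ff (K56.f727306 IH) (Lpq (f751685 IH) (Lpr_dt (f751657 IH) (Lpn v16797))))))))))))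
theorem f756616 : Led Lsl_ct (LP (LK LD1_c11 LD2_c12 LD3_c10)) = v16797 :=
  Lgr Lrot59 (Lpr_cf (f756615 IH) (Lpn v16797))
def v15500 : LQ := Led Lsl_ct (LP (LK LD1_c5 LD2_c40 LD3_c49))
theorem f737780 : Led Lsl_ct (LP (LK LD1_c5 LD2_c40 LD3_c49)) = v15500 :=
  Lrfl
theorem f737781 : Led Lsl_cf (LP (LK LD1_c5 LD2_c40 LD3_c49)) = v15500 :=
  Lgr Lrot11 (Lpr_ct (f737780 IH) (Lpn v15500))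
theorem f880758 : Led Lsl_gf v15500 = v35867 :=
  Lgr Lrot179 (Lpe (f737781 IH) (Lpr_gt (K57.f413512 IH) (Lpr_ct (f756616 IH) (Lpe (f751658 IH) (Lpr_cf (K57.f739646 IH) (Lpe (K57.f55724 IH) (Lpr_cf (K53.f55633 IH) (Lpe (f55367 IH) (Lpr_dt (f880754 IH) (Lpn v35867))))))))))
theorem f380657 : Led Lsl_dt (LP (LK LD1_c5 LD2_c40 LD3_c49)) = (LP (LK LD1_c11 LD2_c12 LD3_c11)) :=
  Lre_d IH (LK LD1_c5 LD2_c40 LD3_c49) (LK LD1_c11 LD2_c12 LD3_c11) Lrfl Lrfl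
theorem f424463 : Led Lsl_ct (LP (LK LD1_c20 LD2_c6 LD3_c50)) = (LP (LK LD1_c11 LD2_c12 LD3_c11)) :=
  Lre_c IH (LK LD1_c20 LD2_c6 LD3_c50) (LK LD1_c11 LD2_c12 LD3_c11) Lrfl Lrfl
theorem f55759 : Led Lsl_gf (LP (LK LD1_c8 LD2_c11 LD3_c60)) = (LP (LK LD1_c8 LD2_c14 LD3_c43)) :=
  Lgr Lrot47 (Lpr_gt (f55367 IH) (Lpr_af (K9.f55755 IH) (Lpe (K9.f54841 IH) (Lpn (LP (LK LD1_c8 LD2_c14 LD3_c43))))))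
theorem f55363 : Led Lsl_gt (LP (LK LD1_c2 LD2_c25 LD3_c60)) = (LP (LK LD1_c4 LD2_c56 LD3_c24)) :=
  Lre_g IH (LK LD1_c2 LD2_c25 LD3_c60) (LK LD1_c4 LD2_c56 LD3_c24) Lrfl Lrfl
theorem f55770 : Led Lsl_gt (LP (LK LD1_c4 LD2_c56 LD3_c24)) = (LP (LK LD1_c7 LD2_c59 LD3_c4)) :=
  Lgr Lrot46 (Lpe (f55363 IH) (Lpr_ft (K9.f55361 IH) (Lpr_at (K17.f55765 IH) (Lpn (LP (LK LD1_c7 LD2_c59 LD3_c4))))))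
def v14063 : LQ := Led Lsl_ct (LP (LK LD1_c4 LD2_c56 LD3_c24))
theorem f718822 : Led Lsl_ct (LP (LK LD1_c4 LD2_c56 LD3_c24)) = v14063 :=
  Lrfl
def v12881 : LQ := Led Lsl_ct (LP (LK LD1_c4 LD2_c33 LD3_c53))
theorem f698792 : Led Lsl_ct (LP (LK LD1_c4 LD2_c33 LD3_c53)) = v12881 :=
  Lrfl
theorem f698794 : Led Lsl_cf (LP (LK LD1_c4 LD2_c33 LD3_c53)) = v12881 :=
  Lgr Lrot11 (Lpr_ct (f698792 IH) (Lpn v12881))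
def v12883 : LQ := Led Lsl_ct (LP (LK LD1_c4 LD2_c33 LD3_c54))
theorem f698802 : Led Lsl_ct (LP (LK LD1_c4 LD2_c33 LD3_c54)) = v12883 :=
  Lrfl
theorem f553627 : Led Lsl_ct (LP (LK LD1_c11 LD2_c10 LD3_c52)) = (LP (LK LD1_c5 LD2_c39 LD3_c60)) :=
  Lre_c IH (LK LD1_c11 LD2_c10 LD3_c52) (LK LD1_c5 LD2_c39 LD3_c60) Lrfl Lrfl
theorem f553622 : Led Lsl_df (LP (LK LD1_c4 LD2_c7 LD3_c28)) = (LP (LK LD1_c5 LD2_c39 LD3_c60)) :=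
  Lgr Lrot38 (Lpr_dt (K53.f553614 IH) (Lpn (LP (LK LD1_c5 LD2_c39 LD3_c60))))
theorem f68890 : Led Lsl_gt (LP (LK LD1_c9 LD2_c15 LD3_c19)) = (LP (LK LD1_c6 LD2_c8 LD3_c31)) :=
  Lre_g IH (LK LD1_c9 LD2_c15 LD3_c19) (LK LD1_c6 LD2_c8 LD3_c31) Lrfl Lrfl
def v16908 : LQ := Led Lsl_ct (LP (LK LD1_c6 LD2_c8 LD3_c31))
theorem f752408 : Led Lsl_ct (LP (LK LD1_c6 LD2_c8 LD3_c31)) = v16908 :=
  Lrfl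
theorem f753499 : (LP (LK LD1_c8 LD2_c11 LD3_c60)) = v16908 :=
  (Llr Lrot104 (Lpr_gt (f55367 IH) (Lpe (K53.f55633 IH) (Lpr_df (f553622 IH) (Lpe (f553627 IH) (Lpe (K56.f553591 IH) (Lpr_cf (K56.f753495 IH) (Lpr_gf (K56.f68904 IH) (Lpe (K40.f23054 IH) (Lpr_gt (f68890 IH) (Lpr_ct (f752408 IH) (Lpn v16908)))))))))))).symm
theorem f752409 : Led Lsl_cf (LP (LK LD1_c6 LD2_c8 LD3_c31)) = v16908 :=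
  Lgr Lrot11 (Lpr_ct (f752408 IH) (Lpn v16908))
theorem f68847 : Led Lsl_gt (LP (LK LD1_c6 LD2_c8 LD3_c31)) = (LP (LK LD1_c3 LD2_c0 LD3_c28)) :=
  Lre_g IH (LK LD1_c6 LD2_c8 LD3_c31) (LK LD1_c3 LD2_c0 LD3_c28) Lrfl Lrfl
theorem f698803 : Led Lsl_cf (LP (LK LD1_c4 LD2_c33 LD3_c54)) = v12883 :=
  Lgr Lrot11 (Lpr_ct (f698802 IH) (Lpn v12883))
theorem f55362 : Led Lsl_gt (LP (LK LD1_c4 LD2_c56 LD3_c25)) = (LP (LK LD1_c2 LD2_c25 LD3_c60)) :=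
  Lre_g IH (LK LD1_c4 LD2_c56 LD3_c25) (LK LD1_c2 LD2_c25 LD3_c60) Lrfl Lrfl
theorem f55767 : Led Lsl_gf (LP (LK LD1_c4 LD2_c56 LD3_c25)) = (LP (LK LD1_c7 LD2_c59 LD3_c4)) :=
  Lgr Lrot47 (Lpr_gt (f55362 IH) (Lpr_af (K9.f55762 IH) (Lpe (K17.f54831 IH) (Lpn (LP (LK LD1_c7 LD2_c59 LD3_c4))))))
theorem f753503 : v12883 = (LP (LK LD1_c4 LD2_c56 LD3_c25)) :=
  (Llr Lrot169 (Lpe (f698803 IH) (Lpr_gt (K53.f175406 IH) (Lpr_ct (K53.f211870 IH) (Lpe (K36.f9207 IH) (Lpr_cf (K36.f9145 IH) (Lpe (f68847 IH) (Lpr_cf (f752409 IH) (Lpq (f753499 IH) (Lpr_gf (f55759 IH) (Lpe (K17.f54839 IH) (Lpe (f55767 IH) (Lpn (LP (LK LD1_c4 LD2_c56 LD3_c25))))))))))))))).symm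
def v14062 : LQ := Led Lsl_at (LP (LK LD1_c4 LD2_c56 LD3_c24))
theorem f718815 : Led Lsl_at (LP (LK LD1_c4 LD2_c56 LD3_c24)) = v14062 :=
  Lrfl
theorem f718816 : Led Lsl_af (LP (LK LD1_c4 LD2_c56 LD3_c24)) = v14062 :=
  Lgr Lrot0 (Lpr_at (f718815 IH) (Lpn v14062))
theorem f718819 : Led Lsl_ft (LP (LK LD1_c4 LD2_c56 LD3_c25)) = v14062 :=
  Lgr Lrot2 (Lpr_gt (f55362 IH) (Lpr_gt (f55363 IH) (Lpr_af (f718816 IH) (Lpn v14062))))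
theorem f753507 : Led Lsl_cf K64.v12880 = v14062 :=
  Lgr Lrot108 (Lpe (K64.f698790 IH) (Lpr_ct (f698802 IH) (Lpqs (f753503 IH) (Lpr_ft (f718819 IH) (Lpn v14062)))))
theorem f753509 : v12881 = (LP (LK LD1_c4 LD2_c56 LD3_c24)) :=
  (Llr Lrot111 (Lpe (f698792 IH) (Lpr_af (K64.f698787 IH) (Lpr_cf (f753507 IH) (Lpe (f718815 IH) (Lpn (LP (LK LD1_c4 LD2_c56 LD3_c24)))))))).symm
theorem f753510 : (LP (LK LD1_c4 LD2_c33 LD3_c53)) = v14063 :=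
  Lefun (Lecon (Lfl_cf (f698794 IH)) (f753509 IH)) (f718822 IH)
theorem f880756 : Led Lsl_ct (LP (LK LD1_c11 LD2_c6 LD3_c35)) = v35867 :=
  Lgr Lrot7 (Lpr_df (K55.f211864 IH) (Lpe (K50.f9293 IH) (Lpe (K0.f9243 IH) (Lpe (K50.f9266 IH) (Lpqs (f753510 IH) (Lpe (f718822 IH) (Lpr_gt (f55770 IH) (Lpr_dt (K17.f54839 IH) (Lpe (f55759 IH) (Lpr_dt (f880754 IH) (Lpn v35867)))))))))))
theorem f707363 : Led Lsl_bt (LP (LK LD1_c11 LD2_c38 LD3_c54)) = (LP (LK LD1_c5 LD2_c56 LD3_c51)) :=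
  Lre_b IH (LK LD1_c11 LD2_c38 LD3_c54) (LK LD1_c5 LD2_c56 LD3_c51) Lrfl Lrfl
theorem f616390 : Led Lsl_bt (LP (LK LD1_c11 LD2_c36 LD3_c61)) = (LP (LK LD1_c17 LD2_c3 LD3_c34)) :=
  Lgr Lrot95 (Lpe (K55.f82912 IH) (Lpr_bf (K55.f616371 IH) (Lpe (K55.f599526 IH) (Lpn (LP (LK LD1_c17 LD2_c3 LD3_c34))))))
theorem f747617 : Led Lsl_ff (LP (LK LD1_c11 LD2_c38 LD3_c54)) = (LP (LK LD1_c17 LD2_c3 LD3_c34)) :=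
  Lgr Lrot25 (Lpr_bt (f707363 IH) (Lpr_ft (K55.f747614 IH) (Lpr_bt (f616390 IH) (Lpn (LP (LK LD1_c17 LD2_c3 LD3_c34))))))
theorem f710987 : Led Lsl_bt (LP (LK LD1_c5 LD2_c56 LD3_c55)) = (LP (LK LD1_c11 LD2_c39 LD3_c2)) :=
  Lre_b IH (LK LD1_c5 LD2_c56 LD3_c55) (LK LD1_c11 LD2_c39 LD3_c2) Lrfl Lrfl
theorem f642353 : Led Lsl_dt (LP (LK LD1_c5 LD2_c56 LD3_c53)) = (LP (LK LD1_c11 LD2_c39 LD3_c2)) :=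
  Lre_d IH (LK LD1_c5 LD2_c56 LD3_c53) (LK LD1_c11 LD2_c39 LD3_c2) Lrfl Lrfl
theorem f539478 : Led Lsl_dt (LP (LK LD1_c11 LD2_c42 LD3_c13)) = (LP (LK LD1_c5 LD2_c58 LD3_c54)) :=
  Lre_d IH (LK LD1_c11 LD2_c42 LD3_c13) (LK LD1_c5 LD2_c58 LD3_c54) Lrfl Lrfl
theorem f747552 : Led Lsl_at (LP (LK LD1_c11 LD2_c39 LD3_c2)) = (LP (LK LD1_c11 LD2_c42 LD3_c13)) :=
  Lgr Lrot51 (Lpe (f642353 IH) (Lpr_af (K55.f747546 IH) (Lpe (f539478 IH) (Lpn (LP (LK LD1_c11 LD2_c42 LD3_c13))))))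
theorem f175403 : Led Lsl_et (LP (LK LD1_c11 LD2_c51 LD3_c17)) = (LP (LK LD1_c6 LD2_c3 LD3_c52)) :=
  Lre_e IH (LK LD1_c11 LD2_c51 LD3_c17) (LK LD1_c6 LD2_c3 LD3_c52) Lrfl Lrfl
theorem f494559 : Led Lsl_df (LP (LK LD1_c11 LD2_c29 LD3_c10)) = (LP (LK LD1_c11 LD2_c51 LD3_c17)) :=
  Lgr Lrot170 (Lpr_gt (K55.f494543 IH) (Lpr_df (K30.f494539 IH) (Lpr_et (K36.f176713 IH) (Lpr_gt (K10.f176705 IH) (Lpe (K10.f176709 IH) (Lpr_gt (K9.f175413 IH) (Lpe (K9.f175386 IH) (Lpr_et (K39.f175400 IH) (Lpr_gt (K50.f175401 IH) (Lpe (f175403 IH) (Lpn (LP (LK LD1_c11 LD2_c51 LD3_c17)))))))))))))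
theorem f494561 : Led Lsl_dt (LP (LK LD1_c11 LD2_c29 LD3_c10)) = (LP (LK LD1_c11 LD2_c51 LD3_c17)) :=
  Lgr Lrot42 (Lpr_df (f494559 IH) (Lpn (LP (LK LD1_c11 LD2_c51 LD3_c17))))
theorem f744995 : Led Lsl_bf (LP (LK LD1_c11 LD2_c42 LD3_c13)) = (LP (LK LD1_c11 LD2_c51 LD3_c17)) :=
  Lgr Lrot93 (Lpr_dt (f539478 IH) (Lpr_bt (K55.f744993 IH) (Lpr_dt (f494561 IH) (Lpn (LP (LK LD1_c11 LD2_c51 LD3_c17))))))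
theorem f745010 : Led Lsl_bt (LP (LK LD1_c11 LD2_c42 LD3_c13)) = (LP (LK LD1_c11 LD2_c51 LD3_c17)) :=
  Lgr Lrot127 (Lpr_bf (f744995 IH) (Lpn (LP (LK LD1_c11 LD2_c51 LD3_c17))))
theorem f616392 : Led Lsl_bf (LP (LK LD1_c11 LD2_c36 LD3_c61)) = (LP (LK LD1_c17 LD2_c3 LD3_c34)) :=
  Lgr Lrot24 (Lpr_bt (f616390 IH) (Lpn (LP (LK LD1_c17 LD2_c3 LD3_c34))))
theorem f747612 : Led Lsl_at (LP (LK LD1_c11 LD2_c51 LD3_c17)) = (LP (LK LD1_c17 LD2_c3 LD3_c34)) :=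
  Lgr Lrot67 (Lpe (f745010 IH) (Lpe (f747552 IH) (Lpe (f710987 IH) (Lpr_af (K55.f747595 IH) (Lpr_bf (f616392 IH) (Lpn (LP (LK LD1_c17 LD2_c3 LD3_c34))))))))
theorem f494390 : Led Lsl_dt (LP (LK LD1_c9 LD2_c10 LD3_c24)) = (LP (LK LD1_c17 LD2_c3 LD3_c33)) :=
  Lre_d IH (LK LD1_c9 LD2_c10 LD3_c24) (LK LD1_c17 LD2_c3 LD3_c33) Lrfl Lrfl
theorem f747567 : Led Lsl_ff (LP (LK LD1_c11 LD2_c51 LD3_c17)) = (LP (LK LD1_c17 LD2_c3 LD3_c33)) :=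
  Lgr Lrot19 (Lpe (f494559 IH) (Lpr_ft (K55.f747528 IH) (Lpq (K55.f747562 IH) (Lpr_dt (f494390 IH) (Lpn (LP (LK LD1_c17 LD2_c3 LD3_c33)))))))
theorem f747646 : Led Lsl_at (LP (LK LD1_c11 LD2_c38 LD3_c54)) = (LP (LK LD1_c17 LD2_c3 LD3_c33)) :=
  Lgr Lrot66 (Lpr_ff (f747617 IH) (Lpe (f747612 IH) (Lpr_ff (f747567 IH) (Lpn (LP (LK LD1_c17 LD2_c3 LD3_c33))))))
theorem f744984 : Led Lsl_dt (LP (LK LD1_c11 LD2_c38 LD3_c54)) = (LP (LK LD1_c5 LD2_c56 LD3_c49)) :=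
  Lre_d IH (LK LD1_c11 LD2_c38 LD3_c54) (LK LD1_c5 LD2_c56 LD3_c49) Lrfl Lrfl
theorem f186128 : Led Lsl_gt (LP (LK LD1_c6 LD2_c45 LD3_c60)) = (LP (LK LD1_c3 LD2_c21 LD3_c3)) :=
  Lre_g IH (LK LD1_c6 LD2_c45 LD3_c60) (LK LD1_c3 LD2_c21 LD3_c3) Lrfl Lrfl
theorem f745005 : Led Lsl_et (LP (LK LD1_c11 LD2_c38 LD3_c54)) = (LP (LK LD1_c6 LD2_c45 LD3_c60)) :=
  Lgr Lrot121 (Lpr_dt (f744984 IH) (Lpqs (K55.f745001 IH) (Lpe (K55.f744469 IH) (Lpr_df (K30.f494539 IH) (Lpr_et (K36.f176713 IH) (Lpe (K11.f186109 IH) (Lpe (K37.f186121 IH) (Lpr_dt (K37.f186122 IH) (Lpe (K50.f186123 IH) (Lpr_df (K50.f186126 IH) (Lpe (f186128 IH) (Lpn (LP (LK LD1_c6 LD2_c45 LD3_c60))))))))))))))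
theorem f745007 : Led Lsl_ef (LP (LK LD1_c11 LD2_c38 LD3_c54)) = (LP (LK LD1_c6 LD2_c45 LD3_c60)) :=
  Lgr Lrot88 (Lpr_et (f745005 IH) (Lpn (LP (LK LD1_c6 LD2_c45 LD3_c60))))
theorem f599532 : Led Lsl_dt (LP (LK LD1_c17 LD2_c3 LD3_c33)) = (LP (LK LD1_c9 LD2_c10 LD3_c24)) :=
  Lre_d IH (LK LD1_c17 LD2_c3 LD3_c33) (LK LD1_c9 LD2_c10 LD3_c24) Lrfl Lrfl
theorem f416733 : Led Lsl_gt (LP (LK LD1_c9 LD2_c31 LD3_c45)) = (LP (LK LD1_c4 LD2_c49 LD3_c32)) :=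
  Lre_g IH (LK LD1_c9 LD2_c31 LD3_c45) (LK LD1_c4 LD2_c49 LD3_c32) Lrfl Lrfl
theorem f599533 : Led Lsl_et (LP (LK LD1_c17 LD2_c3 LD3_c33)) = (LP (LK LD1_c9 LD2_c31 LD3_c45)) :=
  Lgr Lrot185 (Lpr_dt (f599532 IH) (Lpe (K55.f494389 IH) (Lpr_df (K55.f599522 IH) (Lpe (K35.f268347 IH) (Lpr_ef (K35.f416731 IH) (Lpr_dt (K24.f415146 IH) (Lpe (K24.f416726 IH) (Lpe (K24.f73939 IH) (Lpr_et (K50.f180329 IH) (Lpe (f416733 IH) (Lpn (LP (LK LD1_c9 LD2_c31 LD3_c45)))))))))))))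
theorem f747652 : Led Lsl_af (LP (LK LD1_c6 LD2_c45 LD3_c60)) = (LP (LK LD1_c9 LD2_c31 LD3_c45)) :=
  Lgr Lrot50 (Lpe (f745007 IH) (Lpr_at (f747646 IH) (Lpr_et (f599533 IH) (Lpn (LP (LK LD1_c9 LD2_c31 LD3_c45))))))
theorem f639890 : Led Lsl_gf (LP (LK LD1_c6 LD2_c45 LD3_c60)) = (LP (LK LD1_c9 LD2_c31 LD3_c46)) :=
  Lgr Lrot47 (Lpr_gt (f186128 IH) (Lpr_af (K50.f639883 IH) (Lpe (K50.f634218 IH) (Lpn (LP (LK LD1_c9 LD2_c31 LD3_c46))))))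
theorem f186137 : Led Lsl_gt (LP (LK LD1_c3 LD2_c21 LD3_c3)) = (LP (LK LD1_c6 LD2_c45 LD3_c59)) :=
  Lre_g IH (LK LD1_c3 LD2_c21 LD3_c3) (LK LD1_c6 LD2_c45 LD3_c59) Lrfl Lrfl
theorem f639894 : Led Lsl_gt (LP (LK LD1_c6 LD2_c45 LD3_c59)) = (LP (LK LD1_c9 LD2_c31 LD3_c46)) :=
  Lgr Lrot46 (Lpe (f186137 IH) (Lpr_ft (K50.f186136 IH) (Lpr_at (K50.f639888 IH) (Lpn (LP (LK LD1_c9 LD2_c31 LD3_c46))))))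
theorem f747656 : Led Lsl_ft (LP (LK LD1_c6 LD2_c45 LD3_c59)) = (LP (LK LD1_c9 LD2_c31 LD3_c45)) :=
  Lgr Lrot2 (Lpr_gt (f639894 IH) (Lpe (f639890 IH) (Lpr_af (f747652 IH) (Lpn (LP (LK LD1_c9 LD2_c31 LD3_c45))))))
theorem f747660 : Led Lsl_ff (LP (LK LD1_c6 LD2_c45 LD3_c59)) = (LP (LK LD1_c9 LD2_c31 LD3_c45)) :=
  Lgr Lrot3 (Lpr_ft (f747656 IH) (Lpn (LP (LK LD1_c9 LD2_c31 LD3_c45))))
def v13885 : LQ := Led Lsl_gt (LP (LK LD1_c4 LD2_c49 LD3_c32))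
theorem f705693 : Led Lsl_gt (LP (LK LD1_c4 LD2_c49 LD3_c32)) = v13885 :=
  Lrfl
theorem f747662 : Led Lsl_at (LP (LK LD1_c6 LD2_c45 LD3_c59)) = v13885 :=
  Lgr Lrot26 (Lpr_ff (f747660 IH) (Lpr_gt (f416733 IH) (Lpr_gt (f705693 IH) (Lpn v13885))))
theorem f747654 : Led Lsl_at (LP (LK LD1_c6 LD2_c45 LD3_c60)) = (LP (LK LD1_c9 LD2_c31 LD3_c45)) :=
  Lgr Lrot100 (Lpr_af (f747652 IH) (Lpn (LP (LK LD1_c9 LD2_c31 LD3_c45))))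
theorem f747666 : Led Lsl_ff (LP (LK LD1_c6 LD2_c45 LD3_c60)) = v13885 :=
  Lgr Lrot30 (Lpr_at (f747654 IH) (Lpe (f747660 IH) (Lpr_at (f747662 IH) (Lpn v13885))))
theorem f747669 : Led Lsl_ft (LP (LK LD1_c6 LD2_c45 LD3_c60)) = v13885 :=
  Lgr Lrot48 (Lpr_ff (f747666 IH) (Lpn v13885))
theorem f599538 : Led Lsl_ef (LP (LK LD1_c17 LD2_c3 LD3_c34)) = (LP (LK LD1_c9 LD2_c14 LD3_c30)) :=
  Lgr Lrot88 (Lpr_et (K55.f599535 IH) (Lpn (LP (LK LD1_c9 LD2_c14 LD3_c30))))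
theorem f180328 : Led Lsl_et (LP (LK LD1_c3 LD2_c20 LD3_c50)) = (LP (LK LD1_c1 LD2_c36 LD3_c43)) :=
  Lre_e IH (LK LD1_c3 LD2_c20 LD3_c50) (LK LD1_c1 LD2_c36 LD3_c43) Lrfl Lrfl
theorem f22907 : Led Lsl_dt (LP (LK LD1_c3 LD2_c20 LD3_c50)) = (LP (LK LD1_c6 LD2_c45 LD3_c36)) :=
  Lre_d IH (LK LD1_c3 LD2_c20 LD3_c50) (LK LD1_c6 LD2_c45 LD3_c36) Lrfl Lrfl
theorem f285290 : Led Lsl_af (LP (LK LD1_c4 LD2_c39 LD3_c25)) = (LP (LK LD1_c2 LD2_c58 LD3_c1)) :=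
  Lgr Lrot45 (Lpr_ft (K55.f23968 IH) (Lpr_at (K55.f285287 IH) (Lpr_ft (K39.f175434 IH) (Lpn (LP (LK LD1_c2 LD2_c58 LD3_c1))))))
theorem f285294 : Led Lsl_at (LP (LK LD1_c4 LD2_c39 LD3_c25)) = (LP (LK LD1_c2 LD2_c58 LD3_c1)) :=
  Lgr Lrot100 (Lpr_af (f285290 IH) (Lpn (LP (LK LD1_c2 LD2_c58 LD3_c1))))
theorem f23967 : Led Lsl_ft (LP (LK LD1_c9 LD2_c14 LD3_c32)) = (LP (LK LD1_c4 LD2_c39 LD3_c25)) :=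
  Lre_f IH (LK LD1_c9 LD2_c14 LD3_c32) (LK LD1_c4 LD2_c39 LD3_c25) Lrfl Lrfl
theorem f175408 : Led Lsl_gt (LP (LK LD1_c6 LD2_c3 LD3_c53)) = (LP (LK LD1_c2 LD2_c58 LD3_c1)) :=
  Lre_g IH (LK LD1_c6 LD2_c3 LD3_c53) (LK LD1_c2 LD2_c58 LD3_c1) Lrfl Lrfl
theorem f285305 : Led Lsl_gt (LP (LK LD1_c9 LD2_c14 LD3_c32)) = (LP (LK LD1_c6 LD2_c3 LD3_c53)) :=
  Lgr Lrot5 (Lpr_ft (f23967 IH) (Lpr_at (f285294 IH) (Lpe (f175408 IH) (Lpn (LP (LK LD1_c6 LD2_c3 LD3_c53))))))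
theorem f166186 : Led Lsl_et (LP (LK LD1_c2 LD2_c53 LD3_c60)) = (LP (LK LD1_c5 LD2_c55 LD3_c18)) :=
  Lre_e IH (LK LD1_c2 LD2_c53 LD3_c60) (LK LD1_c5 LD2_c55 LD3_c18) Lrfl Lrfl
theorem f166189 : Led Lsl_gf (LP (LK LD1_c5 LD2_c55 LD3_c18)) = (LP (LK LD1_c5 LD2_c5 LD3_c54)) :=
  Lgr Lrot141 (Lpe (f166186 IH) (Lpr_dt (K17.f166185 IH) (Lpr_gt (K17.f166184 IH) (Lpe (K17.f166183 IH) (Lpr_et (K17.f166182 IH) (Lpr_gt (K9.f166162 IH) (Lpr_dt (K9.f164735 IH) (Lpr_gt (K9.f164693 IH) (Lpe (K11.f166187 IH) (Lpr_et (K36.f166188 IH) (Lpn (LP (LK LD1_c5 LD2_c5 LD3_c54)))))))))))))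
theorem f285135 : Led Lsl_gt (LP (LK LD1_c5 LD2_c55 LD3_c18)) = (LP (LK LD1_c10 LD2_c4 LD3_c34)) :=
  Lgr Lrot46 (Lpr_gf (f166189 IH) (Lpr_ft (K39.f166192 IH) (Lpr_at (K39.f285128 IH) (Lpn (LP (LK LD1_c10 LD2_c4 LD3_c34))))))
theorem f166197 : Led Lsl_dt (LP (LK LD1_c6 LD2_c45 LD3_c27)) = (LP (LK LD1_c5 LD2_c55 LD3_c18)) :=
  Lre_d IH (LK LD1_c6 LD2_c45 LD3_c27) (LK LD1_c5 LD2_c55 LD3_c18) Lrfl Lrfl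
theorem f166198 : Led Lsl_et (LP (LK LD1_c6 LD2_c45 LD3_c27)) = (LP (LK LD1_c3 LD2_c20 LD3_c47)) :=
  Lre_e IH (LK LD1_c6 LD2_c45 LD3_c27) (LK LD1_c3 LD2_c20 LD3_c47) Lrfl Lrfl
theorem f268661 : Led Lsl_dt (LP (LK LD1_c6 LD2_c3 LD3_c53)) = (LP (LK LD1_c11 LD2_c51 LD3_c18)) :=
  Lre_d IH (LK LD1_c6 LD2_c3 LD3_c53) (LK LD1_c11 LD2_c51 LD3_c18) Lrfl Lrfl
theorem f285307 : Led Lsl_gf (LP (LK LD1_c6 LD2_c45 LD3_c36)) = (LP (LK LD1_c11 LD2_c51 LD3_c18)) :=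
  Lgr Lrot134 (Lpe (f22907 IH) (Lpr_et (f180328 IH) (Lpr_gt (K24.f180323 IH) (Lpe (f166198 IH) (Lpr_dt (f166197 IH) (Lpr_gt (f285135 IH) (Lpe (K39.f186224 IH) (Lpe (K55.f285285 IH) (Lpr_gt (f285305 IH) (Lpr_dt (f268661 IH) (Lpn (LP (LK LD1_c11 LD2_c51 LD3_c18)))))))))))))
theorem f705695 : Led Lsl_et (LP (LK LD1_c6 LD2_c3 LD3_c53)) = v13885 :=
  Lgr Lrot122 (Lpr_dt (f268661 IH) (Lpe (f285307 IH) (Lpe (f22907 IH) (Lpr_et (f180328 IH) (Lpr_gt (K24.f180323 IH) (Lpr_dt (K17.f180322 IH) (Lpr_gt (K17.f180315 IH) (Lpe (K24.f73939 IH) (Lpr_et (K50.f180329 IH) (Lpr_gt (f705693 IH) (Lpn v13885)))))))))))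
theorem f705696 : Led Lsl_ef (LP (LK LD1_c6 LD2_c3 LD3_c53)) = v13885 :=
  Lgr Lrot88 (Lpr_et (f705695 IH) (Lpn v13885))
theorem f747670 : Led Lsl_ff (LP (LK LD1_c9 LD2_c14 LD3_c30)) = (LP (LK LD1_c6 LD2_c3 LD3_c53)) :=
  Lgr Lrot72 (Lpe (f599538 IH) (Lpe (f747617 IH) (Lpr_et (f745005 IH) (Lpr_ft (f747669 IH) (Lpe (f705696 IH) (Lpn (LP (LK LD1_c6 LD2_c3 LD3_c53))))))))
theorem f747674 : Led Lsl_at (LP (LK LD1_c9 LD2_c14 LD3_c30)) = (LP (LK LD1_c6 LD2_c3 LD3_c52)) :=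
  Lgr Lrot26 (Lpr_ff (f747670 IH) (Lpr_gt (f175408 IH) (Lpr_gt (K50.f175401 IH) (Lpn (LP (LK LD1_c6 LD2_c3 LD3_c52))))))
theorem f699797 : Led Lsl_ft K50.v12949 = (LP (LK LD1_c5 LD2_c53 LD3_c23)) :=
  Lgr Lrot48 (Lpr_ff (K50.f699793 IH) (Lpn (LP (LK LD1_c5 LD2_c53 LD3_c23))))
theorem f71460 : Led Lsl_dt (LP (LK LD1_c5 LD2_c53 LD3_c23)) = (LP (LK LD1_c11 LD2_c32 LD3_c52)) :=
  Lre_d IH (LK LD1_c5 LD2_c53 LD3_c23) (LK LD1_c11 LD2_c32 LD3_c52) Lrfl Lrfl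
theorem f699798 : Led Lsl_ff (LP (LK LD1_c6 LD2_c12 LD3_c10)) = (LP (LK LD1_c11 LD2_c32 LD3_c52)) :=
  Lgr Lrot19 (Lpr_dt (K66.f699770 IH) (Lpr_ft (f699797 IH) (Lpr_dt (f71460 IH) (Lpn (LP (LK LD1_c11 LD2_c32 LD3_c52))))))
theorem f285314 : Led Lsl_et (LP (LK LD1_c3 LD2_c20 LD3_c51)) = (LP (LK LD1_c6 LD2_c45 LD3_c36)) :=
  Lre_e IH (LK LD1_c3 LD2_c20 LD3_c51) (LK LD1_c6 LD2_c45 LD3_c36) Lrfl Lrfl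
theorem f699800 : Led Lsl_et (LP (LK LD1_c12 LD2_c55 LD3_c17)) = (LP (LK LD1_c11 LD2_c32 LD3_c52)) :=
  Lgr Lrot69 (Lpe (K35.f509926 IH) (Lpe (f285314 IH) (Lpr_ff (K35.f509920 IH) (Lpe (K50.f180392 IH) (Lpr_ff (f699798 IH) (Lpn (LP (LK LD1_c11 LD2_c32 LD3_c52))))))))
theorem f699802 : Led Lsl_ef (LP (LK LD1_c12 LD2_c55 LD3_c17)) = (LP (LK LD1_c11 LD2_c32 LD3_c52)) :=
  Lgr Lrot88 (Lpr_et (f699800 IH) (Lpn (LP (LK LD1_c11 LD2_c32 LD3_c52))))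
theorem f509937 : Led Lsl_at (LP (LK LD1_c6 LD2_c45 LD3_c36)) = (LP (LK LD1_c6 LD2_c12 LD3_c13)) :=
  Lgr Lrot100 (Lpr_af (K35.f509935 IH) (Lpn (LP (LK LD1_c6 LD2_c12 LD3_c13))))
theorem f510102 : Led Lsl_ft (LP (LK LD1_c12 LD2_c55 LD3_c17)) = (LP (LK LD1_c6 LD2_c45 LD3_c36)) :=
  Lre_f IH (LK LD1_c12 LD2_c55 LD3_c17) (LK LD1_c6 LD2_c45 LD3_c36) Lrfl Lrfl
theorem f175454 : Led Lsl_gt (LP (LK LD1_c12 LD2_c4 LD3_c5)) = (LP (LK LD1_c6 LD2_c12 LD3_c13)) :=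
  Lre_g IH (LK LD1_c12 LD2_c4 LD3_c5) (LK LD1_c6 LD2_c12 LD3_c13) Lrfl Lrfl
theorem f510110 : Led Lsl_gt (LP (LK LD1_c12 LD2_c55 LD3_c17)) = (LP (LK LD1_c12 LD2_c4 LD3_c5)) :=
  Lgr Lrot5 (Lpr_ft (f510102 IH) (Lpr_at (f509937 IH) (Lpe (f175454 IH) (Lpn (LP (LK LD1_c12 LD2_c4 LD3_c5))))))
theorem f23969 : Led Lsl_gt (LP (LK LD1_c9 LD2_c14 LD3_c31)) = (LP (LK LD1_c4 LD2_c39 LD3_c25)) :=
  Lre_g IH (LK LD1_c9 LD2_c14 LD3_c31) (LK LD1_c4 LD2_c39 LD3_c25) Lrfl Lrfl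
theorem f699804 : Led Lsl_dt (LP (LK LD1_c12 LD2_c4 LD3_c5)) = (LP (LK LD1_c9 LD2_c14 LD3_c31)) :=
  Lgr Lrot171 (Lpe (f510110 IH) (Lpr_ef (f699802 IH) (Lpr_dt (K50.f177014 IH) (Lpe (K50.f71458 IH) (Lpe (K36.f177007 IH) (Lpr_et (K36.f177000 IH) (Lpr_gf (K40.f177003 IH) (Lpe (K55.f23943 IH) (Lpe (K56.f23965 IH) (Lpe (f23969 IH) (Lpn (LP (LK LD1_c9 LD2_c14 LD3_c31)))))))))))))
theorem f699809 : Led Lsl_df (LP (LK LD1_c12 LD2_c4 LD3_c5)) = (LP (LK LD1_c9 LD2_c14 LD3_c31)) :=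
  Lgr Lrot38 (Lpr_dt (f699804 IH) (Lpn (LP (LK LD1_c9 LD2_c14 LD3_c31))))
theorem f445866 : Led Lsl_dt (LP (LK LD1_c4 LD2_c49 LD3_c20)) = (LP (LK LD1_c6 LD2_c12 LD3_c13)) :=
  Lgr Lrot42 (Lpr_df (K35.f27131 IH) (Lpn (LP (LK LD1_c6 LD2_c12 LD3_c13))))
theorem f699820 : Led Lsl_ef (LP (LK LD1_c6 LD2_c45 LD3_c59)) = (LP (LK LD1_c9 LD2_c14 LD3_c31)) :=
  Lgr Lrot17 (Lpe (f186137 IH) (Lpe (K50.f186133 IH) (Lpr_dt (K17.f186141 IH) (Lpr_gf (K24.f416520 IH) (Lpe (K24.f414938 IH) (Lpe (K24.f414530 IH) (Lpe (K35.f27129 IH) (Lpr_dt (f445866 IH) (Lpe (f175454 IH) (Lpr_df (f699809 IH) (Lpn (LP (LK LD1_c9 LD2_c14 LD3_c31)))))))))))))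
theorem f599544 : Led Lsl_ef (LP (LK LD1_c17 LD2_c3 LD3_c33)) = (LP (LK LD1_c9 LD2_c31 LD3_c45)) :=
  Lgr Lrot88 (Lpr_et (f599533 IH) (Lpn (LP (LK LD1_c9 LD2_c31 LD3_c45))))
theorem f747658 : Led Lsl_ff (LP (LK LD1_c9 LD2_c14 LD3_c31)) = (LP (LK LD1_c6 LD2_c3 LD3_c52)) :=
  Lgr Lrot72 (Lpe (f699820 IH) (Lpr_ft (f747656 IH) (Lpe (f599544 IH) (Lpe (f747567 IH) (Lpr_et (f175403 IH) (Lpn (LP (LK LD1_c6 LD2_c3 LD3_c52))))))))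
theorem f747680 : Led Lsl_af (LP (LK LD1_c6 LD2_c3 LD3_c53)) = (LP (LK LD1_c9 LD2_c14 LD3_c31)) :=
  Lgr Lrot45 (Lpe (f747670 IH) (Lpr_at (f747674 IH) (Lpe (f747658 IH) (Lpn (LP (LK LD1_c9 LD2_c14 LD3_c31))))))
theorem f747682 : Led Lsl_at (LP (LK LD1_c11 LD2_c51 LD3_c18)) = (LP (LK LD1_c12 LD2_c4 LD3_c5)) :=
  Lgr Lrot51 (Lpe (f268661 IH) (Lpr_af (f747680 IH) (Lpe (f699804 IH) (Lpn (LP (LK LD1_c12 LD2_c4 LD3_c5))))))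
theorem f285200 : Led Lsl_af (LP (LK LD1_c11 LD2_c23 LD3_c60)) = (LP (LK LD1_c11 LD2_c59 LD3_c20)) :=
  Lgr Lrot117 (Lpe (K56.f180379 IH) (Lpr_at (K39.f285196 IH) (Lpe (K39.f285164 IH) (Lpn (LP (LK LD1_c11 LD2_c59 LD3_c20))))))
theorem f285204 : Led Lsl_at (LP (LK LD1_c11 LD2_c23 LD3_c60)) = (LP (LK LD1_c11 LD2_c59 LD3_c20)) :=
  Lgr Lrot100 (Lpr_af (f285200 IH) (Lpn (LP (LK LD1_c11 LD2_c59 LD3_c20))))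
theorem f285208 : Led Lsl_af (LP (LK LD1_c5 LD2_c46 LD3_c55)) = (LP (LK LD1_c6 LD2_c9 LD3_c7)) :=
  Lgr Lrot45 (Lpr_ft (K56.f180374 IH) (Lpr_at (f285204 IH) (Lpr_ft (K39.f268484 IH) (Lpn (LP (LK LD1_c6 LD2_c9 LD3_c7))))))
theorem f285212 : Led Lsl_gf (LP (LK LD1_c11 LD2_c23 LD3_c59)) = (LP (LK LD1_c11 LD2_c59 LD3_c20)) :=
  Lgr Lrot47 (Lpr_gt (K32.f180375 IH) (Lpr_af (f285208 IH) (Lpe (K39.f268484 IH) (Lpn (LP (LK LD1_c11 LD2_c59 LD3_c20))))))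
theorem f268485 : Led Lsl_ef (LP (LK LD1_c11 LD2_c59 LD3_c20)) = (LP (LK LD1_c11 LD2_c23 LD3_c53)) :=
  Lgr Lrot21 (Lpr_ft (K39.f268484 IH) (Lpr_et (K35.f60217 IH) (Lpr_ft (K16.f268477 IH) (Lpr_et (K50.f68622 IH) (Lpr_ft (K39.f68666 IH) (Lpn (LP (LK LD1_c11 LD2_c23 LD3_c53))))))))
theorem f414529 : Led Lsl_gt (LP (LK LD1_c6 LD2_c12 LD3_c13)) = (LP (LK LD1_c12 LD2_c4 LD3_c4)) :=
  Lre_g IH (LK LD1_c6 LD2_c12 LD3_c13) (LK LD1_c12 LD2_c4 LD3_c4) Lrfl Lrfl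
theorem f509807 : Led Lsl_df (LP (LK LD1_c9 LD2_c14 LD3_c30)) = (LP (LK LD1_c12 LD2_c4 LD3_c4)) :=
  Lgr Lrot135 (Lpr_gt (K55.f285292 IH) (Lpr_df (K39.f175435 IH) (Lpe (f268485 IH) (Lpe (f285212 IH) (Lpr_ef (K32.f509798 IH) (Lpr_dt (K24.f414524 IH) (Lpe (K17.f414511 IH) (Lpr_df (K9.f27125 IH) (Lpr_et (K35.f27130 IH) (Lpr_gt (f414529 IH) (Lpn (LP (LK LD1_c12 LD2_c4 LD3_c4)))))))))))))
theorem f509809 : Led Lsl_dt (LP (LK LD1_c9 LD2_c14 LD3_c30)) = (LP (LK LD1_c12 LD2_c4 LD3_c4)) :=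
  Lgr Lrot42 (Lpr_df (f509807 IH) (Lpn (LP (LK LD1_c12 LD2_c4 LD3_c4))))
theorem f175438 : Led Lsl_dt (LP (LK LD1_c11 LD2_c51 LD3_c18)) = (LP (LK LD1_c6 LD2_c3 LD3_c53)) :=
  Lre_d IH (LK LD1_c11 LD2_c51 LD3_c18) (LK LD1_c6 LD2_c3 LD3_c53) Lrfl Lrfl
theorem f747672 : Led Lsl_ft (LP (LK LD1_c12 LD2_c4 LD3_c4)) = (LP (LK LD1_c11 LD2_c51 LD3_c18)) :=
  Lgr Lrot54 (Lpe (f509809 IH) (Lpr_ff (f747670 IH) (Lpe (f175438 IH) (Lpn (LP (LK LD1_c11 LD2_c51 LD3_c18))))))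
theorem f747678 : Led Lsl_af (LP (LK LD1_c12 LD2_c4 LD3_c4)) = (LP (LK LD1_c11 LD2_c51 LD3_c16)) :=
  Lgr Lrot117 (Lpe (f509807 IH) (Lpr_at (f747674 IH) (Lpr_dt (K50.f175402 IH) (Lpn (LP (LK LD1_c11 LD2_c51 LD3_c16))))))
theorem f747688 : Led Lsl_ff (LP (LK LD1_c11 LD2_c51 LD3_c16)) = (LP (LK LD1_c12 LD2_c4 LD3_c5)) :=
  Lgr Lrot30 (Lpe (f747678 IH) (Lpr_ft (f747672 IH) (Lpr_at (f747682 IH) (Lpn (LP (LK LD1_c12 LD2_c4 LD3_c5))))))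
theorem f747692 : Led Lsl_ft (LP (LK LD1_c11 LD2_c51 LD3_c16)) = (LP (LK LD1_c12 LD2_c4 LD3_c5)) :=
  Lgr Lrot48 (Lpr_ff (f747688 IH) (Lpn (LP (LK LD1_c12 LD2_c4 LD3_c5))))
theorem f747696 : Led Lsl_ff (LP (LK LD1_c6 LD2_c3 LD3_c52)) = (LP (LK LD1_c9 LD2_c14 LD3_c31)) :=
  Lgr Lrot19 (Lpr_dt (K50.f175402 IH) (Lpr_ft (f747692 IH) (Lpr_dt (f699804 IH) (Lpn (LP (LK LD1_c9 LD2_c14 LD3_c31))))))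
theorem f494563 : Led Lsl_et (LP (LK LD1_c6 LD2_c3 LD3_c52)) = (LP (LK LD1_c11 LD2_c51 LD3_c17)) :=
  Lre_e IH (LK LD1_c6 LD2_c3 LD3_c52) (LK LD1_c11 LD2_c51 LD3_c17) Lrfl Lrfl
theorem f699825 : Led Lsl_et (LP (LK LD1_c6 LD2_c45 LD3_c59)) = (LP (LK LD1_c9 LD2_c14 LD3_c31)) :=
  Lgr Lrot87 (Lpr_ef (f699820 IH) (Lpn (LP (LK LD1_c9 LD2_c14 LD3_c31))))
theorem f747700 : Led Lsl_ft (LP (LK LD1_c11 LD2_c51 LD3_c17)) = (LP (LK LD1_c17 LD2_c3 LD3_c33)) :=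
  Lgr Lrot86 (Lpe (f494563 IH) (Lpr_ff (f747696 IH) (Lpe (f699825 IH) (Lpr_ff (f747660 IH) (Lpe (f599533 IH) (Lpn (LP (LK LD1_c17 LD2_c3 LD3_c33))))))))
theorem f701071 : Led Lsl_gt (LP (LK LD1_c6 LD2_c45 LD3_c36)) = (LP (LK LD1_c11 LD2_c51 LD3_c16)) :=
  Lgr Lrot5 (Lpr_ft (K35.f509926 IH) (Lpr_at (K35.f509944 IH) (Lpr_gf (K50.f701069 IH) (Lpn (LP (LK LD1_c11 LD2_c51 LD3_c16))))))
theorem f701075 : Led Lsl_gf (LP (LK LD1_c16 LD2_c57 LD3_c24)) = (LP (LK LD1_c11 LD2_c51 LD3_c17)) :=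
  Lgr Lrot141 (Lpe (K50.f211868 IH) (Lpe (K55.f211864 IH) (Lpr_gt (K55.f211880 IH) (Lpe (K55.f26991 IH) (Lpe (K55.f26987 IH) (Lpr_gt (K55.f22898 IH) (Lpr_dt (f22907 IH) (Lpr_gt (f701071 IH) (Lpe (K50.f175402 IH) (Lpr_et (f494563 IH) (Lpn (LP (LK LD1_c11 LD2_c51 LD3_c17)))))))))))))
theorem f747650 : Led Lsl_af (LP (LK LD1_c11 LD2_c38 LD3_c54)) = (LP (LK LD1_c17 LD2_c3 LD3_c33)) :=
  Lgr Lrot0 (Lpr_at (f747646 IH) (Lpn (LP (LK LD1_c17 LD2_c3 LD3_c33))))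
theorem f747704 : Led Lsl_gt (LP (LK LD1_c16 LD2_c57 LD3_c24)) = (LP (LK LD1_c11 LD2_c38 LD3_c54)) :=
  Lgr Lrot46 (Lpr_gf (f701075 IH) (Lpr_ft (f747700 IH) (Lpe (f747650 IH) (Lpn (LP (LK LD1_c11 LD2_c38 LD3_c54))))))
theorem f412394 : Led Lsl_af (LP (LK LD1_c2 LD2_c57 LD3_c55)) = (LP (LK LD1_c4 LD2_c39 LD3_c15)) :=
  Lgr Lrot0 (Lpr_at (K36.f412392 IH) (Lpn (LP (LK LD1_c4 LD2_c39 LD3_c15))))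
theorem f176045 : Led Lsl_ft (LP (LK LD1_c9 LD2_c14 LD3_c9)) = (LP (LK LD1_c4 LD2_c39 LD3_c15)) :=
  Lre_f IH (LK LD1_c9 LD2_c14 LD3_c9) (LK LD1_c4 LD2_c39 LD3_c15) Lrfl Lrfl
theorem f412410 : Led Lsl_gf (LP (LK LD1_c6 LD2_c3 LD3_c34)) = (LP (LK LD1_c9 LD2_c14 LD3_c9)) :=
  Lgr Lrot47 (Lpr_gt (K56.f175354 IH) (Lpr_af (f412394 IH) (Lpe (f176045 IH) (Lpn (LP (LK LD1_c9 LD2_c14 LD3_c9))))))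
theorem f750802 : Led Lsl_et (LP (LK LD1_c11 LD2_c22 LD3_c44)) = (LP (LK LD1_c6 LD2_c3 LD3_c34)) :=
  Lgr Lrot87 (Lpr_ef (K56.f750800 IH) (Lpn (LP (LK LD1_c6 LD2_c3 LD3_c34))))
theorem f824026 : Led Lsl_dt (LP (LK LD1_c11 LD2_c22 LD3_c44)) = K64.v15572 :=
  Lgr Lrot136 (Lpr_et (f750802 IH) (Lpr_gf (f412410 IH) (Lpe (K49.f412402 IH) (Lpe (K55.f599511 IH) (Lpr_gf (K55.f744470 IH) (Lpq (K55.f745001 IH) (Lpe (f744984 IH) (Lpe (f747704 IH) (Lpe (K50.f211868 IH) (Lpe (K55.f211864 IH) (Lpr_gf (K64.f824025 IH) (Lpn K64.v15572))))))))))))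
theorem f640490 : Led Lsl_ct (LP (LK LD1_c5 LD2_c46 LD3_c12)) = (LP (LK LD1_c11 LD2_c22 LD3_c45)) :=
  Lre_c IH (LK LD1_c5 LD2_c46 LD3_c12) (LK LD1_c11 LD2_c22 LD3_c45) Lrfl Lrfl
theorem f880759 : Led Lsl_gf (LP (LK LD1_c20 LD2_c6 LD3_c50)) = (LP (LK LD1_c11 LD2_c22 LD3_c45)) :=
  Lgr Lrot104 (Lpr_ct (f424463 IH) (Lpe (f380657 IH) (Lpr_cf (f737781 IH) (Lpr_gf (f880758 IH) (Lpe (f880756 IH) (Lpr_gf (K64.f824025 IH) (Lpe (f824026 IH) (Lpr_gt (K55.f180507 IH) (Lpr_ct (f640490 IH) (Lpn (LP (LK LD1_c11 LD2_c22 LD3_c45))))))))))))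
theorem f880760 : Led Lsl_gt (LP (LK LD1_c11 LD2_c22 LD3_c45)) = (LP (LK LD1_c20 LD2_c6 LD3_c50)) :=
  Leop (Lpr_gf (f880759 IH) (Lpn (LP (LK LD1_c11 LD2_c22 LD3_c45))))
theorem seed_2055 : LEOK LG_g (LK LD1_c11 LD2_c22 LD3_c45) :=
  Leoe_g (LK LD1_c11 LD2_c22 LD3_c45) (f880760 IH)
def v35872 : LQ := Led Lsl_bt (LP (LK LD1_c8 LD2_c12 LD3_c3))
theorem f880844 : Led Lsl_bt (LP (LK LD1_c8 LD2_c12 LD3_c3)) = v35872 :=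
  Lrfl
def v4602 : LQ := Led Lsl_ct (LP (LK LD1_c2 LD2_c34 LD3_c12))
theorem f636354 : Led Lsl_ct (LP (LK LD1_c2 LD2_c34 LD3_c12)) = v4602 :=
  Lrfl
def v12968 : LQ := Led Lsl_ct (LP (LK LD1_c4 LD2_c35 LD3_c45))
theorem f699930 : Led Lsl_ct (LP (LK LD1_c4 LD2_c35 LD3_c45)) = v12968 :=
  Lrfl
theorem f421543 : Led Lsl_gf (LP (LK LD1_c11 LD2_c36 LD3_c1)) = (LP (LK LD1_c11 LD2_c23 LD3_c60)) :=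
  Lgr Lrot47 (Lpr_gt (K35.f421540 IH) (Lpr_af (K39.f268500 IH) (Lpe (K56.f180371 IH) (Lpn (LP (LK LD1_c11 LD2_c23 LD3_c60))))))
theorem f442470 : Led Lsl_gf (LP (LK LD1_c4 LD2_c35 LD3_c45)) = (LP (LK LD1_c2 LD2_c54 LD3_c0)) :=
  Lgr Lrot138 (Lpr_dt (K56.f442468 IH) (Lpr_gt (K24.f442466 IH) (Lpe (K17.f166185 IH) (Lpr_et (f166186 IH) (Lpr_gt (f285135 IH) (Lpe (K39.f285216 IH) (Lpr_dt (K56.f180372 IH) (Lpe (f421543 IH) (Lpe (K35.f166170 IH) (Lpr_et (K35.f166169 IH) (Lpn (LP (LK LD1_c2 LD2_c54 LD3_c0)))))))))))))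
theorem f415340 : Led Lsl_et (LP (LK LD1_c1 LD2_c26 LD3_c13)) = (LP (LK LD1_c2 LD2_c17 LD3_c33)) :=
  Lre_e IH (LK LD1_c1 LD2_c26 LD3_c13) (LK LD1_c2 LD2_c17 LD3_c33) Lrfl Lrfl
theorem f645296 : Led Lsl_gf K46.v1733 = K55.v4958 :=
  Lgr Lrot141 (Lpr_ef (K46.f645294 IH) (Lpe (K46.f645283 IH) (Lpr_gt (K46.f58581 IH) (Lpe (K54.f27122 IH) (Lpr_et (f415340 IH) (Lpr_gt (K17.f59971 IH) (Lpr_dt (K17.f141019 IH) (Lpr_gt (K35.f416494 IH) (Lpr_df (K32.f509413 IH) (Lpr_et (K55.f641062 IH) (Lpn K55.v4958)))))))))))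
theorem f668536 : Led Lsl_ct K46.v1733 = K49.v7813 :=
  Lgr Lrot8 (Lpr_gt (K46.f645295 IH) (Lpe (K46.f631980 IH) (Lpr_gt (K35.f22473 IH) (Lpr_dt (K17.f166183 IH) (Lpr_cf (K49.f446809 IH) (Lpr_df (K35.f451468 IH) (Lpr_gf (K35.f491594 IH) (Lpr_df (K35.f494747 IH) (Lpr_gf (K49.f668533 IH) (Lpn K49.v7813))))))))))
def v4604 : LQ := Led Lsl_ct (LP (LK LD1_c2 LD2_c34 LD3_c13))
theorem f636374 : Led Lsl_ct (LP (LK LD1_c2 LD2_c34 LD3_c13)) = v4604 :=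
  Lrfl
theorem f636376 : Led Lsl_cf (LP (LK LD1_c2 LD2_c34 LD3_c13)) = v4604 :=
  Lgr Lrot11 (Lpr_ct (f636374 IH) (Lpn v4604))
theorem f699936 : Led Lsl_gf v4604 = v12968 :=
  Lgr Lrot104 (Lpe (f636376 IH) (Lpr_df (K35.f496140 IH) (Lpe (K49.f496139 IH) (Lpr_gf (K49.f668533 IH) (Lpe (f668536 IH) (Lpr_gf (f645296 IH) (Lpe (K55.f641054 IH) (Lpe (f442470 IH) (Lpr_ct (f699930 IH) (Lpn v12968))))))))))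
def v4583 : LQ := Led Lsl_ct (LP (LK LD1_c2 LD2_c31 LD3_c23))
theorem f636250 : Led Lsl_ct (LP (LK LD1_c2 LD2_c31 LD3_c23)) = v4583 :=
  Lrfl
theorem f636251 : Led Lsl_cf (LP (LK LD1_c2 LD2_c31 LD3_c23)) = v4583 :=
  Lgr Lrot11 (Lpr_ct (f636250 IH) (Lpn v4583))
theorem f636377 : Led Lsl_ff v4583 = v4604 :=
  Lgr Lrot23 (Lpe (f636251 IH) (Lpr_ft (K53.f623737 IH) (Lpr_ct (f636374 IH) (Lpn v4604))))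
theorem f636356 : Led Lsl_cf (LP (LK LD1_c2 LD2_c34 LD3_c12)) = v4602 :=
  Lgr Lrot11 (Lpr_ct (f636354 IH) (Lpn v4602))
theorem f636360 : Led Lsl_at v4583 = v4602 :=
  Lgr Lrot107 (Lpe (f636250 IH) (Lpr_af (K53.f623730 IH) (Lpr_cf (f636356 IH) (Lpn v4602))))
theorem f636260 : Led Lsl_cf (LP (LK LD1_c2 LD2_c31 LD3_c24)) = K56.v4585 :=
  Lgr Lrot11 (Lpr_ct (K56.f636259 IH) (Lpn K56.v4585))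
theorem f636357 : Led Lsl_ff K56.v4585 = v4602 :=
  Lgr Lrot23 (Lpe (f636260 IH) (Lpr_ft (K48.f623726 IH) (Lpr_ct (f636354 IH) (Lpn v4602))))
theorem f636380 : Led Lsl_at K56.v4585 = v4604 :=
  Lgr Lrot66 (Lpr_ff (f636357 IH) (Lpe (f636360 IH) (Lpr_ff (f636377 IH) (Lpn v4604))))
theorem f699937 : Led Lsl_gt v4602 = v12968 :=
  Lgr Lrot5 (Lpe (f636357 IH) (Lpr_at (f636380 IH) (Lpr_gf (f699936 IH) (Lpn v12968))))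
theorem f500493 : Led Lsl_bt (LP (LK LD1_c4 LD2_c35 LD3_c45)) = (LP (LK LD1_c9 LD2_c7 LD3_c36)) :=
  Lre_b IH (LK LD1_c4 LD2_c35 LD3_c45) (LK LD1_c9 LD2_c7 LD3_c36) Lrfl Lrfl
theorem f880848 : Led Lsl_gt (LP (LK LD1_c9 LD2_c7 LD3_c36)) = v35872 :=
  Lgr Lrot164 (Lpe (f500493 IH) (Lpr_ct (f699930 IH) (Lpe (f699937 IH) (Lpe (f636354 IH) (Lpe (K48.f164384 IH) (Lpe (K38.f164388 IH) (Lpr_ct (K56.f164396 IH) (Lpe (K56.f164409 IH) (Lpr_cf (K56.f752228 IH) (Lpr_bt (f880844 IH) (Lpn v35872)))))))))))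
theorem f699877 : Led Lsl_ft (LP (LK LD1_c9 LD2_c7 LD3_c36)) = (LP (LK LD1_c4 LD2_c35 LD3_c31)) :=
  Lre_f IH (LK LD1_c9 LD2_c7 LD3_c36) (LK LD1_c4 LD2_c35 LD3_c31) Lrfl Lrfl
theorem f442792 : Led Lsl_at (LP (LK LD1_c4 LD2_c35 LD3_c31)) = (LP (LK LD1_c9 LD2_c7 LD3_c18)) :=
  Lre_a IH (LK LD1_c4 LD2_c35 LD3_c31) (LK LD1_c9 LD2_c7 LD3_c18) Lrfl Lrfl
theorem f880849 : Led Lsl_gf (LP (LK LD1_c9 LD2_c7 LD3_c18)) = v35872 :=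
  Lgr Lrot76 (Lpe (f442792 IH) (Lpe (f699877 IH) (Lpr_gt (f880848 IH) (Lpn v35872))))
theorem f641018 : Led Lsl_ct (LP (LK LD1_c9 LD2_c7 LD3_c18)) = (LP (LK LD1_c16 LD2_c59 LD3_c28)) :=
  Lre_c IH (LK LD1_c9 LD2_c7 LD3_c18) (LK LD1_c16 LD2_c59 LD3_c28) Lrfl Lrfl
theorem f751598 : Led Lsl_ff (LP (LK LD1_c6 LD2_c6 LD3_c52)) = K56.v16795 :=
  Lgr Lrot3 (Lpr_ft (K56.f751595 IH) (Lpn K56.v16795))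
theorem f622511 : Led Lsl_af (LP (LK LD1_c5 LD2_c14 LD3_c28)) = (LP (LK LD1_c6 LD2_c6 LD3_c52)) :=
  Lgr Lrot0 (Lpr_at (K56.f622509 IH) (Lpn (LP (LK LD1_c6 LD2_c6 LD3_c52))))
theorem f751651 : Led Lsl_gf (LP (LK LD1_c10 LD2_c18 LD3_c32)) = K56.v16795 :=
  Lgr Lrot47 (Lpr_gt (K56.f164409 IH) (Lpr_af (f622511 IH) (Lpr_ff (f751598 IH) (Lpn K56.v16795))))
theorem f751650 : Led Lsl_ct (LP (LK LD1_c6 LD2_c7 LD3_c11)) = K56.v16795 :=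
  Lgr Lrot40 (Lpe (K54.f177433 IH) (Lpe (K56.f177407 IH) (Lpr_ff (f751598 IH) (Lpn K56.v16795))))
theorem f622495 : Led Lsl_bf (LP (LK LD1_c10 LD2_c6 LD3_c0)) = (LP (LK LD1_c6 LD2_c7 LD3_c11)) :=
  Lgr Lrot24 (Lpr_bt (K54.f622491 IH) (Lpn (LP (LK LD1_c6 LD2_c7 LD3_c11))))
theorem f22352 : Led Lsl_bt (LP (LK LD1_c10 LD2_c6 LD3_c39)) = (LP (LK LD1_c5 LD2_c8 LD3_c2)) :=
  Lre_b IH (LK LD1_c10 LD2_c6 LD3_c39) (LK LD1_c5 LD2_c8 LD3_c2) Lrfl Lrfl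
theorem f622517 : Led Lsl_ct (LP (LK LD1_c10 LD2_c6 LD3_c39)) = (LP (LK LD1_c18 LD2_c25 LD3_c45)) :=
  Lre_c IH (LK LD1_c10 LD2_c6 LD3_c39) (LK LD1_c18 LD2_c25 LD3_c45) Lrfl Lrfl
theorem f880854 : Led Lsl_gt (LP (LK LD1_c16 LD2_c59 LD3_c28)) = (LP (LK LD1_c18 LD2_c25 LD3_c45)) :=
  Lgr Lrot149 (Lpe (f641018 IH) (Lpr_gf (f880849 IH) (Lpe (f880844 IH) (Lpe (K56.f752228 IH) (Lpr_gf (f751651 IH) (Lpe (f751650 IH) (Lpe (f622495 IH) (Lpe (K55.f22348 IH) (Lpe (f22352 IH) (Lpr_ct (f622517 IH) (Lpn (LP (LK LD1_c18 LD2_c25 LD3_c45)))))))))))))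
theorem f880855 : Led Lsl_gt (LP (LK LD1_c16 LD2_c59 LD3_c28)) = (LP (LK LD1_c18 LD2_c25 LD3_c45)) :=
  Leop (Lpe (f880854 IH) (Lpn (LP (LK LD1_c16 LD2_c59 LD3_c28))))
theorem seed_2056 : LEOK LG_g (LK LD1_c16 LD2_c59 LD3_c28) :=
  Leoe_g (LK LD1_c16 LD2_c59 LD3_c28) (f880855 IH)
def v35903 : LQ := Led Lsl_ft (LP (LK LD1_c8 LD2_c12 LD3_c37))
theorem f881015 : Led Lsl_ft (LP (LK LD1_c8 LD2_c12 LD3_c37)) = v35903 :=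
  Lrfl
theorem f73445 : Led Lsl_gt (LP (LK LD1_c8 LD2_c12 LD3_c37)) = (LP (LK LD1_c15 LD2_c26 LD3_c44)) :=
  Lre_g IH (LK LD1_c8 LD2_c12 LD3_c37) (LK LD1_c15 LD2_c26 LD3_c44) Lrfl Lrfl
theorem f55695 : Led Lsl_at (LP (LK LD1_c4 LD2_c6 LD3_c0)) = (LP (LK LD1_c8 LD2_c12 LD3_c37)) :=
  Lre_a IH (LK LD1_c4 LD2_c6 LD3_c0) (LK LD1_c8 LD2_c12 LD3_c37) Lrfl Lrfl
theorem f73238 : Led Lsl_ft (LP (LK LD1_c8 LD2_c12 LD3_c49)) = (LP (LK LD1_c4 LD2_c6 LD3_c0)) :=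
  Lre_f IH (LK LD1_c8 LD2_c12 LD3_c49) (LK LD1_c4 LD2_c6 LD3_c0) Lrfl Lrfl
theorem f881016 : Led Lsl_af (LP (LK LD1_c8 LD2_c12 LD3_c49)) = v35903 :=
  Lgr Lrot45 (Lpr_ft (f73238 IH) (Lpr_at (f55695 IH) (Lpr_ft (f881015 IH) (Lpn v35903))))
theorem f881019 : Led Lsl_gt (LP (LK LD1_c15 LD2_c26 LD3_c44)) = (LP (LK LD1_c8 LD2_c12 LD3_c49)) :=
  Lgr Lrot46 (Lpe (f73445 IH) (Lpr_ft (f881015 IH) (Lpe (f881016 IH) (Lpn (LP (LK LD1_c8 LD2_c12 LD3_c49))))))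
theorem f881020 : Led Lsl_gt (LP (LK LD1_c15 LD2_c26 LD3_c44)) = (LP (LK LD1_c8 LD2_c12 LD3_c49)) :=
  Leop (Lpe (f881019 IH) (Lpn (LP (LK LD1_c15 LD2_c26 LD3_c44))))
theorem seed_2057 : LEOK LG_g (LK LD1_c15 LD2_c26 LD3_c44) :=
  Leoe_g (LK LD1_c15 LD2_c26 LD3_c44) (f881020 IH)
def v35660 : LQ := Led Lsl_et (LP (LK LD1_c8 LD2_c0 LD3_c22))
theorem f876553 : Led Lsl_et (LP (LK LD1_c8 LD2_c0 LD3_c22)) = v35660 :=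
  Lrfl
theorem f876555 : Led Lsl_ef (LP (LK LD1_c8 LD2_c0 LD3_c22)) = v35660 :=
  Lgr Lrot88 (Lpr_et (f876553 IH) (Lpn v35660))
theorem f876556 : Led Lsl_at (LP (LK LD1_c8 LD2_c0 LD3_c47)) = v35660 :=
  Lgr Lrot80 (Lpe (K57.f689243 IH) (Lpqs (f876360 IH) (Lpe (f876343 IH) (Lpr_ef (f876555 IH) (Lpn v35660)))))
theorem f73272 : Led Lsl_et (LP (LK LD1_c2 LD2_c49 LD3_c45)) = (LP (LK LD1_c1 LD2_c20 LD3_c59)) :=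
  Lre_e IH (LK LD1_c2 LD2_c49 LD3_c45) (LK LD1_c1 LD2_c20 LD3_c59) Lrfl Lrfl
theorem f73275 : Led Lsl_gt (LP (LK LD1_c8 LD2_c12 LD3_c48)) = (LP (LK LD1_c4 LD2_c6 LD3_c0)) :=
  Lre_g IH (LK LD1_c8 LD2_c12 LD3_c48) (LK LD1_c4 LD2_c6 LD3_c0) Lrfl Lrfl
theorem f876557 : Led Lsl_df (LP (LK LD1_c8 LD2_c12 LD3_c48)) = v35660 :=
  Lgr Lrot170 (Lpr_gt (f73275 IH) (Lpr_df (K2.f73236 IH) (Lpr_et (f73272 IH) (Lpr_gt (K4.f59455 IH) (Lpr_dt (K4.f99504 IH) (Lpe (K4.f99581 IH) (Lpe (K2.f40317 IH) (Lpr_et (K1.f40297 IH) (Lpr_gt (K52.f99585 IH) (Lpr_ef (f876555 IH) (Lpn v35660)))))))))))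
theorem f876817 : Led Lsl_at (LP (LK LD1_c8 LD2_c12 LD3_c48)) = v35679 :=
  Lgr Lrot51 (Lpr_df (f876557 IH) (Lpe (f876556 IH) (Lpr_df (f876814 IH) (Lpn v35679))))
theorem f881021 : Led Lsl_ft (LP (LK LD1_c15 LD2_c26 LD3_c44)) = (LP (LK LD1_c8 LD2_c12 LD3_c48)) :=
  Lgr Lrot2 (Lpr_gt (f881019 IH) (Lpr_gt (f876815 IH) (Lpe (f876817 IH) (Lpn (LP (LK LD1_c8 LD2_c12 LD3_c48))))))
theorem f881022 : Led Lsl_ft (LP (LK LD1_c15 LD2_c26 LD3_c44)) = (LP (LK LD1_c8 LD2_c12 LD3_c48)) :=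
  Leop (Lpe (f881021 IH) (Lpn (LP (LK LD1_c15 LD2_c26 LD3_c44))))
theorem seed_2058 : LEOK LG_f (LK LD1_c15 LD2_c26 LD3_c44) :=
  Leoe_f (LK LD1_c15 LD2_c26 LD3_c44) (f881022 IH)
theorem f185742 : Led Lsl_gt (LP (LK LD1_c10 LD2_c17 LD3_c13)) = (LP (LK LD1_c18 LD2_c42 LD3_c7)) :=
  Lre_g IH (LK LD1_c10 LD2_c17 LD3_c13) (LK LD1_c18 LD2_c42 LD3_c7) Lrfl Lrfl
theorem f499889 : Led Lsl_ct (LP (LK LD1_c20 LD2_c37 LD3_c50)) = (LP (LK LD1_c11 LD2_c38 LD3_c40)) :=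
  Lre_c IH (LK LD1_c20 LD2_c37 LD3_c50) (LK LD1_c11 LD2_c38 LD3_c40) Lrfl Lrfl
theorem f560074 : Led Lsl_af (LP (LK LD1_c20 LD2_c37 LD3_c50)) = (LP (LK LD1_c18 LD2_c42 LD3_c9)) :=
  Lgr Lrot0 (Lpr_at (K50.f560072 IH) (Lpn (LP (LK LD1_c18 LD2_c42 LD3_c9))))
theorem f185741 : Led Lsl_ft (LP (LK LD1_c10 LD2_c17 LD3_c13)) = (LP (LK LD1_c18 LD2_c42 LD3_c9)) :=
  Lre_f IH (LK LD1_c10 LD2_c17 LD3_c13) (LK LD1_c18 LD2_c42 LD3_c9) Lrfl Lrfl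
theorem f618166 : Led Lsl_gf (LP (LK LD1_c20 LD2_c37 LD3_c50)) = (LP (LK LD1_c18 LD2_c42 LD3_c7)) :=
  Lgr Lrot76 (Lpr_af (f560074 IH) (Lpe (f185741 IH) (Lpr_gt (f185742 IH) (Lpn (LP (LK LD1_c18 LD2_c42 LD3_c7))))))
theorem f545045 : Led Lsl_gt (LP (LK LD1_c10 LD2_c6 LD3_c13)) = (LP (LK LD1_c18 LD2_c25 LD3_c14)) :=
  Lre_g IH (LK LD1_c10 LD2_c6 LD3_c13) (LK LD1_c18 LD2_c25 LD3_c14) Lrfl Lrfl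
theorem f753206 : Led Lsl_cf (LP (LK LD1_c18 LD2_c42 LD3_c7)) = (LP (LK LD1_c18 LD2_c25 LD3_c14)) :=
  Lgr Lrot169 (Lpe (f618166 IH) (Lpr_ct (f499889 IH) (Lpe (K42.f496738 IH) (Lpe (K52.f157093 IH) (Lpr_gf (K60.f499887 IH) (Lpr_cf (K60.f753201 IH) (Lpe (K60.f24098 IH) (Lpr_df (K38.f545034 IH) (Lpr_gt (f545045 IH) (Lpn (LP (LK LD1_c18 LD2_c25 LD3_c14))))))))))))
theorem f881023 : Led Lsl_bf (LP (LK LD1_c15 LD2_c26 LD3_c44)) = (LP (LK LD1_c18 LD2_c25 LD3_c14)) :=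
  Lgr Lrot156 (Lpr_gt (f881019 IH) (Lpe (K2.f55785 IH) (Lpr_ct (K52.f691618 IH) (Lpe (K52.f691620 IH) (Lpe (K52.f646335 IH) (Lpr_bt (K52.f22981 IH) (Lpr_gt (K52.f714126 IH) (Lpr_ct (K52.f185722 IH) (Lpr_gt (f185742 IH) (Lpr_cf (f753206 IH) (Lpn (LP (LK LD1_c18 LD2_c25 LD3_c14)))))))))))))
theorem f881024 : Led Lsl_bt (LP (LK LD1_c18 LD2_c25 LD3_c14)) = (LP (LK LD1_c15 LD2_c26 LD3_c44)) :=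
  Leop (Lpr_bf (f881023 IH) (Lpn (LP (LK LD1_c18 LD2_c25 LD3_c14))))
theorem seed_2059 : LEOK LG_b (LK LD1_c18 LD2_c25 LD3_c14) :=
  Leoe_b (LK LD1_c18 LD2_c25 LD3_c14) (f881024 IH)
def v35908 : LQ := Led Lsl_at (LP (LK LD1_c8 LD2_c12 LD3_c43))
theorem f881056 : Led Lsl_at (LP (LK LD1_c8 LD2_c12 LD3_c43)) = v35908 :=
  Lrfl
theorem f55467 : Led Lsl_ct (LP (LK LD1_c4 LD2_c7 LD3_c0)) = (LP (LK LD1_c8 LD2_c14 LD3_c38)) :=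
  Lre_c IH (LK LD1_c4 LD2_c7 LD3_c0) (LK LD1_c8 LD2_c14 LD3_c38) Lrfl Lrfl
theorem f55469 : Led Lsl_ft (LP (LK LD1_c8 LD2_c14 LD3_c38)) = (LP (LK LD1_c8 LD2_c12 LD3_c43)) :=
  Lgr Lrot4 (Lpe (f55467 IH) (Lpr_ff (K1.f55463 IH) (Lpe (K45.f55468 IH) (Lpn (LP (LK LD1_c8 LD2_c12 LD3_c43))))))
theorem f444466 : Led Lsl_at (LP (LK LD1_c15 LD2_c30 LD3_c25)) = (LP (LK LD1_c8 LD2_c14 LD3_c38)) :=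
  Lre_a IH (LK LD1_c15 LD2_c30 LD3_c25) (LK LD1_c8 LD2_c14 LD3_c38) Lrfl Lrfl
theorem f881059 : Led Lsl_ff (LP (LK LD1_c15 LD2_c30 LD3_c25)) = v35908 :=
  Lgr Lrot30 (Lpr_at (f444466 IH) (Lpr_ft (f55469 IH) (Lpr_at (f881056 IH) (Lpn v35908))))
theorem f881062 : Led Lsl_ft (LP (LK LD1_c15 LD2_c30 LD3_c25)) = v35908 :=
  Lgr Lrot48 (Lpr_ff (f881059 IH) (Lpn v35908))
theorem f881057 : Led Lsl_af (LP (LK LD1_c8 LD2_c12 LD3_c43)) = v35908 :=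
  Lgr Lrot0 (Lpr_at (f881056 IH) (Lpn v35908))
theorem f183076 : Led Lsl_gt (LP (LK LD1_c15 LD2_c26 LD3_c56)) = (LP (LK LD1_c8 LD2_c12 LD3_c43)) :=
  Lre_g IH (LK LD1_c15 LD2_c26 LD3_c56) (LK LD1_c8 LD2_c12 LD3_c43) Lrfl Lrfl
theorem f881064 : Led Lsl_gt (LP (LK LD1_c15 LD2_c30 LD3_c25)) = (LP (LK LD1_c15 LD2_c26 LD3_c56)) :=
  Lgr Lrot5 (Lpr_ft (f881062 IH) (Lpe (f881057 IH) (Lpe (f183076 IH) (Lpn (LP (LK LD1_c15 LD2_c26 LD3_c56))))))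
theorem f881065 : Led Lsl_gt (LP (LK LD1_c15 LD2_c30 LD3_c25)) = (LP (LK LD1_c15 LD2_c26 LD3_c56)) :=
  Leop (Lpe (f881064 IH) (Lpn (LP (LK LD1_c15 LD2_c30 LD3_c25))))
theorem seed_2060 : LEOK LG_g (LK LD1_c15 LD2_c30 LD3_c25) :=
  Leoe_g (LK LD1_c15 LD2_c30 LD3_c25) (f881065 IH)
def v35911 : LQ := Led Lsl_bt (LP (LK LD1_c8 LD2_c12 LD3_c47))
theorem f881075 : Led Lsl_bt (LP (LK LD1_c8 LD2_c12 LD3_c47)) = v35911 :=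
  Lrfl
theorem f876558 : Led Lsl_bt (LP (LK LD1_c8 LD2_c12 LD3_c48)) = (LP (LK LD1_c15 LD2_c27 LD3_c5)) :=
  Lre_b IH (LK LD1_c8 LD2_c12 LD3_c48) (LK LD1_c15 LD2_c27 LD3_c5) Lrfl Lrfl
theorem f881027 : Led Lsl_ft (LP (LK LD1_c15 LD2_c27 LD3_c5)) = (LP (LK LD1_c18 LD2_c25 LD3_c14)) :=
  Lgr Lrot75 (Lpe (f876558 IH) (Lpe (f881021 IH) (Lpr_bf (f881023 IH) (Lpn (LP (LK LD1_c18 LD2_c25 LD3_c14))))))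
theorem f881029 : Led Lsl_ff (LP (LK LD1_c15 LD2_c27 LD3_c5)) = (LP (LK LD1_c18 LD2_c25 LD3_c14)) :=
  Lgr Lrot3 (Lpr_ft (f881027 IH) (Lpn (LP (LK LD1_c18 LD2_c25 LD3_c14))))
theorem f73538 : Led Lsl_bt (LP (LK LD1_c15 LD2_c27 LD3_c5)) = (LP (LK LD1_c8 LD2_c12 LD3_c48)) :=
  Lre_b IH (LK LD1_c15 LD2_c27 LD3_c5) (LK LD1_c8 LD2_c12 LD3_c48) Lrfl Lrfl
theorem f881025 : Led Lsl_bt (LP (LK LD1_c15 LD2_c26 LD3_c44)) = (LP (LK LD1_c18 LD2_c25 LD3_c14)) :=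
  Lgr Lrot127 (Lpr_bf (f881023 IH) (Lpn (LP (LK LD1_c18 LD2_c25 LD3_c14))))
theorem f881031 : Led Lsl_ft (LP (LK LD1_c8 LD2_c12 LD3_c48)) = (LP (LK LD1_c15 LD2_c26 LD3_c44)) :=
  Lgr Lrot75 (Lpe (f73538 IH) (Lpr_ff (f881029 IH) (Lpe (f881025 IH) (Lpn (LP (LK LD1_c15 LD2_c26 LD3_c44))))))
theorem f73264 : Led Lsl_gt (LP (LK LD1_c4 LD2_c6 LD3_c0)) = (LP (LK LD1_c8 LD2_c12 LD3_c47)) :=
  Lre_g IH (LK LD1_c4 LD2_c6 LD3_c0) (LK LD1_c8 LD2_c12 LD3_c47) Lrfl Lrfl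
theorem f881033 : Led Lsl_af (LP (LK LD1_c8 LD2_c12 LD3_c47)) = (LP (LK LD1_c15 LD2_c26 LD3_c44)) :=
  Lgr Lrot31 (Lpe (f73264 IH) (Lpe (f73275 IH) (Lpr_ft (f881031 IH) (Lpn (LP (LK LD1_c15 LD2_c26 LD3_c44))))))
theorem f876554 : Led Lsl_af (LP (LK LD1_c8 LD2_c0 LD3_c47)) = v35660 :=
  Lgr Lrot50 (Lpr_et (f112571 IH) (Lpqs (f876360 IH) (Lpe (f876344 IH) (Lpr_et (f876553 IH) (Lpn v35660)))))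
theorem f876559 : Led Lsl_dt (LP (LK LD1_c8 LD2_c12 LD3_c48)) = v35660 :=
  Lgr Lrot42 (Lpr_df (f876557 IH) (Lpn v35660))
theorem f876812 : Led Lsl_af (LP (LK LD1_c8 LD2_c12 LD3_c48)) = v35679 :=
  Lgr Lrot117 (Lpr_dt (f876559 IH) (Lpe (f876554 IH) (Lpr_dt (f876811 IH) (Lpn v35679))))
theorem f881037 : Led Lsl_ft (LP (LK LD1_c8 LD2_c12 LD3_c47)) = v35679 :=
  Lgr Lrot101 (Lpr_af (f881033 IH) (Lpe (f881031 IH) (Lpr_af (f876812 IH) (Lpn v35679))))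
theorem f881039 : Led Lsl_ff (LP (LK LD1_c8 LD2_c12 LD3_c47)) = v35679 :=
  Lgr Lrot3 (Lpr_ft (f881037 IH) (Lpn v35679))
theorem f881077 : Led Lsl_ff (LP (LK LD1_c10 LD2_c18 LD3_c49)) = v35911 :=
  Lgr Lrot25 (Lpr_bt (f876818 IH) (Lpe (f881039 IH) (Lpr_bt (f881075 IH) (Lpn v35911))))
theorem f881079 : Led Lsl_ft (LP (LK LD1_c10 LD2_c18 LD3_c49)) = v35911 :=
  Lgr Lrot48 (Lpr_ff (f881077 IH) (Lpn v35911))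
theorem f876821 : Led Lsl_cf (LP (LK LD1_c10 LD2_c18 LD3_c49)) = (LP (LK LD1_c11 LD2_c58 LD3_c13)) :=
  Lgr Lrot11 (Lpr_ct (f876819 IH) (Lpn (LP (LK LD1_c11 LD2_c58 LD3_c13))))
theorem f752113 : Led Lsl_ff (LP (LK LD1_c11 LD2_c58 LD3_c13)) = (LP (LK LD1_c9 LD2_c48 LD3_c6)) :=
  Lgr Lrot3 (Lpr_ft (K56.f752103 IH) (Lpn (LP (LK LD1_c9 LD2_c48 LD3_c6))))
theorem f881080 : Led Lsl_cf (LP (LK LD1_c9 LD2_c48 LD3_c6)) = v35911 :=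
  Lgr Lrot108 (Lpe (f752113 IH) (Lpe (f876821 IH) (Lpr_ft (f881079 IH) (Lpn v35911))))
theorem f881076 : Led Lsl_bf (LP (LK LD1_c8 LD2_c12 LD3_c47)) = v35911 :=
  Lgr Lrot24 (Lpr_bt (f881075 IH) (Lpn v35911))
theorem f55694 : Led Lsl_bt (LP (LK LD1_c2 LD2_c0 LD3_c19)) = (LP (LK LD1_c4 LD2_c6 LD3_c0)) :=
  Lre_b IH (LK LD1_c2 LD2_c0 LD3_c19) (LK LD1_c4 LD2_c6 LD3_c0) Lrfl Lrfl
theorem f23879 : Led Lsl_gf (LP (LK LD1_c2 LD2_c57 LD3_c40)) = (LP (LK LD1_c3 LD2_c0 LD3_c27)) :=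
  Lgr Lrot47 (Lpr_gt (K0.f23875 IH) (Lpe (K1.f23877 IH) (Lpe (K1.f23878 IH) (Lpn (LP (LK LD1_c3 LD2_c0 LD3_c27))))))
theorem f645942 : Led Lsl_gf (LP (LK LD1_c4 LD2_c6 LD3_c3)) = v5102 :=
  Lgr Lrot104 (Lpr_ct (K2.f55706 IH) (Lpr_df (K2.f73196 IH) (Lpe (K8.f73514 IH) (Lpe (K11.f59482 IH) (Lpr_cf (K51.f445916 IH) (Lpe (K48.f58579 IH) (Lpe (K1.f58564 IH) (Lpe (f23879 IH) (Lpr_ct (f645940 IH) (Lpn v5102))))))))))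
theorem f76171 : Led Lsl_bt (LP (LK LD1_c6 LD2_c8 LD3_c9)) = (LP (LK LD1_c3 LD2_c0 LD3_c27)) :=
  Lre_b IH (LK LD1_c6 LD2_c8 LD3_c9) (LK LD1_c3 LD2_c0 LD3_c27) Lrfl Lrfl
theorem f74871 : Led Lsl_ct (LP (LK LD1_c6 LD2_c8 LD3_c9)) = (LP (LK LD1_c11 LD2_c58 LD3_c15)) :=
  Lre_c IH (LK LD1_c6 LD2_c8 LD3_c9) (LK LD1_c11 LD2_c58 LD3_c15) Lrfl Lrfl
theorem f881086 : Led Lsl_gt (LP (LK LD1_c9 LD2_c48 LD3_c6)) = (LP (LK LD1_c11 LD2_c58 LD3_c15)) :=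
  Lgr Lrot65 (Lpr_cf (f881080 IH) (Lpe (f881076 IH) (Lpe (f73264 IH) (Lpe (f55694 IH) (Lpr_ct (K2.f55650 IH) (Lpr_gf (f645942 IH) (Lpe (f645940 IH) (Lpr_gf (f23879 IH) (Lpe (f76171 IH) (Lpr_ct (f74871 IH) (Lpn (LP (LK LD1_c11 LD2_c58 LD3_c15)))))))))))))
theorem f881087 : Led Lsl_gt (LP (LK LD1_c9 LD2_c48 LD3_c6)) = (LP (LK LD1_c11 LD2_c58 LD3_c15)) :=
  Leop (Lpe (f881086 IH) (Lpn (LP (LK LD1_c9 LD2_c48 LD3_c6))))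
theorem seed_2061 : LEOK LG_g (LK LD1_c9 LD2_c48 LD3_c6) :=
  Leoe_g (LK LD1_c9 LD2_c48 LD3_c6) (f881087 IH)
def v35924 : LQ := Led Lsl_gf (LP (LK LD1_c8 LD2_c12 LD3_c54))
theorem f881155 : Led Lsl_gf (LP (LK LD1_c8 LD2_c12 LD3_c54)) = v35924 :=
  Lrfl
theorem f193937 : Led Lsl_df (LP (LK LD1_c8 LD2_c12 LD3_c54)) = (LP (LK LD1_c5 LD2_c14 LD3_c19)) :=
  Lgr Lrot38 (Lpr_dt (K51.f193931 IH) (Lpn (LP (LK LD1_c5 LD2_c14 LD3_c19))))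
theorem f669038 : Led Lsl_et (LP (LK LD1_c5 LD2_c14 LD3_c19)) = (LP (LK LD1_c5 LD2_c51 LD3_c54)) :=
  Lgr Lrot87 (Lpr_ef (K48.f669036 IH) (Lpn (LP (LK LD1_c5 LD2_c51 LD3_c54))))
theorem f722240 : Led Lsl_et (LP (LK LD1_c5 LD2_c14 LD3_c40)) = (LP (LK LD1_c10 LD2_c18 LD3_c51)) :=
  Lre_e IH (LK LD1_c5 LD2_c14 LD3_c40) (LK LD1_c10 LD2_c18 LD3_c51) Lrfl Lrfl
theorem f164085 : Led Lsl_et (LP (LK LD1_c2 LD2_c31 LD3_c26)) = (LP (LK LD1_c1 LD2_c12 LD3_c42)) :=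
  Lre_e IH (LK LD1_c2 LD2_c31 LD3_c26) (LK LD1_c1 LD2_c12 LD3_c42) Lrfl Lrfl
theorem f164086 : Led Lsl_af (LP (LK LD1_c2 LD2_c31 LD3_c26)) = (LP (LK LD1_c2 LD2_c34 LD3_c15)) :=
  Lgr Lrot50 (Lpr_et (f164085 IH) (Lpr_at (K8.f164074 IH) (Lpr_et (K10.f163966 IH) (Lpn (LP (LK LD1_c2 LD2_c34 LD3_c15))))))
theorem f163968 : Led Lsl_gt (LP (LK LD1_c5 LD2_c8 LD3_c27)) = (LP (LK LD1_c2 LD2_c31 LD3_c26)) :=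
  Lre_g IH (LK LD1_c5 LD2_c8 LD3_c27) (LK LD1_c2 LD2_c31 LD3_c26) Lrfl Lrfl
theorem f165239 : Led Lsl_gf (LP (LK LD1_c5 LD2_c8 LD3_c27)) = (LP (LK LD1_c5 LD2_c14 LD3_c51)) :=
  Lgr Lrot47 (Lpr_gt (f163968 IH) (Lpr_af (f164086 IH) (Lpe (K10.f163963 IH) (Lpn (LP (LK LD1_c5 LD2_c14 LD3_c51))))))
theorem f165242 : Led Lsl_et (LP (LK LD1_c10 LD2_c7 LD3_c18)) = (LP (LK LD1_c5 LD2_c8 LD3_c27)) :=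
  Lre_e IH (LK LD1_c10 LD2_c7 LD3_c18) (LK LD1_c5 LD2_c8 LD3_c27) Lrfl Lrfl
theorem f881157 : Led Lsl_dt (LP (LK LD1_c10 LD2_c7 LD3_c18)) = v35924 :=
  Lgr Lrot136 (Lpr_et (f165242 IH) (Lpr_gf (f165239 IH) (Lpe (K48.f163950 IH) (Lpe (K10.f164362 IH) (Lpe (K60.f163611 IH) (Lpe (K35.f22377 IH) (Lpe (K35.f163613 IH) (Lpe (f669038 IH) (Lpe (f193937 IH) (Lpr_gf (f881155 IH) (Lpn v35924)))))))))))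
theorem f881158 : Led Lsl_gt (LP (LK LD1_c10 LD2_c18 LD3_c51)) = (LP (LK LD1_c10 LD2_c7 LD3_c18)) :=
  Lgr Lrot137 (Lpe (f722240 IH) (Lpqs (K54.f739371 IH) (Lpe (K55.f691789 IH) (Lpqs (K55.f739382 IH) (Lpe (K55.f723980 IH) (Lpr_df (K53.f622564 IH) (Lpr_et (K49.f535818 IH) (Lpe (K35.f163613 IH) (Lpe (f669038 IH) (Lpe (f193937 IH) (Lpr_gf (f881155 IH) (Lpe (f881157 IH) (Lpn (LP (LK LD1_c10 LD2_c7 LD3_c18)))))))))))))))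
theorem f881159 : Led Lsl_gt (LP (LK LD1_c10 LD2_c18 LD3_c51)) = (LP (LK LD1_c10 LD2_c7 LD3_c18)) :=
  Leop (Lpe (f881158 IH) (Lpn (LP (LK LD1_c10 LD2_c18 LD3_c51))))
theorem seed_2062 : LEOK LG_g (LK LD1_c10 LD2_c18 LD3_c51) :=
  Leoe_g (LK LD1_c10 LD2_c18 LD3_c51) (f881159 IH)
def v35929 : LQ := Led Lsl_gt (LP (LK LD1_c8 LD2_c13 LD3_c12))
theorem f881174 : Led Lsl_gt (LP (LK LD1_c8 LD2_c13 LD3_c12)) = v35929 :=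
  Lrfl
theorem f183718 : Led Lsl_et (LP (LK LD1_c4 LD2_c6 LD3_c17)) = (LP (LK LD1_c8 LD2_c13 LD3_c12)) :=
  Lre_e IH (LK LD1_c4 LD2_c6 LD3_c17) (LK LD1_c8 LD2_c13 LD3_c12) Lrfl Lrfl
theorem f220776 : Led Lsl_et (LP (LK LD1_c10 LD2_c32 LD3_c2)) = (LP (LK LD1_c5 LD2_c20 LD3_c59)) :=
  Lre_e IH (LK LD1_c10 LD2_c32 LD3_c2) (LK LD1_c5 LD2_c20 LD3_c59) Lrfl Lrfl
theorem f220787 : Led Lsl_gt (LP (LK LD1_c15 LD2_c27 LD3_c50)) = (LP (LK LD1_c8 LD2_c13 LD3_c16)) :=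
  Lre_g IH (LK LD1_c15 LD2_c27 LD3_c50) (LK LD1_c8 LD2_c13 LD3_c16) Lrfl Lrfl
theorem f881177 : Led Lsl_df (LP (LK LD1_c15 LD2_c27 LD3_c50)) = v35929 :=
  Lgr Lrot135 (Lpr_gt (f220787 IH) (Lpr_df (K22.f220778 IH) (Lpr_et (f220776 IH) (Lpe (K12.f220763 IH) (Lpr_ef (K10.f43264 IH) (Lpr_dt (K10.f31469 IH) (Lpe (K10.f183711 IH) (Lpe (K12.f179070 IH) (Lpr_et (f183718 IH) (Lpr_gt (f881174 IH) (Lpn v35929)))))))))))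
theorem f189238 : Led Lsl_gt (LP (LK LD1_c19 LD2_c56 LD3_c50)) = (LP (LK LD1_c11 LD2_c4 LD3_c15)) :=
  Lre_g IH (LK LD1_c19 LD2_c56 LD3_c50) (LK LD1_c11 LD2_c4 LD3_c15) Lrfl Lrfl
theorem f41716 : Led Lsl_ct (LP (LK LD1_c20 LD2_c58 LD3_c60)) = (LP (LK LD1_c11 LD2_c54 LD3_c30)) :=
  Lre_c IH (LK LD1_c20 LD2_c58 LD3_c60) (LK LD1_c11 LD2_c54 LD3_c30) Lrfl Lrfl
theorem f41723 : Led Lsl_ct (LP (LK LD1_c11 LD2_c54 LD3_c29)) = (LP (LK LD1_c6 LD2_c5 LD3_c27)) :=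
  Lre_c IH (LK LD1_c11 LD2_c54 LD3_c29) (LK LD1_c6 LD2_c5 LD3_c27) Lrfl Lrfl
theorem f357623 : Led Lsl_df (LP (LK LD1_c19 LD2_c56 LD3_c50)) = (LP (LK LD1_c15 LD2_c25 LD3_c57)) :=
  Lgr Lrot155 (Lpr_gt (f189238 IH) (Lpr_ct (K24.f335796 IH) (Lpr_gt (K26.f357617 IH) (Lpr_ct (f41716 IH) (Lpr_dt (K19.f41730 IH) (Lpe (f41723 IH) (Lpe (K25.f355993 IH) (Lpe (K20.f292573 IH) (Lpe (K23.f341002 IH) (Lpn (LP (LK LD1_c15 LD2_c25 LD3_c57))))))))))))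
theorem f358150 : Led Lsl_et (LP (LK LD1_c19 LD2_c56 LD3_c51)) = (LP (LK LD1_c15 LD2_c27 LD3_c50)) :=
  Lgr Lrot185 (Lpr_dt (K24.f189236 IH) (Lpe (f189238 IH) (Lpr_df (f357623 IH) (Lpr_gf (K23.f341000 IH) (Lpe (K17.f183644 IH) (Lpr_dt (K10.f183621 IH) (Lpe (K9.f183612 IH) (Lpe (K14.f183628 IH) (Lpr_et (K22.f192268 IH) (Lpe (f220787 IH) (Lpn (LP (LK LD1_c15 LD2_c27 LD3_c50)))))))))))))
theorem f350652 : Led Lsl_bt (LP (LK LD1_c11 LD2_c4 LD3_c20)) = (LP (LK LD1_c19 LD2_c56 LD3_c51)) :=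
  Lre_b IH (LK LD1_c11 LD2_c4 LD3_c20) (LK LD1_c19 LD2_c56 LD3_c51) Lrfl Lrfl
theorem f358154 : Led Lsl_bf (LP (LK LD1_c8 LD2_c14 LD3_c9)) = (LP (LK LD1_c15 LD2_c27 LD3_c50)) :=
  Lgr Lrot96 (Lpe (K26.f357597 IH) (Lpr_bt (f350652 IH) (Lpr_et (f358150 IH) (Lpn (LP (LK LD1_c15 LD2_c27 LD3_c50))))))
theorem f42228 : Led Lsl_ct (LP (LK LD1_c6 LD2_c4 LD3_c44)) = (LP (LK LD1_c11 LD2_c52 LD3_c58)) :=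
  Lre_c IH (LK LD1_c6 LD2_c4 LD3_c44) (LK LD1_c11 LD2_c52 LD3_c58) Lrfl Lrfl
theorem f42585 : Led Lsl_gt (LP (LK LD1_c10 LD2_c40 LD3_c15)) = (LP (LK LD1_c5 LD2_c24 LD3_c49)) :=
  Lre_g IH (LK LD1_c10 LD2_c40 LD3_c15) (LK LD1_c5 LD2_c24 LD3_c49) Lrfl Lrfl
theorem f338472 : Led Lsl_gt (LP (LK LD1_c11 LD2_c52 LD3_c58)) = (LP (LK LD1_c10 LD2_c40 LD3_c15)) :=
  Lgr Lrot5 (Lpr_ft (K56.f335430 IH) (Lpr_at (K56.f338465 IH) (Lpe (f42585 IH) (Lpn (LP (LK LD1_c10 LD2_c40 LD3_c15))))))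
theorem f358160 : Led Lsl_cf (LP (LK LD1_c10 LD2_c40 LD3_c15)) = (LP (LK LD1_c15 LD2_c27 LD3_c50)) :=
  Lgr Lrot58 (Lpe (f338472 IH) (Lpe (f42228 IH) (Lpr_bt (K23.f42225 IH) (Lpe (K26.f340073 IH) (Lpr_bf (K25.f352514 IH) (Lpe (K25.f352504 IH) (Lpr_gf (K26.f357588 IH) (Lpe (K26.f178210 IH) (Lpe (K24.f190238 IH) (Lpr_bf (f358154 IH) (Lpn (LP (LK LD1_c15 LD2_c27 LD3_c50)))))))))))))
theorem f338477 : Led Lsl_dt (LP (LK LD1_c19 LD2_c19 LD3_c20)) = (LP (LK LD1_c10 LD2_c40 LD3_c15)) :=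
  Lre_d IH (LK LD1_c19 LD2_c19 LD3_c20) (LK LD1_c10 LD2_c40 LD3_c15) Lrfl Lrfl
theorem f290766 : Led Lsl_gt (LP (LK LD1_c8 LD2_c8 LD3_c33)) = (LP (LK LD1_c15 LD2_c19 LD3_c54)) :=
  Lre_g IH (LK LD1_c8 LD2_c8 LD3_c33) (LK LD1_c15 LD2_c19 LD3_c54) Lrfl Lrfl
theorem f368557 : Led Lsl_cf (LP (LK LD1_c16 LD2_c36 LD3_c28)) = (LP (LK LD1_c16 LD2_c41 LD3_c2)) :=
  Lgr Lrot125 (Lpr_gt (K22.f44674 IH) (Lpe (K22.f44689 IH) (Lpr_bt (K18.f303559 IH) (Lpr_gt (f290766 IH) (Lpe (K23.f348084 IH) (Lpr_ct (K23.f264448 IH) (Lpr_gt (K27.f368149 IH) (Lpe (K27.f221465 IH) (Lpr_bt (K23.f221454 IH) (Lpr_gt (K27.f368555 IH) (Lpn (LP (LK LD1_c16 LD2_c41 LD3_c2)))))))))))))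
theorem f368562 : Led Lsl_ct (LP (LK LD1_c16 LD2_c36 LD3_c28)) = (LP (LK LD1_c16 LD2_c41 LD3_c2)) :=
  Lgr Lrot59 (Lpr_cf (f368557 IH) (Lpn (LP (LK LD1_c16 LD2_c41 LD3_c2))))
theorem f881188 : Led Lsl_gf (LP (LK LD1_c19 LD2_c19 LD3_c20)) = (LP (LK LD1_c16 LD2_c36 LD3_c29)) :=
  Lgr Lrot143 (Lpr_dt (f338477 IH) (Lpr_cf (f358160 IH) (Lpr_df (f881177 IH) (Lpe (f881174 IH) (Lpe (K12.f187395 IH) (Lpe (K27.f187422 IH) (Lpe (f368562 IH) (Lpr_gt (K22.f44674 IH) (Lpr_dt (K22.f44698 IH) (Lpn (LP (LK LD1_c16 LD2_c36 LD3_c29))))))))))))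
theorem f881189 : Led Lsl_gt (LP (LK LD1_c16 LD2_c36 LD3_c29)) = (LP (LK LD1_c19 LD2_c19 LD3_c20)) :=
  Leop (Lpr_gf (f881188 IH) (Lpn (LP (LK LD1_c16 LD2_c36 LD3_c29))))
theorem seed_2063 : LEOK LG_g (LK LD1_c16 LD2_c36 LD3_c29) :=
  Leoe_g (LK LD1_c16 LD2_c36 LD3_c29) (f881189 IH)
def v35937 : LQ := Led Lsl_at (LP (LK LD1_c8 LD2_c14 LD3_c6))
theorem f881232 : Led Lsl_at (LP (LK LD1_c8 LD2_c14 LD3_c6)) = v35937 :=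
  Lrfl
theorem f187572 : Led Lsl_bt (LP (LK LD1_c8 LD2_c14 LD3_c6)) = (LP (LK LD1_c4 LD2_c6 LD3_c44)) :=
  Lre_b IH (LK LD1_c8 LD2_c14 LD3_c6) (LK LD1_c4 LD2_c6 LD3_c44) Lrfl Lrfl
theorem f182087 : Led Lsl_bt (LP (LK LD1_c2 LD2_c59 LD3_c46)) = (LP (LK LD1_c6 LD2_c7 LD3_c12)) :=
  Lre_b IH (LK LD1_c2 LD2_c59 LD3_c46) (LK LD1_c6 LD2_c7 LD3_c12) Lrfl Lrfl
theorem f348838 : Led Lsl_ff (LP (LK LD1_c8 LD2_c14 LD3_c6)) = (LP (LK LD1_c6 LD2_c7 LD3_c12)) :=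
  Lgr Lrot25 (Lpr_bt (f187572 IH) (Lpr_ft (K25.f348836 IH) (Lpr_bt (f182087 IH) (Lpn (LP (LK LD1_c6 LD2_c7 LD3_c12))))))
theorem f881236 : Led Lsl_ff (LP (LK LD1_c11 LD2_c57 LD3_c15)) = v35937 :=
  Lgr Lrot30 (Lpr_at (K25.f177528 IH) (Lpe (f348838 IH) (Lpr_at (f881232 IH) (Lpn v35937))))
theorem f177532 : Led Lsl_gt (LP (LK LD1_c11 LD2_c57 LD3_c14)) = (LP (LK LD1_c6 LD2_c7 LD3_c12)) :=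
  Lre_g IH (LK LD1_c11 LD2_c57 LD3_c14) (LK LD1_c6 LD2_c7 LD3_c12) Lrfl Lrfl
theorem f881242 : Led Lsl_gf (LP (LK LD1_c11 LD2_c57 LD3_c14)) = v35937 :=
  Lgr Lrot47 (Lpr_gt (f177532 IH) (Lpe (K25.f177528 IH) (Lpr_ff (f881236 IH) (Lpn v35937))))
theorem f183413 : Led Lsl_bt (LP (LK LD1_c21 LD2_c2 LD3_c13)) = (LP (LK LD1_c11 LD2_c57 LD3_c14)) :=
  Lre_b IH (LK LD1_c21 LD2_c2 LD3_c13) (LK LD1_c11 LD2_c57 LD3_c14) Lrfl Lrfl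
theorem f181199 : Led Lsl_bt (LP (LK LD1_c1 LD2_c25 LD3_c10)) = (LP (LK LD1_c2 LD2_c58 LD3_c54)) :=
  Lre_b IH (LK LD1_c1 LD2_c25 LD3_c10) (LK LD1_c2 LD2_c58 LD3_c54) Lrfl Lrfl
theorem f181200 : Led Lsl_gt (LP (LK LD1_c2 LD2_c58 LD3_c54)) = (LP (LK LD1_c6 LD2_c5 LD3_c37)) :=
  Lre_g IH (LK LD1_c2 LD2_c58 LD3_c54) (LK LD1_c6 LD2_c5 LD3_c37) Lrfl Lrfl
theorem f181205 : Led Lsl_bt (LP (LK LD1_c11 LD2_c54 LD3_c46)) = (LP (LK LD1_c6 LD2_c5 LD3_c37)) :=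
  Lre_b IH (LK LD1_c11 LD2_c54 LD3_c46) (LK LD1_c6 LD2_c5 LD3_c37) Lrfl Lrfl
theorem f177521 : Led Lsl_ct (LP (LK LD1_c2 LD2_c59 LD3_c48)) = (LP (LK LD1_c6 LD2_c7 LD3_c12)) :=
  Lre_c IH (LK LD1_c2 LD2_c59 LD3_c48) (LK LD1_c6 LD2_c7 LD3_c12) Lrfl Lrfl
theorem f183387 : Led Lsl_ct (LP (LK LD1_c11 LD2_c54 LD3_c46)) = (LP (LK LD1_c11 LD2_c57 LD3_c14)) :=
  Lgr Lrot64 (Lpr_bt (f181205 IH) (Lpe (f181200 IH) (Lpe (f181199 IH) (Lpr_ct (K10.f181176 IH) (Lpr_gf (K9.f181195 IH) (Lpe (K15.f7944 IH) (Lpr_gf (K15.f183383 IH) (Lpe (K25.f177506 IH) (Lpr_ct (f177521 IH) (Lpe (f177532 IH) (Lpn (LP (LK LD1_c11 LD2_c57 LD3_c14)))))))))))))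
theorem f183390 : Led Lsl_bt (LP (LK LD1_c6 LD2_c5 LD3_c37)) = (LP (LK LD1_c11 LD2_c54 LD3_c46)) :=
  Lre_b IH (LK LD1_c6 LD2_c5 LD3_c37) (LK LD1_c11 LD2_c54 LD3_c46) Lrfl Lrfl
theorem f183391 : Led Lsl_ct (LP (LK LD1_c11 LD2_c54 LD3_c47)) = (LP (LK LD1_c6 LD2_c5 LD3_c37)) :=
  Lre_c IH (LK LD1_c11 LD2_c54 LD3_c47) (LK LD1_c6 LD2_c5 LD3_c37) Lrfl Lrfl
theorem f183392 : Led Lsl_bt (LP (LK LD1_c20 LD2_c59 LD3_c26)) = (LP (LK LD1_c11 LD2_c54 LD3_c47)) :=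
  Lre_b IH (LK LD1_c20 LD2_c59 LD3_c26) (LK LD1_c11 LD2_c54 LD3_c47) Lrfl Lrfl
theorem f183393 : Led Lsl_bt (LP (LK LD1_c11 LD2_c57 LD3_c14)) = (LP (LK LD1_c21 LD2_c2 LD3_c13)) :=
  Lre_b IH (LK LD1_c11 LD2_c57 LD3_c14) (LK LD1_c21 LD2_c2 LD3_c13) Lrfl Lrfl
theorem f183394 : Led Lsl_cf (LP (LK LD1_c20 LD2_c59 LD3_c26)) = (LP (LK LD1_c21 LD2_c2 LD3_c13)) :=
  Lgr Lrot97 (Lpr_bt (f183392 IH) (Lpr_ct (f183391 IH) (Lpr_bt (f183390 IH) (Lpr_ct (f183387 IH) (Lpr_bt (f183393 IH) (Lpn (LP (LK LD1_c21 LD2_c2 LD3_c13))))))))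
theorem f263461 : Led Lsl_bt (LP (LK LD1_c6 LD2_c5 LD3_c30)) = (LP (LK LD1_c2 LD2_c58 LD3_c51)) :=
  Lre_b IH (LK LD1_c6 LD2_c5 LD3_c30) (LK LD1_c2 LD2_c58 LD3_c51) Lrfl Lrfl
theorem f193963 : Led Lsl_ct (LP (LK LD1_c6 LD2_c5 LD3_c30)) = (LP (LK LD1_c2 LD2_c58 LD3_c54)) :=
  Lre_c IH (LK LD1_c6 LD2_c5 LD3_c30) (LK LD1_c2 LD2_c58 LD3_c54) Lrfl Lrfl
theorem f183412 : Led Lsl_bt (LP (LK LD1_c11 LD2_c54 LD3_c47)) = (LP (LK LD1_c20 LD2_c59 LD3_c26)) :=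
  Lre_b IH (LK LD1_c11 LD2_c54 LD3_c47) (LK LD1_c20 LD2_c59 LD3_c26) Lrfl Lrfl
theorem f241931 : Led Lsl_gt (LP (LK LD1_c18 LD2_c40 LD3_c1)) = (LP (LK LD1_c10 LD2_c15 LD3_c49)) :=
  Lre_g IH (LK LD1_c18 LD2_c40 LD3_c1) (LK LD1_c10 LD2_c15 LD3_c49) Lrfl Lrfl
theorem f273851 : Led Lsl_ct (LP (LK LD1_c28 LD2_c11 LD3_c27)) = (LP (LK LD1_c18 LD2_c40 LD3_c1)) :=
  Lre_c IH (LK LD1_c28 LD2_c11 LD3_c27) (LK LD1_c18 LD2_c40 LD3_c1) Lrfl Lrfl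
theorem f273854 : Led Lsl_gt (LP (LK LD1_c20 LD2_c59 LD3_c26)) = (LP (LK LD1_c28 LD2_c11 LD3_c27)) :=
  Lgr Lrot82 (Lpe (f183412 IH) (Lpr_ct (f183391 IH) (Lpe (f181200 IH) (Lpe (f193963 IH) (Lpr_bt (f263461 IH) (Lpe (K15.f182086 IH) (Lpe (K17.f188242 IH) (Lpr_ct (K26.f273844 IH) (Lpe (f241931 IH) (Lpe (f273851 IH) (Lpn (LP (LK LD1_c28 LD2_c11 LD3_c27)))))))))))))
theorem f273857 : Led Lsl_ct (LP (LK LD1_c18 LD2_c40 LD3_c1)) = (LP (LK LD1_c28 LD2_c11 LD3_c27)) :=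
  Lre_c IH (LK LD1_c18 LD2_c40 LD3_c1) (LK LD1_c28 LD2_c11 LD3_c27) Lrfl Lrfl
theorem f273858 : Led Lsl_bt (LP (LK LD1_c18 LD2_c40 LD3_c1)) = (LP (LK LD1_c28 LD2_c11 LD3_c26)) :=
  Lre_b IH (LK LD1_c18 LD2_c40 LD3_c1) (LK LD1_c28 LD2_c11 LD3_c26) Lrfl Lrfl
theorem f881239 : Led Lsl_bt (LP (LK LD1_c16 LD2_c9 LD3_c46)) = v35937 :=
  Lgr Lrot35 (Lpe (K25.f348864 IH) (Lpr_bf (K25.f348847 IH) (Lpr_ff (f881236 IH) (Lpn v35937))))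
theorem f189949 : Led Lsl_ct (LP (LK LD1_c8 LD2_c27 LD3_c17)) = (LP (LK LD1_c8 LD2_c37 LD3_c43)) :=
  Lgr Lrot59 (Lpr_cf (K25.f189927 IH) (Lpn (LP (LK LD1_c8 LD2_c37 LD3_c43))))
theorem f189961 : Led Lsl_at (LP (LK LD1_c8 LD2_c37 LD3_c43)) = (LP (LK LD1_c16 LD2_c9 LD3_c46)) :=
  Lre_a IH (LK LD1_c8 LD2_c37 LD3_c43) (LK LD1_c16 LD2_c9 LD3_c46) Lrfl Lrfl
theorem f189962 : Led Lsl_cf (LP (LK LD1_c15 LD2_c52 LD3_c34)) = (LP (LK LD1_c16 LD2_c9 LD3_c46)) :=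
  Lgr Lrot1 (Lpr_at (K25.f189952 IH) (Lpr_ct (f189949 IH) (Lpr_at (f189961 IH) (Lpn (LP (LK LD1_c16 LD2_c9 LD3_c46))))))
theorem f327112 : Led Lsl_ft (LP (LK LD1_c9 LD2_c33 LD3_c23)) = (LP (LK LD1_c8 LD2_c27 LD3_c17)) :=
  Lgr Lrot75 (Lpe (K25.f265603 IH) (Lpr_ff (K21.f327110 IH) (Lpe (K25.f189924 IH) (Lpn (LP (LK LD1_c8 LD2_c27 LD3_c17))))))
theorem f265618 : Led Lsl_gt (LP (LK LD1_c9 LD2_c33 LD3_c23)) = (LP (LK LD1_c17 LD2_c35 LD3_c53)) :=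
  Lre_g IH (LK LD1_c9 LD2_c33 LD3_c23) (LK LD1_c17 LD2_c35 LD3_c53) Lrfl Lrfl
theorem f401705 : Led Lsl_gt (LP (LK LD1_c17 LD2_c35 LD3_c53)) = (LP (LK LD1_c15 LD2_c52 LD3_c34)) :=
  Lgr Lrot46 (Lpe (f265618 IH) (Lpr_ft (f327112 IH) (Lpr_at (K25.f189945 IH) (Lpn (LP (LK LD1_c15 LD2_c52 LD3_c34))))))
theorem f348886 : Led Lsl_ct (LP (LK LD1_c27 LD2_c23 LD3_c60)) = (LP (LK LD1_c17 LD2_c35 LD3_c53)) :=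
  Lre_c IH (LK LD1_c27 LD2_c23 LD3_c60) (LK LD1_c17 LD2_c35 LD3_c53) Lrfl Lrfl
theorem f881243 : Led Lsl_gt (LP (LK LD1_c28 LD2_c11 LD3_c26)) = (LP (LK LD1_c27 LD2_c23 LD3_c60)) :=
  Lgr Lrot82 (Lpe (f273858 IH) (Lpr_ct (f273857 IH) (Lpe (f273854 IH) (Lpr_cf (f183394 IH) (Lpr_bt (f183413 IH) (Lpr_gf (f881242 IH) (Lpe (f881239 IH) (Lpe (f189962 IH) (Lpe (f401705 IH) (Lpe (f348886 IH) (Lpn (LP (LK LD1_c27 LD2_c23 LD3_c60)))))))))))))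
theorem f881244 : Led Lsl_gt (LP (LK LD1_c28 LD2_c11 LD3_c26)) = (LP (LK LD1_c27 LD2_c23 LD3_c60)) :=
  Leop (Lpe (f881243 IH) (Lpn (LP (LK LD1_c28 LD2_c11 LD3_c26))))
theorem seed_2064 : LEOK LG_g (LK LD1_c28 LD2_c11 LD3_c26) :=
  Leoe_g (LK LD1_c28 LD2_c11 LD3_c26) (f881244 IH)
def v35940 : LQ := Led Lsl_bt (LP (LK LD1_c8 LD2_c14 LD3_c16))
theorem f881257 : Led Lsl_bt (LP (LK LD1_c8 LD2_c14 LD3_c16)) = v35940 :=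
  Lrfl
theorem f881258 : Led Lsl_bf (LP (LK LD1_c8 LD2_c14 LD3_c16)) = v35940 :=
  Lgr Lrot24 (Lpr_bt (f881257 IH) (Lpn v35940))
theorem f334969 : Led Lsl_ff (LP (LK LD1_c2 LD2_c59 LD3_c38)) = (LP (LK LD1_c4 LD2_c6 LD3_c52)) :=
  Lgr Lrot25 (Lpr_bt (K56.f177500 IH) (Lpr_ft (K22.f334967 IH) (Lpr_bt (K25.f187533 IH) (Lpn (LP (LK LD1_c4 LD2_c6 LD3_c52))))))
theorem f334931 : Led Lsl_at (LP (LK LD1_c2 LD2_c59 LD3_c38)) = (LP (LK LD1_c6 LD2_c7 LD3_c5)) :=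
  Lre_a IH (LK LD1_c2 LD2_c59 LD3_c38) (LK LD1_c6 LD2_c7 LD3_c5) Lrfl Lrfl
theorem f187534 : Led Lsl_gt (LP (LK LD1_c4 LD2_c6 LD3_c52)) = (LP (LK LD1_c8 LD2_c14 LD3_c16)) :=
  Lre_g IH (LK LD1_c4 LD2_c6 LD3_c52) (LK LD1_c8 LD2_c14 LD3_c16) Lrfl Lrfl
theorem f396240 : Led Lsl_gf (LP (LK LD1_c6 LD2_c7 LD3_c5)) = (LP (LK LD1_c8 LD2_c14 LD3_c16)) :=
  Lgr Lrot76 (Lpe (f334931 IH) (Lpr_ff (f334969 IH) (Lpr_gt (f187534 IH) (Lpn (LP (LK LD1_c8 LD2_c14 LD3_c16))))))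
theorem f195588 : Led Lsl_bt (LP (LK LD1_c2 LD2_c59 LD3_c2)) = (LP (LK LD1_c1 LD2_c25 LD3_c15)) :=
  Lre_b IH (LK LD1_c2 LD2_c59 LD3_c2) (LK LD1_c1 LD2_c25 LD3_c15) Lrfl Lrfl
theorem f268170 : Led Lsl_bt (LP (LK LD1_c5 LD2_c26 LD3_c16)) = (LP (LK LD1_c6 LD2_c5 LD3_c55)) :=
  Lgr Lrot62 (Lpe (K53.f268168 IH) (Lpe (K56.f191463 IH) (Lpr_af (K15.f268164 IH) (Lpe (f195588 IH) (Lpe (K56.f268169 IH) (Lpn (LP (LK LD1_c6 LD2_c5 LD3_c55))))))))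
theorem f409476 : Led Lsl_at (LP (LK LD1_c11 LD2_c54 LD3_c36)) = (LP (LK LD1_c6 LD2_c5 LD3_c30)) :=
  Lre_a IH (LK LD1_c11 LD2_c54 LD3_c36) (LK LD1_c6 LD2_c5 LD3_c30) Lrfl Lrfl
theorem f188280 : Led Lsl_gt (LP (LK LD1_c11 LD2_c54 LD3_c35)) = (LP (LK LD1_c6 LD2_c5 LD3_c30)) :=
  Lre_g IH (LK LD1_c11 LD2_c54 LD3_c35) (LK LD1_c6 LD2_c5 LD3_c30) Lrfl Lrfl
theorem f409481 : Led Lsl_gf (LP (LK LD1_c11 LD2_c54 LD3_c35)) = (LP (LK LD1_c10 LD2_c43 LD3_c37)) :=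
  Lgr Lrot47 (Lpr_gt (f188280 IH) (Lpe (f409476 IH) (Lpr_ff (K53.f409473 IH) (Lpn (LP (LK LD1_c10 LD2_c43 LD3_c37))))))
theorem f881260 : Led Lsl_cf (LP (LK LD1_c11 LD2_c54 LD3_c35)) = v35940 :=
  Lgr Lrot58 (Lpr_gf (f409481 IH) (Lpe (K53.f409478 IH) (Lpr_bt (f268170 IH) (Lpe (K56.f409766 IH) (Lpe (K56.f226080 IH) (Lpe (K56.f226081 IH) (Lpr_gf (K56.f338924 IH) (Lpe (K45.f338920 IH) (Lpr_gf (f396240 IH) (Lpr_bf (f881258 IH) (Lpn v35940)))))))))))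
theorem f881261 : Led Lsl_bt (LP (LK LD1_c11 LD2_c54 LD3_c35)) = (LP (LK LD1_c20 LD2_c59 LD3_c8)) :=
  Lre_b IH (LK LD1_c11 LD2_c54 LD3_c35) (LK LD1_c20 LD2_c59 LD3_c8) Lrfl Lrfl
theorem f226112 : Led Lsl_ct (LP (LK LD1_c15 LD2_c29 LD3_c55)) = (LP (LK LD1_c8 LD2_c14 LD3_c16)) :=
  Lre_c IH (LK LD1_c15 LD2_c29 LD3_c55) (LK LD1_c8 LD2_c14 LD3_c16) Lrfl Lrfl
theorem f881259 : Led Lsl_bt (LP (LK LD1_c25 LD2_c23 LD3_c5)) = (LP (LK LD1_c15 LD2_c29 LD3_c55)) :=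
  Lre_b IH (LK LD1_c25 LD2_c23 LD3_c5) (LK LD1_c15 LD2_c29 LD3_c55) Lrfl Lrfl
theorem f881262 : Led Lsl_ct (LP (LK LD1_c20 LD2_c59 LD3_c8)) = (LP (LK LD1_c25 LD2_c23 LD3_c5)) :=
  Lgr Lrot83 (Lpe (f881261 IH) (Lpr_cf (f881260 IH) (Lpe (f881257 IH) (Lpe (f226112 IH) (Lpe (f881259 IH) (Lpn (LP (LK LD1_c25 LD2_c23 LD3_c5))))))))
theorem f881263 : Led Lsl_ct (LP (LK LD1_c20 LD2_c59 LD3_c8)) = (LP (LK LD1_c25 LD2_c23 LD3_c5)) :=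
  Leop (Lpe (f881262 IH) (Lpn (LP (LK LD1_c20 LD2_c59 LD3_c8))))
theorem seed_2065 : LEOK LG_c (LK LD1_c20 LD2_c59 LD3_c8) :=
  Leoe_c (LK LD1_c20 LD2_c59 LD3_c8) (f881263 IH)
def v35950 : LQ := Led Lsl_dt (LP (LK LD1_c8 LD2_c14 LD3_c28))
theorem f881309 : Led Lsl_dt (LP (LK LD1_c8 LD2_c14 LD3_c28)) = v35950 :=
  Lrfl
theorem f444464 : Led Lsl_at (LP (LK LD1_c8 LD2_c14 LD3_c27)) = (LP (LK LD1_c4 LD2_c7 LD3_c1)) :=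
  Lre_a IH (LK LD1_c8 LD2_c14 LD3_c27) (LK LD1_c4 LD2_c7 LD3_c1) Lrfl Lrfl
theorem f54782 : Led Lsl_ft (LP (LK LD1_c4 LD2_c6 LD3_c61)) = (LP (LK LD1_c8 LD2_c14 LD3_c27)) :=
  Lre_f IH (LK LD1_c4 LD2_c6 LD3_c61) (LK LD1_c8 LD2_c14 LD3_c27) Lrfl Lrfl
theorem f554859 : Led Lsl_gt (LP (LK LD1_c4 LD2_c6 LD3_c61)) = (LP (LK LD1_c8 LD2_c14 LD3_c28)) :=
  Lgr Lrot5 (Lpr_ft (f54782 IH) (Lpr_at (f444464 IH) (Lpr_gf (K39.f554857 IH) (Lpn (LP (LK LD1_c8 LD2_c14 LD3_c28))))))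
theorem f384269 : Led Lsl_et (LP (LK LD1_c5 LD2_c28 LD3_c47)) = (LP (LK LD1_c10 LD2_c48 LD3_c40)) :=
  Lre_e IH (LK LD1_c5 LD2_c28 LD3_c47) (LK LD1_c10 LD2_c48 LD3_c40) Lrfl Lrfl
theorem f54780 : Led Lsl_ct (LP (LK LD1_c4 LD2_c6 LD3_c61)) = (LP (LK LD1_c8 LD2_c13 LD3_c57)) :=
  Lre_c IH (LK LD1_c4 LD2_c6 LD3_c61) (LK LD1_c8 LD2_c13 LD3_c57) Lrfl Lrfl
theorem f421709 : Led Lsl_gf (LP (LK LD1_c10 LD2_c45 LD3_c15)) = (LP (LK LD1_c8 LD2_c13 LD3_c57)) :=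
  Lgr Lrot47 (Lpr_gt (K39.f421705 IH) (Lpe (K45.f421708 IH) (Lpe (K45.f54762 IH) (Lpn (LP (LK LD1_c8 LD2_c13 LD3_c57))))))
def v16682 : LQ := Led Lsl_dt (LP (LK LD1_c6 LD2_c5 LD3_c36))
theorem f751070 : Led Lsl_dt (LP (LK LD1_c6 LD2_c5 LD3_c36)) = v16682 :=
  Lrfl
theorem f751072 : Led Lsl_df (LP (LK LD1_c6 LD2_c5 LD3_c36)) = v16682 :=
  Lgr Lrot38 (Lpr_dt (f751070 IH) (Lpn v16682))
theorem f881313 : Led Lsl_gf v16682 = v35950 :=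
  Lgr Lrot143 (Lpe (f751072 IH) (Lpe (K17.f183477 IH) (Lpe (K39.f183478 IH) (Lpe (K39.f554870 IH) (Lpe (K39.f421713 IH) (Lpr_gf (f421709 IH) (Lpe (f54780 IH) (Lpr_gt (f554859 IH) (Lpr_dt (f881309 IH) (Lpn v35950))))))))))
theorem f306889 : Led Lsl_ef (LP (LK LD1_c5 LD2_c30 LD3_c43)) = (LP (LK LD1_c6 LD2_c5 LD3_c36)) :=
  Lgr Lrot29 (Lpr_bt (K54.f306868 IH) (Lpr_et (K19.f306887 IH) (Lpr_bt (K56.f226063 IH) (Lpn (LP (LK LD1_c6 LD2_c5 LD3_c36))))))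
def v15029 : LQ := Led Lsl_gt (LP (LK LD1_c5 LD2_c30 LD3_c43))
theorem f729688 : Led Lsl_gt (LP (LK LD1_c5 LD2_c30 LD3_c43)) = v15029 :=
  Lrfl
theorem f881314 : (LP (LK LD1_c10 LD2_c48 LD3_c40)) = v15029 :=
  (Llr Lrot122 (Lpe (f384269 IH) (Lpr_dt (K30.f384257 IH) (Lpr_gt (K20.f140451 IH) (Lpe (K30.f54769 IH) (Lpr_et (K1.f54771 IH) (Lpr_gt (f554859 IH) (Lpr_dt (f881309 IH) (Lpe (f881313 IH) (Lpe (f751070 IH) (Lpe (f306889 IH) (Lpr_gt (f729688 IH) (Lpn v15029))))))))))))).symm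
theorem f306880 : Led Lsl_bt (LP (LK LD1_c2 LD2_c41 LD3_c34)) = (LP (LK LD1_c5 LD2_c30 LD3_c43)) :=
  Lre_b IH (LK LD1_c2 LD2_c41 LD3_c34) (LK LD1_c5 LD2_c30 LD3_c43) Lrfl Lrfl
theorem f306787 : Led Lsl_bt (LP (LK LD1_c5 LD2_c39 LD3_c43)) = (LP (LK LD1_c2 LD2_c45 LD3_c47)) :=
  Lre_b IH (LK LD1_c5 LD2_c39 LD3_c43) (LK LD1_c2 LD2_c45 LD3_c47) Lrfl Lrfl
theorem f306881 : Led Lsl_ft (LP (LK LD1_c5 LD2_c30 LD3_c43)) = (LP (LK LD1_c5 LD2_c39 LD3_c43)) :=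
  Lgr Lrot75 (Lpe (f306880 IH) (Lpr_ff (K19.f306878 IH) (Lpe (f306787 IH) (Lpn (LP (LK LD1_c5 LD2_c39 LD3_c43))))))
theorem f306852 : Led Lsl_at (LP (LK LD1_c5 LD2_c39 LD3_c43)) = (LP (LK LD1_c11 LD2_c10 LD3_c36)) :=
  Lre_a IH (LK LD1_c5 LD2_c39 LD3_c43) (LK LD1_c11 LD2_c10 LD3_c36) Lrfl Lrfl
theorem f729689 : Led Lsl_gf (LP (LK LD1_c11 LD2_c10 LD3_c36)) = v15029 :=
  Lgr Lrot76 (Lpe (f306852 IH) (Lpe (f306881 IH) (Lpr_gt (f729688 IH) (Lpn v15029))))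
theorem f881315 : Led Lsl_gt (LP (LK LD1_c10 LD2_c48 LD3_c40)) = (LP (LK LD1_c11 LD2_c10 LD3_c36)) :=
  Leop (Lpr_gf (f729689 IH) (Lpq (f881314 IH) (Lpn (LP (LK LD1_c10 LD2_c48 LD3_c40)))))
theorem seed_2066 : LEOK LG_g (LK LD1_c10 LD2_c48 LD3_c40) :=
  Leoe_g (LK LD1_c10 LD2_c48 LD3_c40) (f881315 IH)
def v35971 : LQ := Led Lsl_dt (LP (LK LD1_c8 LD2_c14 LD3_c41))
theorem f881401 : Led Lsl_dt (LP (LK LD1_c8 LD2_c14 LD3_c41)) = v35971 :=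
  Lrfl
theorem f54836 : Led Lsl_gt (LP (LK LD1_c4 LD2_c7 LD3_c2)) = (LP (LK LD1_c8 LD2_c14 LD3_c41)) :=
  Lre_g IH (LK LD1_c4 LD2_c7 LD3_c2) (LK LD1_c8 LD2_c14 LD3_c41) Lrfl Lrfl
def v12274 : LQ := Led Lsl_gf (LP (LK LD1_c3 LD2_c58 LD3_c48))
theorem f689117 : Led Lsl_gf (LP (LK LD1_c3 LD2_c58 LD3_c48)) = v12274 :=
  Lrfl
theorem f73171 : Led Lsl_et (LP (LK LD1_c1 LD2_c20 LD3_c54)) = (LP (LK LD1_c2 LD2_c49 LD3_c29)) :=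
  Lre_e IH (LK LD1_c1 LD2_c20 LD3_c54) (LK LD1_c2 LD2_c49 LD3_c29) Lrfl Lrfl
theorem f415269 : Led Lsl_gt (LP (LK LD1_c9 LD2_c32 LD3_c24)) = (LP (LK LD1_c4 LD2_c49 LD3_c54)) :=
  Lre_g IH (LK LD1_c9 LD2_c32 LD3_c24) (LK LD1_c4 LD2_c49 LD3_c54) Lrfl Lrfl
theorem f452590 : Led Lsl_gt (LP (LK LD1_c0 LD2_c37 LD3_c22)) = K35.v389 :=
  Lgr Lrot131 (Lpe (K37.f61290 IH) (Lpr_dt (K2.f61213 IH) (Lpe (K6.f69320 IH) (Lpe (K2.f25185 IH) (Lpr_gf (K2.f69264 IH) (Lpe (K10.f59575 IH) (Lpr_dt (K9.f59576 IH) (Lpe (K11.f186148 IH) (Lpe (K11.f164293 IH) (Lpr_et (K40.f452589 IH) (Lpn K35.v389)))))))))))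
theorem f418712 : Led Lsl_gt (LP (LK LD1_c4 LD2_c31 LD3_c9)) = (LP (LK LD1_c9 LD2_c0 LD3_c19)) :=
  Lre_g IH (LK LD1_c4 LD2_c31 LD3_c9) (LK LD1_c9 LD2_c0 LD3_c19) Lrfl Lrfl
theorem f622353 : Led Lsl_df (LP (LK LD1_c9 LD2_c32 LD3_c24)) = (LP (LK LD1_c9 LD2_c0 LD3_c19)) :=
  Lgr Lrot135 (Lpr_gt (f415269 IH) (Lpr_df (K24.f415254 IH) (Lpr_et (K24.f415239 IH) (Lpe (K24.f415244 IH) (Lpe (f73171 IH) (Lpr_dt (K17.f73149 IH) (Lpr_gt (f452590 IH) (Lpq (K35.f537166 IH) (Lpe (K30.f354387 IH) (Lpr_et (K39.f354380 IH) (Lpr_gt (f418712 IH) (Lpn (LP (LK LD1_c9 LD2_c0 LD3_c19))))))))))))))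
theorem f622351 : Led Lsl_et (LP (LK LD1_c5 LD2_c40 LD3_c48)) = (LP (LK LD1_c9 LD2_c0 LD3_c19)) :=
  Lgr Lrot122 (Lpr_dt (K57.f172290 IH) (Lpr_gt (K54.f172289 IH) (Lpe (K54.f172288 IH) (Lpr_et (K57.f172287 IH) (Lpe (K9.f172276 IH) (Lpr_dt (K17.f73149 IH) (Lpr_gt (f452590 IH) (Lpq (K35.f537166 IH) (Lpe (K30.f354387 IH) (Lpr_et (K39.f354380 IH) (Lpr_gt (f418712 IH) (Lpn (LP (LK LD1_c9 LD2_c0 LD3_c19))))))))))))))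
theorem f424459 : Led Lsl_dt (LP (LK LD1_c11 LD2_c12 LD3_c11)) = (LP (LK LD1_c5 LD2_c40 LD3_c49)) :=
  Lre_d IH (LK LD1_c11 LD2_c12 LD3_c11) (LK LD1_c5 LD2_c40 LD3_c49) Lrfl Lrfl
theorem f622360 : Led Lsl_et (LP (LK LD1_c9 LD2_c32 LD3_c24)) = (LP (LK LD1_c11 LD2_c12 LD3_c11)) :=
  Lgr Lrot71 (Lpr_df (f622353 IH) (Lpe (f622351 IH) (Lpe (K54.f380522 IH) (Lpe (K64.f380656 IH) (Lpe (f424459 IH) (Lpn (LP (LK LD1_c11 LD2_c12 LD3_c11))))))))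
theorem f622358 : Led Lsl_dt (LP (LK LD1_c9 LD2_c32 LD3_c24)) = (LP (LK LD1_c9 LD2_c0 LD3_c19)) :=
  Lgr Lrot42 (Lpr_df (f622353 IH) (Lpn (LP (LK LD1_c9 LD2_c0 LD3_c19))))
theorem f622380 : Led Lsl_gf (LP (LK LD1_c9 LD2_c46 LD3_c49)) = (LP (LK LD1_c11 LD2_c12 LD3_c11)) :=
  Lgr Lrot138 (Lpr_dt (K53.f40893 IH) (Lpr_gt (K53.f40885 IH) (Lpe (K53.f54848 IH) (Lpr_et (K17.f101556 IH) (Lpe (K36.f172132 IH) (Lpe (K60.f186155 IH) (Lpr_dt (K56.f613546 IH) (Lpr_gt (f418712 IH) (Lpe (f622358 IH) (Lpr_et (f622360 IH) (Lpn (LP (LK LD1_c11 LD2_c12 LD3_c11)))))))))))))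
theorem f638628 : Led Lsl_cf (LP (LK LD1_c2 LD2_c43 LD3_c18)) = K53.v4712 :=
  Lgr Lrot11 (Lpr_ct (K53.f638627 IH) (Lpn K53.v4712))
def v4711 : LQ := Led Lsl_ft (LP (LK LD1_c2 LD2_c43 LD3_c17))
theorem f638619 : Led Lsl_ft (LP (LK LD1_c2 LD2_c43 LD3_c17)) = v4711 :=
  Lrfl
def v4709 : LQ := Led Lsl_at (LP (LK LD1_c2 LD2_c43 LD3_c17))
theorem f638599 : Led Lsl_at (LP (LK LD1_c2 LD2_c43 LD3_c17)) = v4709 :=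
  Lrfl
theorem f638600 : Led Lsl_af (LP (LK LD1_c2 LD2_c43 LD3_c17)) = v4709 :=
  Lgr Lrot0 (Lpr_at (f638599 IH) (Lpn v4709))
theorem f638605 : Led Lsl_ft (LP (LK LD1_c2 LD2_c43 LD3_c18)) = v4709 :=
  Lgr Lrot2 (Lpr_gt (K53.f68844 IH) (Lpr_gt (K53.f174228 IH) (Lpr_af (f638600 IH) (Lpn v4709))))
theorem f638620 : Led Lsl_af (LP (LK LD1_c2 LD2_c43 LD3_c18)) = v4711 :=
  Lgr Lrot45 (Lpr_ft (f638605 IH) (Lpe (f638600 IH) (Lpr_ft (f638619 IH) (Lpn v4711))))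
theorem f710836 : Led Lsl_df (LP (LK LD1_c11 LD2_c12 LD3_c24)) = (LP (LK LD1_c11 LD2_c1 LD3_c51)) :=
  Lgr Lrot38 (Lpr_dt (K53.f710831 IH) (Lpn (LP (LK LD1_c11 LD2_c1 LD3_c51))))
theorem f710868 : Led Lsl_ct (LP (LK LD1_c11 LD2_c12 LD3_c24)) = (LP (LK LD1_c17 LD2_c34 LD3_c5)) :=
  Lgr Lrot41 (Lpr_df (f710836 IH) (Lpe (K53.f638616 IH) (Lpe (K53.f638520 IH) (Lpr_ft (f638619 IH) (Lpe (f638620 IH) (Lpr_cf (f638628 IH) (Lpq (K53.f710850 IH) (Lpe (K53.f40893 IH) (Lpe (K53.f40889 IH) (Lpr_df (K53.f710866 IH) (Lpn (LP (LK LD1_c17 LD2_c34 LD3_c5)))))))))))))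
theorem f172221 : Led Lsl_ct (LP (LK LD1_c11 LD2_c12 LD3_c23)) = (LP (LK LD1_c5 LD2_c40 LD3_c56)) :=
  Lre_c IH (LK LD1_c11 LD2_c12 LD3_c23) (LK LD1_c5 LD2_c40 LD3_c56) Lrfl Lrfl
theorem f172182 : Led Lsl_gt (LP (LK LD1_c20 LD2_c6 LD3_c60)) = (LP (LK LD1_c11 LD2_c12 LD3_c23)) :=
  Lre_g IH (LK LD1_c20 LD2_c6 LD3_c60) (LK LD1_c11 LD2_c12 LD3_c23) Lrfl Lrfl
theorem f880765 : Led Lsl_df (LP (LK LD1_c20 LD2_c6 LD3_c60)) = (LP (LK LD1_c11 LD2_c22 LD3_c45)) :=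
  Lgr Lrot155 (Lpr_gt (f172182 IH) (Lpr_ct (f172221 IH) (Lpr_gt (K53.f172220 IH) (Lpr_ct (f710868 IH) (Lpe (K53.f710866 IH) (Lpe (K57.f40890 IH) (Lpr_gf (f622380 IH) (Lpe (f424463 IH) (Lpr_gf (f880759 IH) (Lpn (LP (LK LD1_c11 LD2_c22 LD3_c45))))))))))))
theorem f698795 : Led Lsl_ct (LP (LK LD1_c16 LD2_c57 LD3_c15)) = (LP (LK LD1_c9 LD2_c5 LD3_c16)) :=
  Lre_c IH (LK LD1_c16 LD2_c57 LD3_c15) (LK LD1_c9 LD2_c5 LD3_c16) Lrfl Lrfl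
theorem f741495 : Led Lsl_dt K55.v4824 = K55.v15777 :=
  Lgr Lrot42 (Lpr_df (K55.f741494 IH) (Lpn K55.v15777))
theorem f824226 : K55.v15777 = (LP (LK LD1_c9 LD2_c5 LD3_c16)) :=
  Lefun (Lecon (f741495 IH) (K64.f824210 IH).symm) (K53.f408218 IH)
theorem f824391 : Led Lsl_af (LP (LK LD1_c16 LD2_c57 LD3_c15)) = (LP (LK LD1_c11 LD2_c22 LD3_c45)) :=
  Lgr Lrot68 (Lpr_ct (f698795 IH) (Lpq (f824226 IH) (Lpe (K55.f741492 IH) (Lpr_ct (f640490 IH) (Lpn (LP (LK LD1_c11 LD2_c22 LD3_c45)))))))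
theorem f824393 : Led Lsl_at (LP (LK LD1_c16 LD2_c57 LD3_c15)) = (LP (LK LD1_c11 LD2_c22 LD3_c45)) :=
  Lgr Lrot100 (Lpr_af (f824391 IH) (Lpn (LP (LK LD1_c11 LD2_c22 LD3_c45))))
theorem f446596 : Led Lsl_gt (LP (LK LD1_c4 LD2_c33 LD3_c55)) = (LP (LK LD1_c9 LD2_c5 LD3_c21)) :=
  Lre_g IH (LK LD1_c4 LD2_c33 LD3_c55) (LK LD1_c9 LD2_c5 LD3_c21) Lrfl Lrfl
theorem f446597 : Led Lsl_ct (LP (LK LD1_c9 LD2_c5 LD3_c21)) = (LP (LK LD1_c16 LD2_c57 LD3_c21)) :=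
  Lre_c IH (LK LD1_c9 LD2_c5 LD3_c21) (LK LD1_c16 LD2_c57 LD3_c21) Lrfl Lrfl
theorem f753527 : Led Lsl_gf (LP (LK LD1_c12 LD2_c55 LD3_c42)) = (LP (LK LD1_c16 LD2_c57 LD3_c21)) :=
  Lgr Lrot104 (Lpe (K40.f414793 IH) (Lpr_df (K57.f413751 IH) (Lpr_cf (K17.f140312 IH) (Lpe (f55770 IH) (Lpq (f753509 IH) (Lpe (f698792 IH) (Lpe (K54.f186211 IH) (Lpe (K53.f175405 IH) (Lpr_gt (f446596 IH) (Lpr_ct (f446597 IH) (Lpn (LP (LK LD1_c16 LD2_c57 LD3_c21)))))))))))))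
theorem f715226 : Led Lsl_at (LP (LK LD1_c11 LD2_c6 LD3_c35)) = (LP (LK LD1_c11 LD2_c14 LD3_c28)) :=
  Lgr Lrot80 (Lpe (K50.f211866 IH) (Lpr_af (K54.f715219 IH) (Lpe (K17.f225941 IH) (Lpn (LP (LK LD1_c11 LD2_c14 LD3_c28))))))
theorem f715230 : Led Lsl_af (LP (LK LD1_c9 LD2_c5 LD3_c22)) = (LP (LK LD1_c5 LD2_c46 LD3_c19)) :=
  Lgr Lrot117 (Lpe (K55.f211864 IH) (Lpr_at (f715226 IH) (Lpr_dt (K17.f225942 IH) (Lpn (LP (LK LD1_c5 LD2_c46 LD3_c19))))))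
theorem f9260 : Led Lsl_gt (LP (LK LD1_c9 LD2_c5 LD3_c21)) = (LP (LK LD1_c4 LD2_c49 LD3_c41)) :=
  Lre_g IH (LK LD1_c9 LD2_c5 LD3_c21) (LK LD1_c4 LD2_c49 LD3_c41) Lrfl Lrfl
theorem f715238 : Led Lsl_ft (LP (LK LD1_c9 LD2_c5 LD3_c21)) = (LP (LK LD1_c5 LD2_c46 LD3_c19)) :=
  Lgr Lrot2 (Lpr_gt (f9260 IH) (Lpr_gt (K50.f9293 IH) (Lpr_af (f715230 IH) (Lpn (LP (LK LD1_c5 LD2_c46 LD3_c19))))))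
theorem f715242 : Led Lsl_ff (LP (LK LD1_c9 LD2_c5 LD3_c21)) = (LP (LK LD1_c5 LD2_c46 LD3_c19)) :=
  Lgr Lrot3 (Lpr_ft (f715238 IH) (Lpn (LP (LK LD1_c5 LD2_c46 LD3_c19))))
theorem f9197 : Led Lsl_ct (LP (LK LD1_c11 LD2_c22 LD3_c54)) = (LP (LK LD1_c5 LD2_c46 LD3_c19)) :=
  Lre_c IH (LK LD1_c11 LD2_c22 LD3_c54) (LK LD1_c5 LD2_c46 LD3_c19) Lrfl Lrfl
theorem f715244 : Led Lsl_ft (LP (LK LD1_c16 LD2_c57 LD3_c21)) = (LP (LK LD1_c11 LD2_c22 LD3_c54)) :=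
  Lgr Lrot4 (Lpe (f446597 IH) (Lpr_ff (f715242 IH) (Lpe (f9197 IH) (Lpn (LP (LK LD1_c11 LD2_c22 LD3_c54))))))
theorem f631669 : Led Lsl_gt (LP (LK LD1_c2 LD2_c48 LD3_c53)) = (LP (LK LD1_c5 LD2_c46 LD3_c18)) :=
  Lre_g IH (LK LD1_c2 LD2_c48 LD3_c53) (LK LD1_c5 LD2_c46 LD3_c18) Lrfl Lrfl
theorem f715246 : Led Lsl_at (LP (LK LD1_c9 LD2_c5 LD3_c21)) = (LP (LK LD1_c5 LD2_c46 LD3_c18)) :=
  Lgr Lrot26 (Lpr_ff (f715242 IH) (Lpr_gt (K17.f9196 IH) (Lpr_gt (f631669 IH) (Lpn (LP (LK LD1_c5 LD2_c46 LD3_c18))))))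
theorem f715232 : Led Lsl_at (LP (LK LD1_c9 LD2_c5 LD3_c22)) = (LP (LK LD1_c5 LD2_c46 LD3_c19)) :=
  Lgr Lrot100 (Lpr_af (f715230 IH) (Lpn (LP (LK LD1_c5 LD2_c46 LD3_c19))))
theorem f715254 : Led Lsl_ff (LP (LK LD1_c9 LD2_c5 LD3_c22)) = (LP (LK LD1_c5 LD2_c46 LD3_c18)) :=
  Lgr Lrot30 (Lpr_at (f715232 IH) (Lpe (f715242 IH) (Lpr_at (f715246 IH) (Lpn (LP (LK LD1_c5 LD2_c46 LD3_c18))))))
theorem f9294 : Led Lsl_ct (LP (LK LD1_c9 LD2_c5 LD3_c22)) = (LP (LK LD1_c16 LD2_c57 LD3_c23)) :=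
  Lre_c IH (LK LD1_c9 LD2_c5 LD3_c22) (LK LD1_c16 LD2_c57 LD3_c23) Lrfl Lrfl
theorem f443854 : Led Lsl_ct (LP (LK LD1_c11 LD2_c22 LD3_c52)) = (LP (LK LD1_c5 LD2_c46 LD3_c18)) :=
  Lre_c IH (LK LD1_c11 LD2_c22 LD3_c52) (LK LD1_c5 LD2_c46 LD3_c18) Lrfl Lrfl
theorem f715258 : Led Lsl_ft (LP (LK LD1_c16 LD2_c57 LD3_c23)) = (LP (LK LD1_c11 LD2_c22 LD3_c52)) :=
  Lgr Lrot4 (Lpe (f9294 IH) (Lpr_ff (f715254 IH) (Lpe (f443854 IH) (Lpn (LP (LK LD1_c11 LD2_c22 LD3_c52))))))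
theorem f412145 : Led Lsl_ct (LP (LK LD1_c16 LD2_c57 LD3_c21)) = (LP (LK LD1_c9 LD2_c5 LD3_c21)) :=
  Lre_c IH (LK LD1_c16 LD2_c57 LD3_c21) (LK LD1_c9 LD2_c5 LD3_c21) Lrfl Lrfl
theorem f715251 : Led Lsl_ct (LP (LK LD1_c5 LD2_c46 LD3_c18)) = (LP (LK LD1_c11 LD2_c22 LD3_c52)) :=
  Lre_c IH (LK LD1_c5 LD2_c46 LD3_c18) (LK LD1_c11 LD2_c22 LD3_c52) Lrfl Lrfl
theorem f715252 : Led Lsl_af (LP (LK LD1_c16 LD2_c57 LD3_c21)) = (LP (LK LD1_c11 LD2_c22 LD3_c52)) :=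
  Lgr Lrot68 (Lpr_ct (f412145 IH) (Lpr_at (f715246 IH) (Lpr_ct (f715251 IH) (Lpn (LP (LK LD1_c11 LD2_c22 LD3_c52))))))
theorem f715269 : Led Lsl_af (LP (LK LD1_c16 LD2_c57 LD3_c23)) = (LP (LK LD1_c11 LD2_c22 LD3_c54)) :=
  Lgr Lrot45 (Lpr_ft (f715258 IH) (Lpe (f715252 IH) (Lpr_ft (f715244 IH) (Lpn (LP (LK LD1_c11 LD2_c22 LD3_c54))))))
theorem f753531 : Led Lsl_gt (LP (LK LD1_c12 LD2_c55 LD3_c42)) = (LP (LK LD1_c16 LD2_c57 LD3_c23)) :=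
  Lgr Lrot46 (Lpr_gf (f753527 IH) (Lpr_ft (f715244 IH) (Lpe (f715269 IH) (Lpn (LP (LK LD1_c16 LD2_c57 LD3_c23))))))
theorem f414877 : Led Lsl_bt (LP (LK LD1_c22 LD2_c5 LD3_c30)) = (LP (LK LD1_c12 LD2_c55 LD3_c42)) :=
  Lre_b IH (LK LD1_c22 LD2_c5 LD3_c30) (LK LD1_c12 LD2_c55 LD3_c42) Lrfl Lrfl
theorem f101464 : Led Lsl_bt (LP (LK LD1_c9 LD2_c46 LD3_c53)) = (LP (LK LD1_c17 LD2_c56 LD3_c52)) :=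
  Lre_b IH (LK LD1_c9 LD2_c46 LD3_c53) (LK LD1_c17 LD2_c56 LD3_c52) Lrfl Lrfl
theorem f414878 : Led Lsl_ft (LP (LK LD1_c12 LD2_c55 LD3_c42)) = (LP (LK LD1_c9 LD2_c46 LD3_c53)) :=
  Lgr Lrot75 (Lpe (f414877 IH) (Lpr_ff (K40.f414872 IH) (Lpe (f101464 IH) (Lpn (LP (LK LD1_c9 LD2_c46 LD3_c53))))))
theorem f101465 : Led Lsl_af (LP (LK LD1_c9 LD2_c51 LD3_c19)) = (LP (LK LD1_c9 LD2_c46 LD3_c53)) :=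
  Lgr Lrot0 (Lpr_at (K9.f100741 IH) (Lpn (LP (LK LD1_c9 LD2_c46 LD3_c53))))
theorem f753533 : Led Lsl_gf (LP (LK LD1_c9 LD2_c51 LD3_c19)) = (LP (LK LD1_c16 LD2_c57 LD3_c23)) :=
  Lgr Lrot76 (Lpr_af (f101465 IH) (Lpe (f414878 IH) (Lpr_gt (f753531 IH) (Lpn (LP (LK LD1_c16 LD2_c57 LD3_c23))))))
theorem f753535 : Led Lsl_dt (LP (LK LD1_c20 LD2_c5 LD3_c37)) = (LP (LK LD1_c16 LD2_c57 LD3_c15)) :=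
  Lgr Lrot105 (Lpe (K56.f553700 IH) (Lpe (K17.f100916 IH) (Lpr_gf (f753533 IH) (Lpe (f9294 IH) (Lpr_gt (K50.f68893 IH) (Lpr_dt (K53.f175405 IH) (Lpr_gt (K54.f186211 IH) (Lpr_dt (K53.f408218 IH) (Lpe (f698795 IH) (Lpn (LP (LK LD1_c16 LD2_c57 LD3_c15))))))))))))
theorem f880767 : Led Lsl_at (LP (LK LD1_c20 LD2_c6 LD3_c60)) = (LP (LK LD1_c20 LD2_c5 LD3_c37)) :=
  Lgr Lrot51 (Lpr_df (f880765 IH) (Lpe (f824393 IH) (Lpe (f753535 IH) (Lpn (LP (LK LD1_c20 LD2_c5 LD3_c37))))))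
theorem f753497 : Led Lsl_ct (LP (LK LD1_c20 LD2_c5 LD3_c37)) = (LP (LK LD1_c11 LD2_c14 LD3_c57)) :=
  Lgr Lrot59 (Lpr_cf (K56.f753495 IH) (Lpn (LP (LK LD1_c11 LD2_c14 LD3_c57))))
theorem f880771 : Led Lsl_cf (LP (LK LD1_c20 LD2_c6 LD3_c60)) = (LP (LK LD1_c11 LD2_c24 LD3_c10)) :=
  Lgr Lrot1 (Lpr_at (f880767 IH) (Lpr_ct (f753497 IH) (Lpe (K56.f753473 IH) (Lpn (LP (LK LD1_c11 LD2_c24 LD3_c10))))))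
theorem f54838 : Led Lsl_gt (LP (LK LD1_c8 LD2_c14 LD3_c42)) = (LP (LK LD1_c4 LD2_c7 LD3_c2)) :=
  Lre_g IH (LK LD1_c8 LD2_c14 LD3_c42) (LK LD1_c4 LD2_c7 LD3_c2) Lrfl Lrfl
theorem f9159 : Led Lsl_gt (LP (LK LD1_c6 LD2_c8 LD3_c29)) = (LP (LK LD1_c9 LD2_c15 LD3_c21)) :=
  Lre_g IH (LK LD1_c6 LD2_c8 LD3_c29) (LK LD1_c9 LD2_c15 LD3_c21) Lrfl Lrfl
theorem f880775 : Led Lsl_cf (LP (LK LD1_c8 LD2_c14 LD3_c42)) = (LP (LK LD1_c9 LD2_c15 LD3_c21)) :=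
  Lgr Lrot169 (Lpr_gt (f54838 IH) (Lpr_ct (K9.f55549 IH) (Lpr_df (K53.f172162 IH) (Lpe (f172221 IH) (Lpe (f172182 IH) (Lpr_cf (f880771 IH) (Lpe (K56.f68899 IH) (Lpe (K0.f9142 IH) (Lpr_gt (f9159 IH) (Lpn (LP (LK LD1_c9 LD2_c15 LD3_c21))))))))))))
theorem f880778 : Led Lsl_ct (LP (LK LD1_c8 LD2_c14 LD3_c42)) = (LP (LK LD1_c9 LD2_c15 LD3_c21)) :=
  Lgr Lrot59 (Lpr_cf (f880775 IH) (Lpn (LP (LK LD1_c9 LD2_c15 LD3_c21))))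
theorem f55370 : Led Lsl_ft (LP (LK LD1_c8 LD2_c11 LD3_c61)) = (LP (LK LD1_c4 LD2_c5 LD3_c33)) :=
  Lre_f IH (LK LD1_c8 LD2_c11 LD3_c61) (LK LD1_c4 LD2_c5 LD3_c33) Lrfl Lrfl
theorem f55903 : Led Lsl_gf (LP (LK LD1_c8 LD2_c14 LD3_c42)) = (LP (LK LD1_c8 LD2_c11 LD3_c61)) :=
  Lgr Lrot47 (Lpr_gt (f54838 IH) (Lpr_af (K9.f55640 IH) (Lpe (f55370 IH) (Lpn (LP (LK LD1_c8 LD2_c11 LD3_c61))))))
theorem f689118 : Led Lsl_gt (LP (LK LD1_c4 LD2_c56 LD3_c26)) = v12274 :=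
  Lgr Lrot5 (Lpr_ft (K9.f41004 IH) (Lpr_at (K9.f55757 IH) (Lpr_gf (f689117 IH) (Lpn v12274))))
theorem f9229 : Led Lsl_gt (LP (LK LD1_c9 LD2_c15 LD3_c21)) = (LP (LK LD1_c4 LD2_c39 LD3_c55)) :=
  Lre_g IH (LK LD1_c9 LD2_c15 LD3_c21) (LK LD1_c4 LD2_c39 LD3_c55) Lrfl Lrfl
theorem f9226 : Led Lsl_ct (LP (LK LD1_c4 LD2_c39 LD3_c55)) = (LP (LK LD1_c2 LD2_c59 LD3_c34)) :=
  Lre_c IH (LK LD1_c4 LD2_c39 LD3_c55) (LK LD1_c2 LD2_c59 LD3_c34) Lrfl Lrfl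
theorem f9228 : Led Lsl_ct (LP (LK LD1_c5 LD2_c46 LD3_c15)) = (LP (LK LD1_c2 LD2_c48 LD3_c52)) :=
  Lre_c IH (LK LD1_c5 LD2_c46 LD3_c15) (LK LD1_c2 LD2_c48 LD3_c52) Lrfl Lrfl
theorem f880782 : v12274 = (LP (LK LD1_c5 LD2_c46 LD3_c15)) :=
  (Llr Lrot9 (Lpe (f689118 IH) (Lpe (K17.f55359 IH) (Lpe (f55903 IH) (Lpr_ct (f880778 IH) (Lpr_gt (f9229 IH) (Lpr_ct (f9226 IH) (Lpe (K0.f9187 IH) (Lpe (K0.f9151 IH) (Lpe (K55.f9190 IH) (Lpe (f9228 IH) (Lpn (LP (LK LD1_c5 LD2_c46 LD3_c15)))))))))))))).symm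
def v15569 : LQ := Led Lsl_gt (LP (LK LD1_c5 LD2_c42 LD3_c16))
theorem f738077 : Led Lsl_gt (LP (LK LD1_c5 LD2_c42 LD3_c16)) = v15569 :=
  Lrfl
theorem f738079 : Led Lsl_df (LP (LK LD1_c5 LD2_c46 LD3_c18)) = v15569 :=
  Lgr Lrot135 (Lpr_gt (K57.f9323 IH) (Lpe (K17.f68902 IH) (Lpr_et (K17.f140691 IH) (Lpr_gt (K1.f27144 IH) (Lpe (K64.f140679 IH) (Lpr_dt (K50.f140687 IH) (Lpr_gt (K50.f140681 IH) (Lpe (K50.f68673 IH) (Lpr_et (K50.f68689 IH) (Lpr_gt (f738077 IH) (Lpn v15569)))))))))))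
theorem f738080 : Led Lsl_dt (LP (LK LD1_c5 LD2_c46 LD3_c18)) = v15569 :=
  Lgr Lrot42 (Lpr_df (f738079 IH) (Lpn v15569))
theorem f881404 : Led Lsl_ct v15569 = v35971 :=
  Lgr Lrot7 (Lpe (f738080 IH) (Lpe (f631669 IH) (Lpe (K17.f9189 IH) (Lpe (K55.f9190 IH) (Lpe (f9228 IH) (Lpq (f880782 IH) (Lpe (f689117 IH) (Lpr_dt (K9.f54822 IH) (Lpr_gt (f54836 IH) (Lpr_dt (f881401 IH) (Lpn v35971)))))))))))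
theorem f738081 : Led Lsl_ft (LP (LK LD1_c11 LD2_c6 LD3_c35)) = v15569 :=
  Lgr Lrot54 (Lpr_df (K55.f211864 IH) (Lpr_ff (f715254 IH) (Lpr_df (f738079 IH) (Lpn v15569))))
theorem f718823 : Led Lsl_cf (LP (LK LD1_c4 LD2_c56 LD3_c24)) = v14063 :=
  Lgr Lrot11 (Lpr_ct (f718822 IH) (Lpn v14063))
theorem f880757 : Led Lsl_cf (LP (LK LD1_c11 LD2_c6 LD3_c35)) = v35867 :=
  Lgr Lrot14 (Lpr_df (K55.f211864 IH) (Lpe (K50.f9293 IH) (Lpe (K0.f9243 IH) (Lpe (K50.f9266 IH) (Lpqs (f753510 IH) (Lpe (f718823 IH) (Lpr_gt (f55770 IH) (Lpr_dt (K17.f54839 IH) (Lpe (f55759 IH) (Lpr_dt (f880754 IH) (Lpn v35867)))))))))))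
theorem f881405 : Led Lsl_ff v35867 = v35971 :=
  Lgr Lrot23 (Lpe (f880757 IH) (Lpr_ft (f738081 IH) (Lpr_ct (f881404 IH) (Lpn v35971))))
theorem f880755 : Led Lsl_df (LP (LK LD1_c8 LD2_c11 LD3_c60)) = v35867 :=
  Lgr Lrot38 (Lpr_dt (f880754 IH) (Lpn v35867))
def v35869 : LQ := Led Lsl_ft (LP (LK LD1_c8 LD2_c11 LD3_c60))
theorem f880826 : Led Lsl_ft (LP (LK LD1_c8 LD2_c11 LD3_c60)) = v35869 :=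
  Lrfl
theorem f881407 : v35869 = (LP (LK LD1_c8 LD2_c14 LD3_c41)) :=
  (Llr Lrot54 (Lpe (f880826 IH) (Lpr_df (f880755 IH) (Lpr_ff (f881405 IH) (Lpe (f881401 IH) (Lpn (LP (LK LD1_c8 LD2_c14 LD3_c41)))))))).symm
theorem f880829 : Led Lsl_ff (LP (LK LD1_c8 LD2_c11 LD3_c60)) = v35869 :=
  Lgr Lrot3 (Lpr_ft (f880826 IH) (Lpn v35869))
theorem f881408 : Led Lsl_ft (LP (LK LD1_c8 LD2_c14 LD3_c41)) = (LP (LK LD1_c8 LD2_c11 LD3_c60)) :=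
  Leop (Lpr_ff (f880829 IH) (Lpqs (f881407 IH) (Lpn (LP (LK LD1_c8 LD2_c14 LD3_c41)))))
theorem seed_2067 : LEOK LG_f (LK LD1_c8 LD2_c14 LD3_c41) :=
  Leoe_f (LK LD1_c8 LD2_c14 LD3_c41) (f881408 IH)
def v35981 : LQ := Led Lsl_ft (LP (LK LD1_c8 LD2_c14 LD3_c54))
theorem f881502 : Led Lsl_ft (LP (LK LD1_c8 LD2_c14 LD3_c54)) = v35981 :=
  Lrfl
theorem f172103 : Led Lsl_gt (LP (LK LD1_c8 LD2_c14 LD3_c54)) = (LP (LK LD1_c15 LD2_c30 LD3_c43)) :=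
  Lre_g IH (LK LD1_c8 LD2_c14 LD3_c54) (LK LD1_c15 LD2_c30 LD3_c43) Lrfl Lrfl
theorem f151761 : Led Lsl_ft (LP (LK LD1_c10 LD2_c6 LD3_c42)) = (LP (LK LD1_c5 LD2_c8 LD3_c5)) :=
  Lre_f IH (LK LD1_c10 LD2_c6 LD3_c42) (LK LD1_c5 LD2_c8 LD3_c5) Lrfl Lrfl
theorem f881503 : Led Lsl_af (LP (LK LD1_c10 LD2_c6 LD3_c42)) = v35981 :=
  Lgr Lrot45 (Lpr_ft (f151761 IH) (Lpr_at (K38.f548559 IH) (Lpr_ft (f881502 IH) (Lpn v35981))))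
theorem f881508 : Led Lsl_gt (LP (LK LD1_c15 LD2_c30 LD3_c43)) = (LP (LK LD1_c10 LD2_c6 LD3_c42)) :=
  Lgr Lrot46 (Lpe (f172103 IH) (Lpr_ft (f881502 IH) (Lpe (f881503 IH) (Lpn (LP (LK LD1_c10 LD2_c6 LD3_c42))))))
theorem f881509 : Led Lsl_gt (LP (LK LD1_c15 LD2_c30 LD3_c43)) = (LP (LK LD1_c10 LD2_c6 LD3_c42)) :=
  Leop (Lpe (f881508 IH) (Lpn (LP (LK LD1_c15 LD2_c30 LD3_c43))))
theorem seed_2068 : LEOK LG_g (LK LD1_c15 LD2_c30 LD3_c43) :=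
  Leoe_g (LK LD1_c15 LD2_c30 LD3_c43) (f881509 IH)
def v35992 : LQ := Led Lsl_gf (LP (LK LD1_c8 LD2_c14 LD3_c58))
theorem f881560 : Led Lsl_gf (LP (LK LD1_c8 LD2_c14 LD3_c58)) = v35992 :=
  Lrfl
theorem f686003 : Led Lsl_et (LP (LK LD1_c5 LD2_c7 LD3_c27)) = K53.v11816 :=
  Lgr Lrot87 (Lpr_ef (K53.f686001 IH) (Lpn K53.v11816))
theorem f186678 : Led Lsl_et (LP (LK LD1_c5 LD2_c8 LD3_c14)) = (LP (LK LD1_c10 LD2_c7 LD3_c0)) :=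
  Lre_e IH (LK LD1_c5 LD2_c8 LD3_c14) (LK LD1_c10 LD2_c7 LD3_c0) Lrfl Lrfl
theorem f164562 : Led Lsl_ft (LP (LK LD1_c5 LD2_c8 LD3_c25)) = (LP (LK LD1_c2 LD2_c31 LD3_c26)) :=
  Lre_f IH (LK LD1_c5 LD2_c8 LD3_c25) (LK LD1_c2 LD2_c31 LD3_c26) Lrfl Lrfl
theorem f164574 : Led Lsl_at (LP (LK LD1_c2 LD2_c31 LD3_c26)) = (LP (LK LD1_c2 LD2_c34 LD3_c15)) :=
  Lgr Lrot66 (Lpe (f164562 IH) (Lpr_af (K49.f164554 IH) (Lpe (K49.f164066 IH) (Lpn (LP (LK LD1_c2 LD2_c34 LD3_c15))))))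
theorem f163969 : Led Lsl_gt (LP (LK LD1_c5 LD2_c14 LD3_c53)) = (LP (LK LD1_c2 LD2_c34 LD3_c15)) :=
  Lre_g IH (LK LD1_c5 LD2_c14 LD3_c53) (LK LD1_c2 LD2_c34 LD3_c15) Lrfl Lrfl
theorem f164582 : Led Lsl_gt (LP (LK LD1_c5 LD2_c8 LD3_c25)) = (LP (LK LD1_c5 LD2_c14 LD3_c53)) :=
  Lgr Lrot5 (Lpr_ft (f164562 IH) (Lpr_at (f164574 IH) (Lpe (f163969 IH) (Lpn (LP (LK LD1_c5 LD2_c14 LD3_c53))))))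
theorem f164359 : Led Lsl_et (LP (LK LD1_c10 LD2_c19 LD3_c9)) = (LP (LK LD1_c5 LD2_c14 LD3_c53)) :=
  Lre_e IH (LK LD1_c10 LD2_c19 LD3_c9) (LK LD1_c5 LD2_c14 LD3_c53) Lrfl Lrfl
theorem f881562 : Led Lsl_dt (LP (LK LD1_c10 LD2_c19 LD3_c9)) = v35992 :=
  Lgr Lrot136 (Lpr_et (f164359 IH) (Lpe (f164582 IH) (Lpe (K48.f22259 IH) (Lpe (K7.f22239 IH) (Lpr_gf (K49.f494347 IH) (Lpqs (K49.f535846 IH) (Lpr_df (K53.f627781 IH) (Lpr_gf (K53.f685995 IH) (Lpe (f686003 IH) (Lpr_dt (K51.f194075 IH) (Lpr_gf (f881560 IH) (Lpn v35992))))))))))))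
theorem f881563 : Led Lsl_gt (LP (LK LD1_c10 LD2_c7 LD3_c0)) = (LP (LK LD1_c10 LD2_c19 LD3_c9)) :=
  Lgr Lrot137 (Lpe (f186678 IH) (Lpr_dt (K54.f165760 IH) (Lpr_gf (K55.f699606 IH) (Lpe (K55.f699608 IH) (Lpe (K55.f686014 IH) (Lpr_gf (K53.f685995 IH) (Lpe (f686003 IH) (Lpr_dt (K51.f194075 IH) (Lpr_gf (f881560 IH) (Lpe (f881562 IH) (Lpn (LP (LK LD1_c10 LD2_c19 LD3_c9)))))))))))))
theorem f881564 : Led Lsl_gt (LP (LK LD1_c10 LD2_c7 LD3_c0)) = (LP (LK LD1_c10 LD2_c19 LD3_c9)) :=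
  Leop (Lpe (f881563 IH) (Lpn (LP (LK LD1_c10 LD2_c7 LD3_c0))))
theorem seed_2069 : LEOK LG_g (LK LD1_c10 LD2_c7 LD3_c0) :=
  Leoe_g (LK LD1_c10 LD2_c7 LD3_c0) (f881564 IH)
def v35997 : LQ := Led Lsl_et (LP (LK LD1_c8 LD2_c14 LD3_c61))
theorem f881589 : Led Lsl_et (LP (LK LD1_c8 LD2_c14 LD3_c61)) = v35997 :=
  Lrfl
theorem f881592 : Led Lsl_ef (LP (LK LD1_c8 LD2_c14 LD3_c61)) = v35997 :=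
  Lgr Lrot88 (Lpr_et (f881589 IH) (Lpn v35997))
theorem f55571 : Led Lsl_et (LP (LK LD1_c4 LD2_c6 LD3_c6)) = (LP (LK LD1_c8 LD2_c12 LD3_c55)) :=
  Lre_e IH (LK LD1_c4 LD2_c6 LD3_c6) (LK LD1_c8 LD2_c12 LD3_c55) Lrfl Lrfl
theorem f301918 : Led Lsl_gt (LP (LK LD1_c9 LD2_c5 LD3_c43)) = (LP (LK LD1_c4 LD2_c34 LD3_c9)) :=
  Lre_g IH (LK LD1_c9 LD2_c5 LD3_c43) (LK LD1_c4 LD2_c34 LD3_c9) Lrfl Lrfl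
theorem f406564 : Led Lsl_gt (LP (LK LD1_c5 LD2_c49 LD3_c26)) = (LP (LK LD1_c9 LD2_c5 LD3_c43)) :=
  Lgr Lrot5 (Lpr_ft (K53.f210508 IH) (Lpr_at (K53.f301945 IH) (Lpe (f301918 IH) (Lpn (LP (LK LD1_c9 LD2_c5 LD3_c43))))))
theorem f881595 : Led Lsl_df (LP (LK LD1_c9 LD2_c5 LD3_c43)) = v35997 :=
  Lgr Lrot132 (Lpe (f406564 IH) (Lpr_df (K53.f210510 IH) (Lpe (K53.f616088 IH) (Lpr_ef (K56.f616075 IH) (Lpr_dt (K32.f73625 IH) (Lpr_gf (K32.f73620 IH) (Lpe (K2.f73205 IH) (Lpr_et (f55571 IH) (Lpr_gf (K57.f55725 IH) (Lpr_ef (f881592 IH) (Lpn v35997)))))))))))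
theorem f751701 : Led Lsl_ft (LP (LK LD1_c8 LD2_c12 LD3_c57)) = (LP (LK LD1_c8 LD2_c14 LD3_c61)) :=
  Lgr Lrot48 (Lpr_ff (K57.f751692 IH) (Lpn (LP (LK LD1_c8 LD2_c14 LD3_c61))))
theorem f751713 : Led Lsl_af (LP (LK LD1_c8 LD2_c12 LD3_c56)) = (LP (LK LD1_c8 LD2_c14 LD3_c61)) :=
  Lgr Lrot45 (Lpr_ft (K57.f751711 IH) (Lpe (K57.f751705 IH) (Lpr_ft (f751701 IH) (Lpn (LP (LK LD1_c8 LD2_c14 LD3_c61))))))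
theorem f176653 : Led Lsl_gt (LP (LK LD1_c5 LD2_c49 LD3_c25)) = (LP (LK LD1_c2 LD2_c50 LD3_c48)) :=
  Lre_g IH (LK LD1_c5 LD2_c49 LD3_c25) (LK LD1_c2 LD2_c50 LD3_c48) Lrfl Lrfl
theorem f210513 : Led Lsl_dt (LP (LK LD1_c11 LD2_c27 LD3_c47)) = (LP (LK LD1_c5 LD2_c49 LD3_c25)) :=
  Lre_d IH (LK LD1_c11 LD2_c27 LD3_c47) (LK LD1_c5 LD2_c49 LD3_c25) Lrfl Lrfl
theorem f204864 : Led Lsl_gt (LP (LK LD1_c1 LD2_c25 LD3_c33)) = (LP (LK LD1_c0 LD2_c39 LD3_c33)) :=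
  Lgr Lrot180 (Lpr_ct (K11.f204856 IH) (Lpe (K11.f204854 IH) (Lpr_dt (K9.f55911 IH) (Lpr_gt (K9.f28335 IH) (Lpr_dt (K1.f27281 IH) (Lpr_ct (K9.f55631 IH) (Lpe (K1.f55381 IH) (Lpr_gf (K14.f169097 IH) (Lpe (K9.f169096 IH) (Lpn (LP (LK LD1_c0 LD2_c39 LD3_c33))))))))))))
theorem f195790 : Led Lsl_ct (LP (LK LD1_c1 LD2_c19 LD3_c24)) = (LP (LK LD1_c2 LD2_c39 LD3_c57)) :=
  Lgr Lrot7 (Lpe (K9.f22419 IH) (Lpr_gf (K9.f172051 IH) (Lpe (K10.f55579 IH) (Lpe (K9.f55458 IH) (Lpr_cf (K10.f195569 IH) (Lpe (K10.f195583 IH) (Lpr_dt (K0.f8447 IH) (Lpr_gt (K10.f195786 IH) (Lpr_dt (K10.f187521 IH) (Lpn (LP (LK LD1_c2 LD2_c39 LD3_c57))))))))))))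
theorem f210500 : Led Lsl_gf (LP (LK LD1_c1 LD2_c19 LD3_c24)) = (LP (LK LD1_c2 LD2_c45 LD3_c19)) :=
  Lgr Lrot147 (Lpr_ct (f195790 IH) (Lpe (K10.f195788 IH) (Lpr_ct (K10.f21261 IH) (Lpe (K9.f21269 IH) (Lpe (K9.f21268 IH) (Lpr_gf (K9.f164304 IH) (Lpe (K9.f20577 IH) (Lpe (f204864 IH) (Lpr_df (K53.f210483 IH) (Lpn (LP (LK LD1_c2 LD2_c45 LD3_c19))))))))))))
theorem f22418 : Led Lsl_dt (LP (LK LD1_c1 LD2_c19 LD3_c24)) = (LP (LK LD1_c0 LD2_c36 LD3_c40)) :=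
  Lre_d IH (LK LD1_c1 LD2_c19 LD3_c24) (LK LD1_c0 LD2_c36 LD3_c40) Lrfl Lrfl
theorem f55551 : Led Lsl_et (LP (LK LD1_c2 LD2_c0 LD3_c20)) = (LP (LK LD1_c4 LD2_c6 LD3_c7)) :=
  Lre_e IH (LK LD1_c2 LD2_c0 LD3_c20) (LK LD1_c4 LD2_c6 LD3_c7) Lrfl Lrfl
theorem f210520 : Led Lsl_et (LP (LK LD1_c11 LD2_c27 LD3_c47)) = (LP (LK LD1_c8 LD2_c12 LD3_c56)) :=
  Lgr Lrot122 (Lpr_dt (f210513 IH) (Lpr_gt (f176653 IH) (Lpr_df (K53.f210506 IH) (Lpr_et (K53.f210497 IH) (Lpe (f210500 IH) (Lpr_dt (f22418 IH) (Lpr_gt (K9.f172055 IH) (Lpe (K1.f55583 IH) (Lpr_et (f55551 IH) (Lpr_gt (K53.f55555 IH) (Lpn (LP (LK LD1_c8 LD2_c12 LD3_c56)))))))))))))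
theorem f210523 : Led Lsl_ef (LP (LK LD1_c11 LD2_c27 LD3_c47)) = (LP (LK LD1_c8 LD2_c12 LD3_c56)) :=
  Lgr Lrot88 (Lpr_et (f210520 IH) (Lpn (LP (LK LD1_c8 LD2_c12 LD3_c56))))
theorem f881593 : Led Lsl_at (LP (LK LD1_c11 LD2_c27 LD3_c47)) = v35997 :=
  Lgr Lrot80 (Lpr_ef (f210523 IH) (Lpr_af (f751713 IH) (Lpr_ef (f881592 IH) (Lpn v35997))))
theorem f210522 : Led Lsl_dt (LP (LK LD1_c5 LD2_c49 LD3_c25)) = (LP (LK LD1_c11 LD2_c27 LD3_c47)) :=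
  Lre_d IH (LK LD1_c5 LD2_c49 LD3_c25) (LK LD1_c11 LD2_c27 LD3_c47) Lrfl Lrfl
def v15881 : LQ := Led Lsl_at (LP (LK LD1_c5 LD2_c49 LD3_c25))
theorem f744065 : Led Lsl_at (LP (LK LD1_c5 LD2_c49 LD3_c25)) = v15881 :=
  Lrfl
theorem f744066 : Led Lsl_af (LP (LK LD1_c5 LD2_c49 LD3_c25)) = v15881 :=
  Lgr Lrot0 (Lpr_at (f744065 IH) (Lpn v15881))
theorem f881597 : (LP (LK LD1_c9 LD2_c5 LD3_c43)) = v15881 :=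
  (Llr Lrot44 (Lpr_df (f881595 IH) (Lpe (f881593 IH) (Lpe (f210522 IH) (Lpr_af (f744066 IH) (Lpn v15881)))))).symm
theorem f881598 : Led Lsl_at (LP (LK LD1_c9 LD2_c5 LD3_c43)) = (LP (LK LD1_c5 LD2_c49 LD3_c25)) :=
  Leop (Lpr_af (f744066 IH) (Lpq (f881597 IH) (Lpn (LP (LK LD1_c9 LD2_c5 LD3_c43)))))
theorem seed_2070 : LEOK LG_a (LK LD1_c9 LD2_c5 LD3_c43) :=
  Leoe_a (LK LD1_c9 LD2_c5 LD3_c43) (f881598 IH)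
def v36007 : LQ := Led Lsl_gt (LP (LK LD1_c8 LD2_c15 LD3_c30))
theorem f881680 : Led Lsl_gt (LP (LK LD1_c8 LD2_c15 LD3_c30)) = v36007 :=
  Lrfl
theorem f50671 : Led Lsl_ft (LP (LK LD1_c8 LD2_c15 LD3_c30)) = (LP (LK LD1_c15 LD2_c31 LD3_c40)) :=
  Lre_f IH (LK LD1_c8 LD2_c15 LD3_c30) (LK LD1_c15 LD2_c31 LD3_c40) Lrfl Lrfl
theorem f49778 : Led Lsl_at (LP (LK LD1_c15 LD2_c31 LD3_c40)) = (LP (LK LD1_c8 LD2_c15 LD3_c32)) :=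
  Lre_a IH (LK LD1_c15 LD2_c31 LD3_c40) (LK LD1_c8 LD2_c15 LD3_c32) Lrfl Lrfl
theorem f881681 : Led Lsl_gf (LP (LK LD1_c8 LD2_c15 LD3_c32)) = v36007 :=
  Lgr Lrot76 (Lpe (f49778 IH) (Lpe (f50671 IH) (Lpr_gt (f881680 IH) (Lpn v36007))))
theorem f50341 : Led Lsl_ct (LP (LK LD1_c8 LD2_c7 LD3_c8)) = (LP (LK LD1_c8 LD2_c15 LD3_c32)) :=
  Lgr Lrot59 (Lpr_cf (K9.f50307 IH) (Lpn (LP (LK LD1_c8 LD2_c15 LD3_c32))))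
theorem f187629 : Led Lsl_ct (LP (LK LD1_c10 LD2_c45 LD3_c1)) = (LP (LK LD1_c5 LD2_c26 LD3_c60)) :=
  Lre_c IH (LK LD1_c10 LD2_c45 LD3_c1) (LK LD1_c5 LD2_c26 LD3_c60) Lrfl Lrfl
theorem f187630 : Led Lsl_bt (LP (LK LD1_c10 LD2_c45 LD3_c1)) = (LP (LK LD1_c19 LD2_c26 LD3_c42)) :=
  Lre_b IH (LK LD1_c10 LD2_c45 LD3_c1) (LK LD1_c19 LD2_c26 LD3_c42) Lrfl Lrfl
theorem f27642 : Led Lsl_bt (LP (LK LD1_c2 LD2_c4 LD3_c34)) = (LP (LK LD1_c4 LD2_c14 LD3_c23)) :=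
  Lre_b IH (LK LD1_c2 LD2_c4 LD3_c34) (LK LD1_c4 LD2_c14 LD3_c23) Lrfl Lrfl
theorem f50899 : Led Lsl_gt (LP (LK LD1_c4 LD2_c14 LD3_c23)) = (LP (LK LD1_c8 LD2_c27 LD3_c29)) :=
  Lre_g IH (LK LD1_c4 LD2_c14 LD3_c23) (LK LD1_c8 LD2_c27 LD3_c29) Lrfl Lrfl
theorem f51093 : Led Lsl_bt (LP (LK LD1_c15 LD2_c52 LD3_c55)) = (LP (LK LD1_c8 LD2_c27 LD3_c29)) :=
  Lre_b IH (LK LD1_c15 LD2_c52 LD3_c55) (LK LD1_c8 LD2_c27 LD3_c29) Lrfl Lrfl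
theorem f881682 : Led Lsl_ct (LP (LK LD1_c15 LD2_c52 LD3_c55)) = v36007 :=
  Lgr Lrot64 (Lpr_bt (f51093 IH) (Lpe (f50899 IH) (Lpe (f27642 IH) (Lpr_ct (K10.f27647 IH) (Lpe (K10.f189141 IH) (Lpe (K15.f178249 IH) (Lpe (K10.f188034 IH) (Lpe (K10.f50336 IH) (Lpr_ct (f50341 IH) (Lpr_gf (f881681 IH) (Lpn v36007)))))))))))
theorem f881683 : Led Lsl_gt (LP (LK LD1_c19 LD2_c26 LD3_c42)) = (LP (LK LD1_c15 LD2_c52 LD3_c55)) :=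
  Lgr Lrot82 (Lpe (f187630 IH) (Lpr_ct (f187629 IH) (Lpe (K45.f187526 IH) (Lpe (K39.f187576 IH) (Lpr_bt (K39.f187517 IH) (Lpe (K10.f188034 IH) (Lpe (K10.f50336 IH) (Lpr_ct (f50341 IH) (Lpr_gf (f881681 IH) (Lpe (f881682 IH) (Lpn (LP (LK LD1_c15 LD2_c52 LD3_c55)))))))))))))
theorem f881684 : Led Lsl_gt (LP (LK LD1_c19 LD2_c26 LD3_c42)) = (LP (LK LD1_c15 LD2_c52 LD3_c55)) :=
  Leop (Lpe (f881683 IH) (Lpn (LP (LK LD1_c19 LD2_c26 LD3_c42))))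
theorem seed_2071 : LEOK LG_g (LK LD1_c19 LD2_c26 LD3_c42) :=
  Leoe_g (LK LD1_c19 LD2_c26 LD3_c42) (f881684 IH)
def v36032 : LQ := Led Lsl_gt (LP (LK LD1_c8 LD2_c16 LD3_c54))
theorem f881833 : Led Lsl_gt (LP (LK LD1_c8 LD2_c16 LD3_c54)) = v36032 :=
  Lrfl
theorem f221964 : Led Lsl_gf (LP (LK LD1_c15 LD2_c44 LD3_c39)) = (LP (LK LD1_c16 LD2_c6 LD3_c10)) :=
  Lgr Lrot47 (Lpr_gt (K50.f219833 IH) (Lpe (K27.f219904 IH) (Lpr_ff (K30.f221957 IH) (Lpn (LP (LK LD1_c16 LD2_c6 LD3_c10))))))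
theorem f404794 : Led Lsl_bt (LP (LK LD1_c15 LD2_c46 LD3_c51)) = (LP (LK LD1_c8 LD2_c23 LD3_c28)) :=
  Lre_b IH (LK LD1_c15 LD2_c46 LD3_c51) (LK LD1_c8 LD2_c23 LD3_c28) Lrfl Lrfl
theorem f404796 : Led Lsl_ct (LP (LK LD1_c15 LD2_c46 LD3_c51)) = (LP (LK LD1_c8 LD2_c23 LD3_c29)) :=
  Lre_c IH (LK LD1_c15 LD2_c46 LD3_c51) (LK LD1_c8 LD2_c23 LD3_c29) Lrfl Lrfl
theorem f404797 : Led Lsl_gt (LP (LK LD1_c10 LD2_c50 LD3_c18)) = (LP (LK LD1_c8 LD2_c23 LD3_c29)) :=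
  Lgr Lrot65 (Lpe (K30.f219901 IH) (Lpr_bt (K27.f219816 IH) (Lpe (K12.f170587 IH) (Lpe (K49.f170916 IH) (Lpr_ct (K49.f170597 IH) (Lpe (K49.f51531 IH) (Lpe (K49.f170886 IH) (Lpr_gf (K50.f404789 IH) (Lpe (f404794 IH) (Lpr_ct (f404796 IH) (Lpn (LP (LK LD1_c8 LD2_c23 LD3_c29)))))))))))))
theorem f222780 : Led Lsl_bt (LP (LK LD1_c8 LD2_c18 LD3_c39)) = (LP (LK LD1_c4 LD2_c9 LD3_c19)) :=
  Lre_b IH (LK LD1_c8 LD2_c18 LD3_c39) (LK LD1_c4 LD2_c9 LD3_c19) Lrfl Lrfl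
theorem f222817 : Led Lsl_ff (LP (LK LD1_c8 LD2_c18 LD3_c39)) = (LP (LK LD1_c10 LD2_c50 LD3_c18)) :=
  Lgr Lrot25 (Lpr_bt (f222780 IH) (Lpr_ft (K12.f222814 IH) (Lpr_bt (K50.f219817 IH) (Lpn (LP (LK LD1_c10 LD2_c50 LD3_c18))))))
theorem f404807 : Led Lsl_gf (LP (LK LD1_c15 LD2_c37 LD3_c53)) = (LP (LK LD1_c8 LD2_c23 LD3_c29)) :=
  Lgr Lrot76 (Lpe (K30.f222776 IH) (Lpr_ff (f222817 IH) (Lpr_gt (f404797 IH) (Lpn (LP (LK LD1_c8 LD2_c23 LD3_c29))))))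
theorem f400751 : Led Lsl_bt (LP (LK LD1_c4 LD2_c11 LD3_c54)) = (LP (LK LD1_c8 LD2_c23 LD3_c29)) :=
  Lre_b IH (LK LD1_c4 LD2_c11 LD3_c54) (LK LD1_c8 LD2_c23 LD3_c29) Lrfl Lrfl
theorem f396953 : Led Lsl_ct (LP (LK LD1_c4 LD2_c11 LD3_c54)) = (LP (LK LD1_c2 LD2_c3 LD3_c6)) :=
  Lre_c IH (LK LD1_c4 LD2_c11 LD3_c54) (LK LD1_c2 LD2_c3 LD3_c6) Lrfl Lrfl
theorem f881840 : Led Lsl_bt (LP (LK LD1_c8 LD2_c19 LD3_c40)) = v36032 :=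
  Lgr Lrot92 (Lpr_ct (K49.f51781 IH) (Lpr_gt (K49.f51776 IH) (Lpe (f396953 IH) (Lpr_bt (f400751 IH) (Lpe (f404807 IH) (Lpr_ct (K30.f234534 IH) (Lpe (f221964 IH) (Lpr_cf (K50.f223031 IH) (Lpr_bt (K50.f223030 IH) (Lpr_gt (f881833 IH) (Lpn v36032)))))))))))
theorem f881842 : Led Lsl_bf (LP (LK LD1_c8 LD2_c19 LD3_c40)) = v36032 :=
  Lgr Lrot24 (Lpr_bt (f881840 IH) (Lpn v36032))
theorem f397188 : Led Lsl_bt (LP (LK LD1_c8 LD2_c19 LD3_c45)) = (LP (LK LD1_c4 LD2_c9 LD3_c48)) :=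
  Lre_b IH (LK LD1_c8 LD2_c19 LD3_c45) (LK LD1_c4 LD2_c9 LD3_c48) Lrfl Lrfl
theorem f170571 : Led Lsl_bt (LP (LK LD1_c8 LD2_c18 LD3_c41)) = (LP (LK LD1_c15 LD2_c37 LD3_c57)) :=
  Lre_b IH (LK LD1_c8 LD2_c18 LD3_c41) (LK LD1_c15 LD2_c37 LD3_c57) Lrfl Lrfl
theorem f222884 : Led Lsl_ct (LP (LK LD1_c8 LD2_c25 LD3_c7)) = (LP (LK LD1_c8 LD2_c18 LD3_c37)) :=
  Lre_c IH (LK LD1_c8 LD2_c25 LD3_c7) (LK LD1_c8 LD2_c18 LD3_c37) Lrfl Lrfl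
theorem f222885 : Led Lsl_ft (LP (LK LD1_c8 LD2_c18 LD3_c37)) = (LP (LK LD1_c10 LD2_c24 LD3_c0)) :=
  Lgr Lrot4 (Lpe (f222884 IH) (Lpr_ff (K12.f222881 IH) (Lpe (K30.f53748 IH) (Lpn (LP (LK LD1_c10 LD2_c24 LD3_c0))))))
theorem f222223 : Led Lsl_gt (LP (LK LD1_c8 LD2_c18 LD3_c37)) = (LP (LK LD1_c15 LD2_c37 LD3_c48)) :=
  Lre_g IH (LK LD1_c8 LD2_c18 LD3_c37) (LK LD1_c15 LD2_c37 LD3_c48) Lrfl Lrfl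
theorem f418818 : Led Lsl_gt (LP (LK LD1_c15 LD2_c37 LD3_c48)) = (LP (LK LD1_c18 LD2_c52 LD3_c17)) :=
  Lgr Lrot46 (Lpe (f222223 IH) (Lpr_ft (f222885 IH) (Lpr_at (K30.f53744 IH) (Lpn (LP (LK LD1_c18 LD2_c52 LD3_c17))))))
theorem f222222 : Led Lsl_bt (LP (LK LD1_c4 LD2_c9 LD3_c18)) = (LP (LK LD1_c8 LD2_c18 LD3_c37)) :=
  Lre_b IH (LK LD1_c4 LD2_c9 LD3_c18) (LK LD1_c8 LD2_c18 LD3_c37) Lrfl Lrfl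
theorem f882 : Led Lsl_bt (LP (LK LD1_c4 LD2_c8 LD3_c24)) = (LP (LK LD1_c2 LD2_c1 LD3_c34)) :=
  Lre_b IH (LK LD1_c4 LD2_c8 LD3_c24) (LK LD1_c2 LD2_c1 LD3_c34) Lrfl Lrfl
theorem f52158 : Led Lsl_bf (LP (LK LD1_c2 LD2_c3 LD3_c7)) = (LP (LK LD1_c2 LD2_c6 LD3_c32)) :=
  Lgr Lrot61 (Lpr_ft (K50.f1144 IH) (Lpr_bt (K50.f52152 IH) (Lpe (K54.f51805 IH) (Lpn (LP (LK LD1_c2 LD2_c6 LD3_c32))))))
theorem f1141 : Led Lsl_ct (LP (LK LD1_c2 LD2_c3 LD3_c7)) = (LP (LK LD1_c4 LD2_c9 LD3_c49)) :=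
  Lre_c IH (LK LD1_c2 LD2_c3 LD3_c7) (LK LD1_c4 LD2_c9 LD3_c49) Lrfl Lrfl
theorem f1146 : Led Lsl_bt (LP (LK LD1_c4 LD2_c9 LD3_c49)) = (LP (LK LD1_c8 LD2_c16 LD3_c56)) :=
  Lre_b IH (LK LD1_c4 LD2_c9 LD3_c49) (LK LD1_c8 LD2_c16 LD3_c56) Lrfl Lrfl
theorem f52162 : Led Lsl_ct (LP (LK LD1_c8 LD2_c16 LD3_c56)) = (LP (LK LD1_c8 LD2_c30 LD3_c4)) :=
  Lgr Lrot83 (Lpe (f1146 IH) (Lpe (f1141 IH) (Lpr_bf (f52158 IH) (Lpe (K30.f1142 IH) (Lpe (K30.f1147 IH) (Lpn (LP (LK LD1_c8 LD2_c30 LD3_c4))))))))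
theorem f52166 : Led Lsl_cf (LP (LK LD1_c8 LD2_c16 LD3_c56)) = (LP (LK LD1_c8 LD2_c30 LD3_c4)) :=
  Lgr Lrot11 (Lpr_ct (f52162 IH) (Lpn (LP (LK LD1_c8 LD2_c30 LD3_c4))))
theorem f1165 : Led Lsl_at (LP (LK LD1_c8 LD2_c16 LD3_c56)) = (LP (LK LD1_c4 LD2_c8 LD3_c24)) :=
  Lre_a IH (LK LD1_c8 LD2_c16 LD3_c56) (LK LD1_c4 LD2_c8 LD3_c24) Lrfl Lrfl
theorem f52173 : Led Lsl_ct (LP (LK LD1_c4 LD2_c8 LD3_c24)) = (LP (LK LD1_c4 LD2_c15 LD3_c33)) :=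
  Lgr Lrot111 (Lpe (f1165 IH) (Lpr_cf (f52166 IH) (Lpe (K30.f1166 IH) (Lpn (LP (LK LD1_c4 LD2_c15 LD3_c33))))))
theorem f1186 : Led Lsl_gt (LP (LK LD1_c8 LD2_c30 LD3_c3)) = (LP (LK LD1_c4 LD2_c15 LD3_c33)) :=
  Lre_g IH (LK LD1_c8 LD2_c30 LD3_c3) (LK LD1_c4 LD2_c15 LD3_c33) Lrfl Lrfl
theorem f51880 : Led Lsl_ct (LP (LK LD1_c15 LD2_c57 LD3_c49)) = (LP (LK LD1_c8 LD2_c30 LD3_c3)) :=
  Lre_c IH (LK LD1_c15 LD2_c57 LD3_c49) (LK LD1_c8 LD2_c30 LD3_c3) Lrfl Lrfl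
theorem f251760 : Led Lsl_bf (LP (LK LD1_c15 LD2_c37 LD3_c48)) = (LP (LK LD1_c15 LD2_c57 LD3_c49)) :=
  Lgr Lrot34 (Lpe (f222223 IH) (Lpe (f222222 IH) (Lpr_ct (K15.f167251 IH) (Lpr_gf (K14.f251750 IH) (Lpe (K13.f170336 IH) (Lpe (K13.f1301 IH) (Lpe (f882 IH) (Lpr_ct (f52173 IH) (Lpe (f1186 IH) (Lpe (f51880 IH) (Lpn (LP (LK LD1_c15 LD2_c57 LD3_c49)))))))))))))
theorem f1156 : Led Lsl_at (LP (LK LD1_c8 LD2_c30 LD3_c4)) = (LP (LK LD1_c4 LD2_c15 LD3_c33)) :=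
  Lre_a IH (LK LD1_c8 LD2_c30 LD3_c4) (LK LD1_c4 LD2_c15 LD3_c33) Lrfl Lrfl
theorem f51868 : Led Lsl_gf (LP (LK LD1_c8 LD2_c30 LD3_c3)) = (LP (LK LD1_c15 LD2_c46 LD3_c60)) :=
  Lgr Lrot47 (Lpr_gt (f1186 IH) (Lpe (f1156 IH) (Lpr_ff (K30.f51855 IH) (Lpn (LP (LK LD1_c15 LD2_c46 LD3_c60))))))
theorem f881838 : Led Lsl_cf (LP (LK LD1_c15 LD2_c46 LD3_c60)) = v36032 :=
  Lgr Lrot125 (Lpe (f51868 IH) (Lpe (f51880 IH) (Lpe (f251760 IH) (Lpr_gt (f418818 IH) (Lpe (K30.f222959 IH) (Lpr_ct (K30.f234534 IH) (Lpe (f221964 IH) (Lpr_cf (K50.f223031 IH) (Lpr_bt (K50.f223030 IH) (Lpr_gt (f881833 IH) (Lpn v36032)))))))))))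
theorem f51871 : Led Lsl_at (LP (LK LD1_c15 LD2_c57 LD3_c47)) = (LP (LK LD1_c8 LD2_c30 LD3_c3)) :=
  Lre_a IH (LK LD1_c15 LD2_c57 LD3_c47) (LK LD1_c8 LD2_c30 LD3_c3) Lrfl Lrfl
theorem f51872 : Led Lsl_ft (LP (LK LD1_c8 LD2_c30 LD3_c2)) = (LP (LK LD1_c15 LD2_c57 LD3_c47)) :=
  Lre_f IH (LK LD1_c8 LD2_c30 LD3_c2) (LK LD1_c15 LD2_c57 LD3_c47) Lrfl Lrfl
theorem f51873 : Led Lsl_gt (LP (LK LD1_c8 LD2_c30 LD3_c2)) = (LP (LK LD1_c15 LD2_c46 LD3_c60)) :=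
  Lgr Lrot5 (Lpr_ft (f51872 IH) (Lpr_at (f51871 IH) (Lpr_gf (f51868 IH) (Lpn (LP (LK LD1_c15 LD2_c46 LD3_c60))))))
theorem f51886 : Led Lsl_ct (LP (LK LD1_c15 LD2_c57 LD3_c44)) = (LP (LK LD1_c8 LD2_c30 LD3_c2)) :=
  Lre_c IH (LK LD1_c15 LD2_c57 LD3_c44) (LK LD1_c8 LD2_c30 LD3_c2) Lrfl Lrfl
theorem f881849 : Led Lsl_gt (LP (LK LD1_c15 LD2_c37 LD3_c57)) = (LP (LK LD1_c15 LD2_c57 LD3_c44)) :=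
  Lgr Lrot82 (Lpe (f170571 IH) (Lpr_ct (K50.f170557 IH) (Lpe (K49.f397181 IH) (Lpe (K50.f397187 IH) (Lpr_bt (f397188 IH) (Lpe (K49.f52161 IH) (Lpr_bf (f881842 IH) (Lpe (f881838 IH) (Lpe (f51873 IH) (Lpe (f51886 IH) (Lpn (LP (LK LD1_c15 LD2_c57 LD3_c44)))))))))))))
theorem f881850 : Led Lsl_gt (LP (LK LD1_c15 LD2_c37 LD3_c57)) = (LP (LK LD1_c15 LD2_c57 LD3_c44)) :=
  Leop (Lpe (f881849 IH) (Lpn (LP (LK LD1_c15 LD2_c37 LD3_c57))))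
theorem seed_2072 : LEOK LG_g (LK LD1_c15 LD2_c37 LD3_c57) :=
  Leoe_g (LK LD1_c15 LD2_c37 LD3_c57) (f881850 IH)
theorem f260569 : Led Lsl_bt (LP (LK LD1_c8 LD2_c31 LD3_c13)) = (LP (LK LD1_c15 LD2_c59 LD3_c43)) :=
  Lre_b IH (LK LD1_c8 LD2_c31 LD3_c13) (LK LD1_c15 LD2_c59 LD3_c43) Lrfl Lrfl
theorem f692619 : Led Lsl_gf (LP (LK LD1_c15 LD2_c34 LD3_c24)) = (LP (LK LD1_c15 LD2_c59 LD3_c43)) :=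
  Lgr Lrot124 (Lpe (K50.f223037 IH) (Lpe (K50.f223058 IH) (Lpr_gt (K50.f692615 IH) (Lpe (K20.f250530 IH) (Lpr_bt (K31.f250555 IH) (Lpr_gt (K38.f398263 IH) (Lpr_ct (K31.f52104 IH) (Lpe (K38.f397814 IH) (Lpe (K30.f260567 IH) (Lpr_bt (f260569 IH) (Lpn (LP (LK LD1_c15 LD2_c59 LD3_c43)))))))))))))
theorem f52103 : Led Lsl_bt (LP (LK LD1_c8 LD2_c32 LD3_c13)) = (LP (LK LD1_c4 LD2_c16 LD3_c30)) :=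
  Lre_b IH (LK LD1_c8 LD2_c32 LD3_c13) (LK LD1_c4 LD2_c16 LD3_c30) Lrfl Lrfl
theorem f51892 : Led Lsl_bt (LP (LK LD1_c15 LD2_c46 LD3_c60)) = (LP (LK LD1_c8 LD2_c23 LD3_c33)) :=
  Lre_b IH (LK LD1_c15 LD2_c46 LD3_c60) (LK LD1_c8 LD2_c23 LD3_c33) Lrfl Lrfl
theorem f881839 : Led Lsl_ct (LP (LK LD1_c15 LD2_c46 LD3_c60)) = v36032 :=
  Lgr Lrot63 (Lpr_bt (f51892 IH) (Lpe (K54.f52098 IH) (Lpe (f52103 IH) (Lpr_ct (K31.f52104 IH) (Lpe (K38.f397814 IH) (Lpe (K30.f260567 IH) (Lpr_bt (f260569 IH) (Lpe (f692619 IH) (Lpr_ct (K50.f52198 IH) (Lpr_gt (f881833 IH) (Lpn v36032)))))))))))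
theorem f51875 : Led Lsl_dt (LP (LK LD1_c8 LD2_c30 LD3_c3)) = (LP (LK LD1_c15 LD2_c57 LD3_c50)) :=
  Lre_d IH (LK LD1_c8 LD2_c30 LD3_c3) (LK LD1_c15 LD2_c57 LD3_c50) Lrfl Lrfl
theorem f423934 : Led Lsl_at (LP (LK LD1_c25 LD2_c54 LD3_c19)) = (LP (LK LD1_c15 LD2_c57 LD3_c45)) :=
  Lre_a IH (LK LD1_c25 LD2_c54 LD3_c19) (LK LD1_c15 LD2_c57 LD3_c45) Lrfl Lrfl
theorem f423935 : Led Lsl_ft (LP (LK LD1_c15 LD2_c57 LD3_c50)) = (LP (LK LD1_c25 LD2_c54 LD3_c19)) :=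
  Lre_f IH (LK LD1_c15 LD2_c57 LD3_c50) (LK LD1_c25 LD2_c54 LD3_c19) Lrfl Lrfl
theorem f550667 : Led Lsl_gf (LP (LK LD1_c15 LD2_c58 LD3_c5)) = (LP (LK LD1_c15 LD2_c57 LD3_c50)) :=
  Lgr Lrot47 (Lpr_gt (K38.f550663 IH) (Lpe (f423934 IH) (Lpe (f423935 IH) (Lpn (LP (LK LD1_c15 LD2_c57 LD3_c50))))))
theorem f262000 : Led Lsl_dt (LP (LK LD1_c15 LD2_c35 LD3_c8)) = (LP (LK LD1_c8 LD2_c17 LD3_c17)) :=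
  Lre_d IH (LK LD1_c15 LD2_c35 LD3_c8) (LK LD1_c8 LD2_c17 LD3_c17) Lrfl Lrfl
theorem f881835 : Led Lsl_ft (LP (LK LD1_c8 LD2_c16 LD3_c54)) = (LP (LK LD1_c15 LD2_c34 LD3_c27)) :=
  Lre_f IH (LK LD1_c8 LD2_c16 LD3_c54) (LK LD1_c15 LD2_c34 LD3_c27) Lrfl Lrfl
theorem f881836 : Led Lsl_at (LP (LK LD1_c15 LD2_c34 LD3_c27)) = (LP (LK LD1_c8 LD2_c16 LD3_c55)) :=
  Lre_a IH (LK LD1_c15 LD2_c34 LD3_c27) (LK LD1_c8 LD2_c16 LD3_c55) Lrfl Lrfl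
theorem f881837 : Led Lsl_gf (LP (LK LD1_c8 LD2_c16 LD3_c55)) = v36032 :=
  Lgr Lrot76 (Lpe (f881836 IH) (Lpe (f881835 IH) (Lpr_gt (f881833 IH) (Lpn v36032))))
theorem f52183 : Led Lsl_dt (LP (LK LD1_c8 LD2_c16 LD3_c55)) = (LP (LK LD1_c15 LD2_c34 LD3_c30)) :=
  Lre_d IH (LK LD1_c8 LD2_c16 LD3_c55) (LK LD1_c15 LD2_c34 LD3_c30) Lrfl Lrfl
theorem f881860 : Led Lsl_gf (LP (LK LD1_c15 LD2_c35 LD3_c8)) = (LP (LK LD1_c15 LD2_c34 LD3_c30)) :=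
  Lgr Lrot154 (Lpr_dt (f262000 IH) (Lpe (K52.f400666 IH) (Lpe (K38.f295610 IH) (Lpr_gf (f550667 IH) (Lpe (f51875 IH) (Lpr_gf (f51868 IH) (Lpr_ct (f881839 IH) (Lpe (f881837 IH) (Lpr_dt (f52183 IH) (Lpn (LP (LK LD1_c15 LD2_c34 LD3_c30))))))))))))
theorem f881861 : Led Lsl_gt (LP (LK LD1_c15 LD2_c34 LD3_c30)) = (LP (LK LD1_c15 LD2_c35 LD3_c8)) :=
  Leop (Lpr_gf (f881860 IH) (Lpn (LP (LK LD1_c15 LD2_c34 LD3_c30))))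
theorem seed_2073 : LEOK LG_g (LK LD1_c15 LD2_c34 LD3_c30) :=
  Leoe_g (LK LD1_c15 LD2_c34 LD3_c30) (f881861 IH)
theorem f1193 : Led Lsl_gt (LP (LK LD1_c15 LD2_c57 LD3_c45)) = (LP (LK LD1_c25 LD2_c54 LD3_c25)) :=
  Lre_g IH (LK LD1_c15 LD2_c57 LD3_c45) (LK LD1_c25 LD2_c54 LD3_c25) Lrfl Lrfl
theorem f51887 : Led Lsl_ct (LP (LK LD1_c25 LD2_c54 LD3_c25)) = (LP (LK LD1_c32 LD2_c1 LD3_c32)) :=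
  Lre_c IH (LK LD1_c25 LD2_c54 LD3_c25) (LK LD1_c32 LD2_c1 LD3_c32) Lrfl Lrfl
theorem f374038 : Led Lsl_ct (LP (LK LD1_c8 LD2_c16 LD3_c55)) = (LP (LK LD1_c15 LD2_c34 LD3_c29)) :=
  Lre_c IH (LK LD1_c8 LD2_c16 LD3_c55) (LK LD1_c15 LD2_c34 LD3_c29) Lrfl Lrfl
theorem f374040 : Led Lsl_dt (LP (LK LD1_c25 LD2_c28 LD3_c25)) = (LP (LK LD1_c15 LD2_c34 LD3_c29)) :=
  Lre_d IH (LK LD1_c25 LD2_c28 LD3_c25) (LK LD1_c15 LD2_c34 LD3_c29) Lrfl Lrfl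
theorem f374059 : Led Lsl_ct (LP (LK LD1_c31 LD2_c54 LD3_c21)) = (LP (LK LD1_c25 LD2_c28 LD3_c25)) :=
  Lre_c IH (LK LD1_c31 LD2_c54 LD3_c21) (LK LD1_c25 LD2_c28 LD3_c25) Lrfl Lrfl
theorem f881862 : Led Lsl_gt (LP (LK LD1_c32 LD2_c1 LD3_c32)) = (LP (LK LD1_c31 LD2_c54 LD3_c21)) :=
  Lgr Lrot150 (Lpe (f51887 IH) (Lpe (f1193 IH) (Lpe (K36.f1192 IH) (Lpr_gt (f51873 IH) (Lpr_ct (f881839 IH) (Lpe (f881837 IH) (Lpr_ct (f374038 IH) (Lpe (f374040 IH) (Lpe (f374059 IH) (Lpn (LP (LK LD1_c31 LD2_c54 LD3_c21))))))))))))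
theorem f881863 : Led Lsl_gt (LP (LK LD1_c32 LD2_c1 LD3_c32)) = (LP (LK LD1_c31 LD2_c54 LD3_c21)) :=
  Leop (Lpe (f881862 IH) (Lpn (LP (LK LD1_c32 LD2_c1 LD3_c32))))
theorem seed_2074 : LEOK LG_g (LK LD1_c32 LD2_c1 LD3_c32) :=
  Leoe_g (LK LD1_c32 LD2_c1 LD3_c32) (f881863 IH)
def v36037 : LQ := Led Lsl_dt (LP (LK LD1_c8 LD2_c17 LD3_c0))
theorem f881906 : Led Lsl_dt (LP (LK LD1_c8 LD2_c17 LD3_c0)) = v36037 :=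
  Lrfl
theorem f344330 : Led Lsl_cf (LP (LK LD1_c9 LD2_c38 LD3_c36)) = (LP (LK LD1_c8 LD2_c32 LD3_c31)) :=
  Lgr Lrot11 (Lpr_ct (K23.f344326 IH) (Lpn (LP (LK LD1_c8 LD2_c32 LD3_c31))))
theorem f312059 : Led Lsl_dt (LP (LK LD1_c15 LD2_c59 LD3_c37)) = (LP (LK LD1_c8 LD2_c31 LD3_c10)) :=
  Lre_d IH (LK LD1_c15 LD2_c59 LD3_c37) (LK LD1_c8 LD2_c31 LD3_c10) Lrfl Lrfl
theorem f374159 : Led Lsl_ct (LP (LK LD1_c25 LD2_c56 LD3_c56)) = (LP (LK LD1_c15 LD2_c59 LD3_c37)) :=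
  Lre_c IH (LK LD1_c25 LD2_c56 LD3_c56) (LK LD1_c15 LD2_c59 LD3_c37) Lrfl Lrfl
theorem f353228 : Led Lsl_cf (LP (LK LD1_c10 LD2_c45 LD3_c54)) = (LP (LK LD1_c8 LD2_c32 LD3_c30)) :=
  Lgr Lrot11 (Lpr_ct (K25.f353225 IH) (Lpn (LP (LK LD1_c8 LD2_c32 LD3_c30))))
theorem f301111 : Led Lsl_ct (LP (LK LD1_c21 LD2_c0 LD3_c24)) = (LP (LK LD1_c18 LD2_c52 LD3_c37)) :=
  Lgr Lrot7 (Lpr_df (K23.f300971 IH) (Lpe (K23.f300958 IH) (Lpe (K23.f266350 IH) (Lpe (K23.f300941 IH) (Lpr_cf (K21.f273865 IH) (Lpr_gt (K16.f190833 IH) (Lpr_dt (K23.f229586 IH) (Lpr_gt (K23.f229602 IH) (Lpr_dt (K23.f301108 IH) (Lpn (LP (LK LD1_c18 LD2_c52 LD3_c37))))))))))))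
theorem f243368 : Led Lsl_gt (LP (LK LD1_c8 LD2_c30 LD3_c13)) = (LP (LK LD1_c15 LD2_c58 LD3_c7)) :=
  Lre_g IH (LK LD1_c8 LD2_c30 LD3_c13) (LK LD1_c15 LD2_c58 LD3_c7) Lrfl Lrfl
theorem f360752 : Led Lsl_cf (LP (LK LD1_c15 LD2_c36 LD3_c50)) = (LP (LK LD1_c15 LD2_c58 LD3_c7)) :=
  Lgr Lrot175 (Lpr_dt (K23.f301108 IH) (Lpe (f301111 IH) (Lpe (K26.f340858 IH) (Lpe (K26.f330160 IH) (Lpr_gf (K26.f330156 IH) (Lpr_dt (K26.f360748 IH) (Lpr_gt (K26.f243369 IH) (Lpr_ct (K27.f243360 IH) (Lpr_gt (f243368 IH) (Lpn (LP (LK LD1_c15 LD2_c58 LD3_c7))))))))))))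
theorem f360815 : Led Lsl_et (LP (LK LD1_c25 LD2_c54 LD3_c60)) = (LP (LK LD1_c15 LD2_c58 LD3_c7)) :=
  Lre_e IH (LK LD1_c25 LD2_c54 LD3_c60) (LK LD1_c15 LD2_c58 LD3_c7) Lrfl Lrfl
theorem f360816 : Led Lsl_ct (LP (LK LD1_c17 LD2_c44 LD3_c54)) = (LP (LK LD1_c25 LD2_c54 LD3_c60)) :=
  Lgr Lrot15 (Lpe (K23.f343754 IH) (Lpr_cf (f360752 IH) (Lpe (f360815 IH) (Lpn (LP (LK LD1_c25 LD2_c54 LD3_c60))))))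
theorem f1310 : Led Lsl_et (LP (LK LD1_c4 LD2_c16 LD3_c38)) = (LP (LK LD1_c2 LD2_c5 LD3_c35)) :=
  Lre_e IH (LK LD1_c4 LD2_c16 LD3_c38) (LK LD1_c2 LD2_c5 LD3_c35) Lrfl Lrfl
theorem f1240 : Led Lsl_dt (LP (LK LD1_c4 LD2_c16 LD3_c38)) = (LP (LK LD1_c8 LD2_c32 LD3_c32)) :=
  Lre_d IH (LK LD1_c4 LD2_c16 LD3_c38) (LK LD1_c8 LD2_c32 LD3_c32) Lrfl Lrfl
theorem f48953 : Led Lsl_gt (LP (LK LD1_c16 LD2_c2 LD3_c24)) = (LP (LK LD1_c8 LD2_c32 LD3_c32)) :=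
  Lre_g IH (LK LD1_c16 LD2_c2 LD3_c24) (LK LD1_c8 LD2_c32 LD3_c32) Lrfl Lrfl
theorem f413067 : Led Lsl_df (LP (LK LD1_c16 LD2_c2 LD3_c24)) = (LP (LK LD1_c25 LD2_c54 LD3_c60)) :=
  Lgr Lrot170 (Lpr_gt (f48953 IH) (Lpe (f1240 IH) (Lpr_et (f1310 IH) (Lpr_gt (K16.f49071 IH) (Lpr_dt (K16.f49072 IH) (Lpr_gt (K16.f263152 IH) (Lpe (K16.f243373 IH) (Lpr_et (K18.f243363 IH) (Lpr_gt (f243368 IH) (Lpe (f360815 IH) (Lpn (LP (LK LD1_c25 LD2_c54 LD3_c60)))))))))))))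
theorem f413070 : Led Lsl_dt (LP (LK LD1_c16 LD2_c2 LD3_c24)) = (LP (LK LD1_c25 LD2_c54 LD3_c60)) :=
  Lgr Lrot42 (Lpr_df (f413067 IH) (Lpn (LP (LK LD1_c25 LD2_c54 LD3_c60))))
theorem f881909 : Led Lsl_gf (LP (LK LD1_c16 LD2_c2 LD3_c24)) = v36037 :=
  Lgr Lrot143 (Lpr_dt (f413070 IH) (Lpe (f360816 IH) (Lpe (K25.f343763 IH) (Lpe (K23.f343766 IH) (Lpe (K23.f212836 IH) (Lpe (K25.f353190 IH) (Lpr_cf (f353228 IH) (Lpe (K20.f1293 IH) (Lpr_dt (f881906 IH) (Lpn v36037))))))))))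
theorem f413069 : Led Lsl_ct (LP (LK LD1_c16 LD2_c2 LD3_c24)) = (LP (LK LD1_c26 LD2_c0 LD3_c6)) :=
  Lre_c IH (LK LD1_c16 LD2_c2 LD3_c24) (LK LD1_c26 LD2_c0 LD3_c6) Lrfl Lrfl
theorem f881910 : Led Lsl_gf (LP (LK LD1_c25 LD2_c56 LD3_c56)) = (LP (LK LD1_c26 LD2_c0 LD3_c6)) :=
  Lgr Lrot172 (Lpr_ct (f374159 IH) (Lpr_dt (f312059 IH) (Lpr_cf (K50.f374006 IH) (Lpr_gf (K23.f343764 IH) (Lpr_cf (f344330 IH) (Lpe (K23.f852 IH) (Lpr_dt (f881906 IH) (Lpe (f881909 IH) (Lpr_ct (f413069 IH) (Lpn (LP (LK LD1_c26 LD2_c0 LD3_c6))))))))))))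
theorem f881911 : Led Lsl_gt (LP (LK LD1_c26 LD2_c0 LD3_c6)) = (LP (LK LD1_c25 LD2_c56 LD3_c56)) :=
  Leop (Lpr_gf (f881910 IH) (Lpn (LP (LK LD1_c26 LD2_c0 LD3_c6))))
theorem seed_2075 : LEOK LG_g (LK LD1_c26 LD2_c0 LD3_c6) :=
  Leoe_g (LK LD1_c26 LD2_c0 LD3_c6) (f881911 IH)
def v36090 : LQ := Led Lsl_et (LP (LK LD1_c8 LD2_c19 LD3_c40))
theorem f882146 : Led Lsl_et (LP (LK LD1_c8 LD2_c19 LD3_c40)) = v36090 :=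
  Lrfl
theorem f1075 : Led Lsl_at (LP (LK LD1_c4 LD2_c9 LD3_c49)) = (LP (LK LD1_c2 LD2_c2 LD3_c8)) :=
  Lre_a IH (LK LD1_c4 LD2_c9 LD3_c49) (LK LD1_c2 LD2_c2 LD3_c8) Lrfl Lrfl
theorem f1077 : Led Lsl_ef (LP (LK LD1_c4 LD2_c9 LD3_c49)) = (LP (LK LD1_c4 LD2_c16 LD3_c31)) :=
  Lgr Lrot20 (Lpr_at (f1075 IH) (Lpr_et (K30.f1061 IH) (Lpr_at (K30.f1076 IH) (Lpn (LP (LK LD1_c4 LD2_c16 LD3_c31))))))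
theorem f52090 : Led Lsl_et (LP (LK LD1_c15 LD2_c47 LD3_c0)) = (LP (LK LD1_c8 LD2_c23 LD3_c33)) :=
  Lre_e IH (LK LD1_c15 LD2_c47 LD3_c0) (LK LD1_c8 LD2_c23 LD3_c33) Lrfl Lrfl
theorem f882150 : Led Lsl_ff (LP (LK LD1_c15 LD2_c47 LD3_c0)) = v36090 :=
  Lgr Lrot72 (Lpr_et (f52090 IH) (Lpe (K54.f51704 IH) (Lpe (f1077 IH) (Lpr_ft (K50.f1153 IH) (Lpr_et (f882146 IH) (Lpn v36090))))))
theorem f882153 : Led Lsl_ft (LP (LK LD1_c15 LD2_c47 LD3_c0)) = v36090 :=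
  Lgr Lrot48 (Lpr_ff (f882150 IH) (Lpn v36090))
theorem f51810 : Led Lsl_at (LP (LK LD1_c4 LD2_c9 LD3_c51)) = (LP (LK LD1_c8 LD2_c19 LD3_c40)) :=
  Lre_a IH (LK LD1_c4 LD2_c9 LD3_c51) (LK LD1_c8 LD2_c19 LD3_c40) Lrfl Lrfl
theorem f1091 : Led Lsl_et (LP (LK LD1_c8 LD2_c19 LD3_c53)) = (LP (LK LD1_c4 LD2_c9 LD3_c51)) :=
  Lre_e IH (LK LD1_c8 LD2_c19 LD3_c53) (LK LD1_c4 LD2_c9 LD3_c51) Lrfl Lrfl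
theorem f882147 : Led Lsl_af (LP (LK LD1_c8 LD2_c19 LD3_c53)) = v36090 :=
  Lgr Lrot50 (Lpr_et (f1091 IH) (Lpr_at (f51810 IH) (Lpr_et (f882146 IH) (Lpn v36090))))
theorem f51768 : Led Lsl_gt (LP (LK LD1_c15 LD2_c40 LD3_c42)) = (LP (LK LD1_c8 LD2_c19 LD3_c53)) :=
  Lre_g IH (LK LD1_c15 LD2_c40 LD3_c42) (LK LD1_c8 LD2_c19 LD3_c53) Lrfl Lrfl
theorem f882155 : Led Lsl_gt (LP (LK LD1_c15 LD2_c47 LD3_c0)) = (LP (LK LD1_c15 LD2_c40 LD3_c42)) :=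
  Lgr Lrot5 (Lpr_ft (f882153 IH) (Lpe (f882147 IH) (Lpe (f51768 IH) (Lpn (LP (LK LD1_c15 LD2_c40 LD3_c42))))))
theorem f882156 : Led Lsl_gt (LP (LK LD1_c15 LD2_c47 LD3_c0)) = (LP (LK LD1_c15 LD2_c40 LD3_c42)) :=
  Leop (Lpe (f882155 IH) (Lpn (LP (LK LD1_c15 LD2_c47 LD3_c0))))
theorem seed_2076 : LEOK LG_g (LK LD1_c15 LD2_c47 LD3_c0) :=
  Leoe_g (LK LD1_c15 LD2_c47 LD3_c0) (f882156 IH)
def v36094 : LQ := Led Lsl_ft (LP (LK LD1_c8 LD2_c19 LD3_c43))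
theorem f882183 : Led Lsl_ft (LP (LK LD1_c8 LD2_c19 LD3_c43)) = v36094 :=
  Lrfl
theorem f882184 : Led Lsl_af (LP (LK LD1_c8 LD2_c19 LD3_c46)) = v36094 :=
  Lgr Lrot45 (Lpr_ft (K52.f417204 IH) (Lpr_at (K52.f417205 IH) (Lpr_ft (f882183 IH) (Lpn v36094))))
theorem f882188 : Led Lsl_gt (LP (LK LD1_c15 LD2_c40 LD3_c17)) = (LP (LK LD1_c8 LD2_c19 LD3_c46)) :=
  Lgr Lrot46 (Lpe (K52.f1067 IH) (Lpr_ft (f882183 IH) (Lpe (f882184 IH) (Lpn (LP (LK LD1_c8 LD2_c19 LD3_c46))))))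
theorem f882189 : Led Lsl_gt (LP (LK LD1_c15 LD2_c40 LD3_c17)) = (LP (LK LD1_c8 LD2_c19 LD3_c46)) :=
  Leop (Lpe (f882188 IH) (Lpn (LP (LK LD1_c15 LD2_c40 LD3_c17))))
theorem seed_2077 : LEOK LG_g (LK LD1_c15 LD2_c40 LD3_c17) :=
  Leoe_g (LK LD1_c15 LD2_c40 LD3_c17) (f882189 IH)
def v36099 : LQ := Led Lsl_gf (LP (LK LD1_c8 LD2_c19 LD3_c47))
theorem f882215 : Led Lsl_gf (LP (LK LD1_c8 LD2_c19 LD3_c47)) = v36099 :=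
  Lrfl
theorem f51739 : Led Lsl_ct (LP (LK LD1_c8 LD2_c19 LD3_c47)) = (LP (LK LD1_c15 LD2_c40 LD3_c29)) :=
  Lre_c IH (LK LD1_c8 LD2_c19 LD3_c47) (LK LD1_c15 LD2_c40 LD3_c29) Lrfl Lrfl
theorem f51738 : Led Lsl_gt (LP (LK LD1_c15 LD2_c40 LD3_c29)) = (LP (LK LD1_c25 LD2_c36 LD3_c2)) :=
  Lre_g IH (LK LD1_c15 LD2_c40 LD3_c29) (LK LD1_c25 LD2_c36 LD3_c2) Lrfl Lrfl
theorem f1132 : Led Lsl_dt (LP (LK LD1_c4 LD2_c11 LD3_c57)) = (LP (LK LD1_c2 LD2_c3 LD3_c7)) :=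
  Lre_d IH (LK LD1_c4 LD2_c11 LD3_c57) (LK LD1_c2 LD2_c3 LD3_c7) Lrfl Lrfl
theorem f1211 : Led Lsl_et (LP (LK LD1_c4 LD2_c12 LD3_c0)) = (LP (LK LD1_c2 LD2_c3 LD3_c9)) :=
  Lre_e IH (LK LD1_c4 LD2_c12 LD3_c0) (LK LD1_c2 LD2_c3 LD3_c9) Lrfl Lrfl
theorem f1055 : Led Lsl_et (LP (LK LD1_c0 LD2_c58 LD3_c27)) = (LP (LK LD1_c1 LD2_c0 LD3_c14)) :=
  Lgr Lrot158 (Lpe (K31.f1053 IH) (Lpr_ef (K30.f1030 IH) (Lpe (K30.f1054 IH) (Lpn (LP (LK LD1_c1 LD2_c0 LD3_c14))))))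
theorem f1110 : Led Lsl_et (LP (LK LD1_c2 LD2_c3 LD3_c8)) = (LP (LK LD1_c4 LD2_c11 LD3_c61)) :=
  Lre_e IH (LK LD1_c2 LD2_c3 LD3_c8) (LK LD1_c4 LD2_c11 LD3_c61) Lrfl Lrfl
theorem f51666 : Led Lsl_ft (LP (LK LD1_c1 LD2_c0 LD3_c14)) = (LP (LK LD1_c2 LD2_c3 LD3_c8)) :=
  Lgr Lrot86 (Lpe (f1055 IH) (Lpe (K30.f1210 IH) (Lpe (f1211 IH) (Lpr_ff (K30.f51651 IH) (Lpe (f1110 IH) (Lpn (LP (LK LD1_c2 LD2_c3 LD3_c8))))))))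
theorem f52055 : Led Lsl_at (LP (LK LD1_c2 LD2_c3 LD3_c8)) = (LP (LK LD1_c4 LD2_c11 LD3_c57)) :=
  Lre_a IH (LK LD1_c2 LD2_c3 LD3_c8) (LK LD1_c4 LD2_c11 LD3_c57) Lrfl Lrfl
theorem f52124 : Led Lsl_gt (LP (LK LD1_c2 LD2_c6 LD3_c30)) = (LP (LK LD1_c4 LD2_c11 LD3_c57)) :=
  Lgr Lrot46 (Lpe (K30.f1216 IH) (Lpr_ft (f51666 IH) (Lpr_at (f52055 IH) (Lpn (LP (LK LD1_c4 LD2_c11 LD3_c57))))))
theorem f167752 : Led Lsl_gt (LP (LK LD1_c8 LD2_c33 LD3_c22)) = (LP (LK LD1_c16 LD2_c3 LD3_c40)) :=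
  Lre_g IH (LK LD1_c8 LD2_c33 LD3_c22) (LK LD1_c16 LD2_c3 LD3_c40) Lrfl Lrfl
theorem f882218 : Led Lsl_dt (LP (LK LD1_c16 LD2_c3 LD3_c40)) = v36099 :=
  Lgr Lrot57 (Lpe (f167752 IH) (Lpe (K49.f237804 IH) (Lpe (K54.f400265 IH) (Lpr_dt (K54.f51756 IH) (Lpr_gt (f52124 IH) (Lpr_dt (f1132 IH) (Lpe (K30.f1130 IH) (Lpe (K30.f1220 IH) (Lpr_gf (f882215 IH) (Lpn v36099))))))))))
def v36041 : LQ := Led Lsl_at (LP (LK LD1_c8 LD2_c17 LD3_c23))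
theorem f881926 : Led Lsl_at (LP (LK LD1_c8 LD2_c17 LD3_c23)) = v36041 :=
  Lrfl
theorem f881931 : Led Lsl_gt (LP (LK LD1_c16 LD2_c3 LD3_c40)) = v36041 :=
  Lgr Lrot46 (Lpe (f167752 IH) (Lpr_ft (K49.f260702 IH) (Lpr_at (f881926 IH) (Lpn v36041))))
theorem f881928 : Led Lsl_cf (LP (LK LD1_c8 LD2_c21 LD3_c2)) = v36041 :=
  Lgr Lrot1 (Lpr_at (K49.f220330 IH) (Lpe (K15.f220325 IH) (Lpr_at (f881926 IH) (Lpn v36041))))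
theorem f550395 : Led Lsl_gf (LP (LK LD1_c4 LD2_c18 LD3_c29)) = (LP (LK LD1_c8 LD2_c21 LD3_c2)) :=
  Lgr Lrot47 (Lpr_gt (K54.f550393 IH) (Lpe (K52.f260712 IH) (Lpr_ff (K52.f260713 IH) (Lpn (LP (LK LD1_c8 LD2_c21 LD3_c2))))))
theorem f52059 : Led Lsl_ct (LP (LK LD1_c4 LD2_c18 LD3_c29)) = (LP (LK LD1_c8 LD2_c35 LD3_c47)) :=
  Lre_c IH (LK LD1_c4 LD2_c18 LD3_c29) (LK LD1_c8 LD2_c35 LD3_c47) Lrfl Lrfl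
theorem f52060 : Led Lsl_dt (LP (LK LD1_c16 LD2_c7 LD3_c6)) = (LP (LK LD1_c8 LD2_c35 LD3_c47)) :=
  Lre_d IH (LK LD1_c16 LD2_c7 LD3_c6) (LK LD1_c8 LD2_c35 LD3_c47) Lrfl Lrfl
theorem f882219 : Led Lsl_ct (LP (LK LD1_c25 LD2_c36 LD3_c2)) = (LP (LK LD1_c16 LD2_c7 LD3_c6)) :=
  Lgr Lrot110 (Lpe (f51738 IH) (Lpe (f51739 IH) (Lpr_gf (f882215 IH) (Lpe (f882218 IH) (Lpr_gt (f881931 IH) (Lpe (f881928 IH) (Lpe (f550395 IH) (Lpr_ct (f52059 IH) (Lpe (f52060 IH) (Lpn (LP (LK LD1_c16 LD2_c7 LD3_c6))))))))))))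
theorem f882220 : Led Lsl_ct (LP (LK LD1_c25 LD2_c36 LD3_c2)) = (LP (LK LD1_c16 LD2_c7 LD3_c6)) :=
  Leop (Lpe (f882219 IH) (Lpn (LP (LK LD1_c25 LD2_c36 LD3_c2))))
theorem seed_2078 : LEOK LG_c (LK LD1_c25 LD2_c36 LD3_c2) :=
  Leoe_c (LK LD1_c25 LD2_c36 LD3_c2) (f882220 IH)
theorem f1223 : Led Lsl_gt (LP (LK LD1_c8 LD2_c19 LD3_c47)) = (LP (LK LD1_c15 LD2_c40 LD3_c28)) :=
  Lre_g IH (LK LD1_c8 LD2_c19 LD3_c47) (LK LD1_c15 LD2_c40 LD3_c28) Lrfl Lrfl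
theorem f551102 : Led Lsl_af (LP (LK LD1_c8 LD2_c32 LD3_c1)) = (LP (LK LD1_c15 LD2_c57 LD3_c30)) :=
  Lgr Lrot0 (Lpr_at (K50.f551079 IH) (Lpn (LP (LK LD1_c15 LD2_c57 LD3_c30))))
theorem f551132 : Led Lsl_ft (LP (LK LD1_c8 LD2_c32 LD3_c2)) = (LP (LK LD1_c15 LD2_c57 LD3_c30)) :=
  Lgr Lrot101 (Lpr_af (K50.f551124 IH) (Lpe (K50.f551116 IH) (Lpr_af (f551102 IH) (Lpn (LP (LK LD1_c15 LD2_c57 LD3_c30))))))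
theorem f170135 : Led Lsl_dt (LP (LK LD1_c16 LD2_c1 LD3_c17)) = (LP (LK LD1_c8 LD2_c32 LD3_c2)) :=
  Lre_d IH (LK LD1_c16 LD2_c1 LD3_c17) (LK LD1_c8 LD2_c32 LD3_c2) Lrfl Lrfl
theorem f551134 : Led Lsl_ff (LP (LK LD1_c16 LD2_c1 LD3_c17)) = (LP (LK LD1_c25 LD2_c53 LD3_c58)) :=
  Lgr Lrot19 (Lpr_dt (f170135 IH) (Lpr_ft (f551132 IH) (Lpr_dt (K38.f171141 IH) (Lpn (LP (LK LD1_c25 LD2_c53 LD3_c58))))))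
theorem f551139 : Led Lsl_ft (LP (LK LD1_c16 LD2_c1 LD3_c17)) = (LP (LK LD1_c25 LD2_c53 LD3_c58)) :=
  Lgr Lrot48 (Lpr_ff (f551134 IH) (Lpn (LP (LK LD1_c25 LD2_c53 LD3_c58))))
theorem f551104 : Led Lsl_af (LP (LK LD1_c16 LD2_c1 LD3_c14)) = (LP (LK LD1_c25 LD2_c53 LD3_c58)) :=
  Lgr Lrot117 (Lpr_dt (K31.f232505 IH) (Lpr_at (K50.f551079 IH) (Lpr_dt (K38.f171141 IH) (Lpn (LP (LK LD1_c25 LD2_c53 LD3_c58))))))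
theorem f551114 : Led Lsl_ft (LP (LK LD1_c16 LD2_c1 LD3_c14)) = (LP (LK LD1_c25 LD2_c53 LD3_c55)) :=
  Lgr Lrot54 (Lpe (K31.f170550 IH) (Lpr_ff (K50.f551106 IH) (Lpe (K49.f377802 IH) (Lpn (LP (LK LD1_c25 LD2_c53 LD3_c55))))))
theorem f551141 : Led Lsl_af (LP (LK LD1_c16 LD2_c1 LD3_c17)) = (LP (LK LD1_c25 LD2_c53 LD3_c55)) :=
  Lgr Lrot45 (Lpr_ft (f551139 IH) (Lpe (f551104 IH) (Lpr_ft (f551114 IH) (Lpn (LP (LK LD1_c25 LD2_c53 LD3_c55))))))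
theorem f374791 : Led Lsl_ct (LP (LK LD1_c16 LD2_c1 LD3_c17)) = (LP (LK LD1_c25 LD2_c58 LD3_c44)) :=
  Lre_c IH (LK LD1_c16 LD2_c1 LD3_c17) (LK LD1_c25 LD2_c58 LD3_c44) Lrfl Lrfl
theorem f50432 : Led Lsl_bt (LP (LK LD1_c4 LD2_c9 LD3_c56)) = (LP (LK LD1_c8 LD2_c19 LD3_c52)) :=
  Lre_b IH (LK LD1_c4 LD2_c9 LD3_c56) (LK LD1_c8 LD2_c19 LD3_c52) Lrfl Lrfl
theorem f50434 : Led Lsl_gt (LP (LK LD1_c15 LD2_c40 LD3_c28)) = (LP (LK LD1_c8 LD2_c19 LD3_c52)) :=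
  Lre_g IH (LK LD1_c15 LD2_c40 LD3_c28) (LK LD1_c8 LD2_c19 LD3_c52) Lrfl Lrfl
theorem f50435 : Led Lsl_bt (LP (LK LD1_c25 LD2_c36 LD3_c0)) = (LP (LK LD1_c15 LD2_c40 LD3_c28)) :=
  Lre_b IH (LK LD1_c25 LD2_c36 LD3_c0) (LK LD1_c15 LD2_c40 LD3_c28) Lrfl Lrfl
theorem f400431 : Led Lsl_cf (LP (LK LD1_c25 LD2_c53 LD3_c55)) = (LP (LK LD1_c25 LD2_c36 LD3_c0)) :=
  Lgr Lrot163 (Lpr_gf (K49.f400425 IH) (Lpe (K49.f400340 IH) (Lpe (K38.f222987 IH) (Lpe (K30.f222979 IH) (Lpr_ct (K13.f222980 IH) (Lpe (K13.f49335 IH) (Lpe (K12.f50406 IH) (Lpr_bt (f50432 IH) (Lpe (f50434 IH) (Lpe (f50435 IH) (Lpn (LP (LK LD1_c25 LD2_c36 LD3_c0)))))))))))))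
theorem f551143 : Led Lsl_at (LP (LK LD1_c25 LD2_c58 LD3_c44)) = (LP (LK LD1_c25 LD2_c36 LD3_c0)) :=
  Lgr Lrot107 (Lpe (f374791 IH) (Lpr_af (f551141 IH) (Lpr_cf (f400431 IH) (Lpn (LP (LK LD1_c25 LD2_c36 LD3_c0))))))
theorem f551145 : Led Lsl_af (LP (LK LD1_c25 LD2_c58 LD3_c44)) = (LP (LK LD1_c25 LD2_c36 LD3_c0)) :=
  Lgr Lrot0 (Lpr_at (f551143 IH) (Lpn (LP (LK LD1_c25 LD2_c36 LD3_c0))))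
theorem f263822 : Led Lsl_dt (LP (LK LD1_c17 LD2_c45 LD3_c28)) = (LP (LK LD1_c27 LD2_c31 LD3_c53)) :=
  Lre_d IH (LK LD1_c17 LD2_c45 LD3_c28) (LK LD1_c27 LD2_c31 LD3_c53) Lrfl Lrfl
theorem f398292 : Led Lsl_df (LP (LK LD1_c25 LD2_c29 LD3_c18)) = (LP (LK LD1_c15 LD2_c40 LD3_c34)) :=
  Lgr Lrot12 (Lpr_bt (K49.f220334 IH) (Lpr_dt (K49.f398290 IH) (Lpr_bt (K31.f359067 IH) (Lpn (LP (LK LD1_c15 LD2_c40 LD3_c34))))))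
theorem f551149 : Led Lsl_ft (LP (LK LD1_c15 LD2_c40 LD3_c34)) = (LP (LK LD1_c25 LD2_c36 LD3_c0)) :=
  Lgr Lrot142 (Lpe (f398292 IH) (Lpe (K52.f263813 IH) (Lpr_dt (f263822 IH) (Lpr_ct (K49.f399315 IH) (Lpr_dt (K49.f186969 IH) (Lpr_ct (K30.f170479 IH) (Lpr_dt (K38.f170138 IH) (Lpr_ct (f374791 IH) (Lpr_af (f551145 IH) (Lpn (LP (LK LD1_c25 LD2_c36 LD3_c0))))))))))))
theorem f551155 : Led Lsl_ff (LP (LK LD1_c15 LD2_c40 LD3_c34)) = (LP (LK LD1_c25 LD2_c36 LD3_c0)) :=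
  Lgr Lrot3 (Lpr_ft (f551149 IH) (Lpn (LP (LK LD1_c25 LD2_c36 LD3_c0))))
theorem f400434 : Led Lsl_bt (LP (LK LD1_c15 LD2_c40 LD3_c28)) = (LP (LK LD1_c25 LD2_c36 LD3_c0)) :=
  Lre_b IH (LK LD1_c15 LD2_c40 LD3_c28) (LK LD1_c25 LD2_c36 LD3_c0) Lrfl Lrfl
theorem f551159 : Led Lsl_ft (LP (LK LD1_c8 LD2_c19 LD3_c49)) = (LP (LK LD1_c15 LD2_c40 LD3_c28)) :=
  Lgr Lrot75 (Lpe (K31.f50526 IH) (Lpr_ff (f551155 IH) (Lpe (f400434 IH) (Lpn (LP (LK LD1_c15 LD2_c40 LD3_c28))))))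
theorem f1092 : Led Lsl_gt (LP (LK LD1_c4 LD2_c9 LD3_c50)) = (LP (LK LD1_c8 LD2_c19 LD3_c48)) :=
  Lre_g IH (LK LD1_c4 LD2_c9 LD3_c50) (LK LD1_c8 LD2_c19 LD3_c48) Lrfl Lrfl
theorem f551163 : Led Lsl_af (LP (LK LD1_c8 LD2_c19 LD3_c48)) = (LP (LK LD1_c15 LD2_c40 LD3_c28)) :=
  Lgr Lrot31 (Lpe (f1092 IH) (Lpe (K31.f1094 IH) (Lpr_ft (f551159 IH) (Lpn (LP (LK LD1_c15 LD2_c40 LD3_c28))))))
theorem f551166 : Led Lsl_at (LP (LK LD1_c8 LD2_c19 LD3_c48)) = (LP (LK LD1_c15 LD2_c40 LD3_c28)) :=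
  Lgr Lrot100 (Lpr_af (f551163 IH) (Lpn (LP (LK LD1_c15 LD2_c40 LD3_c28))))
theorem f882217 : Led Lsl_ff (LP (LK LD1_c8 LD2_c19 LD3_c48)) = v36099 :=
  Lgr Lrot52 (Lpr_at (f551166 IH) (Lpe (f1223 IH) (Lpr_gf (f882215 IH) (Lpn v36099))))
def v36040 : LQ := Led Lsl_gt (LP (LK LD1_c8 LD2_c17 LD3_c23))
theorem f881922 : Led Lsl_gt (LP (LK LD1_c8 LD2_c17 LD3_c23)) = v36040 :=
  Lrfl
theorem f51782 : Led Lsl_dt (LP (LK LD1_c15 LD2_c40 LD3_c9)) = (LP (LK LD1_c8 LD2_c19 LD3_c40)) :=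
  Lre_d IH (LK LD1_c15 LD2_c40 LD3_c9) (LK LD1_c8 LD2_c19 LD3_c40) Lrfl Lrfl
theorem f51813 : Led Lsl_gt (LP (LK LD1_c8 LD2_c19 LD3_c48)) = (LP (LK LD1_c15 LD2_c40 LD3_c9)) :=
  Lre_g IH (LK LD1_c8 LD2_c19 LD3_c48) (LK LD1_c15 LD2_c40 LD3_c9) Lrfl Lrfl
theorem f881924 : Led Lsl_df (LP (LK LD1_c8 LD2_c19 LD3_c48)) = v36040 :=
  Lgr Lrot153 (Lpr_gt (f51813 IH) (Lpr_dt (f51782 IH) (Lpe (K30.f51800 IH) (Lpe (K30.f51746 IH) (Lpr_gf (K49.f51697 IH) (Lpr_df (K38.f396944 IH) (Lpe (K38.f167219 IH) (Lpe (K15.f220060 IH) (Lpr_gt (f881922 IH) (Lpn v36040))))))))))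
theorem f881925 : Led Lsl_dt (LP (LK LD1_c8 LD2_c19 LD3_c48)) = v36040 :=
  Lgr Lrot42 (Lpr_df (f881924 IH) (Lpn v36040))
theorem f882229 : Led Lsl_ff (LP (LK LD1_c16 LD2_c3 LD3_c40)) = v36040 :=
  Lgr Lrot19 (Lpr_dt (f882218 IH) (Lpe (f882217 IH) (Lpr_dt (f881925 IH) (Lpn v36040))))
theorem f881923 : Led Lsl_gf (LP (LK LD1_c16 LD2_c3 LD3_c41)) = v36040 :=
  Lgr Lrot76 (Lpe (K52.f260666 IH) (Lpr_ff (K15.f260708 IH) (Lpr_gt (f881922 IH) (Lpn v36040))))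
theorem f882231 : Led Lsl_at (LP (LK LD1_c16 LD2_c3 LD3_c40)) = (LP (LK LD1_c15 LD2_c35 LD3_c16)) :=
  Lgr Lrot26 (Lpr_ff (f882229 IH) (Lpe (f881923 IH) (Lpe (K49.f396948 IH) (Lpn (LP (LK LD1_c15 LD2_c35 LD3_c16))))))
theorem f882232 : Led Lsl_at (LP (LK LD1_c16 LD2_c3 LD3_c40)) = (LP (LK LD1_c15 LD2_c35 LD3_c16)) :=
  Leop (Lpe (f882231 IH) (Lpn (LP (LK LD1_c16 LD2_c3 LD3_c40))))
theorem seed_2079 : LEOK LG_a (LK LD1_c16 LD2_c3 LD3_c40) :=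
  Leoe_a (LK LD1_c16 LD2_c3 LD3_c40) (f882232 IH)
def v36125 : LQ := Led Lsl_ct (LP (LK LD1_c8 LD2_c20 LD3_c38))
theorem f882322 : Led Lsl_ct (LP (LK LD1_c8 LD2_c20 LD3_c38)) = v36125 :=
  Lrfl
theorem f882327 : Led Lsl_gf (LP (LK LD1_c8 LD2_c20 LD3_c45)) = v36125 :=
  Lgr Lrot104 (Lpr_ct (K18.f178769 IH) (Lpr_df (K20.f321175 IH) (Lpe (K21.f182613 IH) (Lpe (K22.f288877 IH) (Lpe (K22.f275273 IH) (Lpe (K22.f284178 IH) (Lpr_df (K17.f284162 IH) (Lpe (K20.f284160 IH) (Lpr_ct (f882322 IH) (Lpn v36125))))))))))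
theorem f258410 : Led Lsl_gt (LP (LK LD1_c15 LD2_c42 LD3_c35)) = (LP (LK LD1_c25 LD2_c38 LD3_c34)) :=
  Lre_g IH (LK LD1_c15 LD2_c42 LD3_c35) (LK LD1_c25 LD2_c38 LD3_c34) Lrfl Lrfl
theorem f882329 : Led Lsl_dt (LP (LK LD1_c25 LD2_c38 LD3_c34)) = (LP (LK LD1_c21 LD2_c0 LD3_c43)) :=
  Lgr Lrot105 (Lpe (f258410 IH) (Lpe (K21.f178793 IH) (Lpr_gf (f882327 IH) (Lpe (f882322 IH) (Lpr_gt (K17.f236952 IH) (Lpe (K16.f275287 IH) (Lpr_gt (K23.f343728 IH) (Lpr_dt (K22.f281023 IH) (Lpe (K25.f333832 IH) (Lpn (LP (LK LD1_c21 LD2_c0 LD3_c43))))))))))))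
theorem f882330 : Led Lsl_dt (LP (LK LD1_c25 LD2_c38 LD3_c34)) = (LP (LK LD1_c21 LD2_c0 LD3_c43)) :=
  Leop (Lpe (f882329 IH) (Lpn (LP (LK LD1_c25 LD2_c38 LD3_c34))))
theorem seed_2080 : LEOK LG_d (LK LD1_c25 LD2_c38 LD3_c34) :=
  Leoe_d (LK LD1_c25 LD2_c38 LD3_c34) (f882330 IH)
def v36146 : LQ := Led Lsl_gt (LP (LK LD1_c8 LD2_c21 LD3_c5))
theorem f882440 : Led Lsl_gt (LP (LK LD1_c8 LD2_c21 LD3_c5)) = v36146 :=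
  Lrfl
theorem f255853 : Led Lsl_gt (LP (LK LD1_c10 LD2_c38 LD3_c37)) = (LP (LK LD1_c5 LD2_c23 LD3_c59)) :=
  Lre_g IH (LK LD1_c10 LD2_c38 LD3_c37) (LK LD1_c5 LD2_c23 LD3_c59) Lrfl Lrfl
theorem f255854 : Led Lsl_ct (LP (LK LD1_c19 LD2_c17 LD3_c0)) = (LP (LK LD1_c10 LD2_c38 LD3_c37)) :=
  Lre_c IH (LK LD1_c19 LD2_c17 LD3_c0) (LK LD1_c10 LD2_c38 LD3_c37) Lrfl Lrfl
theorem f882443 : Led Lsl_bt (LP (LK LD1_c19 LD2_c17 LD3_c0)) = v36146 :=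
  Lgr Lrot92 (Lpr_ct (f255854 IH) (Lpr_gt (f255853 IH) (Lpr_cf (K50.f255835 IH) (Lpr_bt (K20.f255661 IH) (Lpr_gt (K14.f255671 IH) (Lpr_ct (K15.f232202 IH) (Lpr_gt (K15.f238037 IH) (Lpe (K13.f200382 IH) (Lpr_bt (K38.f357107 IH) (Lpr_gt (f882440 IH) (Lpn v36146)))))))))))
def v12387 : LQ := Led Lsl_gt (LP (LK LD1_c4 LD2_c10 LD3_c25))
theorem f691858 : Led Lsl_gt (LP (LK LD1_c4 LD2_c10 LD3_c25)) = v12387 :=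
  Lrfl
theorem f397808 : Led Lsl_bt (LP (LK LD1_c9 LD2_c37 LD3_c23)) = (LP (LK LD1_c16 LD2_c1 LD3_c45)) :=
  Lgr Lrot35 (Lpr_ff (K53.f397698 IH) (Lpe (K30.f167052 IH) (Lpr_ff (K30.f397805 IH) (Lpn (LP (LK LD1_c16 LD2_c1 LD3_c45))))))
theorem f691860 : Led Lsl_df (LP (LK LD1_c4 LD2_c52 LD3_c38)) = v12387 :=
  Lgr Lrot183 (Lpr_ct (K30.f2190 IH) (Lpr_bt (f397808 IH) (Lpe (K38.f397814 IH) (Lpr_dt (K38.f397081 IH) (Lpr_ct (K31.f218807 IH) (Lpr_bt (K22.f218806 IH) (Lpr_gt (K12.f217326 IH) (Lpr_dt (K12.f168041 IH) (Lpr_ct (K12.f220752 IH) (Lpr_bt (K12.f41759 IH) (Lpe (K12.f220767 IH) (Lpr_dt (K15.f211276 IH) (Lpr_ct (K14.f180057 IH) (Lpr_bt (K14.f178263 IH) (Lpr_gt (K11.f53326 IH) (Lpe (K13.f237798 IH) (Lpr_ct (K15.f260761 IH) (Lpr_bt (K22.f260752 IH) (Lpr_gt (f691858 IH) (Lpn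 v12387))))))))))))))))))))
theorem f2006 : Led Lsl_dt (LP (LK LD1_c17 LD2_c40 LD3_c32)) = (LP (LK LD1_c9 LD2_c36 LD3_c1)) :=
  Lre_d IH (LK LD1_c17 LD2_c40 LD3_c32) (LK LD1_c9 LD2_c36 LD3_c1) Lrfl Lrfl
theorem f2008 : Led Lsl_gt (LP (LK LD1_c9 LD2_c36 LD3_c9)) = (LP (LK LD1_c17 LD2_c40 LD3_c32)) :=
  Lre_g IH (LK LD1_c9 LD2_c36 LD3_c9) (LK LD1_c17 LD2_c40 LD3_c32) Lrfl Lrfl
theorem f882442 : Led Lsl_df (LP (LK LD1_c9 LD2_c36 LD3_c9)) = v36146 :=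
  Lgr Lrot153 (Lpr_gt (f2008 IH) (Lpr_dt (f2006 IH) (Lpe (K0.f2327 IH) (Lpr_df (K0.f2328 IH) (Lpe (K38.f2308 IH) (Lpr_df (f691860 IH) (Lpe (f691858 IH) (Lpe (K38.f170982 IH) (Lpr_gt (f882440 IH) (Lpn v36146))))))))))
theorem f551364 : Led Lsl_bt (LP (LK LD1_c9 LD2_c36 LD3_c9)) = (LP (LK LD1_c17 LD2_c40 LD3_c51)) :=
  Lre_b IH (LK LD1_c9 LD2_c36 LD3_c9) (LK LD1_c17 LD2_c40 LD3_c51) Lrfl Lrfl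
theorem f882446 : Led Lsl_df (LP (LK LD1_c19 LD2_c17 LD3_c0)) = (LP (LK LD1_c17 LD2_c40 LD3_c51)) :=
  Lgr Lrot12 (Lpr_bt (f882443 IH) (Lpe (f882442 IH) (Lpr_bt (f551364 IH) (Lpn (LP (LK LD1_c17 LD2_c40 LD3_c51))))))
theorem f882447 : Led Lsl_dt (LP (LK LD1_c17 LD2_c40 LD3_c51)) = (LP (LK LD1_c19 LD2_c17 LD3_c0)) :=
  Leop (Lpr_df (f882446 IH) (Lpn (LP (LK LD1_c17 LD2_c40 LD3_c51))))
theorem seed_2081 : LEOK LG_d (LK LD1_c17 LD2_c40 LD3_c51) :=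
  Leoe_d (LK LD1_c17 LD2_c40 LD3_c51) (f882447 IH)
theorem f882445 : Led Lsl_ct (LP (LK LD1_c10 LD2_c38 LD3_c37)) = (LP (LK LD1_c19 LD2_c17 LD3_c0)) :=
  Lre_c IH (LK LD1_c10 LD2_c38 LD3_c37) (LK LD1_c19 LD2_c17 LD3_c0) Lrfl Lrfl
theorem f413398 : Led Lsl_dt (LP (LK LD1_c19 LD2_c17 LD3_c1)) = (LP (LK LD1_c10 LD2_c38 LD3_c37)) :=
  Lre_d IH (LK LD1_c19 LD2_c17 LD3_c1) (LK LD1_c10 LD2_c38 LD3_c37) Lrfl Lrfl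
theorem f882441 : Led Lsl_gf (LP (LK LD1_c15 LD2_c48 LD3_c54)) = v36146 :=
  Lgr Lrot76 (Lpe (K38.f178432 IH) (Lpr_ff (K38.f357113 IH) (Lpr_gt (f882440 IH) (Lpn v36146))))
theorem f178426 : Led Lsl_dt (LP (LK LD1_c15 LD2_c48 LD3_c54)) = (LP (LK LD1_c25 LD2_c45 LD3_c20)) :=
  Lre_d IH (LK LD1_c15 LD2_c48 LD3_c54) (LK LD1_c25 LD2_c45 LD3_c20) Lrfl Lrfl
theorem f381749 : Led Lsl_bt (LP (LK LD1_c5 LD2_c43 LD3_c23)) = (LP (LK LD1_c11 LD2_c16 LD3_c50)) :=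
  Lre_b IH (LK LD1_c5 LD2_c43 LD3_c23) (LK LD1_c11 LD2_c16 LD3_c50) Lrfl Lrfl
theorem f882448 : Led Lsl_gf (LP (LK LD1_c19 LD2_c17 LD3_c1)) = (LP (LK LD1_c11 LD2_c16 LD3_c50)) :=
  Lgr Lrot85 (Lpr_dt (f413398 IH) (Lpr_ct (f882445 IH) (Lpr_bt (f882443 IH) (Lpe (f882441 IH) (Lpr_dt (f178426 IH) (Lpe (K49.f337231 IH) (Lpr_bt (K49.f337242 IH) (Lpe (K43.f554482 IH) (Lpr_dt (K43.f29405 IH) (Lpe (K45.f556597 IH) (Lpr_bt (K45.f593284 IH) (Lpe (K45.f593277 IH) (Lpr_dt (K31.f280519 IH) (Lpr_ct (K31.f181749 IH) (Lpe (K36.f424004 IH) (Lpr_gt (K36.f381787 IH) (Lpr_dt (K27.f381392 IH) (Lpr_ct (K39.f381396 IH) (Lpr_bt (f381749 IH) (Lpn (LP (LK LD1_c11 LD2_c16 LD3_c50))))))))))))))))))))))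
theorem f882449 : Led Lsl_gt (LP (LK LD1_c11 LD2_c16 LD3_c50)) = (LP (LK LD1_c19 LD2_c17 LD3_c1)) :=
  Leop (Lpr_gf (f882448 IH) (Lpn (LP (LK LD1_c11 LD2_c16 LD3_c50))))
theorem seed_2082 : LEOK LG_g (LK LD1_c11 LD2_c16 LD3_c50) :=
  Leoe_g (LK LD1_c11 LD2_c16 LD3_c50) (f882449 IH)
def v36154 : LQ := Led Lsl_ft (LP (LK LD1_c8 LD2_c21 LD3_c7))
theorem f882491 : Led Lsl_ft (LP (LK LD1_c8 LD2_c21 LD3_c7)) = v36154 :=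
  Lrfl
theorem f171007 : Led Lsl_gt (LP (LK LD1_c8 LD2_c21 LD3_c7)) = (LP (LK LD1_c15 LD2_c43 LD3_c12)) :=
  Lre_g IH (LK LD1_c8 LD2_c21 LD3_c7) (LK LD1_c15 LD2_c43 LD3_c12) Lrfl Lrfl
def v36152 : LQ := Led Lsl_at (LP (LK LD1_c8 LD2_c21 LD3_c7))
theorem f882479 : Led Lsl_at (LP (LK LD1_c8 LD2_c21 LD3_c7)) = v36152 :=
  Lrfl
theorem f882480 : Led Lsl_af (LP (LK LD1_c8 LD2_c21 LD3_c7)) = v36152 :=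
  Lgr Lrot0 (Lpr_at (f882479 IH) (Lpn v36152))
theorem f171006 : Led Lsl_ct (LP (LK LD1_c4 LD2_c10 LD3_c27)) = (LP (LK LD1_c8 LD2_c21 LD3_c7)) :=
  Lre_c IH (LK LD1_c4 LD2_c10 LD3_c27) (LK LD1_c8 LD2_c21 LD3_c7) Lrfl Lrfl
def v12390 : LQ := Led Lsl_at (LP (LK LD1_c4 LD2_c10 LD3_c27))
theorem f691878 : Led Lsl_at (LP (LK LD1_c4 LD2_c10 LD3_c27)) = v12390 :=
  Lrfl
theorem f691879 : Led Lsl_af (LP (LK LD1_c4 LD2_c10 LD3_c27)) = v12390 :=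
  Lgr Lrot0 (Lpr_at (f691878 IH) (Lpn v12390))
theorem f882481 : Led Lsl_cf v12390 = v36152 :=
  Lgr Lrot1 (Lpe (f691879 IH) (Lpr_ct (f171006 IH) (Lpr_at (f882479 IH) (Lpn v36152))))
theorem f171014 : Led Lsl_gt (LP (LK LD1_c4 LD2_c10 LD3_c28)) = (LP (LK LD1_c2 LD2_c2 LD3_c28)) :=
  Lre_g IH (LK LD1_c4 LD2_c10 LD3_c28) (LK LD1_c2 LD2_c2 LD3_c28) Lrfl Lrfl
theorem f691880 : Led Lsl_ft (LP (LK LD1_c4 LD2_c10 LD3_c28)) = v12390 :=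
  Lgr Lrot2 (Lpr_gt (f171014 IH) (Lpr_gt (K49.f171002 IH) (Lpr_af (f691879 IH) (Lpn v12390))))
theorem f691881 : Led Lsl_ff (LP (LK LD1_c4 LD2_c10 LD3_c28)) = v12390 :=
  Lgr Lrot3 (Lpr_ft (f691880 IH) (Lpn v12390))
theorem f171032 : Led Lsl_ct (LP (LK LD1_c4 LD2_c10 LD3_c28)) = (LP (LK LD1_c8 LD2_c21 LD3_c8)) :=
  Lre_c IH (LK LD1_c4 LD2_c10 LD3_c28) (LK LD1_c8 LD2_c21 LD3_c8) Lrfl Lrfl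
theorem f882483 : Led Lsl_ft (LP (LK LD1_c8 LD2_c21 LD3_c8)) = v36152 :=
  Lgr Lrot4 (Lpe (f171032 IH) (Lpr_ff (f691881 IH) (Lpr_cf (f882481 IH) (Lpn v36152))))
theorem f882492 : Led Lsl_af (LP (LK LD1_c8 LD2_c21 LD3_c8)) = v36154 :=
  Lgr Lrot45 (Lpr_ft (f882483 IH) (Lpe (f882480 IH) (Lpr_ft (f882491 IH) (Lpn v36154))))
theorem f882495 : Led Lsl_gt (LP (LK LD1_c15 LD2_c43 LD3_c12)) = (LP (LK LD1_c8 LD2_c21 LD3_c8)) :=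
  Lgr Lrot46 (Lpe (f171007 IH) (Lpr_ft (f882491 IH) (Lpe (f882492 IH) (Lpn (LP (LK LD1_c8 LD2_c21 LD3_c8))))))
theorem f882496 : Led Lsl_gt (LP (LK LD1_c15 LD2_c43 LD3_c12)) = (LP (LK LD1_c8 LD2_c21 LD3_c8)) :=
  Leop (Lpe (f882495 IH) (Lpn (LP (LK LD1_c15 LD2_c43 LD3_c12))))
theorem seed_2083 : LEOK LG_g (LK LD1_c15 LD2_c43 LD3_c12) :=
  Leoe_g (LK LD1_c15 LD2_c43 LD3_c12) (f882496 IH)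
def v36193 : LQ := Led Lsl_at (LP (LK LD1_c8 LD2_c21 LD3_c45))
theorem f882662 : Led Lsl_at (LP (LK LD1_c8 LD2_c21 LD3_c45)) = v36193 :=
  Lrfl
theorem f323287 : Led Lsl_ft (LP (LK LD1_c4 LD2_c10 LD3_c57)) = (LP (LK LD1_c4 LD2_c17 LD3_c6)) :=
  Lgr Lrot48 (Lpr_ff (K21.f323281 IH) (Lpn (LP (LK LD1_c4 LD2_c17 LD3_c6))))
theorem f323289 : Led Lsl_bt (LP (LK LD1_c8 LD2_c21 LD3_c45)) = (LP (LK LD1_c4 LD2_c10 LD3_c57)) :=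
  Lre_b IH (LK LD1_c8 LD2_c21 LD3_c45) (LK LD1_c4 LD2_c10 LD3_c57) Lrfl Lrfl
theorem f323290 : Led Lsl_ff (LP (LK LD1_c8 LD2_c21 LD3_c45)) = (LP (LK LD1_c8 LD2_c33 LD3_c28)) :=
  Lgr Lrot25 (Lpr_bt (f323289 IH) (Lpr_ft (f323287 IH) (Lpr_bt (K40.f243481 IH) (Lpn (LP (LK LD1_c8 LD2_c33 LD3_c28))))))
theorem f400603 : Led Lsl_et (LP (LK LD1_c8 LD2_c23 LD3_c21)) = (LP (LK LD1_c15 LD2_c46 LD3_c47)) :=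
  Lre_e IH (LK LD1_c8 LD2_c23 LD3_c21) (LK LD1_c15 LD2_c46 LD3_c47) Lrfl Lrfl
theorem f400604 : Led Lsl_af (LP (LK LD1_c8 LD2_c33 LD3_c28)) = (LP (LK LD1_c15 LD2_c46 LD3_c47)) :=
  Lgr Lrot50 (Lpr_et (K40.f243492 IH) (Lpr_at (K40.f400513 IH) (Lpr_et (f400603 IH) (Lpn (LP (LK LD1_c15 LD2_c46 LD3_c47))))))
theorem f882664 : Led Lsl_ff (LP (LK LD1_c15 LD2_c46 LD3_c47)) = v36193 :=
  Lgr Lrot30 (Lpe (f400604 IH) (Lpe (f323290 IH) (Lpr_at (f882662 IH) (Lpn v36193))))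
theorem f882666 : Led Lsl_ft (LP (LK LD1_c15 LD2_c46 LD3_c47)) = v36193 :=
  Lgr Lrot48 (Lpr_ff (f882664 IH) (Lpn v36193))
theorem f400601 : Led Lsl_df (LP (LK LD1_c8 LD2_c21 LD3_c2)) = (LP (LK LD1_c8 LD2_c23 LD3_c21)) :=
  Lgr Lrot18 (Lpr_at (K49.f220330 IH) (Lpr_dt (K38.f179575 IH) (Lpr_at (K40.f400513 IH) (Lpn (LP (LK LD1_c8 LD2_c23 LD3_c21))))))
theorem f400267 : Led Lsl_gt (LP (LK LD1_c4 LD2_c18 LD3_c25)) = (LP (LK LD1_c8 LD2_c21 LD3_c2)) :=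
  Lgr Lrot46 (Lpr_gf (K54.f400265 IH) (Lpr_ft (K15.f260710 IH) (Lpr_at (K52.f220324 IH) (Lpn (LP (LK LD1_c8 LD2_c21 LD3_c2))))))
theorem f398283 : Led Lsl_et (LP (LK LD1_c8 LD2_c21 LD3_c1)) = (LP (LK LD1_c15 LD2_c43 LD3_c7)) :=
  Lre_e IH (LK LD1_c8 LD2_c21 LD3_c1) (LK LD1_c15 LD2_c43 LD3_c7) Lrfl Lrfl
theorem f400754 : Led Lsl_gf (LP (LK LD1_c15 LD2_c43 LD3_c7)) = (LP (LK LD1_c15 LD2_c46 LD3_c47)) :=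
  Lgr Lrot141 (Lpe (f398283 IH) (Lpr_dt (K49.f398281 IH) (Lpr_gt (K30.f1215 IH) (Lpe (K54.f1109 IH) (Lpr_et (f1055 IH) (Lpr_gt (K30.f1216 IH) (Lpr_dt (K54.f1219 IH) (Lpr_gt (f400267 IH) (Lpr_df (f400601 IH) (Lpr_et (f400603 IH) (Lpn (LP (LK LD1_c15 LD2_c46 LD3_c47)))))))))))))
theorem f882663 : Led Lsl_af (LP (LK LD1_c8 LD2_c21 LD3_c45)) = v36193 :=
  Lgr Lrot0 (Lpr_at (f882662 IH) (Lpn v36193))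
def v36192 : LQ := Led Lsl_gf (LP (LK LD1_c8 LD2_c21 LD3_c45))
theorem f882661 : Led Lsl_gf (LP (LK LD1_c8 LD2_c21 LD3_c45)) = v36192 :=
  Lrfl
theorem f882667 : (LP (LK LD1_c15 LD2_c43 LD3_c7)) = v36192 :=
  (Llr Lrot5 (Lpr_gf (f400754 IH) (Lpr_ft (f882666 IH) (Lpe (f882663 IH) (Lpr_gf (f882661 IH) (Lpn v36192)))))).symm
theorem f882668 : Led Lsl_gt (LP (LK LD1_c15 LD2_c43 LD3_c7)) = (LP (LK LD1_c8 LD2_c21 LD3_c45)) :=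
  Leop (Lpr_gf (f882661 IH) (Lpq (f882667 IH) (Lpn (LP (LK LD1_c15 LD2_c43 LD3_c7)))))
theorem seed_2084 : LEOK LG_g (LK LD1_c15 LD2_c43 LD3_c7) :=
  Leoe_g (LK LD1_c15 LD2_c43 LD3_c7) (f882668 IH)
def v36203 : LQ := Led Lsl_ct (LP (LK LD1_c8 LD2_c22 LD3_c2))
theorem f882726 : Led Lsl_ct (LP (LK LD1_c8 LD2_c22 LD3_c2)) = v36203 :=
  Lrfl
theorem f404705 : Led Lsl_dt (LP (LK LD1_c4 LD2_c11 LD3_c13)) = (LP (LK LD1_c4 LD2_c11 LD3_c35)) :=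
  Lgr Lrot60 (Lpr_ff (K50.f404696 IH) (Lpe (K50.f404649 IH) (Lpr_ff (K49.f392823 IH) (Lpn (LP (LK LD1_c4 LD2_c11 LD3_c35))))))
theorem f882730 : Led Lsl_dt (LP (LK LD1_c8 LD2_c35 LD3_c43)) = v36203 :=
  Lgr Lrot27 (Lpr_cf (K66.f406177 IH) (Lpe (K66.f170644 IH) (Lpe (K49.f170948 IH) (Lpe (K49.f171000 IH) (Lpe (f404705 IH) (Lpr_gt (K49.f51531 IH) (Lpr_ct (K50.f53358 IH) (Lpr_gt (K49.f53359 IH) (Lpr_ct (f882726 IH) (Lpn v36203))))))))))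
def v12611 : LQ := Led Lsl_dt (LP (LK LD1_c4 LD2_c18 LD3_c27))
theorem f693789 : Led Lsl_dt (LP (LK LD1_c4 LD2_c18 LD3_c27)) = v12611 :=
  Lrfl
theorem f693791 : Led Lsl_df (LP (LK LD1_c4 LD2_c18 LD3_c27)) = v12611 :=
  Lgr Lrot38 (Lpr_dt (f693789 IH) (Lpn v12611))
def v36127 : LQ := Led Lsl_ct (LP (LK LD1_c8 LD2_c20 LD3_c46))
theorem f882350 : Led Lsl_ct (LP (LK LD1_c8 LD2_c20 LD3_c46)) = v36127 :=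
  Lrfl
theorem f882352 : Led Lsl_cf (LP (LK LD1_c8 LD2_c20 LD3_c46)) = v36127 :=
  Lgr Lrot11 (Lpr_ct (f882350 IH) (Lpn v36127))
theorem f182194 : Led Lsl_bt (LP (LK LD1_c2 LD2_c2 LD3_c20)) = (LP (LK LD1_c4 LD2_c10 LD3_c17)) :=
  Lre_b IH (LK LD1_c2 LD2_c2 LD3_c20) (LK LD1_c4 LD2_c10 LD3_c17) Lrfl Lrfl
theorem f231100 : Led Lsl_ff (LP (LK LD1_c4 LD2_c17 LD3_c24)) = (LP (LK LD1_c4 LD2_c10 LD3_c17)) :=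
  Lgr Lrot25 (Lpr_bt (K27.f170216 IH) (Lpr_ft (K12.f231094 IH) (Lpr_bt (f182194 IH) (Lpn (LP (LK LD1_c4 LD2_c10 LD3_c17))))))
theorem f170235 : Led Lsl_at (LP (LK LD1_c4 LD2_c17 LD3_c24)) = (LP (LK LD1_c8 LD2_c33 LD3_c57)) :=
  Lre_a IH (LK LD1_c4 LD2_c17 LD3_c24) (LK LD1_c8 LD2_c33 LD3_c57) Lrfl Lrfl
theorem f182195 : Led Lsl_gt (LP (LK LD1_c4 LD2_c10 LD3_c17)) = (LP (LK LD1_c8 LD2_c20 LD3_c46)) :=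
  Lre_g IH (LK LD1_c4 LD2_c10 LD3_c17) (LK LD1_c8 LD2_c20 LD3_c46) Lrfl Lrfl
theorem f418381 : Led Lsl_gf (LP (LK LD1_c8 LD2_c33 LD3_c57)) = (LP (LK LD1_c8 LD2_c20 LD3_c46)) :=
  Lgr Lrot76 (Lpe (f170235 IH) (Lpr_ff (f231100 IH) (Lpr_gt (f182195 IH) (Lpn (LP (LK LD1_c8 LD2_c20 LD3_c46))))))
theorem f170236 : Led Lsl_ct (LP (LK LD1_c8 LD2_c33 LD3_c57)) = (LP (LK LD1_c4 LD2_c17 LD3_c32)) :=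
  Lre_c IH (LK LD1_c8 LD2_c33 LD3_c57) (LK LD1_c4 LD2_c17 LD3_c32) Lrfl Lrfl
theorem f882354 : Led Lsl_gt v12611 = v36127 :=
  Lgr Lrot9 (Lpe (f693789 IH) (Lpr_gt (K66.f271516 IH) (Lpr_ct (K66.f406175 IH) (Lpr_gt (K66.f403497 IH) (Lpr_ct (K66.f170234 IH) (Lpe (K50.f170205 IH) (Lpe (f170236 IH) (Lpr_gf (f418381 IH) (Lpr_cf (f882352 IH) (Lpn v36127))))))))))
theorem f166495 : Led Lsl_gt (LP (LK LD1_c4 LD2_c17 LD3_c24)) = (LP (LK LD1_c8 LD2_c33 LD3_c55)) :=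
  Lre_g IH (LK LD1_c4 LD2_c17 LD3_c24) (LK LD1_c8 LD2_c33 LD3_c55) Lrfl Lrfl
theorem f819891 : Led Lsl_at (LP (LK LD1_c8 LD2_c20 LD3_c47)) = (LP (LK LD1_c8 LD2_c33 LD3_c55)) :=
  Lgr Lrot26 (Lpr_ff (K64.f819882 IH) (Lpr_gt (K50.f170185 IH) (Lpr_gt (f166495 IH) (Lpn (LP (LK LD1_c8 LD2_c33 LD3_c55))))))
theorem f819893 : Led Lsl_af (LP (LK LD1_c8 LD2_c20 LD3_c47)) = (LP (LK LD1_c8 LD2_c33 LD3_c55)) :=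
  Lgr Lrot0 (Lpr_at (f819891 IH) (Lpn (LP (LK LD1_c8 LD2_c33 LD3_c55))))
theorem f820114 : Led Lsl_ft (LP (LK LD1_c8 LD2_c20 LD3_c46)) = (LP (LK LD1_c8 LD2_c33 LD3_c55)) :=
  Lgr Lrot2 (Lpe (f418381 IH) (Lpe (K64.f404612 IH) (Lpr_af (f819893 IH) (Lpn (LP (LK LD1_c8 LD2_c33 LD3_c55))))))
theorem f820120 : Led Lsl_ff (LP (LK LD1_c8 LD2_c20 LD3_c46)) = (LP (LK LD1_c8 LD2_c33 LD3_c55)) :=
  Lgr Lrot3 (Lpr_ft (f820114 IH) (Lpn (LP (LK LD1_c8 LD2_c33 LD3_c55))))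
theorem f820122 : Led Lsl_at (LP (LK LD1_c8 LD2_c20 LD3_c46)) = (LP (LK LD1_c8 LD2_c33 LD3_c56)) :=
  Lgr Lrot66 (Lpr_ff (f820120 IH) (Lpe (f819891 IH) (Lpr_ff (K64.f819882 IH) (Lpn (LP (LK LD1_c8 LD2_c33 LD3_c56))))))
theorem f882353 : Led Lsl_at (LP (LK LD1_c8 LD2_c25 LD3_c0)) = v36127 :=
  Lgr Lrot107 (Lpe (K50.f170193 IH) (Lpe (f820122 IH) (Lpr_cf (f882352 IH) (Lpn v36127))))
theorem f882355 : Led Lsl_gf v12611 = K64.v23732 :=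
  Lgr Lrot47 (Lpr_gt (f882354 IH) (Lpe (f882353 IH) (Lpr_ff (K64.f819877 IH) (Lpn K64.v23732))))
theorem f819881 : Led Lsl_cf (LP (LK LD1_c8 LD2_c20 LD3_c47)) = K64.v23732 :=
  Lgr Lrot11 (Lpr_ct (K64.f819880 IH) (Lpn K64.v23732))
theorem f170996 : Led Lsl_dt (LP (LK LD1_c4 LD2_c10 LD3_c17)) = (LP (LK LD1_c8 LD2_c20 LD3_c49)) :=
  Lre_d IH (LK LD1_c4 LD2_c10 LD3_c17) (LK LD1_c8 LD2_c20 LD3_c49) Lrfl Lrfl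
theorem f275449 : Led Lsl_gt (LP (LK LD1_c8 LD2_c20 LD3_c49)) = (LP (LK LD1_c15 LD2_c42 LD3_c40)) :=
  Lre_g IH (LK LD1_c8 LD2_c20 LD3_c49) (LK LD1_c15 LD2_c42 LD3_c40) Lrfl Lrfl
theorem f882733 : Led Lsl_dt (LP (LK LD1_c15 LD2_c42 LD3_c40)) = (LP (LK LD1_c8 LD2_c22 LD3_c2)) :=
  Lgr Lrot105 (Lpe (f275449 IH) (Lpe (f170996 IH) (Lpe (K64.f171009 IH) (Lpr_cf (f819881 IH) (Lpe (f882355 IH) (Lpe (f693791 IH) (Lpr_gt (K66.f271516 IH) (Lpr_dt (f882730 IH) (Lpe (f882726 IH) (Lpn (LP (LK LD1_c8 LD2_c22 LD3_c2))))))))))))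
theorem f882734 : Led Lsl_dt (LP (LK LD1_c15 LD2_c42 LD3_c40)) = (LP (LK LD1_c8 LD2_c22 LD3_c2)) :=
  Leop (Lpe (f882733 IH) (Lpn (LP (LK LD1_c15 LD2_c42 LD3_c40))))
theorem seed_2085 : LEOK LG_d (LK LD1_c15 LD2_c42 LD3_c40) :=
  Leoe_d (LK LD1_c15 LD2_c42 LD3_c40) (f882734 IH)
def v36234 : LQ := Led Lsl_gf (LP (LK LD1_c8 LD2_c22 LD3_c42))
theorem f882876 : Led Lsl_gf (LP (LK LD1_c8 LD2_c22 LD3_c42)) = v36234 :=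
  Lrfl
theorem f171028 : Led Lsl_ct (LP (LK LD1_c8 LD2_c22 LD3_c42)) = (LP (LK LD1_c15 LD2_c45 LD3_c54)) :=
  Lre_c IH (LK LD1_c8 LD2_c22 LD3_c42) (LK LD1_c15 LD2_c45 LD3_c54) Lrfl Lrfl
theorem f170993 : Led Lsl_dt (LP (LK LD1_c8 LD2_c22 LD3_c42)) = (LP (LK LD1_c4 LD2_c11 LD3_c28)) :=
  Lre_d IH (LK LD1_c8 LD2_c22 LD3_c42) (LK LD1_c4 LD2_c11 LD3_c28) Lrfl Lrfl
theorem f170970 : Led Lsl_df (LP (LK LD1_c2 LD2_c2 LD3_c60)) = (LP (LK LD1_c2 LD2_c2 LD3_c28)) :=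
  Lgr Lrot12 (Lpr_bt (K49.f170947 IH) (Lpr_dt (K9.f170941 IH) (Lpr_bt (K49.f170969 IH) (Lpn (LP (LK LD1_c2 LD2_c2 LD3_c28))))))
theorem f219671 : Led Lsl_gt (LP (LK LD1_c16 LD2_c41 LD3_c49)) = (LP (LK LD1_c8 LD2_c55 LD3_c19)) :=
  Lre_g IH (LK LD1_c16 LD2_c41 LD3_c49) (LK LD1_c8 LD2_c55 LD3_c19) Lrfl Lrfl
theorem f691902 : Led Lsl_df (LP (LK LD1_c16 LD2_c41 LD3_c49)) = (LP (LK LD1_c15 LD2_c43 LD3_c13)) :=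
  Lgr Lrot16 (Lpr_gt (f219671 IH) (Lpr_dt (f318774 IH) (Lpr_ct (K27.f243828 IH) (Lpe (K53.f243813 IH) (Lpe (K50.f224523 IH) (Lpr_df (K31.f383109 IH) (Lpr_gf (K31.f382778 IH) (Lpr_ct (K50.f691894 IH) (Lpr_gt (K50.f404644 IH) (Lpn (LP (LK LD1_c15 LD2_c43 LD3_c13))))))))))))
theorem f691920 : Led Lsl_dt (LP (LK LD1_c16 LD2_c41 LD3_c49)) = (LP (LK LD1_c15 LD2_c43 LD3_c13)) :=
  Lgr Lrot42 (Lpr_df (f691902 IH) (Lpn (LP (LK LD1_c15 LD2_c43 LD3_c13))))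
theorem f319576 : Led Lsl_dt (LP (LK LD1_c8 LD2_c21 LD3_c7)) = (LP (LK LD1_c15 LD2_c43 LD3_c14)) :=
  Lre_d IH (LK LD1_c8 LD2_c21 LD3_c7) (LK LD1_c15 LD2_c43 LD3_c14) Lrfl Lrfl
theorem f691922 : Led Lsl_bf (LP (LK LD1_c16 LD2_c41 LD3_c49)) = (LP (LK LD1_c15 LD2_c43 LD3_c14)) :=
  Lgr Lrot93 (Lpr_dt (f691920 IH) (Lpr_bt (K49.f691884 IH) (Lpr_dt (f319576 IH) (Lpn (LP (LK LD1_c15 LD2_c43 LD3_c14))))))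
theorem f299293 : Led Lsl_bt (LP (LK LD1_c8 LD2_c35 LD3_c0)) = (LP (LK LD1_c4 LD2_c18 LD3_c3)) :=
  Lre_b IH (LK LD1_c8 LD2_c35 LD3_c0) (LK LD1_c4 LD2_c18 LD3_c3) Lrfl Lrfl
theorem f170322 : Led Lsl_ct (LP (LK LD1_c8 LD2_c35 LD3_c0)) = (LP (LK LD1_c16 LD2_c6 LD3_c20)) :=
  Lre_c IH (LK LD1_c8 LD2_c35 LD3_c0) (LK LD1_c16 LD2_c6 LD3_c20) Lrfl Lrfl
theorem f319577 : Led Lsl_ct (LP (LK LD1_c15 LD2_c43 LD3_c14)) = (LP (LK LD1_c25 LD2_c39 LD3_c28)) :=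
  Lre_c IH (LK LD1_c15 LD2_c43 LD3_c14) (LK LD1_c25 LD2_c39 LD3_c28) Lrfl Lrfl
theorem f691924 : Led Lsl_gt (LP (LK LD1_c16 LD2_c6 LD3_c20)) = (LP (LK LD1_c25 LD2_c39 LD3_c28)) :=
  Lgr Lrot65 (Lpe (f170322 IH) (Lpr_bt (f299293 IH) (Lpr_gf (K18.f296043 IH) (Lpe (K27.f295942 IH) (Lpe (K30.f383021 IH) (Lpe (K30.f195224 IH) (Lpe (K27.f191857 IH) (Lpe (f219671 IH) (Lpr_bf (f691922 IH) (Lpr_ct (f319577 IH) (Lpn (LP (LK LD1_c25 LD2_c39 LD3_c28)))))))))))))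
theorem f319572 : Led Lsl_ct (LP (LK LD1_c25 LD2_c39 LD3_c28)) = (LP (LK LD1_c15 LD2_c43 LD3_c14)) :=
  Lre_c IH (LK LD1_c25 LD2_c39 LD3_c28) (LK LD1_c15 LD2_c43 LD3_c14) Lrfl Lrfl
theorem f171003 : Led Lsl_ct (LP (LK LD1_c4 LD2_c10 LD3_c17)) = (LP (LK LD1_c2 LD2_c2 LD3_c28)) :=
  Lre_c IH (LK LD1_c4 LD2_c10 LD3_c17) (LK LD1_c2 LD2_c2 LD3_c28) Lrfl Lrfl
theorem f404616 : Led Lsl_dt (LP (LK LD1_c15 LD2_c42 LD3_c39)) = (LP (LK LD1_c8 LD2_c20 LD3_c47)) :=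
  Lre_d IH (LK LD1_c15 LD2_c42 LD3_c39) (LK LD1_c8 LD2_c20 LD3_c47) Lrfl Lrfl
theorem f691927 : Led Lsl_gf (LP (LK LD1_c8 LD2_c35 LD3_c0)) = (LP (LK LD1_c15 LD2_c42 LD3_c39)) :=
  Lgr Lrot147 (Lpr_ct (f170322 IH) (Lpr_gt (f691924 IH) (Lpr_ct (f319572 IH) (Lpe (f319576 IH) (Lpe (f171006 IH) (Lpe (K49.f171002 IH) (Lpe (f171003 IH) (Lpe (K64.f171009 IH) (Lpe (f404616 IH) (Lpn (LP (LK LD1_c15 LD2_c42 LD3_c39))))))))))))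
theorem f170244 : Led Lsl_dt (LP (LK LD1_c8 LD2_c35 LD3_c0)) = (LP (LK LD1_c4 LD2_c18 LD3_c2)) :=
  Lre_d IH (LK LD1_c8 LD2_c35 LD3_c0) (LK LD1_c4 LD2_c18 LD3_c2) Lrfl Lrfl
theorem f170146 : Led Lsl_bt (LP (LK LD1_c0 LD2_c59 LD3_c56)) = (LP (LK LD1_c2 LD2_c5 LD3_c53)) :=
  Lre_b IH (LK LD1_c0 LD2_c59 LD3_c56) (LK LD1_c2 LD2_c5 LD3_c53) Lrfl Lrfl
theorem f170147 : Led Lsl_df (LP (LK LD1_c2 LD2_c6 LD3_c21)) = (LP (LK LD1_c2 LD2_c5 LD3_c53)) :=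
  Lgr Lrot12 (Lpr_bt (K53.f170116 IH) (Lpr_dt (K9.f170111 IH) (Lpr_bt (f170146 IH) (Lpn (LP (LK LD1_c2 LD2_c5 LD3_c53))))))
theorem f170262 : Led Lsl_gt (LP (LK LD1_c4 LD2_c17 LD3_c8)) = (LP (LK LD1_c2 LD2_c5 LD3_c53)) :=
  Lre_g IH (LK LD1_c4 LD2_c17 LD3_c8) (LK LD1_c2 LD2_c5 LD3_c53) Lrfl Lrfl
theorem f404614 : Led Lsl_dt (LP (LK LD1_c8 LD2_c20 LD3_c47)) = (LP (LK LD1_c15 LD2_c42 LD3_c39)) :=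
  Lre_d IH (LK LD1_c8 LD2_c20 LD3_c47) (LK LD1_c15 LD2_c42 LD3_c39) Lrfl Lrfl
theorem f171023 : Led Lsl_at (LP (LK LD1_c4 LD2_c10 LD3_c29)) = (LP (LK LD1_c2 LD2_c2 LD3_c28)) :=
  Lre_a IH (LK LD1_c4 LD2_c10 LD3_c29) (LK LD1_c2 LD2_c2 LD3_c28) Lrfl Lrfl
theorem f404645 : Led Lsl_gf (LP (LK LD1_c4 LD2_c10 LD3_c28)) = (LP (LK LD1_c4 LD2_c17 LD3_c32)) :=
  Lgr Lrot47 (Lpr_gt (f171014 IH) (Lpe (f171023 IH) (Lpr_ff (K50.f403507 IH) (Lpn (LP (LK LD1_c4 LD2_c17 LD3_c32))))))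
theorem f691949 : Led Lsl_df (LP (LK LD1_c4 LD2_c17 LD3_c8)) = (LP (LK LD1_c4 LD2_c10 LD3_c28)) :=
  Lgr Lrot153 (Lpr_gt (f170262 IH) (Lpe (f170147 IH) (Lpe (K27.f170243 IH) (Lpe (f170244 IH) (Lpr_gf (f691927 IH) (Lpe (f404614 IH) (Lpr_gf (K64.f404612 IH) (Lpe (K50.f170233 IH) (Lpe (f404645 IH) (Lpn (LP (LK LD1_c4 LD2_c10 LD3_c28))))))))))))
theorem f691952 : Led Lsl_dt (LP (LK LD1_c4 LD2_c17 LD3_c8)) = (LP (LK LD1_c4 LD2_c10 LD3_c28)) :=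
  Lgr Lrot42 (Lpr_df (f691949 IH) (Lpn (LP (LK LD1_c4 LD2_c10 LD3_c28))))
theorem f406106 : Led Lsl_gt (LP (LK LD1_c4 LD2_c10 LD3_c55)) = (LP (LK LD1_c4 LD2_c17 LD3_c8)) :=
  Lgr Lrot5 (Lpr_ft (K50.f406095 IH) (Lpr_at (K50.f170275 IH) (Lpe (f170262 IH) (Lpn (LP (LK LD1_c4 LD2_c17 LD3_c8))))))
theorem f882877 : Led Lsl_dt (LP (LK LD1_c8 LD2_c33 LD3_c6)) = v36234 :=
  Lgr Lrot57 (Lpe (K64.f406165 IH) (Lpe (K64.f170908 IH) (Lpr_gt (f406106 IH) (Lpr_dt (f691952 IH) (Lpr_gt (f171014 IH) (Lpe (f170970 IH) (Lpe (K20.f170992 IH) (Lpe (f170993 IH) (Lpr_gf (f882876 IH) (Lpn v36234))))))))))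
theorem f319575 : Led Lsl_dt (LP (LK LD1_c16 LD2_c3 LD3_c52)) = (LP (LK LD1_c8 LD2_c33 LD3_c30)) :=
  Lre_d IH (LK LD1_c16 LD2_c3 LD3_c52) (LK LD1_c8 LD2_c33 LD3_c30) Lrfl Lrfl
theorem f173449 : Led Lsl_ct (LP (LK LD1_c15 LD2_c3 LD3_c43)) = (LP (LK LD1_c9 LD2_c4 LD3_c47)) :=
  Lgr Lrot59 (Lpr_cf (K31.f173423 IH) (Lpn (LP (LK LD1_c9 LD2_c4 LD3_c47))))
theorem f403696 : Led Lsl_gt (LP (LK LD1_c9 LD2_c45 LD3_c61)) = (LP (LK LD1_c15 LD2_c3 LD3_c43)) :=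
  Lgr Lrot9 (Lpe (K31.f140386 IH) (Lpe (K41.f387467 IH) (Lpr_ct (K41.f387473 IH) (Lpr_gt (K41.f387475 IH) (Lpr_ct (K41.f403694 IH) (Lpe (K20.f319124 IH) (Lpe (K20.f318588 IH) (Lpr_gf (K31.f390156 IH) (Lpe (f173449 IH) (Lpn (LP (LK LD1_c15 LD2_c3 LD3_c43))))))))))))
theorem f140387 : Led Lsl_ct (LP (LK LD1_c9 LD2_c45 LD3_c61)) = (LP (LK LD1_c4 LD2_c57 LD3_c48)) :=
  Lre_c IH (LK LD1_c9 LD2_c45 LD3_c61) (LK LD1_c4 LD2_c57 LD3_c48) Lrfl Lrfl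
theorem f404569 : Led Lsl_df (LP (LK LD1_c16 LD2_c3 LD3_c51)) = (LP (LK LD1_c15 LD2_c3 LD3_c43)) :=
  Lgr Lrot153 (Lpr_gt (K64.f319566 IH) (Lpr_dt (K20.f178913 IH) (Lpe (K20.f178938 IH) (Lpe (K20.f178888 IH) (Lpe (K30.f178920 IH) (Lpe (K30.f384650 IH) (Lpe (K30.f140426 IH) (Lpe (f140387 IH) (Lpr_gt (f403696 IH) (Lpn (LP (LK LD1_c15 LD2_c3 LD3_c43))))))))))))
theorem f404575 : Led Lsl_dt (LP (LK LD1_c16 LD2_c3 LD3_c51)) = (LP (LK LD1_c15 LD2_c3 LD3_c43)) :=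
  Lgr Lrot42 (Lpr_df (f404569 IH) (Lpn (LP (LK LD1_c15 LD2_c3 LD3_c43))))
theorem f404577 : Led Lsl_bf (LP (LK LD1_c16 LD2_c3 LD3_c52)) = (LP (LK LD1_c15 LD2_c3 LD3_c43)) :=
  Lgr Lrot93 (Lpr_dt (f319575 IH) (Lpr_bt (K64.f319565 IH) (Lpr_dt (f404575 IH) (Lpn (LP (LK LD1_c15 LD2_c3 LD3_c43))))))
theorem f173448 : Led Lsl_ct (LP (LK LD1_c9 LD2_c4 LD3_c48)) = (LP (LK LD1_c4 LD2_c33 LD3_c36)) :=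
  Lre_c IH (LK LD1_c9 LD2_c4 LD3_c48) (LK LD1_c4 LD2_c33 LD3_c36) Lrfl Lrfl
theorem f173446 : Led Lsl_bt (LP (LK LD1_c16 LD2_c56 LD3_c33)) = (LP (LK LD1_c9 LD2_c4 LD3_c48)) :=
  Lre_b IH (LK LD1_c16 LD2_c56 LD3_c33) (LK LD1_c9 LD2_c4 LD3_c48) Lrfl Lrfl
theorem f404579 : Led Lsl_ct (LP (LK LD1_c16 LD2_c3 LD3_c52)) = (LP (LK LD1_c16 LD2_c56 LD3_c33)) :=
  Lgr Lrot83 (Lpr_bf (f404577 IH) (Lpr_cf (K31.f173423 IH) (Lpe (K31.f173435 IH) (Lpe (f173448 IH) (Lpe (f173446 IH) (Lpn (LP (LK LD1_c16 LD2_c56 LD3_c33))))))))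
theorem f404581 : Led Lsl_cf (LP (LK LD1_c16 LD2_c3 LD3_c52)) = (LP (LK LD1_c16 LD2_c56 LD3_c33)) :=
  Lgr Lrot11 (Lpr_ct (f404579 IH) (Lpn (LP (LK LD1_c16 LD2_c56 LD3_c33))))
theorem f882878 : Led Lsl_gt (LP (LK LD1_c15 LD2_c45 LD3_c54)) = (LP (LK LD1_c16 LD2_c56 LD3_c33)) :=
  Lgr Lrot150 (Lpe (f171028 IH) (Lpr_gf (f882876 IH) (Lpe (f882877 IH) (Lpr_gt (K50.f170257 IH) (Lpr_ct (K27.f170251 IH) (Lpr_gt (K64.f170250 IH) (Lpr_ct (K64.f170254 IH) (Lpe (f319575 IH) (Lpr_cf (f404581 IH) (Lpn (LP (LK LD1_c16 LD2_c56 LD3_c33))))))))))))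
theorem f882879 : Led Lsl_gt (LP (LK LD1_c15 LD2_c45 LD3_c54)) = (LP (LK LD1_c16 LD2_c56 LD3_c33)) :=
  Leop (Lpe (f882878 IH) (Lpn (LP (LK LD1_c15 LD2_c45 LD3_c54))))
theorem seed_2086 : LEOK LG_g (LK LD1_c15 LD2_c45 LD3_c54) :=
  Leoe_g (LK LD1_c15 LD2_c45 LD3_c54) (f882879 IH)
def v14077 : LQ := Led Lsl_ct (LP (LK LD1_c4 LD2_c57 LD3_c27))
theorem f718890 : Led Lsl_ct (LP (LK LD1_c4 LD2_c57 LD3_c27)) = v14077 :=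
  Lrfl
theorem f882881 : Led Lsl_bt v14077 = v36234 :=
  Lgr Lrot178 (Lpe (f718890 IH) (Lpe (K32.f427517 IH) (Lpe (K32.f165144 IH) (Lpe (K35.f165064 IH) (Lpr_cf (K9.f165077 IH) (Lpe (K9.f51589 IH) (Lpe (K9.f183227 IH) (Lpe (K14.f183237 IH) (Lpr_cf (K12.f196362 IH) (Lpe (K12.f33201 IH) (Lpe (K9.f29653 IH) (Lpe (K9.f2166 IH) (Lpe (K0.f2162 IH) (Lpe (K0.f256 IH) (Lpe (K9.f170939 IH) (Lpe (K49.f170947 IH) (Lpe (K20.f170992 IH) (Lpe (f170993 IH) (Lpr_gf (f882876 IH) (Lpn v36234))))))))))))))))))))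
theorem f172382 : Led Lsl_ct (LP (LK LD1_c4 LD2_c57 LD3_c31)) = (LP (LK LD1_c2 LD2_c26 LD3_c38)) :=
  Lre_c IH (LK LD1_c4 LD2_c57 LD3_c31) (LK LD1_c2 LD2_c26 LD3_c38) Lrfl Lrfl
theorem f718893 : Led Lsl_ff (LP (LK LD1_c4 LD2_c57 LD3_c31)) = v14077 :=
  Lgr Lrot23 (Lpr_ct (f172382 IH) (Lpr_ft (K50.f596567 IH) (Lpr_ct (f718890 IH) (Lpn v14077))))
theorem f718895 : Led Lsl_ft (LP (LK LD1_c4 LD2_c57 LD3_c31)) = v14077 :=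
  Lgr Lrot48 (Lpr_ff (f718893 IH) (Lpn v14077))
theorem f882884 : Led Lsl_ff (LP (LK LD1_c9 LD2_c45 LD3_c53)) = v36234 :=
  Lgr Lrot25 (Lpr_bt (K50.f172383 IH) (Lpr_ft (f718895 IH) (Lpr_bt (f882881 IH) (Lpn v36234))))
theorem f290135 : Led Lsl_gt (LP (LK LD1_c8 LD2_c22 LD3_c42)) = (LP (LK LD1_c15 LD2_c45 LD3_c53)) :=
  Lre_g IH (LK LD1_c8 LD2_c22 LD3_c42) (LK LD1_c15 LD2_c45 LD3_c53) Lrfl Lrfl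
theorem f882887 : Led Lsl_at (LP (LK LD1_c9 LD2_c45 LD3_c53)) = (LP (LK LD1_c15 LD2_c45 LD3_c53)) :=
  Lgr Lrot26 (Lpr_ff (f882884 IH) (Lpe (f882876 IH) (Lpr_gt (f290135 IH) (Lpn (LP (LK LD1_c15 LD2_c45 LD3_c53))))))
theorem f882888 : Led Lsl_at (LP (LK LD1_c9 LD2_c45 LD3_c53)) = (LP (LK LD1_c15 LD2_c45 LD3_c53)) :=
  Leop (Lpe (f882887 IH) (Lpn (LP (LK LD1_c9 LD2_c45 LD3_c53))))
theorem seed_2087 : LEOK LG_a (LK LD1_c9 LD2_c45 LD3_c53) :=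
  Leoe_a (LK LD1_c9 LD2_c45 LD3_c53) (f882888 IH)
theorem f383297 : Led Lsl_bt (LP (LK LD1_c16 LD2_c54 LD3_c27)) = (LP (LK LD1_c9 LD2_c3 LD3_c31)) :=
  Lre_b IH (LK LD1_c16 LD2_c54 LD3_c27) (LK LD1_c9 LD2_c3 LD3_c31) Lrfl Lrfl
theorem f422829 : Led Lsl_ct (LP (LK LD1_c9 LD2_c45 LD3_c53)) = (LP (LK LD1_c16 LD2_c54 LD3_c27)) :=
  Lgr Lrot83 (Lpe (K50.f383293 IH) (Lpe (K50.f168558 IH) (Lpe (K9.f168559 IH) (Lpr_cf (K39.f172387 IH) (Lpe (f383297 IH) (Lpn (LP (LK LD1_c16 LD2_c54 LD3_c27))))))))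
theorem f422812 : Led Lsl_bt (LP (LK LD1_c4 LD2_c33 LD3_c16)) = (LP (LK LD1_c9 LD2_c3 LD3_c57)) :=
  Lre_b IH (LK LD1_c4 LD2_c33 LD3_c16) (LK LD1_c9 LD2_c3 LD3_c57) Lrfl Lrfl
theorem f596571 : Led Lsl_ff (LP (LK LD1_c16 LD2_c54 LD3_c27)) = (LP (LK LD1_c9 LD2_c3 LD3_c57)) :=
  Lgr Lrot25 (Lpr_bt (f383297 IH) (Lpr_ft (K54.f596569 IH) (Lpr_bt (f422812 IH) (Lpn (LP (LK LD1_c9 LD2_c3 LD3_c57))))))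
theorem f596591 : Led Lsl_ft (LP (LK LD1_c16 LD2_c54 LD3_c27)) = (LP (LK LD1_c9 LD2_c3 LD3_c57)) :=
  Lgr Lrot48 (Lpr_ff (f596571 IH) (Lpn (LP (LK LD1_c9 LD2_c3 LD3_c57))))
theorem f882885 : Led Lsl_ct (LP (LK LD1_c9 LD2_c3 LD3_c57)) = v36234 :=
  Lgr Lrot40 (Lpe (f596591 IH) (Lpe (f422829 IH) (Lpr_ff (f882884 IH) (Lpn v36234))))
theorem f174654 : Led Lsl_bt (LP (LK LD1_c9 LD2_c3 LD3_c57)) = (LP (LK LD1_c4 LD2_c33 LD3_c16)) :=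
  Lre_b IH (LK LD1_c9 LD2_c3 LD3_c57) (LK LD1_c4 LD2_c33 LD3_c16) Lrfl Lrfl
theorem f318949 : Led Lsl_bt (LP (LK LD1_c16 LD2_c53 LD3_c36)) = (LP (LK LD1_c9 LD2_c2 LD3_c58)) :=
  Lre_b IH (LK LD1_c16 LD2_c53 LD3_c36) (LK LD1_c9 LD2_c2 LD3_c58) Lrfl Lrfl
theorem f318813 : Led Lsl_ct (LP (LK LD1_c16 LD2_c53 LD3_c36)) = (LP (LK LD1_c11 LD2_c16 LD3_c32)) :=
  Lre_c IH (LK LD1_c16 LD2_c53 LD3_c36) (LK LD1_c11 LD2_c16 LD3_c32) Lrfl Lrfl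
theorem f318930 : Led Lsl_gt (LP (LK LD1_c20 LD2_c12 LD3_c30)) = (LP (LK LD1_c11 LD2_c16 LD3_c32)) :=
  Lre_g IH (LK LD1_c20 LD2_c12 LD3_c30) (LK LD1_c11 LD2_c16 LD3_c32) Lrfl Lrfl
theorem f398333 : Led Lsl_ct (LP (LK LD1_c29 LD2_c21 LD3_c46)) = (LP (LK LD1_c20 LD2_c12 LD3_c30)) :=
  Lre_c IH (LK LD1_c29 LD2_c21 LD3_c46) (LK LD1_c20 LD2_c12 LD3_c30) Lrfl Lrfl
theorem f170994 : Led Lsl_ct (LP (LK LD1_c15 LD2_c45 LD3_c54)) = (LP (LK LD1_c8 LD2_c22 LD3_c42)) :=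
  Lre_c IH (LK LD1_c15 LD2_c45 LD3_c54) (LK LD1_c8 LD2_c22 LD3_c42) Lrfl Lrfl
theorem f270635 : Led Lsl_bt (LP (LK LD1_c15 LD2_c45 LD3_c54)) = (LP (LK LD1_c25 LD2_c42 LD3_c31)) :=
  Lre_b IH (LK LD1_c15 LD2_c45 LD3_c54) (LK LD1_c25 LD2_c42 LD3_c31) Lrfl Lrfl
theorem f882901 : Led Lsl_gf (LP (LK LD1_c29 LD2_c21 LD3_c46)) = (LP (LK LD1_c25 LD2_c42 LD3_c31)) :=
  Lgr Lrot181 (Lpr_ct (f398333 IH) (Lpr_gt (f318930 IH) (Lpe (f318813 IH) (Lpr_bt (f318949 IH) (Lpr_gt (K9.f174659 IH) (Lpe (f174654 IH) (Lpr_ct (f882885 IH) (Lpe (f882876 IH) (Lpe (f170994 IH) (Lpr_bt (f270635 IH) (Lpn (LP (LK LD1_c25 LD2_c42 LD3_c31)))))))))))))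
theorem f882902 : Led Lsl_gt (LP (LK LD1_c25 LD2_c42 LD3_c31)) = (LP (LK LD1_c29 LD2_c21 LD3_c46)) :=
  Leop (Lpr_gf (f882901 IH) (Lpn (LP (LK LD1_c25 LD2_c42 LD3_c31))))
theorem seed_2088 : LEOK LG_g (LK LD1_c25 LD2_c42 LD3_c31) :=
  Leoe_g (LK LD1_c25 LD2_c42 LD3_c31) (f882902 IH)
def v36239 : LQ := Led Lsl_ft (LP (LK LD1_c8 LD2_c22 LD3_c47))
theorem f882933 : Led Lsl_ft (LP (LK LD1_c8 LD2_c22 LD3_c47)) = v36239 :=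
  Lrfl
theorem f394104 : Led Lsl_df (LP (LK LD1_c9 LD2_c37 LD3_c55)) = (LP (LK LD1_c9 LD2_c53 LD3_c42)) :=
  Lgr Lrot38 (Lpr_dt (K27.f349973 IH) (Lpn (LP (LK LD1_c9 LD2_c53 LD3_c42))))
theorem f300461 : Led Lsl_ct (LP (LK LD1_c8 LD2_c20 LD3_c55)) = (LP (LK LD1_c15 LD2_c42 LD3_c54)) :=
  Lre_c IH (LK LD1_c8 LD2_c20 LD3_c55) (LK LD1_c15 LD2_c42 LD3_c54) Lrfl Lrfl
theorem f330859 : Led Lsl_gt (LP (LK LD1_c8 LD2_c20 LD3_c56)) = (LP (LK LD1_c15 LD2_c42 LD3_c57)) :=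
  Lre_g IH (LK LD1_c8 LD2_c20 LD3_c56) (LK LD1_c15 LD2_c42 LD3_c57) Lrfl Lrfl
theorem f394108 : Led Lsl_df (LP (LK LD1_c8 LD2_c22 LD3_c47)) = (LP (LK LD1_c15 LD2_c42 LD3_c57)) :=
  Lgr Lrot84 (Lpr_cf (K22.f336367 IH) (Lpr_df (f394104 IH) (Lpe (K21.f251579 IH) (Lpr_df (K21.f327472 IH) (Lpe (K26.f355690 IH) (Lpe (f300461 IH) (Lpr_gt (K26.f178693 IH) (Lpr_dt (K20.f178669 IH) (Lpr_gt (f330859 IH) (Lpn (LP (LK LD1_c15 LD2_c42 LD3_c57))))))))))))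
theorem f394114 : Led Lsl_dt (LP (LK LD1_c8 LD2_c22 LD3_c47)) = (LP (LK LD1_c15 LD2_c42 LD3_c57)) :=
  Lgr Lrot42 (Lpr_df (f394108 IH) (Lpn (LP (LK LD1_c15 LD2_c42 LD3_c57))))
theorem f330860 : Led Lsl_ct (LP (LK LD1_c15 LD2_c42 LD3_c57)) = (LP (LK LD1_c25 LD2_c39 LD3_c5)) :=
  Lre_c IH (LK LD1_c15 LD2_c42 LD3_c57) (LK LD1_c25 LD2_c39 LD3_c5) Lrfl Lrfl
def v36238 : LQ := Led Lsl_at (LP (LK LD1_c8 LD2_c22 LD3_c47))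
theorem f882929 : Led Lsl_at (LP (LK LD1_c8 LD2_c22 LD3_c47)) = v36238 :=
  Lrfl
theorem f882930 : Led Lsl_af (LP (LK LD1_c8 LD2_c22 LD3_c47)) = v36238 :=
  Lgr Lrot0 (Lpr_at (f882929 IH) (Lpn v36238))
theorem f882931 : Led Lsl_ft (LP (LK LD1_c8 LD2_c22 LD3_c48)) = v36238 :=
  Lgr Lrot2 (Lpr_gt (K26.f200184 IH) (Lpr_gt (K27.f290264 IH) (Lpr_af (f882930 IH) (Lpn v36238))))
theorem f882934 : Led Lsl_af (LP (LK LD1_c8 LD2_c22 LD3_c48)) = v36239 :=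
  Lgr Lrot45 (Lpr_ft (f882931 IH) (Lpe (f882930 IH) (Lpr_ft (f882933 IH) (Lpn v36239))))
theorem f185475 : Led Lsl_dt (LP (LK LD1_c10 LD2_c26 LD3_c31)) = (LP (LK LD1_c18 LD2_c56 LD3_c19)) :=
  Lre_d IH (LK LD1_c10 LD2_c26 LD3_c31) (LK LD1_c18 LD2_c56 LD3_c19) Lrfl Lrfl
theorem f300540 : Led Lsl_ft (LP (LK LD1_c19 LD2_c1 LD3_c1)) = (LP (LK LD1_c10 LD2_c29 LD3_c32)) :=
  Lre_f IH (LK LD1_c19 LD2_c1 LD3_c1) (LK LD1_c10 LD2_c29 LD3_c32) Lrfl Lrfl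
theorem f300542 : Led Lsl_gt (LP (LK LD1_c19 LD2_c1 LD3_c1)) = (LP (LK LD1_c18 LD2_c22 LD3_c3)) :=
  Lgr Lrot5 (Lpr_ft (f300540 IH) (Lpr_at (K18.f300528 IH) (Lpe (K25.f255894 IH) (Lpn (LP (LK LD1_c18 LD2_c22 LD3_c3))))))
theorem f300496 : Led Lsl_dt (LP (LK LD1_c10 LD2_c29 LD3_c33)) = (LP (LK LD1_c19 LD2_c1 LD3_c1)) :=
  Lre_d IH (LK LD1_c10 LD2_c29 LD3_c33) (LK LD1_c19 LD2_c1 LD3_c1) Lrfl Lrfl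
theorem f371733 : Led Lsl_gt (LP (LK LD1_c18 LD2_c56 LD3_c19)) = (LP (LK LD1_c18 LD2_c59 LD3_c19)) :=
  Lgr Lrot112 (Lpe (f185475 IH) (Lpr_et (K19.f307616 IH) (Lpr_gf (K46.f371724 IH) (Lpe (K25.f255910 IH) (Lpe (K25.f255911 IH) (Lpe (f300542 IH) (Lpe (f300496 IH) (Lpe (K27.f367817 IH) (Lpe (K27.f367769 IH) (Lpr_dt (K27.f367758 IH) (Lpn (LP (LK LD1_c18 LD2_c59 LD3_c19)))))))))))))
theorem f367695 : Led Lsl_ef (LP (LK LD1_c18 LD2_c34 LD3_c36)) = (LP (LK LD1_c17 LD2_c42 LD3_c8)) :=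
  Lgr Lrot28 (Lpr_ct (K54.f312433 IH) (Lpr_et (K53.f367682 IH) (Lpe (K53.f361299 IH) (Lpn (LP (LK LD1_c17 LD2_c42 LD3_c8))))))
theorem f367719 : Led Lsl_et (LP (LK LD1_c10 LD2_c11 LD3_c50)) = (LP (LK LD1_c9 LD2_c53 LD3_c43)) :=
  Lgr Lrot71 (Lpe (K27.f336158 IH) (Lpr_ef (f367695 IH) (Lpe (K26.f361288 IH) (Lpr_ef (K26.f361286 IH) (Lpr_df (K26.f361323 IH) (Lpn (LP (LK LD1_c9 LD2_c53 LD3_c43))))))))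
theorem f336156 : Led Lsl_ct (LP (LK LD1_c10 LD2_c28 LD3_c33)) = (LP (LK LD1_c10 LD2_c11 LD3_c50)) :=
  Lgr Lrot59 (Lpr_cf (K22.f336146 IH) (Lpn (LP (LK LD1_c10 LD2_c11 LD3_c50))))
theorem f367721 : Led Lsl_ef (LP (LK LD1_c10 LD2_c28 LD3_c33)) = (LP (LK LD1_c10 LD2_c26 LD3_c46)) :=
  Lgr Lrot28 (Lpr_ct (f336156 IH) (Lpr_et (f367719 IH) (Lpe (K26.f361329 IH) (Lpn (LP (LK LD1_c10 LD2_c26 LD3_c46))))))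
theorem f185620 : Led Lsl_dt (LP (LK LD1_c10 LD2_c14 LD3_c61)) = (LP (LK LD1_c5 LD2_c12 LD3_c5)) :=
  Lre_d IH (LK LD1_c10 LD2_c14 LD3_c61) (LK LD1_c5 LD2_c12 LD3_c5) Lrfl Lrfl
theorem f185621 : Led Lsl_gt (LP (LK LD1_c18 LD2_c38 LD3_c61)) = (LP (LK LD1_c10 LD2_c14 LD3_c61)) :=
  Lre_g IH (LK LD1_c18 LD2_c38 LD3_c61) (LK LD1_c10 LD2_c14 LD3_c61) Lrfl Lrfl
theorem f361338 : Led Lsl_dt (LP (LK LD1_c10 LD2_c26 LD3_c46)) = (LP (LK LD1_c18 LD2_c38 LD3_c61)) :=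
  Lgr Lrot57 (Lpr_gf (K26.f361336 IH) (Lpe (K21.f248325 IH) (Lpe (K25.f316323 IH) (Lpe (K20.f316314 IH) (Lpr_gt (K20.f170637 IH) (Lpe (K18.f200150 IH) (Lpe (K21.f185619 IH) (Lpe (f185620 IH) (Lpe (f185621 IH) (Lpn (LP (LK LD1_c18 LD2_c38 LD3_c61))))))))))))
theorem f371735 : Led Lsl_gf (LP (LK LD1_c18 LD2_c38 LD3_c61)) = (LP (LK LD1_c18 LD2_c58 LD3_c53)) :=
  Lgr Lrot145 (Lpe (f361338 IH) (Lpe (f367721 IH) (Lpr_gt (K22.f336161 IH) (Lpr_dt (f185475 IH) (Lpr_gt (f371733 IH) (Lpe (K27.f367758 IH) (Lpr_et (K27.f367769 IH) (Lpr_gt (K27.f367817 IH) (Lpr_ef (K18.f300492 IH) (Lpr_dt (K18.f300376 IH) (Lpn (LP (LK LD1_c18 LD2_c58 LD3_c53)))))))))))))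
theorem f371737 : Led Lsl_dt (LP (LK LD1_c18 LD2_c38 LD3_c61)) = (LP (LK LD1_c10 LD2_c26 LD3_c46)) :=
  Lgr Lrot105 (Lpr_gf (f371735 IH) (Lpe (K18.f300376 IH) (Lpe (K22.f300393 IH) (Lpr_cf (K22.f336352 IH) (Lpe (K27.f341042 IH) (Lpe (K17.f282099 IH) (Lpr_gt (K26.f270877 IH) (Lpr_dt (K26.f361319 IH) (Lpe (K26.f361332 IH) (Lpn (LP (LK LD1_c10 LD2_c26 LD3_c46))))))))))))
theorem f200347 : Led Lsl_ct (LP (LK LD1_c28 LD2_c10 LD3_c54)) = (LP (LK LD1_c18 LD2_c38 LD3_c61)) :=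
  Lre_c IH (LK LD1_c28 LD2_c10 LD3_c54) (LK LD1_c18 LD2_c38 LD3_c61) Lrfl Lrfl
theorem f882936 : Led Lsl_dt (LP (LK LD1_c25 LD2_c39 LD3_c5)) = (LP (LK LD1_c28 LD2_c10 LD3_c54)) :=
  Lgr Lrot32 (Lpe (f330860 IH) (Lpe (f394114 IH) (Lpr_ft (f882933 IH) (Lpe (f882934 IH) (Lpr_cf (K26.f361259 IH) (Lpr_df (K26.f361323 IH) (Lpe (K26.f361332 IH) (Lpe (f371737 IH) (Lpe (f200347 IH) (Lpn (LP (LK LD1_c28 LD2_c10 LD3_c54))))))))))))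
theorem f882937 : Led Lsl_dt (LP (LK LD1_c25 LD2_c39 LD3_c5)) = (LP (LK LD1_c28 LD2_c10 LD3_c54)) :=
  Leop (Lpe (f882936 IH) (Lpn (LP (LK LD1_c25 LD2_c39 LD3_c5))))
theorem seed_2089 : LEOK LG_d (LK LD1_c25 LD2_c39 LD3_c5) :=
  Leoe_d (LK LD1_c25 LD2_c39 LD3_c5) (f882937 IH)
def v13987 : LQ := Led Lsl_ct (LP (LK LD1_c4 LD2_c53 LD3_c9))
theorem f718451 : Led Lsl_ct (LP (LK LD1_c4 LD2_c53 LD3_c9)) = v13987 :=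
  Lrfl
theorem f237499 : Led Lsl_bt (LP (LK LD1_c4 LD2_c53 LD3_c9)) = (LP (LK LD1_c9 LD2_c38 LD3_c16)) :=
  Lre_b IH (LK LD1_c4 LD2_c53 LD3_c9) (LK LD1_c9 LD2_c38 LD3_c16) Lrfl Lrfl
theorem f551289 : Led Lsl_at (LP (LK LD1_c15 LD2_c57 LD3_c42)) = (LP (LK LD1_c8 LD2_c30 LD3_c2)) :=
  Lre_a IH (LK LD1_c15 LD2_c57 LD3_c42) (LK LD1_c8 LD2_c30 LD3_c2) Lrfl Lrfl
theorem f551288 : Led Lsl_bt (LP (LK LD1_c25 LD2_c54 LD3_c18)) = (LP (LK LD1_c15 LD2_c57 LD3_c42)) :=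
  Lre_b IH (LK LD1_c25 LD2_c54 LD3_c18) (LK LD1_c15 LD2_c57 LD3_c42) Lrfl Lrfl
theorem f188740 : Led Lsl_bt (LP (LK LD1_c16 LD2_c1 LD3_c12)) = (LP (LK LD1_c8 LD2_c32 LD3_c1)) :=
  Lre_b IH (LK LD1_c16 LD2_c1 LD3_c12) (LK LD1_c8 LD2_c32 LD3_c1) Lrfl Lrfl
theorem f243589 : Led Lsl_bt (LP (LK LD1_c15 LD2_c57 LD3_c29)) = (LP (LK LD1_c25 LD2_c53 LD3_c53)) :=
  Lre_b IH (LK LD1_c15 LD2_c57 LD3_c29) (LK LD1_c25 LD2_c53 LD3_c53) Lrfl Lrfl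
theorem f551118 : Led Lsl_ff (LP (LK LD1_c16 LD2_c1 LD3_c12)) = (LP (LK LD1_c25 LD2_c53 LD3_c53)) :=
  Lgr Lrot25 (Lpr_bt (f188740 IH) (Lpr_ft (K50.f551116 IH) (Lpr_bt (f243589 IH) (Lpn (LP (LK LD1_c25 LD2_c53 LD3_c53))))))
theorem f222005 : Led Lsl_bt (LP (LK LD1_c8 LD2_c29 LD3_c48)) = (LP (LK LD1_c4 LD2_c15 LD3_c27)) :=
  Lre_b IH (LK LD1_c8 LD2_c29 LD3_c48) (LK LD1_c4 LD2_c15 LD3_c27) Lrfl Lrfl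
theorem f222055 : Led Lsl_gt (LP (LK LD1_c25 LD2_c18 LD3_c55)) = (LP (LK LD1_c15 LD2_c27 LD3_c14)) :=
  Lre_g IH (LK LD1_c25 LD2_c18 LD3_c55) (LK LD1_c15 LD2_c27 LD3_c14) Lrfl Lrfl
theorem f271496 : Led Lsl_cf (LP (LK LD1_c25 LD2_c18 LD3_c55)) = (LP (LK LD1_c16 LD2_c1 LD3_c12)) :=
  Lgr Lrot160 (Lpr_gt (f222055 IH) (Lpe (K30.f222043 IH) (Lpr_bt (f222005 IH) (Lpr_gt (K16.f53373 IH) (Lpr_ct (K16.f271475 IH) (Lpe (K10.f188731 IH) (Lpe (K17.f53410 IH) (Lpr_bt (K31.f170471 IH) (Lpr_gt (K31.f170476 IH) (Lpe (f188740 IH) (Lpn (LP (LK LD1_c16 LD2_c1 LD3_c12)))))))))))))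
theorem f243590 : Led Lsl_cf (LP (LK LD1_c25 LD2_c53 LD3_c53)) = (LP (LK LD1_c16 LD2_c0 LD3_c8)) :=
  Lgr Lrot11 (Lpr_ct (K52.f243586 IH) (Lpn (LP (LK LD1_c16 LD2_c0 LD3_c8))))
theorem f551246 : Led Lsl_ft (LP (LK LD1_c25 LD2_c18 LD3_c55)) = (LP (LK LD1_c16 LD2_c0 LD3_c8)) :=
  Lgr Lrot4 (Lpr_cf (f271496 IH) (Lpr_ff (f551118 IH) (Lpr_cf (f243590 IH) (Lpn (LP (LK LD1_c16 LD2_c0 LD3_c8))))))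
theorem f222016 : Led Lsl_gt (LP (LK LD1_c15 LD2_c27 LD3_c14)) = (LP (LK LD1_c25 LD2_c18 LD3_c54)) :=
  Lre_g IH (LK LD1_c15 LD2_c27 LD3_c14) (LK LD1_c25 LD2_c18 LD3_c54) Lrfl Lrfl
theorem f551250 : Led Lsl_af (LP (LK LD1_c25 LD2_c18 LD3_c54)) = (LP (LK LD1_c16 LD2_c0 LD3_c8)) :=
  Lgr Lrot31 (Lpe (f222016 IH) (Lpe (f222055 IH) (Lpr_ft (f551246 IH) (Lpn (LP (LK LD1_c16 LD2_c0 LD3_c8))))))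
theorem f551252 : Led Lsl_at (LP (LK LD1_c25 LD2_c18 LD3_c54)) = (LP (LK LD1_c16 LD2_c0 LD3_c8)) :=
  Lgr Lrot100 (Lpr_af (f551250 IH) (Lpn (LP (LK LD1_c16 LD2_c0 LD3_c8))))
theorem f222007 : Led Lsl_cf (LP (LK LD1_c8 LD2_c29 LD3_c48)) = (LP (LK LD1_c15 LD2_c27 LD3_c14)) :=
  Lgr Lrot97 (Lpr_bt (f222005 IH) (Lpr_ct (K16.f52030 IH) (Lpr_bt (K16.f222004 IH) (Lpr_ct (K15.f221998 IH) (Lpr_bt (K30.f222006 IH) (Lpn (LP (LK LD1_c15 LD2_c27 LD3_c14))))))))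
theorem f397475 : Led Lsl_ft (LP (LK LD1_c8 LD2_c31 LD3_c30)) = (LP (LK LD1_c15 LD2_c27 LD3_c14)) :=
  Lgr Lrot4 (Lpe (K52.f221818 IH) (Lpr_ff (K52.f397469 IH) (Lpr_cf (f222007 IH) (Lpn (LP (LK LD1_c15 LD2_c27 LD3_c14))))))
theorem f270678 : Led Lsl_gt (LP (LK LD1_c8 LD2_c31 LD3_c30)) = (LP (LK LD1_c16 LD2_c0 LD3_c7)) :=
  Lre_g IH (LK LD1_c8 LD2_c31 LD3_c30) (LK LD1_c16 LD2_c0 LD3_c7) Lrfl Lrfl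
theorem f397542 : Led Lsl_gt (LP (LK LD1_c16 LD2_c0 LD3_c7)) = (LP (LK LD1_c25 LD2_c18 LD3_c56)) :=
  Lgr Lrot46 (Lpe (f270678 IH) (Lpr_ft (f397475 IH) (Lpr_at (K30.f222047 IH) (Lpn (LP (LK LD1_c25 LD2_c18 LD3_c56))))))
theorem f551254 : Led Lsl_ff (LP (LK LD1_c25 LD2_c18 LD3_c54)) = (LP (LK LD1_c16 LD2_c0 LD3_c7)) :=
  Lgr Lrot52 (Lpr_at (f551252 IH) (Lpr_gf (K52.f397454 IH) (Lpe (f397542 IH) (Lpn (LP (LK LD1_c16 LD2_c0 LD3_c7))))))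
theorem f551258 : Led Lsl_ft (LP (LK LD1_c25 LD2_c18 LD3_c54)) = (LP (LK LD1_c16 LD2_c0 LD3_c7)) :=
  Lgr Lrot48 (Lpr_ff (f551254 IH) (Lpn (LP (LK LD1_c16 LD2_c0 LD3_c7))))
theorem f551260 : Led Lsl_af (LP (LK LD1_c25 LD2_c18 LD3_c55)) = (LP (LK LD1_c16 LD2_c0 LD3_c7)) :=
  Lgr Lrot45 (Lpr_ft (f551246 IH) (Lpe (f551250 IH) (Lpr_ft (f551258 IH) (Lpn (LP (LK LD1_c16 LD2_c0 LD3_c7))))))
theorem f271500 : Led Lsl_ct (LP (LK LD1_c25 LD2_c18 LD3_c55)) = (LP (LK LD1_c16 LD2_c1 LD3_c12)) :=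
  Lgr Lrot59 (Lpr_cf (f271496 IH) (Lpn (LP (LK LD1_c16 LD2_c1 LD3_c12))))
theorem f170558 : Led Lsl_bt (LP (LK LD1_c15 LD2_c37 LD3_c57)) = (LP (LK LD1_c8 LD2_c18 LD3_c41)) :=
  Lre_b IH (LK LD1_c15 LD2_c37 LD3_c57) (LK LD1_c8 LD2_c18 LD3_c41) Lrfl Lrfl
theorem f170559 : Led Lsl_ct (LP (LK LD1_c25 LD2_c32 LD3_c60)) = (LP (LK LD1_c15 LD2_c37 LD3_c57)) :=
  Lre_c IH (LK LD1_c25 LD2_c32 LD3_c60) (LK LD1_c15 LD2_c37 LD3_c57) Lrfl Lrfl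
theorem f170560 : Led Lsl_bt (LP (LK LD1_c16 LD2_c6 LD3_c60)) = (LP (LK LD1_c25 LD2_c32 LD3_c60)) :=
  Lgr Lrot128 (Lpr_cf (K30.f170127 IH) (Lpr_bf (K30.f170552 IH) (Lpe (K50.f170557 IH) (Lpe (f170558 IH) (Lpe (f170559 IH) (Lpn (LP (LK LD1_c25 LD2_c32 LD3_c60))))))))
theorem f170563 : Led Lsl_bf (LP (LK LD1_c16 LD2_c6 LD3_c60)) = (LP (LK LD1_c25 LD2_c32 LD3_c60)) :=
  Lgr Lrot24 (Lpr_bt (f170560 IH) (Lpn (LP (LK LD1_c25 LD2_c32 LD3_c60))))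
theorem f52127 : Led Lsl_ct (LP (LK LD1_c4 LD2_c18 LD3_c24)) = (LP (LK LD1_c2 LD2_c6 LD3_c30)) :=
  Lre_c IH (LK LD1_c4 LD2_c18 LD3_c24) (LK LD1_c2 LD2_c6 LD3_c30) Lrfl Lrfl
theorem f51878 : Led Lsl_ct (LP (LK LD1_c8 LD2_c30 LD3_c3)) = (LP (LK LD1_c15 LD2_c57 LD3_c49)) :=
  Lre_c IH (LK LD1_c8 LD2_c30 LD3_c3) (LK LD1_c15 LD2_c57 LD3_c49) Lrfl Lrfl
theorem f170573 : Led Lsl_gt (LP (LK LD1_c15 LD2_c57 LD3_c49)) = (LP (LK LD1_c15 LD2_c37 LD3_c57)) :=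
  Lgr Lrot149 (Lpe (f51878 IH) (Lpr_gf (f51868 IH) (Lpe (K30.f51854 IH) (Lpr_ct (K54.f51847 IH) (Lpe (f52124 IH) (Lpe (f52127 IH) (Lpr_bt (K54.f52135 IH) (Lpe (K30.f52136 IH) (Lpr_bf (f170563 IH) (Lpr_ct (f170559 IH) (Lpn (LP (LK LD1_c15 LD2_c37 LD3_c57)))))))))))))
theorem f170575 : Led Lsl_bt (LP (LK LD1_c8 LD2_c30 LD3_c3)) = (LP (LK LD1_c15 LD2_c57 LD3_c48)) :=
  Lre_b IH (LK LD1_c8 LD2_c30 LD3_c3) (LK LD1_c15 LD2_c57 LD3_c48) Lrfl Lrfl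
theorem f171113 : Led Lsl_ct (LP (LK LD1_c15 LD2_c57 LD3_c29)) = (LP (LK LD1_c25 LD2_c53 LD3_c54)) :=
  Lre_c IH (LK LD1_c15 LD2_c57 LD3_c29) (LK LD1_c25 LD2_c53 LD3_c54) Lrfl Lrfl
theorem f551218 : Led Lsl_gf (LP (LK LD1_c15 LD2_c57 LD3_c48)) = (LP (LK LD1_c25 LD2_c53 LD3_c53)) :=
  Lgr Lrot124 (Lpe (f170575 IH) (Lpr_ct (f51878 IH) (Lpr_gt (f170573 IH) (Lpe (f170559 IH) (Lpe (f170563 IH) (Lpr_gt (K30.f52136 IH) (Lpr_ct (K50.f170124 IH) (Lpr_gt (K50.f551214 IH) (Lpe (f171113 IH) (Lpr_bt (f243589 IH) (Lpn (LP (LK LD1_c25 LD2_c53 LD3_c53)))))))))))))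
theorem f551220 : Led Lsl_gt (LP (LK LD1_c15 LD2_c57 LD3_c48)) = (LP (LK LD1_c25 LD2_c54 LD3_c30)) :=
  Lre_g IH (LK LD1_c15 LD2_c57 LD3_c48) (LK LD1_c25 LD2_c54 LD3_c30) Lrfl Lrfl
theorem f551221 : Led Lsl_af (LP (LK LD1_c25 LD2_c54 LD3_c30)) = (LP (LK LD1_c16 LD2_c1 LD3_c12)) :=
  Lgr Lrot31 (Lpe (f551220 IH) (Lpr_gf (f551218 IH) (Lpe (f551118 IH) (Lpn (LP (LK LD1_c16 LD2_c1 LD3_c12))))))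
theorem f551262 : Led Lsl_ct (LP (LK LD1_c25 LD2_c54 LD3_c30)) = (LP (LK LD1_c16 LD2_c0 LD3_c7)) :=
  Lgr Lrot111 (Lpr_af (f551221 IH) (Lpe (f271500 IH) (Lpr_af (f551260 IH) (Lpn (LP (LK LD1_c16 LD2_c0 LD3_c7))))))
theorem f551266 : Led Lsl_cf (LP (LK LD1_c25 LD2_c54 LD3_c30)) = (LP (LK LD1_c16 LD2_c0 LD3_c7)) :=
  Lgr Lrot11 (Lpr_ct (f551262 IH) (Lpn (LP (LK LD1_c16 LD2_c0 LD3_c7))))
theorem f250838 : Led Lsl_bt (LP (LK LD1_c4 LD2_c16 LD3_c12)) = (LP (LK LD1_c8 LD2_c31 LD3_c30)) :=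
  Lre_b IH (LK LD1_c4 LD2_c16 LD3_c12) (LK LD1_c8 LD2_c31 LD3_c30) Lrfl Lrfl
theorem f232787 : Led Lsl_bt (LP (LK LD1_c8 LD2_c32 LD3_c41)) = (LP (LK LD1_c4 LD2_c16 LD3_c42)) :=
  Lre_b IH (LK LD1_c8 LD2_c32 LD3_c41) (LK LD1_c4 LD2_c16 LD3_c42) Lrfl Lrfl
theorem f381500 : Led Lsl_bf (LP (LK LD1_c5 LD2_c43 LD3_c31)) = (LP (LK LD1_c4 LD2_c53 LD3_c31)) :=
  Lgr Lrot90 (Lpr_ct (K27.f381489 IH) (Lpr_bt (f232787 IH) (Lpr_ct (K15.f232232 IH) (Lpr_bt (K16.f270667 IH) (Lpe (K18.f270659 IH) (Lpn (LP (LK LD1_c4 LD2_c53 LD3_c31))))))))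
theorem f381518 : Led Lsl_bt (LP (LK LD1_c20 LD2_c13 LD3_c9)) = (LP (LK LD1_c11 LD2_c17 LD3_c7)) :=
  Lre_b IH (LK LD1_c20 LD2_c13 LD3_c9) (LK LD1_c11 LD2_c17 LD3_c7) Lrfl Lrfl
theorem f381519 : Led Lsl_ct (LP (LK LD1_c20 LD2_c13 LD3_c9)) = (LP (LK LD1_c29 LD2_c21 LD3_c57)) :=
  Lre_c IH (LK LD1_c20 LD2_c13 LD3_c9) (LK LD1_c29 LD2_c21 LD3_c57) Lrfl Lrfl
theorem f551278 : Led Lsl_gt (LP (LK LD1_c25 LD2_c54 LD3_c30)) = (LP (LK LD1_c29 LD2_c21 LD3_c57)) :=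
  Lgr Lrot149 (Lpr_cf (f551266 IH) (Lpe (f270678 IH) (Lpe (f250838 IH) (Lpr_ct (K16.f221815 IH) (Lpr_gf (K17.f270674 IH) (Lpe (K16.f270657 IH) (Lpe (f381500 IH) (Lpe (K36.f381496 IH) (Lpe (f381518 IH) (Lpr_ct (f381519 IH) (Lpn (LP (LK LD1_c29 LD2_c21 LD3_c57)))))))))))))
theorem f551280 : Led Lsl_ft (LP (LK LD1_c15 LD2_c57 LD3_c48)) = (LP (LK LD1_c25 LD2_c54 LD3_c18)) :=
  Lre_f IH (LK LD1_c15 LD2_c57 LD3_c48) (LK LD1_c25 LD2_c54 LD3_c18) Lrfl Lrfl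
theorem f551281 : Led Lsl_at (LP (LK LD1_c25 LD2_c54 LD3_c18)) = (LP (LK LD1_c29 LD2_c21 LD3_c57)) :=
  Lgr Lrot26 (Lpe (f551280 IH) (Lpr_gt (f551220 IH) (Lpr_gt (f551278 IH) (Lpn (LP (LK LD1_c29 LD2_c21 LD3_c57))))))
theorem f551283 : Led Lsl_af (LP (LK LD1_c25 LD2_c54 LD3_c18)) = (LP (LK LD1_c29 LD2_c21 LD3_c57)) :=
  Lgr Lrot0 (Lpr_at (f551281 IH) (Lpn (LP (LK LD1_c29 LD2_c21 LD3_c57))))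
theorem f601797 : Led Lsl_bt (LP (LK LD1_c25 LD2_c42 LD3_c20)) = (LP (LK LD1_c29 LD2_c21 LD3_c57)) :=
  Lgr Lrot62 (Lpr_af (K51.f601793 IH) (Lpe (K51.f374194 IH) (Lpe (f551289 IH) (Lpe (f551288 IH) (Lpr_af (f551283 IH) (Lpn (LP (LK LD1_c29 LD2_c21 LD3_c57))))))))
theorem f53883 : Led Lsl_gt (LP (LK LD1_c18 LD2_c43 LD3_c59)) = (LP (LK LD1_c10 LD2_c19 LD3_c10)) :=
  Lre_g IH (LK LD1_c18 LD2_c43 LD3_c59) (LK LD1_c10 LD2_c19 LD3_c10) Lrfl Lrfl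
theorem f374252 : Led Lsl_gf (LP (LK LD1_c18 LD2_c43 LD3_c59)) = (LP (LK LD1_c15 LD2_c59 LD3_c35)) :=
  Lgr Lrot47 (Lpr_gt (f53883 IH) (Lpe (K30.f53870 IH) (Lpr_ff (K30.f374245 IH) (Lpn (LP (LK LD1_c15 LD2_c59 LD3_c35))))))
theorem f402764 : Led Lsl_df (LP (LK LD1_c4 LD2_c28 LD3_c37)) = (LP (LK LD1_c4 LD2_c52 LD3_c21)) :=
  Lgr Lrot162 (Lpe (K27.f191853 IH) (Lpe (K20.f165042 IH) (Lpr_cf (K23.f316565 IH) (Lpr_gf (K23.f278802 IH) (Lpr_dt (K15.f53638 IH) (Lpe (K17.f233214 IH) (Lpr_ct (K31.f219463 IH) (Lpr_gt (K12.f219761 IH) (Lpe (K16.f219769 IH) (Lpn (LP (LK LD1_c4 LD2_c52 LD3_c21))))))))))))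
theorem f367587 : Led Lsl_ft (LP (LK LD1_c4 LD2_c28 LD3_c24)) = (LP (LK LD1_c8 LD2_c53 LD3_c5)) :=
  Lgr Lrot54 (Lpe (K16.f213017 IH) (Lpr_ff (K27.f367581 IH) (Lpe (K16.f220801 IH) (Lpn (LP (LK LD1_c8 LD2_c53 LD3_c5))))))
theorem f372824 : Led Lsl_gt (LP (LK LD1_c8 LD2_c54 LD3_c55)) = (LP (LK LD1_c4 LD2_c28 LD3_c28)) :=
  Lgr Lrot46 (Lpe (K16.f278709 IH) (Lpr_ft (f367587 IH) (Lpr_at (K31.f372737 IH) (Lpn (LP (LK LD1_c4 LD2_c28 LD3_c28))))))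
theorem f402772 : Led Lsl_gt (LP (LK LD1_c4 LD2_c21 LD3_c13)) = (LP (LK LD1_c4 LD2_c52 LD3_c21)) :=
  Lgr Lrot49 (Lpe (K17.f292709 IH) (Lpr_gf (K17.f292719 IH) (Lpe (K16.f278712 IH) (Lpr_gt (f372824 IH) (Lpr_dt (K17.f173158 IH) (Lpr_gt (K9.f173159 IH) (Lpr_dt (K14.f187450 IH) (Lpe (K17.f191852 IH) (Lpr_df (f402764 IH) (Lpn (LP (LK LD1_c4 LD2_c52 LD3_c21))))))))))))
theorem f278707 : Led Lsl_ct (LP (LK LD1_c4 LD2_c28 LD3_c24)) = (LP (LK LD1_c8 LD2_c18 LD3_c60)) :=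
  Lgr Lrot59 (Lpr_cf (K16.f278704 IH) (Lpn (LP (LK LD1_c8 LD2_c18 LD3_c60))))
theorem f402775 : Led Lsl_cf (LP (LK LD1_c4 LD2_c8 LD3_c52)) = (LP (LK LD1_c4 LD2_c52 LD3_c21)) :=
  Lgr Lrot169 (Lpe (K14.f250501 IH) (Lpr_ct (K14.f53420 IH) (Lpe (K16.f250496 IH) (Lpe (f278707 IH) (Lpe (K26.f279193 IH) (Lpr_cf (K16.f267503 IH) (Lpe (K19.f292747 IH) (Lpe (K17.f267109 IH) (Lpr_gt (f402772 IH) (Lpn (LP (LK LD1_c4 LD2_c52 LD3_c21))))))))))))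
theorem f299304 : Led Lsl_bt (LP (LK LD1_c4 LD2_c52 LD3_c21)) = (LP (LK LD1_c9 LD2_c36 LD3_c61)) :=
  Lre_b IH (LK LD1_c4 LD2_c52 LD3_c21) (LK LD1_c9 LD2_c36 LD3_c61) Lrfl Lrfl
theorem f299305 : Led Lsl_gt (LP (LK LD1_c9 LD2_c36 LD3_c61)) = (LP (LK LD1_c17 LD2_c42 LD3_c25)) :=
  Lre_g IH (LK LD1_c9 LD2_c36 LD3_c61) (LK LD1_c17 LD2_c42 LD3_c25) Lrfl Lrfl
theorem f402786 : Led Lsl_bt (LP (LK LD1_c27 LD2_c29 LD3_c36)) = (LP (LK LD1_c17 LD2_c42 LD3_c25)) :=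
  Lre_b IH (LK LD1_c27 LD2_c29 LD3_c36) (LK LD1_c17 LD2_c42 LD3_c25) Lrfl Lrfl
theorem f402787 : Led Lsl_cf (LP (LK LD1_c18 LD2_c43 LD3_c59)) = (LP (LK LD1_c27 LD2_c29 LD3_c36)) :=
  Lgr Lrot160 (Lpr_gt (f53883 IH) (Lpr_cf (K30.f54011 IH) (Lpr_bt (K30.f53985 IH) (Lpe (K17.f233214 IH) (Lpr_ct (K31.f219463 IH) (Lpr_gt (K12.f219761 IH) (Lpr_cf (f402775 IH) (Lpr_bt (f299304 IH) (Lpr_gt (f299305 IH) (Lpe (f402786 IH) (Lpn (LP (LK LD1_c27 LD2_c29 LD3_c36)))))))))))))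
theorem f402790 : Led Lsl_ct (LP (LK LD1_c18 LD2_c43 LD3_c59)) = (LP (LK LD1_c27 LD2_c29 LD3_c36)) :=
  Lgr Lrot59 (Lpr_cf (f402787 IH) (Lpn (LP (LK LD1_c27 LD2_c29 LD3_c36))))
theorem f398326 : Led Lsl_bt (LP (LK LD1_c16 LD2_c0 LD3_c7)) = (LP (LK LD1_c25 LD2_c57 LD3_c27)) :=
  Lre_b IH (LK LD1_c16 LD2_c0 LD3_c7) (LK LD1_c25 LD2_c57 LD3_c27) Lrfl Lrfl
theorem f326162 : Led Lsl_ct (LP (LK LD1_c9 LD2_c38 LD3_c0)) = (LP (LK LD1_c17 LD2_c43 LD3_c42)) :=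
  Lre_c IH (LK LD1_c9 LD2_c38 LD3_c0) (LK LD1_c17 LD2_c43 LD3_c42) Lrfl Lrfl
theorem f398310 : Led Lsl_bf (LP (LK LD1_c26 LD2_c15 LD3_c45)) = (LP (LK LD1_c27 LD2_c31 LD3_c38)) :=
  Lgr Lrot90 (Lpr_ct (K53.f397786 IH) (Lpr_bt (K30.f229278 IH) (Lpr_ct (f326162 IH) (Lpe (K53.f326204 IH) (Lpr_ct (K53.f304553 IH) (Lpn (LP (LK LD1_c27 LD2_c31 LD3_c38))))))))
theorem f397633 : Led Lsl_ct (LP (LK LD1_c16 LD2_c17 LD3_c51)) = (LP (LK LD1_c8 LD2_c42 LD3_c1)) :=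
  Lre_c IH (LK LD1_c16 LD2_c17 LD3_c51) (LK LD1_c8 LD2_c42 LD3_c1) Lrfl Lrfl
theorem f276613 : Led Lsl_bt (LP (LK LD1_c9 LD2_c36 LD3_c56)) = (LP (LK LD1_c4 LD2_c52 LD3_c19)) :=
  Lre_b IH (LK LD1_c9 LD2_c36 LD3_c56) (LK LD1_c4 LD2_c52 LD3_c19) Lrfl Lrfl
theorem f398312 : Led Lsl_ct (LP (LK LD1_c9 LD2_c36 LD3_c56)) = (LP (LK LD1_c9 LD2_c38 LD3_c59)) :=
  Lgr Lrot64 (Lpr_bt (f276613 IH) (Lpe (K16.f276602 IH) (Lpe (K52.f39521 IH) (Lpr_ct (K52.f39519 IH) (Lpe (K31.f397773 IH) (Lpe (f397633 IH) (Lpe (K30.f397788 IH) (Lpr_bf (f398310 IH) (Lpr_ct (K53.f318817 IH) (Lpe (K53.f166646 IH) (Lpn (LP (LK LD1_c9 LD2_c38 LD3_c59)))))))))))))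
theorem f267610 : Led Lsl_bt (LP (LK LD1_c8 LD2_c22 LD3_c45)) = (LP (LK LD1_c15 LD2_c45 LD3_c57)) :=
  Lre_b IH (LK LD1_c8 LD2_c22 LD3_c45) (LK LD1_c15 LD2_c45 LD3_c57) Lrfl Lrfl
theorem f304640 : Led Lsl_bt (LP (LK LD1_c16 LD2_c5 LD3_c24)) = (LP (LK LD1_c8 LD2_c34 LD3_c26)) :=
  Lre_b IH (LK LD1_c16 LD2_c5 LD3_c24) (LK LD1_c8 LD2_c34 LD3_c26) Lrfl Lrfl
theorem f304654 : Led Lsl_ft (LP (LK LD1_c15 LD2_c45 LD3_c57)) = (LP (LK LD1_c16 LD2_c5 LD3_c24)) :=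
  Lgr Lrot75 (Lpe (f267610 IH) (Lpr_ff (K19.f304650 IH) (Lpe (f304640 IH) (Lpn (LP (LK LD1_c16 LD2_c5 LD3_c24))))))
theorem f304659 : Led Lsl_ff (LP (LK LD1_c15 LD2_c45 LD3_c57)) = (LP (LK LD1_c16 LD2_c5 LD3_c24)) :=
  Lgr Lrot3 (Lpr_ft (f304654 IH) (Lpn (LP (LK LD1_c16 LD2_c5 LD3_c24))))
theorem f290113 : Led Lsl_bt (LP (LK LD1_c9 LD2_c36 LD3_c34)) = (LP (LK LD1_c4 LD2_c52 LD3_c6)) :=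
  Lre_b IH (LK LD1_c9 LD2_c36 LD3_c34) (LK LD1_c4 LD2_c52 LD3_c6) Lrfl Lrfl
theorem f290114 : Led Lsl_dt (LP (LK LD1_c15 LD2_c45 LD3_c57)) = (LP (LK LD1_c9 LD2_c36 LD3_c34)) :=
  Lgr Lrot79 (Lpe (f267610 IH) (Lpr_df (K17.f290109 IH) (Lpe (f290113 IH) (Lpn (LP (LK LD1_c9 LD2_c36 LD3_c34))))))
theorem f304641 : Led Lsl_dt (LP (LK LD1_c9 LD2_c38 LD3_c59)) = (LP (LK LD1_c16 LD2_c5 LD3_c24)) :=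
  Lgr Lrot79 (Lpe (K53.f166645 IH) (Lpr_df (K18.f304551 IH) (Lpe (f304640 IH) (Lpn (LP (LK LD1_c16 LD2_c5 LD3_c24))))))
theorem f304664 : Led Lsl_ft (LP (LK LD1_c9 LD2_c36 LD3_c34)) = (LP (LK LD1_c9 LD2_c38 LD3_c59)) :=
  Lgr Lrot54 (Lpe (f290114 IH) (Lpr_ff (f304659 IH) (Lpe (f304641 IH) (Lpn (LP (LK LD1_c9 LD2_c38 LD3_c59))))))
theorem f292707 : Led Lsl_cf (LP (LK LD1_c4 LD2_c21 LD3_c13)) = (LP (LK LD1_c2 LD2_c24 LD3_c27)) :=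
  Lgr Lrot11 (Lpr_ct (K17.f292659 IH) (Lpn (LP (LK LD1_c2 LD2_c24 LD3_c27))))
theorem f304523 : Led Lsl_cf (LP (LK LD1_c9 LD2_c36 LD3_c34)) = (LP (LK LD1_c8 LD2_c40 LD3_c2)) :=
  Lgr Lrot97 (Lpr_bt (f290113 IH) (Lpr_ct (K17.f222116 IH) (Lpr_bt (K18.f304509 IH) (Lpe (f292707 IH) (Lpr_bt (K41.f292721 IH) (Lpn (LP (LK LD1_c8 LD2_c40 LD3_c2))))))))
theorem f304533 : Led Lsl_ct (LP (LK LD1_c9 LD2_c38 LD3_c59)) = (LP (LK LD1_c9 LD2_c36 LD3_c56)) :=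
  Lgr Lrot83 (Lpe (K53.f166645 IH) (Lpe (K18.f166639 IH) (Lpr_bf (K18.f304527 IH) (Lpe (K16.f276591 IH) (Lpe (f276613 IH) (Lpn (LP (LK LD1_c9 LD2_c36 LD3_c56))))))))
theorem f304669 : Led Lsl_ff (LP (LK LD1_c8 LD2_c40 LD3_c2)) = (LP (LK LD1_c9 LD2_c36 LD3_c56)) :=
  Lgr Lrot23 (Lpe (f304523 IH) (Lpr_ft (f304664 IH) (Lpr_ct (f304533 IH) (Lpn (LP (LK LD1_c9 LD2_c36 LD3_c56))))))
theorem f304676 : Led Lsl_ft (LP (LK LD1_c8 LD2_c40 LD3_c2)) = (LP (LK LD1_c9 LD2_c36 LD3_c56)) :=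
  Lgr Lrot48 (Lpr_ff (f304669 IH) (Lpn (LP (LK LD1_c9 LD2_c36 LD3_c56))))
theorem f290141 : Led Lsl_ft (LP (LK LD1_c9 LD2_c38 LD3_c59)) = (LP (LK LD1_c9 LD2_c36 LD3_c34)) :=
  Lgr Lrot75 (Lpe (K53.f166645 IH) (Lpr_ff (K17.f290130 IH) (Lpe (f290113 IH) (Lpn (LP (LK LD1_c9 LD2_c36 LD3_c34))))))
theorem f398314 : Led Lsl_cf (LP (LK LD1_c8 LD2_c40 LD3_c2)) = (LP (LK LD1_c9 LD2_c36 LD3_c34)) :=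
  Lgr Lrot108 (Lpr_ft (f304676 IH) (Lpr_ct (f398312 IH) (Lpr_ft (f290141 IH) (Lpn (LP (LK LD1_c9 LD2_c36 LD3_c34))))))
theorem f292730 : Led Lsl_gt (LP (LK LD1_c16 LD2_c13 LD3_c52)) = (LP (LK LD1_c8 LD2_c40 LD3_c2)) :=
  Lre_g IH (LK LD1_c16 LD2_c13 LD3_c52) (LK LD1_c8 LD2_c40 LD3_c2) Lrfl Lrfl
theorem f270679 : Led Lsl_bt (LP (LK LD1_c25 LD2_c57 LD3_c27)) = (LP (LK LD1_c16 LD2_c0 LD3_c7)) :=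
  Lre_b IH (LK LD1_c25 LD2_c57 LD3_c27) (LK LD1_c16 LD2_c0 LD3_c7) Lrfl Lrfl
theorem f398324 : Led Lsl_cf (LP (LK LD1_c16 LD2_c13 LD3_c52)) = (LP (LK LD1_c25 LD2_c57 LD3_c27)) :=
  Lgr Lrot160 (Lpr_gt (f292730 IH) (Lpr_cf (f398314 IH) (Lpr_bt (f290113 IH) (Lpe (K17.f290147 IH) (Lpr_ct (K16.f270657 IH) (Lpe (K17.f270674 IH) (Lpe (K16.f221815 IH) (Lpr_bt (f250838 IH) (Lpr_gt (f270678 IH) (Lpe (f270679 IH) (Lpn (LP (LK LD1_c25 LD2_c57 LD3_c27)))))))))))))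
theorem f397880 : Led Lsl_at (LP (LK LD1_c16 LD2_c1 LD3_c41)) = (LP (LK LD1_c8 LD2_c32 LD3_c11)) :=
  Lre_a IH (LK LD1_c16 LD2_c1 LD3_c41) (LK LD1_c8 LD2_c32 LD3_c11) Lrfl Lrfl
theorem f374402 : Led Lsl_gt (LP (LK LD1_c16 LD2_c1 LD3_c40)) = (LP (LK LD1_c8 LD2_c32 LD3_c11)) :=
  Lre_g IH (LK LD1_c16 LD2_c1 LD3_c40) (LK LD1_c8 LD2_c32 LD3_c11) Lrfl Lrfl
theorem f398235 : Led Lsl_gt (LP (LK LD1_c25 LD2_c43 LD3_c49)) = (LP (LK LD1_c16 LD2_c1 LD3_c40)) :=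
  Lgr Lrot5 (Lpr_ft (K31.f398233 IH) (Lpr_at (f397880 IH) (Lpe (f374402 IH) (Lpn (LP (LK LD1_c16 LD2_c1 LD3_c40))))))
theorem f398238 : Led Lsl_ct (LP (LK LD1_c25 LD2_c59 LD3_c8)) = (LP (LK LD1_c16 LD2_c1 LD3_c40)) :=
  Lre_c IH (LK LD1_c25 LD2_c59 LD3_c8) (LK LD1_c16 LD2_c1 LD3_c40) Lrfl Lrfl
theorem f398239 : Led Lsl_bf (LP (LK LD1_c16 LD2_c13 LD3_c52)) = (LP (LK LD1_c25 LD2_c59 LD3_c8)) :=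
  Lgr Lrot156 (Lpr_gt (f292730 IH) (Lpe (K41.f292721 IH) (Lpr_ct (K17.f292659 IH) (Lpr_gt (K17.f279251 IH) (Lpe (K17.f279255 IH) (Lpr_bt (K30.f279259 IH) (Lpr_gt (K30.f292727 IH) (Lpe (K30.f397906 IH) (Lpr_gt (f398235 IH) (Lpe (f398238 IH) (Lpn (LP (LK LD1_c25 LD2_c59 LD3_c8)))))))))))))
theorem f398241 : Led Lsl_bt (LP (LK LD1_c16 LD2_c13 LD3_c52)) = (LP (LK LD1_c25 LD2_c59 LD3_c8)) :=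
  Lgr Lrot127 (Lpr_bf (f398239 IH) (Lpn (LP (LK LD1_c25 LD2_c59 LD3_c8))))
theorem f551264 : Led Lsl_bf (LP (LK LD1_c25 LD2_c54 LD3_c30)) = (LP (LK LD1_c16 LD2_c1 LD3_c40)) :=
  Lgr Lrot90 (Lpr_ct (f551262 IH) (Lpr_bt (f398326 IH) (Lpe (f398324 IH) (Lpr_bt (f398241 IH) (Lpr_ct (f398238 IH) (Lpn (LP (LK LD1_c16 LD2_c1 LD3_c40))))))))
theorem f398237 : Led Lsl_ct (LP (LK LD1_c16 LD2_c1 LD3_c40)) = (LP (LK LD1_c25 LD2_c59 LD3_c8)) :=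
  Lre_c IH (LK LD1_c16 LD2_c1 LD3_c40) (LK LD1_c25 LD2_c59 LD3_c8) Lrfl Lrfl
theorem f601942 : Led Lsl_gt (LP (LK LD1_c27 LD2_c29 LD3_c36)) = (LP (LK LD1_c25 LD2_c59 LD3_c8)) :=
  Lgr Lrot149 (Lpe (f402790 IH) (Lpr_gf (f374252 IH) (Lpe (K30.f374220 IH) (Lpr_ct (K30.f374222 IH) (Lpr_gf (K51.f191994 IH) (Lpe (K51.f191996 IH) (Lpr_bt (f601797 IH) (Lpe (f551278 IH) (Lpr_bf (f551264 IH) (Lpr_ct (f398237 IH) (Lpn (LP (LK LD1_c25 LD2_c59 LD3_c8)))))))))))))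
theorem f402789 : Led Lsl_bt (LP (LK LD1_c17 LD2_c42 LD3_c25)) = (LP (LK LD1_c27 LD2_c29 LD3_c36)) :=
  Lre_b IH (LK LD1_c17 LD2_c42 LD3_c25) (LK LD1_c27 LD2_c29 LD3_c36) Lrfl Lrfl
theorem f398327 : Led Lsl_ct (LP (LK LD1_c16 LD2_c13 LD3_c52)) = (LP (LK LD1_c25 LD2_c57 LD3_c27)) :=
  Lgr Lrot59 (Lpr_cf (f398324 IH) (Lpn (LP (LK LD1_c25 LD2_c57 LD3_c27))))
theorem f243874 : Led Lsl_bt (LP (LK LD1_c9 LD2_c46 LD3_c3)) = (LP (LK LD1_c17 LD2_c55 LD3_c51)) :=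
  Lre_b IH (LK LD1_c9 LD2_c46 LD3_c3) (LK LD1_c17 LD2_c55 LD3_c51) Lrfl Lrfl
theorem f398329 : Led Lsl_gt (LP (LK LD1_c17 LD2_c55 LD3_c51)) = (LP (LK LD1_c25 LD2_c57 LD3_c27)) :=
  Lgr Lrot82 (Lpe (f243874 IH) (Lpr_ct (K39.f318713 IH) (Lpe (K27.f313555 IH) (Lpe (K27.f381489 IH) (Lpr_bt (K54.f381579 IH) (Lpr_gf (K17.f290147 IH) (Lpe (f290113 IH) (Lpe (f398314 IH) (Lpe (f292730 IH) (Lpr_cf (f398324 IH) (Lpn (LP (LK LD1_c25 LD2_c57 LD3_c27)))))))))))))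
theorem f243850 : Led Lsl_ft (LP (LK LD1_c17 LD2_c55 LD3_c51)) = (LP (LK LD1_c11 LD2_c18 LD3_c10)) :=
  Lre_f IH (LK LD1_c17 LD2_c55 LD3_c51) (LK LD1_c11 LD2_c18 LD3_c10) Lrfl Lrfl
theorem f243849 : Led Lsl_at (LP (LK LD1_c11 LD2_c18 LD3_c10)) = (LP (LK LD1_c20 LD2_c14 LD3_c25)) :=
  Lre_a IH (LK LD1_c11 LD2_c18 LD3_c10) (LK LD1_c20 LD2_c14 LD3_c25) Lrfl Lrfl
theorem f398331 : Led Lsl_gf (LP (LK LD1_c20 LD2_c14 LD3_c25)) = (LP (LK LD1_c25 LD2_c57 LD3_c27)) :=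
  Lgr Lrot76 (Lpe (f243849 IH) (Lpe (f243850 IH) (Lpr_gt (f398329 IH) (Lpn (LP (LK LD1_c25 LD2_c57 LD3_c27))))))
theorem f170386 : Led Lsl_ct (LP (LK LD1_c8 LD2_c34 LD3_c60)) = (LP (LK LD1_c8 LD2_c22 LD3_c59)) :=
  Lgr Lrot59 (Lpr_cf (K53.f170330 IH) (Lpn (LP (LK LD1_c8 LD2_c22 LD3_c59))))
theorem f170405 : Led Lsl_cf (LP (LK LD1_c16 LD2_c6 LD3_c17)) = (LP (LK LD1_c15 LD2_c46 LD3_c19)) :=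
  Lgr Lrot97 (Lpr_bt (K53.f170403 IH) (Lpr_ct (f170386 IH) (Lpr_bt (K53.f167037 IH) (Lpr_ct (K54.f167034 IH) (Lpr_bt (K41.f170404 IH) (Lpn (LP (LK LD1_c15 LD2_c46 LD3_c19))))))))
theorem f170392 : Led Lsl_gt (LP (LK LD1_c16 LD2_c6 LD3_c17)) = (LP (LK LD1_c26 LD2_c3 LD3_c11)) :=
  Lre_g IH (LK LD1_c16 LD2_c6 LD3_c17) (LK LD1_c26 LD2_c3 LD3_c11) Lrfl Lrfl
theorem f601946 : Led Lsl_ct (LP (LK LD1_c17 LD2_c42 LD3_c25)) = (LP (LK LD1_c26 LD2_c3 LD3_c11)) :=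
  Lgr Lrot63 (Lpr_bt (f402789 IH) (Lpr_gt (f601942 IH) (Lpe (f398241 IH) (Lpr_ct (f398327 IH) (Lpe (f398331 IH) (Lpr_cf (K53.f318811 IH) (Lpr_bt (K53.f192384 IH) (Lpr_gt (K53.f192372 IH) (Lpe (f170405 IH) (Lpr_gt (f170392 IH) (Lpn (LP (LK LD1_c26 LD2_c3 LD3_c11)))))))))))))
theorem f601948 : Led Lsl_cf (LP (LK LD1_c17 LD2_c42 LD3_c25)) = (LP (LK LD1_c26 LD2_c3 LD3_c11)) :=
  Lgr Lrot11 (Lpr_ct (f601946 IH) (Lpn (LP (LK LD1_c26 LD2_c3 LD3_c11))))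
theorem f270910 : Led Lsl_bt (LP (LK LD1_c9 LD2_c36 LD3_c61)) = (LP (LK LD1_c4 LD2_c52 LD3_c21)) :=
  Lre_b IH (LK LD1_c9 LD2_c36 LD3_c61) (LK LD1_c4 LD2_c52 LD3_c21) Lrfl Lrfl
theorem f402778 : Led Lsl_ct (LP (LK LD1_c8 LD2_c20 LD3_c12)) = (LP (LK LD1_c9 LD2_c36 LD3_c61)) :=
  Lgr Lrot83 (Lpe (K27.f170852 IH) (Lpe (K12.f170851 IH) (Lpr_bf (K17.f219746 IH) (Lpr_cf (f402775 IH) (Lpe (f270910 IH) (Lpn (LP (LK LD1_c9 LD2_c36 LD3_c61))))))))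
theorem f250596 : Led Lsl_ct (LP (LK LD1_c16 LD2_c0 LD3_c51)) = (LP (LK LD1_c8 LD2_c31 LD3_c52)) :=
  Lre_c IH (LK LD1_c16 LD2_c0 LD3_c51) (LK LD1_c8 LD2_c31 LD3_c52) Lrfl Lrfl
theorem f374762 : Led Lsl_ct (LP (LK LD1_c8 LD2_c31 LD3_c52)) = (LP (LK LD1_c16 LD2_c0 LD3_c51)) :=
  Lre_c IH (LK LD1_c8 LD2_c31 LD3_c52) (LK LD1_c16 LD2_c0 LD3_c51) Lrfl Lrfl
theorem f398907 : Led Lsl_ff (LP (LK LD1_c25 LD2_c40 LD3_c48)) = (LP (LK LD1_c16 LD2_c0 LD3_c51)) :=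
  Lgr Lrot23 (Lpe (K49.f373160 IH) (Lpr_ft (K31.f398900 IH) (Lpr_ct (f374762 IH) (Lpn (LP (LK LD1_c16 LD2_c0 LD3_c51))))))
theorem f373164 : Led Lsl_ct (LP (LK LD1_c15 LD2_c57 LD3_c35)) = (LP (LK LD1_c25 LD2_c40 LD3_c48)) :=
  Lgr Lrot59 (Lpr_cf (K49.f373160 IH) (Lpn (LP (LK LD1_c25 LD2_c40 LD3_c48))))
theorem f398859 : Led Lsl_at (LP (LK LD1_c25 LD2_c40 LD3_c48)) = (LP (LK LD1_c16 LD2_c0 LD3_c47)) :=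
  Lgr Lrot107 (Lpe (f373164 IH) (Lpr_af (K31.f398853 IH) (Lpe (K20.f250556 IH) (Lpn (LP (LK LD1_c16 LD2_c0 LD3_c47))))))
theorem f400011 : Led Lsl_at (LP (LK LD1_c25 LD2_c54 LD3_c1)) = (LP (LK LD1_c16 LD2_c0 LD3_c51)) :=
  Lgr Lrot66 (Lpr_ff (K31.f398845 IH) (Lpe (f398859 IH) (Lpr_ff (f398907 IH) (Lpn (LP (LK LD1_c16 LD2_c0 LD3_c51))))))
theorem f250531 : Led Lsl_gt (LP (LK LD1_c16 LD2_c0 LD3_c47)) = (LP (LK LD1_c25 LD2_c58 LD3_c7)) :=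
  Lre_g IH (LK LD1_c16 LD2_c0 LD3_c47) (LK LD1_c25 LD2_c58 LD3_c7) Lrfl Lrfl
theorem f400015 : Led Lsl_gt (LP (LK LD1_c25 LD2_c58 LD3_c7)) = (LP (LK LD1_c16 LD2_c0 LD3_c51)) :=
  Lgr Lrot46 (Lpe (f250531 IH) (Lpe (K31.f398845 IH) (Lpr_at (f400011 IH) (Lpn (LP (LK LD1_c16 LD2_c0 LD3_c51))))))
theorem f601951 : Led Lsl_bf (LP (LK LD1_c25 LD2_c58 LD3_c7)) = (LP (LK LD1_c26 LD2_c3 LD3_c11)) :=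
  Lgr Lrot165 (Lpr_gt (f400015 IH) (Lpr_ct (f250596 IH) (Lpr_gt (K31.f243326 IH) (Lpe (K20.f250513 IH) (Lpr_bt (K20.f250586 IH) (Lpr_gt (K14.f219144 IH) (Lpe (f219147 IH) (Lpr_ct (f402778 IH) (Lpr_gt (f299305 IH) (Lpr_cf (f601948 IH) (Lpn (LP (LK LD1_c26 LD2_c3 LD3_c11)))))))))))))
theorem f292732 : Led Lsl_bf (LP (LK LD1_c8 LD2_c42 LD3_c8)) = (LP (LK LD1_c16 LD2_c8 LD3_c40)) :=
  Lgr Lrot24 (Lpr_bt (K30.f292728 IH) (Lpn (LP (LK LD1_c16 LD2_c8 LD3_c40))))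
theorem f292742 : Led Lsl_ft (LP (LK LD1_c8 LD2_c42 LD3_c8)) = (LP (LK LD1_c16 LD2_c17 LD3_c51)) :=
  Lre_f IH (LK LD1_c8 LD2_c42 LD3_c8) (LK LD1_c16 LD2_c17 LD3_c51) Lrfl Lrfl
theorem f398247 : Led Lsl_bf (LP (LK LD1_c15 LD2_c24 LD3_c12)) = (LP (LK LD1_c16 LD2_c17 LD3_c51)) :=
  Lgr Lrot61 (Lpr_ft (K31.f398243 IH) (Lpe (f292732 IH) (Lpr_ft (f292742 IH) (Lpn (LP (LK LD1_c16 LD2_c17 LD3_c51))))))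
theorem f39465 : Led Lsl_ct (LP (LK LD1_c8 LD2_c40 LD3_c7)) = (LP (LK LD1_c4 LD2_c22 LD3_c8)) :=
  Lre_c IH (LK LD1_c8 LD2_c40 LD3_c7) (LK LD1_c4 LD2_c22 LD3_c8) Lrfl Lrfl
theorem f381571 : Led Lsl_bt (LP (LK LD1_c11 LD2_c17 LD3_c37)) = (LP (LK LD1_c5 LD2_c43 LD3_c49)) :=
  Lre_b IH (LK LD1_c11 LD2_c17 LD3_c37) (LK LD1_c5 LD2_c43 LD3_c49) Lrfl Lrfl
theorem f382297 : Led Lsl_et (LP (LK LD1_c5 LD2_c43 LD3_c49)) = (LP (LK LD1_c11 LD2_c17 LD3_c39)) :=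
  Lre_e IH (LK LD1_c5 LD2_c43 LD3_c49) (LK LD1_c11 LD2_c17 LD3_c39) Lrfl Lrfl
theorem f382298 : Led Lsl_bt (LP (LK LD1_c11 LD2_c17 LD3_c39)) = (LP (LK LD1_c8 LD2_c40 LD3_c7)) :=
  Lgr Lrot119 (Lpe (f382297 IH) (Lpe (f381571 IH) (Lpr_ef (K49.f382293 IH) (Lpn (LP (LK LD1_c8 LD2_c40 LD3_c7))))))
theorem f382340 : Led Lsl_bf (LP (LK LD1_c11 LD2_c17 LD3_c39)) = (LP (LK LD1_c8 LD2_c40 LD3_c7)) :=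
  Lgr Lrot24 (Lpr_bt (f382298 IH) (Lpn (LP (LK LD1_c8 LD2_c40 LD3_c7))))
theorem f402792 : Led Lsl_gf (LP (LK LD1_c11 LD2_c17 LD3_c39)) = (LP (LK LD1_c17 LD2_c42 LD3_c25)) :=
  Lgr Lrot124 (Lpr_bf (f382340 IH) (Lpr_ct (f39465 IH) (Lpe (K38.f398334 IH) (Lpe (f397633 IH) (Lpe (f398247 IH) (Lpe (K31.f374387 IH) (Lpr_ct (K30.f374398 IH) (Lpe (f374252 IH) (Lpr_cf (f402787 IH) (Lpr_bt (f402786 IH) (Lpn (LP (LK LD1_c17 LD2_c42 LD3_c25)))))))))))))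
theorem f39021 : Led Lsl_bt (LP (LK LD1_c3 LD2_c57 LD3_c7)) = (LP (LK LD1_c1 LD2_c55 LD3_c19)) :=
  Lre_b IH (LK LD1_c3 LD2_c57 LD3_c7) (LK LD1_c1 LD2_c55 LD3_c19) Lrfl Lrfl
theorem f39024 : Led Lsl_at (LP (LK LD1_c2 LD2_c8 LD3_c31)) = (LP (LK LD1_c4 LD2_c22 LD3_c8)) :=
  Lre_a IH (LK LD1_c2 LD2_c8 LD3_c31) (LK LD1_c4 LD2_c22 LD3_c8) Lrfl Lrfl
theorem f39025 : Led Lsl_bf (LP (LK LD1_c7 LD2_c55 LD3_c58)) = (LP (LK LD1_c4 LD2_c22 LD3_c8)) :=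
  Lgr Lrot81 (Lpr_at (K50.f39022 IH) (Lpr_bt (f39021 IH) (Lpr_at (K1.f38998 IH) (Lpr_bt (K30.f39023 IH) (Lpr_at (f39024 IH) (Lpn (LP (LK LD1_c4 LD2_c22 LD3_c8))))))))
theorem f43164 : Led Lsl_bt (LP (LK LD1_c10 LD2_c32 LD3_c49)) = (LP (LK LD1_c10 LD2_c32 LD3_c40)) :=
  Lgr Lrot127 (Lpr_bf (f43162 IH) (Lpn (LP (LK LD1_c10 LD2_c32 LD3_c40))))
theorem f382342 : Led Lsl_cf (LP (LK LD1_c11 LD2_c17 LD3_c39)) = (LP (LK LD1_c10 LD2_c32 LD3_c40)) :=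
  Lgr Lrot97 (Lpr_bt (f382298 IH) (Lpr_ct (f39465 IH) (Lpe (f39025 IH) (Lpe (K50.f43203 IH) (Lpr_bt (f43164 IH) (Lpn (LP (LK LD1_c10 LD2_c32 LD3_c40))))))))
theorem f237500 : Led Lsl_cf (LP (LK LD1_c9 LD2_c38 LD3_c16)) = (LP (LK LD1_c16 LD2_c3 LD3_c60)) :=
  Lgr Lrot11 (Lpr_ct (K50.f237481 IH) (Lpn (LP (LK LD1_c16 LD2_c3 LD3_c60))))
theorem f601955 : Led Lsl_gf (LP (LK LD1_c17 LD2_c43 LD3_c61)) = (LP (LK LD1_c9 LD2_c38 LD3_c16)) :=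
  Lgr Lrot129 (Lpe (K20.f229446 IH) (Lpe (K31.f250557 IH) (Lpr_gt (f250531 IH) (Lpr_bf (f601951 IH) (Lpe (f601948 IH) (Lpe (f402792 IH) (Lpr_cf (f382342 IH) (Lpe (f43162 IH) (Lpr_gt (K50.f199884 IH) (Lpe (f237500 IH) (Lpn (LP (LK LD1_c9 LD2_c38 LD3_c16)))))))))))))
theorem f718453 : Led Lsl_gt (LP (LK LD1_c8 LD2_c35 LD3_c20)) = v13987 :=
  Lgr Lrot65 (Lpe (K52.f421836 IH) (Lpe (K52.f421830 IH) (Lpe (K49.f229450 IH) (Lpe (K49.f229449 IH) (Lpr_ct (K49.f39656 IH) (Lpe (K20.f43198 IH) (Lpr_cf (K20.f229441 IH) (Lpr_gf (f601955 IH) (Lpe (f237499 IH) (Lpr_ct (f718451 IH) (Lpn v13987)))))))))))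
def v36253 : LQ := Led Lsl_gf (LP (LK LD1_c8 LD2_c22 LD3_c59))
theorem f882998 : Led Lsl_gf (LP (LK LD1_c8 LD2_c22 LD3_c59)) = v36253 :=
  Lrfl
def v36212 : LQ := Led Lsl_gf (LP (LK LD1_c8 LD2_c22 LD3_c21))
theorem f882774 : Led Lsl_gf (LP (LK LD1_c8 LD2_c22 LD3_c21)) = v36212 :=
  Lrfl
theorem f170323 : Led Lsl_at (LP (LK LD1_c8 LD2_c34 LD3_c61)) = (LP (LK LD1_c4 LD2_c18 LD3_c2)) :=
  Lre_a IH (LK LD1_c8 LD2_c34 LD3_c61) (LK LD1_c4 LD2_c18 LD3_c2) Lrfl Lrfl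
theorem f406070 : Led Lsl_ft (LP (LK LD1_c8 LD2_c22 LD3_c4)) = (LP (LK LD1_c8 LD2_c34 LD3_c61)) :=
  Lgr Lrot101 (Lpe (K49.f170902 IH) (Lpr_ff (K49.f406068 IH) (Lpe (f170323 IH) (Lpn (LP (LK LD1_c8 LD2_c34 LD3_c61))))))
theorem f170904 : Led Lsl_dt (LP (LK LD1_c15 LD2_c44 LD3_c48)) = (LP (LK LD1_c8 LD2_c22 LD3_c4)) :=
  Lre_d IH (LK LD1_c15 LD2_c44 LD3_c48) (LK LD1_c8 LD2_c22 LD3_c4) Lrfl Lrfl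
theorem f170265 : Led Lsl_dt (LP (LK LD1_c8 LD2_c34 LD3_c61)) = (LP (LK LD1_c16 LD2_c6 LD3_c19)) :=
  Lre_d IH (LK LD1_c8 LD2_c34 LD3_c61) (LK LD1_c16 LD2_c6 LD3_c19) Lrfl Lrfl
theorem f406184 : Led Lsl_ff (LP (LK LD1_c15 LD2_c44 LD3_c48)) = (LP (LK LD1_c16 LD2_c6 LD3_c19)) :=
  Lgr Lrot19 (Lpr_dt (f170904 IH) (Lpr_ft (f406070 IH) (Lpr_dt (f170265 IH) (Lpn (LP (LK LD1_c16 LD2_c6 LD3_c19))))))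
theorem f406194 : Led Lsl_ft (LP (LK LD1_c15 LD2_c44 LD3_c48)) = (LP (LK LD1_c16 LD2_c6 LD3_c19)) :=
  Lgr Lrot48 (Lpr_ff (f406184 IH) (Lpn (LP (LK LD1_c16 LD2_c6 LD3_c19))))
theorem f406200 : Led Lsl_bt (LP (LK LD1_c25 LD2_c40 LD3_c49)) = (LP (LK LD1_c15 LD2_c44 LD3_c48)) :=
  Lre_b IH (LK LD1_c25 LD2_c40 LD3_c49) (LK LD1_c15 LD2_c44 LD3_c48) Lrfl Lrfl
theorem f406201 : Led Lsl_bt (LP (LK LD1_c16 LD2_c6 LD3_c19)) = (LP (LK LD1_c26 LD2_c3 LD3_c2)) :=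
  Lre_b IH (LK LD1_c16 LD2_c6 LD3_c19) (LK LD1_c26 LD2_c3 LD3_c2) Lrfl Lrfl
theorem f406202 : Led Lsl_ff (LP (LK LD1_c25 LD2_c40 LD3_c49)) = (LP (LK LD1_c26 LD2_c3 LD3_c2)) :=
  Lgr Lrot25 (Lpr_bt (f406200 IH) (Lpr_ft (f406194 IH) (Lpr_bt (f406201 IH) (Lpn (LP (LK LD1_c26 LD2_c3 LD3_c2))))))
theorem f406084 : Led Lsl_dt (LP (LK LD1_c25 LD2_c40 LD3_c49)) = (LP (LK LD1_c15 LD2_c44 LD3_c28)) :=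
  Lre_d IH (LK LD1_c25 LD2_c40 LD3_c49) (LK LD1_c15 LD2_c44 LD3_c28) Lrfl Lrfl
theorem f406050 : Led Lsl_dt (LP (LK LD1_c16 LD2_c6 LD3_c0)) = (LP (LK LD1_c26 LD2_c3 LD3_c2)) :=
  Lre_d IH (LK LD1_c16 LD2_c6 LD3_c0) (LK LD1_c26 LD2_c3 LD3_c2) Lrfl Lrfl
theorem f406208 : Led Lsl_ft (LP (LK LD1_c15 LD2_c44 LD3_c28)) = (LP (LK LD1_c16 LD2_c6 LD3_c0)) :=
  Lgr Lrot54 (Lpe (f406084 IH) (Lpr_ff (f406202 IH) (Lpe (f406050 IH) (Lpn (LP (LK LD1_c16 LD2_c6 LD3_c0))))))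
theorem f406037 : Led Lsl_at (LP (LK LD1_c16 LD2_c6 LD3_c0)) = (LP (LK LD1_c8 LD2_c34 LD3_c51)) :=
  Lre_a IH (LK LD1_c16 LD2_c6 LD3_c0) (LK LD1_c8 LD2_c34 LD3_c51) Lrfl Lrfl
theorem f406024 : Led Lsl_gt (LP (LK LD1_c16 LD2_c5 LD3_c61)) = (LP (LK LD1_c8 LD2_c34 LD3_c51)) :=
  Lre_g IH (LK LD1_c16 LD2_c5 LD3_c61) (LK LD1_c8 LD2_c34 LD3_c51) Lrfl Lrfl
theorem f406212 : Led Lsl_gt (LP (LK LD1_c15 LD2_c44 LD3_c28)) = (LP (LK LD1_c16 LD2_c5 LD3_c61)) :=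
  Lgr Lrot5 (Lpr_ft (f406208 IH) (Lpr_at (f406037 IH) (Lpe (f406024 IH) (Lpn (LP (LK LD1_c16 LD2_c5 LD3_c61))))))
theorem f170905 : Led Lsl_bt (LP (LK LD1_c8 LD2_c22 LD3_c4)) = (LP (LK LD1_c15 LD2_c44 LD3_c28)) :=
  Lre_b IH (LK LD1_c8 LD2_c22 LD3_c4) (LK LD1_c15 LD2_c44 LD3_c28) Lrfl Lrfl
theorem f373043 : Led Lsl_dt (LP (LK LD1_c8 LD2_c31 LD3_c53)) = (LP (LK LD1_c16 LD2_c0 LD3_c54)) :=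
  Lre_d IH (LK LD1_c8 LD2_c31 LD3_c53) (LK LD1_c16 LD2_c0 LD3_c54) Lrfl Lrfl
theorem f373044 : Led Lsl_dt (LP (LK LD1_c25 LD2_c54 LD3_c6)) = (LP (LK LD1_c15 LD2_c57 LD3_c36)) :=
  Lre_d IH (LK LD1_c25 LD2_c54 LD3_c6) (LK LD1_c15 LD2_c57 LD3_c36) Lrfl Lrfl
theorem f373045 : Led Lsl_ff (LP (LK LD1_c8 LD2_c31 LD3_c53)) = (LP (LK LD1_c15 LD2_c57 LD3_c36)) :=
  Lgr Lrot19 (Lpr_dt (f373043 IH) (Lpr_ft (K27.f373034 IH) (Lpr_dt (f373044 IH) (Lpn (LP (LK LD1_c15 LD2_c57 LD3_c36))))))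
theorem f373078 : Led Lsl_at (LP (LK LD1_c8 LD2_c31 LD3_c53)) = (LP (LK LD1_c4 LD2_c16 LD3_c21)) :=
  Lre_a IH (LK LD1_c8 LD2_c31 LD3_c53) (LK LD1_c4 LD2_c16 LD3_c21) Lrfl Lrfl
theorem f374759 : Led Lsl_gf (LP (LK LD1_c8 LD2_c31 LD3_c52)) = (LP (LK LD1_c15 LD2_c57 LD3_c36)) :=
  Lgr Lrot47 (Lpr_gt (K31.f243326 IH) (Lpe (f373078 IH) (Lpr_ff (f373045 IH) (Lpn (LP (LK LD1_c15 LD2_c57 LD3_c36))))))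
theorem f300787 : Led Lsl_gt (LP (LK LD1_c8 LD2_c34 LD3_c51)) = (LP (LK LD1_c16 LD2_c5 LD3_c60)) :=
  Lre_g IH (LK LD1_c8 LD2_c34 LD3_c51) (LK LD1_c16 LD2_c5 LD3_c60) Lrfl Lrfl
theorem f300788 : Led Lsl_bt (LP (LK LD1_c16 LD2_c0 LD3_c51)) = (LP (LK LD1_c16 LD2_c5 LD3_c60)) :=
  Lgr Lrot92 (Lpr_ct (f250596 IH) (Lpr_gt (K31.f243326 IH) (Lpe (K20.f250513 IH) (Lpr_bt (K20.f250586 IH) (Lpr_gt (K14.f219144 IH) (Lpr_ct (K12.f219132 IH) (Lpr_gt (K18.f300773 IH) (Lpe (K18.f288833 IH) (Lpr_bt (K49.f288830 IH) (Lpr_gt (f300787 IH) (Lpn (LP (LK LD1_c16 LD2_c5 LD3_c60)))))))))))))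
theorem f406081 : Led Lsl_gf (LP (LK LD1_c15 LD2_c44 LD3_c28)) = (LP (LK LD1_c16 LD2_c5 LD3_c60)) :=
  Lgr Lrot124 (Lpe (f170905 IH) (Lpr_ct (K50.f170903 IH) (Lpr_gt (K50.f406074 IH) (Lpe (K50.f170253 IH) (Lpe (K50.f398193 IH) (Lpr_gt (K50.f373124 IH) (Lpe (K49.f373134 IH) (Lpe (f374759 IH) (Lpe (f250596 IH) (Lpr_bt (f300788 IH) (Lpn (LP (LK LD1_c16 LD2_c5 LD3_c60)))))))))))))
theorem f398896 : Led Lsl_ft (LP (LK LD1_c25 LD2_c40 LD3_c48)) = (LP (LK LD1_c16 LD2_c0 LD3_c51)) :=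
  Lgr Lrot4 (Lpe (f373164 IH) (Lpr_ff (K31.f398890 IH) (Lpe (f250596 IH) (Lpn (LP (LK LD1_c16 LD2_c0 LD3_c51))))))
theorem f373163 : Led Lsl_bt (LP (LK LD1_c15 LD2_c44 LD3_c26)) = (LP (LK LD1_c25 LD2_c40 LD3_c48)) :=
  Lre_b IH (LK LD1_c15 LD2_c44 LD3_c26) (LK LD1_c25 LD2_c40 LD3_c48) Lrfl Lrfl
theorem f400017 : Led Lsl_ff (LP (LK LD1_c15 LD2_c44 LD3_c26)) = (LP (LK LD1_c16 LD2_c5 LD3_c60)) :=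
  Lgr Lrot25 (Lpr_bt (f373163 IH) (Lpr_ft (f398896 IH) (Lpr_bt (f300788 IH) (Lpn (LP (LK LD1_c16 LD2_c5 LD3_c60))))))
theorem f406214 : Led Lsl_at (LP (LK LD1_c15 LD2_c44 LD3_c26)) = (LP (LK LD1_c16 LD2_c5 LD3_c61)) :=
  Lgr Lrot26 (Lpr_ff (f400017 IH) (Lpe (f406081 IH) (Lpr_gt (f406212 IH) (Lpn (LP (LK LD1_c16 LD2_c5 LD3_c61))))))
theorem f406217 : Led Lsl_af (LP (LK LD1_c15 LD2_c44 LD3_c26)) = (LP (LK LD1_c16 LD2_c5 LD3_c61)) :=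
  Lgr Lrot0 (Lpr_at (f406214 IH) (Lpn (LP (LK LD1_c16 LD2_c5 LD3_c61))))
theorem f403479 : Led Lsl_gt (LP (LK LD1_c15 LD2_c44 LD3_c27)) = (LP (LK LD1_c8 LD2_c21 LD3_c55)) :=
  Lre_g IH (LK LD1_c15 LD2_c44 LD3_c27) (LK LD1_c8 LD2_c21 LD3_c55) Lrfl Lrfl
theorem f406228 : Led Lsl_ft (LP (LK LD1_c15 LD2_c44 LD3_c27)) = (LP (LK LD1_c16 LD2_c5 LD3_c61)) :=
  Lgr Lrot2 (Lpr_gt (f403479 IH) (Lpr_gt (K49.f288867 IH) (Lpr_af (f406217 IH) (Lpn (LP (LK LD1_c16 LD2_c5 LD3_c61))))))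
theorem f400019 : Led Lsl_ft (LP (LK LD1_c15 LD2_c44 LD3_c26)) = (LP (LK LD1_c16 LD2_c5 LD3_c60)) :=
  Lgr Lrot48 (Lpr_ff (f400017 IH) (Lpn (LP (LK LD1_c16 LD2_c5 LD3_c60))))
theorem f406230 : Led Lsl_af (LP (LK LD1_c15 LD2_c44 LD3_c27)) = (LP (LK LD1_c16 LD2_c5 LD3_c60)) :=
  Lgr Lrot45 (Lpr_ft (f406228 IH) (Lpe (f406217 IH) (Lpr_ft (f400019 IH) (Lpn (LP (LK LD1_c16 LD2_c5 LD3_c60))))))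
theorem f406240 : Led Lsl_gf (LP (LK LD1_c15 LD2_c44 LD3_c27)) = (LP (LK LD1_c16 LD2_c6 LD3_c0)) :=
  Lgr Lrot76 (Lpr_af (f406230 IH) (Lpe (f400019 IH) (Lpr_gt (K49.f406048 IH) (Lpn (LP (LK LD1_c16 LD2_c6 LD3_c0))))))
theorem f406219 : Led Lsl_bt (LP (LK LD1_c16 LD2_c5 LD3_c61)) = (LP (LK LD1_c26 LD2_c3 LD3_c1)) :=
  Lre_b IH (LK LD1_c16 LD2_c5 LD3_c61) (LK LD1_c26 LD2_c3 LD3_c1) Lrfl Lrfl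
theorem f398888 : Led Lsl_af (LP (LK LD1_c25 LD2_c40 LD3_c48)) = (LP (LK LD1_c16 LD2_c0 LD3_c47)) :=
  Lgr Lrot0 (Lpr_at (f398859 IH) (Lpn (LP (LK LD1_c16 LD2_c0 LD3_c47))))
theorem f406220 : Led Lsl_af (LP (LK LD1_c24 LD2_c45 LD3_c18)) = (LP (LK LD1_c26 LD2_c3 LD3_c1)) :=
  Lgr Lrot36 (Lpe (K31.f250557 IH) (Lpe (f398888 IH) (Lpr_bt (K49.f288868 IH) (Lpr_at (f406214 IH) (Lpr_bt (f406219 IH) (Lpn (LP (LK LD1_c26 LD2_c3 LD3_c1))))))))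
theorem f39657 : Led Lsl_gt (LP (LK LD1_c14 LD2_c57 LD3_c55)) = (LP (LK LD1_c24 LD2_c45 LD3_c19)) :=
  Lre_g IH (LK LD1_c14 LD2_c57 LD3_c55) (LK LD1_c24 LD2_c45 LD3_c19) Lrfl Lrfl
theorem f398837 : Led Lsl_at (LP (LK LD1_c26 LD2_c13 LD3_c57)) = (LP (LK LD1_c24 LD2_c45 LD3_c19)) :=
  Lgr Lrot26 (Lpr_ff (K31.f398831 IH) (Lpr_gt (K20.f43198 IH) (Lpr_gt (f39657 IH) (Lpn (LP (LK LD1_c24 LD2_c45 LD3_c19))))))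
theorem f406224 : Led Lsl_ft (LP (LK LD1_c24 LD2_c45 LD3_c19)) = (LP (LK LD1_c26 LD2_c3 LD3_c1)) :=
  Lgr Lrot101 (Lpe (f398837 IH) (Lpr_ff (K31.f398831 IH) (Lpr_af (f406220 IH) (Lpn (LP (LK LD1_c26 LD2_c3 LD3_c1))))))
theorem f406226 : Led Lsl_ff (LP (LK LD1_c24 LD2_c45 LD3_c19)) = (LP (LK LD1_c26 LD2_c3 LD3_c1)) :=
  Lgr Lrot3 (Lpr_ft (f406224 IH) (Lpn (LP (LK LD1_c26 LD2_c3 LD3_c1))))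
theorem f406232 : Led Lsl_bf (LP (LK LD1_c15 LD2_c44 LD3_c27)) = (LP (LK LD1_c24 LD2_c45 LD3_c19)) :=
  Lgr Lrot61 (Lpr_ft (f406228 IH) (Lpr_bt (f406219 IH) (Lpe (f406226 IH) (Lpn (LP (LK LD1_c24 LD2_c45 LD3_c19))))))
theorem f398687 : Led Lsl_ft (LP (LK LD1_c20 LD2_c54 LD3_c38)) = (LP (LK LD1_c16 LD2_c17 LD3_c36)) :=
  Lgr Lrot4 (Lpe (K66.f398094 IH) (Lpr_ff (K31.f398681 IH) (Lpe (K31.f270423 IH) (Lpn (LP (LK LD1_c16 LD2_c17 LD3_c36))))))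
theorem f270747 : Led Lsl_gt (LP (LK LD1_c11 LD2_c51 LD3_c60)) = (LP (LK LD1_c20 LD2_c54 LD3_c37)) :=
  Lre_g IH (LK LD1_c11 LD2_c51 LD3_c60) (LK LD1_c20 LD2_c54 LD3_c37) Lrfl Lrfl
theorem f398691 : Led Lsl_af (LP (LK LD1_c20 LD2_c54 LD3_c37)) = (LP (LK LD1_c16 LD2_c17 LD3_c36)) :=
  Lgr Lrot31 (Lpe (f270747 IH) (Lpe (K66.f270746 IH) (Lpr_ft (f398687 IH) (Lpn (LP (LK LD1_c16 LD2_c17 LD3_c36))))))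
theorem f398693 : Led Lsl_at (LP (LK LD1_c20 LD2_c54 LD3_c37)) = (LP (LK LD1_c16 LD2_c17 LD3_c36)) :=
  Lgr Lrot100 (Lpr_af (f398691 IH) (Lpn (LP (LK LD1_c16 LD2_c17 LD3_c36))))
theorem f39042 : Led Lsl_gt (LP (LK LD1_c8 LD2_c41 LD3_c56)) = (LP (LK LD1_c16 LD2_c17 LD3_c35)) :=
  Lre_g IH (LK LD1_c8 LD2_c41 LD3_c56) (LK LD1_c16 LD2_c17 LD3_c35) Lrfl Lrfl
theorem f282013 : Led Lsl_gf (LP (LK LD1_c20 LD2_c54 LD3_c39)) = (LP (LK LD1_c16 LD2_c17 LD3_c35)) :=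
  Lgr Lrot76 (Lpe (K17.f282010 IH) (Lpr_ff (K17.f282004 IH) (Lpr_gt (f39042 IH) (Lpn (LP (LK LD1_c16 LD2_c17 LD3_c35))))))
theorem f398722 : Led Lsl_ff (LP (LK LD1_c20 LD2_c54 LD3_c37)) = (LP (LK LD1_c16 LD2_c17 LD3_c35)) :=
  Lgr Lrot52 (Lpr_at (f398693 IH) (Lpe (K31.f282021 IH) (Lpr_gf (f282013 IH) (Lpn (LP (LK LD1_c16 LD2_c17 LD3_c35))))))
theorem f398227 : Led Lsl_at (LP (LK LD1_c26 LD2_c13 LD3_c53)) = (LP (LK LD1_c16 LD2_c16 LD3_c4)) :=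
  Lre_a IH (LK LD1_c26 LD2_c13 LD3_c53) (LK LD1_c16 LD2_c16 LD3_c4) Lrfl Lrfl
theorem f398695 : Led Lsl_ct (LP (LK LD1_c20 LD2_c54 LD3_c37)) = (LP (LK LD1_c26 LD2_c13 LD3_c53)) :=
  Lgr Lrot111 (Lpr_af (f398691 IH) (Lpe (K54.f270425 IH) (Lpe (f398227 IH) (Lpn (LP (LK LD1_c26 LD2_c13 LD3_c53))))))
theorem f397944 : Led Lsl_ft (LP (LK LD1_c15 LD2_c6 LD3_c53)) = (LP (LK LD1_c24 LD2_c54 LD3_c48)) :=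
  Lre_f IH (LK LD1_c15 LD2_c6 LD3_c53) (LK LD1_c24 LD2_c54 LD3_c48) Lrfl Lrfl
theorem f397945 : Led Lsl_af (LP (LK LD1_c26 LD2_c10 LD3_c48)) = (LP (LK LD1_c24 LD2_c54 LD3_c48)) :=
  Lgr Lrot45 (Lpr_ft (K38.f397936 IH) (Lpr_at (K38.f397935 IH) (Lpr_ft (f397944 IH) (Lpn (LP (LK LD1_c24 LD2_c54 LD3_c48))))))
theorem f397938 : Led Lsl_gt (LP (LK LD1_c15 LD2_c6 LD3_c53)) = (LP (LK LD1_c24 LD2_c54 LD3_c58)) :=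
  Lre_g IH (LK LD1_c15 LD2_c6 LD3_c53) (LK LD1_c24 LD2_c54 LD3_c58) Lrfl Lrfl
theorem f398225 : Led Lsl_gf (LP (LK LD1_c26 LD2_c10 LD3_c48)) = (LP (LK LD1_c24 LD2_c54 LD3_c58)) :=
  Lgr Lrot76 (Lpr_af (f397945 IH) (Lpe (f397944 IH) (Lpr_gt (f397938 IH) (Lpn (LP (LK LD1_c24 LD2_c54 LD3_c58))))))
theorem f398228 : Led Lsl_ff (LP (LK LD1_c26 LD2_c13 LD3_c53)) = (LP (LK LD1_c24 LD2_c54 LD3_c58)) :=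
  Lgr Lrot52 (Lpr_at (f398227 IH) (Lpe (K31.f392587 IH) (Lpr_gf (f398225 IH) (Lpn (LP (LK LD1_c24 LD2_c54 LD3_c58))))))
theorem f398230 : Led Lsl_ft (LP (LK LD1_c26 LD2_c13 LD3_c53)) = (LP (LK LD1_c24 LD2_c54 LD3_c58)) :=
  Lgr Lrot48 (Lpr_ff (f398228 IH) (Lpn (LP (LK LD1_c24 LD2_c54 LD3_c58))))
theorem f398726 : Led Lsl_ct (LP (LK LD1_c24 LD2_c54 LD3_c58)) = (LP (LK LD1_c16 LD2_c17 LD3_c35)) :=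
  Lgr Lrot40 (Lpe (f398230 IH) (Lpe (f398695 IH) (Lpr_ff (f398722 IH) (Lpn (LP (LK LD1_c16 LD2_c17 LD3_c35))))))
theorem f39041 : Led Lsl_ct (LP (LK LD1_c4 LD2_c22 LD3_c3)) = (LP (LK LD1_c8 LD2_c41 LD3_c56)) :=
  Lre_c IH (LK LD1_c4 LD2_c22 LD3_c3) (LK LD1_c8 LD2_c41 LD3_c56) Lrfl Lrfl
theorem f237503 : Led Lsl_gt (LP (LK LD1_c17 LD2_c44 LD3_c12)) = (LP (LK LD1_c9 LD2_c38 LD3_c16)) :=
  Lre_g IH (LK LD1_c17 LD2_c44 LD3_c12) (LK LD1_c9 LD2_c38 LD3_c16) Lrfl Lrfl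
theorem f398734 : Led Lsl_bt (LP (LK LD1_c24 LD2_c54 LD3_c58)) = (LP (LK LD1_c17 LD2_c44 LD3_c12)) :=
  Lgr Lrot130 (Lpr_ct (f398726 IH) (Lpe (f39042 IH) (Lpe (f39041 IH) (Lpr_bt (K17.f38969 IH) (Lpe (K13.f39038 IH) (Lpe (K50.f39010 IH) (Lpr_ct (K50.f199864 IH) (Lpe (K50.f199834 IH) (Lpe (K50.f237481 IH) (Lpe (f237503 IH) (Lpn (LP (LK LD1_c17 LD2_c44 LD3_c12)))))))))))))
theorem f398736 : Led Lsl_bf (LP (LK LD1_c24 LD2_c54 LD3_c58)) = (LP (LK LD1_c17 LD2_c44 LD3_c12)) :=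
  Lgr Lrot24 (Lpr_bt (f398734 IH) (Lpn (LP (LK LD1_c17 LD2_c44 LD3_c12))))
theorem f39724 : Led Lsl_ct (LP (LK LD1_c8 LD2_c42 LD3_c0)) = (LP (LK LD1_c16 LD2_c13 LD3_c57)) :=
  Lre_c IH (LK LD1_c8 LD2_c42 LD3_c0) (LK LD1_c16 LD2_c13 LD3_c57) Lrfl Lrfl
theorem f398738 : Led Lsl_cf (LP (LK LD1_c24 LD2_c45 LD3_c19)) = (LP (LK LD1_c17 LD2_c44 LD3_c12)) :=
  Lgr Lrot163 (Lpe (f39657 IH) (Lpe (K49.f39656 IH) (Lpe (f39655 IH) (Lpr_bf (K50.f39722 IH) (Lpr_ct (f39724 IH) (Lpe (K38.f39716 IH) (Lpe (K31.f39717 IH) (Lpr_bt (K31.f39741 IH) (Lpr_gf (f398225 IH) (Lpr_bf (f398736 IH) (Lpn (LP (LK LD1_c17 LD2_c44 LD3_c12)))))))))))))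
theorem f398740 : Led Lsl_ct (LP (LK LD1_c24 LD2_c45 LD3_c19)) = (LP (LK LD1_c17 LD2_c44 LD3_c12)) :=
  Lgr Lrot59 (Lpr_cf (f398738 IH) (Lpn (LP (LK LD1_c17 LD2_c44 LD3_c12))))
theorem f882776 : Led Lsl_bt (LP (LK LD1_c16 LD2_c3 LD3_c60)) = v36212 :=
  Lgr Lrot130 (Lpe (f237500 IH) (Lpe (f237503 IH) (Lpe (f398740 IH) (Lpe (f406232 IH) (Lpr_gf (f406240 IH) (Lpe (K49.f170273 IH) (Lpr_ct (K49.f170272 IH) (Lpe (K54.f406054 IH) (Lpe (K50.f221989 IH) (Lpr_gf (f882774 IH) (Lpn v36212)))))))))))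
theorem f882777 : Led Lsl_bf (LP (LK LD1_c16 LD2_c3 LD3_c60)) = v36212 :=
  Lgr Lrot24 (Lpr_bt (f882776 IH) (Lpn v36212))
theorem f883002 : Led Lsl_ct v36212 = v36253 :=
  Lgr Lrot64 (Lpe (f882777 IH) (Lpe (K50.f199884 IH) (Lpr_bf (f43162 IH) (Lpe (f382342 IH) (Lpr_gf (f402792 IH) (Lpr_cf (f601948 IH) (Lpe (f170392 IH) (Lpe (K53.f170383 IH) (Lpr_ct (f170386 IH) (Lpr_gf (f882998 IH) (Lpn v36253)))))))))))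
theorem f883005 : Led Lsl_cf v36212 = v36253 :=
  Lgr Lrot11 (Lpr_ct (f883002 IH) (Lpn v36253))
theorem f882775 : Led Lsl_gt (LP (LK LD1_c8 LD2_c22 LD3_c24)) = v36212 :=
  Lgr Lrot5 (Lpr_ft (K50.f404703 IH) (Lpe (K50.f404663 IH) (Lpr_gf (f882774 IH) (Lpn v36212))))
theorem f404791 : Led Lsl_ft (LP (LK LD1_c8 LD2_c23 LD3_c28)) = (LP (LK LD1_c15 LD2_c46 LD3_c25)) :=
  Lre_f IH (LK LD1_c8 LD2_c23 LD3_c28) (LK LD1_c15 LD2_c46 LD3_c25) Lrfl Lrfl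
theorem f882778 : Led Lsl_at (LP (LK LD1_c15 LD2_c46 LD3_c25)) = v36212 :=
  Lgr Lrot26 (Lpe (f404791 IH) (Lpe (K50.f404789 IH) (Lpr_gt (f882775 IH) (Lpn v36212))))
theorem f882779 : Led Lsl_af (LP (LK LD1_c15 LD2_c46 LD3_c25)) = v36212 :=
  Lgr Lrot0 (Lpr_at (f882778 IH) (Lpn v36212))
theorem f692273 : Led Lsl_ct (LP (LK LD1_c15 LD2_c46 LD3_c25)) = (LP (LK LD1_c8 LD2_c23 LD3_c7)) :=
  Lre_c IH (LK LD1_c15 LD2_c46 LD3_c25) (LK LD1_c8 LD2_c23 LD3_c7) Lrfl Lrfl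
theorem f883006 : Led Lsl_at (LP (LK LD1_c8 LD2_c23 LD3_c7)) = v36253 :=
  Lgr Lrot107 (Lpe (f692273 IH) (Lpr_af (f882779 IH) (Lpr_cf (f883005 IH) (Lpn v36253))))
theorem f692298 : Led Lsl_bt (LP (LK LD1_c4 LD2_c11 LD3_c47)) = (LP (LK LD1_c8 LD2_c23 LD3_c7)) :=
  Lre_b IH (LK LD1_c4 LD2_c11 LD3_c47) (LK LD1_c8 LD2_c23 LD3_c7) Lrfl Lrfl
theorem f629444 : Led Lsl_at (LP (LK LD1_c2 LD2_c3 LD3_c5)) = (LP (LK LD1_c4 LD2_c11 LD3_c47)) :=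
  Lre_a IH (LK LD1_c2 LD2_c3 LD3_c5) (LK LD1_c4 LD2_c11 LD3_c47) Lrfl Lrfl
theorem f551367 : Led Lsl_at (LP (LK LD1_c8 LD2_c23 LD3_c12)) = (LP (LK LD1_c4 LD2_c11 LD3_c48)) :=
  Lre_a IH (LK LD1_c8 LD2_c23 LD3_c12) (LK LD1_c4 LD2_c11 LD3_c48) Lrfl Lrfl
theorem f718452 : Led Lsl_cf (LP (LK LD1_c4 LD2_c53 LD3_c9)) = v13987 :=
  Lgr Lrot11 (Lpr_ct (f718451 IH) (Lpn v13987))
theorem f883004 : Led Lsl_bf v13987 = v36253 :=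
  Lgr Lrot90 (Lpe (f718452 IH) (Lpr_bt (f237499 IH) (Lpr_ct (K50.f237481 IH) (Lpr_bt (f882776 IH) (Lpr_ct (f883002 IH) (Lpn v36253))))))
theorem f883007 : (LP (LK LD1_c8 LD2_c23 LD3_c12)) = v13987 :=
  (Llr Lrot36 (Lpr_at (f551367 IH) (Lpr_bt (K30.f51797 IH) (Lpr_at (f629444 IH) (Lpr_bt (f692298 IH) (Lpr_at (f883006 IH) (Lpe (f883004 IH) (Lpn v13987)))))))).symm
theorem f883008 : Led Lsl_gt (LP (LK LD1_c8 LD2_c35 LD3_c20)) = (LP (LK LD1_c8 LD2_c23 LD3_c12)) :=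
  Leop (Lpqs (f883007 IH) (Lpe (f718453 IH) (Lpn (LP (LK LD1_c8 LD2_c35 LD3_c20)))))
theorem seed_2090 : LEOK LG_g (LK LD1_c8 LD2_c35 LD3_c20) :=
  Leoe_g (LK LD1_c8 LD2_c35 LD3_c20) (f883008 IH)
def v36091 : LQ := Led Lsl_gt (LP (LK LD1_c8 LD2_c19 LD3_c42))
theorem f882158 : Led Lsl_gt (LP (LK LD1_c8 LD2_c19 LD3_c42)) = v36091 :=
  Lrfl
def v15343 : LQ := Led Lsl_ft (LP (LK LD1_c5 LD2_c36 LD3_c46))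
theorem f735765 : Led Lsl_ft (LP (LK LD1_c5 LD2_c36 LD3_c46)) = v15343 :=
  Lrfl
theorem f735769 : Led Lsl_ff (LP (LK LD1_c5 LD2_c36 LD3_c46)) = v15343 :=
  Lgr Lrot3 (Lpr_ft (f735765 IH) (Lpn v15343))
def v4718 : LQ := Led Lsl_ft (LP (LK LD1_c2 LD2_c44 LD3_c14))
theorem f638654 : Led Lsl_ft (LP (LK LD1_c2 LD2_c44 LD3_c14)) = v4718 :=
  Lrfl
theorem f735771 : Led Lsl_ct v4718 = v15343 :=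
  Lgr Lrot40 (Lpe (f638654 IH) (Lpe (K30.f178048 IH) (Lpr_ff (f735769 IH) (Lpn v15343))))
def v12804 : LQ := Led Lsl_ft (LP (LK LD1_c4 LD2_c31 LD3_c31))
theorem f698297 : Led Lsl_ft (LP (LK LD1_c4 LD2_c31 LD3_c31)) = v12804 :=
  Lrfl
theorem f698299 : Led Lsl_ff (LP (LK LD1_c4 LD2_c31 LD3_c31)) = v12804 :=
  Lgr Lrot3 (Lpr_ft (f698297 IH) (Lpn v12804))
def v15155 : LQ := Led Lsl_ft (LP (LK LD1_c5 LD2_c33 LD3_c6))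
theorem f732583 : Led Lsl_ft (LP (LK LD1_c5 LD2_c33 LD3_c6)) = v15155 :=
  Lrfl
theorem f732585 : Led Lsl_df v12804 = v15155 :=
  Lgr Lrot78 (Lpe (f698299 IH) (Lpr_dt (K38.f390250 IH) (Lpr_ft (f732583 IH) (Lpn v15155))))
def v15344 : LQ := Led Lsl_at (LP (LK LD1_c5 LD2_c36 LD3_c47))
theorem f735773 : Led Lsl_at (LP (LK LD1_c5 LD2_c36 LD3_c47)) = v15344 :=
  Lrfl
theorem f735774 : Led Lsl_af (LP (LK LD1_c5 LD2_c36 LD3_c47)) = v15344 :=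
  Lgr Lrot0 (Lpr_at (f735773 IH) (Lpn v15344))
theorem f732586 : Led Lsl_ff (LP (LK LD1_c5 LD2_c33 LD3_c6)) = v15155 :=
  Lgr Lrot3 (Lpr_ft (f732583 IH) (Lpn v15155))
def v15154 : LQ := Led Lsl_at (LP (LK LD1_c5 LD2_c33 LD3_c6))
theorem f732577 : Led Lsl_at (LP (LK LD1_c5 LD2_c33 LD3_c6)) = v15154 :=
  Lrfl
theorem f732579 : Led Lsl_df K50.v12803 = v15154 :=
  Lgr Lrot18 (Lpe (K50.f698286 IH) (Lpr_dt (K38.f390250 IH) (Lpr_at (f732577 IH) (Lpn v15154))))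
theorem f698295 : Led Lsl_ff (LP (LK LD1_c4 LD2_c31 LD3_c32)) = K50.v12803 :=
  Lgr Lrot3 (Lpr_ft (K50.f698287 IH) (Lpn K50.v12803))
theorem f732581 : Led Lsl_ft (LP (LK LD1_c5 LD2_c33 LD3_c7)) = v15154 :=
  Lgr Lrot54 (Lpe (K50.f394085 IH) (Lpr_ff (f698295 IH) (Lpr_df (f732579 IH) (Lpn v15154))))
theorem f732582 : Led Lsl_ff (LP (LK LD1_c5 LD2_c33 LD3_c7)) = v15154 :=
  Lgr Lrot3 (Lpr_ft (f732581 IH) (Lpn v15154))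
theorem f732587 : Led Lsl_at (LP (LK LD1_c5 LD2_c33 LD3_c7)) = v15155 :=
  Lgr Lrot66 (Lpr_ff (f732582 IH) (Lpe (f732577 IH) (Lpr_ff (f732586 IH) (Lpn v15155))))
theorem f692270 : Led Lsl_dt (LP (LK LD1_c4 LD2_c11 LD3_c47)) = (LP (LK LD1_c8 LD2_c23 LD3_c9)) :=
  Lre_d IH (LK LD1_c4 LD2_c11 LD3_c47) (LK LD1_c8 LD2_c23 LD3_c9) Lrfl Lrfl
def v12462 : LQ := Led Lsl_gf (LP (LK LD1_c4 LD2_c11 LD3_c47))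
theorem f692288 : Led Lsl_gf (LP (LK LD1_c4 LD2_c11 LD3_c47)) = v12462 :=
  Lrfl
def v4105 : LQ := Led Lsl_gf (LP (LK LD1_c2 LD2_c3 LD3_c7))
theorem f629451 : Led Lsl_gf (LP (LK LD1_c2 LD2_c3 LD3_c7)) = v4105 :=
  Lrfl
theorem f692289 : Led Lsl_ft (LP (LK LD1_c4 LD2_c11 LD3_c52)) = (LP (LK LD1_c2 LD2_c3 LD3_c5)) :=
  Lre_f IH (LK LD1_c4 LD2_c11 LD3_c52) (LK LD1_c2 LD2_c3 LD3_c5) Lrfl Lrfl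
theorem f692290 : Led Lsl_gt (LP (LK LD1_c4 LD2_c11 LD3_c52)) = v12462 :=
  Lgr Lrot5 (Lpr_ft (f692289 IH) (Lpr_at (f629444 IH) (Lpr_gf (f692288 IH) (Lpn v12462))))
theorem f718460 : Led Lsl_cf (LP (LK LD1_c4 LD2_c53 LD3_c10)) = K52.v13989 :=
  Lgr Lrot11 (Lpr_ct (K52.f718459 IH) (Lpn K52.v13989))
theorem f51748 : Led Lsl_bt (LP (LK LD1_c0 LD2_c58 LD3_c29)) = (LP (LK LD1_c2 LD2_c3 LD3_c9)) :=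
  Lre_b IH (LK LD1_c0 LD2_c58 LD3_c29) (LK LD1_c2 LD2_c3 LD3_c9) Lrfl Lrfl
theorem f629452 : Led Lsl_gt (LP (LK LD1_c2 LD2_c3 LD3_c9)) = v4105 :=
  Lgr Lrot5 (Lpr_ft (K30.f1210 IH) (Lpr_at (K30.f1101 IH) (Lpr_gf (f629451 IH) (Lpn v4105))))
theorem f718464 : Led Lsl_bf v4105 = K52.v13989 :=
  Lgr Lrot34 (Lpe (f629452 IH) (Lpe (f51748 IH) (Lpr_ct (K9.f47729 IH) (Lpr_gf (K9.f53424 IH) (Lpe (K9.f7917 IH) (Lpr_gf (K9.f167293 IH) (Lpe (K20.f2250 IH) (Lpr_ct (K20.f2302 IH) (Lpe (K38.f2584 IH) (Lpr_cf (f718460 IH) (Lpn K52.v13989)))))))))))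
def v12465 : LQ := Led Lsl_ft (LP (LK LD1_c4 LD2_c11 LD3_c48))
theorem f692315 : Led Lsl_ft (LP (LK LD1_c4 LD2_c11 LD3_c48)) = v12465 :=
  Lrfl
theorem f692316 : Led Lsl_bf (LP (LK LD1_c4 LD2_c11 LD3_c52)) = v12465 :=
  Lgr Lrot61 (Lpr_ft (f692289 IH) (Lpr_bt (K53.f406181 IH) (Lpr_ft (f692315 IH) (Lpn v12465))))
def v13986 : LQ := Led Lsl_at (LP (LK LD1_c4 LD2_c53 LD3_c9))
theorem f718447 : Led Lsl_at (LP (LK LD1_c4 LD2_c53 LD3_c9)) = v13986 :=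
  Lrfl
theorem f718448 : Led Lsl_af (LP (LK LD1_c4 LD2_c53 LD3_c9)) = v13986 :=
  Lgr Lrot0 (Lpr_at (f718447 IH) (Lpn v13986))
theorem f883011 : v13986 = (LP (LK LD1_c8 LD2_c23 LD3_c13)) :=
  (Llr Lrot68 (Lpe (f718448 IH) (Lpr_ct (f718451 IH) (Lpq (f883007 IH) (Lpr_at (f551367 IH) (Lpr_ct (K30.f52219 IH) (Lpn (LP (LK LD1_c8 LD2_c23 LD3_c13))))))))).symm
theorem f718449 : Led Lsl_ft (LP (LK LD1_c4 LD2_c53 LD3_c10)) = v13986 :=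
  Lgr Lrot2 (Lpr_gt (K38.f2584 IH) (Lpr_gt (K38.f2585 IH) (Lpr_af (f718448 IH) (Lpn v13986))))
theorem f51798 : Led Lsl_ct (LP (LK LD1_c8 LD2_c23 LD3_c13)) = (LP (LK LD1_c4 LD2_c11 LD3_c48)) :=
  Lre_c IH (LK LD1_c8 LD2_c23 LD3_c13) (LK LD1_c4 LD2_c11 LD3_c48) Lrfl Lrfl
theorem f883020 : K52.v13989 = v12465 :=
  (Llr Lrot108 (Lpe (f718460 IH) (Lpr_ft (f718449 IH) (Lpqs (f883011 IH) (Lpr_ct (f51798 IH) (Lpr_ft (f692315 IH) (Lpn v12465))))))).symm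
theorem f883021 : v4105 = (LP (LK LD1_c4 LD2_c11 LD3_c52)) :=
  Lefun (Lecon (Lfl_bf (f718464 IH)) (f883020 IH)) (Lfl_bf (f692316 IH))
theorem f883022 : (LP (LK LD1_c2 LD2_c3 LD3_c7)) = v12462 :=
  Lefun (Lecon (Lfl_gf (f629451 IH)) (f883021 IH)) (f692290 IH)
theorem f52126 : Led Lsl_dt (LP (LK LD1_c8 LD2_c35 LD3_c36)) = (LP (LK LD1_c16 LD2_c6 LD3_c57)) :=
  Lre_d IH (LK LD1_c8 LD2_c35 LD3_c36) (LK LD1_c16 LD2_c6 LD3_c57) Lrfl Lrfl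
theorem f692293 : Led Lsl_ct (LP (LK LD1_c15 LD2_c46 LD3_c28)) = (LP (LK LD1_c8 LD2_c23 LD3_c9)) :=
  Lre_c IH (LK LD1_c15 LD2_c46 LD3_c28) (LK LD1_c8 LD2_c23 LD3_c9) Lrfl Lrfl
theorem f692292 : Led Lsl_dt (LP (LK LD1_c25 LD2_c43 LD3_c8)) = (LP (LK LD1_c15 LD2_c46 LD3_c28)) :=
  Lre_d IH (LK LD1_c25 LD2_c43 LD3_c8) (LK LD1_c15 LD2_c46 LD3_c28) Lrfl Lrfl
theorem f883058 : Led Lsl_gt (LP (LK LD1_c16 LD2_c6 LD3_c57)) = (LP (LK LD1_c25 LD2_c43 LD3_c8)) :=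
  Lgr Lrot49 (Lpe (f52126 IH) (Lpe (K50.f51754 IH) (Lpe (K50.f51753 IH) (Lpr_gt (f52124 IH) (Lpr_dt (f1132 IH) (Lpqs (f883022 IH) (Lpe (f692288 IH) (Lpr_dt (f692270 IH) (Lpe (f692293 IH) (Lpe (f692292 IH) (Lpn (LP (LK LD1_c25 LD2_c43 LD3_c8)))))))))))))
theorem f170259 : Led Lsl_dt (LP (LK LD1_c16 LD2_c6 LD3_c57)) = (LP (LK LD1_c8 LD2_c35 LD3_c36)) :=
  Lre_d IH (LK LD1_c16 LD2_c6 LD3_c57) (LK LD1_c8 LD2_c35 LD3_c36) Lrfl Lrfl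

end

end K67

end

end Cfsg.Agent.Helper28.S1692
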