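import Cfsg.Agent.Lib.Helper28.S1692.Seeds67

set_option autoImplicit false
set_option maxRecDepth 100000
set_option linter.all false

namespace Cfsg.Agent.Helper28.S1692

open Cfsg.Agent.Helper28
open Cfsg.Spor.ON (Gen)

noncomputable section

namespace K68
abbrev LD1_c0 := D1.c0
abbrev LD1_c1 := D1.c1
abbrev LD1_c2 := D1.c2
abbrev LD1_c3 := D1.c3
abbrev LD1_c4 := D1.c4
abbrev LD1_c5 := D1.c5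
abbrev LD1_c6 := D1.c6
abbrev LD1_c7 := D1.c7
abbrev LD1_c8 := D1.c8
abbrev LD1_c9 := D1.c9
abbrev LD1_c10 := D1.c10
abbrev LD1_c11 := D1.c11
abbrev LD1_c12 := D1.c12
abbrev LD1_c13 := D1.c13
abbrev LD1_c14 := D1.c14
abbrev LD1_c15 := D1.c15
abbrev LD1_c16 := D1.c16
abbrev LD1_c17 := D1.c17
abbrev LD1_c18 := D1.c18
abbrev LD1_c19 := D1.c19
abbrev LD1_c20 := D1.c20
abbrev LD1_c21 := D1.c21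
abbrev LD1_c22 := D1.c22
abbrev LD1_c23 := D1.c23
abbrev LD1_c24 := D1.c24
abbrev LD1_c25 := D1.c25
abbrev LD1_c26 := D1.c26
abbrev LD1_c27 := D1.c27
abbrev LD1_c28 := D1.c28
abbrev LD1_c29 := D1.c29
abbrev LD1_c30 := D1.c30
abbrev LD1_c31 := D1.c31
abbrev LD1_c32 := D1.c32
abbrev LD2_c0 := D2.c0
abbrev LD2_c1 := D2.c1
abbrev LD2_c2 := D2.c2
abbrev LD2_c3 := D2.c3
abbrev LD2_c4 := D2.c4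
abbrev LD2_c5 := D2.c5
abbrev LD2_c6 := D2.c6
abbrev LD2_c7 := D2.c7
abbrev LD2_c8 := D2.c8
abbrev LD2_c9 := D2.c9
abbrev LD2_c10 := D2.c10
abbrev LD2_c11 := D2.c11
abbrev LD2_c12 := D2.c12
abbrev LD2_c13 := D2.c13
abbrev LD2_c14 := D2.c14
abbrev LD2_c15 := D2.c15
abbrev LD2_c16 := D2.c16
abbrev LD2_c17 := D2.c17
abbrev LD2_c18 := D2.c18
abbrev LD2_c19 := D2.c19
abbrev LD2_c20 := D2.c20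
abbrev LD2_c21 := D2.c21
abbrev LD2_c22 := D2.c22
abbrev LD2_c23 := D2.c23
abbrev LD2_c24 := D2.c24
abbrev LD2_c25 := D2.c25
abbrev LD2_c26 := D2.c26
abbrev LD2_c27 := D2.c27
abbrev LD2_c28 := D2.c28
abbrev LD2_c29 := D2.c29
abbrev LD2_c30 := D2.c30
abbrev LD2_c31 := D2.c31
abbrev LD2_c32 := D2.c32
abbrev LD2_c33 := D2.c33
abbrev LD2_c34 := D2.c34
abbrev LD2_c35 := D2.c35
abbrev LD2_c36 := D2.c36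
abbrev LD2_c37 := D2.c37
abbrev LD2_c38 := D2.c38
abbrev LD2_c39 := D2.c39
abbrev LD2_c40 := D2.c40
abbrev LD2_c41 := D2.c41
abbrev LD2_c42 := D2.c42
abbrev LD2_c43 := D2.c43
abbrev LD2_c44 := D2.c44
abbrev LD2_c45 := D2.c45
abbrev LD2_c46 := D2.c46
abbrev LD2_c47 := D2.c47
abbrev LD2_c48 := D2.c48
abbrev LD2_c49 := D2.c49
abbrev LD2_c50 := D2.c50
abbrev LD2_c51 := D2.c51
abbrev LD2_c52 := D2.c52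
abbrev LD2_c53 := D2.c53
abbrev LD2_c54 := D2.c54
abbrev LD2_c55 := D2.c55
abbrev LD2_c56 := D2.c56
abbrev LD2_c57 := D2.c57
abbrev LD2_c58 := D2.c58
abbrev LD2_c59 := D2.c59
abbrev LD3_c0 := D3.c0
abbrev LD3_c1 := D3.c1
abbrev LD3_c2 := D3.c2
abbrev LD3_c3 := D3.c3
abbrev LD3_c4 := D3.c4
abbrev LD3_c5 := D3.c5
abbrev LD3_c6 := D3.c6
abbrev LD3_c7 := D3.c7
abbrev LD3_c8 := D3.c8
abbrev LD3_c9 := D3.c9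
abbrev LD3_c10 := D3.c10
abbrev LD3_c11 := D3.c11
abbrev LD3_c12 := D3.c12
abbrev LD3_c13 := D3.c13
abbrev LD3_c14 := D3.c14
abbrev LD3_c15 := D3.c15
abbrev LD3_c16 := D3.c16
abbrev LD3_c17 := D3.c17
abbrev LD3_c18 := D3.c18
abbrev LD3_c19 := D3.c19
abbrev LD3_c20 := D3.c20
abbrev LD3_c21 := D3.c21
abbrev LD3_c22 := D3.c22
abbrev LD3_c23 := D3.c23
abbrev LD3_c24 := D3.c24
abbrev LD3_c25 := D3.c25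
abbrev LD3_c26 := D3.c26
abbrev LD3_c27 := D3.c27
abbrev LD3_c28 := D3.c28
abbrev LD3_c29 := D3.c29
abbrev LD3_c30 := D3.c30
abbrev LD3_c31 := D3.c31
abbrev LD3_c32 := D3.c32
abbrev LD3_c33 := D3.c33
abbrev LD3_c34 := D3.c34
abbrev LD3_c35 := D3.c35
abbrev LD3_c36 := D3.c36
abbrev LD3_c37 := D3.c37
abbrev LD3_c38 := D3.c38
abbrev LD3_c39 := D3.c39
abbrev LD3_c40 := D3.c40
abbrev LD3_c41 := D3.c41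
abbrev LD3_c42 := D3.c42
abbrev LD3_c43 := D3.c43
abbrev LD3_c44 := D3.c44
abbrev LD3_c45 := D3.c45
abbrev LD3_c46 := D3.c46
abbrev LD3_c47 := D3.c47
abbrev LD3_c48 := D3.c48
abbrev LD3_c49 := D3.c49
abbrev LD3_c50 := D3.c50
abbrev LD3_c51 := D3.c51
abbrev LD3_c52 := D3.c52
abbrev LD3_c53 := D3.c53
abbrev LD3_c54 := D3.c54
abbrev LD3_c55 := D3.c55
abbrev LD3_c56 := D3.c56
abbrev LD3_c57 := D3.c57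
abbrev LD3_c58 := D3.c58
abbrev LD3_c59 := D3.c59
abbrev LD3_c60 := D3.c60
abbrev LD3_c61 := D3.c61
abbrev LG_g := Gen.g
abbrev Lsl_gt : Gen × Bool := sl_gt
alias Lfl_gt := fl_gt
alias Lpr_gt := pr_gt
abbrev Lsl_gf : Gen × Bool := sl_gf
alias Lfl_gf := fl_gf
alias Lpr_gf := pr_gf
alias Lre_g := re_g
alias Leoe_g := eoe_g
abbrev LG_a := Gen.a
abbrev Lsl_at : Gen × Bool := sl_at
alias Lfl_at := fl_at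
alias Lpr_at := pr_at
abbrev Lsl_af : Gen × Bool := sl_af
alias Lfl_af := fl_af
alias Lpr_af := pr_af
alias Lre_a := re_a
alias Leoe_a := eoe_a
abbrev LG_b := Gen.b
abbrev Lsl_bt : Gen × Bool := sl_bt
alias Lfl_bt := fl_bt
alias Lpr_bt := pr_bt
abbrev Lsl_bf : Gen × Bool := sl_bf
alias Lfl_bf := fl_bf
alias Lpr_bf := pr_bf
alias Lre_b := re_b
alias Leoe_b := eoe_b
abbrev LG_c := Gen.c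
abbrev Lsl_ct : Gen × Bool := sl_ct
alias Lfl_ct := fl_ct
alias Lpr_ct := pr_ct
abbrev Lsl_cf : Gen × Bool := sl_cf
alias Lfl_cf := fl_cf
alias Lpr_cf := pr_cf
alias Lre_c := re_c
alias Leoe_c := eoe_c
abbrev LG_d := Gen.d
abbrev Lsl_dt : Gen × Bool := sl_dt
alias Lfl_dt := fl_dt
alias Lpr_dt := pr_dt
abbrev Lsl_df : Gen × Bool := sl_df
alias Lfl_df := fl_df
alias Lpr_df := pr_df
alias Lre_d := re_d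
alias Leoe_d := eoe_d
abbrev LG_e := Gen.e
abbrev Lsl_et : Gen × Bool := sl_et
alias Lfl_et := fl_et
alias Lpr_et := pr_et
abbrev Lsl_ef : Gen × Bool := sl_ef
alias Lfl_ef := fl_ef
alias Lpr_ef := pr_ef
alias Lre_e := re_e
alias Leoe_e := eoe_e
abbrev LG_f := Gen.f
abbrev Lsl_ft : Gen × Bool := sl_ft
alias Lfl_ft := fl_ft
alias Lpr_ft := pr_ft
abbrev Lsl_ff : Gen × Bool := sl_ff
alias Lfl_ff := fl_ff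
alias Lpr_ff := pr_ff
alias Lre_f := re_f
alias Leoe_f := eoe_f
abbrev LK := Pt.mk
abbrev LQ : Type := Qt rels S
abbrev LP (p : Pt) : LQ := P p
abbrev Led (l : Gen × Bool) (c : LQ) : LQ := ed l c
abbrev LEOK (x : Gen) (p : Pt) : Prop := EntryOK rels S fwd inv o plet idx x p
alias Lpe := pe
alias Lpn := pn
alias Lgr := gr
alias Lpq := pq
alias Lpqs := pqs
alias Llr := lr
alias Leop := eop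
alias Lefun := efun
alias Lecon := econ
theorem Lrfl {α : Sort _} {a : α} : a = a := rfl
alias Lrot0 := rot0
alias Lrot1 := rot1
alias Lrot2 := rot2
alias Lrot3 := rot3
alias Lrot4 := rot4
alias Lrot5 := rot5
alias Lrot6 := rot6
alias Lrot7 := rot7
alias Lrot8 := rot8
alias Lrot9 := rot9
alias Lrot10 := rot10
alias Lrot11 := rot11
alias Lrot12 := rot12
alias Lrot13 := rot13
alias Lrot14 := rot14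
alias Lrot15 := rot15
alias Lrot17 := rot17
alias Lrot18 := rot18
alias Lrot19 := rot19
alias Lrot20 := rot20
alias Lrot21 := rot21
alias Lrot22 := rot22
alias Lrot23 := rot23
alias Lrot24 := rot24
alias Lrot25 := rot25
alias Lrot26 := rot26
alias Lrot27 := rot27
alias Lrot28 := rot28
alias Lrot29 := rot29
alias Lrot30 := rot30
alias Lrot31 := rot31
alias Lrot32 := rot32
alias Lrot33 := rot33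
alias Lrot34 := rot34
alias Lrot35 := rot35
alias Lrot36 := rot36
alias Lrot37 := rot37
alias Lrot38 := rot38
alias Lrot39 := rot39
alias Lrot40 := rot40
alias Lrot42 := rot42
alias Lrot43 := rot43
alias Lrot44 := rot44
alias Lrot45 := rot45
alias Lrot46 := rot46
alias Lrot47 := rot47
alias Lrot48 := rot48
alias Lrot49 := rot49
alias Lrot50 := rot50
alias Lrot51 := rot51
alias Lrot52 := rot52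
alias Lrot53 := rot53
alias Lrot54 := rot54
alias Lrot57 := rot57
alias Lrot59 := rot59
alias Lrot60 := rot60
alias Lrot61 := rot61
alias Lrot62 := rot62
alias Lrot63 := rot63
alias Lrot64 := rot64
alias Lrot65 := rot65
alias Lrot66 := rot66
alias Lrot67 := rot67
alias Lrot68 := rot68
alias Lrot70 := rot70
alias Lrot71 := rot71
alias Lrot72 := rot72
alias Lrot73 := rot73
alias Lrot74 := rot74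
alias Lrot75 := rot75
alias Lrot76 := rot76
alias Lrot77 := rot77
alias Lrot78 := rot78
alias Lrot79 := rot79
alias Lrot80 := rot80
alias Lrot81 := rot81
alias Lrot82 := rot82
alias Lrot83 := rot83
alias Lrot85 := rot85
alias Lrot86 := rot86
alias Lrot87 := rot87
alias Lrot88 := rot88
alias Lrot90 := rot90
alias Lrot91 := rot91
alias Lrot92 := rot92
alias Lrot93 := rot93
alias Lrot94 := rot94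
alias Lrot95 := rot95
alias Lrot96 := rot96
alias Lrot97 := rot97
alias Lrot98 := rot98
alias Lrot99 := rot99
alias Lrot100 := rot100
alias Lrot101 := rot101
alias Lrot103 := rot103
alias Lrot104 := rot104
alias Lrot105 := rot105
alias Lrot107 := rot107
alias Lrot108 := rot108
alias Lrot109 := rot109
alias Lrot110 := rot110
alias Lrot111 := rot111
alias Lrot112 := rot112
alias Lrot113 := rot113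
alias Lrot114 := rot114
alias Lrot115 := rot115
alias Lrot117 := rot117
alias Lrot118 := rot118
alias Lrot119 := rot119
alias Lrot120 := rot120
alias Lrot121 := rot121
alias Lrot122 := rot122
alias Lrot123 := rot123
alias Lrot124 := rot124
alias Lrot125 := rot125
alias Lrot126 := rot126
alias Lrot127 := rot127
alias Lrot128 := rot128
alias Lrot129 := rot129
alias Lrot130 := rot130
alias Lrot131 := rot131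
alias Lrot132 := rot132
alias Lrot134 := rot134
alias Lrot135 := rot135
alias Lrot136 := rot136
alias Lrot137 := rot137
alias Lrot138 := rot138
alias Lrot139 := rot139
alias Lrot141 := rot141
alias Lrot142 := rot142
alias Lrot143 := rot143
alias Lrot144 := rot144
alias Lrot145 := rot145
alias Lrot146 := rot146
alias Lrot147 := rot147
alias Lrot148 := rot148
alias Lrot149 := rot149
alias Lrot150 := rot150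
alias Lrot151 := rot151
alias Lrot152 := rot152
alias Lrot153 := rot153
alias Lrot155 := rot155
alias Lrot156 := rot156
alias Lrot157 := rot157
alias Lrot158 := rot158
alias Lrot160 := rot160
alias Lrot162 := rot162
alias Lrot163 := rot163
alias Lrot164 := rot164
alias Lrot165 := rot165
alias Lrot166 := rot166
alias Lrot167 := rot167
alias Lrot168 := rot168
alias Lrot169 := rot169
alias Lrot170 := rot170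
alias Lrot171 := rot171
alias Lrot172 := rot172
alias Lrot173 := rot173
alias Lrot175 := rot175
alias Lrot176 := rot176
alias Lrot178 := rot178
alias Lrot179 := rot179
alias Lrot180 := rot180
alias Lrot181 := rot181
alias Lrot182 := rot182
alias Lrot183 := rot183
alias Lrot185 := rot185
alias Lrot190 := rot190
alias Lrot191 := rot191

section
variable (IH : IHT)
include IH

theorem f51846 : Led Lsl_ct (LP (LK LD1_c8 LD2_c32 LD3_c18)) = (LP (LK LD1_c4 LD2_c16 LD3_c32)) :=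
  Lre_c IH (LK LD1_c8 LD2_c32 LD3_c18) (LK LD1_c4 LD2_c16 LD3_c32) Lrfl Lrfl
theorem f51737 : Led Lsl_gt (LP (LK LD1_c16 LD2_c1 LD3_c54)) = (LP (LK LD1_c8 LD2_c32 LD3_c18)) :=
  Lre_g IH (LK LD1_c16 LD2_c1 LD3_c54) (LK LD1_c8 LD2_c32 LD3_c18) Lrfl Lrfl
theorem f883064 : Led Lsl_cf (LP (LK LD1_c16 LD2_c1 LD3_c54)) = (LP (LK LD1_c25 LD2_c43 LD3_c8)) :=
  Lgr Lrot169 (Lpr_gt (f51737 IH) (Lpr_ct (f51846 IH) (Lpe (K30.f1068 IH) (Lpe (K30.f1054 IH) (Lpe (K41.f1213 IH) (Lpe (K41.f52066 IH) (Lpr_gf (K52.f398169 IH) (Lpe (K67.f170259 IH) (Lpr_gt (K67.f883058 IH) (Lpn (LP (LK LD1_c25 LD2_c43 LD3_c8))))))))))))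
theorem f52013 : Led Lsl_bt (LP (LK LD1_c4 LD2_c16 LD3_c32)) = (LP (LK LD1_c2 LD2_c5 LD3_c34)) :=
  Lre_b IH (LK LD1_c4 LD2_c16 LD3_c32) (LK LD1_c2 LD2_c5 LD3_c34) Lrfl Lrfl
theorem f883077 : Led Lsl_bf (LP (LK LD1_c28 LD2_c14 LD3_c15)) = (LP (LK LD1_c25 LD2_c43 LD3_c8)) :=
  Lgr Lrot34 (Lpe (K52.f188906 IH) (Lpe (K51.f188905 IH) (Lpr_ct (K31.f33439 IH) (Lpe (K16.f189063 IH) (Lpr_cf (K15.f188954 IH) (Lpe (K16.f1024 IH) (Lpe (f52013 IH) (Lpr_ct (K30.f51714 IH) (Lpe (f51737 IH) (Lpr_cf (f883064 IH) (Lpn (LP (LK LD1_c25 LD2_c43 LD3_c8)))))))))))))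
theorem f883073 : Led Lsl_ft (LP (LK LD1_c15 LD2_c46 LD3_c59)) = (LP (LK LD1_c25 LD2_c43 LD3_c8)) :=
  Lre_f IH (LK LD1_c15 LD2_c46 LD3_c59) (LK LD1_c25 LD2_c43 LD3_c8) Lrfl Lrfl
theorem f883082 : Led Lsl_bt (LP (LK LD1_c25 LD2_c43 LD3_c36)) = (LP (LK LD1_c15 LD2_c46 LD3_c59)) :=
  Lre_b IH (LK LD1_c25 LD2_c43 LD3_c36) (LK LD1_c15 LD2_c46 LD3_c59) Lrfl Lrfl
theorem f883083 : Led Lsl_ft (LP (LK LD1_c28 LD2_c14 LD3_c15)) = (LP (LK LD1_c25 LD2_c43 LD3_c36)) :=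
  Lgr Lrot75 (Lpr_bf (f883077 IH) (Lpe (f883073 IH) (Lpe (f883082 IH) (Lpn (LP (LK LD1_c25 LD2_c43 LD3_c36))))))
theorem f374315 : Led Lsl_ft (LP (LK LD1_c25 LD2_c56 LD3_c4)) = (LP (LK LD1_c28 LD2_c14 LD3_c17)) :=
  Lgr Lrot48 (Lpr_ff (K51.f374305 IH) (Lpn (LP (LK LD1_c28 LD2_c14 LD3_c17))))
theorem f188914 : Led Lsl_gt (LP (LK LD1_c28 LD2_c14 LD3_c16)) = (LP (LK LD1_c18 LD2_c44 LD3_c12)) :=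
  Lre_g IH (LK LD1_c28 LD2_c14 LD3_c16) (LK LD1_c18 LD2_c44 LD3_c12) Lrfl Lrfl
theorem f374317 : Led Lsl_gt (LP (LK LD1_c25 LD2_c56 LD3_c4)) = (LP (LK LD1_c28 LD2_c14 LD3_c16)) :=
  Lgr Lrot5 (Lpr_ft (f374315 IH) (Lpr_at (K52.f271562 IH) (Lpe (f188914 IH) (Lpn (LP (LK LD1_c28 LD2_c14 LD3_c16))))))
theorem f883089 : Led Lsl_af (LP (LK LD1_c28 LD2_c14 LD3_c16)) = (LP (LK LD1_c25 LD2_c43 LD3_c36)) :=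
  Lgr Lrot31 (Lpe (f374317 IH) (Lpr_gf (K52.f374328 IH) (Lpr_ft (f883083 IH) (Lpn (LP (LK LD1_c25 LD2_c43 LD3_c36))))))
theorem f60078 : Led Lsl_at (LP (LK LD1_c21 LD2_c3 LD3_c56)) = (LP (LK LD1_c11 LD2_c59 LD3_c6)) :=
  Lre_a IH (LK LD1_c21 LD2_c3 LD3_c56) (LK LD1_c11 LD2_c59 LD3_c6) Lrfl Lrfl
theorem f616679 : Led Lsl_dt (LP (LK LD1_c16 LD2_c3 LD3_c2)) = (LP (LK LD1_c21 LD2_c3 LD3_c56)) :=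
  Lgr Lrot44 (Lpr_af (K52.f616675 IH) (Lpr_df (K52.f562169 IH) (Lpe (f60078 IH) (Lpn (LP (LK LD1_c21 LD2_c3 LD3_c56))))))
theorem f344445 : Led Lsl_ct (LP (LK LD1_c15 LD2_c43 LD3_c29)) = (LP (LK LD1_c15 LD2_c58 LD3_c25)) :=
  Lgr Lrot59 (Lpr_cf (K40.f344433 IH) (Lpn (LP (LK LD1_c15 LD2_c58 LD3_c25))))
theorem f323055 : Led Lsl_ff (LP (LK LD1_c25 LD2_c31 LD3_c27)) = (LP (LK LD1_c15 LD2_c58 LD3_c25)) :=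
  Lgr Lrot30 (Lpr_at (K27.f323053 IH) (Lpr_ft (K27.f323051 IH) (Lpr_at (K40.f323054 IH) (Lpn (LP (LK LD1_c15 LD2_c58 LD3_c25))))))
theorem f251792 : Led Lsl_gt (LP (LK LD1_c25 LD2_c31 LD3_c26)) = (LP (LK LD1_c15 LD2_c36 LD3_c54)) :=
  Lre_g IH (LK LD1_c25 LD2_c31 LD3_c26) (LK LD1_c15 LD2_c36 LD3_c54) Lrfl Lrfl
theorem f323114 : Led Lsl_gf (LP (LK LD1_c25 LD2_c31 LD3_c26)) = (LP (LK LD1_c15 LD2_c58 LD3_c25)) :=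
  Lgr Lrot47 (Lpr_gt (f251792 IH) (Lpe (K27.f323053 IH) (Lpr_ff (f323055 IH) (Lpn (LP (LK LD1_c15 LD2_c58 LD3_c25))))))
theorem f616950 : Led Lsl_dt (LP (LK LD1_c25 LD2_c31 LD3_c26)) = (LP (LK LD1_c28 LD2_c14 LD3_c16)) :=
  Lgr Lrot57 (Lpr_gf (f323114 IH) (Lpe (f344445 IH) (Lpr_gt (K52.f344451 IH) (Lpr_dt (f616679 IH) (Lpe (K40.f561768 IH) (Lpr_dt (K52.f290316 IH) (Lpr_cf (K30.f374188 IH) (Lpr_df (K51.f374332 IH) (Lpe (f188914 IH) (Lpn (LP (LK LD1_c28 LD2_c14 LD3_c16))))))))))))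
theorem f616952 : Led Lsl_df (LP (LK LD1_c25 LD2_c31 LD3_c26)) = (LP (LK LD1_c28 LD2_c14 LD3_c16)) :=
  Lgr Lrot38 (Lpr_dt (f616950 IH) (Lpn (LP (LK LD1_c28 LD2_c14 LD3_c16))))
theorem f883094 : Led Lsl_at (LP (LK LD1_c25 LD2_c31 LD3_c26)) = (LP (LK LD1_c15 LD2_c46 LD3_c58)) :=
  Lgr Lrot51 (Lpr_df (f616952 IH) (Lpr_af (f883089 IH) (Lpe (K51.f400761 IH) (Lpn (LP (LK LD1_c15 LD2_c46 LD3_c58))))))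
theorem f883100 : Led Lsl_ff (LP (LK LD1_c25 LD2_c31 LD3_c26)) = (LP (LK LD1_c15 LD2_c58 LD3_c24)) :=
  Lgr Lrot52 (Lpr_at (f883094 IH) (Lpe (K40.f400757 IH) (Lpe (K51.f323106 IH) (Lpn (LP (LK LD1_c15 LD2_c58 LD3_c24))))))
theorem f883106 : Led Lsl_ft (LP (LK LD1_c25 LD2_c31 LD3_c26)) = (LP (LK LD1_c15 LD2_c58 LD3_c24)) :=
  Lgr Lrot48 (Lpr_ff (f883100 IH) (Lpn (LP (LK LD1_c15 LD2_c58 LD3_c24))))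
theorem f883112 : Led Lsl_af (LP (LK LD1_c25 LD2_c31 LD3_c25)) = (LP (LK LD1_c15 LD2_c58 LD3_c24)) :=
  Lgr Lrot31 (Lpe (K52.f190845 IH) (Lpe (f251792 IH) (Lpr_ft (f883106 IH) (Lpn (LP (LK LD1_c15 LD2_c58 LD3_c24))))))
theorem f883117 : Led Lsl_at (LP (LK LD1_c28 LD2_c14 LD3_c15)) = (LP (LK LD1_c25 LD2_c55 LD3_c24)) :=
  Lgr Lrot51 (Lpe (K52.f616715 IH) (Lpr_af (f883112 IH) (Lpe (K51.f323112 IH) (Lpn (LP (LK LD1_c25 LD2_c55 LD3_c24))))))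
theorem f323111 : Led Lsl_ct (LP (LK LD1_c25 LD2_c55 LD3_c24)) = (LP (LK LD1_c32 LD2_c1 LD3_c53)) :=
  Lre_c IH (LK LD1_c25 LD2_c55 LD3_c24) (LK LD1_c32 LD2_c1 LD3_c53) Lrfl Lrfl
theorem f883125 : Led Lsl_af (LP (LK LD1_c28 LD2_c56 LD3_c24)) = (LP (LK LD1_c32 LD2_c1 LD3_c53)) :=
  Lgr Lrot68 (Lpr_ct (K52.f616721 IH) (Lpr_at (f883117 IH) (Lpr_ct (f323111 IH) (Lpn (LP (LK LD1_c32 LD2_c1 LD3_c53))))))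
theorem f174478 : Led Lsl_bt (LP (LK LD1_c26 LD2_c45 LD3_c33)) = (LP (LK LD1_c16 LD2_c47 LD3_c2)) :=
  Lre_b IH (LK LD1_c26 LD2_c45 LD3_c33) (LK LD1_c16 LD2_c47 LD3_c2) Lrfl Lrfl
theorem f382546 : Led Lsl_bt (LP (LK LD1_c19 LD2_c34 LD3_c30)) = (LP (LK LD1_c28 LD2_c56 LD3_c24)) :=
  Lre_b IH (LK LD1_c19 LD2_c34 LD3_c30) (LK LD1_c28 LD2_c56 LD3_c24) Lrfl Lrfl
theorem f382547 : Led Lsl_df (LP (LK LD1_c26 LD2_c45 LD3_c33)) = (LP (LK LD1_c28 LD2_c56 LD3_c24)) :=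
  Lgr Lrot12 (Lpr_bt (f174478 IH) (Lpr_dt (K67.f382540 IH) (Lpr_bt (f382546 IH) (Lpn (LP (LK LD1_c28 LD2_c56 LD3_c24))))))
theorem f374196 : Led Lsl_ct (LP (LK LD1_c16 LD2_c5 LD3_c13)) = (LP (LK LD1_c15 LD2_c57 LD3_c43)) :=
  Lgr Lrot59 (Lpr_cf (K31.f374192 IH) (Lpn (LP (LK LD1_c15 LD2_c57 LD3_c43))))
theorem f192014 : Led Lsl_gf (LP (LK LD1_c16 LD2_c5 LD3_c13)) = (LP (LK LD1_c15 LD2_c45 LD3_c44)) :=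
  Lgr Lrot47 (Lpr_gt (K31.f188830 IH) (Lpe (K30.f192011 IH) (Lpr_ff (K51.f192000 IH) (Lpn (LP (LK LD1_c15 LD2_c45 LD3_c44))))))
theorem f374267 : Led Lsl_gt (LP (LK LD1_c8 LD2_c35 LD3_c45)) = (LP (LK LD1_c15 LD2_c59 LD3_c39)) :=
  Lgr Lrot82 (Lpe (K41.f52067 IH) (Lpr_ct (K41.f52066 IH) (Lpr_gf (K54.f52056 IH) (Lpe (K54.f51847 IH) (Lpr_bt (K30.f51854 IH) (Lpe (K67.f51873 IH) (Lpe (K31.f51888 IH) (Lpe (K31.f374192 IH) (Lpr_gf (f192014 IH) (Lpr_cf (K52.f374237 IH) (Lpn (LP (LK LD1_c15 LD2_c59 LD3_c39)))))))))))))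
theorem f617027 : Led Lsl_gt (LP (LK LD1_c16 LD2_c7 LD3_c4)) = (LP (LK LD1_c25 LD2_c57 LD3_c13)) :=
  Lgr Lrot9 (Lpe (K52.f271504 IH) (Lpr_gt (f374267 IH) (Lpe (K52.f374237 IH) (Lpe (f192014 IH) (Lpr_ct (f374196 IH) (Lpe (K51.f374198 IH) (Lpr_cf (K36.f423925 IH) (Lpe (K52.f271564 IH) (Lpr_cf (K52.f617021 IH) (Lpn (LP (LK LD1_c25 LD2_c57 LD3_c13))))))))))))
theorem f271506 : Led Lsl_ct (LP (LK LD1_c16 LD2_c7 LD3_c4)) = (LP (LK LD1_c26 LD2_c3 LD3_c50)) :=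
  Lre_c IH (LK LD1_c16 LD2_c7 LD3_c4) (LK LD1_c26 LD2_c3 LD3_c50) Lrfl Lrfl
theorem f221254 : Led Lsl_bt (LP (LK LD1_c4 LD2_c16 LD3_c23)) = (LP (LK LD1_c8 LD2_c31 LD3_c55)) :=
  Lre_b IH (LK LD1_c4 LD2_c16 LD3_c23) (LK LD1_c8 LD2_c31 LD3_c55) Lrfl Lrfl
theorem f245439 : Led Lsl_at (LP (LK LD1_c10 LD2_c49 LD3_c39)) = (LP (LK LD1_c5 LD2_c29 LD3_c14)) :=
  Lre_a IH (LK LD1_c10 LD2_c49 LD3_c39) (LK LD1_c5 LD2_c29 LD3_c14) Lrfl Lrfl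
theorem f168555 : Led Lsl_gt (LP (LK LD1_c10 LD2_c49 LD3_c47)) = (LP (LK LD1_c5 LD2_c29 LD3_c14)) :=
  Lre_g IH (LK LD1_c10 LD2_c49 LD3_c47) (LK LD1_c5 LD2_c29 LD3_c14) Lrfl Lrfl
theorem f245446 : Led Lsl_gf (LP (LK LD1_c10 LD2_c49 LD3_c47)) = (LP (LK LD1_c16 LD2_c45 LD3_c0)) :=
  Lgr Lrot47 (Lpr_gt (f168555 IH) (Lpe (f245439 IH) (Lpr_ff (K31.f245436 IH) (Lpn (LP (LK LD1_c16 LD2_c45 LD3_c0))))))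
theorem f245448 : Led Lsl_dt (LP (LK LD1_c10 LD2_c49 LD3_c47)) = (LP (LK LD1_c19 LD2_c34 LD3_c27)) :=
  Lre_d IH (LK LD1_c10 LD2_c49 LD3_c47) (LK LD1_c19 LD2_c34 LD3_c27) Lrfl Lrfl
theorem f399650 : Led Lsl_gf (LP (LK LD1_c10 LD2_c55 LD3_c11)) = (LP (LK LD1_c19 LD2_c34 LD3_c27)) :=
  Lgr Lrot143 (Lpr_dt (K20.f178896 IH) (Lpe (K31.f226407 IH) (Lpe (K30.f224534 IH) (Lpe (K27.f221294 IH) (Lpr_df (K31.f399542 IH) (Lpr_gf (K31.f245470 IH) (Lpe (K30.f245269 IH) (Lpe (f245446 IH) (Lpr_dt (f245448 IH) (Lpn (LP (LK LD1_c19 LD2_c34 LD3_c27))))))))))))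
theorem f271482 : Led Lsl_cf (LP (LK LD1_c8 LD2_c29 LD3_c47)) = (LP (LK LD1_c4 LD2_c29 LD3_c1)) :=
  Lgr Lrot11 (Lpr_ct (K16.f271475 IH) (Lpn (LP (LK LD1_c4 LD2_c29 LD3_c1))))
theorem f399654 : Led Lsl_bt (LP (LK LD1_c26 LD2_c3 LD3_c50)) = (LP (LK LD1_c19 LD2_c34 LD3_c27)) :=
  Lgr Lrot178 (Lpe (f271506 IH) (Lpe (K52.f271504 IH) (Lpe (K41.f271494 IH) (Lpe (K30.f271493 IH) (Lpr_cf (f271482 IH) (Lpe (K10.f188594 IH) (Lpr_gf (K10.f188592 IH) (Lpe (K10.f188586 IH) (Lpe (K12.f42754 IH) (Lpe (K16.f43140 IH) (Lpe (K16.f226936 IH) (Lpe (K12.f178104 IH) (Lpe (K12.f177860 IH) (Lpr_df (K12.f178885 IH) (Lpe (K12.f173037 IH) (Lpe (K31.f178894 IH) (Lpe (K20.f178895 IH) (Lpe (K20.f178896 IH) (Lpr_gf (f399650 IH) (Lpn (LP (LK LD1_c19 LD2_c34 LD3_c27))))))))))))))))))))))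
theorem f271505 : Led Lsl_ct (LP (LK LD1_c26 LD2_c3 LD3_c50)) = (LP (LK LD1_c16 LD2_c7 LD3_c4)) :=
  Lre_c IH (LK LD1_c26 LD2_c3 LD3_c50) (LK LD1_c16 LD2_c7 LD3_c4) Lrfl Lrfl
theorem f550661 : Led Lsl_gt (LP (LK LD1_c15 LD2_c58 LD3_c26)) = (LP (LK LD1_c16 LD2_c7 LD3_c4)) :=
  Lgr Lrot149 (Lpe (K38.f271464 IH) (Lpr_gf (K38.f550655 IH) (Lpe (K36.f423909 IH) (Lpr_ct (K38.f423905 IH) (Lpe (K38.f423913 IH) (Lpe (K16.f280363 IH) (Lpe (K20.f280847 IH) (Lpr_gf (f399650 IH) (Lpe (f399654 IH) (Lpr_ct (f271505 IH) (Lpn (LP (LK LD1_c16 LD2_c7 LD3_c4)))))))))))))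
theorem f616776 : Led Lsl_gf (LP (LK LD1_c29 LD2_c25 LD3_c32)) = (LP (LK LD1_c26 LD2_c3 LD3_c50)) :=
  Lgr Lrot129 (Lpr_cf (K52.f616769 IH) (Lpr_bt (K52.f221280 IH) (Lpr_gt (K52.f221279 IH) (Lpe (f221254 IH) (Lpr_ct (K18.f221235 IH) (Lpr_gt (K18.f295113 IH) (Lpe (K16.f271460 IH) (Lpr_bt (K52.f271477 IH) (Lpr_gt (f550661 IH) (Lpr_ct (f271506 IH) (Lpn (LP (LK LD1_c26 LD2_c3 LD3_c50)))))))))))))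
theorem f68698 : Led Lsl_dt (LP (LK LD1_c29 LD2_c25 LD3_c32)) = (LP (LK LD1_c20 LD2_c21 LD3_c55)) :=
  Lre_d IH (LK LD1_c29 LD2_c25 LD3_c32) (LK LD1_c20 LD2_c21 LD3_c55) Lrfl Lrfl
theorem f68609 : Led Lsl_bt (LP (LK LD1_c2 LD2_c47 LD3_c9)) = (LP (LK LD1_c5 LD2_c42 LD3_c23)) :=
  Lre_b IH (LK LD1_c2 LD2_c47 LD3_c9) (LK LD1_c5 LD2_c42 LD3_c23) Lrfl Lrfl
theorem f68610 : Led Lsl_gt (LP (LK LD1_c11 LD2_c14 LD3_c59)) = (LP (LK LD1_c5 LD2_c42 LD3_c23)) :=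
  Lre_g IH (LK LD1_c11 LD2_c14 LD3_c59) (LK LD1_c5 LD2_c42 LD3_c23) Lrfl Lrfl
theorem f68611 : Led Lsl_bt (LP (LK LD1_c20 LD2_c9 LD3_c59)) = (LP (LK LD1_c11 LD2_c14 LD3_c59)) :=
  Lre_b IH (LK LD1_c20 LD2_c9 LD3_c59) (LK LD1_c11 LD2_c14 LD3_c59) Lrfl Lrfl
theorem f68612 : Led Lsl_ct (LP (LK LD1_c20 LD2_c9 LD3_c59)) = (LP (LK LD1_c29 LD2_c19 LD3_c44)) :=
  Lre_c IH (LK LD1_c20 LD2_c9 LD3_c59) (LK LD1_c29 LD2_c19 LD3_c44) Lrfl Lrfl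
theorem f68614 : Led Lsl_gf (LP (LK LD1_c29 LD2_c19 LD3_c44)) = (LP (LK LD1_c20 LD2_c21 LD3_c55)) :=
  Lgr Lrot129 (Lpe (f68612 IH) (Lpr_bt (f68611 IH) (Lpr_gt (f68610 IH) (Lpe (f68609 IH) (Lpr_ct (K40.f68598 IH) (Lpr_gt (K10.f68579 IH) (Lpe (K39.f60002 IH) (Lpr_bt (K52.f59999 IH) (Lpr_gt (K52.f60041 IH) (Lpr_ct (K52.f68613 IH) (Lpn (LP (LK LD1_c20 LD2_c21 LD3_c55)))))))))))))
theorem f323110 : Led Lsl_ct (LP (LK LD1_c32 LD2_c1 LD3_c53)) = (LP (LK LD1_c25 LD2_c55 LD3_c24)) :=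
  Lre_c IH (LK LD1_c32 LD2_c1 LD3_c53) (LK LD1_c25 LD2_c55 LD3_c24) Lrfl Lrfl
theorem f617029 : Led Lsl_dt (LP (LK LD1_c29 LD2_c19 LD3_c44)) = (LP (LK LD1_c32 LD2_c1 LD3_c53)) :=
  Lgr Lrot105 (Lpr_gf (f68614 IH) (Lpe (f68698 IH) (Lpr_gf (f616776 IH) (Lpe (f271506 IH) (Lpr_gt (f617027 IH) (Lpe (K27.f323076 IH) (Lpr_gt (K51.f323107 IH) (Lpr_dt (K51.f323109 IH) (Lpe (f323110 IH) (Lpn (LP (LK LD1_c32 LD2_c1 LD3_c53))))))))))))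
theorem f883129 : Led Lsl_at (LP (LK LD1_c26 LD2_c45 LD3_c33)) = (LP (LK LD1_c29 LD2_c19 LD3_c44)) :=
  Lgr Lrot51 (Lpr_df (f382547 IH) (Lpr_af (f883125 IH) (Lpe (f617029 IH) (Lpn (LP (LK LD1_c29 LD2_c19 LD3_c44))))))
theorem f883135 : Led Lsl_ff (LP (LK LD1_c26 LD2_c45 LD3_c33)) = (LP (LK LD1_c19 LD2_c43 LD3_c35)) :=
  Lgr Lrot52 (Lpr_at (f883129 IH) (Lpr_gf (f68614 IH) (Lpr_gf (K52.f616763 IH) (Lpn (LP (LK LD1_c19 LD2_c43 LD3_c35))))))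
theorem f883143 : Led Lsl_ft (LP (LK LD1_c26 LD2_c45 LD3_c33)) = (LP (LK LD1_c19 LD2_c43 LD3_c35)) :=
  Lgr Lrot48 (Lpr_ff (f883135 IH) (Lpn (LP (LK LD1_c19 LD2_c43 LD3_c35))))
theorem f174219 : Led Lsl_bt (LP (LK LD1_c10 LD2_c58 LD3_c8)) = (LP (LK LD1_c19 LD2_c48 LD3_c38)) :=
  Lre_b IH (LK LD1_c10 LD2_c58 LD3_c8) (LK LD1_c19 LD2_c48 LD3_c38) Lrfl Lrfl
theorem f390244 : Led Lsl_cf (LP (LK LD1_c26 LD2_c45 LD3_c33)) = (LP (LK LD1_c19 LD2_c48 LD3_c38)) :=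
  Lgr Lrot97 (Lpr_bt (f174478 IH) (Lpr_ct (K31.f390174 IH) (Lpr_bt (K38.f390178 IH) (Lpr_ct (K27.f380860 IH) (Lpr_bt (f174219 IH) (Lpn (LP (LK LD1_c19 LD2_c48 LD3_c38))))))))
theorem f388256 : Led Lsl_bt (LP (LK LD1_c5 LD2_c36 LD3_c47)) = (LP (LK LD1_c11 LD2_c5 LD3_c36)) :=
  Lre_b IH (LK LD1_c5 LD2_c36 LD3_c47) (LK LD1_c11 LD2_c5 LD3_c36) Lrfl Lrfl
theorem f388257 : Led Lsl_bt (LP (LK LD1_c19 LD2_c59 LD3_c0)) = (LP (LK LD1_c11 LD2_c5 LD3_c43)) :=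
  Lre_b IH (LK LD1_c19 LD2_c59 LD3_c0) (LK LD1_c11 LD2_c5 LD3_c43) Lrfl Lrfl
theorem f388258 : Led Lsl_ct (LP (LK LD1_c19 LD2_c43 LD3_c35)) = (LP (LK LD1_c19 LD2_c59 LD3_c0)) :=
  Lgr Lrot83 (Lpe (K52.f388255 IH) (Lpr_cf (K31.f388253 IH) (Lpe (f388256 IH) (Lpe (K52.f385074 IH) (Lpe (f388257 IH) (Lpn (LP (LK LD1_c19 LD2_c59 LD3_c0))))))))
theorem f883149 : Led Lsl_ff (LP (LK LD1_c19 LD2_c48 LD3_c38)) = (LP (LK LD1_c19 LD2_c59 LD3_c0)) :=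
  Lgr Lrot23 (Lpe (f390244 IH) (Lpr_ft (f883143 IH) (Lpr_ct (f388258 IH) (Lpn (LP (LK LD1_c19 LD2_c59 LD3_c0))))))
theorem f616995 : Led Lsl_gt (LP (LK LD1_c20 LD2_c21 LD3_c45)) = (LP (LK LD1_c20 LD2_c11 LD3_c25)) :=
  Lgr Lrot5 (Lpr_ft (K52.f561918 IH) (Lpr_at (K52.f561896 IH) (Lpe (K52.f280311 IH) (Lpn (LP (LK LD1_c20 LD2_c11 LD3_c25))))))
theorem f617033 : Led Lsl_gf (LP (LK LD1_c20 LD2_c9 LD3_c59)) = (LP (LK LD1_c21 LD2_c15 LD3_c16)) :=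
  Lgr Lrot172 (Lpr_ct (f68612 IH) (Lpr_dt (f617029 IH) (Lpe (f323111 IH) (Lpr_gf (K51.f562182 IH) (Lpe (K52.f562180 IH) (Lpe (K52.f561976 IH) (Lpr_dt (K51.f60081 IH) (Lpr_gt (f616995 IH) (Lpe (K52.f613451 IH) (Lpn (LP (LK LD1_c21 LD2_c15 LD3_c16))))))))))))
theorem f883153 : Led Lsl_at (LP (LK LD1_c19 LD2_c48 LD3_c38)) = (LP (LK LD1_c20 LD2_c9 LD3_c59)) :=
  Lgr Lrot26 (Lpr_ff (f883149 IH) (Lpr_gt (K52.f613438 IH) (Lpe (f617033 IH) (Lpn (LP (LK LD1_c20 LD2_c9 LD3_c59))))))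
theorem f388301 : Led Lsl_at (LP (LK LD1_c29 LD2_c13 LD3_c60)) = (LP (LK LD1_c19 LD2_c59 LD3_c0)) :=
  Lre_a IH (LK LD1_c29 LD2_c13 LD3_c60) (LK LD1_c19 LD2_c59 LD3_c0) Lrfl Lrfl
theorem f883155 : Led Lsl_ff (LP (LK LD1_c29 LD2_c13 LD3_c60)) = (LP (LK LD1_c20 LD2_c9 LD3_c59)) :=
  Lgr Lrot30 (Lpr_at (f388301 IH) (Lpe (f883149 IH) (Lpr_at (f883153 IH) (Lpn (LP (LK LD1_c20 LD2_c9 LD3_c59))))))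
theorem f883160 : Led Lsl_ft (LP (LK LD1_c29 LD2_c13 LD3_c60)) = (LP (LK LD1_c20 LD2_c9 LD3_c59)) :=
  Lgr Lrot48 (Lpr_ff (f883155 IH) (Lpn (LP (LK LD1_c20 LD2_c9 LD3_c59))))
theorem f883162 : Led Lsl_ft (LP (LK LD1_c11 LD2_c14 LD3_c59)) = (LP (LK LD1_c20 LD2_c9 LD3_c57)) :=
  Lre_f IH (LK LD1_c11 LD2_c14 LD3_c59) (LK LD1_c20 LD2_c9 LD3_c57) Lrfl Lrfl
theorem f883163 : Led Lsl_bf (LP (LK LD1_c29 LD2_c13 LD3_c60)) = (LP (LK LD1_c20 LD2_c9 LD3_c57)) :=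
  Lgr Lrot61 (Lpr_ft (f883160 IH) (Lpr_bt (f68611 IH) (Lpr_ft (f883162 IH) (Lpn (LP (LK LD1_c20 LD2_c9 LD3_c57))))))
theorem f549405 : Led Lsl_at (LP (LK LD1_c11 LD2_c14 LD3_c58)) = (LP (LK LD1_c20 LD2_c9 LD3_c57)) :=
  Lre_a IH (LK LD1_c11 LD2_c14 LD3_c58) (LK LD1_c20 LD2_c9 LD3_c57) Lrfl Lrfl
theorem f68717 : Led Lsl_gt (LP (LK LD1_c5 LD2_c42 LD3_c23)) = (LP (LK LD1_c11 LD2_c14 LD3_c58)) :=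
  Lre_g IH (LK LD1_c5 LD2_c42 LD3_c23) (LK LD1_c11 LD2_c14 LD3_c58) Lrfl Lrfl
theorem f225814 : Led Lsl_ct (LP (LK LD1_c10 LD2_c58 LD3_c10)) = (LP (LK LD1_c5 LD2_c33 LD3_c7)) :=
  Lre_c IH (LK LD1_c10 LD2_c58 LD3_c10) (LK LD1_c5 LD2_c33 LD3_c7) Lrfl Lrfl
theorem f549392 : Led Lsl_bf (LP (LK LD1_c11 LD2_c14 LD3_c58)) = (LP (LK LD1_c10 LD2_c58 LD3_c10)) :=
  Lgr Lrot34 (Lpe (f68717 IH) (Lpe (f68609 IH) (Lpr_ct (K40.f68598 IH) (Lpe (K10.f68588 IH) (Lpe (K39.f412097 IH) (Lpr_gf (K39.f549386 IH) (Lpe (K52.f225722 IH) (Lpr_ct (K50.f174181 IH) (Lpe (K50.f213746 IH) (Lpe (f225814 IH) (Lpn (LP (LK LD1_c10 LD2_c58 LD3_c10)))))))))))))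
theorem f883165 : Led Lsl_at (LP (LK LD1_c11 LD2_c5 LD3_c43)) = (LP (LK LD1_c10 LD2_c58 LD3_c10)) :=
  Lgr Lrot67 (Lpe (f388257 IH) (Lpe (f388301 IH) (Lpr_bf (f883163 IH) (Lpe (f549405 IH) (Lpr_bf (f549392 IH) (Lpn (LP (LK LD1_c10 LD2_c58 LD3_c10))))))))
theorem f883174 : K67.v15344 = (LP (LK LD1_c5 LD2_c33 LD3_c7)) :=
  (Llr Lrot68 (Lpe (K67.f735774 IH) (Lpr_ct (K52.f178175 IH) (Lpr_at (f883165 IH) (Lpr_ct (f225814 IH) (Lpn (LP (LK LD1_c5 LD2_c33 LD3_c7)))))))).symm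
theorem f883175 : (LP (LK LD1_c5 LD2_c36 LD3_c47)) = K67.v15155 :=
  Lefun (Lecon (Lfl_af (K67.f735774 IH)) (f883174 IH)) (K67.f732587 IH)
theorem f883182 : K67.v12804 = (LP (LK LD1_c2 LD2_c44 LD3_c14)) :=
  Lefun (Lecon (Lfl_df (K67.f732585 IH)) (f883175 IH).symm) (K54.f178066 IH)
theorem f883208 : (LP (LK LD1_c4 LD2_c31 LD3_c31)) = K67.v4718 :=
  Lefun (Lecon (Lfl_ff (K67.f698299 IH)) (f883182 IH)) (K67.f638654 IH)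
theorem f883218 : K67.v15343 = (LP (LK LD1_c9 LD2_c1 LD3_c0)) :=
  Lefun (Lecon (K67.f735771 IH) (f883208 IH).symm) (K31.f235860 IH)
theorem f883270 : Led Lsl_ff (LP (LK LD1_c11 LD2_c5 LD3_c41)) = (LP (LK LD1_c16 LD2_c50 LD3_c57)) :=
  Lgr Lrot19 (Lpr_dt (K54.f388281 IH) (Lpr_ft (K67.f735765 IH) (Lpqs (f883218 IH) (Lpr_dt (K50.f384950 IH) (Lpn (LP (LK LD1_c16 LD2_c50 LD3_c57)))))))
theorem f883277 : Led Lsl_ft (LP (LK LD1_c11 LD2_c5 LD3_c41)) = (LP (LK LD1_c16 LD2_c50 LD3_c57)) :=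
  Lgr Lrot48 (Lpr_ff (f883270 IH) (Lpn (LP (LK LD1_c16 LD2_c50 LD3_c57))))
theorem f354471 : Led Lsl_bf (LP (LK LD1_c11 LD2_c1 LD3_c37)) = (LP (LK LD1_c5 LD2_c40 LD3_c9)) :=
  Lgr Lrot93 (Lpr_dt (K50.f44744 IH) (Lpr_bt (K40.f354461 IH) (Lpr_dt (K30.f354390 IH) (Lpn (LP (LK LD1_c5 LD2_c40 LD3_c9))))))
theorem f354475 : Led Lsl_bt (LP (LK LD1_c11 LD2_c1 LD3_c37)) = (LP (LK LD1_c5 LD2_c40 LD3_c9)) :=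
  Lgr Lrot127 (Lpr_bf (f354471 IH) (Lpn (LP (LK LD1_c5 LD2_c40 LD3_c9))))
theorem f613456 : Led Lsl_ff (LP (LK LD1_c11 LD2_c1 LD3_c37)) = (LP (LK LD1_c5 LD2_c40 LD3_c58)) :=
  Lgr Lrot25 (Lpr_bt (f354475 IH) (Lpr_ft (K52.f613432 IH) (Lpr_bt (K40.f172282 IH) (Lpn (LP (LK LD1_c5 LD2_c40 LD3_c58))))))
theorem f225763 : Led Lsl_ct (LP (LK LD1_c5 LD2_c33 LD3_c20)) = (LP (LK LD1_c2 LD2_c46 LD3_c39)) :=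
  Lgr Lrot59 (Lpr_cf (K40.f225738 IH) (Lpn (LP (LK LD1_c2 LD2_c46 LD3_c39))))
theorem f225769 : Led Lsl_bt (LP (LK LD1_c10 LD2_c58 LD3_c18)) = (LP (LK LD1_c5 LD2_c33 LD3_c20)) :=
  Lre_b IH (LK LD1_c10 LD2_c58 LD3_c18) (LK LD1_c5 LD2_c33 LD3_c20) Lrfl Lrfl
theorem f225770 : Led Lsl_ct (LP (LK LD1_c19 LD2_c48 LD3_c47)) = (LP (LK LD1_c10 LD2_c58 LD3_c18)) :=
  Lre_c IH (LK LD1_c19 LD2_c48 LD3_c47) (LK LD1_c10 LD2_c58 LD3_c18) Lrfl Lrfl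
theorem f225771 : Led Lsl_ct (LP (LK LD1_c5 LD2_c41 LD3_c6)) = (LP (LK LD1_c11 LD2_c12 LD3_c39)) :=
  Lre_c IH (LK LD1_c5 LD2_c41 LD3_c6) (LK LD1_c11 LD2_c12 LD3_c39) Lrfl Lrfl
theorem f225772 : Led Lsl_bf (LP (LK LD1_c19 LD2_c48 LD3_c47)) = (LP (LK LD1_c11 LD2_c12 LD3_c39)) :=
  Lgr Lrot90 (Lpr_ct (f225770 IH) (Lpr_bt (f225769 IH) (Lpr_ct (f225763 IH) (Lpr_bt (K24.f225768 IH) (Lpr_ct (f225771 IH) (Lpn (LP (LK LD1_c11 LD2_c12 LD3_c39))))))))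
theorem f225777 : Led Lsl_ft (LP (LK LD1_c19 LD2_c48 LD3_c47)) = (LP (LK LD1_c10 LD2_c58 LD3_c15)) :=
  Lre_f IH (LK LD1_c19 LD2_c48 LD3_c47) (LK LD1_c10 LD2_c58 LD3_c15) Lrfl Lrfl
theorem f225778 : Led Lsl_ft (LP (LK LD1_c5 LD2_c41 LD3_c2)) = (LP (LK LD1_c11 LD2_c12 LD3_c39)) :=
  Lre_f IH (LK LD1_c5 LD2_c41 LD3_c2) (LK LD1_c11 LD2_c12 LD3_c39) Lrfl Lrfl
theorem f225779 : Led Lsl_bt (LP (LK LD1_c10 LD2_c58 LD3_c15)) = (LP (LK LD1_c5 LD2_c41 LD3_c2)) :=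
  Lgr Lrot35 (Lpe (f225777 IH) (Lpr_bf (f225772 IH) (Lpe (f225778 IH) (Lpn (LP (LK LD1_c5 LD2_c41 LD3_c2))))))
theorem f225787 : Led Lsl_et (LP (LK LD1_c5 LD2_c33 LD3_c8)) = (LP (LK LD1_c10 LD2_c58 LD3_c15)) :=
  Lre_e IH (LK LD1_c5 LD2_c33 LD3_c8) (LK LD1_c10 LD2_c58 LD3_c15) Lrfl Lrfl
theorem f225788 : Led Lsl_et (LP (LK LD1_c5 LD2_c41 LD3_c2)) = (LP (LK LD1_c2 LD2_c46 LD3_c33)) :=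
  Lre_e IH (LK LD1_c5 LD2_c41 LD3_c2) (LK LD1_c2 LD2_c46 LD3_c33) Lrfl Lrfl
theorem f225789 : Led Lsl_bf (LP (LK LD1_c5 LD2_c33 LD3_c8)) = (LP (LK LD1_c2 LD2_c46 LD3_c33)) :=
  Lgr Lrot96 (Lpr_et (f225787 IH) (Lpr_bt (f225779 IH) (Lpr_et (f225788 IH) (Lpn (LP (LK LD1_c2 LD2_c46 LD3_c33))))))
theorem f174179 : Led Lsl_dt (LP (LK LD1_c5 LD2_c33 LD3_c8)) = (LP (LK LD1_c10 LD2_c58 LD3_c14)) :=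
  Lre_d IH (LK LD1_c5 LD2_c33 LD3_c8) (LK LD1_c10 LD2_c58 LD3_c14) Lrfl Lrfl
theorem f494032 : Led Lsl_bf (LP (LK LD1_c5 LD2_c39 LD3_c61)) = (LP (LK LD1_c10 LD2_c58 LD3_c14)) :=
  Lgr Lrot93 (Lpr_dt (K39.f494027 IH) (Lpe (f225789 IH) (Lpr_dt (f174179 IH) (Lpn (LP (LK LD1_c10 LD2_c58 LD3_c14))))))
theorem f226624 : Led Lsl_at (LP (LK LD1_c5 LD2_c34 LD3_c38)) = (LP (LK LD1_c11 LD2_c1 LD3_c34)) :=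
  Lre_a IH (LK LD1_c5 LD2_c34 LD3_c38) (LK LD1_c11 LD2_c1 LD3_c34) Lrfl Lrfl
theorem f494036 : Led Lsl_at (LP (LK LD1_c19 LD2_c47 LD3_c61)) = (LP (LK LD1_c10 LD2_c58 LD3_c14)) :=
  Lre_a IH (LK LD1_c19 LD2_c47 LD3_c61) (LK LD1_c10 LD2_c58 LD3_c14) Lrfl Lrfl
theorem f494037 : Led Lsl_bt (LP (LK LD1_c11 LD2_c1 LD3_c34)) = (LP (LK LD1_c19 LD2_c47 LD3_c61)) :=
  Lgr Lrot62 (Lpe (f226624 IH) (Lpr_bf (K40.f354469 IH) (Lpe (K39.f354405 IH) (Lpr_bf (f494032 IH) (Lpe (f494036 IH) (Lpn (LP (LK LD1_c19 LD2_c47 LD3_c61))))))))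
theorem f379808 : Led Lsl_dt (LP (LK LD1_c19 LD2_c47 LD3_c61)) = (LP (LK LD1_c10 LD2_c57 LD3_c51)) :=
  Lre_d IH (LK LD1_c19 LD2_c47 LD3_c61) (LK LD1_c10 LD2_c57 LD3_c51) Lrfl Lrfl
theorem f225793 : Led Lsl_bt (LP (LK LD1_c10 LD2_c57 LD3_c51)) = (LP (LK LD1_c19 LD2_c47 LD3_c60)) :=
  Lre_b IH (LK LD1_c10 LD2_c57 LD3_c51) (LK LD1_c19 LD2_c47 LD3_c60) Lrfl Lrfl
theorem f494041 : Led Lsl_df (LP (LK LD1_c11 LD2_c1 LD3_c34)) = (LP (LK LD1_c19 LD2_c47 LD3_c60)) :=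
  Lgr Lrot12 (Lpr_bt (f494037 IH) (Lpr_dt (f379808 IH) (Lpr_bt (f225793 IH) (Lpn (LP (LK LD1_c19 LD2_c47 LD3_c60))))))
theorem f226603 : Led Lsl_at (LP (LK LD1_c11 LD2_c1 LD3_c34)) = (LP (LK LD1_c5 LD2_c34 LD3_c38)) :=
  Lre_a IH (LK LD1_c11 LD2_c1 LD3_c34) (LK LD1_c5 LD2_c34 LD3_c38) Lrfl Lrfl
theorem f494043 : Led Lsl_at (LP (LK LD1_c11 LD2_c1 LD3_c37)) = (LP (LK LD1_c19 LD2_c47 LD3_c60)) :=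
  Lgr Lrot51 (Lpe (K50.f175136 IH) (Lpe (f226603 IH) (Lpr_df (f494041 IH) (Lpn (LP (LK LD1_c19 LD2_c47 LD3_c60))))))
theorem f613427 : Led Lsl_at (LP (LK LD1_c11 LD2_c12 LD3_c30)) = (LP (LK LD1_c5 LD2_c40 LD3_c58)) :=
  Lre_a IH (LK LD1_c11 LD2_c12 LD3_c30) (LK LD1_c5 LD2_c40 LD3_c58) Lrfl Lrfl
theorem f613458 : Led Lsl_ft (LP (LK LD1_c19 LD2_c47 LD3_c60)) = (LP (LK LD1_c11 LD2_c12 LD3_c30)) :=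
  Lgr Lrot101 (Lpe (f494043 IH) (Lpr_ff (f613456 IH) (Lpe (f613427 IH) (Lpn (LP (LK LD1_c11 LD2_c12 LD3_c30))))))
theorem f613490 : Led Lsl_gt (LP (LK LD1_c19 LD2_c47 LD3_c60)) = (LP (LK LD1_c11 LD2_c12 LD3_c29)) :=
  Lgr Lrot5 (Lpr_ft (f613458 IH) (Lpr_at (f613427 IH) (Lpe (K40.f172283 IH) (Lpn (LP (LK LD1_c11 LD2_c12 LD3_c29))))))
theorem f379807 : Led Lsl_ct (LP (LK LD1_c10 LD2_c57 LD3_c51)) = (LP (LK LD1_c5 LD2_c33 LD3_c0)) :=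
  Lre_c IH (LK LD1_c10 LD2_c57 LD3_c51) (LK LD1_c5 LD2_c33 LD3_c0) Lrfl Lrfl
theorem f385075 : Led Lsl_gt (LP (LK LD1_c19 LD2_c58 LD3_c61)) = (LP (LK LD1_c11 LD2_c5 LD3_c43)) :=
  Lre_g IH (LK LD1_c19 LD2_c58 LD3_c61) (LK LD1_c11 LD2_c5 LD3_c43) Lrfl Lrfl
theorem f172273 : Led Lsl_ct (LP (LK LD1_c11 LD2_c24 LD3_c38)) = (LP (LK LD1_c20 LD2_c22 LD3_c23)) :=
  Lre_c IH (LK LD1_c11 LD2_c24 LD3_c38) (LK LD1_c20 LD2_c22 LD3_c23) Lrfl Lrfl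
theorem f613492 : Led Lsl_bf (LP (LK LD1_c19 LD2_c58 LD3_c61)) = (LP (LK LD1_c11 LD2_c24 LD3_c38)) :=
  Lgr Lrot165 (Lpr_gt (f385075 IH) (Lpr_ct (K52.f385074 IH) (Lpe (K45.f388263 IH) (Lpe (f379807 IH) (Lpr_bt (f225793 IH) (Lpr_gt (f613490 IH) (Lpe (K40.f172284 IH) (Lpr_ct (K40.f562001 IH) (Lpe (K40.f562011 IH) (Lpe (f172273 IH) (Lpn (LP (LK LD1_c11 LD2_c24 LD3_c38)))))))))))))
theorem f53789 : Led Lsl_at (LP (LK LD1_c25 LD2_c19 LD3_c1)) = (LP (LK LD1_c15 LD2_c27 LD3_c24)) :=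
  Lre_a IH (LK LD1_c25 LD2_c19 LD3_c1) (LK LD1_c15 LD2_c27 LD3_c24) Lrfl Lrfl
theorem f562019 : Led Lsl_ft (LP (LK LD1_c20 LD2_c22 LD3_c23)) = (LP (LK LD1_c25 LD2_c19 LD3_c1)) :=
  Lgr Lrot101 (Lpr_af (K40.f562013 IH) (Lpr_ff (K40.f222874 IH) (Lpe (f53789 IH) (Lpn (LP (LK LD1_c25 LD2_c19 LD3_c1))))))
theorem f53768 : Led Lsl_dt (LP (LK LD1_c15 LD2_c27 LD3_c23)) = (LP (LK LD1_c25 LD2_c19 LD3_c1)) :=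
  Lre_d IH (LK LD1_c15 LD2_c27 LD3_c23) (LK LD1_c25 LD2_c19 LD3_c1) Lrfl Lrfl
theorem f382477 : Led Lsl_bt (LP (LK LD1_c25 LD2_c19 LD3_c1)) = (LP (LK LD1_c19 LD2_c32 LD3_c16)) :=
  Lgr Lrot95 (Lpe (f53768 IH) (Lpe (K30.f53805 IH) (Lpr_df (K27.f382469 IH) (Lpn (LP (LK LD1_c19 LD2_c32 LD3_c16))))))
theorem f562021 : Led Lsl_bf (LP (LK LD1_c20 LD2_c22 LD3_c23)) = (LP (LK LD1_c19 LD2_c48 LD3_c56)) :=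
  Lgr Lrot61 (Lpr_ft (f562019 IH) (Lpr_bt (f382477 IH) (Lpr_ft (K27.f382626 IH) (Lpn (LP (LK LD1_c19 LD2_c48 LD3_c56))))))
theorem f613496 : Led Lsl_ct (LP (LK LD1_c19 LD2_c58 LD3_c61)) = (LP (LK LD1_c19 LD2_c46 LD3_c32)) :=
  Lgr Lrot83 (Lpr_bf (f613492 IH) (Lpe (K40.f172274 IH) (Lpr_bf (f562021 IH) (Lpr_cf (K54.f392460 IH) (Lpe (K54.f392503 IH) (Lpn (LP (LK LD1_c19 LD2_c46 LD3_c32))))))))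
theorem f380859 : Led Lsl_dt (LP (LK LD1_c15 LD2_c3 LD3_c35)) = (LP (LK LD1_c7 LD2_c58 LD3_c58)) :=
  Lre_d IH (LK LD1_c15 LD2_c3 LD3_c35) (LK LD1_c7 LD2_c58 LD3_c58) Lrfl Lrfl
theorem f387514 : Led Lsl_af (LP (LK LD1_c15 LD2_c3 LD3_c35)) = (LP (LK LD1_c19 LD2_c46 LD3_c32)) :=
  Lgr Lrot117 (Lpr_dt (f380859 IH) (Lpr_at (K30.f380850 IH) (Lpr_dt (K50.f174187 IH) (Lpn (LP (LK LD1_c19 LD2_c46 LD3_c32))))))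
theorem f613498 : Led Lsl_af (LP (LK LD1_c19 LD2_c58 LD3_c61)) = (LP (LK LD1_c19 LD2_c48 LD3_c37)) :=
  Lgr Lrot68 (Lpr_ct (f613496 IH) (Lpe (f387514 IH) (Lpr_ct (K27.f380865 IH) (Lpn (LP (LK LD1_c19 LD2_c48 LD3_c37))))))
theorem f388265 : Led Lsl_gt (LP (LK LD1_c11 LD2_c5 LD3_c43)) = (LP (LK LD1_c19 LD2_c58 LD3_c60)) :=
  Lre_g IH (LK LD1_c11 LD2_c5 LD3_c43) (LK LD1_c19 LD2_c58 LD3_c60) Lrfl Lrfl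
theorem f388288 : Led Lsl_ct (LP (LK LD1_c19 LD2_c42 LD3_c33)) = (LP (LK LD1_c19 LD2_c58 LD3_c60)) :=
  Lgr Lrot63 (Lpr_bt (K54.f318461 IH) (Lpr_gt (K20.f318683 IH) (Lpe (K20.f178898 IH) (Lpr_ct (K12.f226020 IH) (Lpr_gt (K15.f164714 IH) (Lpr_cf (K24.f174742 IH) (Lpr_bt (K24.f226408 IH) (Lpr_gt (K52.f388261 IH) (Lpr_ct (K52.f178175 IH) (Lpr_gt (f388265 IH) (Lpn (LP (LK LD1_c19 LD2_c58 LD3_c60)))))))))))))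
theorem f387494 : Led Lsl_ft (LP (LK LD1_c15 LD2_c3 LD3_c35)) = (LP (LK LD1_c19 LD2_c42 LD3_c33)) :=
  Lgr Lrot54 (Lpe (K27.f318672 IH) (Lpr_ff (K30.f387492 IH) (Lpe (K54.f225204 IH) (Lpn (LP (LK LD1_c19 LD2_c42 LD3_c33))))))
theorem f388293 : Led Lsl_ff (LP (LK LD1_c19 LD2_c48 LD3_c37)) = (LP (LK LD1_c19 LD2_c58 LD3_c60)) :=
  Lgr Lrot23 (Lpe (K27.f380862 IH) (Lpr_ft (f387494 IH) (Lpr_ct (f388288 IH) (Lpn (LP (LK LD1_c19 LD2_c58 LD3_c60))))))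
theorem f226605 : Led Lsl_dt (LP (LK LD1_c5 LD2_c36 LD3_c51)) = (LP (LK LD1_c2 LD2_c44 LD3_c15)) :=
  Lre_d IH (LK LD1_c5 LD2_c36 LD3_c51) (LK LD1_c2 LD2_c44 LD3_c15) Lrfl Lrfl
theorem f354556 : Led Lsl_ct (LP (LK LD1_c11 LD2_c5 LD3_c53)) = (LP (LK LD1_c5 LD2_c36 LD3_c51)) :=
  Lre_c IH (LK LD1_c11 LD2_c5 LD3_c53) (LK LD1_c5 LD2_c36 LD3_c51) Lrfl Lrfl
theorem f396828 : Led Lsl_gt (LP (LK LD1_c19 LD2_c58 LD3_c60)) = (LP (LK LD1_c11 LD2_c5 LD3_c53)) :=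
  Lgr Lrot150 (Lpe (f388288 IH) (Lpr_gf (K54.f396824 IH) (Lpr_df (K54.f391516 IH) (Lpe (K54.f384737 IH) (Lpr_ct (K30.f289547 IH) (Lpr_gt (K40.f385053 IH) (Lpr_ct (K40.f226606 IH) (Lpe (f226605 IH) (Lpe (f354556 IH) (Lpn (LP (LK LD1_c11 LD2_c5 LD3_c53))))))))))))
theorem f613504 : Led Lsl_gf (LP (LK LD1_c19 LD2_c58 LD3_c61)) = (LP (LK LD1_c11 LD2_c5 LD3_c53)) :=
  Lgr Lrot76 (Lpr_af (f613498 IH) (Lpr_ff (f388293 IH) (Lpr_gt (f396828 IH) (Lpn (LP (LK LD1_c11 LD2_c5 LD3_c53))))))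
theorem f174191 : Led Lsl_dt (LP (LK LD1_c19 LD2_c46 LD3_c32)) = (LP (LK LD1_c10 LD2_c56 LD3_c53)) :=
  Lre_d IH (LK LD1_c19 LD2_c46 LD3_c32) (LK LD1_c10 LD2_c56 LD3_c53) Lrfl Lrfl
theorem f379805 : Led Lsl_dt (LP (LK LD1_c2 LD2_c42 LD3_c42)) = (LP (LK LD1_c5 LD2_c33 LD3_c0)) :=
  Lre_d IH (LK LD1_c2 LD2_c42 LD3_c42) (LK LD1_c5 LD2_c33 LD3_c0) Lrfl Lrfl
theorem f354558 : Led Lsl_ct (LP (LK LD1_c5 LD2_c36 LD3_c51)) = (LP (LK LD1_c11 LD2_c5 LD3_c53)) :=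
  Lre_c IH (LK LD1_c5 LD2_c36 LD3_c51) (LK LD1_c11 LD2_c5 LD3_c53) Lrfl Lrfl
theorem f613506 : Led Lsl_gt (LP (LK LD1_c5 LD2_c33 LD3_c0)) = (LP (LK LD1_c5 LD2_c36 LD3_c51)) :=
  Lgr Lrot9 (Lpe (f379805 IH) (Lpr_gt (K54.f389425 IH) (Lpr_ct (K54.f388280 IH) (Lpe (K54.f396862 IH) (Lpr_ct (K30.f380835 IH) (Lpe (f174191 IH) (Lpe (f613496 IH) (Lpr_gf (f613504 IH) (Lpe (f354558 IH) (Lpn (LP (LK LD1_c5 LD2_c36 LD3_c51))))))))))))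
theorem f396836 : Led Lsl_dt (LP (LK LD1_c16 LD2_c47 LD3_c38)) = (LP (LK LD1_c19 LD2_c58 LD3_c52)) :=
  Lgr Lrot42 (Lpr_df (K54.f396826 IH) (Lpn (LP (LK LD1_c19 LD2_c58 LD3_c52))))
theorem f354559 : Led Lsl_dt (LP (LK LD1_c11 LD2_c5 LD3_c51)) = (LP (LK LD1_c5 LD2_c36 LD3_c50)) :=
  Lre_d IH (LK LD1_c11 LD2_c5 LD3_c51) (LK LD1_c5 LD2_c36 LD3_c50) Lrfl Lrfl
theorem f613510 : Led Lsl_gt (LP (LK LD1_c19 LD2_c58 LD3_c52)) = (LP (LK LD1_c11 LD2_c5 LD3_c51)) :=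
  Lgr Lrot49 (Lpe (f396836 IH) (Lpe (K27.f225198 IH) (Lpe (K27.f225197 IH) (Lpr_gt (K24.f379801 IH) (Lpr_dt (f379805 IH) (Lpr_gt (f613506 IH) (Lpr_dt (f226605 IH) (Lpe (K40.f226606 IH) (Lpe (f354559 IH) (Lpn (LP (LK LD1_c11 LD2_c5 LD3_c51))))))))))))
theorem f883284 : Led Lsl_af (LP (LK LD1_c11 LD2_c5 LD3_c51)) = (LP (LK LD1_c16 LD2_c50 LD3_c57)) :=
  Lgr Lrot31 (Lpe (f613510 IH) (Lpe (K54.f385073 IH) (Lpr_ft (f883277 IH) (Lpn (LP (LK LD1_c16 LD2_c50 LD3_c57))))))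
theorem f385058 : Led Lsl_ct (LP (LK LD1_c11 LD2_c5 LD3_c51)) = (LP (LK LD1_c19 LD2_c59 LD3_c8)) :=
  Lre_c IH (LK LD1_c11 LD2_c5 LD3_c51) (LK LD1_c19 LD2_c59 LD3_c8) Lrfl Lrfl
theorem f883288 : Led Lsl_at (LP (LK LD1_c19 LD2_c59 LD3_c8)) = (LP (LK LD1_c19 LD2_c48 LD3_c19)) :=
  Lgr Lrot107 (Lpe (f385058 IH) (Lpr_af (f883284 IH) (Lpr_cf (K50.f394076 IH) (Lpn (LP (LK LD1_c19 LD2_c48 LD3_c19))))))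
theorem f213742 : Led Lsl_gt (LP (LK LD1_c19 LD2_c48 LD3_c20)) = (LP (LK LD1_c10 LD2_c58 LD3_c1)) :=
  Lre_g IH (LK LD1_c19 LD2_c48 LD3_c20) (LK LD1_c10 LD2_c58 LD3_c1) Lrfl Lrfl
theorem f883292 : Led Lsl_ff (LP (LK LD1_c19 LD2_c59 LD3_c8)) = (LP (LK LD1_c19 LD2_c48 LD3_c20)) :=
  Lgr Lrot52 (Lpr_at (f883288 IH) (Lpe (K50.f213741 IH) (Lpe (f213742 IH) (Lpn (LP (LK LD1_c19 LD2_c48 LD3_c20))))))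
theorem f883298 : Led Lsl_ft (LP (LK LD1_c19 LD2_c59 LD3_c8)) = (LP (LK LD1_c19 LD2_c48 LD3_c20)) :=
  Lgr Lrot48 (Lpr_ff (f883292 IH) (Lpn (LP (LK LD1_c19 LD2_c48 LD3_c20))))
theorem f379809 : Led Lsl_ct (LP (LK LD1_c19 LD2_c47 LD3_c54)) = (LP (LK LD1_c10 LD2_c57 LD3_c49)) :=
  Lre_c IH (LK LD1_c19 LD2_c47 LD3_c54) (LK LD1_c10 LD2_c57 LD3_c49) Lrfl Lrfl
theorem f595638 : Led Lsl_ft (LP (LK LD1_c20 LD2_c1 LD3_c25)) = (LP (LK LD1_c19 LD2_c47 LD3_c54)) :=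
  Lgr Lrot4 (Lpr_cf (K67.f595632 IH) (Lpr_ff (K67.f379841 IH) (Lpe (f379809 IH) (Lpn (LP (LK LD1_c19 LD2_c47 LD3_c54))))))
theorem f595640 : Led Lsl_at (LP (LK LD1_c19 LD2_c47 LD3_c54)) = (LP (LK LD1_c10 LD2_c58 LD3_c1)) :=
  Lre_a IH (LK LD1_c19 LD2_c47 LD3_c54) (LK LD1_c10 LD2_c58 LD3_c1) Lrfl Lrfl
theorem f595643 : Led Lsl_gt (LP (LK LD1_c20 LD2_c1 LD3_c25)) = (LP (LK LD1_c19 LD2_c48 LD3_c20)) :=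
  Lgr Lrot5 (Lpr_ft (f595638 IH) (Lpr_at (f595640 IH) (Lpe (f213742 IH) (Lpn (LP (LK LD1_c19 LD2_c48 LD3_c20))))))
theorem f312998 : Led Lsl_dt (LP (LK LD1_c9 LD2_c1 LD3_c3)) = (LP (LK LD1_c16 LD2_c50 LD3_c61)) :=
  Lre_d IH (LK LD1_c9 LD2_c1 LD3_c3) (LK LD1_c16 LD2_c50 LD3_c61) Lrfl Lrfl
theorem f595645 : Led Lsl_cf (LP (LK LD1_c16 LD2_c50 LD3_c61)) = (LP (LK LD1_c19 LD2_c48 LD3_c20)) :=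
  Lgr Lrot99 (Lpe (f312998 IH) (Lpe (K67.f303289 IH) (Lpe (K19.f312992 IH) (Lpe (K19.f199440 IH) (Lpr_gf (K19.f312999 IH) (Lpr_df (K38.f390265 IH) (Lpr_gt (K38.f389452 IH) (Lpe (K67.f595632 IH) (Lpr_gt (f595643 IH) (Lpn (LP (LK LD1_c19 LD2_c48 LD3_c20))))))))))))
theorem f883302 : Led Lsl_ff (LP (LK LD1_c11 LD2_c5 LD3_c51)) = (LP (LK LD1_c16 LD2_c50 LD3_c61)) :=
  Lgr Lrot23 (Lpr_ct (f385058 IH) (Lpr_ft (f883298 IH) (Lpe (f595645 IH) (Lpn (LP (LK LD1_c16 LD2_c50 LD3_c61))))))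
theorem f388275 : Led Lsl_bt (LP (LK LD1_c11 LD2_c5 LD3_c51)) = (LP (LK LD1_c19 LD2_c59 LD3_c6)) :=
  Lre_b IH (LK LD1_c11 LD2_c5 LD3_c51) (LK LD1_c19 LD2_c59 LD3_c6) Lrfl Lrfl
theorem f595650 : Led Lsl_bt (LP (LK LD1_c26 LD2_c48 LD3_c28)) = (LP (LK LD1_c16 LD2_c50 LD3_c61)) :=
  Lre_b IH (LK LD1_c26 LD2_c48 LD3_c28) (LK LD1_c16 LD2_c50 LD3_c61) Lrfl Lrfl
theorem f883306 : Led Lsl_ft (LP (LK LD1_c19 LD2_c59 LD3_c6)) = (LP (LK LD1_c26 LD2_c48 LD3_c28)) :=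
  Lgr Lrot75 (Lpe (f388275 IH) (Lpr_ff (f883302 IH) (Lpe (f595650 IH) (Lpn (LP (LK LD1_c26 LD2_c48 LD3_c28))))))
theorem f403397 : Led Lsl_dt (LP (LK LD1_c11 LD2_c5 LD3_c50)) = (LP (LK LD1_c19 LD2_c59 LD3_c6)) :=
  Lre_d IH (LK LD1_c11 LD2_c5 LD3_c50) (LK LD1_c19 LD2_c59 LD3_c6) Lrfl Lrfl
theorem f303287 : Led Lsl_dt (LP (LK LD1_c26 LD2_c48 LD3_c28)) = (LP (LK LD1_c16 LD2_c50 LD3_c60)) :=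
  Lre_d IH (LK LD1_c26 LD2_c48 LD3_c28) (LK LD1_c16 LD2_c50 LD3_c60) Lrfl Lrfl
theorem f883308 : Led Lsl_ff (LP (LK LD1_c11 LD2_c5 LD3_c50)) = (LP (LK LD1_c16 LD2_c50 LD3_c60)) :=
  Lgr Lrot19 (Lpr_dt (f403397 IH) (Lpr_ft (f883306 IH) (Lpr_dt (f303287 IH) (Lpn (LP (LK LD1_c16 LD2_c50 LD3_c60))))))
theorem f223355 : Led Lsl_at (LP (LK LD1_c4 LD2_c54 LD3_c58)) = (LP (LK LD1_c9 LD2_c41 LD3_c27)) :=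
  Lre_a IH (LK LD1_c4 LD2_c54 LD3_c58) (LK LD1_c9 LD2_c41 LD3_c27) Lrfl Lrfl
theorem f344056 : Led Lsl_ff (LP (LK LD1_c4 LD2_c54 LD3_c58)) = (LP (LK LD1_c9 LD2_c40 LD3_c39)) :=
  Lgr Lrot30 (Lpr_at (f223355 IH) (Lpr_ft (K23.f344054 IH) (Lpr_at (K23.f254922 IH) (Lpn (LP (LK LD1_c9 LD2_c40 LD3_c39))))))
theorem f101439 : Led Lsl_gt (LP (LK LD1_c9 LD2_c40 LD3_c39)) = (LP (LK LD1_c17 LD2_c48 LD3_c8)) :=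
  Lre_g IH (LK LD1_c9 LD2_c40 LD3_c39) (LK LD1_c17 LD2_c48 LD3_c8) Lrfl Lrfl
theorem f395076 : Led Lsl_gf (LP (LK LD1_c9 LD2_c41 LD3_c27)) = (LP (LK LD1_c17 LD2_c48 LD3_c8)) :=
  Lgr Lrot76 (Lpe (f223355 IH) (Lpr_ff (f344056 IH) (Lpr_gt (f101439 IH) (Lpn (LP (LK LD1_c17 LD2_c48 LD3_c8))))))
theorem f223343 : Led Lsl_ct (LP (LK LD1_c9 LD2_c41 LD3_c27)) = (LP (LK LD1_c17 LD2_c48 LD3_c50)) :=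
  Lre_c IH (LK LD1_c9 LD2_c41 LD3_c27) (LK LD1_c17 LD2_c48 LD3_c50) Lrfl Lrfl
theorem f228686 : Led Lsl_bt (LP (LK LD1_c5 LD2_c22 LD3_c19)) = (LP (LK LD1_c2 LD2_c37 LD3_c41)) :=
  Lre_b IH (LK LD1_c5 LD2_c22 LD3_c19) (LK LD1_c2 LD2_c37 LD3_c41) Lrfl Lrfl
theorem f228690 : Led Lsl_ct (LP (LK LD1_c10 LD2_c36 LD3_c26)) = (LP (LK LD1_c5 LD2_c23 LD3_c0)) :=
  Lre_c IH (LK LD1_c10 LD2_c36 LD3_c26) (LK LD1_c5 LD2_c23 LD3_c0) Lrfl Lrfl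
theorem f228691 : Led Lsl_bf (LP (LK LD1_c17 LD2_c48 LD3_c8)) = (LP (LK LD1_c10 LD2_c36 LD3_c26)) :=
  Lgr Lrot34 (Lpe (f101439 IH) (Lpe (K23.f101438 IH) (Lpr_ct (K12.f201189 IH) (Lpe (K12.f228684 IH) (Lpe (K12.f178071 IH) (Lpr_gf (K12.f228681 IH) (Lpe (f228686 IH) (Lpr_ct (K31.f228688 IH) (Lpe (K38.f228689 IH) (Lpe (f228690 IH) (Lpn (LP (LK LD1_c10 LD2_c36 LD3_c26)))))))))))))
theorem f196606 : Led Lsl_gt (LP (LK LD1_c5 LD2_c22 LD3_c36)) = (LP (LK LD1_c10 LD2_c35 LD3_c31)) :=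
  Lre_g IH (LK LD1_c5 LD2_c22 LD3_c36) (LK LD1_c10 LD2_c35 LD3_c31) Lrfl Lrfl
theorem f312701 : Led Lsl_gt (LP (LK LD1_c10 LD2_c35 LD3_c31)) = (LP (LK LD1_c19 LD2_c3 LD3_c61)) :=
  Lgr Lrot46 (Lpe (f196606 IH) (Lpr_ft (K19.f312691 IH) (Lpr_at (K19.f224755 IH) (Lpn (LP (LK LD1_c19 LD2_c3 LD3_c61))))))
theorem f218482 : Led Lsl_bt (LP (LK LD1_c19 LD2_c10 LD3_c60)) = (LP (LK LD1_c10 LD2_c35 LD3_c31)) :=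
  Lre_b IH (LK LD1_c19 LD2_c10 LD3_c60) (LK LD1_c10 LD2_c35 LD3_c31) Lrfl Lrfl
theorem f218481 : Led Lsl_bt (LP (LK LD1_c9 LD2_c40 LD3_c39)) = (LP (LK LD1_c4 LD2_c54 LD3_c32)) :=
  Lre_b IH (LK LD1_c9 LD2_c40 LD3_c39) (LK LD1_c4 LD2_c54 LD3_c32) Lrfl Lrfl
theorem f219328 : Led Lsl_gt (LP (LK LD1_c25 LD2_c31 LD3_c1)) = (LP (LK LD1_c15 LD2_c36 LD3_c25)) :=
  Lre_g IH (LK LD1_c25 LD2_c31 LD3_c1) (LK LD1_c15 LD2_c36 LD3_c25) Lrfl Lrfl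
theorem f254927 : Led Lsl_ct (LP (LK LD1_c19 LD2_c10 LD3_c60)) = (LP (LK LD1_c25 LD2_c31 LD3_c1)) :=
  Lgr Lrot64 (Lpr_bt (f218482 IH) (Lpe (f196606 IH) (Lpe (K19.f196605 IH) (Lpr_ct (K13.f196600 IH) (Lpe (K13.f196720 IH) (Lpe (K13.f196721 IH) (Lpe (K13.f218392 IH) (Lpe (f218481 IH) (Lpr_ct (K23.f254904 IH) (Lpe (f219328 IH) (Lpn (LP (LK LD1_c25 LD2_c31 LD3_c1)))))))))))))
theorem f395078 : Led Lsl_gt (LP (LK LD1_c17 LD2_c48 LD3_c50)) = (LP (LK LD1_c25 LD2_c31 LD3_c1)) :=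
  Lgr Lrot149 (Lpe (f223343 IH) (Lpr_gf (f395076 IH) (Lpr_bf (f228691 IH) (Lpr_ct (f228690 IH) (Lpr_gf (K38.f312932 IH) (Lpe (K38.f169225 IH) (Lpe (K38.f310900 IH) (Lpe (f312701 IH) (Lpe (f218482 IH) (Lpr_ct (f254927 IH) (Lpn (LP (LK LD1_c25 LD2_c31 LD3_c1)))))))))))))
theorem f344153 : Led Lsl_dt (LP (LK LD1_c9 LD2_c41 LD3_c34)) = (LP (LK LD1_c4 LD2_c54 LD3_c60)) :=
  Lre_d IH (LK LD1_c9 LD2_c41 LD3_c34) (LK LD1_c4 LD2_c54 LD3_c60) Lrfl Lrfl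
theorem f344154 : Led Lsl_at (LP (LK LD1_c4 LD2_c54 LD3_c60)) = (LP (LK LD1_c9 LD2_c40 LD3_c38)) :=
  Lgr Lrot51 (Lpe (f344153 IH) (Lpr_af (K25.f344147 IH) (Lpe (K25.f187329 IH) (Lpn (LP (LK LD1_c9 LD2_c40 LD3_c38))))))
theorem f344159 : Led Lsl_af (LP (LK LD1_c4 LD2_c54 LD3_c60)) = (LP (LK LD1_c9 LD2_c40 LD3_c38)) :=
  Lgr Lrot0 (Lpr_at (f344154 IH) (Lpn (LP (LK LD1_c9 LD2_c40 LD3_c38))))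
theorem f277562 : Led Lsl_et (LP (LK LD1_c4 LD2_c54 LD3_c60)) = (LP (LK LD1_c2 LD2_c25 LD3_c21)) :=
  Lre_e IH (LK LD1_c4 LD2_c54 LD3_c60) (LK LD1_c2 LD2_c25 LD3_c21) Lrfl Lrfl
theorem f344168 : Led Lsl_at (LP (LK LD1_c2 LD2_c25 LD3_c21)) = (LP (LK LD1_c4 LD2_c54 LD3_c30)) :=
  Lgr Lrot80 (Lpe (f277562 IH) (Lpr_af (f344159 IH) (Lpe (K54.f218759 IH) (Lpn (LP (LK LD1_c4 LD2_c54 LD3_c30))))))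
theorem f223338 : Led Lsl_bt (LP (LK LD1_c4 LD2_c54 LD3_c58)) = (LP (LK LD1_c2 LD2_c25 LD3_c21)) :=
  Lre_b IH (LK LD1_c4 LD2_c54 LD3_c58) (LK LD1_c2 LD2_c25 LD3_c21) Lrfl Lrfl
theorem f223331 : Led Lsl_at (LP (LK LD1_c9 LD2_c41 LD3_c27)) = (LP (LK LD1_c4 LD2_c54 LD3_c58)) :=
  Lre_a IH (LK LD1_c9 LD2_c41 LD3_c27) (LK LD1_c4 LD2_c54 LD3_c58) Lrfl Lrfl
theorem f344171 : Led Lsl_bf (LP (LK LD1_c9 LD2_c41 LD3_c27)) = (LP (LK LD1_c17 LD2_c48 LD3_c4)) :=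
  Lgr Lrot81 (Lpr_at (f223331 IH) (Lpr_bt (f223338 IH) (Lpr_at (f344168 IH) (Lpr_bt (K16.f41910 IH) (Lpr_at (K38.f188714 IH) (Lpn (LP (LK LD1_c17 LD2_c48 LD3_c4))))))))
theorem f344186 : Led Lsl_bt (LP (LK LD1_c9 LD2_c41 LD3_c27)) = (LP (LK LD1_c17 LD2_c48 LD3_c4)) :=
  Lgr Lrot127 (Lpr_bf (f344171 IH) (Lpn (LP (LK LD1_c17 LD2_c48 LD3_c4))))
theorem f218577 : Led Lsl_bt (LP (LK LD1_c17 LD2_c50 LD3_c14)) = (LP (LK LD1_c9 LD2_c41 LD3_c53)) :=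
  Lre_b IH (LK LD1_c17 LD2_c50 LD3_c14) (LK LD1_c9 LD2_c41 LD3_c53) Lrfl Lrfl
theorem f196744 : Led Lsl_gt (LP (LK LD1_c19 LD2_c10 LD3_c47)) = (LP (LK LD1_c10 LD2_c35 LD3_c19)) :=
  Lre_g IH (LK LD1_c19 LD2_c10 LD3_c47) (LK LD1_c10 LD2_c35 LD3_c19) Lrfl Lrfl
theorem f261263 : Led Lsl_cf (LP (LK LD1_c19 LD2_c10 LD3_c47)) = (LP (LK LD1_c17 LD2_c50 LD3_c14)) :=
  Lgr Lrot160 (Lpr_gt (f196744 IH) (Lpe (K19.f196738 IH) (Lpr_bt (K38.f196725 IH) (Lpr_gt (K15.f261254 IH) (Lpr_ct (K14.f218559 IH) (Lpr_gt (K14.f218560 IH) (Lpe (K15.f218574 IH) (Lpr_bt (K26.f218575 IH) (Lpr_gt (K38.f218576 IH) (Lpe (f218577 IH) (Lpn (LP (LK LD1_c17 LD2_c50 LD3_c14)))))))))))))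
theorem f395080 : Led Lsl_gf (LP (LK LD1_c19 LD2_c10 LD3_c47)) = (LP (LK LD1_c19 LD2_c14 LD3_c28)) :=
  Lgr Lrot129 (Lpr_cf (f261263 IH) (Lpr_bt (f218577 IH) (Lpe (K38.f349205 IH) (Lpe (f344186 IH) (Lpr_ct (f223343 IH) (Lpr_gt (f395078 IH) (Lpe (f254927 IH) (Lpr_bt (f218482 IH) (Lpr_gt (f312701 IH) (Lpe (K19.f312892 IH) (Lpn (LP (LK LD1_c19 LD2_c14 LD3_c28)))))))))))))
theorem f883334 : Led Lsl_at (LP (LK LD1_c11 LD2_c5 LD3_c50)) = (LP (LK LD1_c19 LD2_c10 LD3_c47)) :=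
  Lgr Lrot26 (Lpr_ff (f883308 IH) (Lpr_gt (K19.f303283 IH) (Lpe (f395080 IH) (Lpn (LP (LK LD1_c19 LD2_c10 LD3_c47))))))
theorem f354563 : Led Lsl_bt (LP (LK LD1_c5 LD2_c36 LD3_c50)) = (LP (LK LD1_c11 LD2_c5 LD3_c50)) :=
  Lre_b IH (LK LD1_c5 LD2_c36 LD3_c50) (LK LD1_c11 LD2_c5 LD3_c50) Lrfl Lrfl
def v15342 : LQ := Led Lsl_at (LP (LK LD1_c5 LD2_c36 LD3_c46))
theorem f735757 : Led Lsl_at (LP (LK LD1_c5 LD2_c36 LD3_c46)) = v15342 :=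
  Lrfl
theorem f735758 : Led Lsl_af (LP (LK LD1_c5 LD2_c36 LD3_c46)) = v15342 :=
  Lgr Lrot0 (Lpr_at (f735757 IH) (Lpn v15342))
def v4717 : LQ := Led Lsl_at (LP (LK LD1_c2 LD2_c44 LD3_c14))
theorem f638648 : Led Lsl_at (LP (LK LD1_c2 LD2_c44 LD3_c14)) = v4717 :=
  Lrfl
theorem f638649 : Led Lsl_af (LP (LK LD1_c2 LD2_c44 LD3_c14)) = v4717 :=
  Lgr Lrot0 (Lpr_at (f638648 IH) (Lpn v4717))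
theorem f735759 : Led Lsl_cf v4717 = v15342 :=
  Lgr Lrot1 (Lpe (f638649 IH) (Lpr_ct (K31.f178065 IH) (Lpr_at (f735757 IH) (Lpn v15342))))
theorem f638650 : Led Lsl_ft (LP (LK LD1_c2 LD2_c44 LD3_c15)) = v4717 :=
  Lgr Lrot2 (Lpr_gt (K40.f226604 IH) (Lpr_gt (K30.f178047 IH) (Lpr_af (f638649 IH) (Lpn v4717))))
theorem f638652 : Led Lsl_ff (LP (LK LD1_c2 LD2_c44 LD3_c15)) = v4717 :=
  Lgr Lrot3 (Lpr_ft (f638650 IH) (Lpn v4717))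
theorem f735761 : Led Lsl_ft (LP (LK LD1_c5 LD2_c36 LD3_c50)) = v15342 :=
  Lgr Lrot4 (Lpe (K50.f226607 IH) (Lpr_ff (f638652 IH) (Lpr_cf (f735759 IH) (Lpn v15342))))
theorem f735766 : Led Lsl_af (LP (LK LD1_c5 LD2_c36 LD3_c50)) = K67.v15343 :=
  Lgr Lrot45 (Lpr_ft (f735761 IH) (Lpe (f735758 IH) (Lpr_ft (K67.f735765 IH) (Lpn K67.v15343))))
theorem f332027 : Led Lsl_at (LP (LK LD1_c26 LD2_c48 LD3_c22)) = (LP (LK LD1_c16 LD2_c50 LD3_c56)) :=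
  Lre_a IH (LK LD1_c26 LD2_c48 LD3_c22) (LK LD1_c16 LD2_c50 LD3_c56) Lrfl Lrfl
theorem f883338 : Led Lsl_bf (LP (LK LD1_c26 LD2_c48 LD3_c22)) = (LP (LK LD1_c19 LD2_c10 LD3_c47)) :=
  Lgr Lrot81 (Lpr_at (f332027 IH) (Lpr_bt (K30.f332035 IH) (Lpq (f883218 IH) (Lpe (f735766 IH) (Lpr_bt (f354563 IH) (Lpr_at (f883334 IH) (Lpn (LP (LK LD1_c19 LD2_c10 LD3_c47)))))))))
theorem f332030 : Led Lsl_at (LP (LK LD1_c19 LD2_c30 LD3_c36)) = (LP (LK LD1_c10 LD2_c47 LD3_c4)) :=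
  Lre_a IH (LK LD1_c19 LD2_c30 LD3_c36) (LK LD1_c10 LD2_c47 LD3_c4) Lrfl Lrfl
theorem f332031 : Led Lsl_at (LP (LK LD1_c16 LD2_c50 LD3_c56)) = (LP (LK LD1_c26 LD2_c48 LD3_c22)) :=
  Lre_a IH (LK LD1_c16 LD2_c50 LD3_c56) (LK LD1_c26 LD2_c48 LD3_c22) Lrfl Lrfl
theorem f332032 : Led Lsl_cf (LP (LK LD1_c19 LD2_c30 LD3_c36)) = (LP (LK LD1_c26 LD2_c48 LD3_c22)) :=
  Lgr Lrot1 (Lpr_at (f332030 IH) (Lpr_ct (K30.f332028 IH) (Lpr_at (f332031 IH) (Lpn (LP (LK LD1_c26 LD2_c48 LD3_c22))))))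
theorem f413266 : Led Lsl_bt (LP (LK LD1_c9 LD2_c41 LD3_c53)) = (LP (LK LD1_c17 LD2_c50 LD3_c14)) :=
  Lre_b IH (LK LD1_c9 LD2_c41 LD3_c53) (LK LD1_c17 LD2_c50 LD3_c14) Lrfl Lrfl
theorem f235785 : Led Lsl_ct (LP (LK LD1_c17 LD2_c50 LD3_c15)) = (LP (LK LD1_c9 LD2_c41 LD3_c53)) :=
  Lre_c IH (LK LD1_c17 LD2_c50 LD3_c15) (LK LD1_c9 LD2_c41 LD3_c53) Lrfl Lrfl
theorem f883351 : Led Lsl_bt (LP (LK LD1_c19 LD2_c30 LD3_c36)) = (LP (LK LD1_c17 LD2_c50 LD3_c15)) :=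
  Lgr Lrot128 (Lpr_cf (f332032 IH) (Lpr_bf (f883338 IH) (Lpr_cf (f261263 IH) (Lpe (f413266 IH) (Lpe (f235785 IH) (Lpn (LP (LK LD1_c17 LD2_c50 LD3_c15))))))))
theorem f332039 : Led Lsl_cf (LP (LK LD1_c10 LD2_c47 LD3_c4)) = (LP (LK LD1_c16 LD2_c50 LD3_c56)) :=
  Lgr Lrot11 (Lpr_ct (K30.f332028 IH) (Lpn (LP (LK LD1_c16 LD2_c50 LD3_c56))))
theorem f332098 : Led Lsl_at (LP (LK LD1_c10 LD2_c47 LD3_c4)) = (LP (LK LD1_c19 LD2_c30 LD3_c36)) :=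
  Lre_a IH (LK LD1_c10 LD2_c47 LD3_c4) (LK LD1_c19 LD2_c30 LD3_c36) Lrfl Lrfl
theorem f332099 : Led Lsl_ct (LP (LK LD1_c19 LD2_c30 LD3_c36)) = (LP (LK LD1_c26 LD2_c48 LD3_c22)) :=
  Lgr Lrot111 (Lpe (f332098 IH) (Lpr_cf (f332039 IH) (Lpe (f332027 IH) (Lpn (LP (LK LD1_c26 LD2_c48 LD3_c22))))))
theorem f551526 : Led Lsl_gt (LP (LK LD1_c16 LD2_c19 LD3_c5)) = (LP (LK LD1_c16 LD2_c17 LD3_c12)) :=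
  Lgr Lrot46 (Lpr_gf (K39.f551524 IH) (Lpr_ft (K16.f279999 IH) (Lpr_at (K16.f279998 IH) (Lpn (LP (LK LD1_c16 LD2_c17 LD3_c12))))))
theorem f280001 : Led Lsl_ct (LP (LK LD1_c16 LD2_c17 LD3_c12)) = (LP (LK LD1_c26 LD2_c15 LD3_c6)) :=
  Lre_c IH (LK LD1_c16 LD2_c17 LD3_c12) (LK LD1_c26 LD2_c15 LD3_c6) Lrfl Lrfl
theorem f605530 : Led Lsl_gt (LP (LK LD1_c26 LD2_c15 LD3_c6)) = (LP (LK LD1_c31 LD2_c38 LD3_c21)) :=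
  Lgr Lrot150 (Lpe (f280001 IH) (Lpe (f551526 IH) (Lpe (K38.f193278 IH) (Lpe (K52.f297527 IH) (Lpr_ct (K54.f168474 IH) (Lpr_gt (K52.f406880 IH) (Lpr_ct (K52.f238605 IH) (Lpe (K52.f238607 IH) (Lpr_cf (K52.f605525 IH) (Lpn (LP (LK LD1_c31 LD2_c38 LD3_c21))))))))))))
theorem f279996 : Led Lsl_df (LP (LK LD1_c25 LD2_c47 LD3_c13)) = (LP (LK LD1_c26 LD2_c15 LD3_c6)) :=
  Lgr Lrot38 (Lpr_dt (K16.f279993 IH) (Lpn (LP (LK LD1_c26 LD2_c15 LD3_c6))))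
theorem f280050 : Led Lsl_bt (LP (LK LD1_c10 LD2_c46 LD3_c55)) = (LP (LK LD1_c19 LD2_c30 LD3_c10)) :=
  Lre_b IH (LK LD1_c10 LD2_c46 LD3_c55) (LK LD1_c19 LD2_c30 LD3_c10) Lrfl Lrfl
theorem f280052 : Led Lsl_bt (LP (LK LD1_c25 LD2_c12 LD3_c27)) = (LP (LK LD1_c15 LD2_c21 LD3_c9)) :=
  Lre_b IH (LK LD1_c25 LD2_c12 LD3_c27) (LK LD1_c15 LD2_c21 LD3_c9) Lrfl Lrfl
theorem f280053 : Led Lsl_ct (LP (LK LD1_c19 LD2_c30 LD3_c10)) = (LP (LK LD1_c25 LD2_c12 LD3_c27)) :=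
  Lgr Lrot83 (Lpe (f280050 IH) (Lpr_cf (K18.f280046 IH) (Lpe (K31.f280051 IH) (Lpe (K18.f280040 IH) (Lpe (f280052 IH) (Lpn (LP (LK LD1_c25 LD2_c12 LD3_c27))))))))
theorem f179432 : Led Lsl_bt (LP (LK LD1_c19 LD2_c30 LD3_c10)) = (LP (LK LD1_c10 LD2_c46 LD3_c55)) :=
  Lre_b IH (LK LD1_c19 LD2_c30 LD3_c10) (LK LD1_c10 LD2_c46 LD3_c55) Lrfl Lrfl
theorem f280070 : Led Lsl_gt (LP (LK LD1_c25 LD2_c47 LD3_c13)) = (LP (LK LD1_c25 LD2_c12 LD3_c27)) :=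
  Lgr Lrot149 (Lpe (K16.f188710 IH) (Lpe (K16.f188708 IH) (Lpe (K16.f188715 IH) (Lpr_ct (K15.f188561 IH) (Lpe (K13.f243638 IH) (Lpe (K13.f243637 IH) (Lpr_bt (K18.f243652 IH) (Lpe (K18.f179429 IH) (Lpe (f179432 IH) (Lpr_ct (f280053 IH) (Lpn (LP (LK LD1_c25 LD2_c12 LD3_c27)))))))))))))
theorem f280068 : Led Lsl_cf (LP (LK LD1_c19 LD2_c30 LD3_c10)) = (LP (LK LD1_c25 LD2_c12 LD3_c27)) :=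
  Lgr Lrot97 (Lpr_bt (f179432 IH) (Lpr_ct (K18.f280055 IH) (Lpr_bt (K18.f280045 IH) (Lpr_ct (K18.f238635 IH) (Lpr_bt (K18.f238636 IH) (Lpn (LP (LK LD1_c25 LD2_c12 LD3_c27))))))))
theorem f605754 : Led Lsl_gt (LP (LK LD1_c19 LD2_c30 LD3_c10)) = (LP (LK LD1_c17 LD2_c50 LD3_c15)) :=
  Lgr Lrot150 (Lpr_cf (f280068 IH) (Lpe (f280070 IH) (Lpr_df (f279996 IH) (Lpr_gt (f605530 IH) (Lpe (K52.f605525 IH) (Lpr_gt (K52.f605751 IH) (Lpe (K52.f550862 IH) (Lpe (K38.f219279 IH) (Lpe (f235785 IH) (Lpn (LP (LK LD1_c17 LD2_c50 LD3_c15))))))))))))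
theorem f728354 : Led Lsl_gt (LP (LK LD1_c20 LD2_c3 LD3_c13)) = (LP (LK LD1_c15 LD2_c21 LD3_c0)) :=
  Lgr Lrot82 (Lpr_bf (K67.f728346 IH) (Lpr_ct (K67.f280061 IH) (Lpe (K67.f199124 IH) (Lpe (K17.f200941 IH) (Lpr_bt (K16.f200940 IH) (Lpr_gf (K15.f196939 IH) (Lpe (K18.f200995 IH) (Lpr_ct (K18.f243665 IH) (Lpe (K18.f179429 IH) (Lpr_cf (K18.f280046 IH) (Lpn (LP (LK LD1_c15 LD2_c21 LD3_c0)))))))))))))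
theorem f218296 : Led Lsl_dt (LP (LK LD1_c19 LD2_c20 LD3_c47)) = (LP (LK LD1_c10 LD2_c41 LD3_c14)) :=
  Lre_d IH (LK LD1_c19 LD2_c20 LD3_c47) (LK LD1_c10 LD2_c41 LD3_c14) Lrfl Lrfl
theorem f388097 : Led Lsl_gt (LP (LK LD1_c25 LD2_c50 LD3_c28)) = (LP (LK LD1_c19 LD2_c20 LD3_c47)) :=
  Lgr Lrot5 (Lpr_ft (K42.f388091 IH) (Lpr_at (K42.f218466 IH) (Lpe (K30.f218458 IH) (Lpn (LP (LK LD1_c19 LD2_c20 LD3_c47))))))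
theorem f388099 : Led Lsl_gt (LP (LK LD1_c25 LD2_c50 LD3_c26)) = (LP (LK LD1_c15 LD2_c54 LD3_c25)) :=
  Lre_g IH (LK LD1_c25 LD2_c50 LD3_c26) (LK LD1_c15 LD2_c54 LD3_c25) Lrfl Lrfl
theorem f728429 : Led Lsl_cf (LP (LK LD1_c25 LD2_c14 LD3_c54)) = (LP (LK LD1_c25 LD2_c50 LD3_c26)) :=
  Lgr Lrot166 (Lpr_gt (K67.f728423 IH) (Lpe (K31.f296697 IH) (Lpe (K31.f390026 IH) (Lpe (K30.f387988 IH) (Lpr_ct (K30.f387976 IH) (Lpe (f218296 IH) (Lpe (f388097 IH) (Lpe (K31.f388093 IH) (Lpe (f388099 IH) (Lpn (LP (LK LD1_c25 LD2_c50 LD3_c26))))))))))))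
theorem f244557 : Led Lsl_at (LP (LK LD1_c15 LD2_c22 LD3_c60)) = (LP (LK LD1_c25 LD2_c14 LD3_c54)) :=
  Lre_a IH (LK LD1_c15 LD2_c22 LD3_c60) (LK LD1_c25 LD2_c14 LD3_c54) Lrfl Lrfl
theorem f244558 : Led Lsl_df (LP (LK LD1_c20 LD2_c3 LD3_c13)) = (LP (LK LD1_c25 LD2_c14 LD3_c54)) :=
  Lgr Lrot18 (Lpr_at (K67.f179385 IH) (Lpr_dt (K30.f244547 IH) (Lpr_at (f244557 IH) (Lpn (LP (LK LD1_c25 LD2_c14 LD3_c54))))))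
theorem f388893 : Led Lsl_ft (LP (LK LD1_c15 LD2_c54 LD3_c38)) = (LP (LK LD1_c25 LD2_c14 LD3_c3)) :=
  Lgr Lrot4 (Lpe (K30.f52748 IH) (Lpr_ff (K30.f388887 IH) (Lpe (K30.f244545 IH) (Lpn (LP (LK LD1_c25 LD2_c14 LD3_c3))))))
theorem f392093 : Led Lsl_dt (LP (LK LD1_c25 LD2_c14 LD3_c3)) = (LP (LK LD1_c19 LD2_c21 LD3_c31)) :=
  Lgr Lrot60 (Lpe (f388893 IH) (Lpr_df (K30.f387959 IH) (Lpr_ff (K42.f392086 IH) (Lpn (LP (LK LD1_c19 LD2_c21 LD3_c31))))))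
theorem f392105 : Led Lsl_at (LP (LK LD1_c15 LD2_c54 LD3_c25)) = (LP (LK LD1_c25 LD2_c14 LD3_c3)) :=
  Lgr Lrot51 (Lpe (K31.f218294 IH) (Lpr_af (K54.f392099 IH) (Lpe (f392093 IH) (Lpn (LP (LK LD1_c25 LD2_c14 LD3_c3))))))
theorem f392107 : Led Lsl_af (LP (LK LD1_c15 LD2_c54 LD3_c25)) = (LP (LK LD1_c25 LD2_c14 LD3_c3)) :=
  Lgr Lrot0 (Lpr_at (f392105 IH) (Lpn (LP (LK LD1_c25 LD2_c14 LD3_c3))))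
theorem f392113 : Led Lsl_gf (LP (LK LD1_c25 LD2_c50 LD3_c26)) = (LP (LK LD1_c15 LD2_c54 LD3_c38)) :=
  Lgr Lrot47 (Lpr_gt (f388099 IH) (Lpr_af (f392107 IH) (Lpe (f388893 IH) (Lpn (LP (LK LD1_c15 LD2_c54 LD3_c38))))))
theorem f247310 : Led Lsl_ct (LP (LK LD1_c15 LD2_c22 LD3_c11)) = (LP (LK LD1_c25 LD2_c13 LD3_c51)) :=
  Lre_c IH (LK LD1_c15 LD2_c22 LD3_c11) (LK LD1_c25 LD2_c13 LD3_c51) Lrfl Lrfl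
theorem f729115 : Led Lsl_gf (LP (LK LD1_c19 LD2_c33 LD3_c30)) = (LP (LK LD1_c25 LD2_c13 LD3_c51)) :=
  Lgr Lrot104 (Lpr_ct (K67.f179390 IH) (Lpr_df (f244558 IH) (Lpr_cf (f728429 IH) (Lpr_gf (f392113 IH) (Lpe (K30.f52748 IH) (Lpr_gf (K30.f387938 IH) (Lpe (K30.f244539 IH) (Lpe (K30.f286641 IH) (Lpr_ct (f247310 IH) (Lpn (LP (LK LD1_c25 LD2_c13 LD3_c51))))))))))))
theorem f247308 : Led Lsl_bf (LP (LK LD1_c25 LD2_c13 LD3_c51)) = (LP (LK LD1_c16 LD2_c44 LD3_c7)) :=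
  Lgr Lrot24 (Lpr_bt (K30.f247306 IH) (Lpn (LP (LK LD1_c16 LD2_c44 LD3_c7))))
theorem f883360 : Led Lsl_gt (LP (LK LD1_c26 LD2_c48 LD3_c22)) = (LP (LK LD1_c19 LD2_c58 LD3_c48)) :=
  Lgr Lrot65 (Lpe (f332099 IH) (Lpr_bt (f883351 IH) (Lpe (f605754 IH) (Lpe (f280050 IH) (Lpr_ct (K18.f280055 IH) (Lpe (f728354 IH) (Lpe (K67.f179390 IH) (Lpr_gf (f729115 IH) (Lpr_bf (f247308 IH) (Lpe (K30.f226522 IH) (Lpn (LP (LK LD1_c19 LD2_c58 LD3_c48)))))))))))))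
theorem f226491 : Led Lsl_at (LP (LK LD1_c19 LD2_c58 LD3_c49)) = (LP (LK LD1_c11 LD2_c5 LD3_c40)) :=
  Lre_a IH (LK LD1_c19 LD2_c58 LD3_c49) (LK LD1_c11 LD2_c5 LD3_c40) Lrfl Lrfl
theorem f883364 : Led Lsl_ft (LP (LK LD1_c26 LD2_c48 LD3_c22)) = (LP (LK LD1_c19 LD2_c58 LD3_c49)) :=
  Lgr Lrot2 (Lpr_gt (f883360 IH) (Lpr_gt (K30.f178062 IH) (Lpe (f226491 IH) (Lpn (LP (LK LD1_c19 LD2_c58 LD3_c49))))))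
theorem f883370 : Led Lsl_ff (LP (LK LD1_c26 LD2_c48 LD3_c22)) = (LP (LK LD1_c19 LD2_c58 LD3_c49)) :=
  Lgr Lrot3 (Lpr_ft (f883364 IH) (Lpn (LP (LK LD1_c19 LD2_c58 LD3_c49))))
theorem f883374 : Led Lsl_gf (LP (LK LD1_c19 LD2_c28 LD3_c48)) = (LP (LK LD1_c19 LD2_c58 LD3_c49)) :=
  Lgr Lrot47 (Lpr_gt (K30.f332025 IH) (Lpe (f332027 IH) (Lpr_ff (f883370 IH) (Lpn (LP (LK LD1_c19 LD2_c58 LD3_c49))))))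
theorem f331942 : Led Lsl_at (LP (LK LD1_c25 LD2_c13 LD3_c51)) = (LP (LK LD1_c19 LD2_c33 LD3_c29)) :=
  Lgr Lrot100 (Lpr_af (K30.f331940 IH) (Lpn (LP (LK LD1_c19 LD2_c33 LD3_c29))))
theorem f728404 : Led Lsl_gt (LP (LK LD1_c19 LD2_c28 LD3_c47)) = (LP (LK LD1_c26 LD2_c43 LD3_c43)) :=
  Lgr Lrot5 (Lpe (K30.f331960 IH) (Lpr_at (f331942 IH) (Lpr_gf (K67.f728402 IH) (Lpn (LP (LK LD1_c26 LD2_c43 LD3_c43))))))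
theorem f728388 : Led Lsl_bt (LP (LK LD1_c19 LD2_c28 LD3_c44)) = (LP (LK LD1_c26 LD2_c43 LD3_c43)) :=
  Lgr Lrot127 (Lpr_bf (K67.f728386 IH) (Lpn (LP (LK LD1_c26 LD2_c43 LD3_c43))))
theorem f349463 : Led Lsl_ct (LP (LK LD1_c19 LD2_c28 LD3_c44)) = (LP (LK LD1_c16 LD2_c38 LD3_c39)) :=
  Lgr Lrot59 (Lpr_cf (K67.f349459 IH) (Lpn (LP (LK LD1_c16 LD2_c38 LD3_c39))))
theorem f401243 : Led Lsl_gt (LP (LK LD1_c16 LD2_c38 LD3_c39)) = (LP (LK LD1_c26 LD2_c34 LD3_c57)) :=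
  Lgr Lrot82 (Lpe (K67.f349461 IH) (Lpr_ct (K67.f349474 IH) (Lpr_gf (K67.f401235 IH) (Lpe (K22.f200950 IH) (Lpe (K67.f375713 IH) (Lpr_gf (K31.f389145 IH) (Lpe (K30.f349434 IH) (Lpe (K31.f349437 IH) (Lpe (K31.f349431 IH) (Lpe (K31.f389141 IH) (Lpn (LP (LK LD1_c26 LD2_c34 LD3_c57)))))))))))))
theorem f389143 : Led Lsl_cf (LP (LK LD1_c26 LD2_c34 LD3_c57)) = (LP (LK LD1_c28 LD2_c50 LD3_c32)) :=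
  Lgr Lrot11 (Lpr_ct (K31.f389141 IH) (Lpn (LP (LK LD1_c28 LD2_c50 LD3_c32))))
theorem f226492 : Led Lsl_at (LP (LK LD1_c16 LD2_c44 LD3_c29)) = (LP (LK LD1_c26 LD2_c43 LD3_c23)) :=
  Lre_a IH (LK LD1_c16 LD2_c44 LD3_c29) (LK LD1_c26 LD2_c43 LD3_c23) Lrfl Lrfl
theorem f226493 : Led Lsl_cf (LP (LK LD1_c19 LD2_c58 LD3_c49)) = (LP (LK LD1_c26 LD2_c43 LD3_c23)) :=
  Lgr Lrot1 (Lpr_at (f226491 IH) (Lpr_ct (K31.f226484 IH) (Lpr_at (f226492 IH) (Lpn (LP (LK LD1_c26 LD2_c43 LD3_c23))))))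
theorem f883378 : Led Lsl_gt (LP (LK LD1_c19 LD2_c30 LD3_c35)) = (LP (LK LD1_c26 LD2_c43 LD3_c23)) :=
  Lgr Lrot82 (Lpr_bf (K31.f389139 IH) (Lpe (f389143 IH) (Lpe (f401243 IH) (Lpe (f349463 IH) (Lpr_bt (f728388 IH) (Lpe (f728404 IH) (Lpe (K30.f244664 IH) (Lpr_ct (K30.f235839 IH) (Lpr_gf (f883374 IH) (Lpr_cf (f226493 IH) (Lpn (LP (LK LD1_c26 LD2_c43 LD3_c23)))))))))))))
theorem f389133 : Led Lsl_cf (LP (LK LD1_c19 LD2_c30 LD3_c35)) = (LP (LK LD1_c11 LD2_c3 LD3_c34)) :=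
  Lgr Lrot11 (Lpr_ct (K31.f389127 IH) (Lpn (LP (LK LD1_c11 LD2_c3 LD3_c34))))
theorem f312894 : Led Lsl_gt (LP (LK LD1_c19 LD2_c14 LD3_c27)) = (LP (LK LD1_c10 LD2_c37 LD3_c20)) :=
  Lre_g IH (LK LD1_c19 LD2_c14 LD3_c27) (LK LD1_c10 LD2_c37 LD3_c20) Lrfl Lrfl
theorem f226501 : Led Lsl_ct (LP (LK LD1_c19 LD2_c58 LD3_c49)) = (LP (LK LD1_c26 LD2_c43 LD3_c23)) :=
  Lgr Lrot59 (Lpr_cf (f226493 IH) (Lpn (LP (LK LD1_c26 LD2_c43 LD3_c23))))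
theorem f883386 : Led Lsl_bf (LP (LK LD1_c19 LD2_c14 LD3_c27)) = (LP (LK LD1_c19 LD2_c58 LD3_c49)) :=
  Lgr Lrot156 (Lpr_gt (f312894 IH) (Lpe (K19.f279534 IH) (Lpr_ct (K31.f279537 IH) (Lpe (K31.f310704 IH) (Lpr_cf (K16.f177948 IH) (Lpr_bt (K30.f177945 IH) (Lpr_gt (K31.f177957 IH) (Lpe (f389133 IH) (Lpr_gt (f883378 IH) (Lpe (f226501 IH) (Lpn (LP (LK LD1_c19 LD2_c58 LD3_c49)))))))))))))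
theorem f883396 : Led Lsl_ft (LP (LK LD1_c19 LD2_c14 LD3_c27)) = (LP (LK LD1_c19 LD2_c10 LD3_c47)) :=
  Lgr Lrot75 (Lpr_bf (f883386 IH) (Lpe (f883364 IH) (Lpr_bf (f883338 IH) (Lpn (LP (LK LD1_c19 LD2_c10 LD3_c47))))))
theorem f883404 : Led Lsl_ff (LP (LK LD1_c19 LD2_c14 LD3_c27)) = (LP (LK LD1_c19 LD2_c10 LD3_c47)) :=
  Lgr Lrot3 (Lpr_ft (f883396 IH) (Lpn (LP (LK LD1_c19 LD2_c10 LD3_c47))))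
theorem f223872 : Led Lsl_bt (LP (LK LD1_c5 LD2_c20 LD3_c35)) = (LP (LK LD1_c10 LD2_c31 LD3_c11)) :=
  Lre_b IH (LK LD1_c5 LD2_c20 LD3_c35) (LK LD1_c10 LD2_c31 LD3_c11) Lrfl Lrfl
theorem f279731 : Led Lsl_bt (LP (LK LD1_c10 LD2_c37 LD3_c20)) = (LP (LK LD1_c5 LD2_c23 LD3_c24)) :=
  Lre_b IH (LK LD1_c10 LD2_c37 LD3_c20) (LK LD1_c5 LD2_c23 LD3_c24) Lrfl Lrfl
theorem f310713 : Led Lsl_ct (LP (LK LD1_c10 LD2_c31 LD3_c11)) = (LP (LK LD1_c10 LD2_c37 LD3_c20)) :=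
  Lgr Lrot83 (Lpe (f223872 IH) (Lpe (K12.f223866 IH) (Lpr_bf (K19.f310708 IH) (Lpe (K31.f279537 IH) (Lpe (f279731 IH) (Lpn (LP (LK LD1_c10 LD2_c37 LD3_c20))))))))
theorem f41911 : Led Lsl_gt (LP (LK LD1_c9 LD2_c40 LD3_c36)) = (LP (LK LD1_c17 LD2_c48 LD3_c2)) :=
  Lre_g IH (LK LD1_c9 LD2_c40 LD3_c36) (LK LD1_c17 LD2_c48 LD3_c2) Lrfl Lrfl
theorem f253925 : Led Lsl_bt (LP (LK LD1_c27 LD2_c35 LD3_c23)) = (LP (LK LD1_c17 LD2_c48 LD3_c2)) :=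
  Lre_b IH (LK LD1_c27 LD2_c35 LD3_c23) (LK LD1_c17 LD2_c48 LD3_c2) Lrfl Lrfl
theorem f403456 : Led Lsl_ct (LP (LK LD1_c27 LD2_c35 LD3_c23)) = (LP (LK LD1_c19 LD2_c14 LD3_c27)) :=
  Lgr Lrot64 (Lpr_bt (f253925 IH) (Lpe (f41911 IH) (Lpe (K16.f41910 IH) (Lpr_ct (K12.f167807 IH) (Lpr_gf (K14.f253905 IH) (Lpe (K14.f253915 IH) (Lpe (K14.f253919 IH) (Lpe (K19.f224748 IH) (Lpr_ct (f310713 IH) (Lpe (f312894 IH) (Lpn (LP (LK LD1_c19 LD2_c14 LD3_c27)))))))))))))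
theorem f403459 : Led Lsl_cf (LP (LK LD1_c27 LD2_c35 LD3_c23)) = (LP (LK LD1_c19 LD2_c14 LD3_c27)) :=
  Lgr Lrot11 (Lpr_ct (f403456 IH) (Lpn (LP (LK LD1_c19 LD2_c14 LD3_c27))))
theorem f883406 : Led Lsl_ft (LP (LK LD1_c27 LD2_c35 LD3_c23)) = (LP (LK LD1_c17 LD2_c50 LD3_c14)) :=
  Lgr Lrot4 (Lpr_cf (f403459 IH) (Lpr_ff (f883404 IH) (Lpr_cf (f261263 IH) (Lpn (LP (LK LD1_c17 LD2_c50 LD3_c14))))))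
theorem f403458 : Led Lsl_bt (LP (LK LD1_c17 LD2_c48 LD3_c2)) = (LP (LK LD1_c27 LD2_c35 LD3_c23)) :=
  Lre_b IH (LK LD1_c17 LD2_c48 LD3_c2) (LK LD1_c27 LD2_c35 LD3_c23) Lrfl Lrfl
theorem f883408 : Led Lsl_ff (LP (LK LD1_c17 LD2_c48 LD3_c2)) = (LP (LK LD1_c9 LD2_c41 LD3_c53)) :=
  Lgr Lrot25 (Lpr_bt (f403458 IH) (Lpr_ft (f883406 IH) (Lpr_bt (f218577 IH) (Lpn (LP (LK LD1_c9 LD2_c41 LD3_c53))))))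
theorem f235770 : Led Lsl_gt (LP (LK LD1_c9 LD2_c41 LD3_c54)) = (LP (LK LD1_c4 LD2_c55 LD3_c11)) :=
  Lre_g IH (LK LD1_c9 LD2_c41 LD3_c54) (LK LD1_c4 LD2_c55 LD3_c11) Lrfl Lrfl
theorem f349243 : Led Lsl_gt (LP (LK LD1_c17 LD2_c48 LD3_c4)) = (LP (LK LD1_c9 LD2_c41 LD3_c54)) :=
  Lgr Lrot5 (Lpr_ft (K38.f349198 IH) (Lpr_at (K38.f349197 IH) (Lpe (f235770 IH) (Lpn (LP (LK LD1_c9 LD2_c41 LD3_c54))))))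
theorem f883414 : Led Lsl_at (LP (LK LD1_c17 LD2_c48 LD3_c2)) = (LP (LK LD1_c9 LD2_c41 LD3_c54)) :=
  Lgr Lrot26 (Lpr_ff (f883408 IH) (Lpe (K38.f349205 IH) (Lpr_gt (f349243 IH) (Lpn (LP (LK LD1_c9 LD2_c41 LD3_c54))))))
theorem f284588 : Led Lsl_gt (LP (LK LD1_c2 LD2_c40 LD3_c18)) = (LP (LK LD1_c5 LD2_c27 LD3_c56)) :=
  Lre_g IH (LK LD1_c2 LD2_c40 LD3_c18) (LK LD1_c5 LD2_c27 LD3_c56) Lrfl Lrfl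
theorem f284589 : Led Lsl_bt (LP (LK LD1_c10 LD2_c47 LD3_c0)) = (LP (LK LD1_c5 LD2_c27 LD3_c56)) :=
  Lre_b IH (LK LD1_c10 LD2_c47 LD3_c0) (LK LD1_c5 LD2_c27 LD3_c56) Lrfl Lrfl
theorem f284590 : Led Lsl_ct (LP (LK LD1_c10 LD2_c47 LD3_c0)) = (LP (LK LD1_c9 LD2_c41 LD3_c54)) :=
  Lgr Lrot64 (Lpr_bt (f284589 IH) (Lpe (f284588 IH) (Lpe (K30.f245064 IH) (Lpr_ct (K14.f7892 IH) (Lpe (K17.f197004 IH) (Lpe (K18.f244829 IH) (Lpr_gf (K19.f284570 IH) (Lpe (K52.f235783 IH) (Lpr_ct (K38.f235784 IH) (Lpe (f235770 IH) (Lpn (LP (LK LD1_c9 LD2_c41 LD3_c54)))))))))))))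
theorem f284596 : Led Lsl_cf (LP (LK LD1_c10 LD2_c47 LD3_c0)) = (LP (LK LD1_c9 LD2_c41 LD3_c54)) :=
  Lgr Lrot11 (Lpr_ct (f284590 IH) (Lpn (LP (LK LD1_c9 LD2_c41 LD3_c54))))
theorem f284600 : Led Lsl_at (LP (LK LD1_c10 LD2_c47 LD3_c0)) = (LP (LK LD1_c19 LD2_c30 LD3_c27)) :=
  Lre_a IH (LK LD1_c10 LD2_c47 LD3_c0) (LK LD1_c19 LD2_c30 LD3_c27) Lrfl Lrfl
theorem f883418 : Led Lsl_cf (LP (LK LD1_c17 LD2_c48 LD3_c2)) = (LP (LK LD1_c19 LD2_c30 LD3_c27)) :=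
  Lgr Lrot1 (Lpr_at (f883414 IH) (Lpe (f284596 IH) (Lpr_at (f284600 IH) (Lpn (LP (LK LD1_c19 LD2_c30 LD3_c27))))))
theorem f349190 : Led Lsl_gt (LP (LK LD1_c17 LD2_c48 LD3_c2)) = (LP (LK LD1_c9 LD2_c41 LD3_c55)) :=
  Lgr Lrot46 (Lpe (f41911 IH) (Lpr_ft (K26.f349178 IH) (Lpr_at (K38.f349180 IH) (Lpn (LP (LK LD1_c9 LD2_c41 LD3_c55))))))
theorem f278044 : Led Lsl_at (LP (LK LD1_c19 LD2_c28 LD3_c45)) = (LP (LK LD1_c10 LD2_c46 LD3_c15)) :=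
  Lre_a IH (LK LD1_c19 LD2_c28 LD3_c45) (LK LD1_c10 LD2_c46 LD3_c15) Lrfl Lrfl
theorem f349412 : Led Lsl_ft (LP (LK LD1_c15 LD2_c51 LD3_c31)) = (LP (LK LD1_c19 LD2_c28 LD3_c45)) :=
  Lgr Lrot101 (Lpe (K67.f349266 IH) (Lpr_ff (K67.f349406 IH) (Lpe (f278044 IH) (Lpn (LP (LK LD1_c19 LD2_c28 LD3_c45))))))
theorem f349415 : Led Lsl_gt (LP (LK LD1_c15 LD2_c51 LD3_c31)) = (LP (LK LD1_c19 LD2_c28 LD3_c44)) :=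
  Lgr Lrot5 (Lpr_ft (f349412 IH) (Lpr_at (f278044 IH) (Lpe (K67.f278043 IH) (Lpn (LP (LK LD1_c19 LD2_c28 LD3_c44))))))
theorem f883430 : Led Lsl_bf (LP (LK LD1_c26 LD2_c43 LD3_c23)) = (LP (LK LD1_c19 LD2_c30 LD3_c27)) :=
  Lgr Lrot34 (Lpe (f883378 IH) (Lpr_bf (K31.f389139 IH) (Lpe (f389143 IH) (Lpe (f401243 IH) (Lpe (f349463 IH) (Lpe (f349415 IH) (Lpr_bf (K67.f349259 IH) (Lpr_ct (K52.f349192 IH) (Lpe (f349190 IH) (Lpr_cf (f883418 IH) (Lpn (LP (LK LD1_c19 LD2_c30 LD3_c27)))))))))))))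
theorem f226496 : Led Lsl_at (LP (LK LD1_c26 LD2_c43 LD3_c23)) = (LP (LK LD1_c16 LD2_c44 LD3_c29)) :=
  Lre_a IH (LK LD1_c26 LD2_c43 LD3_c23) (LK LD1_c16 LD2_c44 LD3_c29) Lrfl Lrfl
theorem f284594 : Led Lsl_bt (LP (LK LD1_c5 LD2_c27 LD3_c56)) = (LP (LK LD1_c10 LD2_c47 LD3_c0)) :=
  Lre_b IH (LK LD1_c5 LD2_c27 LD3_c56) (LK LD1_c10 LD2_c47 LD3_c0) Lrfl Lrfl
def v14937 : LQ := Led Lsl_at (LP (LK LD1_c5 LD2_c27 LD3_c56))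
theorem f727351 : Led Lsl_at (LP (LK LD1_c5 LD2_c27 LD3_c56)) = v14937 :=
  Lrfl
theorem f727352 : Led Lsl_af (LP (LK LD1_c5 LD2_c27 LD3_c56)) = v14937 :=
  Lgr Lrot0 (Lpr_at (f727351 IH) (Lpn v14937))
theorem f883436 : (LP (LK LD1_c8 LD2_c56 LD3_c34)) = v14937 :=
  (Llr Lrot62 (Lpe (K30.f226495 IH) (Lpe (f226496 IH) (Lpr_bf (f883430 IH) (Lpe (f284600 IH) (Lpe (f284594 IH) (Lpr_af (f727352 IH) (Lpn v14937)))))))).symm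
theorem f727353 : Led Lsl_ft (LP (LK LD1_c5 LD2_c27 LD3_c57)) = v14937 :=
  Lgr Lrot2 (Lpr_gt (K30.f244949 IH) (Lpr_gt (f284588 IH) (Lpr_af (f727352 IH) (Lpn v14937))))
theorem f883443 : Led Lsl_ff (LP (LK LD1_c10 LD2_c47 LD3_c5)) = (LP (LK LD1_c10 LD2_c53 LD3_c51)) :=
  Lgr Lrot19 (Lpr_dt (K54.f245417 IH) (Lpr_ft (f727353 IH) (Lpq (f883436 IH) (Lpe (K52.f388322 IH) (Lpn (LP (LK LD1_c10 LD2_c53 LD3_c51)))))))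
theorem f883469 : Led Lsl_at (LP (LK LD1_c10 LD2_c47 LD3_c5)) = (LP (LK LD1_c10 LD2_c53 LD3_c50)) :=
  Lgr Lrot26 (Lpr_ff (f883443 IH) (Lpr_gt (K31.f271652 IH) (Lpr_gt (K31.f225221 IH) (Lpn (LP (LK LD1_c10 LD2_c53 LD3_c50))))))
def v14938 : LQ := Led Lsl_ft (LP (LK LD1_c5 LD2_c27 LD3_c56))
theorem f727355 : Led Lsl_ft (LP (LK LD1_c5 LD2_c27 LD3_c56)) = v14938 :=
  Lrfl
theorem f727356 : Led Lsl_af (LP (LK LD1_c5 LD2_c27 LD3_c57)) = v14938 :=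
  Lgr Lrot45 (Lpr_ft (f727353 IH) (Lpe (f727352 IH) (Lpr_ft (f727355 IH) (Lpn v14938))))
theorem f883479 : v14938 = (LP (LK LD1_c8 LD2_c56 LD3_c33)) :=
  (Llr Lrot117 (Lpe (f727356 IH) (Lpr_dt (K67.f245413 IH) (Lpr_at (f883469 IH) (Lpe (K31.f392175 IH) (Lpn (LP (LK LD1_c8 LD2_c56 LD3_c33)))))))).symm
theorem f284595 : Led Lsl_ct (LP (LK LD1_c10 LD2_c47 LD3_c1)) = (LP (LK LD1_c5 LD2_c27 LD3_c56)) :=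
  Lre_c IH (LK LD1_c10 LD2_c47 LD3_c1) (LK LD1_c5 LD2_c27 LD3_c56) Lrfl Lrfl
def v15340 : LQ := Led Lsl_at (LP (LK LD1_c5 LD2_c36 LD3_c45))
theorem f735747 : Led Lsl_at (LP (LK LD1_c5 LD2_c36 LD3_c45)) = v15340 :=
  Lrfl
theorem f735748 : Led Lsl_af (LP (LK LD1_c5 LD2_c36 LD3_c45)) = v15340 :=
  Lgr Lrot0 (Lpr_at (f735747 IH) (Lpn v15340))
theorem f735749 : Led Lsl_ft (LP (LK LD1_c16 LD2_c44 LD3_c27)) = v15340 :=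
  Lgr Lrot2 (Lpr_gt (K31.f386457 IH) (Lpr_gt (K31.f226416 IH) (Lpr_af (f735748 IH) (Lpn v15340))))
theorem f883488 : (LP (LK LD1_c10 LD2_c47 LD3_c1)) = v15340 :=
  (Llr Lrot108 (Lpr_ct (f284595 IH) (Lpr_ft (f727355 IH) (Lpqs (f883479 IH) (Lpr_ct (K31.f236262 IH) (Lpr_ft (f735749 IH) (Lpn v15340))))))).symm
def v15220 : LQ := Led Lsl_gt (LP (LK LD1_c5 LD2_c34 LD3_c11))
theorem f732954 : Led Lsl_gt (LP (LK LD1_c5 LD2_c34 LD3_c11)) = v15220 :=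
  Lrfl
theorem f732957 : Led Lsl_cf (LP (LK LD1_c16 LD2_c47 LD3_c1)) = v15220 :=
  Lgr Lrot169 (Lpe (K31.f280842 IH) (Lpr_ct (K20.f280774 IH) (Lpe (K31.f280825 IH) (Lpe (K20.f221398 IH) (Lpr_gf (K31.f281711 IH) (Lpe (K31.f281713 IH) (Lpe (K31.f224497 IH) (Lpe (K31.f281721 IH) (Lpr_gt (f732954 IH) (Lpn v15220))))))))))
theorem f392660 : Led Lsl_df (LP (LK LD1_c28 LD2_c53 LD3_c41)) = (LP (LK LD1_c19 LD2_c33 LD3_c35)) :=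
  Lgr Lrot43 (Lpr_ct (K67.f387761 IH) (Lpr_dt (K67.f382543 IH) (Lpr_ct (K67.f382523 IH) (Lpr_dt (K67.f349411 IH) (Lpr_ct (K31.f349410 IH) (Lpr_dt (K31.f387767 IH) (Lpr_ct (K31.f387768 IH) (Lpr_dt (K67.f392657 IH) (Lpe (K67.f387748 IH) (Lpr_dt (K67.f387750 IH) (Lpr_ct (K31.f386503 IH) (Lpr_dt (K31.f245268 IH) (Lpr_ct (K30.f172946 IH) (Lpr_dt (K31.f386447 IH) (Lpr_ct (K54.f386448 IH) (Lpn (LP (LK LD1_c19 LD2_c33 LD3_c35))))))))))))))))))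
theorem f245394 : Led Lsl_gt (LP (LK LD1_c28 LD2_c53 LD3_c41)) = (LP (LK LD1_c19 LD2_c34 LD3_c31)) :=
  Lgr Lrot46 (Lpe (K67.f245369 IH) (Lpr_ft (K31.f245390 IH) (Lpe (K31.f245234 IH) (Lpn (LP (LK LD1_c19 LD2_c34 LD3_c31))))))
theorem f245414 : Led Lsl_ct (LP (LK LD1_c10 LD2_c47 LD3_c5)) = (LP (LK LD1_c19 LD2_c30 LD3_c39)) :=
  Lre_c IH (LK LD1_c10 LD2_c47 LD3_c5) (LK LD1_c19 LD2_c30 LD3_c39) Lrfl Lrfl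
theorem f245415 : Led Lsl_dt (LP (LK LD1_c28 LD2_c53 LD3_c23)) = (LP (LK LD1_c19 LD2_c30 LD3_c39)) :=
  Lre_d IH (LK LD1_c28 LD2_c53 LD3_c23) (LK LD1_c19 LD2_c30 LD3_c39) Lrfl Lrfl
theorem f392665 : Led Lsl_ct (LP (LK LD1_c19 LD2_c34 LD3_c29)) = (LP (LK LD1_c28 LD2_c53 LD3_c23)) :=
  Lgr Lrot110 (Lpe (K31.f245350 IH) (Lpe (K31.f245339 IH) (Lpe (f245394 IH) (Lpr_df (f392660 IH) (Lpe (K54.f390664 IH) (Lpr_ct (K54.f280757 IH) (Lpr_gt (K54.f390675 IH) (Lpr_ct (f245414 IH) (Lpe (f245415 IH) (Lpn (LP (LK LD1_c28 LD2_c53 LD3_c23))))))))))))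
theorem f245416 : Led Lsl_ct (LP (LK LD1_c19 LD2_c30 LD3_c39)) = (LP (LK LD1_c10 LD2_c47 LD3_c5)) :=
  Lre_c IH (LK LD1_c19 LD2_c30 LD3_c39) (LK LD1_c10 LD2_c47 LD3_c5) Lrfl Lrfl
theorem f33545 : Led Lsl_gt (LP (LK LD1_c28 LD2_c14 LD3_c12)) = (LP (LK LD1_c18 LD2_c44 LD3_c11)) :=
  Lre_g IH (LK LD1_c28 LD2_c14 LD3_c12) (LK LD1_c18 LD2_c44 LD3_c11) Lrfl Lrfl
theorem f616723 : Led Lsl_bt (LP (LK LD1_c19 LD2_c33 LD3_c43)) = (LP (LK LD1_c28 LD2_c14 LD3_c12)) :=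
  Lgr Lrot22 (Lpr_ct (K67.f387755 IH) (Lpr_gf (K31.f245392 IH) (Lpe (K13.f245228 IH) (Lpe (K52.f168553 IH) (Lpe (K52.f168554 IH) (Lpr_ct (K52.f616721 IH) (Lpe (K52.f188906 IH) (Lpe (K31.f271546 IH) (Lpr_bt (K31.f271557 IH) (Lpe (f33545 IH) (Lpn (LP (LK LD1_c28 LD2_c14 LD3_c12)))))))))))))
theorem f33539 : Led Lsl_ct (LP (LK LD1_c10 LD2_c19 LD3_c15)) = (LP (LK LD1_c18 LD2_c44 LD3_c11)) :=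
  Lre_c IH (LK LD1_c10 LD2_c19 LD3_c15) (LK LD1_c18 LD2_c44 LD3_c11) Lrfl Lrfl
theorem f188959 : Led Lsl_bt (LP (LK LD1_c4 LD2_c16 LD3_c35)) = (LP (LK LD1_c8 LD2_c32 LD3_c24)) :=
  Lre_b IH (LK LD1_c4 LD2_c16 LD3_c35) (LK LD1_c8 LD2_c32 LD3_c24) Lrfl Lrfl
theorem f221082 : Led Lsl_gt (LP (LK LD1_c8 LD2_c32 LD3_c24)) = (LP (LK LD1_c16 LD2_c2 LD3_c0)) :=
  Lre_g IH (LK LD1_c8 LD2_c32 LD3_c24) (LK LD1_c16 LD2_c2 LD3_c0) Lrfl Lrfl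
theorem f217920 : Led Lsl_bt (LP (LK LD1_c25 LD2_c59 LD3_c38)) = (LP (LK LD1_c16 LD2_c2 LD3_c0)) :=
  Lre_b IH (LK LD1_c25 LD2_c59 LD3_c38) (LK LD1_c16 LD2_c2 LD3_c0) Lrfl Lrfl
theorem f221083 : Led Lsl_cf (LP (LK LD1_c28 LD2_c14 LD3_c12)) = (LP (LK LD1_c25 LD2_c59 LD3_c38)) :=
  Lgr Lrot160 (Lpr_gt (f33545 IH) (Lpe (f33539 IH) (Lpr_bt (K31.f33489 IH) (Lpe (K12.f188900 IH) (Lpr_ct (K12.f221070 IH) (Lpr_gt (K12.f1021 IH) (Lpe (K16.f188958 IH) (Lpr_bt (f188959 IH) (Lpr_gt (f221082 IH) (Lpe (f217920 IH) (Lpn (LP (LK LD1_c25 LD2_c59 LD3_c38)))))))))))))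
theorem f221089 : Led Lsl_ct (LP (LK LD1_c28 LD2_c14 LD3_c12)) = (LP (LK LD1_c25 LD2_c59 LD3_c38)) :=
  Lgr Lrot59 (Lpr_cf (f221083 IH) (Lpn (LP (LK LD1_c25 LD2_c59 LD3_c38))))
theorem f221085 : Led Lsl_ct (LP (LK LD1_c16 LD2_c2 LD3_c0)) = (LP (LK LD1_c25 LD2_c59 LD3_c39)) :=
  Lre_c IH (LK LD1_c16 LD2_c2 LD3_c0) (LK LD1_c25 LD2_c59 LD3_c39) Lrfl Lrfl
theorem f616908 : Led Lsl_bf (LP (LK LD1_c28 LD2_c53 LD3_c42)) = (LP (LK LD1_c25 LD2_c59 LD3_c39)) :=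
  Lgr Lrot90 (Lpe (K67.f387748 IH) (Lpr_bt (f616723 IH) (Lpr_ct (f221089 IH) (Lpr_bt (f217920 IH) (Lpr_ct (f221085 IH) (Lpn (LP (LK LD1_c25 LD2_c59 LD3_c39))))))))
theorem f245494 : Led Lsl_gf (LP (LK LD1_c19 LD2_c34 LD3_c30)) = (LP (LK LD1_c26 LD2_c43 LD3_c59)) :=
  Lgr Lrot47 (Lpr_gt (K52.f168553 IH) (Lpe (K31.f245335 IH) (Lpr_ff (K31.f245337 IH) (Lpn (LP (LK LD1_c26 LD2_c43 LD3_c59))))))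
theorem f221088 : Led Lsl_ct (LP (LK LD1_c25 LD2_c59 LD3_c39)) = (LP (LK LD1_c16 LD2_c2 LD3_c0)) :=
  Lre_c IH (LK LD1_c25 LD2_c59 LD3_c39) (LK LD1_c16 LD2_c2 LD3_c0) Lrfl Lrfl
theorem f51983 : Led Lsl_ct (LP (LK LD1_c16 LD2_c1 LD3_c55)) = (LP (LK LD1_c8 LD2_c32 LD3_c24)) :=
  Lre_c IH (LK LD1_c16 LD2_c1 LD3_c55) (LK LD1_c8 LD2_c32 LD3_c24) Lrfl Lrfl
theorem f51720 : Led Lsl_bt (LP (LK LD1_c16 LD2_c1 LD3_c55)) = (LP (LK LD1_c8 LD2_c32 LD3_c18)) :=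
  Lre_b IH (LK LD1_c16 LD2_c1 LD3_c55) (LK LD1_c8 LD2_c32 LD3_c18) Lrfl Lrfl
theorem f51742 : Led Lsl_bt (LP (LK LD1_c25 LD2_c59 LD3_c23)) = (LP (LK LD1_c16 LD2_c1 LD3_c54)) :=
  Lre_b IH (LK LD1_c25 LD2_c59 LD3_c23) (LK LD1_c16 LD2_c1 LD3_c54) Lrfl Lrfl
theorem f616920 : Led Lsl_cf (LP (LK LD1_c19 LD2_c34 LD3_c30)) = (LP (LK LD1_c25 LD2_c59 LD3_c23)) :=
  Lgr Lrot163 (Lpr_gf (f245494 IH) (Lpe (K30.f245353 IH) (Lpe (K31.f244680 IH) (Lpr_bf (f616908 IH) (Lpr_ct (f221088 IH) (Lpe (f221082 IH) (Lpe (f51983 IH) (Lpr_bt (f51720 IH) (Lpe (f51737 IH) (Lpe (f51742 IH) (Lpn (LP (LK LD1_c25 LD2_c59 LD3_c23)))))))))))))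
theorem f616923 : Led Lsl_ct (LP (LK LD1_c19 LD2_c34 LD3_c30)) = (LP (LK LD1_c25 LD2_c59 LD3_c23)) :=
  Lgr Lrot59 (Lpr_cf (f616920 IH) (Lpn (LP (LK LD1_c25 LD2_c59 LD3_c23))))
theorem f376565 : Led Lsl_dt (LP (LK LD1_c5 LD2_c27 LD3_c56)) = (LP (LK LD1_c10 LD2_c47 LD3_c2)) :=
  Lre_d IH (LK LD1_c5 LD2_c27 LD3_c56) (LK LD1_c10 LD2_c47 LD3_c2) Lrfl Lrfl
theorem f387771 : Led Lsl_gt (LP (LK LD1_c10 LD2_c47 LD3_c2)) = (LP (LK LD1_c10 LD2_c53 LD3_c48)) :=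
  Lgr Lrot49 (Lpe (f376565 IH) (Lpe (f284588 IH) (Lpe (K30.f172916 IH) (Lpr_gt (K22.f172945 IH) (Lpr_dt (K31.f245271 IH) (Lpr_gt (K38.f387741 IH) (Lpr_dt (K20.f221408 IH) (Lpe (K20.f221398 IH) (Lpe (K31.f280705 IH) (Lpn (LP (LK LD1_c10 LD2_c53 LD3_c48))))))))))))
theorem f281607 : Led Lsl_at (LP (LK LD1_c5 LD2_c31 LD3_c9)) = (LP (LK LD1_c10 LD2_c53 LD3_c48)) :=
  Lre_a IH (LK LD1_c5 LD2_c31 LD3_c9) (LK LD1_c10 LD2_c53 LD3_c48) Lrfl Lrfl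
theorem f281595 : Led Lsl_ff (LP (LK LD1_c5 LD2_c31 LD3_c9)) = (LP (LK LD1_c8 LD2_c57 LD3_c51)) :=
  Lgr Lrot23 (Lpr_ct (K20.f225233 IH) (Lpr_ft (K30.f280755 IH) (Lpr_ct (K31.f262873 IH) (Lpn (LP (LK LD1_c8 LD2_c57 LD3_c51))))))
theorem f387773 : Led Lsl_gf (LP (LK LD1_c10 LD2_c47 LD3_c2)) = (LP (LK LD1_c8 LD2_c57 LD3_c51)) :=
  Lgr Lrot47 (Lpr_gt (f387771 IH) (Lpe (f281607 IH) (Lpr_ff (f281595 IH) (Lpn (LP (LK LD1_c8 LD2_c57 LD3_c51))))))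
theorem f376566 : Led Lsl_ct (LP (LK LD1_c10 LD2_c47 LD3_c2)) = (LP (LK LD1_c19 LD2_c30 LD3_c30)) :=
  Lre_c IH (LK LD1_c10 LD2_c47 LD3_c2) (LK LD1_c19 LD2_c30 LD3_c30) Lrfl Lrfl
theorem f616928 : Led Lsl_df (LP (LK LD1_c19 LD2_c30 LD3_c30)) = (LP (LK LD1_c25 LD2_c59 LD3_c23)) :=
  Lgr Lrot162 (Lpe (f376566 IH) (Lpr_gf (f387773 IH) (Lpe (K31.f262873 IH) (Lpe (K31.f392638 IH) (Lpr_dt (K67.f392657 IH) (Lpr_gt (K31.f244680 IH) (Lpr_ct (K30.f245353 IH) (Lpe (f245494 IH) (Lpr_ct (f616923 IH) (Lpn (LP (LK LD1_c25 LD2_c59 LD3_c23))))))))))))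
theorem f387775 : Led Lsl_ct (LP (LK LD1_c19 LD2_c30 LD3_c30)) = (LP (LK LD1_c10 LD2_c47 LD3_c2)) :=
  Lre_c IH (LK LD1_c19 LD2_c30 LD3_c30) (LK LD1_c10 LD2_c47 LD3_c2) Lrfl Lrfl
theorem f387776 : Led Lsl_dt (LP (LK LD1_c10 LD2_c47 LD3_c2)) = (LP (LK LD1_c5 LD2_c27 LD3_c56)) :=
  Lre_d IH (LK LD1_c10 LD2_c47 LD3_c2) (LK LD1_c5 LD2_c27 LD3_c56) Lrfl Lrfl
theorem f284601 : Led Lsl_ct (LP (LK LD1_c5 LD2_c27 LD3_c56)) = (LP (LK LD1_c10 LD2_c47 LD3_c1)) :=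
  Lre_c IH (LK LD1_c5 LD2_c27 LD3_c56) (LK LD1_c10 LD2_c47 LD3_c1) Lrfl Lrfl
theorem f732960 : Led Lsl_dt (LP (LK LD1_c10 LD2_c47 LD3_c1)) = v15220 :=
  Lgr Lrot173 (Lpe (f284601 IH) (Lpe (f387776 IH) (Lpe (f387775 IH) (Lpr_df (f616928 IH) (Lpe (f616923 IH) (Lpe (K67.f382540 IH) (Lpr_cf (K31.f390169 IH) (Lpe (K67.f390246 IH) (Lpe (K31.f332081 IH) (Lpe (K54.f245417 IH) (Lpe (f245416 IH) (Lpe (f245415 IH) (Lpe (f392665 IH) (Lpr_df (K31.f387745 IH) (Lpr_cf (f732957 IH) (Lpn v15220))))))))))))))))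
theorem f883493 : Led Lsl_ff (LP (LK LD1_c19 LD2_c43 LD3_c32)) = v15220 :=
  Lgr Lrot19 (Lpe (K31.f392172 IH) (Lpr_ft (f735749 IH) (Lpq (f883488 IH) (Lpr_dt (f732960 IH) (Lpn v15220)))))
theorem f732955 : Led Lsl_gf (LP (LK LD1_c19 LD2_c47 LD3_c25)) = v15220 :=
  Lgr Lrot76 (Lpe (K30.f387584 IH) (Lpe (K30.f387583 IH) (Lpr_gt (f732954 IH) (Lpn v15220))))
theorem f883497 : Led Lsl_at (LP (LK LD1_c19 LD2_c43 LD3_c32)) = (LP (LK LD1_c10 LD2_c58 LD3_c7)) :=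
  Lgr Lrot26 (Lpr_ff (f883493 IH) (Lpe (f732955 IH) (Lpr_gt (K31.f390165 IH) (Lpn (LP (LK LD1_c10 LD2_c58 LD3_c7))))))
theorem f883501 : Led Lsl_af (LP (LK LD1_c10 LD2_c55 LD3_c9)) = (LP (LK LD1_c16 LD2_c47 LD3_c2)) :=
  Lgr Lrot68 (Lpr_ct (K31.f280888 IH) (Lpr_at (f883497 IH) (Lpe (K31.f390169 IH) (Lpn (LP (LK LD1_c16 LD2_c47 LD3_c2))))))
theorem f732959 : Led Lsl_ct (LP (LK LD1_c16 LD2_c47 LD3_c1)) = v15220 :=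
  Lgr Lrot59 (Lpr_cf (f732957 IH) (Lpn v15220))
theorem f883494 : Led Lsl_ft (LP (LK LD1_c10 LD2_c55 LD3_c9)) = (LP (LK LD1_c16 LD2_c47 LD3_c1)) :=
  Lgr Lrot4 (Lpe (K31.f281586 IH) (Lpr_ff (f883493 IH) (Lpe (f732959 IH) (Lpn (LP (LK LD1_c16 LD2_c47 LD3_c1))))))
theorem f382553 : Led Lsl_bt (LP (LK LD1_c16 LD2_c47 LD3_c2)) = (LP (LK LD1_c26 LD2_c45 LD3_c33)) :=
  Lre_b IH (LK LD1_c16 LD2_c47 LD3_c2) (LK LD1_c26 LD2_c45 LD3_c33) Lrfl Lrfl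
theorem f280893 : Led Lsl_bt (LP (LK LD1_c19 LD2_c43 LD3_c35)) = (LP (LK LD1_c10 LD2_c55 LD3_c10)) :=
  Lre_b IH (LK LD1_c19 LD2_c43 LD3_c35) (LK LD1_c10 LD2_c55 LD3_c10) Lrfl Lrfl
theorem f883147 : Led Lsl_ff (LP (LK LD1_c16 LD2_c47 LD3_c2)) = (LP (LK LD1_c10 LD2_c55 LD3_c10)) :=
  Lgr Lrot25 (Lpr_bt (f382553 IH) (Lpr_ft (f883143 IH) (Lpr_bt (f280893 IH) (Lpn (LP (LK LD1_c10 LD2_c55 LD3_c10))))))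
theorem f883509 : Led Lsl_at (LP (LK LD1_c16 LD2_c47 LD3_c1)) = (LP (LK LD1_c10 LD2_c55 LD3_c10)) :=
  Lgr Lrot66 (Lpe (f883494 IH) (Lpr_af (f883501 IH) (Lpr_ff (f883147 IH) (Lpn (LP (LK LD1_c10 LD2_c55 LD3_c10))))))
theorem f883514 : Led Lsl_af (LP (LK LD1_c19 LD2_c34 LD3_c29)) = (LP (LK LD1_c19 LD2_c43 LD3_c36)) :=
  Lgr Lrot117 (Lpr_dt (K31.f387758 IH) (Lpr_at (f883509 IH) (Lpr_dt (K31.f281236 IH) (Lpn (LP (LK LD1_c19 LD2_c43 LD3_c36))))))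
theorem f883524 : Led Lsl_ft (LP (LK LD1_c19 LD2_c34 LD3_c30)) = (LP (LK LD1_c19 LD2_c43 LD3_c36)) :=
  Lgr Lrot2 (Lpr_gt (K52.f168553 IH) (Lpr_gt (K31.f245350 IH) (Lpr_af (f883514 IH) (Lpn (LP (LK LD1_c19 LD2_c43 LD3_c36))))))
theorem f883530 : Led Lsl_ff (LP (LK LD1_c19 LD2_c34 LD3_c30)) = (LP (LK LD1_c19 LD2_c43 LD3_c36)) :=
  Lgr Lrot3 (Lpr_ft (f883524 IH) (Lpn (LP (LK LD1_c19 LD2_c43 LD3_c36))))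
theorem f883534 : Led Lsl_at (LP (LK LD1_c19 LD2_c34 LD3_c30)) = (LP (LK LD1_c19 LD2_c43 LD3_c33)) :=
  Lgr Lrot26 (Lpr_ff (f883530 IH) (Lpe (K31.f392209 IH) (Lpe (K31.f388305 IH) (Lpn (LP (LK LD1_c19 LD2_c43 LD3_c33))))))
theorem f883520 : Led Lsl_at (LP (LK LD1_c19 LD2_c34 LD3_c29)) = (LP (LK LD1_c19 LD2_c43 LD3_c36)) :=
  Lgr Lrot100 (Lpr_af (f883514 IH) (Lpn (LP (LK LD1_c19 LD2_c43 LD3_c36))))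
theorem f883540 : Led Lsl_ff (LP (LK LD1_c19 LD2_c34 LD3_c29)) = (LP (LK LD1_c19 LD2_c43 LD3_c33)) :=
  Lgr Lrot30 (Lpr_at (f883520 IH) (Lpe (f883530 IH) (Lpr_at (f883534 IH) (Lpn (LP (LK LD1_c19 LD2_c43 LD3_c33))))))
theorem f883542 : Led Lsl_ft (LP (LK LD1_c28 LD2_c53 LD3_c23)) = (LP (LK LD1_c29 LD2_c1 LD3_c34)) :=
  Lgr Lrot4 (Lpe (f392665 IH) (Lpr_ff (f883540 IH) (Lpr_cf (K52.f392228 IH) (Lpn (LP (LK LD1_c29 LD2_c1 LD3_c34))))))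
theorem f883550 : Led Lsl_ff (LP (LK LD1_c28 LD2_c53 LD3_c23)) = (LP (LK LD1_c29 LD2_c1 LD3_c34)) :=
  Lgr Lrot3 (Lpr_ft (f883542 IH) (Lpn (LP (LK LD1_c29 LD2_c1 LD3_c34))))
theorem f883522 : Led Lsl_at (LP (LK LD1_c28 LD2_c53 LD3_c23)) = (LP (LK LD1_c29 LD2_c1 LD3_c27)) :=
  Lgr Lrot107 (Lpe (f392665 IH) (Lpr_af (f883514 IH) (Lpe (K52.f392223 IH) (Lpn (LP (LK LD1_c29 LD2_c1 LD3_c27))))))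
theorem f883528 : Led Lsl_ff (LP (LK LD1_c25 LD2_c59 LD3_c23)) = (LP (LK LD1_c29 LD2_c1 LD3_c27)) :=
  Lgr Lrot23 (Lpe (f616920 IH) (Lpr_ft (f883524 IH) (Lpe (K31.f392221 IH) (Lpn (LP (LK LD1_c29 LD2_c1 LD3_c27))))))
theorem f883555 : Led Lsl_at (LP (LK LD1_c25 LD2_c59 LD3_c23)) = (LP (LK LD1_c29 LD2_c1 LD3_c34)) :=
  Lgr Lrot66 (Lpr_ff (f883528 IH) (Lpe (f883522 IH) (Lpr_ff (f883550 IH) (Lpn (LP (LK LD1_c29 LD2_c1 LD3_c34))))))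
theorem f616926 : Led Lsl_dt (LP (LK LD1_c19 LD2_c30 LD3_c30)) = (LP (LK LD1_c25 LD2_c59 LD3_c23)) :=
  Lgr Lrot27 (Lpe (f376566 IH) (Lpr_gf (f387773 IH) (Lpe (K31.f262873 IH) (Lpe (K31.f392638 IH) (Lpr_df (K31.f392644 IH) (Lpr_gt (K31.f244680 IH) (Lpr_ct (K30.f245353 IH) (Lpe (f245494 IH) (Lpr_ct (f616923 IH) (Lpn (LP (LK LD1_c25 LD2_c59 LD3_c23))))))))))))
theorem f883557 : Led Lsl_af (LP (LK LD1_c19 LD2_c30 LD3_c30)) = (LP (LK LD1_c19 LD2_c41 LD3_c38)) :=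
  Lgr Lrot117 (Lpr_dt (f616926 IH) (Lpr_at (f883555 IH) (Lpr_dt (K31.f281703 IH) (Lpn (LP (LK LD1_c19 LD2_c41 LD3_c38))))))
theorem f883461 : Led Lsl_ft (LP (LK LD1_c19 LD2_c30 LD3_c39)) = (LP (LK LD1_c19 LD2_c41 LD3_c38)) :=
  Lgr Lrot4 (Lpe (f245414 IH) (Lpr_ff (f883443 IH) (Lpe (K31.f281235 IH) (Lpn (LP (LK LD1_c19 LD2_c41 LD3_c38))))))
theorem f883475 : Led Lsl_af (LP (LK LD1_c19 LD2_c30 LD3_c39)) = (LP (LK LD1_c19 LD2_c41 LD3_c35)) :=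
  Lgr Lrot68 (Lpr_ct (f245416 IH) (Lpr_at (f883469 IH) (Lpr_ct (K31.f271650 IH) (Lpn (LP (LK LD1_c19 LD2_c41 LD3_c35))))))
theorem f883566 : Led Lsl_ft (LP (LK LD1_c19 LD2_c30 LD3_c30)) = (LP (LK LD1_c19 LD2_c41 LD3_c35)) :=
  Lgr Lrot101 (Lpr_af (f883557 IH) (Lpe (f883461 IH) (Lpr_af (f883475 IH) (Lpn (LP (LK LD1_c19 LD2_c41 LD3_c35))))))
theorem f883570 : Led Lsl_ff (LP (LK LD1_c19 LD2_c30 LD3_c30)) = (LP (LK LD1_c19 LD2_c41 LD3_c35)) :=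
  Lgr Lrot3 (Lpr_ft (f883566 IH) (Lpn (LP (LK LD1_c19 LD2_c41 LD3_c35))))
theorem f883576 : Led Lsl_ft (LP (LK LD1_c10 LD2_c47 LD3_c2)) = (LP (LK LD1_c10 LD2_c53 LD3_c50)) :=
  Lgr Lrot4 (Lpe (f387775 IH) (Lpr_ff (f883570 IH) (Lpe (K31.f271650 IH) (Lpn (LP (LK LD1_c10 LD2_c53 LD3_c50))))))
theorem f387777 : Led Lsl_bt (LP (LK LD1_c19 LD2_c30 LD3_c28)) = (LP (LK LD1_c10 LD2_c47 LD3_c2)) :=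
  Lre_b IH (LK LD1_c19 LD2_c30 LD3_c28) (LK LD1_c10 LD2_c47 LD3_c2) Lrfl Lrfl
theorem f883580 : Led Lsl_ff (LP (LK LD1_c19 LD2_c30 LD3_c28)) = (LP (LK LD1_c19 LD2_c41 LD3_c34)) :=
  Lgr Lrot25 (Lpr_bt (f387777 IH) (Lpr_ft (f883576 IH) (Lpr_bt (K52.f392244 IH) (Lpn (LP (LK LD1_c19 LD2_c41 LD3_c34))))))
theorem f883595 : Led Lsl_ft (LP (LK LD1_c19 LD2_c30 LD3_c28)) = (LP (LK LD1_c19 LD2_c41 LD3_c34)) :=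
  Lgr Lrot48 (Lpr_ff (f883580 IH) (Lpn (LP (LK LD1_c19 LD2_c41 LD3_c34))))
theorem f417274 : Led Lsl_ft (LP (LK LD1_c15 LD2_c46 LD3_c37)) = (LP (LK LD1_c25 LD2_c43 LD3_c17)) :=
  Lre_f IH (LK LD1_c15 LD2_c46 LD3_c37) (LK LD1_c25 LD2_c43 LD3_c17) Lrfl Lrfl
theorem f883599 : Led Lsl_cf (LP (LK LD1_c19 LD2_c30 LD3_c28)) = (LP (LK LD1_c25 LD2_c43 LD3_c17)) :=
  Lgr Lrot108 (Lpr_ft (f883595 IH) (Lpr_ct (K54.f417265 IH) (Lpr_ft (f417274 IH) (Lpn (LP (LK LD1_c25 LD2_c43 LD3_c17))))))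
theorem f605852 : Led Lsl_at (LP (LK LD1_c28 LD2_c53 LD3_c4)) = (LP (LK LD1_c19 LD2_c30 LD3_c28)) :=
  Lre_a IH (LK LD1_c28 LD2_c53 LD3_c4) (LK LD1_c19 LD2_c30 LD3_c28) Lrfl Lrfl
theorem f390674 : Led Lsl_bt (LP (LK LD1_c19 LD2_c30 LD3_c37)) = (LP (LK LD1_c10 LD2_c47 LD3_c5)) :=
  Lre_b IH (LK LD1_c19 LD2_c30 LD3_c37) (LK LD1_c10 LD2_c47 LD3_c5) Lrfl Lrfl
theorem f717018 : Led Lsl_at (LP (LK LD1_c28 LD2_c53 LD3_c16)) = (LP (LK LD1_c19 LD2_c30 LD3_c37)) :=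
  Lre_a IH (LK LD1_c28 LD2_c53 LD3_c16) (LK LD1_c19 LD2_c30 LD3_c37) Lrfl Lrfl
theorem f332104 : Led Lsl_dt (LP (LK LD1_c28 LD2_c53 LD3_c16)) = (LP (LK LD1_c19 LD2_c30 LD3_c36)) :=
  Lre_d IH (LK LD1_c28 LD2_c53 LD3_c16) (LK LD1_c19 LD2_c30 LD3_c36) Lrfl Lrfl
theorem f403219 : Led Lsl_dt (LP (LK LD1_c17 LD2_c50 LD3_c15)) = (LP (LK LD1_c27 LD2_c37 LD3_c25)) :=
  Lre_d IH (LK LD1_c17 LD2_c50 LD3_c15) (LK LD1_c27 LD2_c37 LD3_c25) Lrfl Lrfl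
theorem f883355 : Led Lsl_bf (LP (LK LD1_c28 LD2_c53 LD3_c16)) = (LP (LK LD1_c27 LD2_c37 LD3_c25)) :=
  Lgr Lrot93 (Lpr_dt (f332104 IH) (Lpr_bt (f883351 IH) (Lpr_dt (f403219 IH) (Lpn (LP (LK LD1_c27 LD2_c37 LD3_c25))))))
theorem f883473 : Led Lsl_af (LP (LK LD1_c27 LD2_c37 LD3_c25)) = (LP (LK LD1_c19 LD2_c41 LD3_c34)) :=
  Lgr Lrot36 (Lpe (f883355 IH) (Lpr_at (f717018 IH) (Lpr_bt (f390674 IH) (Lpr_at (f883469 IH) (Lpr_bt (K52.f392244 IH) (Lpn (LP (LK LD1_c19 LD2_c41 LD3_c34))))))))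
theorem f883597 : Led Lsl_ff (LP (LK LD1_c28 LD2_c53 LD3_c4)) = (LP (LK LD1_c27 LD2_c37 LD3_c25)) :=
  Lgr Lrot30 (Lpr_at (f605852 IH) (Lpr_ft (f883595 IH) (Lpe (f883473 IH) (Lpn (LP (LK LD1_c27 LD2_c37 LD3_c25))))))
theorem f403267 : Led Lsl_dt (LP (LK LD1_c27 LD2_c37 LD3_c25)) = (LP (LK LD1_c17 LD2_c50 LD3_c15)) :=
  Lre_d IH (LK LD1_c27 LD2_c37 LD3_c25) (LK LD1_c17 LD2_c50 LD3_c15) Lrfl Lrfl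
theorem f550860 : Led Lsl_ct (LP (LK LD1_c17 LD2_c50 LD3_c16)) = (LP (LK LD1_c17 LD2_c44 LD3_c20)) :=
  Lgr Lrot191 (Lpe (K38.f219279 IH) (Lpe (K38.f218576 IH) (Lpe (K26.f218575 IH) (Lpe (K15.f218571 IH) (Lpe (K14.f41405 IH) (Lpe (K12.f41404 IH) (Lpe (K9.f40832 IH) (Lpr_cf (K12.f219119 IH) (Lpe (K16.f184459 IH) (Lpe (K12.f219779 IH) (Lpe (K12.f170602 IH) (Lpe (K9.f51522 IH) (Lpe (K9.f170862 IH) (Lpe (K9.f179719 IH) (Lpe (K22.f178404 IH) (Lpe (K38.f178420 IH) (Lpe (K22.f178421 IH) (Lpr_gf (K38.f550854 IH) (Lpe (K52.f399313 IH) (Lpn (LP (LK LD1_c17 LD2_c44 LD3_c20))))))))))))))))))))))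
theorem f550868 : Led Lsl_dt (LP (LK LD1_c17 LD2_c44 LD3_c20)) = (LP (LK LD1_c9 LD2_c38 LD3_c19)) :=
  Lre_d IH (LK LD1_c17 LD2_c44 LD3_c20) (LK LD1_c9 LD2_c38 LD3_c19) Lrfl Lrfl
theorem f883606 : Led Lsl_dt (LP (LK LD1_c15 LD2_c46 LD3_c39)) = (LP (LK LD1_c25 LD2_c43 LD3_c17)) :=
  Lre_d IH (LK LD1_c15 LD2_c46 LD3_c39) (LK LD1_c25 LD2_c43 LD3_c17) Lrfl Lrfl
theorem f883607 : Led Lsl_ct (LP (LK LD1_c9 LD2_c38 LD3_c19)) = (LP (LK LD1_c15 LD2_c46 LD3_c39)) :=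
  Lgr Lrot53 (Lpe (f550868 IH) (Lpe (f550860 IH) (Lpe (K38.f219279 IH) (Lpe (f235785 IH) (Lpe (f403267 IH) (Lpe (f883597 IH) (Lpr_at (f605852 IH) (Lpr_cf (f883599 IH) (Lpe (f883606 IH) (Lpn (LP (LK LD1_c15 LD2_c46 LD3_c39))))))))))))
theorem f883612 : Led Lsl_cf (LP (LK LD1_c9 LD2_c38 LD3_c19)) = (LP (LK LD1_c15 LD2_c46 LD3_c39)) :=
  Lgr Lrot11 (Lpr_ct (f883607 IH) (Lpn (LP (LK LD1_c15 LD2_c46 LD3_c39))))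
theorem f378561 : Led Lsl_ct (LP (LK LD1_c15 LD2_c39 LD3_c24)) = (LP (LK LD1_c15 LD2_c38 LD3_c42)) :=
  Lre_c IH (LK LD1_c15 LD2_c39 LD3_c24) (LK LD1_c15 LD2_c38 LD3_c42) Lrfl Lrfl
theorem f392877 : Led Lsl_at (LP (LK LD1_c15 LD2_c38 LD3_c42)) = (LP (LK LD1_c25 LD2_c34 LD3_c1)) :=
  Lre_a IH (LK LD1_c15 LD2_c38 LD3_c42) (LK LD1_c25 LD2_c34 LD3_c1) Lrfl Lrfl
theorem f392878 : Led Lsl_cf (LP (LK LD1_c16 LD2_c5 LD3_c54)) = (LP (LK LD1_c25 LD2_c34 LD3_c1)) :=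
  Lgr Lrot1 (Lpr_at (K41.f392817 IH) (Lpr_ct (f378561 IH) (Lpr_at (f392877 IH) (Lpn (LP (LK LD1_c25 LD2_c34 LD3_c1))))))
theorem f692319 : Led Lsl_bt (LP (LK LD1_c15 LD2_c46 LD3_c39)) = (LP (LK LD1_c8 LD2_c23 LD3_c20)) :=
  Lre_b IH (LK LD1_c15 LD2_c46 LD3_c39) (LK LD1_c8 LD2_c23 LD3_c20) Lrfl Lrfl
theorem f692281 : Led Lsl_gt (LP (LK LD1_c8 LD2_c23 LD3_c20)) = (LP (LK LD1_c15 LD2_c46 LD3_c26)) :=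
  Lre_g IH (LK LD1_c8 LD2_c23 LD3_c20) (LK LD1_c15 LD2_c46 LD3_c26) Lrfl Lrfl
theorem f883921 : Led Lsl_bt (LP (LK LD1_c25 LD2_c34 LD3_c1)) = (LP (LK LD1_c15 LD2_c46 LD3_c26)) :=
  Lgr Lrot92 (Lpe (f392878 IH) (Lpe (K41.f403515 IH) (Lpe (K17.f273796 IH) (Lpr_bt (K41.f282028 IH) (Lpe (K54.f397445 IH) (Lpr_ct (K54.f236690 IH) (Lpe (K52.f605802 IH) (Lpr_cf (f883612 IH) (Lpr_bt (f692319 IH) (Lpr_gt (f692281 IH) (Lpn (LP (LK LD1_c15 LD2_c46 LD3_c26)))))))))))))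
theorem f392880 : Led Lsl_ct (LP (LK LD1_c16 LD2_c5 LD3_c54)) = (LP (LK LD1_c25 LD2_c34 LD3_c1)) :=
  Lgr Lrot59 (Lpr_cf (f392878 IH) (Lpn (LP (LK LD1_c25 LD2_c34 LD3_c1))))
theorem f53427 : Led Lsl_bt (LP (LK LD1_c8 LD2_c34 LD3_c42)) = (LP (LK LD1_c4 LD2_c17 LD3_c48)) :=
  Lre_b IH (LK LD1_c8 LD2_c34 LD3_c42) (LK LD1_c4 LD2_c17 LD3_c48) Lrfl Lrfl
theorem f883927 : Led Lsl_cf (LP (LK LD1_c8 LD2_c34 LD3_c42)) = (LP (LK LD1_c15 LD2_c46 LD3_c26)) :=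
  Lgr Lrot97 (Lpr_bt (f53427 IH) (Lpr_ct (K66.f170213 IH) (Lpr_bt (K41.f188829 IH) (Lpr_ct (f392880 IH) (Lpr_bt (f883921 IH) (Lpn (LP (LK LD1_c15 LD2_c46 LD3_c26))))))))
def v12380 : LQ := Led Lsl_ct (LP (LK LD1_c4 LD2_c9 LD3_c47))
theorem f691816 : Led Lsl_ct (LP (LK LD1_c4 LD2_c9 LD3_c47)) = v12380 :=
  Lrfl
theorem f691818 : Led Lsl_cf (LP (LK LD1_c4 LD2_c9 LD3_c47)) = v12380 :=
  Lgr Lrot11 (Lpr_ct (f691816 IH) (Lpn v12380))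
theorem f51796 : Led Lsl_gt (LP (LK LD1_c4 LD2_c9 LD3_c47)) = (LP (LK LD1_c8 LD2_c19 LD3_c40)) :=
  Lre_g IH (LK LD1_c4 LD2_c9 LD3_c47) (LK LD1_c8 LD2_c19 LD3_c40) Lrfl Lrfl
theorem f52068 : Led Lsl_bt (LP (LK LD1_c4 LD2_c18 LD3_c27)) = (LP (LK LD1_c2 LD2_c6 LD3_c31)) :=
  Lre_b IH (LK LD1_c4 LD2_c18 LD3_c27) (LK LD1_c2 LD2_c6 LD3_c31) Lrfl Lrfl
theorem f52069 : Led Lsl_ct (LP (LK LD1_c4 LD2_c18 LD3_c27)) = (LP (LK LD1_c8 LD2_c35 LD3_c44)) :=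
  Lre_c IH (LK LD1_c4 LD2_c18 LD3_c27) (LK LD1_c8 LD2_c35 LD3_c44) Lrfl Lrfl
theorem f271518 : Led Lsl_bt (LP (LK LD1_c4 LD2_c17 LD3_c48)) = (LP (LK LD1_c8 LD2_c34 LD3_c42)) :=
  Lre_b IH (LK LD1_c4 LD2_c17 LD3_c48) (LK LD1_c8 LD2_c34 LD3_c42) Lrfl Lrfl
theorem f691824 : Led Lsl_gt (LP (LK LD1_c8 LD2_c34 LD3_c42)) = v12380 :=
  Lgr Lrot82 (Lpe (f271518 IH) (Lpr_ct (K66.f170213 IH) (Lpr_gf (K41.f271512 IH) (Lpe (f52069 IH) (Lpr_bt (f52068 IH) (Lpr_gf (K54.f52056 IH) (Lpe (K50.f52152 IH) (Lpr_ct (K30.f51800 IH) (Lpe (f51796 IH) (Lpr_cf (f691818 IH) (Lpn v12380)))))))))))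
theorem f620619 : Led Lsl_bt (LP (LK LD1_c4 LD2_c9 LD3_c47)) = (LP (LK LD1_c8 LD2_c19 LD3_c42)) :=
  Lre_b IH (LK LD1_c4 LD2_c9 LD3_c47) (LK LD1_c8 LD2_c19 LD3_c42) Lrfl Lrfl
theorem f236712 : Led Lsl_bt (LP (LK LD1_c8 LD2_c19 LD3_c33)) = (LP (LK LD1_c15 LD2_c39 LD3_c49)) :=
  Lre_b IH (LK LD1_c8 LD2_c19 LD3_c33) (LK LD1_c15 LD2_c39 LD3_c49) Lrfl Lrfl
theorem f884118 : K67.v36091 = (LP (LK LD1_c15 LD2_c39 LD3_c49)) :=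
  (Llr Lrot164 (Lpe (K67.f882158 IH) (Lpe (f620619 IH) (Lpr_ct (f691816 IH) (Lpe (f691824 IH) (Lpr_cf (f883927 IH) (Lpe (f692281 IH) (Lpe (f692319 IH) (Lpe (f883612 IH) (Lpr_gf (K52.f605802 IH) (Lpe (K54.f236690 IH) (Lpr_bt (f236712 IH) (Lpn (LP (LK LD1_c15 LD2_c39 LD3_c49))))))))))))))).symm
theorem f884119 : Led Lsl_gt (LP (LK LD1_c8 LD2_c19 LD3_c42)) = (LP (LK LD1_c15 LD2_c39 LD3_c49)) :=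
  Leop (Lpq (f884118 IH) (Lpe (K67.f882158 IH) (Lpn (LP (LK LD1_c8 LD2_c19 LD3_c42)))))
theorem seed_2091 : LEOK LG_g (LK LD1_c8 LD2_c19 LD3_c42) :=
  Leoe_g (LK LD1_c8 LD2_c19 LD3_c42) (f884119 IH)
def v36285 : LQ := Led Lsl_ft (LP (LK LD1_c8 LD2_c23 LD3_c11))
theorem f884514 : Led Lsl_ft (LP (LK LD1_c8 LD2_c23 LD3_c11)) = v36285 :=
  Lrfl
theorem f884518 : Led Lsl_ff (LP (LK LD1_c8 LD2_c23 LD3_c11)) = v36285 :=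
  Lgr Lrot3 (Lpr_ft (f884514 IH) (Lpn v36285))
theorem f884522 : Led Lsl_gf K52.v13989 = v36285 :=
  Lgr Lrot47 (Lpe (K52.f718461 IH) (Lpe (K66.f738818 IH) (Lpr_ff (f884518 IH) (Lpn v36285))))
theorem f280141 : Led Lsl_ct (LP (LK LD1_c26 LD2_c15 LD3_c26)) = (LP (LK LD1_c16 LD2_c17 LD3_c33)) :=
  Lre_c IH (LK LD1_c26 LD2_c15 LD3_c26) (LK LD1_c16 LD2_c17 LD3_c33) Lrfl Lrfl
theorem f280142 : Led Lsl_dt (LP (LK LD1_c32 LD2_c6 LD3_c30)) = (LP (LK LD1_c26 LD2_c15 LD3_c26)) :=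
  Lre_d IH (LK LD1_c32 LD2_c6 LD3_c30) (LK LD1_c26 LD2_c15 LD3_c26) Lrfl Lrfl
theorem f172826 : Led Lsl_dt (LP (LK LD1_c11 LD2_c15 LD3_c41)) = (LP (LK LD1_c20 LD2_c11 LD3_c9)) :=
  Lre_d IH (LK LD1_c11 LD2_c15 LD3_c41) (LK LD1_c20 LD2_c11 LD3_c9) Lrfl Lrfl
theorem f280148 : Led Lsl_ft (LP (LK LD1_c20 LD2_c11 LD3_c9)) = (LP (LK LD1_c26 LD2_c15 LD3_c38)) :=
  Lgr Lrot54 (Lpe (f172826 IH) (Lpr_ff (K16.f280138 IH) (Lpe (K51.f237242 IH) (Lpn (LP (LK LD1_c26 LD2_c15 LD3_c38))))))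
theorem f280257 : Led Lsl_gt (LP (LK LD1_c20 LD2_c11 LD3_c9)) = (LP (LK LD1_c29 LD2_c20 LD3_c49)) :=
  Lre_g IH (LK LD1_c20 LD2_c11 LD3_c9) (LK LD1_c29 LD2_c20 LD3_c49) Lrfl Lrfl
theorem f280172 : Led Lsl_at (LP (LK LD1_c26 LD2_c15 LD3_c38)) = (LP (LK LD1_c32 LD2_c6 LD3_c30)) :=
  Lre_a IH (LK LD1_c26 LD2_c15 LD3_c38) (LK LD1_c32 LD2_c6 LD3_c30) Lrfl Lrfl
theorem f280258 : Led Lsl_gt (LP (LK LD1_c29 LD2_c20 LD3_c49)) = (LP (LK LD1_c32 LD2_c6 LD3_c30)) :=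
  Lgr Lrot46 (Lpe (f280257 IH) (Lpr_ft (f280148 IH) (Lpr_at (f280172 IH) (Lpn (LP (LK LD1_c32 LD2_c6 LD3_c30))))))
theorem f392965 : Led Lsl_ft (LP (LK LD1_c29 LD2_c20 LD3_c50)) = (LP (LK LD1_c31 LD2_c59 LD3_c48)) :=
  Lgr Lrot75 (Lpr_bf (K31.f392941 IH) (Lpr_ff (K31.f392963 IH) (Lpe (K51.f388730 IH) (Lpn (LP (LK LD1_c31 LD2_c59 LD3_c48))))))
theorem f392985 : Led Lsl_af (LP (LK LD1_c29 LD2_c20 LD3_c49)) = (LP (LK LD1_c31 LD2_c59 LD3_c48)) :=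
  Lgr Lrot31 (Lpe (f280257 IH) (Lpe (K31.f172814 IH) (Lpr_ft (f392965 IH) (Lpn (LP (LK LD1_c31 LD2_c59 LD3_c48))))))
theorem f392987 : Led Lsl_at (LP (LK LD1_c29 LD2_c20 LD3_c49)) = (LP (LK LD1_c31 LD2_c59 LD3_c48)) :=
  Lgr Lrot100 (Lpr_af (f392985 IH) (Lpn (LP (LK LD1_c31 LD2_c59 LD3_c48))))
theorem f398645 : Led Lsl_ff (LP (LK LD1_c29 LD2_c20 LD3_c49)) = (LP (LK LD1_c32 LD2_c6 LD3_c35)) :=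
  Lgr Lrot30 (Lpr_at (f392987 IH) (Lpe (K31.f392975 IH) (Lpr_at (K31.f398630 IH) (Lpn (LP (LK LD1_c32 LD2_c6 LD3_c35))))))
theorem f398647 : Led Lsl_ft (LP (LK LD1_c29 LD2_c20 LD3_c49)) = (LP (LK LD1_c32 LD2_c6 LD3_c35)) :=
  Lgr Lrot48 (Lpr_ff (f398645 IH) (Lpn (LP (LK LD1_c32 LD2_c6 LD3_c35))))
theorem f398661 : Led Lsl_dt (LP (LK LD1_c27 LD2_c39 LD3_c56)) = (LP (LK LD1_c29 LD2_c20 LD3_c49)) :=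
  Lgr Lrot60 (Lpr_ff (K31.f398657 IH) (Lpr_df (K31.f398473 IH) (Lpe (f398647 IH) (Lpn (LP (LK LD1_c29 LD2_c20 LD3_c49))))))
theorem f417995 : Led Lsl_df (LP (LK LD1_c14 LD2_c57 LD3_c34)) = (LP (LK LD1_c17 LD2_c54 LD3_c27)) :=
  Lgr Lrot153 (Lpr_gt (K66.f417993 IH) (Lpr_dt (K17.f280110 IH) (Lpe (f280141 IH) (Lpe (f280142 IH) (Lpe (f280258 IH) (Lpe (f398661 IH) (Lpe (K31.f236502 IH) (Lpe (K31.f236501 IH) (Lpr_gt (K66.f182337 IH) (Lpn (LP (LK LD1_c17 LD2_c54 LD3_c27))))))))))))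
theorem f579967 : Led Lsl_at (LP (LK LD1_c16 LD2_c17 LD3_c30)) = (LP (LK LD1_c17 LD2_c54 LD3_c27)) :=
  Lgr Lrot51 (Lpe (K51.f237575 IH) (Lpr_af (K66.f579965 IH) (Lpr_df (f417995 IH) (Lpn (LP (LK LD1_c17 LD2_c54 LD3_c27))))))
theorem f579989 : Led Lsl_ff (LP (LK LD1_c16 LD2_c17 LD3_c30)) = (LP (LK LD1_c17 LD2_c54 LD3_c28)) :=
  Lgr Lrot30 (Lpr_at (f579967 IH) (Lpe (K66.f579973 IH) (Lpr_at (K66.f579981 IH) (Lpn (LP (LK LD1_c17 LD2_c54 LD3_c28))))))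
theorem f579995 : Led Lsl_ft (LP (LK LD1_c16 LD2_c17 LD3_c30)) = (LP (LK LD1_c17 LD2_c54 LD3_c28)) :=
  Lgr Lrot48 (Lpr_ff (f579989 IH) (Lpn (LP (LK LD1_c17 LD2_c54 LD3_c28))))
theorem f580001 : Led Lsl_ff (LP (LK LD1_c8 LD2_c41 LD3_c54)) = (LP (LK LD1_c14 LD2_c57 LD3_c35)) :=
  Lgr Lrot19 (Lpr_dt (K51.f237575 IH) (Lpr_ft (f579995 IH) (Lpe (K66.f397433 IH) (Lpn (LP (LK LD1_c14 LD2_c57 LD3_c35))))))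
theorem f738715 : Led Lsl_ft (LP (LK LD1_c16 LD2_c17 LD3_c29)) = (LP (LK LD1_c9 LD2_c39 LD3_c7)) :=
  Lgr Lrot75 (Lpe (K38.f237572 IH) (Lpr_ff (f580001 IH) (Lpr_bf (K66.f738707 IH) (Lpn (LP (LK LD1_c9 LD2_c39 LD3_c7))))))
theorem f738719 : Led Lsl_ff (LP (LK LD1_c16 LD2_c17 LD3_c29)) = (LP (LK LD1_c9 LD2_c39 LD3_c7)) :=
  Lgr Lrot3 (Lpr_ft (f738715 IH) (Lpn (LP (LK LD1_c9 LD2_c39 LD3_c7))))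
theorem f884520 : Led Lsl_ct (LP (LK LD1_c16 LD2_c17 LD3_c29)) = v36285 :=
  Lgr Lrot40 (Lpr_ff (f738719 IH) (Lpe (K66.f738711 IH) (Lpr_ff (f884518 IH) (Lpn v36285))))
theorem f237484 : Led Lsl_bt (LP (LK LD1_c16 LD2_c17 LD3_c29)) = (LP (LK LD1_c8 LD2_c41 LD3_c54)) :=
  Lre_b IH (LK LD1_c16 LD2_c17 LD3_c29) (LK LD1_c8 LD2_c41 LD3_c54) Lrfl Lrfl
theorem f236684 : Led Lsl_ct (LP (LK LD1_c15 LD2_c39 LD3_c47)) = (LP (LK LD1_c8 LD2_c19 LD3_c32)) :=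
  Lre_c IH (LK LD1_c15 LD2_c39 LD3_c47) (LK LD1_c8 LD2_c19 LD3_c32) Lrfl Lrfl
theorem f884524 : Led Lsl_gt (LP (LK LD1_c9 LD2_c38 LD3_c19)) = (LP (LK LD1_c15 LD2_c39 LD3_c47)) :=
  Lgr Lrot82 (Lpe (K52.f605807 IH) (Lpr_ct (K52.f718459 IH) (Lpr_gf (f884522 IH) (Lpe (f884520 IH) (Lpr_bt (f237484 IH) (Lpe (K41.f280114 IH) (Lpr_bf (K16.f241665 IH) (Lpr_ct (K16.f279969 IH) (Lpe (K38.f279989 IH) (Lpe (f236684 IH) (Lpn (LP (LK LD1_c15 LD2_c39 LD3_c47)))))))))))))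
theorem f884525 : Led Lsl_gt (LP (LK LD1_c9 LD2_c38 LD3_c19)) = (LP (LK LD1_c15 LD2_c39 LD3_c47)) :=
  Leop (Lpe (f884524 IH) (Lpn (LP (LK LD1_c9 LD2_c38 LD3_c19))))
theorem seed_2092 : LEOK LG_g (LK LD1_c9 LD2_c38 LD3_c19) :=
  Leoe_g (LK LD1_c9 LD2_c38 LD3_c19) (f884525 IH)
def v36286 : LQ := Led Lsl_dt (LP (LK LD1_c8 LD2_c23 LD3_c12))
theorem f884526 : Led Lsl_dt (LP (LK LD1_c8 LD2_c23 LD3_c12)) = v36286 :=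
  Lrfl
theorem f422690 : Led Lsl_dt (LP (LK LD1_c8 LD2_c35 LD3_c25)) = (LP (LK LD1_c8 LD2_c35 LD3_c20)) :=
  Lgr Lrot27 (Lpr_cf (K50.f279231 IH) (Lpe (K54.f2361 IH) (Lpe (K49.f2360 IH) (Lpe (K38.f2752 IH) (Lpe (K0.f2275 IH) (Lpr_gt (K30.f2189 IH) (Lpr_ct (K30.f2190 IH) (Lpr_gt (K54.f421777 IH) (Lpr_ct (K52.f421836 IH) (Lpn (LP (LK LD1_c8 LD2_c35 LD3_c20))))))))))))
theorem f1764 : Led Lsl_gt (LP (LK LD1_c9 LD2_c36 LD3_c13)) = (LP (LK LD1_c17 LD2_c40 LD3_c48)) :=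
  Lre_g IH (LK LD1_c9 LD2_c36 LD3_c13) (LK LD1_c17 LD2_c40 LD3_c48) Lrfl Lrfl
theorem f263848 : Led Lsl_dt (LP (LK LD1_c17 LD2_c40 LD3_c48)) = (LP (LK LD1_c15 LD2_c48 LD3_c53)) :=
  Lgr Lrot42 (Lpr_df (K39.f263795 IH) (Lpn (LP (LK LD1_c15 LD2_c48 LD3_c53))))
theorem f884529 : Led Lsl_ct (LP (LK LD1_c15 LD2_c48 LD3_c53)) = v36286 :=
  Lgr Lrot7 (Lpe (f263848 IH) (Lpe (f1764 IH) (Lpe (K35.f2036 IH) (Lpe (K30.f170114 IH) (Lpe (K30.f52134 IH) (Lpe (K50.f398146 IH) (Lpr_dt (f422690 IH) (Lpr_gt (K67.f718453 IH) (Lpq (K67.f883007 IH) (Lpr_dt (f884526 IH) (Lpn v36286)))))))))))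
theorem f692301 : Led Lsl_at (LP (LK LD1_c4 LD2_c11 LD3_c48)) = (LP (LK LD1_c8 LD2_c23 LD3_c12)) :=
  Lre_a IH (LK LD1_c4 LD2_c11 LD3_c48) (LK LD1_c8 LD2_c23 LD3_c12) Lrfl Lrfl
theorem f170967 : Led Lsl_dt (LP (LK LD1_c8 LD2_c23 LD3_c14)) = (LP (LK LD1_c4 LD2_c11 LD3_c48)) :=
  Lre_d IH (LK LD1_c8 LD2_c23 LD3_c14) (LK LD1_c4 LD2_c11 LD3_c48) Lrfl Lrfl
theorem f884527 : Led Lsl_af (LP (LK LD1_c8 LD2_c23 LD3_c14)) = v36286 :=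
  Lgr Lrot117 (Lpr_dt (f170967 IH) (Lpr_at (f692301 IH) (Lpr_dt (f884526 IH) (Lpn v36286))))
theorem f884531 : Led Lsl_af (LP (LK LD1_c15 LD2_c48 LD3_c53)) = (LP (LK LD1_c15 LD2_c43 LD3_c9)) :=
  Lgr Lrot68 (Lpr_ct (f884529 IH) (Lpe (f884527 IH) (Lpe (K38.f400522 IH) (Lpn (LP (LK LD1_c15 LD2_c43 LD3_c9))))))
theorem f884532 : Led Lsl_at (LP (LK LD1_c15 LD2_c43 LD3_c9)) = (LP (LK LD1_c15 LD2_c48 LD3_c53)) :=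
  Leop (Lpr_af (f884531 IH) (Lpn (LP (LK LD1_c15 LD2_c43 LD3_c9))))
theorem seed_2093 : LEOK LG_a (LK LD1_c15 LD2_c43 LD3_c9) :=
  Leoe_a (LK LD1_c15 LD2_c43 LD3_c9) (f884532 IH)
theorem f884535 : Led Lsl_at (LP (LK LD1_c17 LD2_c40 LD3_c48)) = (LP (LK LD1_c9 LD2_c36 LD3_c10)) :=
  Lgr Lrot51 (Lpr_df (K39.f263795 IH) (Lpr_af (f884531 IH) (Lpe (K38.f400556 IH) (Lpn (LP (LK LD1_c9 LD2_c36 LD3_c10))))))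
theorem f884539 : Led Lsl_ff (LP (LK LD1_c17 LD2_c40 LD3_c48)) = (LP (LK LD1_c9 LD2_c36 LD3_c9)) :=
  Lgr Lrot52 (Lpr_at (f884535 IH) (Lpe (K38.f2007 IH) (Lpe (K67.f2008 IH) (Lpn (LP (LK LD1_c9 LD2_c36 LD3_c9))))))
theorem f884542 : Led Lsl_ft (LP (LK LD1_c17 LD2_c40 LD3_c48)) = (LP (LK LD1_c9 LD2_c36 LD3_c9)) :=
  Lgr Lrot48 (Lpr_ff (f884539 IH) (Lpn (LP (LK LD1_c9 LD2_c36 LD3_c9))))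
theorem f2030 : Led Lsl_gt (LP (LK LD1_c9 LD2_c36 LD3_c8)) = (LP (LK LD1_c17 LD2_c40 LD3_c47)) :=
  Lre_g IH (LK LD1_c9 LD2_c36 LD3_c8) (LK LD1_c17 LD2_c40 LD3_c47) Lrfl Lrfl
theorem f884545 : Led Lsl_af (LP (LK LD1_c17 LD2_c40 LD3_c47)) = (LP (LK LD1_c9 LD2_c36 LD3_c9)) :=
  Lgr Lrot31 (Lpe (f2030 IH) (Lpe (K39.f2257 IH) (Lpr_ft (f884542 IH) (Lpn (LP (LK LD1_c9 LD2_c36 LD3_c9))))))
theorem f884537 : Led Lsl_af (LP (LK LD1_c17 LD2_c40 LD3_c48)) = (LP (LK LD1_c9 LD2_c36 LD3_c10)) :=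
  Lgr Lrot0 (Lpr_at (f884535 IH) (Lpn (LP (LK LD1_c9 LD2_c36 LD3_c10))))
theorem f884549 : Led Lsl_ft (LP (LK LD1_c17 LD2_c40 LD3_c47)) = (LP (LK LD1_c9 LD2_c36 LD3_c10)) :=
  Lgr Lrot101 (Lpr_af (f884545 IH) (Lpe (f884542 IH) (Lpr_af (f884537 IH) (Lpn (LP (LK LD1_c9 LD2_c36 LD3_c10))))))
theorem f884553 : Led Lsl_ff (LP (LK LD1_c17 LD2_c40 LD3_c47)) = (LP (LK LD1_c9 LD2_c36 LD3_c10)) :=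
  Lgr Lrot3 (Lpr_ft (f884549 IH) (Lpn (LP (LK LD1_c9 LD2_c36 LD3_c10))))
theorem f399288 : Led Lsl_bt (LP (LK LD1_c17 LD2_c40 LD3_c47)) = (LP (LK LD1_c27 LD2_c28 LD3_c18)) :=
  Lre_b IH (LK LD1_c17 LD2_c40 LD3_c47) (LK LD1_c27 LD2_c28 LD3_c18) Lrfl Lrfl
theorem f884555 : Led Lsl_ft (LP (LK LD1_c27 LD2_c28 LD3_c18)) = (LP (LK LD1_c17 LD2_c40 LD3_c54)) :=
  Lgr Lrot75 (Lpe (f399288 IH) (Lpr_ff (f884553 IH) (Lpe (K38.f1809 IH) (Lpn (LP (LK LD1_c17 LD2_c40 LD3_c54))))))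
theorem f1765 : Led Lsl_gt (LP (LK LD1_c17 LD2_c40 LD3_c47)) = (LP (LK LD1_c9 LD2_c36 LD3_c13)) :=
  Lre_g IH (LK LD1_c17 LD2_c40 LD3_c47) (LK LD1_c9 LD2_c36 LD3_c13) Lrfl Lrfl
theorem f1766 : Led Lsl_bt (LP (LK LD1_c27 LD2_c28 LD3_c18)) = (LP (LK LD1_c17 LD2_c40 LD3_c47)) :=
  Lre_b IH (LK LD1_c27 LD2_c28 LD3_c18) (LK LD1_c17 LD2_c40 LD3_c47) Lrfl Lrfl
theorem f394428 : Led Lsl_bt (LP (LK LD1_c25 LD2_c28 LD3_c54)) = (LP (LK LD1_c25 LD2_c32 LD3_c61)) :=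
  Lgr Lrot127 (Lpr_bf (K38.f394423 IH) (Lpn (LP (LK LD1_c25 LD2_c32 LD3_c61))))
theorem f233384 : Led Lsl_gt (LP (LK LD1_c15 LD2_c34 LD3_c47)) = (LP (LK LD1_c25 LD2_c28 LD3_c52)) :=
  Lre_g IH (LK LD1_c15 LD2_c34 LD3_c47) (LK LD1_c25 LD2_c28 LD3_c52) Lrfl Lrfl
theorem f399286 : Led Lsl_ct (LP (LK LD1_c27 LD2_c28 LD3_c18)) = (LP (LK LD1_c25 LD2_c28 LD3_c52)) :=
  Lgr Lrot10 (Lpr_bt (f1766 IH) (Lpr_gt (f1765 IH) (Lpr_ct (K35.f2035 IH) (Lpr_gt (K39.f2075 IH) (Lpe (K39.f399284 IH) (Lpr_bt (K39.f399281 IH) (Lpr_gt (K38.f399279 IH) (Lpe (f394428 IH) (Lpr_ct (K30.f233389 IH) (Lpr_gt (f233384 IH) (Lpn (LP (LK LD1_c25 LD2_c28 LD3_c52)))))))))))))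
theorem f399289 : Led Lsl_cf (LP (LK LD1_c27 LD2_c28 LD3_c18)) = (LP (LK LD1_c25 LD2_c28 LD3_c52)) :=
  Lgr Lrot11 (Lpr_ct (f399286 IH) (Lpn (LP (LK LD1_c25 LD2_c28 LD3_c52))))
theorem f884557 : Led Lsl_ff (LP (LK LD1_c25 LD2_c28 LD3_c52)) = (LP (LK LD1_c17 LD2_c40 LD3_c17)) :=
  Lgr Lrot23 (Lpe (f399289 IH) (Lpr_ft (f884555 IH) (Lpr_ct (K38.f400458 IH) (Lpn (LP (LK LD1_c17 LD2_c40 LD3_c17))))))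
theorem f232636 : Led Lsl_dt (LP (LK LD1_c17 LD2_c40 LD3_c19)) = (LP (LK LD1_c9 LD2_c35 LD3_c56)) :=
  Lre_d IH (LK LD1_c17 LD2_c40 LD3_c19) (LK LD1_c9 LD2_c35 LD3_c56) Lrfl Lrfl
theorem f275 : Led Lsl_dt (LP (LK LD1_c9 LD2_c34 LD3_c27)) = (LP (LK LD1_c17 LD2_c37 LD3_c48)) :=
  Lre_d IH (LK LD1_c9 LD2_c34 LD3_c27) (LK LD1_c17 LD2_c37 LD3_c48) Lrfl Lrfl
theorem f400795 : Led Lsl_gf (LP (LK LD1_c17 LD2_c40 LD3_c19)) = (LP (LK LD1_c25 LD2_c28 LD3_c51)) :=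
  Lgr Lrot148 (Lpr_dt (f232636 IH) (Lpr_gt (K41.f232621 IH) (Lpr_dt (K38.f232616 IH) (Lpr_ct (K38.f400787 IH) (Lpe (f275 IH) (Lpe (K38.f274 IH) (Lpe (K38.f255659 IH) (Lpe (K38.f232952 IH) (Lpe (K38.f400363 IH) (Lpn (LP (LK LD1_c25 LD2_c28 LD3_c51))))))))))))
theorem f884563 : Led Lsl_at (LP (LK LD1_c25 LD2_c28 LD3_c52)) = (LP (LK LD1_c17 LD2_c40 LD3_c19)) :=
  Lgr Lrot26 (Lpr_ff (f884557 IH) (Lpe (K38.f400369 IH) (Lpe (f400795 IH) (Lpn (LP (LK LD1_c17 LD2_c40 LD3_c19))))))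
theorem f399291 : Led Lsl_dt (LP (LK LD1_c15 LD2_c37 LD3_c39)) = (LP (LK LD1_c25 LD2_c28 LD3_c52)) :=
  Lgr Lrot182 (Lpe (K52.f232911 IH) (Lpe (K52.f232910 IH) (Lpe (K9.f53422 IH) (Lpe (K13.f167272 IH) (Lpe (K19.f311290 IH) (Lpr_bf (K19.f311278 IH) (Lpe (K15.f169152 IH) (Lpe (K16.f184249 IH) (Lpe (K14.f169420 IH) (Lpe (K12.f170113 IH) (Lpe (K9.f167306 IH) (Lpe (K9.f170111 IH) (Lpr_gf (K9.f170069 IH) (Lpe (K20.f2221 IH) (Lpe (K49.f2712 IH) (Lpe (K49.f2713 IH) (Lpe (f1765 IH) (Lpe (f1766 IH) (Lpr_cf (f399289 IH) (Lpn (LP (LK LD1_c25 LD2_c28 LD3_c52))))))))))))))))))))))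
theorem f884569 : Led Lsl_af (LP (LK LD1_c15 LD2_c37 LD3_c39)) = (LP (LK LD1_c9 LD2_c35 LD3_c56)) :=
  Lgr Lrot117 (Lpr_dt (f399291 IH) (Lpr_at (f884563 IH) (Lpr_dt (f232636 IH) (Lpn (LP (LK LD1_c9 LD2_c35 LD3_c56))))))
theorem f884577 : Led Lsl_ft (LP (LK LD1_c15 LD2_c37 LD3_c40)) = (LP (LK LD1_c9 LD2_c35 LD3_c56)) :=
  Lgr Lrot2 (Lpr_gt (K49.f233266 IH) (Lpr_gt (K52.f232911 IH) (Lpr_af (f884569 IH) (Lpn (LP (LK LD1_c9 LD2_c35 LD3_c56))))))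
theorem f884587 : Led Lsl_ff (LP (LK LD1_c15 LD2_c37 LD3_c40)) = (LP (LK LD1_c9 LD2_c35 LD3_c56)) :=
  Lgr Lrot3 (Lpr_ft (f884577 IH) (Lpn (LP (LK LD1_c9 LD2_c35 LD3_c56))))
theorem f257925 : Led Lsl_bt (LP (LK LD1_c15 LD2_c37 LD3_c40)) = (LP (LK LD1_c25 LD2_c32 LD3_c41)) :=
  Lre_b IH (LK LD1_c15 LD2_c37 LD3_c40) (LK LD1_c25 LD2_c32 LD3_c41) Lrfl Lrfl
theorem f232640 : Led Lsl_bt (LP (LK LD1_c17 LD2_c40 LD3_c18)) = (LP (LK LD1_c9 LD2_c35 LD3_c56)) :=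
  Lre_b IH (LK LD1_c17 LD2_c40 LD3_c18) (LK LD1_c9 LD2_c35 LD3_c56) Lrfl Lrfl
theorem f884589 : Led Lsl_ft (LP (LK LD1_c25 LD2_c32 LD3_c41)) = (LP (LK LD1_c17 LD2_c40 LD3_c18)) :=
  Lgr Lrot75 (Lpe (f257925 IH) (Lpr_ff (f884587 IH) (Lpe (f232640 IH) (Lpn (LP (LK LD1_c17 LD2_c40 LD3_c18))))))
theorem f200101 : Led Lsl_bf (LP (LK LD1_c16 LD2_c14 LD3_c33)) = (LP (LK LD1_c17 LD2_c38 LD3_c60)) :=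
  Lgr Lrot81 (Lpr_at (K52.f200100 IH) (Lpr_bt (K49.f39061 IH) (Lpr_at (K13.f200096 IH) (Lpr_bt (K13.f200022 IH) (Lpr_at (K52.f200006 IH) (Lpn (LP (LK LD1_c17 LD2_c38 LD3_c60))))))))
theorem f232204 : Led Lsl_gt (LP (LK LD1_c9 LD2_c34 LD3_c51)) = (LP (LK LD1_c17 LD2_c38 LD3_c28)) :=
  Lre_g IH (LK LD1_c9 LD2_c34 LD3_c51) (LK LD1_c17 LD2_c38 LD3_c28) Lrfl Lrfl
theorem f236065 : Led Lsl_ct (LP (LK LD1_c17 LD2_c38 LD3_c28)) = (LP (LK LD1_c27 LD2_c26 LD3_c33)) :=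
  Lre_c IH (LK LD1_c17 LD2_c38 LD3_c28) (LK LD1_c27 LD2_c26 LD3_c33) Lrfl Lrfl
theorem f620424 : Led Lsl_dt (LP (LK LD1_c31 LD2_c55 LD3_c57)) = (LP (LK LD1_c27 LD2_c26 LD3_c33)) :=
  Lgr Lrot27 (Lpe (K52.f372641 IH) (Lpe (K52.f372638 IH) (Lpe (K49.f234736 IH) (Lpe (K49.f167263 IH) (Lpr_df (K49.f620416 IH) (Lpr_gt (K38.f236064 IH) (Lpe (K38.f236052 IH) (Lpr_gt (f232204 IH) (Lpr_ct (f236065 IH) (Lpn (LP (LK LD1_c27 LD2_c26 LD3_c33))))))))))))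
theorem f327852 : Led Lsl_ft (LP (LK LD1_c9 LD2_c34 LD3_c51)) = (LP (LK LD1_c8 LD2_c17 LD3_c2)) :=
  Lgr Lrot75 (Lpe (K38.f232203 IH) (Lpr_ff (K21.f327850 IH) (Lpe (K27.f220072 IH) (Lpn (LP (LK LD1_c8 LD2_c17 LD3_c2))))))
theorem f327812 : Led Lsl_at (LP (LK LD1_c8 LD2_c17 LD3_c2)) = (LP (LK LD1_c15 LD2_c34 LD3_c46)) :=
  Lre_a IH (LK LD1_c8 LD2_c17 LD3_c2) (LK LD1_c15 LD2_c34 LD3_c46) Lrfl Lrfl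
theorem f401667 : Led Lsl_gt (LP (LK LD1_c17 LD2_c38 LD3_c28)) = (LP (LK LD1_c15 LD2_c34 LD3_c46)) :=
  Lgr Lrot46 (Lpe (f232204 IH) (Lpr_ft (f327852 IH) (Lpr_at (f327812 IH) (Lpn (LP (LK LD1_c15 LD2_c34 LD3_c46))))))
theorem f620447 : Led Lsl_dt (LP (LK LD1_c25 LD2_c32 LD3_c43)) = (LP (LK LD1_c17 LD2_c38 LD3_c28)) :=
  Lgr Lrot115 (Lpe (K49.f233348 IH) (Lpr_ct (K49.f620431 IH) (Lpe (K49.f372997 IH) (Lpr_dt (K27.f369322 IH) (Lpr_gt (K30.f372974 IH) (Lpr_dt (K38.f400351 IH) (Lpe (K38.f400363 IH) (Lpe (K49.f349622 IH) (Lpe (f401667 IH) (Lpn (LP (LK LD1_c17 LD2_c38 LD3_c28))))))))))))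
theorem f257930 : Led Lsl_dt (LP (LK LD1_c8 LD2_c18 LD3_c32)) = (LP (LK LD1_c15 LD2_c37 LD3_c42)) :=
  Lre_d IH (LK LD1_c8 LD2_c18 LD3_c32) (LK LD1_c15 LD2_c37 LD3_c42) Lrfl Lrfl
theorem f234688 : Led Lsl_bt (LP (LK LD1_c4 LD2_c9 LD3_c20)) = (LP (LK LD1_c2 LD2_c1 LD3_c61)) :=
  Lre_b IH (LK LD1_c4 LD2_c9 LD3_c20) (LK LD1_c2 LD2_c1 LD3_c61) Lrfl Lrfl
theorem f257905 : Led Lsl_bt (LP (LK LD1_c4 LD2_c8 LD3_c23)) = (LP (LK LD1_c8 LD2_c16 LD3_c51)) :=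
  Lre_b IH (LK LD1_c4 LD2_c8 LD3_c23) (LK LD1_c8 LD2_c16 LD3_c51) Lrfl Lrfl
theorem f257916 : Led Lsl_gt (LP (LK LD1_c8 LD2_c16 LD3_c51)) = (LP (LK LD1_c15 LD2_c34 LD3_c16)) :=
  Lre_g IH (LK LD1_c8 LD2_c16 LD3_c51) (LK LD1_c15 LD2_c34 LD3_c16) Lrfl Lrfl
theorem f257921 : Led Lsl_bt (LP (LK LD1_c25 LD2_c28 LD3_c0)) = (LP (LK LD1_c15 LD2_c34 LD3_c16)) :=
  Lre_b IH (LK LD1_c25 LD2_c28 LD3_c0) (LK LD1_c15 LD2_c34 LD3_c16) Lrfl Lrfl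
theorem f257922 : Led Lsl_cf (LP (LK LD1_c15 LD2_c37 LD3_c40)) = (LP (LK LD1_c25 LD2_c28 LD3_c0)) :=
  Lgr Lrot160 (Lpr_gt (K49.f233266 IH) (Lpe (K49.f167261 IH) (Lpr_bt (f234688 IH) (Lpr_gt (K12.f167241 IH) (Lpr_ct (K15.f167251 IH) (Lpr_gt (K15.f257914 IH) (Lpe (K15.f257906 IH) (Lpr_bt (f257905 IH) (Lpr_gt (f257916 IH) (Lpe (f257921 IH) (Lpn (LP (LK LD1_c25 LD2_c28 LD3_c0)))))))))))))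
theorem f620749 : Led Lsl_gf (LP (LK LD1_c15 LD2_c40 LD3_c10)) = (LP (LK LD1_c25 LD2_c28 LD3_c0)) :=
  Lgr Lrot144 (Lpr_dt (K52.f620623 IH) (Lpr_gt (K52.f620745 IH) (Lpr_dt (f620424 IH) (Lpe (f236065 IH) (Lpe (f620447 IH) (Lpe (K49.f233348 IH) (Lpe (f257930 IH) (Lpe (K49.f233266 IH) (Lpr_cf (f257922 IH) (Lpn (LP (LK LD1_c25 LD2_c28 LD3_c0))))))))))))
theorem f620754 : Led Lsl_gt (LP (LK LD1_c15 LD2_c40 LD3_c23)) = (LP (LK LD1_c25 LD2_c28 LD3_c0)) :=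
  Lgr Lrot5 (Lpe (K50.f620610 IH) (Lpr_at (K50.f620614 IH) (Lpr_gf (f620749 IH) (Lpn (LP (LK LD1_c25 LD2_c28 LD3_c0))))))
theorem f257928 : Led Lsl_ct (LP (LK LD1_c15 LD2_c37 LD3_c40)) = (LP (LK LD1_c25 LD2_c28 LD3_c0)) :=
  Lgr Lrot59 (Lpr_cf (f257922 IH) (Lpn (LP (LK LD1_c25 LD2_c28 LD3_c0))))
theorem f716498 : Led Lsl_gt (LP (LK LD1_c25 LD2_c32 LD3_c41)) = (LP (LK LD1_c17 LD2_c40 LD3_c35)) :=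
  Lgr Lrot82 (Lpe (f257925 IH) (Lpr_ct (f257928 IH) (Lpe (f620754 IH) (Lpr_cf (K52.f620733 IH) (Lpr_bt (K49.f200122 IH) (Lpe (K49.f200118 IH) (Lpr_bf (f200101 IH) (Lpe (K52.f200007 IH) (Lpr_gf (K52.f199961 IH) (Lpr_cf (K52.f716486 IH) (Lpn (LP (LK LD1_c17 LD2_c40 LD3_c35)))))))))))))
theorem f232644 : Led Lsl_at (LP (LK LD1_c17 LD2_c40 LD3_c18)) = (LP (LK LD1_c27 LD2_c27 LD3_c53)) :=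
  Lre_a IH (LK LD1_c17 LD2_c40 LD3_c18) (LK LD1_c27 LD2_c27 LD3_c53) Lrfl Lrfl
theorem f884698 : Led Lsl_gt (LP (LK LD1_c17 LD2_c40 LD3_c35)) = (LP (LK LD1_c27 LD2_c27 LD3_c53)) :=
  Lgr Lrot46 (Lpe (f716498 IH) (Lpr_ft (f884589 IH) (Lpr_at (f232644 IH) (Lpn (LP (LK LD1_c27 LD2_c27 LD3_c53))))))
theorem f716491 : Led Lsl_ct (LP (LK LD1_c11 LD2_c52 LD3_c6)) = (LP (LK LD1_c17 LD2_c40 LD3_c35)) :=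
  Lgr Lrot59 (Lpr_cf (K52.f716486 IH) (Lpn (LP (LK LD1_c17 LD2_c40 LD3_c35))))
theorem f406025 : Led Lsl_gt (LP (LK LD1_c15 LD2_c45 LD3_c35)) = (LP (LK LD1_c8 LD2_c22 LD3_c31)) :=
  Lre_g IH (LK LD1_c15 LD2_c45 LD3_c35) (LK LD1_c8 LD2_c22 LD3_c31) Lrfl Lrfl
theorem f406026 : Led Lsl_bt (LP (LK LD1_c25 LD2_c42 LD3_c12)) = (LP (LK LD1_c15 LD2_c45 LD3_c35)) :=
  Lre_b IH (LK LD1_c25 LD2_c42 LD3_c12) (LK LD1_c15 LD2_c45 LD3_c35) Lrfl Lrfl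
theorem f884702 : Led Lsl_ct (LP (LK LD1_c25 LD2_c42 LD3_c12)) = (LP (LK LD1_c27 LD2_c27 LD3_c53)) :=
  Lgr Lrot63 (Lpr_bt (f406026 IH) (Lpr_gt (f406025 IH) (Lpe (K49.f304491 IH) (Lpr_ct (K19.f304511 IH) (Lpe (K20.f304502 IH) (Lpe (K9.f29051 IH) (Lpr_bt (K11.f29110 IH) (Lpr_gt (K52.f29096 IH) (Lpr_ct (f716491 IH) (Lpr_gt (f884698 IH) (Lpn (LP (LK LD1_c27 LD2_c27 LD3_c53)))))))))))))
theorem f232646 : Led Lsl_at (LP (LK LD1_c27 LD2_c27 LD3_c53)) = (LP (LK LD1_c17 LD2_c40 LD3_c18)) :=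
  Lre_a IH (LK LD1_c27 LD2_c27 LD3_c53) (LK LD1_c17 LD2_c40 LD3_c18) Lrfl Lrfl
theorem f233244 : Led Lsl_gt (LP (LK LD1_c17 LD2_c40 LD3_c34)) = (LP (LK LD1_c9 LD2_c36 LD3_c2)) :=
  Lre_g IH (LK LD1_c17 LD2_c40 LD3_c34) (LK LD1_c9 LD2_c36 LD3_c2) Lrfl Lrfl
theorem f716455 : Led Lsl_ff (LP (LK LD1_c27 LD2_c27 LD3_c53)) = (LP (LK LD1_c17 LD2_c40 LD3_c34)) :=
  Lgr Lrot52 (Lpr_at (f232646 IH) (Lpr_gf (K52.f716453 IH) (Lpe (f233244 IH) (Lpn (LP (LK LD1_c17 LD2_c40 LD3_c34))))))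
theorem f717458 : Led Lsl_ft (LP (LK LD1_c27 LD2_c27 LD3_c53)) = (LP (LK LD1_c17 LD2_c40 LD3_c34)) :=
  Lgr Lrot48 (Lpr_ff (f716455 IH) (Lpn (LP (LK LD1_c17 LD2_c40 LD3_c34))))
theorem f716471 : Led Lsl_gt (LP (LK LD1_c25 LD2_c39 LD3_c33)) = (LP (LK LD1_c17 LD2_c40 LD3_c34)) :=
  Lgr Lrot5 (Lpr_ft (K52.f716465 IH) (Lpr_at (K52.f233235 IH) (Lpe (f233244 IH) (Lpn (LP (LK LD1_c17 LD2_c40 LD3_c34))))))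
theorem f7977 : Led Lsl_bt (LP (LK LD1_c4 LD2_c17 LD3_c37)) = (LP (LK LD1_c8 LD2_c34 LD3_c12)) :=
  Lre_b IH (LK LD1_c4 LD2_c17 LD3_c37) (LK LD1_c8 LD2_c34 LD3_c12) Lrfl Lrfl
theorem f403477 : Led Lsl_gt (LP (LK LD1_c16 LD2_c5 LD3_c3)) = (LP (LK LD1_c8 LD2_c34 LD3_c12)) :=
  Lre_g IH (LK LD1_c16 LD2_c5 LD3_c3) (LK LD1_c8 LD2_c34 LD3_c12) Lrfl Lrfl
theorem f403478 : Led Lsl_bt (LP (LK LD1_c26 LD2_c2 LD3_c10)) = (LP (LK LD1_c16 LD2_c5 LD3_c3)) :=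
  Lre_b IH (LK LD1_c26 LD2_c2 LD3_c10) (LK LD1_c16 LD2_c5 LD3_c3) Lrfl Lrfl
theorem f716473 : Led Lsl_ct (LP (LK LD1_c26 LD2_c2 LD3_c10)) = (LP (LK LD1_c17 LD2_c40 LD3_c34)) :=
  Lgr Lrot63 (Lpr_bt (f403478 IH) (Lpr_gt (f403477 IH) (Lpe (f7977 IH) (Lpr_ct (K17.f7976 IH) (Lpe (K17.f284110 IH) (Lpe (K11.f199918 IH) (Lpr_bt (K11.f199922 IH) (Lpr_gt (K52.f199999 IH) (Lpr_ct (K52.f200002 IH) (Lpr_gt (f716471 IH) (Lpn (LP (LK LD1_c17 LD2_c40 LD3_c34)))))))))))))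
theorem f716476 : Led Lsl_cf (LP (LK LD1_c26 LD2_c2 LD3_c10)) = (LP (LK LD1_c17 LD2_c40 LD3_c34)) :=
  Lgr Lrot11 (Lpr_ct (f716473 IH) (Lpn (LP (LK LD1_c17 LD2_c40 LD3_c34))))
theorem f884709 : Led Lsl_ff (LP (LK LD1_c25 LD2_c42 LD3_c12)) = (LP (LK LD1_c26 LD2_c2 LD3_c10)) :=
  Lgr Lrot23 (Lpr_ct (f884702 IH) (Lpr_ft (f717458 IH) (Lpe (f716476 IH) (Lpn (LP (LK LD1_c26 LD2_c2 LD3_c10))))))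
theorem f884713 : Led Lsl_ft (LP (LK LD1_c25 LD2_c42 LD3_c12)) = (LP (LK LD1_c26 LD2_c2 LD3_c10)) :=
  Lgr Lrot48 (Lpr_ff (f884709 IH) (Lpn (LP (LK LD1_c26 LD2_c2 LD3_c10))))
theorem f884706 : Led Lsl_bt (LP (LK LD1_c15 LD2_c45 LD3_c35)) = (LP (LK LD1_c25 LD2_c42 LD3_c12)) :=
  Lre_b IH (LK LD1_c15 LD2_c45 LD3_c35) (LK LD1_c25 LD2_c42 LD3_c12) Lrfl Lrfl
theorem f884715 : Led Lsl_ff (LP (LK LD1_c15 LD2_c45 LD3_c35)) = (LP (LK LD1_c16 LD2_c5 LD3_c3)) :=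
  Lgr Lrot25 (Lpr_bt (f884706 IH) (Lpr_ft (f884713 IH) (Lpr_bt (f403478 IH) (Lpn (LP (LK LD1_c16 LD2_c5 LD3_c3))))))
theorem f7978 : Led Lsl_gt (LP (LK LD1_c8 LD2_c34 LD3_c12)) = (LP (LK LD1_c16 LD2_c5 LD3_c2)) :=
  Lre_g IH (LK LD1_c8 LD2_c34 LD3_c12) (LK LD1_c16 LD2_c5 LD3_c2) Lrfl Lrfl
theorem f884717 : Led Lsl_at (LP (LK LD1_c15 LD2_c45 LD3_c35)) = (LP (LK LD1_c16 LD2_c5 LD3_c2)) :=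
  Lgr Lrot26 (Lpr_ff (f884715 IH) (Lpr_gt (f403477 IH) (Lpr_gt (f7978 IH) (Lpn (LP (LK LD1_c16 LD2_c5 LD3_c2))))))
theorem f884591 : Led Lsl_ft (LP (LK LD1_c25 LD2_c28 LD3_c0)) = (LP (LK LD1_c15 LD2_c39 LD3_c13)) :=
  Lgr Lrot4 (Lpe (f257928 IH) (Lpr_ff (f884587 IH) (Lpe (K41.f232622 IH) (Lpn (LP (LK LD1_c15 LD2_c39 LD3_c13))))))
theorem f257926 : Led Lsl_bt (LP (LK LD1_c15 LD2_c34 LD3_c16)) = (LP (LK LD1_c25 LD2_c28 LD3_c0)) :=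
  Lre_b IH (LK LD1_c15 LD2_c34 LD3_c16) (LK LD1_c25 LD2_c28 LD3_c0) Lrfl Lrfl
def v36082 : LQ := Led Lsl_ft (LP (LK LD1_c8 LD2_c19 LD3_c20))
theorem f882114 : Led Lsl_ft (LP (LK LD1_c8 LD2_c19 LD3_c20)) = v36082 :=
  Lrfl
theorem f884613 : (LP (LK LD1_c15 LD2_c34 LD3_c16)) = v36082 :=
  (Llr Lrot61 (Lpr_bt (f257926 IH) (Lpr_ft (f884591 IH) (Lpr_bt (K41.f221809 IH) (Lpr_ft (f882114 IH) (Lpn v36082)))))).symm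
theorem f882116 : Led Lsl_ff (LP (LK LD1_c8 LD2_c19 LD3_c20)) = v36082 :=
  Lgr Lrot3 (Lpr_ft (f882114 IH) (Lpn v36082))
def v36081 : LQ := Led Lsl_at (LP (LK LD1_c8 LD2_c19 LD3_c20))
theorem f882109 : Led Lsl_at (LP (LK LD1_c8 LD2_c19 LD3_c20)) = v36081 :=
  Lrfl
theorem f372866 : Led Lsl_gt (LP (LK LD1_c15 LD2_c34 LD3_c16)) = (LP (LK LD1_c8 LD2_c19 LD3_c22)) :=
  Lgr Lrot164 (Lpe (f257921 IH) (Lpe (f257922 IH) (Lpr_gf (K49.f372864 IH) (Lpe (K50.f232652 IH) (Lpe (K38.f372691 IH) (Lpe (K30.f236746 IH) (Lpr_ct (K30.f236747 IH) (Lpe (K38.f280094 IH) (Lpr_cf (K16.f279914 IH) (Lpe (K17.f282026 IH) (Lpn (LP (LK LD1_c8 LD2_c19 LD3_c22)))))))))))))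
theorem f273820 : Led Lsl_gt (LP (LK LD1_c15 LD2_c34 LD3_c17)) = (LP (LK LD1_c8 LD2_c16 LD3_c51)) :=
  Lre_g IH (LK LD1_c15 LD2_c34 LD3_c17) (LK LD1_c8 LD2_c16 LD3_c51) Lrfl Lrfl
theorem f273821 : Led Lsl_gt (LP (LK LD1_c8 LD2_c19 LD3_c22)) = (LP (LK LD1_c15 LD2_c34 LD3_c17)) :=
  Lgr Lrot5 (Lpr_ft (K17.f273800 IH) (Lpr_at (K41.f258526 IH) (Lpe (f273820 IH) (Lpn (LP (LK LD1_c15 LD2_c34 LD3_c17))))))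
theorem f884628 : v36081 = (LP (LK LD1_c15 LD2_c34 LD3_c17)) :=
  (Llr Lrot26 (Lpe (f882109 IH) (Lpr_ff (f882116 IH) (Lpq (f884613 IH) (Lpr_gt (f372866 IH) (Lpr_gt (f273821 IH) (Lpn (LP (LK LD1_c15 LD2_c34 LD3_c17))))))))).symm
theorem f882110 : Led Lsl_af (LP (LK LD1_c8 LD2_c19 LD3_c20)) = v36081 :=
  Lgr Lrot0 (Lpr_at (f882109 IH) (Lpn v36081))
theorem f273802 : Led Lsl_gt (LP (LK LD1_c8 LD2_c19 LD3_c21)) = (LP (LK LD1_c4 LD2_c9 LD3_c40)) :=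
  Lre_g IH (LK LD1_c8 LD2_c19 LD3_c21) (LK LD1_c4 LD2_c9 LD3_c40) Lrfl Lrfl
theorem f882112 : Led Lsl_ft (LP (LK LD1_c8 LD2_c19 LD3_c21)) = v36081 :=
  Lgr Lrot2 (Lpr_gt (f273802 IH) (Lpr_gt (K41.f221808 IH) (Lpr_af (f882110 IH) (Lpn v36081))))
theorem f273810 : Led Lsl_ct (LP (LK LD1_c15 LD2_c39 LD3_c18)) = (LP (LK LD1_c8 LD2_c19 LD3_c21)) :=
  Lre_c IH (LK LD1_c15 LD2_c39 LD3_c18) (LK LD1_c8 LD2_c19 LD3_c21) Lrfl Lrfl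
theorem f273824 : Led Lsl_ct (LP (LK LD1_c15 LD2_c34 LD3_c17)) = (LP (LK LD1_c25 LD2_c28 LD3_c4)) :=
  Lre_c IH (LK LD1_c15 LD2_c34 LD3_c17) (LK LD1_c25 LD2_c28 LD3_c4) Lrfl Lrfl
theorem f884635 : Led Lsl_ff (LP (LK LD1_c15 LD2_c39 LD3_c18)) = (LP (LK LD1_c25 LD2_c28 LD3_c4)) :=
  Lgr Lrot23 (Lpr_ct (f273810 IH) (Lpr_ft (f882112 IH) (Lpqs (f884628 IH) (Lpr_ct (f273824 IH) (Lpn (LP (LK LD1_c25 LD2_c28 LD3_c4)))))))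
theorem f884654 : Led Lsl_ft (LP (LK LD1_c15 LD2_c39 LD3_c18)) = (LP (LK LD1_c25 LD2_c28 LD3_c4)) :=
  Lgr Lrot48 (Lpr_ff (f884635 IH) (Lpn (LP (LK LD1_c25 LD2_c28 LD3_c4))))
theorem f270790 : Led Lsl_bt (LP (LK LD1_c6 LD2_c4 LD3_c17)) = (LP (LK LD1_c11 LD2_c52 LD3_c1)) :=
  Lre_b IH (LK LD1_c6 LD2_c4 LD3_c17) (LK LD1_c11 LD2_c52 LD3_c1) Lrfl Lrfl
theorem f282049 : Led Lsl_bt (LP (LK LD1_c8 LD2_c19 LD3_c23)) = (LP (LK LD1_c6 LD2_c4 LD3_c20)) :=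
  Lgr Lrot35 (Lpr_ff (K17.f282042 IH) (Lpe (f270790 IH) (Lpe (K16.f270788 IH) (Lpn (LP (LK LD1_c6 LD2_c4 LD3_c20))))))
theorem f304512 : Led Lsl_gt (LP (LK LD1_c8 LD2_c22 LD3_c31)) = (LP (LK LD1_c15 LD2_c45 LD3_c34)) :=
  Lre_g IH (LK LD1_c8 LD2_c22 LD3_c31) (LK LD1_c15 LD2_c45 LD3_c34) Lrfl Lrfl
theorem f304513 : Led Lsl_bt (LP (LK LD1_c15 LD2_c39 LD3_c18)) = (LP (LK LD1_c15 LD2_c45 LD3_c34)) :=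
  Lgr Lrot92 (Lpr_ct (f273810 IH) (Lpr_gt (f273802 IH) (Lpe (K17.f256047 IH) (Lpr_bt (f282049 IH) (Lpe (K15.f232848 IH) (Lpr_ct (K15.f232232 IH) (Lpr_gt (K18.f304498 IH) (Lpe (K19.f304511 IH) (Lpr_bt (K49.f304491 IH) (Lpr_gt (f304512 IH) (Lpn (LP (LK LD1_c15 LD2_c45 LD3_c34)))))))))))))
theorem f304515 : Led Lsl_bf (LP (LK LD1_c15 LD2_c39 LD3_c18)) = (LP (LK LD1_c15 LD2_c45 LD3_c34)) :=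
  Lgr Lrot24 (Lpr_bt (f304513 IH) (Lpn (LP (LK LD1_c15 LD2_c45 LD3_c34))))
theorem f282087 : Led Lsl_cf (LP (LK LD1_c8 LD2_c16 LD3_c51)) = (LP (LK LD1_c11 LD2_c52 LD3_c1)) :=
  Lgr Lrot39 (Lpr_et (K17.f273780 IH) (Lpr_ct (K17.f282078 IH) (Lpr_et (K17.f282056 IH) (Lpn (LP (LK LD1_c11 LD2_c52 LD3_c1))))))
theorem f273825 : Led Lsl_ct (LP (LK LD1_c25 LD2_c28 LD3_c4)) = (LP (LK LD1_c15 LD2_c34 LD3_c17)) :=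
  Lre_c IH (LK LD1_c25 LD2_c28 LD3_c4) (LK LD1_c15 LD2_c34 LD3_c17) Lrfl Lrfl
theorem f284114 : Led Lsl_bt (LP (LK LD1_c25 LD2_c28 LD3_c4)) = (LP (LK LD1_c16 LD2_c5 LD3_c2)) :=
  Lgr Lrot92 (Lpr_ct (f273825 IH) (Lpr_gt (f273820 IH) (Lpr_cf (f282087 IH) (Lpr_bt (K17.f199940 IH) (Lpr_gt (K16.f29027 IH) (Lpr_ct (K9.f29016 IH) (Lpr_gt (K17.f284106 IH) (Lpe (K17.f7976 IH) (Lpr_bt (f7977 IH) (Lpr_gt (f7978 IH) (Lpn (LP (LK LD1_c16 LD2_c5 LD3_c2)))))))))))))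
theorem f884656 : Led Lsl_ff (LP (LK LD1_c15 LD2_c45 LD3_c34)) = (LP (LK LD1_c16 LD2_c5 LD3_c2)) :=
  Lgr Lrot25 (Lpe (f304515 IH) (Lpr_ft (f884654 IH) (Lpr_bt (f284114 IH) (Lpn (LP (LK LD1_c16 LD2_c5 LD3_c2))))))
theorem f884721 : Led Lsl_af (LP (LK LD1_c16 LD2_c5 LD3_c3)) = (LP (LK LD1_c15 LD2_c45 LD3_c34)) :=
  Lgr Lrot45 (Lpe (f884715 IH) (Lpr_at (f884717 IH) (Lpe (f884656 IH) (Lpn (LP (LK LD1_c15 LD2_c45 LD3_c34))))))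
def v36229 : LQ := Led Lsl_at (LP (LK LD1_c8 LD2_c22 LD3_c31))
theorem f882851 : Led Lsl_at (LP (LK LD1_c8 LD2_c22 LD3_c31)) = v36229 :=
  Lrfl
theorem f882855 : Led Lsl_gt (LP (LK LD1_c16 LD2_c5 LD3_c2)) = v36229 :=
  Lgr Lrot46 (Lpe (f7978 IH) (Lpr_ft (K49.f406035 IH) (Lpr_at (f882851 IH) (Lpn v36229))))
theorem f884725 : Led Lsl_gf (LP (LK LD1_c16 LD2_c5 LD3_c3)) = v36229 :=
  Lgr Lrot76 (Lpr_af (f884721 IH) (Lpr_ff (f884656 IH) (Lpr_gt (f882855 IH) (Lpn v36229))))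
theorem f233237 : Led Lsl_cf (LP (LK LD1_c9 LD2_c36 LD3_c2)) = (LP (LK LD1_c15 LD2_c43 LD3_c20)) :=
  Lgr Lrot11 (Lpr_ct (K13.f233232 IH) (Lpn (LP (LK LD1_c15 LD2_c43 LD3_c20))))
theorem f273816 : Led Lsl_ct (LP (LK LD1_c15 LD2_c39 LD3_c20)) = (LP (LK LD1_c8 LD2_c19 LD3_c22)) :=
  Lre_c IH (LK LD1_c15 LD2_c39 LD3_c20) (LK LD1_c8 LD2_c19 LD3_c22) Lrfl Lrfl
theorem f882856 : Led Lsl_bt (LP (LK LD1_c8 LD2_c22 LD3_c41)) = v36229 :=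
  Lgr Lrot92 (Lpr_ct (K41.f171021 IH) (Lpr_gt (K41.f403511 IH) (Lpe (K41.f170212 IH) (Lpr_bt (K41.f188829 IH) (Lpe (K41.f403515 IH) (Lpr_ct (f273816 IH) (Lpr_gt (f273821 IH) (Lpe (f273825 IH) (Lpr_bt (f284114 IH) (Lpr_gt (f882855 IH) (Lpn v36229)))))))))))
theorem f392805 : Led Lsl_ft (LP (LK LD1_c4 LD2_c17 LD3_c47)) = (LP (LK LD1_c4 LD2_c11 LD3_c34)) :=
  Lgr Lrot4 (Lpe (K20.f318720 IH) (Lpr_ff (K41.f390351 IH) (Lpe (K49.f53341 IH) (Lpn (LP (LK LD1_c4 LD2_c11 LD3_c34))))))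
theorem f403513 : Led Lsl_gf (LP (LK LD1_c4 LD2_c11 LD3_c36)) = (LP (LK LD1_c4 LD2_c17 LD3_c47)) :=
  Lgr Lrot47 (Lpr_gt (K41.f403511 IH) (Lpr_af (K50.f392821 IH) (Lpe (f392805 IH) (Lpn (LP (LK LD1_c4 LD2_c17 LD3_c47))))))
theorem f318764 : Led Lsl_gt (LP (LK LD1_c16 LD2_c5 LD3_c50)) = (LP (LK LD1_c8 LD2_c34 LD3_c40)) :=
  Lre_g IH (LK LD1_c16 LD2_c5 LD3_c50) (LK LD1_c8 LD2_c34 LD3_c40) Lrfl Lrfl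
theorem f884726 : Led Lsl_bt (LP (LK LD1_c15 LD2_c43 LD3_c20)) = (LP (LK LD1_c16 LD2_c5 LD3_c50)) :=
  Lgr Lrot130 (Lpe (f233237 IH) (Lpe (f233244 IH) (Lpe (f716473 IH) (Lpr_bt (f403478 IH) (Lpr_gf (f884725 IH) (Lpe (f882856 IH) (Lpr_ct (K41.f171021 IH) (Lpr_gf (f403513 IH) (Lpe (K20.f318720 IH) (Lpe (f318764 IH) (Lpn (LP (LK LD1_c16 LD2_c5 LD3_c50)))))))))))))
theorem f884727 : Led Lsl_bt (LP (LK LD1_c15 LD2_c43 LD3_c20)) = (LP (LK LD1_c16 LD2_c5 LD3_c50)) :=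
  Leop (Lpe (f884726 IH) (Lpn (LP (LK LD1_c15 LD2_c43 LD3_c20))))
theorem seed_2094 : LEOK LG_b (LK LD1_c15 LD2_c43 LD3_c20) :=
  Leoe_b (LK LD1_c15 LD2_c43 LD3_c20) (f884727 IH)
def v36378 : LQ := Led Lsl_ct (LP (LK LD1_c8 LD2_c24 LD3_c38))
theorem f885167 : Led Lsl_ct (LP (LK LD1_c8 LD2_c24 LD3_c38)) = v36378 :=
  Lrfl
def v36357 : LQ := Led Lsl_ft (LP (LK LD1_c8 LD2_c24 LD3_c5))
theorem f885081 : Led Lsl_ft (LP (LK LD1_c8 LD2_c24 LD3_c5)) = v36357 :=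
  Lrfl
theorem f885084 : Led Lsl_ff (LP (LK LD1_c8 LD2_c24 LD3_c5)) = v36357 :=
  Lgr Lrot3 (Lpr_ft (f885081 IH) (Lpn v36357))
theorem f166834 : Led Lsl_ct (LP (LK LD1_c8 LD2_c24 LD3_c5)) = (LP (LK LD1_c4 LD2_c12 LD3_c15)) :=
  Lre_c IH (LK LD1_c8 LD2_c24 LD3_c5) (LK LD1_c4 LD2_c12 LD3_c15) Lrfl Lrfl
theorem f885086 : Led Lsl_ct (LP (LK LD1_c8 LD2_c24 LD3_c8)) = v36357 :=
  Lgr Lrot40 (Lpe (K19.f166930 IH) (Lpe (f166834 IH) (Lpr_ff (f885084 IH) (Lpn v36357))))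
theorem f166859 : Led Lsl_at (LP (LK LD1_c8 LD2_c24 LD3_c5)) = (LP (LK LD1_c4 LD2_c12 LD3_c28)) :=
  Lre_a IH (LK LD1_c8 LD2_c24 LD3_c5) (LK LD1_c4 LD2_c12 LD3_c28) Lrfl Lrfl
theorem f885087 : Led Lsl_gf (LP (LK LD1_c8 LD2_c24 LD3_c37)) = v36357 :=
  Lgr Lrot47 (Lpr_gt (K22.f166874 IH) (Lpe (f166859 IH) (Lpr_ff (f885084 IH) (Lpn v36357))))
theorem f230965 : Led Lsl_bt (LP (LK LD1_c4 LD2_c16 LD3_c45)) = (LP (LK LD1_c4 LD2_c10 LD3_c1)) :=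
  Lgr Lrot127 (Lpr_bf (K12.f230961 IH) (Lpn (LP (LK LD1_c4 LD2_c10 LD3_c1))))
theorem f230967 : Led Lsl_ct (LP (LK LD1_c4 LD2_c16 LD3_c45)) = (LP (LK LD1_c8 LD2_c32 LD3_c46)) :=
  Lre_c IH (LK LD1_c4 LD2_c16 LD3_c45) (LK LD1_c8 LD2_c32 LD3_c46) Lrfl Lrfl
theorem f885173 : Led Lsl_gt (LP (LK LD1_c8 LD2_c32 LD3_c46)) = v36378 :=
  Lgr Lrot65 (Lpe (f230967 IH) (Lpr_bt (f230965 IH) (Lpe (K21.f231234 IH) (Lpr_bf (K22.f331379 IH) (Lpe (K22.f328825 IH) (Lpr_gf (f885087 IH) (Lpe (f885086 IH) (Lpe (K19.f166946 IH) (Lpe (K26.f166952 IH) (Lpr_ct (f885167 IH) (Lpn v36378)))))))))))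
theorem f169364 : Led Lsl_ct (LP (LK LD1_c8 LD2_c32 LD3_c46)) = (LP (LK LD1_c4 LD2_c16 LD3_c45)) :=
  Lre_c IH (LK LD1_c8 LD2_c32 LD3_c46) (LK LD1_c4 LD2_c16 LD3_c45) Lrfl Lrfl
theorem f167509 : Led Lsl_dt (LP (LK LD1_c8 LD2_c35 LD3_c5)) = (LP (LK LD1_c4 LD2_c18 LD3_c4)) :=
  Lre_d IH (LK LD1_c8 LD2_c35 LD3_c5) (LK LD1_c4 LD2_c18 LD3_c4) Lrfl Lrfl
theorem f167510 : Led Lsl_gt (LP (LK LD1_c16 LD2_c6 LD3_c31)) = (LP (LK LD1_c8 LD2_c35 LD3_c5)) :=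
  Lre_g IH (LK LD1_c16 LD2_c6 LD3_c31) (LK LD1_c8 LD2_c35 LD3_c5) Lrfl Lrfl
theorem f885174 : Led Lsl_df (LP (LK LD1_c16 LD2_c6 LD3_c31)) = v36378 :=
  Lgr Lrot153 (Lpr_gt (f167510 IH) (Lpr_dt (f167509 IH) (Lpe (K25.f167494 IH) (Lpr_df (K18.f167480 IH) (Lpe (K23.f167511 IH) (Lpe (K23.f296087 IH) (Lpe (K23.f230976 IH) (Lpe (f169364 IH) (Lpr_gt (f885173 IH) (Lpn v36378))))))))))
theorem f353520 : Led Lsl_ct (LP (LK LD1_c26 LD2_c3 LD3_c34)) = (LP (LK LD1_c16 LD2_c6 LD3_c31)) :=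
  Lre_c IH (LK LD1_c26 LD2_c3 LD3_c34) (LK LD1_c16 LD2_c6 LD3_c31) Lrfl Lrfl
theorem f365557 : Led Lsl_ct (LP (LK LD1_c26 LD2_c0 LD3_c56)) = (LP (LK LD1_c32 LD2_c3 LD3_c11)) :=
  Lre_c IH (LK LD1_c26 LD2_c0 LD3_c56) (LK LD1_c32 LD2_c3 LD3_c11) Lrfl Lrfl
theorem f885179 : Led Lsl_gf (LP (LK LD1_c26 LD2_c3 LD3_c34)) = (LP (LK LD1_c32 LD2_c3 LD3_c11)) :=
  Lgr Lrot104 (Lpr_ct (f353520 IH) (Lpr_df (f885174 IH) (Lpe (f885167 IH) (Lpr_gf (K24.f330818 IH) (Lpe (K19.f309316 IH) (Lpe (K22.f327602 IH) (Lpe (K26.f184426 IH) (Lpe (K27.f365575 IH) (Lpr_ct (f365557 IH) (Lpn (LP (LK LD1_c32 LD2_c3 LD3_c11))))))))))))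
theorem f885180 : Led Lsl_gt (LP (LK LD1_c32 LD2_c3 LD3_c11)) = (LP (LK LD1_c26 LD2_c3 LD3_c34)) :=
  Leop (Lpr_gf (f885179 IH) (Lpn (LP (LK LD1_c32 LD2_c3 LD3_c11))))
theorem seed_2095 : LEOK LG_g (LK LD1_c32 LD2_c3 LD3_c11) :=
  Leoe_g (LK LD1_c32 LD2_c3 LD3_c11) (f885180 IH)
theorem f885178 : Led Lsl_dt (LP (LK LD1_c16 LD2_c6 LD3_c31)) = v36378 :=
  Lgr Lrot42 (Lpr_df (f885174 IH) (Lpn v36378))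
theorem f694143 : Led Lsl_df (LP (LK LD1_c18 LD2_c53 LD3_c42)) = (LP (LK LD1_c28 LD2_c18 LD3_c33)) :=
  Lgr Lrot38 (Lpr_dt (K67.f694138 IH) (Lpn (LP (LK LD1_c28 LD2_c18 LD3_c33))))
theorem f219963 : Led Lsl_dt (LP (LK LD1_c18 LD2_c4 LD3_c25)) = (LP (LK LD1_c18 LD2_c26 LD3_c27)) :=
  Lgr Lrot77 (Lpe (K27.f219962 IH) (Lpr_df (K22.f219958 IH) (Lpe (K54.f219956 IH) (Lpe (K67.f190910 IH) (Lpe (K27.f33268 IH) (Lpn (LP (LK LD1_c18 LD2_c26 LD3_c27))))))))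
theorem f342579 : Led Lsl_cf (LP (LK LD1_c18 LD2_c45 LD3_c52)) = (LP (LK LD1_c18 LD2_c26 LD3_c27)) :=
  Lgr Lrot166 (Lpr_gt (K67.f342575 IH) (Lpr_dt (K67.f282687 IH) (Lpe (K67.f342563 IH) (Lpr_dt (K67.f188430 IH) (Lpr_ct (K15.f188327 IH) (Lpr_df (K9.f50073 IH) (Lpr_gf (K19.f309534 IH) (Lpe (K19.f306459 IH) (Lpe (K67.f309541 IH) (Lpn (LP (LK LD1_c18 LD2_c26 LD3_c27))))))))))))
theorem f48383 : Led Lsl_gt (LP (LK LD1_c5 LD2_c16 LD3_c14)) = (LP (LK LD1_c10 LD2_c22 LD3_c0)) :=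
  Lre_g IH (LK LD1_c5 LD2_c16 LD3_c14) (LK LD1_c10 LD2_c22 LD3_c0) Lrfl Lrfl
theorem f48384 : Led Lsl_gt (LP (LK LD1_c10 LD2_c22 LD3_c0)) = (LP (LK LD1_c10 LD2_c23 LD3_c61)) :=
  Lgr Lrot46 (Lpe (f48383 IH) (Lpr_ft (K10.f48368 IH) (Lpr_at (K10.f32188 IH) (Lpn (LP (LK LD1_c10 LD2_c23 LD3_c61))))))
theorem f330604 : Led Lsl_cf (LP (LK LD1_c10 LD2_c22 LD3_c0)) = (LP (LK LD1_c15 LD2_c32 LD3_c19)) :=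
  Lgr Lrot125 (Lpr_gt (f48384 IH) (Lpe (K10.f32186 IH) (Lpr_bt (K2.f32541 IH) (Lpr_gt (K17.f48709 IH) (Lpe (K23.f32216 IH) (Lpr_ct (K23.f330585 IH) (Lpr_gt (K23.f43314 IH) (Lpe (K13.f43306 IH) (Lpr_bt (K67.f50839 IH) (Lpr_gt (K27.f53470 IH) (Lpn (LP (LK LD1_c15 LD2_c32 LD3_c19)))))))))))))
theorem f48387 : Led Lsl_dt (LP (LK LD1_c10 LD2_c22 LD3_c0)) = (LP (LK LD1_c18 LD2_c48 LD3_c61)) :=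
  Lre_d IH (LK LD1_c10 LD2_c22 LD3_c0) (LK LD1_c18 LD2_c48 LD3_c61) Lrfl Lrfl
theorem f330611 : Led Lsl_ct (LP (LK LD1_c28 LD2_c18 LD3_c23)) = (LP (LK LD1_c18 LD2_c48 LD3_c61)) :=
  Lre_c IH (LK LD1_c28 LD2_c18 LD3_c23) (LK LD1_c18 LD2_c48 LD3_c61) Lrfl Lrfl
theorem f330612 : Led Lsl_gt (LP (LK LD1_c32 LD2_c33 LD3_c28)) = (LP (LK LD1_c28 LD2_c18 LD3_c23)) :=
  Lre_g IH (LK LD1_c32 LD2_c33 LD3_c28) (LK LD1_c28 LD2_c18 LD3_c23) Lrfl Lrfl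
theorem f330561 : Led Lsl_dt (LP (LK LD1_c18 LD2_c56 LD3_c2)) = (LP (LK LD1_c10 LD2_c26 LD3_c19)) :=
  Lre_d IH (LK LD1_c18 LD2_c56 LD3_c2) (LK LD1_c10 LD2_c26 LD3_c19) Lrfl Lrfl
theorem f401460 : Led Lsl_cf (LP (LK LD1_c32 LD2_c33 LD3_c28)) = (LP (LK LD1_c28 LD2_c24 LD3_c16)) :=
  Lgr Lrot169 (Lpr_gt (f330612 IH) (Lpr_ct (f330611 IH) (Lpe (f48387 IH) (Lpr_cf (f330604 IH) (Lpe (K27.f53470 IH) (Lpe (K14.f212454 IH) (Lpr_gf (K67.f330784 IH) (Lpe (f330561 IH) (Lpr_gt (K24.f350712 IH) (Lpn (LP (LK LD1_c28 LD2_c24 LD3_c16))))))))))))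
theorem f342524 : Led Lsl_ct (LP (LK LD1_c32 LD2_c33 LD3_c35)) = (LP (LK LD1_c28 LD2_c18 LD3_c33)) :=
  Lre_c IH (LK LD1_c32 LD2_c33 LD3_c35) (LK LD1_c28 LD2_c18 LD3_c33) Lrfl Lrfl
theorem f694150 : Led Lsl_dt (LP (LK LD1_c32 LD2_c33 LD3_c28)) = (LP (LK LD1_c32 LD2_c33 LD3_c35)) :=
  Lgr Lrot32 (Lpr_cf (f401460 IH) (Lpr_df (K24.f350715 IH) (Lpe (K67.f694009 IH) (Lpe (K67.f694124 IH) (Lpr_cf (f342579 IH) (Lpe (f219963 IH) (Lpr_cf (K67.f331445 IH) (Lpr_df (f694143 IH) (Lpe (f342524 IH) (Lpn (LP (LK LD1_c32 LD2_c33 LD3_c35))))))))))))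
theorem f350731 : Led Lsl_ct (LP (LK LD1_c18 LD2_c31 LD3_c46)) = (LP (LK LD1_c25 LD2_c57 LD3_c61)) :=
  Lgr Lrot7 (Lpe (K24.f307265 IH) (Lpe (K24.f341792 IH) (Lpe (K24.f239637 IH) (Lpr_gf (K24.f309619 IH) (Lpe (K14.f49827 IH) (Lpe (K24.f350704 IH) (Lpr_dt (K24.f350711 IH) (Lpr_gt (K24.f350712 IH) (Lpr_dt (K24.f350723 IH) (Lpn (LP (LK LD1_c25 LD2_c57 LD3_c61))))))))))))
theorem f693935 : Led Lsl_ft (LP (LK LD1_c18 LD2_c9 LD3_c53)) = (LP (LK LD1_c18 LD2_c31 LD3_c46)) :=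
  Lgr Lrot75 (Lpe (K24.f307263 IH) (Lpr_ff (K67.f693931 IH) (Lpe (K24.f307264 IH) (Lpn (LP (LK LD1_c18 LD2_c31 LD3_c46))))))
theorem f694154 : Led Lsl_at (LP (LK LD1_c18 LD2_c31 LD3_c46)) = (LP (LK LD1_c18 LD2_c4 LD3_c25)) :=
  Lgr Lrot33 (Lpe (f693935 IH) (Lpr_dt (K24.f307265 IH) (Lpr_ct (f350731 IH) (Lpe (K24.f350715 IH) (Lpe (f401460 IH) (Lpr_dt (f694150 IH) (Lpr_ct (f342524 IH) (Lpe (f694143 IH) (Lpe (K67.f331445 IH) (Lpn (LP (LK LD1_c18 LD2_c4 LD3_c25))))))))))))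
theorem f694130 : Led Lsl_at (LP (LK LD1_c18 LD2_c26 LD3_c27)) = (LP (LK LD1_c18 LD2_c9 LD3_c53)) :=
  Lgr Lrot107 (Lpe (K67.f325908 IH) (Lpr_af (K67.f694124 IH) (Lpe (K67.f333018 IH) (Lpn (LP (LK LD1_c18 LD2_c9 LD3_c53))))))
theorem f694166 : Led Lsl_ff (LP (LK LD1_c18 LD2_c26 LD3_c27)) = (LP (LK LD1_c18 LD2_c4 LD3_c25)) :=
  Lgr Lrot30 (Lpr_at (f694130 IH) (Lpr_ft (f693935 IH) (Lpr_at (f694154 IH) (Lpn (LP (LK LD1_c18 LD2_c4 LD3_c25))))))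
theorem f694174 : Led Lsl_ft (LP (LK LD1_c18 LD2_c26 LD3_c27)) = (LP (LK LD1_c18 LD2_c4 LD3_c25)) :=
  Lgr Lrot48 (Lpr_ff (f694166 IH) (Lpn (LP (LK LD1_c18 LD2_c4 LD3_c25))))
theorem f694114 : Led Lsl_ff (LP (LK LD1_c10 LD2_c7 LD3_c25)) = (LP (LK LD1_c15 LD2_c50 LD3_c42)) :=
  Lgr Lrot23 (Lpe (K21.f325902 IH) (Lpr_ft (K67.f694110 IH) (Lpe (K27.f361537 IH) (Lpn (LP (LK LD1_c15 LD2_c50 LD3_c42))))))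
theorem f694182 : Led Lsl_ff (LP (LK LD1_c15 LD2_c30 LD3_c51)) = (LP (LK LD1_c9 LD2_c52 LD3_c25)) :=
  Lgr Lrot72 (Lpe (K23.f191713 IH) (Lpe (f694114 IH) (Lpr_et (K27.f190912 IH) (Lpr_ft (f694174 IH) (Lpr_et (K27.f170514 IH) (Lpn (LP (LK LD1_c9 LD2_c52 LD3_c25))))))))
theorem f694190 : Led Lsl_ft (LP (LK LD1_c8 LD2_c42 LD3_c37)) = (LP (LK LD1_c15 LD2_c15 LD3_c3)) :=
  Lgr Lrot54 (Lpe (K23.f212514 IH) (Lpr_ff (f694182 IH) (Lpr_df (K22.f219958 IH) (Lpn (LP (LK LD1_c15 LD2_c15 LD3_c3))))))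
theorem f694198 : Led Lsl_af (LP (LK LD1_c8 LD2_c42 LD3_c36)) = (LP (LK LD1_c15 LD2_c15 LD3_c3)) :=
  Lgr Lrot31 (Lpe (K24.f193238 IH) (Lpe (K23.f193237 IH) (Lpr_ft (f694190 IH) (Lpn (LP (LK LD1_c15 LD2_c15 LD3_c3))))))
theorem f694206 : Led Lsl_at (LP (LK LD1_c9 LD2_c34 LD3_c7)) = (LP (LK LD1_c15 LD2_c51 LD3_c19)) :=
  Lgr Lrot80 (Lpr_ef (K24.f341786 IH) (Lpr_af (f694198 IH) (Lpe (K54.f219956 IH) (Lpn (LP (LK LD1_c15 LD2_c51 LD3_c19))))))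
theorem f341774 : Led Lsl_bf (LP (LK LD1_c9 LD2_c34 LD3_c7)) = (LP (LK LD1_c8 LD2_c24 LD3_c6)) :=
  Lgr Lrot93 (Lpr_dt (K24.f341772 IH) (Lpr_bt (K24.f166664 IH) (Lpr_dt (K21.f260924 IH) (Lpn (LP (LK LD1_c8 LD2_c24 LD3_c6))))))
theorem f694210 : Led Lsl_af (LP (LK LD1_c8 LD2_c24 LD3_c38)) = (LP (LK LD1_c14 LD2_c58 LD3_c11)) :=
  Lgr Lrot36 (Lpr_bt (K26.f166952 IH) (Lpr_at (K50.f692429 IH) (Lpqs (K67.f693894 IH) (Lpe (f341774 IH) (Lpr_at (f694206 IH) (Lpe (K22.f327621 IH) (Lpn (LP (LK LD1_c14 LD2_c58 LD3_c11)))))))))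
theorem f316117 : Led Lsl_ef (LP (LK LD1_c8 LD2_c33 LD3_c12)) = (LP (LK LD1_c8 LD2_c20 LD3_c54)) :=
  Lgr Lrot88 (Lpr_et (K22.f316111 IH) (Lpn (LP (LK LD1_c8 LD2_c20 LD3_c54))))
theorem f327490 : Led Lsl_ct (LP (LK LD1_c8 LD2_c33 LD3_c12)) = (LP (LK LD1_c14 LD2_c58 LD3_c11)) :=
  Lgr Lrot15 (Lpr_ef (f316117 IH) (Lpe (K21.f230990 IH) (Lpr_ef (K22.f327488 IH) (Lpn (LP (LK LD1_c14 LD2_c58 LD3_c11))))))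
theorem f885168 : Led Lsl_af (LP (LK LD1_c8 LD2_c33 LD3_c12)) = v36378 :=
  Lgr Lrot68 (Lpr_ct (f327490 IH) (Lpe (f694210 IH) (Lpr_ct (f885167 IH) (Lpn v36378))))
theorem f885181 : Led Lsl_af (LP (LK LD1_c16 LD2_c6 LD3_c31)) = (LP (LK LD1_c16 LD2_c3 LD3_c23)) :=
  Lgr Lrot117 (Lpr_dt (f885178 IH) (Lpe (f885168 IH) (Lpr_dt (K22.f287776 IH) (Lpn (LP (LK LD1_c16 LD2_c3 LD3_c23))))))
theorem f885182 : Led Lsl_at (LP (LK LD1_c16 LD2_c3 LD3_c23)) = (LP (LK LD1_c16 LD2_c6 LD3_c31)) :=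
  Leop (Lpr_af (f885181 IH) (Lpn (LP (LK LD1_c16 LD2_c3 LD3_c23))))
theorem seed_2096 : LEOK LG_a (LK LD1_c16 LD2_c3 LD3_c23) :=
  Leoe_a (LK LD1_c16 LD2_c3 LD3_c23) (f885182 IH)
def v36392 : LQ := Led Lsl_at (LP (LK LD1_c8 LD2_c24 LD3_c58))
theorem f885299 : Led Lsl_at (LP (LK LD1_c8 LD2_c24 LD3_c58)) = v36392 :=
  Lrfl
theorem f269647 : Led Lsl_dt (LP (LK LD1_c31 LD2_c49 LD3_c61)) = (LP (LK LD1_c25 LD2_c15 LD3_c50)) :=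
  Lre_d IH (LK LD1_c31 LD2_c49 LD3_c61) (LK LD1_c25 LD2_c15 LD3_c50) Lrfl Lrfl
theorem f602068 : Led Lsl_dt (LP (LK LD1_c20 LD2_c4 LD3_c14)) = (LP (LK LD1_c27 LD2_c28 LD3_c10)) :=
  Lgr Lrot60 (Lpe (K38.f337238 IH) (Lpe (f269647 IH) (Lpr_ff (K49.f602062 IH) (Lpn (LP (LK LD1_c27 LD2_c28 LD3_c10))))))
theorem f30575 : Led Lsl_ct (LP (LK LD1_c27 LD2_c28 LD3_c10)) = (LP (LK LD1_c17 LD2_c40 LD3_c39)) :=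
  Lre_c IH (LK LD1_c27 LD2_c28 LD3_c10) (LK LD1_c17 LD2_c40 LD3_c39) Lrfl Lrfl
theorem f602117 : Led Lsl_df (LP (LK LD1_c15 LD2_c43 LD3_c8)) = (LP (LK LD1_c17 LD2_c40 LD3_c39)) :=
  Lgr Lrot18 (Lpr_at (K38.f357100 IH) (Lpr_dt (K38.f357110 IH) (Lpr_at (K49.f602089 IH) (Lpn (LP (LK LD1_c17 LD2_c40 LD3_c39))))))
theorem f885306 : Led Lsl_ct K49.v12495 = v36392 :=
  Lgr Lrot98 (Lpe (K49.f692461 IH) (Lpe (K39.f357105 IH) (Lpr_df (f602117 IH) (Lpe (f30575 IH) (Lpe (f602068 IH) (Lpe (K38.f178415 IH) (Lpe (K38.f178414 IH) (Lpe (K22.f337248 IH) (Lpr_at (f885299 IH) (Lpn v36392))))))))))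
theorem f885308 : Led Lsl_dt (LP (LK LD1_c17 LD2_c44 LD3_c15)) = v36392 :=
  Lgr Lrot113 (Lpe (K38.f2589 IH) (Lpe (K38.f2588 IH) (Lpe (K38.f2585 IH) (Lpr_ct (K27.f2272 IH) (Lpr_gt (K27.f2280 IH) (Lpr_dt (K27.f2294 IH) (Lpe (K49.f396012 IH) (Lpr_dt (K49.f692461 IH) (Lpr_ct (f885306 IH) (Lpn v36392))))))))))
theorem f211431 : Led Lsl_ct (LP (LK LD1_c9 LD2_c38 LD3_c17)) = (LP (LK LD1_c17 LD2_c44 LD3_c16)) :=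
  Lre_c IH (LK LD1_c9 LD2_c38 LD3_c17) (LK LD1_c17 LD2_c44 LD3_c16) Lrfl Lrfl
theorem f550896 : Led Lsl_gt (LP (LK LD1_c17 LD2_c44 LD3_c16)) = (LP (LK LD1_c27 LD2_c30 LD3_c61)) :=
  Lre_g IH (LK LD1_c17 LD2_c44 LD3_c16) (LK LD1_c27 LD2_c30 LD3_c61) Lrfl Lrfl
theorem f397226 : Led Lsl_dt (LP (LK LD1_c11 LD2_c9 LD3_c44)) = (LP (LK LD1_c15 LD2_c7 LD3_c35)) :=
  Lgr Lrot6 (Lpr_gt (K52.f178422 IH) (Lpr_ct (K38.f178420 IH) (Lpr_gt (K49.f397222 IH) (Lpr_ct (K52.f30599 IH) (Lpe (K52.f30589 IH) (Lpr_cf (K52.f30590 IH) (Lpe (K52.f30301 IH) (Lpe (K39.f30242 IH) (Lpe (K52.f30280 IH) (Lpn (LP (LK LD1_c15 LD2_c7 LD3_c35))))))))))))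
theorem f885307 : Led Lsl_gf (LP (LK LD1_c11 LD2_c9 LD3_c44)) = v36392 :=
  Lgr Lrot148 (Lpr_dt (f397226 IH) (Lpr_gt (K52.f30280 IH) (Lpe (K52.f30245 IH) (Lpr_ct (K20.f2165 IH) (Lpe (K54.f2305 IH) (Lpe (K13.f2749 IH) (Lpr_df (K49.f634388 IH) (Lpr_gf (K49.f692459 IH) (Lpr_ct (f885306 IH) (Lpn v36392))))))))))
theorem f30296 : Led Lsl_ct (LP (LK LD1_c24 LD2_c56 LD3_c24)) = (LP (LK LD1_c15 LD2_c7 LD3_c35)) :=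
  Lre_c IH (LK LD1_c24 LD2_c56 LD3_c24) (LK LD1_c15 LD2_c7 LD3_c35) Lrfl Lrfl
theorem f30281 : Led Lsl_gt (LP (LK LD1_c9 LD2_c38 LD3_c21)) = (LP (LK LD1_c15 LD2_c7 LD3_c35)) :=
  Lgr Lrot5 (Lpr_ft (K35.f30271 IH) (Lpr_at (K35.f30278 IH) (Lpe (K52.f30280 IH) (Lpn (LP (LK LD1_c15 LD2_c7 LD3_c35))))))
theorem f30428 : Led Lsl_ct (LP (LK LD1_c15 LD2_c7 LD3_c35)) = (LP (LK LD1_c24 LD2_c56 LD3_c24)) :=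
  Lre_c IH (LK LD1_c15 LD2_c7 LD3_c35) (LK LD1_c24 LD2_c56 LD3_c24) Lrfl Lrfl
theorem f602094 : Led Lsl_df (LP (LK LD1_c24 LD2_c56 LD3_c24)) = (LP (LK LD1_c17 LD2_c40 LD3_c40)) :=
  Lgr Lrot162 (Lpe (f30428 IH) (Lpe (f30281 IH) (Lpe (K0.f2314 IH) (Lpr_gf (K52.f30567 IH) (Lpe (K52.f30581 IH) (Lpe (K49.f602072 IH) (Lpr_ct (K38.f178412 IH) (Lpr_gt (K49.f602076 IH) (Lpr_ct (K49.f260903 IH) (Lpn (LP (LK LD1_c17 LD2_c40 LD3_c40))))))))))))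
theorem f602108 : Led Lsl_gt (LP (LK LD1_c27 LD2_c28 LD3_c13)) = (LP (LK LD1_c17 LD2_c40 LD3_c40)) :=
  Lre_g IH (LK LD1_c27 LD2_c28 LD3_c13) (LK LD1_c17 LD2_c40 LD3_c40) Lrfl Lrfl
theorem f885309 : Led Lsl_dt (LP (LK LD1_c27 LD2_c30 LD3_c61)) = (LP (LK LD1_c27 LD2_c28 LD3_c13)) :=
  Lgr Lrot57 (Lpe (f550896 IH) (Lpe (f211431 IH) (Lpr_gt (K38.f2589 IH) (Lpr_dt (f885308 IH) (Lpe (f885307 IH) (Lpr_dt (f397226 IH) (Lpe (f30296 IH) (Lpr_df (f602094 IH) (Lpe (f602108 IH) (Lpn (LP (LK LD1_c27 LD2_c28 LD3_c13))))))))))))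
theorem f885310 : Led Lsl_dt (LP (LK LD1_c27 LD2_c30 LD3_c61)) = (LP (LK LD1_c27 LD2_c28 LD3_c13)) :=
  Leop (Lpe (f885309 IH) (Lpn (LP (LK LD1_c27 LD2_c30 LD3_c61))))
theorem seed_2097 : LEOK LG_d (LK LD1_c27 LD2_c30 LD3_c61) :=
  Leoe_d (LK LD1_c27 LD2_c30 LD3_c61) (f885310 IH)
theorem f238936 : Led Lsl_bt (LP (LK LD1_c20 LD2_c4 LD3_c14)) = (LP (LK LD1_c16 LD2_c20 LD3_c42)) :=
  Lgr Lrot128 (Lpe (K38.f178415 IH) (Lpe (K52.f238934 IH) (Lpr_cf (K13.f238919 IH) (Lpe (K39.f237244 IH) (Lpe (K39.f238935 IH) (Lpn (LP (LK LD1_c16 LD2_c20 LD3_c42))))))))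
theorem f602060 : Led Lsl_df (LP (LK LD1_c20 LD2_c4 LD3_c14)) = (LP (LK LD1_c27 LD2_c28 LD3_c10)) :=
  Lgr Lrot12 (Lpr_bt (f238936 IH) (Lpr_dt (K45.f394668 IH) (Lpr_bt (K49.f602056 IH) (Lpn (LP (LK LD1_c27 LD2_c28 LD3_c10))))))
theorem f2715 : Led Lsl_ct (LP (LK LD1_c17 LD2_c44 LD3_c21)) = (LP (LK LD1_c9 LD2_c38 LD3_c20)) :=
  Lre_c IH (LK LD1_c17 LD2_c44 LD3_c21) (LK LD1_c9 LD2_c38 LD3_c20) Lrfl Lrfl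
theorem f885313 : Led Lsl_gt (LP (LK LD1_c27 LD2_c30 LD3_c61)) = (LP (LK LD1_c17 LD2_c44 LD3_c21)) :=
  Lgr Lrot146 (Lpr_dt (f885309 IH) (Lpr_gt (f602108 IH) (Lpr_ct (K49.f338204 IH) (Lpr_gt (K49.f2772 IH) (Lpr_ct (K52.f30571 IH) (Lpe (f602060 IH) (Lpe (K38.f178415 IH) (Lpr_gf (K38.f550854 IH) (Lpe (f2715 IH) (Lpn (LP (LK LD1_c17 LD2_c44 LD3_c21))))))))))))
theorem f237274 : Led Lsl_bt (LP (LK LD1_c4 LD2_c22 LD3_c4)) = (LP (LK LD1_c8 LD2_c41 LD3_c57)) :=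
  Lre_b IH (LK LD1_c4 LD2_c22 LD3_c4) (LK LD1_c8 LD2_c41 LD3_c57) Lrfl Lrfl
theorem f237275 : Led Lsl_gt (LP (LK LD1_c16 LD2_c17 LD3_c40)) = (LP (LK LD1_c8 LD2_c41 LD3_c57)) :=
  Lre_g IH (LK LD1_c16 LD2_c17 LD3_c40) (LK LD1_c8 LD2_c41 LD3_c57) Lrfl Lrfl
theorem f237276 : Led Lsl_bt (LP (LK LD1_c26 LD2_c15 LD3_c33)) = (LP (LK LD1_c16 LD2_c17 LD3_c40)) :=
  Lre_b IH (LK LD1_c26 LD2_c15 LD3_c33) (LK LD1_c16 LD2_c17 LD3_c40) Lrfl Lrfl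
theorem f550897 : Led Lsl_cf (LP (LK LD1_c27 LD2_c30 LD3_c61)) = (LP (LK LD1_c26 LD2_c15 LD3_c33)) :=
  Lgr Lrot163 (Lpe (f550896 IH) (Lpe (f211431 IH) (Lpr_gf (K39.f550892 IH) (Lpe (K52.f238934 IH) (Lpr_ct (K13.f238938 IH) (Lpe (K13.f193691 IH) (Lpr_cf (K13.f237250 IH) (Lpr_bt (f237274 IH) (Lpe (f237275 IH) (Lpe (f237276 IH) (Lpn (LP (LK LD1_c26 LD2_c15 LD3_c33)))))))))))))
theorem f397722 : Led Lsl_af (LP (LK LD1_c9 LD2_c37 LD3_c23)) = (LP (LK LD1_c4 LD2_c53 LD3_c42)) :=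
  Lgr Lrot0 (Lpr_at (K30.f397694 IH) (Lpn (LP (LK LD1_c4 LD2_c53 LD3_c42))))
theorem f398079 : Led Lsl_gf (LP (LK LD1_c16 LD2_c17 LD3_c29)) = (LP (LK LD1_c8 LD2_c42 LD3_c2)) :=
  Lgr Lrot47 (Lpr_gt (K38.f398075 IH) (Lpr_af (f397722 IH) (Lpe (K30.f397745 IH) (Lpn (LP (LK LD1_c8 LD2_c42 LD3_c2))))))
theorem f885315 : Led Lsl_gf (LP (LK LD1_c26 LD2_c15 LD3_c33)) = (LP (LK LD1_c16 LD2_c17 LD3_c54)) :=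
  Lgr Lrot147 (Lpe (f550897 IH) (Lpr_gt (f885313 IH) (Lpr_ct (f2715 IH) (Lpe (K38.f2714 IH) (Lpr_cf (K67.f718460 IH) (Lpr_gf (f884522 IH) (Lpe (f884520 IH) (Lpr_gf (f398079 IH) (Lpe (K30.f397679 IH) (Lpn (LP (LK LD1_c16 LD2_c17 LD3_c54))))))))))))
theorem f885316 : Led Lsl_gt (LP (LK LD1_c16 LD2_c17 LD3_c54)) = (LP (LK LD1_c26 LD2_c15 LD3_c33)) :=
  Leop (Lpr_gf (f885315 IH) (Lpn (LP (LK LD1_c16 LD2_c17 LD3_c54))))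
theorem seed_2098 : LEOK LG_g (LK LD1_c16 LD2_c17 LD3_c54) :=
  Leoe_g (LK LD1_c16 LD2_c17 LD3_c54) (f885316 IH)
theorem f220451 : Led Lsl_cf (LP (LK LD1_c15 LD2_c35 LD3_c28)) = (LP (LK LD1_c9 LD2_c44 LD3_c50)) :=
  Lgr Lrot11 (Lpr_ct (K38.f220342 IH) (Lpn (LP (LK LD1_c9 LD2_c44 LD3_c50))))
theorem f400928 : Led Lsl_at (LP (LK LD1_c26 LD2_c16 LD3_c61)) = (LP (LK LD1_c16 LD2_c19 LD3_c7)) :=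
  Lre_a IH (LK LD1_c26 LD2_c16 LD3_c61) (LK LD1_c16 LD2_c19 LD3_c7) Lrfl Lrfl
theorem f401089 : Led Lsl_ct (LP (LK LD1_c17 LD2_c37 LD3_c50)) = (LP (LK LD1_c26 LD2_c16 LD3_c61)) :=
  Lgr Lrot111 (Lpr_af (K54.f401085 IH) (Lpe (K52.f250762 IH) (Lpe (f400928 IH) (Lpn (LP (LK LD1_c26 LD2_c16 LD3_c61))))))
theorem f199200 : Led Lsl_gt (LP (LK LD1_c9 LD2_c34 LD3_c15)) = (LP (LK LD1_c17 LD2_c37 LD3_c21)) :=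
  Lre_g IH (LK LD1_c9 LD2_c34 LD3_c15) (LK LD1_c17 LD2_c37 LD3_c21) Lrfl Lrfl
theorem f199302 : Led Lsl_ct (LP (LK LD1_c17 LD2_c37 LD3_c21)) = (LP (LK LD1_c27 LD2_c25 LD3_c33)) :=
  Lre_c IH (LK LD1_c17 LD2_c37 LD3_c21) (LK LD1_c27 LD2_c25 LD3_c33) Lrfl Lrfl
theorem f401107 : Led Lsl_gt (LP (LK LD1_c27 LD2_c25 LD3_c33)) = (LP (LK LD1_c26 LD2_c16 LD3_c61)) :=
  Lgr Lrot149 (Lpe (f199302 IH) (Lpe (f199200 IH) (Lpe (K52.f199199 IH) (Lpr_ct (K14.f2091 IH) (Lpe (K13.f2079 IH) (Lpe (K13.f186925 IH) (Lpr_bt (K26.f273 IH) (Lpe (K38.f295086 IH) (Lpe (K54.f349506 IH) (Lpr_ct (f401089 IH) (Lpn (LP (LK LD1_c26 LD2_c16 LD3_c61)))))))))))))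
theorem f401100 : Led Lsl_at (LP (LK LD1_c16 LD2_c19 LD3_c7)) = (LP (LK LD1_c26 LD2_c16 LD3_c61)) :=
  Lre_a IH (LK LD1_c16 LD2_c19 LD3_c7) (LK LD1_c26 LD2_c16 LD3_c61) Lrfl Lrfl
theorem f400907 : Led Lsl_ft (LP (LK LD1_c17 LD2_c53 LD3_c61)) = (LP (LK LD1_c16 LD2_c19 LD3_c7)) :=
  Lgr Lrot75 (Lpe (K38.f220448 IH) (Lpr_ff (K38.f400905 IH) (Lpe (K52.f250753 IH) (Lpn (LP (LK LD1_c16 LD2_c19 LD3_c7))))))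
theorem f401109 : Led Lsl_gf (LP (LK LD1_c27 LD2_c25 LD3_c33)) = (LP (LK LD1_c17 LD2_c53 LD3_c61)) :=
  Lgr Lrot47 (Lpr_gt (f401107 IH) (Lpe (f401100 IH) (Lpe (f400907 IH) (Lpn (LP (LK LD1_c17 LD2_c53 LD3_c61))))))
theorem f199304 : Led Lsl_ct (LP (LK LD1_c27 LD2_c25 LD3_c33)) = (LP (LK LD1_c17 LD2_c37 LD3_c21)) :=
  Lre_c IH (LK LD1_c27 LD2_c25 LD3_c33) (LK LD1_c17 LD2_c37 LD3_c21) Lrfl Lrfl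
theorem f357141 : Led Lsl_ff (LP (LK LD1_c15 LD2_c48 LD3_c54)) = (LP (LK LD1_c15 LD2_c43 LD3_c8)) :=
  Lgr Lrot3 (Lpr_ft (K38.f357116 IH) (Lpn (LP (LK LD1_c15 LD2_c43 LD3_c8))))
theorem f199313 : Led Lsl_dt (LP (LK LD1_c17 LD2_c37 LD3_c23)) = (LP (LK LD1_c27 LD2_c25 LD3_c36)) :=
  Lre_d IH (LK LD1_c17 LD2_c37 LD3_c23) (LK LD1_c27 LD2_c25 LD3_c36) Lrfl Lrfl
theorem f357096 : Led Lsl_bt (LP (LK LD1_c15 LD2_c48 LD3_c54)) = (LP (LK LD1_c17 LD2_c37 LD3_c23)) :=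
  Lgr Lrot95 (Lpe (K22.f178433 IH) (Lpr_bf (K52.f357051 IH) (Lpe (f199313 IH) (Lpn (LP (LK LD1_c17 LD2_c37 LD3_c23))))))
theorem f357145 : Led Lsl_ft (LP (LK LD1_c17 LD2_c37 LD3_c23)) = (LP (LK LD1_c25 LD2_c28 LD3_c47)) :=
  Lgr Lrot75 (Lpe (f357096 IH) (Lpr_ff (f357141 IH) (Lpe (K38.f357101 IH) (Lpn (LP (LK LD1_c25 LD2_c28 LD3_c47))))))
theorem f199292 : Led Lsl_at (LP (LK LD1_c9 LD2_c34 LD3_c15)) = (LP (LK LD1_c17 LD2_c37 LD3_c23)) :=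
  Lre_a IH (LK LD1_c9 LD2_c34 LD3_c15) (LK LD1_c17 LD2_c37 LD3_c23) Lrfl Lrfl
theorem f357147 : Led Lsl_ff (LP (LK LD1_c9 LD2_c34 LD3_c15)) = (LP (LK LD1_c15 LD2_c34 LD3_c43)) :=
  Lgr Lrot30 (Lpr_at (f199292 IH) (Lpr_ft (f357145 IH) (Lpr_at (K38.f315361 IH) (Lpn (LP (LK LD1_c15 LD2_c34 LD3_c43))))))
theorem f357155 : Led Lsl_ft (LP (LK LD1_c9 LD2_c34 LD3_c15)) = (LP (LK LD1_c15 LD2_c34 LD3_c43)) :=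
  Lgr Lrot48 (Lpr_ff (f357147 IH) (Lpn (LP (LK LD1_c15 LD2_c34 LD3_c43))))
theorem f357164 : Led Lsl_gt (LP (LK LD1_c17 LD2_c37 LD3_c21)) = (LP (LK LD1_c25 LD2_c28 LD3_c47)) :=
  Lgr Lrot46 (Lpe (f199200 IH) (Lpr_ft (f357155 IH) (Lpr_at (K38.f315384 IH) (Lpn (LP (LK LD1_c25 LD2_c28 LD3_c47))))))
theorem f315360 : Led Lsl_at (LP (LK LD1_c8 LD2_c40 LD3_c35)) = (LP (LK LD1_c16 LD2_c14 LD3_c57)) :=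
  Lre_a IH (LK LD1_c8 LD2_c40 LD3_c35) (LK LD1_c16 LD2_c14 LD3_c57) Lrfl Lrfl
theorem f315362 : Led Lsl_ct (LP (LK LD1_c16 LD2_c14 LD3_c57)) = (LP (LK LD1_c25 LD2_c28 LD3_c47)) :=
  Lgr Lrot111 (Lpe (f315360 IH) (Lpr_cf (K20.f315358 IH) (Lpe (K38.f315361 IH) (Lpn (LP (LK LD1_c25 LD2_c28 LD3_c47))))))
theorem f885319 : Led Lsl_bt (LP (LK LD1_c16 LD2_c14 LD3_c57)) = v36392 :=
  Lgr Lrot22 (Lpr_ct (f315362 IH) (Lpe (f357164 IH) (Lpe (f199304 IH) (Lpr_gf (f401109 IH) (Lpe (K38.f220448 IH) (Lpe (f220451 IH) (Lpe (K38.f220344 IH) (Lpe (K52.f400963 IH) (Lpr_bt (K52.f216431 IH) (Lpr_gf (f885307 IH) (Lpn v36392)))))))))))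
theorem f243222 : Led Lsl_ct (LP (LK LD1_c8 LD2_c30 LD3_c28)) = (LP (LK LD1_c8 LD2_c40 LD3_c40)) :=
  Lgr Lrot111 (Lpe (K31.f243221 IH) (Lpr_cf (K27.f243194 IH) (Lpe (K54.f243200 IH) (Lpn (LP (LK LD1_c8 LD2_c40 LD3_c40))))))
theorem f373842 : Led Lsl_ft (LP (LK LD1_c8 LD2_c40 LD3_c40)) = (LP (LK LD1_c14 LD2_c57 LD3_c19)) :=
  Lgr Lrot4 (Lpe (f243222 IH) (Lpr_ff (K30.f373835 IH) (Lpe (K15.f197686 IH) (Lpn (LP (LK LD1_c14 LD2_c57 LD3_c19))))))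
theorem f385734 : Led Lsl_bt (LP (LK LD1_c14 LD2_c57 LD3_c19)) = (LP (LK LD1_c8 LD2_c40 LD3_c59)) :=
  Lgr Lrot35 (Lpe (f373842 IH) (Lpr_bf (K54.f262581 IH) (Lpr_ff (K54.f385723 IH) (Lpn (LP (LK LD1_c8 LD2_c40 LD3_c59))))))
theorem f297546 : Led Lsl_ct (LP (LK LD1_c8 LD2_c42 LD3_c41)) = (LP (LK LD1_c16 LD2_c18 LD3_c61)) :=
  Lre_c IH (LK LD1_c8 LD2_c42 LD3_c41) (LK LD1_c16 LD2_c18 LD3_c61) Lrfl Lrfl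
theorem f385763 : Led Lsl_gt (LP (LK LD1_c14 LD2_c57 LD3_c8)) = (LP (LK LD1_c8 LD2_c40 LD3_c59)) :=
  Lgr Lrot164 (Lpr_bf (K54.f236923 IH) (Lpr_ct (K52.f168469 IH) (Lpe (K52.f297659 IH) (Lpe (f297546 IH) (Lpe (K52.f297543 IH) (Lpe (K38.f243235 IH) (Lpr_ct (K38.f243207 IH) (Lpr_gf (K31.f373847 IH) (Lpe (K15.f197686 IH) (Lpr_bt (f385734 IH) (Lpn (LP (LK LD1_c8 LD2_c40 LD3_c59)))))))))))))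
theorem f297515 : Led Lsl_ft (LP (LK LD1_c9 LD2_c44 LD3_c51)) = (LP (LK LD1_c8 LD2_c42 LD3_c41)) :=
  Lgr Lrot101 (Lpe (K19.f168480 IH) (Lpr_ff (K18.f297504 IH) (Lpe (K19.f297514 IH) (Lpn (LP (LK LD1_c8 LD2_c42 LD3_c41))))))
theorem f298285 : Led Lsl_bf (LP (LK LD1_c14 LD2_c58 LD3_c16)) = (LP (LK LD1_c8 LD2_c42 LD3_c41)) :=
  Lgr Lrot61 (Lpr_ft (K31.f298278 IH) (Lpe (K31.f298192 IH) (Lpr_ft (f297515 IH) (Lpn (LP (LK LD1_c8 LD2_c42 LD3_c41))))))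
theorem f187093 : Led Lsl_gt (LP (LK LD1_c4 LD2_c22 LD3_c42)) = (LP (LK LD1_c8 LD2_c43 LD3_c15)) :=
  Lre_g IH (LK LD1_c4 LD2_c22 LD3_c42) (LK LD1_c8 LD2_c43 LD3_c15) Lrfl Lrfl
theorem f298281 : Led Lsl_gf (LP (LK LD1_c14 LD2_c58 LD3_c16)) = (LP (LK LD1_c8 LD2_c43 LD3_c15)) :=
  Lgr Lrot76 (Lpe (K31.f236834 IH) (Lpr_ff (K31.f298273 IH) (Lpr_gt (f187093 IH) (Lpn (LP (LK LD1_c8 LD2_c43 LD3_c15))))))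
theorem f224883 : Led Lsl_bt (LP (LK LD1_c16 LD2_c20 LD3_c0)) = (LP (LK LD1_c8 LD2_c43 LD3_c15)) :=
  Lre_b IH (LK LD1_c16 LD2_c20 LD3_c0) (LK LD1_c8 LD2_c43 LD3_c15) Lrfl Lrfl
theorem f619301 : Led Lsl_ct (LP (LK LD1_c16 LD2_c20 LD3_c0)) = (LP (LK LD1_c11 LD2_c19 LD3_c3)) :=
  Lgr Lrot63 (Lpr_bt (f224883 IH) (Lpe (f298281 IH) (Lpr_bf (f298285 IH) (Lpr_ct (f297546 IH) (Lpr_gt (K52.f297659 IH) (Lpe (K52.f168469 IH) (Lpe (K54.f236923 IH) (Lpr_gt (f385763 IH) (Lpr_ct (K54.f262729 IH) (Lpr_gt (K54.f619299 IH) (Lpn (LP (LK LD1_c11 LD2_c19 LD3_c3)))))))))))))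
theorem f187092 : Led Lsl_bt (LP (LK LD1_c2 LD2_c8 LD3_c48)) = (LP (LK LD1_c4 LD2_c22 LD3_c42)) :=
  Lre_b IH (LK LD1_c2 LD2_c8 LD3_c48) (LK LD1_c4 LD2_c22 LD3_c42) Lrfl Lrfl
theorem f181982 : Led Lsl_ct (LP (LK LD1_c2 LD2_c8 LD3_c48)) = (LP (LK LD1_c1 LD2_c1 LD3_c35)) :=
  Lre_c IH (LK LD1_c2 LD2_c8 LD3_c48) (LK LD1_c1 LD2_c1 LD3_c35) Lrfl Lrfl
theorem f229469 : Led Lsl_bt (LP (LK LD1_c7 LD2_c55 LD3_c33)) = (LP (LK LD1_c3 LD2_c56 LD3_c59)) :=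
  Lre_b IH (LK LD1_c7 LD2_c55 LD3_c33) (LK LD1_c3 LD2_c56 LD3_c59) Lrfl Lrfl
theorem f232273 : Led Lsl_ct (LP (LK LD1_c7 LD2_c55 LD3_c33)) = (LP (LK LD1_c14 LD2_c57 LD3_c3)) :=
  Lre_c IH (LK LD1_c7 LD2_c55 LD3_c33) (LK LD1_c14 LD2_c57 LD3_c3) Lrfl Lrfl
theorem f619307 : Led Lsl_gf (LP (LK LD1_c14 LD2_c57 LD3_c3)) = (LP (LK LD1_c11 LD2_c19 LD3_c3)) :=
  Lgr Lrot126 (Lpe (f232273 IH) (Lpr_bt (f229469 IH) (Lpe (K13.f238756 IH) (Lpr_ct (K13.f196242 IH) (Lpr_gt (K12.f224877 IH) (Lpe (f181982 IH) (Lpr_bt (f187092 IH) (Lpr_gt (f187093 IH) (Lpe (f224883 IH) (Lpr_ct (f619301 IH) (Lpn (LP (LK LD1_c11 LD2_c19 LD3_c3)))))))))))))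
theorem f619306 : Led Lsl_gt (LP (LK LD1_c26 LD2_c18 LD3_c1)) = (LP (LK LD1_c16 LD2_c20 LD3_c0)) :=
  Lre_g IH (LK LD1_c26 LD2_c18 LD3_c1) (LK LD1_c16 LD2_c20 LD3_c0) Lrfl Lrfl
theorem f619310 : Led Lsl_bt (LP (LK LD1_c27 LD2_c25 LD3_c33)) = (LP (LK LD1_c26 LD2_c18 LD3_c1)) :=
  Lgr Lrot130 (Lpr_ct (f199304 IH) (Lpe (f199200 IH) (Lpe (K52.f199276 IH) (Lpr_bt (K52.f197710 IH) (Lpr_gf (K13.f238756 IH) (Lpe (f229469 IH) (Lpr_ct (f232273 IH) (Lpr_gf (f619307 IH) (Lpe (f619301 IH) (Lpe (f619306 IH) (Lpn (LP (LK LD1_c26 LD2_c18 LD3_c1)))))))))))))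
theorem f728703 : Led Lsl_at (LP (LK LD1_c19 LD2_c14 LD3_c32)) = (LP (LK LD1_c19 LD2_c18 LD3_c25)) :=
  Lgr Lrot100 (Lpr_af (K67.f728701 IH) (Lpn (LP (LK LD1_c19 LD2_c18 LD3_c25))))
theorem f728118 : Led Lsl_ff (LP (LK LD1_c19 LD2_c14 LD3_c32)) = (LP (LK LD1_c19 LD2_c18 LD3_c24)) :=
  Lgr Lrot25 (Lpe (K67.f332738 IH) (Lpr_ft (K67.f728116 IH) (Lpr_bt (K67.f390286 IH) (Lpn (LP (LK LD1_c19 LD2_c18 LD3_c24))))))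
theorem f728719 : Led Lsl_at (LP (LK LD1_c19 LD2_c14 LD3_c35)) = (LP (LK LD1_c19 LD2_c18 LD3_c24)) :=
  Lgr Lrot66 (Lpr_ff (K67.f728717 IH) (Lpe (f728703 IH) (Lpr_ff (f728118 IH) (Lpn (LP (LK LD1_c19 LD2_c18 LD3_c24))))))
theorem f312878 : Led Lsl_ct (LP (LK LD1_c28 LD2_c40 LD3_c58)) = (LP (LK LD1_c19 LD2_c14 LD3_c35)) :=
  Lre_c IH (LK LD1_c28 LD2_c40 LD3_c58) (LK LD1_c19 LD2_c14 LD3_c35) Lrfl Lrfl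
theorem f279669 : Led Lsl_ct (LP (LK LD1_c19 LD2_c18 LD3_c24)) = (LP (LK LD1_c28 LD2_c43 LD3_c43)) :=
  Lre_c IH (LK LD1_c19 LD2_c18 LD3_c24) (LK LD1_c28 LD2_c43 LD3_c43) Lrfl Lrfl
theorem f728787 : Led Lsl_af (LP (LK LD1_c28 LD2_c40 LD3_c58)) = (LP (LK LD1_c28 LD2_c43 LD3_c43)) :=
  Lgr Lrot68 (Lpr_ct (f312878 IH) (Lpr_at (f728719 IH) (Lpr_ct (f279669 IH) (Lpn (LP (LK LD1_c28 LD2_c43 LD3_c43))))))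
theorem f728794 : Led Lsl_at (LP (LK LD1_c28 LD2_c40 LD3_c58)) = (LP (LK LD1_c28 LD2_c43 LD3_c43)) :=
  Lgr Lrot100 (Lpr_af (f728787 IH) (Lpn (LP (LK LD1_c28 LD2_c43 LD3_c43))))
theorem f395801 : Led Lsl_ct (LP (LK LD1_c19 LD2_c18 LD3_c25)) = (LP (LK LD1_c28 LD2_c43 LD3_c45)) :=
  Lre_c IH (LK LD1_c19 LD2_c18 LD3_c25) (LK LD1_c28 LD2_c43 LD3_c45) Lrfl Lrfl
theorem f728713 : Led Lsl_ff (LP (LK LD1_c28 LD2_c40 LD3_c58)) = (LP (LK LD1_c28 LD2_c43 LD3_c45)) :=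
  Lgr Lrot23 (Lpr_ct (f312878 IH) (Lpr_ft (K67.f728709 IH) (Lpr_ct (f395801 IH) (Lpn (LP (LK LD1_c28 LD2_c43 LD3_c45))))))
theorem f312115 : Led Lsl_ct (LP (LK LD1_c19 LD2_c14 LD3_c32)) = (LP (LK LD1_c28 LD2_c40 LD3_c54)) :=
  Lre_c IH (LK LD1_c19 LD2_c14 LD3_c32) (LK LD1_c28 LD2_c40 LD3_c54) Lrfl Lrfl
theorem f279687 : Led Lsl_ct (LP (LK LD1_c28 LD2_c43 LD3_c45)) = (LP (LK LD1_c19 LD2_c18 LD3_c25)) :=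
  Lre_c IH (LK LD1_c28 LD2_c43 LD3_c45) (LK LD1_c19 LD2_c18 LD3_c25) Lrfl Lrfl
theorem f728705 : Led Lsl_at (LP (LK LD1_c28 LD2_c40 LD3_c54)) = (LP (LK LD1_c28 LD2_c43 LD3_c45)) :=
  Lgr Lrot107 (Lpe (f312115 IH) (Lpr_af (K67.f728701 IH) (Lpe (f279687 IH) (Lpn (LP (LK LD1_c28 LD2_c43 LD3_c45))))))
theorem f728800 : Led Lsl_ff (LP (LK LD1_c28 LD2_c40 LD3_c54)) = (LP (LK LD1_c28 LD2_c43 LD3_c43)) :=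
  Lgr Lrot30 (Lpr_at (f728705 IH) (Lpe (f728713 IH) (Lpr_at (f728794 IH) (Lpn (LP (LK LD1_c28 LD2_c43 LD3_c43))))))
theorem f728804 : Led Lsl_ft (LP (LK LD1_c28 LD2_c40 LD3_c54)) = (LP (LK LD1_c28 LD2_c43 LD3_c43)) :=
  Lgr Lrot48 (Lpr_ff (f728800 IH) (Lpn (LP (LK LD1_c28 LD2_c43 LD3_c43))))
theorem f396719 : Led Lsl_dt (LP (LK LD1_c32 LD2_c38 LD3_c4)) = (LP (LK LD1_c28 LD2_c40 LD3_c54)) :=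
  Lre_d IH (LK LD1_c32 LD2_c38 LD3_c4) (LK LD1_c28 LD2_c40 LD3_c54) Lrfl Lrfl
theorem f233331 : Led Lsl_cf (LP (LK LD1_c9 LD2_c33 LD3_c46)) = (LP (LK LD1_c8 LD2_c40 LD3_c15)) :=
  Lgr Lrot11 (Lpr_ct (K13.f233324 IH) (Lpn (LP (LK LD1_c8 LD2_c40 LD3_c15))))
theorem f39079 : Led Lsl_gt (LP (LK LD1_c8 LD2_c40 LD3_c28)) = (LP (LK LD1_c16 LD2_c14 LD3_c41)) :=
  Lre_g IH (LK LD1_c8 LD2_c40 LD3_c28) (LK LD1_c16 LD2_c14 LD3_c41) Lrfl Lrfl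
theorem f551369 : Led Lsl_bf (LP (LK LD1_c16 LD2_c14 LD3_c41)) = (LP (LK LD1_c17 LD2_c45 LD3_c32)) :=
  Lgr Lrot34 (Lpe (f39079 IH) (Lpe (K40.f39078 IH) (Lpr_ct (K13.f29147 IH) (Lpe (K13.f233012 IH) (Lpr_cf (f233331 IH) (Lpe (K13.f233260 IH) (Lpe (K35.f1741 IH) (Lpr_ct (K35.f2035 IH) (Lpe (K39.f30522 IH) (Lpr_cf (K49.f550877 IH) (Lpn (LP (LK LD1_c17 LD2_c45 LD3_c32)))))))))))))
theorem f397684 : Led Lsl_dt (LP (LK LD1_c9 LD2_c39 LD3_c14)) = (LP (LK LD1_c17 LD2_c45 LD3_c32)) :=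
  Lre_d IH (LK LD1_c9 LD2_c39 LD3_c14) (LK LD1_c17 LD2_c45 LD3_c32) Lrfl Lrfl
theorem f233137 : Led Lsl_bt (LP (LK LD1_c4 LD2_c51 LD3_c11)) = (LP (LK LD1_c9 LD2_c34 LD3_c24)) :=
  Lre_b IH (LK LD1_c4 LD2_c51 LD3_c11) (LK LD1_c9 LD2_c34 LD3_c24) Lrfl Lrfl
theorem f233139 : Led Lsl_gt (LP (LK LD1_c9 LD2_c34 LD3_c24)) = (LP (LK LD1_c17 LD2_c37 LD3_c39)) :=
  Lre_g IH (LK LD1_c9 LD2_c34 LD3_c24) (LK LD1_c17 LD2_c37 LD3_c39) Lrfl Lrfl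
theorem f550871 : Led Lsl_bf (LP (LK LD1_c17 LD2_c37 LD3_c39)) = (LP (LK LD1_c9 LD2_c39 LD3_c14)) :=
  Lgr Lrot34 (Lpe (f233139 IH) (Lpe (f233137 IH) (Lpe (K13.f233086 IH) (Lpr_gf (K21.f233142 IH) (Lpe (K13.f184373 IH) (Lpe (K13.f199673 IH) (Lpe (K27.f178447 IH) (Lpr_ct (K27.f166483 IH) (Lpr_gf (K38.f550858 IH) (Lpe (K39.f2836 IH) (Lpn (LP (LK LD1_c9 LD2_c39 LD3_c14)))))))))))))
theorem f550873 : Led Lsl_bt (LP (LK LD1_c17 LD2_c37 LD3_c39)) = (LP (LK LD1_c9 LD2_c39 LD3_c14)) :=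
  Lgr Lrot127 (Lpr_bf (f550871 IH) (Lpn (LP (LK LD1_c9 LD2_c39 LD3_c14))))
theorem f551373 : Led Lsl_dt (LP (LK LD1_c16 LD2_c14 LD3_c41)) = (LP (LK LD1_c17 LD2_c37 LD3_c39)) :=
  Lgr Lrot79 (Lpr_bf (f551369 IH) (Lpe (f397684 IH) (Lpe (f550873 IH) (Lpn (LP (LK LD1_c17 LD2_c37 LD3_c39))))))
theorem f551383 : Led Lsl_df (LP (LK LD1_c16 LD2_c14 LD3_c41)) = (LP (LK LD1_c17 LD2_c37 LD3_c39)) :=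
  Lgr Lrot38 (Lpr_dt (f551373 IH) (Lpn (LP (LK LD1_c17 LD2_c37 LD3_c39))))
theorem f233014 : Led Lsl_ct (LP (LK LD1_c16 LD2_c14 LD3_c41)) = (LP (LK LD1_c26 LD2_c11 LD3_c52)) :=
  Lre_c IH (LK LD1_c16 LD2_c14 LD3_c41) (LK LD1_c26 LD2_c11 LD3_c52) Lrfl Lrfl
theorem f444816 : Led Lsl_bt (LP (LK LD1_c26 LD2_c11 LD3_c52)) = (LP (LK LD1_c32 LD2_c5 LD3_c50)) :=
  Lre_b IH (LK LD1_c26 LD2_c11 LD3_c52) (LK LD1_c32 LD2_c5 LD3_c50) Lrfl Lrfl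
theorem f284801 : Led Lsl_ct (LP (LK LD1_c4 LD2_c3 LD3_c42)) = (LP (LK LD1_c4 LD2_c51 LD3_c23)) :=
  Lgr Lrot8 (Lpr_gt (K16.f276697 IH) (Lpr_dt (K16.f267459 IH) (Lpe (K15.f267448 IH) (Lpr_dt (K12.f47645 IH) (Lpe (K12.f212485 IH) (Lpe (K13.f213908 IH) (Lpe (K16.f213983 IH) (Lpr_df (K16.f274870 IH) (Lpr_gf (K17.f284799 IH) (Lpn (LP (LK LD1_c4 LD2_c51 LD3_c23))))))))))))
theorem f284809 : Led Lsl_bf (LP (LK LD1_c2 LD2_c38 LD3_c16)) = (LP (LK LD1_c4 LD2_c3 LD3_c42)) :=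
  Lgr Lrot34 (Lpe (K13.f235597 IH) (Lpe (K14.f169146 IH) (Lpr_ct (K14.f169153 IH) (Lpe (K14.f255991 IH) (Lpr_cf (K14.f256009 IH) (Lpr_gf (K14.f256025 IH) (Lpe (K14.f200355 IH) (Lpr_ct (K14.f53337 IH) (Lpr_gf (K17.f284799 IH) (Lpe (f284801 IH) (Lpn (LP (LK LD1_c4 LD2_c3 LD3_c42)))))))))))))
theorem f258308 : Led Lsl_bt (LP (LK LD1_c4 LD2_c17 LD3_c16)) = (LP (LK LD1_c2 LD2_c38 LD3_c41)) :=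
  Lgr Lrot92 (Lpe (K16.f253266 IH) (Lpr_gt (K14.f253280 IH) (Lpe (K14.f250478 IH) (Lpr_bt (K14.f187342 IH) (Lpr_gt (K14.f250474 IH) (Lpr_ct (K15.f228886 IH) (Lpr_gt (K15.f258300 IH) (Lpr_cf (K14.f223745 IH) (Lpr_bt (K14.f223849 IH) (Lpr_gt (K15.f223850 IH) (Lpn (LP (LK LD1_c2 LD2_c38 LD3_c41)))))))))))))
theorem f194420 : Led Lsl_bf (LP (LK LD1_c1 LD2_c16 LD3_c18)) = (LP (LK LD1_c1 LD2_c58 LD3_c30)) :=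
  Lgr Lrot24 (Lpr_bt (K10.f194418 IH) (Lpn (LP (LK LD1_c1 LD2_c58 LD3_c30))))
theorem f276703 : Led Lsl_cf (LP (LK LD1_c4 LD2_c3 LD3_c42)) = (LP (LK LD1_c4 LD2_c51 LD3_c23)) :=
  Lgr Lrot125 (Lpr_gt (K16.f276697 IH) (Lpr_cf (K16.f253266 IH) (Lpr_bt (f258308 IH) (Lpr_gt (K15.f258253 IH) (Lpr_bf (f194420 IH) (Lpe (K10.f194597 IH) (Lpr_gt (K15.f265036 IH) (Lpe (K20.f235673 IH) (Lpr_bt (K19.f235745 IH) (Lpr_gt (K17.f235746 IH) (Lpn (LP (LK LD1_c4 LD2_c51 LD3_c23)))))))))))))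
theorem f551391 : Led Lsl_gt (LP (LK LD1_c32 LD2_c5 LD3_c50)) = (LP (LK LD1_c28 LD2_c41 LD3_c7)) :=
  Lgr Lrot190 (Lpe (f444816 IH) (Lpe (f233014 IH) (Lpr_df (f551383 IH) (Lpe (f233139 IH) (Lpe (f233137 IH) (Lpe (K17.f233082 IH) (Lpe (K13.f236441 IH) (Lpr_gf (K13.f236449 IH) (Lpr_bf (f284809 IH) (Lpr_cf (f276703 IH) (Lpe (K17.f284803 IH) (Lpe (K16.f213009 IH) (Lpe (K16.f53641 IH) (Lpe (K12.f53664 IH) (Lpe (K12.f53711 IH) (Lpr_gf (K13.f233933 IH) (Lpe (K54.f234009 IH) (Lpe (K22.f234010 IH) (Lpe (K22.f234011 IH) (Lpn (LP (LK LD1_c28 LD2_c41 LD3_c7))))))))))))))))))))))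
theorem f444815 : Led Lsl_ct (LP (LK LD1_c26 LD2_c11 LD3_c52)) = (LP (LK LD1_c16 LD2_c14 LD3_c41)) :=
  Lre_c IH (LK LD1_c26 LD2_c11 LD3_c52) (LK LD1_c16 LD2_c14 LD3_c41) Lrfl Lrfl
theorem f232924 : Led Lsl_gt (LP (LK LD1_c26 LD2_c11 LD3_c57)) = (LP (LK LD1_c16 LD2_c14 LD3_c43)) :=
  Lre_g IH (LK LD1_c26 LD2_c11 LD3_c57) (LK LD1_c16 LD2_c14 LD3_c43) Lrfl Lrfl
theorem f232941 : Led Lsl_bt (LP (LK LD1_c32 LD2_c5 LD3_c53)) = (LP (LK LD1_c26 LD2_c11 LD3_c57)) :=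
  Lre_b IH (LK LD1_c32 LD2_c5 LD3_c53) (LK LD1_c26 LD2_c11 LD3_c57) Lrfl Lrfl
theorem f212954 : Led Lsl_bt (LP (LK LD1_c18 LD2_c2 LD3_c58)) = (LP (LK LD1_c9 LD2_c51 LD3_c39)) :=
  Lre_b IH (LK LD1_c18 LD2_c2 LD3_c58) (LK LD1_c9 LD2_c51 LD3_c39) Lrfl Lrfl
theorem f212955 : Led Lsl_ct (LP (LK LD1_c27 LD2_c44 LD3_c38)) = (LP (LK LD1_c18 LD2_c2 LD3_c58)) :=
  Lre_c IH (LK LD1_c27 LD2_c44 LD3_c38) (LK LD1_c18 LD2_c2 LD3_c58) Lrfl Lrfl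
theorem f234057 : Led Lsl_bt (LP (LK LD1_c5 LD2_c23 LD3_c28)) = (LP (LK LD1_c10 LD2_c37 LD3_c26)) :=
  Lre_b IH (LK LD1_c5 LD2_c23 LD3_c28) (LK LD1_c10 LD2_c37 LD3_c26) Lrfl Lrfl
theorem f234079 : Led Lsl_bf (LP (LK LD1_c27 LD2_c44 LD3_c38)) = (LP (LK LD1_c19 LD2_c14 LD3_c41)) :=
  Lgr Lrot90 (Lpr_ct (f212955 IH) (Lpr_bt (f212954 IH) (Lpr_ct (K16.f234053 IH) (Lpr_bt (f234057 IH) (Lpr_ct (K22.f234012 IH) (Lpn (LP (LK LD1_c19 LD2_c14 LD3_c41))))))))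
theorem f234084 : Led Lsl_dt (LP (LK LD1_c27 LD2_c44 LD3_c38)) = (LP (LK LD1_c32 LD2_c28 LD3_c13)) :=
  Lre_d IH (LK LD1_c27 LD2_c44 LD3_c38) (LK LD1_c32 LD2_c28 LD3_c13) Lrfl Lrfl
theorem f234085 : Led Lsl_bt (LP (LK LD1_c32 LD2_c28 LD3_c13)) = (LP (LK LD1_c28 LD2_c41 LD3_c7)) :=
  Lgr Lrot95 (Lpe (f234084 IH) (Lpr_bf (f234079 IH) (Lpe (K22.f234011 IH) (Lpn (LP (LK LD1_c28 LD2_c41 LD3_c7))))))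
theorem f312733 : Led Lsl_dt (LP (LK LD1_c19 LD2_c15 LD3_c23)) = (LP (LK LD1_c28 LD2_c41 LD3_c38)) :=
  Lre_d IH (LK LD1_c19 LD2_c15 LD3_c23) (LK LD1_c28 LD2_c41 LD3_c38) Lrfl Lrfl
theorem f312793 : Led Lsl_ft (LP (LK LD1_c28 LD2_c41 LD3_c38)) = (LP (LK LD1_c32 LD2_c35 LD3_c23)) :=
  Lgr Lrot54 (Lpe (f312733 IH) (Lpr_ff (K54.f312789 IH) (Lpe (K22.f312772 IH) (Lpn (LP (LK LD1_c32 LD2_c35 LD3_c23))))))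
theorem f312799 : Led Lsl_ff (LP (LK LD1_c28 LD2_c41 LD3_c38)) = (LP (LK LD1_c32 LD2_c35 LD3_c23)) :=
  Lgr Lrot3 (Lpr_ft (f312793 IH) (Lpn (LP (LK LD1_c32 LD2_c35 LD3_c23))))
theorem f234050 : Led Lsl_bt (LP (LK LD1_c9 LD2_c51 LD3_c39)) = (LP (LK LD1_c18 LD2_c2 LD3_c58)) :=
  Lre_b IH (LK LD1_c9 LD2_c51 LD3_c39) (LK LD1_c18 LD2_c2 LD3_c58) Lrfl Lrfl
theorem f235641 : Led Lsl_dt (LP (LK LD1_c18 LD2_c2 LD3_c58)) = (LP (LK LD1_c10 LD2_c30 LD3_c53)) :=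
  Lgr Lrot79 (Lpe (f234050 IH) (Lpr_df (K16.f235639 IH) (Lpe (K19.f187046 IH) (Lpn (LP (LK LD1_c10 LD2_c30 LD3_c53))))))
theorem f212956 : Led Lsl_dt (LP (LK LD1_c32 LD2_c28 LD3_c13)) = (LP (LK LD1_c27 LD2_c44 LD3_c38)) :=
  Lre_d IH (LK LD1_c32 LD2_c28 LD3_c13) (LK LD1_c27 LD2_c44 LD3_c38) Lrfl Lrfl
theorem f312734 : Led Lsl_ct (LP (LK LD1_c28 LD2_c41 LD3_c38)) = (LP (LK LD1_c32 LD2_c28 LD3_c13)) :=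
  Lgr Lrot176 (Lpe (f312733 IH) (Lpe (K19.f312725 IH) (Lpe (K19.f312726 IH) (Lpe (K19.f303291 IH) (Lpe (K19.f312727 IH) (Lpe (K19.f312728 IH) (Lpr_df (K19.f312729 IH) (Lpe (K19.f235662 IH) (Lpe (K19.f224833 IH) (Lpe (K19.f223800 IH) (Lpe (K19.f224831 IH) (Lpe (K19.f187047 IH) (Lpe (f235641 IH) (Lpe (f212955 IH) (Lpe (f212956 IH) (Lpn (LP (LK LD1_c32 LD2_c28 LD3_c13))))))))))))))))))
theorem f312801 : Led Lsl_ft (LP (LK LD1_c32 LD2_c28 LD3_c13)) = (LP (LK LD1_c28 LD2_c41 LD3_c7)) :=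
  Lgr Lrot4 (Lpe (f312734 IH) (Lpr_ff (f312799 IH) (Lpe (K22.f312773 IH) (Lpn (LP (LK LD1_c28 LD2_c41 LD3_c7))))))
theorem f312807 : Led Lsl_ff (LP (LK LD1_c32 LD2_c28 LD3_c13)) = (LP (LK LD1_c28 LD2_c41 LD3_c7)) :=
  Lgr Lrot3 (Lpr_ft (f312801 IH) (Lpn (LP (LK LD1_c28 LD2_c41 LD3_c7))))
theorem f312809 : Led Lsl_ct (LP (LK LD1_c32 LD2_c28 LD3_c13)) = (LP (LK LD1_c28 LD2_c41 LD3_c38)) :=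
  Lgr Lrot40 (Lpr_ff (f312807 IH) (Lpr_cf (K22.f312778 IH) (Lpe (f312793 IH) (Lpn (LP (LK LD1_c28 LD2_c41 LD3_c38))))))
theorem f417721 : Led Lsl_dt (LP (LK LD1_c19 LD2_c3 LD3_c40)) = (LP (LK LD1_c19 LD2_c18 LD3_c47)) :=
  Lgr Lrot42 (Lpr_df (K54.f417715 IH) (Lpn (LP (LK LD1_c19 LD2_c18 LD3_c47))))
theorem f417725 : Led Lsl_df (LP (LK LD1_c10 LD2_c31 LD3_c0)) = (LP (LK LD1_c10 LD2_c39 LD3_c57)) :=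
  Lgr Lrot12 (Lpr_bt (K54.f293456 IH) (Lpr_dt (f417721 IH) (Lpr_bt (K54.f213002 IH) (Lpn (LP (LK LD1_c10 LD2_c39 LD3_c57))))))
theorem f224545 : Led Lsl_dt (LP (LK LD1_c28 LD2_c29 LD3_c55)) = (LP (LK LD1_c19 LD2_c3 LD3_c44)) :=
  Lre_d IH (LK LD1_c28 LD2_c29 LD3_c55) (LK LD1_c19 LD2_c3 LD3_c44) Lrfl Lrfl
theorem f338114 : Led Lsl_gf (LP (LK LD1_c10 LD2_c39 LD3_c57)) = (LP (LK LD1_c19 LD2_c4 LD3_c29)) :=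
  Lgr Lrot47 (Lpr_gt (K54.f213001 IH) (Lpe (K22.f331639 IH) (Lpr_ff (K22.f338107 IH) (Lpn (LP (LK LD1_c19 LD2_c4 LD3_c29))))))
theorem f235190 : Led Lsl_ct (LP (LK LD1_c28 LD2_c30 LD3_c43)) = (LP (LK LD1_c19 LD2_c4 LD3_c29)) :=
  Lre_c IH (LK LD1_c28 LD2_c30 LD3_c43) (LK LD1_c19 LD2_c4 LD3_c29) Lrfl Lrfl
theorem f218676 : Led Lsl_at (LP (LK LD1_c19 LD2_c18 LD3_c45)) = (LP (LK LD1_c10 LD2_c39 LD3_c58)) :=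
  Lre_a IH (LK LD1_c19 LD2_c18 LD3_c45) (LK LD1_c10 LD2_c39 LD3_c58) Lrfl Lrfl
theorem f224787 : Led Lsl_at (LP (LK LD1_c19 LD2_c4 LD3_c30)) = (LP (LK LD1_c28 LD2_c30 LD3_c43)) :=
  Lre_a IH (LK LD1_c19 LD2_c4 LD3_c30) (LK LD1_c28 LD2_c30 LD3_c43) Lrfl Lrfl
theorem f338179 : Led Lsl_ff (LP (LK LD1_c19 LD2_c18 LD3_c45)) = (LP (LK LD1_c28 LD2_c30 LD3_c43)) :=
  Lgr Lrot30 (Lpr_at (f218676 IH) (Lpr_ft (K49.f338177 IH) (Lpr_at (f224787 IH) (Lpn (LP (LK LD1_c28 LD2_c30 LD3_c43))))))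
theorem f218665 : Led Lsl_gt (LP (LK LD1_c19 LD2_c18 LD3_c51)) = (LP (LK LD1_c10 LD2_c39 LD3_c58)) :=
  Lre_g IH (LK LD1_c19 LD2_c18 LD3_c51) (LK LD1_c10 LD2_c39 LD3_c58) Lrfl Lrfl
theorem f338205 : Led Lsl_gf (LP (LK LD1_c19 LD2_c18 LD3_c51)) = (LP (LK LD1_c28 LD2_c30 LD3_c43)) :=
  Lgr Lrot47 (Lpr_gt (f218665 IH) (Lpe (f218676 IH) (Lpr_ff (f338179 IH) (Lpn (LP (LK LD1_c28 LD2_c30 LD3_c43))))))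
theorem f338207 : Led Lsl_dt (LP (LK LD1_c19 LD2_c18 LD3_c51)) = (LP (LK LD1_c28 LD2_c44 LD3_c5)) :=
  Lre_d IH (LK LD1_c19 LD2_c18 LD3_c51) (LK LD1_c28 LD2_c44 LD3_c5) Lrfl Lrfl
theorem f417734 : Led Lsl_gf (LP (LK LD1_c28 LD2_c29 LD3_c55)) = (LP (LK LD1_c28 LD2_c44 LD3_c5)) :=
  Lgr Lrot143 (Lpr_dt (f224545 IH) (Lpe (K19.f223800 IH) (Lpe (K19.f224831 IH) (Lpe (K19.f187032 IH) (Lpr_df (f417725 IH) (Lpr_gf (f338114 IH) (Lpe (f235190 IH) (Lpe (f338205 IH) (Lpr_dt (f338207 IH) (Lpn (LP (LK LD1_c28 LD2_c44 LD3_c5))))))))))))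
theorem f312775 : Led Lsl_at (LP (LK LD1_c32 LD2_c35 LD3_c23)) = (LP (LK LD1_c28 LD2_c29 LD3_c55)) :=
  Lre_a IH (LK LD1_c32 LD2_c35 LD3_c23) (LK LD1_c28 LD2_c29 LD3_c55) Lrfl Lrfl
theorem f417737 : Led Lsl_gt (LP (LK LD1_c28 LD2_c41 LD3_c38)) = (LP (LK LD1_c28 LD2_c44 LD3_c5)) :=
  Lgr Lrot5 (Lpr_ft (f312793 IH) (Lpr_at (f312775 IH) (Lpr_gf (f417734 IH) (Lpn (LP (LK LD1_c28 LD2_c44 LD3_c5))))))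
theorem f551405 : Led Lsl_ct (LP (LK LD1_c32 LD2_c5 LD3_c53)) = (LP (LK LD1_c28 LD2_c44 LD3_c5)) :=
  Lgr Lrot10 (Lpr_bt (f232941 IH) (Lpr_gt (f232924 IH) (Lpr_ct (K40.f232469 IH) (Lpr_gt (f39079 IH) (Lpe (f444815 IH) (Lpr_bt (f444816 IH) (Lpr_gt (f551391 IH) (Lpe (f234085 IH) (Lpr_ct (f312809 IH) (Lpr_gt (f417737 IH) (Lpn (LP (LK LD1_c28 LD2_c44 LD3_c5)))))))))))))
theorem f551409 : Led Lsl_cf (LP (LK LD1_c32 LD2_c5 LD3_c53)) = (LP (LK LD1_c28 LD2_c44 LD3_c5)) :=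
  Lgr Lrot11 (Lpr_ct (f551405 IH) (Lpn (LP (LK LD1_c28 LD2_c44 LD3_c5))))
theorem f232921 : Led Lsl_bt (LP (LK LD1_c8 LD2_c40 LD3_c28)) = (LP (LK LD1_c4 LD2_c21 LD3_c26)) :=
  Lre_b IH (LK LD1_c8 LD2_c40 LD3_c28) (LK LD1_c4 LD2_c21 LD3_c26) Lrfl Lrfl
theorem f232478 : Led Lsl_ct (LP (LK LD1_c8 LD2_c40 LD3_c28)) = (LP (LK LD1_c16 LD2_c14 LD3_c43)) :=
  Lre_c IH (LK LD1_c8 LD2_c40 LD3_c28) (LK LD1_c16 LD2_c14 LD3_c43) Lrfl Lrfl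
theorem f1946 : Led Lsl_gt (LP (LK LD1_c9 LD2_c36 LD3_c19)) = (LP (LK LD1_c17 LD2_c41 LD3_c18)) :=
  Lre_g IH (LK LD1_c9 LD2_c36 LD3_c19) (LK LD1_c17 LD2_c41 LD3_c18) Lrfl Lrfl
theorem f2062 : Led Lsl_bt (LP (LK LD1_c27 LD2_c28 LD3_c48)) = (LP (LK LD1_c17 LD2_c41 LD3_c18)) :=
  Lre_b IH (LK LD1_c27 LD2_c28 LD3_c48) (LK LD1_c17 LD2_c41 LD3_c18) Lrfl Lrfl
theorem f232925 : Led Lsl_cf (LP (LK LD1_c26 LD2_c11 LD3_c57)) = (LP (LK LD1_c27 LD2_c28 LD3_c48)) :=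
  Lgr Lrot160 (Lpr_gt (f232924 IH) (Lpe (f232478 IH) (Lpr_bt (f232921 IH) (Lpr_gt (K13.f232904 IH) (Lpe (K13.f232919 IH) (Lpr_gt (K13.f1794 IH) (Lpe (K13.f1755 IH) (Lpr_bt (K39.f1767 IH) (Lpr_gt (f1946 IH) (Lpe (f2062 IH) (Lpn (LP (LK LD1_c27 LD2_c28 LD3_c48)))))))))))))
theorem f232937 : Led Lsl_ct (LP (LK LD1_c26 LD2_c11 LD3_c57)) = (LP (LK LD1_c27 LD2_c28 LD3_c48)) :=
  Lgr Lrot59 (Lpr_cf (f232925 IH) (Lpn (LP (LK LD1_c27 LD2_c28 LD3_c48))))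
theorem f1947 : Led Lsl_ct (LP (LK LD1_c17 LD2_c41 LD3_c18)) = (LP (LK LD1_c27 LD2_c28 LD3_c49)) :=
  Lre_c IH (LK LD1_c17 LD2_c41 LD3_c18) (LK LD1_c27 LD2_c28 LD3_c49) Lrfl Lrfl
theorem f551411 : Led Lsl_bt (LP (LK LD1_c27 LD2_c28 LD3_c49)) = (LP (LK LD1_c28 LD2_c44 LD3_c5)) :=
  Lgr Lrot128 (Lpe (f1947 IH) (Lpe (f2062 IH) (Lpe (f232937 IH) (Lpe (f232941 IH) (Lpr_cf (f551409 IH) (Lpn (LP (LK LD1_c28 LD2_c44 LD3_c5))))))))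
theorem f2061 : Led Lsl_ct (LP (LK LD1_c27 LD2_c28 LD3_c49)) = (LP (LK LD1_c17 LD2_c41 LD3_c18)) :=
  Lre_c IH (LK LD1_c27 LD2_c28 LD3_c49) (LK LD1_c17 LD2_c41 LD3_c18) Lrfl Lrfl
theorem f1802 : Led Lsl_ct (LP (LK LD1_c17 LD2_c40 LD3_c59)) = (LP (LK LD1_c9 LD2_c36 LD3_c19)) :=
  Lre_c IH (LK LD1_c17 LD2_c40 LD3_c59) (LK LD1_c9 LD2_c36 LD3_c19) Lrfl Lrfl
theorem f1959 : Led Lsl_bt (LP (LK LD1_c17 LD2_c40 LD3_c59)) = (LP (LK LD1_c9 LD2_c36 LD3_c11)) :=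
  Lre_b IH (LK LD1_c17 LD2_c40 LD3_c59) (LK LD1_c9 LD2_c36 LD3_c11) Lrfl Lrfl
theorem f2334 : Led Lsl_bt (LP (LK LD1_c27 LD2_c28 LD3_c27)) = (LP (LK LD1_c17 LD2_c40 LD3_c58)) :=
  Lre_b IH (LK LD1_c27 LD2_c28 LD3_c27) (LK LD1_c17 LD2_c40 LD3_c58) Lrfl Lrfl
theorem f30528 : Led Lsl_ct (LP (LK LD1_c27 LD2_c28 LD3_c27)) = (LP (LK LD1_c32 LD2_c25 LD3_c14)) :=
  Lre_c IH (LK LD1_c27 LD2_c28 LD3_c27) (LK LD1_c32 LD2_c25 LD3_c14) Lrfl Lrfl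
theorem f551415 : Led Lsl_gf (LP (LK LD1_c32 LD2_c25 LD3_c14)) = (LP (LK LD1_c32 LD2_c35 LD3_c24)) :=
  Lgr Lrot129 (Lpe (f30528 IH) (Lpr_bt (f2334 IH) (Lpr_gt (K38.f2330 IH) (Lpe (f1959 IH) (Lpr_ct (f1802 IH) (Lpr_gt (f1946 IH) (Lpe (f2061 IH) (Lpr_bt (f551411 IH) (Lpe (f417734 IH) (Lpr_ct (K19.f235662 IH) (Lpn (LP (LK LD1_c32 LD2_c35 LD3_c24)))))))))))))
theorem f218611 : Led Lsl_dt (LP (LK LD1_c10 LD2_c37 LD3_c59)) = (LP (LK LD1_c19 LD2_c15 LD3_c32)) :=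
  Lre_d IH (LK LD1_c10 LD2_c37 LD3_c59) (LK LD1_c19 LD2_c15 LD3_c32) Lrfl Lrfl
theorem f218604 : Led Lsl_ct (LP (LK LD1_c19 LD2_c15 LD3_c32)) = (LP (LK LD1_c28 LD2_c41 LD3_c44)) :=
  Lre_c IH (LK LD1_c19 LD2_c15 LD3_c32) (LK LD1_c28 LD2_c41 LD3_c44) Lrfl Lrfl
theorem f312813 : Led Lsl_at (LP (LK LD1_c32 LD2_c28 LD3_c13)) = (LP (LK LD1_c28 LD2_c41 LD3_c44)) :=
  Lgr Lrot33 (Lpr_ff (f312807 IH) (Lpr_dt (K22.f234011 IH) (Lpr_ct (K22.f234010 IH) (Lpr_dt (K22.f218448 IH) (Lpr_ct (K22.f218450 IH) (Lpr_dt (K54.f218451 IH) (Lpr_ct (K19.f217764 IH) (Lpr_dt (f218611 IH) (Lpr_ct (f218604 IH) (Lpn (LP (LK LD1_c28 LD2_c41 LD3_c44))))))))))))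
theorem f312776 : Led Lsl_af (LP (LK LD1_c28 LD2_c41 LD3_c7)) = (LP (LK LD1_c32 LD2_c35 LD3_c24)) :=
  Lgr Lrot68 (Lpr_ct (K22.f312773 IH) (Lpr_at (f312775 IH) (Lpr_ct (K19.f235662 IH) (Lpn (LP (LK LD1_c32 LD2_c35 LD3_c24))))))
theorem f312817 : Led Lsl_ff (LP (LK LD1_c32 LD2_c35 LD3_c24)) = (LP (LK LD1_c28 LD2_c41 LD3_c44)) :=
  Lgr Lrot30 (Lpe (f312776 IH) (Lpe (f312807 IH) (Lpr_at (f312813 IH) (Lpn (LP (LK LD1_c28 LD2_c41 LD3_c44))))))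
theorem f312819 : Led Lsl_ft (LP (LK LD1_c32 LD2_c35 LD3_c24)) = (LP (LK LD1_c28 LD2_c41 LD3_c44)) :=
  Lgr Lrot48 (Lpr_ff (f312817 IH) (Lpn (LP (LK LD1_c28 LD2_c41 LD3_c44))))
theorem f312815 : Led Lsl_af (LP (LK LD1_c32 LD2_c28 LD3_c13)) = (LP (LK LD1_c28 LD2_c41 LD3_c44)) :=
  Lgr Lrot0 (Lpr_at (f312813 IH) (Lpn (LP (LK LD1_c28 LD2_c41 LD3_c44))))
theorem f551417 : Led Lsl_gt (LP (LK LD1_c32 LD2_c25 LD3_c14)) = (LP (LK LD1_c32 LD2_c28 LD3_c13)) :=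
  Lgr Lrot46 (Lpr_gf (f551415 IH) (Lpr_ft (f312819 IH) (Lpe (f312815 IH) (Lpn (LP (LK LD1_c32 LD2_c28 LD3_c13))))))
theorem f212957 : Led Lsl_ct (LP (LK LD1_c18 LD2_c2 LD3_c58)) = (LP (LK LD1_c27 LD2_c44 LD3_c38)) :=
  Lre_c IH (LK LD1_c18 LD2_c2 LD3_c58) (LK LD1_c27 LD2_c44 LD3_c38) Lrfl Lrfl
theorem f235654 : Led Lsl_df (LP (LK LD1_c18 LD2_c2 LD3_c58)) = (LP (LK LD1_c10 LD2_c30 LD3_c53)) :=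
  Lgr Lrot12 (Lpr_bt (f212954 IH) (Lpr_dt (K19.f235643 IH) (Lpr_bt (K30.f199324 IH) (Lpn (LP (LK LD1_c10 LD2_c30 LD3_c53))))))
theorem f417754 : Led Lsl_df (LP (LK LD1_c19 LD2_c3 LD3_c22)) = (LP (LK LD1_c19 LD2_c18 LD3_c25)) :=
  Lgr Lrot38 (Lpr_dt (K67.f417752 IH) (Lpn (LP (LK LD1_c19 LD2_c18 LD3_c25))))
theorem f235185 : Led Lsl_ct (LP (LK LD1_c32 LD2_c28 LD3_c9)) = (LP (LK LD1_c27 LD2_c44 LD3_c27)) :=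
  Lre_c IH (LK LD1_c32 LD2_c28 LD3_c9) (LK LD1_c27 LD2_c44 LD3_c27) Lrfl Lrfl
theorem f338141 : Led Lsl_ff (LP (LK LD1_c19 LD2_c18 LD3_c23)) = (LP (LK LD1_c27 LD2_c44 LD3_c27)) :=
  Lgr Lrot23 (Lpr_ct (K45.f338140 IH) (Lpr_ft (K22.f338134 IH) (Lpr_ct (f235185 IH) (Lpn (LP (LK LD1_c27 LD2_c44 LD3_c27))))))
theorem f338219 : Led Lsl_at (LP (LK LD1_c19 LD2_c18 LD3_c23)) = (LP (LK LD1_c10 LD2_c39 LD3_c43)) :=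
  Lre_a IH (LK LD1_c19 LD2_c18 LD3_c23) (LK LD1_c10 LD2_c39 LD3_c43) Lrfl Lrfl
theorem f395799 : Led Lsl_gf (LP (LK LD1_c19 LD2_c18 LD3_c25)) = (LP (LK LD1_c27 LD2_c44 LD3_c27)) :=
  Lgr Lrot47 (Lpr_gt (K67.f217664 IH) (Lpe (f338219 IH) (Lpr_ff (f338141 IH) (Lpn (LP (LK LD1_c27 LD2_c44 LD3_c27))))))
theorem f551419 : Led Lsl_df (LP (LK LD1_c32 LD2_c25 LD3_c14)) = (LP (LK LD1_c28 LD2_c43 LD3_c48)) :=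
  Lgr Lrot153 (Lpr_gt (f551417 IH) (Lpr_dt (f212956 IH) (Lpe (f212957 IH) (Lpr_df (f235654 IH) (Lpe (K38.f199334 IH) (Lpr_df (f417754 IH) (Lpr_gf (f395799 IH) (Lpe (f235185 IH) (Lpe (K38.f338136 IH) (Lpn (LP (LK LD1_c28 LD2_c43 LD3_c48))))))))))))
theorem f279666 : Led Lsl_ct (LP (LK LD1_c19 LD2_c18 LD3_c26)) = (LP (LK LD1_c10 LD2_c39 LD3_c43)) :=
  Lre_c IH (LK LD1_c19 LD2_c18 LD3_c26) (LK LD1_c10 LD2_c39 LD3_c43) Lrfl Lrfl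
theorem f551421 : Led Lsl_df (LP (LK LD1_c28 LD2_c43 LD3_c43)) = (LP (LK LD1_c32 LD2_c5 LD3_c53)) :=
  Lgr Lrot162 (Lpe (f279669 IH) (Lpe (K38.f279638 IH) (Lpe (f279666 IH) (Lpe (K38.f279677 IH) (Lpe (f551419 IH) (Lpr_gt (f551417 IH) (Lpr_ct (f312809 IH) (Lpr_gt (f417737 IH) (Lpe (f551409 IH) (Lpn (LP (LK LD1_c32 LD2_c5 LD3_c53))))))))))))
theorem f551423 : Led Lsl_dt (LP (LK LD1_c28 LD2_c43 LD3_c43)) = (LP (LK LD1_c32 LD2_c5 LD3_c53)) :=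
  Lgr Lrot42 (Lpr_df (f551421 IH) (Lpn (LP (LK LD1_c32 LD2_c5 LD3_c53))))
theorem f728808 : Led Lsl_ff (LP (LK LD1_c32 LD2_c38 LD3_c4)) = (LP (LK LD1_c32 LD2_c5 LD3_c53)) :=
  Lgr Lrot19 (Lpr_dt (f396719 IH) (Lpr_ft (f728804 IH) (Lpr_dt (f551423 IH) (Lpn (LP (LK LD1_c32 LD2_c5 LD3_c53))))))
theorem f338096 : Led Lsl_at (LP (LK LD1_c27 LD2_c44 LD3_c27)) = (LP (LK LD1_c18 LD2_c2 LD3_c42)) :=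
  Lre_a IH (LK LD1_c27 LD2_c44 LD3_c27) (LK LD1_c18 LD2_c2 LD3_c42) Lrfl Lrfl
theorem f399942 : Led Lsl_gt (LP (LK LD1_c19 LD2_c18 LD3_c23)) = (LP (LK LD1_c19 LD2_c14 LD3_c35)) :=
  Lgr Lrot5 (Lpr_ft (K41.f338131 IH) (Lpr_at (f338096 IH) (Lpr_gf (K54.f399938 IH) (Lpn (LP (LK LD1_c19 LD2_c14 LD3_c35))))))
theorem f551401 : Led Lsl_df (LP (LK LD1_c32 LD2_c5 LD3_c50)) = (LP (LK LD1_c28 LD2_c41 LD3_c36)) :=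
  Lgr Lrot153 (Lpr_gt (f551391 IH) (Lpr_dt (K22.f234011 IH) (Lpe (K22.f234012 IH) (Lpe (K22.f234088 IH) (Lpe (K54.f221607 IH) (Lpe (K67.f312880 IH) (Lpe (f399942 IH) (Lpe (K22.f338130 IH) (Lpr_gt (K45.f409935 IH) (Lpn (LP (LK LD1_c28 LD2_c41 LD3_c36))))))))))))
theorem f218608 : Led Lsl_at (LP (LK LD1_c28 LD2_c41 LD3_c38)) = (LP (LK LD1_c19 LD2_c15 LD3_c32)) :=
  Lre_a IH (LK LD1_c28 LD2_c41 LD3_c38) (LK LD1_c19 LD2_c15 LD3_c32) Lrfl Lrfl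
theorem f217844 : Led Lsl_gt (LP (LK LD1_c28 LD2_c41 LD3_c43)) = (LP (LK LD1_c19 LD2_c15 LD3_c32)) :=
  Lre_g IH (LK LD1_c28 LD2_c41 LD3_c43) (LK LD1_c19 LD2_c15 LD3_c32) Lrfl Lrfl
theorem f312803 : Led Lsl_gf (LP (LK LD1_c28 LD2_c41 LD3_c43)) = (LP (LK LD1_c32 LD2_c35 LD3_c23)) :=
  Lgr Lrot47 (Lpr_gt (f217844 IH) (Lpe (f218608 IH) (Lpr_ff (f312799 IH) (Lpn (LP (LK LD1_c32 LD2_c35 LD3_c23))))))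
theorem f551403 : Led Lsl_cf (LP (LK LD1_c32 LD2_c38 LD3_c4)) = (LP (LK LD1_c28 LD2_c41 LD3_c43)) :=
  Lgr Lrot175 (Lpr_dt (f396719 IH) (Lpe (f312115 IH) (Lpe (K67.f409948 IH) (Lpe (K49.f235181 IH) (Lpr_gf (K45.f409933 IH) (Lpe (f551401 IH) (Lpr_gt (f551391 IH) (Lpr_ct (K22.f312773 IH) (Lpe (f312803 IH) (Lpn (LP (LK LD1_c28 LD2_c41 LD3_c43))))))))))))
theorem f551480 : Led Lsl_ct (LP (LK LD1_c32 LD2_c38 LD3_c4)) = (LP (LK LD1_c28 LD2_c41 LD3_c43)) :=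
  Lgr Lrot59 (Lpr_cf (f551403 IH) (Lpn (LP (LK LD1_c28 LD2_c41 LD3_c43))))
theorem f728812 : Led Lsl_ft (LP (LK LD1_c28 LD2_c41 LD3_c43)) = (LP (LK LD1_c28 LD2_c44 LD3_c5)) :=
  Lgr Lrot4 (Lpe (f551480 IH) (Lpr_ff (f728808 IH) (Lpr_cf (f551409 IH) (Lpn (LP (LK LD1_c28 LD2_c44 LD3_c5))))))
theorem f728816 : Led Lsl_ff (LP (LK LD1_c28 LD2_c41 LD3_c43)) = (LP (LK LD1_c28 LD2_c44 LD3_c5)) :=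
  Lgr Lrot3 (Lpr_ft (f728812 IH) (Lpn (LP (LK LD1_c28 LD2_c44 LD3_c5))))
theorem f444753 : Led Lsl_bt (LP (LK LD1_c16 LD2_c14 LD3_c43)) = (LP (LK LD1_c26 LD2_c11 LD3_c58)) :=
  Lre_b IH (LK LD1_c16 LD2_c14 LD3_c43) (LK LD1_c26 LD2_c11 LD3_c58) Lrfl Lrfl
theorem f444777 : Led Lsl_ft (LP (LK LD1_c26 LD2_c11 LD3_c58)) = (LP (LK LD1_c16 LD2_c14 LD3_c43)) :=
  Lgr Lrot4 (Lpr_cf (K40.f444772 IH) (Lpe (K40.f382248 IH) (Lpe (K40.f232469 IH) (Lpn (LP (LK LD1_c16 LD2_c14 LD3_c43))))))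
theorem f382311 : Led Lsl_at (LP (LK LD1_c16 LD2_c14 LD3_c43)) = (LP (LK LD1_c26 LD2_c11 LD3_c50)) :=
  Lre_a IH (LK LD1_c16 LD2_c14 LD3_c43) (LK LD1_c26 LD2_c11 LD3_c50) Lrfl Lrfl
theorem f444805 : Led Lsl_ft (LP (LK LD1_c26 LD2_c11 LD3_c50)) = (LP (LK LD1_c32 LD2_c5 LD3_c35)) :=
  Lre_f IH (LK LD1_c26 LD2_c11 LD3_c50) (LK LD1_c32 LD2_c5 LD3_c35) Lrfl Lrfl
theorem f444806 : Led Lsl_af (LP (LK LD1_c26 LD2_c11 LD3_c58)) = (LP (LK LD1_c32 LD2_c5 LD3_c35)) :=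
  Lgr Lrot45 (Lpr_ft (f444777 IH) (Lpr_at (f382311 IH) (Lpr_ft (f444805 IH) (Lpn (LP (LK LD1_c32 LD2_c5 LD3_c35))))))
theorem f444810 : Led Lsl_gt (LP (LK LD1_c26 LD2_c11 LD3_c50)) = (LP (LK LD1_c32 LD2_c5 LD3_c43)) :=
  Lre_g IH (LK LD1_c26 LD2_c11 LD3_c50) (LK LD1_c32 LD2_c5 LD3_c43) Lrfl Lrfl
theorem f444811 : Led Lsl_gf (LP (LK LD1_c26 LD2_c11 LD3_c58)) = (LP (LK LD1_c32 LD2_c5 LD3_c43)) :=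
  Lgr Lrot76 (Lpr_af (f444806 IH) (Lpe (f444805 IH) (Lpr_gt (f444810 IH) (Lpn (LP (LK LD1_c32 LD2_c5 LD3_c43))))))
theorem f551484 : Led Lsl_bt (LP (LK LD1_c32 LD2_c38 LD3_c4)) = (LP (LK LD1_c32 LD2_c5 LD3_c43)) :=
  Lgr Lrot22 (Lpr_ct (f551480 IH) (Lpr_gf (f312803 IH) (Lpe (K22.f312773 IH) (Lpe (f551391 IH) (Lpe (f444816 IH) (Lpr_ct (f444815 IH) (Lpe (f39079 IH) (Lpe (K40.f232469 IH) (Lpr_bt (f444753 IH) (Lpr_gf (f444811 IH) (Lpn (LP (LK LD1_c32 LD2_c5 LD3_c43)))))))))))))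
theorem f1762 : Led Lsl_gt (LP (LK LD1_c9 LD2_c34 LD3_c1)) = (LP (LK LD1_c17 LD2_c37 LD3_c3)) :=
  Lre_g IH (LK LD1_c9 LD2_c34 LD3_c1) (LK LD1_c17 LD2_c37 LD3_c3) Lrfl Lrfl
theorem f2021 : Led Lsl_bt (LP (LK LD1_c27 LD2_c25 LD3_c17)) = (LP (LK LD1_c17 LD2_c37 LD3_c3)) :=
  Lre_b IH (LK LD1_c27 LD2_c25 LD3_c17) (LK LD1_c17 LD2_c37 LD3_c3) Lrfl Lrfl
theorem f444813 : Led Lsl_ct (LP (LK LD1_c27 LD2_c25 LD3_c17)) = (LP (LK LD1_c32 LD2_c5 LD3_c43)) :=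
  Lgr Lrot64 (Lpr_bt (f2021 IH) (Lpe (f1762 IH) (Lpe (K35.f1743 IH) (Lpr_ct (K0.f1721 IH) (Lpe (K13.f233382 IH) (Lpr_cf (K13.f233333 IH) (Lpe (K13.f232327 IH) (Lpr_bf (K40.f444751 IH) (Lpe (K40.f444772 IH) (Lpr_gf (f444811 IH) (Lpn (LP (LK LD1_c32 LD2_c5 LD3_c43)))))))))))))
theorem f444818 : Led Lsl_cf (LP (LK LD1_c27 LD2_c25 LD3_c17)) = (LP (LK LD1_c32 LD2_c5 LD3_c43)) :=
  Lgr Lrot11 (Lpr_ct (f444813 IH) (Lpn (LP (LK LD1_c32 LD2_c5 LD3_c43))))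
theorem f2020 : Led Lsl_ct (LP (LK LD1_c17 LD2_c37 LD3_c3)) = (LP (LK LD1_c27 LD2_c25 LD3_c18)) :=
  Lre_c IH (LK LD1_c17 LD2_c37 LD3_c3) (LK LD1_c27 LD2_c25 LD3_c18) Lrfl Lrfl
theorem f551488 : Led Lsl_bf (LP (LK LD1_c28 LD2_c41 LD3_c43)) = (LP (LK LD1_c27 LD2_c25 LD3_c18)) :=
  Lgr Lrot90 (Lpe (f551403 IH) (Lpr_bt (f551484 IH) (Lpe (f444818 IH) (Lpr_bt (f2021 IH) (Lpr_ct (f2020 IH) (Lpn (LP (LK LD1_c27 LD2_c25 LD3_c18))))))))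
theorem f551490 : Led Lsl_bt (LP (LK LD1_c28 LD2_c41 LD3_c43)) = (LP (LK LD1_c27 LD2_c25 LD3_c18)) :=
  Lgr Lrot127 (Lpr_bf (f551488 IH) (Lpn (LP (LK LD1_c27 LD2_c25 LD3_c18))))
theorem f728826 : Led Lsl_ft (LP (LK LD1_c27 LD2_c25 LD3_c18)) = (LP (LK LD1_c27 LD2_c28 LD3_c49)) :=
  Lgr Lrot75 (Lpe (f551490 IH) (Lpr_ff (f728816 IH) (Lpe (f551411 IH) (Lpn (LP (LK LD1_c27 LD2_c28 LD3_c49))))))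
theorem f728828 : Led Lsl_ff (LP (LK LD1_c17 LD2_c37 LD3_c3)) = (LP (LK LD1_c17 LD2_c41 LD3_c18)) :=
  Lgr Lrot23 (Lpr_ct (f2020 IH) (Lpr_ft (f728826 IH) (Lpr_ct (f2061 IH) (Lpn (LP (LK LD1_c17 LD2_c41 LD3_c18))))))
theorem f1768 : Led Lsl_bt (LP (LK LD1_c9 LD2_c34 LD3_c1)) = (LP (LK LD1_c4 LD2_c50 LD3_c59)) :=
  Lre_b IH (LK LD1_c9 LD2_c34 LD3_c1) (LK LD1_c4 LD2_c50 LD3_c59) Lrfl Lrfl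
theorem f1769 : Led Lsl_ft (LP (LK LD1_c9 LD2_c36 LD3_c19)) = (LP (LK LD1_c9 LD2_c34 LD3_c1)) :=
  Lgr Lrot75 (Lpe (K39.f1767 IH) (Lpr_ff (K13.f1756 IH) (Lpe (f1768 IH) (Lpn (LP (LK LD1_c9 LD2_c34 LD3_c1))))))
theorem f1943 : Led Lsl_at (LP (LK LD1_c9 LD2_c34 LD3_c1)) = (LP (LK LD1_c17 LD2_c37 LD3_c2)) :=
  Lre_a IH (LK LD1_c9 LD2_c34 LD3_c1) (LK LD1_c17 LD2_c37 LD3_c2) Lrfl Lrfl
theorem f2059 : Led Lsl_gt (LP (LK LD1_c17 LD2_c41 LD3_c18)) = (LP (LK LD1_c17 LD2_c37 LD3_c2)) :=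
  Lgr Lrot46 (Lpe (f1946 IH) (Lpr_ft (f1769 IH) (Lpr_at (f1943 IH) (Lpn (LP (LK LD1_c17 LD2_c37 LD3_c2))))))
theorem f1950 : Led Lsl_at (LP (LK LD1_c9 LD2_c36 LD3_c19)) = (LP (LK LD1_c17 LD2_c41 LD3_c20)) :=
  Lre_a IH (LK LD1_c9 LD2_c36 LD3_c19) (LK LD1_c17 LD2_c41 LD3_c20) Lrfl Lrfl
theorem f1952 : Led Lsl_dt (LP (LK LD1_c17 LD2_c41 LD3_c20)) = (LP (LK LD1_c17 LD2_c36 LD3_c53)) :=
  Lgr Lrot44 (Lpe (f1950 IH) (Lpr_df (K39.f1938 IH) (Lpe (K35.f1951 IH) (Lpn (LP (LK LD1_c17 LD2_c36 LD3_c53))))))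
theorem f1965 : Led Lsl_ft (LP (LK LD1_c17 LD2_c36 LD3_c53)) = (LP (LK LD1_c9 LD2_c34 LD3_c0)) :=
  Lre_f IH (LK LD1_c17 LD2_c36 LD3_c53) (LK LD1_c9 LD2_c34 LD3_c0) Lrfl Lrfl
theorem f1967 : Led Lsl_ff (LP (LK LD1_c17 LD2_c41 LD3_c20)) = (LP (LK LD1_c17 LD2_c37 LD3_c2)) :=
  Lgr Lrot19 (Lpr_dt (f1952 IH) (Lpr_ft (f1965 IH) (Lpr_dt (K35.f1966 IH) (Lpn (LP (LK LD1_c17 LD2_c37 LD3_c2))))))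
theorem f1934 : Led Lsl_at (LP (LK LD1_c17 LD2_c41 LD3_c20)) = (LP (LK LD1_c9 LD2_c36 LD3_c19)) :=
  Lre_a IH (LK LD1_c17 LD2_c41 LD3_c20) (LK LD1_c9 LD2_c36 LD3_c19) Lrfl Lrfl
theorem f1945 : Led Lsl_gt (LP (LK LD1_c17 LD2_c41 LD3_c19)) = (LP (LK LD1_c9 LD2_c36 LD3_c19)) :=
  Lre_g IH (LK LD1_c17 LD2_c41 LD3_c19) (LK LD1_c9 LD2_c36 LD3_c19) Lrfl Lrfl
theorem f1983 : Led Lsl_gf (LP (LK LD1_c17 LD2_c41 LD3_c19)) = (LP (LK LD1_c17 LD2_c37 LD3_c2)) :=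
  Lgr Lrot47 (Lpr_gt (f1945 IH) (Lpe (f1934 IH) (Lpr_ff (f1967 IH) (Lpn (LP (LK LD1_c17 LD2_c37 LD3_c2))))))
theorem f728836 : Led Lsl_at (LP (LK LD1_c17 LD2_c37 LD3_c3)) = (LP (LK LD1_c17 LD2_c41 LD3_c19)) :=
  Lgr Lrot26 (Lpr_ff (f728828 IH) (Lpr_gt (f2059 IH) (Lpe (f1983 IH) (Lpn (LP (LK LD1_c17 LD2_c41 LD3_c19))))))
theorem f217843 : Led Lsl_dt (LP (LK LD1_c19 LD2_c15 LD3_c32)) = (LP (LK LD1_c10 LD2_c37 LD3_c59)) :=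
  Lre_d IH (LK LD1_c19 LD2_c15 LD3_c32) (LK LD1_c10 LD2_c37 LD3_c59) Lrfl Lrfl
theorem f217842 : Led Lsl_ct (LP (LK LD1_c10 LD2_c37 LD3_c59)) = (LP (LK LD1_c5 LD2_c23 LD3_c43)) :=
  Lre_c IH (LK LD1_c10 LD2_c37 LD3_c59) (LK LD1_c5 LD2_c23 LD3_c43) Lrfl Lrfl
theorem f217763 : Led Lsl_bt (LP (LK LD1_c5 LD2_c23 LD3_c43)) = (LP (LK LD1_c2 LD2_c38 LD3_c25)) :=
  Lre_b IH (LK LD1_c5 LD2_c23 LD3_c43) (LK LD1_c2 LD2_c38 LD3_c25) Lrfl Lrfl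
theorem f315335 : Led Lsl_gt (LP (LK LD1_c15 LD2_c34 LD3_c43)) = (LP (LK LD1_c25 LD2_c28 LD3_c45)) :=
  Lre_g IH (LK LD1_c15 LD2_c34 LD3_c43) (LK LD1_c25 LD2_c28 LD3_c45) Lrfl Lrfl
theorem f551492 : Led Lsl_dt (LP (LK LD1_c25 LD2_c28 LD3_c45)) = (LP (LK LD1_c17 LD2_c37 LD3_c3)) :=
  Lgr Lrot182 (Lpe (f315335 IH) (Lpe (K20.f315334 IH) (Lpr_cf (K20.f315330 IH) (Lpe (K20.f315318 IH) (Lpe (K14.f238222 IH) (Lpr_bf (K16.f271029 IH) (Lpe (K16.f271039 IH) (Lpr_df (K16.f261416 IH) (Lpe (K12.f27399 IH) (Lpe (K11.f43266 IH) (Lpe (K12.f217628 IH) (Lpr_df (K12.f217650 IH) (Lpr_gf (K14.f217840 IH) (Lpe (f217763 IH) (Lpe (f217842 IH) (Lpe (f217843 IH) (Lpe (f217844 IH) (Lpr_bf (f551488 IH) (Lpe (f2020 IH) (Lpn (LP (LK LD1_c17 LD2_c37 LD3_c3))))))))))))))))))))))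
theorem f220555 : Led Lsl_ct (LP (LK LD1_c2 LD2_c41 LD3_c8)) = (LP (LK LD1_c2 LD2_c28 LD3_c14)) :=
  Lgr Lrot151 (Lpe (K13.f220554 IH) (Lpe (K13.f213795 IH) (Lpe (K15.f220553 IH) (Lpr_dt (K12.f220530 IH) (Lpr_gt (K12.f51467 IH) (Lpr_ct (K9.f51477 IH) (Lpr_gt (K9.f52209 IH) (Lpr_ct (K17.f53410 IH) (Lpr_dt (K16.f170505 IH) (Lpn (LP (LK LD1_c2 LD2_c28 LD3_c14))))))))))))
theorem f551413 : Led Lsl_df (LP (LK LD1_c17 LD2_c41 LD3_c18)) = (LP (LK LD1_c17 LD2_c37 LD3_c21)) :=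
  Lgr Lrot183 (Lpr_ct (f1947 IH) (Lpr_bt (f551411 IH) (Lpe (f417734 IH) (Lpr_dt (f224545 IH) (Lpr_ct (K19.f224544 IH) (Lpr_bt (K19.f223799 IH) (Lpr_gt (K12.f223796 IH) (Lpr_dt (K12.f224542 IH) (Lpe (K12.f224487 IH) (Lpe (K12.f224214 IH) (Lpr_gt (K12.f27506 IH) (Lpe (K25.f236364 IH) (Lpr_ct (f220555 IH) (Lpr_bt (K13.f33319 IH) (Lpe (K13.f233939 IH) (Lpr_dt (K13.f199188 IH) (Lpr_ct (K13.f2080 IH) (Lpr_bt (K52.f199199 IH) (Lpr_gt (f199200 IH) (Lpn (LP (LK LD1_c17 LD2_c37 LD3_c21))))))))))))))))))))))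
theorem f1985 : Led Lsl_dt (LP (LK LD1_c17 LD2_c37 LD3_c2)) = (LP (LK LD1_c9 LD2_c34 LD3_c0)) :=
  Lre_d IH (LK LD1_c17 LD2_c37 LD3_c2) (LK LD1_c9 LD2_c34 LD3_c0) Lrfl Lrfl
theorem f30319 : Led Lsl_at (LP (LK LD1_c8 LD2_c1 LD3_c37)) = (LP (LK LD1_c15 LD2_c6 LD3_c57)) :=
  Lre_a IH (LK LD1_c8 LD2_c1 LD3_c37) (LK LD1_c15 LD2_c6 LD3_c57) Lrfl Lrfl
theorem f30320 : Led Lsl_ff (LP (LK LD1_c8 LD2_c1 LD3_c37)) = (LP (LK LD1_c8 LD2_c1 LD3_c8)) :=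
  Lgr Lrot30 (Lpr_at (f30319 IH) (Lpr_ft (K35.f30317 IH) (Lpr_at (K35.f30316 IH) (Lpn (LP (LK LD1_c8 LD2_c1 LD3_c8))))))
theorem f30492 : Led Lsl_gf (LP (LK LD1_c15 LD2_c6 LD3_c57)) = (LP (LK LD1_c15 LD2_c5 LD3_c53)) :=
  Lgr Lrot76 (Lpe (f30319 IH) (Lpr_ff (f30320 IH) (Lpr_gt (K38.f30491 IH) (Lpn (LP (LK LD1_c15 LD2_c5 LD3_c53))))))
theorem f551430 : Led Lsl_df (LP (LK LD1_c15 LD2_c5 LD3_c53)) = (LP (LK LD1_c15 LD2_c23 LD3_c26)) :=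
  Lgr Lrot153 (Lpe (f30492 IH) (Lpr_dt (K35.f29884 IH) (Lpr_cf (K50.f29817 IH) (Lpe (f1985 IH) (Lpe (f2059 IH) (Lpr_df (f551413 IH) (Lpe (f199200 IH) (Lpe (K52.f199276 IH) (Lpr_gt (K52.f199284 IH) (Lpn (LP (LK LD1_c15 LD2_c23 LD3_c26))))))))))))
theorem f29724 : Led Lsl_gt (LP (LK LD1_c24 LD2_c53 LD3_c47)) = (LP (LK LD1_c15 LD2_c5 LD3_c46)) :=
  Lre_g IH (LK LD1_c24 LD2_c53 LD3_c47) (LK LD1_c15 LD2_c5 LD3_c46) Lrfl Lrfl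
theorem f30361 : Led Lsl_gt (LP (LK LD1_c24 LD2_c55 LD3_c4)) = (LP (LK LD1_c24 LD2_c53 LD3_c47)) :=
  Lgr Lrot5 (Lpr_ft (K35.f30342 IH) (Lpr_at (K35.f29911 IH) (Lpe (f29724 IH) (Lpn (LP (LK LD1_c24 LD2_c53 LD3_c47))))))
theorem f39276 : Led Lsl_bt (LP (LK LD1_c3 LD2_c57 LD3_c8)) = (LP (LK LD1_c7 LD2_c55 LD3_c59)) :=
  Lre_b IH (LK LD1_c3 LD2_c57 LD3_c8) (LK LD1_c7 LD2_c55 LD3_c59) Lrfl Lrfl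
theorem f39277 : Led Lsl_gt (LP (LK LD1_c7 LD2_c55 LD3_c59)) = (LP (LK LD1_c14 LD2_c57 LD3_c58)) :=
  Lre_g IH (LK LD1_c7 LD2_c55 LD3_c59) (LK LD1_c14 LD2_c57 LD3_c58) Lrfl Lrfl
theorem f39278 : Led Lsl_bt (LP (LK LD1_c24 LD2_c45 LD3_c30)) = (LP (LK LD1_c14 LD2_c57 LD3_c58)) :=
  Lre_b IH (LK LD1_c24 LD2_c45 LD3_c30) (LK LD1_c14 LD2_c57 LD3_c58) Lrfl Lrfl
theorem f29699 : Led Lsl_bt (LP (LK LD1_c8 LD2_c1 LD3_c8)) = (LP (LK LD1_c4 LD2_c0 LD3_c3)) :=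
  Lre_b IH (LK LD1_c8 LD2_c1 LD3_c8) (LK LD1_c4 LD2_c0 LD3_c3) Lrfl Lrfl
theorem f29723 : Led Lsl_ct (LP (LK LD1_c8 LD2_c1 LD3_c8)) = (LP (LK LD1_c15 LD2_c5 LD3_c46)) :=
  Lre_c IH (LK LD1_c8 LD2_c1 LD3_c8) (LK LD1_c15 LD2_c5 LD3_c46) Lrfl Lrfl
theorem f229417 : Led Lsl_ct (LP (LK LD1_c24 LD2_c45 LD3_c30)) = (LP (LK LD1_c24 LD2_c53 LD3_c47)) :=
  Lgr Lrot64 (Lpr_bt (f39278 IH) (Lpe (f39277 IH) (Lpe (f39276 IH) (Lpr_ct (K1.f39248 IH) (Lpr_gf (K12.f229408 IH) (Lpr_cf (K12.f197738 IH) (Lpe (K12.f29720 IH) (Lpe (f29699 IH) (Lpr_ct (f29723 IH) (Lpe (f29724 IH) (Lpn (LP (LK LD1_c24 LD2_c53 LD3_c47)))))))))))))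
theorem f229426 : Led Lsl_cf (LP (LK LD1_c24 LD2_c45 LD3_c30)) = (LP (LK LD1_c24 LD2_c53 LD3_c47)) :=
  Lgr Lrot11 (Lpr_ct (f229417 IH) (Lpn (LP (LK LD1_c24 LD2_c53 LD3_c47))))
theorem f315364 : Led Lsl_ct (LP (LK LD1_c8 LD2_c40 LD3_c35)) = (LP (LK LD1_c15 LD2_c34 LD3_c43)) :=
  Lgr Lrot59 (Lpr_cf (K20.f315358 IH) (Lpn (LP (LK LD1_c15 LD2_c34 LD3_c43))))
theorem f357151 : Led Lsl_ft (LP (LK LD1_c8 LD2_c10 LD3_c21)) = (LP (LK LD1_c8 LD2_c40 LD3_c35)) :=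
  Lgr Lrot4 (Lpr_cf (K52.f199270 IH) (Lpr_ff (f357147 IH) (Lpe (f315364 IH) (Lpn (LP (LK LD1_c8 LD2_c40 LD3_c35))))))
theorem f357180 : Led Lsl_gt (LP (LK LD1_c15 LD2_c23 LD3_c26)) = (LP (LK LD1_c16 LD2_c14 LD3_c57)) :=
  Lgr Lrot46 (Lpe (K52.f199284 IH) (Lpr_ft (f357151 IH) (Lpr_at (f315360 IH) (Lpn (LP (LK LD1_c16 LD2_c14 LD3_c57))))))
theorem f178446 : Led Lsl_at (LP (LK LD1_c15 LD2_c48 LD3_c54)) = (LP (LK LD1_c8 LD2_c24 LD3_c46)) :=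
  Lre_a IH (LK LD1_c15 LD2_c48 LD3_c54) (LK LD1_c8 LD2_c24 LD3_c46) Lrfl Lrfl
theorem f357021 : Led Lsl_bf (LP (LK LD1_c15 LD2_c48 LD3_c54)) = (LP (LK LD1_c17 LD2_c37 LD3_c23)) :=
  Lgr Lrot81 (Lpr_at (f178446 IH) (Lpr_bt (K27.f178447 IH) (Lpr_at (K25.f357013 IH) (Lpr_bt (K52.f199199 IH) (Lpr_at (f199292 IH) (Lpn (LP (LK LD1_c17 LD2_c37 LD3_c23))))))))
theorem f357137 : Led Lsl_ff (LP (LK LD1_c17 LD2_c37 LD3_c23)) = (LP (LK LD1_c25 LD2_c28 LD3_c47)) :=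
  Lgr Lrot25 (Lpe (f357021 IH) (Lpr_ft (K38.f357116 IH) (Lpe (K38.f357103 IH) (Lpn (LP (LK LD1_c25 LD2_c28 LD3_c47))))))
theorem f199273 : Led Lsl_at (LP (LK LD1_c17 LD2_c37 LD3_c23)) = (LP (LK LD1_c9 LD2_c34 LD3_c15)) :=
  Lre_a IH (LK LD1_c17 LD2_c37 LD3_c23) (LK LD1_c9 LD2_c34 LD3_c15) Lrfl Lrfl
theorem f199286 : Led Lsl_gt (LP (LK LD1_c17 LD2_c37 LD3_c22)) = (LP (LK LD1_c9 LD2_c34 LD3_c15)) :=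
  Lre_g IH (LK LD1_c17 LD2_c37 LD3_c22) (LK LD1_c9 LD2_c34 LD3_c15) Lrfl Lrfl
theorem f357183 : Led Lsl_gf (LP (LK LD1_c17 LD2_c37 LD3_c22)) = (LP (LK LD1_c25 LD2_c28 LD3_c47)) :=
  Lgr Lrot47 (Lpr_gt (f199286 IH) (Lpe (f199273 IH) (Lpr_ff (f357137 IH) (Lpn (LP (LK LD1_c25 LD2_c28 LD3_c47))))))
theorem f236987 : Led Lsl_ct (LP (LK LD1_c17 LD2_c37 LD3_c22)) = (LP (LK LD1_c27 LD2_c25 LD3_c35)) :=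
  Lre_c IH (LK LD1_c17 LD2_c37 LD3_c22) (LK LD1_c27 LD2_c25 LD3_c35) Lrfl Lrfl
theorem f551437 : Led Lsl_dt (LP (LK LD1_c24 LD2_c45 LD3_c30)) = (LP (LK LD1_c27 LD2_c25 LD3_c35)) :=
  Lgr Lrot27 (Lpr_cf (f229426 IH) (Lpe (f30361 IH) (Lpe (K35.f29909 IH) (Lpr_gf (f30492 IH) (Lpr_df (f551430 IH) (Lpr_gt (f357180 IH) (Lpr_ct (f315362 IH) (Lpe (f357183 IH) (Lpr_ct (f236987 IH) (Lpn (LP (LK LD1_c27 LD2_c25 LD3_c35))))))))))))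
theorem f397413 : Led Lsl_gf (LP (LK LD1_c19 LD2_c5 LD3_c19)) = (LP (LK LD1_c10 LD2_c40 LD3_c21)) :=
  Lgr Lrot76 (Lpe (K30.f221791 IH) (Lpr_ff (K22.f339393 IH) (Lpr_gt (K31.f397272 IH) (Lpn (LP (LK LD1_c10 LD2_c40 LD3_c21))))))
theorem f397593 : Led Lsl_gt (LP (LK LD1_c31 LD2_c38 LD3_c24)) = (LP (LK LD1_c24 LD2_c45 LD3_c30)) :=
  Lgr Lrot82 (Lpr_bf (K30.f397575 IH) (Lpr_ct (K30.f397587 IH) (Lpr_gf (f397413 IH) (Lpe (K47.f246602 IH) (Lpr_bt (K18.f29725 IH) (Lpe (K12.f29720 IH) (Lpe (f29699 IH) (Lpr_ct (f29723 IH) (Lpe (f29724 IH) (Lpe (f229417 IH) (Lpn (LP (LK LD1_c24 LD2_c45 LD3_c30)))))))))))))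
theorem f421866 : Led Lsl_ct (LP (LK LD1_c27 LD2_c25 LD3_c9)) = (LP (LK LD1_c17 LD2_c36 LD3_c59)) :=
  Lre_c IH (LK LD1_c27 LD2_c25 LD3_c9) (LK LD1_c17 LD2_c36 LD3_c59) Lrfl Lrfl
theorem f551444 : Led Lsl_dt (LP (LK LD1_c17 LD2_c41 LD3_c19)) = (LP (LK LD1_c17 LD2_c37 LD3_c22)) :=
  Lgr Lrot105 (Lpr_gf (f1983 IH) (Lpe (K35.f1966 IH) (Lpr_gf (K49.f421873 IH) (Lpe (f421866 IH) (Lpe (K49.f421863 IH) (Lpr_dt (K30.f397572 IH) (Lpr_gt (f397593 IH) (Lpr_dt (f551437 IH) (Lpe (f236987 IH) (Lpn (LP (LK LD1_c17 LD2_c37 LD3_c22))))))))))))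
theorem f728840 : Led Lsl_af (LP (LK LD1_c25 LD2_c28 LD3_c45)) = (LP (LK LD1_c17 LD2_c37 LD3_c22)) :=
  Lgr Lrot117 (Lpr_dt (f551492 IH) (Lpr_at (f728836 IH) (Lpr_dt (f551444 IH) (Lpn (LP (LK LD1_c17 LD2_c37 LD3_c22))))))
theorem f315369 : Led Lsl_gt (LP (LK LD1_c25 LD2_c28 LD3_c46)) = (LP (LK LD1_c15 LD2_c34 LD3_c43)) :=
  Lre_g IH (LK LD1_c25 LD2_c28 LD3_c46) (LK LD1_c15 LD2_c34 LD3_c43) Lrfl Lrfl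
theorem f728846 : Led Lsl_ft (LP (LK LD1_c25 LD2_c28 LD3_c46)) = (LP (LK LD1_c17 LD2_c37 LD3_c22)) :=
  Lgr Lrot2 (Lpr_gt (f315369 IH) (Lpr_gt (f315335 IH) (Lpr_af (f728840 IH) (Lpn (LP (LK LD1_c17 LD2_c37 LD3_c22))))))
theorem f728854 : Led Lsl_ff (LP (LK LD1_c25 LD2_c28 LD3_c46)) = (LP (LK LD1_c17 LD2_c37 LD3_c22)) :=
  Lgr Lrot3 (Lpr_ft (f728846 IH) (Lpn (LP (LK LD1_c17 LD2_c37 LD3_c22))))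
theorem f728860 : Led Lsl_at (LP (LK LD1_c25 LD2_c28 LD3_c46)) = (LP (LK LD1_c17 LD2_c37 LD3_c21)) :=
  Lgr Lrot26 (Lpr_ff (f728854 IH) (Lpr_gt (f199286 IH) (Lpr_gt (f199200 IH) (Lpn (LP (LK LD1_c17 LD2_c37 LD3_c21))))))
theorem f728842 : Led Lsl_at (LP (LK LD1_c25 LD2_c28 LD3_c45)) = (LP (LK LD1_c17 LD2_c37 LD3_c22)) :=
  Lgr Lrot100 (Lpr_af (f728840 IH) (Lpn (LP (LK LD1_c17 LD2_c37 LD3_c22))))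
theorem f728866 : Led Lsl_ff (LP (LK LD1_c25 LD2_c28 LD3_c45)) = (LP (LK LD1_c17 LD2_c37 LD3_c21)) :=
  Lgr Lrot30 (Lpr_at (f728842 IH) (Lpe (f728854 IH) (Lpr_at (f728860 IH) (Lpn (LP (LK LD1_c17 LD2_c37 LD3_c21))))))
theorem f250761 : Led Lsl_bt (LP (LK LD1_c8 LD2_c42 LD3_c40)) = (LP (LK LD1_c16 LD2_c19 LD3_c7)) :=
  Lre_b IH (LK LD1_c8 LD2_c42 LD3_c40) (LK LD1_c16 LD2_c19 LD3_c7) Lrfl Lrfl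
theorem f400916 : Led Lsl_ff (LP (LK LD1_c17 LD2_c53 LD3_c61)) = (LP (LK LD1_c16 LD2_c19 LD3_c7)) :=
  Lgr Lrot25 (Lpr_bt (K38.f168471 IH) (Lpr_ft (K38.f400914 IH) (Lpr_bt (f250761 IH) (Lpn (LP (LK LD1_c16 LD2_c19 LD3_c7))))))
theorem f400894 : Led Lsl_at (LP (LK LD1_c17 LD2_c53 LD3_c61)) = (LP (LK LD1_c25 LD2_c55 LD3_c39)) :=
  Lgr Lrot100 (Lpr_af (K38.f400892 IH) (Lpn (LP (LK LD1_c25 LD2_c55 LD3_c39))))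
theorem f250764 : Led Lsl_gt (LP (LK LD1_c16 LD2_c19 LD3_c7)) = (LP (LK LD1_c26 LD2_c16 LD3_c60)) :=
  Lre_g IH (LK LD1_c16 LD2_c19 LD3_c7) (LK LD1_c26 LD2_c16 LD3_c60) Lrfl Lrfl
theorem f401159 : Led Lsl_gf (LP (LK LD1_c25 LD2_c55 LD3_c39)) = (LP (LK LD1_c26 LD2_c16 LD3_c60)) :=
  Lgr Lrot76 (Lpe (f400894 IH) (Lpr_ff (f400916 IH) (Lpr_gt (f250764 IH) (Lpn (LP (LK LD1_c26 LD2_c16 LD3_c60))))))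
theorem f401162 : Led Lsl_ct (LP (LK LD1_c25 LD2_c28 LD3_c45)) = (LP (LK LD1_c26 LD2_c16 LD3_c60)) :=
  Lgr Lrot91 (Lpe (f315335 IH) (Lpe (K20.f315334 IH) (Lpr_ct (K21.f315328 IH) (Lpe (K20.f315336 IH) (Lpe (K13.f167373 IH) (Lpr_bt (K26.f289 IH) (Lpe (K38.f167406 IH) (Lpe (K38.f167415 IH) (Lpe (K38.f243511 IH) (Lpr_gf (f401159 IH) (Lpn (LP (LK LD1_c26 LD2_c16 LD3_c60)))))))))))))
theorem f728868 : Led Lsl_ft (LP (LK LD1_c26 LD2_c16 LD3_c60)) = (LP (LK LD1_c27 LD2_c25 LD3_c33)) :=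
  Lgr Lrot4 (Lpe (f401162 IH) (Lpr_ff (f728866 IH) (Lpe (f199304 IH) (Lpn (LP (LK LD1_c27 LD2_c25 LD3_c33))))))
theorem f728872 : Led Lsl_ff (LP (LK LD1_c26 LD2_c16 LD3_c60)) = (LP (LK LD1_c27 LD2_c25 LD3_c33)) :=
  Lgr Lrot3 (Lpr_ft (f728868 IH) (Lpn (LP (LK LD1_c27 LD2_c25 LD3_c33))))
theorem f199287 : Led Lsl_ct (LP (LK LD1_c27 LD2_c25 LD3_c35)) = (LP (LK LD1_c17 LD2_c37 LD3_c22)) :=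
  Lre_c IH (LK LD1_c27 LD2_c25 LD3_c35) (LK LD1_c17 LD2_c37 LD3_c22) Lrfl Lrfl
theorem f728844 : Led Lsl_at (LP (LK LD1_c26 LD2_c16 LD3_c60)) = (LP (LK LD1_c27 LD2_c25 LD3_c35)) :=
  Lgr Lrot107 (Lpe (f401162 IH) (Lpr_af (f728840 IH) (Lpe (f199287 IH) (Lpn (LP (LK LD1_c27 LD2_c25 LD3_c35))))))
theorem f236479 : Led Lsl_bt (LP (LK LD1_c4 LD2_c19 LD3_c18)) = (LP (LK LD1_c8 LD2_c36 LD3_c60)) :=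
  Lre_b IH (LK LD1_c4 LD2_c19 LD3_c18) (LK LD1_c8 LD2_c36 LD3_c60) Lrfl Lrfl
theorem f236480 : Led Lsl_gt (LP (LK LD1_c8 LD2_c36 LD3_c60)) = (LP (LK LD1_c16 LD2_c8 LD3_c30)) :=
  Lre_g IH (LK LD1_c8 LD2_c36 LD3_c60) (LK LD1_c16 LD2_c8 LD3_c30) Lrfl Lrfl
theorem f402958 : Led Lsl_bt (LP (LK LD1_c26 LD2_c5 LD3_c16)) = (LP (LK LD1_c16 LD2_c8 LD3_c30)) :=
  Lre_b IH (LK LD1_c26 LD2_c5 LD3_c16) (LK LD1_c16 LD2_c8 LD3_c30) Lrfl Lrfl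
theorem f402959 : Led Lsl_ct (LP (LK LD1_c26 LD2_c5 LD3_c16)) = (LP (LK LD1_c25 LD2_c28 LD3_c46)) :=
  Lgr Lrot64 (Lpr_bt (f402958 IH) (Lpe (f236480 IH) (Lpe (f236479 IH) (Lpr_ct (K13.f227942 IH) (Lpr_gf (K13.f180222 IH) (Lpe (K13.f182344 IH) (Lpe (K13.f182345 IH) (Lpe (K20.f239126 IH) (Lpr_ct (f315364 IH) (Lpe (f315369 IH) (Lpn (LP (LK LD1_c25 LD2_c28 LD3_c46)))))))))))))
theorem f728850 : Led Lsl_ff (LP (LK LD1_c26 LD2_c5 LD3_c16)) = (LP (LK LD1_c27 LD2_c25 LD3_c35)) :=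
  Lgr Lrot23 (Lpr_ct (f402959 IH) (Lpr_ft (f728846 IH) (Lpr_ct (f236987 IH) (Lpn (LP (LK LD1_c27 LD2_c25 LD3_c35))))))
theorem f728874 : Led Lsl_at (LP (LK LD1_c26 LD2_c5 LD3_c16)) = (LP (LK LD1_c27 LD2_c25 LD3_c33)) :=
  Lgr Lrot66 (Lpr_ff (f728850 IH) (Lpe (f728844 IH) (Lpr_ff (f728872 IH) (Lpn (LP (LK LD1_c27 LD2_c25 LD3_c33))))))
theorem f239144 : Led Lsl_gt (LP (LK LD1_c8 LD2_c40 LD3_c35)) = (LP (LK LD1_c16 LD2_c14 LD3_c55)) :=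
  Lre_g IH (LK LD1_c8 LD2_c40 LD3_c35) (LK LD1_c16 LD2_c14 LD3_c55) Lrfl Lrfl
theorem f1784 : Led Lsl_bt (LP (LK LD1_c9 LD2_c36 LD3_c19)) = (LP (LK LD1_c4 LD2_c52 LD3_c0)) :=
  Lre_b IH (LK LD1_c9 LD2_c36 LD3_c19) (LK LD1_c4 LD2_c52 LD3_c0) Lrfl Lrfl
theorem f1785 : Led Lsl_ff (LP (LK LD1_c9 LD2_c36 LD3_c19)) = (LP (LK LD1_c9 LD2_c34 LD3_c1)) :=
  Lgr Lrot25 (Lpr_bt (f1784 IH) (Lpr_ft (K13.f1780 IH) (Lpr_bt (K35.f1743 IH) (Lpn (LP (LK LD1_c9 LD2_c34 LD3_c1))))))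
theorem f2017 : Led Lsl_gf (LP (LK LD1_c17 LD2_c41 LD3_c20)) = (LP (LK LD1_c17 LD2_c37 LD3_c3)) :=
  Lgr Lrot76 (Lpe (f1950 IH) (Lpr_ff (f1785 IH) (Lpr_gt (f1762 IH) (Lpn (LP (LK LD1_c17 LD2_c37 LD3_c3))))))
theorem f29714 : Led Lsl_at (LP (LK LD1_c15 LD2_c6 LD3_c57)) = (LP (LK LD1_c8 LD2_c1 LD3_c37)) :=
  Lre_a IH (LK LD1_c15 LD2_c6 LD3_c57) (LK LD1_c8 LD2_c1 LD3_c37) Lrfl Lrfl
theorem f30338 : Led Lsl_at (LP (LK LD1_c8 LD2_c1 LD3_c8)) = (LP (LK LD1_c15 LD2_c5 LD3_c55)) :=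
  Lre_a IH (LK LD1_c8 LD2_c1 LD3_c8) (LK LD1_c15 LD2_c5 LD3_c55) Lrfl Lrfl
theorem f30339 : Led Lsl_ft (LP (LK LD1_c8 LD2_c1 LD3_c37)) = (LP (LK LD1_c8 LD2_c1 LD3_c8)) :=
  Lgr Lrot101 (Lpe (f29714 IH) (Lpr_ff (K35.f30329 IH) (Lpe (f30338 IH) (Lpn (LP (LK LD1_c8 LD2_c1 LD3_c8))))))
theorem f29279 : Led Lsl_gt (LP (LK LD1_c8 LD2_c1 LD3_c37)) = (LP (LK LD1_c15 LD2_c6 LD3_c58)) :=
  Lre_g IH (LK LD1_c8 LD2_c1 LD3_c37) (LK LD1_c15 LD2_c6 LD3_c58) Lrfl Lrfl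
theorem f30483 : Led Lsl_gt (LP (LK LD1_c15 LD2_c6 LD3_c58)) = (LP (LK LD1_c15 LD2_c5 LD3_c55)) :=
  Lgr Lrot46 (Lpe (f29279 IH) (Lpr_ft (f30339 IH) (Lpr_at (f30338 IH) (Lpn (LP (LK LD1_c15 LD2_c5 LD3_c55))))))
theorem f551498 : Led Lsl_dt (LP (LK LD1_c16 LD2_c14 LD3_c55)) = (LP (LK LD1_c15 LD2_c6 LD3_c58)) :=
  Lgr Lrot57 (Lpe (f239144 IH) (Lpr_cf (K20.f315358 IH) (Lpr_gt (f315335 IH) (Lpr_dt (f551492 IH) (Lpe (f2017 IH) (Lpr_dt (f1952 IH) (Lpe (K38.f29864 IH) (Lpr_df (K39.f30327 IH) (Lpe (f30483 IH) (Lpn (LP (LK LD1_c15 LD2_c6 LD3_c58))))))))))))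
theorem f357160 : Led Lsl_ff (LP (LK LD1_c8 LD2_c10 LD3_c21)) = (LP (LK LD1_c8 LD2_c40 LD3_c35)) :=
  Lgr Lrot23 (Lpr_ct (K52.f199276 IH) (Lpr_ft (f357155 IH) (Lpe (K20.f315358 IH) (Lpn (LP (LK LD1_c8 LD2_c40 LD3_c35))))))
theorem f199272 : Led Lsl_at (LP (LK LD1_c8 LD2_c10 LD3_c21)) = (LP (LK LD1_c15 LD2_c23 LD3_c28)) :=
  Lre_a IH (LK LD1_c8 LD2_c10 LD3_c21) (LK LD1_c15 LD2_c23 LD3_c28) Lrfl Lrfl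
theorem f357169 : Led Lsl_gf (LP (LK LD1_c15 LD2_c23 LD3_c28)) = (LP (LK LD1_c16 LD2_c14 LD3_c55)) :=
  Lgr Lrot76 (Lpe (f199272 IH) (Lpr_ff (f357160 IH) (Lpr_gt (f239144 IH) (Lpn (LP (LK LD1_c16 LD2_c14 LD3_c55))))))
theorem f199274 : Led Lsl_ct (LP (LK LD1_c15 LD2_c23 LD3_c28)) = (LP (LK LD1_c17 LD2_c37 LD3_c23)) :=
  Lgr Lrot111 (Lpe (f199272 IH) (Lpr_cf (K52.f199270 IH) (Lpe (f199273 IH) (Lpn (LP (LK LD1_c17 LD2_c37 LD3_c23))))))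
theorem f357149 : Led Lsl_gt (LP (LK LD1_c17 LD2_c37 LD3_c23)) = (LP (LK LD1_c25 LD2_c28 LD3_c46)) :=
  Lgr Lrot5 (Lpr_ft (f357145 IH) (Lpr_at (K38.f315361 IH) (Lpe (f315369 IH) (Lpn (LP (LK LD1_c25 LD2_c28 LD3_c46))))))
theorem f402966 : Led Lsl_cf (LP (LK LD1_c26 LD2_c5 LD3_c16)) = (LP (LK LD1_c25 LD2_c28 LD3_c46)) :=
  Lgr Lrot11 (Lpr_ct (f402959 IH) (Lpn (LP (LK LD1_c25 LD2_c28 LD3_c46))))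
theorem f30324 : Led Lsl_ct (LP (LK LD1_c15 LD2_c5 LD3_c55)) = (LP (LK LD1_c24 LD2_c53 LD3_c48)) :=
  Lre_c IH (LK LD1_c15 LD2_c5 LD3_c55) (LK LD1_c24 LD2_c53 LD3_c48) Lrfl Lrfl
theorem f30325 : Led Lsl_ff (LP (LK LD1_c24 LD2_c55 LD3_c4)) = (LP (LK LD1_c24 LD2_c53 LD3_c48)) :=
  Lgr Lrot23 (Lpr_ct (K35.f29908 IH) (Lpr_ft (K35.f30317 IH) (Lpr_ct (f30324 IH) (Lpn (LP (LK LD1_c24 LD2_c53 LD3_c48))))))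
theorem f29850 : Led Lsl_at (LP (LK LD1_c24 LD2_c55 LD3_c4)) = (LP (LK LD1_c15 LD2_c6 LD3_c60)) :=
  Lre_a IH (LK LD1_c24 LD2_c55 LD3_c4) (LK LD1_c15 LD2_c6 LD3_c60) Lrfl Lrfl
theorem f29851 : Led Lsl_gt (LP (LK LD1_c24 LD2_c55 LD3_c11)) = (LP (LK LD1_c15 LD2_c6 LD3_c60)) :=
  Lre_g IH (LK LD1_c24 LD2_c55 LD3_c11) (LK LD1_c15 LD2_c6 LD3_c60) Lrfl Lrfl
theorem f30487 : Led Lsl_gf (LP (LK LD1_c24 LD2_c55 LD3_c11)) = (LP (LK LD1_c24 LD2_c53 LD3_c48)) :=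
  Lgr Lrot47 (Lpr_gt (f29851 IH) (Lpe (f29850 IH) (Lpr_ff (f30325 IH) (Lpn (LP (LK LD1_c24 LD2_c53 LD3_c48))))))
theorem f237725 : Led Lsl_gf (LP (LK LD1_c4 LD2_c21 LD3_c33)) = (LP (LK LD1_c4 LD2_c0 LD3_c19)) :=
  Lgr Lrot147 (Lpe (K54.f216697 IH) (Lpr_gt (K13.f39191 IH) (Lpr_ct (K1.f39004 IH) (Lpe (K13.f38946 IH) (Lpe (K1.f38944 IH) (Lpr_gf (K12.f39168 IH) (Lpe (K13.f39190 IH) (Lpr_gf (K13.f237719 IH) (Lpe (K1.f29579 IH) (Lpn (LP (LK LD1_c4 LD2_c0 LD3_c19))))))))))))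
theorem f39634 : Led Lsl_bt (LP (LK LD1_c2 LD2_c9 LD3_c13)) = (LP (LK LD1_c4 LD2_c23 LD3_c38)) :=
  Lre_b IH (LK LD1_c2 LD2_c9 LD3_c13) (LK LD1_c4 LD2_c23 LD3_c38) Lrfl Lrfl
theorem f39640 : Led Lsl_gt (LP (LK LD1_c4 LD2_c23 LD3_c38)) = (LP (LK LD1_c8 LD2_c45 LD3_c3)) :=
  Lre_g IH (LK LD1_c4 LD2_c23 LD3_c38) (LK LD1_c8 LD2_c45 LD3_c3) Lrfl Lrfl
theorem f39695 : Led Lsl_bt (LP (LK LD1_c16 LD2_c22 LD3_c52)) = (LP (LK LD1_c8 LD2_c45 LD3_c3)) :=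
  Lre_b IH (LK LD1_c16 LD2_c22 LD3_c52) (LK LD1_c8 LD2_c45 LD3_c3) Lrfl Lrfl
theorem f29249 : Led Lsl_bt (LP (LK LD1_c8 LD2_c1 LD3_c37)) = (LP (LK LD1_c4 LD2_c0 LD3_c19)) :=
  Lre_b IH (LK LD1_c8 LD2_c1 LD3_c37) (LK LD1_c4 LD2_c0 LD3_c19) Lrfl Lrfl
theorem f29844 : Led Lsl_ct (LP (LK LD1_c8 LD2_c1 LD3_c37)) = (LP (LK LD1_c15 LD2_c6 LD3_c60)) :=
  Lre_c IH (LK LD1_c8 LD2_c1 LD3_c37) (LK LD1_c15 LD2_c6 LD3_c60) Lrfl Lrfl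
theorem f418187 : Led Lsl_ct (LP (LK LD1_c16 LD2_c22 LD3_c52)) = (LP (LK LD1_c24 LD2_c55 LD3_c11)) :=
  Lgr Lrot64 (Lpr_bt (f39695 IH) (Lpe (f39640 IH) (Lpe (f39634 IH) (Lpr_ct (K1.f38945 IH) (Lpe (K13.f39191 IH) (Lpr_cf (K54.f216697 IH) (Lpr_gf (f237725 IH) (Lpe (f29249 IH) (Lpr_ct (f29844 IH) (Lpe (f29851 IH) (Lpn (LP (LK LD1_c24 LD2_c55 LD3_c11)))))))))))))
theorem f418212 : Led Lsl_cf (LP (LK LD1_c16 LD2_c22 LD3_c52)) = (LP (LK LD1_c24 LD2_c55 LD3_c11)) :=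
  Lgr Lrot11 (Lpr_ct (f418187 IH) (Lpn (LP (LK LD1_c24 LD2_c55 LD3_c11))))
theorem f551502 : Led Lsl_df (LP (LK LD1_c26 LD2_c5 LD3_c16)) = (LP (LK LD1_c16 LD2_c22 LD3_c52)) :=
  Lgr Lrot162 (Lpr_cf (f402966 IH) (Lpe (f357149 IH) (Lpe (f199274 IH) (Lpr_gf (f357169 IH) (Lpr_dt (f551498 IH) (Lpr_gt (f30483 IH) (Lpr_ct (f30324 IH) (Lpe (f30487 IH) (Lpe (f418212 IH) (Lpn (LP (LK LD1_c16 LD2_c22 LD3_c52))))))))))))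
theorem f418211 : Led Lsl_at (LP (LK LD1_c26 LD2_c20 LD3_c46)) = (LP (LK LD1_c16 LD2_c22 LD3_c52)) :=
  Lre_a IH (LK LD1_c26 LD2_c20 LD3_c46) (LK LD1_c16 LD2_c22 LD3_c52) Lrfl Lrfl
theorem f728876 : Led Lsl_df (LP (LK LD1_c26 LD2_c20 LD3_c46)) = (LP (LK LD1_c27 LD2_c25 LD3_c33)) :=
  Lgr Lrot18 (Lpr_at (f418211 IH) (Lpe (f551502 IH) (Lpr_at (f728874 IH) (Lpn (LP (LK LD1_c27 LD2_c25 LD3_c33))))))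
theorem f199291 : Led Lsl_gt (LP (LK LD1_c15 LD2_c23 LD3_c27)) = (LP (LK LD1_c8 LD2_c10 LD3_c21)) :=
  Lre_g IH (LK LD1_c15 LD2_c23 LD3_c27) (LK LD1_c8 LD2_c10 LD3_c21) Lrfl Lrfl
theorem f551461 : Led Lsl_df (LP (LK LD1_c17 LD2_c41 LD3_c19)) = (LP (LK LD1_c17 LD2_c37 LD3_c22)) :=
  Lgr Lrot38 (Lpr_dt (f551444 IH) (Lpn (LP (LK LD1_c17 LD2_c37 LD3_c22))))
theorem f29858 : Led Lsl_gt (LP (LK LD1_c15 LD2_c5 LD3_c54)) = (LP (LK LD1_c8 LD2_c1 LD3_c8)) :=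
  Lre_g IH (LK LD1_c15 LD2_c5 LD3_c54) (LK LD1_c8 LD2_c1 LD3_c8) Lrfl Lrfl
theorem f315368 : Led Lsl_at (LP (LK LD1_c16 LD2_c14 LD3_c57)) = (LP (LK LD1_c8 LD2_c40 LD3_c35)) :=
  Lre_a IH (LK LD1_c16 LD2_c14 LD3_c57) (LK LD1_c8 LD2_c40 LD3_c35) Lrfl Lrfl
theorem f357167 : Led Lsl_ft (LP (LK LD1_c15 LD2_c23 LD3_c28)) = (LP (LK LD1_c16 LD2_c14 LD3_c57)) :=
  Lgr Lrot101 (Lpe (f199272 IH) (Lpr_ff (f357160 IH) (Lpe (f315368 IH) (Lpn (LP (LK LD1_c16 LD2_c14 LD3_c57))))))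
theorem f357171 : Led Lsl_ff (LP (LK LD1_c15 LD2_c23 LD3_c28)) = (LP (LK LD1_c16 LD2_c14 LD3_c57)) :=
  Lgr Lrot3 (Lpr_ft (f357167 IH) (Lpn (LP (LK LD1_c16 LD2_c14 LD3_c57))))
theorem f199283 : Led Lsl_at (LP (LK LD1_c15 LD2_c23 LD3_c28)) = (LP (LK LD1_c8 LD2_c10 LD3_c21)) :=
  Lre_a IH (LK LD1_c15 LD2_c23 LD3_c28) (LK LD1_c8 LD2_c10 LD3_c21) Lrfl Lrfl
theorem f357178 : Led Lsl_gf (LP (LK LD1_c15 LD2_c23 LD3_c27)) = (LP (LK LD1_c16 LD2_c14 LD3_c57)) :=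
  Lgr Lrot47 (Lpr_gt (f199291 IH) (Lpe (f199283 IH) (Lpr_ff (f357171 IH) (Lpn (LP (LK LD1_c16 LD2_c14 LD3_c57))))))
theorem f551463 : Led Lsl_df (LP (LK LD1_c15 LD2_c5 LD3_c54)) = (LP (LK LD1_c15 LD2_c23 LD3_c27)) :=
  Lgr Lrot153 (Lpr_gt (f29858 IH) (Lpr_dt (K35.f29676 IH) (Lpr_cf (K38.f29807 IH) (Lpe (K39.f1915 IH) (Lpe (f1945 IH) (Lpr_df (f551461 IH) (Lpr_gf (f357183 IH) (Lpe (f315362 IH) (Lpe (f357178 IH) (Lpn (LP (LK LD1_c15 LD2_c23 LD3_c27))))))))))))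
theorem f551468 : Led Lsl_dt (LP (LK LD1_c15 LD2_c5 LD3_c54)) = (LP (LK LD1_c15 LD2_c23 LD3_c27)) :=
  Lgr Lrot42 (Lpr_df (f551463 IH) (Lpn (LP (LK LD1_c15 LD2_c23 LD3_c27))))
theorem f30388 : Led Lsl_gt (LP (LK LD1_c15 LD2_c5 LD3_c46)) = (LP (LK LD1_c24 LD2_c53 LD3_c46)) :=
  Lre_g IH (LK LD1_c15 LD2_c5 LD3_c46) (LK LD1_c24 LD2_c53 LD3_c46) Lrfl Lrfl
theorem f728882 : Led Lsl_cf (LP (LK LD1_c26 LD2_c20 LD3_c46)) = (LP (LK LD1_c24 LD2_c53 LD3_c46)) :=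
  Lgr Lrot99 (Lpr_df (f728876 IH) (Lpe (f199302 IH) (Lpe (f199200 IH) (Lpe (K52.f199276 IH) (Lpe (f199291 IH) (Lpe (f551468 IH) (Lpr_gt (f29858 IH) (Lpr_ct (f29723 IH) (Lpr_gt (f30388 IH) (Lpn (LP (LK LD1_c24 LD2_c53 LD3_c46))))))))))))
theorem f728886 : Led Lsl_ct (LP (LK LD1_c26 LD2_c20 LD3_c46)) = (LP (LK LD1_c24 LD2_c53 LD3_c46)) :=
  Lgr Lrot59 (Lpr_cf (f728882 IH) (Lpn (LP (LK LD1_c24 LD2_c53 LD3_c46))))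
theorem f29910 : Led Lsl_at (LP (LK LD1_c15 LD2_c6 LD3_c60)) = (LP (LK LD1_c24 LD2_c55 LD3_c4)) :=
  Lre_a IH (LK LD1_c15 LD2_c6 LD3_c60) (LK LD1_c24 LD2_c55 LD3_c4) Lrfl Lrfl
theorem f30355 : Led Lsl_ff (LP (LK LD1_c15 LD2_c6 LD3_c60)) = (LP (LK LD1_c15 LD2_c5 LD3_c46)) :=
  Lgr Lrot30 (Lpr_at (f29910 IH) (Lpr_ft (K35.f30342 IH) (Lpr_at (K35.f29911 IH) (Lpn (LP (LK LD1_c15 LD2_c5 LD3_c46))))))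
theorem f30440 : Led Lsl_gf (LP (LK LD1_c24 LD2_c55 LD3_c4)) = (LP (LK LD1_c24 LD2_c53 LD3_c46)) :=
  Lgr Lrot76 (Lpe (f29910 IH) (Lpr_ff (f30355 IH) (Lpr_gt (f30388 IH) (Lpn (LP (LK LD1_c24 LD2_c53 LD3_c46))))))
theorem f397134 : Led Lsl_ft (LP (LK LD1_c17 LD2_c50 LD3_c18)) = (LP (LK LD1_c26 LD2_c15 LD3_c4)) :=
  Lgr Lrot48 (Lpr_ff (K38.f397127 IH) (Lpn (LP (LK LD1_c26 LD2_c15 LD3_c4))))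
theorem f400210 : Led Lsl_ct (LP (LK LD1_c17 LD2_c54 LD3_c4)) = (LP (LK LD1_c17 LD2_c50 LD3_c18)) :=
  Lgr Lrot40 (Lpr_ff (K54.f400204 IH) (Lpe (K38.f280102 IH) (Lpe (f397134 IH) (Lpn (LP (LK LD1_c17 LD2_c50 LD3_c18))))))
theorem f236774 : Led Lsl_bt (LP (LK LD1_c17 LD2_c54 LD3_c4)) = (LP (LK LD1_c27 LD2_c39 LD3_c32)) :=
  Lre_b IH (LK LD1_c17 LD2_c54 LD3_c4) (LK LD1_c27 LD2_c39 LD3_c32) Lrfl Lrfl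
theorem f728891 : Led Lsl_gf (LP (LK LD1_c26 LD2_c20 LD3_c46)) = (LP (LK LD1_c27 LD2_c39 LD3_c32)) :=
  Lgr Lrot181 (Lpr_ct (f728886 IH) (Lpe (f30440 IH) (Lpe (K35.f29909 IH) (Lpr_bt (K39.f30421 IH) (Lpr_gt (f30281 IH) (Lpe (K52.f30427 IH) (Lpr_ct (K54.f400244 IH) (Lpr_gt (K52.f349210 IH) (Lpe (f400210 IH) (Lpr_bt (f236774 IH) (Lpn (LP (LK LD1_c27 LD2_c39 LD3_c32)))))))))))))
theorem f418214 : Led Lsl_at (LP (LK LD1_c16 LD2_c22 LD3_c52)) = (LP (LK LD1_c26 LD2_c20 LD3_c46)) :=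
  Lre_a IH (LK LD1_c16 LD2_c22 LD3_c52) (LK LD1_c26 LD2_c20 LD3_c46) Lrfl Lrfl
theorem f418189 : Led Lsl_gt (LP (LK LD1_c26 LD2_c20 LD3_c45)) = (LP (LK LD1_c16 LD2_c22 LD3_c52)) :=
  Lre_g IH (LK LD1_c26 LD2_c20 LD3_c45) (LK LD1_c16 LD2_c22 LD3_c52) Lrfl Lrfl
theorem f418190 : Led Lsl_bt (LP (LK LD1_c19 LD2_c22 LD3_c22)) = (LP (LK LD1_c26 LD2_c20 LD3_c45)) :=
  Lgr Lrot130 (Lpr_ct (K38.f224135 IH) (Lpe (K45.f398432 IH) (Lpe (K31.f243199 IH) (Lpr_bt (K31.f373772 IH) (Lpr_gf (f237725 IH) (Lpe (f29249 IH) (Lpr_ct (f29844 IH) (Lpe (f29851 IH) (Lpe (f418187 IH) (Lpe (f418189 IH) (Lpn (LP (LK LD1_c26 LD2_c20 LD3_c45)))))))))))))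
theorem f397560 : Led Lsl_ff (LP (LK LD1_c19 LD2_c22 LD3_c22)) = (LP (LK LD1_c26 LD2_c15 LD3_c53)) :=
  Lgr Lrot103 (Lpr_at (K30.f224208 IH) (Lpe (K15.f218399 IH) (Lpr_df (K22.f224062 IH) (Lpe (K22.f214020 IH) (Lpr_df (K22.f234767 IH) (Lpr_cf (K30.f396906 IH) (Lpe (K30.f396917 IH) (Lpr_cf (K30.f397452 IH) (Lpe (K30.f397555 IH) (Lpn (LP (LK LD1_c26 LD2_c15 LD3_c53))))))))))))
theorem f418196 : Led Lsl_ff (LP (LK LD1_c31 LD2_c38 LD3_c24)) = (LP (LK LD1_c26 LD2_c20 LD3_c45)) :=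
  Lgr Lrot25 (Lpr_bt (K30.f397573 IH) (Lpe (f397560 IH) (Lpr_bt (f418190 IH) (Lpn (LP (LK LD1_c26 LD2_c20 LD3_c45))))))
theorem f418203 : Led Lsl_ft (LP (LK LD1_c31 LD2_c38 LD3_c24)) = (LP (LK LD1_c26 LD2_c20 LD3_c45)) :=
  Lgr Lrot48 (Lpr_ff (f418196 IH) (Lpn (LP (LK LD1_c26 LD2_c20 LD3_c45))))
theorem f224134 : Led Lsl_at (LP (LK LD1_c10 LD2_c42 LD3_c4)) = (LP (LK LD1_c19 LD2_c22 LD3_c22)) :=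
  Lre_a IH (LK LD1_c10 LD2_c42 LD3_c4) (LK LD1_c19 LD2_c22 LD3_c22) Lrfl Lrfl
theorem f397595 : Led Lsl_at (LP (LK LD1_c26 LD2_c15 LD3_c53)) = (LP (LK LD1_c19 LD2_c5 LD3_c20)) :=
  Lgr Lrot66 (Lpr_ff (K30.f397591 IH) (Lpe (f224134 IH) (Lpe (K31.f339399 IH) (Lpn (LP (LK LD1_c19 LD2_c5 LD3_c20))))))
theorem f223344 : Led Lsl_dt (LP (LK LD1_c17 LD2_c49 LD3_c30)) = (LP (LK LD1_c9 LD2_c41 LD3_c27)) :=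
  Lre_d IH (LK LD1_c17 LD2_c49 LD3_c30) (LK LD1_c9 LD2_c41 LD3_c27) Lrfl Lrfl
theorem f397123 : Led Lsl_bf (LP (LK LD1_c17 LD2_c49 LD3_c30)) = (LP (LK LD1_c26 LD2_c15 LD3_c4)) :=
  Lgr Lrot93 (Lpr_dt (f223344 IH) (Lpr_bt (f344186 IH) (Lpr_dt (K38.f397119 IH) (Lpn (LP (LK LD1_c26 LD2_c15 LD3_c4))))))
theorem f397316 : Led Lsl_bt (LP (LK LD1_c27 LD2_c36 LD3_c39)) = (LP (LK LD1_c31 LD2_c42 LD3_c19)) :=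
  Lgr Lrot128 (Lpe (K23.f223354 IH) (Lpr_bf (f397123 IH) (Lpe (K38.f280101 IH) (Lpe (K38.f397141 IH) (Lpr_cf (K38.f397313 IH) (Lpn (LP (LK LD1_c31 LD2_c42 LD3_c19))))))))
theorem f223356 : Led Lsl_at (LP (LK LD1_c17 LD2_c49 LD3_c34)) = (LP (LK LD1_c27 LD2_c36 LD3_c39)) :=
  Lre_a IH (LK LD1_c17 LD2_c49 LD3_c34) (LK LD1_c27 LD2_c36 LD3_c39) Lrfl Lrfl
theorem f218826 : Led Lsl_ct (LP (LK LD1_c10 LD2_c32 LD3_c17)) = (LP (LK LD1_c19 LD2_c5 LD3_c16)) :=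
  Lre_c IH (LK LD1_c10 LD2_c32 LD3_c17) (LK LD1_c19 LD2_c5 LD3_c16) Lrfl Lrfl
theorem f224289 : Led Lsl_ct (LP (LK LD1_c10 LD2_c42 LD3_c10)) = (LP (LK LD1_c5 LD2_c25 LD3_c31)) :=
  Lre_c IH (LK LD1_c10 LD2_c42 LD3_c10) (LK LD1_c5 LD2_c25 LD3_c31) Lrfl Lrfl
theorem f351672 : Led Lsl_ft (LP (LK LD1_c19 LD2_c5 LD3_c16)) = (LP (LK LD1_c10 LD2_c42 LD3_c10)) :=
  Lgr Lrot4 (Lpe (f218826 IH) (Lpr_ff (K30.f351666 IH) (Lpe (f224289 IH) (Lpn (LP (LK LD1_c10 LD2_c42 LD3_c10))))))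
theorem f181799 : Led Lsl_ct (LP (LK LD1_c19 LD2_c5 LD3_c16)) = (LP (LK LD1_c10 LD2_c32 LD3_c17)) :=
  Lre_c IH (LK LD1_c19 LD2_c5 LD3_c16) (LK LD1_c10 LD2_c32 LD3_c17) Lrfl Lrfl
theorem f218838 : Led Lsl_bt (LP (LK LD1_c9 LD2_c40 LD3_c40)) = (LP (LK LD1_c17 LD2_c48 LD3_c11)) :=
  Lre_b IH (LK LD1_c9 LD2_c40 LD3_c40) (LK LD1_c17 LD2_c48 LD3_c11) Lrfl Lrfl
theorem f218869 : Led Lsl_bf (LP (LK LD1_c19 LD2_c5 LD3_c16)) = (LP (LK LD1_c27 LD2_c35 LD3_c32)) :=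
  Lgr Lrot90 (Lpr_ct (f181799 IH) (Lpr_bt (K30.f181798 IH) (Lpr_ct (K12.f218829 IH) (Lpr_bt (f218838 IH) (Lpr_ct (K23.f201206 IH) (Lpn (LP (LK LD1_c27 LD2_c35 LD3_c32))))))))
theorem f351675 : Led Lsl_bf (LP (LK LD1_c17 LD2_c49 LD3_c34)) = (LP (LK LD1_c10 LD2_c42 LD3_c10)) :=
  Lgr Lrot61 (Lpr_ft (K23.f344083 IH) (Lpe (f218869 IH) (Lpr_ft (f351672 IH) (Lpn (LP (LK LD1_c10 LD2_c42 LD3_c10))))))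
theorem f224431 : Led Lsl_at (LP (LK LD1_c19 LD2_c22 LD3_c35)) = (LP (LK LD1_c10 LD2_c42 LD3_c10)) :=
  Lre_a IH (LK LD1_c19 LD2_c22 LD3_c35) (LK LD1_c10 LD2_c42 LD3_c10) Lrfl Lrfl
theorem f397318 : Led Lsl_af (LP (LK LD1_c28 LD2_c46 LD3_c51)) = (LP (LK LD1_c31 LD2_c42 LD3_c19)) :=
  Lgr Lrot36 (Lpr_bt (K30.f351679 IH) (Lpr_at (f224431 IH) (Lpe (f351675 IH) (Lpr_at (f223356 IH) (Lpr_bt (f397316 IH) (Lpn (LP (LK LD1_c31 LD2_c42 LD3_c19))))))))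
theorem f397320 : Led Lsl_at (LP (LK LD1_c28 LD2_c46 LD3_c51)) = (LP (LK LD1_c31 LD2_c42 LD3_c19)) :=
  Lgr Lrot100 (Lpr_af (f397318 IH) (Lpn (LP (LK LD1_c31 LD2_c42 LD3_c19))))
theorem f397581 : Led Lsl_af (LP (LK LD1_c31 LD2_c38 LD3_c24)) = (LP (LK LD1_c26 LD2_c15 LD3_c2)) :=
  Lgr Lrot68 (Lpr_ct (K30.f397577 IH) (Lpr_at (f397320 IH) (Lpe (K38.f397313 IH) (Lpn (LP (LK LD1_c26 LD2_c15 LD3_c2))))))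
theorem f397129 : Led Lsl_bt (LP (LK LD1_c16 LD2_c17 LD3_c11)) = (LP (LK LD1_c26 LD2_c15 LD3_c2)) :=
  Lre_b IH (LK LD1_c16 LD2_c17 LD3_c11) (LK LD1_c26 LD2_c15 LD3_c2) Lrfl Lrfl
theorem f398436 : Led Lsl_at (LP (LK LD1_c17 LD2_c54 LD3_c3)) = (LP (LK LD1_c16 LD2_c17 LD3_c11)) :=
  Lgr Lrot67 (Lpr_bf (K31.f398434 IH) (Lpe (f397595 IH) (Lpe (K30.f397573 IH) (Lpr_af (f397581 IH) (Lpe (f397129 IH) (Lpn (LP (LK LD1_c16 LD2_c17 LD3_c11))))))))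
theorem f400146 : Led Lsl_ff (LP (LK LD1_c17 LD2_c54 LD3_c3)) = (LP (LK LD1_c16 LD2_c17 LD3_c7)) :=
  Lgr Lrot3 (Lpr_ft (K39.f398445 IH) (Lpn (LP (LK LD1_c16 LD2_c17 LD3_c7))))
theorem f400206 : Led Lsl_at (LP (LK LD1_c17 LD2_c54 LD3_c4)) = (LP (LK LD1_c16 LD2_c17 LD3_c7)) :=
  Lgr Lrot66 (Lpr_ff (K54.f400204 IH) (Lpe (f398436 IH) (Lpr_ff (f400146 IH) (Lpn (LP (LK LD1_c16 LD2_c17 LD3_c7))))))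
theorem f168467 : Led Lsl_bt (LP (LK LD1_c27 LD2_c39 LD3_c32)) = (LP (LK LD1_c17 LD2_c54 LD3_c4)) :=
  Lre_b IH (LK LD1_c27 LD2_c39 LD3_c32) (LK LD1_c17 LD2_c54 LD3_c4) Lrfl Lrfl
theorem f418192 : Led Lsl_af (LP (LK LD1_c27 LD2_c39 LD3_c32)) = (LP (LK LD1_c26 LD2_c20 LD3_c45)) :=
  Lgr Lrot36 (Lpr_bt (f168467 IH) (Lpr_at (f400206 IH) (Lpr_bt (K15.f263782 IH) (Lpr_at (f224134 IH) (Lpr_bt (f418190 IH) (Lpn (LP (LK LD1_c26 LD2_c20 LD3_c45))))))))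
theorem f418209 : Led Lsl_gt (LP (LK LD1_c24 LD2_c45 LD3_c30)) = (LP (LK LD1_c27 LD2_c39 LD3_c32)) :=
  Lgr Lrot46 (Lpe (f397593 IH) (Lpr_ft (f418203 IH) (Lpe (f418192 IH) (Lpn (LP (LK LD1_c27 LD2_c39 LD3_c32))))))
theorem f728893 : Led Lsl_ff (LP (LK LD1_c16 LD2_c22 LD3_c52)) = (LP (LK LD1_c24 LD2_c45 LD3_c30)) :=
  Lgr Lrot52 (Lpr_at (f418214 IH) (Lpr_gf (f728891 IH) (Lpe (f418209 IH) (Lpn (LP (LK LD1_c24 LD2_c45 LD3_c30))))))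
theorem f728901 : Led Lsl_ft (LP (LK LD1_c16 LD2_c22 LD3_c52)) = (LP (LK LD1_c24 LD2_c45 LD3_c30)) :=
  Lgr Lrot48 (Lpr_ff (f728893 IH) (Lpn (LP (LK LD1_c24 LD2_c45 LD3_c30))))
theorem f418198 : Led Lsl_bt (LP (LK LD1_c8 LD2_c45 LD3_c3)) = (LP (LK LD1_c16 LD2_c22 LD3_c52)) :=
  Lre_b IH (LK LD1_c8 LD2_c45 LD3_c3) (LK LD1_c16 LD2_c22 LD3_c52) Lrfl Lrfl
theorem f728905 : Led Lsl_ff (LP (LK LD1_c8 LD2_c45 LD3_c3)) = (LP (LK LD1_c14 LD2_c57 LD3_c58)) :=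
  Lgr Lrot25 (Lpr_bt (f418198 IH) (Lpr_ft (f728901 IH) (Lpr_bt (f39278 IH) (Lpn (LP (LK LD1_c14 LD2_c57 LD3_c58))))))
theorem f39173 : Led Lsl_bt (LP (LK LD1_c4 LD2_c23 LD3_c38)) = (LP (LK LD1_c2 LD2_c9 LD3_c13)) :=
  Lre_b IH (LK LD1_c4 LD2_c23 LD3_c38) (LK LD1_c2 LD2_c9 LD3_c13) Lrfl Lrfl
theorem f39281 : Led Lsl_ft (LP (LK LD1_c7 LD2_c55 LD3_c59)) = (LP (LK LD1_c4 LD2_c23 LD3_c38)) :=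
  Lgr Lrot75 (Lpe (f39276 IH) (Lpr_ff (K1.f39266 IH) (Lpe (f39173 IH) (Lpn (LP (LK LD1_c4 LD2_c23 LD3_c38))))))
theorem f39662 : Led Lsl_at (LP (LK LD1_c4 LD2_c23 LD3_c38)) = (LP (LK LD1_c8 LD2_c45 LD3_c5)) :=
  Lre_a IH (LK LD1_c4 LD2_c23 LD3_c38) (LK LD1_c8 LD2_c45 LD3_c5) Lrfl Lrfl
theorem f444745 : Led Lsl_gt (LP (LK LD1_c14 LD2_c57 LD3_c58)) = (LP (LK LD1_c8 LD2_c45 LD3_c5)) :=
  Lgr Lrot46 (Lpe (f39277 IH) (Lpr_ft (f39281 IH) (Lpr_at (f39662 IH) (Lpn (LP (LK LD1_c8 LD2_c45 LD3_c5))))))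
theorem f39279 : Led Lsl_gt (LP (LK LD1_c14 LD2_c57 LD3_c59)) = (LP (LK LD1_c7 LD2_c55 LD3_c59)) :=
  Lre_g IH (LK LD1_c14 LD2_c57 LD3_c59) (LK LD1_c7 LD2_c55 LD3_c59) Lrfl Lrfl
theorem f39666 : Led Lsl_gf (LP (LK LD1_c14 LD2_c57 LD3_c59)) = (LP (LK LD1_c8 LD2_c45 LD3_c5)) :=
  Lgr Lrot47 (Lpr_gt (f39279 IH) (Lpe (K50.f39289 IH) (Lpr_ff (K50.f39648 IH) (Lpn (LP (LK LD1_c8 LD2_c45 LD3_c5))))))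
theorem f728954 : Led Lsl_at (LP (LK LD1_c8 LD2_c45 LD3_c3)) = (LP (LK LD1_c14 LD2_c57 LD3_c59)) :=
  Lgr Lrot26 (Lpr_ff (f728905 IH) (Lpr_gt (f444745 IH) (Lpe (f39666 IH) (Lpn (LP (LK LD1_c14 LD2_c57 LD3_c59))))))
theorem f728958 : Led Lsl_bt (LP (LK LD1_c14 LD2_c57 LD3_c59)) = (LP (LK LD1_c24 LD2_c45 LD3_c31)) :=
  Lre_b IH (LK LD1_c14 LD2_c57 LD3_c59) (LK LD1_c24 LD2_c45 LD3_c31) Lrfl Lrfl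
theorem f728959 : Led Lsl_at (LP (LK LD1_c24 LD2_c45 LD3_c31)) = (LP (LK LD1_c31 LD2_c38 LD3_c28)) :=
  Lre_a IH (LK LD1_c24 LD2_c45 LD3_c31) (LK LD1_c31 LD2_c38 LD3_c28) Lrfl Lrfl
theorem f728960 : Led Lsl_bf (LP (LK LD1_c26 LD2_c20 LD3_c46)) = (LP (LK LD1_c31 LD2_c38 LD3_c28)) :=
  Lgr Lrot81 (Lpr_at (f418211 IH) (Lpr_bt (f39695 IH) (Lpr_at (f728954 IH) (Lpr_bt (f728958 IH) (Lpr_at (f728959 IH) (Lpn (LP (LK LD1_c31 LD2_c38 LD3_c28))))))))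
theorem f728962 : Led Lsl_bt (LP (LK LD1_c26 LD2_c20 LD3_c46)) = (LP (LK LD1_c31 LD2_c38 LD3_c28)) :=
  Lgr Lrot127 (Lpr_bf (f728960 IH) (Lpn (LP (LK LD1_c31 LD2_c38 LD3_c28))))
theorem f397585 : Led Lsl_at (LP (LK LD1_c31 LD2_c38 LD3_c24)) = (LP (LK LD1_c26 LD2_c15 LD3_c2)) :=
  Lgr Lrot107 (Lpr_cf (K30.f397583 IH) (Lpr_af (f397318 IH) (Lpe (K38.f397307 IH) (Lpn (LP (LK LD1_c26 LD2_c15 LD3_c2))))))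
theorem f418205 : Led Lsl_gf (LP (LK LD1_c26 LD2_c15 LD3_c2)) = (LP (LK LD1_c16 LD2_c22 LD3_c52)) :=
  Lgr Lrot76 (Lpe (f397585 IH) (Lpr_ff (f418196 IH) (Lpr_gt (f418189 IH) (Lpn (LP (LK LD1_c16 LD2_c22 LD3_c52))))))
theorem f229428 : Led Lsl_at (LP (LK LD1_c24 LD2_c45 LD3_c30)) = (LP (LK LD1_c31 LD2_c38 LD3_c27)) :=
  Lre_a IH (LK LD1_c24 LD2_c45 LD3_c30) (LK LD1_c31 LD2_c38 LD3_c27) Lrfl Lrfl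
theorem f728909 : Led Lsl_gt (LP (LK LD1_c26 LD2_c15 LD3_c2)) = (LP (LK LD1_c31 LD2_c38 LD3_c27)) :=
  Lgr Lrot46 (Lpr_gf (f418205 IH) (Lpr_ft (f728901 IH) (Lpr_at (f229428 IH) (Lpn (LP (LK LD1_c31 LD2_c38 LD3_c27))))))
theorem f397195 : Led Lsl_dt (LP (LK LD1_c26 LD2_c15 LD3_c2)) = (LP (LK LD1_c16 LD2_c17 LD3_c9)) :=
  Lre_d IH (LK LD1_c26 LD2_c15 LD3_c2) (LK LD1_c16 LD2_c17 LD3_c9) Lrfl Lrfl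
theorem f421933 : Led Lsl_ff (LP (LK LD1_c14 LD2_c57 LD3_c50)) = (LP (LK LD1_c17 LD2_c36 LD3_c61)) :=
  Lgr Lrot3 (Lpr_ft (K49.f421861 IH) (Lpn (LP (LK LD1_c17 LD2_c36 LD3_c61))))
theorem f421850 : Led Lsl_at (LP (LK LD1_c14 LD2_c57 LD3_c50)) = (LP (LK LD1_c17 LD2_c36 LD3_c56)) :=
  Lgr Lrot100 (Lpr_af (K49.f421848 IH) (Lpn (LP (LK LD1_c17 LD2_c36 LD3_c56))))
theorem f2348 : Led Lsl_gt (LP (LK LD1_c2 LD2_c23 LD3_c61)) = (LP (LK LD1_c4 LD2_c52 LD3_c29)) :=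
  Lre_g IH (LK LD1_c2 LD2_c23 LD3_c61) (LK LD1_c4 LD2_c52 LD3_c29) Lrfl Lrfl
theorem f1973 : Led Lsl_ct (LP (LK LD1_c9 LD2_c33 LD3_c61)) = (LP (LK LD1_c17 LD2_c36 LD3_c61)) :=
  Lre_c IH (LK LD1_c9 LD2_c33 LD3_c61) (LK LD1_c17 LD2_c36 LD3_c61) Lrfl Lrfl
theorem f397196 : Led Lsl_gf (LP (LK LD1_c16 LD2_c17 LD3_c9)) = (LP (LK LD1_c17 LD2_c36 LD3_c61)) :=
  Lgr Lrot129 (Lpe (K38.f279981 IH) (Lpr_bt (K41.f397189 IH) (Lpr_gt (K38.f232698 IH) (Lpe (K38.f232689 IH) (Lpr_ct (K38.f2363 IH) (Lpr_gt (f2348 IH) (Lpe (K13.f2344 IH) (Lpr_bt (K39.f2005 IH) (Lpr_gt (K52.f1969 IH) (Lpr_ct (f1973 IH) (Lpn (LP (LK LD1_c17 LD2_c36 LD3_c61)))))))))))))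
theorem f421940 : Led Lsl_gf (LP (LK LD1_c17 LD2_c36 LD3_c56)) = (LP (LK LD1_c16 LD2_c17 LD3_c9)) :=
  Lgr Lrot76 (Lpe (f421850 IH) (Lpr_ff (f421933 IH) (Lpe (f397196 IH) (Lpn (LP (LK LD1_c16 LD2_c17 LD3_c9))))))
theorem f29876 : Led Lsl_ft (LP (LK LD1_c8 LD2_c1 LD3_c36)) = (LP (LK LD1_c15 LD2_c6 LD3_c46)) :=
  Lre_f IH (LK LD1_c8 LD2_c1 LD3_c36) (LK LD1_c15 LD2_c6 LD3_c46) Lrfl Lrfl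
theorem f30344 : Led Lsl_dt (LP (LK LD1_c15 LD2_c6 LD3_c46)) = (LP (LK LD1_c15 LD2_c5 LD3_c55)) :=
  Lgr Lrot60 (Lpe (f29876 IH) (Lpe (K35.f29884 IH) (Lpr_ff (K35.f30329 IH) (Lpn (LP (LK LD1_c15 LD2_c5 LD3_c55))))))
theorem f30372 : Led Lsl_df (LP (LK LD1_c31 LD2_c42 LD3_c46)) = (LP (LK LD1_c24 LD2_c55 LD3_c4)) :=
  Lgr Lrot38 (Lpr_dt (K35.f30366 IH) (Lpn (LP (LK LD1_c24 LD2_c55 LD3_c4))))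
theorem f29822 : Led Lsl_dt (LP (LK LD1_c24 LD2_c55 LD3_c12)) = (LP (LK LD1_c15 LD2_c6 LD3_c60)) :=
  Lre_d IH (LK LD1_c24 LD2_c55 LD3_c12) (LK LD1_c15 LD2_c6 LD3_c60) Lrfl Lrfl
theorem f30406 : Led Lsl_at (LP (LK LD1_c31 LD2_c42 LD3_c46)) = (LP (LK LD1_c24 LD2_c55 LD3_c12)) :=
  Lgr Lrot51 (Lpr_df (f30372 IH) (Lpe (f29910 IH) (Lpe (f29822 IH) (Lpn (LP (LK LD1_c24 LD2_c55 LD3_c12))))))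
theorem f30408 : Led Lsl_ff (LP (LK LD1_c24 LD2_c53 LD3_c45)) = (LP (LK LD1_c24 LD2_c55 LD3_c12)) :=
  Lgr Lrot30 (Lpr_at (K35.f30033 IH) (Lpe (K35.f30358 IH) (Lpr_at (f30406 IH) (Lpn (LP (LK LD1_c24 LD2_c55 LD3_c12))))))
theorem f30410 : Led Lsl_ft (LP (LK LD1_c24 LD2_c53 LD3_c45)) = (LP (LK LD1_c24 LD2_c55 LD3_c12)) :=
  Lgr Lrot48 (Lpr_ff (f30408 IH) (Lpn (LP (LK LD1_c24 LD2_c55 LD3_c12))))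
theorem f30412 : Led Lsl_ff (LP (LK LD1_c15 LD2_c5 LD3_c46)) = (LP (LK LD1_c15 LD2_c6 LD3_c60)) :=
  Lgr Lrot19 (Lpe (K35.f30379 IH) (Lpr_ft (f30410 IH) (Lpr_dt (f29822 IH) (Lpn (LP (LK LD1_c15 LD2_c6 LD3_c60))))))
theorem f30354 : Led Lsl_at (LP (LK LD1_c15 LD2_c5 LD3_c46)) = (LP (LK LD1_c24 LD2_c53 LD3_c48)) :=
  Lre_a IH (LK LD1_c15 LD2_c5 LD3_c46) (LK LD1_c24 LD2_c53 LD3_c48) Lrfl Lrfl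
theorem f30418 : Led Lsl_gt (LP (LK LD1_c15 LD2_c6 LD3_c60)) = (LP (LK LD1_c24 LD2_c55 LD3_c10)) :=
  Lre_g IH (LK LD1_c15 LD2_c6 LD3_c60) (LK LD1_c24 LD2_c55 LD3_c10) Lrfl Lrfl
theorem f30419 : Led Lsl_gf (LP (LK LD1_c24 LD2_c53 LD3_c48)) = (LP (LK LD1_c24 LD2_c55 LD3_c10)) :=
  Lgr Lrot76 (Lpe (f30354 IH) (Lpr_ff (f30412 IH) (Lpr_gt (f30418 IH) (Lpn (LP (LK LD1_c24 LD2_c55 LD3_c10))))))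
theorem f728915 : Led Lsl_cf (LP (LK LD1_c24 LD2_c55 LD3_c10)) = (LP (LK LD1_c31 LD2_c38 LD3_c27)) :=
  Lgr Lrot169 (Lpe (f30419 IH) (Lpr_ct (K35.f30341 IH) (Lpe (f30344 IH) (Lpr_cf (K13.f29856 IH) (Lpe (K52.f1974 IH) (Lpe (K49.f1999 IH) (Lpr_gf (f421940 IH) (Lpe (f397195 IH) (Lpr_gt (f728909 IH) (Lpn (LP (LK LD1_c31 LD2_c38 LD3_c27))))))))))))
theorem f229424 : Led Lsl_at (LP (LK LD1_c31 LD2_c38 LD3_c27)) = (LP (LK LD1_c24 LD2_c45 LD3_c30)) :=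
  Lre_a IH (LK LD1_c31 LD2_c38 LD3_c27) (LK LD1_c24 LD2_c45 LD3_c30) Lrfl Lrfl
theorem f728895 : Led Lsl_ft (LP (LK LD1_c26 LD2_c20 LD3_c46)) = (LP (LK LD1_c31 LD2_c38 LD3_c27)) :=
  Lgr Lrot101 (Lpe (f418214 IH) (Lpr_ff (f728893 IH) (Lpe (f229424 IH) (Lpn (LP (LK LD1_c31 LD2_c38 LD3_c27))))))
theorem f728921 : Led Lsl_ft (LP (LK LD1_c24 LD2_c55 LD3_c10)) = (LP (LK LD1_c24 LD2_c53 LD3_c46)) :=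
  Lgr Lrot4 (Lpr_cf (f728915 IH) (Lpe (f728895 IH) (Lpr_cf (f728882 IH) (Lpn (LP (LK LD1_c24 LD2_c53 LD3_c46))))))
theorem f728888 : Led Lsl_af (LP (LK LD1_c24 LD2_c55 LD3_c11)) = (LP (LK LD1_c24 LD2_c53 LD3_c46)) :=
  Lgr Lrot68 (Lpe (f418212 IH) (Lpr_at (f418214 IH) (Lpr_ct (f728886 IH) (Lpn (LP (LK LD1_c24 LD2_c53 LD3_c46))))))
theorem f728899 : Led Lsl_ft (LP (LK LD1_c24 LD2_c55 LD3_c11)) = (LP (LK LD1_c24 LD2_c53 LD3_c47)) :=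
  Lgr Lrot4 (Lpe (f418187 IH) (Lpr_ff (f728893 IH) (Lpr_cf (f229426 IH) (Lpn (LP (LK LD1_c24 LD2_c53 LD3_c47))))))
theorem f728923 : Led Lsl_af (LP (LK LD1_c24 LD2_c55 LD3_c10)) = (LP (LK LD1_c24 LD2_c53 LD3_c47)) :=
  Lgr Lrot45 (Lpr_ft (f728921 IH) (Lpe (f728888 IH) (Lpr_ft (f728899 IH) (Lpn (LP (LK LD1_c24 LD2_c53 LD3_c47))))))
theorem f29834 : Led Lsl_dt (LP (LK LD1_c15 LD2_c6 LD3_c55)) = (LP (LK LD1_c8 LD2_c1 LD3_c35)) :=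
  Lre_d IH (LK LD1_c15 LD2_c6 LD3_c55) (LK LD1_c8 LD2_c1 LD3_c35) Lrfl Lrfl
theorem f29835 : Led Lsl_dt (LP (LK LD1_c17 LD2_c36 LD3_c56)) = (LP (LK LD1_c27 LD2_c25 LD3_c7)) :=
  Lre_d IH (LK LD1_c17 LD2_c36 LD3_c56) (LK LD1_c27 LD2_c25 LD3_c7) Lrfl Lrfl
theorem f197849 : Led Lsl_bt (LP (LK LD1_c12 LD2_c6 LD3_c40)) = (LP (LK LD1_c6 LD2_c14 LD3_c1)) :=
  Lre_b IH (LK LD1_c12 LD2_c6 LD3_c40) (LK LD1_c6 LD2_c14 LD3_c1) Lrfl Lrfl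
theorem f551733 : Led Lsl_cf (LP (LK LD1_c12 LD2_c6 LD3_c40)) = (LP (LK LD1_c15 LD2_c23 LD3_c29)) :=
  Lgr Lrot97 (Lpr_bt (f197849 IH) (Lpr_ct (K2.f37232 IH) (Lpr_bt (K39.f551708 IH) (Lpe (K13.f238805 IH) (Lpr_bt (K52.f238816 IH) (Lpn (LP (LK LD1_c15 LD2_c23 LD3_c29))))))))
theorem f241314 : Led Lsl_gt (LP (LK LD1_c12 LD2_c6 LD3_c40)) = (LP (LK LD1_c21 LD2_c12 LD3_c41)) :=
  Lre_g IH (LK LD1_c12 LD2_c6 LD3_c40) (LK LD1_c21 LD2_c12 LD3_c41) Lrfl Lrfl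
theorem f605426 : Led Lsl_cf (LP (LK LD1_c27 LD2_c25 LD3_c7)) = (LP (LK LD1_c21 LD2_c12 LD3_c41)) :=
  Lgr Lrot99 (Lpe (f29835 IH) (Lpe (K52.f1998 IH) (Lpe (K49.f29827 IH) (Lpe (K13.f29815 IH) (Lpe (K13.f29830 IH) (Lpe (f29834 IH) (Lpr_gt (K52.f605417 IH) (Lpe (f551733 IH) (Lpr_gt (f241314 IH) (Lpn (LP (LK LD1_c21 LD2_c12 LD3_c41))))))))))))
theorem f29845 : Led Lsl_dt (LP (LK LD1_c15 LD2_c6 LD3_c60)) = (LP (LK LD1_c24 LD2_c55 LD3_c12)) :=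
  Lre_d IH (LK LD1_c15 LD2_c6 LD3_c60) (LK LD1_c24 LD2_c55 LD3_c12) Lrfl Lrfl
theorem f605437 : Led Lsl_dt (LP (LK LD1_c29 LD2_c54 LD3_c10)) = (LP (LK LD1_c21 LD2_c12 LD3_c41)) :=
  Lre_d IH (LK LD1_c29 LD2_c54 LD3_c10) (LK LD1_c21 LD2_c12 LD3_c41) Lrfl Lrfl
theorem f605441 : Led Lsl_gt (LP (LK LD1_c24 LD2_c55 LD3_c12)) = (LP (LK LD1_c29 LD2_c54 LD3_c10)) :=
  Lgr Lrot49 (Lpe (f29845 IH) (Lpe (f29851 IH) (Lpe (f418187 IH) (Lpe (f418205 IH) (Lpr_dt (f397195 IH) (Lpe (f421940 IH) (Lpr_dt (f29835 IH) (Lpr_cf (f605426 IH) (Lpe (f605437 IH) (Lpn (LP (LK LD1_c29 LD2_c54 LD3_c10))))))))))))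
theorem f605443 : Led Lsl_gf (LP (LK LD1_c31 LD2_c42 LD3_c7)) = (LP (LK LD1_c29 LD2_c54 LD3_c10)) :=
  Lgr Lrot76 (Lpe (K35.f30033 IH) (Lpr_ff (f30408 IH) (Lpr_gt (f605441 IH) (Lpn (LP (LK LD1_c29 LD2_c54 LD3_c10))))))
theorem f29877 : Led Lsl_dt (LP (LK LD1_c15 LD2_c6 LD3_c50)) = (LP (LK LD1_c8 LD2_c1 LD3_c34)) :=
  Lre_d IH (LK LD1_c15 LD2_c6 LD3_c50) (LK LD1_c8 LD2_c1 LD3_c34) Lrfl Lrfl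
theorem f241363 : Led Lsl_dt (LP (LK LD1_c21 LD2_c12 LD3_c41)) = (LP (LK LD1_c29 LD2_c54 LD3_c10)) :=
  Lre_d IH (LK LD1_c21 LD2_c12 LD3_c41) (LK LD1_c29 LD2_c54 LD3_c10) Lrfl Lrfl
theorem f605446 : Led Lsl_cf (LP (LK LD1_c15 LD2_c23 LD3_c29)) = (LP (LK LD1_c12 LD2_c6 LD3_c40)) :=
  Lgr Lrot166 (Lpe (K52.f605424 IH) (Lpr_dt (f29877 IH) (Lpr_gt (K49.f29872 IH) (Lpr_dt (f30344 IH) (Lpr_ct (f30324 IH) (Lpe (K35.f30377 IH) (Lpr_gf (f605443 IH) (Lpe (f241363 IH) (Lpe (f241314 IH) (Lpn (LP (LK LD1_c12 LD2_c6 LD3_c40))))))))))))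
theorem f357166 : Led Lsl_at (LP (LK LD1_c15 LD2_c23 LD3_c29)) = (LP (LK LD1_c25 LD2_c15 LD3_c46)) :=
  Lre_a IH (LK LD1_c15 LD2_c23 LD3_c29) (LK LD1_c25 LD2_c15 LD3_c46) Lrfl Lrfl
theorem f443180 : Led Lsl_at (LP (LK LD1_c21 LD2_c12 LD3_c42)) = (LP (LK LD1_c12 LD2_c6 LD3_c40)) :=
  Lre_a IH (LK LD1_c21 LD2_c12 LD3_c42) (LK LD1_c12 LD2_c6 LD3_c40) Lrfl Lrfl
theorem f605448 : Led Lsl_ct (LP (LK LD1_c25 LD2_c15 LD3_c46)) = (LP (LK LD1_c21 LD2_c12 LD3_c42)) :=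
  Lgr Lrot111 (Lpe (f357166 IH) (Lpr_cf (f605446 IH) (Lpe (f443180 IH) (Lpn (LP (LK LD1_c21 LD2_c12 LD3_c42))))))
theorem f199310 : Led Lsl_dt (LP (LK LD1_c15 LD2_c23 LD3_c28)) = (LP (LK LD1_c25 LD2_c15 LD3_c46)) :=
  Lre_d IH (LK LD1_c15 LD2_c23 LD3_c28) (LK LD1_c25 LD2_c15 LD3_c46) Lrfl Lrfl
theorem f551500 : Led Lsl_df (LP (LK LD1_c16 LD2_c14 LD3_c55)) = (LP (LK LD1_c15 LD2_c6 LD3_c58)) :=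
  Lgr Lrot38 (Lpr_dt (f551498 IH) (Lpn (LP (LK LD1_c15 LD2_c6 LD3_c58))))
theorem f29250 : Led Lsl_ct (LP (LK LD1_c15 LD2_c6 LD3_c60)) = (LP (LK LD1_c8 LD2_c1 LD3_c37)) :=
  Lre_c IH (LK LD1_c15 LD2_c6 LD3_c60) (LK LD1_c8 LD2_c1 LD3_c37) Lrfl Lrfl
theorem f70077 : Led Lsl_dt (LP (LK LD1_c29 LD2_c54 LD3_c12)) = (LP (LK LD1_c21 LD2_c12 LD3_c42)) :=
  Lre_d IH (LK LD1_c29 LD2_c54 LD3_c12) (LK LD1_c21 LD2_c12 LD3_c42) Lrfl Lrfl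
theorem f70038 : Led Lsl_ft (LP (LK LD1_c25 LD2_c2 LD3_c48)) = (LP (LK LD1_c16 LD2_c23 LD3_c36)) :=
  Lgr Lrot4 (Lpe (K45.f69783 IH) (Lpr_ff (K39.f70033 IH) (Lpe (K39.f70037 IH) (Lpn (LP (LK LD1_c16 LD2_c23 LD3_c36))))))
theorem f69817 : Led Lsl_bt (LP (LK LD1_c12 LD2_c6 LD3_c41)) = (LP (LK LD1_c21 LD2_c12 LD3_c43)) :=
  Lre_b IH (LK LD1_c12 LD2_c6 LD3_c41) (LK LD1_c21 LD2_c12 LD3_c43) Lrfl Lrfl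
theorem f69818 : Led Lsl_ct (LP (LK LD1_c21 LD2_c12 LD3_c43)) = (LP (LK LD1_c29 LD2_c54 LD3_c15)) :=
  Lre_c IH (LK LD1_c21 LD2_c12 LD3_c43) (LK LD1_c29 LD2_c54 LD3_c15) Lrfl Lrfl
theorem f69819 : Led Lsl_bf (LP (LK LD1_c25 LD2_c2 LD3_c48)) = (LP (LK LD1_c29 LD2_c54 LD3_c15)) :=
  Lgr Lrot90 (Lpr_ct (K45.f69785 IH) (Lpr_bt (K45.f69816 IH) (Lpr_ct (K2.f69814 IH) (Lpr_bt (f69817 IH) (Lpr_ct (f69818 IH) (Lpn (LP (LK LD1_c29 LD2_c54 LD3_c15))))))))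
theorem f70051 : Led Lsl_bt (LP (LK LD1_c16 LD2_c23 LD3_c36)) = (LP (LK LD1_c26 LD2_c21 LD3_c38)) :=
  Lre_b IH (LK LD1_c16 LD2_c23 LD3_c36) (LK LD1_c26 LD2_c21 LD3_c38) Lrfl Lrfl
theorem f70052 : Led Lsl_ff (LP (LK LD1_c29 LD2_c54 LD3_c15)) = (LP (LK LD1_c26 LD2_c21 LD3_c38)) :=
  Lgr Lrot25 (Lpe (f69819 IH) (Lpr_ft (f70038 IH) (Lpr_bt (f70051 IH) (Lpn (LP (LK LD1_c26 LD2_c21 LD3_c38))))))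
theorem f70060 : Led Lsl_ft (LP (LK LD1_c29 LD2_c54 LD3_c15)) = (LP (LK LD1_c26 LD2_c21 LD3_c38)) :=
  Lgr Lrot48 (Lpr_ff (f70052 IH) (Lpn (LP (LK LD1_c26 LD2_c21 LD3_c38))))
theorem f70064 : Led Lsl_ct (LP (LK LD1_c26 LD2_c21 LD3_c38)) = (LP (LK LD1_c16 LD2_c23 LD3_c43)) :=
  Lre_c IH (LK LD1_c26 LD2_c21 LD3_c38) (LK LD1_c16 LD2_c23 LD3_c43) Lrfl Lrfl
theorem f70065 : Led Lsl_ff (LP (LK LD1_c21 LD2_c12 LD3_c43)) = (LP (LK LD1_c16 LD2_c23 LD3_c43)) :=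
  Lgr Lrot23 (Lpr_ct (f69818 IH) (Lpr_ft (f70060 IH) (Lpr_ct (f70064 IH) (Lpn (LP (LK LD1_c16 LD2_c23 LD3_c43))))))
theorem f69835 : Led Lsl_at (LP (LK LD1_c21 LD2_c12 LD3_c43)) = (LP (LK LD1_c29 LD2_c54 LD3_c12)) :=
  Lre_a IH (LK LD1_c21 LD2_c12 LD3_c43) (LK LD1_c29 LD2_c54 LD3_c12) Lrfl Lrfl
theorem f70074 : Led Lsl_gt (LP (LK LD1_c16 LD2_c23 LD3_c43)) = (LP (LK LD1_c26 LD2_c21 LD3_c43)) :=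
  Lre_g IH (LK LD1_c16 LD2_c23 LD3_c43) (LK LD1_c26 LD2_c21 LD3_c43) Lrfl Lrfl
theorem f70075 : Led Lsl_gf (LP (LK LD1_c29 LD2_c54 LD3_c12)) = (LP (LK LD1_c26 LD2_c21 LD3_c43)) :=
  Lgr Lrot76 (Lpe (f69835 IH) (Lpr_ff (f70065 IH) (Lpr_gt (f70074 IH) (Lpn (LP (LK LD1_c26 LD2_c21 LD3_c43))))))
theorem f605472 : Led Lsl_dt (LP (LK LD1_c24 LD2_c55 LD3_c10)) = (LP (LK LD1_c26 LD2_c21 LD3_c43)) :=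
  Lgr Lrot115 (Lpe (f30418 IH) (Lpr_ct (f29250 IH) (Lpr_gt (f29279 IH) (Lpe (f551500 IH) (Lpe (f357169 IH) (Lpr_dt (f199310 IH) (Lpr_ct (f605448 IH) (Lpe (f70077 IH) (Lpr_gf (f70075 IH) (Lpn (LP (LK LD1_c26 LD2_c21 LD3_c43))))))))))))
theorem f30331 : Led Lsl_gt (LP (LK LD1_c15 LD2_c6 LD3_c57)) = (LP (LK LD1_c15 LD2_c5 LD3_c54)) :=
  Lgr Lrot5 (Lpr_ft (K35.f30317 IH) (Lpr_at (K35.f30316 IH) (Lpe (f29858 IH) (Lpn (LP (LK LD1_c15 LD2_c5 LD3_c54))))))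
theorem f70071 : Led Lsl_dt (LP (LK LD1_c21 LD2_c12 LD3_c43)) = (LP (LK LD1_c12 LD2_c6 LD3_c40)) :=
  Lre_d IH (LK LD1_c21 LD2_c12 LD3_c43) (LK LD1_c12 LD2_c6 LD3_c40) Lrfl Lrfl
theorem f70086 : Led Lsl_gt (LP (LK LD1_c29 LD2_c54 LD3_c14)) = (LP (LK LD1_c21 LD2_c12 LD3_c43)) :=
  Lre_g IH (LK LD1_c29 LD2_c54 LD3_c14) (LK LD1_c21 LD2_c12 LD3_c43) Lrfl Lrfl
theorem f605452 : Led Lsl_dt (LP (LK LD1_c24 LD2_c53 LD3_c47)) = (LP (LK LD1_c29 LD2_c54 LD3_c14)) :=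
  Lgr Lrot57 (Lpe (f30361 IH) (Lpe (K35.f29909 IH) (Lpr_gt (f30331 IH) (Lpr_dt (f551468 IH) (Lpr_gt (f199291 IH) (Lpr_dt (K52.f199278 IH) (Lpr_cf (f605446 IH) (Lpe (f70071 IH) (Lpe (f70086 IH) (Lpn (LP (LK LD1_c29 LD2_c54 LD3_c14))))))))))))
theorem f605455 : Led Lsl_df (LP (LK LD1_c24 LD2_c53 LD3_c47)) = (LP (LK LD1_c29 LD2_c54 LD3_c14)) :=
  Lgr Lrot38 (Lpr_dt (f605452 IH) (Lpn (LP (LK LD1_c29 LD2_c54 LD3_c14))))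
theorem f728927 : Led Lsl_at (LP (LK LD1_c26 LD2_c21 LD3_c43)) = (LP (LK LD1_c29 LD2_c54 LD3_c14)) :=
  Lgr Lrot51 (Lpe (f605472 IH) (Lpr_af (f728923 IH) (Lpr_df (f605455 IH) (Lpn (LP (LK LD1_c29 LD2_c54 LD3_c14))))))
theorem f70067 : Led Lsl_at (LP (LK LD1_c26 LD2_c21 LD3_c45)) = (LP (LK LD1_c16 LD2_c23 LD3_c43)) :=
  Lre_a IH (LK LD1_c26 LD2_c21 LD3_c45) (LK LD1_c16 LD2_c23 LD3_c43) Lrfl Lrfl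
theorem f70068 : Led Lsl_ft (LP (LK LD1_c29 LD2_c54 LD3_c12)) = (LP (LK LD1_c26 LD2_c21 LD3_c45)) :=
  Lgr Lrot101 (Lpe (f69835 IH) (Lpr_ff (f70065 IH) (Lpe (f70067 IH) (Lpn (LP (LK LD1_c26 LD2_c21 LD3_c45))))))
theorem f70079 : Led Lsl_ff (LP (LK LD1_c29 LD2_c54 LD3_c12)) = (LP (LK LD1_c26 LD2_c21 LD3_c45)) :=
  Lgr Lrot3 (Lpr_ft (f70068 IH) (Lpn (LP (LK LD1_c26 LD2_c21 LD3_c45))))
theorem f70084 : Led Lsl_at (LP (LK LD1_c29 LD2_c54 LD3_c12)) = (LP (LK LD1_c21 LD2_c12 LD3_c43)) :=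
  Lre_a IH (LK LD1_c29 LD2_c54 LD3_c12) (LK LD1_c21 LD2_c12 LD3_c43) Lrfl Lrfl
theorem f70087 : Led Lsl_gf (LP (LK LD1_c29 LD2_c54 LD3_c14)) = (LP (LK LD1_c26 LD2_c21 LD3_c45)) :=
  Lgr Lrot47 (Lpr_gt (f70086 IH) (Lpe (f70084 IH) (Lpr_ff (f70079 IH) (Lpn (LP (LK LD1_c26 LD2_c21 LD3_c45))))))
theorem f69952 : Led Lsl_bt (LP (LK LD1_c16 LD2_c23 LD3_c43)) = (LP (LK LD1_c8 LD2_c45 LD3_c33)) :=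
  Lre_b IH (LK LD1_c16 LD2_c23 LD3_c43) (LK LD1_c8 LD2_c45 LD3_c33) Lrfl Lrfl
theorem f69964 : Led Lsl_ft (LP (LK LD1_c21 LD2_c12 LD3_c43)) = (LP (LK LD1_c16 LD2_c23 LD3_c43)) :=
  Lgr Lrot75 (Lpe (f69817 IH) (Lpr_ff (K2.f69961 IH) (Lpe (f69952 IH) (Lpn (LP (LK LD1_c16 LD2_c23 LD3_c43))))))
theorem f69830 : Led Lsl_gt (LP (LK LD1_c21 LD2_c12 LD3_c43)) = (LP (LK LD1_c29 LD2_c54 LD3_c13)) :=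
  Lre_g IH (LK LD1_c21 LD2_c12 LD3_c43) (LK LD1_c29 LD2_c54 LD3_c13) Lrfl Lrfl
theorem f70085 : Led Lsl_at (LP (LK LD1_c16 LD2_c23 LD3_c43)) = (LP (LK LD1_c26 LD2_c21 LD3_c45)) :=
  Lre_a IH (LK LD1_c16 LD2_c23 LD3_c43) (LK LD1_c26 LD2_c21 LD3_c45) Lrfl Lrfl
theorem f443188 : Led Lsl_gt (LP (LK LD1_c29 LD2_c54 LD3_c13)) = (LP (LK LD1_c26 LD2_c21 LD3_c45)) :=
  Lgr Lrot46 (Lpe (f69830 IH) (Lpr_ft (f69964 IH) (Lpr_at (f70085 IH) (Lpn (LP (LK LD1_c26 LD2_c21 LD3_c45))))))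
theorem f728931 : Led Lsl_ff (LP (LK LD1_c26 LD2_c21 LD3_c43)) = (LP (LK LD1_c29 LD2_c54 LD3_c13)) :=
  Lgr Lrot52 (Lpr_at (f728927 IH) (Lpr_gf (f70087 IH) (Lpe (f443188 IH) (Lpn (LP (LK LD1_c29 LD2_c54 LD3_c13))))))
theorem f728935 : Led Lsl_ft (LP (LK LD1_c26 LD2_c21 LD3_c43)) = (LP (LK LD1_c29 LD2_c54 LD3_c13)) :=
  Lgr Lrot48 (Lpr_ff (f728931 IH) (Lpn (LP (LK LD1_c29 LD2_c54 LD3_c13))))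
theorem f728925 : Led Lsl_ff (LP (LK LD1_c24 LD2_c55 LD3_c10)) = (LP (LK LD1_c24 LD2_c53 LD3_c46)) :=
  Lgr Lrot3 (Lpr_ft (f728921 IH) (Lpn (LP (LK LD1_c24 LD2_c53 LD3_c46))))
theorem f728937 : Led Lsl_df (LP (LK LD1_c24 LD2_c53 LD3_c46)) = (LP (LK LD1_c29 LD2_c54 LD3_c13)) :=
  Lgr Lrot78 (Lpe (f728925 IH) (Lpr_dt (f605472 IH) (Lpr_ft (f728935 IH) (Lpn (LP (LK LD1_c29 LD2_c54 LD3_c13))))))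
theorem f310099 : Led Lsl_ct (LP (LK LD1_c2 LD2_c48 LD3_c1)) = (LP (LK LD1_c1 LD2_c20 LD3_c16)) :=
  Lre_c IH (LK LD1_c2 LD2_c48 LD3_c1) (LK LD1_c1 LD2_c20 LD3_c16) Lrfl Lrfl
theorem f579936 : Led Lsl_bt (LP (LK LD1_c17 LD2_c43 LD3_c47)) = (LP (LK LD1_c11 LD2_c18 LD3_c13)) :=
  Lgr Lrot128 (Lpr_cf (K66.f237486 IH) (Lpe (K66.f237489 IH) (Lpe (K66.f237490 IH) (Lpr_bf (K66.f579932 IH) (Lpe (K44.f558325 IH) (Lpn (LP (LK LD1_c11 LD2_c18 LD3_c13))))))))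
theorem f728969 : Led Lsl_gf (LP (LK LD1_c26 LD2_c15 LD3_c18)) = (LP (LK LD1_c31 LD2_c38 LD3_c28)) :=
  Lgr Lrot85 (Lpr_dt (K66.f237493 IH) (Lpe (K66.f237486 IH) (Lpr_bt (f579936 IH) (Lpr_gt (K39.f140406 IH) (Lpr_dt (K39.f270618 IH) (Lpr_ct (f310099 IH) (Lpr_bt (K38.f172371 IH) (Lpr_gt (K38.f383986 IH) (Lpe (K42.f547425 IH) (Lpq (K38.f547308 IH) (Lpr_ct (K38.f547315 IH) (Lpe (K43.f547328 IH) (Lpr_gt (K10.f197819 IH) (Lpr_dt (K2.f69813 IH) (Lpr_ct (K2.f69814 IH) (Lpr_bt (f69817 IH) (Lpr_gt (f69830 IH) (Lpe (f728937 IH) (Lpe (f728882 IH) (Lpr_bt (f728962 IH) (Lpn (LP (LK LD1_c31 LD2_c38 LD3_c28)))))))))))))))))))))))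
theorem f580115 : Led Lsl_ft (LP (LK LD1_c17 LD2_c43 LD3_c47)) = (LP (LK LD1_c11 LD2_c19 LD3_c31)) :=
  Lgr Lrot48 (Lpr_ff (K66.f580111 IH) (Lpn (LP (LK LD1_c11 LD2_c19 LD3_c31))))
theorem f383896 : Led Lsl_bt (LP (LK LD1_c17 LD2_c54 LD3_c59)) = (LP (LK LD1_c9 LD2_c45 LD3_c20)) :=
  Lre_b IH (LK LD1_c17 LD2_c54 LD3_c59) (LK LD1_c9 LD2_c45 LD3_c20) Lrfl Lrfl
theorem f383897 : Led Lsl_df (LP (LK LD1_c17 LD2_c54 LD3_c59)) = (LP (LK LD1_c11 LD2_c19 LD3_c31)) :=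
  Lgr Lrot12 (Lpr_bt (f383896 IH) (Lpr_dt (K39.f383873 IH) (Lpr_bt (K66.f383837 IH) (Lpn (LP (LK LD1_c11 LD2_c19 LD3_c31))))))
theorem f383916 : Led Lsl_bt (LP (LK LD1_c9 LD2_c45 LD3_c20)) = (LP (LK LD1_c17 LD2_c54 LD3_c59)) :=
  Lre_b IH (LK LD1_c9 LD2_c45 LD3_c20) (LK LD1_c17 LD2_c54 LD3_c59) Lrfl Lrfl
theorem f381319 : Led Lsl_bt (LP (LK LD1_c19 LD2_c59 LD3_c54)) = (LP (LK LD1_c11 LD2_c6 LD3_c26)) :=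
  Lre_b IH (LK LD1_c19 LD2_c59 LD3_c54) (LK LD1_c11 LD2_c6 LD3_c26) Lrfl Lrfl
theorem f579904 : Led Lsl_ft (LP (LK LD1_c17 LD2_c54 LD3_c59)) = (LP (LK LD1_c19 LD2_c59 LD3_c54)) :=
  Lgr Lrot75 (Lpe (f383916 IH) (Lpr_ff (K44.f579900 IH) (Lpe (f381319 IH) (Lpn (LP (LK LD1_c19 LD2_c59 LD3_c54))))))
theorem f580129 : Led Lsl_df (LP (LK LD1_c17 LD2_c43 LD3_c47)) = (LP (LK LD1_c19 LD2_c59 LD3_c54)) :=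
  Lgr Lrot78 (Lpr_ft (f580115 IH) (Lpe (f383897 IH) (Lpr_ft (f579904 IH) (Lpn (LP (LK LD1_c19 LD2_c59 LD3_c54))))))
theorem f619304 : Led Lsl_cf (LP (LK LD1_c16 LD2_c20 LD3_c0)) = (LP (LK LD1_c11 LD2_c19 LD3_c3)) :=
  Lgr Lrot11 (Lpr_ct (f619301 IH) (Lpn (LP (LK LD1_c11 LD2_c19 LD3_c3))))
theorem f311755 : Led Lsl_bt (LP (LK LD1_c15 LD2_c42 LD3_c29)) = (LP (LK LD1_c25 LD2_c38 LD3_c19)) :=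
  Lre_b IH (LK LD1_c15 LD2_c42 LD3_c29) (LK LD1_c25 LD2_c38 LD3_c19) Lrfl Lrfl
theorem f178822 : Led Lsl_bt (LP (LK LD1_c25 LD2_c38 LD3_c19)) = (LP (LK LD1_c15 LD2_c42 LD3_c29)) :=
  Lre_b IH (LK LD1_c25 LD2_c38 LD3_c19) (LK LD1_c15 LD2_c42 LD3_c29) Lrfl Lrfl
theorem f238690 : Led Lsl_bt (LP (LK LD1_c8 LD2_c33 LD3_c46)) = (LP (LK LD1_c4 LD2_c17 LD3_c20)) :=
  Lre_b IH (LK LD1_c8 LD2_c33 LD3_c46) (LK LD1_c4 LD2_c17 LD3_c20) Lrfl Lrfl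
theorem f238609 : Led Lsl_bt (LP (LK LD1_c8 LD2_c36 LD3_c60)) = (LP (LK LD1_c4 LD2_c19 LD3_c18)) :=
  Lre_b IH (LK LD1_c8 LD2_c36 LD3_c60) (LK LD1_c4 LD2_c19 LD3_c18) Lrfl Lrfl
theorem f238628 : Led Lsl_bt (LP (LK LD1_c4 LD2_c17 LD3_c20)) = (LP (LK LD1_c8 LD2_c33 LD3_c46)) :=
  Lre_b IH (LK LD1_c4 LD2_c17 LD3_c20) (LK LD1_c8 LD2_c33 LD3_c46) Lrfl Lrfl
theorem f238629 : Led Lsl_cf (LP (LK LD1_c8 LD2_c36 LD3_c60)) = (LP (LK LD1_c8 LD2_c33 LD3_c46)) :=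
  Lgr Lrot97 (Lpr_bt (f238609 IH) (Lpr_ct (K13.f227942 IH) (Lpr_bt (K14.f238620 IH) (Lpr_ct (K16.f199585 IH) (Lpr_bt (f238628 IH) (Lpn (LP (LK LD1_c8 LD2_c33 LD3_c46))))))))
theorem f238519 : Led Lsl_gt (LP (LK LD1_c16 LD2_c8 LD3_c31)) = (LP (LK LD1_c8 LD2_c36 LD3_c60)) :=
  Lre_g IH (LK LD1_c16 LD2_c8 LD3_c31) (LK LD1_c8 LD2_c36 LD3_c60) Lrfl Lrfl
theorem f311745 : Led Lsl_ct (LP (LK LD1_c25 LD2_c38 LD3_c19)) = (LP (LK LD1_c16 LD2_c8 LD3_c31)) :=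
  Lgr Lrot64 (Lpr_bt (f178822 IH) (Lpe (K54.f178774 IH) (Lpe (K31.f178758 IH) (Lpr_ct (K19.f178764 IH) (Lpe (K19.f311743 IH) (Lpr_cf (K19.f311732 IH) (Lpr_gf (K19.f303340 IH) (Lpe (f238690 IH) (Lpe (f238629 IH) (Lpe (f238519 IH) (Lpn (LP (LK LD1_c16 LD2_c8 LD3_c31)))))))))))))
theorem f238599 : Led Lsl_bt (LP (LK LD1_c16 LD2_c8 LD3_c31)) = (LP (LK LD1_c26 LD2_c5 LD3_c17)) :=
  Lre_b IH (LK LD1_c16 LD2_c8 LD3_c31) (LK LD1_c26 LD2_c5 LD3_c17) Lrfl Lrfl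
theorem f238520 : Led Lsl_bt (LP (LK LD1_c26 LD2_c5 LD3_c17)) = (LP (LK LD1_c16 LD2_c8 LD3_c31)) :=
  Lre_b IH (LK LD1_c26 LD2_c5 LD3_c17) (LK LD1_c16 LD2_c8 LD3_c31) Lrfl Lrfl
theorem f238521 : Led Lsl_ct (LP (LK LD1_c8 LD2_c40 LD3_c57)) = (LP (LK LD1_c16 LD2_c15 LD3_c32)) :=
  Lre_c IH (LK LD1_c8 LD2_c40 LD3_c57) (LK LD1_c16 LD2_c15 LD3_c32) Lrfl Lrfl
theorem f238522 : Led Lsl_gt (LP (LK LD1_c16 LD2_c15 LD3_c32)) = (LP (LK LD1_c26 LD2_c13 LD3_c1)) :=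
  Lre_g IH (LK LD1_c16 LD2_c15 LD3_c32) (LK LD1_c26 LD2_c13 LD3_c1) Lrfl Lrfl
theorem f238523 : Led Lsl_ct (LP (LK LD1_c26 LD2_c5 LD3_c17)) = (LP (LK LD1_c26 LD2_c13 LD3_c1)) :=
  Lgr Lrot63 (Lpr_bt (f238520 IH) (Lpr_gt (f238519 IH) (Lpe (f236479 IH) (Lpr_ct (K13.f227942 IH) (Lpr_gt (K13.f238506 IH) (Lpe (K12.f28933 IH) (Lpr_bt (K15.f43118 IH) (Lpr_gt (K52.f43119 IH) (Lpr_ct (f238521 IH) (Lpr_gt (f238522 IH) (Lpn (LP (LK LD1_c26 LD2_c13 LD3_c1)))))))))))))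
theorem f399565 : Led Lsl_bt (LP (LK LD1_c26 LD2_c13 LD3_c1)) = (LP (LK LD1_c20 LD2_c19 LD3_c18)) :=
  Lgr Lrot128 (Lpe (f238523 IH) (Lpe (f238599 IH) (Lpe (f311745 IH) (Lpe (f311755 IH) (Lpr_cf (K54.f399555 IH) (Lpn (LP (LK LD1_c20 LD2_c19 LD3_c18))))))))
theorem f238600 : Led Lsl_cf (LP (LK LD1_c26 LD2_c5 LD3_c17)) = (LP (LK LD1_c26 LD2_c13 LD3_c1)) :=
  Lgr Lrot11 (Lpr_ct (f238523 IH) (Lpn (LP (LK LD1_c26 LD2_c13 LD3_c1))))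
theorem f619316 : Led Lsl_gt (LP (LK LD1_c16 LD2_c20 LD3_c0)) = (LP (LK LD1_c26 LD2_c5 LD3_c17)) :=
  Lgr Lrot149 (Lpr_cf (f619304 IH) (Lpe (K54.f619299 IH) (Lpe (K15.f262726 IH) (Lpr_ct (K54.f262728 IH) (Lpe (K54.f373991 IH) (Lpe (K54.f399609 IH) (Lpr_bt (K54.f399595 IH) (Lpr_gf (K54.f399591 IH) (Lpe (f399565 IH) (Lpe (f238600 IH) (Lpn (LP (LK LD1_c26 LD2_c5 LD3_c17)))))))))))))
theorem f262739 : Led Lsl_dt (LP (LK LD1_c16 LD2_c15 LD3_c26)) = (LP (LK LD1_c26 LD2_c12 LD3_c58)) :=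
  Lre_d IH (LK LD1_c16 LD2_c15 LD3_c26) (LK LD1_c26 LD2_c12 LD3_c58) Lrfl Lrfl
theorem f382521 : Led Lsl_bt (LP (LK LD1_c16 LD2_c48 LD3_c13)) = (LP (LK LD1_c26 LD2_c46 LD3_c12)) :=
  Lre_b IH (LK LD1_c16 LD2_c48 LD3_c13) (LK LD1_c26 LD2_c46 LD3_c12) Lrfl Lrfl
theorem f399575 : Led Lsl_dt (LP (LK LD1_c26 LD2_c46 LD3_c12)) = (LP (LK LD1_c26 LD2_c13 LD3_c1)) :=
  Lgr Lrot79 (Lpe (f382521 IH) (Lpr_df (K67.f399573 IH) (Lpe (f399565 IH) (Lpn (LP (LK LD1_c26 LD2_c13 LD3_c1))))))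
theorem f382508 : Led Lsl_bt (LP (LK LD1_c26 LD2_c46 LD3_c12)) = (LP (LK LD1_c16 LD2_c48 LD3_c13)) :=
  Lre_b IH (LK LD1_c26 LD2_c46 LD3_c12) (LK LD1_c16 LD2_c48 LD3_c13) Lrfl Lrfl
theorem f382511 : Led Lsl_bt (LP (LK LD1_c10 LD2_c49 LD3_c34)) = (LP (LK LD1_c19 LD2_c34 LD3_c8)) :=
  Lre_b IH (LK LD1_c10 LD2_c49 LD3_c34) (LK LD1_c19 LD2_c34 LD3_c8) Lrfl Lrfl
theorem f382512 : Led Lsl_cf (LP (LK LD1_c26 LD2_c46 LD3_c12)) = (LP (LK LD1_c19 LD2_c34 LD3_c8)) :=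
  Lgr Lrot97 (Lpr_bt (f382508 IH) (Lpr_ct (K31.f382496 IH) (Lpr_bt (K31.f382509 IH) (Lpr_ct (K31.f382510 IH) (Lpr_bt (f382511 IH) (Lpn (LP (LK LD1_c19 LD2_c34 LD3_c8))))))))
theorem f424054 : Led Lsl_bt (LP (LK LD1_c11 LD2_c15 LD3_c49)) = (LP (LK LD1_c20 LD2_c11 LD3_c22)) :=
  Lre_b IH (LK LD1_c11 LD2_c15 LD3_c49) (LK LD1_c20 LD2_c11 LD3_c22) Lrfl Lrfl
theorem f174443 : Led Lsl_bt (LP (LK LD1_c8 LD2_c58 LD3_c6)) = (LP (LK LD1_c4 LD2_c32 LD3_c14)) :=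
  Lgr Lrot128 (Lpe (K20.f174440 IH) (Lpe (K31.f174439 IH) (Lpr_cf (K12.f173400 IH) (Lpe (K31.f174441 IH) (Lpe (K31.f174442 IH) (Lpn (LP (LK LD1_c4 LD2_c32 LD3_c14))))))))
theorem f589177 : Led Lsl_gt (LP (LK LD1_c20 LD2_c11 LD3_c22)) = (LP (LK LD1_c19 LD2_c34 LD3_c8)) :=
  Lgr Lrot164 (Lpe (f424054 IH) (Lpe (K41.f566706 IH) (Lpe (K51.f589173 IH) (Lpr_cf (K51.f589161 IH) (Lpe (K45.f174511 IH) (Lpe (f174443 IH) (Lpr_ct (K20.f174456 IH) (Lpr_gf (K67.f382532 IH) (Lpe (K67.f382523 IH) (Lpr_bt (f382511 IH) (Lpn (LP (LK LD1_c19 LD2_c34 LD3_c8)))))))))))))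
theorem f382522 : Led Lsl_bt (LP (LK LD1_c5 LD2_c29 LD3_c8)) = (LP (LK LD1_c10 LD2_c49 LD3_c29)) :=
  Lre_b IH (LK LD1_c5 LD2_c29 LD3_c8) (LK LD1_c10 LD2_c49 LD3_c29) Lrfl Lrfl
theorem f382524 : Led Lsl_bt (LP (LK LD1_c19 LD2_c34 LD3_c8)) = (LP (LK LD1_c10 LD2_c49 LD3_c34)) :=
  Lre_b IH (LK LD1_c19 LD2_c34 LD3_c8) (LK LD1_c10 LD2_c49 LD3_c34) Lrfl Lrfl
theorem f382525 : Led Lsl_ct (LP (LK LD1_c26 LD2_c46 LD3_c12)) = (LP (LK LD1_c19 LD2_c34 LD3_c8)) :=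
  Lgr Lrot83 (Lpe (f382521 IH) (Lpr_cf (K31.f382514 IH) (Lpe (f382522 IH) (Lpe (K67.f382523 IH) (Lpe (f382524 IH) (Lpn (LP (LK LD1_c19 LD2_c34 LD3_c8))))))))
theorem f281685 : Led Lsl_ct (LP (LK LD1_c8 LD2_c59 LD3_c16)) = (LP (LK LD1_c4 LD2_c30 LD3_c28)) :=
  Lre_c IH (LK LD1_c8 LD2_c59 LD3_c16) (LK LD1_c4 LD2_c30 LD3_c28) Lrfl Lrfl
theorem f382484 : Led Lsl_at (LP (LK LD1_c8 LD2_c58 LD3_c55)) = (LP (LK LD1_c4 LD2_c30 LD3_c23)) :=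
  Lre_a IH (LK LD1_c8 LD2_c58 LD3_c55) (LK LD1_c4 LD2_c30 LD3_c23) Lrfl Lrfl
theorem f382485 : Led Lsl_ft (LP (LK LD1_c4 LD2_c30 LD3_c28)) = (LP (LK LD1_c8 LD2_c58 LD3_c55)) :=
  Lre_f IH (LK LD1_c4 LD2_c30 LD3_c28) (LK LD1_c8 LD2_c58 LD3_c55) Lrfl Lrfl
theorem f382486 : Led Lsl_gt (LP (LK LD1_c4 LD2_c30 LD3_c28)) = (LP (LK LD1_c5 LD2_c28 LD3_c29)) :=
  Lgr Lrot5 (Lpr_ft (f382485 IH) (Lpr_at (f382484 IH) (Lpr_gf (K27.f382481 IH) (Lpn (LP (LK LD1_c5 LD2_c28 LD3_c29))))))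
theorem f589179 : Led Lsl_cf (LP (LK LD1_c20 LD2_c11 LD3_c22)) = (LP (LK LD1_c19 LD2_c59 LD3_c54)) :=
  Lgr Lrot160 (Lpr_gt (f589177 IH) (Lpe (f382525 IH) (Lpr_bt (f382508 IH) (Lpr_gt (K31.f281666 IH) (Lpr_ct (f281685 IH) (Lpr_gt (f382486 IH) (Lpe (K27.f178156 IH) (Lpe (K51.f381312 IH) (Lpr_gt (K39.f242672 IH) (Lpe (f381319 IH) (Lpn (LP (LK LD1_c19 LD2_c59 LD3_c54)))))))))))))
theorem f619318 : Led Lsl_gt (LP (LK LD1_c26 LD2_c12 LD3_c58)) = (LP (LK LD1_c19 LD2_c59 LD3_c54)) :=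
  Lgr Lrot9 (Lpe (f262739 IH) (Lpr_gt (K54.f619299 IH) (Lpe (f619304 IH) (Lpr_gt (f619316 IH) (Lpr_ct (f238523 IH) (Lpe (f399575 IH) (Lpr_cf (f382512 IH) (Lpe (f589177 IH) (Lpr_cf (f589179 IH) (Lpn (LP (LK LD1_c19 LD2_c59 LD3_c54))))))))))))
theorem f294331 : Led Lsl_ft (LP (LK LD1_c9 LD2_c39 LD3_c50)) = (LP (LK LD1_c17 LD2_c46 LD3_c26)) :=
  Lre_f IH (LK LD1_c9 LD2_c39 LD3_c50) (LK LD1_c17 LD2_c46 LD3_c26) Lrfl Lrfl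
theorem f372287 : Led Lsl_gt (LP (LK LD1_c10 LD2_c12 LD3_c32)) = (LP (LK LD1_c17 LD2_c47 LD3_c36)) :=
  Lgr Lrot46 (Lpr_gf (K67.f371656 IH) (Lpr_ft (f294331 IH) (Lpr_at (K26.f294313 IH) (Lpn (LP (LK LD1_c17 LD2_c47 LD3_c36))))))
theorem f171456 : Led Lsl_gt (LP (LK LD1_c8 LD2_c36 LD3_c27)) = (LP (LK LD1_c16 LD2_c7 LD3_c55)) :=
  Lre_g IH (LK LD1_c8 LD2_c36 LD3_c27) (LK LD1_c16 LD2_c7 LD3_c55) Lrfl Lrfl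
theorem f372372 : Led Lsl_ct (LP (LK LD1_c16 LD2_c7 LD3_c55)) = (LP (LK LD1_c15 LD2_c56 LD3_c47)) :=
  Lgr Lrot110 (Lpe (f171456 IH) (Lpe (K26.f171455 IH) (Lpe (K19.f171447 IH) (Lpr_df (K12.f171413 IH) (Lpr_gt (K19.f171457 IH) (Lpr_ct (K67.f171458 IH) (Lpr_gt (f372287 IH) (Lpr_ct (K26.f294332 IH) (Lpe (K14.f49008 IH) (Lpn (LP (LK LD1_c15 LD2_c56 LD3_c47))))))))))))
theorem f372395 : Led Lsl_cf (LP (LK LD1_c16 LD2_c7 LD3_c55)) = (LP (LK LD1_c15 LD2_c56 LD3_c47)) :=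
  Lgr Lrot11 (Lpr_ct (f372372 IH) (Lpn (LP (LK LD1_c15 LD2_c56 LD3_c47))))
theorem f364971 : Led Lsl_dt (LP (LK LD1_c15 LD2_c38 LD3_c39)) = (LP (LK LD1_c8 LD2_c33 LD3_c15)) :=
  Lgr Lrot171 (Lpe (K26.f364951 IH) (Lpr_ef (K26.f364959 IH) (Lpe (K23.f342024 IH) (Lpr_gf (K26.f342027 IH) (Lpr_df (K18.f291699 IH) (Lpr_et (K18.f212427 IH) (Lpe (K24.f291721 IH) (Lpe (K24.f254482 IH) (Lpe (K18.f48997 IH) (Lpe (K25.f355861 IH) (Lpn (LP (LK LD1_c8 LD2_c33 LD3_c15)))))))))))))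
theorem f248591 : Led Lsl_ct (LP (LK LD1_c16 LD2_c8 LD3_c2)) = (LP (LK LD1_c8 LD2_c36 LD3_c31)) :=
  Lre_c IH (LK LD1_c16 LD2_c8 LD3_c2) (LK LD1_c8 LD2_c36 LD3_c31) Lrfl Lrfl
theorem f171502 : Led Lsl_ct (LP (LK LD1_c8 LD2_c36 LD3_c30)) = (LP (LK LD1_c4 LD2_c18 LD3_c53)) :=
  Lre_c IH (LK LD1_c8 LD2_c36 LD3_c30) (LK LD1_c4 LD2_c18 LD3_c53) Lrfl Lrfl
theorem f372405 : Led Lsl_gt (LP (LK LD1_c16 LD2_c7 LD3_c55)) = (LP (LK LD1_c8 LD2_c36 LD3_c30)) :=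
  Lgr Lrot150 (Lpr_cf (f372395 IH) (Lpe (K25.f355861 IH) (Lpe (f364971 IH) (Lpr_gt (K26.f232095 IH) (Lpr_ct (K26.f232092 IH) (Lpe (K67.f362508 IH) (Lpr_ct (f248591 IH) (Lpe (K19.f248590 IH) (Lpe (f171502 IH) (Lpn (LP (LK LD1_c8 LD2_c36 LD3_c30))))))))))))
theorem f372399 : Led Lsl_ff (LP (LK LD1_c16 LD2_c7 LD3_c55)) = (LP (LK LD1_c15 LD2_c49 LD3_c20)) :=
  Lgr Lrot23 (Lpr_ct (f372372 IH) (Lpr_ft (K18.f49015 IH) (Lpr_ct (K26.f213872 IH) (Lpn (LP (LK LD1_c15 LD2_c49 LD3_c20))))))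
theorem f372403 : Led Lsl_ft (LP (LK LD1_c16 LD2_c7 LD3_c55)) = (LP (LK LD1_c15 LD2_c49 LD3_c20)) :=
  Lgr Lrot48 (Lpr_ff (f372399 IH) (Lpn (LP (LK LD1_c15 LD2_c49 LD3_c20))))
theorem f372410 : Led Lsl_at (LP (LK LD1_c15 LD2_c49 LD3_c20)) = (LP (LK LD1_c14 LD2_c57 LD3_c5)) :=
  Lgr Lrot26 (Lpe (f372403 IH) (Lpr_gt (f372405 IH) (Lpe (K26.f362854 IH) (Lpn (LP (LK LD1_c14 LD2_c57 LD3_c5))))))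
theorem f250830 : Led Lsl_et (LP (LK LD1_c14 LD2_c57 LD3_c5)) = (LP (LK LD1_c7 LD2_c55 LD3_c30)) :=
  Lre_e IH (LK LD1_c14 LD2_c57 LD3_c5) (LK LD1_c7 LD2_c55 LD3_c30) Lrfl Lrfl
theorem f372413 : Led Lsl_af (LP (LK LD1_c8 LD2_c25 LD3_c14)) = (LP (LK LD1_c7 LD2_c55 LD3_c30)) :=
  Lgr Lrot50 (Lpr_et (K26.f213866 IH) (Lpr_at (f372410 IH) (Lpr_et (f250830 IH) (Lpn (LP (LK LD1_c7 LD2_c55 LD3_c30))))))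
theorem f372415 : Led Lsl_ft (LP (LK LD1_c4 LD2_c21 LD3_c39)) = (LP (LK LD1_c7 LD2_c55 LD3_c30)) :=
  Lgr Lrot101 (Lpe (K15.f262686 IH) (Lpr_ff (K15.f251064 IH) (Lpr_af (f372413 IH) (Lpn (LP (LK LD1_c7 LD2_c55 LD3_c30))))))
theorem f246690 : Led Lsl_bt (LP (LK LD1_c8 LD2_c40 LD3_c53)) = (LP (LK LD1_c4 LD2_c21 LD3_c39)) :=
  Lre_b IH (LK LD1_c8 LD2_c40 LD3_c53) (LK LD1_c4 LD2_c21 LD3_c39) Lrfl Lrfl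
theorem f229638 : Led Lsl_bt (LP (LK LD1_c7 LD2_c55 LD3_c30)) = (LP (LK LD1_c14 LD2_c57 LD3_c3)) :=
  Lre_b IH (LK LD1_c7 LD2_c55 LD3_c30) (LK LD1_c14 LD2_c57 LD3_c3) Lrfl Lrfl
theorem f372417 : Led Lsl_ff (LP (LK LD1_c8 LD2_c40 LD3_c53)) = (LP (LK LD1_c14 LD2_c57 LD3_c3)) :=
  Lgr Lrot25 (Lpr_bt (f246690 IH) (Lpr_ft (f372415 IH) (Lpr_bt (f229638 IH) (Lpn (LP (LK LD1_c14 LD2_c57 LD3_c3))))))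
theorem f178365 : Led Lsl_bt (LP (LK LD1_c4 LD2_c13 LD3_c8)) = (LP (LK LD1_c2 LD2_c3 LD3_c50)) :=
  Lre_b IH (LK LD1_c4 LD2_c13 LD3_c8) (LK LD1_c2 LD2_c3 LD3_c50) Lrfl Lrfl
theorem f178373 : Led Lsl_ct (LP (LK LD1_c8 LD2_c25 LD3_c44)) = (LP (LK LD1_c4 LD2_c13 LD3_c17)) :=
  Lre_c IH (LK LD1_c8 LD2_c25 LD3_c44) (LK LD1_c4 LD2_c13 LD3_c17) Lrfl Lrfl
theorem f310051 : Led Lsl_bt (LP (LK LD1_c8 LD2_c25 LD3_c44)) = (LP (LK LD1_c15 LD2_c49 LD3_c57)) :=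
  Lre_b IH (LK LD1_c8 LD2_c25 LD3_c44) (LK LD1_c15 LD2_c49 LD3_c57) Lrfl Lrfl
theorem f310052 : Led Lsl_gf (LP (LK LD1_c15 LD2_c49 LD3_c57)) = (LP (LK LD1_c14 LD2_c57 LD3_c3)) :=
  Lgr Lrot124 (Lpe (f310051 IH) (Lpr_ct (f178373 IH) (Lpr_gt (K50.f178318 IH) (Lpe (K50.f178346 IH) (Lpr_bt (f178365 IH) (Lpr_gt (K19.f178333 IH) (Lpr_ct (K19.f310033 IH) (Lpr_gt (K17.f283225 IH) (Lpe (K17.f229635 IH) (Lpr_bt (f229638 IH) (Lpn (LP (LK LD1_c14 LD2_c57 LD3_c3)))))))))))))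
theorem f372422 : Led Lsl_gf (LP (LK LD1_c16 LD2_c15 LD3_c26)) = (LP (LK LD1_c15 LD2_c49 LD3_c57)) :=
  Lgr Lrot76 (Lpe (K15.f262697 IH) (Lpr_ff (f372417 IH) (Lpe (f310052 IH) (Lpn (LP (LK LD1_c15 LD2_c49 LD3_c57))))))
theorem f310054 : Led Lsl_ct (LP (LK LD1_c15 LD2_c49 LD3_c57)) = (LP (LK LD1_c25 LD2_c45 LD3_c58)) :=
  Lre_c IH (LK LD1_c15 LD2_c49 LD3_c57) (LK LD1_c25 LD2_c45 LD3_c58) Lrfl Lrfl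
theorem f728878 : Led Lsl_dt (LP (LK LD1_c26 LD2_c20 LD3_c46)) = (LP (LK LD1_c27 LD2_c25 LD3_c33)) :=
  Lgr Lrot42 (Lpr_df (f728876 IH) (Lpn (LP (LK LD1_c27 LD2_c25 LD3_c33))))
theorem f728964 : Led Lsl_dt (LP (LK LD1_c26 LD2_c18 LD3_c1)) = (LP (LK LD1_c31 LD2_c38 LD3_c28)) :=
  Lgr Lrot79 (Lpe (f619310 IH) (Lpe (f728878 IH) (Lpr_bf (f728960 IH) (Lpn (LP (LK LD1_c31 LD2_c38 LD3_c28))))))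
theorem f728971 : Led Lsl_gt (LP (LK LD1_c25 LD2_c45 LD3_c58)) = (LP (LK LD1_c26 LD2_c18 LD3_c1)) :=
  Lgr Lrot94 (Lpe (f310054 IH) (Lpe (f372422 IH) (Lpr_dt (f262739 IH) (Lpr_gt (f619318 IH) (Lpe (f580129 IH) (Lpr_cf (K66.f237486 IH) (Lpe (K66.f237493 IH) (Lpr_gf (f728969 IH) (Lpe (f728964 IH) (Lpn (LP (LK LD1_c26 LD2_c18 LD3_c1))))))))))))
theorem f399607 : Led Lsl_bt (LP (LK LD1_c15 LD2_c49 LD3_c56)) = (LP (LK LD1_c25 LD2_c45 LD3_c58)) :=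
  Lre_b IH (LK LD1_c15 LD2_c49 LD3_c56) (LK LD1_c25 LD2_c45 LD3_c58) Lrfl Lrfl
theorem f178375 : Led Lsl_ct (LP (LK LD1_c15 LD2_c49 LD3_c56)) = (LP (LK LD1_c8 LD2_c25 LD3_c43)) :=
  Lre_c IH (LK LD1_c15 LD2_c49 LD3_c56) (LK LD1_c8 LD2_c25 LD3_c43) Lrfl Lrfl
def v36139 : LQ := Led Lsl_bt (LP (LK LD1_c8 LD2_c21 LD3_c0))
theorem f882403 : Led Lsl_bt (LP (LK LD1_c8 LD2_c21 LD3_c0)) = v36139 :=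
  Lrfl
def v12605 : LQ := Led Lsl_ft (LP (LK LD1_c4 LD2_c18 LD3_c25))
theorem f693774 : Led Lsl_ft (LP (LK LD1_c4 LD2_c18 LD3_c25)) = v12605 :=
  Lrfl
theorem f693777 : Led Lsl_ff (LP (LK LD1_c4 LD2_c18 LD3_c25)) = v12605 :=
  Lgr Lrot3 (Lpr_ft (f693774 IH) (Lpn v12605))
theorem f693779 : Led Lsl_dt K52.v4134 = v12605 :=
  Lgr Lrot60 (Lpe (K52.f631380 IH) (Lpe (K54.f51756 IH) (Lpr_ff (f693777 IH) (Lpn v12605))))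
theorem f716548 : v12605 = (LP (LK LD1_c8 LD2_c21 LD3_c0)) :=
  Lefun (Lecon (f693779 IH) (K52.f716539 IH)) (K38.f396946 IH)
theorem f882407 : Led Lsl_ff (LP (LK LD1_c8 LD2_c35 LD3_c35)) = v36139 :=
  Lgr Lrot25 (Lpr_bt (K54.f400274 IH) (Lpr_ft (f693774 IH) (Lpqs (f716548 IH) (Lpr_bt (f882403 IH) (Lpn v36139)))))
theorem f716642 : Led Lsl_ft (LP (LK LD1_c20 LD2_c4 LD3_c12)) = (LP (LK LD1_c25 LD2_c45 LD3_c30)) :=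
  Lgr Lrot54 (Lpr_df (K52.f397238 IH) (Lpr_ff (K54.f716636 IH) (Lpe (K54.f400293 IH) (Lpn (LP (LK LD1_c25 LD2_c45 LD3_c30))))))
theorem f716648 : Led Lsl_ff (LP (LK LD1_c11 LD2_c9 LD3_c44)) = (LP (LK LD1_c15 LD2_c49 LD3_c5)) :=
  Lgr Lrot25 (Lpr_bt (K52.f397234 IH) (Lpr_ft (f716642 IH) (Lpr_bt (K54.f232278 IH) (Lpn (LP (LK LD1_c15 LD2_c49 LD3_c5))))))
theorem f882408 : Led Lsl_ct (LP (LK LD1_c11 LD2_c9 LD3_c44)) = v36139 :=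
  Lgr Lrot40 (Lpr_ff (f716648 IH) (Lpe (K54.f400275 IH) (Lpr_ff (f882407 IH) (Lpn v36139))))
theorem f885320 : Led Lsl_gf (LP (LK LD1_c8 LD2_c25 LD3_c43)) = v36139 :=
  Lgr Lrot129 (Lpe (f178375 IH) (Lpr_bt (f399607 IH) (Lpr_gt (f728971 IH) (Lpe (f619310 IH) (Lpr_ct (f199304 IH) (Lpr_gt (f357164 IH) (Lpe (f315362 IH) (Lpr_bt (f885319 IH) (Lpe (f885307 IH) (Lpr_ct (f882408 IH) (Lpn v36139)))))))))))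
theorem f178320 : Led Lsl_ct (LP (LK LD1_c8 LD2_c25 LD3_c43)) = (LP (LK LD1_c15 LD2_c49 LD3_c56)) :=
  Lre_c IH (LK LD1_c8 LD2_c25 LD3_c43) (LK LD1_c15 LD2_c49 LD3_c56) Lrfl Lrfl
theorem f820173 : Led Lsl_dt (LP (LK LD1_c15 LD2_c49 LD3_c56)) = (LP (LK LD1_c25 LD2_c45 LD3_c59)) :=
  Lre_d IH (LK LD1_c15 LD2_c49 LD3_c56) (LK LD1_c25 LD2_c45 LD3_c59) Lrfl Lrfl
theorem f2849 : Led Lsl_ct (LP (LK LD1_c27 LD2_c30 LD3_c60)) = (LP (LK LD1_c17 LD2_c44 LD3_c15)) :=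
  Lre_c IH (LK LD1_c27 LD2_c30 LD3_c60) (LK LD1_c17 LD2_c44 LD3_c15) Lrfl Lrfl
theorem f399311 : Led Lsl_gt (LP (LK LD1_c17 LD2_c44 LD3_c15)) = (LP (LK LD1_c9 LD2_c38 LD3_c20)) :=
  Lgr Lrot94 (Lpe (f2849 IH) (Lpr_gt (K38.f2842 IH) (Lpr_dt (K39.f399307 IH) (Lpr_gt (K49.f1989 IH) (Lpr_dt (K49.f2811 IH) (Lpe (K52.f2317 IH) (Lpe (K20.f2559 IH) (Lpe (K38.f2584 IH) (Lpe (K38.f2719 IH) (Lpn (LP (LK LD1_c9 LD2_c38 LD3_c20))))))))))))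
theorem f2716 : Led Lsl_ct (LP (LK LD1_c9 LD2_c38 LD3_c20)) = (LP (LK LD1_c17 LD2_c44 LD3_c21)) :=
  Lre_c IH (LK LD1_c9 LD2_c38 LD3_c20) (LK LD1_c17 LD2_c44 LD3_c21) Lrfl Lrfl
theorem f716679 : Led Lsl_ft (LP (LK LD1_c11 LD2_c9 LD3_c44)) = (LP (LK LD1_c15 LD2_c49 LD3_c5)) :=
  Lgr Lrot48 (Lpr_ff (f716648 IH) (Lpn (LP (LK LD1_c15 LD2_c49 LD3_c5))))
theorem f179108 : Led Lsl_gt (LP (LK LD1_c5 LD2_c39 LD3_c21)) = (LP (LK LD1_c11 LD2_c9 LD3_c43)) :=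
  Lre_g IH (LK LD1_c5 LD2_c39 LD3_c21) (LK LD1_c11 LD2_c9 LD3_c43) Lrfl Lrfl
theorem f716681 : Led Lsl_af (LP (LK LD1_c11 LD2_c9 LD3_c43)) = (LP (LK LD1_c15 LD2_c49 LD3_c5)) :=
  Lgr Lrot31 (Lpe (f179108 IH) (Lpe (K52.f178422 IH) (Lpr_ft (f716679 IH) (Lpn (LP (LK LD1_c15 LD2_c49 LD3_c5))))))
theorem f30249 : Led Lsl_ff (LP (LK LD1_c4 LD2_c53 LD3_c12)) = (LP (LK LD1_c8 LD2_c1 LD3_c59)) :=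
  Lgr Lrot3 (Lpr_ft (K35.f30237 IH) (Lpn (LP (LK LD1_c8 LD2_c1 LD3_c59))))
theorem f30542 : Led Lsl_gt (LP (LK LD1_c8 LD2_c1 LD3_c59)) = (LP (LK LD1_c15 LD2_c7 LD3_c34)) :=
  Lre_g IH (LK LD1_c8 LD2_c1 LD3_c59) (LK LD1_c15 LD2_c7 LD3_c34) Lrfl Lrfl
theorem f30543 : Led Lsl_gf (LP (LK LD1_c9 LD2_c38 LD3_c21)) = (LP (LK LD1_c15 LD2_c7 LD3_c34)) :=
  Lgr Lrot76 (Lpe (K49.f2324 IH) (Lpr_ff (f30249 IH) (Lpr_gt (f30542 IH) (Lpn (LP (LK LD1_c15 LD2_c7 LD3_c34))))))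
theorem f397224 : Led Lsl_dt (LP (LK LD1_c11 LD2_c9 LD3_c43)) = (LP (LK LD1_c15 LD2_c7 LD3_c34)) :=
  Lgr Lrot57 (Lpe (f179108 IH) (Lpe (K38.f178413 IH) (Lpr_gt (K49.f397222 IH) (Lpr_dt (K49.f2349 IH) (Lpr_gt (f2348 IH) (Lpr_dt (K0.f2340 IH) (Lpe (K0.f2243 IH) (Lpe (K0.f2246 IH) (Lpr_gf (f30543 IH) (Lpn (LP (LK LD1_c15 LD2_c7 LD3_c34))))))))))))
theorem f400295 : Led Lsl_df (LP (LK LD1_c25 LD2_c45 LD3_c30)) = (LP (LK LD1_c17 LD2_c44 LD3_c27)) :=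
  Lgr Lrot162 (Lpe (K54.f400286 IH) (Lpr_gf (K54.f400291 IH) (Lpe (K38.f232276 IH) (Lpe (K38.f193277 IH) (Lpe (K19.f297537 IH) (Lpe (K39.f397278 IH) (Lpr_ct (K15.f263767 IH) (Lpr_gt (K54.f263777 IH) (Lpr_ct (K54.f397329 IH) (Lpn (LP (LK LD1_c17 LD2_c44 LD3_c27))))))))))))
theorem f397338 : Led Lsl_bt (LP (LK LD1_c9 LD2_c38 LD3_c23)) = (LP (LK LD1_c17 LD2_c44 LD3_c27)) :=
  Lre_b IH (LK LD1_c9 LD2_c38 LD3_c23) (LK LD1_c17 LD2_c44 LD3_c27) Lrfl Lrfl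
theorem f400299 : Led Lsl_dt (LP (LK LD1_c15 LD2_c49 LD3_c5)) = (LP (LK LD1_c9 LD2_c38 LD3_c23)) :=
  Lgr Lrot79 (Lpe (K54.f232278 IH) (Lpr_df (f400295 IH) (Lpe (f397338 IH) (Lpn (LP (LK LD1_c9 LD2_c38 LD3_c23))))))
theorem f400301 : Led Lsl_df (LP (LK LD1_c15 LD2_c49 LD3_c5)) = (LP (LK LD1_c9 LD2_c38 LD3_c23)) :=
  Lgr Lrot38 (Lpr_dt (f400299 IH) (Lpn (LP (LK LD1_c9 LD2_c38 LD3_c23))))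
theorem f716687 : Led Lsl_at (LP (LK LD1_c15 LD2_c7 LD3_c34)) = (LP (LK LD1_c9 LD2_c38 LD3_c23)) :=
  Lgr Lrot51 (Lpe (f397224 IH) (Lpr_af (f716681 IH) (Lpr_df (f400301 IH) (Lpn (LP (LK LD1_c9 LD2_c38 LD3_c23))))))
theorem f30240 : Led Lsl_ff (LP (LK LD1_c9 LD2_c38 LD3_c21)) = (LP (LK LD1_c15 LD2_c7 LD3_c36)) :=
  Lgr Lrot30 (Lpr_at (K52.f2316 IH) (Lpr_ft (K35.f30237 IH) (Lpr_at (K35.f30239 IH) (Lpn (LP (LK LD1_c15 LD2_c7 LD3_c36))))))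
theorem f30615 : Led Lsl_gf (LP (LK LD1_c9 LD2_c38 LD3_c23)) = (LP (LK LD1_c15 LD2_c7 LD3_c36)) :=
  Lgr Lrot47 (Lpr_gt (K54.f2566 IH) (Lpe (K52.f2316 IH) (Lpr_ff (f30240 IH) (Lpn (LP (LK LD1_c15 LD2_c7 LD3_c36))))))
theorem f2570 : Led Lsl_gt (LP (LK LD1_c4 LD2_c53 LD3_c12)) = (LP (LK LD1_c9 LD2_c38 LD3_c22)) :=
  Lre_g IH (LK LD1_c4 LD2_c53 LD3_c12) (LK LD1_c9 LD2_c38 LD3_c22) Lrfl Lrfl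
theorem f30251 : Led Lsl_gt (LP (LK LD1_c9 LD2_c38 LD3_c22)) = (LP (LK LD1_c15 LD2_c7 LD3_c36)) :=
  Lgr Lrot46 (Lpe (f2570 IH) (Lpr_ft (K35.f30237 IH) (Lpr_at (K35.f30239 IH) (Lpn (LP (LK LD1_c15 LD2_c7 LD3_c36))))))
theorem f716695 : Led Lsl_ff (LP (LK LD1_c15 LD2_c7 LD3_c34)) = (LP (LK LD1_c9 LD2_c38 LD3_c22)) :=
  Lgr Lrot52 (Lpr_at (f716687 IH) (Lpr_gf (f30615 IH) (Lpe (f30251 IH) (Lpn (LP (LK LD1_c9 LD2_c38 LD3_c22))))))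
theorem f716703 : Led Lsl_ft (LP (LK LD1_c15 LD2_c7 LD3_c34)) = (LP (LK LD1_c9 LD2_c38 LD3_c22)) :=
  Lgr Lrot48 (Lpr_ff (f716695 IH) (Lpn (LP (LK LD1_c9 LD2_c38 LD3_c22))))
theorem f716689 : Led Lsl_af (LP (LK LD1_c15 LD2_c7 LD3_c34)) = (LP (LK LD1_c9 LD2_c38 LD3_c23)) :=
  Lgr Lrot0 (Lpr_at (f716687 IH) (Lpn (LP (LK LD1_c9 LD2_c38 LD3_c23))))
theorem f716638 : Led Lsl_ft (LP (LK LD1_c15 LD2_c7 LD3_c35)) = (LP (LK LD1_c9 LD2_c38 LD3_c23)) :=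
  Lgr Lrot75 (Lpe (K52.f30427 IH) (Lpr_ff (K54.f716636 IH) (Lpe (f397338 IH) (Lpn (LP (LK LD1_c9 LD2_c38 LD3_c23))))))
theorem f716705 : Led Lsl_af (LP (LK LD1_c15 LD2_c7 LD3_c35)) = (LP (LK LD1_c9 LD2_c38 LD3_c22)) :=
  Lgr Lrot45 (Lpr_ft (f716638 IH) (Lpe (f716689 IH) (Lpr_ft (f716703 IH) (Lpn (LP (LK LD1_c9 LD2_c38 LD3_c22))))))
theorem f30267 : Led Lsl_ct (LP (LK LD1_c17 LD2_c44 LD3_c25)) = (LP (LK LD1_c9 LD2_c38 LD3_c22)) :=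
  Lre_c IH (LK LD1_c17 LD2_c44 LD3_c25) (LK LD1_c9 LD2_c38 LD3_c22) Lrfl Lrfl
theorem f716712 : Led Lsl_at (LP (LK LD1_c24 LD2_c56 LD3_c24)) = (LP (LK LD1_c17 LD2_c44 LD3_c25)) :=
  Lgr Lrot107 (Lpe (f30428 IH) (Lpr_af (f716705 IH) (Lpe (f30267 IH) (Lpn (LP (LK LD1_c17 LD2_c44 LD3_c25))))))
theorem f716718 : Led Lsl_af (LP (LK LD1_c24 LD2_c56 LD3_c24)) = (LP (LK LD1_c17 LD2_c44 LD3_c25)) :=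
  Lgr Lrot0 (Lpr_at (f716712 IH) (Lpn (LP (LK LD1_c17 LD2_c44 LD3_c25))))
theorem f30546 : Led Lsl_ct (LP (LK LD1_c15 LD2_c7 LD3_c34)) = (LP (LK LD1_c24 LD2_c56 LD3_c21)) :=
  Lre_c IH (LK LD1_c15 LD2_c7 LD3_c34) (LK LD1_c24 LD2_c56 LD3_c21) Lrfl Lrfl
theorem f716701 : Led Lsl_ft (LP (LK LD1_c24 LD2_c56 LD3_c21)) = (LP (LK LD1_c17 LD2_c44 LD3_c25)) :=
  Lgr Lrot4 (Lpe (f30546 IH) (Lpr_ff (f716695 IH) (Lpe (f30267 IH) (Lpn (LP (LK LD1_c17 LD2_c44 LD3_c25))))))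
theorem f30545 : Led Lsl_ct (LP (LK LD1_c24 LD2_c56 LD3_c21)) = (LP (LK LD1_c15 LD2_c7 LD3_c34)) :=
  Lre_c IH (LK LD1_c24 LD2_c56 LD3_c21) (LK LD1_c15 LD2_c7 LD3_c34) Lrfl Lrfl
theorem f30617 : Led Lsl_ct (LP (LK LD1_c9 LD2_c38 LD3_c23)) = (LP (LK LD1_c17 LD2_c44 LD3_c28)) :=
  Lre_c IH (LK LD1_c9 LD2_c38 LD3_c23) (LK LD1_c17 LD2_c44 LD3_c28) Lrfl Lrfl
theorem f716691 : Led Lsl_af (LP (LK LD1_c24 LD2_c56 LD3_c21)) = (LP (LK LD1_c17 LD2_c44 LD3_c28)) :=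
  Lgr Lrot68 (Lpr_ct (f30545 IH) (Lpr_at (f716687 IH) (Lpr_ct (f30617 IH) (Lpn (LP (LK LD1_c17 LD2_c44 LD3_c28))))))
theorem f716720 : Led Lsl_ft (LP (LK LD1_c24 LD2_c56 LD3_c24)) = (LP (LK LD1_c17 LD2_c44 LD3_c28)) :=
  Lgr Lrot101 (Lpr_af (f716718 IH) (Lpe (f716701 IH) (Lpr_af (f716691 IH) (Lpn (LP (LK LD1_c17 LD2_c44 LD3_c28))))))
theorem f716727 : Led Lsl_ff (LP (LK LD1_c24 LD2_c56 LD3_c24)) = (LP (LK LD1_c17 LD2_c44 LD3_c28)) :=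
  Lgr Lrot3 (Lpr_ft (f716720 IH) (Lpn (LP (LK LD1_c17 LD2_c44 LD3_c28))))
theorem f602092 : Led Lsl_dt (LP (LK LD1_c24 LD2_c56 LD3_c24)) = (LP (LK LD1_c17 LD2_c40 LD3_c40)) :=
  Lgr Lrot27 (Lpe (f30428 IH) (Lpe (f30281 IH) (Lpe (K0.f2314 IH) (Lpr_gf (K52.f30567 IH) (Lpe (K52.f30573 IH) (Lpe (K49.f602072 IH) (Lpr_ct (K38.f178412 IH) (Lpr_gt (K49.f602076 IH) (Lpr_ct (K49.f260903 IH) (Lpn (LP (LK LD1_c17 LD2_c40 LD3_c40))))))))))))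
theorem f602106 : Led Lsl_ft (LP (LK LD1_c17 LD2_c40 LD3_c40)) = (LP (LK LD1_c27 LD2_c28 LD3_c15)) :=
  Lre_f IH (LK LD1_c17 LD2_c40 LD3_c40) (LK LD1_c27 LD2_c28 LD3_c15) Lrfl Lrfl
theorem f716733 : Led Lsl_dt (LP (LK LD1_c27 LD2_c28 LD3_c15)) = (LP (LK LD1_c17 LD2_c44 LD3_c28)) :=
  Lgr Lrot60 (Lpe (f602106 IH) (Lpe (f602092 IH) (Lpr_ff (f716727 IH) (Lpn (LP (LK LD1_c17 LD2_c44 LD3_c28))))))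
theorem f716737 : Led Lsl_at (LP (LK LD1_c17 LD2_c40 LD3_c45)) = (LP (LK LD1_c27 LD2_c28 LD3_c15)) :=
  Lre_a IH (LK LD1_c17 LD2_c40 LD3_c45) (LK LD1_c27 LD2_c28 LD3_c15) Lrfl Lrfl
theorem f716738 : Led Lsl_df (LP (LK LD1_c17 LD2_c40 LD3_c45)) = (LP (LK LD1_c24 LD2_c56 LD3_c21)) :=
  Lgr Lrot18 (Lpr_at (f716737 IH) (Lpr_dt (f716733 IH) (Lpe (f716691 IH) (Lpn (LP (LK LD1_c24 LD2_c56 LD3_c21))))))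
theorem f716744 : Led Lsl_dt (LP (LK LD1_c17 LD2_c40 LD3_c45)) = (LP (LK LD1_c24 LD2_c56 LD3_c21)) :=
  Lgr Lrot42 (Lpr_df (f716738 IH) (Lpn (LP (LK LD1_c24 LD2_c56 LD3_c21))))
theorem f602130 : Led Lsl_gt (LP (LK LD1_c27 LD2_c28 LD3_c12)) = (LP (LK LD1_c17 LD2_c40 LD3_c45)) :=
  Lre_g IH (LK LD1_c27 LD2_c28 LD3_c12) (LK LD1_c17 LD2_c40 LD3_c45) Lrfl Lrfl
theorem f550835 : Led Lsl_dt (LP (LK LD1_c25 LD2_c45 LD3_c21)) = (LP (LK LD1_c27 LD2_c30 LD3_c60)) :=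
  Lgr Lrot42 (Lpr_df (K38.f550829 IH) (Lpn (LP (LK LD1_c27 LD2_c30 LD3_c60))))
theorem f550841 : Led Lsl_ct (LP (LK LD1_c17 LD2_c44 LD3_c16)) = (LP (LK LD1_c9 LD2_c38 LD3_c17)) :=
  Lre_c IH (LK LD1_c17 LD2_c44 LD3_c16) (LK LD1_c9 LD2_c38 LD3_c17) Lrfl Lrfl
theorem f550842 : Led Lsl_gt (LP (LK LD1_c27 LD2_c31 LD3_c0)) = (LP (LK LD1_c17 LD2_c44 LD3_c16)) :=
  Lre_g IH (LK LD1_c27 LD2_c31 LD3_c0) (LK LD1_c17 LD2_c44 LD3_c16) Lrfl Lrfl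
theorem f602129 : Led Lsl_ct (LP (LK LD1_c17 LD2_c40 LD3_c45)) = (LP (LK LD1_c9 LD2_c36 LD3_c7)) :=
  Lre_c IH (LK LD1_c17 LD2_c40 LD3_c45) (LK LD1_c9 LD2_c36 LD3_c7) Lrfl Lrfl
theorem f602131 : Led Lsl_dt (LP (LK LD1_c27 LD2_c31 LD3_c0)) = (LP (LK LD1_c27 LD2_c28 LD3_c12)) :=
  Lgr Lrot6 (Lpr_gt (f550842 IH) (Lpr_ct (f550841 IH) (Lpr_gt (K38.f2589 IH) (Lpr_ct (K38.f2825 IH) (Lpe (f550835 IH) (Lpe (K49.f178443 IH) (Lpr_gf (K49.f602127 IH) (Lpe (f602129 IH) (Lpe (f602130 IH) (Lpn (LP (LK LD1_c27 LD2_c28 LD3_c12))))))))))))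
theorem f716746 : Led Lsl_gf (LP (LK LD1_c27 LD2_c31 LD3_c0)) = (LP (LK LD1_c17 LD2_c44 LD3_c21)) :=
  Lgr Lrot144 (Lpr_dt (f602131 IH) (Lpr_gt (f602130 IH) (Lpr_dt (f716744 IH) (Lpe (f30546 IH) (Lpe (f397224 IH) (Lpe (f179108 IH) (Lpe (K22.f178421 IH) (Lpr_gf (K38.f550854 IH) (Lpe (f2715 IH) (Lpn (LP (LK LD1_c17 LD2_c44 LD3_c21))))))))))))
theorem f885322 : Led Lsl_cf (LP (LK LD1_c25 LD2_c45 LD3_c59)) = (LP (LK LD1_c27 LD2_c31 LD3_c0)) :=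
  Lgr Lrot99 (Lpe (f820173 IH) (Lpe (f178320 IH) (Lpr_gf (f885320 IH) (Lpe (f882408 IH) (Lpr_gf (f885307 IH) (Lpe (f885308 IH) (Lpr_gt (f399311 IH) (Lpr_ct (f2716 IH) (Lpe (f716746 IH) (Lpn (LP (LK LD1_c27 LD2_c31 LD3_c0))))))))))))
theorem f885323 : Led Lsl_ct (LP (LK LD1_c27 LD2_c31 LD3_c0)) = (LP (LK LD1_c25 LD2_c45 LD3_c59)) :=
  Leop (Lpr_cf (f885322 IH) (Lpn (LP (LK LD1_c27 LD2_c31 LD3_c0))))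
theorem seed_2099 : LEOK LG_c (LK LD1_c27 LD2_c31 LD3_c0) :=
  Leoe_c (LK LD1_c27 LD2_c31 LD3_c0) (f885323 IH)
def v36400 : LQ := Led Lsl_gf (LP (LK LD1_c8 LD2_c25 LD3_c0))
theorem f885370 : Led Lsl_gf (LP (LK LD1_c8 LD2_c25 LD3_c0)) = v36400 :=
  Lrfl
theorem f318741 : Led Lsl_bt (LP (LK LD1_c8 LD2_c34 LD3_c22)) = (LP (LK LD1_c9 LD2_c45 LD3_c27)) :=
  Lgr Lrot127 (Lpr_bf (K50.f318733 IH) (Lpn (LP (LK LD1_c9 LD2_c45 LD3_c27))))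
theorem f841582 : Led Lsl_cf (LP (LK LD1_c8 LD2_c34 LD3_c22)) = K66.v27840 :=
  Lgr Lrot97 (Lpr_bt (f318741 IH) (Lpr_ct (K44.f318732 IH) (Lpr_bt (K54.f738507 IH) (Lpe (K54.f738513 IH) (Lpqs (K54.f738515 IH) (Lpr_bt (K66.f841579 IH) (Lpn K66.v27840)))))))
def v36313 : LQ := Led Lsl_dt (LP (LK LD1_c8 LD2_c23 LD3_c27))
theorem f884866 : Led Lsl_dt (LP (LK LD1_c8 LD2_c23 LD3_c27)) = v36313 :=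
  Lrfl
theorem f2258 : Led Lsl_bt (LP (LK LD1_c1 LD2_c9 LD3_c3)) = (LP (LK LD1_c2 LD2_c24 LD3_c3)) :=
  Lre_b IH (LK LD1_c1 LD2_c9 LD3_c3) (LK LD1_c2 LD2_c24 LD3_c3) Lrfl Lrfl
theorem f2259 : Led Lsl_dt (LP (LK LD1_c2 LD2_c24 LD3_c3)) = (LP (LK LD1_c1 LD2_c9 LD3_c26)) :=
  Lgr Lrot79 (Lpe (f2258 IH) (Lpr_df (K0.f2226 IH) (Lpe (K20.f2250 IH) (Lpn (LP (LK LD1_c1 LD2_c9 LD3_c26))))))
theorem f718584 : Led Lsl_dt K53.v12463 = (LP (LK LD1_c8 LD2_c23 LD3_c0)) :=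
  Lgr Lrot27 (Lpr_cf (K54.f718578 IH) (Lpe (K53.f2286 IH) (Lpe (K27.f2289 IH) (Lpe (K27.f2280 IH) (Lpe (f2259 IH) (Lpr_gt (K54.f620564 IH) (Lpr_ct (K49.f620580 IH) (Lpe (K49.f620569 IH) (Lpr_ct (K52.f178363 IH) (Lpn (LP (LK LD1_c8 LD2_c23 LD3_c0))))))))))))
theorem f738537 : Led Lsl_ff (LP (LK LD1_c8 LD2_c35 LD3_c25)) = (LP (LK LD1_c8 LD2_c23 LD3_c0)) :=
  Lgr Lrot19 (Lpr_dt (f422690 IH) (Lpr_ft (K66.f738534 IH) (Lpr_dt (f718584 IH) (Lpn (LP (LK LD1_c8 LD2_c23 LD3_c0))))))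
theorem f279221 : Led Lsl_bt (LP (LK LD1_c16 LD2_c6 LD3_c50)) = (LP (LK LD1_c8 LD2_c35 LD3_c26)) :=
  Lre_b IH (LK LD1_c16 LD2_c6 LD3_c50) (LK LD1_c8 LD2_c35 LD3_c26) Lrfl Lrfl
theorem f279222 : Led Lsl_bt (LP (LK LD1_c4 LD2_c18 LD3_c20)) = (LP (LK LD1_c8 LD2_c35 LD3_c25)) :=
  Lre_b IH (LK LD1_c4 LD2_c18 LD3_c20) (LK LD1_c8 LD2_c35 LD3_c25) Lrfl Lrfl
theorem f279224 : Led Lsl_ct (LP (LK LD1_c8 LD2_c35 LD3_c25)) = (LP (LK LD1_c9 LD2_c37 LD3_c12)) :=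
  Lgr Lrot83 (Lpe (f279222 IH) (Lpe (K50.f279201 IH) (Lpe (f279221 IH) (Lpr_cf (K50.f279217 IH) (Lpe (K50.f279223 IH) (Lpn (LP (LK LD1_c9 LD2_c37 LD3_c12))))))))
theorem f738539 : Led Lsl_ft (LP (LK LD1_c9 LD2_c37 LD3_c12)) = (LP (LK LD1_c15 LD2_c46 LD3_c20)) :=
  Lgr Lrot4 (Lpe (f279224 IH) (Lpr_ff (f738537 IH) (Lpe (K52.f178363 IH) (Lpn (LP (LK LD1_c15 LD2_c46 LD3_c20))))))
theorem f738545 : Led Lsl_ff (LP (LK LD1_c9 LD2_c37 LD3_c12)) = (LP (LK LD1_c15 LD2_c46 LD3_c20)) :=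
  Lgr Lrot3 (Lpr_ft (f738539 IH) (Lpn (LP (LK LD1_c15 LD2_c46 LD3_c20))))
theorem f738559 : Led Lsl_ft (LP (LK LD1_c17 LD2_c42 LD3_c43)) = (LP (LK LD1_c25 LD2_c43 LD3_c2)) :=
  Lgr Lrot75 (Lpe (K50.f279223 IH) (Lpr_ff (f738545 IH) (Lpe (K49.f377848 IH) (Lpn (LP (LK LD1_c25 LD2_c43 LD3_c2))))))
theorem f219506 : Led Lsl_gt (LP (LK LD1_c16 LD2_c13 LD3_c44)) = (LP (LK LD1_c8 LD2_c39 LD3_c59)) :=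
  Lre_g IH (LK LD1_c16 LD2_c13 LD3_c44) (LK LD1_c8 LD2_c39 LD3_c59) Lrfl Lrfl
theorem f219508 : Led Lsl_gt (LP (LK LD1_c4 LD2_c51 LD3_c42)) = (LP (LK LD1_c9 LD2_c35 LD3_c32)) :=
  Lre_g IH (LK LD1_c4 LD2_c51 LD3_c42) (LK LD1_c9 LD2_c35 LD3_c32) Lrfl Lrfl
theorem f219509 : Led Lsl_bt (LP (LK LD1_c17 LD2_c39 LD3_c44)) = (LP (LK LD1_c9 LD2_c35 LD3_c32)) :=
  Lre_b IH (LK LD1_c17 LD2_c39 LD3_c44) (LK LD1_c9 LD2_c35 LD3_c32) Lrfl Lrfl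
theorem f219510 : Led Lsl_cf (LP (LK LD1_c16 LD2_c13 LD3_c44)) = (LP (LK LD1_c17 LD2_c39 LD3_c44)) :=
  Lgr Lrot160 (Lpr_gt (f219506 IH) (Lpr_cf (K31.f219474 IH) (Lpr_bt (K50.f1933 IH) (Lpr_gt (K12.f1800 IH) (Lpr_ct (K12.f1797 IH) (Lpr_gt (K25.f1584 IH) (Lpe (K13.f2043 IH) (Lpr_bt (K27.f219507 IH) (Lpr_gt (f219508 IH) (Lpe (f219509 IH) (Lpn (LP (LK LD1_c17 LD2_c39 LD3_c44)))))))))))))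
theorem f398144 : Led Lsl_gt (LP (LK LD1_c26 LD2_c10 LD3_c57)) = (LP (LK LD1_c17 LD2_c39 LD3_c44)) :=
  Lgr Lrot82 (Lpr_bf (K50.f398139 IH) (Lpr_ct (K41.f397968 IH) (Lpe (K38.f397984 IH) (Lpr_cf (K38.f29807 IH) (Lpr_bt (K38.f1914 IH) (Lpe (K12.f1800 IH) (Lpe (K50.f1933 IH) (Lpe (K31.f219474 IH) (Lpe (f219506 IH) (Lpr_cf (f219510 IH) (Lpn (LP (LK LD1_c17 LD2_c39 LD3_c44)))))))))))))
theorem f738565 : Led Lsl_af (LP (LK LD1_c17 LD2_c39 LD3_c44)) = (LP (LK LD1_c25 LD2_c43 LD3_c2)) :=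
  Lgr Lrot31 (Lpe (f398144 IH) (Lpr_gf (K50.f279233 IH) (Lpr_ft (f738559 IH) (Lpn (LP (LK LD1_c25 LD2_c43 LD3_c2))))))
theorem f377846 : Led Lsl_ct (LP (LK LD1_c15 LD2_c46 LD3_c21)) = (LP (LK LD1_c25 LD2_c43 LD3_c2)) :=
  Lre_c IH (LK LD1_c15 LD2_c46 LD3_c21) (LK LD1_c25 LD2_c43 LD3_c2) Lrfl Lrfl
theorem f738569 : Led Lsl_at (LP (LK LD1_c16 LD2_c13 LD3_c44)) = (LP (LK LD1_c15 LD2_c46 LD3_c21)) :=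
  Lgr Lrot107 (Lpr_cf (f219510 IH) (Lpr_af (f738565 IH) (Lpe (f377846 IH) (Lpn (LP (LK LD1_c15 LD2_c46 LD3_c21))))))
theorem f738573 : Led Lsl_ff (LP (LK LD1_c16 LD2_c13 LD3_c44)) = (LP (LK LD1_c25 LD2_c16 LD3_c36)) :=
  Lgr Lrot52 (Lpr_at (f738569 IH) (Lpe (K49.f377842 IH) (Lpe (K38.f365136 IH) (Lpn (LP (LK LD1_c25 LD2_c16 LD3_c36))))))
theorem f738579 : Led Lsl_ft (LP (LK LD1_c16 LD2_c13 LD3_c44)) = (LP (LK LD1_c25 LD2_c16 LD3_c36)) :=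
  Lgr Lrot48 (Lpr_ff (f738573 IH) (Lpn (LP (LK LD1_c25 LD2_c16 LD3_c36))))
theorem f738583 : Led Lsl_af (LP (LK LD1_c16 LD2_c6 LD3_c50)) = (LP (LK LD1_c25 LD2_c16 LD3_c36)) :=
  Lgr Lrot31 (Lpr_gf (K50.f279203 IH) (Lpe (f219506 IH) (Lpr_ft (f738579 IH) (Lpn (LP (LK LD1_c25 LD2_c16 LD3_c36))))))
theorem f738585 : Led Lsl_at (LP (LK LD1_c17 LD2_c42 LD3_c43)) = (LP (LK LD1_c27 LD2_c24 LD3_c54)) :=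
  Lgr Lrot107 (Lpe (K50.f279226 IH) (Lpr_af (f738583 IH) (Lpr_cf (K38.f372808 IH) (Lpn (LP (LK LD1_c27 LD2_c24 LD3_c54))))))
theorem f2346 : Led Lsl_gt (LP (LK LD1_c4 LD2_c52 LD3_c36)) = (LP (LK LD1_c9 LD2_c37 LD3_c13)) :=
  Lre_g IH (LK LD1_c4 LD2_c52 LD3_c36) (LK LD1_c9 LD2_c37 LD3_c13) Lrfl Lrfl
theorem f738547 : Led Lsl_af (LP (LK LD1_c9 LD2_c37 LD3_c13)) = (LP (LK LD1_c15 LD2_c46 LD3_c20)) :=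
  Lgr Lrot31 (Lpe (f2346 IH) (Lpe (K50.f30612 IH) (Lpr_ft (f738539 IH) (Lpn (LP (LK LD1_c15 LD2_c46 LD3_c20))))))
theorem f738549 : Led Lsl_at (LP (LK LD1_c9 LD2_c37 LD3_c13)) = (LP (LK LD1_c15 LD2_c46 LD3_c20)) :=
  Lgr Lrot100 (Lpr_af (f738547 IH) (Lpn (LP (LK LD1_c15 LD2_c46 LD3_c20))))
theorem f738551 : Led Lsl_ff (LP (LK LD1_c9 LD2_c37 LD3_c13)) = (LP (LK LD1_c17 LD2_c39 LD3_c46)) :=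
  Lgr Lrot52 (Lpr_at (f738549 IH) (Lpr_gf (K49.f620569 IH) (Lpr_gf (K49.f620583 IH) (Lpn (LP (LK LD1_c17 LD2_c39 LD3_c46))))))
theorem f738555 : Led Lsl_ft (LP (LK LD1_c9 LD2_c37 LD3_c13)) = (LP (LK LD1_c17 LD2_c39 LD3_c46)) :=
  Lgr Lrot48 (Lpr_ff (f738551 IH) (Lpn (LP (LK LD1_c17 LD2_c39 LD3_c46))))
theorem f738557 : Led Lsl_af (LP (LK LD1_c9 LD2_c37 LD3_c12)) = (LP (LK LD1_c17 LD2_c39 LD3_c46)) :=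
  Lgr Lrot45 (Lpr_ft (f738539 IH) (Lpe (f738547 IH) (Lpr_ft (f738555 IH) (Lpn (LP (LK LD1_c17 LD2_c39 LD3_c46))))))
theorem f738595 : Led Lsl_af (LP (LK LD1_c9 LD2_c35 LD3_c33)) = (LP (LK LD1_c17 LD2_c36 LD3_c42)) :=
  Lgr Lrot36 (Lpr_bt (K49.f219797 IH) (Lpe (f738557 IH) (Lpr_bt (K50.f279223 IH) (Lpr_at (f738585 IH) (Lpr_bt (K38.f233409 IH) (Lpn (LP (LK LD1_c17 LD2_c36 LD3_c42))))))))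
theorem f372883 : Led Lsl_gf (LP (LK LD1_c17 LD2_c36 LD3_c44)) = (LP (LK LD1_c9 LD2_c35 LD3_c32)) :=
  Lgr Lrot76 (Lpe (K27.f192441 IH) (Lpr_ff (K27.f372872 IH) (Lpr_gt (f219508 IH) (Lpn (LP (LK LD1_c9 LD2_c35 LD3_c32))))))
theorem f738601 : Led Lsl_ft (LP (LK LD1_c9 LD2_c35 LD3_c32)) = (LP (LK LD1_c17 LD2_c36 LD3_c42)) :=
  Lgr Lrot2 (Lpe (f372883 IH) (Lpr_gt (K49.f372908 IH) (Lpr_af (f738595 IH) (Lpn (LP (LK LD1_c17 LD2_c36 LD3_c42))))))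
theorem f738604 : Led Lsl_ff (LP (LK LD1_c9 LD2_c35 LD3_c32)) = (LP (LK LD1_c17 LD2_c36 LD3_c42)) :=
  Lgr Lrot3 (Lpr_ft (f738601 IH) (Lpn (LP (LK LD1_c17 LD2_c36 LD3_c42))))
theorem f738606 : Led Lsl_at (LP (LK LD1_c9 LD2_c35 LD3_c32)) = (LP (LK LD1_c17 LD2_c36 LD3_c43)) :=
  Lgr Lrot26 (Lpr_ff (f738604 IH) (Lpr_gt (K38.f372954 IH) (Lpe (K50.f372902 IH) (Lpn (LP (LK LD1_c17 LD2_c36 LD3_c43))))))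
theorem f738597 : Led Lsl_at (LP (LK LD1_c9 LD2_c35 LD3_c33)) = (LP (LK LD1_c17 LD2_c36 LD3_c42)) :=
  Lgr Lrot100 (Lpr_af (f738595 IH) (Lpn (LP (LK LD1_c17 LD2_c36 LD3_c42))))
theorem f738614 : Led Lsl_ff (LP (LK LD1_c9 LD2_c35 LD3_c33)) = (LP (LK LD1_c17 LD2_c36 LD3_c43)) :=
  Lgr Lrot30 (Lpr_at (f738597 IH) (Lpe (f738604 IH) (Lpr_at (f738606 IH) (Lpn (LP (LK LD1_c17 LD2_c36 LD3_c43))))))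
theorem f738620 : Led Lsl_ft (LP (LK LD1_c9 LD2_c35 LD3_c33)) = (LP (LK LD1_c17 LD2_c36 LD3_c43)) :=
  Lgr Lrot48 (Lpr_ff (f738614 IH) (Lpn (LP (LK LD1_c17 LD2_c36 LD3_c43))))
theorem f219183 : Led Lsl_ct (LP (LK LD1_c17 LD2_c36 LD3_c43)) = (LP (LK LD1_c16 LD2_c6 LD3_c16)) :=
  Lgr Lrot59 (Lpr_cf (K50.f219168 IH) (Lpn (LP (LK LD1_c16 LD2_c6 LD3_c16))))
theorem f738622 : Led Lsl_ff (LP (LK LD1_c15 LD2_c44 LD3_c45)) = (LP (LK LD1_c16 LD2_c6 LD3_c16)) :=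
  Lgr Lrot23 (Lpr_ct (K49.f219794 IH) (Lpr_ft (f738620 IH) (Lpr_ct (f219183 IH) (Lpn (LP (LK LD1_c16 LD2_c6 LD3_c16))))))
theorem f219182 : Led Lsl_bt (LP (LK LD1_c8 LD2_c34 LD3_c59)) = (LP (LK LD1_c16 LD2_c6 LD3_c16)) :=
  Lre_b IH (LK LD1_c8 LD2_c34 LD3_c59) (LK LD1_c16 LD2_c6 LD3_c16) Lrfl Lrfl
theorem f738624 : Led Lsl_ft (LP (LK LD1_c8 LD2_c22 LD3_c2)) = (LP (LK LD1_c8 LD2_c34 LD3_c59)) :=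
  Lgr Lrot75 (Lpe (K49.f219792 IH) (Lpr_ff (f738622 IH) (Lpe (f219182 IH) (Lpn (LP (LK LD1_c8 LD2_c34 LD3_c59))))))
theorem f738628 : Led Lsl_af (LP (LK LD1_c8 LD2_c22 LD3_c3)) = (LP (LK LD1_c8 LD2_c34 LD3_c59)) :=
  Lgr Lrot31 (Lpr_gf (K54.f406244 IH) (Lpe (K49.f406058 IH) (Lpr_ft (f738624 IH) (Lpn (LP (LK LD1_c8 LD2_c34 LD3_c59))))))
theorem f738633 : Led Lsl_at (LP (LK LD1_c8 LD2_c35 LD3_c23)) = (LP (LK LD1_c8 LD2_c23 LD3_c27)) :=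
  Lgr Lrot107 (Lpe (K54.f418183 IH) (Lpr_af (f738628 IH) (Lpe (K49.f692190 IH) (Lpn (LP (LK LD1_c8 LD2_c23 LD3_c27))))))
def v12469 : LQ := Led Lsl_gf (LP (LK LD1_c4 LD2_c11 LD3_c53))
theorem f692338 : Led Lsl_gf (LP (LK LD1_c4 LD2_c11 LD3_c53)) = v12469 :=
  Lrfl
theorem f738639 : Led Lsl_ff (LP (LK LD1_c8 LD2_c35 LD3_c23)) = v12469 :=
  Lgr Lrot52 (Lpr_at (f738633 IH) (Lpe (K49.f404792 IH) (Lpr_gf (f692338 IH) (Lpn v12469))))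
theorem f738641 : (LP (LK LD1_c8 LD2_c22 LD3_c59)) = v12469 :=
  (Llr Lrot35 (Lpe (K53.f167043 IH) (Lpq (K54.f738516 IH) (Lpe (K54.f693709 IH) (Lpe (K54.f304824 IH) (Lpr_ff (f738639 IH) (Lpn v12469))))))).symm
theorem f738640 : Led Lsl_ft (LP (LK LD1_c8 LD2_c35 LD3_c23)) = v12469 :=
  Lgr Lrot48 (Lpr_ff (f738639 IH) (Lpn v12469))
theorem f738645 : Led Lsl_ff (LP (LK LD1_c8 LD2_c22 LD3_c3)) = (LP (LK LD1_c8 LD2_c34 LD3_c60)) :=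
  Lgr Lrot23 (Lpr_ct (K54.f418183 IH) (Lpr_ft (f738640 IH) (Lpq (f738641 IH) (Lpe (K53.f170330 IH) (Lpn (LP (LK LD1_c8 LD2_c34 LD3_c60)))))))
theorem f738651 : Led Lsl_ft (LP (LK LD1_c8 LD2_c22 LD3_c3)) = (LP (LK LD1_c8 LD2_c34 LD3_c60)) :=
  Lgr Lrot48 (Lpr_ff (f738645 IH) (Lpn (LP (LK LD1_c8 LD2_c34 LD3_c60))))
theorem f738653 : Led Lsl_af (LP (LK LD1_c8 LD2_c22 LD3_c2)) = (LP (LK LD1_c8 LD2_c34 LD3_c60)) :=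
  Lgr Lrot45 (Lpr_ft (f738624 IH) (Lpe (f738628 IH) (Lpr_ft (f738651 IH) (Lpn (LP (LK LD1_c8 LD2_c34 LD3_c60))))))
theorem f882727 : Led Lsl_af (LP (LK LD1_c8 LD2_c22 LD3_c59)) = K67.v36203 :=
  Lgr Lrot68 (Lpe (K53.f170330 IH) (Lpe (f738653 IH) (Lpr_ct (K67.f882726 IH) (Lpn K67.v36203))))
theorem f738626 : Led Lsl_ff (LP (LK LD1_c8 LD2_c22 LD3_c2)) = (LP (LK LD1_c8 LD2_c34 LD3_c59)) :=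
  Lgr Lrot3 (Lpr_ft (f738624 IH) (Lpn (LP (LK LD1_c8 LD2_c34 LD3_c59))))
theorem f882729 : Led Lsl_ff (LP (LK LD1_c8 LD2_c23 LD3_c27)) = K67.v36203 :=
  Lgr Lrot23 (Lpr_ct (K49.f692190 IH) (Lpe (f738626 IH) (Lpr_ct (K67.f882726 IH) (Lpn K67.v36203))))
theorem f882737 : Led Lsl_ft (LP (LK LD1_c8 LD2_c23 LD3_c27)) = K67.v36203 :=
  Lgr Lrot48 (Lpr_ff (f882729 IH) (Lpn K67.v36203))
theorem f882999 : Led Lsl_gt (LP (LK LD1_c8 LD2_c23 LD3_c27)) = K67.v36253 :=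
  Lgr Lrot5 (Lpr_ft (f882737 IH) (Lpe (f882727 IH) (Lpr_gf (K67.f882998 IH) (Lpn K67.v36253))))
def v36244 : LQ := Led Lsl_gf (LP (LK LD1_c8 LD2_c22 LD3_c55))
theorem f882964 : Led Lsl_gf (LP (LK LD1_c8 LD2_c22 LD3_c55)) = v36244 :=
  Lrfl
theorem f53342 : Led Lsl_gt (LP (LK LD1_c8 LD2_c22 LD3_c55)) = (LP (LK LD1_c15 LD2_c46 LD3_c13)) :=
  Lre_g IH (LK LD1_c8 LD2_c22 LD3_c55) (LK LD1_c15 LD2_c46 LD3_c13) Lrfl Lrfl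
def v12613 : LQ := Led Lsl_ft (LP (LK LD1_c4 LD2_c18 LD3_c27))
theorem f693797 : Led Lsl_ft (LP (LK LD1_c4 LD2_c18 LD3_c27)) = v12613 :=
  Lrfl
theorem f693799 : Led Lsl_ff (LP (LK LD1_c4 LD2_c18 LD3_c27)) = v12613 :=
  Lgr Lrot3 (Lpr_ft (f693797 IH) (Lpn v12613))
theorem f693800 : Led Lsl_bt K50.v4133 = v12613 :=
  Lgr Lrot35 (Lpe (K50.f631378 IH) (Lpe (f52068 IH) (Lpr_ff (f693799 IH) (Lpn v12613))))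
theorem f53345 : Led Lsl_bt (LP (LK LD1_c4 LD2_c11 LD3_c59)) = (LP (LK LD1_c8 LD2_c23 LD3_c36)) :=
  Lre_b IH (LK LD1_c4 LD2_c11 LD3_c59) (LK LD1_c8 LD2_c23 LD3_c36) Lrfl Lrfl
theorem f716562 : v12613 = (LP (LK LD1_c8 LD2_c23 LD3_c36)) :=
  Lefun (Lecon (f693800 IH) (K52.f716557 IH).symm) (f53345 IH)
theorem f52221 : Led Lsl_ct (LP (LK LD1_c8 LD2_c35 LD3_c44)) = (LP (LK LD1_c4 LD2_c18 LD3_c27)) :=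
  Lre_c IH (LK LD1_c8 LD2_c35 LD3_c44) (LK LD1_c4 LD2_c18 LD3_c27) Lrfl Lrfl
theorem f52113 : Led Lsl_bt (LP (LK LD1_c8 LD2_c23 LD3_c36)) = (LP (LK LD1_c4 LD2_c11 LD3_c59)) :=
  Lre_b IH (LK LD1_c8 LD2_c23 LD3_c36) (LK LD1_c4 LD2_c11 LD3_c59) Lrfl Lrfl
theorem f53343 : Led Lsl_ct (LP (LK LD1_c8 LD2_c23 LD3_c36)) = (LP (LK LD1_c15 LD2_c46 LD3_c13)) :=
  Lgr Lrot63 (Lpr_bt (f52113 IH) (Lpr_gt (K30.f1215 IH) (Lpe (K30.f51546 IH) (Lpr_ct (K9.f51550 IH) (Lpe (K9.f51540 IH) (Lpe (K9.f51563 IH) (Lpr_bt (K50.f53151 IH) (Lpr_gt (K20.f53152 IH) (Lpr_ct (K49.f53341 IH) (Lpr_gt (f53342 IH) (Lpn (LP (LK LD1_c15 LD2_c46 LD3_c13)))))))))))))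
theorem f717441 : Led Lsl_ff (LP (LK LD1_c8 LD2_c35 LD3_c44)) = (LP (LK LD1_c15 LD2_c46 LD3_c13)) :=
  Lgr Lrot23 (Lpr_ct (f52221 IH) (Lpr_ft (f693797 IH) (Lpqs (f716562 IH) (Lpr_ct (f53343 IH) (Lpn (LP (LK LD1_c15 LD2_c46 LD3_c13)))))))
theorem f717443 : Led Lsl_ft (LP (LK LD1_c8 LD2_c35 LD3_c44)) = (LP (LK LD1_c15 LD2_c46 LD3_c13)) :=
  Lgr Lrot48 (Lpr_ff (f717441 IH) (Lpn (LP (LK LD1_c15 LD2_c46 LD3_c13))))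
theorem f392873 : Led Lsl_gf (LP (LK LD1_c16 LD2_c5 LD3_c50)) = (LP (LK LD1_c8 LD2_c34 LD3_c43)) :=
  Lgr Lrot47 (Lpr_gt (f318764 IH) (Lpr_af (K49.f392841 IH) (Lpe (K66.f392827 IH) (Lpn (LP (LK LD1_c8 LD2_c34 LD3_c43))))))
theorem f717445 : Led Lsl_af (LP (LK LD1_c16 LD2_c5 LD3_c50)) = (LP (LK LD1_c15 LD2_c46 LD3_c13)) :=
  Lgr Lrot31 (Lpr_gf (f392873 IH) (Lpr_gf (K41.f271512 IH) (Lpr_ft (f717443 IH) (Lpn (LP (LK LD1_c15 LD2_c46 LD3_c13))))))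
theorem f717447 : Led Lsl_at (LP (LK LD1_c16 LD2_c5 LD3_c50)) = (LP (LK LD1_c15 LD2_c46 LD3_c13)) :=
  Lgr Lrot100 (Lpr_af (f717445 IH) (Lpn (LP (LK LD1_c15 LD2_c46 LD3_c13))))
theorem f882966 : Led Lsl_ff (LP (LK LD1_c16 LD2_c5 LD3_c50)) = v36244 :=
  Lgr Lrot52 (Lpr_at (f717447 IH) (Lpe (f53342 IH) (Lpr_gf (f882964 IH) (Lpn v36244))))
theorem f882968 : Led Lsl_ft (LP (LK LD1_c16 LD2_c5 LD3_c50)) = v36244 :=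
  Lgr Lrot48 (Lpr_ff (f882966 IH) (Lpn v36244))
theorem f882969 : Led Lsl_af (LP (LK LD1_c8 LD2_c35 LD3_c44)) = v36244 :=
  Lgr Lrot45 (Lpr_ft (f717443 IH) (Lpe (f717445 IH) (Lpr_ft (f882968 IH) (Lpn v36244))))
def v12610 : LQ := Led Lsl_at (LP (LK LD1_c4 LD2_c18 LD3_c27))
theorem f693787 : Led Lsl_at (LP (LK LD1_c4 LD2_c18 LD3_c27)) = v12610 :=
  Lrfl
theorem f882970 : Led Lsl_ct v12610 = v36244 :=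
  Lgr Lrot111 (Lpe (f693787 IH) (Lpe (f52221 IH) (Lpr_af (f882969 IH) (Lpn v36244))))
theorem f884871 : Led Lsl_gf v12610 = v36313 :=
  Lgr Lrot179 (Lpr_ct (f882970 IH) (Lpe (f882964 IH) (Lpr_ct (K20.f270625 IH) (Lpr_dt (K50.f270631 IH) (Lpe (K50.f221989 IH) (Lpr_gf (K67.f882774 IH) (Lpr_cf (K67.f883005 IH) (Lpe (f882999 IH) (Lpr_dt (f884866 IH) (Lpn v36313))))))))))
theorem f884870 : Led Lsl_ff (LP (LK LD1_c8 LD2_c35 LD3_c43)) = v36313 :=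
  Lgr Lrot19 (Lpr_dt (K67.f882730 IH) (Lpe (f882729 IH) (Lpr_dt (f884866 IH) (Lpn v36313))))
theorem f580005 : Led Lsl_ft (LP (LK LD1_c16 LD2_c5 LD3_c20)) = (LP (LK LD1_c15 LD2_c45 LD3_c50)) :=
  Lgr Lrot4 (Lpr_cf (K38.f237573 IH) (Lpr_ff (f580001 IH) (Lpr_cf (K66.f404599 IH) (Lpn (LP (LK LD1_c15 LD2_c45 LD3_c50))))))
theorem f580011 : Led Lsl_ff (LP (LK LD1_c16 LD2_c5 LD3_c20)) = (LP (LK LD1_c15 LD2_c45 LD3_c50)) :=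
  Lgr Lrot3 (Lpr_ft (f580005 IH) (Lpn (LP (LK LD1_c15 LD2_c45 LD3_c50))))
theorem f404601 : Led Lsl_bt (LP (LK LD1_c8 LD2_c22 LD3_c39)) = (LP (LK LD1_c15 LD2_c45 LD3_c50)) :=
  Lre_b IH (LK LD1_c8 LD2_c22 LD3_c39) (LK LD1_c15 LD2_c45 LD3_c50) Lrfl Lrfl
theorem f580015 : Led Lsl_ft (LP (LK LD1_c8 LD2_c34 LD3_c21)) = (LP (LK LD1_c8 LD2_c22 LD3_c39)) :=
  Lgr Lrot75 (Lpe (K38.f184384 IH) (Lpr_ff (f580011 IH) (Lpe (f404601 IH) (Lpn (LP (LK LD1_c8 LD2_c22 LD3_c39))))))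
theorem f580017 : Led Lsl_af (LP (LK LD1_c8 LD2_c34 LD3_c22)) = (LP (LK LD1_c8 LD2_c22 LD3_c39)) :=
  Lgr Lrot31 (Lpe (K50.f404647 IH) (Lpr_gf (K41.f403489 IH) (Lpr_ft (f580015 IH) (Lpn (LP (LK LD1_c8 LD2_c22 LD3_c39))))))
theorem f580019 : Led Lsl_at (LP (LK LD1_c8 LD2_c34 LD3_c22)) = (LP (LK LD1_c8 LD2_c22 LD3_c39)) :=
  Lgr Lrot100 (Lpr_af (f580017 IH) (Lpn (LP (LK LD1_c8 LD2_c22 LD3_c39))))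
theorem f841591 : Led Lsl_at (LP (LK LD1_c8 LD2_c35 LD3_c43)) = K66.v27840 :=
  Lgr Lrot107 (Lpr_cf (K66.f406177 IH) (Lpe (f580019 IH) (Lpr_cf (f841582 IH) (Lpn K66.v27840))))
theorem f884879 : Led Lsl_gt v12610 = K66.v27840 :=
  Lgr Lrot46 (Lpr_gf (f884871 IH) (Lpe (f884870 IH) (Lpr_at (f841591 IH) (Lpn K66.v27840))))
theorem f885372 : Led Lsl_df v12610 = v36400 :=
  Lgr Lrot155 (Lpr_gt (f884879 IH) (Lpe (f841582 IH) (Lpr_gt (K50.f167301 IH) (Lpr_ct (K20.f167298 IH) (Lpe (K50.f170175 IH) (Lpe (K27.f170183 IH) (Lpe (K50.f170185 IH) (Lpr_cf (K50.f170187 IH) (Lpr_gf (f885370 IH) (Lpn v36400))))))))))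
theorem f882971 : Led Lsl_cf v12610 = v36244 :=
  Lgr Lrot11 (Lpr_ct (f882970 IH) (Lpn v36244))
theorem f882965 : Led Lsl_gt (LP (LK LD1_c8 LD2_c22 LD3_c56)) = v36244 :=
  Lgr Lrot5 (Lpe (K49.f392833 IH) (Lpr_at (K49.f392815 IH) (Lpr_gf (f882964 IH) (Lpn v36244))))
def v36151 : LQ := Led Lsl_gf (LP (LK LD1_c8 LD2_c21 LD3_c7))
theorem f882478 : Led Lsl_gf (LP (LK LD1_c8 LD2_c21 LD3_c7)) = v36151 :=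
  Lrfl
theorem f882485 : Led Lsl_gt (LP (LK LD1_c8 LD2_c21 LD3_c8)) = v36151 :=
  Lgr Lrot5 (Lpr_ft (K67.f882483 IH) (Lpe (K67.f882480 IH) (Lpr_gf (f882478 IH) (Lpn v36151))))
theorem f885374 : Led Lsl_ct v36151 = v36400 :=
  Lgr Lrot110 (Lpe (f882485 IH) (Lpe (K67.f171032 IH) (Lpr_gf (K67.f404645 IH) (Lpr_df (K50.f170221 IH) (Lpe (K49.f404595 IH) (Lpr_ct (K49.f171001 IH) (Lpr_gt (f882965 IH) (Lpe (f882971 IH) (Lpr_df (f885372 IH) (Lpn v36400))))))))))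
theorem f691926 : Led Lsl_gt (LP (LK LD1_c15 LD2_c43 LD3_c14)) = (LP (LK LD1_c25 LD2_c39 LD3_c27)) :=
  Lre_g IH (LK LD1_c15 LD2_c43 LD3_c14) (LK LD1_c25 LD2_c39 LD3_c27) Lrfl Lrfl
def v36274 : LQ := Led Lsl_dt (LP (LK LD1_c8 LD2_c23 LD3_c7))
theorem f884442 : Led Lsl_dt (LP (LK LD1_c8 LD2_c23 LD3_c7)) = v36274 :=
  Lrfl
theorem f403554 : Led Lsl_ft (LP (LK LD1_c16 LD2_c5 LD3_c54)) = (LP (LK LD1_c15 LD2_c39 LD3_c23)) :=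
  Lgr Lrot48 (Lpr_ff (K54.f403546 IH) (Lpn (LP (LK LD1_c15 LD2_c39 LD3_c23))))
theorem f403565 : Led Lsl_ff (LP (LK LD1_c25 LD2_c34 LD3_c1)) = (LP (LK LD1_c15 LD2_c46 LD3_c31)) :=
  Lgr Lrot23 (Lpe (f392878 IH) (Lpr_ft (f403554 IH) (Lpr_ct (K52.f403540 IH) (Lpn (LP (LK LD1_c15 LD2_c46 LD3_c31))))))
theorem f883929 : Led Lsl_ff (LP (LK LD1_c8 LD2_c23 LD3_c15)) = (LP (LK LD1_c15 LD2_c46 LD3_c26)) :=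
  Lgr Lrot25 (Lpr_bt (K49.f403569 IH) (Lpe (f403565 IH) (Lpr_bt (f883921 IH) (Lpn (LP (LK LD1_c15 LD2_c46 LD3_c26))))))
theorem f692185 : Led Lsl_ff (LP (LK LD1_c8 LD2_c34 LD3_c42)) = K49.v12444 :=
  Lgr Lrot25 (Lpr_bt (f53427 IH) (Lpr_ft (K49.f392829 IH) (Lpr_bt (K49.f692181 IH) (Lpn K49.v12444))))
theorem f404660 : Led Lsl_dt (LP (LK LD1_c8 LD2_c34 LD3_c42)) = (LP (LK LD1_c8 LD2_c35 LD3_c12)) :=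
  Lgr Lrot79 (Lpe (f271518 IH) (Lpr_df (K50.f404655 IH) (Lpe (K66.f170258 IH) (Lpn (LP (LK LD1_c8 LD2_c35 LD3_c12))))))
theorem f398159 : Led Lsl_bt (LP (LK LD1_c4 LD2_c18 LD3_c9)) = (LP (LK LD1_c8 LD2_c35 LD3_c12)) :=
  Lre_b IH (LK LD1_c4 LD2_c18 LD3_c9) (LK LD1_c8 LD2_c35 LD3_c12) Lrfl Lrfl
theorem f404690 : Led Lsl_ff (LP (LK LD1_c8 LD2_c22 LD3_c23)) = (LP (LK LD1_c8 LD2_c35 LD3_c12)) :=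
  Lgr Lrot25 (Lpr_bt (K49.f51532 IH) (Lpr_ft (K50.f404686 IH) (Lpr_bt (f398159 IH) (Lpn (LP (LK LD1_c8 LD2_c35 LD3_c12))))))
theorem f692186 : Led Lsl_dt (LP (LK LD1_c8 LD2_c22 LD3_c23)) = K49.v12444 :=
  Lgr Lrot60 (Lpr_ff (f404690 IH) (Lpe (f404660 IH) (Lpr_ff (f692185 IH) (Lpn K49.v12444))))
theorem f692188 : Led Lsl_ct (LP (LK LD1_c8 LD2_c23 LD3_c15)) = K49.v12444 :=
  Lgr Lrot151 (Lpe (K52.f51791 IH) (Lpe (K53.f51793 IH) (Lpe (K30.f1113 IH) (Lpr_dt (K54.f1109 IH) (Lpr_gt (K38.f1212 IH) (Lpr_ct (K38.f51701 IH) (Lpr_gt (K49.f53339 IH) (Lpr_ct (K50.f53354 IH) (Lpr_dt (f692186 IH) (Lpn K49.v12444))))))))))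
theorem f883933 : Led Lsl_ct (LP (LK LD1_c8 LD2_c34 LD3_c42)) = (LP (LK LD1_c15 LD2_c46 LD3_c26)) :=
  Lgr Lrot40 (Lpr_ff (f692185 IH) (Lpe (f692188 IH) (Lpr_ff (f883929 IH) (Lpn (LP (LK LD1_c15 LD2_c46 LD3_c26))))))
theorem f882728 : Led Lsl_cf (LP (LK LD1_c8 LD2_c22 LD3_c2)) = K67.v36203 :=
  Lgr Lrot11 (Lpr_ct (K67.f882726 IH) (Lpn K67.v36203))
theorem f692271 : Led Lsl_gt (LP (LK LD1_c15 LD2_c46 LD3_c26)) = (LP (LK LD1_c8 LD2_c23 LD3_c8)) :=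
  Lre_g IH (LK LD1_c15 LD2_c46 LD3_c26) (LK LD1_c8 LD2_c23 LD3_c8) Lrfl Lrfl
theorem f692267 : Led Lsl_ct (LP (LK LD1_c4 LD2_c11 LD3_c47)) = (LP (LK LD1_c8 LD2_c23 LD3_c8)) :=
  Lre_c IH (LK LD1_c4 LD2_c11 LD3_c47) (LK LD1_c8 LD2_c23 LD3_c8) Lrfl Lrfl
theorem f883943 : Led Lsl_gf K67.v36203 = (LP (LK LD1_c8 LD2_c23 LD3_c7)) :=
  Lgr Lrot181 (Lpe (f882728 IH) (Lpr_gt (K49.f406058 IH) (Lpe (K54.f170264 IH) (Lpe (K66.f299387 IH) (Lpr_gt (K41.f403511 IH) (Lpe (f53427 IH) (Lpr_ct (f883933 IH) (Lpr_gt (f692271 IH) (Lpe (f692267 IH) (Lpr_bt (K67.f692298 IH) (Lpn (LP (LK LD1_c8 LD2_c23 LD3_c7)))))))))))))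
theorem f298223 : Led Lsl_ct (LP (LK LD1_c16 LD2_c19 LD3_c56)) = (LP (LK LD1_c8 LD2_c43 LD3_c17)) :=
  Lre_c IH (LK LD1_c16 LD2_c19 LD3_c56) (LK LD1_c8 LD2_c43 LD3_c17) Lrfl Lrfl
theorem f236852 : Led Lsl_at (LP (LK LD1_c14 LD2_c58 LD3_c16)) = (LP (LK LD1_c7 LD2_c56 LD3_c8)) :=
  Lre_a IH (LK LD1_c14 LD2_c58 LD3_c16) (LK LD1_c7 LD2_c56 LD3_c8) Lrfl Lrfl
theorem f298221 : Led Lsl_at (LP (LK LD1_c4 LD2_c22 LD3_c42)) = (LP (LK LD1_c8 LD2_c43 LD3_c17)) :=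
  Lre_a IH (LK LD1_c4 LD2_c22 LD3_c42) (LK LD1_c8 LD2_c43 LD3_c17) Lrfl Lrfl
theorem f298267 : Led Lsl_ff (LP (LK LD1_c14 LD2_c58 LD3_c16)) = (LP (LK LD1_c8 LD2_c43 LD3_c17)) :=
  Lgr Lrot30 (Lpr_at (f236852 IH) (Lpr_ft (K19.f298245 IH) (Lpr_at (f298221 IH) (Lpn (LP (LK LD1_c8 LD2_c43 LD3_c17))))))
theorem f196969 : Led Lsl_gt (LP (LK LD1_c14 LD2_c58 LD3_c15)) = (LP (LK LD1_c7 LD2_c56 LD3_c8)) :=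
  Lre_g IH (LK LD1_c14 LD2_c58 LD3_c15) (LK LD1_c7 LD2_c56 LD3_c8) Lrfl Lrfl
theorem f298339 : Led Lsl_gf (LP (LK LD1_c14 LD2_c58 LD3_c15)) = (LP (LK LD1_c8 LD2_c43 LD3_c17)) :=
  Lgr Lrot47 (Lpr_gt (f196969 IH) (Lpe (f236852 IH) (Lpr_ff (f298267 IH) (Lpn (LP (LK LD1_c8 LD2_c43 LD3_c17))))))
theorem f187006 : Led Lsl_bt (LP (LK LD1_c2 LD2_c2 LD3_c38)) = (LP (LK LD1_c4 LD2_c10 LD3_c46)) :=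
  Lre_b IH (LK LD1_c2 LD2_c2 LD3_c38) (LK LD1_c4 LD2_c10 LD3_c46) Lrfl Lrfl
theorem f167235 : Led Lsl_gt (LP (LK LD1_c4 LD2_c10 LD3_c46)) = (LP (LK LD1_c8 LD2_c21 LD3_c24)) :=
  Lre_g IH (LK LD1_c4 LD2_c10 LD3_c46) (LK LD1_c8 LD2_c21 LD3_c24) Lrfl Lrfl
theorem f309338 : Led Lsl_bt (LP (LK LD1_c15 LD2_c43 LD3_c39)) = (LP (LK LD1_c8 LD2_c21 LD3_c24)) :=
  Lre_b IH (LK LD1_c15 LD2_c43 LD3_c39) (LK LD1_c8 LD2_c21 LD3_c24) Lrfl Lrfl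
theorem f309339 : Led Lsl_ct (LP (LK LD1_c15 LD2_c43 LD3_c39)) = (LP (LK LD1_c14 LD2_c58 LD3_c15)) :=
  Lgr Lrot64 (Lpr_bt (f309338 IH) (Lpe (f167235 IH) (Lpe (f187006 IH) (Lpr_ct (K14.f167110 IH) (Lpe (K14.f255864 IH) (Lpe (K19.f184309 IH) (Lpe (K19.f255622 IH) (Lpe (K19.f309248 IH) (Lpr_ct (K19.f309331 IH) (Lpe (f196969 IH) (Lpn (LP (LK LD1_c14 LD2_c58 LD3_c15)))))))))))))
theorem f406099 : Led Lsl_gt (LP (LK LD1_c8 LD2_c21 LD3_c24)) = (LP (LK LD1_c8 LD2_c33 LD3_c7)) :=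
  Lgr Lrot82 (Lpe (f309338 IH) (Lpr_ct (f309339 IH) (Lpr_gf (f298339 IH) (Lpe (f298223 IH) (Lpe (K19.f309386 IH) (Lpr_gf (K52.f404958 IH) (Lpe (K52.f252056 IH) (Lpr_ct (K52.f170915 IH) (Lpr_gf (K50.f406097 IH) (Lpe (K64.f170266 IH) (Lpn (LP (LK LD1_c8 LD2_c33 LD3_c7)))))))))))))
def v36166 : LQ := Led Lsl_ct (LP (LK LD1_c8 LD2_c21 LD3_c24))
theorem f882540 : Led Lsl_ct (LP (LK LD1_c8 LD2_c21 LD3_c24)) = v36166 :=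
  Lrfl
theorem f882542 : Led Lsl_cf (LP (LK LD1_c8 LD2_c21 LD3_c24)) = v36166 :=
  Lgr Lrot11 (Lpr_ct (f882540 IH) (Lpn v36166))
theorem f884446 : Led Lsl_gf v36166 = v36274 :=
  Lgr Lrot179 (Lpe (f882542 IH) (Lpr_gt (f406099 IH) (Lpr_ct (K64.f170266 IH) (Lpe (K50.f170241 IH) (Lpe (K49.f170272 IH) (Lpe (K49.f406058 IH) (Lpr_cf (f882728 IH) (Lpr_gf (f883943 IH) (Lpr_dt (f884442 IH) (Lpn v36274))))))))))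
theorem f694864 : Led Lsl_ft (LP (LK LD1_c8 LD2_c25 LD3_c42)) = K50.v12626 :=
  Lgr Lrot48 (Lpr_ff (K50.f694861 IH) (Lpn K50.v12626))
theorem f694865 : Led Lsl_ff (LP (LK LD1_c8 LD2_c33 LD3_c6)) = (LP (LK LD1_c8 LD2_c21 LD3_c25)) :=
  Lgr Lrot23 (Lpr_ct (K64.f178335 IH) (Lpr_ft (f694864 IH) (Lpe (K50.f694823 IH) (Lpn (LP (LK LD1_c8 LD2_c21 LD3_c25))))))
theorem f694867 : Led Lsl_at (LP (LK LD1_c8 LD2_c33 LD3_c6)) = (LP (LK LD1_c8 LD2_c21 LD3_c24)) :=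
  Lgr Lrot26 (Lpr_ff (f694865 IH) (Lpr_gt (K50.f170892 IH) (Lpr_gt (f167235 IH) (Lpn (LP (LK LD1_c8 LD2_c21 LD3_c24))))))
theorem f694869 : Led Lsl_af (LP (LK LD1_c8 LD2_c33 LD3_c6)) = (LP (LK LD1_c8 LD2_c21 LD3_c24)) :=
  Lgr Lrot0 (Lpr_at (f694867 IH) (Lpn (LP (LK LD1_c8 LD2_c21 LD3_c24))))
theorem f882543 : Led Lsl_at (LP (LK LD1_c8 LD2_c25 LD3_c42)) = v36166 :=
  Lgr Lrot107 (Lpe (K64.f178335 IH) (Lpr_af (f694869 IH) (Lpr_cf (f882542 IH) (Lpn v36166))))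
theorem f884454 : Led Lsl_gt K50.v12626 = v36274 :=
  Lgr Lrot5 (Lpe (K50.f694861 IH) (Lpr_at (f882543 IH) (Lpr_gf (f884446 IH) (Lpn v36274))))
theorem f884444 : Led Lsl_df (LP (LK LD1_c8 LD2_c23 LD3_c7)) = v36274 :=
  Lgr Lrot38 (Lpr_dt (f884442 IH) (Lpn v36274))
theorem f692274 : Led Lsl_ct (LP (LK LD1_c8 LD2_c23 LD3_c7)) = (LP (LK LD1_c15 LD2_c46 LD3_c25)) :=
  Lre_c IH (LK LD1_c8 LD2_c23 LD3_c7) (LK LD1_c15 LD2_c46 LD3_c25) Lrfl Lrfl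
theorem f885376 : Led Lsl_dt (LP (LK LD1_c25 LD2_c39 LD3_c27)) = (LP (LK LD1_c15 LD2_c46 LD3_c25)) :=
  Lgr Lrot113 (Lpe (f691926 IH) (Lpe (K67.f319576 IH) (Lpr_gf (f882478 IH) (Lpr_ct (f885374 IH) (Lpe (f885370 IH) (Lpr_dt (K64.f694829 IH) (Lpr_gt (f884454 IH) (Lpe (f884444 IH) (Lpr_ct (f692274 IH) (Lpn (LP (LK LD1_c15 LD2_c46 LD3_c25))))))))))))
theorem f885377 : Led Lsl_dt (LP (LK LD1_c25 LD2_c39 LD3_c27)) = (LP (LK LD1_c15 LD2_c46 LD3_c25)) :=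
  Leop (Lpe (f885376 IH) (Lpn (LP (LK LD1_c25 LD2_c39 LD3_c27))))
theorem seed_2100 : LEOK LG_d (LK LD1_c25 LD2_c39 LD3_c27) :=
  Leoe_d (LK LD1_c25 LD2_c39 LD3_c27) (f885377 IH)
def v36402 : LQ := Led Lsl_gt (LP (LK LD1_c8 LD2_c25 LD3_c1))
theorem f885395 : Led Lsl_gt (LP (LK LD1_c8 LD2_c25 LD3_c1)) = v36402 :=
  Lrfl
def v4142 : LQ := Led Lsl_gf (LP (LK LD1_c2 LD2_c7 LD3_c17))
def v23735 : LQ := Led Lsl_bt v4142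
theorem f820167 : Led Lsl_bt v4142 = v23735 :=
  Lrfl
theorem f692491 : Led Lsl_ff (LP (LK LD1_c4 LD2_c12 LD3_c46)) = K64.v12500 :=
  Lgr Lrot3 (Lpr_ft (K64.f692489 IH) (Lpn K64.v12500))
theorem f631423 : Led Lsl_gf K50.v4107 = K64.v4141 :=
  Lgr Lrot76 (Lpe (K50.f629457 IH) (Lpe (K50.f304907 IH) (Lpr_gt (K64.f631422 IH) (Lpn K64.v4141))))
theorem f631426 : Led Lsl_af (LP (LK LD1_c2 LD2_c7 LD3_c17)) = K50.v4143 :=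
  Lgr Lrot0 (Lpr_at (K50.f631425 IH) (Lpn K50.v4143))
theorem f631424 : Led Lsl_gf (LP (LK LD1_c2 LD2_c7 LD3_c17)) = v4142 :=
  Lrfl
theorem f631434 : Led Lsl_gt K50.v4107 = v4142 :=
  Lgr Lrot5 (Lpr_ft (K50.f631432 IH) (Lpe (f631426 IH) (Lpr_gf (f631424 IH) (Lpn v4142))))
theorem f694852 : K50.v12496 = v4142 :=
  (Llr Lrot26 (Lpe (K50.f692478 IH) (Lpr_ff (f692491 IH) (Lpqs (K64.f694851 IH) (Lpe (f631423 IH) (Lpr_gt (f631434 IH) (Lpn v4142))))))).symm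
theorem f820170 : Led Lsl_ff (LP (LK LD1_c8 LD2_c25 LD3_c1)) = v23735 :=
  Lgr Lrot25 (Lpr_bt (K49.f263800 IH) (Lpr_ft (K50.f692480 IH) (Lpqs (f694852 IH) (Lpr_bt (f820167 IH) (Lpn v23735)))))
theorem f820172 : Led Lsl_ft (LP (LK LD1_c8 LD2_c25 LD3_c1)) = v23735 :=
  Lgr Lrot48 (Lpr_ff (f820170 IH) (Lpn v23735))
def v36289 : LQ := Led Lsl_gf (LP (LK LD1_c8 LD2_c23 LD3_c14))
theorem f884764 : Led Lsl_gf (LP (LK LD1_c8 LD2_c23 LD3_c14)) = v36289 :=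
  Lrfl
theorem f170995 : Led Lsl_ct (LP (LK LD1_c2 LD2_c2 LD3_c28)) = (LP (LK LD1_c4 LD2_c10 LD3_c17)) :=
  Lre_c IH (LK LD1_c2 LD2_c2 LD3_c28) (LK LD1_c4 LD2_c10 LD3_c17) Lrfl Lrfl
theorem f884767 : Led Lsl_bt K67.v36127 = v36289 :=
  Lgr Lrot130 (Lpe (K67.f882352 IH) (Lpe (K67.f182195 IH) (Lpe (f170995 IH) (Lpr_bt (K50.f170977 IH) (Lpe (K15.f170849 IH) (Lpe (K38.f170981 IH) (Lpr_ct (K38.f178511 IH) (Lpe (K38.f178512 IH) (Lpr_cf (K38.f400522 IH) (Lpr_gf (f884764 IH) (Lpn v36289)))))))))))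
theorem f884769 : Led Lsl_bf K67.v36127 = v36289 :=
  Lgr Lrot24 (Lpr_bt (f884767 IH) (Lpn v36289))
theorem f819889 : Led Lsl_ft (LP (LK LD1_c8 LD2_c20 LD3_c47)) = (LP (LK LD1_c8 LD2_c33 LD3_c56)) :=
  Lgr Lrot48 (Lpr_ff (K64.f819882 IH) (Lpn (LP (LK LD1_c8 LD2_c33 LD3_c56))))
theorem f820116 : Led Lsl_af (LP (LK LD1_c8 LD2_c20 LD3_c46)) = (LP (LK LD1_c8 LD2_c33 LD3_c56)) :=
  Lgr Lrot45 (Lpr_ft (K67.f820114 IH) (Lpe (K67.f819893 IH) (Lpr_ft (f819889 IH) (Lpn (LP (LK LD1_c8 LD2_c33 LD3_c56))))))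
theorem f882351 : Led Lsl_af (LP (LK LD1_c8 LD2_c25 LD3_c0)) = K67.v36127 :=
  Lgr Lrot68 (Lpe (K50.f170187 IH) (Lpe (f820116 IH) (Lpr_ct (K67.f882350 IH) (Lpn K67.v36127))))
theorem f884770 : Led Lsl_at v23735 = v36289 :=
  Lgr Lrot67 (Lpe (f820167 IH) (Lpq (f694852 IH) (Lpe (K50.f692478 IH) (Lpe (K50.f170186 IH) (Lpr_af (f882351 IH) (Lpr_bf (f884769 IH) (Lpn v36289)))))))
theorem f885397 : Led Lsl_gf v36289 = v36402 :=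
  Lgr Lrot76 (Lpe (f884770 IH) (Lpe (f820172 IH) (Lpr_gt (f885395 IH) (Lpn v36402))))
theorem f167040 : Led Lsl_ct (LP (LK LD1_c8 LD2_c23 LD3_c0)) = (LP (LK LD1_c15 LD2_c46 LD3_c20)) :=
  Lre_c IH (LK LD1_c8 LD2_c23 LD3_c0) (LK LD1_c15 LD2_c46 LD3_c20) Lrfl Lrfl
theorem f178364 : Led Lsl_dt (LP (LK LD1_c25 LD2_c43 LD3_c3)) = (LP (LK LD1_c15 LD2_c46 LD3_c20)) :=
  Lre_d IH (LK LD1_c25 LD2_c43 LD3_c3) (LK LD1_c15 LD2_c46 LD3_c20) Lrfl Lrfl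
theorem f620791 : Led Lsl_ft (LP (LK LD1_c9 LD2_c37 LD3_c20)) = (LP (LK LD1_c17 LD2_c42 LD3_c42)) :=
  Lre_f IH (LK LD1_c9 LD2_c37 LD3_c20) (LK LD1_c17 LD2_c42 LD3_c42) Lrfl Lrfl
theorem f620792 : Led Lsl_bt (LP (LK LD1_c17 LD2_c42 LD3_c42)) = (LP (LK LD1_c16 LD2_c14 LD3_c35)) :=
  Lgr Lrot35 (Lpe (f620791 IH) (Lpe (K52.f602087 IH) (Lpr_ff (K52.f620789 IH) (Lpn (LP (LK LD1_c16 LD2_c14 LD3_c35))))))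
theorem f620572 : Led Lsl_ct (LP (LK LD1_c27 LD2_c29 LD3_c52)) = (LP (LK LD1_c17 LD2_c42 LD3_c42)) :=
  Lre_c IH (LK LD1_c27 LD2_c29 LD3_c52) (LK LD1_c17 LD2_c42 LD3_c42) Lrfl Lrfl
theorem f232473 : Led Lsl_gt (LP (LK LD1_c16 LD2_c14 LD3_c35)) = (LP (LK LD1_c26 LD2_c11 LD3_c41)) :=
  Lre_g IH (LK LD1_c16 LD2_c14 LD3_c35) (LK LD1_c26 LD2_c11 LD3_c41) Lrfl Lrfl
theorem f602169 : Led Lsl_ft (LP (LK LD1_c16 LD2_c14 LD3_c38)) = (LP (LK LD1_c26 LD2_c11 LD3_c40)) :=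
  Lre_f IH (LK LD1_c16 LD2_c14 LD3_c38) (LK LD1_c26 LD2_c11 LD3_c40) Lrfl Lrfl
theorem f602170 : Led Lsl_at (LP (LK LD1_c26 LD2_c11 LD3_c40)) = (LP (LK LD1_c16 LD2_c14 LD3_c35)) :=
  Lre_a IH (LK LD1_c26 LD2_c11 LD3_c40) (LK LD1_c16 LD2_c14 LD3_c35) Lrfl Lrfl
theorem f602171 : Led Lsl_gf (LP (LK LD1_c16 LD2_c14 LD3_c35)) = (LP (LK LD1_c17 LD2_c39 LD3_c17)) :=
  Lgr Lrot76 (Lpe (f602170 IH) (Lpe (f602169 IH) (Lpr_gt (K49.f602167 IH) (Lpn (LP (LK LD1_c17 LD2_c39 LD3_c17))))))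
theorem f296185 : Led Lsl_ct (LP (LK LD1_c2 LD2_c7 LD3_c12)) = (LP (LK LD1_c4 LD2_c19 LD3_c37)) :=
  Lre_c IH (LK LD1_c2 LD2_c7 LD3_c12) (LK LD1_c4 LD2_c19 LD3_c37) Lrfl Lrfl
theorem f296554 : Led Lsl_gt (LP (LK LD1_c4 LD2_c19 LD3_c37)) = (LP (LK LD1_c8 LD2_c37 LD3_c28)) :=
  Lre_g IH (LK LD1_c4 LD2_c19 LD3_c37) (LK LD1_c8 LD2_c37 LD3_c28) Lrfl Lrfl
theorem f339630 : Led Lsl_ct (LP (LK LD1_c15 LD2_c29 LD3_c4)) = (LP (LK LD1_c15 LD2_c36 LD3_c39)) :=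
  Lgr Lrot111 (Lpe (K17.f283514 IH) (Lpe (K22.f283475 IH) (Lpr_af (K22.f339625 IH) (Lpn (LP (LK LD1_c15 LD2_c36 LD3_c39))))))
theorem f363284 : Led Lsl_ct (LP (LK LD1_c8 LD2_c37 LD3_c28)) = (LP (LK LD1_c8 LD2_c18 LD3_c2)) :=
  Lgr Lrot110 (Lpe (f296554 IH) (Lpe (f296185 IH) (Lpr_gf (K16.f278175 IH) (Lpe (K16.f251695 IH) (Lpe (K26.f363270 IH) (Lpr_ct (K26.f256170 IH) (Lpr_gt (K26.f363278 IH) (Lpr_ct (f339630 IH) (Lpe (K22.f292421 IH) (Lpn (LP (LK LD1_c8 LD2_c18 LD3_c2))))))))))))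
theorem f363289 : Led Lsl_dt (LP (LK LD1_c16 LD2_c9 LD3_c23)) = (LP (LK LD1_c8 LD2_c37 LD3_c28)) :=
  Lre_d IH (LK LD1_c16 LD2_c9 LD3_c23) (LK LD1_c8 LD2_c37 LD3_c28) Lrfl Lrfl
theorem f363290 : Led Lsl_ct (LP (LK LD1_c26 LD2_c6 LD3_c1)) = (LP (LK LD1_c16 LD2_c9 LD3_c23)) :=
  Lre_c IH (LK LD1_c26 LD2_c6 LD3_c1) (LK LD1_c16 LD2_c9 LD3_c23) Lrfl Lrfl
theorem f299374 : Led Lsl_bt (LP (LK LD1_c8 LD2_c34 LD3_c5)) = (LP (LK LD1_c4 LD2_c17 LD3_c27)) :=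
  Lre_b IH (LK LD1_c8 LD2_c34 LD3_c5) (LK LD1_c4 LD2_c17 LD3_c27) Lrfl Lrfl
theorem f311387 : Led Lsl_bf (LP (LK LD1_c8 LD2_c18 LD3_c3)) = (LP (LK LD1_c4 LD2_c10 LD3_c43)) :=
  Lgr Lrot96 (Lpr_et (K19.f311385 IH) (Lpr_bt (K18.f179733 IH) (Lpr_et (K21.f300854 IH) (Lpn (LP (LK LD1_c4 LD2_c10 LD3_c43))))))
theorem f315926 : Led Lsl_ff (LP (LK LD1_c8 LD2_c34 LD3_c5)) = (LP (LK LD1_c8 LD2_c18 LD3_c3)) :=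
  Lgr Lrot25 (Lpr_bt (f299374 IH) (Lpr_ft (K20.f315924 IH) (Lpe (f311387 IH) (Lpn (LP (LK LD1_c8 LD2_c18 LD3_c3))))))
theorem f278165 : Led Lsl_ct (LP (LK LD1_c20 LD2_c56 LD3_c42)) = (LP (LK LD1_c29 LD2_c45 LD3_c44)) :=
  Lre_c IH (LK LD1_c20 LD2_c56 LD3_c42) (LK LD1_c29 LD2_c45 LD3_c44) Lrfl Lrfl
theorem f363293 : Led Lsl_df (LP (LK LD1_c26 LD2_c6 LD3_c1)) = (LP (LK LD1_c29 LD2_c45 LD3_c44)) :=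
  Lgr Lrot13 (Lpr_ct (f363290 IH) (Lpr_dt (f363289 IH) (Lpr_ct (f363284 IH) (Lpr_af (K22.f339583 IH) (Lpr_ff (f315926 IH) (Lpr_dt (K22.f311383 IH) (Lpr_ct (K22.f283518 IH) (Lpr_dt (K17.f177488 IH) (Lpr_ct (f278165 IH) (Lpn (LP (LK LD1_c29 LD2_c45 LD3_c44))))))))))))
theorem f363302 : Led Lsl_dt (LP (LK LD1_c26 LD2_c6 LD3_c1)) = (LP (LK LD1_c29 LD2_c45 LD3_c44)) :=
  Lgr Lrot42 (Lpr_df (f363293 IH) (Lpn (LP (LK LD1_c29 LD2_c45 LD3_c44))))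
theorem f363305 : Led Lsl_ct (LP (LK LD1_c16 LD2_c9 LD3_c23)) = (LP (LK LD1_c26 LD2_c6 LD3_c1)) :=
  Lre_c IH (LK LD1_c16 LD2_c9 LD3_c23) (LK LD1_c26 LD2_c6 LD3_c1) Lrfl Lrfl
theorem f330950 : Led Lsl_dt (LP (LK LD1_c8 LD2_c37 LD3_c28)) = (LP (LK LD1_c16 LD2_c9 LD3_c23)) :=
  Lre_d IH (LK LD1_c8 LD2_c37 LD3_c28) (LK LD1_c16 LD2_c9 LD3_c23) Lrfl Lrfl
theorem f278163 : Led Lsl_ct (LP (LK LD1_c29 LD2_c45 LD3_c44)) = (LP (LK LD1_c20 LD2_c56 LD3_c42)) :=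
  Lre_c IH (LK LD1_c29 LD2_c45 LD3_c44) (LK LD1_c20 LD2_c56 LD3_c42) Lrfl Lrfl
theorem f179754 : Led Lsl_et (LP (LK LD1_c8 LD2_c36 LD3_c17)) = (LP (LK LD1_c4 LD2_c18 LD3_c48)) :=
  Lre_e IH (LK LD1_c8 LD2_c36 LD3_c17) (LK LD1_c4 LD2_c18 LD3_c48) Lrfl Lrfl
theorem f311403 : Led Lsl_ct (LP (LK LD1_c8 LD2_c18 LD3_c3)) = (LP (LK LD1_c8 LD2_c36 LD3_c17)) :=
  Lgr Lrot15 (Lpr_ef (K19.f311393 IH) (Lpe (K19.f179748 IH) (Lpe (f179754 IH) (Lpn (LP (LK LD1_c8 LD2_c36 LD3_c17))))))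
theorem f311347 : Led Lsl_af (LP (LK LD1_c8 LD2_c36 LD3_c17)) = (LP (LK LD1_c8 LD2_c25 LD3_c26)) :=
  Lgr Lrot50 (Lpr_et (f179754 IH) (Lpr_at (K19.f311342 IH) (Lpr_et (K20.f310061 IH) (Lpn (LP (LK LD1_c8 LD2_c25 LD3_c26))))))
theorem f363309 : Led Lsl_ft (LP (LK LD1_c8 LD2_c37 LD3_c28)) = (LP (LK LD1_c8 LD2_c25 LD3_c26)) :=
  Lgr Lrot142 (Lpr_dt (f330950 IH) (Lpr_ct (f363305 IH) (Lpr_dt (f363302 IH) (Lpr_ct (f278163 IH) (Lpr_dt (K22.f278166 IH) (Lpr_ct (K17.f283506 IH) (Lpe (K21.f311391 IH) (Lpr_ct (f311403 IH) (Lpr_af (f311347 IH) (Lpn (LP (LK LD1_c8 LD2_c25 LD3_c26))))))))))))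
theorem f363287 : Led Lsl_cf (LP (LK LD1_c8 LD2_c37 LD3_c28)) = (LP (LK LD1_c8 LD2_c18 LD3_c2)) :=
  Lgr Lrot11 (Lpr_ct (f363284 IH) (Lpn (LP (LK LD1_c8 LD2_c18 LD3_c2))))
theorem f363313 : Led Lsl_cf (LP (LK LD1_c8 LD2_c30 LD3_c47)) = (LP (LK LD1_c8 LD2_c25 LD3_c26)) :=
  Lgr Lrot108 (Lpe (K22.f311377 IH) (Lpe (f363287 IH) (Lpr_ft (f363309 IH) (Lpn (LP (LK LD1_c8 LD2_c25 LD3_c26))))))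
theorem f296357 : Led Lsl_bt (LP (LK LD1_c9 LD2_c34 LD3_c26)) = (LP (LK LD1_c17 LD2_c37 LD3_c43)) :=
  Lre_b IH (LK LD1_c9 LD2_c34 LD3_c26) (LK LD1_c17 LD2_c37 LD3_c43) Lrfl Lrfl
theorem f310069 : Led Lsl_bt (LP (LK LD1_c15 LD2_c49 LD3_c39)) = (LP (LK LD1_c8 LD2_c25 LD3_c26)) :=
  Lre_b IH (LK LD1_c15 LD2_c49 LD3_c39) (LK LD1_c8 LD2_c25 LD3_c26) Lrfl Lrfl
theorem f363327 : Led Lsl_ct (LP (LK LD1_c17 LD2_c37 LD3_c43)) = (LP (LK LD1_c15 LD2_c49 LD3_c39)) :=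
  Lgr Lrot83 (Lpe (f296357 IH) (Lpr_cf (K18.f236456 IH) (Lpe (K20.f283223 IH) (Lpr_cf (f363313 IH) (Lpe (f310069 IH) (Lpn (LP (LK LD1_c15 LD2_c49 LD3_c39))))))))
theorem f363332 : Led Lsl_et (LP (LK LD1_c9 LD2_c34 LD3_c24)) = (LP (LK LD1_c17 LD2_c37 LD3_c43)) :=
  Lre_e IH (LK LD1_c9 LD2_c34 LD3_c24) (LK LD1_c17 LD2_c37 LD3_c43) Lrfl Lrfl
theorem f363333 : Led Lsl_et (LP (LK LD1_c15 LD2_c49 LD3_c39)) = (LP (LK LD1_c8 LD2_c25 LD3_c24)) :=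
  Lre_e IH (LK LD1_c15 LD2_c49 LD3_c39) (LK LD1_c8 LD2_c25 LD3_c24) Lrfl Lrfl
theorem f363334 : Led Lsl_cf (LP (LK LD1_c9 LD2_c34 LD3_c24)) = (LP (LK LD1_c8 LD2_c25 LD3_c24)) :=
  Lgr Lrot39 (Lpr_et (f363332 IH) (Lpr_ct (f363327 IH) (Lpr_et (f363333 IH) (Lpn (LP (LK LD1_c8 LD2_c25 LD3_c24))))))
theorem f363341 : Led Lsl_ft (LP (LK LD1_c9 LD2_c34 LD3_c24)) = (LP (LK LD1_c16 LD2_c7 LD3_c40)) :=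
  Lgr Lrot4 (Lpr_cf (f363334 IH) (Lpe (K28.f311351 IH) (Lpe (K49.f258335 IH) (Lpn (LP (LK LD1_c16 LD2_c7 LD3_c40))))))
theorem f363346 : Led Lsl_ff (LP (LK LD1_c9 LD2_c34 LD3_c24)) = (LP (LK LD1_c16 LD2_c7 LD3_c40)) :=
  Lgr Lrot3 (Lpr_ft (f363341 IH) (Lpn (LP (LK LD1_c16 LD2_c7 LD3_c40))))
theorem f363339 : Led Lsl_dt (LP (LK LD1_c9 LD2_c34 LD3_c24)) = (LP (LK LD1_c17 LD2_c37 LD3_c42)) :=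
  Lre_d IH (LK LD1_c9 LD2_c34 LD3_c24) (LK LD1_c17 LD2_c37 LD3_c42) Lrfl Lrfl
theorem f405001 : Led Lsl_ft (LP (LK LD1_c17 LD2_c37 LD3_c42)) = (LP (LK LD1_c17 LD2_c39 LD3_c17)) :=
  Lgr Lrot54 (Lpe (f363339 IH) (Lpr_ff (f363346 IH) (Lpr_df (K49.f404994 IH) (Lpn (LP (LK LD1_c17 LD2_c39 LD3_c17))))))
theorem f405007 : Led Lsl_ff (LP (LK LD1_c17 LD2_c37 LD3_c42)) = (LP (LK LD1_c17 LD2_c39 LD3_c17)) :=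
  Lgr Lrot3 (Lpr_ft (f405001 IH) (Lpn (LP (LK LD1_c17 LD2_c39 LD3_c17))))
theorem f602179 : Led Lsl_af (LP (LK LD1_c26 LD2_c11 LD3_c41)) = (LP (LK LD1_c17 LD2_c37 LD3_c42)) :=
  Lgr Lrot31 (Lpe (f232473 IH) (Lpr_gf (f602171 IH) (Lpe (f405007 IH) (Lpn (LP (LK LD1_c17 LD2_c37 LD3_c42))))))
theorem f363343 : Led Lsl_at (LP (LK LD1_c17 LD2_c37 LD3_c41)) = (LP (LK LD1_c9 LD2_c34 LD3_c24)) :=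
  Lre_a IH (LK LD1_c17 LD2_c37 LD3_c41) (LK LD1_c9 LD2_c34 LD3_c24) Lrfl Lrfl
theorem f602188 : Led Lsl_dt (LP (LK LD1_c26 LD2_c11 LD3_c41)) = (LP (LK LD1_c17 LD2_c37 LD3_c41)) :=
  Lgr Lrot44 (Lpr_af (f602179 IH) (Lpe (f363339 IH) (Lpe (f363343 IH) (Lpn (LP (LK LD1_c17 LD2_c37 LD3_c41))))))
theorem f308808 : Led Lsl_at (LP (LK LD1_c9 LD2_c34 LD3_c24)) = (LP (LK LD1_c17 LD2_c37 LD3_c41)) :=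
  Lre_a IH (LK LD1_c9 LD2_c34 LD3_c24) (LK LD1_c17 LD2_c37 LD3_c41) Lrfl Lrfl
theorem f363337 : Led Lsl_ct (LP (LK LD1_c17 LD2_c37 LD3_c41)) = (LP (LK LD1_c15 LD2_c49 LD3_c37)) :=
  Lgr Lrot111 (Lpe (f308808 IH) (Lpr_cf (f363334 IH) (Lpe (K27.f363336 IH) (Lpn (LP (LK LD1_c15 LD2_c49 LD3_c37))))))
theorem f383606 : Led Lsl_bf (LP (LK LD1_c11 LD2_c17 LD3_c57)) = (LP (LK LD1_c15 LD2_c49 LD3_c37)) :=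
  Lgr Lrot24 (Lpr_bt (K27.f383604 IH) (Lpn (LP (LK LD1_c15 LD2_c49 LD3_c37))))
theorem f30503 : Led Lsl_bf (LP (LK LD1_c9 LD2_c38 LD3_c24)) = (LP (LK LD1_c15 LD2_c7 LD3_c28)) :=
  Lgr Lrot93 (Lpe (K49.f2807 IH) (Lpr_bt (K39.f30308 IH) (Lpr_dt (K7.f29362 IH) (Lpn (LP (LK LD1_c15 LD2_c7 LD3_c28))))))
theorem f2816 : Led Lsl_gt (LP (LK LD1_c9 LD2_c38 LD3_c24)) = (LP (LK LD1_c17 LD2_c44 LD3_c30)) :=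
  Lre_g IH (LK LD1_c9 LD2_c38 LD3_c24) (LK LD1_c17 LD2_c44 LD3_c30) Lrfl Lrfl
theorem f620860 : Led Lsl_df (LP (LK LD1_c27 LD2_c29 LD3_c52)) = (LP (LK LD1_c17 LD2_c44 LD3_c30)) :=
  Lgr Lrot183 (Lpr_ct (f620572 IH) (Lpr_bt (f620792 IH) (Lpr_gt (f232473 IH) (Lpr_dt (f602188 IH) (Lpr_ct (f363337 IH) (Lpe (f383606 IH) (Lpr_gt (K40.f383681 IH) (Lpr_dt (K40.f381171 IH) (Lpr_ct (K40.f562148 IH) (Lpr_bt (K40.f563742 IH) (Lpe (K40.f561679 IH) (Lpe (K44.f579065 IH) (Lpr_ct (K45.f579079 IH) (Lpe (K45.f588340 IH) (Lpr_gt (K49.f588335 IH) (Lpr_dt (K7.f29363 IH) (Lpr_ct (K7.f29364 IH) (Lpe (f30503 IH) (Lpr_gt (f2816 IH) (Lpn (LP (LK LD1_c17 LD2_c44 LD3_c30))))))))))))))))))))))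
theorem f620571 : Led Lsl_dt (LP (LK LD1_c9 LD2_c37 LD3_c11)) = (LP (LK LD1_c17 LD2_c42 LD3_c42)) :=
  Lre_d IH (LK LD1_c9 LD2_c37 LD3_c11) (LK LD1_c17 LD2_c42 LD3_c42) Lrfl Lrfl
theorem f620872 : Led Lsl_gf (LP (LK LD1_c25 LD2_c43 LD3_c3)) = (LP (LK LD1_c17 LD2_c45 LD3_c29)) :=
  Lgr Lrot144 (Lpr_dt (f178364 IH) (Lpr_gt (K49.f620566 IH) (Lpr_dt (f620571 IH) (Lpe (f620572 IH) (Lpr_df (f620860 IH) (Lpe (f2816 IH) (Lpe (K49.f2811 IH) (Lpe (K49.f1989 IH) (Lpe (K39.f399284 IH) (Lpn (LP (LK LD1_c17 LD2_c45 LD3_c29))))))))))))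
theorem f417674 : Led Lsl_bt (LP (LK LD1_c15 LD2_c42 LD3_c36)) = (LP (LK LD1_c8 LD2_c20 LD3_c46)) :=
  Lre_b IH (LK LD1_c15 LD2_c42 LD3_c36) (LK LD1_c8 LD2_c20 LD3_c46) Lrfl Lrfl
theorem f260891 : Led Lsl_bt (LP (LK LD1_c9 LD2_c34 LD3_c46)) = (LP (LK LD1_c4 LD2_c51 LD3_c21)) :=
  Lre_b IH (LK LD1_c9 LD2_c34 LD3_c46) (LK LD1_c4 LD2_c51 LD3_c21) Lrfl Lrfl
theorem f260892 : Led Lsl_ct (LP (LK LD1_c9 LD2_c34 LD3_c46)) = (LP (LK LD1_c4 LD2_c51 LD3_c26)) :=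
  Lre_c IH (LK LD1_c9 LD2_c34 LD3_c46) (LK LD1_c4 LD2_c51 LD3_c26) Lrfl Lrfl
theorem f349649 : Led Lsl_gt (LP (LK LD1_c9 LD2_c34 LD3_c56)) = (LP (LK LD1_c4 LD2_c51 LD3_c26)) :=
  Lre_g IH (LK LD1_c9 LD2_c34 LD3_c56) (LK LD1_c4 LD2_c51 LD3_c26) Lrfl Lrfl
theorem f417675 : Led Lsl_ct (LP (LK LD1_c15 LD2_c42 LD3_c36)) = (LP (LK LD1_c9 LD2_c34 LD3_c56)) :=
  Lgr Lrot64 (Lpr_bt (f417674 IH) (Lpe (K67.f182195 IH) (Lpe (K67.f182194 IH) (Lpr_ct (K17.f178501 IH) (Lpe (K15.f170696 IH) (Lpe (K15.f219261 IH) (Lpr_gf (K15.f246813 IH) (Lpe (f260891 IH) (Lpr_ct (f260892 IH) (Lpe (f349649 IH) (Lpn (LP (LK LD1_c9 LD2_c34 LD3_c56)))))))))))))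
theorem f417696 : Led Lsl_cf (LP (LK LD1_c15 LD2_c42 LD3_c36)) = (LP (LK LD1_c9 LD2_c34 LD3_c56)) :=
  Lgr Lrot11 (Lpr_ct (f417675 IH) (Lpn (LP (LK LD1_c9 LD2_c34 LD3_c56))))
theorem f417677 : Led Lsl_gt (LP (LK LD1_c25 LD2_c38 LD3_c36)) = (LP (LK LD1_c15 LD2_c42 LD3_c36)) :=
  Lre_g IH (LK LD1_c25 LD2_c38 LD3_c36) (LK LD1_c15 LD2_c42 LD3_c36) Lrfl Lrfl
theorem f233294 : Led Lsl_bt (LP (LK LD1_c8 LD2_c20 LD3_c35)) = (LP (LK LD1_c4 LD2_c10 LD3_c13)) :=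
  Lre_b IH (LK LD1_c8 LD2_c20 LD3_c35) (LK LD1_c4 LD2_c10 LD3_c13) Lrfl Lrfl
theorem f236925 : Led Lsl_bt (LP (LK LD1_c4 LD2_c56 LD3_c45)) = (LP (LK LD1_c9 LD2_c44 LD3_c48)) :=
  Lre_b IH (LK LD1_c4 LD2_c56 LD3_c45) (LK LD1_c9 LD2_c44 LD3_c48) Lrfl Lrfl
theorem f236944 : Led Lsl_cf (LP (LK LD1_c8 LD2_c20 LD3_c35)) = (LP (LK LD1_c9 LD2_c44 LD3_c48)) :=
  Lgr Lrot97 (Lpr_bt (f233294 IH) (Lpr_ct (K15.f219261 IH) (Lpr_bt (K15.f236940 IH) (Lpr_ct (K15.f236918 IH) (Lpr_bt (f236925 IH) (Lpn (LP (LK LD1_c9 LD2_c44 LD3_c48))))))))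
theorem f236961 : Led Lsl_ct (LP (LK LD1_c8 LD2_c20 LD3_c35)) = (LP (LK LD1_c9 LD2_c44 LD3_c48)) :=
  Lgr Lrot59 (Lpr_cf (f236944 IH) (Lpn (LP (LK LD1_c9 LD2_c44 LD3_c48))))
theorem f236928 : Led Lsl_gt (LP (LK LD1_c9 LD2_c44 LD3_c48)) = (LP (LK LD1_c17 LD2_c53 LD3_c56)) :=
  Lre_g IH (LK LD1_c9 LD2_c44 LD3_c48) (LK LD1_c17 LD2_c53 LD3_c56) Lrfl Lrfl
theorem f236982 : Led Lsl_ct (LP (LK LD1_c27 LD2_c39 LD3_c25)) = (LP (LK LD1_c17 LD2_c53 LD3_c56)) :=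
  Lre_c IH (LK LD1_c27 LD2_c39 LD3_c25) (LK LD1_c17 LD2_c53 LD3_c56) Lrfl Lrfl
theorem f417678 : Led Lsl_bt (LP (LK LD1_c27 LD2_c39 LD3_c25)) = (LP (LK LD1_c25 LD2_c38 LD3_c36)) :=
  Lgr Lrot130 (Lpr_ct (f236982 IH) (Lpe (f236928 IH) (Lpe (f236961 IH) (Lpr_bt (f233294 IH) (Lpr_gf (K15.f246813 IH) (Lpe (f260891 IH) (Lpr_ct (f260892 IH) (Lpe (f349649 IH) (Lpe (f417675 IH) (Lpe (f417677 IH) (Lpn (LP (LK LD1_c25 LD2_c38 LD3_c36)))))))))))))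
theorem f236929 : Led Lsl_ct (LP (LK LD1_c17 LD2_c53 LD3_c56)) = (LP (LK LD1_c27 LD2_c39 LD3_c25)) :=
  Lre_c IH (LK LD1_c17 LD2_c53 LD3_c56) (LK LD1_c27 LD2_c39 LD3_c25) Lrfl Lrfl
theorem f236938 : Led Lsl_bt (LP (LK LD1_c27 LD2_c25 LD3_c35)) = (LP (LK LD1_c17 LD2_c53 LD3_c56)) :=
  Lgr Lrot92 (Lpr_ct (f199287 IH) (Lpr_gt (f199286 IH) (Lpe (K52.f199276 IH) (Lpr_bt (K52.f197710 IH) (Lpe (K12.f197445 IH) (Lpr_ct (K12.f42882 IH) (Lpr_gt (K15.f236936 IH) (Lpr_cf (K13.f236894 IH) (Lpr_bt (f236925 IH) (Lpr_gt (f236928 IH) (Lpn (LP (LK LD1_c17 LD2_c53 LD3_c56)))))))))))))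
theorem f199290 : Led Lsl_bt (LP (LK LD1_c27 LD2_c25 LD3_c34)) = (LP (LK LD1_c17 LD2_c37 LD3_c22)) :=
  Lre_b IH (LK LD1_c27 LD2_c25 LD3_c34) (LK LD1_c17 LD2_c37 LD3_c22) Lrfl Lrfl
theorem f417682 : Led Lsl_cf (LP (LK LD1_c27 LD2_c25 LD3_c34)) = (LP (LK LD1_c25 LD2_c38 LD3_c36)) :=
  Lgr Lrot97 (Lpr_bt (f199290 IH) (Lpr_ct (f236987 IH) (Lpr_bt (f236938 IH) (Lpr_ct (f236929 IH) (Lpr_bt (f417678 IH) (Lpn (LP (LK LD1_c25 LD2_c38 LD3_c36))))))))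
theorem f417685 : Led Lsl_ct (LP (LK LD1_c27 LD2_c25 LD3_c34)) = (LP (LK LD1_c25 LD2_c38 LD3_c36)) :=
  Lgr Lrot59 (Lpr_cf (f417682 IH) (Lpn (LP (LK LD1_c25 LD2_c38 LD3_c36))))
theorem f417695 : Led Lsl_bt (LP (LK LD1_c9 LD2_c34 LD3_c56)) = (LP (LK LD1_c17 LD2_c38 LD3_c37)) :=
  Lre_b IH (LK LD1_c9 LD2_c34 LD3_c56) (LK LD1_c17 LD2_c38 LD3_c37) Lrfl Lrfl
theorem f417698 : Led Lsl_gf (LP (LK LD1_c9 LD2_c39 LD3_c11)) = (LP (LK LD1_c17 LD2_c38 LD3_c37)) :=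
  Lgr Lrot181 (Lpr_ct (K27.f2853 IH) (Lpe (K49.f396012 IH) (Lpe (K39.f357105 IH) (Lpe (K38.f357103 IH) (Lpe (f357183 IH) (Lpe (f199290 IH) (Lpr_ct (f417685 IH) (Lpr_gt (f417677 IH) (Lpr_cf (f417696 IH) (Lpr_bt (f417695 IH) (Lpn (LP (LK LD1_c17 LD2_c38 LD3_c37)))))))))))))
theorem f884765 : Led Lsl_ct (LP (LK LD1_c17 LD2_c38 LD3_c37)) = v36289 :=
  Lgr Lrot8 (Lpe (f417698 IH) (Lpr_dt (K39.f263799 IH) (Lpe (f620872 IH) (Lpr_dt (f178364 IH) (Lpe (f167040 IH) (Lpe (f718584 IH) (Lpe (K53.f692300 IH) (Lpe (f170967 IH) (Lpr_gf (f884764 IH) (Lpn v36289))))))))))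
theorem f349652 : Led Lsl_bt (LP (LK LD1_c17 LD2_c38 LD3_c37)) = (LP (LK LD1_c9 LD2_c34 LD3_c56)) :=
  Lre_b IH (LK LD1_c17 LD2_c38 LD3_c37) (LK LD1_c9 LD2_c34 LD3_c56) Lrfl Lrfl
theorem f29187 : Led Lsl_bt (LP (LK LD1_c2 LD2_c23 LD3_c34)) = (LP (LK LD1_c4 LD2_c51 LD3_c26)) :=
  Lre_b IH (LK LD1_c2 LD2_c23 LD3_c34) (LK LD1_c4 LD2_c51 LD3_c26) Lrfl Lrfl
theorem f885401 : Led Lsl_ct K67.v36146 = v36402 :=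
  Lgr Lrot91 (Lpe (K67.f882440 IH) (Lpe (K38.f357107 IH) (Lpr_ct (K13.f200382 IH) (Lpe (K15.f238037 IH) (Lpe (K15.f232202 IH) (Lpr_bt (f29187 IH) (Lpe (f349649 IH) (Lpe (f349652 IH) (Lpr_ct (f884765 IH) (Lpr_gf (f885397 IH) (Lpn v36402)))))))))))
theorem f882444 : Led Lsl_bf (LP (LK LD1_c19 LD2_c17 LD3_c0)) = K67.v36146 :=
  Lgr Lrot24 (Lpr_bt (K67.f882443 IH) (Lpn K67.v36146))
theorem f620735 : Led Lsl_ct (LP (LK LD1_c25 LD2_c34 LD3_c30)) = (LP (LK LD1_c17 LD2_c42 LD3_c47)) :=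
  Lgr Lrot40 (Lpr_ff (K50.f620610 IH) (Lpr_cf (K52.f620733 IH) (Lpr_ff (K49.f620537 IH) (Lpn (LP (LK LD1_c17 LD2_c42 LD3_c47))))))
theorem f397185 : Led Lsl_dt (LP (LK LD1_c15 LD2_c40 LD3_c22)) = (LP (LK LD1_c25 LD2_c35 LD3_c52)) :=
  Lre_d IH (LK LD1_c15 LD2_c40 LD3_c22) (LK LD1_c25 LD2_c35 LD3_c52) Lrfl Lrfl
theorem f374792 : Led Lsl_ct (LP (LK LD1_c25 LD2_c58 LD3_c44)) = (LP (LK LD1_c16 LD2_c1 LD3_c17)) :=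
  Lre_c IH (LK LD1_c25 LD2_c58 LD3_c44) (LK LD1_c16 LD2_c1 LD3_c17) Lrfl Lrfl
theorem f620898 : Led Lsl_gt (LP (LK LD1_c25 LD2_c35 LD3_c52)) = (LP (LK LD1_c25 LD2_c58 LD3_c44)) :=
  Lgr Lrot9 (Lpe (f397185 IH) (Lpe (K52.f620640 IH) (Lpr_ct (f620735 IH) (Lpr_gt (K50.f620659 IH) (Lpr_ct (K50.f167276 IH) (Lpe (K38.f399265 IH) (Lpr_cf (K31.f399253 IH) (Lpe (K38.f399269 IH) (Lpe (f374792 IH) (Lpn (LP (LK LD1_c25 LD2_c58 LD3_c44))))))))))))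
theorem f620900 : Led Lsl_gf (LP (LK LD1_c25 LD2_c35 LD3_c52)) = (LP (LK LD1_c15 LD2_c40 LD3_c34)) :=
  Lgr Lrot47 (Lpr_gt (f620898 IH) (Lpr_af (K67.f551145 IH) (Lpe (K67.f551149 IH) (Lpn (LP (LK LD1_c15 LD2_c40 LD3_c34))))))
theorem f400470 : Led Lsl_dt (LP (LK LD1_c25 LD2_c35 LD3_c52)) = (LP (LK LD1_c15 LD2_c40 LD3_c22)) :=
  Lre_d IH (LK LD1_c25 LD2_c35 LD3_c52) (LK LD1_c15 LD2_c40 LD3_c22) Lrfl Lrfl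
theorem f236074 : Led Lsl_ct (LP (LK LD1_c17 LD2_c38 LD3_c29)) = (LP (LK LD1_c27 LD2_c26 LD3_c36)) :=
  Lre_c IH (LK LD1_c17 LD2_c38 LD3_c29) (LK LD1_c27 LD2_c26 LD3_c36) Lrfl Lrfl
theorem f620902 : Led Lsl_gt (LP (LK LD1_c27 LD2_c26 LD3_c36)) = (LP (LK LD1_c25 LD2_c29 LD3_c18)) :=
  Lgr Lrot94 (Lpe (f236074 IH) (Lpr_gt (K49.f236068 IH) (Lpe (K38.f233203 IH) (Lpr_gt (K38.f400450 IH) (Lpr_dt (K38.f373011 IH) (Lpe (K49.f400466 IH) (Lpe (f400470 IH) (Lpr_gf (f620900 IH) (Lpe (K49.f398306 IH) (Lpn (LP (LK LD1_c25 LD2_c29 LD3_c18))))))))))))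
theorem f236076 : Led Lsl_bt (LP (LK LD1_c17 LD2_c38 LD3_c29)) = (LP (LK LD1_c27 LD2_c26 LD3_c35)) :=
  Lre_b IH (LK LD1_c17 LD2_c38 LD3_c29) (LK LD1_c27 LD2_c26 LD3_c35) Lrfl Lrfl
theorem f885404 : Led Lsl_gt (LP (LK LD1_c19 LD2_c17 LD3_c0)) = (LP (LK LD1_c27 LD2_c26 LD3_c35)) :=
  Lgr Lrot164 (Lpr_bf (f882444 IH) (Lpr_ct (f885401 IH) (Lpe (f885395 IH) (Lpe (K49.f263821 IH) (Lpe (K49.f263802 IH) (Lpe (K52.f263811 IH) (Lpr_ct (K49.f263817 IH) (Lpe (f620902 IH) (Lpe (f236074 IH) (Lpr_bt (f236076 IH) (Lpn (LP (LK LD1_c27 LD2_c26 LD3_c35)))))))))))))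
theorem f885405 : Led Lsl_gt (LP (LK LD1_c19 LD2_c17 LD3_c0)) = (LP (LK LD1_c27 LD2_c26 LD3_c35)) :=
  Leop (Lpe (f885404 IH) (Lpn (LP (LK LD1_c19 LD2_c17 LD3_c0))))
theorem seed_2101 : LEOK LG_g (LK LD1_c19 LD2_c17 LD3_c0) :=
  Leoe_g (LK LD1_c19 LD2_c17 LD3_c0) (f885405 IH)
def v36411 : LQ := Led Lsl_at (LP (LK LD1_c8 LD2_c25 LD3_c7))
theorem f885452 : Led Lsl_at (LP (LK LD1_c8 LD2_c25 LD3_c7)) = v36411 :=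
  Lrfl
theorem f53754 : Led Lsl_gt (LP (LK LD1_c8 LD2_c12 LD3_c61)) = (LP (LK LD1_c15 LD2_c27 LD3_c22)) :=
  Lre_g IH (LK LD1_c8 LD2_c12 LD3_c61) (LK LD1_c15 LD2_c27 LD3_c22) Lrfl Lrfl
theorem f885458 : Led Lsl_gt (LP (LK LD1_c15 LD2_c27 LD3_c22)) = v36411 :=
  Lgr Lrot46 (Lpe (f53754 IH) (Lpe (K12.f222881 IH) (Lpr_at (f885452 IH) (Lpn v36411))))
theorem f234547 : Led Lsl_at (LP (LK LD1_c15 LD2_c37 LD3_c50)) = (LP (LK LD1_c8 LD2_c18 LD3_c37)) :=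
  Lre_a IH (LK LD1_c15 LD2_c37 LD3_c50) (LK LD1_c8 LD2_c18 LD3_c37) Lrfl Lrfl
theorem f885455 : Led Lsl_cf (LP (LK LD1_c15 LD2_c37 LD3_c50)) = v36411 :=
  Lgr Lrot1 (Lpr_at (f234547 IH) (Lpr_ct (K12.f222890 IH) (Lpr_at (f885452 IH) (Lpn v36411))))
theorem f222827 : Led Lsl_at (LP (LK LD1_c8 LD2_c18 LD3_c37)) = (LP (LK LD1_c15 LD2_c37 LD3_c50)) :=
  Lre_a IH (LK LD1_c8 LD2_c18 LD3_c37) (LK LD1_c15 LD2_c37 LD3_c50) Lrfl Lrfl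
theorem f222894 : Led Lsl_ft (LP (LK LD1_c15 LD2_c37 LD3_c50)) = (LP (LK LD1_c18 LD2_c52 LD3_c17)) :=
  Lgr Lrot101 (Lpe (f222827 IH) (Lpr_ff (K12.f222891 IH) (Lpe (K30.f53752 IH) (Lpn (LP (LK LD1_c18 LD2_c52 LD3_c17))))))
theorem f53759 : Led Lsl_gt (LP (LK LD1_c18 LD2_c52 LD3_c16)) = (LP (LK LD1_c10 LD2_c24 LD3_c0)) :=
  Lre_g IH (LK LD1_c18 LD2_c52 LD3_c16) (LK LD1_c10 LD2_c24 LD3_c0) Lrfl Lrfl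
theorem f418816 : Led Lsl_gt (LP (LK LD1_c15 LD2_c37 LD3_c50)) = (LP (LK LD1_c18 LD2_c52 LD3_c16)) :=
  Lgr Lrot5 (Lpr_ft (f222894 IH) (Lpr_at (K30.f53752 IH) (Lpe (f53759 IH) (Lpn (LP (LK LD1_c18 LD2_c52 LD3_c16))))))
theorem f381610 : Led Lsl_bt (LP (LK LD1_c20 LD2_c13 LD3_c7)) = (LP (LK LD1_c11 LD2_c17 LD3_c6)) :=
  Lre_b IH (LK LD1_c20 LD2_c13 LD3_c7) (LK LD1_c11 LD2_c17 LD3_c6) Lrfl Lrfl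
theorem f53758 : Led Lsl_bt (LP (LK LD1_c8 LD2_c12 LD3_c61)) = (LP (LK LD1_c4 LD2_c6 LD3_c11)) :=
  Lre_b IH (LK LD1_c8 LD2_c12 LD3_c61) (LK LD1_c4 LD2_c6 LD3_c11) Lrfl Lrfl
theorem f387435 : Led Lsl_ct (LP (LK LD1_c20 LD2_c13 LD3_c7)) = (LP (LK LD1_c18 LD2_c52 LD3_c16)) :=
  Lgr Lrot64 (Lpr_bt (f381610 IH) (Lpe (K27.f381509 IH) (Lpr_bf (K67.f381500 IH) (Lpr_ct (K16.f270657 IH) (Lpe (K16.f270720 IH) (Lpe (K16.f232889 IH) (Lpr_gf (K16.f270757 IH) (Lpe (f53758 IH) (Lpe (K12.f53742 IH) (Lpe (f53759 IH) (Lpn (LP (LK LD1_c18 LD2_c52 LD3_c16)))))))))))))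
theorem f387437 : Led Lsl_cf (LP (LK LD1_c20 LD2_c13 LD3_c7)) = (LP (LK LD1_c18 LD2_c52 LD3_c16)) :=
  Lgr Lrot11 (Lpr_ct (f387435 IH) (Lpn (LP (LK LD1_c18 LD2_c52 LD3_c16))))
theorem f381632 : Led Lsl_bt (LP (LK LD1_c5 LD2_c44 LD3_c13)) = (LP (LK LD1_c11 LD2_c18 LD3_c30)) :=
  Lre_b IH (LK LD1_c5 LD2_c44 LD3_c13) (LK LD1_c11 LD2_c18 LD3_c30) Lrfl Lrfl
theorem f381633 : Led Lsl_df (LP (LK LD1_c20 LD2_c13 LD3_c7)) = (LP (LK LD1_c11 LD2_c18 LD3_c30)) :=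
  Lgr Lrot12 (Lpr_bt (f381610 IH) (Lpr_dt (K27.f381622 IH) (Lpr_bt (f381632 IH) (Lpn (LP (LK LD1_c11 LD2_c18 LD3_c30))))))
theorem f424411 : Led Lsl_bt (LP (LK LD1_c5 LD2_c40 LD3_c6)) = (LP (LK LD1_c11 LD2_c10 LD3_c60)) :=
  Lre_b IH (LK LD1_c5 LD2_c40 LD3_c6) (LK LD1_c11 LD2_c10 LD3_c60) Lrfl Lrfl
theorem f424412 : Led Lsl_ct (LP (LK LD1_c11 LD2_c11 LD3_c0)) = (LP (LK LD1_c5 LD2_c40 LD3_c6)) :=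
  Lre_c IH (LK LD1_c11 LD2_c11 LD3_c0) (LK LD1_c5 LD2_c40 LD3_c6) Lrfl Lrfl
theorem f424413 : Led Lsl_bt (LP (LK LD1_c20 LD2_c5 LD3_c45)) = (LP (LK LD1_c11 LD2_c11 LD3_c0)) :=
  Lre_b IH (LK LD1_c20 LD2_c5 LD3_c45) (LK LD1_c11 LD2_c11 LD3_c0) Lrfl Lrfl
theorem f424410 : Led Lsl_bt (LP (LK LD1_c11 LD2_c18 LD3_c31)) = (LP (LK LD1_c20 LD2_c14 LD3_c61)) :=
  Lre_b IH (LK LD1_c11 LD2_c18 LD3_c31) (LK LD1_c20 LD2_c14 LD3_c61) Lrfl Lrfl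
theorem f424414 : Led Lsl_cf (LP (LK LD1_c20 LD2_c5 LD3_c45)) = (LP (LK LD1_c20 LD2_c14 LD3_c61)) :=
  Lgr Lrot97 (Lpr_bt (f424413 IH) (Lpr_ct (f424412 IH) (Lpr_bt (f424411 IH) (Lpr_ct (K39.f424406 IH) (Lpr_bt (f424410 IH) (Lpn (LP (LK LD1_c20 LD2_c14 LD3_c61))))))))
theorem f424418 : Led Lsl_et (LP (LK LD1_c20 LD2_c5 LD3_c45)) = (LP (LK LD1_c11 LD2_c10 LD3_c61)) :=
  Lre_e IH (LK LD1_c20 LD2_c5 LD3_c45) (LK LD1_c11 LD2_c10 LD3_c61) Lrfl Lrfl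
theorem f381638 : Led Lsl_et (LP (LK LD1_c11 LD2_c18 LD3_c30)) = (LP (LK LD1_c20 LD2_c14 LD3_c61)) :=
  Lre_e IH (LK LD1_c11 LD2_c18 LD3_c30) (LK LD1_c20 LD2_c14 LD3_c61) Lrfl Lrfl
theorem f424419 : Led Lsl_ct (LP (LK LD1_c11 LD2_c10 LD3_c61)) = (LP (LK LD1_c11 LD2_c18 LD3_c30)) :=
  Lgr Lrot15 (Lpe (f424418 IH) (Lpr_cf (f424414 IH) (Lpe (f381638 IH) (Lpn (LP (LK LD1_c11 LD2_c18 LD3_c30))))))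
theorem f354491 : Led Lsl_gt (LP (LK LD1_c20 LD2_c5 LD3_c43)) = (LP (LK LD1_c11 LD2_c10 LD3_c61)) :=
  Lre_g IH (LK LD1_c20 LD2_c5 LD3_c43) (LK LD1_c11 LD2_c10 LD3_c61) Lrfl Lrfl
theorem f424391 : Led Lsl_bt (LP (LK LD1_c2 LD2_c45 LD3_c60)) = (LP (LK LD1_c5 LD2_c40 LD3_c4)) :=
  Lre_b IH (LK LD1_c2 LD2_c45 LD3_c60) (LK LD1_c5 LD2_c40 LD3_c4) Lrfl Lrfl
theorem f424392 : Led Lsl_bt (LP (LK LD1_c11 LD2_c10 LD3_c61)) = (LP (LK LD1_c5 LD2_c40 LD3_c5)) :=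
  Lre_b IH (LK LD1_c11 LD2_c10 LD3_c61) (LK LD1_c5 LD2_c40 LD3_c5) Lrfl Lrfl
theorem f424393 : Led Lsl_cf (LP (LK LD1_c11 LD2_c10 LD3_c61)) = (LP (LK LD1_c11 LD2_c18 LD3_c30)) :=
  Lgr Lrot97 (Lpr_bt (f424392 IH) (Lpr_ct (K40.f354489 IH) (Lpr_bt (f424391 IH) (Lpr_ct (K35.f424389 IH) (Lpr_bt (f381632 IH) (Lpn (LP (LK LD1_c11 LD2_c18 LD3_c30))))))))
theorem f381619 : Led Lsl_bt (LP (LK LD1_c11 LD2_c18 LD3_c30)) = (LP (LK LD1_c5 LD2_c44 LD3_c13)) :=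
  Lre_b IH (LK LD1_c11 LD2_c18 LD3_c30) (LK LD1_c5 LD2_c44 LD3_c13) Lrfl Lrfl
theorem f226591 : Led Lsl_bt (LP (LK LD1_c11 LD2_c19 LD3_c17)) = (LP (LK LD1_c5 LD2_c44 LD3_c37)) :=
  Lre_b IH (LK LD1_c11 LD2_c19 LD3_c17) (LK LD1_c5 LD2_c44 LD3_c37) Lrfl Lrfl
theorem f424427 : Led Lsl_cf (LP (LK LD1_c20 LD2_c5 LD3_c43)) = (LP (LK LD1_c11 LD2_c19 LD3_c17)) :=
  Lgr Lrot160 (Lpr_gt (f354491 IH) (Lpr_cf (f424393 IH) (Lpr_bt (f381619 IH) (Lpr_gt (K27.f383804 IH) (Lpr_ct (K27.f381534 IH) (Lpr_gt (K27.f75974 IH) (Lpe (K27.f172560 IH) (Lpr_bt (K27.f381972 IH) (Lpr_gt (K27.f175123 IH) (Lpe (f226591 IH) (Lpn (LP (LK LD1_c11 LD2_c19 LD3_c17)))))))))))))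
theorem f383167 : Led Lsl_gt (LP (LK LD1_c20 LD2_c15 LD3_c58)) = (LP (LK LD1_c11 LD2_c19 LD3_c17)) :=
  Lre_g IH (LK LD1_c20 LD2_c15 LD3_c58) (LK LD1_c11 LD2_c19 LD3_c17) Lrfl Lrfl
theorem f885460 : Led Lsl_dt (LP (LK LD1_c15 LD2_c27 LD3_c22)) = (LP (LK LD1_c20 LD2_c15 LD3_c58)) :=
  Lgr Lrot6 (Lpr_gt (f885458 IH) (Lpe (f885455 IH) (Lpr_gt (f418816 IH) (Lpe (f387437 IH) (Lpr_df (f381633 IH) (Lpe (f424419 IH) (Lpe (f354491 IH) (Lpr_cf (f424427 IH) (Lpe (f383167 IH) (Lpn (LP (LK LD1_c20 LD2_c15 LD3_c58))))))))))))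
theorem f885461 : Led Lsl_dt (LP (LK LD1_c15 LD2_c27 LD3_c22)) = (LP (LK LD1_c20 LD2_c15 LD3_c58)) :=
  Leop (Lpe (f885460 IH) (Lpn (LP (LK LD1_c15 LD2_c27 LD3_c22))))
theorem seed_2102 : LEOK LG_d (LK LD1_c15 LD2_c27 LD3_c22) :=
  Leoe_d (LK LD1_c15 LD2_c27 LD3_c22) (f885461 IH)
def v36447 : LQ := Led Lsl_gt (LP (LK LD1_c8 LD2_c25 LD3_c43))
theorem f885615 : Led Lsl_gt (LP (LK LD1_c8 LD2_c25 LD3_c43)) = v36447 :=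
  Lrfl
def v23722 : LQ := Led Lsl_bt K50.v4136
theorem f819823 : Led Lsl_bt K50.v4136 = v23722 :=
  Lrfl
theorem f819825 : Led Lsl_df (LP (LK LD1_c8 LD2_c25 LD3_c1)) = v23722 :=
  Lgr Lrot12 (Lpr_bt (K49.f263800 IH) (Lpr_dt (K50.f692495 IH) (Lpqs (K50.f694836 IH) (Lpr_bt (f819823 IH) (Lpn v23722)))))
theorem f819828 : Led Lsl_dt (LP (LK LD1_c8 LD2_c25 LD3_c1)) = v23722 :=
  Lgr Lrot42 (Lpr_df (f819825 IH) (Lpn v23722))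
theorem f178319 : Led Lsl_bt (LP (LK LD1_c8 LD2_c25 LD3_c43)) = (LP (LK LD1_c4 LD2_c13 LD3_c17)) :=
  Lre_b IH (LK LD1_c8 LD2_c25 LD3_c43) (LK LD1_c4 LD2_c13 LD3_c17) Lrfl Lrfl
theorem f819826 : Led Lsl_ff (LP (LK LD1_c8 LD2_c25 LD3_c43)) = v23722 :=
  Lgr Lrot25 (Lpr_bt (f178319 IH) (Lpqs (K64.f694846 IH) (Lpe (K64.f694820 IH) (Lpr_bt (f819823 IH) (Lpn v23722)))))
theorem f820171 : Led Lsl_dt (LP (LK LD1_c8 LD2_c25 LD3_c43)) = v23735 :=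
  Lgr Lrot60 (Lpr_ff (f819826 IH) (Lpe (f819828 IH) (Lpr_ff (f820170 IH) (Lpn v23735))))
theorem f884528 : Led Lsl_df (LP (LK LD1_c8 LD2_c23 LD3_c12)) = v36286 :=
  Lgr Lrot38 (Lpr_dt (f884526 IH) (Lpn v36286))
theorem f885321 : Led Lsl_gt v23735 = v36286 :=
  Lgr Lrot49 (Lpe (f820171 IH) (Lpr_gf (f885320 IH) (Lpe (f882408 IH) (Lpr_gt (K52.f178422 IH) (Lpr_dt (K38.f178414 IH) (Lpe (K39.f550892 IH) (Lpr_dt (K39.f2824 IH) (Lpr_cf (K67.f718452 IH) (Lpq (K67.f883007 IH) (Lpr_df (f884528 IH) (Lpn v36286)))))))))))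
theorem f884530 : Led Lsl_cf (LP (LK LD1_c15 LD2_c48 LD3_c53)) = v36286 :=
  Lgr Lrot14 (Lpe (f263848 IH) (Lpe (f1764 IH) (Lpe (K35.f2036 IH) (Lpe (K30.f170114 IH) (Lpr_ct (K50.f52132 IH) (Lpe (K50.f398146 IH) (Lpr_dt (f422690 IH) (Lpr_gt (K67.f718453 IH) (Lpq (K67.f883007 IH) (Lpr_dt (f884526 IH) (Lpn v36286)))))))))))
theorem f692454 : Led Lsl_af (LP (LK LD1_c4 LD2_c12 LD3_c44)) = K49.v12495 :=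
  Lgr Lrot0 (Lpr_at (K49.f692453 IH) (Lpn K49.v12495))
theorem f885302 : Led Lsl_cf K49.v12495 = v36392 :=
  Lgr Lrot1 (Lpe (f692454 IH) (Lpr_ct (K22.f170169 IH) (Lpr_at (f885299 IH) (Lpn v36392))))
theorem f885305 : Led Lsl_gt (LP (LK LD1_c11 LD2_c9 LD3_c43)) = v36392 :=
  Lgr Lrot46 (Lpe (f179108 IH) (Lpe (K22.f337248 IH) (Lpr_at (f885299 IH) (Lpn v36392))))
theorem f885618 : Led Lsl_cf (LP (LK LD1_c11 LD2_c9 LD3_c43)) = v36447 :=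
  Lgr Lrot169 (Lpr_gt (f885305 IH) (Lpe (f885302 IH) (Lpe (K49.f692461 IH) (Lpe (K39.f357105 IH) (Lpr_gf (K39.f396016 IH) (Lpr_cf (f884530 IH) (Lpe (f885321 IH) (Lpe (f820171 IH) (Lpr_gt (f885615 IH) (Lpn v36447))))))))))
theorem f885619 : Led Lsl_ct (LP (LK LD1_c11 LD2_c9 LD3_c43)) = v36447 :=
  Lgr Lrot59 (Lpr_cf (f885618 IH) (Lpn v36447))
theorem f236973 : Led Lsl_bt (LP (LK LD1_c11 LD2_c9 LD3_c43)) = (LP (LK LD1_c20 LD2_c4 LD3_c11)) :=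
  Lre_b IH (LK LD1_c11 LD2_c9 LD3_c43) (LK LD1_c20 LD2_c4 LD3_c11) Lrfl Lrfl
theorem f263702 : Led Lsl_ct (LP (LK LD1_c29 LD2_c0 LD3_c14)) = (LP (LK LD1_c19 LD2_c38 LD3_c50)) :=
  Lre_c IH (LK LD1_c29 LD2_c0 LD3_c14) (LK LD1_c19 LD2_c38 LD3_c50) Lrfl Lrfl
theorem f263695 : Led Lsl_ct (LP (LK LD1_c8 LD2_c40 LD3_c39)) = (LP (LK LD1_c16 LD2_c15 LD3_c5)) :=
  Lre_c IH (LK LD1_c8 LD2_c40 LD3_c39) (LK LD1_c16 LD2_c15 LD3_c5) Lrfl Lrfl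
theorem f243233 : Led Lsl_bt (LP (LK LD1_c16 LD2_c15 LD3_c4)) = (LP (LK LD1_c8 LD2_c40 LD3_c39)) :=
  Lre_b IH (LK LD1_c16 LD2_c15 LD3_c4) (LK LD1_c8 LD2_c40 LD3_c39) Lrfl Lrfl
theorem f263696 : Led Lsl_ct (LP (LK LD1_c26 LD2_c12 LD3_c36)) = (LP (LK LD1_c16 LD2_c15 LD3_c4)) :=
  Lre_c IH (LK LD1_c26 LD2_c12 LD3_c36) (LK LD1_c16 LD2_c15 LD3_c4) Lrfl Lrfl
theorem f219110 : Led Lsl_ct (LP (LK LD1_c19 LD2_c38 LD3_c50)) = (LP (LK LD1_c29 LD2_c0 LD3_c14)) :=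
  Lre_c IH (LK LD1_c19 LD2_c38 LD3_c50) (LK LD1_c29 LD2_c0 LD3_c14) Lrfl Lrfl
theorem f263697 : Led Lsl_bf (LP (LK LD1_c26 LD2_c12 LD3_c36)) = (LP (LK LD1_c29 LD2_c0 LD3_c14)) :=
  Lgr Lrot90 (Lpr_ct (f263696 IH) (Lpr_bt (f243233 IH) (Lpr_ct (f263695 IH) (Lpr_bt (K54.f263691 IH) (Lpr_ct (f219110 IH) (Lpn (LP (LK LD1_c29 LD2_c0 LD3_c14))))))))
theorem f399603 : Led Lsl_gf (LP (LK LD1_c25 LD2_c38 LD3_c19)) = (LP (LK LD1_c26 LD2_c12 LD3_c36)) :=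
  Lgr Lrot124 (Lpe (f311755 IH) (Lpr_ct (K54.f399567 IH) (Lpe (K54.f399591 IH) (Lpe (K54.f179158 IH) (Lpr_bt (K54.f399596 IH) (Lpr_gt (K54.f311748 IH) (Lpr_ct (K26.f311768 IH) (Lpr_gt (K54.f219109 IH) (Lpe (f263702 IH) (Lpe (f263697 IH) (Lpn (LP (LK LD1_c26 LD2_c12 LD3_c36)))))))))))))
theorem f311756 : Led Lsl_cf (LP (LK LD1_c25 LD2_c38 LD3_c19)) = (LP (LK LD1_c16 LD2_c8 LD3_c31)) :=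
  Lgr Lrot11 (Lpr_ct (f311745 IH) (Lpn (LP (LK LD1_c16 LD2_c8 LD3_c31))))
theorem f243234 : Led Lsl_ct (LP (LK LD1_c16 LD2_c15 LD3_c4)) = (LP (LK LD1_c26 LD2_c12 LD3_c36)) :=
  Lre_c IH (LK LD1_c16 LD2_c15 LD3_c4) (LK LD1_c26 LD2_c12 LD3_c36) Lrfl Lrfl
theorem f310055 : Led Lsl_ct (LP (LK LD1_c25 LD2_c45 LD3_c58)) = (LP (LK LD1_c15 LD2_c49 LD3_c57)) :=
  Lre_c IH (LK LD1_c25 LD2_c45 LD3_c58) (LK LD1_c15 LD2_c49 LD3_c57) Lrfl Lrfl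
theorem f399605 : Led Lsl_gt (LP (LK LD1_c26 LD2_c5 LD3_c17)) = (LP (LK LD1_c25 LD2_c45 LD3_c58)) :=
  Lgr Lrot82 (Lpe (f238599 IH) (Lpe (f311756 IH) (Lpr_gf (f399603 IH) (Lpe (f243234 IH) (Lpr_bt (f243233 IH) (Lpr_gf (K54.f373989 IH) (Lpe (K15.f262610 IH) (Lpr_ct (K54.f262729 IH) (Lpr_gf (f372422 IH) (Lpe (f310055 IH) (Lpn (LP (LK LD1_c25 LD2_c45 LD3_c58)))))))))))))
theorem f885622 : Led Lsl_gt (LP (LK LD1_c20 LD2_c4 LD3_c11)) = (LP (LK LD1_c16 LD2_c15 LD3_c4)) :=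
  Lgr Lrot82 (Lpe (f236973 IH) (Lpr_ct (f885619 IH) (Lpe (f885615 IH) (Lpe (f178375 IH) (Lpr_bt (f399607 IH) (Lpe (f399605 IH) (Lpe (f238599 IH) (Lpe (f311756 IH) (Lpr_gf (f399603 IH) (Lpe (f243234 IH) (Lpn (LP (LK LD1_c16 LD2_c15 LD3_c4)))))))))))))
theorem f885623 : Led Lsl_gt (LP (LK LD1_c20 LD2_c4 LD3_c11)) = (LP (LK LD1_c16 LD2_c15 LD3_c4)) :=
  Leop (Lpe (f885622 IH) (Lpn (LP (LK LD1_c20 LD2_c4 LD3_c11))))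
theorem seed_2103 : LEOK LG_g (LK LD1_c20 LD2_c4 LD3_c11) :=
  Leoe_g (LK LD1_c20 LD2_c4 LD3_c11) (f885623 IH)
def v36473 : LQ := Led Lsl_ft (LP (LK LD1_c8 LD2_c27 LD3_c15))
theorem f885766 : Led Lsl_ft (LP (LK LD1_c8 LD2_c27 LD3_c15)) = v36473 :=
  Lrfl
theorem f885769 : Led Lsl_ff (LP (LK LD1_c8 LD2_c27 LD3_c15)) = v36473 :=
  Lgr Lrot3 (Lpr_ft (f885766 IH) (Lpn v36473))
def v35862 : LQ := Led Lsl_at (LP (LK LD1_c8 LD2_c11 LD3_c51))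
theorem f878883 : Led Lsl_at (LP (LK LD1_c8 LD2_c11 LD3_c51)) = v35862 :=
  Lrfl
theorem f878884 : Led Lsl_af (LP (LK LD1_c8 LD2_c11 LD3_c51)) = v35862 :=
  Lgr Lrot0 (Lpr_at (f878883 IH) (Lpn v35862))
theorem f878885 : Led Lsl_ft (LP (LK LD1_c8 LD2_c11 LD3_c52)) = v35862 :=
  Lgr Lrot2 (Lpr_gt (K17.f47980 IH) (Lpr_gt (K21.f173585 IH) (Lpr_af (f878884 IH) (Lpn v35862))))
theorem f885771 : Led Lsl_bt v35862 = v36473 :=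
  Lgr Lrot35 (Lpe (f878885 IH) (Lpe (K21.f323593 IH) (Lpr_ff (f885769 IH) (Lpn v36473))))
def v36472 : LQ := Led Lsl_at (LP (LK LD1_c8 LD2_c27 LD3_c15))
theorem f885762 : Led Lsl_at (LP (LK LD1_c8 LD2_c27 LD3_c15)) = v36472 :=
  Lrfl
theorem f885763 : Led Lsl_af (LP (LK LD1_c8 LD2_c27 LD3_c15)) = v36472 :=
  Lgr Lrot0 (Lpr_at (f885762 IH) (Lpn v36472))
theorem f885764 : Led Lsl_ft (LP (LK LD1_c8 LD2_c27 LD3_c16)) = v36472 :=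
  Lgr Lrot2 (Lpr_gt (K21.f27441 IH) (Lpr_gt (K21.f27442 IH) (Lpr_af (f885763 IH) (Lpn v36472))))
theorem f885767 : Led Lsl_af (LP (LK LD1_c8 LD2_c27 LD3_c16)) = v36473 :=
  Lgr Lrot45 (Lpr_ft (f885764 IH) (Lpe (f885763 IH) (Lpr_ft (f885766 IH) (Lpn v36473))))
theorem f885772 : Led Lsl_af (LP (LK LD1_c15 LD2_c25 LD3_c57)) = (LP (LK LD1_c15 LD2_c47 LD3_c35)) :=
  Lgr Lrot36 (Lpr_bt (K26.f312587 IH) (Lpr_at (f878883 IH) (Lpr_bt (f885771 IH) (Lpe (f885767 IH) (Lpr_bt (K22.f324131 IH) (Lpn (LP (LK LD1_c15 LD2_c47 LD3_c35))))))))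
theorem f885773 : Led Lsl_at (LP (LK LD1_c15 LD2_c47 LD3_c35)) = (LP (LK LD1_c15 LD2_c25 LD3_c57)) :=
  Leop (Lpr_af (f885772 IH) (Lpn (LP (LK LD1_c15 LD2_c47 LD3_c35))))
theorem seed_2104 : LEOK LG_a (LK LD1_c15 LD2_c47 LD3_c35) :=
  Leoe_a (LK LD1_c15 LD2_c47 LD3_c35) (f885773 IH)
def v36476 : LQ := Led Lsl_gf (LP (LK LD1_c8 LD2_c27 LD3_c31))
theorem f887011 : Led Lsl_gf (LP (LK LD1_c8 LD2_c27 LD3_c31)) = v36476 :=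
  Lrfl
theorem f189312 : Led Lsl_at (LP (LK LD1_c19 LD2_c7 LD3_c47)) = (LP (LK LD1_c10 LD2_c33 LD3_c45)) :=
  Lre_a IH (LK LD1_c19 LD2_c7 LD3_c47) (LK LD1_c10 LD2_c33 LD3_c45) Lrfl Lrfl
theorem f189313 : Led Lsl_ff (LP (LK LD1_c19 LD2_c7 LD3_c47)) = (LP (LK LD1_c17 LD2_c35 LD3_c49)) :=
  Lgr Lrot30 (Lpr_at (f189312 IH) (Lpr_ft (K10.f189310 IH) (Lpr_at (K12.f51183 IH) (Lpn (LP (LK LD1_c17 LD2_c35 LD3_c49))))))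
theorem f189329 : Led Lsl_gt (LP (LK LD1_c19 LD2_c7 LD3_c46)) = (LP (LK LD1_c10 LD2_c33 LD3_c45)) :=
  Lre_g IH (LK LD1_c19 LD2_c7 LD3_c46) (LK LD1_c10 LD2_c33 LD3_c45) Lrfl Lrfl
theorem f189353 : Led Lsl_gf (LP (LK LD1_c19 LD2_c7 LD3_c46)) = (LP (LK LD1_c17 LD2_c35 LD3_c49)) :=
  Lgr Lrot47 (Lpr_gt (f189329 IH) (Lpe (f189312 IH) (Lpr_ff (f189313 IH) (Lpn (LP (LK LD1_c17 LD2_c35 LD3_c49))))))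
theorem f50310 : Led Lsl_gt (LP (LK LD1_c4 LD2_c3 LD3_c15)) = (LP (LK LD1_c8 LD2_c7 LD3_c4)) :=
  Lre_g IH (LK LD1_c4 LD2_c3 LD3_c15) (LK LD1_c8 LD2_c7 LD3_c4) Lrfl Lrfl
theorem f51354 : Led Lsl_bt (LP (LK LD1_c15 LD2_c17 LD3_c10)) = (LP (LK LD1_c8 LD2_c7 LD3_c4)) :=
  Lre_b IH (LK LD1_c15 LD2_c17 LD3_c10) (LK LD1_c8 LD2_c7 LD3_c4) Lrfl Lrfl
theorem f51130 : Led Lsl_bt (LP (LK LD1_c9 LD2_c33 LD3_c38)) = (LP (LK LD1_c4 LD2_c50 LD3_c45)) :=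
  Lre_b IH (LK LD1_c9 LD2_c33 LD3_c38) (LK LD1_c4 LD2_c50 LD3_c45) Lrfl Lrfl
theorem f195962 : Led Lsl_ct (LP (LK LD1_c15 LD2_c17 LD3_c10)) = (LP (LK LD1_c19 LD2_c7 LD3_c46)) :=
  Lgr Lrot64 (Lpr_bt (f51354 IH) (Lpe (f50310 IH) (Lpe (K10.f50298 IH) (Lpr_ct (K15.f50381 IH) (Lpe (K14.f51042 IH) (Lpe (K13.f51280 IH) (Lpr_gf (K13.f195955 IH) (Lpe (f51130 IH) (Lpe (K19.f189315 IH) (Lpe (f189329 IH) (Lpn (LP (LK LD1_c19 LD2_c7 LD3_c46)))))))))))))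
theorem f50719 : Led Lsl_gt (LP (LK LD1_c8 LD2_c7 LD3_c4)) = (LP (LK LD1_c15 LD2_c17 LD3_c8)) :=
  Lre_g IH (LK LD1_c8 LD2_c7 LD3_c4) (LK LD1_c15 LD2_c17 LD3_c8) Lrfl Lrfl
theorem f50333 : Led Lsl_at (LP (LK LD1_c8 LD2_c7 LD3_c8)) = (LP (LK LD1_c15 LD2_c17 LD3_c8)) :=
  Lre_a IH (LK LD1_c8 LD2_c7 LD3_c8) (LK LD1_c15 LD2_c17 LD3_c8) Lrfl Lrfl
theorem f50334 : Led Lsl_ct (LP (LK LD1_c15 LD2_c17 LD3_c8)) = (LP (LK LD1_c15 LD2_c31 LD3_c40)) :=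
  Lgr Lrot111 (Lpe (f50333 IH) (Lpr_cf (K9.f50307 IH) (Lpe (K67.f49778 IH) (Lpn (LP (LK LD1_c15 LD2_c31 LD3_c40))))))
theorem f50714 : Led Lsl_gt (LP (LK LD1_c15 LD2_c31 LD3_c40)) = (LP (LK LD1_c8 LD2_c15 LD3_c29)) :=
  Lre_g IH (LK LD1_c15 LD2_c31 LD3_c40) (LK LD1_c8 LD2_c15 LD3_c29) Lrfl Lrfl
theorem f50325 : Led Lsl_ct (LP (LK LD1_c15 LD2_c31 LD3_c47)) = (LP (LK LD1_c8 LD2_c15 LD3_c29)) :=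
  Lre_c IH (LK LD1_c15 LD2_c31 LD3_c47) (LK LD1_c8 LD2_c15 LD3_c29) Lrfl Lrfl
theorem f887013 : Led Lsl_bt (LP (LK LD1_c15 LD2_c31 LD3_c47)) = v36476 :=
  Lgr Lrot22 (Lpr_ct (f50325 IH) (Lpe (f50714 IH) (Lpe (f50334 IH) (Lpe (f50719 IH) (Lpe (f51354 IH) (Lpr_ct (f195962 IH) (Lpr_gf (f189353 IH) (Lpe (K12.f51145 IH) (Lpr_bt (K10.f51118 IH) (Lpr_gf (f887011 IH) (Lpn v36476)))))))))))
theorem f50708 : Led Lsl_bt (LP (LK LD1_c15 LD2_c17 LD3_c8)) = (LP (LK LD1_c24 LD2_c57 LD3_c55)) :=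
  Lre_b IH (LK LD1_c15 LD2_c17 LD3_c8) (LK LD1_c24 LD2_c57 LD3_c55) Lrfl Lrfl
theorem f51355 : Led Lsl_gt (LP (LK LD1_c15 LD2_c9 LD3_c4)) = (LP (LK LD1_c24 LD2_c57 LD3_c55)) :=
  Lre_g IH (LK LD1_c15 LD2_c9 LD3_c4) (LK LD1_c24 LD2_c57 LD3_c55) Lrfl Lrfl
theorem f51356 : Led Lsl_bt (LP (LK LD1_c24 LD2_c57 LD3_c57)) = (LP (LK LD1_c15 LD2_c9 LD3_c4)) :=
  Lre_b IH (LK LD1_c24 LD2_c57 LD3_c57) (LK LD1_c15 LD2_c9 LD3_c4) Lrfl Lrfl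
theorem f30936 : Led Lsl_bt (LP (LK LD1_c4 LD2_c1 LD3_c2)) = (LP (LK LD1_c8 LD2_c2 LD3_c49)) :=
  Lre_b IH (LK LD1_c4 LD2_c1 LD3_c2) (LK LD1_c8 LD2_c2 LD3_c49) Lrfl Lrfl
theorem f30943 : Led Lsl_gt (LP (LK LD1_c8 LD2_c2 LD3_c49)) = (LP (LK LD1_c15 LD2_c9 LD3_c4)) :=
  Lre_g IH (LK LD1_c8 LD2_c2 LD3_c49) (LK LD1_c15 LD2_c9 LD3_c4) Lrfl Lrfl
theorem f183497 : Led Lsl_bt (LP (LK LD1_c11 LD2_c55 LD3_c54)) = (LP (LK LD1_c6 LD2_c6 LD3_c17)) :=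
  Lre_b IH (LK LD1_c11 LD2_c55 LD3_c54) (LK LD1_c6 LD2_c6 LD3_c17) Lrfl Lrfl
theorem f183797 : Led Lsl_cf (LP (LK LD1_c11 LD2_c55 LD3_c54)) = (LP (LK LD1_c8 LD2_c27 LD3_c33)) :=
  Lgr Lrot97 (Lpr_bt (f183497 IH) (Lpr_ct (K13.f183785 IH) (Lpr_bt (K11.f183796 IH) (Lpr_ct (K0.f27613 IH) (Lpr_bt (K10.f51024 IH) (Lpn (LP (LK LD1_c8 LD2_c27 LD3_c33))))))))
theorem f183800 : Led Lsl_gt (LP (LK LD1_c21 LD2_c0 LD3_c48)) = (LP (LK LD1_c11 LD2_c55 LD3_c54)) :=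
  Lre_g IH (LK LD1_c21 LD2_c0 LD3_c48) (LK LD1_c11 LD2_c55 LD3_c54) Lrfl Lrfl
theorem f412674 : Led Lsl_ct (LP (LK LD1_c24 LD2_c57 LD3_c57)) = (LP (LK LD1_c21 LD2_c0 LD3_c48)) :=
  Lgr Lrot64 (Lpr_bt (f51356 IH) (Lpe (f30943 IH) (Lpe (f30936 IH) (Lpr_ct (K10.f31012 IH) (Lpr_gf (K15.f194757 IH) (Lpr_cf (K27.f265712 IH) (Lpr_gf (K11.f198857 IH) (Lpe (K10.f27629 IH) (Lpe (f183797 IH) (Lpe (f183800 IH) (Lpn (LP (LK LD1_c21 LD2_c0 LD3_c48)))))))))))))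
theorem f887015 : Led Lsl_gf (LP (LK LD1_c21 LD2_c0 LD3_c48)) = (LP (LK LD1_c15 LD2_c51 LD3_c14)) :=
  Lgr Lrot129 (Lpe (f412674 IH) (Lpr_bt (f51356 IH) (Lpr_gt (f51355 IH) (Lpe (f50708 IH) (Lpr_ct (f50334 IH) (Lpr_gt (f50714 IH) (Lpe (f50325 IH) (Lpr_bt (f887013 IH) (Lpe (f887011 IH) (Lpr_ct (K12.f51107 IH) (Lpn (LP (LK LD1_c15 LD2_c51 LD3_c14)))))))))))))
theorem f887016 : Led Lsl_gt (LP (LK LD1_c15 LD2_c51 LD3_c14)) = (LP (LK LD1_c21 LD2_c0 LD3_c48)) :=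
  Leop (Lpr_gf (f887015 IH) (Lpn (LP (LK LD1_c15 LD2_c51 LD3_c14))))
theorem seed_2105 : LEOK LG_g (LK LD1_c15 LD2_c51 LD3_c14) :=
  Leoe_g (LK LD1_c15 LD2_c51 LD3_c14) (f887016 IH)
def v36498 : LQ := Led Lsl_gt (LP (LK LD1_c8 LD2_c28 LD3_c60))
theorem f887139 : Led Lsl_gt (LP (LK LD1_c8 LD2_c28 LD3_c60)) = v36498 :=
  Lrfl
theorem f45632 : Led Lsl_ft (LP (LK LD1_c8 LD2_c28 LD3_c60)) = (LP (LK LD1_c15 LD2_c55 LD3_c43)) :=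
  Lre_f IH (LK LD1_c8 LD2_c28 LD3_c60) (LK LD1_c15 LD2_c55 LD3_c43) Lrfl Lrfl
theorem f45509 : Led Lsl_at (LP (LK LD1_c15 LD2_c55 LD3_c43)) = (LP (LK LD1_c8 LD2_c29 LD3_c0)) :=
  Lre_a IH (LK LD1_c15 LD2_c55 LD3_c43) (LK LD1_c8 LD2_c29 LD3_c0) Lrfl Lrfl
theorem f887140 : Led Lsl_gf (LP (LK LD1_c8 LD2_c29 LD3_c0)) = v36498 :=
  Lgr Lrot76 (Lpe (f45509 IH) (Lpe (f45632 IH) (Lpr_gt (f887139 IH) (Lpn v36498))))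
theorem f31325 : Led Lsl_bt (LP (LK LD1_c8 LD2_c39 LD3_c22)) = (LP (LK LD1_c4 LD2_c20 LD3_c51)) :=
  Lre_b IH (LK LD1_c8 LD2_c39 LD3_c22) (LK LD1_c4 LD2_c20 LD3_c51) Lrfl Lrfl
theorem f177463 : Led Lsl_bt (LP (LK LD1_c1 LD2_c25 LD3_c24)) = (LP (LK LD1_c2 LD2_c59 LD3_c25)) :=
  Lre_b IH (LK LD1_c1 LD2_c25 LD3_c24) (LK LD1_c2 LD2_c59 LD3_c25) Lrfl Lrfl
theorem f177464 : Led Lsl_ct (LP (LK LD1_c2 LD2_c59 LD3_c25)) = (LP (LK LD1_c6 LD2_c6 LD3_c39)) :=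
  Lre_c IH (LK LD1_c2 LD2_c59 LD3_c25) (LK LD1_c6 LD2_c6 LD3_c39) Lrfl Lrfl
theorem f194206 : Led Lsl_bt (LP (LK LD1_c6 LD2_c6 LD3_c39)) = (LP (LK LD1_c4 LD2_c4 LD3_c33)) :=
  Lgr Lrot128 (Lpe (f177464 IH) (Lpe (f177463 IH) (Lpe (K9.f177456 IH) (Lpr_bf (K10.f194201 IH) (Lpe (K23.f28996 IH) (Lpn (LP (LK LD1_c4 LD2_c4 LD3_c33))))))))
theorem f177543 : Led Lsl_ct (LP (LK LD1_c6 LD2_c6 LD3_c39)) = (LP (LK LD1_c2 LD2_c59 LD3_c25)) :=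
  Lre_c IH (LK LD1_c6 LD2_c6 LD3_c39) (LK LD1_c2 LD2_c59 LD3_c25) Lrfl Lrfl
theorem f396453 : Led Lsl_bt (LP (LK LD1_c11 LD2_c56 LD3_c19)) = (LP (LK LD1_c21 LD2_c1 LD3_c8)) :=
  Lre_b IH (LK LD1_c11 LD2_c56 LD3_c19) (LK LD1_c21 LD2_c1 LD3_c8) Lrfl Lrfl
theorem f33006 : Led Lsl_gt (LP (LK LD1_c4 LD2_c19 LD3_c60)) = (LP (LK LD1_c8 LD2_c37 LD3_c56)) :=
  Lre_g IH (LK LD1_c4 LD2_c19 LD3_c60) (LK LD1_c8 LD2_c37 LD3_c56) Lrfl Lrfl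
theorem f33077 : Led Lsl_bt (LP (LK LD1_c16 LD2_c10 LD3_c4)) = (LP (LK LD1_c8 LD2_c37 LD3_c56)) :=
  Lre_b IH (LK LD1_c16 LD2_c10 LD3_c4) (LK LD1_c8 LD2_c37 LD3_c56) Lrfl Lrfl
theorem f887141 : Led Lsl_ct (LP (LK LD1_c16 LD2_c10 LD3_c4)) = v36498 :=
  Lgr Lrot64 (Lpr_bt (f33077 IH) (Lpe (f33006 IH) (Lpe (K16.f32996 IH) (Lpr_ct (K0.f31708 IH) (Lpe (K13.f223715 IH) (Lpe (K23.f28996 IH) (Lpe (K10.f194197 IH) (Lpe (f31325 IH) (Lpr_ct (K13.f54309 IH) (Lpr_gf (f887140 IH) (Lpn v36498)))))))))))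
theorem f887142 : Led Lsl_gt (LP (LK LD1_c21 LD2_c1 LD3_c8)) = (LP (LK LD1_c16 LD2_c10 LD3_c4)) :=
  Lgr Lrot82 (Lpe (f396453 IH) (Lpr_ct (K56.f396450 IH) (Lpe (K56.f177471 IH) (Lpe (f177543 IH) (Lpr_bt (f194206 IH) (Lpe (K10.f194197 IH) (Lpe (f31325 IH) (Lpr_ct (K13.f54309 IH) (Lpr_gf (f887140 IH) (Lpe (f887141 IH) (Lpn (LP (LK LD1_c16 LD2_c10 LD3_c4)))))))))))))
theorem f887143 : Led Lsl_gt (LP (LK LD1_c21 LD2_c1 LD3_c8)) = (LP (LK LD1_c16 LD2_c10 LD3_c4)) :=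
  Leop (Lpe (f887142 IH) (Lpn (LP (LK LD1_c21 LD2_c1 LD3_c8))))
theorem seed_2106 : LEOK LG_g (LK LD1_c21 LD2_c1 LD3_c8) :=
  Leoe_g (LK LD1_c21 LD2_c1 LD3_c8) (f887143 IH)
theorem f751465 : Led Lsl_dt (LP (LK LD1_c21 LD2_c1 LD3_c8)) = (LP (LK LD1_c29 LD2_c48 LD3_c52)) :=
  Lre_d IH (LK LD1_c21 LD2_c1 LD3_c8) (LK LD1_c29 LD2_c48 LD3_c52) Lrfl Lrfl
theorem f36948 : Led Lsl_df (LP (LK LD1_c8 LD2_c39 LD3_c22)) = (LP (LK LD1_c14 LD2_c59 LD3_c55)) :=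
  Lgr Lrot12 (Lpr_bt (f31325 IH) (Lpr_dt (K11.f36945 IH) (Lpr_bt (K43.f36947 IH) (Lpn (LP (LK LD1_c14 LD2_c59 LD3_c55))))))
theorem f36960 : Led Lsl_bt (LP (LK LD1_c14 LD2_c59 LD3_c55)) = (LP (LK LD1_c7 LD2_c57 LD3_c4)) :=
  Lre_b IH (LK LD1_c14 LD2_c59 LD3_c55) (LK LD1_c7 LD2_c57 LD3_c4) Lrfl Lrfl
theorem f569925 : Led Lsl_bt (LP (LK LD1_c13 LD2_c47 LD3_c37)) = (LP (LK LD1_c23 LD2_c15 LD3_c9)) :=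
  Lre_b IH (LK LD1_c13 LD2_c47 LD3_c37) (LK LD1_c23 LD2_c15 LD3_c9) Lrfl Lrfl
theorem f573803 : Led Lsl_cf (LP (LK LD1_c14 LD2_c59 LD3_c55)) = (LP (LK LD1_c23 LD2_c15 LD3_c9)) :=
  Lgr Lrot97 (Lpr_bt (f36960 IH) (Lpr_ct (K11.f36944 IH) (Lpr_bt (K43.f573792 IH) (Lpr_ct (K43.f569920 IH) (Lpr_bt (f569925 IH) (Lpn (LP (LK LD1_c23 LD2_c15 LD3_c9))))))))
theorem f573794 : Led Lsl_gt (LP (LK LD1_c30 LD2_c57 LD3_c59)) = (LP (LK LD1_c23 LD2_c15 LD3_c9)) :=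
  Lre_g IH (LK LD1_c30 LD2_c57 LD3_c59) (LK LD1_c23 LD2_c15 LD3_c9) Lrfl Lrfl
theorem f574289 : Led Lsl_bt (LP (LK LD1_c23 LD2_c15 LD3_c9)) = (LP (LK LD1_c13 LD2_c47 LD3_c37)) :=
  Lre_b IH (LK LD1_c23 LD2_c15 LD3_c9) (LK LD1_c13 LD2_c47 LD3_c37) Lrfl Lrfl
theorem f37011 : Led Lsl_ct (LP (LK LD1_c16 LD2_c12 LD3_c44)) = (LP (LK LD1_c8 LD2_c39 LD3_c21)) :=
  Lre_c IH (LK LD1_c16 LD2_c12 LD3_c44) (LK LD1_c8 LD2_c39 LD3_c21) Lrfl Lrfl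
theorem f201865 : Led Lsl_bf (LP (LK LD1_c16 LD2_c12 LD3_c44)) = (LP (LK LD1_c18 LD2_c40 LD3_c49)) :=
  Lgr Lrot90 (Lpr_ct (f37011 IH) (Lpr_bt (K13.f31336 IH) (Lpr_ct (K11.f201861 IH) (Lpr_bt (K45.f201621 IH) (Lpr_ct (K45.f201642 IH) (Lpn (LP (LK LD1_c18 LD2_c40 LD3_c49))))))))
theorem f602286 : Led Lsl_ff (LP (LK LD1_c23 LD2_c15 LD3_c9)) = (LP (LK LD1_c16 LD2_c12 LD3_c44)) :=
  Lgr Lrot25 (Lpr_bt (f574289 IH) (Lpr_ft (K45.f587476 IH) (Lpe (f201865 IH) (Lpn (LP (LK LD1_c16 LD2_c12 LD3_c44))))))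
theorem f602291 : Led Lsl_ft (LP (LK LD1_c23 LD2_c15 LD3_c9)) = (LP (LK LD1_c16 LD2_c12 LD3_c44)) :=
  Lgr Lrot48 (Lpr_ff (f602286 IH) (Lpn (LP (LK LD1_c16 LD2_c12 LD3_c44))))
theorem f31348 : Led Lsl_bt (LP (LK LD1_c4 LD2_c20 LD3_c50)) = (LP (LK LD1_c8 LD2_c39 LD3_c21)) :=
  Lre_b IH (LK LD1_c4 LD2_c20 LD3_c50) (LK LD1_c8 LD2_c39 LD3_c21) Lrfl Lrfl
theorem f36961 : Led Lsl_ft (LP (LK LD1_c8 LD2_c39 LD3_c21)) = (LP (LK LD1_c14 LD2_c59 LD3_c55)) :=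
  Lgr Lrot75 (Lpe (f31348 IH) (Lpr_ff (K11.f36956 IH) (Lpe (f36960 IH) (Lpn (LP (LK LD1_c14 LD2_c59 LD3_c55))))))
theorem f602298 : Led Lsl_cf (LP (LK LD1_c23 LD2_c15 LD3_c9)) = (LP (LK LD1_c14 LD2_c59 LD3_c55)) :=
  Lgr Lrot108 (Lpr_ft (f602291 IH) (Lpr_ct (f37011 IH) (Lpr_ft (f36961 IH) (Lpn (LP (LK LD1_c14 LD2_c59 LD3_c55))))))
theorem f31713 : Led Lsl_bt (LP (LK LD1_c4 LD2_c19 LD3_c61)) = (LP (LK LD1_c8 LD2_c37 LD3_c59)) :=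
  Lre_b IH (LK LD1_c4 LD2_c19 LD3_c61) (LK LD1_c8 LD2_c37 LD3_c59) Lrfl Lrfl
theorem f31745 : Led Lsl_gt (LP (LK LD1_c8 LD2_c37 LD3_c59)) = (LP (LK LD1_c16 LD2_c10 LD3_c12)) :=
  Lre_g IH (LK LD1_c8 LD2_c37 LD3_c59) (LK LD1_c16 LD2_c10 LD3_c12) Lrfl Lrfl
theorem f240735 : Led Lsl_bt (LP (LK LD1_c26 LD2_c7 LD3_c4)) = (LP (LK LD1_c16 LD2_c10 LD3_c12)) :=
  Lre_b IH (LK LD1_c26 LD2_c7 LD3_c4) (LK LD1_c16 LD2_c10 LD3_c12) Lrfl Lrfl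
theorem f602307 : Led Lsl_cf (LP (LK LD1_c30 LD2_c57 LD3_c59)) = (LP (LK LD1_c26 LD2_c7 LD3_c4)) :=
  Lgr Lrot160 (Lpr_gt (f573794 IH) (Lpr_cf (f602298 IH) (Lpr_bt (f36960 IH) (Lpe (K13.f191287 IH) (Lpe (K13.f240710 IH) (Lpr_gt (K12.f225020 IH) (Lpe (K11.f31719 IH) (Lpr_bt (f31713 IH) (Lpr_gt (f31745 IH) (Lpe (f240735 IH) (Lpn (LP (LK LD1_c26 LD2_c7 LD3_c4)))))))))))))
theorem f887144 : Led Lsl_gt (LP (LK LD1_c29 LD2_c48 LD3_c52)) = (LP (LK LD1_c26 LD2_c7 LD3_c4)) :=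
  Lgr Lrot9 (Lpe (f751465 IH) (Lpr_gt (f887142 IH) (Lpr_ct (f887141 IH) (Lpe (f887140 IH) (Lpe (K11.f54304 IH) (Lpr_df (f36948 IH) (Lpr_cf (f573803 IH) (Lpe (f573794 IH) (Lpr_cf (f602307 IH) (Lpn (LP (LK LD1_c26 LD2_c7 LD3_c4))))))))))))
theorem f887145 : Led Lsl_gt (LP (LK LD1_c29 LD2_c48 LD3_c52)) = (LP (LK LD1_c26 LD2_c7 LD3_c4)) :=
  Leop (Lpe (f887144 IH) (Lpn (LP (LK LD1_c29 LD2_c48 LD3_c52))))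
theorem seed_2107 : LEOK LG_g (LK LD1_c29 LD2_c48 LD3_c52) :=
  Leoe_g (LK LD1_c29 LD2_c48 LD3_c52) (f887145 IH)
def v36512 : LQ := Led Lsl_at (LP (LK LD1_c8 LD2_c29 LD3_c22))
theorem f887247 : Led Lsl_at (LP (LK LD1_c8 LD2_c29 LD3_c22)) = v36512 :=
  Lrfl
theorem f343124 : Led Lsl_ft (LP (LK LD1_c8 LD2_c29 LD3_c23)) = (LP (LK LD1_c8 LD2_c28 LD3_c53)) :=
  Lgr Lrot48 (Lpr_ff (K26.f343118 IH) (Lpn (LP (LK LD1_c8 LD2_c28 LD3_c53))))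
theorem f343126 : Led Lsl_ff (LP (LK LD1_c4 LD2_c15 LD3_c14)) = (LP (LK LD1_c4 LD2_c14 LD3_c59)) :=
  Lgr Lrot19 (Lpr_dt (K15.f45273 IH) (Lpr_ft (f343124 IH) (Lpr_dt (K26.f45520 IH) (Lpn (LP (LK LD1_c4 LD2_c14 LD3_c59))))))
theorem f194229 : Led Lsl_bt (LP (LK LD1_c4 LD2_c15 LD3_c14)) = (LP (LK LD1_c8 LD2_c29 LD3_c22)) :=
  Lre_b IH (LK LD1_c4 LD2_c15 LD3_c14) (LK LD1_c8 LD2_c29 LD3_c22) Lrfl Lrfl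
theorem f343130 : Led Lsl_ft (LP (LK LD1_c8 LD2_c29 LD3_c22)) = (LP (LK LD1_c8 LD2_c28 LD3_c52)) :=
  Lgr Lrot75 (Lpe (f194229 IH) (Lpr_ff (f343126 IH) (Lpe (K15.f45523 IH) (Lpn (LP (LK LD1_c8 LD2_c28 LD3_c52))))))
theorem f343132 : Led Lsl_ff (LP (LK LD1_c8 LD2_c29 LD3_c22)) = (LP (LK LD1_c8 LD2_c28 LD3_c52)) :=
  Lgr Lrot3 (Lpr_ft (f343130 IH) (Lpn (LP (LK LD1_c8 LD2_c28 LD3_c52))))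
theorem f259537 : Led Lsl_at (LP (LK LD1_c15 LD2_c55 LD3_c29)) = (LP (LK LD1_c8 LD2_c28 LD3_c52)) :=
  Lre_a IH (LK LD1_c15 LD2_c55 LD3_c29) (LK LD1_c8 LD2_c28 LD3_c52) Lrfl Lrfl
theorem f887251 : Led Lsl_ff (LP (LK LD1_c15 LD2_c55 LD3_c29)) = v36512 :=
  Lgr Lrot30 (Lpr_at (f259537 IH) (Lpe (f343132 IH) (Lpr_at (f887247 IH) (Lpn v36512))))
theorem f887256 : Led Lsl_ft (LP (LK LD1_c15 LD2_c55 LD3_c29)) = v36512 :=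
  Lgr Lrot48 (Lpr_ff (f887251 IH) (Lpn v36512))
theorem f887248 : Led Lsl_af (LP (LK LD1_c8 LD2_c29 LD3_c22)) = v36512 :=
  Lgr Lrot0 (Lpr_at (f887247 IH) (Lpn v36512))
theorem f194308 : Led Lsl_gt (LP (LK LD1_c15 LD2_c56 LD3_c28)) = (LP (LK LD1_c8 LD2_c29 LD3_c22)) :=
  Lre_g IH (LK LD1_c15 LD2_c56 LD3_c28) (LK LD1_c8 LD2_c29 LD3_c22) Lrfl Lrfl
theorem f887258 : Led Lsl_gt (LP (LK LD1_c15 LD2_c55 LD3_c29)) = (LP (LK LD1_c15 LD2_c56 LD3_c28)) :=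
  Lgr Lrot5 (Lpr_ft (f887256 IH) (Lpe (f887248 IH) (Lpe (f194308 IH) (Lpn (LP (LK LD1_c15 LD2_c56 LD3_c28))))))
theorem f887259 : Led Lsl_gt (LP (LK LD1_c15 LD2_c55 LD3_c29)) = (LP (LK LD1_c15 LD2_c56 LD3_c28)) :=
  Leop (Lpe (f887258 IH) (Lpn (LP (LK LD1_c15 LD2_c55 LD3_c29))))
theorem seed_2108 : LEOK LG_g (LK LD1_c15 LD2_c55 LD3_c29) :=
  Leoe_g (LK LD1_c15 LD2_c55 LD3_c29) (f887259 IH)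
def v36600 : LQ := Led Lsl_ft (LP (LK LD1_c8 LD2_c31 LD3_c42))
theorem f887726 : Led Lsl_ft (LP (LK LD1_c8 LD2_c31 LD3_c42)) = v36600 :=
  Lrfl
theorem f887728 : Led Lsl_ff (LP (LK LD1_c8 LD2_c31 LD3_c42)) = v36600 :=
  Lgr Lrot3 (Lpr_ft (f887726 IH) (Lpn v36600))
def v36599 : LQ := Led Lsl_at (LP (LK LD1_c8 LD2_c31 LD3_c42))
theorem f887722 : Led Lsl_at (LP (LK LD1_c8 LD2_c31 LD3_c42)) = v36599 :=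
  Lrfl
theorem f887723 : Led Lsl_af (LP (LK LD1_c8 LD2_c31 LD3_c42)) = v36599 :=
  Lgr Lrot0 (Lpr_at (f887722 IH) (Lpn v36599))
theorem f887724 : Led Lsl_ft (LP (LK LD1_c8 LD2_c31 LD3_c43)) = v36599 :=
  Lgr Lrot2 (Lpr_gt (K24.f339052 IH) (Lpr_gt (K24.f706 IH) (Lpr_af (f887723 IH) (Lpn v36599))))
theorem f887725 : Led Lsl_ff (LP (LK LD1_c8 LD2_c31 LD3_c43)) = v36599 :=
  Lgr Lrot3 (Lpr_ft (f887724 IH) (Lpn v36599))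
theorem f887729 : Led Lsl_at (LP (LK LD1_c8 LD2_c31 LD3_c43)) = v36600 :=
  Lgr Lrot66 (Lpr_ff (f887725 IH) (Lpe (f887722 IH) (Lpr_ff (f887728 IH) (Lpn v36600))))
def v36062 : LQ := Led Lsl_at (LP (LK LD1_c8 LD2_c18 LD3_c48))
theorem f882036 : Led Lsl_at (LP (LK LD1_c8 LD2_c18 LD3_c48)) = v36062 :=
  Lrfl
theorem f882037 : Led Lsl_af (LP (LK LD1_c8 LD2_c18 LD3_c48)) = v36062 :=
  Lgr Lrot0 (Lpr_at (f882036 IH) (Lpn v36062))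
theorem f887730 : Led Lsl_ef v36062 = v36600 :=
  Lgr Lrot20 (Lpe (f882037 IH) (Lpr_et (K27.f349934 IH) (Lpr_at (f887729 IH) (Lpn v36600))))
theorem f882038 : Led Lsl_ft (LP (LK LD1_c8 LD2_c18 LD3_c49)) = v36062 :=
  Lgr Lrot2 (Lpr_gt (K20.f254752 IH) (Lpr_gt (K27.f234481 IH) (Lpr_af (f882037 IH) (Lpn v36062))))
theorem f882039 : Led Lsl_ff (LP (LK LD1_c8 LD2_c18 LD3_c49)) = v36062 :=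
  Lgr Lrot3 (Lpr_ft (f882038 IH) (Lpn v36062))
theorem f321613 : Led Lsl_et (LP (LK LD1_c8 LD2_c18 LD3_c49)) = (LP (LK LD1_c15 LD2_c38 LD3_c17)) :=
  Lre_e IH (LK LD1_c8 LD2_c18 LD3_c49) (LK LD1_c15 LD2_c38 LD3_c17) Lrfl Lrfl
theorem f887732 : Led Lsl_ft (LP (LK LD1_c15 LD2_c38 LD3_c17)) = (LP (LK LD1_c16 LD2_c0 LD3_c32)) :=
  Lgr Lrot86 (Lpe (f321613 IH) (Lpr_ff (f882039 IH) (Lpr_ef (f887730 IH) (Lpe (f887726 IH) (Lpe (K27.f323009 IH) (Lpn (LP (LK LD1_c16 LD2_c0 LD3_c32))))))))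
theorem f887733 : Led Lsl_ft (LP (LK LD1_c15 LD2_c38 LD3_c17)) = (LP (LK LD1_c16 LD2_c0 LD3_c32)) :=
  Leop (Lpe (f887732 IH) (Lpn (LP (LK LD1_c15 LD2_c38 LD3_c17))))
theorem seed_2109 : LEOK LG_f (LK LD1_c15 LD2_c38 LD3_c17) :=
  Leoe_f (LK LD1_c15 LD2_c38 LD3_c17) (f887733 IH)
def v36642 : LQ := Led Lsl_gf (LP (LK LD1_c8 LD2_c32 LD3_c46))
theorem f889326 : Led Lsl_gf (LP (LK LD1_c8 LD2_c32 LD3_c46)) = v36642 :=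
  Lrfl
theorem f889329 : Led Lsl_ct (LP (LK LD1_c17 LD2_c37 LD3_c15)) = v36642 :=
  Lgr Lrot152 (Lpe (K27.f361518 IH) (Lpr_df (K17.f229544 IH) (Lpe (K26.f361008 IH) (Lpr_ct (K26.f361010 IH) (Lpr_gt (K26.f248319 IH) (Lpr_ct (K21.f248302 IH) (Lpr_df (K14.f248308 IH) (Lpe (f169364 IH) (Lpr_gf (f889326 IH) (Lpn v36642))))))))))
theorem f316148 : Led Lsl_dt (LP (LK LD1_c8 LD2_c33 LD3_c16)) = (LP (LK LD1_c16 LD2_c3 LD3_c32)) :=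
  Lre_d IH (LK LD1_c8 LD2_c33 LD3_c16) (LK LD1_c16 LD2_c3 LD3_c32) Lrfl Lrfl
theorem f322598 : Led Lsl_dt (LP (LK LD1_c17 LD2_c39 LD3_c39)) = (LP (LK LD1_c9 LD2_c35 LD3_c27)) :=
  Lre_d IH (LK LD1_c17 LD2_c39 LD3_c39) (LK LD1_c9 LD2_c35 LD3_c27) Lrfl Lrfl
theorem f361475 : Led Lsl_gt (LP (LK LD1_c16 LD2_c3 LD3_c32)) = (LP (LK LD1_c17 LD2_c39 LD3_c39)) :=
  Lgr Lrot49 (Lpe (f316148 IH) (Lpr_gf (K27.f361471 IH) (Lpr_cf (K19.f309318 IH) (Lpe (K24.f330818 IH) (Lpr_dt (K21.f304635 IH) (Lpr_gt (K21.f330813 IH) (Lpr_dt (K18.f238258 IH) (Lpe (K26.f297712 IH) (Lpe (f322598 IH) (Lpn (LP (LK LD1_c17 LD2_c39 LD3_c39))))))))))))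
theorem f322597 : Led Lsl_ct (LP (LK LD1_c17 LD2_c39 LD3_c39)) = (LP (LK LD1_c27 LD2_c27 LD3_c27)) :=
  Lre_c IH (LK LD1_c17 LD2_c39 LD3_c39) (LK LD1_c27 LD2_c27 LD3_c27) Lrfl Lrfl
theorem f359387 : Led Lsl_et (LP (LK LD1_c17 LD2_c37 LD3_c15)) = (LP (LK LD1_c27 LD2_c25 LD3_c29)) :=
  Lre_e IH (LK LD1_c17 LD2_c37 LD3_c15) (LK LD1_c27 LD2_c25 LD3_c29) Lrfl Lrfl
theorem f361513 : Led Lsl_dt (LP (LK LD1_c17 LD2_c39 LD3_c41)) = (LP (LK LD1_c17 LD2_c37 LD3_c15)) :=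
  Lgr Lrot77 (Lpr_ef (K25.f238263 IH) (Lpe (K27.f193179 IH) (Lpe (K27.f188703 IH) (Lpr_df (K27.f361507 IH) (Lpe (f359387 IH) (Lpn (LP (LK LD1_c17 LD2_c37 LD3_c15))))))))
theorem f167495 : Led Lsl_dt (LP (LK LD1_c4 LD2_c18 LD3_c4)) = (LP (LK LD1_c8 LD2_c35 LD3_c5)) :=
  Lre_d IH (LK LD1_c4 LD2_c18 LD3_c4) (LK LD1_c8 LD2_c35 LD3_c5) Lrfl Lrfl
theorem f221899 : Led Lsl_gt (LP (LK LD1_c8 LD2_c35 LD3_c5)) = (LP (LK LD1_c16 LD2_c6 LD3_c30)) :=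
  Lre_g IH (LK LD1_c8 LD2_c35 LD3_c5) (LK LD1_c16 LD2_c6 LD3_c30) Lrfl Lrfl
theorem f889332 : Led Lsl_dt (LP (LK LD1_c16 LD2_c6 LD3_c30)) = v36642 :=
  Lgr Lrot113 (Lpe (f221899 IH) (Lpe (f167495 IH) (Lpe (K26.f167520 IH) (Lpr_ct (K26.f359211 IH) (Lpr_gt (K26.f238275 IH) (Lpr_dt (K19.f233273 IH) (Lpr_gt (K25.f238262 IH) (Lpr_dt (f361513 IH) (Lpr_ct (f889329 IH) (Lpn v36642))))))))))
theorem f365565 : Led Lsl_ct (LP (LK LD1_c26 LD2_c3 LD3_c31)) = (LP (LK LD1_c16 LD2_c6 LD3_c30)) :=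
  Lre_c IH (LK LD1_c26 LD2_c3 LD3_c31) (LK LD1_c16 LD2_c6 LD3_c30) Lrfl Lrfl
theorem f889333 : Led Lsl_gt (LP (LK LD1_c27 LD2_c27 LD3_c27)) = (LP (LK LD1_c26 LD2_c3 LD3_c31)) :=
  Lgr Lrot150 (Lpe (f322597 IH) (Lpe (f361475 IH) (Lpe (f316148 IH) (Lpr_gt (K20.f169393 IH) (Lpe (K20.f321118 IH) (Lpr_gt (K27.f361518 IH) (Lpr_ct (f889329 IH) (Lpe (f889332 IH) (Lpe (f365565 IH) (Lpn (LP (LK LD1_c26 LD2_c3 LD3_c31))))))))))))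
theorem f889334 : Led Lsl_gt (LP (LK LD1_c27 LD2_c27 LD3_c27)) = (LP (LK LD1_c26 LD2_c3 LD3_c31)) :=
  Leop (Lpe (f889333 IH) (Lpn (LP (LK LD1_c27 LD2_c27 LD3_c27))))
theorem seed_2110 : LEOK LG_g (LK LD1_c27 LD2_c27 LD3_c27) :=
  Leoe_g (LK LD1_c27 LD2_c27 LD3_c27) (f889334 IH)
def v36646 : LQ := Led Lsl_at (LP (LK LD1_c8 LD2_c32 LD3_c58))
theorem f889369 : Led Lsl_at (LP (LK LD1_c8 LD2_c32 LD3_c58)) = v36646 :=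
  Lrfl
theorem f255663 : Led Lsl_bt (LP (LK LD1_c2 LD2_c38 LD3_c31)) = (LP (LK LD1_c5 LD2_c23 LD3_c59)) :=
  Lre_b IH (LK LD1_c2 LD2_c38 LD3_c31) (LK LD1_c5 LD2_c23 LD3_c59) Lrfl Lrfl
theorem f251839 : Led Lsl_bt (LP (LK LD1_c8 LD2_c32 LD3_c58)) = (LP (LK LD1_c4 LD2_c16 LD3_c49)) :=
  Lre_b IH (LK LD1_c8 LD2_c32 LD3_c58) (LK LD1_c4 LD2_c16 LD3_c49) Lrfl Lrfl
theorem f309078 : Led Lsl_ft (LP (LK LD1_c5 LD2_c23 LD3_c59)) = (LP (LK LD1_c8 LD2_c32 LD3_c58)) :=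
  Lgr Lrot75 (Lpe (f255663 IH) (Lpr_ff (K19.f309074 IH) (Lpe (f251839 IH) (Lpn (LP (LK LD1_c8 LD2_c32 LD3_c58))))))
theorem f255828 : Led Lsl_at (LP (LK LD1_c10 LD2_c38 LD3_c38)) = (LP (LK LD1_c5 LD2_c23 LD3_c59)) :=
  Lre_a IH (LK LD1_c10 LD2_c38 LD3_c38) (LK LD1_c5 LD2_c23 LD3_c59) Lrfl Lrfl
theorem f889371 : Led Lsl_ff (LP (LK LD1_c10 LD2_c38 LD3_c38)) = v36646 :=
  Lgr Lrot30 (Lpr_at (f255828 IH) (Lpr_ft (f309078 IH) (Lpr_at (f889369 IH) (Lpn v36646))))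
theorem f889375 : Led Lsl_ft (LP (LK LD1_c10 LD2_c38 LD3_c38)) = v36646 :=
  Lgr Lrot48 (Lpr_ff (f889371 IH) (Lpn v36646))
theorem f889370 : Led Lsl_af (LP (LK LD1_c8 LD2_c32 LD3_c58)) = v36646 :=
  Lgr Lrot0 (Lpr_at (f889369 IH) (Lpn v36646))
theorem f251871 : Led Lsl_gt (LP (LK LD1_c16 LD2_c2 LD3_c59)) = (LP (LK LD1_c8 LD2_c32 LD3_c58)) :=
  Lre_g IH (LK LD1_c16 LD2_c2 LD3_c59) (LK LD1_c8 LD2_c32 LD3_c58) Lrfl Lrfl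
theorem f889377 : Led Lsl_gt (LP (LK LD1_c10 LD2_c38 LD3_c38)) = (LP (LK LD1_c16 LD2_c2 LD3_c59)) :=
  Lgr Lrot5 (Lpr_ft (f889375 IH) (Lpe (f889370 IH) (Lpe (f251871 IH) (Lpn (LP (LK LD1_c16 LD2_c2 LD3_c59))))))
theorem f889378 : Led Lsl_gt (LP (LK LD1_c10 LD2_c38 LD3_c38)) = (LP (LK LD1_c16 LD2_c2 LD3_c59)) :=
  Leop (Lpe (f889377 IH) (Lpn (LP (LK LD1_c10 LD2_c38 LD3_c38))))
theorem seed_2111 : LEOK LG_g (LK LD1_c10 LD2_c38 LD3_c38) :=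
  Leoe_g (LK LD1_c10 LD2_c38 LD3_c38) (f889378 IH)
def v36671 : LQ := Led Lsl_at (LP (LK LD1_c8 LD2_c33 LD3_c30))
theorem f889530 : Led Lsl_at (LP (LK LD1_c8 LD2_c33 LD3_c30)) = v36671 :=
  Lrfl
def v12537 : LQ := Led Lsl_at (LP (LK LD1_c4 LD2_c17 LD3_c7))
theorem f693436 : Led Lsl_at (LP (LK LD1_c4 LD2_c17 LD3_c7)) = v12537 :=
  Lrfl
theorem f693437 : Led Lsl_af (LP (LK LD1_c4 LD2_c17 LD3_c7)) = v12537 :=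
  Lgr Lrot0 (Lpr_at (f693436 IH) (Lpn v12537))
theorem f889532 : Led Lsl_cf v12537 = v36671 :=
  Lgr Lrot1 (Lpe (f693437 IH) (Lpr_ct (K64.f170254 IH) (Lpr_at (f889530 IH) (Lpn v36671))))
theorem f693438 : Led Lsl_df K67.v12390 = v12537 :=
  Lgr Lrot18 (Lpe (K67.f691879 IH) (Lpe (K64.f319568 IH) (Lpr_at (f693436 IH) (Lpn v12537))))
theorem f693440 : Led Lsl_ft (LP (LK LD1_c4 LD2_c17 LD3_c8)) = v12537 :=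
  Lgr Lrot54 (Lpr_df (K67.f691949 IH) (Lpr_ff (K67.f691881 IH) (Lpr_df (f693438 IH) (Lpn v12537))))
theorem f693441 : Led Lsl_ff (LP (LK LD1_c4 LD2_c17 LD3_c8)) = v12537 :=
  Lgr Lrot3 (Lpr_ft (f693440 IH) (Lpn v12537))
theorem f170325 : Led Lsl_ct (LP (LK LD1_c4 LD2_c17 LD3_c8)) = (LP (LK LD1_c8 LD2_c33 LD3_c32)) :=
  Lre_c IH (LK LD1_c4 LD2_c17 LD3_c8) (LK LD1_c8 LD2_c33 LD3_c32) Lrfl Lrfl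
theorem f889534 : Led Lsl_ft (LP (LK LD1_c8 LD2_c33 LD3_c32)) = v36671 :=
  Lgr Lrot4 (Lpe (f170325 IH) (Lpr_ff (f693441 IH) (Lpr_cf (f889532 IH) (Lpn v36671))))
theorem f889531 : Led Lsl_af (LP (LK LD1_c8 LD2_c33 LD3_c30)) = v36671 :=
  Lgr Lrot0 (Lpr_at (f889530 IH) (Lpn v36671))
def v36670 : LQ := Led Lsl_gf (LP (LK LD1_c8 LD2_c33 LD3_c30))
theorem f889525 : Led Lsl_gf (LP (LK LD1_c8 LD2_c33 LD3_c30)) = v36670 :=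
  Lrfl
theorem f889538 : Led Lsl_gt (LP (LK LD1_c8 LD2_c33 LD3_c32)) = v36670 :=
  Lgr Lrot5 (Lpr_ft (f889534 IH) (Lpe (f889531 IH) (Lpr_gf (f889525 IH) (Lpn v36670))))
theorem f170255 : Led Lsl_gt (LP (LK LD1_c8 LD2_c33 LD3_c30)) = (LP (LK LD1_c16 LD2_c3 LD3_c50)) :=
  Lre_g IH (LK LD1_c8 LD2_c33 LD3_c30) (LK LD1_c16 LD2_c3 LD3_c50) Lrfl Lrfl
theorem f404694 : Led Lsl_df (LP (LK LD1_c4 LD2_c11 LD3_c13)) = (LP (LK LD1_c4 LD2_c11 LD3_c35)) :=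
  Lgr Lrot78 (Lpr_ft (K50.f404686 IH) (Lpe (K50.f404655 IH) (Lpr_ft (K49.f392829 IH) (Lpn (LP (LK LD1_c4 LD2_c11 LD3_c35))))))
theorem f882731 : Led Lsl_df (LP (LK LD1_c8 LD2_c35 LD3_c43)) = K67.v36203 :=
  Lgr Lrot162 (Lpr_cf (K66.f406177 IH) (Lpe (K66.f170644 IH) (Lpe (K49.f170948 IH) (Lpe (K49.f171000 IH) (Lpe (f404694 IH) (Lpr_gt (K49.f51531 IH) (Lpr_ct (K50.f53358 IH) (Lpr_gt (K49.f53359 IH) (Lpr_ct (K67.f882726 IH) (Lpn K67.v36203))))))))))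
theorem f668370 : Led Lsl_dt (LP (LK LD1_c4 LD2_c11 LD3_c42)) = K54.v7782 :=
  Lgr Lrot42 (Lpr_df (K54.f668369 IH) (Lpn K54.v7782))
theorem f841583 : Led Lsl_df (LP (LK LD1_c8 LD2_c22 LD3_c59)) = K66.v27840 :=
  Lgr Lrot12 (Lpr_bt (K53.f167037 IH) (Lpr_dt (f668370 IH) (Lpr_bt (K66.f841579 IH) (Lpn K66.v27840))))
theorem f882732 : Led Lsl_at (LP (LK LD1_c8 LD2_c22 LD3_c59)) = K67.v36203 :=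
  Lgr Lrot51 (Lpr_df (f841583 IH) (Lpe (f841591 IH) (Lpr_df (f882731 IH) (Lpn K67.v36203))))
theorem f883944 : Led Lsl_gt (LP (LK LD1_c8 LD2_c35 LD3_c23)) = (LP (LK LD1_c8 LD2_c23 LD3_c7)) :=
  Lgr Lrot5 (Lpr_ft (f738640 IH) (Lpq (f738641 IH) (Lpr_at (f882732 IH) (Lpr_gf (f883943 IH) (Lpn (LP (LK LD1_c8 LD2_c23 LD3_c7)))))))
theorem f421801 : Led Lsl_dt (LP (LK LD1_c8 LD2_c35 LD3_c23)) = (LP (LK LD1_c8 LD2_c35 LD3_c17)) :=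
  Lgr Lrot27 (Lpe (K54.f418183 IH) (Lpr_gf (K54.f406244 IH) (Lpe (K54.f170264 IH) (Lpe (K54.f406054 IH) (Lpe (K50.f270631 IH) (Lpr_gt (K54.f404597 IH) (Lpr_ct (K41.f170237 IH) (Lpe (K54.f403503 IH) (Lpr_ct (K49.f421787 IH) (Lpn (LP (LK LD1_c8 LD2_c35 LD3_c17))))))))))))
theorem f883949 : Led Lsl_gf (LP (LK LD1_c8 LD2_c35 LD3_c13)) = (LP (LK LD1_c15 LD2_c46 LD3_c25)) :=
  Lgr Lrot104 (Lpr_ct (K50.f170253 IH) (Lpe (K50.f404649 IH) (Lpe (K41.f170212 IH) (Lpr_gf (K41.f271512 IH) (Lpe (f52069 IH) (Lpr_gf (K66.f693786 IH) (Lpq (K66.f841588 IH) (Lpe (f421801 IH) (Lpr_gt (f883944 IH) (Lpr_ct (f692274 IH) (Lpn (LP (LK LD1_c15 LD2_c46 LD3_c25)))))))))))))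
theorem f270633 : Led Lsl_et (LP (LK LD1_c8 LD2_c22 LD3_c22)) = (LP (LK LD1_c4 LD2_c11 LD3_c12)) :=
  Lre_e IH (LK LD1_c8 LD2_c22 LD3_c22) (LK LD1_c4 LD2_c11 LD3_c12) Lrfl Lrfl
theorem f404657 : Led Lsl_et (LP (LK LD1_c4 LD2_c18 LD3_c9)) = (LP (LK LD1_c8 LD2_c35 LD3_c14)) :=
  Lre_e IH (LK LD1_c4 LD2_c18 LD3_c9) (LK LD1_c8 LD2_c35 LD3_c14) Lrfl Lrfl
theorem f404665 : Led Lsl_af (LP (LK LD1_c8 LD2_c22 LD3_c22)) = (LP (LK LD1_c8 LD2_c35 LD3_c14)) :=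
  Lgr Lrot50 (Lpr_et (f270633 IH) (Lpr_at (K50.f404658 IH) (Lpr_et (f404657 IH) (Lpn (LP (LK LD1_c8 LD2_c35 LD3_c14))))))
theorem f404669 : Led Lsl_ct (LP (LK LD1_c8 LD2_c22 LD3_c22)) = (LP (LK LD1_c15 LD2_c45 LD3_c25)) :=
  Lre_c IH (LK LD1_c8 LD2_c22 LD3_c22) (LK LD1_c15 LD2_c45 LD3_c25) Lrfl Lrfl
theorem f404670 : Led Lsl_at (LP (LK LD1_c15 LD2_c45 LD3_c25)) = (LP (LK LD1_c16 LD2_c6 LD3_c42)) :=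
  Lgr Lrot107 (Lpe (f404669 IH) (Lpr_af (f404665 IH) (Lpe (K50.f398187 IH) (Lpn (LP (LK LD1_c16 LD2_c6 LD3_c42))))))
theorem f404675 : Led Lsl_af (LP (LK LD1_c15 LD2_c45 LD3_c25)) = (LP (LK LD1_c16 LD2_c6 LD3_c42)) :=
  Lgr Lrot0 (Lpr_at (f404670 IH) (Lpn (LP (LK LD1_c16 LD2_c6 LD3_c42))))
theorem f392898 : Led Lsl_et (LP (LK LD1_c15 LD2_c45 LD3_c25)) = (LP (LK LD1_c8 LD2_c22 LD3_c21)) :=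
  Lre_e IH (LK LD1_c15 LD2_c45 LD3_c25) (LK LD1_c8 LD2_c22 LD3_c21) Lrfl Lrfl
theorem f398202 : Led Lsl_et (LP (LK LD1_c8 LD2_c35 LD3_c13)) = (LP (LK LD1_c16 LD2_c6 LD3_c42)) :=
  Lre_e IH (LK LD1_c8 LD2_c35 LD3_c13) (LK LD1_c16 LD2_c6 LD3_c42) Lrfl Lrfl
theorem f404683 : Led Lsl_at (LP (LK LD1_c8 LD2_c22 LD3_c21)) = (LP (LK LD1_c8 LD2_c35 LD3_c13)) :=
  Lgr Lrot80 (Lpe (f392898 IH) (Lpr_af (f404675 IH) (Lpe (f398202 IH) (Lpn (LP (LK LD1_c8 LD2_c35 LD3_c13))))))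
theorem f392889 : Led Lsl_ft (LP (LK LD1_c8 LD2_c35 LD3_c11)) = (LP (LK LD1_c8 LD2_c22 LD3_c21)) :=
  Lgr Lrot4 (Lpe (K27.f53382 IH) (Lpr_ff (K54.f392887 IH) (Lpe (K50.f221989 IH) (Lpn (LP (LK LD1_c8 LD2_c22 LD3_c21))))))
theorem f883951 : Led Lsl_gt (LP (LK LD1_c8 LD2_c35 LD3_c11)) = (LP (LK LD1_c15 LD2_c46 LD3_c25)) :=
  Lgr Lrot5 (Lpr_ft (f392889 IH) (Lpr_at (f404683 IH) (Lpr_gf (f883949 IH) (Lpn (LP (LK LD1_c15 LD2_c46 LD3_c25))))))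
theorem f884447 : Led Lsl_ct (LP (LK LD1_c16 LD2_c3 LD3_c50)) = v36274 :=
  Lgr Lrot151 (Lpe (f170255 IH) (Lpe (K64.f170254 IH) (Lpe (K64.f170250 IH) (Lpe (K67.f170147 IH) (Lpr_gt (K27.f53378 IH) (Lpr_ct (K27.f53382 IH) (Lpr_gt (f883951 IH) (Lpr_ct (K67.f692273 IH) (Lpr_dt (f884442 IH) (Lpn v36274))))))))))
theorem f692342 : Led Lsl_ft (LP (LK LD1_c4 LD2_c11 LD3_c53)) = (LP (LK LD1_c8 LD2_c23 LD3_c7)) :=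
  Lre_f IH (LK LD1_c4 LD2_c11 LD3_c53) (LK LD1_c8 LD2_c23 LD3_c7) Lrfl Lrfl
def v12471 : LQ := Led Lsl_dt (LP (LK LD1_c4 LD2_c11 LD3_c53))
theorem f692343 : Led Lsl_dt (LP (LK LD1_c4 LD2_c11 LD3_c53)) = v12471 :=
  Lrfl
theorem f692345 : Led Lsl_df (LP (LK LD1_c4 LD2_c11 LD3_c53)) = v12471 :=
  Lgr Lrot38 (Lpr_dt (f692343 IH) (Lpn v12471))
theorem f884445 : Led Lsl_ff v12471 = v36274 :=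
  Lgr Lrot19 (Lpe (f692345 IH) (Lpr_ft (f692342 IH) (Lpr_dt (f884442 IH) (Lpn v36274))))
def v36176 : LQ := Led Lsl_gt (LP (LK LD1_c8 LD2_c21 LD3_c41))
theorem f882588 : Led Lsl_gt (LP (LK LD1_c8 LD2_c21 LD3_c41)) = v36176 :=
  Lrfl
theorem f692344 : Led Lsl_bf (LP (LK LD1_c4 LD2_c11 LD3_c55)) = v12471 :=
  Lgr Lrot93 (Lpr_dt (K54.f51816 IH) (Lpr_bt (K49.f629447 IH) (Lpr_dt (f692343 IH) (Lpn v12471))))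
theorem f882590 : Led Lsl_ct v12471 = v36176 :=
  Lgr Lrot63 (Lpe (f692344 IH) (Lpe (K40.f400511 IH) (Lpe (K38.f178513 IH) (Lpr_ct (K15.f168326 IH) (Lpe (K9.f178830 IH) (Lpe (K9.f53461 IH) (Lpr_bt (K49.f53462 IH) (Lpr_gt (K49.f53463 IH) (Lpr_ct (K50.f170888 IH) (Lpr_gt (f882588 IH) (Lpn v36176)))))))))))
theorem f884449 : Led Lsl_ff (LP (LK LD1_c16 LD2_c3 LD3_c50)) = v36176 :=
  Lgr Lrot23 (Lpr_ct (f884447 IH) (Lpe (f884445 IH) (Lpr_ct (f882590 IH) (Lpn v36176))))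
def v36181 : LQ := Led Lsl_ft (LP (LK LD1_c8 LD2_c21 LD3_c41))
theorem f882612 : Led Lsl_ft (LP (LK LD1_c8 LD2_c21 LD3_c41)) = v36181 :=
  Lrfl
def v36178 : LQ := Led Lsl_at (LP (LK LD1_c8 LD2_c21 LD3_c41))
theorem f882592 : Led Lsl_at (LP (LK LD1_c8 LD2_c21 LD3_c41)) = v36178 :=
  Lrfl
theorem f882593 : Led Lsl_af (LP (LK LD1_c8 LD2_c21 LD3_c41)) = v36178 :=
  Lgr Lrot0 (Lpr_at (f882592 IH) (Lpn v36178))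
def v12412 : LQ := Led Lsl_at (LP (LK LD1_c4 LD2_c10 LD3_c53))
theorem f692045 : Led Lsl_at (LP (LK LD1_c4 LD2_c10 LD3_c53)) = v12412 :=
  Lrfl
theorem f692046 : Led Lsl_af (LP (LK LD1_c4 LD2_c10 LD3_c53)) = v12412 :=
  Lgr Lrot0 (Lpr_at (f692045 IH) (Lpn v12412))
theorem f882594 : Led Lsl_cf v12412 = v36178 :=
  Lgr Lrot1 (Lpe (f692046 IH) (Lpr_ct (K50.f170888 IH) (Lpr_at (f882592 IH) (Lpn v36178))))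
theorem f692047 : Led Lsl_ft (LP (LK LD1_c4 LD2_c10 LD3_c54)) = v12412 :=
  Lgr Lrot2 (Lpr_gt (K50.f167221 IH) (Lpr_gt (K49.f53463 IH) (Lpr_af (f692046 IH) (Lpn v12412))))
theorem f692048 : Led Lsl_ff (LP (LK LD1_c4 LD2_c10 LD3_c54)) = v12412 :=
  Lgr Lrot3 (Lpr_ft (f692047 IH) (Lpn v12412))
theorem f170914 : Led Lsl_ct (LP (LK LD1_c4 LD2_c10 LD3_c54)) = (LP (LK LD1_c8 LD2_c21 LD3_c43)) :=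
  Lre_c IH (LK LD1_c4 LD2_c10 LD3_c54) (LK LD1_c8 LD2_c21 LD3_c43) Lrfl Lrfl
theorem f882596 : Led Lsl_ft (LP (LK LD1_c8 LD2_c21 LD3_c43)) = v36178 :=
  Lgr Lrot4 (Lpe (f170914 IH) (Lpr_ff (f692048 IH) (Lpr_cf (f882594 IH) (Lpn v36178))))
theorem f882613 : Led Lsl_af (LP (LK LD1_c8 LD2_c21 LD3_c43)) = v36181 :=
  Lgr Lrot45 (Lpr_ft (f882596 IH) (Lpe (f882593 IH) (Lpr_ft (f882612 IH) (Lpn v36181))))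
theorem f882616 : Led Lsl_gt v36176 = (LP (LK LD1_c8 LD2_c21 LD3_c43)) :=
  Lgr Lrot46 (Lpe (f882588 IH) (Lpr_ft (f882612 IH) (Lpe (f882613 IH) (Lpn (LP (LK LD1_c8 LD2_c21 LD3_c43))))))
def v36177 : LQ := Led Lsl_gf (LP (LK LD1_c8 LD2_c21 LD3_c41))
theorem f882591 : Led Lsl_gf (LP (LK LD1_c8 LD2_c21 LD3_c41)) = v36177 :=
  Lrfl
theorem f882598 : Led Lsl_gt (LP (LK LD1_c8 LD2_c21 LD3_c43)) = v36177 :=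
  Lgr Lrot5 (Lpr_ft (f882596 IH) (Lpe (f882593 IH) (Lpr_gf (f882591 IH) (Lpn v36177))))
theorem f884451 : Led Lsl_at (LP (LK LD1_c16 LD2_c3 LD3_c50)) = v36177 :=
  Lgr Lrot26 (Lpr_ff (f884449 IH) (Lpr_gt (f882616 IH) (Lpr_gt (f882598 IH) (Lpn v36177))))
theorem f884452 : Led Lsl_af (LP (LK LD1_c16 LD2_c3 LD3_c50)) = v36177 :=
  Lgr Lrot0 (Lpr_at (f884451 IH) (Lpn v36177))
theorem f889526 : Led Lsl_ff v36177 = v36670 :=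
  Lgr Lrot52 (Lpe (f884452 IH) (Lpe (f170255 IH) (Lpr_gf (f889525 IH) (Lpn v36670))))
theorem f884450 : Led Lsl_ft (LP (LK LD1_c16 LD2_c3 LD3_c50)) = v36176 :=
  Lgr Lrot48 (Lpr_ff (f884449 IH) (Lpn v36176))
theorem f889527 : Led Lsl_at v36176 = v36670 :=
  Lgr Lrot66 (Lpe (f884450 IH) (Lpr_af (f884452 IH) (Lpr_ff (f889526 IH) (Lpn v36670))))
theorem f889539 : Led Lsl_gf (LP (LK LD1_c8 LD2_c33 LD3_c32)) = (LP (LK LD1_c16 LD2_c3 LD3_c50)) :=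
  Lgr Lrot47 (Lpr_gt (f889538 IH) (Lpe (f889527 IH) (Lpe (f884450 IH) (Lpn (LP (LK LD1_c16 LD2_c3 LD3_c50))))))
theorem f889540 : Led Lsl_gt (LP (LK LD1_c16 LD2_c3 LD3_c50)) = (LP (LK LD1_c8 LD2_c33 LD3_c32)) :=
  Leop (Lpr_gf (f889539 IH) (Lpn (LP (LK LD1_c16 LD2_c3 LD3_c50))))
theorem seed_2112 : LEOK LG_g (LK LD1_c16 LD2_c3 LD3_c50) :=
  Leoe_g (LK LD1_c16 LD2_c3 LD3_c50) (f889540 IH)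
def v36685 : LQ := Led Lsl_at (LP (LK LD1_c8 LD2_c33 LD3_c38))
theorem f889594 : Led Lsl_at (LP (LK LD1_c8 LD2_c33 LD3_c38)) = v36685 :=
  Lrfl
theorem f231167 : Led Lsl_at (LP (LK LD1_c8 LD2_c20 LD3_c16)) = (LP (LK LD1_c4 LD2_c10 LD3_c18)) :=
  Lre_a IH (LK LD1_c8 LD2_c20 LD3_c16) (LK LD1_c4 LD2_c10 LD3_c18) Lrfl Lrfl
theorem f290569 : Led Lsl_ff (LP (LK LD1_c8 LD2_c20 LD3_c16)) = (LP (LK LD1_c8 LD2_c33 LD3_c39)) :=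
  Lgr Lrot52 (Lpr_at (f231167 IH) (Lpe (K16.f178503 IH) (Lpr_gf (K17.f290567 IH) (Lpn (LP (LK LD1_c8 LD2_c33 LD3_c39))))))
theorem f231169 : Led Lsl_bt (LP (LK LD1_c8 LD2_c20 LD3_c16)) = (LP (LK LD1_c15 LD2_c41 LD3_c37)) :=
  Lre_b IH (LK LD1_c8 LD2_c20 LD3_c16) (LK LD1_c15 LD2_c41 LD3_c37) Lrfl Lrfl
theorem f275413 : Led Lsl_bt (LP (LK LD1_c16 LD2_c4 LD3_c5)) = (LP (LK LD1_c8 LD2_c33 LD3_c39)) :=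
  Lre_b IH (LK LD1_c16 LD2_c4 LD3_c5) (LK LD1_c8 LD2_c33 LD3_c39) Lrfl Lrfl
theorem f407779 : Led Lsl_ft (LP (LK LD1_c15 LD2_c41 LD3_c37)) = (LP (LK LD1_c16 LD2_c4 LD3_c5)) :=
  Lgr Lrot75 (Lpe (f231169 IH) (Lpr_ff (f290569 IH) (Lpe (f275413 IH) (Lpn (LP (LK LD1_c16 LD2_c4 LD3_c5))))))
theorem f407784 : Led Lsl_ff (LP (LK LD1_c15 LD2_c41 LD3_c37)) = (LP (LK LD1_c16 LD2_c4 LD3_c5)) :=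
  Lgr Lrot3 (Lpr_ft (f407779 IH) (Lpn (LP (LK LD1_c16 LD2_c4 LD3_c5))))
theorem f300839 : Led Lsl_dt (LP (LK LD1_c15 LD2_c41 LD3_c37)) = (LP (LK LD1_c8 LD2_c20 LD3_c15)) :=
  Lre_d IH (LK LD1_c15 LD2_c41 LD3_c37) (LK LD1_c8 LD2_c20 LD3_c15) Lrfl Lrfl
theorem f407786 : Led Lsl_dt (LP (LK LD1_c8 LD2_c33 LD3_c38)) = (LP (LK LD1_c16 LD2_c4 LD3_c5)) :=
  Lre_d IH (LK LD1_c8 LD2_c33 LD3_c38) (LK LD1_c16 LD2_c4 LD3_c5) Lrfl Lrfl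
theorem f407787 : Led Lsl_ft (LP (LK LD1_c8 LD2_c20 LD3_c15)) = (LP (LK LD1_c8 LD2_c33 LD3_c38)) :=
  Lgr Lrot54 (Lpe (f300839 IH) (Lpr_ff (f407784 IH) (Lpe (f407786 IH) (Lpn (LP (LK LD1_c8 LD2_c33 LD3_c38))))))
theorem f407789 : Led Lsl_at (LP (LK LD1_c15 LD2_c41 LD3_c36)) = (LP (LK LD1_c8 LD2_c20 LD3_c15)) :=
  Lre_a IH (LK LD1_c15 LD2_c41 LD3_c36) (LK LD1_c8 LD2_c20 LD3_c15) Lrfl Lrfl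
theorem f889598 : Led Lsl_ff (LP (LK LD1_c15 LD2_c41 LD3_c36)) = v36685 :=
  Lgr Lrot30 (Lpr_at (f407789 IH) (Lpr_ft (f407787 IH) (Lpr_at (f889594 IH) (Lpn v36685))))
theorem f889603 : Led Lsl_ft (LP (LK LD1_c15 LD2_c41 LD3_c36)) = v36685 :=
  Lgr Lrot48 (Lpr_ff (f889598 IH) (Lpn v36685))
theorem f889595 : Led Lsl_af (LP (LK LD1_c8 LD2_c33 LD3_c38)) = v36685 :=
  Lgr Lrot0 (Lpr_at (f889594 IH) (Lpn v36685))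
theorem f267624 : Led Lsl_gt (LP (LK LD1_c16 LD2_c4 LD3_c4)) = (LP (LK LD1_c8 LD2_c33 LD3_c38)) :=
  Lre_g IH (LK LD1_c16 LD2_c4 LD3_c4) (LK LD1_c8 LD2_c33 LD3_c38) Lrfl Lrfl
theorem f889605 : Led Lsl_gt (LP (LK LD1_c15 LD2_c41 LD3_c36)) = (LP (LK LD1_c16 LD2_c4 LD3_c4)) :=
  Lgr Lrot5 (Lpr_ft (f889603 IH) (Lpe (f889595 IH) (Lpe (f267624 IH) (Lpn (LP (LK LD1_c16 LD2_c4 LD3_c4))))))
theorem f889606 : Led Lsl_gt (LP (LK LD1_c15 LD2_c41 LD3_c36)) = (LP (LK LD1_c16 LD2_c4 LD3_c4)) :=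
  Leop (Lpe (f889605 IH) (Lpn (LP (LK LD1_c15 LD2_c41 LD3_c36))))
theorem seed_2113 : LEOK LG_g (LK LD1_c15 LD2_c41 LD3_c36) :=
  Leoe_g (LK LD1_c15 LD2_c41 LD3_c36) (f889606 IH)
def v36705 : LQ := Led Lsl_gt (LP (LK LD1_c8 LD2_c34 LD3_c7))
theorem f889713 : Led Lsl_gt (LP (LK LD1_c8 LD2_c34 LD3_c7)) = v36705 :=
  Lrfl
theorem f383229 : Led Lsl_bt (LP (LK LD1_c16 LD2_c4 LD3_c59)) = (LP (LK LD1_c8 LD2_c34 LD3_c7)) :=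
  Lre_b IH (LK LD1_c16 LD2_c4 LD3_c59) (LK LD1_c8 LD2_c34 LD3_c7) Lrfl Lrfl
theorem f383218 : Led Lsl_df (LP (LK LD1_c20 LD2_c19 LD3_c22)) = (LP (LK LD1_c26 LD2_c40 LD3_c16)) :=
  Lgr Lrot38 (Lpr_dt (K64.f383214 IH) (Lpn (LP (LK LD1_c26 LD2_c40 LD3_c16))))
theorem f243821 : Led Lsl_ct (LP (LK LD1_c5 LD2_c45 LD3_c35)) = (LP (LK LD1_c2 LD2_c48 LD3_c34)) :=
  Lre_c IH (LK LD1_c5 LD2_c45 LD3_c35) (LK LD1_c2 LD2_c48 LD3_c34) Lrfl Lrfl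
theorem f383227 : Led Lsl_ct (LP (LK LD1_c16 LD2_c4 LD3_c59)) = (LP (LK LD1_c11 LD2_c21 LD3_c38)) :=
  Lgr Lrot176 (Lpe (K27.f179717 IH) (Lpr_cf (K67.f382746 IH) (Lpe (K67.f179159 IH) (Lpe (K67.f179145 IH) (Lpe (K27.f179154 IH) (Lpe (K67.f179156 IH) (Lpe (K54.f179157 IH) (Lpe (K54.f179158 IH) (Lpr_df (f383218 IH) (Lpe (K64.f341358 IH) (Lpe (K67.f341361 IH) (Lpe (K31.f274898 IH) (Lpe (K27.f380940 IH) (Lpe (f243821 IH) (Lpe (K54.f172911 IH) (Lpn (LP (LK LD1_c11 LD2_c21 LD3_c38))))))))))))))))))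
theorem f422546 : Led Lsl_bt (LP (LK LD1_c15 LD2_c42 LD3_c30)) = (LP (LK LD1_c25 LD2_c38 LD3_c21)) :=
  Lre_b IH (LK LD1_c15 LD2_c42 LD3_c30) (LK LD1_c25 LD2_c38 LD3_c21) Lrfl Lrfl
theorem f889714 : Led Lsl_cf K67.v12611 = v36705 :=
  Lgr Lrot99 (Lpe (K67.f693789 IH) (Lpe (f52221 IH) (Lpe (K41.f170215 IH) (Lpe (K27.f170214 IH) (Lpe (K20.f7932 IH) (Lpe (K50.f170207 IH) (Lpr_gt (K27.f167656 IH) (Lpr_ct (K50.f167660 IH) (Lpr_gt (f889713 IH) (Lpn v36705))))))))))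
theorem f417684 : Led Lsl_bt (LP (LK LD1_c8 LD2_c20 LD3_c46)) = (LP (LK LD1_c15 LD2_c42 LD3_c36)) :=
  Lre_b IH (LK LD1_c8 LD2_c20 LD3_c46) (LK LD1_c15 LD2_c42 LD3_c36) Lrfl Lrfl
theorem f889715 : Led Lsl_gf (LP (LK LD1_c25 LD2_c38 LD3_c21)) = (LP (LK LD1_c15 LD2_c42 LD3_c36)) :=
  Lgr Lrot124 (Lpe (f422546 IH) (Lpe (K67.f422542 IH) (Lpr_gt (K67.f380942 IH) (Lpe (f383227 IH) (Lpr_bt (f383229 IH) (Lpr_gt (f889713 IH) (Lpe (f889714 IH) (Lpr_gt (K67.f882354 IH) (Lpe (K67.f882350 IH) (Lpr_bt (f417684 IH) (Lpn (LP (LK LD1_c15 LD2_c42 LD3_c36)))))))))))))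
theorem f889716 : Led Lsl_gt (LP (LK LD1_c15 LD2_c42 LD3_c36)) = (LP (LK LD1_c25 LD2_c38 LD3_c21)) :=
  Leop (Lpr_gf (f889715 IH) (Lpn (LP (LK LD1_c15 LD2_c42 LD3_c36))))
theorem seed_2114 : LEOK LG_g (LK LD1_c15 LD2_c42 LD3_c36) :=
  Leoe_g (LK LD1_c15 LD2_c42 LD3_c36) (f889716 IH)
theorem f51760 : Led Lsl_dt (LP (LK LD1_c4 LD2_c18 LD3_c29)) = (LP (LK LD1_c2 LD2_c6 LD3_c31)) :=
  Lre_d IH (LK LD1_c4 LD2_c18 LD3_c29) (LK LD1_c2 LD2_c6 LD3_c31) Lrfl Lrfl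
theorem f693790 : Led Lsl_bf (LP (LK LD1_c4 LD2_c18 LD3_c29)) = K67.v12611 :=
  Lgr Lrot93 (Lpr_dt (f51760 IH) (Lpr_bt (K66.f398172 IH) (Lpr_dt (K67.f693789 IH) (Lpn K67.v12611))))
theorem f889717 : Led Lsl_ct K67.v12611 = v36705 :=
  Lgr Lrot63 (Lpe (f693790 IH) (Lpr_gt (K54.f550393 IH) (Lpe (K15.f167649 IH) (Lpr_ct (K13.f167648 IH) (Lpr_gt (K12.f167650 IH) (Lpe (K9.f7910 IH) (Lpr_bt (K50.f167655 IH) (Lpr_gt (K27.f167656 IH) (Lpr_ct (K50.f167660 IH) (Lpr_gt (f889713 IH) (Lpn v36705)))))))))))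
theorem f693788 : Led Lsl_af (LP (LK LD1_c4 LD2_c18 LD3_c27)) = v12610 :=
  Lgr Lrot0 (Lpr_at (f693787 IH) (Lpn v12610))
theorem f885373 : Led Lsl_at K67.v12611 = v36400 :=
  Lgr Lrot51 (Lpe (K67.f693789 IH) (Lpr_af (f693788 IH) (Lpr_df (f885372 IH) (Lpn v36400))))
theorem f885390 : Led Lsl_af K67.v12611 = v36400 :=
  Lgr Lrot0 (Lpr_at (f885373 IH) (Lpn v36400))
theorem f889718 : Led Lsl_af v36151 = v36705 :=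
  Lgr Lrot68 (Lpr_ct (f885374 IH) (Lpe (f885390 IH) (Lpr_ct (f889717 IH) (Lpn v36705))))
theorem f889724 : Led Lsl_at v36151 = v36705 :=
  Lgr Lrot100 (Lpr_af (f889718 IH) (Lpn v36705))
theorem f380960 : Led Lsl_gt (LP (LK LD1_c16 LD2_c4 LD3_c58)) = (LP (LK LD1_c8 LD2_c34 LD3_c7)) :=
  Lre_g IH (LK LD1_c16 LD2_c4 LD3_c58) (LK LD1_c8 LD2_c34 LD3_c7) Lrfl Lrfl
theorem f889725 : Led Lsl_ff v36151 = (LP (LK LD1_c16 LD2_c4 LD3_c58)) :=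
  Lgr Lrot52 (Lpr_at (f889724 IH) (Lpe (f889713 IH) (Lpe (f380960 IH) (Lpn (LP (LK LD1_c16 LD2_c4 LD3_c58))))))
def v36141 : LQ := Led Lsl_bt (LP (LK LD1_c8 LD2_c21 LD3_c1))
theorem f882415 : Led Lsl_bt (LP (LK LD1_c8 LD2_c21 LD3_c1)) = v36141 :=
  Lrfl
theorem f882418 : Led Lsl_ff K67.v12611 = v36141 :=
  Lgr Lrot25 (Lpe (f693790 IH) (Lpr_ft (K54.f693772 IH) (Lpqs (K54.f716570 IH) (Lpr_bt (f882415 IH) (Lpn v36141)))))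
theorem f882419 : Led Lsl_dt v12613 = v36141 :=
  Lgr Lrot60 (Lpe (f693797 IH) (Lpr_df (K67.f693791 IH) (Lpr_ff (f882418 IH) (Lpn v36141))))
theorem f53347 : Led Lsl_cf (LP (LK LD1_c8 LD2_c23 LD3_c36)) = (LP (LK LD1_c15 LD2_c46 LD3_c13)) :=
  Lgr Lrot11 (Lpr_ct (f53343 IH) (Lpn (LP (LK LD1_c15 LD2_c46 LD3_c13))))
theorem f882421 : Led Lsl_ct (LP (LK LD1_c15 LD2_c43 LD3_c12)) = v36141 :=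
  Lgr Lrot151 (Lpe (K67.f171007 IH) (Lpe (K67.f171006 IH) (Lpe (K49.f171002 IH) (Lpe (K67.f170970 IH) (Lpr_gt (K20.f53152 IH) (Lpr_ct (K49.f53341 IH) (Lpr_gt (f53342 IH) (Lpe (f53347 IH) (Lpq (f716562 IH) (Lpr_dt (f882419 IH) (Lpn v36141)))))))))))
theorem f889719 : Led Lsl_ff (LP (LK LD1_c15 LD2_c43 LD3_c12)) = v36705 :=
  Lgr Lrot23 (Lpr_ct (f882421 IH) (Lpe (f882418 IH) (Lpr_ct (f889717 IH) (Lpn v36705))))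
theorem f889726 : Led Lsl_at (LP (LK LD1_c15 LD2_c43 LD3_c12)) = (LP (LK LD1_c16 LD2_c4 LD3_c58)) :=
  Lgr Lrot66 (Lpr_ff (f889719 IH) (Lpe (f889724 IH) (Lpr_ff (f889725 IH) (Lpn (LP (LK LD1_c16 LD2_c4 LD3_c58))))))
theorem f889727 : Led Lsl_at (LP (LK LD1_c15 LD2_c43 LD3_c12)) = (LP (LK LD1_c16 LD2_c4 LD3_c58)) :=
  Leop (Lpe (f889726 IH) (Lpn (LP (LK LD1_c15 LD2_c43 LD3_c12))))
theorem seed_2115 : LEOK LG_a (LK LD1_c15 LD2_c43 LD3_c12) :=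
  Leoe_a (LK LD1_c15 LD2_c43 LD3_c12) (f889727 IH)
def v36688 : LQ := Led Lsl_ct (LP (LK LD1_c8 LD2_c33 LD3_c55))
theorem f889615 : Led Lsl_ct (LP (LK LD1_c8 LD2_c33 LD3_c55)) = v36688 :=
  Lrfl
theorem f167234 : Led Lsl_ct (LP (LK LD1_c2 LD2_c2 LD3_c42)) = (LP (LK LD1_c4 LD2_c10 LD3_c46)) :=
  Lre_c IH (LK LD1_c2 LD2_c2 LD3_c42) (LK LD1_c4 LD2_c10 LD3_c46) Lrfl Lrfl
theorem f889620 : Led Lsl_df v36166 = v36688 :=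
  Lgr Lrot162 (Lpe (f882540 IH) (Lpe (f167235 IH) (Lpe (f167234 IH) (Lpe (K50.f167221 IH) (Lpe (K50.f404626 IH) (Lpr_gt (K50.f170218 IH) (Lpr_ct (K50.f166494 IH) (Lpr_gt (K67.f166495 IH) (Lpr_ct (f889615 IH) (Lpn v36688))))))))))
def v36167 : LQ := Led Lsl_dt (LP (LK LD1_c8 LD2_c21 LD3_c24))
theorem f882544 : Led Lsl_dt (LP (LK LD1_c8 LD2_c21 LD3_c24)) = v36167 :=
  Lrfl
theorem f882545 : Led Lsl_df (LP (LK LD1_c8 LD2_c21 LD3_c24)) = v36167 :=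
  Lgr Lrot38 (Lpr_dt (f882544 IH) (Lpn v36167))
def v36232 : LQ := Led Lsl_dt (LP (LK LD1_c8 LD2_c22 LD3_c41))
theorem f882864 : Led Lsl_dt (LP (LK LD1_c8 LD2_c22 LD3_c41)) = v36232 :=
  Lrfl
theorem f882866 : Led Lsl_df (LP (LK LD1_c8 LD2_c22 LD3_c41)) = v36232 :=
  Lgr Lrot38 (Lpr_dt (f882864 IH) (Lpn v36232))
theorem f882868 : Led Lsl_gt v36167 = v36232 :=
  Lgr Lrot49 (Lpe (f882544 IH) (Lpe (f167235 IH) (Lpe (f167234 IH) (Lpr_gt (K49.f53463 IH) (Lpe (K50.f382735 IH) (Lpe (K50.f404640 IH) (Lpe (K50.f170990 IH) (Lpe (K41.f171021 IH) (Lpr_df (f882866 IH) (Lpn v36232))))))))))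
theorem f171027 : Led Lsl_dt (LP (LK LD1_c4 LD2_c11 LD3_c28)) = (LP (LK LD1_c8 LD2_c22 LD3_c42)) :=
  Lre_d IH (LK LD1_c4 LD2_c11 LD3_c28) (LK LD1_c8 LD2_c22 LD3_c42) Lrfl Lrfl
theorem f882867 : Led Lsl_at (LP (LK LD1_c8 LD2_c22 LD3_c42)) = v36232 :=
  Lgr Lrot51 (Lpe (f171027 IH) (Lpe (K41.f171030 IH) (Lpr_df (f882866 IH) (Lpn v36232))))
theorem f170223 : Led Lsl_dt (LP (LK LD1_c4 LD2_c17 LD3_c41)) = (LP (LK LD1_c8 LD2_c34 LD3_c24)) :=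
  Lre_d IH (LK LD1_c4 LD2_c17 LD3_c41) (LK LD1_c8 LD2_c34 LD3_c24) Lrfl Lrfl
theorem f403495 : Led Lsl_ff (LP (LK LD1_c8 LD2_c22 LD3_c42)) = (LP (LK LD1_c8 LD2_c34 LD3_c24)) :=
  Lgr Lrot19 (Lpr_dt (K67.f170993 IH) (Lpr_ft (K41.f403487 IH) (Lpr_dt (f170223 IH) (Lpn (LP (LK LD1_c8 LD2_c34 LD3_c24))))))
theorem f882869 : Led Lsl_gf v36167 = (LP (LK LD1_c8 LD2_c34 LD3_c24)) :=
  Lgr Lrot47 (Lpr_gt (f882868 IH) (Lpe (f882867 IH) (Lpr_ff (f403495 IH) (Lpn (LP (LK LD1_c8 LD2_c34 LD3_c24))))))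
theorem f270621 : Led Lsl_bt (LP (LK LD1_c8 LD2_c22 LD3_c40)) = (LP (LK LD1_c15 LD2_c45 LD3_c51)) :=
  Lre_b IH (LK LD1_c8 LD2_c22 LD3_c40) (LK LD1_c15 LD2_c45 LD3_c51) Lrfl Lrfl
theorem f579878 : Led Lsl_ft (LP (LK LD1_c8 LD2_c34 LD3_c22)) = (LP (LK LD1_c8 LD2_c22 LD3_c40)) :=
  Lgr Lrot75 (Lpr_bf (K50.f318733 IH) (Lpr_ff (K44.f579876 IH) (Lpe (f270621 IH) (Lpn (LP (LK LD1_c8 LD2_c22 LD3_c40))))))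
theorem f580021 : Led Lsl_at (LP (LK LD1_c8 LD2_c22 LD3_c40)) = (LP (LK LD1_c8 LD2_c34 LD3_c21)) :=
  Lgr Lrot66 (Lpe (f579878 IH) (Lpr_af (f580017 IH) (Lpe (f580015 IH) (Lpn (LP (LK LD1_c8 LD2_c34 LD3_c21))))))
theorem f170884 : Led Lsl_dt (LP (LK LD1_c8 LD2_c21 LD3_c27)) = (LP (LK LD1_c4 LD2_c10 LD3_c46)) :=
  Lre_d IH (LK LD1_c8 LD2_c21 LD3_c27) (LK LD1_c4 LD2_c10 LD3_c46) Lrfl Lrfl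
theorem f170885 : Led Lsl_gt (LP (LK LD1_c15 LD2_c43 LD3_c41)) = (LP (LK LD1_c8 LD2_c21 LD3_c27)) :=
  Lre_g IH (LK LD1_c15 LD2_c43 LD3_c41) (LK LD1_c8 LD2_c21 LD3_c27) Lrfl Lrfl
theorem f404814 : Led Lsl_df (LP (LK LD1_c15 LD2_c43 LD3_c41)) = (LP (LK LD1_c8 LD2_c22 LD3_c40)) :=
  Lgr Lrot153 (Lpr_gt (f170885 IH) (Lpr_dt (f170884 IH) (Lpe (f167234 IH) (Lpr_df (K50.f170871 IH) (Lpe (K49.f51531 IH) (Lpr_df (f404694 IH) (Lpr_gf (K49.f404595 IH) (Lpe (K66.f170234 IH) (Lpe (K54.f403503 IH) (Lpn (LP (LK LD1_c8 LD2_c22 LD3_c40))))))))))))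
theorem f404816 : Led Lsl_dt (LP (LK LD1_c15 LD2_c43 LD3_c41)) = (LP (LK LD1_c8 LD2_c22 LD3_c40)) :=
  Lgr Lrot42 (Lpr_df (f404814 IH) (Lpn (LP (LK LD1_c8 LD2_c22 LD3_c40))))
theorem f170909 : Led Lsl_dt (LP (LK LD1_c8 LD2_c21 LD3_c26)) = (LP (LK LD1_c15 LD2_c43 LD3_c40)) :=
  Lre_d IH (LK LD1_c8 LD2_c21 LD3_c26) (LK LD1_c15 LD2_c43 LD3_c40) Lrfl Lrfl
theorem f170267 : Led Lsl_dt (LP (LK LD1_c16 LD2_c3 LD3_c11)) = (LP (LK LD1_c8 LD2_c33 LD3_c7)) :=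
  Lre_d IH (LK LD1_c16 LD2_c3 LD3_c11) (LK LD1_c8 LD2_c33 LD3_c7) Lrfl Lrfl
theorem f406113 : Led Lsl_ft (LP (LK LD1_c15 LD2_c43 LD3_c40)) = (LP (LK LD1_c16 LD2_c3 LD3_c11)) :=
  Lgr Lrot54 (Lpe (f170909 IH) (Lpr_ff (K50.f406104 IH) (Lpe (f170267 IH) (Lpn (LP (LK LD1_c16 LD2_c3 LD3_c11))))))
theorem f406141 : Led Lsl_at (LP (LK LD1_c8 LD2_c21 LD3_c27)) = (LP (LK LD1_c15 LD2_c43 LD3_c40)) :=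
  Lre_a IH (LK LD1_c8 LD2_c21 LD3_c27) (LK LD1_c15 LD2_c43 LD3_c40) Lrfl Lrfl
theorem f216584 : Led Lsl_at (LP (LK LD1_c16 LD2_c3 LD3_c11)) = (LP (LK LD1_c8 LD2_c33 LD3_c8)) :=
  Lre_a IH (LK LD1_c16 LD2_c3 LD3_c11) (LK LD1_c8 LD2_c33 LD3_c8) Lrfl Lrfl
theorem f406142 : Led Lsl_ff (LP (LK LD1_c8 LD2_c21 LD3_c27)) = (LP (LK LD1_c8 LD2_c33 LD3_c8)) :=
  Lgr Lrot30 (Lpr_at (f406141 IH) (Lpr_ft (f406113 IH) (Lpr_at (f216584 IH) (Lpn (LP (LK LD1_c8 LD2_c33 LD3_c8))))))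
theorem f178337 : Led Lsl_gt (LP (LK LD1_c8 LD2_c33 LD3_c8)) = (LP (LK LD1_c16 LD2_c3 LD3_c12)) :=
  Lre_g IH (LK LD1_c8 LD2_c33 LD3_c8) (LK LD1_c16 LD2_c3 LD3_c12) Lrfl Lrfl
theorem f406153 : Led Lsl_gf (LP (LK LD1_c15 LD2_c43 LD3_c40)) = (LP (LK LD1_c16 LD2_c3 LD3_c12)) :=
  Lgr Lrot76 (Lpe (f406141 IH) (Lpr_ff (f406142 IH) (Lpr_gt (f178337 IH) (Lpn (LP (LK LD1_c16 LD2_c3 LD3_c12))))))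
theorem f170897 : Led Lsl_dt (LP (LK LD1_c15 LD2_c43 LD3_c40)) = (LP (LK LD1_c8 LD2_c21 LD3_c26)) :=
  Lre_d IH (LK LD1_c15 LD2_c43 LD3_c40) (LK LD1_c8 LD2_c21 LD3_c26) Lrfl Lrfl
theorem f170900 : Led Lsl_df (LP (LK LD1_c4 LD2_c10 LD3_c55)) = (LP (LK LD1_c4 LD2_c11 LD3_c14)) :=
  Lgr Lrot38 (Lpr_dt (K50.f170878 IH) (Lpn (LP (LK LD1_c4 LD2_c11 LD3_c14))))
theorem f406077 : Led Lsl_gf (LP (LK LD1_c4 LD2_c11 LD3_c14)) = (LP (LK LD1_c4 LD2_c18 LD3_c8)) :=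
  Lgr Lrot47 (Lpr_gt (K50.f406074 IH) (Lpe (K50.f404658 IH) (Lpe (K50.f392883 IH) (Lpn (LP (LK LD1_c4 LD2_c18 LD3_c8))))))
theorem f167300 : Led Lsl_ct (LP (LK LD1_c2 LD2_c6 LD3_c13)) = (LP (LK LD1_c4 LD2_c17 LD3_c41)) :=
  Lre_c IH (LK LD1_c2 LD2_c6 LD3_c13) (LK LD1_c4 LD2_c17 LD3_c41) Lrfl Lrfl
theorem f406155 : Led Lsl_dt (LP (LK LD1_c8 LD2_c34 LD3_c21)) = (LP (LK LD1_c16 LD2_c3 LD3_c12)) :=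
  Lgr Lrot57 (Lpe (K38.f7990 IH) (Lpe (f167300 IH) (Lpr_gt (K20.f7932 IH) (Lpr_dt (K27.f318761 IH) (Lpe (f406077 IH) (Lpe (f170900 IH) (Lpe (K50.f170896 IH) (Lpe (f170897 IH) (Lpr_gf (f406153 IH) (Lpn (LP (LK LD1_c16 LD2_c3 LD3_c12))))))))))))
theorem f580025 : Led Lsl_af (LP (LK LD1_c15 LD2_c43 LD3_c41)) = (LP (LK LD1_c16 LD2_c3 LD3_c12)) :=
  Lgr Lrot117 (Lpr_dt (f404816 IH) (Lpr_at (f580021 IH) (Lpr_dt (f406155 IH) (Lpn (LP (LK LD1_c16 LD2_c3 LD3_c12))))))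
theorem f580041 : Led Lsl_at (LP (LK LD1_c15 LD2_c43 LD3_c41)) = (LP (LK LD1_c16 LD2_c3 LD3_c12)) :=
  Lgr Lrot100 (Lpr_af (f580025 IH) (Lpn (LP (LK LD1_c16 LD2_c3 LD3_c12))))
theorem f580045 : Led Lsl_ff (LP (LK LD1_c15 LD2_c43 LD3_c41)) = (LP (LK LD1_c9 LD2_c45 LD3_c26)) :=
  Lgr Lrot52 (Lpr_at (f580041 IH) (Lpe (f178337 IH) (Lpr_gf (K27.f216429 IH) (Lpn (LP (LK LD1_c9 LD2_c45 LD3_c26))))))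
theorem f580049 : Led Lsl_ft (LP (LK LD1_c8 LD2_c22 LD3_c40)) = (LP (LK LD1_c8 LD2_c34 LD3_c22)) :=
  Lgr Lrot54 (Lpe (f404816 IH) (Lpr_ff (f580045 IH) (Lpe (K50.f318746 IH) (Lpn (LP (LK LD1_c8 LD2_c34 LD3_c22))))))
theorem f841585 : Led Lsl_ct (LP (LK LD1_c8 LD2_c34 LD3_c22)) = K66.v27840 :=
  Lgr Lrot40 (Lpe (f580049 IH) (Lpr_cf (K49.f421780 IH) (Lpr_ff (K66.f841584 IH) (Lpn K66.v27840))))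
theorem f841586 : Led Lsl_dt v12469 = K66.v27840 :=
  Lgr Lrot60 (Lpe (f738640 IH) (Lpr_df (K54.f421803 IH) (Lpr_ff (K66.f841584 IH) (Lpn K66.v27840))))
theorem f392848 : Led Lsl_gt (LP (LK LD1_c15 LD2_c46 LD3_c13)) = (LP (LK LD1_c8 LD2_c22 LD3_c56)) :=
  Lgr Lrot46 (Lpe (f53342 IH) (Lpe (K41.f390351 IH) (Lpr_at (K49.f392836 IH) (Lpn (LP (LK LD1_c8 LD2_c22 LD3_c56))))))
theorem f841590 : Led Lsl_gf (LP (LK LD1_c8 LD2_c23 LD3_c36)) = K66.v27840 :=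
  Lgr Lrot179 (Lpr_ct (f53343 IH) (Lpr_gt (f392848 IH) (Lpr_ct (K49.f171005 IH) (Lpe (f404694 IH) (Lpe (K49.f170886 IH) (Lpr_gf (K50.f404789 IH) (Lpe (K50.f52218 IH) (Lpr_gf (f692338 IH) (Lpr_dt (f841586 IH) (Lpn K66.v27840))))))))))
theorem f889623 : Led Lsl_gt v36141 = v36688 :=
  Lgr Lrot49 (Lpe (f882419 IH) (Lpqs (f716562 IH) (Lpr_gf (f841590 IH) (Lpe (f841585 IH) (Lpr_gt (K50.f167301 IH) (Lpr_dt (f170223 IH) (Lpe (f882869 IH) (Lpe (f882545 IH) (Lpr_cf (f882542 IH) (Lpr_df (f889620 IH) (Lpn v36688)))))))))))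
theorem f889624 : Led Lsl_gf v36400 = v36688 :=
  Lgr Lrot76 (Lpe (f885373 IH) (Lpr_ff (f882418 IH) (Lpr_gt (f889623 IH) (Lpn v36688))))
theorem f231125 : Led Lsl_bt (LP (LK LD1_c2 LD2_c6 LD3_c1)) = (LP (LK LD1_c4 LD2_c17 LD3_c24)) :=
  Lre_b IH (LK LD1_c2 LD2_c6 LD3_c1) (LK LD1_c4 LD2_c17 LD3_c24) Lrfl Lrfl
theorem f238696 : Led Lsl_gt (LP (LK LD1_c16 LD2_c4 LD3_c19)) = (LP (LK LD1_c8 LD2_c33 LD3_c46)) :=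
  Lre_g IH (LK LD1_c16 LD2_c4 LD3_c19) (LK LD1_c8 LD2_c33 LD3_c46) Lrfl Lrfl
theorem f889625 : Led Lsl_bt v36151 = (LP (LK LD1_c16 LD2_c4 LD3_c19)) :=
  Lgr Lrot22 (Lpr_ct (f885374 IH) (Lpr_gf (f889624 IH) (Lpe (f889615 IH) (Lpe (K67.f166495 IH) (Lpe (f231125 IH) (Lpr_ct (K12.f179628 IH) (Lpe (K14.f7877 IH) (Lpe (K15.f199584 IH) (Lpr_bt (f238628 IH) (Lpe (f238696 IH) (Lpn (LP (LK LD1_c16 LD2_c4 LD3_c19)))))))))))))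
theorem f238654 : Led Lsl_bt (LP (LK LD1_c26 LD2_c5 LD3_c13)) = (LP (LK LD1_c16 LD2_c8 LD3_c29)) :=
  Lre_b IH (LK LD1_c26 LD2_c5 LD3_c13) (LK LD1_c16 LD2_c8 LD3_c29) Lrfl Lrfl
theorem f238656 : Led Lsl_bt (LP (LK LD1_c16 LD2_c4 LD3_c27)) = (LP (LK LD1_c26 LD2_c1 LD3_c37)) :=
  Lre_b IH (LK LD1_c16 LD2_c4 LD3_c27) (LK LD1_c26 LD2_c1 LD3_c37) Lrfl Lrfl
theorem f238657 : Led Lsl_cf (LP (LK LD1_c26 LD2_c5 LD3_c13)) = (LP (LK LD1_c26 LD2_c1 LD3_c37)) :=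
  Lgr Lrot97 (Lpr_bt (f238654 IH) (Lpr_ct (K16.f238653 IH) (Lpr_bt (K14.f238645 IH) (Lpr_ct (K15.f238655 IH) (Lpr_bt (f238656 IH) (Lpn (LP (LK LD1_c26 LD2_c1 LD3_c37))))))))
theorem f238662 : Led Lsl_ct (LP (LK LD1_c26 LD2_c5 LD3_c13)) = (LP (LK LD1_c26 LD2_c1 LD3_c37)) :=
  Lgr Lrot59 (Lpr_cf (f238657 IH) (Lpn (LP (LK LD1_c26 LD2_c1 LD3_c37))))
theorem f238669 : Led Lsl_ft (LP (LK LD1_c16 LD2_c8 LD3_c27)) = (LP (LK LD1_c26 LD2_c5 LD3_c13)) :=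
  Lre_f IH (LK LD1_c16 LD2_c8 LD3_c27) (LK LD1_c26 LD2_c5 LD3_c13) Lrfl Lrfl
theorem f238670 : Led Lsl_ft (LP (LK LD1_c26 LD2_c1 LD3_c37)) = (LP (LK LD1_c16 LD2_c4 LD3_c22)) :=
  Lre_f IH (LK LD1_c26 LD2_c1 LD3_c37) (LK LD1_c16 LD2_c4 LD3_c22) Lrfl Lrfl
theorem f238671 : Led Lsl_cf (LP (LK LD1_c16 LD2_c8 LD3_c27)) = (LP (LK LD1_c16 LD2_c4 LD3_c22)) :=
  Lgr Lrot108 (Lpr_ft (f238669 IH) (Lpr_ct (f238662 IH) (Lpr_ft (f238670 IH) (Lpn (LP (LK LD1_c16 LD2_c4 LD3_c22))))))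
theorem f238679 : Led Lsl_et (LP (LK LD1_c16 LD2_c8 LD3_c27)) = (LP (LK LD1_c8 LD2_c36 LD3_c60)) :=
  Lre_e IH (LK LD1_c16 LD2_c8 LD3_c27) (LK LD1_c8 LD2_c36 LD3_c60) Lrfl Lrfl
theorem f238680 : Led Lsl_et (LP (LK LD1_c8 LD2_c33 LD3_c46)) = (LP (LK LD1_c16 LD2_c4 LD3_c22)) :=
  Lre_e IH (LK LD1_c8 LD2_c33 LD3_c46) (LK LD1_c16 LD2_c4 LD3_c22) Lrfl Lrfl
theorem f238681 : Led Lsl_ct (LP (LK LD1_c8 LD2_c36 LD3_c60)) = (LP (LK LD1_c8 LD2_c33 LD3_c46)) :=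
  Lgr Lrot15 (Lpe (f238679 IH) (Lpr_cf (f238671 IH) (Lpe (f238680 IH) (Lpn (LP (LK LD1_c8 LD2_c33 LD3_c46))))))
theorem f238602 : Led Lsl_bt (LP (LK LD1_c8 LD2_c40 LD3_c57)) = (LP (LK LD1_c16 LD2_c15 LD3_c31)) :=
  Lre_b IH (LK LD1_c8 LD2_c40 LD3_c57) (LK LD1_c16 LD2_c15 LD3_c31) Lrfl Lrfl
theorem f238693 : Led Lsl_gt (LP (LK LD1_c8 LD2_c33 LD3_c46)) = (LP (LK LD1_c16 LD2_c4 LD3_c18)) :=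
  Lre_g IH (LK LD1_c8 LD2_c33 LD3_c46) (LK LD1_c16 LD2_c4 LD3_c18) Lrfl Lrfl
theorem f238697 : Led Lsl_ct (LP (LK LD1_c26 LD2_c1 LD3_c35)) = (LP (LK LD1_c16 LD2_c4 LD3_c18)) :=
  Lre_c IH (LK LD1_c26 LD2_c1 LD3_c35) (LK LD1_c16 LD2_c4 LD3_c18) Lrfl Lrfl
theorem f238698 : Led Lsl_bf (LP (LK LD1_c26 LD2_c12 LD3_c60)) = (LP (LK LD1_c26 LD2_c1 LD3_c35)) :=
  Lgr Lrot156 (Lpr_gt (K54.f238603 IH) (Lpe (f238602 IH) (Lpr_ct (f238521 IH) (Lpr_gt (f238522 IH) (Lpe (f238523 IH) (Lpr_bt (f238520 IH) (Lpr_gt (f238519 IH) (Lpr_ct (f238681 IH) (Lpr_gt (f238693 IH) (Lpe (f238697 IH) (Lpn (LP (LK LD1_c26 LD2_c1 LD3_c35)))))))))))))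
theorem f716685 : Led Lsl_at (LP (LK LD1_c20 LD2_c4 LD3_c11)) = (LP (LK LD1_c26 LD2_c1 LD3_c35)) :=
  Lgr Lrot67 (Lpe (f236973 IH) (Lpr_af (f716681 IH) (Lpe (K54.f232278 IH) (Lpe (K54.f716610 IH) (Lpr_bf (f238698 IH) (Lpn (LP (LK LD1_c26 LD2_c1 LD3_c35))))))))
theorem f236970 : Led Lsl_gt (LP (LK LD1_c15 LD2_c42 LD3_c13)) = (LP (LK LD1_c8 LD2_c20 LD3_c35)) :=
  Lre_g IH (LK LD1_c15 LD2_c42 LD3_c13) (LK LD1_c8 LD2_c20 LD3_c35) Lrfl Lrfl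
theorem f168470 : Led Lsl_bt (LP (LK LD1_c9 LD2_c44 LD3_c48)) = (LP (LK LD1_c4 LD2_c56 LD3_c45)) :=
  Lre_b IH (LK LD1_c9 LD2_c44 LD3_c48) (LK LD1_c4 LD2_c56 LD3_c45) Lrfl Lrfl
theorem f196968 : Led Lsl_bt (LP (LK LD1_c20 LD2_c4 LD3_c11)) = (LP (LK LD1_c11 LD2_c9 LD3_c43)) :=
  Lre_b IH (LK LD1_c20 LD2_c4 LD3_c11) (LK LD1_c11 LD2_c9 LD3_c43) Lrfl Lrfl
theorem f236971 : Led Lsl_cf (LP (LK LD1_c15 LD2_c42 LD3_c13)) = (LP (LK LD1_c20 LD2_c4 LD3_c11)) :=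
  Lgr Lrot160 (Lpr_gt (f236970 IH) (Lpr_cf (f236944 IH) (Lpr_bt (f168470 IH) (Lpe (K13.f236921 IH) (Lpr_ct (K13.f196325 IH) (Lpr_gt (K11.f196952 IH) (Lpe (K16.f179540 IH) (Lpr_bt (K52.f196967 IH) (Lpr_gt (f179108 IH) (Lpe (f196968 IH) (Lpn (LP (LK LD1_c20 LD2_c4 LD3_c11)))))))))))))
theorem f236974 : Led Lsl_ct (LP (LK LD1_c15 LD2_c42 LD3_c13)) = (LP (LK LD1_c20 LD2_c4 LD3_c11)) :=
  Lgr Lrot59 (Lpr_cf (f236971 IH) (Lpn (LP (LK LD1_c20 LD2_c4 LD3_c11))))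
theorem f716761 : Led Lsl_af (LP (LK LD1_c15 LD2_c42 LD3_c13)) = (LP (LK LD1_c16 LD2_c4 LD3_c18)) :=
  Lgr Lrot68 (Lpr_ct (f236974 IH) (Lpr_at (f716685 IH) (Lpr_ct (f238697 IH) (Lpn (LP (LK LD1_c16 LD2_c4 LD3_c18))))))
theorem f236980 : Led Lsl_bt (LP (LK LD1_c4 LD2_c10 LD3_c13)) = (LP (LK LD1_c8 LD2_c20 LD3_c35)) :=
  Lre_b IH (LK LD1_c4 LD2_c10 LD3_c13) (LK LD1_c8 LD2_c20 LD3_c35) Lrfl Lrfl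
theorem f236957 : Led Lsl_at (LP (LK LD1_c8 LD2_c20 LD3_c35)) = (LP (LK LD1_c15 LD2_c42 LD3_c14)) :=
  Lre_a IH (LK LD1_c8 LD2_c20 LD3_c35) (LK LD1_c15 LD2_c42 LD3_c14) Lrfl Lrfl
theorem f166504 : Led Lsl_bt (LP (LK LD1_c8 LD2_c33 LD3_c43)) = (LP (LK LD1_c4 LD2_c17 LD3_c18)) :=
  Lre_b IH (LK LD1_c8 LD2_c33 LD3_c43) (LK LD1_c4 LD2_c17 LD3_c18) Lrfl Lrfl
theorem f166529 : Led Lsl_at (LP (LK LD1_c16 LD2_c4 LD3_c12)) = (LP (LK LD1_c8 LD2_c33 LD3_c43)) :=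
  Lre_a IH (LK LD1_c16 LD2_c4 LD3_c12) (LK LD1_c8 LD2_c33 LD3_c43) Lrfl Lrfl
theorem f305292 : Led Lsl_bt (LP (LK LD1_c15 LD2_c42 LD3_c14)) = (LP (LK LD1_c16 LD2_c4 LD3_c12)) :=
  Lgr Lrot62 (Lpe (f236957 IH) (Lpe (f236980 IH) (Lpr_af (K19.f305250 IH) (Lpe (f166504 IH) (Lpe (f166529 IH) (Lpn (LP (LK LD1_c16 LD2_c4 LD3_c12))))))))
theorem f260858 : Led Lsl_bt (LP (LK LD1_c8 LD2_c20 LD3_c30)) = (LP (LK LD1_c4 LD2_c10 LD3_c11)) :=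
  Lre_b IH (LK LD1_c8 LD2_c20 LD3_c30) (LK LD1_c4 LD2_c10 LD3_c11) Lrfl Lrfl
theorem f305252 : Led Lsl_ff (LP (LK LD1_c8 LD2_c20 LD3_c30)) = (LP (LK LD1_c8 LD2_c33 LD3_c43)) :=
  Lgr Lrot25 (Lpr_bt (f260858 IH) (Lpr_ft (K19.f305248 IH) (Lpr_bt (K27.f166522 IH) (Lpn (LP (LK LD1_c8 LD2_c33 LD3_c43))))))
theorem f260859 : Led Lsl_dt (LP (LK LD1_c8 LD2_c20 LD3_c30)) = (LP (LK LD1_c15 LD2_c42 LD3_c2)) :=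
  Lre_d IH (LK LD1_c8 LD2_c20 LD3_c30) (LK LD1_c15 LD2_c42 LD3_c2) Lrfl Lrfl
theorem f166533 : Led Lsl_dt (LP (LK LD1_c16 LD2_c4 LD3_c13)) = (LP (LK LD1_c8 LD2_c33 LD3_c43)) :=
  Lre_d IH (LK LD1_c16 LD2_c4 LD3_c13) (LK LD1_c8 LD2_c33 LD3_c43) Lrfl Lrfl
theorem f305258 : Led Lsl_ft (LP (LK LD1_c15 LD2_c42 LD3_c2)) = (LP (LK LD1_c16 LD2_c4 LD3_c13)) :=
  Lgr Lrot54 (Lpe (f260859 IH) (Lpr_ff (f305252 IH) (Lpe (f166533 IH) (Lpn (LP (LK LD1_c16 LD2_c4 LD3_c13))))))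
theorem f266982 : Led Lsl_at (LP (LK LD1_c25 LD2_c37 LD3_c40)) = (LP (LK LD1_c15 LD2_c42 LD3_c2)) :=
  Lre_a IH (LK LD1_c25 LD2_c37 LD3_c40) (LK LD1_c15 LD2_c42 LD3_c2) Lrfl Lrfl
theorem f305262 : Led Lsl_at (LP (LK LD1_c16 LD2_c4 LD3_c13)) = (LP (LK LD1_c26 LD2_c1 LD3_c25)) :=
  Lre_a IH (LK LD1_c16 LD2_c4 LD3_c13) (LK LD1_c26 LD2_c1 LD3_c25) Lrfl Lrfl
theorem f305263 : Led Lsl_ff (LP (LK LD1_c25 LD2_c37 LD3_c40)) = (LP (LK LD1_c26 LD2_c1 LD3_c25)) :=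
  Lgr Lrot30 (Lpr_at (f266982 IH) (Lpr_ft (f305258 IH) (Lpr_at (f305262 IH) (Lpn (LP (LK LD1_c26 LD2_c1 LD3_c25))))))
theorem f305266 : Led Lsl_ft (LP (LK LD1_c25 LD2_c37 LD3_c40)) = (LP (LK LD1_c26 LD2_c1 LD3_c25)) :=
  Lgr Lrot48 (Lpr_ff (f305263 IH) (Lpn (LP (LK LD1_c26 LD2_c1 LD3_c25))))
theorem f260874 : Led Lsl_dt (LP (LK LD1_c15 LD2_c42 LD3_c1)) = (LP (LK LD1_c25 LD2_c37 LD3_c40)) :=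
  Lre_d IH (LK LD1_c15 LD2_c42 LD3_c1) (LK LD1_c25 LD2_c37 LD3_c40) Lrfl Lrfl
theorem f166564 : Led Lsl_dt (LP (LK LD1_c26 LD2_c1 LD3_c25)) = (LP (LK LD1_c16 LD2_c4 LD3_c12)) :=
  Lre_d IH (LK LD1_c26 LD2_c1 LD3_c25) (LK LD1_c16 LD2_c4 LD3_c12) Lrfl Lrfl
theorem f305270 : Led Lsl_ff (LP (LK LD1_c15 LD2_c42 LD3_c1)) = (LP (LK LD1_c16 LD2_c4 LD3_c12)) :=
  Lgr Lrot19 (Lpr_dt (f260874 IH) (Lpr_ft (f305266 IH) (Lpr_dt (f166564 IH) (Lpn (LP (LK LD1_c16 LD2_c4 LD3_c12))))))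
theorem f238692 : Led Lsl_at (LP (LK LD1_c16 LD2_c4 LD3_c20)) = (LP (LK LD1_c8 LD2_c33 LD3_c46)) :=
  Lre_a IH (LK LD1_c16 LD2_c4 LD3_c20) (LK LD1_c8 LD2_c33 LD3_c46) Lrfl Lrfl
theorem f178827 : Led Lsl_bt (LP (LK LD1_c4 LD2_c10 LD3_c11)) = (LP (LK LD1_c8 LD2_c20 LD3_c30)) :=
  Lre_b IH (LK LD1_c4 LD2_c10 LD3_c11) (LK LD1_c8 LD2_c20 LD3_c30) Lrfl Lrfl
theorem f260854 : Led Lsl_at (LP (LK LD1_c8 LD2_c20 LD3_c30)) = (LP (LK LD1_c15 LD2_c42 LD3_c1)) :=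
  Lre_a IH (LK LD1_c8 LD2_c20 LD3_c30) (LK LD1_c15 LD2_c42 LD3_c1) Lrfl Lrfl
theorem f266987 : Led Lsl_bf (LP (LK LD1_c16 LD2_c4 LD3_c20)) = (LP (LK LD1_c15 LD2_c42 LD3_c1)) :=
  Lgr Lrot81 (Lpr_at (f238692 IH) (Lpr_bt (f238690 IH) (Lpr_at (K15.f266983 IH) (Lpr_bt (f178827 IH) (Lpr_at (f260854 IH) (Lpn (LP (LK LD1_c15 LD2_c42 LD3_c1))))))))
theorem f405981 : Led Lsl_ff (LP (LK LD1_c15 LD2_c42 LD3_c14)) = (LP (LK LD1_c16 LD2_c4 LD3_c20)) :=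
  Lgr Lrot25 (Lpr_bt (f305292 IH) (Lpe (f305270 IH) (Lpe (f266987 IH) (Lpn (LP (LK LD1_c16 LD2_c4 LD3_c20))))))
theorem f236965 : Led Lsl_at (LP (LK LD1_c15 LD2_c42 LD3_c14)) = (LP (LK LD1_c8 LD2_c20 LD3_c35)) :=
  Lre_a IH (LK LD1_c15 LD2_c42 LD3_c14) (LK LD1_c8 LD2_c20 LD3_c35) Lrfl Lrfl
theorem f405987 : Led Lsl_gf (LP (LK LD1_c15 LD2_c42 LD3_c13)) = (LP (LK LD1_c16 LD2_c4 LD3_c20)) :=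
  Lgr Lrot47 (Lpr_gt (f236970 IH) (Lpe (f236965 IH) (Lpr_ff (f405981 IH) (Lpn (LP (LK LD1_c16 LD2_c4 LD3_c20))))))
theorem f275335 : Led Lsl_ff (LP (LK LD1_c8 LD2_c33 LD3_c46)) = (LP (LK LD1_c8 LD2_c20 LD3_c35)) :=
  Lgr Lrot25 (Lpr_bt (f238690 IH) (Lpr_ft (K16.f275333 IH) (Lpr_bt (f236980 IH) (Lpn (LP (LK LD1_c8 LD2_c20 LD3_c35))))))
theorem f238687 : Led Lsl_at (LP (LK LD1_c8 LD2_c33 LD3_c46)) = (LP (LK LD1_c16 LD2_c4 LD3_c20)) :=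
  Lre_a IH (LK LD1_c8 LD2_c33 LD3_c46) (LK LD1_c16 LD2_c4 LD3_c20) Lrfl Lrfl
theorem f236966 : Led Lsl_gt (LP (LK LD1_c8 LD2_c20 LD3_c35)) = (LP (LK LD1_c15 LD2_c42 LD3_c12)) :=
  Lre_g IH (LK LD1_c8 LD2_c20 LD3_c35) (LK LD1_c15 LD2_c42 LD3_c12) Lrfl Lrfl
theorem f410385 : Led Lsl_gf (LP (LK LD1_c16 LD2_c4 LD3_c20)) = (LP (LK LD1_c15 LD2_c42 LD3_c12)) :=
  Lgr Lrot76 (Lpe (f238687 IH) (Lpr_ff (f275335 IH) (Lpr_gt (f236966 IH) (Lpn (LP (LK LD1_c15 LD2_c42 LD3_c12))))))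
theorem f716765 : Led Lsl_ft (LP (LK LD1_c15 LD2_c42 LD3_c12)) = (LP (LK LD1_c16 LD2_c4 LD3_c18)) :=
  Lgr Lrot2 (Lpe (f410385 IH) (Lpe (f405987 IH) (Lpr_af (f716761 IH) (Lpn (LP (LK LD1_c16 LD2_c4 LD3_c18))))))
theorem f716767 : Led Lsl_ff (LP (LK LD1_c15 LD2_c42 LD3_c12)) = (LP (LK LD1_c16 LD2_c4 LD3_c18)) :=
  Lgr Lrot3 (Lpr_ft (f716765 IH) (Lpn (LP (LK LD1_c16 LD2_c4 LD3_c18))))
theorem f275344 : Led Lsl_ft (LP (LK LD1_c8 LD2_c33 LD3_c46)) = (LP (LK LD1_c8 LD2_c20 LD3_c35)) :=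
  Lgr Lrot75 (Lpe (f238628 IH) (Lpr_ff (K16.f275342 IH) (Lpe (f233294 IH) (Lpn (LP (LK LD1_c8 LD2_c20 LD3_c35))))))
theorem f410383 : Led Lsl_gt (LP (LK LD1_c16 LD2_c4 LD3_c18)) = (LP (LK LD1_c15 LD2_c42 LD3_c14)) :=
  Lgr Lrot46 (Lpe (f238693 IH) (Lpr_ft (f275344 IH) (Lpr_at (f236957 IH) (Lpn (LP (LK LD1_c15 LD2_c42 LD3_c14))))))
theorem f405985 : Led Lsl_ft (LP (LK LD1_c15 LD2_c42 LD3_c14)) = (LP (LK LD1_c16 LD2_c4 LD3_c20)) :=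
  Lgr Lrot48 (Lpr_ff (f405981 IH) (Lpn (LP (LK LD1_c16 LD2_c4 LD3_c20))))
theorem f405993 : Led Lsl_gt (LP (LK LD1_c15 LD2_c42 LD3_c14)) = (LP (LK LD1_c16 LD2_c4 LD3_c19)) :=
  Lgr Lrot5 (Lpr_ft (f405985 IH) (Lpr_at (f238692 IH) (Lpe (f238696 IH) (Lpn (LP (LK LD1_c16 LD2_c4 LD3_c19))))))
theorem f716771 : Led Lsl_at (LP (LK LD1_c15 LD2_c42 LD3_c12)) = (LP (LK LD1_c16 LD2_c4 LD3_c19)) :=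
  Lgr Lrot26 (Lpr_ff (f716767 IH) (Lpr_gt (f410383 IH) (Lpr_gt (f405993 IH) (Lpn (LP (LK LD1_c16 LD2_c4 LD3_c19))))))
theorem f716763 : Led Lsl_at (LP (LK LD1_c15 LD2_c42 LD3_c13)) = (LP (LK LD1_c16 LD2_c4 LD3_c18)) :=
  Lgr Lrot100 (Lpr_af (f716761 IH) (Lpn (LP (LK LD1_c16 LD2_c4 LD3_c18))))
theorem f716775 : Led Lsl_ff (LP (LK LD1_c15 LD2_c42 LD3_c13)) = (LP (LK LD1_c16 LD2_c4 LD3_c19)) :=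
  Lgr Lrot30 (Lpr_at (f716763 IH) (Lpe (f716767 IH) (Lpr_at (f716771 IH) (Lpn (LP (LK LD1_c16 LD2_c4 LD3_c19))))))
theorem f889728 : Led Lsl_bt (LP (LK LD1_c15 LD2_c42 LD3_c13)) = (LP (LK LD1_c16 LD2_c4 LD3_c58)) :=
  Lgr Lrot35 (Lpr_ff (f716775 IH) (Lpe (f889625 IH) (Lpr_ff (f889725 IH) (Lpn (LP (LK LD1_c16 LD2_c4 LD3_c58))))))
theorem f889729 : Led Lsl_bt (LP (LK LD1_c15 LD2_c42 LD3_c13)) = (LP (LK LD1_c16 LD2_c4 LD3_c58)) :=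
  Leop (Lpe (f889728 IH) (Lpn (LP (LK LD1_c15 LD2_c42 LD3_c13))))
theorem seed_2116 : LEOK LG_b (LK LD1_c15 LD2_c42 LD3_c13) :=
  Leoe_b (LK LD1_c15 LD2_c42 LD3_c13) (f889729 IH)
theorem f819876 : Led Lsl_df (LP (LK LD1_c8 LD2_c25 LD3_c42)) = K64.v23732 :=
  Lgr Lrot12 (Lpr_bt (K50.f178330 IH) (Lpe (K64.f692526 IH) (Lpr_bt (K64.f819874 IH) (Lpn K64.v23732))))
theorem f692192 : Led Lsl_cf (LP (LK LD1_c8 LD2_c23 LD3_c27)) = (LP (LK LD1_c8 LD2_c34 LD3_c59)) :=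
  Lgr Lrot11 (Lpr_ct (K49.f692190 IH) (Lpn (LP (LK LD1_c8 LD2_c34 LD3_c59))))
theorem f884872 : Led Lsl_ct (LP (LK LD1_c8 LD2_c34 LD3_c21)) = v36313 :=
  Lgr Lrot151 (Lpe (K38.f7990 IH) (Lpe (f167300 IH) (Lpe (K41.f53426 IH) (Lpr_dt (K50.f404649 IH) (Lpr_gt (K50.f170248 IH) (Lpr_ct (K53.f170117 IH) (Lpr_gt (K49.f170065 IH) (Lpe (f692192 IH) (Lpr_dt (f884866 IH) (Lpn v36313))))))))))
theorem f406159 : Led Lsl_df (LP (LK LD1_c8 LD2_c34 LD3_c21)) = (LP (LK LD1_c16 LD2_c3 LD3_c12)) :=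
  Lgr Lrot38 (Lpr_dt (f406155 IH) (Lpn (LP (LK LD1_c16 LD2_c3 LD3_c12))))
theorem f170246 : Led Lsl_dt (LP (LK LD1_c4 LD2_c16 LD3_c53)) = (LP (LK LD1_c8 LD2_c33 LD3_c8)) :=
  Lre_d IH (LK LD1_c4 LD2_c16 LD3_c53) (LK LD1_c8 LD2_c33 LD3_c8) Lrfl Lrfl
theorem f884874 : Led Lsl_gt (LP (LK LD1_c8 LD2_c25 LD3_c42)) = v12471 :=
  Lgr Lrot180 (Lpe (K50.f178331 IH) (Lpr_gt (K50.f170257 IH) (Lpr_dt (f170246 IH) (Lpr_gt (f178337 IH) (Lpe (f406159 IH) (Lpr_ct (f884872 IH) (Lpe (f884866 IH) (Lpe (K49.f404792 IH) (Lpr_df (f692345 IH) (Lpn v12471))))))))))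
theorem f170227 : Led Lsl_ct (LP (LK LD1_c8 LD2_c34 LD3_c9)) = (LP (LK LD1_c4 LD2_c17 LD3_c31)) :=
  Lre_c IH (LK LD1_c8 LD2_c34 LD3_c9) (LK LD1_c4 LD2_c17 LD3_c31) Lrfl Lrfl
theorem f889720 : Led Lsl_gf (LP (LK LD1_c8 LD2_c34 LD3_c9)) = v36705 :=
  Lgr Lrot104 (Lpr_ct (f170227 IH) (Lpr_df (K50.f404626 IH) (Lpe (K52.f170915 IH) (Lpe (f882616 IH) (Lpe (f882590 IH) (Lpe (f884874 IH) (Lpr_df (f819876 IH) (Lpe (K67.f882355 IH) (Lpr_ct (f889717 IH) (Lpn v36705))))))))))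
theorem f889735 : Led Lsl_gt (LP (LK LD1_c8 LD2_c34 LD3_c9)) = (LP (LK LD1_c16 LD2_c4 LD3_c58)) :=
  Lgr Lrot46 (Lpr_gf (f889720 IH) (Lpe (f889719 IH) (Lpr_at (f889726 IH) (Lpn (LP (LK LD1_c16 LD2_c4 LD3_c58))))))
theorem f889736 : Led Lsl_gt (LP (LK LD1_c8 LD2_c34 LD3_c9)) = (LP (LK LD1_c16 LD2_c4 LD3_c58)) :=
  Leop (Lpe (f889735 IH) (Lpn (LP (LK LD1_c8 LD2_c34 LD3_c9))))
theorem seed_2117 : LEOK LG_g (LK LD1_c8 LD2_c34 LD3_c9) :=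
  Leoe_g (LK LD1_c8 LD2_c34 LD3_c9) (f889736 IH)
def v36714 : LQ := Led Lsl_dt (LP (LK LD1_c8 LD2_c34 LD3_c9))
theorem f889790 : Led Lsl_dt (LP (LK LD1_c8 LD2_c34 LD3_c9)) = v36714 :=
  Lrfl
theorem f889791 : Led Lsl_df (LP (LK LD1_c8 LD2_c34 LD3_c9)) = v36714 :=
  Lgr Lrot38 (Lpr_dt (f889790 IH) (Lpn v36714))
theorem f404793 : Led Lsl_dt (LP (LK LD1_c8 LD2_c23 LD3_c28)) = (LP (LK LD1_c15 LD2_c46 LD3_c52)) :=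
  Lre_d IH (LK LD1_c8 LD2_c23 LD3_c28) (LK LD1_c15 LD2_c46 LD3_c52) Lrfl Lrfl
theorem f889795 : Led Lsl_gt (LP (LK LD1_c15 LD2_c46 LD3_c52)) = v36714 :=
  Lgr Lrot49 (Lpe (f404793 IH) (Lpe (K50.f170891 IH) (Lpe (K50.f170890 IH) (Lpr_gt (K54.f406054 IH) (Lpr_dt (K50.f170268 IH) (Lpe (K50.f406097 IH) (Lpe (K50.f404626 IH) (Lpe (f170227 IH) (Lpr_df (f889791 IH) (Lpn v36714))))))))))
theorem f53362 : Led Lsl_dt (LP (LK LD1_c15 LD2_c46 LD3_c52)) = (LP (LK LD1_c8 LD2_c23 LD3_c28)) :=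
  Lre_d IH (LK LD1_c15 LD2_c46 LD3_c52) (LK LD1_c8 LD2_c23 LD3_c28) Lrfl Lrfl
theorem f170911 : Led Lsl_dt (LP (LK LD1_c4 LD2_c11 LD3_c5)) = (LP (LK LD1_c8 LD2_c22 LD3_c5)) :=
  Lre_d IH (LK LD1_c4 LD2_c11 LD3_c5) (LK LD1_c8 LD2_c22 LD3_c5) Lrfl Lrfl
theorem f170881 : Led Lsl_ct (LP (LK LD1_c15 LD2_c44 LD3_c51)) = (LP (LK LD1_c8 LD2_c22 LD3_c5)) :=
  Lre_c IH (LK LD1_c15 LD2_c44 LD3_c51) (LK LD1_c8 LD2_c22 LD3_c5) Lrfl Lrfl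
def v36706 : LQ := Led Lsl_at (LP (LK LD1_c8 LD2_c34 LD3_c7))
theorem f889739 : Led Lsl_at (LP (LK LD1_c8 LD2_c34 LD3_c7)) = v36706 :=
  Lrfl
def v12543 : LQ := Led Lsl_at (LP (LK LD1_c4 LD2_c17 LD3_c30))
theorem f693471 : Led Lsl_at (LP (LK LD1_c4 LD2_c17 LD3_c30)) = v12543 :=
  Lrfl
theorem f693472 : Led Lsl_af (LP (LK LD1_c4 LD2_c17 LD3_c30)) = v12543 :=
  Lgr Lrot0 (Lpr_at (f693471 IH) (Lpn v12543))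
theorem f889741 : Led Lsl_cf v12543 = v36706 :=
  Lgr Lrot1 (Lpe (f693472 IH) (Lpr_ct (K50.f167660 IH) (Lpr_at (f889739 IH) (Lpn v36706))))
theorem f693473 : Led Lsl_df v12412 = v12543 :=
  Lgr Lrot18 (Lpe (f692046 IH) (Lpe (K50.f382735 IH) (Lpr_at (f693471 IH) (Lpn v12543))))
theorem f693475 : Led Lsl_ft (LP (LK LD1_c4 LD2_c17 LD3_c31)) = v12543 :=
  Lgr Lrot54 (Lpr_df (K50.f404626 IH) (Lpr_ff (f692048 IH) (Lpr_df (f693473 IH) (Lpn v12543))))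
theorem f693476 : Led Lsl_ff (LP (LK LD1_c4 LD2_c17 LD3_c31)) = v12543 :=
  Lgr Lrot3 (Lpr_ft (f693475 IH) (Lpn v12543))
theorem f170226 : Led Lsl_ct (LP (LK LD1_c4 LD2_c17 LD3_c31)) = (LP (LK LD1_c8 LD2_c34 LD3_c9)) :=
  Lre_c IH (LK LD1_c4 LD2_c17 LD3_c31) (LK LD1_c8 LD2_c34 LD3_c9) Lrfl Lrfl
theorem f889743 : Led Lsl_ft (LP (LK LD1_c8 LD2_c34 LD3_c9)) = v36706 :=
  Lgr Lrot4 (Lpe (f170226 IH) (Lpr_ff (f693476 IH) (Lpr_cf (f889741 IH) (Lpn v36706))))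
theorem f889740 : Led Lsl_af (LP (LK LD1_c8 LD2_c34 LD3_c7)) = v36706 :=
  Lgr Lrot0 (Lpr_at (f889739 IH) (Lpn v36706))
def v36179 : LQ := Led Lsl_dt (LP (LK LD1_c8 LD2_c21 LD3_c41))
theorem f882599 : Led Lsl_dt (LP (LK LD1_c8 LD2_c21 LD3_c41)) = v36179 :=
  Lrfl
theorem f882601 : Led Lsl_df (LP (LK LD1_c8 LD2_c21 LD3_c41)) = v36179 :=
  Lgr Lrot38 (Lpr_dt (f882599 IH) (Lpn v36179))
theorem f289524 : Led Lsl_ff (LP (LK LD1_c19 LD2_c33 LD3_c8)) = (LP (LK LD1_c19 LD2_c43 LD3_c54)) :=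
  Lgr Lrot19 (Lpr_dt (K30.f165023 IH) (Lpr_ft (K20.f289515 IH) (Lpr_dt (K20.f178939 IH) (Lpn (LP (LK LD1_c19 LD2_c43 LD3_c54))))))
theorem f319600 : Led Lsl_ct (LP (LK LD1_c19 LD2_c33 LD3_c8)) = (LP (LK LD1_c15 LD2_c47 LD3_c57)) :=
  Lgr Lrot40 (Lpr_ff (f289524 IH) (Lpe (K30.f319558 IH) (Lpr_ff (K20.f319596 IH) (Lpn (LP (LK LD1_c15 LD2_c47 LD3_c57))))))
theorem f384280 : Led Lsl_df (LP (LK LD1_c15 LD2_c44 LD3_c10)) = (LP (LK LD1_c9 LD2_c45 LD3_c60)) :=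
  Lgr Lrot155 (Lpe (K50.f382739 IH) (Lpr_ct (f319600 IH) (Lpr_gt (K20.f167175 IH) (Lpe (K30.f167162 IH) (Lpr_dt (K30.f384275 IH) (Lpe (K20.f140453 IH) (Lpe (K20.f140450 IH) (Lpe (K9.f140350 IH) (Lpe (K31.f173663 IH) (Lpn (LP (LK LD1_c9 LD2_c45 LD3_c60))))))))))))
theorem f384283 : Led Lsl_dt (LP (LK LD1_c15 LD2_c44 LD3_c10)) = (LP (LK LD1_c9 LD2_c45 LD3_c60)) :=
  Lgr Lrot42 (Lpr_df (f384280 IH) (Lpn (LP (LK LD1_c9 LD2_c45 LD3_c60))))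
theorem f882602 : Led Lsl_bt (LP (LK LD1_c9 LD2_c45 LD3_c60)) = v36179 :=
  Lgr Lrot95 (Lpe (f384283 IH) (Lpe (K50.f167215 IH) (Lpr_df (f882601 IH) (Lpn v36179))))
theorem f175228 : Led Lsl_ct (LP (LK LD1_c5 LD2_c34 LD3_c24)) = (LP (LK LD1_c2 LD2_c43 LD3_c9)) :=
  Lre_c IH (LK LD1_c5 LD2_c34 LD3_c24) (LK LD1_c2 LD2_c43 LD3_c9) Lrfl Lrfl
theorem f175177 : Led Lsl_bt (LP (LK LD1_c11 LD2_c0 LD3_c61)) = (LP (LK LD1_c5 LD2_c34 LD3_c24)) :=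
  Lre_b IH (LK LD1_c11 LD2_c0 LD3_c61) (LK LD1_c5 LD2_c34 LD3_c24) Lrfl Lrfl
theorem f882603 : Led Lsl_cf (LP (LK LD1_c11 LD2_c0 LD3_c61)) = v36179 :=
  Lgr Lrot97 (Lpr_bt (f175177 IH) (Lpr_ct (f175228 IH) (Lpr_bt (K31.f175158 IH) (Lpr_ct (K31.f175088 IH) (Lpr_bt (f882602 IH) (Lpn v36179))))))
theorem f882605 : Led Lsl_ct (LP (LK LD1_c11 LD2_c0 LD3_c61)) = v36179 :=
  Lgr Lrot59 (Lpr_cf (f882603 IH) (Lpn v36179))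
theorem f882607 : Led Lsl_dt (LP (LK LD1_c19 LD2_c51 LD3_c60)) = (LP (LK LD1_c11 LD2_c0 LD3_c61)) :=
  Lre_d IH (LK LD1_c19 LD2_c51 LD3_c60) (LK LD1_c11 LD2_c0 LD3_c61) Lrfl Lrfl
theorem f889792 : Led Lsl_cf (LP (LK LD1_c19 LD2_c51 LD3_c60)) = v36714 :=
  Lgr Lrot118 (Lpr_dt (f882607 IH) (Lpr_ct (f882605 IH) (Lpe (f882601 IH) (Lpr_ct (K49.f167214 IH) (Lpe (K50.f382735 IH) (Lpr_ct (K50.f167660 IH) (Lpr_af (f889740 IH) (Lpe (f889743 IH) (Lpr_dt (f889790 IH) (Lpn v36714))))))))))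
theorem f889796 : Led Lsl_gf (LP (LK LD1_c15 LD2_c44 LD3_c51)) = (LP (LK LD1_c19 LD2_c51 LD3_c60)) :=
  Lgr Lrot104 (Lpr_ct (f170881 IH) (Lpe (f170911 IH) (Lpe (K50.f53358 IH) (Lpe (K49.f51531 IH) (Lpe (K49.f170886 IH) (Lpr_gf (K50.f404789 IH) (Lpe (f53362 IH) (Lpr_gt (f889795 IH) (Lpe (f889792 IH) (Lpn (LP (LK LD1_c19 LD2_c51 LD3_c60))))))))))))
theorem f889797 : Led Lsl_gt (LP (LK LD1_c19 LD2_c51 LD3_c60)) = (LP (LK LD1_c15 LD2_c44 LD3_c51)) :=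
  Leop (Lpr_gf (f889796 IH) (Lpn (LP (LK LD1_c19 LD2_c51 LD3_c60))))
theorem seed_2118 : LEOK LG_g (LK LD1_c19 LD2_c51 LD3_c60) :=
  Leoe_g (LK LD1_c19 LD2_c51 LD3_c60) (f889797 IH)
def v36733 : LQ := Led Lsl_ct (LP (LK LD1_c8 LD2_c34 LD3_c32))
theorem f889885 : Led Lsl_ct (LP (LK LD1_c8 LD2_c34 LD3_c32)) = v36733 :=
  Lrfl
theorem f377883 : Led Lsl_cf (LP (LK LD1_c8 LD2_c19 LD3_c1)) = (LP (LK LD1_c9 LD2_c37 LD3_c3)) :=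
  Lgr Lrot11 (Lpr_ct (K26.f364953 IH) (Lpn (LP (LK LD1_c9 LD2_c37 LD3_c3))))
theorem f889888 : Led Lsl_ef (LP (LK LD1_c9 LD2_c37 LD3_c3)) = v36733 :=
  Lgr Lrot28 (Lpe (f377883 IH) (Lpe (K22.f335721 IH) (Lpr_ct (f889885 IH) (Lpn v36733))))
theorem f889893 : Led Lsl_et (LP (LK LD1_c9 LD2_c37 LD3_c3)) = v36733 :=
  Lgr Lrot87 (Lpr_ef (f889888 IH) (Lpn v36733))
theorem f307765 : Led Lsl_gt (LP (LK LD1_c16 LD2_c5 LD3_c8)) = (LP (LK LD1_c8 LD2_c34 LD3_c29)) :=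
  Lre_g IH (LK LD1_c16 LD2_c5 LD3_c8) (LK LD1_c8 LD2_c34 LD3_c29) Lrfl Lrfl
theorem f341018 : Led Lsl_bf (LP (LK LD1_c9 LD2_c38 LD3_c43)) = (LP (LK LD1_c15 LD2_c6 LD3_c41)) :=
  Lgr Lrot24 (Lpr_bt (K23.f341016 IH) (Lpn (LP (LK LD1_c15 LD2_c6 LD3_c41))))
theorem f301242 : Led Lsl_ct (LP (LK LD1_c4 LD2_c52 LD3_c7)) = (LP (LK LD1_c9 LD2_c36 LD3_c35)) :=
  Lre_c IH (LK LD1_c4 LD2_c52 LD3_c7) (LK LD1_c9 LD2_c36 LD3_c35) Lrfl Lrfl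
theorem f889891 : Led Lsl_gt (LP (LK LD1_c9 LD2_c36 LD3_c35)) = v36733 :=
  Lgr Lrot65 (Lpe (f301242 IH) (Lpe (K21.f306931 IH) (Lpe (K19.f180089 IH) (Lpr_bf (f341018 IH) (Lpe (K21.f316188 IH) (Lpe (f307765 IH) (Lpe (K20.f307764 IH) (Lpe (K21.f256006 IH) (Lpe (K26.f179991 IH) (Lpr_ct (f889885 IH) (Lpn v36733)))))))))))
theorem f290136 : Led Lsl_et (LP (LK LD1_c4 LD2_c52 LD3_c6)) = (LP (LK LD1_c9 LD2_c36 LD3_c35)) :=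
  Lre_e IH (LK LD1_c4 LD2_c52 LD3_c6) (LK LD1_c9 LD2_c36 LD3_c35) Lrfl Lrfl
theorem f290118 : Led Lsl_dt (LP (LK LD1_c8 LD2_c22 LD3_c45)) = (LP (LK LD1_c4 LD2_c52 LD3_c6)) :=
  Lgr Lrot42 (Lpr_df (K17.f290109 IH) (Lpn (LP (LK LD1_c4 LD2_c52 LD3_c6))))
theorem f300723 : Led Lsl_gf (LP (LK LD1_c8 LD2_c22 LD3_c45)) = (LP (LK LD1_c8 LD2_c36 LD3_c15)) :=
  Lgr Lrot143 (Lpr_dt (f290118 IH) (Lpe (K17.f222113 IH) (Lpr_df (K17.f222106 IH) (Lpr_gf (K18.f300719 IH) (Lpe (K17.f257972 IH) (Lpe (K13.f171505 IH) (Lpe (K19.f179753 IH) (Lpr_gt (K16.f250775 IH) (Lpr_dt (K17.f258360 IH) (Lpn (LP (LK LD1_c8 LD2_c36 LD3_c15))))))))))))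
theorem f374864 : Led Lsl_et (LP (LK LD1_c4 LD2_c18 LD3_c51)) = (LP (LK LD1_c2 LD2_c6 LD3_c41)) :=
  Lre_e IH (LK LD1_c4 LD2_c18 LD3_c51) (LK LD1_c2 LD2_c6 LD3_c41) Lrfl Lrfl
theorem f171429 : Led Lsl_dt (LP (LK LD1_c4 LD2_c18 LD3_c51)) = (LP (LK LD1_c8 LD2_c36 LD3_c25)) :=
  Lre_d IH (LK LD1_c4 LD2_c18 LD3_c51) (LK LD1_c8 LD2_c36 LD3_c25) Lrfl Lrfl
theorem f171445 : Led Lsl_gt (LP (LK LD1_c16 LD2_c7 LD3_c52)) = (LP (LK LD1_c8 LD2_c36 LD3_c25)) :=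
  Lre_g IH (LK LD1_c16 LD2_c7 LD3_c52) (LK LD1_c8 LD2_c36 LD3_c25) Lrfl Lrfl
theorem f889894 : Led Lsl_dt (LP (LK LD1_c9 LD2_c37 LD3_c3)) = (LP (LK LD1_c16 LD2_c7 LD3_c52)) :=
  Lgr Lrot136 (Lpr_et (f889893 IH) (Lpe (f889891 IH) (Lpe (f290136 IH) (Lpe (K17.f290109 IH) (Lpr_gf (f300723 IH) (Lpe (K17.f258360 IH) (Lpe (K16.f250775 IH) (Lpe (f374864 IH) (Lpr_dt (f171429 IH) (Lpe (f171445 IH) (Lpn (LP (LK LD1_c16 LD2_c7 LD3_c52)))))))))))))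
theorem f889895 : Led Lsl_dt (LP (LK LD1_c9 LD2_c37 LD3_c3)) = (LP (LK LD1_c16 LD2_c7 LD3_c52)) :=
  Leop (Lpe (f889894 IH) (Lpn (LP (LK LD1_c9 LD2_c37 LD3_c3))))
theorem seed_2119 : LEOK LG_d (LK LD1_c9 LD2_c37 LD3_c3) :=
  Leoe_d (LK LD1_c9 LD2_c37 LD3_c3) (f889895 IH)
def v36781 : LQ := Led Lsl_bt (LP (LK LD1_c8 LD2_c35 LD3_c24))
theorem f890136 : Led Lsl_bt (LP (LK LD1_c8 LD2_c35 LD3_c24)) = v36781 :=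
  Lrfl
theorem f304822 : Led Lsl_ct (LP (LK LD1_c4 LD2_c18 LD3_c19)) = (LP (LK LD1_c8 LD2_c35 LD3_c24)) :=
  Lre_c IH (LK LD1_c4 LD2_c18 LD3_c19) (LK LD1_c8 LD2_c35 LD3_c24) Lrfl Lrfl
theorem f219787 : Led Lsl_bt (LP (LK LD1_c15 LD2_c44 LD3_c47)) = (LP (LK LD1_c8 LD2_c22 LD3_c3)) :=
  Lre_b IH (LK LD1_c15 LD2_c44 LD3_c47) (LK LD1_c8 LD2_c22 LD3_c3) Lrfl Lrfl
theorem f890138 : Led Lsl_cf (LP (LK LD1_c15 LD2_c44 LD3_c47)) = v36781 :=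
  Lgr Lrot97 (Lpr_bt (f219787 IH) (Lpr_ct (K54.f418183 IH) (Lpr_bt (K54.f304824 IH) (Lpr_ct (f304822 IH) (Lpr_bt (f890136 IH) (Lpn v36781))))))
theorem f890137 : Led Lsl_bf (LP (LK LD1_c8 LD2_c35 LD3_c24)) = v36781 :=
  Lgr Lrot24 (Lpr_bt (f890136 IH) (Lpn v36781))
def v36779 : LQ := Led Lsl_gt (LP (LK LD1_c8 LD2_c35 LD3_c24))
theorem f890116 : Led Lsl_gt (LP (LK LD1_c8 LD2_c35 LD3_c24)) = v36779 :=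
  Lrfl
def v13981 : LQ := Led Lsl_bt (LP (LK LD1_c4 LD2_c52 LD3_c39))
theorem f717578 : Led Lsl_bt (LP (LK LD1_c4 LD2_c52 LD3_c39)) = v13981 :=
  Lrfl
theorem f717579 : Led Lsl_bf (LP (LK LD1_c4 LD2_c52 LD3_c39)) = v13981 :=
  Lgr Lrot24 (Lpr_bt (f717578 IH) (Lpn v13981))
theorem f890118 : Led Lsl_ct v13981 = v36779 :=
  Lgr Lrot63 (Lpe (f717579 IH) (Lpr_gt (K30.f2191 IH) (Lpe (K54.f2188 IH) (Lpr_ct (K0.f2162 IH) (Lpe (K13.f2861 IH) (Lpr_cf (K38.f237777 IH) (Lpr_bt (K50.f237774 IH) (Lpr_gt (K54.f237784 IH) (Lpr_ct (f304822 IH) (Lpr_gt (f890116 IH) (Lpn v36779)))))))))))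
theorem f717580 : Led Lsl_ff (LP (LK LD1_c4 LD2_c53 LD3_c41)) = v13981 :=
  Lgr Lrot25 (Lpr_bt (K52.f2846 IH) (Lpe (K30.f397682 IH) (Lpr_bt (f717578 IH) (Lpn v13981))))
theorem f717581 : Led Lsl_ft (LP (LK LD1_c4 LD2_c53 LD3_c41)) = v13981 :=
  Lgr Lrot48 (Lpr_ff (f717580 IH) (Lpn v13981))
theorem f890122 : Led Lsl_ff (LP (LK LD1_c9 LD2_c39 LD3_c12)) = v36779 :=
  Lgr Lrot23 (Lpr_ct (K52.f2857 IH) (Lpr_ft (f717581 IH) (Lpr_ct (f890118 IH) (Lpn v36779))))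
theorem f398342 : Led Lsl_ft (LP (LK LD1_c16 LD2_c17 LD3_c58)) = (LP (LK LD1_c8 LD2_c42 LD3_c3)) :=
  Lre_f IH (LK LD1_c16 LD2_c17 LD3_c58) (LK LD1_c8 LD2_c42 LD3_c3) Lrfl Lrfl
theorem f890123 : Led Lsl_bt (LP (LK LD1_c8 LD2_c42 LD3_c3)) = v36779 :=
  Lgr Lrot35 (Lpe (f398342 IH) (Lpr_bf (K53.f398339 IH) (Lpr_ff (f890122 IH) (Lpn v36779))))
theorem f39710 : Led Lsl_ct (LP (LK LD1_c8 LD2_c42 LD3_c3)) = (LP (LK LD1_c4 LD2_c22 LD3_c6)) :=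
  Lre_c IH (LK LD1_c8 LD2_c42 LD3_c3) (LK LD1_c4 LD2_c22 LD3_c6) Lrfl Lrfl
theorem f39708 : Led Lsl_gt (LP (LK LD1_c4 LD2_c22 LD3_c6)) = (LP (LK LD1_c8 LD2_c42 LD3_c0)) :=
  Lre_g IH (LK LD1_c4 LD2_c22 LD3_c6) (LK LD1_c8 LD2_c42 LD3_c0) Lrfl Lrfl
theorem f382337 : Led Lsl_at (LP (LK LD1_c8 LD2_c40 LD3_c7)) = (LP (LK LD1_c4 LD2_c21 LD3_c14)) :=
  Lre_a IH (LK LD1_c8 LD2_c40 LD3_c7) (LK LD1_c4 LD2_c21 LD3_c14) Lrfl Lrfl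
theorem f382338 : Led Lsl_af (LP (LK LD1_c11 LD2_c17 LD3_c39)) = (LP (LK LD1_c8 LD2_c39 LD3_c49)) :=
  Lgr Lrot36 (Lpr_bt (K67.f382298 IH) (Lpr_at (f382337 IH) (Lpr_bt (K30.f279205 IH) (Lpr_at (K16.f267270 IH) (Lpr_bt (K20.f41986 IH) (Lpn (LP (LK LD1_c8 LD2_c39 LD3_c49))))))))
theorem f402794 : Led Lsl_ff (LP (LK LD1_c8 LD2_c39 LD3_c49)) = (LP (LK LD1_c9 LD2_c36 LD3_c61)) :=
  Lgr Lrot52 (Lpe (f382338 IH) (Lpr_gf (K67.f402792 IH) (Lpe (K67.f299305 IH) (Lpn (LP (LK LD1_c9 LD2_c36 LD3_c61))))))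
theorem f402803 : Led Lsl_ft (LP (LK LD1_c8 LD2_c39 LD3_c49)) = (LP (LK LD1_c9 LD2_c36 LD3_c61)) :=
  Lgr Lrot48 (Lpr_ff (f402794 IH) (Lpn (LP (LK LD1_c9 LD2_c36 LD3_c61))))
theorem f381504 : Led Lsl_et (LP (LK LD1_c11 LD2_c17 LD3_c8)) = (LP (LK LD1_c5 LD2_c43 LD3_c31)) :=
  Lre_e IH (LK LD1_c11 LD2_c17 LD3_c8) (LK LD1_c5 LD2_c43 LD3_c31) Lrfl Lrfl
theorem f402812 : Led Lsl_et (LP (LK LD1_c9 LD2_c36 LD3_c61)) = (LP (LK LD1_c17 LD2_c42 LD3_c28)) :=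
  Lre_e IH (LK LD1_c9 LD2_c36 LD3_c61) (LK LD1_c17 LD2_c42 LD3_c28) Lrfl Lrfl
theorem f402813 : Led Lsl_ff (LP (LK LD1_c11 LD2_c17 LD3_c8)) = (LP (LK LD1_c17 LD2_c42 LD3_c28)) :=
  Lgr Lrot72 (Lpr_et (f381504 IH) (Lpr_ft (K27.f381584 IH) (Lpe (K20.f270583 IH) (Lpr_ft (f402803 IH) (Lpr_et (f402812 IH) (Lpn (LP (LK LD1_c17 LD2_c42 LD3_c28))))))))
theorem f270652 : Led Lsl_et (LP (LK LD1_c4 LD2_c53 LD3_c31)) = (LP (LK LD1_c9 LD2_c38 LD3_c60)) :=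
  Lre_e IH (LK LD1_c4 LD2_c53 LD3_c31) (LK LD1_c9 LD2_c38 LD3_c60) Lrfl Lrfl
theorem f387428 : Led Lsl_bf (LP (LK LD1_c11 LD2_c17 LD3_c8)) = (LP (LK LD1_c9 LD2_c38 LD3_c60)) :=
  Lgr Lrot96 (Lpr_et (f381504 IH) (Lpr_bt (K54.f381579 IH) (Lpr_et (f270652 IH) (Lpn (LP (LK LD1_c9 LD2_c38 LD3_c60))))))
theorem f387430 : Led Lsl_bt (LP (LK LD1_c11 LD2_c17 LD3_c8)) = (LP (LK LD1_c9 LD2_c38 LD3_c60)) :=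
  Lgr Lrot127 (Lpr_bf (f387428 IH) (Lpn (LP (LK LD1_c9 LD2_c38 LD3_c60))))
theorem f402817 : Led Lsl_bt (LP (LK LD1_c9 LD2_c37 LD3_c0)) = (LP (LK LD1_c17 LD2_c42 LD3_c28)) :=
  Lre_b IH (LK LD1_c9 LD2_c37 LD3_c0) (LK LD1_c17 LD2_c42 LD3_c28) Lrfl Lrfl
theorem f402818 : Led Lsl_ft (LP (LK LD1_c9 LD2_c38 LD3_c60)) = (LP (LK LD1_c9 LD2_c37 LD3_c0)) :=
  Lgr Lrot75 (Lpe (f387430 IH) (Lpr_ff (f402813 IH) (Lpe (f402817 IH) (Lpn (LP (LK LD1_c9 LD2_c37 LD3_c0))))))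
theorem f402825 : Led Lsl_ff (LP (LK LD1_c9 LD2_c38 LD3_c60)) = (LP (LK LD1_c9 LD2_c37 LD3_c0)) :=
  Lgr Lrot3 (Lpr_ft (f402818 IH) (Lpn (LP (LK LD1_c9 LD2_c37 LD3_c0))))
theorem f270655 : Led Lsl_at (LP (LK LD1_c9 LD2_c38 LD3_c60)) = (LP (LK LD1_c9 LD2_c36 LD3_c40)) :=
  Lgr Lrot100 (Lpr_af (K50.f270653 IH) (Lpn (LP (LK LD1_c9 LD2_c36 LD3_c40))))
theorem f402827 : Led Lsl_at (LP (LK LD1_c8 LD2_c40 LD3_c12)) = (LP (LK LD1_c9 LD2_c37 LD3_c0)) :=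
  Lgr Lrot66 (Lpe (K16.f232423 IH) (Lpe (f270655 IH) (Lpr_ff (f402825 IH) (Lpn (LP (LK LD1_c9 LD2_c37 LD3_c0))))))
theorem f232437 : Led Lsl_et (LP (LK LD1_c4 LD2_c21 LD3_c16)) = (LP (LK LD1_c8 LD2_c40 LD3_c12)) :=
  Lre_e IH (LK LD1_c4 LD2_c21 LD3_c16) (LK LD1_c8 LD2_c40 LD3_c12) Lrfl Lrfl
theorem f320387 : Led Lsl_et (LP (LK LD1_c9 LD2_c37 LD3_c0)) = (LP (LK LD1_c4 LD2_c52 LD3_c21)) :=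
  Lre_e IH (LK LD1_c9 LD2_c37 LD3_c0) (LK LD1_c4 LD2_c52 LD3_c21) Lrfl Lrfl
theorem f402832 : Led Lsl_af (LP (LK LD1_c4 LD2_c21 LD3_c16)) = (LP (LK LD1_c4 LD2_c52 LD3_c21)) :=
  Lgr Lrot50 (Lpr_et (f232437 IH) (Lpr_at (f402827 IH) (Lpr_et (f320387 IH) (Lpn (LP (LK LD1_c4 LD2_c52 LD3_c21))))))
theorem f234782 : Led Lsl_bt (LP (LK LD1_c4 LD2_c21 LD3_c16)) = (LP (LK LD1_c8 LD2_c40 LD3_c9)) :=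
  Lre_b IH (LK LD1_c4 LD2_c21 LD3_c16) (LK LD1_c8 LD2_c40 LD3_c9) Lrfl Lrfl
theorem f39728 : Led Lsl_at (LP (LK LD1_c8 LD2_c40 LD3_c9)) = (LP (LK LD1_c16 LD2_c13 LD3_c57)) :=
  Lre_a IH (LK LD1_c8 LD2_c40 LD3_c9) (LK LD1_c16 LD2_c13 LD3_c57) Lrfl Lrfl
theorem f402797 : Led Lsl_at (LP (LK LD1_c17 LD2_c42 LD3_c27)) = (LP (LK LD1_c9 LD2_c36 LD3_c61)) :=
  Lre_a IH (LK LD1_c17 LD2_c42 LD3_c27) (LK LD1_c9 LD2_c36 LD3_c61) Lrfl Lrfl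
theorem f402836 : Led Lsl_bt (LP (LK LD1_c16 LD2_c13 LD3_c57)) = (LP (LK LD1_c17 LD2_c42 LD3_c27)) :=
  Lgr Lrot62 (Lpe (f39728 IH) (Lpe (f234782 IH) (Lpr_af (f402832 IH) (Lpe (K67.f270910 IH) (Lpe (f402797 IH) (Lpn (LP (LK LD1_c17 LD2_c42 LD3_c27))))))))
theorem f38985 : Led Lsl_bt (LP (LK LD1_c14 LD2_c57 LD3_c48)) = (LP (LK LD1_c8 LD2_c42 LD3_c0)) :=
  Lgr Lrot62 (Lpe (K50.f38982 IH) (Lpe (K67.f38981 IH) (Lpr_af (K1.f38961 IH) (Lpe (K66.f38983 IH) (Lpe (K38.f38984 IH) (Lpn (LP (LK LD1_c8 LD2_c42 LD3_c0))))))))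
theorem f219136 : Led Lsl_bf (LP (LK LD1_c16 LD2_c3 LD3_c61)) = (LP (LK LD1_c15 LD2_c41 LD3_c28)) :=
  Lgr Lrot81 (Lpr_at (K50.f199870 IH) (Lpr_bt (K67.f199789 IH) (Lpr_at (K12.f219129 IH) (Lpr_bt (K27.f170852 IH) (Lpr_at (K67.f219135 IH) (Lpn (LP (LK LD1_c15 LD2_c41 LD3_c28))))))))
theorem f402840 : Led Lsl_cf (LP (LK LD1_c15 LD2_c41 LD3_c28)) = (LP (LK LD1_c17 LD2_c42 LD3_c27)) :=
  Lgr Lrot97 (Lpe (f219136 IH) (Lpe (K50.f199867 IH) (Lpr_bt (f38985 IH) (Lpr_ct (K67.f39724 IH) (Lpr_bt (f402836 IH) (Lpn (LP (LK LD1_c17 LD2_c42 LD3_c27))))))))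
theorem f402842 : Led Lsl_ct (LP (LK LD1_c15 LD2_c41 LD3_c28)) = (LP (LK LD1_c17 LD2_c42 LD3_c27)) :=
  Lgr Lrot59 (Lpr_cf (f402840 IH) (Lpn (LP (LK LD1_c17 LD2_c42 LD3_c27))))
theorem f221929 : Led Lsl_ft (LP (LK LD1_c8 LD2_c21 LD3_c61)) = (LP (LK LD1_c8 LD2_c34 LD3_c56)) :=
  Lgr Lrot75 (Lpe (K50.f219826 IH) (Lpr_ff (K18.f221926 IH) (Lpe (K27.f221928 IH) (Lpn (LP (LK LD1_c8 LD2_c34 LD3_c56))))))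
theorem f219827 : Led Lsl_gt (LP (LK LD1_c8 LD2_c21 LD3_c61)) = (LP (LK LD1_c15 LD2_c44 LD3_c38)) :=
  Lre_g IH (LK LD1_c8 LD2_c21 LD3_c61) (LK LD1_c15 LD2_c44 LD3_c38) Lrfl Lrfl
theorem f221974 : Led Lsl_gt (LP (LK LD1_c15 LD2_c44 LD3_c38)) = (LP (LK LD1_c16 LD2_c6 LD3_c10)) :=
  Lgr Lrot46 (Lpe (f219827 IH) (Lpr_ft (f221929 IH) (Lpr_at (K27.f221923 IH) (Lpn (LP (LK LD1_c16 LD2_c6 LD3_c10))))))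
theorem f219829 : Led Lsl_bt (LP (LK LD1_c25 LD2_c41 LD3_c1)) = (LP (LK LD1_c15 LD2_c44 LD3_c38)) :=
  Lre_b IH (LK LD1_c25 LD2_c41 LD3_c1) (LK LD1_c15 LD2_c44 LD3_c38) Lrfl Lrfl
theorem f41991 : Led Lsl_ct (LP (LK LD1_c5 LD2_c21 LD3_c13)) = (LP (LK LD1_c8 LD2_c39 LD3_c49)) :=
  Lgr Lrot59 (Lpr_cf (K20.f41987 IH) (Lpn (LP (LK LD1_c8 LD2_c39 LD3_c49))))
theorem f41996 : Led Lsl_gt (LP (LK LD1_c16 LD2_c13 LD3_c33)) = (LP (LK LD1_c8 LD2_c39 LD3_c49)) :=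
  Lre_g IH (LK LD1_c16 LD2_c13 LD3_c33) (LK LD1_c8 LD2_c39 LD3_c49) Lrfl Lrfl
theorem f219830 : Led Lsl_ct (LP (LK LD1_c25 LD2_c41 LD3_c1)) = (LP (LK LD1_c16 LD2_c13 LD3_c33)) :=
  Lgr Lrot64 (Lpr_bt (f219829 IH) (Lpe (f219827 IH) (Lpe (K50.f219826 IH) (Lpr_ct (K12.f219789 IH) (Lpe (K13.f219185 IH) (Lpe (K14.f192389 IH) (Lpe (K13.f41989 IH) (Lpe (K20.f41984 IH) (Lpr_ct (f41991 IH) (Lpe (f41996 IH) (Lpn (LP (LK LD1_c16 LD2_c13 LD3_c33)))))))))))))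
theorem f402844 : Led Lsl_gf (LP (LK LD1_c16 LD2_c13 LD3_c33)) = (LP (LK LD1_c17 LD2_c42 LD3_c27)) :=
  Lgr Lrot129 (Lpe (f219830 IH) (Lpr_bt (f219829 IH) (Lpr_gt (f221974 IH) (Lpr_bf (K30.f221972 IH) (Lpr_ct (K27.f221980 IH) (Lpe (K27.f318825 IH) (Lpe (K27.f243828 IH) (Lpr_bt (K67.f318777 IH) (Lpr_gt (K67.f219277 IH) (Lpr_ct (f402842 IH) (Lpn (LP (LK LD1_c17 LD2_c42 LD3_c27)))))))))))))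
theorem f219837 : Led Lsl_cf (LP (LK LD1_c25 LD2_c41 LD3_c1)) = (LP (LK LD1_c16 LD2_c13 LD3_c33)) :=
  Lgr Lrot11 (Lpr_ct (f219830 IH) (Lpn (LP (LK LD1_c16 LD2_c13 LD3_c33))))
theorem f890142 : Led Lsl_gf (LP (LK LD1_c15 LD2_c44 LD3_c47)) = (LP (LK LD1_c25 LD2_c41 LD3_c1)) :=
  Lgr Lrot129 (Lpr_cf (f890138 IH) (Lpe (f890137 IH) (Lpr_gt (f890116 IH) (Lpe (f890123 IH) (Lpr_ct (f39710 IH) (Lpr_gt (f39708 IH) (Lpe (K38.f39697 IH) (Lpr_bt (f402836 IH) (Lpe (f402844 IH) (Lpe (f219837 IH) (Lpn (LP (LK LD1_c25 LD2_c41 LD3_c1)))))))))))))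
theorem f890143 : Led Lsl_gt (LP (LK LD1_c25 LD2_c41 LD3_c1)) = (LP (LK LD1_c15 LD2_c44 LD3_c47)) :=
  Leop (Lpr_gf (f890142 IH) (Lpn (LP (LK LD1_c25 LD2_c41 LD3_c1))))
theorem seed_2120 : LEOK LG_g (LK LD1_c25 LD2_c41 LD3_c1) :=
  Leoe_g (LK LD1_c25 LD2_c41 LD3_c1) (f890143 IH)
def v36804 : LQ := Led Lsl_dt (LP (LK LD1_c8 LD2_c35 LD3_c38))
theorem f890278 : Led Lsl_dt (LP (LK LD1_c8 LD2_c35 LD3_c38)) = v36804 :=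
  Lrfl
theorem f890283 : Led Lsl_gf (LP (LK LD1_c25 LD2_c27 LD3_c41)) = v36804 :=
  Lgr Lrot143 (Lpe (K50.f400492 IH) (Lpe (K38.f349505 IH) (Lpe (K38.f349507 IH) (Lpe (K50.f620491 IH) (Lpe (K27.f171121 IH) (Lpe (K30.f374793 IH) (Lpe (K30.f170130 IH) (Lpr_gt (K30.f52136 IH) (Lpr_dt (f890278 IH) (Lpn v36804))))))))))
theorem f250896 : Led Lsl_ct (LP (LK LD1_c8 LD2_c17 LD3_c27)) = (LP (LK LD1_c5 LD2_c32 LD3_c23)) :=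
  Lgr Lrot59 (Lpr_cf (K14.f250868 IH) (Lpn (LP (LK LD1_c5 LD2_c32 LD3_c23))))
theorem f234893 : Led Lsl_bt (LP (LK LD1_c4 LD2_c9 LD3_c42)) = (LP (LK LD1_c8 LD2_c19 LD3_c24)) :=
  Lre_b IH (LK LD1_c4 LD2_c9 LD3_c42) (LK LD1_c8 LD2_c19 LD3_c24) Lrfl Lrfl
theorem f234896 : Led Lsl_gt (LP (LK LD1_c8 LD2_c19 LD3_c24)) = (LP (LK LD1_c15 LD2_c39 LD3_c27)) :=
  Lre_g IH (LK LD1_c8 LD2_c19 LD3_c24) (LK LD1_c15 LD2_c39 LD3_c27) Lrfl Lrfl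
theorem f234897 : Led Lsl_bt (LP (LK LD1_c25 LD2_c34 LD3_c47)) = (LP (LK LD1_c15 LD2_c39 LD3_c27)) :=
  Lre_b IH (LK LD1_c25 LD2_c34 LD3_c47) (LK LD1_c15 LD2_c39 LD3_c27) Lrfl Lrfl
theorem f890285 : Led Lsl_ct (LP (LK LD1_c25 LD2_c34 LD3_c47)) = v36804 :=
  Lgr Lrot64 (Lpr_bt (f234897 IH) (Lpe (f234896 IH) (Lpe (f234893 IH) (Lpe (K14.f234749 IH) (Lpe (K14.f213281 IH) (Lpe (f250896 IH) (Lpe (K38.f254814 IH) (Lpe (K38.f234665 IH) (Lpr_ct (K50.f232686 IH) (Lpr_gf (f890283 IH) (Lpn v36804)))))))))))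
theorem f693736 : Led Lsl_at (LP (LK LD1_c16 LD2_c6 LD3_c61)) = (LP (LK LD1_c8 LD2_c35 LD3_c38)) :=
  Lre_a IH (LK LD1_c16 LD2_c6 LD3_c61) (LK LD1_c8 LD2_c35 LD3_c38) Lrfl Lrfl
theorem f620958 : Led Lsl_dt (LP (LK LD1_c25 LD2_c33 LD3_c8)) = (LP (LK LD1_c15 LD2_c47 LD3_c1)) :=
  Lgr Lrot42 (Lpr_df (K52.f620693 IH) (Lpn (LP (LK LD1_c15 LD2_c47 LD3_c1))))
theorem f398043 : Led Lsl_at (LP (LK LD1_c15 LD2_c47 LD3_c1)) = (LP (LK LD1_c25 LD2_c43 LD3_c40)) :=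
  Lre_a IH (LK LD1_c15 LD2_c47 LD3_c1) (LK LD1_c25 LD2_c43 LD3_c40) Lrfl Lrfl
theorem f717215 : Led Lsl_dt (LP (LK LD1_c25 LD2_c43 LD3_c40)) = (LP (LK LD1_c31 LD2_c54 LD3_c14)) :=
  Lgr Lrot44 (Lpe (f398043 IH) (Lpe (f620958 IH) (Lpr_af (K52.f717209 IH) (Lpn (LP (LK LD1_c31 LD2_c54 LD3_c14))))))
theorem f398054 : Led Lsl_at (LP (LK LD1_c9 LD2_c36 LD3_c6)) = (LP (LK LD1_c17 LD2_c40 LD3_c43)) :=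
  Lre_a IH (LK LD1_c9 LD2_c36 LD3_c6) (LK LD1_c17 LD2_c40 LD3_c43) Lrfl Lrfl
theorem f398050 : Led Lsl_at (LP (LK LD1_c25 LD2_c43 LD3_c40)) = (LP (LK LD1_c15 LD2_c47 LD3_c1)) :=
  Lre_a IH (LK LD1_c25 LD2_c43 LD3_c40) (LK LD1_c15 LD2_c47 LD3_c1) Lrfl Lrfl
theorem f398055 : Led Lsl_ct (LP (LK LD1_c17 LD2_c40 LD3_c43)) = (LP (LK LD1_c25 LD2_c43 LD3_c40)) :=
  Lgr Lrot111 (Lpe (f398054 IH) (Lpr_cf (K49.f398047 IH) (Lpe (f398050 IH) (Lpn (LP (LK LD1_c25 LD2_c43 LD3_c40))))))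
theorem f717225 : Led Lsl_gf (LP (LK LD1_c17 LD2_c40 LD3_c43)) = (LP (LK LD1_c25 LD2_c53 LD3_c54)) :=
  Lgr Lrot172 (Lpr_ct (f398055 IH) (Lpr_dt (f717215 IH) (Lpe (K52.f400473 IH) (Lpe (K52.f400472 IH) (Lpe (K49.f400487 IH) (Lpr_gf (K49.f620390 IH) (Lpr_dt (K49.f171108 IH) (Lpr_gt (K49.f171052 IH) (Lpr_ct (K67.f171113 IH) (Lpn (LP (LK LD1_c25 LD2_c53 LD3_c54))))))))))))
theorem f551120 : Led Lsl_ff (LP (LK LD1_c16 LD2_c1 LD3_c13)) = (LP (LK LD1_c25 LD2_c53 LD3_c54)) :=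
  Lgr Lrot23 (Lpr_ct (K49.f170477 IH) (Lpr_ft (K50.f551116 IH) (Lpr_ct (K67.f171113 IH) (Lpn (LP (LK LD1_c25 LD2_c53 LD3_c54))))))
theorem f551075 : Led Lsl_at (LP (LK LD1_c16 LD2_c1 LD3_c13)) = (LP (LK LD1_c25 LD2_c53 LD3_c57)) :=
  Lgr Lrot100 (Lpr_af (K49.f551073 IH) (Lpn (LP (LK LD1_c25 LD2_c53 LD3_c57))))
theorem f717227 : Led Lsl_gt (LP (LK LD1_c17 LD2_c40 LD3_c43)) = (LP (LK LD1_c25 LD2_c53 LD3_c57)) :=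
  Lgr Lrot46 (Lpr_gf (f717225 IH) (Lpe (f551120 IH) (Lpr_at (f551075 IH) (Lpn (LP (LK LD1_c25 LD2_c53 LD3_c57))))))
theorem f717229 : Led Lsl_at (LP (LK LD1_c25 LD2_c58 LD3_c38)) = (LP (LK LD1_c16 LD2_c6 LD3_c54)) :=
  Lgr Lrot26 (Lpe (K52.f551244 IH) (Lpr_gt (f717227 IH) (Lpr_gt (K50.f398150 IH) (Lpn (LP (LK LD1_c16 LD2_c6 LD3_c54))))))
theorem f693755 : Led Lsl_at (LP (LK LD1_c8 LD2_c35 LD3_c38)) = (LP (LK LD1_c16 LD2_c6 LD3_c61)) :=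
  Lre_a IH (LK LD1_c8 LD2_c35 LD3_c38) (LK LD1_c16 LD2_c6 LD3_c61) Lrfl Lrfl
theorem f717273 : Led Lsl_cf (LP (LK LD1_c25 LD2_c58 LD3_c38)) = (LP (LK LD1_c16 LD2_c6 LD3_c61)) :=
  Lgr Lrot1 (Lpr_at (f717229 IH) (Lpr_ct (K30.f170125 IH) (Lpr_at (f693755 IH) (Lpn (LP (LK LD1_c16 LD2_c6 LD3_c61))))))
theorem f186989 : Led Lsl_bt (LP (LK LD1_c8 LD2_c32 LD3_c2)) = (LP (LK LD1_c16 LD2_c1 LD3_c15)) :=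
  Lre_b IH (LK LD1_c8 LD2_c32 LD3_c2) (LK LD1_c16 LD2_c1 LD3_c15) Lrfl Lrfl
theorem f404801 : Led Lsl_gf (LP (LK LD1_c16 LD2_c1 LD3_c15)) = (LP (LK LD1_c8 LD2_c32 LD3_c11)) :=
  Lgr Lrot124 (Lpe (f186989 IH) (Lpr_ct (K49.f186968 IH) (Lpe (K49.f398057 IH) (Lpr_cf (K49.f398047 IH) (Lpr_bt (K49.f53355 IH) (Lpr_gt (K49.f53339 IH) (Lpr_ct (K50.f53354 IH) (Lpr_gt (K50.f404799 IH) (Lpe (K50.f51849 IH) (Lpr_bt (K30.f397870 IH) (Lpn (LP (LK LD1_c8 LD2_c32 LD3_c11)))))))))))))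
theorem f397885 : Led Lsl_ff (LP (LK LD1_c15 LD2_c47 LD3_c5)) = (LP (LK LD1_c8 LD2_c32 LD3_c11)) :=
  Lgr Lrot25 (Lpr_bt (K30.f52031 IH) (Lpr_ft (K30.f397881 IH) (Lpr_bt (K30.f397870 IH) (Lpn (LP (LK LD1_c8 LD2_c32 LD3_c11))))))
theorem f374469 : Led Lsl_at (LP (LK LD1_c15 LD2_c47 LD3_c5)) = (LP (LK LD1_c25 LD2_c43 LD3_c49)) :=
  Lre_a IH (LK LD1_c15 LD2_c47 LD3_c5) (LK LD1_c25 LD2_c43 LD3_c49) Lrfl Lrfl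
theorem f404803 : Led Lsl_gt (LP (LK LD1_c16 LD2_c1 LD3_c15)) = (LP (LK LD1_c25 LD2_c43 LD3_c49)) :=
  Lgr Lrot46 (Lpr_gf (f404801 IH) (Lpe (f397885 IH) (Lpr_at (f374469 IH) (Lpn (LP (LK LD1_c25 LD2_c43 LD3_c49))))))
theorem f717183 : Led Lsl_gt (LP (LK LD1_c15 LD2_c59 LD3_c39)) = (LP (LK LD1_c25 LD2_c43 LD3_c45)) :=
  Lgr Lrot5 (Lpe (K30.f374226 IH) (Lpr_at (K51.f374217 IH) (Lpr_gf (K52.f717181 IH) (Lpn (LP (LK LD1_c25 LD2_c43 LD3_c45))))))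
theorem f717285 : Led Lsl_bf (LP (LK LD1_c25 LD2_c43 LD3_c45)) = (LP (LK LD1_c16 LD2_c6 LD3_c61)) :=
  Lgr Lrot34 (Lpe (f717183 IH) (Lpe (K30.f374241 IH) (Lpr_ct (K30.f54028 IH) (Lpe (K38.f374396 IH) (Lpe (K30.f397910 IH) (Lpe (f404803 IH) (Lpe (f186989 IH) (Lpr_ct (K49.f186968 IH) (Lpr_gf (K52.f551240 IH) (Lpr_cf (f717273 IH) (Lpn (LP (LK LD1_c16 LD2_c6 LD3_c61)))))))))))))
theorem f717287 : Led Lsl_dt (LP (LK LD1_c25 LD2_c33 LD3_c7)) = (LP (LK LD1_c16 LD2_c6 LD3_c61)) :=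
  Lgr Lrot79 (Lpr_bf (K52.f620936 IH) (Lpr_df (K52.f717193 IH) (Lpr_bf (f717285 IH) (Lpn (LP (LK LD1_c16 LD2_c6 LD3_c61))))))
theorem f890279 : Led Lsl_af (LP (LK LD1_c25 LD2_c33 LD3_c7)) = v36804 :=
  Lgr Lrot117 (Lpr_dt (f717287 IH) (Lpr_at (f693736 IH) (Lpr_dt (f890278 IH) (Lpn v36804))))
theorem f890286 : Led Lsl_af (LP (LK LD1_c25 LD2_c34 LD3_c47)) = (LP (LK LD1_c31 LD2_c55 LD3_c57)) :=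
  Lgr Lrot68 (Lpr_ct (f890285 IH) (Lpe (f890279 IH) (Lpr_ct (K52.f372641 IH) (Lpn (LP (LK LD1_c31 LD2_c55 LD3_c57))))))
theorem f890287 : Led Lsl_at (LP (LK LD1_c31 LD2_c55 LD3_c57)) = (LP (LK LD1_c25 LD2_c34 LD3_c47)) :=
  Leop (Lpr_af (f890286 IH) (Lpn (LP (LK LD1_c31 LD2_c55 LD3_c57))))
theorem seed_2121 : LEOK LG_a (LK LD1_c31 LD2_c55 LD3_c57) :=
  Leoe_a (LK LD1_c31 LD2_c55 LD3_c57) (f890287 IH)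
def v36836 : LQ := Led Lsl_at (LP (LK LD1_c8 LD2_c35 LD3_c60))
theorem f890424 : Led Lsl_at (LP (LK LD1_c8 LD2_c35 LD3_c60)) = v36836 :=
  Lrfl
theorem f251945 : Led Lsl_bt (LP (LK LD1_c8 LD2_c35 LD3_c60)) = (LP (LK LD1_c4 LD2_c18 LD3_c39)) :=
  Lre_b IH (LK LD1_c8 LD2_c35 LD3_c60) (LK LD1_c4 LD2_c18 LD3_c39) Lrfl Lrfl
theorem f251946 : Led Lsl_bt (LP (LK LD1_c4 LD2_c12 LD3_c58)) = (LP (LK LD1_c8 LD2_c25 LD3_c10)) :=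
  Lre_b IH (LK LD1_c4 LD2_c12 LD3_c58) (LK LD1_c8 LD2_c25 LD3_c10) Lrfl Lrfl
theorem f251947 : Led Lsl_ff (LP (LK LD1_c8 LD2_c35 LD3_c60)) = (LP (LK LD1_c8 LD2_c25 LD3_c10)) :=
  Lgr Lrot25 (Lpr_bt (f251945 IH) (Lpr_ft (K14.f251935 IH) (Lpr_bt (f251946 IH) (Lpn (LP (LK LD1_c8 LD2_c25 LD3_c10))))))
theorem f261123 : Led Lsl_at (LP (LK LD1_c15 LD2_c49 LD3_c17)) = (LP (LK LD1_c8 LD2_c25 LD3_c10)) :=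
  Lre_a IH (LK LD1_c15 LD2_c49 LD3_c17) (LK LD1_c8 LD2_c25 LD3_c10) Lrfl Lrfl
theorem f890428 : Led Lsl_ff (LP (LK LD1_c15 LD2_c49 LD3_c17)) = v36836 :=
  Lgr Lrot30 (Lpr_at (f261123 IH) (Lpe (f251947 IH) (Lpr_at (f890424 IH) (Lpn v36836))))
theorem f256126 : Led Lsl_gt (LP (LK LD1_c15 LD2_c49 LD3_c16)) = (LP (LK LD1_c8 LD2_c25 LD3_c10)) :=
  Lre_g IH (LK LD1_c15 LD2_c49 LD3_c16) (LK LD1_c8 LD2_c25 LD3_c10) Lrfl Lrfl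
theorem f890432 : Led Lsl_gf (LP (LK LD1_c15 LD2_c49 LD3_c16)) = v36836 :=
  Lgr Lrot47 (Lpr_gt (f256126 IH) (Lpe (f261123 IH) (Lpr_ff (f890428 IH) (Lpn v36836))))
theorem f252087 : Led Lsl_gt (LP (LK LD1_c8 LD2_c25 LD3_c10)) = (LP (LK LD1_c15 LD2_c49 LD3_c15)) :=
  Lre_g IH (LK LD1_c8 LD2_c25 LD3_c10) (LK LD1_c15 LD2_c49 LD3_c15) Lrfl Lrfl
theorem f890429 : Led Lsl_gt (LP (LK LD1_c15 LD2_c49 LD3_c15)) = v36836 :=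
  Lgr Lrot46 (Lpe (f252087 IH) (Lpe (f251947 IH) (Lpr_at (f890424 IH) (Lpn v36836))))
theorem f385731 : Led Lsl_ct (LP (LK LD1_c16 LD2_c15 LD3_c36)) = (LP (LK LD1_c8 LD2_c40 LD3_c58)) :=
  Lre_c IH (LK LD1_c16 LD2_c15 LD3_c36) (LK LD1_c8 LD2_c40 LD3_c58) Lrfl Lrfl
theorem f385742 : Led Lsl_ct (LP (LK LD1_c14 LD2_c57 LD3_c9)) = (LP (LK LD1_c24 LD2_c44 LD3_c40)) :=
  Lre_c IH (LK LD1_c14 LD2_c57 LD3_c9) (LK LD1_c24 LD2_c44 LD3_c40) Lrfl Lrfl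
theorem f605932 : Led Lsl_ff (LP (LK LD1_c16 LD2_c15 LD3_c36)) = (LP (LK LD1_c24 LD2_c44 LD3_c40)) :=
  Lgr Lrot23 (Lpr_ct (f385731 IH) (Lpr_ft (K54.f605926 IH) (Lpr_ct (f385742 IH) (Lpn (LP (LK LD1_c24 LD2_c44 LD3_c40))))))
theorem f246657 : Led Lsl_bt (LP (LK LD1_c4 LD2_c18 LD3_c39)) = (LP (LK LD1_c8 LD2_c35 LD3_c60)) :=
  Lre_b IH (LK LD1_c4 LD2_c18 LD3_c39) (LK LD1_c8 LD2_c35 LD3_c60) Lrfl Lrfl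
theorem f407356 : Led Lsl_gt (LP (LK LD1_c8 LD2_c35 LD3_c60)) = (LP (LK LD1_c16 LD2_c7 LD3_c18)) :=
  Lre_g IH (LK LD1_c8 LD2_c35 LD3_c60) (LK LD1_c16 LD2_c7 LD3_c18) Lrfl Lrfl
theorem f216639 : Led Lsl_ct (LP (LK LD1_c8 LD2_c40 LD3_c53)) = (LP (LK LD1_c4 LD2_c21 LD3_c41)) :=
  Lre_c IH (LK LD1_c8 LD2_c40 LD3_c53) (LK LD1_c4 LD2_c21 LD3_c41) Lrfl Lrfl
theorem f411426 : Led Lsl_bf (LP (LK LD1_c16 LD2_c7 LD3_c18)) = (LP (LK LD1_c16 LD2_c15 LD3_c36)) :=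
  Lgr Lrot34 (Lpe (f407356 IH) (Lpe (f246657 IH) (Lpr_ct (K19.f230314 IH) (Lpr_gf (K14.f246680 IH) (Lpe (K16.f178760 IH) (Lpr_gf (K18.f270732 IH) (Lpe (f246690 IH) (Lpr_ct (f216639 IH) (Lpe (K54.f238740 IH) (Lpe (f385731 IH) (Lpn (LP (LK LD1_c16 LD2_c15 LD3_c36)))))))))))))
theorem f250826 : Led Lsl_bt (LP (LK LD1_c14 LD2_c57 LD3_c3)) = (LP (LK LD1_c7 LD2_c55 LD3_c30)) :=
  Lre_b IH (LK LD1_c14 LD2_c57 LD3_c3) (LK LD1_c7 LD2_c55 LD3_c30) Lrfl Lrfl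
theorem f238807 : Led Lsl_ct (LP (LK LD1_c14 LD2_c57 LD3_c3)) = (LP (LK LD1_c7 LD2_c55 LD3_c33)) :=
  Lre_c IH (LK LD1_c14 LD2_c57 LD3_c3) (LK LD1_c7 LD2_c55 LD3_c33) Lrfl Lrfl
theorem f267600 : Led Lsl_ct (LP (LK LD1_c24 LD2_c44 LD3_c40)) = (LP (LK LD1_c14 LD2_c57 LD3_c9)) :=
  Lre_c IH (LK LD1_c24 LD2_c44 LD3_c40) (LK LD1_c14 LD2_c57 LD3_c9) Lrfl Lrfl
theorem f271169 : Led Lsl_bt (LP (LK LD1_c24 LD2_c44 LD3_c40)) = (LP (LK LD1_c15 LD2_c49 LD3_c15)) :=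
  Lgr Lrot92 (Lpr_ct (f267600 IH) (Lpr_gt (K54.f229899 IH) (Lpe (f238807 IH) (Lpr_bt (f250826 IH) (Lpe (K17.f267594 IH) (Lpr_ct (K17.f179615 IH) (Lpr_gt (K16.f271161 IH) (Lpe (K14.f251939 IH) (Lpr_bt (f251946 IH) (Lpr_gt (f252087 IH) (Lpn (LP (LK LD1_c15 LD2_c49 LD3_c15)))))))))))))
theorem f411413 : Led Lsl_bf (LP (LK LD1_c24 LD2_c44 LD3_c40)) = (LP (LK LD1_c15 LD2_c49 LD3_c15)) :=
  Lgr Lrot24 (Lpr_bt (f271169 IH) (Lpn (LP (LK LD1_c15 LD2_c49 LD3_c15))))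
theorem f605935 : Led Lsl_ft (LP (LK LD1_c16 LD2_c7 LD3_c18)) = (LP (LK LD1_c15 LD2_c49 LD3_c15)) :=
  Lgr Lrot75 (Lpr_bf (f411426 IH) (Lpr_ff (f605932 IH) (Lpr_bf (f411413 IH) (Lpn (LP (LK LD1_c15 LD2_c49 LD3_c15))))))
theorem f605939 : Led Lsl_ff (LP (LK LD1_c16 LD2_c7 LD3_c18)) = (LP (LK LD1_c15 LD2_c49 LD3_c15)) :=
  Lgr Lrot3 (Lpr_ft (f605935 IH) (Lpn (LP (LK LD1_c15 LD2_c49 LD3_c15))))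
theorem f890433 : Led Lsl_af (LP (LK LD1_c15 LD2_c49 LD3_c16)) = (LP (LK LD1_c16 LD2_c7 LD3_c18)) :=
  Lgr Lrot31 (Lpr_gf (f890432 IH) (Lpe (f890429 IH) (Lpe (f605939 IH) (Lpn (LP (LK LD1_c16 LD2_c7 LD3_c18))))))
theorem f890434 : Led Lsl_at (LP (LK LD1_c16 LD2_c7 LD3_c18)) = (LP (LK LD1_c15 LD2_c49 LD3_c16)) :=
  Leop (Lpr_af (f890433 IH) (Lpn (LP (LK LD1_c16 LD2_c7 LD3_c18))))
theorem seed_2122 : LEOK LG_a (LK LD1_c16 LD2_c7 LD3_c18) :=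
  Leoe_a (LK LD1_c16 LD2_c7 LD3_c18) (f890434 IH)
theorem f885477 : Led Lsl_ct (LP (LK LD1_c15 LD2_c49 LD3_c16)) = (LP (LK LD1_c25 LD2_c45 LD3_c36)) :=
  Lre_c IH (LK LD1_c15 LD2_c49 LD3_c16) (LK LD1_c25 LD2_c45 LD3_c36) Lrfl Lrfl
theorem f631399 : Led Lsl_gf (LP (LK LD1_c4 LD2_c13 LD3_c17)) = K50.v4137 :=
  Lgr Lrot47 (Lpr_gt (K50.f178318 IH) (Lpe (K50.f178368 IH) (Lpr_ff (K50.f631395 IH) (Lpn K50.v4137))))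
def v12621 : LQ := Led Lsl_at (LP (LK LD1_c4 LD2_c18 LD3_c49))
theorem f693822 : Led Lsl_at (LP (LK LD1_c4 LD2_c18 LD3_c49)) = v12621 :=
  Lrfl
theorem f631392 : Led Lsl_af (LP (LK LD1_c2 LD2_c6 LD3_c48)) = K50.v4137 :=
  Lgr Lrot0 (Lpr_at (K50.f631391 IH) (Lpn K50.v4137))
theorem f693824 : Led Lsl_cf K50.v4137 = v12621 :=
  Lgr Lrot1 (Lpe (f631392 IH) (Lpr_ct (K50.f179607 IH) (Lpr_at (f693822 IH) (Lpn v12621))))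
theorem f890430 : Led Lsl_bt v12621 = v36836 :=
  Lgr Lrot92 (Lpe (f693824 IH) (Lpe (f631399 IH) (Lpe (f178373 IH) (Lpr_bt (f310051 IH) (Lpe (f372422 IH) (Lpr_ct (K15.f262732 IH) (Lpe (K54.f385740 IH) (Lpe (f267600 IH) (Lpr_bt (f271169 IH) (Lpr_gt (f890429 IH) (Lpn v36836)))))))))))
theorem f631396 : Led Lsl_gt (LP (LK LD1_c4 LD2_c13 LD3_c16)) = K50.v4137 :=
  Lgr Lrot46 (Lpe (K50.f178329 IH) (Lpe (K19.f304801 IH) (Lpr_at (K50.f631391 IH) (Lpn K50.v4137))))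
theorem f383359 : Led Lsl_ft (LP (LK LD1_c11 LD2_c16 LD3_c56)) = (LP (LK LD1_c11 LD2_c19 LD3_c6)) :=
  Lgr Lrot54 (Lpe (K27.f381166 IH) (Lpr_ff (K39.f381213 IH) (Lpr_df (K36.f383326 IH) (Lpn (LP (LK LD1_c11 LD2_c19 LD3_c6))))))
theorem f211947 : Led Lsl_dt (LP (LK LD1_c5 LD2_c37 LD3_c21)) = (LP (LK LD1_c11 LD2_c6 LD3_c28)) :=
  Lre_d IH (LK LD1_c5 LD2_c37 LD3_c21) (LK LD1_c11 LD2_c6 LD3_c28) Lrfl Lrfl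
theorem f381293 : Led Lsl_ff (LP (LK LD1_c11 LD2_c14 LD3_c31)) = (LP (LK LD1_c11 LD2_c6 LD3_c28)) :=
  Lgr Lrot19 (Lpr_dt (K50.f174279 IH) (Lpr_ft (K27.f381289 IH) (Lpr_dt (f211947 IH) (Lpn (LP (LK LD1_c11 LD2_c6 LD3_c28))))))
theorem f381297 : Led Lsl_ft (LP (LK LD1_c11 LD2_c14 LD3_c31)) = (LP (LK LD1_c11 LD2_c6 LD3_c28)) :=
  Lgr Lrot48 (Lpr_ff (f381293 IH) (Lpn (LP (LK LD1_c11 LD2_c6 LD3_c28))))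
theorem f381300 : Led Lsl_af (LP (LK LD1_c11 LD2_c16 LD3_c56)) = (LP (LK LD1_c11 LD2_c6 LD3_c28)) :=
  Lgr Lrot109 (Lpr_cf (K27.f381156 IH) (Lpe (K20.f258332 IH) (Lpe (K20.f164994 IH) (Lpe (K27.f165140 IH) (Lpr_cf (K17.f211990 IH) (Lpr_df (K27.f178950 IH) (Lpe (K27.f174272 IH) (Lpe (K50.f174279 IH) (Lpr_ft (f381297 IH) (Lpn (LP (LK LD1_c11 LD2_c6 LD3_c28))))))))))))
theorem f383428 : Led Lsl_af (LP (LK LD1_c11 LD2_c14 LD3_c31)) = (LP (LK LD1_c11 LD2_c19 LD3_c6)) :=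
  Lgr Lrot45 (Lpr_ft (f381297 IH) (Lpe (f381300 IH) (Lpr_ft (f383359 IH) (Lpn (LP (LK LD1_c11 LD2_c19 LD3_c6))))))
theorem f384024 : Led Lsl_gf (LP (LK LD1_c11 LD2_c18 LD3_c2)) = (LP (LK LD1_c11 LD2_c16 LD3_c56)) :=
  Lgr Lrot47 (Lpr_gt (K50.f383991 IH) (Lpr_af (f383428 IH) (Lpe (f383359 IH) (Lpn (LP (LK LD1_c11 LD2_c16 LD3_c56))))))
theorem f381192 : Led Lsl_bt (LP (LK LD1_c20 LD2_c12 LD3_c50)) = (LP (LK LD1_c11 LD2_c16 LD3_c56)) :=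
  Lre_b IH (LK LD1_c20 LD2_c12 LD3_c50) (LK LD1_c11 LD2_c16 LD3_c56) Lrfl Lrfl
theorem f381158 : Led Lsl_bt (LP (LK LD1_c11 LD2_c16 LD3_c56)) = (LP (LK LD1_c20 LD2_c12 LD3_c50)) :=
  Lre_b IH (LK LD1_c11 LD2_c16 LD3_c56) (LK LD1_c20 LD2_c12 LD3_c50) Lrfl Lrfl
theorem f319580 : Led Lsl_bt (LP (LK LD1_c26 LD2_c5 LD3_c37)) = (LP (LK LD1_c16 LD2_c8 LD3_c49)) :=
  Lre_b IH (LK LD1_c26 LD2_c5 LD3_c37) (LK LD1_c16 LD2_c8 LD3_c49) Lrfl Lrfl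
theorem f381159 : Led Lsl_ct (LP (LK LD1_c20 LD2_c12 LD3_c50)) = (LP (LK LD1_c26 LD2_c5 LD3_c37)) :=
  Lgr Lrot83 (Lpe (f381158 IH) (Lpr_cf (K27.f381156 IH) (Lpr_bf (K20.f319550 IH) (Lpe (K30.f319558 IH) (Lpe (f319580 IH) (Lpn (LP (LK LD1_c26 LD2_c5 LD3_c37))))))))
theorem f890435 : Led Lsl_gt (LP (LK LD1_c25 LD2_c45 LD3_c36)) = (LP (LK LD1_c26 LD2_c5 LD3_c37)) :=
  Lgr Lrot149 (Lpe (f885477 IH) (Lpr_gf (f890432 IH) (Lpe (f890430 IH) (Lpe (f693824 IH) (Lpe (f631396 IH) (Lpr_cf (K50.f692521 IH) (Lpe (K50.f692522 IH) (Lpr_gf (f384024 IH) (Lpe (f381192 IH) (Lpr_ct (f381159 IH) (Lpn (LP (LK LD1_c26 LD2_c5 LD3_c37)))))))))))))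
theorem f890436 : Led Lsl_gt (LP (LK LD1_c25 LD2_c45 LD3_c36)) = (LP (LK LD1_c26 LD2_c5 LD3_c37)) :=
  Leop (Lpe (f890435 IH) (Lpn (LP (LK LD1_c25 LD2_c45 LD3_c36))))
theorem seed_2123 : LEOK LG_g (LK LD1_c25 LD2_c45 LD3_c36) :=
  Leoe_g (LK LD1_c25 LD2_c45 LD3_c36) (f890436 IH)
def v36838 : LQ := Led Lsl_gf (LP (LK LD1_c8 LD2_c35 LD3_c61))
theorem f890455 : Led Lsl_gf (LP (LK LD1_c8 LD2_c35 LD3_c61)) = v36838 :=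
  Lrfl
theorem f171417 : Led Lsl_ct (LP (LK LD1_c8 LD2_c35 LD3_c61)) = (LP (LK LD1_c4 LD2_c18 LD3_c40)) :=
  Lre_c IH (LK LD1_c8 LD2_c35 LD3_c61) (LK LD1_c4 LD2_c18 LD3_c40) Lrfl Lrfl
theorem f248555 : Led Lsl_ct (LP (LK LD1_c9 LD2_c40 LD3_c14)) = (LP (LK LD1_c4 LD2_c54 LD3_c23)) :=
  Lre_c IH (LK LD1_c9 LD2_c40 LD3_c14) (LK LD1_c4 LD2_c54 LD3_c23) Lrfl Lrfl
theorem f270520 : Led Lsl_at (LP (LK LD1_c15 LD2_c57 LD3_c6)) = (LP (LK LD1_c14 LD2_c57 LD3_c25)) :=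
  Lgr Lrot100 (Lpr_af (K16.f270518 IH) (Lpn (LP (LK LD1_c14 LD2_c57 LD3_c25))))
theorem f275703 : Led Lsl_dt (LP (LK LD1_c14 LD2_c57 LD3_c25)) = (LP (LK LD1_c8 LD2_c7 LD3_c52)) :=
  Lgr Lrot44 (Lpe (f270520 IH) (Lpr_df (K18.f275701 IH) (Lpe (K18.f275687 IH) (Lpn (LP (LK LD1_c8 LD2_c7 LD3_c52))))))
theorem f284522 : Led Lsl_gf (LP (LK LD1_c8 LD2_c30 LD3_c53)) = (LP (LK LD1_c8 LD2_c21 LD3_c34)) :=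
  Lgr Lrot76 (Lpe (K13.f246337 IH) (Lpe (K13.f196636 IH) (Lpr_gt (K17.f284518 IH) (Lpn (LP (LK LD1_c8 LD2_c21 LD3_c34))))))
theorem f363189 : Led Lsl_gt (LP (LK LD1_c10 LD2_c25 LD3_c30)) = (LP (LK LD1_c10 LD2_c28 LD3_c0)) :=
  Lgr Lrot112 (Lpe (K14.f49008 IH) (Lpe (K14.f251068 IH) (Lpr_gf (f284522 IH) (Lpe (K17.f284511 IH) (Lpe (K15.f261034 IH) (Lpe (K18.f261037 IH) (Lpe (f275703 IH) (Lpr_gf (K30.f363187 IH) (Lpe (K26.f363177 IH) (Lpr_dt (K26.f363173 IH) (Lpn (LP (LK LD1_c10 LD2_c28 LD3_c0)))))))))))))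
theorem f890458 : Led Lsl_ct (LP (LK LD1_c14 LD2_c57 LD3_c6)) = v36838 :=
  Lgr Lrot152 (Lpe (K24.f287654 IH) (Lpr_df (K18.f48997 IH) (Lpr_gt (f363189 IH) (Lpe (K26.f363158 IH) (Lpr_gt (K19.f248563 IH) (Lpr_ct (f248555 IH) (Lpr_df (K19.f305931 IH) (Lpe (f171417 IH) (Lpr_gf (f890455 IH) (Lpn v36838))))))))))
theorem f332972 : Led Lsl_ct (LP (LK LD1_c15 LD2_c38 LD3_c36)) = (LP (LK LD1_c25 LD2_c33 LD3_c59)) :=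
  Lre_c IH (LK LD1_c15 LD2_c38 LD3_c36) (LK LD1_c25 LD2_c33 LD3_c59) Lrfl Lrfl
theorem f279188 : Led Lsl_dt (LP (LK LD1_c4 LD2_c52 LD3_c23)) = (LP (LK LD1_c9 LD2_c37 LD3_c4)) :=
  Lre_d IH (LK LD1_c4 LD2_c52 LD3_c23) (LK LD1_c9 LD2_c37 LD3_c4) Lrfl Lrfl
theorem f374871 : Led Lsl_gt (LP (LK LD1_c9 LD2_c37 LD3_c4)) = (LP (LK LD1_c17 LD2_c42 LD3_c34)) :=
  Lre_g IH (LK LD1_c9 LD2_c37 LD3_c4) (LK LD1_c17 LD2_c42 LD3_c34) Lrfl Lrfl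
theorem f890461 : Led Lsl_dt (LP (LK LD1_c17 LD2_c42 LD3_c34)) = v36838 :=
  Lgr Lrot113 (Lpe (f374871 IH) (Lpe (f279188 IH) (Lpe (K26.f320386 IH) (Lpe (f377883 IH) (Lpr_gt (K22.f232090 IH) (Lpr_dt (K14.f232086 IH) (Lpe (K24.f332998 IH) (Lpr_dt (K24.f332990 IH) (Lpr_ct (f890458 IH) (Lpn v36838))))))))))
theorem f890462 : Led Lsl_ct (LP (LK LD1_c27 LD2_c29 LD3_c44)) = (LP (LK LD1_c17 LD2_c42 LD3_c34)) :=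
  Lre_c IH (LK LD1_c27 LD2_c29 LD3_c44) (LK LD1_c17 LD2_c42 LD3_c34) Lrfl Lrfl
theorem f890463 : Led Lsl_gt (LP (LK LD1_c25 LD2_c33 LD3_c59)) = (LP (LK LD1_c27 LD2_c29 LD3_c44)) :=
  Lgr Lrot150 (Lpe (f332972 IH) (Lpe (K26.f332970 IH) (Lpe (K26.f304625 IH) (Lpr_gt (f171456 IH) (Lpr_ct (f372372 IH) (Lpr_gt (K24.f287654 IH) (Lpr_ct (f890458 IH) (Lpe (f890461 IH) (Lpe (f890462 IH) (Lpn (LP (LK LD1_c27 LD2_c29 LD3_c44))))))))))))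
theorem f890464 : Led Lsl_gt (LP (LK LD1_c25 LD2_c33 LD3_c59)) = (LP (LK LD1_c27 LD2_c29 LD3_c44)) :=
  Leop (Lpe (f890463 IH) (Lpn (LP (LK LD1_c25 LD2_c33 LD3_c59))))
theorem seed_2124 : LEOK LG_g (LK LD1_c25 LD2_c33 LD3_c59) :=
  Leoe_g (LK LD1_c25 LD2_c33 LD3_c59) (f890464 IH)
theorem f304612 : Led Lsl_dt (LP (LK LD1_c16 LD2_c7 LD3_c57)) = (LP (LK LD1_c8 LD2_c36 LD3_c27)) :=
  Lre_d IH (LK LD1_c16 LD2_c7 LD3_c57) (LK LD1_c8 LD2_c36 LD3_c27) Lrfl Lrfl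
theorem f890465 : Led Lsl_df (LP (LK LD1_c17 LD2_c42 LD3_c34)) = v36838 :=
  Lgr Lrot162 (Lpe (f890462 IH) (Lpe (f890463 IH) (Lpe (f332972 IH) (Lpe (K26.f332970 IH) (Lpr_dt (f304612 IH) (Lpr_gt (f171456 IH) (Lpr_ct (f372372 IH) (Lpr_gt (K24.f287654 IH) (Lpr_ct (f890458 IH) (Lpn v36838))))))))))
theorem f374872 : Led Lsl_ct (LP (LK LD1_c17 LD2_c42 LD3_c34)) = (LP (LK LD1_c27 LD2_c29 LD3_c44)) :=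
  Lre_c IH (LK LD1_c17 LD2_c42 LD3_c34) (LK LD1_c27 LD2_c29 LD3_c44) Lrfl Lrfl
theorem f307332 : Led Lsl_cf (LP (LK LD1_c15 LD2_c9 LD3_c48)) = (LP (LK LD1_c10 LD2_c10 LD3_c9)) :=
  Lgr Lrot11 (Lpr_ct (K21.f307325 IH) (Lpn (LP (LK LD1_c10 LD2_c10 LD3_c9))))
theorem f259795 : Led Lsl_dt (LP (LK LD1_c18 LD2_c31 LD3_c36)) = (LP (LK LD1_c10 LD2_c10 LD3_c9)) :=
  Lre_d IH (LK LD1_c18 LD2_c31 LD3_c36) (LK LD1_c10 LD2_c10 LD3_c9) Lrfl Lrfl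
theorem f692643 : Led Lsl_ff (LP (LK LD1_c4 LD2_c16 LD3_c57)) = K50.v12532 :=
  Lgr Lrot3 (Lpr_ft (K50.f692640 IH) (Lpn K50.v12532))
theorem f692639 : Led Lsl_et K50.v12384 = K50.v12532 :=
  Lgr Lrot87 (Lpr_ef (K50.f692638 IH) (Lpn K50.v12532))
theorem f692644 : Led Lsl_ft (LP (LK LD1_c8 LD2_c33 LD3_c21)) = (LP (LK LD1_c8 LD2_c20 LD3_c61)) :=
  Lgr Lrot86 (Lpe (K20.f184435 IH) (Lpr_ff (f692643 IH) (Lpe (f692639 IH) (Lpe (K50.f691844 IH) (Lpe (K21.f178737 IH) (Lpn (LP (LK LD1_c8 LD2_c20 LD3_c61))))))))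
theorem f692650 : Led Lsl_af (LP (LK LD1_c15 LD2_c41 LD3_c46)) = (LP (LK LD1_c8 LD2_c20 LD3_c61)) :=
  Lgr Lrot31 (Lpe (K21.f325389 IH) (Lpe (K20.f322578 IH) (Lpr_ft (f692644 IH) (Lpn (LP (LK LD1_c8 LD2_c20 LD3_c61))))))
def v12385 : LQ := Led Lsl_ft (LP (LK LD1_c4 LD2_c10 LD3_c20))
theorem f691846 : Led Lsl_ft (LP (LK LD1_c4 LD2_c10 LD3_c20)) = v12385 :=
  Lrfl
theorem f691847 : Led Lsl_af (LP (LK LD1_c4 LD2_c10 LD3_c21)) = v12385 :=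
  Lgr Lrot45 (Lpr_ft (K50.f691844 IH) (Lpe (K50.f691843 IH) (Lpr_ft (f691846 IH) (Lpn v12385))))
theorem f692660 : (LP (LK LD1_c8 LD2_c20 LD3_c19)) = v12385 :=
  (Llr Lrot123 (Lpe (K21.f231089 IH) (Lpr_af (f692650 IH) (Lpe (K21.f182225 IH) (Lpr_af (f691847 IH) (Lpn v12385)))))).symm
theorem f692656 : Led Lsl_at (LP (LK LD1_c15 LD2_c47 LD3_c27)) = (LP (LK LD1_c8 LD2_c33 LD3_c21)) :=
  Lgr Lrot51 (Lpe (K22.f322539 IH) (Lpr_af (f692650 IH) (Lpe (K21.f184440 IH) (Lpn (LP (LK LD1_c8 LD2_c33 LD3_c21))))))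
theorem f692658 : Led Lsl_ft (LP (LK LD1_c15 LD2_c41 LD3_c46)) = (LP (LK LD1_c15 LD2_c47 LD3_c27)) :=
  Lgr Lrot101 (Lpr_af (f692650 IH) (Lpe (f692644 IH) (Lpe (f692656 IH) (Lpn (LP (LK LD1_c15 LD2_c47 LD3_c27))))))
theorem f692671 : Led Lsl_ff (LP (LK LD1_c4 LD2_c16 LD3_c56)) = (LP (LK LD1_c8 LD2_c32 LD3_c48)) :=
  Lgr Lrot72 (Lpr_et (K20.f316087 IH) (Lpr_ft (f691846 IH) (Lpq (f692660 IH) (Lpr_et (K21.f249155 IH) (Lpr_ft (f692658 IH) (Lpe (K21.f322532 IH) (Lpn (LP (LK LD1_c8 LD2_c32 LD3_c48)))))))))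
theorem f692683 : K50.v12532 = (LP (LK LD1_c8 LD2_c32 LD3_c47)) :=
  (Llr Lrot26 (Lpe (K50.f692636 IH) (Lpr_ff (f692671 IH) (Lpr_gt (K21.f230977 IH) (Lpr_gt (K23.f230976 IH) (Lpn (LP (LK LD1_c8 LD2_c32 LD3_c47)))))))).symm
theorem f692688 : K50.v12384 = (LP (LK LD1_c8 LD2_c20 LD3_c18)) :=
  Lefun (Lecon (Lfl_ef (K50.f692638 IH)) (f692683 IH)) (K23.f296083 IH)
theorem f692697 : Led Lsl_ff (LP (LK LD1_c5 LD2_c19 LD3_c18)) = (LP (LK LD1_c5 LD2_c12 LD3_c7)) :=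
  Lgr Lrot19 (Lpr_dt (K9.f182217 IH) (Lpr_ft (K50.f691844 IH) (Lpqs (f692688 IH) (Lpe (K22.f296060 IH) (Lpn (LP (LK LD1_c5 LD2_c12 LD3_c7)))))))
theorem f692705 : Led Lsl_at (LP (LK LD1_c5 LD2_c19 LD3_c18)) = (LP (LK LD1_c5 LD2_c12 LD3_c6)) :=
  Lgr Lrot26 (Lpr_ff (f692697 IH) (Lpr_gt (K22.f200189 IH) (Lpr_gt (K21.f200176 IH) (Lpn (LP (LK LD1_c5 LD2_c12 LD3_c6))))))
theorem f692669 : Led Lsl_ff (LP (LK LD1_c5 LD2_c19 LD3_c19)) = (LP (LK LD1_c5 LD2_c12 LD3_c6)) :=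
  Lgr Lrot19 (Lpr_dt (K20.f316063 IH) (Lpr_ft (f691846 IH) (Lpq (f692660 IH) (Lpe (K21.f249153 IH) (Lpn (LP (LK LD1_c5 LD2_c12 LD3_c6)))))))
theorem f692713 : Led Lsl_af (LP (LK LD1_c5 LD2_c12 LD3_c7)) = (LP (LK LD1_c5 LD2_c19 LD3_c19)) :=
  Lgr Lrot45 (Lpe (f692697 IH) (Lpr_at (f692705 IH) (Lpe (f692669 IH) (Lpn (LP (LK LD1_c5 LD2_c19 LD3_c19))))))
theorem f200363 : Led Lsl_ct (LP (LK LD1_c10 LD2_c15 LD3_c3)) = (LP (LK LD1_c5 LD2_c12 LD3_c7)) :=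
  Lre_c IH (LK LD1_c10 LD2_c15 LD3_c3) (LK LD1_c5 LD2_c12 LD3_c7) Lrfl Lrfl
theorem f296077 : Led Lsl_dt (LP (LK LD1_c18 LD2_c39 LD3_c6)) = (LP (LK LD1_c10 LD2_c15 LD3_c3)) :=
  Lre_d IH (LK LD1_c18 LD2_c39 LD3_c6) (LK LD1_c10 LD2_c15 LD3_c3) Lrfl Lrfl
theorem f296108 : Led Lsl_ct (LP (LK LD1_c28 LD2_c11 LD3_c1)) = (LP (LK LD1_c18 LD2_c39 LD3_c6)) :=
  Lre_c IH (LK LD1_c28 LD2_c11 LD3_c1) (LK LD1_c18 LD2_c39 LD3_c6) Lrfl Lrfl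
theorem f178622 : Led Lsl_ct (LP (LK LD1_c8 LD2_c20 LD3_c19)) = (LP (LK LD1_c15 LD2_c41 LD3_c45)) :=
  Lre_c IH (LK LD1_c8 LD2_c20 LD3_c19) (LK LD1_c15 LD2_c41 LD3_c45) Lrfl Lrfl
theorem f200226 : Led Lsl_ct (LP (LK LD1_c8 LD2_c22 LD3_c49)) = (LP (LK LD1_c15 LD2_c46 LD3_c6)) :=
  Lre_c IH (LK LD1_c8 LD2_c22 LD3_c49) (LK LD1_c15 LD2_c46 LD3_c6) Lrfl Lrfl
theorem f296063 : Led Lsl_gt (LP (LK LD1_c15 LD2_c46 LD3_c6)) = (LP (LK LD1_c25 LD2_c42 LD3_c52)) :=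
  Lre_g IH (LK LD1_c15 LD2_c46 LD3_c6) (LK LD1_c25 LD2_c42 LD3_c52) Lrfl Lrfl
theorem f296064 : Led Lsl_ct (LP (LK LD1_c25 LD2_c42 LD3_c52)) = (LP (LK LD1_c25 LD2_c37 LD3_c20)) :=
  Lgr Lrot110 (Lpe (f296063 IH) (Lpe (f200226 IH) (Lpe (K22.f200362 IH) (Lpr_df (K22.f296052 IH) (Lpr_gt (K22.f178623 IH) (Lpr_ct (K22.f178597 IH) (Lpr_gt (K22.f178621 IH) (Lpr_ct (f178622 IH) (Lpe (K25.f249156 IH) (Lpn (LP (LK LD1_c25 LD2_c37 LD3_c20))))))))))))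
theorem f296066 : Led Lsl_cf (LP (LK LD1_c25 LD2_c42 LD3_c52)) = (LP (LK LD1_c25 LD2_c37 LD3_c20)) :=
  Lgr Lrot11 (Lpr_ct (f296064 IH) (Lpn (LP (LK LD1_c25 LD2_c37 LD3_c20))))
theorem f692721 : Led Lsl_df (LP (LK LD1_c28 LD2_c11 LD3_c1)) = (LP (LK LD1_c25 LD2_c42 LD3_c52)) :=
  Lgr Lrot13 (Lpr_ct (f296108 IH) (Lpr_dt (f296077 IH) (Lpr_ct (f200363 IH) (Lpr_af (f692713 IH) (Lpr_ff (f692669 IH) (Lpr_dt (K21.f249146 IH) (Lpr_ct (f178622 IH) (Lpr_dt (K25.f249152 IH) (Lpe (f296066 IH) (Lpn (LP (LK LD1_c25 LD2_c42 LD3_c52))))))))))))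
theorem f178617 : Led Lsl_ct (LP (LK LD1_c8 LD2_c20 LD3_c18)) = (LP (LK LD1_c15 LD2_c41 LD3_c44)) :=
  Lre_c IH (LK LD1_c8 LD2_c20 LD3_c18) (LK LD1_c15 LD2_c41 LD3_c44) Lrfl Lrfl
theorem f692667 : Led Lsl_ff (LP (LK LD1_c8 LD2_c20 LD3_c59)) = (LP (LK LD1_c15 LD2_c41 LD3_c45)) :=
  Lgr Lrot23 (Lpr_ct (K67.f316069 IH) (Lpr_ft (f691846 IH) (Lpq (f692660 IH) (Lpr_ct (f178622 IH) (Lpn (LP (LK LD1_c15 LD2_c41 LD3_c45)))))))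
theorem f692725 : Led Lsl_af (LP (LK LD1_c15 LD2_c41 LD3_c44)) = (LP (LK LD1_c8 LD2_c20 LD3_c59)) :=
  Lgr Lrot109 (Lpe (f178617 IH) (Lpe (K23.f296074 IH) (Lpe (f200363 IH) (Lpe (f296077 IH) (Lpe (f296108 IH) (Lpr_df (f692721 IH) (Lpr_cf (f296066 IH) (Lpe (K25.f249152 IH) (Lpe (f692667 IH) (Lpn (LP (LK LD1_c8 LD2_c20 LD3_c59))))))))))))
theorem f692695 : Led Lsl_ff (LP (LK LD1_c8 LD2_c20 LD3_c60)) = (LP (LK LD1_c15 LD2_c41 LD3_c44)) :=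
  Lgr Lrot23 (Lpr_ct (K27.f178735 IH) (Lpr_ft (K50.f691844 IH) (Lpqs (f692688 IH) (Lpr_ct (f178617 IH) (Lpn (LP (LK LD1_c15 LD2_c41 LD3_c44)))))))
theorem f692736 : Led Lsl_at (LP (LK LD1_c8 LD2_c20 LD3_c60)) = (LP (LK LD1_c15 LD2_c41 LD3_c45)) :=
  Lgr Lrot66 (Lpr_ff (f692695 IH) (Lpr_af (f692725 IH) (Lpr_ff (f692667 IH) (Lpn (LP (LK LD1_c15 LD2_c41 LD3_c45))))))
theorem f692740 : Led Lsl_af (LP (LK LD1_c15 LD2_c43 LD3_c3)) = (LP (LK LD1_c25 LD2_c37 LD3_c20)) :=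
  Lgr Lrot117 (Lpr_dt (K27.f182230 IH) (Lpr_at (f692736 IH) (Lpr_dt (K25.f249152 IH) (Lpn (LP (LK LD1_c25 LD2_c37 LD3_c20))))))
theorem f692746 : Led Lsl_ft (LP (LK LD1_c15 LD2_c43 LD3_c1)) = (LP (LK LD1_c25 LD2_c37 LD3_c20)) :=
  Lgr Lrot2 (Lpr_gt (K26.f361464 IH) (Lpr_gt (K27.f349984 IH) (Lpr_af (f692740 IH) (Lpn (LP (LK LD1_c25 LD2_c37 LD3_c20))))))
theorem f692752 : Led Lsl_ff (LP (LK LD1_c15 LD2_c43 LD3_c1)) = (LP (LK LD1_c25 LD2_c37 LD3_c20)) :=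
  Lgr Lrot3 (Lpr_ft (f692746 IH) (Lpn (LP (LK LD1_c25 LD2_c37 LD3_c20))))
theorem f316066 : Led Lsl_ct (LP (LK LD1_c15 LD2_c43 LD3_c1)) = (LP (LK LD1_c25 LD2_c39 LD3_c16)) :=
  Lre_c IH (LK LD1_c15 LD2_c43 LD3_c1) (LK LD1_c25 LD2_c39 LD3_c16) Lrfl Lrfl
theorem f692754 : Led Lsl_ft (LP (LK LD1_c25 LD2_c39 LD3_c16)) = (LP (LK LD1_c25 LD2_c42 LD3_c52)) :=
  Lgr Lrot4 (Lpe (f316066 IH) (Lpr_ff (f692752 IH) (Lpe (f296064 IH) (Lpn (LP (LK LD1_c25 LD2_c42 LD3_c52))))))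
theorem f325683 : Led Lsl_ct (LP (LK LD1_c15 LD2_c45 LD3_c16)) = (LP (LK LD1_c8 LD2_c22 LD3_c17)) :=
  Lre_c IH (LK LD1_c15 LD2_c45 LD3_c16) (LK LD1_c8 LD2_c22 LD3_c17) Lrfl Lrfl
theorem f349981 : Led Lsl_gt (LP (LK LD1_c25 LD2_c39 LD3_c16)) = (LP (LK LD1_c25 LD2_c42 LD3_c17)) :=
  Lgr Lrot150 (Lpe (f316066 IH) (Lpe (K20.f316070 IH) (Lpr_df (K20.f321111 IH) (Lpr_gt (K24.f349977 IH) (Lpr_ct (f325683 IH) (Lpr_gt (K22.f325647 IH) (Lpr_ct (K20.f200235 IH) (Lpe (K18.f200245 IH) (Lpe (K18.f200219 IH) (Lpn (LP (LK LD1_c25 LD2_c42 LD3_c17))))))))))))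
theorem f182252 : Led Lsl_ct (LP (LK LD1_c25 LD2_c39 LD3_c19)) = (LP (LK LD1_c15 LD2_c43 LD3_c3)) :=
  Lre_c IH (LK LD1_c25 LD2_c39 LD3_c19) (LK LD1_c15 LD2_c43 LD3_c3) Lrfl Lrfl
theorem f316160 : Led Lsl_gt (LP (LK LD1_c25 LD2_c42 LD3_c17)) = (LP (LK LD1_c25 LD2_c39 LD3_c19)) :=
  Lgr Lrot150 (Lpe (K18.f200195 IH) (Lpr_gf (K20.f316076 IH) (Lpe (K20.f316075 IH) (Lpr_gt (K21.f230989 IH) (Lpr_ct (K21.f178731 IH) (Lpr_gt (K21.f182235 IH) (Lpr_ct (K54.f178733 IH) (Lpe (K27.f182230 IH) (Lpe (f182252 IH) (Lpn (LP (LK LD1_c25 LD2_c39 LD3_c19))))))))))))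
theorem f692764 : Led Lsl_af (LP (LK LD1_c25 LD2_c39 LD3_c19)) = (LP (LK LD1_c25 LD2_c42 LD3_c52)) :=
  Lgr Lrot31 (Lpe (f316160 IH) (Lpe (f349981 IH) (Lpr_ft (f692754 IH) (Lpn (LP (LK LD1_c25 LD2_c42 LD3_c52))))))
theorem f178668 : Led Lsl_ct (LP (LK LD1_c8 LD2_c20 LD3_c56)) = (LP (LK LD1_c15 LD2_c42 LD3_c59)) :=
  Lre_c IH (LK LD1_c8 LD2_c20 LD3_c56) (LK LD1_c15 LD2_c42 LD3_c59) Lrfl Lrfl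
theorem f178684 : Led Lsl_dt (LP (LK LD1_c25 LD2_c39 LD3_c13)) = (LP (LK LD1_c15 LD2_c42 LD3_c59)) :=
  Lre_d IH (LK LD1_c25 LD2_c39 LD3_c13) (LK LD1_c15 LD2_c42 LD3_c59) Lrfl Lrfl
theorem f178629 : Led Lsl_dt (LP (LK LD1_c25 LD2_c37 LD3_c18)) = (LP (LK LD1_c28 LD2_c24 LD3_c45)) :=
  Lgr Lrot42 (Lpr_df (K14.f178612 IH) (Lpn (LP (LK LD1_c28 LD2_c24 LD3_c45))))
theorem f178643 : Led Lsl_at (LP (LK LD1_c15 LD2_c42 LD3_c59)) = (LP (LK LD1_c25 LD2_c37 LD3_c18)) :=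
  Lre_a IH (LK LD1_c15 LD2_c42 LD3_c59) (LK LD1_c25 LD2_c37 LD3_c18) Lrfl Lrfl
theorem f178685 : Led Lsl_af (LP (LK LD1_c25 LD2_c39 LD3_c13)) = (LP (LK LD1_c28 LD2_c24 LD3_c45)) :=
  Lgr Lrot117 (Lpr_dt (f178684 IH) (Lpr_at (f178643 IH) (Lpr_dt (f178629 IH) (Lpn (LP (LK LD1_c28 LD2_c24 LD3_c45))))))
theorem f178632 : Led Lsl_ft (LP (LK LD1_c18 LD2_c56 LD3_c39)) = (LP (LK LD1_c28 LD2_c24 LD3_c45)) :=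
  Lre_f IH (LK LD1_c18 LD2_c56 LD3_c39) (LK LD1_c28 LD2_c24 LD3_c45) Lrfl Lrfl
theorem f178675 : Led Lsl_gt (LP (LK LD1_c18 LD2_c56 LD3_c39)) = (LP (LK LD1_c28 LD2_c24 LD3_c41)) :=
  Lre_g IH (LK LD1_c18 LD2_c56 LD3_c39) (LK LD1_c28 LD2_c24 LD3_c41) Lrfl Lrfl
theorem f178690 : Led Lsl_gf (LP (LK LD1_c25 LD2_c39 LD3_c13)) = (LP (LK LD1_c28 LD2_c24 LD3_c41)) :=
  Lgr Lrot76 (Lpr_af (f178685 IH) (Lpe (f178632 IH) (Lpr_gt (f178675 IH) (Lpn (LP (LK LD1_c28 LD2_c24 LD3_c41))))))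
theorem f402877 : Led Lsl_df (LP (LK LD1_c28 LD2_c24 LD3_c41)) = (LP (LK LD1_c25 LD2_c39 LD3_c19)) :=
  Lgr Lrot153 (Lpe (f178690 IH) (Lpr_dt (f178684 IH) (Lpe (f178668 IH) (Lpe (K20.f178669 IH) (Lpe (K26.f178693 IH) (Lpe (K26.f178694 IH) (Lpe (K26.f300448 IH) (Lpe (K18.f200219 IH) (Lpr_gt (f316160 IH) (Lpn (LP (LK LD1_c25 LD2_c39 LD3_c19))))))))))))
theorem f692723 : Led Lsl_dt (LP (LK LD1_c28 LD2_c11 LD3_c1)) = (LP (LK LD1_c25 LD2_c42 LD3_c52)) :=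
  Lgr Lrot42 (Lpr_df (f692721 IH) (Lpn (LP (LK LD1_c25 LD2_c42 LD3_c52))))
theorem f692766 : Led Lsl_at (LP (LK LD1_c28 LD2_c24 LD3_c41)) = (LP (LK LD1_c28 LD2_c11 LD3_c1)) :=
  Lgr Lrot51 (Lpr_df (f402877 IH) (Lpr_af (f692764 IH) (Lpe (f692723 IH) (Lpn (LP (LK LD1_c28 LD2_c11 LD3_c1))))))
theorem f300474 : Led Lsl_dt (LP (LK LD1_c10 LD2_c28 LD3_c25)) = (LP (LK LD1_c18 LD2_c58 LD3_c58)) :=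
  Lre_d IH (LK LD1_c10 LD2_c28 LD3_c25) (LK LD1_c18 LD2_c58 LD3_c58) Lrfl Lrfl
theorem f182237 : Led Lsl_df (LP (LK LD1_c10 LD2_c28 LD3_c20)) = (LP (LK LD1_c18 LD2_c56 LD3_c38)) :=
  Lgr Lrot38 (Lpr_dt (K9.f182228 IH) (Lpn (LP (LK LD1_c18 LD2_c56 LD3_c38))))
theorem f178680 : Led Lsl_ct (LP (LK LD1_c10 LD2_c26 LD3_c47)) = (LP (LK LD1_c18 LD2_c56 LD3_c39)) :=
  Lre_c IH (LK LD1_c10 LD2_c26 LD3_c47) (LK LD1_c18 LD2_c56 LD3_c39) Lrfl Lrfl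
theorem f335336 : Led Lsl_cf (LP (LK LD1_c18 LD2_c58 LD3_c58)) = (LP (LK LD1_c28 LD2_c24 LD3_c41)) :=
  Lgr Lrot99 (Lpe (f300474 IH) (Lpe (K25.f300472 IH) (Lpe (K20.f300470 IH) (Lpe (K25.f200231 IH) (Lpr_gf (K25.f335334 IH) (Lpr_df (f182237 IH) (Lpr_gt (K9.f178734 IH) (Lpr_ct (f178680 IH) (Lpr_gt (f178675 IH) (Lpn (LP (LK LD1_c28 LD2_c24 LD3_c41))))))))))))
theorem f335338 : Led Lsl_ct (LP (LK LD1_c18 LD2_c58 LD3_c58)) = (LP (LK LD1_c28 LD2_c24 LD3_c41)) :=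
  Lgr Lrot59 (Lpr_cf (f335336 IH) (Lpn (LP (LK LD1_c28 LD2_c24 LD3_c41))))
theorem f692770 : Led Lsl_af (LP (LK LD1_c18 LD2_c58 LD3_c58)) = (LP (LK LD1_c18 LD2_c39 LD3_c6)) :=
  Lgr Lrot68 (Lpr_ct (f335338 IH) (Lpr_at (f692766 IH) (Lpr_ct (f296108 IH) (Lpn (LP (LK LD1_c18 LD2_c39 LD3_c6))))))
theorem f178710 : Led Lsl_ct (LP (LK LD1_c5 LD2_c18 LD3_c34)) = (LP (LK LD1_c10 LD2_c26 LD3_c50)) :=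
  Lre_c IH (LK LD1_c5 LD2_c18 LD3_c34) (LK LD1_c10 LD2_c26 LD3_c50) Lrfl Lrfl
theorem f233278 : Led Lsl_et (LP (LK LD1_c7 LD2_c57 LD3_c51)) = (LP (LK LD1_c15 LD2_c1 LD3_c18)) :=
  Lre_e IH (LK LD1_c7 LD2_c57 LD3_c51) (LK LD1_c15 LD2_c1 LD3_c18) Lrfl Lrfl
theorem f184469 : Led Lsl_dt (LP (LK LD1_c15 LD2_c41 LD3_c29)) = (LP (LK LD1_c25 LD2_c37 LD3_c0)) :=
  Lre_d IH (LK LD1_c15 LD2_c41 LD3_c29) (LK LD1_c25 LD2_c37 LD3_c0) Lrfl Lrfl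
theorem f184445 : Led Lsl_ct (LP (LK LD1_c8 LD2_c20 LD3_c61)) = (LP (LK LD1_c15 LD2_c43 LD3_c4)) :=
  Lre_c IH (LK LD1_c8 LD2_c20 LD3_c61) (LK LD1_c15 LD2_c43 LD3_c4) Lrfl Lrfl
theorem f184450 : Led Lsl_dt (LP (LK LD1_c25 LD2_c39 LD3_c21)) = (LP (LK LD1_c15 LD2_c43 LD3_c4)) :=
  Lre_d IH (LK LD1_c25 LD2_c39 LD3_c21) (LK LD1_c15 LD2_c43 LD3_c4) Lrfl Lrfl
theorem f184470 : Led Lsl_gf (LP (LK LD1_c25 LD2_c39 LD3_c21)) = (LP (LK LD1_c25 LD2_c37 LD3_c0)) :=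
  Lgr Lrot143 (Lpr_dt (f184450 IH) (Lpe (f184445 IH) (Lpe (K21.f184440 IH) (Lpr_gf (K21.f184463 IH) (Lpe (K21.f184462 IH) (Lpe (K16.f184461 IH) (Lpe (K13.f184467 IH) (Lpr_gt (K20.f184468 IH) (Lpr_dt (f184469 IH) (Lpn (LP (LK LD1_c25 LD2_c37 LD3_c0))))))))))))
theorem f184446 : Led Lsl_dt (LP (LK LD1_c15 LD2_c43 LD3_c4)) = (LP (LK LD1_c25 LD2_c39 LD3_c21)) :=
  Lre_d IH (LK LD1_c15 LD2_c43 LD3_c4) (LK LD1_c25 LD2_c39 LD3_c21) Lrfl Lrfl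
theorem f184480 : Led Lsl_et (LP (LK LD1_c15 LD2_c43 LD3_c4)) = (LP (LK LD1_c8 LD2_c20 LD3_c60)) :=
  Lre_e IH (LK LD1_c15 LD2_c43 LD3_c4) (LK LD1_c8 LD2_c20 LD3_c60) Lrfl Lrfl
theorem f233300 : Led Lsl_gf (LP (LK LD1_c15 LD2_c1 LD3_c18)) = (LP (LK LD1_c8 LD2_c20 LD3_c60)) :=
  Lgr Lrot141 (Lpe (f233278 IH) (Lpr_dt (K15.f233276 IH) (Lpe (K15.f219267 IH) (Lpr_df (K16.f219121 IH) (Lpr_et (K19.f184482 IH) (Lpr_gt (K20.f184468 IH) (Lpr_dt (f184469 IH) (Lpe (f184470 IH) (Lpe (f184446 IH) (Lpr_et (f184480 IH) (Lpn (LP (LK LD1_c8 LD2_c20 LD3_c60)))))))))))))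
theorem f316325 : Led Lsl_gt (LP (LK LD1_c10 LD2_c26 LD3_c50)) = (LP (LK LD1_c8 LD2_c52 LD3_c20)) :=
  Lgr Lrot150 (Lpe (f178710 IH) (Lpr_gf (K25.f316323 IH) (Lpr_df (K21.f248349 IH) (Lpr_gt (K21.f182235 IH) (Lpr_ct (K54.f178733 IH) (Lpe (f233300 IH) (Lpr_ct (K26.f188648 IH) (Lpr_df (K12.f190801 IH) (Lpr_cf (K20.f212292 IH) (Lpn (LP (LK LD1_c8 LD2_c52 LD3_c20))))))))))))
theorem f178709 : Led Lsl_ct (LP (LK LD1_c10 LD2_c26 LD3_c50)) = (LP (LK LD1_c5 LD2_c18 LD3_c34)) :=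
  Lre_c IH (LK LD1_c10 LD2_c26 LD3_c50) (LK LD1_c5 LD2_c18 LD3_c34) Lrfl Lrfl
theorem f300473 : Led Lsl_dt (LP (LK LD1_c18 LD2_c58 LD3_c58)) = (LP (LK LD1_c10 LD2_c28 LD3_c25)) :=
  Lre_d IH (LK LD1_c18 LD2_c58 LD3_c58) (LK LD1_c10 LD2_c28 LD3_c25) Lrfl Lrfl
theorem f44130 : Led Lsl_dt (LP (LK LD1_c8 LD2_c52 LD3_c20)) = (LP (LK LD1_c16 LD2_c35 LD3_c16)) :=
  Lre_d IH (LK LD1_c8 LD2_c52 LD3_c20) (LK LD1_c16 LD2_c35 LD3_c16) Lrfl Lrfl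
theorem f316328 : Led Lsl_gf (LP (LK LD1_c18 LD2_c58 LD3_c58)) = (LP (LK LD1_c16 LD2_c35 LD3_c16)) :=
  Lgr Lrot143 (Lpr_dt (f300473 IH) (Lpe (K25.f300472 IH) (Lpr_df (K20.f316067 IH) (Lpe (K20.f178708 IH) (Lpr_df (K9.f178605 IH) (Lpe (K20.f178707 IH) (Lpe (f178709 IH) (Lpr_gt (f316325 IH) (Lpr_dt (f44130 IH) (Lpn (LP (LK LD1_c16 LD2_c35 LD3_c16))))))))))))
theorem f692776 : Led Lsl_ft (LP (LK LD1_c18 LD2_c58 LD3_c56)) = (LP (LK LD1_c18 LD2_c39 LD3_c6)) :=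
  Lgr Lrot2 (Lpr_gt (K20.f321944 IH) (Lpe (f316328 IH) (Lpr_af (f692770 IH) (Lpn (LP (LK LD1_c18 LD2_c39 LD3_c6))))))
theorem f692780 : Led Lsl_ff (LP (LK LD1_c18 LD2_c58 LD3_c56)) = (LP (LK LD1_c18 LD2_c39 LD3_c6)) :=
  Lgr Lrot3 (Lpr_ft (f692776 IH) (Lpn (LP (LK LD1_c18 LD2_c39 LD3_c6))))
theorem f325699 : Led Lsl_dt (LP (LK LD1_c26 LD2_c3 LD3_c37)) = (LP (LK LD1_c16 LD2_c6 LD3_c35)) :=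
  Lre_d IH (LK LD1_c26 LD2_c3 LD3_c37) (LK LD1_c16 LD2_c6 LD3_c35) Lrfl Lrfl
theorem f355674 : Led Lsl_df (LP (LK LD1_c9 LD2_c55 LD3_c17)) = (LP (LK LD1_c14 LD2_c58 LD3_c12)) :=
  Lgr Lrot38 (Lpr_dt (K25.f355670 IH) (Lpn (LP (LK LD1_c14 LD2_c58 LD3_c12))))
theorem f349789 : Led Lsl_ct (LP (LK LD1_c26 LD2_c0 LD3_c16)) = (LP (LK LD1_c24 LD2_c45 LD3_c46)) :=
  Lgr Lrot59 (Lpr_cf (K23.f349785 IH) (Lpn (LP (LK LD1_c24 LD2_c45 LD3_c46))))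
theorem f371700 : Led Lsl_gf (LP (LK LD1_c26 LD2_c3 LD3_c37)) = (LP (LK LD1_c26 LD2_c0 LD3_c19)) :=
  Lgr Lrot143 (Lpr_dt (f325699 IH) (Lpr_cf (K46.f371688 IH) (Lpe (K26.f361014 IH) (Lpe (K27.f361100 IH) (Lpr_df (f355674 IH) (Lpe (K23.f266229 IH) (Lpe (f349789 IH) (Lpr_gt (K26.f358932 IH) (Lpr_dt (K26.f249201 IH) (Lpn (LP (LK LD1_c26 LD2_c0 LD3_c19))))))))))))
theorem f365560 : Led Lsl_ft (LP (LK LD1_c10 LD2_c32 LD3_c37)) = (LP (LK LD1_c19 LD2_c5 LD3_c46)) :=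
  Lre_f IH (LK LD1_c10 LD2_c32 LD3_c37) (LK LD1_c19 LD2_c5 LD3_c46) Lrfl Lrfl
theorem f354234 : Led Lsl_dt (LP (LK LD1_c19 LD2_c5 LD3_c45)) = (LP (LK LD1_c10 LD2_c32 LD3_c37)) :=
  Lre_d IH (LK LD1_c19 LD2_c5 LD3_c45) (LK LD1_c10 LD2_c32 LD3_c37) Lrfl Lrfl
theorem f365561 : Led Lsl_ft (LP (LK LD1_c26 LD2_c0 LD3_c56)) = (LP (LK LD1_c19 LD2_c5 LD3_c45)) :=
  Lgr Lrot54 (Lpr_df (K27.f365554 IH) (Lpe (f365560 IH) (Lpe (f354234 IH) (Lpn (LP (LK LD1_c19 LD2_c5 LD3_c45))))))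
theorem f365567 : Led Lsl_ff (LP (LK LD1_c26 LD2_c0 LD3_c56)) = (LP (LK LD1_c19 LD2_c5 LD3_c45)) :=
  Lgr Lrot3 (Lpr_ft (f365561 IH) (Lpn (LP (LK LD1_c19 LD2_c5 LD3_c45))))
theorem f371749 : Led Lsl_af (LP (LK LD1_c26 LD2_c3 LD3_c37)) = (LP (LK LD1_c26 LD2_c0 LD3_c56)) :=
  Lgr Lrot31 (Lpr_gf (f371700 IH) (Lpr_gf (K26.f354230 IH) (Lpe (f365567 IH) (Lpn (LP (LK LD1_c26 LD2_c0 LD3_c56))))))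
theorem f365569 : Led Lsl_af (LP (LK LD1_c17 LD2_c39 LD3_c39)) = (LP (LK LD1_c19 LD2_c5 LD3_c45)) :=
  Lgr Lrot31 (Lpe (f361475 IH) (Lpe (K27.f316141 IH) (Lpr_ft (f365561 IH) (Lpn (LP (LK LD1_c19 LD2_c5 LD3_c45))))))
theorem f365571 : Led Lsl_at (LP (LK LD1_c17 LD2_c39 LD3_c39)) = (LP (LK LD1_c19 LD2_c5 LD3_c45)) :=
  Lgr Lrot100 (Lpr_af (f365569 IH) (Lpn (LP (LK LD1_c19 LD2_c5 LD3_c45))))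
theorem f371755 : Led Lsl_ft (LP (LK LD1_c26 LD2_c3 LD3_c37)) = (LP (LK LD1_c17 LD2_c39 LD3_c39)) :=
  Lgr Lrot101 (Lpr_af (f371749 IH) (Lpr_ff (f365567 IH) (Lpe (f365571 IH) (Lpn (LP (LK LD1_c17 LD2_c39 LD3_c39))))))
theorem f325686 : Led Lsl_dt (LP (LK LD1_c16 LD2_c6 LD3_c35)) = (LP (LK LD1_c26 LD2_c3 LD3_c37)) :=
  Lre_d IH (LK LD1_c16 LD2_c6 LD3_c35) (LK LD1_c26 LD2_c3 LD3_c37) Lrfl Lrfl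
theorem f169369 : Led Lsl_ct (LP (LK LD1_c16 LD2_c2 LD3_c45)) = (LP (LK LD1_c8 LD2_c32 LD3_c47)) :=
  Lre_c IH (LK LD1_c16 LD2_c2 LD3_c45) (LK LD1_c8 LD2_c32 LD3_c47) Lrfl Lrfl
theorem f296089 : Led Lsl_dt (LP (LK LD1_c26 LD2_c0 LD3_c17)) = (LP (LK LD1_c16 LD2_c2 LD3_c45)) :=
  Lre_d IH (LK LD1_c26 LD2_c0 LD3_c17) (LK LD1_c16 LD2_c2 LD3_c45) Lrfl Lrfl
theorem f325687 : Led Lsl_gt (LP (LK LD1_c26 LD2_c3 LD3_c37)) = (LP (LK LD1_c26 LD2_c0 LD3_c17)) :=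
  Lgr Lrot49 (Lpe (f325686 IH) (Lpe (K46.f167517 IH) (Lpe (K38.f167516 IH) (Lpr_gt (K26.f302864 IH) (Lpe (K21.f299470 IH) (Lpr_gt (K23.f325684 IH) (Lpe (K23.f296090 IH) (Lpe (f169369 IH) (Lpe (f296089 IH) (Lpn (LP (LK LD1_c26 LD2_c0 LD3_c17))))))))))))
theorem f371761 : Led Lsl_gt (LP (LK LD1_c26 LD2_c0 LD3_c17)) = (LP (LK LD1_c19 LD2_c5 LD3_c45)) :=
  Lgr Lrot46 (Lpe (f325687 IH) (Lpr_ft (f371755 IH) (Lpr_at (f365571 IH) (Lpn (LP (LK LD1_c19 LD2_c5 LD3_c45))))))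
theorem f296106 : Led Lsl_dt (LP (LK LD1_c16 LD2_c2 LD3_c45)) = (LP (LK LD1_c26 LD2_c0 LD3_c17)) :=
  Lre_d IH (LK LD1_c16 LD2_c2 LD3_c45) (LK LD1_c26 LD2_c0 LD3_c17) Lrfl Lrfl
theorem f178620 : Led Lsl_ct (LP (LK LD1_c15 LD2_c41 LD3_c44)) = (LP (LK LD1_c8 LD2_c20 LD3_c18)) :=
  Lre_c IH (LK LD1_c15 LD2_c41 LD3_c44) (LK LD1_c8 LD2_c20 LD3_c18) Lrfl Lrfl
theorem f296081 : Led Lsl_et (LP (LK LD1_c16 LD2_c2 LD3_c45)) = (LP (LK LD1_c15 LD2_c41 LD3_c44)) :=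
  Lgr Lrot158 (Lpe (K23.f169367 IH) (Lpr_ef (K23.f296079 IH) (Lpe (f178620 IH) (Lpn (LP (LK LD1_c15 LD2_c41 LD3_c44))))))
theorem f199655 : Led Lsl_et (LP (LK LD1_c8 LD2_c33 LD3_c41)) = (LP (LK LD1_c16 LD2_c4 LD3_c9)) :=
  Lre_e IH (LK LD1_c8 LD2_c33 LD3_c41) (LK LD1_c16 LD2_c4 LD3_c9) Lrfl Lrfl
theorem f371765 : Led Lsl_gf (LP (LK LD1_c15 LD2_c41 LD3_c44)) = (LP (LK LD1_c16 LD2_c4 LD3_c9)) :=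
  Lgr Lrot141 (Lpe (f296081 IH) (Lpr_dt (f296106 IH) (Lpr_gt (f371761 IH) (Lpe (K26.f199803 IH) (Lpr_et (K26.f199802 IH) (Lpr_gt (K18.f41926 IH) (Lpr_dt (K11.f41925 IH) (Lpr_gt (K17.f41924 IH) (Lpe (K19.f290844 IH) (Lpr_et (f199655 IH) (Lpn (LP (LK LD1_c16 LD2_c4 LD3_c9)))))))))))))
theorem f199630 : Led Lsl_et (LP (LK LD1_c16 LD2_c4 LD3_c9)) = (LP (LK LD1_c8 LD2_c33 LD3_c41)) :=
  Lre_e IH (LK LD1_c16 LD2_c4 LD3_c9) (LK LD1_c8 LD2_c33 LD3_c41) Lrfl Lrfl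
theorem f199632 : Led Lsl_cf (LP (LK LD1_c16 LD2_c4 LD3_c9)) = (LP (LK LD1_c9 LD2_c33 LD3_c43)) :=
  Lgr Lrot39 (Lpr_et (f199630 IH) (Lpr_ct (K13.f199622 IH) (Lpr_et (K21.f199631 IH) (Lpn (LP (LK LD1_c9 LD2_c33 LD3_c43))))))
theorem f371769 : Led Lsl_gf (LP (LK LD1_c10 LD2_c15 LD3_c3)) = (LP (LK LD1_c18 LD2_c39 LD3_c2)) :=
  Lgr Lrot104 (Lpr_ct (f200363 IH) (Lpr_df (K22.f296060 IH) (Lpe (f178620 IH) (Lpr_gf (f371765 IH) (Lpr_cf (f199632 IH) (Lpe (K26.f355690 IH) (Lpe (K26.f355683 IH) (Lpr_gt (K26.f355677 IH) (Lpe (K22.f331408 IH) (Lpn (LP (LK LD1_c18 LD2_c39 LD3_c2))))))))))))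
theorem f296071 : Led Lsl_dt (LP (LK LD1_c10 LD2_c15 LD3_c3)) = (LP (LK LD1_c18 LD2_c39 LD3_c6)) :=
  Lre_d IH (LK LD1_c10 LD2_c15 LD3_c3) (LK LD1_c18 LD2_c39 LD3_c6) Lrfl Lrfl
theorem f317360 : Led Lsl_dt (LP (LK LD1_c26 LD2_c32 LD3_c32)) = (LP (LK LD1_c16 LD2_c35 LD3_c17)) :=
  Lre_d IH (LK LD1_c26 LD2_c32 LD3_c32) (LK LD1_c16 LD2_c35 LD3_c17) Lrfl Lrfl
theorem f371771 : Led Lsl_gt (LP (LK LD1_c18 LD2_c39 LD3_c6)) = (LP (LK LD1_c26 LD2_c32 LD3_c32)) :=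
  Lgr Lrot49 (Lpe (f296071 IH) (Lpr_gf (f371769 IH) (Lpr_cf (K22.f331408 IH) (Lpe (K22.f331433 IH) (Lpe (K25.f327479 IH) (Lpe (K26.f330857 IH) (Lpr_dt (K21.f190807 IH) (Lpe (K21.f321953 IH) (Lpe (f317360 IH) (Lpn (LP (LK LD1_c26 LD2_c32 LD3_c32))))))))))))
theorem f328055 : Led Lsl_af (LP (LK LD1_c4 LD2_c51 LD3_c16)) = (LP (LK LD1_c2 LD2_c28 LD3_c33)) :=
  Lgr Lrot0 (Lpr_at (K21.f327985 IH) (Lpn (LP (LK LD1_c2 LD2_c28 LD3_c33))))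
theorem f291957 : Led Lsl_bt (LP (LK LD1_c5 LD2_c1 LD3_c40)) = (LP (LK LD1_c2 LD2_c28 LD3_c33)) :=
  Lre_b IH (LK LD1_c5 LD2_c1 LD3_c40) (LK LD1_c2 LD2_c28 LD3_c33) Lrfl Lrfl
theorem f333303 : Led Lsl_at (LP (LK LD1_c9 LD2_c39 LD3_c25)) = (LP (LK LD1_c5 LD2_c1 LD3_c40)) :=
  Lgr Lrot67 (Lpe (K20.f190795 IH) (Lpr_af (K22.f333301 IH) (Lpr_bf (K10.f191678 IH) (Lpr_af (f328055 IH) (Lpe (f291957 IH) (Lpn (LP (LK LD1_c5 LD2_c1 LD3_c40))))))))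
theorem f396596 : Led Lsl_af (LP (LK LD1_c8 LD2_c52 LD3_c20)) = (LP (LK LD1_c8 LD2_c52 LD3_c43)) :=
  Lgr Lrot68 (Lpe (K20.f212292 IH) (Lpr_at (f333303 IH) (Lpe (K26.f291946 IH) (Lpn (LP (LK LD1_c8 LD2_c52 LD3_c43))))))
theorem f396598 : Led Lsl_at (LP (LK LD1_c16 LD2_c35 LD3_c16)) = (LP (LK LD1_c16 LD2_c35 LD3_c52)) :=
  Lgr Lrot51 (Lpe (f44130 IH) (Lpr_af (f396596 IH) (Lpe (K26.f291955 IH) (Lpn (LP (LK LD1_c16 LD2_c35 LD3_c52))))))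
theorem f321959 : Led Lsl_ft (LP (LK LD1_c26 LD2_c32 LD3_c32)) = (LP (LK LD1_c16 LD2_c35 LD3_c16)) :=
  Lre_f IH (LK LD1_c26 LD2_c32 LD3_c32) (LK LD1_c16 LD2_c35 LD3_c16) Lrfl Lrfl
theorem f396602 : Led Lsl_gt (LP (LK LD1_c26 LD2_c32 LD3_c32)) = (LP (LK LD1_c18 LD2_c39 LD3_c4)) :=
  Lgr Lrot5 (Lpr_ft (f321959 IH) (Lpr_at (f396598 IH) (Lpe (K26.f355694 IH) (Lpn (LP (LK LD1_c18 LD2_c39 LD3_c4))))))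
theorem f692782 : Led Lsl_at (LP (LK LD1_c18 LD2_c58 LD3_c56)) = (LP (LK LD1_c18 LD2_c39 LD3_c4)) :=
  Lgr Lrot26 (Lpr_ff (f692780 IH) (Lpr_gt (f371771 IH) (Lpr_gt (f396602 IH) (Lpn (LP (LK LD1_c18 LD2_c39 LD3_c4))))))
theorem f692772 : Led Lsl_at (LP (LK LD1_c18 LD2_c58 LD3_c58)) = (LP (LK LD1_c18 LD2_c39 LD3_c6)) :=
  Lgr Lrot100 (Lpr_af (f692770 IH) (Lpn (LP (LK LD1_c18 LD2_c39 LD3_c6))))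
theorem f692787 : Led Lsl_ff (LP (LK LD1_c18 LD2_c58 LD3_c58)) = (LP (LK LD1_c18 LD2_c39 LD3_c4)) :=
  Lgr Lrot30 (Lpr_at (f692772 IH) (Lpe (f692780 IH) (Lpr_at (f692782 IH) (Lpn (LP (LK LD1_c18 LD2_c39 LD3_c4))))))
theorem f692791 : Led Lsl_ft (LP (LK LD1_c18 LD2_c58 LD3_c58)) = (LP (LK LD1_c18 LD2_c39 LD3_c4)) :=
  Lgr Lrot48 (Lpr_ff (f692787 IH) (Lpn (LP (LK LD1_c18 LD2_c39 LD3_c4))))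
theorem f249151 : Led Lsl_dt (LP (LK LD1_c18 LD2_c39 LD3_c4)) = (LP (LK LD1_c10 LD2_c15 LD3_c2)) :=
  Lre_d IH (LK LD1_c18 LD2_c39 LD3_c4) (LK LD1_c10 LD2_c15 LD3_c2) Lrfl Lrfl
theorem f692795 : Led Lsl_ff (LP (LK LD1_c10 LD2_c28 LD3_c25)) = (LP (LK LD1_c10 LD2_c15 LD3_c2)) :=
  Lgr Lrot19 (Lpr_dt (f300474 IH) (Lpr_ft (f692791 IH) (Lpr_dt (f249151 IH) (Lpn (LP (LK LD1_c10 LD2_c15 LD3_c2))))))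
theorem f692801 : Led Lsl_ft (LP (LK LD1_c5 LD2_c19 LD3_c19)) = (LP (LK LD1_c5 LD2_c12 LD3_c6)) :=
  Lgr Lrot4 (Lpe (K25.f300475 IH) (Lpr_ff (f692795 IH) (Lpe (K22.f200179 IH) (Lpn (LP (LK LD1_c5 LD2_c12 LD3_c6))))))
theorem f692803 : Led Lsl_ff (LP (LK LD1_c10 LD2_c27 LD3_c54)) = (LP (LK LD1_c10 LD2_c15 LD3_c1)) :=
  Lgr Lrot25 (Lpe (K25.f355867 IH) (Lpr_ft (f692801 IH) (Lpr_bt (K22.f249166 IH) (Lpn (LP (LK LD1_c10 LD2_c15 LD3_c1))))))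
theorem f692811 : Led Lsl_at (LP (LK LD1_c10 LD2_c27 LD3_c54)) = (LP (LK LD1_c10 LD2_c28 LD3_c5)) :=
  Lgr Lrot26 (Lpr_ff (f692803 IH) (Lpr_gt (K26.f331404 IH) (Lpr_gt (K26.f271400 IH) (Lpn (LP (LK LD1_c10 LD2_c28 LD3_c5))))))
theorem f46367 : Led Lsl_et (LP (LK LD1_c18 LD2_c58 LD3_c13)) = (LP (LK LD1_c10 LD2_c27 LD3_c54)) :=
  Lre_e IH (LK LD1_c18 LD2_c58 LD3_c13) (LK LD1_c10 LD2_c27 LD3_c54) Lrfl Lrfl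
theorem f692821 : Led Lsl_af (LP (LK LD1_c18 LD2_c58 LD3_c13)) = (LP (LK LD1_c18 LD2_c58 LD3_c23)) :=
  Lgr Lrot50 (Lpr_et (f46367 IH) (Lpr_at (f692811 IH) (Lpr_et (K54.f362615 IH) (Lpn (LP (LK LD1_c18 LD2_c58 LD3_c23))))))
theorem f692829 : Led Lsl_ft (LP (LK LD1_c19 LD2_c6 LD3_c24)) = (LP (LK LD1_c18 LD2_c58 LD3_c23)) :=
  Lgr Lrot2 (Lpe (K54.f362694 IH) (Lpe (K26.f362967 IH) (Lpr_af (f692821 IH) (Lpn (LP (LK LD1_c18 LD2_c58 LD3_c23))))))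
theorem f692837 : Led Lsl_ff (LP (LK LD1_c19 LD2_c6 LD3_c24)) = (LP (LK LD1_c18 LD2_c58 LD3_c23)) :=
  Lgr Lrot3 (Lpr_ft (f692829 IH) (Lpn (LP (LK LD1_c18 LD2_c58 LD3_c23))))
theorem f692843 : Led Lsl_at (LP (LK LD1_c19 LD2_c6 LD3_c24)) = (LP (LK LD1_c25 LD2_c33 LD3_c60)) :=
  Lgr Lrot26 (Lpr_ff (f692837 IH) (Lpr_gt (K54.f362651 IH) (Lpr_gt (K26.f362965 IH) (Lpn (LP (LK LD1_c25 LD2_c33 LD3_c60))))))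
theorem f692823 : Led Lsl_at (LP (LK LD1_c18 LD2_c58 LD3_c13)) = (LP (LK LD1_c18 LD2_c58 LD3_c23)) :=
  Lgr Lrot100 (Lpr_af (f692821 IH) (Lpn (LP (LK LD1_c18 LD2_c58 LD3_c23))))
theorem f692849 : Led Lsl_ff (LP (LK LD1_c18 LD2_c58 LD3_c13)) = (LP (LK LD1_c25 LD2_c33 LD3_c60)) :=
  Lgr Lrot30 (Lpr_at (f692823 IH) (Lpe (f692837 IH) (Lpr_at (f692843 IH) (Lpn (LP (LK LD1_c25 LD2_c33 LD3_c60))))))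
theorem f692809 : Led Lsl_ft (LP (LK LD1_c10 LD2_c27 LD3_c54)) = (LP (LK LD1_c10 LD2_c15 LD3_c1)) :=
  Lgr Lrot48 (Lpr_ff (f692803 IH) (Lpn (LP (LK LD1_c10 LD2_c15 LD3_c1))))
theorem f362964 : Led Lsl_et (LP (LK LD1_c15 LD2_c38 LD3_c39)) = (LP (LK LD1_c25 LD2_c33 LD3_c60)) :=
  Lre_e IH (LK LD1_c15 LD2_c38 LD3_c39) (LK LD1_c25 LD2_c33 LD3_c60) Lrfl Lrfl
theorem f692855 : Led Lsl_ft (LP (LK LD1_c10 LD2_c2 LD3_c2)) = (LP (LK LD1_c15 LD2_c38 LD3_c39)) :=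
  Lgr Lrot86 (Lpe (K26.f249168 IH) (Lpe (f692809 IH) (Lpe (f46367 IH) (Lpr_ff (f692849 IH) (Lpe (f362964 IH) (Lpn (LP (LK LD1_c15 LD2_c38 LD3_c39))))))))
theorem f692859 : Led Lsl_ff (LP (LK LD1_c10 LD2_c2 LD3_c2)) = (LP (LK LD1_c15 LD2_c38 LD3_c39)) :=
  Lgr Lrot3 (Lpr_ft (f692855 IH) (Lpn (LP (LK LD1_c15 LD2_c38 LD3_c39))))
theorem f692867 : Led Lsl_at (LP (LK LD1_c10 LD2_c2 LD3_c2)) = (LP (LK LD1_c15 LD2_c9 LD3_c48)) :=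
  Lgr Lrot26 (Lpr_ff (f692859 IH) (Lpr_gt (K26.f232095 IH) (Lpe (K24.f332998 IH) (Lpn (LP (LK LD1_c15 LD2_c9 LD3_c48))))))
theorem f332996 : Led Lsl_et (LP (LK LD1_c15 LD2_c9 LD3_c48)) = (LP (LK LD1_c10 LD2_c27 LD3_c53)) :=
  Lgr Lrot121 (Lpr_dt (K24.f332990 IH) (Lpe (K24.f287654 IH) (Lpr_df (K18.f48997 IH) (Lpr_et (K24.f254482 IH) (Lpe (K24.f326947 IH) (Lpr_ef (K21.f331338 IH) (Lpe (K21.f331334 IH) (Lpr_gf (K24.f331340 IH) (Lpe (K16.f216755 IH) (Lpr_gf (K25.f332966 IH) (Lpn (LP (LK LD1_c10 LD2_c27 LD3_c53)))))))))))))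
theorem f692875 : Led Lsl_af (LP (LK LD1_c10 LD2_c15 LD3_c1)) = (LP (LK LD1_c10 LD2_c27 LD3_c53)) :=
  Lgr Lrot50 (Lpr_et (K26.f249168 IH) (Lpr_at (f692867 IH) (Lpr_et (f332996 IH) (Lpn (LP (LK LD1_c10 LD2_c27 LD3_c53))))))
theorem f692885 : Led Lsl_ft (LP (LK LD1_c10 LD2_c28 LD3_c5)) = (LP (LK LD1_c10 LD2_c27 LD3_c53)) :=
  Lgr Lrot101 (Lpe (f692811 IH) (Lpr_ff (f692803 IH) (Lpr_af (f692875 IH) (Lpn (LP (LK LD1_c10 LD2_c27 LD3_c53))))))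
theorem f692895 : Led Lsl_ff (LP (LK LD1_c10 LD2_c28 LD3_c5)) = (LP (LK LD1_c10 LD2_c27 LD3_c53)) :=
  Lgr Lrot3 (Lpr_ft (f692885 IH) (Lpn (LP (LK LD1_c10 LD2_c27 LD3_c53))))
theorem f692903 : Led Lsl_ft (LP (LK LD1_c10 LD2_c32 LD3_c59)) = (LP (LK LD1_c15 LD2_c9 LD3_c48)) :=
  Lgr Lrot86 (Lpe (K54.f194164 IH) (Lpr_ff (f692837 IH) (Lpe (K54.f362615 IH) (Lpr_ff (f692895 IH) (Lpe (f332996 IH) (Lpn (LP (LK LD1_c15 LD2_c9 LD3_c48))))))))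
theorem f362682 : Led Lsl_dt (LP (LK LD1_c15 LD2_c56 LD3_c45)) = (LP (LK LD1_c10 LD2_c32 LD3_c59)) :=
  Lgr Lrot77 (Lpe (K54.f362620 IH) (Lpr_df (K54.f362616 IH) (Lpe (K54.f193084 IH) (Lpr_df (K54.f362675 IH) (Lpe (K54.f362681 IH) (Lpn (LP (LK LD1_c10 LD2_c32 LD3_c59))))))))
theorem f692909 : Led Lsl_ff (LP (LK LD1_c15 LD2_c56 LD3_c45)) = (LP (LK LD1_c14 LD2_c57 LD3_c6)) :=
  Lgr Lrot19 (Lpr_dt (f362682 IH) (Lpr_ft (f692903 IH) (Lpr_dt (K24.f332990 IH) (Lpn (LP (LK LD1_c14 LD2_c57 LD3_c6))))))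
theorem f692917 : Led Lsl_at (LP (LK LD1_c15 LD2_c56 LD3_c45)) = (LP (LK LD1_c8 LD2_c33 LD3_c15)) :=
  Lgr Lrot26 (Lpr_ff (f692909 IH) (Lpr_gt (K24.f229669 IH) (Lpe (K25.f355859 IH) (Lpn (LP (LK LD1_c8 LD2_c33 LD3_c15))))))
theorem f331398 : Led Lsl_bf (LP (LK LD1_c8 LD2_c32 LD3_c48)) = (LP (LK LD1_c15 LD2_c56 LD3_c46)) :=
  Lgr Lrot93 (Lpr_dt (K21.f249202 IH) (Lpr_bt (K26.f249159 IH) (Lpr_dt (K26.f331396 IH) (Lpn (LP (LK LD1_c15 LD2_c56 LD3_c46))))))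
theorem f692675 : Led Lsl_ft (LP (LK LD1_c8 LD2_c33 LD3_c15)) = (LP (LK LD1_c15 LD2_c56 LD3_c46)) :=
  Lgr Lrot75 (Lpe (K25.f316080 IH) (Lpr_ff (f692671 IH) (Lpr_bf (f331398 IH) (Lpn (LP (LK LD1_c15 LD2_c56 LD3_c46))))))
theorem f692925 : Led Lsl_af (LP (LK LD1_c14 LD2_c57 LD3_c6)) = (LP (LK LD1_c15 LD2_c56 LD3_c46)) :=
  Lgr Lrot45 (Lpe (f692909 IH) (Lpr_at (f692917 IH) (Lpr_ft (f692675 IH) (Lpn (LP (LK LD1_c15 LD2_c56 LD3_c46))))))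
theorem f371341 : Led Lsl_gt (LP (LK LD1_c15 LD2_c41 LD3_c52)) = (LP (LK LD1_c15 LD2_c18 LD3_c30)) :=
  Lgr Lrot131 (Lpe (K21.f331322 IH) (Lpr_dt (K22.f331320 IH) (Lpr_gf (K25.f351313 IH) (Lpr_df (K25.f355574 IH) (Lpe (K25.f339949 IH) (Lpe (K30.f340149 IH) (Lpr_dt (K30.f339946 IH) (Lpr_gf (K30.f371321 IH) (Lpe (K30.f371327 IH) (Lpr_et (K30.f371335 IH) (Lpn (LP (LK LD1_c15 LD2_c18 LD3_c30)))))))))))))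
theorem f275707 : Led Lsl_ef (LP (LK LD1_c10 LD2_c28 LD3_c6)) = (LP (LK LD1_c10 LD2_c27 LD3_c58)) :=
  Lgr Lrot20 (Lpe (K16.f271398 IH) (Lpr_et (K19.f275705 IH) (Lpe (K18.f271293 IH) (Lpn (LP (LK LD1_c10 LD2_c27 LD3_c58))))))
theorem f275662 : Led Lsl_df (LP (LK LD1_c15 LD2_c18 LD3_c39)) = (LP (LK LD1_c10 LD2_c27 LD3_c58)) :=
  Lgr Lrot38 (Lpr_dt (K16.f275658 IH) (Lpn (LP (LK LD1_c10 LD2_c27 LD3_c58))))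
theorem f371312 : Led Lsl_df (LP (LK LD1_c18 LD2_c53 LD3_c49)) = (LP (LK LD1_c18 LD2_c49 LD3_c42)) :=
  Lgr Lrot168 (Lpe (K30.f275681 IH) (Lpr_df (f275662 IH) (Lpe (f275707 IH) (Lpr_gf (K25.f332966 IH) (Lpe (f332996 IH) (Lpr_dt (K24.f332990 IH) (Lpe (K24.f287654 IH) (Lpr_df (K18.f48997 IH) (Lpr_gf (K30.f371106 IH) (Lpe (K30.f302900 IH) (Lpn (LP (LK LD1_c18 LD2_c49 LD3_c42)))))))))))))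
theorem f371339 : Led Lsl_df (LP (LK LD1_c16 LD2_c6 LD3_c34)) = (LP (LK LD1_c15 LD2_c18 LD3_c30)) :=
  Lgr Lrot70 (Lpr_et (K30.f302897 IH) (Lpe (K26.f302890 IH) (Lpr_et (K30.f302896 IH) (Lpe (f371312 IH) (Lpr_et (K30.f371335 IH) (Lpn (LP (LK LD1_c15 LD2_c18 LD3_c30))))))))
theorem f254078 : Led Lsl_dt (LP (LK LD1_c24 LD2_c49 LD3_c24)) = (LP (LK LD1_c31 LD2_c40 LD3_c9)) :=
  Lre_d IH (LK LD1_c24 LD2_c49 LD3_c24) (LK LD1_c31 LD2_c40 LD3_c9) Lrfl Lrfl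
theorem f305710 : Led Lsl_ct (LP (LK LD1_c17 LD2_c41 LD3_c52)) = (LP (LK LD1_c9 LD2_c36 LD3_c36)) :=
  Lre_c IH (LK LD1_c17 LD2_c41 LD3_c52) (LK LD1_c9 LD2_c36 LD3_c36) Lrfl Lrfl
theorem f301287 : Led Lsl_ct (LP (LK LD1_c27 LD2_c29 LD3_c16)) = (LP (LK LD1_c17 LD2_c41 LD3_c53)) :=
  Lre_c IH (LK LD1_c27 LD2_c29 LD3_c16) (LK LD1_c17 LD2_c41 LD3_c53) Lrfl Lrfl
theorem f301511 : Led Lsl_ct (LP (LK LD1_c19 LD2_c25 LD3_c42)) = (LP (LK LD1_c28 LD2_c49 LD3_c8)) :=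
  Lre_c IH (LK LD1_c19 LD2_c25 LD3_c42) (LK LD1_c28 LD2_c49 LD3_c8) Lrfl Lrfl
theorem f371154 : Led Lsl_gf (LP (LK LD1_c27 LD2_c29 LD3_c16)) = (LP (LK LD1_c28 LD2_c49 LD3_c8)) :=
  Lgr Lrot104 (Lpr_ct (f301287 IH) (Lpe (K21.f222120 IH) (Lpe (f305710 IH) (Lpr_gf (K67.f371150 IH) (Lpe (K23.f222023 IH) (Lpe (K20.f222030 IH) (Lpr_df (K20.f316044 IH) (Lpr_gt (K25.f332977 IH) (Lpr_ct (f301511 IH) (Lpn (LP (LK LD1_c28 LD2_c49 LD3_c8))))))))))))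
theorem f307380 : Led Lsl_ef (LP (LK LD1_c27 LD2_c29 LD3_c16)) = (LP (LK LD1_c28 LD2_c8 LD3_c17)) :=
  Lgr Lrot28 (Lpr_ct (f301287 IH) (Lpr_et (K21.f307224 IH) (Lpr_ct (K27.f307229 IH) (Lpn (LP (LK LD1_c28 LD2_c8 LD3_c17))))))
theorem f328377 : Led Lsl_et (LP (LK LD1_c19 LD2_c25 LD3_c41)) = (LP (LK LD1_c28 LD2_c49 LD3_c8)) :=
  Lre_e IH (LK LD1_c19 LD2_c25 LD3_c41) (LK LD1_c28 LD2_c49 LD3_c8) Lrfl Lrfl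
theorem f301502 : Led Lsl_dt (LP (LK LD1_c19 LD2_c25 LD3_c41)) = (LP (LK LD1_c28 LD2_c49 LD3_c7)) :=
  Lre_d IH (LK LD1_c19 LD2_c25 LD3_c41) (LK LD1_c28 LD2_c49 LD3_c7) Lrfl Lrfl
theorem f371156 : Led Lsl_gt (LP (LK LD1_c31 LD2_c40 LD3_c9)) = (LP (LK LD1_c28 LD2_c49 LD3_c7)) :=
  Lgr Lrot139 (Lpe (f254078 IH) (Lpr_gf (K30.f370352 IH) (Lpe (K23.f274207 IH) (Lpr_dt (K22.f254196 IH) (Lpe (K25.f303398 IH) (Lpr_df (K25.f318008 IH) (Lpe (f307380 IH) (Lpr_gf (f371154 IH) (Lpe (f328377 IH) (Lpr_dt (f301502 IH) (Lpn (LP (LK LD1_c28 LD2_c49 LD3_c7)))))))))))))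
theorem f298858 : Led Lsl_dt (LP (LK LD1_c28 LD2_c49 LD3_c7)) = (LP (LK LD1_c19 LD2_c25 LD3_c41)) :=
  Lre_d IH (LK LD1_c28 LD2_c49 LD3_c7) (LK LD1_c19 LD2_c25 LD3_c41) Lrfl Lrfl
theorem f371545 : Led Lsl_gf (LP (LK LD1_c15 LD2_c41 LD3_c21)) = (LP (LK LD1_c16 LD2_c6 LD3_c34)) :=
  Lgr Lrot143 (Lpe (K22.f301500 IH) (Lpe (K25.f298857 IH) (Lpe (f298858 IH) (Lpe (f371156 IH) (Lpe (f254078 IH) (Lpr_gf (K30.f370352 IH) (Lpr_cf (K23.f344740 IH) (Lpr_gt (f371341 IH) (Lpe (f371339 IH) (Lpn (LP (LK LD1_c16 LD2_c6 LD3_c34))))))))))))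
theorem f301480 : Led Lsl_bt (LP (LK LD1_c15 LD2_c41 LD3_c21)) = (LP (LK LD1_c8 LD2_c20 LD3_c11)) :=
  Lre_b IH (LK LD1_c15 LD2_c41 LD3_c21) (LK LD1_c8 LD2_c20 LD3_c11) Lrfl Lrfl
theorem f301481 : Led Lsl_dt (LP (LK LD1_c10 LD2_c44 LD3_c9)) = (LP (LK LD1_c15 LD2_c41 LD3_c21)) :=
  Lgr Lrot79 (Lpe (K22.f298871 IH) (Lpr_df (K21.f301478 IH) (Lpe (f301480 IH) (Lpn (LP (LK LD1_c15 LD2_c41 LD3_c21))))))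
theorem f371547 : Led Lsl_gf (LP (LK LD1_c25 LD2_c11 LD3_c17)) = (LP (LK LD1_c19 LD2_c25 LD3_c42)) :=
  Lgr Lrot141 (Lpr_ef (K25.f356867 IH) (Lpe (K25.f355574 IH) (Lpe (K25.f351313 IH) (Lpe (K22.f331320 IH) (Lpr_et (K21.f331322 IH) (Lpr_gt (f371341 IH) (Lpe (f371339 IH) (Lpe (f371545 IH) (Lpe (f301481 IH) (Lpr_et (K24.f301504 IH) (Lpn (LP (LK LD1_c19 LD2_c25 LD3_c42)))))))))))))
theorem f371551 : Led Lsl_gt (LP (LK LD1_c14 LD2_c57 LD3_c32)) = (LP (LK LD1_c8 LD2_c18 LD3_c58)) :=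
  Lgr Lrot131 (Lpr_ef (K27.f363183 IH) (Lpe (K26.f363181 IH) (Lpr_gf (f371547 IH) (Lpr_df (K25.f301473 IH) (Lpe (K24.f328365 IH) (Lpe (K15.f260819 IH) (Lpe (K16.f261004 IH) (Lpr_gf (K22.f261313 IH) (Lpr_df (K30.f365117 IH) (Lpr_et (K26.f365103 IH) (Lpn (LP (LK LD1_c8 LD2_c18 LD3_c58)))))))))))))
theorem f234241 : Led Lsl_gt (LP (LK LD1_c25 LD2_c36 LD3_c55)) = (LP (LK LD1_c15 LD2_c41 LD3_c20)) :=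
  Lre_g IH (LK LD1_c25 LD2_c36 LD3_c55) (LK LD1_c15 LD2_c41 LD3_c20) Lrfl Lrfl
theorem f364948 : Led Lsl_at (LP (LK LD1_c4 LD2_c9 LD3_c31)) = (LP (LK LD1_c8 LD2_c18 LD3_c58)) :=
  Lre_a IH (LK LD1_c4 LD2_c9 LD3_c31) (LK LD1_c8 LD2_c18 LD3_c58) Lrfl Lrfl
theorem f364949 : Led Lsl_df (LP (LK LD1_c5 LD2_c21 LD3_c20)) = (LP (LK LD1_c8 LD2_c18 LD3_c58)) :=
  Lgr Lrot18 (Lpr_at (K26.f364944 IH) (Lpr_dt (K14.f232089 IH) (Lpr_at (f364948 IH) (Lpn (LP (LK LD1_c8 LD2_c18 LD3_c58))))))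
theorem f371555 : Led Lsl_ef (LP (LK LD1_c25 LD2_c36 LD3_c55)) = (LP (LK LD1_c15 LD2_c56 LD3_c46)) :=
  Lgr Lrot114 (Lpr_gt (f234241 IH) (Lpr_ef (K24.f234215 IH) (Lpe (K25.f301473 IH) (Lpe (f371547 IH) (Lpr_df (K26.f363181 IH) (Lpe (K27.f363183 IH) (Lpr_gt (f371551 IH) (Lpe (f364949 IH) (Lpe (K26.f331393 IH) (Lpr_df (K26.f331400 IH) (Lpn (LP (LK LD1_c15 LD2_c56 LD3_c46)))))))))))))
theorem f371565 : Led Lsl_et (LP (LK LD1_c25 LD2_c36 LD3_c55)) = (LP (LK LD1_c15 LD2_c56 LD3_c46)) :=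
  Lgr Lrot87 (Lpr_ef (f371555 IH) (Lpn (LP (LK LD1_c15 LD2_c56 LD3_c46))))
theorem f692929 : Led Lsl_at (LP (LK LD1_c24 LD2_c44 LD3_c38)) = (LP (LK LD1_c25 LD2_c36 LD3_c55)) :=
  Lgr Lrot80 (Lpe (K25.f323887 IH) (Lpr_af (f692925 IH) (Lpe (f371565 IH) (Lpn (LP (LK LD1_c25 LD2_c36 LD3_c55))))))
theorem f362624 : Led Lsl_ef (LP (LK LD1_c14 LD2_c57 LD3_c13)) = (LP (LK LD1_c15 LD2_c56 LD3_c45)) :=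
  Lgr Lrot88 (Lpr_et (K54.f362620 IH) (Lpn (LP (LK LD1_c15 LD2_c56 LD3_c45))))
theorem f692901 : Led Lsl_ft (LP (LK LD1_c14 LD2_c57 LD3_c13)) = (LP (LK LD1_c8 LD2_c39 LD3_c56)) :=
  Lgr Lrot54 (Lpr_df (K54.f362616 IH) (Lpr_ff (f692895 IH) (Lpr_df (K24.f45758 IH) (Lpn (LP (LK LD1_c8 LD2_c39 LD3_c56))))))
theorem f692913 : Led Lsl_ft (LP (LK LD1_c16 LD2_c13 LD3_c42)) = (LP (LK LD1_c24 LD2_c44 LD3_c38)) :=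
  Lgr Lrot86 (Lpe (K24.f45760 IH) (Lpe (f692901 IH) (Lpr_ef (f362624 IH) (Lpr_ff (f692909 IH) (Lpe (K24.f229915 IH) (Lpn (LP (LK LD1_c24 LD2_c44 LD3_c38))))))))
theorem f331389 : Led Lsl_df (LP (LK LD1_c10 LD2_c15 LD3_c1)) = (LP (LK LD1_c15 LD2_c33 LD3_c17)) :=
  Lgr Lrot38 (Lpr_dt (K22.f331383 IH) (Lpn (LP (LK LD1_c15 LD2_c33 LD3_c17))))
theorem f47680 : Led Lsl_et (LP (LK LD1_c25 LD2_c26 LD3_c52)) = (LP (LK LD1_c15 LD2_c33 LD3_c17)) :=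
  Lre_e IH (LK LD1_c25 LD2_c26 LD3_c52) (LK LD1_c15 LD2_c33 LD3_c17) Lrfl Lrfl
theorem f371563 : Led Lsl_dt (LP (LK LD1_c25 LD2_c36 LD3_c55)) = (LP (LK LD1_c25 LD2_c26 LD3_c52)) :=
  Lgr Lrot77 (Lpr_ef (f371555 IH) (Lpe (K26.f331396 IH) (Lpe (K26.f249168 IH) (Lpr_df (f331389 IH) (Lpe (f47680 IH) (Lpn (LP (LK LD1_c25 LD2_c26 LD3_c52))))))))
theorem f692935 : Led Lsl_af (LP (LK LD1_c16 LD2_c13 LD3_c42)) = (LP (LK LD1_c25 LD2_c26 LD3_c52)) :=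
  Lgr Lrot117 (Lpr_dt (K25.f323885 IH) (Lpr_at (f692929 IH) (Lpr_dt (f371563 IH) (Lpn (LP (LK LD1_c25 LD2_c26 LD3_c52))))))
theorem f692937 : Led Lsl_ff (LP (LK LD1_c25 LD2_c26 LD3_c52)) = (LP (LK LD1_c25 LD2_c36 LD3_c55)) :=
  Lgr Lrot30 (Lpe (f692935 IH) (Lpr_ft (f692913 IH) (Lpr_at (f692929 IH) (Lpn (LP (LK LD1_c25 LD2_c36 LD3_c55))))))
theorem f692941 : Led Lsl_ft (LP (LK LD1_c25 LD2_c26 LD3_c52)) = (LP (LK LD1_c25 LD2_c36 LD3_c55)) :=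
  Lgr Lrot48 (Lpr_ff (f692937 IH) (Lpn (LP (LK LD1_c25 LD2_c36 LD3_c55))))
theorem f331385 : Led Lsl_bt (LP (LK LD1_c15 LD2_c41 LD3_c46)) = (LP (LK LD1_c25 LD2_c26 LD3_c52)) :=
  Lgr Lrot119 (Lpe (K21.f249155 IH) (Lpr_bf (K22.f331379 IH) (Lpe (f47680 IH) (Lpn (LP (LK LD1_c25 LD2_c26 LD3_c52))))))
theorem f371559 : Led Lsl_bt (LP (LK LD1_c25 LD2_c36 LD3_c55)) = (LP (LK LD1_c15 LD2_c47 LD3_c27)) :=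
  Lgr Lrot119 (Lpr_ef (f371555 IH) (Lpe (K26.f331402 IH) (Lpr_ef (K21.f322532 IH) (Lpn (LP (LK LD1_c15 LD2_c47 LD3_c27))))))
theorem f692943 : Led Lsl_ff (LP (LK LD1_c15 LD2_c41 LD3_c46)) = (LP (LK LD1_c15 LD2_c47 LD3_c27)) :=
  Lgr Lrot25 (Lpr_bt (f331385 IH) (Lpr_ft (f692941 IH) (Lpr_bt (f371559 IH) (Lpn (LP (LK LD1_c15 LD2_c47 LD3_c27))))))
theorem f692949 : Led Lsl_ft (LP (LK LD1_c25 LD2_c37 LD3_c21)) = (LP (LK LD1_c25 LD2_c44 LD3_c12)) :=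
  Lgr Lrot4 (Lpe (K21.f249196 IH) (Lpr_ff (f692943 IH) (Lpe (K26.f322536 IH) (Lpn (LP (LK LD1_c25 LD2_c44 LD3_c12))))))
theorem f353245 : Led Lsl_et (LP (LK LD1_c16 LD2_c2 LD3_c39)) = (LP (LK LD1_c26 LD2_c0 LD3_c13)) :=
  Lre_e IH (LK LD1_c16 LD2_c2 LD3_c39) (LK LD1_c26 LD2_c0 LD3_c13) Lrfl Lrfl
theorem f353246 : Led Lsl_cf (LP (LK LD1_c25 LD2_c20 LD3_c36)) = (LP (LK LD1_c26 LD2_c0 LD3_c13)) :=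
  Lgr Lrot39 (Lpr_et (K25.f345576 IH) (Lpr_ct (K25.f353237 IH) (Lpr_et (f353245 IH) (Lpn (LP (LK LD1_c26 LD2_c0 LD3_c13))))))
theorem f379484 : Led Lsl_gf (LP (LK LD1_c25 LD2_c40 LD3_c23)) = (LP (LK LD1_c26 LD2_c0 LD3_c13)) :=
  Lgr Lrot144 (Lpr_dt (K26.f309153 IH) (Lpe (K26.f322317 IH) (Lpr_dt (K19.f275306 IH) (Lpe (K19.f305370 IH) (Lpe (K18.f200490 IH) (Lpr_gf (K27.f341066 IH) (Lpe (K25.f345598 IH) (Lpr_gf (K25.f345729 IH) (Lpr_cf (f353246 IH) (Lpn (LP (LK LD1_c26 LD2_c0 LD3_c13))))))))))))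
theorem f327616 : Led Lsl_et (LP (LK LD1_c16 LD2_c3 LD3_c38)) = (LP (LK LD1_c8 LD2_c33 LD3_c19)) :=
  Lre_e IH (LK LD1_c16 LD2_c3 LD3_c38) (LK LD1_c8 LD2_c33 LD3_c19) Lrfl Lrfl
theorem f184458 : Led Lsl_dt (LP (LK LD1_c16 LD2_c3 LD3_c38)) = (LP (LK LD1_c26 LD2_c0 LD3_c61)) :=
  Lre_d IH (LK LD1_c16 LD2_c3 LD3_c38) (LK LD1_c26 LD2_c0 LD3_c61) Lrfl Lrfl
theorem f232784 : Led Lsl_dt (LP (LK LD1_c16 LD2_c2 LD3_c39)) = (LP (LK LD1_c26 LD2_c0 LD3_c12)) :=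
  Lre_d IH (LK LD1_c16 LD2_c2 LD3_c39) (LK LD1_c26 LD2_c0 LD3_c12) Lrfl Lrfl
theorem f379501 : Led Lsl_gt (LP (LK LD1_c26 LD2_c0 LD3_c61)) = (LP (LK LD1_c26 LD2_c0 LD3_c12)) :=
  Lgr Lrot112 (Lpe (f184458 IH) (Lpr_et (f327616 IH) (Lpr_gf (K25.f327610 IH) (Lpe (K20.f321115 IH) (Lpr_dt (K19.f288880 IH) (Lpr_gf (K26.f322317 IH) (Lpe (K26.f309153 IH) (Lpr_gf (f379484 IH) (Lpe (f353245 IH) (Lpr_dt (f232784 IH) (Lpn (LP (LK LD1_c26 LD2_c0 LD3_c12)))))))))))))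
theorem f232785 : Led Lsl_dt (LP (LK LD1_c26 LD2_c0 LD3_c12)) = (LP (LK LD1_c16 LD2_c2 LD3_c39)) :=
  Lre_d IH (LK LD1_c26 LD2_c0 LD3_c12) (LK LD1_c16 LD2_c2 LD3_c39) Lrfl Lrfl
theorem f336345 : Led Lsl_cf (LP (LK LD1_c25 LD2_c37 LD3_c15)) = (LP (LK LD1_c24 LD2_c49 LD3_c14)) :=
  Lgr Lrot11 (Lpr_ct (K27.f336343 IH) (Lpn (LP (LK LD1_c24 LD2_c49 LD3_c14))))
theorem f322552 : Led Lsl_et (LP (LK LD1_c8 LD2_c23 LD3_c48)) = (LP (LK LD1_c15 LD2_c47 LD3_c26)) :=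
  Lre_e IH (LK LD1_c8 LD2_c23 LD3_c48) (LK LD1_c15 LD2_c47 LD3_c26) Lrfl Lrfl
theorem f322553 : Led Lsl_dt (LP (LK LD1_c8 LD2_c23 LD3_c48)) = (LP (LK LD1_c15 LD2_c47 LD3_c25)) :=
  Lre_d IH (LK LD1_c8 LD2_c23 LD3_c48) (LK LD1_c15 LD2_c47 LD3_c25) Lrfl Lrfl
theorem f322554 : Led Lsl_gt (LP (LK LD1_c15 LD2_c47 LD3_c25)) = (LP (LK LD1_c25 LD2_c44 LD3_c7)) :=
  Lre_g IH (LK LD1_c15 LD2_c47 LD3_c25) (LK LD1_c25 LD2_c44 LD3_c7) Lrfl Lrfl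
theorem f336486 : Led Lsl_dt (LP (LK LD1_c25 LD2_c37 LD3_c15)) = (LP (LK LD1_c25 LD2_c44 LD3_c7)) :=
  Lgr Lrot37 (Lpr_et (K27.f336347 IH) (Lpr_gt (K22.f178639 IH) (Lpr_dt (K23.f178638 IH) (Lpr_gt (K26.f231119 IH) (Lpr_df (K26.f336466 IH) (Lpr_et (K26.f310131 IH) (Lpr_gt (K26.f322509 IH) (Lpe (f322552 IH) (Lpr_dt (f322553 IH) (Lpr_gt (f322554 IH) (Lpn (LP (LK LD1_c25 LD2_c44 LD3_c7)))))))))))))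
theorem f336494 : Led Lsl_df (LP (LK LD1_c25 LD2_c37 LD3_c15)) = (LP (LK LD1_c25 LD2_c44 LD3_c7)) :=
  Lgr Lrot38 (Lpr_dt (f336486 IH) (Lpn (LP (LK LD1_c25 LD2_c44 LD3_c7))))
theorem f322620 : Led Lsl_gf (LP (LK LD1_c9 LD2_c38 LD3_c39)) = (LP (LK LD1_c8 LD2_c35 LD3_c54)) :=
  Lgr Lrot47 (Lpr_gt (K20.f322614 IH) (Lpr_af (K20.f219432 IH) (Lpe (K12.f219430 IH) (Lpn (LP (LK LD1_c8 LD2_c35 LD3_c54))))))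
theorem f361515 : Led Lsl_gt (LP (LK LD1_c17 LD2_c44 LD3_c57)) = (LP (LK LD1_c27 LD2_c25 LD3_c29)) :=
  Lgr Lrot49 (Lpe (K21.f299348 IH) (Lpr_gf (f322620 IH) (Lpr_cf (K18.f221849 IH) (Lpe (K54.f337030 IH) (Lpr_dt (f322553 IH) (Lpr_gt (f322554 IH) (Lpe (f336494 IH) (Lpr_cf (f336345 IH) (Lpr_df (K27.f361507 IH) (Lpn (LP (LK LD1_c27 LD2_c25 LD3_c29))))))))))))
theorem f379503 : Led Lsl_gf (LP (LK LD1_c16 LD2_c3 LD3_c38)) = (LP (LK LD1_c26 LD2_c0 LD3_c22)) :=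
  Lgr Lrot144 (Lpr_dt (f184458 IH) (Lpr_gt (f379501 IH) (Lpr_dt (f232785 IH) (Lpe (K25.f353237 IH) (Lpe (K25.f219378 IH) (Lpr_gf (K27.f361293 IH) (Lpr_df (K27.f361507 IH) (Lpe (f361515 IH) (Lpr_cf (K21.f325391 IH) (Lpn (LP (LK LD1_c26 LD2_c0 LD3_c22))))))))))))
theorem f692955 : Led Lsl_af (LP (LK LD1_c16 LD2_c3 LD3_c38)) = (LP (LK LD1_c25 LD2_c44 LD3_c12)) :=
  Lgr Lrot31 (Lpr_gf (f379503 IH) (Lpr_gf (K21.f258379 IH) (Lpr_ft (f692949 IH) (Lpn (LP (LK LD1_c25 LD2_c44 LD3_c12))))))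
theorem f692959 : Led Lsl_at (LP (LK LD1_c8 LD2_c33 LD3_c19)) = (LP (LK LD1_c16 LD2_c2 LD3_c46)) :=
  Lgr Lrot80 (Lpe (f327616 IH) (Lpr_af (f692955 IH) (Lpe (K26.f322537 IH) (Lpn (LP (LK LD1_c16 LD2_c2 LD3_c46))))))
theorem f692963 : Led Lsl_af (LP (LK LD1_c4 LD2_c16 LD3_c57)) = (LP (LK LD1_c8 LD2_c32 LD3_c48)) :=
  Lgr Lrot68 (Lpr_ct (K22.f169416 IH) (Lpr_at (f692959 IH) (Lpr_ct (K26.f248341 IH) (Lpn (LP (LK LD1_c8 LD2_c32 LD3_c48))))))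
theorem f692998 : Led Lsl_at (LP (LK LD1_c8 LD2_c33 LD3_c20)) = (LP (LK LD1_c5 LD2_c5 LD3_c27)) :=
  Lgr Lrot51 (Lpe (K18.f184434 IH) (Lpr_af (f692963 IH) (Lpr_df (K21.f249120 IH) (Lpn (LP (LK LD1_c5 LD2_c5 LD3_c27))))))
theorem f693004 : Led Lsl_ff (LP (LK LD1_c8 LD2_c33 LD3_c20)) = (LP (LK LD1_c5 LD2_c5 LD3_c28)) :=
  Lgr Lrot52 (Lpr_at (f692998 IH) (Lpe (K21.f167518 IH) (Lpe (K23.f167511 IH) (Lpn (LP (LK LD1_c5 LD2_c5 LD3_c28))))))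
theorem f693014 : Led Lsl_ft (LP (LK LD1_c8 LD2_c33 LD3_c20)) = (LP (LK LD1_c5 LD2_c5 LD3_c28)) :=
  Lgr Lrot48 (Lpr_ff (f693004 IH) (Lpn (LP (LK LD1_c5 LD2_c5 LD3_c28))))
theorem f200365 : Led Lsl_et (LP (LK LD1_c10 LD2_c15 LD3_c4)) = (LP (LK LD1_c5 LD2_c12 LD3_c7)) :=
  Lre_e IH (LK LD1_c10 LD2_c15 LD3_c4) (LK LD1_c5 LD2_c12 LD3_c7) Lrfl Lrfl
theorem f296092 : Led Lsl_et (LP (LK LD1_c5 LD2_c5 LD3_c28)) = (LP (LK LD1_c10 LD2_c2 LD3_c5)) :=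
  Lre_e IH (LK LD1_c5 LD2_c5 LD3_c28) (LK LD1_c10 LD2_c2 LD3_c5) Lrfl Lrfl
theorem f693022 : Led Lsl_ff (LP (LK LD1_c10 LD2_c15 LD3_c4)) = (LP (LK LD1_c10 LD2_c2 LD3_c5)) :=
  Lgr Lrot72 (Lpr_et (f200365 IH) (Lpe (f692697 IH) (Lpe (K20.f184436 IH) (Lpr_ft (f693014 IH) (Lpr_et (f296092 IH) (Lpn (LP (LK LD1_c10 LD2_c2 LD3_c5))))))))
theorem f336377 : Led Lsl_bt (LP (LK LD1_c10 LD2_c2 LD3_c5)) = (LP (LK LD1_c15 LD2_c9 LD3_c51)) :=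
  Lgr Lrot119 (Lpe (f296092 IH) (Lpr_bf (K23.f336369 IH) (Lpe (K21.f182013 IH) (Lpn (LP (LK LD1_c15 LD2_c9 LD3_c51))))))
theorem f296093 : Led Lsl_df (LP (LK LD1_c10 LD2_c15 LD3_c4)) = (LP (LK LD1_c10 LD2_c2 LD3_c5)) :=
  Lgr Lrot70 (Lpr_et (f200365 IH) (Lpr_dt (K23.f296074 IH) (Lpe (K23.f296079 IH) (Lpr_dt (K23.f296087 IH) (Lpr_et (f296092 IH) (Lpn (LP (LK LD1_c10 LD2_c2 LD3_c5))))))))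
theorem f296096 : Led Lsl_dt (LP (LK LD1_c10 LD2_c15 LD3_c4)) = (LP (LK LD1_c10 LD2_c2 LD3_c5)) :=
  Lgr Lrot42 (Lpr_df (f296093 IH) (Lpn (LP (LK LD1_c10 LD2_c2 LD3_c5))))
theorem f336381 : Led Lsl_bf (LP (LK LD1_c10 LD2_c15 LD3_c4)) = (LP (LK LD1_c16 LD2_c15 LD3_c23)) :=
  Lgr Lrot93 (Lpr_dt (f296096 IH) (Lpr_bt (f336377 IH) (Lpr_dt (K21.f228950 IH) (Lpn (LP (LK LD1_c16 LD2_c15 LD3_c23))))))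
theorem f336383 : Led Lsl_bt (LP (LK LD1_c10 LD2_c15 LD3_c4)) = (LP (LK LD1_c16 LD2_c15 LD3_c23)) :=
  Lgr Lrot127 (Lpr_bf (f336381 IH) (Lpn (LP (LK LD1_c16 LD2_c15 LD3_c23))))
theorem f336379 : Led Lsl_bf (LP (LK LD1_c10 LD2_c2 LD3_c5)) = (LP (LK LD1_c15 LD2_c9 LD3_c51)) :=
  Lgr Lrot24 (Lpr_bt (f336377 IH) (Lpn (LP (LK LD1_c15 LD2_c9 LD3_c51))))
theorem f693026 : Led Lsl_ft (LP (LK LD1_c16 LD2_c15 LD3_c23)) = (LP (LK LD1_c15 LD2_c9 LD3_c51)) :=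
  Lgr Lrot75 (Lpe (f336383 IH) (Lpr_ff (f693022 IH) (Lpr_bf (f336379 IH) (Lpn (LP (LK LD1_c15 LD2_c9 LD3_c51))))))
theorem f693032 : Led Lsl_af (LP (LK LD1_c15 LD2_c12 LD3_c38)) = (LP (LK LD1_c15 LD2_c9 LD3_c51)) :=
  Lgr Lrot31 (Lpr_gf (K21.f232380 IH) (Lpr_gf (K23.f243073 IH) (Lpr_ft (f693026 IH) (Lpn (LP (LK LD1_c15 LD2_c9 LD3_c51))))))
theorem f693040 : Led Lsl_at (LP (LK LD1_c8 LD2_c4 LD3_c40)) = (LP (LK LD1_c8 LD2_c3 LD3_c12)) :=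
  Lgr Lrot80 (Lpe (K21.f193641 IH) (Lpr_af (f693032 IH) (Lpe (K21.f228949 IH) (Lpn (LP (LK LD1_c8 LD2_c3 LD3_c12))))))
theorem f362622 : Led Lsl_bf (LP (LK LD1_c9 LD2_c34 LD3_c13)) = (LP (LK LD1_c15 LD2_c56 LD3_c45)) :=
  Lgr Lrot96 (Lpr_et (K18.f229737 IH) (Lpr_bt (K26.f229739 IH) (Lpr_et (K54.f362620 IH) (Lpn (LP (LK LD1_c15 LD2_c56 LD3_c45))))))
theorem f362690 : Led Lsl_bt (LP (LK LD1_c8 LD2_c4 LD3_c40)) = (LP (LK LD1_c10 LD2_c32 LD3_c59)) :=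
  Lgr Lrot95 (Lpr_df (K18.f229735 IH) (Lpr_bf (f362622 IH) (Lpr_df (K54.f362688 IH) (Lpn (LP (LK LD1_c10 LD2_c32 LD3_c59))))))
theorem f692905 : Led Lsl_ff (LP (LK LD1_c8 LD2_c4 LD3_c40)) = (LP (LK LD1_c8 LD2_c3 LD3_c11)) :=
  Lgr Lrot25 (Lpr_bt (f362690 IH) (Lpr_ft (f692903 IH) (Lpr_bt (K21.f193027 IH) (Lpn (LP (LK LD1_c8 LD2_c3 LD3_c11))))))
theorem f693018 : Led Lsl_ff (LP (LK LD1_c8 LD2_c4 LD3_c39)) = (LP (LK LD1_c8 LD2_c3 LD3_c12)) :=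
  Lgr Lrot25 (Lpr_bt (K21.f325916 IH) (Lpr_ft (f693014 IH) (Lpr_bt (K26.f336371 IH) (Lpn (LP (LK LD1_c8 LD2_c3 LD3_c12))))))
theorem f693046 : Led Lsl_af (LP (LK LD1_c8 LD2_c3 LD3_c11)) = (LP (LK LD1_c8 LD2_c4 LD3_c39)) :=
  Lgr Lrot45 (Lpe (f692905 IH) (Lpr_at (f693040 IH) (Lpe (f693018 IH) (Lpn (LP (LK LD1_c8 LD2_c4 LD3_c39))))))
theorem f693050 : Led Lsl_at (LP (LK LD1_c8 LD2_c40 LD3_c50)) = (LP (LK LD1_c10 LD2_c19 LD3_c53)) :=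
  Lgr Lrot80 (Lpe (K21.f243079 IH) (Lpr_af (f693046 IH) (Lpe (K21.f229703 IH) (Lpn (LP (LK LD1_c10 LD2_c19 LD3_c53))))))
theorem f45765 : Led Lsl_et (LP (LK LD1_c16 LD2_c13 LD3_c42)) = (LP (LK LD1_c8 LD2_c39 LD3_c56)) :=
  Lre_e IH (LK LD1_c16 LD2_c13 LD3_c42) (LK LD1_c8 LD2_c39 LD3_c56) Lrfl Lrfl
theorem f332994 : Led Lsl_ef (LP (LK LD1_c15 LD2_c9 LD3_c48)) = (LP (LK LD1_c10 LD2_c27 LD3_c53)) :=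
  Lgr Lrot73 (Lpr_dt (K24.f332990 IH) (Lpr_et (K25.f323887 IH) (Lpe (K24.f323881 IH) (Lpr_et (f45765 IH) (Lpe (K24.f45758 IH) (Lpn (LP (LK LD1_c10 LD2_c27 LD3_c53))))))))
theorem f333052 : Led Lsl_bt (LP (LK LD1_c8 LD2_c40 LD3_c50)) = (LP (LK LD1_c10 LD2_c27 LD3_c53)) :=
  Lgr Lrot119 (Lpe (K21.f243079 IH) (Lpe (K21.f193027 IH) (Lpr_ef (f332994 IH) (Lpn (LP (LK LD1_c10 LD2_c27 LD3_c53))))))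
theorem f692897 : Led Lsl_ft (LP (LK LD1_c10 LD2_c19 LD3_c54)) = (LP (LK LD1_c8 LD2_c40 LD3_c50)) :=
  Lgr Lrot75 (Lpr_bf (K26.f362604 IH) (Lpr_ff (f692895 IH) (Lpe (f333052 IH) (Lpn (LP (LK LD1_c8 LD2_c40 LD3_c50))))))
theorem f336385 : Led Lsl_bt (LP (LK LD1_c5 LD2_c12 LD3_c7)) = (LP (LK LD1_c8 LD2_c40 LD3_c48)) :=
  Lgr Lrot119 (Lpe (f200365 IH) (Lpr_bf (f336381 IH) (Lpe (K21.f228955 IH) (Lpn (LP (LK LD1_c8 LD2_c40 LD3_c48))))))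
theorem f336387 : Led Lsl_bf (LP (LK LD1_c5 LD2_c12 LD3_c7)) = (LP (LK LD1_c8 LD2_c40 LD3_c48)) :=
  Lgr Lrot24 (Lpr_bt (f336385 IH) (Lpn (LP (LK LD1_c8 LD2_c40 LD3_c48))))
theorem f692699 : Led Lsl_ft (LP (LK LD1_c10 LD2_c19 LD3_c53)) = (LP (LK LD1_c8 LD2_c40 LD3_c48)) :=
  Lgr Lrot75 (Lpr_bf (K21.f325910 IH) (Lpr_ff (f692697 IH) (Lpr_bf (f336387 IH) (Lpn (LP (LK LD1_c8 LD2_c40 LD3_c48))))))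
theorem f693054 : Led Lsl_af (LP (LK LD1_c10 LD2_c19 LD3_c54)) = (LP (LK LD1_c8 LD2_c40 LD3_c48)) :=
  Lgr Lrot45 (Lpr_ft (f692897 IH) (Lpr_at (f693050 IH) (Lpr_ft (f692699 IH) (Lpn (LP (LK LD1_c8 LD2_c40 LD3_c48))))))
theorem f693058 : Led Lsl_at (LP (LK LD1_c7 LD2_c55 LD3_c35)) = (LP (LK LD1_c4 LD2_c21 LD3_c35)) :=
  Lgr Lrot51 (Lpr_df (K26.f232373 IH) (Lpr_af (f693054 IH) (Lpe (K21.f184799 IH) (Lpn (LP (LK LD1_c4 LD2_c21 LD3_c35))))))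
theorem f336392 : Led Lsl_bf (LP (LK LD1_c8 LD2_c20 LD3_c18)) = (LP (LK LD1_c4 LD2_c21 LD3_c35)) :=
  Lgr Lrot93 (Lpe (K22.f296060 IH) (Lpr_bt (f336385 IH) (Lpr_dt (K21.f184807 IH) (Lpn (LP (LK LD1_c4 LD2_c21 LD3_c35))))))
theorem f336394 : Led Lsl_bt (LP (LK LD1_c8 LD2_c20 LD3_c18)) = (LP (LK LD1_c4 LD2_c21 LD3_c35)) :=
  Lgr Lrot127 (Lpr_bf (f336392 IH) (Lpn (LP (LK LD1_c4 LD2_c21 LD3_c35))))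
theorem f692693 : Led Lsl_ff (LP (LK LD1_c7 LD2_c55 LD3_c36)) = (LP (LK LD1_c4 LD2_c21 LD3_c35)) :=
  Lgr Lrot25 (Lpr_bt (K27.f325914 IH) (Lpr_ft (K50.f691844 IH) (Lpqs (f692688 IH) (Lpr_bt (f336394 IH) (Lpn (LP (LK LD1_c4 LD2_c21 LD3_c35)))))))
theorem f693052 : Led Lsl_af (LP (LK LD1_c4 LD2_c21 LD3_c36)) = (LP (LK LD1_c7 LD2_c55 LD3_c36)) :=
  Lgr Lrot117 (Lpr_dt (K21.f243077 IH) (Lpr_at (f693050 IH) (Lpr_dt (K21.f229694 IH) (Lpn (LP (LK LD1_c7 LD2_c55 LD3_c36))))))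
theorem f693064 : Led Lsl_ff (LP (LK LD1_c7 LD2_c55 LD3_c35)) = (LP (LK LD1_c4 LD2_c21 LD3_c36)) :=
  Lgr Lrot30 (Lpr_at (f693058 IH) (Lpe (f692693 IH) (Lpe (f693052 IH) (Lpn (LP (LK LD1_c4 LD2_c21 LD3_c36))))))
theorem f693070 : Led Lsl_ft (LP (LK LD1_c7 LD2_c55 LD3_c35)) = (LP (LK LD1_c4 LD2_c21 LD3_c36)) :=
  Lgr Lrot48 (Lpr_ff (f693064 IH) (Lpn (LP (LK LD1_c4 LD2_c21 LD3_c36))))
theorem f693074 : Led Lsl_af (LP (LK LD1_c7 LD2_c55 LD3_c36)) = (LP (LK LD1_c4 LD2_c21 LD3_c36)) :=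
  Lgr Lrot31 (Lpr_gf (K21.f323780 IH) (Lpr_gf (K18.f262562 IH) (Lpr_ft (f693070 IH) (Lpn (LP (LK LD1_c4 LD2_c21 LD3_c36))))))
theorem f693060 : Led Lsl_af (LP (LK LD1_c7 LD2_c55 LD3_c35)) = (LP (LK LD1_c4 LD2_c21 LD3_c35)) :=
  Lgr Lrot0 (Lpr_at (f693058 IH) (Lpn (LP (LK LD1_c4 LD2_c21 LD3_c35))))
theorem f693080 : Led Lsl_ft (LP (LK LD1_c7 LD2_c55 LD3_c36)) = (LP (LK LD1_c4 LD2_c21 LD3_c35)) :=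
  Lgr Lrot101 (Lpr_af (f693074 IH) (Lpe (f693070 IH) (Lpr_af (f693060 IH) (Lpn (LP (LK LD1_c4 LD2_c21 LD3_c35))))))
theorem f229701 : Led Lsl_ct (LP (LK LD1_c14 LD2_c57 LD3_c15)) = (LP (LK LD1_c7 LD2_c55 LD3_c36)) :=
  Lre_c IH (LK LD1_c14 LD2_c57 LD3_c15) (LK LD1_c7 LD2_c55 LD3_c36) Lrfl Lrfl
theorem f693082 : Led Lsl_ff (LP (LK LD1_c14 LD2_c57 LD3_c15)) = (LP (LK LD1_c8 LD2_c40 LD3_c47)) :=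
  Lgr Lrot23 (Lpr_ct (f229701 IH) (Lpr_ft (f693080 IH) (Lpr_ct (K27.f228954 IH) (Lpn (LP (LK LD1_c8 LD2_c40 LD3_c47))))))
theorem f693090 : Led Lsl_ft (LP (LK LD1_c14 LD2_c57 LD3_c15)) = (LP (LK LD1_c8 LD2_c40 LD3_c47)) :=
  Lgr Lrot48 (Lpr_ff (f693082 IH) (Lpn (LP (LK LD1_c8 LD2_c40 LD3_c47))))
theorem f229743 : Led Lsl_ct (LP (LK LD1_c14 LD2_c57 LD3_c14)) = (LP (LK LD1_c7 LD2_c55 LD3_c35)) :=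
  Lre_c IH (LK LD1_c14 LD2_c57 LD3_c14) (LK LD1_c7 LD2_c55 LD3_c35) Lrfl Lrfl
theorem f693062 : Led Lsl_af (LP (LK LD1_c14 LD2_c57 LD3_c14)) = (LP (LK LD1_c8 LD2_c40 LD3_c47)) :=
  Lgr Lrot68 (Lpr_ct (f229743 IH) (Lpr_at (f693058 IH) (Lpr_ct (K27.f228954 IH) (Lpn (LP (LK LD1_c8 LD2_c40 LD3_c47))))))
theorem f693066 : Led Lsl_ft (LP (LK LD1_c14 LD2_c57 LD3_c14)) = (LP (LK LD1_c8 LD2_c40 LD3_c49)) :=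
  Lgr Lrot4 (Lpe (K26.f229691 IH) (Lpr_ff (f693064 IH) (Lpe (K53.f243075 IH) (Lpn (LP (LK LD1_c8 LD2_c40 LD3_c49))))))
theorem f693092 : Led Lsl_af (LP (LK LD1_c14 LD2_c57 LD3_c15)) = (LP (LK LD1_c8 LD2_c40 LD3_c49)) :=
  Lgr Lrot45 (Lpr_ft (f693090 IH) (Lpe (f693062 IH) (Lpr_ft (f693066 IH) (Lpn (LP (LK LD1_c8 LD2_c40 LD3_c49))))))
theorem f279768 : Led Lsl_et (LP (LK LD1_c14 LD2_c57 LD3_c15)) = (LP (LK LD1_c24 LD2_c44 LD3_c44)) :=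
  Lre_e IH (LK LD1_c14 LD2_c57 LD3_c15) (LK LD1_c24 LD2_c44 LD3_c44) Lrfl Lrfl
theorem f693096 : Led Lsl_at (LP (LK LD1_c24 LD2_c44 LD3_c44)) = (LP (LK LD1_c16 LD2_c15 LD3_c24)) :=
  Lgr Lrot80 (Lpe (f279768 IH) (Lpr_af (f693092 IH) (Lpe (K24.f328732 IH) (Lpn (LP (LK LD1_c16 LD2_c15 LD3_c24))))))
theorem f693104 : Led Lsl_ff (LP (LK LD1_c24 LD2_c44 LD3_c44)) = (LP (LK LD1_c26 LD2_c0 LD3_c59)) :=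
  Lgr Lrot52 (Lpr_at (f693096 IH) (Lpr_gf (K25.f354811 IH) (Lpr_gf (K21.f325938 IH) (Lpn (LP (LK LD1_c26 LD2_c0 LD3_c59))))))
theorem f693108 : Led Lsl_ft (LP (LK LD1_c24 LD2_c44 LD3_c44)) = (LP (LK LD1_c26 LD2_c0 LD3_c59)) :=
  Lgr Lrot48 (Lpr_ff (f693104 IH) (Lpn (LP (LK LD1_c26 LD2_c0 LD3_c59))))
theorem f287092 : Led Lsl_at (LP (LK LD1_c2 LD2_c8 LD3_c38)) = (LP (LK LD1_c3 LD2_c57 LD3_c15)) :=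
  Lgr Lrot100 (Lpr_af (K17.f287090 IH) (Lpn (LP (LK LD1_c3 LD2_c57 LD3_c15))))
theorem f196323 : Led Lsl_gt (LP (LK LD1_c7 LD2_c56 LD3_c10)) = (LP (LK LD1_c3 LD2_c57 LD3_c15)) :=
  Lre_g IH (LK LD1_c7 LD2_c56 LD3_c10) (LK LD1_c3 LD2_c57 LD3_c15) Lrfl Lrfl
theorem f408571 : Led Lsl_gt (LP (LK LD1_c4 LD2_c22 LD3_c25)) = (LP (LK LD1_c7 LD2_c56 LD3_c10)) :=
  Lgr Lrot5 (Lpr_ft (K14.f193205 IH) (Lpr_at (f287092 IH) (Lpe (f196323 IH) (Lpn (LP (LK LD1_c7 LD2_c56 LD3_c10))))))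
theorem f309959 : Led Lsl_df (LP (LK LD1_c5 LD2_c36 LD3_c26)) = (LP (LK LD1_c9 LD2_c35 LD3_c23)) :=
  Lgr Lrot38 (Lpr_dt (K19.f309956 IH) (Lpn (LP (LK LD1_c9 LD2_c35 LD3_c23))))
theorem f361069 : Led Lsl_ef (LP (LK LD1_c8 LD2_c10 LD3_c13)) = (LP (LK LD1_c4 LD2_c51 LD3_c48)) :=
  Lgr Lrot29 (Lpr_bt (K27.f309907 IH) (Lpr_et (K26.f361064 IH) (Lpr_bt (K46.f361068 IH) (Lpn (LP (LK LD1_c4 LD2_c51 LD3_c48))))))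
theorem f371685 : Led Lsl_dt (LP (LK LD1_c4 LD2_c51 LD3_c48)) = (LP (LK LD1_c9 LD2_c35 LD3_c45)) :=
  Lre_d IH (LK LD1_c4 LD2_c51 LD3_c48) (LK LD1_c9 LD2_c35 LD3_c45) Lrfl Lrfl
theorem f22009 : Led Lsl_gt (LP (LK LD1_c2 LD2_c28 LD3_c20)) = (LP (LK LD1_c5 LD2_c1 LD3_c12)) :=
  Lre_g IH (LK LD1_c2 LD2_c28 LD3_c20) (LK LD1_c5 LD2_c1 LD3_c12) Lrfl Lrfl
theorem f371790 : Led Lsl_gt (LP (LK LD1_c5 LD2_c1 LD3_c12)) = (LP (LK LD1_c9 LD2_c35 LD3_c45)) :=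
  Lgr Lrot46 (Lpe (f22009 IH) (Lpr_ft (K53.f170541 IH) (Lpr_at (K53.f371786 IH) (Lpn (LP (LK LD1_c9 LD2_c35 LD3_c45))))))
theorem f408575 : Led Lsl_df (LP (LK LD1_c5 LD2_c1 LD3_c12)) = (LP (LK LD1_c7 LD2_c56 LD3_c10)) :=
  Lgr Lrot135 (Lpr_gt (f371790 IH) (Lpe (f371685 IH) (Lpe (f361069 IH) (Lpe (K21.f291031 IH) (Lpe (K53.f224887 IH) (Lpe (f309959 IH) (Lpr_gt (K19.f309965 IH) (Lpr_df (K14.f247253 IH) (Lpe (K27.f287076 IH) (Lpr_gt (f408571 IH) (Lpn (LP (LK LD1_c7 LD2_c56 LD3_c10)))))))))))))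
theorem f408579 : Led Lsl_et (LP (LK LD1_c7 LD2_c56 LD3_c10)) = (LP (LK LD1_c14 LD2_c58 LD3_c20)) :=
  Lre_e IH (LK LD1_c7 LD2_c56 LD3_c10) (LK LD1_c14 LD2_c58 LD3_c20) Lrfl Lrfl
theorem f408582 : Led Lsl_gf (LP (LK LD1_c9 LD2_c36 LD3_c32)) = (LP (LK LD1_c14 LD2_c58 LD3_c20)) :=
  Lgr Lrot141 (Lpe (K18.f233948 IH) (Lpe (K25.f314676 IH) (Lpe (K25.f321086 IH) (Lpe (K25.f321080 IH) (Lpe (K27.f354694 IH) (Lpr_gt (K46.f354744 IH) (Lpr_dt (K16.f33328 IH) (Lpr_gt (f22009 IH) (Lpr_df (f408575 IH) (Lpr_et (f408579 IH) (Lpn (LP (LK LD1_c14 LD2_c58 LD3_c20)))))))))))))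
theorem f171375 : Led Lsl_at (LP (LK LD1_c16 LD2_c8 LD3_c6)) = (LP (LK LD1_c8 LD2_c36 LD3_c41)) :=
  Lre_a IH (LK LD1_c16 LD2_c8 LD3_c6) (LK LD1_c8 LD2_c36 LD3_c41) Lrfl Lrfl
theorem f408584 : Led Lsl_ff (LP (LK LD1_c16 LD2_c8 LD3_c6)) = (LP (LK LD1_c14 LD2_c58 LD3_c20)) :=
  Lgr Lrot52 (Lpr_at (f171375 IH) (Lpr_gf (K25.f354997 IH) (Lpr_gf (f408582 IH) (Lpn (LP (LK LD1_c14 LD2_c58 LD3_c20))))))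
theorem f408588 : Led Lsl_ft (LP (LK LD1_c16 LD2_c8 LD3_c6)) = (LP (LK LD1_c14 LD2_c58 LD3_c20)) :=
  Lgr Lrot48 (Lpr_ff (f408584 IH) (Lpn (LP (LK LD1_c14 LD2_c58 LD3_c20))))
theorem f354913 : Led Lsl_et (LP (LK LD1_c8 LD2_c36 LD3_c39)) = (LP (LK LD1_c16 LD2_c8 LD3_c6)) :=
  Lre_e IH (LK LD1_c8 LD2_c36 LD3_c39) (LK LD1_c16 LD2_c8 LD3_c6) Lrfl Lrfl
theorem f171392 : Led Lsl_at (LP (LK LD1_c8 LD2_c36 LD3_c39)) = (LP (LK LD1_c4 LD2_c19 LD3_c2)) :=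
  Lre_a IH (LK LD1_c8 LD2_c36 LD3_c39) (LK LD1_c4 LD2_c19 LD3_c2) Lrfl Lrfl
theorem f354911 : Led Lsl_ff (LP (LK LD1_c8 LD2_c36 LD3_c39)) = (LP (LK LD1_c4 LD2_c51 LD3_c15)) :=
  Lgr Lrot52 (Lpr_at (f171392 IH) (Lpe (K25.f171382 IH) (Lpr_gf (K53.f354909 IH) (Lpn (LP (LK LD1_c4 LD2_c51 LD3_c15))))))
theorem f196324 : Led Lsl_et (LP (LK LD1_c14 LD2_c58 LD3_c20)) = (LP (LK LD1_c7 LD2_c56 LD3_c10)) :=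
  Lre_e IH (LK LD1_c14 LD2_c58 LD3_c20) (LK LD1_c7 LD2_c56 LD3_c10) Lrfl Lrfl
theorem f408590 : Led Lsl_ff (LP (LK LD1_c4 LD2_c22 LD3_c24)) = (LP (LK LD1_c7 LD2_c56 LD3_c10)) :=
  Lgr Lrot72 (Lpr_et (K22.f193303 IH) (Lpe (f354911 IH) (Lpr_et (f354913 IH) (Lpr_ft (f408588 IH) (Lpr_et (f196324 IH) (Lpn (LP (LK LD1_c7 LD2_c56 LD3_c10))))))))
theorem f408596 : Led Lsl_at (LP (LK LD1_c4 LD2_c22 LD3_c24)) = (LP (LK LD1_c4 LD2_c19 LD3_c1)) :=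
  Lgr Lrot26 (Lpr_ff (f408590 IH) (Lpr_gt (f196323 IH) (Lpr_gt (K23.f327708 IH) (Lpn (LP (LK LD1_c4 LD2_c19 LD3_c1))))))
theorem f171732 : Led Lsl_et (LP (LK LD1_c4 LD2_c19 LD3_c1)) = (LP (LK LD1_c4 LD2_c12 LD3_c48)) :=
  Lgr Lrot74 (Lpe (K27.f171730 IH) (Lpr_ef (K19.f171728 IH) (Lpe (K22.f171731 IH) (Lpn (LP (LK LD1_c4 LD2_c12 LD3_c48))))))
theorem f408604 : Led Lsl_af (LP (LK LD1_c4 LD2_c51 LD3_c15)) = (LP (LK LD1_c4 LD2_c12 LD3_c48)) :=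
  Lgr Lrot50 (Lpe (K22.f193309 IH) (Lpr_at (f408596 IH) (Lpr_et (f171732 IH) (Lpn (LP (LK LD1_c4 LD2_c12 LD3_c48))))))
theorem f408614 : Led Lsl_ft (LP (LK LD1_c4 LD2_c19 LD3_c2)) = (LP (LK LD1_c4 LD2_c12 LD3_c48)) :=
  Lgr Lrot101 (Lpe (f171392 IH) (Lpr_ff (f354911 IH) (Lpr_af (f408604 IH) (Lpn (LP (LK LD1_c4 LD2_c12 LD3_c48))))))
theorem f408622 : Led Lsl_ff (LP (LK LD1_c4 LD2_c19 LD3_c2)) = (LP (LK LD1_c4 LD2_c12 LD3_c48)) :=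
  Lgr Lrot3 (Lpr_ft (f408614 IH) (Lpn (LP (LK LD1_c4 LD2_c12 LD3_c48))))
theorem f171383 : Led Lsl_at (LP (LK LD1_c4 LD2_c19 LD3_c2)) = (LP (LK LD1_c8 LD2_c36 LD3_c39)) :=
  Lre_a IH (LK LD1_c4 LD2_c19 LD3_c2) (LK LD1_c8 LD2_c36 LD3_c39) Lrfl Lrfl
theorem f408630 : Led Lsl_gf (LP (LK LD1_c8 LD2_c36 LD3_c39)) = (LP (LK LD1_c4 LD2_c51 LD3_c17)) :=
  Lgr Lrot76 (Lpe (f171383 IH) (Lpr_ff (f408622 IH) (Lpr_gt (K22.f333331 IH) (Lpn (LP (LK LD1_c4 LD2_c51 LD3_c17))))))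
theorem f354916 : Led Lsl_et (LP (LK LD1_c16 LD2_c8 LD3_c6)) = (LP (LK LD1_c8 LD2_c36 LD3_c39)) :=
  Lre_e IH (LK LD1_c16 LD2_c8 LD3_c6) (LK LD1_c8 LD2_c36 LD3_c39) Lrfl Lrfl
theorem f327959 : Led Lsl_ft (LP (LK LD1_c4 LD2_c51 LD3_c17)) = (LP (LK LD1_c2 LD2_c23 LD3_c26)) :=
  Lre_f IH (LK LD1_c4 LD2_c51 LD3_c17) (LK LD1_c2 LD2_c23 LD3_c26) Lrfl Lrfl
theorem f317259 : Led Lsl_ff (LP (LK LD1_c8 LD2_c37 LD3_c37)) = (LP (LK LD1_c4 LD2_c50 LD3_c52)) :=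
  Lgr Lrot30 (Lpe (K21.f305065 IH) (Lpr_ft (K20.f238160 IH) (Lpr_at (K20.f317249 IH) (Lpn (LP (LK LD1_c4 LD2_c50 LD3_c52))))))
theorem f327960 : Led Lsl_ef (LP (LK LD1_c4 LD2_c51 LD3_c17)) = (LP (LK LD1_c8 LD2_c37 LD3_c37)) :=
  Lgr Lrot21 (Lpr_ft (f327959 IH) (Lpr_et (K23.f199229 IH) (Lpr_ft (K21.f327950 IH) (Lpr_et (K20.f30663 IH) (Lpe (f317259 IH) (Lpn (LP (LK LD1_c8 LD2_c37 LD3_c37))))))))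
theorem f305015 : Led Lsl_ct (LP (LK LD1_c16 LD2_c9 LD3_c39)) = (LP (LK LD1_c8 LD2_c37 LD3_c37)) :=
  Lre_c IH (LK LD1_c16 LD2_c9 LD3_c39) (LK LD1_c8 LD2_c37 LD3_c37) Lrfl Lrfl
theorem f305078 : Led Lsl_gt (LP (LK LD1_c17 LD2_c38 LD3_c53)) = (LP (LK LD1_c26 LD2_c6 LD3_c24)) :=
  Lgr Lrot46 (Lpe (K16.f255687 IH) (Lpr_ft (K26.f238197 IH) (Lpr_at (K26.f305072 IH) (Lpn (LP (LK LD1_c26 LD2_c6 LD3_c24))))))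
theorem f255636 : Led Lsl_ct (LP (LK LD1_c16 LD2_c16 LD3_c34)) = (LP (LK LD1_c8 LD2_c41 LD3_c22)) :=
  Lre_c IH (LK LD1_c16 LD2_c16 LD3_c34) (LK LD1_c8 LD2_c41 LD3_c22) Lrfl Lrfl
theorem f314673 : Led Lsl_ct (LP (LK LD1_c9 LD2_c36 LD3_c33)) = (LP (LK LD1_c17 LD2_c41 LD3_c49)) :=
  Lre_c IH (LK LD1_c9 LD2_c36 LD3_c33) (LK LD1_c17 LD2_c41 LD3_c49) Lrfl Lrfl
theorem f350103 : Led Lsl_gf (LP (LK LD1_c16 LD2_c16 LD3_c34)) = (LP (LK LD1_c17 LD2_c41 LD3_c49)) :=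
  Lgr Lrot104 (Lpr_ct (f255636 IH) (Lpe (K19.f255637 IH) (Lpr_cf (K26.f350052 IH) (Lpe (K24.f310697 IH) (Lpe (K21.f238138 IH) (Lpe (K22.f238106 IH) (Lpe (K22.f238108 IH) (Lpr_gt (K25.f314671 IH) (Lpr_ct (f314673 IH) (Lpn (LP (LK LD1_c17 LD2_c41 LD3_c49))))))))))))
theorem f360591 : Led Lsl_gf (LP (LK LD1_c9 LD2_c37 LD3_c50)) = (LP (LK LD1_c9 LD2_c36 LD3_c33)) :=
  Lgr Lrot144 (Lpr_dt (K26.f360583 IH) (Lpr_gt (K22.f337970 IH) (Lpe (K22.f317228 IH) (Lpe (f305015 IH) (Lpe (K26.f305013 IH) (Lpe (f305078 IH) (Lpe (K16.f255712 IH) (Lpr_gf (f350103 IH) (Lpe (f314673 IH) (Lpn (LP (LK LD1_c9 LD2_c36 LD3_c33))))))))))))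
theorem f408640 : Led Lsl_dt (LP (LK LD1_c16 LD2_c8 LD3_c6)) = (LP (LK LD1_c14 LD2_c58 LD3_c20)) :=
  Lgr Lrot136 (Lpr_et (f354916 IH) (Lpr_gf (f408630 IH) (Lpr_ef (f327960 IH) (Lpe (K21.f326423 IH) (Lpe (K22.f337970 IH) (Lpe (K26.f360583 IH) (Lpr_gf (f360591 IH) (Lpe (K20.f233954 IH) (Lpr_dt (K21.f30657 IH) (Lpr_gf (f408582 IH) (Lpn (LP (LK LD1_c14 LD2_c58 LD3_c20)))))))))))))
theorem f408646 : Led Lsl_gf (LP (LK LD1_c16 LD2_c8 LD3_c6)) = (LP (LK LD1_c9 LD2_c38 LD3_c37)) :=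
  Lgr Lrot138 (Lpr_dt (f408640 IH) (Lpe (f408582 IH) (Lpe (K21.f30657 IH) (Lpr_et (K20.f233954 IH) (Lpe (f360591 IH) (Lpe (K26.f360574 IH) (Lpr_dt (K26.f247151 IH) (Lpr_gt (K26.f360585 IH) (Lpe (K23.f170937 IH) (Lpe (K19.f298942 IH) (Lpn (LP (LK LD1_c9 LD2_c38 LD3_c37)))))))))))))
theorem f171389 : Led Lsl_at (LP (LK LD1_c8 LD2_c36 LD3_c41)) = (LP (LK LD1_c16 LD2_c8 LD3_c6)) :=
  Lre_a IH (LK LD1_c8 LD2_c36 LD3_c41) (LK LD1_c16 LD2_c8 LD3_c6) Lrfl Lrfl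
theorem f408648 : Led Lsl_ff (LP (LK LD1_c8 LD2_c36 LD3_c41)) = (LP (LK LD1_c8 LD2_c25 LD3_c4)) :=
  Lgr Lrot52 (Lpr_at (f171389 IH) (Lpr_gf (f408646 IH) (Lpe (K25.f354800 IH) (Lpn (LP (LK LD1_c8 LD2_c25 LD3_c4))))))
theorem f408656 : Led Lsl_ft (LP (LK LD1_c8 LD2_c36 LD3_c41)) = (LP (LK LD1_c8 LD2_c25 LD3_c4)) :=
  Lgr Lrot48 (Lpr_ff (f408648 IH) (Lpn (LP (LK LD1_c8 LD2_c25 LD3_c4))))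
theorem f408664 : Led Lsl_ff (LP (LK LD1_c4 LD2_c19 LD3_c1)) = (LP (LK LD1_c4 LD2_c12 LD3_c50)) :=
  Lgr Lrot72 (Lpr_et (f171732 IH) (Lpe (f408622 IH) (Lpr_et (K25.f171377 IH) (Lpr_ft (f408656 IH) (Lpr_et (K25.f166799 IH) (Lpn (LP (LK LD1_c4 LD2_c12 LD3_c50))))))))
theorem f408672 : Led Lsl_ft (LP (LK LD1_c5 LD2_c1 LD3_c13)) = (LP (LK LD1_c5 LD2_c9 LD3_c61)) :=
  Lgr Lrot54 (Lpr_df (K23.f327714 IH) (Lpr_ff (f408664 IH) (Lpe (K25.f166801 IH) (Lpn (LP (LK LD1_c5 LD2_c9 LD3_c61))))))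
theorem f408682 : Led Lsl_af (LP (LK LD1_c5 LD2_c1 LD3_c12)) = (LP (LK LD1_c5 LD2_c9 LD3_c61)) :=
  Lgr Lrot31 (Lpe (f22009 IH) (Lpe (K23.f33973 IH) (Lpr_ft (f408672 IH) (Lpn (LP (LK LD1_c5 LD2_c9 LD3_c61))))))
theorem f408684 : Led Lsl_at (LP (LK LD1_c5 LD2_c1 LD3_c12)) = (LP (LK LD1_c5 LD2_c9 LD3_c61)) :=
  Lgr Lrot100 (Lpr_af (f408682 IH) (Lpn (LP (LK LD1_c5 LD2_c9 LD3_c61))))
theorem f408686 : Led Lsl_af (LP (LK LD1_c7 LD2_c56 LD3_c10)) = (LP (LK LD1_c4 LD2_c12 LD3_c50)) :=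
  Lgr Lrot117 (Lpe (f408575 IH) (Lpr_at (f408684 IH) (Lpr_dt (K25.f166801 IH) (Lpn (LP (LK LD1_c4 LD2_c12 LD3_c50))))))
theorem f362524 : Led Lsl_at (LP (LK LD1_c16 LD2_c3 LD3_c57)) = (LP (LK LD1_c15 LD2_c36 LD3_c1)) :=
  Lgr Lrot107 (Lpr_cf (K23.f349839 IH) (Lpr_af (K18.f297689 IH) (Lpr_cf (K26.f362522 IH) (Lpn (LP (LK LD1_c15 LD2_c36 LD3_c1))))))
theorem f349841 : Led Lsl_ff (LP (LK LD1_c16 LD2_c3 LD3_c57)) = (LP (LK LD1_c15 LD2_c15 LD3_c2)) :=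
  Lgr Lrot3 (Lpr_ft (K23.f349834 IH) (Lpn (LP (LK LD1_c15 LD2_c15 LD3_c2))))
theorem f378448 : Led Lsl_gt (LP (LK LD1_c15 LD2_c15 LD3_c2)) = (LP (LK LD1_c8 LD2_c17 LD3_c44)) :=
  Lgr Lrot5 (Lpe (f349841 IH) (Lpr_at (f362524 IH) (Lpe (K26.f703 IH) (Lpn (LP (LK LD1_c8 LD2_c17 LD3_c44))))))
theorem f1321 : Led Lsl_gt (LP (LK LD1_c15 LD2_c40 LD3_c6)) = (LP (LK LD1_c8 LD2_c19 LD3_c38)) :=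
  Lre_g IH (LK LD1_c15 LD2_c40 LD3_c6) (LK LD1_c8 LD2_c19 LD3_c38) Lrfl Lrfl
theorem f641 : Led Lsl_ct (LP (LK LD1_c4 LD2_c15 LD3_c46)) = (LP (LK LD1_c8 LD2_c30 LD3_c38)) :=
  Lre_c IH (LK LD1_c4 LD2_c15 LD3_c46) (LK LD1_c8 LD2_c30 LD3_c38) Lrfl Lrfl
theorem f642 : Led Lsl_ef (LP (LK LD1_c8 LD2_c17 LD3_c44)) = (LP (LK LD1_c8 LD2_c30 LD3_c38)) :=
  Lgr Lrot28 (Lpr_ct (K26.f640 IH) (Lpr_et (K13.f638 IH) (Lpr_ct (f641 IH) (Lpn (LP (LK LD1_c8 LD2_c30 LD3_c38))))))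
theorem f378454 : Led Lsl_df (LP (LK LD1_c15 LD2_c40 LD3_c6)) = (LP (LK LD1_c8 LD2_c30 LD3_c38)) :=
  Lgr Lrot170 (Lpr_gt (f1321 IH) (Lpe (K23.f1320 IH) (Lpr_et (K17.f1319 IH) (Lpr_gt (K9.f1318 IH) (Lpr_dt (K12.f1038 IH) (Lpr_gt (K12.f1039 IH) (Lpr_df (K12.f219978 IH) (Lpr_et (K19.f219980 IH) (Lpr_gt (f378448 IH) (Lpr_ef (f642 IH) (Lpn (LP (LK LD1_c8 LD2_c30 LD3_c38)))))))))))))
theorem f190913 : Led Lsl_dt (LP (LK LD1_c8 LD2_c19 LD3_c38)) = (LP (LK LD1_c4 LD2_c9 LD3_c46)) :=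
  Lre_d IH (LK LD1_c8 LD2_c19 LD3_c38) (LK LD1_c4 LD2_c9 LD3_c46) Lrfl Lrfl
theorem f378461 : Led Lsl_gt (LP (LK LD1_c15 LD2_c51 LD3_c18)) = (LP (LK LD1_c8 LD2_c30 LD3_c38)) :=
  Lgr Lrot94 (Lpe (K54.f188650 IH) (Lpr_gt (K22.f188659 IH) (Lpe (K26.f190908 IH) (Lpr_gt (K21.f33259 IH) (Lpe (K26.f33208 IH) (Lpe (K16.f170582 IH) (Lpe (f190913 IH) (Lpe (f1321 IH) (Lpr_df (f378454 IH) (Lpn (LP (LK LD1_c8 LD2_c30 LD3_c38))))))))))))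
theorem f188673 : Led Lsl_ct (LP (LK LD1_c15 LD2_c51 LD3_c18)) = (LP (LK LD1_c8 LD2_c26 LD3_c33)) :=
  Lre_c IH (LK LD1_c15 LD2_c51 LD3_c18) (LK LD1_c8 LD2_c26 LD3_c33) Lrfl Lrfl
theorem f355817 : Led Lsl_ft (LP (LK LD1_c15 LD2_c43 LD3_c17)) = (LP (LK LD1_c15 LD2_c51 LD3_c18)) :=
  Lgr Lrot4 (Lpr_cf (K26.f355703 IH) (Lpe (K20.f188655 IH) (Lpe (f188673 IH) (Lpn (LP (LK LD1_c15 LD2_c51 LD3_c18))))))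
theorem f355824 : Led Lsl_ff (LP (LK LD1_c15 LD2_c43 LD3_c17)) = (LP (LK LD1_c15 LD2_c51 LD3_c18)) :=
  Lgr Lrot3 (Lpr_ft (f355817 IH) (Lpn (LP (LK LD1_c15 LD2_c51 LD3_c18))))
theorem f696 : Led Lsl_gt (LP (LK LD1_c8 LD2_c30 LD3_c38)) = (LP (LK LD1_c15 LD2_c58 LD3_c56)) :=
  Lre_g IH (LK LD1_c8 LD2_c30 LD3_c38) (LK LD1_c15 LD2_c58 LD3_c56) Lrfl Lrfl
theorem f378463 : Led Lsl_at (LP (LK LD1_c15 LD2_c43 LD3_c17)) = (LP (LK LD1_c15 LD2_c58 LD3_c56)) :=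
  Lgr Lrot26 (Lpr_ff (f355824 IH) (Lpr_gt (f378461 IH) (Lpr_gt (f696 IH) (Lpn (LP (LK LD1_c15 LD2_c58 LD3_c56))))))
theorem f333311 : Led Lsl_af (LP (LK LD1_c15 LD2_c51 LD3_c18)) = (LP (LK LD1_c9 LD2_c34 LD3_c6)) :=
  Lgr Lrot68 (Lpr_ct (f188673 IH) (Lpr_at (K22.f333305 IH) (Lpr_ct (K26.f191690 IH) (Lpn (LP (LK LD1_c9 LD2_c34 LD3_c6))))))
theorem f378487 : Led Lsl_ff (LP (LK LD1_c9 LD2_c34 LD3_c6)) = (LP (LK LD1_c15 LD2_c58 LD3_c56)) :=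
  Lgr Lrot30 (Lpe (f333311 IH) (Lpe (f355824 IH) (Lpr_at (f378463 IH) (Lpn (LP (LK LD1_c15 LD2_c58 LD3_c56))))))
theorem f378491 : Led Lsl_ct (LP (LK LD1_c9 LD2_c34 LD3_c9)) = (LP (LK LD1_c15 LD2_c58 LD3_c56)) :=
  Lgr Lrot40 (Lpe (K22.f191695 IH) (Lpe (K25.f191697 IH) (Lpr_ff (f378487 IH) (Lpn (LP (LK LD1_c15 LD2_c58 LD3_c56))))))
theorem f184805 : Led Lsl_ct (LP (LK LD1_c2 LD2_c8 LD3_c17)) = (LP (LK LD1_c4 LD2_c21 LD3_c34)) :=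
  Lre_c IH (LK LD1_c2 LD2_c8 LD3_c17) (LK LD1_c4 LD2_c21 LD3_c34) Lrfl Lrfl
theorem f243064 : Led Lsl_gt (LP (LK LD1_c8 LD2_c40 LD3_c44)) = (LP (LK LD1_c4 LD2_c21 LD3_c34)) :=
  Lre_g IH (LK LD1_c8 LD2_c40 LD3_c44) (LK LD1_c4 LD2_c21 LD3_c34) Lrfl Lrfl
theorem f359275 : Led Lsl_ef (LP (LK LD1_c4 LD2_c52 LD3_c55)) = (LP (LK LD1_c4 LD2_c51 LD3_c46)) :=
  Lgr Lrot88 (Lpr_et (K26.f359268 IH) (Lpn (LP (LK LD1_c4 LD2_c51 LD3_c46))))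
theorem f367996 : Led Lsl_gf (LP (LK LD1_c5 LD2_c9 LD3_c7)) = (LP (LK LD1_c8 LD2_c4 LD3_c20)) :=
  Lgr Lrot134 (Lpr_df (K27.f367987 IH) (Lpe (f359275 IH) (Lpr_gt (K24.f247145 IH) (Lpr_ef (K16.f270847 IH) (Lpe (K21.f279362 IH) (Lpr_gt (K22.f279392 IH) (Lpr_df (K21.f327653 IH) (Lpe (K23.f171726 IH) (Lpe (K27.f327710 IH) (Lpr_dt (K14.f193217 IH) (Lpn (LP (LK LD1_c8 LD2_c4 LD3_c20)))))))))))))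
theorem f327712 : Led Lsl_ct (LP (LK LD1_c5 LD2_c9 LD3_c7)) = (LP (LK LD1_c10 LD2_c8 LD3_c49)) :=
  Lre_c IH (LK LD1_c5 LD2_c9 LD3_c7) (LK LD1_c10 LD2_c8 LD3_c49) Lrfl Lrfl
theorem f367989 : Led Lsl_bt (LP (LK LD1_c5 LD2_c9 LD3_c7)) = (LP (LK LD1_c5 LD2_c1 LD3_c45)) :=
  Lgr Lrot95 (Lpr_df (K27.f367987 IH) (Lpe (K26.f359217 IH) (Lpe (K21.f327538 IH) (Lpn (LP (LK LD1_c5 LD2_c1 LD3_c45))))))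
theorem f266032 : Led Lsl_gt (LP (LK LD1_c5 LD2_c1 LD3_c43)) = (LP (LK LD1_c9 LD2_c53 LD3_c51)) :=
  Lre_g IH (LK LD1_c5 LD2_c1 LD3_c43) (LK LD1_c9 LD2_c53 LD3_c51) Lrfl Lrfl
theorem f367725 : Led Lsl_et (LP (LK LD1_c10 LD2_c28 LD3_c33)) = (LP (LK LD1_c10 LD2_c26 LD3_c46)) :=
  Lgr Lrot87 (Lpr_ef (K67.f367721 IH) (Lpn (LP (LK LD1_c10 LD2_c26 LD3_c46))))
theorem f230629 : Led Lsl_bt (LP (LK LD1_c18 LD2_c59 LD3_c15)) = (LP (LK LD1_c10 LD2_c28 LD3_c33)) :=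
  Lre_b IH (LK LD1_c18 LD2_c59 LD3_c15) (LK LD1_c10 LD2_c28 LD3_c33) Lrfl Lrfl
theorem f361331 : Led Lsl_bt (LP (LK LD1_c10 LD2_c26 LD3_c46)) = (LP (LK LD1_c18 LD2_c56 LD3_c36)) :=
  Lre_b IH (LK LD1_c10 LD2_c26 LD3_c46) (LK LD1_c18 LD2_c56 LD3_c36) Lrfl Lrfl
theorem f367727 : Led Lsl_ef (LP (LK LD1_c18 LD2_c59 LD3_c15)) = (LP (LK LD1_c18 LD2_c56 LD3_c36)) :=
  Lgr Lrot29 (Lpr_bt (f230629 IH) (Lpr_et (f367725 IH) (Lpr_bt (f361331 IH) (Lpn (LP (LK LD1_c18 LD2_c56 LD3_c36))))))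
theorem f336152 : Led Lsl_bt (LP (LK LD1_c10 LD2_c28 LD3_c33)) = (LP (LK LD1_c18 LD2_c59 LD3_c15)) :=
  Lre_b IH (LK LD1_c10 LD2_c28 LD3_c33) (LK LD1_c18 LD2_c59 LD3_c15) Lrfl Lrfl
theorem f312424 : Led Lsl_ct (LP (LK LD1_c10 LD2_c11 LD3_c51)) = (LP (LK LD1_c5 LD2_c10 LD3_c34)) :=
  Lre_c IH (LK LD1_c10 LD2_c11 LD3_c51) (LK LD1_c5 LD2_c10 LD3_c34) Lrfl Lrfl
theorem f336153 : Led Lsl_bt (LP (LK LD1_c18 LD2_c34 LD3_c38)) = (LP (LK LD1_c10 LD2_c11 LD3_c51)) :=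
  Lre_b IH (LK LD1_c18 LD2_c34 LD3_c38) (LK LD1_c10 LD2_c11 LD3_c51) Lrfl Lrfl
theorem f336154 : Led Lsl_ct (LP (LK LD1_c18 LD2_c59 LD3_c15)) = (LP (LK LD1_c18 LD2_c34 LD3_c38)) :=
  Lgr Lrot83 (Lpe (f336152 IH) (Lpr_cf (K22.f336146 IH) (Lpe (K22.f307120 IH) (Lpe (f312424 IH) (Lpe (f336153 IH) (Lpn (LP (LK LD1_c18 LD2_c34 LD3_c38))))))))
theorem f275183 : Led Lsl_gt (LP (LK LD1_c8 LD2_c51 LD3_c60)) = (LP (LK LD1_c5 LD2_c2 LD3_c53)) :=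
  Lgr Lrot49 (Lpr_df (K14.f191787 IH) (Lpe (K14.f44345 IH) (Lpr_cf (K14.f215802 IH) (Lpe (K16.f215813 IH) (Lpr_dt (K16.f195892 IH) (Lpr_gt (K16.f215887 IH) (Lpr_dt (K16.f215894 IH) (Lpr_cf (K16.f275168 IH) (Lpe (K44.f214964 IH) (Lpn (LP (LK LD1_c5 LD2_c2 LD3_c53))))))))))))
theorem f294302 : Led Lsl_at (LP (LK LD1_c9 LD2_c39 LD3_c50)) = (LP (LK LD1_c9 LD2_c40 LD3_c23)) :=
  Lgr Lrot80 (Lpe (K26.f229054 IH) (Lpr_af (K18.f294294 IH) (Lpe (K26.f43776 IH) (Lpn (LP (LK LD1_c9 LD2_c40 LD3_c23))))))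
theorem f312441 : Led Lsl_gf (LP (LK LD1_c17 LD2_c47 LD3_c21)) = (LP (LK LD1_c17 LD2_c46 LD3_c26)) :=
  Lgr Lrot47 (Lpr_gt (K25.f312439 IH) (Lpe (f294302 IH) (Lpe (K26.f294310 IH) (Lpn (LP (LK LD1_c17 LD2_c46 LD3_c26))))))
theorem f305940 : Led Lsl_dt (LP (LK LD1_c17 LD2_c47 LD3_c21)) = (LP (LK LD1_c27 LD2_c34 LD3_c22)) :=
  Lre_d IH (LK LD1_c17 LD2_c47 LD3_c21) (LK LD1_c27 LD2_c34 LD3_c22) Lrfl Lrfl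
theorem f232083 : Led Lsl_dt (LP (LK LD1_c25 LD2_c34 LD3_c0)) = (LP (LK LD1_c15 LD2_c38 LD3_c40)) :=
  Lre_d IH (LK LD1_c25 LD2_c34 LD3_c0) (LK LD1_c15 LD2_c38 LD3_c40) Lrfl Lrfl
theorem f312460 : Led Lsl_gt (LP (LK LD1_c27 LD2_c34 LD3_c22)) = (LP (LK LD1_c25 LD2_c34 LD3_c0)) :=
  Lgr Lrot49 (Lpe (f305940 IH) (Lpr_gf (f312441 IH) (Lpr_cf (K26.f294328 IH) (Lpe (K22.f287672 IH) (Lpr_dt (K22.f294242 IH) (Lpr_gt (K22.f232090 IH) (Lpr_dt (K14.f232086 IH) (Lpe (K14.f232074 IH) (Lpe (f232083 IH) (Lpn (LP (LK LD1_c25 LD2_c34 LD3_c0))))))))))))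
theorem f340169 : Led Lsl_ef (LP (LK LD1_c10 LD2_c11 LD3_c51)) = (LP (LK LD1_c17 LD2_c47 LD3_c21)) :=
  Lgr Lrot17 (Lpr_gf (K24.f340166 IH) (Lpe (K14.f190493 IH) (Lpr_dt (K14.f190490 IH) (Lpe (K44.f275190 IH) (Lpe (K44.f214964 IH) (Lpe (f275183 IH) (Lpr_ef (K26.f232061 IH) (Lpr_dt (K26.f232077 IH) (Lpe (f312460 IH) (Lpe (f305940 IH) (Lpn (LP (LK LD1_c17 LD2_c47 LD3_c21)))))))))))))
theorem f312428 : Led Lsl_bt (LP (LK LD1_c10 LD2_c11 LD3_c51)) = (LP (LK LD1_c18 LD2_c34 LD3_c38)) :=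
  Lre_b IH (LK LD1_c10 LD2_c11 LD3_c51) (LK LD1_c18 LD2_c34 LD3_c38) Lrfl Lrfl
theorem f312447 : Led Lsl_bt (LP (LK LD1_c27 LD2_c34 LD3_c21)) = (LP (LK LD1_c17 LD2_c47 LD3_c21)) :=
  Lre_b IH (LK LD1_c27 LD2_c34 LD3_c21) (LK LD1_c17 LD2_c47 LD3_c21) Lrfl Lrfl
theorem f340171 : Led Lsl_et (LP (LK LD1_c18 LD2_c34 LD3_c38)) = (LP (LK LD1_c27 LD2_c34 LD3_c21)) :=
  Lgr Lrot74 (Lpe (f312428 IH) (Lpr_ef (f340169 IH) (Lpe (f312447 IH) (Lpn (LP (LK LD1_c27 LD2_c34 LD3_c21))))))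
theorem f367729 : Led Lsl_ct (LP (LK LD1_c27 LD2_c34 LD3_c21)) = (LP (LK LD1_c18 LD2_c56 LD3_c36)) :=
  Lgr Lrot15 (Lpe (f340171 IH) (Lpe (f336154 IH) (Lpr_ef (f367727 IH) (Lpn (LP (LK LD1_c18 LD2_c56 LD3_c36))))))
theorem f367731 : Led Lsl_cf (LP (LK LD1_c27 LD2_c34 LD3_c21)) = (LP (LK LD1_c18 LD2_c56 LD3_c36)) :=
  Lgr Lrot11 (Lpr_ct (f367729 IH) (Lpn (LP (LK LD1_c18 LD2_c56 LD3_c36))))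
theorem f367733 : Led Lsl_bt (LP (LK LD1_c9 LD2_c40 LD3_c16)) = (LP (LK LD1_c9 LD2_c53 LD3_c43)) :=
  Lgr Lrot128 (Lpe (K25.f305946 IH) (Lpe (f312447 IH) (Lpr_cf (f367731 IH) (Lpe (f361331 IH) (Lpr_cf (K26.f361329 IH) (Lpn (LP (LK LD1_c9 LD2_c53 LD3_c43))))))))
theorem f367737 : Led Lsl_ct (LP (LK LD1_c8 LD2_c41 LD3_c41)) = (LP (LK LD1_c9 LD2_c53 LD3_c51)) :=
  Lgr Lrot10 (Lpr_bt (K24.f341768 IH) (Lpr_gt (K18.f287658 IH) (Lpe (K26.f294328 IH) (Lpe (f312441 IH) (Lpe (K26.f305939 IH) (Lpr_bt (f367733 IH) (Lpr_gt (K26.f290856 IH) (Lpe (K21.f291948 IH) (Lpr_ct (K21.f291960 IH) (Lpr_gt (f266032 IH) (Lpn (LP (LK LD1_c9 LD2_c53 LD3_c51)))))))))))))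
theorem f376831 : Led Lsl_gf (LP (LK LD1_c10 LD2_c8 LD3_c49)) = (LP (LK LD1_c15 LD2_c12 LD3_c3)) :=
  Lgr Lrot126 (Lpe (f327712 IH) (Lpr_bt (f367989 IH) (Lpr_gt (K21.f253169 IH) (Lpr_ct (K21.f291960 IH) (Lpr_gt (f266032 IH) (Lpe (f367737 IH) (Lpr_bt (K24.f341768 IH) (Lpr_gt (K18.f287658 IH) (Lpe (K13.f229074 IH) (Lpr_ct (K26.f294611 IH) (Lpn (LP (LK LD1_c15 LD2_c12 LD3_c3)))))))))))))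
theorem f262493 : Led Lsl_ft (LP (LK LD1_c15 LD2_c12 LD3_c3)) = (LP (LK LD1_c8 LD2_c4 LD3_c26)) :=
  Lre_f IH (LK LD1_c15 LD2_c12 LD3_c3) (LK LD1_c8 LD2_c4 LD3_c26) Lrfl Lrfl
theorem f21750 : Led Lsl_et (LP (LK LD1_c5 LD2_c9 LD3_c14)) = (LP (LK LD1_c2 LD2_c31 LD3_c45)) :=
  Lre_e IH (LK LD1_c5 LD2_c9 LD3_c14) (LK LD1_c2 LD2_c31 LD3_c45) Lrfl Lrfl
theorem f262485 : Led Lsl_at (LP (LK LD1_c8 LD2_c4 LD3_c26)) = (LP (LK LD1_c5 LD2_c9 LD3_c14)) :=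
  Lgr Lrot80 (Lpe (K26.f229095 IH) (Lpr_af (K15.f262468 IH) (Lpe (f21750 IH) (Lpn (LP (LK LD1_c5 LD2_c9 LD3_c14))))))
theorem f376833 : Led Lsl_gt (LP (LK LD1_c10 LD2_c8 LD3_c49)) = (LP (LK LD1_c5 LD2_c9 LD3_c14)) :=
  Lgr Lrot46 (Lpr_gf (f376831 IH) (Lpr_ft (f262493 IH) (Lpr_at (f262485 IH) (Lpn (LP (LK LD1_c5 LD2_c9 LD3_c14))))))
theorem f192895 : Led Lsl_et (LP (LK LD1_c2 LD2_c31 LD3_c45)) = (LP (LK LD1_c5 LD2_c9 LD3_c14)) :=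
  Lre_e IH (LK LD1_c2 LD2_c31 LD3_c45) (LK LD1_c5 LD2_c9 LD3_c14) Lrfl Lrfl
theorem f192896 : Led Lsl_cf (LP (LK LD1_c4 LD2_c2 LD3_c28)) = (LP (LK LD1_c5 LD2_c9 LD3_c14)) :=
  Lgr Lrot39 (Lpr_et (K13.f46991 IH) (Lpr_ct (K10.f192850 IH) (Lpr_et (f192895 IH) (Lpn (LP (LK LD1_c5 LD2_c9 LD3_c14))))))
theorem f184804 : Led Lsl_ct (LP (LK LD1_c4 LD2_c21 LD3_c34)) = (LP (LK LD1_c2 LD2_c8 LD3_c17)) :=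
  Lre_c IH (LK LD1_c4 LD2_c21 LD3_c34) (LK LD1_c2 LD2_c8 LD3_c17) Lrfl Lrfl
theorem f408573 : Led Lsl_cf (LP (LK LD1_c8 LD2_c40 LD3_c44)) = (LP (LK LD1_c7 LD2_c56 LD3_c10)) :=
  Lgr Lrot169 (Lpr_gt (f243064 IH) (Lpr_ct (f184804 IH) (Lpe (K13.f243048 IH) (Lpr_cf (f192896 IH) (Lpe (f376833 IH) (Lpe (f327712 IH) (Lpr_gf (f367996 IH) (Lpe (K14.f193217 IH) (Lpr_gt (f408571 IH) (Lpn (LP (LK LD1_c7 LD2_c56 LD3_c10))))))))))))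
theorem f408636 : Led Lsl_bf (LP (LK LD1_c8 LD2_c36 LD3_c39)) = (LP (LK LD1_c7 LD2_c56 LD3_c10)) :=
  Lgr Lrot34 (Lpr_gf (f408630 IH) (Lpe (K26.f327969 IH) (Lpr_ct (f378491 IH) (Lpe (f696 IH) (Lpe (f641 IH) (Lpe (K13.f637 IH) (Lpr_bf (K13.f243052 IH) (Lpr_ct (f184805 IH) (Lpe (f243064 IH) (Lpr_cf (f408573 IH) (Lpn (LP (LK LD1_c7 LD2_c56 LD3_c10)))))))))))))
theorem f171384 : Led Lsl_bt (LP (LK LD1_c4 LD2_c19 LD3_c2)) = (LP (LK LD1_c2 LD2_c6 LD3_c51)) :=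
  Lre_b IH (LK LD1_c4 LD2_c19 LD3_c2) (LK LD1_c2 LD2_c6 LD3_c51) Lrfl Lrfl
theorem f408688 : Led Lsl_at (LP (LK LD1_c2 LD2_c6 LD3_c51)) = (LP (LK LD1_c2 LD2_c3 LD3_c39)) :=
  Lgr Lrot67 (Lpe (f171384 IH) (Lpe (f171392 IH) (Lpr_bf (f408636 IH) (Lpr_af (f408686 IH) (Lpe (K25.f166723 IH) (Lpn (LP (LK LD1_c2 LD2_c3 LD3_c39))))))))
theorem f408616 : Led Lsl_ff (LP (LK LD1_c2 LD2_c6 LD3_c51)) = (LP (LK LD1_c2 LD2_c3 LD3_c38)) :=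
  Lgr Lrot25 (Lpr_bt (K25.f171344 IH) (Lpr_ft (f408614 IH) (Lpr_bt (K22.f171731 IH) (Lpn (LP (LK LD1_c2 LD2_c3 LD3_c38))))))
theorem f408608 : Led Lsl_at (LP (LK LD1_c2 LD2_c6 LD3_c50)) = (LP (LK LD1_c2 LD2_c3 LD3_c38)) :=
  Lgr Lrot67 (Lpe (K23.f171717 IH) (Lpe (f408596 IH) (Lpr_bf (K23.f332945 IH) (Lpr_af (f408604 IH) (Lpe (K21.f171725 IH) (Lpn (LP (LK LD1_c2 LD2_c3 LD3_c38))))))))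
theorem f408732 : Led Lsl_ff (LP (LK LD1_c2 LD2_c6 LD3_c50)) = (LP (LK LD1_c2 LD2_c3 LD3_c39)) :=
  Lgr Lrot30 (Lpr_at (f408608 IH) (Lpe (f408616 IH) (Lpr_at (f408688 IH) (Lpn (LP (LK LD1_c2 LD2_c3 LD3_c39))))))
theorem f408736 : Led Lsl_ft (LP (LK LD1_c2 LD2_c28 LD3_c55)) = (LP (LK LD1_c2 LD2_c32 LD3_c3)) :=
  Lgr Lrot54 (Lpe (K19.f171205 IH) (Lpr_ff (f408732 IH) (Lpe (K25.f166720 IH) (Lpn (LP (LK LD1_c2 LD2_c32 LD3_c3))))))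
theorem f408738 : Led Lsl_ff (LP (LK LD1_c5 LD2_c2 LD3_c44)) = (LP (LK LD1_c5 LD2_c10 LD3_c0)) :=
  Lgr Lrot23 (Lpr_ct (K27.f166597 IH) (Lpr_ft (f408736 IH) (Lpr_ct (K26.f166752 IH) (Lpn (LP (LK LD1_c5 LD2_c10 LD3_c0))))))
theorem f408745 : Led Lsl_at (LP (LK LD1_c5 LD2_c2 LD3_c44)) = (LP (LK LD1_c5 LD2_c10 LD3_c1)) :=
  Lgr Lrot26 (Lpr_ff (f408738 IH) (Lpr_gt (K26.f354798 IH) (Lpr_gt (K22.f331418 IH) (Lpn (LP (LK LD1_c5 LD2_c10 LD3_c1))))))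
theorem f361171 : Led Lsl_et (LP (LK LD1_c9 LD2_c56 LD3_c22)) = (LP (LK LD1_c5 LD2_c2 LD3_c44)) :=
  Lre_e IH (LK LD1_c9 LD2_c56 LD3_c22) (LK LD1_c5 LD2_c2 LD3_c44) Lrfl Lrfl
theorem f306999 : Led Lsl_et (LP (LK LD1_c5 LD2_c10 LD3_c1)) = (LP (LK LD1_c10 LD2_c10 LD3_c51)) :=
  Lre_e IH (LK LD1_c5 LD2_c10 LD3_c1) (LK LD1_c10 LD2_c10 LD3_c51) Lrfl Lrfl
theorem f408753 : Led Lsl_af (LP (LK LD1_c9 LD2_c56 LD3_c22)) = (LP (LK LD1_c10 LD2_c10 LD3_c51)) :=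
  Lgr Lrot50 (Lpr_et (f361171 IH) (Lpr_at (f408745 IH) (Lpr_et (f306999 IH) (Lpn (LP (LK LD1_c10 LD2_c10 LD3_c51))))))
theorem f171747 : Led Lsl_ct (LP (LK LD1_c9 LD2_c56 LD3_c22)) = (LP (LK LD1_c5 LD2_c2 LD3_c45)) :=
  Lre_c IH (LK LD1_c9 LD2_c56 LD3_c22) (LK LD1_c5 LD2_c2 LD3_c45) Lrfl Lrfl
theorem f306987 : Led Lsl_ct (LP (LK LD1_c5 LD2_c10 LD3_c2)) = (LP (LK LD1_c10 LD2_c10 LD3_c51)) :=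
  Lre_c IH (LK LD1_c5 LD2_c10 LD3_c2) (LK LD1_c10 LD2_c10 LD3_c51) Lrfl Lrfl
theorem f408759 : Led Lsl_at (LP (LK LD1_c5 LD2_c2 LD3_c45)) = (LP (LK LD1_c5 LD2_c10 LD3_c2)) :=
  Lgr Lrot107 (Lpe (f171747 IH) (Lpr_af (f408753 IH) (Lpe (f306987 IH) (Lpn (LP (LK LD1_c5 LD2_c10 LD3_c2))))))
theorem f408763 : Led Lsl_ff (LP (LK LD1_c5 LD2_c2 LD3_c45)) = (LP (LK LD1_c5 LD2_c10 LD3_c2)) :=
  Lgr Lrot52 (Lpr_at (f408759 IH) (Lpe (K49.f306991 IH) (Lpr_gf (K19.f307000 IH) (Lpn (LP (LK LD1_c5 LD2_c10 LD3_c2))))))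
theorem f408771 : Led Lsl_ft (LP (LK LD1_c5 LD2_c2 LD3_c45)) = (LP (LK LD1_c5 LD2_c10 LD3_c2)) :=
  Lgr Lrot48 (Lpr_ff (f408763 IH) (Lpn (LP (LK LD1_c5 LD2_c10 LD3_c2))))
theorem f327738 : Led Lsl_bf (LP (LK LD1_c5 LD2_c1 LD3_c13)) = (LP (LK LD1_c2 LD2_c28 LD3_c55)) :=
  Lgr Lrot96 (Lpr_et (K23.f327720 IH) (Lpr_bt (K49.f327733 IH) (Lpr_et (K19.f165285 IH) (Lpn (LP (LK LD1_c2 LD2_c28 LD3_c55))))))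
theorem f408674 : Led Lsl_ff (LP (LK LD1_c2 LD2_c28 LD3_c55)) = (LP (LK LD1_c2 LD2_c32 LD3_c3)) :=
  Lgr Lrot25 (Lpe (f327738 IH) (Lpr_ft (f408672 IH) (Lpr_bt (K25.f166722 IH) (Lpn (LP (LK LD1_c2 LD2_c32 LD3_c3))))))
theorem f408775 : Led Lsl_ff (LP (LK LD1_c2 LD2_c28 LD3_c54)) = (LP (LK LD1_c2 LD2_c32 LD3_c4)) :=
  Lgr Lrot72 (Lpe (K25.f166746 IH) (Lpe (f408674 IH) (Lpr_et (K19.f171720 IH) (Lpr_ft (f408771 IH) (Lpr_et (K19.f165490 IH) (Lpn (LP (LK LD1_c2 LD2_c32 LD3_c4))))))))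
theorem f408779 : Led Lsl_at (LP (LK LD1_c2 LD2_c28 LD3_c54)) = (LP (LK LD1_c2 LD2_c32 LD3_c3)) :=
  Lgr Lrot26 (Lpr_ff (f408775 IH) (Lpr_gt (K19.f165489 IH) (Lpr_gt (K25.f21329 IH) (Lpn (LP (LK LD1_c2 LD2_c32 LD3_c3))))))
theorem f408785 : Led Lsl_af (LP (LK LD1_c2 LD2_c32 LD3_c4)) = (LP (LK LD1_c2 LD2_c28 LD3_c55)) :=
  Lgr Lrot45 (Lpe (f408775 IH) (Lpr_at (f408779 IH) (Lpe (f408674 IH) (Lpn (LP (LK LD1_c2 LD2_c28 LD3_c55))))))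
theorem f408787 : Led Lsl_at (LP (LK LD1_c2 LD2_c3 LD3_c38)) = (LP (LK LD1_c2 LD2_c6 LD3_c50)) :=
  Lgr Lrot51 (Lpr_df (K19.f306977 IH) (Lpr_af (f408785 IH) (Lpe (K19.f171205 IH) (Lpn (LP (LK LD1_c2 LD2_c6 LD3_c50))))))
theorem f408789 : Led Lsl_af (LP (LK LD1_c4 LD2_c12 LD3_c49)) = (LP (LK LD1_c4 LD2_c10 LD3_c31)) :=
  Lgr Lrot68 (Lpr_ct (K22.f171734 IH) (Lpr_at (f408787 IH) (Lpr_ct (K27.f361186 IH) (Lpn (LP (LK LD1_c4 LD2_c10 LD3_c31))))))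
theorem f408791 : Led Lsl_at (LP (LK LD1_c4 LD2_c12 LD3_c49)) = (LP (LK LD1_c4 LD2_c10 LD3_c31)) :=
  Lgr Lrot100 (Lpr_af (f408789 IH) (Lpn (LP (LK LD1_c4 LD2_c10 LD3_c31))))
theorem f166732 : Led Lsl_ct (LP (LK LD1_c4 LD2_c12 LD3_c51)) = (LP (LK LD1_c2 LD2_c3 LD3_c39)) :=
  Lre_c IH (LK LD1_c4 LD2_c12 LD3_c51) (LK LD1_c2 LD2_c3 LD3_c39) Lrfl Lrfl
theorem f408734 : Led Lsl_ft (LP (LK LD1_c4 LD2_c10 LD3_c31)) = (LP (LK LD1_c4 LD2_c12 LD3_c51)) :=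
  Lgr Lrot4 (Lpe (K27.f361186 IH) (Lpr_ff (f408732 IH) (Lpe (f166732 IH) (Lpn (LP (LK LD1_c4 LD2_c12 LD3_c51))))))
theorem f378379 : Led Lsl_cf (LP (LK LD1_c2 LD2_c6 LD3_c51)) = (LP (LK LD1_c4 LD2_c10 LD3_c32)) :=
  Lgr Lrot11 (Lpr_ct (K54.f378289 IH) (Lpn (LP (LK LD1_c4 LD2_c10 LD3_c32))))
theorem f408726 : Led Lsl_af (LP (LK LD1_c4 LD2_c10 LD3_c32)) = (LP (LK LD1_c4 LD2_c12 LD3_c51)) :=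
  Lgr Lrot68 (Lpe (f378379 IH) (Lpr_at (f408688 IH) (Lpr_ct (K25.f166727 IH) (Lpn (LP (LK LD1_c4 LD2_c12 LD3_c51))))))
theorem f408795 : Led Lsl_ff (LP (LK LD1_c4 LD2_c12 LD3_c49)) = (LP (LK LD1_c4 LD2_c10 LD3_c32)) :=
  Lgr Lrot30 (Lpr_at (f408791 IH) (Lpr_ft (f408734 IH) (Lpe (f408726 IH) (Lpn (LP (LK LD1_c4 LD2_c10 LD3_c32))))))
theorem f408799 : Led Lsl_ft (LP (LK LD1_c4 LD2_c12 LD3_c49)) = (LP (LK LD1_c4 LD2_c10 LD3_c32)) :=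
  Lgr Lrot48 (Lpr_ff (f408795 IH) (Lpn (LP (LK LD1_c4 LD2_c10 LD3_c32))))
theorem f361188 : Led Lsl_et (LP (LK LD1_c4 LD2_c12 LD3_c49)) = (LP (LK LD1_c4 LD2_c10 LD3_c31)) :=
  Lgr Lrot158 (Lpe (K22.f166716 IH) (Lpe (K19.f171723 IH) (Lpr_cf (K27.f361175 IH) (Lpn (LP (LK LD1_c4 LD2_c10 LD3_c31))))))
theorem f361191 : Led Lsl_ef (LP (LK LD1_c4 LD2_c12 LD3_c49)) = (LP (LK LD1_c4 LD2_c10 LD3_c31)) :=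
  Lgr Lrot88 (Lpr_et (f361188 IH) (Lpn (LP (LK LD1_c4 LD2_c10 LD3_c31))))
theorem f408793 : Led Lsl_ft (LP (LK LD1_c4 LD2_c12 LD3_c51)) = (LP (LK LD1_c4 LD2_c10 LD3_c31)) :=
  Lgr Lrot2 (Lpr_gt (K25.f354733 IH) (Lpr_gt (K22.f333334 IH) (Lpr_af (f408789 IH) (Lpn (LP (LK LD1_c4 LD2_c10 LD3_c31))))))
theorem f354765 : Led Lsl_et (LP (LK LD1_c8 LD2_c25 LD3_c5)) = (LP (LK LD1_c4 LD2_c12 LD3_c51)) :=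
  Lre_e IH (LK LD1_c8 LD2_c25 LD3_c5) (LK LD1_c4 LD2_c12 LD3_c51) Lrfl Lrfl
theorem f408803 : Led Lsl_ff (LP (LK LD1_c8 LD2_c25 LD3_c5)) = (LP (LK LD1_c8 LD2_c21 LD3_c9)) :=
  Lgr Lrot72 (Lpr_et (f354765 IH) (Lpr_ft (f408793 IH) (Lpe (f361191 IH) (Lpr_ft (f408799 IH) (Lpr_et (K54.f378381 IH) (Lpn (LP (LK LD1_c8 LD2_c21 LD3_c9))))))))
theorem f378386 : Led Lsl_gf (LP (LK LD1_c8 LD2_c23 LD3_c54)) = (LP (LK LD1_c8 LD2_c21 LD3_c9)) :=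
  Lgr Lrot144 (Lpe (K54.f357532 IH) (Lpe (K54.f322563 IH) (Lpr_dt (K54.f2668 IH) (Lpe (K20.f1535 IH) (Lpe (K0.f1524 IH) (Lpe (K21.f2784 IH) (Lpe (K21.f1540 IH) (Lpe (K25.f171390 IH) (Lpr_cf (K54.f378382 IH) (Lpn (LP (LK LD1_c8 LD2_c21 LD3_c9))))))))))))
theorem f408805 : Led Lsl_at (LP (LK LD1_c8 LD2_c25 LD3_c5)) = (LP (LK LD1_c8 LD2_c21 LD3_c9)) :=
  Lgr Lrot26 (Lpr_ff (f408803 IH) (Lpe (f378386 IH) (Lpr_gt (K54.f378388 IH) (Lpn (LP (LK LD1_c8 LD2_c21 LD3_c9))))))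
theorem f171358 : Led Lsl_ct (LP (LK LD1_c4 LD2_c12 LD3_c52)) = (LP (LK LD1_c8 LD2_c25 LD3_c5)) :=
  Lre_c IH (LK LD1_c4 LD2_c12 LD3_c52) (LK LD1_c8 LD2_c25 LD3_c5) Lrfl Lrfl
theorem f408809 : Led Lsl_af (LP (LK LD1_c4 LD2_c12 LD3_c52)) = (LP (LK LD1_c4 LD2_c19 LD3_c3)) :=
  Lgr Lrot68 (Lpr_ct (f171358 IH) (Lpr_at (f408805 IH) (Lpe (K54.f378382 IH) (Lpn (LP (LK LD1_c4 LD2_c19 LD3_c3))))))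
theorem f408658 : Led Lsl_af (LP (LK LD1_c14 LD2_c58 LD3_c20)) = (LP (LK LD1_c8 LD2_c25 LD3_c4)) :=
  Lgr Lrot45 (Lpe (f408584 IH) (Lpr_at (f171375 IH) (Lpr_ft (f408656 IH) (Lpn (LP (LK LD1_c8 LD2_c25 LD3_c4))))))
theorem f408811 : Led Lsl_bt (LP (LK LD1_c14 LD2_c58 LD3_c20)) = (LP (LK LD1_c16 LD2_c8 LD3_c6)) :=
  Lgr Lrot62 (Lpr_af (f408658 IH) (Lpe (K25.f171355 IH) (Lpr_af (f408809 IH) (Lpe (K25.f171354 IH) (Lpe (f171375 IH) (Lpn (LP (LK LD1_c16 LD2_c8 LD3_c6))))))))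
theorem f408690 : Led Lsl_at (LP (LK LD1_c8 LD2_c40 LD3_c44)) = (LP (LK LD1_c8 LD2_c25 LD3_c3)) :=
  Lgr Lrot107 (Lpr_cf (f408573 IH) (Lpr_af (f408686 IH) (Lpe (K25.f166805 IH) (Lpn (LP (LK LD1_c8 LD2_c25 LD3_c3))))))
theorem f193211 : Led Lsl_ct (LP (LK LD1_c4 LD2_c22 LD3_c24)) = (LP (LK LD1_c8 LD2_c42 LD3_c45)) :=
  Lre_c IH (LK LD1_c4 LD2_c22 LD3_c24) (LK LD1_c8 LD2_c42 LD3_c45) Lrfl Lrfl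
theorem f243117 : Led Lsl_bf (LP (LK LD1_c4 LD2_c15 LD3_c49)) = (LP (LK LD1_c4 LD2_c21 LD3_c37)) :=
  Lgr Lrot24 (Lpr_bt (K13.f243115 IH) (Lpn (LP (LK LD1_c4 LD2_c21 LD3_c37))))
theorem f332949 : Led Lsl_gt (LP (LK LD1_c8 LD2_c42 LD3_c45)) = (LP (LK LD1_c8 LD2_c40 LD3_c46)) :=
  Lgr Lrot65 (Lpe (f193211 IH) (Lpr_bt (K23.f332939 IH) (Lpe (K22.f2450 IH) (Lpe (K10.f191684 IH) (Lpr_ct (K26.f191690 IH) (Lpr_gf (K25.f323319 IH) (Lpe (K25.f48962 IH) (Lpr_gf (K21.f287644 IH) (Lpr_bf (f243117 IH) (Lpr_ct (K13.f243100 IH) (Lpn (LP (LK LD1_c8 LD2_c40 LD3_c46)))))))))))))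
theorem f408696 : Led Lsl_ff (LP (LK LD1_c8 LD2_c40 LD3_c44)) = (LP (LK LD1_c8 LD2_c42 LD3_c45)) :=
  Lgr Lrot52 (Lpr_at (f408690 IH) (Lpr_gf (K25.f355842 IH) (Lpe (f332949 IH) (Lpn (LP (LK LD1_c8 LD2_c42 LD3_c45))))))
theorem f408703 : Led Lsl_ct (LP (LK LD1_c8 LD2_c40 LD3_c44)) = (LP (LK LD1_c7 LD2_c56 LD3_c10)) :=
  Lgr Lrot40 (Lpr_ff (f408696 IH) (Lpe (f193211 IH) (Lpr_ff (f408590 IH) (Lpn (LP (LK LD1_c7 LD2_c56 LD3_c10))))))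
theorem f262577 : Led Lsl_et (LP (LK LD1_c16 LD2_c15 LD3_c19)) = (LP (LK LD1_c8 LD2_c40 LD3_c44)) :=
  Lre_e IH (LK LD1_c16 LD2_c15 LD3_c19) (LK LD1_c8 LD2_c40 LD3_c44) Lrfl Lrfl
theorem f408714 : Led Lsl_cf (LP (LK LD1_c16 LD2_c15 LD3_c19)) = (LP (LK LD1_c14 LD2_c58 LD3_c20)) :=
  Lgr Lrot39 (Lpr_et (f262577 IH) (Lpr_ct (f408703 IH) (Lpr_et (f408579 IH) (Lpn (LP (LK LD1_c14 LD2_c58 LD3_c20))))))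
theorem f354833 : Led Lsl_et (LP (LK LD1_c8 LD2_c25 LD3_c3)) = (LP (LK LD1_c15 LD2_c49 LD3_c10)) :=
  Lre_e IH (LK LD1_c8 LD2_c25 LD3_c3) (LK LD1_c15 LD2_c49 LD3_c10) Lrfl Lrfl
theorem f408694 : Led Lsl_af (LP (LK LD1_c16 LD2_c15 LD3_c19)) = (LP (LK LD1_c15 LD2_c49 LD3_c10)) :=
  Lgr Lrot50 (Lpr_et (f262577 IH) (Lpr_at (f408690 IH) (Lpr_et (f354833 IH) (Lpn (LP (LK LD1_c15 LD2_c49 LD3_c10))))))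
theorem f171380 : Led Lsl_ct (LP (LK LD1_c15 LD2_c49 LD3_c10)) = (LP (LK LD1_c8 LD2_c25 LD3_c4)) :=
  Lre_c IH (LK LD1_c15 LD2_c49 LD3_c10) (LK LD1_c8 LD2_c25 LD3_c4) Lrfl Lrfl
theorem f408652 : Led Lsl_ft (LP (LK LD1_c16 LD2_c8 LD3_c8)) = (LP (LK LD1_c15 LD2_c49 LD3_c10)) :=
  Lgr Lrot4 (Lpe (K25.f171374 IH) (Lpr_ff (f408648 IH) (Lpe (f171380 IH) (Lpn (LP (LK LD1_c15 LD2_c49 LD3_c10))))))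
theorem f408722 : Led Lsl_gf (LP (LK LD1_c16 LD2_c15 LD3_c19)) = (LP (LK LD1_c16 LD2_c18 LD3_c57)) :=
  Lgr Lrot76 (Lpr_af (f408694 IH) (Lpe (f408652 IH) (Lpr_gt (K25.f354772 IH) (Lpn (LP (LK LD1_c16 LD2_c18 LD3_c57))))))
theorem f184456 : Led Lsl_bt (LP (LK LD1_c8 LD2_c33 LD3_c21)) = (LP (LK LD1_c16 LD2_c3 LD3_c36)) :=
  Lre_b IH (LK LD1_c8 LD2_c33 LD3_c21) (LK LD1_c16 LD2_c3 LD3_c36) Lrfl Lrfl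
theorem f325393 : Led Lsl_ct (LP (LK LD1_c17 LD2_c44 LD3_c57)) = (LP (LK LD1_c26 LD2_c0 LD3_c22)) :=
  Lgr Lrot59 (Lpr_cf (K21.f325391 IH) (Lpn (LP (LK LD1_c26 LD2_c0 LD3_c22))))
theorem f408815 : Led Lsl_gf (LP (LK LD1_c9 LD2_c38 LD3_c40)) = (LP (LK LD1_c16 LD2_c8 LD3_c6)) :=
  Lgr Lrot124 (Lpe (K25.f299331 IH) (Lpr_ct (f325393 IH) (Lpe (f379503 IH) (Lpe (K20.f184457 IH) (Lpr_bt (f184456 IH) (Lpe (K21.f325928 IH) (Lpr_ct (K23.f39153 IH) (Lpe (f408722 IH) (Lpr_cf (f408714 IH) (Lpr_bt (f408811 IH) (Lpn (LP (LK LD1_c16 LD2_c8 LD3_c6)))))))))))))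
theorem f350440 : Led Lsl_et (LP (LK LD1_c9 LD2_c34 LD3_c35)) = (LP (LK LD1_c17 LD2_c38 LD3_c10)) :=
  Lre_e IH (LK LD1_c9 LD2_c34 LD3_c35) (LK LD1_c17 LD2_c38 LD3_c10) Lrfl Lrfl
theorem f350441 : Led Lsl_ct (LP (LK LD1_c17 LD2_c38 LD3_c10)) = (LP (LK LD1_c15 LD2_c34 LD3_c53)) :=
  Lgr Lrot15 (Lpe (f350440 IH) (Lpr_cf (K26.f350435 IH) (Lpe (K21.f229003 IH) (Lpn (LP (LK LD1_c15 LD2_c34 LD3_c53))))))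
theorem f408644 : Led Lsl_df (LP (LK LD1_c16 LD2_c8 LD3_c6)) = (LP (LK LD1_c14 LD2_c58 LD3_c20)) :=
  Lgr Lrot38 (Lpr_dt (f408640 IH) (Lpn (LP (LK LD1_c14 LD2_c58 LD3_c20))))
theorem f408817 : Led Lsl_gf (LP (LK LD1_c17 LD2_c38 LD3_c10)) = (LP (LK LD1_c17 LD2_c41 LD3_c50)) :=
  Lgr Lrot104 (Lpr_ct (f350441 IH) (Lpr_df (K21.f243081 IH) (Lpe (K25.f243083 IH) (Lpr_gf (K25.f354811 IH) (Lpe (K21.f29798 IH) (Lpr_gf (f408815 IH) (Lpr_df (f408644 IH) (Lpe (f408582 IH) (Lpr_ct (K18.f30659 IH) (Lpn (LP (LK LD1_c17 LD2_c41 LD3_c50))))))))))))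
theorem f693114 : Led Lsl_af (LP (LK LD1_c17 LD2_c38 LD3_c10)) = (LP (LK LD1_c26 LD2_c0 LD3_c59)) :=
  Lgr Lrot31 (Lpr_gf (f408817 IH) (Lpe (K22.f279766 IH) (Lpr_ft (f693108 IH) (Lpn (LP (LK LD1_c26 LD2_c0 LD3_c59))))))
theorem f693098 : Led Lsl_af (LP (LK LD1_c24 LD2_c44 LD3_c44)) = (LP (LK LD1_c16 LD2_c15 LD3_c24)) :=
  Lgr Lrot0 (Lpr_at (f693096 IH) (Lpn (LP (LK LD1_c16 LD2_c15 LD3_c24))))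
theorem f693122 : Led Lsl_ft (LP (LK LD1_c17 LD2_c38 LD3_c10)) = (LP (LK LD1_c16 LD2_c15 LD3_c24)) :=
  Lgr Lrot101 (Lpr_af (f693114 IH) (Lpe (f693108 IH) (Lpr_af (f693098 IH) (Lpn (LP (LK LD1_c16 LD2_c15 LD3_c24))))))
theorem f693130 : Led Lsl_ff (LP (LK LD1_c17 LD2_c38 LD3_c10)) = (LP (LK LD1_c16 LD2_c15 LD3_c24)) :=
  Lgr Lrot3 (Lpr_ft (f693122 IH) (Lpn (LP (LK LD1_c16 LD2_c15 LD3_c24))))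
theorem f233157 : Led Lsl_et (LP (LK LD1_c17 LD2_c38 LD3_c10)) = (LP (LK LD1_c9 LD2_c34 LD3_c35)) :=
  Lre_e IH (LK LD1_c17 LD2_c38 LD3_c10) (LK LD1_c9 LD2_c34 LD3_c35) Lrfl Lrfl
theorem f308771 : Led Lsl_et (LP (LK LD1_c8 LD2_c40 LD3_c49)) = (LP (LK LD1_c16 LD2_c15 LD3_c24)) :=
  Lre_e IH (LK LD1_c8 LD2_c40 LD3_c49) (LK LD1_c16 LD2_c15 LD3_c24) Lrfl Lrfl
theorem f354992 : Led Lsl_et (LP (LK LD1_c17 LD2_c36 LD3_c32)) = (LP (LK LD1_c14 LD2_c57 LD3_c14)) :=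
  Lgr Lrot158 (Lpr_cf (K26.f354990 IH) (Lpr_ef (K21.f229740 IH) (Lpe (f229743 IH) (Lpn (LP (LK LD1_c14 LD2_c57 LD3_c14))))))
theorem f693134 : Led Lsl_ft (LP (LK LD1_c9 LD2_c34 LD3_c35)) = (LP (LK LD1_c17 LD2_c36 LD3_c32)) :=
  Lgr Lrot86 (Lpe (f233157 IH) (Lpr_ff (f693130 IH) (Lpe (f308771 IH) (Lpe (f693066 IH) (Lpe (f354992 IH) (Lpn (LP (LK LD1_c17 LD2_c36 LD3_c32))))))))
theorem f693136 : Led Lsl_af (LP (LK LD1_c9 LD2_c34 LD3_c34)) = (LP (LK LD1_c17 LD2_c36 LD3_c32)) :=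
  Lgr Lrot31 (Lpe (K27.f232913 IH) (Lpe (K26.f233156 IH) (Lpr_ft (f693134 IH) (Lpn (LP (LK LD1_c17 LD2_c36 LD3_c32))))))
theorem f693138 : Led Lsl_at (LP (LK LD1_c9 LD2_c34 LD3_c34)) = (LP (LK LD1_c17 LD2_c36 LD3_c32)) :=
  Lgr Lrot100 (Lpr_af (f693136 IH) (Lpn (LP (LK LD1_c17 LD2_c36 LD3_c32))))
theorem f354988 : Led Lsl_ct (LP (LK LD1_c17 LD2_c36 LD3_c32)) = (LP (LK LD1_c9 LD2_c34 LD3_c13)) :=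
  Lgr Lrot8 (Lpr_gt (K26.f354973 IH) (Lpr_dt (K26.f328068 IH) (Lpe (K26.f354923 IH) (Lpr_dt (K26.f312136 IH) (Lpe (K23.f216786 IH) (Lpe (K20.f216784 IH) (Lpr_gf (K20.f320813 IH) (Lpe (K12.f228985 IH) (Lpr_gf (K26.f354985 IH) (Lpn (LP (LK LD1_c9 LD2_c34 LD3_c13))))))))))))
theorem f693142 : Led Lsl_af (LP (LK LD1_c8 LD2_c17 LD3_c5)) = (LP (LK LD1_c9 LD2_c34 LD3_c13)) :=
  Lgr Lrot68 (Lpr_ct (K27.f354837 IH) (Lpr_at (f693138 IH) (Lpr_ct (f354988 IH) (Lpn (LP (LK LD1_c9 LD2_c34 LD3_c13))))))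
theorem f693144 : Led Lsl_ft (LP (LK LD1_c8 LD2_c17 LD3_c6)) = (LP (LK LD1_c9 LD2_c34 LD3_c13)) :=
  Lgr Lrot2 (Lpr_gt (K21.f228995 IH) (Lpr_gt (K21.f228941 IH) (Lpr_af (f693142 IH) (Lpn (LP (LK LD1_c9 LD2_c34 LD3_c13))))))
theorem f693148 : Led Lsl_ff (LP (LK LD1_c8 LD2_c3 LD3_c11)) = (LP (LK LD1_c8 LD2_c4 LD3_c40)) :=
  Lgr Lrot19 (Lpe (K21.f228996 IH) (Lpr_ft (f693144 IH) (Lpe (K18.f229735 IH) (Lpn (LP (LK LD1_c8 LD2_c4 LD3_c40))))))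
theorem f269419 : Led Lsl_dt (LP (LK LD1_c27 LD2_c25 LD3_c0)) = (LP (LK LD1_c17 LD2_c36 LD3_c48)) :=
  Lre_d IH (LK LD1_c27 LD2_c25 LD3_c0) (LK LD1_c17 LD2_c36 LD3_c48) Lrfl Lrfl
theorem f247242 : Led Lsl_dt (LP (LK LD1_c15 LD2_c23 LD3_c19)) = (LP (LK LD1_c25 LD2_c15 LD3_c34)) :=
  Lre_d IH (LK LD1_c15 LD2_c23 LD3_c19) (LK LD1_c25 LD2_c15 LD3_c34) Lrfl Lrfl
theorem f354943 : Led Lsl_gf (LP (LK LD1_c27 LD2_c25 LD3_c0)) = (LP (LK LD1_c25 LD2_c15 LD3_c34)) :=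
  Lgr Lrot143 (Lpr_dt (f269419 IH) (Lpr_cf (K27.f354941 IH) (Lpe (K20.f275879 IH) (Lpr_gf (K21.f275888 IH) (Lpe (K19.f228075 IH) (Lpe (K13.f228070 IH) (Lpe (K23.f238553 IH) (Lpe (K21.f325946 IH) (Lpr_dt (f247242 IH) (Lpn (LP (LK LD1_c25 LD2_c15 LD3_c34))))))))))))
theorem f354945 : Led Lsl_gt (LP (LK LD1_c14 LD2_c57 LD3_c33)) = (LP (LK LD1_c7 LD2_c55 LD3_c55)) :=
  Lgr Lrot131 (Lpe (K27.f354939 IH) (Lpr_dt (K25.f192428 IH) (Lpr_gf (f354943 IH) (Lpe (f247242 IH) (Lpr_gf (K21.f325946 IH) (Lpe (K21.f238891 IH) (Lpr_dt (K13.f238612 IH) (Lpr_gf (K13.f238877 IH) (Lpe (K14.f196371 IH) (Lpr_et (K22.f236639 IH) (Lpn (LP (LK LD1_c7 LD2_c55 LD3_c55)))))))))))))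
theorem f229731 : Led Lsl_ct (LP (LK LD1_c7 LD2_c55 LD3_c49)) = (LP (LK LD1_c14 LD2_c57 LD3_c33)) :=
  Lre_c IH (LK LD1_c7 LD2_c55 LD3_c49) (LK LD1_c14 LD2_c57 LD3_c33) Lrfl Lrfl
theorem f33219 : Led Lsl_ct (LP (LK LD1_c5 LD2_c8 LD3_c39)) = (LP (LK LD1_c2 LD2_c31 LD3_c32)) :=
  Lre_c IH (LK LD1_c5 LD2_c8 LD3_c39) (LK LD1_c2 LD2_c31 LD3_c32) Lrfl Lrfl
theorem f33224 : Led Lsl_gt (LP (LK LD1_c10 LD2_c7 LD3_c48)) = (LP (LK LD1_c5 LD2_c8 LD3_c39)) :=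
  Lre_g IH (LK LD1_c10 LD2_c7 LD3_c48) (LK LD1_c5 LD2_c8 LD3_c39) Lrfl Lrfl
theorem f354949 : Led Lsl_ct (LP (LK LD1_c8 LD2_c4 LD3_c40)) = (LP (LK LD1_c10 LD2_c7 LD3_c48)) :=
  Lgr Lrot152 (Lpe (K18.f275922 IH) (Lpr_df (K18.f216759 IH) (Lpr_gt (K20.f269820 IH) (Lpr_ct (f229731 IH) (Lpr_gt (f354945 IH) (Lpe (K17.f236628 IH) (Lpr_df (K16.f33212 IH) (Lpe (f33219 IH) (Lpe (f33224 IH) (Lpn (LP (LK LD1_c10 LD2_c7 LD3_c48))))))))))))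
theorem f354953 : Led Lsl_cf (LP (LK LD1_c8 LD2_c4 LD3_c40)) = (LP (LK LD1_c10 LD2_c7 LD3_c48)) :=
  Lgr Lrot11 (Lpr_ct (f354949 IH) (Lpn (LP (LK LD1_c10 LD2_c7 LD3_c48))))
theorem f693150 : Led Lsl_ft (LP (LK LD1_c15 LD2_c9 LD3_c49)) = (LP (LK LD1_c10 LD2_c7 LD3_c48)) :=
  Lgr Lrot4 (Lpe (K24.f193025 IH) (Lpr_ff (f693148 IH) (Lpr_cf (f354953 IH) (Lpn (LP (LK LD1_c10 LD2_c7 LD3_c48))))))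
theorem f693154 : Led Lsl_ff (LP (LK LD1_c15 LD2_c9 LD3_c49)) = (LP (LK LD1_c10 LD2_c7 LD3_c48)) :=
  Lgr Lrot3 (Lpr_ft (f693150 IH) (Lpn (LP (LK LD1_c10 LD2_c7 LD3_c48))))
theorem f229004 : Led Lsl_bt (LP (LK LD1_c15 LD2_c9 LD3_c49)) = (LP (LK LD1_c24 LD2_c58 LD3_c52)) :=
  Lre_b IH (LK LD1_c15 LD2_c9 LD3_c49) (LK LD1_c24 LD2_c58 LD3_c52) Lrfl Lrfl
theorem f354965 : Led Lsl_bt (LP (LK LD1_c18 LD2_c27 LD3_c10)) = (LP (LK LD1_c10 LD2_c7 LD3_c48)) :=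
  Lre_b IH (LK LD1_c18 LD2_c27 LD3_c10) (LK LD1_c10 LD2_c7 LD3_c48) Lrfl Lrfl
theorem f693164 : Led Lsl_ft (LP (LK LD1_c24 LD2_c58 LD3_c52)) = (LP (LK LD1_c18 LD2_c27 LD3_c10)) :=
  Lgr Lrot75 (Lpe (f229004 IH) (Lpr_ff (f693154 IH) (Lpe (f354965 IH) (Lpn (LP (LK LD1_c18 LD2_c27 LD3_c10))))))
theorem f307329 : Led Lsl_bt (LP (LK LD1_c24 LD2_c58 LD3_c52)) = (LP (LK LD1_c15 LD2_c9 LD3_c49)) :=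
  Lre_b IH (LK LD1_c24 LD2_c58 LD3_c52) (LK LD1_c15 LD2_c9 LD3_c49) Lrfl Lrfl
theorem f305991 : Led Lsl_bt (LP (LK LD1_c10 LD2_c10 LD3_c9)) = (LP (LK LD1_c18 LD2_c31 LD3_c35)) :=
  Lre_b IH (LK LD1_c10 LD2_c10 LD3_c9) (LK LD1_c18 LD2_c31 LD3_c35) Lrfl Lrfl
theorem f307330 : Led Lsl_cf (LP (LK LD1_c24 LD2_c58 LD3_c52)) = (LP (LK LD1_c18 LD2_c31 LD3_c35)) :=
  Lgr Lrot97 (Lpr_bt (f307329 IH) (Lpr_ct (K53.f228998 IH) (Lpr_bt (K24.f229002 IH) (Lpr_ct (K21.f307325 IH) (Lpr_bt (f305991 IH) (Lpn (LP (LK LD1_c18 LD2_c31 LD3_c35))))))))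
theorem f354952 : Led Lsl_ct (LP (LK LD1_c18 LD2_c27 LD3_c10)) = (LP (LK LD1_c28 LD2_c2 LD3_c19)) :=
  Lre_c IH (LK LD1_c18 LD2_c27 LD3_c10) (LK LD1_c28 LD2_c2 LD3_c19) Lrfl Lrfl
theorem f693167 : Led Lsl_ff (LP (LK LD1_c18 LD2_c31 LD3_c35)) = (LP (LK LD1_c28 LD2_c2 LD3_c19)) :=
  Lgr Lrot23 (Lpe (f307330 IH) (Lpr_ft (f693164 IH) (Lpr_ct (f354952 IH) (Lpn (LP (LK LD1_c28 LD2_c2 LD3_c19))))))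
theorem f693173 : Led Lsl_ft (LP (LK LD1_c18 LD2_c31 LD3_c35)) = (LP (LK LD1_c28 LD2_c2 LD3_c19)) :=
  Lgr Lrot48 (Lpr_ff (f693167 IH) (Lpn (LP (LK LD1_c28 LD2_c2 LD3_c19))))
theorem f306015 : Led Lsl_dt (LP (LK LD1_c28 LD2_c6 LD3_c4)) = (LP (LK LD1_c18 LD2_c31 LD3_c35)) :=
  Lre_d IH (LK LD1_c28 LD2_c6 LD3_c4) (LK LD1_c18 LD2_c31 LD3_c35) Lrfl Lrfl
theorem f283926 : Led Lsl_et (LP (LK LD1_c5 LD2_c9 LD3_c29)) = (LP (LK LD1_c10 LD2_c9 LD3_c42)) :=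
  Lre_e IH (LK LD1_c5 LD2_c9 LD3_c29) (LK LD1_c10 LD2_c9 LD3_c42) Lrfl Lrfl
theorem f283927 : Led Lsl_gt (LP (LK LD1_c18 LD2_c30 LD3_c42)) = (LP (LK LD1_c10 LD2_c9 LD3_c42)) :=
  Lre_g IH (LK LD1_c18 LD2_c30 LD3_c42) (LK LD1_c10 LD2_c9 LD3_c42) Lrfl Lrfl
theorem f362746 : Led Lsl_et (LP (LK LD1_c27 LD2_c56 LD3_c33)) = (LP (LK LD1_c18 LD2_c30 LD3_c42)) :=
  Lgr Lrot185 (Lpr_dt (K54.f362742 IH) (Lpe (K54.f335151 IH) (Lpe (K46.f312509 IH) (Lpe (K22.f335145 IH) (Lpe (K22.f190665 IH) (Lpe (K14.f190653 IH) (Lpe (K17.f283894 IH) (Lpe (K17.f283893 IH) (Lpr_et (f283926 IH) (Lpe (f283927 IH) (Lpn (LP (LK LD1_c18 LD2_c30 LD3_c42)))))))))))))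
theorem f362750 : Led Lsl_ef (LP (LK LD1_c27 LD2_c56 LD3_c33)) = (LP (LK LD1_c18 LD2_c30 LD3_c42)) :=
  Lgr Lrot88 (Lpr_et (f362746 IH) (Lpn (LP (LK LD1_c18 LD2_c30 LD3_c42))))
theorem f171496 : Led Lsl_dt (LP (LK LD1_c5 LD2_c10 LD3_c55)) = (LP (LK LD1_c10 LD2_c12 LD3_c29)) :=
  Lre_d IH (LK LD1_c5 LD2_c10 LD3_c55) (LK LD1_c10 LD2_c12 LD3_c29) Lrfl Lrfl
theorem f233643 : Led Lsl_gt (LP (LK LD1_c10 LD2_c12 LD3_c29)) = (LP (LK LD1_c18 LD2_c35 LD3_c27)) :=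
  Lre_g IH (LK LD1_c10 LD2_c12 LD3_c29) (LK LD1_c18 LD2_c35 LD3_c27) Lrfl Lrfl
theorem f362756 : Led Lsl_df (LP (LK LD1_c18 LD2_c35 LD3_c27)) = (LP (LK LD1_c18 LD2_c30 LD3_c42)) :=
  Lgr Lrot168 (Lpe (f233643 IH) (Lpe (f171496 IH) (Lpr_et (K14.f212447 IH) (Lpe (K12.f171477 IH) (Lpe (K19.f212368 IH) (Lpr_dt (K19.f212354 IH) (Lpe (K22.f233636 IH) (Lpe (K22.f330768 IH) (Lpe (K67.f362702 IH) (Lpr_ef (f362750 IH) (Lpn (LP (LK LD1_c18 LD2_c30 LD3_c42)))))))))))))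
theorem f362761 : Led Lsl_dt (LP (LK LD1_c18 LD2_c35 LD3_c27)) = (LP (LK LD1_c18 LD2_c30 LD3_c42)) :=
  Lgr Lrot42 (Lpr_df (f362756 IH) (Lpn (LP (LK LD1_c18 LD2_c30 LD3_c42))))
theorem f362764 : Led Lsl_bt (LP (LK LD1_c28 LD2_c9 LD3_c28)) = (LP (LK LD1_c18 LD2_c35 LD3_c27)) :=
  Lre_b IH (LK LD1_c28 LD2_c9 LD3_c28) (LK LD1_c18 LD2_c35 LD3_c27) Lrfl Lrfl
theorem f362699 : Led Lsl_bt (LP (LK LD1_c32 LD2_c30 LD3_c36)) = (LP (LK LD1_c27 LD2_c56 LD3_c33)) :=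
  Lre_b IH (LK LD1_c32 LD2_c30 LD3_c36) (LK LD1_c27 LD2_c56 LD3_c33) Lrfl Lrfl
theorem f306995 : Led Lsl_bt (LP (LK LD1_c10 LD2_c14 LD3_c38)) = (LP (LK LD1_c5 LD2_c11 LD3_c56)) :=
  Lre_b IH (LK LD1_c10 LD2_c14 LD3_c38) (LK LD1_c5 LD2_c11 LD3_c56) Lrfl Lrfl
theorem f327657 : Led Lsl_bt (LP (LK LD1_c10 LD2_c7 LD3_c53)) = (LP (LK LD1_c5 LD2_c10 LD3_c2)) :=
  Lgr Lrot127 (Lpr_bf (K49.f327655 IH) (Lpn (LP (LK LD1_c5 LD2_c10 LD3_c2))))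
theorem f327659 : Led Lsl_ct (LP (LK LD1_c10 LD2_c7 LD3_c53)) = (LP (LK LD1_c18 LD2_c27 LD3_c16)) :=
  Lre_c IH (LK LD1_c10 LD2_c7 LD3_c53) (LK LD1_c18 LD2_c27 LD3_c16) Lrfl Lrfl
theorem f362610 : Led Lsl_bt (LP (LK LD1_c18 LD2_c45 LD3_c26)) = (LP (LK LD1_c18 LD2_c58 LD3_c23)) :=
  Lgr Lrot119 (Lpe (K21.f232375 IH) (Lpr_bf (K26.f362604 IH) (Lpe (K54.f193084 IH) (Lpn (LP (LK LD1_c18 LD2_c58 LD3_c23))))))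
theorem f362612 : Led Lsl_bf (LP (LK LD1_c18 LD2_c45 LD3_c26)) = (LP (LK LD1_c18 LD2_c58 LD3_c23)) :=
  Lgr Lrot24 (Lpr_bt (f362610 IH) (Lpn (LP (LK LD1_c18 LD2_c58 LD3_c23))))
theorem f46042 : Led Lsl_dt (LP (LK LD1_c15 LD2_c14 LD3_c28)) = (LP (LK LD1_c8 LD2_c5 LD3_c40)) :=
  Lre_d IH (LK LD1_c15 LD2_c14 LD3_c28) (LK LD1_c8 LD2_c5 LD3_c40) Lrfl Lrfl
theorem f232385 : Led Lsl_gf (LP (LK LD1_c15 LD2_c14 LD3_c28)) = (LP (LK LD1_c18 LD2_c45 LD3_c26)) :=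
  Lgr Lrot138 (Lpr_dt (f46042 IH) (Lpr_gt (K23.f46041 IH) (Lpr_df (K1.f46032 IH) (Lpr_et (K1.f46029 IH) (Lpe (K13.f229101 IH) (Lpe (K19.f229079 IH) (Lpr_dt (K13.f229681 IH) (Lpr_gt (K18.f229689 IH) (Lpr_df (K26.f232373 IH) (Lpr_et (K21.f232375 IH) (Lpn (LP (LK LD1_c18 LD2_c45 LD3_c26)))))))))))))
theorem f232387 : Led Lsl_ct (LP (LK LD1_c15 LD2_c14 LD3_c28)) = (LP (LK LD1_c25 LD2_c3 LD3_c36)) :=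
  Lre_c IH (LK LD1_c15 LD2_c14 LD3_c28) (LK LD1_c25 LD2_c3 LD3_c36) Lrfl Lrfl
theorem f362712 : Led Lsl_gf (LP (LK LD1_c18 LD2_c27 LD3_c16)) = (LP (LK LD1_c25 LD2_c3 LD3_c36)) :=
  Lgr Lrot129 (Lpe (f327659 IH) (Lpr_bt (f327657 IH) (Lpe (K19.f307000 IH) (Lpe (f306995 IH) (Lpr_ct (K54.f306997 IH) (Lpr_gt (K67.f362706 IH) (Lpr_cf (K54.f362656 IH) (Lpe (f362612 IH) (Lpe (f232385 IH) (Lpr_ct (f232387 IH) (Lpn (LP (LK LD1_c25 LD2_c3 LD3_c36)))))))))))))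
theorem f327676 : Led Lsl_ct (LP (LK LD1_c18 LD2_c27 LD3_c16)) = (LP (LK LD1_c10 LD2_c7 LD3_c53)) :=
  Lre_c IH (LK LD1_c18 LD2_c27 LD3_c16) (LK LD1_c10 LD2_c7 LD3_c53) Lrfl Lrfl
theorem f327726 : Led Lsl_ct (LP (LK LD1_c18 LD2_c5 LD3_c14)) = (LP (LK LD1_c9 LD2_c52 LD3_c56)) :=
  Lre_c IH (LK LD1_c18 LD2_c5 LD3_c14) (LK LD1_c9 LD2_c52 LD3_c56) Lrfl Lrfl
theorem f362714 : Led Lsl_gf (LP (LK LD1_c18 LD2_c5 LD3_c14)) = (LP (LK LD1_c25 LD2_c4 LD3_c2)) :=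
  Lgr Lrot104 (Lpr_ct (f327726 IH) (Lpr_df (K23.f327727 IH) (Lpe (f327676 IH) (Lpr_gf (f362712 IH) (Lpe (f232387 IH) (Lpr_gf (f232385 IH) (Lpe (K21.f232378 IH) (Lpe (K21.f293079 IH) (Lpr_ct (K23.f45835 IH) (Lpn (LP (LK LD1_c25 LD2_c4 LD3_c2))))))))))))
theorem f362700 : Led Lsl_cf (LP (LK LD1_c27 LD2_c56 LD3_c33)) = (LP (LK LD1_c19 LD2_c6 LD3_c24)) :=
  Lgr Lrot11 (Lpr_ct (K54.f362696 IH) (Lpn (LP (LK LD1_c19 LD2_c6 LD3_c24))))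
theorem f362718 : Led Lsl_bt (LP (LK LD1_c19 LD2_c6 LD3_c24)) = (LP (LK LD1_c15 LD2_c12 LD3_c38)) :=
  Lgr Lrot130 (Lpe (f362700 IH) (Lpe (K54.f171754 IH) (Lpe (K49.f171753 IH) (Lpr_bt (K23.f171752 IH) (Lpr_gf (K23.f171745 IH) (Lpe (K49.f327733 IH) (Lpr_ct (K49.f327731 IH) (Lpr_gf (f362714 IH) (Lpe (K23.f45835 IH) (Lpr_gf (K21.f293079 IH) (Lpn (LP (LK LD1_c15 LD2_c12 LD3_c38)))))))))))))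
theorem f354955 : Led Lsl_et (LP (LK LD1_c10 LD2_c7 LD3_c48)) = (LP (LK LD1_c18 LD2_c27 LD3_c11)) :=
  Lre_e IH (LK LD1_c10 LD2_c7 LD3_c48) (LK LD1_c18 LD2_c27 LD3_c11) Lrfl Lrfl
theorem f354956 : Led Lsl_cf (LP (LK LD1_c15 LD2_c12 LD3_c38)) = (LP (LK LD1_c18 LD2_c27 LD3_c11)) :=
  Lgr Lrot39 (Lpr_et (K21.f193641 IH) (Lpr_ct (f354949 IH) (Lpr_et (f354955 IH) (Lpn (LP (LK LD1_c18 LD2_c27 LD3_c11))))))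
theorem f354960 : Led Lsl_ct (LP (LK LD1_c15 LD2_c12 LD3_c38)) = (LP (LK LD1_c18 LD2_c27 LD3_c11)) :=
  Lgr Lrot59 (Lpr_cf (f354956 IH) (Lpn (LP (LK LD1_c18 LD2_c27 LD3_c11))))
theorem f354962 : Led Lsl_bt (LP (LK LD1_c18 LD2_c27 LD3_c11)) = (LP (LK LD1_c28 LD2_c2 LD3_c20)) :=
  Lre_b IH (LK LD1_c18 LD2_c27 LD3_c11) (LK LD1_c28 LD2_c2 LD3_c20) Lrfl Lrfl
theorem f362721 : Led Lsl_cf (LP (LK LD1_c32 LD2_c30 LD3_c36)) = (LP (LK LD1_c28 LD2_c2 LD3_c20)) :=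
  Lgr Lrot97 (Lpr_bt (f362699 IH) (Lpr_ct (K54.f362696 IH) (Lpr_bt (f362718 IH) (Lpr_ct (f354960 IH) (Lpr_bt (f354962 IH) (Lpn (LP (LK LD1_c28 LD2_c2 LD3_c20))))))))
theorem f362725 : Led Lsl_et (LP (LK LD1_c18 LD2_c27 LD3_c10)) = (LP (LK LD1_c28 LD2_c2 LD3_c20)) :=
  Lre_e IH (LK LD1_c18 LD2_c27 LD3_c10) (LK LD1_c28 LD2_c2 LD3_c20) Lrfl Lrfl
theorem f354966 : Led Lsl_ct (LP (LK LD1_c28 LD2_c2 LD3_c19)) = (LP (LK LD1_c18 LD2_c27 LD3_c10)) :=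
  Lre_c IH (LK LD1_c28 LD2_c2 LD3_c19) (LK LD1_c18 LD2_c27 LD3_c10) Lrfl Lrfl
theorem f362726 : Led Lsl_et (LP (LK LD1_c32 LD2_c30 LD3_c36)) = (LP (LK LD1_c28 LD2_c2 LD3_c19)) :=
  Lgr Lrot158 (Lpr_cf (f362721 IH) (Lpe (f362725 IH) (Lpe (f354966 IH) (Lpn (LP (LK LD1_c28 LD2_c2 LD3_c19))))))
theorem f362728 : Led Lsl_ef (LP (LK LD1_c32 LD2_c30 LD3_c36)) = (LP (LK LD1_c28 LD2_c2 LD3_c19)) :=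
  Lgr Lrot88 (Lpr_et (f362726 IH) (Lpn (LP (LK LD1_c28 LD2_c2 LD3_c19))))
theorem f362748 : Led Lsl_bf (LP (LK LD1_c28 LD2_c2 LD3_c19)) = (LP (LK LD1_c18 LD2_c30 LD3_c42)) :=
  Lgr Lrot96 (Lpe (f362728 IH) (Lpr_bt (f362699 IH) (Lpr_et (f362746 IH) (Lpn (LP (LK LD1_c18 LD2_c30 LD3_c42))))))
theorem f362765 : Led Lsl_df (LP (LK LD1_c28 LD2_c9 LD3_c28)) = (LP (LK LD1_c28 LD2_c2 LD3_c19)) :=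
  Lgr Lrot12 (Lpr_bt (f362764 IH) (Lpr_dt (f362761 IH) (Lpe (f362748 IH) (Lpn (LP (LK LD1_c28 LD2_c2 LD3_c19))))))
theorem f693177 : Led Lsl_ff (LP (LK LD1_c28 LD2_c6 LD3_c4)) = (LP (LK LD1_c28 LD2_c9 LD3_c28)) :=
  Lgr Lrot19 (Lpr_dt (f306015 IH) (Lpr_ft (f693173 IH) (Lpe (f362765 IH) (Lpn (LP (LK LD1_c28 LD2_c9 LD3_c28))))))
theorem f259797 : Led Lsl_bt (LP (LK LD1_c28 LD2_c6 LD3_c4)) = (LP (LK LD1_c18 LD2_c31 LD3_c36)) :=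
  Lre_b IH (LK LD1_c28 LD2_c6 LD3_c4) (LK LD1_c18 LD2_c31 LD3_c36) Lrfl Lrfl
theorem f362758 : Led Lsl_bt (LP (LK LD1_c18 LD2_c35 LD3_c27)) = (LP (LK LD1_c28 LD2_c9 LD3_c28)) :=
  Lre_b IH (LK LD1_c18 LD2_c35 LD3_c27) (LK LD1_c28 LD2_c9 LD3_c28) Lrfl Lrfl
theorem f693179 : Led Lsl_ft (LP (LK LD1_c18 LD2_c31 LD3_c36)) = (LP (LK LD1_c18 LD2_c35 LD3_c27)) :=
  Lgr Lrot75 (Lpe (f259797 IH) (Lpr_ff (f693177 IH) (Lpe (f362758 IH) (Lpn (LP (LK LD1_c18 LD2_c35 LD3_c27))))))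
theorem f693183 : Led Lsl_af (LP (LK LD1_c18 LD2_c31 LD3_c38)) = (LP (LK LD1_c18 LD2_c35 LD3_c27)) :=
  Lgr Lrot31 (Lpe (K26.f363154 IH) (Lpr_gf (K19.f259784 IH) (Lpr_ft (f693179 IH) (Lpn (LP (LK LD1_c18 LD2_c35 LD3_c27))))))
theorem f362950 : Led Lsl_ct (LP (LK LD1_c28 LD2_c6 LD3_c6)) = (LP (LK LD1_c18 LD2_c31 LD3_c38)) :=
  Lre_c IH (LK LD1_c28 LD2_c6 LD3_c6) (LK LD1_c18 LD2_c31 LD3_c38) Lrfl Lrfl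
theorem f890467 : Led Lsl_dt (LP (LK LD1_c27 LD2_c29 LD3_c44)) = (LP (LK LD1_c28 LD2_c6 LD3_c6)) :=
  Lgr Lrot120 (Lpe (f374872 IH) (Lpr_df (f890465 IH) (Lpe (f890458 IH) (Lpe (K24.f332990 IH) (Lpr_cf (f307332 IH) (Lpe (f259795 IH) (Lpr_ft (f693179 IH) (Lpe (f693183 IH) (Lpe (f362950 IH) (Lpn (LP (LK LD1_c28 LD2_c6 LD3_c6))))))))))))
theorem f890468 : Led Lsl_dt (LP (LK LD1_c27 LD2_c29 LD3_c44)) = (LP (LK LD1_c28 LD2_c6 LD3_c6)) :=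
  Leop (Lpe (f890467 IH) (Lpn (LP (LK LD1_c27 LD2_c29 LD3_c44))))
theorem seed_2125 : LEOK LG_d (LK LD1_c27 LD2_c29 LD3_c44) :=
  Leoe_d (LK LD1_c27 LD2_c29 LD3_c44) (f890468 IH)
def v36855 : LQ := Led Lsl_gf (LP (LK LD1_c8 LD2_c36 LD3_c19))
theorem f890586 : Led Lsl_gf (LP (LK LD1_c8 LD2_c36 LD3_c19)) = v36855 :=
  Lrfl
theorem f237801 : Led Lsl_dt (LP (LK LD1_c8 LD2_c36 LD3_c19)) = (LP (LK LD1_c4 LD2_c18 LD3_c49)) :=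
  Lre_d IH (LK LD1_c8 LD2_c36 LD3_c19) (LK LD1_c4 LD2_c18 LD3_c49) Lrfl Lrfl
theorem f236224 : Led Lsl_dt (LP (LK LD1_c2 LD2_c12 LD3_c10)) = (LP (LK LD1_c4 LD2_c30 LD3_c23)) :=
  Lre_d IH (LK LD1_c2 LD2_c12 LD3_c10) (LK LD1_c4 LD2_c30 LD3_c23) Lrfl Lrfl
theorem f890589 : Led Lsl_bt (LP (LK LD1_c8 LD2_c59 LD3_c2)) = v36855 :=
  Lgr Lrot178 (Lpe (K31.f236225 IH) (Lpe (f236224 IH) (Lpe (K9.f169305 IH) (Lpe (K9.f169304 IH) (Lpe (K9.f165039 IH) (Lpe (K9.f8564 IH) (Lpe (K9.f8574 IH) (Lpe (K10.f167782 IH) (Lpr_cf (K10.f187230 IH) (Lpe (K13.f1326 IH) (Lpr_gf (K13.f236220 IH) (Lpe (K14.f178837 IH) (Lpe (K15.f168326 IH) (Lpr_df (K15.f237794 IH) (Lpe (K13.f237792 IH) (Lpe (K19.f179606 IH) (Lpe (K19.f237800 IH) (Lpe (f237801 IH) (Lpr_gf (f890586 IH) (Lpn v36855))))))))))))))))))))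
theorem f890592 : Led Lsl_ft (LP (LK LD1_c16 LD2_c48 LD3_c15)) = (LP (LK LD1_c8 LD2_c59 LD3_c2)) :=
  Lre_f IH (LK LD1_c16 LD2_c48 LD3_c15) (LK LD1_c8 LD2_c59 LD3_c2) Lrfl Lrfl
def v36854 : LQ := Led Lsl_gt (LP (LK LD1_c8 LD2_c36 LD3_c19))
theorem f890578 : Led Lsl_gt (LP (LK LD1_c8 LD2_c36 LD3_c19)) = v36854 :=
  Lrfl
theorem f304791 : Led Lsl_at (LP (LK LD1_c8 LD2_c25 LD3_c33)) = (LP (LK LD1_c15 LD2_c49 LD3_c47)) :=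
  Lre_a IH (LK LD1_c8 LD2_c25 LD3_c33) (LK LD1_c15 LD2_c49 LD3_c47) Lrfl Lrfl
theorem f890579 : Led Lsl_gf (LP (LK LD1_c15 LD2_c49 LD3_c47)) = v36854 :=
  Lgr Lrot76 (Lpe (f304791 IH) (Lpe (K19.f304789 IH) (Lpr_gt (f890578 IH) (Lpn v36854))))
theorem f178382 : Led Lsl_dt (LP (LK LD1_c15 LD2_c49 LD3_c47)) = (LP (LK LD1_c8 LD2_c25 LD3_c32)) :=
  Lre_d IH (LK LD1_c15 LD2_c49 LD3_c47) (LK LD1_c8 LD2_c25 LD3_c32) Lrfl Lrfl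
theorem f178381 : Led Lsl_ct (LP (LK LD1_c8 LD2_c25 LD3_c32)) = (LP (LK LD1_c4 LD2_c13 LD3_c18)) :=
  Lre_c IH (LK LD1_c8 LD2_c25 LD3_c32) (LK LD1_c4 LD2_c13 LD3_c18) Lrfl Lrfl
theorem f178358 : Led Lsl_df (LP (LK LD1_c2 LD2_c3 LD3_c3)) = (LP (LK LD1_c2 LD2_c3 LD3_c55)) :=
  Lgr Lrot38 (Lpr_dt (K19.f178340 IH) (Lpn (LP (LK LD1_c2 LD2_c3 LD3_c55))))
theorem f178367 : Led Lsl_at (LP (LK LD1_c2 LD2_c3 LD3_c3)) = (LP (LK LD1_c4 LD2_c11 LD3_c44)) :=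
  Lre_a IH (LK LD1_c2 LD2_c3 LD3_c3) (LK LD1_c4 LD2_c11 LD3_c44) Lrfl Lrfl
theorem f178369 : Led Lsl_dt (LP (LK LD1_c4 LD2_c11 LD3_c44)) = (LP (LK LD1_c4 LD2_c13 LD3_c18)) :=
  Lgr Lrot44 (Lpe (f178367 IH) (Lpr_df (f178358 IH) (Lpe (K50.f178368 IH) (Lpn (LP (LK LD1_c4 LD2_c13 LD3_c18))))))
theorem f304820 : Led Lsl_gt (LP (LK LD1_c4 LD2_c18 LD3_c19)) = (LP (LK LD1_c4 LD2_c11 LD3_c44)) :=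
  Lgr Lrot46 (Lpe (K54.f237784 IH) (Lpr_ft (K19.f304809 IH) (Lpr_at (f178367 IH) (Lpn (LP (LK LD1_c4 LD2_c11 LD3_c44))))))
theorem f52230 : Led Lsl_ct (LP (LK LD1_c2 LD2_c6 LD3_c26)) = (LP (LK LD1_c4 LD2_c18 LD3_c18)) :=
  Lre_c IH (LK LD1_c2 LD2_c6 LD3_c26) (LK LD1_c4 LD2_c18 LD3_c18) Lrfl Lrfl
def v12590 : LQ := Led Lsl_gt (LP (LK LD1_c4 LD2_c18 LD3_c18))
theorem f693691 : Led Lsl_gt (LP (LK LD1_c4 LD2_c18 LD3_c18)) = v12590 :=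
  Lrfl
theorem f890580 : Led Lsl_dt v12590 = v36854 :=
  Lgr Lrot57 (Lpe (f693691 IH) (Lpe (f52230 IH) (Lpr_gt (K49.f179024 IH) (Lpe (K54.f421808 IH) (Lpr_gt (f304820 IH) (Lpr_dt (f178369 IH) (Lpe (f178381 IH) (Lpe (f178382 IH) (Lpr_gf (f890579 IH) (Lpn v36854))))))))))
theorem f890582 : Led Lsl_df v12590 = v36854 :=
  Lgr Lrot38 (Lpr_dt (f890580 IH) (Lpn v36854))
def v24073 : LQ := Led Lsl_gf K50.v4531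
theorem f822316 : Led Lsl_gf K50.v4531 = v24073 :=
  Lrfl
def v12422 : LQ := Led Lsl_bt (LP (LK LD1_c4 LD2_c11 LD3_c12))
theorem f692091 : Led Lsl_bt (LP (LK LD1_c4 LD2_c11 LD3_c12)) = v12422 :=
  Lrfl
theorem f692092 : Led Lsl_bf (LP (LK LD1_c4 LD2_c11 LD3_c12)) = v12422 :=
  Lgr Lrot24 (Lpr_bt (f692091 IH) (Lpn v12422))
theorem f822318 : Led Lsl_ct v12422 = v24073 :=
  Lgr Lrot64 (Lpe (f692092 IH) (Lpe (K50.f170889 IH) (Lpe (K49.f51530 IH) (Lpr_ct (K9.f51522 IH) (Lpe (K9.f1386 IH) (Lpe (K9.f505 IH) (Lpe (K9.f1401 IH) (Lpr_bf (K54.f493978 IH) (Lpr_ct (K50.f635988 IH) (Lpr_gf (f822316 IH) (Lpn v24073)))))))))))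
theorem f822319 : Led Lsl_cf v12422 = v24073 :=
  Lgr Lrot11 (Lpr_ct (f822318 IH) (Lpn v24073))
def v12577 : LQ := Led Lsl_bt (LP (LK LD1_c4 LD2_c18 LD3_c8))
theorem f693626 : Led Lsl_bt (LP (LK LD1_c4 LD2_c18 LD3_c8)) = v12577 :=
  Lrfl
theorem f693629 : Led Lsl_ff v12422 = v12577 :=
  Lgr Lrot25 (Lpe (f692092 IH) (Lpe (K54.f392887 IH) (Lpr_bt (f693626 IH) (Lpn v12577))))
theorem f693631 : Led Lsl_ft v12422 = v12577 :=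
  Lgr Lrot48 (Lpr_ff (f693629 IH) (Lpn v12577))
def v12591 : LQ := Led Lsl_gf (LP (LK LD1_c4 LD2_c18 LD3_c18))
theorem f693692 : Led Lsl_gf (LP (LK LD1_c4 LD2_c18 LD3_c18)) = v12591 :=
  Lrfl
theorem f693627 : Led Lsl_bf (LP (LK LD1_c4 LD2_c18 LD3_c8)) = v12577 :=
  Lgr Lrot24 (Lpr_bt (f693626 IH) (Lpn v12577))
theorem f693693 : Led Lsl_ct v12577 = v12591 :=
  Lgr Lrot64 (Lpe (f693627 IH) (Lpe (K27.f53378 IH) (Lpe (K27.f53377 IH) (Lpr_ct (K9.f51626 IH) (Lpe (K9.f53374 IH) (Lpe (K9.f47729 IH) (Lpr_gf (K9.f52225 IH) (Lpe (K50.f52227 IH) (Lpr_ct (f52230 IH) (Lpr_gf (f693692 IH) (Lpn v12591)))))))))))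
theorem f822321 : Led Lsl_ft v12591 = v24073 :=
  Lgr Lrot4 (Lpe (f693693 IH) (Lpe (f693631 IH) (Lpr_cf (f822319 IH) (Lpn v24073))))
theorem f822322 : Led Lsl_af v12590 = v24073 :=
  Lgr Lrot31 (Lpe (f693691 IH) (Lpr_gf (f693692 IH) (Lpr_ft (f822321 IH) (Lpn v24073))))
theorem f822323 : Led Lsl_at v12590 = v24073 :=
  Lgr Lrot100 (Lpr_af (f822322 IH) (Lpn v24073))
def v36432 : LQ := Led Lsl_gf (LP (LK LD1_c8 LD2_c25 LD3_c33))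
theorem f885556 : Led Lsl_gf (LP (LK LD1_c8 LD2_c25 LD3_c33)) = v36432 :=
  Lrfl
def v7784 : LQ := Led Lsl_at K49.v1210
theorem f668373 : Led Lsl_at K49.v1210 = v7784 :=
  Lrfl
theorem f406011 : Led Lsl_at (LP (LK LD1_c4 LD2_c18 LD3_c17)) = (LP (LK LD1_c2 LD2_c6 LD3_c26)) :=
  Lre_a IH (LK LD1_c4 LD2_c18 LD3_c17) (LK LD1_c2 LD2_c6 LD3_c26) Lrfl Lrfl
theorem f668377 : Led Lsl_ff (LP (LK LD1_c4 LD2_c18 LD3_c17)) = v7784 :=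
  Lgr Lrot30 (Lpr_at (f406011 IH) (Lpr_ft (K50.f493982 IH) (Lpr_at (f668373 IH) (Lpn v7784))))
theorem f668381 : Led Lsl_ft (LP (LK LD1_c4 LD2_c18 LD3_c17)) = v7784 :=
  Lgr Lrot48 (Lpr_ff (f668377 IH) (Lpn v7784))
theorem f668374 : Led Lsl_af K49.v1210 = v7784 :=
  Lgr Lrot0 (Lpr_at (f668373 IH) (Lpn v7784))
theorem f668383 : Led Lsl_gt (LP (LK LD1_c4 LD2_c18 LD3_c17)) = K54.v7783 :=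
  Lgr Lrot5 (Lpr_ft (f668381 IH) (Lpe (f668374 IH) (Lpr_gf (K54.f668372 IH) (Lpn K54.v7783))))
def v12588 : LQ := Led Lsl_ct (LP (LK LD1_c4 LD2_c18 LD3_c17))
theorem f693681 : Led Lsl_ct (LP (LK LD1_c4 LD2_c18 LD3_c17)) = v12588 :=
  Lrfl
theorem f304888 : Led Lsl_at (LP (LK LD1_c2 LD2_c6 LD3_c26)) = (LP (LK LD1_c4 LD2_c18 LD3_c17)) :=
  Lre_a IH (LK LD1_c2 LD2_c6 LD3_c26) (LK LD1_c4 LD2_c18 LD3_c17) Lrfl Lrfl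
theorem f178353 : Led Lsl_at (LP (LK LD1_c4 LD2_c11 LD3_c44)) = (LP (LK LD1_c2 LD2_c3 LD3_c3)) :=
  Lre_a IH (LK LD1_c4 LD2_c11 LD3_c44) (LK LD1_c2 LD2_c3 LD3_c3) Lrfl Lrfl
theorem f304889 : Led Lsl_bt (LP (LK LD1_c4 LD2_c18 LD3_c17)) = (LP (LK LD1_c4 LD2_c11 LD3_c44)) :=
  Lgr Lrot62 (Lpe (f304888 IH) (Lpe (K49.f179023 IH) (Lpr_af (K19.f304884 IH) (Lpe (K41.f53148 IH) (Lpe (f178353 IH) (Lpn (LP (LK LD1_c4 LD2_c11 LD3_c44))))))))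
theorem f822320 : Led Lsl_gt v12588 = v24073 :=
  Lgr Lrot65 (Lpe (f693681 IH) (Lpr_bt (f304889 IH) (Lpe (f304820 IH) (Lpe (K54.f304824 IH) (Lpe (K54.f418179 IH) (Lpr_gf (K54.f406244 IH) (Lpe (K54.f170264 IH) (Lpe (K54.f406054 IH) (Lpr_bf (f692092 IH) (Lpr_ct (f822318 IH) (Lpn v24073)))))))))))
theorem f885557 : Led Lsl_dt v24073 = v36432 :=
  Lgr Lrot57 (Lpe (f822320 IH) (Lpe (f693681 IH) (Lpr_gt (f668383 IH) (Lpqs (K54.f718586 IH) (Lpe (K54.f692251 IH) (Lpr_gt (K49.f167038 IH) (Lpr_dt (K19.f178340 IH) (Lpe (K50.f178346 IH) (Lpe (K19.f178347 IH) (Lpr_gf (f885556 IH) (Lpn v36432)))))))))))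
theorem f890585 : Led Lsl_at v36432 = v36854 :=
  Lgr Lrot51 (Lpe (f885557 IH) (Lpe (f822323 IH) (Lpr_df (f890582 IH) (Lpn v36854))))
theorem f890587 : Led Lsl_ff v36432 = v36855 :=
  Lgr Lrot52 (Lpr_at (f890585 IH) (Lpe (f890578 IH) (Lpr_gf (f890586 IH) (Lpn v36855))))
theorem f890593 : Led Lsl_bf (LP (LK LD1_c16 LD2_c48 LD3_c15)) = v36432 :=
  Lgr Lrot61 (Lpr_ft (f890592 IH) (Lpr_bt (f890589 IH) (Lpe (f890587 IH) (Lpn v36432))))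
theorem f890595 : Led Lsl_bt (LP (LK LD1_c16 LD2_c48 LD3_c15)) = v36432 :=
  Lgr Lrot127 (Lpr_bf (f890593 IH) (Lpn v36432))
theorem f697996 : Led Lsl_ct (LP (LK LD1_c16 LD2_c48 LD3_c15)) = (LP (LK LD1_c8 LD2_c59 LD3_c4)) :=
  Lre_c IH (LK LD1_c16 LD2_c48 LD3_c15) (LK LD1_c8 LD2_c59 LD3_c4) Lrfl Lrfl
def v15163 : LQ := Led Lsl_gt (LP (LK LD1_c5 LD2_c33 LD3_c14))
theorem f732624 : Led Lsl_gt (LP (LK LD1_c5 LD2_c33 LD3_c14)) = v15163 :=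
  Lrfl
theorem f890601 : (LP (LK LD1_c8 LD2_c59 LD3_c4)) = v15163 :=
  (Llr Lrot63 (Lpe (f697996 IH) (Lpr_bt (f890595 IH) (Lpe (f885556 IH) (Lpe (K19.f251981 IH) (Lpr_ct (K14.f184352 IH) (Lpr_gt (K27.f251979 IH) (Lpe (K27.f290289 IH) (Lpr_bt (K27.f53787 IH) (Lpr_gt (K27.f381111 IH) (Lpr_ct (K27.f174143 IH) (Lpr_gt (f732624 IH) (Lpn v15163))))))))))))).symm
theorem f289225 : Led Lsl_ff (LP (LK LD1_c5 LD2_c28 LD3_c29)) = (LP (LK LD1_c5 LD2_c33 LD3_c14)) :=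
  Lgr Lrot25 (Lpr_bt (K27.f226685 IH) (Lpr_ft (K17.f289221 IH) (Lpr_bt (K67.f174157 IH) (Lpn (LP (LK LD1_c5 LD2_c33 LD3_c14))))))
theorem f341308 : Led Lsl_at (LP (LK LD1_c5 LD2_c28 LD3_c29)) = (LP (LK LD1_c10 LD2_c48 LD3_c1)) :=
  Lre_a IH (LK LD1_c5 LD2_c28 LD3_c29) (LK LD1_c10 LD2_c48 LD3_c1) Lrfl Lrfl
theorem f732625 : Led Lsl_gf (LP (LK LD1_c10 LD2_c48 LD3_c1)) = v15163 :=
  Lgr Lrot76 (Lpe (f341308 IH) (Lpr_ff (f289225 IH) (Lpr_gt (f732624 IH) (Lpn v15163))))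
theorem f890602 : Led Lsl_gt (LP (LK LD1_c8 LD2_c59 LD3_c4)) = (LP (LK LD1_c10 LD2_c48 LD3_c1)) :=
  Leop (Lpr_gf (f732625 IH) (Lpq (f890601 IH) (Lpn (LP (LK LD1_c8 LD2_c59 LD3_c4)))))
theorem seed_2126 : LEOK LG_g (LK LD1_c8 LD2_c59 LD3_c4) :=
  Leoe_g (LK LD1_c8 LD2_c59 LD3_c4) (f890602 IH)
theorem f697991 : Led Lsl_et (LP (LK LD1_c8 LD2_c58 LD3_c56)) = (LP (LK LD1_c4 LD2_c30 LD3_c20)) :=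
  Lre_e IH (LK LD1_c8 LD2_c58 LD3_c56) (LK LD1_c4 LD2_c30 LD3_c20) Lrfl Lrfl
def v12752 : LQ := Led Lsl_gf (LP (LK LD1_c4 LD2_c30 LD3_c20))
theorem f698002 : Led Lsl_gf (LP (LK LD1_c4 LD2_c30 LD3_c20)) = v12752 :=
  Lrfl
def v4169 : LQ := Led Lsl_gf (LP (LK LD1_c2 LD2_c12 LD3_c12))
theorem f631598 : Led Lsl_gf (LP (LK LD1_c2 LD2_c12 LD3_c12)) = v4169 :=
  Lrfl
theorem f631590 : Led Lsl_at (LP (LK LD1_c2 LD2_c12 LD3_c10)) = (LP (LK LD1_c4 LD2_c30 LD3_c20)) :=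
  Lre_a IH (LK LD1_c2 LD2_c12 LD3_c10) (LK LD1_c4 LD2_c30 LD3_c20) Lrfl Lrfl
theorem f698003 : Led Lsl_ft (LP (LK LD1_c4 LD2_c30 LD3_c25)) = (LP (LK LD1_c2 LD2_c12 LD3_c10)) :=
  Lre_f IH (LK LD1_c4 LD2_c30 LD3_c25) (LK LD1_c2 LD2_c12 LD3_c10) Lrfl Lrfl
theorem f698004 : Led Lsl_gt (LP (LK LD1_c4 LD2_c30 LD3_c25)) = v12752 :=
  Lgr Lrot5 (Lpr_ft (f698003 IH) (Lpr_at (f631590 IH) (Lpr_gf (f698002 IH) (Lpn v12752))))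
def v12751 : LQ := Led Lsl_gt (LP (LK LD1_c4 LD2_c30 LD3_c20))
theorem f697983 : Led Lsl_gt (LP (LK LD1_c4 LD2_c30 LD3_c20)) = v12751 :=
  Lrfl
theorem f697984 : Led Lsl_ft (LP (LK LD1_c4 LD2_c30 LD3_c20)) = (LP (LK LD1_c2 LD2_c12 LD3_c11)) :=
  Lre_f IH (LK LD1_c4 LD2_c30 LD3_c20) (LK LD1_c2 LD2_c12 LD3_c11) Lrfl Lrfl
theorem f631592 : Led Lsl_at (LP (LK LD1_c2 LD2_c12 LD3_c11)) = (LP (LK LD1_c4 LD2_c30 LD3_c25)) :=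
  Lre_a IH (LK LD1_c2 LD2_c12 LD3_c11) (LK LD1_c4 LD2_c30 LD3_c25) Lrfl Lrfl
theorem f697985 : Led Lsl_gf (LP (LK LD1_c4 LD2_c30 LD3_c25)) = v12751 :=
  Lgr Lrot76 (Lpe (f631592 IH) (Lpe (f697984 IH) (Lpr_gt (f697983 IH) (Lpn v12751))))
theorem f8789 : Led Lsl_at (LP (LK LD1_c1 LD2_c3 LD3_c0)) = (LP (LK LD1_c2 LD2_c12 LD3_c12)) :=
  Lre_a IH (LK LD1_c1 LD2_c3 LD3_c0) (LK LD1_c2 LD2_c12 LD3_c12) Lrfl Lrfl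
theorem f195252 : Led Lsl_ft (LP (LK LD1_c2 LD2_c12 LD3_c14)) = (LP (LK LD1_c1 LD2_c3 LD3_c0)) :=
  Lre_f IH (LK LD1_c2 LD2_c12 LD3_c14) (LK LD1_c1 LD2_c3 LD3_c0) Lrfl Lrfl
theorem f631599 : Led Lsl_gt (LP (LK LD1_c2 LD2_c12 LD3_c14)) = v4169 :=
  Lgr Lrot5 (Lpr_ft (f195252 IH) (Lpr_at (f8789 IH) (Lpr_gf (f631598 IH) (Lpn v4169))))
theorem f697995 : Led Lsl_ct (LP (LK LD1_c8 LD2_c59 LD3_c4)) = (LP (LK LD1_c16 LD2_c48 LD3_c15)) :=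
  Lre_c IH (LK LD1_c8 LD2_c59 LD3_c4) (LK LD1_c16 LD2_c48 LD3_c15) Lrfl Lrfl
theorem f697994 : Led Lsl_dt (LP (LK LD1_c4 LD2_c30 LD3_c25)) = (LP (LK LD1_c8 LD2_c59 LD3_c4)) :=
  Lre_d IH (LK LD1_c4 LD2_c30 LD3_c25) (LK LD1_c8 LD2_c59 LD3_c4) Lrfl Lrfl
theorem f173043 : Led Lsl_bt (LP (LK LD1_c1 LD2_c3 LD3_c2)) = (LP (LK LD1_c2 LD2_c12 LD3_c14)) :=
  Lre_b IH (LK LD1_c1 LD2_c3 LD3_c2) (LK LD1_c2 LD2_c12 LD3_c14) Lrfl Lrfl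
theorem f890600 : v12751 = (LP (LK LD1_c2 LD2_c12 LD3_c14)) :=
  (Llr Lrot85 (Lpe (f697985 IH) (Lpr_dt (f697994 IH) (Lpr_ct (f697995 IH) (Lpr_bt (f890595 IH) (Lpe (f885556 IH) (Lpr_dt (K19.f178347 IH) (Lpr_ct (K50.f178346 IH) (Lpr_bt (K19.f178339 IH) (Lpe (K9.f178343 IH) (Lpr_dt (K9.f179577 IH) (Lpr_ct (K9.f53386 IH) (Lpe (K13.f243261 IH) (Lpr_gt (K13.f839 IH) (Lpr_dt (K13.f635 IH) (Lpr_ct (K13.f196997 IH) (Lpr_bt (K10.f196949 IH) (Lpr_gt (K9.f8439 IH) (Lpr_dt (K9.f8440 IH) (Lpr_ct (K9.f172858 IH) (Lpr_bt (f173043 IH) (Lpn (LP (LK LD1_c2 LD2_c12 LD3_c14)))))))))))))))))))))))).symm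
theorem f890606 : (LP (LK LD1_c4 LD2_c30 LD3_c25)) = v4169 :=
  Lefun (Lecon (Lfl_gf (f697985 IH)) (f890600 IH)) (f631599 IH)
theorem f890610 : (LP (LK LD1_c2 LD2_c12 LD3_c12)) = v12752 :=
  Lefun (Lecon (Lfl_gf (f631598 IH)) (f890606 IH).symm) (f698004 IH)
theorem f8742 : Led Lsl_et (LP (LK LD1_c4 LD2_c30 LD3_c19)) = (LP (LK LD1_c8 LD2_c58 LD3_c52)) :=
  Lre_e IH (LK LD1_c4 LD2_c30 LD3_c19) (LK LD1_c8 LD2_c58 LD3_c52) Lrfl Lrfl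
theorem f8744 : Led Lsl_et (LP (LK LD1_c11 LD2_c56 LD3_c24)) = (LP (LK LD1_c6 LD2_c6 LD3_c40)) :=
  Lre_e IH (LK LD1_c11 LD2_c56 LD3_c24) (LK LD1_c6 LD2_c6 LD3_c40) Lrfl Lrfl
theorem f8745 : Led Lsl_ft (LP (LK LD1_c6 LD2_c6 LD3_c40)) = (LP (LK LD1_c2 LD2_c59 LD3_c29)) :=
  Lre_f IH (LK LD1_c6 LD2_c6 LD3_c40) (LK LD1_c2 LD2_c59 LD3_c29) Lrfl Lrfl
theorem f8746 : Led Lsl_ef (LP (LK LD1_c2 LD2_c12 LD3_c12)) = (LP (LK LD1_c2 LD2_c59 LD3_c29)) :=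
  Lgr Lrot21 (Lpr_ft (K64.f8743 IH) (Lpr_et (f8742 IH) (Lpr_ft (K0.f8724 IH) (Lpr_et (f8744 IH) (Lpr_ft (f8745 IH) (Lpn (LP (LK LD1_c2 LD2_c59 LD3_c29))))))))
def v13103 : LQ := Led Lsl_gt (LP (LK LD1_c4 LD2_c39 LD3_c51))
theorem f701125 : Led Lsl_gt (LP (LK LD1_c4 LD2_c39 LD3_c51)) = v13103 :=
  Lrfl
theorem f701126 : Led Lsl_ft (LP (LK LD1_c4 LD2_c39 LD3_c51)) = (LP (LK LD1_c2 LD2_c59 LD3_c30)) :=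
  Lre_f IH (LK LD1_c4 LD2_c39 LD3_c51) (LK LD1_c2 LD2_c59 LD3_c30) Lrfl Lrfl
theorem f446650 : Led Lsl_at (LP (LK LD1_c2 LD2_c59 LD3_c30)) = (LP (LK LD1_c6 LD2_c6 LD3_c45)) :=
  Lre_a IH (LK LD1_c2 LD2_c59 LD3_c30) (LK LD1_c6 LD2_c6 LD3_c45) Lrfl Lrfl
theorem f701127 : Led Lsl_gf (LP (LK LD1_c6 LD2_c6 LD3_c45)) = v13103 :=
  Lgr Lrot76 (Lpe (f446650 IH) (Lpe (f701126 IH) (Lpr_gt (f701125 IH) (Lpn v13103))))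
def v14318 : LQ := Led Lsl_gt (LP (LK LD1_c5 LD2_c6 LD3_c27))
theorem f721899 : Led Lsl_gt (LP (LK LD1_c5 LD2_c6 LD3_c27)) = v14318 :=
  Lrfl
theorem f198724 : Led Lsl_ct (LP (LK LD1_c5 LD2_c6 LD3_c27)) = (LP (LK LD1_c10 LD2_c3 LD3_c33)) :=
  Lre_c IH (LK LD1_c5 LD2_c6 LD3_c27) (LK LD1_c10 LD2_c3 LD3_c33) Lrfl Lrfl
theorem f184640 : Led Lsl_gt (LP (LK LD1_c10 LD2_c3 LD3_c33)) = (LP (LK LD1_c18 LD2_c22 LD3_c13)) :=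
  Lre_g IH (LK LD1_c10 LD2_c3 LD3_c33) (LK LD1_c18 LD2_c22 LD3_c13) Lrfl Lrfl
theorem f54903 : Led Lsl_gt (LP (LK LD1_c15 LD2_c29 LD3_c17)) = (LP (LK LD1_c8 LD2_c13 LD3_c58)) :=
  Lre_g IH (LK LD1_c15 LD2_c29 LD3_c17) (LK LD1_c8 LD2_c13 LD3_c58) Lrfl Lrfl
theorem f181246 : Led Lsl_bt (LP (LK LD1_c25 LD2_c22 LD3_c4)) = (LP (LK LD1_c15 LD2_c29 LD3_c17)) :=
  Lre_b IH (LK LD1_c25 LD2_c22 LD3_c4) (LK LD1_c15 LD2_c29 LD3_c17) Lrfl Lrfl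
theorem f266677 : Led Lsl_bt (LP (LK LD1_c8 LD2_c13 LD3_c33)) = (LP (LK LD1_c4 LD2_c6 LD3_c30)) :=
  Lre_b IH (LK LD1_c8 LD2_c13 LD3_c33) (LK LD1_c4 LD2_c6 LD3_c30) Lrfl Lrfl
theorem f266649 : Led Lsl_gt (LP (LK LD1_c10 LD2_c0 LD3_c56)) = (LP (LK LD1_c18 LD2_c18 LD3_c1)) :=
  Lre_g IH (LK LD1_c10 LD2_c0 LD3_c56) (LK LD1_c18 LD2_c18 LD3_c1) Lrfl Lrfl
theorem f602847 : Led Lsl_ct (LP (LK LD1_c25 LD2_c22 LD3_c4)) = (LP (LK LD1_c18 LD2_c18 LD3_c1)) :=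
  Lgr Lrot10 (Lpr_bt (f181246 IH) (Lpr_gt (f54903 IH) (Lpr_ct (K45.f55485 IH) (Lpr_gt (K56.f602831 IH) (Lpe (K45.f266678 IH) (Lpr_bt (f266677 IH) (Lpr_gt (K15.f266671 IH) (Lpe (K21.f266679 IH) (Lpe (K39.f266660 IH) (Lpr_gt (f266649 IH) (Lpn (LP (LK LD1_c18 LD2_c18 LD3_c1)))))))))))))
theorem f265173 : Led Lsl_bt (LP (LK LD1_c4 LD2_c6 LD3_c41)) = (LP (LK LD1_c8 LD2_c13 LD3_c58)) :=
  Lre_b IH (LK LD1_c4 LD2_c6 LD3_c41) (LK LD1_c8 LD2_c13 LD3_c58) Lrfl Lrfl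
theorem f274104 : Led Lsl_bt (LP (LK LD1_c8 LD2_c13 LD3_c23)) = (LP (LK LD1_c15 LD2_c28 LD3_c3)) :=
  Lre_b IH (LK LD1_c8 LD2_c13 LD3_c23) (LK LD1_c15 LD2_c28 LD3_c3) Lrfl Lrfl
theorem f602864 : Led Lsl_gt (LP (LK LD1_c15 LD2_c28 LD3_c3)) = (LP (LK LD1_c15 LD2_c27 LD3_c59)) :=
  Lgr Lrot82 (Lpe (f274104 IH) (Lpr_ct (K16.f274086 IH) (Lpe (K16.f265166 IH) (Lpe (K15.f182775 IH) (Lpr_bt (f265173 IH) (Lpe (f54903 IH) (Lpe (f181246 IH) (Lpr_ct (f602847 IH) (Lpe (f266649 IH) (Lpr_cf (K39.f266660 IH) (Lpn (LP (LK LD1_c15 LD2_c27 LD3_c59)))))))))))))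
theorem f191964 : Led Lsl_ct (LP (LK LD1_c25 LD2_c19 LD3_c57)) = (LP (LK LD1_c15 LD2_c28 LD3_c3)) :=
  Lre_c IH (LK LD1_c25 LD2_c19 LD3_c57) (LK LD1_c15 LD2_c28 LD3_c3) Lrfl Lrfl
theorem f191140 : Led Lsl_bt (LP (LK LD1_c5 LD2_c8 LD3_c55)) = (LP (LK LD1_c10 LD2_c8 LD3_c13)) :=
  Lre_b IH (LK LD1_c5 LD2_c8 LD3_c55) (LK LD1_c10 LD2_c8 LD3_c13) Lrfl Lrfl
theorem f191141 : Led Lsl_gt (LP (LK LD1_c10 LD2_c8 LD3_c13)) = (LP (LK LD1_c18 LD2_c27 LD3_c47)) :=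
  Lre_g IH (LK LD1_c10 LD2_c8 LD3_c13) (LK LD1_c18 LD2_c27 LD3_c47) Lrfl Lrfl
theorem f602866 : Led Lsl_bt (LP (LK LD1_c25 LD2_c19 LD3_c57)) = (LP (LK LD1_c18 LD2_c27 LD3_c47)) :=
  Lgr Lrot92 (Lpr_ct (f191964 IH) (Lpr_gt (f602864 IH) (Lpe (K21.f275830 IH) (Lpr_bt (K39.f255287 IH) (Lpr_gt (K15.f266644 IH) (Lpr_ct (K15.f189864 IH) (Lpe (K13.f191123 IH) (Lpe (K13.f191121 IH) (Lpr_bt (f191140 IH) (Lpr_gt (f191141 IH) (Lpn (LP (LK LD1_c18 LD2_c27 LD3_c47)))))))))))))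
theorem f191955 : Led Lsl_ct (LP (LK LD1_c15 LD2_c28 LD3_c3)) = (LP (LK LD1_c25 LD2_c19 LD3_c57)) :=
  Lre_c IH (LK LD1_c15 LD2_c28 LD3_c3) (LK LD1_c25 LD2_c19 LD3_c57) Lrfl Lrfl
theorem f265172 : Led Lsl_bt (LP (LK LD1_c11 LD2_c54 LD3_c15)) = (LP (LK LD1_c6 LD2_c5 LD3_c21)) :=
  Lre_b IH (LK LD1_c11 LD2_c54 LD3_c15) (LK LD1_c6 LD2_c5 LD3_c21) Lrfl Lrfl
theorem f602872 : Led Lsl_cf (LP (LK LD1_c11 LD2_c54 LD3_c15)) = (LP (LK LD1_c18 LD2_c27 LD3_c47)) :=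
  Lgr Lrot97 (Lpr_bt (f265172 IH) (Lpe (K16.f274090 IH) (Lpr_bt (f274104 IH) (Lpr_ct (f191955 IH) (Lpr_bt (f602866 IH) (Lpn (LP (LK LD1_c18 LD2_c27 LD3_c47))))))))
theorem f542363 : Led Lsl_bt (LP (LK LD1_c4 LD2_c1 LD3_c15)) = (LP (LK LD1_c1 LD2_c59 LD3_c17)) :=
  Lgr Lrot130 (Lpr_ct (K12.f211576 IH) (Lpr_gf (K12.f211583 IH) (Lpe (K10.f171533 IH) (Lpr_bt (K36.f171538 IH) (Lpr_gf (K37.f542357 IH) (Lpe (K16.f201589 IH) (Lpr_ct (K11.f32020 IH) (Lpe (K11.f32017 IH) (Lpe (K0.f31755 IH) (Lpr_gf (K10.f192349 IH) (Lpn (LP (LK LD1_c1 LD2_c59 LD3_c17)))))))))))))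
theorem f31996 : Led Lsl_bt (LP (LK LD1_c4 LD2_c20 LD3_c16)) = (LP (LK LD1_c8 LD2_c38 LD3_c25)) :=
  Lre_b IH (LK LD1_c4 LD2_c20 LD3_c16) (LK LD1_c8 LD2_c38 LD3_c25) Lrfl Lrfl
theorem f266563 : Led Lsl_gt (LP (LK LD1_c8 LD2_c38 LD3_c25)) = (LP (LK LD1_c16 LD2_c10 LD3_c52)) :=
  Lre_g IH (LK LD1_c8 LD2_c38 LD3_c25) (LK LD1_c16 LD2_c10 LD3_c52) Lrfl Lrfl
theorem f602880 : Led Lsl_dt (LP (LK LD1_c16 LD2_c10 LD3_c52)) = (LP (LK LD1_c18 LD2_c27 LD3_c47)) :=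
  Lgr Lrot182 (Lpe (f266563 IH) (Lpe (f31996 IH) (Lpe (K11.f31723 IH) (Lpe (K11.f31722 IH) (Lpr_gf (K10.f192349 IH) (Lpe (f542363 IH) (Lpe (K12.f211569 IH) (Lpr_df (K13.f211579 IH) (Lpe (K13.f246094 IH) (Lpe (K13.f175066 IH) (Lpr_cf (K13.f175063 IH) (Lpr_df (K13.f246025 IH) (Lpe (K10.f8572 IH) (Lpe (K10.f8530 IH) (Lpe (K10.f187488 IH) (Lpe (K16.f187780 IH) (Lpe (K16.f195328 IH) (Lpe (f265172 IH) (Lpr_cf (f602872 IH) (Lpn (LP (LK LD1_c18 LD2_c27 LD3_c47))))))))))))))))))))))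
theorem f602884 : Led Lsl_df (LP (LK LD1_c16 LD2_c10 LD3_c52)) = (LP (LK LD1_c18 LD2_c27 LD3_c47)) :=
  Lgr Lrot38 (Lpr_dt (f602880 IH) (Lpn (LP (LK LD1_c18 LD2_c27 LD3_c47))))
theorem f363676 : Led Lsl_ff (LP (LK LD1_c11 LD2_c52 LD3_c35)) = (LP (LK LD1_c6 LD2_c5 LD3_c21)) :=
  Lgr Lrot19 (Lpe (K15.f216290 IH) (Lpr_ft (K26.f363670 IH) (Lpr_dt (K16.f256253 IH) (Lpn (LP (LK LD1_c6 LD2_c5 LD3_c21))))))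
theorem f265230 : Led Lsl_bt (LP (LK LD1_c11 LD2_c52 LD3_c35)) = (LP (LK LD1_c20 LD2_c55 LD3_c41)) :=
  Lre_b IH (LK LD1_c11 LD2_c52 LD3_c35) (LK LD1_c20 LD2_c55 LD3_c41) Lrfl Lrfl
theorem f378079 : Led Lsl_ft (LP (LK LD1_c20 LD2_c55 LD3_c41)) = (LP (LK LD1_c11 LD2_c54 LD3_c15)) :=
  Lgr Lrot75 (Lpe (f265230 IH) (Lpr_ff (f363676 IH) (Lpe (f265172 IH) (Lpn (LP (LK LD1_c11 LD2_c54 LD3_c15))))))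
theorem f378082 : Led Lsl_ff (LP (LK LD1_c20 LD2_c55 LD3_c41)) = (LP (LK LD1_c11 LD2_c54 LD3_c15)) :=
  Lgr Lrot3 (Lpr_ft (f378079 IH) (Lpn (LP (LK LD1_c11 LD2_c54 LD3_c15))))
theorem f189569 : Led Lsl_dt (LP (LK LD1_c5 LD2_c10 LD3_c15)) = (LP (LK LD1_c10 LD2_c11 LD3_c14)) :=
  Lre_d IH (LK LD1_c5 LD2_c10 LD3_c15) (LK LD1_c10 LD2_c11 LD3_c14) Lrfl Lrfl
theorem f291406 : Led Lsl_gf (LP (LK LD1_c11 LD2_c52 LD3_c40)) = (LP (LK LD1_c8 LD2_c13 LD3_c7)) :=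
  Lgr Lrot144 (Lpr_dt (K56.f194177 IH) (Lpr_gt (K16.f256830 IH) (Lpr_dt (f189569 IH) (Lpr_cf (K17.f274329 IH) (Lpr_df (K17.f290010 IH) (Lpr_gf (K56.f291404 IH) (Lpe (K15.f264864 IH) (Lpe (K15.f182569 IH) (Lpr_cf (K17.f183857 IH) (Lpn (LP (LK LD1_c8 LD2_c13 LD3_c7))))))))))))
theorem f265144 : Led Lsl_ct (LP (LK LD1_c6 LD2_c5 LD3_c24)) = (LP (LK LD1_c8 LD2_c13 LD3_c7)) :=
  Lgr Lrot176 (Lpe (K15.f182568 IH) (Lpe (K9.f8523 IH) (Lpe (K1.f41815 IH) (Lpe (K10.f187782 IH) (Lpe (K10.f47884 IH) (Lpe (K10.f169132 IH) (Lpe (K17.f169133 IH) (Lpr_cf (K15.f265136 IH) (Lpe (K15.f42510 IH) (Lpe (K9.f41764 IH) (Lpe (K1.f41745 IH) (Lpr_cf (K10.f183850 IH) (Lpe (K10.f54526 IH) (Lpe (K15.f54518 IH) (Lpe (K1.f54577 IH) (Lpn (LP (LK LD1_c8 LD2_c13 LD3_c7))))))))))))))))))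
theorem f265220 : Led Lsl_bt (LP (LK LD1_c20 LD2_c55 LD3_c41)) = (LP (LK LD1_c11 LD2_c52 LD3_c35)) :=
  Lre_b IH (LK LD1_c20 LD2_c55 LD3_c41) (LK LD1_c11 LD2_c52 LD3_c35) Lrfl Lrfl
theorem f265296 : Led Lsl_ct (LP (LK LD1_c10 LD2_c1 LD3_c0)) = (LP (LK LD1_c18 LD2_c18 LD3_c18)) :=
  Lre_c IH (LK LD1_c10 LD2_c1 LD3_c0) (LK LD1_c18 LD2_c18 LD3_c18) Lrfl Lrfl
theorem f274082 : Led Lsl_bt (LP (LK LD1_c18 LD2_c18 LD3_c18)) = (LP (LK LD1_c11 LD2_c52 LD3_c13)) :=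
  Lgr Lrot128 (Lpe (f265296 IH) (Lpe (K26.f265295 IH) (Lpe (K15.f265291 IH) (Lpe (K16.f223725 IH) (Lpr_cf (K16.f273902 IH) (Lpn (LP (LK LD1_c11 LD2_c52 LD3_c13))))))))
theorem f279828 : Led Lsl_ct (LP (LK LD1_c18 LD2_c18 LD3_c18)) = (LP (LK LD1_c10 LD2_c1 LD3_c0)) :=
  Lre_c IH (LK LD1_c18 LD2_c18 LD3_c18) (LK LD1_c10 LD2_c1 LD3_c0) Lrfl Lrfl
theorem f265309 : Led Lsl_gt (LP (LK LD1_c10 LD2_c1 LD3_c0)) = (LP (LK LD1_c18 LD2_c18 LD3_c15)) :=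
  Lre_g IH (LK LD1_c10 LD2_c1 LD3_c0) (LK LD1_c18 LD2_c18 LD3_c15) Lrfl Lrfl
theorem f602604 : Led Lsl_ct (LP (LK LD1_c20 LD2_c55 LD3_c41)) = (LP (LK LD1_c18 LD2_c18 LD3_c15)) :=
  Lgr Lrot10 (Lpr_bt (f265220 IH) (Lpe (K15.f265214 IH) (Lpr_ct (f265144 IH) (Lpe (f291406 IH) (Lpr_cf (K56.f602590 IH) (Lpr_bt (K56.f273935 IH) (Lpr_gt (K39.f273933 IH) (Lpe (f274082 IH) (Lpr_ct (f279828 IH) (Lpr_gt (f265309 IH) (Lpn (LP (LK LD1_c18 LD2_c18 LD3_c15)))))))))))))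
theorem f602876 : Led Lsl_ft (LP (LK LD1_c18 LD2_c18 LD3_c15)) = (LP (LK LD1_c18 LD2_c27 LD3_c47)) :=
  Lgr Lrot4 (Lpe (f602604 IH) (Lpr_ff (f378082 IH) (Lpr_cf (f602872 IH) (Lpn (LP (LK LD1_c18 LD2_c27 LD3_c47))))))
theorem f602615 : Led Lsl_cf (LP (LK LD1_c20 LD2_c55 LD3_c41)) = (LP (LK LD1_c18 LD2_c18 LD3_c15)) :=
  Lgr Lrot11 (Lpr_ct (f602604 IH) (Lpn (LP (LK LD1_c18 LD2_c18 LD3_c15))))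
theorem f31816 : Led Lsl_bt (LP (LK LD1_c4 LD2_c20 LD3_c27)) = (LP (LK LD1_c8 LD2_c38 LD3_c44)) :=
  Lre_b IH (LK LD1_c4 LD2_c20 LD3_c27) (LK LD1_c8 LD2_c38 LD3_c44) Lrfl Lrfl
theorem f31818 : Led Lsl_gt (LP (LK LD1_c8 LD2_c38 LD3_c44)) = (LP (LK LD1_c16 LD2_c11 LD3_c37)) :=
  Lre_g IH (LK LD1_c8 LD2_c38 LD3_c44) (LK LD1_c16 LD2_c11 LD3_c37) Lrfl Lrfl
theorem f602622 : Led Lsl_dt (LP (LK LD1_c16 LD2_c11 LD3_c37)) = (LP (LK LD1_c18 LD2_c18 LD3_c15)) :=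
  Lgr Lrot182 (Lpe (f31818 IH) (Lpe (f31816 IH) (Lpe (K16.f31799 IH) (Lpe (K13.f31815 IH) (Lpr_gf (K16.f240619 IH) (Lpe (K42.f542374 IH) (Lpe (K10.f194126 IH) (Lpr_df (K13.f242577 IH) (Lpe (K13.f175053 IH) (Lpe (K9.f175047 IH) (Lpr_cf (K10.f174972 IH) (Lpr_df (K10.f8423 IH) (Lpe (K9.f8545 IH) (Lpe (K9.f8522 IH) (Lpe (K10.f8547 IH) (Lpe (K15.f8548 IH) (Lpr_gf (K15.f265214 IH) (Lpe (f265220 IH) (Lpr_cf (f602615 IH) (Lpn (LP (LK LD1_c18 LD2_c18 LD3_c15))))))))))))))))))))))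
theorem f602889 : Led Lsl_ft (LP (LK LD1_c16 LD2_c10 LD3_c52)) = (LP (LK LD1_c16 LD2_c11 LD3_c37)) :=
  Lgr Lrot54 (Lpr_df (f602884 IH) (Lpe (f602876 IH) (Lpe (f602622 IH) (Lpn (LP (LK LD1_c16 LD2_c11 LD3_c37))))))
theorem f602891 : Led Lsl_ff (LP (LK LD1_c16 LD2_c10 LD3_c52)) = (LP (LK LD1_c16 LD2_c11 LD3_c37)) :=
  Lgr Lrot3 (Lpr_ft (f602889 IH) (Lpn (LP (LK LD1_c16 LD2_c11 LD3_c37))))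
theorem f602624 : Led Lsl_df (LP (LK LD1_c16 LD2_c11 LD3_c37)) = (LP (LK LD1_c18 LD2_c18 LD3_c15)) :=
  Lgr Lrot38 (Lpr_dt (f602622 IH) (Lpn (LP (LK LD1_c18 LD2_c18 LD3_c15))))
theorem f602910 : Led Lsl_ft (LP (LK LD1_c18 LD2_c27 LD3_c47)) = (LP (LK LD1_c18 LD2_c18 LD3_c15)) :=
  Lgr Lrot54 (Lpe (f602880 IH) (Lpr_ff (f602891 IH) (Lpr_df (f602624 IH) (Lpn (LP (LK LD1_c18 LD2_c18 LD3_c15))))))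
theorem f279818 : Led Lsl_at (LP (LK LD1_c18 LD2_c18 LD3_c18)) = (LP (LK LD1_c27 LD2_c57 LD3_c1)) :=
  Lre_a IH (LK LD1_c18 LD2_c18 LD3_c18) (LK LD1_c27 LD2_c57 LD3_c1) Lrfl Lrfl
theorem f279819 : Led Lsl_bt (LP (LK LD1_c11 LD2_c52 LD3_c13)) = (LP (LK LD1_c18 LD2_c18 LD3_c18)) :=
  Lgr Lrot62 (Lpe (K16.f273897 IH) (Lpe (K17.f250442 IH) (Lpe (K26.f273968 IH) (Lpr_bf (K26.f279816 IH) (Lpe (f279818 IH) (Lpn (LP (LK LD1_c18 LD2_c18 LD3_c18))))))))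
theorem f279829 : Led Lsl_ff (LP (LK LD1_c11 LD2_c52 LD3_c48)) = (LP (LK LD1_c18 LD2_c18 LD3_c18)) :=
  Lgr Lrot25 (Lpr_bt (K65.f256858 IH) (Lpr_ft (K16.f273900 IH) (Lpr_bt (f279819 IH) (Lpn (LP (LK LD1_c18 LD2_c18 LD3_c18))))))
theorem f279834 : Led Lsl_ft (LP (LK LD1_c10 LD2_c8 LD3_c13)) = (LP (LK LD1_c10 LD2_c1 LD3_c0)) :=
  Lgr Lrot4 (Lpe (K65.f256842 IH) (Lpr_ff (f279829 IH) (Lpe (f265296 IH) (Lpn (LP (LK LD1_c10 LD2_c1 LD3_c0))))))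
theorem f279873 : Led Lsl_gt (LP (LK LD1_c18 LD2_c27 LD3_c47)) = (LP (LK LD1_c18 LD2_c18 LD3_c17)) :=
  Lgr Lrot46 (Lpe (f191141 IH) (Lpr_ft (f279834 IH) (Lpr_at (K26.f279808 IH) (Lpn (LP (LK LD1_c18 LD2_c18 LD3_c17))))))
theorem f279836 : Led Lsl_ft (LP (LK LD1_c11 LD2_c52 LD3_c48)) = (LP (LK LD1_c18 LD2_c18 LD3_c18)) :=
  Lgr Lrot48 (Lpr_ff (f279829 IH) (Lpn (LP (LK LD1_c18 LD2_c18 LD3_c18))))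
theorem f256914 : Led Lsl_cf (LP (LK LD1_c11 LD2_c52 LD3_c48)) = (LP (LK LD1_c10 LD2_c8 LD3_c13)) :=
  Lgr Lrot11 (Lpr_ct (K65.f256842 IH) (Lpn (LP (LK LD1_c10 LD2_c8 LD3_c13))))
theorem f279840 : Led Lsl_ff (LP (LK LD1_c10 LD2_c8 LD3_c13)) = (LP (LK LD1_c10 LD2_c1 LD3_c0)) :=
  Lgr Lrot23 (Lpe (f256914 IH) (Lpr_ft (f279836 IH) (Lpr_ct (f279828 IH) (Lpn (LP (LK LD1_c10 LD2_c1 LD3_c0))))))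
theorem f225625 : Led Lsl_at (LP (LK LD1_c10 LD2_c8 LD3_c13)) = (LP (LK LD1_c18 LD2_c27 LD3_c49)) :=
  Lre_a IH (LK LD1_c10 LD2_c8 LD3_c13) (LK LD1_c18 LD2_c27 LD3_c49) Lrfl Lrfl
theorem f279815 : Led Lsl_at (LP (LK LD1_c18 LD2_c18 LD3_c17)) = (LP (LK LD1_c10 LD2_c1 LD3_c0)) :=
  Lre_a IH (LK LD1_c18 LD2_c18 LD3_c17) (LK LD1_c10 LD2_c1 LD3_c0) Lrfl Lrfl
theorem f279844 : Led Lsl_ft (LP (LK LD1_c18 LD2_c27 LD3_c49)) = (LP (LK LD1_c18 LD2_c18 LD3_c17)) :=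
  Lgr Lrot101 (Lpe (f225625 IH) (Lpr_ff (f279840 IH) (Lpe (f279815 IH) (Lpn (LP (LK LD1_c18 LD2_c18 LD3_c17))))))
theorem f279853 : Led Lsl_ff (LP (LK LD1_c18 LD2_c27 LD3_c49)) = (LP (LK LD1_c18 LD2_c18 LD3_c17)) :=
  Lgr Lrot3 (Lpr_ft (f279844 IH) (Lpn (LP (LK LD1_c18 LD2_c18 LD3_c17))))
theorem f225633 : Led Lsl_at (LP (LK LD1_c18 LD2_c27 LD3_c49)) = (LP (LK LD1_c10 LD2_c8 LD3_c13)) :=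
  Lre_a IH (LK LD1_c18 LD2_c27 LD3_c49) (LK LD1_c10 LD2_c8 LD3_c13) Lrfl Lrfl
theorem f201740 : Led Lsl_gt (LP (LK LD1_c18 LD2_c27 LD3_c48)) = (LP (LK LD1_c10 LD2_c8 LD3_c13)) :=
  Lre_g IH (LK LD1_c18 LD2_c27 LD3_c48) (LK LD1_c10 LD2_c8 LD3_c13) Lrfl Lrfl
theorem f279862 : Led Lsl_gf (LP (LK LD1_c18 LD2_c27 LD3_c48)) = (LP (LK LD1_c18 LD2_c18 LD3_c17)) :=
  Lgr Lrot47 (Lpr_gt (f201740 IH) (Lpe (f225633 IH) (Lpr_ff (f279853 IH) (Lpn (LP (LK LD1_c18 LD2_c18 LD3_c17))))))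
theorem f602912 : Led Lsl_af (LP (LK LD1_c18 LD2_c27 LD3_c48)) = (LP (LK LD1_c18 LD2_c18 LD3_c15)) :=
  Lgr Lrot31 (Lpr_gf (f279862 IH) (Lpe (f279873 IH) (Lpr_ft (f602910 IH) (Lpn (LP (LK LD1_c18 LD2_c18 LD3_c15))))))
theorem f602914 : Led Lsl_at (LP (LK LD1_c18 LD2_c27 LD3_c48)) = (LP (LK LD1_c18 LD2_c18 LD3_c15)) :=
  Lgr Lrot100 (Lpr_af (f602912 IH) (Lpn (LP (LK LD1_c18 LD2_c18 LD3_c15))))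
theorem f279855 : Led Lsl_gt (LP (LK LD1_c18 LD2_c18 LD3_c16)) = (LP (LK LD1_c10 LD2_c1 LD3_c0)) :=
  Lre_g IH (LK LD1_c18 LD2_c18 LD3_c16) (LK LD1_c10 LD2_c1 LD3_c0) Lrfl Lrfl
theorem f602920 : Led Lsl_ff (LP (LK LD1_c18 LD2_c27 LD3_c48)) = (LP (LK LD1_c18 LD2_c18 LD3_c16)) :=
  Lgr Lrot52 (Lpr_at (f602914 IH) (Lpe (f265309 IH) (Lpe (f279855 IH) (Lpn (LP (LK LD1_c18 LD2_c18 LD3_c16))))))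
theorem f602926 : Led Lsl_ft (LP (LK LD1_c18 LD2_c27 LD3_c48)) = (LP (LK LD1_c18 LD2_c18 LD3_c16)) :=
  Lgr Lrot48 (Lpr_ff (f602920 IH) (Lpn (LP (LK LD1_c18 LD2_c18 LD3_c16))))
theorem f602928 : Led Lsl_af (LP (LK LD1_c18 LD2_c27 LD3_c47)) = (LP (LK LD1_c18 LD2_c18 LD3_c16)) :=
  Lgr Lrot45 (Lpr_ft (f602910 IH) (Lpe (f602912 IH) (Lpr_ft (f602926 IH) (Lpn (LP (LK LD1_c18 LD2_c18 LD3_c16))))))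
theorem f265183 : Led Lsl_at (LP (LK LD1_c11 LD2_c54 LD3_c15)) = (LP (LK LD1_c20 LD2_c58 LD3_c26)) :=
  Lre_a IH (LK LD1_c11 LD2_c54 LD3_c15) (LK LD1_c20 LD2_c58 LD3_c26) Lrfl Lrfl
theorem f603002 : Led Lsl_ct (LP (LK LD1_c20 LD2_c58 LD3_c26)) = (LP (LK LD1_c18 LD2_c18 LD3_c16)) :=
  Lgr Lrot111 (Lpe (f265183 IH) (Lpr_cf (f602872 IH) (Lpr_af (f602928 IH) (Lpn (LP (LK LD1_c18 LD2_c18 LD3_c16))))))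
theorem f265202 : Led Lsl_et (LP (LK LD1_c29 LD2_c47 LD3_c20)) = (LP (LK LD1_c20 LD2_c58 LD3_c26)) :=
  Lre_e IH (LK LD1_c29 LD2_c47 LD3_c20) (LK LD1_c20 LD2_c58 LD3_c26) Lrfl Lrfl
theorem f602932 : Led Lsl_et (LP (LK LD1_c18 LD2_c18 LD3_c16)) = (LP (LK LD1_c27 LD2_c57 LD3_c0)) :=
  Lre_e IH (LK LD1_c18 LD2_c18 LD3_c16) (LK LD1_c27 LD2_c57 LD3_c0) Lrfl Lrfl
theorem f603006 : Led Lsl_cf (LP (LK LD1_c29 LD2_c47 LD3_c20)) = (LP (LK LD1_c27 LD2_c57 LD3_c0)) :=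
  Lgr Lrot39 (Lpr_et (f265202 IH) (Lpr_ct (f603002 IH) (Lpr_et (f602932 IH) (Lpn (LP (LK LD1_c27 LD2_c57 LD3_c0))))))
theorem f603012 : Led Lsl_ct (LP (LK LD1_c29 LD2_c47 LD3_c20)) = (LP (LK LD1_c27 LD2_c57 LD3_c0)) :=
  Lgr Lrot59 (Lpr_cf (f603006 IH) (Lpn (LP (LK LD1_c27 LD2_c57 LD3_c0))))
theorem f266522 : Led Lsl_ft (LP (LK LD1_c4 LD2_c20 LD3_c27)) = (LP (LK LD1_c4 LD2_c20 LD3_c16)) :=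
  Lgr Lrot2 (Lpr_gt (K38.f266519 IH) (Lpe (K42.f255272 IH) (Lpr_af (K13.f31986 IH) (Lpn (LP (LK LD1_c4 LD2_c20 LD3_c16))))))
theorem f31797 : Led Lsl_bt (LP (LK LD1_c8 LD2_c38 LD3_c44)) = (LP (LK LD1_c4 LD2_c20 LD3_c27)) :=
  Lre_b IH (LK LD1_c8 LD2_c38 LD3_c44) (LK LD1_c4 LD2_c20 LD3_c27) Lrfl Lrfl
theorem f266531 : Led Lsl_ff (LP (LK LD1_c8 LD2_c38 LD3_c44)) = (LP (LK LD1_c8 LD2_c38 LD3_c25)) :=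
  Lgr Lrot25 (Lpr_bt (f31797 IH) (Lpr_ft (f266522 IH) (Lpr_bt (f31996 IH) (Lpn (LP (LK LD1_c8 LD2_c38 LD3_c25))))))
theorem f54249 : Led Lsl_at (LP (LK LD1_c8 LD2_c38 LD3_c44)) = (LP (LK LD1_c16 LD2_c11 LD3_c36)) :=
  Lre_a IH (LK LD1_c8 LD2_c38 LD3_c44) (LK LD1_c16 LD2_c11 LD3_c36) Lrfl Lrfl
theorem f266564 : Led Lsl_gf (LP (LK LD1_c16 LD2_c11 LD3_c36)) = (LP (LK LD1_c16 LD2_c10 LD3_c52)) :=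
  Lgr Lrot76 (Lpe (f54249 IH) (Lpr_ff (f266531 IH) (Lpr_gt (f266563 IH) (Lpn (LP (LK LD1_c16 LD2_c10 LD3_c52))))))
theorem f266553 : Led Lsl_at (LP (LK LD1_c16 LD2_c10 LD3_c54)) = (LP (LK LD1_c8 LD2_c38 LD3_c25)) :=
  Lre_a IH (LK LD1_c16 LD2_c10 LD3_c54) (LK LD1_c8 LD2_c38 LD3_c25) Lrfl Lrfl
theorem f266554 : Led Lsl_ft (LP (LK LD1_c16 LD2_c11 LD3_c36)) = (LP (LK LD1_c16 LD2_c10 LD3_c54)) :=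
  Lgr Lrot101 (Lpe (f54249 IH) (Lpr_ff (f266531 IH) (Lpe (f266553 IH) (Lpn (LP (LK LD1_c16 LD2_c10 LD3_c54))))))
theorem f182136 : Led Lsl_gt (LP (LK LD1_c16 LD2_c10 LD3_c53)) = (LP (LK LD1_c8 LD2_c38 LD3_c25)) :=
  Lre_g IH (LK LD1_c16 LD2_c10 LD3_c53) (LK LD1_c8 LD2_c38 LD3_c25) Lrfl Lrfl
theorem f266595 : Led Lsl_gt (LP (LK LD1_c16 LD2_c11 LD3_c36)) = (LP (LK LD1_c16 LD2_c10 LD3_c53)) :=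
  Lgr Lrot5 (Lpr_ft (f266554 IH) (Lpr_at (f266553 IH) (Lpe (f182136 IH) (Lpn (LP (LK LD1_c16 LD2_c10 LD3_c53))))))
theorem f602893 : Led Lsl_af (LP (LK LD1_c16 LD2_c10 LD3_c53)) = (LP (LK LD1_c16 LD2_c11 LD3_c37)) :=
  Lgr Lrot31 (Lpe (f266595 IH) (Lpr_gf (f266564 IH) (Lpr_ft (f602889 IH) (Lpn (LP (LK LD1_c16 LD2_c11 LD3_c37))))))
theorem f602895 : Led Lsl_at (LP (LK LD1_c16 LD2_c10 LD3_c53)) = (LP (LK LD1_c16 LD2_c11 LD3_c37)) :=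
  Lgr Lrot100 (Lpr_af (f602893 IH) (Lpn (LP (LK LD1_c16 LD2_c11 LD3_c37))))
theorem f602916 : Led Lsl_dt (LP (LK LD1_c18 LD2_c27 LD3_c48)) = (LP (LK LD1_c16 LD2_c10 LD3_c53)) :=
  Lgr Lrot44 (Lpr_af (f602912 IH) (Lpe (f602622 IH) (Lpe (f602895 IH) (Lpn (LP (LK LD1_c16 LD2_c10 LD3_c53))))))
theorem f602918 : Led Lsl_df (LP (LK LD1_c18 LD2_c27 LD3_c48)) = (LP (LK LD1_c16 LD2_c10 LD3_c53)) :=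
  Lgr Lrot38 (Lpr_dt (f602916 IH) (Lpn (LP (LK LD1_c16 LD2_c10 LD3_c53))))
theorem f31817 : Led Lsl_gt (LP (LK LD1_c16 LD2_c11 LD3_c38)) = (LP (LK LD1_c8 LD2_c38 LD3_c44)) :=
  Lre_g IH (LK LD1_c16 LD2_c11 LD3_c38) (LK LD1_c8 LD2_c38 LD3_c44) Lrfl Lrfl
theorem f602902 : Led Lsl_ff (LP (LK LD1_c16 LD2_c10 LD3_c53)) = (LP (LK LD1_c16 LD2_c11 LD3_c38)) :=
  Lgr Lrot52 (Lpr_at (f602895 IH) (Lpe (f31818 IH) (Lpe (f31817 IH) (Lpn (LP (LK LD1_c16 LD2_c11 LD3_c38))))))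
theorem f602930 : Led Lsl_df (LP (LK LD1_c16 LD2_c11 LD3_c38)) = (LP (LK LD1_c18 LD2_c18 LD3_c16)) :=
  Lgr Lrot78 (Lpe (f602902 IH) (Lpe (f602918 IH) (Lpr_ft (f602926 IH) (Lpn (LP (LK LD1_c18 LD2_c18 LD3_c16))))))
theorem f54121 : Led Lsl_ct (LP (LK LD1_c5 LD2_c0 LD3_c43)) = (LP (LK LD1_c9 LD2_c51 LD3_c42)) :=
  Lre_c IH (LK LD1_c5 LD2_c0 LD3_c43) (LK LD1_c9 LD2_c51 LD3_c42) Lrfl Lrfl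
theorem f54122 : Led Lsl_et (LP (LK LD1_c4 LD2_c20 LD3_c26)) = (LP (LK LD1_c5 LD2_c0 LD3_c43)) :=
  Lgr Lrot158 (Lpe (K39.f54120 IH) (Lpr_ef (K12.f54096 IH) (Lpe (f54121 IH) (Lpn (LP (LK LD1_c5 LD2_c0 LD3_c43))))))
theorem f417826 : Led Lsl_df (LP (LK LD1_c19 LD2_c47 LD3_c35)) = (LP (LK LD1_c11 LD2_c5 LD3_c38)) :=
  Lgr Lrot38 (Lpr_dt (K54.f417819 IH) (Lpn (LP (LK LD1_c11 LD2_c5 LD3_c38))))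
theorem f417839 : Led Lsl_bt (LP (LK LD1_c19 LD2_c47 LD3_c35)) = (LP (LK LD1_c29 LD2_c5 LD3_c56)) :=
  Lre_b IH (LK LD1_c19 LD2_c47 LD3_c35) (LK LD1_c29 LD2_c5 LD3_c56) Lrfl Lrfl
theorem f417844 : Led Lsl_dt (LP (LK LD1_c29 LD2_c5 LD3_c56)) = (LP (LK LD1_c19 LD2_c58 LD3_c47)) :=
  Lgr Lrot79 (Lpe (f417839 IH) (Lpr_df (f417826 IH) (Lpe (K40.f226499 IH) (Lpn (LP (LK LD1_c19 LD2_c58 LD3_c47))))))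
theorem f385027 : Led Lsl_ft (LP (LK LD1_c19 LD2_c32 LD3_c49)) = (LP (LK LD1_c19 LD2_c55 LD3_c29)) :=
  Lgr Lrot48 (Lpr_ff (K31.f385021 IH) (Lpn (LP (LK LD1_c19 LD2_c55 LD3_c29))))
theorem f385031 : Led Lsl_bf (LP (LK LD1_c11 LD2_c5 LD3_c23)) = (LP (LK LD1_c19 LD2_c55 LD3_c29)) :=
  Lgr Lrot61 (Lpr_ft (K30.f384378 IH) (Lpr_bt (K30.f226823 IH) (Lpr_ft (f385027 IH) (Lpn (LP (LK LD1_c19 LD2_c55 LD3_c29))))))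
theorem f385039 : Led Lsl_dt (LP (LK LD1_c26 LD2_c34 LD3_c59)) = (LP (LK LD1_c19 LD2_c55 LD3_c29)) :=
  Lgr Lrot79 (Lpe (K30.f332642 IH) (Lpe (K30.f244286 IH) (Lpr_bf (f385031 IH) (Lpn (LP (LK LD1_c19 LD2_c55 LD3_c29))))))
theorem f385041 : Led Lsl_df (LP (LK LD1_c26 LD2_c34 LD3_c59)) = (LP (LK LD1_c19 LD2_c55 LD3_c29)) :=
  Lgr Lrot38 (Lpr_dt (f385039 IH) (Lpn (LP (LK LD1_c19 LD2_c55 LD3_c29))))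
theorem f334187 : Led Lsl_dt (LP (LK LD1_c16 LD2_c37 LD3_c37)) = (LP (LK LD1_c8 LD2_c53 LD3_c30)) :=
  Lre_d IH (LK LD1_c16 LD2_c37 LD3_c37) (LK LD1_c8 LD2_c53 LD3_c30) Lrfl Lrfl
theorem f317094 : Led Lsl_at (LP (LK LD1_c16 LD2_c50 LD3_c6)) = (LP (LK LD1_c9 LD2_c0 LD3_c36)) :=
  Lre_a IH (LK LD1_c16 LD2_c50 LD3_c6) (LK LD1_c9 LD2_c0 LD3_c36) Lrfl Lrfl
theorem f317096 : Led Lsl_ff (LP (LK LD1_c16 LD2_c50 LD3_c6)) = (LP (LK LD1_c11 LD2_c3 LD3_c17)) :=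
  Lgr Lrot30 (Lpr_at (f317094 IH) (Lpr_ft (K20.f317090 IH) (Lpr_at (K31.f317095 IH) (Lpn (LP (LK LD1_c11 LD2_c3 LD3_c17))))))
theorem f317106 : Led Lsl_dt (LP (LK LD1_c11 LD2_c3 LD3_c17)) = (LP (LK LD1_c19 LD2_c55 LD3_c0)) :=
  Lre_d IH (LK LD1_c11 LD2_c3 LD3_c17) (LK LD1_c19 LD2_c55 LD3_c0) Lrfl Lrfl
theorem f417846 : Led Lsl_cf (LP (LK LD1_c29 LD2_c5 LD3_c56)) = (LP (LK LD1_c19 LD2_c55 LD3_c0)) :=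
  Lgr Lrot118 (Lpr_dt (f417844 IH) (Lpr_ct (K40.f385025 IH) (Lpe (f385041 IH) (Lpr_ct (K30.f278696 IH) (Lpr_dt (f334187 IH) (Lpe (K30.f334174 IH) (Lpe (f317094 IH) (Lpr_ff (f317096 IH) (Lpr_dt (f317106 IH) (Lpn (LP (LK LD1_c19 LD2_c55 LD3_c0))))))))))))
theorem f417850 : Led Lsl_ct (LP (LK LD1_c29 LD2_c5 LD3_c56)) = (LP (LK LD1_c19 LD2_c55 LD3_c0)) :=
  Lgr Lrot59 (Lpr_cf (f417846 IH) (Lpn (LP (LK LD1_c19 LD2_c55 LD3_c0))))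
theorem f417823 : Led Lsl_bt (LP (LK LD1_c29 LD2_c5 LD3_c56)) = (LP (LK LD1_c19 LD2_c47 LD3_c35)) :=
  Lre_b IH (LK LD1_c29 LD2_c5 LD3_c56) (LK LD1_c19 LD2_c47 LD3_c35) Lrfl Lrfl
theorem f417854 : Led Lsl_gt (LP (LK LD1_c18 LD2_c3 LD3_c7)) = (LP (LK LD1_c19 LD2_c55 LD3_c0)) :=
  Lgr Lrot65 (Lpr_cf (K20.f277996 IH) (Lpr_bt (K20.f277989 IH) (Lpe (K16.f177953 IH) (Lpe (K19.f278003 IH) (Lpr_ct (K40.f226670 IH) (Lpe (K54.f399960 IH) (Lpe (K54.f387505 IH) (Lpe (K54.f417830 IH) (Lpe (f417823 IH) (Lpr_ct (f417850 IH) (Lpn (LP (LK LD1_c19 LD2_c55 LD3_c0)))))))))))))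
theorem f334268 : Led Lsl_et (LP (LK LD1_c11 LD2_c3 LD3_c17)) = (LP (LK LD1_c19 LD2_c55 LD3_c1)) :=
  Lre_e IH (LK LD1_c11 LD2_c3 LD3_c17) (LK LD1_c19 LD2_c55 LD3_c1) Lrfl Lrfl
theorem f602936 : Led Lsl_gt (LP (LK LD1_c19 LD2_c55 LD3_c1)) = (LP (LK LD1_c27 LD2_c57 LD3_c0)) :=
  Lgr Lrot131 (Lpe (f334268 IH) (Lpr_dt (f317106 IH) (Lpe (f417854 IH) (Lpe (K20.f54269 IH) (Lpe (K20.f54268 IH) (Lpe (f54122 IH) (Lpr_dt (K12.f54157 IH) (Lpe (f31817 IH) (Lpr_df (f602930 IH) (Lpr_et (f602932 IH) (Lpn (LP (LK LD1_c27 LD2_c57 LD3_c0)))))))))))))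
theorem f334269 : Led Lsl_ft (LP (LK LD1_c19 LD2_c55 LD3_c1)) = (LP (LK LD1_c29 LD2_c10 LD3_c46)) :=
  Lre_f IH (LK LD1_c19 LD2_c55 LD3_c1) (LK LD1_c29 LD2_c10 LD3_c46) Lrfl Lrfl
theorem f317082 : Led Lsl_at (LP (LK LD1_c29 LD2_c10 LD3_c46)) = (LP (LK LD1_c19 LD2_c55 LD3_c9)) :=
  Lre_a IH (LK LD1_c29 LD2_c10 LD3_c46) (LK LD1_c19 LD2_c55 LD3_c9) Lrfl Lrfl
theorem f602938 : Led Lsl_gf (LP (LK LD1_c19 LD2_c55 LD3_c9)) = (LP (LK LD1_c27 LD2_c57 LD3_c0)) :=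
  Lgr Lrot76 (Lpe (f317082 IH) (Lpe (f334269 IH) (Lpr_gt (f602936 IH) (Lpn (LP (LK LD1_c27 LD2_c57 LD3_c0))))))
theorem f317085 : Led Lsl_ct (LP (LK LD1_c29 LD2_c10 LD3_c39)) = (LP (LK LD1_c19 LD2_c55 LD3_c9)) :=
  Lre_c IH (LK LD1_c29 LD2_c10 LD3_c39) (LK LD1_c19 LD2_c55 LD3_c9) Lrfl Lrfl
theorem f329768 : Led Lsl_bt (LP (LK LD1_c29 LD2_c10 LD3_c39)) = (LP (LK LD1_c19 LD2_c54 LD3_c57)) :=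
  Lre_b IH (LK LD1_c29 LD2_c10 LD3_c39) (LK LD1_c19 LD2_c54 LD3_c57) Lrfl Lrfl
theorem f329753 : Led Lsl_ct (LP (LK LD1_c11 LD2_c53 LD3_c8)) = (LP (LK LD1_c6 LD2_c4 LD3_c55)) :=
  Lre_c IH (LK LD1_c11 LD2_c53 LD3_c8) (LK LD1_c6 LD2_c4 LD3_c55) Lrfl Lrfl
theorem f225882 : Led Lsl_ct (LP (LK LD1_c8 LD2_c53 LD3_c29)) = (LP (LK LD1_c4 LD2_c27 LD3_c49)) :=
  Lre_c IH (LK LD1_c8 LD2_c53 LD3_c29) (LK LD1_c4 LD2_c27 LD3_c49) Lrfl Lrfl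
theorem f225861 : Led Lsl_gt (LP (LK LD1_c16 LD2_c37 LD3_c29)) = (LP (LK LD1_c26 LD2_c34 LD3_c48)) :=
  Lre_g IH (LK LD1_c16 LD2_c37 LD3_c29) (LK LD1_c26 LD2_c34 LD3_c48) Lrfl Lrfl
theorem f603014 : Led Lsl_bt (LP (LK LD1_c29 LD2_c47 LD3_c20)) = (LP (LK LD1_c26 LD2_c34 LD3_c48)) :=
  Lgr Lrot92 (Lpr_ct (f603012 IH) (Lpe (f602938 IH) (Lpe (f317085 IH) (Lpr_bt (f329768 IH) (Lpr_gt (K22.f329765 IH) (Lpr_ct (f329753 IH) (Lpr_gt (K21.f330403 IH) (Lpe (f225882 IH) (Lpr_bt (K30.f225846 IH) (Lpr_gt (f225861 IH) (Lpn (LP (LK LD1_c26 LD2_c34 LD3_c48)))))))))))))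
theorem f265200 : Led Lsl_et (LP (LK LD1_c20 LD2_c58 LD3_c26)) = (LP (LK LD1_c29 LD2_c47 LD3_c20)) :=
  Lre_e IH (LK LD1_c20 LD2_c58 LD3_c26) (LK LD1_c29 LD2_c47 LD3_c20) Lrfl Lrfl
theorem f184639 : Led Lsl_bt (LP (LK LD1_c5 LD2_c6 LD3_c16)) = (LP (LK LD1_c10 LD2_c3 LD3_c33)) :=
  Lre_b IH (LK LD1_c5 LD2_c6 LD3_c16) (LK LD1_c10 LD2_c3 LD3_c33) Lrfl Lrfl
theorem f603008 : Led Lsl_bt (LP (LK LD1_c20 LD2_c58 LD3_c26)) = (LP (LK LD1_c18 LD2_c22 LD3_c13)) :=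
  Lgr Lrot92 (Lpr_ct (f603002 IH) (Lpr_gt (f279855 IH) (Lpe (f279828 IH) (Lpr_bt (f274082 IH) (Lpr_gt (K16.f42598 IH) (Lpr_ct (K16.f42499 IH) (Lpe (K10.f184633 IH) (Lpe (K15.f184638 IH) (Lpr_bt (f184639 IH) (Lpr_gt (f184640 IH) (Lpn (LP (LK LD1_c18 LD2_c22 LD3_c13)))))))))))))
theorem f603010 : Led Lsl_bf (LP (LK LD1_c20 LD2_c58 LD3_c26)) = (LP (LK LD1_c18 LD2_c22 LD3_c13)) :=
  Lgr Lrot24 (Lpr_bt (f603008 IH) (Lpn (LP (LK LD1_c18 LD2_c22 LD3_c13))))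
theorem f603018 : Led Lsl_ef (LP (LK LD1_c18 LD2_c22 LD3_c13)) = (LP (LK LD1_c26 LD2_c34 LD3_c48)) :=
  Lgr Lrot29 (Lpe (f603010 IH) (Lpr_et (f265200 IH) (Lpr_bt (f603014 IH) (Lpn (LP (LK LD1_c26 LD2_c34 LD3_c48))))))
theorem f603020 : Led Lsl_et (LP (LK LD1_c18 LD2_c22 LD3_c13)) = (LP (LK LD1_c26 LD2_c34 LD3_c48)) :=
  Lgr Lrot87 (Lpr_ef (f603018 IH) (Lpn (LP (LK LD1_c26 LD2_c34 LD3_c48))))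
theorem f8799 : Led Lsl_ef (LP (LK LD1_c4 LD2_c28 LD3_c32)) = (LP (LK LD1_c6 LD2_c5 LD3_c17)) :=
  Lgr Lrot28 (Lpr_ct (K27.f8797 IH) (Lpr_et (K0.f8773 IH) (Lpr_ct (K10.f8798 IH) (Lpn (LP (LK LD1_c6 LD2_c5 LD3_c17))))))
theorem f195259 : Led Lsl_dt (LP (LK LD1_c6 LD2_c5 LD3_c17)) = (LP (LK LD1_c11 LD2_c54 LD3_c6)) :=
  Lre_d IH (LK LD1_c6 LD2_c5 LD3_c17) (LK LD1_c11 LD2_c54 LD3_c6) Lrfl Lrfl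
theorem f195281 : Led Lsl_gt (LP (LK LD1_c20 LD2_c58 LD3_c6)) = (LP (LK LD1_c11 LD2_c54 LD3_c6)) :=
  Lre_g IH (LK LD1_c20 LD2_c58 LD3_c6) (LK LD1_c11 LD2_c54 LD3_c6) Lrfl Lrfl
theorem f603022 : Led Lsl_dt (LP (LK LD1_c18 LD2_c22 LD3_c13)) = (LP (LK LD1_c20 LD2_c58 LD3_c6)) :=
  Lgr Lrot136 (Lpr_et (f603020 IH) (Lpe (f225861 IH) (Lpe (K30.f225858 IH) (Lpr_dt (K67.f225910 IH) (Lpe (K30.f384618 IH) (Lpe (K27.f290389 IH) (Lpr_gf (K27.f290403 IH) (Lpr_ef (f8799 IH) (Lpr_dt (f195259 IH) (Lpe (f195281 IH) (Lpn (LP (LK LD1_c20 LD2_c58 LD3_c6)))))))))))))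
theorem f195298 : Led Lsl_dt (LP (LK LD1_c11 LD2_c54 LD3_c6)) = (LP (LK LD1_c6 LD2_c5 LD3_c17)) :=
  Lre_d IH (LK LD1_c11 LD2_c54 LD3_c6) (LK LD1_c6 LD2_c5 LD3_c17) Lrfl Lrfl
theorem f195257 : Led Lsl_ct (LP (LK LD1_c6 LD2_c5 LD3_c17)) = (LP (LK LD1_c2 LD2_c59 LD3_c29)) :=
  Lre_c IH (LK LD1_c6 LD2_c5 LD3_c17) (LK LD1_c2 LD2_c59 LD3_c29) Lrfl Lrfl
theorem f8838 : Led Lsl_dt (LP (LK LD1_c6 LD2_c6 LD3_c45)) = (LP (LK LD1_c2 LD2_c59 LD3_c29)) :=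
  Lre_d IH (LK LD1_c6 LD2_c6 LD3_c45) (LK LD1_c2 LD2_c59 LD3_c29) Lrfl Lrfl
theorem f721900 : Led Lsl_df v13103 = v14318 :=
  Lgr Lrot153 (Lpe (f701127 IH) (Lpr_dt (f8838 IH) (Lpe (f195257 IH) (Lpe (f195298 IH) (Lpe (f195281 IH) (Lpe (f603022 IH) (Lpe (f184640 IH) (Lpe (f198724 IH) (Lpr_gt (f721899 IH) (Lpn v14318))))))))))
theorem f304276 : Led Lsl_et (LP (LK LD1_c10 LD2_c3 LD3_c51)) = (LP (LK LD1_c5 LD2_c6 LD3_c27)) :=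
  Lre_e IH (LK LD1_c10 LD2_c3 LD3_c51) (LK LD1_c5 LD2_c6 LD3_c27) Lrfl Lrfl
theorem f198770 : Led Lsl_bt (LP (LK LD1_c5 LD2_c6 LD3_c26)) = (LP (LK LD1_c10 LD2_c3 LD3_c51)) :=
  Lre_b IH (LK LD1_c5 LD2_c6 LD3_c26) (LK LD1_c10 LD2_c3 LD3_c51) Lrfl Lrfl
theorem f320136 : Led Lsl_bt (LP (LK LD1_c10 LD2_c58 LD3_c39)) = (LP (LK LD1_c5 LD2_c33 LD3_c21)) :=
  Lre_b IH (LK LD1_c10 LD2_c58 LD3_c39) (LK LD1_c5 LD2_c33 LD3_c21) Lrfl Lrfl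
theorem f320137 : Led Lsl_dt (LP (LK LD1_c10 LD2_c3 LD3_c51)) = (LP (LK LD1_c10 LD2_c58 LD3_c39)) :=
  Lgr Lrot79 (Lpe (f198770 IH) (Lpr_df (K20.f320113 IH) (Lpe (f320136 IH) (Lpn (LP (LK LD1_c10 LD2_c58 LD3_c39))))))
theorem f697992 : Led Lsl_dt (LP (LK LD1_c8 LD2_c58 LD3_c56)) = (LP (LK LD1_c16 LD2_c48 LD3_c4)) :=
  Lre_d IH (LK LD1_c8 LD2_c58 LD3_c56) (LK LD1_c16 LD2_c48 LD3_c4) Lrfl Lrfl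
theorem f890644 : Led Lsl_gf (LP (LK LD1_c10 LD2_c58 LD3_c39)) = (LP (LK LD1_c16 LD2_c48 LD3_c4)) :=
  Lgr Lrot145 (Lpe (f320137 IH) (Lpr_et (f304276 IH) (Lpr_gt (f721899 IH) (Lpe (f721900 IH) (Lpe (f701127 IH) (Lpe (K0.f8803 IH) (Lpe (f8746 IH) (Lpqs (f890610 IH) (Lpe (f698002 IH) (Lpe (f697991 IH) (Lpr_dt (f697992 IH) (Lpn (LP (LK LD1_c16 LD2_c48 LD3_c4))))))))))))))
theorem f890645 : Led Lsl_gt (LP (LK LD1_c16 LD2_c48 LD3_c4)) = (LP (LK LD1_c10 LD2_c58 LD3_c39)) :=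
  Leop (Lpr_gf (f890644 IH) (Lpn (LP (LK LD1_c16 LD2_c48 LD3_c4))))
theorem seed_2127 : LEOK LG_g (LK LD1_c16 LD2_c48 LD3_c4) :=
  Leoe_g (LK LD1_c16 LD2_c48 LD3_c4) (f890645 IH)
def v12756 : LQ := Led Lsl_ft (LP (LK LD1_c4 LD2_c30 LD3_c21))
theorem f698026 : Led Lsl_ft (LP (LK LD1_c4 LD2_c30 LD3_c21)) = v12756 :=
  Lrfl
theorem f169313 : Led Lsl_ct (LP (LK LD1_c8 LD2_c58 LD3_c57)) = (LP (LK LD1_c4 LD2_c30 LD3_c21)) :=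
  Lre_c IH (LK LD1_c8 LD2_c58 LD3_c57) (LK LD1_c4 LD2_c30 LD3_c21) Lrfl Lrfl
def v14025 : LQ := Led Lsl_ct (LP (LK LD1_c4 LD2_c55 LD3_c41))
theorem f718640 : Led Lsl_ct (LP (LK LD1_c4 LD2_c55 LD3_c41)) = v14025 :=
  Lrfl
theorem f718641 : Led Lsl_cf (LP (LK LD1_c4 LD2_c55 LD3_c41)) = v14025 :=
  Lgr Lrot11 (Lpr_ct (f718640 IH) (Lpn v14025))
theorem f168740 : Led Lsl_gt (LP (LK LD1_c4 LD2_c55 LD3_c41)) = (LP (LK LD1_c2 LD2_c25 LD3_c40)) :=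
  Lre_g IH (LK LD1_c4 LD2_c55 LD3_c41) (LK LD1_c2 LD2_c25 LD3_c40) Lrfl Lrfl
theorem f41021 : Led Lsl_ct (LP (LK LD1_c1 LD2_c10 LD3_c7)) = (LP (LK LD1_c2 LD2_c25 LD3_c40)) :=
  Lre_c IH (LK LD1_c1 LD2_c10 LD3_c7) (LK LD1_c2 LD2_c25 LD3_c40) Lrfl Lrfl
theorem f41058 : Led Lsl_bt (LP (LK LD1_c1 LD2_c10 LD3_c7)) = (LP (LK LD1_c0 LD2_c32 LD3_c26)) :=
  Lre_b IH (LK LD1_c1 LD2_c10 LD3_c7) (LK LD1_c0 LD2_c32 LD3_c26) Lrfl Lrfl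
theorem f718642 : Led Lsl_bf v4169 = v14025 :=
  Lgr Lrot34 (Lpe (f631599 IH) (Lpe (f173043 IH) (Lpr_ct (K9.f44739 IH) (Lpe (K9.f172859 IH) (Lpe (K9.f172860 IH) (Lpe (K9.f172861 IH) (Lpe (f41058 IH) (Lpr_ct (f41021 IH) (Lpe (f168740 IH) (Lpr_cf (f718641 IH) (Lpn v14025)))))))))))
theorem f718643 : Led Lsl_bt v4169 = v14025 :=
  Lgr Lrot127 (Lpr_bf (f718642 IH) (Lpn v14025))
theorem f698028 : Led Lsl_ff (LP (LK LD1_c4 LD2_c30 LD3_c21)) = v12756 :=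
  Lgr Lrot3 (Lpr_ft (f698026 IH) (Lpn v12756))
theorem f631591 : Led Lsl_ft (LP (LK LD1_c2 LD2_c12 LD3_c10)) = (LP (LK LD1_c4 LD2_c30 LD3_c25)) :=
  Lre_f IH (LK LD1_c2 LD2_c12 LD3_c10) (LK LD1_c4 LD2_c30 LD3_c25) Lrfl Lrfl
theorem f698029 : Led Lsl_bt (LP (LK LD1_c4 LD2_c30 LD3_c25)) = v12756 :=
  Lgr Lrot35 (Lpe (f631591 IH) (Lpe (K9.f169306 IH) (Lpr_ff (f698028 IH) (Lpn v12756))))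
theorem f890614 : v14025 = v12756 :=
  Lefun (Lecon (f718643 IH) (f890606 IH).symm) (f698029 IH)
def v14021 : LQ := Led Lsl_at (LP (LK LD1_c4 LD2_c55 LD3_c40))
theorem f718622 : Led Lsl_at (LP (LK LD1_c4 LD2_c55 LD3_c40)) = v14021 :=
  Lrfl
theorem f718623 : Led Lsl_af (LP (LK LD1_c4 LD2_c55 LD3_c40)) = v14021 :=
  Lgr Lrot0 (Lpr_at (f718622 IH) (Lpn v14021))
theorem f718625 : Led Lsl_ft (LP (LK LD1_c4 LD2_c55 LD3_c41)) = v14021 :=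
  Lgr Lrot2 (Lpr_gt (f168740 IH) (Lpr_gt (K12.f168114 IH) (Lpr_af (f718623 IH) (Lpn v14021))))
theorem f890965 : (LP (LK LD1_c8 LD2_c58 LD3_c57)) = v14021 :=
  (Llr Lrot108 (Lpr_ct (f169313 IH) (Lpr_ft (f698026 IH) (Lpq (f890614 IH) (Lpe (f718641 IH) (Lpr_ft (f718625 IH) (Lpn v14021))))))).symm
theorem f890966 : Led Lsl_at (LP (LK LD1_c8 LD2_c58 LD3_c57)) = (LP (LK LD1_c4 LD2_c55 LD3_c40)) :=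
  Leop (Lpr_af (f718623 IH) (Lpq (f890965 IH) (Lpn (LP (LK LD1_c8 LD2_c58 LD3_c57)))))
theorem seed_2128 : LEOK LG_a (LK LD1_c8 LD2_c58 LD3_c57) :=
  Leoe_a (LK LD1_c8 LD2_c58 LD3_c57) (f890966 IH)
def v36879 : LQ := Led Lsl_at (LP (LK LD1_c8 LD2_c37 LD3_c7))
theorem f891099 : Led Lsl_at (LP (LK LD1_c8 LD2_c37 LD3_c7)) = v36879 :=
  Lrfl
theorem f261114 : Led Lsl_bt (LP (LK LD1_c8 LD2_c37 LD3_c7)) = (LP (LK LD1_c4 LD2_c19 LD3_c24)) :=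
  Lre_b IH (LK LD1_c8 LD2_c37 LD3_c7) (LK LD1_c4 LD2_c19 LD3_c24) Lrfl Lrfl
theorem f261121 : Led Lsl_cf (LP (LK LD1_c8 LD2_c37 LD3_c7)) = (LP (LK LD1_c8 LD2_c25 LD3_c10)) :=
  Lgr Lrot97 (Lpr_bt (f261114 IH) (Lpr_ct (K15.f261096 IH) (Lpr_bt (K15.f261112 IH) (Lpr_ct (K14.f251907 IH) (Lpr_bt (f251946 IH) (Lpn (LP (LK LD1_c8 LD2_c25 LD3_c10))))))))
theorem f891102 : Led Lsl_cf (LP (LK LD1_c15 LD2_c49 LD3_c17)) = v36879 :=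
  Lgr Lrot1 (Lpr_at (f261123 IH) (Lpe (f261121 IH) (Lpr_at (f891099 IH) (Lpn v36879))))
theorem f251929 : Led Lsl_bt (LP (LK LD1_c8 LD2_c25 LD3_c10)) = (LP (LK LD1_c4 LD2_c12 LD3_c58)) :=
  Lre_b IH (LK LD1_c8 LD2_c25 LD3_c10) (LK LD1_c4 LD2_c12 LD3_c58) Lrfl Lrfl
theorem f251930 : Led Lsl_ft (LP (LK LD1_c8 LD2_c35 LD3_c60)) = (LP (LK LD1_c8 LD2_c25 LD3_c10)) :=
  Lgr Lrot75 (Lpe (f246657 IH) (Lpr_ff (K14.f251923 IH) (Lpe (f251929 IH) (Lpn (LP (LK LD1_c8 LD2_c25 LD3_c10))))))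
theorem f261132 : Led Lsl_at (LP (LK LD1_c8 LD2_c25 LD3_c10)) = (LP (LK LD1_c15 LD2_c49 LD3_c17)) :=
  Lre_a IH (LK LD1_c8 LD2_c25 LD3_c10) (LK LD1_c15 LD2_c49 LD3_c17) Lrfl Lrfl
theorem f417475 : Led Lsl_gt (LP (LK LD1_c16 LD2_c7 LD3_c18)) = (LP (LK LD1_c15 LD2_c49 LD3_c17)) :=
  Lgr Lrot46 (Lpe (f407356 IH) (Lpr_ft (f251930 IH) (Lpr_at (f261132 IH) (Lpn (LP (LK LD1_c15 LD2_c49 LD3_c17))))))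
theorem f407533 : Led Lsl_ct (LP (LK LD1_c26 LD2_c3 LD3_c59)) = (LP (LK LD1_c16 LD2_c7 LD3_c18)) :=
  Lre_c IH (LK LD1_c26 LD2_c3 LD3_c59) (LK LD1_c16 LD2_c7 LD3_c18) Lrfl Lrfl
theorem f261097 : Led Lsl_bt (LP (LK LD1_c4 LD2_c19 LD3_c24)) = (LP (LK LD1_c8 LD2_c37 LD3_c7)) :=
  Lre_b IH (LK LD1_c4 LD2_c19 LD3_c24) (LK LD1_c8 LD2_c37 LD3_c7) Lrfl Lrfl
theorem f261105 : Led Lsl_at (LP (LK LD1_c2 LD2_c7 LD3_c11)) = (LP (LK LD1_c4 LD2_c19 LD3_c24)) :=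
  Lre_a IH (LK LD1_c2 LD2_c7 LD3_c11) (LK LD1_c4 LD2_c19 LD3_c24) Lrfl Lrfl
theorem f694941 : Led Lsl_af (LP (LK LD1_c4 LD2_c19 LD3_c35)) = K50.v12630 :=
  Lgr Lrot0 (Lpr_at (K50.f694940 IH) (Lpn K50.v12630))
theorem f891101 : Led Lsl_bf K50.v12630 = v36879 :=
  Lgr Lrot81 (Lpe (f694941 IH) (Lpr_bt (K50.f260865 IH) (Lpr_at (f261105 IH) (Lpr_bt (f261097 IH) (Lpr_at (f891099 IH) (Lpn v36879))))))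
theorem f692058 : Led Lsl_bt (LP (LK LD1_c15 LD2_c48 LD3_c28)) = (LP (LK LD1_c8 LD2_c24 LD3_c30)) :=
  Lre_b IH (LK LD1_c15 LD2_c48 LD3_c28) (LK LD1_c8 LD2_c24 LD3_c30) Lrfl Lrfl
theorem f319604 : Led Lsl_bt (LP (LK LD1_c15 LD2_c47 LD3_c57)) = (LP (LK LD1_c25 LD2_c44 LD3_c36)) :=
  Lre_b IH (LK LD1_c15 LD2_c47 LD3_c57) (LK LD1_c25 LD2_c44 LD3_c36) Lrfl Lrfl
theorem f891110 : Led Lsl_gf (LP (LK LD1_c26 LD2_c3 LD3_c59)) = (LP (LK LD1_c25 LD2_c44 LD3_c36)) :=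
  Lgr Lrot181 (Lpr_ct (f407533 IH) (Lpr_gt (f417475 IH) (Lpr_cf (f891102 IH) (Lpe (f891101 IH) (Lpe (K50.f694947 IH) (Lpe (f692058 IH) (Lpr_ct (K49.f692053 IH) (Lpe (K50.f382739 IH) (Lpr_cf (K30.f319607 IH) (Lpr_bt (f319604 IH) (Lpn (LP (LK LD1_c25 LD2_c44 LD3_c36)))))))))))))
theorem f891111 : Led Lsl_gt (LP (LK LD1_c25 LD2_c44 LD3_c36)) = (LP (LK LD1_c26 LD2_c3 LD3_c59)) :=
  Leop (Lpr_gf (f891110 IH) (Lpn (LP (LK LD1_c25 LD2_c44 LD3_c36))))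
theorem seed_2129 : LEOK LG_g (LK LD1_c25 LD2_c44 LD3_c36) :=
  Leoe_g (LK LD1_c25 LD2_c44 LD3_c36) (f891111 IH)
def v36882 : LQ := Led Lsl_at (LP (LK LD1_c8 LD2_c37 LD3_c20))
theorem f891124 : Led Lsl_at (LP (LK LD1_c8 LD2_c37 LD3_c20)) = v36882 :=
  Lrfl
theorem f237188 : Led Lsl_at (LP (LK LD1_c15 LD2_c48 LD3_c17)) = (LP (LK LD1_c8 LD2_c24 LD3_c23)) :=
  Lre_a IH (LK LD1_c15 LD2_c48 LD3_c17) (LK LD1_c8 LD2_c24 LD3_c23) Lrfl Lrfl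
theorem f891128 : Led Lsl_ff (LP (LK LD1_c15 LD2_c48 LD3_c17)) = v36882 :=
  Lgr Lrot30 (Lpr_at (f237188 IH) (Lpe (K38.f411582 IH) (Lpr_at (f891124 IH) (Lpn v36882))))
theorem f237192 : Led Lsl_gt (LP (LK LD1_c15 LD2_c48 LD3_c16)) = (LP (LK LD1_c8 LD2_c24 LD3_c23)) :=
  Lre_g IH (LK LD1_c15 LD2_c48 LD3_c16) (LK LD1_c8 LD2_c24 LD3_c23) Lrfl Lrfl
theorem f891134 : Led Lsl_gf (LP (LK LD1_c15 LD2_c48 LD3_c16)) = v36882 :=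
  Lgr Lrot47 (Lpr_gt (f237192 IH) (Lpe (f237188 IH) (Lpr_ff (f891128 IH) (Lpn v36882))))
theorem f237204 : Led Lsl_dt (LP (LK LD1_c15 LD2_c48 LD3_c16)) = (LP (LK LD1_c25 LD2_c45 LD3_c0)) :=
  Lre_d IH (LK LD1_c15 LD2_c48 LD3_c16) (LK LD1_c25 LD2_c45 LD3_c0) Lrfl Lrfl
theorem f237181 : Led Lsl_at (LP (LK LD1_c8 LD2_c24 LD3_c23)) = (LP (LK LD1_c15 LD2_c48 LD3_c17)) :=
  Lre_a IH (LK LD1_c8 LD2_c24 LD3_c23) (LK LD1_c15 LD2_c48 LD3_c17) Lrfl Lrfl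
theorem f237182 : Led Lsl_at (LP (LK LD1_c15 LD2_c19 LD3_c5)) = (LP (LK LD1_c8 LD2_c8 LD3_c8)) :=
  Lre_a IH (LK LD1_c15 LD2_c19 LD3_c5) (LK LD1_c8 LD2_c8 LD3_c8) Lrfl Lrfl
theorem f237183 : Led Lsl_ct (LP (LK LD1_c15 LD2_c48 LD3_c17)) = (LP (LK LD1_c15 LD2_c19 LD3_c5)) :=
  Lgr Lrot111 (Lpe (f237181 IH) (Lpr_cf (K38.f237177 IH) (Lpe (f237182 IH) (Lpn (LP (LK LD1_c15 LD2_c19 LD3_c5))))))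
theorem f411572 : Led Lsl_at (LP (LK LD1_c8 LD2_c40 LD3_c33)) = (LP (LK LD1_c16 LD2_c14 LD3_c53)) :=
  Lre_a IH (LK LD1_c8 LD2_c40 LD3_c33) (LK LD1_c16 LD2_c14 LD3_c53) Lrfl Lrfl
theorem f411576 : Led Lsl_ft (LP (LK LD1_c16 LD2_c14 LD3_c53)) = (LP (LK LD1_c15 LD2_c19 LD3_c5)) :=
  Lgr Lrot101 (Lpe (f411572 IH) (Lpr_ff (K38.f411566 IH) (Lpe (f237182 IH) (Lpn (LP (LK LD1_c15 LD2_c19 LD3_c5))))))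
theorem f411590 : Led Lsl_ff (LP (LK LD1_c16 LD2_c14 LD3_c53)) = (LP (LK LD1_c15 LD2_c19 LD3_c5)) :=
  Lgr Lrot3 (Lpr_ft (f411576 IH) (Lpn (LP (LK LD1_c15 LD2_c19 LD3_c5))))
theorem f891132 : Led Lsl_ct (LP (LK LD1_c16 LD2_c14 LD3_c53)) = v36882 :=
  Lgr Lrot40 (Lpr_ff (f411590 IH) (Lpe (f237183 IH) (Lpr_ff (f891128 IH) (Lpn v36882))))
theorem f236998 : Led Lsl_gt (LP (LK LD1_c15 LD2_c19 LD3_c4)) = (LP (LK LD1_c8 LD2_c8 LD3_c8)) :=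
  Lre_g IH (LK LD1_c15 LD2_c19 LD3_c4) (LK LD1_c8 LD2_c8 LD3_c8) Lrfl Lrfl
theorem f411592 : Led Lsl_gt (LP (LK LD1_c16 LD2_c14 LD3_c53)) = (LP (LK LD1_c15 LD2_c19 LD3_c4)) :=
  Lgr Lrot5 (Lpr_ft (f411576 IH) (Lpr_at (f237182 IH) (Lpe (f236998 IH) (Lpn (LP (LK LD1_c15 LD2_c19 LD3_c4))))))
theorem f732033 : Led Lsl_dt (LP (LK LD1_c29 LD2_c0 LD3_c18)) = (LP (LK LD1_c31 LD2_c45 LD3_c39)) :=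
  Lgr Lrot60 (Lpr_ff (K54.f732023 IH) (Lpr_df (K54.f732009 IH) (Lpe (K54.f399158 IH) (Lpn (LP (LK LD1_c31 LD2_c45 LD3_c39))))))
theorem f196965 : Led Lsl_bt (LP (LK LD1_c3 LD2_c57 LD3_c12)) = (LP (LK LD1_c1 LD2_c55 LD3_c22)) :=
  Lre_b IH (LK LD1_c3 LD2_c57 LD3_c12) (LK LD1_c1 LD2_c55 LD3_c22) Lrfl Lrfl
theorem f309249 : Led Lsl_cf (LP (LK LD1_c10 LD2_c38 LD3_c33)) = (LP (LK LD1_c7 LD2_c56 LD3_c8)) :=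
  Lgr Lrot97 (Lpr_bt (K19.f309248 IH) (Lpr_ct (K19.f309243 IH) (Lpr_bt (f196965 IH) (Lpr_ct (K13.f196326 IH) (Lpr_bt (K19.f196327 IH) (Lpn (LP (LK LD1_c7 LD2_c56 LD3_c8))))))))
theorem f309264 : Led Lsl_gt (LP (LK LD1_c19 LD2_c16 LD3_c52)) = (LP (LK LD1_c10 LD2_c38 LD3_c33)) :=
  Lre_g IH (LK LD1_c19 LD2_c16 LD3_c52) (LK LD1_c10 LD2_c38 LD3_c33) Lrfl Lrfl
theorem f42887 : Led Lsl_gt (LP (LK LD1_c7 LD2_c55 LD3_c38)) = (LP (LK LD1_c14 LD2_c57 LD3_c17)) :=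
  Lre_g IH (LK LD1_c7 LD2_c55 LD3_c38) (LK LD1_c14 LD2_c57 LD3_c17) Lrfl Lrfl
theorem f237000 : Led Lsl_bt (LP (LK LD1_c24 LD2_c44 LD3_c45)) = (LP (LK LD1_c14 LD2_c57 LD3_c17)) :=
  Lre_b IH (LK LD1_c24 LD2_c44 LD3_c45) (LK LD1_c14 LD2_c57 LD3_c17) Lrfl Lrfl
theorem f404972 : Led Lsl_cf (LP (LK LD1_c19 LD2_c16 LD3_c52)) = (LP (LK LD1_c24 LD2_c44 LD3_c45)) :=
  Lgr Lrot160 (Lpr_gt (f309264 IH) (Lpr_cf (f309249 IH) (Lpr_bt (K31.f236754 IH) (Lpr_gt (K13.f236993 IH) (Lpr_ct (K13.f201276 IH) (Lpe (K13.f236892 IH) (Lpe (K12.f42882 IH) (Lpr_bt (K30.f42886 IH) (Lpr_gt (f42887 IH) (Lpe (f237000 IH) (Lpn (LP (LK LD1_c24 LD2_c44 LD3_c45)))))))))))))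
theorem f309358 : Led Lsl_ft (LP (LK LD1_c10 LD2_c38 LD3_c33)) = (LP (LK LD1_c8 LD2_c43 LD3_c10)) :=
  Lgr Lrot48 (Lpr_ff (K19.f309336 IH) (Lpn (LP (LK LD1_c8 LD2_c43 LD3_c10))))
theorem f298232 : Led Lsl_at (LP (LK LD1_c8 LD2_c43 LD3_c10)) = (LP (LK LD1_c16 LD2_c19 LD3_c56)) :=
  Lre_a IH (LK LD1_c8 LD2_c43 LD3_c10) (LK LD1_c16 LD2_c19 LD3_c56) Lrfl Lrfl
theorem f309360 : Led Lsl_ff (LP (LK LD1_c19 LD2_c16 LD3_c53)) = (LP (LK LD1_c16 LD2_c19 LD3_c56)) :=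
  Lgr Lrot30 (Lpr_at (K19.f309299 IH) (Lpr_ft (f309358 IH) (Lpr_at (f298232 IH) (Lpn (LP (LK LD1_c16 LD2_c19 LD3_c56))))))
theorem f309382 : Led Lsl_gf (LP (LK LD1_c19 LD2_c16 LD3_c52)) = (LP (LK LD1_c16 LD2_c19 LD3_c56)) :=
  Lgr Lrot47 (Lpr_gt (f309264 IH) (Lpe (K19.f309299 IH) (Lpr_ff (f309360 IH) (Lpn (LP (LK LD1_c16 LD2_c19 LD3_c56))))))
theorem f404977 : Led Lsl_gf (LP (LK LD1_c8 LD2_c40 LD3_c40)) = (LP (LK LD1_c14 LD2_c57 LD3_c17)) :=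
  Lgr Lrot181 (Lpe (K27.f243189 IH) (Lpr_gt (K54.f373837 IH) (Lpr_cf (K54.f401138 IH) (Lpr_bt (K38.f232281 IH) (Lpe (K52.f297527 IH) (Lpr_bf (K31.f298192 IH) (Lpr_ct (K19.f298194 IH) (Lpe (f309382 IH) (Lpr_cf (f404972 IH) (Lpr_bt (f237000 IH) (Lpn (LP (LK LD1_c14 LD2_c57 LD3_c17)))))))))))))
theorem f197694 : Led Lsl_ct (LP (LK LD1_c24 LD2_c44 LD3_c46)) = (LP (LK LD1_c14 LD2_c57 LD3_c17)) :=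
  Lre_c IH (LK LD1_c24 LD2_c44 LD3_c46) (LK LD1_c14 LD2_c57 LD3_c17) Lrfl Lrfl
theorem f732257 : Led Lsl_gf (LP (LK LD1_c29 LD2_c0 LD3_c18)) = (LP (LK LD1_c24 LD2_c44 LD3_c46)) :=
  Lgr Lrot144 (Lpr_dt (f732033 IH) (Lpr_gt (K38.f399156 IH) (Lpr_dt (K38.f250561 IH) (Lpr_cf (K20.f250559 IH) (Lpe (K30.f229783 IH) (Lpr_gf (K30.f397274 IH) (Lpe (K54.f243244 IH) (Lpr_gf (f404977 IH) (Lpe (f197694 IH) (Lpn (LP (LK LD1_c24 LD2_c44 LD3_c46))))))))))))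
theorem f197693 : Led Lsl_ct (LP (LK LD1_c14 LD2_c57 LD3_c17)) = (LP (LK LD1_c24 LD2_c44 LD3_c46)) :=
  Lre_c IH (LK LD1_c14 LD2_c57 LD3_c17) (LK LD1_c24 LD2_c44 LD3_c46) Lrfl Lrfl
theorem f229897 : Led Lsl_bt (LP (LK LD1_c4 LD2_c3 LD3_c52)) = (LP (LK LD1_c8 LD2_c8 LD3_c8)) :=
  Lre_b IH (LK LD1_c4 LD2_c3 LD3_c52) (LK LD1_c8 LD2_c8 LD3_c8) Lrfl Lrfl
theorem f236999 : Led Lsl_bt (LP (LK LD1_c25 LD2_c10 LD3_c3)) = (LP (LK LD1_c15 LD2_c19 LD3_c4)) :=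
  Lre_b IH (LK LD1_c25 LD2_c10 LD3_c3) (LK LD1_c15 LD2_c19 LD3_c4) Lrfl Lrfl
theorem f732261 : Led Lsl_cf (LP (LK LD1_c29 LD2_c0 LD3_c18)) = (LP (LK LD1_c25 LD2_c10 LD3_c3)) :=
  Lgr Lrot163 (Lpr_gf (f732257 IH) (Lpe (f197693 IH) (Lpe (f42887 IH) (Lpe (K30.f42886 IH) (Lpr_ct (K12.f42882 IH) (Lpr_gf (K13.f236892 IH) (Lpe (K13.f201276 IH) (Lpr_bt (f229897 IH) (Lpe (f236998 IH) (Lpe (f236999 IH) (Lpn (LP (LK LD1_c25 LD2_c10 LD3_c3)))))))))))))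
theorem f732270 : Led Lsl_gt (LP (LK LD1_c15 LD2_c58 LD3_c35)) = (LP (LK LD1_c25 LD2_c10 LD3_c3)) :=
  Lgr Lrot150 (Lpe (K54.f243239 IH) (Lpr_gf (K31.f373847 IH) (Lpe (K30.f197703 IH) (Lpe (K38.f373983 IH) (Lpr_ct (K31.f373985 IH) (Lpr_gt (K38.f399162 IH) (Lpr_ct (K38.f373716 IH) (Lpe (f732033 IH) (Lpr_cf (f732261 IH) (Lpn (LP (LK LD1_c25 LD2_c10 LD3_c3))))))))))))
theorem f731989 : Led Lsl_gt (LP (LK LD1_c24 LD2_c46 LD3_c39)) = (LP (LK LD1_c19 LD2_c22 LD3_c22)) :=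
  Lgr Lrot46 (Lpr_gf (K54.f731985 IH) (Lpr_ft (K31.f339399 IH) (Lpr_at (f224134 IH) (Lpn (LP (LK LD1_c19 LD2_c22 LD3_c22))))))
theorem f732274 : Led Lsl_df (LP (LK LD1_c24 LD2_c46 LD3_c39)) = (LP (LK LD1_c25 LD2_c10 LD3_c3)) :=
  Lgr Lrot153 (Lpr_gt (f731989 IH) (Lpe (K31.f397060 IH) (Lpe (K38.f260557 IH) (Lpe (K38.f398396 IH) (Lpe (K31.f243526 IH) (Lpe (K27.f243224 IH) (Lpe (K31.f243204 IH) (Lpe (K38.f243207 IH) (Lpr_gt (f732270 IH) (Lpn (LP (LK LD1_c25 LD2_c10 LD3_c3))))))))))))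
theorem f402673 : Led Lsl_bt (LP (LK LD1_c10 LD2_c39 LD3_c50)) = (LP (LK LD1_c5 LD2_c24 LD3_c36)) :=
  Lre_b IH (LK LD1_c10 LD2_c39 LD3_c50) (LK LD1_c5 LD2_c24 LD3_c36) Lrfl Lrfl
theorem f218473 : Led Lsl_bt (LP (LK LD1_c10 LD2_c37 LD3_c57)) = (LP (LK LD1_c19 LD2_c15 LD3_c27)) :=
  Lre_b IH (LK LD1_c10 LD2_c37 LD3_c57) (LK LD1_c19 LD2_c15 LD3_c27) Lrfl Lrfl
theorem f731919 : Led Lsl_df (LP (LK LD1_c10 LD2_c39 LD3_c50)) = (LP (LK LD1_c19 LD2_c15 LD3_c27)) :=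
  Lgr Lrot12 (Lpr_bt (f402673 IH) (Lpr_dt (K54.f726510 IH) (Lpqs (K54.f731909 IH) (Lpr_bt (f218473 IH) (Lpn (LP (LK LD1_c19 LD2_c15 LD3_c27)))))))
theorem f731923 : Led Lsl_dt (LP (LK LD1_c10 LD2_c39 LD3_c50)) = (LP (LK LD1_c19 LD2_c15 LD3_c27)) :=
  Lgr Lrot42 (Lpr_df (f731919 IH) (Lpn (LP (LK LD1_c19 LD2_c15 LD3_c27))))
theorem f726505 : Led Lsl_at (LP (LK LD1_c19 LD2_c18 LD3_c38)) = (LP (LK LD1_c10 LD2_c39 LD3_c50)) :=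
  Lre_a IH (LK LD1_c19 LD2_c18 LD3_c38) (LK LD1_c10 LD2_c39 LD3_c50) Lrfl Lrfl
theorem f218479 : Led Lsl_at (LP (LK LD1_c19 LD2_c15 LD3_c27)) = (LP (LK LD1_c28 LD2_c41 LD3_c40)) :=
  Lre_a IH (LK LD1_c19 LD2_c15 LD3_c27) (LK LD1_c28 LD2_c41 LD3_c40) Lrfl Lrfl
theorem f731927 : Led Lsl_df (LP (LK LD1_c19 LD2_c18 LD3_c38)) = (LP (LK LD1_c28 LD2_c41 LD3_c40)) :=
  Lgr Lrot18 (Lpr_at (f726505 IH) (Lpr_dt (f731923 IH) (Lpr_at (f218479 IH) (Lpn (LP (LK LD1_c28 LD2_c41 LD3_c40))))))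
theorem f397415 : Led Lsl_dt (LP (LK LD1_c28 LD2_c29 LD3_c47)) = (LP (LK LD1_c27 LD2_c30 LD3_c46)) :=
  Lgr Lrot27 (Lpe (K31.f395682 IH) (Lpr_gf (K31.f395720 IH) (Lpe (K16.f224124 IH) (Lpe (K16.f216308 IH) (Lpe (K30.f224116 IH) (Lpr_gt (K31.f397272 IH) (Lpe (K18.f246598 IH) (Lpe (K31.f396923 IH) (Lpr_ct (K31.f229720 IH) (Lpn (LP (LK LD1_c27 LD2_c30 LD3_c46))))))))))))
theorem f731974 : Led Lsl_cf (LP (LK LD1_c15 LD2_c15 LD3_c33)) = (LP (LK LD1_c19 LD2_c18 LD3_c38)) :=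
  Lgr Lrot14 (Lpe (K31.f373702 IH) (Lpr_gf (K31.f399109 IH) (Lpe (K22.f233913 IH) (Lpe (K38.f221788 IH) (Lpe (K38.f224826 IH) (Lpr_gt (K38.f399172 IH) (Lpr_dt (f397415 IH) (Lpr_gt (K54.f731970 IH) (Lpe (f731927 IH) (Lpn (LP (LK LD1_c19 LD2_c18 LD3_c38))))))))))))
theorem f243499 : Led Lsl_bt (LP (LK LD1_c25 LD2_c55 LD3_c4)) = (LP (LK LD1_c15 LD2_c58 LD3_c12)) :=
  Lre_b IH (LK LD1_c25 LD2_c55 LD3_c4) (LK LD1_c15 LD2_c58 LD3_c12) Lrfl Lrfl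
theorem f693414 : Led Lsl_dt (LP (LK LD1_c16 LD2_c1 LD3_c50)) = (LP (LK LD1_c25 LD2_c55 LD3_c4)) :=
  Lgr Lrot79 (Lpe (K54.f399116 IH) (Lpr_df (K50.f693412 IH) (Lpe (f243499 IH) (Lpn (LP (LK LD1_c25 LD2_c55 LD3_c4))))))
theorem f732003 : Led Lsl_at (LP (LK LD1_c26 LD2_c12 LD3_c15)) = (LP (LK LD1_c17 LD2_c42 LD3_c55)) :=
  Lgr Lrot100 (Lpr_af (K54.f732001 IH) (Lpn (LP (LK LD1_c17 LD2_c42 LD3_c55))))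
theorem f732278 : Led Lsl_ff (LP (LK LD1_c26 LD2_c12 LD3_c15)) = (LP (LK LD1_c25 LD2_c10 LD3_c3)) :=
  Lgr Lrot103 (Lpr_at (f732003 IH) (Lpe (K52.f717532 IH) (Lpe (f693414 IH) (Lpe (K54.f399117 IH) (Lpe (K31.f251753 IH) (Lpr_cf (f731974 IH) (Lpr_df (f731927 IH) (Lpe (K54.f731976 IH) (Lpr_df (f732274 IH) (Lpn (LP (LK LD1_c25 LD2_c10 LD3_c3))))))))))))
theorem f411596 : Led Lsl_bt (LP (LK LD1_c26 LD2_c12 LD3_c15)) = (LP (LK LD1_c16 LD2_c14 LD3_c52)) :=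
  Lre_b IH (LK LD1_c26 LD2_c12 LD3_c15) (LK LD1_c16 LD2_c14 LD3_c52) Lrfl Lrfl
theorem f732263 : Led Lsl_bt (LP (LK LD1_c15 LD2_c19 LD3_c4)) = (LP (LK LD1_c25 LD2_c10 LD3_c3)) :=
  Lre_b IH (LK LD1_c15 LD2_c19 LD3_c4) (LK LD1_c25 LD2_c10 LD3_c3) Lrfl Lrfl
theorem f732280 : Led Lsl_ft (LP (LK LD1_c16 LD2_c14 LD3_c52)) = (LP (LK LD1_c15 LD2_c19 LD3_c4)) :=
  Lgr Lrot75 (Lpe (f411596 IH) (Lpr_ff (f732278 IH) (Lpe (f732263 IH) (Lpn (LP (LK LD1_c15 LD2_c19 LD3_c4))))))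
theorem f618385 : Led Lsl_bt (LP (LK LD1_c8 LD2_c42 LD3_c13)) = (LP (LK LD1_c16 LD2_c18 LD3_c14)) :=
  Lre_b IH (LK LD1_c8 LD2_c42 LD3_c13) (LK LD1_c16 LD2_c18 LD3_c14) Lrfl Lrfl
theorem f618398 : Led Lsl_dt (LP (LK LD1_c16 LD2_c14 LD3_c52)) = (LP (LK LD1_c8 LD2_c42 LD3_c13)) :=
  Lgr Lrot79 (Lpe (f411596 IH) (Lpr_df (K54.f618396 IH) (Lpe (f618385 IH) (Lpn (LP (LK LD1_c8 LD2_c42 LD3_c13))))))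
theorem f618400 : Led Lsl_df (LP (LK LD1_c16 LD2_c14 LD3_c52)) = (LP (LK LD1_c8 LD2_c42 LD3_c13)) :=
  Lgr Lrot38 (Lpr_dt (f618398 IH) (Lpn (LP (LK LD1_c8 LD2_c42 LD3_c13))))
theorem f373708 : Led Lsl_bt (LP (LK LD1_c19 LD2_c4 LD3_c27)) = (LP (LK LD1_c10 LD2_c31 LD3_c31)) :=
  Lre_b IH (LK LD1_c19 LD2_c4 LD3_c27) (LK LD1_c10 LD2_c31 LD3_c31) Lrfl Lrfl
theorem f732063 : Led Lsl_at (LP (LK LD1_c19 LD2_c19 LD3_c45)) = (LP (LK LD1_c25 LD2_c4 LD3_c57)) :=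
  Lgr Lrot26 (Lpr_ff (K54.f732057 IH) (Lpr_gt (K31.f374649 IH) (Lpr_gt (K38.f399162 IH) (Lpn (LP (LK LD1_c25 LD2_c4 LD3_c57))))))
theorem f732065 : Led Lsl_af (LP (LK LD1_c10 LD2_c40 LD3_c29)) = (LP (LK LD1_c15 LD2_c15 LD3_c34)) :=
  Lgr Lrot117 (Lpr_dt (K30.f216930 IH) (Lpr_at (f732063 IH) (Lpr_dt (K38.f373717 IH) (Lpn (LP (LK LD1_c15 LD2_c15 LD3_c34))))))
theorem f235179 : Led Lsl_gt (LP (LK LD1_c5 LD2_c20 LD3_c44)) = (LP (LK LD1_c10 LD2_c31 LD3_c31)) :=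
  Lre_g IH (LK LD1_c5 LD2_c20 LD3_c44) (LK LD1_c10 LD2_c31 LD3_c31) Lrfl Lrfl
theorem f373709 : Led Lsl_cf (LP (LK LD1_c15 LD2_c15 LD3_c34)) = (LP (LK LD1_c19 LD2_c4 LD3_c27)) :=
  Lgr Lrot160 (Lpr_gt (K38.f235092 IH) (Lpr_cf (K27.f373698 IH) (Lpr_bt (K27.f369133 IH) (Lpr_gt (K12.f191951 IH) (Lpr_ct (K12.f220752 IH) (Lpr_gt (K12.f44308 IH) (Lpe (K12.f223848 IH) (Lpr_bt (K22.f235164 IH) (Lpr_gt (f235179 IH) (Lpe (f373708 IH) (Lpn (LP (LK LD1_c19 LD2_c4 LD3_c27)))))))))))))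
theorem f732069 : Led Lsl_at (LP (LK LD1_c10 LD2_c59 LD3_c54)) = (LP (LK LD1_c19 LD2_c4 LD3_c27)) :=
  Lgr Lrot107 (Lpe (K54.f216931 IH) (Lpr_af (f732065 IH) (Lpr_cf (f373709 IH) (Lpn (LP (LK LD1_c19 LD2_c4 LD3_c27))))))
theorem f286869 : Led Lsl_gt (LP (LK LD1_c10 LD2_c40 LD3_c30)) = (LP (LK LD1_c5 LD2_c24 LD3_c54)) :=
  Lre_g IH (LK LD1_c10 LD2_c40 LD3_c30) (LK LD1_c5 LD2_c24 LD3_c54) Lrfl Lrfl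
theorem f732071 : Led Lsl_ft (LP (LK LD1_c10 LD2_c40 LD3_c30)) = (LP (LK LD1_c15 LD2_c15 LD3_c34)) :=
  Lgr Lrot2 (Lpr_gt (f286869 IH) (Lpr_gt (K12.f216929 IH) (Lpr_af (f732065 IH) (Lpn (LP (LK LD1_c15 LD2_c15 LD3_c34))))))
theorem f732077 : Led Lsl_ff (LP (LK LD1_c10 LD2_c40 LD3_c30)) = (LP (LK LD1_c15 LD2_c15 LD3_c34)) :=
  Lgr Lrot3 (Lpr_ft (f732071 IH) (Lpn (LP (LK LD1_c15 LD2_c15 LD3_c34))))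
theorem f402674 : Led Lsl_ct (LP (LK LD1_c10 LD2_c40 LD3_c30)) = (LP (LK LD1_c10 LD2_c39 LD3_c50)) :=
  Lre_c IH (LK LD1_c10 LD2_c40 LD3_c30) (LK LD1_c10 LD2_c39 LD3_c50) Lrfl Lrfl
theorem f732081 : Led Lsl_ft (LP (LK LD1_c10 LD2_c39 LD3_c50)) = (LP (LK LD1_c19 LD2_c4 LD3_c27)) :=
  Lgr Lrot4 (Lpe (f402674 IH) (Lpr_ff (f732077 IH) (Lpr_cf (f373709 IH) (Lpn (LP (LK LD1_c19 LD2_c4 LD3_c27))))))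
theorem f726506 : Led Lsl_bt (LP (LK LD1_c5 LD2_c24 LD3_c36)) = (LP (LK LD1_c10 LD2_c39 LD3_c50)) :=
  Lre_b IH (LK LD1_c5 LD2_c24 LD3_c36) (LK LD1_c10 LD2_c39 LD3_c50) Lrfl Lrfl
theorem f732085 : K54.v14765 = (LP (LK LD1_c10 LD2_c31 LD3_c31)) :=
  (Llr Lrot25 (Lpe (K54.f726516 IH) (Lpr_bt (f726506 IH) (Lpr_ft (f732081 IH) (Lpr_bt (f373708 IH) (Lpn (LP (LK LD1_c10 LD2_c31 LD3_c31)))))))).symm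
theorem f732112 : Led Lsl_af (LP (LK LD1_c5 LD2_c33 LD3_c56)) = (LP (LK LD1_c10 LD2_c39 LD3_c52)) :=
  Lgr Lrot36 (Lpr_bt (K31.f175183 IH) (Lpr_at (f732069 IH) (Lpr_bt (f373708 IH) (Lpq (f732085 IH) (Lpe (K54.f726515 IH) (Lpr_bt (K54.f218431 IH) (Lpn (LP (LK LD1_c10 LD2_c39 LD3_c52)))))))))
theorem f731767 : Led Lsl_ft (LP (LK LD1_c5 LD2_c33 LD3_c57)) = (LP (LK LD1_c10 LD2_c39 LD3_c52)) :=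
  Lgr Lrot4 (Lpe (K54.f387689 IH) (Lpr_ff (K54.f731763 IH) (Lpe (K22.f218455 IH) (Lpn (LP (LK LD1_c10 LD2_c39 LD3_c52))))))
theorem f731773 : Led Lsl_af (LP (LK LD1_c5 LD2_c33 LD3_c57)) = (LP (LK LD1_c10 LD2_c59 LD3_c32)) :=
  Lgr Lrot68 (Lpe (K54.f387691 IH) (Lpr_at (K54.f731769 IH) (Lpe (K31.f390843 IH) (Lpn (LP (LK LD1_c10 LD2_c59 LD3_c32))))))
theorem f732116 : Led Lsl_ft (LP (LK LD1_c5 LD2_c33 LD3_c56)) = (LP (LK LD1_c10 LD2_c59 LD3_c32)) :=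
  Lgr Lrot101 (Lpr_af (f732112 IH) (Lpe (f731767 IH) (Lpr_af (f731773 IH) (Lpn (LP (LK LD1_c10 LD2_c59 LD3_c32))))))
theorem f732118 : Led Lsl_ff (LP (LK LD1_c5 LD2_c33 LD3_c56)) = (LP (LK LD1_c10 LD2_c59 LD3_c32)) :=
  Lgr Lrot3 (Lpr_ft (f732116 IH) (Lpn (LP (LK LD1_c10 LD2_c59 LD3_c32))))
theorem f731964 : Led Lsl_bf (LP (LK LD1_c10 LD2_c59 LD3_c32)) = (LP (LK LD1_c19 LD2_c18 LD3_c38)) :=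
  Lgr Lrot93 (Lpr_dt (K42.f390444 IH) (Lpr_bt (K54.f731960 IH) (Lpe (f731927 IH) (Lpn (LP (LK LD1_c19 LD2_c18 LD3_c38))))))
theorem f732122 : Led Lsl_ft (LP (LK LD1_c10 LD2_c59 LD3_c54)) = (LP (LK LD1_c19 LD2_c18 LD3_c38)) :=
  Lgr Lrot75 (Lpe (K31.f175183 IH) (Lpr_ff (f732118 IH) (Lpr_bf (f731964 IH) (Lpn (LP (LK LD1_c19 LD2_c18 LD3_c38))))))
theorem f732134 : Led Lsl_ff (LP (LK LD1_c10 LD2_c59 LD3_c54)) = (LP (LK LD1_c19 LD2_c18 LD3_c38)) :=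
  Lgr Lrot3 (Lpr_ft (f732122 IH) (Lpn (LP (LK LD1_c19 LD2_c18 LD3_c38))))
theorem f732138 : Led Lsl_ft (LP (LK LD1_c19 LD2_c50 LD3_c44)) = (LP (LK LD1_c28 LD2_c41 LD3_c40)) :=
  Lgr Lrot54 (Lpe (K54.f254810 IH) (Lpr_ff (f732134 IH) (Lpr_df (f731927 IH) (Lpn (LP (LK LD1_c28 LD2_c41 LD3_c40))))))
theorem f731981 : Led Lsl_cf (LP (LK LD1_c24 LD2_c46 LD3_c39)) = (LP (LK LD1_c28 LD2_c41 LD3_c40)) :=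
  Lgr Lrot11 (Lpr_ct (K54.f731976 IH) (Lpn (LP (LK LD1_c28 LD2_c41 LD3_c40))))
theorem f732140 : Led Lsl_ff (LP (LK LD1_c16 LD2_c18 LD3_c14)) = (LP (LK LD1_c24 LD2_c46 LD3_c39)) :=
  Lgr Lrot23 (Lpr_ct (K54.f618382 IH) (Lpr_ft (f732138 IH) (Lpe (f731981 IH) (Lpn (LP (LK LD1_c24 LD2_c46 LD3_c39))))))
theorem f731980 : Led Lsl_bt (LP (LK LD1_c14 LD2_c59 LD3_c9)) = (LP (LK LD1_c24 LD2_c46 LD3_c39)) :=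
  Lre_b IH (LK LD1_c14 LD2_c59 LD3_c9) (LK LD1_c24 LD2_c46 LD3_c39) Lrfl Lrfl
theorem f732142 : Led Lsl_ft (LP (LK LD1_c8 LD2_c42 LD3_c13)) = (LP (LK LD1_c14 LD2_c59 LD3_c9)) :=
  Lgr Lrot75 (Lpe (K54.f38977 IH) (Lpr_ff (f732140 IH) (Lpe (f731980 IH) (Lpn (LP (LK LD1_c14 LD2_c59 LD3_c9))))))
theorem f732144 : Led Lsl_ff (LP (LK LD1_c8 LD2_c42 LD3_c13)) = (LP (LK LD1_c14 LD2_c59 LD3_c9)) :=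
  Lgr Lrot3 (Lpr_ft (f732142 IH) (Lpn (LP (LK LD1_c14 LD2_c59 LD3_c9))))
theorem f732282 : Led Lsl_df (LP (LK LD1_c14 LD2_c59 LD3_c9)) = (LP (LK LD1_c15 LD2_c19 LD3_c4)) :=
  Lgr Lrot78 (Lpe (f732144 IH) (Lpe (f618400 IH) (Lpr_ft (f732280 IH) (Lpn (LP (LK LD1_c15 LD2_c19 LD3_c4))))))
theorem f219682 : Led Lsl_bt (LP (LK LD1_c4 LD2_c21 LD3_c15)) = (LP (LK LD1_c8 LD2_c40 LD3_c8)) :=
  Lre_b IH (LK LD1_c4 LD2_c21 LD3_c15) (LK LD1_c8 LD2_c40 LD3_c8) Lrfl Lrfl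
theorem f267367 : Led Lsl_bt (LP (LK LD1_c15 LD2_c48 LD3_c30)) = (LP (LK LD1_c8 LD2_c24 LD3_c32)) :=
  Lre_b IH (LK LD1_c15 LD2_c48 LD3_c30) (LK LD1_c8 LD2_c24 LD3_c32) Lrfl Lrfl
theorem f267398 : Led Lsl_ft (LP (LK LD1_c8 LD2_c40 LD3_c8)) = (LP (LK LD1_c15 LD2_c48 LD3_c30)) :=
  Lgr Lrot75 (Lpe (f219682 IH) (Lpr_ff (K16.f267394 IH) (Lpe (f267367 IH) (Lpn (LP (LK LD1_c15 LD2_c48 LD3_c30))))))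
theorem f39495 : Led Lsl_dt (LP (LK LD1_c4 LD2_c21 LD3_c14)) = (LP (LK LD1_c8 LD2_c40 LD3_c8)) :=
  Lre_d IH (LK LD1_c4 LD2_c21 LD3_c14) (LK LD1_c8 LD2_c40 LD3_c8) Lrfl Lrfl
theorem f267409 : Led Lsl_df (LP (LK LD1_c8 LD2_c40 LD3_c9)) = (LP (LK LD1_c15 LD2_c48 LD3_c30)) :=
  Lgr Lrot78 (Lpr_ft (K38.f232445 IH) (Lpr_dt (f39495 IH) (Lpr_ft (f267398 IH) (Lpn (LP (LK LD1_c15 LD2_c48 LD3_c30))))))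
theorem f891135 : Led Lsl_gt (LP (LK LD1_c25 LD2_c45 LD3_c0)) = (LP (LK LD1_c15 LD2_c48 LD3_c30)) :=
  Lgr Lrot49 (Lpe (f237204 IH) (Lpr_gf (f891134 IH) (Lpe (f891132 IH) (Lpr_gt (f411592 IH) (Lpe (f732282 IH) (Lpr_gt (K54.f39518 IH) (Lpr_dt (K9.f39484 IH) (Lpe (K52.f39519 IH) (Lpr_df (f267409 IH) (Lpn (LP (LK LD1_c15 LD2_c48 LD3_c30))))))))))))
theorem f891136 : Led Lsl_gt (LP (LK LD1_c25 LD2_c45 LD3_c0)) = (LP (LK LD1_c15 LD2_c48 LD3_c30)) :=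
  Leop (Lpe (f891135 IH) (Lpn (LP (LK LD1_c25 LD2_c45 LD3_c0))))
theorem seed_2130 : LEOK LG_g (LK LD1_c25 LD2_c45 LD3_c0) :=
  Leoe_g (LK LD1_c25 LD2_c45 LD3_c0) (f891136 IH)
theorem f238729 : Led Lsl_bt (LP (LK LD1_c8 LD2_c40 LD3_c33)) = (LP (LK LD1_c4 LD2_c21 LD3_c29)) :=
  Lre_b IH (LK LD1_c8 LD2_c40 LD3_c33) (LK LD1_c4 LD2_c21 LD3_c29) Lrfl Lrfl
theorem f269496 : Led Lsl_at (LP (LK LD1_c16 LD2_c14 LD3_c53)) = (LP (LK LD1_c8 LD2_c40 LD3_c33)) :=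
  Lre_a IH (LK LD1_c16 LD2_c14 LD3_c53) (LK LD1_c8 LD2_c40 LD3_c33) Lrfl Lrfl
theorem f236977 : Led Lsl_at (LP (LK LD1_c9 LD2_c44 LD3_c48)) = (LP (LK LD1_c17 LD2_c53 LD3_c58)) :=
  Lre_a IH (LK LD1_c9 LD2_c44 LD3_c48) (LK LD1_c17 LD2_c53 LD3_c58) Lrfl Lrfl
theorem f269497 : Led Lsl_bf (LP (LK LD1_c16 LD2_c14 LD3_c53)) = (LP (LK LD1_c17 LD2_c53 LD3_c58)) :=
  Lgr Lrot81 (Lpr_at (f269496 IH) (Lpr_bt (f238729 IH) (Lpr_at (K16.f269492 IH) (Lpr_bt (f236925 IH) (Lpr_at (f236977 IH) (Lpn (LP (LK LD1_c17 LD2_c53 LD3_c58))))))))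
theorem f236978 : Led Lsl_cf (LP (LK LD1_c15 LD2_c42 LD3_c14)) = (LP (LK LD1_c17 LD2_c53 LD3_c58)) :=
  Lgr Lrot1 (Lpr_at (f236965 IH) (Lpr_ct (f236961 IH) (Lpr_at (f236977 IH) (Lpn (LP (LK LD1_c17 LD2_c53 LD3_c58))))))
theorem f238686 : Led Lsl_at (LP (LK LD1_c16 LD2_c8 LD3_c32)) = (LP (LK LD1_c8 LD2_c36 LD3_c60)) :=
  Lre_a IH (LK LD1_c16 LD2_c8 LD3_c32) (LK LD1_c8 LD2_c36 LD3_c60) Lrfl Lrfl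
theorem f238688 : Led Lsl_cf (LP (LK LD1_c16 LD2_c8 LD3_c32)) = (LP (LK LD1_c16 LD2_c4 LD3_c20)) :=
  Lgr Lrot1 (Lpr_at (f238686 IH) (Lpr_ct (f238681 IH) (Lpr_at (f238687 IH) (Lpn (LP (LK LD1_c16 LD2_c4 LD3_c20))))))
theorem f405991 : Led Lsl_ff (LP (LK LD1_c17 LD2_c53 LD3_c58)) = (LP (LK LD1_c16 LD2_c8 LD3_c32)) :=
  Lgr Lrot23 (Lpe (f236978 IH) (Lpr_ft (f405985 IH) (Lpe (f238688 IH) (Lpn (LP (LK LD1_c16 LD2_c8 LD3_c32))))))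
theorem f411588 : Led Lsl_bf (LP (LK LD1_c16 LD2_c8 LD3_c32)) = (LP (LK LD1_c15 LD2_c19 LD3_c5)) :=
  Lgr Lrot61 (Lpe (f405991 IH) (Lpe (f269497 IH) (Lpr_ft (f411576 IH) (Lpn (LP (LK LD1_c15 LD2_c19 LD3_c5))))))
theorem f411599 : Led Lsl_bt (LP (LK LD1_c16 LD2_c8 LD3_c32)) = (LP (LK LD1_c15 LD2_c19 LD3_c5)) :=
  Lgr Lrot127 (Lpr_bf (f411588 IH) (Lpn (LP (LK LD1_c15 LD2_c19 LD3_c5))))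
theorem f236958 : Led Lsl_at (LP (LK LD1_c17 LD2_c53 LD3_c58)) = (LP (LK LD1_c9 LD2_c44 LD3_c48)) :=
  Lre_a IH (LK LD1_c17 LD2_c53 LD3_c58) (LK LD1_c9 LD2_c44 LD3_c48) Lrfl Lrfl
theorem f236959 : Led Lsl_ct (LP (LK LD1_c15 LD2_c42 LD3_c14)) = (LP (LK LD1_c17 LD2_c53 LD3_c58)) :=
  Lgr Lrot111 (Lpe (f236957 IH) (Lpr_cf (f236944 IH) (Lpe (f236958 IH) (Lpn (LP (LK LD1_c17 LD2_c53 LD3_c58))))))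
theorem f238702 : Led Lsl_ct (LP (LK LD1_c16 LD2_c8 LD3_c32)) = (LP (LK LD1_c16 LD2_c4 LD3_c20)) :=
  Lgr Lrot59 (Lpr_cf (f238688 IH) (Lpn (LP (LK LD1_c16 LD2_c4 LD3_c20))))
theorem f405983 : Led Lsl_ft (LP (LK LD1_c17 LD2_c53 LD3_c58)) = (LP (LK LD1_c16 LD2_c8 LD3_c32)) :=
  Lgr Lrot4 (Lpe (f236959 IH) (Lpr_ff (f405981 IH) (Lpe (f238702 IH) (Lpn (LP (LK LD1_c16 LD2_c8 LD3_c32))))))
theorem f411607 : Led Lsl_bf (LP (LK LD1_c17 LD2_c53 LD3_c58)) = (LP (LK LD1_c16 LD2_c14 LD3_c53)) :=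
  Lgr Lrot61 (Lpr_ft (f405983 IH) (Lpr_bt (f411599 IH) (Lpe (f411590 IH) (Lpn (LP (LK LD1_c16 LD2_c14 LD3_c53))))))
theorem f405999 : Led Lsl_gt (LP (LK LD1_c17 LD2_c53 LD3_c58)) = (LP (LK LD1_c16 LD2_c8 LD3_c31)) :=
  Lgr Lrot5 (Lpr_ft (f405983 IH) (Lpr_at (f238686 IH) (Lpe (f238519 IH) (Lpn (LP (LK LD1_c16 LD2_c8 LD3_c31))))))
theorem f399569 : Led Lsl_bf (LP (LK LD1_c26 LD2_c13 LD3_c1)) = (LP (LK LD1_c20 LD2_c19 LD3_c18)) :=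
  Lgr Lrot90 (Lpe (f238600 IH) (Lpr_bt (f238520 IH) (Lpe (f311756 IH) (Lpr_bt (f178822 IH) (Lpr_ct (K54.f399567 IH) (Lpn (LP (LK LD1_c20 LD2_c19 LD3_c18))))))))
theorem f399636 : Led Lsl_gt (LP (LK LD1_c26 LD2_c13 LD3_c1)) = (LP (LK LD1_c16 LD2_c15 LD3_c36)) :=
  Lgr Lrot82 (Lpr_bf (f399569 IH) (Lpe (K54.f399555 IH) (Lpe (K54.f178774 IH) (Lpr_cf (K27.f178802 IH) (Lpr_bt (K27.f178761 IH) (Lpr_gf (K18.f270732 IH) (Lpe (f246690 IH) (Lpr_ct (f216639 IH) (Lpe (K54.f238740 IH) (Lpe (f385731 IH) (Lpn (LP (LK LD1_c16 LD2_c15 LD3_c36)))))))))))))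
theorem f385730 : Led Lsl_ct (LP (LK LD1_c8 LD2_c40 LD3_c58)) = (LP (LK LD1_c16 LD2_c15 LD3_c36)) :=
  Lre_c IH (LK LD1_c8 LD2_c40 LD3_c58) (LK LD1_c16 LD2_c15 LD3_c36) Lrfl Lrfl
theorem f399638 : Led Lsl_bt (LP (LK LD1_c8 LD2_c40 LD3_c58)) = (LP (LK LD1_c16 LD2_c15 LD3_c35)) :=
  Lre_b IH (LK LD1_c8 LD2_c40 LD3_c58) (LK LD1_c16 LD2_c15 LD3_c35) Lrfl Lrfl
theorem f237127 : Led Lsl_gt (LP (LK LD1_c8 LD2_c24 LD3_c23)) = (LP (LK LD1_c15 LD2_c48 LD3_c15)) :=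
  Lre_g IH (LK LD1_c8 LD2_c24 LD3_c23) (LK LD1_c15 LD2_c48 LD3_c15) Lrfl Lrfl
theorem f891129 : Led Lsl_gt (LP (LK LD1_c15 LD2_c48 LD3_c15)) = v36882 :=
  Lgr Lrot46 (Lpe (f237127 IH) (Lpe (K38.f411582 IH) (Lpr_at (f891124 IH) (Lpn v36882))))
theorem f237191 : Led Lsl_ct (LP (LK LD1_c25 LD2_c44 LD3_c57)) = (LP (LK LD1_c15 LD2_c48 LD3_c15)) :=
  Lre_c IH (LK LD1_c25 LD2_c44 LD3_c57) (LK LD1_c15 LD2_c48 LD3_c15) Lrfl Lrfl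
theorem f891137 : Led Lsl_gt (LP (LK LD1_c16 LD2_c15 LD3_c35)) = (LP (LK LD1_c25 LD2_c44 LD3_c57)) :=
  Lgr Lrot82 (Lpe (f399638 IH) (Lpr_ct (f385730 IH) (Lpe (f399636 IH) (Lpe (f238523 IH) (Lpr_bt (f238520 IH) (Lpe (f405999 IH) (Lpr_bf (f411607 IH) (Lpr_ct (f891132 IH) (Lpe (f891129 IH) (Lpe (f237191 IH) (Lpn (LP (LK LD1_c25 LD2_c44 LD3_c57)))))))))))))
theorem f891138 : Led Lsl_gt (LP (LK LD1_c16 LD2_c15 LD3_c35)) = (LP (LK LD1_c25 LD2_c44 LD3_c57)) :=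
  Leop (Lpe (f891137 IH) (Lpn (LP (LK LD1_c16 LD2_c15 LD3_c35))))
theorem seed_2131 : LEOK LG_g (LK LD1_c16 LD2_c15 LD3_c35) :=
  Leoe_g (LK LD1_c16 LD2_c15 LD3_c35) (f891138 IH)
def v36895 : LQ := Led Lsl_at (LP (LK LD1_c8 LD2_c37 LD3_c48))
theorem f891200 : Led Lsl_at (LP (LK LD1_c8 LD2_c37 LD3_c48)) = v36895 :=
  Lrfl
theorem f315676 : Led Lsl_ft (LP (LK LD1_c4 LD2_c14 LD3_c33)) = (LP (LK LD1_c4 LD2_c19 LD3_c56)) :=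
  Lgr Lrot4 (Lpe (K13.f27890 IH) (Lpr_ff (K20.f315674 IH) (Lpe (K13.f190045 IH) (Lpn (LP (LK LD1_c4 LD2_c19 LD3_c56))))))
theorem f231543 : Led Lsl_bt (LP (LK LD1_c8 LD2_c27 LD3_c49)) = (LP (LK LD1_c4 LD2_c14 LD3_c33)) :=
  Lre_b IH (LK LD1_c8 LD2_c27 LD3_c49) (LK LD1_c4 LD2_c14 LD3_c33) Lrfl Lrfl
theorem f189993 : Led Lsl_bt (LP (LK LD1_c4 LD2_c19 LD3_c56)) = (LP (LK LD1_c8 LD2_c37 LD3_c48)) :=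
  Lre_b IH (LK LD1_c4 LD2_c19 LD3_c56) (LK LD1_c8 LD2_c37 LD3_c48) Lrfl Lrfl
theorem f402924 : Led Lsl_ff (LP (LK LD1_c8 LD2_c27 LD3_c49)) = (LP (LK LD1_c8 LD2_c37 LD3_c48)) :=
  Lgr Lrot25 (Lpr_bt (f231543 IH) (Lpr_ft (f315676 IH) (Lpr_bt (f189993 IH) (Lpn (LP (LK LD1_c8 LD2_c37 LD3_c48))))))
theorem f402926 : Led Lsl_ft (LP (LK LD1_c8 LD2_c27 LD3_c49)) = (LP (LK LD1_c8 LD2_c37 LD3_c48)) :=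
  Lgr Lrot48 (Lpr_ff (f402924 IH) (Lpn (LP (LK LD1_c8 LD2_c37 LD3_c48))))
def v36485 : LQ := Led Lsl_at (LP (LK LD1_c8 LD2_c27 LD3_c49))
theorem f887069 : Led Lsl_at (LP (LK LD1_c8 LD2_c27 LD3_c49)) = v36485 :=
  Lrfl
theorem f887070 : Led Lsl_af (LP (LK LD1_c8 LD2_c27 LD3_c49)) = v36485 :=
  Lgr Lrot0 (Lpr_at (f887069 IH) (Lpn v36485))
theorem f891204 : Led Lsl_ff v36485 = v36895 :=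
  Lgr Lrot30 (Lpe (f887070 IH) (Lpr_ft (f402926 IH) (Lpr_at (f891200 IH) (Lpn v36895))))
theorem f891209 : Led Lsl_gf (LP (LK LD1_c15 LD2_c53 LD3_c30)) = v36895 :=
  Lgr Lrot47 (Lpr_gt (K39.f27900 IH) (Lpr_af (f887070 IH) (Lpr_ff (f891204 IH) (Lpn v36895))))
theorem f554999 : Led Lsl_bt (LP (LK LD1_c8 LD2_c38 LD3_c42)) = (LP (LK LD1_c16 LD2_c11 LD3_c32)) :=
  Lre_b IH (LK LD1_c8 LD2_c38 LD3_c42) (LK LD1_c16 LD2_c11 LD3_c32) Lrfl Lrfl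
theorem f315680 : Led Lsl_af (LP (LK LD1_c4 LD2_c14 LD3_c33)) = (LP (LK LD1_c4 LD2_c4 LD3_c33)) :=
  Lgr Lrot68 (Lpr_ct (K39.f27886 IH) (Lpr_at (K20.f315678 IH) (Lpr_ct (K10.f194193 IH) (Lpn (LP (LK LD1_c4 LD2_c4 LD3_c33))))))
def v16765 : LQ := Led Lsl_at (LP (LK LD1_c6 LD2_c6 LD3_c39))
theorem f751472 : Led Lsl_at (LP (LK LD1_c6 LD2_c6 LD3_c39)) = v16765 :=
  Lrfl
theorem f751473 : Led Lsl_af (LP (LK LD1_c6 LD2_c6 LD3_c39)) = v16765 :=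
  Lgr Lrot0 (Lpr_at (f751472 IH) (Lpn v16765))
theorem f887071 : Led Lsl_bf v16765 = v36485 :=
  Lgr Lrot81 (Lpe (f751473 IH) (Lpr_bt (f194206 IH) (Lpe (f315680 IH) (Lpr_bt (K39.f27899 IH) (Lpr_at (f887069 IH) (Lpn v36485))))))
theorem f195435 : Led Lsl_ct (LP (LK LD1_c2 LD2_c39 LD3_c53)) = (LP (LK LD1_c5 LD2_c26 LD3_c56)) :=
  Lre_c IH (LK LD1_c2 LD2_c39 LD3_c53) (LK LD1_c5 LD2_c26 LD3_c56) Lrfl Lrfl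
theorem f396445 : Led Lsl_ft (LP (LK LD1_c5 LD2_c26 LD3_c56)) = (LP (LK LD1_c6 LD2_c6 LD3_c39)) :=
  Lgr Lrot4 (Lpe (f195435 IH) (Lpr_ff (K56.f396443 IH) (Lpe (f177543 IH) (Lpn (LP (LK LD1_c6 LD2_c6 LD3_c39))))))
theorem f195750 : Led Lsl_at (LP (LK LD1_c10 LD2_c44 LD3_c52)) = (LP (LK LD1_c5 LD2_c26 LD3_c56)) :=
  Lre_a IH (LK LD1_c10 LD2_c44 LD3_c52) (LK LD1_c5 LD2_c26 LD3_c56) Lrfl Lrfl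
theorem f751475 : Led Lsl_ff (LP (LK LD1_c10 LD2_c44 LD3_c52)) = v16765 :=
  Lgr Lrot30 (Lpr_at (f195750 IH) (Lpr_ft (f396445 IH) (Lpr_at (f751472 IH) (Lpn v16765))))
theorem f891206 : Led Lsl_bt (LP (LK LD1_c10 LD2_c44 LD3_c52)) = v36895 :=
  Lgr Lrot35 (Lpr_ff (f751475 IH) (Lpr_bf (f887071 IH) (Lpr_ff (f891204 IH) (Lpn v36895))))
theorem f396437 : Led Lsl_ct (LP (LK LD1_c10 LD2_c44 LD3_c52)) = (LP (LK LD1_c5 LD2_c26 LD3_c55)) :=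
  Lre_c IH (LK LD1_c10 LD2_c44 LD3_c52) (LK LD1_c5 LD2_c26 LD3_c55) Lrfl Lrfl
theorem f891210 : Led Lsl_gt (LP (LK LD1_c16 LD2_c11 LD3_c32)) = (LP (LK LD1_c11 LD2_c56 LD3_c19)) :=
  Lgr Lrot82 (Lpe (f554999 IH) (Lpr_ct (K39.f33080 IH) (Lpe (K39.f554995 IH) (Lpr_cf (K39.f554986 IH) (Lpr_bt (K39.f27901 IH) (Lpr_gf (f891209 IH) (Lpe (f891206 IH) (Lpr_ct (f396437 IH) (Lpr_gf (K56.f396448 IH) (Lpe (K56.f396450 IH) (Lpn (LP (LK LD1_c11 LD2_c56 LD3_c19)))))))))))))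
theorem f891211 : Led Lsl_gt (LP (LK LD1_c16 LD2_c11 LD3_c32)) = (LP (LK LD1_c11 LD2_c56 LD3_c19)) :=
  Leop (Lpe (f891210 IH) (Lpn (LP (LK LD1_c16 LD2_c11 LD3_c32))))
theorem seed_2132 : LEOK LG_g (LK LD1_c16 LD2_c11 LD3_c32) :=
  Leoe_g (LK LD1_c16 LD2_c11 LD3_c32) (f891211 IH)
def v36897 : LQ := Led Lsl_ft (LP (LK LD1_c8 LD2_c37 LD3_c49))
theorem f891224 : Led Lsl_ft (LP (LK LD1_c8 LD2_c37 LD3_c49)) = v36897 :=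
  Lrfl
theorem f891229 : Led Lsl_ff (LP (LK LD1_c8 LD2_c37 LD3_c49)) = v36897 :=
  Lgr Lrot3 (Lpr_ft (f891224 IH) (Lpn v36897))
theorem f340518 : Led Lsl_ff (LP (LK LD1_c19 LD2_c55 LD3_c44)) = (LP (LK LD1_c16 LD2_c9 LD3_c54)) :=
  Lgr Lrot3 (Lpr_ft (K24.f340514 IH) (Lpn (LP (LK LD1_c16 LD2_c9 LD3_c54))))
theorem f891232 : Led Lsl_dt (LP (LK LD1_c19 LD2_c55 LD3_c44)) = v36897 :=
  Lgr Lrot60 (Lpr_ff (f340518 IH) (Lpe (K14.f191300 IH) (Lpr_ff (f891229 IH) (Lpn v36897))))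
theorem f891231 : Led Lsl_ct (LP (LK LD1_c8 LD2_c37 LD3_c52)) = v36897 :=
  Lgr Lrot40 (Lpe (K20.f190021 IH) (Lpe (K20.f190004 IH) (Lpr_ff (f891229 IH) (Lpn v36897))))
theorem f195562 : Led Lsl_ct (LP (LK LD1_c15 LD2_c30 LD3_c3)) = (LP (LK LD1_c8 LD2_c14 LD3_c22)) :=
  Lre_c IH (LK LD1_c15 LD2_c30 LD3_c3) (LK LD1_c8 LD2_c14 LD3_c22) Lrfl Lrfl
theorem f189422 : Led Lsl_ct (LP (LK LD1_c11 LD2_c3 LD3_c5)) = (LP (LK LD1_c19 LD2_c54 LD3_c45)) :=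
  Lre_c IH (LK LD1_c11 LD2_c3 LD3_c5) (LK LD1_c19 LD2_c54 LD3_c45) Lrfl Lrfl
theorem f234024 : Led Lsl_gt (LP (LK LD1_c19 LD2_c54 LD3_c45)) = (LP (LK LD1_c29 LD2_c10 LD3_c28)) :=
  Lre_g IH (LK LD1_c19 LD2_c54 LD3_c45) (LK LD1_c29 LD2_c10 LD3_c28) Lrfl Lrfl
theorem f891236 : Led Lsl_cf (LP (LK LD1_c19 LD2_c55 LD3_c44)) = (LP (LK LD1_c29 LD2_c10 LD3_c28)) :=
  Lgr Lrot175 (Lpr_dt (f891232 IH) (Lpe (f891231 IH) (Lpe (K53.f348958 IH) (Lpe (f195562 IH) (Lpr_gf (K21.f314685 IH) (Lpr_dt (K19.f31851 IH) (Lpr_gt (K19.f234018 IH) (Lpr_ct (f189422 IH) (Lpr_gt (f234024 IH) (Lpn (LP (LK LD1_c29 LD2_c10 LD3_c28))))))))))))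
theorem f891237 : Led Lsl_ct (LP (LK LD1_c29 LD2_c10 LD3_c28)) = (LP (LK LD1_c19 LD2_c55 LD3_c44)) :=
  Leop (Lpr_cf (f891236 IH) (Lpn (LP (LK LD1_c29 LD2_c10 LD3_c28))))
theorem seed_2133 : LEOK LG_c (LK LD1_c29 LD2_c10 LD3_c28) :=
  Leoe_c (LK LD1_c29 LD2_c10 LD3_c28) (f891237 IH)
def v36905 : LQ := Led Lsl_dt (LP (LK LD1_c8 LD2_c38 LD3_c0))
theorem f891288 : Led Lsl_dt (LP (LK LD1_c8 LD2_c38 LD3_c0)) = v36905 :=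
  Lrfl
theorem f891291 : Led Lsl_ff (LP (LK LD1_c11 LD2_c2 LD3_c41)) = v36905 :=
  Lgr Lrot19 (Lpr_dt (K26.f212908 IH) (Lpe (K12.f212899 IH) (Lpr_dt (f891288 IH) (Lpn v36905))))
theorem f891293 : Led Lsl_ft (LP (LK LD1_c11 LD2_c2 LD3_c41)) = v36905 :=
  Lgr Lrot48 (Lpr_ff (f891291 IH) (Lpn v36905))
theorem f213444 : Led Lsl_gt (LP (LK LD1_c11 LD2_c2 LD3_c41)) = (LP (LK LD1_c19 LD2_c54 LD3_c4)) :=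
  Lre_g IH (LK LD1_c11 LD2_c2 LD3_c41) (LK LD1_c19 LD2_c54 LD3_c4) Lrfl Lrfl
theorem f891289 : Led Lsl_af (LP (LK LD1_c16 LD2_c11 LD3_c45)) = v36905 :=
  Lgr Lrot117 (Lpr_dt (K53.f31088 IH) (Lpr_at (K23.f32053 IH) (Lpr_dt (f891288 IH) (Lpn v36905))))
theorem f891294 : Led Lsl_gt (LP (LK LD1_c19 LD2_c54 LD3_c4)) = (LP (LK LD1_c16 LD2_c11 LD3_c45)) :=
  Lgr Lrot46 (Lpe (f213444 IH) (Lpr_ft (f891293 IH) (Lpe (f891289 IH) (Lpn (LP (LK LD1_c16 LD2_c11 LD3_c45))))))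
theorem f891295 : Led Lsl_gt (LP (LK LD1_c19 LD2_c54 LD3_c4)) = (LP (LK LD1_c16 LD2_c11 LD3_c45)) :=
  Leop (Lpe (f891294 IH) (Lpn (LP (LK LD1_c19 LD2_c54 LD3_c4))))
theorem seed_2134 : LEOK LG_g (LK LD1_c19 LD2_c54 LD3_c4) :=
  Leoe_g (LK LD1_c19 LD2_c54 LD3_c4) (f891295 IH)
def v36912 : LQ := Led Lsl_ft (LP (LK LD1_c8 LD2_c38 LD3_c12))
theorem f891337 : Led Lsl_ft (LP (LK LD1_c8 LD2_c38 LD3_c12)) = v36912 :=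
  Lrfl
theorem f31780 : Led Lsl_et (LP (LK LD1_c4 LD2_c20 LD3_c8)) = (LP (LK LD1_c8 LD2_c38 LD3_c12)) :=
  Lre_e IH (LK LD1_c4 LD2_c20 LD3_c8) (LK LD1_c8 LD2_c38 LD3_c12) Lrfl Lrfl
theorem f240611 : Led Lsl_et (LP (LK LD1_c8 LD2_c38 LD3_c57)) = (LP (LK LD1_c4 LD2_c20 LD3_c36)) :=
  Lre_e IH (LK LD1_c8 LD2_c38 LD3_c57) (LK LD1_c4 LD2_c20 LD3_c36) Lrfl Lrfl
theorem f315767 : Led Lsl_ft (LP (LK LD1_c16 LD2_c11 LD3_c54)) = (LP (LK LD1_c8 LD2_c38 LD3_c57)) :=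
  Lre_f IH (LK LD1_c16 LD2_c11 LD3_c54) (LK LD1_c8 LD2_c38 LD3_c57) Lrfl Lrfl
theorem f891340 : Led Lsl_ef (LP (LK LD1_c16 LD2_c11 LD3_c54)) = v36912 :=
  Lgr Lrot21 (Lpr_ft (f315767 IH) (Lpr_et (f240611 IH) (Lpr_ft (K32.f315713 IH) (Lpr_et (f31780 IH) (Lpr_ft (f891337 IH) (Lpn v36912))))))
theorem f315707 : Led Lsl_ff (LP (LK LD1_c4 LD2_c20 LD3_c36)) = (LP (LK LD1_c4 LD2_c20 LD3_c8)) :=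
  Lgr Lrot23 (Lpr_ct (K13.f240960 IH) (Lpr_ft (K20.f315705 IH) (Lpe (K15.f241369 IH) (Lpn (LP (LK LD1_c4 LD2_c20 LD3_c8))))))
theorem f315735 : Led Lsl_at (LP (LK LD1_c4 LD2_c20 LD3_c36)) = (LP (LK LD1_c4 LD2_c4 LD3_c35)) :=
  Lgr Lrot66 (Lpr_ff (f315707 IH) (Lpe (K48.f315703 IH) (Lpr_ff (K39.f315733 IH) (Lpn (LP (LK LD1_c4 LD2_c4 LD3_c35))))))
theorem f194097 : Led Lsl_et (LP (LK LD1_c4 LD2_c4 LD3_c35)) = (LP (LK LD1_c8 LD2_c10 LD3_c0)) :=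
  Lre_e IH (LK LD1_c4 LD2_c4 LD3_c35) (LK LD1_c8 LD2_c10 LD3_c0) Lrfl Lrfl
theorem f315752 : Led Lsl_af (LP (LK LD1_c8 LD2_c38 LD3_c57)) = (LP (LK LD1_c8 LD2_c10 LD3_c0)) :=
  Lgr Lrot50 (Lpr_et (f240611 IH) (Lpr_at (f315735 IH) (Lpr_et (f194097 IH) (Lpn (LP (LK LD1_c8 LD2_c10 LD3_c0))))))
theorem f315754 : Led Lsl_at (LP (LK LD1_c8 LD2_c38 LD3_c57)) = (LP (LK LD1_c8 LD2_c10 LD3_c0)) :=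
  Lgr Lrot100 (Lpr_af (f315752 IH) (Lpn (LP (LK LD1_c8 LD2_c10 LD3_c0))))
theorem f211657 : Led Lsl_gt (LP (LK LD1_c15 LD2_c22 LD3_c47)) = (LP (LK LD1_c8 LD2_c10 LD3_c0)) :=
  Lre_g IH (LK LD1_c15 LD2_c22 LD3_c47) (LK LD1_c8 LD2_c10 LD3_c0) Lrfl Lrfl
theorem f315771 : Led Lsl_gt (LP (LK LD1_c16 LD2_c11 LD3_c54)) = (LP (LK LD1_c15 LD2_c22 LD3_c47)) :=
  Lgr Lrot5 (Lpr_ft (f315767 IH) (Lpr_at (f315754 IH) (Lpe (f211657 IH) (Lpn (LP (LK LD1_c15 LD2_c22 LD3_c47))))))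
def v12309 : LQ := Led Lsl_ft (LP (LK LD1_c4 LD2_c0 LD3_c11))
theorem f689295 : Led Lsl_ft (LP (LK LD1_c4 LD2_c0 LD3_c11)) = v12309 :=
  Lrfl
theorem f689297 : Led Lsl_ff (LP (LK LD1_c4 LD2_c0 LD3_c11)) = v12309 :=
  Lgr Lrot3 (Lpr_ft (f689295 IH) (Lpn v12309))
def v35709 : LQ := Led Lsl_at (LP (LK LD1_c8 LD2_c1 LD3_c26))
theorem f876996 : Led Lsl_at (LP (LK LD1_c8 LD2_c1 LD3_c26)) = v35709 :=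
  Lrfl
def v12308 : LQ := Led Lsl_at (LP (LK LD1_c4 LD2_c0 LD3_c11))
theorem f689291 : Led Lsl_at (LP (LK LD1_c4 LD2_c0 LD3_c11)) = v12308 :=
  Lrfl
theorem f689292 : Led Lsl_af (LP (LK LD1_c4 LD2_c0 LD3_c11)) = v12308 :=
  Lgr Lrot0 (Lpr_at (f689291 IH) (Lpn v12308))
theorem f689293 : Led Lsl_ft (LP (LK LD1_c4 LD2_c0 LD3_c12)) = v12308 :=
  Lgr Lrot2 (Lpr_gt (K37.f30104 IH) (Lpr_gt (K37.f30120 IH) (Lpr_af (f689292 IH) (Lpn v12308))))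
theorem f689296 : Led Lsl_af (LP (LK LD1_c4 LD2_c0 LD3_c12)) = v12309 :=
  Lgr Lrot45 (Lpr_ft (f689293 IH) (Lpe (f689292 IH) (Lpr_ft (f689295 IH) (Lpn v12309))))
theorem f876998 : Led Lsl_ef v12309 = v35709 :=
  Lgr Lrot20 (Lpe (f689296 IH) (Lpr_et (K37.f70606 IH) (Lpr_at (f876996 IH) (Lpn v35709))))
theorem f792815 : Led Lsl_af (LP (LK LD1_c26 LD2_c23 LD3_c14)) = (LP (LK LD1_c27 LD2_c57 LD3_c26)) :=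
  Lgr Lrot50 (Lpr_et (K40.f418078 IH) (Lpr_at (K61.f792807 IH) (Lpr_et (K37.f443131 IH) (Lpn (LP (LK LD1_c27 LD2_c57 LD3_c26))))))
theorem f205083 : Led Lsl_dt (LP (LK LD1_c18 LD2_c18 LD3_c47)) = (LP (LK LD1_c27 LD2_c57 LD3_c26)) :=
  Lre_d IH (LK LD1_c18 LD2_c18 LD3_c47) (LK LD1_c27 LD2_c57 LD3_c26) Lrfl Lrfl
theorem f792819 : Led Lsl_at (LP (LK LD1_c16 LD2_c25 LD3_c50)) = (LP (LK LD1_c18 LD2_c18 LD3_c47)) :=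
  Lgr Lrot51 (Lpe (K40.f418075 IH) (Lpr_af (f792815 IH) (Lpe (f205083 IH) (Lpn (LP (LK LD1_c18 LD2_c18 LD3_c47))))))
theorem f792823 : Led Lsl_af (LP (LK LD1_c8 LD2_c46 LD3_c53)) = (LP (LK LD1_c14 LD2_c59 LD3_c41)) :=
  Lgr Lrot50 (Lpr_et (K40.f35318 IH) (Lpr_at (f792819 IH) (Lpe (K37.f418165 IH) (Lpn (LP (LK LD1_c14 LD2_c59 LD3_c41))))))
theorem f792882 : Led Lsl_at (LP (LK LD1_c8 LD2_c46 LD3_c53)) = (LP (LK LD1_c14 LD2_c59 LD3_c41)) :=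
  Lgr Lrot100 (Lpr_af (f792823 IH) (Lpn (LP (LK LD1_c14 LD2_c59 LD3_c41))))
theorem f792888 : Led Lsl_ff (LP (LK LD1_c8 LD2_c46 LD3_c53)) = (LP (LK LD1_c14 LD2_c59 LD3_c40)) :=
  Lgr Lrot52 (Lpr_at (f792882 IH) (Lpr_gf (K37.f346894 IH) (Lpr_gf (K37.f35605 IH) (Lpn (LP (LK LD1_c14 LD2_c59 LD3_c40))))))
theorem f792892 : Led Lsl_ft (LP (LK LD1_c8 LD2_c46 LD3_c53)) = (LP (LK LD1_c14 LD2_c59 LD3_c40)) :=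
  Lgr Lrot48 (Lpr_ff (f792888 IH) (Lpn (LP (LK LD1_c14 LD2_c59 LD3_c40))))
theorem f205085 : Led Lsl_gt (LP (LK LD1_c18 LD2_c18 LD3_c48)) = (LP (LK LD1_c10 LD2_c1 LD3_c16)) :=
  Lre_g IH (LK LD1_c18 LD2_c18 LD3_c48) (LK LD1_c10 LD2_c1 LD3_c16) Lrfl Lrfl
theorem f792825 : Led Lsl_ff (LP (LK LD1_c16 LD2_c25 LD3_c50)) = (LP (LK LD1_c18 LD2_c18 LD3_c48)) :=
  Lgr Lrot52 (Lpr_at (f792819 IH) (Lpe (K37.f205082 IH) (Lpe (f205085 IH) (Lpn (LP (LK LD1_c18 LD2_c18 LD3_c48))))))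
theorem f792829 : Led Lsl_ft (LP (LK LD1_c16 LD2_c25 LD3_c50)) = (LP (LK LD1_c18 LD2_c18 LD3_c48)) :=
  Lgr Lrot48 (Lpr_ff (f792825 IH) (Lpn (LP (LK LD1_c18 LD2_c18 LD3_c48))))
theorem f273080 : Led Lsl_gt (LP (LK LD1_c18 LD2_c40 LD3_c40)) = (LP (LK LD1_c10 LD2_c16 LD3_c9)) :=
  Lre_g IH (LK LD1_c18 LD2_c40 LD3_c40) (LK LD1_c10 LD2_c16 LD3_c9) Lrfl Lrfl
theorem f273081 : Led Lsl_gf (LP (LK LD1_c18 LD2_c40 LD3_c40)) = (LP (LK LD1_c18 LD2_c18 LD3_c49)) :=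
  Lgr Lrot47 (Lpr_gt (f273080 IH) (Lpr_af (K40.f273072 IH) (Lpe (K40.f205088 IH) (Lpn (LP (LK LD1_c18 LD2_c18 LD3_c49))))))
theorem f792834 : Led Lsl_af (LP (LK LD1_c18 LD2_c40 LD3_c40)) = (LP (LK LD1_c18 LD2_c18 LD3_c48)) :=
  Lgr Lrot31 (Lpr_gf (f273081 IH) (Lpr_gf (K40.f418070 IH) (Lpr_ft (f792829 IH) (Lpn (LP (LK LD1_c18 LD2_c18 LD3_c48))))))
theorem f792821 : Led Lsl_af (LP (LK LD1_c16 LD2_c25 LD3_c50)) = (LP (LK LD1_c18 LD2_c18 LD3_c47)) :=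
  Lgr Lrot0 (Lpr_at (f792819 IH) (Lpn (LP (LK LD1_c18 LD2_c18 LD3_c47))))
theorem f792838 : Led Lsl_ft (LP (LK LD1_c18 LD2_c40 LD3_c40)) = (LP (LK LD1_c18 LD2_c18 LD3_c47)) :=
  Lgr Lrot101 (Lpr_af (f792834 IH) (Lpe (f792829 IH) (Lpr_af (f792821 IH) (Lpn (LP (LK LD1_c18 LD2_c18 LD3_c47))))))
theorem f792779 : Led Lsl_ff (LP (LK LD1_c8 LD2_c46 LD3_c50)) = (LP (LK LD1_c14 LD2_c59 LD3_c41)) :=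
  Lgr Lrot19 (Lpr_dt (K61.f35314 IH) (Lpr_ft (K61.f696596 IH) (Lpqs (K61.f792774 IH) (Lpr_dt (K37.f35692 IH) (Lpn (LP (LK LD1_c14 LD2_c59 LD3_c41)))))))
theorem f35315 : Led Lsl_et (LP (LK LD1_c8 LD2_c46 LD3_c50)) = (LP (LK LD1_c16 LD2_c25 LD3_c42)) :=
  Lre_e IH (LK LD1_c8 LD2_c46 LD3_c50) (LK LD1_c16 LD2_c25 LD3_c42) Lrfl Lrfl
theorem f443118 : Led Lsl_ft (LP (LK LD1_c16 LD2_c25 LD3_c42)) = (LP (LK LD1_c26 LD2_c23 LD3_c11)) :=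
  Lre_f IH (LK LD1_c16 LD2_c25 LD3_c42) (LK LD1_c26 LD2_c23 LD3_c11) Lrfl Lrfl
theorem f792842 : Led Lsl_ef (LP (LK LD1_c18 LD2_c40 LD3_c40)) = (LP (LK LD1_c26 LD2_c23 LD3_c11)) :=
  Lgr Lrot21 (Lpr_ft (f792838 IH) (Lpe (K37.f418165 IH) (Lpe (f792779 IH) (Lpr_et (f35315 IH) (Lpr_ft (f443118 IH) (Lpn (LP (LK LD1_c26 LD2_c23 LD3_c11))))))))
theorem f792852 : Led Lsl_et (LP (LK LD1_c18 LD2_c40 LD3_c40)) = (LP (LK LD1_c26 LD2_c23 LD3_c11)) :=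
  Lgr Lrot87 (Lpr_ef (f792842 IH) (Lpn (LP (LK LD1_c26 LD2_c23 LD3_c11))))
theorem f792844 : Led Lsl_ff (LP (LK LD1_c18 LD2_c40 LD3_c40)) = (LP (LK LD1_c18 LD2_c18 LD3_c47)) :=
  Lgr Lrot3 (Lpr_ft (f792838 IH) (Lpn (LP (LK LD1_c18 LD2_c18 LD3_c47))))
theorem f443125 : Led Lsl_ft (LP (LK LD1_c26 LD2_c23 LD3_c11)) = (LP (LK LD1_c16 LD2_c25 LD3_c42)) :=
  Lre_f IH (LK LD1_c26 LD2_c23 LD3_c11) (LK LD1_c16 LD2_c25 LD3_c42) Lrfl Lrfl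
theorem f792856 : Led Lsl_ff (LP (LK LD1_c14 LD2_c59 LD3_c41)) = (LP (LK LD1_c8 LD2_c46 LD3_c50)) :=
  Lgr Lrot72 (Lpr_et (K37.f418162 IH) (Lpe (f792844 IH) (Lpr_et (f792852 IH) (Lpr_ft (f443125 IH) (Lpr_et (K61.f35358 IH) (Lpn (LP (LK LD1_c8 LD2_c46 LD3_c50))))))))
theorem f792894 : Led Lsl_af (LP (LK LD1_c8 LD2_c46 LD3_c50)) = (LP (LK LD1_c14 LD2_c59 LD3_c40)) :=
  Lgr Lrot45 (Lpe (f792856 IH) (Lpe (f792823 IH) (Lpr_ft (f792892 IH) (Lpn (LP (LK LD1_c14 LD2_c59 LD3_c40))))))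
theorem f35352 : Led Lsl_gt (LP (LK LD1_c16 LD2_c25 LD3_c40)) = (LP (LK LD1_c8 LD2_c46 LD3_c50)) :=
  Lre_g IH (LK LD1_c16 LD2_c25 LD3_c40) (LK LD1_c8 LD2_c46 LD3_c50) Lrfl Lrfl
theorem f792896 : Led Lsl_gt (LP (LK LD1_c8 LD2_c46 LD3_c53)) = (LP (LK LD1_c16 LD2_c25 LD3_c40)) :=
  Lgr Lrot5 (Lpr_ft (f792892 IH) (Lpe (f792894 IH) (Lpe (f35352 IH) (Lpn (LP (LK LD1_c16 LD2_c25 LD3_c40))))))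
theorem f877070 : Led Lsl_df (LP (LK LD1_c16 LD2_c25 LD3_c40)) = (LP (LK LD1_c15 LD2_c8 LD3_c48)) :=
  Lgr Lrot168 (Lpe (f792896 IH) (Lpe (K61.f36174 IH) (Lpr_et (K61.f418409 IH) (Lpr_gf (K40.f445216 IH) (Lpe (K46.f59746 IH) (Lpr_dt (K46.f59730 IH) (Lpe (K47.f59775 IH) (Lpr_df (K47.f608015 IH) (Lpe (K47.f608007 IH) (Lpr_ef (K67.f877065 IH) (Lpn (LP (LK LD1_c15 LD2_c8 LD3_c48)))))))))))))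
theorem f101832 : Led Lsl_gt (LP (LK LD1_c17 LD2_c56 LD3_c59)) = (LP (LK LD1_c9 LD2_c46 LD3_c56)) :=
  Lre_g IH (LK LD1_c17 LD2_c56 LD3_c59) (LK LD1_c9 LD2_c46 LD3_c56) Lrfl Lrfl
theorem f697493 : Led Lsl_ff (LP (LK LD1_c16 LD2_c26 LD3_c43)) = (LP (LK LD1_c17 LD2_c56 LD3_c59)) :=
  Lgr Lrot52 (Lpr_at (K61.f697489 IH) (Lpe (K37.f37339 IH) (Lpe (f101832 IH) (Lpn (LP (LK LD1_c17 LD2_c56 LD3_c59))))))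
theorem f697549 : Led Lsl_df (LP (LK LD1_c17 LD2_c56 LD3_c59)) = (LP (LK LD1_c12 LD2_c22 LD3_c34)) :=
  Lgr Lrot78 (Lpe (f697493 IH) (Lpr_dt (K4.f99368 IH) (Lpr_ft (K64.f697543 IH) (Lpn (LP (LK LD1_c12 LD2_c22 LD3_c34))))))
theorem f443149 : Led Lsl_cf (LP (LK LD1_c4 LD2_c24 LD3_c55)) = (LP (LK LD1_c7 LD2_c56 LD3_c54)) :=
  Lgr Lrot11 (Lpr_ct (K61.f443147 IH) (Lpn (LP (LK LD1_c7 LD2_c56 LD3_c54))))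
theorem f763240 : Led Lsl_ct (LP (LK LD1_c16 LD2_c25 LD3_c2)) = (LP (LK LD1_c15 LD2_c6 LD3_c36)) :=
  Lgr Lrot7 (Lpr_df (K64.f763197 IH) (Lpe (K64.f35847 IH) (Lpe (K64.f35846 IH) (Lpe (K37.f35830 IH) (Lpr_cf (f443149 IH) (Lpr_gt (K37.f35690 IH) (Lpe (K64.f35788 IH) (Lpr_gt (K64.f31948 IH) (Lpr_dt (K64.f406974 IH) (Lpn (LP (LK LD1_c15 LD2_c6 LD3_c36))))))))))))
theorem f877076 : Led Lsl_gt (LP (LK LD1_c15 LD2_c6 LD3_c36)) = (LP (LK LD1_c15 LD2_c8 LD3_c48)) :=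
  Lgr Lrot94 (Lpe (f763240 IH) (Lpr_gt (K64.f763191 IH) (Lpe (f697549 IH) (Lpr_gt (f101832 IH) (Lpr_dt (K62.f70406 IH) (Lpe (K61.f617203 IH) (Lpe (K61.f35314 IH) (Lpe (f35352 IH) (Lpr_df (f877070 IH) (Lpn (LP (LK LD1_c15 LD2_c8 LD3_c48))))))))))))
theorem f763264 : Led Lsl_ff (LP (LK LD1_c14 LD2_c59 LD3_c30)) = (LP (LK LD1_c15 LD2_c6 LD3_c36)) :=
  Lgr Lrot3 (Lpr_ft (K64.f763254 IH) (Lpn (LP (LK LD1_c15 LD2_c6 LD3_c36))))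
theorem f617462 : Led Lsl_gt (LP (LK LD1_c14 LD2_c59 LD3_c30)) = (LP (LK LD1_c8 LD2_c2 LD3_c39)) :=
  Lgr Lrot94 (Lpr_cf (K50.f561098 IH) (Lpr_gt (K61.f617460 IH) (Lpe (K4.f99358 IH) (Lpr_gt (K61.f445110 IH) (Lpr_dt (K40.f35842 IH) (Lpr_cf (f443149 IH) (Lpe (K37.f35691 IH) (Lpr_gf (K37.f346894 IH) (Lpe (K37.f30089 IH) (Lpn (LP (LK LD1_c8 LD2_c2 LD3_c39))))))))))))
theorem f763266 : Led Lsl_af (LP (LK LD1_c15 LD2_c8 LD3_c46)) = (LP (LK LD1_c15 LD2_c6 LD3_c36)) :=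
  Lgr Lrot31 (Lpe (K64.f35609 IH) (Lpe (f617462 IH) (Lpr_ft (K64.f763254 IH) (Lpn (LP (LK LD1_c15 LD2_c6 LD3_c36))))))
theorem f763270 : Led Lsl_at (LP (LK LD1_c8 LD2_c38 LD3_c27)) = (LP (LK LD1_c8 LD2_c39 LD3_c7)) :=
  Lgr Lrot51 (Lpe (K64.f445839 IH) (Lpr_af (f763266 IH) (Lpe (K64.f406974 IH) (Lpn (LP (LK LD1_c8 LD2_c39 LD3_c7))))))
theorem f31973 : Led Lsl_gt (LP (LK LD1_c8 LD2_c39 LD3_c8)) = (LP (LK LD1_c4 LD2_c20 LD3_c44)) :=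
  Lre_g IH (LK LD1_c8 LD2_c39 LD3_c8) (LK LD1_c4 LD2_c20 LD3_c44) Lrfl Lrfl
theorem f763278 : Led Lsl_ff (LP (LK LD1_c8 LD2_c38 LD3_c27)) = (LP (LK LD1_c8 LD2_c39 LD3_c8)) :=
  Lgr Lrot52 (Lpr_at (f763270 IH) (Lpe (K64.f31948 IH) (Lpe (f31973 IH) (Lpn (LP (LK LD1_c8 LD2_c39 LD3_c8))))))
theorem f763288 : Led Lsl_ft (LP (LK LD1_c8 LD2_c38 LD3_c27)) = (LP (LK LD1_c8 LD2_c39 LD3_c8)) :=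
  Lgr Lrot48 (Lpr_ff (f763278 IH) (Lpn (LP (LK LD1_c8 LD2_c39 LD3_c8))))
theorem f763296 : Led Lsl_af (LP (LK LD1_c8 LD2_c38 LD3_c28)) = (LP (LK LD1_c8 LD2_c39 LD3_c8)) :=
  Lgr Lrot31 (Lpe (K40.f443111 IH) (Lpr_gf (K64.f445836 IH) (Lpr_ft (f763288 IH) (Lpn (LP (LK LD1_c8 LD2_c39 LD3_c8))))))
theorem f80327 : Led Lsl_et (LP (LK LD1_c8 LD2_c45 LD3_c56)) = (LP (LK LD1_c4 LD2_c24 LD3_c4)) :=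
  Lre_e IH (LK LD1_c8 LD2_c45 LD3_c56) (LK LD1_c4 LD2_c24 LD3_c4) Lrfl Lrfl
theorem f80328 : Led Lsl_df (LP (LK LD1_c8 LD2_c39 LD3_c8)) = (LP (LK LD1_c8 LD2_c45 LD3_c56)) :=
  Lgr Lrot170 (Lpr_gt (f31973 IH) (Lpr_df (K64.f35788 IH) (Lpr_et (K1.f35749 IH) (Lpr_gt (K2.f80315 IH) (Lpr_dt (K2.f59663 IH) (Lpr_gt (K2.f36497 IH) (Lpe (K1.f35823 IH) (Lpr_et (K11.f80325 IH) (Lpr_gt (K46.f80326 IH) (Lpe (f80327 IH) (Lpn (LP (LK LD1_c8 LD2_c45 LD3_c56)))))))))))))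
theorem f763300 : Led Lsl_at (LP (LK LD1_c14 LD2_c59 LD3_c30)) = (LP (LK LD1_c8 LD2_c45 LD3_c56)) :=
  Lgr Lrot51 (Lpe (K61.f70204 IH) (Lpr_af (f763296 IH) (Lpr_df (f80328 IH) (Lpn (LP (LK LD1_c8 LD2_c45 LD3_c56))))))
theorem f877080 : Led Lsl_gf (LP (LK LD1_c8 LD2_c45 LD3_c56)) = (LP (LK LD1_c15 LD2_c8 LD3_c48)) :=
  Lgr Lrot76 (Lpe (f763300 IH) (Lpr_ff (f763264 IH) (Lpr_gt (f877076 IH) (Lpn (LP (LK LD1_c15 LD2_c8 LD3_c48))))))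
theorem f876997 : Led Lsl_af (LP (LK LD1_c8 LD2_c1 LD3_c26)) = v35709 :=
  Lgr Lrot0 (Lpr_at (f876996 IH) (Lpn v35709))
theorem f35736 : Led Lsl_ft (LP (LK LD1_c15 LD2_c8 LD3_c48)) = (LP (LK LD1_c8 LD2_c2 LD3_c39)) :=
  Lre_f IH (LK LD1_c15 LD2_c8 LD3_c48) (LK LD1_c8 LD2_c2 LD3_c39) Lrfl Lrfl
theorem f877091 : v35709 = (LP (LK LD1_c8 LD2_c2 LD3_c39)) :=
  (Llr Lrot31 (Lpe (f876997 IH) (Lpr_gf (K61.f568149 IH) (Lpr_gf (f877080 IH) (Lpr_ft (f35736 IH) (Lpn (LP (LK LD1_c8 LD2_c2 LD3_c39)))))))).symm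
theorem f877094 : v12309 = (LP (LK LD1_c4 LD2_c0 LD3_c56)) :=
  Lefun (Lecon (Lfl_ef (f876998 IH)) (f877091 IH)) (K37.f30088 IH)
theorem f877106 : (LP (LK LD1_c4 LD2_c0 LD3_c11)) = K67.v12310 :=
  Lefun (Lecon (Lfl_ff (f689297 IH)) (f877094 IH)) (K67.f689305 IH)
theorem f877127 : K67.v35724 = (LP (LK LD1_c8 LD2_c1 LD3_c23)) :=
  Lefun (Lecon (K67.f877062 IH) (f877106 IH).symm) (Lfl_et (K40.f30131 IH))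
theorem f877151 : Led Lsl_gt (LP (LK LD1_c8 LD2_c46 LD3_c32)) = (LP (LK LD1_c15 LD2_c8 LD3_c38)) :=
  Lgr Lrot46 (Lpe (K64.f607945 IH) (Lpq (f877127 IH) (Lpe (K67.f877063 IH) (Lpr_at (K67.f696897 IH) (Lpn (LP (LK LD1_c15 LD2_c8 LD3_c38)))))))
theorem f210832 : Led Lsl_et (LP (LK LD1_c14 LD2_c59 LD3_c33)) = (LP (LK LD1_c7 LD2_c56 LD3_c46)) :=
  Lre_e IH (LK LD1_c14 LD2_c59 LD3_c33) (LK LD1_c7 LD2_c56 LD3_c46) Lrfl Lrfl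
theorem f544283 : Led Lsl_cf (LP (LK LD1_c14 LD2_c59 LD3_c33)) = (LP (LK LD1_c8 LD2_c46 LD3_c32)) :=
  Lgr Lrot39 (Lpr_et (f210832 IH) (Lpr_ct (K37.f544244 IH) (Lpr_et (K64.f544282 IH) (Lpn (LP (LK LD1_c8 LD2_c46 LD3_c32))))))
theorem f445194 : Led Lsl_cf (LP (LK LD1_c8 LD2_c26 LD3_c4)) = (LP (LK LD1_c15 LD2_c13 LD3_c56)) :=
  Lgr Lrot11 (Lpr_ct (K65.f445192 IH) (Lpn (LP (LK LD1_c15 LD2_c13 LD3_c56))))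
theorem f34447 : Led Lsl_ct (LP (LK LD1_c4 LD2_c2 LD3_c24)) = (LP (LK LD1_c8 LD2_c5 LD3_c20)) :=
  Lre_c IH (LK LD1_c4 LD2_c2 LD3_c24) (LK LD1_c8 LD2_c5 LD3_c20) Lrfl Lrfl
theorem f568144 : Led Lsl_ct (LP (LK LD1_c16 LD2_c32 LD3_c60)) = (LP (LK LD1_c8 LD2_c51 LD3_c12)) :=
  Lre_c IH (LK LD1_c16 LD2_c32 LD3_c60) (LK LD1_c8 LD2_c51 LD3_c12) Lrfl Lrfl
theorem f696803 : Led Lsl_gt (LP (LK LD1_c14 LD2_c59 LD3_c33)) = (LP (LK LD1_c16 LD2_c32 LD3_c60)) :=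
  Lgr Lrot150 (Lpr_cf (f544283 IH) (Lpe (K64.f607945 IH) (Lpr_df (K40.f81460 IH) (Lpr_gt (K40.f34497 IH) (Lpr_ct (f34447 IH) (Lpr_gt (K65.f34430 IH) (Lpe (f445194 IH) (Lpr_df (K57.f696797 IH) (Lpe (f568144 IH) (Lpn (LP (LK LD1_c16 LD2_c32 LD3_c60))))))))))))
theorem f503099 : Led Lsl_df (LP (LK LD1_c16 LD2_c25 LD3_c15)) = (LP (LK LD1_c17 LD2_c57 LD3_c23)) :=
  Lgr Lrot38 (Lpr_dt (K64.f503096 IH) (Lpn (LP (LK LD1_c17 LD2_c57 LD3_c23))))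
theorem f453333 : Led Lsl_at (LP (LK LD1_c8 LD2_c47 LD3_c30)) = (LP (LK LD1_c9 LD2_c47 LD3_c8)) :=
  Lgr Lrot100 (Lpr_af (K38.f453237 IH) (Lpn (LP (LK LD1_c9 LD2_c47 LD3_c8))))
theorem f453357 : Led Lsl_gt (LP (LK LD1_c17 LD2_c57 LD3_c26)) = (LP (LK LD1_c9 LD2_c47 LD3_c8)) :=
  Lre_g IH (LK LD1_c17 LD2_c57 LD3_c26) (LK LD1_c9 LD2_c47 LD3_c8) Lrfl Lrfl
theorem f453358 : Led Lsl_gt (LP (LK LD1_c16 LD2_c27 LD3_c10)) = (LP (LK LD1_c17 LD2_c57 LD3_c26)) :=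
  Lgr Lrot5 (Lpr_ft (K53.f272970 IH) (Lpr_at (f453333 IH) (Lpe (f453357 IH) (Lpn (LP (LK LD1_c17 LD2_c57 LD3_c26))))))
theorem f697519 : Led Lsl_et (LP (LK LD1_c16 LD2_c26 LD3_c44)) = (LP (LK LD1_c17 LD2_c57 LD3_c26)) :=
  Lgr Lrot122 (Lpr_dt (K61.f697511 IH) (Lpr_gt (K6.f70253 IH) (Lpe (K61.f70263 IH) (Lpr_et (K64.f70265 IH) (Lpr_gt (K64.f618016 IH) (Lpr_dt (K64.f617984 IH) (Lpr_gt (K64.f617982 IH) (Lpr_df (f503099 IH) (Lpe (K53.f453218 IH) (Lpr_gt (f453358 IH) (Lpn (LP (LK LD1_c17 LD2_c57 LD3_c26)))))))))))))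
theorem f697523 : Led Lsl_ef (LP (LK LD1_c16 LD2_c26 LD3_c44)) = (LP (LK LD1_c17 LD2_c57 LD3_c26)) :=
  Lgr Lrot88 (Lpr_et (f697519 IH) (Lpn (LP (LK LD1_c17 LD2_c57 LD3_c26))))
theorem f696791 : Led Lsl_et (LP (LK LD1_c16 LD2_c25 LD3_c1)) = (LP (LK LD1_c16 LD2_c32 LD3_c60)) :=
  Lgr Lrot158 (Lpe (K6.f70271 IH) (Lpr_ef (K50.f696788 IH) (Lpe (f568144 IH) (Lpn (LP (LK LD1_c16 LD2_c32 LD3_c60))))))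
theorem f547141 : Led Lsl_et (LP (LK LD1_c15 LD2_c5 LD3_c52)) = (LP (LK LD1_c8 LD2_c1 LD3_c7)) :=
  Lre_e IH (LK LD1_c15 LD2_c5 LD3_c52) (LK LD1_c8 LD2_c1 LD3_c7) Lrfl Lrfl
theorem f70251 : Led Lsl_gt (LP (LK LD1_c8 LD2_c45 LD3_c31)) = (LP (LK LD1_c16 LD2_c23 LD3_c40)) :=
  Lre_g IH (LK LD1_c8 LD2_c45 LD3_c31) (LK LD1_c16 LD2_c23 LD3_c40) Lrfl Lrfl
theorem f193768 : Led Lsl_et (LP (LK LD1_c26 LD2_c21 LD3_c40)) = (LP (LK LD1_c16 LD2_c23 LD3_c40)) :=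
  Lre_e IH (LK LD1_c26 LD2_c21 LD3_c40) (LK LD1_c16 LD2_c23 LD3_c40) Lrfl Lrfl
theorem f549146 : Led Lsl_dt (LP (LK LD1_c26 LD2_c21 LD3_c40)) = (LP (LK LD1_c17 LD2_c57 LD3_c26)) :=
  Lgr Lrot136 (Lpr_et (f193768 IH) (Lpe (f70251 IH) (Lpe (K2.f70115 IH) (Lpr_dt (K10.f70007 IH) (Lpe (K10.f193764 IH) (Lpe (K16.f60704 IH) (Lpe (K38.f547146 IH) (Lpe (f547141 IH) (Lpr_dt (K38.f549139 IH) (Lpe (f453357 IH) (Lpn (LP (LK LD1_c17 LD2_c57 LD3_c26)))))))))))))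
theorem f549150 : Led Lsl_et (LP (LK LD1_c16 LD2_c23 LD3_c40)) = (LP (LK LD1_c26 LD2_c21 LD3_c40)) :=
  Lre_e IH (LK LD1_c16 LD2_c23 LD3_c40) (LK LD1_c26 LD2_c21 LD3_c40) Lrfl Lrfl
theorem f697525 : Led Lsl_dt (LP (LK LD1_c16 LD2_c32 LD3_c60)) = (LP (LK LD1_c16 LD2_c23 LD3_c40)) :=
  Lgr Lrot77 (Lpe (f696791 IH) (Lpe (K61.f697511 IH) (Lpr_ef (f697523 IH) (Lpe (f549146 IH) (Lpe (f549150 IH) (Lpn (LP (LK LD1_c16 LD2_c23 LD3_c40))))))))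
theorem f69991 : Led Lsl_af (LP (LK LD1_c12 LD2_c6 LD3_c35)) = (LP (LK LD1_c16 LD2_c23 LD3_c42)) :=
  Lgr Lrot50 (Lpr_et (K10.f69897 IH) (Lpr_at (K2.f69882 IH) (Lpr_et (K2.f69983 IH) (Lpn (LP (LK LD1_c16 LD2_c23 LD3_c42))))))
theorem f81496 : Led Lsl_ft (LP (LK LD1_c8 LD2_c45 LD3_c31)) = (LP (LK LD1_c16 LD2_c23 LD3_c42)) :=
  Lre_f IH (LK LD1_c8 LD2_c45 LD3_c31) (LK LD1_c16 LD2_c23 LD3_c42) Lrfl Lrfl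
theorem f443181 : Led Lsl_gf (LP (LK LD1_c12 LD2_c6 LD3_c35)) = (LP (LK LD1_c16 LD2_c23 LD3_c40)) :=
  Lgr Lrot76 (Lpr_af (f69991 IH) (Lpe (f81496 IH) (Lpr_gt (f70251 IH) (Lpn (LP (LK LD1_c16 LD2_c23 LD3_c40))))))
theorem f69901 : Led Lsl_dt (LP (LK LD1_c12 LD2_c6 LD3_c35)) = (LP (LK LD1_c6 LD2_c13 LD3_c60)) :=
  Lre_d IH (LK LD1_c12 LD2_c6 LD3_c35) (LK LD1_c6 LD2_c13 LD3_c60) Lrfl Lrfl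
theorem f34494 : Led Lsl_ft (LP (LK LD1_c4 LD2_c2 LD3_c24)) = (LP (LK LD1_c8 LD2_c5 LD3_c23)) :=
  Lre_f IH (LK LD1_c4 LD2_c2 LD3_c24) (LK LD1_c8 LD2_c5 LD3_c23) Lrfl Lrfl
theorem f34495 : Led Lsl_af (LP (LK LD1_c8 LD2_c3 LD3_c54)) = (LP (LK LD1_c8 LD2_c5 LD3_c23)) :=
  Lgr Lrot45 (Lpr_ft (K10.f34493 IH) (Lpr_at (K10.f34468 IH) (Lpr_ft (f34494 IH) (Lpn (LP (LK LD1_c8 LD2_c5 LD3_c23))))))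
theorem f34510 : Led Lsl_gt (LP (LK LD1_c4 LD2_c2 LD3_c24)) = (LP (LK LD1_c8 LD2_c5 LD3_c21)) :=
  Lre_g IH (LK LD1_c4 LD2_c2 LD3_c24) (LK LD1_c8 LD2_c5 LD3_c21) Lrfl Lrfl
theorem f34511 : Led Lsl_gf (LP (LK LD1_c8 LD2_c3 LD3_c54)) = (LP (LK LD1_c8 LD2_c5 LD3_c21)) :=
  Lgr Lrot76 (Lpr_af (f34495 IH) (Lpe (f34494 IH) (Lpr_gt (f34510 IH) (Lpn (LP (LK LD1_c8 LD2_c5 LD3_c21))))))
theorem f877155 : Led Lsl_df (LP (LK LD1_c8 LD2_c5 LD3_c21)) = (LP (LK LD1_c15 LD2_c8 LD3_c38)) :=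
  Lgr Lrot153 (Lpe (f34511 IH) (Lpe (K10.f81128 IH) (Lpr_cf (K65.f81139 IH) (Lpe (f69901 IH) (Lpr_gf (f443181 IH) (Lpe (f697525 IH) (Lpe (f696803 IH) (Lpr_cf (f544283 IH) (Lpr_gt (f877151 IH) (Lpn (LP (LK LD1_c15 LD2_c8 LD3_c38))))))))))))
theorem f877164 : Led Lsl_ft (LP (LK LD1_c8 LD2_c5 LD3_c21)) = (LP (LK LD1_c8 LD2_c3 LD3_c53)) :=
  Lgr Lrot54 (Lpr_df (f877155 IH) (Lpe (K67.f81522 IH) (Lpr_df (K61.f81516 IH) (Lpn (LP (LK LD1_c8 LD2_c3 LD3_c53))))))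
theorem f877172 : Led Lsl_af (LP (LK LD1_c8 LD2_c5 LD3_c22)) = (LP (LK LD1_c8 LD2_c3 LD3_c53)) :=
  Lgr Lrot31 (Lpe (K40.f34498 IH) (Lpr_gf (f34511 IH) (Lpr_ft (f877164 IH) (Lpn (LP (LK LD1_c8 LD2_c3 LD3_c53))))))
theorem f34487 : Led Lsl_et (LP (LK LD1_c15 LD2_c10 LD3_c58)) = (LP (LK LD1_c8 LD2_c3 LD3_c53)) :=
  Lre_e IH (LK LD1_c15 LD2_c10 LD3_c58) (LK LD1_c8 LD2_c3 LD3_c53) Lrfl Lrfl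
theorem f877178 : Led Lsl_at (LP (LK LD1_c15 LD2_c14 LD3_c3)) = (LP (LK LD1_c15 LD2_c10 LD3_c58)) :=
  Lgr Lrot80 (Lpe (K64.f81462 IH) (Lpr_af (f877172 IH) (Lpe (f34487 IH) (Lpn (LP (LK LD1_c15 LD2_c10 LD3_c58))))))
theorem f81469 : Led Lsl_ft (LP (LK LD1_c25 LD2_c3 LD3_c9)) = (LP (LK LD1_c15 LD2_c14 LD3_c3)) :=
  Lre_f IH (LK LD1_c25 LD2_c3 LD3_c9) (LK LD1_c15 LD2_c14 LD3_c3) Lrfl Lrfl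
theorem f225137 : Led Lsl_dt (LP (LK LD1_c8 LD2_c43 LD3_c32)) = (LP (LK LD1_c16 LD2_c20 LD3_c32)) :=
  Lre_d IH (LK LD1_c8 LD2_c43 LD3_c32) (LK LD1_c16 LD2_c20 LD3_c32) Lrfl Lrfl
theorem f298136 : Led Lsl_gf (LP (LK LD1_c15 LD2_c10 LD3_c58)) = (LP (LK LD1_c16 LD2_c20 LD3_c32)) :=
  Lgr Lrot134 (Lpe (K61.f81530 IH) (Lpr_et (K61.f37412 IH) (Lpr_gt (K40.f30632 IH) (Lpe (K40.f37411 IH) (Lpr_dt (K40.f37401 IH) (Lpr_gt (K61.f298129 IH) (Lpe (K18.f297128 IH) (Lpr_et (K18.f297114 IH) (Lpe (K64.f297177 IH) (Lpr_dt (f225137 IH) (Lpn (LP (LK LD1_c16 LD2_c20 LD3_c32)))))))))))))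
theorem f877184 : Led Lsl_gt (LP (LK LD1_c25 LD2_c3 LD3_c9)) = (LP (LK LD1_c16 LD2_c20 LD3_c32)) :=
  Lgr Lrot5 (Lpr_ft (f81469 IH) (Lpr_at (f877178 IH) (Lpr_gf (f298136 IH) (Lpn (LP (LK LD1_c16 LD2_c20 LD3_c32))))))
theorem f763611 : Led Lsl_at (LP (LK LD1_c17 LD2_c54 LD3_c35)) = (LP (LK LD1_c16 LD2_c20 LD3_c32)) :=
  Lgr Lrot51 (Lpe (K64.f297160 IH) (Lpr_af (K64.f763606 IH) (Lpe (K64.f225045 IH) (Lpn (LP (LK LD1_c16 LD2_c20 LD3_c32))))))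
theorem f877186 : Led Lsl_gf (LP (LK LD1_c25 LD2_c3 LD3_c9)) = (LP (LK LD1_c16 LD2_c20 LD3_c28)) :=
  Lgr Lrot47 (Lpr_gt (f877184 IH) (Lpe (f763611 IH) (Lpr_ff (K64.f764040 IH) (Lpn (LP (LK LD1_c16 LD2_c20 LD3_c28))))))
theorem f81468 : Led Lsl_ft (LP (LK LD1_c15 LD2_c6 LD3_c28)) = (LP (LK LD1_c24 LD2_c54 LD3_c37)) :=
  Lre_f IH (LK LD1_c15 LD2_c6 LD3_c28) (LK LD1_c24 LD2_c54 LD3_c37) Lrfl Lrfl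
theorem f81470 : Led Lsl_dt (LP (LK LD1_c24 LD2_c54 LD3_c37)) = (LP (LK LD1_c25 LD2_c3 LD3_c9)) :=
  Lgr Lrot60 (Lpe (f81468 IH) (Lpr_df (K64.f81463 IH) (Lpe (f81469 IH) (Lpn (LP (LK LD1_c25 LD2_c3 LD3_c9))))))
theorem f346833 : Led Lsl_gt (LP (LK LD1_c15 LD2_c23 LD3_c36)) = (LP (LK LD1_c8 LD2_c10 LD3_c29)) :=
  Lre_g IH (LK LD1_c15 LD2_c23 LD3_c36) (LK LD1_c8 LD2_c10 LD3_c29) Lrfl Lrfl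
theorem f877190 : Led Lsl_et (LP (LK LD1_c24 LD2_c54 LD3_c37)) = (LP (LK LD1_c15 LD2_c23 LD3_c36)) :=
  Lgr Lrot121 (Lpr_dt (f81470 IH) (Lpr_gf (f877186 IH) (Lpe (K61.f225133 IH) (Lpr_et (K61.f608023 IH) (Lpr_gf (K61.f610965 IH) (Lpe (K61.f610870 IH) (Lpr_dt (K61.f610901 IH) (Lpe (K61.f346835 IH) (Lpe (K37.f346825 IH) (Lpe (f346833 IH) (Lpn (LP (LK LD1_c15 LD2_c23 LD3_c36)))))))))))))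
theorem f30132 : Led Lsl_et (LP (LK LD1_c8 LD2_c1 LD3_c22)) = (LP (LK LD1_c15 LD2_c6 LD3_c28)) :=
  Lre_e IH (LK LD1_c8 LD2_c1 LD3_c22) (LK LD1_c15 LD2_c6 LD3_c28) Lrfl Lrfl
def v35704 : LQ := Led Lsl_ft (LP (LK LD1_c8 LD2_c1 LD3_c22))
theorem f876972 : Led Lsl_ft (LP (LK LD1_c8 LD2_c1 LD3_c22)) = v35704 :=
  Lrfl
theorem f876975 : Led Lsl_ff (LP (LK LD1_c8 LD2_c1 LD3_c22)) = v35704 :=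
  Lgr Lrot3 (Lpr_ft (f876972 IH) (Lpn v35704))
theorem f876977 : Led Lsl_dt v12309 = v35704 :=
  Lgr Lrot60 (Lpe (f689295 IH) (Lpe (K46.f30124 IH) (Lpr_ff (f876975 IH) (Lpn v35704))))
theorem f30076 : Led Lsl_dt (LP (LK LD1_c4 LD2_c0 LD3_c56)) = (LP (LK LD1_c8 LD2_c2 LD3_c38)) :=
  Lre_d IH (LK LD1_c4 LD2_c0 LD3_c56) (LK LD1_c8 LD2_c2 LD3_c38) Lrfl Lrfl
theorem f877105 : v35704 = (LP (LK LD1_c8 LD2_c2 LD3_c38)) :=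
  Lefun (Lecon (f876977 IH) (f877094 IH)) (f30076 IH)
theorem f238954 : Led Lsl_et (LP (LK LD1_c15 LD2_c8 LD3_c45)) = (LP (LK LD1_c8 LD2_c2 LD3_c38)) :=
  Lre_e IH (LK LD1_c15 LD2_c8 LD3_c45) (LK LD1_c8 LD2_c2 LD3_c38) Lrfl Lrfl
theorem f877194 : Led Lsl_ff (LP (LK LD1_c15 LD2_c8 LD3_c45)) = (LP (LK LD1_c15 LD2_c23 LD3_c36)) :=
  Lgr Lrot72 (Lpr_et (f238954 IH) (Lpq (f877105 IH) (Lpe (f876975 IH) (Lpr_et (f30132 IH) (Lpr_ft (f81468 IH) (Lpr_et (f877190 IH) (Lpn (LP (LK LD1_c15 LD2_c23 LD3_c36)))))))))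
theorem f877202 : Led Lsl_at (LP (LK LD1_c15 LD2_c8 LD3_c45)) = (LP (LK LD1_c15 LD2_c6 LD3_c35)) :=
  Lgr Lrot26 (Lpr_ff (f877194 IH) (Lpr_gt (f346833 IH) (Lpr_gt (K61.f229320 IH) (Lpn (LP (LK LD1_c15 LD2_c6 LD3_c35))))))
theorem f272911 : Led Lsl_dt (LP (LK LD1_c15 LD2_c6 LD3_c35)) = (LP (LK LD1_c24 LD2_c54 LD3_c43)) :=
  Lre_d IH (LK LD1_c15 LD2_c6 LD3_c35) (LK LD1_c24 LD2_c54 LD3_c43) Lrfl Lrfl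
theorem f877208 : Led Lsl_af (LP (LK LD1_c24 LD2_c57 LD3_c42)) = (LP (LK LD1_c24 LD2_c54 LD3_c43)) :=
  Lgr Lrot117 (Lpr_dt (K37.f35613 IH) (Lpr_at (f877202 IH) (Lpr_dt (f272911 IH) (Lpn (LP (LK LD1_c24 LD2_c54 LD3_c43))))))
theorem f272918 : Led Lsl_et (LP (LK LD1_c15 LD2_c6 LD3_c37)) = (LP (LK LD1_c24 LD2_c54 LD3_c43)) :=
  Lre_e IH (LK LD1_c15 LD2_c6 LD3_c37) (LK LD1_c24 LD2_c54 LD3_c43) Lrfl Lrfl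
theorem f877212 : Led Lsl_at (LP (LK LD1_c15 LD2_c8 LD3_c47)) = (LP (LK LD1_c15 LD2_c6 LD3_c37)) :=
  Lgr Lrot80 (Lpe (K37.f35612 IH) (Lpr_af (f877208 IH) (Lpe (f272918 IH) (Lpn (LP (LK LD1_c15 LD2_c6 LD3_c37))))))
theorem f877214 : Led Lsl_af (LP (LK LD1_c15 LD2_c8 LD3_c47)) = (LP (LK LD1_c15 LD2_c6 LD3_c37)) :=
  Lgr Lrot0 (Lpr_at (f877212 IH) (Lpn (LP (LK LD1_c15 LD2_c6 LD3_c37))))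
theorem f35607 : Led Lsl_gt (LP (LK LD1_c24 LD2_c47 LD3_c6)) = (LP (LK LD1_c14 LD2_c59 LD3_c40)) :=
  Lre_g IH (LK LD1_c24 LD2_c47 LD3_c6) (LK LD1_c14 LD2_c59 LD3_c40) Lrfl Lrfl
theorem f877217 : Led Lsl_ft (LP (LK LD1_c24 LD2_c47 LD3_c6)) = (LP (LK LD1_c15 LD2_c6 LD3_c37)) :=
  Lgr Lrot2 (Lpr_gt (f35607 IH) (Lpe (K37.f35605 IH) (Lpr_af (f877214 IH) (Lpn (LP (LK LD1_c15 LD2_c6 LD3_c37))))))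
theorem f877221 : Led Lsl_ff (LP (LK LD1_c24 LD2_c47 LD3_c6)) = (LP (LK LD1_c15 LD2_c6 LD3_c37)) :=
  Lgr Lrot3 (Lpr_ft (f877217 IH) (Lpn (LP (LK LD1_c15 LD2_c6 LD3_c37))))
theorem f70609 : Led Lsl_ft (LP (LK LD1_c15 LD2_c6 LD3_c38)) = (LP (LK LD1_c8 LD2_c1 LD3_c26)) :=
  Lre_f IH (LK LD1_c15 LD2_c6 LD3_c38) (LK LD1_c8 LD2_c1 LD3_c26) Lrfl Lrfl
theorem f877225 : Led Lsl_dt (LP (LK LD1_c24 LD2_c47 LD3_c6)) = (LP (LK LD1_c15 LD2_c6 LD3_c38)) :=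
  Lgr Lrot60 (Lpr_ff (f877221 IH) (Lpe (K37.f30117 IH) (Lpe (f70609 IH) (Lpn (LP (LK LD1_c15 LD2_c6 LD3_c38))))))
theorem f792890 : Led Lsl_at (LP (LK LD1_c8 LD2_c46 LD3_c50)) = (LP (LK LD1_c14 LD2_c59 LD3_c40)) :=
  Lgr Lrot66 (Lpr_ff (f792779 IH) (Lpe (f792882 IH) (Lpr_ff (f792888 IH) (Lpn (LP (LK LD1_c14 LD2_c59 LD3_c40))))))
theorem f792903 : Led Lsl_gt (LP (LK LD1_c14 LD2_c59 LD3_c41)) = (LP (LK LD1_c24 LD2_c47 LD3_c6)) :=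
  Lgr Lrot5 (Lpe (f792779 IH) (Lpr_at (f792890 IH) (Lpe (f35607 IH) (Lpn (LP (LK LD1_c24 LD2_c47 LD3_c6))))))
theorem f36167 : Led Lsl_gt (LP (LK LD1_c4 LD2_c24 LD3_c40)) = (LP (LK LD1_c7 LD2_c56 LD3_c54)) :=
  Lgr Lrot5 (Lpr_ft (K1.f34796 IH) (Lpr_at (K37.f36156 IH) (Lpe (K37.f35690 IH) (Lpn (LP (LK LD1_c7 LD2_c56 LD3_c54))))))
theorem f36090 : Led Lsl_af (LP (LK LD1_c4 LD2_c24 LD3_c40)) = (LP (LK LD1_c7 LD2_c56 LD3_c55)) :=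
  Lgr Lrot117 (Lpr_dt (K1.f34814 IH) (Lpe (K64.f31938 IH) (Lpr_dt (K1.f36087 IH) (Lpn (LP (LK LD1_c7 LD2_c56 LD3_c55))))))
theorem f38295 : Led Lsl_cf (LP (LK LD1_c4 LD2_c25 LD3_c33)) = (LP (LK LD1_c4 LD2_c24 LD3_c40)) :=
  Lgr Lrot1 (Lpr_at (K1.f38279 IH) (Lpr_ct (K61.f35683 IH) (Lpe (f36090 IH) (Lpn (LP (LK LD1_c4 LD2_c24 LD3_c40))))))
theorem f386072 : Led Lsl_gt (LP (LK LD1_c4 LD2_c25 LD3_c33)) = (LP (LK LD1_c6 LD2_c9 LD3_c12)) :=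
  Lgr Lrot139 (Lpe (K1.f38297 IH) (Lpr_gf (K50.f38319 IH) (Lpe (K50.f38322 IH) (Lpe (K50.f242217 IH) (Lpr_gf (K50.f386070 IH) (Lpe (K50.f386037 IH) (Lpr_et (K48.f386040 IH) (Lpe (K64.f385993 IH) (Lpe (K37.f37805 IH) (Lpr_dt (K37.f35752 IH) (Lpn (LP (LK LD1_c6 LD2_c9 LD3_c12)))))))))))))
theorem f70737 : Led Lsl_et (LP (LK LD1_c12 LD2_c8 LD3_c13)) = (LP (LK LD1_c6 LD2_c14 LD3_c56)) :=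
  Lre_e IH (LK LD1_c12 LD2_c8 LD3_c13) (LK LD1_c6 LD2_c14 LD3_c56) Lrfl Lrfl
theorem f543207 : Led Lsl_gf (LP (LK LD1_c16 LD2_c28 LD3_c50)) = (LP (LK LD1_c13 LD2_c28 LD3_c15)) :=
  Lgr Lrot134 (Lpe (K61.f70720 IH) (Lpr_et (f70737 IH) (Lpr_gt (K43.f38105 IH) (Lpe (K39.f70740 IH) (Lpr_dt (K14.f59089 IH) (Lpr_gt (K12.f38037 IH) (Lpe (K36.f38052 IH) (Lpr_et (K37.f38068 IH) (Lpr_gt (K37.f543203 IH) (Lpr_dt (K34.f456117 IH) (Lpn (LP (LK LD1_c13 LD2_c28 LD3_c15)))))))))))))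
theorem f796129 : Led Lsl_af (LP (LK LD1_c16 LD2_c28 LD3_c50)) = (LP (LK LD1_c13 LD2_c32 LD3_c5)) :=
  Lgr Lrot31 (Lpr_gf (f543207 IH) (Lpe (K64.f456121 IH) (Lpr_ft (K64.f796125 IH) (Lpn (LP (LK LD1_c13 LD2_c32 LD3_c5))))))
theorem f796119 : Led Lsl_af (LP (LK LD1_c22 LD2_c47 LD3_c49)) = (LP (LK LD1_c13 LD2_c32 LD3_c4)) :=
  Lgr Lrot0 (Lpr_at (K64.f796117 IH) (Lpn (LP (LK LD1_c13 LD2_c32 LD3_c4))))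
theorem f796137 : Led Lsl_ft (LP (LK LD1_c16 LD2_c28 LD3_c50)) = (LP (LK LD1_c13 LD2_c32 LD3_c4)) :=
  Lgr Lrot101 (Lpr_af (f796129 IH) (Lpe (K64.f796125 IH) (Lpr_af (f796119 IH) (Lpn (LP (LK LD1_c13 LD2_c32 LD3_c4))))))
theorem f37799 : Led Lsl_dt (LP (LK LD1_c21 LD2_c4 LD3_c15)) = (LP (LK LD1_c24 LD2_c47 LD3_c45)) :=
  Lgr Lrot42 (Lpr_df (K37.f37791 IH) (Lpn (LP (LK LD1_c24 LD2_c47 LD3_c45))))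
theorem f796105 : Led Lsl_ff (LP (LK LD1_c21 LD2_c4 LD3_c15)) = (LP (LK LD1_c16 LD2_c22 LD3_c36)) :=
  Lgr Lrot19 (Lpr_dt (f37799 IH) (Lpr_ft (K64.f796103 IH) (Lpr_dt (K37.f237298 IH) (Lpn (LP (LK LD1_c16 LD2_c22 LD3_c36))))))
theorem f796141 : Led Lsl_ff (LP (LK LD1_c8 LD2_c48 LD3_c32)) = (LP (LK LD1_c11 LD2_c59 LD3_c32)) :=
  Lgr Lrot72 (Lpr_et (K43.f38067 IH) (Lpr_ft (f796137 IH) (Lpr_et (K64.f567473 IH) (Lpe (f796105 IH) (Lpr_et (K37.f37789 IH) (Lpn (LP (LK LD1_c11 LD2_c59 LD3_c32))))))))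
theorem f35567 : Led Lsl_dt (LP (LK LD1_c11 LD2_c59 LD3_c29)) = (LP (LK LD1_c6 LD2_c9 LD3_c11)) :=
  Lre_d IH (LK LD1_c11 LD2_c59 LD3_c29) (LK LD1_c6 LD2_c9 LD3_c11) Lrfl Lrfl
theorem f543045 : Led Lsl_ef (LP (LK LD1_c13 LD2_c32 LD3_c5)) = (LP (LK LD1_c11 LD2_c59 LD3_c29)) :=
  Lgr Lrot167 (Lpr_gt (K55.f456598 IH) (Lpr_dt (K34.f456597 IH) (Lpr_gt (K37.f543035 IH) (Lpe (K36.f210722 IH) (Lpr_et (K36.f210721 IH) (Lpr_gt (K12.f210715 IH) (Lpe (K37.f38370 IH) (Lpr_dt (K37.f35687 IH) (Lpr_gt (K37.f35556 IH) (Lpe (f35567 IH) (Lpn (LP (LK LD1_c11 LD2_c59 LD3_c29)))))))))))))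
theorem f796135 : Led Lsl_at (LP (LK LD1_c8 LD2_c48 LD3_c32)) = (LP (LK LD1_c11 LD2_c59 LD3_c29)) :=
  Lgr Lrot80 (Lpe (K61.f70588 IH) (Lpr_af (f796129 IH) (Lpr_ef (f543045 IH) (Lpn (LP (LK LD1_c11 LD2_c59 LD3_c29))))))
theorem f35563 : Led Lsl_gt (LP (LK LD1_c21 LD2_c4 LD3_c10)) = (LP (LK LD1_c11 LD2_c59 LD3_c29)) :=
  Lre_g IH (LK LD1_c21 LD2_c4 LD3_c10) (LK LD1_c11 LD2_c59 LD3_c29) Lrfl Lrfl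
theorem f796259 : Led Lsl_gf (LP (LK LD1_c21 LD2_c4 LD3_c10)) = (LP (LK LD1_c11 LD2_c59 LD3_c32)) :=
  Lgr Lrot47 (Lpr_gt (f35563 IH) (Lpe (f796135 IH) (Lpr_ff (f796141 IH) (Lpn (LP (LK LD1_c11 LD2_c59 LD3_c32))))))
theorem f70577 : Led Lsl_ft (LP (LK LD1_c8 LD2_c50 LD3_c56)) = (LP (LK LD1_c16 LD2_c32 LD3_c25)) :=
  Lre_f IH (LK LD1_c8 LD2_c50 LD3_c56) (LK LD1_c16 LD2_c32 LD3_c25) Lrfl Lrfl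
theorem f70610 : Led Lsl_ct (LP (LK LD1_c16 LD2_c32 LD3_c25)) = (LP (LK LD1_c15 LD2_c6 LD3_c38)) :=
  Lgr Lrot40 (Lpe (f70577 IH) (Lpr_cf (K37.f70598 IH) (Lpe (f70609 IH) (Lpn (LP (LK LD1_c15 LD2_c6 LD3_c38))))))
theorem f877229 : Led Lsl_dt (LP (LK LD1_c21 LD2_c4 LD3_c10)) = (LP (LK LD1_c16 LD2_c32 LD3_c25)) :=
  Lgr Lrot105 (Lpr_gf (f796259 IH) (Lpe (K64.f35751 IH) (Lpe (f386072 IH) (Lpr_cf (f38295 IH) (Lpr_gt (f36167 IH) (Lpr_dt (K37.f35692 IH) (Lpr_gt (f792903 IH) (Lpr_dt (f877225 IH) (Lpe (f70610 IH) (Lpn (LP (LK LD1_c16 LD2_c32 LD3_c25))))))))))))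
theorem f35566 : Led Lsl_ct (LP (LK LD1_c11 LD2_c59 LD3_c29)) = (LP (LK LD1_c21 LD2_c4 LD3_c11)) :=
  Lre_c IH (LK LD1_c11 LD2_c59 LD3_c29) (LK LD1_c21 LD2_c4 LD3_c11) Lrfl Lrfl
theorem f796143 : Led Lsl_ff (LP (LK LD1_c16 LD2_c28 LD3_c50)) = (LP (LK LD1_c13 LD2_c32 LD3_c4)) :=
  Lgr Lrot3 (Lpr_ft (f796137 IH) (Lpn (LP (LK LD1_c13 LD2_c32 LD3_c4))))
theorem f796147 : Led Lsl_ft (LP (LK LD1_c8 LD2_c48 LD3_c32)) = (LP (LK LD1_c11 LD2_c59 LD3_c32)) :=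
  Lgr Lrot86 (Lpe (K61.f70588 IH) (Lpr_ff (f796143 IH) (Lpr_ef (K64.f567470 IH) (Lpe (K64.f796109 IH) (Lpe (K37.f37805 IH) (Lpn (LP (LK LD1_c11 LD2_c59 LD3_c32))))))))
theorem f796153 : Led Lsl_af (LP (LK LD1_c8 LD2_c48 LD3_c34)) = (LP (LK LD1_c11 LD2_c59 LD3_c32)) :=
  Lgr Lrot31 (Lpe (K37.f241117 IH) (Lpe (K37.f38305 IH) (Lpr_ft (f796147 IH) (Lpn (LP (LK LD1_c11 LD2_c59 LD3_c32))))))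
theorem f796159 : Led Lsl_at (LP (LK LD1_c16 LD2_c22 LD3_c35)) = (LP (LK LD1_c21 LD2_c4 LD3_c15)) :=
  Lgr Lrot80 (Lpe (K37.f227615 IH) (Lpr_af (f796153 IH) (Lpe (K37.f37789 IH) (Lpn (LP (LK LD1_c21 LD2_c4 LD3_c15))))))
theorem f796167 : Led Lsl_ff (LP (LK LD1_c16 LD2_c22 LD3_c35)) = (LP (LK LD1_c24 LD2_c46 LD3_c34)) :=
  Lgr Lrot30 (Lpr_at (f796159 IH) (Lpr_ft (K64.f796109 IH) (Lpe (K64.f796111 IH) (Lpn (LP (LK LD1_c24 LD2_c46 LD3_c34))))))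
theorem f796173 : Led Lsl_ft (LP (LK LD1_c16 LD2_c22 LD3_c35)) = (LP (LK LD1_c24 LD2_c46 LD3_c34)) :=
  Lgr Lrot48 (Lpr_ff (f796167 IH) (Lpn (LP (LK LD1_c24 LD2_c46 LD3_c34))))
theorem f567456 : Led Lsl_et (LP (LK LD1_c13 LD2_c32 LD3_c5)) = (LP (LK LD1_c11 LD2_c59 LD3_c29)) :=
  Lgr Lrot71 (Lpr_df (K55.f567452 IH) (Lpe (K64.f488286 IH) (Lpe (K37.f543406 IH) (Lpe (K37.f35568 IH) (Lpe (f35567 IH) (Lpn (LP (LK LD1_c11 LD2_c59 LD3_c29))))))))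
theorem f796177 : Led Lsl_ff (LP (LK LD1_c8 LD2_c48 LD3_c34)) = (LP (LK LD1_c11 LD2_c59 LD3_c29)) :=
  Lgr Lrot72 (Lpr_et (K37.f227615 IH) (Lpr_ft (f796173 IH) (Lpr_et (K64.f757687 IH) (Lpr_ft (K64.f796125 IH) (Lpr_et (f567456 IH) (Lpn (LP (LK LD1_c11 LD2_c59 LD3_c29))))))))
theorem f38285 : Led Lsl_ct (LP (LK LD1_c8 LD2_c48 LD3_c34)) = (LP (LK LD1_c16 LD2_c28 LD3_c51)) :=
  Lre_c IH (LK LD1_c8 LD2_c48 LD3_c34) (LK LD1_c16 LD2_c28 LD3_c51) Lrfl Lrfl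
theorem f35565 : Led Lsl_ct (LP (LK LD1_c21 LD2_c4 LD3_c11)) = (LP (LK LD1_c11 LD2_c59 LD3_c29)) :=
  Lre_c IH (LK LD1_c21 LD2_c4 LD3_c11) (LK LD1_c11 LD2_c59 LD3_c29) Lrfl Lrfl
theorem f796179 : Led Lsl_ft (LP (LK LD1_c16 LD2_c28 LD3_c51)) = (LP (LK LD1_c21 LD2_c4 LD3_c11)) :=
  Lgr Lrot4 (Lpe (f38285 IH) (Lpr_ff (f796177 IH) (Lpe (f35565 IH) (Lpn (LP (LK LD1_c21 LD2_c4 LD3_c11))))))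
theorem f796181 : Led Lsl_ff (LP (LK LD1_c16 LD2_c28 LD3_c51)) = (LP (LK LD1_c21 LD2_c4 LD3_c11)) :=
  Lgr Lrot3 (Lpr_ft (f796179 IH) (Lpn (LP (LK LD1_c21 LD2_c4 LD3_c11))))
theorem f38695 : Led Lsl_ct (LP (LK LD1_c21 LD2_c4 LD3_c14)) = (LP (LK LD1_c11 LD2_c59 LD3_c32)) :=
  Lre_c IH (LK LD1_c21 LD2_c4 LD3_c14) (LK LD1_c11 LD2_c59 LD3_c32) Lrfl Lrfl
theorem f796157 : Led Lsl_at (LP (LK LD1_c16 LD2_c28 LD3_c51)) = (LP (LK LD1_c21 LD2_c4 LD3_c14)) :=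
  Lgr Lrot107 (Lpe (f38285 IH) (Lpr_af (f796153 IH) (Lpe (f38695 IH) (Lpn (LP (LK LD1_c21 LD2_c4 LD3_c14))))))
theorem f38693 : Led Lsl_cf (LP (LK LD1_c6 LD2_c9 LD3_c12)) = (LP (LK LD1_c7 LD2_c57 LD3_c1)) :=
  Lgr Lrot11 (Lpr_ct (K64.f38691 IH) (Lpn (LP (LK LD1_c7 LD2_c57 LD3_c1))))
theorem f37346 : Led Lsl_ct (LP (LK LD1_c17 LD2_c56 LD3_c58)) = (LP (LK LD1_c27 LD2_c41 LD3_c38)) :=
  Lre_c IH (LK LD1_c17 LD2_c56 LD3_c58) (LK LD1_c27 LD2_c41 LD3_c38) Lrfl Lrfl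
theorem f101833 : Led Lsl_gf (LP (LK LD1_c21 LD2_c4 LD3_c14)) = (LP (LK LD1_c27 LD2_c41 LD3_c38)) :=
  Lgr Lrot104 (Lpr_ct (f38695 IH) (Lpe (K64.f35751 IH) (Lpr_cf (f38693 IH) (Lpr_gf (K57.f70781 IH) (Lpe (K62.f70798 IH) (Lpr_gf (K40.f101830 IH) (Lpe (K62.f70406 IH) (Lpr_gt (K37.f37339 IH) (Lpr_ct (f37346 IH) (Lpn (LP (LK LD1_c27 LD2_c41 LD3_c38))))))))))))
theorem f796185 : Led Lsl_gf (LP (LK LD1_c27 LD2_c41 LD3_c38)) = (LP (LK LD1_c21 LD2_c4 LD3_c11)) :=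
  Lgr Lrot47 (Lpe (f101833 IH) (Lpe (f796157 IH) (Lpr_ff (f796181 IH) (Lpn (LP (LK LD1_c21 LD2_c4 LD3_c11))))))
theorem f37354 : Led Lsl_ct (LP (LK LD1_c27 LD2_c41 LD3_c38)) = (LP (LK LD1_c17 LD2_c56 LD3_c58)) :=
  Lre_c IH (LK LD1_c27 LD2_c41 LD3_c38) (LK LD1_c17 LD2_c56 LD3_c58) Lrfl Lrfl
theorem f756653 : Led Lsl_ct (LP (LK LD1_c9 LD2_c19 LD3_c34)) = K57.v17200 :=
  Lgr Lrot8 (Lpe (K64.f576183 IH) (Lpr_dt (K37.f16611 IH) (Lpe (K64.f229391 IH) (Lpr_dt (K37.f35752 IH) (Lpr_cf (f38693 IH) (Lpe (K37.f38681 IH) (Lpe (K37.f236542 IH) (Lpe (K37.f70294 IH) (Lpr_gf (K57.f756651 IH) (Lpn K57.v17200))))))))))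
theorem f877235 : Led Lsl_gf (LP (LK LD1_c9 LD2_c19 LD3_c34)) = (LP (LK LD1_c16 LD2_c32 LD3_c25)) :=
  Lgr Lrot179 (Lpr_ct (f756653 IH) (Lpe (K57.f756651 IH) (Lpr_ct (K61.f70292 IH) (Lpr_dt (K37.f37340 IH) (Lpe (f37354 IH) (Lpr_gf (f796185 IH) (Lpe (f35566 IH) (Lpe (f35563 IH) (Lpr_dt (f877229 IH) (Lpn (LP (LK LD1_c16 LD2_c32 LD3_c25))))))))))))
theorem f56636 : Led Lsl_gt (LP (LK LD1_c5 LD2_c46 LD3_c34)) = (LP (LK LD1_c11 LD2_c23 LD3_c20)) :=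
  Lre_g IH (LK LD1_c5 LD2_c46 LD3_c34) (LK LD1_c11 LD2_c23 LD3_c20) Lrfl Lrfl
theorem f697087 : Led Lsl_gt (LP (LK LD1_c8 LD2_c50 LD3_c39)) = (LP (LK LD1_c15 LD2_c0 LD3_c29)) :=
  Lgr Lrot131 (Lpe (K39.f80479 IH) (Lpr_dt (K39.f80495 IH) (Lpe (K37.f421085 IH) (Lpr_df (K37.f80557 IH) (Lpe (K47.f607528 IH) (Lpe (K37.f59311 IH) (Lpr_dt (K37.f59325 IH) (Lpr_gf (K64.f697084 IH) (Lpe (K50.f609947 IH) (Lpe (K57.f696815 IH) (Lpn (LP (LK LD1_c15 LD2_c0 LD3_c29)))))))))))))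
theorem f38091 : Led Lsl_gt (LP (LK LD1_c6 LD2_c14 LD3_c54)) = (LP (LK LD1_c12 LD2_c8 LD3_c5)) :=
  Lre_g IH (LK LD1_c6 LD2_c14 LD3_c54) (LK LD1_c12 LD2_c8 LD3_c5) Lrfl Lrfl
theorem f696880 : Led Lsl_dt (LP (LK LD1_c15 LD2_c0 LD3_c29)) = (LP (LK LD1_c8 LD2_c10 LD3_c42)) :=
  Lgr Lrot6 (Lpr_gt (K57.f696878 IH) (Lpr_ct (K8.f69532 IH) (Lpr_gt (K8.f60544 IH) (Lpr_ct (K40.f445176 IH) (Lpr_df (K40.f81460 IH) (Lpe (K57.f34502 IH) (Lpr_gf (K57.f607233 IH) (Lpe (K57.f46723 IH) (Lpr_gf (K47.f46739 IH) (Lpn (LP (LK LD1_c8 LD2_c10 LD3_c42))))))))))))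
theorem f60572 : Led Lsl_gf (LP (LK LD1_c12 LD2_c7 LD3_c12)) = (LP (LK LD1_c11 LD2_c23 LD3_c20)) :=
  Lgr Lrot76 (Lpr_af (K37.f60525 IH) (Lpe (K37.f60524 IH) (Lpr_gt (f56636 IH) (Lpn (LP (LK LD1_c11 LD2_c23 LD3_c20))))))
theorem f697089 : Led Lsl_dt (LP (LK LD1_c12 LD2_c8 LD3_c5)) = (LP (LK LD1_c11 LD2_c23 LD3_c20)) :=
  Lgr Lrot57 (Lpe (f38091 IH) (Lpr_cf (K39.f80472 IH) (Lpr_gt (f697087 IH) (Lpr_dt (f696880 IH) (Lpe (K47.f46739 IH) (Lpr_dt (K1.f56090 IH) (Lpe (K8.f69554 IH) (Lpe (K1.f56444 IH) (Lpr_gf (f60572 IH) (Lpn (LP (LK LD1_c11 LD2_c23 LD3_c20))))))))))))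
theorem f877247 : Led Lsl_et (LP (LK LD1_c12 LD2_c8 LD3_c5)) = (LP (LK LD1_c16 LD2_c32 LD3_c25)) :=
  Lgr Lrot121 (Lpr_dt (f697089 IH) (Lpe (f56636 IH) (Lpe (K2.f56635 IH) (Lpr_et (K1.f60330 IH) (Lpe (K2.f69359 IH) (Lpe (K1.f38238 IH) (Lpr_dt (K11.f38276 IH) (Lpe (K11.f38452 IH) (Lpr_df (K11.f69489 IH) (Lpr_gf (f877235 IH) (Lpn (LP (LK LD1_c16 LD2_c32 LD3_c25)))))))))))))
theorem f70576 : Led Lsl_ft (LP (LK LD1_c16 LD2_c32 LD3_c25)) = (LP (LK LD1_c8 LD2_c50 LD3_c56)) :=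
  Lre_f IH (LK LD1_c16 LD2_c32 LD3_c25) (LK LD1_c8 LD2_c50 LD3_c56) Lrfl Lrfl
def v12674 : LQ := Led Lsl_at (LP (LK LD1_c4 LD2_c26 LD3_c39))
theorem f696704 : Led Lsl_at (LP (LK LD1_c4 LD2_c26 LD3_c39)) = v12674 :=
  Lrfl
theorem f696707 : Led Lsl_cf v12308 = v12674 :=
  Lgr Lrot1 (Lpe (f689292 IH) (Lpe (K37.f445170 IH) (Lpr_at (f696704 IH) (Lpn v12674))))
theorem f689294 : Led Lsl_ff (LP (LK LD1_c4 LD2_c0 LD3_c12)) = v12308 :=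
  Lgr Lrot3 (Lpr_ft (f689293 IH) (Lpn v12308))
theorem f696709 : Led Lsl_ft (LP (LK LD1_c4 LD2_c26 LD3_c40)) = v12674 :=
  Lgr Lrot4 (Lpr_cf (K37.f70622 IH) (Lpr_ff (f689294 IH) (Lpr_cf (f696707 IH) (Lpn v12674))))
def v12687 : LQ := Led Lsl_ft (LP (LK LD1_c4 LD2_c26 LD3_c52))
theorem f697620 : Led Lsl_ft (LP (LK LD1_c4 LD2_c26 LD3_c52)) = v12687 :=
  Lrfl
theorem f697623 : Led Lsl_ff (LP (LK LD1_c4 LD2_c26 LD3_c52)) = v12687 :=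
  Lgr Lrot3 (Lpr_ft (f697620 IH) (Lpn v12687))
def v12311 : LQ := Led Lsl_ft (LP (LK LD1_c4 LD2_c0 LD3_c55))
theorem f689307 : Led Lsl_ft (LP (LK LD1_c4 LD2_c0 LD3_c55)) = v12311 :=
  Lrfl
theorem f697625 : Led Lsl_ct v12311 = v12687 :=
  Lgr Lrot40 (Lpe (f689307 IH) (Lpr_cf (K37.f444835 IH) (Lpr_ff (f697623 IH) (Lpn v12687))))
theorem f689309 : Led Lsl_ff (LP (LK LD1_c4 LD2_c0 LD3_c55)) = v12311 :=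
  Lgr Lrot3 (Lpr_ft (f689307 IH) (Lpn v12311))
theorem f689310 : Led Lsl_at (LP (LK LD1_c4 LD2_c0 LD3_c56)) = v12311 :=
  Lgr Lrot66 (Lpr_ff (K67.f689306 IH) (Lpe (K67.f689301 IH) (Lpr_ff (f689309 IH) (Lpn v12311))))
theorem f877095 : (LP (LK LD1_c4 LD2_c0 LD3_c12)) = v12311 :=
  Lefun (Lecon (Lfl_af (f689296 IH)) (f877094 IH)) (f689310 IH)
theorem f877110 : v12687 = (LP (LK LD1_c4 LD2_c26 LD3_c40)) :=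
  Lefun (Lecon (f697625 IH) (f877095 IH).symm) (Lfl_cf (K37.f70622 IH))
theorem f877131 : (LP (LK LD1_c4 LD2_c26 LD3_c52)) = v12674 :=
  Lefun (Lecon (Lfl_ff (f697623 IH)) (f877110 IH)) (f696709 IH)
theorem f877253 : Led Lsl_ff (LP (LK LD1_c12 LD2_c8 LD3_c5)) = (LP (LK LD1_c8 LD2_c51 LD3_c29)) :=
  Lgr Lrot72 (Lpr_et (f877247 IH) (Lpr_ft (f70576 IH) (Lpr_et (K37.f16562 IH) (Lpr_ft (f696709 IH) (Lpq (f877131 IH) (Lpr_et (K47.f38646 IH) (Lpn (LP (LK LD1_c8 LD2_c51 LD3_c29)))))))))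
theorem f60543 : Led Lsl_ft (LP (LK LD1_c8 LD2_c50 LD3_c53)) = (LP (LK LD1_c16 LD2_c32 LD3_c17)) :=
  Lre_f IH (LK LD1_c8 LD2_c50 LD3_c53) (LK LD1_c16 LD2_c32 LD3_c17) Lrfl Lrfl
theorem f607943 : Led Lsl_at (LP (LK LD1_c16 LD2_c32 LD3_c17)) = (LP (LK LD1_c12 LD2_c8 LD3_c5)) :=
  Lgr Lrot26 (Lpe (f60543 IH) (Lpr_gt (K47.f607941 IH) (Lpr_gt (f38091 IH) (Lpn (LP (LK LD1_c12 LD2_c8 LD3_c5))))))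
theorem f607962 : Led Lsl_af (LP (LK LD1_c16 LD2_c32 LD3_c17)) = (LP (LK LD1_c12 LD2_c8 LD3_c5)) :=
  Lgr Lrot0 (Lpr_at (f607943 IH) (Lpn (LP (LK LD1_c12 LD2_c8 LD3_c5))))
theorem f756937 : Led Lsl_ft (LP (LK LD1_c26 LD2_c22 LD3_c48)) = (LP (LK LD1_c21 LD2_c29 LD3_c43)) :=
  Lgr Lrot4 (Lpe (K43.f560403 IH) (Lpr_ff (K57.f756931 IH) (Lpr_cf (K47.f607867 IH) (Lpn (LP (LK LD1_c21 LD2_c29 LD3_c43))))))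
theorem f756943 : Led Lsl_af (LP (LK LD1_c26 LD2_c22 LD3_c49)) = (LP (LK LD1_c21 LD2_c29 LD3_c43)) :=
  Lgr Lrot31 (Lpe (K39.f205647 IH) (Lpe (K43.f576313 IH) (Lpr_ft (f756937 IH) (Lpn (LP (LK LD1_c21 LD2_c29 LD3_c43))))))
theorem f756947 : Led Lsl_at (LP (LK LD1_c16 LD2_c31 LD3_c50)) = (LP (LK LD1_c17 LD2_c15 LD3_c19)) :=
  Lgr Lrot51 (Lpr_df (K39.f543479 IH) (Lpr_af (f756943 IH) (Lpe (K47.f607967 IH) (Lpn (LP (LK LD1_c17 LD2_c15 LD3_c19))))))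
theorem f756953 : Led Lsl_ff (LP (LK LD1_c16 LD2_c31 LD3_c50)) = (LP (LK LD1_c17 LD2_c15 LD3_c16)) :=
  Lgr Lrot52 (Lpr_at (f756947 IH) (Lpr_gf (K47.f607985 IH) (Lpr_gf (K47.f607662 IH) (Lpn (LP (LK LD1_c17 LD2_c15 LD3_c16))))))
theorem f756961 : Led Lsl_ft (LP (LK LD1_c16 LD2_c31 LD3_c50)) = (LP (LK LD1_c17 LD2_c15 LD3_c16)) :=
  Lgr Lrot48 (Lpr_ff (f756953 IH) (Lpn (LP (LK LD1_c17 LD2_c15 LD3_c16))))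
theorem f756967 : Led Lsl_af (LP (LK LD1_c16 LD2_c31 LD3_c44)) = (LP (LK LD1_c17 LD2_c15 LD3_c16)) :=
  Lgr Lrot109 (Lpe (K39.f80601 IH) (Lpe (K37.f80467 IH) (Lpr_cf (K37.f543470 IH) (Lpe (K39.f70738 IH) (Lpe (K39.f543475 IH) (Lpe (K39.f543484 IH) (Lpe (K39.f560405 IH) (Lpe (K39.f543481 IH) (Lpr_ft (f756961 IH) (Lpn (LP (LK LD1_c17 LD2_c15 LD3_c16))))))))))))
theorem f756949 : Led Lsl_af (LP (LK LD1_c16 LD2_c31 LD3_c50)) = (LP (LK LD1_c17 LD2_c15 LD3_c19)) :=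
  Lgr Lrot0 (Lpr_at (f756947 IH) (Lpn (LP (LK LD1_c17 LD2_c15 LD3_c19))))
theorem f756973 : Led Lsl_ft (LP (LK LD1_c16 LD2_c31 LD3_c44)) = (LP (LK LD1_c17 LD2_c15 LD3_c19)) :=
  Lgr Lrot101 (Lpr_af (f756967 IH) (Lpe (f756961 IH) (Lpr_af (f756949 IH) (Lpn (LP (LK LD1_c17 LD2_c15 LD3_c19))))))
theorem f201980 : Led Lsl_ct (LP (LK LD1_c17 LD2_c15 LD3_c19)) = (LP (LK LD1_c9 LD2_c19 LD3_c36)) :=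
  Lre_c IH (LK LD1_c17 LD2_c15 LD3_c19) (LK LD1_c9 LD2_c19 LD3_c36) Lrfl Lrfl
theorem f756975 : Led Lsl_ff (LP (LK LD1_c8 LD2_c50 LD3_c35)) = (LP (LK LD1_c9 LD2_c19 LD3_c36)) :=
  Lgr Lrot23 (Lpr_ct (K39.f80601 IH) (Lpr_ft (f756973 IH) (Lpr_ct (f201980 IH) (Lpn (LP (LK LD1_c9 LD2_c19 LD3_c36))))))
theorem f756979 : Led Lsl_ft (LP (LK LD1_c8 LD2_c50 LD3_c35)) = (LP (LK LD1_c9 LD2_c19 LD3_c36)) :=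
  Lgr Lrot48 (Lpr_ff (f756975 IH) (Lpn (LP (LK LD1_c9 LD2_c19 LD3_c36))))
theorem f756951 : Led Lsl_af (LP (LK LD1_c8 LD2_c50 LD3_c38)) = (LP (LK LD1_c9 LD2_c19 LD3_c36)) :=
  Lgr Lrot68 (Lpr_ct (K39.f80496 IH) (Lpr_at (f756947 IH) (Lpr_ct (f201980 IH) (Lpn (LP (LK LD1_c9 LD2_c19 LD3_c36))))))
theorem f756957 : Led Lsl_ft (LP (LK LD1_c8 LD2_c50 LD3_c38)) = (LP (LK LD1_c9 LD2_c19 LD3_c33)) :=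
  Lgr Lrot4 (Lpe (K39.f80502 IH) (Lpr_ff (f756953 IH) (Lpe (K47.f56647 IH) (Lpn (LP (LK LD1_c9 LD2_c19 LD3_c33))))))
theorem f756981 : Led Lsl_af (LP (LK LD1_c8 LD2_c50 LD3_c35)) = (LP (LK LD1_c9 LD2_c19 LD3_c33)) :=
  Lgr Lrot45 (Lpr_ft (f756979 IH) (Lpe (f756951 IH) (Lpr_ft (f756957 IH) (Lpn (LP (LK LD1_c9 LD2_c19 LD3_c33))))))
theorem f80577 : Led Lsl_et (LP (LK LD1_c8 LD2_c50 LD3_c35)) = (LP (LK LD1_c16 LD2_c31 LD3_c45)) :=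
  Lre_e IH (LK LD1_c8 LD2_c50 LD3_c35) (LK LD1_c16 LD2_c31 LD3_c45) Lrfl Lrfl
theorem f756983 : Led Lsl_at (LP (LK LD1_c16 LD2_c31 LD3_c45)) = (LP (LK LD1_c17 LD2_c15 LD3_c17)) :=
  Lgr Lrot80 (Lpe (f80577 IH) (Lpr_af (f756981 IH) (Lpe (K40.f56640 IH) (Lpn (LP (LK LD1_c17 LD2_c15 LD3_c17))))))
theorem f80567 : Led Lsl_et (LP (LK LD1_c16 LD2_c31 LD3_c45)) = (LP (LK LD1_c8 LD2_c50 LD3_c35)) :=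
  Lre_e IH (LK LD1_c16 LD2_c31 LD3_c45) (LK LD1_c8 LD2_c50 LD3_c35) Lrfl Lrfl
theorem f80568 : Led Lsl_et (LP (LK LD1_c11 LD2_c59 LD3_c35)) = (LP (LK LD1_c21 LD2_c4 LD3_c18)) :=
  Lre_e IH (LK LD1_c11 LD2_c59 LD3_c35) (LK LD1_c21 LD2_c4 LD3_c18) Lrfl Lrfl
theorem f80569 : Led Lsl_df (LP (LK LD1_c16 LD2_c31 LD3_c45)) = (LP (LK LD1_c21 LD2_c4 LD3_c18)) :=
  Lgr Lrot70 (Lpr_et (f80567 IH) (Lpr_dt (K47.f80566 IH) (Lpr_et (K64.f80565 IH) (Lpr_dt (K37.f80560 IH) (Lpr_et (f80568 IH) (Lpn (LP (LK LD1_c21 LD2_c4 LD3_c18))))))))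
theorem f69499 : Led Lsl_df (LP (LK LD1_c16 LD2_c28 LD3_c56)) = (LP (LK LD1_c17 LD2_c15 LD3_c17)) :=
  Lgr Lrot38 (Lpr_dt (K40.f69495 IH) (Lpn (LP (LK LD1_c17 LD2_c15 LD3_c17))))
theorem f756987 : Led Lsl_af (LP (LK LD1_c21 LD2_c4 LD3_c18)) = (LP (LK LD1_c16 LD2_c28 LD3_c56)) :=
  Lgr Lrot117 (Lpe (f80569 IH) (Lpr_at (f756983 IH) (Lpe (f69499 IH) (Lpn (LP (LK LD1_c16 LD2_c28 LD3_c56))))))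
theorem f80576 : Led Lsl_et (LP (LK LD1_c21 LD2_c4 LD3_c18)) = (LP (LK LD1_c11 LD2_c59 LD3_c35)) :=
  Lre_e IH (LK LD1_c21 LD2_c4 LD3_c18) (LK LD1_c11 LD2_c59 LD3_c35) Lrfl Lrfl
theorem f756993 : Led Lsl_at (LP (LK LD1_c11 LD2_c59 LD3_c35)) = (LP (LK LD1_c8 LD2_c48 LD3_c37)) :=
  Lgr Lrot80 (Lpe (f80576 IH) (Lpr_af (f756987 IH) (Lpe (K40.f69494 IH) (Lpn (LP (LK LD1_c8 LD2_c48 LD3_c37))))))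
theorem f757001 : Led Lsl_ff (LP (LK LD1_c11 LD2_c59 LD3_c35)) = (LP (LK LD1_c8 LD2_c48 LD3_c36)) :=
  Lgr Lrot52 (Lpr_at (f756993 IH) (Lpr_gf (K11.f38453 IH) (Lpr_gf (K57.f413185 IH) (Lpn (LP (LK LD1_c8 LD2_c48 LD3_c36))))))
theorem f757009 : Led Lsl_ft (LP (LK LD1_c11 LD2_c59 LD3_c35)) = (LP (LK LD1_c8 LD2_c48 LD3_c36)) :=
  Lgr Lrot48 (Lpr_ff (f757001 IH) (Lpn (LP (LK LD1_c8 LD2_c48 LD3_c36))))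
theorem f227665 : Led Lsl_dt (LP (LK LD1_c8 LD2_c48 LD3_c36)) = (LP (LK LD1_c16 LD2_c28 LD3_c53)) :=
  Lre_d IH (LK LD1_c8 LD2_c48 LD3_c36) (LK LD1_c16 LD2_c28 LD3_c53) Lrfl Lrfl
theorem f757015 : Led Lsl_ff (LP (LK LD1_c8 LD2_c50 LD3_c36)) = (LP (LK LD1_c16 LD2_c28 LD3_c53)) :=
  Lgr Lrot19 (Lpr_dt (K37.f80560 IH) (Lpr_ft (f757009 IH) (Lpr_dt (f227665 IH) (Lpn (LP (LK LD1_c16 LD2_c28 LD3_c53))))))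
theorem f757072 : Led Lsl_ft (LP (LK LD1_c9 LD2_c19 LD3_c37)) = (LP (LK LD1_c8 LD2_c51 LD3_c11)) :=
  Lgr Lrot86 (Lpe (K47.f576180 IH) (Lpqs (K57.f756775 IH) (Lpe (K57.f696698 IH) (Lpe (K37.f80466 IH) (Lpr_ff (f757015 IH) (Lpe (K57.f69539 IH) (Lpn (LP (LK LD1_c8 LD2_c51 LD3_c11)))))))))
theorem f757080 : Led Lsl_ff (LP (LK LD1_c9 LD2_c19 LD3_c37)) = (LP (LK LD1_c8 LD2_c51 LD3_c11)) :=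
  Lgr Lrot3 (Lpr_ft (f757072 IH) (Lpn (LP (LK LD1_c8 LD2_c51 LD3_c11))))
theorem f553275 : Led Lsl_et (LP (LK LD1_c6 LD2_c13 LD3_c53)) = (LP (LK LD1_c12 LD2_c6 LD3_c24)) :=
  Lre_e IH (LK LD1_c6 LD2_c13 LD3_c53) (LK LD1_c12 LD2_c6 LD3_c24) Lrfl Lrfl
theorem f607685 : Led Lsl_cf (LP (LK LD1_c9 LD2_c19 LD3_c37)) = (LP (LK LD1_c12 LD2_c6 LD3_c24)) :=
  Lgr Lrot39 (Lpr_et (K50.f201984 IH) (Lpr_ct (K57.f607683 IH) (Lpr_et (f553275 IH) (Lpn (LP (LK LD1_c12 LD2_c6 LD3_c24))))))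
theorem f607694 : Led Lsl_ct (LP (LK LD1_c9 LD2_c19 LD3_c37)) = (LP (LK LD1_c12 LD2_c6 LD3_c24)) :=
  Lgr Lrot59 (Lpr_cf (f607685 IH) (Lpn (LP (LK LD1_c12 LD2_c6 LD3_c24))))
theorem f757084 : Led Lsl_ft (LP (LK LD1_c12 LD2_c6 LD3_c24)) = (LP (LK LD1_c16 LD2_c32 LD3_c16)) :=
  Lgr Lrot4 (Lpe (f607694 IH) (Lpr_ff (f757080 IH) (Lpr_cf (K8.f69536 IH) (Lpn (LP (LK LD1_c16 LD2_c32 LD3_c16))))))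
theorem f756645 : Led Lsl_ff (LP (LK LD1_c6 LD2_c13 LD3_c53)) = K57.v17198 :=
  Lgr Lrot3 (Lpr_ft (K57.f756644 IH) (Lpn K57.v17198))
theorem f757112 : Led Lsl_ef (LP (LK LD1_c12 LD2_c7 LD3_c60)) = (LP (LK LD1_c16 LD2_c32 LD3_c16)) :=
  Lgr Lrot21 (Lpr_ft (K57.f543454 IH) (Lpr_et (K6.f38141 IH) (Lpqs (K57.f756801 IH) (Lpe (f756645 IH) (Lpr_et (f553275 IH) (Lpr_ft (f757084 IH) (Lpn (LP (LK LD1_c16 LD2_c32 LD3_c16)))))))))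
theorem f757116 : Led Lsl_et (LP (LK LD1_c12 LD2_c7 LD3_c60)) = (LP (LK LD1_c16 LD2_c32 LD3_c16)) :=
  Lgr Lrot87 (Lpr_ef (f757112 IH) (Lpn (LP (LK LD1_c16 LD2_c32 LD3_c16))))
theorem f757156 : Led Lsl_af (LP (LK LD1_c12 LD2_c8 LD3_c7)) = (LP (LK LD1_c16 LD2_c32 LD3_c16)) :=
  Lgr Lrot50 (Lpe (K57.f756751 IH) (Lpe (K57.f621884 IH) (Lpr_et (f757116 IH) (Lpn (LP (LK LD1_c16 LD2_c32 LD3_c16))))))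
theorem f757170 : Led Lsl_at (LP (LK LD1_c6 LD2_c14 LD3_c54)) = (LP (LK LD1_c12 LD2_c6 LD3_c24)) :=
  Lgr Lrot66 (Lpe (K57.f80529 IH) (Lpr_af (f757156 IH) (Lpe (f757084 IH) (Lpn (LP (LK LD1_c12 LD2_c6 LD3_c24))))))
theorem f757172 : Led Lsl_gt (LP (LK LD1_c8 LD2_c51 LD3_c29)) = (LP (LK LD1_c12 LD2_c6 LD3_c24)) :=
  Lgr Lrot46 (Lpr_gf (K57.f756756 IH) (Lpr_ft (K57.f80529 IH) (Lpr_at (f757170 IH) (Lpn (LP (LK LD1_c12 LD2_c6 LD3_c24))))))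
theorem f877263 : Led Lsl_gf (LP (LK LD1_c16 LD2_c32 LD3_c17)) = (LP (LK LD1_c12 LD2_c6 LD3_c24)) :=
  Lgr Lrot76 (Lpr_af (f607962 IH) (Lpr_ff (f877253 IH) (Lpr_gt (f757172 IH) (Lpn (LP (LK LD1_c12 LD2_c6 LD3_c24))))))
theorem f60370 : Led Lsl_at (LP (LK LD1_c12 LD2_c7 LD3_c12)) = (LP (LK LD1_c11 LD2_c23 LD3_c23)) :=
  Lgr Lrot51 (Lpe (K2.f56448 IH) (Lpr_af (K1.f60324 IH) (Lpe (K1.f60312 IH) (Lpn (LP (LK LD1_c11 LD2_c23 LD3_c23))))))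
theorem f69593 : Led Lsl_ft (LP (LK LD1_c6 LD2_c14 LD3_c24)) = (LP (LK LD1_c12 LD2_c7 LD3_c12)) :=
  Lre_f IH (LK LD1_c6 LD2_c14 LD3_c24) (LK LD1_c12 LD2_c7 LD3_c12) Lrfl Lrfl
theorem f80572 : Led Lsl_gt (LP (LK LD1_c6 LD2_c14 LD3_c24)) = (LP (LK LD1_c12 LD2_c7 LD3_c9)) :=
  Lre_g IH (LK LD1_c6 LD2_c14 LD3_c24) (LK LD1_c12 LD2_c7 LD3_c9) Lrfl Lrfl
theorem f443829 : Led Lsl_gt (LP (LK LD1_c12 LD2_c7 LD3_c9)) = (LP (LK LD1_c11 LD2_c23 LD3_c23)) :=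
  Lgr Lrot46 (Lpe (f80572 IH) (Lpr_ft (f69593 IH) (Lpr_at (f60370 IH) (Lpn (LP (LK LD1_c11 LD2_c23 LD3_c23))))))
theorem f877267 : Led Lsl_dt (LP (LK LD1_c16 LD2_c32 LD3_c17)) = (LP (LK LD1_c12 LD2_c7 LD3_c9)) :=
  Lgr Lrot57 (Lpr_gf (f877263 IH) (Lpe (f607694 IH) (Lpr_gt (K57.f696805 IH) (Lpe (K57.f696797 IH) (Lpr_gt (K57.f46804 IH) (Lpr_dt (K1.f56349 IH) (Lpr_cf (K8.f69547 IH) (Lpe (K1.f60312 IH) (Lpe (f443829 IH) (Lpn (LP (LK LD1_c12 LD2_c7 LD3_c9))))))))))))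
theorem f80571 : Led Lsl_gt (LP (LK LD1_c16 LD2_c31 LD3_c46)) = (LP (LK LD1_c8 LD2_c50 LD3_c36)) :=
  Lre_g IH (LK LD1_c16 LD2_c31 LD3_c46) (LK LD1_c8 LD2_c50 LD3_c36) Lrfl Lrfl
theorem f877308 : Led Lsl_et (LP (LK LD1_c16 LD2_c32 LD3_c17)) = (LP (LK LD1_c16 LD2_c31 LD3_c46)) :=
  Lgr Lrot121 (Lpr_dt (f877267 IH) (Lpe (f80572 IH) (Lpe (K37.f37211 IH) (Lpr_et (K8.f37210 IH) (Lpr_gf (K1.f59681 IH) (Lpe (K37.f35672 IH) (Lpr_dt (K37.f35679 IH) (Lpe (K37.f35688 IH) (Lpe (K37.f80560 IH) (Lpe (f80571 IH) (Lpn (LP (LK LD1_c16 LD2_c31 LD3_c46)))))))))))))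
def v12675 : LQ := Led Lsl_ft (LP (LK LD1_c4 LD2_c26 LD3_c39))
theorem f696712 : Led Lsl_ft (LP (LK LD1_c4 LD2_c26 LD3_c39)) = v12675 :=
  Lrfl
theorem f696715 : Led Lsl_ff (LP (LK LD1_c4 LD2_c26 LD3_c39)) = v12675 :=
  Lgr Lrot3 (Lpr_ft (f696712 IH) (Lpn v12675))
theorem f696717 : Led Lsl_ct v12309 = v12675 :=
  Lgr Lrot40 (Lpe (f689295 IH) (Lpe (K37.f445174 IH) (Lpr_ff (f696715 IH) (Lpn v12675))))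
theorem f877104 : v12675 = (LP (LK LD1_c4 LD2_c26 LD3_c53)) :=
  Lefun (Lecon (f696717 IH) (f877094 IH)) (Lfl_cf (K37.f35702 IH))
theorem f877314 : Led Lsl_ff (LP (LK LD1_c8 LD2_c51 LD3_c32)) = (LP (LK LD1_c16 LD2_c31 LD3_c46)) :=
  Lgr Lrot72 (Lpr_et (K37.f16610 IH) (Lpq (f877104 IH) (Lpe (f696715 IH) (Lpr_et (K40.f60537 IH) (Lpr_ft (f60543 IH) (Lpr_et (f877308 IH) (Lpn (LP (LK LD1_c16 LD2_c31 LD3_c46)))))))))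
theorem f877318 : Led Lsl_at (LP (LK LD1_c8 LD2_c51 LD3_c32)) = (LP (LK LD1_c8 LD2_c50 LD3_c56)) :=
  Lgr Lrot26 (Lpr_ff (f877314 IH) (Lpr_gt (f80571 IH) (Lpr_gt (K64.f543455 IH) (Lpn (LP (LK LD1_c8 LD2_c50 LD3_c56))))))
theorem f877322 : Led Lsl_af (LP (LK LD1_c16 LD2_c31 LD3_c46)) = (LP (LK LD1_c16 LD2_c32 LD3_c25)) :=
  Lgr Lrot45 (Lpe (f877314 IH) (Lpr_at (f877318 IH) (Lpr_ft (f70577 IH) (Lpn (LP (LK LD1_c16 LD2_c32 LD3_c25))))))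
theorem f877087 : Led Lsl_ct (LP (LK LD1_c16 LD2_c31 LD3_c46)) = (LP (LK LD1_c15 LD2_c8 LD3_c48)) :=
  Lgr Lrot8 (Lpr_gt (f80571 IH) (Lpr_dt (K37.f80560 IH) (Lpr_gt (K37.f35688 IH) (Lpr_dt (K37.f35687 IH) (Lpr_cf (K37.f35673 IH) (Lpe (K37.f35777 IH) (Lpe (f31973 IH) (Lpr_df (f80328 IH) (Lpr_gf (f877080 IH) (Lpn (LP (LK LD1_c15 LD2_c8 LD3_c48))))))))))))
theorem f70614 : Led Lsl_cf (LP (LK LD1_c16 LD2_c32 LD3_c25)) = (LP (LK LD1_c15 LD2_c6 LD3_c38)) :=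
  Lgr Lrot11 (Lpr_ct (f70610 IH) (Lpn (LP (LK LD1_c15 LD2_c6 LD3_c38))))
theorem f877324 : Led Lsl_at (LP (LK LD1_c15 LD2_c8 LD3_c48)) = (LP (LK LD1_c15 LD2_c6 LD3_c38)) :=
  Lgr Lrot107 (Lpe (f877087 IH) (Lpr_af (f877322 IH) (Lpr_cf (f70614 IH) (Lpn (LP (LK LD1_c15 LD2_c6 LD3_c38))))))
theorem f877328 : Led Lsl_gt (LP (LK LD1_c15 LD2_c8 LD3_c46)) = (LP (LK LD1_c15 LD2_c6 LD3_c38)) :=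
  Lgr Lrot46 (Lpe (K64.f35609 IH) (Lpr_ft (K67.f35704 IH) (Lpr_at (f877324 IH) (Lpn (LP (LK LD1_c15 LD2_c6 LD3_c38))))))
theorem f445843 : Led Lsl_df (LP (LK LD1_c15 LD2_c8 LD3_c46)) = (LP (LK LD1_c8 LD2_c38 LD3_c27)) :=
  Lgr Lrot38 (Lpr_dt (K64.f445839 IH) (Lpn (LP (LK LD1_c8 LD2_c38 LD3_c27))))
theorem f877330 : Led Lsl_ef (LP (LK LD1_c15 LD2_c22 LD3_c47)) = (LP (LK LD1_c24 LD2_c47 LD3_c6)) :=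
  Lgr Lrot114 (Lpr_gt (f211657 IH) (Lpe (f194097 IH) (Lpr_dt (K15.f31580 IH) (Lpe (K10.f192349 IH) (Lpe (K0.f31988 IH) (Lpr_et (K0.f31970 IH) (Lpr_gt (K64.f34801 IH) (Lpe (f445843 IH) (Lpr_gt (f877328 IH) (Lpe (f877225 IH) (Lpn (LP (LK LD1_c24 LD2_c47 LD3_c6)))))))))))))
theorem f877245 : Led Lsl_gf (LP (LK LD1_c14 LD2_c59 LD3_c30)) = (LP (LK LD1_c15 LD2_c6 LD3_c38)) :=
  Lgr Lrot144 (Lpe (K40.f70198 IH) (Lpr_gt (K40.f34810 IH) (Lpe (K61.f34794 IH) (Lpe (K37.f38274 IH) (Lpe (K37.f38064 IH) (Lpe (K11.f38452 IH) (Lpr_df (K11.f69489 IH) (Lpr_gf (f877235 IH) (Lpr_cf (f70614 IH) (Lpn (LP (LK LD1_c15 LD2_c6 LD3_c38))))))))))))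
theorem f70206 : Led Lsl_et (LP (LK LD1_c8 LD2_c38 LD3_c28)) = (LP (LK LD1_c16 LD2_c11 LD3_c1)) :=
  Lre_e IH (LK LD1_c8 LD2_c38 LD3_c28) (LK LD1_c16 LD2_c11 LD3_c1) Lrfl Lrfl
theorem f315779 : Led Lsl_bt (LP (LK LD1_c8 LD2_c38 LD3_c12)) = (LP (LK LD1_c16 LD2_c10 LD3_c29)) :=
  Lre_b IH (LK LD1_c8 LD2_c38 LD3_c12) (LK LD1_c16 LD2_c10 LD3_c29) Lrfl Lrfl
theorem f559063 : Led Lsl_df (LP (LK LD1_c8 LD2_c38 LD3_c12)) = (LP (LK LD1_c7 LD2_c5 LD3_c38)) :=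
  Lgr Lrot12 (Lpr_bt (f315779 IH) (Lpr_dt (K40.f559059 IH) (Lpr_bt (K46.f439392 IH) (Lpn (LP (LK LD1_c7 LD2_c5 LD3_c38))))))
def v20825 : LQ := Led Lsl_ft (LP (LK LD1_c7 LD2_c5 LD3_c38))
theorem f790268 : Led Lsl_ft (LP (LK LD1_c7 LD2_c5 LD3_c38)) = v20825 :=
  Lrfl
theorem f790272 : Led Lsl_ff (LP (LK LD1_c7 LD2_c5 LD3_c38)) = v20825 :=
  Lgr Lrot3 (Lpr_ft (f790268 IH) (Lpn v20825))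
theorem f891339 : Led Lsl_df v20825 = v36912 :=
  Lgr Lrot78 (Lpe (f790272 IH) (Lpe (f559063 IH) (Lpr_ft (f891337 IH) (Lpn v36912))))
theorem f790276 : Led Lsl_gf K48.v7134 = v20825 :=
  Lgr Lrot47 (Lpe (K48.f661440 IH) (Lpr_af (K46.f439614 IH) (Lpr_ff (f790272 IH) (Lpn v20825))))
theorem f790277 : Led Lsl_gt (LP (LK LD1_c7 LD2_c19 LD3_c44)) = v20825 :=
  Lgr Lrot5 (Lpr_ft (K62.f790262 IH) (Lpe (K62.f790263 IH) (Lpr_gf (f790276 IH) (Lpn v20825))))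
theorem f611138 : Led Lsl_dt (LP (LK LD1_c13 LD2_c51 LD3_c49)) = (LP (LK LD1_c7 LD2_c19 LD3_c44)) :=
  Lre_d IH (LK LD1_c13 LD2_c51 LD3_c49) (LK LD1_c7 LD2_c19 LD3_c44) Lrfl Lrfl
theorem f891347 : Led Lsl_gt (LP (LK LD1_c16 LD2_c11 LD3_c1)) = (LP (LK LD1_c13 LD2_c51 LD3_c49)) :=
  Lgr Lrot137 (Lpe (f70206 IH) (Lpr_dt (K61.f70204 IH) (Lpr_gf (f877245 IH) (Lpe (f877225 IH) (Lpe (f877330 IH) (Lpe (f315771 IH) (Lpr_ef (f891340 IH) (Lpe (f891339 IH) (Lpe (f790277 IH) (Lpe (f611138 IH) (Lpn (LP (LK LD1_c13 LD2_c51 LD3_c49)))))))))))))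
theorem f891348 : Led Lsl_gt (LP (LK LD1_c16 LD2_c11 LD3_c1)) = (LP (LK LD1_c13 LD2_c51 LD3_c49)) :=
  Leop (Lpe (f891347 IH) (Lpn (LP (LK LD1_c16 LD2_c11 LD3_c1))))
theorem seed_2135 : LEOK LG_g (LK LD1_c16 LD2_c11 LD3_c1) :=
  Leoe_g (LK LD1_c16 LD2_c11 LD3_c1) (f891348 IH)
def v36924 : LQ := Led Lsl_gf (LP (LK LD1_c8 LD2_c39 LD3_c6))
theorem f891405 : Led Lsl_gf (LP (LK LD1_c8 LD2_c39 LD3_c6)) = v36924 :=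
  Lrfl
theorem f31976 : Led Lsl_ct (LP (LK LD1_c8 LD2_c39 LD3_c6)) = (LP (LK LD1_c4 LD2_c20 LD3_c44)) :=
  Lre_c IH (LK LD1_c8 LD2_c39 LD3_c6) (LK LD1_c4 LD2_c20 LD3_c44) Lrfl Lrfl
theorem f35677 : Led Lsl_ct (LP (LK LD1_c3 LD2_c0 LD3_c59)) = (LP (LK LD1_c3 LD2_c57 LD3_c45)) :=
  Lgr Lrot59 (Lpr_cf (K37.f35673 IH) (Lpn (LP (LK LD1_c3 LD2_c57 LD3_c45))))
theorem f891407 : Led Lsl_ct (LP (LK LD1_c12 LD2_c7 LD3_c59)) = v36924 :=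
  Lgr Lrot152 (Lpe (K11.f201939 IH) (Lpe (K2.f70783 IH) (Lpe (K57.f70781 IH) (Lpe (f38693 IH) (Lpr_gt (K1.f35694 IH) (Lpr_ct (f35677 IH) (Lpe (K37.f35777 IH) (Lpe (f31976 IH) (Lpr_gf (f891405 IH) (Lpn v36924))))))))))
theorem f617372 : Led Lsl_ft (LP (LK LD1_c9 LD2_c14 LD3_c56)) = (LP (LK LD1_c12 LD2_c21 LD3_c54)) :=
  Lgr Lrot54 (Lpe (K37.f56421 IH) (Lpr_ff (K55.f617366 IH) (Lpe (K50.f56498 IH) (Lpn (LP (LK LD1_c12 LD2_c21 LD3_c54))))))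
theorem f617344 : Led Lsl_af (LP (LK LD1_c9 LD2_c14 LD3_c53)) = (LP (LK LD1_c12 LD2_c21 LD3_c54)) :=
  Lgr Lrot0 (Lpr_at (K55.f617342 IH) (Lpn (LP (LK LD1_c12 LD2_c21 LD3_c54))))
theorem f617600 : Led Lsl_gt (LP (LK LD1_c9 LD2_c14 LD3_c56)) = (LP (LK LD1_c16 LD2_c33 LD3_c11)) :=
  Lgr Lrot5 (Lpr_ft (f617372 IH) (Lpe (f617344 IH) (Lpe (K57.f445119 IH) (Lpn (LP (LK LD1_c16 LD2_c33 LD3_c11))))))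
theorem f56419 : Led Lsl_gf (LP (LK LD1_c4 LD2_c39 LD3_c39)) = (LP (LK LD1_c6 LD2_c24 LD3_c23)) :=
  Lgr Lrot47 (Lpr_gt (K37.f56093 IH) (Lpr_af (K1.f56365 IH) (Lpe (K1.f56348 IH) (Lpn (LP (LK LD1_c6 LD2_c24 LD3_c23))))))
theorem f69552 : Led Lsl_ct (LP (LK LD1_c6 LD2_c24 LD3_c23)) = (LP (LK LD1_c5 LD2_c46 LD3_c35)) :=
  Lgr Lrot59 (Lpr_cf (K8.f69547 IH) (Lpn (LP (LK LD1_c5 LD2_c46 LD3_c35))))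
theorem f69595 : Led Lsl_dt (LP (LK LD1_c6 LD2_c14 LD3_c23)) = (LP (LK LD1_c12 LD2_c7 LD3_c7)) :=
  Lre_d IH (LK LD1_c6 LD2_c14 LD3_c23) (LK LD1_c12 LD2_c7 LD3_c7) Lrfl Lrfl
theorem f59301 : Led Lsl_dt (LP (LK LD1_c11 LD2_c23 LD3_c15)) = (LP (LK LD1_c5 LD2_c46 LD3_c32)) :=
  Lre_d IH (LK LD1_c11 LD2_c23 LD3_c15) (LK LD1_c5 LD2_c46 LD3_c32) Lrfl Lrfl
theorem f576236 : Led Lsl_ff (LP (LK LD1_c11 LD2_c23 LD3_c15)) = (LP (LK LD1_c12 LD2_c7 LD3_c7)) :=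
  Lgr Lrot19 (Lpr_dt (f59301 IH) (Lpr_ft (K43.f576232 IH) (Lpr_dt (f69595 IH) (Lpn (LP (LK LD1_c12 LD2_c7 LD3_c7))))))
theorem f60377 : Led Lsl_dt (LP (LK LD1_c5 LD2_c46 LD3_c32)) = (LP (LK LD1_c11 LD2_c23 LD3_c15)) :=
  Lre_d IH (LK LD1_c5 LD2_c46 LD3_c32) (LK LD1_c11 LD2_c23 LD3_c15) Lrfl Lrfl
theorem f38082 : Led Lsl_dt (LP (LK LD1_c12 LD2_c7 LD3_c5)) = (LP (LK LD1_c6 LD2_c14 LD3_c22)) :=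
  Lre_d IH (LK LD1_c12 LD2_c7 LD3_c5) (LK LD1_c6 LD2_c14 LD3_c22) Lrfl Lrfl
theorem f576204 : Led Lsl_at (LP (LK LD1_c11 LD2_c23 LD3_c15)) = (LP (LK LD1_c12 LD2_c7 LD3_c5)) :=
  Lgr Lrot51 (Lpe (f60377 IH) (Lpr_af (K43.f576158 IH) (Lpe (f38082 IH) (Lpn (LP (LK LD1_c12 LD2_c7 LD3_c5))))))
theorem f38085 : Led Lsl_gt (LP (LK LD1_c21 LD2_c13 LD3_c16)) = (LP (LK LD1_c12 LD2_c7 LD3_c5)) :=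
  Lre_g IH (LK LD1_c21 LD2_c13 LD3_c16) (LK LD1_c12 LD2_c7 LD3_c5) Lrfl Lrfl
theorem f608566 : Led Lsl_gf (LP (LK LD1_c21 LD2_c13 LD3_c16)) = (LP (LK LD1_c12 LD2_c7 LD3_c7)) :=
  Lgr Lrot47 (Lpr_gt (f38085 IH) (Lpe (f576204 IH) (Lpr_ff (f576236 IH) (Lpn (LP (LK LD1_c12 LD2_c7 LD3_c7))))))
theorem f617602 : Led Lsl_dt (LP (LK LD1_c21 LD2_c13 LD3_c16)) = (LP (LK LD1_c16 LD2_c32 LD3_c16)) :=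
  Lgr Lrot105 (Lpr_gf (f608566 IH) (Lpe (f69595 IH) (Lpr_gf (K43.f443825 IH) (Lpe (f69552 IH) (Lpe (f56419 IH) (Lpr_dt (K37.f56421 IH) (Lpr_gt (f617600 IH) (Lpr_dt (K57.f69534 IH) (Lpr_cf (K8.f69536 IH) (Lpn (LP (LK LD1_c16 LD2_c32 LD3_c16))))))))))))
theorem f617604 : Led Lsl_df (LP (LK LD1_c21 LD2_c13 LD3_c16)) = (LP (LK LD1_c16 LD2_c32 LD3_c16)) :=
  Lgr Lrot38 (Lpr_dt (f617602 IH) (Lpn (LP (LK LD1_c16 LD2_c32 LD3_c16))))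
theorem f757120 : Led Lsl_gf (LP (LK LD1_c12 LD2_c7 LD3_c60)) = (LP (LK LD1_c7 LD2_c57 LD3_c30)) :=
  Lgr Lrot141 (Lpr_ef (f757112 IH) (Lpe (f617604 IH) (Lpr_gt (f38085 IH) (Lpe (K39.f38074 IH) (Lpe (K46.f38077 IH) (Lpr_gt (K37.f445139 IH) (Lpr_dt (K1.f37783 IH) (Lpr_gt (K37.f227567 IH) (Lpe (K40.f70316 IH) (Lpr_et (K37.f70319 IH) (Lpn (LP (LK LD1_c7 LD2_c57 LD3_c30)))))))))))))
theorem f757122 : Led Lsl_dt (LP (LK LD1_c12 LD2_c7 LD3_c60)) = (LP (LK LD1_c8 LD2_c47 LD3_c56)) :=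
  Lgr Lrot171 (Lpr_gf (f757120 IH) (Lpe (K37.f70319 IH) (Lpr_dt (K40.f70316 IH) (Lpe (K37.f227567 IH) (Lpe (K1.f37783 IH) (Lpr_et (K1.f37780 IH) (Lpe (f386072 IH) (Lpr_ef (K6.f38599 IH) (Lpr_dt (K11.f38618 IH) (Lpr_gf (K61.f443060 IH) (Lpn (LP (LK LD1_c8 LD2_c47 LD3_c56)))))))))))))
theorem f757136 : Led Lsl_ff (LP (LK LD1_c12 LD2_c7 LD3_c59)) = (LP (LK LD1_c8 LD2_c47 LD3_c56)) :=
  Lgr Lrot19 (Lpr_dt (K37.f59376 IH) (Lpr_ft (K57.f543343 IH) (Lpr_dt (f757122 IH) (Lpn (LP (LK LD1_c8 LD2_c47 LD3_c56))))))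
theorem f757158 : Led Lsl_cf (LP (LK LD1_c12 LD2_c7 LD3_c60)) = (LP (LK LD1_c16 LD2_c28 LD3_c53)) :=
  Lgr Lrot39 (Lpr_et (f757116 IH) (Lpe (K8.f69536 IH) (Lpr_et (K57.f69539 IH) (Lpn (LP (LK LD1_c16 LD2_c28 LD3_c53))))))
theorem f35699 : Led Lsl_cf (LP (LK LD1_c8 LD2_c51 LD3_c32)) = (LP (LK LD1_c8 LD2_c2 LD3_c39)) :=
  Lgr Lrot11 (Lpr_ct (K37.f35685 IH) (Lpn (LP (LK LD1_c8 LD2_c2 LD3_c39))))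
theorem f34793 : Led Lsl_ct (LP (LK LD1_c4 LD2_c20 LD3_c17)) = (LP (LK LD1_c8 LD2_c38 LD3_c26)) :=
  Lre_c IH (LK LD1_c4 LD2_c20 LD3_c17) (LK LD1_c8 LD2_c38 LD3_c26) Lrfl Lrfl
theorem f70209 : Led Lsl_gt (LP (LK LD1_c8 LD2_c38 LD3_c26)) = (LP (LK LD1_c16 LD2_c10 LD3_c56)) :=
  Lre_g IH (LK LD1_c8 LD2_c38 LD3_c26) (LK LD1_c16 LD2_c10 LD3_c56) Lrfl Lrfl
theorem f757160 : Led Lsl_cf (LP (LK LD1_c8 LD2_c47 LD3_c56)) = (LP (LK LD1_c16 LD2_c10 LD3_c56)) :=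
  Lgr Lrot99 (Lpe (f757122 IH) (Lpr_cf (f757158 IH) (Lpe (K57.f413188 IH) (Lpr_cf (f35699 IH) (Lpe (f617462 IH) (Lpe (K61.f70204 IH) (Lpr_gt (K40.f34810 IH) (Lpr_ct (f34793 IH) (Lpr_gt (f70209 IH) (Lpn (LP (LK LD1_c16 LD2_c10 LD3_c56))))))))))))
theorem f891411 : Led Lsl_ff (LP (LK LD1_c16 LD2_c10 LD3_c56)) = v36924 :=
  Lgr Lrot23 (Lpe (f757160 IH) (Lpe (f757136 IH) (Lpr_ct (f891407 IH) (Lpn v36924))))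
theorem f80338 : Led Lsl_gt (LP (LK LD1_c8 LD2_c39 LD3_c6)) = (LP (LK LD1_c16 LD2_c12 LD3_c18)) :=
  Lre_g IH (LK LD1_c8 LD2_c39 LD3_c6) (LK LD1_c16 LD2_c12 LD3_c18) Lrfl Lrfl
theorem f891413 : Led Lsl_at (LP (LK LD1_c16 LD2_c10 LD3_c56)) = (LP (LK LD1_c16 LD2_c12 LD3_c18)) :=
  Lgr Lrot26 (Lpr_ff (f891411 IH) (Lpe (f891405 IH) (Lpr_gt (f80338 IH) (Lpn (LP (LK LD1_c16 LD2_c12 LD3_c18))))))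
theorem f891414 : Led Lsl_at (LP (LK LD1_c16 LD2_c10 LD3_c56)) = (LP (LK LD1_c16 LD2_c12 LD3_c18)) :=
  Leop (Lpe (f891413 IH) (Lpn (LP (LK LD1_c16 LD2_c10 LD3_c56))))
theorem seed_2136 : LEOK LG_a (LK LD1_c16 LD2_c10 LD3_c56) :=
  Leoe_a (LK LD1_c16 LD2_c10 LD3_c56) (f891414 IH)
def v36927 : LQ := Led Lsl_gf (LP (LK LD1_c8 LD2_c39 LD3_c11))
theorem f891444 : Led Lsl_gf (LP (LK LD1_c8 LD2_c39 LD3_c11)) = v36927 :=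
  Lrfl
theorem f380738 : Led Lsl_bt (LP (LK LD1_c10 LD2_c57 LD3_c37)) = (LP (LK LD1_c5 LD2_c32 LD3_c56)) :=
  Lre_b IH (LK LD1_c10 LD2_c57 LD3_c37) (LK LD1_c5 LD2_c32 LD3_c56) Lrfl Lrfl
theorem f716955 : Led Lsl_ff (LP (LK LD1_c10 LD2_c57 LD3_c37)) = (LP (LK LD1_c16 LD2_c47 LD3_c40)) :=
  Lgr Lrot25 (Lpr_bt (f380738 IH) (Lpr_ft (K54.f716951 IH) (Lpr_bt (K38.f225225 IH) (Lpn (LP (LK LD1_c16 LD2_c47 LD3_c40))))))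
theorem f716962 : Led Lsl_ft (LP (LK LD1_c10 LD2_c57 LD3_c37)) = (LP (LK LD1_c16 LD2_c47 LD3_c40)) :=
  Lgr Lrot48 (Lpr_ff (f716955 IH) (Lpn (LP (LK LD1_c16 LD2_c47 LD3_c40))))
theorem f380736 : Led Lsl_bt (LP (LK LD1_c8 LD2_c57 LD3_c49)) = (LP (LK LD1_c16 LD2_c46 LD3_c30)) :=
  Lre_b IH (LK LD1_c8 LD2_c57 LD3_c49) (LK LD1_c16 LD2_c46 LD3_c30) Lrfl Lrfl
theorem f380739 : Led Lsl_ct (LP (LK LD1_c16 LD2_c46 LD3_c30)) = (LP (LK LD1_c10 LD2_c57 LD3_c37)) :=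
  Lgr Lrot83 (Lpe (f380736 IH) (Lpr_cf (K24.f380731 IH) (Lpe (K27.f380737 IH) (Lpe (K31.f213565 IH) (Lpe (f380738 IH) (Lpn (LP (LK LD1_c10 LD2_c57 LD3_c37))))))))
theorem f225226 : Led Lsl_cf (LP (LK LD1_c10 LD2_c53 LD3_c47)) = (LP (LK LD1_c16 LD2_c47 LD3_c40)) :=
  Lgr Lrot97 (Lpr_bt (K38.f220908 IH) (Lpr_ct (K31.f225219 IH) (Lpr_bt (K24.f225194 IH) (Lpr_ct (K27.f225197 IH) (Lpr_bt (K38.f225225 IH) (Lpn (LP (LK LD1_c16 LD2_c47 LD3_c40))))))))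
theorem f716970 : Led Lsl_ff (LP (LK LD1_c16 LD2_c46 LD3_c30)) = (LP (LK LD1_c10 LD2_c53 LD3_c47)) :=
  Lgr Lrot23 (Lpr_ct (f380739 IH) (Lpr_ft (f716962 IH) (Lpe (f225226 IH) (Lpn (LP (LK LD1_c10 LD2_c53 LD3_c47))))))
theorem f380775 : Led Lsl_at (LP (LK LD1_c16 LD2_c46 LD3_c30)) = (LP (LK LD1_c26 LD2_c44 LD3_c59)) :=
  Lre_a IH (LK LD1_c16 LD2_c46 LD3_c30) (LK LD1_c26 LD2_c44 LD3_c59) Lrfl Lrfl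
theorem f225223 : Led Lsl_gt (LP (LK LD1_c10 LD2_c53 LD3_c47)) = (LP (LK LD1_c19 LD2_c41 LD3_c28)) :=
  Lre_g IH (LK LD1_c10 LD2_c53 LD3_c47) (LK LD1_c19 LD2_c41 LD3_c28) Lrfl Lrfl
theorem f716978 : Led Lsl_gf (LP (LK LD1_c26 LD2_c44 LD3_c59)) = (LP (LK LD1_c19 LD2_c41 LD3_c28)) :=
  Lgr Lrot76 (Lpe (f380775 IH) (Lpr_ff (f716970 IH) (Lpr_gt (f225223 IH) (Lpn (LP (LK LD1_c19 LD2_c41 LD3_c28))))))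
theorem f380744 : Led Lsl_et (LP (LK LD1_c8 LD2_c57 LD3_c49)) = (LP (LK LD1_c16 LD2_c46 LD3_c31)) :=
  Lre_e IH (LK LD1_c8 LD2_c57 LD3_c49) (LK LD1_c16 LD2_c46 LD3_c31) Lrfl Lrfl
theorem f380745 : Led Lsl_et (LP (LK LD1_c10 LD2_c57 LD3_c34)) = (LP (LK LD1_c5 LD2_c32 LD3_c55)) :=
  Lre_e IH (LK LD1_c10 LD2_c57 LD3_c34) (LK LD1_c5 LD2_c32 LD3_c55) Lrfl Lrfl
theorem f380746 : Led Lsl_ct (LP (LK LD1_c16 LD2_c46 LD3_c31)) = (LP (LK LD1_c10 LD2_c57 LD3_c34)) :=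
  Lgr Lrot15 (Lpe (f380744 IH) (Lpr_cf (K24.f380731 IH) (Lpe (f380745 IH) (Lpn (LP (LK LD1_c10 LD2_c57 LD3_c34))))))
theorem f380758 : Led Lsl_cf (LP (LK LD1_c16 LD2_c46 LD3_c31)) = (LP (LK LD1_c10 LD2_c57 LD3_c34)) :=
  Lgr Lrot11 (Lpr_ct (f380746 IH) (Lpn (LP (LK LD1_c10 LD2_c57 LD3_c34))))
theorem f380763 : Led Lsl_bt (LP (LK LD1_c16 LD2_c46 LD3_c31)) = (LP (LK LD1_c26 LD2_c44 LD3_c60)) :=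
  Lre_b IH (LK LD1_c16 LD2_c46 LD3_c31) (LK LD1_c26 LD2_c44 LD3_c60) Lrfl Lrfl
theorem f380764 : Led Lsl_bt (LP (LK LD1_c5 LD2_c32 LD3_c58)) = (LP (LK LD1_c10 LD2_c57 LD3_c34)) :=
  Lre_b IH (LK LD1_c5 LD2_c32 LD3_c58) (LK LD1_c10 LD2_c57 LD3_c34) Lrfl Lrfl
theorem f380765 : Led Lsl_ct (LP (LK LD1_c10 LD2_c57 LD3_c39)) = (LP (LK LD1_c5 LD2_c32 LD3_c58)) :=
  Lre_c IH (LK LD1_c10 LD2_c57 LD3_c39) (LK LD1_c5 LD2_c32 LD3_c58) Lrfl Lrfl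
theorem f380766 : Led Lsl_bt (LP (LK LD1_c19 LD2_c47 LD3_c34)) = (LP (LK LD1_c10 LD2_c57 LD3_c39)) :=
  Lre_b IH (LK LD1_c19 LD2_c47 LD3_c34) (LK LD1_c10 LD2_c57 LD3_c39) Lrfl Lrfl
theorem f380767 : Led Lsl_ct (LP (LK LD1_c26 LD2_c44 LD3_c60)) = (LP (LK LD1_c19 LD2_c47 LD3_c34)) :=
  Lgr Lrot83 (Lpe (f380763 IH) (Lpr_cf (f380758 IH) (Lpe (f380764 IH) (Lpe (f380765 IH) (Lpe (f380766 IH) (Lpn (LP (LK LD1_c19 LD2_c47 LD3_c34))))))))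
theorem f380771 : Led Lsl_et (LP (LK LD1_c16 LD2_c46 LD3_c30)) = (LP (LK LD1_c26 LD2_c44 LD3_c60)) :=
  Lre_e IH (LK LD1_c16 LD2_c46 LD3_c30) (LK LD1_c26 LD2_c44 LD3_c60) Lrfl Lrfl
theorem f218157 : Led Lsl_et (LP (LK LD1_c19 LD2_c47 LD3_c34)) = (LP (LK LD1_c10 LD2_c57 LD3_c37)) :=
  Lre_e IH (LK LD1_c19 LD2_c47 LD3_c34) (LK LD1_c10 LD2_c57 LD3_c37) Lrfl Lrfl
theorem f380772 : Led Lsl_cf (LP (LK LD1_c16 LD2_c46 LD3_c30)) = (LP (LK LD1_c10 LD2_c57 LD3_c37)) :=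
  Lgr Lrot39 (Lpr_et (f380771 IH) (Lpr_ct (f380767 IH) (Lpr_et (f218157 IH) (Lpn (LP (LK LD1_c10 LD2_c57 LD3_c37))))))
theorem f380776 : Led Lsl_at (LP (LK LD1_c19 LD2_c47 LD3_c32)) = (LP (LK LD1_c10 LD2_c57 LD3_c37)) :=
  Lre_a IH (LK LD1_c19 LD2_c47 LD3_c32) (LK LD1_c10 LD2_c57 LD3_c37) Lrfl Lrfl
theorem f380777 : Led Lsl_ct (LP (LK LD1_c26 LD2_c44 LD3_c59)) = (LP (LK LD1_c19 LD2_c47 LD3_c32)) :=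
  Lgr Lrot111 (Lpe (f380775 IH) (Lpr_cf (f380772 IH) (Lpe (f380776 IH) (Lpn (LP (LK LD1_c19 LD2_c47 LD3_c32))))))
theorem f380781 : Led Lsl_cf (LP (LK LD1_c26 LD2_c44 LD3_c59)) = (LP (LK LD1_c19 LD2_c47 LD3_c32)) :=
  Lgr Lrot11 (Lpr_ct (f380777 IH) (Lpn (LP (LK LD1_c19 LD2_c47 LD3_c32))))
theorem f329829 : Led Lsl_gf (LP (LK LD1_c2 LD2_c7 LD3_c51)) = (LP (LK LD1_c2 LD2_c38 LD3_c48)) :=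
  Lgr Lrot144 (Lpr_dt (K0.f31162 IH) (Lpe (K12.f199186 IH) (Lpr_dt (K12.f42473 IH) (Lpe (K12.f172013 IH) (Lpe (K19.f235643 IH) (Lpe (K16.f54219 IH) (Lpe (K12.f53710 IH) (Lpe (K19.f53723 IH) (Lpr_cf (K21.f329816 IH) (Lpn (LP (LK LD1_c2 LD2_c38 LD3_c48))))))))))))
theorem f33526 : Led Lsl_gt (LP (LK LD1_c8 LD2_c39 LD3_c11)) = (LP (LK LD1_c16 LD2_c12 LD3_c26)) :=
  Lre_g IH (LK LD1_c8 LD2_c39 LD3_c11) (LK LD1_c16 LD2_c12 LD3_c26) Lrfl Lrfl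
theorem f401520 : Led Lsl_bt (LP (LK LD1_c26 LD2_c9 LD3_c8)) = (LP (LK LD1_c16 LD2_c12 LD3_c26)) :=
  Lre_b IH (LK LD1_c26 LD2_c9 LD3_c8) (LK LD1_c16 LD2_c12 LD3_c26) Lrfl Lrfl
theorem f212648 : Led Lsl_bt (LP (LK LD1_c9 LD2_c0 LD3_c29)) = (LP (LK LD1_c4 LD2_c31 LD3_c16)) :=
  Lre_b IH (LK LD1_c9 LD2_c0 LD3_c29) (LK LD1_c4 LD2_c31 LD3_c16) Lrfl Lrfl
theorem f292506 : Led Lsl_gt (LP (LK LD1_c16 LD2_c39 LD3_c21)) = (LP (LK LD1_c8 LD2_c54 LD3_c14)) :=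
  Lre_g IH (LK LD1_c16 LD2_c39 LD3_c21) (LK LD1_c8 LD2_c54 LD3_c14) Lrfl Lrfl
theorem f401521 : Led Lsl_ct (LP (LK LD1_c26 LD2_c9 LD3_c8)) = (LP (LK LD1_c16 LD2_c39 LD3_c21)) :=
  Lgr Lrot64 (Lpr_bt (f401520 IH) (Lpe (f33526 IH) (Lpe (K10.f31290 IH) (Lpr_ct (K10.f31176 IH) (Lpr_gf (f329829 IH) (Lpe (K50.f329823 IH) (Lpr_gf (K19.f212659 IH) (Lpe (f212648 IH) (Lpr_ct (K54.f292582 IH) (Lpe (f292506 IH) (Lpn (LP (LK LD1_c16 LD2_c39 LD3_c21)))))))))))))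
theorem f212737 : Led Lsl_ff (LP (LK LD1_c9 LD2_c51 LD3_c48)) = (LP (LK LD1_c16 LD2_c49 LD3_c52)) :=
  Lgr Lrot3 (Lpr_ft (K54.f212732 IH) (Lpn (LP (LK LD1_c16 LD2_c49 LD3_c52))))
theorem f53717 : Led Lsl_ct (LP (LK LD1_c9 LD2_c51 LD3_c48)) = (LP (LK LD1_c18 LD2_c3 LD3_c1)) :=
  Lre_c IH (LK LD1_c9 LD2_c51 LD3_c48) (LK LD1_c18 LD2_c3 LD3_c1) Lrfl Lrfl
theorem f292594 : Led Lsl_ft (LP (LK LD1_c18 LD2_c3 LD3_c1)) = (LP (LK LD1_c16 LD2_c39 LD3_c22)) :=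
  Lgr Lrot4 (Lpe (f53717 IH) (Lpr_ff (f212737 IH) (Lpr_cf (K54.f292586 IH) (Lpn (LP (LK LD1_c16 LD2_c39 LD3_c22))))))
theorem f292598 : Led Lsl_gt (LP (LK LD1_c18 LD2_c3 LD3_c1)) = (LP (LK LD1_c16 LD2_c39 LD3_c21)) :=
  Lgr Lrot5 (Lpr_ft (f292594 IH) (Lpr_at (K54.f292545 IH) (Lpe (f292506 IH) (Lpn (LP (LK LD1_c16 LD2_c39 LD3_c21))))))
theorem f212931 : Led Lsl_ff (LP (LK LD1_c5 LD2_c0 LD3_c39)) = (LP (LK LD1_c5 LD2_c35 LD3_c14)) :=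
  Lgr Lrot25 (Lpr_bt (K16.f53671 IH) (Lpr_ft (K12.f212919 IH) (Lpr_bt (K30.f211966 IH) (Lpn (LP (LK LD1_c5 LD2_c35 LD3_c14))))))
theorem f53718 : Led Lsl_at (LP (LK LD1_c5 LD2_c0 LD3_c39)) = (LP (LK LD1_c9 LD2_c51 LD3_c37)) :=
  Lre_a IH (LK LD1_c5 LD2_c0 LD3_c39) (LK LD1_c9 LD2_c51 LD3_c37) Lrfl Lrfl
theorem f213471 : Led Lsl_gf (LP (LK LD1_c9 LD2_c51 LD3_c37)) = (LP (LK LD1_c11 LD2_c2 LD3_c35)) :=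
  Lgr Lrot76 (Lpe (f53718 IH) (Lpr_ff (f212931 IH) (Lpr_gt (K30.f211967 IH) (Lpn (LP (LK LD1_c11 LD2_c2 LD3_c35))))))
theorem f295330 : Led Lsl_ff (LP (LK LD1_c10 LD2_c19 LD3_c14)) = (LP (LK LD1_c10 LD2_c45 LD3_c57)) :=
  Lgr Lrot30 (Lpr_at (K10.f33464 IH) (Lpr_ft (K31.f295325 IH) (Lpr_at (K31.f295329 IH) (Lpn (LP (LK LD1_c10 LD2_c45 LD3_c57))))))
theorem f295403 : Led Lsl_gf (LP (LK LD1_c10 LD2_c19 LD3_c13)) = (LP (LK LD1_c10 LD2_c45 LD3_c57)) :=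
  Lgr Lrot47 (Lpr_gt (K30.f33531 IH) (Lpe (K10.f33464 IH) (Lpr_ff (f295330 IH) (Lpn (LP (LK LD1_c10 LD2_c45 LD3_c57))))))
theorem f235367 : Led Lsl_at (LP (LK LD1_c9 LD2_c43 LD3_c46)) = (LP (LK LD1_c17 LD2_c52 LD3_c60)) :=
  Lre_a IH (LK LD1_c9 LD2_c43 LD3_c46) (LK LD1_c17 LD2_c52 LD3_c60) Lrfl Lrfl
theorem f295320 : Led Lsl_ct (LP (LK LD1_c17 LD2_c52 LD3_c60)) = (LP (LK LD1_c10 LD2_c45 LD3_c57)) :=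
  Lgr Lrot111 (Lpe (f235367 IH) (Lpr_cf (K21.f295304 IH) (Lpe (K31.f295268 IH) (Lpn (LP (LK LD1_c10 LD2_c45 LD3_c57))))))
theorem f401526 : Led Lsl_gt (LP (LK LD1_c16 LD2_c12 LD3_c26)) = (LP (LK LD1_c17 LD2_c52 LD3_c60)) :=
  Lgr Lrot82 (Lpe (f401520 IH) (Lpr_ct (f401521 IH) (Lpe (f292598 IH) (Lpe (f53717 IH) (Lpe (K54.f53675 IH) (Lpr_gf (f213471 IH) (Lpe (K30.f218143 IH) (Lpr_ct (K30.f33532 IH) (Lpr_gf (f295403 IH) (Lpe (f295320 IH) (Lpn (LP (LK LD1_c17 LD2_c52 LD3_c60)))))))))))))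
theorem f295369 : Led Lsl_cf (LP (LK LD1_c17 LD2_c52 LD3_c60)) = (LP (LK LD1_c10 LD2_c45 LD3_c57)) :=
  Lgr Lrot108 (Lpr_ft (K21.f235523 IH) (Lpr_ct (K31.f33518 IH) (Lpr_ft (K31.f295363 IH) (Lpn (LP (LK LD1_c10 LD2_c45 LD3_c57))))))
theorem f295367 : Led Lsl_bf (LP (LK LD1_c16 LD2_c44 LD3_c2)) = (LP (LK LD1_c10 LD2_c45 LD3_c57)) :=
  Lgr Lrot61 (Lpr_ft (K15.f189023 IH) (Lpr_bt (K10.f33465 IH) (Lpr_ft (K31.f295363 IH) (Lpn (LP (LK LD1_c10 LD2_c45 LD3_c57))))))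
theorem f390613 : Led Lsl_bt (LP (LK LD1_c11 LD2_c0 LD3_c26)) = (LP (LK LD1_c10 LD2_c19 LD3_c23)) :=
  Lgr Lrot127 (Lpr_bf (K31.f390602 IH) (Lpn (LP (LK LD1_c10 LD2_c19 LD3_c23))))
theorem f401529 : Led Lsl_cf (LP (LK LD1_c16 LD2_c12 LD3_c26)) = (LP (LK LD1_c19 LD2_c41 LD3_c28)) :=
  Lgr Lrot125 (Lpr_gt (f401526 IH) (Lpr_cf (f295369 IH) (Lpe (f295367 IH) (Lpr_gt (K31.f189042 IH) (Lpe (f390613 IH) (Lpr_ct (K31.f387572 IH) (Lpr_gt (K31.f390723 IH) (Lpe (K31.f225219 IH) (Lpr_bt (K38.f225215 IH) (Lpr_gt (f225223 IH) (Lpn (LP (LK LD1_c19 LD2_c41 LD3_c28)))))))))))))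
theorem f401532 : Led Lsl_ct (LP (LK LD1_c16 LD2_c12 LD3_c26)) = (LP (LK LD1_c19 LD2_c41 LD3_c28)) :=
  Lgr Lrot59 (Lpr_cf (f401529 IH) (Lpn (LP (LK LD1_c19 LD2_c41 LD3_c28))))
theorem f716980 : Led Lsl_bt (LP (LK LD1_c19 LD2_c47 LD3_c32)) = (LP (LK LD1_c18 LD2_c2 LD3_c45)) :=
  Lgr Lrot22 (Lpe (f380781 IH) (Lpr_gf (f716978 IH) (Lpe (f401532 IH) (Lpe (f33526 IH) (Lpe (K10.f31290 IH) (Lpr_ct (K10.f31176 IH) (Lpr_gf (f329829 IH) (Lpe (K50.f329823 IH) (Lpr_bt (K50.f329820 IH) (Lpe (K27.f330216 IH) (Lpn (LP (LK LD1_c18 LD2_c2 LD3_c45)))))))))))))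
theorem f346106 : Led Lsl_ct (LP (LK LD1_c18 LD2_c2 LD3_c45)) = (LP (LK LD1_c27 LD2_c35 LD3_c33)) :=
  Lgr Lrot59 (Lpr_cf (K27.f346103 IH) (Lpn (LP (LK LD1_c27 LD2_c35 LD3_c33))))
theorem f716783 : Led Lsl_ct (LP (LK LD1_c17 LD2_c48 LD3_c14)) = (LP (LK LD1_c19 LD2_c41 LD3_c24)) :=
  Lgr Lrot40 (Lpr_ff (K54.f716779 IH) (Lpe (K54.f295307 IH) (Lpr_ff (K54.f391316 IH) (Lpn (LP (LK LD1_c19 LD2_c41 LD3_c24))))))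
theorem f716986 : Led Lsl_bf (LP (LK LD1_c26 LD2_c44 LD3_c59)) = (LP (LK LD1_c19 LD2_c41 LD3_c24)) :=
  Lgr Lrot90 (Lpr_ct (f380777 IH) (Lpr_bt (f716980 IH) (Lpr_ct (f346106 IH) (Lpr_bt (K27.f346102 IH) (Lpr_ct (f716783 IH) (Lpn (LP (LK LD1_c19 LD2_c41 LD3_c24))))))))
theorem f221072 : Led Lsl_gt (LP (LK LD1_c5 LD2_c31 LD3_c4)) = (LP (LK LD1_c10 LD2_c53 LD3_c39)) :=
  Lre_g IH (LK LD1_c5 LD2_c31 LD3_c4) (LK LD1_c10 LD2_c53 LD3_c39) Lrfl Lrfl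
theorem f221168 : Led Lsl_bt (LP (LK LD1_c19 LD2_c41 LD3_c11)) = (LP (LK LD1_c10 LD2_c53 LD3_c39)) :=
  Lre_b IH (LK LD1_c19 LD2_c41 LD3_c11) (LK LD1_c10 LD2_c53 LD3_c39) Lrfl Lrfl
theorem f891446 : Led Lsl_ct (LP (LK LD1_c19 LD2_c41 LD3_c11)) = v36927 :=
  Lgr Lrot64 (Lpr_bt (f221168 IH) (Lpe (f221072 IH) (Lpe (K12.f221046 IH) (Lpe (K14.f221051 IH) (Lpe (K12.f27503 IH) (Lpe (K12.f188612 IH) (Lpe (K12.f218138 IH) (Lpe (K10.f33463 IH) (Lpe (K10.f33516 IH) (Lpr_gf (f891444 IH) (Lpn v36927)))))))))))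
theorem f891447 : Led Lsl_gt (LP (LK LD1_c26 LD2_c44 LD3_c59)) = (LP (LK LD1_c19 LD2_c41 LD3_c11)) :=
  Lgr Lrot82 (Lpr_bf (f716986 IH) (Lpe (K54.f716791 IH) (Lpe (K27.f201173 IH) (Lpe (K54.f201166 IH) (Lpr_bt (K22.f188614 IH) (Lpe (K12.f218138 IH) (Lpe (K10.f33463 IH) (Lpe (K10.f33516 IH) (Lpr_gf (f891444 IH) (Lpe (f891446 IH) (Lpn (LP (LK LD1_c19 LD2_c41 LD3_c11)))))))))))))
theorem f891448 : Led Lsl_gt (LP (LK LD1_c26 LD2_c44 LD3_c59)) = (LP (LK LD1_c19 LD2_c41 LD3_c11)) :=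
  Leop (Lpe (f891447 IH) (Lpn (LP (LK LD1_c26 LD2_c44 LD3_c59))))
theorem seed_2137 : LEOK LG_g (LK LD1_c26 LD2_c44 LD3_c59) :=
  Leoe_g (LK LD1_c26 LD2_c44 LD3_c59) (f891448 IH)
def v36935 : LQ := Led Lsl_gf (LP (LK LD1_c8 LD2_c39 LD3_c38))
theorem f891501 : Led Lsl_gf (LP (LK LD1_c8 LD2_c39 LD3_c38)) = v36935 :=
  Lrfl
theorem f31279 : Led Lsl_at (LP (LK LD1_c4 LD2_c20 LD3_c58)) = (LP (LK LD1_c8 LD2_c39 LD3_c38)) :=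
  Lre_a IH (LK LD1_c4 LD2_c20 LD3_c58) (LK LD1_c8 LD2_c39 LD3_c38) Lrfl Lrfl
theorem f235488 : Led Lsl_ft (LP (LK LD1_c8 LD2_c39 LD3_c40)) = (LP (LK LD1_c4 LD2_c20 LD3_c58)) :=
  Lre_f IH (LK LD1_c8 LD2_c39 LD3_c40) (LK LD1_c4 LD2_c20 LD3_c58) Lrfl Lrfl
theorem f891502 : Led Lsl_gt (LP (LK LD1_c8 LD2_c39 LD3_c40)) = v36935 :=
  Lgr Lrot5 (Lpr_ft (f235488 IH) (Lpr_at (f31279 IH) (Lpr_gf (f891501 IH) (Lpn v36935))))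
theorem f187989 : Led Lsl_ct (LP (LK LD1_c16 LD2_c12 LD3_c55)) = (LP (LK LD1_c8 LD2_c39 LD3_c40)) :=
  Lre_c IH (LK LD1_c16 LD2_c12 LD3_c55) (LK LD1_c8 LD2_c39 LD3_c40) Lrfl Lrfl
theorem f555207 : Led Lsl_gt (LP (LK LD1_c8 LD2_c13 LD3_c53)) = (LP (LK LD1_c10 LD2_c11 LD3_c14)) :=
  Lgr Lrot46 (Lpr_gf (K39.f555205 IH) (Lpe (K17.f291555 IH) (Lpr_at (K17.f291561 IH) (Lpn (LP (LK LD1_c10 LD2_c11 LD3_c14))))))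
theorem f54291 : Led Lsl_bt (LP (LK LD1_c8 LD2_c39 LD3_c28)) = (LP (LK LD1_c16 LD2_c12 LD3_c55)) :=
  Lre_b IH (LK LD1_c8 LD2_c39 LD3_c28) (LK LD1_c16 LD2_c12 LD3_c55) Lrfl Lrfl
theorem f274335 : Led Lsl_ct (LP (LK LD1_c10 LD2_c11 LD3_c14)) = (LP (LK LD1_c11 LD2_c53 LD3_c46)) :=
  Lgr Lrot59 (Lpr_cf (K17.f274329 IH) (Lpn (LP (LK LD1_c11 LD2_c53 LD3_c46))))
theorem f274302 : Led Lsl_ct (LP (LK LD1_c15 LD2_c28 LD3_c35)) = (LP (LK LD1_c10 LD2_c37 LD3_c16)) :=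
  Lgr Lrot59 (Lpr_cf (K16.f274299 IH) (Lpn (LP (LK LD1_c10 LD2_c37 LD3_c16))))
theorem f274181 : Led Lsl_ct (LP (LK LD1_c6 LD2_c5 LD3_c13)) = (LP (LK LD1_c8 LD2_c13 LD3_c39)) :=
  Lgr Lrot7 (Lpe (K17.f42477 IH) (Lpe (K10.f42476 IH) (Lpe (K16.f187790 IH) (Lpr_gf (K16.f274178 IH) (Lpr_cf (K16.f274092 IH) (Lpr_gt (K17.f274134 IH) (Lpr_dt (K12.f28718 IH) (Lpe (K11.f183591 IH) (Lpr_dt (K16.f183593 IH) (Lpn (LP (LK LD1_c8 LD2_c13 LD3_c39))))))))))))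
theorem f290016 : Led Lsl_dt (LP (LK LD1_c11 LD2_c53 LD3_c46)) = (LP (LK LD1_c10 LD2_c29 LD3_c41)) :=
  Lgr Lrot42 (Lpr_df (K17.f290010 IH) (Lpn (LP (LK LD1_c10 LD2_c29 LD3_c41))))
theorem f290035 : Led Lsl_gf (LP (LK LD1_c6 LD2_c5 LD3_c13)) = (LP (LK LD1_c11 LD2_c53 LD3_c46)) :=
  Lgr Lrot147 (Lpr_ct (f274181 IH) (Lpr_gt (K16.f183594 IH) (Lpr_ct (f274302 IH) (Lpe (K16.f256889 IH) (Lpr_cf (K15.f256827 IH) (Lpr_gf (K13.f191105 IH) (Lpe (K15.f182528 IH) (Lpr_gf (K17.f290033 IH) (Lpe (f290016 IH) (Lpn (LP (LK LD1_c11 LD2_c53 LD3_c46))))))))))))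
theorem f274269 : Led Lsl_bt (LP (LK LD1_c8 LD2_c13 LD3_c39)) = (LP (LK LD1_c15 LD2_c28 LD3_c33)) :=
  Lre_b IH (LK LD1_c8 LD2_c13 LD3_c39) (LK LD1_c15 LD2_c28 LD3_c33) Lrfl Lrfl
theorem f555747 : Led Lsl_gf (LP (LK LD1_c16 LD2_c12 LD3_c55)) = (LP (LK LD1_c15 LD2_c28 LD3_c33)) :=
  Lgr Lrot124 (Lpe (f54291 IH) (Lpr_ct (K10.f28685 IH) (Lpe (K9.f182095 IH) (Lpr_cf (K39.f182577 IH) (Lpr_bt (K39.f182574 IH) (Lpr_gt (f555207 IH) (Lpr_ct (f274335 IH) (Lpe (f290035 IH) (Lpr_cf (K17.f274183 IH) (Lpr_bt (f274269 IH) (Lpn (LP (LK LD1_c15 LD2_c28 LD3_c33)))))))))))))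
theorem f274333 : Led Lsl_bt (LP (LK LD1_c10 LD2_c11 LD3_c14)) = (LP (LK LD1_c18 LD2_c33 LD3_c34)) :=
  Lre_b IH (LK LD1_c10 LD2_c11 LD3_c14) (LK LD1_c18 LD2_c33 LD3_c34) Lrfl Lrfl
theorem f274466 : Led Lsl_gf (LP (LK LD1_c8 LD2_c13 LD3_c51)) = (LP (LK LD1_c10 LD2_c11 LD3_c14)) :=
  Lgr Lrot143 (Lpr_dt (K17.f194248 IH) (Lpr_cf (K13.f194240 IH) (Lpe (K17.f274464 IH) (Lpr_gf (K16.f274460 IH) (Lpe (K15.f192299 IH) (Lpr_gf (K15.f194184 IH) (Lpe (K17.f194176 IH) (Lpr_gt (K16.f256830 IH) (Lpr_dt (f189569 IH) (Lpn (LP (LK LD1_c10 LD2_c11 LD3_c14))))))))))))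
theorem f325142 : Led Lsl_ft (LP (LK LD1_c8 LD2_c13 LD3_c38)) = (LP (LK LD1_c9 LD2_c41 LD3_c40)) :=
  Lgr Lrot75 (Lpe (K39.f182698 IH) (Lpr_ff (K21.f325140 IH) (Lpe (K25.f213975 IH) (Lpn (LP (LK LD1_c9 LD2_c41 LD3_c40))))))
theorem f401830 : Led Lsl_gt (LP (LK LD1_c15 LD2_c28 LD3_c30)) = (LP (LK LD1_c17 LD2_c50 LD3_c2)) :=
  Lgr Lrot46 (Lpe (K39.f182703 IH) (Lpr_ft (f325142 IH) (Lpr_at (K39.f216053 IH) (Lpn (LP (LK LD1_c17 LD2_c50 LD3_c2))))))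
theorem f342876 : Led Lsl_ff (LP (LK LD1_c15 LD2_c28 LD3_c50)) = (LP (LK LD1_c25 LD2_c19 LD3_c14)) :=
  Lgr Lrot3 (Lpr_ft (K39.f342870 IH) (Lpn (LP (LK LD1_c25 LD2_c19 LD3_c14))))
theorem f342880 : Led Lsl_bt (LP (LK LD1_c15 LD2_c28 LD3_c50)) = (LP (LK LD1_c17 LD2_c50 LD3_c2)) :=
  Lgr Lrot35 (Lpr_ff (f342876 IH) (Lpe (K39.f342868 IH) (Lpr_ff (K25.f342767 IH) (Lpn (LP (LK LD1_c17 LD2_c50 LD3_c2))))))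
theorem f188177 : Led Lsl_cf (LP (LK LD1_c15 LD2_c32 LD3_c48)) = (LP (LK LD1_c15 LD2_c28 LD3_c50)) :=
  Lgr Lrot11 (Lpr_ct (K39.f188169 IH) (Lpn (LP (LK LD1_c15 LD2_c28 LD3_c50))))
theorem f342882 : Led Lsl_ft (LP (LK LD1_c15 LD2_c32 LD3_c48)) = (LP (LK LD1_c15 LD2_c31 LD3_c31)) :=
  Lgr Lrot4 (Lpr_cf (f188177 IH) (Lpr_ff (f342876 IH) (Lpe (K39.f191437 IH) (Lpn (LP (LK LD1_c15 LD2_c31 LD3_c31))))))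
theorem f191443 : Led Lsl_gt (LP (LK LD1_c15 LD2_c31 LD3_c30)) = (LP (LK LD1_c8 LD2_c15 LD3_c22)) :=
  Lre_g IH (LK LD1_c15 LD2_c31 LD3_c30) (LK LD1_c8 LD2_c15 LD3_c22) Lrfl Lrfl
theorem f342887 : Led Lsl_gt (LP (LK LD1_c15 LD2_c32 LD3_c48)) = (LP (LK LD1_c15 LD2_c31 LD3_c30)) :=
  Lgr Lrot5 (Lpr_ft (f342882 IH) (Lpr_at (K39.f191440 IH) (Lpe (f191443 IH) (Lpn (LP (LK LD1_c15 LD2_c31 LD3_c30))))))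
theorem f555244 : Led Lsl_ct (LP (LK LD1_c18 LD2_c33 LD3_c34)) = (LP (LK LD1_c15 LD2_c31 LD3_c30)) :=
  Lgr Lrot10 (Lpr_bt (K17.f274338 IH) (Lpe (f274466 IH) (Lpe (K17.f283383 IH) (Lpr_gt (K39.f555240 IH) (Lpr_cf (K39.f554620 IH) (Lpe (K39.f554608 IH) (Lpr_gt (f401830 IH) (Lpe (f342880 IH) (Lpe (f188177 IH) (Lpr_gt (f342887 IH) (Lpn (LP (LK LD1_c15 LD2_c31 LD3_c30)))))))))))))
theorem f191352 : Led Lsl_bt (LP (LK LD1_c4 LD2_c7 LD3_c41)) = (LP (LK LD1_c8 LD2_c15 LD3_c22)) :=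
  Lre_b IH (LK LD1_c4 LD2_c7 LD3_c41) (LK LD1_c8 LD2_c15 LD3_c22) Lrfl Lrfl
theorem f191353 : Led Lsl_ct (LP (LK LD1_c8 LD2_c15 LD3_c22)) = (LP (LK LD1_c15 LD2_c27 LD3_c30)) :=
  Lgr Lrot83 (Lpe (f191352 IH) (Lpr_cf (K10.f191349 IH) (Lpe (K10.f190088 IH) (Lpe (K15.f187986 IH) (Lpe (K39.f187988 IH) (Lpn (LP (LK LD1_c15 LD2_c27 LD3_c30))))))))
theorem f188181 : Led Lsl_at (LP (LK LD1_c8 LD2_c13 LD3_c45)) = (LP (LK LD1_c15 LD2_c28 LD3_c50)) :=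
  Lre_a IH (LK LD1_c8 LD2_c13 LD3_c45) (LK LD1_c15 LD2_c28 LD3_c50) Lrfl Lrfl
theorem f342872 : Led Lsl_ff (LP (LK LD1_c8 LD2_c13 LD3_c45)) = (LP (LK LD1_c15 LD2_c27 LD3_c30)) :=
  Lgr Lrot30 (Lpr_at (f188181 IH) (Lpr_ft (K39.f342870 IH) (Lpr_at (K39.f191436 IH) (Lpn (LP (LK LD1_c15 LD2_c27 LD3_c30))))))
theorem f554661 : Led Lsl_dt (LP (LK LD1_c8 LD2_c14 LD3_c30)) = (LP (LK LD1_c15 LD2_c27 LD3_c30)) :=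
  Lgr Lrot60 (Lpr_ff (K39.f554650 IH) (Lpe (K39.f188196 IH) (Lpr_ff (f342872 IH) (Lpn (LP (LK LD1_c15 LD2_c27 LD3_c30))))))
theorem f54920 : Led Lsl_gt (LP (LK LD1_c8 LD2_c13 LD3_c56)) = (LP (LK LD1_c4 LD2_c6 LD3_c40)) :=
  Lre_g IH (LK LD1_c8 LD2_c13 LD3_c56) (LK LD1_c4 LD2_c6 LD3_c40) Lrfl Lrfl
theorem f554726 : Led Lsl_dt (LP (LK LD1_c15 LD2_c29 LD3_c14)) = (LP (LK LD1_c8 LD2_c13 LD3_c56)) :=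
  Lre_d IH (LK LD1_c15 LD2_c29 LD3_c14) (LK LD1_c8 LD2_c13 LD3_c56) Lrfl Lrfl
theorem f555255 : Led Lsl_gf (LP (LK LD1_c18 LD2_c33 LD3_c34)) = (LP (LK LD1_c15 LD2_c29 LD3_c14)) :=
  Lgr Lrot147 (Lpr_ct (f555244 IH) (Lpr_gt (f191443 IH) (Lpr_ct (f191353 IH) (Lpe (f554661 IH) (Lpe (K39.f178254 IH) (Lpe (K39.f54890 IH) (Lpe (K39.f54789 IH) (Lpe (f54920 IH) (Lpe (f554726 IH) (Lpn (LP (LK LD1_c15 LD2_c29 LD3_c14))))))))))))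
theorem f555257 : Led Lsl_bt (LP (LK LD1_c25 LD2_c21 LD3_c60)) = (LP (LK LD1_c15 LD2_c29 LD3_c14)) :=
  Lre_b IH (LK LD1_c25 LD2_c21 LD3_c60) (LK LD1_c15 LD2_c29 LD3_c14) Lrfl Lrfl
theorem f891506 : Led Lsl_ct (LP (LK LD1_c25 LD2_c21 LD3_c60)) = v36935 :=
  Lgr Lrot63 (Lpr_bt (f555257 IH) (Lpe (f555255 IH) (Lpe (f274333 IH) (Lpr_ct (f274335 IH) (Lpe (f290035 IH) (Lpr_cf (K17.f274183 IH) (Lpr_bt (f274269 IH) (Lpe (f555747 IH) (Lpr_ct (f187989 IH) (Lpr_gt (f891502 IH) (Lpn v36935)))))))))))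
theorem f891507 : Led Lsl_bt (LP (LK LD1_c15 LD2_c29 LD3_c14)) = (LP (LK LD1_c25 LD2_c21 LD3_c60)) :=
  Lre_b IH (LK LD1_c15 LD2_c29 LD3_c14) (LK LD1_c25 LD2_c21 LD3_c60) Lrfl Lrfl
theorem f31315 : Led Lsl_ct (LP (LK LD1_c8 LD2_c39 LD3_c38)) = (LP (LK LD1_c16 LD2_c12 LD3_c54)) :=
  Lre_c IH (LK LD1_c8 LD2_c39 LD3_c38) (LK LD1_c16 LD2_c12 LD3_c54) Lrfl Lrfl
theorem f554850 : Led Lsl_ff (LP (LK LD1_c16 LD2_c12 LD3_c52)) = (LP (LK LD1_c15 LD2_c30 LD3_c24)) :=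
  Lgr Lrot3 (Lpr_ft (K39.f554844 IH) (Lpn (LP (LK LD1_c15 LD2_c30 LD3_c24))))
theorem f554813 : Led Lsl_at (LP (LK LD1_c16 LD2_c12 LD3_c52)) = (LP (LK LD1_c15 LD2_c28 LD3_c33)) :=
  Lgr Lrot100 (Lpr_af (K39.f554811 IH) (Lpn (LP (LK LD1_c15 LD2_c28 LD3_c33))))
theorem f194281 : Led Lsl_ct (LP (LK LD1_c8 LD2_c14 LD3_c34)) = (LP (LK LD1_c4 LD2_c6 LD3_c60)) :=
  Lre_c IH (LK LD1_c8 LD2_c14 LD3_c34) (LK LD1_c4 LD2_c6 LD3_c60) Lrfl Lrfl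
theorem f194283 : Led Lsl_gf (LP (LK LD1_c15 LD2_c30 LD3_c24)) = (LP (LK LD1_c16 LD2_c12 LD3_c55)) :=
  Lgr Lrot124 (Lpe (K39.f194282 IH) (Lpr_ct (f194281 IH) (Lpr_gt (K56.f54889 IH) (Lpe (K39.f54789 IH) (Lpr_bt (K39.f54658 IH) (Lpr_gt (K16.f54964 IH) (Lpr_ct (K16.f194243 IH) (Lpe (K13.f54289 IH) (Lpe (K10.f28685 IH) (Lpr_bt (f54291 IH) (Lpn (LP (LK LD1_c16 LD2_c12 LD3_c55)))))))))))))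
theorem f48152 : Led Lsl_ft (LP (LK LD1_c16 LD2_c12 LD3_c55)) = (LP (LK LD1_c8 LD2_c39 LD3_c26)) :=
  Lre_f IH (LK LD1_c16 LD2_c12 LD3_c55) (LK LD1_c8 LD2_c39 LD3_c26) Lrfl Lrfl
theorem f194287 : Led Lsl_gt (LP (LK LD1_c15 LD2_c30 LD3_c24)) = (LP (LK LD1_c16 LD2_c12 LD3_c54)) :=
  Lgr Lrot46 (Lpr_gf (f194283 IH) (Lpr_ft (f48152 IH) (Lpr_at (K10.f48101 IH) (Lpn (LP (LK LD1_c16 LD2_c12 LD3_c54))))))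
theorem f554852 : Led Lsl_gf (LP (LK LD1_c15 LD2_c28 LD3_c33)) = (LP (LK LD1_c16 LD2_c12 LD3_c54)) :=
  Lgr Lrot76 (Lpe (f554813 IH) (Lpr_ff (f554850 IH) (Lpr_gt (f194287 IH) (Lpn (LP (LK LD1_c16 LD2_c12 LD3_c54))))))
theorem f182596 : Led Lsl_ct (LP (LK LD1_c8 LD2_c39 LD3_c40)) = (LP (LK LD1_c16 LD2_c12 LD3_c55)) :=
  Lre_c IH (LK LD1_c8 LD2_c39 LD3_c40) (LK LD1_c16 LD2_c12 LD3_c55) Lrfl Lrfl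
theorem f31269 : Led Lsl_bt (LP (LK LD1_c8 LD2_c39 LD3_c40)) = (LP (LK LD1_c4 LD2_c20 LD3_c60)) :=
  Lre_b IH (LK LD1_c8 LD2_c39 LD3_c40) (LK LD1_c4 LD2_c20 LD3_c60) Lrfl Lrfl
theorem f27904 : Led Lsl_bt (LP (LK LD1_c16 LD2_c11 LD3_c28)) = (LP (LK LD1_c8 LD2_c38 LD3_c41)) :=
  Lre_b IH (LK LD1_c16 LD2_c11 LD3_c28) (LK LD1_c8 LD2_c38 LD3_c41) Lrfl Lrfl
theorem f555759 : Led Lsl_ct (LP (LK LD1_c16 LD2_c11 LD3_c28)) = (LP (LK LD1_c15 LD2_c28 LD3_c33)) :=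
  Lgr Lrot64 (Lpr_bt (f27904 IH) (Lpe (K39.f27898 IH) (Lpe (K39.f27897 IH) (Lpr_ct (K13.f27896 IH) (Lpr_gf (K12.f27883 IH) (Lpe (K39.f27886 IH) (Lpr_gf (K13.f231541 IH) (Lpe (f31269 IH) (Lpr_ct (f182596 IH) (Lpr_gf (f555747 IH) (Lpn (LP (LK LD1_c15 LD2_c28 LD3_c33)))))))))))))
theorem f33078 : Led Lsl_gt (LP (LK LD1_c8 LD2_c38 LD3_c41)) = (LP (LK LD1_c16 LD2_c11 LD3_c26)) :=
  Lre_g IH (LK LD1_c8 LD2_c38 LD3_c41) (LK LD1_c16 LD2_c11 LD3_c26) Lrfl Lrfl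
theorem f31822 : Led Lsl_bt (LP (LK LD1_c4 LD2_c20 LD3_c0)) = (LP (LK LD1_c8 LD2_c37 LD3_c60)) :=
  Lre_b IH (LK LD1_c4 LD2_c20 LD3_c0) (LK LD1_c8 LD2_c37 LD3_c60) Lrfl Lrfl
theorem f31823 : Led Lsl_at (LP (LK LD1_c8 LD2_c37 LD3_c60)) = (LP (LK LD1_c16 LD2_c10 LD3_c2)) :=
  Lre_a IH (LK LD1_c8 LD2_c37 LD3_c60) (LK LD1_c16 LD2_c10 LD3_c2) Lrfl Lrfl
theorem f31824 : Led Lsl_bt (LP (LK LD1_c8 LD2_c38 LD3_c45)) = (LP (LK LD1_c4 LD2_c20 LD3_c28)) :=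
  Lre_b IH (LK LD1_c8 LD2_c38 LD3_c45) (LK LD1_c4 LD2_c20 LD3_c28) Lrfl Lrfl
theorem f31825 : Led Lsl_at (LP (LK LD1_c16 LD2_c11 LD3_c26)) = (LP (LK LD1_c8 LD2_c38 LD3_c45)) :=
  Lre_a IH (LK LD1_c16 LD2_c11 LD3_c26) (LK LD1_c8 LD2_c38 LD3_c45) Lrfl Lrfl
theorem f31826 : Led Lsl_bt (LP (LK LD1_c16 LD2_c10 LD3_c2)) = (LP (LK LD1_c16 LD2_c11 LD3_c26)) :=
  Lgr Lrot62 (Lpe (f31823 IH) (Lpe (f31822 IH) (Lpr_af (K0.f31813 IH) (Lpe (f31824 IH) (Lpe (f31825 IH) (Lpn (LP (LK LD1_c16 LD2_c11 LD3_c26))))))))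
theorem f32974 : Led Lsl_at (LP (LK LD1_c18 LD2_c52 LD3_c41)) = (LP (LK LD1_c10 LD2_c24 LD3_c26)) :=
  Lre_a IH (LK LD1_c18 LD2_c52 LD3_c41) (LK LD1_c10 LD2_c24 LD3_c26) Lrfl Lrfl
theorem f32975 : Led Lsl_cf (LP (LK LD1_c18 LD2_c52 LD3_c41)) = (LP (LK LD1_c16 LD2_c10 LD3_c2)) :=
  Lgr Lrot1 (Lpr_at (f32974 IH) (Lpr_ct (K11.f32965 IH) (Lpr_at (f31823 IH) (Lpn (LP (LK LD1_c16 LD2_c10 LD3_c2))))))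
theorem f33060 : Led Lsl_gt (LP (LK LD1_c18 LD2_c52 LD3_c41)) = (LP (LK LD1_c10 LD2_c24 LD3_c23)) :=
  Lre_g IH (LK LD1_c18 LD2_c52 LD3_c41) (LK LD1_c10 LD2_c24 LD3_c23) Lrfl Lrfl
theorem f33020 : Led Lsl_ct (LP (LK LD1_c18 LD2_c52 LD3_c49)) = (LP (LK LD1_c10 LD2_c24 LD3_c23)) :=
  Lre_c IH (LK LD1_c18 LD2_c52 LD3_c49) (LK LD1_c10 LD2_c24 LD3_c23) Lrfl Lrfl
theorem f891503 : Led Lsl_bt (LP (LK LD1_c18 LD2_c52 LD3_c49)) = v36935 :=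
  Lgr Lrot130 (Lpr_ct (f33020 IH) (Lpe (f33060 IH) (Lpr_cf (f32975 IH) (Lpr_bt (f31826 IH) (Lpe (f33078 IH) (Lpe (f27904 IH) (Lpr_ct (f555759 IH) (Lpr_gf (f554852 IH) (Lpe (f31315 IH) (Lpr_gf (f891501 IH) (Lpn v36935)))))))))))
theorem f891504 : Led Lsl_bf (LP (LK LD1_c18 LD2_c52 LD3_c49)) = v36935 :=
  Lgr Lrot24 (Lpr_bt (f891503 IH) (Lpn v36935))
theorem f891505 : Led Lsl_bt (LP (LK LD1_c10 LD2_c24 LD3_c23)) = (LP (LK LD1_c18 LD2_c52 LD3_c48)) :=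
  Lre_b IH (LK LD1_c10 LD2_c24 LD3_c23) (LK LD1_c18 LD2_c52 LD3_c48) Lrfl Lrfl
theorem f891508 : Led Lsl_cf (LP (LK LD1_c15 LD2_c29 LD3_c14)) = (LP (LK LD1_c18 LD2_c52 LD3_c48)) :=
  Lgr Lrot97 (Lpr_bt (f891507 IH) (Lpr_ct (f891506 IH) (Lpe (f891504 IH) (Lpr_ct (f33020 IH) (Lpr_bt (f891505 IH) (Lpn (LP (LK LD1_c18 LD2_c52 LD3_c48))))))))
theorem f891509 : Led Lsl_ct (LP (LK LD1_c18 LD2_c52 LD3_c48)) = (LP (LK LD1_c15 LD2_c29 LD3_c14)) :=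
  Leop (Lpr_cf (f891508 IH) (Lpn (LP (LK LD1_c18 LD2_c52 LD3_c48))))
theorem seed_2138 : LEOK LG_c (LK LD1_c18 LD2_c52 LD3_c48) :=
  Leoe_c (LK LD1_c18 LD2_c52 LD3_c48) (f891509 IH)
def v36970 : LQ := Led Lsl_gt (LP (LK LD1_c8 LD2_c40 LD3_c53))
theorem f891689 : Led Lsl_gt (LP (LK LD1_c8 LD2_c40 LD3_c53)) = v36970 :=
  Lrfl
theorem f258342 : Led Lsl_bt (LP (LK LD1_c4 LD2_c18 LD3_c49)) = (LP (LK LD1_c2 LD2_c6 LD3_c41)) :=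
  Lre_b IH (LK LD1_c4 LD2_c18 LD3_c49) (LK LD1_c2 LD2_c6 LD3_c41) Lrfl Lrfl
def v23723 : LQ := Led Lsl_ct K50.v4136
theorem f819830 : Led Lsl_ct K50.v4136 = v23723 :=
  Lrfl
theorem f819832 : Led Lsl_cf K50.v4136 = v23723 :=
  Lgr Lrot11 (Lpr_ct (f819830 IH) (Lpn v23723))
theorem f891691 : Led Lsl_bt v23723 = v36970 :=
  Lgr Lrot92 (Lpe (f819832 IH) (Lpe (K50.f631390 IH) (Lpe (K19.f237800 IH) (Lpr_bt (f258342 IH) (Lpr_gt (K16.f250775 IH) (Lpe (K16.f258318 IH) (Lpr_gt (K14.f187075 IH) (Lpe (K14.f211426 IH) (Lpr_bt (K15.f232261 IH) (Lpr_gt (f891689 IH) (Lpn v36970)))))))))))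
theorem f819833 : Led Lsl_ff (LP (LK LD1_c8 LD2_c25 LD3_c44)) = v23723 :=
  Lgr Lrot23 (Lpr_ct (f178373 IH) (Lpqs (K64.f694846 IH) (Lpe (K64.f694820 IH) (Lpr_ct (f819830 IH) (Lpn v23723)))))
theorem f694853 : Led Lsl_af (LP (LK LD1_c8 LD2_c25 LD3_c44)) = (LP (LK LD1_c8 LD2_c36 LD3_c36)) :=
  Lgr Lrot68 (Lpr_ct (f178373 IH) (Lpr_at (K50.f692533 IH) (Lpqs (K50.f694843 IH) (Lpr_ct (K50.f304805 IH) (Lpn (LP (LK LD1_c8 LD2_c36 LD3_c36)))))))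
theorem f694855 : Led Lsl_at (LP (LK LD1_c8 LD2_c25 LD3_c44)) = (LP (LK LD1_c8 LD2_c36 LD3_c36)) :=
  Lgr Lrot100 (Lpr_af (f694853 IH) (Lpn (LP (LK LD1_c8 LD2_c36 LD3_c36))))
theorem f694842 : Led Lsl_ff K50.v12508 = (LP (LK LD1_c8 LD2_c36 LD3_c36)) :=
  Lgr Lrot3 (Lpr_ft (K50.f694839 IH) (Lpn (LP (LK LD1_c8 LD2_c36 LD3_c36))))
theorem f819834 : Led Lsl_at K50.v12508 = v23723 :=
  Lgr Lrot66 (Lpr_ff (f694842 IH) (Lpe (f694855 IH) (Lpr_ff (f819833 IH) (Lpn v23723))))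
theorem f597936 : Led Lsl_af (LP (LK LD1_c11 LD2_c18 LD3_c2)) = (LP (LK LD1_c5 LD2_c44 LD3_c31)) :=
  Lgr Lrot117 (Lpr_dt (K50.f310108 IH) (Lpr_at (K56.f597929 IH) (Lpr_dt (K36.f383324 IH) (Lpn (LP (LK LD1_c5 LD2_c44 LD3_c31))))))
theorem f383363 : Led Lsl_bt (LP (LK LD1_c11 LD2_c19 LD3_c3)) = (LP (LK LD1_c5 LD2_c44 LD3_c31)) :=
  Lre_b IH (LK LD1_c11 LD2_c19 LD3_c3) (LK LD1_c5 LD2_c44 LD3_c31) Lrfl Lrfl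
theorem f891692 : Led Lsl_af (LP (LK LD1_c11 LD2_c19 LD3_c3)) = v36970 :=
  Lgr Lrot36 (Lpr_bt (f383363 IH) (Lpe (f597936 IH) (Lpr_bt (K50.f692523 IH) (Lpr_at (f819834 IH) (Lpr_bt (f891691 IH) (Lpn v36970))))))
theorem f597933 : Led Lsl_at (LP (LK LD1_c5 LD2_c44 LD3_c29)) = (LP (LK LD1_c11 LD2_c19 LD3_c1)) :=
  Lre_a IH (LK LD1_c5 LD2_c44 LD3_c29) (LK LD1_c11 LD2_c19 LD3_c1) Lrfl Lrfl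
theorem f891696 : Led Lsl_dt (LP (LK LD1_c11 LD2_c19 LD3_c1)) = v36970 :=
  Lgr Lrot44 (Lpe (f597933 IH) (Lpe (K54.f579318 IH) (Lpr_af (f891692 IH) (Lpn v36970))))
theorem f891697 : Led Lsl_df (LP (LK LD1_c11 LD2_c19 LD3_c1)) = v36970 :=
  Lgr Lrot38 (Lpr_dt (f891696 IH) (Lpn v36970))
theorem f598363 : Led Lsl_ct (LP (LK LD1_c11 LD2_c19 LD3_c1)) = (LP (LK LD1_c20 LD2_c15 LD3_c44)) :=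
  Lre_c IH (LK LD1_c11 LD2_c19 LD3_c1) (LK LD1_c20 LD2_c15 LD3_c44) Lrfl Lrfl
theorem f598362 : Led Lsl_dt (LP (LK LD1_c29 LD2_c22 LD3_c49)) = (LP (LK LD1_c20 LD2_c15 LD3_c44)) :=
  Lre_d IH (LK LD1_c29 LD2_c22 LD3_c49) (LK LD1_c20 LD2_c15 LD3_c44) Lrfl Lrfl
theorem f372426 : Led Lsl_dt (LP (LK LD1_c16 LD2_c15 LD3_c27)) = (LP (LK LD1_c8 LD2_c40 LD3_c53)) :=
  Lre_d IH (LK LD1_c16 LD2_c15 LD3_c27) (LK LD1_c8 LD2_c40 LD3_c53) Lrfl Lrfl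
theorem f495864 : Led Lsl_bt (LP (LK LD1_c2 LD2_c12 LD3_c55)) = (LP (LK LD1_c4 LD2_c31 LD3_c48)) :=
  Lre_b IH (LK LD1_c2 LD2_c12 LD3_c55) (LK LD1_c4 LD2_c31 LD3_c48) Lrfl Lrfl
theorem f196973 : Led Lsl_bt (LP (LK LD1_c4 LD2_c21 LD3_c41)) = (LP (LK LD1_c2 LD2_c8 LD3_c22)) :=
  Lre_b IH (LK LD1_c4 LD2_c21 LD3_c41) (LK LD1_c2 LD2_c8 LD3_c22) Lrfl Lrfl
theorem f551710 : Led Lsl_gt (LP (LK LD1_c17 LD2_c54 LD3_c59)) = (LP (LK LD1_c16 LD2_c15 LD3_c27)) :=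
  Lgr Lrot190 (Lpe (f383916 IH) (Lpe (K39.f383872 IH) (Lpe (K39.f172497 IH) (Lpe (K31.f495870 IH) (Lpe (f495864 IH) (Lpqs (K39.f537396 IH) (Lpe (K39.f495224 IH) (Lpr_df (K10.f175550 IH) (Lpr_gf (K10.f180266 IH) (Lpe (K10.f181412 IH) (Lpe (K13.f80958 IH) (Lpe (K10.f80959 IH) (Lpe (K10.f193700 IH) (Lpr_bf (K39.f551695 IH) (Lpr_cf (K13.f239095 IH) (Lpe (K13.f229905 IH) (Lpe (K13.f239134 IH) (Lpe (f196973 IH) (Lpe (f216639 IH) (Lpe (f372426 IH) (Lpn (LP (LK LD1_c16 LD2_c15 LD3_c27)))))))))))))))))))))))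
theorem f566652 : Led Lsl_bt (LP (LK LD1_c11 LD2_c23 LD3_c49)) = (LP (LK LD1_c20 LD2_c21 LD3_c40)) :=
  Lre_b IH (LK LD1_c11 LD2_c23 LD3_c49) (LK LD1_c20 LD2_c21 LD3_c40) Lrfl Lrfl
theorem f566653 : Led Lsl_cf (LP (LK LD1_c17 LD2_c54 LD3_c59)) = (LP (LK LD1_c20 LD2_c21 LD3_c40)) :=
  Lgr Lrot97 (Lpr_bt (f383896 IH) (Lpr_ct (K50.f383913 IH) (Lpe (K39.f557338 IH) (Lpr_ct (K41.f566648 IH) (Lpr_bt (f566652 IH) (Lpn (LP (LK LD1_c20 LD2_c21 LD3_c40))))))))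
theorem f281571 : Led Lsl_bt (LP (LK LD1_c10 LD2_c55 LD3_c7)) = (LP (LK LD1_c19 LD2_c43 LD3_c25)) :=
  Lre_b IH (LK LD1_c10 LD2_c55 LD3_c7) (LK LD1_c19 LD2_c43 LD3_c25) Lrfl Lrfl
theorem f615816 : Led Lsl_gf (LP (LK LD1_c19 LD2_c43 LD3_c25)) = (LP (LK LD1_c20 LD2_c21 LD3_c40)) :=
  Lgr Lrot124 (Lpe (f281571 IH) (Lpr_ct (K67.f281570 IH) (Lpr_gt (K31.f221290 IH) (Lpe (K20.f178895 IH) (Lpr_bt (K51.f280836 IH) (Lpr_gt (K41.f226031 IH) (Lpe (K41.f566607 IH) (Lpr_gt (K41.f566612 IH) (Lpr_cf (K45.f566655 IH) (Lpr_bt (f566652 IH) (Lpn (LP (LK LD1_c20 LD2_c21 LD3_c40)))))))))))))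
theorem f615820 : Led Lsl_dt (LP (LK LD1_c19 LD2_c43 LD3_c25)) = (LP (LK LD1_c29 LD2_c3 LD3_c4)) :=
  Lre_d IH (LK LD1_c19 LD2_c43 LD3_c25) (LK LD1_c29 LD2_c3 LD3_c4) Lrfl Lrfl
theorem f891698 : Led Lsl_gf (LP (LK LD1_c29 LD2_c22 LD3_c49)) = (LP (LK LD1_c29 LD2_c3 LD3_c4)) :=
  Lgr Lrot143 (Lpr_dt (f598362 IH) (Lpe (f598363 IH) (Lpr_df (f891697 IH) (Lpe (f891689 IH) (Lpe (f372426 IH) (Lpe (f551710 IH) (Lpr_cf (f566653 IH) (Lpe (f615816 IH) (Lpr_dt (f615820 IH) (Lpn (LP (LK LD1_c29 LD2_c3 LD3_c4))))))))))))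
theorem f891699 : Led Lsl_gt (LP (LK LD1_c29 LD2_c3 LD3_c4)) = (LP (LK LD1_c29 LD2_c22 LD3_c49)) :=
  Leop (Lpr_gf (f891698 IH) (Lpn (LP (LK LD1_c29 LD2_c3 LD3_c4))))
theorem seed_2139 : LEOK LG_g (LK LD1_c29 LD2_c3 LD3_c4) :=
  Leoe_g (LK LD1_c29 LD2_c3 LD3_c4) (f891699 IH)
def v37027 : LQ := Led Lsl_bt (LP (LK LD1_c8 LD2_c43 LD3_c16))
theorem f891937 : Led Lsl_bt (LP (LK LD1_c8 LD2_c43 LD3_c16)) = v37027 :=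
  Lrfl
theorem f232825 : Led Lsl_ct (LP (LK LD1_c4 LD2_c16 LD3_c49)) = (LP (LK LD1_c2 LD2_c5 LD3_c42)) :=
  Lre_c IH (LK LD1_c4 LD2_c16 LD3_c49) (LK LD1_c2 LD2_c5 LD3_c42) Lrfl Lrfl
theorem f184241 : Led Lsl_bt (LP (LK LD1_c2 LD2_c5 LD3_c43)) = (LP (LK LD1_c4 LD2_c16 LD3_c53)) :=
  Lre_b IH (LK LD1_c2 LD2_c5 LD3_c43) (LK LD1_c4 LD2_c16 LD3_c53) Lrfl Lrfl
theorem f170172 : Led Lsl_gt (LP (LK LD1_c4 LD2_c16 LD3_c53)) = (LP (LK LD1_c8 LD2_c33 LD3_c5)) :=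
  Lre_g IH (LK LD1_c4 LD2_c16 LD3_c53) (LK LD1_c8 LD2_c33 LD3_c5) Lrfl Lrfl
theorem f251836 : Led Lsl_bt (LP (LK LD1_c16 LD2_c3 LD3_c9)) = (LP (LK LD1_c8 LD2_c33 LD3_c5)) :=
  Lre_b IH (LK LD1_c16 LD2_c3 LD3_c9) (LK LD1_c8 LD2_c33 LD3_c5) Lrfl Lrfl
theorem f232264 : Led Lsl_bt (LP (LK LD1_c8 LD2_c43 LD3_c10)) = (LP (LK LD1_c4 LD2_c22 LD3_c40)) :=
  Lre_b IH (LK LD1_c8 LD2_c43 LD3_c10) (LK LD1_c4 LD2_c22 LD3_c40) Lrfl Lrfl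
theorem f232307 : Led Lsl_gt (LP (LK LD1_c8 LD2_c43 LD3_c16)) = (LP (LK LD1_c4 LD2_c22 LD3_c42)) :=
  Lre_g IH (LK LD1_c8 LD2_c43 LD3_c16) (LK LD1_c4 LD2_c22 LD3_c42) Lrfl Lrfl
theorem f251837 : Led Lsl_ct (LP (LK LD1_c16 LD2_c3 LD3_c9)) = (LP (LK LD1_c8 LD2_c43 LD3_c16)) :=
  Lgr Lrot64 (Lpr_bt (f251836 IH) (Lpe (f170172 IH) (Lpe (f184241 IH) (Lpr_ct (K14.f167767 IH) (Lpe (K14.f169423 IH) (Lpe (f232825 IH) (Lpr_gf (K17.f251830 IH) (Lpe (f232264 IH) (Lpr_ct (K51.f232265 IH) (Lpe (f232307 IH) (Lpn (LP (LK LD1_c8 LD2_c43 LD3_c16)))))))))))))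
theorem f251843 : Led Lsl_bt (LP (LK LD1_c8 LD2_c33 LD3_c5)) = (LP (LK LD1_c16 LD2_c3 LD3_c9)) :=
  Lre_b IH (LK LD1_c8 LD2_c33 LD3_c5) (LK LD1_c16 LD2_c3 LD3_c9) Lrfl Lrfl
def v36654 : LQ := Led Lsl_ct (LP (LK LD1_c8 LD2_c33 LD3_c5))
theorem f889416 : Led Lsl_ct (LP (LK LD1_c8 LD2_c33 LD3_c5)) = v36654 :=
  Lrfl
theorem f889418 : Led Lsl_cf (LP (LK LD1_c8 LD2_c33 LD3_c5)) = v36654 :=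
  Lgr Lrot11 (Lpr_ct (f889416 IH) (Lpn v36654))
theorem f889422 : Led Lsl_df K67.v36127 = v36654 :=
  Lgr Lrot162 (Lpe (K67.f882350 IH) (Lpe (K67.f182195 IH) (Lpe (f170995 IH) (Lpe (K67.f171014 IH) (Lpe (K67.f691949 IH) (Lpr_gt (K67.f170262 IH) (Lpr_ct (K50.f170171 IH) (Lpr_gt (f170172 IH) (Lpr_ct (f889416 IH) (Lpn v36654))))))))))
def v36448 : LQ := Led Lsl_at (LP (LK LD1_c8 LD2_c25 LD3_c43))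
theorem f885624 : Led Lsl_at (LP (LK LD1_c8 LD2_c25 LD3_c43)) = v36448 :=
  Lrfl
theorem f820169 : Led Lsl_df (LP (LK LD1_c8 LD2_c25 LD3_c43)) = v23735 :=
  Lgr Lrot12 (Lpr_bt (f178319 IH) (Lpqs (K64.f694846 IH) (Lpe (K50.f694834 IH) (Lpqs (f694852 IH) (Lpr_bt (f820167 IH) (Lpn v23735))))))
theorem f170192 : Led Lsl_bt (LP (LK LD1_c4 LD2_c12 LD3_c46)) = (LP (LK LD1_c8 LD2_c25 LD3_c0)) :=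
  Lre_b IH (LK LD1_c4 LD2_c12 LD3_c46) (LK LD1_c8 LD2_c25 LD3_c0) Lrfl Lrfl
theorem f820168 : Led Lsl_bf v4142 = v23735 :=
  Lgr Lrot24 (Lpr_bt (f820167 IH) (Lpn v23735))
theorem f884768 : Led Lsl_af v23735 = v36289 :=
  Lgr Lrot36 (Lpe (f820168 IH) (Lpq (f694852 IH) (Lpe (K50.f692479 IH) (Lpr_bt (f170192 IH) (Lpr_at (K67.f882353 IH) (Lpr_bt (f884767 IH) (Lpn v36289)))))))
theorem f885626 : Led Lsl_df v36289 = v36448 :=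
  Lgr Lrot18 (Lpe (f884768 IH) (Lpe (f820169 IH) (Lpr_at (f885624 IH) (Lpn v36448))))
theorem f885627 : Led Lsl_dt v36289 = v36448 :=
  Lgr Lrot42 (Lpr_df (f885626 IH) (Lpn v36448))
theorem f889426 : Led Lsl_bt v36448 = v36654 :=
  Lgr Lrot95 (Lpe (f885627 IH) (Lpe (f884767 IH) (Lpr_df (f889422 IH) (Lpn v36654))))
theorem f891940 : Led Lsl_cf v36448 = v37027 :=
  Lgr Lrot97 (Lpr_bt (f889426 IH) (Lpe (f889418 IH) (Lpr_bt (f251843 IH) (Lpr_ct (f251837 IH) (Lpr_bt (f891937 IH) (Lpn v37027))))))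
theorem f884766 : Led Lsl_cf (LP (LK LD1_c17 LD2_c38 LD3_c37)) = v36289 :=
  Lgr Lrot166 (Lpe (f417698 IH) (Lpr_dt (K39.f263799 IH) (Lpe (f620872 IH) (Lpr_dt (f178364 IH) (Lpr_ct (K52.f178363 IH) (Lpe (f718584 IH) (Lpe (K53.f692300 IH) (Lpe (f170967 IH) (Lpr_gf (f884764 IH) (Lpn v36289))))))))))
def v36282 : LQ := Led Lsl_gf (LP (LK LD1_c8 LD2_c23 LD3_c11))
theorem f884490 : Led Lsl_gf (LP (LK LD1_c8 LD2_c23 LD3_c11)) = v36282 :=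
  Lrfl
theorem f885399 : Led Lsl_dt v36282 = v36402 :=
  Lgr Lrot6 (Lpe (f884490 IH) (Lpr_ct (K66.f738711 IH) (Lpr_gt (K66.f2291 IH) (Lpr_ct (K27.f2285 IH) (Lpe (K27.f2288 IH) (Lpe (K27.f2853 IH) (Lpr_gf (f417698 IH) (Lpr_cf (f884766 IH) (Lpr_gf (f885397 IH) (Lpn v36402))))))))))
theorem f738705 : Led Lsl_af (LP (LK LD1_c16 LD2_c6 LD3_c46)) = (LP (LK LD1_c9 LD2_c39 LD3_c7)) :=
  Lgr Lrot0 (Lpr_at (K66.f738703 IH) (Lpn (LP (LK LD1_c9 LD2_c39 LD3_c7))))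
theorem f738752 : Led Lsl_af (LP (LK LD1_c8 LD2_c23 LD3_c11)) = (LP (LK LD1_c8 LD2_c35 LD3_c20)) :=
  Lgr Lrot68 (Lpr_ct (K66.f738711 IH) (Lpe (f738705 IH) (Lpr_ct (K52.f421836 IH) (Lpn (LP (LK LD1_c8 LD2_c35 LD3_c20))))))
theorem f884491 : Led Lsl_gt K53.v12463 = v36282 :=
  Lgr Lrot5 (Lpe (K54.f738529 IH) (Lpe (f738752 IH) (Lpr_gf (f884490 IH) (Lpn v36282))))
theorem f263798 : Led Lsl_gt (LP (LK LD1_c17 LD2_c45 LD3_c24)) = (LP (LK LD1_c9 LD2_c39 LD3_c9)) :=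
  Lre_g IH (LK LD1_c17 LD2_c45 LD3_c24) (LK LD1_c9 LD2_c39 LD3_c9) Lrfl Lrfl
theorem f397747 : Led Lsl_gf (LP (LK LD1_c17 LD2_c45 LD3_c24)) = (LP (LK LD1_c9 LD2_c39 LD3_c13)) :=
  Lgr Lrot47 (Lpr_gt (f263798 IH) (Lpe (K30.f397639 IH) (Lpr_ff (K30.f397738 IH) (Lpn (LP (LK LD1_c9 LD2_c39 LD3_c13))))))
theorem f891943 : Led Lsl_dt (LP (LK LD1_c17 LD2_c45 LD3_c24)) = v37027 :=
  Lgr Lrot105 (Lpr_gf (f397747 IH) (Lpe (K30.f2844 IH) (Lpr_gf (K53.f397712 IH) (Lpe (K53.f718576 IH) (Lpr_gt (f884491 IH) (Lpr_dt (f885399 IH) (Lpe (f885397 IH) (Lpr_dt (f885627 IH) (Lpr_cf (f891940 IH) (Lpn v37027))))))))))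
theorem f170324 : Led Lsl_ct (LP (LK LD1_c8 LD2_c33 LD3_c32)) = (LP (LK LD1_c4 LD2_c17 LD3_c8)) :=
  Lre_c IH (LK LD1_c8 LD2_c33 LD3_c32) (LK LD1_c4 LD2_c17 LD3_c8) Lrfl Lrfl
theorem f290196 : Led Lsl_bt (LP (LK LD1_c8 LD2_c33 LD3_c32)) = (LP (LK LD1_c16 LD2_c3 LD3_c54)) :=
  Lre_b IH (LK LD1_c8 LD2_c33 LD3_c32) (LK LD1_c16 LD2_c3 LD3_c54) Lrfl Lrfl
theorem f309117 : Led Lsl_cf (LP (LK LD1_c4 LD2_c15 LD3_c51)) = (LP (LK LD1_c5 LD2_c23 LD3_c57)) :=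
  Lgr Lrot11 (Lpr_ct (K19.f309107 IH) (Lpn (LP (LK LD1_c5 LD2_c23 LD3_c57))))
theorem f404984 : Led Lsl_gf (LP (LK LD1_c16 LD2_c3 LD3_c54)) = (LP (LK LD1_c10 LD2_c38 LD3_c30)) :=
  Lgr Lrot124 (Lpe (f290196 IH) (Lpr_ct (f170324 IH) (Lpr_gt (K67.f170262 IH) (Lpe (K27.f170251 IH) (Lpr_bt (K64.f170260 IH) (Lpr_gt (K14.f170261 IH) (Lpr_ct (K17.f290185 IH) (Lpe (K19.f259258 IH) (Lpr_cf (f309117 IH) (Lpr_bt (K19.f309114 IH) (Lpn (LP (LK LD1_c10 LD2_c38 LD3_c30)))))))))))))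
theorem f404986 : Led Lsl_gt (LP (LK LD1_c16 LD2_c3 LD3_c54)) = (LP (LK LD1_c26 LD2_c0 LD3_c20)) :=
  Lgr Lrot46 (Lpr_gf (f404984 IH) (Lpe (K19.f309280 IH) (Lpr_at (K19.f309282 IH) (Lpn (LP (LK LD1_c26 LD2_c0 LD3_c20))))))
theorem f309213 : Led Lsl_bf (LP (LK LD1_c16 LD2_c19 LD3_c56)) = (LP (LK LD1_c19 LD2_c16 LD3_c46)) :=
  Lgr Lrot81 (Lpr_at (K19.f309211 IH) (Lpr_bt (f232264 IH) (Lpr_at (K19.f309207 IH) (Lpr_bt (K19.f309114 IH) (Lpr_at (K19.f309212 IH) (Lpn (LP (LK LD1_c19 LD2_c16 LD3_c46))))))))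
theorem f309377 : Led Lsl_bt (LP (LK LD1_c19 LD2_c16 LD3_c53)) = (LP (LK LD1_c26 LD2_c0 LD3_c20)) :=
  Lgr Lrot35 (Lpr_ff (f309360 IH) (Lpr_bf (f309213 IH) (Lpe (K19.f309284 IH) (Lpn (LP (LK LD1_c26 LD2_c0 LD3_c20))))))
theorem f309379 : Led Lsl_ct (LP (LK LD1_c19 LD2_c16 LD3_c53)) = (LP (LK LD1_c14 LD2_c58 LD3_c16)) :=
  Lgr Lrot40 (Lpr_ff (f309360 IH) (Lpe (K19.f298194 IH) (Lpe (K31.f298278 IH) (Lpn (LP (LK LD1_c14 LD2_c58 LD3_c16))))))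
theorem f298289 : Led Lsl_gt (LP (LK LD1_c14 LD2_c58 LD3_c16)) = (LP (LK LD1_c8 LD2_c43 LD3_c16)) :=
  Lgr Lrot5 (Lpr_ft (K31.f298278 IH) (Lpr_at (K19.f298189 IH) (Lpe (f232307 IH) (Lpn (LP (LK LD1_c8 LD2_c43 LD3_c16))))))
theorem f406110 : Led Lsl_gf (LP (LK LD1_c8 LD2_c21 LD3_c26)) = (LP (LK LD1_c8 LD2_c33 LD3_c5)) :=
  Lgr Lrot181 (Lpr_ct (K50.f170896 IH) (Lpr_gt (K67.f406106 IH) (Lpe (f170324 IH) (Lpr_bt (f290196 IH) (Lpr_gt (f404986 IH) (Lpe (f309377 IH) (Lpr_ct (f309379 IH) (Lpr_gt (f298289 IH) (Lpe (f251837 IH) (Lpr_bt (f251836 IH) (Lpn (LP (LK LD1_c8 LD2_c33 LD3_c5)))))))))))))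
theorem f694871 : Led Lsl_ft (LP (LK LD1_c8 LD2_c33 LD3_c5)) = (LP (LK LD1_c8 LD2_c21 LD3_c24)) :=
  Lgr Lrot2 (Lpe (f406110 IH) (Lpr_gt (K64.f406165 IH) (Lpr_af (f694869 IH) (Lpn (LP (LK LD1_c8 LD2_c21 LD3_c24))))))
theorem f694877 : Led Lsl_ff (LP (LK LD1_c8 LD2_c33 LD3_c5)) = (LP (LK LD1_c8 LD2_c21 LD3_c24)) :=
  Lgr Lrot3 (Lpr_ft (f694871 IH) (Lpn (LP (LK LD1_c8 LD2_c21 LD3_c24))))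
theorem f694881 : Led Lsl_ft (LP (LK LD1_c16 LD2_c3 LD3_c9)) = (LP (LK LD1_c15 LD2_c43 LD3_c39)) :=
  Lgr Lrot75 (Lpe (f251843 IH) (Lpr_ff (f694877 IH) (Lpe (f309338 IH) (Lpn (LP (LK LD1_c15 LD2_c43 LD3_c39))))))
theorem f251844 : Led Lsl_cf (LP (LK LD1_c16 LD2_c3 LD3_c9)) = (LP (LK LD1_c8 LD2_c43 LD3_c16)) :=
  Lgr Lrot11 (Lpr_ct (f251837 IH) (Lpn (LP (LK LD1_c8 LD2_c43 LD3_c16))))
theorem f694884 : Led Lsl_ff (LP (LK LD1_c8 LD2_c43 LD3_c16)) = (LP (LK LD1_c14 LD2_c58 LD3_c15)) :=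
  Lgr Lrot23 (Lpe (f251844 IH) (Lpr_ft (f694881 IH) (Lpr_ct (f309339 IH) (Lpn (LP (LK LD1_c14 LD2_c58 LD3_c15))))))
theorem f196328 : Led Lsl_gt (LP (LK LD1_c7 LD2_c56 LD3_c8)) = (LP (LK LD1_c14 LD2_c58 LD3_c14)) :=
  Lre_g IH (LK LD1_c7 LD2_c56 LD3_c8) (LK LD1_c14 LD2_c58 LD3_c14) Lrfl Lrfl
theorem f694888 : Led Lsl_at (LP (LK LD1_c8 LD2_c43 LD3_c16)) = (LP (LK LD1_c14 LD2_c58 LD3_c14)) :=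
  Lgr Lrot26 (Lpr_ff (f694884 IH) (Lpr_gt (f196969 IH) (Lpr_gt (f196328 IH) (Lpn (LP (LK LD1_c14 LD2_c58 LD3_c14))))))
theorem f694890 : Led Lsl_af (LP (LK LD1_c8 LD2_c43 LD3_c16)) = (LP (LK LD1_c14 LD2_c58 LD3_c14)) :=
  Lgr Lrot0 (Lpr_at (f694888 IH) (Lpn (LP (LK LD1_c14 LD2_c58 LD3_c14))))
theorem f239138 : Led Lsl_bt (LP (LK LD1_c24 LD2_c45 LD3_c48)) = (LP (LK LD1_c14 LD2_c58 LD3_c14)) :=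
  Lre_b IH (LK LD1_c24 LD2_c45 LD3_c48) (LK LD1_c14 LD2_c58 LD3_c14) Lrfl Lrfl
theorem f694897 : Led Lsl_ft (LP (LK LD1_c8 LD2_c43 LD3_c15)) = (LP (LK LD1_c14 LD2_c58 LD3_c14)) :=
  Lgr Lrot2 (Lpe (f298281 IH) (Lpr_gt (f298289 IH) (Lpr_af (f694890 IH) (Lpn (LP (LK LD1_c14 LD2_c58 LD3_c14))))))
theorem f694903 : Led Lsl_ff (LP (LK LD1_c8 LD2_c43 LD3_c15)) = (LP (LK LD1_c14 LD2_c58 LD3_c14)) :=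
  Lgr Lrot3 (Lpr_ft (f694897 IH) (Lpn (LP (LK LD1_c14 LD2_c58 LD3_c14))))
theorem f619303 : Led Lsl_bt (LP (LK LD1_c8 LD2_c43 LD3_c15)) = (LP (LK LD1_c16 LD2_c20 LD3_c0)) :=
  Lre_b IH (LK LD1_c8 LD2_c43 LD3_c15) (LK LD1_c16 LD2_c20 LD3_c0) Lrfl Lrfl
theorem f694907 : Led Lsl_ft (LP (LK LD1_c16 LD2_c20 LD3_c0)) = (LP (LK LD1_c24 LD2_c45 LD3_c48)) :=
  Lgr Lrot75 (Lpe (f619303 IH) (Lpr_ff (f694903 IH) (Lpe (f239138 IH) (Lpn (LP (LK LD1_c24 LD2_c45 LD3_c48))))))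
theorem f694911 : Led Lsl_af (LP (LK LD1_c25 LD2_c45 LD3_c58)) = (LP (LK LD1_c24 LD2_c45 LD3_c48)) :=
  Lgr Lrot31 (Lpe (f399605 IH) (Lpe (f619316 IH) (Lpr_ft (f694907 IH) (Lpn (LP (LK LD1_c24 LD2_c45 LD3_c48))))))
theorem f694913 : Led Lsl_at (LP (LK LD1_c25 LD2_c45 LD3_c58)) = (LP (LK LD1_c24 LD2_c45 LD3_c48)) :=
  Lgr Lrot100 (Lpr_af (f694911 IH) (Lpn (LP (LK LD1_c24 LD2_c45 LD3_c48))))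
theorem f891938 : Led Lsl_af (LP (LK LD1_c15 LD2_c49 LD3_c56)) = v37027 :=
  Lgr Lrot36 (Lpr_bt (f399607 IH) (Lpr_at (f694913 IH) (Lpr_bt (f239138 IH) (Lpe (f694890 IH) (Lpr_bt (f891937 IH) (Lpn v37027))))))
theorem f891944 : Led Lsl_af (LP (LK LD1_c17 LD2_c45 LD3_c24)) = (LP (LK LD1_c25 LD2_c45 LD3_c59)) :=
  Lgr Lrot117 (Lpr_dt (f891943 IH) (Lpe (f891938 IH) (Lpr_dt (f820173 IH) (Lpn (LP (LK LD1_c25 LD2_c45 LD3_c59))))))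
theorem f891945 : Led Lsl_at (LP (LK LD1_c25 LD2_c45 LD3_c59)) = (LP (LK LD1_c17 LD2_c45 LD3_c24)) :=
  Leop (Lpr_af (f891944 IH) (Lpn (LP (LK LD1_c25 LD2_c45 LD3_c59))))
theorem seed_2140 : LEOK LG_a (LK LD1_c25 LD2_c45 LD3_c59) :=
  Leoe_a (LK LD1_c25 LD2_c45 LD3_c59) (f891945 IH)
theorem f891939 : Led Lsl_bf (LP (LK LD1_c8 LD2_c43 LD3_c16)) = v37027 :=
  Lgr Lrot24 (Lpr_bt (f891937 IH) (Lpn v37027))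
theorem f251846 : Led Lsl_dt (LP (LK LD1_c8 LD2_c43 LD3_c16)) = (LP (LK LD1_c16 LD2_c20 LD3_c2)) :=
  Lre_d IH (LK LD1_c8 LD2_c43 LD3_c16) (LK LD1_c16 LD2_c20 LD3_c2) Lrfl Lrfl
theorem f891946 : Led Lsl_bf (LP (LK LD1_c17 LD2_c45 LD3_c24)) = (LP (LK LD1_c16 LD2_c20 LD3_c2)) :=
  Lgr Lrot93 (Lpr_dt (f891943 IH) (Lpe (f891939 IH) (Lpr_dt (f251846 IH) (Lpn (LP (LK LD1_c16 LD2_c20 LD3_c2))))))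
theorem f891947 : Led Lsl_bt (LP (LK LD1_c16 LD2_c20 LD3_c2)) = (LP (LK LD1_c17 LD2_c45 LD3_c24)) :=
  Leop (Lpr_bf (f891946 IH) (Lpn (LP (LK LD1_c16 LD2_c20 LD3_c2))))
theorem seed_2141 : LEOK LG_b (LK LD1_c16 LD2_c20 LD3_c2) :=
  Leoe_b (LK LD1_c16 LD2_c20 LD3_c2) (f891947 IH)
theorem f891948 : Led Lsl_df (LP (LK LD1_c17 LD2_c45 LD3_c24)) = v37027 :=
  Lgr Lrot38 (Lpr_dt (f891943 IH) (Lpn v37027))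
theorem f178392 : Led Lsl_df (LP (LK LD1_c4 LD2_c12 LD3_c37)) = (LP (LK LD1_c2 LD2_c45 LD3_c55)) :=
  Lgr Lrot12 (Lpr_bt (K22.f166482 IH) (Lpr_dt (K9.f178387 IH) (Lpr_bt (K49.f170076 IH) (Lpn (LP (LK LD1_c2 LD2_c45 LD3_c55))))))
theorem f29878 : Led Lsl_dt (LP (LK LD1_c4 LD2_c51 LD3_c56)) = (LP (LK LD1_c9 LD2_c36 LD3_c7)) :=
  Lre_d IH (LK LD1_c4 LD2_c51 LD3_c56) (LK LD1_c9 LD2_c36 LD3_c7) Lrfl Lrfl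
theorem f634390 : Led Lsl_gf (LP (LK LD1_c2 LD2_c45 LD3_c55)) = K49.v4527 :=
  Lgr Lrot143 (Lpe (f178392 IH) (Lpe (K27.f166483 IH) (Lpe (K38.f166484 IH) (Lpr_gf (K49.f602127 IH) (Lpe (f29878 IH) (Lpe (K49.f2801 IH) (Lpe (K0.f2327 IH) (Lpr_gt (K13.f2343 IH) (Lpr_dt (K49.f634387 IH) (Lpn K49.v4527))))))))))
def v24066 : LQ := Led Lsl_ct K49.v4527
theorem f822300 : Led Lsl_ct K49.v4527 = v24066 :=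
  Lrfl
theorem f891955 : Led Lsl_gt v24066 = v37027 :=
  Lgr Lrot94 (Lpe (f822300 IH) (Lpe (f634390 IH) (Lpe (f178392 IH) (Lpe (K27.f263793 IH) (Lpr_dt (K27.f2288 IH) (Lpe (K27.f2285 IH) (Lpe (K30.f263797 IH) (Lpe (f263798 IH) (Lpr_df (f891948 IH) (Lpn v37027))))))))))
theorem f692456 : Led Lsl_df (LP (LK LD1_c8 LD2_c21 LD3_c4)) = K49.v12495 :=
  Lgr Lrot18 (Lpr_at (K49.f337218 IH) (Lpe (K22.f260753 IH) (Lpr_at (K49.f692453 IH) (Lpn K49.v12495))))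
theorem f891956 : Led Lsl_gt (LP (LK LD1_c9 LD2_c39 LD3_c14)) = (LP (LK LD1_c17 LD2_c38 LD3_c37)) :=
  Lgr Lrot150 (Lpe (K39.f2838 IH) (Lpe (K39.f550869 IH) (Lpr_df (f692456 IH) (Lpe (K49.f692459 IH) (Lpr_ct (f822300 IH) (Lpr_gt (f891955 IH) (Lpe (f891940 IH) (Lpe (f885627 IH) (Lpe (f884765 IH) (Lpn (LP (LK LD1_c17 LD2_c38 LD3_c37))))))))))))
theorem f891957 : Led Lsl_gt (LP (LK LD1_c9 LD2_c39 LD3_c14)) = (LP (LK LD1_c17 LD2_c38 LD3_c37)) :=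
  Leop (Lpe (f891956 IH) (Lpn (LP (LK LD1_c9 LD2_c39 LD3_c14))))
theorem seed_2142 : LEOK LG_g (LK LD1_c9 LD2_c39 LD3_c14) :=
  Leoe_g (LK LD1_c9 LD2_c39 LD3_c14) (f891957 IH)
def v37052 : LQ := Led Lsl_dt (LP (LK LD1_c8 LD2_c44 LD3_c1))
theorem f892191 : Led Lsl_dt (LP (LK LD1_c8 LD2_c44 LD3_c1)) = v37052 :=
  Lrfl
theorem f892192 : Led Lsl_df (LP (LK LD1_c8 LD2_c44 LD3_c1)) = v37052 :=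
  Lgr Lrot38 (Lpr_dt (f892191 IH) (Lpn v37052))
theorem f80614 : Led Lsl_dt (LP (LK LD1_c8 LD2_c44 LD3_c2)) = (LP (LK LD1_c4 LD2_c23 LD3_c9)) :=
  Lre_d IH (LK LD1_c8 LD2_c44 LD3_c2) (LK LD1_c4 LD2_c23 LD3_c9) Lrfl Lrfl
theorem f80613 : Led Lsl_et (LP (LK LD1_c8 LD2_c44 LD3_c2)) = (LP (LK LD1_c4 LD2_c23 LD3_c10)) :=
  Lre_e IH (LK LD1_c8 LD2_c44 LD3_c2) (LK LD1_c4 LD2_c23 LD3_c10) Lrfl Lrfl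
theorem f38072 : Led Lsl_et (LP (LK LD1_c8 LD2_c45 LD3_c18)) = (LP (LK LD1_c4 LD2_c23 LD3_c41)) :=
  Lre_e IH (LK LD1_c8 LD2_c45 LD3_c18) (LK LD1_c4 LD2_c23 LD3_c41) Lrfl Lrfl
theorem f38073 : Led Lsl_dt (LP (LK LD1_c16 LD2_c23 LD3_c22)) = (LP (LK LD1_c8 LD2_c45 LD3_c18)) :=
  Lre_d IH (LK LD1_c16 LD2_c23 LD3_c22) (LK LD1_c8 LD2_c45 LD3_c18) Lrfl Lrfl
theorem f38075 : Led Lsl_ef (LP (LK LD1_c16 LD2_c23 LD3_c22)) = (LP (LK LD1_c12 LD2_c7 LD3_c5)) :=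
  Lgr Lrot73 (Lpr_dt (f38073 IH) (Lpr_et (f38072 IH) (Lpr_dt (K37.f38071 IH) (Lpr_et (K37.f38031 IH) (Lpr_dt (K39.f38074 IH) (Lpn (LP (LK LD1_c12 LD2_c7 LD3_c5))))))))
theorem f892193 : Led Lsl_gt (LP (LK LD1_c16 LD2_c23 LD3_c22)) = v37052 :=
  Lgr Lrot137 (Lpr_ef (f38075 IH) (Lpr_dt (f38082 IH) (Lpe (K37.f38030 IH) (Lpe (K37.f38092 IH) (Lpr_et (K37.f38093 IH) (Lpe (K10.f80554 IH) (Lpe (f80613 IH) (Lpr_dt (f80614 IH) (Lpe (K47.f39216 IH) (Lpr_df (f892192 IH) (Lpn v37052)))))))))))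
theorem f38081 : Led Lsl_dt (LP (LK LD1_c8 LD2_c45 LD3_c18)) = (LP (LK LD1_c16 LD2_c23 LD3_c22)) :=
  Lre_d IH (LK LD1_c8 LD2_c45 LD3_c18) (LK LD1_c16 LD2_c23 LD3_c22) Lrfl Lrfl
theorem f892179 : Led Lsl_et (LP (LK LD1_c8 LD2_c44 LD3_c1)) = (LP (LK LD1_c16 LD2_c21 LD3_c18)) :=
  Lre_e IH (LK LD1_c8 LD2_c44 LD3_c1) (LK LD1_c16 LD2_c21 LD3_c18) Lrfl Lrfl
theorem f39223 : Led Lsl_gt (LP (LK LD1_c16 LD2_c21 LD3_c18)) = (LP (LK LD1_c26 LD2_c19 LD3_c20)) :=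
  Lre_g IH (LK LD1_c16 LD2_c21 LD3_c18) (LK LD1_c26 LD2_c19 LD3_c20) Lrfl Lrfl
theorem f892194 : Led Lsl_df (LP (LK LD1_c16 LD2_c23 LD3_c28)) = (LP (LK LD1_c26 LD2_c19 LD3_c20)) :=
  Lgr Lrot135 (Lpr_gt (K37.f16377 IH) (Lpe (K37.f38876 IH) (Lpr_et (K1.f38852 IH) (Lpr_gt (K37.f39908 IH) (Lpe (f38072 IH) (Lpr_dt (f38081 IH) (Lpr_gt (f892193 IH) (Lpe (f892191 IH) (Lpr_et (f892179 IH) (Lpr_gt (f39223 IH) (Lpn (LP (LK LD1_c26 LD2_c19 LD3_c20)))))))))))))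
theorem f892195 : Led Lsl_dt (LP (LK LD1_c26 LD2_c19 LD3_c20)) = (LP (LK LD1_c16 LD2_c23 LD3_c28)) :=
  Leop (Lpr_df (f892194 IH) (Lpn (LP (LK LD1_c26 LD2_c19 LD3_c20))))
theorem seed_2143 : LEOK LG_d (LK LD1_c26 LD2_c19 LD3_c20) :=
  Leoe_d (LK LD1_c26 LD2_c19 LD3_c20) (f892195 IH)
def v37118 : LQ := Led Lsl_ct (LP (LK LD1_c8 LD2_c45 LD3_c20))
theorem f892469 : Led Lsl_ct (LP (LK LD1_c8 LD2_c45 LD3_c20)) = v37118 :=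
  Lrfl
theorem f609812 : Led Lsl_ff (LP (LK LD1_c14 LD2_c59 LD3_c24)) = (LP (LK LD1_c8 LD2_c45 LD3_c20)) :=
  Lgr Lrot19 (Lpr_dt (K47.f418108 IH) (Lpr_ft (K47.f609807 IH) (Lpr_dt (K47.f38887 IH) (Lpn (LP (LK LD1_c8 LD2_c45 LD3_c20))))))
theorem f609866 : Led Lsl_ft (LP (LK LD1_c14 LD2_c59 LD3_c24)) = (LP (LK LD1_c8 LD2_c45 LD3_c20)) :=
  Lgr Lrot48 (Lpr_ff (f609812 IH) (Lpn (LP (LK LD1_c8 LD2_c45 LD3_c20))))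
theorem f609619 : Led Lsl_ct (LP (LK LD1_c15 LD2_c7 LD3_c1)) = (LP (LK LD1_c14 LD2_c59 LD3_c24)) :=
  Lgr Lrot15 (Lpe (K64.f29746 IH) (Lpr_cf (K64.f609617 IH) (Lpe (K47.f609605 IH) (Lpn (LP (LK LD1_c14 LD2_c59 LD3_c24))))))
theorem f892471 : Led Lsl_ff (LP (LK LD1_c15 LD2_c7 LD3_c1)) = v37118 :=
  Lgr Lrot23 (Lpr_ct (f609619 IH) (Lpr_ft (f609866 IH) (Lpr_ct (f892469 IH) (Lpn v37118))))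
theorem f892472 : Led Lsl_ft (LP (LK LD1_c15 LD2_c7 LD3_c1)) = v37118 :=
  Lgr Lrot48 (Lpr_ff (f892471 IH) (Lpn v37118))
theorem f29753 : Led Lsl_gt (LP (LK LD1_c8 LD2_c1 LD3_c39)) = (LP (LK LD1_c15 LD2_c7 LD3_c0)) :=
  Lre_g IH (LK LD1_c8 LD2_c1 LD3_c39) (LK LD1_c15 LD2_c7 LD3_c0) Lrfl Lrfl
theorem f892473 : Led Lsl_af (LP (LK LD1_c15 LD2_c7 LD3_c0)) = v37118 :=
  Lgr Lrot31 (Lpe (f29753 IH) (Lpe (K64.f29738 IH) (Lpr_ft (f892472 IH) (Lpn v37118))))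
theorem f609700 : Led Lsl_at (LP (LK LD1_c14 LD2_c59 LD3_c24)) = (LP (LK LD1_c8 LD2_c45 LD3_c21)) :=
  Lgr Lrot100 (Lpr_af (K47.f609698 IH) (Lpn (LP (LK LD1_c8 LD2_c45 LD3_c21))))
theorem f609688 : Led Lsl_ff (LP (LK LD1_c14 LD2_c59 LD3_c23)) = (LP (LK LD1_c8 LD2_c45 LD3_c21)) :=
  Lgr Lrot19 (Lpr_dt (K47.f39214 IH) (Lpr_ft (K47.f609682 IH) (Lpr_dt (K47.f38912 IH) (Lpn (LP (LK LD1_c8 LD2_c45 LD3_c21))))))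
theorem f609864 : Led Lsl_at (LP (LK LD1_c14 LD2_c59 LD3_c23)) = (LP (LK LD1_c8 LD2_c45 LD3_c20)) :=
  Lgr Lrot66 (Lpr_ff (f609688 IH) (Lpe (f609700 IH) (Lpr_ff (f609812 IH) (Lpn (LP (LK LD1_c8 LD2_c45 LD3_c20))))))
theorem f892475 : Led Lsl_ct (LP (LK LD1_c15 LD2_c7 LD3_c0)) = (LP (LK LD1_c14 LD2_c59 LD3_c23)) :=
  Lgr Lrot111 (Lpr_af (f892473 IH) (Lpe (f892469 IH) (Lpe (f609864 IH) (Lpn (LP (LK LD1_c14 LD2_c59 LD3_c23))))))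
theorem f892476 : Led Lsl_ct (LP (LK LD1_c15 LD2_c7 LD3_c0)) = (LP (LK LD1_c14 LD2_c59 LD3_c23)) :=
  Leop (Lpe (f892475 IH) (Lpn (LP (LK LD1_c15 LD2_c7 LD3_c0))))
theorem seed_2144 : LEOK LG_c (LK LD1_c15 LD2_c7 LD3_c0) :=
  Leoe_c (LK LD1_c15 LD2_c7 LD3_c0) (f892476 IH)
theorem f29754 : Led Lsl_gt (LP (LK LD1_c15 LD2_c7 LD3_c0)) = (LP (LK LD1_c9 LD2_c38 LD3_c32)) :=
  Lgr Lrot46 (Lpe (f29753 IH) (Lpr_ft (K1.f29735 IH) (Lpr_at (K1.f29736 IH) (Lpn (LP (LK LD1_c9 LD2_c38 LD3_c32))))))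
theorem f1883 : Led Lsl_gt (LP (LK LD1_c9 LD2_c36 LD3_c23)) = (LP (LK LD1_c17 LD2_c37 LD3_c8)) :=
  Lre_g IH (LK LD1_c9 LD2_c36 LD3_c23) (LK LD1_c17 LD2_c37 LD3_c8) Lrfl Lrfl
theorem f1884 : Led Lsl_dt (LP (LK LD1_c17 LD2_c37 LD3_c8)) = (LP (LK LD1_c27 LD2_c25 LD3_c25)) :=
  Lre_d IH (LK LD1_c17 LD2_c37 LD3_c8) (LK LD1_c27 LD2_c25 LD3_c25) Lrfl Lrfl
theorem f237421 : Led Lsl_df (LP (LK LD1_c26 LD2_c17 LD3_c11)) = (LP (LK LD1_c21 LD2_c10 LD3_c58)) :=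
  Lgr Lrot38 (Lpr_dt (K37.f237419 IH) (Lpn (LP (LK LD1_c21 LD2_c10 LD3_c58))))
theorem f892479 : Led Lsl_cf (LP (LK LD1_c27 LD2_c25 LD3_c25)) = (LP (LK LD1_c26 LD2_c17 LD3_c11)) :=
  Lgr Lrot14 (Lpe (f1884 IH) (Lpe (f1883 IH) (Lpr_df (K1.f2533 IH) (Lpe (f29754 IH) (Lpr_ct (f892475 IH) (Lpe (K37.f407847 IH) (Lpr_dt (K9.f16374 IH) (Lpe (K37.f101391 IH) (Lpe (f237421 IH) (Lpn (LP (LK LD1_c26 LD2_c17 LD3_c11))))))))))))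
theorem f216627 : Led Lsl_gt (LP (LK LD1_c11 LD2_c9 LD3_c47)) = (LP (LK LD1_c20 LD2_c4 LD3_c16)) :=
  Lre_g IH (LK LD1_c11 LD2_c9 LD3_c47) (LK LD1_c20 LD2_c4 LD3_c16) Lrfl Lrfl
theorem f2508 : Led Lsl_dt (LP (LK LD1_c4 LD2_c52 LD3_c1)) = (LP (LK LD1_c4 LD2_c53 LD3_c15)) :=
  Lgr Lrot42 (Lpr_df (K1.f2495 IH) (Lpn (LP (LK LD1_c4 LD2_c53 LD3_c15))))
theorem f1853 : Led Lsl_at (LP (LK LD1_c9 LD2_c34 LD3_c3)) = (LP (LK LD1_c4 LD2_c52 LD3_c1)) :=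
  Lre_a IH (LK LD1_c9 LD2_c34 LD3_c3) (LK LD1_c4 LD2_c52 LD3_c1) Lrfl Lrfl
theorem f29733 : Led Lsl_dt (LP (LK LD1_c8 LD2_c1 LD3_c39)) = (LP (LK LD1_c9 LD2_c34 LD3_c3)) :=
  Lgr Lrot44 (Lpr_af (K1.f29718 IH) (Lpe (f2508 IH) (Lpe (f1853 IH) (Lpn (LP (LK LD1_c9 LD2_c34 LD3_c3))))))
theorem f1873 : Led Lsl_gt (LP (LK LD1_c17 LD2_c37 LD3_c8)) = (LP (LK LD1_c9 LD2_c34 LD3_c3)) :=
  Lre_g IH (LK LD1_c17 LD2_c37 LD3_c8) (LK LD1_c9 LD2_c34 LD3_c3) Lrfl Lrfl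
theorem f2066 : Led Lsl_dt (LP (LK LD1_c27 LD2_c25 LD3_c25)) = (LP (LK LD1_c17 LD2_c37 LD3_c8)) :=
  Lre_d IH (LK LD1_c27 LD2_c25 LD3_c25) (LK LD1_c17 LD2_c37 LD3_c8) Lrfl Lrfl
theorem f418167 : Led Lsl_ef (LP (LK LD1_c20 LD2_c4 LD3_c16)) = (LP (LK LD1_c27 LD2_c25 LD3_c25)) :=
  Lgr Lrot17 (Lpe (f216627 IH) (Lpe (K23.f196979 IH) (Lpr_dt (K13.f179541 IH) (Lpr_gf (K13.f238917 IH) (Lpe (K13.f216813 IH) (Lpr_gf (f237725 IH) (Lpe (K1.f29263 IH) (Lpr_dt (f29733 IH) (Lpe (f1873 IH) (Lpe (f2066 IH) (Lpn (LP (LK LD1_c27 LD2_c25 LD3_c25)))))))))))))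
theorem f237423 : Led Lsl_et (LP (LK LD1_c16 LD2_c19 LD3_c20)) = (LP (LK LD1_c26 LD2_c17 LD3_c11)) :=
  Lre_e IH (LK LD1_c16 LD2_c19 LD3_c20) (LK LD1_c26 LD2_c17 LD3_c11) Lrfl Lrfl
theorem f892500 : Led Lsl_ct (LP (LK LD1_c20 LD2_c4 LD3_c16)) = (LP (LK LD1_c16 LD2_c19 LD3_c20)) :=
  Lgr Lrot15 (Lpr_ef (f418167 IH) (Lpr_cf (f892479 IH) (Lpe (f237423 IH) (Lpn (LP (LK LD1_c16 LD2_c19 LD3_c20))))))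
theorem f892502 : Led Lsl_cf (LP (LK LD1_c20 LD2_c4 LD3_c16)) = (LP (LK LD1_c16 LD2_c19 LD3_c20)) :=
  Lgr Lrot11 (Lpr_ct (f892500 IH) (Lpn (LP (LK LD1_c16 LD2_c19 LD3_c20))))
theorem f346656 : Led Lsl_gt (LP (LK LD1_c20 LD2_c4 LD3_c16)) = (LP (LK LD1_c25 LD2_c15 LD3_c49)) :=
  Lgr Lrot46 (Lpe (f216627 IH) (Lpr_ft (K23.f346646 IH) (Lpr_at (K23.f346648 IH) (Lpn (LP (LK LD1_c25 LD2_c15 LD3_c49))))))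
theorem f554577 : Led Lsl_df (LP (LK LD1_c12 LD2_c6 LD3_c28)) = (LP (LK LD1_c16 LD2_c19 LD3_c25)) :=
  Lgr Lrot38 (Lpr_dt (K39.f554558 IH) (Lpn (LP (LK LD1_c16 LD2_c19 LD3_c25))))
theorem f238993 : Led Lsl_dt (LP (LK LD1_c5 LD2_c50 LD3_c52)) = (LP (LK LD1_c8 LD2_c42 LD3_c50)) :=
  Lgr Lrot77 (Lpe (K36.f238992 IH) (Lpe (K36.f177126 IH) (Lpr_ef (K14.f238988 IH) (Lpe (K13.f210337 IH) (Lpe (K47.f238882 IH) (Lpn (LP (LK LD1_c8 LD2_c42 LD3_c50))))))))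
theorem f239071 : Led Lsl_ct (LP (LK LD1_c11 LD2_c29 LD3_c16)) = (LP (LK LD1_c20 LD2_c26 LD3_c23)) :=
  Lre_c IH (LK LD1_c11 LD2_c29 LD3_c16) (LK LD1_c20 LD2_c26 LD3_c23) Lrfl Lrfl
theorem f892504 : Led Lsl_gf (LP (LK LD1_c21 LD2_c12 LD3_c28)) = (LP (LK LD1_c20 LD2_c26 LD3_c23)) :=
  Lgr Lrot104 (Lpr_ct (K55.f81508 IH) (Lpr_df (f554577 IH) (Lpe (K23.f346708 IH) (Lpe (f346656 IH) (Lpr_cf (f892502 IH) (Lpe (K37.f237414 IH) (Lpe (f238993 IH) (Lpr_gt (K47.f239069 IH) (Lpr_ct (f239071 IH) (Lpn (LP (LK LD1_c20 LD2_c26 LD3_c23))))))))))))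
theorem f13376 : Led Lsl_gt (LP (LK LD1_c3 LD2_c44 LD3_c13)) = (LP (LK LD1_c1 LD2_c49 LD3_c9)) :=
  Lre_g IH (LK LD1_c3 LD2_c44 LD3_c13) (LK LD1_c1 LD2_c49 LD3_c9) Lrfl Lrfl
theorem f12958 : Led Lsl_ct (LP (LK LD1_c1 LD2_c49 LD3_c9)) = (LP (LK LD1_c3 LD2_c44 LD3_c11)) :=
  Lre_c IH (LK LD1_c1 LD2_c49 LD3_c9) (LK LD1_c3 LD2_c44 LD3_c11) Lrfl Lrfl
theorem f12959 : Led Lsl_gt (LP (LK LD1_c3 LD2_c44 LD3_c11)) = (LP (LK LD1_c7 LD2_c29 LD3_c15)) :=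
  Lre_g IH (LK LD1_c3 LD2_c44 LD3_c11) (LK LD1_c7 LD2_c29 LD3_c15) Lrfl Lrfl
def v21957 : LQ := Led Lsl_ct (LP (LK LD1_c7 LD2_c29 LD3_c15))
theorem f800214 : Led Lsl_ct (LP (LK LD1_c7 LD2_c29 LD3_c15)) = v21957 :=
  Lrfl
theorem f800215 : Led Lsl_cf (LP (LK LD1_c7 LD2_c29 LD3_c15)) = v21957 :=
  Lgr Lrot11 (Lpr_ct (f800214 IH) (Lpn v21957))
theorem f892510 : Led Lsl_bt v21957 = (LP (LK LD1_c20 LD2_c26 LD3_c23)) :=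
  Lgr Lrot22 (Lpe (f800215 IH) (Lpe (f12959 IH) (Lpe (f12958 IH) (Lpe (f13376 IH) (Lpe (K55.f13377 IH) (Lpe (K55.f742242 IH) (Lpr_gf (K55.f613210 IH) (Lpr_cf (K39.f159711 IH) (Lpe (K55.f159709 IH) (Lpr_gf (f892504 IH) (Lpn (LP (LK LD1_c20 LD2_c26 LD3_c23)))))))))))))
theorem f13321 : Led Lsl_bt (LP (LK LD1_c14 LD2_c8 LD3_c3)) = (LP (LK LD1_c7 LD2_c29 LD3_c15)) :=
  Lre_b IH (LK LD1_c14 LD2_c8 LD3_c3) (LK LD1_c7 LD2_c29 LD3_c15) Lrfl Lrfl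
theorem f408033 : Led Lsl_ct (LP (LK LD1_c20 LD2_c26 LD3_c23)) = (LP (LK LD1_c11 LD2_c29 LD3_c16)) :=
  Lre_c IH (LK LD1_c20 LD2_c26 LD3_c23) (LK LD1_c11 LD2_c29 LD3_c16) Lrfl Lrfl
theorem f70147 : Led Lsl_bt (LP (LK LD1_c12 LD2_c6 LD3_c28)) = (LP (LK LD1_c6 LD2_c13 LD3_c60)) :=
  Lre_b IH (LK LD1_c12 LD2_c6 LD3_c28) (LK LD1_c6 LD2_c13 LD3_c60) Lrfl Lrfl
theorem f443171 : Led Lsl_gt (LP (LK LD1_c6 LD2_c13 LD3_c60)) = (LP (LK LD1_c8 LD2_c45 LD3_c30)) :=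
  Lgr Lrot5 (Lpr_ft (K10.f69927 IH) (Lpr_at (K32.f70127 IH) (Lpe (K57.f70242 IH) (Lpn (LP (LK LD1_c8 LD2_c45 LD3_c30))))))
theorem f70250 : Led Lsl_et (LP (LK LD1_c8 LD2_c45 LD3_c30)) = (LP (LK LD1_c16 LD2_c23 LD3_c39)) :=
  Lre_e IH (LK LD1_c8 LD2_c45 LD3_c30) (LK LD1_c16 LD2_c23 LD3_c39) Lrfl Lrfl
theorem f607728 : Led Lsl_ct (LP (LK LD1_c4 LD2_c39 LD3_c39)) = (LP (LK LD1_c8 LD2_c45 LD3_c30)) :=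
  Lgr Lrot15 (Lpe (K57.f56097 IH) (Lpr_cf (K61.f607724 IH) (Lpe (f70250 IH) (Lpn (LP (LK LD1_c8 LD2_c45 LD3_c30))))))
theorem f607730 : Led Lsl_cf (LP (LK LD1_c4 LD2_c39 LD3_c39)) = (LP (LK LD1_c8 LD2_c45 LD3_c30)) :=
  Lgr Lrot11 (Lpr_ct (f607728 IH) (Lpn (LP (LK LD1_c8 LD2_c45 LD3_c30))))
theorem f69567 : Led Lsl_gt (LP (LK LD1_c6 LD2_c14 LD3_c18)) = (LP (LK LD1_c12 LD2_c7 LD3_c0)) :=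
  Lre_g IH (LK LD1_c6 LD2_c14 LD3_c18) (LK LD1_c12 LD2_c7 LD3_c0) Lrfl Lrfl
theorem f892508 : Led Lsl_bf (LP (LK LD1_c12 LD2_c7 LD3_c0)) = (LP (LK LD1_c11 LD2_c29 LD3_c16)) :=
  Lgr Lrot34 (Lpe (f69567 IH) (Lpe (K8.f60678 IH) (Lpe (K39.f69544 IH) (Lpe (K37.f56093 IH) (Lpr_cf (f607730 IH) (Lpe (f443171 IH) (Lpe (f70147 IH) (Lpr_ct (K39.f70148 IH) (Lpr_gf (f892504 IH) (Lpe (f239071 IH) (Lpn (LP (LK LD1_c11 LD2_c29 LD3_c16)))))))))))))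
theorem f892512 : Led Lsl_cf (LP (LK LD1_c14 LD2_c8 LD3_c3)) = (LP (LK LD1_c12 LD2_c7 LD3_c0)) :=
  Lgr Lrot97 (Lpr_bt (f13321 IH) (Lpr_ct (f800214 IH) (Lpr_bt (f892510 IH) (Lpr_ct (f408033 IH) (Lpe (f892508 IH) (Lpn (LP (LK LD1_c12 LD2_c7 LD3_c0))))))))
theorem f892513 : Led Lsl_ct (LP (LK LD1_c12 LD2_c7 LD3_c0)) = (LP (LK LD1_c14 LD2_c8 LD3_c3)) :=
  Leop (Lpr_cf (f892512 IH) (Lpn (LP (LK LD1_c12 LD2_c7 LD3_c0))))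
theorem seed_2145 : LEOK LG_c (LK LD1_c12 LD2_c7 LD3_c0) :=
  Leoe_c (LK LD1_c12 LD2_c7 LD3_c0) (f892513 IH)
theorem f12961 : Led Lsl_bt (LP (LK LD1_c7 LD2_c23 LD3_c41)) = (LP (LK LD1_c3 LD2_c41 LD3_c32)) :=
  Lre_b IH (LK LD1_c7 LD2_c23 LD3_c41) (LK LD1_c3 LD2_c41 LD3_c32) Lrfl Lrfl
theorem f12962 : Led Lsl_ct (LP (LK LD1_c7 LD2_c23 LD3_c41)) = (LP (LK LD1_c13 LD2_c58 LD3_c61)) :=
  Lre_c IH (LK LD1_c7 LD2_c23 LD3_c41) (LK LD1_c13 LD2_c58 LD3_c61) Lrfl Lrfl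
theorem f892514 : Led Lsl_gf (LP (LK LD1_c13 LD2_c58 LD3_c61)) = (LP (LK LD1_c12 LD2_c6 LD3_c28)) :=
  Lgr Lrot129 (Lpe (f12962 IH) (Lpr_bt (f12961 IH) (Lpr_gt (K62.f12960 IH) (Lpe (K7.f12924 IH) (Lpr_ct (f12958 IH) (Lpr_gt (f12959 IH) (Lpr_cf (f800215 IH) (Lpr_bt (f892510 IH) (Lpe (f892504 IH) (Lpr_ct (K55.f81508 IH) (Lpn (LP (LK LD1_c12 LD2_c6 LD3_c28)))))))))))))
theorem f892515 : Led Lsl_gt (LP (LK LD1_c12 LD2_c6 LD3_c28)) = (LP (LK LD1_c13 LD2_c58 LD3_c61)) :=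
  Leop (Lpr_gf (f892514 IH) (Lpn (LP (LK LD1_c12 LD2_c6 LD3_c28))))
theorem seed_2146 : LEOK LG_g (LK LD1_c12 LD2_c6 LD3_c28) :=
  Leoe_g (LK LD1_c12 LD2_c6 LD3_c28) (f892515 IH)
def v23245 : LQ := Led Lsl_gt (LP (LK LD1_c7 LD2_c49 LD3_c29))
theorem f815838 : Led Lsl_gt (LP (LK LD1_c7 LD2_c49 LD3_c29)) = v23245 :=
  Lrfl
theorem f437003 : Led Lsl_et (LP (LK LD1_c3 LD2_c53 LD3_c58)) = (LP (LK LD1_c7 LD2_c49 LD3_c29)) :=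
  Lre_e IH (LK LD1_c3 LD2_c53 LD3_c58) (LK LD1_c7 LD2_c49 LD3_c29) Lrfl Lrfl
theorem f142297 : Led Lsl_dt (LP (LK LD1_c3 LD2_c53 LD3_c58)) = (LP (LK LD1_c1 LD2_c53 LD3_c36)) :=
  Lre_d IH (LK LD1_c3 LD2_c53 LD3_c58) (LK LD1_c1 LD2_c53 LD3_c36) Lrfl Lrfl
theorem f515055 : Led Lsl_af (LP (LK LD1_c7 LD2_c9 LD3_c10)) = (LP (LK LD1_c3 LD2_c54 LD3_c20)) :=
  Lgr Lrot117 (Lpr_dt (K34.f455994 IH) (Lpr_at (K33.f515047 IH) (Lpr_dt (K29.f122782 IH) (Lpn (LP (LK LD1_c3 LD2_c54 LD3_c20))))))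
theorem f515043 : Led Lsl_ft (LP (LK LD1_c7 LD2_c9 LD3_c10)) = (LP (LK LD1_c3 LD2_c54 LD3_c23)) :=
  Lgr Lrot54 (Lpe (K64.f455999 IH) (Lpr_ff (K33.f515039 IH) (Lpe (K64.f456082 IH) (Lpn (LP (LK LD1_c3 LD2_c54 LD3_c23))))))
theorem f515620 : Led Lsl_af (LP (LK LD1_c7 LD2_c49 LD3_c31)) = (LP (LK LD1_c3 LD2_c54 LD3_c23)) :=
  Lgr Lrot45 (Lpr_ft (K33.f515600 IH) (Lpe (f515055 IH) (Lpr_ft (f515043 IH) (Lpn (LP (LK LD1_c3 LD2_c54 LD3_c23))))))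
theorem f516003 : Led Lsl_gf (LP (LK LD1_c7 LD2_c49 LD3_c31)) = (LP (LK LD1_c7 LD2_c5 LD3_c4)) :=
  Lgr Lrot76 (Lpr_af (f515620 IH) (Lpe (f515043 IH) (Lpr_gt (K64.f489736 IH) (Lpn (LP (LK LD1_c7 LD2_c5 LD3_c4))))))
theorem f489735 : Led Lsl_gt (LP (LK LD1_c13 LD2_c25 LD3_c49)) = (LP (LK LD1_c7 LD2_c5 LD3_c1)) :=
  Lre_g IH (LK LD1_c13 LD2_c25 LD3_c49) (LK LD1_c7 LD2_c5 LD3_c1) Lrfl Lrfl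
theorem f490028 : Led Lsl_dt (LP (LK LD1_c22 LD2_c45 LD3_c8)) = (LP (LK LD1_c13 LD2_c25 LD3_c49)) :=
  Lre_d IH (LK LD1_c22 LD2_c45 LD3_c8) (LK LD1_c13 LD2_c25 LD3_c49) Lrfl Lrfl
theorem f815840 : Led Lsl_et (LP (LK LD1_c22 LD2_c45 LD3_c8)) = v23245 :=
  Lgr Lrot122 (Lpr_dt (f490028 IH) (Lpr_gt (f489735 IH) (Lpe (K64.f489749 IH) (Lpr_et (K64.f489748 IH) (Lpe (f516003 IH) (Lpr_dt (K33.f460801 IH) (Lpr_gt (K33.f437669 IH) (Lpe (f142297 IH) (Lpr_et (f437003 IH) (Lpr_gt (f815838 IH) (Lpn v23245)))))))))))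
theorem f661814 : Led Lsl_ft (LP (LK LD1_c7 LD2_c23 LD3_c40)) = (LP (LK LD1_c13 LD2_c58 LD3_c58)) :=
  Lre_f IH (LK LD1_c7 LD2_c23 LD3_c40) (LK LD1_c13 LD2_c58 LD3_c58) Lrfl Lrfl
theorem f147635 : Led Lsl_dt (LP (LK LD1_c13 LD2_c58 LD3_c57)) = (LP (LK LD1_c7 LD2_c23 LD3_c40)) :=
  Lre_d IH (LK LD1_c13 LD2_c58 LD3_c57) (LK LD1_c7 LD2_c23 LD3_c40) Lrfl Lrfl
theorem f206221 : Led Lsl_ft (LP (LK LD1_c23 LD2_c25 LD3_c13)) = (LP (LK LD1_c13 LD2_c54 LD3_c48)) :=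
  Lre_f IH (LK LD1_c23 LD2_c25 LD3_c13) (LK LD1_c13 LD2_c54 LD3_c48) Lrfl Lrfl
def v23294 : LQ := Led Lsl_dt (LP (LK LD1_c7 LD2_c50 LD3_c10))
theorem f816102 : Led Lsl_dt (LP (LK LD1_c7 LD2_c50 LD3_c10)) = v23294 :=
  Lrfl
def v23293 : LQ := Led Lsl_at (LP (LK LD1_c7 LD2_c50 LD3_c10))
theorem f816094 : Led Lsl_at (LP (LK LD1_c7 LD2_c50 LD3_c10)) = v23293 :=
  Lrfl
theorem f816095 : Led Lsl_af (LP (LK LD1_c7 LD2_c50 LD3_c10)) = v23293 :=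
  Lgr Lrot0 (Lpr_at (f816094 IH) (Lpn v23293))
theorem f122919 : Led Lsl_gt (LP (LK LD1_c3 LD2_c54 LD3_c17)) = (LP (LK LD1_c7 LD2_c50 LD3_c10)) :=
  Lre_g IH (LK LD1_c3 LD2_c54 LD3_c17) (LK LD1_c7 LD2_c50 LD3_c10) Lrfl Lrfl
theorem f122922 : Led Lsl_gt (LP (LK LD1_c7 LD2_c50 LD3_c11)) = (LP (LK LD1_c3 LD2_c54 LD3_c17)) :=
  Lre_g IH (LK LD1_c7 LD2_c50 LD3_c11) (LK LD1_c3 LD2_c54 LD3_c17) Lrfl Lrfl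
theorem f816098 : Led Lsl_ft (LP (LK LD1_c7 LD2_c50 LD3_c11)) = v23293 :=
  Lgr Lrot2 (Lpr_gt (f122922 IH) (Lpr_gt (f122919 IH) (Lpr_af (f816095 IH) (Lpn v23293))))
theorem f816100 : Led Lsl_ff (LP (LK LD1_c7 LD2_c50 LD3_c11)) = v23293 :=
  Lgr Lrot3 (Lpr_ft (f816098 IH) (Lpn v23293))
theorem f13299 : Led Lsl_ct (LP (LK LD1_c7 LD2_c29 LD3_c18)) = (LP (LK LD1_c3 LD2_c44 LD3_c15)) :=
  Lre_c IH (LK LD1_c7 LD2_c29 LD3_c18) (LK LD1_c3 LD2_c44 LD3_c15) Lrfl Lrfl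
theorem f206199 : Led Lsl_et (LP (LK LD1_c3 LD2_c44 LD3_c15)) = (LP (LK LD1_c3 LD2_c41 LD3_c34)) :=
  Lgr Lrot158 (Lpe (f13299 IH) (Lpr_ef (K55.f206197 IH) (Lpe (K55.f12991 IH) (Lpn (LP (LK LD1_c3 LD2_c41 LD3_c34))))))
theorem f13030 : Led Lsl_gt (LP (LK LD1_c7 LD2_c29 LD3_c30)) = (LP (LK LD1_c14 LD2_c4 LD3_c19)) :=
  Lre_g IH (LK LD1_c7 LD2_c29 LD3_c30) (LK LD1_c14 LD2_c4 LD3_c19) Lrfl Lrfl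
theorem f123031 : Led Lsl_at (LP (LK LD1_c7 LD2_c49 LD3_c30)) = (LP (LK LD1_c3 LD2_c54 LD3_c18)) :=
  Lre_a IH (LK LD1_c7 LD2_c49 LD3_c30) (LK LD1_c3 LD2_c54 LD3_c18) Lrfl Lrfl
theorem f145314 : Led Lsl_et (LP (LK LD1_c7 LD2_c51 LD3_c23)) = (LP (LK LD1_c7 LD2_c49 LD3_c30)) :=
  Lgr Lrot123 (Lpe (K57.f123029 IH) (Lpr_ef (K6.f145310 IH) (Lpe (f123031 IH) (Lpn (LP (LK LD1_c7 LD2_c49 LD3_c30))))))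
theorem f147722 : Led Lsl_gt (LP (LK LD1_c3 LD2_c54 LD3_c15)) = (LP (LK LD1_c7 LD2_c49 LD3_c30)) :=
  Lre_g IH (LK LD1_c3 LD2_c54 LD3_c15) (LK LD1_c7 LD2_c49 LD3_c30) Lrfl Lrfl
theorem f147723 : Led Lsl_et (LP (LK LD1_c7 LD2_c50 LD3_c7)) = (LP (LK LD1_c3 LD2_c54 LD3_c15)) :=
  Lre_e IH (LK LD1_c7 LD2_c50 LD3_c7) (LK LD1_c3 LD2_c54 LD3_c15) Lrfl Lrfl
theorem f147724 : Led Lsl_df (LP (LK LD1_c14 LD2_c4 LD3_c19)) = (LP (LK LD1_c7 LD2_c50 LD3_c7)) :=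
  Lgr Lrot132 (Lpe (f13030 IH) (Lpe (K7.f12983 IH) (Lpe (K7.f12993 IH) (Lpe (K7.f147710 IH) (Lpr_dt (K7.f147712 IH) (Lpe (K7.f147711 IH) (Lpe (K7.f144618 IH) (Lpr_et (f145314 IH) (Lpe (f147722 IH) (Lpe (f147723 IH) (Lpn (LP (LK LD1_c7 LD2_c50 LD3_c7)))))))))))))
theorem f206208 : Led Lsl_dt (LP (LK LD1_c7 LD2_c49 LD3_c30)) = (LP (LK LD1_c14 LD2_c45 LD3_c52)) :=
  Lre_d IH (LK LD1_c7 LD2_c49 LD3_c30) (LK LD1_c14 LD2_c45 LD3_c52) Lrfl Lrfl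
theorem f206209 : Led Lsl_gt (LP (LK LD1_c14 LD2_c45 LD3_c52)) = (LP (LK LD1_c7 LD2_c50 LD3_c11)) :=
  Lre_g IH (LK LD1_c14 LD2_c45 LD3_c52) (LK LD1_c7 LD2_c50 LD3_c11) Lrfl Lrfl
theorem f147709 : Led Lsl_et (LP (LK LD1_c13 LD2_c54 LD3_c48)) = (LP (LK LD1_c7 LD2_c21 LD3_c32)) :=
  Lre_e IH (LK LD1_c13 LD2_c54 LD3_c48) (LK LD1_c7 LD2_c21 LD3_c32) Lrfl Lrfl
theorem f206210 : Led Lsl_df (LP (LK LD1_c7 LD2_c50 LD3_c11)) = (LP (LK LD1_c13 LD2_c54 LD3_c48)) :=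
  Lgr Lrot132 (Lpe (f206209 IH) (Lpe (f206208 IH) (Lpe (f147722 IH) (Lpe (f147723 IH) (Lpe (f147724 IH) (Lpe (f13030 IH) (Lpe (K7.f12983 IH) (Lpr_et (f206199 IH) (Lpe (K55.f13341 IH) (Lpe (f147709 IH) (Lpn (LP (LK LD1_c13 LD2_c54 LD3_c48)))))))))))))
theorem f206214 : Led Lsl_dt (LP (LK LD1_c7 LD2_c50 LD3_c11)) = (LP (LK LD1_c13 LD2_c54 LD3_c48)) :=
  Lgr Lrot42 (Lpr_df (f206210 IH) (Lpn (LP (LK LD1_c13 LD2_c54 LD3_c48))))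
theorem f206222 : Led Lsl_ft (LP (LK LD1_c13 LD2_c54 LD3_c48)) = (LP (LK LD1_c23 LD2_c25 LD3_c13)) :=
  Lre_f IH (LK LD1_c13 LD2_c54 LD3_c48) (LK LD1_c23 LD2_c25 LD3_c13) Lrfl Lrfl
theorem f816101 : Led Lsl_dt (LP (LK LD1_c23 LD2_c25 LD3_c13)) = v23293 :=
  Lgr Lrot60 (Lpe (f206222 IH) (Lpe (f206214 IH) (Lpr_ff (f816100 IH) (Lpn v23293))))
theorem f816103 : Led Lsl_af (LP (LK LD1_c23 LD2_c25 LD3_c13)) = v23294 :=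
  Lgr Lrot117 (Lpr_dt (f816101 IH) (Lpe (f816095 IH) (Lpr_dt (f816102 IH) (Lpn v23294))))
def v21636 : LQ := Led Lsl_at (LP (LK LD1_c7 LD2_c23 LD3_c40))
theorem f798308 : Led Lsl_at (LP (LK LD1_c7 LD2_c23 LD3_c40)) = v21636 :=
  Lrfl
theorem f661803 : Led Lsl_et (LP (LK LD1_c3 LD2_c41 LD3_c31)) = (LP (LK LD1_c7 LD2_c23 LD3_c40)) :=
  Lre_e IH (LK LD1_c3 LD2_c41 LD3_c31) (LK LD1_c7 LD2_c23 LD3_c40) Lrfl Lrfl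
theorem f798311 : Led Lsl_ef K62.v7181 = v21636 :=
  Lgr Lrot20 (Lpe (K62.f661799 IH) (Lpr_et (f661803 IH) (Lpr_at (f798308 IH) (Lpn v21636))))
theorem f798312 : Led Lsl_et K62.v7181 = v21636 :=
  Lgr Lrot87 (Lpr_ef (f798311 IH) (Lpn v21636))
theorem f206217 : Led Lsl_et (LP (LK LD1_c7 LD2_c21 LD3_c32)) = (LP (LK LD1_c13 LD2_c54 LD3_c48)) :=
  Lre_e IH (LK LD1_c7 LD2_c21 LD3_c32) (LK LD1_c13 LD2_c54 LD3_c48) Lrfl Lrfl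
def v21638 : LQ := Led Lsl_ft (LP (LK LD1_c7 LD2_c23 LD3_c41))
theorem f798326 : Led Lsl_ft (LP (LK LD1_c7 LD2_c23 LD3_c41)) = v21638 :=
  Lrfl
theorem f661807 : Led Lsl_bt (LP (LK LD1_c3 LD2_c41 LD3_c32)) = (LP (LK LD1_c7 LD2_c23 LD3_c41)) :=
  Lre_b IH (LK LD1_c3 LD2_c41 LD3_c32) (LK LD1_c7 LD2_c23 LD3_c41) Lrfl Lrfl
theorem f798327 : Led Lsl_bf K62.v7181 = v21638 :=
  Lgr Lrot61 (Lpe (K62.f661806 IH) (Lpr_bt (f661807 IH) (Lpr_ft (f798326 IH) (Lpn v21638))))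
theorem f29984 : Led Lsl_et (LP (LK LD1_c15 LD2_c5 LD3_c61)) = (LP (LK LD1_c8 LD2_c1 LD3_c10)) :=
  Lre_e IH (LK LD1_c15 LD2_c5 LD3_c61) (LK LD1_c8 LD2_c1 LD3_c10) Lrfl Lrfl
theorem f892518 : Led Lsl_df (LP (LK LD1_c13 LD2_c58 LD3_c61)) = (LP (LK LD1_c15 LD2_c5 LD3_c61)) :=
  Lgr Lrot168 (Lpr_gf (f892514 IH) (Lpr_df (f554577 IH) (Lpe (K23.f346680 IH) (Lpe (K61.f394640 IH) (Lpe (K61.f30115 IH) (Lpr_dt (K40.f30114 IH) (Lpr_gf (K37.f30105 IH) (Lpe (K37.f29931 IH) (Lpe (K40.f29970 IH) (Lpe (f29984 IH) (Lpn (LP (LK LD1_c15 LD2_c5 LD3_c61)))))))))))))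
theorem f35367 : Led Lsl_et (LP (LK LD1_c8 LD2_c1 LD3_c10)) = (LP (LK LD1_c15 LD2_c5 LD3_c61)) :=
  Lre_e IH (LK LD1_c8 LD2_c1 LD3_c10) (LK LD1_c15 LD2_c5 LD3_c61) Lrfl Lrfl
theorem f892524 : Led Lsl_et (LP (LK LD1_c13 LD2_c58 LD3_c61)) = (LP (LK LD1_c12 LD2_c22 LD3_c31)) :=
  Lgr Lrot71 (Lpr_df (f892518 IH) (Lpe (f35367 IH) (Lpe (K40.f29972 IH) (Lpe (K61.f35365 IH) (Lpe (K61.f607074 IH) (Lpn (LP (LK LD1_c12 LD2_c22 LD3_c31))))))))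
theorem f617434 : Led Lsl_at (LP (LK LD1_c12 LD2_c22 LD3_c31)) = (LP (LK LD1_c16 LD2_c24 LD3_c60)) :=
  Lgr Lrot51 (Lpr_df (K61.f607072 IH) (Lpe (K61.f607660 IH) (Lpr_df (K61.f617432 IH) (Lpn (LP (LK LD1_c16 LD2_c24 LD3_c60))))))
theorem f892526 : Led Lsl_af (LP (LK LD1_c13 LD2_c58 LD3_c61)) = (LP (LK LD1_c12 LD2_c6 LD3_c27)) :=
  Lgr Lrot50 (Lpr_et (f892524 IH) (Lpr_at (f617434 IH) (Lpr_et (K61.f558957 IH) (Lpn (LP (LK LD1_c12 LD2_c6 LD3_c27))))))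
theorem f554575 : Led Lsl_af (LP (LK LD1_c12 LD2_c6 LD3_c28)) = (LP (LK LD1_c16 LD2_c25 LD3_c13)) :=
  Lgr Lrot117 (Lpr_dt (K39.f554558 IH) (Lpe (K23.f346694 IH) (Lpr_dt (K37.f239220 IH) (Lpn (LP (LK LD1_c16 LD2_c25 LD3_c13))))))
theorem f210866 : Led Lsl_gt (LP (LK LD1_c8 LD2_c46 LD3_c36)) = (LP (LK LD1_c16 LD2_c25 LD3_c12)) :=
  Lre_g IH (LK LD1_c8 LD2_c46 LD3_c36) (LK LD1_c16 LD2_c25 LD3_c12) Lrfl Lrfl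
theorem f619084 : Led Lsl_gf (LP (LK LD1_c12 LD2_c6 LD3_c28)) = (LP (LK LD1_c16 LD2_c25 LD3_c12)) :=
  Lgr Lrot76 (Lpr_af (f554575 IH) (Lpe (K55.f239222 IH) (Lpr_gt (f210866 IH) (Lpn (LP (LK LD1_c16 LD2_c25 LD3_c12))))))
theorem f892668 : Led Lsl_ft (LP (LK LD1_c16 LD2_c25 LD3_c12)) = (LP (LK LD1_c12 LD2_c6 LD3_c27)) :=
  Lgr Lrot2 (Lpe (f619084 IH) (Lpe (f892514 IH) (Lpr_af (f892526 IH) (Lpn (LP (LK LD1_c12 LD2_c6 LD3_c27))))))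
theorem f892672 : Led Lsl_ff (LP (LK LD1_c16 LD2_c25 LD3_c12)) = (LP (LK LD1_c12 LD2_c6 LD3_c27)) :=
  Lgr Lrot3 (Lpr_ft (f892668 IH) (Lpn (LP (LK LD1_c12 LD2_c6 LD3_c27))))
theorem f892676 : Led Lsl_at (LP (LK LD1_c16 LD2_c25 LD3_c12)) = (LP (LK LD1_c12 LD2_c6 LD3_c26)) :=
  Lgr Lrot26 (Lpr_ff (f892672 IH) (Lpr_gt (K61.f81150 IH) (Lpr_gt (K55.f81152 IH) (Lpn (LP (LK LD1_c12 LD2_c6 LD3_c26))))))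
theorem f892530 : Led Lsl_ef (LP (LK LD1_c13 LD2_c58 LD3_c61)) = (LP (LK LD1_c12 LD2_c22 LD3_c31)) :=
  Lgr Lrot88 (Lpr_et (f892524 IH) (Lpn (LP (LK LD1_c12 LD2_c22 LD3_c31))))
theorem f798319 : Led Lsl_ct (LP (LK LD1_c13 LD2_c58 LD3_c61)) = (LP (LK LD1_c7 LD2_c23 LD3_c41)) :=
  Lre_c IH (LK LD1_c13 LD2_c58 LD3_c61) (LK LD1_c7 LD2_c23 LD3_c41) Lrfl Lrfl
theorem f798325 : Led Lsl_et (LP (LK LD1_c7 LD2_c23 LD3_c41)) = (LP (LK LD1_c13 LD2_c59 LD3_c1)) :=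
  Lre_e IH (LK LD1_c7 LD2_c23 LD3_c41) (LK LD1_c13 LD2_c59 LD3_c1) Lrfl Lrfl
theorem f892532 : Led Lsl_ct (LP (LK LD1_c13 LD2_c59 LD3_c1)) = (LP (LK LD1_c12 LD2_c22 LD3_c31)) :=
  Lgr Lrot15 (Lpe (f798325 IH) (Lpe (f798319 IH) (Lpr_ef (f892530 IH) (Lpn (LP (LK LD1_c12 LD2_c22 LD3_c31))))))
theorem f80422 : Led Lsl_ct (LP (LK LD1_c6 LD2_c24 LD3_c48)) = (LP (LK LD1_c12 LD2_c22 LD3_c32)) :=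
  Lre_c IH (LK LD1_c6 LD2_c24 LD3_c48) (LK LD1_c12 LD2_c22 LD3_c32) Lrfl Lrfl
theorem f892547 : Led Lsl_gf (LP (LK LD1_c13 LD2_c59 LD3_c1)) = (LP (LK LD1_c17 LD2_c15 LD3_c19)) :=
  Lgr Lrot147 (Lpr_ct (f892532 IH) (Lpr_gt (K61.f80399 IH) (Lpr_ct (f80422 IH) (Lpe (K46.f607053 IH) (Lpr_cf (K46.f607390 IH) (Lpe (K46.f554220 IH) (Lpr_cf (K47.f205508 IH) (Lpe (K47.f205521 IH) (Lpe (K47.f607967 IH) (Lpn (LP (LK LD1_c17 LD2_c15 LD3_c19))))))))))))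
theorem f798323 : Led Lsl_dt (LP (LK LD1_c13 LD2_c59 LD3_c1)) = (LP (LK LD1_c23 LD2_c31 LD3_c11)) :=
  Lre_d IH (LK LD1_c13 LD2_c59 LD3_c1) (LK LD1_c23 LD2_c31 LD3_c11) Lrfl Lrfl
theorem f607754 : Led Lsl_dt (LP (LK LD1_c14 LD2_c47 LD3_c25)) = (LP (LK LD1_c13 LD2_c57 LD3_c59)) :=
  Lgr Lrot42 (Lpr_df (K46.f607718 IH) (Lpn (LP (LK LD1_c13 LD2_c57 LD3_c59))))
theorem f576690 : Led Lsl_cf (LP (LK LD1_c14 LD2_c47 LD3_c24)) = (LP (LK LD1_c12 LD2_c6 LD3_c21)) :=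
  Lgr Lrot14 (Lpr_df (K47.f576683 IH) (Lpe (K47.f488287 IH) (Lpe (K39.f147299 IH) (Lpe (K37.f147284 IH) (Lpr_ct (K37.f488282 IH) (Lpr_gt (K37.f439422 IH) (Lpe (K47.f543418 IH) (Lpr_gt (K37.f205500 IH) (Lpr_dt (K47.f75737 IH) (Lpn (LP (LK LD1_c12 LD2_c6 LD3_c21))))))))))))
theorem f607806 : Led Lsl_df (LP (LK LD1_c17 LD2_c15 LD3_c19)) = (LP (LK LD1_c21 LD2_c29 LD3_c43)) :=
  Lgr Lrot43 (Lpr_ct (f201980 IH) (Lpr_dt (K32.f201982 IH) (Lpr_ct (K57.f607683 IH) (Lpr_dt (K46.f75732 IH) (Lpe (K46.f607759 IH) (Lpr_dt (f607754 IH) (Lpr_ct (K47.f607802 IH) (Lpe (K47.f607664 IH) (Lpr_ct (K47.f56648 IH) (Lpr_dt (K37.f59322 IH) (Lpe (K47.f543429 IH) (Lpr_dt (K47.f75737 IH) (Lpe (f576690 IH) (Lpr_dt (K47.f576681 IH) (Lpe (K47.f543378 IH) (Lpn (LP (LK LD1_c21 LD2_c29 LD3_c43))))))))))))))))))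
theorem f607972 : Led Lsl_gt (LP (LK LD1_c13 LD2_c55 LD3_c31)) = (LP (LK LD1_c21 LD2_c29 LD3_c43)) :=
  Lgr Lrot150 (Lpe (K39.f440147 IH) (Lpe (K46.f159689 IH) (Lpr_df (K46.f462577 IH) (Lpe (K47.f559032 IH) (Lpr_ct (K46.f487870 IH) (Lpe (K43.f560550 IH) (Lpe (f576690 IH) (Lpr_df (K47.f576683 IH) (Lpr_cf (K47.f607867 IH) (Lpn (LP (LK LD1_c21 LD2_c29 LD3_c43))))))))))))
theorem f458188 : Led Lsl_bt (LP (LK LD1_c7 LD2_c54 LD3_c30)) = (LP (LK LD1_c3 LD2_c56 LD3_c24)) :=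
  Lre_b IH (LK LD1_c7 LD2_c54 LD3_c30) (LK LD1_c3 LD2_c56 LD3_c24) Lrfl Lrfl
theorem f528183 : Led Lsl_ft (LP (LK LD1_c7 LD2_c54 LD3_c37)) = (LP (LK LD1_c7 LD2_c54 LD3_c30)) :=
  Lgr Lrot75 (Lpe (K33.f451975 IH) (Lpr_ff (K35.f528181 IH) (Lpe (f458188 IH) (Lpn (LP (LK LD1_c7 LD2_c54 LD3_c30))))))
theorem f529715 : Led Lsl_gt (LP (LK LD1_c14 LD2_c55 LD3_c15)) = (LP (LK LD1_c14 LD2_c55 LD3_c5)) :=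
  Lgr Lrot46 (Lpe (K43.f464688 IH) (Lpr_ft (f528183 IH) (Lpr_at (K47.f529586 IH) (Lpn (LP (LK LD1_c14 LD2_c55 LD3_c5))))))
theorem f529595 : Led Lsl_dt (LP (LK LD1_c14 LD2_c55 LD3_c5)) = (LP (LK LD1_c24 LD2_c42 LD3_c26)) :=
  Lre_d IH (LK LD1_c14 LD2_c55 LD3_c5) (LK LD1_c24 LD2_c42 LD3_c26) Lrfl Lrfl
theorem f892553 : Led Lsl_ct (LP (LK LD1_c23 LD2_c31 LD3_c11)) = (LP (LK LD1_c24 LD2_c42 LD3_c26)) :=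
  Lgr Lrot7 (Lpe (f798323 IH) (Lpr_gf (f892547 IH) (Lpr_df (f607806 IH) (Lpe (f607972 IH) (Lpe (K39.f440147 IH) (Lpr_gt (K43.f462206 IH) (Lpr_dt (K46.f560547 IH) (Lpr_gt (f529715 IH) (Lpr_dt (f529595 IH) (Lpn (LP (LK LD1_c24 LD2_c42 LD3_c26))))))))))))
theorem f607847 : Led Lsl_ff (LP (LK LD1_c23 LD2_c26 LD3_c8)) = (LP (LK LD1_c24 LD2_c42 LD3_c26)) :=
  Lgr Lrot3 (Lpr_ft (K47.f607843 IH) (Lpn (LP (LK LD1_c24 LD2_c42 LD3_c26))))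
theorem f892558 : Led Lsl_ff (LP (LK LD1_c23 LD2_c31 LD3_c11)) = (LP (LK LD1_c30 LD2_c2 LD3_c58)) :=
  Lgr Lrot23 (Lpr_ct (f892553 IH) (Lpe (f607847 IH) (Lpr_ct (K47.f607851 IH) (Lpn (LP (LK LD1_c30 LD2_c2 LD3_c58))))))
theorem f892538 : Led Lsl_dt (LP (LK LD1_c23 LD2_c31 LD3_c11)) = (LP (LK LD1_c13 LD2_c59 LD3_c1)) :=
  Lre_d IH (LK LD1_c23 LD2_c31 LD3_c11) (LK LD1_c13 LD2_c59 LD3_c1) Lrfl Lrfl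
theorem f798332 : Led Lsl_ft (LP (LK LD1_c13 LD2_c59 LD3_c1)) = (LP (LK LD1_c23 LD2_c31 LD3_c12)) :=
  Lre_f IH (LK LD1_c13 LD2_c59 LD3_c1) (LK LD1_c23 LD2_c31 LD3_c12) Lrfl Lrfl
theorem f892626 : Led Lsl_dt (LP (LK LD1_c23 LD2_c31 LD3_c12)) = (LP (LK LD1_c30 LD2_c2 LD3_c58)) :=
  Lgr Lrot60 (Lpe (f798332 IH) (Lpe (f892538 IH) (Lpr_ff (f892558 IH) (Lpn (LP (LK LD1_c30 LD2_c2 LD3_c58))))))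
theorem f607656 : Led Lsl_gf (LP (LK LD1_c22 LD2_c43 LD3_c19)) = (LP (LK LD1_c13 LD2_c57 LD3_c57)) :=
  Lgr Lrot147 (Lpr_ct (K47.f607544 IH) (Lpe (K47.f607550 IH) (Lpr_ct (K47.f607556 IH) (Lpe (K40.f543681 IH) (Lpr_cf (K37.f543690 IH) (Lpe (K37.f147278 IH) (Lpr_cf (K28.f147266 IH) (Lpe (K37.f147284 IH) (Lpe (K47.f147285 IH) (Lpn (LP (LK LD1_c13 LD2_c57 LD3_c57))))))))))))
theorem f607417 : Led Lsl_cf (LP (LK LD1_c21 LD2_c29 LD3_c15)) = (LP (LK LD1_c16 LD2_c31 LD3_c43)) :=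
  Lgr Lrot166 (Lpr_gt (K47.f607349 IH) (Lpr_dt (K47.f607348 IH) (Lpr_gt (K46.f607399 IH) (Lpe (K47.f560344 IH) (Lpr_ct (K46.f560391 IH) (Lpe (K37.f210848 IH) (Lpr_gf (K37.f420716 IH) (Lpe (K47.f80566 IH) (Lpe (K43.f80580 IH) (Lpn (LP (LK LD1_c16 LD2_c31 LD3_c43))))))))))))
theorem f892637 : Led Lsl_gt (LP (LK LD1_c23 LD2_c31 LD3_c12)) = (LP (LK LD1_c16 LD2_c31 LD3_c50)) :=
  Lgr Lrot146 (Lpr_dt (f892626 IH) (Lpr_gt (K47.f205572 IH) (Lpe (K47.f607861 IH) (Lpe (f607656 IH) (Lpr_ct (K47.f607544 IH) (Lpr_dt (K47.f607398 IH) (Lpr_cf (f607417 IH) (Lpe (K47.f607445 IH) (Lpe (K39.f80502 IH) (Lpn (LP (LK LD1_c16 LD2_c31 LD3_c50))))))))))))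
theorem f798328 : Led Lsl_ft (LP (LK LD1_c23 LD2_c31 LD3_c12)) = (LP (LK LD1_c13 LD2_c59 LD3_c1)) :=
  Lre_f IH (LK LD1_c23 LD2_c31 LD3_c12) (LK LD1_c13 LD2_c59 LD3_c1) Lrfl Lrfl
theorem f798349 : Led Lsl_at (LP (LK LD1_c13 LD2_c59 LD3_c1)) = (LP (LK LD1_c23 LD2_c31 LD3_c7)) :=
  Lre_a IH (LK LD1_c13 LD2_c59 LD3_c1) (LK LD1_c23 LD2_c31 LD3_c7) Lrfl Lrfl
theorem f892639 : Led Lsl_gf (LP (LK LD1_c23 LD2_c31 LD3_c7)) = (LP (LK LD1_c16 LD2_c31 LD3_c50)) :=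
  Lgr Lrot76 (Lpe (f798349 IH) (Lpe (f798328 IH) (Lpr_gt (f892637 IH) (Lpn (LP (LK LD1_c16 LD2_c31 LD3_c50))))))
theorem f892646 : Led Lsl_ct (LP (LK LD1_c23 LD2_c31 LD3_c7)) = (LP (LK LD1_c16 LD2_c24 LD3_c60)) :=
  Lgr Lrot152 (Lpr_gf (f892639 IH) (Lpr_df (K39.f543479 IH) (Lpr_gt (K39.f205633 IH) (Lpe (K39.f560415 IH) (Lpr_gt (K49.f607575 IH) (Lpe (K47.f607571 IH) (Lpr_df (K43.f560376 IH) (Lpe (K57.f70256 IH) (Lpe (K61.f70412 IH) (Lpn (LP (LK LD1_c16 LD2_c24 LD3_c60))))))))))))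
theorem f892610 : Led Lsl_et (LP (LK LD1_c13 LD2_c58 LD3_c60)) = (LP (LK LD1_c23 LD2_c31 LD3_c7)) :=
  Lre_e IH (LK LD1_c13 LD2_c58 LD3_c60) (LK LD1_c23 LD2_c31 LD3_c7) Lrfl Lrfl
theorem f892650 : Led Lsl_cf (LP (LK LD1_c13 LD2_c58 LD3_c60)) = (LP (LK LD1_c12 LD2_c6 LD3_c27)) :=
  Lgr Lrot39 (Lpr_et (f892610 IH) (Lpr_ct (f892646 IH) (Lpr_et (K61.f558957 IH) (Lpn (LP (LK LD1_c12 LD2_c6 LD3_c27))))))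
theorem f408034 : Led Lsl_at (LP (LK LD1_c5 LD2_c50 LD3_c51)) = (LP (LK LD1_c6 LD2_c25 LD3_c34)) :=
  Lgr Lrot107 (Lpe (K37.f177127 IH) (Lpr_af (K36.f407918 IH) (Lpe (K36.f205186 IH) (Lpn (LP (LK LD1_c6 LD2_c25 LD3_c34))))))
theorem f408040 : Led Lsl_af (LP (LK LD1_c5 LD2_c50 LD3_c51)) = (LP (LK LD1_c6 LD2_c25 LD3_c34)) :=
  Lgr Lrot0 (Lpr_at (f408034 IH) (Lpn (LP (LK LD1_c6 LD2_c25 LD3_c34))))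
theorem f408043 : Led Lsl_et (LP (LK LD1_c5 LD2_c50 LD3_c51)) = (LP (LK LD1_c11 LD2_c29 LD3_c15)) :=
  Lre_e IH (LK LD1_c5 LD2_c50 LD3_c51) (LK LD1_c11 LD2_c29 LD3_c15) Lrfl Lrfl
theorem f407993 : Led Lsl_et (LP (LK LD1_c12 LD2_c23 LD3_c50)) = (LP (LK LD1_c6 LD2_c25 LD3_c34)) :=
  Lre_e IH (LK LD1_c12 LD2_c23 LD3_c50) (LK LD1_c6 LD2_c25 LD3_c34) Lrfl Lrfl
theorem f408044 : Led Lsl_at (LP (LK LD1_c11 LD2_c29 LD3_c15)) = (LP (LK LD1_c12 LD2_c23 LD3_c50)) :=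
  Lgr Lrot80 (Lpe (f408043 IH) (Lpr_af (f408040 IH) (Lpe (f407993 IH) (Lpn (LP (LK LD1_c12 LD2_c23 LD3_c50))))))
theorem f607562 : Led Lsl_gf (LP (LK LD1_c21 LD2_c14 LD3_c30)) = (LP (LK LD1_c24 LD2_c42 LD3_c26)) :=
  Lgr Lrot147 (Lpe (K47.f607560 IH) (Lpr_gt (K47.f607552 IH) (Lpr_ct (K47.f607403 IH) (Lpr_df (K46.f568163 IH) (Lpe (K46.f568123 IH) (Lpe (K46.f568127 IH) (Lpe (K47.f558992 IH) (Lpe (K47.f559034 IH) (Lpe (K47.f529591 IH) (Lpn (LP (LK LD1_c24 LD2_c42 LD3_c26))))))))))))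
theorem f892560 : Led Lsl_gf (LP (LK LD1_c23 LD2_c31 LD3_c11)) = (LP (LK LD1_c26 LD2_c22 LD3_c44)) :=
  Lgr Lrot147 (Lpr_ct (f892553 IH) (Lpe (f607562 IH) (Lpe (K47.f607560 IH) (Lpe (K47.f560365 IH) (Lpr_cf (K43.f560366 IH) (Lpr_gf (K40.f205673 IH) (Lpe (K11.f205488 IH) (Lpe (K39.f205559 IH) (Lpe (K47.f205561 IH) (Lpn (LP (LK LD1_c26 LD2_c22 LD3_c44))))))))))))
theorem f798322 : Led Lsl_et (LP (LK LD1_c13 LD2_c59 LD3_c1)) = (LP (LK LD1_c7 LD2_c23 LD3_c41)) :=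
  Lre_e IH (LK LD1_c13 LD2_c59 LD3_c1) (LK LD1_c7 LD2_c23 LD3_c41) Lrfl Lrfl
def v21637 : LQ := Led Lsl_gt (LP (LK LD1_c7 LD2_c23 LD3_c41))
theorem f798315 : Led Lsl_gt (LP (LK LD1_c7 LD2_c23 LD3_c41)) = v21637 :=
  Lrfl
theorem f205562 : Led Lsl_dt (LP (LK LD1_c16 LD2_c25 LD3_c8)) = (LP (LK LD1_c26 LD2_c22 LD3_c44)) :=
  Lre_d IH (LK LD1_c16 LD2_c25 LD3_c8) (LK LD1_c26 LD2_c22 LD3_c44) Lrfl Lrfl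
theorem f541162 : Led Lsl_df (LP (LK LD1_c3 LD2_c41 LD3_c17)) = (LP (LK LD1_c6 LD2_c25 LD3_c34)) :=
  Lgr Lrot155 (Lpr_gt (K8.f147312 IH) (Lpe (K4.f116236 IH) (Lpe (K37.f439390 IH) (Lpe (K24.f439365 IH) (Lpe (K24.f159655 IH) (Lpr_cf (K36.f159649 IH) (Lpe (K8.f160665 IH) (Lpr_cf (K36.f160650 IH) (Lpr_gf (K36.f541150 IH) (Lpn (LP (LK LD1_c6 LD2_c25 LD3_c34))))))))))))
theorem f407985 : Led Lsl_et (LP (LK LD1_c6 LD2_c25 LD3_c34)) = (LP (LK LD1_c12 LD2_c23 LD3_c50)) :=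
  Lre_e IH (LK LD1_c6 LD2_c25 LD3_c34) (LK LD1_c12 LD2_c23 LD3_c50) Lrfl Lrfl
theorem f892564 : v21637 = (LP (LK LD1_c12 LD2_c23 LD3_c50)) :=
  (Llr Lrot131 (Lpe (f798315 IH) (Lpe (f798322 IH) (Lpr_dt (f798323 IH) (Lpr_gf (f892560 IH) (Lpe (f205562 IH) (Lpe (K39.f205558 IH) (Lpe (K11.f205578 IH) (Lpe (K36.f540317 IH) (Lpe (K8.f147312 IH) (Lpr_df (f541162 IH) (Lpr_et (f407985 IH) (Lpn (LP (LK LD1_c12 LD2_c23 LD3_c50))))))))))))))).symm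
theorem f798259 : Led Lsl_gt (LP (LK LD1_c13 LD2_c58 LD3_c59)) = (LP (LK LD1_c7 LD2_c23 LD3_c41)) :=
  Lre_g IH (LK LD1_c13 LD2_c58 LD3_c59) (LK LD1_c7 LD2_c23 LD3_c41) Lrfl Lrfl
theorem f892584 : Led Lsl_ff (LP (LK LD1_c11 LD2_c29 LD3_c15)) = (LP (LK LD1_c13 LD2_c58 LD3_c59)) :=
  Lgr Lrot52 (Lpr_at (f408044 IH) (Lpq (f892564 IH) (Lpe (f798315 IH) (Lpe (f798259 IH) (Lpn (LP (LK LD1_c13 LD2_c58 LD3_c59)))))))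
theorem f407984 : Led Lsl_ft (LP (LK LD1_c12 LD2_c23 LD3_c50)) = (LP (LK LD1_c21 LD2_c30 LD3_c49)) :=
  Lre_f IH (LK LD1_c12 LD2_c23 LD3_c50) (LK LD1_c21 LD2_c30 LD3_c49) Lrfl Lrfl
theorem f892587 : Led Lsl_at (LP (LK LD1_c21 LD2_c30 LD3_c49)) = (LP (LK LD1_c13 LD2_c58 LD3_c59)) :=
  Lgr Lrot66 (Lpe (f407984 IH) (Lpe (f408044 IH) (Lpr_ff (f892584 IH) (Lpn (LP (LK LD1_c13 LD2_c58 LD3_c59))))))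
theorem f408025 : Led Lsl_gt (LP (LK LD1_c12 LD2_c23 LD3_c50)) = (LP (LK LD1_c21 LD2_c30 LD3_c47)) :=
  Lre_g IH (LK LD1_c12 LD2_c23 LD3_c50) (LK LD1_c21 LD2_c30 LD3_c47) Lrfl Lrfl
theorem f892604 : Led Lsl_gt (LP (LK LD1_c21 LD2_c30 LD3_c47)) = (LP (LK LD1_c13 LD2_c58 LD3_c59)) :=
  Lgr Lrot46 (Lpe (f408025 IH) (Lpr_ft (f407984 IH) (Lpr_at (f892587 IH) (Lpn (LP (LK LD1_c13 LD2_c58 LD3_c59))))))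
theorem f661815 : Led Lsl_at (LP (LK LD1_c13 LD2_c58 LD3_c60)) = (LP (LK LD1_c7 LD2_c23 LD3_c41)) :=
  Lre_a IH (LK LD1_c13 LD2_c58 LD3_c60) (LK LD1_c7 LD2_c23 LD3_c41) Lrfl Lrfl
theorem f892606 : Led Lsl_ft (LP (LK LD1_c21 LD2_c30 LD3_c47)) = (LP (LK LD1_c13 LD2_c58 LD3_c60)) :=
  Lgr Lrot2 (Lpr_gt (f892604 IH) (Lpr_gt (f798259 IH) (Lpe (f661815 IH) (Lpn (LP (LK LD1_c13 LD2_c58 LD3_c60))))))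
theorem f892611 : Led Lsl_ff (LP (LK LD1_c21 LD2_c30 LD3_c47)) = (LP (LK LD1_c13 LD2_c58 LD3_c60)) :=
  Lgr Lrot3 (Lpr_ft (f892606 IH) (Lpn (LP (LK LD1_c13 LD2_c58 LD3_c60))))
theorem f892670 : Led Lsl_cf (LP (LK LD1_c16 LD2_c25 LD3_c12)) = (LP (LK LD1_c21 LD2_c30 LD3_c47)) :=
  Lgr Lrot108 (Lpr_ft (f892668 IH) (Lpe (f892650 IH) (Lpe (f892611 IH) (Lpn (LP (LK LD1_c21 LD2_c30 LD3_c47))))))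
theorem f892608 : Led Lsl_af (LP (LK LD1_c21 LD2_c30 LD3_c47)) = v21638 :=
  Lgr Lrot45 (Lpr_ft (f892606 IH) (Lpr_at (f661815 IH) (Lpr_ft (f798326 IH) (Lpn v21638))))
theorem f742518 : Led Lsl_ct (LP (LK LD1_c12 LD2_c6 LD3_c26)) = (LP (LK LD1_c13 LD2_c54 LD3_c45)) :=
  Lgr Lrot59 (Lpr_cf (K55.f742514 IH) (Lpn (LP (LK LD1_c13 LD2_c54 LD3_c45))))
theorem f892682 : v21638 = (LP (LK LD1_c13 LD2_c54 LD3_c45)) :=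
  (Llr Lrot68 (Lpe (f892608 IH) (Lpe (f892670 IH) (Lpr_at (f892676 IH) (Lpr_ct (f742518 IH) (Lpn (LP (LK LD1_c13 LD2_c54 LD3_c45)))))))).symm
theorem f892689 : K62.v7181 = (LP (LK LD1_c7 LD2_c21 LD3_c32)) :=
  Lefun (Lecon (Lfl_bf (f798327 IH)) (f892682 IH)) (K55.f13342 IH)
theorem f892706 : v21636 = (LP (LK LD1_c13 LD2_c54 LD3_c48)) :=
  Lefun (Lecon (f798312 IH) (f892689 IH)) (f206217 IH)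
theorem f798309 : Led Lsl_af (LP (LK LD1_c7 LD2_c23 LD3_c40)) = v21636 :=
  Lgr Lrot0 (Lpr_at (f798308 IH) (Lpn v21636))
theorem f892758 : v23294 = (LP (LK LD1_c13 LD2_c58 LD3_c58)) :=
  (Llr Lrot45 (Lpe (f816103 IH) (Lpr_ft (f206221 IH) (Lpq (f892706 IH) (Lpe (f798309 IH) (Lpr_ft (f661814 IH) (Lpn (LP (LK LD1_c13 LD2_c58 LD3_c58))))))))).symm
theorem f816104 : Led Lsl_df (LP (LK LD1_c7 LD2_c50 LD3_c10)) = v23294 :=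
  Lgr Lrot38 (Lpr_dt (f816102 IH) (Lpn v23294))
def v23295 : LQ := Led Lsl_ft (LP (LK LD1_c7 LD2_c50 LD3_c10))
theorem f816107 : Led Lsl_ft (LP (LK LD1_c7 LD2_c50 LD3_c10)) = v23295 :=
  Lrfl
theorem f892766 : (LP (LK LD1_c13 LD2_c58 LD3_c57)) = v23295 :=
  (Llr Lrot78 (Lpr_dt (f147635 IH) (Lpr_ft (f661814 IH) (Lpq (f892758 IH) (Lpe (f816104 IH) (Lpr_ft (f816107 IH) (Lpn v23295))))))).symm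
theorem f816109 : Led Lsl_ff (LP (LK LD1_c7 LD2_c50 LD3_c10)) = v23295 :=
  Lgr Lrot3 (Lpr_ft (f816107 IH) (Lpn v23295))
theorem f892794 : v23293 = v23245 :=
  (Llr Lrot26 (Lpe (f816094 IH) (Lpr_ff (f816109 IH) (Lpq (f892766 IH) (Lpr_gt (K50.f147633 IH) (Lpr_gt (f815838 IH) (Lpn v23245))))))).symm
theorem f515772 : Led Lsl_et (LP (LK LD1_c7 LD2_c50 LD3_c10)) = (LP (LK LD1_c14 LD2_c46 LD3_c54)) :=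
  Lre_e IH (LK LD1_c7 LD2_c50 LD3_c10) (LK LD1_c14 LD2_c46 LD3_c54) Lrfl Lrfl
theorem f892795 : Led Lsl_af (LP (LK LD1_c22 LD2_c45 LD3_c8)) = (LP (LK LD1_c14 LD2_c46 LD3_c54)) :=
  Lgr Lrot50 (Lpr_et (f815840 IH) (Lpq (f892794 IH) (Lpe (f816095 IH) (Lpr_et (f515772 IH) (Lpn (LP (LK LD1_c14 LD2_c46 LD3_c54)))))))
theorem f892796 : Led Lsl_at (LP (LK LD1_c14 LD2_c46 LD3_c54)) = (LP (LK LD1_c22 LD2_c45 LD3_c8)) :=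
  Leop (Lpr_af (f892795 IH) (Lpn (LP (LK LD1_c14 LD2_c46 LD3_c54))))
theorem seed_2147 : LEOK LG_a (LK LD1_c14 LD2_c46 LD3_c54) :=
  Leoe_a (LK LD1_c14 LD2_c46 LD3_c54) (f892796 IH)
theorem f892912 : Led Lsl_ct (LP (LK LD1_c14 LD2_c8 LD3_c3)) = (LP (LK LD1_c12 LD2_c7 LD3_c0)) :=
  Lgr Lrot59 (Lpr_cf (f892512 IH) (Lpn (LP (LK LD1_c12 LD2_c7 LD3_c0))))
theorem f206380 : Led Lsl_gf (LP (LK LD1_c6 LD2_c32 LD3_c4)) = (LP (LK LD1_c7 LD2_c29 LD3_c15)) :=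
  Lgr Lrot76 (Lpr_af (K54.f206365 IH) (Lpe (K54.f206206 IH) (Lpr_gt (f12959 IH) (Lpn (LP (LK LD1_c7 LD2_c29 LD3_c15))))))
theorem f206390 : Led Lsl_ct (LP (LK LD1_c7 LD2_c29 LD3_c24)) = (LP (LK LD1_c3 LD2_c44 LD3_c13)) :=
  Lre_c IH (LK LD1_c7 LD2_c29 LD3_c24) (LK LD1_c3 LD2_c44 LD3_c13) Lrfl Lrfl
theorem f206391 : Led Lsl_bt (LP (LK LD1_c7 LD2_c29 LD3_c24)) = (LP (LK LD1_c14 LD2_c8 LD3_c29)) :=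
  Lre_b IH (LK LD1_c7 LD2_c29 LD3_c24) (LK LD1_c14 LD2_c8 LD3_c29) Lrfl Lrfl
theorem f69580 : Led Lsl_ct (LP (LK LD1_c12 LD2_c6 LD3_c61)) = (LP (LK LD1_c6 LD2_c14 LD3_c18)) :=
  Lre_c IH (LK LD1_c12 LD2_c6 LD3_c61) (LK LD1_c6 LD2_c14 LD3_c18) Lrfl Lrfl
theorem f892916 : Led Lsl_gt (LP (LK LD1_c14 LD2_c8 LD3_c29)) = (LP (LK LD1_c9 LD2_c14 LD3_c48)) :=
  Lgr Lrot164 (Lpe (f206391 IH) (Lpr_ct (f206390 IH) (Lpe (K55.f206385 IH) (Lpe (K54.f206374 IH) (Lpr_gf (f206380 IH) (Lpe (f13321 IH) (Lpr_ct (f892912 IH) (Lpe (f69567 IH) (Lpe (f69580 IH) (Lpr_bt (K8.f69565 IH) (Lpn (LP (LK LD1_c9 LD2_c14 LD3_c48)))))))))))))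
theorem f56174 : Led Lsl_gt (LP (LK LD1_c4 LD2_c39 LD3_c37)) = (LP (LK LD1_c9 LD2_c14 LD3_c49)) :=
  Lre_g IH (LK LD1_c4 LD2_c39 LD3_c37) (LK LD1_c9 LD2_c14 LD3_c49) Lrfl Lrfl
theorem f69592 : Led Lsl_ct (LP (LK LD1_c17 LD2_c9 LD3_c9)) = (LP (LK LD1_c9 LD2_c14 LD3_c49)) :=
  Lre_c IH (LK LD1_c17 LD2_c9 LD3_c9) (LK LD1_c9 LD2_c14 LD3_c49) Lrfl Lrfl
theorem f892923 : Led Lsl_bf K64.v24499 = (LP (LK LD1_c17 LD2_c9 LD3_c9)) :=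
  Lgr Lrot156 (Lpe (K64.f823983 IH) (Lpe (K54.f22649 IH) (Lpr_ct (K54.f206374 IH) (Lpr_gt (K55.f206385 IH) (Lpe (f206390 IH) (Lpr_bt (f206391 IH) (Lpr_gt (f892916 IH) (Lpr_ct (K8.f56156 IH) (Lpr_gt (f56174 IH) (Lpe (f69592 IH) (Lpn (LP (LK LD1_c17 LD2_c9 LD3_c9)))))))))))))
theorem f824004 : Led Lsl_cf K55.v4780 = K64.v24499 :=
  Lgr Lrot11 (Lpr_ct (K64.f823985 IH) (Lpn K64.v24499))
theorem f613168 : Led Lsl_ct (LP (LK LD1_c11 LD2_c17 LD3_c25)) = (LP (LK LD1_c20 LD2_c13 LD3_c36)) :=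
  Lre_c IH (LK LD1_c11 LD2_c17 LD3_c25) (LK LD1_c20 LD2_c13 LD3_c36) Lrfl Lrfl
def v15619 : LQ := Led Lsl_gt (LP (LK LD1_c5 LD2_c43 LD3_c52))
theorem f738331 : Led Lsl_gt (LP (LK LD1_c5 LD2_c43 LD3_c52)) = v15619 :=
  Lrfl
theorem f823986 : Led Lsl_bf v15619 = K55.v4780 :=
  Lgr Lrot34 (Lpe (f738331 IH) (Lpe (K55.f381938 IH) (Lpr_ct (f613168 IH) (Lpe (K55.f613165 IH) (Lpr_cf (K55.f742224 IH) (Lpe (K55.f742222 IH) (Lpe (K55.f379987 IH) (Lpr_ct (K64.f613762 IH) (Lpr_gf (K64.f823983 IH) (Lpe (K64.f823985 IH) (Lpn K55.v4780)))))))))))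
theorem f56175 : Led Lsl_ct (LP (LK LD1_c9 LD2_c14 LD3_c49)) = (LP (LK LD1_c17 LD2_c9 LD3_c9)) :=
  Lre_c IH (LK LD1_c9 LD2_c14 LD3_c49) (LK LD1_c17 LD2_c9 LD3_c9) Lrfl Lrfl
theorem f69569 : Led Lsl_bt (LP (LK LD1_c17 LD2_c9 LD3_c8)) = (LP (LK LD1_c9 LD2_c14 LD3_c49)) :=
  Lre_b IH (LK LD1_c17 LD2_c9 LD3_c8) (LK LD1_c9 LD2_c14 LD3_c49) Lrfl Lrfl
theorem f892925 : Led Lsl_ct v15619 = (LP (LK LD1_c17 LD2_c9 LD3_c8)) :=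
  Lgr Lrot83 (Lpr_bf (f823986 IH) (Lpr_cf (f824004 IH) (Lpr_bf (f892923 IH) (Lpe (f56175 IH) (Lpe (f69569 IH) (Lpn (LP (LK LD1_c17 LD2_c9 LD3_c8))))))))
theorem f412090 : Led Lsl_bt (LP (LK LD1_c16 LD2_c53 LD3_c33)) = (LP (LK LD1_c9 LD2_c2 LD3_c54)) :=
  Lre_b IH (LK LD1_c16 LD2_c53 LD3_c33) (LK LD1_c9 LD2_c2 LD3_c54) Lrfl Lrfl
theorem f824001 : Led Lsl_ft v15619 = (LP (LK LD1_c16 LD2_c53 LD3_c33)) :=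
  Lgr Lrot75 (Lpr_bf (f823986 IH) (Lpr_ff (K55.f738184 IH) (Lpqs (K55.f741348 IH) (Lpe (f412090 IH) (Lpn (LP (LK LD1_c16 LD2_c53 LD3_c33)))))))
theorem f824002 : Led Lsl_ff v15619 = (LP (LK LD1_c16 LD2_c53 LD3_c33)) :=
  Lgr Lrot3 (Lpr_ft (f824001 IH) (Lpn (LP (LK LD1_c16 LD2_c53 LD3_c33))))
theorem f542559 : Led Lsl_dt (LP (LK LD1_c11 LD2_c17 LD3_c49)) = (LP (LK LD1_c5 LD2_c43 LD3_c53)) :=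
  Lre_d IH (LK LD1_c11 LD2_c17 LD3_c49) (LK LD1_c5 LD2_c43 LD3_c53) Lrfl Lrfl
theorem f74628 : Led Lsl_ct (LP (LK LD1_c2 LD2_c48 LD3_c2)) = (LP (LK LD1_c5 LD2_c44 LD3_c6)) :=
  Lre_c IH (LK LD1_c2 LD2_c48 LD3_c2) (LK LD1_c5 LD2_c44 LD3_c6) Lrfl Lrfl
theorem f74629 : Led Lsl_gt (LP (LK LD1_c5 LD2_c44 LD3_c6)) = (LP (LK LD1_c11 LD2_c18 LD3_c15)) :=
  Lre_g IH (LK LD1_c5 LD2_c44 LD3_c6) (LK LD1_c11 LD2_c18 LD3_c15) Lrfl Lrfl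
theorem f386637 : Led Lsl_dt (LP (LK LD1_c11 LD2_c18 LD3_c15)) = (LP (LK LD1_c20 LD2_c14 LD3_c37)) :=
  Lre_d IH (LK LD1_c11 LD2_c18 LD3_c15) (LK LD1_c20 LD2_c14 LD3_c37) Lrfl Lrfl
theorem f740257 : Led Lsl_gt (LP (LK LD1_c20 LD2_c14 LD3_c37)) = (LP (LK LD1_c20 LD2_c49 LD3_c4)) :=
  Lgr Lrot49 (Lpe (f386637 IH) (Lpe (f74629 IH) (Lpe (f74628 IH) (Lpr_gt (K51.f382410 IH) (Lpr_dt (K55.f382413 IH) (Lpr_gt (K55.f740253 IH) (Lpr_dt (K41.f641664 IH) (Lpe (K41.f641660 IH) (Lpe (K41.f641658 IH) (Lpn (LP (LK LD1_c20 LD2_c49 LD3_c4))))))))))))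
theorem f386622 : Led Lsl_et (LP (LK LD1_c2 LD2_c48 LD3_c1)) = (LP (LK LD1_c5 LD2_c44 LD3_c6)) :=
  Lre_e IH (LK LD1_c2 LD2_c48 LD3_c1) (LK LD1_c5 LD2_c44 LD3_c6) Lrfl Lrfl
theorem f386632 : Led Lsl_et (LP (LK LD1_c11 LD2_c6 LD3_c26)) = (LP (LK LD1_c19 LD2_c59 LD3_c55)) :=
  Lre_e IH (LK LD1_c11 LD2_c6 LD3_c26) (LK LD1_c19 LD2_c59 LD3_c55) Lrfl Lrfl
theorem f740377 : Led Lsl_gf (LP (LK LD1_c19 LD2_c59 LD3_c55)) = (LP (LK LD1_c16 LD2_c53 LD3_c32)) :=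
  Lgr Lrot141 (Lpe (f386632 IH) (Lpe (K39.f382455 IH) (Lpr_gt (K39.f140406 IH) (Lpe (K40.f140401 IH) (Lpr_et (f386622 IH) (Lpr_gt (f74629 IH) (Lpr_dt (f386637 IH) (Lpr_gt (f740257 IH) (Lpe (K41.f641659 IH) (Lpe (K55.f644655 IH) (Lpn (LP (LK LD1_c16 LD2_c53 LD3_c32)))))))))))))
theorem f552471 : Led Lsl_cf (LP (LK LD1_c11 LD2_c24 LD3_c34)) = (LP (LK LD1_c19 LD2_c59 LD3_c55)) :=
  Lgr Lrot39 (Lpr_et (K44.f552470 IH) (Lpr_ct (K39.f552449 IH) (Lpr_et (f386632 IH) (Lpn (LP (LK LD1_c19 LD2_c59 LD3_c55))))))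
theorem f558286 : Led Lsl_cf (LP (LK LD1_c12 LD2_c11 LD3_c1)) = (LP (LK LD1_c16 LD2_c28 LD3_c24)) :=
  Lgr Lrot39 (Lpr_et (K44.f450480 IH) (Lpr_ct (K40.f558280 IH) (Lpr_et (K45.f420412 IH) (Lpn (LP (LK LD1_c16 LD2_c28 LD3_c24))))))
theorem f420414 : Led Lsl_gt (LP (LK LD1_c26 LD2_c25 LD3_c30)) = (LP (LK LD1_c16 LD2_c28 LD3_c24)) :=
  Lre_g IH (LK LD1_c26 LD2_c25 LD3_c30) (LK LD1_c16 LD2_c28 LD3_c24) Lrfl Lrfl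
theorem f745185 : Led Lsl_cf (LP (LK LD1_c26 LD2_c25 LD3_c30)) = (LP (LK LD1_c16 LD2_c53 LD3_c33)) :=
  Lgr Lrot169 (Lpr_gt (f420414 IH) (Lpe (f558286 IH) (Lpe (K44.f558345 IH) (Lpr_cf (f552471 IH) (Lpr_gf (f740377 IH) (Lpe (K55.f412048 IH) (Lpq (K55.f740259 IH) (Lpe (K55.f738329 IH) (Lpe (f542559 IH) (Lpr_gt (K55.f745181 IH) (Lpn (LP (LK LD1_c16 LD2_c53 LD3_c33)))))))))))))
theorem f745187 : Led Lsl_ct (LP (LK LD1_c26 LD2_c25 LD3_c30)) = (LP (LK LD1_c16 LD2_c53 LD3_c33)) :=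
  Lgr Lrot59 (Lpr_cf (f745185 IH) (Lpn (LP (LK LD1_c16 LD2_c53 LD3_c33))))
theorem f892928 : Led Lsl_ff (LP (LK LD1_c26 LD2_c25 LD3_c30)) = (LP (LK LD1_c17 LD2_c9 LD3_c8)) :=
  Lgr Lrot23 (Lpr_ct (f745187 IH) (Lpe (f824002 IH) (Lpr_ct (f892925 IH) (Lpn (LP (LK LD1_c17 LD2_c9 LD3_c8))))))
theorem f892929 : Led Lsl_ft (LP (LK LD1_c17 LD2_c9 LD3_c8)) = (LP (LK LD1_c26 LD2_c25 LD3_c30)) :=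
  Leop (Lpr_ff (f892928 IH) (Lpn (LP (LK LD1_c17 LD2_c9 LD3_c8))))
theorem seed_2148 : LEOK LG_f (LK LD1_c17 LD2_c9 LD3_c8) :=
  Leoe_f (LK LD1_c17 LD2_c9 LD3_c8) (f892929 IH)
def v37122 : LQ := Led Lsl_dt (LP (LK LD1_c8 LD2_c45 LD3_c30))
theorem f893067 : Led Lsl_dt (LP (LK LD1_c8 LD2_c45 LD3_c30)) = v37122 :=
  Lrfl
theorem f893069 : Led Lsl_df (LP (LK LD1_c8 LD2_c45 LD3_c30)) = v37122 :=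
  Lgr Lrot38 (Lpr_dt (f893067 IH) (Lpn v37122))
theorem f70162 : Led Lsl_dt (LP (LK LD1_c8 LD2_c45 LD3_c31)) = (LP (LK LD1_c4 LD2_c23 LD3_c50)) :=
  Lre_d IH (LK LD1_c8 LD2_c45 LD3_c31) (LK LD1_c4 LD2_c23 LD3_c50) Lrfl Lrfl
theorem f538819 : Led Lsl_et (LP (LK LD1_c4 LD2_c0 LD3_c1)) = (LP (LK LD1_c8 LD2_c1 LD3_c6)) :=
  Lre_e IH (LK LD1_c4 LD2_c0 LD3_c1) (LK LD1_c8 LD2_c1 LD3_c6) Lrfl Lrfl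
theorem f407892 : Led Lsl_gt (LP (LK LD1_c8 LD2_c1 LD3_c6)) = (LP (LK LD1_c15 LD2_c5 LD3_c49)) :=
  Lre_g IH (LK LD1_c8 LD2_c1 LD3_c6) (LK LD1_c15 LD2_c5 LD3_c49) Lrfl Lrfl
theorem f893074 : Led Lsl_ef (LP (LK LD1_c15 LD2_c5 LD3_c49)) = v37122 :=
  Lgr Lrot17 (Lpe (f407892 IH) (Lpe (f538819 IH) (Lpr_dt (K35.f3007 IH) (Lpe (K39.f3010 IH) (Lpe (K39.f3019 IH) (Lpr_gf (K39.f538854 IH) (Lpe (K2.f69996 IH) (Lpr_dt (f70162 IH) (Lpe (K57.f70242 IH) (Lpr_df (f893069 IH) (Lpn v37122)))))))))))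
theorem f893071 : Led Lsl_gt (LP (LK LD1_c16 LD2_c24 LD3_c11)) = v37122 :=
  Lgr Lrot112 (Lpe (K47.f35889 IH) (Lpr_et (K61.f35890 IH) (Lpe (K46.f420666 IH) (Lpe (K37.f210837 IH) (Lpr_dt (K37.f75722 IH) (Lpr_gf (K46.f205544 IH) (Lpe (K46.f59756 IH) (Lpr_gf (K57.f607720 IH) (Lpe (f70250 IH) (Lpr_dt (f893067 IH) (Lpn v37122)))))))))))
theorem f617396 : Led Lsl_ff (LP (LK LD1_c8 LD2_c45 LD3_c29)) = (LP (LK LD1_c6 LD2_c13 LD3_c58)) :=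
  Lgr Lrot23 (Lpe (K65.f445185 IH) (Lpr_ft (K55.f617394 IH) (Lpe (K47.f607997 IH) (Lpn (LP (LK LD1_c6 LD2_c13 LD3_c58))))))
theorem f70172 : Led Lsl_dt (LP (LK LD1_c12 LD2_c6 LD3_c31)) = (LP (LK LD1_c6 LD2_c13 LD3_c58)) :=
  Lre_d IH (LK LD1_c12 LD2_c6 LD3_c31) (LK LD1_c6 LD2_c13 LD3_c58) Lrfl Lrfl
theorem f617594 : Led Lsl_ft (LP (LK LD1_c16 LD2_c23 LD3_c38)) = (LP (LK LD1_c12 LD2_c6 LD3_c31)) :=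
  Lgr Lrot54 (Lpe (K46.f35882 IH) (Lpr_ff (f617396 IH) (Lpe (f70172 IH) (Lpn (LP (LK LD1_c12 LD2_c6 LD3_c31))))))
theorem f893072 : Led Lsl_at (LP (LK LD1_c12 LD2_c6 LD3_c31)) = v37122 :=
  Lgr Lrot26 (Lpe (f617594 IH) (Lpr_gt (K46.f35888 IH) (Lpr_gt (f893071 IH) (Lpn v37122))))
theorem f80410 : Led Lsl_et (LP (LK LD1_c21 LD2_c12 LD3_c33)) = (LP (LK LD1_c12 LD2_c6 LD3_c31)) :=
  Lre_e IH (LK LD1_c21 LD2_c12 LD3_c33) (LK LD1_c12 LD2_c6 LD3_c31) Lrfl Lrfl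
theorem f893075 : Led Lsl_at (LP (LK LD1_c15 LD2_c5 LD3_c49)) = (LP (LK LD1_c21 LD2_c12 LD3_c33)) :=
  Lgr Lrot80 (Lpr_ef (f893074 IH) (Lpe (f893072 IH) (Lpe (f80410 IH) (Lpn (LP (LK LD1_c21 LD2_c12 LD3_c33))))))
theorem f893076 : Led Lsl_at (LP (LK LD1_c15 LD2_c5 LD3_c49)) = (LP (LK LD1_c21 LD2_c12 LD3_c33)) :=
  Leop (Lpe (f893075 IH) (Lpn (LP (LK LD1_c15 LD2_c5 LD3_c49))))
theorem seed_2149 : LEOK LG_a (LK LD1_c15 LD2_c5 LD3_c49) :=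
  Leoe_a (LK LD1_c15 LD2_c5 LD3_c49) (f893076 IH)
def v37124 : LQ := Led Lsl_bt (LP (LK LD1_c8 LD2_c45 LD3_c36))
theorem f893093 : Led Lsl_bt (LP (LK LD1_c8 LD2_c45 LD3_c36)) = v37124 :=
  Lrfl
theorem f81451 : Led Lsl_bt (LP (LK LD1_c12 LD2_c6 LD3_c53)) = (LP (LK LD1_c6 LD2_c14 LD3_c12)) :=
  Lre_b IH (LK LD1_c12 LD2_c6 LD3_c53) (LK LD1_c6 LD2_c14 LD3_c12) Lrfl Lrfl
theorem f893097 : Led Lsl_ff (LP (LK LD1_c12 LD2_c6 LD3_c53)) = v37124 :=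
  Lgr Lrot25 (Lpr_bt (f81451 IH) (Lpr_ft (K47.f606972 IH) (Lpr_bt (f893093 IH) (Lpn v37124))))
theorem f467126 : Led Lsl_dt (LP (LK LD1_c7 LD2_c6 LD3_c47)) = (LP (LK LD1_c3 LD2_c32 LD3_c55)) :=
  Lre_d IH (LK LD1_c7 LD2_c6 LD3_c47) (LK LD1_c3 LD2_c32 LD3_c55) Lrfl Lrfl
theorem f608605 : Led Lsl_gf (LP (LK LD1_c13 LD2_c28 LD3_c43)) = (LP (LK LD1_c16 LD2_c24 LD3_c38)) :=
  Lgr Lrot141 (Lpe (K47.f467128 IH) (Lpr_dt (f467126 IH) (Lpr_gt (K29.f467124 IH) (Lpe (K34.f88570 IH) (Lpr_et (K34.f97137 IH) (Lpr_gt (K43.f575907 IH) (Lpr_dt (K41.f70524 IH) (Lpr_gt (K35.f70502 IH) (Lpe (K39.f70492 IH) (Lpr_et (K39.f70517 IH) (Lpn (LP (LK LD1_c16 LD2_c24 LD3_c38)))))))))))))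
theorem f519183 : Led Lsl_af (LP (LK LD1_c13 LD2_c28 LD3_c43)) = (LP (LK LD1_c7 LD2_c9 LD3_c41)) :=
  Lgr Lrot0 (Lpr_at (K47.f519181 IH) (Lpn (LP (LK LD1_c7 LD2_c9 LD3_c41))))
theorem f519230 : Led Lsl_ft (LP (LK LD1_c13 LD2_c33 LD3_c55)) = (LP (LK LD1_c7 LD2_c9 LD3_c41)) :=
  Lre_f IH (LK LD1_c13 LD2_c33 LD3_c55) (LK LD1_c7 LD2_c9 LD3_c41) Lrfl Lrfl
theorem f608607 : Led Lsl_gt (LP (LK LD1_c13 LD2_c33 LD3_c55)) = (LP (LK LD1_c16 LD2_c24 LD3_c38)) :=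
  Lgr Lrot5 (Lpr_ft (f519230 IH) (Lpe (f519183 IH) (Lpr_gf (f608605 IH) (Lpn (LP (LK LD1_c16 LD2_c24 LD3_c38))))))
theorem f70523 : Led Lsl_et (LP (LK LD1_c8 LD2_c46 LD3_c18)) = (LP (LK LD1_c4 LD2_c24 LD3_c20)) :=
  Lre_e IH (LK LD1_c8 LD2_c46 LD3_c18) (LK LD1_c4 LD2_c24 LD3_c20) Lrfl Lrfl
theorem f81041 : Led Lsl_gt (LP (LK LD1_c8 LD2_c46 LD3_c5)) = (LP (LK LD1_c16 LD2_c24 LD3_c19)) :=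
  Lre_g IH (LK LD1_c8 LD2_c46 LD3_c5) (LK LD1_c16 LD2_c24 LD3_c19) Lrfl Lrfl
theorem f608632 : Led Lsl_et (LP (LK LD1_c22 LD2_c56 LD3_c58)) = (LP (LK LD1_c16 LD2_c24 LD3_c19)) :=
  Lgr Lrot122 (Lpr_dt (K47.f519247 IH) (Lpr_gt (f608607 IH) (Lpe (K39.f70494 IH) (Lpr_et (f70523 IH) (Lpr_gt (K6.f70442 IH) (Lpr_dt (K6.f70487 IH) (Lpr_gt (K4.f59627 IH) (Lpe (K5.f81057 IH) (Lpr_et (K6.f81052 IH) (Lpr_gt (f81041 IH) (Lpn (LP (LK LD1_c16 LD2_c24 LD3_c19)))))))))))))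
theorem f608638 : Led Lsl_ef (LP (LK LD1_c22 LD2_c56 LD3_c58)) = (LP (LK LD1_c16 LD2_c24 LD3_c19)) :=
  Lgr Lrot88 (Lpr_et (f608632 IH) (Lpn (LP (LK LD1_c16 LD2_c24 LD3_c19))))
theorem f59783 : Led Lsl_et (LP (LK LD1_c21 LD2_c12 LD3_c61)) = (LP (LK LD1_c12 LD2_c6 LD3_c53)) :=
  Lre_e IH (LK LD1_c21 LD2_c12 LD3_c61) (LK LD1_c12 LD2_c6 LD3_c53) Lrfl Lrfl
theorem f608641 : Led Lsl_at (LP (LK LD1_c12 LD2_c6 LD3_c53)) = (LP (LK LD1_c16 LD2_c24 LD3_c19)) :=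
  Lgr Lrot80 (Lpe (f59783 IH) (Lpr_af (K46.f606817 IH) (Lpr_ef (f608638 IH) (Lpn (LP (LK LD1_c16 LD2_c24 LD3_c19))))))
theorem f893101 : Led Lsl_gf (LP (LK LD1_c8 LD2_c46 LD3_c5)) = v37124 :=
  Lgr Lrot47 (Lpr_gt (f81041 IH) (Lpe (f608641 IH) (Lpr_ff (f893097 IH) (Lpn v37124))))
theorem f56371 : Led Lsl_ct (LP (LK LD1_c9 LD2_c14 LD3_c52)) = (LP (LK LD1_c17 LD2_c9 LD3_c15)) :=
  Lre_c IH (LK LD1_c9 LD2_c14 LD3_c52) (LK LD1_c17 LD2_c9 LD3_c15) Lrfl Lrfl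
theorem f893103 : Led Lsl_gt (LP (LK LD1_c12 LD2_c9 LD3_c34)) = (LP (LK LD1_c17 LD2_c9 LD3_c15)) :=
  Lgr Lrot65 (Lpe (K5.f81042 IH) (Lpe (K5.f81026 IH) (Lpr_gf (f893101 IH) (Lpe (f893093 IH) (Lpe (K64.f606962 IH) (Lpr_gf (K43.f443825 IH) (Lpe (f69552 IH) (Lpe (K2.f56367 IH) (Lpe (K55.f56369 IH) (Lpr_ct (f56371 IH) (Lpn (LP (LK LD1_c17 LD2_c9 LD3_c15)))))))))))))
theorem f893104 : Led Lsl_gt (LP (LK LD1_c12 LD2_c9 LD3_c34)) = (LP (LK LD1_c17 LD2_c9 LD3_c15)) :=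
  Leop (Lpe (f893103 IH) (Lpn (LP (LK LD1_c12 LD2_c9 LD3_c34))))
theorem seed_2150 : LEOK LG_g (LK LD1_c12 LD2_c9 LD3_c34) :=
  Leoe_g (LK LD1_c12 LD2_c9 LD3_c34) (f893104 IH)
theorem f659358 : Led Lsl_dt (LP (LK LD1_c7 LD2_c12 LD3_c42)) = K62.v6904 :=
  Lgr Lrot42 (Lpr_df (K62.f659357 IH) (Lpn K62.v6904))
theorem f660976 : Led Lsl_gt K62.v6904 = K47.v7098 :=
  Lgr Lrot5 (Lpe (K62.f659360 IH) (Lpr_at (K41.f530764 IH) (Lpr_gf (K47.f660975 IH) (Lpn K47.v7098))))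
def v20828 : LQ := Led Lsl_gf (LP (LK LD1_c7 LD2_c5 LD3_c44))
theorem f790286 : Led Lsl_gf (LP (LK LD1_c7 LD2_c5 LD3_c44)) = v20828 :=
  Lrfl
theorem f660973 : Led Lsl_ef (LP (LK LD1_c3 LD2_c38 LD3_c57)) = K47.v7098 :=
  Lgr Lrot88 (Lpr_et (K47.f660970 IH) (Lpn K47.v7098))
theorem f790288 : Led Lsl_dt K47.v7098 = v20828 :=
  Lgr Lrot136 (Lpe (f660973 IH) (Lpe (K29.f475144 IH) (Lpe (K29.f475106 IH) (Lpr_dt (K29.f456836 IH) (Lpe (K34.f511852 IH) (Lpe (K34.f511821 IH) (Lpr_gf (K33.f511715 IH) (Lpr_ef (K28.f466579 IH) (Lpr_dt (K34.f97398 IH) (Lpr_gf (f790286 IH) (Lpn v20828)))))))))))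
theorem f790290 : Led Lsl_df K47.v7098 = v20828 :=
  Lgr Lrot38 (Lpr_dt (f790288 IH) (Lpn v20828))
theorem f893105 : Led Lsl_et v20828 = v37124 :=
  Lgr Lrot185 (Lpe (f790290 IH) (Lpe (f660976 IH) (Lpe (f659358 IH) (Lpe (K43.f94498 IH) (Lpe (K61.f108409 IH) (Lpr_dt (K40.f108572 IH) (Lpe (K36.f540414 IH) (Lpe (K5.f81057 IH) (Lpr_et (K6.f81052 IH) (Lpr_gf (f893101 IH) (Lpn v37124)))))))))))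
theorem f893106 : Led Lsl_ef v20828 = v37124 :=
  Lgr Lrot88 (Lpr_et (f893105 IH) (Lpn v37124))
theorem f108389 : Led Lsl_et (LP (LK LD1_c7 LD2_c12 LD3_c45)) = (LP (LK LD1_c13 LD2_c39 LD3_c9)) :=
  Lre_e IH (LK LD1_c7 LD2_c12 LD3_c45) (LK LD1_c13 LD2_c39 LD3_c9) Lrfl Lrfl
theorem f75781 : Led Lsl_gt (LP (LK LD1_c8 LD2_c46 LD3_c22)) = (LP (LK LD1_c4 LD2_c24 LD3_c22)) :=
  Lre_g IH (LK LD1_c8 LD2_c46 LD3_c22) (LK LD1_c4 LD2_c24 LD3_c22) Lrfl Lrfl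
theorem f544386 : Led Lsl_gf (LP (LK LD1_c8 LD2_c46 LD3_c22)) = (LP (LK LD1_c13 LD2_c39 LD3_c9)) :=
  Lgr Lrot47 (Lpr_gt (f75781 IH) (Lpe (K46.f202840 IH) (Lpr_ff (K37.f544378 IH) (Lpn (LP (LK LD1_c13 LD2_c39 LD3_c9))))))
theorem f544393 : Led Lsl_et (LP (LK LD1_c16 LD2_c24 LD3_c52)) = (LP (LK LD1_c8 LD2_c46 LD3_c22)) :=
  Lre_e IH (LK LD1_c16 LD2_c24 LD3_c52) (LK LD1_c8 LD2_c46 LD3_c22) Lrfl Lrfl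
theorem f606906 : Led Lsl_bt (LP (LK LD1_c12 LD2_c6 LD3_c54)) = (LP (LK LD1_c21 LD2_c12 LD3_c60)) :=
  Lre_b IH (LK LD1_c12 LD2_c6 LD3_c54) (LK LD1_c21 LD2_c12 LD3_c60) Lrfl Lrfl
theorem f606890 : Led Lsl_ft (LP (LK LD1_c21 LD2_c11 LD3_c56)) = (LP (LK LD1_c13 LD2_c33 LD3_c9)) :=
  Lgr Lrot48 (Lpr_ff (K47.f606886 IH) (Lpn (LP (LK LD1_c13 LD2_c33 LD3_c9))))
theorem f560965 : Led Lsl_dt (LP (LK LD1_c13 LD2_c33 LD3_c9)) = (LP (LK LD1_c22 LD2_c55 LD3_c47)) :=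
  Lre_d IH (LK LD1_c13 LD2_c33 LD3_c9) (LK LD1_c22 LD2_c55 LD3_c47) Lrfl Lrfl
theorem f606892 : Led Lsl_ff (LP (LK LD1_c21 LD2_c13 LD3_c1)) = (LP (LK LD1_c22 LD2_c55 LD3_c47)) :=
  Lgr Lrot19 (Lpr_dt (K47.f59764 IH) (Lpr_ft (f606890 IH) (Lpr_dt (f560965 IH) (Lpn (LP (LK LD1_c22 LD2_c55 LD3_c47))))))
theorem f518775 : Led Lsl_bt (LP (LK LD1_c13 LD2_c33 LD3_c22)) = (LP (LK LD1_c22 LD2_c55 LD3_c47)) :=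
  Lre_b IH (LK LD1_c13 LD2_c33 LD3_c22) (LK LD1_c22 LD2_c55 LD3_c47) Lrfl Lrfl
theorem f518868 : Led Lsl_ft (LP (LK LD1_c22 LD2_c56 LD3_c11)) = (LP (LK LD1_c13 LD2_c33 LD3_c22)) :=
  Lre_f IH (LK LD1_c22 LD2_c56 LD3_c11) (LK LD1_c13 LD2_c33 LD3_c22) Lrfl Lrfl
theorem f606896 : Led Lsl_bt (LP (LK LD1_c21 LD2_c13 LD3_c1)) = (LP (LK LD1_c22 LD2_c56 LD3_c11)) :=
  Lgr Lrot35 (Lpr_ff (f606892 IH) (Lpe (f518775 IH) (Lpe (f518868 IH) (Lpn (LP (LK LD1_c22 LD2_c56 LD3_c11))))))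
theorem f59789 : Led Lsl_bt (LP (LK LD1_c21 LD2_c12 LD3_c60)) = (LP (LK LD1_c12 LD2_c6 LD3_c54)) :=
  Lre_b IH (LK LD1_c21 LD2_c12 LD3_c60) (LK LD1_c12 LD2_c6 LD3_c54) Lrfl Lrfl
theorem f606898 : Led Lsl_ef (LP (LK LD1_c21 LD2_c12 LD3_c60)) = (LP (LK LD1_c22 LD2_c56 LD3_c11)) :=
  Lgr Lrot29 (Lpr_bt (f59789 IH) (Lpr_et (K47.f59770 IH) (Lpr_bt (f606896 IH) (Lpn (LP (LK LD1_c22 LD2_c56 LD3_c11))))))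
theorem f482455 : Led Lsl_et (LP (LK LD1_c7 LD2_c9 LD3_c25)) = (LP (LK LD1_c13 LD2_c33 LD3_c22)) :=
  Lre_e IH (LK LD1_c7 LD2_c9 LD3_c25) (LK LD1_c13 LD2_c33 LD3_c22) Lrfl Lrfl
theorem f476411 : Led Lsl_et (LP (LK LD1_c13 LD2_c49 LD3_c27)) = (LP (LK LD1_c7 LD2_c18 LD3_c20)) :=
  Lre_e IH (LK LD1_c13 LD2_c49 LD3_c27) (LK LD1_c7 LD2_c18 LD3_c20) Lrfl Lrfl
theorem f606904 : Led Lsl_ft (LP (LK LD1_c21 LD2_c12 LD3_c60)) = (LP (LK LD1_c13 LD2_c49 LD3_c27)) :=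
  Lgr Lrot86 (Lpr_ef (f606898 IH) (Lpe (K43.f518778 IH) (Lpe (f482455 IH) (Lpe (K47.f518880 IH) (Lpe (f476411 IH) (Lpn (LP (LK LD1_c13 LD2_c49 LD3_c27))))))))
theorem f606978 : Led Lsl_bt (LP (LK LD1_c13 LD2_c49 LD3_c27)) = (LP (LK LD1_c16 LD2_c23 LD3_c48)) :=
  Lgr Lrot35 (Lpe (f606904 IH) (Lpe (f606906 IH) (Lpr_ff (K47.f606974 IH) (Lpn (LP (LK LD1_c16 LD2_c23 LD3_c48))))))
theorem f893096 : Led Lsl_df (LP (LK LD1_c13 LD2_c49 LD3_c27)) = v37124 :=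
  Lgr Lrot12 (Lpr_bt (f606978 IH) (Lpr_dt (K46.f81162 IH) (Lpr_bt (f893093 IH) (Lpn v37124))))
theorem f481611 : Led Lsl_gt (LP (LK LD1_c23 LD2_c18 LD3_c34)) = (LP (LK LD1_c13 LD2_c49 LD3_c27)) :=
  Lre_g IH (LK LD1_c23 LD2_c18 LD3_c34) (LK LD1_c13 LD2_c49 LD3_c27) Lrfl Lrfl
theorem f893107 : Led Lsl_dt (LP (LK LD1_c16 LD2_c24 LD3_c52)) = (LP (LK LD1_c23 LD2_c18 LD3_c34)) :=
  Lgr Lrot136 (Lpr_et (f544393 IH) (Lpr_gf (f544386 IH) (Lpe (f108389 IH) (Lpr_dt (K24.f108375 IH) (Lpr_gf (K28.f108462 IH) (Lpe (K34.f98582 IH) (Lpr_gf (f790286 IH) (Lpr_ef (f893106 IH) (Lpe (f893096 IH) (Lpe (f481611 IH) (Lpn (LP (LK LD1_c23 LD2_c18 LD3_c34)))))))))))))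
theorem f893108 : Led Lsl_dt (LP (LK LD1_c16 LD2_c24 LD3_c52)) = (LP (LK LD1_c23 LD2_c18 LD3_c34)) :=
  Leop (Lpe (f893107 IH) (Lpn (LP (LK LD1_c16 LD2_c24 LD3_c52))))
theorem seed_2151 : LEOK LG_d (LK LD1_c16 LD2_c24 LD3_c52) :=
  Leoe_d (LK LD1_c16 LD2_c24 LD3_c52) (f893108 IH)
def v37134 : LQ := Led Lsl_et (LP (LK LD1_c8 LD2_c45 LD3_c54))
theorem f893164 : Led Lsl_et (LP (LK LD1_c8 LD2_c45 LD3_c54)) = v37134 :=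
  Lrfl
theorem f893166 : Led Lsl_ef (LP (LK LD1_c8 LD2_c45 LD3_c54)) = v37134 :=
  Lgr Lrot88 (Lpr_et (f893164 IH) (Lpn v37134))
theorem f210856 : Led Lsl_bt (LP (LK LD1_c8 LD2_c45 LD3_c54)) = (LP (LK LD1_c4 LD2_c24 LD3_c4)) :=
  Lre_b IH (LK LD1_c8 LD2_c45 LD3_c54) (LK LD1_c4 LD2_c24 LD3_c4) Lrfl Lrfl
theorem f893167 : Led Lsl_bt (LP (LK LD1_c8 LD2_c45 LD3_c56)) = v37134 :=
  Lgr Lrot119 (Lpe (K61.f80336 IH) (Lpe (f210856 IH) (Lpr_ef (f893166 IH) (Lpn v37134))))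
theorem f80334 : Led Lsl_dt (LP (LK LD1_c8 LD2_c39 LD3_c8)) = (LP (LK LD1_c8 LD2_c45 LD3_c56)) :=
  Lgr Lrot42 (Lpr_df (f80328 IH) (Lpn (LP (LK LD1_c8 LD2_c45 LD3_c56))))
theorem f31979 : Led Lsl_bt (LP (LK LD1_c16 LD2_c12 LD3_c21)) = (LP (LK LD1_c8 LD2_c39 LD3_c8)) :=
  Lre_b IH (LK LD1_c16 LD2_c12 LD3_c21) (LK LD1_c8 LD2_c39 LD3_c8) Lrfl Lrfl
theorem f893168 : Led Lsl_df (LP (LK LD1_c16 LD2_c12 LD3_c21)) = v37134 :=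
  Lgr Lrot12 (Lpr_bt (f31979 IH) (Lpr_dt (f80334 IH) (Lpr_bt (f893167 IH) (Lpn v37134))))
theorem f763687 : Led Lsl_af (LP (LK LD1_c13 LD2_c40 LD3_c38)) = (LP (LK LD1_c22 LD2_c28 LD3_c37)) :=
  Lgr Lrot31 (Lpe (K47.f559024 IH) (Lpe (K55.f608441 IH) (Lpr_ft (K64.f763681 IH) (Lpn (LP (LK LD1_c22 LD2_c28 LD3_c37))))))
theorem f763669 : Led Lsl_af (LP (LK LD1_c21 LD2_c29 LD3_c60)) = (LP (LK LD1_c22 LD2_c29 LD3_c3)) :=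
  Lgr Lrot0 (Lpr_at (K64.f763667 IH) (Lpn (LP (LK LD1_c22 LD2_c29 LD3_c3))))
theorem f763691 : Led Lsl_ft (LP (LK LD1_c13 LD2_c40 LD3_c38)) = (LP (LK LD1_c22 LD2_c29 LD3_c3)) :=
  Lgr Lrot101 (Lpr_af (f763687 IH) (Lpe (K64.f763681 IH) (Lpr_af (f763669 IH) (Lpn (LP (LK LD1_c22 LD2_c29 LD3_c3))))))
theorem f70208 : Led Lsl_dt (LP (LK LD1_c14 LD2_c59 LD3_c29)) = (LP (LK LD1_c7 LD2_c56 LD3_c45)) :=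
  Lre_d IH (LK LD1_c14 LD2_c59 LD3_c29) (LK LD1_c7 LD2_c56 LD3_c45) Lrfl Lrfl
theorem f617749 : Led Lsl_bf (LP (LK LD1_c14 LD2_c59 LD3_c29)) = (LP (LK LD1_c22 LD2_c29 LD3_c3)) :=
  Lgr Lrot93 (Lpr_dt (f70208 IH) (Lpe (K55.f617728 IH) (Lpr_dt (K55.f617743 IH) (Lpn (LP (LK LD1_c22 LD2_c29 LD3_c3))))))
theorem f763693 : Led Lsl_ff (LP (LK LD1_c8 LD2_c45 LD3_c58)) = (LP (LK LD1_c14 LD2_c59 LD3_c29)) :=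
  Lgr Lrot25 (Lpe (K47.f558998 IH) (Lpr_ft (f763691 IH) (Lpe (f617749 IH) (Lpn (LP (LK LD1_c14 LD2_c59 LD3_c29))))))
theorem f607583 : Led Lsl_df (LP (LK LD1_c14 LD2_c2 LD3_c0)) = (LP (LK LD1_c21 LD2_c14 LD3_c34)) :=
  Lgr Lrot38 (Lpr_dt (K47.f607581 IH) (Lpn (LP (LK LD1_c21 LD2_c14 LD3_c34))))
theorem f763697 : Led Lsl_at (LP (LK LD1_c8 LD2_c45 LD3_c58)) = (LP (LK LD1_c14 LD2_c59 LD3_c32)) :=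
  Lgr Lrot33 (Lpr_ff (f763693 IH) (Lpr_dt (f70208 IH) (Lpr_ct (K40.f561093 IH) (Lpr_dt (K43.f70244 IH) (Lpr_ct (K57.f70256 IH) (Lpe (K43.f560376 IH) (Lpr_ct (K47.f607569 IH) (Lpe (f607583 IH) (Lpe (K57.f558932 IH) (Lpn (LP (LK LD1_c14 LD2_c59 LD3_c32))))))))))))
theorem f763701 : Led Lsl_af (LP (LK LD1_c7 LD2_c7 LD3_c2)) = (LP (LK LD1_c13 LD2_c29 LD3_c13)) :=
  Lgr Lrot50 (Lpr_et (K46.f558996 IH) (Lpr_at (f763697 IH) (Lpr_et (K40.f558927 IH) (Lpn (LP (LK LD1_c13 LD2_c29 LD3_c13))))))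
theorem f763703 : Led Lsl_at (LP (LK LD1_c7 LD2_c7 LD3_c2)) = (LP (LK LD1_c13 LD2_c29 LD3_c13)) :=
  Lgr Lrot100 (Lpr_af (f763701 IH) (Lpn (LP (LK LD1_c13 LD2_c29 LD3_c13))))
theorem f763777 : Led Lsl_af (LP (LK LD1_c7 LD2_c53 LD3_c57)) = (LP (LK LD1_c7 LD2_c25 LD3_c15)) :=
  Lgr Lrot68 (Lpe (K46.f470575 IH) (Lpr_at (f763703 IH) (Lpr_ct (K28.f465125 IH) (Lpn (LP (LK LD1_c7 LD2_c25 LD3_c15))))))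
theorem f763779 : Led Lsl_at (LP (LK LD1_c14 LD2_c53 LD3_c56)) = (LP (LK LD1_c14 LD2_c2 LD3_c0)) :=
  Lgr Lrot80 (Lpe (K47.f462586 IH) (Lpr_af (f763777 IH) (Lpe (K47.f439635 IH) (Lpn (LP (LK LD1_c14 LD2_c2 LD3_c0))))))
theorem f763781 : Led Lsl_ff (LP (LK LD1_c14 LD2_c53 LD3_c56)) = (LP (LK LD1_c14 LD2_c55 LD3_c4)) :=
  Lgr Lrot52 (Lpr_at (f763779 IH) (Lpr_gf (K57.f607589 IH) (Lpe (K61.f451968 IH) (Lpn (LP (LK LD1_c14 LD2_c55 LD3_c4))))))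
theorem f451969 : Led Lsl_bt (LP (LK LD1_c24 LD2_c42 LD3_c25)) = (LP (LK LD1_c14 LD2_c55 LD3_c4)) :=
  Lre_b IH (LK LD1_c24 LD2_c42 LD3_c25) (LK LD1_c14 LD2_c55 LD3_c4) Lrfl Lrfl
theorem f763783 : Led Lsl_ft (LP (LK LD1_c24 LD2_c40 LD3_c47)) = (LP (LK LD1_c24 LD2_c42 LD3_c25)) :=
  Lgr Lrot75 (Lpe (K64.f462601 IH) (Lpr_ff (f763781 IH) (Lpe (f451969 IH) (Lpn (LP (LK LD1_c24 LD2_c42 LD3_c25))))))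
theorem f462580 : Led Lsl_bt (LP (LK LD1_c24 LD2_c40 LD3_c47)) = (LP (LK LD1_c14 LD2_c53 LD3_c56)) :=
  Lre_b IH (LK LD1_c24 LD2_c40 LD3_c47) (LK LD1_c14 LD2_c53 LD3_c56) Lrfl Lrfl
theorem f462581 : Led Lsl_dt (LP (LK LD1_c23 LD2_c26 LD3_c13)) = (LP (LK LD1_c24 LD2_c40 LD3_c47)) :=
  Lgr Lrot79 (Lpe (K46.f462579 IH) (Lpr_df (K46.f462577 IH) (Lpe (f462580 IH) (Lpn (LP (LK LD1_c24 LD2_c40 LD3_c47))))))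
theorem f608356 : Led Lsl_df (LP (LK LD1_c14 LD2_c55 LD3_c4)) = (LP (LK LD1_c21 LD2_c14 LD3_c33)) :=
  Lgr Lrot38 (Lpr_dt (K61.f608280 IH) (Lpn (LP (LK LD1_c21 LD2_c14 LD3_c33))))
theorem f608367 : Led Lsl_bt (LP (LK LD1_c14 LD2_c55 LD3_c4)) = (LP (LK LD1_c24 LD2_c42 LD3_c25)) :=
  Lre_b IH (LK LD1_c14 LD2_c55 LD3_c4) (LK LD1_c24 LD2_c42 LD3_c25) Lrfl Lrfl
theorem f608372 : Led Lsl_dt (LP (LK LD1_c24 LD2_c42 LD3_c25)) = (LP (LK LD1_c29 LD2_c55 LD3_c20)) :=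
  Lgr Lrot79 (Lpe (f608367 IH) (Lpr_df (f608356 IH) (Lpe (K47.f608277 IH) (Lpn (LP (LK LD1_c29 LD2_c55 LD3_c20))))))
theorem f763785 : Led Lsl_ff (LP (LK LD1_c23 LD2_c26 LD3_c13)) = (LP (LK LD1_c29 LD2_c55 LD3_c20)) :=
  Lgr Lrot19 (Lpr_dt (f462581 IH) (Lpr_ft (f763783 IH) (Lpr_dt (f608372 IH) (Lpn (LP (LK LD1_c29 LD2_c55 LD3_c20))))))
theorem f608271 : Led Lsl_gf (LP (LK LD1_c30 LD2_c40 LD3_c9)) = (LP (LK LD1_c29 LD2_c55 LD3_c20)) :=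
  Lgr Lrot76 (Lpr_af (K34.f533290 IH) (Lpe (K34.f532989 IH) (Lpr_gt (K47.f608189 IH) (Lpn (LP (LK LD1_c29 LD2_c55 LD3_c20))))))
theorem f763791 : Led Lsl_at (LP (LK LD1_c23 LD2_c26 LD3_c13)) = (LP (LK LD1_c23 LD2_c38 LD3_c36)) :=
  Lgr Lrot26 (Lpr_ff (f763785 IH) (Lpe (f608271 IH) (Lpr_gt (K55.f534438 IH) (Lpn (LP (LK LD1_c23 LD2_c38 LD3_c36))))))
theorem f439419 : Led Lsl_ct (LP (LK LD1_c31 LD2_c3 LD3_c4)) = (LP (LK LD1_c23 LD2_c26 LD3_c13)) :=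
  Lre_c IH (LK LD1_c31 LD2_c3 LD3_c4) (LK LD1_c23 LD2_c26 LD3_c13) Lrfl Lrfl
theorem f763797 : Led Lsl_af (LP (LK LD1_c31 LD2_c3 LD3_c4)) = (LP (LK LD1_c31 LD2_c2 LD3_c2)) :=
  Lgr Lrot68 (Lpr_ct (f439419 IH) (Lpr_at (f763791 IH) (Lpr_ct (K37.f533711 IH) (Lpn (LP (LK LD1_c31 LD2_c2 LD3_c2))))))
theorem f763801 : Led Lsl_ft (LP (LK LD1_c31 LD2_c7 LD3_c49)) = (LP (LK LD1_c31 LD2_c2 LD3_c2)) :=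
  Lgr Lrot2 (Lpr_gt (K39.f533705 IH) (Lpe (K46.f535175 IH) (Lpr_af (f763797 IH) (Lpn (LP (LK LD1_c31 LD2_c2 LD3_c2))))))
theorem f763807 : Led Lsl_ff (LP (LK LD1_c31 LD2_c7 LD3_c49)) = (LP (LK LD1_c31 LD2_c2 LD3_c2)) :=
  Lgr Lrot3 (Lpr_ft (f763801 IH) (Lpn (LP (LK LD1_c31 LD2_c2 LD3_c2))))
theorem f543658 : Led Lsl_ct (LP (LK LD1_c31 LD2_c7 LD3_c49)) = (LP (LK LD1_c31 LD2_c1 LD3_c59)) :=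
  Lgr Lrot59 (Lpr_cf (K39.f543656 IH) (Lpn (LP (LK LD1_c31 LD2_c1 LD3_c59))))
theorem f763809 : Led Lsl_ft (LP (LK LD1_c31 LD2_c1 LD3_c59)) = (LP (LK LD1_c23 LD2_c38 LD3_c36)) :=
  Lgr Lrot4 (Lpe (f543658 IH) (Lpr_ff (f763807 IH) (Lpe (K37.f533711 IH) (Lpn (LP (LK LD1_c23 LD2_c38 LD3_c36))))))
theorem f763819 : Led Lsl_ff (LP (LK LD1_c23 LD2_c38 LD3_c22)) = (LP (LK LD1_c14 LD2_c5 LD3_c23)) :=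
  Lgr Lrot25 (Lpr_bt (K39.f543662 IH) (Lpr_ft (f763809 IH) (Lpr_bt (K37.f439643 IH) (Lpn (LP (LK LD1_c14 LD2_c5 LD3_c23))))))
theorem f763825 : Led Lsl_at (LP (LK LD1_c23 LD2_c38 LD3_c22)) = (LP (LK LD1_c14 LD2_c5 LD3_c22)) :=
  Lgr Lrot26 (Lpr_ff (f763819 IH) (Lpr_gt (K37.f159665 IH) (Lpr_gt (K33.f464364 IH) (Lpn (LP (LK LD1_c14 LD2_c5 LD3_c22))))))
theorem f763831 : Led Lsl_af (LP (LK LD1_c23 LD2_c41 LD3_c57)) = (LP (LK LD1_c23 LD2_c38 LD3_c34)) :=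
  Lgr Lrot68 (Lpe (K39.f543673 IH) (Lpr_at (f763825 IH) (Lpr_ct (K33.f464365 IH) (Lpn (LP (LK LD1_c23 LD2_c38 LD3_c34))))))
theorem f763839 : Led Lsl_ft (LP (LK LD1_c23 LD2_c41 LD3_c58)) = (LP (LK LD1_c23 LD2_c38 LD3_c34)) :=
  Lgr Lrot2 (Lpr_gt (K39.f116181 IH) (Lpr_gt (K39.f463240 IH) (Lpr_af (f763831 IH) (Lpn (LP (LK LD1_c23 LD2_c38 LD3_c34))))))
theorem f763846 : Led Lsl_ff (LP (LK LD1_c23 LD2_c41 LD3_c58)) = (LP (LK LD1_c23 LD2_c38 LD3_c34)) :=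
  Lgr Lrot3 (Lpr_ft (f763839 IH) (Lpn (LP (LK LD1_c23 LD2_c38 LD3_c34))))
theorem f763850 : Led Lsl_at (LP (LK LD1_c23 LD2_c41 LD3_c58)) = (LP (LK LD1_c23 LD2_c38 LD3_c37)) :=
  Lgr Lrot26 (Lpr_ff (f763846 IH) (Lpr_gt (K33.f469282 IH) (Lpr_gt (K55.f534443 IH) (Lpn (LP (LK LD1_c23 LD2_c38 LD3_c37))))))
theorem f763837 : Led Lsl_at (LP (LK LD1_c23 LD2_c41 LD3_c57)) = (LP (LK LD1_c23 LD2_c38 LD3_c34)) :=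
  Lgr Lrot100 (Lpr_af (f763831 IH) (Lpn (LP (LK LD1_c23 LD2_c38 LD3_c34))))
theorem f763852 : Led Lsl_ff (LP (LK LD1_c23 LD2_c41 LD3_c57)) = (LP (LK LD1_c23 LD2_c38 LD3_c37)) :=
  Lgr Lrot30 (Lpr_at (f763837 IH) (Lpe (f763846 IH) (Lpr_at (f763850 IH) (Lpn (LP (LK LD1_c23 LD2_c38 LD3_c37))))))
theorem f617805 : Led Lsl_gf (LP (LK LD1_c31 LD2_c2 LD3_c57)) = (LP (LK LD1_c30 LD2_c52 LD3_c49)) :=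
  Lgr Lrot47 (Lpr_gt (K55.f617803 IH) (Lpe (K39.f560306 IH) (Lpr_ff (K39.f560330 IH) (Lpn (LP (LK LD1_c30 LD2_c52 LD3_c49))))))
theorem f567947 : Led Lsl_ct (LP (LK LD1_c31 LD2_c2 LD3_c57)) = (LP (LK LD1_c23 LD2_c26 LD3_c4)) :=
  Lre_c IH (LK LD1_c31 LD2_c2 LD3_c57) (LK LD1_c23 LD2_c26 LD3_c4) Lrfl Lrfl
theorem f560322 : Led Lsl_dt (LP (LK LD1_c30 LD2_c40 LD3_c3)) = (LP (LK LD1_c30 LD2_c52 LD3_c49)) :=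
  Lgr Lrot42 (Lpr_df (K39.f560316 IH) (Lpn (LP (LK LD1_c30 LD2_c52 LD3_c49))))
theorem f576412 : Led Lsl_ct (LP (LK LD1_c14 LD2_c5 LD3_c11)) = (LP (LK LD1_c23 LD2_c29 LD3_c61)) :=
  Lgr Lrot59 (Lpr_cf (K43.f576408 IH) (Lpn (LP (LK LD1_c23 LD2_c29 LD3_c61))))
theorem f576414 : Led Lsl_ct (LP (LK LD1_c29 LD2_c55 LD3_c25)) = (LP (LK LD1_c22 LD2_c44 LD3_c33)) :=
  Lgr Lrot176 (Lpe (K55.f560453 IH) (Lpr_cf (K55.f560489 IH) (Lpe (K40.f208973 IH) (Lpr_cf (K29.f439559 IH) (Lpe (K40.f439563 IH) (Lpe (K37.f439163 IH) (Lpe (K39.f560482 IH) (Lpe (K39.f560245 IH) (Lpe (K42.f554231 IH) (Lpr_cf (K43.f560491 IH) (Lpe (K42.f210881 IH) (Lpr_cf (K37.f543566 IH) (Lpe (K37.f209128 IH) (Lpr_cf (K43.f576408 IH) (Lpe (K43.f469236 IH) (Lpn (LP (LK LD1_c22 LD2_c44 LD3_c33))))))))))))))))))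
theorem f617866 : Led Lsl_gt (LP (LK LD1_c23 LD2_c26 LD3_c4)) = (LP (LK LD1_c29 LD2_c55 LD3_c25)) :=
  Lgr Lrot150 (Lpe (f567947 IH) (Lpr_gf (f617805 IH) (Lpe (f560322 IH) (Lpe (K57.f607597 IH) (Lpr_ct (K57.f558917 IH) (Lpe (K40.f558908 IH) (Lpr_ct (f576412 IH) (Lpe (K43.f469236 IH) (Lpe (f576414 IH) (Lpn (LP (LK LD1_c29 LD2_c55 LD3_c25))))))))))))
theorem f567965 : Led Lsl_dt (LP (LK LD1_c29 LD2_c55 LD3_c25)) = (LP (LK LD1_c21 LD2_c14 LD3_c50)) :=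
  Lre_d IH (LK LD1_c29 LD2_c55 LD3_c25) (LK LD1_c21 LD2_c14 LD3_c50) Lrfl Lrfl
theorem f159763 : Led Lsl_gt (LP (LK LD1_c13 LD2_c55 LD3_c21)) = (LP (LK LD1_c7 LD2_c21 LD3_c51)) :=
  Lre_g IH (LK LD1_c13 LD2_c55 LD3_c21) (LK LD1_c7 LD2_c21 LD3_c51) Lrfl Lrfl
theorem f567935 : Led Lsl_cf (LP (LK LD1_c13 LD2_c55 LD3_c21)) = (LP (LK LD1_c13 LD2_c38 LD3_c23)) :=
  Lgr Lrot169 (Lpr_gt (f159763 IH) (Lpr_ct (K42.f567924 IH) (Lpe (K42.f210881 IH) (Lpr_cf (K37.f543566 IH) (Lpe (K37.f466181 IH) (Lpe (K43.f466185 IH) (Lpe (K37.f466189 IH) (Lpr_df (K36.f540298 IH) (Lpr_gt (K40.f558913 IH) (Lpn (LP (LK LD1_c13 LD2_c38 LD3_c23))))))))))))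
theorem f489410 : Led Lsl_ct (LP (LK LD1_c23 LD2_c3 LD3_c24)) = (LP (LK LD1_c13 LD2_c38 LD3_c16)) :=
  Lre_c IH (LK LD1_c23 LD2_c3 LD3_c24) (LK LD1_c13 LD2_c38 LD3_c16) Lrfl Lrfl
theorem f567944 : Led Lsl_dt (LP (LK LD1_c23 LD2_c26 LD3_c4)) = (LP (LK LD1_c23 LD2_c3 LD3_c24)) :=
  Lgr Lrot105 (Lpe (K55.f554232 IH) (Lpe (K42.f554231 IH) (Lpe (f159763 IH) (Lpr_cf (f567935 IH) (Lpr_gt (K40.f116174 IH) (Lpr_dt (K55.f116160 IH) (Lpr_gt (K37.f106229 IH) (Lpr_dt (K40.f106230 IH) (Lpe (f489410 IH) (Lpn (LP (LK LD1_c23 LD2_c3 LD3_c24))))))))))))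
theorem f554151 : Led Lsl_cf (LP (LK LD1_c30 LD2_c40 LD3_c57)) = (LP (LK LD1_c23 LD2_c3 LD3_c22)) :=
  Lgr Lrot11 (Lpr_ct (K40.f554148 IH) (Lpn (LP (LK LD1_c23 LD2_c3 LD3_c22))))
theorem f466184 : Led Lsl_ct (LP (LK LD1_c23 LD2_c3 LD3_c29)) = (LP (LK LD1_c13 LD2_c38 LD3_c20)) :=
  Lre_c IH (LK LD1_c23 LD2_c3 LD3_c29) (LK LD1_c13 LD2_c38 LD3_c20) Lrfl Lrfl
theorem f617811 : Led Lsl_dt (LP (LK LD1_c23 LD2_c26 LD3_c5)) = (LP (LK LD1_c23 LD2_c3 LD3_c29)) :=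
  Lgr Lrot173 (Lpe (K39.f560248 IH) (Lpr_df (K40.f560501 IH) (Lpr_cf (f554151 IH) (Lpe (K40.f116261 IH) (Lpe (K37.f116260 IH) (Lpe (K61.f469364 IH) (Lpe (f489410 IH) (Lpe (f567944 IH) (Lpe (f567947 IH) (Lpr_df (K55.f617809 IH) (Lpr_cf (K55.f608298 IH) (Lpe (K61.f466183 IH) (Lpe (K43.f466185 IH) (Lpe (K47.f116182 IH) (Lpe (f466184 IH) (Lpn (LP (LK LD1_c23 LD2_c3 LD3_c29))))))))))))))))))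
theorem f466531 : Led Lsl_ct (LP (LK LD1_c13 LD2_c38 LD3_c20)) = (LP (LK LD1_c23 LD2_c3 LD3_c29)) :=
  Lre_c IH (LK LD1_c13 LD2_c38 LD3_c20) (LK LD1_c23 LD2_c3 LD3_c29) Lrfl Lrfl
theorem f617847 : Led Lsl_gf (LP (LK LD1_c23 LD2_c26 LD3_c5)) = (LP (LK LD1_c29 LD2_c55 LD3_c25)) :=
  Lgr Lrot143 (Lpr_dt (f617811 IH) (Lpe (f466531 IH) (Lpe (K47.f116178 IH) (Lpe (K37.f466189 IH) (Lpr_df (K36.f540298 IH) (Lpe (K55.f617735 IH) (Lpe (K55.f617793 IH) (Lpr_gt (K55.f617721 IH) (Lpr_dt (K55.f560453 IH) (Lpn (LP (LK LD1_c29 LD2_c55 LD3_c25))))))))))))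
theorem f560499 : Led Lsl_ct (LP (LK LD1_c23 LD2_c26 LD3_c5)) = (LP (LK LD1_c31 LD2_c2 LD3_c60)) :=
  Lre_c IH (LK LD1_c23 LD2_c26 LD3_c5) (LK LD1_c31 LD2_c2 LD3_c60) Lrfl Lrfl
theorem f567938 : Led Lsl_ct (LP (LK LD1_c13 LD2_c55 LD3_c21)) = (LP (LK LD1_c13 LD2_c38 LD3_c23)) :=
  Lgr Lrot59 (Lpr_cf (f567935 IH) (Lpn (LP (LK LD1_c13 LD2_c38 LD3_c23))))
theorem f617850 : Led Lsl_gf (LP (LK LD1_c13 LD2_c55 LD3_c21)) = (LP (LK LD1_c21 LD2_c14 LD3_c50)) :=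
  Lgr Lrot147 (Lpr_ct (f567938 IH) (Lpr_gt (K40.f116174 IH) (Lpr_ct (K36.f116255 IH) (Lpe (K64.f116162 IH) (Lpe (K39.f116163 IH) (Lpe (K40.f560495 IH) (Lpe (f560499 IH) (Lpr_gf (f617847 IH) (Lpe (K55.f560453 IH) (Lpn (LP (LK LD1_c21 LD2_c14 LD3_c50))))))))))))
theorem f567934 : Led Lsl_dt (LP (LK LD1_c13 LD2_c55 LD3_c21)) = (LP (LK LD1_c23 LD2_c26 LD3_c2)) :=
  Lre_d IH (LK LD1_c13 LD2_c55 LD3_c21) (LK LD1_c23 LD2_c26 LD3_c2) Lrfl Lrfl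
theorem f567946 : Led Lsl_ct (LP (LK LD1_c31 LD2_c2 LD3_c53)) = (LP (LK LD1_c23 LD2_c26 LD3_c2)) :=
  Lre_c IH (LK LD1_c31 LD2_c2 LD3_c53) (LK LD1_c23 LD2_c26 LD3_c2) Lrfl Lrfl
theorem f617868 : Led Lsl_dt (LP (LK LD1_c23 LD2_c41 LD3_c57)) = (LP (LK LD1_c31 LD2_c2 LD3_c53)) :=
  Lgr Lrot105 (Lpe (K39.f463240 IH) (Lpe (K36.f116258 IH) (Lpe (K55.f617803 IH) (Lpe (K55.f567952 IH) (Lpr_gt (f617866 IH) (Lpr_dt (f567965 IH) (Lpe (f617850 IH) (Lpr_dt (f567934 IH) (Lpe (f567946 IH) (Lpn (LP (LK LD1_c31 LD2_c2 LD3_c53))))))))))))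
theorem f534442 : Led Lsl_dt (LP (LK LD1_c31 LD2_c8 LD3_c48)) = (LP (LK LD1_c23 LD2_c38 LD3_c37)) :=
  Lre_d IH (LK LD1_c31 LD2_c8 LD3_c48) (LK LD1_c23 LD2_c38 LD3_c37) Lrfl Lrfl
theorem f763856 : Led Lsl_ft (LP (LK LD1_c31 LD2_c2 LD3_c53)) = (LP (LK LD1_c31 LD2_c8 LD3_c48)) :=
  Lgr Lrot54 (Lpe (f617868 IH) (Lpr_ff (f763852 IH) (Lpe (f534442 IH) (Lpn (LP (LK LD1_c31 LD2_c8 LD3_c48))))))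
theorem f763860 : Led Lsl_ff (LP (LK LD1_c31 LD2_c2 LD3_c53)) = (LP (LK LD1_c31 LD2_c8 LD3_c48)) :=
  Lgr Lrot3 (Lpr_ft (f763856 IH) (Lpn (LP (LK LD1_c31 LD2_c8 LD3_c48))))
theorem f567981 : Led Lsl_gt (LP (LK LD1_c13 LD2_c55 LD3_c23)) = (LP (LK LD1_c16 LD2_c24 LD3_c8)) :=
  Lgr Lrot5 (Lpr_ft (K42.f439099 IH) (Lpr_at (K42.f567968 IH) (Lpr_gf (K61.f559038 IH) (Lpn (LP (LK LD1_c16 LD2_c24 LD3_c8))))))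
theorem f554060 : Led Lsl_gt (LP (LK LD1_c29 LD2_c55 LD3_c24)) = (LP (LK LD1_c21 LD2_c14 LD3_c36)) :=
  Lre_g IH (LK LD1_c29 LD2_c55 LD3_c24) (LK LD1_c21 LD2_c14 LD3_c36) Lrfl Lrfl
theorem f560449 : Led Lsl_gt (LP (LK LD1_c23 LD2_c26 LD3_c7)) = (LP (LK LD1_c29 LD2_c55 LD3_c24)) :=
  Lgr Lrot5 (Lpr_ft (K39.f463370 IH) (Lpr_at (K39.f560433 IH) (Lpe (f554060 IH) (Lpn (LP (LK LD1_c29 LD2_c55 LD3_c24))))))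
theorem f81311 : Led Lsl_ct (LP (LK LD1_c16 LD2_c24 LD3_c8)) = (LP (LK LD1_c8 LD2_c45 LD3_c57)) :=
  Lre_c IH (LK LD1_c16 LD2_c24 LD3_c8) (LK LD1_c8 LD2_c45 LD3_c57) Lrfl Lrfl
theorem f567983 : Led Lsl_ct (LP (LK LD1_c29 LD2_c55 LD3_c24)) = (LP (LK LD1_c31 LD2_c5 LD3_c19)) :=
  Lgr Lrot152 (Lpe (f560449 IH) (Lpe (K42.f208994 IH) (Lpr_gt (f567981 IH) (Lpr_ct (f81311 IH) (Lpe (K47.f559020 IH) (Lpe (K64.f541996 IH) (Lpe (K36.f541980 IH) (Lpe (K36.f541963 IH) (Lpe (K64.f541988 IH) (Lpn (LP (LK LD1_c31 LD2_c5 LD3_c19))))))))))))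
theorem f554193 : Led Lsl_dt (LP (LK LD1_c21 LD2_c14 LD3_c49)) = (LP (LK LD1_c29 LD2_c55 LD3_c28)) :=
  Lre_d IH (LK LD1_c21 LD2_c14 LD3_c49) (LK LD1_c29 LD2_c55 LD3_c28) Lrfl Lrfl
theorem f534456 : Led Lsl_dt (LP (LK LD1_c23 LD2_c38 LD3_c37)) = (LP (LK LD1_c31 LD2_c8 LD3_c48)) :=
  Lre_d IH (LK LD1_c23 LD2_c38 LD3_c37) (LK LD1_c31 LD2_c8 LD3_c48) Lrfl Lrfl
theorem f567989 : Led Lsl_cf (LP (LK LD1_c29 LD2_c55 LD3_c28)) = (LP (LK LD1_c31 LD2_c8 LD3_c48)) :=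
  Lgr Lrot14 (Lpe (f554193 IH) (Lpe (K55.f554192 IH) (Lpe (K39.f554059 IH) (Lpe (f554060 IH) (Lpr_ct (f567983 IH) (Lpr_gt (K64.f541988 IH) (Lpr_dt (K43.f541967 IH) (Lpr_gt (K55.f534443 IH) (Lpr_dt (f534456 IH) (Lpn (LP (LK LD1_c31 LD2_c8 LD3_c48))))))))))))
theorem f567991 : Led Lsl_ct (LP (LK LD1_c29 LD2_c55 LD3_c28)) = (LP (LK LD1_c31 LD2_c8 LD3_c48)) :=
  Lgr Lrot59 (Lpr_cf (f567989 IH) (Lpn (LP (LK LD1_c31 LD2_c8 LD3_c48))))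
theorem f763862 : Led Lsl_ft (LP (LK LD1_c23 LD2_c26 LD3_c2)) = (LP (LK LD1_c29 LD2_c55 LD3_c28)) :=
  Lgr Lrot4 (Lpe (f567946 IH) (Lpr_ff (f763860 IH) (Lpe (f567991 IH) (Lpn (LP (LK LD1_c29 LD2_c55 LD3_c28))))))
theorem f567972 : Led Lsl_dt (LP (LK LD1_c29 LD2_c55 LD3_c28)) = (LP (LK LD1_c21 LD2_c14 LD3_c49)) :=
  Lre_d IH (LK LD1_c29 LD2_c55 LD3_c28) (LK LD1_c21 LD2_c14 LD3_c49) Lrfl Lrfl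
theorem f763865 : Led Lsl_ff (LP (LK LD1_c13 LD2_c55 LD3_c21)) = (LP (LK LD1_c21 LD2_c14 LD3_c49)) :=
  Lgr Lrot19 (Lpr_dt (f567934 IH) (Lpr_ft (f763862 IH) (Lpr_dt (f567972 IH) (Lpn (LP (LK LD1_c21 LD2_c14 LD3_c49))))))
theorem f763870 : Led Lsl_at (LP (LK LD1_c13 LD2_c55 LD3_c21)) = (LP (LK LD1_c16 LD2_c24 LD3_c8)) :=
  Lgr Lrot26 (Lpr_ff (f763865 IH) (Lpe (K55.f567970 IH) (Lpr_gt (f567981 IH) (Lpn (LP (LK LD1_c16 LD2_c24 LD3_c8))))))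
theorem f763872 : Led Lsl_af (LP (LK LD1_c13 LD2_c55 LD3_c21)) = (LP (LK LD1_c16 LD2_c24 LD3_c8)) :=
  Lgr Lrot0 (Lpr_at (f763870 IH) (Lpn (LP (LK LD1_c16 LD2_c24 LD3_c8))))
theorem f763886 : Led Lsl_at (LP (LK LD1_c13 LD2_c38 LD3_c23)) = (LP (LK LD1_c8 LD2_c45 LD3_c57)) :=
  Lgr Lrot107 (Lpe (f567938 IH) (Lpr_af (f763872 IH) (Lpe (K61.f81286 IH) (Lpn (LP (LK LD1_c8 LD2_c45 LD3_c57))))))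
theorem f116183 : Led Lsl_bt (LP (LK LD1_c23 LD2_c3 LD3_c31)) = (LP (LK LD1_c13 LD2_c38 LD3_c23)) :=
  Lre_b IH (LK LD1_c23 LD2_c3 LD3_c31) (LK LD1_c13 LD2_c38 LD3_c23) Lrfl Lrfl
theorem f81310 : Led Lsl_bt (LP (LK LD1_c8 LD2_c45 LD3_c57)) = (LP (LK LD1_c4 LD2_c24 LD3_c5)) :=
  Lre_b IH (LK LD1_c8 LD2_c45 LD3_c57) (LK LD1_c4 LD2_c24 LD3_c5) Lrfl Lrfl
def v12646 : LQ := Led Lsl_ft (LP (LK LD1_c4 LD2_c24 LD3_c4))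
theorem f696574 : Led Lsl_ft (LP (LK LD1_c4 LD2_c24 LD3_c4)) = v12646 :=
  Lrfl
theorem f696577 : Led Lsl_ff (LP (LK LD1_c4 LD2_c24 LD3_c4)) = v12646 :=
  Lgr Lrot3 (Lpr_ft (f696574 IH) (Lpn v12646))
def v12645 : LQ := Led Lsl_at (LP (LK LD1_c4 LD2_c24 LD3_c4))
theorem f696568 : Led Lsl_at (LP (LK LD1_c4 LD2_c24 LD3_c4)) = v12645 :=
  Lrfl
theorem f696570 : Led Lsl_cf K57.v5557 = v12645 :=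
  Lgr Lrot1 (Lpe (K57.f648251 IH) (Lpr_ct (K46.f607050 IH) (Lpr_at (f696568 IH) (Lpn v12645))))
theorem f648255 : Led Lsl_ff (LP (LK LD1_c3 LD2_c10 LD3_c1)) = K57.v5557 :=
  Lgr Lrot3 (Lpr_ft (K57.f648254 IH) (Lpn K57.v5557))
theorem f696572 : Led Lsl_ft (LP (LK LD1_c4 LD2_c24 LD3_c5)) = v12645 :=
  Lgr Lrot4 (Lpe (K46.f81263 IH) (Lpr_ff (f648255 IH) (Lpr_cf (f696570 IH) (Lpn v12645))))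
theorem f696573 : Led Lsl_ff (LP (LK LD1_c4 LD2_c24 LD3_c5)) = v12645 :=
  Lgr Lrot3 (Lpr_ft (f696572 IH) (Lpn v12645))
theorem f696578 : Led Lsl_at (LP (LK LD1_c4 LD2_c24 LD3_c5)) = v12646 :=
  Lgr Lrot66 (Lpr_ff (f696573 IH) (Lpe (f696568 IH) (Lpr_ff (f696577 IH) (Lpn v12646))))
theorem f205481 : Led Lsl_ft (LP (LK LD1_c1 LD2_c31 LD3_c9)) = (LP (LK LD1_c3 LD2_c10 LD3_c3)) :=
  Lre_f IH (LK LD1_c1 LD2_c31 LD3_c9) (LK LD1_c3 LD2_c10 LD3_c3) Lrfl Lrfl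
theorem f205679 : Led Lsl_gf (LP (LK LD1_c4 LD2_c24 LD3_c27)) = (LP (LK LD1_c3 LD2_c10 LD3_c0)) :=
  Lgr Lrot76 (Lpr_af (K37.f205482 IH) (Lpe (f205481 IH) (Lpr_gt (K46.f80355 IH) (Lpn (LP (LK LD1_c3 LD2_c10 LD3_c0))))))
theorem f576823 : Led Lsl_ct (LP (LK LD1_c4 LD2_c24 LD3_c4)) = (LP (LK LD1_c3 LD2_c10 LD3_c0)) :=
  Lgr Lrot152 (Lpe (K46.f80326 IH) (Lpe (K4.f36678 IH) (Lpr_gt (K43.f35879 IH) (Lpr_ct (K43.f576648 IH) (Lpe (K39.f543404 IH) (Lpr_ct (K37.f75725 IH) (Lpe (K11.f75743 IH) (Lpe (K11.f75720 IH) (Lpr_gf (f205679 IH) (Lpn (LP (LK LD1_c3 LD2_c10 LD3_c0))))))))))))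
theorem f696579 : Led Lsl_ct K57.v5558 = v12646 :=
  Lgr Lrot40 (Lpe (K57.f648256 IH) (Lpe (f576823 IH) (Lpr_ff (f696577 IH) (Lpn v12646))))
theorem f763152 : v12646 = (LP (LK LD1_c7 LD2_c56 LD3_c46)) :=
  Lefun (Lecon (f696579 IH) (K64.f763141 IH)) (Lfl_cf (K43.f544280 IH))
theorem f763890 : Led Lsl_af (LP (LK LD1_c23 LD2_c3 LD3_c31)) = (LP (LK LD1_c14 LD2_c59 LD3_c31)) :=
  Lgr Lrot36 (Lpr_bt (f116183 IH) (Lpr_at (f763886 IH) (Lpr_bt (f81310 IH) (Lpr_at (f696578 IH) (Lpqs (f763152 IH) (Lpr_bt (K55.f544285 IH) (Lpn (LP (LK LD1_c14 LD2_c59 LD3_c31)))))))))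
theorem f763892 : Led Lsl_at (LP (LK LD1_c23 LD2_c3 LD3_c31)) = (LP (LK LD1_c14 LD2_c59 LD3_c31)) :=
  Lgr Lrot100 (Lpr_af (f763890 IH) (Lpn (LP (LK LD1_c14 LD2_c59 LD3_c31))))
theorem f763894 : Led Lsl_ff (LP (LK LD1_c23 LD2_c3 LD3_c31)) = (LP (LK LD1_c15 LD2_c8 LD3_c7)) :=
  Lgr Lrot52 (Lpr_at (f763892 IH) (Lpe (K55.f544288 IH) (Lpr_gf (K55.f590105 IH) (Lpn (LP (LK LD1_c15 LD2_c8 LD3_c7))))))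
theorem f763896 : Led Lsl_ft (LP (LK LD1_c23 LD2_c3 LD3_c31)) = (LP (LK LD1_c15 LD2_c8 LD3_c7)) :=
  Lgr Lrot48 (Lpr_ff (f763894 IH) (Lpn (LP (LK LD1_c15 LD2_c8 LD3_c7))))
theorem f552201 : Led Lsl_bt (LP (LK LD1_c13 LD2_c38 LD3_c23)) = (LP (LK LD1_c23 LD2_c3 LD3_c31)) :=
  Lre_b IH (LK LD1_c13 LD2_c38 LD3_c23) (LK LD1_c23 LD2_c3 LD3_c31) Lrfl Lrfl
theorem f202315 : Led Lsl_ct (LP (LK LD1_c12 LD2_c7 LD3_c29)) = (LP (LK LD1_c21 LD2_c13 LD3_c42)) :=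
  Lre_c IH (LK LD1_c12 LD2_c7 LD3_c29) (LK LD1_c21 LD2_c13 LD3_c42) Lrfl Lrfl
theorem f439489 : Led Lsl_bt (LP (LK LD1_c7 LD2_c17 LD3_c23)) = (LP (LK LD1_c13 LD2_c47 LD3_c23)) :=
  Lre_b IH (LK LD1_c7 LD2_c17 LD3_c23) (LK LD1_c13 LD2_c47 LD3_c23) Lrfl Lrfl
theorem f489669 : Led Lsl_gt (LP (LK LD1_c13 LD2_c47 LD3_c27)) = (LP (LK LD1_c13 LD2_c39 LD3_c5)) :=
  Lgr Lrot5 (Lpr_ft (K43.f439476 IH) (Lpr_at (K43.f439466 IH) (Lpr_gf (K48.f464555 IH) (Lpn (LP (LK LD1_c13 LD2_c39 LD3_c5))))))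
theorem f163424 : Led Lsl_ct (LP (LK LD1_c11 LD2_c33 LD3_c0)) = (LP (LK LD1_c20 LD2_c30 LD3_c5)) :=
  Lre_c IH (LK LD1_c11 LD2_c33 LD3_c0) (LK LD1_c20 LD2_c30 LD3_c5) Lrfl Lrfl
theorem f608333 : Led Lsl_gf (LP (LK LD1_c21 LD2_c13 LD3_c42)) = (LP (LK LD1_c20 LD2_c30 LD3_c5)) :=
  Lgr Lrot129 (Lpe (f202315 IH) (Lpr_bt (K64.f608321 IH) (Lpe (K40.f554065 IH) (Lpe (f439489 IH) (Lpr_ct (K43.f439462 IH) (Lpr_gt (f489669 IH) (Lpe (K48.f108471 IH) (Lpr_bt (K43.f108554 IH) (Lpr_gt (K43.f578509 IH) (Lpr_ct (f163424 IH) (Lpn (LP (LK LD1_c20 LD2_c30 LD3_c5)))))))))))))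
theorem f163422 : Led Lsl_bt (LP (LK LD1_c11 LD2_c33 LD3_c0)) = (LP (LK LD1_c15 LD2_c8 LD3_c3)) :=
  Lgr Lrot127 (Lpr_bf (K55.f163420 IH) (Lpn (LP (LK LD1_c15 LD2_c8 LD3_c3))))
theorem f617852 : Led Lsl_gt (LP (LK LD1_c23 LD2_c3 LD3_c31)) = (LP (LK LD1_c15 LD2_c8 LD3_c3)) :=
  Lgr Lrot164 (Lpe (f552201 IH) (Lpe (f567935 IH) (Lpr_gf (f617850 IH) (Lpr_cf (K55.f560489 IH) (Lpr_gf (K40.f554065 IH) (Lpe (K64.f608321 IH) (Lpr_ct (f202315 IH) (Lpr_gf (f608333 IH) (Lpe (f163424 IH) (Lpr_bt (f163422 IH) (Lpn (LP (LK LD1_c15 LD2_c8 LD3_c3)))))))))))))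
theorem f590107 : Led Lsl_bt (LP (LK LD1_c12 LD2_c23 LD3_c3)) = (LP (LK LD1_c15 LD2_c8 LD3_c7)) :=
  Lgr Lrot22 (Lpr_ct (K55.f567973 IH) (Lpe (K55.f554192 IH) (Lpr_cf (K42.f567927 IH) (Lpr_gf (K55.f590087 IH) (Lpe (K55.f589920 IH) (Lpr_ct (K55.f543734 IH) (Lpe (K55.f590083 IH) (Lpr_cf (K55.f590077 IH) (Lpe (K55.f590059 IH) (Lpr_gf (K55.f590105 IH) (Lpn (LP (LK LD1_c15 LD2_c8 LD3_c7)))))))))))))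
theorem f696571 : Led Lsl_ct K57.v5557 = v12645 :=
  Lgr Lrot59 (Lpr_cf (f696570 IH) (Lpn v12645))
theorem f763173 : v12645 = (LP (LK LD1_c7 LD2_c56 LD3_c45)) :=
  Lefun (Lecon (f696571 IH) (K64.f763165 IH).symm) (Lfl_cf (K61.f561096 IH))
theorem f763663 : Led Lsl_at (LP (LK LD1_c15 LD2_c8 LD3_c7)) = (LP (LK LD1_c8 LD2_c45 LD3_c54)) :=
  Lgr Lrot67 (Lpe (f590107 IH) (Lpr_af (K64.f763659 IH) (Lpr_bf (K55.f617728 IH) (Lpq (f763173 IH) (Lpe (f696568 IH) (Lpe (f210856 IH) (Lpn (LP (LK LD1_c8 LD2_c45 LD3_c54)))))))))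
theorem f763900 : Led Lsl_gt (LP (LK LD1_c15 LD2_c8 LD3_c3)) = (LP (LK LD1_c8 LD2_c45 LD3_c54)) :=
  Lgr Lrot46 (Lpe (f617852 IH) (Lpr_ft (f763896 IH) (Lpr_at (f763663 IH) (Lpn (LP (LK LD1_c8 LD2_c45 LD3_c54))))))
theorem f94971 : Led Lsl_dt (LP (LK LD1_c8 LD2_c2 LD3_c14)) = (LP (LK LD1_c15 LD2_c7 LD3_c56)) :=
  Lre_d IH (LK LD1_c8 LD2_c2 LD3_c14) (LK LD1_c15 LD2_c7 LD3_c56) Lrfl Lrfl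
theorem f893170 : Led Lsl_gt (LP (LK LD1_c16 LD2_c12 LD3_c21)) = (LP (LK LD1_c15 LD2_c7 LD3_c56)) :=
  Lgr Lrot112 (Lpr_df (f893168 IH) (Lpe (f893166 IH) (Lpe (f763900 IH) (Lpe (K44.f163419 IH) (Lpr_dt (K40.f158249 IH) (Lpr_gf (K36.f81447 IH) (Lpe (K40.f542508 IH) (Lpr_gf (K40.f542533 IH) (Lpe (K39.f69429 IH) (Lpr_dt (f94971 IH) (Lpn (LP (LK LD1_c15 LD2_c7 LD3_c56)))))))))))))
theorem f893171 : Led Lsl_gt (LP (LK LD1_c16 LD2_c12 LD3_c21)) = (LP (LK LD1_c15 LD2_c7 LD3_c56)) :=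
  Leop (Lpe (f893170 IH) (Lpn (LP (LK LD1_c16 LD2_c12 LD3_c21))))
theorem seed_2152 : LEOK LG_g (LK LD1_c16 LD2_c12 LD3_c21) :=
  Leoe_g (LK LD1_c16 LD2_c12 LD3_c21) (f893171 IH)
def v37201 : LQ := Led Lsl_gt (LP (LK LD1_c8 LD2_c48 LD3_c31))
theorem f893483 : Led Lsl_gt (LP (LK LD1_c8 LD2_c48 LD3_c31)) = v37201 :=
  Lrfl
theorem f576791 : Led Lsl_ft (LP (LK LD1_c4 LD2_c26 LD3_c2)) = (LP (LK LD1_c8 LD2_c49 LD3_c29)) :=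
  Lre_f IH (LK LD1_c4 LD2_c26 LD3_c2) (LK LD1_c8 LD2_c49 LD3_c29) Lrfl Lrfl
theorem f893484 : Led Lsl_at (LP (LK LD1_c8 LD2_c49 LD3_c29)) = v37201 :=
  Lgr Lrot26 (Lpe (f576791 IH) (Lpe (K61.f576789 IH) (Lpr_gt (f893483 IH) (Lpn v37201))))
theorem f158809 : Led Lsl_at (LP (LK LD1_c8 LD2_c49 LD3_c11)) = (LP (LK LD1_c4 LD2_c26 LD3_c2)) :=
  Lre_a IH (LK LD1_c8 LD2_c49 LD3_c11) (LK LD1_c4 LD2_c26 LD3_c2) Lrfl Lrfl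
theorem f893487 : Led Lsl_ff (LP (LK LD1_c8 LD2_c49 LD3_c11)) = v37201 :=
  Lgr Lrot30 (Lpr_at (f158809 IH) (Lpr_ft (f576791 IH) (Lpr_at (f893484 IH) (Lpn v37201))))
theorem f571975 : Led Lsl_gt (LP (LK LD1_c8 LD2_c49 LD3_c27)) = (LP (LK LD1_c4 LD2_c26 LD3_c2)) :=
  Lre_g IH (LK LD1_c8 LD2_c49 LD3_c27) (LK LD1_c4 LD2_c26 LD3_c2) Lrfl Lrfl
theorem f893491 : Led Lsl_gf (LP (LK LD1_c8 LD2_c49 LD3_c27)) = v37201 :=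
  Lgr Lrot47 (Lpr_gt (f571975 IH) (Lpe (f158809 IH) (Lpr_ff (f893487 IH) (Lpn v37201))))
theorem f70602 : Led Lsl_bt (LP (LK LD1_c16 LD2_c28 LD3_c45)) = (LP (LK LD1_c8 LD2_c48 LD3_c32)) :=
  Lre_b IH (LK LD1_c16 LD2_c28 LD3_c45) (LK LD1_c8 LD2_c48 LD3_c32) Lrfl Lrfl
theorem f101835 : Led Lsl_bt (LP (LK LD1_c11 LD2_c59 LD3_c32)) = (LP (LK LD1_c21 LD2_c4 LD3_c13)) :=
  Lre_b IH (LK LD1_c11 LD2_c59 LD3_c32) (LK LD1_c21 LD2_c4 LD3_c13) Lrfl Lrfl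
theorem f796149 : Led Lsl_ff (LP (LK LD1_c16 LD2_c28 LD3_c45)) = (LP (LK LD1_c21 LD2_c4 LD3_c13)) :=
  Lgr Lrot25 (Lpr_bt (f70602 IH) (Lpr_ft (f796147 IH) (Lpr_bt (f101835 IH) (Lpn (LP (LK LD1_c21 LD2_c4 LD3_c13))))))
theorem f796251 : Led Lsl_dt (LP (LK LD1_c11 LD2_c59 LD3_c31)) = (LP (LK LD1_c21 LD2_c4 LD3_c13)) :=
  Lre_d IH (LK LD1_c11 LD2_c59 LD3_c31) (LK LD1_c21 LD2_c4 LD3_c13) Lrfl Lrfl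
theorem f796252 : Led Lsl_ft (LP (LK LD1_c8 LD2_c48 LD3_c31)) = (LP (LK LD1_c11 LD2_c59 LD3_c31)) :=
  Lgr Lrot54 (Lpe (K61.f70747 IH) (Lpr_ff (f796149 IH) (Lpe (f796251 IH) (Lpn (LP (LK LD1_c11 LD2_c59 LD3_c31))))))
theorem f893492 : Led Lsl_af (LP (LK LD1_c8 LD2_c49 LD3_c27)) = (LP (LK LD1_c11 LD2_c59 LD3_c31)) :=
  Lgr Lrot31 (Lpr_gf (f893491 IH) (Lpe (f893483 IH) (Lpr_ft (f796252 IH) (Lpn (LP (LK LD1_c11 LD2_c59 LD3_c31))))))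
theorem f893493 : Led Lsl_at (LP (LK LD1_c11 LD2_c59 LD3_c31)) = (LP (LK LD1_c8 LD2_c49 LD3_c27)) :=
  Leop (Lpr_af (f893492 IH) (Lpn (LP (LK LD1_c11 LD2_c59 LD3_c31))))
theorem seed_2153 : LEOK LG_a (LK LD1_c11 LD2_c59 LD3_c31) :=
  Leoe_a (LK LD1_c11 LD2_c59 LD3_c31) (f893493 IH)
def v37204 : LQ := Led Lsl_bt (LP (LK LD1_c8 LD2_c48 LD3_c35))
theorem f893515 : Led Lsl_bt (LP (LK LD1_c8 LD2_c48 LD3_c35)) = v37204 :=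
  Lrfl
def v12660 : LQ := Led Lsl_bt (LP (LK LD1_c4 LD2_c25 LD3_c31))
theorem f696640 : Led Lsl_bt (LP (LK LD1_c4 LD2_c25 LD3_c31)) = v12660 :=
  Lrfl
theorem f696641 : Led Lsl_bf (LP (LK LD1_c4 LD2_c25 LD3_c31)) = v12660 :=
  Lgr Lrot24 (Lpr_bt (f696640 IH) (Lpn v12660))
theorem f893518 : Led Lsl_ef v12660 = v37204 :=
  Lgr Lrot29 (Lpe (f696641 IH) (Lpr_et (K37.f227623 IH) (Lpr_bt (f893515 IH) (Lpn v37204))))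
def v15799 : LQ := Led Lsl_et (LP (LK LD1_c5 LD2_c47 LD3_c23))
theorem f741608 : Led Lsl_et (LP (LK LD1_c5 LD2_c47 LD3_c23)) = v15799 :=
  Lrfl
theorem f741612 : Led Lsl_ef (LP (LK LD1_c5 LD2_c47 LD3_c23)) = v15799 :=
  Lgr Lrot88 (Lpr_et (f741608 IH) (Lpn v15799))
theorem f741614 : Led Lsl_bt (LP (LK LD1_c12 LD2_c23 LD3_c48)) = v15799 :=
  Lgr Lrot119 (Lpe (K61.f411272 IH) (Lpe (K36.f541142 IH) (Lpr_ef (f741612 IH) (Lpn v15799))))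
theorem f159297 : Led Lsl_at (LP (LK LD1_c23 LD2_c34 LD3_c42)) = (LP (LK LD1_c14 LD2_c1 LD3_c60)) :=
  Lre_a IH (LK LD1_c23 LD2_c34 LD3_c42) (LK LD1_c14 LD2_c1 LD3_c60) Lrfl Lrfl
theorem f159410 : Led Lsl_at (LP (LK LD1_c13 LD2_c52 LD3_c52)) = (LP (LK LD1_c23 LD2_c22 LD3_c44)) :=
  Lre_a IH (LK LD1_c13 LD2_c52 LD3_c52) (LK LD1_c23 LD2_c22 LD3_c44) Lrfl Lrfl
theorem f159411 : Led Lsl_ef (LP (LK LD1_c23 LD2_c34 LD3_c42)) = (LP (LK LD1_c23 LD2_c22 LD3_c44)) :=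
  Lgr Lrot20 (Lpr_at (f159297 IH) (Lpr_et (K28.f159404 IH) (Lpr_at (f159410 IH) (Lpn (LP (LK LD1_c23 LD2_c22 LD3_c44))))))
theorem f554286 : Led Lsl_ct (LP (LK LD1_c20 LD2_c26 LD3_c22)) = (LP (LK LD1_c23 LD2_c22 LD3_c44)) :=
  Lgr Lrot15 (Lpr_ef (K37.f411225 IH) (Lpr_cf (K67.f554284 IH) (Lpr_ef (f159411 IH) (Lpn (LP (LK LD1_c23 LD2_c22 LD3_c44))))))
theorem f554291 : Led Lsl_cf (LP (LK LD1_c20 LD2_c26 LD3_c22)) = (LP (LK LD1_c23 LD2_c22 LD3_c44)) :=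
  Lgr Lrot11 (Lpr_ct (f554286 IH) (Lpn (LP (LK LD1_c23 LD2_c22 LD3_c44))))
theorem f159434 : Led Lsl_ft (LP (LK LD1_c13 LD2_c52 LD3_c46)) = (LP (LK LD1_c23 LD2_c22 LD3_c44)) :=
  Lre_f IH (LK LD1_c13 LD2_c52 LD3_c46) (LK LD1_c23 LD2_c22 LD3_c44) Lrfl Lrfl
theorem f554293 : Led Lsl_ct (LP (LK LD1_c11 LD2_c29 LD3_c14)) = (LP (LK LD1_c13 LD2_c52 LD3_c46)) :=
  Lgr Lrot40 (Lpe (K37.f239022 IH) (Lpr_cf (f554291 IH) (Lpe (f159434 IH) (Lpn (LP (LK LD1_c13 LD2_c52 LD3_c46))))))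
theorem f411275 : Led Lsl_af (LP (LK LD1_c11 LD2_c29 LD3_c14)) = (LP (LK LD1_c12 LD2_c23 LD3_c48)) :=
  Lgr Lrot0 (Lpr_at (K37.f411273 IH) (Lpn (LP (LK LD1_c12 LD2_c23 LD3_c48))))
theorem f203805 : Led Lsl_at (LP (LK LD1_c13 LD2_c52 LD3_c46)) = (LP (LK LD1_c7 LD2_c20 LD3_c24)) :=
  Lre_a IH (LK LD1_c13 LD2_c52 LD3_c46) (LK LD1_c7 LD2_c20 LD3_c24) Lrfl Lrfl
theorem f554297 : Led Lsl_cf (LP (LK LD1_c12 LD2_c23 LD3_c48)) = (LP (LK LD1_c7 LD2_c20 LD3_c24)) :=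
  Lgr Lrot1 (Lpe (f411275 IH) (Lpr_ct (f554293 IH) (Lpr_at (f203805 IH) (Lpn (LP (LK LD1_c7 LD2_c20 LD3_c24))))))
theorem f554299 : Led Lsl_ct (LP (LK LD1_c12 LD2_c23 LD3_c48)) = (LP (LK LD1_c7 LD2_c20 LD3_c24)) :=
  Lgr Lrot59 (Lpr_cf (f554297 IH) (Lpn (LP (LK LD1_c7 LD2_c20 LD3_c24))))
theorem f554303 : Led Lsl_gt (LP (LK LD1_c7 LD2_c20 LD3_c24)) = (LP (LK LD1_c13 LD2_c52 LD3_c49)) :=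
  Lre_g IH (LK LD1_c7 LD2_c20 LD3_c24) (LK LD1_c13 LD2_c52 LD3_c49) Lrfl Lrfl
theorem f510973 : Led Lsl_ft (LP (LK LD1_c22 LD2_c42 LD3_c49)) = (LP (LK LD1_c13 LD2_c24 LD3_c35)) :=
  Lre_f IH (LK LD1_c22 LD2_c42 LD3_c49) (LK LD1_c13 LD2_c24 LD3_c35) Lrfl Lrfl
theorem f621970 : Led Lsl_gt (LP (LK LD1_c22 LD2_c42 LD3_c49)) = (LP (LK LD1_c14 LD2_c59 LD3_c60)) :=
  Lgr Lrot5 (Lpr_ft (f510973 IH) (Lpr_at (K48.f510966 IH) (Lpr_gf (K47.f621968 IH) (Lpn (LP (LK LD1_c14 LD2_c59 LD3_c60))))))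
theorem f510975 : Led Lsl_af (LP (LK LD1_c22 LD2_c42 LD3_c49)) = (LP (LK LD1_c23 LD2_c4 LD3_c22)) :=
  Lgr Lrot45 (Lpr_ft (f510973 IH) (Lpr_at (K48.f510966 IH) (Lpr_ft (K48.f510974 IH) (Lpn (LP (LK LD1_c23 LD2_c4 LD3_c22))))))
theorem f489988 : Led Lsl_gt (LP (LK LD1_c13 LD2_c39 LD3_c12)) = (LP (LK LD1_c23 LD2_c4 LD3_c21)) :=
  Lre_g IH (LK LD1_c13 LD2_c39 LD3_c12) (LK LD1_c23 LD2_c4 LD3_c21) Lrfl Lrfl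
theorem f510979 : Led Lsl_gf (LP (LK LD1_c22 LD2_c42 LD3_c49)) = (LP (LK LD1_c23 LD2_c4 LD3_c21)) :=
  Lgr Lrot76 (Lpr_af (f510975 IH) (Lpe (K48.f510974 IH) (Lpr_gt (f489988 IH) (Lpn (LP (LK LD1_c23 LD2_c4 LD3_c21))))))
theorem f539154 : Led Lsl_ct (LP (LK LD1_c11 LD2_c47 LD3_c39)) = (LP (LK LD1_c20 LD2_c29 LD3_c14)) :=
  Lgr Lrot83 (Lpe (K44.f387454 IH) (Lpe (K36.f186321 IH) (Lpr_bf (K43.f539148 IH) (Lpe (K41.f539145 IH) (Lpe (K50.f539147 IH) (Lpn (LP (LK LD1_c20 LD2_c29 LD3_c14))))))))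
theorem f539199 : Led Lsl_gt (LP (LK LD1_c20 LD2_c29 LD3_c14)) = (LP (LK LD1_c29 LD2_c28 LD3_c15)) :=
  Lre_g IH (LK LD1_c20 LD2_c29 LD3_c14) (LK LD1_c29 LD2_c28 LD3_c15) Lrfl Lrfl
theorem f6537 : Led Lsl_ct (LP (LK LD1_c7 LD2_c14 LD3_c35)) = (LP (LK LD1_c13 LD2_c42 LD3_c11)) :=
  Lre_c IH (LK LD1_c7 LD2_c14 LD3_c35) (LK LD1_c13 LD2_c42 LD3_c11) Lrfl Lrfl
theorem f565628 : Led Lsl_dt (LP (LK LD1_c23 LD2_c7 LD3_c56)) = (LP (LK LD1_c13 LD2_c42 LD3_c11)) :=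
  Lre_d IH (LK LD1_c23 LD2_c7 LD3_c56) (LK LD1_c13 LD2_c42 LD3_c11) Lrfl Lrfl
theorem f581144 : Led Lsl_ct (LP (LK LD1_c29 LD2_c28 LD3_c15)) = (LP (LK LD1_c23 LD2_c7 LD3_c56)) :=
  Lgr Lrot110 (Lpe (f539199 IH) (Lpe (f539154 IH) (Lpe (K44.f539201 IH) (Lpr_df (K44.f581136 IH) (Lpr_gt (K41.f6469 IH) (Lpr_ct (K42.f6460 IH) (Lpr_gt (K41.f6536 IH) (Lpr_ct (f6537 IH) (Lpe (f565628 IH) (Lpn (LP (LK LD1_c23 LD2_c7 LD3_c56))))))))))))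
theorem f98307 : Led Lsl_ct (LP (LK LD1_c13 LD2_c42 LD3_c11)) = (LP (LK LD1_c7 LD2_c14 LD3_c35)) :=
  Lre_c IH (LK LD1_c13 LD2_c42 LD3_c11) (LK LD1_c7 LD2_c14 LD3_c35) Lrfl Lrfl
theorem f581147 : Led Lsl_df (LP (LK LD1_c29 LD2_c28 LD3_c15)) = (LP (LK LD1_c21 LD2_c10 LD3_c61)) :=
  Lgr Lrot157 (Lpr_ct (f581144 IH) (Lpr_dt (f565628 IH) (Lpr_ct (f98307 IH) (Lpr_dt (K41.f565621 IH) (Lpr_ct (K41.f538525 IH) (Lpr_dt (K41.f438137 IH) (Lpe (K42.f541054 IH) (Lpr_af (K41.f541047 IH) (Lpr_ff (K41.f541016 IH) (Lpn (LP (LK LD1_c21 LD2_c10 LD3_c61))))))))))))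
theorem f271878 : Led Lsl_ff (LP (LK LD1_c6 LD2_c13 LD3_c5)) = (LP (LK LD1_c4 LD2_c26 LD3_c56)) :=
  Lgr Lrot25 (Lpr_bt (K35.f101355 IH) (Lpr_ft (K16.f271876 IH) (Lpr_bt (K41.f197999 IH) (Lpn (LP (LK LD1_c4 LD2_c26 LD3_c56))))))
theorem f566071 : Led Lsl_ft (LP (LK LD1_c7 LD2_c14 LD3_c36)) = (LP (LK LD1_c8 LD2_c51 LD3_c40)) :=
  Lgr Lrot54 (Lpr_df (K41.f566061 IH) (Lpr_ff (f271878 IH) (Lpe (K41.f198226 IH) (Lpn (LP (LK LD1_c8 LD2_c51 LD3_c40))))))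
theorem f581149 : Led Lsl_at (LP (LK LD1_c8 LD2_c51 LD3_c40)) = (LP (LK LD1_c7 LD2_c14 LD3_c35)) :=
  Lgr Lrot33 (Lpe (f566071 IH) (Lpr_dt (K43.f566059 IH) (Lpr_ct (K35.f193532 IH) (Lpr_dt (K43.f175026 IH) (Lpr_ct (K41.f193537 IH) (Lpe (f581147 IH) (Lpr_ct (f581144 IH) (Lpr_dt (f565628 IH) (Lpr_ct (f98307 IH) (Lpn (LP (LK LD1_c7 LD2_c14 LD3_c35))))))))))))
theorem f581153 : Led Lsl_af (LP (LK LD1_c16 LD2_c34 LD3_c0)) = (LP (LK LD1_c13 LD2_c42 LD3_c12)) :=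
  Lgr Lrot50 (Lpr_et (K42.f239057 IH) (Lpr_at (f581149 IH) (Lpr_et (K47.f565623 IH) (Lpn (LP (LK LD1_c13 LD2_c42 LD3_c12))))))
theorem f581155 : Led Lsl_at (LP (LK LD1_c16 LD2_c34 LD3_c0)) = (LP (LK LD1_c13 LD2_c42 LD3_c12)) :=
  Lgr Lrot100 (Lpr_af (f581153 IH) (Lpn (LP (LK LD1_c13 LD2_c42 LD3_c12))))
theorem f581249 : Led Lsl_af (LP (LK LD1_c20 LD2_c26 LD3_c20)) = (LP (LK LD1_c14 LD2_c59 LD3_c60)) :=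
  Lgr Lrot117 (Lpr_dt (K42.f239052 IH) (Lpr_at (f581155 IH) (Lpr_dt (K47.f565624 IH) (Lpn (LP (LK LD1_c14 LD2_c59 LD3_c60))))))
theorem f581253 : Led Lsl_at (LP (LK LD1_c20 LD2_c26 LD3_c20)) = (LP (LK LD1_c14 LD2_c59 LD3_c60)) :=
  Lgr Lrot100 (Lpr_af (f581249 IH) (Lpn (LP (LK LD1_c14 LD2_c59 LD3_c60))))
theorem f622017 : Led Lsl_ft (LP (LK LD1_c23 LD2_c4 LD3_c21)) = (LP (LK LD1_c20 LD2_c26 LD3_c20)) :=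
  Lgr Lrot2 (Lpe (f510979 IH) (Lpr_gt (f621970 IH) (Lpe (f581253 IH) (Lpn (LP (LK LD1_c20 LD2_c26 LD3_c20))))))
theorem f239026 : Led Lsl_ft (LP (LK LD1_c11 LD2_c29 LD3_c14)) = (LP (LK LD1_c20 LD2_c26 LD3_c22)) :=
  Lre_f IH (LK LD1_c11 LD2_c29 LD3_c14) (LK LD1_c20 LD2_c26 LD3_c22) Lrfl Lrfl
theorem f622023 : Led Lsl_bf (LP (LK LD1_c23 LD2_c4 LD3_c21)) = (LP (LK LD1_c20 LD2_c26 LD3_c22)) :=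
  Lgr Lrot61 (Lpr_ft (f622017 IH) (Lpr_bt (K36.f239015 IH) (Lpr_ft (f239026 IH) (Lpn (LP (LK LD1_c20 LD2_c26 LD3_c22))))))
theorem f480627 : Led Lsl_et (LP (LK LD1_c13 LD2_c27 LD3_c50)) = (LP (LK LD1_c7 LD2_c6 LD3_c18)) :=
  Lre_e IH (LK LD1_c13 LD2_c27 LD3_c50) (LK LD1_c7 LD2_c6 LD3_c18) Lrfl Lrfl
theorem f565881 : Led Lsl_af (LP (LK LD1_c13 LD2_c27 LD3_c50)) = (LP (LK LD1_c8 LD2_c48 LD3_c22)) :=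
  Lgr Lrot50 (Lpr_et (f480627 IH) (Lpe (K33.f510696 IH) (Lpr_et (K41.f565879 IH) (Lpn (LP (LK LD1_c8 LD2_c48 LD3_c22))))))
theorem f72103 : Led Lsl_gt (LP (LK LD1_c16 LD2_c28 LD3_c18)) = (LP (LK LD1_c8 LD2_c48 LD3_c11)) :=
  Lre_g IH (LK LD1_c16 LD2_c28 LD3_c18) (LK LD1_c8 LD2_c48 LD3_c11) Lrfl Lrfl
theorem f565988 : Led Lsl_ff (LP (LK LD1_c8 LD2_c48 LD3_c22)) = (LP (LK LD1_c16 LD2_c28 LD3_c18)) :=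
  Lgr Lrot52 (Lpe (f565881 IH) (Lpr_gf (K41.f565986 IH) (Lpe (f72103 IH) (Lpn (LP (LK LD1_c16 LD2_c28 LD3_c18))))))
theorem f457465 : Led Lsl_et (LP (LK LD1_c13 LD2_c24 LD3_c35)) = (LP (LK LD1_c7 LD2_c4 LD3_c24)) :=
  Lre_e IH (LK LD1_c13 LD2_c24 LD3_c35) (LK LD1_c7 LD2_c4 LD3_c24) Lrfl Lrfl
theorem f565883 : Led Lsl_bf (LP (LK LD1_c13 LD2_c24 LD3_c35)) = (LP (LK LD1_c8 LD2_c48 LD3_c22)) :=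
  Lgr Lrot96 (Lpr_et (f457465 IH) (Lpr_bt (K33.f457458 IH) (Lpr_et (K41.f565879 IH) (Lpn (LP (LK LD1_c8 LD2_c48 LD3_c22))))))
theorem f510981 : Led Lsl_ft (LP (LK LD1_c13 LD2_c24 LD3_c35)) = (LP (LK LD1_c22 LD2_c42 LD3_c49)) :=
  Lre_f IH (LK LD1_c13 LD2_c24 LD3_c35) (LK LD1_c22 LD2_c42 LD3_c49) Lrfl Lrfl
theorem f615948 : Led Lsl_bt (LP (LK LD1_c22 LD2_c42 LD3_c49)) = (LP (LK LD1_c16 LD2_c28 LD3_c18)) :=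
  Lgr Lrot35 (Lpe (f510981 IH) (Lpr_bf (f565883 IH) (Lpr_ff (f565988 IH) (Lpn (LP (LK LD1_c16 LD2_c28 LD3_c18))))))
theorem f38613 : Led Lsl_gt (LP (LK LD1_c8 LD2_c48 LD3_c25)) = (LP (LK LD1_c16 LD2_c28 LD3_c18)) :=
  Lre_g IH (LK LD1_c8 LD2_c48 LD3_c25) (LK LD1_c16 LD2_c28 LD3_c18) Lrfl Lrfl
theorem f36194 : Led Lsl_gf (LP (LK LD1_c4 LD2_c24 LD3_c40)) = (LP (LK LD1_c7 LD2_c56 LD3_c53)) :=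
  Lgr Lrot76 (Lpr_af (f36090 IH) (Lpe (K2.f35747 IH) (Lpr_gt (K37.f35603 IH) (Lpn (LP (LK LD1_c7 LD2_c56 LD3_c53))))))
theorem f37651 : Led Lsl_ct (LP (LK LD1_c9 LD2_c47 LD3_c1)) = (LP (LK LD1_c4 LD2_c58 LD3_c2)) :=
  Lre_c IH (LK LD1_c9 LD2_c47 LD3_c1) (LK LD1_c4 LD2_c58 LD3_c2) Lrfl Lrfl
theorem f37649 : Led Lsl_ct (LP (LK LD1_c4 LD2_c24 LD3_c56)) = (LP (LK LD1_c8 LD2_c47 LD3_c24)) :=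
  Lre_c IH (LK LD1_c4 LD2_c24 LD3_c56) (LK LD1_c8 LD2_c47 LD3_c24) Lrfl Lrfl
theorem f37652 : Led Lsl_at (LP (LK LD1_c4 LD2_c58 LD3_c2)) = (LP (LK LD1_c4 LD2_c24 LD3_c56)) :=
  Lgr Lrot107 (Lpe (f37651 IH) (Lpr_af (K1.f37639 IH) (Lpe (f37649 IH) (Lpn (LP (LK LD1_c4 LD2_c24 LD3_c56))))))
theorem f70335 : Led Lsl_ft (LP (LK LD1_c9 LD2_c47 LD3_c2)) = (LP (LK LD1_c4 LD2_c58 LD3_c2)) :=
  Lre_f IH (LK LD1_c9 LD2_c47 LD3_c2) (LK LD1_c4 LD2_c58 LD3_c2) Lrfl Lrfl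
theorem f445712 : Led Lsl_gt (LP (LK LD1_c9 LD2_c47 LD3_c2)) = (LP (LK LD1_c8 LD2_c47 LD3_c23)) :=
  Lgr Lrot5 (Lpr_ft (f70335 IH) (Lpr_at (f37652 IH) (Lpe (K64.f80363 IH) (Lpn (LP (LK LD1_c8 LD2_c47 LD3_c23))))))
theorem f37481 : Led Lsl_dt (LP (LK LD1_c4 LD2_c58 LD3_c3)) = (LP (LK LD1_c9 LD2_c47 LD3_c2)) :=
  Lre_d IH (LK LD1_c4 LD2_c58 LD3_c3) (LK LD1_c9 LD2_c47 LD3_c2) Lrfl Lrfl
theorem f445720 : Led Lsl_gt (LP (LK LD1_c4 LD2_c24 LD3_c54)) = (LP (LK LD1_c4 LD2_c58 LD3_c3)) :=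
  Lgr Lrot46 (Lpe (K4.f35895 IH) (Lpr_ft (K1.f35903 IH) (Lpr_at (K2.f37475 IH) (Lpn (LP (LK LD1_c4 LD2_c58 LD3_c3))))))
theorem f31974 : Led Lsl_gf (LP (LK LD1_c8 LD2_c39 LD3_c8)) = (LP (LK LD1_c8 LD2_c38 LD3_c29)) :=
  Lgr Lrot47 (Lpr_gt (f31973 IH) (Lpr_af (K0.f31946 IH) (Lpe (K0.f31945 IH) (Lpn (LP (LK LD1_c8 LD2_c38 LD3_c29))))))
theorem f607062 : Led Lsl_ct (LP (LK LD1_c4 LD2_c24 LD3_c54)) = (LP (LK LD1_c7 LD2_c56 LD3_c53)) :=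
  Lgr Lrot8 (Lpr_gt (f445720 IH) (Lpr_dt (f37481 IH) (Lpr_gt (f445712 IH) (Lpe (K64.f80368 IH) (Lpr_cf (K61.f607054 IH) (Lpe (f80334 IH) (Lpr_gf (f31974 IH) (Lpe (K1.f34814 IH) (Lpr_gf (f36194 IH) (Lpn (LP (LK LD1_c7 LD2_c56 LD3_c53))))))))))))
theorem f81693 : Led Lsl_bt (LP (LK LD1_c4 LD2_c24 LD3_c49)) = (LP (LK LD1_c2 LD2_c9 LD3_c54)) :=
  Lre_b IH (LK LD1_c4 LD2_c24 LD3_c49) (LK LD1_c2 LD2_c9 LD3_c54) Lrfl Lrfl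
theorem f101820 : Led Lsl_gt (LP (LK LD1_c16 LD2_c26 LD3_c14)) = (LP (LK LD1_c8 LD2_c47 LD3_c5)) :=
  Lre_g IH (LK LD1_c16 LD2_c26 LD3_c14) (LK LD1_c8 LD2_c47 LD3_c5) Lrfl Lrfl
theorem f615985 : Led Lsl_ct (LP (LK LD1_c22 LD2_c42 LD3_c49)) = (LP (LK LD1_c16 LD2_c26 LD3_c14)) :=
  Lgr Lrot64 (Lpr_bt (f615948 IH) (Lpe (f38613 IH) (Lpe (K6.f38597 IH) (Lpr_ct (K6.f70333 IH) (Lpr_gf (f36194 IH) (Lpe (f607062 IH) (Lpe (K4.f35895 IH) (Lpe (f81693 IH) (Lpr_ct (K4.f99390 IH) (Lpe (f101820 IH) (Lpn (LP (LK LD1_c16 LD2_c26 LD3_c14)))))))))))))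
theorem f445725 : Led Lsl_bt (LP (LK LD1_c8 LD2_c47 LD3_c16)) = (LP (LK LD1_c4 LD2_c24 LD3_c54)) :=
  Lre_b IH (LK LD1_c8 LD2_c47 LD3_c16) (LK LD1_c4 LD2_c24 LD3_c54) Lrfl Lrfl
theorem f159454 : Led Lsl_gt (LP (LK LD1_c13 LD2_c52 LD3_c49)) = (LP (LK LD1_c23 LD2_c22 LD3_c44)) :=
  Lre_g IH (LK LD1_c13 LD2_c52 LD3_c49) (LK LD1_c23 LD2_c22 LD3_c44) Lrfl Lrfl
theorem f622033 : Led Lsl_ct (LP (LK LD1_c8 LD2_c47 LD3_c16)) = (LP (LK LD1_c13 LD2_c52 LD3_c49)) :=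
  Lgr Lrot64 (Lpr_bt (f445725 IH) (Lpe (K4.f35895 IH) (Lpe (f81693 IH) (Lpr_ct (K4.f99390 IH) (Lpe (f101820 IH) (Lpe (f615985 IH) (Lpr_gf (f510979 IH) (Lpr_bf (f622023 IH) (Lpr_ct (f554286 IH) (Lpe (f159454 IH) (Lpn (LP (LK LD1_c13 LD2_c52 LD3_c49)))))))))))))
theorem f741616 : Led Lsl_gt v12660 = v15799 :=
  Lgr Lrot164 (Lpe (f696640 IH) (Lpe (K43.f408096 IH) (Lpe (K61.f443063 IH) (Lpr_cf (K6.f70279 IH) (Lpe (f445720 IH) (Lpe (f445725 IH) (Lpr_ct (f622033 IH) (Lpe (f554303 IH) (Lpe (f554299 IH) (Lpr_bt (f741614 IH) (Lpn v15799)))))))))))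
theorem f101652 : Led Lsl_gt (LP (LK LD1_c7 LD2_c57 LD3_c14)) = (LP (LK LD1_c15 LD2_c0 LD3_c1)) :=
  Lre_g IH (LK LD1_c7 LD2_c57 LD3_c14) (LK LD1_c15 LD2_c0 LD3_c1) Lrfl Lrfl
theorem f101653 : Led Lsl_dt (LP (LK LD1_c15 LD2_c0 LD3_c1)) = (LP (LK LD1_c24 LD2_c47 LD3_c21)) :=
  Lre_d IH (LK LD1_c15 LD2_c0 LD3_c1) (LK LD1_c24 LD2_c47 LD3_c21) Lrfl Lrfl
theorem f227636 : Led Lsl_bt (LP (LK LD1_c16 LD2_c32 LD3_c61)) = (LP (LK LD1_c8 LD2_c51 LD3_c7)) :=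
  Lre_b IH (LK LD1_c16 LD2_c32 LD3_c61) (LK LD1_c8 LD2_c51 LD3_c7) Lrfl Lrfl
theorem f893517 : Led Lsl_df (LP (LK LD1_c16 LD2_c32 LD3_c61)) = v37204 :=
  Lgr Lrot12 (Lpr_bt (f227636 IH) (Lpr_dt (K37.f69626 IH) (Lpr_bt (f893515 IH) (Lpn v37204))))
theorem f893520 : Led Lsl_gt (LP (LK LD1_c24 LD2_c47 LD3_c21)) = (LP (LK LD1_c16 LD2_c32 LD3_c61)) :=
  Lgr Lrot139 (Lpe (f101653 IH) (Lpe (f101652 IH) (Lpe (K36.f39936 IH) (Lpr_dt (K4.f40360 IH) (Lpr_gf (K8.f101650 IH) (Lpe (K8.f99513 IH) (Lpr_et (f741608 IH) (Lpe (f741616 IH) (Lpr_ef (f893518 IH) (Lpe (f893517 IH) (Lpn (LP (LK LD1_c16 LD2_c32 LD3_c61)))))))))))))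
theorem f893521 : Led Lsl_gt (LP (LK LD1_c24 LD2_c47 LD3_c21)) = (LP (LK LD1_c16 LD2_c32 LD3_c61)) :=
  Leop (Lpe (f893520 IH) (Lpn (LP (LK LD1_c24 LD2_c47 LD3_c21))))
theorem seed_2154 : LEOK LG_g (LK LD1_c24 LD2_c47 LD3_c21) :=
  Leoe_g (LK LD1_c24 LD2_c47 LD3_c21) (f893521 IH)
def v37223 : LQ := Led Lsl_dt (LP (LK LD1_c8 LD2_c49 LD3_c1))
theorem f893606 : Led Lsl_dt (LP (LK LD1_c8 LD2_c49 LD3_c1)) = v37223 :=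
  Lrfl
theorem f893610 : Led Lsl_ef (LP (LK LD1_c8 LD2_c49 LD3_c3)) = v37223 :=
  Lgr Lrot73 (Lpr_dt (K45.f421447 IH) (Lpr_et (K42.f141759 IH) (Lpr_dt (K6.f99665 IH) (Lpr_et (K45.f99700 IH) (Lpr_dt (f893606 IH) (Lpn v37223))))))
theorem f552693 : Led Lsl_df (LP (LK LD1_c4 LD2_c56 LD3_c51)) = (LP (LK LD1_c8 LD2_c43 LD3_c36)) :=
  Lgr Lrot38 (Lpr_dt (K39.f552690 IH) (Lpn (LP (LK LD1_c8 LD2_c43 LD3_c36))))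
theorem f579343 : Led Lsl_gt (LP (LK LD1_c11 LD2_c6 LD3_c55)) = (LP (LK LD1_c11 LD2_c11 LD3_c25)) :=
  Lgr Lrot49 (Lpe (K43.f579322 IH) (Lpr_gf (K43.f579341 IH) (Lpe (K31.f181759 IH) (Lpr_gt (K31.f181417 IH) (Lpr_dt (K31.f181738 IH) (Lpr_gt (K39.f181761 IH) (Lpe (f552693 IH) (Lpr_cf (K51.f574397 IH) (Lpr_df (K51.f552646 IH) (Lpn (LP (LK LD1_c11 LD2_c11 LD3_c25))))))))))))
theorem f579345 : Led Lsl_cf (LP (LK LD1_c9 LD2_c1 LD3_c19)) = (LP (LK LD1_c4 LD2_c56 LD3_c51)) :=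
  Lgr Lrot14 (Lpr_df (K51.f552646 IH) (Lpe (f579343 IH) (Lpe (K43.f579322 IH) (Lpr_gf (K43.f579341 IH) (Lpe (K31.f181756 IH) (Lpr_gt (K31.f181417 IH) (Lpr_dt (K31.f181738 IH) (Lpr_gt (K39.f181761 IH) (Lpe (f552693 IH) (Lpn (LP (LK LD1_c4 LD2_c56 LD3_c51))))))))))))
theorem f424356 : Led Lsl_cf (LP (LK LD1_c11 LD2_c16 LD3_c1)) = (LP (LK LD1_c20 LD2_c10 LD3_c53)) :=
  Lgr Lrot14 (Lpe (K45.f281949 IH) (Lpr_gf (K39.f281947 IH) (Lpe (K16.f181774 IH) (Lpe (K31.f281976 IH) (Lpe (K31.f423751 IH) (Lpe (K41.f424222 IH) (Lpr_dt (K41.f424345 IH) (Lpr_gt (K41.f418020 IH) (Lpr_dt (K45.f424353 IH) (Lpn (LP (LK LD1_c20 LD2_c10 LD3_c53))))))))))))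
theorem f579273 : Led Lsl_ff (LP (LK LD1_c20 LD2_c10 LD3_c53)) = (LP (LK LD1_c20 LD2_c19 LD3_c3)) :=
  Lgr Lrot23 (Lpe (f424356 IH) (Lpr_ft (K43.f579271 IH) (Lpr_ct (K39.f385513 IH) (Lpn (LP (LK LD1_c20 LD2_c19 LD3_c3))))))
theorem f589185 : Led Lsl_af (LP (LK LD1_c20 LD2_c19 LD3_c1)) = (LP (LK LD1_c20 LD2_c10 LD3_c53)) :=
  Lgr Lrot109 (Lpe (K45.f385843 IH) (Lpr_df (K45.f588729 IH) (Lpe (K51.f589165 IH) (Lpr_df (K51.f589175 IH) (Lpr_cf (f579345 IH) (Lpr_df (f552693 IH) (Lpe (K45.f418025 IH) (Lpe (K39.f552685 IH) (Lpe (f579273 IH) (Lpn (LP (LK LD1_c20 LD2_c10 LD3_c53))))))))))))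
theorem f587012 : Led Lsl_cf (LP (LK LD1_c20 LD2_c10 LD3_c59)) = (LP (LK LD1_c11 LD2_c15 LD3_c60)) :=
  Lgr Lrot11 (Lpr_ct (K45.f587008 IH) (Lpn (LP (LK LD1_c11 LD2_c15 LD3_c60))))
theorem f587022 : Led Lsl_af (LP (LK LD1_c20 LD2_c19 LD3_c3)) = (LP (LK LD1_c20 LD2_c10 LD3_c59)) :=
  Lgr Lrot68 (Lpr_ct (K39.f385398 IH) (Lpr_at (K45.f587017 IH) (Lpe (f587012 IH) (Lpn (LP (LK LD1_c20 LD2_c10 LD3_c59))))))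
theorem f589651 : Led Lsl_ft (LP (LK LD1_c20 LD2_c19 LD3_c1)) = (LP (LK LD1_c20 LD2_c10 LD3_c59)) :=
  Lgr Lrot101 (Lpr_af (f589185 IH) (Lpr_ff (f579273 IH) (Lpr_af (f587022 IH) (Lpn (LP (LK LD1_c20 LD2_c10 LD3_c59))))))
theorem f589655 : Led Lsl_ff (LP (LK LD1_c11 LD2_c21 LD3_c20)) = (LP (LK LD1_c11 LD2_c15 LD3_c60)) :=
  Lgr Lrot23 (Lpr_ct (K45.f385843 IH) (Lpr_ft (f589651 IH) (Lpr_ct (K45.f587008 IH) (Lpn (LP (LK LD1_c11 LD2_c15 LD3_c60))))))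
theorem f589649 : Led Lsl_at (LP (LK LD1_c11 LD2_c21 LD3_c20)) = (LP (LK LD1_c11 LD2_c16 LD3_c1)) :=
  Lgr Lrot107 (Lpe (K43.f385842 IH) (Lpr_af (f589185 IH) (Lpe (K45.f424354 IH) (Lpn (LP (LK LD1_c11 LD2_c16 LD3_c1))))))
theorem f281568 : Led Lsl_dt (LP (LK LD1_c5 LD2_c42 LD3_c53)) = (LP (LK LD1_c11 LD2_c15 LD3_c60)) :=
  Lre_d IH (LK LD1_c5 LD2_c42 LD3_c53) (LK LD1_c11 LD2_c15 LD3_c60) Lrfl Lrfl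
theorem f552609 : Led Lsl_gf (LP (LK LD1_c11 LD2_c21 LD3_c12)) = (LP (LK LD1_c11 LD2_c15 LD3_c60)) :=
  Lgr Lrot143 (Lpr_dt (K18.f168275 IH) (Lpe (K30.f168288 IH) (Lpe (K18.f168276 IH) (Lpr_gf (K35.f547815 IH) (Lpr_df (K39.f552594 IH) (Lpe (K36.f280301 IH) (Lpe (K31.f174233 IH) (Lpr_gt (K41.f226031 IH) (Lpr_dt (f281568 IH) (Lpn (LP (LK LD1_c11 LD2_c15 LD3_c60))))))))))))
theorem f589657 : Led Lsl_gf (LP (LK LD1_c11 LD2_c16 LD3_c1)) = (LP (LK LD1_c11 LD2_c21 LD3_c12)) :=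
  Lgr Lrot76 (Lpe (f589649 IH) (Lpr_ff (f589655 IH) (Lpe (f552609 IH) (Lpn (LP (LK LD1_c11 LD2_c21 LD3_c12))))))
theorem f598158 : Led Lsl_df (LP (LK LD1_c9 LD2_c1 LD3_c18)) = (LP (LK LD1_c15 LD2_c4 LD3_c15)) :=
  Lgr Lrot153 (Lpr_gt (K39.f178959 IH) (Lpr_dt (K39.f552611 IH) (Lpe (K39.f418625 IH) (Lpe (K45.f281950 IH) (Lpr_gf (f589657 IH) (Lpe (K30.f168289 IH) (Lpe (K31.f385437 IH) (Lpr_cf (K31.f422965 IH) (Lpr_gt (K56.f598045 IH) (Lpn (LP (LK LD1_c15 LD2_c4 LD3_c15))))))))))))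
theorem f598160 : Led Lsl_ft (LP (LK LD1_c9 LD2_c1 LD3_c18)) = (LP (LK LD1_c5 LD2_c37 LD3_c50)) :=
  Lgr Lrot54 (Lpr_df (f598158 IH) (Lpe (K56.f549310 IH) (Lpe (K39.f211894 IH) (Lpn (LP (LK LD1_c5 LD2_c37 LD3_c50))))))
theorem f581920 : Led Lsl_ft (LP (LK LD1_c11 LD2_c7 LD3_c2)) = (LP (LK LD1_c12 LD2_c11 LD3_c4)) :=
  Lgr Lrot75 (Lpe (K43.f552489 IH) (Lpr_ff (K44.f581918 IH) (Lpe (K43.f186029 IH) (Lpn (LP (LK LD1_c12 LD2_c11 LD3_c4))))))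
theorem f598164 : Led Lsl_ef (LP (LK LD1_c8 LD2_c12 LD3_c26)) = (LP (LK LD1_c12 LD2_c11 LD3_c4)) :=
  Lgr Lrot21 (Lpr_ft (K43.f574869 IH) (Lpe (K43.f427543 IH) (Lpr_ft (f598160 IH) (Lpr_et (K43.f211906 IH) (Lpr_ft (f581920 IH) (Lpn (LP (LK LD1_c12 LD2_c11 LD3_c4))))))))
theorem f598174 : Led Lsl_gt (LP (LK LD1_c8 LD2_c12 LD3_c26)) = (LP (LK LD1_c4 LD2_c34 LD3_c20)) :=
  Lgr Lrot137 (Lpr_ef (f598164 IH) (Lpe (K43.f578855 IH) (Lpe (K38.f545268 IH) (Lpe (K38.f545256 IH) (Lpr_et (K38.f545151 IH) (Lpe (K6.f38522 IH) (Lpe (K42.f141759 IH) (Lpr_dt (K42.f141760 IH) (Lpe (K42.f570748 IH) (Lpe (K38.f545041 IH) (Lpn (LP (LK LD1_c4 LD2_c34 LD3_c20)))))))))))))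
theorem f598176 : Led Lsl_gf (LP (LK LD1_c8 LD2_c12 LD3_c26)) = (LP (LK LD1_c11 LD2_c57 LD3_c34)) :=
  Lgr Lrot47 (Lpr_gt (f598174 IH) (Lpe (K8.f117566 IH) (Lpr_ff (K45.f586757 IH) (Lpn (LP (LK LD1_c11 LD2_c57 LD3_c34))))))
theorem f597857 : Led Lsl_dt (LP (LK LD1_c10 LD2_c18 LD3_c16)) = (LP (LK LD1_c8 LD2_c12 LD3_c26)) :=
  Lgr Lrot44 (Lpr_af (K50.f597854 IH) (Lpe (K44.f572886 IH) (Lpe (K43.f574866 IH) (Lpn (LP (LK LD1_c8 LD2_c12 LD3_c26))))))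
theorem f597859 : Led Lsl_et (LP (LK LD1_c10 LD2_c18 LD3_c16)) = (LP (LK LD1_c18 LD2_c43 LD3_c18)) :=
  Lre_e IH (LK LD1_c10 LD2_c18 LD3_c16) (LK LD1_c18 LD2_c43 LD3_c18) Lrfl Lrfl
theorem f893609 : Led Lsl_df (LP (LK LD1_c8 LD2_c49 LD3_c1)) = v37223 :=
  Lgr Lrot38 (Lpr_dt (f893606 IH) (Lpn v37223))
theorem f621201 : Led Lsl_dt (LP (LK LD1_c11 LD2_c30 LD3_c26)) = (LP (LK LD1_c5 LD2_c51 LD3_c29)) :=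
  Lre_d IH (LK LD1_c11 LD2_c30 LD3_c26) (LK LD1_c5 LD2_c51 LD3_c29) Lrfl Lrfl
theorem f621195 : Led Lsl_bt (LP (LK LD1_c5 LD2_c51 LD3_c31)) = (LP (LK LD1_c11 LD2_c30 LD3_c26)) :=
  Lre_b IH (LK LD1_c5 LD2_c51 LD3_c31) (LK LD1_c11 LD2_c30 LD3_c26) Lrfl Lrfl
theorem f195776 : Led Lsl_bt (LP (LK LD1_c20 LD2_c2 LD3_c5)) = (LP (LK LD1_c11 LD2_c8 LD3_c31)) :=
  Lre_b IH (LK LD1_c20 LD2_c2 LD3_c5) (LK LD1_c11 LD2_c8 LD3_c31) Lrfl Lrfl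
theorem f621196 : Led Lsl_et (LP (LK LD1_c11 LD2_c30 LD3_c26)) = (LP (LK LD1_c20 LD2_c2 LD3_c5)) :=
  Lgr Lrot74 (Lpe (f621195 IH) (Lpr_ef (K55.f621193 IH) (Lpe (f195776 IH) (Lpn (LP (LK LD1_c20 LD2_c2 LD3_c5))))))
theorem f893614 : Led Lsl_gt (LP (LK LD1_c18 LD2_c43 LD3_c18)) = (LP (LK LD1_c20 LD2_c2 LD3_c5)) :=
  Lgr Lrot131 (Lpe (f597859 IH) (Lpr_dt (f597857 IH) (Lpr_gf (f598176 IH) (Lpr_df (K45.f586721 IH) (Lpe (K45.f141962 IH) (Lpr_ef (f893610 IH) (Lpe (f893609 IH) (Lpq (K55.f748143 IH) (Lpe (K55.f744752 IH) (Lpe (f621201 IH) (Lpr_et (f621196 IH) (Lpn (LP (LK LD1_c20 LD2_c2 LD3_c5))))))))))))))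
theorem f893615 : Led Lsl_gt (LP (LK LD1_c18 LD2_c43 LD3_c18)) = (LP (LK LD1_c20 LD2_c2 LD3_c5)) :=
  Leop (Lpe (f893614 IH) (Lpn (LP (LK LD1_c18 LD2_c43 LD3_c18))))
theorem seed_2155 : LEOK LG_g (LK LD1_c18 LD2_c43 LD3_c18) :=
  Leoe_g (LK LD1_c18 LD2_c43 LD3_c18) (f893615 IH)
def v37247 : LQ := Led Lsl_ft (LP (LK LD1_c8 LD2_c49 LD3_c37))
theorem f893701 : Led Lsl_ft (LP (LK LD1_c8 LD2_c49 LD3_c37)) = v37247 :=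
  Lrfl
theorem f206802 : Led Lsl_gt (LP (LK LD1_c8 LD2_c49 LD3_c37)) = (LP (LK LD1_c16 LD2_c30 LD3_c18)) :=
  Lre_g IH (LK LD1_c8 LD2_c49 LD3_c37) (LK LD1_c16 LD2_c30 LD3_c18) Lrfl Lrfl
theorem f80133 : Led Lsl_et (LP (LK LD1_c4 LD2_c26 LD3_c15)) = (LP (LK LD1_c2 LD2_c10 LD3_c23)) :=
  Lre_e IH (LK LD1_c4 LD2_c26 LD3_c15) (LK LD1_c2 LD2_c10 LD3_c23) Lrfl Lrfl
theorem f206801 : Led Lsl_et (LP (LK LD1_c4 LD2_c26 LD3_c7)) = (LP (LK LD1_c8 LD2_c49 LD3_c37)) :=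
  Lre_e IH (LK LD1_c4 LD2_c26 LD3_c7) (LK LD1_c8 LD2_c49 LD3_c37) Lrfl Lrfl
theorem f498984 : Led Lsl_af (LP (LK LD1_c4 LD2_c26 LD3_c15)) = (LP (LK LD1_c8 LD2_c49 LD3_c37)) :=
  Lgr Lrot50 (Lpr_et (f80133 IH) (Lpr_at (K36.f498978 IH) (Lpr_et (f206801 IH) (Lpn (LP (LK LD1_c8 LD2_c49 LD3_c37))))))
theorem f498986 : Led Lsl_at (LP (LK LD1_c4 LD2_c26 LD3_c15)) = (LP (LK LD1_c8 LD2_c49 LD3_c37)) :=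
  Lgr Lrot100 (Lpr_af (f498984 IH) (Lpn (LP (LK LD1_c8 LD2_c49 LD3_c37))))
theorem f498992 : Led Lsl_ft (LP (LK LD1_c8 LD2_c49 LD3_c59)) = (LP (LK LD1_c4 LD2_c26 LD3_c15)) :=
  Lre_f IH (LK LD1_c8 LD2_c49 LD3_c59) (LK LD1_c4 LD2_c26 LD3_c15) Lrfl Lrfl
theorem f893702 : Led Lsl_af (LP (LK LD1_c8 LD2_c49 LD3_c59)) = v37247 :=
  Lgr Lrot45 (Lpr_ft (f498992 IH) (Lpr_at (f498986 IH) (Lpr_ft (f893701 IH) (Lpn v37247))))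
theorem f893705 : Led Lsl_gt (LP (LK LD1_c16 LD2_c30 LD3_c18)) = (LP (LK LD1_c8 LD2_c49 LD3_c59)) :=
  Lgr Lrot46 (Lpe (f206802 IH) (Lpr_ft (f893701 IH) (Lpe (f893702 IH) (Lpn (LP (LK LD1_c8 LD2_c49 LD3_c59))))))
theorem f893706 : Led Lsl_gt (LP (LK LD1_c16 LD2_c30 LD3_c18)) = (LP (LK LD1_c8 LD2_c49 LD3_c59)) :=
  Leop (Lpe (f893705 IH) (Lpn (LP (LK LD1_c16 LD2_c30 LD3_c18))))
theorem seed_2156 : LEOK LG_g (LK LD1_c16 LD2_c30 LD3_c18) :=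
  Leoe_g (LK LD1_c16 LD2_c30 LD3_c18) (f893706 IH)
def v37293 : LQ := Led Lsl_ft (LP (LK LD1_c8 LD2_c50 LD3_c11))
theorem f893905 : Led Lsl_ft (LP (LK LD1_c8 LD2_c50 LD3_c11)) = v37293 :=
  Lrfl
theorem f711412 : Led Lsl_gt (LP (LK LD1_c8 LD2_c50 LD3_c11)) = (LP (LK LD1_c16 LD2_c30 LD3_c56)) :=
  Lre_g IH (LK LD1_c8 LD2_c50 LD3_c11) (LK LD1_c16 LD2_c30 LD3_c56) Lrfl Lrfl
theorem f99885 : Led Lsl_dt (LP (LK LD1_c16 LD2_c30 LD3_c24)) = (LP (LK LD1_c8 LD2_c49 LD3_c41)) :=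
  Lre_d IH (LK LD1_c16 LD2_c30 LD3_c24) (LK LD1_c8 LD2_c49 LD3_c41) Lrfl Lrfl
theorem f696549 : Led Lsl_dt (LP (LK LD1_c4 LD2_c26 LD3_c22)) = (LP (LK LD1_c8 LD2_c50 LD3_c11)) :=
  Lre_d IH (LK LD1_c4 LD2_c26 LD3_c22) (LK LD1_c8 LD2_c50 LD3_c11) Lrfl Lrfl
theorem f826018 : Led Lsl_af (LP (LK LD1_c16 LD2_c30 LD3_c24)) = (LP (LK LD1_c8 LD2_c50 LD3_c11)) :=
  Lgr Lrot117 (Lpr_dt (f99885 IH) (Lpq (K65.f825961 IH) (Lpe (K65.f696668 IH) (Lpr_dt (f696549 IH) (Lpn (LP (LK LD1_c8 LD2_c50 LD3_c11)))))))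
theorem f826020 : Led Lsl_at (LP (LK LD1_c16 LD2_c30 LD3_c24)) = (LP (LK LD1_c8 LD2_c50 LD3_c11)) :=
  Lgr Lrot100 (Lpr_af (f826018 IH) (Lpn (LP (LK LD1_c8 LD2_c50 LD3_c11))))
theorem f554513 : Led Lsl_dt (LP (LK LD1_c8 LD2_c50 LD3_c14)) = (LP (LK LD1_c4 LD2_c26 LD3_c23)) :=
  Lre_d IH (LK LD1_c8 LD2_c50 LD3_c14) (LK LD1_c4 LD2_c26 LD3_c23) Lrfl Lrfl
theorem f39945 : Led Lsl_dt (LP (LK LD1_c8 LD2_c49 LD3_c41)) = (LP (LK LD1_c16 LD2_c30 LD3_c24)) :=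
  Lre_d IH (LK LD1_c8 LD2_c49 LD3_c41) (LK LD1_c16 LD2_c30 LD3_c24) Lrfl Lrfl
theorem f825969 : Led Lsl_ff (LP (LK LD1_c8 LD2_c50 LD3_c14)) = (LP (LK LD1_c16 LD2_c30 LD3_c24)) :=
  Lgr Lrot19 (Lpr_dt (f554513 IH) (Lpr_ft (K65.f696670 IH) (Lpqs (K65.f825961 IH) (Lpr_dt (f39945 IH) (Lpn (LP (LK LD1_c16 LD2_c30 LD3_c24)))))))
theorem f825975 : Led Lsl_ft (LP (LK LD1_c8 LD2_c50 LD3_c14)) = (LP (LK LD1_c16 LD2_c30 LD3_c24)) :=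
  Lgr Lrot48 (Lpr_ff (f825969 IH) (Lpn (LP (LK LD1_c16 LD2_c30 LD3_c24))))
theorem f893906 : Led Lsl_af (LP (LK LD1_c8 LD2_c50 LD3_c14)) = v37293 :=
  Lgr Lrot45 (Lpr_ft (f825975 IH) (Lpr_at (f826020 IH) (Lpr_ft (f893905 IH) (Lpn v37293))))
theorem f893909 : Led Lsl_gt (LP (LK LD1_c16 LD2_c30 LD3_c56)) = (LP (LK LD1_c8 LD2_c50 LD3_c14)) :=
  Lgr Lrot46 (Lpe (f711412 IH) (Lpr_ft (f893905 IH) (Lpe (f893906 IH) (Lpn (LP (LK LD1_c8 LD2_c50 LD3_c14))))))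
theorem f893910 : Led Lsl_gt (LP (LK LD1_c16 LD2_c30 LD3_c56)) = (LP (LK LD1_c8 LD2_c50 LD3_c14)) :=
  Leop (Lpe (f893909 IH) (Lpn (LP (LK LD1_c16 LD2_c30 LD3_c56))))
theorem seed_2157 : LEOK LG_g (LK LD1_c16 LD2_c30 LD3_c56) :=
  Leoe_g (LK LD1_c16 LD2_c30 LD3_c56) (f893910 IH)
def v37320 : LQ := Led Lsl_ft (LP (LK LD1_c8 LD2_c50 LD3_c46))
theorem f894018 : Led Lsl_ft (LP (LK LD1_c8 LD2_c50 LD3_c46)) = v37320 :=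
  Lrfl
theorem f16176 : Led Lsl_gt (LP (LK LD1_c8 LD2_c50 LD3_c46)) = (LP (LK LD1_c16 LD2_c31 LD3_c59)) :=
  Lre_g IH (LK LD1_c8 LD2_c50 LD3_c46) (LK LD1_c16 LD2_c31 LD3_c59) Lrfl Lrfl
theorem f16545 : Led Lsl_at (LP (LK LD1_c4 LD2_c26 LD3_c38)) = (LP (LK LD1_c8 LD2_c50 LD3_c46)) :=
  Lre_a IH (LK LD1_c4 LD2_c26 LD3_c38) (LK LD1_c8 LD2_c50 LD3_c46) Lrfl Lrfl

end

end K68

end

end Cfsg.Agent.Helper28.S1692
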