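import Cfsg.Agent.Lib.Helper28.S1692.Seeds68

set_option autoImplicit false
set_option maxRecDepth 100000
set_option linter.all false

namespace Cfsg.Agent.Helper28.S1692

open Cfsg.Agent.Helper28
open Cfsg.Spor.ON (Gen)

noncomputable section

namespace K69
abbrev LD1_c0 := D1.c0
abbrev LD1_c1 := D1.c1
abbrev LD1_c2 := D1.c2
abbrev LD1_c3 := D1.c3
abbrev LD1_c4 := D1.c4
abbrev LD1_c5 := D1.c5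
abbrev LD1_c6 := D1.c6
abbrev LD1_c7 := D1.c7
abbrev LD1_c8 := D1.c8
abbrev LD1_c9 := D1.c9
abbrev LD1_c10 := D1.c10
abbrev LD1_c11 := D1.c11
abbrev LD1_c12 := D1.c12
abbrev LD1_c13 := D1.c13
abbrev LD1_c14 := D1.c14
abbrev LD1_c15 := D1.c15
abbrev LD1_c16 := D1.c16
abbrev LD1_c17 := D1.c17
abbrev LD1_c18 := D1.c18
abbrev LD1_c19 := D1.c19
abbrev LD1_c20 := D1.c20
abbrev LD1_c21 := D1.c21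
abbrev LD1_c22 := D1.c22
abbrev LD1_c23 := D1.c23
abbrev LD1_c24 := D1.c24
abbrev LD1_c25 := D1.c25
abbrev LD1_c26 := D1.c26
abbrev LD1_c27 := D1.c27
abbrev LD1_c28 := D1.c28
abbrev LD1_c29 := D1.c29
abbrev LD1_c30 := D1.c30
abbrev LD1_c31 := D1.c31
abbrev LD1_c32 := D1.c32
abbrev LD2_c0 := D2.c0
abbrev LD2_c1 := D2.c1
abbrev LD2_c2 := D2.c2
abbrev LD2_c3 := D2.c3
abbrev LD2_c4 := D2.c4
abbrev LD2_c5 := D2.c5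
abbrev LD2_c6 := D2.c6
abbrev LD2_c7 := D2.c7
abbrev LD2_c8 := D2.c8
abbrev LD2_c9 := D2.c9
abbrev LD2_c10 := D2.c10
abbrev LD2_c11 := D2.c11
abbrev LD2_c12 := D2.c12
abbrev LD2_c13 := D2.c13
abbrev LD2_c14 := D2.c14
abbrev LD2_c15 := D2.c15
abbrev LD2_c16 := D2.c16
abbrev LD2_c17 := D2.c17
abbrev LD2_c18 := D2.c18
abbrev LD2_c19 := D2.c19
abbrev LD2_c20 := D2.c20
abbrev LD2_c21 := D2.c21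
abbrev LD2_c22 := D2.c22
abbrev LD2_c23 := D2.c23
abbrev LD2_c24 := D2.c24
abbrev LD2_c25 := D2.c25
abbrev LD2_c26 := D2.c26
abbrev LD2_c27 := D2.c27
abbrev LD2_c28 := D2.c28
abbrev LD2_c29 := D2.c29
abbrev LD2_c30 := D2.c30
abbrev LD2_c31 := D2.c31
abbrev LD2_c32 := D2.c32
abbrev LD2_c33 := D2.c33
abbrev LD2_c34 := D2.c34
abbrev LD2_c35 := D2.c35
abbrev LD2_c36 := D2.c36
abbrev LD2_c37 := D2.c37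
abbrev LD2_c38 := D2.c38
abbrev LD2_c39 := D2.c39
abbrev LD2_c40 := D2.c40
abbrev LD2_c41 := D2.c41
abbrev LD2_c42 := D2.c42
abbrev LD2_c43 := D2.c43
abbrev LD2_c44 := D2.c44
abbrev LD2_c45 := D2.c45
abbrev LD2_c46 := D2.c46
abbrev LD2_c47 := D2.c47
abbrev LD2_c48 := D2.c48
abbrev LD2_c49 := D2.c49
abbrev LD2_c50 := D2.c50
abbrev LD2_c51 := D2.c51
abbrev LD2_c52 := D2.c52
abbrev LD2_c53 := D2.c53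
abbrev LD2_c54 := D2.c54
abbrev LD2_c55 := D2.c55
abbrev LD2_c56 := D2.c56
abbrev LD2_c57 := D2.c57
abbrev LD2_c58 := D2.c58
abbrev LD2_c59 := D2.c59
abbrev LD3_c0 := D3.c0
abbrev LD3_c1 := D3.c1
abbrev LD3_c2 := D3.c2
abbrev LD3_c3 := D3.c3
abbrev LD3_c4 := D3.c4
abbrev LD3_c5 := D3.c5
abbrev LD3_c6 := D3.c6
abbrev LD3_c7 := D3.c7
abbrev LD3_c8 := D3.c8
abbrev LD3_c9 := D3.c9
abbrev LD3_c10 := D3.c10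
abbrev LD3_c11 := D3.c11
abbrev LD3_c12 := D3.c12
abbrev LD3_c13 := D3.c13
abbrev LD3_c14 := D3.c14
abbrev LD3_c15 := D3.c15
abbrev LD3_c16 := D3.c16
abbrev LD3_c17 := D3.c17
abbrev LD3_c18 := D3.c18
abbrev LD3_c19 := D3.c19
abbrev LD3_c20 := D3.c20
abbrev LD3_c21 := D3.c21
abbrev LD3_c22 := D3.c22
abbrev LD3_c23 := D3.c23
abbrev LD3_c24 := D3.c24
abbrev LD3_c25 := D3.c25
abbrev LD3_c26 := D3.c26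
abbrev LD3_c27 := D3.c27
abbrev LD3_c28 := D3.c28
abbrev LD3_c29 := D3.c29
abbrev LD3_c30 := D3.c30
abbrev LD3_c31 := D3.c31
abbrev LD3_c32 := D3.c32
abbrev LD3_c33 := D3.c33
abbrev LD3_c34 := D3.c34
abbrev LD3_c35 := D3.c35
abbrev LD3_c36 := D3.c36
abbrev LD3_c37 := D3.c37
abbrev LD3_c38 := D3.c38
abbrev LD3_c39 := D3.c39
abbrev LD3_c40 := D3.c40
abbrev LD3_c41 := D3.c41
abbrev LD3_c42 := D3.c42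
abbrev LD3_c43 := D3.c43
abbrev LD3_c44 := D3.c44
abbrev LD3_c45 := D3.c45
abbrev LD3_c46 := D3.c46
abbrev LD3_c47 := D3.c47
abbrev LD3_c48 := D3.c48
abbrev LD3_c49 := D3.c49
abbrev LD3_c50 := D3.c50
abbrev LD3_c51 := D3.c51
abbrev LD3_c52 := D3.c52
abbrev LD3_c53 := D3.c53
abbrev LD3_c54 := D3.c54
abbrev LD3_c55 := D3.c55
abbrev LD3_c56 := D3.c56
abbrev LD3_c57 := D3.c57
abbrev LD3_c58 := D3.c58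
abbrev LD3_c59 := D3.c59
abbrev LD3_c60 := D3.c60
abbrev LD3_c61 := D3.c61
abbrev LG_g := Gen.g
abbrev Lsl_gt : Gen × Bool := sl_gt
alias Lfl_gt := fl_gt
alias Lpr_gt := pr_gt
abbrev Lsl_gf : Gen × Bool := sl_gf
alias Lfl_gf := fl_gf
alias Lpr_gf := pr_gf
alias Lre_g := re_g
alias Leoe_g := eoe_g
abbrev LG_a := Gen.a
abbrev Lsl_at : Gen × Bool := sl_at
alias Lfl_at := fl_at
alias Lpr_at := pr_at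
abbrev Lsl_af : Gen × Bool := sl_af
alias Lfl_af := fl_af
alias Lpr_af := pr_af
alias Lre_a := re_a
alias Leoe_a := eoe_a
abbrev LG_b := Gen.b
abbrev Lsl_bt : Gen × Bool := sl_bt
alias Lfl_bt := fl_bt
alias Lpr_bt := pr_bt
abbrev Lsl_bf : Gen × Bool := sl_bf
alias Lfl_bf := fl_bf
alias Lpr_bf := pr_bf
alias Lre_b := re_b
alias Leoe_b := eoe_b
abbrev LG_c := Gen.c
abbrev Lsl_ct : Gen × Bool := sl_ct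
alias Lfl_ct := fl_ct
alias Lpr_ct := pr_ct
abbrev Lsl_cf : Gen × Bool := sl_cf
alias Lfl_cf := fl_cf
alias Lpr_cf := pr_cf
alias Lre_c := re_c
alias Leoe_c := eoe_c
abbrev LG_d := Gen.d
abbrev Lsl_dt : Gen × Bool := sl_dt
alias Lfl_dt := fl_dt
alias Lpr_dt := pr_dt
abbrev Lsl_df : Gen × Bool := sl_df
alias Lfl_df := fl_df
alias Lpr_df := pr_df
alias Lre_d := re_d
alias Leoe_d := eoe_d
abbrev LG_e := Gen.e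
abbrev Lsl_et : Gen × Bool := sl_et
alias Lfl_et := fl_et
alias Lpr_et := pr_et
abbrev Lsl_ef : Gen × Bool := sl_ef
alias Lfl_ef := fl_ef
alias Lpr_ef := pr_ef
alias Lre_e := re_e
alias Leoe_e := eoe_e
abbrev LG_f := Gen.f
abbrev Lsl_ft : Gen × Bool := sl_ft
alias Lfl_ft := fl_ft
alias Lpr_ft := pr_ft
abbrev Lsl_ff : Gen × Bool := sl_ff
alias Lfl_ff := fl_ff
alias Lpr_ff := pr_ff
alias Lre_f := re_f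
alias Leoe_f := eoe_f
abbrev LK := Pt.mk
abbrev LQ : Type := Qt rels S
abbrev LP (p : Pt) : LQ := P p
abbrev Led (l : Gen × Bool) (c : LQ) : LQ := ed l c
abbrev LEOK (x : Gen) (p : Pt) : Prop := EntryOK rels S fwd inv o plet idx x p
alias Lpe := pe
alias Lpn := pn
alias Lgr := gr
alias Lpq := pq
alias Lpqs := pqs
alias Llr := lr
alias Leop := eop
alias Lefun := efun
alias Lecon := econ
theorem Lrfl {α : Sort _} {a : α} : a = a := rfl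
alias Lrot0 := rot0
alias Lrot1 := rot1
alias Lrot2 := rot2
alias Lrot3 := rot3
alias Lrot4 := rot4
alias Lrot5 := rot5
alias Lrot6 := rot6
alias Lrot7 := rot7
alias Lrot8 := rot8
alias Lrot9 := rot9
alias Lrot10 := rot10
alias Lrot11 := rot11
alias Lrot12 := rot12
alias Lrot15 := rot15
alias Lrot17 := rot17
alias Lrot18 := rot18
alias Lrot19 := rot19
alias Lrot20 := rot20
alias Lrot21 := rot21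
alias Lrot22 := rot22
alias Lrot23 := rot23
alias Lrot24 := rot24
alias Lrot25 := rot25
alias Lrot26 := rot26
alias Lrot28 := rot28
alias Lrot29 := rot29
alias Lrot30 := rot30
alias Lrot31 := rot31
alias Lrot32 := rot32
alias Lrot33 := rot33
alias Lrot34 := rot34
alias Lrot35 := rot35
alias Lrot36 := rot36
alias Lrot37 := rot37
alias Lrot38 := rot38
alias Lrot39 := rot39
alias Lrot40 := rot40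
alias Lrot42 := rot42
alias Lrot43 := rot43
alias Lrot44 := rot44
alias Lrot45 := rot45
alias Lrot46 := rot46
alias Lrot47 := rot47
alias Lrot48 := rot48
alias Lrot49 := rot49
alias Lrot50 := rot50
alias Lrot51 := rot51
alias Lrot52 := rot52
alias Lrot54 := rot54
alias Lrot56 := rot56
alias Lrot57 := rot57
alias Lrot58 := rot58
alias Lrot59 := rot59
alias Lrot60 := rot60
alias Lrot61 := rot61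
alias Lrot62 := rot62
alias Lrot63 := rot63
alias Lrot64 := rot64
alias Lrot65 := rot65
alias Lrot66 := rot66
alias Lrot67 := rot67
alias Lrot68 := rot68
alias Lrot69 := rot69
alias Lrot70 := rot70
alias Lrot72 := rot72
alias Lrot73 := rot73
alias Lrot74 := rot74
alias Lrot75 := rot75
alias Lrot76 := rot76
alias Lrot77 := rot77
alias Lrot78 := rot78
alias Lrot79 := rot79
alias Lrot80 := rot80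
alias Lrot81 := rot81
alias Lrot82 := rot82
alias Lrot83 := rot83
alias Lrot84 := rot84
alias Lrot86 := rot86
alias Lrot87 := rot87
alias Lrot88 := rot88
alias Lrot89 := rot89
alias Lrot90 := rot90
alias Lrot91 := rot91
alias Lrot92 := rot92
alias Lrot93 := rot93
alias Lrot94 := rot94
alias Lrot95 := rot95
alias Lrot96 := rot96
alias Lrot97 := rot97
alias Lrot99 := rot99
alias Lrot100 := rot100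
alias Lrot101 := rot101
alias Lrot103 := rot103
alias Lrot104 := rot104
alias Lrot105 := rot105
alias Lrot106 := rot106
alias Lrot107 := rot107
alias Lrot108 := rot108
alias Lrot110 := rot110
alias Lrot111 := rot111
alias Lrot112 := rot112
alias Lrot113 := rot113
alias Lrot114 := rot114
alias Lrot116 := rot116
alias Lrot117 := rot117
alias Lrot118 := rot118
alias Lrot119 := rot119
alias Lrot121 := rot121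
alias Lrot122 := rot122
alias Lrot123 := rot123
alias Lrot124 := rot124
alias Lrot125 := rot125
alias Lrot126 := rot126
alias Lrot127 := rot127
alias Lrot128 := rot128
alias Lrot129 := rot129
alias Lrot130 := rot130
alias Lrot131 := rot131
alias Lrot132 := rot132
alias Lrot133 := rot133
alias Lrot134 := rot134
alias Lrot135 := rot135
alias Lrot136 := rot136
alias Lrot137 := rot137
alias Lrot138 := rot138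
alias Lrot139 := rot139
alias Lrot141 := rot141
alias Lrot143 := rot143
alias Lrot144 := rot144
alias Lrot145 := rot145
alias Lrot147 := rot147
alias Lrot148 := rot148
alias Lrot149 := rot149
alias Lrot150 := rot150
alias Lrot151 := rot151
alias Lrot152 := rot152
alias Lrot153 := rot153
alias Lrot155 := rot155
alias Lrot158 := rot158
alias Lrot160 := rot160
alias Lrot162 := rot162
alias Lrot163 := rot163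
alias Lrot164 := rot164
alias Lrot165 := rot165
alias Lrot166 := rot166
alias Lrot167 := rot167
alias Lrot168 := rot168
alias Lrot169 := rot169
alias Lrot170 := rot170
alias Lrot171 := rot171
alias Lrot174 := rot174
alias Lrot178 := rot178
alias Lrot179 := rot179
alias Lrot181 := rot181
alias Lrot185 := rot185
alias Lrot187 := rot187
alias Lrot188 := rot188
alias Lrot189 := rot189

section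
variable (IH : IHT)
include IH

theorem f444704 : Led Lsl_ft (LP (LK LD1_c8 LD2_c50 LD3_c50)) = (LP (LK LD1_c4 LD2_c26 LD3_c38)) :=
  Lre_f IH (LK LD1_c8 LD2_c50 LD3_c50) (LK LD1_c4 LD2_c26 LD3_c38) Lrfl Lrfl
theorem f894019 : Led Lsl_af (LP (LK LD1_c8 LD2_c50 LD3_c50)) = K68.v37320 :=
  Lgr Lrot45 (Lpr_ft (f444704 IH) (Lpr_at (K68.f16545 IH) (Lpr_ft (K68.f894018 IH) (Lpn K68.v37320))))
theorem f894023 : Led Lsl_gt (LP (LK LD1_c16 LD2_c31 LD3_c59)) = (LP (LK LD1_c8 LD2_c50 LD3_c50)) :=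
  Lgr Lrot46 (Lpe (K68.f16176 IH) (Lpr_ft (K68.f894018 IH) (Lpe (f894019 IH) (Lpn (LP (LK LD1_c8 LD2_c50 LD3_c50))))))
theorem f894024 : Led Lsl_gt (LP (LK LD1_c16 LD2_c31 LD3_c59)) = (LP (LK LD1_c8 LD2_c50 LD3_c50)) :=
  Leop (Lpe (f894023 IH) (Lpn (LP (LK LD1_c16 LD2_c31 LD3_c59))))
theorem seed_2158 : LEOK LG_g (LK LD1_c16 LD2_c31 LD3_c59) :=
  Leoe_g (LK LD1_c16 LD2_c31 LD3_c59) (f894024 IH)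
def v37328 : LQ := Led Lsl_gt (LP (LK LD1_c8 LD2_c50 LD3_c56))
theorem f894056 : Led Lsl_gt (LP (LK LD1_c8 LD2_c50 LD3_c56)) = v37328 :=
  Lrfl
theorem f609319 : Led Lsl_ft (LP (LK LD1_c20 LD2_c1 LD3_c60)) = (LP (LK LD1_c13 LD2_c32 LD3_c28)) :=
  Lgr Lrot48 (Lpr_ff (K64.f609313 IH) (Lpn (LP (LK LD1_c13 LD2_c32 LD3_c28))))
theorem f609323 : Led Lsl_gt (LP (LK LD1_c13 LD2_c31 LD3_c60)) = (LP (LK LD1_c7 LD2_c8 LD3_c59)) :=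
  Lgr Lrot46 (Lpr_gf (K37.f543054 IH) (Lpr_ft (f609319 IH) (Lpr_at (K64.f528058 IH) (Lpn (LP (LK LD1_c7 LD2_c8 LD3_c59))))))
theorem f489300 : Led Lsl_et (LP (LK LD1_c13 LD2_c42 LD3_c35)) = (LP (LK LD1_c23 LD2_c8 LD3_c32)) :=
  Lre_e IH (LK LD1_c13 LD2_c42 LD3_c35) (LK LD1_c23 LD2_c8 LD3_c32) Lrfl Lrfl
theorem f561048 : Led Lsl_gf (LP (LK LD1_c23 LD2_c8 LD3_c32)) = (LP (LK LD1_c16 LD2_c32 LD3_c24)) :=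
  Lgr Lrot141 (Lpe (f489300 IH) (Lpr_dt (K37.f489264 IH) (Lpr_gt (K33.f487840 IH) (Lpe (K40.f6045 IH) (Lpr_et (K40.f561036 IH) (Lpe (K37.f16354 IH) (Lpr_dt (K1.f16276 IH) (Lpr_gt (K37.f16551 IH) (Lpe (K37.f16505 IH) (Lpr_et (K37.f16561 IH) (Lpn (LP (LK LD1_c16 LD2_c32 LD3_c24)))))))))))))
theorem f522707 : Led Lsl_dt (LP (LK LD1_c7 LD2_c8 LD3_c59)) = (LP (LK LD1_c13 LD2_c32 LD3_c30)) :=
  Lre_d IH (LK LD1_c7 LD2_c8 LD3_c59) (LK LD1_c13 LD2_c32 LD3_c30) Lrfl Lrfl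
theorem f609327 : Led Lsl_gf (LP (LK LD1_c12 LD2_c8 LD3_c13)) = (LP (LK LD1_c13 LD2_c32 LD3_c30)) :=
  Lgr Lrot134 (Lpr_df (K61.f70734 IH) (Lpr_et (K61.f70588 IH) (Lpr_gt (K37.f38305 IH) (Lpe (K37.f70587 IH) (Lpe (K37.f70574 IH) (Lpe (f561048 IH) (Lpr_df (K37.f543066 IH) (Lpe (K37.f543068 IH) (Lpr_gt (f609323 IH) (Lpr_dt (f522707 IH) (Lpn (LP (LK LD1_c13 LD2_c32 LD3_c30)))))))))))))
theorem f529883 : Led Lsl_et (LP (LK LD1_c7 LD2_c8 LD3_c59)) = (LP (LK LD1_c13 LD2_c32 LD3_c31)) :=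
  Lre_e IH (LK LD1_c7 LD2_c8 LD3_c59) (LK LD1_c13 LD2_c32 LD3_c31) Lrfl Lrfl
theorem f386060 : Led Lsl_gt (LP (LK LD1_c15 LD2_c12 LD3_c60)) = (LP (LK LD1_c15 LD2_c10 LD3_c15)) :=
  Lgr Lrot46 (Lpe (K37.f242197 IH) (Lpr_ft (K50.f242195 IH) (Lpr_at (K50.f386054 IH) (Lpn (LP (LK LD1_c15 LD2_c10 LD3_c15))))))
theorem f757684 : Led Lsl_gt (LP (LK LD1_c13 LD2_c32 LD3_c31)) = (LP (LK LD1_c22 LD2_c54 LD3_c32)) :=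
  Lre_g IH (LK LD1_c13 LD2_c32 LD3_c31) (LK LD1_c22 LD2_c54 LD3_c32) Lrfl Lrfl
theorem f757689 : Led Lsl_df (LP (LK LD1_c15 LD2_c12 LD3_c60)) = (LP (LK LD1_c22 LD2_c54 LD3_c32)) :=
  Lgr Lrot135 (Lpr_gt (f386060 IH) (Lpe (K50.f386037 IH) (Lpr_et (K48.f386040 IH) (Lpe (K64.f385989 IH) (Lpr_ef (K64.f757685 IH) (Lpe (K64.f757682 IH) (Lpr_gt (K64.f522698 IH) (Lpe (f522707 IH) (Lpr_et (f529883 IH) (Lpr_gt (f757684 IH) (Lpn (LP (LK LD1_c22 LD2_c54 LD3_c32)))))))))))))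
theorem f757017 : Led Lsl_af (LP (LK LD1_c11 LD2_c59 LD3_c34)) = (LP (LK LD1_c8 LD2_c48 LD3_c36)) :=
  Lgr Lrot31 (Lpe (K50.f37794 IH) (Lpe (K37.f35688 IH) (Lpr_ft (K68.f757009 IH) (Lpn (LP (LK LD1_c8 LD2_c48 LD3_c36))))))
theorem f756995 : Led Lsl_af (LP (LK LD1_c11 LD2_c59 LD3_c35)) = (LP (LK LD1_c8 LD2_c48 LD3_c37)) :=
  Lgr Lrot0 (Lpr_at (K68.f756993 IH) (Lpn (LP (LK LD1_c8 LD2_c48 LD3_c37))))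
theorem f757026 : Led Lsl_ft (LP (LK LD1_c11 LD2_c59 LD3_c34)) = (LP (LK LD1_c8 LD2_c48 LD3_c37)) :=
  Lgr Lrot101 (Lpr_af (f757017 IH) (Lpe (K68.f757009 IH) (Lpr_af (f756995 IH) (Lpn (LP (LK LD1_c8 LD2_c48 LD3_c37))))))
theorem f757030 : Led Lsl_ff (LP (LK LD1_c11 LD2_c59 LD3_c34)) = (LP (LK LD1_c8 LD2_c48 LD3_c37)) :=
  Lgr Lrot3 (Lpr_ft (f757026 IH) (Lpn (LP (LK LD1_c8 LD2_c48 LD3_c37))))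
theorem f70789 : Led Lsl_cf (LP (LK LD1_c4 LD2_c24 LD3_c57)) = (LP (LK LD1_c4 LD2_c25 LD3_c10)) :=
  Lgr Lrot1 (Lpr_at (K2.f37475 IH) (Lpe (K6.f70279 IH) (Lpr_at (K2.f70779 IH) (Lpn (LP (LK LD1_c4 LD2_c25 LD3_c10))))))
theorem f37620 : Led Lsl_ct (LP (LK LD1_c16 LD2_c26 LD3_c61)) = (LP (LK LD1_c8 LD2_c47 LD3_c25)) :=
  Lre_c IH (LK LD1_c16 LD2_c26 LD3_c61) (LK LD1_c8 LD2_c47 LD3_c25) Lrfl Lrfl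
theorem f37626 : Led Lsl_at (LP (LK LD1_c17 LD2_c57 LD3_c13)) = (LP (LK LD1_c16 LD2_c26 LD3_c61)) :=
  Lgr Lrot100 (Lpr_af (K1.f37612 IH) (Lpn (LP (LK LD1_c16 LD2_c26 LD3_c61))))
theorem f37659 : Led Lsl_ft (LP (LK LD1_c9 LD2_c47 LD3_c1)) = (LP (LK LD1_c17 LD2_c57 LD3_c13)) :=
  Lre_f IH (LK LD1_c9 LD2_c47 LD3_c1) (LK LD1_c17 LD2_c57 LD3_c13) Lrfl Lrfl
theorem f70273 : Led Lsl_gt (LP (LK LD1_c9 LD2_c47 LD3_c1)) = (LP (LK LD1_c17 LD2_c57 LD3_c11)) :=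
  Lre_g IH (LK LD1_c9 LD2_c47 LD3_c1) (LK LD1_c17 LD2_c57 LD3_c11) Lrfl Lrfl
theorem f445718 : Led Lsl_gt (LP (LK LD1_c17 LD2_c57 LD3_c11)) = (LP (LK LD1_c16 LD2_c26 LD3_c61)) :=
  Lgr Lrot46 (Lpe (f70273 IH) (Lpr_ft (f37659 IH) (Lpr_at (f37626 IH) (Lpn (LP (LK LD1_c16 LD2_c26 LD3_c61))))))
theorem f543441 : Led Lsl_ct (LP (LK LD1_c11 LD2_c59 LD3_c34)) = (LP (LK LD1_c17 LD2_c57 LD3_c11)) :=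
  Lgr Lrot152 (Lpe (K50.f37794 IH) (Lpe (K37.f35679 IH) (Lpr_gt (K37.f35556 IH) (Lpr_ct (K37.f543435 IH) (Lpr_gt (K11.f70795 IH) (Lpe (f70789 IH) (Lpe (K1.f36037 IH) (Lpe (f37620 IH) (Lpe (f445718 IH) (Lpn (LP (LK LD1_c17 LD2_c57 LD3_c11))))))))))))
theorem f757032 : Led Lsl_ft (LP (LK LD1_c17 LD2_c57 LD3_c11)) = (LP (LK LD1_c16 LD2_c26 LD3_c58)) :=
  Lgr Lrot4 (Lpe (f543441 IH) (Lpr_ff (f757030 IH) (Lpe (K64.f408112 IH) (Lpn (LP (LK LD1_c16 LD2_c26 LD3_c58))))))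
theorem f37661 : Led Lsl_gt (LP (LK LD1_c17 LD2_c57 LD3_c12)) = (LP (LK LD1_c9 LD2_c47 LD3_c1)) :=
  Lre_g IH (LK LD1_c17 LD2_c57 LD3_c12) (LK LD1_c9 LD2_c47 LD3_c1) Lrfl Lrfl
theorem f443078 : Led Lsl_cf (LP (LK LD1_c17 LD2_c57 LD3_c12)) = (LP (LK LD1_c11 LD2_c59 LD3_c35)) :=
  Lgr Lrot169 (Lpr_gt (f37661 IH) (Lpr_ct (K68.f37651 IH) (Lpe (K6.f37407 IH) (Lpe (K6.f70276 IH) (Lpe (K1.f38633 IH) (Lpe (K64.f38691 IH) (Lpe (K68.f386072 IH) (Lpe (K1.f38297 IH) (Lpr_gt (K37.f443072 IH) (Lpn (LP (LK LD1_c11 LD2_c59 LD3_c35))))))))))))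
theorem f443080 : Led Lsl_ct (LP (LK LD1_c17 LD2_c57 LD3_c12)) = (LP (LK LD1_c11 LD2_c59 LD3_c35)) :=
  Lgr Lrot59 (Lpr_cf (f443078 IH) (Lpn (LP (LK LD1_c11 LD2_c59 LD3_c35))))
theorem f756997 : Led Lsl_af (LP (LK LD1_c17 LD2_c57 LD3_c12)) = (LP (LK LD1_c16 LD2_c26 LD3_c58)) :=
  Lgr Lrot68 (Lpr_ct (f443080 IH) (Lpr_at (K68.f756993 IH) (Lpe (K64.f408100 IH) (Lpn (LP (LK LD1_c16 LD2_c26 LD3_c58))))))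
theorem f70331 : Led Lsl_ct (LP (LK LD1_c7 LD2_c57 LD3_c3)) = (LP (LK LD1_c4 LD2_c58 LD3_c3)) :=
  Lgr Lrot59 (Lpr_cf (K6.f70279 IH) (Lpn (LP (LK LD1_c4 LD2_c58 LD3_c3))))
theorem f37633 : Led Lsl_gt (LP (LK LD1_c8 LD2_c47 LD3_c24)) = (LP (LK LD1_c16 LD2_c26 LD3_c57)) :=
  Lre_g IH (LK LD1_c8 LD2_c47 LD3_c24) (LK LD1_c16 LD2_c26 LD3_c57) Lrfl Lrfl
theorem f37634 : Led Lsl_gf (LP (LK LD1_c17 LD2_c57 LD3_c13)) = (LP (LK LD1_c16 LD2_c26 LD3_c57)) :=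
  Lgr Lrot76 (Lpr_af (K1.f37612 IH) (Lpe (K1.f37630 IH) (Lpr_gt (f37633 IH) (Lpn (LP (LK LD1_c16 LD2_c26 LD3_c57))))))
theorem f607364 : Led Lsl_ct (LP (LK LD1_c8 LD2_c48 LD3_c36)) = (LP (LK LD1_c16 LD2_c26 LD3_c57)) :=
  Lgr Lrot152 (Lpe (K57.f69513 IH) (Lpe (K11.f38276 IH) (Lpr_gt (K37.f38065 IH) (Lpr_ct (K64.f607357 IH) (Lpe (K37.f443069 IH) (Lpr_ct (f70331 IH) (Lpe (K1.f37477 IH) (Lpe (K1.f37610 IH) (Lpr_gf (f37634 IH) (Lpn (LP (LK LD1_c16 LD2_c26 LD3_c57))))))))))))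
theorem f607366 : Led Lsl_cf (LP (LK LD1_c8 LD2_c48 LD3_c36)) = (LP (LK LD1_c16 LD2_c26 LD3_c57)) :=
  Lgr Lrot11 (Lpr_ct (f607364 IH) (Lpn (LP (LK LD1_c16 LD2_c26 LD3_c57))))
theorem f757005 : Led Lsl_ft (LP (LK LD1_c17 LD2_c57 LD3_c12)) = (LP (LK LD1_c16 LD2_c26 LD3_c57)) :=
  Lgr Lrot4 (Lpr_cf (f443078 IH) (Lpr_ff (K68.f757001 IH) (Lpr_cf (f607366 IH) (Lpn (LP (LK LD1_c16 LD2_c26 LD3_c57))))))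
theorem f757034 : Led Lsl_af (LP (LK LD1_c17 LD2_c57 LD3_c11)) = (LP (LK LD1_c16 LD2_c26 LD3_c57)) :=
  Lgr Lrot45 (Lpr_ft (f757032 IH) (Lpe (f756997 IH) (Lpr_ft (f757005 IH) (Lpn (LP (LK LD1_c16 LD2_c26 LD3_c57))))))
theorem f543445 : Led Lsl_et (LP (LK LD1_c17 LD2_c57 LD3_c11)) = (LP (LK LD1_c27 LD2_c41 LD3_c48)) :=
  Lre_e IH (LK LD1_c17 LD2_c57 LD3_c11) (LK LD1_c27 LD2_c41 LD3_c48) Lrfl Lrfl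
theorem f37638 : Led Lsl_et (LP (LK LD1_c26 LD2_c24 LD3_c13)) = (LP (LK LD1_c16 LD2_c26 LD3_c57)) :=
  Lre_e IH (LK LD1_c26 LD2_c24 LD3_c13) (LK LD1_c16 LD2_c26 LD3_c57) Lrfl Lrfl
theorem f757036 : Led Lsl_at (LP (LK LD1_c27 LD2_c41 LD3_c48)) = (LP (LK LD1_c26 LD2_c24 LD3_c13)) :=
  Lgr Lrot80 (Lpe (f543445 IH) (Lpr_af (f757034 IH) (Lpe (f37638 IH) (Lpn (LP (LK LD1_c26 LD2_c24 LD3_c13))))))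
theorem f543446 : Led Lsl_cf (LP (LK LD1_c21 LD2_c4 LD3_c16)) = (LP (LK LD1_c27 LD2_c41 LD3_c48)) :=
  Lgr Lrot39 (Lpr_et (K50.f38322 IH) (Lpr_ct (f543441 IH) (Lpr_et (f543445 IH) (Lpn (LP (LK LD1_c27 LD2_c41 LD3_c48))))))
theorem f543448 : Led Lsl_ct (LP (LK LD1_c21 LD2_c4 LD3_c16)) = (LP (LK LD1_c27 LD2_c41 LD3_c48)) :=
  Lgr Lrot59 (Lpr_cf (f543446 IH) (Lpn (LP (LK LD1_c27 LD2_c41 LD3_c48))))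
theorem f607368 : Led Lsl_et (LP (LK LD1_c16 LD2_c26 LD3_c57)) = (LP (LK LD1_c26 LD2_c24 LD3_c13)) :=
  Lre_e IH (LK LD1_c16 LD2_c26 LD3_c57) (LK LD1_c26 LD2_c24 LD3_c13) Lrfl Lrfl
theorem f607369 : Led Lsl_cf (LP (LK LD1_c16 LD2_c28 LD3_c54)) = (LP (LK LD1_c26 LD2_c24 LD3_c13)) :=
  Lgr Lrot39 (Lpr_et (K57.f227668 IH) (Lpr_ct (f607364 IH) (Lpr_et (f607368 IH) (Lpn (LP (LK LD1_c26 LD2_c24 LD3_c13))))))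
theorem f757040 : Led Lsl_af (LP (LK LD1_c21 LD2_c4 LD3_c16)) = (LP (LK LD1_c16 LD2_c28 LD3_c54)) :=
  Lgr Lrot68 (Lpr_ct (f543448 IH) (Lpr_at (f757036 IH) (Lpe (f607369 IH) (Lpn (LP (LK LD1_c16 LD2_c28 LD3_c54))))))
theorem f272673 : Led Lsl_dt (LP (LK LD1_c15 LD2_c10 LD3_c13)) = (LP (LK LD1_c16 LD2_c28 LD3_c54)) :=
  Lgr Lrot42 (Lpr_df (K57.f272666 IH) (Lpn (LP (LK LD1_c16 LD2_c28 LD3_c54))))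
theorem f757042 : Led Lsl_at (LP (LK LD1_c15 LD2_c12 LD3_c61)) = (LP (LK LD1_c15 LD2_c10 LD3_c13)) :=
  Lgr Lrot51 (Lpr_df (K50.f242217 IH) (Lpr_af (f757040 IH) (Lpe (f272673 IH) (Lpn (LP (LK LD1_c15 LD2_c10 LD3_c13))))))
theorem f386038 : Led Lsl_at (LP (LK LD1_c15 LD2_c10 LD3_c15)) = (LP (LK LD1_c15 LD2_c13 LD3_c0)) :=
  Lgr Lrot51 (Lpe (K50.f386037 IH) (Lpr_af (K48.f386031 IH) (Lpe (K48.f242209 IH) (Lpn (LP (LK LD1_c15 LD2_c13 LD3_c0))))))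
theorem f182454 : Led Lsl_gt (LP (LK LD1_c8 LD2_c3 LD3_c32)) = (LP (LK LD1_c15 LD2_c10 LD3_c12)) :=
  Lre_g IH (LK LD1_c8 LD2_c3 LD3_c32) (LK LD1_c15 LD2_c10 LD3_c12) Lrfl Lrfl
theorem f386085 : Led Lsl_gt (LP (LK LD1_c15 LD2_c10 LD3_c12)) = (LP (LK LD1_c15 LD2_c13 LD3_c0)) :=
  Lgr Lrot46 (Lpe (f182454 IH) (Lpr_ft (K50.f262385 IH) (Lpr_at (f386038 IH) (Lpn (LP (LK LD1_c15 LD2_c13 LD3_c0))))))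
theorem f757046 : Led Lsl_ff (LP (LK LD1_c15 LD2_c12 LD3_c61)) = (LP (LK LD1_c15 LD2_c10 LD3_c12)) :=
  Lgr Lrot52 (Lpr_at (f757042 IH) (Lpe (K57.f386083 IH) (Lpe (f386085 IH) (Lpn (LP (LK LD1_c15 LD2_c10 LD3_c12))))))
theorem f757050 : Led Lsl_ft (LP (LK LD1_c15 LD2_c12 LD3_c61)) = (LP (LK LD1_c15 LD2_c10 LD3_c12)) :=
  Lgr Lrot48 (Lpr_ff (f757046 IH) (Lpn (LP (LK LD1_c15 LD2_c10 LD3_c12))))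
theorem f757054 : Led Lsl_af (LP (LK LD1_c15 LD2_c12 LD3_c60)) = (LP (LK LD1_c15 LD2_c10 LD3_c12)) :=
  Lgr Lrot31 (Lpe (K37.f242197 IH) (Lpe (K50.f242148 IH) (Lpr_ft (f757050 IH) (Lpn (LP (LK LD1_c15 LD2_c10 LD3_c12))))))
theorem f757044 : Led Lsl_af (LP (LK LD1_c15 LD2_c12 LD3_c61)) = (LP (LK LD1_c15 LD2_c10 LD3_c13)) :=
  Lgr Lrot0 (Lpr_at (f757042 IH) (Lpn (LP (LK LD1_c15 LD2_c10 LD3_c13))))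
theorem f757059 : Led Lsl_ft (LP (LK LD1_c15 LD2_c12 LD3_c60)) = (LP (LK LD1_c15 LD2_c10 LD3_c13)) :=
  Lgr Lrot101 (Lpr_af (f757054 IH) (Lpe (f757050 IH) (Lpr_af (f757044 IH) (Lpn (LP (LK LD1_c15 LD2_c10 LD3_c13))))))
theorem f757695 : Led Lsl_ft (LP (LK LD1_c16 LD2_c28 LD3_c54)) = (LP (LK LD1_c22 LD2_c54 LD3_c32)) :=
  Lgr Lrot54 (Lpe (f272673 IH) (Lpe (f757059 IH) (Lpr_df (f757689 IH) (Lpn (LP (LK LD1_c22 LD2_c54 LD3_c32))))))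
theorem f757701 : Led Lsl_ff (LP (LK LD1_c16 LD2_c28 LD3_c54)) = (LP (LK LD1_c22 LD2_c54 LD3_c32)) :=
  Lgr Lrot3 (Lpr_ft (f757695 IH) (Lpn (LP (LK LD1_c22 LD2_c54 LD3_c32))))
theorem f242222 : Led Lsl_gt (LP (LK LD1_c29 LD2_c50 LD3_c23)) = (LP (LK LD1_c21 LD2_c4 LD3_c16)) :=
  Lre_g IH (LK LD1_c29 LD2_c50 LD3_c23) (LK LD1_c21 LD2_c4 LD3_c16) Lrfl Lrfl
theorem f757705 : Led Lsl_gf (LP (LK LD1_c29 LD2_c50 LD3_c23)) = (LP (LK LD1_c22 LD2_c54 LD3_c32)) :=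
  Lgr Lrot47 (Lpr_gt (f242222 IH) (Lpr_af (f757040 IH) (Lpr_ff (f757701 IH) (Lpn (LP (LK LD1_c22 LD2_c54 LD3_c32))))))
theorem f757693 : Led Lsl_dt (LP (LK LD1_c15 LD2_c12 LD3_c60)) = (LP (LK LD1_c22 LD2_c54 LD3_c32)) :=
  Lgr Lrot42 (Lpr_df (f757689 IH) (Lpn (LP (LK LD1_c22 LD2_c54 LD3_c32))))
theorem f411253 : Led Lsl_et (LP (LK LD1_c15 LD2_c12 LD3_c60)) = (LP (LK LD1_c25 LD2_c1 LD3_c59)) :=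
  Lre_e IH (LK LD1_c15 LD2_c12 LD3_c60) (LK LD1_c25 LD2_c1 LD3_c59) Lrfl Lrfl
theorem f46765 : Led Lsl_gt (LP (LK LD1_c15 LD2_c23 LD3_c60)) = (LP (LK LD1_c8 LD2_c10 LD3_c45)) :=
  Lre_g IH (LK LD1_c15 LD2_c23 LD3_c60) (LK LD1_c8 LD2_c10 LD3_c45) Lrfl Lrfl
theorem f46772 : Led Lsl_et (LP (LK LD1_c25 LD2_c16 LD3_c31)) = (LP (LK LD1_c15 LD2_c23 LD3_c60)) :=
  Lre_e IH (LK LD1_c25 LD2_c16 LD3_c31) (LK LD1_c15 LD2_c23 LD3_c60) Lrfl Lrfl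
theorem f757709 : Led Lsl_df (LP (LK LD1_c29 LD2_c50 LD3_c23)) = (LP (LK LD1_c25 LD2_c16 LD3_c31)) :=
  Lgr Lrot168 (Lpr_gf (f757705 IH) (Lpe (f757693 IH) (Lpr_et (f411253 IH) (Lpe (K37.f411254 IH) (Lpe (K37.f411255 IH) (Lpr_dt (K37.f56491 IH) (Lpe (K37.f56462 IH) (Lpr_df (K37.f56454 IH) (Lpe (f46765 IH) (Lpe (f46772 IH) (Lpn (LP (LK LD1_c25 LD2_c16 LD3_c31)))))))))))))
theorem f611287 : Led Lsl_at (LP (LK LD1_c13 LD2_c51 LD3_c12)) = (LP (LK LD1_c7 LD2_c19 LD3_c29)) :=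
  Lre_a IH (LK LD1_c13 LD2_c51 LD3_c12) (LK LD1_c7 LD2_c19 LD3_c29) Lrfl Lrfl
theorem f611288 : Led Lsl_at (LP (LK LD1_c13 LD2_c51 LD3_c17)) = (LP (LK LD1_c15 LD2_c50 LD3_c38)) :=
  Lgr Lrot80 (Lpe (K47.f479710 IH) (Lpe (f611287 IH) (Lpr_ef (K64.f611285 IH) (Lpn (LP (LK LD1_c15 LD2_c50 LD3_c38))))))
theorem f46918 : Led Lsl_gt (LP (LK LD1_c15 LD2_c50 LD3_c39)) = (LP (LK LD1_c8 LD2_c26 LD3_c7)) :=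
  Lre_g IH (LK LD1_c15 LD2_c50 LD3_c39) (LK LD1_c8 LD2_c26 LD3_c7) Lrfl Lrfl
theorem f611302 : Led Lsl_ff (LP (LK LD1_c13 LD2_c51 LD3_c17)) = (LP (LK LD1_c15 LD2_c50 LD3_c39)) :=
  Lgr Lrot52 (Lpr_at (f611288 IH) (Lpe (K57.f46749 IH) (Lpe (f46918 IH) (Lpn (LP (LK LD1_c15 LD2_c50 LD3_c39))))))
theorem f611308 : Led Lsl_ft (LP (LK LD1_c13 LD2_c51 LD3_c17)) = (LP (LK LD1_c15 LD2_c50 LD3_c39)) :=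
  Lgr Lrot48 (Lpr_ff (f611302 IH) (Lpn (LP (LK LD1_c15 LD2_c50 LD3_c39))))
theorem f46766 : Led Lsl_gt (LP (LK LD1_c15 LD2_c50 LD3_c37)) = (LP (LK LD1_c15 LD2_c23 LD3_c60)) :=
  Lgr Lrot5 (Lpr_ft (K1.f46755 IH) (Lpr_at (K1.f46757 IH) (Lpe (f46765 IH) (Lpn (LP (LK LD1_c15 LD2_c23 LD3_c60))))))
theorem f611314 : Led Lsl_af (LP (LK LD1_c15 LD2_c23 LD3_c60)) = (LP (LK LD1_c15 LD2_c50 LD3_c39)) :=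
  Lgr Lrot31 (Lpe (f46766 IH) (Lpr_gf (K47.f609353 IH) (Lpr_ft (f611308 IH) (Lpn (LP (LK LD1_c15 LD2_c50 LD3_c39))))))
theorem f211223 : Led Lsl_et (LP (LK LD1_c15 LD2_c23 LD3_c60)) = (LP (LK LD1_c25 LD2_c16 LD3_c31)) :=
  Lre_e IH (LK LD1_c15 LD2_c23 LD3_c60) (LK LD1_c25 LD2_c16 LD3_c31) Lrfl Lrfl
theorem f182456 : Led Lsl_et (LP (LK LD1_c25 LD2_c46 LD3_c45)) = (LP (LK LD1_c15 LD2_c50 LD3_c39)) :=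
  Lre_e IH (LK LD1_c25 LD2_c46 LD3_c45) (LK LD1_c15 LD2_c50 LD3_c39) Lrfl Lrfl
theorem f611320 : Led Lsl_at (LP (LK LD1_c25 LD2_c16 LD3_c31)) = (LP (LK LD1_c25 LD2_c46 LD3_c45)) :=
  Lgr Lrot80 (Lpe (f211223 IH) (Lpr_af (f611314 IH) (Lpe (f182456 IH) (Lpn (LP (LK LD1_c25 LD2_c46 LD3_c45))))))
theorem f611388 : Led Lsl_af (LP (LK LD1_c25 LD2_c16 LD3_c31)) = (LP (LK LD1_c25 LD2_c46 LD3_c45)) :=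
  Lgr Lrot0 (Lpr_at (f611320 IH) (Lpn (LP (LK LD1_c25 LD2_c46 LD3_c45))))
theorem f611282 : Led Lsl_at (LP (LK LD1_c7 LD2_c19 LD3_c29)) = (LP (LK LD1_c13 LD2_c51 LD3_c12)) :=
  Lre_a IH (LK LD1_c7 LD2_c19 LD3_c29) (LK LD1_c13 LD2_c51 LD3_c12) Lrfl Lrfl
theorem f479716 : Led Lsl_et (LP (LK LD1_c13 LD2_c51 LD3_c17)) = (LP (LK LD1_c7 LD2_c19 LD3_c29)) :=
  Lre_e IH (LK LD1_c13 LD2_c51 LD3_c17) (LK LD1_c7 LD2_c19 LD3_c29) Lrfl Lrfl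
theorem f611283 : Led Lsl_af (LP (LK LD1_c13 LD2_c51 LD3_c17)) = (LP (LK LD1_c15 LD2_c50 LD3_c38)) :=
  Lgr Lrot50 (Lpr_et (f479716 IH) (Lpr_at (f611282 IH) (Lpr_et (K64.f611280 IH) (Lpn (LP (LK LD1_c15 LD2_c50 LD3_c38))))))
theorem f611322 : Led Lsl_ft (LP (LK LD1_c15 LD2_c23 LD3_c60)) = (LP (LK LD1_c15 LD2_c50 LD3_c38)) :=
  Lgr Lrot101 (Lpr_af (f611314 IH) (Lpe (f611308 IH) (Lpr_af (f611283 IH) (Lpn (LP (LK LD1_c15 LD2_c50 LD3_c38))))))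
theorem f611326 : Led Lsl_ff (LP (LK LD1_c15 LD2_c23 LD3_c60)) = (LP (LK LD1_c15 LD2_c50 LD3_c38)) :=
  Lgr Lrot3 (Lpr_ft (f611322 IH) (Lpn (LP (LK LD1_c15 LD2_c50 LD3_c38))))
theorem f46768 : Led Lsl_dt (LP (LK LD1_c15 LD2_c23 LD3_c60)) = (LP (LK LD1_c25 LD2_c16 LD3_c30)) :=
  Lre_d IH (LK LD1_c15 LD2_c23 LD3_c60) (LK LD1_c25 LD2_c16 LD3_c30) Lrfl Lrfl
theorem f611328 : Led Lsl_ft (LP (LK LD1_c25 LD2_c16 LD3_c30)) = (LP (LK LD1_c25 LD2_c46 LD3_c43)) :=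
  Lgr Lrot54 (Lpe (f46768 IH) (Lpr_ff (f611326 IH) (Lpe (K57.f46752 IH) (Lpn (LP (LK LD1_c25 LD2_c46 LD3_c43))))))
theorem f177044 : Led Lsl_gt (LP (LK LD1_c11 LD2_c12 LD3_c34)) = (LP (LK LD1_c20 LD2_c7 LD3_c7)) :=
  Lre_g IH (LK LD1_c11 LD2_c12 LD3_c34) (LK LD1_c20 LD2_c7 LD3_c7) Lrfl Lrfl
theorem f46771 : Led Lsl_dt (LP (LK LD1_c25 LD2_c16 LD3_c30)) = (LP (LK LD1_c15 LD2_c23 LD3_c60)) :=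
  Lre_d IH (LK LD1_c25 LD2_c16 LD3_c30) (LK LD1_c15 LD2_c23 LD3_c60) Lrfl Lrfl
theorem f211214 : Led Lsl_ef (LP (LK LD1_c20 LD2_c7 LD3_c7)) = (LP (LK LD1_c25 LD2_c16 LD3_c30)) :=
  Lgr Lrot17 (Lpe (f177044 IH) (Lpe (K36.f177020 IH) (Lpr_dt (K36.f177027 IH) (Lpr_gf (K13.f211212 IH) (Lpe (K13.f59273 IH) (Lpe (K11.f60768 IH) (Lpe (K1.f56464 IH) (Lpr_dt (K1.f56452 IH) (Lpe (f46765 IH) (Lpe (f46771 IH) (Lpn (LP (LK LD1_c25 LD2_c16 LD3_c30)))))))))))))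
theorem f211218 : Led Lsl_et (LP (LK LD1_c20 LD2_c7 LD3_c7)) = (LP (LK LD1_c25 LD2_c16 LD3_c30)) :=
  Lgr Lrot87 (Lpr_ef (f211214 IH) (Lpn (LP (LK LD1_c25 LD2_c16 LD3_c30))))
theorem f611334 : Led Lsl_ff (LP (LK LD1_c20 LD2_c7 LD3_c7)) = (LP (LK LD1_c26 LD2_c19 LD3_c0)) :=
  Lgr Lrot72 (Lpr_et (f211218 IH) (Lpr_ft (f611328 IH) (Lpe (K57.f611276 IH) (Lpr_ft (K47.f529397 IH) (Lpe (K64.f609295 IH) (Lpn (LP (LK LD1_c26 LD2_c19 LD3_c0))))))))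
theorem f611338 : Led Lsl_ft (LP (LK LD1_c20 LD2_c7 LD3_c7)) = (LP (LK LD1_c26 LD2_c19 LD3_c0)) :=
  Lgr Lrot48 (Lpr_ff (f611334 IH) (Lpn (LP (LK LD1_c26 LD2_c19 LD3_c0))))
theorem f449465 : Led Lsl_gt (LP (LK LD1_c20 LD2_c7 LD3_c7)) = (LP (LK LD1_c26 LD2_c19 LD3_c1)) :=
  Lgr Lrot46 (Lpe (f177044 IH) (Lpr_ft (K36.f177036 IH) (Lpr_at (K36.f449459 IH) (Lpn (LP (LK LD1_c26 LD2_c19 LD3_c1))))))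
theorem f177022 : Led Lsl_dt (LP (LK LD1_c11 LD2_c12 LD3_c34)) = (LP (LK LD1_c5 LD2_c53 LD3_c18)) :=
  Lgr Lrot77 (Lpe (K36.f177020 IH) (Lpe (K13.f177019 IH) (Lpr_ef (K13.f177016 IH) (Lpe (K18.f24433 IH) (Lpe (K36.f177021 IH) (Lpn (LP (LK LD1_c5 LD2_c53 LD3_c18))))))))
theorem f449451 : Led Lsl_af (LP (LK LD1_c11 LD2_c12 LD3_c34)) = (LP (LK LD1_c16 LD2_c20 LD3_c61)) :=
  Lgr Lrot117 (Lpr_dt (f177022 IH) (Lpr_at (K36.f449445 IH) (Lpe (K37.f418515 IH) (Lpn (LP (LK LD1_c16 LD2_c20 LD3_c61))))))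
theorem f177054 : Led Lsl_gt (LP (LK LD1_c20 LD2_c7 LD3_c8)) = (LP (LK LD1_c11 LD2_c12 LD3_c34)) :=
  Lre_g IH (LK LD1_c20 LD2_c7 LD3_c8) (LK LD1_c11 LD2_c12 LD3_c34) Lrfl Lrfl
theorem f450535 : Led Lsl_gf (LP (LK LD1_c20 LD2_c7 LD3_c8)) = (LP (LK LD1_c26 LD2_c19 LD3_c1)) :=
  Lgr Lrot47 (Lpr_gt (f177054 IH) (Lpr_af (f449451 IH) (Lpe (K36.f418517 IH) (Lpn (LP (LK LD1_c26 LD2_c19 LD3_c1))))))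
theorem f611340 : Led Lsl_af (LP (LK LD1_c20 LD2_c7 LD3_c8)) = (LP (LK LD1_c26 LD2_c19 LD3_c0)) :=
  Lgr Lrot31 (Lpr_gf (f450535 IH) (Lpe (f449465 IH) (Lpr_ft (f611338 IH) (Lpn (LP (LK LD1_c26 LD2_c19 LD3_c0))))))
theorem f529881 : Led Lsl_at (LP (LK LD1_c7 LD2_c8 LD3_c59)) = (LP (LK LD1_c13 LD2_c32 LD3_c28)) :=
  Lre_a IH (LK LD1_c7 LD2_c8 LD3_c59) (LK LD1_c13 LD2_c32 LD3_c28) Lrfl Lrfl
theorem f528077 : Led Lsl_bt (LP (LK LD1_c7 LD2_c6 LD3_c39)) = (LP (LK LD1_c13 LD2_c28 LD3_c24)) :=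
  Lre_b IH (LK LD1_c7 LD2_c6 LD3_c39) (LK LD1_c13 LD2_c28 LD3_c24) Lrfl Lrfl
theorem f528078 : Led Lsl_ft (LP (LK LD1_c13 LD2_c28 LD3_c24)) = (LP (LK LD1_c7 LD2_c8 LD3_c59)) :=
  Lgr Lrot75 (Lpe (f528077 IH) (Lpr_ff (K35.f528075 IH) (Lpe (K64.f6575 IH) (Lpn (LP (LK LD1_c7 LD2_c8 LD3_c59))))))
theorem f609315 : Led Lsl_at (LP (LK LD1_c20 LD2_c1 LD3_c60)) = (LP (LK LD1_c13 LD2_c28 LD3_c24)) :=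
  Lgr Lrot66 (Lpr_ff (K64.f609313 IH) (Lpe (f529881 IH) (Lpe (f528078 IH) (Lpn (LP (LK LD1_c13 LD2_c28 LD3_c24))))))
theorem f529885 : Led Lsl_et (LP (LK LD1_c13 LD2_c28 LD3_c24)) = (LP (LK LD1_c22 LD2_c48 LD3_c3)) :=
  Lre_e IH (LK LD1_c13 LD2_c28 LD3_c24) (LK LD1_c22 LD2_c48 LD3_c3) Lrfl Lrfl
theorem f609331 : Led Lsl_af (LP (LK LD1_c29 LD2_c15 LD3_c27)) = (LP (LK LD1_c22 LD2_c48 LD3_c3)) :=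
  Lgr Lrot50 (Lpr_et (K37.f210778 IH) (Lpr_at (f609315 IH) (Lpr_et (f529885 IH) (Lpn (LP (LK LD1_c22 LD2_c48 LD3_c3))))))
theorem f611346 : Led Lsl_dt (LP (LK LD1_c20 LD2_c7 LD3_c8)) = (LP (LK LD1_c22 LD2_c48 LD3_c3)) :=
  Lgr Lrot44 (Lpr_af (f611340 IH) (Lpr_df (K37.f418544 IH) (Lpr_af (f609331 IH) (Lpn (LP (LK LD1_c22 LD2_c48 LD3_c3))))))
theorem f611358 : Led Lsl_df (LP (LK LD1_c20 LD2_c7 LD3_c8)) = (LP (LK LD1_c22 LD2_c48 LD3_c3)) :=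
  Lgr Lrot38 (Lpr_dt (f611346 IH) (Lpn (LP (LK LD1_c22 LD2_c48 LD3_c3))))
theorem f449900 : Led Lsl_gt (LP (LK LD1_c16 LD2_c27 LD3_c38)) = (LP (LK LD1_c17 LD2_c57 LD3_c42)) :=
  Lgr Lrot46 (Lpe (K37.f227398 IH) (Lpr_ft (K36.f227414 IH) (Lpr_at (K65.f449777 IH) (Lpn (LP (LK LD1_c17 LD2_c57 LD3_c42))))))
theorem f478043 : Led Lsl_at (LP (LK LD1_c13 LD2_c28 LD3_c36)) = (LP (LK LD1_c7 LD2_c9 LD3_c36)) :=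
  Lgr Lrot100 (Lpr_af (K29.f478041 IH) (Lpn (LP (LK LD1_c7 LD2_c9 LD3_c36))))
theorem f516401 : Led Lsl_gt (LP (LK LD1_c7 LD2_c7 LD3_c33)) = (LP (LK LD1_c13 LD2_c28 LD3_c37)) :=
  Lgr Lrot5 (Lpe (K29.f478057 IH) (Lpr_at (f478043 IH) (Lpr_gf (K61.f516399 IH) (Lpn (LP (LK LD1_c13 LD2_c28 LD3_c37))))))
theorem f523922 : Led Lsl_bf (LP (LK LD1_c7 LD2_c50 LD3_c61)) = (LP (LK LD1_c13 LD2_c31 LD3_c61)) :=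
  Lgr Lrot81 (Lpr_at (K34.f477111 IH) (Lpr_bt (K34.f488018 IH) (Lpr_at (K34.f523918 IH) (Lpr_bt (K40.f456030 IH) (Lpr_at (K34.f456614 IH) (Lpn (LP (LK LD1_c13 LD2_c31 LD3_c61))))))))
theorem f524719 : Led Lsl_cf (LP (LK LD1_c13 LD2_c28 LD3_c19)) = (LP (LK LD1_c7 LD2_c39 LD3_c31)) :=
  Lgr Lrot1 (Lpr_at (K35.f481125 IH) (Lpe (K33.f481122 IH) (Lpr_at (K35.f524712 IH) (Lpn (LP (LK LD1_c7 LD2_c39 LD3_c31))))))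
theorem f524908 : Led Lsl_bf (LP (LK LD1_c7 LD2_c8 LD3_c45)) = (LP (LK LD1_c13 LD2_c28 LD3_c19)) :=
  Lgr Lrot90 (Lpr_ct (K40.f524067 IH) (Lpe (f523922 IH) (Lpr_ct (K35.f524902 IH) (Lpr_bt (K48.f89801 IH) (Lpe (f524719 IH) (Lpn (LP (LK LD1_c13 LD2_c28 LD3_c19))))))))
theorem f543199 : Led Lsl_gt (LP (LK LD1_c11 LD2_c28 LD3_c1)) = (LP (LK LD1_c7 LD2_c8 LD3_c45)) :=
  Lgr Lrot164 (Lpe (K37.f450504 IH) (Lpr_ct (K37.f543164 IH) (Lpr_gf (K34.f516386 IH) (Lpr_cf (K43.f486270 IH) (Lpe (f516401 IH) (Lpe (K29.f96885 IH) (Lpr_ct (K28.f89804 IH) (Lpe (K47.f89800 IH) (Lpe (K35.f524727 IH) (Lpe (f524908 IH) (Lpn (LP (LK LD1_c7 LD2_c8 LD3_c45)))))))))))))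
theorem f449940 : Led Lsl_dt (LP (LK LD1_c20 LD2_c1 LD3_c61)) = (LP (LK LD1_c11 LD2_c28 LD3_c1)) :=
  Lre_d IH (LK LD1_c20 LD2_c1 LD3_c61) (LK LD1_c11 LD2_c28 LD3_c1) Lrfl Lrfl
theorem f529882 : Led Lsl_et (LP (LK LD1_c22 LD2_c48 LD3_c3)) = (LP (LK LD1_c13 LD2_c28 LD3_c24)) :=
  Lre_e IH (LK LD1_c22 LD2_c48 LD3_c3) (LK LD1_c13 LD2_c28 LD3_c24) Lrfl Lrfl
theorem f611364 : Led Lsl_gf (LP (LK LD1_c20 LD2_c1 LD3_c61)) = (LP (LK LD1_c13 LD2_c28 LD3_c24)) :=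
  Lgr Lrot138 (Lpr_dt (f449940 IH) (Lpr_gt (f543199 IH) (Lpe (K35.f524068 IH) (Lpe (K40.f543279 IH) (Lpr_gt (f449900 IH) (Lpr_ef (K36.f449429 IH) (Lpe (K36.f418519 IH) (Lpe (f450535 IH) (Lpr_df (f611358 IH) (Lpr_et (f529882 IH) (Lpn (LP (LK LD1_c13 LD2_c28 LD3_c24)))))))))))))
theorem f611366 : Led Lsl_gt (LP (LK LD1_c20 LD2_c1 LD3_c61)) = (LP (LK LD1_c13 LD2_c32 LD3_c28)) :=
  Lgr Lrot46 (Lpr_gf (f611364 IH) (Lpr_ft (f528078 IH) (Lpr_at (f529881 IH) (Lpn (LP (LK LD1_c13 LD2_c32 LD3_c28))))))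
theorem f522719 : Led Lsl_dt (LP (LK LD1_c13 LD2_c32 LD3_c28)) = (LP (LK LD1_c22 LD2_c54 LD3_c28)) :=
  Lre_d IH (LK LD1_c13 LD2_c32 LD3_c28) (LK LD1_c22 LD2_c54 LD3_c28) Lrfl Lrfl
theorem f611370 : Led Lsl_gf (LP (LK LD1_c13 LD2_c50 LD3_c43)) = (LP (LK LD1_c22 LD2_c54 LD3_c28)) :=
  Lgr Lrot134 (Lpe (K64.f567454 IH) (Lpr_et (K68.f567456 IH) (Lpe (K37.f35561 IH) (Lpe (K64.f35570 IH) (Lpr_dt (K64.f35571 IH) (Lpe (K37.f450525 IH) (Lpe (K36.f449703 IH) (Lpr_et (K37.f449717 IH) (Lpr_gt (f611366 IH) (Lpr_dt (f522719 IH) (Lpn (LP (LK LD1_c22 LD2_c54 LD3_c28)))))))))))))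
theorem f529899 : Led Lsl_et (LP (LK LD1_c13 LD2_c32 LD3_c28)) = (LP (LK LD1_c22 LD2_c54 LD3_c29)) :=
  Lre_e IH (LK LD1_c13 LD2_c32 LD3_c28) (LK LD1_c22 LD2_c54 LD3_c29) Lrfl Lrfl
theorem f611372 : Led Lsl_gt (LP (LK LD1_c16 LD2_c28 LD3_c54)) = (LP (LK LD1_c22 LD2_c54 LD3_c29)) :=
  Lgr Lrot131 (Lpe (K57.f272675 IH) (Lpr_dt (K68.f227665 IH) (Lpe (K57.f413188 IH) (Lpe (K37.f35564 IH) (Lpr_gf (K37.f35561 IH) (Lpe (K68.f567456 IH) (Lpr_dt (K64.f567454 IH) (Lpr_gf (f611370 IH) (Lpe (f522719 IH) (Lpr_et (f529899 IH) (Lpn (LP (LK LD1_c22 LD2_c54 LD3_c29)))))))))))))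
theorem f529889 : Led Lsl_at (LP (LK LD1_c13 LD2_c32 LD3_c31)) = (LP (LK LD1_c22 LD2_c54 LD3_c29)) :=
  Lre_a IH (LK LD1_c13 LD2_c32 LD3_c31) (LK LD1_c22 LD2_c54 LD3_c29) Lrfl Lrfl
theorem f529887 : Led Lsl_ft (LP (LK LD1_c22 LD2_c54 LD3_c33)) = (LP (LK LD1_c13 LD2_c32 LD3_c31)) :=
  Lre_f IH (LK LD1_c22 LD2_c54 LD3_c33) (LK LD1_c13 LD2_c32 LD3_c31) Lrfl Lrfl
theorem f611374 : Led Lsl_gf (LP (LK LD1_c16 LD2_c28 LD3_c54)) = (LP (LK LD1_c22 LD2_c54 LD3_c33)) :=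
  Lgr Lrot47 (Lpr_gt (f611372 IH) (Lpe (f529889 IH) (Lpe (f529887 IH) (Lpn (LP (LK LD1_c22 LD2_c54 LD3_c33))))))
theorem f46643 : Led Lsl_at (LP (LK LD1_c8 LD2_c10 LD3_c45)) = (LP (LK LD1_c8 LD2_c26 LD3_c7)) :=
  Lgr Lrot80 (Lpe (K1.f46642 IH) (Lpr_af (K1.f46637 IH) (Lpe (K1.f46596 IH) (Lpn (LP (LK LD1_c8 LD2_c26 LD3_c7))))))
theorem f46748 : Led Lsl_ft (LP (LK LD1_c15 LD2_c23 LD3_c59)) = (LP (LK LD1_c8 LD2_c10 LD3_c45)) :=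
  Lre_f IH (LK LD1_c15 LD2_c23 LD3_c59) (LK LD1_c8 LD2_c10 LD3_c45) Lrfl Lrfl
theorem f444530 : Led Lsl_gt (LP (LK LD1_c15 LD2_c23 LD3_c59)) = (LP (LK LD1_c15 LD2_c50 LD3_c39)) :=
  Lgr Lrot5 (Lpr_ft (f46748 IH) (Lpr_at (f46643 IH) (Lpe (f46918 IH) (Lpn (LP (LK LD1_c15 LD2_c50 LD3_c39))))))
theorem f611376 : Led Lsl_dt (LP (LK LD1_c25 LD2_c46 LD3_c45)) = (LP (LK LD1_c22 LD2_c54 LD3_c33)) :=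
  Lgr Lrot136 (Lpr_et (f182456 IH) (Lpe (f444530 IH) (Lpe (K1.f46754 IH) (Lpr_dt (K1.f56349 IH) (Lpe (K2.f56367 IH) (Lpe (K55.f56115 IH) (Lpe (K57.f445119 IH) (Lpe (K57.f272676 IH) (Lpr_dt (f272673 IH) (Lpr_gf (f611374 IH) (Lpn (LP (LK LD1_c22 LD2_c54 LD3_c33)))))))))))))
theorem f611378 : Led Lsl_df (LP (LK LD1_c25 LD2_c46 LD3_c45)) = (LP (LK LD1_c22 LD2_c54 LD3_c33)) :=
  Lgr Lrot38 (Lpr_dt (f611376 IH) (Lpn (LP (LK LD1_c22 LD2_c54 LD3_c33))))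
theorem f757711 : Led Lsl_at (LP (LK LD1_c29 LD2_c50 LD3_c23)) = (LP (LK LD1_c22 LD2_c54 LD3_c33)) :=
  Lgr Lrot51 (Lpr_df (f757709 IH) (Lpr_af (f611388 IH) (Lpr_df (f611378 IH) (Lpn (LP (LK LD1_c22 LD2_c54 LD3_c33))))))
theorem f757715 : Led Lsl_ff (LP (LK LD1_c29 LD2_c50 LD3_c23)) = (LP (LK LD1_c22 LD2_c54 LD3_c29)) :=
  Lgr Lrot30 (Lpr_at (f757711 IH) (Lpr_ft (f529887 IH) (Lpr_at (f529889 IH) (Lpn (LP (LK LD1_c22 LD2_c54 LD3_c29))))))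
theorem f757717 : Led Lsl_ft (LP (LK LD1_c29 LD2_c50 LD3_c23)) = (LP (LK LD1_c22 LD2_c54 LD3_c29)) :=
  Lgr Lrot48 (Lpr_ff (f757715 IH) (Lpn (LP (LK LD1_c22 LD2_c54 LD3_c29))))
theorem f529375 : Led Lsl_at (LP (LK LD1_c22 LD2_c54 LD3_c29)) = (LP (LK LD1_c13 LD2_c32 LD3_c31)) :=
  Lre_a IH (LK LD1_c22 LD2_c54 LD3_c29) (LK LD1_c13 LD2_c32 LD3_c31) Lrfl Lrfl
theorem f757719 : Led Lsl_gt (LP (LK LD1_c21 LD2_c4 LD3_c16)) = (LP (LK LD1_c13 LD2_c32 LD3_c31)) :=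
  Lgr Lrot46 (Lpe (f242222 IH) (Lpr_ft (f757717 IH) (Lpr_at (f529375 IH) (Lpn (LP (LK LD1_c13 LD2_c32 LD3_c31))))))
theorem f242221 : Led Lsl_et (LP (LK LD1_c11 LD2_c59 LD3_c34)) = (LP (LK LD1_c21 LD2_c4 LD3_c16)) :=
  Lre_e IH (LK LD1_c11 LD2_c59 LD3_c34) (LK LD1_c21 LD2_c4 LD3_c16) Lrfl Lrfl
theorem f894061 : Led Lsl_dt (LP (LK LD1_c11 LD2_c59 LD3_c34)) = v37328 :=
  Lgr Lrot56 (Lpr_et (f242221 IH) (Lpr_gt (f757719 IH) (Lpe (f529883 IH) (Lpr_dt (f522707 IH) (Lpe (f609327 IH) (Lpr_df (K61.f70734 IH) (Lpr_et (K61.f70588 IH) (Lpr_gt (K37.f38305 IH) (Lpe (K37.f70569 IH) (Lpr_gt (f894056 IH) (Lpn v37328)))))))))))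
theorem f894064 : Led Lsl_ct (LP (LK LD1_c8 LD2_c51 LD3_c23)) = v37328 :=
  Lgr Lrot7 (Lpe (K50.f227646 IH) (Lpe (K50.f37214 IH) (Lpe (K6.f35662 IH) (Lpe (K1.f38633 IH) (Lpe (K64.f38691 IH) (Lpr_gt (K1.f35694 IH) (Lpr_dt (K37.f35679 IH) (Lpr_gt (K50.f37794 IH) (Lpr_dt (f894061 IH) (Lpn v37328))))))))))
theorem f211185 : Led Lsl_ct (LP (LK LD1_c8 LD2_c47 LD3_c54)) = (LP (LK LD1_c16 LD2_c27 LD3_c54)) :=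
  Lre_c IH (LK LD1_c8 LD2_c47 LD3_c54) (LK LD1_c16 LD2_c27 LD3_c54) Lrfl Lrfl
theorem f894058 : Led Lsl_gf (LP (LK LD1_c16 LD2_c31 LD3_c46)) = v37328 :=
  Lgr Lrot76 (Lpr_af (K68.f877322 IH) (Lpe (K68.f70577 IH) (Lpr_gt (f894056 IH) (Lpn v37328))))
theorem f877072 : Led Lsl_dt (LP (LK LD1_c16 LD2_c25 LD3_c40)) = (LP (LK LD1_c15 LD2_c8 LD3_c48)) :=
  Lgr Lrot42 (Lpr_df (K68.f877070 IH) (Lpn (LP (LK LD1_c15 LD2_c8 LD3_c48))))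
theorem f36200 : Led Lsl_ct (LP (LK LD1_c26 LD2_c23 LD3_c8)) = (LP (LK LD1_c16 LD2_c25 LD3_c40)) :=
  Lre_c IH (LK LD1_c26 LD2_c23 LD3_c8) (LK LD1_c16 LD2_c25 LD3_c40) Lrfl Lrfl
theorem f894066 : Led Lsl_gt (LP (LK LD1_c16 LD2_c27 LD3_c54)) = (LP (LK LD1_c26 LD2_c23 LD3_c8)) :=
  Lgr Lrot150 (Lpe (f211185 IH) (Lpr_gf (K37.f211182 IH) (Lpe (K37.f99378 IH) (Lpr_gt (K50.f211186 IH) (Lpr_ct (f894064 IH) (Lpe (f894058 IH) (Lpr_ct (K68.f877087 IH) (Lpe (f877072 IH) (Lpe (f36200 IH) (Lpn (LP (LK LD1_c26 LD2_c23 LD3_c8))))))))))))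
theorem f894067 : Led Lsl_gt (LP (LK LD1_c16 LD2_c27 LD3_c54)) = (LP (LK LD1_c26 LD2_c23 LD3_c8)) :=
  Leop (Lpe (f894066 IH) (Lpn (LP (LK LD1_c16 LD2_c27 LD3_c54))))
theorem seed_2159 : LEOK LG_g (LK LD1_c16 LD2_c27 LD3_c54) :=
  Leoe_g (LK LD1_c16 LD2_c27 LD3_c54) (f894067 IH)
def v37329 : LQ := Led Lsl_bt (LP (LK LD1_c8 LD2_c50 LD3_c61))
theorem f894072 : Led Lsl_bt (LP (LK LD1_c8 LD2_c50 LD3_c61)) = v37329 :=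
  Lrfl
theorem f743222 : Led Lsl_ft (LP (LK LD1_c9 LD2_c8 LD3_c24)) = (LP (LK LD1_c8 LD2_c50 LD3_c61)) :=
  Lgr Lrot48 (Lpr_ff (K65.f743218 IH) (Lpn (LP (LK LD1_c8 LD2_c50 LD3_c61))))
theorem f894075 : Led Lsl_ff (LP (LK LD1_c9 LD2_c7 LD3_c11)) = v37329 :=
  Lgr Lrot25 (Lpe (K65.f161337 IH) (Lpr_ft (f743222 IH) (Lpr_bt (f894072 IH) (Lpn v37329))))
theorem f894078 : Led Lsl_ft (LP (LK LD1_c9 LD2_c7 LD3_c11)) = v37329 :=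
  Lgr Lrot48 (Lpr_ff (f894075 IH) (Lpn v37329))
theorem f894080 : Led Lsl_af (LP (LK LD1_c11 LD2_c36 LD3_c24)) = v37329 :=
  Lgr Lrot45 (Lpr_ft (K36.f424572 IH) (Lpr_at (K65.f424565 IH) (Lpr_ft (f894078 IH) (Lpn v37329))))
theorem f825966 : Led Lsl_bt (LP (LK LD1_c8 LD2_c49 LD3_c41)) = (LP (LK LD1_c16 LD2_c30 LD3_c23)) :=
  Lre_b IH (LK LD1_c8 LD2_c49 LD3_c41) (LK LD1_c16 LD2_c30 LD3_c23) Lrfl Lrfl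
theorem f825967 : Led Lsl_ff (LP (LK LD1_c8 LD2_c50 LD3_c13)) = (LP (LK LD1_c16 LD2_c30 LD3_c23)) :=
  Lgr Lrot25 (Lpr_bt (K65.f39981 IH) (Lpr_ft (K65.f696670 IH) (Lpqs (K65.f825961 IH) (Lpr_bt (f825966 IH) (Lpn (LP (LK LD1_c16 LD2_c30 LD3_c23)))))))
theorem f826034 : Led Lsl_gf (LP (LK LD1_c11 LD2_c36 LD3_c24)) = (LP (LK LD1_c16 LD2_c30 LD3_c23)) :=
  Lgr Lrot47 (Lpr_gt (K65.f826031 IH) (Lpe (K65.f696681 IH) (Lpr_ff (f825967 IH) (Lpn (LP (LK LD1_c16 LD2_c30 LD3_c23))))))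
theorem f894081 : Led Lsl_gt (LP (LK LD1_c9 LD2_c7 LD3_c11)) = (LP (LK LD1_c16 LD2_c30 LD3_c23)) :=
  Lgr Lrot5 (Lpr_ft (f894078 IH) (Lpe (f894080 IH) (Lpr_gf (f826034 IH) (Lpn (LP (LK LD1_c16 LD2_c30 LD3_c23))))))
theorem f894082 : Led Lsl_gt (LP (LK LD1_c9 LD2_c7 LD3_c11)) = (LP (LK LD1_c16 LD2_c30 LD3_c23)) :=
  Leop (Lpe (f894081 IH) (Lpn (LP (LK LD1_c9 LD2_c7 LD3_c11))))
theorem seed_2160 : LEOK LG_g (LK LD1_c9 LD2_c7 LD3_c11) :=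
  Leoe_g (LK LD1_c9 LD2_c7 LD3_c11) (f894082 IH)
def v37330 : LQ := Led Lsl_dt (LP (LK LD1_c8 LD2_c50 LD3_c61))
theorem f894093 : Led Lsl_dt (LP (LK LD1_c8 LD2_c50 LD3_c61)) = v37330 :=
  Lrfl
theorem f601710 : Led Lsl_df (LP (LK LD1_c9 LD2_c8 LD3_c24)) = (LP (LK LD1_c16 LD2_c52 LD3_c58)) :=
  Lgr Lrot18 (Lpe (K65.f163512 IH) (Lpr_dt (K65.f601677 IH) (Lpe (K65.f601666 IH) (Lpn (LP (LK LD1_c16 LD2_c52 LD3_c58))))))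
theorem f894096 : Led Lsl_ff (LP (LK LD1_c16 LD2_c52 LD3_c58)) = v37330 :=
  Lgr Lrot19 (Lpe (f601710 IH) (Lpr_ft (f743222 IH) (Lpr_dt (f894093 IH) (Lpn v37330))))
theorem f894098 : Led Lsl_ft (LP (LK LD1_c16 LD2_c52 LD3_c58)) = v37330 :=
  Lgr Lrot48 (Lpr_ff (f894096 IH) (Lpn v37330))
theorem f210939 : Led Lsl_et (LP (LK LD1_c20 LD2_c20 LD3_c57)) = (LP (LK LD1_c11 LD2_c23 LD3_c14)) :=
  Lre_e IH (LK LD1_c20 LD2_c20 LD3_c57) (LK LD1_c11 LD2_c23 LD3_c14) Lrfl Lrfl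
theorem f210935 : Led Lsl_bt (LP (LK LD1_c11 LD2_c23 LD3_c16)) = (LP (LK LD1_c20 LD2_c20 LD3_c57)) :=
  Lre_b IH (LK LD1_c11 LD2_c23 LD3_c16) (LK LD1_c20 LD2_c20 LD3_c57) Lrfl Lrfl
theorem f210934 : Led Lsl_bt (LP (LK LD1_c14 LD2_c59 LD3_c20)) = (LP (LK LD1_c7 LD2_c56 LD3_c37)) :=
  Lre_b IH (LK LD1_c14 LD2_c59 LD3_c20) (LK LD1_c7 LD2_c56 LD3_c37) Lrfl Lrfl
theorem f210936 : Led Lsl_dt (LP (LK LD1_c20 LD2_c20 LD3_c57)) = (LP (LK LD1_c14 LD2_c59 LD3_c20)) :=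
  Lgr Lrot79 (Lpe (f210935 IH) (Lpr_df (K37.f210927 IH) (Lpe (f210934 IH) (Lpn (LP (LK LD1_c14 LD2_c59 LD3_c20))))))
theorem f407914 : Led Lsl_ct (LP (LK LD1_c6 LD2_c25 LD3_c35)) = (LP (LK LD1_c12 LD2_c23 LD3_c50)) :=
  Lre_c IH (LK LD1_c6 LD2_c25 LD3_c35) (LK LD1_c12 LD2_c23 LD3_c50) Lrfl Lrfl
theorem f387018 : Led Lsl_et (LP (LK LD1_c11 LD2_c6 LD3_c52)) = (LP (LK LD1_c5 LD2_c37 LD3_c43)) :=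
  Lre_e IH (LK LD1_c11 LD2_c6 LD3_c52) (LK LD1_c5 LD2_c37 LD3_c43) Lrfl Lrfl
theorem f117790 : Led Lsl_et (LP (LK LD1_c6 LD2_c14 LD3_c31)) = (LP (LK LD1_c12 LD2_c7 LD3_c16)) :=
  Lre_e IH (LK LD1_c6 LD2_c14 LD3_c31) (LK LD1_c12 LD2_c7 LD3_c16) Lrfl Lrfl
theorem f551960 : Led Lsl_af (LP (LK LD1_c11 LD2_c6 LD3_c52)) = (LP (LK LD1_c12 LD2_c7 LD3_c16)) :=
  Lgr Lrot50 (Lpr_et (f387018 IH) (Lpr_at (K39.f551950 IH) (Lpr_et (f117790 IH) (Lpn (LP (LK LD1_c12 LD2_c7 LD3_c16))))))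
theorem f75103 : Led Lsl_dt (LP (LK LD1_c6 LD2_c14 LD3_c29)) = (LP (LK LD1_c12 LD2_c7 LD3_c16)) :=
  Lre_d IH (LK LD1_c6 LD2_c14 LD3_c29) (LK LD1_c12 LD2_c7 LD3_c16) Lrfl Lrfl
theorem f498704 : Led Lsl_af (LP (LK LD1_c6 LD2_c14 LD3_c29)) = (LP (LK LD1_c5 LD2_c54 LD3_c12)) :=
  Lgr Lrot0 (Lpr_at (K39.f498702 IH) (Lpn (LP (LK LD1_c5 LD2_c54 LD3_c12))))
theorem f619434 : Led Lsl_dt (LP (LK LD1_c11 LD2_c6 LD3_c52)) = (LP (LK LD1_c5 LD2_c54 LD3_c12)) :=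
  Lgr Lrot44 (Lpr_af (f551960 IH) (Lpe (f75103 IH) (Lpr_af (f498704 IH) (Lpn (LP (LK LD1_c5 LD2_c54 LD3_c12))))))
theorem f387019 : Led Lsl_ft (LP (LK LD1_c20 LD2_c0 LD3_c12)) = (LP (LK LD1_c11 LD2_c6 LD3_c52)) :=
  Lre_f IH (LK LD1_c20 LD2_c0 LD3_c12) (LK LD1_c11 LD2_c6 LD3_c52) Lrfl Lrfl
theorem f619440 : Led Lsl_df (LP (LK LD1_c20 LD2_c0 LD3_c12)) = (LP (LK LD1_c11 LD2_c34 LD3_c14)) :=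
  Lgr Lrot78 (Lpr_ft (f387019 IH) (Lpr_dt (f619434 IH) (Lpr_ft (K39.f498701 IH) (Lpn (LP (LK LD1_c11 LD2_c34 LD3_c14))))))
theorem f619442 : Led Lsl_dt (LP (LK LD1_c20 LD2_c0 LD3_c12)) = (LP (LK LD1_c11 LD2_c34 LD3_c14)) :=
  Lgr Lrot42 (Lpr_df (f619440 IH) (Lpn (LP (LK LD1_c11 LD2_c34 LD3_c14))))
theorem f387008 : Led Lsl_ff (LP (LK LD1_c2 LD2_c44 LD3_c48)) = (LP (LK LD1_c4 LD2_c19 LD3_c19)) :=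
  Lgr Lrot3 (Lpr_ft (K39.f387001 IH) (Lpn (LP (LK LD1_c4 LD2_c19 LD3_c19))))
theorem f180190 : Led Lsl_dt (LP (LK LD1_c8 LD2_c37 LD3_c0)) = (LP (LK LD1_c4 LD2_c19 LD3_c19)) :=
  Lre_d IH (LK LD1_c8 LD2_c37 LD3_c0) (LK LD1_c4 LD2_c19 LD3_c19) Lrfl Lrfl
theorem f387012 : Led Lsl_ft (LP (LK LD1_c5 LD2_c37 LD3_c43)) = (LP (LK LD1_c8 LD2_c37 LD3_c0)) :=
  Lgr Lrot54 (Lpe (K39.f387010 IH) (Lpr_ff (f387008 IH) (Lpe (f180190 IH) (Lpn (LP (LK LD1_c8 LD2_c37 LD3_c0))))))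
theorem f180197 : Led Lsl_et (LP (LK LD1_c8 LD2_c37 LD3_c0)) = (LP (LK LD1_c16 LD2_c8 LD3_c34)) :=
  Lre_e IH (LK LD1_c8 LD2_c37 LD3_c0) (LK LD1_c16 LD2_c8 LD3_c34) Lrfl Lrfl
theorem f180182 : Led Lsl_ft (LP (LK LD1_c16 LD2_c8 LD3_c34)) = (LP (LK LD1_c26 LD2_c5 LD3_c21)) :=
  Lre_f IH (LK LD1_c16 LD2_c8 LD3_c34) (LK LD1_c26 LD2_c5 LD3_c21) Lrfl Lrfl
theorem f387020 : Led Lsl_ef (LP (LK LD1_c20 LD2_c0 LD3_c12)) = (LP (LK LD1_c26 LD2_c5 LD3_c21)) :=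
  Lgr Lrot21 (Lpr_ft (f387019 IH) (Lpr_et (f387018 IH) (Lpr_ft (f387012 IH) (Lpr_et (f180197 IH) (Lpr_ft (f180182 IH) (Lpn (LP (LK LD1_c26 LD2_c5 LD3_c21))))))))
theorem f387025 : Led Lsl_et (LP (LK LD1_c20 LD2_c0 LD3_c12)) = (LP (LK LD1_c26 LD2_c5 LD3_c21)) :=
  Lgr Lrot87 (Lpr_ef (f387020 IH) (Lpn (LP (LK LD1_c26 LD2_c5 LD3_c21))))
theorem f180169 : Led Lsl_bt (LP (LK LD1_c26 LD2_c5 LD3_c21)) = (LP (LK LD1_c16 LD2_c8 LD3_c38)) :=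
  Lre_b IH (LK LD1_c26 LD2_c5 LD3_c21) (LK LD1_c16 LD2_c8 LD3_c38) Lrfl Lrfl
theorem f387027 : Led Lsl_bf (LP (LK LD1_c20 LD2_c0 LD3_c12)) = (LP (LK LD1_c16 LD2_c21 LD3_c14)) :=
  Lgr Lrot96 (Lpr_et (f387025 IH) (Lpr_bt (f180169 IH) (Lpr_et (K37.f269597 IH) (Lpn (LP (LK LD1_c16 LD2_c21 LD3_c14))))))
theorem f619444 : Led Lsl_bf (LP (LK LD1_c12 LD2_c23 LD3_c53)) = (LP (LK LD1_c11 LD2_c34 LD3_c14)) :=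
  Lgr Lrot93 (Lpe (K37.f407940 IH) (Lpe (f387027 IH) (Lpr_dt (f619442 IH) (Lpn (LP (LK LD1_c11 LD2_c34 LD3_c14))))))
theorem f619446 : Led Lsl_bt (LP (LK LD1_c6 LD2_c25 LD3_c35)) = (LP (LK LD1_c5 LD2_c54 LD3_c12)) :=
  Lgr Lrot35 (Lpe (K32.f407944 IH) (Lpr_bf (f619444 IH) (Lpe (K39.f498701 IH) (Lpn (LP (LK LD1_c5 LD2_c54 LD3_c12))))))
def v16169 : LQ := Led Lsl_gt (LP (LK LD1_c5 LD2_c54 LD3_c12))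
theorem f746823 : Led Lsl_gt (LP (LK LD1_c5 LD2_c54 LD3_c12)) = v16169 :=
  Lrfl
theorem f445201 : Led Lsl_bt (LP (LK LD1_c5 LD2_c46 LD3_c32)) = (LP (LK LD1_c11 LD2_c23 LD3_c14)) :=
  Lre_b IH (LK LD1_c5 LD2_c46 LD3_c32) (LK LD1_c11 LD2_c23 LD3_c14) Lrfl Lrfl
theorem f892566 : v16169 = (LP (LK LD1_c11 LD2_c23 LD3_c14)) :=
  (Llr Lrot164 (Lpe (f746823 IH) (Lpe (f619446 IH) (Lpr_ct (f407914 IH) (Lpq (K68.f892564 IH) (Lpe (K68.f798315 IH) (Lpe (K68.f798319 IH) (Lpr_gf (K68.f892514 IH) (Lpe (K39.f70141 IH) (Lpe (K65.f81139 IH) (Lpe (K40.f81449 IH) (Lpe (K46.f445202 IH) (Lpr_bt (f445201 IH) (Lpn (LP (LK LD1_c11 LD2_c23 LD3_c14)))))))))))))))).symm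
theorem f138608 : Led Lsl_et (LP (LK LD1_c2 LD2_c53 LD3_c30)) = (LP (LK LD1_c5 LD2_c54 LD3_c12)) :=
  Lre_e IH (LK LD1_c2 LD2_c53 LD3_c30) (LK LD1_c5 LD2_c54 LD3_c12) Lrfl Lrfl
theorem f892578 : Led Lsl_gt (LP (LK LD1_c14 LD2_c59 LD3_c20)) = (LP (LK LD1_c16 LD2_c52 LD3_c58)) :=
  Lgr Lrot112 (Lpe (f210936 IH) (Lpr_et (f210939 IH) (Lpq (f892566 IH) (Lpe (f746823 IH) (Lpe (f138608 IH) (Lpe (K36.f138598 IH) (Lpr_gf (K36.f202245 IH) (Lpe (K11.f202184 IH) (Lpe (K11.f202163 IH) (Lpe (K65.f161339 IH) (Lpr_dt (K65.f574690 IH) (Lpn (LP (LK LD1_c16 LD2_c52 LD3_c58))))))))))))))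
theorem f210922 : Led Lsl_bt (LP (LK LD1_c7 LD2_c56 LD3_c37)) = (LP (LK LD1_c14 LD2_c59 LD3_c20)) :=
  Lre_b IH (LK LD1_c7 LD2_c56 LD3_c37) (LK LD1_c14 LD2_c59 LD3_c20) Lrfl Lrfl
theorem f408183 : Led Lsl_bt (LP (LK LD1_c8 LD2_c45 LD3_c11)) = (LP (LK LD1_c4 LD2_c23 LD3_c40)) :=
  Lre_b IH (LK LD1_c8 LD2_c45 LD3_c11) (LK LD1_c4 LD2_c23 LD3_c40) Lrfl Lrfl
theorem f576136 : Led Lsl_ft (LP (LK LD1_c14 LD2_c59 LD3_c20)) = (LP (LK LD1_c8 LD2_c45 LD3_c11)) :=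
  Lgr Lrot75 (Lpe (f210922 IH) (Lpr_ff (K43.f576131 IH) (Lpe (f408183 IH) (Lpn (LP (LK LD1_c8 LD2_c45 LD3_c11))))))
theorem f608580 : Led Lsl_at (LP (LK LD1_c8 LD2_c45 LD3_c11)) = (LP (LK LD1_c16 LD2_c23 LD3_c5)) :=
  Lre_a IH (LK LD1_c8 LD2_c45 LD3_c11) (LK LD1_c16 LD2_c23 LD3_c5) Lrfl Lrfl
theorem f892582 : Led Lsl_gf (LP (LK LD1_c16 LD2_c23 LD3_c5)) = (LP (LK LD1_c16 LD2_c52 LD3_c58)) :=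
  Lgr Lrot76 (Lpe (f608580 IH) (Lpe (f576136 IH) (Lpr_gt (f892578 IH) (Lpn (LP (LK LD1_c16 LD2_c52 LD3_c58))))))
theorem f163516 : Led Lsl_ft (LP (LK LD1_c5 LD2_c54 LD3_c8)) = (LP (LK LD1_c11 LD2_c34 LD3_c3)) :=
  Lre_f IH (LK LD1_c5 LD2_c54 LD3_c8) (LK LD1_c11 LD2_c34 LD3_c3) Lrfl Lrfl
theorem f743220 : Led Lsl_at (LP (LK LD1_c11 LD2_c34 LD3_c3)) = (LP (LK LD1_c8 LD2_c50 LD3_c61)) :=
  Lgr Lrot66 (Lpe (f163516 IH) (Lpr_af (K65.f163512 IH) (Lpr_ff (K65.f743218 IH) (Lpn (LP (LK LD1_c8 LD2_c50 LD3_c61))))))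
theorem f601670 : Led Lsl_ft (LP (LK LD1_c20 LD2_c8 LD3_c4)) = (LP (LK LD1_c11 LD2_c13 LD3_c28)) :=
  Lre_f IH (LK LD1_c20 LD2_c8 LD3_c4) (LK LD1_c11 LD2_c13 LD3_c28) Lrfl Lrfl
theorem f601679 : Led Lsl_dt (LP (LK LD1_c11 LD2_c34 LD3_c3)) = (LP (LK LD1_c20 LD2_c8 LD3_c4)) :=
  Lgr Lrot60 (Lpe (f163516 IH) (Lpr_df (K65.f601671 IH) (Lpe (f601670 IH) (Lpn (LP (LK LD1_c20 LD2_c8 LD3_c4))))))
theorem f601708 : Led Lsl_df (LP (LK LD1_c11 LD2_c34 LD3_c3)) = (LP (LK LD1_c20 LD2_c8 LD3_c4)) :=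
  Lgr Lrot38 (Lpr_dt (f601679 IH) (Lpn (LP (LK LD1_c20 LD2_c8 LD3_c4))))
theorem f894094 : Led Lsl_af (LP (LK LD1_c20 LD2_c8 LD3_c4)) = v37330 :=
  Lgr Lrot117 (Lpe (f601708 IH) (Lpr_at (f743220 IH) (Lpr_dt (f894093 IH) (Lpn v37330))))
theorem f894100 : Led Lsl_gt (LP (LK LD1_c16 LD2_c23 LD3_c5)) = (LP (LK LD1_c20 LD2_c8 LD3_c4)) :=
  Lgr Lrot46 (Lpr_gf (f892582 IH) (Lpr_ft (f894098 IH) (Lpe (f894094 IH) (Lpn (LP (LK LD1_c20 LD2_c8 LD3_c4))))))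
theorem f894101 : Led Lsl_gt (LP (LK LD1_c16 LD2_c23 LD3_c5)) = (LP (LK LD1_c20 LD2_c8 LD3_c4)) :=
  Leop (Lpe (f894100 IH) (Lpn (LP (LK LD1_c16 LD2_c23 LD3_c5))))
theorem seed_2161 : LEOK LG_g (LK LD1_c16 LD2_c23 LD3_c5) :=
  Leoe_g (LK LD1_c16 LD2_c23 LD3_c5) (f894101 IH)
def v37336 : LQ := Led Lsl_dt (LP (LK LD1_c8 LD2_c51 LD3_c13))
theorem f894113 : Led Lsl_dt (LP (LK LD1_c8 LD2_c51 LD3_c13)) = v37336 :=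
  Lrfl
theorem f99354 : Led Lsl_bt (LP (LK LD1_c2 LD2_c10 LD3_c33)) = (LP (LK LD1_c4 LD2_c26 LD3_c47)) :=
  Lre_b IH (LK LD1_c2 LD2_c10 LD3_c33) (LK LD1_c4 LD2_c26 LD3_c47) Lrfl Lrfl
theorem f99355 : Led Lsl_gt (LP (LK LD1_c8 LD2_c51 LD3_c13)) = (LP (LK LD1_c4 LD2_c26 LD3_c47)) :=
  Lre_g IH (LK LD1_c8 LD2_c51 LD3_c13) (LK LD1_c4 LD2_c26 LD3_c47) Lrfl Lrfl
theorem f764303 : Led Lsl_bt (LP (LK LD1_c16 LD2_c30 LD3_c53)) = (LP (LK LD1_c8 LD2_c51 LD3_c13)) :=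
  Lgr Lrot22 (Lpr_ct (K52.f711292 IH) (Lpr_gf (K57.f764295 IH) (Lpr_cf (K57.f698883 IH) (Lpe (K50.f99353 IH) (Lpe (K40.f30044 IH) (Lpr_ct (K40.f30046 IH) (Lpr_gf (K4.f99342 IH) (Lpe (K37.f99344 IH) (Lpr_bt (f99354 IH) (Lpe (f99355 IH) (Lpn (LP (LK LD1_c8 LD2_c51 LD3_c13)))))))))))))
theorem f75492 : Led Lsl_et (LP (LK LD1_c17 LD2_c59 LD3_c56)) = (LP (LK LD1_c9 LD2_c49 LD3_c24)) :=
  Lre_e IH (LK LD1_c17 LD2_c59 LD3_c56) (LK LD1_c9 LD2_c49 LD3_c24) Lrfl Lrfl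
theorem f499360 : Led Lsl_ct (LP (LK LD1_c9 LD2_c49 LD3_c24)) = (LP (LK LD1_c17 LD2_c59 LD3_c55)) :=
  Lre_c IH (LK LD1_c9 LD2_c49 LD3_c24) (LK LD1_c17 LD2_c59 LD3_c55) Lrfl Lrfl
theorem f711399 : Led Lsl_ef (LP (LK LD1_c16 LD2_c30 LD3_c53)) = (LP (LK LD1_c17 LD2_c59 LD3_c55)) :=
  Lgr Lrot28 (Lpr_ct (K52.f711292 IH) (Lpr_et (f75492 IH) (Lpr_ct (f499360 IH) (Lpn (LP (LK LD1_c17 LD2_c59 LD3_c55))))))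
theorem f764307 : Led Lsl_ef (LP (LK LD1_c16 LD2_c28 LD3_c14)) = (LP (LK LD1_c8 LD2_c51 LD3_c13)) :=
  Lgr Lrot29 (Lpe (K53.f614000 IH) (Lpe (f711399 IH) (Lpr_bt (f764303 IH) (Lpn (LP (LK LD1_c8 LD2_c51 LD3_c13))))))
theorem f426432 : Led Lsl_ff (LP (LK LD1_c6 LD2_c13 LD3_c50)) = (LP (LK LD1_c4 LD2_c25 LD3_c18)) :=
  Lgr Lrot3 (Lpr_ft (K28.f426426 IH) (Lpn (LP (LK LD1_c4 LD2_c25 LD3_c18))))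
theorem f420438 : Led Lsl_et (LP (LK LD1_c6 LD2_c13 LD3_c50)) = (LP (LK LD1_c12 LD2_c6 LD3_c19)) :=
  Lre_e IH (LK LD1_c6 LD2_c13 LD3_c50) (LK LD1_c12 LD2_c6 LD3_c19) Lrfl Lrfl
theorem f764311 : Led Lsl_ft (LP (LK LD1_c12 LD2_c6 LD3_c19)) = (LP (LK LD1_c8 LD2_c51 LD3_c13)) :=
  Lgr Lrot86 (Lpe (f420438 IH) (Lpr_ff (f426432 IH) (Lpe (K41.f80769 IH) (Lpe (K53.f427424 IH) (Lpr_ef (f764307 IH) (Lpn (LP (LK LD1_c8 LD2_c51 LD3_c13))))))))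
theorem f420439 : Led Lsl_dt (LP (LK LD1_c21 LD2_c12 LD3_c23)) = (LP (LK LD1_c12 LD2_c6 LD3_c19)) :=
  Lre_d IH (LK LD1_c21 LD2_c12 LD3_c23) (LK LD1_c12 LD2_c6 LD3_c19) Lrfl Lrfl
theorem f894115 : Led Lsl_ff (LP (LK LD1_c21 LD2_c12 LD3_c23)) = v37336 :=
  Lgr Lrot19 (Lpr_dt (f420439 IH) (Lpr_ft (f764311 IH) (Lpr_dt (f894113 IH) (Lpn v37336))))
theorem f894117 : Led Lsl_ft (LP (LK LD1_c21 LD2_c12 LD3_c23)) = v37336 :=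
  Lgr Lrot48 (Lpr_ff (f894115 IH) (Lpn v37336))
theorem f38211 : Led Lsl_et (LP (LK LD1_c12 LD2_c6 LD3_c19)) = (LP (LK LD1_c6 LD2_c13 LD3_c50)) :=
  Lre_e IH (LK LD1_c12 LD2_c6 LD3_c19) (LK LD1_c6 LD2_c13 LD3_c50) Lrfl Lrfl
theorem f569651 : Led Lsl_ef (LP (LK LD1_c21 LD2_c12 LD3_c23)) = (LP (LK LD1_c13 LD2_c30 LD3_c37)) :=
  Lgr Lrot73 (Lpr_dt (f420439 IH) (Lpr_et (f38211 IH) (Lpr_dt (K41.f420436 IH) (Lpr_et (K42.f569642 IH) (Lpr_dt (K41.f98099 IH) (Lpn (LP (LK LD1_c13 LD2_c30 LD3_c37))))))))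
theorem f571083 : Led Lsl_ft (LP (LK LD1_c8 LD2_c44 LD3_c6)) = (LP (LK LD1_c13 LD2_c30 LD3_c36)) :=
  Lgr Lrot86 (Lpr_ef (K42.f571079 IH) (Lpe (K42.f570608 IH) (Lpe (K42.f138772 IH) (Lpe (K28.f426420 IH) (Lpr_ef (K45.f569647 IH) (Lpn (LP (LK LD1_c13 LD2_c30 LD3_c36))))))))
theorem f571085 : Led Lsl_ff (LP (LK LD1_c16 LD2_c21 LD3_c24)) = (LP (LK LD1_c22 LD2_c51 LD3_c27)) :=
  Lgr Lrot19 (Lpr_dt (K42.f400061 IH) (Lpr_ft (f571083 IH) (Lpr_dt (K45.f565659 IH) (Lpn (LP (LK LD1_c22 LD2_c51 LD3_c27))))))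
theorem f565662 : Led Lsl_bt (LP (LK LD1_c13 LD2_c30 LD3_c37)) = (LP (LK LD1_c22 LD2_c51 LD3_c27)) :=
  Lre_b IH (LK LD1_c13 LD2_c30 LD3_c37) (LK LD1_c22 LD2_c51 LD3_c27) Lrfl Lrfl
theorem f571097 : Led Lsl_ft (LP (LK LD1_c8 LD2_c44 LD3_c7)) = (LP (LK LD1_c13 LD2_c30 LD3_c37)) :=
  Lgr Lrot75 (Lpe (K45.f400047 IH) (Lpr_ff (f571085 IH) (Lpe (f565662 IH) (Lpn (LP (LK LD1_c13 LD2_c30 LD3_c37))))))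
theorem f471409 : Led Lsl_ft (LP (LK LD1_c24 LD2_c40 LD3_c23)) = (LP (LK LD1_c14 LD2_c53 LD3_c32)) :=
  Lre_f IH (LK LD1_c24 LD2_c40 LD3_c23) (LK LD1_c14 LD2_c53 LD3_c32) Lrfl Lrfl
theorem f471411 : Led Lsl_df (LP (LK LD1_c24 LD2_c40 LD3_c23)) = (LP (LK LD1_c23 LD2_c14 LD3_c10)) :=
  Lgr Lrot78 (Lpr_ft (f471409 IH) (Lpr_dt (K46.f471403 IH) (Lpr_ft (K45.f471410 IH) (Lpn (LP (LK LD1_c23 LD2_c14 LD3_c10))))))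
theorem f471419 : Led Lsl_dt (LP (LK LD1_c24 LD2_c40 LD3_c23)) = (LP (LK LD1_c23 LD2_c14 LD3_c10)) :=
  Lgr Lrot42 (Lpr_df (f471411 IH) (Lpn (LP (LK LD1_c23 LD2_c14 LD3_c10))))
theorem f526291 : Led Lsl_ft (LP (LK LD1_c23 LD2_c9 LD3_c11)) = (LP (LK LD1_c13 LD2_c42 LD3_c58)) :=
  Lre_f IH (LK LD1_c23 LD2_c9 LD3_c11) (LK LD1_c13 LD2_c42 LD3_c58) Lrfl Lrfl
theorem f471413 : Led Lsl_ft (LP (LK LD1_c14 LD2_c53 LD3_c32)) = (LP (LK LD1_c24 LD2_c40 LD3_c23)) :=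
  Lre_f IH (LK LD1_c14 LD2_c53 LD3_c32) (LK LD1_c24 LD2_c40 LD3_c23) Lrfl Lrfl
theorem f526292 : Led Lsl_ef (LP (LK LD1_c23 LD2_c9 LD3_c11)) = (LP (LK LD1_c24 LD2_c40 LD3_c23)) :=
  Lgr Lrot21 (Lpr_ft (f526291 IH) (Lpr_et (K53.f526283 IH) (Lpe (K46.f526209 IH) (Lpr_et (K46.f471400 IH) (Lpr_ft (f471413 IH) (Lpn (LP (LK LD1_c24 LD2_c40 LD3_c23))))))))
theorem f588019 : Led Lsl_gt (LP (LK LD1_c22 LD2_c51 LD3_c28)) = (LP (LK LD1_c23 LD2_c9 LD3_c11)) :=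
  Lgr Lrot131 (Lpe (K42.f565012 IH) (Lpr_dt (K41.f98103 IH) (Lpe (K41.f553338 IH) (Lpe (K41.f197442 IH) (Lpr_gf (K45.f588012 IH) (Lpe (K45.f471043 IH) (Lpr_dt (K45.f471045 IH) (Lpe (K62.f526358 IH) (Lpe (f471419 IH) (Lpe (f526292 IH) (Lpn (LP (LK LD1_c23 LD2_c9 LD3_c11)))))))))))))
theorem f526227 : Led Lsl_at (LP (LK LD1_c7 LD2_c53 LD3_c49)) = (LP (LK LD1_c7 LD2_c53 LD3_c52)) :=
  Lgr Lrot100 (Lpr_af (K47.f526225 IH) (Lpn (LP (LK LD1_c7 LD2_c53 LD3_c52))))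
theorem f470419 : Led Lsl_et (LP (LK LD1_c14 LD2_c53 LD3_c35)) = (LP (LK LD1_c7 LD2_c53 LD3_c49)) :=
  Lre_e IH (LK LD1_c14 LD2_c53 LD3_c35) (LK LD1_c7 LD2_c53 LD3_c49) Lrfl Lrfl
theorem f526302 : Led Lsl_at (LP (LK LD1_c13 LD2_c42 LD3_c58)) = (LP (LK LD1_c14 LD2_c53 LD3_c35)) :=
  Lgr Lrot80 (Lpr_ef (K53.f526289 IH) (Lpe (f526227 IH) (Lpe (f470419 IH) (Lpn (LP (LK LD1_c14 LD2_c53 LD3_c35))))))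
theorem f526268 : Led Lsl_gt (LP (LK LD1_c24 LD2_c40 LD3_c26)) = (LP (LK LD1_c14 LD2_c53 LD3_c35)) :=
  Lre_g IH (LK LD1_c24 LD2_c40 LD3_c26) (LK LD1_c14 LD2_c53 LD3_c35) Lrfl Lrfl
theorem f526316 : Led Lsl_gt (LP (LK LD1_c23 LD2_c9 LD3_c11)) = (LP (LK LD1_c24 LD2_c40 LD3_c26)) :=
  Lgr Lrot5 (Lpr_ft (f526291 IH) (Lpr_at (f526302 IH) (Lpe (f526268 IH) (Lpn (LP (LK LD1_c24 LD2_c40 LD3_c26))))))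
theorem f613910 : Led Lsl_at (LP (LK LD1_c23 LD2_c9 LD3_c9)) = (LP (LK LD1_c24 LD2_c40 LD3_c26)) :=
  Lgr Lrot26 (Lpr_ff (K53.f613904 IH) (Lpr_gt (f588019 IH) (Lpr_gt (f526316 IH) (Lpn (LP (LK LD1_c24 LD2_c40 LD3_c26))))))
theorem f613896 : Led Lsl_at (LP (LK LD1_c16 LD2_c21 LD3_c26)) = (LP (LK LD1_c22 LD2_c51 LD3_c28)) :=
  Lgr Lrot100 (Lpr_af (K53.f613894 IH) (Lpn (LP (LK LD1_c22 LD2_c51 LD3_c28))))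
theorem f613914 : Led Lsl_ff (LP (LK LD1_c16 LD2_c21 LD3_c26)) = (LP (LK LD1_c24 LD2_c40 LD3_c26)) :=
  Lgr Lrot30 (Lpr_at (f613896 IH) (Lpe (K53.f613904 IH) (Lpr_at (f613910 IH) (Lpn (LP (LK LD1_c24 LD2_c40 LD3_c26))))))
theorem f894118 : Led Lsl_ef (LP (LK LD1_c24 LD2_c40 LD3_c26)) = v37336 :=
  Lgr Lrot21 (Lpe (f613914 IH) (Lpr_et (K53.f400050 IH) (Lpr_ft (f571097 IH) (Lpe (f569651 IH) (Lpr_ft (f894117 IH) (Lpn v37336))))))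
theorem f526236 : Led Lsl_et (LP (LK LD1_c7 LD2_c53 LD3_c49)) = (LP (LK LD1_c14 LD2_c53 LD3_c35)) :=
  Lre_e IH (LK LD1_c7 LD2_c53 LD3_c49) (LK LD1_c14 LD2_c53 LD3_c35) Lrfl Lrfl
theorem f526234 : Led Lsl_dt (LP (LK LD1_c7 LD2_c53 LD3_c49)) = (LP (LK LD1_c7 LD2_c17 LD3_c52)) :=
  Lgr Lrot44 (Lpr_af (K47.f526225 IH) (Lpe (K47.f526215 IH) (Lpr_af (K45.f511119 IH) (Lpn (LP (LK LD1_c7 LD2_c17 LD3_c52))))))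
theorem f471016 : Led Lsl_dt (LP (LK LD1_c7 LD2_c17 LD3_c51)) = (LP (LK LD1_c3 LD2_c38 LD3_c43)) :=
  Lre_d IH (LK LD1_c7 LD2_c17 LD3_c51) (LK LD1_c3 LD2_c38 LD3_c43) Lrfl Lrfl
theorem f526243 : Led Lsl_df (LP (LK LD1_c7 LD2_c53 LD3_c49)) = (LP (LK LD1_c7 LD2_c17 LD3_c52)) :=
  Lgr Lrot78 (Lpr_ft (K47.f526237 IH) (Lpr_dt (f471016 IH) (Lpr_ft (K45.f476448 IH) (Lpn (LP (LK LD1_c7 LD2_c17 LD3_c52))))))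
theorem f488563 : Led Lsl_dt (LP (LK LD1_c13 LD2_c41 LD3_c3)) = (LP (LK LD1_c7 LD2_c17 LD3_c5)) :=
  Lgr Lrot42 (Lpr_df (K33.f488559 IH) (Lpn (LP (LK LD1_c7 LD2_c17 LD3_c5))))
theorem f526266 : Led Lsl_gf (LP (LK LD1_c6 LD2_c52 LD3_c21)) = (LP (LK LD1_c7 LD2_c17 LD3_c52)) :=
  Lgr Lrot147 (Lpr_ct (K35.f455947 IH) (Lpr_gt (K29.f483722 IH) (Lpr_ct (K46.f456520 IH) (Lpe (f488563 IH) (Lpe (K41.f465194 IH) (Lpe (K41.f458576 IH) (Lpe (K41.f458575 IH) (Lpe (K47.f446554 IH) (Lpr_df (f526243 IH) (Lpn (LP (LK LD1_c7 LD2_c17 LD3_c52))))))))))))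
theorem f472491 : Led Lsl_et (LP (LK LD1_c7 LD2_c7 LD3_c61)) = (LP (LK LD1_c13 LD2_c30 LD3_c43)) :=
  Lre_e IH (LK LD1_c7 LD2_c7 LD3_c61) (LK LD1_c13 LD2_c30 LD3_c43) Lrfl Lrfl
theorem f472488 : Led Lsl_gt (LP (LK LD1_c13 LD2_c30 LD3_c43)) = (LP (LK LD1_c22 LD2_c51 LD3_c36)) :=
  Lre_g IH (LK LD1_c13 LD2_c30 LD3_c43) (LK LD1_c22 LD2_c51 LD3_c36) Lrfl Lrfl
theorem f894114 : Led Lsl_df (LP (LK LD1_c8 LD2_c51 LD3_c13)) = v37336 :=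
  Lgr Lrot38 (Lpr_dt (f894113 IH) (Lpn v37336))
def v12684 : LQ := Led Lsl_ft (LP (LK LD1_c4 LD2_c26 LD3_c47))
theorem f696776 : Led Lsl_ft (LP (LK LD1_c4 LD2_c26 LD3_c47)) = v12684 :=
  Lrfl
theorem f696779 : Led Lsl_ff (LP (LK LD1_c4 LD2_c26 LD3_c47)) = v12684 :=
  Lgr Lrot3 (Lpr_ft (f696776 IH) (Lpn v12684))
theorem f408071 : Led Lsl_bt (LP (LK LD1_c4 LD2_c26 LD3_c47)) = (LP (LK LD1_c2 LD2_c10 LD3_c33)) :=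
  Lre_b IH (LK LD1_c4 LD2_c26 LD3_c47) (LK LD1_c2 LD2_c10 LD3_c33) Lrfl Lrfl
theorem f696780 : Led Lsl_bt K50.v4147 = v12684 :=
  Lgr Lrot35 (Lpe (K50.f631462 IH) (Lpe (f408071 IH) (Lpr_ff (f696779 IH) (Lpn v12684))))
theorem f445367 : Led Lsl_bt (LP (LK LD1_c3 LD2_c58 LD3_c0)) = (LP (LK LD1_c7 LD2_c57 LD3_c25)) :=
  Lre_b IH (LK LD1_c3 LD2_c58 LD3_c0) (LK LD1_c7 LD2_c57 LD3_c25) Lrfl Lrfl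
theorem f696824 : v12684 = (LP (LK LD1_c7 LD2_c57 LD3_c25)) :=
  Lefun (Lecon (f696780 IH) (K57.f696820 IH)) (f445367 IH)
theorem f631468 : Led Lsl_at (LP (LK LD1_c8 LD2_c51 LD3_c14)) = (LP (LK LD1_c4 LD2_c26 LD3_c47)) :=
  Lre_a IH (LK LD1_c8 LD2_c51 LD3_c14) (LK LD1_c4 LD2_c26 LD3_c47) Lrfl Lrfl
theorem f688393 : Led Lsl_at (LP (LK LD1_c7 LD2_c57 LD3_c25)) = (LP (LK LD1_c15 LD2_c0 LD3_c21)) :=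
  Lre_a IH (LK LD1_c7 LD2_c57 LD3_c25) (LK LD1_c15 LD2_c0 LD3_c21) Lrfl Lrfl
theorem f697585 : Led Lsl_ff (LP (LK LD1_c8 LD2_c51 LD3_c14)) = (LP (LK LD1_c15 LD2_c0 LD3_c21)) :=
  Lgr Lrot30 (Lpr_at (f631468 IH) (Lpr_ft (f696776 IH) (Lpqs (f696824 IH) (Lpr_at (f688393 IH) (Lpn (LP (LK LD1_c15 LD2_c0 LD3_c21)))))))
theorem f697591 : Led Lsl_gf (LP (LK LD1_c8 LD2_c51 LD3_c13)) = (LP (LK LD1_c15 LD2_c0 LD3_c21)) :=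
  Lgr Lrot47 (Lpr_gt (f99355 IH) (Lpe (f631468 IH) (Lpr_ff (f697585 IH) (Lpn (LP (LK LD1_c15 LD2_c0 LD3_c21))))))
theorem f894119 : Led Lsl_dt (LP (LK LD1_c22 LD2_c51 LD3_c36)) = (LP (LK LD1_c15 LD2_c0 LD3_c21)) :=
  Lgr Lrot171 (Lpe (f472488 IH) (Lpe (f472491 IH) (Lpr_dt (K29.f472499 IH) (Lpr_gf (f526266 IH) (Lpe (f526234 IH) (Lpr_et (f526236 IH) (Lpe (f526268 IH) (Lpr_ef (f894118 IH) (Lpe (f894114 IH) (Lpr_gf (f697591 IH) (Lpn (LP (LK LD1_c15 LD2_c0 LD3_c21)))))))))))))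
theorem f894120 : Led Lsl_dt (LP (LK LD1_c22 LD2_c51 LD3_c36)) = (LP (LK LD1_c15 LD2_c0 LD3_c21)) :=
  Leop (Lpe (f894119 IH) (Lpn (LP (LK LD1_c22 LD2_c51 LD3_c36))))
theorem seed_2162 : LEOK LG_d (LK LD1_c22 LD2_c51 LD3_c36) :=
  Leoe_d (LK LD1_c22 LD2_c51 LD3_c36) (f894120 IH)
theorem f697583 : Led Lsl_dt (LP (LK LD1_c8 LD2_c51 LD3_c14)) = (LP (LK LD1_c16 LD2_c33 LD3_c12)) :=
  Lre_d IH (LK LD1_c8 LD2_c51 LD3_c14) (LK LD1_c16 LD2_c33 LD3_c12) Lrfl Lrfl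
theorem f894127 : Led Lsl_ff (LP (LK LD1_c22 LD2_c51 LD3_c36)) = (LP (LK LD1_c16 LD2_c33 LD3_c12)) :=
  Lgr Lrot19 (Lpr_dt (f894119 IH) (Lpe (f697585 IH) (Lpr_dt (f697583 IH) (Lpn (LP (LK LD1_c16 LD2_c33 LD3_c12))))))
theorem f894135 : Led Lsl_ft (LP (LK LD1_c22 LD2_c51 LD3_c36)) = (LP (LK LD1_c16 LD2_c33 LD3_c12)) :=
  Lgr Lrot48 (Lpr_ff (f894127 IH) (Lpn (LP (LK LD1_c16 LD2_c33 LD3_c12))))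
theorem f696758 : Led Lsl_at (LP (LK LD1_c16 LD2_c33 LD3_c12)) = (LP (LK LD1_c8 LD2_c51 LD3_c16)) :=
  Lre_a IH (LK LD1_c16 LD2_c33 LD3_c12) (LK LD1_c8 LD2_c51 LD3_c16) Lrfl Lrfl
theorem f696766 : Led Lsl_gt (LP (LK LD1_c16 LD2_c33 LD3_c16)) = (LP (LK LD1_c8 LD2_c51 LD3_c16)) :=
  Lre_g IH (LK LD1_c16 LD2_c33 LD3_c16) (LK LD1_c8 LD2_c51 LD3_c16) Lrfl Lrfl
theorem f894143 : Led Lsl_gt (LP (LK LD1_c22 LD2_c51 LD3_c36)) = (LP (LK LD1_c16 LD2_c33 LD3_c16)) :=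
  Lgr Lrot5 (Lpr_ft (f894135 IH) (Lpr_at (f696758 IH) (Lpe (f696766 IH) (Lpn (LP (LK LD1_c16 LD2_c33 LD3_c16))))))
theorem f894125 : Led Lsl_df (LP (LK LD1_c22 LD2_c51 LD3_c36)) = (LP (LK LD1_c15 LD2_c0 LD3_c21)) :=
  Lgr Lrot38 (Lpr_dt (f894119 IH) (Lpn (LP (LK LD1_c15 LD2_c0 LD3_c21))))
def v12683 : LQ := Led Lsl_gt (LP (LK LD1_c4 LD2_c26 LD3_c47))
theorem f696764 : Led Lsl_gt (LP (LK LD1_c4 LD2_c26 LD3_c47)) = v12683 :=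
  Lrfl
theorem f697587 : Led Lsl_gt v12683 = (LP (LK LD1_c15 LD2_c0 LD3_c21)) :=
  Lgr Lrot46 (Lpe (f696764 IH) (Lpr_ft (f696776 IH) (Lpqs (f696824 IH) (Lpr_at (f688393 IH) (Lpn (LP (LK LD1_c15 LD2_c0 LD3_c21)))))))
theorem f764313 : Led Lsl_ff (LP (LK LD1_c12 LD2_c6 LD3_c19)) = (LP (LK LD1_c8 LD2_c51 LD3_c13)) :=
  Lgr Lrot3 (Lpr_ft (f764311 IH) (Lpn (LP (LK LD1_c8 LD2_c51 LD3_c13))))
theorem f137625 : Led Lsl_et (LP (LK LD1_c8 LD2_c48 LD3_c3)) = (LP (LK LD1_c4 LD2_c25 LD3_c15)) :=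
  Lre_e IH (LK LD1_c8 LD2_c48 LD3_c3) (LK LD1_c4 LD2_c25 LD3_c15) Lrfl Lrfl
theorem f426446 : Led Lsl_af (LP (LK LD1_c8 LD2_c48 LD3_c3)) = (LP (LK LD1_c12 LD2_c6 LD3_c19)) :=
  Lgr Lrot50 (Lpr_et (f137625 IH) (Lpr_at (K28.f426442 IH) (Lpr_et (f420438 IH) (Lpn (LP (LK LD1_c12 LD2_c6 LD3_c19))))))
theorem f764315 : (LP (LK LD1_c8 LD2_c48 LD3_c3)) = v12683 :=
  (Llr Lrot26 (Lpr_af (f426446 IH) (Lpr_ff (f764313 IH) (Lpr_gt (f99355 IH) (Lpr_gt (f696764 IH) (Lpn v12683)))))).symm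
theorem f70362 : Led Lsl_gt (LP (LK LD1_c8 LD2_c48 LD3_c23)) = (LP (LK LD1_c4 LD2_c25 LD3_c25)) :=
  Lre_g IH (LK LD1_c8 LD2_c48 LD3_c23) (LK LD1_c4 LD2_c25 LD3_c25) Lrfl Lrfl
def v37197 : LQ := Led Lsl_et (LP (LK LD1_c8 LD2_c48 LD3_c23))
theorem f893459 : Led Lsl_et (LP (LK LD1_c8 LD2_c48 LD3_c23)) = v37197 :=
  Lrfl
theorem f893460 : Led Lsl_ef (LP (LK LD1_c8 LD2_c48 LD3_c23)) = v37197 :=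
  Lgr Lrot88 (Lpr_et (f893459 IH) (Lpn v37197))
theorem f894147 : Led Lsl_dt v37197 = (LP (LK LD1_c16 LD2_c33 LD3_c16)) :=
  Lgr Lrot56 (Lpe (f893460 IH) (Lpr_gt (f70362 IH) (Lpe (K6.f38583 IH) (Lpr_dt (K4.f38515 IH) (Lpr_gt (K6.f38008 IH) (Lpe (K6.f38548 IH) (Lpr_et (K41.f203361 IH) (Lpqs (f764315 IH) (Lpr_gt (f697587 IH) (Lpe (f894125 IH) (Lpr_gt (f894143 IH) (Lpn (LP (LK LD1_c16 LD2_c33 LD3_c16))))))))))))))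
theorem f615952 : Led Lsl_ft (LP (LK LD1_c8 LD2_c48 LD3_c22)) = (LP (LK LD1_c16 LD2_c28 LD3_c18)) :=
  Lgr Lrot48 (Lpr_ff (K68.f565988 IH) (Lpn (LP (LK LD1_c16 LD2_c28 LD3_c18))))
theorem f72148 : Led Lsl_gt (LP (LK LD1_c8 LD2_c48 LD3_c22)) = (LP (LK LD1_c16 LD2_c28 LD3_c19)) :=
  Lre_g IH (LK LD1_c8 LD2_c48 LD3_c22) (LK LD1_c16 LD2_c28 LD3_c19) Lrfl Lrfl
theorem f72146 : Led Lsl_gt (LP (LK LD1_c16 LD2_c28 LD3_c19)) = (LP (LK LD1_c8 LD2_c48 LD3_c23)) :=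
  Lre_g IH (LK LD1_c16 LD2_c28 LD3_c19) (LK LD1_c8 LD2_c48 LD3_c23) Lrfl Lrfl
theorem f615958 : Led Lsl_af (LP (LK LD1_c8 LD2_c48 LD3_c23)) = (LP (LK LD1_c16 LD2_c28 LD3_c18)) :=
  Lgr Lrot31 (Lpe (f72146 IH) (Lpe (f72148 IH) (Lpr_ft (f615952 IH) (Lpn (LP (LK LD1_c16 LD2_c28 LD3_c18))))))
theorem f565889 : Led Lsl_at (LP (LK LD1_c13 LD2_c27 LD3_c50)) = (LP (LK LD1_c8 LD2_c48 LD3_c22)) :=
  Lgr Lrot80 (Lpe (K41.f93168 IH) (Lpe (K33.f510694 IH) (Lpr_ef (K41.f565887 IH) (Lpn (LP (LK LD1_c8 LD2_c48 LD3_c22))))))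
theorem f615964 : Led Lsl_ft (LP (LK LD1_c8 LD2_c48 LD3_c23)) = (LP (LK LD1_c13 LD2_c27 LD3_c50)) :=
  Lgr Lrot101 (Lpr_af (f615958 IH) (Lpe (f615952 IH) (Lpe (f565889 IH) (Lpn (LP (LK LD1_c13 LD2_c27 LD3_c50))))))
theorem f615970 : Led Lsl_ff (LP (LK LD1_c8 LD2_c48 LD3_c23)) = (LP (LK LD1_c13 LD2_c27 LD3_c50)) :=
  Lgr Lrot3 (Lpr_ft (f615964 IH) (Lpn (LP (LK LD1_c13 LD2_c27 LD3_c50))))
theorem f470678 : Led Lsl_et (LP (LK LD1_c13 LD2_c38 LD3_c47)) = (LP (LK LD1_c7 LD2_c12 LD3_c22)) :=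
  Lre_e IH (LK LD1_c13 LD2_c38 LD3_c47) (LK LD1_c7 LD2_c12 LD3_c22) Lrfl Lrfl
theorem f893461 : Led Lsl_ff (LP (LK LD1_c13 LD2_c38 LD3_c47)) = v37197 :=
  Lgr Lrot72 (Lpr_et (f470678 IH) (Lpr_ft (K33.f510724 IH) (Lpr_et (K41.f93168 IH) (Lpe (f615970 IH) (Lpr_et (f893459 IH) (Lpn v37197))))))
theorem f893462 : Led Lsl_ft (LP (LK LD1_c13 LD2_c38 LD3_c47)) = v37197 :=
  Lgr Lrot48 (Lpr_ff (f893461 IH) (Lpn v37197))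
theorem f470679 : Led Lsl_et (LP (LK LD1_c7 LD2_c14 LD3_c24)) = (LP (LK LD1_c13 LD2_c41 LD3_c59)) :=
  Lre_e IH (LK LD1_c7 LD2_c14 LD3_c24) (LK LD1_c13 LD2_c41 LD3_c59) Lrfl Lrfl
theorem f470680 : Led Lsl_df (LP (LK LD1_c13 LD2_c38 LD3_c47)) = (LP (LK LD1_c13 LD2_c41 LD3_c59)) :=
  Lgr Lrot70 (Lpr_et (f470678 IH) (Lpr_dt (K33.f470663 IH) (Lpr_et (K33.f470677 IH) (Lpr_dt (K32.f470668 IH) (Lpr_et (f470679 IH) (Lpn (LP (LK LD1_c13 LD2_c41 LD3_c59))))))))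
theorem f894149 : Led Lsl_ff (LP (LK LD1_c13 LD2_c41 LD3_c59)) = (LP (LK LD1_c16 LD2_c33 LD3_c16)) :=
  Lgr Lrot19 (Lpe (f470680 IH) (Lpr_ft (f893462 IH) (Lpr_dt (f894147 IH) (Lpn (LP (LK LD1_c16 LD2_c33 LD3_c16))))))
theorem f464930 : Led Lsl_bt (LP (LK LD1_c7 LD2_c14 LD3_c16)) = (LP (LK LD1_c13 LD2_c41 LD3_c46)) :=
  Lre_b IH (LK LD1_c7 LD2_c14 LD3_c16) (LK LD1_c13 LD2_c41 LD3_c46) Lrfl Lrfl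
theorem f510789 : Led Lsl_ff (LP (LK LD1_c13 LD2_c31 LD3_c1)) = (LP (LK LD1_c13 LD2_c41 LD3_c46)) :=
  Lgr Lrot25 (Lpr_bt (K33.f108047 IH) (Lpr_ft (K33.f510785 IH) (Lpr_bt (f464930 IH) (Lpn (LP (LK LD1_c13 LD2_c41 LD3_c46))))))
theorem f464933 : Led Lsl_bt (LP (LK LD1_c13 LD2_c41 LD3_c46)) = (LP (LK LD1_c7 LD2_c14 LD3_c16)) :=
  Lre_b IH (LK LD1_c13 LD2_c41 LD3_c46) (LK LD1_c7 LD2_c14 LD3_c16) Lrfl Lrfl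
theorem f471070 : Led Lsl_bt (LP (LK LD1_c7 LD2_c7 LD3_c60)) = (LP (LK LD1_c13 LD2_c30 LD3_c41)) :=
  Lre_b IH (LK LD1_c7 LD2_c7 LD3_c60) (LK LD1_c13 LD2_c30 LD3_c41) Lrfl Lrfl
theorem f510833 : Led Lsl_af (LP (LK LD1_c13 LD2_c41 LD3_c46)) = (LP (LK LD1_c13 LD2_c30 LD3_c41)) :=
  Lgr Lrot36 (Lpr_bt (f464933 IH) (Lpe (K33.f510777 IH) (Lpe (K33.f493665 IH) (Lpr_at (K33.f510829 IH) (Lpr_bt (f471070 IH) (Lpn (LP (LK LD1_c13 LD2_c30 LD3_c41))))))))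
theorem f511069 : Led Lsl_ft (LP (LK LD1_c13 LD2_c41 LD3_c58)) = (LP (LK LD1_c13 LD2_c30 LD3_c41)) :=
  Lgr Lrot101 (Lpr_af (K33.f511059 IH) (Lpr_ff (f510789 IH) (Lpr_af (f510833 IH) (Lpn (LP (LK LD1_c13 LD2_c30 LD3_c41))))))
theorem f511075 : Led Lsl_ff (LP (LK LD1_c13 LD2_c41 LD3_c58)) = (LP (LK LD1_c13 LD2_c30 LD3_c41)) :=
  Lgr Lrot3 (Lpr_ft (f511069 IH) (Lpn (LP (LK LD1_c13 LD2_c30 LD3_c41))))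
theorem f511077 : Led Lsl_ft (LP (LK LD1_c7 LD2_c14 LD3_c24)) = (LP (LK LD1_c7 LD2_c7 LD3_c60)) :=
  Lgr Lrot75 (Lpe (K33.f425392 IH) (Lpr_ff (f511075 IH) (Lpe (f471070 IH) (Lpn (LP (LK LD1_c7 LD2_c7 LD3_c60))))))
theorem f510831 : Led Lsl_af (LP (LK LD1_c7 LD2_c14 LD3_c23)) = (LP (LK LD1_c7 LD2_c7 LD3_c60)) :=
  Lgr Lrot0 (Lpr_at (K33.f510829 IH) (Lpn (LP (LK LD1_c7 LD2_c7 LD3_c60))))
theorem f511081 : Led Lsl_af (LP (LK LD1_c7 LD2_c14 LD3_c24)) = (LP (LK LD1_c7 LD2_c7 LD3_c61)) :=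
  Lgr Lrot45 (Lpr_ft (f511077 IH) (Lpe (f510831 IH) (Lpr_ft (K48.f510813 IH) (Lpn (LP (LK LD1_c7 LD2_c7 LD3_c61))))))
theorem f511091 : Led Lsl_at (LP (LK LD1_c13 LD2_c41 LD3_c59)) = (LP (LK LD1_c13 LD2_c30 LD3_c43)) :=
  Lgr Lrot80 (Lpe (f470679 IH) (Lpr_af (f511081 IH) (Lpe (K33.f425535 IH) (Lpn (LP (LK LD1_c13 LD2_c30 LD3_c43))))))
theorem f894157 : Led Lsl_gf (LP (LK LD1_c13 LD2_c30 LD3_c43)) = (LP (LK LD1_c8 LD2_c51 LD3_c16)) :=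
  Lgr Lrot76 (Lpe (f511091 IH) (Lpr_ff (f894149 IH) (Lpr_gt (f696766 IH) (Lpn (LP (LK LD1_c8 LD2_c51 LD3_c16))))))
def v20219 : LQ := Led Lsl_et (LP (LK LD1_c6 LD2_c52 LD3_c20))
theorem f785745 : Led Lsl_et (LP (LK LD1_c6 LD2_c52 LD3_c20)) = v20219 :=
  Lrfl
theorem f785748 : Led Lsl_df (LP (LK LD1_c13 LD2_c30 LD3_c43)) = v20219 :=
  Lgr Lrot70 (Lpr_et (K33.f425535 IH) (Lpr_dt (K29.f472499 IH) (Lpr_et (K28.f458535 IH) (Lpr_dt (K29.f458558 IH) (Lpr_et (f785745 IH) (Lpn v20219))))))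
theorem f785749 : Led Lsl_ef (LP (LK LD1_c6 LD2_c52 LD3_c20)) = v20219 :=
  Lgr Lrot88 (Lpr_et (f785745 IH) (Lpn v20219))
theorem f470770 : Led Lsl_et (LP (LK LD1_c7 LD2_c17 LD3_c14)) = (LP (LK LD1_c13 LD2_c47 LD3_c14)) :=
  Lre_e IH (LK LD1_c7 LD2_c17 LD3_c14) (LK LD1_c13 LD2_c47 LD3_c14) Lrfl Lrfl
theorem f696770 : Led Lsl_dt (LP (LK LD1_c4 LD2_c26 LD3_c47)) = (LP (LK LD1_c8 LD2_c51 LD3_c16)) :=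
  Lre_d IH (LK LD1_c4 LD2_c26 LD3_c47) (LK LD1_c8 LD2_c51 LD3_c16) Lrfl Lrfl
theorem f696775 : Led Lsl_et (LP (LK LD1_c4 LD2_c26 LD3_c47)) = (LP (LK LD1_c8 LD2_c51 LD3_c17)) :=
  Lre_e IH (LK LD1_c4 LD2_c26 LD3_c47) (LK LD1_c8 LD2_c51 LD3_c17) Lrfl Lrfl
theorem f894159 : Led Lsl_gt (LP (LK LD1_c13 LD2_c47 LD3_c14)) = (LP (LK LD1_c8 LD2_c51 LD3_c17)) :=
  Lgr Lrot131 (Lpe (f470770 IH) (Lpe (K55.f470768 IH) (Lpr_gf (K29.f455389 IH) (Lpe (K29.f477601 IH) (Lpe (K29.f458546 IH) (Lpr_ef (f785749 IH) (Lpe (f785748 IH) (Lpr_gf (f894157 IH) (Lpe (f696770 IH) (Lpr_et (f696775 IH) (Lpn (LP (LK LD1_c8 LD2_c51 LD3_c17)))))))))))))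
theorem f894160 : Led Lsl_gt (LP (LK LD1_c13 LD2_c47 LD3_c14)) = (LP (LK LD1_c8 LD2_c51 LD3_c17)) :=
  Leop (Lpe (f894159 IH) (Lpn (LP (LK LD1_c13 LD2_c47 LD3_c14))))
theorem seed_2163 : LEOK LG_g (LK LD1_c13 LD2_c47 LD3_c14) :=
  Leoe_g (LK LD1_c13 LD2_c47 LD3_c14) (f894160 IH)
def v37349 : LQ := Led Lsl_at (LP (LK LD1_c8 LD2_c51 LD3_c30))
theorem f894205 : Led Lsl_at (LP (LK LD1_c8 LD2_c51 LD3_c30)) = v37349 :=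
  Lrfl
theorem f877320 : Led Lsl_af (LP (LK LD1_c16 LD2_c33 LD3_c44)) = (LP (LK LD1_c16 LD2_c28 LD3_c47)) :=
  Lgr Lrot117 (Lpr_dt (K37.f35564 IH) (Lpr_at (K68.f877318 IH) (Lpr_dt (K37.f70563 IH) (Lpn (LP (LK LD1_c16 LD2_c28 LD3_c47))))))
theorem f413190 : Led Lsl_et (LP (LK LD1_c16 LD2_c33 LD3_c44)) = (LP (LK LD1_c26 LD2_c30 LD3_c31)) :=
  Lre_e IH (LK LD1_c16 LD2_c33 LD3_c44) (LK LD1_c26 LD2_c30 LD3_c31) Lrfl Lrfl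
theorem f877398 : Led Lsl_at (LP (LK LD1_c26 LD2_c30 LD3_c31)) = (LP (LK LD1_c26 LD2_c25 LD3_c52)) :=
  Lgr Lrot80 (Lpe (f413190 IH) (Lpr_af (f877320 IH) (Lpe (K37.f70587 IH) (Lpn (LP (LK LD1_c26 LD2_c25 LD3_c52))))))
theorem f410837 : Led Lsl_ft (LP (LK LD1_c21 LD2_c10 LD3_c37)) = (LP (LK LD1_c12 LD2_c5 LD3_c10)) :=
  Lre_f IH (LK LD1_c21 LD2_c10 LD3_c37) (LK LD1_c12 LD2_c5 LD3_c10) Lrfl Lrfl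
theorem f410858 : Led Lsl_gt (LP (LK LD1_c21 LD2_c10 LD3_c37)) = (LP (LK LD1_c16 LD2_c34 LD3_c4)) :=
  Lgr Lrot5 (Lpr_ft (f410837 IH) (Lpr_at (K37.f410844 IH) (Lpe (K47.f239032 IH) (Lpn (LP (LK LD1_c16 LD2_c34 LD3_c4))))))
theorem f193524 : Led Lsl_gt (LP (LK LD1_c8 LD2_c4 LD3_c50)) = (LP (LK LD1_c15 LD2_c12 LD3_c53)) :=
  Lre_g IH (LK LD1_c8 LD2_c4 LD3_c50) (LK LD1_c15 LD2_c12 LD3_c53) Lrfl Lrfl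
theorem f271935 : Led Lsl_gt (LP (LK LD1_c15 LD2_c12 LD3_c53)) = (LP (LK LD1_c15 LD2_c10 LD3_c6)) :=
  Lgr Lrot46 (Lpe (f193524 IH) (Lpr_ft (K16.f193520 IH) (Lpr_at (K16.f271927 IH) (Lpn (LP (LK LD1_c15 LD2_c10 LD3_c6))))))
theorem f193542 : Led Lsl_dt (LP (LK LD1_c25 LD2_c1 LD3_c53)) = (LP (LK LD1_c15 LD2_c12 LD3_c53)) :=
  Lre_d IH (LK LD1_c25 LD2_c1 LD3_c53) (LK LD1_c15 LD2_c12 LD3_c53) Lrfl Lrfl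
theorem f445532 : Led Lsl_gf (LP (LK LD1_c25 LD2_c1 LD3_c53)) = (LP (LK LD1_c16 LD2_c33 LD3_c48)) :=
  Lgr Lrot138 (Lpr_dt (f193542 IH) (Lpr_gt (f271935 IH) (Lpe (K41.f192755 IH) (Lpe (K37.f410831 IH) (Lpr_gt (f410858 IH) (Lpr_ef (K47.f445526 IH) (Lpe (K46.f445517 IH) (Lpr_gt (K40.f443812 IH) (Lpe (K37.f443805 IH) (Lpr_et (K50.f443807 IH) (Lpn (LP (LK LD1_c16 LD2_c33 LD3_c48)))))))))))))
theorem f242809 : Led Lsl_et (LP (LK LD1_c31 LD2_c44 LD3_c48)) = (LP (LK LD1_c25 LD2_c1 LD3_c53)) :=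
  Lre_e IH (LK LD1_c31 LD2_c44 LD3_c48) (LK LD1_c25 LD2_c1 LD3_c53) Lrfl Lrfl
theorem f242799 : Led Lsl_et (LP (LK LD1_c25 LD2_c1 LD3_c54)) = (LP (LK LD1_c15 LD2_c12 LD3_c53)) :=
  Lre_e IH (LK LD1_c25 LD2_c1 LD3_c54) (LK LD1_c15 LD2_c12 LD3_c53) Lrfl Lrfl
theorem f229367 : Led Lsl_et (LP (LK LD1_c8 LD2_c3 LD3_c32)) = (LP (LK LD1_c4 LD2_c1 LD3_c26)) :=
  Lre_e IH (LK LD1_c8 LD2_c3 LD3_c32) (LK LD1_c4 LD2_c1 LD3_c26) Lrfl Lrfl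
theorem f229368 : Led Lsl_dt (LP (LK LD1_c8 LD2_c3 LD3_c32)) = (LP (LK LD1_c15 LD2_c10 LD3_c14)) :=
  Lre_d IH (LK LD1_c8 LD2_c3 LD3_c32) (LK LD1_c15 LD2_c10 LD3_c14) Lrfl Lrfl
theorem f242090 : Led Lsl_gt (LP (LK LD1_c24 LD2_c59 LD3_c30)) = (LP (LK LD1_c15 LD2_c10 LD3_c14)) :=
  Lre_g IH (LK LD1_c24 LD2_c59 LD3_c30) (LK LD1_c15 LD2_c10 LD3_c14) Lrfl Lrfl
theorem f242800 : Led Lsl_dt (LP (LK LD1_c25 LD2_c1 LD3_c54)) = (LP (LK LD1_c24 LD2_c59 LD3_c30)) :=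
  Lgr Lrot136 (Lpr_et (f242799 IH) (Lpe (f193524 IH) (Lpe (K16.f193511 IH) (Lpr_dt (K12.f34066 IH) (Lpr_gf (K13.f242783 IH) (Lpr_df (K13.f242791 IH) (Lpe (K13.f242083 IH) (Lpe (f229367 IH) (Lpr_dt (f229368 IH) (Lpe (f242090 IH) (Lpn (LP (LK LD1_c24 LD2_c59 LD3_c30)))))))))))))
theorem f242808 : Led Lsl_et (LP (LK LD1_c15 LD2_c12 LD3_c53)) = (LP (LK LD1_c25 LD2_c1 LD3_c54)) :=
  Lre_e IH (LK LD1_c15 LD2_c12 LD3_c53) (LK LD1_c25 LD2_c1 LD3_c54) Lrfl Lrfl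
theorem f242810 : Led Lsl_et (LP (LK LD1_c24 LD2_c59 LD3_c30)) = (LP (LK LD1_c31 LD2_c44 LD3_c6)) :=
  Lre_e IH (LK LD1_c24 LD2_c59 LD3_c30) (LK LD1_c31 LD2_c44 LD3_c6) Lrfl Lrfl
theorem f242811 : Led Lsl_df (LP (LK LD1_c31 LD2_c44 LD3_c48)) = (LP (LK LD1_c31 LD2_c44 LD3_c6)) :=
  Lgr Lrot70 (Lpr_et (f242809 IH) (Lpr_dt (f193542 IH) (Lpr_et (f242808 IH) (Lpr_dt (f242800 IH) (Lpr_et (f242810 IH) (Lpn (LP (LK LD1_c31 LD2_c44 LD3_c6))))))))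
theorem f242816 : Led Lsl_dt (LP (LK LD1_c31 LD2_c44 LD3_c48)) = (LP (LK LD1_c31 LD2_c44 LD3_c6)) :=
  Lgr Lrot42 (Lpr_df (f242811 IH) (Lpn (LP (LK LD1_c31 LD2_c44 LD3_c6))))
theorem f70582 : Led Lsl_dt (LP (LK LD1_c16 LD2_c32 LD3_c24)) = (LP (LK LD1_c26 LD2_c25 LD3_c52)) :=
  Lgr Lrot42 (Lpr_df (K37.f70574 IH) (Lpn (LP (LK LD1_c26 LD2_c25 LD3_c52))))
theorem f445534 : Led Lsl_gt (LP (LK LD1_c31 LD2_c44 LD3_c6)) = (LP (LK LD1_c26 LD2_c25 LD3_c52)) :=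
  Lgr Lrot112 (Lpe (f242816 IH) (Lpr_et (f242809 IH) (Lpr_gf (f445532 IH) (Lpe (K50.f443807 IH) (Lpr_dt (K37.f443805 IH) (Lpe (K40.f443812 IH) (Lpr_df (K46.f445517 IH) (Lpe (K46.f444975 IH) (Lpe (K37.f70572 IH) (Lpr_dt (f70582 IH) (Lpn (LP (LK LD1_c26 LD2_c25 LD3_c52)))))))))))))
theorem f617330 : Led Lsl_gf (LP (LK LD1_c26 LD2_c29 LD3_c12)) = (LP (LK LD1_c25 LD2_c1 LD3_c53)) :=
  Lgr Lrot76 (Lpr_af (K55.f617326 IH) (Lpe (K55.f617294 IH) (Lpe (f445532 IH) (Lpn (LP (LK LD1_c25 LD2_c1 LD3_c53))))))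
theorem f617254 : Led Lsl_et (LP (LK LD1_c21 LD2_c14 LD3_c40)) = (LP (LK LD1_c26 LD2_c29 LD3_c12)) :=
  Lgr Lrot69 (Lpr_ff (K47.f576698 IH) (Lpe (K47.f543102 IH) (Lpr_ff (K55.f617246 IH) (Lpe (K55.f16587 IH) (Lpe (K55.f56394 IH) (Lpn (LP (LK LD1_c26 LD2_c29 LD3_c12))))))))
theorem f418561 : Led Lsl_dt (LP (LK LD1_c26 LD2_c26 LD3_c7)) = (LP (LK LD1_c26 LD2_c24 LD3_c56)) :=
  Lgr Lrot42 (Lpr_df (K37.f418558 IH) (Lpn (LP (LK LD1_c26 LD2_c24 LD3_c56))))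
theorem f617332 : Led Lsl_gt (LP (LK LD1_c26 LD2_c24 LD3_c56)) = (LP (LK LD1_c31 LD2_c44 LD3_c6)) :=
  Lgr Lrot139 (Lpe (f418561 IH) (Lpr_gf (K37.f543074 IH) (Lpe (f489300 IH) (Lpr_dt (K37.f489264 IH) (Lpe (K47.f576720 IH) (Lpe (K47.f417974 IH) (Lpr_et (f617254 IH) (Lpr_gf (f617330 IH) (Lpe (f242809 IH) (Lpr_dt (f242816 IH) (Lpn (LP (LK LD1_c31 LD2_c44 LD3_c6)))))))))))))
theorem f877406 : Led Lsl_ff (LP (LK LD1_c26 LD2_c30 LD3_c31)) = (LP (LK LD1_c26 LD2_c24 LD3_c56)) :=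
  Lgr Lrot52 (Lpr_at (f877398 IH) (Lpe (f445534 IH) (Lpe (f617332 IH) (Lpn (LP (LK LD1_c26 LD2_c24 LD3_c56))))))
theorem f877410 : Led Lsl_ft (LP (LK LD1_c26 LD2_c30 LD3_c31)) = (LP (LK LD1_c26 LD2_c24 LD3_c56)) :=
  Lgr Lrot48 (Lpr_ff (f877406 IH) (Lpn (LP (LK LD1_c26 LD2_c24 LD3_c56))))
theorem f205057 : Led Lsl_dt (LP (LK LD1_c16 LD2_c33 LD3_c43)) = (LP (LK LD1_c26 LD2_c30 LD3_c31)) :=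
  Lre_d IH (LK LD1_c16 LD2_c33 LD3_c43) (LK LD1_c26 LD2_c30 LD3_c31) Lrfl Lrfl
theorem f877412 : Led Lsl_ff (LP (LK LD1_c16 LD2_c33 LD3_c43)) = (LP (LK LD1_c26 LD2_c26 LD3_c7)) :=
  Lgr Lrot19 (Lpr_dt (f205057 IH) (Lpr_ft (f877410 IH) (Lpe (K37.f418558 IH) (Lpn (LP (LK LD1_c26 LD2_c26 LD3_c7))))))
theorem f70584 : Led Lsl_ft (LP (LK LD1_c16 LD2_c32 LD3_c24)) = (LP (LK LD1_c26 LD2_c29 LD3_c6)) :=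
  Lre_f IH (LK LD1_c16 LD2_c32 LD3_c24) (LK LD1_c26 LD2_c29 LD3_c6) Lrfl Lrfl
theorem f561050 : Led Lsl_af (LP (LK LD1_c26 LD2_c26 LD3_c7)) = (LP (LK LD1_c26 LD2_c29 LD3_c6)) :=
  Lgr Lrot31 (Lpr_gf (K37.f543074 IH) (Lpr_gf (f561048 IH) (Lpr_ft (f70584 IH) (Lpn (LP (LK LD1_c26 LD2_c29 LD3_c6))))))
theorem f877414 : Led Lsl_at (LP (LK LD1_c16 LD2_c33 LD3_c43)) = (LP (LK LD1_c16 LD2_c32 LD3_c24)) :=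
  Lgr Lrot66 (Lpr_ff (f877412 IH) (Lpr_af (f561050 IH) (Lpe (f70584 IH) (Lpn (LP (LK LD1_c16 LD2_c32 LD3_c24))))))
theorem f877423 : Led Lsl_af (LP (LK LD1_c8 LD2_c51 LD3_c31)) = (LP (LK LD1_c8 LD2_c50 LD3_c55)) :=
  Lgr Lrot50 (Lpr_et (K37.f16609 IH) (Lpr_at (f877414 IH) (Lpr_et (K37.f70572 IH) (Lpn (LP (LK LD1_c8 LD2_c50 LD3_c55))))))
theorem f877430 : Led Lsl_ft (LP (LK LD1_c8 LD2_c51 LD3_c28)) = (LP (LK LD1_c8 LD2_c50 LD3_c55)) :=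
  Lgr Lrot2 (Lpr_gt (K1.f16435 IH) (Lpr_gt (K40.f205045 IH) (Lpr_af (f877423 IH) (Lpn (LP (LK LD1_c8 LD2_c50 LD3_c55))))))
theorem f877438 : Led Lsl_ff (LP (LK LD1_c8 LD2_c51 LD3_c28)) = (LP (LK LD1_c8 LD2_c50 LD3_c55)) :=
  Lgr Lrot3 (Lpr_ft (f877430 IH) (Lpn (LP (LK LD1_c8 LD2_c50 LD3_c55))))
theorem f877446 : Led Lsl_at (LP (LK LD1_c8 LD2_c51 LD3_c28)) = (LP (LK LD1_c8 LD2_c50 LD3_c52)) :=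
  Lgr Lrot26 (Lpr_ff (f877438 IH) (Lpr_gt (K46.f444975 IH) (Lpr_gt (K46.f16455 IH) (Lpn (LP (LK LD1_c8 LD2_c50 LD3_c52))))))
theorem f877425 : Led Lsl_at (LP (LK LD1_c8 LD2_c51 LD3_c31)) = (LP (LK LD1_c8 LD2_c50 LD3_c55)) :=
  Lgr Lrot100 (Lpr_af (f877423 IH) (Lpn (LP (LK LD1_c8 LD2_c50 LD3_c55))))
theorem f877455 : Led Lsl_ff (LP (LK LD1_c8 LD2_c51 LD3_c31)) = (LP (LK LD1_c8 LD2_c50 LD3_c52)) :=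
  Lgr Lrot30 (Lpr_at (f877425 IH) (Lpe (f877438 IH) (Lpr_at (f877446 IH) (Lpn (LP (LK LD1_c8 LD2_c50 LD3_c52))))))
theorem f877463 : Led Lsl_ft (LP (LK LD1_c8 LD2_c51 LD3_c31)) = (LP (LK LD1_c8 LD2_c50 LD3_c52)) :=
  Lgr Lrot48 (Lpr_ff (f877455 IH) (Lpn (LP (LK LD1_c8 LD2_c50 LD3_c52))))
theorem f205054 : Led Lsl_bt (LP (LK LD1_c16 LD2_c33 LD3_c40)) = (LP (LK LD1_c8 LD2_c51 LD3_c31)) :=
  Lre_b IH (LK LD1_c16 LD2_c33 LD3_c40) (LK LD1_c8 LD2_c51 LD3_c31) Lrfl Lrfl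
theorem f445241 : Led Lsl_bt (LP (LK LD1_c8 LD2_c50 LD3_c52)) = (LP (LK LD1_c16 LD2_c32 LD3_c11)) :=
  Lre_b IH (LK LD1_c8 LD2_c50 LD3_c52) (LK LD1_c16 LD2_c32 LD3_c11) Lrfl Lrfl
theorem f877465 : Led Lsl_ff (LP (LK LD1_c16 LD2_c33 LD3_c40)) = (LP (LK LD1_c16 LD2_c32 LD3_c11)) :=
  Lgr Lrot25 (Lpr_bt (f205054 IH) (Lpr_ft (f877463 IH) (Lpr_bt (f445241 IH) (Lpn (LP (LK LD1_c16 LD2_c32 LD3_c11))))))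
theorem f877709 : Led Lsl_dt (LP (LK LD1_c8 LD2_c50 LD3_c51)) = (LP (LK LD1_c16 LD2_c32 LD3_c11)) :=
  Lre_d IH (LK LD1_c8 LD2_c50 LD3_c51) (LK LD1_c16 LD2_c32 LD3_c11) Lrfl Lrfl
theorem f877710 : Led Lsl_ft (LP (LK LD1_c8 LD2_c51 LD3_c30)) = (LP (LK LD1_c8 LD2_c50 LD3_c51)) :=
  Lgr Lrot54 (Lpe (K53.f35733 IH) (Lpr_ff (f877465 IH) (Lpe (f877709 IH) (Lpn (LP (LK LD1_c8 LD2_c50 LD3_c51))))))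
theorem f877715 : Led Lsl_ff (LP (LK LD1_c8 LD2_c51 LD3_c30)) = (LP (LK LD1_c8 LD2_c50 LD3_c51)) :=
  Lgr Lrot3 (Lpr_ft (f877710 IH) (Lpn (LP (LK LD1_c8 LD2_c50 LD3_c51))))
theorem f696706 : Led Lsl_at (LP (LK LD1_c16 LD2_c32 LD3_c10)) = (LP (LK LD1_c8 LD2_c50 LD3_c51)) :=
  Lre_a IH (LK LD1_c16 LD2_c32 LD3_c10) (LK LD1_c8 LD2_c50 LD3_c51) Lrfl Lrfl
theorem f894208 : Led Lsl_ff (LP (LK LD1_c16 LD2_c32 LD3_c10)) = v37349 :=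
  Lgr Lrot30 (Lpr_at (f696706 IH) (Lpe (f877715 IH) (Lpr_at (f894205 IH) (Lpn v37349))))
theorem f894211 : Led Lsl_ft (LP (LK LD1_c16 LD2_c32 LD3_c10)) = v37349 :=
  Lgr Lrot48 (Lpr_ff (f894208 IH) (Lpn v37349))
theorem f894206 : Led Lsl_af (LP (LK LD1_c8 LD2_c51 LD3_c30)) = v37349 :=
  Lgr Lrot0 (Lpr_at (f894205 IH) (Lpn v37349))
theorem f894213 : Led Lsl_gt (LP (LK LD1_c16 LD2_c32 LD3_c10)) = (LP (LK LD1_c16 LD2_c28 LD3_c14)) :=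
  Lgr Lrot5 (Lpr_ft (f894211 IH) (Lpe (f894206 IH) (Lpr_gf (K53.f719195 IH) (Lpn (LP (LK LD1_c16 LD2_c28 LD3_c14))))))
theorem f894214 : Led Lsl_gt (LP (LK LD1_c16 LD2_c32 LD3_c10)) = (LP (LK LD1_c16 LD2_c28 LD3_c14)) :=
  Leop (Lpe (f894213 IH) (Lpn (LP (LK LD1_c16 LD2_c32 LD3_c10))))
theorem seed_2164 : LEOK LG_g (LK LD1_c16 LD2_c32 LD3_c10) :=
  Leoe_g (LK LD1_c16 LD2_c32 LD3_c10) (f894214 IH)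
def v37384 : LQ := Led Lsl_et (LP (LK LD1_c8 LD2_c52 LD3_c48))
theorem f894387 : Led Lsl_et (LP (LK LD1_c8 LD2_c52 LD3_c48)) = v37384 :=
  Lrfl
theorem f44869 : Led Lsl_ft (LP (LK LD1_c4 LD2_c27 LD3_c28)) = (LP (LK LD1_c8 LD2_c52 LD3_c48)) :=
  Lre_f IH (LK LD1_c4 LD2_c27 LD3_c28) (LK LD1_c8 LD2_c52 LD3_c48) Lrfl Lrfl
theorem f44867 : Led Lsl_ft (LP (LK LD1_c5 LD2_c20 LD3_c10)) = (LP (LK LD1_c2 LD2_c36 LD3_c43)) :=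
  Lre_f IH (LK LD1_c5 LD2_c20 LD3_c10) (LK LD1_c2 LD2_c36 LD3_c43) Lrfl Lrfl
theorem f44868 : Led Lsl_et (LP (LK LD1_c10 LD2_c30 LD3_c20)) = (LP (LK LD1_c5 LD2_c20 LD3_c10)) :=
  Lre_e IH (LK LD1_c10 LD2_c30 LD3_c20) (LK LD1_c5 LD2_c20 LD3_c10) Lrfl Lrfl
theorem f894392 : Led Lsl_ff (LP (LK LD1_c10 LD2_c30 LD3_c20)) = v37384 :=
  Lgr Lrot72 (Lpr_et (f44868 IH) (Lpr_ft (f44867 IH) (Lpr_et (K44.f44849 IH) (Lpr_ft (f44869 IH) (Lpr_et (f894387 IH) (Lpn v37384))))))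
theorem f894396 : Led Lsl_ft (LP (LK LD1_c10 LD2_c30 LD3_c20)) = v37384 :=
  Lgr Lrot48 (Lpr_ff (f894392 IH) (Lpn v37384))
theorem f46076 : Led Lsl_gt (LP (LK LD1_c10 LD2_c30 LD3_c20)) = (LP (LK LD1_c19 LD2_c2 LD3_c19)) :=
  Lre_g IH (LK LD1_c10 LD2_c30 LD3_c20) (LK LD1_c19 LD2_c2 LD3_c19) Lrfl Lrfl
theorem f44837 : Led Lsl_et (LP (LK LD1_c2 LD2_c36 LD3_c44)) = (LP (LK LD1_c5 LD2_c20 LD3_c12)) :=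
  Lre_e IH (LK LD1_c2 LD2_c36 LD3_c44) (LK LD1_c5 LD2_c20 LD3_c12) Lrfl Lrfl
theorem f44247 : Led Lsl_ft (LP (LK LD1_c16 LD2_c35 LD3_c18)) = (LP (LK LD1_c8 LD2_c52 LD3_c23)) :=
  Lre_f IH (LK LD1_c16 LD2_c35 LD3_c18) (LK LD1_c8 LD2_c52 LD3_c23) Lrfl Lrfl
theorem f582814 : Led Lsl_et (LP (LK LD1_c10 LD2_c30 LD3_c25)) = (LP (LK LD1_c16 LD2_c35 LD3_c18)) :=
  Lgr Lrot69 (Lpe (K14.f44800 IH) (Lpe (f44837 IH) (Lpr_ff (K44.f582804 IH) (Lpr_ef (K44.f44196 IH) (Lpe (f44247 IH) (Lpn (LP (LK LD1_c16 LD2_c35 LD3_c18))))))))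
theorem f44822 : Led Lsl_bt (LP (LK LD1_c19 LD2_c2 LD3_c18)) = (LP (LK LD1_c10 LD2_c30 LD3_c25)) :=
  Lre_b IH (LK LD1_c19 LD2_c2 LD3_c18) (LK LD1_c10 LD2_c30 LD3_c25) Lrfl Lrfl
theorem f604603 : Led Lsl_ef (LP (LK LD1_c19 LD2_c2 LD3_c18)) = (LP (LK LD1_c16 LD2_c35 LD3_c53)) :=
  Lgr Lrot29 (Lpr_bt (f44822 IH) (Lpr_et (f582814 IH) (Lpe (K44.f47257 IH) (Lpn (LP (LK LD1_c16 LD2_c35 LD3_c53))))))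
theorem f604605 : Led Lsl_et (LP (LK LD1_c19 LD2_c2 LD3_c18)) = (LP (LK LD1_c16 LD2_c35 LD3_c53)) :=
  Lgr Lrot87 (Lpr_ef (f604603 IH) (Lpn (LP (LK LD1_c16 LD2_c35 LD3_c53))))
theorem f894388 : Led Lsl_af (LP (LK LD1_c19 LD2_c2 LD3_c18)) = v37384 :=
  Lgr Lrot50 (Lpr_et (f604605 IH) (Lpr_at (K44.f47123 IH) (Lpr_et (f894387 IH) (Lpn v37384))))
theorem f894398 : Led Lsl_gt (LP (LK LD1_c19 LD2_c2 LD3_c19)) = (LP (LK LD1_c19 LD2_c2 LD3_c18)) :=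
  Lgr Lrot46 (Lpe (f46076 IH) (Lpr_ft (f894396 IH) (Lpe (f894388 IH) (Lpn (LP (LK LD1_c19 LD2_c2 LD3_c18))))))
theorem f894399 : Led Lsl_gt (LP (LK LD1_c19 LD2_c2 LD3_c19)) = (LP (LK LD1_c19 LD2_c2 LD3_c18)) :=
  Leop (Lpe (f894398 IH) (Lpn (LP (LK LD1_c19 LD2_c2 LD3_c19))))
theorem seed_2165 : LEOK LG_g (LK LD1_c19 LD2_c2 LD3_c19) :=
  Leoe_g (LK LD1_c19 LD2_c2 LD3_c19) (f894399 IH)
def v37408 : LQ := Led Lsl_gt (LP (LK LD1_c8 LD2_c54 LD3_c43))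
theorem f894527 : Led Lsl_gt (LP (LK LD1_c8 LD2_c54 LD3_c43)) = v37408 :=
  Lrfl
theorem f265495 : Led Lsl_dt (LP (LK LD1_c16 LD2_c40 LD3_c16)) = (LP (LK LD1_c8 LD2_c54 LD3_c40)) :=
  Lre_d IH (LK LD1_c16 LD2_c40 LD3_c16) (LK LD1_c8 LD2_c54 LD3_c40) Lrfl Lrfl
theorem f265485 : Led Lsl_gt (LP (LK LD1_c16 LD2_c40 LD3_c15)) = (LP (LK LD1_c8 LD2_c54 LD3_c40)) :=
  Lre_g IH (LK LD1_c16 LD2_c40 LD3_c15) (LK LD1_c8 LD2_c54 LD3_c40) Lrfl Lrfl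
theorem f407698 : Led Lsl_dt (LP (LK LD1_c26 LD2_c38 LD3_c56)) = (LP (LK LD1_c16 LD2_c40 LD3_c15)) :=
  Lre_d IH (LK LD1_c26 LD2_c38 LD3_c56) (LK LD1_c16 LD2_c40 LD3_c15) Lrfl Lrfl
theorem f42338 : Led Lsl_dt (LP (LK LD1_c4 LD2_c28 LD3_c17)) = (LP (LK LD1_c8 LD2_c54 LD3_c43)) :=
  Lre_d IH (LK LD1_c4 LD2_c28 LD3_c17) (LK LD1_c8 LD2_c54 LD3_c43) Lrfl Lrfl
theorem f223550 : Led Lsl_gt (LP (LK LD1_c8 LD2_c54 LD3_c42)) = (LP (LK LD1_c4 LD2_c28 LD3_c17)) :=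
  Lre_g IH (LK LD1_c8 LD2_c54 LD3_c42) (LK LD1_c4 LD2_c28 LD3_c17) Lrfl Lrfl
theorem f42322 : Led Lsl_ct (LP (LK LD1_c2 LD2_c11 LD3_c17)) = (LP (LK LD1_c4 LD2_c28 LD3_c17)) :=
  Lre_c IH (LK LD1_c2 LD2_c11 LD3_c17) (LK LD1_c4 LD2_c28 LD3_c17) Lrfl Lrfl
theorem f348742 : Led Lsl_ct (LP (LK LD1_c9 LD2_c43 LD3_c56)) = (LP (LK LD1_c8 LD2_c54 LD3_c42)) :=
  Lgr Lrot64 (Lpr_bt (K27.f168991 IH) (Lpe (K23.f235443 IH) (Lpr_bf (K22.f314420 IH) (Lpr_ct (K19.f200744 IH) (Lpr_gf (K25.f348736 IH) (Lpe (K25.f348718 IH) (Lpe (K19.f200393 IH) (Lpe (K15.f223392 IH) (Lpr_ct (f42322 IH) (Lpe (f223550 IH) (Lpn (LP (LK LD1_c8 LD2_c54 LD3_c42)))))))))))))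
theorem f348750 : Led Lsl_cf (LP (LK LD1_c9 LD2_c43 LD3_c56)) = (LP (LK LD1_c8 LD2_c54 LD3_c42)) :=
  Lgr Lrot11 (Lpr_ct (f348742 IH) (Lpn (LP (LK LD1_c8 LD2_c54 LD3_c42))))
theorem f42204 : Led Lsl_gt (LP (LK LD1_c11 LD2_c52 LD3_c56)) = (LP (LK LD1_c6 LD2_c4 LD3_c41)) :=
  Lre_g IH (LK LD1_c11 LD2_c52 LD3_c56) (LK LD1_c6 LD2_c4 LD3_c41) Lrfl Lrfl
theorem f359924 : Led Lsl_cf (LP (LK LD1_c11 LD2_c52 LD3_c56)) = (LP (LK LD1_c15 LD2_c24 LD3_c33)) :=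
  Lgr Lrot125 (Lpr_gt (f42204 IH) (Lpe (K22.f42186 IH) (Lpr_bt (K25.f42182 IH) (Lpr_gt (K23.f42243 IH) (Lpr_bf (K26.f352568 IH) (Lpr_ct (K26.f231788 IH) (Lpr_gt (K26.f231789 IH) (Lpr_cf (K26.f359916 IH) (Lpr_bt (K26.f263531 IH) (Lpe (K26.f359922 IH) (Lpn (LP (LK LD1_c15 LD2_c24 LD3_c33)))))))))))))
theorem f894529 : Led Lsl_df (LP (LK LD1_c11 LD2_c52 LD3_c56)) = v37408 :=
  Lgr Lrot84 (Lpr_cf (f359924 IH) (Lpe (K24.f223933 IH) (Lpe (K24.f27713 IH) (Lpr_df (K23.f223221 IH) (Lpe (K27.f367539 IH) (Lpr_cf (f348750 IH) (Lpr_gt (f223550 IH) (Lpr_dt (f42338 IH) (Lpr_gt (f894527 IH) (Lpn v37408))))))))))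
theorem f602729 : Led Lsl_gt (LP (LK LD1_c20 LD2_c56 LD3_c7)) = (LP (LK LD1_c29 LD2_c45 LD3_c2)) :=
  Lre_g IH (LK LD1_c20 LD2_c56 LD3_c7) (LK LD1_c29 LD2_c45 LD3_c2) Lrfl Lrfl
theorem f894530 : Led Lsl_et (LP (LK LD1_c26 LD2_c38 LD3_c56)) = (LP (LK LD1_c29 LD2_c45 LD3_c2)) :=
  Lgr Lrot122 (Lpr_dt (f407698 IH) (Lpr_gt (f265485 IH) (Lpe (f265495 IH) (Lpr_et (K22.f265497 IH) (Lpr_gt (f894527 IH) (Lpe (f894529 IH) (Lpr_gt (f42204 IH) (Lpe (K22.f42197 IH) (Lpr_et (K56.f602725 IH) (Lpr_gt (f602729 IH) (Lpn (LP (LK LD1_c29 LD2_c45 LD3_c2)))))))))))))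
theorem f894531 : Led Lsl_et (LP (LK LD1_c26 LD2_c38 LD3_c56)) = (LP (LK LD1_c29 LD2_c45 LD3_c2)) :=
  Leop (Lpe (f894530 IH) (Lpn (LP (LK LD1_c26 LD2_c38 LD3_c56))))
theorem seed_2166 : LEOK LG_e (LK LD1_c26 LD2_c38 LD3_c56) :=
  Leoe_e (LK LD1_c26 LD2_c38 LD3_c56) (f894531 IH)
def v37599 : LQ := Led Lsl_dt (LP (LK LD1_c8 LD2_c58 LD3_c14))
theorem f895460 : Led Lsl_dt (LP (LK LD1_c8 LD2_c58 LD3_c14)) = v37599 :=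
  Lrfl
theorem f385202 : Led Lsl_ff (LP (LK LD1_c4 LD2_c28 LD3_c60)) = (LP (LK LD1_c2 LD2_c41 LD3_c30)) :=
  Lgr Lrot23 (Lpr_ct (K30.f169296 IH) (Lpr_ft (K30.f385199 IH) (Lpr_ct (K30.f175077 IH) (Lpn (LP (LK LD1_c2 LD2_c41 LD3_c30))))))
theorem f245524 : Led Lsl_at (LP (LK LD1_c4 LD2_c28 LD3_c60)) = (LP (LK LD1_c8 LD2_c56 LD3_c17)) :=
  Lre_a IH (LK LD1_c4 LD2_c28 LD3_c60) (LK LD1_c8 LD2_c56 LD3_c17) Lrfl Lrfl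
theorem f386354 : Led Lsl_gf (LP (LK LD1_c8 LD2_c56 LD3_c17)) = (LP (LK LD1_c5 LD2_c30 LD3_c31)) :=
  Lgr Lrot76 (Lpe (f245524 IH) (Lpr_ff (f385202 IH) (Lpr_gt (K27.f175098 IH) (Lpn (LP (LK LD1_c5 LD2_c30 LD3_c31))))))
def v37476 : LQ := Led Lsl_ct (LP (LK LD1_c8 LD2_c56 LD3_c17))
theorem f894841 : Led Lsl_ct (LP (LK LD1_c8 LD2_c56 LD3_c17)) = v37476 :=
  Lrfl
theorem f894844 : Led Lsl_ff (LP (LK LD1_c10 LD2_c52 LD3_c32)) = v37476 :=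
  Lgr Lrot23 (Lpr_ct (K52.f245689 IH) (Lpe (K30.f385174 IH) (Lpr_ct (f894841 IH) (Lpn v37476))))
theorem f385213 : Led Lsl_at (LP (LK LD1_c10 LD2_c52 LD3_c32)) = (LP (LK LD1_c5 LD2_c30 LD3_c33)) :=
  Lre_a IH (LK LD1_c10 LD2_c52 LD3_c32) (LK LD1_c5 LD2_c30 LD3_c33) Lrfl Lrfl
def v15009 : LQ := Led Lsl_gf (LP (LK LD1_c5 LD2_c30 LD3_c33))
theorem f729595 : Led Lsl_gf (LP (LK LD1_c5 LD2_c30 LD3_c33)) = v15009 :=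
  Lrfl
theorem f894847 : Led Lsl_gf v15009 = v37476 :=
  Lgr Lrot47 (Lpe (f729595 IH) (Lpe (f385213 IH) (Lpr_ff (f894844 IH) (Lpn v37476))))
theorem f895466 : Led Lsl_ct v15009 = v37599 :=
  Lgr Lrot151 (Lpr_gf (f894847 IH) (Lpe (f894841 IH) (Lpr_gf (f386354 IH) (Lpe (K54.f399854 IH) (Lpr_gt (K24.f281521 IH) (Lpr_ct (K20.f281083 IH) (Lpe (K24.f281469 IH) (Lpe (K41.f168125 IH) (Lpr_dt (f895460 IH) (Lpn v37599))))))))))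
theorem f385204 : Led Lsl_dt (LP (LK LD1_c5 LD2_c30 LD3_c33)) = (LP (LK LD1_c10 LD2_c52 LD3_c44)) :=
  Lre_d IH (LK LD1_c5 LD2_c30 LD3_c33) (LK LD1_c10 LD2_c52 LD3_c44) Lrfl Lrfl
theorem f386247 : Led Lsl_gt (LP (LK LD1_c10 LD2_c52 LD3_c44)) = (LP (LK LD1_c19 LD2_c40 LD3_c1)) :=
  Lre_g IH (LK LD1_c10 LD2_c52 LD3_c44) (LK LD1_c19 LD2_c40 LD3_c1) Lrfl Lrfl
def v37598 : LQ := Led Lsl_gf (LP (LK LD1_c8 LD2_c58 LD3_c14))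
theorem f895450 : Led Lsl_gf (LP (LK LD1_c8 LD2_c58 LD3_c14)) = v37598 :=
  Lrfl
theorem f393244 : Led Lsl_ft (LP (LK LD1_c15 LD2_c20 LD3_c58)) = (LP (LK LD1_c8 LD2_c9 LD3_c13)) :=
  Lre_f IH (LK LD1_c15 LD2_c20 LD3_c58) (LK LD1_c8 LD2_c9 LD3_c13) Lrfl Lrfl
theorem f393243 : Led Lsl_at (LP (LK LD1_c8 LD2_c9 LD3_c13)) = (LP (LK LD1_c15 LD2_c21 LD3_c8)) :=
  Lre_a IH (LK LD1_c8 LD2_c9 LD3_c13) (LK LD1_c15 LD2_c21 LD3_c8) Lrfl Lrfl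
theorem f393358 : Led Lsl_gf (LP (LK LD1_c15 LD2_c21 LD3_c8)) = (LP (LK LD1_c10 LD2_c56 LD3_c14)) :=
  Lgr Lrot76 (Lpe (f393243 IH) (Lpe (f393244 IH) (Lpr_gt (K31.f393356 IH) (Lpn (LP (LK LD1_c10 LD2_c56 LD3_c14))))))
theorem f52539 : Led Lsl_ft (LP (LK LD1_c4 LD2_c4 LD3_c15)) = (LP (LK LD1_c1 LD2_c59 LD3_c2)) :=
  Lre_f IH (LK LD1_c4 LD2_c4 LD3_c15) (LK LD1_c1 LD2_c59 LD3_c2) Lrfl Lrfl
theorem f53065 : Led Lsl_at (LP (LK LD1_c1 LD2_c59 LD3_c2)) = (LP (LK LD1_c4 LD2_c4 LD3_c13)) :=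
  Lre_a IH (LK LD1_c1 LD2_c59 LD3_c2) (LK LD1_c4 LD2_c4 LD3_c13) Lrfl Lrfl
theorem f393265 : Led Lsl_gt (LP (LK LD1_c8 LD2_c9 LD3_c11)) = (LP (LK LD1_c4 LD2_c4 LD3_c13)) :=
  Lgr Lrot46 (Lpr_gf (K31.f393259 IH) (Lpr_ft (f52539 IH) (Lpr_at (f53065 IH) (Lpn (LP (LK LD1_c4 LD2_c4 LD3_c13))))))
theorem f50661 : Led Lsl_bt (LP (LK LD1_c8 LD2_c6 LD3_c22)) = (LP (LK LD1_c10 LD2_c23 LD3_c31)) :=
  Lgr Lrot128 (Lpe (K31.f50660 IH) (Lpe (K31.f50659 IH) (Lpe (K18.f31010 IH) (Lpr_bf (K22.f50655 IH) (Lpe (K31.f49400 IH) (Lpn (LP (LK LD1_c10 LD2_c23 LD3_c31))))))))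
theorem f389606 : Led Lsl_ct (LP (LK LD1_c27 LD2_c35 LD3_c47)) = (LP (LK LD1_c17 LD2_c51 LD3_c7)) :=
  Lgr Lrot111 (Lpr_af (K31.f389601 IH) (Lpr_cf (K31.f201203 IH) (Lpr_af (K31.f369197 IH) (Lpn (LP (LK LD1_c17 LD2_c51 LD3_c7))))))
theorem f217438 : Led Lsl_gt (LP (LK LD1_c17 LD2_c52 LD3_c11)) = (LP (LK LD1_c9 LD2_c43 LD3_c3)) :=
  Lre_g IH (LK LD1_c17 LD2_c52 LD3_c11) (LK LD1_c9 LD2_c43 LD3_c3) Lrfl Lrfl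
theorem f393941 : Led Lsl_bt (LP (LK LD1_c27 LD2_c35 LD3_c47)) = (LP (LK LD1_c17 LD2_c52 LD3_c11)) :=
  Lgr Lrot130 (Lpr_ct (f389606 IH) (Lpe (K27.f217454 IH) (Lpe (K18.f217453 IH) (Lpr_bt (K18.f217452 IH) (Lpr_gf (K12.f217444 IH) (Lpe (K12.f168632 IH) (Lpe (K12.f217300 IH) (Lpe (K12.f216949 IH) (Lpe (K12.f217428 IH) (Lpe (f217438 IH) (Lpn (LP (LK LD1_c17 LD2_c52 LD3_c11)))))))))))))
theorem f213219 : Led Lsl_bt (LP (LK LD1_c25 LD2_c4 LD3_c17)) = (LP (LK LD1_c15 LD2_c15 LD3_c12)) :=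
  Lre_b IH (LK LD1_c25 LD2_c4 LD3_c17) (LK LD1_c15 LD2_c15 LD3_c12) Lrfl Lrfl
theorem f393945 : Led Lsl_cf (LP (LK LD1_c25 LD2_c4 LD3_c17)) = (LP (LK LD1_c17 LD2_c52 LD3_c11)) :=
  Lgr Lrot97 (Lpr_bt (f213219 IH) (Lpr_ct (K27.f213344 IH) (Lpr_bt (K27.f261661 IH) (Lpe (K38.f389597 IH) (Lpr_bt (f393941 IH) (Lpn (LP (LK LD1_c17 LD2_c52 LD3_c11))))))))
theorem f393947 : Led Lsl_ct (LP (LK LD1_c25 LD2_c4 LD3_c17)) = (LP (LK LD1_c17 LD2_c52 LD3_c11)) :=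
  Lgr Lrot59 (Lpr_cf (f393945 IH) (Lpn (LP (LK LD1_c17 LD2_c52 LD3_c11))))
theorem f281539 : Led Lsl_gt (LP (LK LD1_c16 LD2_c45 LD3_c60)) = (LP (LK LD1_c8 LD2_c57 LD3_c20)) :=
  Lre_g IH (LK LD1_c16 LD2_c45 LD3_c60) (LK LD1_c8 LD2_c57 LD3_c20) Lrfl Lrfl
theorem f217432 : Led Lsl_cf (LP (LK LD1_c9 LD2_c43 LD3_c3)) = (LP (LK LD1_c10 LD2_c49 LD3_c56)) :=
  Lgr Lrot11 (Lpr_ct (K12.f217428 IH) (Lpn (LP (LK LD1_c10 LD2_c49 LD3_c56))))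
theorem f393952 : Led Lsl_bf (LP (LK LD1_c16 LD2_c45 LD3_c60)) = (LP (LK LD1_c10 LD2_c49 LD3_c56)) :=
  Lgr Lrot165 (Lpr_gt (f281539 IH) (Lpr_ct (K54.f235081 IH) (Lpe (K24.f281535 IH) (Lpe (K31.f213347 IH) (Lpr_bt (K31.f213340 IH) (Lpe (K27.f213342 IH) (Lpe (f213219 IH) (Lpr_ct (f393947 IH) (Lpr_gt (f217438 IH) (Lpr_cf (f217432 IH) (Lpn (LP (LK LD1_c10 LD2_c49 LD3_c56)))))))))))))
theorem f393954 : Led Lsl_bt (LP (LK LD1_c16 LD2_c45 LD3_c60)) = (LP (LK LD1_c10 LD2_c49 LD3_c56)) :=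
  Lgr Lrot127 (Lpr_bf (f393952 IH) (Lpn (LP (LK LD1_c10 LD2_c49 LD3_c56))))
theorem f895454 : Led Lsl_ct (LP (LK LD1_c16 LD2_c45 LD3_c60)) = v37598 :=
  Lgr Lrot64 (Lpr_bt (f393954 IH) (Lpe (K12.f217248 IH) (Lpe (f50661 IH) (Lpr_ct (K31.f50658 IH) (Lpe (f393265 IH) (Lpe (K31.f393249 IH) (Lpr_gf (f393358 IH) (Lpe (K31.f168122 IH) (Lpe (K41.f168125 IH) (Lpr_gf (f895450 IH) (Lpn v37598)))))))))))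
theorem f895457 : Led Lsl_cf (LP (LK LD1_c16 LD2_c45 LD3_c60)) = v37598 :=
  Lgr Lrot11 (Lpr_ct (f895454 IH) (Lpn v37598))
theorem f281643 : Led Lsl_dt (LP (LK LD1_c8 LD2_c57 LD3_c20)) = (LP (LK LD1_c16 LD2_c46 LD3_c0)) :=
  Lre_d IH (LK LD1_c8 LD2_c57 LD3_c20) (LK LD1_c16 LD2_c46 LD3_c0) Lrfl Lrfl
theorem f386393 : Led Lsl_ct (LP (LK LD1_c26 LD2_c42 LD3_c4)) = (LP (LK LD1_c16 LD2_c43 LD3_c13)) :=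
  Lre_c IH (LK LD1_c26 LD2_c42 LD3_c4) (LK LD1_c16 LD2_c43 LD3_c13) Lrfl Lrfl
theorem f281473 : Led Lsl_ct (LP (LK LD1_c10 LD2_c51 LD3_c21)) = (LP (LK LD1_c19 LD2_c37 LD3_c29)) :=
  Lre_c IH (LK LD1_c10 LD2_c51 LD3_c21) (LK LD1_c19 LD2_c37 LD3_c29) Lrfl Lrfl
theorem f404270 : Led Lsl_ff (LP (LK LD1_c26 LD2_c42 LD3_c4)) = (LP (LK LD1_c19 LD2_c37 LD3_c29)) :=
  Lgr Lrot23 (Lpr_ct (f386393 IH) (Lpr_ft (K54.f404199 IH) (Lpr_ct (f281473 IH) (Lpn (LP (LK LD1_c19 LD2_c37 LD3_c29))))))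
theorem f217019 : Led Lsl_ct (LP (LK LD1_c10 LD2_c51 LD3_c20)) = (LP (LK LD1_c19 LD2_c37 LD3_c26)) :=
  Lre_c IH (LK LD1_c10 LD2_c51 LD3_c20) (LK LD1_c19 LD2_c37 LD3_c26) Lrfl Lrfl
theorem f404205 : Led Lsl_af (LP (LK LD1_c26 LD2_c42 LD3_c4)) = (LP (LK LD1_c19 LD2_c37 LD3_c26)) :=
  Lgr Lrot68 (Lpr_ct (f386393 IH) (Lpr_at (K54.f404201 IH) (Lpr_ct (f217019 IH) (Lpn (LP (LK LD1_c19 LD2_c37 LD3_c26))))))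
theorem f404268 : Led Lsl_at (LP (LK LD1_c26 LD2_c42 LD3_c4)) = (LP (LK LD1_c19 LD2_c37 LD3_c26)) :=
  Lgr Lrot100 (Lpr_af (f404205 IH) (Lpn (LP (LK LD1_c19 LD2_c37 LD3_c26))))
theorem f404215 : Led Lsl_gt (LP (LK LD1_c28 LD2_c59 LD3_c10)) = (LP (LK LD1_c19 LD2_c37 LD3_c26)) :=
  Lre_g IH (LK LD1_c28 LD2_c59 LD3_c10) (LK LD1_c19 LD2_c37 LD3_c26) Lrfl Lrfl
theorem f404300 : Led Lsl_gf (LP (LK LD1_c28 LD2_c59 LD3_c10)) = (LP (LK LD1_c19 LD2_c37 LD3_c29)) :=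
  Lgr Lrot47 (Lpr_gt (f404215 IH) (Lpe (f404268 IH) (Lpr_ff (f404270 IH) (Lpn (LP (LK LD1_c19 LD2_c37 LD3_c29))))))
theorem f386388 : Led Lsl_ft (LP (LK LD1_c16 LD2_c43 LD3_c11)) = (LP (LK LD1_c10 LD2_c51 LD3_c18)) :=
  Lgr Lrot48 (Lpr_ff (K54.f386373 IH) (Lpn (LP (LK LD1_c10 LD2_c51 LD3_c18))))
theorem f386395 : Led Lsl_at (LP (LK LD1_c10 LD2_c51 LD3_c18)) = (LP (LK LD1_c5 LD2_c30 LD3_c1)) :=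
  Lre_a IH (LK LD1_c10 LD2_c51 LD3_c18) (LK LD1_c5 LD2_c30 LD3_c1) Lrfl Lrfl
theorem f386396 : Led Lsl_gt (LP (LK LD1_c16 LD2_c43 LD3_c11)) = (LP (LK LD1_c10 LD2_c51 LD3_c21)) :=
  Lgr Lrot5 (Lpr_ft (f386388 IH) (Lpr_at (f386395 IH) (Lpe (K54.f175194 IH) (Lpn (LP (LK LD1_c10 LD2_c51 LD3_c21))))))
theorem f386366 : Led Lsl_dt (LP (LK LD1_c8 LD2_c55 LD3_c56)) = (LP (LK LD1_c16 LD2_c43 LD3_c11)) :=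
  Lre_d IH (LK LD1_c8 LD2_c55 LD3_c56) (LK LD1_c16 LD2_c43 LD3_c11) Lrfl Lrfl
theorem f382888 : Led Lsl_bf (LP (LK LD1_c16 LD2_c43 LD3_c46)) = (LP (LK LD1_c10 LD2_c49 LD3_c12)) :=
  Lgr Lrot24 (Lpr_bt (K31.f382886 IH) (Lpn (LP (LK LD1_c10 LD2_c49 LD3_c12))))
theorem f388124 : Led Lsl_gt (LP (LK LD1_c8 LD2_c59 LD3_c58)) = (LP (LK LD1_c16 LD2_c43 LD3_c29)) :=
  Lgr Lrot82 (Lpe (K31.f174008 IH) (Lpr_ct (K30.f174001 IH) (Lpe (K30.f387926 IH) (Lpr_cf (K31.f387957 IH) (Lpe (f382888 IH) (Lpe (K31.f226214 IH) (Lpe (K31.f226228 IH) (Lpr_ct (K31.f226229 IH) (Lpr_gf (K31.f382876 IH) (Lpe (K31.f173490 IH) (Lpn (LP (LK LD1_c16 LD2_c43 LD3_c29)))))))))))))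
theorem f173492 : Led Lsl_dt (LP (LK LD1_c26 LD2_c42 LD3_c24)) = (LP (LK LD1_c16 LD2_c43 LD3_c38)) :=
  Lre_d IH (LK LD1_c26 LD2_c42 LD3_c24) (LK LD1_c16 LD2_c43 LD3_c38) Lrfl Lrfl
theorem f404302 : Led Lsl_ct (LP (LK LD1_c28 LD2_c59 LD3_c10)) = (LP (LK LD1_c26 LD2_c42 LD3_c24)) :=
  Lgr Lrot110 (Lpr_gf (f404300 IH) (Lpe (f281473 IH) (Lpe (f386396 IH) (Lpe (f386366 IH) (Lpr_gt (K30.f386377 IH) (Lpe (K54.f225269 IH) (Lpr_gt (f388124 IH) (Lpr_ct (K31.f173490 IH) (Lpe (f173492 IH) (Lpn (LP (LK LD1_c26 LD2_c42 LD3_c24))))))))))))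
theorem f404304 : Led Lsl_cf (LP (LK LD1_c28 LD2_c59 LD3_c10)) = (LP (LK LD1_c26 LD2_c42 LD3_c24)) :=
  Lgr Lrot11 (Lpr_ct (f404302 IH) (Lpn (LP (LK LD1_c26 LD2_c42 LD3_c24))))
theorem f217120 : Led Lsl_ct (LP (LK LD1_c19 LD2_c37 LD3_c26)) = (LP (LK LD1_c10 LD2_c51 LD3_c20)) :=
  Lre_c IH (LK LD1_c19 LD2_c37 LD3_c26) (LK LD1_c10 LD2_c51 LD3_c20) Lrfl Lrfl
theorem f281637 : Led Lsl_ct (LP (LK LD1_c8 LD2_c59 LD3_c10)) = (LP (LK LD1_c4 LD2_c30 LD3_c26)) :=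
  Lre_c IH (LK LD1_c8 LD2_c59 LD3_c10) (LK LD1_c4 LD2_c30 LD3_c26) Lrfl Lrfl
theorem f404306 : Led Lsl_gt (LP (LK LD1_c16 LD2_c46 LD3_c0)) = (LP (LK LD1_c26 LD2_c42 LD3_c24)) :=
  Lgr Lrot9 (Lpe (f281643 IH) (Lpr_gt (K54.f281537 IH) (Lpr_ct (f281637 IH) (Lpr_gt (K20.f281630 IH) (Lpe (K20.f281631 IH) (Lpr_df (K54.f404207 IH) (Lpe (f217120 IH) (Lpe (f404215 IH) (Lpr_cf (f404304 IH) (Lpn (LP (LK LD1_c26 LD2_c42 LD3_c24))))))))))))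
theorem f895465 : Led Lsl_gf (LP (LK LD1_c8 LD2_c59 LD3_c22)) = v37599 :=
  Lgr Lrot143 (Lpe (K27.f173483 IH) (Lpe (K27.f173479 IH) (Lpe (f173492 IH) (Lpe (f404306 IH) (Lpe (f281643 IH) (Lpe (f281539 IH) (Lpr_cf (f895457 IH) (Lpe (f895450 IH) (Lpr_dt (f895460 IH) (Lpn v37599))))))))))
theorem f173521 : Led Lsl_gt (LP (LK LD1_c16 LD2_c48 LD3_c5)) = (LP (LK LD1_c26 LD2_c40 LD3_c33)) :=
  Lre_g IH (LK LD1_c16 LD2_c48 LD3_c5) (LK LD1_c26 LD2_c40 LD3_c33) Lrfl Lrfl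
theorem f422520 : Led Lsl_gt (LP (LK LD1_c26 LD2_c40 LD3_c33)) = (LP (LK LD1_c16 LD2_c48 LD3_c7)) :=
  Lgr Lrot46 (Lpe (f173521 IH) (Lpr_ft (K67.f422512 IH) (Lpr_at (K67.f422014 IH) (Lpn (LP (LK LD1_c16 LD2_c48 LD3_c7))))))
theorem f173520 : Led Lsl_dt (LP (LK LD1_c8 LD2_c58 LD3_c59)) = (LP (LK LD1_c16 LD2_c48 LD3_c5)) :=
  Lre_d IH (LK LD1_c8 LD2_c58 LD3_c59) (LK LD1_c16 LD2_c48 LD3_c5) Lrfl Lrfl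
theorem f173522 : Led Lsl_df (LP (LK LD1_c16 LD2_c43 LD3_c30)) = (LP (LK LD1_c26 LD2_c40 LD3_c33)) :=
  Lgr Lrot84 (Lpe (K31.f173516 IH) (Lpr_df (K27.f173497 IH) (Lpe (K27.f173511 IH) (Lpe (K27.f8761 IH) (Lpe (K9.f169322 IH) (Lpe (K67.f173518 IH) (Lpr_gt (K67.f173519 IH) (Lpr_dt (f173520 IH) (Lpr_gt (f173521 IH) (Lpn (LP (LK LD1_c26 LD2_c40 LD3_c33))))))))))))
theorem f173533 : Led Lsl_dt (LP (LK LD1_c16 LD2_c43 LD3_c30)) = (LP (LK LD1_c26 LD2_c40 LD3_c33)) :=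
  Lgr Lrot42 (Lpr_df (f173522 IH) (Lpn (LP (LK LD1_c26 LD2_c40 LD3_c33))))
theorem f422036 : Led Lsl_ct (LP (LK LD1_c10 LD2_c54 LD3_c55)) = (LP (LK LD1_c8 LD2_c58 LD3_c60)) :=
  Lgr Lrot59 (Lpr_cf (K67.f422032 IH) (Lpn (LP (LK LD1_c8 LD2_c58 LD3_c60))))
theorem f399967 : Led Lsl_gf (LP (LK LD1_c11 LD2_c19 LD3_c18)) = (LP (LK LD1_c16 LD2_c45 LD3_c5)) :=
  Lgr Lrot179 (Lpr_ct (K30.f175124 IH) (Lpr_gt (K30.f226593 IH) (Lpr_ct (K27.f179163 IH) (Lpr_dt (K0.f8801 IH) (Lpe (K27.f8797 IH) (Lpe (K31.f290424 IH) (Lpe (K30.f290429 IH) (Lpe (K31.f390736 IH) (Lpr_dt (K67.f399438 IH) (Lpn (LP (LK LD1_c16 LD2_c45 LD3_c5))))))))))))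
theorem f422493 : Led Lsl_gt (LP (LK LD1_c11 LD2_c19 LD3_c18)) = (LP (LK LD1_c19 LD2_c34 LD3_c19)) :=
  Lgr Lrot46 (Lpr_gf (f399967 IH) (Lpr_ft (K67.f422487 IH) (Lpr_at (K67.f172904 IH) (Lpn (LP (LK LD1_c19 LD2_c34 LD3_c19))))))
theorem f417906 : Led Lsl_ff (LP (LK LD1_c16 LD2_c44 LD3_c52)) = (LP (LK LD1_c10 LD2_c49 LD3_c26)) :=
  Lgr Lrot23 (Lpr_ct (K67.f417893 IH) (Lpe (K30.f382816 IH) (Lpr_ct (K67.f392442 IH) (Lpn (LP (LK LD1_c10 LD2_c49 LD3_c26))))))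
theorem f417921 : Led Lsl_dt (LP (LK LD1_c16 LD2_c44 LD3_c52)) = (LP (LK LD1_c11 LD2_c19 LD3_c18)) :=
  Lgr Lrot60 (Lpr_ff (f417906 IH) (Lpe (K31.f392444 IH) (Lpr_ff (K30.f383148 IH) (Lpn (LP (LK LD1_c11 LD2_c19 LD3_c18))))))
theorem f225916 : Led Lsl_ct (LP (LK LD1_c16 LD2_c44 LD3_c54)) = (LP (LK LD1_c8 LD2_c56 LD3_c46)) :=
  Lre_c IH (LK LD1_c16 LD2_c44 LD3_c54) (LK LD1_c8 LD2_c56 LD3_c46) Lrfl Lrfl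
theorem f422522 : Led Lsl_gf (LP (LK LD1_c16 LD2_c43 LD3_c30)) = (LP (LK LD1_c16 LD2_c44 LD3_c54)) :=
  Lgr Lrot144 (Lpr_dt (f173533 IH) (Lpr_gt (f422520 IH) (Lpr_dt (K67.f383124 IH) (Lpe (f422036 IH) (Lpr_df (K67.f399639 IH) (Lpe (f422493 IH) (Lpe (f417921 IH) (Lpe (K67.f225917 IH) (Lpe (f225916 IH) (Lpn (LP (LK LD1_c16 LD2_c44 LD3_c54))))))))))))
theorem f173515 : Led Lsl_bt (LP (LK LD1_c8 LD2_c56 LD3_c7)) = (LP (LK LD1_c16 LD2_c43 LD3_c29)) :=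
  Lre_b IH (LK LD1_c8 LD2_c56 LD3_c7) (LK LD1_c16 LD2_c43 LD3_c29) Lrfl Lrfl
theorem f225830 : Led Lsl_ct (LP (LK LD1_c8 LD2_c56 LD3_c46)) = (LP (LK LD1_c16 LD2_c44 LD3_c54)) :=
  Lre_c IH (LK LD1_c8 LD2_c56 LD3_c46) (LK LD1_c16 LD2_c44 LD3_c54) Lrfl Lrfl
theorem f386367 : Led Lsl_at (LP (LK LD1_c4 LD2_c28 LD3_c49)) = (LP (LK LD1_c8 LD2_c55 LD3_c56)) :=
  Lre_a IH (LK LD1_c4 LD2_c28 LD3_c49) (LK LD1_c8 LD2_c55 LD3_c56) Lrfl Lrfl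
theorem f386369 : Led Lsl_ff (LP (LK LD1_c4 LD2_c28 LD3_c49)) = (LP (LK LD1_c2 LD2_c41 LD3_c18)) :=
  Lgr Lrot30 (Lpr_at (f386367 IH) (Lpr_ft (K30.f385163 IH) (Lpr_at (K30.f386368 IH) (Lpn (LP (LK LD1_c2 LD2_c41 LD3_c18))))))
theorem f386517 : Led Lsl_gf (LP (LK LD1_c8 LD2_c55 LD3_c56)) = (LP (LK LD1_c5 LD2_c29 LD3_c60)) :=
  Lgr Lrot76 (Lpe (f386367 IH) (Lpr_ff (f386369 IH) (Lpr_gt (K30.f224852 IH) (Lpn (LP (LK LD1_c5 LD2_c29 LD3_c60))))))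
theorem f422526 : Led Lsl_gt (LP (LK LD1_c16 LD2_c43 LD3_c29)) = (LP (LK LD1_c10 LD2_c51 LD3_c12)) :=
  Lgr Lrot82 (Lpe (f173515 IH) (Lpr_ct (K31.f173516 IH) (Lpr_gf (f422522 IH) (Lpe (f225830 IH) (Lpr_bt (K67.f225829 IH) (Lpr_gf (K67.f392190 IH) (Lpe (K30.f385160 IH) (Lpr_ct (K30.f385162 IH) (Lpr_gf (f386517 IH) (Lpe (K67.f386519 IH) (Lpn (LP (LK LD1_c10 LD2_c51 LD3_c12)))))))))))))
theorem f390797 : Led Lsl_dt (LP (LK LD1_c10 LD2_c51 LD3_c12)) = (LP (LK LD1_c19 LD2_c37 LD3_c7)) :=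
  Lre_d IH (LK LD1_c10 LD2_c51 LD3_c12) (LK LD1_c19 LD2_c37 LD3_c7) Lrfl Lrfl
theorem f386521 : Led Lsl_ct (LP (LK LD1_c5 LD2_c29 LD3_c60)) = (LP (LK LD1_c10 LD2_c51 LD3_c12)) :=
  Lre_c IH (LK LD1_c5 LD2_c29 LD3_c60) (LK LD1_c10 LD2_c51 LD3_c12) Lrfl Lrfl
theorem f165028 : Led Lsl_gt (LP (LK LD1_c8 LD2_c57 LD3_c26)) = (LP (LK LD1_c16 LD2_c46 LD3_c9)) :=
  Lre_g IH (LK LD1_c8 LD2_c57 LD3_c26) (LK LD1_c16 LD2_c46 LD3_c9) Lrfl Lrfl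
theorem f390798 : Led Lsl_cf (LP (LK LD1_c19 LD2_c37 LD3_c7)) = (LP (LK LD1_c16 LD2_c46 LD3_c9)) :=
  Lgr Lrot99 (Lpe (f390797 IH) (Lpe (f386521 IH) (Lpe (K30.f224852 IH) (Lpe (K30.f175173 IH) (Lpe (K30.f234786 IH) (Lpe (K54.f339353 IH) (Lpr_gt (K31.f390788 IH) (Lpr_ct (K22.f165027 IH) (Lpr_gt (f165028 IH) (Lpn (LP (LK LD1_c16 LD2_c46 LD3_c9))))))))))))
theorem f390805 : Led Lsl_ct (LP (LK LD1_c19 LD2_c37 LD3_c7)) = (LP (LK LD1_c16 LD2_c46 LD3_c9)) :=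
  Lgr Lrot59 (Lpr_cf (f390798 IH) (Lpn (LP (LK LD1_c16 LD2_c46 LD3_c9))))
theorem f895470 : Led Lsl_dt (LP (LK LD1_c19 LD2_c40 LD3_c1)) = (LP (LK LD1_c16 LD2_c46 LD3_c9)) :=
  Lgr Lrot113 (Lpe (f386247 IH) (Lpe (f385204 IH) (Lpr_gf (f729595 IH) (Lpr_ct (f895466 IH) (Lpe (f895465 IH) (Lpe (K27.f173483 IH) (Lpr_gt (f422526 IH) (Lpr_dt (f390797 IH) (Lpr_ct (f390805 IH) (Lpn (LP (LK LD1_c16 LD2_c46 LD3_c9))))))))))))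
theorem f895471 : Led Lsl_dt (LP (LK LD1_c19 LD2_c40 LD3_c1)) = (LP (LK LD1_c16 LD2_c46 LD3_c9)) :=
  Leop (Lpe (f895470 IH) (Lpn (LP (LK LD1_c19 LD2_c40 LD3_c1))))
theorem seed_2167 : LEOK LG_d (LK LD1_c19 LD2_c40 LD3_c1) :=
  Leoe_d (LK LD1_c19 LD2_c40 LD3_c1) (f895471 IH)
theorem f895464 : Led Lsl_ff (LP (LK LD1_c10 LD2_c58 LD3_c46)) = v37599 :=
  Lgr Lrot19 (Lpr_dt (K54.f389320 IH) (Lpe (K54.f404233 IH) (Lpr_dt (f895460 IH) (Lpn v37599))))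
def v37478 : LQ := Led Lsl_gf (LP (LK LD1_c8 LD2_c56 LD3_c20))
theorem f894858 : Led Lsl_gf (LP (LK LD1_c8 LD2_c56 LD3_c20)) = v37478 :=
  Lrfl
theorem f391427 : Led Lsl_df (LP (LK LD1_c4 LD2_c28 LD3_c57)) = (LP (LK LD1_c5 LD2_c32 LD3_c41)) :=
  Lgr Lrot38 (Lpr_dt (K50.f391413 IH) (Lpn (LP (LK LD1_c5 LD2_c32 LD3_c41))))
theorem f245696 : Led Lsl_dt (LP (LK LD1_c19 LD2_c39 LD3_c48)) = (LP (LK LD1_c10 LD2_c52 LD3_c32)) :=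
  Lre_d IH (LK LD1_c19 LD2_c39 LD3_c48) (LK LD1_c10 LD2_c52 LD3_c32) Lrfl Lrfl
theorem f391455 : Led Lsl_gt (LP (LK LD1_c19 LD2_c47 LD3_c0)) = (LP (LK LD1_c19 LD2_c39 LD3_c48)) :=
  Lgr Lrot49 (Lpe (K54.f174337 IH) (Lpe (K20.f174336 IH) (Lpe (K20.f174118 IH) (Lpr_gt (K50.f174132 IH) (Lpe (f391427 IH) (Lpr_gt (K50.f391435 IH) (Lpr_dt (K13.f245693 IH) (Lpe (K52.f245689 IH) (Lpe (f245696 IH) (Lpn (LP (LK LD1_c19 LD2_c39 LD3_c48))))))))))))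
theorem f385220 : Led Lsl_at (LP (LK LD1_c10 LD2_c52 LD3_c44)) = (LP (LK LD1_c19 LD2_c39 LD3_c48)) :=
  Lre_a IH (LK LD1_c10 LD2_c52 LD3_c44) (LK LD1_c19 LD2_c39 LD3_c48) Lrfl Lrfl
theorem f385216 : Led Lsl_ft (LP (LK LD1_c16 LD2_c43 LD3_c59)) = (LP (LK LD1_c10 LD2_c52 LD3_c44)) :=
  Lgr Lrot54 (Lpe (K30.f385193 IH) (Lpr_ff (K30.f385208 IH) (Lpe (K52.f175277 IH) (Lpn (LP (LK LD1_c10 LD2_c52 LD3_c44))))))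
theorem f391561 : Led Lsl_gf (LP (LK LD1_c19 LD2_c47 LD3_c0)) = (LP (LK LD1_c16 LD2_c43 LD3_c59)) :=
  Lgr Lrot47 (Lpr_gt (f391455 IH) (Lpe (f385220 IH) (Lpe (f385216 IH) (Lpn (LP (LK LD1_c16 LD2_c43 LD3_c59))))))
theorem f281296 : Led Lsl_dt (LP (LK LD1_c19 LD2_c47 LD3_c0)) = (LP (LK LD1_c10 LD2_c57 LD3_c11)) :=
  Lre_d IH (LK LD1_c19 LD2_c47 LD3_c0) (LK LD1_c10 LD2_c57 LD3_c11) Lrfl Lrfl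
theorem f894860 : Led Lsl_ct (LP (LK LD1_c10 LD2_c58 LD3_c46)) = v37478 :=
  Lgr Lrot8 (Lpe (K54.f732713 IH) (Lpr_dt (K54.f179147 IH) (Lpr_gt (K67.f404895 IH) (Lpr_dt (K54.f281679 IH) (Lpe (K31.f281660 IH) (Lpe (f281296 IH) (Lpr_gf (f391561 IH) (Lpe (K30.f385193 IH) (Lpr_gf (f894858 IH) (Lpn v37478))))))))))
theorem f895469 : Led Lsl_ff v15009 = v37478 :=
  Lgr Lrot23 (Lpr_ct (f895466 IH) (Lpe (f895464 IH) (Lpr_ct (f894860 IH) (Lpn v37478))))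
theorem f895482 : Led Lsl_ft v15009 = v37478 :=
  Lgr Lrot48 (Lpr_ff (f895469 IH) (Lpn v37478))
theorem f175160 : Led Lsl_gt (LP (LK LD1_c5 LD2_c30 LD3_c33)) = (LP (LK LD1_c10 LD2_c52 LD3_c43)) :=
  Lre_g IH (LK LD1_c5 LD2_c30 LD3_c33) (LK LD1_c10 LD2_c52 LD3_c43) Lrfl Lrfl
theorem f895486 : Led Lsl_af (LP (LK LD1_c10 LD2_c52 LD3_c43)) = v37478 :=
  Lgr Lrot31 (Lpe (f175160 IH) (Lpr_gf (f729595 IH) (Lpr_ft (f895482 IH) (Lpn v37478))))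
theorem f403842 : Led Lsl_at (LP (LK LD1_c16 LD2_c45 LD3_c31)) = (LP (LK LD1_c8 LD2_c58 LD3_c14)) :=
  Lgr Lrot100 (Lpr_af (K41.f403834 IH) (Lpn (LP (LK LD1_c8 LD2_c58 LD3_c14))))
def v15722 : LQ := Led Lsl_gt (LP (LK LD1_c5 LD2_c45 LD3_c36))
theorem f741092 : Led Lsl_gt (LP (LK LD1_c5 LD2_c45 LD3_c36)) = v15722 :=
  Lrfl
theorem f179237 : Led Lsl_dt (LP (LK LD1_c4 LD2_c28 LD3_c49)) = (LP (LK LD1_c8 LD2_c55 LD3_c57)) :=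
  Lre_d IH (LK LD1_c4 LD2_c28 LD3_c49) (LK LD1_c8 LD2_c55 LD3_c57) Lrfl Lrfl
theorem f404277 : Led Lsl_dt (LP (LK LD1_c16 LD2_c43 LD3_c12)) = (LP (LK LD1_c8 LD2_c57 LD3_c2)) :=
  Lgr Lrot44 (Lpr_af (K54.f404272 IH) (Lpe (K54.f281471 IH) (Lpe (K41.f403830 IH) (Lpn (LP (LK LD1_c8 LD2_c57 LD3_c2))))))
theorem f741093 : Led Lsl_df (LP (LK LD1_c16 LD2_c45 LD3_c31)) = v15722 :=
  Lgr Lrot84 (Lpe (K41.f218734 IH) (Lpe (f404277 IH) (Lpe (K54.f179238 IH) (Lpe (f179237 IH) (Lpe (K30.f179223 IH) (Lpr_cf (K30.f179224 IH) (Lpe (K30.f384880 IH) (Lpe (K27.f179150 IH) (Lpr_gt (f741092 IH) (Lpn v15722))))))))))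
theorem f895461 : Led Lsl_af v15722 = v37599 :=
  Lgr Lrot117 (Lpe (f741093 IH) (Lpr_at (f403842 IH) (Lpr_dt (f895460 IH) (Lpn v37599))))
theorem f169297 : Led Lsl_gt (LP (LK LD1_c8 LD2_c56 LD3_c20)) = (LP (LK LD1_c16 LD2_c43 LD3_c58)) :=
  Lre_g IH (LK LD1_c8 LD2_c56 LD3_c20) (LK LD1_c16 LD2_c43 LD3_c58) Lrfl Lrfl
theorem f385210 : Led Lsl_gt (LP (LK LD1_c16 LD2_c43 LD3_c58)) = (LP (LK LD1_c10 LD2_c52 LD3_c32)) :=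
  Lgr Lrot46 (Lpe (f169297 IH) (Lpr_ft (K30.f385199 IH) (Lpr_at (K30.f385198 IH) (Lpn (LP (LK LD1_c10 LD2_c52 LD3_c32))))))
theorem f741094 : Led Lsl_cf (LP (LK LD1_c16 LD2_c43 LD3_c58)) = v15722 :=
  Lgr Lrot169 (Lpr_gt (f385210 IH) (Lpr_ct (K52.f245689 IH) (Lpe (K13.f245693 IH) (Lpe (K30.f222580 IH) (Lpr_gf (K54.f404846 IH) (Lpe (K50.f178107 IH) (Lpe (K67.f404895 IH) (Lpe (K54.f179147 IH) (Lpr_gt (f741092 IH) (Lpn v15722))))))))))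
theorem f895467 : Led Lsl_af v15009 = (LP (LK LD1_c16 LD2_c43 LD3_c58)) :=
  Lgr Lrot68 (Lpr_ct (f895466 IH) (Lpe (f895461 IH) (Lpe (f741094 IH) (Lpn (LP (LK LD1_c16 LD2_c43 LD3_c58))))))
theorem f895489 : Led Lsl_ft (LP (LK LD1_c10 LD2_c52 LD3_c43)) = (LP (LK LD1_c16 LD2_c43 LD3_c58)) :=
  Lgr Lrot101 (Lpr_af (f895486 IH) (Lpe (f895482 IH) (Lpr_af (f895467 IH) (Lpn (LP (LK LD1_c16 LD2_c43 LD3_c58))))))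
theorem f895490 : Led Lsl_ft (LP (LK LD1_c10 LD2_c52 LD3_c43)) = (LP (LK LD1_c16 LD2_c43 LD3_c58)) :=
  Leop (Lpe (f895489 IH) (Lpn (LP (LK LD1_c10 LD2_c52 LD3_c43))))
theorem seed_2168 : LEOK LG_f (LK LD1_c10 LD2_c52 LD3_c43) :=
  Leoe_f (LK LD1_c10 LD2_c52 LD3_c43) (f895490 IH)
theorem f399868 : Led Lsl_dt (LP (LK LD1_c10 LD2_c52 LD3_c43)) = (LP (LK LD1_c19 LD2_c39 LD3_c61)) :=
  Lre_d IH (LK LD1_c10 LD2_c52 LD3_c43) (LK LD1_c19 LD2_c39 LD3_c61) Lrfl Lrfl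
theorem f895468 : Led Lsl_cf v15009 = v37599 :=
  Lgr Lrot11 (Lpr_ct (f895466 IH) (Lpn v37599))
theorem f281481 : Led Lsl_df (LP (LK LD1_c5 LD2_c32 LD3_c18)) = (LP (LK LD1_c10 LD2_c51 LD3_c21)) :=
  Lgr Lrot38 (Lpr_dt (K54.f281471 IH) (Lpn (LP (LK LD1_c10 LD2_c51 LD3_c21))))
theorem f217118 : Led Lsl_ct (LP (LK LD1_c19 LD2_c37 LD3_c29)) = (LP (LK LD1_c10 LD2_c51 LD3_c21)) :=
  Lre_c IH (LK LD1_c19 LD2_c37 LD3_c29) (LK LD1_c10 LD2_c51 LD3_c21) Lrfl Lrfl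
theorem f281474 : Led Lsl_dt (LP (LK LD1_c28 LD2_c59 LD3_c12)) = (LP (LK LD1_c19 LD2_c37 LD3_c29)) :=
  Lre_d IH (LK LD1_c28 LD2_c59 LD3_c12) (LK LD1_c19 LD2_c37 LD3_c29) Lrfl Lrfl
theorem f895493 : Led Lsl_ct (LP (LK LD1_c19 LD2_c39 LD3_c61)) = (LP (LK LD1_c28 LD2_c59 LD3_c12)) :=
  Lgr Lrot133 (Lpe (f399868 IH) (Lpr_ft (f895489 IH) (Lpe (f895467 IH) (Lpr_cf (f895468 IH) (Lpe (f895460 IH) (Lpr_cf (K41.f168125 IH) (Lpr_df (f281481 IH) (Lpe (f217118 IH) (Lpe (f281474 IH) (Lpn (LP (LK LD1_c28 LD2_c59 LD3_c12))))))))))))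
theorem f895494 : Led Lsl_ct (LP (LK LD1_c19 LD2_c39 LD3_c61)) = (LP (LK LD1_c28 LD2_c59 LD3_c12)) :=
  Leop (Lpe (f895493 IH) (Lpn (LP (LK LD1_c19 LD2_c39 LD3_c61))))
theorem seed_2169 : LEOK LG_c (LK LD1_c19 LD2_c39 LD3_c61) :=
  Leoe_c (LK LD1_c19 LD2_c39 LD3_c61) (f895494 IH)
def v37610 : LQ := Led Lsl_dt (LP (LK LD1_c8 LD2_c58 LD3_c23))
theorem f895554 : Led Lsl_dt (LP (LK LD1_c8 LD2_c58 LD3_c23)) = v37610 :=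
  Lrfl
theorem f895558 : Led Lsl_ff (LP (LK LD1_c10 LD2_c59 LD3_c20)) = v37610 :=
  Lgr Lrot19 (Lpr_dt (K40.f225359 IH) (Lpe (K67.f319801 IH) (Lpr_dt (f895554 IH) (Lpn v37610))))
theorem f895561 : Led Lsl_ft (LP (LK LD1_c10 LD2_c59 LD3_c20)) = v37610 :=
  Lgr Lrot48 (Lpr_ff (f895558 IH) (Lpn v37610))
theorem f226124 : Led Lsl_gt (LP (LK LD1_c10 LD2_c59 LD3_c20)) = (LP (LK LD1_c19 LD2_c50 LD3_c2)) :=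
  Lre_g IH (LK LD1_c10 LD2_c59 LD3_c20) (LK LD1_c19 LD2_c50 LD3_c2) Lrfl Lrfl
theorem f380542 : Led Lsl_df (LP (LK LD1_c11 LD2_c11 LD3_c20)) = (LP (LK LD1_c19 LD2_c56 LD3_c14)) :=
  Lgr Lrot12 (Lpr_bt (K50.f380460 IH) (Lpr_dt (K30.f380219 IH) (Lpr_bt (K40.f380538 IH) (Lpn (LP (LK LD1_c19 LD2_c56 LD3_c14))))))
theorem f380469 : Led Lsl_bt (LP (LK LD1_c5 LD2_c40 LD3_c21)) = (LP (LK LD1_c11 LD2_c11 LD3_c20)) :=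
  Lre_b IH (LK LD1_c5 LD2_c40 LD3_c21) (LK LD1_c11 LD2_c11 LD3_c20) Lrfl Lrfl
theorem f319808 : Led Lsl_bt (LP (LK LD1_c19 LD2_c49 LD3_c37)) = (LP (LK LD1_c10 LD2_c59 LD3_c3)) :=
  Lre_b IH (LK LD1_c19 LD2_c49 LD3_c37) (LK LD1_c10 LD2_c59 LD3_c3) Lrfl Lrfl
theorem f380471 : Led Lsl_at (LP (LK LD1_c11 LD2_c11 LD3_c20)) = (LP (LK LD1_c19 LD2_c49 LD3_c37)) :=
  Lgr Lrot67 (Lpe (f380469 IH) (Lpe (K52.f380228 IH) (Lpr_bf (K40.f380191 IH) (Lpe (K22.f238461 IH) (Lpe (f319808 IH) (Lpn (LP (LK LD1_c19 LD2_c49 LD3_c37))))))))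
theorem f226617 : Led Lsl_at (LP (LK LD1_c11 LD2_c3 LD3_c48)) = (LP (LK LD1_c19 LD2_c56 LD3_c14)) :=
  Lre_a IH (LK LD1_c11 LD2_c3 LD3_c48) (LK LD1_c19 LD2_c56 LD3_c14) Lrfl Lrfl
theorem f380575 : Led Lsl_dt (LP (LK LD1_c19 LD2_c49 LD3_c37)) = (LP (LK LD1_c11 LD2_c3 LD3_c48)) :=
  Lgr Lrot44 (Lpe (f380471 IH) (Lpr_df (f380542 IH) (Lpe (f226617 IH) (Lpn (LP (LK LD1_c11 LD2_c3 LD3_c48))))))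
theorem f380577 : Led Lsl_df (LP (LK LD1_c19 LD2_c49 LD3_c37)) = (LP (LK LD1_c11 LD2_c3 LD3_c48)) :=
  Lgr Lrot38 (Lpr_dt (f380575 IH) (Lpn (LP (LK LD1_c11 LD2_c3 LD3_c48))))
theorem f380582 : Led Lsl_bt (LP (LK LD1_c19 LD2_c49 LD3_c38)) = (LP (LK LD1_c11 LD2_c3 LD3_c48)) :=
  Lgr Lrot95 (Lpe (K22.f238483 IH) (Lpe (f319808 IH) (Lpr_df (f380577 IH) (Lpn (LP (LK LD1_c11 LD2_c3 LD3_c48))))))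
theorem f380585 : Led Lsl_bf (LP (LK LD1_c19 LD2_c54 LD3_c17)) = (LP (LK LD1_c16 LD2_c50 LD3_c36)) :=
  Lgr Lrot61 (Lpe (K67.f332699 IH) (Lpr_bt (f380582 IH) (Lpr_ft (K40.f313049 IH) (Lpn (LP (LK LD1_c16 LD2_c50 LD3_c36))))))
theorem f380587 : Led Lsl_bt (LP (LK LD1_c19 LD2_c54 LD3_c17)) = (LP (LK LD1_c16 LD2_c50 LD3_c36)) :=
  Lgr Lrot127 (Lpr_bf (f380585 IH) (Lpn (LP (LK LD1_c16 LD2_c50 LD3_c36))))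
theorem f313055 : Led Lsl_ff (LP (LK LD1_c11 LD2_c3 LD3_c48)) = (LP (LK LD1_c16 LD2_c50 LD3_c36)) :=
  Lgr Lrot3 (Lpr_ft (K40.f313049 IH) (Lpn (LP (LK LD1_c16 LD2_c50 LD3_c36))))
theorem f380589 : Led Lsl_ff (LP (LK LD1_c19 LD2_c54 LD3_c17)) = (LP (LK LD1_c19 LD2_c49 LD3_c38)) :=
  Lgr Lrot25 (Lpr_bt (f380587 IH) (Lpe (f313055 IH) (Lpe (K40.f332695 IH) (Lpn (LP (LK LD1_c19 LD2_c49 LD3_c38))))))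
theorem f380591 : Led Lsl_dt (LP (LK LD1_c19 LD2_c54 LD3_c17)) = (LP (LK LD1_c16 LD2_c47 LD3_c20)) :=
  Lgr Lrot60 (Lpr_ff (f380589 IH) (Lpe (K22.f238483 IH) (Lpe (K22.f319797 IH) (Lpn (LP (LK LD1_c16 LD2_c47 LD3_c20))))))
theorem f895555 : Led Lsl_af (LP (LK LD1_c19 LD2_c54 LD3_c17)) = v37610 :=
  Lgr Lrot117 (Lpr_dt (f380591 IH) (Lpr_at (K31.f319807 IH) (Lpr_dt (f895554 IH) (Lpn v37610))))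
theorem f895562 : Led Lsl_gt (LP (LK LD1_c19 LD2_c50 LD3_c2)) = (LP (LK LD1_c19 LD2_c54 LD3_c17)) :=
  Lgr Lrot46 (Lpe (f226124 IH) (Lpr_ft (f895561 IH) (Lpe (f895555 IH) (Lpn (LP (LK LD1_c19 LD2_c54 LD3_c17))))))
theorem f895563 : Led Lsl_gt (LP (LK LD1_c19 LD2_c50 LD3_c2)) = (LP (LK LD1_c19 LD2_c54 LD3_c17)) :=
  Leop (Lpe (f895562 IH) (Lpn (LP (LK LD1_c19 LD2_c50 LD3_c2))))
theorem seed_2170 : LEOK LG_g (LK LD1_c19 LD2_c50 LD3_c2) :=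
  Leoe_g (LK LD1_c19 LD2_c50 LD3_c2) (f895563 IH)
def v37643 : LQ := Led Lsl_bt (LP (LK LD1_c8 LD2_c58 LD3_c45))
theorem f895756 : Led Lsl_bt (LP (LK LD1_c8 LD2_c58 LD3_c45)) = v37643 :=
  Lrfl
theorem f281541 : Led Lsl_ct (LP (LK LD1_c8 LD2_c58 LD3_c45)) = (LP (LK LD1_c8 LD2_c57 LD3_c19)) :=
  Lre_c IH (LK LD1_c8 LD2_c58 LD3_c45) (LK LD1_c8 LD2_c57 LD3_c19) Lrfl Lrfl
theorem f292617 : Led Lsl_at (LP (LK LD1_c8 LD2_c54 LD3_c16)) = (LP (LK LD1_c16 LD2_c39 LD3_c27)) :=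
  Lre_a IH (LK LD1_c8 LD2_c54 LD3_c16) (LK LD1_c16 LD2_c39 LD3_c27) Lrfl Lrfl
theorem f235024 : Led Lsl_at (LP (LK LD1_c10 LD2_c56 LD3_c7)) = (LP (LK LD1_c5 LD2_c32 LD3_c14)) :=
  Lre_a IH (LK LD1_c10 LD2_c56 LD3_c7) (LK LD1_c5 LD2_c32 LD3_c14) Lrfl Lrfl
theorem f398984 : Led Lsl_ct (LP (LK LD1_c16 LD2_c39 LD3_c27)) = (LP (LK LD1_c10 LD2_c56 LD3_c7)) :=
  Lgr Lrot111 (Lpe (f292617 IH) (Lpr_cf (K54.f398981 IH) (Lpe (f235024 IH) (Lpn (LP (LK LD1_c10 LD2_c56 LD3_c7))))))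
theorem f267352 : Led Lsl_ct (LP (LK LD1_c4 LD2_c30 LD3_c27)) = (LP (LK LD1_c2 LD2_c12 LD3_c11)) :=
  Lre_c IH (LK LD1_c4 LD2_c30 LD3_c27) (LK LD1_c2 LD2_c12 LD3_c11) Lrfl Lrfl
theorem f267353 : Led Lsl_bt (LP (LK LD1_c4 LD2_c30 LD3_c27)) = (LP (LK LD1_c8 LD2_c59 LD3_c13)) :=
  Lre_b IH (LK LD1_c4 LD2_c30 LD3_c27) (LK LD1_c8 LD2_c59 LD3_c13) Lrfl Lrfl
theorem f399011 : Led Lsl_gf (LP (LK LD1_c16 LD2_c39 LD3_c27)) = (LP (LK LD1_c8 LD2_c59 LD3_c13)) :=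
  Lgr Lrot181 (Lpr_ct (f398984 IH) (Lpr_gt (K31.f235034 IH) (Lpe (K31.f267337 IH) (Lpr_bt (K31.f267336 IH) (Lpr_gt (K53.f267348 IH) (Lpe (K67.f267350 IH) (Lpr_ct (K67.f224522 IH) (Lpr_gt (K50.f267351 IH) (Lpe (f267352 IH) (Lpr_bt (f267353 IH) (Lpn (LP (LK LD1_c8 LD2_c59 LD3_c13)))))))))))))
theorem f399005 : Led Lsl_bf (LP (LK LD1_c16 LD2_c39 LD3_c27)) = (LP (LK LD1_c18 LD2_c3 LD3_c1)) :=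
  Lgr Lrot90 (Lpr_ct (f398984 IH) (Lpr_bt (K54.f235025 IH) (Lpe (K16.f235016 IH) (Lpr_bt (K54.f53712 IH) (Lpr_ct (K68.f53717 IH) (Lpn (LP (LK LD1_c18 LD2_c3 LD3_c1))))))))
theorem f53714 : Led Lsl_ct (LP (LK LD1_c18 LD2_c3 LD3_c1)) = (LP (LK LD1_c9 LD2_c51 LD3_c48)) :=
  Lre_c IH (LK LD1_c18 LD2_c3 LD3_c1) (LK LD1_c9 LD2_c51 LD3_c48) Lrfl Lrfl
theorem f399015 : Led Lsl_gt (LP (LK LD1_c9 LD2_c51 LD3_c48)) = (LP (LK LD1_c16 LD2_c41 LD3_c15)) :=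
  Lgr Lrot65 (Lpe (f53714 IH) (Lpe (f399005 IH) (Lpr_gf (f399011 IH) (Lpe (f267353 IH) (Lpr_ct (f267352 IH) (Lpe (K50.f267351 IH) (Lpe (K67.f224522 IH) (Lpe (K27.f224510 IH) (Lpe (K30.f276485 IH) (Lpr_ct (K20.f223500 IH) (Lpn (LP (LK LD1_c16 LD2_c41 LD3_c15)))))))))))))
theorem f235018 : Led Lsl_ct (LP (LK LD1_c9 LD2_c51 LD3_c37)) = (LP (LK LD1_c16 LD2_c45 LD3_c29)) :=
  Lgr Lrot59 (Lpr_cf (K16.f235016 IH) (Lpn (LP (LK LD1_c16 LD2_c45 LD3_c29))))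
theorem f234978 : Led Lsl_ft (LP (LK LD1_c5 LD2_c32 LD3_c15)) = (LP (LK LD1_c8 LD2_c57 LD3_c1)) :=
  Lgr Lrot75 (Lpe (K16.f213046 IH) (Lpr_ff (K13.f234974 IH) (Lpe (K16.f218731 IH) (Lpn (LP (LK LD1_c8 LD2_c57 LD3_c1))))))
theorem f213058 : Led Lsl_gt (LP (LK LD1_c5 LD2_c32 LD3_c15)) = (LP (LK LD1_c10 LD2_c56 LD3_c8)) :=
  Lre_g IH (LK LD1_c5 LD2_c32 LD3_c15) (LK LD1_c10 LD2_c56 LD3_c8) Lrfl Lrfl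
theorem f418236 : Led Lsl_gt (LP (LK LD1_c10 LD2_c56 LD3_c8)) = (LP (LK LD1_c16 LD2_c45 LD3_c29)) :=
  Lgr Lrot46 (Lpe (f213058 IH) (Lpr_ft (f234978 IH) (Lpr_at (K16.f234997 IH) (Lpn (LP (LK LD1_c16 LD2_c45 LD3_c29))))))
theorem f213129 : Led Lsl_ct (LP (LK LD1_c19 LD2_c44 LD3_c56)) = (LP (LK LD1_c10 LD2_c56 LD3_c8)) :=
  Lre_c IH (LK LD1_c19 LD2_c44 LD3_c56) (LK LD1_c10 LD2_c56 LD3_c8) Lrfl Lrfl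
theorem f895760 : Led Lsl_gf (LP (LK LD1_c19 LD2_c44 LD3_c56)) = v37643 :=
  Lgr Lrot181 (Lpr_ct (f213129 IH) (Lpr_gt (f418236 IH) (Lpe (f235018 IH) (Lpr_bt (K54.f53712 IH) (Lpr_gt (f399015 IH) (Lpr_bf (K30.f380806 IH) (Lpe (K27.f380808 IH) (Lpr_gt (K54.f290486 IH) (Lpe (f281541 IH) (Lpr_bt (f895756 IH) (Lpn v37643)))))))))))
theorem f731855 : Led Lsl_at (LP (LK LD1_c5 LD2_c33 LD3_c3)) = (LP (LK LD1_c8 LD2_c58 LD3_c44)) :=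
  Lgr Lrot107 (Lpe (K24.f174185 IH) (Lpe (K40.f387537 IH) (Lpr_cf (K54.f731827 IH) (Lpn (LP (LK LD1_c8 LD2_c58 LD3_c44))))))
theorem f732310 : Led Lsl_ff (LP (LK LD1_c5 LD2_c33 LD3_c3)) = (LP (LK LD1_c8 LD2_c58 LD3_c45)) :=
  Lgr Lrot30 (Lpr_at (f731855 IH) (Lpe (K54.f731867 IH) (Lpr_at (K54.f732303 IH) (Lpn (LP (LK LD1_c8 LD2_c58 LD3_c45))))))
theorem f732312 : Led Lsl_ft (LP (LK LD1_c5 LD2_c33 LD3_c3)) = (LP (LK LD1_c8 LD2_c58 LD3_c45)) :=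
  Lgr Lrot48 (Lpr_ff (f732310 IH) (Lpn (LP (LK LD1_c8 LD2_c58 LD3_c45))))
theorem f895759 : Led Lsl_ff (LP (LK LD1_c10 LD2_c57 LD3_c59)) = v37643 :=
  Lgr Lrot25 (Lpr_bt (K30.f213406 IH) (Lpr_ft (f732312 IH) (Lpr_bt (f895756 IH) (Lpn v37643))))
theorem f213028 : Led Lsl_ct (LP (LK LD1_c10 LD2_c39 LD3_c51)) = (LP (LK LD1_c5 LD2_c24 LD3_c36)) :=
  Lre_c IH (LK LD1_c10 LD2_c39 LD3_c51) (LK LD1_c5 LD2_c24 LD3_c36) Lrfl Lrfl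
theorem f235197 : Led Lsl_ct (LP (LK LD1_c10 LD2_c31 LD3_c31)) = (LP (LK LD1_c19 LD2_c4 LD3_c28)) :=
  Lre_c IH (LK LD1_c10 LD2_c31 LD3_c31) (LK LD1_c19 LD2_c4 LD3_c28) Lrfl Lrfl
theorem f732092 : Led Lsl_ff (LP (LK LD1_c10 LD2_c39 LD3_c51)) = (LP (LK LD1_c19 LD2_c4 LD3_c28)) :=
  Lgr Lrot23 (Lpr_ct (f213028 IH) (Lpr_ft (K54.f726514 IH) (Lpqs (K68.f732085 IH) (Lpr_ct (f235197 IH) (Lpn (LP (LK LD1_c19 LD2_c4 LD3_c28)))))))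
theorem f732094 : Led Lsl_ft (LP (LK LD1_c10 LD2_c39 LD3_c51)) = (LP (LK LD1_c19 LD2_c4 LD3_c28)) :=
  Lgr Lrot48 (Lpr_ff (f732092 IH) (Lpn (LP (LK LD1_c19 LD2_c4 LD3_c28))))
theorem f402671 : Led Lsl_gt (LP (LK LD1_c10 LD2_c39 LD3_c51)) = (LP (LK LD1_c19 LD2_c18 LD3_c39)) :=
  Lre_g IH (LK LD1_c10 LD2_c39 LD3_c51) (LK LD1_c19 LD2_c18 LD3_c39) Lrfl Lrfl
theorem f235186 : Led Lsl_dt (LP (LK LD1_c10 LD2_c31 LD3_c33)) = (LP (LK LD1_c19 LD2_c4 LD3_c29)) :=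
  Lre_d IH (LK LD1_c10 LD2_c31 LD3_c33) (LK LD1_c19 LD2_c4 LD3_c29) Lrfl Lrfl
theorem f318256 : Led Lsl_bt (LP (LK LD1_c1 LD2_c16 LD3_c17)) = (LP (LK LD1_c2 LD2_c38 LD3_c51)) :=
  Lre_b IH (LK LD1_c1 LD2_c16 LD3_c17) (LK LD1_c2 LD2_c38 LD3_c51) Lrfl Lrfl
theorem f318257 : Led Lsl_ff (LP (LK LD1_c5 LD2_c20 LD3_c44)) = (LP (LK LD1_c2 LD2_c38 LD3_c51)) :=
  Lgr Lrot25 (Lpr_bt (K22.f224458 IH) (Lpr_ft (K20.f318254 IH) (Lpr_bt (f318256 IH) (Lpn (LP (LK LD1_c2 LD2_c38 LD3_c51))))))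
theorem f235188 : Led Lsl_at (LP (LK LD1_c5 LD2_c20 LD3_c44)) = (LP (LK LD1_c10 LD2_c31 LD3_c33)) :=
  Lre_a IH (LK LD1_c5 LD2_c20 LD3_c44) (LK LD1_c10 LD2_c31 LD3_c33) Lrfl Lrfl
theorem f402669 : Led Lsl_gf (LP (LK LD1_c10 LD2_c31 LD3_c33)) = (LP (LK LD1_c5 LD2_c24 LD3_c36)) :=
  Lgr Lrot76 (Lpe (f235188 IH) (Lpr_ff (f318257 IH) (Lpr_gt (K54.f213027 IH) (Lpn (LP (LK LD1_c5 LD2_c24 LD3_c36))))))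
theorem f402672 : Led Lsl_dt (LP (LK LD1_c19 LD2_c18 LD3_c39)) = (LP (LK LD1_c28 LD2_c43 LD3_c59)) :=
  Lre_d IH (LK LD1_c19 LD2_c18 LD3_c39) (LK LD1_c28 LD2_c43 LD3_c59) Lrfl Lrfl
theorem f417732 : Led Lsl_gf (LP (LK LD1_c19 LD2_c48 LD3_c13)) = (LP (LK LD1_c28 LD2_c43 LD3_c59)) :=
  Lgr Lrot143 (Lpe (K54.f390263 IH) (Lpr_cf (K38.f293457 IH) (Lpr_df (K68.f417725 IH) (Lpr_gf (K68.f338114 IH) (Lpe (f235186 IH) (Lpr_gf (f402669 IH) (Lpe (f213028 IH) (Lpr_gt (f402671 IH) (Lpr_dt (f402672 IH) (Lpn (LP (LK LD1_c28 LD2_c43 LD3_c59))))))))))))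
theorem f417739 : Led Lsl_gf (LP (LK LD1_c10 LD2_c39 LD3_c53)) = (LP (LK LD1_c19 LD2_c18 LD3_c39)) :=
  Lgr Lrot147 (Lpr_ct (K20.f213005 IH) (Lpr_gt (K20.f213004 IH) (Lpr_ct (K22.f212999 IH) (Lpe (K67.f217663 IH) (Lpe (K68.f279666 IH) (Lpe (K38.f279677 IH) (Lpr_cf (K38.f316816 IH) (Lpr_gf (f417732 IH) (Lpe (f402672 IH) (Lpn (LP (LK LD1_c19 LD2_c18 LD3_c39))))))))))))
theorem f732096 : Led Lsl_af (LP (LK LD1_c10 LD2_c39 LD3_c53)) = (LP (LK LD1_c19 LD2_c4 LD3_c28)) :=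
  Lgr Lrot31 (Lpr_gf (f417739 IH) (Lpe (f402671 IH) (Lpr_ft (f732094 IH) (Lpn (LP (LK LD1_c19 LD2_c4 LD3_c28))))))
theorem f732100 : Led Lsl_at (LP (LK LD1_c16 LD2_c47 LD3_c52)) = (LP (LK LD1_c10 LD2_c39 LD3_c51)) :=
  Lgr Lrot66 (Lpe (K54.f731885 IH) (Lpr_af (f732096 IH) (Lpe (f732094 IH) (Lpn (LP (LK LD1_c10 LD2_c39 LD3_c51))))))
theorem f235203 : Led Lsl_bt (LP (LK LD1_c8 LD2_c58 LD3_c44)) = (LP (LK LD1_c16 LD2_c47 LD3_c52)) :=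
  Lre_b IH (LK LD1_c8 LD2_c58 LD3_c44) (LK LD1_c16 LD2_c47 LD3_c52) Lrfl Lrfl
theorem f213029 : Led Lsl_bt (LP (LK LD1_c10 LD2_c39 LD3_c51)) = (LP (LK LD1_c19 LD2_c18 LD3_c40)) :=
  Lre_b IH (LK LD1_c10 LD2_c39 LD3_c51) (LK LD1_c19 LD2_c18 LD3_c40) Lrfl Lrfl
theorem f732104 : Led Lsl_af (LP (LK LD1_c10 LD2_c57 LD3_c59)) = (LP (LK LD1_c19 LD2_c18 LD3_c40)) :=
  Lgr Lrot36 (Lpr_bt (K30.f213406 IH) (Lpr_at (f731855 IH) (Lpr_bt (f235203 IH) (Lpr_at (f732100 IH) (Lpr_bt (f213029 IH) (Lpn (LP (LK LD1_c19 LD2_c18 LD3_c40))))))))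
theorem f732110 : Led Lsl_at (LP (LK LD1_c10 LD2_c57 LD3_c59)) = (LP (LK LD1_c19 LD2_c18 LD3_c40)) :=
  Lgr Lrot100 (Lpr_af (f732104 IH) (Lpn (LP (LK LD1_c19 LD2_c18 LD3_c40))))
theorem f895761 : Led Lsl_gt (LP (LK LD1_c19 LD2_c44 LD3_c56)) = (LP (LK LD1_c19 LD2_c18 LD3_c40)) :=
  Lgr Lrot46 (Lpr_gf (f895760 IH) (Lpe (f895759 IH) (Lpr_at (f732110 IH) (Lpn (LP (LK LD1_c19 LD2_c18 LD3_c40))))))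
theorem f895762 : Led Lsl_gt (LP (LK LD1_c19 LD2_c44 LD3_c56)) = (LP (LK LD1_c19 LD2_c18 LD3_c40)) :=
  Leop (Lpe (f895761 IH) (Lpn (LP (LK LD1_c19 LD2_c44 LD3_c56))))
theorem seed_2171 : LEOK LG_g (LK LD1_c19 LD2_c44 LD3_c56) :=
  Leoe_g (LK LD1_c19 LD2_c44 LD3_c56) (f895762 IH)
theorem f213122 : Led Lsl_ct (LP (LK LD1_c10 LD2_c56 LD3_c8)) = (LP (LK LD1_c19 LD2_c44 LD3_c56)) :=
  Lre_c IH (LK LD1_c10 LD2_c56 LD3_c8) (LK LD1_c19 LD2_c44 LD3_c56) Lrfl Lrfl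
theorem f418242 : Led Lsl_bt (LP (LK LD1_c10 LD2_c56 LD3_c8)) = (LP (LK LD1_c19 LD2_c44 LD3_c55)) :=
  Lre_b IH (LK LD1_c10 LD2_c56 LD3_c8) (LK LD1_c19 LD2_c44 LD3_c55) Lrfl Lrfl
theorem f213147 : Led Lsl_bt (LP (LK LD1_c19 LD2_c44 LD3_c55)) = (LP (LK LD1_c10 LD2_c56 LD3_c8)) :=
  Lre_b IH (LK LD1_c19 LD2_c44 LD3_c55) (LK LD1_c10 LD2_c56 LD3_c8) Lrfl Lrfl
theorem f217383 : Led Lsl_ft (LP (LK LD1_c17 LD2_c50 LD3_c40)) = (LP (LK LD1_c18 LD2_c50 LD3_c59)) :=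
  Lgr Lrot48 (Lpr_ff (K31.f217378 IH) (Lpn (LP (LK LD1_c18 LD2_c50 LD3_c59))))
theorem f49272 : Led Lsl_gt (LP (LK LD1_c18 LD2_c50 LD3_c58)) = (LP (LK LD1_c10 LD2_c23 LD3_c22)) :=
  Lre_g IH (LK LD1_c18 LD2_c50 LD3_c58) (LK LD1_c10 LD2_c23 LD3_c22) Lrfl Lrfl
theorem f217392 : Led Lsl_gt (LP (LK LD1_c17 LD2_c50 LD3_c40)) = (LP (LK LD1_c18 LD2_c50 LD3_c58)) :=
  Lgr Lrot5 (Lpr_ft (f217383 IH) (Lpr_at (K22.f49276 IH) (Lpe (f49272 IH) (Lpn (LP (LK LD1_c18 LD2_c50 LD3_c58))))))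
theorem f418238 : Led Lsl_ct (LP (LK LD1_c19 LD2_c44 LD3_c55)) = (LP (LK LD1_c18 LD2_c50 LD3_c58)) :=
  Lgr Lrot10 (Lpr_bt (f213147 IH) (Lpr_gt (f418236 IH) (Lpe (K16.f235016 IH) (Lpr_gt (K16.f213435 IH) (Lpr_cf (K16.f213387 IH) (Lpr_bt (K16.f196401 IH) (Lpr_gt (K16.f52497 IH) (Lpe (K27.f216867 IH) (Lpe (K27.f217376 IH) (Lpr_gt (f217392 IH) (Lpn (LP (LK LD1_c18 LD2_c50 LD3_c58)))))))))))))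
theorem f418243 : Led Lsl_cf (LP (LK LD1_c19 LD2_c44 LD3_c55)) = (LP (LK LD1_c18 LD2_c50 LD3_c58)) :=
  Lgr Lrot11 (Lpr_ct (f418238 IH) (Lpn (LP (LK LD1_c18 LD2_c50 LD3_c58))))
theorem f217374 : Led Lsl_bf (LP (LK LD1_c17 LD2_c50 LD3_c40)) = (LP (LK LD1_c15 LD2_c21 LD3_c28)) :=
  Lgr Lrot24 (Lpr_bt (K27.f217363 IH) (Lpn (LP (LK LD1_c15 LD2_c21 LD3_c28))))
theorem f393943 : Led Lsl_bf (LP (LK LD1_c27 LD2_c35 LD3_c47)) = (LP (LK LD1_c17 LD2_c52 LD3_c11)) :=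
  Lgr Lrot24 (Lpr_bt (f393941 IH) (Lpn (LP (LK LD1_c17 LD2_c52 LD3_c11))))
theorem f418249 : Led Lsl_gt (LP (LK LD1_c19 LD2_c44 LD3_c55)) = (LP (LK LD1_c25 LD2_c4 LD3_c17)) :=
  Lgr Lrot149 (Lpr_cf (f418243 IH) (Lpe (f217392 IH) (Lpr_bf (f217374 IH) (Lpr_ct (K11.f52482 IH) (Lpr_gf (K18.f53059 IH) (Lpe (K18.f53061 IH) (Lpr_bt (K18.f53063 IH) (Lpe (K31.f389616 IH) (Lpr_bf (f393943 IH) (Lpe (f393945 IH) (Lpn (LP (LK LD1_c25 LD2_c4 LD3_c17)))))))))))))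
theorem f281690 : Led Lsl_bt (LP (LK LD1_c16 LD2_c45 LD3_c61)) = (LP (LK LD1_c8 LD2_c57 LD3_c20)) :=
  Lre_b IH (LK LD1_c16 LD2_c45 LD3_c61) (LK LD1_c8 LD2_c57 LD3_c20) Lrfl Lrfl
theorem f895763 : Led Lsl_ct (LP (LK LD1_c16 LD2_c45 LD3_c61)) = v37643 :=
  Lgr Lrot64 (Lpr_bt (f281690 IH) (Lpe (f281539 IH) (Lpr_bf (f393952 IH) (Lpe (f217432 IH) (Lpe (f217438 IH) (Lpe (f393947 IH) (Lpe (f418249 IH) (Lpe (f418242 IH) (Lpr_ct (f213122 IH) (Lpr_gf (f895760 IH) (Lpn v37643)))))))))))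
theorem f391399 : Led Lsl_bt (LP (LK LD1_c16 LD2_c48 LD3_c21)) = (LP (LK LD1_c8 LD2_c59 LD3_c10)) :=
  Lre_b IH (LK LD1_c16 LD2_c48 LD3_c21) (LK LD1_c8 LD2_c59 LD3_c10) Lrfl Lrfl
theorem f391390 : Led Lsl_ct (LP (LK LD1_c16 LD2_c48 LD3_c21)) = (LP (LK LD1_c8 LD2_c59 LD3_c13)) :=
  Lre_c IH (LK LD1_c16 LD2_c48 LD3_c21) (LK LD1_c8 LD2_c59 LD3_c13) Lrfl Lrfl
theorem f399007 : Led Lsl_cf (LP (LK LD1_c16 LD2_c39 LD3_c27)) = (LP (LK LD1_c10 LD2_c56 LD3_c7)) :=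
  Lgr Lrot11 (Lpr_ct (f398984 IH) (Lpn (LP (LK LD1_c10 LD2_c56 LD3_c7))))
theorem f213124 : Led Lsl_gt (LP (LK LD1_c10 LD2_c56 LD3_c9)) = (LP (LK LD1_c5 LD2_c32 LD3_c15)) :=
  Lre_g IH (LK LD1_c10 LD2_c56 LD3_c9) (LK LD1_c5 LD2_c32 LD3_c15) Lrfl Lrfl
theorem f235079 : Led Lsl_gf (LP (LK LD1_c10 LD2_c56 LD3_c9)) = (LP (LK LD1_c16 LD2_c45 LD3_c29)) :=
  Lgr Lrot47 (Lpr_gt (f213124 IH) (Lpe (K31.f213119 IH) (Lpr_ff (K54.f235072 IH) (Lpn (LP (LK LD1_c16 LD2_c45 LD3_c29))))))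
theorem f213131 : Led Lsl_ct (LP (LK LD1_c10 LD2_c56 LD3_c9)) = (LP (LK LD1_c19 LD2_c44 LD3_c59)) :=
  Lre_c IH (LK LD1_c10 LD2_c56 LD3_c9) (LK LD1_c19 LD2_c44 LD3_c59) Lrfl Lrfl
theorem f895764 : Led Lsl_gt (LP (LK LD1_c19 LD2_c44 LD3_c59)) = v37643 :=
  Lgr Lrot149 (Lpe (f213131 IH) (Lpr_gf (f235079 IH) (Lpe (K54.f235025 IH) (Lpe (f399007 IH) (Lpr_gf (f399011 IH) (Lpe (f391390 IH) (Lpr_bt (f391399 IH) (Lpe (K54.f281537 IH) (Lpe (f281690 IH) (Lpr_ct (f895763 IH) (Lpn v37643)))))))))))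
theorem f213132 : Led Lsl_bt (LP (LK LD1_c10 LD2_c56 LD3_c9)) = (LP (LK LD1_c19 LD2_c44 LD3_c58)) :=
  Lre_b IH (LK LD1_c10 LD2_c56 LD3_c9) (LK LD1_c19 LD2_c44 LD3_c58) Lrfl Lrfl
theorem f217405 : Led Lsl_bt (LP (LK LD1_c5 LD2_c32 LD3_c17)) = (LP (LK LD1_c10 LD2_c56 LD3_c13)) :=
  Lre_b IH (LK LD1_c5 LD2_c32 LD3_c17) (LK LD1_c10 LD2_c56 LD3_c13) Lrfl Lrfl
theorem f895765 : Led Lsl_gf (LP (LK LD1_c19 LD2_c44 LD3_c58)) = (LP (LK LD1_c10 LD2_c56 LD3_c13)) :=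
  Lgr Lrot124 (Lpe (f213132 IH) (Lpr_ct (f213131 IH) (Lpr_gt (f895764 IH) (Lpe (f895763 IH) (Lpr_bt (f281690 IH) (Lpr_gt (K54.f281537 IH) (Lpr_ct (f281637 IH) (Lpr_gt (K20.f281630 IH) (Lpe (K54.f281635 IH) (Lpr_bt (f217405 IH) (Lpn (LP (LK LD1_c10 LD2_c56 LD3_c13)))))))))))))
theorem f895766 : Led Lsl_gt (LP (LK LD1_c10 LD2_c56 LD3_c13)) = (LP (LK LD1_c19 LD2_c44 LD3_c58)) :=
  Leop (Lpr_gf (f895765 IH) (Lpn (LP (LK LD1_c10 LD2_c56 LD3_c13))))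
theorem seed_2172 : LEOK LG_g (LK LD1_c10 LD2_c56 LD3_c13) :=
  Leoe_g (LK LD1_c10 LD2_c56 LD3_c13) (f895766 IH)
def v37680 : LQ := Led Lsl_bt (LP (LK LD1_c8 LD2_c59 LD3_c0))
theorem f895950 : Led Lsl_bt (LP (LK LD1_c8 LD2_c59 LD3_c0)) = v37680 :=
  Lrfl
theorem f697997 : Led Lsl_ct (LP (LK LD1_c4 LD2_c30 LD3_c25)) = (LP (LK LD1_c8 LD2_c59 LD3_c0)) :=
  Lre_c IH (LK LD1_c4 LD2_c30 LD3_c25) (LK LD1_c8 LD2_c59 LD3_c0) Lrfl Lrfl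
theorem f281723 : Led Lsl_bt (LP (LK LD1_c2 LD2_c12 LD3_c10)) = (LP (LK LD1_c4 LD2_c30 LD3_c21)) :=
  Lre_b IH (LK LD1_c2 LD2_c12 LD3_c10) (LK LD1_c4 LD2_c30 LD3_c21) Lrfl Lrfl
theorem f698027 : Led Lsl_bf (LP (LK LD1_c4 LD2_c30 LD3_c25)) = K68.v12756 :=
  Lgr Lrot61 (Lpr_ft (K68.f698003 IH) (Lpr_bt (f281723 IH) (Lpr_ft (K68.f698026 IH) (Lpn K68.v12756))))
theorem f168741 : Led Lsl_bt (LP (LK LD1_c9 LD2_c43 LD3_c5)) = (LP (LK LD1_c4 LD2_c55 LD3_c41)) :=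
  Lre_b IH (LK LD1_c9 LD2_c43 LD3_c5) (LK LD1_c4 LD2_c55 LD3_c41) Lrfl Lrfl
theorem f895952 : Led Lsl_cf (LP (LK LD1_c9 LD2_c43 LD3_c5)) = v37680 :=
  Lgr Lrot97 (Lpr_bt (f168741 IH) (Lpr_ct (K68.f718640 IH) (Lpqs (K68.f890614 IH) (Lpe (f698027 IH) (Lpr_ct (f697997 IH) (Lpr_bt (f895950 IH) (Lpn v37680)))))))
theorem f895951 : Led Lsl_bf (LP (LK LD1_c8 LD2_c59 LD3_c0)) = v37680 :=
  Lgr Lrot24 (Lpr_bt (f895950 IH) (Lpn v37680))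
def v23775 : LQ := Led Lsl_ct K68.v4169
theorem f820385 : Led Lsl_ct K68.v4169 = v23775 :=
  Lrfl
theorem f890615 : v23775 = (LP (LK LD1_c8 LD2_c59 LD3_c0)) :=
  Lefun (Lecon (f820385 IH) (K68.f890606 IH).symm) (f697997 IH)
theorem f8807 : Led Lsl_dt (LP (LK LD1_c2 LD2_c12 LD3_c12)) = (LP (LK LD1_c4 LD2_c30 LD3_c30)) :=
  Lre_d IH (LK LD1_c2 LD2_c12 LD3_c12) (LK LD1_c4 LD2_c30 LD3_c30) Lrfl Lrfl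
theorem f290373 : Led Lsl_dt (LP (LK LD1_c10 LD2_c54 LD3_c56)) = (LP (LK LD1_c19 LD2_c43 LD3_c2)) :=
  Lre_d IH (LK LD1_c10 LD2_c54 LD3_c56) (LK LD1_c19 LD2_c43 LD3_c2) Lrfl Lrfl
theorem f820387 : Led Lsl_gf (LP (LK LD1_c10 LD2_c54 LD3_c56)) = v23775 :=
  Lgr Lrot148 (Lpr_dt (f290373 IH) (Lpe (K67.f422540 IH) (Lpr_dt (K67.f179162 IH) (Lpr_ct (K67.f179137 IH) (Lpe (K27.f179154 IH) (Lpe (K27.f8808 IH) (Lpe (f8807 IH) (Lpr_gf (K68.f631598 IH) (Lpr_ct (f820385 IH) (Lpn v23775))))))))))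
theorem f221307 : Led Lsl_bt (LP (LK LD1_c19 LD2_c43 LD3_c1)) = (LP (LK LD1_c10 LD2_c54 LD3_c56)) :=
  Lre_b IH (LK LD1_c19 LD2_c43 LD3_c1) (LK LD1_c10 LD2_c54 LD3_c56) Lrfl Lrfl
theorem f221306 : Led Lsl_ct (LP (LK LD1_c19 LD2_c43 LD3_c1)) = (LP (LK LD1_c10 LD2_c54 LD3_c57)) :=
  Lre_c IH (LK LD1_c19 LD2_c43 LD3_c1) (LK LD1_c10 LD2_c54 LD3_c57) Lrfl Lrfl
theorem f221296 : Led Lsl_bt (LP (LK LD1_c5 LD2_c31 LD3_c37)) = (LP (LK LD1_c10 LD2_c54 LD3_c57)) :=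
  Lre_b IH (LK LD1_c5 LD2_c31 LD3_c37) (LK LD1_c10 LD2_c54 LD3_c57) Lrfl Lrfl
theorem f375128 : Led Lsl_gf (LP (LK LD1_c16 LD2_c40 LD3_c36)) = (LP (LK LD1_c10 LD2_c54 LD3_c57)) :=
  Lgr Lrot181 (Lpr_ct (K31.f375120 IH) (Lpr_gt (K31.f375125 IH) (Lpr_cf (K31.f262982 IH) (Lpr_bt (K31.f221432 IH) (Lpe (K31.f221428 IH) (Lpr_bf (K20.f280695 IH) (Lpr_ct (K31.f280661 IH) (Lpe (K31.f281706 IH) (Lpe (K27.f221295 IH) (Lpr_bt (f221296 IH) (Lpn (LP (LK LD1_c10 LD2_c54 LD3_c57)))))))))))))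
theorem f375127 : Led Lsl_ct (LP (LK LD1_c8 LD2_c54 LD3_c51)) = (LP (LK LD1_c16 LD2_c40 LD3_c36)) :=
  Lre_c IH (LK LD1_c8 LD2_c54 LD3_c51) (LK LD1_c16 LD2_c40 LD3_c36) Lrfl Lrfl
theorem f375093 : Led Lsl_bt (LP (LK LD1_c9 LD2_c42 LD3_c10)) = (LP (LK LD1_c17 LD2_c48 LD3_c15)) :=
  Lgr Lrot35 (Lpr_ff (K31.f370097 IH) (Lpe (K27.f370060 IH) (Lpe (K27.f369178 IH) (Lpn (LP (LK LD1_c17 LD2_c48 LD3_c15))))))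
theorem f375140 : Led Lsl_bt (LP (LK LD1_c8 LD2_c54 LD3_c51)) = (LP (LK LD1_c16 LD2_c36 LD3_c34)) :=
  Lgr Lrot128 (Lpe (K31.f375120 IH) (Lpr_bf (K31.f375134 IH) (Lpr_cf (K54.f201180 IH) (Lpe (f375093 IH) (Lpr_cf (K31.f168617 IH) (Lpn (LP (LK LD1_c16 LD2_c36 LD3_c34))))))))
theorem f370076 : Led Lsl_ct (LP (LK LD1_c8 LD2_c54 LD3_c58)) = (LP (LK LD1_c16 LD2_c40 LD3_c50)) :=
  Lre_c IH (LK LD1_c8 LD2_c54 LD3_c58) (LK LD1_c16 LD2_c40 LD3_c50) Lrfl Lrfl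
theorem f895959 : Led Lsl_gf (LP (LK LD1_c9 LD2_c43 LD3_c5)) = (LP (LK LD1_c16 LD2_c40 LD3_c50)) :=
  Lgr Lrot129 (Lpr_cf (f895952 IH) (Lpe (f895951 IH) (Lpq (f890615 IH) (Lpe (f820387 IH) (Lpe (f221307 IH) (Lpr_ct (f221306 IH) (Lpe (f375128 IH) (Lpe (f375127 IH) (Lpr_bt (f375140 IH) (Lpr_gt (K42.f375223 IH) (Lpr_ct (f370076 IH) (Lpn (LP (LK LD1_c16 LD2_c40 LD3_c50))))))))))))))
theorem f895960 : Led Lsl_gt (LP (LK LD1_c16 LD2_c40 LD3_c50)) = (LP (LK LD1_c9 LD2_c43 LD3_c5)) :=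
  Leop (Lpr_gf (f895959 IH) (Lpn (LP (LK LD1_c16 LD2_c40 LD3_c50))))
theorem seed_2173 : LEOK LG_g (LK LD1_c16 LD2_c40 LD3_c50) :=
  Leoe_g (LK LD1_c16 LD2_c40 LD3_c50) (f895960 IH)
theorem f698000 : Led Lsl_ct (LP (LK LD1_c8 LD2_c59 LD3_c0)) = (LP (LK LD1_c4 LD2_c30 LD3_c25)) :=
  Lre_c IH (LK LD1_c8 LD2_c59 LD3_c0) (LK LD1_c4 LD2_c30 LD3_c25) Lrfl Lrfl
theorem f168659 : Led Lsl_bf (LP (LK LD1_c17 LD2_c50 LD3_c45)) = (LP (LK LD1_c16 LD2_c36 LD3_c21)) :=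
  Lgr Lrot24 (Lpr_bt (K31.f168657 IH) (Lpn (LP (LK LD1_c16 LD2_c36 LD3_c21))))
theorem f895954 : Led Lsl_gf (LP (LK LD1_c17 LD2_c50 LD3_c45)) = v37680 :=
  Lgr Lrot124 (Lpr_bf (f168659 IH) (Lpe (K31.f290410 IH) (Lpr_gt (K31.f173641 IH) (Lpe (K31.f290385 IH) (Lpr_bt (K31.f290409 IH) (Lpr_gt (K17.f290399 IH) (Lpr_ct (K30.f168656 IH) (Lpq (K68.f890600 IH) (Lpe (K68.f697985 IH) (Lpe (f698000 IH) (Lpr_bt (f895950 IH) (Lpn v37680))))))))))))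
theorem f168664 : Led Lsl_bt (LP (LK LD1_c9 LD2_c42 LD3_c9)) = (LP (LK LD1_c17 LD2_c50 LD3_c44)) :=
  Lre_b IH (LK LD1_c9 LD2_c42 LD3_c9) (LK LD1_c17 LD2_c50 LD3_c44) Lrfl Lrfl
theorem f591189 : Led Lsl_at (LP (LK LD1_c5 LD2_c24 LD3_c11)) = (LP (LK LD1_c10 LD2_c31 LD3_c44)) :=
  Lgr Lrot100 (Lpr_af (K47.f591187 IH) (Lpn (LP (LK LD1_c10 LD2_c31 LD3_c44))))
theorem f591219 : Led Lsl_ff (LP (LK LD1_c5 LD2_c24 LD3_c11)) = (LP (LK LD1_c10 LD2_c31 LD3_c45)) :=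
  Lgr Lrot30 (Lpr_at (f591189 IH) (Lpe (K47.f591203 IH) (Lpr_at (K47.f591211 IH) (Lpn (LP (LK LD1_c10 LD2_c31 LD3_c45))))))
theorem f591221 : Led Lsl_ft (LP (LK LD1_c10 LD2_c39 LD3_c8)) = (LP (LK LD1_c17 LD2_c50 LD3_c41)) :=
  Lgr Lrot4 (Lpe (K42.f331756 IH) (Lpr_ff (f591219 IH) (Lpe (K41.f168729 IH) (Lpn (LP (LK LD1_c17 LD2_c50 LD3_c41))))))
theorem f591227 : Led Lsl_ff (LP (LK LD1_c10 LD2_c39 LD3_c8)) = (LP (LK LD1_c17 LD2_c50 LD3_c41)) :=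
  Lgr Lrot3 (Lpr_ft (f591221 IH) (Lpn (LP (LK LD1_c17 LD2_c50 LD3_c41))))
theorem f168672 : Led Lsl_bt (LP (LK LD1_c9 LD2_c42 LD3_c8)) = (LP (LK LD1_c17 LD2_c50 LD3_c41)) :=
  Lre_b IH (LK LD1_c9 LD2_c42 LD3_c8) (LK LD1_c17 LD2_c50 LD3_c41) Lrfl Lrfl
theorem f591231 : Led Lsl_ft (LP (LK LD1_c16 LD2_c40 LD3_c55)) = (LP (LK LD1_c9 LD2_c42 LD3_c8)) :=
  Lgr Lrot75 (Lpr_bf (K42.f376616 IH) (Lpr_ff (f591227 IH) (Lpe (f168672 IH) (Lpn (LP (LK LD1_c9 LD2_c42 LD3_c8))))))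
theorem f375090 : Led Lsl_gt (LP (LK LD1_c16 LD2_c40 LD3_c56)) = (LP (LK LD1_c8 LD2_c54 LD3_c60)) :=
  Lre_g IH (LK LD1_c16 LD2_c40 LD3_c56) (LK LD1_c8 LD2_c54 LD3_c60) Lrfl Lrfl
theorem f375105 : Led Lsl_gt (LP (LK LD1_c9 LD2_c42 LD3_c10)) = (LP (LK LD1_c16 LD2_c40 LD3_c56)) :=
  Lgr Lrot5 (Lpr_ft (K31.f375097 IH) (Lpr_at (K27.f370062 IH) (Lpe (f375090 IH) (Lpn (LP (LK LD1_c16 LD2_c40 LD3_c56))))))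
theorem f591234 : Led Lsl_af (LP (LK LD1_c16 LD2_c40 LD3_c56)) = (LP (LK LD1_c9 LD2_c42 LD3_c8)) :=
  Lgr Lrot31 (Lpe (f375105 IH) (Lpe (K42.f376613 IH) (Lpr_ft (f591231 IH) (Lpn (LP (LK LD1_c9 LD2_c42 LD3_c8))))))
theorem f393951 : Led Lsl_bt (LP (LK LD1_c16 LD2_c40 LD3_c56)) = (LP (LK LD1_c26 LD2_c39 LD3_c40)) :=
  Lre_b IH (LK LD1_c16 LD2_c40 LD3_c56) (LK LD1_c26 LD2_c39 LD3_c40) Lrfl Lrfl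
theorem f168737 : Led Lsl_gt (LP (LK LD1_c17 LD2_c53 LD3_c27)) = (LP (LK LD1_c9 LD2_c44 LD3_c6)) :=
  Lre_g IH (LK LD1_c17 LD2_c53 LD3_c27) (LK LD1_c9 LD2_c44 LD3_c6) Lrfl Lrfl
theorem f332304 : Led Lsl_cf (LP (LK LD1_c17 LD2_c53 LD3_c27)) = (LP (LK LD1_c10 LD2_c31 LD3_c44)) :=
  Lgr Lrot125 (Lpr_gt (f168737 IH) (Lpe (K47.f332234 IH) (Lpr_bt (K54.f331878 IH) (Lpr_gt (K31.f332292 IH) (Lpe (K54.f172014 IH) (Lpr_ct (K12.f42259 IH) (Lpr_gt (K9.f42159 IH) (Lpe (K12.f42175 IH) (Lpr_bt (K41.f42178 IH) (Lpr_gt (K47.f42179 IH) (Lpn (LP (LK LD1_c10 LD2_c31 LD3_c44)))))))))))))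
theorem f332312 : Led Lsl_ct (LP (LK LD1_c17 LD2_c53 LD3_c27)) = (LP (LK LD1_c10 LD2_c31 LD3_c44)) :=
  Lgr Lrot59 (Lpr_cf (f332304 IH) (Lpn (LP (LK LD1_c10 LD2_c31 LD3_c44))))
theorem f591191 : Led Lsl_at (LP (LK LD1_c10 LD2_c39 LD3_c8)) = (LP (LK LD1_c17 LD2_c53 LD3_c27)) :=
  Lgr Lrot107 (Lpe (K42.f331756 IH) (Lpr_af (K47.f591187 IH) (Lpe (f332312 IH) (Lpn (LP (LK LD1_c17 LD2_c53 LD3_c27))))))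
theorem f591199 : Led Lsl_ff (LP (LK LD1_c10 LD2_c39 LD3_c5)) = (LP (LK LD1_c17 LD2_c53 LD3_c27)) :=
  Lgr Lrot23 (Lpr_ct (K42.f173131 IH) (Lpr_ft (K47.f591193 IH) (Lpe (f332304 IH) (Lpn (LP (LK LD1_c17 LD2_c53 LD3_c27))))))
theorem f591229 : Led Lsl_at (LP (LK LD1_c10 LD2_c39 LD3_c5)) = (LP (LK LD1_c17 LD2_c50 LD3_c41)) :=
  Lgr Lrot66 (Lpr_ff (f591199 IH) (Lpe (f591191 IH) (Lpr_ff (f591227 IH) (Lpn (LP (LK LD1_c17 LD2_c50 LD3_c41))))))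
theorem f591238 : Led Lsl_at (LP (LK LD1_c26 LD2_c39 LD3_c40)) = (LP (LK LD1_c19 LD2_c17 LD3_c36)) :=
  Lgr Lrot67 (Lpe (f393951 IH) (Lpr_af (f591234 IH) (Lpe (K41.f168668 IH) (Lpe (f591229 IH) (Lpe (K41.f392423 IH) (Lpn (LP (LK LD1_c19 LD2_c17 LD3_c36))))))))
theorem f174424 : Led Lsl_ct (LP (LK LD1_c26 LD2_c37 LD3_c53)) = (LP (LK LD1_c26 LD2_c39 LD3_c40)) :=
  Lre_c IH (LK LD1_c26 LD2_c37 LD3_c53) (LK LD1_c26 LD2_c39 LD3_c40) Lrfl Lrfl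
theorem f591255 : Led Lsl_af (LP (LK LD1_c26 LD2_c37 LD3_c53)) = (LP (LK LD1_c19 LD2_c20 LD3_c18)) :=
  Lgr Lrot68 (Lpr_ct (f174424 IH) (Lpr_at (f591238 IH) (Lpr_ct (K41.f173140 IH) (Lpn (LP (LK LD1_c19 LD2_c20 LD3_c18))))))
theorem f374623 : Led Lsl_ft (LP (LK LD1_c15 LD2_c15 LD3_c27)) = (LP (LK LD1_c18 LD2_c51 LD3_c4)) :=
  Lgr Lrot4 (Lpr_cf (K27.f196475 IH) (Lpr_ff (K31.f374621 IH) (Lpr_cf (K31.f218938 IH) (Lpn (LP (LK LD1_c18 LD2_c51 LD3_c4))))))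
theorem f218944 : Led Lsl_at (LP (LK LD1_c18 LD2_c51 LD3_c4)) = (LP (LK LD1_c10 LD2_c23 LD3_c26)) :=
  Lre_a IH (LK LD1_c18 LD2_c51 LD3_c4) (LK LD1_c10 LD2_c23 LD3_c26) Lrfl Lrfl
theorem f218948 : Led Lsl_gt (LP (LK LD1_c18 LD2_c51 LD3_c3)) = (LP (LK LD1_c10 LD2_c23 LD3_c26)) :=
  Lre_g IH (LK LD1_c18 LD2_c51 LD3_c3) (LK LD1_c10 LD2_c23 LD3_c26) Lrfl Lrfl
theorem f374700 : Led Lsl_gt (LP (LK LD1_c15 LD2_c15 LD3_c27)) = (LP (LK LD1_c18 LD2_c51 LD3_c3)) :=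
  Lgr Lrot5 (Lpr_ft (f374623 IH) (Lpr_at (f218944 IH) (Lpe (f218948 IH) (Lpn (LP (LK LD1_c18 LD2_c51 LD3_c3))))))
theorem f223209 : Led Lsl_bt (LP (LK LD1_c4 LD2_c28 LD3_c4)) = (LP (LK LD1_c8 LD2_c54 LD3_c8)) :=
  Lre_b IH (LK LD1_c4 LD2_c28 LD3_c4) (LK LD1_c8 LD2_c54 LD3_c8) Lrfl Lrfl
theorem f275624 : Led Lsl_gt (LP (LK LD1_c8 LD2_c54 LD3_c8)) = (LP (LK LD1_c16 LD2_c39 LD3_c11)) :=
  Lre_g IH (LK LD1_c8 LD2_c54 LD3_c8) (LK LD1_c16 LD2_c39 LD3_c11) Lrfl Lrfl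
theorem f275625 : Led Lsl_bt (LP (LK LD1_c26 LD2_c37 LD3_c38)) = (LP (LK LD1_c16 LD2_c39 LD3_c11)) :=
  Lre_b IH (LK LD1_c26 LD2_c37 LD3_c38) (LK LD1_c16 LD2_c39 LD3_c11) Lrfl Lrfl
theorem f275626 : Led Lsl_ct (LP (LK LD1_c26 LD2_c37 LD3_c38)) = (LP (LK LD1_c18 LD2_c51 LD3_c3)) :=
  Lgr Lrot64 (Lpr_bt (f275625 IH) (Lpe (f275624 IH) (Lpe (f223209 IH) (Lpr_ct (K12.f219632 IH) (Lpr_gf (K16.f275620 IH) (Lpe (K10.f48051 IH) (Lpe (K12.f223086 IH) (Lpe (K31.f218713 IH) (Lpr_ct (K31.f218927 IH) (Lpe (f218948 IH) (Lpn (LP (LK LD1_c18 LD2_c51 LD3_c3)))))))))))))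
theorem f303492 : Led Lsl_at (LP (LK LD1_c7 LD2_c58 LD3_c29)) = (LP (LK LD1_c15 LD2_c2 LD3_c43)) :=
  Lre_a IH (LK LD1_c7 LD2_c58 LD3_c29) (LK LD1_c15 LD2_c2 LD3_c43) Lrfl Lrfl
theorem f303505 : Led Lsl_gt (LP (LK LD1_c16 LD2_c39 LD3_c11)) = (LP (LK LD1_c15 LD2_c2 LD3_c43)) :=
  Lgr Lrot46 (Lpe (f275624 IH) (Lpr_ft (K18.f303483 IH) (Lpr_at (f303492 IH) (Lpn (LP (LK LD1_c15 LD2_c2 LD3_c43))))))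
theorem f390983 : Led Lsl_bt (LP (LK LD1_c15 LD2_c19 LD3_c59)) = (LP (LK LD1_c15 LD2_c2 LD3_c43)) :=
  Lgr Lrot92 (Lpr_ct (K17.f200984 IH) (Lpr_gt (K31.f390979 IH) (Lpe (K31.f219056 IH) (Lpr_bt (K31.f219055 IH) (Lpr_gt (K31.f374727 IH) (Lpe (K27.f196475 IH) (Lpr_gt (f374700 IH) (Lpe (f275626 IH) (Lpr_bt (f275625 IH) (Lpr_gt (f303505 IH) (Lpn (LP (LK LD1_c15 LD2_c2 LD3_c43)))))))))))))
theorem f390985 : Led Lsl_bf (LP (LK LD1_c15 LD2_c19 LD3_c59)) = (LP (LK LD1_c15 LD2_c2 LD3_c43)) :=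
  Lgr Lrot24 (Lpr_bt (f390983 IH) (Lpn (LP (LK LD1_c15 LD2_c2 LD3_c43))))
theorem f223474 : Led Lsl_bt (LP (LK LD1_c2 LD2_c11 LD3_c16)) = (LP (LK LD1_c4 LD2_c28 LD3_c15)) :=
  Lre_b IH (LK LD1_c2 LD2_c11 LD3_c16) (LK LD1_c4 LD2_c28 LD3_c15) Lrfl Lrfl
theorem f265464 : Led Lsl_at (LP (LK LD1_c16 LD2_c36 LD3_c23)) = (LP (LK LD1_c8 LD2_c52 LD3_c58)) :=
  Lre_a IH (LK LD1_c16 LD2_c36 LD3_c23) (LK LD1_c8 LD2_c52 LD3_c58) Lrfl Lrfl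
theorem f265465 : Led Lsl_bt (LP (LK LD1_c8 LD2_c54 LD3_c37)) = (LP (LK LD1_c16 LD2_c36 LD3_c23)) :=
  Lgr Lrot62 (Lpe (K67.f223525 IH) (Lpe (f223474 IH) (Lpr_af (K16.f265458 IH) (Lpe (K31.f213500 IH) (Lpe (f265464 IH) (Lpn (LP (LK LD1_c16 LD2_c36 LD3_c23))))))))
theorem f265520 : Led Lsl_bf (LP (LK LD1_c8 LD2_c54 LD3_c37)) = (LP (LK LD1_c16 LD2_c36 LD3_c23)) :=
  Lgr Lrot24 (Lpr_bt (f265465 IH) (Lpn (LP (LK LD1_c16 LD2_c36 LD3_c23))))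
theorem f390987 : Led Lsl_cf (LP (LK LD1_c16 LD2_c36 LD3_c23)) = (LP (LK LD1_c15 LD2_c2 LD3_c43)) :=
  Lgr Lrot97 (Lpe (f265520 IH) (Lpr_ct (K67.f223519 IH) (Lpr_bt (K17.f293022 IH) (Lpr_ct (K17.f200977 IH) (Lpr_bt (f390983 IH) (Lpn (LP (LK LD1_c15 LD2_c2 LD3_c43))))))))
theorem f265523 : Led Lsl_at (LP (LK LD1_c8 LD2_c52 LD3_c58)) = (LP (LK LD1_c16 LD2_c36 LD3_c23)) :=
  Lre_a IH (LK LD1_c8 LD2_c52 LD3_c58) (LK LD1_c16 LD2_c36 LD3_c23) Lrfl Lrfl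
theorem f276527 : Led Lsl_gt (LP (LK LD1_c4 LD2_c28 LD3_c8)) = (LP (LK LD1_c8 LD2_c54 LD3_c17)) :=
  Lre_g IH (LK LD1_c4 LD2_c28 LD3_c8) (LK LD1_c8 LD2_c54 LD3_c17) Lrfl Lrfl
theorem f276528 : Led Lsl_gf (LP (LK LD1_c16 LD2_c36 LD3_c23)) = (LP (LK LD1_c8 LD2_c54 LD3_c17)) :=
  Lgr Lrot76 (Lpe (f265523 IH) (Lpr_ff (K16.f276516 IH) (Lpr_gt (f276527 IH) (Lpn (LP (LK LD1_c8 LD2_c54 LD3_c17))))))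
theorem f276531 : Led Lsl_ct (LP (LK LD1_c16 LD2_c39 LD3_c29)) = (LP (LK LD1_c8 LD2_c54 LD3_c17)) :=
  Lre_c IH (LK LD1_c16 LD2_c39 LD3_c29) (LK LD1_c8 LD2_c54 LD3_c17) Lrfl Lrfl
theorem f276537 : Led Lsl_bt (LP (LK LD1_c16 LD2_c39 LD3_c29)) = (LP (LK LD1_c26 LD2_c37 LD3_c53)) :=
  Lre_b IH (LK LD1_c16 LD2_c39 LD3_c29) (LK LD1_c26 LD2_c37 LD3_c53) Lrfl Lrfl
theorem f391127 : Led Lsl_gf (LP (LK LD1_c26 LD2_c37 LD3_c53)) = (LP (LK LD1_c17 LD2_c48 LD3_c34)) :=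
  Lgr Lrot124 (Lpe (f276537 IH) (Lpr_ct (f276531 IH) (Lpe (f276528 IH) (Lpr_cf (f390987 IH) (Lpe (f390985 IH) (Lpe (K31.f292983 IH) (Lpr_ct (K64.f219034 IH) (Lpr_gt (K31.f391123 IH) (Lpr_cf (K22.f53041 IH) (Lpr_bt (K31.f390097 IH) (Lpn (LP (LK LD1_c17 LD2_c48 LD3_c34)))))))))))))
theorem f390102 : Led Lsl_bt (LP (LK LD1_c5 LD2_c33 LD3_c61)) = (LP (LK LD1_c11 LD2_c0 LD3_c0)) :=
  Lre_b IH (LK LD1_c5 LD2_c33 LD3_c61) (LK LD1_c11 LD2_c0 LD3_c0) Lrfl Lrfl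
theorem f168053 : Led Lsl_bt (LP (LK LD1_c2 LD2_c39 LD3_c9)) = (LP (LK LD1_c1 LD2_c16 LD3_c24)) :=
  Lre_b IH (LK LD1_c2 LD2_c39 LD3_c9) (LK LD1_c1 LD2_c16 LD3_c24) Lrfl Lrfl
theorem f168014 : Led Lsl_gt (LP (LK LD1_c15 LD2_c2 LD3_c5)) = (LP (LK LD1_c7 LD2_c58 LD3_c12)) :=
  Lre_g IH (LK LD1_c15 LD2_c2 LD3_c5) (LK LD1_c7 LD2_c58 LD3_c12) Lrfl Lrfl
theorem f168055 : Led Lsl_bt (LP (LK LD1_c19 LD2_c4 LD3_c37)) = (LP (LK LD1_c10 LD2_c31 LD3_c44)) :=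
  Lre_b IH (LK LD1_c19 LD2_c4 LD3_c37) (LK LD1_c10 LD2_c31 LD3_c44) Lrfl Lrfl
theorem f168056 : Led Lsl_cf (LP (LK LD1_c15 LD2_c2 LD3_c5)) = (LP (LK LD1_c19 LD2_c4 LD3_c37)) :=
  Lgr Lrot160 (Lpr_gt (f168014 IH) (Lpr_cf (K27.f167948 IH) (Lpr_bt (K27.f168006 IH) (Lpr_gt (K12.f167806 IH) (Lpr_ct (K12.f42259 IH) (Lpr_gt (K9.f42159 IH) (Lpe (K12.f42175 IH) (Lpr_bt (K41.f42178 IH) (Lpr_gt (K47.f42179 IH) (Lpe (f168055 IH) (Lpn (LP (LK LD1_c19 LD2_c4 LD3_c37)))))))))))))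
theorem f391337 : Led Lsl_gt (LP (LK LD1_c11 LD2_c0 LD3_c0)) = (LP (LK LD1_c19 LD2_c4 LD3_c37)) :=
  Lgr Lrot82 (Lpe (f390102 IH) (Lpr_ct (K30.f387626 IH) (Lpr_gf (K31.f391324 IH) (Lpe (K31.f168054 IH) (Lpr_bt (f168053 IH) (Lpe (K12.f167806 IH) (Lpe (K27.f168006 IH) (Lpe (K27.f167948 IH) (Lpe (f168014 IH) (Lpr_cf (f168056 IH) (Lpn (LP (LK LD1_c19 LD2_c4 LD3_c37)))))))))))))
theorem f390407 : Led Lsl_ff (LP (LK LD1_c19 LD2_c42 LD3_c42)) = (LP (LK LD1_c15 LD2_c2 LD3_c50)) :=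
  Lgr Lrot19 (Lpr_dt (K20.f174018 IH) (Lpr_ft (K31.f390400 IH) (Lpr_dt (K31.f54901 IH) (Lpn (LP (LK LD1_c15 LD2_c2 LD3_c50))))))
theorem f380878 : Led Lsl_gf (LP (LK LD1_c15 LD2_c2 LD3_c53)) = (LP (LK LD1_c19 LD2_c58 LD3_c1)) :=
  Lgr Lrot47 (Lpr_gt (K27.f380875 IH) (Lpe (K20.f253844 IH) (Lpr_ff (K20.f253846 IH) (Lpn (LP (LK LD1_c19 LD2_c58 LD3_c1))))))
theorem f390411 : Led Lsl_at (LP (LK LD1_c19 LD2_c42 LD3_c42)) = (LP (LK LD1_c15 LD2_c2 LD3_c53)) :=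
  Lgr Lrot26 (Lpr_ff (f390407 IH) (Lpr_gt (K30.f380890 IH) (Lpe (f380878 IH) (Lpn (LP (LK LD1_c15 LD2_c2 LD3_c53))))))
theorem f390413 : Led Lsl_af (LP (LK LD1_c19 LD2_c42 LD3_c42)) = (LP (LK LD1_c15 LD2_c2 LD3_c53)) :=
  Lgr Lrot0 (Lpr_at (f390411 IH) (Lpn (LP (LK LD1_c15 LD2_c2 LD3_c53))))
theorem f390417 : Led Lsl_ft (LP (LK LD1_c10 LD2_c59 LD3_c43)) = (LP (LK LD1_c15 LD2_c2 LD3_c53)) :=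
  Lgr Lrot2 (Lpr_gt (K20.f318686 IH) (Lpr_gt (K20.f289585 IH) (Lpr_af (f390413 IH) (Lpn (LP (LK LD1_c15 LD2_c2 LD3_c53))))))
theorem f390423 : Led Lsl_ff (LP (LK LD1_c5 LD2_c33 LD3_c52)) = (LP (LK LD1_c7 LD2_c58 LD3_c33)) :=
  Lgr Lrot19 (Lpr_dt (K20.f174078 IH) (Lpr_ft (f390417 IH) (Lpr_dt (K27.f173920 IH) (Lpn (LP (LK LD1_c7 LD2_c58 LD3_c33))))))
theorem f281657 : Led Lsl_bt (LP (LK LD1_c5 LD2_c33 LD3_c52)) = (LP (LK LD1_c10 LD2_c59 LD3_c42)) :=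
  Lre_b IH (LK LD1_c5 LD2_c33 LD3_c52) (LK LD1_c10 LD2_c59 LD3_c42) Lrfl Lrfl
theorem f173919 : Led Lsl_bt (LP (LK LD1_c15 LD2_c2 LD3_c52)) = (LP (LK LD1_c7 LD2_c58 LD3_c33)) :=
  Lre_b IH (LK LD1_c15 LD2_c2 LD3_c52) (LK LD1_c7 LD2_c58 LD3_c33) Lrfl Lrfl
theorem f390433 : Led Lsl_ft (LP (LK LD1_c10 LD2_c59 LD3_c42)) = (LP (LK LD1_c15 LD2_c2 LD3_c52)) :=
  Lgr Lrot75 (Lpe (f281657 IH) (Lpr_ff (f390423 IH) (Lpe (f173919 IH) (Lpn (LP (LK LD1_c15 LD2_c2 LD3_c52))))))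
theorem f174099 : Led Lsl_ct (LP (LK LD1_c5 LD2_c33 LD3_c58)) = (LP (LK LD1_c10 LD2_c59 LD3_c42)) :=
  Lre_c IH (LK LD1_c5 LD2_c33 LD3_c58) (LK LD1_c10 LD2_c59 LD3_c42) Lrfl Lrfl
theorem f390436 : Led Lsl_ft (LP (LK LD1_c11 LD2_c0 LD3_c0)) = (LP (LK LD1_c5 LD2_c33 LD3_c58)) :=
  Lre_f IH (LK LD1_c11 LD2_c0 LD3_c0) (LK LD1_c5 LD2_c33 LD3_c58) Lrfl Lrfl
theorem f390437 : Led Lsl_cf (LP (LK LD1_c11 LD2_c0 LD3_c0)) = (LP (LK LD1_c15 LD2_c2 LD3_c52)) :=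
  Lgr Lrot108 (Lpr_ft (f390436 IH) (Lpr_ct (f174099 IH) (Lpr_ft (f390433 IH) (Lpn (LP (LK LD1_c15 LD2_c2 LD3_c52))))))
theorem f390114 : Led Lsl_bt (LP (LK LD1_c7 LD2_c58 LD3_c33)) = (LP (LK LD1_c15 LD2_c2 LD3_c52)) :=
  Lre_b IH (LK LD1_c7 LD2_c58 LD3_c33) (LK LD1_c15 LD2_c2 LD3_c52) Lrfl Lrfl
theorem f253208 : Led Lsl_bf (LP (LK LD1_c10 LD2_c40 LD3_c49)) = (LP (LK LD1_c15 LD2_c2 LD3_c33)) :=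
  Lgr Lrot24 (Lpr_bt (K31.f253205 IH) (Lpn (LP (LK LD1_c15 LD2_c2 LD3_c33))))
theorem f391015 : Led Lsl_gf (LP (LK LD1_c15 LD2_c2 LD3_c52)) = (LP (LK LD1_c10 LD2_c40 LD3_c49)) :=
  Lgr Lrot124 (Lpe (f390114 IH) (Lpe (K31.f390099 IH) (Lpr_gt (K30.f387618 IH) (Lpe (K20.f318413 IH) (Lpr_bt (K20.f318393 IH) (Lpr_gt (K20.f53036 IH) (Lpe (K22.f53041 IH) (Lpr_gt (K38.f390952 IH) (Lpe (K31.f219026 IH) (Lpe (f253208 IH) (Lpn (LP (LK LD1_c10 LD2_c40 LD3_c49)))))))))))))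
theorem f168060 : Led Lsl_ct (LP (LK LD1_c15 LD2_c2 LD3_c5)) = (LP (LK LD1_c19 LD2_c4 LD3_c37)) :=
  Lgr Lrot59 (Lpr_cf (f168056 IH) (Lpn (LP (LK LD1_c19 LD2_c4 LD3_c37))))
theorem f168058 : Led Lsl_bt (LP (LK LD1_c15 LD2_c2 LD3_c5)) = (LP (LK LD1_c24 LD2_c50 LD3_c37)) :=
  Lre_b IH (LK LD1_c15 LD2_c2 LD3_c5) (LK LD1_c24 LD2_c50 LD3_c37) Lrfl Lrfl
theorem f391349 : Led Lsl_gf (LP (LK LD1_c17 LD2_c48 LD3_c34)) = (LP (LK LD1_c24 LD2_c50 LD3_c37)) :=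
  Lgr Lrot124 (Lpe (K31.f390097 IH) (Lpe (K22.f53041 IH) (Lpr_gt (K38.f390952 IH) (Lpe (K31.f219026 IH) (Lpe (f253208 IH) (Lpe (f391015 IH) (Lpe (f390437 IH) (Lpr_gt (f391337 IH) (Lpe (f168060 IH) (Lpr_bt (f168058 IH) (Lpn (LP (LK LD1_c24 LD2_c50 LD3_c37)))))))))))))
theorem f591261 : Led Lsl_ft (LP (LK LD1_c24 LD2_c50 LD3_c37)) = (LP (LK LD1_c19 LD2_c20 LD3_c18)) :=
  Lgr Lrot2 (Lpe (f391349 IH) (Lpe (f391127 IH) (Lpr_af (f591255 IH) (Lpn (LP (LK LD1_c19 LD2_c20 LD3_c18))))))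
theorem f591266 : Led Lsl_ff (LP (LK LD1_c24 LD2_c50 LD3_c37)) = (LP (LK LD1_c19 LD2_c20 LD3_c18)) :=
  Lgr Lrot3 (Lpr_ft (f591261 IH) (Lpn (LP (LK LD1_c19 LD2_c20 LD3_c18))))
theorem f389733 : Led Lsl_at (LP (LK LD1_c17 LD2_c48 LD3_c34)) = (LP (LK LD1_c27 LD2_c35 LD3_c43)) :=
  Lre_a IH (LK LD1_c17 LD2_c48 LD3_c34) (LK LD1_c27 LD2_c35 LD3_c43) Lrfl Lrfl
theorem f389734 : Led Lsl_ft (LP (LK LD1_c27 LD2_c35 LD3_c46)) = (LP (LK LD1_c17 LD2_c48 LD3_c34)) :=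
  Lre_f IH (LK LD1_c27 LD2_c35 LD3_c46) (LK LD1_c17 LD2_c48 LD3_c34) Lrfl Lrfl
theorem f389735 : Led Lsl_gf (LP (LK LD1_c27 LD2_c37 LD3_c41)) = (LP (LK LD1_c27 LD2_c35 LD3_c46)) :=
  Lgr Lrot47 (Lpr_gt (K31.f389731 IH) (Lpe (f389733 IH) (Lpe (f389734 IH) (Lpn (LP (LK LD1_c27 LD2_c35 LD3_c46))))))
theorem f591270 : Led Lsl_at (LP (LK LD1_c24 LD2_c50 LD3_c37)) = (LP (LK LD1_c27 LD2_c37 LD3_c41)) :=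
  Lgr Lrot26 (Lpr_ff (f591266 IH) (Lpe (K41.f392407 IH) (Lpe (f389735 IH) (Lpn (LP (LK LD1_c27 LD2_c37 LD3_c41))))))
theorem f591257 : Led Lsl_at (LP (LK LD1_c26 LD2_c37 LD3_c53)) = (LP (LK LD1_c19 LD2_c20 LD3_c18)) :=
  Lgr Lrot100 (Lpr_af (f591255 IH) (Lpn (LP (LK LD1_c19 LD2_c20 LD3_c18))))
theorem f591274 : Led Lsl_ff (LP (LK LD1_c26 LD2_c37 LD3_c53)) = (LP (LK LD1_c27 LD2_c37 LD3_c41)) :=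
  Lgr Lrot30 (Lpr_at (f591257 IH) (Lpe (f591266 IH) (Lpr_at (f591270 IH) (Lpn (LP (LK LD1_c27 LD2_c37 LD3_c41))))))
theorem f591280 : Led Lsl_ft (LP (LK LD1_c26 LD2_c37 LD3_c53)) = (LP (LK LD1_c27 LD2_c37 LD3_c41)) :=
  Lgr Lrot48 (Lpr_ff (f591274 IH) (Lpn (LP (LK LD1_c27 LD2_c37 LD3_c41))))
theorem f375110 : Led Lsl_ct (LP (LK LD1_c26 LD2_c39 LD3_c40)) = (LP (LK LD1_c26 LD2_c37 LD3_c53)) :=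
  Lre_c IH (LK LD1_c26 LD2_c39 LD3_c40) (LK LD1_c26 LD2_c37 LD3_c53) Lrfl Lrfl
theorem f591284 : Led Lsl_ff (LP (LK LD1_c26 LD2_c39 LD3_c40)) = (LP (LK LD1_c17 LD2_c50 LD3_c44)) :=
  Lgr Lrot23 (Lpr_ct (f375110 IH) (Lpr_ft (f591280 IH) (Lpr_ct (K31.f168662 IH) (Lpn (LP (LK LD1_c17 LD2_c50 LD3_c44))))))
theorem f41163 : Led Lsl_bt (LP (LK LD1_c3 LD2_c58 LD3_c10)) = (LP (LK LD1_c7 LD2_c57 LD3_c45)) :=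
  Lre_b IH (LK LD1_c3 LD2_c58 LD3_c10) (LK LD1_c7 LD2_c57 LD3_c45) Lrfl Lrfl
theorem f41209 : Led Lsl_ct (LP (LK LD1_c15 LD2_c1 LD3_c7)) = (LP (LK LD1_c24 LD2_c48 LD3_c53)) :=
  Lre_c IH (LK LD1_c15 LD2_c1 LD3_c7) (LK LD1_c24 LD2_c48 LD3_c53) Lrfl Lrfl
theorem f173144 : Led Lsl_bt (LP (LK LD1_c19 LD2_c20 LD3_c18)) = (LP (LK LD1_c10 LD2_c40 LD3_c55)) :=
  Lre_b IH (LK LD1_c19 LD2_c20 LD3_c18) (LK LD1_c10 LD2_c40 LD3_c55) Lrfl Lrfl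
theorem f173139 : Led Lsl_ct (LP (LK LD1_c19 LD2_c20 LD3_c18)) = (LP (LK LD1_c19 LD2_c17 LD3_c36)) :=
  Lre_c IH (LK LD1_c19 LD2_c20 LD3_c18) (LK LD1_c19 LD2_c17 LD3_c36) Lrfl Lrfl
theorem f422818 : Led Lsl_gt (LP (LK LD1_c24 LD2_c48 LD3_c53)) = (LP (LK LD1_c19 LD2_c17 LD3_c36)) :=
  Lgr Lrot149 (Lpe (f41209 IH) (Lpe (K12.f41176 IH) (Lpe (f41163 IH) (Lpr_ct (K1.f41198 IH) (Lpe (K9.f41379 IH) (Lpe (K16.f173837 IH) (Lpr_bt (K31.f173097 IH) (Lpe (K14.f246518 IH) (Lpe (f173144 IH) (Lpr_ct (f173139 IH) (Lpn (LP (LK LD1_c19 LD2_c17 LD3_c36)))))))))))))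
theorem f591288 : Led Lsl_gf (LP (LK LD1_c24 LD2_c48 LD3_c53)) = (LP (LK LD1_c17 LD2_c50 LD3_c44)) :=
  Lgr Lrot47 (Lpr_gt (f422818 IH) (Lpe (f591238 IH) (Lpr_ff (f591284 IH) (Lpn (LP (LK LD1_c17 LD2_c50 LD3_c44))))))
theorem f41210 : Led Lsl_ct (LP (LK LD1_c24 LD2_c48 LD3_c53)) = (LP (LK LD1_c15 LD2_c1 LD3_c7)) :=
  Lre_c IH (LK LD1_c24 LD2_c48 LD3_c53) (LK LD1_c15 LD2_c1 LD3_c7) Lrfl Lrfl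
theorem f173800 : Led Lsl_gt (LP (LK LD1_c9 LD2_c43 LD3_c2)) = (LP (LK LD1_c4 LD2_c55 LD3_c41)) :=
  Lre_g IH (LK LD1_c9 LD2_c43 LD3_c2) (LK LD1_c4 LD2_c55 LD3_c41) Lrfl Lrfl
theorem f895955 : Led Lsl_ct (LP (LK LD1_c9 LD2_c43 LD3_c5)) = v37680 :=
  Lgr Lrot64 (Lpr_bt (f168741 IH) (Lpe (f173800 IH) (Lpe (K12.f173788 IH) (Lpr_ct (K12.f173792 IH) (Lpe (K12.f173820 IH) (Lpe (f41210 IH) (Lpr_gf (f591288 IH) (Lpe (f168664 IH) (Lpr_ct (K31.f168661 IH) (Lpr_gf (f895954 IH) (Lpn v37680)))))))))))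
theorem f196448 : Led Lsl_dt (LP (LK LD1_c25 LD2_c11 LD3_c22)) = (LP (LK LD1_c15 LD2_c20 LD3_c7)) :=
  Lre_d IH (LK LD1_c25 LD2_c11 LD3_c22) (LK LD1_c15 LD2_c20 LD3_c7) Lrfl Lrfl
theorem f404066 : Led Lsl_af (LP (LK LD1_c25 LD2_c11 LD3_c22)) = (LP (LK LD1_c29 LD2_c6 LD3_c51)) :=
  Lgr Lrot117 (Lpr_dt (f196448 IH) (Lpr_at (K41.f404064 IH) (Lpr_dt (K31.f238381 IH) (Lpn (LP (LK LD1_c29 LD2_c6 LD3_c51))))))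
theorem f227136 : Led Lsl_dt (LP (LK LD1_c25 LD2_c9 LD3_c31)) = (LP (LK LD1_c31 LD2_c47 LD3_c53)) :=
  Lre_d IH (LK LD1_c25 LD2_c9 LD3_c31) (LK LD1_c31 LD2_c47 LD3_c53) Lrfl Lrfl
theorem f401184 : Led Lsl_gf (LP (LK LD1_c25 LD2_c11 LD3_c22)) = (LP (LK LD1_c31 LD2_c47 LD3_c53)) :=
  Lgr Lrot143 (Lpr_dt (f196448 IH) (Lpe (K13.f196442 IH) (Lpr_df (K31.f393057 IH) (Lpr_gf (K31.f292262 IH) (Lpe (K17.f244104 IH) (Lpr_gf (K38.f396735 IH) (Lpe (K30.f226828 IH) (Lpr_gt (K30.f227117 IH) (Lpr_dt (f227136 IH) (Lpn (LP (LK LD1_c31 LD2_c47 LD3_c53))))))))))))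
theorem f227163 : Led Lsl_ct (LP (LK LD1_c25 LD2_c9 LD3_c20)) = (LP (LK LD1_c15 LD2_c18 LD3_c35)) :=
  Lre_c IH (LK LD1_c25 LD2_c9 LD3_c20) (LK LD1_c15 LD2_c18 LD3_c35) Lrfl Lrfl
theorem f278159 : Led Lsl_gt (LP (LK LD1_c31 LD2_c47 LD3_c46)) = (LP (LK LD1_c25 LD2_c9 LD3_c20)) :=
  Lre_g IH (LK LD1_c31 LD2_c47 LD3_c46) (LK LD1_c25 LD2_c9 LD3_c20) Lrfl Lrfl
theorem f401288 : Led Lsl_ct (LP (LK LD1_c25 LD2_c11 LD3_c22)) = (LP (LK LD1_c31 LD2_c47 LD3_c46)) :=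
  Lgr Lrot152 (Lpr_gf (f401184 IH) (Lpe (f227136 IH) (Lpr_gt (K67.f393722 IH) (Lpr_ct (K67.f227167 IH) (Lpr_gt (K67.f226857 IH) (Lpr_ct (K30.f227073 IH) (Lpe (K64.f227111 IH) (Lpe (f227163 IH) (Lpe (f278159 IH) (Lpn (LP (LK LD1_c31 LD2_c47 LD3_c46))))))))))))
theorem f404398 : Led Lsl_at (LP (LK LD1_c31 LD2_c47 LD3_c46)) = (LP (LK LD1_c31 LD2_c41 LD3_c47)) :=
  Lgr Lrot107 (Lpe (f401288 IH) (Lpr_af (f404066 IH) (Lpe (K31.f384644 IH) (Lpn (LP (LK LD1_c31 LD2_c41 LD3_c47))))))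
theorem f213538 : Led Lsl_gt (LP (LK LD1_c25 LD2_c8 LD3_c5)) = (LP (LK LD1_c31 LD2_c46 LD3_c57)) :=
  Lre_g IH (LK LD1_c25 LD2_c8 LD3_c5) (LK LD1_c31 LD2_c46 LD3_c57) Lrfl Lrfl
theorem f223528 : Led Lsl_ct (LP (LK LD1_c26 LD2_c38 LD3_c36)) = (LP (LK LD1_c16 LD2_c40 LD3_c5)) :=
  Lre_c IH (LK LD1_c26 LD2_c38 LD3_c36) (LK LD1_c16 LD2_c40 LD3_c5) Lrfl Lrfl
theorem f227104 : Led Lsl_ct (LP (LK LD1_c15 LD2_c18 LD3_c35)) = (LP (LK LD1_c25 LD2_c9 LD3_c20)) :=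
  Lre_c IH (LK LD1_c15 LD2_c18 LD3_c35) (LK LD1_c25 LD2_c9 LD3_c20) Lrfl Lrfl
theorem f223527 : Led Lsl_dt (LP (LK LD1_c16 LD2_c40 LD3_c5)) = (LP (LK LD1_c8 LD2_c54 LD3_c37)) :=
  Lre_d IH (LK LD1_c16 LD2_c40 LD3_c5) (LK LD1_c8 LD2_c54 LD3_c37) Lrfl Lrfl
theorem f292292 : Led Lsl_dt (LP (LK LD1_c25 LD2_c9 LD3_c20)) = (LP (LK LD1_c26 LD2_c38 LD3_c36)) :=
  Lgr Lrot32 (Lpe (f227104 IH) (Lpe (K31.f227103 IH) (Lpr_ft (K31.f292270 IH) (Lpr_at (K16.f170786 IH) (Lpr_cf (K31.f170800 IH) (Lpr_df (K17.f244093 IH) (Lpe (K67.f223519 IH) (Lpe (f223527 IH) (Lpe (f223528 IH) (Lpn (LP (LK LD1_c26 LD2_c38 LD3_c36))))))))))))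
theorem f292950 : Led Lsl_dt (LP (LK LD1_c31 LD2_c46 LD3_c57)) = (LP (LK LD1_c31 LD2_c47 LD3_c46)) :=
  Lgr Lrot57 (Lpe (f213538 IH) (Lpe (K17.f200943 IH) (Lpr_gt (K31.f267405 IH) (Lpr_dt (K31.f292943 IH) (Lpr_gt (K67.f292214 IH) (Lpr_dt (K67.f223521 IH) (Lpe (f223528 IH) (Lpe (f292292 IH) (Lpe (f278159 IH) (Lpn (LP (LK LD1_c31 LD2_c47 LD3_c46))))))))))))
theorem f292654 : Led Lsl_gt (LP (LK LD1_c26 LD2_c37 LD3_c7)) = (LP (LK LD1_c16 LD2_c38 LD3_c50)) :=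
  Lre_g IH (LK LD1_c26 LD2_c37 LD3_c7) (LK LD1_c16 LD2_c38 LD3_c50) Lrfl Lrfl
theorem f393098 : Led Lsl_dt (LP (LK LD1_c31 LD2_c41 LD3_c47)) = (LP (LK LD1_c26 LD2_c37 LD3_c7)) :=
  Lgr Lrot57 (Lpe (K31.f292324 IH) (Lpe (K31.f43143 IH) (Lpr_gt (K64.f393090 IH) (Lpr_dt (K64.f253236 IH) (Lpe (K31.f390981 IH) (Lpr_dt (K17.f200978 IH) (Lpe (K17.f292961 IH) (Lpe (K17.f292882 IH) (Lpe (f292654 IH) (Lpn (LP (LK LD1_c26 LD2_c37 LD3_c7))))))))))))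
theorem f404402 : Led Lsl_af (LP (LK LD1_c31 LD2_c46 LD3_c57)) = (LP (LK LD1_c26 LD2_c37 LD3_c7)) :=
  Lgr Lrot117 (Lpr_dt (f292950 IH) (Lpr_at (f404398 IH) (Lpr_dt (f393098 IH) (Lpn (LP (LK LD1_c26 LD2_c37 LD3_c7))))))
theorem f393578 : Led Lsl_df (LP (LK LD1_c15 LD2_c19 LD3_c10)) = (LP (LK LD1_c25 LD2_c8 LD3_c4)) :=
  Lgr Lrot12 (Lpe (K67.f393569 IH) (Lpr_dt (K67.f383120 IH) (Lpr_bt (K67.f393575 IH) (Lpn (LP (LK LD1_c25 LD2_c8 LD3_c4))))))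
theorem f290531 : Led Lsl_dt (LP (LK LD1_c15 LD2_c19 LD3_c22)) = (LP (LK LD1_c25 LD2_c10 LD3_c25)) :=
  Lre_d IH (LK LD1_c15 LD2_c19 LD3_c22) (LK LD1_c25 LD2_c10 LD3_c25) Lrfl Lrfl
theorem f393586 : Led Lsl_cf (LP (LK LD1_c25 LD2_c10 LD3_c25)) = (LP (LK LD1_c31 LD2_c46 LD3_c57)) :=
  Lgr Lrot99 (Lpe (f290531 IH) (Lpe (K20.f227113 IH) (Lpe (K20.f211282 IH) (Lpe (K20.f218819 IH) (Lpe (K30.f220860 IH) (Lpr_df (f393578 IH) (Lpr_gt (K67.f200948 IH) (Lpr_ct (K17.f200943 IH) (Lpr_gt (f213538 IH) (Lpn (LP (LK LD1_c31 LD2_c46 LD3_c57))))))))))))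
theorem f382956 : Led Lsl_bt (LP (LK LD1_c11 LD2_c2 LD3_c46)) = (LP (LK LD1_c19 LD2_c54 LD3_c12)) :=
  Lre_b IH (LK LD1_c11 LD2_c2 LD3_c46) (LK LD1_c19 LD2_c54 LD3_c12) Lrfl Lrfl
theorem f228168 : Led Lsl_bt (LP (LK LD1_c8 LD2_c36 LD3_c47)) = (LP (LK LD1_c16 LD2_c8 LD3_c10)) :=
  Lre_b IH (LK LD1_c8 LD2_c36 LD3_c47) (LK LD1_c16 LD2_c8 LD3_c10) Lrfl Lrfl
theorem f382957 : Led Lsl_cf (LP (LK LD1_c11 LD2_c2 LD3_c46)) = (LP (LK LD1_c16 LD2_c8 LD3_c10)) :=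
  Lgr Lrot97 (Lpr_bt (f382956 IH) (Lpr_ct (K30.f382954 IH) (Lpr_bt (K31.f228172 IH) (Lpr_ct (K30.f334191 IH) (Lpr_bt (f228168 IH) (Lpn (LP (LK LD1_c16 LD2_c8 LD3_c10))))))))
theorem f396733 : Led Lsl_gf (LP (LK LD1_c8 LD2_c7 LD3_c30)) = (LP (LK LD1_c8 LD2_c36 LD3_c47)) :=
  Lgr Lrot124 (Lpe (K16.f256675 IH) (Lpe (K31.f170800 IH) (Lpe (K38.f292274 IH) (Lpe (K30.f243663 IH) (Lpr_bt (K30.f243662 IH) (Lpr_gt (K30.f396727 IH) (Lpr_ct (K41.f199453 IH) (Lpr_gt (K30.f199467 IH) (Lpr_cf (f382957 IH) (Lpr_bt (K67.f228159 IH) (Lpn (LP (LK LD1_c8 LD2_c36 LD3_c47)))))))))))))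
theorem f223508 : Led Lsl_dt (LP (LK LD1_c31 LD2_c43 LD3_c51)) = (LP (LK LD1_c24 LD2_c58 LD3_c20)) :=
  Lre_d IH (LK LD1_c31 LD2_c43 LD3_c51) (LK LD1_c24 LD2_c58 LD3_c20) Lrfl Lrfl
theorem f228165 : Led Lsl_dt (LP (LK LD1_c26 LD2_c4 LD3_c41)) = (LP (LK LD1_c32 LD2_c3 LD3_c58)) :=
  Lre_d IH (LK LD1_c26 LD2_c4 LD3_c41) (LK LD1_c32 LD2_c3 LD3_c58) Lrfl Lrfl
theorem f401292 : Led Lsl_gf (LP (LK LD1_c31 LD2_c43 LD3_c51)) = (LP (LK LD1_c32 LD2_c3 LD3_c58)) :=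
  Lgr Lrot143 (Lpr_dt (f223508 IH) (Lpe (K31.f223506 IH) (Lpr_df (K31.f390973 IH) (Lpe (K31.f390979 IH) (Lpe (K17.f200938 IH) (Lpr_gf (f396733 IH) (Lpe (K30.f334191 IH) (Lpr_gt (K31.f223651 IH) (Lpr_dt (f228165 IH) (Lpn (LP (LK LD1_c32 LD2_c3 LD3_c58))))))))))))
theorem f238378 : Led Lsl_ct (LP (LK LD1_c16 LD2_c8 LD3_c14)) = (LP (LK LD1_c8 LD2_c36 LD3_c48)) :=
  Lre_c IH (LK LD1_c16 LD2_c8 LD3_c14) (LK LD1_c8 LD2_c36 LD3_c48) Lrfl Lrfl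
theorem f393724 : Led Lsl_gt (LP (LK LD1_c26 LD2_c4 LD3_c41)) = (LP (LK LD1_c16 LD2_c8 LD3_c14)) :=
  Lgr Lrot150 (Lpe (K31.f228160 IH) (Lpe (K31.f390058 IH) (Lpe (K67.f391479 IH) (Lpr_gt (K64.f393088 IH) (Lpr_ct (K30.f227125 IH) (Lpr_gt (K67.f393722 IH) (Lpr_ct (K67.f227167 IH) (Lpe (K67.f381031 IH) (Lpe (f238378 IH) (Lpn (LP (LK LD1_c16 LD2_c8 LD3_c14))))))))))))
theorem f401294 : Led Lsl_ct (LP (LK LD1_c31 LD2_c43 LD3_c51)) = (LP (LK LD1_c26 LD2_c37 LD3_c7)) :=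
  Lgr Lrot152 (Lpr_gf (f401292 IH) (Lpe (f228165 IH) (Lpr_gt (f393724 IH) (Lpr_ct (f238378 IH) (Lpr_gt (K67.f223652 IH) (Lpr_ct (K17.f292893 IH) (Lpe (K17.f292864 IH) (Lpe (K17.f292661 IH) (Lpe (f292654 IH) (Lpn (LP (LK LD1_c26 LD2_c37 LD3_c7))))))))))))
theorem f404421 : Led Lsl_at (LP (LK LD1_c25 LD2_c10 LD3_c25)) = (LP (LK LD1_c31 LD2_c43 LD3_c51)) :=
  Lgr Lrot107 (Lpr_cf (f393586 IH) (Lpr_af (f404402 IH) (Lpe (f401294 IH) (Lpn (LP (LK LD1_c31 LD2_c43 LD3_c51))))))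
theorem f223484 : Led Lsl_dt (LP (LK LD1_c24 LD2_c58 LD3_c18)) = (LP (LK LD1_c31 LD2_c43 LD3_c50)) :=
  Lre_d IH (LK LD1_c24 LD2_c58 LD3_c18) (LK LD1_c31 LD2_c43 LD3_c50) Lrfl Lrfl
theorem f290535 : Led Lsl_dt (LP (LK LD1_c25 LD2_c10 LD3_c25)) = (LP (LK LD1_c15 LD2_c19 LD3_c22)) :=
  Lre_d IH (LK LD1_c25 LD2_c10 LD3_c25) (LK LD1_c15 LD2_c19 LD3_c22) Lrfl Lrfl
theorem f403988 : Led Lsl_ft (LP (LK LD1_c31 LD2_c43 LD3_c50)) = (LP (LK LD1_c25 LD2_c10 LD3_c25)) :=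
  Lgr Lrot54 (Lpe (f223484 IH) (Lpr_ff (K41.f403964 IH) (Lpe (f290535 IH) (Lpn (LP (LK LD1_c25 LD2_c10 LD3_c25))))))
theorem f223483 : Led Lsl_dt (LP (LK LD1_c31 LD2_c43 LD3_c50)) = (LP (LK LD1_c24 LD2_c58 LD3_c18)) :=
  Lre_d IH (LK LD1_c31 LD2_c43 LD3_c50) (LK LD1_c24 LD2_c58 LD3_c18) Lrfl Lrfl
theorem f220829 : Led Lsl_dt (LP (LK LD1_c15 LD2_c19 LD3_c25)) = (LP (LK LD1_c25 LD2_c10 LD3_c28)) :=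
  Lre_d IH (LK LD1_c15 LD2_c19 LD3_c25) (LK LD1_c25 LD2_c10 LD3_c28) Lrfl Lrfl
theorem f403996 : Led Lsl_af (LP (LK LD1_c31 LD2_c43 LD3_c50)) = (LP (LK LD1_c25 LD2_c10 LD3_c28)) :=
  Lgr Lrot117 (Lpr_dt (f223483 IH) (Lpr_at (K41.f403990 IH) (Lpr_dt (f220829 IH) (Lpn (LP (LK LD1_c25 LD2_c10 LD3_c28))))))
theorem f404427 : Led Lsl_ff (LP (LK LD1_c25 LD2_c10 LD3_c28)) = (LP (LK LD1_c31 LD2_c43 LD3_c51)) :=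
  Lgr Lrot30 (Lpe (f403996 IH) (Lpr_ft (f403988 IH) (Lpr_at (f404421 IH) (Lpn (LP (LK LD1_c31 LD2_c43 LD3_c51))))))
theorem f404431 : Led Lsl_ft (LP (LK LD1_c25 LD2_c10 LD3_c28)) = (LP (LK LD1_c31 LD2_c43 LD3_c51)) :=
  Lgr Lrot48 (Lpr_ff (f404427 IH) (Lpn (LP (LK LD1_c31 LD2_c43 LD3_c51))))
theorem f187445 : Led Lsl_gt (LP (LK LD1_c4 LD2_c28 LD3_c26)) = (LP (LK LD1_c8 LD2_c54 LD3_c57)) :=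
  Lre_g IH (LK LD1_c4 LD2_c28 LD3_c26) (LK LD1_c8 LD2_c54 LD3_c57) Lrfl Lrfl
theorem f220815 : Led Lsl_bt (LP (LK LD1_c15 LD2_c19 LD3_c25)) = (LP (LK LD1_c8 LD2_c54 LD3_c57)) :=
  Lgr Lrot92 (Lpr_ct (K31.f220814 IH) (Lpr_gt (K31.f53029 IH) (Lpe (K20.f218819 IH) (Lpr_bt (K20.f218818 IH) (Lpr_gt (K15.f218816 IH) (Lpr_ct (K15.f220798 IH) (Lpe (K12.f219381 IH) (Lpe (K14.f173149 IH) (Lpr_bt (K27.f187444 IH) (Lpr_gt (f187445 IH) (Lpn (LP (LK LD1_c8 LD2_c54 LD3_c57)))))))))))))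
theorem f220821 : Led Lsl_dt (LP (LK LD1_c25 LD2_c10 LD3_c28)) = (LP (LK LD1_c15 LD2_c19 LD3_c25)) :=
  Lre_d IH (LK LD1_c25 LD2_c10 LD3_c28) (LK LD1_c15 LD2_c19 LD3_c25) Lrfl Lrfl
theorem f187446 : Led Lsl_dt (LP (LK LD1_c8 LD2_c54 LD3_c57)) = (LP (LK LD1_c16 LD2_c40 LD3_c48)) :=
  Lre_d IH (LK LD1_c8 LD2_c54 LD3_c57) (LK LD1_c16 LD2_c40 LD3_c48) Lrfl Lrfl
theorem f220822 : Led Lsl_bf (LP (LK LD1_c25 LD2_c10 LD3_c28)) = (LP (LK LD1_c16 LD2_c40 LD3_c48)) :=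
  Lgr Lrot93 (Lpr_dt (f220821 IH) (Lpr_bt (f220815 IH) (Lpr_dt (f187446 IH) (Lpn (LP (LK LD1_c16 LD2_c40 LD3_c48))))))
theorem f168079 : Led Lsl_gt (LP (LK LD1_c8 LD2_c53 LD3_c1)) = (LP (LK LD1_c16 LD2_c36 LD3_c32)) :=
  Lre_g IH (LK LD1_c8 LD2_c53 LD3_c1) (LK LD1_c16 LD2_c36 LD3_c32) Lrfl Lrfl
theorem f223487 : Led Lsl_bf (LP (LK LD1_c16 LD2_c36 LD3_c32)) = (LP (LK LD1_c24 LD2_c58 LD3_c20)) :=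
  Lgr Lrot34 (Lpe (f168079 IH) (Lpe (K31.f168065 IH) (Lpe (K16.f168068 IH) (Lpe (K14.f213900 IH) (Lpe (K20.f223370 IH) (Lpr_gf (K12.f223379 IH) (Lpe (K31.f223386 IH) (Lpr_ct (K17.f223453 IH) (Lpe (K31.f223485 IH) (Lpe (K31.f223486 IH) (Lpn (LP (LK LD1_c24 LD2_c58 LD3_c20)))))))))))))
theorem f168080 : Led Lsl_dt (LP (LK LD1_c16 LD2_c36 LD3_c32)) = (LP (LK LD1_c26 LD2_c33 LD3_c26)) :=
  Lre_d IH (LK LD1_c16 LD2_c36 LD3_c32) (LK LD1_c26 LD2_c33 LD3_c26) Lrfl Lrfl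
theorem f223509 : Led Lsl_bt (LP (LK LD1_c26 LD2_c33 LD3_c26)) = (LP (LK LD1_c31 LD2_c43 LD3_c51)) :=
  Lgr Lrot95 (Lpe (f168080 IH) (Lpr_bf (f223487 IH) (Lpe (f223508 IH) (Lpn (LP (LK LD1_c31 LD2_c43 LD3_c51))))))
theorem f223512 : Led Lsl_bf (LP (LK LD1_c26 LD2_c33 LD3_c26)) = (LP (LK LD1_c31 LD2_c43 LD3_c51)) :=
  Lgr Lrot24 (Lpr_bt (f223509 IH) (Lpn (LP (LK LD1_c31 LD2_c43 LD3_c51))))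
theorem f404433 : Led Lsl_ff (LP (LK LD1_c16 LD2_c40 LD3_c48)) = (LP (LK LD1_c26 LD2_c33 LD3_c26)) :=
  Lgr Lrot25 (Lpe (f220822 IH) (Lpr_ft (f404431 IH) (Lpe (f223512 IH) (Lpn (LP (LK LD1_c26 LD2_c33 LD3_c26))))))
theorem f220830 : Led Lsl_dt (LP (LK LD1_c16 LD2_c40 LD3_c48)) = (LP (LK LD1_c8 LD2_c54 LD3_c57)) :=
  Lre_d IH (LK LD1_c16 LD2_c40 LD3_c48) (LK LD1_c8 LD2_c54 LD3_c57) Lrfl Lrfl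
theorem f404435 : Led Lsl_ft (LP (LK LD1_c8 LD2_c54 LD3_c57)) = (LP (LK LD1_c16 LD2_c36 LD3_c32)) :=
  Lgr Lrot54 (Lpe (f220830 IH) (Lpr_ff (f404433 IH) (Lpe (f168080 IH) (Lpn (LP (LK LD1_c16 LD2_c36 LD3_c32))))))
theorem f276536 : Led Lsl_ct (LP (LK LD1_c16 LD2_c39 LD3_c28)) = (LP (LK LD1_c16 LD2_c40 LD3_c56)) :=
  Lre_c IH (LK LD1_c16 LD2_c39 LD3_c28) (LK LD1_c16 LD2_c40 LD3_c56) Lrfl Lrfl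
theorem f276533 : Led Lsl_bt (LP (LK LD1_c16 LD2_c39 LD3_c28)) = (LP (LK LD1_c8 LD2_c54 LD3_c17)) :=
  Lre_b IH (LK LD1_c16 LD2_c39 LD3_c28) (LK LD1_c8 LD2_c54 LD3_c17) Lrfl Lrfl
theorem f375108 : Led Lsl_gf (LP (LK LD1_c16 LD2_c36 LD3_c34)) = (LP (LK LD1_c8 LD2_c54 LD3_c57)) :=
  Lgr Lrot181 (Lpe (K31.f168617 IH) (Lpr_gt (f375105 IH) (Lpe (f276536 IH) (Lpr_bt (f276533 IH) (Lpe (f276528 IH) (Lpe (f265465 IH) (Lpr_ct (K67.f223519 IH) (Lpe (K31.f292262 IH) (Lpe (K31.f220814 IH) (Lpr_bt (f220815 IH) (Lpn (LP (LK LD1_c8 LD2_c54 LD3_c57)))))))))))))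
theorem f404439 : Led Lsl_af (LP (LK LD1_c8 LD2_c54 LD3_c58)) = (LP (LK LD1_c16 LD2_c36 LD3_c32)) :=
  Lgr Lrot31 (Lpe (K42.f375223 IH) (Lpr_gf (f375108 IH) (Lpr_ft (f404435 IH) (Lpn (LP (LK LD1_c16 LD2_c36 LD3_c32))))))
theorem f404441 : Led Lsl_at (LP (LK LD1_c8 LD2_c54 LD3_c58)) = (LP (LK LD1_c16 LD2_c36 LD3_c32)) :=
  Lgr Lrot100 (Lpr_af (f404439 IH) (Lpn (LP (LK LD1_c16 LD2_c36 LD3_c32))))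
theorem f168613 : Led Lsl_gt (LP (LK LD1_c16 LD2_c36 LD3_c33)) = (LP (LK LD1_c8 LD2_c53 LD3_c1)) :=
  Lre_g IH (LK LD1_c16 LD2_c36 LD3_c33) (LK LD1_c8 LD2_c53 LD3_c1) Lrfl Lrfl
theorem f404453 : Led Lsl_ff (LP (LK LD1_c8 LD2_c54 LD3_c58)) = (LP (LK LD1_c16 LD2_c36 LD3_c33)) :=
  Lgr Lrot52 (Lpr_at (f404441 IH) (Lpe (f168079 IH) (Lpe (f168613 IH) (Lpn (LP (LK LD1_c16 LD2_c36 LD3_c33))))))
theorem f404461 : Led Lsl_ft (LP (LK LD1_c8 LD2_c54 LD3_c58)) = (LP (LK LD1_c16 LD2_c36 LD3_c33)) :=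
  Lgr Lrot48 (Lpr_ff (f404453 IH) (Lpn (LP (LK LD1_c16 LD2_c36 LD3_c33))))
theorem f370083 : Led Lsl_dt (LP (LK LD1_c16 LD2_c40 LD3_c51)) = (LP (LK LD1_c8 LD2_c54 LD3_c58)) :=
  Lre_d IH (LK LD1_c16 LD2_c40 LD3_c51) (LK LD1_c8 LD2_c54 LD3_c58) Lrfl Lrfl
theorem f168649 : Led Lsl_dt (LP (LK LD1_c16 LD2_c36 LD3_c33)) = (LP (LK LD1_c26 LD2_c33 LD3_c29)) :=
  Lre_d IH (LK LD1_c16 LD2_c36 LD3_c33) (LK LD1_c26 LD2_c33 LD3_c29) Lrfl Lrfl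
theorem f404468 : Led Lsl_ff (LP (LK LD1_c16 LD2_c40 LD3_c51)) = (LP (LK LD1_c26 LD2_c33 LD3_c29)) :=
  Lgr Lrot19 (Lpr_dt (f370083 IH) (Lpr_ft (f404461 IH) (Lpr_dt (f168649 IH) (Lpn (LP (LK LD1_c26 LD2_c33 LD3_c29))))))
theorem f375225 : Led Lsl_dt (LP (LK LD1_c8 LD2_c54 LD3_c58)) = (LP (LK LD1_c16 LD2_c40 LD3_c51)) :=
  Lre_d IH (LK LD1_c8 LD2_c54 LD3_c58) (LK LD1_c16 LD2_c40 LD3_c51) Lrfl Lrfl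
theorem f223514 : Led Lsl_dt (LP (LK LD1_c26 LD2_c33 LD3_c26)) = (LP (LK LD1_c16 LD2_c36 LD3_c32)) :=
  Lre_d IH (LK LD1_c26 LD2_c33 LD3_c26) (LK LD1_c16 LD2_c36 LD3_c32) Lrfl Lrfl
theorem f404443 : Led Lsl_at (LP (LK LD1_c16 LD2_c40 LD3_c51)) = (LP (LK LD1_c26 LD2_c33 LD3_c26)) :=
  Lgr Lrot51 (Lpe (f375225 IH) (Lpr_af (f404439 IH) (Lpe (f223514 IH) (Lpn (LP (LK LD1_c26 LD2_c33 LD3_c26))))))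
theorem f292652 : Led Lsl_bt (LP (LK LD1_c8 LD2_c53 LD3_c60)) = (LP (LK LD1_c4 LD2_c27 LD3_c61)) :=
  Lre_b IH (LK LD1_c8 LD2_c53 LD3_c60) (LK LD1_c4 LD2_c27 LD3_c61) Lrfl Lrfl
theorem f401300 : Led Lsl_gf (LP (LK LD1_c26 LD2_c33 LD3_c26)) = (LP (LK LD1_c16 LD2_c36 LD3_c61)) :=
  Lgr Lrot124 (Lpr_bf (f223512 IH) (Lpr_ct (f401294 IH) (Lpr_gt (f292654 IH) (Lpe (K17.f292653 IH) (Lpr_bt (f292652 IH) (Lpr_gt (K17.f292649 IH) (Lpe (K17.f292444 IH) (Lpe (K17.f292647 IH) (Lpr_cf (K17.f278868 IH) (Lpr_bt (K23.f223285 IH) (Lpn (LP (LK LD1_c16 LD2_c36 LD3_c61)))))))))))))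
theorem f404475 : Led Lsl_gf (LP (LK LD1_c16 LD2_c36 LD3_c61)) = (LP (LK LD1_c26 LD2_c33 LD3_c29)) :=
  Lgr Lrot47 (Lpe (f401300 IH) (Lpe (f404443 IH) (Lpr_ff (f404468 IH) (Lpn (LP (LK LD1_c26 LD2_c33 LD3_c29))))))
theorem f223333 : Led Lsl_dt (LP (LK LD1_c9 LD2_c41 LD3_c28)) = (LP (LK LD1_c4 LD2_c54 LD3_c58)) :=
  Lre_d IH (LK LD1_c9 LD2_c41 LD3_c28) (LK LD1_c4 LD2_c54 LD3_c58) Lrfl Lrfl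
theorem f223334 : Led Lsl_gt (LP (LK LD1_c17 LD2_c49 LD3_c33)) = (LP (LK LD1_c9 LD2_c41 LD3_c28)) :=
  Lre_g IH (LK LD1_c17 LD2_c49 LD3_c33) (LK LD1_c9 LD2_c41 LD3_c28) Lrfl Lrfl
theorem f168623 : Led Lsl_at (LP (LK LD1_c16 LD2_c36 LD3_c34)) = (LP (LK LD1_c8 LD2_c53 LD3_c1)) :=
  Lre_a IH (LK LD1_c16 LD2_c36 LD3_c34) (LK LD1_c8 LD2_c53 LD3_c1) Lrfl Lrfl
theorem f375115 : Led Lsl_gf (LP (LK LD1_c16 LD2_c36 LD3_c33)) = (LP (LK LD1_c8 LD2_c54 LD3_c59)) :=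
  Lgr Lrot47 (Lpr_gt (f168613 IH) (Lpe (f168623 IH) (Lpr_ff (K31.f375103 IH) (Lpn (LP (LK LD1_c8 LD2_c54 LD3_c59))))))
theorem f404479 : Led Lsl_df (LP (LK LD1_c17 LD2_c49 LD3_c33)) = (LP (LK LD1_c9 LD2_c42 LD3_c9)) :=
  Lgr Lrot153 (Lpr_gt (f223334 IH) (Lpr_dt (f223333 IH) (Lpe (K67.f223296 IH) (Lpr_df (K23.f223286 IH) (Lpr_gf (f404475 IH) (Lpe (f168649 IH) (Lpr_gf (f375115 IH) (Lpe (K27.f369170 IH) (Lpe (K31.f375099 IH) (Lpn (LP (LK LD1_c9 LD2_c42 LD3_c9))))))))))))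
theorem f395072 : Led Lsl_ct (LP (LK LD1_c27 LD2_c36 LD3_c42)) = (LP (LK LD1_c17 LD2_c49 LD3_c33)) :=
  Lre_c IH (LK LD1_c27 LD2_c36 LD3_c42) (LK LD1_c17 LD2_c49 LD3_c33) Lrfl Lrfl
theorem f375091 : Led Lsl_bt (LP (LK LD1_c26 LD2_c39 LD3_c40)) = (LP (LK LD1_c16 LD2_c40 LD3_c56)) :=
  Lre_b IH (LK LD1_c26 LD2_c39 LD3_c40) (LK LD1_c16 LD2_c40 LD3_c56) Lrfl Lrfl
theorem f591286 : Led Lsl_ft (LP (LK LD1_c16 LD2_c40 LD3_c56)) = (LP (LK LD1_c9 LD2_c42 LD3_c9)) :=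
  Lgr Lrot75 (Lpe (f375091 IH) (Lpr_ff (f591284 IH) (Lpe (f168664 IH) (Lpn (LP (LK LD1_c9 LD2_c42 LD3_c9))))))
theorem f591296 : Led Lsl_ff (LP (LK LD1_c16 LD2_c40 LD3_c56)) = (LP (LK LD1_c9 LD2_c42 LD3_c9)) :=
  Lgr Lrot3 (Lpr_ft (f591286 IH) (Lpn (LP (LK LD1_c9 LD2_c42 LD3_c9))))
theorem f591236 : Led Lsl_at (LP (LK LD1_c16 LD2_c40 LD3_c56)) = (LP (LK LD1_c9 LD2_c42 LD3_c8)) :=
  Lgr Lrot100 (Lpr_af (f591234 IH) (Lpn (LP (LK LD1_c9 LD2_c42 LD3_c8))))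
theorem f376618 : Led Lsl_bt (LP (LK LD1_c16 LD2_c40 LD3_c55)) = (LP (LK LD1_c10 LD2_c39 LD3_c8)) :=
  Lgr Lrot127 (Lpr_bf (K42.f376616 IH) (Lpn (LP (LK LD1_c10 LD2_c39 LD3_c8))))
theorem f591225 : Led Lsl_ff (LP (LK LD1_c16 LD2_c40 LD3_c55)) = (LP (LK LD1_c9 LD2_c42 LD3_c8)) :=
  Lgr Lrot25 (Lpr_bt (f376618 IH) (Lpr_ft (f591221 IH) (Lpr_bt (K41.f168668 IH) (Lpn (LP (LK LD1_c9 LD2_c42 LD3_c8))))))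
theorem f591298 : Led Lsl_at (LP (LK LD1_c16 LD2_c40 LD3_c55)) = (LP (LK LD1_c9 LD2_c42 LD3_c9)) :=
  Lgr Lrot66 (Lpr_ff (f591225 IH) (Lpe (f591236 IH) (Lpr_ff (f591296 IH) (Lpn (LP (LK LD1_c9 LD2_c42 LD3_c9))))))
theorem f376615 : Led Lsl_dt (LP (LK LD1_c26 LD2_c39 LD3_c39)) = (LP (LK LD1_c16 LD2_c40 LD3_c55)) :=
  Lre_d IH (LK LD1_c26 LD2_c39 LD3_c39) (LK LD1_c16 LD2_c40 LD3_c55) Lrfl Lrfl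
theorem f591400 : Led Lsl_af (LP (LK LD1_c26 LD2_c39 LD3_c39)) = (LP (LK LD1_c17 LD2_c49 LD3_c33)) :=
  Lgr Lrot117 (Lpr_dt (f376615 IH) (Lpr_at (f591298 IH) (Lpe (f404479 IH) (Lpn (LP (LK LD1_c17 LD2_c49 LD3_c33))))))
theorem f591402 : Led Lsl_at (LP (LK LD1_c26 LD2_c39 LD3_c39)) = (LP (LK LD1_c17 LD2_c49 LD3_c33)) :=
  Lgr Lrot100 (Lpr_af (f591400 IH) (Lpn (LP (LK LD1_c17 LD2_c49 LD3_c33))))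
theorem f344058 : Led Lsl_dt (LP (LK LD1_c17 LD2_c48 LD3_c10)) = (LP (LK LD1_c27 LD2_c35 LD3_c31)) :=
  Lre_d IH (LK LD1_c17 LD2_c48 LD3_c10) (LK LD1_c27 LD2_c35 LD3_c31) Lrfl Lrfl
theorem f344059 : Led Lsl_ff (LP (LK LD1_c17 LD2_c49 LD3_c30)) = (LP (LK LD1_c27 LD2_c35 LD3_c31)) :=
  Lgr Lrot19 (Lpr_dt (K68.f223344 IH) (Lpr_ft (K23.f344054 IH) (Lpr_dt (f344058 IH) (Lpn (LP (LK LD1_c27 LD2_c35 LD3_c31))))))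
theorem f344099 : Led Lsl_at (LP (LK LD1_c17 LD2_c49 LD3_c30)) = (LP (LK LD1_c9 LD2_c41 LD3_c28)) :=
  Lre_a IH (LK LD1_c17 LD2_c49 LD3_c30) (LK LD1_c9 LD2_c41 LD3_c28) Lrfl Lrfl
theorem f395069 : Led Lsl_gf (LP (LK LD1_c17 LD2_c49 LD3_c33)) = (LP (LK LD1_c27 LD2_c35 LD3_c31)) :=
  Lgr Lrot47 (Lpr_gt (f223334 IH) (Lpe (f344099 IH) (Lpr_ff (f344059 IH) (Lpn (LP (LK LD1_c27 LD2_c35 LD3_c31))))))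
theorem f246462 : Led Lsl_gt (LP (LK LD1_c9 LD2_c41 LD3_c28)) = (LP (LK LD1_c17 LD2_c49 LD3_c32)) :=
  Lre_g IH (LK LD1_c9 LD2_c41 LD3_c28) (LK LD1_c17 LD2_c49 LD3_c32) Lrfl Lrfl
theorem f344100 : Led Lsl_at (LP (LK LD1_c17 LD2_c48 LD3_c11)) = (LP (LK LD1_c27 LD2_c35 LD3_c31)) :=
  Lre_a IH (LK LD1_c17 LD2_c48 LD3_c11) (LK LD1_c27 LD2_c35 LD3_c31) Lrfl Lrfl
theorem f344104 : Led Lsl_gt (LP (LK LD1_c17 LD2_c49 LD3_c32)) = (LP (LK LD1_c27 LD2_c35 LD3_c31)) :=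
  Lgr Lrot46 (Lpe (f246462 IH) (Lpr_ft (K23.f344096 IH) (Lpr_at (f344100 IH) (Lpn (LP (LK LD1_c27 LD2_c35 LD3_c31))))))
theorem f591412 : Led Lsl_ff (LP (LK LD1_c26 LD2_c39 LD3_c39)) = (LP (LK LD1_c17 LD2_c49 LD3_c32)) :=
  Lgr Lrot52 (Lpr_at (f591402 IH) (Lpr_gf (f395069 IH) (Lpe (f344104 IH) (Lpn (LP (LK LD1_c17 LD2_c49 LD3_c32))))))
theorem f591420 : Led Lsl_ft (LP (LK LD1_c26 LD2_c39 LD3_c39)) = (LP (LK LD1_c17 LD2_c49 LD3_c32)) :=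
  Lgr Lrot48 (Lpr_ff (f591412 IH) (Lpn (LP (LK LD1_c17 LD2_c49 LD3_c32))))
theorem f60758 : Led Lsl_bt (LP (LK LD1_c11 LD2_c23 LD3_c28)) = (LP (LK LD1_c20 LD2_c21 LD3_c10)) :=
  Lre_b IH (LK LD1_c11 LD2_c23 LD3_c28) (LK LD1_c20 LD2_c21 LD3_c10) Lrfl Lrfl
theorem f270198 : Led Lsl_ft (LP (LK LD1_c20 LD2_c21 LD3_c10)) = (LP (LK LD1_c21 LD2_c12 LD3_c49)) :=
  Lgr Lrot75 (Lpe (f60758 IH) (Lpr_ff (K16.f270196 IH) (Lpe (K42.f197883 IH) (Lpn (LP (LK LD1_c21 LD2_c12 LD3_c49))))))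
theorem f591424 : Led Lsl_cf (LP (LK LD1_c20 LD2_c21 LD3_c10)) = (LP (LK LD1_c17 LD2_c49 LD3_c32)) :=
  Lgr Lrot108 (Lpr_ft (f270198 IH) (Lpr_ct (K47.f549194 IH) (Lpr_ft (f591420 IH) (Lpn (LP (LK LD1_c17 LD2_c49 LD3_c32))))))
theorem f263861 : Led Lsl_bt (LP (LK LD1_c2 LD2_c25 LD3_c41)) = (LP (LK LD1_c4 LD2_c55 LD3_c43)) :=
  Lre_b IH (LK LD1_c2 LD2_c25 LD3_c41) (LK LD1_c4 LD2_c55 LD3_c43) Lrfl Lrfl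
theorem f173040 : Led Lsl_gt (LP (LK LD1_c9 LD2_c43 LD3_c9)) = (LP (LK LD1_c4 LD2_c55 LD3_c43)) :=
  Lre_g IH (LK LD1_c9 LD2_c43 LD3_c9) (LK LD1_c4 LD2_c55 LD3_c43) Lrfl Lrfl
theorem f173041 : Led Lsl_bt (LP (LK LD1_c17 LD2_c52 LD3_c17)) = (LP (LK LD1_c9 LD2_c43 LD3_c9)) :=
  Lre_b IH (LK LD1_c17 LD2_c52 LD3_c17) (LK LD1_c9 LD2_c43 LD3_c9) Lrfl Lrfl
theorem f417768 : Led Lsl_ct (LP (LK LD1_c17 LD2_c52 LD3_c17)) = (LP (LK LD1_c27 LD2_c38 LD3_c45)) :=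
  Lre_c IH (LK LD1_c17 LD2_c52 LD3_c17) (LK LD1_c27 LD2_c38 LD3_c45) Lrfl Lrfl
theorem f591463 : Led Lsl_gt (LP (LK LD1_c20 LD2_c21 LD3_c10)) = (LP (LK LD1_c27 LD2_c38 LD3_c45)) :=
  Lgr Lrot149 (Lpr_cf (f591424 IH) (Lpe (f246462 IH) (Lpe (K23.f246450 IH) (Lpe (K15.f246453 IH) (Lpe (K14.f196717 IH) (Lpe (K12.f168711 IH) (Lpr_bt (f263861 IH) (Lpe (f173040 IH) (Lpe (f173041 IH) (Lpr_ct (f417768 IH) (Lpn (LP (LK LD1_c27 LD2_c38 LD3_c45)))))))))))))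
theorem f591404 : Led Lsl_at (LP (LK LD1_c21 LD2_c12 LD3_c49)) = (LP (LK LD1_c27 LD2_c36 LD3_c42)) :=
  Lgr Lrot107 (Lpr_cf (K42.f549189 IH) (Lpr_af (f591400 IH) (Lpe (f395072 IH) (Lpn (LP (LK LD1_c27 LD2_c36 LD3_c42))))))
theorem f591465 : Led Lsl_gf (LP (LK LD1_c27 LD2_c36 LD3_c42)) = (LP (LK LD1_c27 LD2_c38 LD3_c45)) :=
  Lgr Lrot76 (Lpe (f591404 IH) (Lpe (f270198 IH) (Lpr_gt (f591463 IH) (Lpn (LP (LK LD1_c27 LD2_c38 LD3_c45))))))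
theorem f370079 : Led Lsl_dt (LP (LK LD1_c26 LD2_c39 LD3_c35)) = (LP (LK LD1_c16 LD2_c40 LD3_c50)) :=
  Lre_d IH (LK LD1_c26 LD2_c39 LD3_c35) (LK LD1_c16 LD2_c40 LD3_c50) Lrfl Lrfl
theorem f895961 : Led Lsl_gf (LP (LK LD1_c17 LD2_c52 LD3_c17)) = (LP (LK LD1_c26 LD2_c39 LD3_c35)) :=
  Lgr Lrot147 (Lpr_ct (f417768 IH) (Lpe (f591465 IH) (Lpr_ct (f395072 IH) (Lpr_df (f404479 IH) (Lpe (K31.f168629 IH) (Lpr_gf (f895954 IH) (Lpe (f895955 IH) (Lpr_gf (f895959 IH) (Lpe (f370079 IH) (Lpn (LP (LK LD1_c26 LD2_c39 LD3_c35))))))))))))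
theorem f895962 : Led Lsl_gt (LP (LK LD1_c26 LD2_c39 LD3_c35)) = (LP (LK LD1_c17 LD2_c52 LD3_c17)) :=
  Leop (Lpr_gf (f895961 IH) (Lpn (LP (LK LD1_c26 LD2_c39 LD3_c35))))
theorem seed_2174 : LEOK LG_g (LK LD1_c26 LD2_c39 LD3_c35) :=
  Leoe_g (LK LD1_c26 LD2_c39 LD3_c35) (f895962 IH)
def v37699 : LQ := Led Lsl_dt (LP (LK LD1_c8 LD2_c59 LD3_c8))
theorem f896038 : Led Lsl_dt (LP (LK LD1_c8 LD2_c59 LD3_c8)) = v37699 :=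
  Lrfl
theorem f174332 : Led Lsl_dt (LP (LK LD1_c5 LD2_c32 LD3_c43)) = (LP (LK LD1_c10 LD2_c57 LD3_c13)) :=
  Lre_d IH (LK LD1_c5 LD2_c32 LD3_c43) (LK LD1_c10 LD2_c57 LD3_c13) Lrfl Lrfl
theorem f896043 : Led Lsl_cf (LP (LK LD1_c10 LD2_c52 LD3_c43)) = v37699 :=
  Lgr Lrot118 (Lpr_dt (f399868 IH) (Lpr_ct (f895493 IH) (Lpr_dt (f281474 IH) (Lpr_ct (f217118 IH) (Lpe (f281481 IH) (Lpe (K41.f168125 IH) (Lpe (f403842 IH) (Lpr_ff (K41.f403819 IH) (Lpr_dt (f896038 IH) (Lpn v37699))))))))))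
theorem f894849 : Led Lsl_dt (LP (LK LD1_c19 LD2_c39 LD3_c61)) = (LP (LK LD1_c10 LD2_c52 LD3_c43)) :=
  Lre_d IH (LK LD1_c19 LD2_c39 LD3_c61) (LK LD1_c10 LD2_c52 LD3_c43) Lrfl Lrfl
theorem f896044 : Led Lsl_gt (LP (LK LD1_c10 LD2_c57 LD3_c13)) = (LP (LK LD1_c19 LD2_c39 LD3_c61)) :=
  Lgr Lrot189 (Lpe (f174332 IH) (Lpe (K38.f168135 IH) (Lpe (K50.f387650 IH) (Lpe (K30.f384882 IH) (Lpr_dt (K20.f281639 IH) (Lpr_gt (K20.f281630 IH) (Lpr_dt (f896038 IH) (Lpe (f896043 IH) (Lpe (f894849 IH) (Lpn (LP (LK LD1_c19 LD2_c39 LD3_c61))))))))))))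
theorem f896045 : Led Lsl_gt (LP (LK LD1_c10 LD2_c57 LD3_c13)) = (LP (LK LD1_c19 LD2_c39 LD3_c61)) :=
  Leop (Lpe (f896044 IH) (Lpn (LP (LK LD1_c10 LD2_c57 LD3_c13))))
theorem seed_2175 : LEOK LG_g (LK LD1_c10 LD2_c57 LD3_c13) :=
  Leoe_g (LK LD1_c10 LD2_c57 LD3_c13) (f896045 IH)
def v37747 : LQ := Led Lsl_gf (LP (LK LD1_c8 LD2_c59 LD3_c35))
theorem f896267 : Led Lsl_gf (LP (LK LD1_c8 LD2_c59 LD3_c35)) = v37747 :=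
  Lrfl
theorem f9238 : Led Lsl_dt (LP (LK LD1_c4 LD2_c30 LD3_c38)) = (LP (LK LD1_c8 LD2_c59 LD3_c35)) :=
  Lre_d IH (LK LD1_c4 LD2_c30 LD3_c38) (LK LD1_c8 LD2_c59 LD3_c35) Lrfl Lrfl
theorem f319854 : Led Lsl_et (LP (LK LD1_c2 LD2_c12 LD3_c5)) = (LP (LK LD1_c4 LD2_c30 LD3_c9)) :=
  Lre_e IH (LK LD1_c2 LD2_c12 LD3_c5) (LK LD1_c4 LD2_c30 LD3_c9) Lrfl Lrfl
theorem f319886 : Led Lsl_gt (LP (LK LD1_c4 LD2_c30 LD3_c9)) = (LP (LK LD1_c8 LD2_c58 LD3_c28)) :=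
  Lre_g IH (LK LD1_c4 LD2_c30 LD3_c9) (LK LD1_c8 LD2_c58 LD3_c28) Lrfl Lrfl
def v37618 : LQ := Led Lsl_et (LP (LK LD1_c8 LD2_c58 LD3_c28))
theorem f895602 : Led Lsl_et (LP (LK LD1_c8 LD2_c58 LD3_c28)) = v37618 :=
  Lrfl
theorem f895605 : Led Lsl_ef (LP (LK LD1_c8 LD2_c58 LD3_c28)) = v37618 :=
  Lgr Lrot88 (Lpr_et (f895602 IH) (Lpn v37618))
theorem f896269 : Led Lsl_dt v37618 = v37747 :=
  Lgr Lrot136 (Lpe (f895605 IH) (Lpe (f319886 IH) (Lpe (f319854 IH) (Lpr_dt (K12.f167918 IH) (Lpe (K9.f165037 IH) (Lpe (K9.f168797 IH) (Lpe (K15.f9236 IH) (Lpe (K20.f9237 IH) (Lpr_dt (f9238 IH) (Lpr_gf (f896267 IH) (Lpn v37747)))))))))))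
theorem f896271 : Led Lsl_df v37618 = v37747 :=
  Lgr Lrot38 (Lpr_dt (f896269 IH) (Lpn v37747))
def v12830 : LQ := Led Lsl_ct (LP (LK LD1_c4 LD2_c32 LD3_c43))
theorem f698443 : Led Lsl_ct (LP (LK LD1_c4 LD2_c32 LD3_c43)) = v12830 :=
  Lrfl
theorem f698445 : Led Lsl_cf (LP (LK LD1_c4 LD2_c32 LD3_c43)) = v12830 :=
  Lgr Lrot11 (Lpr_ct (f698443 IH) (Lpn v12830))
theorem f507674 : Led Lsl_at (LP (LK LD1_c4 LD2_c32 LD3_c43)) = (LP (LK LD1_c2 LD2_c47 LD3_c29)) :=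
  Lgr Lrot100 (Lpr_af (K51.f507672 IH) (Lpn (LP (LK LD1_c2 LD2_c47 LD3_c29))))
theorem f698448 : Led Lsl_at K52.v4775 = v12830 :=
  Lgr Lrot107 (Lpe (K52.f638926 IH) (Lpe (f507674 IH) (Lpr_cf (f698445 IH) (Lpn v12830))))
theorem f743454 : v12830 = (LP (LK LD1_c8 LD2_c58 LD3_c28)) :=
  (Llr Lrot26 (Lpe (f698448 IH) (Lpr_ff (K52.f698465 IH) (Lpq (K55.f743442 IH) (Lpr_gt (K55.f319878 IH) (Lpr_gt (f319886 IH) (Lpn (LP (LK LD1_c8 LD2_c58 LD3_c28))))))))).symm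
def v12832 : LQ := Led Lsl_et (LP (LK LD1_c4 LD2_c32 LD3_c43))
theorem f698455 : Led Lsl_et (LP (LK LD1_c4 LD2_c32 LD3_c43)) = v12832 :=
  Lrfl
theorem f698457 : Led Lsl_ef (LP (LK LD1_c4 LD2_c32 LD3_c43)) = v12832 :=
  Lgr Lrot88 (Lpr_et (f698455 IH) (Lpn v12832))
theorem f895604 : Led Lsl_cf v12832 = v37618 :=
  Lgr Lrot39 (Lpe (f698457 IH) (Lpr_ct (f698443 IH) (Lpqs (f743454 IH) (Lpr_et (f895602 IH) (Lpn v37618)))))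
def v23794 : LQ := Led Lsl_gf K35.v4179
theorem f820491 : Led Lsl_gf K35.v4179 = v23794 :=
  Lrfl
theorem f820494 : Led Lsl_dt v12832 = v23794 :=
  Lgr Lrot136 (Lpe (f698457 IH) (Lpe (K51.f175526 IH) (Lpe (K20.f226733 IH) (Lpr_dt (K12.f174526 IH) (Lpe (K9.f20809 IH) (Lpe (K9.f168862 IH) (Lpe (K9.f169303 IH) (Lpe (K13.f174600 IH) (Lpr_dt (K35.f631665 IH) (Lpr_gf (f820491 IH) (Lpn v23794)))))))))))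
theorem f820496 : Led Lsl_df v12832 = v23794 :=
  Lgr Lrot38 (Lpr_dt (f820494 IH) (Lpn v23794))
theorem f631670 : Led Lsl_at (LP (LK LD1_c2 LD2_c48 LD3_c26)) = K35.v4179 :=
  Lgr Lrot80 (Lpe (K30.f172553 IH) (Lpe (K43.f385333 IH) (Lpr_ef (K35.f631668 IH) (Lpn K35.v4179))))
theorem f639048 : Led Lsl_ff (LP (LK LD1_c2 LD2_c48 LD3_c26)) = K50.v4797 :=
  Lgr Lrot3 (Lpr_ft (K50.f639046 IH) (Lpn K50.v4797))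
theorem f820492 : Led Lsl_gt K50.v4797 = v23794 :=
  Lgr Lrot5 (Lpe (f639048 IH) (Lpr_at (f631670 IH) (Lpr_gf (f820491 IH) (Lpn v23794))))
theorem f639049 : Led Lsl_dt (LP (LK LD1_c2 LD2_c48 LD3_c27)) = K50.v4797 :=
  Lgr Lrot60 (Lpe (K30.f245570 IH) (Lpe (K30.f172552 IH) (Lpr_ff (f639048 IH) (Lpn K50.v4797))))
theorem f245600 : Led Lsl_af (LP (LK LD1_c2 LD2_c48 LD3_c27)) = (LP (LK LD1_c4 LD2_c33 LD3_c31)) :=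
  Lgr Lrot0 (Lpr_at (K30.f245595 IH) (Lpn (LP (LK LD1_c4 LD2_c33 LD3_c31))))
theorem f245665 : Led Lsl_gf (LP (LK LD1_c2 LD2_c48 LD3_c27)) = (LP (LK LD1_c4 LD2_c33 LD3_c29)) :=
  Lgr Lrot76 (Lpr_af (f245600 IH) (Lpe (K50.f245664 IH) (Lpr_gt (K32.f174611 IH) (Lpn (LP (LK LD1_c4 LD2_c33 LD3_c29))))))
def v12850 : LQ := Led Lsl_ct (LP (LK LD1_c4 LD2_c33 LD3_c29))
theorem f698597 : Led Lsl_ct (LP (LK LD1_c4 LD2_c33 LD3_c29)) = v12850 :=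
  Lrfl
theorem f319329 : Led Lsl_dt (LP (LK LD1_c8 LD2_c59 LD3_c35)) = (LP (LK LD1_c4 LD2_c30 LD3_c38)) :=
  Lre_d IH (LK LD1_c8 LD2_c59 LD3_c35) (LK LD1_c4 LD2_c30 LD3_c38) Lrfl Lrfl
theorem f319330 : Led Lsl_af (LP (LK LD1_c8 LD2_c59 LD3_c35)) = (LP (LK LD1_c5 LD2_c34 LD3_c44)) :=
  Lgr Lrot117 (Lpr_dt (f319329 IH) (Lpr_at (K20.f319322 IH) (Lpr_dt (K30.f179184 IH) (Lpn (LP (LK LD1_c5 LD2_c34 LD3_c44))))))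
def v15266 : LQ := Led Lsl_ft (LP (LK LD1_c5 LD2_c34 LD3_c44))
theorem f733210 : Led Lsl_ft (LP (LK LD1_c5 LD2_c34 LD3_c44)) = v15266 :=
  Lrfl
theorem f733212 : Led Lsl_ff (LP (LK LD1_c5 LD2_c34 LD3_c44)) = v15266 :=
  Lgr Lrot3 (Lpr_ft (f733210 IH) (Lpn v15266))
theorem f896268 : Led Lsl_gt v15266 = v37747 :=
  Lgr Lrot5 (Lpe (f733212 IH) (Lpe (f319330 IH) (Lpr_gf (f896267 IH) (Lpn v37747))))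
theorem f179441 : Led Lsl_dt (LP (LK LD1_c5 LD2_c34 LD3_c44)) = (LP (LK LD1_c2 LD2_c43 LD3_c16)) :=
  Lre_d IH (LK LD1_c5 LD2_c34 LD3_c44) (LK LD1_c2 LD2_c43 LD3_c16) Lrfl Lrfl
theorem f733213 : Led Lsl_dt K56.v4708 = v15266 :=
  Lgr Lrot60 (Lpe (K56.f638594 IH) (Lpe (f179441 IH) (Lpr_ff (f733212 IH) (Lpn v15266))))
def v12776 : LQ := Led Lsl_gt (LP (LK LD1_c4 LD2_c30 LD3_c38))
theorem f698135 : Led Lsl_gt (LP (LK LD1_c4 LD2_c30 LD3_c38)) = v12776 :=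
  Lrfl
theorem f638596 : Led Lsl_ff (LP (LK LD1_c2 LD2_c43 LD3_c16)) = K56.v4708 :=
  Lgr Lrot3 (Lpr_ft (K56.f638594 IH) (Lpn K56.v4708))
theorem f698139 : Led Lsl_af K56.v4708 = K56.v12778 :=
  Lgr Lrot45 (Lpe (f638596 IH) (Lpe (K67.f319324 IH) (Lpr_ft (K56.f698138 IH) (Lpn K56.v12778))))
theorem f698143 : Led Lsl_gt v12776 = K56.v4708 :=
  Lgr Lrot46 (Lpe (f698135 IH) (Lpr_ft (K56.f698138 IH) (Lpe (f698139 IH) (Lpn K56.v4708))))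
theorem f896280 : v12850 = v12776 :=
  (Llr Lrot8 (Lpe (f698597 IH) (Lpe (f245665 IH) (Lpr_dt (f639049 IH) (Lpr_gt (f820492 IH) (Lpe (f820496 IH) (Lpr_cf (f895604 IH) (Lpr_df (f896271 IH) (Lpe (f896268 IH) (Lpe (f733213 IH) (Lpe (f698143 IH) (Lpn v12776)))))))))))).symm
theorem f245588 : Led Lsl_bt (LP (LK LD1_c4 LD2_c33 LD3_c28)) = (LP (LK LD1_c2 LD2_c13 LD3_c40)) :=
  Lre_b IH (LK LD1_c4 LD2_c33 LD3_c28) (LK LD1_c2 LD2_c13 LD3_c40) Lrfl Lrfl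
theorem f422814 : Led Lsl_ct (LP (LK LD1_c4 LD2_c33 LD3_c28)) = (LP (LK LD1_c9 LD2_c4 LD3_c30)) :=
  Lre_c IH (LK LD1_c4 LD2_c33 LD3_c28) (LK LD1_c9 LD2_c4 LD3_c30) Lrfl Lrfl
theorem f601551 : Led Lsl_gt (LP (LK LD1_c16 LD2_c56 LD3_c12)) = (LP (LK LD1_c9 LD2_c4 LD3_c30)) :=
  Lre_g IH (LK LD1_c16 LD2_c56 LD3_c12) (LK LD1_c9 LD2_c4 LD3_c30) Lrfl Lrfl
theorem f638597 : Led Lsl_ct (LP (LK LD1_c2 LD2_c45 LD3_c8)) = K56.v4708 :=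
  Lgr Lrot40 (Lpe (K53.f319358 IH) (Lpr_cf (K20.f172323 IH) (Lpr_ff (f638596 IH) (Lpn K56.v4708))))
theorem f319353 : Led Lsl_bt (LP (LK LD1_c2 LD2_c45 LD3_c8)) = (LP (LK LD1_c5 LD2_c38 LD3_c20)) :=
  Lre_b IH (LK LD1_c2 LD2_c45 LD3_c8) (LK LD1_c5 LD2_c38 LD3_c20) Lrfl Lrfl
theorem f638598 : Led Lsl_gt (LP (LK LD1_c5 LD2_c38 LD3_c20)) = (LP (LK LD1_c11 LD2_c7 LD3_c27)) :=
  Lre_g IH (LK LD1_c5 LD2_c38 LD3_c20) (LK LD1_c11 LD2_c7 LD3_c27) Lrfl Lrfl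
theorem f622207 : Led Lsl_bt (LP (LK LD1_c20 LD2_c0 LD3_c53)) = (LP (LK LD1_c11 LD2_c7 LD3_c27)) :=
  Lre_b IH (LK LD1_c20 LD2_c0 LD3_c53) (LK LD1_c11 LD2_c7 LD3_c27) Lrfl Lrfl
theorem f896281 : Led Lsl_cf (LP (LK LD1_c16 LD2_c56 LD3_c12)) = (LP (LK LD1_c20 LD2_c0 LD3_c53)) :=
  Lgr Lrot160 (Lpr_gt (f601551 IH) (Lpe (f422814 IH) (Lpr_bt (f245588 IH) (Lpr_gt (K32.f174611 IH) (Lpr_ct (f698597 IH) (Lpqs (f896280 IH) (Lpr_gt (f698143 IH) (Lpe (f638597 IH) (Lpr_bt (f319353 IH) (Lpr_gt (f638598 IH) (Lpe (f622207 IH) (Lpn (LP (LK LD1_c20 LD2_c0 LD3_c53))))))))))))))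
theorem f896282 : Led Lsl_ct (LP (LK LD1_c20 LD2_c0 LD3_c53)) = (LP (LK LD1_c16 LD2_c56 LD3_c12)) :=
  Leop (Lpr_cf (f896281 IH) (Lpn (LP (LK LD1_c20 LD2_c0 LD3_c53))))
theorem seed_2176 : LEOK LG_c (LK LD1_c20 LD2_c0 LD3_c53) :=
  Leoe_c (LK LD1_c20 LD2_c0 LD3_c53) (f896282 IH)
def v37794 : LQ := Led Lsl_gf (LP (LK LD1_c8 LD2_c59 LD3_c58))
theorem f896522 : Led Lsl_gf (LP (LK LD1_c8 LD2_c59 LD3_c58)) = v37794 :=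
  Lrfl
theorem f296716 : Led Lsl_gt (LP (LK LD1_c10 LD2_c50 LD3_c51)) = (LP (LK LD1_c5 LD2_c29 LD3_c48)) :=
  Lre_g IH (LK LD1_c10 LD2_c50 LD3_c51) (LK LD1_c5 LD2_c29 LD3_c48) Lrfl Lrfl
theorem f296717 : Led Lsl_gf (LP (LK LD1_c10 LD2_c50 LD3_c51)) = (LP (LK LD1_c16 LD2_c42 LD3_c56)) :=
  Lgr Lrot47 (Lpr_gt (f296716 IH) (Lpe (K54.f254669 IH) (Lpr_ff (K54.f296702 IH) (Lpn (LP (LK LD1_c16 LD2_c42 LD3_c56))))))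
theorem f388363 : Led Lsl_df (LP (LK LD1_c10 LD2_c59 LD3_c12)) = (LP (LK LD1_c8 LD2_c59 LD3_c58)) :=
  Lgr Lrot12 (Lpr_bt (K22.f225696 IH) (Lpr_dt (K41.f388358 IH) (Lpr_bt (K31.f174008 IH) (Lpn (LP (LK LD1_c8 LD2_c59 LD3_c58))))))
theorem f697989 : Led Lsl_dt (LP (LK LD1_c4 LD2_c30 LD3_c20)) = (LP (LK LD1_c8 LD2_c58 LD3_c55)) :=
  Lre_d IH (LK LD1_c4 LD2_c30 LD3_c20) (LK LD1_c8 LD2_c58 LD3_c55) Lrfl Lrfl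
theorem f697988 : Led Lsl_ct (LP (LK LD1_c8 LD2_c58 LD3_c54)) = (LP (LK LD1_c4 LD2_c30 LD3_c20)) :=
  Lre_c IH (LK LD1_c8 LD2_c58 LD3_c54) (LK LD1_c4 LD2_c30 LD3_c20) Lrfl Lrfl
theorem f697986 : Led Lsl_ct (LP (LK LD1_c4 LD2_c30 LD3_c20)) = (LP (LK LD1_c8 LD2_c58 LD3_c54)) :=
  Lre_c IH (LK LD1_c4 LD2_c30 LD3_c20) (LK LD1_c8 LD2_c58 LD3_c54) Lrfl Lrfl
theorem f890608 : (LP (LK LD1_c4 LD2_c30 LD3_c20)) = K64.v4168 :=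
  Lefun (Lecon (Lfl_gt (K68.f697983 IH)) (K68.f890600 IH)) (K64.f631595 IH)
theorem f890629 : K64.v23772 = (LP (LK LD1_c8 LD2_c58 LD3_c54)) :=
  Lefun (Lecon (K64.f820371 IH) (f890608 IH).symm) (f697986 IH)
theorem f281566 : Led Lsl_bt (LP (LK LD1_c5 LD2_c31 LD3_c36)) = (LP (LK LD1_c2 LD2_c41 LD3_c61)) :=
  Lre_b IH (LK LD1_c5 LD2_c31 LD3_c36) (LK LD1_c2 LD2_c41 LD3_c61) Lrfl Lrfl
theorem f820375 : Led Lsl_gt (LP (LK LD1_c10 LD2_c54 LD3_c56)) = K64.v23772 :=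
  Lgr Lrot65 (Lpe (K67.f224521 IH) (Lpr_bt (f281566 IH) (Lpr_gf (K31.f281706 IH) (Lpe (K41.f280659 IH) (Lpr_ct (K20.f213345 IH) (Lpr_gf (K31.f281100 IH) (Lpe (K41.f173540 IH) (Lpr_gf (K54.f732710 IH) (Lpe (K64.f732716 IH) (Lpr_ct (K64.f820371 IH) (Lpn K64.v23772)))))))))))
theorem f281616 : Led Lsl_ct (LP (LK LD1_c10 LD2_c55 LD3_c6)) = (LP (LK LD1_c19 LD2_c43 LD3_c23)) :=
  Lre_c IH (LK LD1_c10 LD2_c55 LD3_c6) (LK LD1_c19 LD2_c43 LD3_c23) Lrfl Lrfl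
theorem f698006 : Led Lsl_ct (LP (LK LD1_c16 LD2_c48 LD3_c2)) = (LP (LK LD1_c8 LD2_c58 LD3_c55)) :=
  Lre_c IH (LK LD1_c16 LD2_c48 LD3_c2) (LK LD1_c8 LD2_c58 LD3_c55) Lrfl Lrfl
theorem f890659 : Led Lsl_gt (LP (LK LD1_c19 LD2_c43 LD3_c23)) = (LP (LK LD1_c16 LD2_c48 LD3_c2)) :=
  Lgr Lrot187 (Lpe (f281616 IH) (Lpr_gf (K67.f417889 IH) (Lpr_dt (K17.f174065 IH) (Lpr_gt (K67.f290365 IH) (Lpr_ct (K67.f224521 IH) (Lpr_gt (f820375 IH) (Lpqs (f890629 IH) (Lpr_ct (f697988 IH) (Lpr_dt (f697989 IH) (Lpe (f698006 IH) (Lpn (LP (LK LD1_c16 LD2_c48 LD3_c2)))))))))))))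
theorem f324731 : Led Lsl_gt (LP (LK LD1_c16 LD2_c3 LD3_c6)) = (LP (LK LD1_c8 LD2_c33 LD3_c3)) :=
  Lre_g IH (LK LD1_c16 LD2_c3 LD3_c6) (LK LD1_c8 LD2_c33 LD3_c3) Lrfl Lrfl
theorem f384547 : Led Lsl_gt (LP (LK LD1_c15 LD2_c43 LD3_c34)) = (LP (LK LD1_c16 LD2_c3 LD3_c6)) :=
  Lgr Lrot5 (Lpr_ft (K30.f384500 IH) (Lpr_at (K30.f332625 IH) (Lpe (f324731 IH) (Lpn (LP (LK LD1_c16 LD2_c3 LD3_c6))))))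
theorem f384549 : Led Lsl_dt (LP (LK LD1_c16 LD2_c3 LD3_c6)) = (LP (LK LD1_c26 LD2_c0 LD3_c33)) :=
  Lre_d IH (LK LD1_c16 LD2_c3 LD3_c6) (LK LD1_c26 LD2_c0 LD3_c33) Lrfl Lrfl
theorem f384550 : Led Lsl_gf (LP (LK LD1_c16 LD2_c3 LD3_c16)) = (LP (LK LD1_c26 LD2_c0 LD3_c33)) :=
  Lgr Lrot143 (Lpe (K20.f287761 IH) (Lpe (K20.f318852 IH) (Lpe (K20.f53941 IH) (Lpe (K20.f53928 IH) (Lpe (K20.f319561 IH) (Lpe (K30.f384492 IH) (Lpe (K30.f167170 IH) (Lpr_gt (f384547 IH) (Lpr_dt (f384549 IH) (Lpn (LP (LK LD1_c26 LD2_c0 LD3_c33))))))))))))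
theorem f380481 : Led Lsl_bt (LP (LK LD1_c10 LD2_c59 LD3_c16)) = (LP (LK LD1_c19 LD2_c49 LD3_c60)) :=
  Lre_b IH (LK LD1_c10 LD2_c59 LD3_c16) (LK LD1_c19 LD2_c49 LD3_c60) Lrfl Lrfl
theorem f387827 : Led Lsl_bt (LP (LK LD1_c20 LD2_c4 LD3_c45)) = (LP (LK LD1_c11 LD2_c10 LD3_c5)) :=
  Lre_b IH (LK LD1_c20 LD2_c4 LD3_c45) (LK LD1_c11 LD2_c10 LD3_c5) Lrfl Lrfl
theorem f736441 : Led Lsl_ft (LP (LK LD1_c19 LD2_c49 LD3_c60)) = (LP (LK LD1_c20 LD2_c4 LD3_c45)) :=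
  Lgr Lrot75 (Lpe (f380481 IH) (Lpr_ff (K67.f736437 IH) (Lpe (f387827 IH) (Lpn (LP (LK LD1_c20 LD2_c4 LD3_c45))))))
theorem f384542 : Led Lsl_ct (LP (LK LD1_c29 LD2_c7 LD3_c6)) = (LP (LK LD1_c19 LD2_c49 LD3_c60)) :=
  Lre_c IH (LK LD1_c29 LD2_c7 LD3_c6) (LK LD1_c19 LD2_c49 LD3_c60) Lrfl Lrfl
theorem f318677 : Led Lsl_ct (LP (LK LD1_c20 LD2_c4 LD3_c45)) = (LP (LK LD1_c29 LD2_c17 LD3_c37)) :=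
  Lre_c IH (LK LD1_c20 LD2_c4 LD3_c45) (LK LD1_c29 LD2_c17 LD3_c37) Lrfl Lrfl
theorem f737260 : Led Lsl_ff (LP (LK LD1_c29 LD2_c7 LD3_c6)) = (LP (LK LD1_c29 LD2_c17 LD3_c37)) :=
  Lgr Lrot23 (Lpr_ct (f384542 IH) (Lpr_ft (f736441 IH) (Lpr_ct (f318677 IH) (Lpn (LP (LK LD1_c29 LD2_c17 LD3_c37))))))
theorem f737264 : Led Lsl_ft (LP (LK LD1_c29 LD2_c7 LD3_c6)) = (LP (LK LD1_c29 LD2_c17 LD3_c37)) :=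
  Lgr Lrot48 (Lpr_ff (f737260 IH) (Lpn (LP (LK LD1_c29 LD2_c17 LD3_c37))))
theorem f384354 : Led Lsl_bt (LP (LK LD1_c19 LD2_c49 LD3_c58)) = (LP (LK LD1_c29 LD2_c7 LD3_c6)) :=
  Lre_b IH (LK LD1_c19 LD2_c49 LD3_c58) (LK LD1_c29 LD2_c7 LD3_c6) Lrfl Lrfl
theorem f289612 : Led Lsl_bt (LP (LK LD1_c29 LD2_c17 LD3_c37)) = (LP (LK LD1_c20 LD2_c4 LD3_c36)) :=
  Lre_b IH (LK LD1_c29 LD2_c17 LD3_c37) (LK LD1_c20 LD2_c4 LD3_c36) Lrfl Lrfl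
theorem f737266 : Led Lsl_ff (LP (LK LD1_c19 LD2_c49 LD3_c58)) = (LP (LK LD1_c20 LD2_c4 LD3_c36)) :=
  Lgr Lrot25 (Lpr_bt (f384354 IH) (Lpr_ft (f737264 IH) (Lpr_bt (f289612 IH) (Lpn (LP (LK LD1_c20 LD2_c4 LD3_c36))))))
theorem f384555 : Led Lsl_gt (LP (LK LD1_c19 LD2_c42 LD3_c36)) = (LP (LK LD1_c26 LD2_c0 LD3_c33)) :=
  Lgr Lrot5 (Lpr_ft (K30.f318872 IH) (Lpe (K30.f318863 IH) (Lpr_gf (f384550 IH) (Lpn (LP (LK LD1_c26 LD2_c0 LD3_c33))))))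
theorem f737272 : Led Lsl_at (LP (LK LD1_c19 LD2_c49 LD3_c58)) = (LP (LK LD1_c26 LD2_c0 LD3_c33)) :=
  Lgr Lrot26 (Lpr_ff (f737266 IH) (Lpe (K20.f318675 IH) (Lpr_gt (f384555 IH) (Lpn (LP (LK LD1_c26 LD2_c0 LD3_c33))))))
theorem f384552 : Led Lsl_dt (LP (LK LD1_c26 LD2_c0 LD3_c33)) = (LP (LK LD1_c16 LD2_c3 LD3_c6)) :=
  Lre_d IH (LK LD1_c26 LD2_c0 LD3_c33) (LK LD1_c16 LD2_c3 LD3_c6) Lrfl Lrfl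
theorem f737278 : Led Lsl_af (LP (LK LD1_c15 LD2_c43 LD3_c32)) = (LP (LK LD1_c16 LD2_c3 LD3_c6)) :=
  Lgr Lrot117 (Lpe (K41.f384537 IH) (Lpr_at (f737272 IH) (Lpr_dt (f384552 IH) (Lpn (LP (LK LD1_c16 LD2_c3 LD3_c6))))))
theorem f167179 : Led Lsl_gt (LP (LK LD1_c15 LD2_c43 LD3_c33)) = (LP (LK LD1_c8 LD2_c21 LD3_c21)) :=
  Lre_g IH (LK LD1_c15 LD2_c43 LD3_c33) (LK LD1_c8 LD2_c21 LD3_c21) Lrfl Lrfl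
theorem f737282 : Led Lsl_ft (LP (LK LD1_c15 LD2_c43 LD3_c33)) = (LP (LK LD1_c16 LD2_c3 LD3_c6)) :=
  Lgr Lrot2 (Lpr_gt (f167179 IH) (Lpr_gt (K31.f167113 IH) (Lpr_af (f737278 IH) (Lpn (LP (LK LD1_c16 LD2_c3 LD3_c6))))))
theorem f737288 : Led Lsl_ff (LP (LK LD1_c15 LD2_c43 LD3_c33)) = (LP (LK LD1_c16 LD2_c3 LD3_c6)) :=
  Lgr Lrot3 (Lpr_ft (f737282 IH) (Lpn (LP (LK LD1_c16 LD2_c3 LD3_c6))))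
theorem f737292 : Led Lsl_at (LP (LK LD1_c15 LD2_c43 LD3_c33)) = (LP (LK LD1_c16 LD2_c3 LD3_c5)) :=
  Lgr Lrot26 (Lpr_ff (f737288 IH) (Lpr_gt (f324731 IH) (Lpr_gt (K20.f290256 IH) (Lpn (LP (LK LD1_c16 LD2_c3 LD3_c5))))))
theorem f219554 : Led Lsl_dt (LP (LK LD1_c15 LD2_c47 LD3_c39)) = (LP (LK LD1_c8 LD2_c23 LD3_c61)) :=
  Lre_d IH (LK LD1_c15 LD2_c47 LD3_c39) (LK LD1_c8 LD2_c23 LD3_c61) Lrfl Lrfl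
theorem f380906 : Led Lsl_df (LP (LK LD1_c25 LD2_c44 LD3_c24)) = (LP (LK LD1_c15 LD2_c47 LD3_c57)) :=
  Lgr Lrot38 (Lpr_dt (K30.f380904 IH) (Lpn (LP (LK LD1_c15 LD2_c47 LD3_c57))))
theorem f384543 : Led Lsl_gf (LP (LK LD1_c15 LD2_c43 LD3_c33)) = (LP (LK LD1_c16 LD2_c3 LD3_c7)) :=
  Lgr Lrot47 (Lpr_gt (f167179 IH) (Lpe (K30.f167174 IH) (Lpr_ff (K30.f384505 IH) (Lpn (LP (LK LD1_c16 LD2_c3 LD3_c7))))))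
theorem f392427 : Led Lsl_dt (LP (LK LD1_c15 LD2_c43 LD3_c33)) = (LP (LK LD1_c19 LD2_c50 LD3_c33)) :=
  Lgr Lrot57 (Lpr_gf (f384543 IH) (Lpe (K30.f384509 IH) (Lpe (K31.f384488 IH) (Lpe (f380906 IH) (Lpr_gt (K30.f219396 IH) (Lpr_dt (f219554 IH) (Lpr_cf (K20.f319013 IH) (Lpe (K31.f319021 IH) (Lpr_gf (K31.f392397 IH) (Lpn (LP (LK LD1_c19 LD2_c50 LD3_c33))))))))))))
theorem f392520 : Led Lsl_df (LP (LK LD1_c15 LD2_c43 LD3_c33)) = (LP (LK LD1_c19 LD2_c50 LD3_c33)) :=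
  Lgr Lrot38 (Lpr_dt (f392427 IH) (Lpn (LP (LK LD1_c19 LD2_c50 LD3_c33))))
theorem f737294 : Led Lsl_af (LP (LK LD1_c19 LD2_c50 LD3_c33)) = (LP (LK LD1_c20 LD2_c4 LD3_c36)) :=
  Lgr Lrot117 (Lpe (f392520 IH) (Lpr_at (f737292 IH) (Lpr_dt (K20.f319621 IH) (Lpn (LP (LK LD1_c20 LD2_c4 LD3_c36))))))
theorem f737300 : Led Lsl_at (LP (LK LD1_c10 LD2_c59 LD3_c45)) = (LP (LK LD1_c11 LD2_c10 LD3_c1)) :=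
  Lgr Lrot107 (Lpe (K31.f281677 IH) (Lpr_af (f737294 IH) (Lpe (K20.f289596 IH) (Lpn (LP (LK LD1_c11 LD2_c10 LD3_c1))))))
theorem f737314 : Led Lsl_ff (LP (LK LD1_c10 LD2_c59 LD3_c15)) = (LP (LK LD1_c11 LD2_c10 LD3_c1)) :=
  Lgr Lrot30 (Lpr_at (K67.f384347 IH) (Lpr_ft (K67.f392610 IH) (Lpr_at (f737300 IH) (Lpn (LP (LK LD1_c11 LD2_c10 LD3_c1))))))
theorem f737316 : Led Lsl_gf (LP (LK LD1_c19 LD2_c49 LD3_c57)) = (LP (LK LD1_c10 LD2_c59 LD3_c40)) :=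
  Lgr Lrot76 (Lpe (K67.f384347 IH) (Lpr_ff (f737314 IH) (Lpe (K31.f390161 IH) (Lpn (LP (LK LD1_c10 LD2_c59 LD3_c40))))))
theorem f174058 : Led Lsl_bf (LP (LK LD1_c8 LD2_c55 LD3_c13)) = (LP (LK LD1_c5 LD2_c31 LD3_c27)) :=
  Lgr Lrot24 (Lpr_bt (K9.f174055 IH) (Lpn (LP (LK LD1_c5 LD2_c31 LD3_c27))))
theorem f403811 : Led Lsl_cf (LP (LK LD1_c19 LD2_c42 LD3_c31)) = (LP (LK LD1_c10 LD2_c58 LD3_c54)) :=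
  Lgr Lrot125 (Lpr_gt (K30.f174054 IH) (Lpe (K20.f173662 IH) (Lpe (f174058 IH) (Lpr_gt (K67.f290365 IH) (Lpe (K27.f224508 IH) (Lpr_ct (K27.f224507 IH) (Lpe (K30.f224494 IH) (Lpr_cf (K31.f387574 IH) (Lpe (K41.f387602 IH) (Lpr_gt (K41.f403807 IH) (Lpn (LP (LK LD1_c10 LD2_c58 LD3_c54)))))))))))))
theorem f737318 : Led Lsl_ct (LP (LK LD1_c19 LD2_c49 LD3_c57)) = (LP (LK LD1_c26 LD2_c0 LD3_c33)) :=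
  Lgr Lrot152 (Lpr_gf (f737316 IH) (Lpe (K31.f387620 IH) (Lpr_gt (K41.f403807 IH) (Lpe (f403811 IH) (Lpr_gt (K30.f174054 IH) (Lpr_ct (K20.f174053 IH) (Lpe (K20.f173700 IH) (Lpe (K30.f318859 IH) (Lpr_gf (f384550 IH) (Lpn (LP (LK LD1_c26 LD2_c0 LD3_c33))))))))))))
theorem f280813 : Led Lsl_gt (LP (LK LD1_c19 LD2_c43 LD3_c16)) = (LP (LK LD1_c10 LD2_c55 LD3_c4)) :=
  Lre_g IH (LK LD1_c19 LD2_c43 LD3_c16) (LK LD1_c10 LD2_c55 LD3_c4) Lrfl Lrfl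
theorem f390323 : Led Lsl_ct (LP (LK LD1_c19 LD2_c47 LD3_c25)) = (LP (LK LD1_c19 LD2_c43 LD3_c16)) :=
  Lgr Lrot64 (Lpe (K30.f387590 IH) (Lpr_gf (K31.f390161 IH) (Lpe (K30.f387818 IH) (Lpr_ct (K30.f289603 IH) (Lpr_gf (K31.f387823 IH) (Lpe (K31.f332433 IH) (Lpe (K31.f332431 IH) (Lpe (K30.f226118 IH) (Lpr_ct (K14.f226025 IH) (Lpe (f280813 IH) (Lpn (LP (LK LD1_c19 LD2_c43 LD3_c16)))))))))))))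
theorem f390328 : Led Lsl_cf (LP (LK LD1_c19 LD2_c47 LD3_c25)) = (LP (LK LD1_c19 LD2_c43 LD3_c16)) :=
  Lgr Lrot11 (Lpr_ct (f390323 IH) (Lpn (LP (LK LD1_c19 LD2_c43 LD3_c16))))
theorem f390330 : Led Lsl_gt (LP (LK LD1_c10 LD2_c55 LD3_c7)) = (LP (LK LD1_c19 LD2_c43 LD3_c16)) :=
  Lgr Lrot150 (Lpe (K67.f281612 IH) (Lpr_gf (K31.f281610 IH) (Lpe (K31.f280817 IH) (Lpe (K31.f281706 IH) (Lpr_ct (K27.f224507 IH) (Lpe (K30.f224494 IH) (Lpr_ct (K54.f387559 IH) (Lpe (K31.f380749 IH) (Lpr_cf (f390328 IH) (Lpn (LP (LK LD1_c19 LD2_c43 LD3_c16))))))))))))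
theorem f174121 : Led Lsl_bt (LP (LK LD1_c5 LD2_c32 LD3_c43)) = (LP (LK LD1_c2 LD2_c46 LD3_c57)) :=
  Lgr Lrot128 (Lpe (K20.f174118 IH) (Lpe (K20.f174117 IH) (Lpr_cf (K9.f174110 IH) (Lpe (K39.f174119 IH) (Lpe (K30.f174120 IH) (Lpn (LP (LK LD1_c2 LD2_c46 LD3_c57))))))))
theorem f226707 : Led Lsl_ct (LP (LK LD1_c8 LD2_c57 LD3_c26)) = (LP (LK LD1_c4 LD2_c29 LD3_c36)) :=
  Lre_c IH (LK LD1_c8 LD2_c57 LD3_c26) (LK LD1_c4 LD2_c29 LD3_c36) Lrfl Lrfl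
theorem f226731 : Led Lsl_bt (LP (LK LD1_c4 LD2_c32 LD3_c37)) = (LP (LK LD1_c8 LD2_c57 LD3_c26)) :=
  Lgr Lrot128 (Lpe (K16.f174568 IH) (Lpe (K39.f226712 IH) (Lpr_cf (K12.f226705 IH) (Lpe (K22.f165026 IH) (Lpe (f226707 IH) (Lpn (LP (LK LD1_c8 LD2_c57 LD3_c26))))))))
theorem f268982 : Led Lsl_ff (LP (LK LD1_c5 LD2_c32 LD3_c43)) = (LP (LK LD1_c8 LD2_c57 LD3_c26)) :=
  Lgr Lrot25 (Lpr_bt (f174121 IH) (Lpr_ft (K16.f268976 IH) (Lpr_bt (f226731 IH) (Lpn (LP (LK LD1_c8 LD2_c57 LD3_c26))))))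
theorem f411901 : Led Lsl_gf (LP (LK LD1_c10 LD2_c57 LD3_c2)) = (LP (LK LD1_c16 LD2_c46 LD3_c9)) :=
  Lgr Lrot76 (Lpe (K20.f174324 IH) (Lpr_ff (f268982 IH) (Lpr_gt (f165028 IH) (Lpn (LP (LK LD1_c16 LD2_c46 LD3_c9))))))
theorem f737320 : Led Lsl_bf (LP (LK LD1_c19 LD2_c49 LD3_c57)) = (LP (LK LD1_c19 LD2_c37 LD3_c7)) :=
  Lgr Lrot34 (Lpr_gf (f737316 IH) (Lpr_bf (K30.f387590 IH) (Lpr_ct (f390323 IH) (Lpe (f390330 IH) (Lpe (K67.f281612 IH) (Lpr_gf (K31.f281610 IH) (Lpe (K20.f280640 IH) (Lpr_ct (K20.f280653 IH) (Lpr_gf (f411901 IH) (Lpe (f390805 IH) (Lpn (LP (LK LD1_c19 LD2_c37 LD3_c7)))))))))))))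
theorem f737324 : Led Lsl_bt (LP (LK LD1_c19 LD2_c49 LD3_c57)) = (LP (LK LD1_c19 LD2_c37 LD3_c7)) :=
  Lgr Lrot127 (Lpr_bf (f737320 IH) (Lpn (LP (LK LD1_c19 LD2_c37 LD3_c7))))
theorem f698005 : Led Lsl_ct (LP (LK LD1_c8 LD2_c58 LD3_c55)) = (LP (LK LD1_c16 LD2_c48 LD3_c2)) :=
  Lre_c IH (LK LD1_c8 LD2_c58 LD3_c55) (LK LD1_c16 LD2_c48 LD3_c2) Lrfl Lrfl
theorem f890638 : Led Lsl_bt (LP (LK LD1_c8 LD2_c58 LD3_c55)) = (LP (LK LD1_c16 LD2_c48 LD3_c0)) :=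
  Lre_b IH (LK LD1_c8 LD2_c58 LD3_c55) (LK LD1_c16 LD2_c48 LD3_c0) Lrfl Lrfl
theorem f890666 : Led Lsl_gf (LP (LK LD1_c19 LD2_c37 LD3_c7)) = (LP (LK LD1_c16 LD2_c48 LD3_c0)) :=
  Lgr Lrot124 (Lpe (f737324 IH) (Lpr_ct (f737318 IH) (Lpe (f384550 IH) (Lpr_cf (K17.f224986 IH) (Lpe (K17.f174066 IH) (Lpe (K67.f417889 IH) (Lpr_ct (f281616 IH) (Lpr_gt (f890659 IH) (Lpe (f698005 IH) (Lpr_bt (f890638 IH) (Lpn (LP (LK LD1_c16 LD2_c48 LD3_c0)))))))))))))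
def v15190 : LQ := Led Lsl_at (LP (LK LD1_c5 LD2_c33 LD3_c38))
theorem f732771 : Led Lsl_at (LP (LK LD1_c5 LD2_c33 LD3_c38)) = v15190 :=
  Lrfl
theorem f732773 : Led Lsl_df K50.v12790 = v15190 :=
  Lgr Lrot18 (Lpe (K50.f698225 IH) (Lpe (K41.f388354 IH) (Lpr_at (f732771 IH) (Lpn v15190))))
theorem f698232 : Led Lsl_ff (LP (LK LD1_c4 LD2_c30 LD3_c56)) = K50.v12790 :=
  Lgr Lrot3 (Lpr_ft (K50.f698226 IH) (Lpn K50.v12790))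
theorem f732775 : Led Lsl_ft (LP (LK LD1_c5 LD2_c33 LD3_c39)) = v15190 :=
  Lgr Lrot54 (Lpr_df (K30.f384357 IH) (Lpr_ff (f698232 IH) (Lpr_df (f732773 IH) (Lpn v15190))))
theorem f732776 : Led Lsl_ff (LP (LK LD1_c5 LD2_c33 LD3_c39)) = v15190 :=
  Lgr Lrot3 (Lpr_ft (f732775 IH) (Lpn v15190))
theorem f732782 : Led Lsl_at (LP (LK LD1_c5 LD2_c33 LD3_c39)) = K67.v15191 :=
  Lgr Lrot66 (Lpr_ff (f732776 IH) (Lpe (f732771 IH) (Lpr_ff (K67.f732781 IH) (Lpn K67.v15191))))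
theorem f737322 : Led Lsl_at (LP (LK LD1_c11 LD2_c9 LD3_c48)) = (LP (LK LD1_c19 LD2_c37 LD3_c7)) :=
  Lgr Lrot67 (Lpe (K30.f384887 IH) (Lpq (K67.f736389 IH) (Lpe (f732782 IH) (Lpe (K30.f221039 IH) (Lpe (K67.f384369 IH) (Lpr_bf (f737320 IH) (Lpn (LP (LK LD1_c19 LD2_c37 LD3_c7)))))))))
theorem f737326 : Led Lsl_ft (LP (LK LD1_c16 LD2_c48 LD3_c24)) = (LP (LK LD1_c19 LD2_c37 LD3_c7)) :=
  Lgr Lrot75 (Lpe (K31.f281673 IH) (Lpe (K67.f392610 IH) (Lpr_bf (f737320 IH) (Lpn (LP (LK LD1_c19 LD2_c37 LD3_c7))))))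
theorem f737330 : Led Lsl_ff (LP (LK LD1_c10 LD2_c57 LD3_c11)) = (LP (LK LD1_c16 LD2_c46 LD3_c9)) :=
  Lgr Lrot23 (Lpr_ct (K31.f281660 IH) (Lpr_ft (f737326 IH) (Lpr_ct (f390805 IH) (Lpn (LP (LK LD1_c16 LD2_c46 LD3_c9))))))
theorem f737334 : Led Lsl_at (LP (LK LD1_c10 LD2_c57 LD3_c11)) = (LP (LK LD1_c16 LD2_c46 LD3_c10)) :=
  Lgr Lrot26 (Lpr_ff (f737330 IH) (Lpe (f411901 IH) (Lpr_gt (K22.f281183 IH) (Lpn (LP (LK LD1_c16 LD2_c46 LD3_c10))))))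
theorem f737336 : Led Lsl_af (LP (LK LD1_c10 LD2_c57 LD3_c11)) = (LP (LK LD1_c16 LD2_c46 LD3_c10)) :=
  Lgr Lrot0 (Lpr_at (f737334 IH) (Lpn (LP (LK LD1_c16 LD2_c46 LD3_c10))))
theorem f737340 : Led Lsl_ft (LP (LK LD1_c10 LD2_c57 LD3_c12)) = (LP (LK LD1_c16 LD2_c46 LD3_c10)) :=
  Lgr Lrot2 (Lpr_gt (K38.f168135 IH) (Lpr_gt (K20.f174336 IH) (Lpr_af (f737336 IH) (Lpn (LP (LK LD1_c16 LD2_c46 LD3_c10))))))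
theorem f737344 : Led Lsl_ff (LP (LK LD1_c11 LD2_c9 LD3_c48)) = (LP (LK LD1_c10 LD2_c59 LD3_c12)) :=
  Lgr Lrot23 (Lpr_ct (K38.f387645 IH) (Lpr_ft (f737340 IH) (Lpe (K54.f226726 IH) (Lpn (LP (LK LD1_c10 LD2_c59 LD3_c12))))))
theorem f890668 : Led Lsl_gt (LP (LK LD1_c10 LD2_c59 LD3_c12)) = (LP (LK LD1_c16 LD2_c48 LD3_c0)) :=
  Lgr Lrot5 (Lpe (f737344 IH) (Lpr_at (f737322 IH) (Lpr_gf (f890666 IH) (Lpn (LP (LK LD1_c16 LD2_c48 LD3_c0))))))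
theorem f890627 : Led Lsl_dt (LP (LK LD1_c16 LD2_c48 LD3_c0)) = (LP (LK LD1_c8 LD2_c58 LD3_c53)) :=
  Lre_d IH (LK LD1_c16 LD2_c48 LD3_c0) (LK LD1_c8 LD2_c58 LD3_c53) Lrfl Lrfl
theorem f698010 : Led Lsl_bt (LP (LK LD1_c4 LD2_c30 LD3_c20)) = (LP (LK LD1_c8 LD2_c58 LD3_c53)) :=
  Lre_b IH (LK LD1_c4 LD2_c30 LD3_c20) (LK LD1_c8 LD2_c58 LD3_c53) Lrfl Lrfl
theorem f890621 : K54.v15178 = (LP (LK LD1_c8 LD2_c58 LD3_c53)) :=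
  Lefun (Lecon (K64.f732716 IH) (f890608 IH).symm) (f698010 IH)
theorem f281531 : Led Lsl_dt (LP (LK LD1_c19 LD2_c46 LD3_c35)) = (LP (LK LD1_c10 LD2_c56 LD3_c55)) :=
  Lre_d IH (LK LD1_c19 LD2_c46 LD3_c35) (LK LD1_c10 LD2_c56 LD3_c55) Lrfl Lrfl
theorem f620285 : Led Lsl_gf (LP (LK LD1_c19 LD2_c46 LD3_c35)) = (LP (LK LD1_c16 LD2_c43 LD3_c41)) :=
  Lgr Lrot47 (Lpr_gt (K54.f281525 IH) (Lpr_af (K54.f619814 IH) (Lpr_ff (K54.f619784 IH) (Lpn (LP (LK LD1_c16 LD2_c43 LD3_c41))))))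
theorem f296673 : Led Lsl_dt (LP (LK LD1_c8 LD2_c56 LD3_c12)) = (LP (LK LD1_c16 LD2_c43 LD3_c41)) :=
  Lre_d IH (LK LD1_c8 LD2_c56 LD3_c12) (LK LD1_c16 LD2_c43 LD3_c41) Lrfl Lrfl
theorem f296674 : Led Lsl_gt (LP (LK LD1_c16 LD2_c43 LD3_c39)) = (LP (LK LD1_c8 LD2_c56 LD3_c12)) :=
  Lre_g IH (LK LD1_c16 LD2_c43 LD3_c39) (LK LD1_c8 LD2_c56 LD3_c12) Lrfl Lrfl
theorem f896524 : Led Lsl_ct (LP (LK LD1_c16 LD2_c43 LD3_c39)) = v37794 :=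
  Lgr Lrot8 (Lpr_gt (f296674 IH) (Lpr_dt (f296673 IH) (Lpe (f620285 IH) (Lpr_dt (f281531 IH) (Lpr_cf (K54.f732711 IH) (Lpqs (f890621 IH) (Lpe (f890627 IH) (Lpe (f890668 IH) (Lpr_df (f388363 IH) (Lpr_gf (f896522 IH) (Lpn v37794)))))))))))
theorem f896527 : Led Lsl_bf (LP (LK LD1_c10 LD2_c50 LD3_c51)) = (LP (LK LD1_c16 LD2_c43 LD3_c39)) :=
  Lgr Lrot34 (Lpr_gf (f296717 IH) (Lpr_bf (K54.f254644 IH) (Lpr_ct (K18.f220284 IH) (Lpe (K18.f296585 IH) (Lpe (K31.f390038 IH) (Lpe (K31.f225280 IH) (Lpe (K31.f225266 IH) (Lpe (K54.f225269 IH) (Lpr_gf (f896522 IH) (Lpe (f896524 IH) (Lpn (LP (LK LD1_c16 LD2_c43 LD3_c39)))))))))))))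
theorem f896528 : Led Lsl_bt (LP (LK LD1_c16 LD2_c43 LD3_c39)) = (LP (LK LD1_c10 LD2_c50 LD3_c51)) :=
  Leop (Lpr_bf (f896527 IH) (Lpn (LP (LK LD1_c16 LD2_c43 LD3_c39))))
theorem seed_2177 : LEOK LG_b (LK LD1_c16 LD2_c43 LD3_c39) :=
  Leoe_b (LK LD1_c16 LD2_c43 LD3_c39) (f896528 IH)
def v37816 : LQ := Led Lsl_at (LP (LK LD1_c9 LD2_c0 LD3_c23))
theorem f896646 : Led Lsl_at (LP (LK LD1_c9 LD2_c0 LD3_c23)) = v37816 :=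
  Lrfl
def v15503 : LQ := Led Lsl_ft (LP (LK LD1_c5 LD2_c40 LD3_c50))
theorem f737790 : Led Lsl_ft (LP (LK LD1_c5 LD2_c40 LD3_c50)) = v15503 :=
  Lrfl
def v15502 : LQ := Led Lsl_at (LP (LK LD1_c5 LD2_c40 LD3_c50))
theorem f737786 : Led Lsl_at (LP (LK LD1_c5 LD2_c40 LD3_c50)) = v15502 :=
  Lrfl
theorem f737787 : Led Lsl_af (LP (LK LD1_c5 LD2_c40 LD3_c50)) = v15502 :=
  Lgr Lrot0 (Lpr_at (f737786 IH) (Lpn v15502))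
theorem f225536 : Led Lsl_gt (LP (LK LD1_c2 LD2_c46 LD3_c20)) = (LP (LK LD1_c5 LD2_c40 LD3_c50)) :=
  Lre_g IH (LK LD1_c2 LD2_c46 LD3_c20) (LK LD1_c5 LD2_c40 LD3_c50) Lrfl Lrfl
theorem f737788 : Led Lsl_ft (LP (LK LD1_c5 LD2_c40 LD3_c51)) = v15502 :=
  Lgr Lrot2 (Lpr_gt (K64.f289449 IH) (Lpr_gt (f225536 IH) (Lpr_af (f737787 IH) (Lpn v15502))))
theorem f737791 : Led Lsl_af (LP (LK LD1_c5 LD2_c40 LD3_c51)) = v15503 :=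
  Lgr Lrot45 (Lpr_ft (f737788 IH) (Lpe (f737787 IH) (Lpr_ft (f737790 IH) (Lpn v15503))))
theorem f896648 : Led Lsl_df v15503 = v37816 :=
  Lgr Lrot18 (Lpe (f737791 IH) (Lpr_dt (K65.f289458 IH) (Lpr_at (f896646 IH) (Lpn v37816))))
theorem f737792 : Led Lsl_ff (LP (LK LD1_c5 LD2_c40 LD3_c50)) = v15503 :=
  Lgr Lrot3 (Lpr_ft (f737790 IH) (Lpn v15503))
theorem f380142 : Led Lsl_at (LP (LK LD1_c5 LD2_c40 LD3_c35)) = (LP (LK LD1_c11 LD2_c11 LD3_c24)) :=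
  Lre_a IH (LK LD1_c5 LD2_c40 LD3_c35) (LK LD1_c11 LD2_c11 LD3_c24) Lrfl Lrfl
theorem f380127 : Led Lsl_bt (LP (LK LD1_c2 LD2_c46 LD3_c21)) = (LP (LK LD1_c5 LD2_c40 LD3_c35)) :=
  Lre_b IH (LK LD1_c2 LD2_c46 LD3_c21) (LK LD1_c5 LD2_c40 LD3_c35) Lrfl Lrfl
theorem f613297 : Led Lsl_af (LP (LK LD1_c9 LD2_c1 LD3_c32)) = (LP (LK LD1_c5 LD2_c40 LD3_c53)) :=
  Lgr Lrot36 (Lpr_bt (K24.f379922 IH) (Lpe (K50.f380134 IH) (Lpr_bt (f380127 IH) (Lpr_at (f380142 IH) (Lpr_bt (K50.f613295 IH) (Lpn (LP (LK LD1_c5 LD2_c40 LD3_c53))))))))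
theorem f380521 : Led Lsl_ft (LP (LK LD1_c2 LD2_c46 LD3_c20)) = (LP (LK LD1_c5 LD2_c40 LD3_c53)) :=
  Lre_f IH (LK LD1_c2 LD2_c46 LD3_c20) (LK LD1_c5 LD2_c40 LD3_c53) Lrfl Lrfl
theorem f613575 : Led Lsl_gf (LP (LK LD1_c9 LD2_c1 LD3_c32)) = (LP (LK LD1_c5 LD2_c40 LD3_c50)) :=
  Lgr Lrot76 (Lpr_af (f613297 IH) (Lpe (f380521 IH) (Lpr_gt (f225536 IH) (Lpn (LP (LK LD1_c5 LD2_c40 LD3_c50))))))
theorem f416311 : Led Lsl_gt (LP (LK LD1_c4 LD2_c57 LD3_c56)) = (LP (LK LD1_c9 LD2_c46 LD3_c44)) :=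
  Lre_g IH (LK LD1_c4 LD2_c57 LD3_c56) (LK LD1_c9 LD2_c46 LD3_c44) Lrfl Lrfl
theorem f613578 : Led Lsl_dt (LP (LK LD1_c9 LD2_c46 LD3_c44)) = (LP (LK LD1_c5 LD2_c40 LD3_c50)) :=
  Lgr Lrot171 (Lpe (f416311 IH) (Lpe (K51.f416262 IH) (Lpe (K32.f416258 IH) (Lpr_gf (K46.f505498 IH) (Lpe (K49.f505546 IH) (Lpr_et (K50.f505606 IH) (Lpr_gf (K50.f380077 IH) (Lpe (K24.f379920 IH) (Lpe (K50.f613359 IH) (Lpr_gf (f613575 IH) (Lpn (LP (LK LD1_c5 LD2_c40 LD3_c50)))))))))))))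
theorem f613581 : Led Lsl_df (LP (LK LD1_c9 LD2_c46 LD3_c44)) = (LP (LK LD1_c5 LD2_c40 LD3_c50)) :=
  Lgr Lrot38 (Lpr_dt (f613578 IH) (Lpn (LP (LK LD1_c5 LD2_c40 LD3_c50))))
theorem f896652 : Led Lsl_ft (LP (LK LD1_c9 LD2_c46 LD3_c44)) = v37816 :=
  Lgr Lrot54 (Lpr_df (f613581 IH) (Lpr_ff (f737792 IH) (Lpr_df (f896648 IH) (Lpn v37816))))
def v12797 : LQ := Led Lsl_at (LP (LK LD1_c4 LD2_c31 LD3_c10))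
theorem f698258 : Led Lsl_at (LP (LK LD1_c4 LD2_c31 LD3_c10)) = v12797 :=
  Lrfl
theorem f698259 : Led Lsl_af (LP (LK LD1_c4 LD2_c31 LD3_c10)) = v12797 :=
  Lgr Lrot0 (Lpr_at (f698258 IH) (Lpn v12797))
theorem f896649 : Led Lsl_ef v12797 = v37816 :=
  Lgr Lrot20 (Lpe (f698259 IH) (Lpr_et (K65.f289460 IH) (Lpr_at (f896646 IH) (Lpn v37816))))
theorem f698260 : Led Lsl_ft (LP (LK LD1_c4 LD2_c31 LD3_c11)) = v12797 :=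
  Lgr Lrot2 (Lpr_gt (K64.f211784 IH) (Lpr_gt (K65.f289450 IH) (Lpr_af (f698259 IH) (Lpn v12797))))
theorem f698262 : Led Lsl_ff (LP (LK LD1_c4 LD2_c31 LD3_c11)) = v12797 :=
  Lgr Lrot3 (Lpr_ft (f698260 IH) (Lpn v12797))
theorem f698265 : Led Lsl_ft (LP (LK LD1_c9 LD2_c0 LD3_c26)) = (LP (LK LD1_c16 LD2_c49 LD3_c50)) :=
  Lre_f IH (LK LD1_c9 LD2_c0 LD3_c26) (LK LD1_c16 LD2_c49 LD3_c50) Lrfl Lrfl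
theorem f896653 : Led Lsl_ef (LP (LK LD1_c9 LD2_c46 LD3_c44)) = (LP (LK LD1_c16 LD2_c49 LD3_c50)) :=
  Lgr Lrot21 (Lpr_ft (f896652 IH) (Lpe (f896649 IH) (Lpe (f698262 IH) (Lpr_et (K65.f698264 IH) (Lpr_ft (f698265 IH) (Lpn (LP (LK LD1_c16 LD2_c49 LD3_c50))))))))
theorem f896654 : Led Lsl_et (LP (LK LD1_c16 LD2_c49 LD3_c50)) = (LP (LK LD1_c9 LD2_c46 LD3_c44)) :=
  Leop (Lpr_ef (f896653 IH) (Lpn (LP (LK LD1_c16 LD2_c49 LD3_c50))))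
theorem seed_2178 : LEOK LG_e (LK LD1_c16 LD2_c49 LD3_c50) :=
  Leoe_e (LK LD1_c16 LD2_c49 LD3_c50) (f896654 IH)
theorem f896655 : Led Lsl_ff (LP (LK LD1_c9 LD2_c46 LD3_c44)) = v37816 :=
  Lgr Lrot3 (Lpr_ft (f896652 IH) (Lpn v37816))
theorem f896650 : Led Lsl_et v12797 = v37816 :=
  Lgr Lrot87 (Lpr_ef (f896649 IH) (Lpn v37816))
theorem f211785 : Led Lsl_et (LP (LK LD1_c9 LD2_c0 LD3_c26)) = (LP (LK LD1_c4 LD2_c31 LD3_c11)) :=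
  Lre_e IH (LK LD1_c9 LD2_c0 LD3_c26) (LK LD1_c4 LD2_c31 LD3_c11) Lrfl Lrfl
theorem f698261 : Led Lsl_ft (LP (LK LD1_c16 LD2_c49 LD3_c50)) = (LP (LK LD1_c9 LD2_c0 LD3_c26)) :=
  Lre_f IH (LK LD1_c16 LD2_c49 LD3_c50) (LK LD1_c9 LD2_c0 LD3_c26) Lrfl Lrfl
theorem f896656 : Led Lsl_et (LP (LK LD1_c9 LD2_c46 LD3_c44)) = (LP (LK LD1_c16 LD2_c49 LD3_c50)) :=
  Lgr Lrot69 (Lpr_ff (f896655 IH) (Lpe (f896650 IH) (Lpe (f698260 IH) (Lpe (f211785 IH) (Lpe (f698261 IH) (Lpn (LP (LK LD1_c16 LD2_c49 LD3_c50))))))))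
theorem f495732 : Led Lsl_et (LP (LK LD1_c11 LD2_c12 LD3_c14)) = (LP (LK LD1_c5 LD2_c40 LD3_c50)) :=
  Lre_e IH (LK LD1_c11 LD2_c12 LD3_c14) (LK LD1_c5 LD2_c40 LD3_c50) Lrfl Lrfl
theorem f622428 : Led Lsl_dt (LP (LK LD1_c2 LD2_c46 LD3_c0)) = (LP (LK LD1_c5 LD2_c7 LD3_c7)) :=
  Lgr Lrot44 (Lpe (K56.f354435 IH) (Lpr_df (K50.f622426 IH) (Lpr_af (K19.f313859 IH) (Lpn (LP (LK LD1_c5 LD2_c7 LD3_c7))))))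
theorem f495728 : Led Lsl_et (LP (LK LD1_c1 LD2_c19 LD3_c34)) = (LP (LK LD1_c2 LD2_c46 LD3_c20)) :=
  Lre_e IH (LK LD1_c1 LD2_c19 LD3_c34) (LK LD1_c2 LD2_c46 LD3_c20) Lrfl Lrfl
theorem f250200 : Led Lsl_gt (LP (LK LD1_c10 LD2_c4 LD3_c54)) = (LP (LK LD1_c5 LD2_c7 LD3_c7)) :=
  Lre_g IH (LK LD1_c10 LD2_c4 LD3_c54) (LK LD1_c5 LD2_c7 LD3_c7) Lrfl Lrfl
theorem f622476 : Led Lsl_dt (LP (LK LD1_c11 LD2_c12 LD3_c14)) = (LP (LK LD1_c10 LD2_c4 LD3_c54)) :=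
  Lgr Lrot136 (Lpr_et (f495732 IH) (Lpe (f225536 IH) (Lpe (f495728 IH) (Lpr_dt (K37.f22414 IH) (Lpe (K35.f172280 IH) (Lpqs (K36.f537175 IH) (Lpe (K36.f536081 IH) (Lpe (K36.f226540 IH) (Lpe (K39.f354378 IH) (Lpr_dt (f622428 IH) (Lpe (f250200 IH) (Lpn (LP (LK LD1_c10 LD2_c4 LD3_c54))))))))))))))
theorem f622478 : Led Lsl_df (LP (LK LD1_c11 LD2_c12 LD3_c14)) = (LP (LK LD1_c10 LD2_c4 LD3_c54)) :=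
  Lgr Lrot38 (Lpr_dt (f622476 IH) (Lpn (LP (LK LD1_c10 LD2_c4 LD3_c54))))
theorem f403060 : Led Lsl_et (LP (LK LD1_c18 LD2_c23 LD3_c34)) = (LP (LK LD1_c10 LD2_c4 LD3_c54)) :=
  Lre_e IH (LK LD1_c18 LD2_c23 LD3_c34) (LK LD1_c10 LD2_c4 LD3_c54) Lrfl Lrfl
theorem f896658 : Led Lsl_df (LP (LK LD1_c18 LD2_c23 LD3_c34)) = (LP (LK LD1_c16 LD2_c49 LD3_c50)) :=
  Lgr Lrot70 (Lpr_et (f403060 IH) (Lpe (f622478 IH) (Lpr_et (f495732 IH) (Lpe (f613581 IH) (Lpr_et (f896656 IH) (Lpn (LP (LK LD1_c16 LD2_c49 LD3_c50))))))))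
theorem f503759 : Led Lsl_at (LP (LK LD1_c2 LD2_c26 LD3_c46)) = (LP (LK LD1_c3 LD2_c59 LD3_c13)) :=
  Lgr Lrot100 (Lpr_af (K32.f503757 IH) (Lpn (LP (LK LD1_c3 LD2_c59 LD3_c13))))
theorem f503811 : Led Lsl_af (LP (LK LD1_c3 LD2_c59 LD3_c14)) = (LP (LK LD1_c2 LD2_c26 LD3_c47)) :=
  Lgr Lrot45 (Lpe (K57.f503743 IH) (Lpr_at (f503759 IH) (Lpr_ft (K50.f503809 IH) (Lpn (LP (LK LD1_c2 LD2_c26 LD3_c47))))))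
theorem f168874 : Led Lsl_et (LP (LK LD1_c4 LD2_c57 LD3_c56)) = (LP (LK LD1_c2 LD2_c26 LD3_c47)) :=
  Lre_e IH (LK LD1_c4 LD2_c57 LD3_c56) (LK LD1_c2 LD2_c26 LD3_c47) Lrfl Lrfl
theorem f689160 : Led Lsl_af (LP (LK LD1_c4 LD2_c57 LD3_c56)) = K49.v12282 :=
  Lgr Lrot50 (Lpr_et (f168874 IH) (Lpe (f503811 IH) (Lpr_et (K49.f689159 IH) (Lpn K49.v12282))))
theorem f756391 : Led Lsl_at K54.v14097 = K57.v17151 :=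
  Lgr Lrot66 (Lpe (K54.f718973 IH) (Lpr_af (f689160 IH) (Lpr_ff (K57.f756389 IH) (Lpn K57.v17151))))
theorem f756393 : Led Lsl_gt (LP (LK LD1_c9 LD2_c46 LD3_c44)) = K57.v17151 :=
  Lgr Lrot46 (Lpe (f416311 IH) (Lpr_ft (K54.f718973 IH) (Lpr_at (f756391 IH) (Lpn K57.v17151))))
def v5268 : LQ := Led Lsl_gt (LP (LK LD1_c3 LD2_c2 LD3_c48))
theorem f646853 : Led Lsl_gt (LP (LK LD1_c3 LD2_c2 LD3_c48)) = v5268 :=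
  Lrfl
theorem f701616 : Led Lsl_gt v5268 = K51.v13195 :=
  Lgr Lrot46 (Lpe (f646853 IH) (Lpr_ft (K48.f504391 IH) (Lpr_at (K51.f701612 IH) (Lpn K51.v13195))))
theorem f706063 : v5268 = (LP (LK LD1_c5 LD2_c52 LD3_c10)) :=
  Lefun (Lecon (Lfl_gt (f701616 IH)) (K51.f706043 IH).symm) (Lfl_gt (K50.f499961 IH))
theorem f165097 : Led Lsl_dt (LP (LK LD1_c5 LD2_c37 LD3_c34)) = (LP (LK LD1_c10 LD2_c5 LD3_c17)) :=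
  Lgr Lrot42 (Lpr_df (K51.f165095 IH) (Lpn (LP (LK LD1_c10 LD2_c5 LD3_c17))))
theorem f896666 : Led Lsl_gf (LP (LK LD1_c18 LD2_c23 LD3_c34)) = (LP (LK LD1_c10 LD2_c5 LD3_c17)) :=
  Lgr Lrot134 (Lpr_df (f896658 IH) (Lpe (f896653 IH) (Lpr_gt (f756393 IH) (Lpe (K57.f756385 IH) (Lpr_dt (K51.f413506 IH) (Lpr_gt (f646853 IH) (Lpqs (f706063 IH) (Lpe (K50.f615365 IH) (Lpr_et (K20.f319476 IH) (Lpr_gt (K53.f288052 IH) (Lpr_dt (f165097 IH) (Lpn (LP (LK LD1_c10 LD2_c5 LD3_c17))))))))))))))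
theorem f896667 : Led Lsl_gt (LP (LK LD1_c10 LD2_c5 LD3_c17)) = (LP (LK LD1_c18 LD2_c23 LD3_c34)) :=
  Leop (Lpr_gf (f896666 IH) (Lpn (LP (LK LD1_c10 LD2_c5 LD3_c17))))
theorem seed_2179 : LEOK LG_g (LK LD1_c10 LD2_c5 LD3_c17) :=
  Leoe_g (LK LD1_c10 LD2_c5 LD3_c17) (f896667 IH)
def v37818 : LQ := Led Lsl_ft (LP (LK LD1_c9 LD2_c0 LD3_c23))
theorem f896803 : Led Lsl_ft (LP (LK LD1_c9 LD2_c0 LD3_c23)) = v37818 :=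
  Lrfl
def v12800 : LQ := Led Lsl_ft (LP (LK LD1_c4 LD2_c31 LD3_c10))
theorem f698270 : Led Lsl_ft (LP (LK LD1_c4 LD2_c31 LD3_c10)) = v12800 :=
  Lrfl
theorem f698272 : Led Lsl_ff (LP (LK LD1_c4 LD2_c31 LD3_c10)) = v12800 :=
  Lgr Lrot3 (Lpr_ft (f698270 IH) (Lpn v12800))
def v4735 : LQ := Led Lsl_ft (LP (LK LD1_c2 LD2_c45 LD3_c6))
theorem f638764 : Led Lsl_ft (LP (LK LD1_c2 LD2_c45 LD3_c6)) = v4735 :=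
  Lrfl
theorem f638765 : Led Lsl_af (LP (LK LD1_c2 LD2_c45 LD3_c7)) = v4735 :=
  Lgr Lrot45 (Lpr_ft (K65.f638757 IH) (Lpe (K65.f638755 IH) (Lpr_ft (f638764 IH) (Lpn v4735))))
theorem f698273 : Led Lsl_at (LP (LK LD1_c4 LD2_c31 LD3_c11)) = v12800 :=
  Lgr Lrot66 (Lpr_ff (f698262 IH) (Lpe (f698258 IH) (Lpr_ff (f698272 IH) (Lpn v12800))))
def v15409 : LQ := Led Lsl_at (LP (LK LD1_c5 LD2_c38 LD3_c33))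
theorem f736158 : Led Lsl_at (LP (LK LD1_c5 LD2_c38 LD3_c33)) = v15409 :=
  Lrfl
theorem f736160 : Led Lsl_ef v4735 = v15409 :=
  Lgr Lrot20 (Lpe (f638765 IH) (Lpr_et (K54.f638760 IH) (Lpr_at (f736158 IH) (Lpn v15409))))
theorem f896662 : Led Lsl_dt (LP (LK LD1_c18 LD2_c23 LD3_c34)) = (LP (LK LD1_c16 LD2_c49 LD3_c50)) :=
  Lgr Lrot42 (Lpr_df (f896658 IH) (Lpn (LP (LK LD1_c16 LD2_c49 LD3_c50))))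
theorem f623729 : Led Lsl_ft (LP (LK LD1_c5 LD2_c14 LD3_c48)) = (LP (LK LD1_c10 LD2_c19 LD3_c1)) :=
  Lre_f IH (LK LD1_c5 LD2_c14 LD3_c48) (LK LD1_c10 LD2_c19 LD3_c1) Lrfl Lrfl
theorem f724077 : Led Lsl_dt (LP (LK LD1_c10 LD2_c19 LD3_c1)) = (LP (LK LD1_c5 LD2_c40 LD3_c11)) :=
  Lgr Lrot60 (Lpe (f623729 IH) (Lpe (K53.f622439 IH) (Lpr_ff (K53.f724073 IH) (Lpn (LP (LK LD1_c5 LD2_c40 LD3_c11))))))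
def v14408 : LQ := Led Lsl_ft (LP (LK LD1_c5 LD2_c8 LD3_c24))
theorem f722379 : Led Lsl_ft (LP (LK LD1_c5 LD2_c8 LD3_c24)) = v14408 :=
  Lrfl
theorem f722381 : Led Lsl_ff (LP (LK LD1_c5 LD2_c8 LD3_c24)) = v14408 :=
  Lgr Lrot3 (Lpr_ft (f722379 IH) (Lpn v14408))
theorem f722382 : Led Lsl_et (LP (LK LD1_c10 LD2_c19 LD3_c1)) = v14408 :=
  Lgr Lrot69 (Lpe (f623729 IH) (Lpe (K53.f623728 IH) (Lpe (K48.f623726 IH) (Lpe (K53.f22379 IH) (Lpr_ff (f722381 IH) (Lpn v14408))))))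
theorem f623772 : Led Lsl_at (LP (LK LD1_c5 LD2_c8 LD3_c24)) = (LP (LK LD1_c5 LD2_c14 LD3_c50)) :=
  Lgr Lrot100 (Lpr_af (K53.f623721 IH) (Lpn (LP (LK LD1_c5 LD2_c14 LD3_c50))))
theorem f724031 : Led Lsl_gt v14408 = K54.v14618 :=
  Lgr Lrot5 (Lpe (f722381 IH) (Lpr_at (f623772 IH) (Lpr_gf (K54.f724030 IH) (Lpn K54.v14618))))
theorem f896670 : Led Lsl_gt (LP (LK LD1_c10 LD2_c18 LD3_c42)) = (LP (LK LD1_c16 LD2_c49 LD3_c50)) :=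
  Lgr Lrot112 (Lpe (K54.f181109 IH) (Lpr_et (K54.f723950 IH) (Lpqs (K54.f735982 IH) (Lpe (f724031 IH) (Lpe (f722382 IH) (Lpr_dt (f724077 IH) (Lpe (K53.f495601 IH) (Lpr_df (K50.f622440 IH) (Lpe (f250200 IH) (Lpe (f403060 IH) (Lpr_dt (f896662 IH) (Lpn (LP (LK LD1_c16 LD2_c49 LD3_c50))))))))))))))
theorem f638761 : Led Lsl_ft (LP (LK LD1_c5 LD2_c38 LD3_c33)) = (LP (LK LD1_c11 LD2_c8 LD3_c19)) :=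
  Lre_f IH (LK LD1_c5 LD2_c38 LD3_c33) (LK LD1_c11 LD2_c8 LD3_c19) Lrfl Lrfl
theorem f896672 : Led Lsl_at (LP (LK LD1_c11 LD2_c8 LD3_c19)) = (LP (LK LD1_c16 LD2_c49 LD3_c50)) :=
  Lgr Lrot26 (Lpe (f638761 IH) (Lpe (K54.f735979 IH) (Lpr_gt (f896670 IH) (Lpn (LP (LK LD1_c16 LD2_c49 LD3_c50))))))
theorem f736159 : Led Lsl_af (LP (LK LD1_c5 LD2_c38 LD3_c33)) = v15409 :=
  Lgr Lrot0 (Lpr_at (f736158 IH) (Lpn v15409))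
theorem f896676 : v15409 = (LP (LK LD1_c9 LD2_c0 LD3_c26)) :=
  (Llr Lrot45 (Lpe (f736159 IH) (Lpr_ft (f638761 IH) (Lpr_at (f896672 IH) (Lpr_ft (f698261 IH) (Lpn (LP (LK LD1_c9 LD2_c0 LD3_c26)))))))).symm
theorem f896679 : v4735 = (LP (LK LD1_c4 LD2_c31 LD3_c11)) :=
  Lefun (Lecon (Lfl_ef (f736160 IH)) (f896676 IH)) (f211785 IH)
theorem f896682 : (LP (LK LD1_c2 LD2_c45 LD3_c7)) = v12800 :=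
  Lefun (Lecon (Lfl_af (f638765 IH)) (f896679 IH)) (f698273 IH)
theorem f171837 : Led Lsl_et (LP (LK LD1_c5 LD2_c38 LD3_c33)) = (LP (LK LD1_c2 LD2_c45 LD3_c7)) :=
  Lre_e IH (LK LD1_c5 LD2_c38 LD3_c33) (LK LD1_c2 LD2_c45 LD3_c7) Lrfl Lrfl
theorem f638758 : Led Lsl_ft (LP (LK LD1_c11 LD2_c8 LD3_c19)) = (LP (LK LD1_c5 LD2_c38 LD3_c33)) :=
  Lre_f IH (LK LD1_c11 LD2_c8 LD3_c19) (LK LD1_c5 LD2_c38 LD3_c33) Lrfl Lrfl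
theorem f896806 : Led Lsl_ef (LP (LK LD1_c11 LD2_c8 LD3_c19)) = v37818 :=
  Lgr Lrot21 (Lpr_ft (f638758 IH) (Lpr_et (f171837 IH) (Lpqs (f896682 IH) (Lpe (f698272 IH) (Lpr_et (K65.f289460 IH) (Lpr_ft (f896803 IH) (Lpn v37818)))))))
theorem f737789 : Led Lsl_ff (LP (LK LD1_c5 LD2_c40 LD3_c51)) = v15502 :=
  Lgr Lrot3 (Lpr_ft (f737788 IH) (Lpn v15502))
theorem f896805 : Led Lsl_df v15502 = v37818 :=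
  Lgr Lrot78 (Lpe (f737789 IH) (Lpr_dt (K65.f289458 IH) (Lpr_ft (f896803 IH) (Lpn v37818))))
theorem f613386 : Led Lsl_dt (LP (LK LD1_c9 LD2_c1 LD3_c32)) = (LP (LK LD1_c4 LD2_c31 LD3_c53)) :=
  Lgr Lrot42 (Lpr_df (K50.f613359 IH) (Lpn (LP (LK LD1_c4 LD2_c31 LD3_c53))))
theorem f613392 : Led Lsl_df (LP (LK LD1_c4 LD2_c31 LD3_c50)) = (LP (LK LD1_c2 LD2_c12 LD3_c57)) :=
  Lgr Lrot78 (Lpr_ft (K50.f380702 IH) (Lpr_dt (f613386 IH) (Lpr_ft (K24.f379914 IH) (Lpn (LP (LK LD1_c2 LD2_c12 LD3_c57))))))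
theorem f390231 : Led Lsl_gt (LP (LK LD1_c9 LD2_c1 LD3_c31)) = (LP (LK LD1_c4 LD2_c31 LD3_c50)) :=
  Lre_g IH (LK LD1_c9 LD2_c1 LD3_c31) (LK LD1_c4 LD2_c31 LD3_c50) Lrfl Lrfl
theorem f319365 : Led Lsl_et (LP (LK LD1_c5 LD2_c38 LD3_c31)) = (LP (LK LD1_c2 LD2_c45 LD3_c6)) :=
  Lre_e IH (LK LD1_c5 LD2_c38 LD3_c31) (LK LD1_c2 LD2_c45 LD3_c6) Lrfl Lrfl
theorem f613394 : Led Lsl_df (LP (LK LD1_c9 LD2_c1 LD3_c31)) = (LP (LK LD1_c5 LD2_c38 LD3_c31)) :=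
  Lgr Lrot170 (Lpr_gt (f390231 IH) (Lpr_df (f613392 IH) (Lpr_et (K24.f165001 IH) (Lpe (K20.f319448 IH) (Lpr_dt (K20.f172330 IH) (Lpr_gt (K20.f171843 IH) (Lpe (K9.f165159 IH) (Lpr_et (K53.f319339 IH) (Lpr_gt (K65.f319359 IH) (Lpe (f319365 IH) (Lpn (LP (LK LD1_c5 LD2_c38 LD3_c31)))))))))))))
theorem f613402 : Led Lsl_et (LP (LK LD1_c2 LD2_c45 LD3_c6)) = (LP (LK LD1_c5 LD2_c38 LD3_c31)) :=
  Lre_e IH (LK LD1_c2 LD2_c45 LD3_c6) (LK LD1_c5 LD2_c38 LD3_c31) Lrfl Lrfl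
theorem f638766 : Led Lsl_ff (LP (LK LD1_c2 LD2_c45 LD3_c6)) = v4735 :=
  Lgr Lrot3 (Lpr_ft (f638764 IH) (Lpn v4735))
theorem f896690 : (LP (LK LD1_c2 LD2_c45 LD3_c6)) = v12797 :=
  Lefun (Lecon (Lfl_ff (f638766 IH)) (f896679 IH)) (f698260 IH)
theorem f896707 : v37816 = (LP (LK LD1_c5 LD2_c38 LD3_c31)) :=
  Lefun (Lecon (f896650 IH) (f896690 IH).symm) (f613402 IH)
theorem f896718 : v15503 = (LP (LK LD1_c9 LD2_c1 LD3_c31)) :=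
  Lefun (Lecon (Lfl_df (f896648 IH)) (f896707 IH)) (Lfl_df (f613394 IH))
theorem f390229 : Led Lsl_gt (LP (LK LD1_c4 LD2_c31 LD3_c50)) = (LP (LK LD1_c9 LD2_c1 LD3_c30)) :=
  Lre_g IH (LK LD1_c4 LD2_c31 LD3_c50) (LK LD1_c9 LD2_c1 LD3_c30) Lrfl Lrfl
theorem f896730 : v15502 = (LP (LK LD1_c9 LD2_c1 LD3_c30)) :=
  (Llr Lrot26 (Lpe (f737786 IH) (Lpr_ff (f737792 IH) (Lpqs (f896718 IH) (Lpr_gt (f390231 IH) (Lpr_gt (f390229 IH) (Lpn (LP (LK LD1_c9 LD2_c1 LD3_c30))))))))).symm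
theorem f896813 : Led Lsl_gt (LP (LK LD1_c11 LD2_c8 LD3_c19)) = (LP (LK LD1_c10 LD2_c6 LD3_c51)) :=
  Lgr Lrot137 (Lpr_ef (f896806 IH) (Lpe (f896805 IH) (Lpqs (f896730 IH) (Lpe (f390229 IH) (Lpr_df (f613392 IH) (Lpr_et (K24.f165001 IH) (Lpe (K15.f164714 IH) (Lpe (K17.f164997 IH) (Lpr_dt (K54.f165070 IH) (Lpe (K53.f53219 IH) (Lpe (K57.f165090 IH) (Lpn (LP (LK LD1_c10 LD2_c6 LD3_c51))))))))))))))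
theorem f896814 : Led Lsl_gt (LP (LK LD1_c11 LD2_c8 LD3_c19)) = (LP (LK LD1_c10 LD2_c6 LD3_c51)) :=
  Leop (Lpe (f896813 IH) (Lpn (LP (LK LD1_c11 LD2_c8 LD3_c19))))
theorem seed_2180 : LEOK LG_g (LK LD1_c11 LD2_c8 LD3_c19) :=
  Leoe_g (LK LD1_c11 LD2_c8 LD3_c19) (f896814 IH)
def v37869 : LQ := Led Lsl_ft (LP (LK LD1_c9 LD2_c1 LD3_c29))
theorem f897067 : Led Lsl_ft (LP (LK LD1_c9 LD2_c1 LD3_c29)) = v37869 :=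
  Lrfl
theorem f897071 : Led Lsl_ff (LP (LK LD1_c9 LD2_c1 LD3_c29)) = v37869 :=
  Lgr Lrot3 (Lpr_ft (f897067 IH) (Lpn v37869))
def v15506 : LQ := Led Lsl_ft (LP (LK LD1_c5 LD2_c40 LD3_c52))
theorem f737802 : Led Lsl_ft (LP (LK LD1_c5 LD2_c40 LD3_c52)) = v15506 :=
  Lrfl
theorem f897073 : Led Lsl_at v15506 = v37869 :=
  Lgr Lrot66 (Lpe (f737802 IH) (Lpe (K52.f613351 IH) (Lpr_ff (f897071 IH) (Lpn v37869))))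
theorem f289464 : Led Lsl_gt (LP (LK LD1_c5 LD2_c40 LD3_c52)) = (LP (LK LD1_c11 LD2_c12 LD3_c17)) :=
  Lre_g IH (LK LD1_c5 LD2_c40 LD3_c52) (LK LD1_c11 LD2_c12 LD3_c17) Lrfl Lrfl
theorem f897077 : Led Lsl_gt (LP (LK LD1_c11 LD2_c12 LD3_c17)) = v37869 :=
  Lgr Lrot46 (Lpe (f289464 IH) (Lpr_ft (f737802 IH) (Lpr_at (f897073 IH) (Lpn v37869))))
theorem f897069 : Led Lsl_cf (LP (LK LD1_c9 LD2_c1 LD3_c32)) = v37869 :=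
  Lgr Lrot108 (Lpr_ft (K24.f379926 IH) (Lpr_ct (K52.f390235 IH) (Lpr_ft (f897067 IH) (Lpn v37869))))
theorem f697974 : Led Lsl_cf (LP (LK LD1_c4 LD2_c31 LD3_c53)) = K64.v12750 :=
  Lgr Lrot108 (Lpr_ft (K24.f379914 IH) (Lpr_ct (K64.f390222 IH) (Lpr_ft (K64.f697972 IH) (Lpn K64.v12750))))
def v15575 : LQ := Led Lsl_ct (LP (LK LD1_c5 LD2_c42 LD3_c17))
theorem f738115 : Led Lsl_ct (LP (LK LD1_c5 LD2_c42 LD3_c17)) = v15575 :=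
  Lrfl
theorem f897079 : (LP (LK LD1_c11 LD2_c12 LD3_c17)) = v15575 :=
  (Llr Lrot104 (Lpr_gt (f897077 IH) (Lpe (f897069 IH) (Lpr_df (K50.f613359 IH) (Lpr_cf (f697974 IH) (Lpe (K64.f697982 IH) (Lpq (K64.f823420 IH) (Lpe (K64.f638910 IH) (Lpe (K55.f68849 IH) (Lpe (K50.f68617 IH) (Lpr_gt (K56.f68723 IH) (Lpr_ct (f738115 IH) (Lpn v15575))))))))))))).symm
theorem f738116 : Led Lsl_cf (LP (LK LD1_c5 LD2_c42 LD3_c17)) = v15575 :=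
  Lgr Lrot11 (Lpr_ct (f738115 IH) (Lpn v15575))
theorem f897080 : Led Lsl_ct (LP (LK LD1_c11 LD2_c12 LD3_c17)) = (LP (LK LD1_c5 LD2_c42 LD3_c17)) :=
  Leop (Lpr_cf (f738116 IH) (Lpq (f897079 IH) (Lpn (LP (LK LD1_c11 LD2_c12 LD3_c17)))))
theorem seed_2181 : LEOK LG_c (LK LD1_c11 LD2_c12 LD3_c17) :=
  Leoe_c (LK LD1_c11 LD2_c12 LD3_c17) (f897080 IH)
theorem f281888 : Led Lsl_bt (LP (LK LD1_c5 LD2_c41 LD3_c58)) = (LP (LK LD1_c2 LD2_c47 LD3_c6)) :=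
  Lre_b IH (LK LD1_c5 LD2_c41 LD3_c58) (LK LD1_c2 LD2_c47 LD3_c6) Lrfl Lrfl
theorem f566462 : Led Lsl_ct (LP (LK LD1_c5 LD2_c41 LD3_c58)) = (LP (LK LD1_c11 LD2_c14 LD3_c15)) :=
  Lre_c IH (LK LD1_c5 LD2_c41 LD3_c58) (LK LD1_c11 LD2_c14 LD3_c15) Lrfl Lrfl
theorem f897074 : Led Lsl_ct (LP (LK LD1_c9 LD2_c1 LD3_c32)) = v37869 :=
  Lgr Lrot40 (Lpe (K50.f380702 IH) (Lpe (K64.f390219 IH) (Lpr_ff (f897071 IH) (Lpn v37869))))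
theorem f380654 : Led Lsl_gf (LP (LK LD1_c2 LD2_c46 LD3_c19)) = (LP (LK LD1_c4 LD2_c31 LD3_c53)) :=
  Lgr Lrot47 (Lpr_gt (K54.f172289 IH) (Lpr_af (K50.f380643 IH) (Lpe (K24.f379914 IH) (Lpn (LP (LK LD1_c4 LD2_c31 LD3_c53))))))
theorem f380524 : Led Lsl_bt (LP (LK LD1_c5 LD2_c40 LD3_c47)) = (LP (LK LD1_c2 LD2_c46 LD3_c19)) :=
  Lre_b IH (LK LD1_c5 LD2_c40 LD3_c47) (LK LD1_c2 LD2_c46 LD3_c19) Lrfl Lrfl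
theorem f380525 : Led Lsl_ct (LP (LK LD1_c5 LD2_c40 LD3_c47)) = (LP (LK LD1_c11 LD2_c12 LD3_c8)) :=
  Lre_c IH (LK LD1_c5 LD2_c40 LD3_c47) (LK LD1_c11 LD2_c12 LD3_c8) Lrfl Lrfl
theorem f897088 : Led Lsl_gf (LP (LK LD1_c11 LD2_c14 LD3_c15)) = (LP (LK LD1_c11 LD2_c12 LD3_c8)) :=
  Lgr Lrot126 (Lpe (f566462 IH) (Lpr_bt (f281888 IH) (Lpr_gt (K56.f68723 IH) (Lpr_ct (f738115 IH) (Lpq (f897079 IH) (Lpr_gt (f897077 IH) (Lpe (f897074 IH) (Lpr_bt (K24.f379922 IH) (Lpe (f380654 IH) (Lpe (f380524 IH) (Lpr_ct (f380525 IH) (Lpn (LP (LK LD1_c11 LD2_c12 LD3_c8))))))))))))))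
theorem f897089 : Led Lsl_gt (LP (LK LD1_c11 LD2_c12 LD3_c8)) = (LP (LK LD1_c11 LD2_c14 LD3_c15)) :=
  Leop (Lpr_gf (f897088 IH) (Lpn (LP (LK LD1_c11 LD2_c12 LD3_c8))))
theorem seed_2182 : LEOK LG_g (LK LD1_c11 LD2_c12 LD3_c8) :=
  Leoe_g (LK LD1_c11 LD2_c12 LD3_c8) (f897089 IH)
def v4765 : LQ := Led Lsl_ct (LP (LK LD1_c2 LD2_c46 LD3_c19))
theorem f638879 : Led Lsl_ct (LP (LK LD1_c2 LD2_c46 LD3_c19)) = v4765 :=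
  Lrfl
theorem f289457 : Led Lsl_ct (LP (LK LD1_c5 LD2_c40 LD3_c51)) = (LP (LK LD1_c11 LD2_c12 LD3_c16)) :=
  Lre_c IH (LK LD1_c5 LD2_c40 LD3_c51) (LK LD1_c11 LD2_c12 LD3_c16) Lrfl Lrfl
def v4762 : LQ := Led Lsl_ct (LP (LK LD1_c2 LD2_c46 LD3_c18))
def v24490 : LQ := Led Lsl_gf v4762
theorem f823951 : Led Lsl_gf v4762 = v24490 :=
  Lrfl
def v24482 : LQ := Led Lsl_ct K54.v4760
theorem f823786 : Led Lsl_ct K54.v4760 = v24482 :=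
  Lrfl
theorem f638867 : Led Lsl_ct (LP (LK LD1_c2 LD2_c46 LD3_c18)) = v4762 :=
  Lrfl
theorem f638868 : Led Lsl_cf (LP (LK LD1_c2 LD2_c46 LD3_c18)) = v4762 :=
  Lgr Lrot11 (Lpr_ct (f638867 IH) (Lpn v4762))
theorem f823787 : Led Lsl_af v4762 = v24482 :=
  Lgr Lrot68 (Lpe (f638868 IH) (Lpr_at (K54.f638860 IH) (Lpr_ct (f823786 IH) (Lpn v24482))))
theorem f638881 : Led Lsl_cf (LP (LK LD1_c2 LD2_c46 LD3_c19)) = v4765 :=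
  Lgr Lrot11 (Lpr_ct (f638879 IH) (Lpn v4765))
theorem f823789 : Led Lsl_ff v4765 = v24482 :=
  Lgr Lrot23 (Lpe (f638881 IH) (Lpr_ft (K54.f638862 IH) (Lpr_ct (f823786 IH) (Lpn v24482))))
theorem f823790 : Led Lsl_ft v4765 = v24482 :=
  Lgr Lrot48 (Lpr_ff (f823789 IH) (Lpn v24482))
theorem f823952 : Led Lsl_gt v4765 = v24490 :=
  Lgr Lrot5 (Lpr_ft (f823790 IH) (Lpe (f823787 IH) (Lpr_gf (f823951 IH) (Lpn v24490))))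
def v15574 : LQ := Led Lsl_bt (LP (LK LD1_c5 LD2_c42 LD3_c17))
theorem f738113 : Led Lsl_bt (LP (LK LD1_c5 LD2_c42 LD3_c17)) = v15574 :=
  Lrfl
theorem f289463 : Led Lsl_ct (LP (LK LD1_c2 LD2_c46 LD3_c20)) = (LP (LK LD1_c5 LD2_c40 LD3_c52)) :=
  Lre_c IH (LK LD1_c2 LD2_c46 LD3_c20) (LK LD1_c5 LD2_c40 LD3_c52) Lrfl Lrfl
theorem f281847 : Led Lsl_gt (LP (LK LD1_c20 LD2_c7 LD3_c57)) = (LP (LK LD1_c11 LD2_c14 LD3_c6)) :=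
  Lre_g IH (LK LD1_c20 LD2_c7 LD3_c57) (LK LD1_c11 LD2_c14 LD3_c6) Lrfl Lrfl
theorem f281834 : Led Lsl_ct (LP (LK LD1_c11 LD2_c13 LD3_c20)) = (LP (LK LD1_c20 LD2_c7 LD3_c57)) :=
  Lre_c IH (LK LD1_c11 LD2_c13 LD3_c20) (LK LD1_c20 LD2_c7 LD3_c57) Lrfl Lrfl
theorem f897090 : v15574 = (LP (LK LD1_c9 LD2_c2 LD3_c9)) :=
  (Llr Lrot22 (Lpe (f738113 IH) (Lpr_ct (f738115 IH) (Lpq (f897079 IH) (Lpe (f289464 IH) (Lpe (f289463 IH) (Lpe (K64.f289449 IH) (Lpe (K64.f289465 IH) (Lpe (K64.f823421 IH) (Lpe (f281847 IH) (Lpe (f281834 IH) (Lpr_bt (K16.f281832 IH) (Lpe (K51.f281848 IH) (Lpn (LP (LK LD1_c9 LD2_c2 LD3_c9)))))))))))))))).symm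
theorem f281900 : Led Lsl_bt (LP (LK LD1_c2 LD2_c13 LD3_c12)) = (LP (LK LD1_c4 LD2_c32 LD3_c15)) :=
  Lre_b IH (LK LD1_c2 LD2_c13 LD3_c12) (LK LD1_c4 LD2_c32 LD3_c15) Lrfl Lrfl
def v4160 : LQ := Led Lsl_et (LP (LK LD1_c2 LD2_c11 LD3_c61))
theorem f631534 : Led Lsl_et (LP (LK LD1_c2 LD2_c11 LD3_c61)) = v4160 :=
  Lrfl
theorem f631537 : Led Lsl_ef (LP (LK LD1_c2 LD2_c11 LD3_c61)) = v4160 :=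
  Lgr Lrot88 (Lpr_et (f631534 IH) (Lpn v4160))
theorem f174460 : Led Lsl_et (LP (LK LD1_c1 LD2_c3 LD3_c40)) = (LP (LK LD1_c2 LD2_c13 LD3_c12)) :=
  Lre_e IH (LK LD1_c1 LD2_c3 LD3_c40) (LK LD1_c2 LD2_c13 LD3_c12) Lrfl Lrfl
theorem f631539 : Led Lsl_ct (LP (LK LD1_c2 LD2_c13 LD3_c12)) = v4160 :=
  Lgr Lrot15 (Lpe (f174460 IH) (Lpe (K12.f174445 IH) (Lpr_ef (f631537 IH) (Lpn v4160))))
theorem f897107 : v24490 = v4160 :=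
  (Llr Lrot149 (Lpe (f823952 IH) (Lpe (f638879 IH) (Lpr_gf (f380654 IH) (Lpe (K24.f379922 IH) (Lpr_ct (f897074 IH) (Lpe (f897077 IH) (Lpqs (f897079 IH) (Lpe (f738115 IH) (Lpr_bt (f738113 IH) (Lpqs (f897090 IH) (Lpe (K51.f398542 IH) (Lpe (f281900 IH) (Lpr_ct (f631539 IH) (Lpn v4160))))))))))))))).symm
theorem f631536 : Led Lsl_cf (LP (LK LD1_c2 LD2_c13 LD3_c12)) = v4160 :=
  Lgr Lrot39 (Lpr_et (K55.f174447 IH) (Lpe (K12.f173400 IH) (Lpr_et (f631534 IH) (Lpn v4160))))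
def v12828 : LQ := Led Lsl_ct (LP (LK LD1_c4 LD2_c32 LD3_c19))
theorem f698423 : Led Lsl_ct (LP (LK LD1_c4 LD2_c32 LD3_c19)) = v12828 :=
  Lrfl
theorem f698425 : Led Lsl_cf (LP (LK LD1_c4 LD2_c32 LD3_c19)) = v12828 :=
  Lgr Lrot11 (Lpr_ct (f698423 IH) (Lpn v12828))
theorem f897112 : Led Lsl_gt (LP (LK LD1_c11 LD2_c12 LD3_c16)) = v12828 :=
  Lgr Lrot150 (Lpe (f289457 IH) (Lpe (K64.f613573 IH) (Lpr_df (K50.f613359 IH) (Lpe (f380654 IH) (Lpr_ct (f638879 IH) (Lpr_gt (f823952 IH) (Lpqs (f897107 IH) (Lpe (f631536 IH) (Lpe (K55.f26968 IH) (Lpr_cf (f698425 IH) (Lpn v12828)))))))))))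
theorem f638906 : Led Lsl_bt (LP (LK LD1_c2 LD2_c47 LD3_c4)) = (LP (LK LD1_c5 LD2_c42 LD3_c12)) :=
  Lre_b IH (LK LD1_c2 LD2_c47 LD3_c4) (LK LD1_c5 LD2_c42 LD3_c12) Lrfl Lrfl
def v15559 : LQ := Led Lsl_gf (LP (LK LD1_c5 LD2_c42 LD3_c12))
theorem f738030 : Led Lsl_gf (LP (LK LD1_c5 LD2_c42 LD3_c12)) = v15559 :=
  Lrfl
theorem f281889 : Led Lsl_bt (LP (LK LD1_c4 LD2_c32 LD3_c19)) = (LP (LK LD1_c9 LD2_c2 LD3_c11)) :=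
  Lre_b IH (LK LD1_c4 LD2_c32 LD3_c19) (LK LD1_c9 LD2_c2 LD3_c11) Lrfl Lrfl
theorem f897114 : v15559 = (LP (LK LD1_c9 LD2_c2 LD3_c11)) :=
  (Llr Lrot124 (Lpe (f738030 IH) (Lpe (f638906 IH) (Lpr_ct (K64.f638910 IH) (Lpqs (K64.f823420 IH) (Lpr_gt (K64.f697982 IH) (Lpe (K64.f697979 IH) (Lpr_bt (K50.f379917 IH) (Lpr_gt (K64.f613573 IH) (Lpr_ct (f289457 IH) (Lpr_gt (f897112 IH) (Lpe (f698423 IH) (Lpr_bt (f281889 IH) (Lpn (LP (LK LD1_c9 LD2_c2 LD3_c11)))))))))))))))).symm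
theorem f897115 : Led Lsl_gt (LP (LK LD1_c9 LD2_c2 LD3_c11)) = (LP (LK LD1_c5 LD2_c42 LD3_c12)) :=
  Leop (Lpr_gf (f738030 IH) (Lpqs (f897114 IH) (Lpn (LP (LK LD1_c9 LD2_c2 LD3_c11)))))
theorem seed_2183 : LEOK LG_g (LK LD1_c9 LD2_c2 LD3_c11) :=
  Leoe_g (LK LD1_c9 LD2_c2 LD3_c11) (f897115 IH)
theorem f615830 : Led Lsl_ct (LP (LK LD1_c9 LD2_c3 LD3_c15)) = (LP (LK LD1_c16 LD2_c53 LD3_c61)) :=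
  Lre_c IH (LK LD1_c9 LD2_c3 LD3_c15) (LK LD1_c16 LD2_c53 LD3_c61) Lrfl Lrfl
theorem f580460 : Led Lsl_ft (LP (LK LD1_c9 LD2_c2 LD3_c11)) = (LP (LK LD1_c16 LD2_c52 LD3_c28)) :=
  Lre_f IH (LK LD1_c9 LD2_c2 LD3_c11) (LK LD1_c16 LD2_c52 LD3_c28) Lrfl Lrfl
theorem f281863 : Led Lsl_bt (LP (LK LD1_c11 LD2_c14 LD3_c16)) = (LP (LK LD1_c5 LD2_c42 LD3_c20)) :=
  Lre_b IH (LK LD1_c11 LD2_c14 LD3_c16) (LK LD1_c5 LD2_c42 LD3_c20) Lrfl Lrfl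
theorem f566479 : Led Lsl_bt (LP (LK LD1_c9 LD2_c3 LD3_c15)) = (LP (LK LD1_c16 LD2_c53 LD3_c49)) :=
  Lre_b IH (LK LD1_c9 LD2_c3 LD3_c15) (LK LD1_c16 LD2_c53 LD3_c49) Lrfl Lrfl
theorem f566480 : Led Lsl_at (LP (LK LD1_c16 LD2_c52 LD3_c28)) = (LP (LK LD1_c9 LD2_c3 LD3_c15)) :=
  Lgr Lrot67 (Lpe (K66.f281864 IH) (Lpe (K16.f281853 IH) (Lpe (f281863 IH) (Lpr_af (K41.f566471 IH) (Lpe (f566479 IH) (Lpn (LP (LK LD1_c9 LD2_c3 LD3_c15))))))))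
def v15558 : LQ := Led Lsl_gt (LP (LK LD1_c5 LD2_c42 LD3_c12))
theorem f738025 : Led Lsl_gt (LP (LK LD1_c5 LD2_c42 LD3_c12)) = v15558 :=
  Lrfl
theorem f897116 : (LP (LK LD1_c9 LD2_c3 LD3_c15)) = v15558 :=
  (Llr Lrot26 (Lpe (f566480 IH) (Lpe (f580460 IH) (Lpq (f897114 IH) (Lpe (f738030 IH) (Lpr_gt (f738025 IH) (Lpn v15558))))))).symm
theorem f380510 : Led Lsl_ct (LP (LK LD1_c1 LD2_c19 LD3_c31)) = (LP (LK LD1_c2 LD2_c42 LD3_c57)) :=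
  Lgr Lrot59 (Lpr_cf (K54.f380489 IH) (Lpn (LP (LK LD1_c2 LD2_c42 LD3_c57))))
theorem f380499 : Led Lsl_gt (LP (LK LD1_c5 LD2_c40 LD3_c34)) = (LP (LK LD1_c2 LD2_c46 LD3_c13)) :=
  Lre_g IH (LK LD1_c5 LD2_c40 LD3_c34) (LK LD1_c2 LD2_c46 LD3_c13) Lrfl Lrfl
theorem f380526 : Led Lsl_bt (LP (LK LD1_c11 LD2_c11 LD3_c51)) = (LP (LK LD1_c5 LD2_c40 LD3_c34)) :=
  Lre_b IH (LK LD1_c11 LD2_c11 LD3_c51) (LK LD1_c5 LD2_c40 LD3_c34) Lrfl Lrfl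
theorem f380527 : Led Lsl_ct (LP (LK LD1_c11 LD2_c11 LD3_c51)) = (LP (LK LD1_c20 LD2_c6 LD3_c36)) :=
  Lre_c IH (LK LD1_c11 LD2_c11 LD3_c51) (LK LD1_c20 LD2_c6 LD3_c36) Lrfl Lrfl
theorem f897149 : Led Lsl_gt (LP (LK LD1_c16 LD2_c53 LD3_c61)) = (LP (LK LD1_c20 LD2_c6 LD3_c36)) :=
  Lgr Lrot149 (Lpe (f615830 IH) (Lpqs (f897116 IH) (Lpe (f738025 IH) (Lpe (f638906 IH) (Lpr_ct (K64.f638910 IH) (Lpqs (K64.f823420 IH) (Lpe (K64.f638518 IH) (Lpe (f380510 IH) (Lpr_bt (K50.f380486 IH) (Lpe (f380499 IH) (Lpe (f380526 IH) (Lpr_ct (f380527 IH) (Lpn (LP (LK LD1_c20 LD2_c6 LD3_c36)))))))))))))))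
theorem f897150 : Led Lsl_gt (LP (LK LD1_c16 LD2_c53 LD3_c61)) = (LP (LK LD1_c20 LD2_c6 LD3_c36)) :=
  Leop (Lpe (f897149 IH) (Lpn (LP (LK LD1_c16 LD2_c53 LD3_c61))))
theorem seed_2184 : LEOK LG_g (LK LD1_c16 LD2_c53 LD3_c61) :=
  Leoe_g (LK LD1_c16 LD2_c53 LD3_c61) (f897150 IH)
def v37878 : LQ := Led Lsl_ct (LP (LK LD1_c9 LD2_c1 LD3_c34))
theorem f897219 : Led Lsl_ct (LP (LK LD1_c9 LD2_c1 LD3_c34)) = v37878 :=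
  Lrfl
theorem f168860 : Led Lsl_gt (LP (LK LD1_c2 LD2_c12 LD3_c57)) = (LP (LK LD1_c4 LD2_c31 LD3_c51)) :=
  Lre_g IH (LK LD1_c2 LD2_c12 LD3_c57) (LK LD1_c4 LD2_c31 LD3_c51) Lrfl Lrfl
theorem f168875 : Led Lsl_dt (LP (LK LD1_c4 LD2_c31 LD3_c51)) = (LP (LK LD1_c9 LD2_c1 LD3_c34)) :=
  Lre_d IH (LK LD1_c4 LD2_c31 LD3_c51) (LK LD1_c9 LD2_c1 LD3_c34) Lrfl Lrfl
theorem f416312 : Led Lsl_gf (LP (LK LD1_c9 LD2_c17 LD3_c40)) = (LP (LK LD1_c9 LD2_c1 LD3_c34)) :=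
  Lgr Lrot134 (Lpr_df (K51.f416263 IH) (Lpr_et (f168874 IH) (Lpr_gt (K32.f67064 IH) (Lpe (K41.f40944 IH) (Lpr_dt (K1.f40727 IH) (Lpr_gt (K9.f168829 IH) (Lpe (K15.f164713 IH) (Lpr_et (K60.f168837 IH) (Lpr_gt (f168860 IH) (Lpr_dt (f168875 IH) (Lpn (LP (LK LD1_c9 LD2_c1 LD3_c34)))))))))))))
theorem f756410 : Led Lsl_gf (LP (LK LD1_c9 LD2_c1 LD3_c34)) = K57.v17153 :=
  Lgr Lrot47 (Lpe (f416312 IH) (Lpe (K54.f504156 IH) (Lpr_ff (K57.f756405 IH) (Lpn K57.v17153))))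
theorem f756394 : Led Lsl_bt (LP (LK LD1_c6 LD2_c12 LD3_c32)) = K57.v17151 :=
  Lgr Lrot119 (Lpe (K54.f413483 IH) (Lpe (K55.f413518 IH) (Lpr_ef (K57.f756388 IH) (Lpn K57.v17151))))
theorem f756407 : Led Lsl_bt K49.v12282 = K57.v17153 :=
  Lgr Lrot35 (Lpr_ff (K57.f756389 IH) (Lpe (f756394 IH) (Lpr_ff (K57.f756405 IH) (Lpn K57.v17153))))
def v4810 : LQ := Led Lsl_et (LP (LK LD1_c2 LD2_c48 LD3_c39))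
theorem f639094 : Led Lsl_et (LP (LK LD1_c2 LD2_c48 LD3_c39)) = v4810 :=
  Lrfl
theorem f639095 : Led Lsl_ef (LP (LK LD1_c2 LD2_c48 LD3_c39)) = v4810 :=
  Lgr Lrot88 (Lpr_et (f639094 IH) (Lpn v4810))
theorem f689161 : Led Lsl_cf v4810 = K49.v12282 :=
  Lgr Lrot39 (Lpe (f639095 IH) (Lpe (K35.f444605 IH) (Lpr_et (K49.f689159 IH) (Lpn K49.v12282))))
def v24562 : LQ := Led Lsl_gf v4810
theorem f824628 : Led Lsl_gf v4810 = v24562 :=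
  Lrfl
def v24563 : LQ := Led Lsl_dt v4810
theorem f824629 : Led Lsl_dt v4810 = v24563 :=
  Lrfl
theorem f9126 : Led Lsl_et (LP (LK LD1_c2 LD2_c43 LD3_c19)) = (LP (LK LD1_c4 LD2_c33 LD3_c43)) :=
  Lre_e IH (LK LD1_c2 LD2_c43 LD3_c19) (LK LD1_c4 LD2_c33 LD3_c43) Lrfl Lrfl
theorem f9115 : Led Lsl_dt (LP (LK LD1_c5 LD2_c27 LD3_c23)) = (LP (LK LD1_c2 LD2_c43 LD3_c19)) :=
  Lre_d IH (LK LD1_c5 LD2_c27 LD3_c23) (LK LD1_c2 LD2_c43 LD3_c19) Lrfl Lrfl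
theorem f751659 : Led Lsl_gt K54.v15571 = K67.v16797 :=
  Lgr Lrot94 (Lpe (K54.f738092 IH) (Lpr_gt (K67.f738077 IH) (Lpe (K67.f738079 IH) (Lpr_gt (K57.f9323 IH) (Lpr_dt (K17.f9140 IH) (Lpe (K57.f68901 IH) (Lpe (f9115 IH) (Lpr_gf (K57.f446634 IH) (Lpr_df (K67.f751658 IH) (Lpn K67.v16797))))))))))
theorem f738101 : Led Lsl_ef K54.v15571 = K54.v4697 :=
  Lgr Lrot88 (Lpe (K54.f738094 IH) (Lpq (K54.f738100 IH) (Lpn K54.v4697)))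
def v24363 : LQ := Led Lsl_dt K54.v4697
theorem f823445 : Led Lsl_dt K54.v4697 = v24363 :=
  Lrfl
theorem f824632 : Led Lsl_gf v24363 = v24563 :=
  Lgr Lrot145 (Lpe (f823445 IH) (Lpe (f738101 IH) (Lpr_gt (f751659 IH) (Lpe (K67.f751658 IH) (Lpe (K57.f446634 IH) (Lpe (K0.f9111 IH) (Lpr_et (f9126 IH) (Lpr_gt (K35.f444609 IH) (Lpr_ef (f639095 IH) (Lpr_dt (f824629 IH) (Lpn v24563)))))))))))
theorem f823446 : Led Lsl_df K54.v4697 = v24363 :=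
  Lgr Lrot38 (Lpr_dt (f823445 IH) (Lpn v24363))
def v15687 : LQ := Led Lsl_ct (LP (LK LD1_c5 LD2_c45 LD3_c19))
theorem f740939 : Led Lsl_ct (LP (LK LD1_c5 LD2_c45 LD3_c19)) = v15687 :=
  Lrfl
theorem f824633 : v15687 = v24562 :=
  (Llr Lrot8 (Lpe (f740939 IH) (Lpr_gt (K55.f417167 IH) (Lpr_dt (K50.f140687 IH) (Lpr_gt (K50.f140681 IH) (Lpr_dt (K50.f68619 IH) (Lpr_cf (K54.f638924 IH) (Lpq (K54.f738100 IH) (Lpr_df (f823446 IH) (Lpr_gf (f824632 IH) (Lpe (f824629 IH) (Lpr_gf (f824628 IH) (Lpn v24562))))))))))))).symm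
theorem f242679 : Led Lsl_bt (LP (LK LD1_c5 LD2_c45 LD3_c19)) = (LP (LK LD1_c11 LD2_c21 LD3_c8)) :=
  Lre_b IH (LK LD1_c5 LD2_c45 LD3_c19) (LK LD1_c11 LD2_c21 LD3_c8) Lrfl Lrfl
theorem f756403 : Led Lsl_df K57.v17151 = K57.v17153 :=
  Lgr Lrot78 (Lpe (K57.f756389 IH) (Lpe (K49.f689162 IH) (Lpr_ft (K57.f756400 IH) (Lpn K57.v17153))))
def v5269 : LQ := Led Lsl_gf (LP (LK LD1_c3 LD2_c2 LD3_c48))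
theorem f646854 : Led Lsl_gf (LP (LK LD1_c3 LD2_c2 LD3_c48)) = v5269 :=
  Lrfl
theorem f701619 : Led Lsl_gf v5269 = K51.v13195 :=
  Lgr Lrot47 (Lpe (f646854 IH) (Lpr_af (K52.f646857 IH) (Lpr_ff (K52.f701615 IH) (Lpn K51.v13195))))
theorem f706061 : v5269 = (LP (LK LD1_c2 LD2_c51 LD3_c14)) :=
  Lefun (Lecon (Lfl_gf (f701619 IH)) (K51.f706043 IH).symm) (K41.f496477 IH)
theorem f756390 : Led Lsl_gf (LP (LK LD1_c9 LD2_c0 LD3_c23)) = K57.v17151 :=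
  Lgr Lrot138 (Lpe (K65.f289452 IH) (Lpr_gt (K64.f289449 IH) (Lpe (K55.f225535 IH) (Lpr_et (K30.f225534 IH) (Lpr_gt (K12.f172293 IH) (Lpe (K20.f226747 IH) (Lpr_dt (K41.f615367 IH) (Lpq (f706061 IH) (Lpe (f646854 IH) (Lpe (K51.f413506 IH) (Lpr_et (K57.f756385 IH) (Lpn K57.v17151))))))))))))
def v12799 : LQ := Led Lsl_ct (LP (LK LD1_c4 LD2_c31 LD3_c10))
theorem f698268 : Led Lsl_ct (LP (LK LD1_c4 LD2_c31 LD3_c10)) = v12799 :=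
  Lrfl
def v15021 : LQ := Led Lsl_ft (LP (LK LD1_c5 LD2_c30 LD3_c39))
theorem f729653 : Led Lsl_ft (LP (LK LD1_c5 LD2_c30 LD3_c39)) = v15021 :=
  Lrfl
theorem f823197 : Led Lsl_cf v12797 = v15021 :=
  Lgr Lrot108 (Lpe (f698262 IH) (Lpr_ct (K64.f698274 IH) (Lpqs (K64.f823193 IH) (Lpr_ft (f729653 IH) (Lpn v15021)))))
theorem f729655 : Led Lsl_ff (LP (LK LD1_c5 LD2_c30 LD3_c39)) = v15021 :=
  Lgr Lrot3 (Lpr_ft (f729653 IH) (Lpn v15021))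
def v15017 : LQ := Led Lsl_at (LP (LK LD1_c5 LD2_c30 LD3_c39))
theorem f729642 : Led Lsl_at (LP (LK LD1_c5 LD2_c30 LD3_c39)) = v15017 :=
  Lrfl
theorem f729643 : Led Lsl_af (LP (LK LD1_c5 LD2_c30 LD3_c39)) = v15017 :=
  Lgr Lrot0 (Lpr_at (f729642 IH) (Lpn v15017))
def v12712 : LQ := Led Lsl_ft (LP (LK LD1_c4 LD2_c29 LD3_c20))
theorem f697764 : Led Lsl_ft (LP (LK LD1_c4 LD2_c29 LD3_c20)) = v12712 :=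
  Lrfl
theorem f697768 : Led Lsl_ff (LP (LK LD1_c4 LD2_c29 LD3_c20)) = v12712 :=
  Lgr Lrot3 (Lpr_ft (f697764 IH) (Lpn v12712))
theorem f245672 : Led Lsl_af (LP (LK LD1_c2 LD2_c41 LD3_c32)) = (LP (LK LD1_c4 LD2_c29 LD3_c20)) :=
  Lgr Lrot0 (Lpr_at (K13.f245592 IH) (Lpn (LP (LK LD1_c4 LD2_c29 LD3_c20))))
theorem f697773 : Led Lsl_gf (LP (LK LD1_c5 LD2_c30 LD3_c39)) = v12712 :=
  Lgr Lrot47 (Lpr_gt (K64.f225262 IH) (Lpr_af (f245672 IH) (Lpr_ff (f697768 IH) (Lpn v12712))))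
def v4655 : LQ := Led Lsl_ft (LP (LK LD1_c2 LD2_c41 LD3_c32))
theorem f638355 : Led Lsl_ft (LP (LK LD1_c2 LD2_c41 LD3_c32)) = v4655 :=
  Lrfl
theorem f697770 : Led Lsl_at v4655 = v12712 :=
  Lgr Lrot66 (Lpe (f638355 IH) (Lpr_af (f245672 IH) (Lpr_ff (f697768 IH) (Lpn v12712))))
def v4653 : LQ := Led Lsl_gt (LP (LK LD1_c2 LD2_c41 LD3_c32))
theorem f638350 : Led Lsl_gt (LP (LK LD1_c2 LD2_c41 LD3_c32)) = v4653 :=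
  Lrfl
theorem f697774 : Led Lsl_gt v4653 = v12712 :=
  Lgr Lrot46 (Lpe (f638350 IH) (Lpr_ft (f638355 IH) (Lpr_at (f697770 IH) (Lpn v12712))))
theorem f729645 : Led Lsl_ft v4653 = v15017 :=
  Lgr Lrot2 (Lpr_gt (f697774 IH) (Lpe (f697773 IH) (Lpr_af (f729643 IH) (Lpn v15017))))
theorem f729646 : Led Lsl_ff v4653 = v15017 :=
  Lgr Lrot3 (Lpr_ft (f729645 IH) (Lpn v15017))
theorem f729656 : Led Lsl_at v4653 = v15021 :=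
  Lgr Lrot66 (Lpr_ff (f729646 IH) (Lpe (f729642 IH) (Lpr_ff (f729655 IH) (Lpn v15021))))
theorem f823199 : v12799 = v4653 :=
  (Llr Lrot111 (Lpe (f698268 IH) (Lpr_af (f698259 IH) (Lpr_cf (f823197 IH) (Lpe (f729656 IH) (Lpn v4653)))))).symm
def v24277 : LQ := Led Lsl_et v4653
theorem f823188 : Led Lsl_et v4653 = v24277 :=
  Lrfl
theorem f823203 : Led Lsl_cf (LP (LK LD1_c9 LD2_c0 LD3_c23)) = v24277 :=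
  Lgr Lrot39 (Lpr_et (K65.f289451 IH) (Lpr_ct (f698268 IH) (Lpqs (f823199 IH) (Lpr_et (f823188 IH) (Lpn v24277)))))
theorem f823204 : Led Lsl_ct (LP (LK LD1_c9 LD2_c0 LD3_c23)) = v24277 :=
  Lgr Lrot59 (Lpr_cf (f823203 IH) (Lpn v24277))
theorem f738051 : Led Lsl_bt (LP (LK LD1_c5 LD2_c42 LD3_c13)) = (LP (LK LD1_c11 LD2_c14 LD3_c38)) :=
  Lre_b IH (LK LD1_c5 LD2_c42 LD3_c13) (LK LD1_c11 LD2_c14 LD3_c38) Lrfl Lrfl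
def v15564 : LQ := Led Lsl_ct (LP (LK LD1_c5 LD2_c42 LD3_c13))
theorem f738052 : Led Lsl_ct (LP (LK LD1_c5 LD2_c42 LD3_c13)) = v15564 :=
  Lrfl
def v4790 : LQ := Led Lsl_ct (LP (LK LD1_c2 LD2_c48 LD3_c24))
theorem f639024 : Led Lsl_ct (LP (LK LD1_c2 LD2_c48 LD3_c24)) = v4790 :=
  Lrfl
theorem f639025 : Led Lsl_cf (LP (LK LD1_c2 LD2_c48 LD3_c24)) = v4790 :=
  Lgr Lrot11 (Lpr_ct (f639024 IH) (Lpn v4790))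
theorem f740941 : Led Lsl_ef v4790 = v15687 :=
  Lgr Lrot28 (Lpe (f639025 IH) (Lpr_et (K55.f242678 IH) (Lpr_ct (f740939 IH) (Lpn v15687))))
theorem f740942 : Led Lsl_et v4790 = v15687 :=
  Lgr Lrot87 (Lpr_ef (f740941 IH) (Lpn v15687))
def v15259 : LQ := Led Lsl_et (LP (LK LD1_c5 LD2_c34 LD3_c42))
theorem f733191 : Led Lsl_et (LP (LK LD1_c5 LD2_c34 LD3_c42)) = v15259 :=
  Lrfl
theorem f750554 : (LP (LK LD1_c5 LD2_c34 LD3_c42)) = v4790 :=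
  Lefun (Lecon (Lfl_cf (K56.f733188 IH)) (K56.f750553 IH)) (f639024 IH)
theorem f750557 : v15687 = v15259 :=
  Lefun (Lecon (f740942 IH) (f750554 IH).symm) (f733191 IH)
theorem f689165 : Led Lsl_ct v4810 = K49.v12282 :=
  Lgr Lrot15 (Lpe (f639094 IH) (Lpe (K35.f444592 IH) (Lpr_ef (K49.f689163 IH) (Lpn K49.v12282))))
def v17152 : LQ := Led Lsl_et (LP (LK LD1_c6 LD2_c12 LD3_c31))
theorem f756395 : Led Lsl_et (LP (LK LD1_c6 LD2_c12 LD3_c31)) = v17152 :=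
  Lrfl
theorem f756396 : Led Lsl_cf (LP (LK LD1_c6 LD2_c12 LD3_c32)) = v17152 :=
  Lgr Lrot39 (Lpr_et (K49.f413497 IH) (Lpr_ct (K24.f413466 IH) (Lpr_et (f756395 IH) (Lpn v17152))))
theorem f824634 : Led Lsl_gt v15564 = v17152 :=
  Lgr Lrot150 (Lpe (f738052 IH) (Lpe (K50.f281895 IH) (Lpr_df (K50.f698774 IH) (Lpe (K55.f698782 IH) (Lpr_ct (f740939 IH) (Lpqs (f750557 IH) (Lpq (f750557 IH) (Lpqs (f824633 IH) (Lpe (f824628 IH) (Lpr_ct (f689165 IH) (Lpe (K57.f689166 IH) (Lpr_cf (f756396 IH) (Lpn v17152)))))))))))))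
theorem f756397 : Led Lsl_ef (LP (LK LD1_c6 LD2_c12 LD3_c31)) = v17152 :=
  Lgr Lrot88 (Lpr_et (f756395 IH) (Lpn v17152))
theorem f756398 : Led Lsl_ct (LP (LK LD1_c6 LD2_c12 LD3_c32)) = v17152 :=
  Lgr Lrot15 (Lpe (K54.f413483 IH) (Lpe (K24.f413467 IH) (Lpr_ef (f756397 IH) (Lpn v17152))))
theorem f566496 : Led Lsl_dt (LP (LK LD1_c16 LD2_c52 LD3_c6)) = (LP (LK LD1_c9 LD2_c3 LD3_c15)) :=
  Lgr Lrot79 (Lpe (K16.f281832 IH) (Lpr_df (K41.f566490 IH) (Lpe (f566479 IH) (Lpn (LP (LK LD1_c9 LD2_c3 LD3_c15))))))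
theorem f280331 : Led Lsl_at (LP (LK LD1_c11 LD2_c15 LD3_c26)) = (LP (LK LD1_c5 LD2_c42 LD3_c60)) :=
  Lre_a IH (LK LD1_c11 LD2_c15 LD3_c26) (LK LD1_c5 LD2_c42 LD3_c60) Lrfl Lrfl
theorem f280333 : Led Lsl_ef (LP (LK LD1_c11 LD2_c15 LD3_c26)) = (LP (LK LD1_c16 LD2_c52 LD3_c6)) :=
  Lgr Lrot20 (Lpr_at (f280331 IH) (Lpr_et (K16.f280326 IH) (Lpr_at (K55.f280332 IH) (Lpn (LP (LK LD1_c16 LD2_c52 LD3_c6))))))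
theorem f281954 : Led Lsl_gt (LP (LK LD1_c11 LD2_c15 LD3_c26)) = (LP (LK LD1_c5 LD2_c42 LD3_c58)) :=
  Lre_g IH (LK LD1_c11 LD2_c15 LD3_c26) (LK LD1_c5 LD2_c42 LD3_c58) Lrfl Lrfl
theorem f640144 : Led Lsl_dt (LP (LK LD1_c9 LD2_c4 LD3_c61)) = (LP (LK LD1_c16 LD2_c56 LD3_c56)) :=
  Lre_d IH (LK LD1_c9 LD2_c4 LD3_c61) (LK LD1_c16 LD2_c56 LD3_c56) Lrfl Lrfl
theorem f281549 : Led Lsl_gt (LP (LK LD1_c5 LD2_c42 LD3_c58)) = (LP (LK LD1_c2 LD2_c47 LD3_c26)) :=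
  Lre_g IH (LK LD1_c5 LD2_c42 LD3_c58) (LK LD1_c2 LD2_c47 LD3_c26) Lrfl Lrfl
theorem f714234 : Led Lsl_et (LP (LK LD1_c9 LD2_c13 LD3_c53)) = (LP (LK LD1_c5 LD2_c42 LD3_c58)) :=
  Lgr Lrot121 (Lpr_dt (K52.f714219 IH) (Lpr_gf (K52.f640266 IH) (Lpe (f640144 IH) (Lpe (K51.f706207 IH) (Lpr_gf (K51.f700294 IH) (Lpe (K51.f700288 IH) (Lpr_dt (K51.f281962 IH) (Lpe (K51.f604814 IH) (Lpe (K51.f552613 IH) (Lpe (f281549 IH) (Lpn (LP (LK LD1_c5 LD2_c42 LD3_c58)))))))))))))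
def v15760 : LQ := Led Lsl_gt (LP (LK LD1_c5 LD2_c46 LD3_c5))
theorem f741424 : Led Lsl_gt (LP (LK LD1_c5 LD2_c46 LD3_c5)) = v15760 :=
  Lrfl
theorem f738027 : Led Lsl_dt (LP (LK LD1_c11 LD2_c14 LD3_c38)) = (LP (LK LD1_c5 LD2_c42 LD3_c12)) :=
  Lre_d IH (LK LD1_c11 LD2_c14 LD3_c38) (LK LD1_c5 LD2_c42 LD3_c12) Lrfl Lrfl
theorem f897120 : v15760 = (LP (LK LD1_c11 LD2_c14 LD3_c38)) :=
  (Llr Lrot137 (Lpe (f741424 IH) (Lpe (K51.f140673 IH) (Lpr_dt (K50.f140617 IH) (Lpe (K52.f140621 IH) (Lpe (K52.f714219 IH) (Lpr_et (f714234 IH) (Lpe (f281954 IH) (Lpr_ef (f280333 IH) (Lpr_dt (f566496 IH) (Lpqs (f897116 IH) (Lpe (f738025 IH) (Lpe (f738027 IH) (Lpn (LP (LK LD1_c11 LD2_c14 LD3_c38)))))))))))))))).symm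
def v4823 : LQ := Led Lsl_et (LP (LK LD1_c2 LD2_c48 LD3_c47))
theorem f640472 : Led Lsl_et (LP (LK LD1_c2 LD2_c48 LD3_c47)) = v4823 :=
  Lrfl
theorem f640474 : Led Lsl_ef (LP (LK LD1_c2 LD2_c48 LD3_c47)) = v4823 :=
  Lgr Lrot88 (Lpr_et (f640472 IH) (Lpn v4823))
theorem f140610 : Led Lsl_ct (LP (LK LD1_c2 LD2_c48 LD3_c47)) = (LP (LK LD1_c1 LD2_c20 LD3_c30)) :=
  Lre_c IH (LK LD1_c2 LD2_c48 LD3_c47) (LK LD1_c1 LD2_c20 LD3_c30) Lrfl Lrfl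
theorem f640475 : Led Lsl_ct (LP (LK LD1_c2 LD2_c48 LD3_c49)) = v4823 :=
  Lgr Lrot15 (Lpe (K55.f140692 IH) (Lpe (f140610 IH) (Lpr_ef (f640474 IH) (Lpn v4823))))
def v24571 : LQ := Led Lsl_gf v4823
theorem f824654 : Led Lsl_gf v4823 = v24571 :=
  Lrfl
theorem f897148 : v24277 = v24571 :=
  (Llr Lrot91 (Lpe (f823204 IH) (Lpr_gf (f756390 IH) (Lpe (f756394 IH) (Lpr_ct (f756398 IH) (Lpe (f824634 IH) (Lpe (f738052 IH) (Lpr_bt (f738051 IH) (Lpq (f897120 IH) (Lpe (f741424 IH) (Lpe (K54.f639781 IH) (Lpr_ct (f640475 IH) (Lpr_gf (f824654 IH) (Lpn v24571)))))))))))))).symm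
theorem f640473 : Led Lsl_cf (LP (LK LD1_c2 LD2_c48 LD3_c49)) = v4823 :=
  Lgr Lrot39 (Lpr_et (K64.f140679 IH) (Lpr_ct (K51.f140609 IH) (Lpr_et (f640472 IH) (Lpn v4823))))
def v15766 : LQ := Led Lsl_ct (LP (LK LD1_c5 LD2_c46 LD3_c8))
theorem f741442 : Led Lsl_ct (LP (LK LD1_c5 LD2_c46 LD3_c8)) = v15766 :=
  Lrfl
theorem f741443 : Led Lsl_cf (LP (LK LD1_c5 LD2_c46 LD3_c8)) = v15766 :=
  Lgr Lrot11 (Lpr_ct (f741442 IH) (Lpn v15766))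
theorem f897223 : Led Lsl_gf v15766 = v37878 :=
  Lgr Lrot104 (Lpe (f741443 IH) (Lpe (K50.f140687 IH) (Lpr_cf (f640473 IH) (Lpr_gf (f824654 IH) (Lpq (f897148 IH) (Lpe (f823204 IH) (Lpr_gf (f756390 IH) (Lpr_df (f756403 IH) (Lpe (f756410 IH) (Lpr_ct (f897219 IH) (Lpn v37878)))))))))))
theorem f897224 : Led Lsl_gf (LP (LK LD1_c11 LD2_c21 LD3_c8)) = (LP (LK LD1_c11 LD2_c22 LD3_c33)) :=
  Lgr Lrot124 (Lpe (f242679 IH) (Lpr_ct (f740939 IH) (Lpqs (f824633 IH) (Lpe (f824628 IH) (Lpr_cf (f689161 IH) (Lpr_bt (f756407 IH) (Lpe (f756410 IH) (Lpr_ct (f897219 IH) (Lpe (f897223 IH) (Lpe (f741442 IH) (Lpr_bt (K50.f140666 IH) (Lpn (LP (LK LD1_c11 LD2_c22 LD3_c33))))))))))))))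
theorem f897225 : Led Lsl_gt (LP (LK LD1_c11 LD2_c22 LD3_c33)) = (LP (LK LD1_c11 LD2_c21 LD3_c8)) :=
  Leop (Lpr_gf (f897224 IH) (Lpn (LP (LK LD1_c11 LD2_c22 LD3_c33))))
theorem seed_2185 : LEOK LG_g (LK LD1_c11 LD2_c22 LD3_c33) :=
  Leoe_g (LK LD1_c11 LD2_c22 LD3_c33) (f897225 IH)
def v15676 : LQ := Led Lsl_gt (LP (LK LD1_c5 LD2_c45 LD3_c17))
theorem f740886 : Led Lsl_gt (LP (LK LD1_c5 LD2_c45 LD3_c17)) = v15676 :=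
  Lrfl
theorem f549879 : Led Lsl_gf (LP (LK LD1_c3 LD2_c10 LD3_c19)) = (LP (LK LD1_c2 LD2_c13 LD3_c27)) :=
  Lgr Lrot143 (Lpr_dt (K41.f117779 IH) (Lpe (K43.f117781 IH) (Lpe (K45.f117774 IH) (Lpr_gf (K38.f549873 IH) (Lpe (K38.f80171 IH) (Lpe (K38.f80168 IH) (Lpe (K31.f181752 IH) (Lpr_gt (K31.f174809 IH) (Lpr_dt (K40.f177895 IH) (Lpn (LP (LK LD1_c2 LD2_c13 LD3_c27))))))))))))
theorem f280533 : Led Lsl_gt (LP (LK LD1_c16 LD2_c52 LD3_c5)) = (LP (LK LD1_c9 LD2_c2 LD3_c2)) :=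
  Lre_g IH (LK LD1_c16 LD2_c52 LD3_c5) (LK LD1_c9 LD2_c2 LD3_c2) Lrfl Lrfl
theorem f897228 : Led Lsl_dt (LP (LK LD1_c11 LD2_c21 LD3_c8)) = (LP (LK LD1_c16 LD2_c52 LD3_c5)) :=
  Lgr Lrot171 (Lpr_gf (f897224 IH) (Lpr_ef (K50.f140651 IH) (Lpr_dt (K55.f59870 IH) (Lpr_gf (K52.f646798 IH) (Lpqs (K52.f706374 IH) (Lpe (K52.f150315 IH) (Lpr_et (K42.f499907 IH) (Lpr_gf (f549879 IH) (Lpe (K41.f494148 IH) (Lpe (K41.f566502 IH) (Lpe (f280533 IH) (Lpn (LP (LK LD1_c16 LD2_c52 LD3_c5))))))))))))))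
theorem f740889 : Led Lsl_et (LP (LK LD1_c11 LD2_c21 LD3_c8)) = (LP (LK LD1_c5 LD2_c45 LD3_c17)) :=
  Lre_e IH (LK LD1_c11 LD2_c21 LD3_c8) (LK LD1_c5 LD2_c45 LD3_c17) Lrfl Lrfl
def v15677 : LQ := Led Lsl_gf (LP (LK LD1_c5 LD2_c45 LD3_c17))
theorem f740890 : Led Lsl_gf (LP (LK LD1_c5 LD2_c45 LD3_c17)) = v15677 :=
  Lrfl
theorem f897234 : v15677 = (LP (LK LD1_c9 LD2_c3 LD3_c27)) :=
  (Llr Lrot141 (Lpe (f740890 IH) (Lpe (f740889 IH) (Lpr_dt (f897228 IH) (Lpr_gt (f280533 IH) (Lpr_df (K41.f566502 IH) (Lpr_et (K41.f494148 IH) (Lpe (f549879 IH) (Lpr_dt (K41.f117779 IH) (Lpr_gt (K41.f506337 IH) (Lpq (K41.f552530 IH) (Lpr_df (K42.f547425 IH) (Lpr_et (K51.f547407 IH) (Lpn (LP (LK LD1_c9 LD2_c3 LD3_c27)))))))))))))))).symm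
def v15678 : LQ := Led Lsl_at (LP (LK LD1_c5 LD2_c45 LD3_c17))
theorem f740895 : Led Lsl_at (LP (LK LD1_c5 LD2_c45 LD3_c17)) = v15678 :=
  Lrfl
theorem f740896 : Led Lsl_af (LP (LK LD1_c5 LD2_c45 LD3_c17)) = v15678 :=
  Lgr Lrot0 (Lpr_at (f740895 IH) (Lpn v15678))
theorem f897236 : Led Lsl_ft (LP (LK LD1_c16 LD2_c54 LD3_c24)) = v15678 :=
  Lgr Lrot2 (Lpr_gt (K51.f598104 IH) (Lpq (f897234 IH) (Lpe (f740890 IH) (Lpr_af (f740896 IH) (Lpn v15678)))))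
def v15679 : LQ := Led Lsl_ft (LP (LK LD1_c5 LD2_c45 LD3_c17))
theorem f740898 : Led Lsl_ft (LP (LK LD1_c5 LD2_c45 LD3_c17)) = v15679 :=
  Lrfl
theorem f897237 : Led Lsl_af (LP (LK LD1_c16 LD2_c54 LD3_c24)) = v15679 :=
  Lgr Lrot45 (Lpr_ft (f897236 IH) (Lpe (f740896 IH) (Lpr_ft (f740898 IH) (Lpn v15679))))
theorem f549255 : Led Lsl_bt (LP (LK LD1_c2 LD2_c47 LD3_c12)) = (LP (LK LD1_c4 LD2_c31 LD3_c55)) :=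
  Lgr Lrot35 (Lpr_ff (K39.f549253 IH) (Lpe (K36.f538917 IH) (Lpe (K36.f449270 IH) (Lpn (LP (LK LD1_c4 LD2_c31 LD3_c55))))))
theorem f547162 : Led Lsl_bf (LP (LK LD1_c2 LD2_c13 LD3_c34)) = (LP (LK LD1_c3 LD2_c0 LD3_c56)) :=
  Lgr Lrot93 (Lpr_dt (K38.f547160 IH) (Lpr_bt (K36.f60136 IH) (Lpr_dt (K10.f60128 IH) (Lpn (LP (LK LD1_c3 LD2_c0 LD3_c56))))))
theorem f547421 : Led Lsl_bf (LP (LK LD1_c2 LD2_c49 LD3_c11)) = (LP (LK LD1_c4 LD2_c33 LD3_c6)) :=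
  Lgr Lrot61 (Lpe (K16.f268487 IH) (Lpe (f547162 IH) (Lpr_ft (K38.f547419 IH) (Lpn (LP (LK LD1_c4 LD2_c33 LD3_c6))))))
theorem f383987 : Led Lsl_ct (LP (LK LD1_c4 LD2_c33 LD3_c6)) = (LP (LK LD1_c9 LD2_c3 LD3_c26)) :=
  Lre_c IH (LK LD1_c4 LD2_c33 LD3_c6) (LK LD1_c9 LD2_c3 LD3_c26) Lrfl Lrfl
theorem f383988 : Led Lsl_gt (LP (LK LD1_c9 LD2_c3 LD3_c26)) = (LP (LK LD1_c16 LD2_c54 LD3_c20)) :=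
  Lre_g IH (LK LD1_c9 LD2_c3 LD3_c26) (LK LD1_c16 LD2_c54 LD3_c20) Lrfl Lrfl
theorem f598047 : Led Lsl_cf (LP (LK LD1_c16 LD2_c54 LD3_c20)) = (LP (LK LD1_c16 LD2_c21 LD3_c40)) :=
  Lgr Lrot58 (Lpe (f383988 IH) (Lpe (f383987 IH) (Lpe (f547421 IH) (Lpr_gf (K24.f268506 IH) (Lpe (f549255 IH) (Lpr_ct (K31.f172845 IH) (Lpe (K56.f423906 IH) (Lpr_cf (K56.f598035 IH) (Lpe (K56.f598045 IH) (Lpr_bf (K39.f424131 IH) (Lpn (LP (LK LD1_c16 LD2_c21 LD3_c40)))))))))))))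
theorem f549324 : Led Lsl_cf (LP (LK LD1_c9 LD2_c45 LD3_c14)) = (LP (LK LD1_c9 LD2_c3 LD3_c41)) :=
  Lgr Lrot11 (Lpr_ct (K39.f549319 IH) (Lpn (LP (LK LD1_c9 LD2_c3 LD3_c41))))
theorem f598054 : Led Lsl_ft (LP (LK LD1_c16 LD2_c54 LD3_c20)) = (LP (LK LD1_c9 LD2_c3 LD3_c41)) :=
  Lgr Lrot4 (Lpr_cf (f598047 IH) (Lpe (K39.f424137 IH) (Lpr_cf (f549324 IH) (Lpn (LP (LK LD1_c9 LD2_c3 LD3_c41))))))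
theorem f549321 : Led Lsl_af (LP (LK LD1_c11 LD2_c7 LD3_c39)) = (LP (LK LD1_c9 LD2_c3 LD3_c41)) :=
  Lgr Lrot68 (Lpr_ct (K52.f172353 IH) (Lpr_at (K39.f424172 IH) (Lpr_ct (K39.f549319 IH) (Lpn (LP (LK LD1_c9 LD2_c3 LD3_c41))))))
theorem f424376 : Led Lsl_ff (LP (LK LD1_c9 LD2_c3 LD3_c40)) = (LP (LK LD1_c11 LD2_c7 LD3_c39)) :=
  Lgr Lrot3 (Lpr_ft (K52.f424373 IH) (Lpn (LP (LK LD1_c11 LD2_c7 LD3_c39))))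
theorem f598060 : Led Lsl_af (LP (LK LD1_c16 LD2_c54 LD3_c20)) = (LP (LK LD1_c9 LD2_c3 LD3_c40)) :=
  Lgr Lrot45 (Lpr_ft (f598054 IH) (Lpe (f549321 IH) (Lpe (f424376 IH) (Lpn (LP (LK LD1_c9 LD2_c3 LD3_c40))))))
theorem f598066 : Led Lsl_gf (LP (LK LD1_c9 LD2_c3 LD3_c26)) = (LP (LK LD1_c11 LD2_c7 LD3_c39)) :=
  Lgr Lrot47 (Lpr_gt (f383988 IH) (Lpr_af (f598060 IH) (Lpr_ff (f424376 IH) (Lpn (LP (LK LD1_c11 LD2_c7 LD3_c39))))))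
theorem f172347 : Led Lsl_ct (LP (LK LD1_c5 LD2_c38 LD3_c11)) = (LP (LK LD1_c11 LD2_c7 LD3_c39)) :=
  Lre_c IH (LK LD1_c5 LD2_c38 LD3_c11) (LK LD1_c11 LD2_c7 LD3_c39) Lrfl Lrfl
theorem f172348 : Led Lsl_ct (LP (LK LD1_c4 LD2_c33 LD3_c7)) = (LP (LK LD1_c9 LD2_c3 LD3_c29)) :=
  Lre_c IH (LK LD1_c4 LD2_c33 LD3_c7) (LK LD1_c9 LD2_c3 LD3_c29) Lrfl Lrfl
theorem f172349 : Led Lsl_gf (LP (LK LD1_c11 LD2_c7 LD3_c39)) = (LP (LK LD1_c9 LD2_c3 LD3_c29)) :=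
  Lgr Lrot129 (Lpe (f172347 IH) (Lpr_bt (K39.f172346 IH) (Lpr_gt (K31.f172345 IH) (Lpe (K30.f172334 IH) (Lpr_ct (K9.f172301 IH) (Lpr_gt (K9.f172300 IH) (Lpe (K9.f168298 IH) (Lpr_bt (K9.f172340 IH) (Lpr_gt (K9.f172341 IH) (Lpr_ct (f172348 IH) (Lpn (LP (LK LD1_c9 LD2_c3 LD3_c29)))))))))))))
theorem f547385 : Led Lsl_ff (LP (LK LD1_c4 LD2_c33 LD3_c11)) = (LP (LK LD1_c9 LD2_c3 LD3_c29)) :=
  Lgr Lrot23 (Lpr_ct (K38.f546387 IH) (Lpr_ft (K38.f547381 IH) (Lpr_ct (f172348 IH) (Lpn (LP (LK LD1_c9 LD2_c3 LD3_c29))))))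
theorem f598068 : Led Lsl_af (LP (LK LD1_c9 LD2_c3 LD3_c26)) = (LP (LK LD1_c4 LD2_c33 LD3_c11)) :=
  Lgr Lrot31 (Lpr_gf (f598066 IH) (Lpr_gf (f172349 IH) (Lpe (f547385 IH) (Lpn (LP (LK LD1_c4 LD2_c33 LD3_c11))))))
theorem f598077 : Led Lsl_et (LP (LK LD1_c9 LD2_c3 LD3_c26)) = (LP (LK LD1_c16 LD2_c54 LD3_c23)) :=
  Lre_e IH (LK LD1_c9 LD2_c3 LD3_c26) (LK LD1_c16 LD2_c54 LD3_c23) Lrfl Lrfl
theorem f598078 : Led Lsl_et (LP (LK LD1_c9 LD2_c3 LD3_c44)) = (LP (LK LD1_c4 LD2_c33 LD3_c11)) :=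
  Lre_e IH (LK LD1_c9 LD2_c3 LD3_c44) (LK LD1_c4 LD2_c33 LD3_c11) Lrfl Lrfl
theorem f598079 : Led Lsl_at (LP (LK LD1_c16 LD2_c54 LD3_c23)) = (LP (LK LD1_c9 LD2_c3 LD3_c44)) :=
  Lgr Lrot80 (Lpe (f598077 IH) (Lpr_af (f598068 IH) (Lpe (f598078 IH) (Lpn (LP (LK LD1_c9 LD2_c3 LD3_c44))))))
theorem f598083 : Led Lsl_ct (LP (LK LD1_c9 LD2_c3 LD3_c27)) = (LP (LK LD1_c16 LD2_c54 LD3_c23)) :=
  Lre_c IH (LK LD1_c9 LD2_c3 LD3_c27) (LK LD1_c16 LD2_c54 LD3_c23) Lrfl Lrfl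
theorem f598084 : Led Lsl_ct (LP (LK LD1_c9 LD2_c3 LD3_c44)) = (LP (LK LD1_c4 LD2_c33 LD3_c12)) :=
  Lre_c IH (LK LD1_c9 LD2_c3 LD3_c44) (LK LD1_c4 LD2_c33 LD3_c12) Lrfl Lrfl
theorem f598085 : Led Lsl_af (LP (LK LD1_c9 LD2_c3 LD3_c27)) = (LP (LK LD1_c4 LD2_c33 LD3_c12)) :=
  Lgr Lrot68 (Lpr_ct (f598083 IH) (Lpr_at (f598079 IH) (Lpr_ct (f598084 IH) (Lpn (LP (LK LD1_c4 LD2_c33 LD3_c12))))))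
theorem f547389 : Led Lsl_ft (LP (LK LD1_c9 LD2_c3 LD3_c47)) = (LP (LK LD1_c4 LD2_c33 LD3_c12)) :=
  Lre_f IH (LK LD1_c9 LD2_c3 LD3_c47) (LK LD1_c4 LD2_c33 LD3_c12) Lrfl Lrfl
theorem f598105 : Led Lsl_gf (LP (LK LD1_c16 LD2_c54 LD3_c24)) = (LP (LK LD1_c9 LD2_c3 LD3_c47)) :=
  Lgr Lrot47 (Lpr_gt (K51.f598104 IH) (Lpr_af (f598085 IH) (Lpe (f547389 IH) (Lpn (LP (LK LD1_c9 LD2_c3 LD3_c47))))))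
theorem f897242 : (LP (LK LD1_c9 LD2_c3 LD3_c47)) = v15676 :=
  (Llr Lrot76 (Lpe (f598105 IH) (Lpr_af (f897237 IH) (Lpe (f740898 IH) (Lpr_gt (f740886 IH) (Lpn v15676)))))).symm
theorem f897243 : Led Lsl_gt (LP (LK LD1_c5 LD2_c45 LD3_c17)) = (LP (LK LD1_c9 LD2_c3 LD3_c47)) :=
  Leop (Lpqs (f897242 IH) (Lpe (f740886 IH) (Lpn (LP (LK LD1_c5 LD2_c45 LD3_c17)))))
theorem seed_2186 : LEOK LG_g (LK LD1_c5 LD2_c45 LD3_c17) :=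
  Leoe_g (LK LD1_c5 LD2_c45 LD3_c17) (f897243 IH)
def v12814 : LQ := Led Lsl_ct (LP (LK LD1_c4 LD2_c31 LD3_c51))
theorem f698356 : Led Lsl_ct (LP (LK LD1_c4 LD2_c31 LD3_c51)) = v12814 :=
  Lrfl
def v24481 : LQ := Led Lsl_gf K54.v4760
theorem f823784 : Led Lsl_gf K54.v4760 = v24481 :=
  Lrfl
def v4764 : LQ := Led Lsl_ft (LP (LK LD1_c2 LD2_c46 LD3_c18))
theorem f638873 : Led Lsl_ft (LP (LK LD1_c2 LD2_c46 LD3_c18)) = v4764 :=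
  Lrfl
theorem f638875 : Led Lsl_ff (LP (LK LD1_c2 LD2_c46 LD3_c18)) = v4764 :=
  Lgr Lrot3 (Lpr_ft (f638873 IH) (Lpn v4764))
theorem f823785 : Led Lsl_gt v4764 = v24481 :=
  Lgr Lrot5 (Lpe (f638875 IH) (Lpr_at (K54.f638860 IH) (Lpr_gf (f823784 IH) (Lpn v24481))))
theorem f638874 : Led Lsl_af (LP (LK LD1_c2 LD2_c46 LD3_c19)) = v4764 :=
  Lgr Lrot45 (Lpr_ft (K54.f638862 IH) (Lpe (K54.f638861 IH) (Lpr_ft (f638873 IH) (Lpn v4764))))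
theorem f737778 : Led Lsl_ef v4764 = K64.v15499 :=
  Lgr Lrot20 (Lpe (f638874 IH) (Lpr_et (K54.f413511 IH) (Lpr_at (K64.f737776 IH) (Lpn K64.v15499))))
theorem f823807 : v4764 = (LP (LK LD1_c4 LD2_c31 LD3_c52)) :=
  Lefun (Lecon (Lfl_ef (f737778 IH)) (K64.f823804 IH).symm) (K60.f168839 IH)
theorem f823808 : v24481 = (LP (LK LD1_c2 LD2_c12 LD3_c57)) :=
  Lefun (Lecon (f823785 IH) (f823807 IH)) (K57.f168838 IH)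
theorem f823821 : K54.v4760 = (LP (LK LD1_c4 LD2_c31 LD3_c51)) :=
  Lefun (Lecon (Lfl_gf (f823784 IH)) (f823808 IH)) (f168860 IH)
theorem f823831 : v24482 = v12814 :=
  Lefun (Lecon (f823786 IH) (f823821 IH)) (f698356 IH)
def v4678 : LQ := Led Lsl_gt (LP (LK LD1_c2 LD2_c42 LD3_c32))
def v24322 : LQ := Led Lsl_ft v4678
theorem f823334 : Led Lsl_ft v4678 = v24322 :=
  Lrfl
theorem f823336 : Led Lsl_ff v4678 = v24322 :=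
  Lgr Lrot3 (Lpr_ft (f823334 IH) (Lpn v24322))
def v12817 : LQ := Led Lsl_ct (LP (LK LD1_c4 LD2_c31 LD3_c52))
theorem f698367 : Led Lsl_ct (LP (LK LD1_c4 LD2_c31 LD3_c52)) = v12817 :=
  Lrfl
theorem f698368 : Led Lsl_cf (LP (LK LD1_c4 LD2_c31 LD3_c52)) = v12817 :=
  Lgr Lrot11 (Lpr_ct (f698367 IH) (Lpn v12817))
theorem f823928 : Led Lsl_ff v12817 = v4762 :=
  Lgr Lrot23 (Lpe (f698368 IH) (Lpq (f823807 IH) (Lpe (f638875 IH) (Lpr_ct (f638867 IH) (Lpn v4762)))))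
theorem f823929 : Led Lsl_at v12817 = v4765 :=
  Lgr Lrot66 (Lpr_ff (f823928 IH) (Lpr_af (f823787 IH) (Lpe (f823790 IH) (Lpn v4765))))
def v24317 : LQ := Led Lsl_at v4678
theorem f823322 : Led Lsl_at v4678 = v24317 :=
  Lrfl
theorem f823323 : Led Lsl_af v4678 = v24317 :=
  Lgr Lrot0 (Lpr_at (f823322 IH) (Lpn v24317))
theorem f638457 : Led Lsl_gt (LP (LK LD1_c2 LD2_c42 LD3_c32)) = v4678 :=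
  Lrfl
def v4679 : LQ := Led Lsl_gf (LP (LK LD1_c2 LD2_c42 LD3_c32))
theorem f638458 : Led Lsl_gf (LP (LK LD1_c2 LD2_c42 LD3_c32)) = v4679 :=
  Lrfl
theorem f823324 : Led Lsl_ft v4679 = v24317 :=
  Lgr Lrot2 (Lpe (f638458 IH) (Lpr_gt (f638457 IH) (Lpr_af (f823323 IH) (Lpn v24317))))
theorem f823325 : Led Lsl_ff v4679 = v24317 :=
  Lgr Lrot3 (Lpr_ft (f823324 IH) (Lpn v24317))
theorem f823337 : Led Lsl_at v4679 = v24322 :=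
  Lgr Lrot66 (Lpr_ff (f823325 IH) (Lpe (f823322 IH) (Lpr_ff (f823336 IH) (Lpn v24322))))
def v24324 : LQ := Led Lsl_ct v4679
theorem f823340 : Led Lsl_ct v4679 = v24324 :=
  Lrfl
theorem f823341 : Led Lsl_cf v4679 = v24324 :=
  Lgr Lrot11 (Lpr_ct (f823340 IH) (Lpn v24324))
def v37884 : LQ := Led Lsl_ct (LP (LK LD1_c9 LD2_c1 LD3_c36))
theorem f897273 : Led Lsl_ct (LP (LK LD1_c9 LD2_c1 LD3_c36)) = v37884 :=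
  Lrfl
def v15494 : LQ := Led Lsl_ft (LP (LK LD1_c5 LD2_c40 LD3_c46))
theorem f737759 : Led Lsl_ft (LP (LK LD1_c5 LD2_c40 LD3_c46)) = v15494 :=
  Lrfl
theorem f737762 : Led Lsl_ff (LP (LK LD1_c5 LD2_c40 LD3_c46)) = v15494 :=
  Lgr Lrot3 (Lpr_ft (f737759 IH) (Lpn v15494))
theorem f380664 : Led Lsl_dt (LP (LK LD1_c5 LD2_c40 LD3_c46)) = (LP (LK LD1_c2 LD2_c46 LD3_c18)) :=
  Lre_d IH (LK LD1_c5 LD2_c40 LD3_c46) (LK LD1_c2 LD2_c46 LD3_c18) Lrfl Lrfl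
theorem f737764 : Led Lsl_dt v4764 = v15494 :=
  Lgr Lrot60 (Lpe (f638873 IH) (Lpe (f380664 IH) (Lpr_ff (f737762 IH) (Lpn v15494))))
theorem f823813 : v15494 = (LP (LK LD1_c9 LD2_c1 LD3_c36)) :=
  Lefun (Lecon (f737764 IH) (f823807 IH)) (K57.f380649 IH)
def v15492 : LQ := Led Lsl_ct (LP (LK LD1_c5 LD2_c40 LD3_c46))
theorem f737754 : Led Lsl_ct (LP (LK LD1_c5 LD2_c40 LD3_c46)) = v15492 :=
  Lrfl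
theorem f737755 : Led Lsl_cf (LP (LK LD1_c5 LD2_c40 LD3_c46)) = v15492 :=
  Lgr Lrot11 (Lpr_ct (f737754 IH) (Lpn v15492))
theorem f897276 : Led Lsl_ff v15492 = v37884 :=
  Lgr Lrot23 (Lpe (f737755 IH) (Lpr_ft (f737759 IH) (Lpqs (f823813 IH) (Lpr_ct (f897273 IH) (Lpn v37884)))))
theorem f897221 : Led Lsl_cf (LP (LK LD1_c9 LD2_c1 LD3_c34)) = v37878 :=
  Lgr Lrot11 (Lpr_ct (f897219 IH) (Lpn v37878))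
theorem f737743 : Led Lsl_dt K54.v4760 = K54.v15490 :=
  Lgr Lrot42 (Lpr_df (K54.f737742 IH) (Lpn K54.v15490))
theorem f823832 : K54.v15490 = (LP (LK LD1_c9 LD2_c1 LD3_c34)) :=
  Lefun (Lecon (f737743 IH) (f823821 IH)) (f168875 IH)
theorem f897252 : Led Lsl_at v15492 = v37878 :=
  Lgr Lrot107 (Lpe (f737754 IH) (Lpr_af (K54.f737741 IH) (Lpqs (f823832 IH) (Lpr_cf (f897221 IH) (Lpn v37878)))))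
def v15498 : LQ := Led Lsl_ct (LP (LK LD1_c5 LD2_c40 LD3_c48))
theorem f737774 : Led Lsl_ct (LP (LK LD1_c5 LD2_c40 LD3_c48)) = v15498 :=
  Lrfl
theorem f737775 : Led Lsl_cf (LP (LK LD1_c5 LD2_c40 LD3_c48)) = v15498 :=
  Lgr Lrot11 (Lpr_ct (f737774 IH) (Lpn v15498))
theorem f897222 : Led Lsl_ff v15498 = v37878 :=
  Lgr Lrot23 (Lpe (f737775 IH) (Lpr_ft (K54.f737744 IH) (Lpqs (f823832 IH) (Lpr_ct (f897219 IH) (Lpn v37878)))))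
theorem f897277 : Led Lsl_at v15498 = v37884 :=
  Lgr Lrot66 (Lpr_ff (f897222 IH) (Lpe (f897252 IH) (Lpr_ff (f897276 IH) (Lpn v37884))))
theorem f897279 : Led Lsl_gt v15766 = v37884 :=
  Lgr Lrot46 (Lpr_gf (f897223 IH) (Lpe (f897222 IH) (Lpr_at (f897277 IH) (Lpn v37884))))
theorem f68850 : Led Lsl_dt (LP (LK LD1_c5 LD2_c42 LD3_c13)) = (LP (LK LD1_c2 LD2_c47 LD3_c4)) :=
  Lre_d IH (LK LD1_c5 LD2_c42 LD3_c13) (LK LD1_c2 LD2_c47 LD3_c4) Lrfl Lrfl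
def v12829 : LQ := Led Lsl_ct (LP (LK LD1_c4 LD2_c32 LD3_c20))
theorem f698433 : Led Lsl_ct (LP (LK LD1_c4 LD2_c32 LD3_c20)) = v12829 :=
  Lrfl
theorem f268899 : Led Lsl_ft (LP (LK LD1_c2 LD2_c13 LD3_c12)) = (LP (LK LD1_c4 LD2_c32 LD3_c20)) :=
  Lre_f IH (LK LD1_c2 LD2_c13 LD3_c12) (LK LD1_c4 LD2_c32 LD3_c20) Lrfl Lrfl
theorem f698437 : Led Lsl_ff v4160 = v12829 :=
  Lgr Lrot23 (Lpe (f631536 IH) (Lpr_ft (f268899 IH) (Lpr_ct (f698433 IH) (Lpn v12829))))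
theorem f268910 : Led Lsl_at (LP (LK LD1_c1 LD2_c17 LD3_c49)) = (LP (LK LD1_c2 LD2_c11 LD3_c61)) :=
  Lgr Lrot107 (Lpr_cf (K9.f174110 IH) (Lpr_af (K16.f268902 IH) (Lpe (K12.f174445 IH) (Lpn (LP (LK LD1_c2 LD2_c11 LD3_c61))))))
theorem f174301 : Led Lsl_et (LP (LK LD1_c2 LD2_c42 LD3_c32)) = (LP (LK LD1_c1 LD2_c17 LD3_c49)) :=
  Lre_e IH (LK LD1_c2 LD2_c42 LD3_c32) (LK LD1_c1 LD2_c17 LD3_c49) Lrfl Lrfl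
theorem f631535 : Led Lsl_af (LP (LK LD1_c2 LD2_c42 LD3_c32)) = v4160 :=
  Lgr Lrot50 (Lpr_et (f174301 IH) (Lpr_at (f268910 IH) (Lpr_et (f631534 IH) (Lpn v4160))))
theorem f698441 : Led Lsl_gf v4679 = v12829 :=
  Lgr Lrot47 (Lpe (f638458 IH) (Lpr_af (f631535 IH) (Lpr_ff (f698437 IH) (Lpn v12829))))
theorem f897275 : Led Lsl_cf (LP (LK LD1_c9 LD2_c1 LD3_c36)) = v37884 :=
  Lgr Lrot11 (Lpr_ct (f897273 IH) (Lpn v37884))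
theorem f897280 : v24324 = (LP (LK LD1_c4 LD2_c31 LD3_c52)) :=
  (Llr Lrot110 (Lpe (f823340 IH) (Lpr_gf (f698441 IH) (Lpe (f698433 IH) (Lpe (K55.f281893 IH) (Lpe (f68850 IH) (Lpr_gt (K50.f140683 IH) (Lpr_ct (f741442 IH) (Lpr_gt (f897279 IH) (Lpe (f897275 IH) (Lpe (K57.f380649 IH) (Lpn (LP (LK LD1_c4 LD2_c31 LD3_c52)))))))))))))).symm
theorem f897281 : v4679 = v12817 :=
  Lefun (Lecon (Lfl_cf (f823341 IH)) (f897280 IH)) (f698367 IH)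
theorem f897282 : v4765 = v24322 :=
  Lefun (Lecon (f823929 IH) (f897281 IH).symm) (f823337 IH)
theorem f897284 : v4678 = v24482 :=
  Lefun (Lecon (Lfl_ff (f823336 IH)) (f897282 IH).symm) (f823790 IH)
def v4681 : LQ := Led Lsl_ft (LP (LK LD1_c2 LD2_c42 LD3_c32))
theorem f638463 : Led Lsl_ft (LP (LK LD1_c2 LD2_c42 LD3_c32)) = v4681 :=
  Lrfl
theorem f698438 : Led Lsl_at v4681 = v12829 :=
  Lgr Lrot66 (Lpe (f638463 IH) (Lpr_af (f631535 IH) (Lpr_ff (f698437 IH) (Lpn v12829))))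
theorem f698442 : Led Lsl_gt v4678 = v12829 :=
  Lgr Lrot46 (Lpe (f638457 IH) (Lpr_ft (f638463 IH) (Lpr_at (f698438 IH) (Lpn v12829))))
theorem f280346 : Led Lsl_gt (LP (LK LD1_c9 LD2_c2 LD3_c12)) = (LP (LK LD1_c16 LD2_c52 LD3_c5)) :=
  Lre_g IH (LK LD1_c9 LD2_c2 LD3_c12) (LK LD1_c16 LD2_c52 LD3_c5) Lrfl Lrfl
theorem f897232 : Led Lsl_df (LP (LK LD1_c11 LD2_c21 LD3_c8)) = (LP (LK LD1_c16 LD2_c52 LD3_c5)) :=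
  Lgr Lrot38 (Lpr_dt (f897228 IH) (Lpn (LP (LK LD1_c16 LD2_c52 LD3_c5))))
theorem f242675 : Led Lsl_bt (LP (LK LD1_c11 LD2_c21 LD3_c8)) = (LP (LK LD1_c5 LD2_c45 LD3_c19)) :=
  Lre_b IH (LK LD1_c11 LD2_c21 LD3_c8) (LK LD1_c5 LD2_c45 LD3_c19) Lrfl Lrfl
theorem f897249 : Led Lsl_bt (LP (LK LD1_c9 LD2_c2 LD3_c20)) = (LP (LK LD1_c16 LD2_c52 LD3_c5)) :=
  Lgr Lrot95 (Lpr_df (K55.f242673 IH) (Lpe (f242675 IH) (Lpr_df (f897232 IH) (Lpn (LP (LK LD1_c16 LD2_c52 LD3_c5))))))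
def v37867 : LQ := Led Lsl_gf (LP (LK LD1_c9 LD2_c1 LD3_c29))
theorem f897061 : Led Lsl_gf (LP (LK LD1_c9 LD2_c1 LD3_c29)) = v37867 :=
  Lrfl
theorem f897323 : Led Lsl_ct (LP (LK LD1_c9 LD2_c2 LD3_c20)) = v37867 :=
  Lgr Lrot64 (Lpr_bt (f897249 IH) (Lpe (f280346 IH) (Lpe (K16.f280318 IH) (Lpr_ct (f698433 IH) (Lpe (f698442 IH) (Lpqs (f897284 IH) (Lpqs (f823831 IH) (Lpe (f698356 IH) (Lpe (f168860 IH) (Lpe (K50.f380653 IH) (Lpr_ct (K52.f390235 IH) (Lpr_gf (f897061 IH) (Lpn v37867)))))))))))))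
theorem f68765 : Led Lsl_dt (LP (LK LD1_c5 LD2_c42 LD3_c20)) = (LP (LK LD1_c2 LD2_c47 LD3_c7)) :=
  Lre_d IH (LK LD1_c5 LD2_c42 LD3_c20) (LK LD1_c2 LD2_c47 LD3_c7) Lrfl Lrfl
def v12827 : LQ := Led Lsl_ct (LP (LK LD1_c4 LD2_c32 LD3_c18))
theorem f698420 : Led Lsl_ct (LP (LK LD1_c4 LD2_c32 LD3_c18)) = v12827 :=
  Lrfl
def v12748 : LQ := Led Lsl_gf (LP (LK LD1_c4 LD2_c30 LD3_c18))
theorem f697964 : Led Lsl_gf (LP (LK LD1_c4 LD2_c30 LD3_c18)) = v12748 :=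
  Lrfl
theorem f897325 : v12827 = v12748 :=
  (Llr Lrot152 (Lpe (f698420 IH) (Lpe (K55.f412025 IH) (Lpe (f68765 IH) (Lpr_gt (K55.f281890 IH) (Lpr_ct (f897323 IH) (Lpe (f897061 IH) (Lpr_ct (K64.f390219 IH) (Lpr_df (f613392 IH) (Lpr_cf (K64.f390227 IH) (Lpr_gf (f697964 IH) (Lpn v12748)))))))))))).symm
def v24361 : LQ := Led Lsl_ft K64.v4696
theorem f823437 : Led Lsl_ft K64.v4696 = v24361 :=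
  Lrfl
theorem f823440 : Led Lsl_ff K64.v4696 = v24361 :=
  Lgr Lrot3 (Lpr_ft (f823437 IH) (Lpn v24361))
def v4773 : LQ := Led Lsl_ft (LP (LK LD1_c2 LD2_c47 LD3_c4))
theorem f638916 : Led Lsl_ft (LP (LK LD1_c2 LD2_c47 LD3_c4)) = v4773 :=
  Lrfl
theorem f823442 : Led Lsl_ct v4773 = v24361 :=
  Lgr Lrot40 (Lpe (f638916 IH) (Lpr_cf (K64.f638911 IH) (Lpqs (K64.f823420 IH) (Lpr_ff (f823440 IH) (Lpn v24361)))))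
theorem f638917 : Led Lsl_af (LP (LK LD1_c2 LD2_c47 LD3_c5)) = v4773 :=
  Lgr Lrot45 (Lpr_ft (K64.f638907 IH) (Lpe (K64.f638905 IH) (Lpr_ft (f638916 IH) (Lpn v4773))))
theorem f738088 : Led Lsl_ef v4773 = K64.v15570 :=
  Lgr Lrot20 (Lpe (f638917 IH) (Lpr_et (K50.f68689 IH) (Lpr_at (K64.f738085 IH) (Lpn K64.v15570))))
theorem f824031 : v4773 = (LP (LK LD1_c4 LD2_c32 LD3_c18)) :=
  Lefun (Lecon (Lfl_ef (f738088 IH)) (K64.f824027 IH).symm) (K55.f26994 IH)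
theorem f824044 : v24361 = v12827 :=
  Lefun (Lecon (f823442 IH) (f824031 IH)) (f698420 IH)
def v12747 : LQ := Led Lsl_gt (LP (LK LD1_c4 LD2_c30 LD3_c18))
theorem f697963 : Led Lsl_gt (LP (LK LD1_c4 LD2_c30 LD3_c18)) = v12747 :=
  Lrfl
theorem f897326 : K64.v24357 = v12747 :=
  (Llr Lrot26 (Lpe (K64.f823414 IH) (Lpr_ff (f823440 IH) (Lpqs (f824044 IH) (Lpqs (f897325 IH) (Lpe (f697964 IH) (Lpr_gt (f697963 IH) (Lpn v12747)))))))).symm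
def v12824 : LQ := Led Lsl_ct (LP (LK LD1_c4 LD2_c32 LD3_c17))
theorem f698409 : Led Lsl_ct (LP (LK LD1_c4 LD2_c32 LD3_c17)) = v12824 :=
  Lrfl
def v24502 : LQ := Led Lsl_gf K64.v4770
theorem f824014 : Led Lsl_gf K64.v4770 = v24502 :=
  Lrfl
theorem f175935 : Led Lsl_gt (LP (LK LD1_c2 LD2_c13 LD3_c12)) = (LP (LK LD1_c4 LD2_c32 LD3_c17)) :=
  Lre_g IH (LK LD1_c2 LD2_c13 LD3_c12) (LK LD1_c4 LD2_c32 LD3_c17) Lrfl Lrfl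
theorem f638918 : Led Lsl_ff (LP (LK LD1_c2 LD2_c47 LD3_c4)) = v4773 :=
  Lgr Lrot3 (Lpr_ft (f638916 IH) (Lpn v4773))
theorem f824015 : Led Lsl_gt v4773 = v24502 :=
  Lgr Lrot5 (Lpe (f638918 IH) (Lpr_at (K64.f638904 IH) (Lpr_gf (f824014 IH) (Lpn v24502))))
theorem f824032 : v24502 = (LP (LK LD1_c2 LD2_c13 LD3_c12)) :=
  Lefun (Lecon (f824015 IH) (f824031 IH)) (K55.f26969 IH)
theorem f824053 : K64.v4770 = (LP (LK LD1_c4 LD2_c32 LD3_c17)) :=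
  Lefun (Lecon (Lfl_gf (f824014 IH)) (f824032 IH)) (f175935 IH)
theorem f824063 : K64.v24357 = v12824 :=
  Lefun (Lecon (K64.f823419 IH) (f824053 IH)) (f698409 IH)
theorem f615836 : Led Lsl_ct (LP (LK LD1_c4 LD2_c32 LD3_c15)) = (LP (LK LD1_c9 LD2_c2 LD3_c8)) :=
  Lre_c IH (LK LD1_c4 LD2_c32 LD3_c15) (LK LD1_c9 LD2_c2 LD3_c8) Lrfl Lrfl
theorem f398621 : Led Lsl_gt (LP (LK LD1_c16 LD2_c52 LD3_c19)) = (LP (LK LD1_c9 LD2_c2 LD3_c8)) :=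
  Lre_g IH (LK LD1_c16 LD2_c52 LD3_c19) (LK LD1_c9 LD2_c2 LD3_c8) Lrfl Lrfl
theorem f390233 : Led Lsl_at (LP (LK LD1_c2 LD2_c42 LD3_c57)) = (LP (LK LD1_c4 LD2_c30 LD3_c18)) :=
  Lgr Lrot107 (Lpe (f380510 IH) (Lpr_af (K50.f380643 IH) (Lpr_cf (K64.f390227 IH) (Lpn (LP (LK LD1_c4 LD2_c30 LD3_c18))))))
theorem f638528 : Led Lsl_ff (LP (LK LD1_c2 LD2_c42 LD3_c57)) = K64.v4699 :=
  Lgr Lrot3 (Lpr_ft (K64.f638525 IH) (Lpn K64.v4699))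
theorem f697973 : Led Lsl_af K64.v4699 = K64.v12750 :=
  Lgr Lrot45 (Lpe (f638528 IH) (Lpr_at (f390233 IH) (Lpr_ft (K64.f697972 IH) (Lpn K64.v12750))))
theorem f697977 : Led Lsl_gt v12747 = K64.v4699 :=
  Lgr Lrot46 (Lpe (f697963 IH) (Lpr_ft (K64.f697972 IH) (Lpe (f697973 IH) (Lpn K64.v4699))))
theorem f380141 : Led Lsl_ft (LP (LK LD1_c1 LD2_c19 LD3_c31)) = (LP (LK LD1_c2 LD2_c46 LD3_c21)) :=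
  Lre_f IH (LK LD1_c1 LD2_c19 LD3_c31) (LK LD1_c2 LD2_c46 LD3_c21) Lrfl Lrfl
theorem f638529 : Led Lsl_ct (LP (LK LD1_c2 LD2_c46 LD3_c21)) = K64.v4699 :=
  Lgr Lrot40 (Lpe (f380141 IH) (Lpr_cf (K54.f380489 IH) (Lpr_ff (f638528 IH) (Lpn K64.v4699))))
theorem f613313 : Led Lsl_bt (LP (LK LD1_c20 LD2_c5 LD3_c57)) = (LP (LK LD1_c11 LD2_c11 LD3_c23)) :=
  Lre_b IH (LK LD1_c20 LD2_c5 LD3_c57) (LK LD1_c11 LD2_c11 LD3_c23) Lrfl Lrfl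
theorem f897328 : Led Lsl_cf (LP (LK LD1_c16 LD2_c52 LD3_c19)) = (LP (LK LD1_c20 LD2_c5 LD3_c57)) :=
  Lgr Lrot160 (Lpr_gt (f398621 IH) (Lpe (f615836 IH) (Lpr_bt (K54.f281817 IH) (Lpr_gt (f175935 IH) (Lpr_ct (f698409 IH) (Lpq (f824063 IH) (Lpqs (f897326 IH) (Lpr_gt (f697977 IH) (Lpe (f638529 IH) (Lpr_bt (f380127 IH) (Lpr_gt (K55.f380151 IH) (Lpe (f613313 IH) (Lpn (LP (LK LD1_c20 LD2_c5 LD3_c57)))))))))))))))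
theorem f897329 : Led Lsl_ct (LP (LK LD1_c20 LD2_c5 LD3_c57)) = (LP (LK LD1_c16 LD2_c52 LD3_c19)) :=
  Leop (Lpr_cf (f897328 IH) (Lpn (LP (LK LD1_c20 LD2_c5 LD3_c57))))
theorem seed_2187 : LEOK LG_c (LK LD1_c20 LD2_c5 LD3_c57) :=
  Leoe_c (LK LD1_c20 LD2_c5 LD3_c57) (f897329 IH)
theorem f380647 : Led Lsl_gt (LP (LK LD1_c2 LD2_c46 LD3_c21)) = (LP (LK LD1_c4 LD2_c31 LD3_c52)) :=
  Lgr Lrot5 (Lpr_ft (K30.f380122 IH) (Lpr_at (K50.f380636 IH) (Lpe (K57.f168838 IH) (Lpn (LP (LK LD1_c4 LD2_c31 LD3_c52))))))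
theorem f380130 : Led Lsl_dt (LP (LK LD1_c2 LD2_c46 LD3_c21)) = (LP (LK LD1_c5 LD2_c40 LD3_c53)) :=
  Lre_d IH (LK LD1_c2 LD2_c46 LD3_c21) (LK LD1_c5 LD2_c40 LD3_c53) Lrfl Lrfl
theorem f613357 : Led Lsl_gf (LP (LK LD1_c9 LD2_c1 LD3_c31)) = (LP (LK LD1_c5 LD2_c40 LD3_c53)) :=
  Lgr Lrot47 (Lpr_gt (f390231 IH) (Lpr_af (K50.f613346 IH) (Lpe (K50.f613303 IH) (Lpn (LP (LK LD1_c5 LD2_c40 LD3_c53))))))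
def v37871 : LQ := Led Lsl_ct (LP (LK LD1_c9 LD2_c1 LD3_c31))
theorem f897179 : Led Lsl_ct (LP (LK LD1_c9 LD2_c1 LD3_c31)) = v37871 :=
  Lrfl
theorem f140686 : Led Lsl_ct (LP (LK LD1_c5 LD2_c42 LD3_c19)) = (LP (LK LD1_c2 LD2_c47 LD3_c6)) :=
  Lre_c IH (LK LD1_c5 LD2_c42 LD3_c19) (LK LD1_c2 LD2_c47 LD3_c6) Lrfl Lrfl
theorem f174290 : Led Lsl_gt (LP (LK LD1_c11 LD2_c14 LD3_c52)) = (LP (LK LD1_c5 LD2_c42 LD3_c19)) :=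
  Lre_g IH (LK LD1_c11 LD2_c14 LD3_c52) (LK LD1_c5 LD2_c42 LD3_c19) Lrfl Lrfl
theorem f897353 : v37871 = (LP (LK LD1_c11 LD2_c14 LD3_c52)) :=
  (Llr Lrot152 (Lpe (f897179 IH) (Lpr_gf (f613357 IH) (Lpe (f380130 IH) (Lpr_gt (f380647 IH) (Lpq (f897280 IH) (Lpe (f823341 IH) (Lpe (f638458 IH) (Lpr_ct (K20.f174124 IH) (Lpe (K50.f68617 IH) (Lpe (f140686 IH) (Lpe (f174290 IH) (Lpn (LP (LK LD1_c11 LD2_c14 LD3_c52))))))))))))))).symm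
theorem f737793 : Led Lsl_at (LP (LK LD1_c5 LD2_c40 LD3_c51)) = v15503 :=
  Lgr Lrot66 (Lpr_ff (f737789 IH) (Lpe (f737786 IH) (Lpr_ff (f737792 IH) (Lpn v15503))))
theorem f289462 : Led Lsl_ct (LP (LK LD1_c11 LD2_c12 LD3_c16)) = (LP (LK LD1_c5 LD2_c40 LD3_c51)) :=
  Lre_c IH (LK LD1_c11 LD2_c12 LD3_c16) (LK LD1_c5 LD2_c40 LD3_c51) Lrfl Lrfl
theorem f897180 : Led Lsl_af (LP (LK LD1_c11 LD2_c12 LD3_c16)) = v37871 :=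
  Lgr Lrot68 (Lpr_ct (f289462 IH) (Lpr_at (f737793 IH) (Lpqs (f896718 IH) (Lpr_ct (f897179 IH) (Lpn v37871)))))
theorem f897354 : Led Lsl_at (LP (LK LD1_c11 LD2_c14 LD3_c52)) = (LP (LK LD1_c11 LD2_c12 LD3_c16)) :=
  Leop (Lpr_af (f897180 IH) (Lpqs (f897353 IH) (Lpn (LP (LK LD1_c11 LD2_c14 LD3_c52)))))
theorem seed_2188 : LEOK LG_a (LK LD1_c11 LD2_c14 LD3_c52) :=
  Leoe_a (LK LD1_c11 LD2_c14 LD3_c52) (f897354 IH)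
def v37901 : LQ := Led Lsl_at (LP (LK LD1_c9 LD2_c1 LD3_c53))
theorem f897485 : Led Lsl_at (LP (LK LD1_c9 LD2_c1 LD3_c53)) = v37901 :=
  Lrfl
theorem f505637 : Led Lsl_ff (LP (LK LD1_c2 LD2_c46 LD3_c36)) = (LP (LK LD1_c4 LD2_c32 LD3_c4)) :=
  Lgr Lrot3 (Lpr_ft (K55.f505633 IH) (Lpn (LP (LK LD1_c4 LD2_c32 LD3_c4))))
theorem f505628 : Led Lsl_bt (LP (LK LD1_c2 LD2_c46 LD3_c36)) = (LP (LK LD1_c5 LD2_c41 LD3_c7)) :=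
  Lre_b IH (LK LD1_c2 LD2_c46 LD3_c36) (LK LD1_c5 LD2_c41 LD3_c7) Lrfl Lrfl
theorem f380027 : Led Lsl_bt (LP (LK LD1_c9 LD2_c1 LD3_c53)) = (LP (LK LD1_c4 LD2_c32 LD3_c4)) :=
  Lre_b IH (LK LD1_c9 LD2_c1 LD3_c53) (LK LD1_c4 LD2_c32 LD3_c4) Lrfl Lrfl
theorem f505639 : Led Lsl_ft (LP (LK LD1_c5 LD2_c41 LD3_c7)) = (LP (LK LD1_c9 LD2_c1 LD3_c53)) :=
  Lgr Lrot75 (Lpe (f505628 IH) (Lpr_ff (f505637 IH) (Lpe (f380027 IH) (Lpn (LP (LK LD1_c9 LD2_c1 LD3_c53))))))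
theorem f505641 : Led Lsl_at (LP (LK LD1_c11 LD2_c12 LD3_c44)) = (LP (LK LD1_c5 LD2_c41 LD3_c7)) :=
  Lre_a IH (LK LD1_c11 LD2_c12 LD3_c44) (LK LD1_c5 LD2_c41 LD3_c7) Lrfl Lrfl
theorem f897488 : Led Lsl_ff (LP (LK LD1_c11 LD2_c12 LD3_c44)) = v37901 :=
  Lgr Lrot30 (Lpr_at (f505641 IH) (Lpr_ft (f505639 IH) (Lpr_at (f897485 IH) (Lpn v37901))))
theorem f897491 : Led Lsl_ft (LP (LK LD1_c11 LD2_c12 LD3_c44)) = v37901 :=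
  Lgr Lrot48 (Lpr_ff (f897488 IH) (Lpn v37901))
theorem f897486 : Led Lsl_af (LP (LK LD1_c9 LD2_c1 LD3_c53)) = v37901 :=
  Lgr Lrot0 (Lpr_at (f897485 IH) (Lpn v37901))
theorem f711206 : Led Lsl_ft (LP (LK LD1_c9 LD2_c50 LD3_c59)) = (LP (LK LD1_c15 LD2_c5 LD3_c28)) :=
  Lgr Lrot48 (Lpr_ff (K52.f711200 IH) (Lpn (LP (LK LD1_c15 LD2_c5 LD3_c28))))
theorem f711210 : Led Lsl_df (LP (LK LD1_c12 LD2_c30 LD3_c10)) = (LP (LK LD1_c15 LD2_c5 LD3_c28)) :=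
  Lgr Lrot78 (Lpr_ft (K41.f140801 IH) (Lpe (K52.f140726 IH) (Lpr_ft (f711206 IH) (Lpn (LP (LK LD1_c15 LD2_c5 LD3_c28))))))
theorem f140736 : Led Lsl_bt (LP (LK LD1_c5 LD2_c0 LD3_c13)) = (LP (LK LD1_c9 LD2_c50 LD3_c59)) :=
  Lre_b IH (LK LD1_c5 LD2_c0 LD3_c13) (LK LD1_c9 LD2_c50 LD3_c59) Lrfl Lrfl
theorem f711208 : Led Lsl_bf (LP (LK LD1_c8 LD2_c0 LD3_c56)) = (LP (LK LD1_c15 LD2_c5 LD3_c28)) :=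
  Lgr Lrot61 (Lpr_ft (K46.f505536 IH) (Lpr_bt (f140736 IH) (Lpr_ft (f711206 IH) (Lpn (LP (LK LD1_c15 LD2_c5 LD3_c28))))))
theorem f505610 : Led Lsl_bt (LP (LK LD1_c4 LD2_c32 LD3_c4)) = (LP (LK LD1_c9 LD2_c1 LD3_c53)) :=
  Lre_b IH (LK LD1_c4 LD2_c32 LD3_c4) (LK LD1_c9 LD2_c1 LD3_c53) Lrfl Lrfl
theorem f711212 : Led Lsl_et (LP (LK LD1_c9 LD2_c1 LD3_c53)) = (LP (LK LD1_c15 LD2_c5 LD3_c28)) :=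
  Lgr Lrot74 (Lpe (f505610 IH) (Lpe (K50.f505606 IH) (Lpr_bf (f711208 IH) (Lpn (LP (LK LD1_c15 LD2_c5 LD3_c28))))))
theorem f711214 : Led Lsl_ef (LP (LK LD1_c9 LD2_c1 LD3_c53)) = (LP (LK LD1_c15 LD2_c5 LD3_c28)) :=
  Lgr Lrot88 (Lpr_et (f711212 IH) (Lpn (LP (LK LD1_c15 LD2_c5 LD3_c28))))
theorem f871182 : Led Lsl_gt (LP (LK LD1_c9 LD2_c1 LD3_c53)) = (LP (LK LD1_c11 LD2_c6 LD3_c54)) :=
  Lgr Lrot131 (Lpr_ef (f711214 IH) (Lpe (f711210 IH) (Lpr_gf (K66.f871180 IH) (Lpe (K66.f825098 IH) (Lpe (K57.f40278 IH) (Lpe (K57.f149257 IH) (Lpr_dt (K45.f40123 IH) (Lpe (K42.f571863 IH) (Lpe (K57.f572322 IH) (Lpr_et (K44.f381227 IH) (Lpn (LP (LK LD1_c11 LD2_c6 LD3_c54)))))))))))))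
theorem f580198 : Led Lsl_ft (LP (LK LD1_c15 LD2_c4 LD3_c5)) = (LP (LK LD1_c7 LD2_c59 LD3_c28)) :=
  Lre_f IH (LK LD1_c15 LD2_c4 LD3_c5) (LK LD1_c7 LD2_c59 LD3_c28) Lrfl Lrfl
theorem f871184 : Led Lsl_gf (LP (LK LD1_c9 LD2_c1 LD3_c53)) = (LP (LK LD1_c15 LD2_c4 LD3_c5)) :=
  Lgr Lrot47 (Lpr_gt (f871182 IH) (Lpe (K44.f580165 IH) (Lpe (f580198 IH) (Lpn (LP (LK LD1_c15 LD2_c4 LD3_c5))))))
theorem f897493 : Led Lsl_gt (LP (LK LD1_c11 LD2_c12 LD3_c44)) = (LP (LK LD1_c15 LD2_c4 LD3_c5)) :=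
  Lgr Lrot5 (Lpr_ft (f897491 IH) (Lpe (f897486 IH) (Lpr_gf (f871184 IH) (Lpn (LP (LK LD1_c15 LD2_c4 LD3_c5))))))
theorem f897494 : Led Lsl_gt (LP (LK LD1_c11 LD2_c12 LD3_c44)) = (LP (LK LD1_c15 LD2_c4 LD3_c5)) :=
  Leop (Lpe (f897493 IH) (Lpn (LP (LK LD1_c11 LD2_c12 LD3_c44))))
theorem seed_2189 : LEOK LG_g (LK LD1_c11 LD2_c12 LD3_c44) :=
  Leoe_g (LK LD1_c11 LD2_c12 LD3_c44) (f897494 IH)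
def v37908 : LQ := Led Lsl_ft (LP (LK LD1_c9 LD2_c1 LD3_c59))
theorem f897533 : Led Lsl_ft (LP (LK LD1_c9 LD2_c1 LD3_c59)) = v37908 :=
  Lrfl
theorem f538911 : Led Lsl_gt (LP (LK LD1_c9 LD2_c1 LD3_c59)) = (LP (LK LD1_c16 LD2_c51 LD3_c59)) :=
  Lre_g IH (LK LD1_c9 LD2_c1 LD3_c59) (LK LD1_c16 LD2_c51 LD3_c59) Lrfl Lrfl
theorem f541508 : Led Lsl_af (LP (LK LD1_c9 LD2_c10 LD3_c51)) = (LP (LK LD1_c5 LD2_c53 LD3_c21)) :=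
  Lgr Lrot0 (Lpr_at (K40.f541501 IH) (Lpn (LP (LK LD1_c5 LD2_c53 LD3_c21))))
theorem f561174 : Led Lsl_at (LP (LK LD1_c5 LD2_c42 LD3_c33)) = (LP (LK LD1_c9 LD2_c1 LD3_c59)) :=
  Lgr Lrot51 (Lpr_df (K40.f561172 IH) (Lpr_af (f541508 IH) (Lpr_df (K36.f538899 IH) (Lpn (LP (LK LD1_c9 LD2_c1 LD3_c59))))))
theorem f561188 : Led Lsl_ft (LP (LK LD1_c11 LD2_c15 LD3_c18)) = (LP (LK LD1_c5 LD2_c42 LD3_c33)) :=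
  Lre_f IH (LK LD1_c11 LD2_c15 LD3_c18) (LK LD1_c5 LD2_c42 LD3_c33) Lrfl Lrfl
theorem f897534 : Led Lsl_af (LP (LK LD1_c11 LD2_c15 LD3_c18)) = v37908 :=
  Lgr Lrot45 (Lpr_ft (f561188 IH) (Lpr_at (f561174 IH) (Lpr_ft (f897533 IH) (Lpn v37908))))
theorem f897539 : Led Lsl_gt (LP (LK LD1_c16 LD2_c51 LD3_c59)) = (LP (LK LD1_c11 LD2_c15 LD3_c18)) :=
  Lgr Lrot46 (Lpe (f538911 IH) (Lpr_ft (f897533 IH) (Lpe (f897534 IH) (Lpn (LP (LK LD1_c11 LD2_c15 LD3_c18))))))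
theorem f897540 : Led Lsl_gt (LP (LK LD1_c16 LD2_c51 LD3_c59)) = (LP (LK LD1_c11 LD2_c15 LD3_c18)) :=
  Leop (Lpe (f897539 IH) (Lpn (LP (LK LD1_c16 LD2_c51 LD3_c59))))
theorem seed_2190 : LEOK LG_g (LK LD1_c16 LD2_c51 LD3_c59) :=
  Leoe_g (LK LD1_c16 LD2_c51 LD3_c59) (f897540 IH)
def v37928 : LQ := Led Lsl_gt (LP (LK LD1_c9 LD2_c2 LD3_c18))
theorem f897646 : Led Lsl_gt (LP (LK LD1_c9 LD2_c2 LD3_c18)) = v37928 :=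
  Lrfl
theorem f225954 : Led Lsl_et (LP (LK LD1_c4 LD2_c33 LD3_c29)) = (LP (LK LD1_c9 LD2_c4 LD3_c36)) :=
  Lre_e IH (LK LD1_c4 LD2_c33 LD3_c29) (LK LD1_c9 LD2_c4 LD3_c36) Lrfl Lrfl
theorem f174613 : Led Lsl_dt (LP (LK LD1_c4 LD2_c33 LD3_c29)) = (LP (LK LD1_c9 LD2_c4 LD3_c35)) :=
  Lre_d IH (LK LD1_c4 LD2_c33 LD3_c29) (LK LD1_c9 LD2_c4 LD3_c35) Lrfl Lrfl
def v1660 : LQ := Led Lsl_et (LP (LK LD1_c1 LD2_c23 LD3_c25))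
def v8034 : LQ := Led Lsl_gf v1660
def v28287 : LQ := Led Lsl_et v8034
theorem f843523 : Led Lsl_et v8034 = v28287 :=
  Lrfl
def v4988 : LQ := Led Lsl_et (LP (LK LD1_c2 LD2_c54 LD3_c59))
def v24800 : LQ := Led Lsl_gf v4988
theorem f825661 : Led Lsl_gf v4988 = v24800 :=
  Lrfl
def v24798 : LQ := Led Lsl_et K48.v4987
theorem f825647 : Led Lsl_et K48.v4987 = v24798 :=
  Lrfl
theorem f825649 : Led Lsl_ef K48.v4987 = v24798 :=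
  Lgr Lrot88 (Lpr_et (f825647 IH) (Lpn v24798))
theorem f641200 : Led Lsl_et (LP (LK LD1_c2 LD2_c54 LD3_c59)) = v4988 :=
  Lrfl
theorem f825650 : Led Lsl_ct v4988 = v24798 :=
  Lgr Lrot15 (Lpe (f641200 IH) (Lpr_cf (K48.f641198 IH) (Lpr_ef (f825649 IH) (Lpn v24798))))
theorem f748382 : Led Lsl_bt v4988 = K60.v16307 :=
  Lgr Lrot119 (Lpe (f641200 IH) (Lpe (K42.f82920 IH) (Lpr_ef (K60.f748381 IH) (Lpn K60.v16307))))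
def v8731 : LQ := Led Lsl_ct K50.v2183
theorem f672110 : Led Lsl_ct K50.v2183 = v8731 :=
  Lrfl
theorem f825651 : Led Lsl_gf v8731 = v24798 :=
  Lgr Lrot126 (Lpe (f672110 IH) (Lpe (K54.f509504 IH) (Lpr_gt (K17.f413568 IH) (Lpr_ct (K24.f413569 IH) (Lpr_gt (K24.f413570 IH) (Lpe (K24.f76937 IH) (Lpr_bt (K49.f413598 IH) (Lpr_gt (K60.f705632 IH) (Lpq (K60.f781185 IH) (Lpe (f748382 IH) (Lpr_ct (f825650 IH) (Lpn v24798))))))))))))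
theorem f672111 : Led Lsl_cf K50.v2183 = v8731 :=
  Lgr Lrot11 (Lpr_ct (f672110 IH) (Lpn v8731))
theorem f825663 : Led Lsl_df K60.v8201 = v24800 :=
  Lgr Lrot155 (Lpe (K60.f670321 IH) (Lpr_ct (K60.f640665 IH) (Lpq (K60.f707283 IH) (Lpe (K60.f672078 IH) (Lpe (K60.f509493 IH) (Lpr_dt (K50.f509503 IH) (Lpr_cf (f672111 IH) (Lpr_gf (f825651 IH) (Lpe (f825650 IH) (Lpr_gf (f825661 IH) (Lpn v24800)))))))))))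
def v4199 : LQ := Led Lsl_et (LP (LK LD1_c2 LD2_c14 LD3_c46))
theorem f631824 : Led Lsl_et (LP (LK LD1_c2 LD2_c14 LD3_c46)) = v4199 :=
  Lrfl
theorem f631826 : Led Lsl_df K54.v1911 = v4199 :=
  Lgr Lrot70 (Lpe (K66.f506357 IH) (Lpr_dt (K36.f193816 IH) (Lpe (K12.f26672 IH) (Lpr_dt (K11.f26712 IH) (Lpr_et (f631824 IH) (Lpn v4199))))))
theorem f631827 : Led Lsl_ef (LP (LK LD1_c2 LD2_c14 LD3_c46)) = v4199 :=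
  Lgr Lrot88 (Lpr_et (f631824 IH) (Lpn v4199))
theorem f500610 : Led Lsl_et (LP (LK LD1_c1 LD2_c23 LD3_c25)) = v1660 :=
  Lrfl
def v8033 : LQ := Led Lsl_gt v1660
theorem f669730 : Led Lsl_gt v1660 = v8033 :=
  Lrfl
theorem f825665 : Led Lsl_ef v8033 = v24800 :=
  Lgr Lrot17 (Lpe (f669730 IH) (Lpe (f500610 IH) (Lpr_dt (K10.f24462 IH) (Lpr_gf (K11.f198508 IH) (Lpe (K11.f178999 IH) (Lpr_gf (K11.f193810 IH) (Lpr_ef (f631827 IH) (Lpe (f631826 IH) (Lpr_gf (K60.f670321 IH) (Lpr_df (f825663 IH) (Lpn v24800)))))))))))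
def v6342 : LQ := Led Lsl_dt (LP (LK LD1_c3 LD2_c20 LD3_c37))
theorem f652899 : Led Lsl_dt (LP (LK LD1_c3 LD2_c20 LD3_c37)) = v6342 :=
  Lrfl
theorem f825664 : Led Lsl_at v6342 = v24800 :=
  Lgr Lrot51 (Lpe (f652899 IH) (Lpr_af (K60.f652895 IH) (Lpq (K60.f780848 IH) (Lpr_df (f825663 IH) (Lpn v24800)))))
def v4212 : LQ := Led Lsl_et (LP (LK LD1_c2 LD2_c15 LD3_c28))
def v23835 : LQ := Led Lsl_gt v4212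
theorem f820793 : Led Lsl_gt v4212 = v23835 :=
  Lrfl
theorem f631920 : Led Lsl_et (LP (LK LD1_c2 LD2_c15 LD3_c28)) = v4212 :=
  Lrfl
theorem f198506 : Led Lsl_dt (LP (LK LD1_c2 LD2_c52 LD3_c57)) = (LP (LK LD1_c2 LD2_c0 LD3_c12)) :=
  Lgr Lrot105 (Lpe (K16.f198505 IH) (Lpe (K16.f24258 IH) (Lpr_gf (K11.f198501 IH) (Lpe (K2.f82174 IH) (Lpr_gt (K10.f37720 IH) (Lpr_dt (K10.f179902 IH) (Lpr_gt (K10.f179901 IH) (Lpe (K10.f179897 IH) (Lpe (K16.f179895 IH) (Lpn (LP (LK LD1_c2 LD2_c0 LD3_c12))))))))))))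
def v1621 : LQ := Led Lsl_et (LP (LK LD1_c1 LD2_c22 LD3_c33))
theorem f500399 : Led Lsl_et (LP (LK LD1_c1 LD2_c22 LD3_c33)) = v1621 :=
  Lrfl
theorem f500400 : Led Lsl_ef (LP (LK LD1_c1 LD2_c22 LD3_c33)) = v1621 :=
  Lgr Lrot88 (Lpr_et (f500399 IH) (Lpn v1621))
theorem f632529 : Led Lsl_dt v1621 = K66.v4302 :=
  Lgr Lrot77 (Lpe (f500399 IH) (Lpe (K16.f24258 IH) (Lpe (K11.f176825 IH) (Lpr_df (K39.f198515 IH) (Lpr_ef (K66.f632527 IH) (Lpn K66.v4302))))))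
theorem f632528 : Led Lsl_at K54.v1911 = K66.v4302 :=
  Lgr Lrot80 (Lpe (K54.f506356 IH) (Lpr_af (K36.f449234 IH) (Lpr_ef (K66.f632527 IH) (Lpn K66.v4302))))
def v6338 : LQ := Led Lsl_gt (LP (LK LD1_c3 LD2_c20 LD3_c37))
theorem f652891 : Led Lsl_gt (LP (LK LD1_c3 LD2_c20 LD3_c37)) = v6338 :=
  Lrfl
theorem f781281 : K66.v4302 = v6338 :=
  (Llr Lrot26 (Lpe (f632528 IH) (Lpr_ff (K66.f670323 IH) (Lpqs (K66.f707337 IH) (Lpqs (K60.f781280 IH) (Lpe (K60.f652893 IH) (Lpr_gt (f652891 IH) (Lpn v6338)))))))).symm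
theorem f652901 : Led Lsl_df (LP (LK LD1_c3 LD2_c20 LD3_c37)) = v6342 :=
  Lgr Lrot38 (Lpr_dt (f652899 IH) (Lpn v6342))
theorem f820794 : Led Lsl_et v6342 = v23835 :=
  Lgr Lrot122 (Lpe (f652901 IH) (Lpr_gt (f652891 IH) (Lpq (f781281 IH) (Lpe (f632529 IH) (Lpe (f500400 IH) (Lpr_gt (K16.f198505 IH) (Lpr_dt (f198506 IH) (Lpr_gt (K11.f193801 IH) (Lpe (K10.f175499 IH) (Lpr_et (f631920 IH) (Lpr_gt (f820793 IH) (Lpn v23835))))))))))))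
theorem f820796 : Led Lsl_ef v6342 = v23835 :=
  Lgr Lrot88 (Lpr_et (f820794 IH) (Lpn v23835))
theorem f825666 : Led Lsl_at v8033 = v23835 :=
  Lgr Lrot80 (Lpr_ef (f825665 IH) (Lpe (f825664 IH) (Lpr_ef (f820796 IH) (Lpn v23835))))
def v23836 : LQ := Led Lsl_gf v4212
theorem f820798 : Led Lsl_gf v4212 = v23836 :=
  Lrfl
theorem f825669 : Led Lsl_ff v8033 = v23836 :=
  Lgr Lrot52 (Lpr_at (f825666 IH) (Lpe (f820793 IH) (Lpr_gf (f820798 IH) (Lpn v23836))))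
theorem f825670 : Led Lsl_ft v8033 = v23836 :=
  Lgr Lrot48 (Lpr_ff (f825669 IH) (Lpn v23836))
def v23837 : LQ := Led Lsl_ft v4212
theorem f820802 : Led Lsl_ft v4212 = v23837 :=
  Lrfl
theorem f820806 : Led Lsl_ff v4212 = v23837 :=
  Lgr Lrot3 (Lpr_ft (f820802 IH) (Lpn v23837))
theorem f24506 : Led Lsl_df (LP (LK LD1_c5 LD2_c57 LD3_c26)) = (LP (LK LD1_c5 LD2_c38 LD3_c44)) :=
  Lgr Lrot38 (Lpr_dt (K41.f24495 IH) (Lpn (LP (LK LD1_c5 LD2_c38 LD3_c44))))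
theorem f450354 : Led Lsl_bf (LP (LK LD1_c9 LD2_c9 LD3_c14)) = (LP (LK LD1_c5 LD2_c57 LD3_c26)) :=
  Lgr Lrot93 (Lpr_dt (K42.f175558 IH) (Lpr_bt (K42.f450342 IH) (Lpe (f24506 IH) (Lpn (LP (LK LD1_c5 LD2_c57 LD3_c26))))))
theorem f450358 : Led Lsl_bt (LP (LK LD1_c9 LD2_c9 LD3_c14)) = (LP (LK LD1_c5 LD2_c57 LD3_c26)) :=
  Lgr Lrot127 (Lpr_bf (f450354 IH) (Lpn (LP (LK LD1_c5 LD2_c57 LD3_c26))))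
theorem f24508 : Led Lsl_at (LP (LK LD1_c5 LD2_c57 LD3_c26)) = (LP (LK LD1_c2 LD2_c54 LD3_c61)) :=
  Lre_a IH (LK LD1_c5 LD2_c57 LD3_c26) (LK LD1_c2 LD2_c54 LD3_c61) Lrfl Lrfl
theorem f450360 : Led Lsl_af (LP (LK LD1_c2 LD2_c15 LD3_c28)) = (LP (LK LD1_c1 LD2_c23 LD3_c25)) :=
  Lgr Lrot36 (Lpr_bt (K42.f175496 IH) (Lpr_at (K42.f175556 IH) (Lpr_bt (f450358 IH) (Lpr_at (f24508 IH) (Lpr_bt (K39.f24465 IH) (Lpn (LP (LK LD1_c1 LD2_c23 LD3_c25))))))))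
theorem f500611 : Led Lsl_ef (LP (LK LD1_c1 LD2_c23 LD3_c25)) = v1660 :=
  Lgr Lrot88 (Lpr_et (f500610 IH) (Lpn v1660))
theorem f631921 : Led Lsl_af v1660 = v4212 :=
  Lgr Lrot50 (Lpe (f500611 IH) (Lpe (f450360 IH) (Lpr_et (f631920 IH) (Lpn v4212))))
def v8035 : LQ := Led Lsl_ft v1660
theorem f669732 : Led Lsl_ft v1660 = v8035 :=
  Lrfl
theorem f820808 : Led Lsl_at v8035 = v23837 :=
  Lgr Lrot66 (Lpe (f669732 IH) (Lpr_af (f631921 IH) (Lpr_ff (f820806 IH) (Lpn v23837))))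
theorem f820812 : Led Lsl_gt v8033 = v23837 :=
  Lgr Lrot46 (Lpe (f669730 IH) (Lpr_ft (f669732 IH) (Lpr_at (f820808 IH) (Lpn v23837))))
theorem f669731 : Led Lsl_gf v1660 = v8034 :=
  Lrfl
theorem f820811 : Led Lsl_gf v8034 = v23837 :=
  Lgr Lrot47 (Lpe (f669731 IH) (Lpr_af (f631921 IH) (Lpr_ff (f820806 IH) (Lpn v23837))))
theorem f825671 : Led Lsl_af v8034 = v23836 :=
  Lgr Lrot31 (Lpr_gf (f820811 IH) (Lpe (f820812 IH) (Lpr_ft (f825670 IH) (Lpn v23836))))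
theorem f825668 : Led Lsl_af v8033 = v23835 :=
  Lgr Lrot0 (Lpr_at (f825666 IH) (Lpn v23835))
theorem f825673 : Led Lsl_ft v8034 = v23835 :=
  Lgr Lrot101 (Lpr_af (f825671 IH) (Lpe (f825670 IH) (Lpr_af (f825668 IH) (Lpn v23835))))
theorem f825675 : Led Lsl_ff v8034 = v23835 :=
  Lgr Lrot3 (Lpr_ft (f825673 IH) (Lpn v23835))
def v24799 : LQ := Led Lsl_gt v4988
theorem f825652 : Led Lsl_gt v4988 = v24799 :=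
  Lrfl
def v13069 : LQ := Led Lsl_et (LP (LK LD1_c4 LD2_c38 LD3_c53))
theorem f700900 : Led Lsl_et (LP (LK LD1_c4 LD2_c38 LD3_c53)) = v13069 :=
  Lrfl
theorem f641201 : Led Lsl_ef (LP (LK LD1_c2 LD2_c54 LD3_c59)) = v4988 :=
  Lgr Lrot88 (Lpr_et (f641200 IH) (Lpn v4988))
theorem f700902 : Led Lsl_df v4988 = v13069 :=
  Lgr Lrot70 (Lpe (f641201 IH) (Lpe (K32.f435452 IH) (Lpr_et (K32.f435444 IH) (Lpr_dt (K8.f27027 IH) (Lpr_et (f700900 IH) (Lpn v13069))))))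
theorem f700903 : Led Lsl_ef (LP (LK LD1_c4 LD2_c38 LD3_c53)) = v13069 :=
  Lgr Lrot88 (Lpr_et (f700900 IH) (Lpn v13069))
theorem f715236 : Led Lsl_at (LP (LK LD1_c16 LD2_c57 LD3_c24)) = (LP (LK LD1_c11 LD2_c22 LD3_c55)) :=
  Lgr Lrot80 (Lpe (K50.f211868 IH) (Lpr_af (K67.f715230 IH) (Lpe (K35.f225987 IH) (Lpn (LP (LK LD1_c11 LD2_c22 LD3_c55))))))
theorem f508234 : Led Lsl_df (LP (LK LD1_c16 LD2_c57 LD3_c24)) = (LP (LK LD1_c17 LD2_c7 LD3_c60)) :=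
  Lgr Lrot38 (Lpr_dt (K50.f508232 IH) (Lpn (LP (LK LD1_c17 LD2_c7 LD3_c60))))
theorem f715274 : Led Lsl_af (LP (LK LD1_c17 LD2_c7 LD3_c60)) = (LP (LK LD1_c11 LD2_c49 LD3_c31)) :=
  Lgr Lrot117 (Lpe (f508234 IH) (Lpr_at (f715236 IH) (Lpr_dt (K35.f494577 IH) (Lpn (LP (LK LD1_c11 LD2_c49 LD3_c31))))))
theorem f715276 : Led Lsl_at (LP (LK LD1_c17 LD2_c7 LD3_c60)) = (LP (LK LD1_c11 LD2_c49 LD3_c31)) :=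
  Lgr Lrot100 (Lpr_af (f715274 IH) (Lpn (LP (LK LD1_c11 LD2_c49 LD3_c31))))
theorem f715278 : Led Lsl_af (LP (LK LD1_c11 LD2_c6 LD3_c34)) = (LP (LK LD1_c11 LD2_c14 LD3_c27)) :=
  Lgr Lrot50 (Lpr_et (K50.f508238 IH) (Lpr_at (f715276 IH) (Lpe (K35.f494575 IH) (Lpn (LP (LK LD1_c11 LD2_c14 LD3_c27))))))
theorem f741338 : Led Lsl_gt K54.v15366 = K55.v15758 :=
  Lgr Lrot5 (Lpe (K54.f735901 IH) (Lpe (f715278 IH) (Lpr_gf (K55.f741337 IH) (Lpn K55.v15758))))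
theorem f825655 : Led Lsl_dt K54.v8200 = v24799 :=
  Lgr Lrot37 (Lpr_et (K54.f735905 IH) (Lpr_gt (f741338 IH) (Lpe (K55.f741336 IH) (Lpr_gt (K55.f381344 IH) (Lpe (K50.f289272 IH) (Lpe (K53.f507806 IH) (Lpr_gt (K50.f204254 IH) (Lpr_ef (f700903 IH) (Lpe (f700902 IH) (Lpr_gt (f825652 IH) (Lpn v24799)))))))))))
theorem f825658 : Led Lsl_ff v6342 = v24799 :=
  Lgr Lrot19 (Lpe (f652901 IH) (Lpr_ft (K54.f652903 IH) (Lpqs (K54.f706586 IH) (Lpq (K54.f735906 IH) (Lpr_dt (f825655 IH) (Lpn v24799))))))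
theorem f653064 : Led Lsl_df (LP (LK LD1_c3 LD2_c20 LD3_c61)) = K50.v6370 :=
  Lgr Lrot38 (Lpr_dt (K50.f653062 IH) (Lpn K50.v6370))
def v23793 : LQ := Led Lsl_gt K35.v4179
theorem f820481 : Led Lsl_gt K35.v4179 = v23793 :=
  Lrfl
def v13081 : LQ := Led Lsl_et (LP (LK LD1_c4 LD2_c39 LD3_c4))
theorem f700983 : Led Lsl_et (LP (LK LD1_c4 LD2_c39 LD3_c4)) = v13081 :=
  Lrfl
theorem f700985 : Led Lsl_ef (LP (LK LD1_c4 LD2_c39 LD3_c4)) = v13081 :=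
  Lgr Lrot88 (Lpr_et (f700983 IH) (Lpn v13081))
theorem f820484 : Led Lsl_dt v13081 = v23793 :=
  Lgr Lrot37 (Lpe (f700985 IH) (Lpr_gt (K49.f507720 IH) (Lpr_dt (K49.f174606 IH) (Lpr_gt (K24.f174605 IH) (Lpe (K46.f23245 IH) (Lpr_et (K54.f174604 IH) (Lpr_gt (K9.f174530 IH) (Lpe (K13.f174600 IH) (Lpr_dt (K35.f631665 IH) (Lpr_gt (f820481 IH) (Lpn v23793)))))))))))
theorem f820487 : Led Lsl_ef K50.v4208 = v23793 :=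
  Lgr Lrot73 (Lpe (K50.f631890 IH) (Lpr_et (K32.f144088 IH) (Lpr_dt (K35.f71353 IH) (Lpr_et (f700983 IH) (Lpr_dt (f820484 IH) (Lpn v23793))))))
theorem f820486 : Led Lsl_df v13081 = v23793 :=
  Lgr Lrot38 (Lpr_dt (f820484 IH) (Lpn v23793))
theorem f738006 : Led Lsl_ft (LP (LK LD1_c11 LD2_c6 LD3_c34)) = K55.v15555 :=
  Lgr Lrot48 (Lpr_ff (K55.f738004 IH) (Lpn K55.v15555))
theorem f738002 : Led Lsl_af K54.v15366 = K55.v15555 :=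
  Lgr Lrot117 (Lpe (K54.f735900 IH) (Lpr_at (K54.f715282 IH) (Lpr_dt (K55.f738001 IH) (Lpn K55.v15555))))
theorem f738008 : Led Lsl_gt (LP (LK LD1_c11 LD2_c21 LD3_c35)) = K54.v15366 :=
  Lgr Lrot46 (Lpe (K64.f211855 IH) (Lpr_ft (f738006 IH) (Lpe (f738002 IH) (Lpn K54.v15366))))
def v15367 : LQ := Led Lsl_et (LP (LK LD1_c5 LD2_c37 LD3_c24))
theorem f735928 : Led Lsl_et (LP (LK LD1_c5 LD2_c37 LD3_c24)) = v15367 :=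
  Lrfl
theorem f741038 : Led Lsl_gt v15367 = v13081 :=
  Lgr Lrot131 (Lpe (f735928 IH) (Lpr_dt (K54.f735898 IH) (Lpe (f738008 IH) (Lpe (K60.f168303 IH) (Lpq (K55.f741033 IH) (Lpe (K55.f640459 IH) (Lpe (K55.f445993 IH) (Lpr_dt (K38.f140579 IH) (Lpe (K52.f445988 IH) (Lpe (K32.f144075 IH) (Lpr_et (f700983 IH) (Lpn v13081))))))))))))
def v15680 : LQ := Led Lsl_gt (LP (LK LD1_c5 LD2_c45 LD3_c18))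
theorem f740903 : Led Lsl_gt (LP (LK LD1_c5 LD2_c45 LD3_c18)) = v15680 :=
  Lrfl
theorem f172573 : Led Lsl_dt (LP (LK LD1_c2 LD2_c48 LD3_c24)) = (LP (LK LD1_c5 LD2_c45 LD3_c18)) :=
  Lre_d IH (LK LD1_c2 LD2_c48 LD3_c24) (LK LD1_c5 LD2_c45 LD3_c18) Lrfl Lrfl
theorem f735929 : Led Lsl_ef (LP (LK LD1_c5 LD2_c37 LD3_c24)) = v15367 :=
  Lgr Lrot88 (Lpr_et (f735928 IH) (Lpn v15367))
theorem f740905 : Led Lsl_dt v15367 = v15680 :=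
  Lgr Lrot56 (Lpe (f735929 IH) (Lpr_gt (K53.f172684 IH) (Lpe (K17.f172683 IH) (Lpr_dt (K12.f172675 IH) (Lpe (K12.f172673 IH) (Lpr_df (K9.f172427 IH) (Lpr_et (K13.f172567 IH) (Lpr_gt (K55.f172571 IH) (Lpr_dt (f172573 IH) (Lpr_gt (f740903 IH) (Lpn v15680)))))))))))
theorem f740906 : Led Lsl_df v15367 = v15680 :=
  Lgr Lrot38 (Lpr_dt (f740905 IH) (Lpn v15680))
theorem f825654 : Led Lsl_et v15680 = v24799 :=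
  Lgr Lrot122 (Lpe (f740906 IH) (Lpr_gt (f741038 IH) (Lpr_df (f820486 IH) (Lpe (f820487 IH) (Lpr_gt (K50.f653068 IH) (Lpe (f653064 IH) (Lpr_gt (K50.f510150 IH) (Lpr_df (K32.f435452 IH) (Lpr_et (f641200 IH) (Lpr_gt (f825652 IH) (Lpn v24799)))))))))))
theorem f843525 : Led Lsl_ff v15680 = v28287 :=
  Lgr Lrot72 (Lpr_et (f825654 IH) (Lpe (f825658 IH) (Lpr_et (f820794 IH) (Lpe (f825675 IH) (Lpr_et (f843523 IH) (Lpn v28287))))))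
def v4777 : LQ := Led Lsl_et (LP (LK LD1_c2 LD2_c47 LD3_c29))
def v24508 : LQ := Led Lsl_gf v4777
theorem f824474 : Led Lsl_gf v4777 = v24508 :=
  Lrfl
def v15556 : LQ := Led Lsl_et (LP (LK LD1_c5 LD2_c42 LD3_c5))
theorem f738010 : Led Lsl_et (LP (LK LD1_c5 LD2_c42 LD3_c5)) = v15556 :=
  Lrfl
theorem f738013 : Led Lsl_gf K50.v5096 = v15556 :=
  Lgr Lrot141 (Lpe (K50.f645918 IH) (Lpr_dt (K35.f416151 IH) (Lpe (K35.f454880 IH) (Lpe (K24.f140281 IH) (Lpr_et (K50.f454895 IH) (Lpe (K50.f698637 IH) (Lpr_dt (K50.f173392 IH) (Lpr_gt (K55.f738009 IH) (Lpe (K55.f738001 IH) (Lpr_et (f738010 IH) (Lpn v15556)))))))))))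
theorem f700984 : Led Lsl_af K50.v5096 = v13081 :=
  Lgr Lrot50 (Lpe (K50.f645920 IH) (Lpe (K35.f507617 IH) (Lpr_et (f700983 IH) (Lpn v13081))))
theorem f638932 : Led Lsl_et (LP (LK LD1_c2 LD2_c47 LD3_c29)) = v4777 :=
  Lrfl
theorem f638933 : Led Lsl_ef (LP (LK LD1_c2 LD2_c47 LD3_c29)) = v4777 :=
  Lgr Lrot88 (Lpr_et (f638932 IH) (Lpn v4777))
theorem f700986 : Led Lsl_ff v4777 = v13081 :=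
  Lgr Lrot72 (Lpe (f638933 IH) (Lpe (K51.f507663 IH) (Lpr_et (K51.f501087 IH) (Lpe (K41.f507115 IH) (Lpr_et (f700983 IH) (Lpn v13081))))))
theorem f700988 : Led Lsl_ft v4777 = v13081 :=
  Lgr Lrot48 (Lpr_ff (f700986 IH) (Lpn v13081))
theorem f738014 : Led Lsl_gt v4777 = v15556 :=
  Lgr Lrot5 (Lpr_ft (f700988 IH) (Lpe (f700984 IH) (Lpr_gf (f738013 IH) (Lpn v15556))))
theorem f738012 : Led Lsl_ef (LP (LK LD1_c5 LD2_c42 LD3_c5)) = v15556 :=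
  Lgr Lrot88 (Lpr_et (f738010 IH) (Lpn v15556))
theorem f715286 : Led Lsl_af (LP (LK LD1_c5 LD2_c37 LD3_c24)) = (LP (LK LD1_c5 LD2_c42 LD3_c5)) :=
  Lgr Lrot45 (Lpr_ft (K54.f715215 IH) (Lpe (K54.f715219 IH) (Lpr_ft (K55.f715284 IH) (Lpn (LP (LK LD1_c5 LD2_c42 LD3_c5))))))
theorem f738015 : Led Lsl_at v15367 = v15556 :=
  Lgr Lrot80 (Lpe (f735928 IH) (Lpr_af (f715286 IH) (Lpr_ef (f738012 IH) (Lpn v15556))))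
theorem f824476 : Led Lsl_ff v15367 = v24508 :=
  Lgr Lrot52 (Lpr_at (f738015 IH) (Lpe (f738014 IH) (Lpr_gf (f824474 IH) (Lpn v24508))))
theorem f824477 : Led Lsl_ft v15367 = v24508 :=
  Lgr Lrot48 (Lpr_ff (f824476 IH) (Lpn v24508))
theorem f843526 : Led Lsl_dt v24508 = v28287 :=
  Lgr Lrot60 (Lpe (f824477 IH) (Lpr_df (f740906 IH) (Lpr_ff (f843525 IH) (Lpn v28287))))
theorem f698456 : Led Lsl_af v4777 = v12832 :=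
  Lgr Lrot50 (Lpe (f638933 IH) (Lpe (K51.f507672 IH) (Lpr_et (f698455 IH) (Lpn v12832))))
theorem f698458 : Led Lsl_ff K50.v5096 = v12832 :=
  Lgr Lrot72 (Lpe (K50.f645920 IH) (Lpe (K46.f507632 IH) (Lpr_et (K51.f507647 IH) (Lpe (K64.f507685 IH) (Lpr_et (f698455 IH) (Lpn v12832))))))
theorem f698459 : Led Lsl_ft K50.v5096 = v12832 :=
  Lgr Lrot48 (Lpr_ff (f698458 IH) (Lpn v12832))
theorem f824475 : Led Lsl_gt K50.v5096 = v24508 :=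
  Lgr Lrot5 (Lpr_ft (f698459 IH) (Lpe (f698456 IH) (Lpr_gf (f824474 IH) (Lpn v24508))))
theorem f843533 : Led Lsl_gf (LP (LK LD1_c9 LD2_c4 LD3_c35)) = v28287 :=
  Lgr Lrot134 (Lpe (f174613 IH) (Lpr_et (f225954 IH) (Lpr_gt (K32.f416708 IH) (Lpe (K32.f23128 IH) (Lpr_dt (K35.f23113 IH) (Lpe (K32.f501126 IH) (Lpe (K35.f416151 IH) (Lpr_et (K50.f645918 IH) (Lpr_gt (f824475 IH) (Lpr_dt (f843526 IH) (Lpn v28287)))))))))))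
theorem f897649 : Led Lsl_et v24508 = v37928 :=
  Lgr Lrot122 (Lpr_dt (f843526 IH) (Lpe (f843533 IH) (Lpe (f174613 IH) (Lpr_et (f225954 IH) (Lpr_gt (K32.f416708 IH) (Lpr_dt (K32.f23129 IH) (Lpr_gt (K55.f26973 IH) (Lpe (K55.f26980 IH) (Lpr_et (K55.f26981 IH) (Lpr_gt (f897646 IH) (Lpn v37928)))))))))))
theorem f897651 : Led Lsl_ff (LP (LK LD1_c11 LD2_c14 LD3_c28)) = v37928 :=
  Lgr Lrot72 (Lpr_et (K17.f225941 IH) (Lpe (K54.f715217 IH) (Lpr_et (f735928 IH) (Lpr_ft (f824477 IH) (Lpr_et (f897649 IH) (Lpn v37928))))))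
theorem f715228 : Led Lsl_af (LP (LK LD1_c11 LD2_c6 LD3_c35)) = (LP (LK LD1_c11 LD2_c14 LD3_c28)) :=
  Lgr Lrot0 (Lpr_at (K67.f715226 IH) (Lpn (LP (LK LD1_c11 LD2_c14 LD3_c28))))
theorem f897654 : Led Lsl_gf K64.v15572 = v37928 :=
  Lgr Lrot47 (Lpe (K64.f824025 IH) (Lpr_af (f715228 IH) (Lpr_ff (f897651 IH) (Lpn v37928))))
def v4803 : LQ := Led Lsl_ft (LP (LK LD1_c2 LD2_c48 LD3_c32))
theorem f639065 : Led Lsl_ft (LP (LK LD1_c2 LD2_c48 LD3_c32)) = v4803 :=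
  Lrfl
theorem f646286 : Led Lsl_at v4803 = K55.v5161 :=
  Lgr Lrot66 (Lpe (f639065 IH) (Lpe (K18.f296987 IH) (Lpr_ff (K55.f646284 IH) (Lpn K55.v5161))))
theorem f646289 : Led Lsl_gt K64.v4801 = K55.v5161 :=
  Lgr Lrot46 (Lpe (K64.f639061 IH) (Lpr_ft (f639065 IH) (Lpr_at (f646286 IH) (Lpn K55.v5161))))
theorem f245571 : Led Lsl_ft (LP (LK LD1_c0 LD2_c37 LD3_c8)) = (LP (LK LD1_c1 LD2_c3 LD3_c51)) :=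
  Lgr Lrot48 (Lpr_ff (K13.f245564 IH) (Lpn (LP (LK LD1_c1 LD2_c3 LD3_c51))))
theorem f245663 : Led Lsl_ft (LP (LK LD1_c2 LD2_c48 LD3_c27)) = (LP (LK LD1_c1 LD2_c20 LD3_c24)) :=
  Lre_f IH (LK LD1_c2 LD2_c48 LD3_c27) (LK LD1_c1 LD2_c20 LD3_c24) Lrfl Lrfl
theorem f631681 : Led Lsl_ef (LP (LK LD1_c2 LD2_c48 LD3_c27)) = K55.v4181 :=
  Lgr Lrot21 (Lpr_ft (f245663 IH) (Lpr_et (K13.f172551 IH) (Lpr_ft (f245571 IH) (Lpr_et (K18.f173389 IH) (Lpr_ft (K55.f631679 IH) (Lpn K55.v4181))))))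
theorem f417798 : Led Lsl_gt (LP (LK LD1_c2 LD2_c48 LD3_c27)) = (LP (LK LD1_c4 LD2_c33 LD3_c30)) :=
  Lgr Lrot5 (Lpr_ft (f245663 IH) (Lpr_at (K50.f245584 IH) (Lpe (K35.f174609 IH) (Lpn (LP (LK LD1_c4 LD2_c33 LD3_c30))))))
theorem f386226 : Led Lsl_dt (LP (LK LD1_c4 LD2_c33 LD3_c30)) = (LP (LK LD1_c9 LD2_c4 LD3_c37)) :=
  Lre_d IH (LK LD1_c4 LD2_c33 LD3_c30) (LK LD1_c9 LD2_c4 LD3_c37) Lrfl Lrfl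
theorem f750798 : Led Lsl_ef K64.v4801 = K56.v16632 :=
  Lgr Lrot17 (Lpe (K64.f639061 IH) (Lpe (K18.f168235 IH) (Lpr_dt (K17.f56560 IH) (Lpr_gf (K9.f168209 IH) (Lpe (K9.f8393 IH) (Lpr_gf (K9.f175312 IH) (Lpe (K50.f175321 IH) (Lpe (K36.f175340 IH) (Lpe (K56.f175354 IH) (Lpr_df (K56.f750796 IH) (Lpn K56.v16632)))))))))))
theorem f824024 : Led Lsl_df (LP (LK LD1_c11 LD2_c22 LD3_c44)) = K64.v15572 :=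
  Lgr Lrot70 (Lpr_et (K67.f750802 IH) (Lpr_dt (K56.f750795 IH) (Lpe (f750798 IH) (Lpr_dt (K64.f645934 IH) (Lpr_et (K64.f824023 IH) (Lpn K64.v15572))))))
def v15692 : LQ := Led Lsl_at (LP (LK LD1_c5 LD2_c45 LD3_c21))
theorem f740956 : Led Lsl_at (LP (LK LD1_c5 LD2_c45 LD3_c21)) = v15692 :=
  Lrfl
theorem f740959 : Led Lsl_gt (LP (LK LD1_c5 LD2_c46 LD3_c13)) = v15692 :=
  Lgr Lrot46 (Lpr_gf (K55.f740937 IH) (Lpr_ft (K55.f639021 IH) (Lpr_at (f740956 IH) (Lpn v15692))))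
def v4791 : LQ := Led Lsl_ft (LP (LK LD1_c2 LD2_c48 LD3_c24))
theorem f639027 : Led Lsl_ft (LP (LK LD1_c2 LD2_c48 LD3_c24)) = v4791 :=
  Lrfl
theorem f639028 : Led Lsl_af (LP (LK LD1_c2 LD2_c48 LD3_c25)) = v4791 :=
  Lgr Lrot45 (Lpr_ft (K55.f639020 IH) (Lpe (K55.f639018 IH) (Lpr_ft (f639027 IH) (Lpn v4791))))
theorem f740958 : Led Lsl_ef v4791 = v15692 :=
  Lgr Lrot20 (Lpe (f639028 IH) (Lpr_et (K55.f193899 IH) (Lpr_at (f740956 IH) (Lpn v15692))))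
theorem f740960 : Led Lsl_et v4791 = v15692 :=
  Lgr Lrot87 (Lpr_ef (f740958 IH) (Lpn v15692))
def v15685 : LQ := Led Lsl_ft (LP (LK LD1_c5 LD2_c45 LD3_c18))
theorem f740921 : Led Lsl_ft (LP (LK LD1_c5 LD2_c45 LD3_c18)) = v15685 :=
  Lrfl
theorem f740924 : Led Lsl_ff (LP (LK LD1_c5 LD2_c45 LD3_c18)) = v15685 :=
  Lgr Lrot3 (Lpr_ft (f740921 IH) (Lpn v15685))
theorem f172588 : Led Lsl_dt (LP (LK LD1_c5 LD2_c45 LD3_c18)) = (LP (LK LD1_c2 LD2_c48 LD3_c24)) :=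
  Lre_d IH (LK LD1_c5 LD2_c45 LD3_c18) (LK LD1_c2 LD2_c48 LD3_c24) Lrfl Lrfl
theorem f740926 : Led Lsl_dt v4791 = v15685 :=
  Lgr Lrot60 (Lpe (f639027 IH) (Lpe (f172588 IH) (Lpr_ff (f740924 IH) (Lpn v15685))))
theorem f897655 : Led Lsl_gt v15685 = v28287 :=
  Lgr Lrot112 (Lpe (f740926 IH) (Lpr_et (f740960 IH) (Lpe (f740959 IH) (Lpe (K17.f180471 IH) (Lpr_dt (K55.f180506 IH) (Lpe (K55.f180507 IH) (Lpr_df (f824024 IH) (Lpr_gf (f897654 IH) (Lpe (f897649 IH) (Lpr_dt (f843526 IH) (Lpn v28287)))))))))))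
theorem f897656 : (LP (LK LD1_c9 LD2_c4 LD3_c37)) = v15685 :=
  (Llr Lrot171 (Lpe (f386226 IH) (Lpe (f417798 IH) (Lpr_ef (f631681 IH) (Lpr_dt (K55.f646287 IH) (Lpe (f646289 IH) (Lpr_df (K64.f645935 IH) (Lpr_et (K64.f824023 IH) (Lpr_gf (f897654 IH) (Lpe (f897649 IH) (Lpr_dt (f843526 IH) (Lpe (f897655 IH) (Lpn v15685))))))))))))).symm
def v15682 : LQ := Led Lsl_at (LP (LK LD1_c5 LD2_c45 LD3_c18))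
theorem f740909 : Led Lsl_at (LP (LK LD1_c5 LD2_c45 LD3_c18)) = v15682 :=
  Lrfl
theorem f740910 : Led Lsl_af (LP (LK LD1_c5 LD2_c45 LD3_c18)) = v15682 :=
  Lgr Lrot0 (Lpr_at (f740909 IH) (Lpn v15682))
theorem f740911 : Led Lsl_df K55.v4789 = v15682 :=
  Lgr Lrot18 (Lpe (K55.f639018 IH) (Lpr_dt (f172573 IH) (Lpr_at (f740909 IH) (Lpn v15682))))
theorem f193895 : Led Lsl_dt (LP (LK LD1_c2 LD2_c48 LD3_c25)) = (LP (LK LD1_c5 LD2_c45 LD3_c20)) :=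
  Lre_d IH (LK LD1_c2 LD2_c48 LD3_c25) (LK LD1_c5 LD2_c45 LD3_c20) Lrfl Lrfl
theorem f740913 : Led Lsl_ft (LP (LK LD1_c5 LD2_c45 LD3_c20)) = v15682 :=
  Lgr Lrot54 (Lpe (f193895 IH) (Lpr_ff (K55.f639022 IH) (Lpr_df (f740911 IH) (Lpn v15682))))
theorem f740922 : Led Lsl_af (LP (LK LD1_c5 LD2_c45 LD3_c20)) = v15685 :=
  Lgr Lrot45 (Lpr_ft (f740913 IH) (Lpe (f740910 IH) (Lpr_ft (f740921 IH) (Lpn v15685))))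
theorem f897657 : Led Lsl_at (LP (LK LD1_c9 LD2_c4 LD3_c37)) = (LP (LK LD1_c5 LD2_c45 LD3_c20)) :=
  Leop (Lpr_af (f740922 IH) (Lpq (f897656 IH) (Lpn (LP (LK LD1_c9 LD2_c4 LD3_c37)))))
theorem seed_2191 : LEOK LG_a (LK LD1_c9 LD2_c4 LD3_c37) :=
  Leoe_a (LK LD1_c9 LD2_c4 LD3_c37) (f897657 IH)
def v15274 : LQ := Led Lsl_gt (LP (LK LD1_c5 LD2_c34 LD3_c47))
theorem f733247 : Led Lsl_gt (LP (LK LD1_c5 LD2_c34 LD3_c47)) = v15274 :=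
  Lrfl
def v37915 : LQ := Led Lsl_ft (LP (LK LD1_c9 LD2_c2 LD3_c9))
theorem f897578 : Led Lsl_ft (LP (LK LD1_c9 LD2_c2 LD3_c9)) = v37915 :=
  Lrfl
theorem f897581 : Led Lsl_ff (LP (LK LD1_c9 LD2_c2 LD3_c9)) = v37915 :=
  Lgr Lrot3 (Lpr_ft (f897578 IH) (Lpn v37915))
theorem f738114 : Led Lsl_bf (LP (LK LD1_c5 LD2_c42 LD3_c17)) = v15574 :=
  Lgr Lrot24 (Lpr_bt (f738113 IH) (Lpn v15574))
def v15576 : LQ := Led Lsl_ft (LP (LK LD1_c5 LD2_c42 LD3_c17))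
theorem f738119 : Led Lsl_ft (LP (LK LD1_c5 LD2_c42 LD3_c17)) = v15576 :=
  Lrfl
theorem f897583 : Led Lsl_bt v15576 = v37915 :=
  Lgr Lrot35 (Lpe (f738119 IH) (Lpr_bf (f738114 IH) (Lpqs (f897090 IH) (Lpr_ff (f897581 IH) (Lpn v37915)))))
def v24523 : LQ := Led Lsl_gf K55.v4789
theorem f824530 : Led Lsl_gf K55.v4789 = v24523 :=
  Lrfl
theorem f639029 : Led Lsl_ff (LP (LK LD1_c2 LD2_c48 LD3_c24)) = v4791 :=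
  Lgr Lrot3 (Lpr_ft (f639027 IH) (Lpn v4791))
theorem f824531 : Led Lsl_gt v4791 = v24523 :=
  Lgr Lrot5 (Lpe (f639029 IH) (Lpr_at (K55.f639017 IH) (Lpr_gf (f824530 IH) (Lpn v24523))))
theorem f740923 : Led Lsl_df v4791 = v15685 :=
  Lgr Lrot78 (Lpe (f639029 IH) (Lpr_dt (f172573 IH) (Lpr_ft (f740921 IH) (Lpn v15685))))
theorem f897661 : v4791 = (LP (LK LD1_c4 LD2_c33 LD3_c30)) :=
  Lefun (Lecon (Lfl_df (f740923 IH)) (f897656 IH).symm) (K35.f386225 IH)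
theorem f897667 : v24523 = (LP (LK LD1_c2 LD2_c13 LD3_c40)) :=
  Lefun (Lecon (f824531 IH) (f897661 IH)) (K35.f174609 IH)
theorem f897682 : K55.v4789 = (LP (LK LD1_c4 LD2_c33 LD3_c29)) :=
  Lefun (Lecon (Lfl_gf (f824530 IH)) (f897667 IH)) (K32.f174611 IH)
theorem f897695 : K55.v15686 = (LP (LK LD1_c9 LD2_c4 LD3_c36)) :=
  Lefun (Lecon (K55.f740930 IH) (f897682 IH)) (f225954 IH)
def v15573 : LQ := Led Lsl_at (LP (LK LD1_c5 LD2_c42 LD3_c17))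
theorem f738109 : Led Lsl_at (LP (LK LD1_c5 LD2_c42 LD3_c17)) = v15573 :=
  Lrfl
theorem f738110 : Led Lsl_af (LP (LK LD1_c5 LD2_c42 LD3_c17)) = v15573 :=
  Lgr Lrot0 (Lpr_at (f738109 IH) (Lpn v15573))
theorem f738111 : Led Lsl_ft (LP (LK LD1_c5 LD2_c42 LD3_c18)) = v15573 :=
  Lgr Lrot2 (Lpr_gt (K32.f68860 IH) (Lpr_gt (K56.f68723 IH) (Lpr_af (f738110 IH) (Lpn v15573))))
theorem f897701 : (LP (LK LD1_c9 LD2_c2 LD3_c19)) = v15573 :=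
  (Llr Lrot78 (Lpr_dt (K55.f507651 IH) (Lpr_ft (K55.f740931 IH) (Lpqs (f897695 IH) (Lpe (K32.f225944 IH) (Lpr_ft (f738111 IH) (Lpn v15573))))))).symm
theorem f738105 : Led Lsl_cf (LP (LK LD1_c5 LD2_c42 LD3_c18)) = (LP (LK LD1_c11 LD2_c12 LD3_c18)) :=
  Lgr Lrot11 (Lpr_ct (K54.f738102 IH) (Lpn (LP (LK LD1_c11 LD2_c12 LD3_c18))))
theorem f638526 : Led Lsl_cf (LP (LK LD1_c2 LD2_c46 LD3_c21)) = K64.v4699 :=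
  Lgr Lrot108 (Lpr_ft (K30.f380122 IH) (Lpr_ct (f380510 IH) (Lpr_ft (K64.f638525 IH) (Lpn K64.v4699))))
theorem f737803 : Led Lsl_cf (LP (LK LD1_c5 LD2_c40 LD3_c53)) = v15506 :=
  Lgr Lrot108 (Lpr_ft (K50.f613303 IH) (Lpr_ct (f289463 IH) (Lpr_ft (f737802 IH) (Lpn v15506))))
def v37866 : LQ := Led Lsl_gt (LP (LK LD1_c9 LD2_c1 LD3_c29))
theorem f897060 : Led Lsl_gt (LP (LK LD1_c9 LD2_c1 LD3_c29)) = v37866 :=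
  Lrfl
theorem f613422 : Led Lsl_af (LP (LK LD1_c9 LD2_c1 LD3_c29)) = (LP (LK LD1_c5 LD2_c40 LD3_c52)) :=
  Lgr Lrot0 (Lpr_at (K52.f613351 IH) (Lpn (LP (LK LD1_c5 LD2_c40 LD3_c52))))
theorem f737804 : Led Lsl_ff (LP (LK LD1_c5 LD2_c40 LD3_c52)) = v15506 :=
  Lgr Lrot3 (Lpr_ft (f737802 IH) (Lpn v15506))
theorem f897068 : Led Lsl_af v15506 = v37869 :=
  Lgr Lrot45 (Lpe (f737804 IH) (Lpe (f613422 IH) (Lpr_ft (f897067 IH) (Lpn v37869))))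
theorem f897072 : Led Lsl_gt v37866 = v15506 :=
  Lgr Lrot46 (Lpe (f897060 IH) (Lpr_ft (f897067 IH) (Lpe (f897068 IH) (Lpn v15506))))
theorem f897327 : Led Lsl_ct (LP (LK LD1_c9 LD2_c2 LD3_c19)) = v37866 :=
  Lgr Lrot152 (Lpe (K55.f27015 IH) (Lpe (K55.f26977 IH) (Lpr_gt (f175935 IH) (Lpr_ct (f698409 IH) (Lpq (f824063 IH) (Lpqs (f897326 IH) (Lpr_gt (f697977 IH) (Lpe (f638526 IH) (Lpe (K50.f380139 IH) (Lpr_cf (f737803 IH) (Lpe (f897072 IH) (Lpn v37866))))))))))))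
theorem f897706 : Led Lsl_ff (LP (LK LD1_c11 LD2_c12 LD3_c18)) = v37866 :=
  Lgr Lrot23 (Lpe (f738105 IH) (Lpr_ft (f738111 IH) (Lpq (f897701 IH) (Lpr_ct (f897327 IH) (Lpn v37866)))))
theorem f897062 : Led Lsl_gt v15506 = v37867 :=
  Lgr Lrot5 (Lpe (f737804 IH) (Lpe (f613422 IH) (Lpr_gf (f897061 IH) (Lpn v37867))))
theorem f897708 : Led Lsl_at (LP (LK LD1_c11 LD2_c12 LD3_c18)) = v37867 :=
  Lgr Lrot26 (Lpr_ff (f897706 IH) (Lpr_gt (f897072 IH) (Lpr_gt (f897062 IH) (Lpn v37867))))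
theorem f738120 : Led Lsl_af (LP (LK LD1_c5 LD2_c42 LD3_c18)) = v15576 :=
  Lgr Lrot45 (Lpr_ft (f738111 IH) (Lpe (f738110 IH) (Lpr_ft (f738119 IH) (Lpn v15576))))
theorem f897324 : Led Lsl_cf (LP (LK LD1_c9 LD2_c2 LD3_c20)) = v37867 :=
  Lgr Lrot11 (Lpr_ct (f897323 IH) (Lpn v37867))
theorem f897710 : v15576 = (LP (LK LD1_c9 LD2_c2 LD3_c20)) :=
  (Llr Lrot68 (Lpe (f738120 IH) (Lpr_ct (K54.f738102 IH) (Lpr_at (f897708 IH) (Lpe (f897324 IH) (Lpn (LP (LK LD1_c9 LD2_c2 LD3_c20)))))))).symm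
theorem f897715 : v37915 = (LP (LK LD1_c16 LD2_c52 LD3_c5)) :=
  Lefun (Lecon (f897583 IH) (f897710 IH)) (f897249 IH)
theorem f897722 : Led Lsl_ff (LP (LK LD1_c16 LD2_c52 LD3_c23)) = (LP (LK LD1_c11 LD2_c21 LD3_c8)) :=
  Lgr Lrot19 (Lpr_dt (K51.f552453 IH) (Lpr_ft (f897578 IH) (Lpqs (f897715 IH) (Lpe (f897232 IH) (Lpn (LP (LK LD1_c11 LD2_c21 LD3_c8)))))))
theorem f268900 : Led Lsl_ef (LP (LK LD1_c2 LD2_c47 LD3_c32)) = (LP (LK LD1_c4 LD2_c32 LD3_c20)) :=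
  Lgr Lrot21 (Lpr_ft (K55.f268779 IH) (Lpr_et (K55.f174237 IH) (Lpr_ft (K16.f268893 IH) (Lpr_et (f174460 IH) (Lpr_ft (f268899 IH) (Lpn (LP (LK LD1_c4 LD2_c32 LD3_c20))))))))
theorem f501089 : Led Lsl_df (LP (LK LD1_c5 LD2_c42 LD3_c17)) = (LP (LK LD1_c9 LD2_c5 LD3_c13)) :=
  Lgr Lrot135 (Lpr_gt (K56.f281867 IH) (Lpe (K16.f281870 IH) (Lpe (f268900 IH) (Lpr_gt (K55.f412045 IH) (Lpr_ef (K51.f501083 IH) (Lpr_dt (K32.f501057 IH) (Lpe (K46.f501076 IH) (Lpe (K35.f23113 IH) (Lpr_et (K32.f23128 IH) (Lpr_gt (K50.f23136 IH) (Lpn (LP (LK LD1_c9 LD2_c5 LD3_c13)))))))))))))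
theorem f501091 : Led Lsl_dt (LP (LK LD1_c5 LD2_c42 LD3_c17)) = (LP (LK LD1_c9 LD2_c5 LD3_c13)) :=
  Lgr Lrot42 (Lpr_df (f501089 IH) (Lpn (LP (LK LD1_c9 LD2_c5 LD3_c13))))
theorem f897093 : Led Lsl_bf (LP (LK LD1_c16 LD2_c52 LD3_c23)) = (LP (LK LD1_c9 LD2_c5 LD3_c13)) :=
  Lgr Lrot93 (Lpr_dt (K51.f552453 IH) (Lpq (f897090 IH) (Lpe (f738114 IH) (Lpr_dt (f501091 IH) (Lpn (LP (LK LD1_c9 LD2_c5 LD3_c13)))))))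
theorem f897096 : Led Lsl_bt (LP (LK LD1_c16 LD2_c52 LD3_c23)) = (LP (LK LD1_c9 LD2_c5 LD3_c13)) :=
  Lgr Lrot127 (Lpr_bf (f897093 IH) (Lpn (LP (LK LD1_c9 LD2_c5 LD3_c13))))
def v15688 : LQ := Led Lsl_ft (LP (LK LD1_c5 LD2_c45 LD3_c19))
theorem f740943 : Led Lsl_ft (LP (LK LD1_c5 LD2_c45 LD3_c19)) = v15688 :=
  Lrfl
theorem f740945 : Led Lsl_ff (LP (LK LD1_c5 LD2_c45 LD3_c19)) = v15688 :=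
  Lgr Lrot3 (Lpr_ft (f740943 IH) (Lpn v15688))
theorem f897728 : (LP (LK LD1_c9 LD2_c5 LD3_c13)) = v15688 :=
  (Llr Lrot35 (Lpe (f897096 IH) (Lpr_ff (f897722 IH) (Lpe (f242679 IH) (Lpr_ff (f740945 IH) (Lpn v15688)))))).symm
theorem f174610 : Led Lsl_et (LP (LK LD1_c9 LD2_c4 LD3_c38)) = (LP (LK LD1_c4 LD2_c33 LD3_c30)) :=
  Lre_e IH (LK LD1_c9 LD2_c4 LD3_c38) (LK LD1_c4 LD2_c33 LD3_c30) Lrfl Lrfl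
theorem f698594 : Led Lsl_ft (LP (LK LD1_c16 LD2_c56 LD3_c20)) = (LP (LK LD1_c9 LD2_c4 LD3_c38)) :=
  Lre_f IH (LK LD1_c16 LD2_c56 LD3_c20) (LK LD1_c9 LD2_c4 LD3_c38) Lrfl Lrfl
theorem f897733 : Led Lsl_ef (LP (LK LD1_c16 LD2_c56 LD3_c20)) = (LP (LK LD1_c9 LD2_c5 LD3_c13)) :=
  Lgr Lrot21 (Lpr_ft (f698594 IH) (Lpr_et (f174610 IH) (Lpq (f897661 IH) (Lpe (f639029 IH) (Lpr_et (K55.f242678 IH) (Lpr_ft (f740943 IH) (Lpq (f897728 IH) (Lpn (LP (LK LD1_c9 LD2_c5 LD3_c13))))))))))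
theorem f897743 : Led Lsl_gt (LP (LK LD1_c16 LD2_c56 LD3_c20)) = (LP (LK LD1_c9 LD2_c5 LD3_c17)) :=
  Lgr Lrot137 (Lpr_ef (f897733 IH) (Lpe (f501089 IH) (Lpe (K56.f68723 IH) (Lpe (K32.f140685 IH) (Lpr_et (K20.f174123 IH) (Lpe (K9.f174128 IH) (Lpe (K17.f174240 IH) (Lpe (K54.f185118 IH) (Lpe (K50.f186191 IH) (Lpr_df (K50.f408195 IH) (Lpn (LP (LK LD1_c9 LD2_c5 LD3_c17)))))))))))))
def v15166 : LQ := Led Lsl_dt (LP (LK LD1_c5 LD2_c33 LD3_c15))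
theorem f732648 : Led Lsl_dt (LP (LK LD1_c5 LD2_c33 LD3_c15)) = v15166 :=
  Lrfl
theorem f732650 : Led Lsl_df (LP (LK LD1_c5 LD2_c33 LD3_c15)) = v15166 :=
  Lgr Lrot38 (Lpr_dt (f732648 IH) (Lpn v15166))
theorem f174229 : Led Lsl_et (LP (LK LD1_c5 LD2_c34 LD3_c47)) = (LP (LK LD1_c2 LD2_c43 LD3_c17)) :=
  Lre_e IH (LK LD1_c5 LD2_c34 LD3_c47) (LK LD1_c2 LD2_c43 LD3_c17) Lrfl Lrfl
theorem f174230 : Led Lsl_dt (LP (LK LD1_c5 LD2_c34 LD3_c47)) = (LP (LK LD1_c11 LD2_c1 LD3_c54)) :=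
  Lre_d IH (LK LD1_c5 LD2_c34 LD3_c47) (LK LD1_c11 LD2_c1 LD3_c54) Lrfl Lrfl
theorem f732652 : Led Lsl_gt (LP (LK LD1_c11 LD2_c1 LD3_c54)) = v15166 :=
  Lgr Lrot112 (Lpe (f174230 IH) (Lpr_et (f174229 IH) (Lpe (K53.f174228 IH) (Lpe (K54.f174227 IH) (Lpr_dt (K9.f172325 IH) (Lpe (K9.f171863 IH) (Lpe (K9.f174154 IH) (Lpe (K9.f174155 IH) (Lpe (K27.f174149 IH) (Lpr_dt (f732648 IH) (Lpn v15166)))))))))))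
theorem f710885 : Led Lsl_gt (LP (LK LD1_c11 LD2_c1 LD3_c53)) = (LP (LK LD1_c5 LD2_c34 LD3_c47)) :=
  Lre_g IH (LK LD1_c11 LD2_c1 LD3_c53) (LK LD1_c5 LD2_c34 LD3_c47) Lrfl Lrfl
theorem f897749 : Led Lsl_cf (LP (LK LD1_c16 LD2_c56 LD3_c20)) = (LP (LK LD1_c11 LD2_c1 LD3_c53)) :=
  Lgr Lrot166 (Lpr_gt (f897743 IH) (Lpe (K50.f408195 IH) (Lpr_gt (K50.f186191 IH) (Lpr_dt (K50.f185126 IH) (Lpe (K27.f174151 IH) (Lpr_df (f732650 IH) (Lpe (f732652 IH) (Lpe (f174230 IH) (Lpe (f710885 IH) (Lpn (LP (LK LD1_c11 LD2_c1 LD3_c53))))))))))))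
theorem f631677 : Led Lsl_et (LP (LK LD1_c4 LD2_c33 LD3_c30)) = (LP (LK LD1_c9 LD2_c4 LD3_c38)) :=
  Lre_e IH (LK LD1_c4 LD2_c33 LD3_c30) (LK LD1_c9 LD2_c4 LD3_c38) Lrfl Lrfl
theorem f897674 : v15692 = (LP (LK LD1_c9 LD2_c4 LD3_c38)) :=
  Lefun (Lecon (f740960 IH) (f897661 IH)) (f631677 IH)
def v37756 : LQ := Led Lsl_gf (LP (LK LD1_c8 LD2_c59 LD3_c37))
theorem f896320 : Led Lsl_gf (LP (LK LD1_c8 LD2_c59 LD3_c37)) = v37756 :=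
  Lrfl
theorem f698152 : Led Lsl_et (LP (LK LD1_c4 LD2_c30 LD3_c39)) = (LP (LK LD1_c8 LD2_c59 LD3_c37)) :=
  Lre_e IH (LK LD1_c4 LD2_c30 LD3_c39) (LK LD1_c8 LD2_c59 LD3_c37) Lrfl Lrfl
theorem f739654 : Led Lsl_cf (LP (LK LD1_c10 LD2_c6 LD3_c51)) = (LP (LK LD1_c8 LD2_c59 LD3_c37)) :=
  Lgr Lrot39 (Lpe (K57.f168840 IH) (Lpq (K57.f739651 IH) (Lpe (K57.f698158 IH) (Lpr_et (f698152 IH) (Lpn (LP (LK LD1_c8 LD2_c59 LD3_c37)))))))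
theorem f302707 : Led Lsl_af (LP (LK LD1_c5 LD2_c4 LD3_c40)) = (LP (LK LD1_c5 LD2_c11 LD3_c48)) :=
  Lgr Lrot45 (Lpr_ft (K18.f166291 IH) (Lpr_at (K54.f302702 IH) (Lpr_ft (K53.f302330 IH) (Lpn (LP (LK LD1_c5 LD2_c11 LD3_c48))))))
theorem f302712 : Led Lsl_gf (LP (LK LD1_c10 LD2_c0 LD3_c29)) = (LP (LK LD1_c10 LD2_c14 LD3_c29)) :=
  Lgr Lrot47 (Lpr_gt (K53.f166296 IH) (Lpr_af (f302707 IH) (Lpe (K53.f302330 IH) (Lpn (LP (LK LD1_c10 LD2_c14 LD3_c29))))))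
theorem f387361 : Led Lsl_ct (LP (LK LD1_c5 LD2_c12 LD3_c33)) = (LP (LK LD1_c10 LD2_c14 LD3_c29)) :=
  Lgr Lrot111 (Lpr_af (K54.f387359 IH) (Lpe (K18.f166292 IH) (Lpr_af (K53.f302696 IH) (Lpn (LP (LK LD1_c10 LD2_c14 LD3_c29))))))
theorem f387365 : Led Lsl_gf (LP (LK LD1_c5 LD2_c12 LD3_c33)) = (LP (LK LD1_c5 LD2_c6 LD3_c0)) :=
  Lgr Lrot76 (Lpr_af (K54.f387359 IH) (Lpe (K54.f164762 IH) (Lpr_gt (K54.f164766 IH) (Lpn (LP (LK LD1_c5 LD2_c6 LD3_c0))))))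
theorem f896321 : Led Lsl_ct (LP (LK LD1_c11 LD2_c21 LD3_c10)) = v37756 :=
  Lgr Lrot152 (Lpe (K55.f741516 IH) (Lpe (K55.f164985 IH) (Lpe (f387365 IH) (Lpr_ct (f387361 IH) (Lpe (f302712 IH) (Lpq (K53.f727490 IH) (Lpe (K53.f722320 IH) (Lpe (K57.f165090 IH) (Lpr_cf (f739654 IH) (Lpr_gf (f896320 IH) (Lpn v37756)))))))))))
def v15694 : LQ := Led Lsl_ct (LP (LK LD1_c5 LD2_c45 LD3_c21))
theorem f740965 : Led Lsl_ct (LP (LK LD1_c5 LD2_c45 LD3_c21)) = v15694 :=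
  Lrfl
theorem f740966 : Led Lsl_cf (LP (LK LD1_c5 LD2_c45 LD3_c21)) = v15694 :=
  Lgr Lrot11 (Lpr_ct (f740965 IH) (Lpn v15694))
theorem f896324 : Led Lsl_ff v15694 = v37756 :=
  Lgr Lrot23 (Lpe (f740966 IH) (Lpr_ft (K55.f639023 IH) (Lpr_ct (f896321 IH) (Lpn v37756))))
def v37755 : LQ := Led Lsl_gt (LP (LK LD1_c8 LD2_c59 LD3_c37))
theorem f896319 : Led Lsl_gt (LP (LK LD1_c8 LD2_c59 LD3_c37)) = v37755 :=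
  Lrfl
theorem f896326 : Led Lsl_at v15694 = v37755 :=
  Lgr Lrot26 (Lpr_ff (f896324 IH) (Lpe (f896320 IH) (Lpr_gt (f896319 IH) (Lpn v37755))))
def v4793 : LQ := Led Lsl_ct (LP (LK LD1_c2 LD2_c48 LD3_c25))
theorem f639034 : Led Lsl_ct (LP (LK LD1_c2 LD2_c48 LD3_c25)) = v4793 :=
  Lrfl
theorem f639035 : Led Lsl_cf (LP (LK LD1_c2 LD2_c48 LD3_c25)) = v4793 :=
  Lgr Lrot11 (Lpr_ct (f639034 IH) (Lpn v4793))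
theorem f740967 : Led Lsl_ef v4793 = v15694 :=
  Lgr Lrot28 (Lpe (f639035 IH) (Lpr_et (K55.f193899 IH) (Lpr_ct (f740965 IH) (Lpn v15694))))
theorem f740968 : Led Lsl_et v4793 = v15694 :=
  Lgr Lrot87 (Lpr_ef (f740967 IH) (Lpn v15694))
theorem f733184 : Led Lsl_et (LP (LK LD1_c5 LD2_c34 LD3_c43)) = (LP (LK LD1_c11 LD2_c1 LD3_c45)) :=
  Lre_e IH (LK LD1_c5 LD2_c34 LD3_c43) (LK LD1_c11 LD2_c1 LD3_c45) Lrfl Lrfl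
theorem f733200 : Led Lsl_cf (LP (LK LD1_c5 LD2_c34 LD3_c43)) = K56.v15262 :=
  Lgr Lrot11 (Lpr_ct (K56.f733199 IH) (Lpn K56.v15262))
theorem f750545 : (LP (LK LD1_c5 LD2_c34 LD3_c43)) = v4793 :=
  Lefun (Lecon (Lfl_cf (f733200 IH)) (K56.f750544 IH)) (f639034 IH)
theorem f750548 : v15694 = (LP (LK LD1_c11 LD2_c1 LD3_c45)) :=
  Lefun (Lecon (f740968 IH) (f750545 IH).symm) (f733184 IH)
def v15260 : LQ := Led Lsl_ft (LP (LK LD1_c5 LD2_c34 LD3_c42))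
theorem f733193 : Led Lsl_ft (LP (LK LD1_c5 LD2_c34 LD3_c42)) = v15260 :=
  Lrfl
theorem f733194 : Led Lsl_af (LP (LK LD1_c5 LD2_c34 LD3_c43)) = v15260 :=
  Lgr Lrot45 (Lpr_ft (K56.f733182 IH) (Lpe (K56.f733181 IH) (Lpr_ft (f733193 IH) (Lpn v15260))))
theorem f896329 : Led Lsl_ef v15260 = v37755 :=
  Lgr Lrot20 (Lpe (f733194 IH) (Lpr_et (f733184 IH) (Lpq (f750548 IH) (Lpr_at (f896326 IH) (Lpn v37755)))))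
theorem f733195 : Led Lsl_ff (LP (LK LD1_c5 LD2_c34 LD3_c42)) = v15260 :=
  Lgr Lrot3 (Lpr_ft (f733193 IH) (Lpn v15260))
theorem f750558 : Led Lsl_cf v15260 = v4791 :=
  Lgr Lrot108 (Lpe (f733195 IH) (Lpr_ct (K56.f733187 IH) (Lpqs (K56.f750553 IH) (Lpr_ft (f639027 IH) (Lpn v4791)))))
theorem f750559 : Led Lsl_ct v15260 = v4791 :=
  Lgr Lrot59 (Lpr_cf (f750558 IH) (Lpn v4791))
theorem f896330 : Led Lsl_ct v15692 = v37755 :=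
  Lgr Lrot15 (Lpe (f740960 IH) (Lpe (f750559 IH) (Lpr_ef (f896329 IH) (Lpn v37755))))
theorem f897760 : Led Lsl_ft v37755 = (LP (LK LD1_c11 LD2_c1 LD3_c53)) :=
  Lgr Lrot4 (Lpe (f896330 IH) (Lpqs (f897674 IH) (Lpe (f698594 IH) (Lpr_cf (f897749 IH) (Lpn (LP (LK LD1_c11 LD2_c1 LD3_c53)))))))
theorem f897762 : Led Lsl_ff v37755 = (LP (LK LD1_c11 LD2_c1 LD3_c53)) :=
  Lgr Lrot3 (Lpr_ft (f897760 IH) (Lpn (LP (LK LD1_c11 LD2_c1 LD3_c53))))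
theorem f896327 : Led Lsl_af v15694 = v37755 :=
  Lgr Lrot0 (Lpr_at (f896326 IH) (Lpn v37755))
theorem f897763 : v15694 = v15274 :=
  (Llr Lrot26 (Lpr_af (f896327 IH) (Lpr_ff (f897762 IH) (Lpr_gt (f710885 IH) (Lpr_gt (f733247 IH) (Lpn v15274)))))).symm
theorem f897764 : Led Lsl_gt (LP (LK LD1_c5 LD2_c34 LD3_c47)) = (LP (LK LD1_c11 LD2_c1 LD3_c45)) :=
  Leop (Lpq (f750548 IH) (Lpqs (f897763 IH) (Lpe (f733247 IH) (Lpn (LP (LK LD1_c5 LD2_c34 LD3_c47))))))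
theorem seed_2192 : LEOK LG_g (LK LD1_c5 LD2_c34 LD3_c47) :=
  Leoe_g (LK LD1_c5 LD2_c34 LD3_c47) (f897764 IH)
theorem f706237 : Led Lsl_ff (LP (LK LD1_c9 LD2_c4 LD3_c18)) = (LP (LK LD1_c11 LD2_c22 LD3_c33)) :=
  Lgr Lrot3 (Lpr_ft (K51.f706230 IH) (Lpn (LP (LK LD1_c11 LD2_c22 LD3_c33))))
theorem f706287 : Led Lsl_af (LP (LK LD1_c16 LD2_c54 LD3_c45)) = (LP (LK LD1_c9 LD2_c4 LD3_c18)) :=
  Lgr Lrot45 (Lpr_ft (K51.f706285 IH) (Lpr_at (K57.f140665 IH) (Lpe (f706237 IH) (Lpn (LP (LK LD1_c9 LD2_c4 LD3_c18))))))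
theorem f897226 : Led Lsl_gt (LP (LK LD1_c11 LD2_c21 LD3_c8)) = (LP (LK LD1_c16 LD2_c54 LD3_c45)) :=
  Lgr Lrot46 (Lpr_gf (f897224 IH) (Lpe (f706237 IH) (Lpe (f706287 IH) (Lpn (LP (LK LD1_c16 LD2_c54 LD3_c45))))))
theorem f140664 : Led Lsl_gt (LP (LK LD1_c20 LD2_c20 LD3_c23)) = (LP (LK LD1_c11 LD2_c22 LD3_c33)) :=
  Lre_g IH (LK LD1_c20 LD2_c20 LD3_c23) (LK LD1_c11 LD2_c22 LD3_c33) Lrfl Lrfl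
theorem f706291 : Led Lsl_gt (LP (LK LD1_c16 LD2_c54 LD3_c45)) = (LP (LK LD1_c20 LD2_c20 LD3_c23)) :=
  Lgr Lrot5 (Lpr_ft (K51.f706285 IH) (Lpr_at (K57.f140665 IH) (Lpe (f140664 IH) (Lpn (LP (LK LD1_c20 LD2_c20 LD3_c23))))))
theorem f897726 : Led Lsl_at (LP (LK LD1_c16 LD2_c52 LD3_c23)) = (LP (LK LD1_c20 LD2_c20 LD3_c23)) :=
  Lgr Lrot26 (Lpr_ff (f897722 IH) (Lpr_gt (f897226 IH) (Lpr_gt (f706291 IH) (Lpn (LP (LK LD1_c20 LD2_c20 LD3_c23))))))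
def v37913 : LQ := Led Lsl_at (LP (LK LD1_c9 LD2_c2 LD3_c9))
theorem f897569 : Led Lsl_at (LP (LK LD1_c9 LD2_c2 LD3_c9)) = v37913 :=
  Lrfl
theorem f897570 : Led Lsl_af (LP (LK LD1_c9 LD2_c2 LD3_c9)) = v37913 :=
  Lgr Lrot0 (Lpr_at (f897569 IH) (Lpn v37913))
theorem f642708 : Led Lsl_ef (LP (LK LD1_c5 LD2_c43 LD3_c3)) = (LP (LK LD1_c9 LD2_c12 LD3_c22)) :=
  Lgr Lrot88 (Lpr_et (K51.f642704 IH) (Lpn (LP (LK LD1_c9 LD2_c12 LD3_c22))))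
theorem f116951 : Led Lsl_et (LP (LK LD1_c2 LD2_c13 LD3_c32)) = (LP (LK LD1_c4 LD2_c33 LD3_c9)) :=
  Lre_e IH (LK LD1_c2 LD2_c13 LD3_c32) (LK LD1_c4 LD2_c33 LD3_c9) Lrfl Lrfl
theorem f568890 : Led Lsl_et (LP (LK LD1_c4 LD2_c32 LD3_c60)) = (LP (LK LD1_c9 LD2_c3 LD3_c16)) :=
  Lre_e IH (LK LD1_c4 LD2_c32 LD3_c60) (LK LD1_c9 LD2_c3 LD3_c16) Lrfl Lrfl
theorem f644783 : Led Lsl_gf (LP (LK LD1_c9 LD2_c3 LD3_c16)) = (LP (LK LD1_c5 LD2_c43 LD3_c3)) :=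
  Lgr Lrot141 (Lpe (f568890 IH) (Lpr_dt (K39.f551628 IH) (Lpqs (K42.f568886 IH) (Lpe (K42.f494169 IH) (Lpe (K45.f116952 IH) (Lpr_et (f116951 IH) (Lpr_gt (K51.f494175 IH) (Lpr_dt (K51.f494176 IH) (Lpr_gt (K51.f644779 IH) (Lpr_df (K45.f642683 IH) (Lpe (f642708 IH) (Lpn (LP (LK LD1_c5 LD2_c43 LD3_c3))))))))))))))
theorem f580459 : Led Lsl_ft (LP (LK LD1_c9 LD2_c3 LD3_c23)) = (LP (LK LD1_c4 LD2_c33 LD3_c3)) :=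
  Lre_f IH (LK LD1_c9 LD2_c3 LD3_c23) (LK LD1_c4 LD2_c33 LD3_c3) Lrfl Lrfl
theorem f644785 : Led Lsl_gt (LP (LK LD1_c9 LD2_c3 LD3_c23)) = (LP (LK LD1_c5 LD2_c43 LD3_c3)) :=
  Lgr Lrot5 (Lpr_ft (f580459 IH) (Lpr_at (K66.f580465 IH) (Lpr_gf (f644783 IH) (Lpn (LP (LK LD1_c5 LD2_c43 LD3_c3))))))
theorem f280345 : Led Lsl_gt (LP (LK LD1_c16 LD2_c52 LD3_c4)) = (LP (LK LD1_c9 LD2_c2 LD3_c12)) :=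
  Lre_g IH (LK LD1_c16 LD2_c52 LD3_c4) (LK LD1_c9 LD2_c2 LD3_c12) Lrfl Lrfl
theorem f706293 : Led Lsl_df (LP (LK LD1_c16 LD2_c52 LD3_c4)) = (LP (LK LD1_c20 LD2_c20 LD3_c23)) :=
  Lgr Lrot135 (Lpr_gt (f280345 IH) (Lpe (K66.f280325 IH) (Lpe (K66.f580452 IH) (Lpr_gt (f644785 IH) (Lpr_ef (f642708 IH) (Lpe (K45.f642683 IH) (Lpr_gt (K51.f644690 IH) (Lpe (K51.f116931 IH) (Lpr_et (K51.f116933 IH) (Lpr_gt (f706291 IH) (Lpn (LP (LK LD1_c20 LD2_c20 LD3_c23)))))))))))))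
theorem f897769 : v37913 = (LP (LK LD1_c16 LD2_c52 LD3_c4)) :=
  (Llr Lrot117 (Lpe (f897570 IH) (Lpr_dt (K51.f621121 IH) (Lpr_at (f897726 IH) (Lpe (f706293 IH) (Lpn (LP (LK LD1_c16 LD2_c52 LD3_c4)))))))).symm
theorem f897571 : Led Lsl_ft (LP (LK LD1_c9 LD2_c2 LD3_c10)) = v37913 :=
  Lgr Lrot2 (Lpr_gt (K51.f542297 IH) (Lpr_gt (K51.f398542 IH) (Lpr_af (f897570 IH) (Lpn v37913))))
theorem f280532 : Led Lsl_et (LP (LK LD1_c4 LD2_c32 LD3_c12)) = (LP (LK LD1_c9 LD2_c2 LD3_c2)) :=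
  Lre_e IH (LK LD1_c4 LD2_c32 LD3_c12) (LK LD1_c9 LD2_c2 LD3_c2) Lrfl Lrfl
theorem f281828 : Led Lsl_gt (LP (LK LD1_c9 LD2_c2 LD3_c2)) = (LP (LK LD1_c16 LD2_c52 LD3_c4)) :=
  Lre_g IH (LK LD1_c9 LD2_c2 LD3_c2) (LK LD1_c16 LD2_c52 LD3_c4) Lrfl Lrfl
theorem f140672 : Led Lsl_dt (LP (LK LD1_c5 LD2_c46 LD3_c5)) = (LP (LK LD1_c11 LD2_c22 LD3_c33)) :=
  Lre_d IH (LK LD1_c5 LD2_c46 LD3_c5) (LK LD1_c11 LD2_c22 LD3_c33) Lrfl Lrfl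
theorem f706198 : Led Lsl_dt (LP (LK LD1_c16 LD2_c52 LD3_c4)) = (LP (LK LD1_c20 LD2_c20 LD3_c23)) :=
  Lgr Lrot171 (Lpe (f281828 IH) (Lpe (f280532 IH) (Lpr_dt (K16.f181770 IH) (Lpe (K31.f412030 IH) (Lpe (K31.f412032 IH) (Lpr_et (K39.f412033 IH) (Lpqs (K51.f706195 IH) (Lpe (K51.f640466 IH) (Lpe (K50.f140649 IH) (Lpr_dt (f140672 IH) (Lpe (f140664 IH) (Lpn (LP (LK LD1_c20 LD2_c20 LD3_c23))))))))))))))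
theorem f897774 : Led Lsl_ff (LP (LK LD1_c16 LD2_c52 LD3_c25)) = (LP (LK LD1_c20 LD2_c20 LD3_c23)) :=
  Lgr Lrot19 (Lpr_dt (K51.f542298 IH) (Lpr_ft (f897571 IH) (Lpqs (f897769 IH) (Lpr_dt (f706198 IH) (Lpn (LP (LK LD1_c20 LD2_c20 LD3_c23)))))))
theorem f897778 : Led Lsl_ft (LP (LK LD1_c16 LD2_c52 LD3_c25)) = (LP (LK LD1_c20 LD2_c20 LD3_c23)) :=
  Lgr Lrot48 (Lpr_ff (f897774 IH) (Lpn (LP (LK LD1_c20 LD2_c20 LD3_c23))))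
theorem f897767 : Led Lsl_af (LP (LK LD1_c16 LD2_c52 LD3_c23)) = (LP (LK LD1_c20 LD2_c20 LD3_c23)) :=
  Lgr Lrot0 (Lpr_at (f897726 IH) (Lpn (LP (LK LD1_c20 LD2_c20 LD3_c23))))
theorem f897724 : Led Lsl_ft (LP (LK LD1_c16 LD2_c52 LD3_c23)) = (LP (LK LD1_c11 LD2_c21 LD3_c8)) :=
  Lgr Lrot48 (Lpr_ff (f897722 IH) (Lpn (LP (LK LD1_c11 LD2_c21 LD3_c8))))
theorem f897780 : Led Lsl_af (LP (LK LD1_c16 LD2_c52 LD3_c25)) = (LP (LK LD1_c11 LD2_c21 LD3_c8)) :=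
  Lgr Lrot45 (Lpr_ft (f897778 IH) (Lpe (f897767 IH) (Lpr_ft (f897724 IH) (Lpn (LP (LK LD1_c11 LD2_c21 LD3_c8))))))
theorem f621379 : Led Lsl_gt (LP (LK LD1_c4 LD2_c33 LD3_c12)) = (LP (LK LD1_c9 LD2_c3 LD3_c45)) :=
  Lre_g IH (LK LD1_c4 LD2_c33 LD3_c12) (LK LD1_c9 LD2_c3 LD3_c45) Lrfl Lrfl
theorem f621380 : Led Lsl_et (LP (LK LD1_c16 LD2_c52 LD3_c25)) = (LP (LK LD1_c9 LD2_c3 LD3_c45)) :=
  Lgr Lrot122 (Lpr_dt (K51.f542298 IH) (Lpr_gt (K51.f542297 IH) (Lpe (K51.f542292 IH) (Lpr_et (K51.f542294 IH) (Lpe (K51.f542295 IH) (Lpr_dt (K39.f226002 IH) (Lpr_gt (K38.f174632 IH) (Lpr_df (K38.f546382 IH) (Lpr_et (K52.f546384 IH) (Lpr_gt (f621379 IH) (Lpn (LP (LK LD1_c9 LD2_c3 LD3_c45)))))))))))))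
theorem f740897 : Led Lsl_et (LP (LK LD1_c5 LD2_c45 LD3_c17)) = (LP (LK LD1_c11 LD2_c21 LD3_c8)) :=
  Lre_e IH (LK LD1_c5 LD2_c45 LD3_c17) (LK LD1_c11 LD2_c21 LD3_c8) Lrfl Lrfl
theorem f897782 : (LP (LK LD1_c9 LD2_c3 LD3_c45)) = v15678 :=
  (Llr Lrot123 (Lpe (f621380 IH) (Lpr_af (f897780 IH) (Lpe (f740897 IH) (Lpr_af (f740896 IH) (Lpn v15678)))))).symm
theorem f621383 : Led Lsl_ef (LP (LK LD1_c16 LD2_c52 LD3_c25)) = (LP (LK LD1_c9 LD2_c3 LD3_c45)) :=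
  Lgr Lrot88 (Lpr_et (f621380 IH) (Lpn (LP (LK LD1_c9 LD2_c3 LD3_c45))))
theorem f510133 : Led Lsl_et (LP (LK LD1_c12 LD2_c54 LD3_c59)) = (LP (LK LD1_c6 LD2_c45 LD3_c23)) :=
  Lre_e IH (LK LD1_c12 LD2_c54 LD3_c59) (LK LD1_c6 LD2_c45 LD3_c23) Lrfl Lrfl
theorem f707325 : Led Lsl_dt (LP (LK LD1_c12 LD2_c54 LD3_c59)) = (LP (LK LD1_c6 LD2_c45 LD3_c20)) :=
  Lre_d IH (LK LD1_c12 LD2_c54 LD3_c59) (LK LD1_c6 LD2_c45 LD3_c20) Lrfl Lrfl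
theorem f652950 : Led Lsl_gt (LP (LK LD1_c12 LD2_c54 LD3_c58)) = (LP (LK LD1_c6 LD2_c45 LD3_c20)) :=
  Lre_g IH (LK LD1_c12 LD2_c54 LD3_c58) (LK LD1_c6 LD2_c45 LD3_c20) Lrfl Lrfl
theorem f707326 : Led Lsl_dt (LP (LK LD1_c9 LD2_c3 LD3_c45)) = (LP (LK LD1_c12 LD2_c54 LD3_c58)) :=
  Lgr Lrot136 (Lpe (f621383 IH) (Lpr_gf (K51.f706297 IH) (Lpe (K51.f706300 IH) (Lpr_dt (K51.f141869 IH) (Lpe (K50.f141816 IH) (Lpr_df (K51.f618058 IH) (Lpr_gf (K51.f707319 IH) (Lpe (f510133 IH) (Lpr_dt (f707325 IH) (Lpe (f652950 IH) (Lpn (LP (LK LD1_c12 LD2_c54 LD3_c58)))))))))))))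
theorem f897789 : Led Lsl_ff (LP (LK LD1_c22 LD2_c4 LD3_c30)) = (LP (LK LD1_c12 LD2_c54 LD3_c58)) :=
  Lgr Lrot19 (Lpr_dt (K51.f707284 IH) (Lpr_ft (f897236 IH) (Lpq (f897782 IH) (Lpr_dt (f707326 IH) (Lpn (LP (LK LD1_c12 LD2_c54 LD3_c58)))))))
theorem f897795 : Led Lsl_at (LP (LK LD1_c22 LD2_c4 LD3_c30)) = (LP (LK LD1_c12 LD2_c54 LD3_c57)) :=
  Lgr Lrot26 (Lpr_ff (f897789 IH) (Lpr_gt (f652950 IH) (Lpr_gt (K52.f509377 IH) (Lpn (LP (LK LD1_c12 LD2_c54 LD3_c57))))))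
theorem f707287 : Led Lsl_df (LP (LK LD1_c22 LD2_c4 LD3_c30)) = (LP (LK LD1_c16 LD2_c54 LD3_c24)) :=
  Lgr Lrot38 (Lpr_dt (K51.f707284 IH) (Lpn (LP (LK LD1_c16 LD2_c54 LD3_c24))))
theorem f897801 : v15679 = (LP (LK LD1_c9 LD2_c3 LD3_c46)) :=
  (Llr Lrot117 (Lpe (f897237 IH) (Lpe (f707287 IH) (Lpr_at (f897795 IH) (Lpe (K52.f716006 IH) (Lpn (LP (LK LD1_c9 LD2_c3 LD3_c46)))))))).symm
theorem f740887 : Led Lsl_dt (LP (LK LD1_c11 LD2_c21 LD3_c7)) = (LP (LK LD1_c5 LD2_c45 LD3_c17)) :=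
  Lre_d IH (LK LD1_c11 LD2_c21 LD3_c7) (LK LD1_c5 LD2_c45 LD3_c17) Lrfl Lrfl
theorem f716010 : Led Lsl_dt (LP (LK LD1_c9 LD2_c3 LD3_c46)) = (LP (LK LD1_c12 LD2_c54 LD3_c57)) :=
  Lgr Lrot42 (Lpr_df (K52.f716006 IH) (Lpn (LP (LK LD1_c12 LD2_c54 LD3_c57))))
theorem f897810 : Led Lsl_ff (LP (LK LD1_c11 LD2_c21 LD3_c7)) = (LP (LK LD1_c12 LD2_c54 LD3_c57)) :=
  Lgr Lrot19 (Lpr_dt (f740887 IH) (Lpr_ft (f740898 IH) (Lpqs (f897801 IH) (Lpr_dt (f716010 IH) (Lpn (LP (LK LD1_c12 LD2_c54 LD3_c57)))))))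
theorem f897826 : Led Lsl_ft (LP (LK LD1_c11 LD2_c21 LD3_c7)) = (LP (LK LD1_c12 LD2_c54 LD3_c57)) :=
  Lgr Lrot48 (Lpr_ff (f897810 IH) (Lpn (LP (LK LD1_c12 LD2_c54 LD3_c57))))
theorem f740916 : Led Lsl_bt (LP (LK LD1_c5 LD2_c45 LD3_c18)) = (LP (LK LD1_c11 LD2_c21 LD3_c7)) :=
  Lre_b IH (LK LD1_c5 LD2_c45 LD3_c18) (LK LD1_c11 LD2_c21 LD3_c7) Lrfl Lrfl
theorem f897830 : Led Lsl_bf v15685 = (LP (LK LD1_c12 LD2_c54 LD3_c57)) :=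
  Lgr Lrot61 (Lpe (f740924 IH) (Lpr_bt (f740916 IH) (Lpr_ft (f897826 IH) (Lpn (LP (LK LD1_c12 LD2_c54 LD3_c57))))))
theorem f631674 : Led Lsl_bt (LP (LK LD1_c9 LD2_c9 LD3_c16)) = (LP (LK LD1_c17 LD2_c2 LD3_c18)) :=
  Lre_b IH (LK LD1_c9 LD2_c9 LD3_c16) (LK LD1_c17 LD2_c2 LD3_c18) Lrfl Lrfl
theorem f897841 : Led Lsl_et (LP (LK LD1_c17 LD2_c2 LD3_c18)) = (LP (LK LD1_c12 LD2_c54 LD3_c57)) :=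
  Lgr Lrot74 (Lpe (f631674 IH) (Lpr_ef (K35.f631672 IH) (Lpqs (f897656 IH) (Lpr_bf (f897830 IH) (Lpn (LP (LK LD1_c12 LD2_c54 LD3_c57)))))))
theorem f897845 : Led Lsl_ef (LP (LK LD1_c17 LD2_c2 LD3_c18)) = (LP (LK LD1_c12 LD2_c54 LD3_c57)) :=
  Lgr Lrot88 (Lpr_et (f897841 IH) (Lpn (LP (LK LD1_c12 LD2_c54 LD3_c57))))
theorem f897849 : Led Lsl_gf (LP (LK LD1_c17 LD2_c2 LD3_c18)) = (LP (LK LD1_c9 LD2_c10 LD3_c56)) :=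
  Lgr Lrot141 (Lpr_ef (f897845 IH) (Lpe (K52.f716006 IH) (Lpr_gt (K52.f618163 IH) (Lpr_df (K52.f698506 IH) (Lpe (K52.f698507 IH) (Lpr_gt (K40.f552441 IH) (Lpr_dt (K40.f81947 IH) (Lpr_gt (K39.f500515 IH) (Lpqs (K39.f541546 IH) (Lpq (K35.f541547 IH) (Lpqs (K35.f538005 IH) (Lpe (K42.f538013 IH) (Lpr_et (K42.f570291 IH) (Lpn (LP (LK LD1_c9 LD2_c10 LD3_c56))))))))))))))))
theorem f897850 : Led Lsl_gt (LP (LK LD1_c9 LD2_c10 LD3_c56)) = (LP (LK LD1_c17 LD2_c2 LD3_c18)) :=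
  Leop (Lpr_gf (f897849 IH) (Lpn (LP (LK LD1_c9 LD2_c10 LD3_c56))))
theorem seed_2193 : LEOK LG_g (LK LD1_c9 LD2_c10 LD3_c56) :=
  Leoe_g (LK LD1_c9 LD2_c10 LD3_c56) (f897850 IH)
def v37932 : LQ := Led Lsl_et (LP (LK LD1_c9 LD2_c2 LD3_c19))
theorem f897952 : Led Lsl_et (LP (LK LD1_c9 LD2_c2 LD3_c19)) = v37932 :=
  Lrfl
theorem f897955 : Led Lsl_gf (LP (LK LD1_c20 LD2_c21 LD3_c60)) = v37932 :=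
  Lgr Lrot138 (Lpr_dt (K56.f634188 IH) (Lpr_gt (K56.f421542 IH) (Lpe (K56.f421545 IH) (Lpe (K56.f634182 IH) (Lpr_gt (K24.f59829 IH) (Lpe (K55.f140657 IH) (Lpr_dt (K55.f140678 IH) (Lpr_gt (K55.f140689 IH) (Lpe (K55.f507651 IH) (Lpr_et (f897952 IH) (Lpn v37932)))))))))))
theorem f753392 : Led Lsl_ef (LP (LK LD1_c18 LD2_c22 LD3_c37)) = (LP (LK LD1_c11 LD2_c36 LD3_c0)) :=
  Lgr Lrot88 (Lpr_et (K56.f753390 IH) (Lpn (LP (LK LD1_c11 LD2_c36 LD3_c0))))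
def v14307 : LQ := Led Lsl_gf (LP (LK LD1_c5 LD2_c5 LD3_c56))
theorem f721842 : Led Lsl_gf (LP (LK LD1_c5 LD2_c5 LD3_c56)) = v14307 :=
  Lrfl
theorem f721843 : Led Lsl_gt (LP (LK LD1_c10 LD2_c4 LD3_c29)) = v14307 :=
  Lgr Lrot5 (Lpr_ft (K39.f285115 IH) (Lpe (K39.f285181 IH) (Lpr_gf (f721842 IH) (Lpn v14307))))
theorem f897956 : Led Lsl_dt v14307 = v37932 :=
  Lgr Lrot171 (Lpe (f721843 IH) (Lpe (K39.f285116 IH) (Lpe (K39.f285153 IH) (Lpr_gf (K56.f285336 IH) (Lpe (K56.f186173 IH) (Lpe (K56.f186174 IH) (Lpe (K56.f753360 IH) (Lpr_ef (f753392 IH) (Lpe (K56.f634190 IH) (Lpr_gf (f897955 IH) (Lpn v37932)))))))))))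
theorem f897953 : Led Lsl_af (LP (LK LD1_c11 LD2_c14 LD3_c48)) = v37932 :=
  Lgr Lrot50 (Lpr_et (K56.f68724 IH) (Lpr_at (f738109 IH) (Lpq (f897701 IH) (Lpr_et (f897952 IH) (Lpn v37932)))))
theorem f897957 : Led Lsl_af v14307 = (LP (LK LD1_c10 LD2_c4 LD3_c28)) :=
  Lgr Lrot117 (Lpr_dt (f897956 IH) (Lpe (f897953 IH) (Lpr_dt (K56.f285185 IH) (Lpn (LP (LK LD1_c10 LD2_c4 LD3_c28))))))
theorem f285202 : Led Lsl_gt (LP (LK LD1_c10 LD2_c2 LD3_c49)) = (LP (LK LD1_c10 LD2_c4 LD3_c29)) :=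
  Lgr Lrot46 (Lpe (K32.f180376 IH) (Lpr_ft (K39.f180370 IH) (Lpr_at (K39.f285196 IH) (Lpn (LP (LK LD1_c10 LD2_c4 LD3_c29))))))
theorem f897960 : Led Lsl_ft (LP (LK LD1_c10 LD2_c2 LD3_c49)) = (LP (LK LD1_c10 LD2_c4 LD3_c28)) :=
  Lgr Lrot2 (Lpr_gt (f285202 IH) (Lpr_gt (f721843 IH) (Lpr_af (f897957 IH) (Lpn (LP (LK LD1_c10 LD2_c4 LD3_c28))))))
theorem f897961 : Led Lsl_ft (LP (LK LD1_c10 LD2_c2 LD3_c49)) = (LP (LK LD1_c10 LD2_c4 LD3_c28)) :=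
  Leop (Lpe (f897960 IH) (Lpn (LP (LK LD1_c10 LD2_c2 LD3_c49))))
theorem seed_2194 : LEOK LG_f (LK LD1_c10 LD2_c2 LD3_c49) :=
  Leoe_f (LK LD1_c10 LD2_c2 LD3_c49) (f897961 IH)
def v37934 : LQ := Led Lsl_ct (LP (LK LD1_c9 LD2_c2 LD3_c21))
theorem f897984 : Led Lsl_ct (LP (LK LD1_c9 LD2_c2 LD3_c21)) = v37934 :=
  Lrfl
def v15767 : LQ := Led Lsl_ct (LP (LK LD1_c5 LD2_c46 LD3_c9))
theorem f741447 : Led Lsl_ct (LP (LK LD1_c5 LD2_c46 LD3_c9)) = v15767 :=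
  Lrfl
def v15404 : LQ := Led Lsl_ct (LP (LK LD1_c5 LD2_c38 LD3_c31))
theorem f736145 : Led Lsl_ct (LP (LK LD1_c5 LD2_c38 LD3_c31)) = v15404 :=
  Lrfl
def v4734 : LQ := Led Lsl_ct (LP (LK LD1_c2 LD2_c45 LD3_c6))
theorem f638762 : Led Lsl_ct (LP (LK LD1_c2 LD2_c45 LD3_c6)) = v4734 :=
  Lrfl
theorem f638763 : Led Lsl_cf (LP (LK LD1_c2 LD2_c45 LD3_c6)) = v4734 :=
  Lgr Lrot11 (Lpr_ct (f638762 IH) (Lpn v4734))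
theorem f736147 : Led Lsl_ef v4734 = v15404 :=
  Lgr Lrot28 (Lpe (f638763 IH) (Lpr_et (f613402 IH) (Lpr_ct (f736145 IH) (Lpn v15404))))
def v24435 : LQ := Led Lsl_gf v4734
theorem f823640 : Led Lsl_gf v4734 = v24435 :=
  Lrfl
def v12710 : LQ := Led Lsl_gf (LP (LK LD1_c4 LD2_c29 LD3_c20))
theorem f697756 : Led Lsl_gf (LP (LK LD1_c4 LD2_c29 LD3_c20)) = v12710 :=
  Lrfl
def v24433 : LQ := Led Lsl_ct K65.v4733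
theorem f823633 : Led Lsl_ct K65.v4733 = v24433 :=
  Lrfl
theorem f823634 : Led Lsl_af v4734 = v24433 :=
  Lgr Lrot68 (Lpe (f638763 IH) (Lpr_at (K65.f638754 IH) (Lpr_ct (f823633 IH) (Lpn v24433))))
def v4737 : LQ := Led Lsl_ct (LP (LK LD1_c2 LD2_c45 LD3_c7))
theorem f638770 : Led Lsl_ct (LP (LK LD1_c2 LD2_c45 LD3_c7)) = v4737 :=
  Lrfl
theorem f638771 : Led Lsl_cf (LP (LK LD1_c2 LD2_c45 LD3_c7)) = v4737 :=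
  Lgr Lrot11 (Lpr_ct (f638770 IH) (Lpn v4737))
theorem f823636 : Led Lsl_ff v4737 = v24433 :=
  Lgr Lrot23 (Lpe (f638771 IH) (Lpr_ft (K65.f638757 IH) (Lpr_ct (f823633 IH) (Lpn v24433))))
theorem f823637 : Led Lsl_ft v4737 = v24433 :=
  Lgr Lrot48 (Lpr_ff (f823636 IH) (Lpn v24433))
theorem f823641 : Led Lsl_gt v4737 = v24435 :=
  Lgr Lrot5 (Lpr_ft (f823637 IH) (Lpe (f823634 IH) (Lpr_gf (f823640 IH) (Lpn v24435))))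
def v28122 : LQ := Led Lsl_ct K64.v7968
theorem f842901 : Led Lsl_ct K64.v7968 = v28122 :=
  Lrfl
theorem f669157 : Led Lsl_ft K53.v5776 = K64.v7968 :=
  Lgr Lrot48 (Lpr_ff (K64.f669154 IH) (Lpn K64.v7968))
def v4796 : LQ := Led Lsl_ct (LP (LK LD1_c2 LD2_c48 LD3_c26))
def v24530 : LQ := Led Lsl_gt v4796
theorem f824548 : Led Lsl_gt v4796 = v24530 :=
  Lrfl
theorem f639042 : Led Lsl_ct (LP (LK LD1_c2 LD2_c48 LD3_c26)) = v4796 :=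
  Lrfl
def v4543 : LQ := Led Lsl_ct (LP (LK LD1_c2 LD2_c26 LD3_c12))
theorem f636037 : Led Lsl_ct (LP (LK LD1_c2 LD2_c26 LD3_c12)) = v4543 :=
  Lrfl
theorem f636038 : Led Lsl_cf (LP (LK LD1_c2 LD2_c26 LD3_c12)) = v4543 :=
  Lgr Lrot11 (Lpr_ct (f636037 IH) (Lpn v4543))
theorem f639044 : Led Lsl_ef v4543 = v4796 :=
  Lgr Lrot28 (Lpe (f636038 IH) (Lpr_et (K30.f172553 IH) (Lpr_ct (f639042 IH) (Lpn v4796))))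
theorem f639045 : Led Lsl_et v4543 = v4796 :=
  Lgr Lrot87 (Lpr_ef (f639044 IH) (Lpn v4796))
def v4935 : LQ := Led Lsl_ct (LP (LK LD1_c2 LD2_c52 LD3_c58))
theorem f640972 : Led Lsl_ct (LP (LK LD1_c2 LD2_c52 LD3_c58)) = v4935 :=
  Lrfl
theorem f636040 : Led Lsl_gt K40.v1614 = v4543 :=
  Lgr Lrot65 (Lpe (K40.f500373 IH) (Lpr_bt (K36.f449349 IH) (Lpe (K37.f211803 IH) (Lpe (K39.f539907 IH) (Lpr_ct (K42.f422788 IH) (Lpr_gf (K42.f556374 IH) (Lpe (K42.f71470 IH) (Lpe (K42.f541361 IH) (Lpe (K30.f172581 IH) (Lpr_ct (f636037 IH) (Lpn v4543)))))))))))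
theorem f640977 : Led Lsl_dt v4543 = v4935 :=
  Lgr Lrot113 (Lpe (f636040 IH) (Lpr_df (K40.f500377 IH) (Lpe (K40.f500379 IH) (Lpe (K38.f494418 IH) (Lpr_gt (K10.f71419 IH) (Lpr_dt (K10.f175499 IH) (Lpr_gt (K10.f176716 IH) (Lpr_dt (K10.f178995 IH) (Lpr_ct (f640972 IH) (Lpn v4935))))))))))
theorem f193824 : Led Lsl_bt (LP (LK LD1_c6 LD2_c7 LD3_c45)) = (LP (LK LD1_c3 LD2_c0 LD3_c4)) :=
  Lre_b IH (LK LD1_c6 LD2_c7 LD3_c45) (LK LD1_c3 LD2_c0 LD3_c4) Lrfl Lrfl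
theorem f541576 : Led Lsl_bf (LP (LK LD1_c4 LD2_c38 LD3_c26)) = (LP (LK LD1_c2 LD2_c52 LD3_c58)) :=
  Lgr Lrot61 (Lpr_ft (K40.f541571 IH) (Lpr_bt (f193824 IH) (Lpe (K43.f385331 IH) (Lpn (LP (LK LD1_c2 LD2_c52 LD3_c58))))))
theorem f640978 : Led Lsl_gt K65.v4196 = v4935 :=
  Lgr Lrot65 (Lpe (K65.f631804 IH) (Lpr_bt (K42.f449369 IH) (Lpe (K42.f565271 IH) (Lpe (K43.f565277 IH) (Lpr_ct (K43.f565278 IH) (Lpe (K43.f176469 IH) (Lpe (K37.f176068 IH) (Lpe (K40.f176557 IH) (Lpr_bf (f541576 IH) (Lpr_ct (f640972 IH) (Lpn v4935)))))))))))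
theorem f536524 : Led Lsl_df K40.v442 = K65.v3022 :=
  Lgr Lrot38 (Lpr_dt (K65.f536522 IH) (Lpn K65.v3022))
theorem f631810 : Led Lsl_dt K40.v3019 = K65.v4196 :=
  Lgr Lrot113 (Lpe (K40.f536506 IH) (Lpr_df (f536524 IH) (Lpe (K65.f536530 IH) (Lpe (K40.f536507 IH) (Lpr_gt (K44.f418600 IH) (Lpr_dt (K10.f24579 IH) (Lpe (K9.f151830 IH) (Lpr_dt (K9.f151832 IH) (Lpr_ct (K65.f631804 IH) (Lpn K65.v4196))))))))))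
def v8030 : LQ := Led Lsl_dt K48.v1658
theorem f669712 : Led Lsl_dt K48.v1658 = v8030 :=
  Lrfl
theorem f669718 : Led Lsl_ct (LP (LK LD1_c4 LD2_c36 LD3_c34)) = v8030 :=
  Lgr Lrot151 (Lpr_gf (K24.f71380 IH) (Lpr_cf (K42.f641183 IH) (Lpe (K42.f641187 IH) (Lpr_dt (K48.f669550 IH) (Lpe (K48.f669557 IH) (Lpe (K48.f641198 IH) (Lpr_gt (K32.f23926 IH) (Lpr_ct (K48.f500597 IH) (Lpr_dt (f669712 IH) (Lpn v8030))))))))))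
theorem f669716 : Led Lsl_cf (LP (LK LD1_c4 LD2_c36 LD3_c34)) = v8030 :=
  Lgr Lrot116 (Lpr_dt (K2.f71358 IH) (Lpr_ct (K24.f452304 IH) (Lpr_dt (K11.f452305 IH) (Lpe (K59.f452300 IH) (Lpr_af (K32.f71354 IH) (Lpe (K2.f82226 IH) (Lpr_dt (K0.f23784 IH) (Lpr_ct (K48.f500597 IH) (Lpr_dt (f669712 IH) (Lpn v8030))))))))))
theorem f641204 : Led Lsl_ff K48.v1658 = K48.v4989 :=
  Lgr Lrot23 (Lpe (K65.f500598 IH) (Lpr_ft (K24.f71379 IH) (Lpr_ct (K48.f641202 IH) (Lpn K48.v4989))))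
theorem f641209 : Led Lsl_ft K48.v1658 = K48.v4989 :=
  Lgr Lrot48 (Lpr_ff (f641204 IH) (Lpn K48.v4989))
theorem f669719 : Led Lsl_at K48.v4989 = v8030 :=
  Lgr Lrot33 (Lpe (f641209 IH) (Lpr_dt (f669712 IH) (Lpe (f669716 IH) (Lpr_dt (K2.f71358 IH) (Lpr_ct (K24.f452304 IH) (Lpr_dt (K11.f452305 IH) (Lpe (K59.f452300 IH) (Lpr_dt (K32.f71385 IH) (Lpr_ct (f669718 IH) (Lpn v8030))))))))))
theorem f669720 : Led Lsl_gt K48.v8027 = v8030 :=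
  Lgr Lrot46 (Lpe (K48.f669682 IH) (Lpr_ft (f641209 IH) (Lpr_at (f669719 IH) (Lpn v8030))))
theorem f824549 : Led Lsl_et K65.v5775 = v24530 :=
  Lgr Lrot122 (Lpr_dt (K65.f669687 IH) (Lpr_gt (f669720 IH) (Lpe (f669712 IH) (Lpe (K65.f500599 IH) (Lpr_gt (K40.f536506 IH) (Lpr_dt (f631810 IH) (Lpr_gt (f640978 IH) (Lpe (f640977 IH) (Lpr_et (f639045 IH) (Lpr_gt (f824548 IH) (Lpn v24530)))))))))))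
theorem f824550 : Led Lsl_cf K53.v5776 = v24530 :=
  Lgr Lrot39 (Lpe (K53.f649309 IH) (Lpr_ct (K65.f649306 IH) (Lpr_et (f824549 IH) (Lpn v24530))))
theorem f842904 : Led Lsl_ff v24530 = v28122 :=
  Lgr Lrot23 (Lpe (f824550 IH) (Lpr_ft (f669157 IH) (Lpr_ct (f842901 IH) (Lpn v28122))))
def v28120 : LQ := Led Lsl_ct K64.v7967
theorem f842886 : Led Lsl_ct K64.v7967 = v28120 :=
  Lrfl
theorem f842889 : Led Lsl_ef K65.v7994 = v28120 :=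
  Lgr Lrot28 (Lpe (K65.f669542 IH) (Lpr_et (K64.f669149 IH) (Lpr_ct (f842886 IH) (Lpn v28120))))
theorem f649307 : Led Lsl_cf (LP (LK LD1_c3 LD2_c13 LD3_c13)) = K65.v5775 :=
  Lgr Lrot11 (Lpr_ct (K65.f649306 IH) (Lpn K65.v5775))
theorem f669541 : Led Lsl_af K65.v5775 = K65.v7994 :=
  Lgr Lrot68 (Lpe (f649307 IH) (Lpe (K64.f506247 IH) (Lpr_ct (K65.f669540 IH) (Lpn K65.v7994))))
theorem f842892 : Led Lsl_at v24530 = v28120 :=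
  Lgr Lrot80 (Lpe (f824549 IH) (Lpr_af (f669541 IH) (Lpr_ef (f842889 IH) (Lpn v28120))))
theorem f842893 : Led Lsl_et K65.v7994 = v28120 :=
  Lgr Lrot87 (Lpr_ef (f842889 IH) (Lpn v28120))
theorem f669543 : Led Lsl_df K48.v4914 = K65.v7994 :=
  Lgr Lrot43 (Lpe (K48.f640894 IH) (Lpr_dt (K24.f445621 IH) (Lpr_ct (K24.f82568 IH) (Lpr_dt (K24.f26282 IH) (Lpr_ct (K24.f438440 IH) (Lpr_dt (K64.f500321 IH) (Lpr_ct (K65.f669530 IH) (Lpe (K65.f669533 IH) (Lpe (K48.f640902 IH) (Lpe (K32.f438451 IH) (Lpr_ct (K32.f82588 IH) (Lpr_dt (K24.f82574 IH) (Lpe (K32.f445619 IH) (Lpr_dt (K64.f500334 IH) (Lpr_ct (K65.f669540 IH) (Lpn K65.v7994))))))))))))))))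
theorem f287475 : Led Lsl_ft (LP (LK LD1_c0 LD2_c39 LD3_c39)) = (LP (LK LD1_c0 LD2_c57 LD3_c3)) :=
  Lgr Lrot4 (Lpe (K9.f177789 IH) (Lpr_ff (K17.f287473 IH) (Lpe (K9.f56535 IH) (Lpn (LP (LK LD1_c0 LD2_c57 LD3_c3))))))
theorem f297029 : Led Lsl_ft (LP (LK LD1_c1 LD2_c56 LD3_c10)) = (LP (LK LD1_c1 LD2_c25 LD3_c49)) :=
  Lgr Lrot86 (Lpe (K10.f174599 IH) (Lpr_ff (K18.f297023 IH) (Lpe (K9.f56526 IH) (Lpe (f287475 IH) (Lpe (K16.f23029 IH) (Lpn (LP (LK LD1_c1 LD2_c25 LD3_c49))))))))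
theorem f640975 : Led Lsl_df v4543 = v4935 :=
  Lgr Lrot106 (Lpe (f636038 IH) (Lpr_dt (K10.f172580 IH) (Lpr_ct (K10.f179899 IH) (Lpe (K10.f179897 IH) (Lpr_ct (K11.f179908 IH) (Lpe (K45.f287491 IH) (Lpe (f297029 IH) (Lpr_dt (K10.f178995 IH) (Lpr_ct (f640972 IH) (Lpn v4935))))))))))
def v23795 : LQ := Led Lsl_ct K35.v4179
theorem f820499 : Led Lsl_ct K35.v4179 = v23795 :=
  Lrfl
theorem f631671 : Led Lsl_et (LP (LK LD1_c2 LD2_c52 LD3_c58)) = K35.v4179 :=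
  Lgr Lrot87 (Lpr_ef (K35.f631668 IH) (Lpn K35.v4179))
theorem f640974 : Led Lsl_cf (LP (LK LD1_c2 LD2_c52 LD3_c58)) = v4935 :=
  Lgr Lrot11 (Lpr_ct (f640972 IH) (Lpn v4935))
theorem f820502 : Led Lsl_ef v4935 = v23795 :=
  Lgr Lrot28 (Lpe (f640974 IH) (Lpr_et (f631671 IH) (Lpr_ct (f820499 IH) (Lpn v23795))))
theorem f820504 : Led Lsl_et v4935 = v23795 :=
  Lgr Lrot87 (Lpr_ef (f820502 IH) (Lpn v23795))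
theorem f842894 : Led Lsl_gt v23795 = v28120 :=
  Lgr Lrot131 (Lpe (f820504 IH) (Lpe (f640975 IH) (Lpe (f636040 IH) (Lpr_df (K40.f500377 IH) (Lpe (K40.f500379 IH) (Lpr_ef (K65.f631906 IH) (Lpr_dt (K48.f641208 IH) (Lpe (K57.f641207 IH) (Lpr_df (f669543 IH) (Lpr_et (f842893 IH) (Lpn v28120)))))))))))
theorem f842907 : Led Lsl_gf v23795 = v28122 :=
  Lgr Lrot47 (Lpr_gt (f842894 IH) (Lpe (f842892 IH) (Lpr_ff (f842904 IH) (Lpn v28122))))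
theorem f820501 : Led Lsl_cf K35.v4179 = v23795 :=
  Lgr Lrot11 (Lpr_ct (f820499 IH) (Lpn v23795))
theorem f319360 : Led Lsl_gf (LP (LK LD1_c4 LD2_c31 LD3_c12)) = (LP (LK LD1_c2 LD2_c45 LD3_c6)) :=
  Lgr Lrot76 (Lpr_af (K53.f319350 IH) (Lpe (K53.f319358 IH) (Lpr_gt (K65.f319359 IH) (Lpn (LP (LK LD1_c2 LD2_c45 LD3_c6))))))
theorem f380070 : Led Lsl_gf (LP (LK LD1_c4 LD2_c32 LD3_c6)) = (LP (LK LD1_c2 LD2_c46 LD3_c36)) :=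
  Lgr Lrot76 (Lpr_af (K50.f379996 IH) (Lpe (K24.f225737 IH) (Lpr_gt (K55.f171848 IH) (Lpn (LP (LK LD1_c2 LD2_c46 LD3_c36))))))
theorem f698280 : Led Lsl_gf K64.v7968 = K53.v12802 :=
  Lgr Lrot134 (Lpe (K64.f669155 IH) (Lpe (K64.f638897 IH) (Lpe (f380070 IH) (Lpe (K30.f380132 IH) (Lpr_dt (f380130 IH) (Lpe (f613357 IH) (Lpr_df (f613394 IH) (Lpr_et (f319365 IH) (Lpe (f319360 IH) (Lpr_dt (K53.f698276 IH) (Lpn K53.v12802)))))))))))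
theorem f319357 : Led Lsl_ft (LP (LK LD1_c4 LD2_c31 LD3_c12)) = (LP (LK LD1_c2 LD2_c12 LD3_c32)) :=
  Lre_f IH (LK LD1_c4 LD2_c31 LD3_c12) (LK LD1_c2 LD2_c12 LD3_c32) Lrfl Lrfl
theorem f319371 : Led Lsl_gt (LP (LK LD1_c4 LD2_c31 LD3_c12)) = (LP (LK LD1_c2 LD2_c45 LD3_c7)) :=
  Lgr Lrot5 (Lpr_ft (f319357 IH) (Lpr_at (K20.f319334 IH) (Lpe (K54.f171838 IH) (Lpn (LP (LK LD1_c2 LD2_c45 LD3_c7))))))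
theorem f842909 : v12710 = v4737 :=
  (Llr Lrot104 (Lpe (f697756 IH) (Lpr_ct (K13.f174640 IH) (Lpr_df (K35.f631667 IH) (Lpr_cf (f820501 IH) (Lpr_gf (f842907 IH) (Lpe (f842901 IH) (Lpr_gf (f698280 IH) (Lpe (K53.f698276 IH) (Lpr_gt (f319371 IH) (Lpr_ct (f638770 IH) (Lpn v4737)))))))))))).symm
theorem f842910 : (LP (LK LD1_c4 LD2_c29 LD3_c20)) = v24435 :=
  Lefun (Lecon (Lfl_gf (f697756 IH)) (f842909 IH)) (f823641 IH)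
def v4680 : LQ := Led Lsl_dt (LP (LK LD1_c2 LD2_c42 LD3_c32))
theorem f638459 : Led Lsl_dt (LP (LK LD1_c2 LD2_c42 LD3_c32)) = v4680 :=
  Lrfl
def v24328 : LQ := Led Lsl_gf v4680
theorem f823347 : Led Lsl_gf v4680 = v24328 :=
  Lrfl
theorem f842913 : Led Lsl_dt v15404 = v24328 :=
  Lgr Lrot136 (Lpe (f736147 IH) (Lpr_gf (f823640 IH) (Lpq (f842910 IH) (Lpe (K13.f174639 IH) (Lpr_dt (K9.f167783 IH) (Lpr_gf (K9.f177867 IH) (Lpe (K12.f225824 IH) (Lpr_gf (K12.f225924 IH) (Lpe (f174301 IH) (Lpr_dt (f638459 IH) (Lpr_gf (f823347 IH) (Lpn v24328))))))))))))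
theorem f638460 : Led Lsl_df (LP (LK LD1_c2 LD2_c42 LD3_c32)) = v4680 :=
  Lgr Lrot38 (Lpr_dt (f638459 IH) (Lpn v4680))
theorem f741448 : Led Lsl_cf (LP (LK LD1_c5 LD2_c46 LD3_c9)) = v15767 :=
  Lgr Lrot11 (Lpr_ct (f741447 IH) (Lpn v15767))
theorem f842915 : Led Lsl_gf v15404 = v15767 :=
  Lgr Lrot144 (Lpr_dt (f842913 IH) (Lpe (f823347 IH) (Lpe (f638460 IH) (Lpr_cf (K20.f174286 IH) (Lpe (K50.f68617 IH) (Lpe (K32.f68860 IH) (Lpr_df (K32.f225944 IH) (Lpe (K55.f639814 IH) (Lpr_cf (f741448 IH) (Lpn v15767))))))))))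
theorem f736146 : Led Lsl_cf (LP (LK LD1_c5 LD2_c38 LD3_c31)) = v15404 :=
  Lgr Lrot11 (Lpr_ct (f736145 IH) (Lpn v15404))
theorem f897181 : Led Lsl_cf (LP (LK LD1_c9 LD2_c1 LD3_c31)) = v37871 :=
  Lgr Lrot11 (Lpr_ct (f897179 IH) (Lpn v37871))
theorem f897988 : Led Lsl_gf v37871 = v37934 :=
  Lgr Lrot104 (Lpe (f897181 IH) (Lpr_df (f613394 IH) (Lpr_cf (f736146 IH) (Lpr_gf (f842915 IH) (Lpe (f741447 IH) (Lpe (K50.f698777 IH) (Lpe (f501091 IH) (Lpr_gt (K56.f281867 IH) (Lpr_ct (f897984 IH) (Lpn v37934))))))))))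
theorem f613577 : Led Lsl_ct (LP (LK LD1_c11 LD2_c12 LD3_c13)) = (LP (LK LD1_c5 LD2_c40 LD3_c50)) :=
  Lre_c IH (LK LD1_c11 LD2_c12 LD3_c13) (LK LD1_c5 LD2_c40 LD3_c50) Lrfl Lrfl
theorem f897182 : Led Lsl_ff (LP (LK LD1_c11 LD2_c12 LD3_c13)) = v37871 :=
  Lgr Lrot23 (Lpr_ct (f613577 IH) (Lpr_ft (f737790 IH) (Lpqs (f896718 IH) (Lpr_ct (f897179 IH) (Lpn v37871)))))
def v37870 : LQ := Led Lsl_ct (LP (LK LD1_c9 LD2_c1 LD3_c30))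
theorem f897168 : Led Lsl_ct (LP (LK LD1_c9 LD2_c1 LD3_c30)) = v37870 :=
  Lrfl
theorem f897170 : Led Lsl_cf (LP (LK LD1_c9 LD2_c1 LD3_c30)) = v37870 :=
  Lgr Lrot11 (Lpr_ct (f897168 IH) (Lpn v37870))
theorem f613350 : Led Lsl_ct (LP (LK LD1_c5 LD2_c40 LD3_c50)) = (LP (LK LD1_c11 LD2_c12 LD3_c13)) :=
  Lre_c IH (LK LD1_c5 LD2_c40 LD3_c50) (LK LD1_c11 LD2_c12 LD3_c13) Lrfl Lrfl
theorem f897178 : Led Lsl_at (LP (LK LD1_c11 LD2_c12 LD3_c13)) = v37870 :=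
  Lgr Lrot107 (Lpe (f613350 IH) (Lpr_af (f737787 IH) (Lpqs (f896730 IH) (Lpr_cf (f897170 IH) (Lpn v37870)))))
theorem f897171 : Led Lsl_ff (LP (LK LD1_c11 LD2_c12 LD3_c16)) = v37870 :=
  Lgr Lrot23 (Lpr_ct (f289462 IH) (Lpr_ft (f737788 IH) (Lpqs (f896730 IH) (Lpr_ct (f897168 IH) (Lpn v37870)))))
theorem f897183 : Led Lsl_at (LP (LK LD1_c11 LD2_c12 LD3_c16)) = v37871 :=
  Lgr Lrot66 (Lpr_ff (f897171 IH) (Lpe (f897178 IH) (Lpr_ff (f897182 IH) (Lpn v37871))))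
theorem f897989 : Led Lsl_gt v37870 = v37934 :=
  Lgr Lrot5 (Lpe (f897171 IH) (Lpr_at (f897183 IH) (Lpr_gf (f897988 IH) (Lpn v37934))))
theorem f698408 : Led Lsl_bt (LP (LK LD1_c4 LD2_c32 LD3_c18)) = (LP (LK LD1_c9 LD2_c2 LD3_c16)) :=
  Lre_b IH (LK LD1_c4 LD2_c32 LD3_c18) (LK LD1_c9 LD2_c2 LD3_c16) Lrfl Lrfl
def v37926 : LQ := Led Lsl_gf (LP (LK LD1_c9 LD2_c2 LD3_c16))
theorem f897638 : Led Lsl_gf (LP (LK LD1_c9 LD2_c2 LD3_c16)) = v37926 :=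
  Lrfl
theorem f897991 : v37926 = (LP (LK LD1_c16 LD2_c52 LD3_c28)) :=
  (Llr Lrot124 (Lpe (f897638 IH) (Lpe (f698408 IH) (Lpr_ct (f698420 IH) (Lpqs (f897325 IH) (Lpe (f697964 IH) (Lpe (K64.f390222 IH) (Lpr_bt (K64.f380646 IH) (Lpr_gt (f390229 IH) (Lpr_ct (f897168 IH) (Lpr_gt (f897989 IH) (Lpe (f897984 IH) (Lpr_bt (K66.f281864 IH) (Lpn (LP (LK LD1_c16 LD2_c52 LD3_c28)))))))))))))))).symm
theorem f897993 : Led Lsl_gt (LP (LK LD1_c16 LD2_c52 LD3_c28)) = (LP (LK LD1_c9 LD2_c2 LD3_c16)) :=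
  Leop (Lpr_gf (f897638 IH) (Lpqs (f897991 IH) (Lpn (LP (LK LD1_c16 LD2_c52 LD3_c28)))))
theorem seed_2195 : LEOK LG_g (LK LD1_c16 LD2_c52 LD3_c28) :=
  Leoe_g (LK LD1_c16 LD2_c52 LD3_c28) (f897993 IH)
def v37972 : LQ := Led Lsl_dt (LP (LK LD1_c9 LD2_c3 LD3_c8))
theorem f898335 : Led Lsl_dt (LP (LK LD1_c9 LD2_c3 LD3_c8)) = v37972 :=
  Lrfl
theorem f547401 : Led Lsl_dt (LP (LK LD1_c16 LD2_c54 LD3_c22)) = (LP (LK LD1_c9 LD2_c3 LD3_c26)) :=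
  Lre_d IH (LK LD1_c16 LD2_c54 LD3_c22) (LK LD1_c9 LD2_c3 LD3_c26) Lrfl Lrfl
theorem f898338 : Led Lsl_gf (LP (LK LD1_c16 LD2_c54 LD3_c22)) = v37972 :=
  Lgr Lrot143 (Lpr_dt (f547401 IH) (Lpe (f383987 IH) (Lpe (K42.f547416 IH) (Lpqs (K41.f552530 IH) (Lpe (K41.f506337 IH) (Lpe (K41.f117779 IH) (Lpr_gf (f549879 IH) (Lpe (K41.f549332 IH) (Lpr_gt (K52.f561161 IH) (Lpr_dt (f898335 IH) (Lpn v37972)))))))))))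
theorem f579005 : Led Lsl_dt (LP (LK LD1_c9 LD2_c3 LD3_c26)) = (LP (LK LD1_c16 LD2_c54 LD3_c22)) :=
  Lre_d IH (LK LD1_c9 LD2_c3 LD3_c26) (LK LD1_c16 LD2_c54 LD3_c22) Lrfl Lrfl
theorem f598075 : Led Lsl_at (LP (LK LD1_c16 LD2_c54 LD3_c22)) = (LP (LK LD1_c9 LD2_c3 LD3_c43)) :=
  Lgr Lrot51 (Lpe (f579005 IH) (Lpr_af (f598068 IH) (Lpe (K38.f174815 IH) (Lpn (LP (LK LD1_c9 LD2_c3 LD3_c43))))))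
theorem f598115 : Led Lsl_af (LP (LK LD1_c16 LD2_c54 LD3_c22)) = (LP (LK LD1_c9 LD2_c3 LD3_c43)) :=
  Lgr Lrot0 (Lpr_at (f598075 IH) (Lpn (LP (LK LD1_c9 LD2_c3 LD3_c43))))
theorem f172352 : Led Lsl_ct (LP (LK LD1_c9 LD2_c3 LD3_c29)) = (LP (LK LD1_c4 LD2_c33 LD3_c7)) :=
  Lre_c IH (LK LD1_c9 LD2_c3 LD3_c29) (LK LD1_c4 LD2_c33 LD3_c7) Lrfl Lrfl
theorem f547394 : Led Lsl_ft (LP (LK LD1_c4 LD2_c33 LD3_c11)) = (LP (LK LD1_c9 LD2_c3 LD3_c29)) :=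
  Lgr Lrot4 (Lpe (K31.f174755 IH) (Lpr_ff (K38.f547390 IH) (Lpe (f172352 IH) (Lpn (LP (LK LD1_c9 LD2_c3 LD3_c29))))))
theorem f553534 : Led Lsl_at (LP (LK LD1_c9 LD2_c3 LD3_c29)) = (LP (LK LD1_c4 LD2_c33 LD3_c13)) :=
  Lgr Lrot26 (Lpe (f547394 IH) (Lpr_gt (K31.f174756 IH) (Lpr_gt (K39.f553526 IH) (Lpn (LP (LK LD1_c4 LD2_c33 LD3_c13))))))
theorem f172351 : Led Lsl_dt (LP (LK LD1_c16 LD2_c54 LD3_c26)) = (LP (LK LD1_c9 LD2_c3 LD3_c29)) :=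
  Lre_d IH (LK LD1_c16 LD2_c54 LD3_c26) (LK LD1_c9 LD2_c3 LD3_c29) Lrfl Lrfl
theorem f619139 : Led Lsl_af (LP (LK LD1_c16 LD2_c54 LD3_c26)) = (LP (LK LD1_c9 LD2_c3 LD3_c49)) :=
  Lgr Lrot117 (Lpr_dt (f172351 IH) (Lpr_at (f553534 IH) (Lpr_dt (K39.f547172 IH) (Lpn (LP (LK LD1_c9 LD2_c3 LD3_c49))))))
theorem f547165 : Led Lsl_dt (LP (LK LD1_c9 LD2_c3 LD3_c49)) = (LP (LK LD1_c4 LD2_c33 LD3_c13)) :=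
  Lre_d IH (LK LD1_c9 LD2_c3 LD3_c49) (LK LD1_c4 LD2_c33 LD3_c13) Lrfl Lrfl
theorem f598119 : Led Lsl_ff (LP (LK LD1_c16 LD2_c54 LD3_c22)) = (LP (LK LD1_c9 LD2_c3 LD3_c49)) :=
  Lgr Lrot103 (Lpr_at (f598075 IH) (Lpe (K38.f547428 IH) (Lpe (K38.f427586 IH) (Lpr_cf (K38.f547152 IH) (Lpe (K38.f212086 IH) (Lpe (K38.f60137 IH) (Lpe (K38.f547160 IH) (Lpe (K39.f547164 IH) (Lpe (f547165 IH) (Lpn (LP (LK LD1_c9 LD2_c3 LD3_c49))))))))))))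
theorem f598124 : Led Lsl_ft (LP (LK LD1_c16 LD2_c54 LD3_c22)) = (LP (LK LD1_c9 LD2_c3 LD3_c49)) :=
  Lgr Lrot48 (Lpr_ff (f598119 IH) (Lpn (LP (LK LD1_c9 LD2_c3 LD3_c49))))
theorem f619144 : Led Lsl_ft (LP (LK LD1_c16 LD2_c54 LD3_c26)) = (LP (LK LD1_c9 LD2_c3 LD3_c43)) :=
  Lgr Lrot101 (Lpr_af (f619139 IH) (Lpe (f598124 IH) (Lpr_af (f598115 IH) (Lpn (LP (LK LD1_c9 LD2_c3 LD3_c43))))))
theorem f898339 : Led Lsl_gt (LP (LK LD1_c16 LD2_c54 LD3_c26)) = v37972 :=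
  Lgr Lrot5 (Lpr_ft (f619144 IH) (Lpe (f598115 IH) (Lpr_gf (f898338 IH) (Lpn v37972))))
theorem f619146 : Led Lsl_bt (LP (LK LD1_c26 LD2_c50 LD3_c38)) = (LP (LK LD1_c16 LD2_c54 LD3_c26)) :=
  Lre_b IH (LK LD1_c26 LD2_c50 LD3_c38) (LK LD1_c16 LD2_c54 LD3_c26) Lrfl Lrfl
theorem f898337 : Led Lsl_df (LP (LK LD1_c9 LD2_c3 LD3_c8)) = v37972 :=
  Lgr Lrot38 (Lpr_dt (f898335 IH) (Lpn v37972))
theorem f276249 : Led Lsl_bt (LP (LK LD1_c10 LD2_c48 LD3_c39)) = (LP (LK LD1_c19 LD2_c32 LD3_c46)) :=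
  Lre_b IH (LK LD1_c10 LD2_c48 LD3_c39) (LK LD1_c19 LD2_c32 LD3_c46) Lrfl Lrfl
theorem f276240 : Led Lsl_bt (LP (LK LD1_c8 LD2_c53 LD3_c16)) = (LP (LK LD1_c4 LD2_c27 LD3_c42)) :=
  Lre_b IH (LK LD1_c8 LD2_c53 LD3_c16) (LK LD1_c4 LD2_c27 LD3_c42) Lrfl Lrfl
theorem f276245 : Led Lsl_ct (LP (LK LD1_c8 LD2_c53 LD3_c16)) = (LP (LK LD1_c4 LD2_c27 LD3_c52)) :=
  Lre_c IH (LK LD1_c8 LD2_c53 LD3_c16) (LK LD1_c4 LD2_c27 LD3_c52) Lrfl Lrfl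
theorem f276246 : Led Lsl_gt (LP (LK LD1_c8 LD2_c53 LD3_c37)) = (LP (LK LD1_c4 LD2_c27 LD3_c52)) :=
  Lre_g IH (LK LD1_c8 LD2_c53 LD3_c37) (LK LD1_c4 LD2_c27 LD3_c52) Lrfl Lrfl
theorem f276247 : Led Lsl_ct (LP (LK LD1_c16 LD2_c37 LD3_c54)) = (LP (LK LD1_c8 LD2_c53 LD3_c37)) :=
  Lre_c IH (LK LD1_c16 LD2_c37 LD3_c54) (LK LD1_c8 LD2_c53 LD3_c37) Lrfl Lrfl
theorem f276250 : Led Lsl_gf (LP (LK LD1_c16 LD2_c37 LD3_c54)) = (LP (LK LD1_c19 LD2_c32 LD3_c46)) :=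
  Lgr Lrot181 (Lpr_ct (f276247 IH) (Lpr_gt (f276246 IH) (Lpe (f276245 IH) (Lpr_bt (f276240 IH) (Lpr_gt (K16.f276231 IH) (Lpr_bf (K14.f226764 IH) (Lpr_ct (K27.f226820 IH) (Lpr_gt (K30.f226773 IH) (Lpe (K30.f276248 IH) (Lpr_bt (f276249 IH) (Lpn (LP (LK LD1_c19 LD2_c32 LD3_c46)))))))))))))
theorem f276255 : Led Lsl_dt (LP (LK LD1_c16 LD2_c37 LD3_c54)) = (LP (LK LD1_c26 LD2_c35 LD3_c29)) :=
  Lre_d IH (LK LD1_c16 LD2_c37 LD3_c54) (LK LD1_c26 LD2_c35 LD3_c29) Lrfl Lrfl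
theorem f898340 : Led Lsl_cf (LP (LK LD1_c26 LD2_c50 LD3_c38)) = (LP (LK LD1_c26 LD2_c35 LD3_c29)) :=
  Lgr Lrot89 (Lpr_bt (f619146 IH) (Lpr_gt (f898339 IH) (Lpe (f898337 IH) (Lpe (K52.f561162 IH) (Lpr_bt (K52.f547784 IH) (Lpe (K52.f561165 IH) (Lpr_dt (K30.f174837 IH) (Lpr_ct (K10.f181460 IH) (Lpr_bt (K10.f174895 IH) (Lpe (K9.f174886 IH) (Lpr_dt (K1.f40991 IH) (Lpr_ct (K1.f40983 IH) (Lpr_bt (K20.f40985 IH) (Lpr_gt (K20.f140450 IH) (Lpe (K30.f384263 IH) (Lpr_ct (K30.f276259 IH) (Lpr_bt (f276249 IH) (Lpe (f276250 IH) (Lpr_dt (f276255 IH) (Lpn (LP (LK LD1_c26 LD2_c35 LD3_c29))))))))))))))))))))))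
theorem f898341 : Led Lsl_ct (LP (LK LD1_c26 LD2_c35 LD3_c29)) = (LP (LK LD1_c26 LD2_c50 LD3_c38)) :=
  Leop (Lpr_cf (f898340 IH) (Lpn (LP (LK LD1_c26 LD2_c35 LD3_c29))))
theorem seed_2196 : LEOK LG_c (LK LD1_c26 LD2_c35 LD3_c29) :=
  Leoe_c (LK LD1_c26 LD2_c35 LD3_c29) (f898341 IH)
def v37975 : LQ := Led Lsl_gf (LP (LK LD1_c9 LD2_c3 LD3_c11))
theorem f898377 : Led Lsl_gf (LP (LK LD1_c9 LD2_c3 LD3_c11)) = v37975 :=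
  Lrfl
theorem f549331 : Led Lsl_dt (LP (LK LD1_c9 LD2_c3 LD3_c11)) = (LP (LK LD1_c4 LD2_c32 LD3_c58)) :=
  Lre_d IH (LK LD1_c9 LD2_c3 LD3_c11) (LK LD1_c4 LD2_c32 LD3_c58) Lrfl Lrfl
theorem f898379 : Led Lsl_dt (LP (LK LD1_c9 LD2_c3 LD3_c41)) = v37975 :=
  Lgr Lrot57 (Lpe (K39.f549329 IH) (Lpe (K39.f211919 IH) (Lpr_gt (K38.f100416 IH) (Lpr_dt (K31.f174816 IH) (Lpr_gt (K31.f174809 IH) (Lpr_dt (K40.f177895 IH) (Lpe (K41.f549332 IH) (Lpe (f549331 IH) (Lpr_gf (f898377 IH) (Lpn v37975))))))))))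
theorem f706406 : Led Lsl_dt (LP (LK LD1_c9 LD2_c4 LD3_c12)) = (LP (LK LD1_c16 LD2_c55 LD3_c43)) :=
  Lre_d IH (LK LD1_c9 LD2_c4 LD3_c12) (LK LD1_c16 LD2_c55 LD3_c43) Lrfl Lrfl
theorem f713584 : Led Lsl_gt (LP (LK LD1_c16 LD2_c55 LD3_c43)) = (LP (LK LD1_c26 LD2_c52 LD3_c7)) :=
  Lre_g IH (LK LD1_c16 LD2_c55 LD3_c43) (LK LD1_c26 LD2_c52 LD3_c7) Lrfl Lrfl
def v37919 : LQ := Led Lsl_dt (LP (LK LD1_c9 LD2_c2 LD3_c13))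
theorem f897602 : Led Lsl_dt (LP (LK LD1_c9 LD2_c2 LD3_c13)) = v37919 :=
  Lrfl
theorem f566547 : Led Lsl_af (LP (LK LD1_c9 LD2_c2 LD3_c13)) = (LP (LK LD1_c4 LD2_c32 LD3_c58)) :=
  Lgr Lrot0 (Lpr_at (K41.f566545 IH) (Lpn (LP (LK LD1_c4 LD2_c32 LD3_c58))))
theorem f897603 : Led Lsl_af (LP (LK LD1_c9 LD2_c3 LD3_c11)) = v37919 :=
  Lgr Lrot117 (Lpr_dt (f549331 IH) (Lpe (f566547 IH) (Lpr_dt (f897602 IH) (Lpn v37919))))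
def v12838 : LQ := Led Lsl_dt (LP (LK LD1_c4 LD2_c33 LD3_c2))
theorem f698483 : Led Lsl_dt (LP (LK LD1_c4 LD2_c33 LD3_c2)) = v12838 :=
  Lrfl
theorem f698484 : Led Lsl_df (LP (LK LD1_c4 LD2_c33 LD3_c2)) = v12838 :=
  Lgr Lrot38 (Lpr_dt (f698483 IH) (Lpn v12838))
theorem f897605 : Led Lsl_ff v12838 = v37919 :=
  Lgr Lrot19 (Lpe (f698484 IH) (Lpe (K41.f566553 IH) (Lpr_dt (f897602 IH) (Lpn v37919))))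
theorem f897606 : Led Lsl_ft v12838 = v37919 :=
  Lgr Lrot48 (Lpr_ff (f897605 IH) (Lpn v37919))
theorem f898378 : Led Lsl_gt v12838 = v37975 :=
  Lgr Lrot5 (Lpr_ft (f897606 IH) (Lpe (f897603 IH) (Lpr_gf (f898377 IH) (Lpn v37975))))
theorem f589430 : Led Lsl_et (LP (LK LD1_c4 LD2_c33 LD3_c2)) = (LP (LK LD1_c9 LD2_c3 LD3_c20)) :=
  Lre_e IH (LK LD1_c4 LD2_c33 LD3_c2) (LK LD1_c9 LD2_c3 LD3_c20) Lrfl Lrfl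
theorem f580483 : Led Lsl_gt (LP (LK LD1_c16 LD2_c54 LD3_c9)) = (LP (LK LD1_c9 LD2_c3 LD3_c20)) :=
  Lre_g IH (LK LD1_c16 LD2_c54 LD3_c9) (LK LD1_c9 LD2_c3 LD3_c20) Lrfl Lrfl
theorem f698485 : Led Lsl_et (LP (LK LD1_c26 LD2_c50 LD3_c26)) = (LP (LK LD1_c16 LD2_c54 LD3_c9)) :=
  Lre_e IH (LK LD1_c26 LD2_c50 LD3_c26) (LK LD1_c16 LD2_c54 LD3_c9) Lrfl Lrfl
theorem f898381 : Led Lsl_df (LP (LK LD1_c26 LD2_c52 LD3_c7)) = (LP (LK LD1_c26 LD2_c50 LD3_c26)) :=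
  Lgr Lrot132 (Lpe (f713584 IH) (Lpe (f706406 IH) (Lpe (K60.f713039 IH) (Lpe (K52.f549326 IH) (Lpr_dt (f898379 IH) (Lpe (f898378 IH) (Lpe (f698483 IH) (Lpr_et (f589430 IH) (Lpe (f580483 IH) (Lpe (f698485 IH) (Lpn (LP (LK LD1_c26 LD2_c50 LD3_c26)))))))))))))
theorem f898382 : Led Lsl_dt (LP (LK LD1_c26 LD2_c50 LD3_c26)) = (LP (LK LD1_c26 LD2_c52 LD3_c7)) :=
  Leop (Lpr_df (f898381 IH) (Lpn (LP (LK LD1_c26 LD2_c50 LD3_c26))))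
theorem seed_2197 : LEOK LG_d (LK LD1_c26 LD2_c50 LD3_c26) :=
  Leoe_d (LK LD1_c26 LD2_c50 LD3_c26) (f898382 IH)
def v37986 : LQ := Led Lsl_gt (LP (LK LD1_c9 LD2_c3 LD3_c22))
theorem f898464 : Led Lsl_gt (LP (LK LD1_c9 LD2_c3 LD3_c22)) = v37986 :=
  Lrfl
theorem f546695 : Led Lsl_dt (LP (LK LD1_c4 LD2_c33 LD3_c3)) = (LP (LK LD1_c9 LD2_c3 LD3_c22)) :=
  Lre_d IH (LK LD1_c4 LD2_c33 LD3_c3) (LK LD1_c9 LD2_c3 LD3_c22) Lrfl Lrfl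
theorem f140677 : Led Lsl_et (LP (LK LD1_c21 LD2_c9 LD3_c26)) = (LP (LK LD1_c12 LD2_c3 LD3_c48)) :=
  Lre_e IH (LK LD1_c21 LD2_c9 LD3_c26) (LK LD1_c12 LD2_c3 LD3_c48) Lrfl Lrfl
theorem f898466 : Led Lsl_dt (LP (LK LD1_c21 LD2_c9 LD3_c26)) = v37986 :=
  Lgr Lrot56 (Lpr_et (f140677 IH) (Lpr_gt (K60.f706389 IH) (Lpe (K52.f559994 IH) (Lpr_dt (K45.f140533 IH) (Lpr_gt (K45.f140534 IH) (Lpe (K45.f140547 IH) (Lpr_et (K46.f140552 IH) (Lpr_gt (K46.f563562 IH) (Lpr_dt (f546695 IH) (Lpr_gt (f898464 IH) (Lpn v37986)))))))))))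
theorem f898468 : Led Lsl_df (LP (LK LD1_c21 LD2_c9 LD3_c26)) = v37986 :=
  Lgr Lrot38 (Lpr_dt (f898466 IH) (Lpn v37986))
theorem f780992 : Led Lsl_et (LP (LK LD1_c17 LD2_c7 LD3_c35)) = (LP (LK LD1_c27 LD2_c0 LD3_c48)) :=
  Lre_e IH (LK LD1_c17 LD2_c7 LD3_c35) (LK LD1_c27 LD2_c0 LD3_c48) Lrfl Lrfl
theorem f780993 : Led Lsl_at (LP (LK LD1_c27 LD2_c0 LD3_c48)) = (LP (LK LD1_c21 LD2_c9 LD3_c26)) :=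
  Lgr Lrot80 (Lpe (f780992 IH) (Lpr_af (K60.f780986 IH) (Lpe (f140677 IH) (Lpn (LP (LK LD1_c21 LD2_c9 LD3_c26))))))
theorem f780995 : Led Lsl_af (LP (LK LD1_c27 LD2_c0 LD3_c48)) = (LP (LK LD1_c21 LD2_c9 LD3_c26)) :=
  Lgr Lrot0 (Lpr_at (f780993 IH) (Lpn (LP (LK LD1_c21 LD2_c9 LD3_c26))))
theorem f141871 : Led Lsl_dt (LP (LK LD1_c27 LD2_c0 LD3_c48)) = (LP (LK LD1_c17 LD2_c7 LD3_c34)) :=
  Lre_d IH (LK LD1_c27 LD2_c0 LD3_c48) (LK LD1_c17 LD2_c7 LD3_c34) Lrfl Lrfl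
theorem f898469 : Led Lsl_at (LP (LK LD1_c17 LD2_c7 LD3_c34)) = v37986 :=
  Lgr Lrot51 (Lpe (f141871 IH) (Lpr_af (f780995 IH) (Lpr_df (f898468 IH) (Lpn v37986))))
theorem f546696 : Led Lsl_gt (LP (LK LD1_c16 LD2_c54 LD3_c14)) = (LP (LK LD1_c9 LD2_c3 LD3_c22)) :=
  Lre_g IH (LK LD1_c16 LD2_c54 LD3_c14) (LK LD1_c9 LD2_c3 LD3_c22) Lrfl Lrfl
theorem f898470 : Led Lsl_ff (LP (LK LD1_c17 LD2_c7 LD3_c34)) = (LP (LK LD1_c16 LD2_c54 LD3_c14)) :=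
  Lgr Lrot52 (Lpr_at (f898469 IH) (Lpe (f898464 IH) (Lpe (f546696 IH) (Lpn (LP (LK LD1_c16 LD2_c54 LD3_c14))))))
theorem f898471 : Led Lsl_ft (LP (LK LD1_c16 LD2_c54 LD3_c14)) = (LP (LK LD1_c17 LD2_c7 LD3_c34)) :=
  Leop (Lpr_ff (f898470 IH) (Lpn (LP (LK LD1_c16 LD2_c54 LD3_c14))))
theorem seed_2198 : LEOK LG_f (LK LD1_c16 LD2_c54 LD3_c14) :=
  Leoe_f (LK LD1_c16 LD2_c54 LD3_c14) (f898471 IH)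
def v37996 : LQ := Led Lsl_gt (LP (LK LD1_c9 LD2_c3 LD3_c39))
theorem f898555 : Led Lsl_gt (LP (LK LD1_c9 LD2_c3 LD3_c39)) = v37996 :=
  Lrfl
theorem f547466 : Led Lsl_et (LP (LK LD1_c4 LD2_c33 LD3_c10)) = (LP (LK LD1_c9 LD2_c3 LD3_c39)) :=
  Lre_e IH (LK LD1_c4 LD2_c33 LD3_c10) (LK LD1_c9 LD2_c3 LD3_c39) Lrfl Lrfl
theorem f572240 : Led Lsl_et (LP (LK LD1_c5 LD2_c41 LD3_c58)) = (LP (LK LD1_c2 LD2_c46 LD3_c60)) :=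
  Lre_e IH (LK LD1_c5 LD2_c41 LD3_c58) (LK LD1_c2 LD2_c46 LD3_c60) Lrfl Lrfl
theorem f174378 : Led Lsl_dt (LP (LK LD1_c5 LD2_c41 LD3_c58)) = (LP (LK LD1_c2 LD2_c46 LD3_c58)) :=
  Lre_d IH (LK LD1_c5 LD2_c41 LD3_c58) (LK LD1_c2 LD2_c46 LD3_c58) Lrfl Lrfl
theorem f174309 : Led Lsl_gt (LP (LK LD1_c5 LD2_c41 LD3_c57)) = (LP (LK LD1_c2 LD2_c46 LD3_c58)) :=
  Lre_g IH (LK LD1_c5 LD2_c41 LD3_c57) (LK LD1_c2 LD2_c46 LD3_c58) Lrfl Lrfl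
theorem f566501 : Led Lsl_dt (LP (LK LD1_c11 LD2_c14 LD3_c12)) = (LP (LK LD1_c5 LD2_c41 LD3_c57)) :=
  Lre_d IH (LK LD1_c11 LD2_c14 LD3_c12) (LK LD1_c5 LD2_c41 LD3_c57) Lrfl Lrfl
theorem f898557 : Led Lsl_et (LP (LK LD1_c11 LD2_c14 LD3_c12)) = v37996 :=
  Lgr Lrot122 (Lpr_dt (f566501 IH) (Lpr_gt (f174309 IH) (Lpe (f174378 IH) (Lpr_et (f572240 IH) (Lpr_gt (K42.f572313 IH) (Lpr_dt (K6.f132963 IH) (Lpr_gt (K38.f112363 IH) (Lpr_df (K38.f547464 IH) (Lpr_et (f547466 IH) (Lpr_gt (f898555 IH) (Lpn v37996)))))))))))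
theorem f281836 : Led Lsl_dt (LP (LK LD1_c5 LD2_c41 LD3_c57)) = (LP (LK LD1_c11 LD2_c14 LD3_c12)) :=
  Lre_d IH (LK LD1_c5 LD2_c41 LD3_c57) (LK LD1_c11 LD2_c14 LD3_c12) Lrfl Lrfl
theorem f411910 : Led Lsl_et (LP (LK LD1_c11 LD2_c14 LD3_c13)) = (LP (LK LD1_c5 LD2_c41 LD3_c57)) :=
  Lre_e IH (LK LD1_c11 LD2_c14 LD3_c13) (LK LD1_c5 LD2_c41 LD3_c57) Lrfl Lrfl
theorem f898558 : Led Lsl_dt (LP (LK LD1_c20 LD2_c9 LD3_c10)) = (LP (LK LD1_c11 LD2_c14 LD3_c13)) :=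
  Lre_d IH (LK LD1_c20 LD2_c9 LD3_c10) (LK LD1_c11 LD2_c14 LD3_c13) Lrfl Lrfl
theorem f132977 : Led Lsl_et (LP (LK LD1_c3 LD2_c5 LD3_c0)) = (LP (LK LD1_c6 LD2_c15 LD3_c49)) :=
  Lre_e IH (LK LD1_c3 LD2_c5 LD3_c0) (LK LD1_c6 LD2_c15 LD3_c49) Lrfl Lrfl
def v17135 : LQ := Led Lsl_et (LP (LK LD1_c6 LD2_c12 LD3_c11))
theorem f756286 : Led Lsl_et (LP (LK LD1_c6 LD2_c12 LD3_c11)) = v17135 :=
  Lrfl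
theorem f756289 : Led Lsl_ef (LP (LK LD1_c6 LD2_c12 LD3_c11)) = v17135 :=
  Lgr Lrot88 (Lpr_et (f756286 IH) (Lpn v17135))
theorem f509866 : Led Lsl_dt (LP (LK LD1_c4 LD2_c49 LD3_c16)) = (LP (LK LD1_c2 LD2_c22 LD3_c26)) :=
  Lre_d IH (LK LD1_c4 LD2_c49 LD3_c16) (LK LD1_c2 LD2_c22 LD3_c26) Lrfl Lrfl
theorem f510320 : Led Lsl_et (LP (LK LD1_c9 LD2_c31 LD3_c19)) = (LP (LK LD1_c4 LD2_c49 LD3_c16)) :=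
  Lre_e IH (LK LD1_c9 LD2_c31 LD3_c19) (LK LD1_c4 LD2_c49 LD3_c16) Lrfl Lrfl
theorem f756288 : Led Lsl_df (LP (LK LD1_c9 LD2_c31 LD3_c19)) = v17135 :=
  Lgr Lrot70 (Lpr_et (f510320 IH) (Lpr_dt (f509866 IH) (Lpr_et (K52.f634158 IH) (Lpe (K52.f634162 IH) (Lpr_et (f756286 IH) (Lpn v17135))))))
theorem f510410 : Led Lsl_gt (LP (LK LD1_c17 LD2_c33 LD3_c9)) = (LP (LK LD1_c9 LD2_c31 LD3_c19)) :=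
  Lre_g IH (LK LD1_c17 LD2_c33 LD3_c9) (LK LD1_c9 LD2_c31 LD3_c19) Lrfl Lrfl
theorem f898556 : Led Lsl_df (LP (LK LD1_c17 LD2_c33 LD3_c9)) = v37996 :=
  Lgr Lrot135 (Lpr_gt (f510410 IH) (Lpr_df (f756288 IH) (Lpe (f756289 IH) (Lpe (K54.f739147 IH) (Lpe (f132977 IH) (Lpr_dt (K6.f132963 IH) (Lpr_gt (K38.f112363 IH) (Lpr_df (K38.f547464 IH) (Lpr_et (f547466 IH) (Lpr_gt (f898555 IH) (Lpn v37996)))))))))))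
theorem f898559 : Led Lsl_ef (LP (LK LD1_c20 LD2_c9 LD3_c10)) = (LP (LK LD1_c17 LD2_c33 LD3_c9)) :=
  Lgr Lrot73 (Lpr_dt (f898558 IH) (Lpr_et (f411910 IH) (Lpr_dt (f281836 IH) (Lpr_et (f898557 IH) (Lpe (f898556 IH) (Lpn (LP (LK LD1_c17 LD2_c33 LD3_c9))))))))
theorem f898560 : Led Lsl_et (LP (LK LD1_c17 LD2_c33 LD3_c9)) = (LP (LK LD1_c20 LD2_c9 LD3_c10)) :=
  Leop (Lpr_ef (f898559 IH) (Lpn (LP (LK LD1_c17 LD2_c33 LD3_c9))))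
theorem seed_2199 : LEOK LG_e (LK LD1_c17 LD2_c33 LD3_c9) :=
  Leoe_e (LK LD1_c17 LD2_c33 LD3_c9) (f898560 IH)
def v37998 : LQ := Led Lsl_dt (LP (LK LD1_c9 LD2_c3 LD3_c39))
theorem f898566 : Led Lsl_dt (LP (LK LD1_c9 LD2_c3 LD3_c39)) = v37998 :=
  Lrfl
theorem f898570 : Led Lsl_ef (LP (LK LD1_c9 LD2_c8 LD3_c8)) = v37998 :=
  Lgr Lrot73 (Lpr_dt (K39.f112371 IH) (Lpr_et (K39.f112364 IH) (Lpr_dt (K38.f547457 IH) (Lpr_et (f547466 IH) (Lpr_dt (f898566 IH) (Lpn v37998))))))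
theorem f510335 : Led Lsl_et (LP (LK LD1_c4 LD2_c49 LD3_c16)) = (LP (LK LD1_c9 LD2_c31 LD3_c19)) :=
  Lre_e IH (LK LD1_c4 LD2_c49 LD3_c16) (LK LD1_c9 LD2_c31 LD3_c19) Lrfl Lrfl
theorem f510409 : Led Lsl_gt (LP (LK LD1_c9 LD2_c31 LD3_c19)) = (LP (LK LD1_c17 LD2_c33 LD3_c8)) :=
  Lre_g IH (LK LD1_c9 LD2_c31 LD3_c19) (LK LD1_c17 LD2_c33 LD3_c8) Lrfl Lrfl
theorem f898569 : Led Lsl_df (LP (LK LD1_c9 LD2_c3 LD3_c39)) = v37998 :=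
  Lgr Lrot38 (Lpr_dt (f898566 IH) (Lpn v37998))
def v37997 : LQ := Led Lsl_gf (LP (LK LD1_c9 LD2_c3 LD3_c39))
theorem f898565 : Led Lsl_gf (LP (LK LD1_c9 LD2_c3 LD3_c39)) = v37997 :=
  Lrfl
theorem f898574 : Led Lsl_dt (LP (LK LD1_c17 LD2_c33 LD3_c8)) = v37997 :=
  Lgr Lrot171 (Lpe (f510409 IH) (Lpe (f510335 IH) (Lpr_dt (f509866 IH) (Lpq (K54.f739129 IH) (Lpe (K54.f699979 IH) (Lpr_df (K52.f699984 IH) (Lpe (K52.f699985 IH) (Lpe (K39.f37858 IH) (Lpr_ef (f898570 IH) (Lpe (f898569 IH) (Lpr_gf (f898565 IH) (Lpn v37997))))))))))))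
theorem f175381 : Led Lsl_dt (LP (LK LD1_c2 LD2_c57 LD3_c51)) = (LP (LK LD1_c1 LD2_c24 LD3_c37)) :=
  Lre_d IH (LK LD1_c2 LD2_c57 LD3_c51) (LK LD1_c1 LD2_c24 LD3_c37) Lrfl Lrfl
theorem f175370 : Led Lsl_gt (LP (LK LD1_c6 LD2_c3 LD3_c28)) = (LP (LK LD1_c11 LD2_c50 LD3_c39)) :=
  Lre_g IH (LK LD1_c6 LD2_c3 LD3_c28) (LK LD1_c11 LD2_c50 LD3_c39) Lrfl Lrfl
theorem f898578 : Led Lsl_et (LP (LK LD1_c17 LD2_c33 LD3_c8)) = (LP (LK LD1_c11 LD2_c50 LD3_c39)) :=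
  Lgr Lrot122 (Lpr_dt (f898574 IH) (Lpe (f898565 IH) (Lpr_df (f898569 IH) (Lpe (f898570 IH) (Lpr_gt (K39.f37858 IH) (Lpr_dt (K40.f37857 IH) (Lpq (K35.f538268 IH) (Lpe (K35.f501199 IH) (Lpe (f175381 IH) (Lpr_et (K42.f175360 IH) (Lpr_gt (f175370 IH) (Lpn (LP (LK LD1_c11 LD2_c50 LD3_c39))))))))))))))
theorem f898579 : Led Lsl_et (LP (LK LD1_c17 LD2_c33 LD3_c8)) = (LP (LK LD1_c11 LD2_c50 LD3_c39)) :=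
  Leop (Lpe (f898578 IH) (Lpn (LP (LK LD1_c17 LD2_c33 LD3_c8))))
theorem seed_2200 : LEOK LG_e (LK LD1_c17 LD2_c33 LD3_c8) :=
  Leoe_e (LK LD1_c17 LD2_c33 LD3_c8) (f898579 IH)
def v38012 : LQ := Led Lsl_dt (LP (LK LD1_c9 LD2_c3 LD3_c52))
theorem f898647 : Led Lsl_dt (LP (LK LD1_c9 LD2_c3 LD3_c52)) = v38012 :=
  Lrfl
theorem f547418 : Led Lsl_ft (LP (LK LD1_c4 LD2_c33 LD3_c14)) = (LP (LK LD1_c9 LD2_c3 LD3_c52)) :=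
  Lre_f IH (LK LD1_c4 LD2_c33 LD3_c14) (LK LD1_c9 LD2_c3 LD3_c52) Lrfl Lrfl
def v12842 : LQ := Led Lsl_dt (LP (LK LD1_c4 LD2_c33 LD3_c14))
theorem f698513 : Led Lsl_dt (LP (LK LD1_c4 LD2_c33 LD3_c14)) = v12842 :=
  Lrfl
theorem f698516 : Led Lsl_df (LP (LK LD1_c4 LD2_c33 LD3_c14)) = v12842 :=
  Lgr Lrot38 (Lpr_dt (f698513 IH) (Lpn v12842))
theorem f898650 : Led Lsl_ff v12842 = v38012 :=
  Lgr Lrot19 (Lpe (f698516 IH) (Lpr_ft (f547418 IH) (Lpr_dt (f898647 IH) (Lpn v38012))))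
theorem f898654 : Led Lsl_ft v12842 = v38012 :=
  Lgr Lrot48 (Lpr_ff (f898650 IH) (Lpn v38012))
theorem f547168 : Led Lsl_et (LP (LK LD1_c2 LD2_c13 LD3_c34)) = (LP (LK LD1_c4 LD2_c33 LD3_c14)) :=
  Lre_e IH (LK LD1_c2 LD2_c13 LD3_c34) (LK LD1_c4 LD2_c33 LD3_c14) Lrfl Lrfl
theorem f698517 : Led Lsl_ef (LP (LK LD1_c5 LD2_c6 LD3_c51)) = v12842 :=
  Lgr Lrot73 (Lpe (K36.f194022 IH) (Lpr_et (K44.f193984 IH) (Lpe (K38.f547166 IH) (Lpr_et (f547168 IH) (Lpr_dt (f698513 IH) (Lpn v12842))))))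
theorem f698523 : Led Lsl_et (LP (LK LD1_c5 LD2_c6 LD3_c51)) = v12842 :=
  Lgr Lrot87 (Lpr_ef (f698517 IH) (Lpn v12842))
theorem f542726 : Led Lsl_ft (LP (LK LD1_c17 LD2_c9 LD3_c35)) = (LP (LK LD1_c9 LD2_c15 LD3_c5)) :=
  Lre_f IH (LK LD1_c17 LD2_c9 LD3_c35) (LK LD1_c9 LD2_c15 LD3_c5) Lrfl Lrfl
theorem f898655 : Led Lsl_ef (LP (LK LD1_c17 LD2_c9 LD3_c35)) = v38012 :=
  Lgr Lrot21 (Lpr_ft (f542726 IH) (Lpr_et (K36.f542682 IH) (Lpe (K40.f542661 IH) (Lpr_et (f698523 IH) (Lpr_ft (f898654 IH) (Lpn v38012))))))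
theorem f898649 : Led Lsl_df (LP (LK LD1_c9 LD2_c3 LD3_c52)) = v38012 :=
  Lgr Lrot38 (Lpr_dt (f898647 IH) (Lpn v38012))
theorem f494163 : Led Lsl_et (LP (LK LD1_c9 LD2_c3 LD3_c30)) = (LP (LK LD1_c4 LD2_c33 LD3_c7)) :=
  Lre_e IH (LK LD1_c9 LD2_c3 LD3_c30) (LK LD1_c4 LD2_c33 LD3_c7) Lrfl Lrfl
theorem f547379 : Led Lsl_at (LP (LK LD1_c4 LD2_c33 LD3_c14)) = (LP (LK LD1_c9 LD2_c3 LD3_c30)) :=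
  Lgr Lrot80 (Lpe (f547168 IH) (Lpr_af (K38.f547371 IH) (Lpe (f494163 IH) (Lpn (LP (LK LD1_c9 LD2_c3 LD3_c30))))))
theorem f547427 : Led Lsl_ft (LP (LK LD1_c9 LD2_c3 LD3_c52)) = (LP (LK LD1_c4 LD2_c33 LD3_c14)) :=
  Lre_f IH (LK LD1_c9 LD2_c3 LD3_c52) (LK LD1_c4 LD2_c33 LD3_c14) Lrfl Lrfl
theorem f741011 : Led Lsl_dt (LP (LK LD1_c11 LD2_c21 LD3_c33)) = (LP (LK LD1_c5 LD2_c45 LD3_c32)) :=
  Lre_d IH (LK LD1_c11 LD2_c21 LD3_c33) (LK LD1_c5 LD2_c45 LD3_c32) Lrfl Lrfl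
def v15706 : LQ := Led Lsl_gt (LP (LK LD1_c5 LD2_c45 LD3_c32))
theorem f741010 : Led Lsl_gt (LP (LK LD1_c5 LD2_c45 LD3_c32)) = v15706 :=
  Lrfl
theorem f551807 : Led Lsl_et (LP (LK LD1_c2 LD2_c14 LD3_c59)) = (LP (LK LD1_c4 LD2_c35 LD3_c31)) :=
  Lre_e IH (LK LD1_c2 LD2_c14 LD3_c59) (LK LD1_c4 LD2_c35 LD3_c31) Lrfl Lrfl
theorem f542789 : Led Lsl_et (LP (LK LD1_c9 LD2_c15 LD3_c1)) = (LP (LK LD1_c4 LD2_c39 LD3_c44)) :=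
  Lre_e IH (LK LD1_c9 LD2_c15 LD3_c1) (LK LD1_c4 LD2_c39 LD3_c44) Lrfl Lrfl
theorem f546512 : Led Lsl_et (LP (LK LD1_c4 LD2_c33 LD3_c7)) = (LP (LK LD1_c9 LD2_c3 LD3_c30)) :=
  Lre_e IH (LK LD1_c4 LD2_c33 LD3_c7) (LK LD1_c9 LD2_c3 LD3_c30) Lrfl Lrfl
theorem f551801 : Led Lsl_df (LP (LK LD1_c9 LD2_c15 LD3_c1)) = (LP (LK LD1_c9 LD2_c3 LD3_c30)) :=
  Lgr Lrot70 (Lpr_et (f542789 IH) (Lpr_dt (K39.f56269 IH) (Lpr_et (K39.f551797 IH) (Lpe (K38.f546507 IH) (Lpr_et (f546512 IH) (Lpn (LP (LK LD1_c9 LD2_c3 LD3_c30))))))))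
theorem f551803 : Led Lsl_dt (LP (LK LD1_c9 LD2_c15 LD3_c1)) = (LP (LK LD1_c9 LD2_c3 LD3_c30)) :=
  Lgr Lrot42 (Lpr_df (f551801 IH) (Lpn (LP (LK LD1_c9 LD2_c3 LD3_c30))))
theorem f751615 : v15706 = (LP (LK LD1_c9 LD2_c3 LD3_c30)) :=
  (Llr Lrot112 (Lpe (f741010 IH) (Lpe (f741011 IH) (Lpr_et (K57.f751611 IH) (Lpe (K56.f117018 IH) (Lpe (f551807 IH) (Lpr_dt (K36.f34889 IH) (Lpe (K38.f34908 IH) (Lpe (K44.f34912 IH) (Lpr_gf (K39.f551795 IH) (Lpe (f542789 IH) (Lpr_dt (f551803 IH) (Lpn (LP (LK LD1_c9 LD2_c3 LD3_c30))))))))))))))).symm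
def v15707 : LQ := Led Lsl_gf (LP (LK LD1_c5 LD2_c45 LD3_c32))
theorem f741015 : Led Lsl_gf (LP (LK LD1_c5 LD2_c45 LD3_c32)) = v15707 :=
  Lrfl
theorem f751621 : (LP (LK LD1_c9 LD2_c3 LD3_c52)) = v15707 :=
  (Llr Lrot52 (Lpr_ft (f547427 IH) (Lpr_at (f547379 IH) (Lpq (f751615 IH) (Lpe (f741010 IH) (Lpr_gf (f741015 IH) (Lpn v15707))))))).symm
theorem f442453 : Led Lsl_dt (LP (LK LD1_c16 LD2_c59 LD3_c29)) = (LP (LK LD1_c9 LD2_c7 LD3_c19)) :=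
  Lre_d IH (LK LD1_c16 LD2_c59 LD3_c29) (LK LD1_c9 LD2_c7 LD3_c19) Lrfl Lrfl
theorem f547972 : Led Lsl_et (LP (LK LD1_c9 LD2_c7 LD3_c31)) = (LP (LK LD1_c16 LD2_c59 LD3_c43)) :=
  Lre_e IH (LK LD1_c9 LD2_c7 LD3_c31) (LK LD1_c16 LD2_c59 LD3_c43) Lrfl Lrfl
theorem f898656 : Led Lsl_gf (LP (LK LD1_c17 LD2_c9 LD3_c35)) = (LP (LK LD1_c16 LD2_c59 LD3_c43)) :=
  Lgr Lrot141 (Lpr_ef (f898655 IH) (Lpe (f898649 IH) (Lpqs (f751621 IH) (Lpe (f741015 IH) (Lpe (f741011 IH) (Lpr_et (K57.f751611 IH) (Lpr_gt (K57.f442457 IH) (Lpr_dt (f442453 IH) (Lpr_gt (K51.f442684 IH) (Lpe (K56.f547971 IH) (Lpr_et (f547972 IH) (Lpn (LP (LK LD1_c16 LD2_c59 LD3_c43))))))))))))))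
theorem f898657 : Led Lsl_gt (LP (LK LD1_c16 LD2_c59 LD3_c43)) = (LP (LK LD1_c17 LD2_c9 LD3_c35)) :=
  Leop (Lpr_gf (f898656 IH) (Lpn (LP (LK LD1_c16 LD2_c59 LD3_c43))))
theorem seed_2201 : LEOK LG_g (LK LD1_c16 LD2_c59 LD3_c43) :=
  Leoe_g (LK LD1_c16 LD2_c59 LD3_c43) (f898657 IH)
def v38054 : LQ := Led Lsl_gf (LP (LK LD1_c9 LD2_c4 LD3_c22))
theorem f898838 : Led Lsl_gf (LP (LK LD1_c9 LD2_c4 LD3_c22)) = v38054 :=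
  Lrfl
theorem f509355 : Led Lsl_et (LP (LK LD1_c4 LD2_c33 LD3_c25)) = (LP (LK LD1_c9 LD2_c4 LD3_c22)) :=
  Lre_e IH (LK LD1_c4 LD2_c33 LD3_c25) (LK LD1_c9 LD2_c4 LD3_c22) Lrfl Lrfl
theorem f72047 : Led Lsl_et (LP (LK LD1_c2 LD2_c54 LD3_c19)) = (LP (LK LD1_c5 LD2_c55 LD3_c56)) :=
  Lre_e IH (LK LD1_c2 LD2_c54 LD3_c19) (LK LD1_c5 LD2_c55 LD3_c56) Lrfl Lrfl
theorem f711082 : Led Lsl_at (LP (LK LD1_c11 LD2_c37 LD3_c0)) = (LP (LK LD1_c5 LD2_c56 LD3_c57)) :=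
  Lgr Lrot66 (Lpr_ff (K52.f711062 IH) (Lpe (K52.f711066 IH) (Lpr_ff (K52.f711080 IH) (Lpn (LP (LK LD1_c5 LD2_c56 LD3_c57))))))
theorem f707301 : Led Lsl_df (LP (LK LD1_c9 LD2_c31 LD3_c36)) = (LP (LK LD1_c5 LD2_c56 LD3_c57)) :=
  Lgr Lrot38 (Lpr_dt (K51.f707299 IH) (Lpn (LP (LK LD1_c5 LD2_c56 LD3_c57))))
theorem f714163 : Led Lsl_at (LP (LK LD1_c9 LD2_c31 LD3_c36)) = (LP (LK LD1_c17 LD2_c8 LD3_c19)) :=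
  Lgr Lrot51 (Lpr_df (f707301 IH) (Lpe (f711082 IH) (Lpr_df (K52.f714161 IH) (Lpn (LP (LK LD1_c17 LD2_c8 LD3_c19))))))
theorem f711088 : Led Lsl_ft (LP (LK LD1_c6 LD2_c2 LD3_c29)) = (LP (LK LD1_c9 LD2_c31 LD3_c36)) :=
  Lgr Lrot54 (Lpr_df (K55.f116994 IH) (Lpr_ff (K52.f711080 IH) (Lpe (K51.f707299 IH) (Lpn (LP (LK LD1_c9 LD2_c31 LD3_c36))))))
theorem f714184 : Led Lsl_at (LP (LK LD1_c9 LD2_c31 LD3_c37)) = (LP (LK LD1_c6 LD2_c2 LD3_c29)) :=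
  Lgr Lrot66 (Lpr_ff (K52.f714182 IH) (Lpe (f714163 IH) (Lpe (f711088 IH) (Lpn (LP (LK LD1_c6 LD2_c2 LD3_c29))))))
theorem f714190 : Led Lsl_gf (LP (LK LD1_c9 LD2_c31 LD3_c38)) = (LP (LK LD1_c17 LD2_c8 LD3_c19)) :=
  Lgr Lrot47 (Lpr_gt (K55.f707310 IH) (Lpe (f714184 IH) (Lpr_ff (K52.f714182 IH) (Lpn (LP (LK LD1_c17 LD2_c8 LD3_c19))))))
theorem f898844 : Led Lsl_et K55.v16287 = v38054 :=
  Lgr Lrot185 (Lpe (K55.f748091 IH) (Lpr_gf (f714190 IH) (Lpe (K52.f714167 IH) (Lpe (K52.f72022 IH) (Lpe (f72047 IH) (Lpr_dt (K45.f442501 IH) (Lpr_gf (K37.f500526 IH) (Lpqs (K37.f542326 IH) (Lpe (K38.f101289 IH) (Lpr_et (f509355 IH) (Lpr_gf (f898838 IH) (Lpn v38054))))))))))))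
theorem f898847 : Led Lsl_ef K55.v16287 = v38054 :=
  Lgr Lrot88 (Lpr_et (f898844 IH) (Lpn v38054))
theorem f705646 : Led Lsl_bt K50.v4489 = K55.v13877 :=
  Lgr Lrot95 (Lpe (K50.f634202 IH) (Lpe (K54.f446012 IH) (Lpr_df (K55.f705643 IH) (Lpn K55.v13877))))
theorem f748090 : Led Lsl_bf K50.v4983 = K55.v16287 :=
  Lgr Lrot61 (Lpe (K50.f641178 IH) (Lpr_bt (f705646 IH) (Lpr_ft (K55.f748089 IH) (Lpn K55.v16287))))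
theorem f898848 : Led Lsl_bt K50.v12949 = v38054 :=
  Lgr Lrot119 (Lpe (K50.f699771 IH) (Lpr_bf (f748090 IH) (Lpr_ef (f898847 IH) (Lpn v38054))))
theorem f500363 : Led Lsl_gt (LP (LK LD1_c5 LD2_c53 LD3_c3)) = (LP (LK LD1_c11 LD2_c32 LD3_c16)) :=
  Lre_g IH (LK LD1_c5 LD2_c53 LD3_c3) (LK LD1_c11 LD2_c32 LD3_c16) Lrfl Lrfl
theorem f545967 : Led Lsl_at (LP (LK LD1_c4 LD2_c33 LD3_c24)) = (LP (LK LD1_c9 LD2_c2 LD3_c59)) :=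
  Lre_a IH (LK LD1_c4 LD2_c33 LD3_c24) (LK LD1_c9 LD2_c2 LD3_c59) Lrfl Lrfl
theorem f99695 : Led Lsl_dt (LP (LK LD1_c9 LD2_c4 LD3_c22)) = (LP (LK LD1_c4 LD2_c33 LD3_c24)) :=
  Lre_d IH (LK LD1_c9 LD2_c4 LD3_c22) (LK LD1_c4 LD2_c33 LD3_c24) Lrfl Lrfl
theorem f545968 : Led Lsl_at (LP (LK LD1_c5 LD2_c57 LD3_c2)) = (LP (LK LD1_c9 LD2_c4 LD3_c22)) :=
  Lgr Lrot51 (Lpr_df (K37.f545965 IH) (Lpe (f545967 IH) (Lpe (f99695 IH) (Lpn (LP (LK LD1_c9 LD2_c4 LD3_c22))))))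
theorem f546015 : Led Lsl_ft (LP (LK LD1_c11 LD2_c39 LD3_c25)) = (LP (LK LD1_c5 LD2_c57 LD3_c2)) :=
  Lre_f IH (LK LD1_c11 LD2_c39 LD3_c25) (LK LD1_c5 LD2_c57 LD3_c2) Lrfl Lrfl
theorem f898839 : Led Lsl_gt (LP (LK LD1_c11 LD2_c39 LD3_c25)) = v38054 :=
  Lgr Lrot5 (Lpr_ft (f546015 IH) (Lpr_at (f545968 IH) (Lpr_gf (f898838 IH) (Lpn v38054))))
theorem f546004 : Led Lsl_bt (LP (LK LD1_c16 LD2_c53 LD3_c40)) = (LP (LK LD1_c11 LD2_c16 LD3_c37)) :=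
  Lre_b IH (LK LD1_c16 LD2_c53 LD3_c40) (LK LD1_c11 LD2_c16 LD3_c37) Lrfl Lrfl
theorem f387318 : Led Lsl_dt (LP (LK LD1_c11 LD2_c16 LD3_c37)) = (LP (LK LD1_c17 LD2_c31 LD3_c58)) :=
  Lre_d IH (LK LD1_c11 LD2_c16 LD3_c37) (LK LD1_c17 LD2_c31 LD3_c58) Lrfl Lrfl
theorem f546005 : Led Lsl_bf (LP (LK LD1_c11 LD2_c39 LD3_c25)) = (LP (LK LD1_c17 LD2_c31 LD3_c58)) :=
  Lgr Lrot93 (Lpr_dt (K37.f545983 IH) (Lpr_bt (f546004 IH) (Lpr_dt (f387318 IH) (Lpn (LP (LK LD1_c17 LD2_c31 LD3_c58))))))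
theorem f546050 : Led Lsl_ct (LP (LK LD1_c17 LD2_c31 LD3_c58)) = (LP (LK LD1_c27 LD2_c21 LD3_c20)) :=
  Lre_c IH (LK LD1_c17 LD2_c31 LD3_c58) (LK LD1_c27 LD2_c21 LD3_c20) Lrfl Lrfl
theorem f546369 : Led Lsl_gt (LP (LK LD1_c20 LD2_c17 LD3_c51)) = (LP (LK LD1_c27 LD2_c21 LD3_c20)) :=
  Lre_g IH (LK LD1_c20 LD2_c17 LD3_c51) (LK LD1_c27 LD2_c21 LD3_c20) Lrfl Lrfl
theorem f898850 : Led Lsl_ct (LP (LK LD1_c11 LD2_c32 LD3_c16)) = (LP (LK LD1_c20 LD2_c17 LD3_c51)) :=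
  Lgr Lrot91 (Lpe (f500363 IH) (Lpe (K50.f449376 IH) (Lpr_ct (K65.f640925 IH) (Lpr_gf (K65.f825249 IH) (Lpr_cf (K65.f832419 IH) (Lpr_bt (f898848 IH) (Lpe (f898839 IH) (Lpr_bf (f546005 IH) (Lpr_ct (f546050 IH) (Lpe (f546369 IH) (Lpn (LP (LK LD1_c20 LD2_c17 LD3_c51)))))))))))))
theorem f898851 : Led Lsl_ct (LP (LK LD1_c11 LD2_c32 LD3_c16)) = (LP (LK LD1_c20 LD2_c17 LD3_c51)) :=
  Leop (Lpe (f898850 IH) (Lpn (LP (LK LD1_c11 LD2_c32 LD3_c16))))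
theorem seed_2202 : LEOK LG_c (LK LD1_c11 LD2_c32 LD3_c16) :=
  Leoe_c (LK LD1_c11 LD2_c32 LD3_c16) (f898851 IH)
theorem f699794 : Led Lsl_bt (LP (LK LD1_c11 LD2_c32 LD3_c51)) = (LP (LK LD1_c5 LD2_c53 LD3_c23)) :=
  Lre_b IH (LK LD1_c11 LD2_c32 LD3_c51) (LK LD1_c5 LD2_c53 LD3_c23) Lrfl Lrfl
theorem f898849 : Led Lsl_ff (LP (LK LD1_c11 LD2_c32 LD3_c51)) = v38054 :=
  Lgr Lrot25 (Lpr_bt (f699794 IH) (Lpe (K50.f699793 IH) (Lpr_bt (f898848 IH) (Lpn v38054))))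
theorem f898859 : Led Lsl_at (LP (LK LD1_c11 LD2_c32 LD3_c51)) = (LP (LK LD1_c16 LD2_c55 LD3_c55)) :=
  Lgr Lrot26 (Lpr_ff (f898849 IH) (Lpe (f898838 IH) (Lpr_gt (K46.f176347 IH) (Lpn (LP (LK LD1_c16 LD2_c55 LD3_c55))))))
theorem f898860 : Led Lsl_at (LP (LK LD1_c11 LD2_c32 LD3_c51)) = (LP (LK LD1_c16 LD2_c55 LD3_c55)) :=
  Leop (Lpe (f898859 IH) (Lpn (LP (LK LD1_c11 LD2_c32 LD3_c51))))
theorem seed_2203 : LEOK LG_a (LK LD1_c11 LD2_c32 LD3_c51) :=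
  Leoe_a (LK LD1_c11 LD2_c32 LD3_c51) (f898860 IH)
def v38055 : LQ := Led Lsl_et (LP (LK LD1_c9 LD2_c4 LD3_c23))
theorem f898896 : Led Lsl_et (LP (LK LD1_c9 LD2_c4 LD3_c23)) = v38055 :=
  Lrfl
theorem f898900 : Led Lsl_ef (LP (LK LD1_c9 LD2_c4 LD3_c23)) = v38055 :=
  Lgr Lrot88 (Lpr_et (f898896 IH) (Lpn v38055))
theorem f442443 : Led Lsl_et (LP (LK LD1_c2 LD2_c54 LD3_c52)) = (LP (LK LD1_c5 LD2_c57 LD3_c13)) :=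
  Lre_e IH (LK LD1_c2 LD2_c54 LD3_c52) (LK LD1_c5 LD2_c57 LD3_c13) Lrfl Lrfl
theorem f442448 : Led Lsl_gt (LP (LK LD1_c5 LD2_c57 LD3_c13)) = (LP (LK LD1_c11 LD2_c39 LD3_c47)) :=
  Lre_g IH (LK LD1_c5 LD2_c57 LD3_c13) (LK LD1_c11 LD2_c39 LD3_c47) Lrfl Lrfl
theorem f898899 : Led Lsl_df (LP (LK LD1_c9 LD2_c4 LD3_c26)) = v38055 :=
  Lgr Lrot70 (Lpr_et (K50.f385519 IH) (Lpe (K45.f547727 IH) (Lpr_et (K38.f99681 IH) (Lpr_dt (K38.f99676 IH) (Lpr_et (f898896 IH) (Lpn v38055))))))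
theorem f417796 : Led Lsl_gt (LP (LK LD1_c16 LD2_c56 LD3_c3)) = (LP (LK LD1_c9 LD2_c4 LD3_c26)) :=
  Lre_g IH (LK LD1_c16 LD2_c56 LD3_c3) (LK LD1_c9 LD2_c4 LD3_c26) Lrfl Lrfl
theorem f566518 : Led Lsl_dt (LP (LK LD1_c9 LD2_c2 LD3_c2)) = (LP (LK LD1_c4 LD2_c32 LD3_c59)) :=
  Lgr Lrot42 (Lpr_df (K41.f566502 IH) (Lpn (LP (LK LD1_c4 LD2_c32 LD3_c59))))
def v12837 : LQ := Led Lsl_gf (LP (LK LD1_c4 LD2_c32 LD3_c59))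
theorem f698481 : Led Lsl_gf (LP (LK LD1_c4 LD2_c32 LD3_c59)) = v12837 :=
  Lrfl
theorem f566538 : Led Lsl_ft (LP (LK LD1_c16 LD2_c52 LD3_c28)) = (LP (LK LD1_c9 LD2_c2 LD3_c11)) :=
  Lre_f IH (LK LD1_c16 LD2_c52 LD3_c28) (LK LD1_c9 LD2_c2 LD3_c11) Lrfl Lrfl
theorem f698482 : Led Lsl_gt (LP (LK LD1_c16 LD2_c52 LD3_c28)) = v12837 :=
  Lgr Lrot5 (Lpr_ft (f566538 IH) (Lpr_at (K41.f566515 IH) (Lpr_gf (f698481 IH) (Lpn v12837))))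
theorem f897992 : (LP (LK LD1_c9 LD2_c2 LD3_c16)) = v12837 :=
  Lefun (Lecon (Lfl_gf (f897638 IH)) (f897991 IH)) (f698482 IH)
theorem f824041 : Led Lsl_dt (LP (LK LD1_c16 LD2_c52 LD3_c34)) = (LP (LK LD1_c9 LD2_c2 LD3_c16)) :=
  Lre_d IH (LK LD1_c16 LD2_c52 LD3_c34) (LK LD1_c9 LD2_c2 LD3_c16) Lrfl Lrfl
theorem f898003 : Led Lsl_gt (LP (LK LD1_c11 LD2_c22 LD3_c34)) = (LP (LK LD1_c16 LD2_c52 LD3_c34)) :=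
  Lgr Lrot137 (Lpe (K51.f706222 IH) (Lpr_dt (K55.f80021 IH) (Lpe (K51.f73001 IH) (Lpr_df (K50.f549523 IH) (Lpr_et (K50.f281972 IH) (Lpr_gf (K38.f281966 IH) (Lpe (K16.f280314 IH) (Lpr_dt (f566518 IH) (Lpr_gf (f698481 IH) (Lpq (f897992 IH) (Lpe (f824041 IH) (Lpn (LP (LK LD1_c16 LD2_c52 LD3_c34))))))))))))))
theorem f80016 : Led Lsl_et (LP (LK LD1_c12 LD2_c54 LD3_c19)) = (LP (LK LD1_c6 LD2_c44 LD3_c60)) :=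
  Lre_e IH (LK LD1_c12 LD2_c54 LD3_c19) (LK LD1_c6 LD2_c44 LD3_c60) Lrfl Lrfl
theorem f80017 : Led Lsl_dt (LP (LK LD1_c12 LD2_c54 LD3_c19)) = (LP (LK LD1_c6 LD2_c44 LD3_c59)) :=
  Lre_d IH (LK LD1_c12 LD2_c54 LD3_c19) (LK LD1_c6 LD2_c44 LD3_c59) Lrfl Lrfl
theorem f617091 : Led Lsl_gt (LP (LK LD1_c12 LD2_c54 LD3_c18)) = (LP (LK LD1_c6 LD2_c44 LD3_c59)) :=
  Lre_g IH (LK LD1_c12 LD2_c54 LD3_c18) (LK LD1_c6 LD2_c44 LD3_c59) Lrfl Lrfl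
theorem f386228 : Led Lsl_gt (LP (LK LD1_c4 LD2_c33 LD3_c28)) = (LP (LK LD1_c9 LD2_c4 LD3_c31)) :=
  Lre_g IH (LK LD1_c4 LD2_c33 LD3_c28) (LK LD1_c9 LD2_c4 LD3_c31) Lrfl Lrfl
theorem f617092 : Led Lsl_dt (LP (LK LD1_c9 LD2_c4 LD3_c31)) = (LP (LK LD1_c12 LD2_c54 LD3_c18)) :=
  Lgr Lrot171 (Lpe (f386228 IH) (Lpe (K50.f385536 IH) (Lpe (K18.f174615 IH) (Lpe (K35.f541557 IH) (Lpe (K38.f542626 IH) (Lpr_et (K40.f549522 IH) (Lpr_gf (K55.f617086 IH) (Lpe (f80016 IH) (Lpr_dt (f80017 IH) (Lpe (f617091 IH) (Lpn (LP (LK LD1_c12 LD2_c54 LD3_c18)))))))))))))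
theorem f898009 : Led Lsl_et (LP (LK LD1_c9 LD2_c4 LD3_c31)) = (LP (LK LD1_c16 LD2_c52 LD3_c34)) :=
  Lgr Lrot122 (Lpr_dt (f617092 IH) (Lpr_gt (f617091 IH) (Lpe (f80017 IH) (Lpr_et (f80016 IH) (Lpe (K55.f617086 IH) (Lpe (K50.f549523 IH) (Lpr_gt (K51.f73001 IH) (Lpe (K55.f80021 IH) (Lpr_et (K51.f706222 IH) (Lpr_gt (f898003 IH) (Lpn (LP (LK LD1_c16 LD2_c52 LD3_c34)))))))))))))
def v15565 : LQ := Led Lsl_ft (LP (LK LD1_c5 LD2_c42 LD3_c13))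
theorem f738054 : Led Lsl_ft (LP (LK LD1_c5 LD2_c42 LD3_c13)) = v15565 :=
  Lrfl
theorem f738058 : Led Lsl_ff (LP (LK LD1_c5 LD2_c42 LD3_c13)) = v15565 :=
  Lgr Lrot3 (Lpr_ft (f738054 IH) (Lpn v15565))
theorem f738060 : Led Lsl_dt v4773 = v15565 :=
  Lgr Lrot60 (Lpe (f638916 IH) (Lpe (f68850 IH) (Lpr_ff (f738058 IH) (Lpn v15565))))
theorem f824045 : v15565 = (LP (LK LD1_c9 LD2_c2 LD3_c17)) :=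
  Lefun (Lecon (f738060 IH) (f824031 IH)) (K55.f26980 IH)
theorem f640476 : Led Lsl_bt (LP (LK LD1_c11 LD2_c14 LD3_c38)) = (LP (LK LD1_c5 LD2_c42 LD3_c13)) :=
  Lre_b IH (LK LD1_c11 LD2_c14 LD3_c38) (LK LD1_c5 LD2_c42 LD3_c13) Lrfl Lrfl
theorem f26985 : Led Lsl_bt (LP (LK LD1_c9 LD2_c2 LD3_c17)) = (LP (LK LD1_c16 LD2_c52 LD3_c34)) :=
  Lre_b IH (LK LD1_c9 LD2_c2 LD3_c17) (LK LD1_c16 LD2_c52 LD3_c34) Lrfl Lrfl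
theorem f824106 : Led Lsl_ff (LP (LK LD1_c11 LD2_c14 LD3_c38)) = (LP (LK LD1_c16 LD2_c52 LD3_c34)) :=
  Lgr Lrot25 (Lpr_bt (f640476 IH) (Lpr_ft (f738054 IH) (Lpqs (f824045 IH) (Lpr_bt (f26985 IH) (Lpn (LP (LK LD1_c16 LD2_c52 LD3_c34)))))))
theorem f824110 : Led Lsl_ft (LP (LK LD1_c11 LD2_c14 LD3_c38)) = (LP (LK LD1_c16 LD2_c52 LD3_c34)) :=
  Lgr Lrot48 (Lpr_ff (f824106 IH) (Lpn (LP (LK LD1_c16 LD2_c52 LD3_c34))))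
theorem f706985 : Led Lsl_af (LP (LK LD1_c12 LD2_c3 LD3_c36)) = (LP (LK LD1_c11 LD2_c22 LD3_c34)) :=
  Lgr Lrot117 (Lpe (K51.f116944 IH) (Lpr_at (K51.f706295 IH) (Lpr_dt (K55.f706228 IH) (Lpn (LP (LK LD1_c11 LD2_c22 LD3_c34))))))
theorem f741425 : Led Lsl_gf (LP (LK LD1_c12 LD2_c3 LD3_c36)) = v15760 :=
  Lgr Lrot76 (Lpr_af (f706985 IH) (Lpe (K51.f640149 IH) (Lpr_gt (f741424 IH) (Lpn v15760))))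
theorem f73056 : Led Lsl_et (LP (LK LD1_c6 LD2_c11 LD3_c53)) = (LP (LK LD1_c12 LD2_c3 LD3_c36)) :=
  Lre_e IH (LK LD1_c6 LD2_c11 LD3_c53) (LK LD1_c12 LD2_c3 LD3_c36) Lrfl Lrfl
theorem f706271 : Led Lsl_ft (LP (LK LD1_c12 LD2_c3 LD3_c36)) = (LP (LK LD1_c11 LD2_c22 LD3_c24)) :=
  Lgr Lrot86 (Lpe (f73056 IH) (Lpr_ff (K51.f706265 IH) (Lpr_ef (K51.f706207 IH) (Lpe (K51.f640145 IH) (Lpe (K51.f639806 IH) (Lpn (LP (LK LD1_c11 LD2_c22 LD3_c24))))))))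
theorem f639809 : Led Lsl_at (LP (LK LD1_c11 LD2_c22 LD3_c24)) = (LP (LK LD1_c5 LD2_c46 LD3_c5)) :=
  Lre_a IH (LK LD1_c11 LD2_c22 LD3_c24) (LK LD1_c5 LD2_c46 LD3_c5) Lrfl Lrfl
theorem f140675 : Led Lsl_gt (LP (LK LD1_c11 LD2_c22 LD3_c32)) = (LP (LK LD1_c5 LD2_c46 LD3_c5)) :=
  Lre_g IH (LK LD1_c11 LD2_c22 LD3_c32) (LK LD1_c5 LD2_c46 LD3_c5) Lrfl Lrfl
theorem f707033 : Led Lsl_gt (LP (LK LD1_c12 LD2_c3 LD3_c36)) = (LP (LK LD1_c11 LD2_c22 LD3_c32)) :=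
  Lgr Lrot5 (Lpr_ft (f706271 IH) (Lpr_at (f639809 IH) (Lpe (f140675 IH) (Lpn (LP (LK LD1_c11 LD2_c22 LD3_c32))))))
theorem f897123 : Led Lsl_at (LP (LK LD1_c16 LD2_c52 LD3_c34)) = (LP (LK LD1_c11 LD2_c22 LD3_c32)) :=
  Lgr Lrot26 (Lpe (f824110 IH) (Lpq (f897120 IH) (Lpe (f741425 IH) (Lpr_gt (f707033 IH) (Lpn (LP (LK LD1_c11 LD2_c22 LD3_c32)))))))
theorem f280343 : Led Lsl_et (LP (LK LD1_c4 LD2_c32 LD3_c15)) = (LP (LK LD1_c2 LD2_c13 LD3_c10)) :=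
  Lre_e IH (LK LD1_c4 LD2_c32 LD3_c15) (LK LD1_c2 LD2_c13 LD3_c10) Lrfl Lrfl
theorem f542288 : Led Lsl_gt (LP (LK LD1_c16 LD2_c52 LD3_c27)) = (LP (LK LD1_c9 LD2_c2 LD3_c11)) :=
  Lre_g IH (LK LD1_c16 LD2_c52 LD3_c27) (LK LD1_c9 LD2_c2 LD3_c11) Lrfl Lrfl
theorem f707041 : Led Lsl_df (LP (LK LD1_c16 LD2_c52 LD3_c27)) = (LP (LK LD1_c11 LD2_c22 LD3_c32)) :=
  Lgr Lrot135 (Lpr_gt (f542288 IH) (Lpe (K41.f542287 IH) (Lpr_et (f280343 IH) (Lpr_gt (K37.f542256 IH) (Lpr_ef (K40.f73040 IH) (Lpr_dt (K40.f73017 IH) (Lpr_gt (K36.f73031 IH) (Lpe (K51.f73055 IH) (Lpr_et (f73056 IH) (Lpr_gt (f707033 IH) (Lpn (LP (LK LD1_c11 LD2_c22 LD3_c32)))))))))))))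
theorem f417794 : Led Lsl_gt (LP (LK LD1_c9 LD2_c4 LD3_c26)) = (LP (LK LD1_c16 LD2_c56 LD3_c2)) :=
  Lre_g IH (LK LD1_c9 LD2_c4 LD3_c26) (LK LD1_c16 LD2_c56 LD3_c2) Lrfl Lrfl
theorem f707047 : Led Lsl_ef (LP (LK LD1_c16 LD2_c56 LD3_c2)) = (LP (LK LD1_c11 LD2_c22 LD3_c32)) :=
  Lgr Lrot17 (Lpe (f417794 IH) (Lpe (K30.f245640 IH) (Lpe (K45.f547727 IH) (Lpe (K38.f60161 IH) (Lpe (K40.f73043 IH) (Lpe (K37.f542256 IH) (Lpe (f280343 IH) (Lpr_dt (K41.f542287 IH) (Lpe (f542288 IH) (Lpr_df (f707041 IH) (Lpn (LP (LK LD1_c11 LD2_c22 LD3_c32)))))))))))))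
theorem f898018 : Led Lsl_af (LP (LK LD1_c9 LD2_c4 LD3_c31)) = (LP (LK LD1_c16 LD2_c56 LD3_c2)) :=
  Lgr Lrot50 (Lpr_et (f898009 IH) (Lpr_at (f897123 IH) (Lpe (f707047 IH) (Lpn (LP (LK LD1_c16 LD2_c56 LD3_c2))))))
theorem f898043 : Led Lsl_ft (LP (LK LD1_c9 LD2_c4 LD3_c32)) = (LP (LK LD1_c16 LD2_c56 LD3_c2)) :=
  Lgr Lrot2 (Lpr_gt (K50.f386227 IH) (Lpr_gt (f386228 IH) (Lpr_af (f898018 IH) (Lpn (LP (LK LD1_c16 LD2_c56 LD3_c2))))))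
theorem f898045 : Led Lsl_ff (LP (LK LD1_c9 LD2_c4 LD3_c32)) = (LP (LK LD1_c16 LD2_c56 LD3_c2)) :=
  Lgr Lrot3 (Lpr_ft (f898043 IH) (Lpn (LP (LK LD1_c16 LD2_c56 LD3_c2))))
theorem f407088 : Led Lsl_gt (LP (LK LD1_c16 LD2_c56 LD3_c2)) = (LP (LK LD1_c9 LD2_c4 LD3_c33)) :=
  Lre_g IH (LK LD1_c16 LD2_c56 LD3_c2) (LK LD1_c9 LD2_c4 LD3_c33) Lrfl Lrfl
theorem f407086 : Led Lsl_gt (LP (LK LD1_c9 LD2_c4 LD3_c33)) = (LP (LK LD1_c16 LD2_c56 LD3_c3)) :=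
  Lre_g IH (LK LD1_c9 LD2_c4 LD3_c33) (LK LD1_c16 LD2_c56 LD3_c3) Lrfl Lrfl
theorem f898049 : Led Lsl_at (LP (LK LD1_c9 LD2_c4 LD3_c32)) = (LP (LK LD1_c16 LD2_c56 LD3_c3)) :=
  Lgr Lrot26 (Lpr_ff (f898045 IH) (Lpr_gt (f407088 IH) (Lpr_gt (f407086 IH) (Lpn (LP (LK LD1_c16 LD2_c56 LD3_c3))))))
theorem f898041 : Led Lsl_at (LP (LK LD1_c9 LD2_c4 LD3_c31)) = (LP (LK LD1_c16 LD2_c56 LD3_c2)) :=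
  Lgr Lrot100 (Lpr_af (f898018 IH) (Lpn (LP (LK LD1_c16 LD2_c56 LD3_c2))))
theorem f898058 : Led Lsl_ff (LP (LK LD1_c9 LD2_c4 LD3_c31)) = (LP (LK LD1_c16 LD2_c56 LD3_c3)) :=
  Lgr Lrot30 (Lpr_at (f898041 IH) (Lpe (f898045 IH) (Lpr_at (f898049 IH) (Lpn (LP (LK LD1_c16 LD2_c56 LD3_c3))))))
theorem f26978 : Led Lsl_bt (LP (LK LD1_c16 LD2_c52 LD3_c34)) = (LP (LK LD1_c9 LD2_c2 LD3_c17)) :=
  Lre_b IH (LK LD1_c16 LD2_c52 LD3_c34) (LK LD1_c9 LD2_c2 LD3_c17) Lrfl Lrfl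
theorem f26971 : Led Lsl_ef (LP (LK LD1_c11 LD2_c59 LD3_c14)) = (LP (LK LD1_c9 LD2_c2 LD3_c17)) :=
  Lgr Lrot17 (Lpe (K55.f22902 IH) (Lpe (K55.f22901 IH) (Lpr_dt (K16.f22900 IH) (Lpe (K9.f20229 IH) (Lpe (K1.f9524 IH) (Lpr_gf (K10.f26942 IH) (Lpe (K32.f26967 IH) (Lpr_dt (K55.f26968 IH) (Lpe (K55.f26969 IH) (Lpe (K55.f26970 IH) (Lpn (LP (LK LD1_c9 LD2_c2 LD3_c17)))))))))))))
theorem f898020 : Led Lsl_bf (LP (LK LD1_c9 LD2_c4 LD3_c31)) = (LP (LK LD1_c11 LD2_c59 LD3_c14)) :=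
  Lgr Lrot96 (Lpr_et (f898009 IH) (Lpr_bt (f26978 IH) (Lpe (f26971 IH) (Lpn (LP (LK LD1_c11 LD2_c59 LD3_c14))))))
def v19665 : LQ := Led Lsl_bt (LP (LK LD1_c6 LD2_c45 LD3_c35))
theorem f781578 : Led Lsl_bt (LP (LK LD1_c6 LD2_c45 LD3_c35)) = v19665 :=
  Lrfl
theorem f781579 : Led Lsl_bf (LP (LK LD1_c6 LD2_c45 LD3_c35)) = v19665 :=
  Lgr Lrot24 (Lpr_bt (f781578 IH) (Lpn v19665))
theorem f898028 : (LP (LK LD1_c12 LD2_c54 LD3_c18)) = v19665 :=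
  (Llr Lrot79 (Lpe (f617092 IH) (Lpr_bf (f898020 IH) (Lpr_df (K55.f22905 IH) (Lpr_bf (f781579 IH) (Lpn v19665)))))).symm
def v15563 : LQ := Led Lsl_at (LP (LK LD1_c5 LD2_c42 LD3_c13))
theorem f738044 : Led Lsl_at (LP (LK LD1_c5 LD2_c42 LD3_c13)) = v15563 :=
  Lrfl
theorem f738045 : Led Lsl_af (LP (LK LD1_c5 LD2_c42 LD3_c13)) = v15563 :=
  Lgr Lrot0 (Lpr_at (f738044 IH) (Lpn v15563))
theorem f738046 : Led Lsl_df K64.v4770 = v15563 :=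
  Lgr Lrot18 (Lpe (K64.f638905 IH) (Lpr_dt (K64.f174289 IH) (Lpr_at (f738044 IH) (Lpn v15563))))
theorem f638908 : Led Lsl_ff (LP (LK LD1_c2 LD2_c47 LD3_c5)) = K64.v4770 :=
  Lgr Lrot3 (Lpr_ft (K64.f638907 IH) (Lpn K64.v4770))
theorem f738048 : Led Lsl_ft (LP (LK LD1_c5 LD2_c42 LD3_c15)) = v15563 :=
  Lgr Lrot54 (Lpe (K50.f68673 IH) (Lpr_ff (f638908 IH) (Lpr_df (f738046 IH) (Lpn v15563))))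
theorem f738055 : Led Lsl_af (LP (LK LD1_c5 LD2_c42 LD3_c15)) = v15565 :=
  Lgr Lrot45 (Lpr_ft (f738048 IH) (Lpe (f738045 IH) (Lpr_ft (f738054 IH) (Lpn v15565))))
theorem f824116 : Led Lsl_af (LP (LK LD1_c11 LD2_c59 LD3_c14)) = (LP (LK LD1_c11 LD2_c14 LD3_c46)) :=
  Lgr Lrot50 (Lpr_et (K55.f26982 IH) (Lpq (f824045 IH) (Lpe (f738055 IH) (Lpr_et (K50.f68620 IH) (Lpn (LP (LK LD1_c11 LD2_c14 LD3_c46)))))))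
def v19664 : LQ := Led Lsl_ft (LP (LK LD1_c6 LD2_c45 LD3_c34))
theorem f781574 : Led Lsl_ft (LP (LK LD1_c6 LD2_c45 LD3_c34)) = v19664 :=
  Lrfl
theorem f781576 : Led Lsl_ff (LP (LK LD1_c6 LD2_c45 LD3_c34)) = v19664 :=
  Lgr Lrot3 (Lpr_ft (f781574 IH) (Lpn v19664))
def v19662 : LQ := Led Lsl_at (LP (LK LD1_c6 LD2_c45 LD3_c34))
theorem f781567 : Led Lsl_at (LP (LK LD1_c6 LD2_c45 LD3_c34)) = v19662 :=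
  Lrfl
theorem f781568 : Led Lsl_af (LP (LK LD1_c6 LD2_c45 LD3_c34)) = v19662 :=
  Lgr Lrot0 (Lpr_at (f781567 IH) (Lpn v19662))
theorem f22936 : Led Lsl_gt (LP (LK LD1_c3 LD2_c20 LD3_c50)) = (LP (LK LD1_c6 LD2_c45 LD3_c34)) :=
  Lre_g IH (LK LD1_c3 LD2_c20 LD3_c50) (LK LD1_c6 LD2_c45 LD3_c34) Lrfl Lrfl
theorem f781569 : Led Lsl_ft (LP (LK LD1_c6 LD2_c45 LD3_c35)) = v19662 :=
  Lgr Lrot2 (Lpr_gt (K55.f22898 IH) (Lpr_gt (f22936 IH) (Lpr_af (f781568 IH) (Lpn v19662))))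
theorem f781570 : Led Lsl_ff (LP (LK LD1_c6 LD2_c45 LD3_c35)) = v19662 :=
  Lgr Lrot3 (Lpr_ft (f781569 IH) (Lpn v19662))
theorem f781577 : Led Lsl_at (LP (LK LD1_c6 LD2_c45 LD3_c35)) = v19664 :=
  Lgr Lrot66 (Lpr_ff (f781570 IH) (Lpe (f781567 IH) (Lpr_ff (f781576 IH) (Lpn v19664))))
theorem f824122 : v19664 = (LP (LK LD1_c9 LD2_c31 LD3_c27)) :=
  (Llr Lrot51 (Lpe (f781577 IH) (Lpe (K55.f22903 IH) (Lpr_af (f824116 IH) (Lpr_df (K53.f68671 IH) (Lpn (LP (LK LD1_c9 LD2_c31 LD3_c27)))))))).symm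
theorem f23978 : Led Lsl_et (LP (LK LD1_c0 LD2_c44 LD3_c50)) = (LP (LK LD1_c1 LD2_c5 LD3_c13)) :=
  Lre_e IH (LK LD1_c0 LD2_c44 LD3_c50) (LK LD1_c1 LD2_c5 LD3_c13) Lrfl Lrfl
theorem f23977 : Led Lsl_gt (LP (LK LD1_c11 LD2_c59 LD3_c15)) = (LP (LK LD1_c6 LD2_c9 LD3_c4)) :=
  Lre_g IH (LK LD1_c11 LD2_c59 LD3_c15) (LK LD1_c6 LD2_c9 LD3_c4) Lrfl Lrfl
theorem f23981 : Led Lsl_dt (LP (LK LD1_c6 LD2_c45 LD3_c34)) = (LP (LK LD1_c11 LD2_c59 LD3_c15)) :=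
  Lgr Lrot171 (Lpe (f22936 IH) (Lpe (K55.f23980 IH) (Lpr_dt (K24.f23979 IH) (Lpe (K0.f22847 IH) (Lpe (K17.f22955 IH) (Lpr_et (f23978 IH) (Lpe (K9.f23929 IH) (Lpe (K55.f23973 IH) (Lpr_dt (K55.f23944 IH) (Lpe (f23977 IH) (Lpn (LP (LK LD1_c11 LD2_c59 LD3_c15)))))))))))))
theorem f23985 : Led Lsl_df (LP (LK LD1_c6 LD2_c45 LD3_c34)) = (LP (LK LD1_c11 LD2_c59 LD3_c15)) :=
  Lgr Lrot38 (Lpr_dt (f23981 IH) (Lpn (LP (LK LD1_c11 LD2_c59 LD3_c15))))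
theorem f824127 : Led Lsl_ff (LP (LK LD1_c11 LD2_c59 LD3_c15)) = (LP (LK LD1_c11 LD2_c14 LD3_c46)) :=
  Lgr Lrot19 (Lpe (f23985 IH) (Lpr_ft (f781574 IH) (Lpqs (f824122 IH) (Lpe (K53.f68671 IH) (Lpn (LP (LK LD1_c11 LD2_c14 LD3_c46)))))))
theorem f175432 : Led Lsl_df (LP (LK LD1_c2 LD2_c58 LD3_c1)) = (LP (LK LD1_c5 LD2_c46 LD3_c51)) :=
  Lgr Lrot38 (Lpr_dt (K39.f175428 IH) (Lpn (LP (LK LD1_c5 LD2_c46 LD3_c51))))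
theorem f285298 : Led Lsl_at (LP (LK LD1_c6 LD2_c9 LD3_c4)) = (LP (LK LD1_c5 LD2_c46 LD3_c51)) :=
  Lgr Lrot51 (Lpe (K55.f23944 IH) (Lpr_af (K67.f285290 IH) (Lpr_df (f175432 IH) (Lpn (LP (LK LD1_c5 LD2_c46 LD3_c51))))))
theorem f68665 : Led Lsl_gt (LP (LK LD1_c11 LD2_c23 LD3_c52)) = (LP (LK LD1_c5 LD2_c46 LD3_c51)) :=
  Lre_g IH (LK LD1_c11 LD2_c23 LD3_c52) (LK LD1_c5 LD2_c46 LD3_c51) Lrfl Lrfl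
theorem f753743 : Led Lsl_gf (LP (LK LD1_c11 LD2_c23 LD3_c52)) = K56.v16951 :=
  Lgr Lrot47 (Lpr_gt (f68665 IH) (Lpe (f285298 IH) (Lpr_ff (K56.f753739 IH) (Lpn K56.v16951))))
theorem f824131 : Led Lsl_at (LP (LK LD1_c11 LD2_c59 LD3_c15)) = (LP (LK LD1_c11 LD2_c23 LD3_c52)) :=
  Lgr Lrot26 (Lpr_ff (f824127 IH) (Lpr_gt (K56.f753744 IH) (Lpe (f753743 IH) (Lpn (LP (LK LD1_c11 LD2_c23 LD3_c52))))))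
theorem f175441 : Led Lsl_gt (LP (LK LD1_c4 LD2_c49 LD3_c20)) = (LP (LK LD1_c9 LD2_c31 LD3_c26)) :=
  Lre_g IH (LK LD1_c4 LD2_c49 LD3_c20) (LK LD1_c9 LD2_c31 LD3_c26) Lrfl Lrfl
theorem f175442 : Led Lsl_dt (LP (LK LD1_c9 LD2_c31 LD3_c26)) = (LP (LK LD1_c11 LD2_c23 LD3_c52)) :=
  Lgr Lrot171 (Lpe (f175441 IH) (Lpe (K50.f68690 IH) (Lpr_dt (K24.f27128 IH) (Lpe (K0.f23211 IH) (Lpe (K17.f27104 IH) (Lpr_et (K50.f175440 IH) (Lpe (K9.f9383 IH) (Lpe (K53.f175395 IH) (Lpr_dt (K39.f175428 IH) (Lpe (f68665 IH) (Lpn (LP (LK LD1_c11 LD2_c23 LD3_c52)))))))))))))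
theorem f175452 : Led Lsl_df (LP (LK LD1_c9 LD2_c31 LD3_c26)) = (LP (LK LD1_c11 LD2_c23 LD3_c52)) :=
  Lgr Lrot38 (Lpr_dt (f175442 IH) (Lpn (LP (LK LD1_c11 LD2_c23 LD3_c52))))
theorem f824137 : v19662 = (LP (LK LD1_c9 LD2_c31 LD3_c26)) :=
  (Llr Lrot117 (Lpe (f781568 IH) (Lpr_dt (f23981 IH) (Lpr_at (f824131 IH) (Lpe (f175452 IH) (Lpn (LP (LK LD1_c9 LD2_c31 LD3_c26)))))))).symm
theorem f175463 : Led Lsl_bt (LP (LK LD1_c9 LD2_c31 LD3_c26)) = (LP (LK LD1_c17 LD2_c33 LD3_c18)) :=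
  Lre_b IH (LK LD1_c9 LD2_c31 LD3_c26) (LK LD1_c17 LD2_c33 LD3_c18) Lrfl Lrfl
theorem f824142 : Led Lsl_ff v19665 = (LP (LK LD1_c17 LD2_c33 LD3_c18)) :=
  Lgr Lrot25 (Lpe (f781579 IH) (Lpr_ft (f781569 IH) (Lpqs (f824137 IH) (Lpr_bt (f175463 IH) (Lpn (LP (LK LD1_c17 LD2_c33 LD3_c18)))))))
theorem f824143 : Led Lsl_ft v19665 = (LP (LK LD1_c17 LD2_c33 LD3_c18)) :=
  Lgr Lrot48 (Lpr_ff (f824142 IH) (Lpn (LP (LK LD1_c17 LD2_c33 LD3_c18))))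
theorem f898062 : Led Lsl_dt (LP (LK LD1_c17 LD2_c33 LD3_c18)) = (LP (LK LD1_c16 LD2_c56 LD3_c3)) :=
  Lgr Lrot60 (Lpe (f824143 IH) (Lpq (f898028 IH) (Lpe (f617092 IH) (Lpr_ff (f898058 IH) (Lpn (LP (LK LD1_c16 LD2_c56 LD3_c3)))))))
def v16626 : LQ := Led Lsl_bt (LP (LK LD1_c6 LD2_c3 LD3_c33))
theorem f750778 : Led Lsl_bt (LP (LK LD1_c6 LD2_c3 LD3_c33)) = v16626 :=
  Lrfl
theorem f175349 : Led Lsl_gt (LP (LK LD1_c2 LD2_c57 LD3_c55)) = (LP (LK LD1_c6 LD2_c3 LD3_c33)) :=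
  Lre_g IH (LK LD1_c2 LD2_c57 LD3_c55) (LK LD1_c6 LD2_c3 LD3_c33) Lrfl Lrfl
theorem f175459 : Led Lsl_et (LP (LK LD1_c9 LD2_c31 LD3_c26)) = (LP (LK LD1_c6 LD2_c3 LD3_c33)) :=
  Lgr Lrot122 (Lpr_dt (f175442 IH) (Lpr_gt (f68665 IH) (Lpe (K39.f175428 IH) (Lpr_et (K53.f175395 IH) (Lpr_gt (K9.f9383 IH) (Lpr_dt (K0.f9351 IH) (Lpr_gt (K10.f26781 IH) (Lpe (K10.f9418 IH) (Lpr_et (K36.f175328 IH) (Lpr_gt (f175349 IH) (Lpn (LP (LK LD1_c6 LD2_c3 LD3_c33)))))))))))))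
theorem f175451 : Led Lsl_bt (LP (LK LD1_c17 LD2_c33 LD3_c18)) = (LP (LK LD1_c9 LD2_c31 LD3_c26)) :=
  Lre_b IH (LK LD1_c17 LD2_c33 LD3_c18) (LK LD1_c9 LD2_c31 LD3_c26) Lrfl Lrfl
theorem f750780 : Led Lsl_ef (LP (LK LD1_c17 LD2_c33 LD3_c18)) = v16626 :=
  Lgr Lrot29 (Lpr_bt (f175451 IH) (Lpr_et (f175459 IH) (Lpr_bt (f750778 IH) (Lpn v16626))))
theorem f750781 : Led Lsl_et (LP (LK LD1_c17 LD2_c33 LD3_c18)) = v16626 :=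
  Lgr Lrot87 (Lpr_ef (f750780 IH) (Lpn v16626))
theorem f898906 : (LP (LK LD1_c11 LD2_c39 LD3_c47)) = v16626 :=
  (Llr Lrot131 (Lpe (f442448 IH) (Lpe (f442443 IH) (Lpr_dt (K43.f272413 IH) (Lpe (K37.f500533 IH) (Lpq (K37.f542336 IH) (Lpe (K45.f99682 IH) (Lpe (K38.f99675 IH) (Lpr_ef (f898900 IH) (Lpe (f898899 IH) (Lpe (f417796 IH) (Lpe (f898062 IH) (Lpr_et (f750781 IH) (Lpn v16626)))))))))))))).symm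
theorem f898033 : Led Lsl_at (LP (LK LD1_c17 LD2_c33 LD3_c18)) = (LP (LK LD1_c12 LD2_c54 LD3_c17)) :=
  Lgr Lrot26 (Lpe (f824143 IH) (Lpq (f898028 IH) (Lpr_gt (f617091 IH) (Lpr_gt (K50.f80018 IH) (Lpn (LP (LK LD1_c12 LD2_c54 LD3_c17)))))))
theorem f898037 : Led Lsl_af v16626 = (LP (LK LD1_c17 LD2_c6 LD3_c56)) :=
  Lgr Lrot50 (Lpe (f750780 IH) (Lpr_at (f898033 IH) (Lpr_et (K50.f698580 IH) (Lpn (LP (LK LD1_c17 LD2_c6 LD3_c56))))))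
theorem f898038 : Led Lsl_at v16626 = (LP (LK LD1_c17 LD2_c6 LD3_c56)) :=
  Lgr Lrot100 (Lpr_af (f898037 IH) (Lpn (LP (LK LD1_c17 LD2_c6 LD3_c56))))
theorem f898907 : Led Lsl_at (LP (LK LD1_c11 LD2_c39 LD3_c47)) = (LP (LK LD1_c17 LD2_c6 LD3_c56)) :=
  Leop (Lpe (f898038 IH) (Lpq (f898906 IH) (Lpn (LP (LK LD1_c11 LD2_c39 LD3_c47)))))
theorem seed_2204 : LEOK LG_a (LK LD1_c11 LD2_c39 LD3_c47) :=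
  Leoe_a (LK LD1_c11 LD2_c39 LD3_c47) (f898907 IH)
def v38110 : LQ := Led Lsl_et (LP (LK LD1_c9 LD2_c5 LD3_c5))
theorem f899228 : Led Lsl_et (LP (LK LD1_c9 LD2_c5 LD3_c5)) = v38110 :=
  Lrfl
theorem f899236 : Led Lsl_gf K64.v15792 = v38110 :=
  Lgr Lrot141 (Lpe (K64.f741568 IH) (Lpr_dt (K64.f164987 IH) (Lpe (f387365 IH) (Lpr_df (K54.f387347 IH) (Lpe (K17.f289331 IH) (Lpr_gt (K53.f408235 IH) (Lpr_dt (K55.f738001 IH) (Lpe (K55.f738007 IH) (Lpe (K50.f640409 IH) (Lpr_et (f899228 IH) (Lpn v38110)))))))))))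
theorem f824465 : Led Lsl_ef K64.v5305 = K64.v24505 :=
  Lgr Lrot88 (Lpr_et (K64.f824464 IH) (Lpn K64.v24505))
def v12835 : LQ := Led Lsl_gt (LP (LK LD1_c4 LD2_c32 LD3_c45))
theorem f698477 : Led Lsl_gt (LP (LK LD1_c4 LD2_c32 LD3_c45)) = v12835 :=
  Lrfl
theorem f899237 : Led Lsl_dt v12835 = v38110 :=
  Lgr Lrot171 (Lpe (f698477 IH) (Lpe (K16.f185836 IH) (Lpr_dt (K10.f175517 IH) (Lpr_gf (K15.f185832 IH) (Lpe (K18.f185777 IH) (Lpr_et (K36.f185779 IH) (Lpr_gf (K64.f646965 IH) (Lpr_ef (f824465 IH) (Lpe (K64.f824463 IH) (Lpr_gf (f899236 IH) (Lpn v38110)))))))))))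
theorem f741069 : Led Lsl_ff (LP (LK LD1_c5 LD2_c45 LD3_c34)) = K60.v15717 :=
  Lgr Lrot3 (Lpr_ft (K60.f741067 IH) (Lpn K60.v15717))
theorem f780982 : Led Lsl_bf K60.v15717 = (LP (LK LD1_c12 LD2_c3 LD3_c48)) :=
  Lgr Lrot61 (Lpe (f741069 IH) (Lpr_bt (K57.f741036 IH) (Lpr_ft (K60.f780957 IH) (Lpn (LP (LK LD1_c12 LD2_c3 LD3_c48))))))
theorem f899230 : Led Lsl_bf (LP (LK LD1_c21 LD2_c9 LD3_c26)) = v38110 :=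
  Lgr Lrot96 (Lpr_et (f140677 IH) (Lpe (f780982 IH) (Lpqs (K60.f741374 IH) (Lpr_et (f899228 IH) (Lpn v38110)))))
theorem f899238 : Led Lsl_bf v12835 = v37986 :=
  Lgr Lrot93 (Lpr_dt (f899237 IH) (Lpe (f899230 IH) (Lpr_dt (f898466 IH) (Lpn v37986))))
def v15596 : LQ := Led Lsl_ft (LP (LK LD1_c5 LD2_c43 LD3_c4))
theorem f738201 : Led Lsl_ft (LP (LK LD1_c5 LD2_c43 LD3_c4)) = v15596 :=
  Lrfl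
theorem f738203 : Led Lsl_ff (LP (LK LD1_c5 LD2_c43 LD3_c4)) = v15596 :=
  Lgr Lrot3 (Lpr_ft (f738201 IH) (Lpn v15596))
theorem f738204 : Led Lsl_at K55.v4780 = v15596 :=
  Lgr Lrot66 (Lpr_ff (K55.f738184 IH) (Lpe (K55.f738180 IH) (Lpr_ff (f738203 IH) (Lpn v15596))))
theorem f741352 : v15596 = v12835 :=
  (Llr Lrot26 (Lpe (f738204 IH) (Lpr_ff (K55.f738184 IH) (Lpqs (K55.f741348 IH) (Lpr_gt (K55.f177743 IH) (Lpr_gt (f698477 IH) (Lpn v12835))))))).symm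
theorem f738182 : Led Lsl_bt (LP (LK LD1_c5 LD2_c43 LD3_c4)) = (LP (LK LD1_c11 LD2_c16 LD3_c26)) :=
  Lre_b IH (LK LD1_c5 LD2_c43 LD3_c4) (LK LD1_c11 LD2_c16 LD3_c26) Lrfl Lrfl
theorem f899241 : Led Lsl_ft (LP (LK LD1_c11 LD2_c16 LD3_c26)) = v37986 :=
  Lgr Lrot75 (Lpe (f738182 IH) (Lpr_ff (f738203 IH) (Lpqs (f741352 IH) (Lpr_bf (f899238 IH) (Lpn v37986)))))
theorem f614431 : Led Lsl_dt (LP (LK LD1_c17 LD2_c7 LD3_c34)) = (LP (LK LD1_c27 LD2_c0 LD3_c48)) :=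
  Lre_d IH (LK LD1_c17 LD2_c7 LD3_c34) (LK LD1_c27 LD2_c0 LD3_c48) Lrfl Lrfl
theorem f898467 : Led Lsl_af (LP (LK LD1_c17 LD2_c7 LD3_c34)) = v37986 :=
  Lgr Lrot117 (Lpr_dt (f614431 IH) (Lpr_at (f780993 IH) (Lpr_dt (f898466 IH) (Lpn v37986))))
theorem f898473 : Led Lsl_ft (LP (LK LD1_c17 LD2_c7 LD3_c34)) = (LP (LK LD1_c16 LD2_c54 LD3_c14)) :=
  Lgr Lrot48 (Lpr_ff (f898470 IH) (Lpn (LP (LK LD1_c16 LD2_c54 LD3_c14))))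
theorem f899242 : Led Lsl_af (LP (LK LD1_c11 LD2_c16 LD3_c26)) = (LP (LK LD1_c16 LD2_c54 LD3_c14)) :=
  Lgr Lrot45 (Lpr_ft (f899241 IH) (Lpe (f898467 IH) (Lpr_ft (f898473 IH) (Lpn (LP (LK LD1_c16 LD2_c54 LD3_c14))))))
theorem f899243 : Led Lsl_at (LP (LK LD1_c16 LD2_c54 LD3_c14)) = (LP (LK LD1_c11 LD2_c16 LD3_c26)) :=
  Leop (Lpr_af (f899242 IH) (Lpn (LP (LK LD1_c16 LD2_c54 LD3_c14))))
theorem seed_2205 : LEOK LG_a (LK LD1_c16 LD2_c54 LD3_c14) :=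
  Leoe_a (LK LD1_c16 LD2_c54 LD3_c14) (f899243 IH)
def v38115 : LQ := Led Lsl_gf (LP (LK LD1_c9 LD2_c5 LD3_c10))
theorem f899270 : Led Lsl_gf (LP (LK LD1_c9 LD2_c5 LD3_c10)) = v38115 :=
  Lrfl
theorem f639164 : Led Lsl_af (LP (LK LD1_c2 LD2_c48 LD3_c48)) = K38.v4819 :=
  Lgr Lrot45 (Lpr_ft (K38.f639160 IH) (Lpe (K53.f639156 IH) (Lpr_ft (K38.f639163 IH) (Lpn K38.v4819))))
theorem f739207 : Led Lsl_at (LP (LK LD1_c12 LD2_c9 LD3_c20)) = (LP (LK LD1_c9 LD2_c5 LD3_c10)) :=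
  Lgr Lrot67 (Lpr_bf (K54.f739205 IH) (Lpe (K55.f140699 IH) (Lpe (K38.f140604 IH) (Lpr_af (f639164 IH) (Lpqs (K48.f639212 IH) (Lpe (K55.f23110 IH) (Lpn (LP (LK LD1_c9 LD2_c5 LD3_c10)))))))))
theorem f740682 : Led Lsl_ft (LP (LK LD1_c11 LD2_c22 LD3_c3)) = (LP (LK LD1_c12 LD2_c9 LD3_c20)) :=
  Lgr Lrot54 (Lpe (K53.f640276 IH) (Lpe (K54.f640290 IH) (Lpq (K54.f739213 IH) (Lpe (K54.f737920 IH) (Lpn (LP (LK LD1_c12 LD2_c9 LD3_c20)))))))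
theorem f899271 : Led Lsl_gt (LP (LK LD1_c11 LD2_c22 LD3_c3)) = v38115 :=
  Lgr Lrot5 (Lpr_ft (f740682 IH) (Lpr_at (f739207 IH) (Lpr_gf (f899270 IH) (Lpn v38115))))
theorem f268949 : Led Lsl_et (LP (LK LD1_c2 LD2_c13 LD3_c19)) = (LP (LK LD1_c4 LD2_c32 LD3_c38)) :=
  Lre_e IH (LK LD1_c2 LD2_c13 LD3_c19) (LK LD1_c4 LD2_c32 LD3_c38) Lrfl Lrfl
theorem f281266 : Led Lsl_gt (LP (LK LD1_c9 LD2_c2 LD3_c47)) = (LP (LK LD1_c4 LD2_c32 LD3_c38)) :=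
  Lre_g IH (LK LD1_c9 LD2_c2 LD3_c47) (LK LD1_c4 LD2_c32 LD3_c38) Lrfl Lrfl
def v37955 : LQ := Led Lsl_et (LP (LK LD1_c9 LD2_c2 LD3_c47))
theorem f898232 : Led Lsl_et (LP (LK LD1_c9 LD2_c2 LD3_c47)) = v37955 :=
  Lrfl
theorem f898233 : Led Lsl_ef (LP (LK LD1_c9 LD2_c2 LD3_c47)) = v37955 :=
  Lgr Lrot88 (Lpr_et (f898232 IH) (Lpn v37955))
theorem f899272 : Led Lsl_dt v37955 = v38115 :=
  Lgr Lrot56 (Lpe (f898233 IH) (Lpr_gt (f281266 IH) (Lpe (f268949 IH) (Lpr_dt (K42.f181347 IH) (Lpr_gt (K30.f174542 IH) (Lpe (K30.f181291 IH) (Lpr_et (K38.f181289 IH) (Lpqs (K53.f715029 IH) (Lpe (K53.f698754 IH) (Lpr_dt (K53.f640276 IH) (Lpr_gt (f899271 IH) (Lpn v38115))))))))))))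
theorem f268798 : Led Lsl_gt (LP (LK LD1_c16 LD2_c52 LD3_c56)) = (LP (LK LD1_c9 LD2_c2 LD3_c47)) :=
  Lre_g IH (LK LD1_c16 LD2_c52 LD3_c56) (LK LD1_c9 LD2_c2 LD3_c47) Lrfl Lrfl
theorem f268937 : Led Lsl_et (LP (LK LD1_c11 LD2_c13 LD3_c20)) = (LP (LK LD1_c16 LD2_c52 LD3_c56)) :=
  Lgr Lrot123 (Lpe (K16.f268936 IH) (Lpr_ef (K16.f268933 IH) (Lpe (K16.f268776 IH) (Lpn (LP (LK LD1_c16 LD2_c52 LD3_c56))))))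
theorem f566477 : Led Lsl_at (LP (LK LD1_c11 LD2_c14 LD3_c16)) = (LP (LK LD1_c16 LD2_c53 LD3_c49)) :=
  Lgr Lrot100 (Lpr_af (K41.f566471 IH) (Lpn (LP (LK LD1_c16 LD2_c53 LD3_c49))))
theorem f615837 : Led Lsl_ft (LP (LK LD1_c5 LD2_c41 LD3_c58)) = (LP (LK LD1_c11 LD2_c14 LD3_c16)) :=
  Lre_f IH (LK LD1_c5 LD2_c41 LD3_c58) (LK LD1_c11 LD2_c14 LD3_c16) Lrfl Lrfl
theorem f495829 : Led Lsl_gt (LP (LK LD1_c5 LD2_c41 LD3_c58)) = (LP (LK LD1_c11 LD2_c14 LD3_c14)) :=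
  Lre_g IH (LK LD1_c5 LD2_c41 LD3_c58) (LK LD1_c11 LD2_c14 LD3_c14) Lrfl Lrfl
theorem f615838 : Led Lsl_gt (LP (LK LD1_c11 LD2_c14 LD3_c14)) = (LP (LK LD1_c16 LD2_c53 LD3_c49)) :=
  Lgr Lrot46 (Lpe (f495829 IH) (Lpr_ft (f615837 IH) (Lpr_at (f566477 IH) (Lpn (LP (LK LD1_c16 LD2_c53 LD3_c49))))))
theorem f23149 : Led Lsl_et (LP (LK LD1_c4 LD2_c33 LD3_c48)) = (LP (LK LD1_c9 LD2_c5 LD3_c11)) :=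
  Lre_e IH (LK LD1_c4 LD2_c33 LD3_c48) (LK LD1_c9 LD2_c5 LD3_c11) Lrfl Lrfl
theorem f23153 : Led Lsl_gt (LP (LK LD1_c9 LD2_c5 LD3_c11)) = (LP (LK LD1_c16 LD2_c57 LD3_c8)) :=
  Lre_g IH (LK LD1_c9 LD2_c5 LD3_c11) (LK LD1_c16 LD2_c57 LD3_c8) Lrfl Lrfl
theorem f899274 : Led Lsl_df (LP (LK LD1_c11 LD2_c14 LD3_c14)) = (LP (LK LD1_c16 LD2_c57 LD3_c8)) :=
  Lgr Lrot135 (Lpr_gt (f615838 IH) (Lpe (K41.f566482 IH) (Lpr_et (f268937 IH) (Lpr_gt (f268798 IH) (Lpr_ef (f898233 IH) (Lpr_dt (f899272 IH) (Lpe (f899270 IH) (Lpe (K55.f23139 IH) (Lpr_et (f23149 IH) (Lpr_gt (f23153 IH) (Lpn (LP (LK LD1_c16 LD2_c57 LD3_c8)))))))))))))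
theorem f899275 : Led Lsl_dt (LP (LK LD1_c16 LD2_c57 LD3_c8)) = (LP (LK LD1_c11 LD2_c14 LD3_c14)) :=
  Leop (Lpr_df (f899274 IH) (Lpn (LP (LK LD1_c16 LD2_c57 LD3_c8))))
theorem seed_2206 : LEOK LG_d (LK LD1_c16 LD2_c57 LD3_c8) :=
  Leoe_d (LK LD1_c16 LD2_c57 LD3_c8) (f899275 IH)
def v38116 : LQ := Led Lsl_ft (LP (LK LD1_c9 LD2_c5 LD3_c11))
theorem f899279 : Led Lsl_ft (LP (LK LD1_c9 LD2_c5 LD3_c11)) = v38116 :=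
  Lrfl
theorem f899283 : Led Lsl_ff (LP (LK LD1_c9 LD2_c5 LD3_c11)) = v38116 :=
  Lgr Lrot3 (Lpr_ft (f899279 IH) (Lpn v38116))
theorem f23140 : Led Lsl_et (LP (LK LD1_c9 LD2_c5 LD3_c11)) = (LP (LK LD1_c4 LD2_c33 LD3_c48)) :=
  Lre_e IH (LK LD1_c9 LD2_c5 LD3_c11) (LK LD1_c4 LD2_c33 LD3_c48) Lrfl Lrfl
theorem f639136 : Led Lsl_ft (LP (LK LD1_c5 LD2_c45 LD3_c53)) = (LP (LK LD1_c11 LD2_c22 LD3_c11)) :=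
  Lre_f IH (LK LD1_c5 LD2_c45 LD3_c53) (LK LD1_c11 LD2_c22 LD3_c11) Lrfl Lrfl
theorem f899286 : Led Lsl_et (LP (LK LD1_c11 LD2_c22 LD3_c11)) = v38116 :=
  Lgr Lrot69 (Lpe (f639136 IH) (Lpe (K55.f639130 IH) (Lpr_ff (K53.f639134 IH) (Lpqs (K53.f639221 IH) (Lpe (f23140 IH) (Lpr_ff (f899283 IH) (Lpn v38116)))))))
theorem f746893 : Led Lsl_dt (LP (LK LD1_c11 LD2_c22 LD3_c11)) = K57.v16181 :=
  Lgr Lrot60 (Lpe (f639136 IH) (Lpr_df (K56.f741227 IH) (Lpr_ff (K57.f746891 IH) (Lpn K57.v16181))))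
theorem f280552 : Led Lsl_et (LP (LK LD1_c5 LD2_c41 LD3_c34)) = (LP (LK LD1_c2 LD2_c46 LD3_c50)) :=
  Lre_e IH (LK LD1_c5 LD2_c41 LD3_c34) (LK LD1_c2 LD2_c46 LD3_c50) Lrfl Lrfl
theorem f566473 : Led Lsl_gt (LP (LK LD1_c16 LD2_c53 LD3_c48)) = (LP (LK LD1_c9 LD2_c3 LD3_c1)) :=
  Lre_g IH (LK LD1_c16 LD2_c53 LD3_c48) (LK LD1_c9 LD2_c3 LD3_c1) Lrfl Lrfl
theorem f172626 : Led Lsl_et (LP (LK LD1_c1 LD2_c20 LD3_c23)) = (LP (LK LD1_c2 LD2_c48 LD3_c23)) :=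
  Lre_e IH (LK LD1_c1 LD2_c20 LD3_c23) (LK LD1_c2 LD2_c48 LD3_c23) Lrfl Lrfl
theorem f172630 : Led Lsl_gt (LP (LK LD1_c2 LD2_c48 LD3_c23)) = (LP (LK LD1_c5 LD2_c45 LD3_c13)) :=
  Lre_g IH (LK LD1_c2 LD2_c48 LD3_c23) (LK LD1_c5 LD2_c45 LD3_c13) Lrfl Lrfl
theorem f172631 : Led Lsl_et (LP (LK LD1_c11 LD2_c21 LD3_c0)) = (LP (LK LD1_c5 LD2_c45 LD3_c13)) :=
  Lre_e IH (LK LD1_c11 LD2_c21 LD3_c0) (LK LD1_c5 LD2_c45 LD3_c13) Lrfl Lrfl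
theorem f566507 : Led Lsl_dt (LP (LK LD1_c11 LD2_c21 LD3_c0)) = (LP (LK LD1_c16 LD2_c53 LD3_c48)) :=
  Lgr Lrot136 (Lpr_et (f172631 IH) (Lpe (f172630 IH) (Lpe (f172626 IH) (Lpe (K30.f172598 IH) (Lpe (K36.f172629 IH) (Lpr_df (K45.f551571 IH) (Lpe (K42.f280557 IH) (Lpe (f280552 IH) (Lpr_dt (K41.f566499 IH) (Lpe (f566473 IH) (Lpn (LP (LK LD1_c16 LD2_c53 LD3_c48)))))))))))))
theorem f899287 : Led Lsl_gf (LP (LK LD1_c11 LD2_c21 LD3_c0)) = v38116 :=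
  Lgr Lrot138 (Lpr_dt (f566507 IH) (Lpr_gt (f566473 IH) (Lpe (K41.f566499 IH) (Lpr_et (f280552 IH) (Lpr_gt (K42.f280557 IH) (Lpe (K40.f280565 IH) (Lpr_dt (K40.f561577 IH) (Lpr_gt (K57.f746878 IH) (Lpe (f746893 IH) (Lpr_et (f899286 IH) (Lpn v38116)))))))))))
theorem f639811 : Led Lsl_at (LP (LK LD1_c9 LD2_c5 LD3_c11)) = (LP (LK LD1_c16 LD2_c57 LD3_c4)) :=
  Lre_a IH (LK LD1_c9 LD2_c5 LD3_c11) (LK LD1_c16 LD2_c57 LD3_c4) Lrfl Lrfl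
theorem f899288 : Led Lsl_gt (LP (LK LD1_c11 LD2_c21 LD3_c0)) = (LP (LK LD1_c16 LD2_c57 LD3_c4)) :=
  Lgr Lrot46 (Lpr_gf (f899287 IH) (Lpe (f899283 IH) (Lpr_at (f639811 IH) (Lpn (LP (LK LD1_c16 LD2_c57 LD3_c4))))))
theorem f899289 : Led Lsl_gt (LP (LK LD1_c11 LD2_c21 LD3_c0)) = (LP (LK LD1_c16 LD2_c57 LD3_c4)) :=
  Leop (Lpe (f899288 IH) (Lpn (LP (LK LD1_c11 LD2_c21 LD3_c0))))
theorem seed_2207 : LEOK LG_g (LK LD1_c11 LD2_c21 LD3_c0) :=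
  Leoe_g (LK LD1_c11 LD2_c21 LD3_c0) (f899289 IH)
theorem f697965 : Led Lsl_gt K64.v4699 = v12748 :=
  Lgr Lrot5 (Lpe (f638528 IH) (Lpr_at (f390233 IH) (Lpr_gf (f697964 IH) (Lpn v12748))))
theorem f380638 : Led Lsl_gf (LP (LK LD1_c2 LD2_c46 LD3_c21)) = (LP (LK LD1_c4 LD2_c31 LD3_c51)) :=
  Lgr Lrot76 (Lpr_af (K50.f380134 IH) (Lpe (K50.f379925 IH) (Lpr_gt (f168860 IH) (Lpn (LP (LK LD1_c4 LD2_c31 LD3_c51))))))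
theorem f380641 : Led Lsl_bt (LP (LK LD1_c9 LD2_c1 LD3_c33)) = (LP (LK LD1_c4 LD2_c31 LD3_c51)) :=
  Lre_b IH (LK LD1_c9 LD2_c1 LD3_c33) (LK LD1_c4 LD2_c31 LD3_c51) Lrfl Lrfl
def v37876 : LQ := Led Lsl_ct (LP (LK LD1_c9 LD2_c1 LD3_c33))
theorem f897209 : Led Lsl_ct (LP (LK LD1_c9 LD2_c1 LD3_c33)) = v37876 :=
  Lrfl
theorem f898111 : Led Lsl_gt (LP (LK LD1_c16 LD2_c53 LD3_c46)) = v37876 :=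
  Lgr Lrot65 (Lpe (K41.f566458 IH) (Lpr_bt (K41.f566465 IH) (Lpr_gf (f698481 IH) (Lpq (f897992 IH) (Lpe (f698408 IH) (Lpr_ct (f698420 IH) (Lpqs (f897325 IH) (Lpe (f697965 IH) (Lpe (f638529 IH) (Lpr_gf (f380638 IH) (Lpe (f380641 IH) (Lpr_ct (f897209 IH) (Lpn v37876)))))))))))))
theorem f897210 : Led Lsl_cf (LP (LK LD1_c9 LD2_c1 LD3_c33)) = v37876 :=
  Lgr Lrot11 (Lpr_ct (f897209 IH) (Lpn v37876))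
theorem f823829 : Led Lsl_dt (LP (LK LD1_c9 LD2_c1 LD3_c33)) = (LP (LK LD1_c16 LD2_c51 LD3_c30)) :=
  Lre_d IH (LK LD1_c9 LD2_c1 LD3_c33) (LK LD1_c16 LD2_c51 LD3_c30) Lrfl Lrfl
theorem f416315 : Led Lsl_ct (LP (LK LD1_c26 LD2_c48 LD3_c48)) = (LP (LK LD1_c16 LD2_c51 LD3_c30)) :=
  Lre_c IH (LK LD1_c26 LD2_c48 LD3_c48) (LK LD1_c16 LD2_c51 LD3_c30) Lrfl Lrfl
theorem f639789 : Led Lsl_ct (LP (LK LD1_c16 LD2_c57 LD3_c4)) = (LP (LK LD1_c26 LD2_c53 LD3_c11)) :=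
  Lre_c IH (LK LD1_c16 LD2_c57 LD3_c4) (LK LD1_c26 LD2_c53 LD3_c11) Lrfl Lrfl
theorem f899290 : Led Lsl_gf (LP (LK LD1_c26 LD2_c48 LD3_c48)) = (LP (LK LD1_c26 LD2_c53 LD3_c11)) :=
  Lgr Lrot104 (Lpr_ct (f416315 IH) (Lpe (f823829 IH) (Lpr_cf (f897210 IH) (Lpe (f898111 IH) (Lpe (K41.f566458 IH) (Lpe (f566473 IH) (Lpe (f566507 IH) (Lpr_gt (f899288 IH) (Lpr_ct (f639789 IH) (Lpn (LP (LK LD1_c26 LD2_c53 LD3_c11))))))))))))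
theorem f899291 : Led Lsl_gt (LP (LK LD1_c26 LD2_c53 LD3_c11)) = (LP (LK LD1_c26 LD2_c48 LD3_c48)) :=
  Leop (Lpr_gf (f899290 IH) (Lpn (LP (LK LD1_c26 LD2_c53 LD3_c11))))
theorem seed_2208 : LEOK LG_g (LK LD1_c26 LD2_c53 LD3_c11) :=
  Leoe_g (LK LD1_c26 LD2_c53 LD3_c11) (f899291 IH)
def v38120 : LQ := Led Lsl_ct (LP (LK LD1_c9 LD2_c5 LD3_c13))
theorem f899304 : Led Lsl_ct (LP (LK LD1_c9 LD2_c5 LD3_c13)) = v38120 :=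
  Lrfl
theorem f740940 : Led Lsl_cf (LP (LK LD1_c5 LD2_c45 LD3_c19)) = v15687 :=
  Lgr Lrot11 (Lpr_ct (f740939 IH) (Lpn v15687))
theorem f899308 : Led Lsl_ff v15687 = v38120 :=
  Lgr Lrot23 (Lpe (f740940 IH) (Lpr_ft (f740943 IH) (Lpq (f897728 IH) (Lpr_ct (f899304 IH) (Lpn v38120)))))
def v38064 : LQ := Led Lsl_ct (LP (LK LD1_c9 LD2_c4 LD3_c36))
theorem f898967 : Led Lsl_ct (LP (LK LD1_c9 LD2_c4 LD3_c36)) = v38064 :=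
  Lrfl
theorem f698598 : Led Lsl_cf (LP (LK LD1_c4 LD2_c33 LD3_c29)) = v12850 :=
  Lgr Lrot11 (Lpr_ct (f698597 IH) (Lpn v12850))
theorem f898970 : Led Lsl_ef v12850 = v38064 :=
  Lgr Lrot28 (Lpe (f698598 IH) (Lpr_et (f225954 IH) (Lpr_ct (f898967 IH) (Lpn v38064))))
theorem f897688 : K56.v15255 = v12850 :=
  Lefun (Lecon (Lfl_cf (K56.f750551 IH)) (f897682 IH)) (f698597 IH)
theorem f898974 : Led Lsl_at v15259 = v38064 :=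
  Lgr Lrot80 (Lpe (f733191 IH) (Lpr_af (K56.f733181 IH) (Lpqs (f897688 IH) (Lpr_ef (f898970 IH) (Lpn v38064)))))
theorem f174232 : Led Lsl_et (LP (LK LD1_c2 LD2_c42 LD3_c57)) = (LP (LK LD1_c1 LD2_c17 LD3_c58)) :=
  Lre_e IH (LK LD1_c2 LD2_c42 LD3_c57) (LK LD1_c1 LD2_c17 LD3_c58) Lrfl Lrfl
def v4698 : LQ := Led Lsl_dt (LP (LK LD1_c2 LD2_c42 LD3_c57))
theorem f638521 : Led Lsl_dt (LP (LK LD1_c2 LD2_c42 LD3_c57)) = v4698 :=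
  Lrfl
def v24365 : LQ := Led Lsl_gf v4698
theorem f823448 : Led Lsl_gf v4698 = v24365 :=
  Lrfl
theorem f898975 : Led Lsl_df v24365 = v38064 :=
  Lgr Lrot170 (Lpe (f823448 IH) (Lpe (f638521 IH) (Lpr_et (f174232 IH) (Lpr_gt (K17.f225356 IH) (Lpe (K14.f225342 IH) (Lpr_gt (K12.f183312 IH) (Lpe (K30.f181950 IH) (Lpr_et (K20.f225361 IH) (Lpr_gt (f698135 IH) (Lpq (f896280 IH) (Lpr_ef (f898970 IH) (Lpn v38064))))))))))))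
theorem f638522 : Led Lsl_df (LP (LK LD1_c2 LD2_c42 LD3_c57)) = v4698 :=
  Lgr Lrot38 (Lpr_dt (f638521 IH) (Lpn v4698))
def v24564 : LQ := Led Lsl_ft v4810
theorem f824635 : Led Lsl_ft v4810 = v24564 :=
  Lrfl
theorem f824638 : Led Lsl_ff v4810 = v24564 :=
  Lgr Lrot3 (Lpr_ft (f824635 IH) (Lpn v24564))
theorem f824639 : Led Lsl_ct K57.v17151 = v24564 :=
  Lgr Lrot40 (Lpe (K57.f756392 IH) (Lpe (f689165 IH) (Lpr_ff (f824638 IH) (Lpn v24564))))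
theorem f898977 : Led Lsl_gt v24564 = v38064 :=
  Lgr Lrot94 (Lpe (f824639 IH) (Lpe (f756390 IH) (Lpe (K65.f289452 IH) (Lpr_gt (K64.f289449 IH) (Lpr_dt (K54.f172288 IH) (Lpr_cf (K54.f380489 IH) (Lpr_df (f638522 IH) (Lpr_gf (f823448 IH) (Lpr_df (f898975 IH) (Lpn v38064))))))))))
theorem f899314 : Led Lsl_gf v24564 = v38120 :=
  Lgr Lrot47 (Lpr_gt (f898977 IH) (Lpe (f898974 IH) (Lpq (f750557 IH) (Lpr_ff (f899308 IH) (Lpn v38120)))))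
theorem f756387 : Led Lsl_bf (LP (LK LD1_c6 LD2_c12 LD3_c32)) = K57.v17151 :=
  Lgr Lrot96 (Lpr_et (K49.f413497 IH) (Lpr_bt (K55.f416487 IH) (Lpr_et (K57.f756385 IH) (Lpn K57.v17151))))
theorem f413509 : Led Lsl_bt (LP (LK LD1_c11 LD2_c12 LD3_c9)) = (LP (LK LD1_c5 LD2_c40 LD3_c48)) :=
  Lre_b IH (LK LD1_c11 LD2_c12 LD3_c9) (LK LD1_c5 LD2_c40 LD3_c48) Lrfl Lrfl
theorem f413510 : Led Lsl_ct (LP (LK LD1_c11 LD2_c12 LD3_c9)) = (LP (LK LD1_c20 LD2_c6 LD3_c49)) :=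
  Lre_c IH (LK LD1_c11 LD2_c12 LD3_c9) (LK LD1_c20 LD2_c6 LD3_c49) Lrfl Lrfl
theorem f417061 : Led Lsl_ct (LP (LK LD1_c9 LD2_c5 LD3_c11)) = (LP (LK LD1_c16 LD2_c57 LD3_c6)) :=
  Lre_c IH (LK LD1_c9 LD2_c5 LD3_c11) (LK LD1_c16 LD2_c57 LD3_c6) Lrfl Lrfl
theorem f899315 : Led Lsl_gt (LP (LK LD1_c20 LD2_c6 LD3_c49)) = (LP (LK LD1_c16 LD2_c57 LD3_c6)) :=
  Lgr Lrot65 (Lpe (f413510 IH) (Lpr_bt (f413509 IH) (Lpe (K57.f413484 IH) (Lpr_bf (f756387 IH) (Lpr_ct (f824639 IH) (Lpr_gf (f899314 IH) (Lpe (f899304 IH) (Lpe (K50.f23136 IH) (Lpe (K54.f417060 IH) (Lpr_ct (f417061 IH) (Lpn (LP (LK LD1_c16 LD2_c57 LD3_c6)))))))))))))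
theorem f899316 : Led Lsl_gt (LP (LK LD1_c20 LD2_c6 LD3_c49)) = (LP (LK LD1_c16 LD2_c57 LD3_c6)) :=
  Leop (Lpe (f899315 IH) (Lpn (LP (LK LD1_c20 LD2_c6 LD3_c49))))
theorem seed_2209 : LEOK LG_g (LK LD1_c20 LD2_c6 LD3_c49) :=
  Leoe_g (LK LD1_c20 LD2_c6 LD3_c49) (f899316 IH)
def v38131 : LQ := Led Lsl_bt (LP (LK LD1_c9 LD2_c5 LD3_c21))
theorem f899375 : Led Lsl_bt (LP (LK LD1_c9 LD2_c5 LD3_c21)) = v38131 :=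
  Lrfl
theorem f225984 : Led Lsl_bt (LP (LK LD1_c11 LD2_c22 LD3_c53)) = (LP (LK LD1_c5 LD2_c46 LD3_c19)) :=
  Lre_b IH (LK LD1_c11 LD2_c22 LD3_c53) (LK LD1_c5 LD2_c46 LD3_c19) Lrfl Lrfl
theorem f899377 : Led Lsl_ff (LP (LK LD1_c11 LD2_c22 LD3_c53)) = v38131 :=
  Lgr Lrot25 (Lpr_bt (f225984 IH) (Lpe (K67.f715242 IH) (Lpr_bt (f899375 IH) (Lpn v38131))))
theorem f899378 : Led Lsl_ft (LP (LK LD1_c11 LD2_c22 LD3_c53)) = v38131 :=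
  Lgr Lrot48 (Lpr_ff (f899377 IH) (Lpn v38131))
theorem f561812 : Led Lsl_ft (LP (LK LD1_c5 LD2_c42 LD3_c52)) = (LP (LK LD1_c11 LD2_c15 LD3_c58)) :=
  Lre_f IH (LK LD1_c5 LD2_c42 LD3_c52) (LK LD1_c11 LD2_c15 LD3_c58) Lrfl Lrfl
theorem f653319 : Led Lsl_gt (LP (LK LD1_c5 LD2_c42 LD3_c52)) = (LP (LK LD1_c11 LD2_c14 LD3_c26)) :=
  Lgr Lrot5 (Lpr_ft (f561812 IH) (Lpr_at (K45.f561800 IH) (Lpr_gf (K53.f653317 IH) (Lpn (LP (LK LD1_c11 LD2_c14 LD3_c26))))))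
theorem f407068 : Led Lsl_et (LP (LK LD1_c9 LD2_c1 LD3_c59)) = (LP (LK LD1_c4 LD2_c32 LD3_c9)) :=
  Lre_e IH (LK LD1_c9 LD2_c1 LD3_c59) (LK LD1_c4 LD2_c32 LD3_c9) Lrfl Lrfl
theorem f225999 : Led Lsl_et (LP (LK LD1_c20 LD2_c9 LD3_c28)) = (LP (LK LD1_c11 LD2_c14 LD3_c26)) :=
  Lre_e IH (LK LD1_c20 LD2_c9 LD3_c28) (LK LD1_c11 LD2_c14 LD3_c26) Lrfl Lrfl
theorem f225983 : Led Lsl_bt (LP (LK LD1_c11 LD2_c14 LD3_c28)) = (LP (LK LD1_c20 LD2_c9 LD3_c28)) :=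
  Lre_b IH (LK LD1_c11 LD2_c14 LD3_c28) (LK LD1_c20 LD2_c9 LD3_c28) Lrfl Lrfl
theorem f225985 : Led Lsl_dt (LP (LK LD1_c20 LD2_c9 LD3_c28)) = (LP (LK LD1_c11 LD2_c22 LD3_c53)) :=
  Lgr Lrot79 (Lpe (f225983 IH) (Lpr_df (K50.f225974 IH) (Lpe (f225984 IH) (Lpn (LP (LK LD1_c11 LD2_c22 LD3_c53))))))
theorem f653328 : Led Lsl_gf (LP (LK LD1_c5 LD2_c53 LD3_c21)) = (LP (LK LD1_c11 LD2_c22 LD3_c53)) :=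
  Lgr Lrot145 (Lpr_df (K36.f538899 IH) (Lpr_et (f407068 IH) (Lpr_gt (K31.f407038 IH) (Lpe (K18.f168253 IH) (Lpr_gt (K38.f547819 IH) (Lpe (K38.f542626 IH) (Lpr_et (K40.f549522 IH) (Lpr_gt (f653319 IH) (Lpe (f225999 IH) (Lpr_dt (f225985 IH) (Lpn (LP (LK LD1_c11 LD2_c22 LD3_c53)))))))))))))
theorem f500404 : Led Lsl_gt (LP (LK LD1_c5 LD2_c53 LD3_c21)) = (LP (LK LD1_c11 LD2_c32 LD3_c50)) :=
  Lre_g IH (LK LD1_c5 LD2_c53 LD3_c21) (LK LD1_c11 LD2_c32 LD3_c50) Lrfl Lrfl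
theorem f899379 : Led Lsl_af (LP (LK LD1_c11 LD2_c32 LD3_c50)) = v38131 :=
  Lgr Lrot31 (Lpe (f500404 IH) (Lpr_gf (f653328 IH) (Lpr_ft (f899378 IH) (Lpn v38131))))
theorem f715248 : Led Lsl_af (LP (LK LD1_c9 LD2_c5 LD3_c21)) = (LP (LK LD1_c5 LD2_c46 LD3_c18)) :=
  Lgr Lrot0 (Lpr_at (K67.f715246 IH) (Lpn (LP (LK LD1_c5 LD2_c46 LD3_c18))))
theorem f411982 : Led Lsl_et (LP (LK LD1_c5 LD2_c41 LD3_c24)) = (LP (LK LD1_c2 LD2_c46 LD3_c44)) :=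
  Lre_e IH (LK LD1_c5 LD2_c41 LD3_c24) (LK LD1_c2 LD2_c46 LD3_c44) Lrfl Lrfl
theorem f411983 : Led Lsl_dt (LP (LK LD1_c5 LD2_c41 LD3_c24)) = (LP (LK LD1_c11 LD2_c13 LD3_c1)) :=
  Lre_d IH (LK LD1_c5 LD2_c41 LD3_c24) (LK LD1_c11 LD2_c13 LD3_c1) Lrfl Lrfl
theorem f211885 : Led Lsl_et (LP (LK LD1_c20 LD2_c0 LD3_c0)) = (LP (LK LD1_c11 LD2_c6 LD3_c33)) :=
  Lre_e IH (LK LD1_c20 LD2_c0 LD3_c0) (LK LD1_c11 LD2_c6 LD3_c33) Lrfl Lrfl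
theorem f211873 : Led Lsl_bt (LP (LK LD1_c11 LD2_c6 LD3_c35)) = (LP (LK LD1_c20 LD2_c0 LD3_c0)) :=
  Lre_b IH (LK LD1_c11 LD2_c6 LD3_c35) (LK LD1_c20 LD2_c0 LD3_c0) Lrfl Lrfl
theorem f211874 : Led Lsl_bt (LP (LK LD1_c16 LD2_c57 LD3_c22)) = (LP (LK LD1_c9 LD2_c5 LD3_c22)) :=
  Lre_b IH (LK LD1_c16 LD2_c57 LD3_c22) (LK LD1_c9 LD2_c5 LD3_c22) Lrfl Lrfl
theorem f211875 : Led Lsl_dt (LP (LK LD1_c20 LD2_c0 LD3_c0)) = (LP (LK LD1_c16 LD2_c57 LD3_c22)) :=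
  Lgr Lrot79 (Lpe (f211873 IH) (Lpr_df (K55.f211864 IH) (Lpe (f211874 IH) (Lpn (LP (LK LD1_c16 LD2_c57 LD3_c22))))))
theorem f781358 : Led Lsl_gf (LP (LK LD1_c11 LD2_c13 LD3_c1)) = (LP (LK LD1_c16 LD2_c57 LD3_c22)) :=
  Lgr Lrot145 (Lpe (f411983 IH) (Lpr_et (f411982 IH) (Lpr_gt (K36.f411974 IH) (Lpe (K18.f175991 IH) (Lpr_gt (K39.f386168 IH) (Lpr_df (K45.f551571 IH) (Lpr_et (K40.f561568 IH) (Lpr_gt (K60.f781356 IH) (Lpe (f211885 IH) (Lpr_dt (f211875 IH) (Lpn (LP (LK LD1_c16 LD2_c57 LD3_c22)))))))))))))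
theorem f411984 : Led Lsl_gt (LP (LK LD1_c11 LD2_c13 LD3_c1)) = (LP (LK LD1_c20 LD2_c7 LD3_c37)) :=
  Lre_g IH (LK LD1_c11 LD2_c13 LD3_c1) (LK LD1_c20 LD2_c7 LD3_c37) Lrfl Lrfl
theorem f211861 : Led Lsl_bt (LP (LK LD1_c9 LD2_c5 LD3_c22)) = (LP (LK LD1_c16 LD2_c57 LD3_c22)) :=
  Lre_b IH (LK LD1_c9 LD2_c5 LD3_c22) (LK LD1_c16 LD2_c57 LD3_c22) Lrfl Lrfl
theorem f715256 : Led Lsl_ft (LP (LK LD1_c16 LD2_c57 LD3_c22)) = (LP (LK LD1_c11 LD2_c22 LD3_c51)) :=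
  Lgr Lrot75 (Lpe (f211861 IH) (Lpr_ff (K67.f715254 IH) (Lpe (K57.f9324 IH) (Lpn (LP (LK LD1_c11 LD2_c22 LD3_c51))))))
theorem f781362 : Led Lsl_af (LP (LK LD1_c20 LD2_c7 LD3_c37)) = (LP (LK LD1_c11 LD2_c22 LD3_c51)) :=
  Lgr Lrot31 (Lpe (f411984 IH) (Lpr_gf (f781358 IH) (Lpr_ft (f715256 IH) (Lpn (LP (LK LD1_c11 LD2_c22 LD3_c51))))))
theorem f781364 : Led Lsl_at (LP (LK LD1_c20 LD2_c7 LD3_c37)) = (LP (LK LD1_c11 LD2_c22 LD3_c51)) :=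
  Lgr Lrot100 (Lpr_af (f781362 IH) (Lpn (LP (LK LD1_c11 LD2_c22 LD3_c51))))
theorem f899382 : Led Lsl_bt (LP (LK LD1_c11 LD2_c32 LD3_c50)) = (LP (LK LD1_c20 LD2_c7 LD3_c37)) :=
  Lgr Lrot62 (Lpr_af (f899379 IH) (Lpe (f899375 IH) (Lpr_af (f715248 IH) (Lpe (K57.f9324 IH) (Lpe (f781364 IH) (Lpn (LP (LK LD1_c20 LD2_c7 LD3_c37))))))))
theorem f899383 : Led Lsl_bt (LP (LK LD1_c11 LD2_c32 LD3_c50)) = (LP (LK LD1_c20 LD2_c7 LD3_c37)) :=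
  Leop (Lpe (f899382 IH) (Lpn (LP (LK LD1_c11 LD2_c32 LD3_c50))))
theorem seed_2210 : LEOK LG_b (LK LD1_c11 LD2_c32 LD3_c50) :=
  Leoe_b (LK LD1_c11 LD2_c32 LD3_c50) (f899383 IH)
def v38152 : LQ := Led Lsl_gf (LP (LK LD1_c9 LD2_c5 LD3_c38))
theorem f899474 : Led Lsl_gf (LP (LK LD1_c9 LD2_c5 LD3_c38)) = v38152 :=
  Lrfl
theorem f437447 : Led Lsl_dt (LP (LK LD1_c4 LD2_c34 LD3_c3)) = (LP (LK LD1_c2 LD2_c13 LD3_c55)) :=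
  Lre_d IH (LK LD1_c4 LD2_c34 LD3_c3) (LK LD1_c2 LD2_c13 LD3_c55) Lrfl Lrfl
theorem f899476 : Led Lsl_ct (LP (LK LD1_c9 LD2_c18 LD3_c6)) = v38152 :=
  Lgr Lrot152 (Lpe (K55.f204673 IH) (Lpr_df (K55.f204637 IH) (Lpe (K60.f204338 IH) (Lpe (K60.f700413 IH) (Lpr_gt (K60.f437356 IH) (Lpr_ct (K32.f437344 IH) (Lpe (f437447 IH) (Lpe (K41.f505173 IH) (Lpr_gf (f899474 IH) (Lpn v38152))))))))))
def v17268 : LQ := Led Lsl_ct (LP (LK LD1_c6 LD2_c16 LD3_c58))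
theorem f758042 : Led Lsl_ct (LP (LK LD1_c6 LD2_c16 LD3_c58)) = v17268 :=
  Lrfl
theorem f758043 : Led Lsl_cf (LP (LK LD1_c6 LD2_c16 LD3_c58)) = v17268 :=
  Lgr Lrot11 (Lpr_ct (f758042 IH) (Lpn v17268))
theorem f899479 : Led Lsl_ff v17268 = v38152 :=
  Lgr Lrot23 (Lpe (f758043 IH) (Lpr_ft (K57.f758050 IH) (Lpq (K57.f758062 IH) (Lpr_ct (f899476 IH) (Lpn v38152)))))
def v38151 : LQ := Led Lsl_gt (LP (LK LD1_c9 LD2_c5 LD3_c38))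
theorem f899473 : Led Lsl_gt (LP (LK LD1_c9 LD2_c5 LD3_c38)) = v38151 :=
  Lrfl
theorem f899481 : Led Lsl_at v17268 = v38151 :=
  Lgr Lrot26 (Lpr_ff (f899479 IH) (Lpe (f899474 IH) (Lpr_gt (f899473 IH) (Lpn v38151))))
theorem f899483 : Led Lsl_cf K57.v17266 = v38151 :=
  Lgr Lrot1 (Lpe (K57.f758037 IH) (Lpr_ct (f758042 IH) (Lpr_at (f899481 IH) (Lpn v38151))))
theorem f758039 : Led Lsl_ff (LP (LK LD1_c6 LD2_c16 LD3_c59)) = K57.v17266 :=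
  Lgr Lrot3 (Lpr_ft (K57.f758038 IH) (Lpn K57.v17266))
theorem f437249 : Led Lsl_gt (LP (LK LD1_c5 LD2_c48 LD3_c10)) = (LP (LK LD1_c11 LD2_c25 LD3_c57)) :=
  Lre_g IH (LK LD1_c5 LD2_c48 LD3_c10) (LK LD1_c11 LD2_c25 LD3_c57) Lrfl Lrfl
theorem f437495 : Led Lsl_at (LP (LK LD1_c5 LD2_c48 LD3_c10)) = (LP (LK LD1_c2 LD2_c50 LD3_c20)) :=
  Lre_a IH (LK LD1_c5 LD2_c48 LD3_c10) (LK LD1_c2 LD2_c50 LD3_c20) Lrfl Lrfl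
theorem f567714 : Led Lsl_bf (LP (LK LD1_c5 LD2_c48 LD3_c10)) = (LP (LK LD1_c2 LD2_c50 LD3_c55)) :=
  Lgr Lrot81 (Lpr_at (f437495 IH) (Lpr_bt (K37.f437494 IH) (Lpe (K48.f146404 IH) (Lpr_bt (K50.f437493 IH) (Lpr_at (K41.f567709 IH) (Lpn (LP (LK LD1_c2 LD2_c50 LD3_c55))))))))
def v15900 : LQ := Led Lsl_gf (LP (LK LD1_c5 LD2_c49 LD3_c35))
theorem f744128 : Led Lsl_gf (LP (LK LD1_c5 LD2_c49 LD3_c35)) = v15900 :=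
  Lrfl
theorem f204481 : Led Lsl_at (LP (LK LD1_c4 LD2_c41 LD3_c38)) = (LP (LK LD1_c3 LD2_c5 LD3_c35)) :=
  Lgr Lrot51 (Lpr_df (K11.f204478 IH) (Lpr_af (K11.f204329 IH) (Lpe (K57.f204448 IH) (Lpn (LP (LK LD1_c3 LD2_c5 LD3_c35))))))
theorem f26820 : Led Lsl_ft (LP (LK LD1_c9 LD2_c13 LD3_c13)) = (LP (LK LD1_c4 LD2_c41 LD3_c38)) :=
  Lgr Lrot48 (Lpr_ff (K11.f26810 IH) (Lpn (LP (LK LD1_c4 LD2_c41 LD3_c38))))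
theorem f419076 : Led Lsl_gt (LP (LK LD1_c9 LD2_c13 LD3_c13)) = (LP (LK LD1_c6 LD2_c16 LD3_c59)) :=
  Lgr Lrot5 (Lpr_ft (f26820 IH) (Lpr_at (f204481 IH) (Lpe (K57.f204467 IH) (Lpn (LP (LK LD1_c6 LD2_c16 LD3_c59))))))
theorem f749950 : Led Lsl_cf v15900 = (LP (LK LD1_c6 LD2_c16 LD3_c59)) :=
  Lgr Lrot125 (Lpe (f744128 IH) (Lpe (K41.f567708 IH) (Lpe (f567714 IH) (Lpr_gt (f437249 IH) (Lpr_bf (K57.f749946 IH) (Lpe (K57.f743800 IH) (Lpr_gt (K57.f207170 IH) (Lpe (K35.f207145 IH) (Lpr_bt (K56.f615745 IH) (Lpr_gt (f419076 IH) (Lpn (LP (LK LD1_c6 LD2_c16 LD3_c59)))))))))))))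
theorem f899485 : Led Lsl_ft v15900 = v38151 :=
  Lgr Lrot4 (Lpr_cf (f749950 IH) (Lpr_ff (f758039 IH) (Lpr_cf (f899483 IH) (Lpn v38151))))
def v15899 : LQ := Led Lsl_gt (LP (LK LD1_c5 LD2_c49 LD3_c35))
theorem f744127 : Led Lsl_gt (LP (LK LD1_c5 LD2_c49 LD3_c35)) = v15899 :=
  Lrfl
theorem f899482 : Led Lsl_af v17268 = v38151 :=
  Lgr Lrot0 (Lpr_at (f899481 IH) (Lpn v38151))
theorem f899487 : v15899 = v17268 :=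
  (Llr Lrot46 (Lpe (f744127 IH) (Lpr_gf (f744128 IH) (Lpr_ft (f899485 IH) (Lpe (f899482 IH) (Lpn v17268)))))).symm
theorem f899486 : Led Lsl_ff v15900 = v38151 :=
  Lgr Lrot3 (Lpr_ft (f899485 IH) (Lpn v38151))
theorem f899488 : Led Lsl_af v38152 = v15900 :=
  Lgr Lrot45 (Lpe (f899479 IH) (Lpq (f899487 IH) (Lpqs (f899487 IH) (Lpr_at (f899481 IH) (Lpe (f899486 IH) (Lpn v15900))))))
theorem f567724 : Led Lsl_ct (LP (LK LD1_c5 LD2_c49 LD3_c35)) = (LP (LK LD1_c2 LD2_c50 LD3_c55)) :=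
  Lre_c IH (LK LD1_c5 LD2_c49 LD3_c35) (LK LD1_c2 LD2_c50 LD3_c55) Lrfl Lrfl
theorem f743988 : Led Lsl_ff (LP (LK LD1_c5 LD2_c49 LD3_c35)) = K57.v15867 :=
  Lgr Lrot23 (Lpr_ct (f567724 IH) (Lpr_ft (K41.f567719 IH) (Lpr_ct (K57.f743984 IH) (Lpn K57.v15867))))
theorem f899475 : Led Lsl_gt K57.v15867 = v38152 :=
  Lgr Lrot5 (Lpe (f743988 IH) (Lpe (K41.f567704 IH) (Lpr_gf (f899474 IH) (Lpn v38152))))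
theorem f899489 : Led Lsl_gf K57.v15867 = v38151 :=
  Lgr Lrot47 (Lpr_gt (f899475 IH) (Lpr_af (f899488 IH) (Lpr_ff (f899486 IH) (Lpn v38151))))
theorem f567742 : Led Lsl_bf (LP (LK LD1_c11 LD2_c25 LD3_c59)) = (LP (LK LD1_c5 LD2_c49 LD3_c1)) :=
  Lgr Lrot93 (Lpr_dt (K48.f66361 IH) (Lpe (K32.f146438 IH) (Lpr_dt (K41.f567732 IH) (Lpn (LP (LK LD1_c5 LD2_c49 LD3_c1))))))
theorem f755520 : Led Lsl_ct (LP (LK LD1_c17 LD2_c31 LD3_c27)) = (LP (LK LD1_c20 LD2_c24 LD3_c31)) :=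
  Lgr Lrot59 (Lpr_cf (K64.f755514 IH) (Lpn (LP (LK LD1_c20 LD2_c24 LD3_c31))))
theorem f899484 : Led Lsl_ct K57.v17266 = v38151 :=
  Lgr Lrot59 (Lpr_cf (f899483 IH) (Lpn v38151))
theorem f758052 : Led Lsl_ff (LP (LK LD1_c6 LD2_c16 LD3_c58)) = K57.v17271 :=
  Lgr Lrot3 (Lpr_ft (K57.f758050 IH) (Lpn K57.v17271))
theorem f26822 : Led Lsl_gt (LP (LK LD1_c4 LD2_c41 LD3_c38)) = (LP (LK LD1_c9 LD2_c18 LD3_c5)) :=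
  Lre_g IH (LK LD1_c4 LD2_c41 LD3_c38) (LK LD1_c9 LD2_c18 LD3_c5) Lrfl Lrfl
theorem f758074 : K57.v17266 = (LP (LK LD1_c9 LD2_c18 LD3_c5)) :=
  (Llr Lrot26 (Lpe (K57.f758036 IH) (Lpr_ff (f758052 IH) (Lpq (K57.f758062 IH) (Lpr_gt (K55.f204486 IH) (Lpr_gt (f26822 IH) (Lpn (LP (LK LD1_c9 LD2_c18 LD3_c5))))))))).symm
theorem f758079 : Led Lsl_bt (LP (LK LD1_c9 LD2_c18 LD3_c5)) = (LP (LK LD1_c17 LD2_c13 LD3_c10)) :=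
  Lre_b IH (LK LD1_c9 LD2_c18 LD3_c5) (LK LD1_c17 LD2_c13 LD3_c10) Lrfl Lrfl
theorem f899491 : Led Lsl_gt (LP (LK LD1_c11 LD2_c28 LD3_c13)) = (LP (LK LD1_c17 LD2_c13 LD3_c10)) :=
  Lgr Lrot164 (Lpr_bf (K48.f559306 IH) (Lpr_ct (f755520 IH) (Lpe (K64.f755512 IH) (Lpe (K64.f66363 IH) (Lpe (K7.f66362 IH) (Lpr_bf (f567742 IH) (Lpr_ct (K57.f743984 IH) (Lpr_gf (f899489 IH) (Lpe (f899484 IH) (Lpqs (f758074 IH) (Lpr_bt (f758079 IH) (Lpn (LP (LK LD1_c17 LD2_c13 LD3_c10))))))))))))))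
theorem f899492 : Led Lsl_gt (LP (LK LD1_c11 LD2_c28 LD3_c13)) = (LP (LK LD1_c17 LD2_c13 LD3_c10)) :=
  Leop (Lpe (f899491 IH) (Lpn (LP (LK LD1_c11 LD2_c28 LD3_c13))))
theorem seed_2211 : LEOK LG_g (LK LD1_c11 LD2_c28 LD3_c13) :=
  Leoe_g (LK LD1_c11 LD2_c28 LD3_c13) (f899492 IH)
theorem f899478 : Led Lsl_cf (LP (LK LD1_c9 LD2_c18 LD3_c6)) = v38152 :=
  Lgr Lrot11 (Lpr_ct (f899476 IH) (Lpn v38152))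
theorem f204485 : Led Lsl_bt (LP (LK LD1_c9 LD2_c18 LD3_c4)) = (LP (LK LD1_c17 LD2_c13 LD3_c9)) :=
  Lre_b IH (LK LD1_c9 LD2_c18 LD3_c4) (LK LD1_c17 LD2_c13 LD3_c9) Lrfl Lrfl
theorem f743989 : Led Lsl_bt (LP (LK LD1_c6 LD2_c42 LD3_c17)) = K57.v15867 :=
  Lgr Lrot35 (Lpe (K56.f144536 IH) (Lpr_bf (K56.f613732 IH) (Lpr_ff (f743988 IH) (Lpn K57.v15867))))
theorem f144617 : Led Lsl_ct (LP (LK LD1_c7 LD2_c52 LD3_c2)) = (LP (LK LD1_c3 LD2_c55 LD3_c9)) :=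
  Lre_c IH (LK LD1_c7 LD2_c52 LD3_c2) (LK LD1_c3 LD2_c55 LD3_c9) Lrfl Lrfl
theorem f144627 : Led Lsl_bt (LP (LK LD1_c7 LD2_c52 LD3_c2)) = (LP (LK LD1_c14 LD2_c50 LD3_c21)) :=
  Lre_b IH (LK LD1_c7 LD2_c52 LD3_c2) (LK LD1_c14 LD2_c50 LD3_c21) Lrfl Lrfl
theorem f899597 : Led Lsl_gt (LP (LK LD1_c17 LD2_c13 LD3_c9)) = (LP (LK LD1_c14 LD2_c50 LD3_c21)) :=
  Lgr Lrot164 (Lpe (f204485 IH) (Lpr_ct (K52.f26819 IH) (Lpe (K55.f204486 IH) (Lpr_cf (f899478 IH) (Lpe (f899475 IH) (Lpe (f743989 IH) (Lpe (K57.f144612 IH) (Lpe (K7.f144586 IH) (Lpe (f144617 IH) (Lpr_bt (f144627 IH) (Lpn (LP (LK LD1_c14 LD2_c50 LD3_c21)))))))))))))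
theorem f899598 : Led Lsl_gt (LP (LK LD1_c17 LD2_c13 LD3_c9)) = (LP (LK LD1_c14 LD2_c50 LD3_c21)) :=
  Leop (Lpe (f899597 IH) (Lpn (LP (LK LD1_c17 LD2_c13 LD3_c9))))
theorem seed_2212 : LEOK LG_g (LK LD1_c17 LD2_c13 LD3_c9) :=
  Leoe_g (LK LD1_c17 LD2_c13 LD3_c9) (f899598 IH)
def v38160 : LQ := Led Lsl_et (LP (LK LD1_c9 LD2_c5 LD3_c44))
theorem f899640 : Led Lsl_et (LP (LK LD1_c9 LD2_c5 LD3_c44)) = v38160 :=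
  Lrfl
theorem f899645 : Led Lsl_ef (LP (LK LD1_c9 LD2_c5 LD3_c44)) = v38160 :=
  Lgr Lrot88 (Lpr_et (f899640 IH) (Lpn v38160))
theorem f558653 : Led Lsl_df (LP (LK LD1_c4 LD2_c57 LD3_c24)) = (LP (LK LD1_c9 LD2_c5 LD3_c44)) :=
  Lgr Lrot162 (Lpe (K41.f558651 IH) (Lpr_gf (K41.f541753 IH) (Lpe (K36.f75562 IH) (Lpe (K40.f381930 IH) (Lpr_dt (K40.f541755 IH) (Lpr_gt (K40.f558645 IH) (Lpe (K41.f541792 IH) (Lpr_gt (K40.f37070 IH) (Lpr_ct (K36.f541822 IH) (Lpn (LP (LK LD1_c9 LD2_c5 LD3_c44))))))))))))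
theorem f563785 : Led Lsl_ef (LP (LK LD1_c2 LD2_c27 LD3_c13)) = (LP (LK LD1_c4 LD2_c57 LD3_c24)) :=
  Lgr Lrot88 (Lpr_et (K40.f563779 IH) (Lpn (LP (LK LD1_c4 LD2_c57 LD3_c24))))
theorem f899649 : Led Lsl_dt (LP (LK LD1_c9 LD2_c48 LD3_c2)) = v38160 :=
  Lgr Lrot77 (Lpe (K53.f387078 IH) (Lpe (K39.f387070 IH) (Lpr_ef (f563785 IH) (Lpr_df (f558653 IH) (Lpr_ef (f899645 IH) (Lpn v38160))))))
theorem f76054 : Led Lsl_et (LP (LK LD1_c6 LD2_c8 LD3_c49)) = (LP (LK LD1_c11 LD2_c59 LD3_c5)) :=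
  Lre_e IH (LK LD1_c6 LD2_c8 LD3_c49) (LK LD1_c11 LD2_c59 LD3_c5) Lrfl Lrfl
theorem f618448 : Led Lsl_gt (LP (LK LD1_c11 LD2_c40 LD3_c24)) = (LP (LK LD1_c11 LD2_c59 LD3_c5)) :=
  Lgr Lrot131 (Lpe (K36.f426218 IH) (Lpr_dt (K36.f426216 IH) (Lpe (K36.f426213 IH) (Lpe (K32.f387066 IH) (Lpqs (K55.f559464 IH) (Lpe (K55.f501343 IH) (Lpe (K55.f75968 IH) (Lpr_dt (K55.f58614 IH) (Lpe (K52.f58504 IH) (Lpe (K55.f76043 IH) (Lpr_et (f76054 IH) (Lpn (LP (LK LD1_c11 LD2_c59 LD3_c5))))))))))))))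
theorem f699260 : Led Lsl_gf (LP (LK LD1_c17 LD2_c58 LD3_c14)) = (LP (LK LD1_c11 LD2_c59 LD3_c5)) :=
  Lgr Lrot76 (Lpr_af (K53.f387266 IH) (Lpr_ff (K53.f699250 IH) (Lpr_gt (f618448 IH) (Lpn (LP (LK LD1_c11 LD2_c59 LD3_c5))))))
theorem f899648 : Led Lsl_ct (LP (LK LD1_c15 LD2_c8 LD3_c3)) = v38160 :=
  Lgr Lrot15 (Lpe (K44.f163419 IH) (Lpr_cf (K36.f541824 IH) (Lpr_ef (f899645 IH) (Lpn v38160))))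
theorem f499078 : Led Lsl_ft (LP (LK LD1_c15 LD2_c8 LD3_c8)) = (LP (LK LD1_c8 LD2_c2 LD3_c24)) :=
  Lre_f IH (LK LD1_c15 LD2_c8 LD3_c8) (LK LD1_c8 LD2_c2 LD3_c24) Lrfl Lrfl
theorem f617854 : Led Lsl_gf (LP (LK LD1_c23 LD2_c3 LD3_c31)) = (LP (LK LD1_c15 LD2_c8 LD3_c8)) :=
  Lgr Lrot47 (Lpr_gt (K68.f617852 IH) (Lpr_af (K44.f499075 IH) (Lpe (f499078 IH) (Lpn (LP (LK LD1_c15 LD2_c8 LD3_c8))))))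
theorem f590063 : Led Lsl_ff (LP (LK LD1_c24 LD2_c46 LD3_c59)) = (LP (LK LD1_c15 LD2_c8 LD3_c3)) :=
  Lgr Lrot3 (Lpr_ft (K55.f590055 IH) (Lpn (LP (LK LD1_c15 LD2_c8 LD3_c3))))
theorem f590067 : Led Lsl_at (LP (LK LD1_c24 LD2_c46 LD3_c59)) = (LP (LK LD1_c15 LD2_c8 LD3_c8)) :=
  Lgr Lrot66 (Lpr_ff (f590063 IH) (Lpr_af (K44.f499075 IH) (Lpe (f499078 IH) (Lpn (LP (LK LD1_c15 LD2_c8 LD3_c8))))))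
theorem f575179 : Led Lsl_ff (LP (LK LD1_c22 LD2_c46 LD3_c37)) = (LP (LK LD1_c13 LD2_c50 LD3_c7)) :=
  Lgr Lrot23 (Lpr_ct (K41.f489466 IH) (Lpr_ft (K43.f575175 IH) (Lpr_ct (K28.f426682 IH) (Lpn (LP (LK LD1_c13 LD2_c50 LD3_c7))))))
theorem f590020 : Led Lsl_at (LP (LK LD1_c22 LD2_c46 LD3_c37)) = (LP (LK LD1_c22 LD2_c46 LD3_c15)) :=
  Lgr Lrot26 (Lpr_ff (f575179 IH) (Lpe (K61.f576760 IH) (Lpr_gt (K55.f590018 IH) (Lpn (LP (LK LD1_c22 LD2_c46 LD3_c15))))))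
theorem f590071 : Led Lsl_df (LP (LK LD1_c22 LD2_c46 LD3_c37)) = (LP (LK LD1_c15 LD2_c8 LD3_c8)) :=
  Lgr Lrot18 (Lpr_at (f590020 IH) (Lpe (K55.f590049 IH) (Lpr_at (f590067 IH) (Lpn (LP (LK LD1_c15 LD2_c8 LD3_c8))))))
theorem f590073 : Led Lsl_dt (LP (LK LD1_c22 LD2_c46 LD3_c37)) = (LP (LK LD1_c15 LD2_c8 LD3_c8)) :=
  Lgr Lrot42 (Lpr_df (f590071 IH) (Lpn (LP (LK LD1_c15 LD2_c8 LD3_c8))))
theorem f590024 : Led Lsl_ct (LP (LK LD1_c13 LD2_c38 LD3_c18)) = (LP (LK LD1_c13 LD2_c26 LD3_c42)) :=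
  Lgr Lrot63 (Lpr_bt (K43.f116185 IH) (Lpr_gt (K37.f116177 IH) (Lpe (K4.f106228 IH) (Lpr_ct (K28.f98526 IH) (Lpr_gt (K29.f106222 IH) (Lpe (K29.f441627 IH) (Lpr_bt (K33.f441630 IH) (Lpr_gt (K43.f470729 IH) (Lpr_ct (K55.f590022 IH) (Lpr_gt (K55.f544272 IH) (Lpn (LP (LK LD1_c13 LD2_c26 LD3_c42)))))))))))))
theorem f590028 : Led Lsl_gf (LP (LK LD1_c13 LD2_c50 LD3_c7)) = (LP (LK LD1_c13 LD2_c26 LD3_c42)) :=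
  Lgr Lrot126 (Lpe (K28.f426682 IH) (Lpr_bt (K43.f575144 IH) (Lpr_gt (K62.f589987 IH) (Lpr_ct (K33.f92476 IH) (Lpe (K39.f468368 IH) (Lpe (K34.f466520 IH) (Lpr_bt (K35.f466527 IH) (Lpr_gt (K37.f466189 IH) (Lpe (K43.f116185 IH) (Lpr_ct (f590024 IH) (Lpn (LP (LK LD1_c13 LD2_c26 LD3_c42)))))))))))))
theorem f604853 : Led Lsl_dt (LP (LK LD1_c8 LD2_c49 LD3_c44)) = (LP (LK LD1_c7 LD2_c18 LD3_c49)) :=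
  Lgr Lrot60 (Lpe (K55.f590075 IH) (Lpr_df (K55.f604851 IH) (Lpr_ff (K43.f575186 IH) (Lpn (LP (LK LD1_c7 LD2_c18 LD3_c49))))))
theorem f176933 : Led Lsl_gt (LP (LK LD1_c17 LD2_c13 LD3_c6)) = (LP (LK LD1_c9 LD2_c17 LD3_c59)) :=
  Lre_g IH (LK LD1_c17 LD2_c13 LD3_c6) (LK LD1_c9 LD2_c17 LD3_c59) Lrfl Lrfl
theorem f617856 : Led Lsl_ct (LP (LK LD1_c23 LD2_c3 LD3_c31)) = (LP (LK LD1_c17 LD2_c13 LD3_c6)) :=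
  Lgr Lrot152 (Lpr_gf (f617854 IH) (Lpe (f590073 IH) (Lpr_gt (K55.f575302 IH) (Lpr_ct (f590024 IH) (Lpe (f590028 IH) (Lpr_ct (K50.f426685 IH) (Lpe (f604853 IH) (Lpr_cf (K55.f604833 IH) (Lpe (f176933 IH) (Lpn (LP (LK LD1_c17 LD2_c13 LD3_c6))))))))))))
theorem f617858 : Led Lsl_cf (LP (LK LD1_c23 LD2_c3 LD3_c31)) = (LP (LK LD1_c17 LD2_c13 LD3_c6)) :=
  Lgr Lrot11 (Lpr_ct (f617856 IH) (Lpn (LP (LK LD1_c17 LD2_c13 LD3_c6))))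
theorem f699422 : Led Lsl_gt (LP (LK LD1_c18 LD2_c23 LD3_c30)) = (LP (LK LD1_c17 LD2_c13 LD3_c6)) :=
  Lgr Lrot5 (Lpr_ft (K50.f699228 IH) (Lpe (K36.f428105 IH) (Lpe (f176933 IH) (Lpn (LP (LK LD1_c17 LD2_c13 LD3_c6))))))
theorem f176981 : Led Lsl_gt (LP (LK LD1_c18 LD2_c22 LD3_c40)) = (LP (LK LD1_c10 LD2_c4 LD3_c2)) :=
  Lre_g IH (LK LD1_c18 LD2_c22 LD3_c40) (LK LD1_c10 LD2_c4 LD3_c2) Lrfl Lrfl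
theorem f699252 : Led Lsl_gt (LP (LK LD1_c10 LD2_c4 LD3_c49)) = (LP (LK LD1_c18 LD2_c22 LD3_c40)) :=
  Lgr Lrot5 (Lpr_ft (K53.f699242 IH) (Lpr_at (K36.f539645 IH) (Lpe (f176981 IH) (Lpn (LP (LK LD1_c18 LD2_c22 LD3_c40))))))
theorem f899650 : Led Lsl_cf (LP (LK LD1_c11 LD2_c59 LD3_c5)) = (LP (LK LD1_c18 LD2_c22 LD3_c40)) :=
  Lgr Lrot188 (Lpe (f699260 IH) (Lpr_ct (K53.f387262 IH) (Lpr_dt (f899649 IH) (Lpe (f899648 IH) (Lpe (K68.f617852 IH) (Lpr_cf (f617858 IH) (Lpe (f699422 IH) (Lpr_dt (K50.f387269 IH) (Lpr_gt (f699252 IH) (Lpn (LP (LK LD1_c18 LD2_c22 LD3_c40))))))))))))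
theorem f899651 : Led Lsl_ct (LP (LK LD1_c18 LD2_c22 LD3_c40)) = (LP (LK LD1_c11 LD2_c59 LD3_c5)) :=
  Leop (Lpr_cf (f899650 IH) (Lpn (LP (LK LD1_c18 LD2_c22 LD3_c40))))
theorem seed_2213 : LEOK LG_c (LK LD1_c18 LD2_c22 LD3_c40) :=
  Leoe_c (LK LD1_c18 LD2_c22 LD3_c40) (f899651 IH)
def v38168 : LQ := Led Lsl_dt (LP (LK LD1_c9 LD2_c5 LD3_c54))
theorem f899716 : Led Lsl_dt (LP (LK LD1_c9 LD2_c5 LD3_c54)) = v38168 :=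
  Lrfl
theorem f899720 : Led Lsl_ef (LP (LK LD1_c9 LD2_c6 LD3_c13)) = v38168 :=
  Lgr Lrot73 (Lpr_dt (K44.f72287 IH) (Lpr_et (K42.f141953 IH) (Lpe (K6.f130548 IH) (Lpr_et (K5.f130560 IH) (Lpr_dt (f899716 IH) (Lpn v38168))))))
theorem f563506 : Led Lsl_et (LP (LK LD1_c11 LD2_c39 LD3_c36)) = (LP (LK LD1_c20 LD2_c39 LD3_c24)) :=
  Lre_e IH (LK LD1_c11 LD2_c39 LD3_c36) (LK LD1_c20 LD2_c39 LD3_c24) Lrfl Lrfl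
theorem f899719 : Led Lsl_df (LP (LK LD1_c9 LD2_c5 LD3_c54)) = v38168 :=
  Lgr Lrot38 (Lpr_dt (f899716 IH) (Lpn v38168))
theorem f712748 : Led Lsl_at (LP (LK LD1_c12 LD2_c54 LD3_c4)) = (LP (LK LD1_c21 LD2_c44 LD3_c57)) :=
  Lgr Lrot100 (Lpr_af (K54.f712746 IH) (Lpn (LP (LK LD1_c21 LD2_c44 LD3_c57))))
theorem f710193 : Led Lsl_ft (LP (LK LD1_c17 LD2_c4 LD3_c45)) = (LP (LK LD1_c12 LD2_c54 LD3_c4)) :=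
  Lgr Lrot75 (Lpe (K54.f130569 IH) (Lpr_ff (K53.f710191 IH) (Lpe (K51.f652806 IH) (Lpn (LP (LK LD1_c12 LD2_c54 LD3_c4))))))
theorem f712777 : Led Lsl_gt (LP (LK LD1_c17 LD2_c4 LD3_c45)) = (LP (LK LD1_c23 LD2_c53 LD3_c6)) :=
  Lgr Lrot5 (Lpr_ft (f710193 IH) (Lpr_at (f712748 IH) (Lpr_gf (K65.f712775 IH) (Lpn (LP (LK LD1_c23 LD2_c53 LD3_c6))))))
theorem f624352 : Led Lsl_ct (LP (LK LD1_c12 LD2_c37 LD3_c46)) = (LP (LK LD1_c17 LD2_c19 LD3_c54)) :=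
  Lre_c IH (LK LD1_c12 LD2_c37 LD3_c46) (LK LD1_c17 LD2_c19 LD3_c54) Lrfl Lrfl
theorem f651196 : Led Lsl_bt (LP (LK LD1_c12 LD2_c37 LD3_c46)) = (LP (LK LD1_c6 LD2_c39 LD3_c10)) :=
  Lre_b IH (LK LD1_c12 LD2_c37 LD3_c46) (LK LD1_c6 LD2_c39 LD3_c10) Lrfl Lrfl
theorem f413692 : Led Lsl_ct (LP (LK LD1_c3 LD2_c17 LD3_c55)) = (LP (LK LD1_c6 LD2_c39 LD3_c27)) :=
  Lre_c IH (LK LD1_c3 LD2_c17 LD3_c55) (LK LD1_c6 LD2_c39 LD3_c27) Lrfl Lrfl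
theorem f712790 : Led Lsl_gf (LP (LK LD1_c9 LD2_c5 LD3_c54)) = (LP (LK LD1_c6 LD2_c39 LD3_c27)) :=
  Lgr Lrot129 (Lpr_cf (K5.f130570 IH) (Lpr_bt (K54.f130569 IH) (Lpr_gt (f712777 IH) (Lpe (K65.f708611 IH) (Lpr_ct (K65.f654165 IH) (Lpr_gt (K60.f705471 IH) (Lpe (f624352 IH) (Lpr_bt (f651196 IH) (Lpr_gt (K17.f413701 IH) (Lpr_ct (f413692 IH) (Lpn (LP (LK LD1_c6 LD2_c39 LD3_c27)))))))))))))
theorem f413696 : Led Lsl_dt (LP (LK LD1_c12 LD2_c44 LD3_c40)) = (LP (LK LD1_c6 LD2_c39 LD3_c27)) :=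
  Lre_d IH (LK LD1_c12 LD2_c44 LD3_c40) (LK LD1_c6 LD2_c39 LD3_c27) Lrfl Lrfl
theorem f413707 : Led Lsl_et (LP (LK LD1_c12 LD2_c44 LD3_c40)) = (LP (LK LD1_c21 LD2_c51 LD3_c57)) :=
  Lre_e IH (LK LD1_c12 LD2_c44 LD3_c40) (LK LD1_c21 LD2_c51 LD3_c57) Lrfl Lrfl
theorem f899727 : Led Lsl_gt (LP (LK LD1_c20 LD2_c39 LD3_c24)) = (LP (LK LD1_c21 LD2_c51 LD3_c57)) :=
  Lgr Lrot131 (Lpe (f563506 IH) (Lpr_dt (K45.f581395 IH) (Lpe (K43.f565324 IH) (Lpe (K44.f565314 IH) (Lpr_gf (K42.f572894 IH) (Lpr_ef (f899720 IH) (Lpe (f899719 IH) (Lpr_gf (f712790 IH) (Lpe (f413696 IH) (Lpr_et (f413707 IH) (Lpn (LP (LK LD1_c21 LD2_c51 LD3_c57)))))))))))))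
theorem f899728 : Led Lsl_gt (LP (LK LD1_c20 LD2_c39 LD3_c24)) = (LP (LK LD1_c21 LD2_c51 LD3_c57)) :=
  Leop (Lpe (f899727 IH) (Lpn (LP (LK LD1_c20 LD2_c39 LD3_c24))))
theorem seed_2214 : LEOK LG_g (LK LD1_c20 LD2_c39 LD3_c24) :=
  Leoe_g (LK LD1_c20 LD2_c39 LD3_c24) (f899728 IH)
def v38192 : LQ := Led Lsl_dt (LP (LK LD1_c9 LD2_c6 LD3_c27))
theorem f899853 : Led Lsl_dt (LP (LK LD1_c9 LD2_c6 LD3_c27)) = v38192 :=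
  Lrfl
theorem f442945 : Led Lsl_at (LP (LK LD1_c5 LD2_c57 LD3_c16)) = (LP (LK LD1_c11 LD2_c39 LD3_c50)) :=
  Lre_a IH (LK LD1_c5 LD2_c57 LD3_c16) (LK LD1_c11 LD2_c39 LD3_c50) Lrfl Lrfl
theorem f442862 : Led Lsl_ct (LP (LK LD1_c5 LD2_c57 LD3_c16)) = (LP (LK LD1_c2 LD2_c54 LD3_c53)) :=
  Lre_c IH (LK LD1_c5 LD2_c57 LD3_c16) (LK LD1_c2 LD2_c54 LD3_c53) Lrfl Lrfl
theorem f71350 : Led Lsl_ct (LP (LK LD1_c4 LD2_c36 LD3_c31)) = (LP (LK LD1_c9 LD2_c9 LD3_c10)) :=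
  Lre_c IH (LK LD1_c4 LD2_c36 LD3_c31) (LK LD1_c9 LD2_c9 LD3_c10) Lrfl Lrfl
theorem f507059 : Led Lsl_ff (LP (LK LD1_c5 LD2_c57 LD3_c16)) = (LP (LK LD1_c9 LD2_c9 LD3_c10)) :=
  Lgr Lrot23 (Lpr_ct (f442862 IH) (Lpr_ft (K55.f507054 IH) (Lpr_ct (f71350 IH) (Lpn (LP (LK LD1_c9 LD2_c9 LD3_c10))))))
theorem f711417 : Led Lsl_gt (LP (LK LD1_c9 LD2_c9 LD3_c10)) = (LP (LK LD1_c6 LD2_c8 LD3_c35)) :=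
  Lgr Lrot5 (Lpe (f507059 IH) (Lpr_at (f442945 IH) (Lpr_gf (K55.f711415 IH) (Lpn (LP (LK LD1_c6 LD2_c8 LD3_c35))))))
theorem f711429 : Led Lsl_gf (LP (LK LD1_c9 LD2_c6 LD3_c27)) = (LP (LK LD1_c11 LD2_c25 LD3_c14)) :=
  Lgr Lrot124 (Lpe (K57.f616375 IH) (Lpr_ct (K52.f25235 IH) (Lpr_gt (K52.f642175 IH) (Lpe (K52.f426762 IH) (Lpr_bt (K52.f428365 IH) (Lpr_gt (K41.f641334 IH) (Lpq (K41.f642149 IH) (Lpq (K41.f641739 IH) (Lpr_ct (f71350 IH) (Lpr_gt (f711417 IH) (Lpe (K55.f139153 IH) (Lpr_bt (K52.f139289 IH) (Lpn (LP (LK LD1_c11 LD2_c25 LD3_c14)))))))))))))))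
theorem f745993 : Led Lsl_df (LP (LK LD1_c20 LD2_c34 LD3_c57)) = (LP (LK LD1_c20 LD2_c38 LD3_c12)) :=
  Lgr Lrot38 (Lpr_dt (K55.f745989 IH) (Lpn (LP (LK LD1_c20 LD2_c38 LD3_c12))))
theorem f741652 : Led Lsl_bt (LP (LK LD1_c12 LD2_c30 LD3_c6)) = (LP (LK LD1_c21 LD2_c36 LD3_c41)) :=
  Lre_b IH (LK LD1_c12 LD2_c30 LD3_c6) (LK LD1_c21 LD2_c36 LD3_c41) Lrfl Lrfl
theorem f741653 : Led Lsl_df (LP (LK LD1_c13 LD2_c2 LD3_c16)) = (LP (LK LD1_c21 LD2_c36 LD3_c41)) :=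
  Lgr Lrot12 (Lpr_bt (K58.f710659 IH) (Lpr_dt (K55.f741650 IH) (Lpr_bt (f741652 IH) (Lpn (LP (LK LD1_c21 LD2_c36 LD3_c41))))))
theorem f899858 : Led Lsl_gf (LP (LK LD1_c21 LD2_c36 LD3_c41)) = v38192 :=
  Lgr Lrot143 (Lpe (f741653 IH) (Lpe (K55.f710648 IH) (Lpr_df (f745993 IH) (Lpe (K55.f82969 IH) (Lpe (K55.f82968 IH) (Lpe (K55.f745984 IH) (Lpe (K52.f160885 IH) (Lpe (f711429 IH) (Lpr_dt (f899853 IH) (Lpn v38192))))))))))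
theorem f443025 : Led Lsl_dt (LP (LK LD1_c20 LD2_c38 LD3_c7)) = (LP (LK LD1_c11 LD2_c38 LD3_c51)) :=
  Lre_d IH (LK LD1_c20 LD2_c38 LD3_c7) (LK LD1_c11 LD2_c38 LD3_c51) Lrfl Lrfl
theorem f899857 : Led Lsl_ff (LP (LK LD1_c20 LD2_c38 LD3_c7)) = v38192 :=
  Lgr Lrot19 (Lpr_dt (f443025 IH) (Lpr_ft (K57.f755457 IH) (Lpr_dt (f899853 IH) (Lpn v38192))))
theorem f755892 : Led Lsl_af (LP (LK LD1_c11 LD2_c38 LD3_c51)) = (LP (LK LD1_c20 LD2_c22 LD3_c44)) :=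
  Lgr Lrot45 (Lpr_ft (K57.f755457 IH) (Lpe (K57.f755830 IH) (Lpr_ft (K60.f755890 IH) (Lpn (LP (LK LD1_c20 LD2_c22 LD3_c44))))))
theorem f443039 : Led Lsl_dt (LP (LK LD1_c11 LD2_c38 LD3_c51)) = (LP (LK LD1_c20 LD2_c38 LD3_c7)) :=
  Lre_d IH (LK LD1_c11 LD2_c38 LD3_c51) (LK LD1_c20 LD2_c38 LD3_c7) Lrfl Lrfl
theorem f160923 : Led Lsl_dt (LP (LK LD1_c29 LD2_c25 LD3_c38)) = (LP (LK LD1_c20 LD2_c22 LD3_c44)) :=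
  Lre_d IH (LK LD1_c29 LD2_c25 LD3_c38) (LK LD1_c20 LD2_c22 LD3_c44) Lrfl Lrfl
theorem f756050 : Led Lsl_at (LP (LK LD1_c20 LD2_c38 LD3_c7)) = (LP (LK LD1_c29 LD2_c25 LD3_c38)) :=
  Lgr Lrot51 (Lpe (f443039 IH) (Lpr_af (f755892 IH) (Lpe (f160923 IH) (Lpn (LP (LK LD1_c29 LD2_c25 LD3_c38))))))
theorem f899859 : Led Lsl_gt (LP (LK LD1_c21 LD2_c36 LD3_c41)) = (LP (LK LD1_c29 LD2_c25 LD3_c38)) :=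
  Lgr Lrot46 (Lpr_gf (f899858 IH) (Lpe (f899857 IH) (Lpr_at (f756050 IH) (Lpn (LP (LK LD1_c29 LD2_c25 LD3_c38))))))
theorem f899860 : Led Lsl_gt (LP (LK LD1_c21 LD2_c36 LD3_c41)) = (LP (LK LD1_c29 LD2_c25 LD3_c38)) :=
  Leop (Lpe (f899859 IH) (Lpn (LP (LK LD1_c21 LD2_c36 LD3_c41))))
theorem seed_2215 : LEOK LG_g (LK LD1_c21 LD2_c36 LD3_c41) :=
  Leoe_g (LK LD1_c21 LD2_c36 LD3_c41) (f899860 IH)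
def v38222 : LQ := Led Lsl_gf (LP (LK LD1_c9 LD2_c7 LD3_c7))
theorem f900048 : Led Lsl_gf (LP (LK LD1_c9 LD2_c7 LD3_c7)) = v38222 :=
  Lrfl
theorem f450566 : Led Lsl_et (LP (LK LD1_c4 LD2_c35 LD3_c13)) = (LP (LK LD1_c9 LD2_c7 LD3_c7)) :=
  Lre_e IH (LK LD1_c4 LD2_c35 LD3_c13) (LK LD1_c9 LD2_c7 LD3_c7) Lrfl Lrfl
theorem f428332 : Led Lsl_et (LP (LK LD1_c2 LD2_c55 LD3_c42)) = (LP (LK LD1_c5 LD2_c58 LD3_c28)) :=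
  Lre_e IH (LK LD1_c2 LD2_c55 LD3_c42) (LK LD1_c5 LD2_c58 LD3_c28) Lrfl Lrfl
theorem f716107 : Led Lsl_gt (LP (LK LD1_c12 LD2_c32 LD3_c46)) = (LP (LK LD1_c9 LD2_c30 LD3_c61)) :=
  Lgr Lrot46 (Lpr_gf (K65.f716105 IH) (Lpq (K52.f705361 IH) (Lpe (K50.f705292 IH) (Lpe (K50.f644042 IH) (Lpn (LP (LK LD1_c9 LD2_c30 LD3_c61)))))))
theorem f749065 : Led Lsl_ft (LP (LK LD1_c9 LD2_c30 LD3_c60)) = K55.v16385 :=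
  Lgr Lrot48 (Lpr_ff (K55.f749063 IH) (Lpn K55.v16385))
theorem f749066 : Led Lsl_df (LP (LK LD1_c9 LD2_c30 LD3_c61)) = K55.v16385 :=
  Lgr Lrot78 (Lpr_ft (K50.f634135 IH) (Lpr_dt (K50.f427776 IH) (Lpr_ft (f749065 IH) (Lpn K55.v16385))))
theorem f900050 : Led Lsl_et K55.v16385 = v38222 :=
  Lgr Lrot185 (Lpe (f749066 IH) (Lpe (f716107 IH) (Lpe (K42.f446113 IH) (Lpr_gf (K65.f716111 IH) (Lpe (f428332 IH) (Lpr_dt (K36.f428344 IH) (Lpr_gf (K37.f500709 IH) (Lpq (K37.f539242 IH) (Lpe (K43.f418975 IH) (Lpr_et (f450566 IH) (Lpr_gf (f900048 IH) (Lpn v38222))))))))))))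
theorem f562586 : Led Lsl_et (LP (LK LD1_c17 LD2_c32 LD3_c35)) = (LP (LK LD1_c9 LD2_c30 LD3_c60)) :=
  Lre_e IH (LK LD1_c17 LD2_c32 LD3_c35) (LK LD1_c9 LD2_c30 LD3_c60) Lrfl Lrfl
theorem f562580 : Led Lsl_dt (LP (LK LD1_c9 LD2_c30 LD3_c59)) = (LP (LK LD1_c17 LD2_c32 LD3_c35)) :=
  Lre_d IH (LK LD1_c9 LD2_c30 LD3_c59) (LK LD1_c17 LD2_c32 LD3_c35) Lrfl Lrfl
theorem f749684 : Led Lsl_ff (LP (LK LD1_c20 LD2_c43 LD3_c41)) = (LP (LK LD1_c17 LD2_c32 LD3_c35)) :=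
  Lgr Lrot19 (Lpr_dt (K56.f749679 IH) (Lpr_ft (K56.f705254 IH) (Lpr_dt (f562580 IH) (Lpn (LP (LK LD1_c17 LD2_c32 LD3_c35))))))
theorem f749687 : Led Lsl_ft (LP (LK LD1_c20 LD2_c43 LD3_c41)) = (LP (LK LD1_c17 LD2_c32 LD3_c35)) :=
  Lgr Lrot48 (Lpr_ff (f749684 IH) (Lpn (LP (LK LD1_c17 LD2_c32 LD3_c35))))
theorem f749683 : Led Lsl_et (LP (LK LD1_c11 LD2_c42 LD3_c55)) = (LP (LK LD1_c20 LD2_c43 LD3_c41)) :=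
  Lre_e IH (LK LD1_c11 LD2_c42 LD3_c55) (LK LD1_c20 LD2_c43 LD3_c41) Lrfl Lrfl
theorem f900052 : Led Lsl_ff (LP (LK LD1_c11 LD2_c42 LD3_c55)) = v38222 :=
  Lgr Lrot72 (Lpr_et (f749683 IH) (Lpr_ft (f749687 IH) (Lpr_et (f562586 IH) (Lpr_ft (f749065 IH) (Lpr_et (f900050 IH) (Lpn v38222))))))
theorem f539085 : Led Lsl_gt (LP (LK LD1_c9 LD2_c7 LD3_c7)) = (LP (LK LD1_c16 LD2_c59 LD3_c22)) :=
  Lre_g IH (LK LD1_c9 LD2_c7 LD3_c7) (LK LD1_c16 LD2_c59 LD3_c22) Lrfl Lrfl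
theorem f900054 : Led Lsl_at (LP (LK LD1_c11 LD2_c42 LD3_c55)) = (LP (LK LD1_c16 LD2_c59 LD3_c22)) :=
  Lgr Lrot26 (Lpr_ff (f900052 IH) (Lpe (f900048 IH) (Lpr_gt (f539085 IH) (Lpn (LP (LK LD1_c16 LD2_c59 LD3_c22))))))
theorem f900055 : Led Lsl_at (LP (LK LD1_c11 LD2_c42 LD3_c55)) = (LP (LK LD1_c16 LD2_c59 LD3_c22)) :=
  Leop (Lpe (f900054 IH) (Lpn (LP (LK LD1_c11 LD2_c42 LD3_c55))))
theorem seed_2216 : LEOK LG_a (LK LD1_c11 LD2_c42 LD3_c55) :=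
  Leoe_a (LK LD1_c11 LD2_c42 LD3_c55) (f900055 IH)
theorem f900057 : Led Lsl_af (LP (LK LD1_c11 LD2_c42 LD3_c55)) = (LP (LK LD1_c16 LD2_c59 LD3_c22)) :=
  Lgr Lrot0 (Lpr_at (f900054 IH) (Lpn (LP (LK LD1_c16 LD2_c59 LD3_c22))))
theorem f561194 : Led Lsl_gt (LP (LK LD1_c11 LD2_c42 LD3_c56)) = (LP (LK LD1_c5 LD2_c59 LD3_c12)) :=
  Lre_g IH (LK LD1_c11 LD2_c42 LD3_c56) (LK LD1_c5 LD2_c59 LD3_c12) Lrfl Lrfl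
theorem f900064 : Led Lsl_ft (LP (LK LD1_c11 LD2_c42 LD3_c56)) = (LP (LK LD1_c16 LD2_c59 LD3_c22)) :=
  Lgr Lrot2 (Lpr_gt (f561194 IH) (Lpr_gt (K56.f500699 IH) (Lpr_af (f900057 IH) (Lpn (LP (LK LD1_c16 LD2_c59 LD3_c22))))))
theorem f900069 : Led Lsl_ff (LP (LK LD1_c11 LD2_c42 LD3_c56)) = (LP (LK LD1_c16 LD2_c59 LD3_c22)) :=
  Lgr Lrot3 (Lpr_ft (f900064 IH) (Lpn (LP (LK LD1_c16 LD2_c59 LD3_c22))))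
theorem f900071 : Led Lsl_at (LP (LK LD1_c11 LD2_c42 LD3_c56)) = v38222 :=
  Lgr Lrot66 (Lpr_ff (f900069 IH) (Lpe (f900054 IH) (Lpr_ff (f900052 IH) (Lpn v38222))))
theorem f561207 : Led Lsl_af (LP (LK LD1_c9 LD2_c7 LD3_c7)) = (LP (LK LD1_c5 LD2_c59 LD3_c12)) :=
  Lgr Lrot0 (Lpr_at (K43.f561204 IH) (Lpn (LP (LK LD1_c5 LD2_c59 LD3_c12))))
theorem f555913 : Led Lsl_ft (LP (LK LD1_c11 LD2_c42 LD3_c57)) = (LP (LK LD1_c5 LD2_c59 LD3_c12)) :=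
  Lre_f IH (LK LD1_c11 LD2_c42 LD3_c57) (LK LD1_c5 LD2_c59 LD3_c12) Lrfl Lrfl
theorem f900049 : Led Lsl_gt (LP (LK LD1_c11 LD2_c42 LD3_c57)) = v38222 :=
  Lgr Lrot5 (Lpr_ft (f555913 IH) (Lpe (f561207 IH) (Lpr_gf (f900048 IH) (Lpn v38222))))
theorem f900074 : Led Lsl_gf (LP (LK LD1_c11 LD2_c42 LD3_c57)) = (LP (LK LD1_c16 LD2_c59 LD3_c22)) :=
  Lgr Lrot47 (Lpr_gt (f900049 IH) (Lpe (f900071 IH) (Lpr_ff (f900069 IH) (Lpn (LP (LK LD1_c16 LD2_c59 LD3_c22))))))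
theorem f900075 : Led Lsl_gt (LP (LK LD1_c16 LD2_c59 LD3_c22)) = (LP (LK LD1_c11 LD2_c42 LD3_c57)) :=
  Leop (Lpr_gf (f900074 IH) (Lpn (LP (LK LD1_c16 LD2_c59 LD3_c22))))
theorem seed_2217 : LEOK LG_g (LK LD1_c16 LD2_c59 LD3_c22) :=
  Leoe_g (LK LD1_c16 LD2_c59 LD3_c22) (f900075 IH)
def v38233 : LQ := Led Lsl_gt (LP (LK LD1_c9 LD2_c7 LD3_c18))
theorem f900161 : Led Lsl_gt (LP (LK LD1_c9 LD2_c7 LD3_c18)) = v38233 :=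
  Lrfl
theorem f442794 : Led Lsl_et (LP (LK LD1_c4 LD2_c35 LD3_c24)) = (LP (LK LD1_c9 LD2_c7 LD3_c18)) :=
  Lre_e IH (LK LD1_c4 LD2_c35 LD3_c24) (LK LD1_c9 LD2_c7 LD3_c18) Lrfl Lrfl
theorem f34986 : Led Lsl_dt (LP (LK LD1_c4 LD2_c35 LD3_c24)) = (LP (LK LD1_c2 LD2_c14 LD3_c54)) :=
  Lre_d IH (LK LD1_c4 LD2_c35 LD3_c24) (LK LD1_c2 LD2_c14 LD3_c54) Lrfl Lrfl
theorem f547183 : Led Lsl_gf (LP (LK LD1_c5 LD2_c13 LD3_c48)) = (LP (LK LD1_c5 LD2_c6 LD3_c51)) :=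
  Lgr Lrot143 (Lpr_dt (K40.f417958 IH) (Lpe (K37.f418131 IH) (Lpe (K43.f421704 IH) (Lpr_gf (K45.f427898 IH) (Lpe (K45.f422757 IH) (Lpr_gf (K38.f422753 IH) (Lpr_cf (K28.f56238 IH) (Lpr_gt (K38.f547177 IH) (Lpr_dt (K44.f421546 IH) (Lpn (LP (LK LD1_c5 LD2_c6 LD3_c51))))))))))))
theorem f547169 : Led Lsl_gt (LP (LK LD1_c9 LD2_c3 LD3_c51)) = (LP (LK LD1_c4 LD2_c33 LD3_c14)) :=
  Lre_g IH (LK LD1_c9 LD2_c3 LD3_c51) (LK LD1_c4 LD2_c33 LD3_c14) Lrfl Lrfl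
def v38011 : LQ := Led Lsl_dt (LP (LK LD1_c9 LD2_c3 LD3_c51))
theorem f898639 : Led Lsl_dt (LP (LK LD1_c9 LD2_c3 LD3_c51)) = v38011 :=
  Lrfl
theorem f898642 : Led Lsl_df (LP (LK LD1_c9 LD2_c3 LD3_c51)) = v38011 :=
  Lgr Lrot38 (Lpr_dt (f898639 IH) (Lpn v38011))
theorem f900166 : Led Lsl_et v38011 = v38233 :=
  Lgr Lrot122 (Lpe (f898642 IH) (Lpr_gt (f547169 IH) (Lpr_df (f698516 IH) (Lpe (f698517 IH) (Lpe (f547183 IH) (Lpr_dt (K40.f417958 IH) (Lpe (K38.f549634 IH) (Lpe (f34986 IH) (Lpr_et (f442794 IH) (Lpr_gt (f900161 IH) (Lpn v38233)))))))))))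
theorem f900169 : Led Lsl_ef v38011 = v38233 :=
  Lgr Lrot88 (Lpr_et (f900166 IH) (Lpn v38233))
theorem f714744 : Led Lsl_ff (LP (LK LD1_c20 LD2_c9 LD3_c25)) = (LP (LK LD1_c21 LD2_c30 LD3_c32)) :=
  Lgr Lrot3 (Lpr_ft (K54.f710344 IH) (Lpn (LP (LK LD1_c21 LD2_c30 LD3_c32))))
theorem f618068 : Led Lsl_ct (LP (LK LD1_c20 LD2_c9 LD3_c25)) = (LP (LK LD1_c11 LD2_c14 LD3_c24)) :=
  Lre_c IH (LK LD1_c20 LD2_c9 LD3_c25) (LK LD1_c11 LD2_c14 LD3_c24) Lrfl Lrfl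
theorem f714748 : Led Lsl_ft (LP (LK LD1_c11 LD2_c14 LD3_c24)) = (LP (LK LD1_c12 LD2_c23 LD3_c32)) :=
  Lgr Lrot4 (Lpe (f618068 IH) (Lpr_ff (f714744 IH) (Lpe (K52.f618132 IH) (Lpn (LP (LK LD1_c12 LD2_c23 LD3_c32))))))
theorem f510263 : Led Lsl_ft (LP (LK LD1_c6 LD2_c45 LD3_c15)) = (LP (LK LD1_c12 LD2_c54 LD3_c48)) :=
  Lre_f IH (LK LD1_c6 LD2_c45 LD3_c15) (LK LD1_c12 LD2_c54 LD3_c48) Lrfl Lrfl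
theorem f714750 : Led Lsl_df (LP (LK LD1_c11 LD2_c14 LD3_c24)) = (LP (LK LD1_c12 LD2_c54 LD3_c48)) :=
  Lgr Lrot78 (Lpr_ft (f714748 IH) (Lpe (K51.f707248 IH) (Lpr_ft (f510263 IH) (Lpn (LP (LK LD1_c12 LD2_c54 LD3_c48))))))
theorem f714754 : Led Lsl_dt (LP (LK LD1_c11 LD2_c14 LD3_c24)) = (LP (LK LD1_c12 LD2_c54 LD3_c48)) :=
  Lgr Lrot42 (Lpr_df (f714750 IH) (Lpn (LP (LK LD1_c12 LD2_c54 LD3_c48))))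
theorem f289344 : Led Lsl_et (LP (LK LD1_c2 LD2_c47 LD3_c0)) = (LP (LK LD1_c5 LD2_c42 LD3_c3)) :=
  Lre_e IH (LK LD1_c2 LD2_c47 LD3_c0) (LK LD1_c5 LD2_c42 LD3_c3) Lrfl Lrfl
theorem f781114 : Led Lsl_ef (LP (LK LD1_c9 LD2_c3 LD3_c51)) = (LP (LK LD1_c12 LD2_c3 LD3_c49)) :=
  Lgr Lrot114 (Lpr_gt (f547169 IH) (Lpe (f547168 IH) (Lpr_dt (K38.f547160 IH) (Lpr_gt (K39.f552532 IH) (Lpe (K39.f226002 IH) (Lpr_et (f289344 IH) (Lpr_gt (K51.f381347 IH) (Lpr_dt (f714754 IH) (Lpr_gt (K60.f714757 IH) (Lpr_df (K60.f781111 IH) (Lpn (LP (LK LD1_c12 LD2_c3 LD3_c49)))))))))))))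
theorem f741019 : Led Lsl_et (LP (LK LD1_c5 LD2_c45 LD3_c32)) = (LP (LK LD1_c11 LD2_c21 LD3_c34)) :=
  Lre_e IH (LK LD1_c5 LD2_c45 LD3_c32) (LK LD1_c11 LD2_c21 LD3_c34) Lrfl Lrfl
theorem f751609 : Led Lsl_dt (LP (LK LD1_c11 LD2_c21 LD3_c34)) = (LP (LK LD1_c11 LD2_c50 LD3_c23)) :=
  Lgr Lrot77 (Lpe (f741019 IH) (Lpe (f741011 IH) (Lpr_ef (K57.f751607 IH) (Lpe (K57.f710949 IH) (Lpe (K60.f645872 IH) (Lpn (LP (LK LD1_c11 LD2_c50 LD3_c23))))))))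
theorem f780953 : Led Lsl_ff (LP (LK LD1_c11 LD2_c21 LD3_c34)) = (LP (LK LD1_c12 LD2_c3 LD3_c48)) :=
  Lgr Lrot19 (Lpr_dt (f751609 IH) (Lpr_ft (K60.f780951 IH) (Lpe (K60.f780933 IH) (Lpn (LP (LK LD1_c12 LD2_c3 LD3_c48))))))
theorem f781099 : Led Lsl_at (LP (LK LD1_c11 LD2_c21 LD3_c34)) = (LP (LK LD1_c12 LD2_c3 LD3_c49)) :=
  Lgr Lrot66 (Lpr_ff (f780953 IH) (Lpe (K60.f780988 IH) (Lpr_ff (K60.f781097 IH) (Lpn (LP (LK LD1_c12 LD2_c3 LD3_c49))))))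
def v15708 : LQ := Led Lsl_at (LP (LK LD1_c5 LD2_c45 LD3_c32))
theorem f741017 : Led Lsl_at (LP (LK LD1_c5 LD2_c45 LD3_c32)) = v15708 :=
  Lrfl
theorem f741018 : Led Lsl_af (LP (LK LD1_c5 LD2_c45 LD3_c32)) = v15708 :=
  Lgr Lrot0 (Lpr_at (f741017 IH) (Lpn v15708))
theorem f781120 : (LP (LK LD1_c9 LD2_c3 LD3_c51)) = v15708 :=
  (Llr Lrot123 (Lpr_ef (f781114 IH) (Lpe (f781099 IH) (Lpe (f741019 IH) (Lpr_af (f741018 IH) (Lpn v15708)))))).symm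
theorem f698628 : Led Lsl_bt (LP (LK LD1_c4 LD2_c33 LD3_c35)) = (LP (LK LD1_c9 LD2_c4 LD3_c45)) :=
  Lre_b IH (LK LD1_c4 LD2_c33 LD3_c35) (LK LD1_c9 LD2_c4 LD3_c45) Lrfl Lrfl
theorem f495533 : Led Lsl_bt (LP (LK LD1_c5 LD2_c45 LD3_c32)) = (LP (LK LD1_c2 LD2_c48 LD3_c31)) :=
  Lre_b IH (LK LD1_c5 LD2_c45 LD3_c32) (LK LD1_c2 LD2_c48 LD3_c31) Lrfl Lrfl
def v15643 : LQ := Led Lsl_bt (LP (LK LD1_c5 LD2_c44 LD3_c26))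
theorem f738451 : Led Lsl_bt (LP (LK LD1_c5 LD2_c44 LD3_c26)) = v15643 :=
  Lrfl
theorem f752212 : v15708 = v15643 :=
  (Llr Lrot36 (Lpe (f741018 IH) (Lpr_bt (f495533 IH) (Lpqs (K55.f741357 IH) (Lpe (K55.f698627 IH) (Lpr_bt (f698628 IH) (Lpq (K56.f752194 IH) (Lpe (K56.f738447 IH) (Lpr_bt (f738451 IH) (Lpn v15643)))))))))).symm
theorem f898641 : Led Lsl_bf K55.v15644 = v38011 :=
  Lgr Lrot93 (Lpe (K55.f738455 IH) (Lpr_bt (f738451 IH) (Lpq (f752212 IH) (Lpq (f781120 IH) (Lpr_dt (f898639 IH) (Lpn v38011))))))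
theorem f900170 : Led Lsl_bt (LP (LK LD1_c11 LD2_c40 LD3_c22)) = v38233 :=
  Lgr Lrot119 (Lpr_ef (K55.f738456 IH) (Lpr_bf (f898641 IH) (Lpr_ef (f900169 IH) (Lpn v38233))))
theorem f641019 : Led Lsl_ft (LP (LK LD1_c9 LD2_c7 LD3_c18)) = (LP (LK LD1_c16 LD2_c59 LD3_c29)) :=
  Lre_f IH (LK LD1_c9 LD2_c7 LD3_c18) (LK LD1_c16 LD2_c59 LD3_c29) Lrfl Lrfl
theorem f500492 : Led Lsl_at (LP (LK LD1_c16 LD2_c59 LD3_c29)) = (LP (LK LD1_c9 LD2_c7 LD3_c36)) :=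
  Lre_a IH (LK LD1_c16 LD2_c59 LD3_c29) (LK LD1_c9 LD2_c7 LD3_c36) Lrfl Lrfl
theorem f900163 : Led Lsl_gf (LP (LK LD1_c9 LD2_c7 LD3_c36)) = v38233 :=
  Lgr Lrot76 (Lpe (f500492 IH) (Lpe (f641019 IH) (Lpr_gt (f900161 IH) (Lpn v38233))))
theorem f636061 : Led Lsl_ct (LP (LK LD1_c4 LD2_c58 LD3_c44)) = (LP (LK LD1_c9 LD2_c47 LD3_c60)) :=
  Lre_c IH (LK LD1_c4 LD2_c58 LD3_c44) (LK LD1_c9 LD2_c47 LD3_c60) Lrfl Lrfl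
theorem f900172 : Led Lsl_gf (LP (LK LD1_c10 LD2_c7 LD3_c10)) = (LP (LK LD1_c9 LD2_c47 LD3_c60)) :=
  Lgr Lrot129 (Lpe (K66.f748802 IH) (Lpr_bt (f900170 IH) (Lpe (f900163 IH) (Lpe (K67.f500493 IH) (Lpr_ct (K67.f699930 IH) (Lpe (K67.f699936 IH) (Lpe (K67.f636374 IH) (Lpr_bt (K53.f496141 IH) (Lpe (K48.f669349 IH) (Lpr_ct (f636061 IH) (Lpn (LP (LK LD1_c9 LD2_c47 LD3_c60)))))))))))))
theorem f900173 : Led Lsl_gt (LP (LK LD1_c9 LD2_c47 LD3_c60)) = (LP (LK LD1_c10 LD2_c7 LD3_c10)) :=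
  Leop (Lpr_gf (f900172 IH) (Lpn (LP (LK LD1_c9 LD2_c47 LD3_c60))))
theorem seed_2218 : LEOK LG_g (LK LD1_c9 LD2_c47 LD3_c60) :=
  Leoe_g (LK LD1_c9 LD2_c47 LD3_c60) (f900173 IH)
def v38263 : LQ := Led Lsl_gt (LP (LK LD1_c9 LD2_c7 LD3_c40))
theorem f900318 : Led Lsl_gt (LP (LK LD1_c9 LD2_c7 LD3_c40)) = v38263 :=
  Lrfl
theorem f417479 : Led Lsl_gt (LP (LK LD1_c17 LD2_c9 LD3_c40)) = (LP (LK LD1_c9 LD2_c15 LD3_c9)) :=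
  Lre_g IH (LK LD1_c17 LD2_c9 LD3_c40) (LK LD1_c9 LD2_c15 LD3_c9) Lrfl Lrfl
theorem f900320 : Led Lsl_df (LP (LK LD1_c17 LD2_c9 LD3_c40)) = v38263 :=
  Lgr Lrot153 (Lpr_gt (f417479 IH) (Lpr_dt (K45.f56200 IH) (Lpe (K37.f56241 IH) (Lpe (K37.f56240 IH) (Lpe (K36.f22420 IH) (Lpe (K36.f56214 IH) (Lpr_gf (K40.f562740 IH) (Lpe (K53.f562713 IH) (Lpr_gt (f900318 IH) (Lpn v38263))))))))))
theorem f56242 : Led Lsl_dt (LP (LK LD1_c4 LD2_c39 LD3_c49)) = (LP (LK LD1_c9 LD2_c15 LD3_c9)) :=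
  Lre_d IH (LK LD1_c4 LD2_c39 LD3_c49) (LK LD1_c9 LD2_c15 LD3_c9) Lrfl Lrfl
theorem f590286 : Led Lsl_et (LP (LK LD1_c4 LD2_c39 LD3_c49)) = (LP (LK LD1_c9 LD2_c15 LD3_c10)) :=
  Lre_e IH (LK LD1_c4 LD2_c39 LD3_c49) (LK LD1_c9 LD2_c15 LD3_c10) Lrfl Lrfl
theorem f23893 : Led Lsl_gt (LP (LK LD1_c9 LD2_c15 LD3_c10)) = (LP (LK LD1_c17 LD2_c9 LD3_c42)) :=
  Lre_g IH (LK LD1_c9 LD2_c15 LD3_c10) (LK LD1_c17 LD2_c9 LD3_c42) Lrfl Lrfl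
theorem f900322 : Led Lsl_et (LP (LK LD1_c10 LD2_c10 LD3_c41)) = (LP (LK LD1_c17 LD2_c9 LD3_c42)) :=
  Lgr Lrot122 (Lpe (K53.f714501 IH) (Lpr_gt (K44.f165251 IH) (Lpe (K14.f171640 IH) (Lpr_et (K53.f699274 IH) (Lpr_gt (f900318 IH) (Lpe (f900320 IH) (Lpr_gt (f417479 IH) (Lpe (f56242 IH) (Lpr_et (f590286 IH) (Lpr_gt (f23893 IH) (Lpn (LP (LK LD1_c17 LD2_c9 LD3_c42)))))))))))))
theorem f900323 : Led Lsl_et (LP (LK LD1_c10 LD2_c10 LD3_c41)) = (LP (LK LD1_c17 LD2_c9 LD3_c42)) :=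
  Leop (Lpe (f900322 IH) (Lpn (LP (LK LD1_c10 LD2_c10 LD3_c41))))
theorem seed_2219 : LEOK LG_e (LK LD1_c10 LD2_c10 LD3_c41) :=
  Leoe_e (LK LD1_c10 LD2_c10 LD3_c41) (f900323 IH)
def v38273 : LQ := Led Lsl_gf (LP (LK LD1_c9 LD2_c7 LD3_c53))
theorem f900378 : Led Lsl_gf (LP (LK LD1_c9 LD2_c7 LD3_c53)) = v38273 :=
  Lrfl
theorem f535755 : Led Lsl_cf K35.v346 = K56.v2817 :=
  Lgr Lrot11 (Lpr_ct (K56.f535754 IH) (Lpn K56.v2817))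
theorem f642278 : Led Lsl_bt (LP (LK LD1_c9 LD2_c47 LD3_c29)) = (LP (LK LD1_c4 LD2_c58 LD3_c45)) :=
  Lre_b IH (LK LD1_c9 LD2_c47 LD3_c29) (LK LD1_c4 LD2_c58 LD3_c45) Lrfl Lrfl
theorem f900380 : Led Lsl_ct (LP (LK LD1_c9 LD2_c47 LD3_c29)) = v38273 :=
  Lgr Lrot64 (Lpr_bt (f642278 IH) (Lpqs (K53.f643543 IH) (Lpe (K53.f640756 IH) (Lpe (K56.f500206 IH) (Lpqs (K56.f535788 IH) (Lpe (f535755 IH) (Lpe (K35.f452332 IH) (Lpe (K56.f445858 IH) (Lpe (K50.f186190 IH) (Lpe (K58.f445861 IH) (Lpr_ct (K58.f445862 IH) (Lpr_gf (f900378 IH) (Lpn v38273)))))))))))))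
theorem f642265 : Led Lsl_et (LP (LK LD1_c9 LD2_c47 LD3_c29)) = (LP (LK LD1_c12 LD2_c29 LD3_c41)) :=
  Lgr Lrot74 (Lpe (K56.f642264 IH) (Lpr_ef (K53.f642261 IH) (Lpe (K45.f82939 IH) (Lpn (LP (LK LD1_c12 LD2_c29 LD3_c41))))))
theorem f642276 : Led Lsl_ef (LP (LK LD1_c9 LD2_c47 LD3_c29)) = (LP (LK LD1_c12 LD2_c29 LD3_c41)) :=
  Lgr Lrot88 (Lpr_et (f642265 IH) (Lpn (LP (LK LD1_c12 LD2_c29 LD3_c41))))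
theorem f900383 : Led Lsl_ef (LP (LK LD1_c11 LD2_c39 LD3_c57)) = v38273 :=
  Lgr Lrot28 (Lpr_ct (K45.f82947 IH) (Lpe (f642276 IH) (Lpr_ct (f900380 IH) (Lpn v38273))))
theorem f163070 : Led Lsl_ff (LP (LK LD1_c4 LD2_c39 LD3_c59)) = (LP (LK LD1_c3 LD2_c2 LD3_c4)) :=
  Lgr Lrot25 (Lpr_bt (K28.f161751 IH) (Lpr_ft (K8.f163066 IH) (Lpr_bt (K6.f63512 IH) (Lpn (LP (LK LD1_c3 LD2_c2 LD3_c4))))))
theorem f900387 : Led Lsl_ft (LP (LK LD1_c9 LD2_c15 LD3_c25)) = v38273 :=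
  Lgr Lrot86 (Lpe (K45.f157028 IH) (Lpr_ff (f163070 IH) (Lpe (K8.f99956 IH) (Lpr_ff (K45.f642364 IH) (Lpr_ef (f900383 IH) (Lpn v38273))))))
def v16211 : LQ := Led Lsl_gt (LP (LK LD1_c5 LD2_c55 LD3_c11))
theorem f747047 : Led Lsl_gt (LP (LK LD1_c5 LD2_c55 LD3_c11)) = v16211 :=
  Lrfl
def v37224 : LQ := Led Lsl_ft (LP (LK LD1_c8 LD2_c49 LD3_c1))
theorem f893616 : Led Lsl_ft (LP (LK LD1_c8 LD2_c49 LD3_c1)) = v37224 :=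
  Lrfl
theorem f893617 : Led Lsl_af (LP (LK LD1_c9 LD2_c47 LD3_c29)) = v37224 :=
  Lgr Lrot45 (Lpr_ft (K56.f138967 IH) (Lpe (K56.f138958 IH) (Lpr_ft (f893616 IH) (Lpn v37224))))
theorem f893619 : Led Lsl_ff (LP (LK LD1_c8 LD2_c49 LD3_c1)) = v37224 :=
  Lgr Lrot3 (Lpr_ft (f893616 IH) (Lpn v37224))
def v17041 : LQ := Led Lsl_ft (LP (LK LD1_c6 LD2_c10 LD3_c52))
theorem f754702 : Led Lsl_ft (LP (LK LD1_c6 LD2_c10 LD3_c52)) = v17041 :=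
  Lrfl
theorem f893621 : Led Lsl_ct v17041 = v37224 :=
  Lgr Lrot40 (Lpe (f754702 IH) (Lpr_cf (K45.f99701 IH) (Lpr_ff (f893619 IH) (Lpn v37224))))
theorem f900381 : Led Lsl_af v17041 = v38273 :=
  Lgr Lrot68 (Lpr_ct (f893621 IH) (Lpe (f893617 IH) (Lpr_ct (f900380 IH) (Lpn v38273))))
theorem f900388 : v16211 = v17041 :=
  (Llr Lrot46 (Lpe (f747047 IH) (Lpr_gf (K45.f643198 IH) (Lpr_ft (f900387 IH) (Lpe (f900381 IH) (Lpn v17041)))))).symm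
theorem f138963 : Led Lsl_gt (LP (LK LD1_c9 LD2_c47 LD3_c27)) = (LP (LK LD1_c4 LD2_c58 LD3_c23)) :=
  Lre_g IH (LK LD1_c9 LD2_c47 LD3_c27) (LK LD1_c4 LD2_c58 LD3_c23) Lrfl Lrfl
theorem f893622 : Led Lsl_gf (LP (LK LD1_c9 LD2_c47 LD3_c27)) = v37224 :=
  Lgr Lrot47 (Lpr_gt (f138963 IH) (Lpe (K45.f138956 IH) (Lpr_ff (f893619 IH) (Lpn v37224))))
theorem f748158 : Led Lsl_ft K56.v16005 = (LP (LK LD1_c16 LD2_c29 LD3_c26)) :=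
  Lgr Lrot48 (Lpr_ff (K56.f748157 IH) (Lpn (LP (LK LD1_c16 LD2_c29 LD3_c26))))
theorem f748153 : Led Lsl_af (LP (LK LD1_c9 LD2_c47 LD3_c26)) = (LP (LK LD1_c16 LD2_c29 LD3_c26)) :=
  Lgr Lrot0 (Lpr_at (K56.f748151 IH) (Lpn (LP (LK LD1_c16 LD2_c29 LD3_c26))))
theorem f748161 : K56.v16005 = (LP (LK LD1_c9 LD2_c47 LD3_c27)) :=
  (Llr Lrot52 (Lpr_ft (f748158 IH) (Lpe (f748153 IH) (Lpe (K50.f149886 IH) (Lpe (f138963 IH) (Lpn (LP (LK LD1_c9 LD2_c47 LD3_c27)))))))).symm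
theorem f22308 : Led Lsl_ct (LP (LK LD1_c11 LD2_c30 LD3_c25)) = (LP (LK LD1_c5 LD2_c51 LD3_c29)) :=
  Lre_c IH (LK LD1_c11 LD2_c30 LD3_c25) (LK LD1_c5 LD2_c51 LD3_c29) Lrfl Lrfl
theorem f713140 : Led Lsl_ff (LP (LK LD1_c11 LD2_c30 LD3_c25)) = (LP (LK LD1_c9 LD2_c10 LD3_c6)) :=
  Lgr Lrot23 (Lpr_ct (f22308 IH) (Lpr_ft (K56.f713138 IH) (Lpe (K66.f699537 IH) (Lpn (LP (LK LD1_c9 LD2_c10 LD3_c6))))))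
theorem f148817 : Led Lsl_gt (LP (LK LD1_c9 LD2_c10 LD3_c7)) = (LP (LK LD1_c4 LD2_c37 LD3_c12)) :=
  Lre_g IH (LK LD1_c9 LD2_c10 LD3_c7) (LK LD1_c4 LD2_c37 LD3_c12) Lrfl Lrfl
theorem f622315 : Led Lsl_gf (LP (LK LD1_c9 LD2_c10 LD3_c7)) = (LP (LK LD1_c17 LD2_c0 LD3_c11)) :=
  Lgr Lrot47 (Lpr_gt (f148817 IH) (Lpe (K66.f428521 IH) (Lpr_ff (K66.f622289 IH) (Lpn (LP (LK LD1_c17 LD2_c0 LD3_c11))))))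
theorem f713142 : Led Lsl_at (LP (LK LD1_c11 LD2_c30 LD3_c25)) = (LP (LK LD1_c9 LD2_c10 LD3_c7)) :=
  Lgr Lrot26 (Lpr_ff (f713140 IH) (Lpr_gt (K66.f622319 IH) (Lpe (f622315 IH) (Lpn (LP (LK LD1_c9 LD2_c10 LD3_c7))))))
theorem f713144 : Led Lsl_af (LP (LK LD1_c11 LD2_c30 LD3_c25)) = (LP (LK LD1_c9 LD2_c10 LD3_c7)) :=
  Lgr Lrot0 (Lpr_at (f713142 IH) (Lpn (LP (LK LD1_c9 LD2_c10 LD3_c7))))
theorem f744756 : Led Lsl_cf (LP (LK LD1_c9 LD2_c10 LD3_c7)) = K56.v16005 :=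
  Lgr Lrot1 (Lpe (f713144 IH) (Lpr_ct (f22308 IH) (Lpr_at (K56.f744754 IH) (Lpn K56.v16005))))
theorem f744757 : Led Lsl_ct (LP (LK LD1_c9 LD2_c10 LD3_c7)) = K56.v16005 :=
  Lgr Lrot59 (Lpr_cf (f744756 IH) (Lpn K56.v16005))
def v2044 : LQ := Led Lsl_gf (LP (LK LD1_c1 LD2_c34 LD3_c10))
theorem f507902 : Led Lsl_gf (LP (LK LD1_c1 LD2_c34 LD3_c10)) = v2044 :=
  Lrfl
theorem f633035 : Led Lsl_gf v2044 = K58.v4382 :=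
  Lgr Lrot47 (Lpe (f507902 IH) (Lpr_af (K58.f507904 IH) (Lpr_ff (K58.f633032 IH) (Lpn K58.v4382))))
theorem f768807 : v2044 = (LP (LK LD1_c0 LD2_c44 LD3_c4)) :=
  Lefun (Lecon (Lfl_gf (f633035 IH)) ((K58.f768791 IH).trans (K58.f675675 IH).symm)) (Lfl_gf (K35.f453864 IH))
theorem f453854 : Led Lsl_bt (LP (LK LD1_c1 LD2_c34 LD3_c43)) = (LP (LK LD1_c3 LD2_c15 LD3_c54)) :=
  Lre_b IH (LK LD1_c1 LD2_c34 LD3_c43) (LK LD1_c3 LD2_c15 LD3_c54) Lrfl Lrfl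
theorem f141646 : Led Lsl_gt (LP (LK LD1_c6 LD2_c35 LD3_c5)) = (LP (LK LD1_c3 LD2_c15 LD3_c54)) :=
  Lre_g IH (LK LD1_c6 LD2_c35 LD3_c5) (LK LD1_c3 LD2_c15 LD3_c54) Lrfl Lrfl
def v18929 : LQ := Led Lsl_bt (LP (LK LD1_c6 LD2_c35 LD3_c5))
theorem f776503 : Led Lsl_bt (LP (LK LD1_c6 LD2_c35 LD3_c5)) = v18929 :=
  Lrfl
theorem f776504 : Led Lsl_bf (LP (LK LD1_c6 LD2_c35 LD3_c5)) = v18929 :=
  Lgr Lrot24 (Lpr_bt (f776503 IH) (Lpn v18929))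
theorem f900389 : (LP (LK LD1_c9 LD2_c10 LD3_c7)) = v18929 :=
  (Llr Lrot163 (Lpr_ct (f744757 IH) (Lpqs (f748161 IH) (Lpr_gf (f893622 IH) (Lpe (f893621 IH) (Lpq (f900388 IH) (Lpe (f747047 IH) (Lpe (K58.f435606 IH) (Lpr_ct (K58.f206537 IH) (Lpr_gf (f507902 IH) (Lpqs (f768807 IH) (Lpe (K60.f453001 IH) (Lpr_bt (f453854 IH) (Lpe (f141646 IH) (Lpr_bf (f776504 IH) (Lpn v18929)))))))))))))))).symm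
theorem f900390 : Led Lsl_bt (LP (LK LD1_c9 LD2_c10 LD3_c7)) = (LP (LK LD1_c6 LD2_c35 LD3_c5)) :=
  Leop (Lpr_bf (f776504 IH) (Lpq (f900389 IH) (Lpn (LP (LK LD1_c9 LD2_c10 LD3_c7)))))
theorem seed_2220 : LEOK LG_b (LK LD1_c9 LD2_c10 LD3_c7) :=
  Leoe_b (LK LD1_c9 LD2_c10 LD3_c7) (f900390 IH)
theorem f900386 : Led Lsl_et (LP (LK LD1_c11 LD2_c39 LD3_c57)) = v38273 :=
  Lgr Lrot87 (Lpr_ef (f900383 IH) (Lpn v38273))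
theorem f82949 : Led Lsl_dt (LP (LK LD1_c11 LD2_c39 LD3_c57)) = (LP (LK LD1_c20 LD2_c39 LD3_c60)) :=
  Lre_d IH (LK LD1_c11 LD2_c39 LD3_c57) (LK LD1_c20 LD2_c39 LD3_c60) Lrfl Lrfl
theorem f651638 : Led Lsl_bt (LP (LK LD1_c21 LD2_c7 LD3_c32)) = (LP (LK LD1_c12 LD2_c2 LD3_c7)) :=
  Lre_b IH (LK LD1_c21 LD2_c7 LD3_c32) (LK LD1_c12 LD2_c2 LD3_c7) Lrfl Lrfl
def v8787 : LQ := Led Lsl_ct K59.v2202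
theorem f672294 : Led Lsl_ct K59.v2202 = v8787 :=
  Lrfl
theorem f672296 : Led Lsl_ff (LP (LK LD1_c6 LD2_c32 LD3_c38)) = v8787 :=
  Lgr Lrot23 (Lpr_ct (K66.f68444 IH) (Lpr_ft (K59.f509656 IH) (Lpr_ct (f672294 IH) (Lpn v8787))))
theorem f672297 : Led Lsl_ft (LP (LK LD1_c6 LD2_c32 LD3_c38)) = v8787 :=
  Lgr Lrot48 (Lpr_ff (f672296 IH) (Lpn v8787))
theorem f678378 : Led Lsl_et K56.v6041 = K56.v10013 :=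
  Lgr Lrot87 (Lpr_ef (K56.f678374 IH) (Lpn K56.v10013))
theorem f771585 : K56.v10013 = (LP (LK LD1_c6 LD2_c32 LD3_c38)) :=
  Lefun (Lecon (f678378 IH) ((K56.f754655 IH).symm.trans (K59.f771549 IH).symm)) (Lfl_ef (K66.f68446 IH))
theorem f771623 : K46.v6173 = v8787 :=
  Lefun (Lecon (Lfl_ff (K56.f678375 IH)) (f771585 IH)) (f672297 IH)
theorem f706797 : Led Lsl_bt v8787 = (LP (LK LD1_c12 LD2_c44 LD3_c44)) :=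
  Lgr Lrot35 (Lpe (f672297 IH) (Lpe (K66.f68453 IH) (Lpr_ff (K57.f706795 IH) (Lpn (LP (LK LD1_c12 LD2_c44 LD3_c44))))))
theorem f775167 : Led Lsl_df (LP (LK LD1_c21 LD2_c7 LD3_c32)) = (LP (LK LD1_c12 LD2_c44 LD3_c44)) :=
  Lgr Lrot12 (Lpr_bt (f651638 IH) (Lpr_dt (K46.f651623 IH) (Lpqs (K56.f754495 IH) (Lpq (K56.f754495 IH) (Lpqs (f771623 IH) (Lpr_bt (f706797 IH) (Lpn (LP (LK LD1_c12 LD2_c44 LD3_c44)))))))))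
theorem f706802 : Led Lsl_ft (LP (LK LD1_c12 LD2_c32 LD3_c51)) = (LP (LK LD1_c12 LD2_c44 LD3_c44)) :=
  Lgr Lrot48 (Lpr_ff (K57.f706795 IH) (Lpn (LP (LK LD1_c12 LD2_c44 LD3_c44))))
theorem f653038 : Led Lsl_ff (LP (LK LD1_c9 LD2_c12 LD3_c25)) = (LP (LK LD1_c6 LD2_c2 LD3_c37)) :=
  Lgr Lrot3 (Lpr_ft (K55.f653030 IH) (Lpn (LP (LK LD1_c6 LD2_c2 LD3_c37))))
theorem f547913 : Led Lsl_df (LP (LK LD1_c9 LD2_c7 LD3_c45)) = (LP (LK LD1_c4 LD2_c37 LD3_c7)) :=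
  Lgr Lrot18 (Lpr_at (K36.f547907 IH) (Lpr_dt (K59.f100086 IH) (Lpe (K6.f100071 IH) (Lpn (LP (LK LD1_c4 LD2_c37 LD3_c7))))))
theorem f452256 : Led Lsl_et (LP (LK LD1_c0 LD2_c29 LD3_c42)) = (LP (LK LD1_c1 LD2_c5 LD3_c2)) :=
  Lre_e IH (LK LD1_c0 LD2_c29 LD3_c42) (LK LD1_c1 LD2_c5 LD3_c2) Lrfl Lrfl
theorem f621230 : Led Lsl_gf (LP (LK LD1_c9 LD2_c7 LD3_c45)) = (LP (LK LD1_c9 LD2_c12 LD3_c26)) :=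
  Lgr Lrot145 (Lpr_df (f547913 IH) (Lpr_et (K36.f99645 IH) (Lpr_gt (K4.f99631 IH) (Lpr_dt (K6.f99632 IH) (Lpr_gt (K2.f72252 IH) (Lpe (K37.f80162 IH) (Lpr_et (f452256 IH) (Lpr_gt (K32.f140860 IH) (Lpe (K53.f79997 IH) (Lpr_dt (K53.f79998 IH) (Lpn (LP (LK LD1_c9 LD2_c12 LD3_c26)))))))))))))
theorem f99958 : Led Lsl_dt (LP (LK LD1_c17 LD2_c3 LD3_c3)) = (LP (LK LD1_c9 LD2_c9 LD3_c58)) :=
  Lre_d IH (LK LD1_c17 LD2_c3 LD3_c3) (LK LD1_c9 LD2_c9 LD3_c58) Lrfl Lrfl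
theorem f99935 : Led Lsl_dt (LP (LK LD1_c9 LD2_c9 LD3_c58)) = (LP (LK LD1_c17 LD2_c3 LD3_c3)) :=
  Lre_d IH (LK LD1_c9 LD2_c9 LD3_c58) (LK LD1_c17 LD2_c3 LD3_c3) Lrfl Lrfl
theorem f80084 : Led Lsl_et (LP (LK LD1_c9 LD2_c12 LD3_c3)) = (LP (LK LD1_c4 LD2_c38 LD3_c11)) :=
  Lre_e IH (LK LD1_c9 LD2_c12 LD3_c3) (LK LD1_c4 LD2_c38 LD3_c11) Lrfl Lrfl
theorem f80085 : Led Lsl_dt (LP (LK LD1_c9 LD2_c12 LD3_c3)) = (LP (LK LD1_c17 LD2_c6 LD3_c6)) :=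
  Lre_d IH (LK LD1_c9 LD2_c12 LD3_c3) (LK LD1_c17 LD2_c6 LD3_c6) Lrfl Lrfl
theorem f99953 : Led Lsl_gf (LP (LK LD1_c17 LD2_c3 LD3_c3)) = (LP (LK LD1_c17 LD2_c6 LD3_c6)) :=
  Lgr Lrot145 (Lpe (f99935 IH) (Lpr_et (K6.f99934 IH) (Lpr_gt (K6.f99942 IH) (Lpe (K6.f99944 IH) (Lpr_gt (K6.f36593 IH) (Lpe (K6.f99950 IH) (Lpr_et (K45.f99951 IH) (Lpr_gt (K45.f99952 IH) (Lpe (f80084 IH) (Lpr_dt (f80085 IH) (Lpn (LP (LK LD1_c17 LD2_c6 LD3_c6)))))))))))))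
theorem f99955 : Led Lsl_gt (LP (LK LD1_c17 LD2_c6 LD3_c5)) = (LP (LK LD1_c9 LD2_c12 LD3_c3)) :=
  Lre_g IH (LK LD1_c17 LD2_c6 LD3_c5) (LK LD1_c9 LD2_c12 LD3_c3) Lrfl Lrfl
theorem f621234 : Led Lsl_cf (LP (LK LD1_c17 LD2_c6 LD3_c5)) = (LP (LK LD1_c9 LD2_c12 LD3_c25)) :=
  Lgr Lrot166 (Lpr_gt (f99955 IH) (Lpr_dt (f80085 IH) (Lpe (f99953 IH) (Lpr_dt (f99958 IH) (Lpr_ct (K6.f99961 IH) (Lpe (K36.f547928 IH) (Lpr_gf (f621230 IH) (Lpe (K53.f79998 IH) (Lpe (K46.f615056 IH) (Lpn (LP (LK LD1_c9 LD2_c12 LD3_c25))))))))))))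
theorem f443996 : Led Lsl_ct (LP (LK LD1_c11 LD2_c49 LD3_c24)) = (LP (LK LD1_c6 LD2_c2 LD3_c37)) :=
  Lre_c IH (LK LD1_c11 LD2_c49 LD3_c24) (LK LD1_c6 LD2_c2 LD3_c37) Lrfl Lrfl
theorem f653044 : Led Lsl_ft (LP (LK LD1_c17 LD2_c6 LD3_c5)) = (LP (LK LD1_c11 LD2_c49 LD3_c24)) :=
  Lgr Lrot4 (Lpr_cf (f621234 IH) (Lpr_ff (f653038 IH) (Lpe (f443996 IH) (Lpn (LP (LK LD1_c11 LD2_c49 LD3_c24))))))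
theorem f706805 : Led Lsl_ef (LP (LK LD1_c17 LD2_c6 LD3_c5)) = (LP (LK LD1_c12 LD2_c44 LD3_c44)) :=
  Lgr Lrot21 (Lpr_ft (f653044 IH) (Lpr_et (K42.f614693 IH) (Lpr_ft (K49.f614661 IH) (Lpe (K66.f614723 IH) (Lpr_ft (f706802 IH) (Lpn (LP (LK LD1_c12 LD2_c44 LD3_c44))))))))
theorem f100017 : Led Lsl_et (LP (LK LD1_c4 LD2_c38 LD3_c11)) = (LP (LK LD1_c9 LD2_c12 LD3_c3)) :=
  Lre_e IH (LK LD1_c4 LD2_c38 LD3_c11) (LK LD1_c9 LD2_c12 LD3_c3) Lrfl Lrfl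
theorem f99957 : Led Lsl_dt (LP (LK LD1_c6 LD2_c10 LD3_c54)) = (LP (LK LD1_c12 LD2_c2 LD3_c12)) :=
  Lre_d IH (LK LD1_c6 LD2_c10 LD3_c54) (LK LD1_c12 LD2_c2 LD3_c12) Lrfl Lrfl
theorem f775175 : Led Lsl_gf (LP (LK LD1_c21 LD2_c7 LD3_c32)) = (LP (LK LD1_c12 LD2_c2 LD3_c12)) :=
  Lgr Lrot134 (Lpr_df (f775167 IH) (Lpe (f706805 IH) (Lpr_gt (f99955 IH) (Lpe (f100017 IH) (Lpr_dt (K45.f99998 IH) (Lpr_gt (K45.f99999 IH) (Lpe (K45.f100000 IH) (Lpr_et (K45.f100001 IH) (Lpr_gt (K45.f100002 IH) (Lpr_dt (f99957 IH) (Lpn (LP (LK LD1_c12 LD2_c2 LD3_c12)))))))))))))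
theorem f99984 : Led Lsl_gt (LP (LK LD1_c21 LD2_c7 LD3_c36)) = (LP (LK LD1_c12 LD2_c2 LD3_c12)) :=
  Lre_g IH (LK LD1_c21 LD2_c7 LD3_c36) (LK LD1_c12 LD2_c2 LD3_c12) Lrfl Lrfl
theorem f507755 : Led Lsl_ft (LP (LK LD1_c4 LD2_c36 LD3_c33)) = (LP (LK LD1_c2 LD2_c54 LD3_c59)) :=
  Lgr Lrot48 (Lpr_ff (K42.f507751 IH) (Lpn (LP (LK LD1_c2 LD2_c54 LD3_c59))))
theorem f507772 : Led Lsl_ff (LP (LK LD1_c9 LD2_c9 LD3_c12)) = (LP (LK LD1_c5 LD2_c57 LD3_c24)) :=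
  Lgr Lrot25 (Lpr_bt (K42.f442813 IH) (Lpr_ft (f507755 IH) (Lpr_bt (K48.f435449 IH) (Lpn (LP (LK LD1_c5 LD2_c57 LD3_c24))))))
theorem f507766 : Led Lsl_at (LP (LK LD1_c9 LD2_c9 LD3_c12)) = (LP (LK LD1_c17 LD2_c2 LD3_c15)) :=
  Lre_a IH (LK LD1_c9 LD2_c9 LD3_c12) (LK LD1_c17 LD2_c2 LD3_c15) Lrfl Lrfl
theorem f614729 : Led Lsl_gf (LP (LK LD1_c17 LD2_c2 LD3_c15)) = (LP (LK LD1_c9 LD2_c10 LD3_c12)) :=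
  Lgr Lrot76 (Lpe (f507766 IH) (Lpr_ff (f507772 IH) (Lpr_gt (K48.f614725 IH) (Lpn (LP (LK LD1_c9 LD2_c10 LD3_c12))))))
theorem f615043 : Led Lsl_dt (LP (LK LD1_c17 LD2_c2 LD3_c15)) = (LP (LK LD1_c12 LD2_c53 LD3_c33)) :=
  Lgr Lrot60 (Lpr_ff (K42.f615041 IH) (Lpe (K42.f206816 IH) (Lpe (K42.f206824 IH) (Lpn (LP (LK LD1_c12 LD2_c53 LD3_c33))))))
theorem f437044 : Led Lsl_ft (LP (LK LD1_c21 LD2_c50 LD3_c47)) = (LP (LK LD1_c12 LD2_c43 LD3_c35)) :=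
  Lre_f IH (LK LD1_c21 LD2_c50 LD3_c47) (LK LD1_c12 LD2_c43 LD3_c35) Lrfl Lrfl
theorem f615138 : Led Lsl_ct (LP (LK LD1_c12 LD2_c53 LD3_c33)) = (LP (LK LD1_c21 LD2_c50 LD3_c47)) :=
  Lgr Lrot40 (Lpe (K42.f206825 IH) (Lpr_cf (K57.f615132 IH) (Lpe (f437044 IH) (Lpn (LP (LK LD1_c21 LD2_c50 LD3_c47))))))
theorem f82954 : Led Lsl_ct (LP (LK LD1_c5 LD2_c57 LD3_c20)) = (LP (LK LD1_c2 LD2_c54 LD3_c55)) :=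
  Lre_c IH (LK LD1_c5 LD2_c57 LD3_c20) (LK LD1_c2 LD2_c54 LD3_c55) Lrfl Lrfl
theorem f142102 : Led Lsl_dt (LP (LK LD1_c9 LD2_c15 LD3_c24)) = (LP (LK LD1_c17 LD2_c9 LD3_c55)) :=
  Lre_d IH (LK LD1_c9 LD2_c15 LD3_c24) (LK LD1_c17 LD2_c9 LD3_c55) Lrfl Lrfl
theorem f436615 : Led Lsl_gt (LP (LK LD1_c17 LD2_c9 LD3_c55)) = (LP (LK LD1_c27 LD2_c1 LD3_c30)) :=
  Lre_g IH (LK LD1_c17 LD2_c9 LD3_c55) (LK LD1_c27 LD2_c1 LD3_c30) Lrfl Lrfl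
theorem f642414 : Led Lsl_df (LP (LK LD1_c21 LD2_c50 LD3_c47)) = (LP (LK LD1_c27 LD2_c1 LD3_c30)) :=
  Lgr Lrot84 (Lpe (f615138 IH) (Lpe (f615043 IH) (Lpr_gf (f614729 IH) (Lpe (K48.f157177 IH) (Lpqs (K46.f642390 IH) (Lpe (K46.f641162 IH) (Lpe (f82954 IH) (Lpe (K45.f642368 IH) (Lpr_dt (f142102 IH) (Lpr_gt (f436615 IH) (Lpn (LP (LK LD1_c27 LD2_c1 LD3_c30)))))))))))))
theorem f437037 : Led Lsl_et (LP (LK LD1_c12 LD2_c43 LD3_c35)) = (LP (LK LD1_c6 LD2_c38 LD3_c59)) :=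
  Lre_e IH (LK LD1_c12 LD2_c43 LD3_c35) (LK LD1_c6 LD2_c38 LD3_c59) Lrfl Lrfl
theorem f437038 : Led Lsl_df (LP (LK LD1_c21 LD2_c7 LD3_c36)) = (LP (LK LD1_c12 LD2_c43 LD3_c35)) :=
  Lgr Lrot170 (Lpr_gt (f99984 IH) (Lpe (f99957 IH) (Lpr_et (K8.f99956 IH) (Lpr_gt (K6.f27159 IH) (Lpr_dt (K6.f60364 IH) (Lpr_gt (K8.f147490 IH) (Lpe (K8.f132534 IH) (Lpr_et (K42.f156978 IH) (Lpr_gt (K49.f103913 IH) (Lpe (f437037 IH) (Lpn (LP (LK LD1_c12 LD2_c43 LD3_c35)))))))))))))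
theorem f642418 : Led Lsl_ft (LP (LK LD1_c21 LD2_c7 LD3_c36)) = (LP (LK LD1_c27 LD2_c1 LD3_c30)) :=
  Lgr Lrot54 (Lpr_df (f437038 IH) (Lpe (f437044 IH) (Lpr_df (f642414 IH) (Lpn (LP (LK LD1_c27 LD2_c1 LD3_c30))))))
theorem f775177 : Led Lsl_af (LP (LK LD1_c21 LD2_c7 LD3_c32)) = (LP (LK LD1_c27 LD2_c1 LD3_c30)) :=
  Lgr Lrot31 (Lpr_gf (f775175 IH) (Lpe (f99984 IH) (Lpr_ft (f642418 IH) (Lpn (LP (LK LD1_c27 LD2_c1 LD3_c30))))))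
theorem f651627 : Led Lsl_bt (LP (LK LD1_c12 LD2_c2 LD3_c7)) = (LP (LK LD1_c21 LD2_c7 LD3_c32)) :=
  Lre_b IH (LK LD1_c12 LD2_c2 LD3_c7) (LK LD1_c21 LD2_c7 LD3_c32) Lrfl Lrfl
theorem f527881 : Led Lsl_bt (LP (LK LD1_c14 LD2_c12 LD3_c11)) = (LP (LK LD1_c7 LD2_c31 LD3_c47)) :=
  Lre_b IH (LK LD1_c14 LD2_c12 LD3_c11) (LK LD1_c7 LD2_c31 LD3_c47) Lrfl Lrfl
theorem f754596 : Led Lsl_ft (LP (LK LD1_c21 LD2_c7 LD3_c32)) = (LP (LK LD1_c14 LD2_c12 LD3_c11)) :=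
  Lgr Lrot75 (Lpe (f651627 IH) (Lpr_ff (K56.f754593 IH) (Lpe (f527881 IH) (Lpn (LP (LK LD1_c14 LD2_c12 LD3_c11))))))
theorem f775181 : Led Lsl_at (LP (LK LD1_c14 LD2_c12 LD3_c11)) = (LP (LK LD1_c21 LD2_c7 LD3_c36)) :=
  Lgr Lrot66 (Lpe (f754596 IH) (Lpr_af (f775177 IH) (Lpe (f642418 IH) (Lpn (LP (LK LD1_c21 LD2_c7 LD3_c36))))))
theorem f437041 : Led Lsl_dt (LP (LK LD1_c21 LD2_c7 LD3_c36)) = (LP (LK LD1_c12 LD2_c43 LD3_c35)) :=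
  Lgr Lrot42 (Lpr_df (f437038 IH) (Lpn (LP (LK LD1_c12 LD2_c43 LD3_c35))))
theorem f614719 : Led Lsl_et (LP (LK LD1_c12 LD2_c32 LD3_c51)) = (LP (LK LD1_c9 LD2_c11 LD3_c34)) :=
  Lgr Lrot158 (Lpe (K57.f435459 IH) (Lpr_ef (K42.f614642 IH) (Lpe (K49.f207333 IH) (Lpn (LP (LK LD1_c9 LD2_c11 LD3_c34))))))
theorem f615124 : Led Lsl_af (LP (LK LD1_c12 LD2_c32 LD3_c51)) = (LP (LK LD1_c12 LD2_c43 LD3_c35)) :=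
  Lgr Lrot50 (Lpr_et (f614719 IH) (Lpr_at (K49.f615073 IH) (Lpr_et (K57.f437043 IH) (Lpn (LP (LK LD1_c12 LD2_c43 LD3_c35))))))
theorem f775185 : Led Lsl_df (LP (LK LD1_c14 LD2_c12 LD3_c11)) = (LP (LK LD1_c12 LD2_c32 LD3_c51)) :=
  Lgr Lrot18 (Lpr_at (f775181 IH) (Lpr_dt (f437041 IH) (Lpe (f615124 IH) (Lpn (LP (LK LD1_c12 LD2_c32 LD3_c51))))))
theorem f499100 : Led Lsl_ef (LP (LK LD1_c17 LD2_c5 LD3_c24)) = (LP (LK LD1_c12 LD2_c43 LD3_c30)) :=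
  Lgr Lrot21 (Lpr_ft (K32.f498227 IH) (Lpr_et (K52.f135964 IH) (Lpr_ft (K42.f499093 IH) (Lpr_et (K53.f132530 IH) (Lpr_ft (K49.f499099 IH) (Lpn (LP (LK LD1_c12 LD2_c43 LD3_c30))))))))
theorem f499103 : Led Lsl_et (LP (LK LD1_c9 LD2_c11 LD3_c46)) = (LP (LK LD1_c6 LD2_c38 LD3_c61)) :=
  Lgr Lrot158 (Lpe (K32.f498218 IH) (Lpr_ef (f499100 IH) (Lpe (K50.f499102 IH) (Lpn (LP (LK LD1_c6 LD2_c38 LD3_c61))))))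
theorem f642578 : Led Lsl_gt (LP (LK LD1_c17 LD2_c2 LD3_c10)) = (LP (LK LD1_c11 LD2_c39 LD3_c57)) :=
  Lgr Lrot5 (Lpr_ft (K45.f642572 IH) (Lpe (K45.f642574 IH) (Lpe (K45.f82935 IH) (Lpn (LP (LK LD1_c11 LD2_c39 LD3_c57))))))
theorem f775189 : Led Lsl_gf (LP (LK LD1_c14 LD2_c12 LD3_c11)) = (LP (LK LD1_c20 LD2_c39 LD3_c60)) :=
  Lgr Lrot134 (Lpr_df (f775185 IH) (Lpr_et (f614719 IH) (Lpe (K49.f643766 IH) (Lpe (f499103 IH) (Lpr_dt (K46.f498205 IH) (Lpr_gt (K46.f498198 IH) (Lpe (K45.f57009 IH) (Lpr_et (K45.f642428 IH) (Lpr_gt (f642578 IH) (Lpr_dt (f82949 IH) (Lpn (LP (LK LD1_c20 LD2_c39 LD3_c60)))))))))))))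
theorem f775183 : Led Lsl_af (LP (LK LD1_c14 LD2_c12 LD3_c11)) = (LP (LK LD1_c21 LD2_c7 LD3_c36)) :=
  Lgr Lrot0 (Lpr_at (f775181 IH) (Lpn (LP (LK LD1_c21 LD2_c7 LD3_c36))))
theorem f642420 : Led Lsl_ff (LP (LK LD1_c21 LD2_c7 LD3_c36)) = (LP (LK LD1_c27 LD2_c1 LD3_c30)) :=
  Lgr Lrot3 (Lpr_ft (f642418 IH) (Lpn (LP (LK LD1_c27 LD2_c1 LD3_c30))))
theorem f775191 : Led Lsl_gt (LP (LK LD1_c27 LD2_c1 LD3_c30)) = (LP (LK LD1_c20 LD2_c39 LD3_c60)) :=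
  Lgr Lrot5 (Lpe (f642420 IH) (Lpe (f775183 IH) (Lpr_gf (f775189 IH) (Lpn (LP (LK LD1_c20 LD2_c39 LD3_c60))))))
theorem f642416 : Led Lsl_dt (LP (LK LD1_c21 LD2_c50 LD3_c47)) = (LP (LK LD1_c27 LD2_c1 LD3_c30)) :=
  Lgr Lrot42 (Lpr_df (f642414 IH) (Lpn (LP (LK LD1_c27 LD2_c1 LD3_c30))))
theorem f706791 : Led Lsl_af (LP (LK LD1_c21 LD2_c50 LD3_c47)) = (LP (LK LD1_c12 LD2_c44 LD3_c44)) :=
  Lgr Lrot0 (Lpr_at (K57.f706784 IH) (Lpn (LP (LK LD1_c12 LD2_c44 LD3_c44))))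
theorem f781263 : Led Lsl_gt (LP (LK LD1_c12 LD2_c43 LD3_c61)) = (LP (LK LD1_c21 LD2_c50 LD3_c47)) :=
  Lgr Lrot46 (Lpr_gf (K60.f781261 IH) (Lpr_ft (f706802 IH) (Lpe (f706791 IH) (Lpn (LP (LK LD1_c21 LD2_c50 LD3_c47))))))
theorem f778073 : Led Lsl_et (LP (LK LD1_c6 LD2_c39 LD3_c8)) = (LP (LK LD1_c12 LD2_c43 LD3_c61)) :=
  Lre_e IH (LK LD1_c6 LD2_c39 LD3_c8) (LK LD1_c12 LD2_c43 LD3_c61) Lrfl Lrfl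
theorem f642878 : Led Lsl_dt (LP (LK LD1_c6 LD2_c39 LD3_c8)) = (LP (LK LD1_c12 LD2_c43 LD3_c60)) :=
  Lre_d IH (LK LD1_c6 LD2_c39 LD3_c8) (LK LD1_c12 LD2_c43 LD3_c60) Lrfl Lrfl
theorem f446213 : Led Lsl_et (LP (LK LD1_c17 LD2_c0 LD3_c13)) = (LP (LK LD1_c9 LD2_c7 LD3_c53)) :=
  Lre_e IH (LK LD1_c17 LD2_c0 LD3_c13) (LK LD1_c9 LD2_c7 LD3_c53) Lrfl Lrfl
theorem f529951 : Led Lsl_et (LP (LK LD1_c6 LD2_c10 LD3_c50)) = K58.v2637 :=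
  Lgr Lrot69 (Lpe (K56.f96026 IH) (Lpe (K46.f95722 IH) (Lpr_ff (K3.f96020 IH) (Lpe (K3.f65680 IH) (Lpr_ff (K58.f529949 IH) (Lpn K58.v2637))))))
theorem f446223 : Led Lsl_et (LP (LK LD1_c9 LD2_c21 LD3_c41)) = (LP (LK LD1_c4 LD2_c44 LD3_c26)) :=
  Lre_e IH (LK LD1_c9 LD2_c21 LD3_c41) (LK LD1_c4 LD2_c44 LD3_c26) Lrfl Lrfl
theorem f651301 : Led Lsl_dt K46.v2093 = K46.v6118 :=
  Lgr Lrot42 (Lpr_df (K46.f651299 IH) (Lpn K46.v6118))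
theorem f63860 : Led Lsl_dt (LP (LK LD1_c3 LD2_c16 LD3_c19)) = (LP (LK LD1_c6 LD2_c36 LD3_c1)) :=
  Lre_d IH (LK LD1_c3 LD2_c16 LD3_c19) (LK LD1_c6 LD2_c36 LD3_c1) Lrfl Lrfl
theorem f654014 : K46.v6118 = (LP (LK LD1_c6 LD2_c36 LD3_c1)) :=
  Lefun (Lecon (f651301 IH) (K46.f654005 IH)) (f63860 IH)
theorem f63861 : Led Lsl_gt (LP (LK LD1_c6 LD2_c36 LD3_c1)) = (LP (LK LD1_c12 LD2_c38 LD3_c8)) :=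
  Lre_g IH (LK LD1_c6 LD2_c36 LD3_c1) (LK LD1_c12 LD2_c38 LD3_c8) Lrfl Lrfl
theorem f654158 : Led Lsl_gt (LP (LK LD1_c12 LD2_c38 LD3_c8)) = (LP (LK LD1_c6 LD2_c36 LD3_c3)) :=
  Lgr Lrot46 (Lpe (f63861 IH) (Lpq (f654014 IH) (Lpe (K59.f651306 IH) (Lpr_at (K59.f651346 IH) (Lpqs (K59.f654035 IH) (Lpn (LP (LK LD1_c6 LD2_c36 LD3_c3))))))))
theorem f774914 : Led Lsl_dt (LP (LK LD1_c9 LD2_c21 LD3_c41)) = (LP (LK LD1_c12 LD2_c38 LD3_c8)) :=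
  Lgr Lrot136 (Lpr_et (f446223 IH) (Lpqs (K58.f768779 IH) (Lpe (K58.f646534 IH) (Lpe (f529951 IH) (Lpr_dt (K56.f754581 IH) (Lpr_gf (K56.f754576 IH) (Lpe (K56.f754565 IH) (Lpr_gf (K56.f754556 IH) (Lpqs (K56.f654044 IH) (Lpe (K56.f650516 IH) (Lpr_dt (K59.f453928 IH) (Lpe (f654158 IH) (Lpn (LP (LK LD1_c12 LD2_c38 LD3_c8)))))))))))))))
theorem f774921 : Led Lsl_df (LP (LK LD1_c9 LD2_c21 LD3_c41)) = (LP (LK LD1_c12 LD2_c38 LD3_c8)) :=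
  Lgr Lrot38 (Lpr_dt (f774914 IH) (Lpn (LP (LK LD1_c12 LD2_c38 LD3_c8))))
theorem f446212 : Led Lsl_et (LP (LK LD1_c4 LD2_c44 LD3_c26)) = (LP (LK LD1_c9 LD2_c21 LD3_c41)) :=
  Lre_e IH (LK LD1_c4 LD2_c44 LD3_c26) (LK LD1_c9 LD2_c21 LD3_c41) Lrfl Lrfl
theorem f446214 : Led Lsl_bt (LP (LK LD1_c9 LD2_c21 LD3_c41)) = (LP (LK LD1_c17 LD2_c0 LD3_c13)) :=
  Lgr Lrot119 (Lpe (f446212 IH) (Lpr_bf (K58.f446206 IH) (Lpe (f446213 IH) (Lpn (LP (LK LD1_c17 LD2_c0 LD3_c13))))))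
theorem f654160 : Led Lsl_bt (LP (LK LD1_c21 LD2_c44 LD3_c40)) = (LP (LK LD1_c12 LD2_c38 LD3_c8)) :=
  Lre_b IH (LK LD1_c21 LD2_c44 LD3_c40) (LK LD1_c12 LD2_c38 LD3_c8) Lrfl Lrfl
theorem f774937 : Led Lsl_dt (LP (LK LD1_c17 LD2_c0 LD3_c13)) = (LP (LK LD1_c21 LD2_c44 LD3_c40)) :=
  Lgr Lrot79 (Lpe (f446214 IH) (Lpr_df (f774921 IH) (Lpe (f654160 IH) (Lpn (LP (LK LD1_c21 LD2_c44 LD3_c40))))))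
theorem f900396 : Led Lsl_gf (LP (LK LD1_c12 LD2_c43 LD3_c60)) = (LP (LK LD1_c21 LD2_c44 LD3_c40)) :=
  Lgr Lrot145 (Lpe (f642878 IH) (Lpr_et (f778073 IH) (Lpr_gt (f781263 IH) (Lpr_dt (f642416 IH) (Lpr_gt (f775191 IH) (Lpe (f82949 IH) (Lpr_et (f900386 IH) (Lpe (f900378 IH) (Lpe (f446213 IH) (Lpr_dt (f774937 IH) (Lpn (LP (LK LD1_c21 LD2_c44 LD3_c40)))))))))))))
theorem f900397 : Led Lsl_gt (LP (LK LD1_c21 LD2_c44 LD3_c40)) = (LP (LK LD1_c12 LD2_c43 LD3_c60)) :=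
  Leop (Lpr_gf (f900396 IH) (Lpn (LP (LK LD1_c21 LD2_c44 LD3_c40))))
theorem seed_2221 : LEOK LG_g (LK LD1_c21 LD2_c44 LD3_c40) :=
  Leoe_g (LK LD1_c21 LD2_c44 LD3_c40) (f900397 IH)
def v19672 : LQ := Led Lsl_gt (LP (LK LD1_c6 LD2_c45 LD3_c43))
theorem f781602 : Led Lsl_gt (LP (LK LD1_c6 LD2_c45 LD3_c43)) = v19672 :=
  Lrfl
def v38297 : LQ := Led Lsl_gf (LP (LK LD1_c9 LD2_c8 LD3_c17))
theorem f900544 : Led Lsl_gf (LP (LK LD1_c9 LD2_c8 LD3_c17)) = v38297 :=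
  Lrfl
theorem f71143 : Led Lsl_dt (LP (LK LD1_c4 LD2_c36 LD3_c1)) = (LP (LK LD1_c9 LD2_c8 LD3_c17)) :=
  Lre_d IH (LK LD1_c4 LD2_c36 LD3_c1) (LK LD1_c9 LD2_c8 LD3_c17) Lrfl Lrfl
theorem f71133 : Led Lsl_et (LP (LK LD1_c4 LD2_c36 LD3_c1)) = (LP (LK LD1_c2 LD2_c15 LD3_c12)) :=
  Lre_e IH (LK LD1_c4 LD2_c36 LD3_c1) (LK LD1_c2 LD2_c15 LD3_c12) Lrfl Lrfl
theorem f210103 : Led Lsl_et (LP (LK LD1_c9 LD2_c13 LD3_c28)) = (LP (LK LD1_c4 LD2_c38 LD3_c49)) :=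
  Lre_e IH (LK LD1_c9 LD2_c13 LD3_c28) (LK LD1_c4 LD2_c38 LD3_c49) Lrfl Lrfl
theorem f900547 : Led Lsl_dt (LP (LK LD1_c9 LD2_c13 LD3_c28)) = v38297 :=
  Lgr Lrot136 (Lpr_et (f210103 IH) (Lpe (K50.f61087 IH) (Lpe (K11.f104814 IH) (Lpe (K4.f26928 IH) (Lpe (K5.f59334 IH) (Lpe (K6.f137336 IH) (Lpe (K6.f71136 IH) (Lpe (f71133 IH) (Lpr_dt (f71143 IH) (Lpr_gf (f900544 IH) (Lpn v38297)))))))))))
theorem f900548 : Led Lsl_bf (LP (LK LD1_c11 LD2_c41 LD3_c58)) = v38297 :=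
  Lgr Lrot93 (Lpe (K52.f644134 IH) (Lpr_bt (K52.f644138 IH) (Lpr_dt (f900547 IH) (Lpn v38297))))
theorem f428145 : Led Lsl_et (LP (LK LD1_c6 LD2_c0 LD3_c5)) = (LP (LK LD1_c11 LD2_c44 LD3_c41)) :=
  Lre_e IH (LK LD1_c6 LD2_c0 LD3_c5) (LK LD1_c11 LD2_c44 LD3_c41) Lrfl Lrfl
theorem f853366 : Led Lsl_af (LP (LK LD1_c17 LD2_c7 LD3_c50)) = (LP (LK LD1_c11 LD2_c44 LD3_c41)) :=
  Lgr Lrot50 (Lpr_et (K52.f644130 IH) (Lpqs (K66.f853307 IH) (Lpe (K66.f749270 IH) (Lpr_et (f428145 IH) (Lpn (LP (LK LD1_c11 LD2_c44 LD3_c41)))))))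
theorem f644137 : Led Lsl_gt (LP (LK LD1_c27 LD2_c0 LD3_c52)) = (LP (LK LD1_c17 LD2_c7 LD3_c50)) :=
  Lre_g IH (LK LD1_c27 LD2_c0 LD3_c52) (LK LD1_c17 LD2_c7 LD3_c50) Lrfl Lrfl
theorem f711572 : Led Lsl_bt (LP (LK LD1_c20 LD2_c46 LD3_c27)) = (LP (LK LD1_c27 LD2_c0 LD3_c52)) :=
  Lgr Lrot130 (Lpr_ct (K50.f643980 IH) (Lpe (K50.f414568 IH) (Lpe (K32.f140784 IH) (Lpr_bt (K35.f140767 IH) (Lpe (K35.f414556 IH) (Lpe (K24.f414562 IH) (Lpr_ct (K52.f414566 IH) (Lpe (K52.f414567 IH) (Lpr_cf (K52.f711567 IH) (Lpe (f644137 IH) (Lpn (LP (LK LD1_c27 LD2_c0 LD3_c52)))))))))))))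
theorem f711578 : Led Lsl_bf (LP (LK LD1_c20 LD2_c46 LD3_c27)) = (LP (LK LD1_c27 LD2_c0 LD3_c52)) :=
  Lgr Lrot24 (Lpr_bt (f711572 IH) (Lpn (LP (LK LD1_c27 LD2_c0 LD3_c52))))
theorem f644045 : Led Lsl_bt (LP (LK LD1_c9 LD2_c30 LD3_c61)) = (LP (LK LD1_c17 LD2_c32 LD3_c25)) :=
  Lre_b IH (LK LD1_c9 LD2_c30 LD3_c61) (LK LD1_c17 LD2_c32 LD3_c25) Lrfl Lrfl
theorem f716089 : Led Lsl_af (LP (LK LD1_c27 LD2_c0 LD3_c52)) = (LP (LK LD1_c17 LD2_c32 LD3_c25)) :=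
  Lgr Lrot36 (Lpe (f711578 IH) (Lpr_at (K57.f716085 IH) (Lpr_bt (K52.f446155 IH) (Lpe (K50.f644042 IH) (Lpr_bt (f644045 IH) (Lpn (LP (LK LD1_c17 LD2_c32 LD3_c25))))))))
theorem f705410 : Led Lsl_gt (LP (LK LD1_c9 LD2_c30 LD3_c54)) = (LP (LK LD1_c17 LD2_c32 LD3_c23)) :=
  Lre_g IH (LK LD1_c9 LD2_c30 LD3_c54) (LK LD1_c17 LD2_c32 LD3_c23) Lrfl Lrfl
theorem f716135 : Led Lsl_gf (LP (LK LD1_c27 LD2_c0 LD3_c52)) = (LP (LK LD1_c17 LD2_c32 LD3_c23)) :=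
  Lgr Lrot76 (Lpr_af (f716089 IH) (Lpe (K57.f705287 IH) (Lpr_gt (f705410 IH) (Lpn (LP (LK LD1_c17 LD2_c32 LD3_c23))))))
theorem f853374 : Led Lsl_ft (LP (LK LD1_c17 LD2_c32 LD3_c23)) = (LP (LK LD1_c11 LD2_c44 LD3_c41)) :=
  Lgr Lrot2 (Lpe (f716135 IH) (Lpr_gt (f644137 IH) (Lpr_af (f853366 IH) (Lpn (LP (LK LD1_c11 LD2_c44 LD3_c41))))))
theorem f853380 : Led Lsl_ff (LP (LK LD1_c17 LD2_c32 LD3_c23)) = (LP (LK LD1_c11 LD2_c44 LD3_c41)) :=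
  Lgr Lrot3 (Lpr_ft (f853374 IH) (Lpn (LP (LK LD1_c11 LD2_c44 LD3_c41))))
theorem f705290 : Led Lsl_at (LP (LK LD1_c17 LD2_c32 LD3_c15)) = (LP (LK LD1_c9 LD2_c30 LD3_c54)) :=
  Lre_a IH (LK LD1_c17 LD2_c32 LD3_c15) (LK LD1_c9 LD2_c30 LD3_c54) Lrfl Lrfl
theorem f716133 : Led Lsl_ft (LP (LK LD1_c27 LD2_c0 LD3_c52)) = (LP (LK LD1_c17 LD2_c32 LD3_c15)) :=
  Lgr Lrot101 (Lpr_af (f716089 IH) (Lpe (K57.f705287 IH) (Lpe (f705290 IH) (Lpn (LP (LK LD1_c17 LD2_c32 LD3_c15))))))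
theorem f716139 : Led Lsl_gt (LP (LK LD1_c17 LD2_c7 LD3_c50)) = (LP (LK LD1_c9 LD2_c30 LD3_c54)) :=
  Lgr Lrot46 (Lpe (f644137 IH) (Lpr_ft (f716133 IH) (Lpr_at (f705290 IH) (Lpn (LP (LK LD1_c9 LD2_c30 LD3_c54))))))
theorem f713266 : Led Lsl_ct (LP (LK LD1_c22 LD2_c7 LD3_c32)) = (LP (LK LD1_c12 LD2_c57 LD3_c39)) :=
  Lre_c IH (LK LD1_c22 LD2_c7 LD3_c32) (LK LD1_c12 LD2_c57 LD3_c39) Lrfl Lrfl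
theorem f644034 : Led Lsl_ct (LP (LK LD1_c9 LD2_c30 LD3_c54)) = (LP (LK LD1_c17 LD2_c32 LD3_c18)) :=
  Lre_c IH (LK LD1_c9 LD2_c30 LD3_c54) (LK LD1_c17 LD2_c32 LD3_c18) Lrfl Lrfl
theorem f716141 : Led Lsl_gf (LP (LK LD1_c22 LD2_c7 LD3_c32)) = (LP (LK LD1_c17 LD2_c32 LD3_c18)) :=
  Lgr Lrot104 (Lpr_ct (f713266 IH) (Lpr_df (K60.f713340 IH) (Lpe (K55.f643595 IH) (Lpe (K55.f600031 IH) (Lpe (K48.f426785 IH) (Lpe (K52.f157624 IH) (Lpe (K52.f644131 IH) (Lpr_gt (f716139 IH) (Lpr_ct (f644034 IH) (Lpn (LP (LK LD1_c17 LD2_c32 LD3_c18))))))))))))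
theorem f713346 : Led Lsl_dt (LP (LK LD1_c22 LD2_c7 LD3_c32)) = (LP (LK LD1_c20 LD2_c41 LD3_c55)) :=
  Lgr Lrot42 (Lpr_df (K60.f713342 IH) (Lpn (LP (LK LD1_c20 LD2_c41 LD3_c55))))
theorem f426750 : Led Lsl_af (LP (LK LD1_c24 LD2_c12 LD3_c30)) = (LP (LK LD1_c20 LD2_c41 LD3_c58)) :=
  Lgr Lrot0 (Lpr_at (K52.f426743 IH) (Lpn (LP (LK LD1_c20 LD2_c41 LD3_c58))))
theorem f426818 : Led Lsl_ft (LP (LK LD1_c11 LD2_c41 LD3_c50)) = (LP (LK LD1_c20 LD2_c41 LD3_c58)) :=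
  Lre_f IH (LK LD1_c11 LD2_c41 LD3_c50) (LK LD1_c20 LD2_c41 LD3_c58) Lrfl Lrfl
theorem f426819 : Led Lsl_gf (LP (LK LD1_c24 LD2_c12 LD3_c30)) = (LP (LK LD1_c20 LD2_c41 LD3_c55)) :=
  Lgr Lrot76 (Lpr_af (f426750 IH) (Lpe (f426818 IH) (Lpr_gt (K60.f157609 IH) (Lpn (LP (LK LD1_c20 LD2_c41 LD3_c55))))))
theorem f426776 : Led Lsl_dt (LP (LK LD1_c24 LD2_c12 LD3_c30)) = (LP (LK LD1_c14 LD2_c30 LD3_c60)) :=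
  Lre_d IH (LK LD1_c24 LD2_c12 LD3_c30) (LK LD1_c14 LD2_c30 LD3_c60) Lrfl Lrfl
theorem f425979 : Led Lsl_gt (LP (LK LD1_c11 LD2_c41 LD3_c57)) = (LP (LK LD1_c20 LD2_c41 LD3_c41)) :=
  Lre_g IH (LK LD1_c11 LD2_c41 LD3_c57) (LK LD1_c20 LD2_c41 LD3_c41) Lrfl Lrfl
theorem f716143 : Led Lsl_df (LP (LK LD1_c11 LD2_c41 LD3_c57)) = (LP (LK LD1_c17 LD2_c32 LD3_c23)) :=
  Lgr Lrot153 (Lpr_gt (f425979 IH) (Lpr_dt (K52.f425974 IH) (Lpe (K52.f426763 IH) (Lpe (f426776 IH) (Lpr_gf (f426819 IH) (Lpe (f713346 IH) (Lpr_gf (f716141 IH) (Lpe (f644034 IH) (Lpr_gt (f705410 IH) (Lpn (LP (LK LD1_c17 LD2_c32 LD3_c23))))))))))))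
theorem f853384 : Led Lsl_ft (LP (LK LD1_c11 LD2_c41 LD3_c57)) = (LP (LK LD1_c20 LD2_c41 LD3_c39)) :=
  Lgr Lrot54 (Lpr_df (f716143 IH) (Lpr_ff (f853380 IH) (Lpe (K45.f428143 IH) (Lpn (LP (LK LD1_c20 LD2_c41 LD3_c39))))))
theorem f853390 : Led Lsl_af (LP (LK LD1_c11 LD2_c41 LD3_c58)) = (LP (LK LD1_c20 LD2_c41 LD3_c39)) :=
  Lgr Lrot31 (Lpe (K52.f425978 IH) (Lpe (f425979 IH) (Lpr_ft (f853384 IH) (Lpn (LP (LK LD1_c20 LD2_c41 LD3_c39))))))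
theorem f643639 : Led Lsl_cf (LP (LK LD1_c20 LD2_c41 LD3_c39)) = (LP (LK LD1_c26 LD2_c53 LD3_c33)) :=
  Lgr Lrot11 (Lpr_ct (K60.f643637 IH) (Lpn (LP (LK LD1_c26 LD2_c53 LD3_c33))))
theorem f853392 : Led Lsl_at (LP (LK LD1_c16 LD2_c58 LD3_c38)) = (LP (LK LD1_c26 LD2_c53 LD3_c33)) :=
  Lgr Lrot107 (Lpe (K52.f643686 IH) (Lpr_af (f853390 IH) (Lpr_cf (f643639 IH) (Lpn (LP (LK LD1_c26 LD2_c53 LD3_c33))))))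
theorem f436301 : Led Lsl_gt (LP (LK LD1_c16 LD2_c58 LD3_c40)) = (LP (LK LD1_c26 LD2_c53 LD3_c33)) :=
  Lre_g IH (LK LD1_c16 LD2_c58 LD3_c40) (LK LD1_c26 LD2_c53 LD3_c33) Lrfl Lrfl
theorem f853396 : Led Lsl_ff (LP (LK LD1_c16 LD2_c58 LD3_c38)) = (LP (LK LD1_c26 LD2_c53 LD3_c32)) :=
  Lgr Lrot52 (Lpr_at (f853392 IH) (Lpe (f436301 IH) (Lpe (K41.f436283 IH) (Lpn (LP (LK LD1_c26 LD2_c53 LD3_c32))))))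
theorem f643688 : Led Lsl_cf (LP (LK LD1_c11 LD2_c41 LD3_c58)) = (LP (LK LD1_c16 LD2_c58 LD3_c38)) :=
  Lgr Lrot11 (Lpr_ct (K52.f643686 IH) (Lpn (LP (LK LD1_c16 LD2_c58 LD3_c38))))
theorem f853400 : Led Lsl_ft (LP (LK LD1_c11 LD2_c41 LD3_c58)) = (LP (LK LD1_c17 LD2_c1 LD3_c33)) :=
  Lgr Lrot4 (Lpr_cf (f643688 IH) (Lpr_ff (f853396 IH) (Lpr_cf (K41.f640904 IH) (Lpn (LP (LK LD1_c17 LD2_c1 LD3_c33))))))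
theorem f900550 : Led Lsl_ft (LP (LK LD1_c9 LD2_c8 LD3_c49)) = v38297 :=
  Lgr Lrot75 (Lpe (K41.f631907 IH) (Lpe (f853400 IH) (Lpr_bf (f900548 IH) (Lpn v38297))))
theorem f900551 : Led Lsl_ff (LP (LK LD1_c9 LD2_c8 LD3_c49)) = v38297 :=
  Lgr Lrot3 (Lpr_ft (f900550 IH) (Lpn v38297))
def v38296 : LQ := Led Lsl_gt (LP (LK LD1_c9 LD2_c8 LD3_c17))
theorem f900539 : Led Lsl_gt (LP (LK LD1_c9 LD2_c8 LD3_c17)) = v38296 :=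
  Lrfl
theorem f900553 : Led Lsl_at (LP (LK LD1_c9 LD2_c8 LD3_c49)) = v38296 :=
  Lgr Lrot26 (Lpr_ff (f900551 IH) (Lpe (f900544 IH) (Lpr_gt (f900539 IH) (Lpn v38296))))
theorem f900554 : Led Lsl_af (LP (LK LD1_c9 LD2_c8 LD3_c49)) = v38296 :=
  Lgr Lrot0 (Lpr_at (f900553 IH) (Lpn v38296))
theorem f112361 : Led Lsl_gt (LP (LK LD1_c9 LD2_c8 LD3_c50)) = (LP (LK LD1_c4 LD2_c36 LD3_c20)) :=
  Lre_g IH (LK LD1_c9 LD2_c8 LD3_c50) (LK LD1_c4 LD2_c36 LD3_c20) Lrfl Lrfl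
theorem f900555 : Led Lsl_ft (LP (LK LD1_c9 LD2_c8 LD3_c50)) = v38296 :=
  Lgr Lrot2 (Lpr_gt (f112361 IH) (Lpr_gt (K41.f138487 IH) (Lpr_af (f900554 IH) (Lpn v38296))))
theorem f900557 : Led Lsl_ff (LP (LK LD1_c9 LD2_c8 LD3_c50)) = v38296 :=
  Lgr Lrot3 (Lpr_ft (f900555 IH) (Lpn v38296))
theorem f900558 : Led Lsl_at (LP (LK LD1_c9 LD2_c8 LD3_c50)) = v38297 :=
  Lgr Lrot66 (Lpr_ff (f900557 IH) (Lpe (f900553 IH) (Lpr_ff (f900551 IH) (Lpn v38297))))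
def v12992 : LQ := Led Lsl_ft (LP (LK LD1_c4 LD2_c36 LD3_c20))
theorem f700056 : Led Lsl_ft (LP (LK LD1_c4 LD2_c36 LD3_c20)) = v12992 :=
  Lrfl
theorem f700059 : Led Lsl_ff (LP (LK LD1_c4 LD2_c36 LD3_c20)) = v12992 :=
  Lgr Lrot3 (Lpr_ft (f700056 IH) (Lpn v12992))
theorem f900545 : Led Lsl_gt v12992 = v38297 :=
  Lgr Lrot5 (Lpe (f700059 IH) (Lpr_at (K64.f72009 IH) (Lpr_gf (f900544 IH) (Lpn v38297))))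
theorem f900560 : Led Lsl_gf v12992 = v38296 :=
  Lgr Lrot47 (Lpr_gt (f900545 IH) (Lpe (f900558 IH) (Lpr_ff (f900557 IH) (Lpn v38296))))
theorem f494810 : Led Lsl_dt (LP (LK LD1_c4 LD2_c36 LD3_c20)) = (LP (LK LD1_c2 LD2_c15 LD3_c19)) :=
  Lre_d IH (LK LD1_c4 LD2_c36 LD3_c20) (LK LD1_c2 LD2_c15 LD3_c19) Lrfl Lrfl
def v4206 : LQ := Led Lsl_ft (LP (LK LD1_c2 LD2_c15 LD3_c19))
theorem f631872 : Led Lsl_ft (LP (LK LD1_c2 LD2_c15 LD3_c19)) = v4206 :=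
  Lrfl
theorem f700061 : Led Lsl_dt v4206 = v12992 :=
  Lgr Lrot60 (Lpe (f631872 IH) (Lpe (f494810 IH) (Lpr_ff (f700059 IH) (Lpn v12992))))
theorem f70881 : Led Lsl_at (LP (LK LD1_c1 LD2_c4 LD3_c44)) = (LP (LK LD1_c2 LD2_c15 LD3_c12)) :=
  Lre_a IH (LK LD1_c1 LD2_c4 LD3_c44) (LK LD1_c2 LD2_c15 LD3_c12) Lrfl Lrfl
theorem f70882 : Led Lsl_ff (LP (LK LD1_c1 LD2_c4 LD3_c44)) = (LP (LK LD1_c0 LD2_c38 LD3_c22)) :=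
  Lgr Lrot103 (Lpr_at (f70881 IH) (Lpe (K2.f70860 IH) (Lpe (K2.f70861 IH) (Lpr_cf (K2.f70865 IH) (Lpe (K2.f70864 IH) (Lpe (K2.f70863 IH) (Lpe (K2.f70862 IH) (Lpe (K4.f37944 IH) (Lpe (K2.f22773 IH) (Lpn (LP (LK LD1_c0 LD2_c38 LD3_c22))))))))))))
theorem f631874 : Led Lsl_ef K66.v3007 = v4206 :=
  Lgr Lrot21 (Lpe (K66.f536473 IH) (Lpe (K66.f452813 IH) (Lpe (f70882 IH) (Lpr_et (K56.f420494 IH) (Lpr_ft (f631872 IH) (Lpn v4206))))))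
theorem f510323 : Led Lsl_gf (LP (LK LD1_c6 LD2_c45 LD3_c42)) = (LP (LK LD1_c9 LD2_c31 LD3_c16)) :=
  Lgr Lrot76 (Lpe (K66.f509407 IH) (Lpr_ff (K50.f510313 IH) (Lpr_gt (K66.f77040 IH) (Lpn (LP (LK LD1_c9 LD2_c31 LD3_c16))))))
theorem f72037 : Led Lsl_gt (LP (LK LD1_c9 LD2_c8 LD3_c16)) = (LP (LK LD1_c4 LD2_c36 LD3_c1)) :=
  Lre_g IH (LK LD1_c9 LD2_c8 LD3_c16) (LK LD1_c4 LD2_c36 LD3_c1) Lrfl Lrfl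
theorem f81852 : Led Lsl_et (LP (LK LD1_c1 LD2_c22 LD3_c43)) = (LP (LK LD1_c2 LD2_c53 LD3_c15)) :=
  Lre_e IH (LK LD1_c1 LD2_c22 LD3_c43) (LK LD1_c2 LD2_c53 LD3_c15) Lrfl Lrfl
theorem f140806 : Led Lsl_dt (LP (LK LD1_c1 LD2_c24 LD3_c29)) = (LP (LK LD1_c2 LD2_c57 LD3_c32)) :=
  Lre_d IH (LK LD1_c1 LD2_c24 LD3_c29) (LK LD1_c2 LD2_c57 LD3_c32) Lrfl Lrfl
theorem f140807 : Led Lsl_gt (LP (LK LD1_c2 LD2_c57 LD3_c32)) = (LP (LK LD1_c6 LD2_c2 LD3_c53)) :=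
  Lre_g IH (LK LD1_c2 LD2_c57 LD3_c32) (LK LD1_c6 LD2_c2 LD3_c53) Lrfl Lrfl
theorem f501000 : Led Lsl_dt (LP (LK LD1_c11 LD2_c49 LD3_c44)) = (LP (LK LD1_c6 LD2_c2 LD3_c53)) :=
  Lre_d IH (LK LD1_c11 LD2_c49 LD3_c44) (LK LD1_c6 LD2_c2 LD3_c53) Lrfl Lrfl
theorem f71153 : Led Lsl_et (LP (LK LD1_c2 LD2_c15 LD3_c12)) = (LP (LK LD1_c4 LD2_c36 LD3_c1)) :=
  Lre_e IH (LK LD1_c2 LD2_c15 LD3_c12) (LK LD1_c4 LD2_c36 LD3_c1) Lrfl Lrfl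
theorem f740592 : Led Lsl_et (LP (LK LD1_c11 LD2_c49 LD3_c44)) = (LP (LK LD1_c9 LD2_c8 LD3_c16)) :=
  Lgr Lrot185 (Lpr_dt (f501000 IH) (Lpe (f140807 IH) (Lpe (f140806 IH) (Lpqs (K54.f739227 IH) (Lpe (K54.f640992 IH) (Lpe (f81852 IH) (Lpr_dt (K11.f79352 IH) (Lpe (K6.f81844 IH) (Lpe (K2.f70859 IH) (Lpr_et (f71153 IH) (Lpe (f72037 IH) (Lpn (LP (LK LD1_c9 LD2_c8 LD3_c16))))))))))))))
theorem f501013 : Led Lsl_et (LP (LK LD1_c1 LD2_c24 LD3_c29)) = (LP (LK LD1_c2 LD2_c57 LD3_c33)) :=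
  Lre_e IH (LK LD1_c1 LD2_c24 LD3_c29) (LK LD1_c2 LD2_c57 LD3_c33) Lrfl Lrfl
theorem f501039 : Led Lsl_gt (LP (LK LD1_c6 LD2_c2 LD3_c58)) = (LP (LK LD1_c2 LD2_c57 LD3_c33)) :=
  Lre_g IH (LK LD1_c6 LD2_c2 LD3_c58) (LK LD1_c2 LD2_c57 LD3_c33) Lrfl Lrfl
theorem f645809 : Led Lsl_et (LP (LK LD1_c11 LD2_c49 LD3_c53)) = (LP (LK LD1_c6 LD2_c2 LD3_c58)) :=
  Lre_e IH (LK LD1_c11 LD2_c49 LD3_c53) (LK LD1_c6 LD2_c2 LD3_c58) Lrfl Lrfl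
theorem f900540 : Led Lsl_dt (LP (LK LD1_c11 LD2_c49 LD3_c53)) = v38296 :=
  Lgr Lrot56 (Lpr_et (f645809 IH) (Lpr_gt (f501039 IH) (Lpe (f501013 IH) (Lpr_dt (f140806 IH) (Lpr_gt (f140807 IH) (Lpe (f501000 IH) (Lpr_et (f740592 IH) (Lpr_gt (f72037 IH) (Lpr_dt (f71143 IH) (Lpr_gt (f900539 IH) (Lpn v38296)))))))))))
theorem f900561 : v19672 = (LP (LK LD1_c11 LD2_c49 LD3_c53)) :=
  (Llr Lrot137 (Lpe (f781602 IH) (Lpe (K54.f510165 IH) (Lpr_dt (K66.f510172 IH) (Lpr_gf (f510323 IH) (Lpr_df (K66.f843340 IH) (Lpe (K66.f843339 IH) (Lpe (K66.f669645 IH) (Lpr_ef (f631874 IH) (Lpr_dt (f700061 IH) (Lpr_gf (f900560 IH) (Lpe (f900540 IH) (Lpn (LP (LK LD1_c11 LD2_c49 LD3_c53))))))))))))))).symm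
theorem f900562 : Led Lsl_gt (LP (LK LD1_c6 LD2_c45 LD3_c43)) = (LP (LK LD1_c11 LD2_c49 LD3_c53)) :=
  Leop (Lpq (f900561 IH) (Lpe (f781602 IH) (Lpn (LP (LK LD1_c6 LD2_c45 LD3_c43)))))
theorem seed_2222 : LEOK LG_g (LK LD1_c6 LD2_c45 LD3_c43) :=
  Leoe_g (LK LD1_c6 LD2_c45 LD3_c43) (f900562 IH)
theorem f494811 : Led Lsl_bt (LP (LK LD1_c17 LD2_c1 LD3_c35)) = (LP (LK LD1_c9 LD2_c8 LD3_c50)) :=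
  Lre_b IH (LK LD1_c17 LD2_c1 LD3_c35) (LK LD1_c9 LD2_c8 LD3_c50) Lrfl Lrfl
theorem f853372 : Led Lsl_at (LP (LK LD1_c11 LD2_c41 LD3_c58)) = (LP (LK LD1_c20 LD2_c41 LD3_c39)) :=
  Lgr Lrot51 (Lpe (K52.f644131 IH) (Lpr_af (f853366 IH) (Lpe (K45.f428143 IH) (Lpn (LP (LK LD1_c20 LD2_c41 LD3_c39))))))
def v13883 : LQ := Led Lsl_dt (LP (LK LD1_c4 LD2_c49 LD3_c29))
theorem f705683 : Led Lsl_dt (LP (LK LD1_c4 LD2_c49 LD3_c29)) = v13883 :=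
  Lrfl
theorem f705686 : Led Lsl_ff (LP (LK LD1_c6 LD2_c8 LD3_c56)) = v13883 :=
  Lgr Lrot19 (Lpr_dt (K66.f23077 IH) (Lpr_ft (K66.f639864 IH) (Lpr_dt (f705683 IH) (Lpn v13883))))
theorem f853337 : Led Lsl_gf (LP (LK LD1_c12 LD2_c55 LD3_c26)) = v13883 :=
  Lgr Lrot47 (Lpr_gt (K66.f853335 IH) (Lpr_af (K66.f712211 IH) (Lpr_ff (f705686 IH) (Lpn v13883))))
theorem f415010 : Led Lsl_dt (LP (LK LD1_c6 LD2_c45 LD3_c46)) = (LP (LK LD1_c12 LD2_c55 LD3_c26)) :=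
  Lre_d IH (LK LD1_c6 LD2_c45 LD3_c46) (LK LD1_c12 LD2_c55 LD3_c26) Lrfl Lrfl
theorem f699987 : Led Lsl_et (LP (LK LD1_c4 LD2_c35 LD3_c59)) = K52.v12979 :=
  Lgr Lrot87 (Lpr_ef (K52.f699985 IH) (Lpn K52.v12979))
theorem f853340 : Led Lsl_gt (LP (LK LD1_c12 LD2_c55 LD3_c27)) = (LP (LK LD1_c17 LD2_c0 LD3_c33)) :=
  Lgr Lrot131 (Lpe (K66.f781635 IH) (Lpr_dt (f415010 IH) (Lpr_gf (f853337 IH) (Lpe (f705683 IH) (Lpr_gf (K66.f705681 IH) (Lpq (K66.f712222 IH) (Lpe (f699987 IH) (Lpr_dt (K40.f37857 IH) (Lpe (K35.f37859 IH) (Lpe (K35.f500419 IH) (Lpr_et (K35.f500420 IH) (Lpn (LP (LK LD1_c17 LD2_c0 LD3_c33))))))))))))))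
theorem f853348 : Led Lsl_bf (LP (LK LD1_c12 LD2_c55 LD3_c27)) = (LP (LK LD1_c20 LD2_c41 LD3_c39)) :=
  Lgr Lrot165 (Lpr_gt (f853340 IH) (Lpe (K48.f669561 IH) (Lpr_gt (K48.f436300 IH) (Lpe (K48.f436299 IH) (Lpr_bt (K48.f436295 IH) (Lpe (K24.f436293 IH) (Lpe (K41.f151877 IH) (Lpr_ct (K41.f436282 IH) (Lpr_gt (f436301 IH) (Lpe (K60.f643637 IH) (Lpn (LP (LK LD1_c20 LD2_c41 LD3_c39)))))))))))))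
theorem f900566 : Led Lsl_af (LP (LK LD1_c17 LD2_c1 LD3_c35)) = (LP (LK LD1_c12 LD2_c55 LD3_c27)) :=
  Lgr Lrot36 (Lpr_bt (f494811 IH) (Lpr_at (f900558 IH) (Lpe (f900548 IH) (Lpr_at (f853372 IH) (Lpe (f853348 IH) (Lpn (LP (LK LD1_c12 LD2_c55 LD3_c27))))))))
theorem f900567 : Led Lsl_at (LP (LK LD1_c12 LD2_c55 LD3_c27)) = (LP (LK LD1_c17 LD2_c1 LD3_c35)) :=
  Leop (Lpr_af (f900566 IH) (Lpn (LP (LK LD1_c12 LD2_c55 LD3_c27))))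
theorem seed_2223 : LEOK LG_a (LK LD1_c12 LD2_c55 LD3_c27) :=
  Leoe_a (LK LD1_c12 LD2_c55 LD3_c27) (f900567 IH)
theorem f72013 : Led Lsl_bt (LP (LK LD1_c5 LD2_c55 LD3_c56)) = (LP (LK LD1_c9 LD2_c8 LD3_c17)) :=
  Lgr Lrot127 (Lpr_bf (K64.f71998 IH) (Lpn (LP (LK LD1_c9 LD2_c8 LD3_c17))))
theorem f72015 : Led Lsl_ct (LP (LK LD1_c5 LD2_c55 LD3_c56)) = (LP (LK LD1_c11 LD2_c37 LD3_c2)) :=
  Lre_c IH (LK LD1_c5 LD2_c55 LD3_c56) (LK LD1_c11 LD2_c37 LD3_c2) Lrfl Lrfl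
theorem f72051 : Led Lsl_gt (LP (LK LD1_c11 LD2_c37 LD3_c2)) = (LP (LK LD1_c20 LD2_c35 LD3_c26)) :=
  Lre_g IH (LK LD1_c11 LD2_c37 LD3_c2) (LK LD1_c20 LD2_c35 LD3_c26) Lrfl Lrfl
theorem f599784 : Led Lsl_gt (LP (LK LD1_c26 LD2_c53 LD3_c36)) = (LP (LK LD1_c16 LD2_c58 LD3_c38)) :=
  Lre_g IH (LK LD1_c26 LD2_c53 LD3_c36) (LK LD1_c16 LD2_c58 LD3_c38) Lrfl Lrfl
theorem f900546 : Led Lsl_bt (LP (LK LD1_c11 LD2_c41 LD3_c58)) = v38297 :=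
  Lgr Lrot22 (Lpr_ct (K52.f643686 IH) (Lpe (f599784 IH) (Lpe (K52.f548598 IH) (Lpe (K52.f436309 IH) (Lpe (K64.f621163 IH) (Lpr_ct (K64.f820580 IH) (Lpe (f72051 IH) (Lpe (f72015 IH) (Lpr_bt (f72013 IH) (Lpr_gf (f900544 IH) (Lpn v38297)))))))))))
theorem f500346 : Led Lsl_bt (LP (LK LD1_c11 LD2_c31 LD3_c31)) = (LP (LK LD1_c5 LD2_c52 LD3_c31)) :=
  Lre_b IH (LK LD1_c11 LD2_c31 LD3_c31) (LK LD1_c5 LD2_c52 LD3_c31) Lrfl Lrfl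
theorem f500347 : Led Lsl_ct (LP (LK LD1_c11 LD2_c31 LD3_c31)) = (LP (LK LD1_c20 LD2_c28 LD3_c10)) :=
  Lre_c IH (LK LD1_c11 LD2_c31 LD3_c31) (LK LD1_c20 LD2_c28 LD3_c10) Lrfl Lrfl
theorem f72024 : Led Lsl_ct (LP (LK LD1_c9 LD2_c8 LD3_c17)) = (LP (LK LD1_c17 LD2_c0 LD3_c47)) :=
  Lre_c IH (LK LD1_c9 LD2_c8 LD3_c17) (LK LD1_c17 LD2_c0 LD3_c47) Lrfl Lrfl
theorem f900582 : Led Lsl_gf (LP (LK LD1_c20 LD2_c28 LD3_c10)) = (LP (LK LD1_c17 LD2_c0 LD3_c47)) :=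
  Lgr Lrot129 (Lpe (f500347 IH) (Lpr_bt (f500346 IH) (Lpr_gt (K49.f599780 IH) (Lpe (K52.f548596 IH) (Lpr_ct (K52.f548598 IH) (Lpr_gt (f599784 IH) (Lpe (K52.f643686 IH) (Lpr_bt (f900546 IH) (Lpe (f900544 IH) (Lpr_ct (f72024 IH) (Lpn (LP (LK LD1_c17 LD2_c0 LD3_c47)))))))))))))
theorem f900583 : Led Lsl_gt (LP (LK LD1_c17 LD2_c0 LD3_c47)) = (LP (LK LD1_c20 LD2_c28 LD3_c10)) :=
  Leop (Lpr_gf (f900582 IH) (Lpn (LP (LK LD1_c17 LD2_c0 LD3_c47))))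
theorem seed_2224 : LEOK LG_g (LK LD1_c17 LD2_c0 LD3_c47) :=
  Leoe_g (LK LD1_c17 LD2_c0 LD3_c47) (f900583 IH)
def v38298 : LQ := Led Lsl_ft (LP (LK LD1_c9 LD2_c8 LD3_c17))
theorem f900584 : Led Lsl_ft (LP (LK LD1_c9 LD2_c8 LD3_c17)) = v38298 :=
  Lrfl
theorem f900588 : Led Lsl_ff (LP (LK LD1_c9 LD2_c8 LD3_c17)) = v38298 :=
  Lgr Lrot3 (Lpr_ft (f900584 IH) (Lpn v38298))
theorem f72042 : Led Lsl_at (LP (LK LD1_c9 LD2_c8 LD3_c17)) = (LP (LK LD1_c4 LD2_c36 LD3_c20)) :=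
  Lre_a IH (LK LD1_c9 LD2_c8 LD3_c17) (LK LD1_c4 LD2_c36 LD3_c20) Lrfl Lrfl
theorem f900592 : Led Lsl_gf (LP (LK LD1_c9 LD2_c8 LD3_c50)) = v38298 :=
  Lgr Lrot47 (Lpr_gt (f112361 IH) (Lpe (f72042 IH) (Lpr_ff (f900588 IH) (Lpn v38298))))
theorem f72021 : Led Lsl_ft (LP (LK LD1_c5 LD2_c55 LD3_c56)) = (LP (LK LD1_c11 LD2_c37 LD3_c3)) :=
  Lre_f IH (LK LD1_c5 LD2_c55 LD3_c56) (LK LD1_c11 LD2_c37 LD3_c3) Lrfl Lrfl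
theorem f900590 : Led Lsl_bt (LP (LK LD1_c11 LD2_c37 LD3_c3)) = v38298 :=
  Lgr Lrot35 (Lpe (f72021 IH) (Lpr_bf (K64.f71998 IH) (Lpr_ff (f900588 IH) (Lpn v38298))))
theorem f616403 : Led Lsl_ct (LP (LK LD1_c11 LD2_c37 LD3_c3)) = (LP (LK LD1_c20 LD2_c35 LD3_c30)) :=
  Lre_c IH (LK LD1_c11 LD2_c37 LD3_c3) (LK LD1_c20 LD2_c35 LD3_c30) Lrfl Lrfl
theorem f160912 : Led Lsl_bt (LP (LK LD1_c8 LD2_c0 LD3_c17)) = (LP (LK LD1_c15 LD2_c4 LD3_c48)) :=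
  Lre_b IH (LK LD1_c8 LD2_c0 LD3_c17) (LK LD1_c15 LD2_c4 LD3_c48) Lrfl Lrfl
theorem f641815 : Led Lsl_ct (LP (LK LD1_c8 LD2_c0 LD3_c17)) = (LP (LK LD1_c15 LD2_c4 LD3_c57)) :=
  Lre_c IH (LK LD1_c8 LD2_c0 LD3_c17) (LK LD1_c15 LD2_c4 LD3_c57) Lrfl Lrfl
theorem f618350 : Led Lsl_gt (LP (LK LD1_c24 LD2_c53 LD3_c29)) = (LP (LK LD1_c15 LD2_c4 LD3_c57)) :=
  Lre_g IH (LK LD1_c24 LD2_c53 LD3_c29) (LK LD1_c15 LD2_c4 LD3_c57) Lrfl Lrfl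
theorem f900594 : Led Lsl_ct (LP (LK LD1_c17 LD2_c1 LD3_c35)) = (LP (LK LD1_c24 LD2_c53 LD3_c29)) :=
  Lgr Lrot64 (Lpr_bt (f494811 IH) (Lpr_gf (f900592 IH) (Lpe (f900590 IH) (Lpr_ct (f616403 IH) (Lpe (K57.f616425 IH) (Lpe (K57.f669698 IH) (Lpr_gf (K57.f755836 IH) (Lpe (f160912 IH) (Lpr_ct (f641815 IH) (Lpe (f618350 IH) (Lpn (LP (LK LD1_c24 LD2_c53 LD3_c29)))))))))))))
theorem f900595 : Led Lsl_ct (LP (LK LD1_c17 LD2_c1 LD3_c35)) = (LP (LK LD1_c24 LD2_c53 LD3_c29)) :=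
  Leop (Lpe (f900594 IH) (Lpn (LP (LK LD1_c17 LD2_c1 LD3_c35))))
theorem seed_2225 : LEOK LG_c (LK LD1_c17 LD2_c1 LD3_c35) :=
  Leoe_c (LK LD1_c17 LD2_c1 LD3_c35) (f900595 IH)
theorem f642977 : Led Lsl_bt (LP (LK LD1_c17 LD2_c8 LD3_c33)) = (LP (LK LD1_c11 LD2_c41 LD3_c57)) :=
  Lgr Lrot127 (Lpr_bf (K55.f642967 IH) (Lpn (LP (LK LD1_c11 LD2_c41 LD3_c57))))
theorem f853386 : Led Lsl_ff (LP (LK LD1_c17 LD2_c8 LD3_c33)) = (LP (LK LD1_c12 LD2_c55 LD3_c27)) :=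
  Lgr Lrot25 (Lpr_bt (f642977 IH) (Lpr_ft (f853384 IH) (Lpe (f853348 IH) (Lpn (LP (LK LD1_c12 LD2_c55 LD3_c27))))))
theorem f853416 : Led Lsl_ft (LP (LK LD1_c17 LD2_c8 LD3_c33)) = (LP (LK LD1_c12 LD2_c55 LD3_c27)) :=
  Lgr Lrot48 (Lpr_ff (f853386 IH) (Lpn (LP (LK LD1_c12 LD2_c55 LD3_c27))))
theorem f900574 : Led Lsl_gf (LP (LK LD1_c17 LD2_c1 LD3_c35)) = (LP (LK LD1_c26 LD2_c55 LD3_c37)) :=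
  Lgr Lrot76 (Lpr_af (f900566 IH) (Lpe (f853416 IH) (Lpr_gt (K55.f540060 IH) (Lpn (LP (LK LD1_c26 LD2_c55 LD3_c37))))))
theorem f428374 : Led Lsl_ct (LP (LK LD1_c15 LD2_c4 LD3_c57)) = (LP (LK LD1_c8 LD2_c0 LD3_c17)) :=
  Lre_c IH (LK LD1_c15 LD2_c4 LD3_c57) (LK LD1_c8 LD2_c0 LD3_c17) Lrfl Lrfl
def v35652 : LQ := Led Lsl_gf (LP (LK LD1_c8 LD2_c0 LD3_c16))
theorem f876307 : Led Lsl_gf (LP (LK LD1_c8 LD2_c0 LD3_c16)) = v35652 :=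
  Lrfl
theorem f72031 : Led Lsl_ct (LP (LK LD1_c5 LD2_c55 LD3_c53)) = (LP (LK LD1_c2 LD2_c54 LD3_c18)) :=
  Lre_c IH (LK LD1_c5 LD2_c55 LD3_c53) (LK LD1_c2 LD2_c54 LD3_c18) Lrfl Lrfl
theorem f747378 : Led Lsl_ct (LP (LK LD1_c5 LD2_c55 LD3_c57)) = K57.v16258 :=
  Lgr Lrot40 (Lpe (K51.f71849 IH) (Lpe (f72031 IH) (Lpr_ff (K57.f747376 IH) (Lpn K57.v16258))))
def v12983 : LQ := Led Lsl_ft (LP (LK LD1_c4 LD2_c36 LD3_c1))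
theorem f700012 : Led Lsl_ft (LP (LK LD1_c4 LD2_c36 LD3_c1)) = v12983 :=
  Lrfl
theorem f700016 : Led Lsl_ff (LP (LK LD1_c4 LD2_c36 LD3_c1)) = v12983 :=
  Lgr Lrot3 (Lpr_ft (f700012 IH) (Lpn v12983))
theorem f71331 : Led Lsl_at (LP (LK LD1_c2 LD2_c15 LD3_c19)) = (LP (LK LD1_c4 LD2_c36 LD3_c1)) :=
  Lre_a IH (LK LD1_c2 LD2_c15 LD3_c19) (LK LD1_c4 LD2_c36 LD3_c1) Lrfl Lrfl
theorem f71333 : Led Lsl_at (LP (LK LD1_c2 LD2_c54 LD3_c18)) = (LP (LK LD1_c1 LD2_c23 LD3_c17)) :=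
  Lre_a IH (LK LD1_c2 LD2_c54 LD3_c18) (LK LD1_c1 LD2_c23 LD3_c17) Lrfl Lrfl
theorem f71334 : Led Lsl_bt (LP (LK LD1_c4 LD2_c36 LD3_c1)) = (LP (LK LD1_c2 LD2_c54 LD3_c18)) :=
  Lgr Lrot62 (Lpe (f71331 IH) (Lpe (K42.f71330 IH) (Lpr_af (K2.f71326 IH) (Lpe (K4.f71332 IH) (Lpe (f71333 IH) (Lpn (LP (LK LD1_c2 LD2_c54 LD3_c18))))))))
theorem f700019 : Led Lsl_bt (LP (LK LD1_c5 LD2_c55 LD3_c57)) = v12983 :=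
  Lgr Lrot35 (Lpe (K51.f71849 IH) (Lpe (f71334 IH) (Lpr_ff (f700016 IH) (Lpn v12983))))
theorem f72030 : Led Lsl_at (LP (LK LD1_c4 LD2_c36 LD3_c1)) = (LP (LK LD1_c2 LD2_c15 LD3_c19)) :=
  Lre_a IH (LK LD1_c4 LD2_c36 LD3_c1) (LK LD1_c2 LD2_c15 LD3_c19) Lrfl Lrfl
theorem f438669 : Led Lsl_gt (LP (LK LD1_c4 LD2_c36 LD3_c19)) = (LP (LK LD1_c2 LD2_c15 LD3_c19)) :=
  Lre_g IH (LK LD1_c4 LD2_c36 LD3_c19) (LK LD1_c2 LD2_c15 LD3_c19) Lrfl Lrfl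
theorem f700021 : Led Lsl_gf (LP (LK LD1_c4 LD2_c36 LD3_c19)) = v12983 :=
  Lgr Lrot47 (Lpr_gt (f438669 IH) (Lpe (f72030 IH) (Lpr_ff (f700016 IH) (Lpn v12983))))
theorem f438670 : Led Lsl_bt (LP (LK LD1_c9 LD2_c8 LD3_c47)) = (LP (LK LD1_c4 LD2_c36 LD3_c19)) :=
  Lre_b IH (LK LD1_c9 LD2_c8 LD3_c47) (LK LD1_c4 LD2_c36 LD3_c19) Lrfl Lrfl
theorem f876309 : Led Lsl_ct (LP (LK LD1_c9 LD2_c8 LD3_c47)) = v35652 :=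
  Lgr Lrot64 (Lpr_bt (f438670 IH) (Lpr_gf (f700021 IH) (Lpe (f700019 IH) (Lpr_ct (f747378 IH) (Lpe (K57.f747382 IH) (Lpe (K57.f82959 IH) (Lpr_gf (K57.f755834 IH) (Lpe (K52.f112504 IH) (Lpr_ct (K52.f112511 IH) (Lpr_gf (f876307 IH) (Lpn v35652)))))))))))
theorem f700053 : Led Lsl_gt (LP (LK LD1_c17 LD2_c1 LD3_c30)) = (LP (LK LD1_c9 LD2_c8 LD3_c47)) :=
  Lre_g IH (LK LD1_c17 LD2_c1 LD3_c30) (LK LD1_c9 LD2_c8 LD3_c47) Lrfl Lrfl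
theorem f900602 : Led Lsl_dt (LP (LK LD1_c26 LD2_c55 LD3_c37)) = (LP (LK LD1_c17 LD2_c1 LD3_c30)) :=
  Lgr Lrot6 (Lpe (f900574 IH) (Lpr_ct (f900594 IH) (Lpr_gt (f618350 IH) (Lpr_ct (f428374 IH) (Lpe (K57.f112527 IH) (Lpe (K53.f112505 IH) (Lpr_gf (f876307 IH) (Lpe (f876309 IH) (Lpe (f700053 IH) (Lpn (LP (LK LD1_c17 LD2_c1 LD3_c30))))))))))))
theorem f900603 : Led Lsl_dt (LP (LK LD1_c26 LD2_c55 LD3_c37)) = (LP (LK LD1_c17 LD2_c1 LD3_c30)) :=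
  Leop (Lpe (f900602 IH) (Lpn (LP (LK LD1_c26 LD2_c55 LD3_c37))))
theorem seed_2226 : LEOK LG_d (LK LD1_c26 LD2_c55 LD3_c37) :=
  Leoe_d (LK LD1_c26 LD2_c55 LD3_c37) (f900603 IH)
def v38292 : LQ := Led Lsl_at (LP (LK LD1_c9 LD2_c8 LD3_c16))
theorem f900520 : Led Lsl_at (LP (LK LD1_c9 LD2_c8 LD3_c16)) = v38292 :=
  Lrfl
theorem f900604 : Led Lsl_df (LP (LK LD1_c26 LD2_c55 LD3_c37)) = (LP (LK LD1_c17 LD2_c1 LD3_c30)) :=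
  Lgr Lrot155 (Lpe (f900574 IH) (Lpr_ct (f900594 IH) (Lpr_gt (f618350 IH) (Lpr_ct (f428374 IH) (Lpr_dt (K58.f428371 IH) (Lpe (K53.f112505 IH) (Lpr_gf (f876307 IH) (Lpe (f876309 IH) (Lpe (f700053 IH) (Lpn (LP (LK LD1_c17 LD2_c1 LD3_c30))))))))))))
theorem f538238 : Led Lsl_ft (LP (LK LD1_c26 LD2_c55 LD3_c37)) = (LP (LK LD1_c17 LD2_c0 LD3_c33)) :=
  Lre_f IH (LK LD1_c26 LD2_c55 LD3_c37) (LK LD1_c17 LD2_c0 LD3_c33) Lrfl Lrfl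
theorem f900656 : Led Lsl_ft (LP (LK LD1_c9 LD2_c9 LD3_c31)) = (LP (LK LD1_c17 LD2_c1 LD3_c30)) :=
  Lgr Lrot54 (Lpr_df (K36.f538217 IH) (Lpe (f538238 IH) (Lpr_df (f900604 IH) (Lpn (LP (LK LD1_c17 LD2_c1 LD3_c30))))))
theorem f746602 : Led Lsl_cf (LP (LK LD1_c9 LD2_c9 LD3_c31)) = K55.v16116 :=
  Lgr Lrot11 (Lpr_ct (K55.f746600 IH) (Lpn K55.v16116))
theorem f746608 : Led Lsl_ft (LP (LK LD1_c11 LD2_c24 LD3_c57)) = (LP (LK LD1_c11 LD2_c31 LD3_c50)) :=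
  Lgr Lrot48 (Lpr_ff (K55.f746606 IH) (Lpn (LP (LK LD1_c11 LD2_c31 LD3_c50))))
theorem f140749 : Led Lsl_gt (LP (LK LD1_c12 LD2_c29 LD3_c54)) = (LP (LK LD1_c6 LD2_c30 LD3_c10)) :=
  Lre_g IH (LK LD1_c12 LD2_c29 LD3_c54) (LK LD1_c6 LD2_c30 LD3_c10) Lrfl Lrfl
theorem f505694 : Led Lsl_gt (LP (LK LD1_c11 LD2_c31 LD3_c48)) = (LP (LK LD1_c12 LD2_c29 LD3_c54)) :=
  Lgr Lrot5 (Lpr_ft (K55.f505688 IH) (Lpr_at (K55.f505687 IH) (Lpe (f140749 IH) (Lpn (LP (LK LD1_c12 LD2_c29 LD3_c54))))))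
theorem f746610 : Led Lsl_af (LP (LK LD1_c12 LD2_c29 LD3_c54)) = (LP (LK LD1_c11 LD2_c31 LD3_c50)) :=
  Lgr Lrot31 (Lpe (f505694 IH) (Lpr_gf (K55.f744997 IH) (Lpr_ft (f746608 IH) (Lpn (LP (LK LD1_c11 LD2_c31 LD3_c50))))))
theorem f540070 : Led Lsl_at (LP (LK LD1_c11 LD2_c29 LD3_c9)) = (LP (LK LD1_c9 LD2_c9 LD3_c31)) :=
  Lgr Lrot100 (Lpr_af (K36.f540068 IH) (Lpn (LP (LK LD1_c9 LD2_c9 LD3_c31))))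
theorem f622168 : Led Lsl_ct (LP (LK LD1_c11 LD2_c24 LD3_c57)) = (LP (LK LD1_c11 LD2_c29 LD3_c9)) :=
  Lgr Lrot59 (Lpr_cf (K55.f540239 IH) (Lpn (LP (LK LD1_c11 LD2_c29 LD3_c9))))
theorem f746601 : Led Lsl_af (LP (LK LD1_c11 LD2_c24 LD3_c57)) = K55.v16116 :=
  Lgr Lrot68 (Lpr_ct (f622168 IH) (Lpr_at (f540070 IH) (Lpr_ct (K55.f746600 IH) (Lpn K55.v16116))))
theorem f746614 : Led Lsl_ft (LP (LK LD1_c12 LD2_c29 LD3_c54)) = K55.v16116 :=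
  Lgr Lrot101 (Lpr_af (f746610 IH) (Lpe (f746608 IH) (Lpr_af (f746601 IH) (Lpn K55.v16116))))
theorem f900660 : Led Lsl_cf (LP (LK LD1_c12 LD2_c29 LD3_c54)) = (LP (LK LD1_c17 LD2_c1 LD3_c30)) :=
  Lgr Lrot108 (Lpr_ft (f746614 IH) (Lpe (f746602 IH) (Lpr_ft (f900656 IH) (Lpn (LP (LK LD1_c17 LD2_c1 LD3_c30))))))
theorem f900680 : Led Lsl_gt (LP (LK LD1_c11 LD2_c41 LD3_c52)) = (LP (LK LD1_c17 LD2_c1 LD3_c30)) :=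
  Lgr Lrot82 (Lpe (K53.f642990 IH) (Lpe (K52.f642964 IH) (Lpe (K52.f25383 IH) (Lpe (K8.f25251 IH) (Lpr_bt (K45.f25215 IH) (Lpr_gf (K24.f140743 IH) (Lpe (K41.f140747 IH) (Lpr_ct (K55.f82966 IH) (Lpe (f140749 IH) (Lpr_cf (f900660 IH) (Lpn (LP (LK LD1_c17 LD2_c1 LD3_c30)))))))))))))
theorem f700049 : Led Lsl_at (LP (LK LD1_c17 LD2_c1 LD3_c31)) = (LP (LK LD1_c9 LD2_c8 LD3_c47)) :=
  Lre_a IH (LK LD1_c17 LD2_c1 LD3_c31) (LK LD1_c9 LD2_c8 LD3_c47) Lrfl Lrfl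
theorem f900682 : Led Lsl_ft (LP (LK LD1_c11 LD2_c41 LD3_c52)) = (LP (LK LD1_c17 LD2_c1 LD3_c31)) :=
  Lgr Lrot2 (Lpr_gt (f900680 IH) (Lpr_gt (f700053 IH) (Lpe (f700049 IH) (Lpn (LP (LK LD1_c17 LD2_c1 LD3_c31))))))
theorem f900685 : Led Lsl_ff (LP (LK LD1_c11 LD2_c41 LD3_c52)) = (LP (LK LD1_c17 LD2_c1 LD3_c31)) :=
  Lgr Lrot3 (Lpr_ft (f900682 IH) (Lpn (LP (LK LD1_c17 LD2_c1 LD3_c31))))
def v16379 : LQ := Led Lsl_ft (LP (LK LD1_c5 LD2_c58 LD3_c42))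
theorem f749027 : Led Lsl_ft (LP (LK LD1_c5 LD2_c58 LD3_c42)) = v16379 :=
  Lrfl
theorem f900687 : Led Lsl_bt v16379 = (LP (LK LD1_c17 LD2_c1 LD3_c31)) :=
  Lgr Lrot35 (Lpe (f749027 IH) (Lpe (K52.f426809 IH) (Lpr_ff (f900685 IH) (Lpn (LP (LK LD1_c17 LD2_c1 LD3_c31))))))
theorem f749029 : Led Lsl_ff (LP (LK LD1_c5 LD2_c58 LD3_c42)) = v16379 :=
  Lgr Lrot3 (Lpr_ft (f749027 IH) (Lpn v16379))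
def v16378 : LQ := Led Lsl_at (LP (LK LD1_c5 LD2_c58 LD3_c42))
theorem f749023 : Led Lsl_at (LP (LK LD1_c5 LD2_c58 LD3_c42)) = v16378 :=
  Lrfl
theorem f749024 : Led Lsl_af (LP (LK LD1_c5 LD2_c58 LD3_c42)) = v16378 :=
  Lgr Lrot0 (Lpr_at (f749023 IH) (Lpn v16378))
theorem f594953 : Led Lsl_gt (LP (LK LD1_c5 LD2_c58 LD3_c43)) = (LP (LK LD1_c2 LD2_c55 LD3_c47)) :=
  Lre_g IH (LK LD1_c5 LD2_c58 LD3_c43) (LK LD1_c2 LD2_c55 LD3_c47) Lrfl Lrfl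
theorem f749025 : Led Lsl_ft (LP (LK LD1_c5 LD2_c58 LD3_c43)) = v16378 :=
  Lgr Lrot2 (Lpr_gt (f594953 IH) (Lpr_gt (K52.f428853 IH) (Lpr_af (f749024 IH) (Lpn v16378))))
theorem f749026 : Led Lsl_ff (LP (LK LD1_c5 LD2_c58 LD3_c43)) = v16378 :=
  Lgr Lrot3 (Lpr_ft (f749025 IH) (Lpn v16378))
theorem f749030 : Led Lsl_at (LP (LK LD1_c5 LD2_c58 LD3_c43)) = v16379 :=
  Lgr Lrot66 (Lpr_ff (f749026 IH) (Lpe (f749023 IH) (Lpr_ff (f749029 IH) (Lpn v16379))))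
theorem f436234 : Led Lsl_gt (LP (LK LD1_c16 LD2_c58 LD3_c1)) = (LP (LK LD1_c9 LD2_c6 LD3_c24)) :=
  Lre_g IH (LK LD1_c16 LD2_c58 LD3_c1) (LK LD1_c9 LD2_c6 LD3_c24) Lrfl Lrfl
theorem f72018 : Led Lsl_dt (LP (LK LD1_c5 LD2_c55 LD3_c56)) = (LP (LK LD1_c2 LD2_c54 LD3_c18)) :=
  Lre_d IH (LK LD1_c5 LD2_c55 LD3_c56) (LK LD1_c2 LD2_c54 LD3_c18) Lrfl Lrfl
theorem f72019 : Led Lsl_bt (LP (LK LD1_c2 LD2_c54 LD3_c18)) = (LP (LK LD1_c4 LD2_c36 LD3_c1)) :=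
  Lgr Lrot95 (Lpe (f72018 IH) (Lpr_bf (K64.f71998 IH) (Lpe (f71143 IH) (Lpn (LP (LK LD1_c4 LD2_c36 LD3_c1))))))
theorem f643703 : Led Lsl_bt (LP (LK LD1_c5 LD2_c58 LD3_c43)) = (LP (LK LD1_c9 LD2_c8 LD3_c16)) :=
  Lgr Lrot22 (Lpr_ct (K52.f643691 IH) (Lpe (f436234 IH) (Lpe (K52.f151958 IH) (Lpe (K52.f146514 IH) (Lpe (K57.f25234 IH) (Lpr_ct (K57.f616373 IH) (Lpe (K55.f72036 IH) (Lpe (K55.f72035 IH) (Lpr_bt (f72019 IH) (Lpe (f72037 IH) (Lpn (LP (LK LD1_c9 LD2_c8 LD3_c16)))))))))))))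
theorem f643717 : Led Lsl_bf (LP (LK LD1_c5 LD2_c58 LD3_c43)) = (LP (LK LD1_c9 LD2_c8 LD3_c16)) :=
  Lgr Lrot24 (Lpr_bt (f643703 IH) (Lpn (LP (LK LD1_c9 LD2_c8 LD3_c16))))
theorem f900521 : Led Lsl_af (LP (LK LD1_c9 LD2_c8 LD3_c16)) = v38292 :=
  Lgr Lrot0 (Lpr_at (f900520 IH) (Lpn v38292))
theorem f900688 : v38292 = (LP (LK LD1_c4 LD2_c36 LD3_c19)) :=
  (Llr Lrot36 (Lpe (f900521 IH) (Lpe (f643717 IH) (Lpr_at (f749030 IH) (Lpr_bt (f900687 IH) (Lpr_at (f700049 IH) (Lpr_bt (f438670 IH) (Lpn (LP (LK LD1_c4 LD2_c36 LD3_c19)))))))))).symm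
theorem f900690 : Led Lsl_at (LP (LK LD1_c9 LD2_c8 LD3_c16)) = (LP (LK LD1_c4 LD2_c36 LD3_c19)) :=
  Leop (Lpq (f900688 IH) (Lpe (f900520 IH) (Lpn (LP (LK LD1_c9 LD2_c8 LD3_c16)))))
theorem seed_2227 : LEOK LG_a (LK LD1_c9 LD2_c8 LD3_c16) :=
  Leoe_a (LK LD1_c9 LD2_c8 LD3_c16) (f900690 IH)
def v16485 : LQ := Led Lsl_gt (LP (LK LD1_c6 LD2_c1 LD3_c44))
theorem f749727 : Led Lsl_gt (LP (LK LD1_c6 LD2_c1 LD3_c44)) = v16485 :=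
  Lrfl
theorem f204712 : Led Lsl_at (LP (LK LD1_c11 LD2_c48 LD3_c8)) = (LP (LK LD1_c6 LD2_c1 LD3_c60)) :=
  Lre_a IH (LK LD1_c11 LD2_c48 LD3_c8) (LK LD1_c6 LD2_c1 LD3_c60) Lrfl Lrfl
theorem f204713 : Led Lsl_at (LP (LK LD1_c3 LD2_c5 LD3_c25)) = (LP (LK LD1_c6 LD2_c16 LD3_c19)) :=
  Lre_a IH (LK LD1_c3 LD2_c5 LD3_c25) (LK LD1_c6 LD2_c16 LD3_c19) Lrfl Lrfl
theorem f204714 : Led Lsl_ef (LP (LK LD1_c11 LD2_c48 LD3_c8)) = (LP (LK LD1_c6 LD2_c16 LD3_c19)) :=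
  Lgr Lrot20 (Lpr_at (f204712 IH) (Lpr_et (K56.f204709 IH) (Lpr_at (f204713 IH) (Lpn (LP (LK LD1_c6 LD2_c16 LD3_c19))))))
theorem f204746 : Led Lsl_et (LP (LK LD1_c11 LD2_c48 LD3_c8)) = (LP (LK LD1_c6 LD2_c16 LD3_c19)) :=
  Lgr Lrot87 (Lpr_ef (f204714 IH) (Lpn (LP (LK LD1_c6 LD2_c16 LD3_c19))))
theorem f204754 : Led Lsl_ef (LP (LK LD1_c6 LD2_c1 LD3_c44)) = (LP (LK LD1_c3 LD2_c5 LD3_c14)) :=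
  Lgr Lrot28 (Lpr_ct (K56.f204753 IH) (Lpr_et (f204746 IH) (Lpr_ct (K40.f202266 IH) (Lpn (LP (LK LD1_c3 LD2_c5 LD3_c14))))))
theorem f396323 : Led Lsl_et (LP (LK LD1_c9 LD2_c2 LD3_c48)) = (LP (LK LD1_c4 LD2_c32 LD3_c41)) :=
  Lre_e IH (LK LD1_c9 LD2_c2 LD3_c48) (LK LD1_c4 LD2_c32 LD3_c41) Lrfl Lrfl
theorem f281261 : Led Lsl_dt (LP (LK LD1_c9 LD2_c2 LD3_c48)) = (LP (LK LD1_c4 LD2_c32 LD3_c38)) :=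
  Lre_d IH (LK LD1_c9 LD2_c2 LD3_c48) (LK LD1_c4 LD2_c32 LD3_c38) Lrfl Lrfl
theorem f563630 : Led Lsl_dt (LP (LK LD1_c16 LD2_c53 LD3_c23)) = (LP (LK LD1_c9 LD2_c2 LD3_c47)) :=
  Lre_d IH (LK LD1_c16 LD2_c53 LD3_c23) (LK LD1_c9 LD2_c2 LD3_c47) Lrfl Lrfl
theorem f749728 : Led Lsl_et (LP (LK LD1_c16 LD2_c53 LD3_c23)) = v16485 :=
  Lgr Lrot122 (Lpr_dt (f563630 IH) (Lpr_gt (f281266 IH) (Lpe (f281261 IH) (Lpr_et (f396323 IH) (Lpr_gt (K42.f563628 IH) (Lpr_dt (K40.f204762 IH) (Lpr_gt (K35.f202231 IH) (Lpe (K16.f202219 IH) (Lpe (f204754 IH) (Lpr_gt (f749727 IH) (Lpn v16485)))))))))))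
theorem f426013 : Led Lsl_gt (LP (LK LD1_c11 LD2_c41 LD3_c39)) = (LP (LK LD1_c5 LD2_c58 LD3_c37)) :=
  Lre_g IH (LK LD1_c11 LD2_c41 LD3_c39) (LK LD1_c5 LD2_c58 LD3_c37) Lrfl Lrfl
theorem f76012 : Led Lsl_dt (LP (LK LD1_c5 LD2_c59 LD3_c27)) = (LP (LK LD1_c11 LD2_c43 LD3_c32)) :=
  Lre_d IH (LK LD1_c5 LD2_c59 LD3_c27) (LK LD1_c11 LD2_c43 LD3_c32) Lrfl Lrfl
theorem f707168 : Led Lsl_gt (LP (LK LD1_c11 LD2_c43 LD3_c32)) = (LP (LK LD1_c20 LD2_c44 LD3_c40)) :=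
  Lre_g IH (LK LD1_c11 LD2_c43 LD3_c32) (LK LD1_c20 LD2_c44 LD3_c40) Lrfl Lrfl
theorem f564030 : Led Lsl_bt (LP (LK LD1_c6 LD2_c1 LD3_c19)) = (LP (LK LD1_c2 LD2_c56 LD3_c52)) :=
  Lre_b IH (LK LD1_c6 LD2_c1 LD3_c19) (LK LD1_c2 LD2_c56 LD3_c52) Lrfl Lrfl
theorem f707167 : Led Lsl_bt (LP (LK LD1_c5 LD2_c59 LD3_c29)) = (LP (LK LD1_c11 LD2_c43 LD3_c32)) :=
  Lre_b IH (LK LD1_c5 LD2_c59 LD3_c29) (LK LD1_c11 LD2_c43 LD3_c32) Lrfl Lrfl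
theorem f720307 : Led Lsl_ff (LP (LK LD1_c6 LD2_c1 LD3_c19)) = (LP (LK LD1_c11 LD2_c43 LD3_c32)) :=
  Lgr Lrot25 (Lpr_bt (f564030 IH) (Lpr_ft (K41.f641648 IH) (Lpqs (K56.f719912 IH) (Lpr_bt (f707167 IH) (Lpn (LP (LK LD1_c11 LD2_c43 LD3_c32)))))))
theorem f645120 : Led Lsl_at (LP (LK LD1_c6 LD2_c1 LD3_c19)) = (LP (LK LD1_c11 LD2_c47 LD3_c8)) :=
  Lre_a IH (LK LD1_c6 LD2_c1 LD3_c19) (LK LD1_c11 LD2_c47 LD3_c8) Lrfl Lrfl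
theorem f720357 : Led Lsl_gf (LP (LK LD1_c11 LD2_c47 LD3_c8)) = (LP (LK LD1_c20 LD2_c44 LD3_c40)) :=
  Lgr Lrot76 (Lpe (f645120 IH) (Lpr_ff (f720307 IH) (Lpr_gt (f707168 IH) (Lpn (LP (LK LD1_c20 LD2_c44 LD3_c40))))))
theorem f714041 : Led Lsl_dt (LP (LK LD1_c11 LD2_c47 LD3_c8)) = (LP (LK LD1_c6 LD2_c1 LD3_c17)) :=
  Lre_d IH (LK LD1_c11 LD2_c47 LD3_c8) (LK LD1_c6 LD2_c1 LD3_c17) Lrfl Lrfl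
theorem f713864 : Led Lsl_at (LP (LK LD1_c11 LD2_c47 LD3_c12)) = (LP (LK LD1_c20 LD2_c49 LD3_c13)) :=
  Lre_a IH (LK LD1_c11 LD2_c47 LD3_c12) (LK LD1_c20 LD2_c49 LD3_c13) Lrfl Lrfl
theorem f711487 : Led Lsl_dt (LP (LK LD1_c16 LD2_c58 LD3_c29)) = (LP (LK LD1_c26 LD2_c54 LD3_c8)) :=
  Lre_d IH (LK LD1_c16 LD2_c58 LD3_c29) (LK LD1_c26 LD2_c54 LD3_c8) Lrfl Lrfl
theorem f714674 : Led Lsl_gt (LP (LK LD1_c20 LD2_c44 LD3_c38)) = (LP (LK LD1_c26 LD2_c54 LD3_c8)) :=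
  Lgr Lrot139 (Lpe (K53.f714668 IH) (Lpr_gf (K53.f713881 IH) (Lpe (K6.f109932 IH) (Lpr_dt (K40.f109917 IH) (Lpe (K6.f94630 IH) (Lpe (K36.f151605 IH) (Lpr_et (K36.f151607 IH) (Lpe (K52.f711476 IH) (Lpe (K57.f711486 IH) (Lpr_dt (f711487 IH) (Lpn (LP (LK LD1_c26 LD2_c54 LD3_c8)))))))))))))
theorem f719892 : Led Lsl_gf (LP (LK LD1_c20 LD2_c49 LD3_c13)) = (LP (LK LD1_c26 LD2_c54 LD3_c8)) :=
  Lgr Lrot76 (Lpe (f713864 IH) (Lpr_ff (K53.f719887 IH) (Lpr_gt (f714674 IH) (Lpn (LP (LK LD1_c26 LD2_c54 LD3_c8))))))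
theorem f644570 : Led Lsl_bt (LP (LK LD1_c16 LD2_c55 LD3_c45)) = (LP (LK LD1_c11 LD2_c20 LD3_c2)) :=
  Lgr Lrot95 (Lpe (K45.f140547 IH) (Lpr_bf (K46.f644473 IH) (Lpe (K41.f616268 IH) (Lpn (LP (LK LD1_c11 LD2_c20 LD3_c2))))))
theorem f75872 : Led Lsl_bt (LP (LK LD1_c11 LD2_c20 LD3_c11)) = (LP (LK LD1_c5 LD2_c44 LD3_c58)) :=
  Lre_b IH (LK LD1_c11 LD2_c20 LD3_c11) (LK LD1_c5 LD2_c44 LD3_c58) Lrfl Lrfl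
theorem f719771 : Led Lsl_gt (LP (LK LD1_c14 LD2_c31 LD3_c1)) = (LP (LK LD1_c16 LD2_c58 LD3_c29)) :=
  Lgr Lrot65 (Lpe (K55.f715378 IH) (Lpr_bt (f75872 IH) (Lpr_gf (K54.f616286 IH) (Lpe (f644570 IH) (Lpr_ct (K45.f140535 IH) (Lpe (K57.f644821 IH) (Lpr_cf (K54.f644843 IH) (Lpr_gf (K57.f719767 IH) (Lpe (K55.f711524 IH) (Lpr_ct (K60.f711515 IH) (Lpn (LP (LK LD1_c16 LD2_c58 LD3_c29)))))))))))))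
theorem f715385 : Led Lsl_gt (LP (LK LD1_c11 LD2_c20 LD3_c11)) = (LP (LK LD1_c20 LD2_c17 LD3_c23)) :=
  Lre_g IH (LK LD1_c11 LD2_c20 LD3_c11) (LK LD1_c20 LD2_c17 LD3_c23) Lrfl Lrfl
theorem f720359 : Led Lsl_dt (LP (LK LD1_c20 LD2_c17 LD3_c23)) = (LP (LK LD1_c20 LD2_c44 LD3_c40)) :=
  Lgr Lrot57 (Lpe (f715385 IH) (Lpr_cf (K55.f715382 IH) (Lpr_gt (f719771 IH) (Lpr_dt (f711487 IH) (Lpe (f719892 IH) (Lpr_dt (K53.f645141 IH) (Lpe (K53.f713853 IH) (Lpe (f714041 IH) (Lpr_gf (f720357 IH) (Lpn (LP (LK LD1_c20 LD2_c44 LD3_c40))))))))))))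
theorem f738971 : Led Lsl_ef (LP (LK LD1_c11 LD2_c41 LD3_c39)) = (LP (LK LD1_c20 LD2_c17 LD3_c23)) :=
  Lgr Lrot114 (Lpr_gt (f426013 IH) (Lpe (K24.f425965 IH) (Lpr_dt (K24.f425957 IH) (Lpr_gt (K45.f426095 IH) (Lpe (K6.f135922 IH) (Lpr_et (K53.f136317 IH) (Lpr_gt (K54.f738967 IH) (Lpr_dt (f76012 IH) (Lpr_gt (f707168 IH) (Lpe (f720359 IH) (Lpn (LP (LK LD1_c20 LD2_c17 LD3_c23)))))))))))))
def v38190 : LQ := Led Lsl_ft (LP (LK LD1_c9 LD2_c6 LD3_c23))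
theorem f899845 : Led Lsl_ft (LP (LK LD1_c9 LD2_c6 LD3_c23)) = v38190 :=
  Lrfl
theorem f899847 : Led Lsl_cf v16379 = v38190 :=
  Lgr Lrot108 (Lpe (f749029 IH) (Lpe (K52.f642964 IH) (Lpr_ft (f899845 IH) (Lpn v38190))))
def v38189 : LQ := Led Lsl_at (LP (LK LD1_c9 LD2_c6 LD3_c23))
theorem f899839 : Led Lsl_at (LP (LK LD1_c9 LD2_c6 LD3_c23)) = v38189 :=
  Lrfl
theorem f899841 : Led Lsl_cf v16378 = v38189 :=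
  Lgr Lrot1 (Lpe (f749024 IH) (Lpe (K52.f642964 IH) (Lpr_at (f899839 IH) (Lpn v38189))))
theorem f899842 : Led Lsl_ct v16378 = v38189 :=
  Lgr Lrot59 (Lpr_cf (f899841 IH) (Lpn v38189))
def v38295 : LQ := Led Lsl_ft (LP (LK LD1_c9 LD2_c8 LD3_c16))
theorem f900533 : Led Lsl_ft (LP (LK LD1_c9 LD2_c8 LD3_c16)) = v38295 :=
  Lrfl
theorem f900535 : Led Lsl_bf v16378 = v38295 :=
  Lgr Lrot61 (Lpe (f749026 IH) (Lpr_bt (f643703 IH) (Lpr_ft (f900533 IH) (Lpn v38295))))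
theorem f445628 : Led Lsl_bt (LP (LK LD1_c4 LD2_c36 LD3_c18)) = (LP (LK LD1_c9 LD2_c8 LD3_c44)) :=
  Lre_b IH (LK LD1_c4 LD2_c36 LD3_c18) (LK LD1_c9 LD2_c8 LD3_c44) Lrfl Lrfl
def v12989 : LQ := Led Lsl_ft (LP (LK LD1_c4 LD2_c36 LD3_c18))
theorem f700045 : Led Lsl_ft (LP (LK LD1_c4 LD2_c36 LD3_c18)) = v12989 :=
  Lrfl
theorem f700047 : Led Lsl_ff (LP (LK LD1_c4 LD2_c36 LD3_c18)) = v12989 :=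
  Lgr Lrot3 (Lpr_ft (f700045 IH) (Lpn v12989))
def v12987 : LQ := Led Lsl_at (LP (LK LD1_c4 LD2_c36 LD3_c18))
theorem f700036 : Led Lsl_at (LP (LK LD1_c4 LD2_c36 LD3_c18)) = v12987 :=
  Lrfl
theorem f700037 : Led Lsl_af (LP (LK LD1_c4 LD2_c36 LD3_c18)) = v12987 :=
  Lgr Lrot0 (Lpr_at (f700036 IH) (Lpn v12987))
theorem f700039 : Led Lsl_ft (LP (LK LD1_c4 LD2_c36 LD3_c19)) = v12987 :=
  Lgr Lrot2 (Lpr_gt (f438669 IH) (Lpr_gt (K42.f83081 IH) (Lpr_af (f700037 IH) (Lpn v12987))))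
theorem f700040 : Led Lsl_ff (LP (LK LD1_c4 LD2_c36 LD3_c19)) = v12987 :=
  Lgr Lrot3 (Lpr_ft (f700039 IH) (Lpn v12987))
theorem f700048 : Led Lsl_at (LP (LK LD1_c4 LD2_c36 LD3_c19)) = v12989 :=
  Lgr Lrot66 (Lpr_ff (f700040 IH) (Lpe (f700036 IH) (Lpr_ff (f700047 IH) (Lpn v12989))))
theorem f900689 : (LP (LK LD1_c9 LD2_c8 LD3_c16)) = v12989 :=
  Lefun (Lecon (Lfl_af (f900521 IH)) (f900688 IH)) (f700048 IH)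
theorem f900693 : (LP (LK LD1_c4 LD2_c36 LD3_c18)) = v38295 :=
  Lefun (Lecon (Lfl_ff (f700047 IH)) (f900689 IH).symm) (f900533 IH)
theorem f900696 : v16378 = (LP (LK LD1_c9 LD2_c8 LD3_c44)) :=
  Lefun (Lecon (Lfl_bf (f900535 IH)) (f900693 IH).symm) (f445628 IH)
theorem f900701 : v38189 = (LP (LK LD1_c16 LD2_c57 LD3_c60)) :=
  Lefun (Lecon (f899842 IH) (f900696 IH)) (Lfl_cf (K42.f445625 IH))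
theorem f899843 : Led Lsl_ft (LP (LK LD1_c9 LD2_c6 LD3_c24)) = v38189 :=
  Lgr Lrot4 (Lpe (K52.f643691 IH) (Lpr_ff (f749026 IH) (Lpr_cf (f899841 IH) (Lpn v38189))))
theorem f900706 : Led Lsl_ff (LP (LK LD1_c16 LD2_c58 LD3_c15)) = (LP (LK LD1_c22 LD2_c6 LD3_c55)) :=
  Lgr Lrot19 (Lpr_dt (K65.f146545 IH) (Lpr_ft (f899843 IH) (Lpqs (f900701 IH) (Lpr_dt (K60.f739287 IH) (Lpn (LP (LK LD1_c22 LD2_c6 LD3_c55)))))))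
theorem f509621 : Led Lsl_gt (LP (LK LD1_c12 LD2_c57 LD3_c9)) = (LP (LK LD1_c22 LD2_c6 LD3_c54)) :=
  Lre_g IH (LK LD1_c12 LD2_c57 LD3_c9) (LK LD1_c22 LD2_c6 LD3_c54) Lrfl Lrfl
theorem f900712 : Led Lsl_at (LP (LK LD1_c16 LD2_c58 LD3_c15)) = (LP (LK LD1_c22 LD2_c6 LD3_c54)) :=
  Lgr Lrot26 (Lpr_ff (f900706 IH) (Lpr_gt (K60.f414565 IH) (Lpr_gt (f509621 IH) (Lpn (LP (LK LD1_c22 LD2_c6 LD3_c54))))))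
theorem f643695 : Led Lsl_dt (LP (LK LD1_c9 LD2_c6 LD3_c24)) = (LP (LK LD1_c16 LD2_c58 LD3_c15)) :=
  Lre_d IH (LK LD1_c9 LD2_c6 LD3_c24) (LK LD1_c16 LD2_c58 LD3_c15) Lrfl Lrfl
theorem f899840 : Led Lsl_af (LP (LK LD1_c9 LD2_c6 LD3_c23)) = v38189 :=
  Lgr Lrot0 (Lpr_at (f899839 IH) (Lpn v38189))
theorem f899846 : Led Lsl_af (LP (LK LD1_c9 LD2_c6 LD3_c24)) = v38190 :=
  Lgr Lrot45 (Lpr_ft (f899843 IH) (Lpe (f899840 IH) (Lpr_ft (f899845 IH) (Lpn v38190))))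
theorem f744544 : Led Lsl_dt (LP (LK LD1_c27 LD2_c21 LD3_c38)) = (LP (LK LD1_c17 LD2_c32 LD3_c22)) :=
  Lre_d IH (LK LD1_c27 LD2_c21 LD3_c38) (LK LD1_c17 LD2_c32 LD3_c22) Lrfl Lrfl
theorem f709912 : Led Lsl_et (LP (LK LD1_c27 LD2_c21 LD3_c38)) = (LP (LK LD1_c17 LD2_c32 LD3_c24)) :=
  Lre_e IH (LK LD1_c27 LD2_c21 LD3_c38) (LK LD1_c17 LD2_c32 LD3_c24) Lrfl Lrfl
theorem f744545 : Led Lsl_gf (LP (LK LD1_c20 LD2_c41 LD3_c38)) = (LP (LK LD1_c17 LD2_c32 LD3_c24)) :=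
  Lgr Lrot138 (Lpr_dt (K60.f426799 IH) (Lpr_gt (f426013 IH) (Lpe (K65.f426020 IH) (Lpr_et (K40.f539501 IH) (Lpr_gt (K38.f548646 IH) (Lpe (K45.f548645 IH) (Lpr_dt (K45.f594949 IH) (Lpr_gt (K55.f744541 IH) (Lpe (f744544 IH) (Lpr_et (f709912 IH) (Lpn (LP (LK LD1_c17 LD2_c32 LD3_c24)))))))))))))
theorem f705279 : Led Lsl_dt (LP (LK LD1_c9 LD2_c30 LD3_c54)) = (LP (LK LD1_c17 LD2_c32 LD3_c24)) :=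
  Lre_d IH (LK LD1_c9 LD2_c30 LD3_c54) (LK LD1_c17 LD2_c32 LD3_c24) Lrfl Lrfl
theorem f711561 : Led Lsl_ct (LP (LK LD1_c12 LD2_c57 LD3_c8)) = (LP (LK LD1_c17 LD2_c7 LD3_c50)) :=
  Lgr Lrot7 (Lpr_df (K52.f711559 IH) (Lpe (K52.f146603 IH) (Lpe (K52.f146602 IH) (Lpe (K52.f146601 IH) (Lpr_cf (K52.f642964 IH) (Lpr_gt (K52.f425990 IH) (Lpr_dt (K40.f425977 IH) (Lpr_gt (K52.f425978 IH) (Lpe (K52.f644134 IH) (Lpn (LP (LK LD1_c17 LD2_c7 LD3_c50))))))))))))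
theorem f744547 : Led Lsl_df (LP (LK LD1_c16 LD2_c57 LD3_c61)) = (LP (LK LD1_c22 LD2_c6 LD3_c54)) :=
  Lgr Lrot84 (Lpe (K60.f643641 IH) (Lpe (K60.f426799 IH) (Lpr_gf (f744545 IH) (Lpe (f705279 IH) (Lpe (f716139 IH) (Lpe (f711561 IH) (Lpr_gt (K52.f414567 IH) (Lpr_dt (K60.f653399 IH) (Lpr_gt (f509621 IH) (Lpn (LP (LK LD1_c22 LD2_c6 LD3_c54))))))))))))
theorem f900718 : v38190 = (LP (LK LD1_c16 LD2_c57 LD3_c61)) :=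
  (Llr Lrot117 (Lpe (f899846 IH) (Lpr_dt (f643695 IH) (Lpr_at (f900712 IH) (Lpe (f744547 IH) (Lpn (LP (LK LD1_c16 LD2_c57 LD3_c61)))))))).symm
theorem f900723 : v16379 = (LP (LK LD1_c11 LD2_c41 LD3_c39)) :=
  Lefun (Lecon (Lfl_cf (f899847 IH)) (f900718 IH)) (Lfl_cf (K60.f643643 IH))
theorem f749028 : Led Lsl_af (LP (LK LD1_c5 LD2_c58 LD3_c43)) = v16379 :=
  Lgr Lrot45 (Lpr_ft (f749025 IH) (Lpe (f749024 IH) (Lpr_ft (f749027 IH) (Lpn v16379))))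
theorem f900738 : Led Lsl_af (LP (LK LD1_c20 LD2_c17 LD3_c23)) = (LP (LK LD1_c11 LD2_c41 LD3_c56)) :=
  Lgr Lrot50 (Lpe (f738971 IH) (Lpq (f900723 IH) (Lpe (f749028 IH) (Lpr_et (K66.f643719 IH) (Lpn (LP (LK LD1_c11 LD2_c41 LD3_c56)))))))
theorem f715386 : Led Lsl_gt (LP (LK LD1_c20 LD2_c17 LD3_c24)) = (LP (LK LD1_c11 LD2_c20 LD3_c11)) :=
  Lre_g IH (LK LD1_c20 LD2_c17 LD3_c24) (LK LD1_c11 LD2_c20 LD3_c11) Lrfl Lrfl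
theorem f900743 : Led Lsl_ft (LP (LK LD1_c20 LD2_c17 LD3_c24)) = (LP (LK LD1_c11 LD2_c41 LD3_c56)) :=
  Lgr Lrot2 (Lpr_gt (f715386 IH) (Lpr_gt (f715385 IH) (Lpr_af (f900738 IH) (Lpn (LP (LK LD1_c11 LD2_c41 LD3_c56))))))
theorem f900750 : Led Lsl_ff (LP (LK LD1_c20 LD2_c17 LD3_c24)) = (LP (LK LD1_c11 LD2_c41 LD3_c56)) :=
  Lgr Lrot3 (Lpr_ft (f900743 IH) (Lpn (LP (LK LD1_c11 LD2_c41 LD3_c56))))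
theorem f669770 : Led Lsl_dt (LP (LK LD1_c20 LD2_c50 LD3_c58)) = (LP (LK LD1_c11 LD2_c48 LD3_c29)) :=
  Lre_d IH (LK LD1_c20 LD2_c50 LD3_c58) (LK LD1_c11 LD2_c48 LD3_c29) Lrfl Lrfl
theorem f741793 : Led Lsl_et (LP (LK LD1_c20 LD2_c50 LD3_c58)) = (LP (LK LD1_c20 LD2_c17 LD3_c24)) :=
  Lgr Lrot121 (Lpr_dt (f669770 IH) (Lpr_gf (K55.f741753 IH) (Lpe (K55.f501863 IH) (Lpr_et (K55.f501886 IH) (Lpe (K36.f501882 IH) (Lpe (K43.f160998 IH) (Lpr_dt (K53.f614352 IH) (Lpr_gf (K55.f739881 IH) (Lpe (K55.f711696 IH) (Lpe (f715386 IH) (Lpn (LP (LK LD1_c20 LD2_c17 LD3_c24)))))))))))))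
theorem f741797 : Led Lsl_ef (LP (LK LD1_c20 LD2_c50 LD3_c58)) = (LP (LK LD1_c20 LD2_c17 LD3_c24)) :=
  Lgr Lrot88 (Lpr_et (f741793 IH) (Lpn (LP (LK LD1_c20 LD2_c17 LD3_c24))))
theorem f900755 : Led Lsl_ft (LP (LK LD1_c20 LD2_c50 LD3_c58)) = (LP (LK LD1_c17 LD2_c1 LD3_c27)) :=
  Lgr Lrot86 (Lpr_ef (f741797 IH) (Lpr_ff (f900750 IH) (Lpe (K66.f643719 IH) (Lpr_ff (f749026 IH) (Lpqs (f900696 IH) (Lpe (K56.f445632 IH) (Lpn (LP (LK LD1_c17 LD2_c1 LD3_c27)))))))))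
theorem f669771 : Led Lsl_dt (LP (LK LD1_c11 LD2_c48 LD3_c29)) = (LP (LK LD1_c20 LD2_c50 LD3_c58)) :=
  Lre_d IH (LK LD1_c11 LD2_c48 LD3_c29) (LK LD1_c20 LD2_c50 LD3_c58) Lrfl Lrfl
theorem f900761 : Led Lsl_ff (LP (LK LD1_c11 LD2_c48 LD3_c29)) = (LP (LK LD1_c17 LD2_c31 LD3_c33)) :=
  Lgr Lrot19 (Lpr_dt (f669771 IH) (Lpr_ft (f900755 IH) (Lpe (K56.f642534 IH) (Lpn (LP (LK LD1_c17 LD2_c31 LD3_c33))))))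
def v16517 : LQ := Led Lsl_ft (LP (LK LD1_c6 LD2_c1 LD3_c59))
theorem f750150 : Led Lsl_ft (LP (LK LD1_c6 LD2_c1 LD3_c59)) = v16517 :=
  Lrfl
theorem f445635 : Led Lsl_bt (LP (LK LD1_c17 LD2_c1 LD3_c27)) = (LP (LK LD1_c9 LD2_c8 LD3_c46)) :=
  Lre_b IH (LK LD1_c17 LD2_c1 LD3_c27) (LK LD1_c9 LD2_c8 LD3_c46) Lrfl Lrfl
theorem f642536 : Led Lsl_dt (LP (LK LD1_c17 LD2_c31 LD3_c33)) = (LP (LK LD1_c17 LD2_c1 LD3_c27)) :=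
  Lgr Lrot42 (Lpr_df (K56.f642534 IH) (Lpn (LP (LK LD1_c17 LD2_c1 LD3_c27))))
theorem f749733 : Led Lsl_bf (LP (LK LD1_c17 LD2_c31 LD3_c33)) = K56.v16486 :=
  Lgr Lrot93 (Lpr_dt (f642536 IH) (Lpr_bt (f445635 IH) (Lpr_dt (K56.f749732 IH) (Lpn K56.v16486))))
theorem f900769 : v16517 = K56.v16486 :=
  (Llr Lrot75 (Lpe (f750150 IH) (Lpe (K48.f500971 IH) (Lpr_ff (f900761 IH) (Lpr_bf (f749733 IH) (Lpn K56.v16486)))))).symm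
theorem f750152 : Led Lsl_ff (LP (LK LD1_c6 LD2_c1 LD3_c59)) = v16517 :=
  Lgr Lrot3 (Lpr_ft (f750150 IH) (Lpn v16517))
def v16515 : LQ := Led Lsl_at (LP (LK LD1_c6 LD2_c1 LD3_c59))
theorem f750140 : Led Lsl_at (LP (LK LD1_c6 LD2_c1 LD3_c59)) = v16515 :=
  Lrfl
theorem f900772 : v16515 = v16485 :=
  (Llr Lrot26 (Lpe (f750140 IH) (Lpr_ff (f750152 IH) (Lpqs (f900769 IH) (Lpe (K56.f749730 IH) (Lpr_gt (f749727 IH) (Lpn v16485))))))).symm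
theorem f750141 : Led Lsl_af (LP (LK LD1_c6 LD2_c1 LD3_c59)) = v16515 :=
  Lgr Lrot0 (Lpr_at (f750140 IH) (Lpn v16515))
theorem f900773 : Led Lsl_af (LP (LK LD1_c16 LD2_c53 LD3_c23)) = K56.v16516 :=
  Lgr Lrot50 (Lpr_et (f749728 IH) (Lpq (f900772 IH) (Lpe (f750141 IH) (Lpr_et (K56.f750144 IH) (Lpn K56.v16516)))))
def v37954 : LQ := Led Lsl_ft (LP (LK LD1_c9 LD2_c2 LD3_c46))
theorem f898228 : Led Lsl_ft (LP (LK LD1_c9 LD2_c2 LD3_c46)) = v37954 :=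
  Lrfl
theorem f898230 : Led Lsl_ff (LP (LK LD1_c9 LD2_c2 LD3_c46)) = v37954 :=
  Lgr Lrot3 (Lpr_ft (f898228 IH) (Lpn v37954))
def v37951 : LQ := Led Lsl_at (LP (LK LD1_c9 LD2_c2 LD3_c46))
theorem f898218 : Led Lsl_at (LP (LK LD1_c9 LD2_c2 LD3_c46)) = v37951 :=
  Lrfl
theorem f898219 : Led Lsl_af (LP (LK LD1_c9 LD2_c2 LD3_c46)) = v37951 :=
  Lgr Lrot0 (Lpr_at (f898218 IH) (Lpn v37951))
theorem f281264 : Led Lsl_gt (LP (LK LD1_c4 LD2_c32 LD3_c38)) = (LP (LK LD1_c9 LD2_c2 LD3_c46)) :=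
  Lre_g IH (LK LD1_c4 LD2_c32 LD3_c38) (LK LD1_c9 LD2_c2 LD3_c46) Lrfl Lrfl
theorem f898221 : Led Lsl_ft (LP (LK LD1_c9 LD2_c2 LD3_c47)) = v37951 :=
  Lgr Lrot2 (Lpr_gt (f281266 IH) (Lpr_gt (f281264 IH) (Lpr_af (f898219 IH) (Lpn v37951))))
theorem f898222 : Led Lsl_ff (LP (LK LD1_c9 LD2_c2 LD3_c47)) = v37951 :=
  Lgr Lrot3 (Lpr_ft (f898221 IH) (Lpn v37951))
theorem f898231 : Led Lsl_at (LP (LK LD1_c9 LD2_c2 LD3_c47)) = v37954 :=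
  Lgr Lrot66 (Lpr_ff (f898222 IH) (Lpe (f898218 IH) (Lpr_ff (f898230 IH) (Lpn v37954))))
theorem f750147 : Led Lsl_dt (LP (LK LD1_c16 LD2_c52 LD3_c55)) = K56.v16516 :=
  Lgr Lrot42 (Lpr_df (K56.f750146 IH) (Lpn K56.v16516))
theorem f900775 : v37954 = (LP (LK LD1_c16 LD2_c52 LD3_c55)) :=
  (Llr Lrot51 (Lpe (f898231 IH) (Lpe (f563630 IH) (Lpr_af (f900773 IH) (Lpe (f750147 IH) (Lpn (LP (LK LD1_c16 LD2_c52 LD3_c55)))))))).symm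
theorem f898229 : Led Lsl_af (LP (LK LD1_c9 LD2_c2 LD3_c47)) = v37954 :=
  Lgr Lrot45 (Lpr_ft (f898221 IH) (Lpe (f898219 IH) (Lpr_ft (f898228 IH) (Lpn v37954))))
theorem f900776 : Led Lsl_at (LP (LK LD1_c16 LD2_c52 LD3_c55)) = (LP (LK LD1_c9 LD2_c2 LD3_c47)) :=
  Leop (Lpr_af (f898229 IH) (Lpqs (f900775 IH) (Lpn (LP (LK LD1_c16 LD2_c52 LD3_c55)))))
theorem seed_2228 : LEOK LG_a (LK LD1_c16 LD2_c52 LD3_c55) :=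
  Leoe_a (LK LD1_c16 LD2_c52 LD3_c55) (f900776 IH)
def v16563 : LQ := Led Lsl_bt (LP (LK LD1_c6 LD2_c2 LD3_c53))
theorem f750449 : Led Lsl_bt (LP (LK LD1_c6 LD2_c2 LD3_c53)) = v16563 :=
  Lrfl
theorem f740594 : Led Lsl_bf (LP (LK LD1_c11 LD2_c49 LD3_c44)) = (LP (LK LD1_c11 LD2_c41 LD3_c56)) :=
  Lgr Lrot96 (Lpr_et (f740592 IH) (Lpe (f643717 IH) (Lpr_et (K66.f643719 IH) (Lpn (LP (LK LD1_c11 LD2_c41 LD3_c56))))))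
theorem f750451 : Led Lsl_df (LP (LK LD1_c11 LD2_c41 LD3_c56)) = v16563 :=
  Lgr Lrot12 (Lpe (f740594 IH) (Lpr_dt (f501000 IH) (Lpr_bt (f750449 IH) (Lpn v16563))))
theorem f900742 : Led Lsl_at (LP (LK LD1_c20 LD2_c44 LD3_c40)) = v16563 :=
  Lgr Lrot51 (Lpe (f720359 IH) (Lpr_af (f900738 IH) (Lpr_df (f750451 IH) (Lpn v16563))))
theorem f901018 : Led Lsl_af (LP (LK LD1_c20 LD2_c44 LD3_c40)) = v16563 :=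
  Lgr Lrot0 (Lpr_at (f900742 IH) (Lpn v16563))
theorem f750432 : Led Lsl_df (LP (LK LD1_c11 LD2_c22 LD3_c8)) = (LP (LK LD1_c9 LD2_c14 LD3_c2)) :=
  Lgr Lrot38 (Lpr_dt (K56.f750427 IH) (Lpn (LP (LK LD1_c9 LD2_c14 LD3_c2))))
theorem f740689 : Led Lsl_bt (LP (LK LD1_c20 LD2_c50 LD3_c58)) = (LP (LK LD1_c11 LD2_c48 LD3_c31)) :=
  Lre_b IH (LK LD1_c20 LD2_c50 LD3_c58) (LK LD1_c11 LD2_c48 LD3_c31) Lrfl Lrfl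
theorem f741799 : Led Lsl_bt (LP (LK LD1_c11 LD2_c22 LD3_c8)) = (LP (LK LD1_c20 LD2_c17 LD3_c24)) :=
  Lgr Lrot119 (Lpe (K56.f740687 IH) (Lpe (f740689 IH) (Lpr_ef (f741797 IH) (Lpn (LP (LK LD1_c20 LD2_c17 LD3_c24))))))
theorem f645764 : Led Lsl_bt (LP (LK LD1_c17 LD2_c8 LD3_c23)) = (LP (LK LD1_c9 LD2_c14 LD3_c2)) :=
  Lre_b IH (LK LD1_c17 LD2_c8 LD3_c23) (LK LD1_c9 LD2_c14 LD3_c2) Lrfl Lrfl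
theorem f750438 : Led Lsl_dt (LP (LK LD1_c20 LD2_c17 LD3_c24)) = (LP (LK LD1_c17 LD2_c8 LD3_c23)) :=
  Lgr Lrot79 (Lpe (f741799 IH) (Lpr_df (f750432 IH) (Lpe (f645764 IH) (Lpn (LP (LK LD1_c17 LD2_c8 LD3_c23))))))
theorem f900754 : Led Lsl_ft (LP (LK LD1_c17 LD2_c8 LD3_c23)) = v16563 :=
  Lgr Lrot54 (Lpe (f750438 IH) (Lpr_ff (f900750 IH) (Lpr_df (f750451 IH) (Lpn v16563))))
theorem f901019 : Led Lsl_gf (LP (LK LD1_c11 LD2_c43 LD3_c32)) = (LP (LK LD1_c17 LD2_c8 LD3_c23)) :=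
  Lgr Lrot47 (Lpr_gt (f707168 IH) (Lpr_af (f901018 IH) (Lpe (f900754 IH) (Lpn (LP (LK LD1_c17 LD2_c8 LD3_c23))))))
theorem f901020 : Led Lsl_gt (LP (LK LD1_c17 LD2_c8 LD3_c23)) = (LP (LK LD1_c11 LD2_c43 LD3_c32)) :=
  Leop (Lpr_gf (f901019 IH) (Lpn (LP (LK LD1_c17 LD2_c8 LD3_c23))))
theorem seed_2229 : LEOK LG_g (LK LD1_c17 LD2_c8 LD3_c23) :=
  Leoe_g (LK LD1_c17 LD2_c8 LD3_c23) (f901020 IH)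
theorem f900556 : Led Lsl_af (LP (LK LD1_c9 LD2_c8 LD3_c50)) = v38297 :=
  Lgr Lrot45 (Lpr_ft (f900555 IH) (Lpe (f900554 IH) (Lpr_ft (f900550 IH) (Lpn v38297))))
theorem f900593 : Led Lsl_gt (LP (LK LD1_c9 LD2_c8 LD3_c49)) = v38298 :=
  Lgr Lrot5 (Lpr_ft (f900550 IH) (Lpe (f900556 IH) (Lpr_gf (f900592 IH) (Lpn v38298))))
theorem f72046 : Led Lsl_dt (LP (LK LD1_c9 LD2_c8 LD3_c17)) = (LP (LK LD1_c4 LD2_c36 LD3_c1)) :=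
  Lre_d IH (LK LD1_c9 LD2_c8 LD3_c17) (LK LD1_c4 LD2_c36 LD3_c1) Lrfl Lrfl
theorem f900591 : Led Lsl_dt v12983 = v38298 :=
  Lgr Lrot60 (Lpe (f700012 IH) (Lpe (f72046 IH) (Lpr_ff (f900588 IH) (Lpn v38298))))
theorem f669649 : Led Lsl_ff K66.v1629 = K66.v8017 :=
  Lgr Lrot3 (Lpr_ft (K66.f669646 IH) (Lpn K66.v8017))
theorem f700015 : Led Lsl_ef K66.v8017 = v12983 :=
  Lgr Lrot21 (Lpe (f669649 IH) (Lpe (K66.f500432 IH) (Lpe (K2.f71134 IH) (Lpr_et (f71153 IH) (Lpr_ft (f700012 IH) (Lpn v12983))))))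
theorem f500430 : Led Lsl_af K55.v436 = K66.v1629 :=
  Lgr Lrot50 (Lpe (K66.f452813 IH) (Lpr_at (K4.f71148 IH) (Lpr_et (K66.f500429 IH) (Lpn K66.v1629))))
theorem f669653 : Led Lsl_gf K66.v3006 = K66.v8017 :=
  Lgr Lrot47 (Lpe (K66.f536470 IH) (Lpr_af (f500430 IH) (Lpr_ff (f669649 IH) (Lpn K66.v8017))))
theorem f509428 : Led Lsl_dt (LP (LK LD1_c1 LD2_c36 LD3_c45)) = (LP (LK LD1_c3 LD2_c20 LD3_c56)) :=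
  Lre_d IH (LK LD1_c1 LD2_c36 LD3_c45) (LK LD1_c3 LD2_c20 LD3_c56) Lrfl Lrfl
theorem f509432 : Led Lsl_et (LP (LK LD1_c1 LD2_c36 LD3_c45)) = (LP (LK LD1_c3 LD2_c20 LD3_c57)) :=
  Lre_e IH (LK LD1_c1 LD2_c36 LD3_c45) (LK LD1_c3 LD2_c20 LD3_c57) Lrfl Lrfl
theorem f414609 : Led Lsl_gt (LP (LK LD1_c3 LD2_c20 LD3_c57)) = (LP (LK LD1_c6 LD2_c45 LD3_c50)) :=
  Lre_g IH (LK LD1_c3 LD2_c20 LD3_c57) (LK LD1_c6 LD2_c45 LD3_c50) Lrfl Lrfl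
def v19693 : LQ := Led Lsl_dt (LP (LK LD1_c6 LD2_c45 LD3_c50))
theorem f781681 : Led Lsl_dt (LP (LK LD1_c6 LD2_c45 LD3_c50)) = v19693 :=
  Lrfl
theorem f901061 : (LP (LK LD1_c9 LD2_c8 LD3_c49)) = v19693 :=
  (Llr Lrot134 (Lpr_gt (f900593 IH) (Lpe (f900591 IH) (Lpe (f700015 IH) (Lpe (f669653 IH) (Lpr_ef (K66.f677164 IH) (Lpe (K66.f714914 IH) (Lpr_gt (K66.f415059 IH) (Lpe (f509428 IH) (Lpr_et (f509432 IH) (Lpr_gt (f414609 IH) (Lpr_dt (f781681 IH) (Lpn v19693))))))))))))).symm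
theorem f781682 : Led Lsl_df (LP (LK LD1_c6 LD2_c45 LD3_c50)) = v19693 :=
  Lgr Lrot38 (Lpr_dt (f781681 IH) (Lpn v19693))
theorem f901062 : Led Lsl_dt (LP (LK LD1_c9 LD2_c8 LD3_c49)) = (LP (LK LD1_c6 LD2_c45 LD3_c50)) :=
  Leop (Lpr_df (f781682 IH) (Lpq (f901061 IH) (Lpn (LP (LK LD1_c9 LD2_c8 LD3_c49)))))
theorem seed_2230 : LEOK LG_d (LK LD1_c9 LD2_c8 LD3_c49) :=
  Leoe_d (LK LD1_c9 LD2_c8 LD3_c49) (f901062 IH)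
theorem f700892 : Led Lsl_ef (LP (LK LD1_c4 LD2_c38 LD3_c50)) = K56.v13067 :=
  Lgr Lrot88 (Lpr_et (K56.f700891 IH) (Lpn K56.v13067))
def v19695 : LQ := Led Lsl_ft (LP (LK LD1_c6 LD2_c45 LD3_c50))
theorem f781685 : Led Lsl_ft (LP (LK LD1_c6 LD2_c45 LD3_c50)) = v19695 :=
  Lrfl
theorem f901064 : (LP (LK LD1_c9 LD2_c13 LD3_c28)) = v19695 :=
  (Llr Lrot78 (Lpr_dt (f900547 IH) (Lpe (f900551 IH) (Lpqs (f901061 IH) (Lpe (f781682 IH) (Lpr_ft (f781685 IH) (Lpn v19695))))))).symm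
theorem f781687 : Led Lsl_ff (LP (LK LD1_c6 LD2_c45 LD3_c50)) = v19695 :=
  Lgr Lrot3 (Lpr_ft (f781685 IH) (Lpn v19695))
def v19692 : LQ := Led Lsl_at (LP (LK LD1_c6 LD2_c45 LD3_c50))
theorem f781676 : Led Lsl_at (LP (LK LD1_c6 LD2_c45 LD3_c50)) = v19692 :=
  Lrfl
theorem f901089 : v19692 = v19672 :=
  (Llr Lrot26 (Lpe (f781676 IH) (Lpr_ff (f781687 IH) (Lpq (f901064 IH) (Lpe (K52.f711575 IH) (Lpr_gt (f781602 IH) (Lpn v19672))))))).symm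
theorem f781677 : Led Lsl_af (LP (LK LD1_c6 LD2_c45 LD3_c50)) = v19692 :=
  Lgr Lrot0 (Lpr_at (f781676 IH) (Lpn v19692))
theorem f414614 : Led Lsl_gt (LP (LK LD1_c6 LD2_c45 LD3_c51)) = (LP (LK LD1_c3 LD2_c20 LD3_c57)) :=
  Lre_g IH (LK LD1_c6 LD2_c45 LD3_c51) (LK LD1_c3 LD2_c20 LD3_c57) Lrfl Lrfl
theorem f781679 : Led Lsl_ft (LP (LK LD1_c6 LD2_c45 LD3_c51)) = v19692 :=
  Lgr Lrot2 (Lpr_gt (f414614 IH) (Lpr_gt (f414609 IH) (Lpr_af (f781677 IH) (Lpn v19692))))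
def v19697 : LQ := Led Lsl_dt (LP (LK LD1_c6 LD2_c45 LD3_c51))
theorem f781691 : Led Lsl_dt (LP (LK LD1_c6 LD2_c45 LD3_c51)) = v19697 :=
  Lrfl
theorem f781692 : Led Lsl_df (LP (LK LD1_c6 LD2_c45 LD3_c51)) = v19697 :=
  Lgr Lrot38 (Lpr_dt (f781691 IH) (Lpn v19697))
theorem f901095 : v19697 = (LP (LK LD1_c9 LD2_c8 LD3_c50)) :=
  (Llr Lrot78 (Lpe (f781692 IH) (Lpr_ft (f781679 IH) (Lpqs (f901089 IH) (Lpqs (f900561 IH) (Lpr_dt (f900540 IH) (Lpe (f900557 IH) (Lpn (LP (LK LD1_c9 LD2_c8 LD3_c50)))))))))).symm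
def v19698 : LQ := Led Lsl_et (LP (LK LD1_c6 LD2_c45 LD3_c51))
theorem f781693 : Led Lsl_et (LP (LK LD1_c6 LD2_c45 LD3_c51)) = v19698 :=
  Lrfl
theorem f669651 : Led Lsl_at K66.v3007 = K66.v8017 :=
  Lgr Lrot66 (Lpe (K66.f536471 IH) (Lpr_af (f500430 IH) (Lpr_ff (f669649 IH) (Lpn K66.v8017))))
theorem f669654 : Led Lsl_gt K55.v3005 = K66.v8017 :=
  Lgr Lrot46 (Lpe (K55.f536469 IH) (Lpr_ft (K66.f536471 IH) (Lpr_at (f669651 IH) (Lpn K66.v8017))))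
theorem f419061 : Led Lsl_dt (LP (LK LD1_c4 LD2_c38 LD3_c52)) = (LP (LK LD1_c9 LD2_c13 LD3_c33)) :=
  Lre_d IH (LK LD1_c4 LD2_c38 LD3_c52) (LK LD1_c9 LD2_c13 LD3_c33) Lrfl Lrfl
theorem f901102 : v19698 = (LP (LK LD1_c9 LD2_c13 LD3_c17)) :=
  (Llr Lrot121 (Lpe (f781693 IH) (Lpr_dt (f781691 IH) (Lpqs (f901095 IH) (Lpr_gf (f900592 IH) (Lpe (f900591 IH) (Lpe (f700015 IH) (Lpe (f669654 IH) (Lpr_ef (K55.f677149 IH) (Lpe (K55.f677150 IH) (Lpr_gf (K60.f557969 IH) (Lpe (f419061 IH) (Lpe (K66.f61110 IH) (Lpn (LP (LK LD1_c9 LD2_c13 LD3_c17)))))))))))))))).symm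
theorem f781694 : Led Lsl_ef (LP (LK LD1_c6 LD2_c45 LD3_c51)) = v19698 :=
  Lgr Lrot88 (Lpr_et (f781693 IH) (Lpn v19698))
def v16573 : LQ := Led Lsl_at (LP (LK LD1_c6 LD2_c2 LD3_c57))
theorem f750486 : Led Lsl_at (LP (LK LD1_c6 LD2_c2 LD3_c57)) = v16573 :=
  Lrfl
theorem f750487 : Led Lsl_af (LP (LK LD1_c6 LD2_c2 LD3_c57)) = v16573 :=
  Lgr Lrot0 (Lpr_at (f750486 IH) (Lpn v16573))
theorem f501037 : Led Lsl_gt (LP (LK LD1_c2 LD2_c57 LD3_c33)) = (LP (LK LD1_c6 LD2_c2 LD3_c57)) :=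
  Lre_g IH (LK LD1_c2 LD2_c57 LD3_c33) (LK LD1_c6 LD2_c2 LD3_c57) Lrfl Lrfl
theorem f750488 : Led Lsl_ft (LP (LK LD1_c6 LD2_c2 LD3_c58)) = v16573 :=
  Lgr Lrot2 (Lpr_gt (f501039 IH) (Lpr_gt (f501037 IH) (Lpr_af (f750487 IH) (Lpn v16573))))
theorem f901105 : K56.v13067 = v16573 :=
  (Llr Lrot21 (Lpe (f700892 IH) (Lpr_ft (K66.f700885 IH) (Lpq (K66.f853288 IH) (Lpqs (K60.f780874 IH) (Lpq (f901102 IH) (Lpe (f781694 IH) (Lpr_ft (f781679 IH) (Lpqs (f901089 IH) (Lpqs (f900561 IH) (Lpr_et (f645809 IH) (Lpr_ft (f750488 IH) (Lpn v16573))))))))))))).symm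
theorem f750489 : Led Lsl_ff (LP (LK LD1_c6 LD2_c2 LD3_c58)) = v16573 :=
  Lgr Lrot3 (Lpr_ft (f750488 IH) (Lpn v16573))
def v16577 : LQ := Led Lsl_ft (LP (LK LD1_c6 LD2_c2 LD3_c57))
theorem f750498 : Led Lsl_ft (LP (LK LD1_c6 LD2_c2 LD3_c57)) = v16577 :=
  Lrfl
theorem f750500 : Led Lsl_ff (LP (LK LD1_c6 LD2_c2 LD3_c57)) = v16577 :=
  Lgr Lrot3 (Lpr_ft (f750498 IH) (Lpn v16577))
theorem f750501 : Led Lsl_at (LP (LK LD1_c6 LD2_c2 LD3_c58)) = v16577 :=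
  Lgr Lrot66 (Lpr_ff (f750489 IH) (Lpe (f750486 IH) (Lpr_ff (f750500 IH) (Lpn v16577))))
def v16559 : LQ := Led Lsl_gf (LP (LK LD1_c6 LD2_c2 LD3_c52))
theorem f750414 : Led Lsl_gf (LP (LK LD1_c6 LD2_c2 LD3_c52)) = v16559 :=
  Lrfl
theorem f750415 : Led Lsl_gt K56.v5093 = v16559 :=
  Lgr Lrot5 (Lpe (K56.f645907 IH) (Lpr_at (K53.f501147 IH) (Lpr_gf (f750414 IH) (Lpn v16559))))
theorem f901106 : v16577 = v16559 :=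
  (Llr Lrot26 (Lpe (f750501 IH) (Lpr_ff (f750489 IH) (Lpq (f901105 IH) (Lpe (K56.f746950 IH) (Lpr_gt (f750415 IH) (Lpn v16559))))))).symm
def v16576 : LQ := Led Lsl_et (LP (LK LD1_c6 LD2_c2 LD3_c57))
theorem f750496 : Led Lsl_et (LP (LK LD1_c6 LD2_c2 LD3_c57)) = v16576 :=
  Lrfl
theorem f750497 : Led Lsl_ef (LP (LK LD1_c6 LD2_c2 LD3_c57)) = v16576 :=
  Lgr Lrot88 (Lpr_et (f750496 IH) (Lpn v16576))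
def v19694 : LQ := Led Lsl_et (LP (LK LD1_c6 LD2_c45 LD3_c50))
theorem f781683 : Led Lsl_et (LP (LK LD1_c6 LD2_c45 LD3_c50)) = v19694 :=
  Lrfl
theorem f781684 : Led Lsl_ef (LP (LK LD1_c6 LD2_c45 LD3_c50)) = v19694 :=
  Lgr Lrot88 (Lpr_et (f781683 IH) (Lpn v19694))
theorem f901107 : v19694 = v16559 :=
  (Llr Lrot20 (Lpe (f781684 IH) (Lpr_at (f781676 IH) (Lpqs (f901089 IH) (Lpqs (f900561 IH) (Lpr_et (f645809 IH) (Lpr_at (f750501 IH) (Lpqs (f901106 IH) (Lpn v16559))))))))).symm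
theorem f901108 : v16576 = K66.v13066 :=
  (Llr Lrot21 (Lpe (f750497 IH) (Lpr_ft (f750498 IH) (Lpqs (f901106 IH) (Lpq (f901107 IH) (Lpe (f781684 IH) (Lpr_ft (f781685 IH) (Lpq (f901064 IH) (Lpr_et (f210103 IH) (Lpr_ft (K66.f700887 IH) (Lpn K66.v13066))))))))))).symm
theorem f901109 : Led Lsl_et (LP (LK LD1_c9 LD2_c13 LD3_c18)) = (LP (LK LD1_c6 LD2_c2 LD3_c57)) :=
  Leop (Lpr_ef (f750497 IH) (Lpqs (f901108 IH) (Lpqs (K66.f853302 IH) (Lpn (LP (LK LD1_c9 LD2_c13 LD3_c18))))))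
theorem seed_2231 : LEOK LG_e (LK LD1_c9 LD2_c13 LD3_c18) :=
  Leoe_e (LK LD1_c9 LD2_c13 LD3_c18) (f901109 IH)
def v38305 : LQ := Led Lsl_ft (LP (LK LD1_c9 LD2_c8 LD3_c26))
theorem f901167 : Led Lsl_ft (LP (LK LD1_c9 LD2_c8 LD3_c26)) = v38305 :=
  Lrfl
theorem f163300 : Led Lsl_ft (LP (LK LD1_c2 LD2_c53 LD3_c28)) = (LP (LK LD1_c4 LD2_c36 LD3_c7)) :=
  Lgr Lrot54 (Lpe (K11.f137494 IH) (Lpr_ff (K8.f163292 IH) (Lpe (K11.f71058 IH) (Lpn (LP (LK LD1_c4 LD2_c36 LD3_c7))))))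
theorem f163519 : Led Lsl_ft (LP (LK LD1_c11 LD2_c34 LD3_c3)) = (LP (LK LD1_c5 LD2_c54 LD3_c8)) :=
  Lre_f IH (LK LD1_c11 LD2_c34 LD3_c3) (LK LD1_c5 LD2_c54 LD3_c8) Lrfl Lrfl
theorem f901170 : Led Lsl_ef (LP (LK LD1_c11 LD2_c34 LD3_c3)) = v38305 :=
  Lgr Lrot21 (Lpr_ft (f163519 IH) (Lpr_et (K65.f137500 IH) (Lpr_ft (f163300 IH) (Lpr_et (K65.f71059 IH) (Lpr_ft (f901167 IH) (Lpn v38305))))))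
theorem f742426 : Led Lsl_gt (LP (LK LD1_c11 LD2_c34 LD3_c3)) = (LP (LK LD1_c7 LD2_c57 LD3_c28)) :=
  Lgr Lrot5 (Lpr_ft (f163519 IH) (Lpr_at (K65.f163514 IH) (Lpr_gf (K65.f742424 IH) (Lpqs (K65.f696845 IH) (Lpn (LP (LK LD1_c7 LD2_c57 LD3_c28)))))))
theorem f236544 : Led Lsl_dt (LP (LK LD1_c15 LD2_c0 LD3_c32)) = (LP (LK LD1_c24 LD2_c47 LD3_c53)) :=
  Lre_d IH (LK LD1_c15 LD2_c0 LD3_c32) (LK LD1_c24 LD2_c47 LD3_c53) Lrfl Lrfl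
theorem f588540 : Led Lsl_et (LP (LK LD1_c5 LD2_c41 LD3_c41)) = (LP (LK LD1_c11 LD2_c13 LD3_c33)) :=
  Lre_e IH (LK LD1_c5 LD2_c41 LD3_c41) (LK LD1_c11 LD2_c13 LD3_c33) Lrfl Lrfl
theorem f70324 : Led Lsl_dt (LP (LK LD1_c15 LD2_c0 LD3_c31)) = (LP (LK LD1_c7 LD2_c57 LD3_c28)) :=
  Lre_d IH (LK LD1_c15 LD2_c0 LD3_c31) (LK LD1_c7 LD2_c57 LD3_c28) Lrfl Lrfl
theorem f236523 : Led Lsl_bt (LP (LK LD1_c7 LD2_c57 LD3_c29)) = (LP (LK LD1_c15 LD2_c0 LD3_c31)) :=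
  Lre_b IH (LK LD1_c7 LD2_c57 LD3_c29) (LK LD1_c15 LD2_c0 LD3_c31) Lrfl Lrfl
theorem f236524 : Led Lsl_bt (LP (LK LD1_c19 LD2_c59 LD3_c41)) = (LP (LK LD1_c11 LD2_c6 LD3_c14)) :=
  Lre_b IH (LK LD1_c19 LD2_c59 LD3_c41) (LK LD1_c11 LD2_c6 LD3_c14) Lrfl Lrfl
theorem f236525 : Led Lsl_et (LP (LK LD1_c15 LD2_c0 LD3_c31)) = (LP (LK LD1_c19 LD2_c59 LD3_c41)) :=
  Lgr Lrot74 (Lpe (f236523 IH) (Lpr_ef (K37.f236521 IH) (Lpe (f236524 IH) (Lpn (LP (LK LD1_c19 LD2_c59 LD3_c41))))))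
theorem f742430 : Led Lsl_gt (LP (LK LD1_c11 LD2_c13 LD3_c33)) = (LP (LK LD1_c19 LD2_c59 LD3_c41)) :=
  Lgr Lrot131 (Lpe (f588540 IH) (Lpr_dt (K45.f588512 IH) (Lpe (K38.f549805 IH) (Lpe (K30.f210426 IH) (Lpr_gf (K30.f411820 IH) (Lpe (K65.f411824 IH) (Lpe (f601710 IH) (Lpr_gf (K65.f742424 IH) (Lpqs (K65.f696845 IH) (Lpe (f70324 IH) (Lpr_et (f236525 IH) (Lpn (LP (LK LD1_c19 LD2_c59 LD3_c41))))))))))))))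
theorem f411861 : Led Lsl_et (LP (LK LD1_c11 LD2_c13 LD3_c33)) = (LP (LK LD1_c5 LD2_c41 LD3_c41)) :=
  Lre_e IH (LK LD1_c11 LD2_c13 LD3_c33) (LK LD1_c5 LD2_c41 LD3_c41) Lrfl Lrfl
theorem f56485 : Led Lsl_et (LP (LK LD1_c8 LD2_c10 LD3_c39)) = (LP (LK LD1_c15 LD2_c23 LD3_c52)) :=
  Lre_e IH (LK LD1_c8 LD2_c10 LD3_c39) (LK LD1_c15 LD2_c23 LD3_c52) Lrfl Lrfl
theorem f588530 : Led Lsl_df (LP (LK LD1_c11 LD2_c13 LD3_c33)) = (LP (LK LD1_c15 LD2_c23 LD3_c52)) :=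
  Lgr Lrot70 (Lpr_et (f411861 IH) (Lpr_dt (K45.f588512 IH) (Lpr_et (K2.f56466 IH) (Lpr_dt (K39.f56483 IH) (Lpr_et (f56485 IH) (Lpn (LP (LK LD1_c15 LD2_c23 LD3_c52))))))))
theorem f546638 : Led Lsl_et (LP (LK LD1_c11 LD2_c33 LD3_c38)) = (LP (LK LD1_c5 LD2_c53 LD3_c54)) :=
  Lre_e IH (LK LD1_c11 LD2_c33 LD3_c38) (LK LD1_c5 LD2_c53 LD3_c54) Lrfl Lrfl
theorem f112730 : Led Lsl_dt (LP (LK LD1_c11 LD2_c33 LD3_c38)) = (LP (LK LD1_c5 LD2_c53 LD3_c52)) :=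
  Lre_d IH (LK LD1_c11 LD2_c33 LD3_c38) (LK LD1_c5 LD2_c53 LD3_c52) Lrfl Lrfl
theorem f71060 : Led Lsl_gt (LP (LK LD1_c11 LD2_c33 LD3_c37)) = (LP (LK LD1_c5 LD2_c53 LD3_c52)) :=
  Lre_g IH (LK LD1_c11 LD2_c33 LD3_c37) (LK LD1_c5 LD2_c53 LD3_c52) Lrfl Lrfl
theorem f601986 : Led Lsl_dt (LP (LK LD1_c20 LD2_c30 LD3_c55)) = (LP (LK LD1_c11 LD2_c33 LD3_c37)) :=
  Lre_d IH (LK LD1_c20 LD2_c30 LD3_c55) (LK LD1_c11 LD2_c33 LD3_c37) Lrfl Lrfl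
theorem f236546 : Led Lsl_dt (LP (LK LD1_c29 LD2_c14 LD3_c30)) = (LP (LK LD1_c19 LD2_c59 LD3_c41)) :=
  Lre_d IH (LK LD1_c29 LD2_c14 LD3_c30) (LK LD1_c19 LD2_c59 LD3_c41) Lrfl Lrfl
theorem f236532 : Led Lsl_bt (LP (LK LD1_c24 LD2_c47 LD3_c53)) = (LP (LK LD1_c15 LD2_c0 LD3_c34)) :=
  Lre_b IH (LK LD1_c24 LD2_c47 LD3_c53) (LK LD1_c15 LD2_c0 LD3_c34) Lrfl Lrfl
theorem f236533 : Led Lsl_bt (LP (LK LD1_c19 LD2_c59 LD3_c43)) = (LP (LK LD1_c29 LD2_c14 LD3_c30)) :=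
  Lre_b IH (LK LD1_c19 LD2_c59 LD3_c43) (LK LD1_c29 LD2_c14 LD3_c30) Lrfl Lrfl
theorem f236534 : Led Lsl_ef (LP (LK LD1_c24 LD2_c47 LD3_c53)) = (LP (LK LD1_c29 LD2_c14 LD3_c30)) :=
  Lgr Lrot29 (Lpr_bt (f236532 IH) (Lpr_et (K37.f236530 IH) (Lpr_bt (f236533 IH) (Lpn (LP (LK LD1_c29 LD2_c14 LD3_c30))))))
theorem f742436 : Led Lsl_gf (LP (LK LD1_c20 LD2_c30 LD3_c55)) = (LP (LK LD1_c24 LD2_c47 LD3_c53)) :=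
  Lgr Lrot138 (Lpr_dt (f601986 IH) (Lpr_gt (f71060 IH) (Lpe (f112730 IH) (Lpr_et (f546638 IH) (Lpe (K37.f539748 IH) (Lpe (K45.f56479 IH) (Lpe (f588530 IH) (Lpr_gt (f742430 IH) (Lpe (f236546 IH) (Lpe (f236534 IH) (Lpn (LP (LK LD1_c24 LD2_c47 LD3_c53)))))))))))))
theorem f70959 : Led Lsl_dt (LP (LK LD1_c11 LD2_c33 LD3_c37)) = (LP (LK LD1_c20 LD2_c30 LD3_c55)) :=
  Lre_d IH (LK LD1_c11 LD2_c33 LD3_c37) (LK LD1_c20 LD2_c30 LD3_c55) Lrfl Lrfl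
theorem f621313 : Led Lsl_et (LP (LK LD1_c11 LD2_c33 LD3_c37)) = (LP (LK LD1_c20 LD2_c30 LD3_c56)) :=
  Lre_e IH (LK LD1_c11 LD2_c33 LD3_c37) (LK LD1_c20 LD2_c30 LD3_c56) Lrfl Lrfl
theorem f742439 : Led Lsl_gt (LP (LK LD1_c20 LD2_c30 LD3_c56)) = (LP (LK LD1_c29 LD2_c29 LD3_c16)) :=
  Lre_g IH (LK LD1_c20 LD2_c30 LD3_c56) (LK LD1_c29 LD2_c29 LD3_c16) Lrfl Lrfl
theorem f81873 : Led Lsl_dt (LP (LK LD1_c5 LD2_c54 LD3_c5)) = (LP (LK LD1_c11 LD2_c33 LD3_c59)) :=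
  Lre_d IH (LK LD1_c5 LD2_c54 LD3_c5) (LK LD1_c11 LD2_c33 LD3_c59) Lrfl Lrfl
theorem f76331 : Led Lsl_et (LP (LK LD1_c11 LD2_c33 LD3_c57)) = (LP (LK LD1_c5 LD2_c54 LD3_c4)) :=
  Lre_e IH (LK LD1_c11 LD2_c33 LD3_c57) (LK LD1_c5 LD2_c54 LD3_c4) Lrfl Lrfl
theorem f163472 : Led Lsl_et (LP (LK LD1_c9 LD2_c8 LD3_c25)) = (LP (LK LD1_c17 LD2_c0 LD3_c56)) :=
  Lre_e IH (LK LD1_c9 LD2_c8 LD3_c25) (LK LD1_c17 LD2_c0 LD3_c56) Lrfl Lrfl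
theorem f163473 : Led Lsl_af (LP (LK LD1_c11 LD2_c33 LD3_c57)) = (LP (LK LD1_c17 LD2_c0 LD3_c56)) :=
  Lgr Lrot50 (Lpr_et (f76331 IH) (Lpr_at (K11.f163444 IH) (Lpr_et (f163472 IH) (Lpn (LP (LK LD1_c17 LD2_c0 LD3_c56))))))
theorem f76358 : Led Lsl_ct (LP (LK LD1_c11 LD2_c33 LD3_c57)) = (LP (LK LD1_c5 LD2_c54 LD3_c5)) :=
  Lre_c IH (LK LD1_c11 LD2_c33 LD3_c57) (LK LD1_c5 LD2_c54 LD3_c5) Lrfl Lrfl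
theorem f163484 : Led Lsl_ct (LP (LK LD1_c9 LD2_c8 LD3_c26)) = (LP (LK LD1_c17 LD2_c0 LD3_c56)) :=
  Lre_c IH (LK LD1_c9 LD2_c8 LD3_c26) (LK LD1_c17 LD2_c0 LD3_c56) Lrfl Lrfl
theorem f163485 : Led Lsl_at (LP (LK LD1_c5 LD2_c54 LD3_c5)) = (LP (LK LD1_c9 LD2_c8 LD3_c26)) :=
  Lgr Lrot107 (Lpe (f76358 IH) (Lpr_af (f163473 IH) (Lpe (f163484 IH) (Lpn (LP (LK LD1_c9 LD2_c8 LD3_c26))))))
theorem f163501 : Led Lsl_af (LP (LK LD1_c5 LD2_c54 LD3_c5)) = (LP (LK LD1_c9 LD2_c8 LD3_c26)) :=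
  Lgr Lrot0 (Lpr_at (f163485 IH) (Lpn (LP (LK LD1_c9 LD2_c8 LD3_c26))))
theorem f605353 : Led Lsl_df (LP (LK LD1_c9 LD2_c8 LD3_c26)) = (LP (LK LD1_c11 LD2_c32 LD3_c7)) :=
  Lgr Lrot18 (Lpe (f163501 IH) (Lpr_dt (f81873 IH) (Lpr_at (K65.f605314 IH) (Lpn (LP (LK LD1_c11 LD2_c32 LD3_c7))))))
theorem f210706 : Led Lsl_ft (LP (LK LD1_c20 LD2_c28 LD3_c50)) = (LP (LK LD1_c11 LD2_c32 LD3_c7)) :=
  Lre_f IH (LK LD1_c20 LD2_c28 LD3_c50) (LK LD1_c11 LD2_c32 LD3_c7) Lrfl Lrfl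
theorem f901169 : Led Lsl_df (LP (LK LD1_c20 LD2_c28 LD3_c50)) = v38305 :=
  Lgr Lrot78 (Lpr_ft (f210706 IH) (Lpe (f605353 IH) (Lpr_ft (f901167 IH) (Lpn v38305))))
theorem f605326 : Led Lsl_at (LP (LK LD1_c20 LD2_c31 LD3_c25)) = (LP (LK LD1_c20 LD2_c28 LD3_c50)) :=
  Lgr Lrot100 (Lpr_af (K65.f605320 IH) (Lpn (LP (LK LD1_c20 LD2_c28 LD3_c50))))
theorem f81932 : Led Lsl_ft (LP (LK LD1_c11 LD2_c33 LD3_c59)) = (LP (LK LD1_c20 LD2_c31 LD3_c25)) :=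
  Lre_f IH (LK LD1_c11 LD2_c33 LD3_c59) (LK LD1_c20 LD2_c31 LD3_c25) Lrfl Lrfl
theorem f81939 : Led Lsl_gt (LP (LK LD1_c11 LD2_c33 LD3_c59)) = (LP (LK LD1_c20 LD2_c31 LD3_c23)) :=
  Lre_g IH (LK LD1_c11 LD2_c33 LD3_c59) (LK LD1_c20 LD2_c31 LD3_c23) Lrfl Lrfl
theorem f605330 : Led Lsl_gt (LP (LK LD1_c20 LD2_c31 LD3_c23)) = (LP (LK LD1_c20 LD2_c28 LD3_c50)) :=
  Lgr Lrot46 (Lpe (f81939 IH) (Lpr_ft (f81932 IH) (Lpr_at (f605326 IH) (Lpn (LP (LK LD1_c20 LD2_c28 LD3_c50))))))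
theorem f901178 : Led Lsl_dt (LP (LK LD1_c29 LD2_c29 LD3_c16)) = (LP (LK LD1_c20 LD2_c31 LD3_c23)) :=
  Lgr Lrot171 (Lpe (f742439 IH) (Lpe (f621313 IH) (Lpr_dt (f70959 IH) (Lpr_gf (f742436 IH) (Lpe (f236544 IH) (Lpr_et (K65.f236551 IH) (Lpe (f742426 IH) (Lpr_ef (f901170 IH) (Lpe (f901169 IH) (Lpe (f605330 IH) (Lpn (LP (LK LD1_c20 LD2_c31 LD3_c23)))))))))))))
theorem f901179 : Led Lsl_dt (LP (LK LD1_c29 LD2_c29 LD3_c16)) = (LP (LK LD1_c20 LD2_c31 LD3_c23)) :=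
  Leop (Lpe (f901178 IH) (Lpn (LP (LK LD1_c29 LD2_c29 LD3_c16))))
theorem seed_2232 : LEOK LG_d (LK LD1_c29 LD2_c29 LD3_c16) :=
  Leoe_d (LK LD1_c29 LD2_c29 LD3_c16) (f901179 IH)
def v38323 : LQ := Led Lsl_gf (LP (LK LD1_c9 LD2_c8 LD3_c46))
theorem f901294 : Led Lsl_gf (LP (LK LD1_c9 LD2_c8 LD3_c46)) = v38323 :=
  Lrfl
theorem f705685 : Led Lsl_df (LP (LK LD1_c4 LD2_c49 LD3_c29)) = v13883 :=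
  Lgr Lrot38 (Lpr_dt (f705683 IH) (Lpn v13883))
theorem f901296 : Led Lsl_et v13883 = v38323 :=
  Lgr Lrot121 (Lpe (f705685 IH) (Lpr_gf (K66.f705681 IH) (Lpq (K66.f712222 IH) (Lpe (K52.f699982 IH) (Lpr_et (K66.f149331 IH) (Lpr_gf (K35.f202354 IH) (Lpe (K56.f202364 IH) (Lpr_dt (K16.f202217 IH) (Lpr_gf (K56.f749730 IH) (Lpe (K56.f749732 IH) (Lpr_gf (f901294 IH) (Lpn v38323))))))))))))
theorem f901298 : Led Lsl_ef v13883 = v38323 :=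
  Lgr Lrot88 (Lpr_et (f901296 IH) (Lpn v38323))
theorem f73946 : Led Lsl_bt (LP (LK LD1_c2 LD2_c22 LD3_c32)) = (LP (LK LD1_c4 LD2_c49 LD3_c29)) :=
  Lre_b IH (LK LD1_c2 LD2_c22 LD3_c32) (LK LD1_c4 LD2_c49 LD3_c29) Lrfl Lrfl
theorem f705684 : Led Lsl_bf (LP (LK LD1_c4 LD2_c49 LD3_c31)) = v13883 :=
  Lgr Lrot93 (Lpr_dt (K17.f73938 IH) (Lpr_bt (f73946 IH) (Lpr_dt (f705683 IH) (Lpn v13883))))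
theorem f901299 : Led Lsl_bt (LP (LK LD1_c9 LD2_c9 LD3_c9)) = v38323 :=
  Lgr Lrot119 (Lpe (K50.f506744 IH) (Lpr_bf (f705684 IH) (Lpr_ef (f901298 IH) (Lpn v38323))))
theorem f79752 : Led Lsl_ft (LP (LK LD1_c3 LD2_c13 LD3_c6)) = (LP (LK LD1_c1 LD2_c32 LD3_c60)) :=
  Lre_f IH (LK LD1_c3 LD2_c13 LD3_c6) (LK LD1_c1 LD2_c32 LD3_c60) Lrfl Lrfl
theorem f505136 : Led Lsl_cf (LP (LK LD1_c3 LD2_c13 LD3_c6)) = (LP (LK LD1_c5 LD2_c48 LD3_c61)) :=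
  Lgr Lrot108 (Lpr_ft (f79752 IH) (Lpr_ct (K41.f79821 IH) (Lpr_ft (K32.f505130 IH) (Lpn (LP (LK LD1_c5 LD2_c48 LD3_c61))))))
theorem f615516 : Led Lsl_ct (LP (LK LD1_c11 LD2_c29 LD3_c55)) = (LP (LK LD1_c20 LD2_c27 LD3_c2)) :=
  Lre_c IH (LK LD1_c11 LD2_c29 LD3_c55) (LK LD1_c20 LD2_c27 LD3_c2) Lrfl Lrfl
theorem f57227 : Led Lsl_dt (LP (LK LD1_c2 LD2_c50 LD3_c17)) = (LP (LK LD1_c5 LD2_c48 LD3_c24)) :=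
  Lre_d IH (LK LD1_c2 LD2_c50 LD3_c17) (LK LD1_c5 LD2_c48 LD3_c24) Lrfl Lrfl
theorem f57339 : Led Lsl_gt (LP (LK LD1_c11 LD2_c26 LD3_c15)) = (LP (LK LD1_c5 LD2_c48 LD3_c24)) :=
  Lre_g IH (LK LD1_c11 LD2_c26 LD3_c15) (LK LD1_c5 LD2_c48 LD3_c24) Lrfl Lrfl
theorem f151686 : Led Lsl_dt (LP (LK LD1_c20 LD2_c23 LD3_c55)) = (LP (LK LD1_c11 LD2_c26 LD3_c15)) :=
  Lre_d IH (LK LD1_c20 LD2_c23 LD3_c55) (LK LD1_c11 LD2_c26 LD3_c15) Lrfl Lrfl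
theorem f151687 : Led Lsl_ef (LP (LK LD1_c16 LD2_c57 LD3_c60)) = (LP (LK LD1_c20 LD2_c23 LD3_c55)) :=
  Lgr Lrot17 (Lpe (K60.f151685 IH) (Lpe (K60.f151684 IH) (Lpr_dt (K7.f151673 IH) (Lpe (K4.f103750 IH) (Lpr_df (K6.f130120 IH) (Lpe (K5.f56814 IH) (Lpe (K1.f57231 IH) (Lpr_dt (f57227 IH) (Lpe (f57339 IH) (Lpe (f151686 IH) (Lpn (LP (LK LD1_c20 LD2_c23 LD3_c55)))))))))))))
theorem f151691 : Led Lsl_et (LP (LK LD1_c16 LD2_c57 LD3_c60)) = (LP (LK LD1_c20 LD2_c23 LD3_c55)) :=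
  Lgr Lrot87 (Lpr_ef (f151687 IH) (Lpn (LP (LK LD1_c20 LD2_c23 LD3_c55))))
theorem f445633 : Led Lsl_ct (LP (LK LD1_c20 LD2_c23 LD3_c55)) = (LP (LK LD1_c17 LD2_c1 LD3_c27)) :=
  Lgr Lrot15 (Lpe (f151691 IH) (Lpr_cf (K42.f445625 IH) (Lpe (K56.f445632 IH) (Lpn (LP (LK LD1_c17 LD2_c1 LD3_c27))))))
theorem f445637 : Led Lsl_cf (LP (LK LD1_c20 LD2_c23 LD3_c55)) = (LP (LK LD1_c17 LD2_c1 LD3_c27)) :=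
  Lgr Lrot11 (Lpr_ct (f445633 IH) (Lpn (LP (LK LD1_c17 LD2_c1 LD3_c27))))
theorem f901303 : Led Lsl_gf (LP (LK LD1_c20 LD2_c27 LD3_c2)) = (LP (LK LD1_c20 LD2_c23 LD3_c55)) :=
  Lgr Lrot126 (Lpe (f615516 IH) (Lpe (K53.f711783 IH) (Lpe (K32.f438591 IH) (Lpe (f505136 IH) (Lpe (K32.f505475 IH) (Lpr_cf (K52.f505479 IH) (Lpr_bt (f901299 IH) (Lpe (f901294 IH) (Lpe (f445635 IH) (Lpe (f445637 IH) (Lpn (LP (LK LD1_c20 LD2_c23 LD3_c55)))))))))))))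
theorem f901304 : Led Lsl_gt (LP (LK LD1_c20 LD2_c23 LD3_c55)) = (LP (LK LD1_c20 LD2_c27 LD3_c2)) :=
  Leop (Lpr_gf (f901303 IH) (Lpn (LP (LK LD1_c20 LD2_c23 LD3_c55))))
theorem seed_2233 : LEOK LG_g (LK LD1_c20 LD2_c23 LD3_c55) :=
  Leoe_g (LK LD1_c20 LD2_c23 LD3_c55) (f901304 IH)
def v38332 : LQ := Led Lsl_ft (LP (LK LD1_c9 LD2_c8 LD3_c51))
theorem f901348 : Led Lsl_ft (LP (LK LD1_c9 LD2_c8 LD3_c51)) = v38332 :=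
  Lrfl
theorem f901350 : Led Lsl_ff (LP (LK LD1_c9 LD2_c8 LD3_c51)) = v38332 :=
  Lgr Lrot3 (Lpr_ft (f901348 IH) (Lpn v38332))
theorem f442853 : Led Lsl_ct (LP (LK LD1_c9 LD2_c8 LD3_c51)) = (LP (LK LD1_c4 LD2_c36 LD3_c20)) :=
  Lre_c IH (LK LD1_c9 LD2_c8 LD3_c51) (LK LD1_c4 LD2_c36 LD3_c20) Lrfl Lrfl
theorem f901351 : Led Lsl_ct v12992 = v38332 :=
  Lgr Lrot40 (Lpe (f700056 IH) (Lpe (f442853 IH) (Lpr_ff (f901350 IH) (Lpn v38332))))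
theorem f700057 : Led Lsl_bf (LP (LK LD1_c4 LD2_c36 LD3_c34)) = v12992 :=
  Lgr Lrot61 (Lpr_ft (K32.f71378 IH) (Lpr_bt (K41.f72010 IH) (Lpr_ft (f700056 IH) (Lpn v12992))))
theorem f500340 : Led Lsl_cf (LP (LK LD1_c1 LD2_c22 LD3_c23)) = K42.v1606 :=
  Lgr Lrot11 (Lpr_ct (K42.f500339 IH) (Lpn K42.v1606))
theorem f641199 : Led Lsl_gf K42.v1606 = K48.v4987 :=
  Lgr Lrot104 (Lpe (f500340 IH) (Lpe (K7.f22726 IH) (Lpe (K24.f22512 IH) (Lpe (K0.f22542 IH) (Lpe (K55.f22543 IH) (Lpe (K50.f443042 IH) (Lpe (K2.f71358 IH) (Lpr_gt (K32.f442867 IH) (Lpr_ct (K48.f641197 IH) (Lpn K48.v4987))))))))))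
theorem f901353 : Led Lsl_gt (LP (LK LD1_c20 LD2_c28 LD3_c10)) = v38332 :=
  Lgr Lrot65 (Lpe (f500347 IH) (Lpr_bt (f500346 IH) (Lpe (K49.f452792 IH) (Lpe (K46.f436275 IH) (Lpr_ct (K42.f500339 IH) (Lpr_gf (f641199 IH) (Lpe (K48.f641197 IH) (Lpe (K32.f442867 IH) (Lpr_bf (f700057 IH) (Lpr_ct (f901351 IH) (Lpn v38332)))))))))))
theorem f631876 : Led Lsl_ct (LP (LK LD1_c4 LD2_c36 LD3_c20)) = (LP (LK LD1_c9 LD2_c8 LD3_c51)) :=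
  Lre_c IH (LK LD1_c4 LD2_c36 LD3_c20) (LK LD1_c9 LD2_c8 LD3_c51) Lrfl Lrfl
theorem f901349 : Led Lsl_cf v12992 = v38332 :=
  Lgr Lrot108 (Lpe (f700059 IH) (Lpr_ct (f631876 IH) (Lpr_ft (f901348 IH) (Lpn v38332))))
def v12986 : LQ := Led Lsl_ft (LP (LK LD1_c4 LD2_c36 LD3_c17))
theorem f700028 : Led Lsl_ft (LP (LK LD1_c4 LD2_c36 LD3_c17)) = v12986 :=
  Lrfl
theorem f83080 : Led Lsl_ct (LP (LK LD1_c2 LD2_c15 LD3_c19)) = (LP (LK LD1_c4 LD2_c36 LD3_c17)) :=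
  Lre_c IH (LK LD1_c2 LD2_c15 LD3_c19) (LK LD1_c4 LD2_c36 LD3_c17) Lrfl Lrfl
theorem f631875 : Led Lsl_ff (LP (LK LD1_c2 LD2_c15 LD3_c19)) = v4206 :=
  Lgr Lrot3 (Lpr_ft (f631872 IH) (Lpn v4206))
theorem f700030 : Led Lsl_cf v4206 = v12986 :=
  Lgr Lrot108 (Lpe (f631875 IH) (Lpr_ct (f83080 IH) (Lpr_ft (f700028 IH) (Lpn v12986))))
def v16088 : LQ := Led Lsl_ct (LP (LK LD1_c5 LD2_c52 LD3_c23))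
theorem f745965 : Led Lsl_ct (LP (LK LD1_c5 LD2_c52 LD3_c23)) = v16088 :=
  Lrfl
theorem f623377 : Led Lsl_et (LP (LK LD1_c11 LD2_c27 LD3_c9)) = (LP (LK LD1_c20 LD2_c25 LD3_c7)) :=
  Lre_e IH (LK LD1_c11 LD2_c27 LD3_c9) (LK LD1_c20 LD2_c25 LD3_c7) Lrfl Lrfl
theorem f711319 : Led Lsl_ff (LP (LK LD1_c11 LD2_c27 LD3_c32)) = (LP (LK LD1_c20 LD2_c25 LD3_c7)) :=
  Lgr Lrot72 (Lpr_et (K57.f565190 IH) (Lpr_ft (K41.f565199 IH) (Lpr_et (K8.f149225 IH) (Lpr_ft (K65.f711314 IH) (Lpr_et (f623377 IH) (Lpn (LP (LK LD1_c20 LD2_c25 LD3_c7))))))))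
theorem f565235 : Led Lsl_et (LP (LK LD1_c12 LD2_c10 LD3_c52)) = (LP (LK LD1_c6 LD2_c16 LD3_c61)) :=
  Lre_e IH (LK LD1_c12 LD2_c10 LD3_c52) (LK LD1_c6 LD2_c16 LD3_c61) Lrfl Lrfl
theorem f571438 : Led Lsl_bf (LP (LK LD1_c12 LD2_c10 LD3_c52)) = (LP (LK LD1_c9 LD2_c48 LD3_c52)) :=
  Lgr Lrot96 (Lpr_et (f565235 IH) (Lpr_bt (K42.f571432 IH) (Lpr_et (K51.f104901 IH) (Lpn (LP (LK LD1_c9 LD2_c48 LD3_c52))))))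
theorem f613810 : Led Lsl_bt (LP (LK LD1_c12 LD2_c10 LD3_c52)) = (LP (LK LD1_c9 LD2_c48 LD3_c52)) :=
  Lgr Lrot127 (Lpr_bf (f571438 IH) (Lpn (LP (LK LD1_c9 LD2_c48 LD3_c52))))
theorem f565191 : Led Lsl_bf (LP (LK LD1_c11 LD2_c27 LD3_c32)) = (LP (LK LD1_c17 LD2_c5 LD3_c23)) :=
  Lgr Lrot96 (Lpr_et (K57.f565190 IH) (Lpr_bt (K41.f565186 IH) (Lpr_et (K57.f142068 IH) (Lpn (LP (LK LD1_c17 LD2_c5 LD3_c23))))))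
theorem f613814 : Led Lsl_af (LP (LK LD1_c12 LD2_c10 LD3_c52)) = (LP (LK LD1_c11 LD2_c27 LD3_c32)) :=
  Lgr Lrot36 (Lpr_bt (f613810 IH) (Lpe (K51.f499343 IH) (Lpr_bt (K57.f75473 IH) (Lpe (K52.f498236 IH) (Lpe (f565191 IH) (Lpn (LP (LK LD1_c11 LD2_c27 LD3_c32))))))))
theorem f613816 : Led Lsl_at (LP (LK LD1_c12 LD2_c10 LD3_c52)) = (LP (LK LD1_c11 LD2_c27 LD3_c32)) :=
  Lgr Lrot100 (Lpr_af (f613814 IH) (Lpn (LP (LK LD1_c11 LD2_c27 LD3_c32))))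
theorem f499345 : Led Lsl_at (LP (LK LD1_c4 LD2_c59 LD3_c28)) = (LP (LK LD1_c9 LD2_c48 LD3_c52)) :=
  Lgr Lrot100 (Lpr_af (K51.f499343 IH) (Lpn (LP (LK LD1_c9 LD2_c48 LD3_c52))))
theorem f613818 : Led Lsl_bf (LP (LK LD1_c17 LD2_c5 LD3_c23)) = (LP (LK LD1_c11 LD2_c27 LD3_c32)) :=
  Lgr Lrot81 (Lpr_at (K57.f499304 IH) (Lpr_bt (K8.f75485 IH) (Lpr_at (f499345 IH) (Lpe (f571438 IH) (Lpr_at (f613816 IH) (Lpn (LP (LK LD1_c11 LD2_c27 LD3_c32))))))))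
theorem f142073 : Led Lsl_ft (LP (LK LD1_c17 LD2_c5 LD3_c23)) = (LP (LK LD1_c26 LD2_c59 LD3_c5)) :=
  Lre_f IH (LK LD1_c17 LD2_c5 LD3_c23) (LK LD1_c26 LD2_c59 LD3_c5) Lrfl Lrfl
theorem f711321 : Led Lsl_bt (LP (LK LD1_c26 LD2_c59 LD3_c5)) = (LP (LK LD1_c20 LD2_c25 LD3_c7)) :=
  Lgr Lrot35 (Lpe (f142073 IH) (Lpr_bf (f613818 IH) (Lpr_ff (f711319 IH) (Lpn (LP (LK LD1_c20 LD2_c25 LD3_c7))))))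
theorem f651077 : Led Lsl_ct (LP (LK LD1_c26 LD2_c59 LD3_c5)) = (LP (LK LD1_c20 LD2_c51 LD3_c15)) :=
  Lgr Lrot59 (Lpr_cf (K46.f651075 IH) (Lpn (LP (LK LD1_c20 LD2_c51 LD3_c15))))
theorem f711327 : Led Lsl_gf (LP (LK LD1_c11 LD2_c27 LD3_c59)) = (LP (LK LD1_c20 LD2_c25 LD3_c7)) :=
  Lgr Lrot124 (Lpe (K57.f615657 IH) (Lpr_ct (K50.f567725 IH) (Lpe (K50.f698895 IH) (Lpe (K50.f26823 IH) (Lpe (K50.f538083 IH) (Lpe (K46.f644685 IH) (Lpr_ct (K46.f210144 IH) (Lpr_gt (K46.f644689 IH) (Lpe (f651077 IH) (Lpr_bt (f711321 IH) (Lpn (LP (LK LD1_c20 LD2_c25 LD3_c7)))))))))))))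
theorem f711329 : Led Lsl_gt (LP (LK LD1_c11 LD2_c27 LD3_c59)) = (LP (LK LD1_c12 LD2_c10 LD3_c52)) :=
  Lgr Lrot46 (Lpr_gf (f711327 IH) (Lpe (f711319 IH) (Lpe (f613814 IH) (Lpn (LP (LK LD1_c12 LD2_c10 LD3_c52))))))
theorem f615693 : Led Lsl_et (LP (LK LD1_c11 LD2_c31 LD3_c23)) = (LP (LK LD1_c5 LD2_c52 LD3_c23)) :=
  Lre_e IH (LK LD1_c11 LD2_c31 LD3_c23) (LK LD1_c5 LD2_c52 LD3_c23) Lrfl Lrfl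
theorem f104798 : Led Lsl_et (LP (LK LD1_c4 LD2_c59 LD3_c10)) = (LP (LK LD1_c9 LD2_c48 LD3_c49)) :=
  Lre_e IH (LK LD1_c4 LD2_c59 LD3_c10) (LK LD1_c9 LD2_c48 LD3_c49) Lrfl Lrfl
theorem f565236 : Led Lsl_dt (LP (LK LD1_c9 LD2_c48 LD3_c49)) = (LP (LK LD1_c12 LD2_c10 LD3_c52)) :=
  Lgr Lrot77 (Lpe (f104798 IH) (Lpe (K4.f104799 IH) (Lpr_ef (K41.f565231 IH) (Lpe (K42.f450466 IH) (Lpe (f565235 IH) (Lpn (LP (LK LD1_c12 LD2_c10 LD3_c52))))))))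
theorem f711331 : Led Lsl_gf (LP (LK LD1_c5 LD2_c52 LD3_c23)) = (LP (LK LD1_c9 LD2_c48 LD3_c8)) :=
  Lgr Lrot141 (Lpe (f615693 IH) (Lpr_dt (K57.f615690 IH) (Lpr_gt (f711329 IH) (Lpe (f565236 IH) (Lpr_et (K57.f104793 IH) (Lpr_gt (K8.f158468 IH) (Lpr_dt (K6.f76361 IH) (Lpe (K8.f158464 IH) (Lpe (K8.f138880 IH) (Lpr_et (K11.f158456 IH) (Lpn (LP (LK LD1_c9 LD2_c48 LD3_c8)))))))))))))
theorem f142095 : Led Lsl_ct (LP (LK LD1_c9 LD2_c15 LD3_c24)) = (LP (LK LD1_c11 LD2_c25 LD3_c27)) :=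
  Lgr Lrot15 (Lpe (K45.f142093 IH) (Lpr_cf (K8.f142089 IH) (Lpe (K11.f142094 IH) (Lpn (LP (LK LD1_c11 LD2_c25 LD3_c27))))))
theorem f142097 : Led Lsl_cf (LP (LK LD1_c9 LD2_c15 LD3_c24)) = (LP (LK LD1_c11 LD2_c25 LD3_c27)) :=
  Lgr Lrot11 (Lpr_ct (f142095 IH) (Lpn (LP (LK LD1_c11 LD2_c25 LD3_c27))))
theorem f631873 : Led Lsl_bf (LP (LK LD1_c2 LD2_c15 LD3_c27)) = v4206 :=
  Lgr Lrot61 (Lpr_ft (K50.f82897 IH) (Lpr_bt (K42.f71330 IH) (Lpr_ft (f631872 IH) (Lpn v4206))))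
theorem f700032 : Led Lsl_ff (LP (LK LD1_c4 LD2_c36 LD3_c17)) = v12986 :=
  Lgr Lrot3 (Lpr_ft (f700028 IH) (Lpn v12986))
theorem f446052 : Led Lsl_ct (LP (LK LD1_c4 LD2_c36 LD3_c17)) = (LP (LK LD1_c2 LD2_c15 LD3_c19)) :=
  Lre_c IH (LK LD1_c4 LD2_c36 LD3_c17) (LK LD1_c2 LD2_c15 LD3_c19) Lrfl Lrfl
theorem f700034 : Led Lsl_ct v4206 = v12986 :=
  Lgr Lrot40 (Lpe (f631872 IH) (Lpe (f446052 IH) (Lpr_ff (f700032 IH) (Lpn v12986))))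
theorem f745969 : Led Lsl_gf v12986 = v16088 :=
  Lgr Lrot129 (Lpe (f700034 IH) (Lpe (f631873 IH) (Lpr_gt (K50.f443042 IH) (Lpe (K45.f82933 IH) (Lpr_ct (K45.f82934 IH) (Lpe (K45.f642368 IH) (Lpr_cf (f142097 IH) (Lpr_bt (K11.f206715 IH) (Lpe (f711331 IH) (Lpr_ct (f745965 IH) (Lpn v16088)))))))))))
theorem f901354 : Led Lsl_gf (LP (LK LD1_c11 LD2_c31 LD3_c31)) = (LP (LK LD1_c12 LD2_c5 LD3_c37)) :=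
  Lgr Lrot147 (Lpr_ct (f500347 IH) (Lpr_gt (f901353 IH) (Lpe (f901349 IH) (Lpe (f700061 IH) (Lpr_cf (f700030 IH) (Lpr_gf (f745969 IH) (Lpe (f745965 IH) (Lpr_gf (f711331 IH) (Lpr_df (K42.f572050 IH) (Lpn (LP (LK LD1_c12 LD2_c5 LD3_c37))))))))))))
theorem f901355 : Led Lsl_gt (LP (LK LD1_c12 LD2_c5 LD3_c37)) = (LP (LK LD1_c11 LD2_c31 LD3_c31)) :=
  Leop (Lpr_gf (f901354 IH) (Lpn (LP (LK LD1_c12 LD2_c5 LD3_c37))))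
theorem seed_2234 : LEOK LG_g (LK LD1_c12 LD2_c5 LD3_c37) :=
  Leoe_g (LK LD1_c12 LD2_c5 LD3_c37) (f901355 IH)
def v38337 : LQ := Led Lsl_ft (LP (LK LD1_c9 LD2_c8 LD3_c57))
theorem f901369 : Led Lsl_ft (LP (LK LD1_c9 LD2_c8 LD3_c57)) = v38337 :=
  Lrfl
theorem f901371 : Led Lsl_ff (LP (LK LD1_c9 LD2_c8 LD3_c57)) = v38337 :=
  Lgr Lrot3 (Lpr_ft (f901369 IH) (Lpn v38337))
def v38299 : LQ := Led Lsl_et (LP (LK LD1_c9 LD2_c8 LD3_c19))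
theorem f901125 : Led Lsl_et (LP (LK LD1_c9 LD2_c8 LD3_c19)) = v38299 :=
  Lrfl
theorem f901129 : Led Lsl_ef (LP (LK LD1_c9 LD2_c8 LD3_c19)) = v38299 :=
  Lgr Lrot88 (Lpr_et (f901125 IH) (Lpn v38299))
theorem f547490 : Led Lsl_et (LP (LK LD1_c4 LD2_c36 LD3_c24)) = (LP (LK LD1_c9 LD2_c8 LD3_c57)) :=
  Lre_e IH (LK LD1_c4 LD2_c36 LD3_c24) (LK LD1_c9 LD2_c8 LD3_c57) Lrfl Lrfl
theorem f901131 : Led Lsl_at (LP (LK LD1_c9 LD2_c8 LD3_c57)) = v38299 :=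
  Lgr Lrot80 (Lpe (f547490 IH) (Lpr_af (K42.f569180 IH) (Lpr_ef (f901129 IH) (Lpn v38299))))
theorem f900542 : Led Lsl_df (LP (LK LD1_c11 LD2_c49 LD3_c53)) = v38296 :=
  Lgr Lrot38 (Lpr_dt (f900540 IH) (Lpn v38296))
def v19674 : LQ := Led Lsl_ft (LP (LK LD1_c6 LD2_c45 LD3_c43))
theorem f781610 : Led Lsl_ft (LP (LK LD1_c6 LD2_c45 LD3_c43)) = v19674 :=
  Lrfl
theorem f781611 : Led Lsl_af K52.v6365 = v19674 :=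
  Lgr Lrot45 (Lpe (K52.f653006 IH) (Lpr_at (K52.f509443 IH) (Lpr_ft (f781610 IH) (Lpn v19674))))
theorem f781613 : Led Lsl_gt v19672 = K52.v6365 :=
  Lgr Lrot46 (Lpe (f781602 IH) (Lpr_ft (f781610 IH) (Lpe (f781611 IH) (Lpn K52.v6365))))
theorem f832374 : Led Lsl_df K52.v6365 = K65.v26166 :=
  Lgr Lrot78 (Lpe (K52.f653006 IH) (Lpr_dt (K65.f652998 IH) (Lpr_ft (K65.f832372 IH) (Lpn K65.v26166))))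
theorem f652999 : Led Lsl_bf K65.v2168 = K65.v6364 :=
  Lgr Lrot93 (Lpe (K65.f509445 IH) (Lpr_bt (K54.f414603 IH) (Lpr_dt (K65.f652998 IH) (Lpn K65.v6364))))
theorem f653066 : Led Lsl_ff K65.v2168 = K50.v6370 :=
  Lgr Lrot19 (Lpe (K65.f509445 IH) (Lpr_ft (K50.f414607 IH) (Lpr_dt (K50.f653062 IH) (Lpn K50.v6370))))
theorem f653070 : Led Lsl_ft K65.v2168 = K50.v6370 :=
  Lgr Lrot48 (Lpr_ff (f653066 IH) (Lpn K50.v6370))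
theorem f832376 : Led Lsl_bt K50.v6370 = K65.v26166 :=
  Lgr Lrot35 (Lpe (f653070 IH) (Lpr_bf (f652999 IH) (Lpr_ff (K65.f832375 IH) (Lpn K65.v26166))))
theorem f177009 : Led Lsl_bt (LP (LK LD1_c11 LD2_c32 LD3_c54)) = (LP (LK LD1_c5 LD2_c53 LD3_c24)) :=
  Lre_b IH (LK LD1_c11 LD2_c32 LD3_c54) (LK LD1_c5 LD2_c53 LD3_c24) Lrfl Lrfl
theorem f832381 : Led Lsl_ef (LP (LK LD1_c11 LD2_c32 LD3_c54)) = K65.v26166 :=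
  Lgr Lrot29 (Lpr_bt (f177009 IH) (Lpr_et (K50.f653071 IH) (Lpr_bt (f832376 IH) (Lpn K65.v26166))))
theorem f901130 : Led Lsl_gt (LP (LK LD1_c11 LD2_c32 LD3_c54)) = v38299 :=
  Lgr Lrot131 (Lpr_ef (f832381 IH) (Lpe (f832374 IH) (Lpe (f781613 IH) (Lpqs (f900561 IH) (Lpr_df (f900542 IH) (Lpe (f900539 IH) (Lpe (K64.f71997 IH) (Lpr_dt (K39.f71980 IH) (Lpe (K38.f71146 IH) (Lpe (K38.f549758 IH) (Lpr_et (f901125 IH) (Lpn v38299))))))))))))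
theorem f901373 : Led Lsl_gf (LP (LK LD1_c11 LD2_c32 LD3_c54)) = v38337 :=
  Lgr Lrot47 (Lpr_gt (f901130 IH) (Lpe (f901131 IH) (Lpr_ff (f901371 IH) (Lpn v38337))))
theorem f194003 : Led Lsl_bt (LP (LK LD1_c5 LD2_c53 LD3_c24)) = (LP (LK LD1_c11 LD2_c32 LD3_c54)) :=
  Lre_b IH (LK LD1_c5 LD2_c53 LD3_c24) (LK LD1_c11 LD2_c32 LD3_c54) Lrfl Lrfl
theorem f449379 : Led Lsl_bt (LP (LK LD1_c4 LD2_c35 LD3_c8)) = (LP (LK LD1_c9 LD2_c6 LD3_c61)) :=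
  Lre_b IH (LK LD1_c4 LD2_c35 LD3_c8) (LK LD1_c9 LD2_c6 LD3_c61) Lrfl Lrfl
theorem f556708 : Led Lsl_gt (LP (LK LD1_c9 LD2_c6 LD3_c61)) = (LP (LK LD1_c16 LD2_c59 LD3_c10)) :=
  Lre_g IH (LK LD1_c9 LD2_c6 LD3_c61) (LK LD1_c16 LD2_c59 LD3_c10) Lrfl Lrfl
theorem f606400 : Led Lsl_ct (LP (LK LD1_c16 LD2_c59 LD3_c10)) = (LP (LK LD1_c26 LD2_c54 LD3_c54)) :=
  Lre_c IH (LK LD1_c16 LD2_c59 LD3_c10) (LK LD1_c26 LD2_c54 LD3_c54) Lrfl Lrfl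
theorem f548185 : Led Lsl_et (LP (LK LD1_c9 LD2_c8 LD3_c57)) = (LP (LK LD1_c4 LD2_c36 LD3_c24)) :=
  Lre_e IH (LK LD1_c9 LD2_c8 LD3_c57) (LK LD1_c4 LD2_c36 LD3_c24) Lrfl Lrfl
theorem f548186 : Led Lsl_bt (LP (LK LD1_c16 LD2_c52 LD3_c47)) = (LP (LK LD1_c9 LD2_c8 LD3_c57)) :=
  Lgr Lrot119 (Lpe (K38.f423358 IH) (Lpr_bf (K42.f548179 IH) (Lpe (f548185 IH) (Lpn (LP (LK LD1_c9 LD2_c8 LD3_c57))))))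
theorem f548189 : Led Lsl_bf (LP (LK LD1_c16 LD2_c52 LD3_c47)) = (LP (LK LD1_c9 LD2_c8 LD3_c57)) :=
  Lgr Lrot24 (Lpr_bt (f548186 IH) (Lpn (LP (LK LD1_c9 LD2_c8 LD3_c57))))
theorem f901372 : Led Lsl_bt (LP (LK LD1_c12 LD2_c55 LD3_c21)) = v38337 :=
  Lgr Lrot35 (Lpe (K52.f714886 IH) (Lpr_bf (f548189 IH) (Lpr_ff (f901371 IH) (Lpn v38337))))
theorem f714897 : Led Lsl_ct (LP (LK LD1_c12 LD2_c55 LD3_c21)) = (LP (LK LD1_c22 LD2_c5 LD3_c13)) :=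
  Lre_c IH (LK LD1_c12 LD2_c55 LD3_c21) (LK LD1_c22 LD2_c5 LD3_c13) Lrfl Lrfl
theorem f901374 : Led Lsl_gt (LP (LK LD1_c26 LD2_c54 LD3_c54)) = (LP (LK LD1_c22 LD2_c5 LD3_c13)) :=
  Lgr Lrot149 (Lpe (f606400 IH) (Lpe (f556708 IH) (Lpe (f449379 IH) (Lpr_ct (K65.f699725 IH) (Lpe (K65.f832431 IH) (Lpe (K65.f746760 IH) (Lpr_bt (f194003 IH) (Lpr_gf (f901373 IH) (Lpe (f901372 IH) (Lpr_ct (f714897 IH) (Lpn (LP (LK LD1_c22 LD2_c5 LD3_c13)))))))))))))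
theorem f901375 : Led Lsl_gt (LP (LK LD1_c26 LD2_c54 LD3_c54)) = (LP (LK LD1_c22 LD2_c5 LD3_c13)) :=
  Leop (Lpe (f901374 IH) (Lpn (LP (LK LD1_c26 LD2_c54 LD3_c54))))
theorem seed_2235 : LEOK LG_g (LK LD1_c26 LD2_c54 LD3_c54) :=
  Leoe_g (LK LD1_c26 LD2_c54 LD3_c54) (f901375 IH)
def v38345 : LQ := Led Lsl_ct (LP (LK LD1_c9 LD2_c9 LD3_c5))
theorem f901413 : Led Lsl_ct (LP (LK LD1_c9 LD2_c9 LD3_c5)) = v38345 :=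
  Lrfl
theorem f641171 : Led Lsl_dt (LP (LK LD1_c17 LD2_c2 LD3_c9)) = (LP (LK LD1_c9 LD2_c9 LD3_c5)) :=
  Lre_d IH (LK LD1_c17 LD2_c2 LD3_c9) (LK LD1_c9 LD2_c9 LD3_c5) Lrfl Lrfl
theorem f900654 : Led Lsl_bt (LP (LK LD1_c9 LD2_c9 LD3_c5)) = (LP (LK LD1_c17 LD2_c1 LD3_c30)) :=
  Lgr Lrot95 (Lpe (f641171 IH) (Lpe (K55.f642802 IH) (Lpr_df (f900604 IH) (Lpn (LP (LK LD1_c17 LD2_c1 LD3_c30))))))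
theorem f616396 : Led Lsl_ct (LP (LK LD1_c17 LD2_c3 LD3_c53)) = (LP (LK LD1_c9 LD2_c10 LD3_c40)) :=
  Lre_c IH (LK LD1_c17 LD2_c3 LD3_c53) (LK LD1_c9 LD2_c10 LD3_c40) Lrfl Lrfl
theorem f901418 : Led Lsl_gt (LP (LK LD1_c9 LD2_c10 LD3_c40)) = v38345 :=
  Lgr Lrot65 (Lpe (f616396 IH) (Lpr_bt (K60.f743765 IH) (Lpr_gf (K57.f755834 IH) (Lpe (K52.f112504 IH) (Lpr_ct (K52.f112511 IH) (Lpr_gf (f876307 IH) (Lpe (f876309 IH) (Lpe (f700053 IH) (Lpe (f900654 IH) (Lpr_ct (f901413 IH) (Lpn v38345)))))))))))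
theorem f901415 : Led Lsl_cf (LP (LK LD1_c9 LD2_c9 LD3_c5)) = v38345 :=
  Lgr Lrot11 (Lpr_ct (f901413 IH) (Lpn v38345))
theorem f642816 : Led Lsl_ft (LP (LK LD1_c9 LD2_c10 LD3_c48)) = (LP (LK LD1_c17 LD2_c4 LD3_c4)) :=
  Lre_f IH (LK LD1_c9 LD2_c10 LD3_c48) (LK LD1_c17 LD2_c4 LD3_c4) Lrfl Lrfl
theorem f642817 : Led Lsl_at (LP (LK LD1_c17 LD2_c4 LD3_c4)) = (LP (LK LD1_c26 LD2_c57 LD3_c26)) :=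
  Lgr Lrot66 (Lpe (f642816 IH) (Lpe (K55.f642815 IH) (Lpr_ff (K55.f642813 IH) (Lpn (LP (LK LD1_c26 LD2_c57 LD3_c26))))))
theorem f206832 : Led Lsl_gt (LP (LK LD1_c9 LD2_c10 LD3_c48)) = (LP (LK LD1_c17 LD2_c4 LD3_c2)) :=
  Lre_g IH (LK LD1_c9 LD2_c10 LD3_c48) (LK LD1_c17 LD2_c4 LD3_c2) Lrfl Lrfl
theorem f642822 : Led Lsl_gt (LP (LK LD1_c17 LD2_c4 LD3_c2)) = (LP (LK LD1_c26 LD2_c57 LD3_c26)) :=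
  Lgr Lrot46 (Lpe (f206832 IH) (Lpr_ft (f642816 IH) (Lpr_at (f642817 IH) (Lpn (LP (LK LD1_c26 LD2_c57 LD3_c26))))))
theorem f614606 : Led Lsl_ct (LP (LK LD1_c26 LD2_c58 LD3_c28)) = (LP (LK LD1_c17 LD2_c4 LD3_c2)) :=
  Lre_c IH (LK LD1_c26 LD2_c58 LD3_c28) (LK LD1_c17 LD2_c4 LD3_c2) Lrfl Lrfl
theorem f901421 : Led Lsl_gt (LP (LK LD1_c20 LD2_c22 LD3_c52)) = (LP (LK LD1_c26 LD2_c58 LD3_c28)) :=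
  Lgr Lrot9 (Lpe (K42.f142100 IH) (Lpe (K57.f743760 IH) (Lpr_ct (f616396 IH) (Lpr_gt (f901418 IH) (Lpe (f901415 IH) (Lpe (f641171 IH) (Lpe (K55.f642804 IH) (Lpe (f642822 IH) (Lpe (f614606 IH) (Lpn (LP (LK LD1_c26 LD2_c58 LD3_c28))))))))))))
theorem f901422 : Led Lsl_gt (LP (LK LD1_c20 LD2_c22 LD3_c52)) = (LP (LK LD1_c26 LD2_c58 LD3_c28)) :=
  Leop (Lpe (f901421 IH) (Lpn (LP (LK LD1_c20 LD2_c22 LD3_c52))))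
theorem seed_2236 : LEOK LG_g (LK LD1_c20 LD2_c22 LD3_c52) :=
  Leoe_g (LK LD1_c20 LD2_c22 LD3_c52) (f901422 IH)
def v38347 : LQ := Led Lsl_gf (LP (LK LD1_c9 LD2_c9 LD3_c8))
theorem f901453 : Led Lsl_gf (LP (LK LD1_c9 LD2_c9 LD3_c8)) = v38347 :=
  Lrfl
theorem f452284 : Led Lsl_et (LP (LK LD1_c1 LD2_c36 LD3_c37)) = (LP (LK LD1_c0 LD2_c44 LD3_c46)) :=
  Lre_e IH (LK LD1_c1 LD2_c36 LD3_c37) (LK LD1_c0 LD2_c44 LD3_c46) Lrfl Lrfl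
def v8693 : LQ := Led Lsl_gt K65.v2153
theorem f672019 : Led Lsl_gt K65.v2153 = v8693 :=
  Lrfl
def v28907 : LQ := Led Lsl_dt v8693
theorem f846762 : Led Lsl_dt v8693 = v28907 :=
  Lrfl
theorem f846763 : Led Lsl_df v8693 = v28907 :=
  Lgr Lrot38 (Lpr_dt (f846762 IH) (Lpn v28907))
theorem f901454 : Led Lsl_et v28907 = v38347 :=
  Lgr Lrot121 (Lpe (f846763 IH) (Lpe (f672019 IH) (Lpe (K65.f509255 IH) (Lpr_et (f452284 IH) (Lpe (K4.f26401 IH) (Lpe (K35.f79951 IH) (Lpr_dt (K50.f80187 IH) (Lpr_gf (K50.f700243 IH) (Lpe (K50.f700247 IH) (Lpr_gf (f901453 IH) (Lpn v38347)))))))))))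
theorem f901455 : Led Lsl_ef v28907 = v38347 :=
  Lgr Lrot88 (Lpr_et (f901454 IH) (Lpn v38347))
theorem f509274 : Led Lsl_et (LP (LK LD1_c4 LD2_c36 LD3_c37)) = K65.v2153 :=
  Lgr Lrot87 (Lpr_ef (K65.f509261 IH) (Lpn K65.v2153))
def v16539 : LQ := Led Lsl_et (LP (LK LD1_c6 LD2_c2 LD3_c28))
theorem f750272 : Led Lsl_et (LP (LK LD1_c6 LD2_c2 LD3_c28)) = v16539 :=
  Lrfl
theorem f750276 : Led Lsl_ff (LP (LK LD1_c9 LD2_c7 LD3_c54)) = v16539 :=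
  Lgr Lrot72 (Lpr_et (K51.f508536 IH) (Lpe (K51.f508530 IH) (Lpr_et (K45.f508535 IH) (Lpe (K50.f614614 IH) (Lpr_et (f750272 IH) (Lpn v16539))))))
theorem f652977 : Led Lsl_ft (LP (LK LD1_c9 LD2_c31 LD3_c20)) = K55.v6357 :=
  Lgr Lrot48 (Lpr_ff (K66.f652976 IH) (Lpn K55.v6357))
theorem f750279 : Led Lsl_dt K55.v6357 = v16539 :=
  Lgr Lrot60 (Lpe (f652977 IH) (Lpe (K51.f622274 IH) (Lpr_ff (f750276 IH) (Lpn v16539))))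
theorem f846764 : Led Lsl_gf v16539 = v28907 :=
  Lgr Lrot134 (Lpe (f750279 IH) (Lpe (K55.f652975 IH) (Lpr_gt (K45.f72026 IH) (Lpe (f72047 IH) (Lpr_dt (K45.f442501 IH) (Lpr_gt (K37.f500522 IH) (Lpq (K37.f542336 IH) (Lpe (K45.f99682 IH) (Lpr_et (f509274 IH) (Lpr_gt (f672019 IH) (Lpr_dt (f846762 IH) (Lpn v28907))))))))))))
theorem f750274 : Led Lsl_df K55.v6357 = v16539 :=
  Lgr Lrot70 (Lpe (K55.f652975 IH) (Lpe (K55.f116994 IH) (Lpr_et (K45.f69219 IH) (Lpr_dt (K49.f69214 IH) (Lpr_et (f750272 IH) (Lpn v16539))))))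
def v16520 : LQ := Led Lsl_gf (LP (LK LD1_c6 LD2_c2 LD3_c1))
theorem f750166 : Led Lsl_gf (LP (LK LD1_c6 LD2_c2 LD3_c1)) = v16520 :=
  Lrfl
def v6318 : LQ := Led Lsl_ft (LP (LK LD1_c3 LD2_c20 LD3_c27))
theorem f652697 : Led Lsl_ft (LP (LK LD1_c3 LD2_c20 LD3_c27)) = v6318 :=
  Lrfl
theorem f652699 : Led Lsl_ff (LP (LK LD1_c3 LD2_c20 LD3_c27)) = v6318 :=
  Lgr Lrot3 (Lpr_ft (f652697 IH) (Lpn v6318))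
theorem f652692 : Led Lsl_ff K46.v2151 = K55.v6315 :=
  Lgr Lrot3 (Lpr_ft (K55.f652691 IH) (Lpn K55.v6315))
theorem f652700 : Led Lsl_at K46.v2151 = v6318 :=
  Lgr Lrot66 (Lpr_ff (f652692 IH) (Lpe (K55.f652689 IH) (Lpr_ff (f652699 IH) (Lpn v6318))))
theorem f698907 : v6318 = K51.v5076 :=
  Lefun (Lecon (f652700 IH) (K52.f698902 IH)) (K51.f645204 IH)
theorem f80190 : Led Lsl_dt (LP (LK LD1_c9 LD2_c11 LD3_c22)) = (LP (LK LD1_c4 LD2_c37 LD3_c51)) :=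
  Lre_d IH (LK LD1_c9 LD2_c11 LD3_c22) (LK LD1_c4 LD2_c37 LD3_c51) Lrfl Lrfl
theorem f700456 : Led Lsl_ff (LP (LK LD1_c9 LD2_c11 LD3_c22)) = (LP (LK LD1_c6 LD2_c44 LD3_c40)) :=
  Lgr Lrot19 (Lpr_dt (f80190 IH) (Lpq (K51.f700261 IH) (Lpq (K51.f669256 IH) (Lpq (f698907 IH) (Lpe (f652699 IH) (Lpr_dt (K55.f116925 IH) (Lpn (LP (LK LD1_c6 LD2_c44 LD3_c40)))))))))
theorem f645213 : Led Lsl_bf (LP (LK LD1_c2 LD2_c57 LD3_c8)) = K55.v5079 :=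
  Lgr Lrot24 (Lpr_bt (K55.f645212 IH) (Lpn K55.v5079))
theorem f698989 : Led Lsl_ft (LP (LK LD1_c5 LD2_c59 LD3_c57)) = (LP (LK LD1_c9 LD2_c30 LD3_c21)) :=
  Lgr Lrot48 (Lpr_ff (K55.f698985 IH) (Lpn (LP (LK LD1_c9 LD2_c30 LD3_c21))))
theorem f669248 : Led Lsl_at (LP (LK LD1_c9 LD2_c13 LD3_c7)) = (LP (LK LD1_c5 LD2_c59 LD3_c57)) :=
  Lgr Lrot100 (Lpr_af (K55.f669245 IH) (Lpn (LP (LK LD1_c5 LD2_c59 LD3_c57))))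
theorem f698993 : Led Lsl_af K55.v5079 = (LP (LK LD1_c9 LD2_c30 LD3_c21)) :=
  Lgr Lrot45 (Lpe (K55.f645215 IH) (Lpr_at (f669248 IH) (Lpr_ft (f698989 IH) (Lpn (LP (LK LD1_c9 LD2_c30 LD3_c21))))))
theorem f700310 : Led Lsl_at (LP (LK LD1_c9 LD2_c11 LD3_c24)) = (LP (LK LD1_c6 LD2_c44 LD3_c40)) :=
  Lgr Lrot67 (Lpr_bf (K55.f700308 IH) (Lpe (K32.f508019 IH) (Lpr_bf (f645213 IH) (Lpr_af (f698993 IH) (Lpr_bf (K55.f699005 IH) (Lpn (LP (LK LD1_c6 LD2_c44 LD3_c40))))))))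
theorem f210115 : Led Lsl_ct (LP (LK LD1_c6 LD2_c2 LD3_c5)) = (LP (LK LD1_c2 LD2_c57 LD3_c8)) :=
  Lre_c IH (LK LD1_c6 LD2_c2 LD3_c5) (LK LD1_c2 LD2_c57 LD3_c8) Lrfl Lrfl
theorem f210132 : Led Lsl_ct (LP (LK LD1_c4 LD2_c38 LD3_c40)) = (LP (LK LD1_c9 LD2_c13 LD3_c10)) :=
  Lre_c IH (LK LD1_c4 LD2_c38 LD3_c40) (LK LD1_c9 LD2_c13 LD3_c10) Lrfl Lrfl
theorem f508023 : Led Lsl_af (LP (LK LD1_c6 LD2_c2 LD3_c5)) = (LP (LK LD1_c9 LD2_c13 LD3_c10)) :=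
  Lgr Lrot68 (Lpr_ct (f210115 IH) (Lpr_at (K32.f508019 IH) (Lpr_ct (f210132 IH) (Lpn (LP (LK LD1_c9 LD2_c13 LD3_c10))))))
theorem f61332 : Led Lsl_dt (LP (LK LD1_c2 LD2_c50 LD3_c28)) = (LP (LK LD1_c1 LD2_c21 LD3_c14)) :=
  Lre_d IH (LK LD1_c2 LD2_c50 LD3_c28) (LK LD1_c1 LD2_c21 LD3_c14) Lrfl Lrfl
theorem f57654 : Led Lsl_ct (LP (LK LD1_c5 LD2_c48 LD3_c51)) = (LP (LK LD1_c11 LD2_c27 LD3_c7)) :=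
  Lre_c IH (LK LD1_c5 LD2_c48 LD3_c51) (LK LD1_c11 LD2_c27 LD3_c7) Lrfl Lrfl
theorem f437477 : Led Lsl_gf (LP (LK LD1_c6 LD2_c2 LD3_c5)) = (LP (LK LD1_c11 LD2_c27 LD3_c7)) :=
  Lgr Lrot104 (Lpr_ct (f210115 IH) (Lpe (K51.f69107 IH) (Lpe (K16.f415424 IH) (Lpe (K24.f416812 IH) (Lpe (K24.f146072 IH) (Lpr_gf (K24.f437474 IH) (Lpe (f61332 IH) (Lpr_gt (K32.f57133 IH) (Lpr_ct (f57654 IH) (Lpn (LP (LK LD1_c11 LD2_c27 LD3_c7))))))))))))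
theorem f435302 : Led Lsl_ct (LP (LK LD1_c2 LD2_c57 LD3_c7)) = (LP (LK LD1_c6 LD2_c2 LD3_c4)) :=
  Lre_c IH (LK LD1_c2 LD2_c57 LD3_c7) (LK LD1_c6 LD2_c2 LD3_c4) Lrfl Lrfl
theorem f57621 : Led Lsl_ct (LP (LK LD1_c3 LD2_c6 LD3_c8)) = (LP (LK LD1_c5 LD2_c47 LD3_c41)) :=
  Lgr Lrot7 (Lpr_df (K32.f57611 IH) (Lpe (K24.f57131 IH) (Lpe (K24.f57130 IH) (Lpe (K24.f57129 IH) (Lpr_cf (K32.f57118 IH) (Lpr_gt (K24.f56661 IH) (Lpr_dt (K32.f57132 IH) (Lpr_gt (K32.f57133 IH) (Lpr_dt (K32.f57134 IH) (Lpn (LP (LK LD1_c5 LD2_c47 LD3_c41))))))))))))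
theorem f57628 : Led Lsl_ct (LP (LK LD1_c11 LD2_c27 LD3_c7)) = (LP (LK LD1_c5 LD2_c48 LD3_c51)) :=
  Lre_c IH (LK LD1_c11 LD2_c27 LD3_c7) (LK LD1_c5 LD2_c48 LD3_c51) Lrfl Lrfl
theorem f507538 : Led Lsl_gt (LP (LK LD1_c6 LD2_c2 LD3_c4)) = (LP (LK LD1_c11 LD2_c27 LD3_c7)) :=
  Lgr Lrot150 (Lpe (f435302 IH) (Lpe (K50.f419067 IH) (Lpr_df (K50.f507533 IH) (Lpr_gt (K32.f504734 IH) (Lpr_ct (K32.f504726 IH) (Lpe (K50.f416168 IH) (Lpr_ct (f57621 IH) (Lpe (K32.f57134 IH) (Lpe (f57628 IH) (Lpn (LP (LK LD1_c11 LD2_c27 LD3_c7))))))))))))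
theorem f508500 : Led Lsl_ft (LP (LK LD1_c6 LD2_c2 LD3_c4)) = (LP (LK LD1_c9 LD2_c13 LD3_c10)) :=
  Lgr Lrot2 (Lpr_gt (f507538 IH) (Lpe (f437477 IH) (Lpr_af (f508023 IH) (Lpn (LP (LK LD1_c9 LD2_c13 LD3_c10))))))
theorem f508504 : Led Lsl_ff (LP (LK LD1_c6 LD2_c2 LD3_c4)) = (LP (LK LD1_c9 LD2_c13 LD3_c10)) :=
  Lgr Lrot3 (Lpr_ft (f508500 IH) (Lpn (LP (LK LD1_c9 LD2_c13 LD3_c10))))
theorem f435303 : Led Lsl_ct (LP (LK LD1_c6 LD2_c2 LD3_c4)) = (LP (LK LD1_c2 LD2_c57 LD3_c7)) :=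
  Lre_c IH (LK LD1_c6 LD2_c2 LD3_c4) (LK LD1_c2 LD2_c57 LD3_c7) Lrfl Lrfl
theorem f508506 : Led Lsl_ft (LP (LK LD1_c2 LD2_c57 LD3_c7)) = (LP (LK LD1_c4 LD2_c38 LD3_c40)) :=
  Lgr Lrot4 (Lpe (f435303 IH) (Lpr_ff (f508504 IH) (Lpe (f210132 IH) (Lpn (LP (LK LD1_c4 LD2_c38 LD3_c40))))))
theorem f700314 : Led Lsl_ft (LP (LK LD1_c9 LD2_c11 LD3_c24)) = (LP (LK LD1_c6 LD2_c2 LD3_c1)) :=
  Lgr Lrot75 (Lpr_bf (K55.f700308 IH) (Lpe (f508506 IH) (Lpe (K56.f444224 IH) (Lpn (LP (LK LD1_c6 LD2_c2 LD3_c1))))))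
theorem f700316 : Led Lsl_ff (LP (LK LD1_c9 LD2_c11 LD3_c24)) = (LP (LK LD1_c6 LD2_c2 LD3_c1)) :=
  Lgr Lrot3 (Lpr_ft (f700314 IH) (Lpn (LP (LK LD1_c6 LD2_c2 LD3_c1))))
theorem f700458 : Led Lsl_at (LP (LK LD1_c9 LD2_c11 LD3_c22)) = (LP (LK LD1_c6 LD2_c2 LD3_c1)) :=
  Lgr Lrot66 (Lpr_ff (f700456 IH) (Lpe (f700310 IH) (Lpr_ff (f700316 IH) (Lpn (LP (LK LD1_c6 LD2_c2 LD3_c1))))))
theorem f750167 : Led Lsl_gt (LP (LK LD1_c6 LD2_c44 LD3_c40)) = v16520 :=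
  Lgr Lrot5 (Lpe (f700456 IH) (Lpr_at (f700458 IH) (Lpr_gf (f750166 IH) (Lpn v16520))))
theorem f901456 : Led Lsl_df v16520 = v38347 :=
  Lgr Lrot168 (Lpe (f750167 IH) (Lpe (K55.f116925 IH) (Lpr_et (K55.f116911 IH) (Lpqs (K55.f747242 IH) (Lpe (K55.f652884 IH) (Lpe (K51.f509299 IH) (Lpr_dt (K46.f142147 IH) (Lpe (K46.f652734 IH) (Lpq (K55.f748094 IH) (Lpr_df (f750274 IH) (Lpr_gf (f846764 IH) (Lpr_ef (f901455 IH) (Lpn v38347)))))))))))))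
theorem f698942 : Led Lsl_gt (LP (LK LD1_c11 LD2_c48 LD3_c39)) = (LP (LK LD1_c20 LD2_c51 LD3_c11)) :=
  Lre_g IH (LK LD1_c11 LD2_c48 LD3_c39) (LK LD1_c20 LD2_c51 LD3_c11) Lrfl Lrfl
theorem f504744 : Led Lsl_gt (LP (LK LD1_c17 LD2_c2 LD3_c12)) = (LP (LK LD1_c26 LD2_c57 LD3_c27)) :=
  Lre_g IH (LK LD1_c17 LD2_c2 LD3_c12) (LK LD1_c26 LD2_c57 LD3_c27) Lrfl Lrfl
theorem f774595 : Led Lsl_ff (LP (LK LD1_c17 LD2_c5 LD3_c30)) = (LP (LK LD1_c12 LD2_c43 LD3_c13)) :=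
  Lgr Lrot3 (Lpr_ft (K59.f774589 IH) (Lpn (LP (LK LD1_c12 LD2_c43 LD3_c13))))
theorem f642436 : Led Lsl_at (LP (LK LD1_c21 LD2_c50 LD3_c57)) = (LP (LK LD1_c17 LD2_c2 LD3_c12)) :=
  Lgr Lrot80 (Lpr_ef (K46.f642434 IH) (Lpe (K45.f504760 IH) (Lpe (K45.f504740 IH) (Lpn (LP (LK LD1_c17 LD2_c2 LD3_c12))))))
theorem f642847 : Led Lsl_at (LP (LK LD1_c17 LD2_c5 LD3_c30)) = (LP (LK LD1_c12 LD2_c43 LD3_c48)) :=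
  Lgr Lrot51 (Lpr_df (K50.f642845 IH) (Lpe (f642436 IH) (Lpe (K46.f498204 IH) (Lpn (LP (LK LD1_c12 LD2_c43 LD3_c48))))))
theorem f774601 : Led Lsl_gf (LP (LK LD1_c17 LD2_c5 LD3_c32)) = (LP (LK LD1_c12 LD2_c43 LD3_c13)) :=
  Lgr Lrot47 (Lpr_gt (K46.f498198 IH) (Lpe (f642847 IH) (Lpr_ff (f774595 IH) (Lpn (LP (LK LD1_c12 LD2_c43 LD3_c13))))))
theorem f774603 : Led Lsl_gt (LP (LK LD1_c6 LD2_c39 LD3_c4)) = (LP (LK LD1_c12 LD2_c43 LD3_c13)) :=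
  Lgr Lrot5 (Lpr_ft (K32.f57004 IH) (Lpe (K32.f498196 IH) (Lpr_gf (f774601 IH) (Lpn (LP (LK LD1_c12 LD2_c43 LD3_c13))))))
theorem f56995 : Led Lsl_dt (LP (LK LD1_c6 LD2_c39 LD3_c4)) = (LP (LK LD1_c3 LD2_c17 LD3_c47)) :=
  Lre_d IH (LK LD1_c6 LD2_c39 LD3_c4) (LK LD1_c3 LD2_c17 LD3_c47) Lrfl Lrfl
def v5074 : LQ := Led Lsl_gt (LP (LK LD1_c2 LD2_c57 LD3_c6))
theorem f645199 : Led Lsl_gt (LP (LK LD1_c2 LD2_c57 LD3_c6)) = v5074 :=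
  Lrfl
theorem f698903 : (LP (LK LD1_c4 LD2_c37 LD3_c54)) = v5074 :=
  Lefun (Lecon (Lfl_gf (K46.f509248 IH)) (K52.f698902 IH)) (f645199 IH)
theorem f207108 : Led Lsl_ct (LP (LK LD1_c26 LD2_c58 LD3_c58)) = (LP (LK LD1_c17 LD2_c4 LD3_c54)) :=
  Lre_c IH (LK LD1_c26 LD2_c58 LD3_c58) (LK LD1_c17 LD2_c4 LD3_c54) Lrfl Lrfl
theorem f650885 : Led Lsl_ct (LP (LK LD1_c12 LD2_c43 LD3_c13)) = (LP (LK LD1_c21 LD2_c50 LD3_c26)) :=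
  Lre_c IH (LK LD1_c12 LD2_c43 LD3_c13) (LK LD1_c21 LD2_c50 LD3_c26) Lrfl Lrfl
theorem f774727 : Led Lsl_gf (LP (LK LD1_c26 LD2_c58 LD3_c58)) = (LP (LK LD1_c21 LD2_c50 LD3_c26)) :=
  Lgr Lrot104 (Lpr_ct (f207108 IH) (Lpe (K52.f152556 IH) (Lpe (K52.f152550 IH) (Lpqs (f698903 IH) (Lpe (f645199 IH) (Lpe (K59.f419069 IH) (Lpq (K52.f698908 IH) (Lpe (K46.f651071 IH) (Lpe (f56995 IH) (Lpr_gt (f774603 IH) (Lpr_ct (f650885 IH) (Lpn (LP (LK LD1_c21 LD2_c50 LD3_c26))))))))))))))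
theorem f207153 : Led Lsl_dt (LP (LK LD1_c12 LD2_c53 LD3_c48)) = (LP (LK LD1_c6 LD2_c44 LD3_c39)) :=
  Lre_d IH (LK LD1_c12 LD2_c53 LD3_c48) (LK LD1_c6 LD2_c44 LD3_c39) Lrfl Lrfl
theorem f207213 : Led Lsl_at (LP (LK LD1_c17 LD2_c4 LD3_c54)) = (LP (LK LD1_c12 LD2_c53 LD3_c48)) :=
  Lgr Lrot51 (Lpe (K52.f152556 IH) (Lpr_af (K55.f207202 IH) (Lpe (f207153 IH) (Lpn (LP (LK LD1_c12 LD2_c53 LD3_c48))))))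
theorem f207222 : Led Lsl_ct (LP (LK LD1_c12 LD2_c53 LD3_c48)) = (LP (LK LD1_c22 LD2_c3 LD3_c34)) :=
  Lre_c IH (LK LD1_c12 LD2_c53 LD3_c48) (LK LD1_c22 LD2_c3 LD3_c34) Lrfl Lrfl
theorem f207223 : Led Lsl_af (LP (LK LD1_c26 LD2_c58 LD3_c58)) = (LP (LK LD1_c22 LD2_c3 LD3_c34)) :=
  Lgr Lrot68 (Lpr_ct (f207108 IH) (Lpr_at (f207213 IH) (Lpr_ct (f207222 IH) (Lpn (LP (LK LD1_c22 LD2_c3 LD3_c34))))))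
theorem f207229 : Led Lsl_ft (LP (LK LD1_c12 LD2_c53 LD3_c47)) = (LP (LK LD1_c22 LD2_c3 LD3_c34)) :=
  Lre_f IH (LK LD1_c12 LD2_c53 LD3_c47) (LK LD1_c22 LD2_c3 LD3_c34) Lrfl Lrfl
theorem f774729 : Led Lsl_gt (LP (LK LD1_c12 LD2_c53 LD3_c47)) = (LP (LK LD1_c21 LD2_c50 LD3_c26)) :=
  Lgr Lrot5 (Lpr_ft (f207229 IH) (Lpe (f207223 IH) (Lpr_gf (f774727 IH) (Lpn (LP (LK LD1_c21 LD2_c50 LD3_c26))))))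
theorem f207087 : Led Lsl_ct (LP (LK LD1_c6 LD2_c44 LD3_c38)) = (LP (LK LD1_c12 LD2_c53 LD3_c47)) :=
  Lre_c IH (LK LD1_c6 LD2_c44 LD3_c38) (LK LD1_c12 LD2_c53 LD3_c47) Lrfl Lrfl
theorem f650876 : Led Lsl_ct (LP (LK LD1_c21 LD2_c50 LD3_c26)) = (LP (LK LD1_c12 LD2_c43 LD3_c13)) :=
  Lre_c IH (LK LD1_c21 LD2_c50 LD3_c26) (LK LD1_c12 LD2_c43 LD3_c13) Lrfl Lrfl
theorem f774599 : Led Lsl_dt (LP (LK LD1_c20 LD2_c51 LD3_c16)) = (LP (LK LD1_c12 LD2_c43 LD3_c13)) :=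
  Lgr Lrot60 (Lpr_ff (K45.f507553 IH) (Lpe (K50.f642849 IH) (Lpr_ff (f774595 IH) (Lpn (LP (LK LD1_c12 LD2_c43 LD3_c13))))))
theorem f774731 : Led Lsl_gt (LP (LK LD1_c22 LD2_c3 LD3_c30)) = (LP (LK LD1_c17 LD2_c10 LD3_c5)) :=
  Lgr Lrot9 (Lpe (K55.f207217 IH) (Lpr_gt (K55.f207096 IH) (Lpr_ct (f207087 IH) (Lpr_gt (f774729 IH) (Lpr_ct (f650876 IH) (Lpe (f774599 IH) (Lpe (K45.f415438 IH) (Lpe (K59.f710796 IH) (Lpe (K59.f710801 IH) (Lpn (LP (LK LD1_c17 LD2_c10 LD3_c5))))))))))))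
theorem f152544 : Led Lsl_dt (LP (LK LD1_c9 LD2_c11 LD3_c17)) = (LP (LK LD1_c17 LD2_c4 LD3_c49)) :=
  Lre_d IH (LK LD1_c9 LD2_c11 LD3_c17) (LK LD1_c17 LD2_c4 LD3_c49) Lrfl Lrfl
theorem f152596 : Led Lsl_gt (LP (LK LD1_c17 LD2_c4 LD3_c49)) = (LP (LK LD1_c26 LD2_c58 LD3_c54)) :=
  Lre_g IH (LK LD1_c17 LD2_c4 LD3_c49) (LK LD1_c26 LD2_c58 LD3_c54) Lrfl Lrfl
theorem f752436 : Led Lsl_et (LP (LK LD1_c17 LD2_c10 LD3_c5)) = (LP (LK LD1_c9 LD2_c15 LD3_c34)) :=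
  Lre_e IH (LK LD1_c17 LD2_c10 LD3_c5) (LK LD1_c9 LD2_c15 LD3_c34) Lrfl Lrfl
theorem f752437 : Led Lsl_df (LP (LK LD1_c26 LD2_c58 LD3_c54)) = (LP (LK LD1_c17 LD2_c10 LD3_c5)) :=
  Lgr Lrot132 (Lpe (f152596 IH) (Lpe (f152544 IH) (Lpe (K55.f152543 IH) (Lpe (K35.f152559 IH) (Lpr_dt (K11.f152564 IH) (Lpe (K36.f152570 IH) (Lpr_df (K56.f206943 IH) (Lpr_et (K56.f157884 IH) (Lpr_gf (K56.f752432 IH) (Lpe (f752436 IH) (Lpn (LP (LK LD1_c17 LD2_c10 LD3_c5)))))))))))))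
theorem f742007 : Led Lsl_ff (LP (LK LD1_c12 LD2_c53 LD3_c40)) = K55.v15843 :=
  Lgr Lrot3 (Lpr_ft (K55.f742006 IH) (Lpn K55.v15843))
theorem f743609 : Led Lsl_ft (LP (LK LD1_c6 LD2_c44 LD3_c36)) = (LP (LK LD1_c9 LD2_c11 LD3_c18)) :=
  Lgr Lrot4 (Lpe (K55.f207218 IH) (Lpr_ff (f742007 IH) (Lpr_cf (K67.f743599 IH) (Lpn (LP (LK LD1_c9 LD2_c11 LD3_c18))))))
theorem f743615 : Led Lsl_ff (LP (LK LD1_c6 LD2_c44 LD3_c36)) = (LP (LK LD1_c9 LD2_c11 LD3_c18)) :=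
  Lgr Lrot3 (Lpr_ft (f743609 IH) (Lpn (LP (LK LD1_c9 LD2_c11 LD3_c18))))
theorem f141893 : Led Lsl_dt (LP (LK LD1_c6 LD2_c44 LD3_c36)) = (LP (LK LD1_c12 LD2_c53 LD3_c41)) :=
  Lre_d IH (LK LD1_c6 LD2_c44 LD3_c36) (LK LD1_c12 LD2_c53 LD3_c41) Lrfl Lrfl
theorem f152585 : Led Lsl_dt (LP (LK LD1_c17 LD2_c4 LD3_c51)) = (LP (LK LD1_c9 LD2_c11 LD3_c18)) :=
  Lre_d IH (LK LD1_c17 LD2_c4 LD3_c51) (LK LD1_c9 LD2_c11 LD3_c18) Lrfl Lrfl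
theorem f743619 : Led Lsl_ft (LP (LK LD1_c12 LD2_c53 LD3_c41)) = (LP (LK LD1_c17 LD2_c4 LD3_c51)) :=
  Lgr Lrot54 (Lpe (f141893 IH) (Lpr_ff (f743615 IH) (Lpe (f152585 IH) (Lpn (LP (LK LD1_c17 LD2_c4 LD3_c51))))))
theorem f207212 : Led Lsl_dt (LP (LK LD1_c12 LD2_c53 LD3_c44)) = (LP (LK LD1_c6 LD2_c44 LD3_c37)) :=
  Lre_d IH (LK LD1_c12 LD2_c53 LD3_c44) (LK LD1_c6 LD2_c44 LD3_c37) Lrfl Lrfl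
theorem f207270 : Led Lsl_dt (LP (LK LD1_c9 LD2_c11 LD3_c18)) = (LP (LK LD1_c17 LD2_c4 LD3_c51)) :=
  Lre_d IH (LK LD1_c9 LD2_c11 LD3_c18) (LK LD1_c17 LD2_c4 LD3_c51) Lrfl Lrfl
theorem f743600 : Led Lsl_af (LP (LK LD1_c12 LD2_c53 LD3_c44)) = (LP (LK LD1_c17 LD2_c4 LD3_c51)) :=
  Lgr Lrot117 (Lpr_dt (f207212 IH) (Lpr_at (K67.f743595 IH) (Lpr_dt (f207270 IH) (Lpn (LP (LK LD1_c17 LD2_c4 LD3_c51))))))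
theorem f207207 : Led Lsl_dt (LP (LK LD1_c6 LD2_c44 LD3_c37)) = (LP (LK LD1_c12 LD2_c53 LD3_c44)) :=
  Lre_d IH (LK LD1_c6 LD2_c44 LD3_c37) (LK LD1_c12 LD2_c53 LD3_c44) Lrfl Lrfl
theorem f152582 : Led Lsl_dt (LP (LK LD1_c17 LD2_c4 LD3_c49)) = (LP (LK LD1_c9 LD2_c11 LD3_c17)) :=
  Lre_d IH (LK LD1_c17 LD2_c4 LD3_c49) (LK LD1_c9 LD2_c11 LD3_c17) Lrfl Lrfl
theorem f743591 : Led Lsl_ft (LP (LK LD1_c12 LD2_c53 LD3_c44)) = (LP (LK LD1_c17 LD2_c4 LD3_c49)) :=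
  Lgr Lrot54 (Lpe (f207207 IH) (Lpr_ff (K60.f743574 IH) (Lpe (f152582 IH) (Lpn (LP (LK LD1_c17 LD2_c4 LD3_c49))))))
theorem f743622 : Led Lsl_af (LP (LK LD1_c12 LD2_c53 LD3_c41)) = (LP (LK LD1_c17 LD2_c4 LD3_c49)) :=
  Lgr Lrot45 (Lpr_ft (f743619 IH) (Lpe (f743600 IH) (Lpr_ft (f743591 IH) (Lpn (LP (LK LD1_c17 LD2_c4 LD3_c49))))))
theorem f622173 : Led Lsl_ct (LP (LK LD1_c12 LD2_c53 LD3_c41)) = (LP (LK LD1_c22 LD2_c3 LD3_c24)) :=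
  Lre_c IH (LK LD1_c12 LD2_c53 LD3_c41) (LK LD1_c22 LD2_c3 LD3_c24) Lrfl Lrfl
theorem f741856 : Led Lsl_ct (LP (LK LD1_c26 LD2_c58 LD3_c55)) = (LP (LK LD1_c17 LD2_c4 LD3_c49)) :=
  Lre_c IH (LK LD1_c26 LD2_c58 LD3_c55) (LK LD1_c17 LD2_c4 LD3_c49) Lrfl Lrfl
theorem f743632 : Led Lsl_at (LP (LK LD1_c22 LD2_c3 LD3_c24)) = (LP (LK LD1_c26 LD2_c58 LD3_c55)) :=
  Lgr Lrot107 (Lpe (f622173 IH) (Lpr_af (f743622 IH) (Lpe (f741856 IH) (Lpn (LP (LK LD1_c26 LD2_c58 LD3_c55))))))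
theorem f700523 : Led Lsl_ct (LP (LK LD1_c22 LD2_c3 LD3_c24)) = (LP (LK LD1_c12 LD2_c53 LD3_c41)) :=
  Lre_c IH (LK LD1_c22 LD2_c3 LD3_c24) (LK LD1_c12 LD2_c53 LD3_c41) Lrfl Lrfl
theorem f207271 : Led Lsl_ct (LP (LK LD1_c17 LD2_c4 LD3_c51)) = (LP (LK LD1_c26 LD2_c58 LD3_c57)) :=
  Lre_c IH (LK LD1_c17 LD2_c4 LD3_c51) (LK LD1_c26 LD2_c58 LD3_c57) Lrfl Lrfl
theorem f743624 : Led Lsl_ff (LP (LK LD1_c22 LD2_c3 LD3_c24)) = (LP (LK LD1_c26 LD2_c58 LD3_c57)) :=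
  Lgr Lrot23 (Lpr_ct (f700523 IH) (Lpr_ft (f743619 IH) (Lpr_ct (f207271 IH) (Lpn (LP (LK LD1_c26 LD2_c58 LD3_c57))))))
theorem f207209 : Led Lsl_ct (LP (LK LD1_c12 LD2_c53 LD3_c44)) = (LP (LK LD1_c22 LD2_c3 LD3_c25)) :=
  Lre_c IH (LK LD1_c12 LD2_c53 LD3_c44) (LK LD1_c22 LD2_c3 LD3_c25) Lrfl Lrfl
theorem f207272 : Led Lsl_ct (LP (LK LD1_c26 LD2_c58 LD3_c57)) = (LP (LK LD1_c17 LD2_c4 LD3_c51)) :=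
  Lre_c IH (LK LD1_c26 LD2_c58 LD3_c57) (LK LD1_c17 LD2_c4 LD3_c51) Lrfl Lrfl
theorem f743604 : Led Lsl_at (LP (LK LD1_c22 LD2_c3 LD3_c25)) = (LP (LK LD1_c26 LD2_c58 LD3_c57)) :=
  Lgr Lrot107 (Lpe (f207209 IH) (Lpr_af (f743600 IH) (Lpe (f207272 IH) (Lpn (LP (LK LD1_c26 LD2_c58 LD3_c57))))))
theorem f743638 : Led Lsl_ff (LP (LK LD1_c22 LD2_c3 LD3_c25)) = (LP (LK LD1_c26 LD2_c58 LD3_c55)) :=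
  Lgr Lrot30 (Lpr_at (f743604 IH) (Lpe (f743624 IH) (Lpr_at (f743632 IH) (Lpn (LP (LK LD1_c26 LD2_c58 LD3_c55))))))
theorem f743641 : Led Lsl_ft (LP (LK LD1_c22 LD2_c3 LD3_c25)) = (LP (LK LD1_c26 LD2_c58 LD3_c55)) :=
  Lgr Lrot48 (Lpr_ff (f743638 IH) (Lpn (LP (LK LD1_c26 LD2_c58 LD3_c55))))
theorem f743643 : Led Lsl_ff (LP (LK LD1_c12 LD2_c53 LD3_c44)) = (LP (LK LD1_c17 LD2_c4 LD3_c49)) :=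
  Lgr Lrot23 (Lpr_ct (f207209 IH) (Lpr_ft (f743641 IH) (Lpr_ct (f741856 IH) (Lpn (LP (LK LD1_c17 LD2_c4 LD3_c49))))))
theorem f743602 : Led Lsl_at (LP (LK LD1_c12 LD2_c53 LD3_c44)) = (LP (LK LD1_c17 LD2_c4 LD3_c51)) :=
  Lgr Lrot100 (Lpr_af (f743600 IH) (Lpn (LP (LK LD1_c17 LD2_c4 LD3_c51))))
theorem f743645 : Led Lsl_gf (LP (LK LD1_c17 LD2_c4 LD3_c51)) = (LP (LK LD1_c26 LD2_c58 LD3_c54)) :=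
  Lgr Lrot76 (Lpe (f743602 IH) (Lpr_ff (f743643 IH) (Lpr_gt (f152596 IH) (Lpn (LP (LK LD1_c26 LD2_c58 LD3_c54))))))
theorem f57086 : Led Lsl_dt (LP (LK LD1_c17 LD2_c59 LD3_c28)) = (LP (LK LD1_c9 LD2_c49 LD3_c4)) :=
  Lre_d IH (LK LD1_c17 LD2_c59 LD3_c28) (LK LD1_c9 LD2_c49 LD3_c4) Lrfl Lrfl
theorem f699146 : Led Lsl_dt (LP (LK LD1_c11 LD2_c26 LD3_c29)) = (LP (LK LD1_c5 LD2_c48 LD3_c30)) :=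
  Lre_d IH (LK LD1_c11 LD2_c26 LD3_c29) (LK LD1_c5 LD2_c48 LD3_c30) Lrfl Lrfl
theorem f57006 : Led Lsl_dt (LP (LK LD1_c9 LD2_c49 LD3_c3)) = (LP (LK LD1_c17 LD2_c59 LD3_c26)) :=
  Lre_d IH (LK LD1_c9 LD2_c49 LD3_c3) (LK LD1_c17 LD2_c59 LD3_c26) Lrfl Lrfl
theorem f743576 : Led Lsl_ff (LP (LK LD1_c11 LD2_c26 LD3_c29)) = (LP (LK LD1_c17 LD2_c59 LD3_c26)) :=
  Lgr Lrot19 (Lpr_dt (f699146 IH) (Lpr_ft (K55.f742008 IH) (Lpqs (K60.f742067 IH) (Lpq (K55.f743565 IH) (Lpr_dt (f57006 IH) (Lpn (LP (LK LD1_c17 LD2_c59 LD3_c26))))))))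
theorem f743580 : Led Lsl_ft (LP (LK LD1_c11 LD2_c26 LD3_c29)) = (LP (LK LD1_c17 LD2_c59 LD3_c26)) :=
  Lgr Lrot48 (Lpr_ff (f743576 IH) (Lpn (LP (LK LD1_c17 LD2_c59 LD3_c26))))
theorem f741841 : Led Lsl_bt (LP (LK LD1_c5 LD2_c48 LD3_c32)) = (LP (LK LD1_c11 LD2_c26 LD3_c29)) :=
  Lre_b IH (LK LD1_c5 LD2_c48 LD3_c32) (LK LD1_c11 LD2_c26 LD3_c29) Lrfl Lrfl
theorem f743582 : Led Lsl_bf K55.v15838 = (LP (LK LD1_c17 LD2_c59 LD3_c26)) :=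
  Lgr Lrot61 (Lpe (K55.f741955 IH) (Lpr_bt (f741841 IH) (Lpr_ft (f743580 IH) (Lpn (LP (LK LD1_c17 LD2_c59 LD3_c26))))))
theorem f720813 : Led Lsl_bt (LP (LK LD1_c5 LD2_c48 LD3_c28)) = (LP (LK LD1_c11 LD2_c26 LD3_c21)) :=
  Lre_b IH (LK LD1_c5 LD2_c48 LD3_c28) (LK LD1_c11 LD2_c26 LD3_c21) Lrfl Lrfl
theorem f741959 : Led Lsl_at (LP (LK LD1_c11 LD2_c26 LD3_c21)) = (LP (LK LD1_c20 LD2_c24 LD3_c0)) :=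
  Lre_a IH (LK LD1_c11 LD2_c26 LD3_c21) (LK LD1_c20 LD2_c24 LD3_c0) Lrfl Lrfl
theorem f743585 : Led Lsl_at (LP (LK LD1_c22 LD2_c3 LD3_c22)) = (LP (LK LD1_c17 LD2_c59 LD3_c26)) :=
  Lgr Lrot67 (Lpe (K67.f742019 IH) (Lpe (f741959 IH) (Lpe (f720813 IH) (Lpr_af (K55.f741947 IH) (Lpr_bf (f743582 IH) (Lpn (LP (LK LD1_c17 LD2_c59 LD3_c26))))))))
theorem f743665 : Led Lsl_at (LP (LK LD1_c11 LD2_c26 LD3_c29)) = (LP (LK LD1_c17 LD2_c59 LD3_c28)) :=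
  Lgr Lrot66 (Lpr_ff (f743576 IH) (Lpe (f743585 IH) (Lpr_ff (K67.f743663 IH) (Lpn (LP (LK LD1_c17 LD2_c59 LD3_c28))))))
theorem f57007 : Led Lsl_gt (LP (LK LD1_c17 LD2_c59 LD3_c26)) = (LP (LK LD1_c27 LD2_c42 LD3_c51)) :=
  Lre_g IH (LK LD1_c17 LD2_c59 LD3_c26) (LK LD1_c27 LD2_c42 LD3_c51) Lrfl Lrfl
theorem f743715 : Led Lsl_gt (LP (LK LD1_c27 LD2_c42 LD3_c51)) = (LP (LK LD1_c17 LD2_c59 LD3_c28)) :=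
  Lgr Lrot46 (Lpe (f57007 IH) (Lpe (f743576 IH) (Lpr_at (f743665 IH) (Lpn (LP (LK LD1_c17 LD2_c59 LD3_c28))))))
theorem f132463 : Led Lsl_et (LP (LK LD1_c5 LD2_c47 LD3_c52)) = (LP (LK LD1_c11 LD2_c25 LD3_c25)) :=
  Lre_e IH (LK LD1_c5 LD2_c47 LD3_c52) (LK LD1_c11 LD2_c25 LD3_c25) Lrfl Lrfl
theorem f132449 : Led Lsl_gt (LP (LK LD1_c20 LD2_c22 LD3_c49)) = (LP (LK LD1_c11 LD2_c25 LD3_c25)) :=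
  Lre_g IH (LK LD1_c20 LD2_c22 LD3_c49) (LK LD1_c11 LD2_c25 LD3_c25) Lrfl Lrfl
theorem f157914 : Led Lsl_et (LP (LK LD1_c29 LD2_c25 LD3_c40)) = (LP (LK LD1_c20 LD2_c22 LD3_c49)) :=
  Lre_e IH (LK LD1_c29 LD2_c25 LD3_c40) (LK LD1_c20 LD2_c22 LD3_c49) Lrfl Lrfl
theorem f57083 : Led Lsl_et (LP (LK LD1_c2 LD2_c27 LD3_c33)) = (LP (LK LD1_c4 LD2_c59 LD3_c21)) :=
  Lre_e IH (LK LD1_c2 LD2_c27 LD3_c33) (LK LD1_c4 LD2_c59 LD3_c21) Lrfl Lrfl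
theorem f161565 : Led Lsl_dt (LP (LK LD1_c29 LD2_c25 LD3_c40)) = (LP (LK LD1_c27 LD2_c42 LD3_c51)) :=
  Lgr Lrot56 (Lpr_et (f157914 IH) (Lpr_gt (f132449 IH) (Lpe (f132463 IH) (Lpr_dt (K8.f132472 IH) (Lpr_gt (K8.f161561 IH) (Lpe (K8.f75496 IH) (Lpr_et (f57083 IH) (Lpr_gt (K55.f57005 IH) (Lpr_dt (f57006 IH) (Lpr_gt (f57007 IH) (Lpn (LP (LK LD1_c27 LD2_c42 LD3_c51)))))))))))))
theorem f774735 : Led Lsl_gt (LP (LK LD1_c20 LD2_c24 LD3_c36)) = (LP (LK LD1_c29 LD2_c25 LD3_c40)) :=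
  Lgr Lrot94 (Lpr_cf (K55.f700549 IH) (Lpr_gt (f774731 IH) (Lpe (f752437 IH) (Lpe (f743645 IH) (Lpr_dt (f152585 IH) (Lpe (K67.f743608 IH) (Lpqs (K67.f743653 IH) (Lpe (f57086 IH) (Lpe (f743715 IH) (Lpe (f161565 IH) (Lpn (LP (LK LD1_c29 LD2_c25 LD3_c40)))))))))))))
theorem f82052 : Led Lsl_dt (LP (LK LD1_c27 LD2_c42 LD3_c55)) = (LP (LK LD1_c17 LD2_c59 LD3_c30)) :=
  Lre_d IH (LK LD1_c27 LD2_c42 LD3_c55) (LK LD1_c17 LD2_c59 LD3_c30) Lrfl Lrfl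
theorem f755616 : Led Lsl_ft (LP (LK LD1_c20 LD2_c24 LD3_c36)) = (LP (LK LD1_c27 LD2_c42 LD3_c55)) :=
  Lgr Lrot54 (Lpe (K55.f645242 IH) (Lpr_ff (K57.f755502 IH) (Lpe (f82052 IH) (Lpn (LP (LK LD1_c27 LD2_c42 LD3_c55))))))
theorem f755910 : Led Lsl_ff (LP (LK LD1_c16 LD2_c29 LD3_c57)) = (LP (LK LD1_c17 LD2_c3 LD3_c53)) :=
  Lgr Lrot3 (Lpr_ft (K60.f755906 IH) (Lpn (LP (LK LD1_c17 LD2_c3 LD3_c53))))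
theorem f714723 : Led Lsl_gt (LP (LK LD1_c16 LD2_c55 LD3_c29)) = (LP (LK LD1_c11 LD2_c7 LD3_c40)) :=
  Lgr Lrot112 (Lpr_df (K45.f140525 IH) (Lpr_et (K45.f61450 IH) (Lpr_gf (K53.f714715 IH) (Lpe (K8.f157015 IH) (Lpr_dt (K8.f157013 IH) (Lpe (K8.f142081 IH) (Lpr_df (K8.f142039 IH) (Lpr_gf (K6.f135944 IH) (Lpe (K52.f56809 IH) (Lpr_dt (K54.f612935 IH) (Lpn (LP (LK LD1_c11 LD2_c7 LD3_c40)))))))))))))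
theorem f498223 : Led Lsl_at (LP (LK LD1_c17 LD2_c5 LD3_c24)) = (LP (LK LD1_c9 LD2_c49 LD3_c6)) :=
  Lgr Lrot100 (Lpr_af (K32.f498219 IH) (Lpn (LP (LK LD1_c9 LD2_c49 LD3_c6))))
theorem f700555 : Led Lsl_gt (LP (LK LD1_c9 LD2_c11 LD3_c43)) = (LP (LK LD1_c12 LD2_c53 LD3_c40)) :=
  Lgr Lrot5 (Lpr_ft (K57.f499089 IH) (Lpr_at (f498223 IH) (Lpr_gf (K55.f700553 IH) (Lpn (LP (LK LD1_c12 LD2_c53 LD3_c40))))))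
theorem f207159 : Led Lsl_ft (LP (LK LD1_c6 LD2_c44 LD3_c43)) = (LP (LK LD1_c12 LD2_c53 LD3_c57)) :=
  Lre_f IH (LK LD1_c6 LD2_c44 LD3_c43) (LK LD1_c12 LD2_c53 LD3_c57) Lrfl Lrfl
theorem f207160 : Led Lsl_gt (LP (LK LD1_c6 LD2_c44 LD3_c43)) = (LP (LK LD1_c12 LD2_c53 LD3_c53)) :=
  Lre_g IH (LK LD1_c6 LD2_c44 LD3_c43) (LK LD1_c12 LD2_c53 LD3_c53) Lrfl Lrfl
theorem f207161 : Led Lsl_gf (LP (LK LD1_c17 LD2_c5 LD3_c1)) = (LP (LK LD1_c12 LD2_c53 LD3_c53)) :=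
  Lgr Lrot76 (Lpr_af (K35.f207146 IH) (Lpe (f207159 IH) (Lpr_gt (f207160 IH) (Lpn (LP (LK LD1_c12 LD2_c53 LD3_c53))))))
theorem f207163 : Led Lsl_ct (LP (LK LD1_c22 LD2_c3 LD3_c36)) = (LP (LK LD1_c12 LD2_c53 LD3_c53)) :=
  Lre_c IH (LK LD1_c22 LD2_c3 LD3_c36) (LK LD1_c12 LD2_c53 LD3_c53) Lrfl Lrfl
theorem f700563 : Led Lsl_gt (LP (LK LD1_c17 LD2_c5 LD3_c23)) = (LP (LK LD1_c22 LD2_c3 LD3_c36)) :=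
  Lgr Lrot9 (Lpe (K52.f135965 IH) (Lpr_gt (f700555 IH) (Lpr_ct (K55.f207218 IH) (Lpe (K55.f207215 IH) (Lpr_ct (K35.f152554 IH) (Lpe (K52.f152553 IH) (Lpe (K35.f207144 IH) (Lpr_gf (f207161 IH) (Lpe (f207163 IH) (Lpn (LP (LK LD1_c22 LD2_c3 LD3_c36))))))))))))
theorem f141976 : Led Lsl_gt (LP (LK LD1_c6 LD2_c44 LD3_c38)) = (LP (LK LD1_c12 LD2_c53 LD3_c45)) :=
  Lre_g IH (LK LD1_c6 LD2_c44 LD3_c38) (LK LD1_c12 LD2_c53 LD3_c45) Lrfl Lrfl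
theorem f207266 : Led Lsl_dt (LP (LK LD1_c12 LD2_c53 LD3_c45)) = (LP (LK LD1_c22 LD2_c3 LD3_c27)) :=
  Lre_d IH (LK LD1_c12 LD2_c53 LD3_c45) (LK LD1_c22 LD2_c3 LD3_c27) Lrfl Lrfl
theorem f699148 : Led Lsl_ct (LP (LK LD1_c22 LD2_c3 LD3_c27)) = (LP (LK LD1_c30 LD2_c17 LD3_c12)) :=
  Lre_c IH (LK LD1_c22 LD2_c3 LD3_c27) (LK LD1_c30 LD2_c17 LD3_c12) Lrfl Lrfl
theorem f700567 : Led Lsl_df (LP (LK LD1_c30 LD2_c17 LD3_c12)) = (LP (LK LD1_c22 LD2_c3 LD3_c36)) :=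
  Lgr Lrot84 (Lpe (f699148 IH) (Lpe (f207266 IH) (Lpe (f141976 IH) (Lpe (K55.f141975 IH) (Lpe (K52.f207204 IH) (Lpr_cf (K52.f699139 IH) (Lpe (K52.f700480 IH) (Lpr_dt (K52.f135965 IH) (Lpr_gt (f700563 IH) (Lpn (LP (LK LD1_c22 LD2_c3 LD3_c36))))))))))))
theorem f700569 : Led Lsl_dt (LP (LK LD1_c30 LD2_c17 LD3_c12)) = (LP (LK LD1_c22 LD2_c3 LD3_c36)) :=
  Lgr Lrot42 (Lpr_df (f700567 IH) (Lpn (LP (LK LD1_c22 LD2_c3 LD3_c36))))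
theorem f714727 : Led Lsl_ef (LP (LK LD1_c27 LD2_c43 LD3_c37)) = (LP (LK LD1_c30 LD2_c17 LD3_c12)) :=
  Lgr Lrot167 (Lpe (K57.f644403 IH) (Lpe (K45.f140525 IH) (Lpr_gt (f714723 IH) (Lpe (K54.f612935 IH) (Lpr_et (K52.f56809 IH) (Lpe (K6.f135944 IH) (Lpe (K52.f135964 IH) (Lpr_dt (K52.f135965 IH) (Lpr_gt (f700563 IH) (Lpe (f700569 IH) (Lpn (LP (LK LD1_c30 LD2_c17 LD3_c12)))))))))))))
theorem f714729 : Led Lsl_et (LP (LK LD1_c27 LD2_c43 LD3_c37)) = (LP (LK LD1_c30 LD2_c17 LD3_c12)) :=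
  Lgr Lrot87 (Lpr_ef (f714727 IH) (Lpn (LP (LK LD1_c30 LD2_c17 LD3_c12))))
theorem f755930 : Led Lsl_ff (LP (LK LD1_c26 LD2_c58 LD3_c19)) = (LP (LK LD1_c30 LD2_c17 LD3_c12)) :=
  Lgr Lrot72 (Lpr_et (K57.f743756 IH) (Lpe (f755910 IH) (Lpr_et (K60.f711679 IH) (Lpr_ft (K60.f755926 IH) (Lpr_et (f714729 IH) (Lpn (LP (LK LD1_c30 LD2_c17 LD3_c12))))))))
theorem f755932 : Led Lsl_at (LP (LK LD1_c27 LD2_c42 LD3_c55)) = (LP (LK LD1_c30 LD2_c17 LD3_c12)) :=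
  Lgr Lrot66 (Lpe (f755616 IH) (Lpr_af (K57.f755628 IH) (Lpr_ff (f755930 IH) (Lpn (LP (LK LD1_c30 LD2_c17 LD3_c12))))))
theorem f774737 : Led Lsl_gf (LP (LK LD1_c30 LD2_c17 LD3_c12)) = (LP (LK LD1_c29 LD2_c25 LD3_c40)) :=
  Lgr Lrot76 (Lpe (f755932 IH) (Lpe (f755616 IH) (Lpr_gt (f774735 IH) (Lpn (LP (LK LD1_c29 LD2_c25 LD3_c40))))))
theorem f699176 : Led Lsl_ct (LP (LK LD1_c30 LD2_c17 LD3_c12)) = (LP (LK LD1_c22 LD2_c3 LD3_c27)) :=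
  Lre_c IH (LK LD1_c30 LD2_c17 LD3_c12) (LK LD1_c22 LD2_c3 LD3_c27) Lrfl Lrfl
theorem f141977 : Led Lsl_dt (LP (LK LD1_c22 LD2_c3 LD3_c27)) = (LP (LK LD1_c12 LD2_c53 LD3_c45)) :=
  Lre_d IH (LK LD1_c22 LD2_c3 LD3_c27) (LK LD1_c12 LD2_c53 LD3_c45) Lrfl Lrfl
theorem f207264 : Led Lsl_ct (LP (LK LD1_c22 LD2_c3 LD3_c26)) = (LP (LK LD1_c12 LD2_c53 LD3_c45)) :=
  Lre_c IH (LK LD1_c22 LD2_c3 LD3_c26) (LK LD1_c12 LD2_c53 LD3_c45) Lrfl Lrfl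
theorem f57037 : Led Lsl_ct (LP (LK LD1_c21 LD2_c51 LD3_c0)) = (LP (LK LD1_c12 LD2_c43 LD3_c50)) :=
  Lre_c IH (LK LD1_c21 LD2_c51 LD3_c0) (LK LD1_c12 LD2_c43 LD3_c50) Lrfl Lrfl
theorem f207220 : Led Lsl_ct (LP (LK LD1_c6 LD2_c44 LD3_c36)) = (LP (LK LD1_c12 LD2_c53 LD3_c40)) :=
  Lre_c IH (LK LD1_c6 LD2_c44 LD3_c36) (LK LD1_c12 LD2_c53 LD3_c40) Lrfl Lrfl
theorem f207265 : Led Lsl_ct (LP (LK LD1_c12 LD2_c53 LD3_c45)) = (LP (LK LD1_c22 LD2_c3 LD3_c26)) :=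
  Lre_c IH (LK LD1_c12 LD2_c53 LD3_c45) (LK LD1_c22 LD2_c3 LD3_c26) Lrfl Lrfl
theorem f700557 : Led Lsl_gf (LP (LK LD1_c21 LD2_c51 LD3_c0)) = (LP (LK LD1_c22 LD2_c3 LD3_c26)) :=
  Lgr Lrot104 (Lpr_ct (f57037 IH) (Lpe (K32.f57032 IH) (Lpr_cf (K4.f57002 IH) (Lpr_gf (K55.f700553 IH) (Lpe (f207220 IH) (Lpe (K55.f141891 IH) (Lpe (K35.f207090 IH) (Lpr_gt (f141976 IH) (Lpr_ct (f207265 IH) (Lpn (LP (LK LD1_c22 LD2_c3 LD3_c26))))))))))))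
theorem f498203 : Led Lsl_ct (LP (LK LD1_c17 LD2_c5 LD3_c32)) = (LP (LK LD1_c26 LD2_c59 LD3_c13)) :=
  Lre_c IH (LK LD1_c17 LD2_c5 LD3_c32) (LK LD1_c26 LD2_c59 LD3_c13) Lrfl Lrfl
theorem f498211 : Led Lsl_at (LP (LK LD1_c26 LD2_c59 LD3_c13)) = (LP (LK LD1_c21 LD2_c51 LD3_c0)) :=
  Lgr Lrot107 (Lpe (f498203 IH) (Lpr_af (K32.f498196 IH) (Lpe (f57037 IH) (Lpn (LP (LK LD1_c21 LD2_c51 LD3_c0))))))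
theorem f499430 : Led Lsl_ft (LP (LK LD1_c17 LD2_c5 LD3_c31)) = (LP (LK LD1_c26 LD2_c59 LD3_c13)) :=
  Lre_f IH (LK LD1_c17 LD2_c5 LD3_c31) (LK LD1_c26 LD2_c59 LD3_c13) Lrfl Lrfl
theorem f700559 : Led Lsl_gt (LP (LK LD1_c17 LD2_c5 LD3_c31)) = (LP (LK LD1_c22 LD2_c3 LD3_c26)) :=
  Lgr Lrot5 (Lpr_ft (f499430 IH) (Lpr_at (f498211 IH) (Lpr_gf (f700557 IH) (Lpn (LP (LK LD1_c22 LD2_c3 LD3_c26))))))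
theorem f498222 : Led Lsl_ct (LP (LK LD1_c9 LD2_c11 LD3_c45)) = (LP (LK LD1_c17 LD2_c5 LD3_c31)) :=
  Lre_c IH (LK LD1_c9 LD2_c11 LD3_c45) (LK LD1_c17 LD2_c5 LD3_c31) Lrfl Lrfl
theorem f774739 : Led Lsl_ct (LP (LK LD1_c26 LD2_c57 LD3_c27)) = (LP (LK LD1_c29 LD2_c25 LD3_c40)) :=
  Lgr Lrot152 (Lpe (f504744 IH) (Lpe (K50.f642849 IH) (Lpr_gt (K50.f100006 IH) (Lpr_ct (f498222 IH) (Lpr_gt (f700559 IH) (Lpr_ct (f207264 IH) (Lpe (f141977 IH) (Lpe (f699176 IH) (Lpr_gf (f774737 IH) (Lpn (LP (LK LD1_c29 LD2_c25 LD3_c40))))))))))))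
theorem f161567 : Led Lsl_df (LP (LK LD1_c29 LD2_c25 LD3_c40)) = (LP (LK LD1_c27 LD2_c42 LD3_c51)) :=
  Lgr Lrot38 (Lpr_dt (f161565 IH) (Lpn (LP (LK LD1_c27 LD2_c42 LD3_c51))))
theorem f901458 : Led Lsl_ct (LP (LK LD1_c20 LD2_c51 LD3_c11)) = (LP (LK LD1_c27 LD2_c42 LD3_c51)) :=
  Lgr Lrot110 (Lpe (f698942 IH) (Lpe (K56.f632004 IH) (Lpr_gf (f750166 IH) (Lpr_df (f901456 IH) (Lpe (f901453 IH) (Lpr_ct (K45.f504723 IH) (Lpr_gt (f504744 IH) (Lpr_ct (f774739 IH) (Lpr_df (f161567 IH) (Lpn (LP (LK LD1_c27 LD2_c42 LD3_c51))))))))))))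
theorem f901459 : Led Lsl_ct (LP (LK LD1_c20 LD2_c51 LD3_c11)) = (LP (LK LD1_c27 LD2_c42 LD3_c51)) :=
  Leop (Lpe (f901458 IH) (Lpn (LP (LK LD1_c20 LD2_c51 LD3_c11))))
theorem seed_2237 : LEOK LG_c (LK LD1_c20 LD2_c51 LD3_c11) :=
  Leoe_c (LK LD1_c20 LD2_c51 LD3_c11) (f901459 IH)
def v38348 : LQ := Led Lsl_gf (LP (LK LD1_c9 LD2_c9 LD3_c10))
theorem f901464 : Led Lsl_gf (LP (LK LD1_c9 LD2_c9 LD3_c10)) = v38348 :=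
  Lrfl
theorem f71349 : Led Lsl_bt (LP (LK LD1_c4 LD2_c36 LD3_c31)) = (LP (LK LD1_c2 LD2_c15 LD3_c25)) :=
  Lre_b IH (LK LD1_c4 LD2_c36 LD3_c31) (LK LD1_c2 LD2_c15 LD3_c25) Lrfl Lrfl
theorem f719092 : Led Lsl_bf (LP (LK LD1_c5 LD2_c52 LD3_c42)) = K53.v14118 :=
  Lgr Lrot61 (Lpr_ft (K53.f711241 IH) (Lpe (K4.f74970 IH) (Lpr_ft (K53.f719091 IH) (Lpn K53.v14118))))
theorem f901467 : Led Lsl_ct K53.v14118 = v38348 :=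
  Lgr Lrot64 (Lpe (f719092 IH) (Lpe (K53.f56725 IH) (Lpe (K52.f438448 IH) (Lpe (K24.f438449 IH) (Lpe (K24.f26270 IH) (Lpe (K4.f26355 IH) (Lpe (K32.f71341 IH) (Lpe (f71349 IH) (Lpr_ct (f71350 IH) (Lpr_gf (f901464 IH) (Lpn v38348)))))))))))
theorem f901468 : Led Lsl_cf K53.v14118 = v38348 :=
  Lgr Lrot11 (Lpr_ct (f901467 IH) (Lpn v38348))
theorem f500741 : Led Lsl_dt (LP (LK LD1_c5 LD2_c59 LD3_c2)) = (LP (LK LD1_c11 LD2_c42 LD3_c35)) :=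
  Lre_d IH (LK LD1_c5 LD2_c59 LD3_c2) (LK LD1_c11 LD2_c42 LD3_c35) Lrfl Lrfl
theorem f643005 : Led Lsl_ct (LP (LK LD1_c20 LD2_c43 LD3_c2)) = (LP (LK LD1_c11 LD2_c42 LD3_c35)) :=
  Lre_c IH (LK LD1_c20 LD2_c43 LD3_c2) (LK LD1_c11 LD2_c42 LD3_c35) Lrfl Lrfl
theorem f641761 : Led Lsl_at (LP (LK LD1_c5 LD2_c59 LD3_c5)) = (LP (LK LD1_c9 LD2_c9 LD3_c10)) :=
  Lgr Lrot66 (Lpr_ff (K41.f641758 IH) (Lpe (f442945 IH) (Lpr_ff (f507059 IH) (Lpn (LP (LK LD1_c9 LD2_c9 LD3_c10))))))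
theorem f901465 : Led Lsl_gt (LP (LK LD1_c11 LD2_c39 LD3_c50)) = v38348 :=
  Lgr Lrot5 (Lpe (K41.f641758 IH) (Lpr_at (f641761 IH) (Lpr_gf (f901464 IH) (Lpn v38348))))
theorem f507057 : Led Lsl_dt (LP (LK LD1_c20 LD2_c39 LD3_c50)) = (LP (LK LD1_c11 LD2_c39 LD3_c50)) :=
  Lre_d IH (LK LD1_c20 LD2_c39 LD3_c50) (LK LD1_c11 LD2_c39 LD3_c50) Lrfl Lrfl
theorem f641769 : Led Lsl_dt (LP (LK LD1_c11 LD2_c39 LD3_c50)) = (LP (LK LD1_c20 LD2_c39 LD3_c50)) :=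
  Lre_d IH (LK LD1_c11 LD2_c39 LD3_c50) (LK LD1_c20 LD2_c39 LD3_c50) Lrfl Lrfl
theorem f139227 : Led Lsl_et (LP (LK LD1_c1 LD2_c7 LD3_c54)) = (LP (LK LD1_c2 LD2_c21 LD3_c18)) :=
  Lre_e IH (LK LD1_c1 LD2_c7 LD3_c54) (LK LD1_c2 LD2_c21 LD3_c18) Lrfl Lrfl
theorem f139229 : Led Lsl_et (LP (LK LD1_c9 LD2_c26 LD3_c18)) = (LP (LK LD1_c4 LD2_c46 LD3_c47)) :=
  Lre_e IH (LK LD1_c9 LD2_c26 LD3_c18) (LK LD1_c4 LD2_c46 LD3_c47) Lrfl Lrfl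
theorem f139230 : Led Lsl_dt (LP (LK LD1_c9 LD2_c26 LD3_c18)) = (LP (LK LD1_c17 LD2_c24 LD3_c6)) :=
  Lre_d IH (LK LD1_c9 LD2_c26 LD3_c18) (LK LD1_c17 LD2_c24 LD3_c6) Lrfl Lrfl
theorem f711419 : Led Lsl_gt (LP (LK LD1_c20 LD2_c39 LD3_c50)) = (LP (LK LD1_c17 LD2_c24 LD3_c6)) :=
  Lgr Lrot139 (Lpe (f641769 IH) (Lpr_gf (K55.f711415 IH) (Lpe (K55.f139226 IH) (Lpr_dt (K8.f139184 IH) (Lpe (K6.f99080 IH) (Lpe (K4.f105023 IH) (Lpr_et (f139227 IH) (Lpe (K17.f139228 IH) (Lpe (f139229 IH) (Lpr_dt (f139230 IH) (Lpn (LP (LK LD1_c17 LD2_c24 LD3_c6)))))))))))))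
theorem f711426 : Led Lsl_ct (LP (LK LD1_c17 LD2_c24 LD3_c6)) = (LP (LK LD1_c27 LD2_c13 LD3_c11)) :=
  Lre_c IH (LK LD1_c17 LD2_c24 LD3_c6) (LK LD1_c27 LD2_c13 LD3_c11) Lrfl Lrfl
theorem f901474 : Led Lsl_gf (LP (LK LD1_c20 LD2_c43 LD3_c2)) = (LP (LK LD1_c27 LD2_c13 LD3_c11)) :=
  Lgr Lrot104 (Lpr_ct (f643005 IH) (Lpe (f500741 IH) (Lpe (K53.f642988 IH) (Lpr_gf (K53.f719095 IH) (Lpr_cf (f901468 IH) (Lpe (f901465 IH) (Lpe (f507057 IH) (Lpr_gt (f711419 IH) (Lpr_ct (f711426 IH) (Lpn (LP (LK LD1_c27 LD2_c13 LD3_c11))))))))))))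
theorem f901475 : Led Lsl_gt (LP (LK LD1_c27 LD2_c13 LD3_c11)) = (LP (LK LD1_c20 LD2_c43 LD3_c2)) :=
  Leop (Lpr_gf (f901474 IH) (Lpn (LP (LK LD1_c27 LD2_c13 LD3_c11))))
theorem seed_2238 : LEOK LG_g (LK LD1_c27 LD2_c13 LD3_c11) :=
  Leoe_g (LK LD1_c27 LD2_c13 LD3_c11) (f901475 IH)
def v38392 : LQ := Led Lsl_at (LP (LK LD1_c9 LD2_c9 LD3_c59))
theorem f901740 : Led Lsl_at (LP (LK LD1_c9 LD2_c9 LD3_c59)) = v38392 :=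
  Lrfl
theorem f901741 : Led Lsl_af (LP (LK LD1_c9 LD2_c9 LD3_c59)) = v38392 :=
  Lgr Lrot0 (Lpr_at (f901740 IH) (Lpn v38392))
theorem f100087 : Led Lsl_gt (LP (LK LD1_c9 LD2_c9 LD3_c60)) = (LP (LK LD1_c4 LD2_c37 LD3_c7)) :=
  Lre_g IH (LK LD1_c9 LD2_c9 LD3_c60) (LK LD1_c4 LD2_c37 LD3_c7) Lrfl Lrfl
theorem f901744 : Led Lsl_ft (LP (LK LD1_c9 LD2_c9 LD3_c60)) = v38392 :=
  Lgr Lrot2 (Lpr_gt (f100087 IH) (Lpr_gt (K42.f100073 IH) (Lpr_af (f901741 IH) (Lpn v38392))))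
theorem f624577 : Led Lsl_dt (LP (LK LD1_c6 LD2_c2 LD3_c0)) = (LP (LK LD1_c11 LD2_c48 LD3_c37)) :=
  Lre_d IH (LK LD1_c6 LD2_c2 LD3_c0) (LK LD1_c11 LD2_c48 LD3_c37) Lrfl Lrfl
theorem f678914 : Led Lsl_gt (LP (LK LD1_c11 LD2_c48 LD3_c37)) = (LP (LK LD1_c20 LD2_c51 LD3_c6)) :=
  Lre_g IH (LK LD1_c11 LD2_c48 LD3_c37) (LK LD1_c20 LD2_c51 LD3_c6) Lrfl Lrfl
theorem f774745 : Led Lsl_df (LP (LK LD1_c26 LD2_c57 LD3_c27)) = (LP (LK LD1_c20 LD2_c51 LD3_c6)) :=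
  Lgr Lrot174 (Lpr_ct (f774739 IH) (Lpr_df (f161567 IH) (Lpe (f57007 IH) (Lpe (f57006 IH) (Lpe (K55.f57005 IH) (Lpe (K52.f56993 IH) (Lpr_gt (K46.f651071 IH) (Lpqs (K52.f698908 IH) (Lpr_dt (f624577 IH) (Lpr_gt (f678914 IH) (Lpn (LP (LK LD1_c20 LD2_c51 LD3_c6)))))))))))))
theorem f774747 : Led Lsl_dt (LP (LK LD1_c26 LD2_c57 LD3_c27)) = (LP (LK LD1_c20 LD2_c51 LD3_c6)) :=
  Lgr Lrot42 (Lpr_df (f774745 IH) (Lpn (LP (LK LD1_c20 LD2_c51 LD3_c6))))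
theorem f504732 : Led Lsl_gt (LP (LK LD1_c9 LD2_c9 LD3_c8)) = (LP (LK LD1_c17 LD2_c2 LD3_c13)) :=
  Lre_g IH (LK LD1_c9 LD2_c9 LD3_c8) (LK LD1_c17 LD2_c2 LD3_c13) Lrfl Lrfl
theorem f700347 : Led Lsl_ff (LP (LK LD1_c6 LD2_c2 LD3_c0)) = (LP (LK LD1_c9 LD2_c11 LD3_c23)) :=
  Lgr Lrot3 (Lpr_ft (K60.f700343 IH) (Lpn (LP (LK LD1_c9 LD2_c11 LD3_c23))))
theorem f209310 : Led Lsl_dt (LP (LK LD1_c17 LD2_c4 LD3_c57)) = (LP (LK LD1_c9 LD2_c11 LD3_c23)) :=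
  Lre_d IH (LK LD1_c17 LD2_c4 LD3_c57) (LK LD1_c9 LD2_c11 LD3_c23) Lrfl Lrfl
theorem f700357 : Led Lsl_ft (LP (LK LD1_c11 LD2_c48 LD3_c37)) = (LP (LK LD1_c17 LD2_c4 LD3_c57)) :=
  Lgr Lrot54 (Lpe (f624577 IH) (Lpr_ff (f700347 IH) (Lpe (f209310 IH) (Lpn (LP (LK LD1_c17 LD2_c4 LD3_c57))))))
theorem f57014 : Led Lsl_dt (LP (LK LD1_c6 LD2_c39 LD3_c3)) = (LP (LK LD1_c12 LD2_c43 LD3_c46)) :=
  Lre_d IH (LK LD1_c6 LD2_c39 LD3_c3) (LK LD1_c12 LD2_c43 LD3_c46) Lrfl Lrfl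
theorem f700353 : Led Lsl_at (LP (LK LD1_c12 LD2_c43 LD3_c46)) = (LP (LK LD1_c17 LD2_c4 LD3_c57)) :=
  Lgr Lrot51 (Lpe (f57014 IH) (Lpr_af (K60.f700349 IH) (Lpe (f209310 IH) (Lpn (LP (LK LD1_c17 LD2_c4 LD3_c57))))))
theorem f700355 : Led Lsl_af (LP (LK LD1_c12 LD2_c43 LD3_c46)) = (LP (LK LD1_c17 LD2_c4 LD3_c57)) :=
  Lgr Lrot0 (Lpr_at (f700353 IH) (Lpn (LP (LK LD1_c17 LD2_c4 LD3_c57))))
theorem f700361 : Led Lsl_gt (LP (LK LD1_c20 LD2_c51 LD3_c6)) = (LP (LK LD1_c12 LD2_c43 LD3_c46)) :=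
  Lgr Lrot46 (Lpe (f678914 IH) (Lpr_ft (f700357 IH) (Lpe (f700355 IH) (Lpn (LP (LK LD1_c12 LD2_c43 LD3_c46))))))
theorem f57016 : Led Lsl_dt (LP (LK LD1_c12 LD2_c43 LD3_c46)) = (LP (LK LD1_c6 LD2_c39 LD3_c3)) :=
  Lre_d IH (LK LD1_c12 LD2_c43 LD3_c46) (LK LD1_c6 LD2_c39 LD3_c3) Lrfl Lrfl
theorem f645200 : Led Lsl_gt (LP (LK LD1_c6 LD2_c2 LD3_c1)) = (LP (LK LD1_c11 LD2_c48 LD3_c38)) :=
  Lre_g IH (LK LD1_c6 LD2_c2 LD3_c1) (LK LD1_c11 LD2_c48 LD3_c38) Lrfl Lrfl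
theorem f700318 : Led Lsl_gf (LP (LK LD1_c6 LD2_c44 LD3_c40)) = (LP (LK LD1_c11 LD2_c48 LD3_c38)) :=
  Lgr Lrot76 (Lpe (f700310 IH) (Lpr_ff (f700316 IH) (Lpr_gt (f645200 IH) (Lpn (LP (LK LD1_c11 LD2_c48 LD3_c38))))))
theorem f774750 : Led Lsl_dt (LP (LK LD1_c17 LD2_c2 LD3_c13)) = (LP (LK LD1_c11 LD2_c48 LD3_c38)) :=
  Lgr Lrot57 (Lpe (f504732 IH) (Lpe (K45.f504736 IH) (Lpr_gt (f504744 IH) (Lpr_dt (f774747 IH) (Lpr_gt (f700361 IH) (Lpr_dt (f57016 IH) (Lpq (K55.f699094 IH) (Lpe (K55.f652695 IH) (Lpe (K55.f116912 IH) (Lpr_gf (f700318 IH) (Lpn (LP (LK LD1_c11 LD2_c48 LD3_c38)))))))))))))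
theorem f632002 : Led Lsl_dt (LP (LK LD1_c2 LD2_c57 LD3_c6)) = (LP (LK LD1_c6 LD2_c2 LD3_c1)) :=
  Lre_d IH (LK LD1_c2 LD2_c57 LD3_c6) (LK LD1_c6 LD2_c2 LD3_c1) Lrfl Lrfl
theorem f157179 : Led Lsl_df (LP (LK LD1_c9 LD2_c11 LD3_c4)) = (LP (LK LD1_c9 LD2_c15 LD3_c12)) :=
  Lgr Lrot38 (Lpr_dt (K36.f157172 IH) (Lpn (LP (LK LD1_c9 LD2_c15 LD3_c12))))
theorem f723179 : Led Lsl_dt (LP (LK LD1_c17 LD2_c4 LD3_c34)) = (LP (LK LD1_c10 LD2_c17 LD3_c16)) :=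
  Lgr Lrot60 (Lpe (K53.f157183 IH) (Lpr_df (f157179 IH) (Lpr_ff (K53.f723175 IH) (Lpn (LP (LK LD1_c10 LD2_c17 LD3_c16))))))
theorem f631954 : Led Lsl_ft (LP (LK LD1_c4 LD2_c38 LD3_c22)) = (LP (LK LD1_c9 LD2_c12 LD3_c36)) :=
  Lre_f IH (LK LD1_c4 LD2_c38 LD3_c22) (LK LD1_c9 LD2_c12 LD3_c36) Lrfl Lrfl
theorem f719607 : Led Lsl_ef (LP (LK LD1_c17 LD2_c4 LD3_c34)) = (LP (LK LD1_c9 LD2_c12 LD3_c36)) :=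
  Lgr Lrot21 (Lpr_ft (K53.f157182 IH) (Lpr_et (K36.f116941 IH) (Lpr_ft (K53.f700220 IH) (Lpq (K53.f719557 IH) (Lpr_et (K55.f631953 IH) (Lpr_ft (f631954 IH) (Lpn (LP (LK LD1_c9 LD2_c12 LD3_c36)))))))))
theorem f719613 : Led Lsl_et (LP (LK LD1_c17 LD2_c4 LD3_c34)) = (LP (LK LD1_c9 LD2_c12 LD3_c36)) :=
  Lgr Lrot87 (Lpr_ef (f719607 IH) (Lpn (LP (LK LD1_c9 LD2_c12 LD3_c36))))
theorem f723202 : Led Lsl_gf K55.v5077 = (LP (LK LD1_c9 LD2_c12 LD3_c36)) :=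
  Lgr Lrot138 (Lpr_dt (K55.f699922 IH) (Lpe (K55.f699923 IH) (Lpe (K55.f100262 IH) (Lpr_et (K55.f100261 IH) (Lpr_gt (K4.f99613 IH) (Lpe (K36.f99645 IH) (Lpe (f547913 IH) (Lpr_gt (K53.f723183 IH) (Lpe (f723179 IH) (Lpr_et (f719613 IH) (Lpn (LP (LK LD1_c9 LD2_c12 LD3_c36)))))))))))))
theorem f774756 : Led Lsl_et (LP (LK LD1_c17 LD2_c2 LD3_c13)) = (LP (LK LD1_c9 LD2_c9 LD3_c60)) :=
  Lgr Lrot121 (Lpr_dt (f774750 IH) (Lpe (f645200 IH) (Lpe (f632002 IH) (Lpr_et (K55.f645206 IH) (Lpr_gf (f723202 IH) (Lpe (f719613 IH) (Lpr_dt (f723179 IH) (Lpe (K53.f723183 IH) (Lpr_df (f547913 IH) (Lpe (f100087 IH) (Lpn (LP (LK LD1_c9 LD2_c9 LD3_c60)))))))))))))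
def v28933 : LQ := Led Lsl_ft K66.v8700
theorem f846870 : Led Lsl_ft K66.v8700 = v28933 :=
  Lrfl
theorem f846871 : Led Lsl_af K66.v8705 = v28933 :=
  Lgr Lrot45 (Lpr_ft (K66.f846795 IH) (Lpe (K66.f846792 IH) (Lpr_ft (f846870 IH) (Lpn v28933))))
theorem f901742 : Led Lsl_ef v28933 = v38392 :=
  Lgr Lrot20 (Lpe (f846871 IH) (Lpe (K66.f672049 IH) (Lpr_at (f901740 IH) (Lpn v38392))))
theorem f846873 : Led Lsl_ff K66.v8700 = v28933 :=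
  Lgr Lrot3 (Lpr_ft (f846870 IH) (Lpn v28933))
def v28932 : LQ := Led Lsl_et K66.v8700
theorem f846866 : Led Lsl_et K66.v8700 = v28932 :=
  Lrfl
theorem f901745 : Led Lsl_ff (LP (LK LD1_c17 LD2_c2 LD3_c13)) = v28932 :=
  Lgr Lrot72 (Lpr_et (f774756 IH) (Lpr_ft (f901744 IH) (Lpe (f901742 IH) (Lpe (f846873 IH) (Lpr_et (f846866 IH) (Lpn v28932))))))
theorem f846869 : Led Lsl_gf (LP (LK LD1_c12 LD2_c53 LD3_c52)) = v28932 :=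
  Lgr Lrot141 (Lpr_ef (K46.f642399 IH) (Lpr_dt (K60.f781407 IH) (Lpe (K60.f781404 IH) (Lpe (K51.f438067 IH) (Lpr_et (K51.f438066 IH) (Lpr_gt (K46.f438065 IH) (Lpr_dt (K66.f206819 IH) (Lpr_gt (K66.f509324 IH) (Lpr_df (K66.f672036 IH) (Lpr_et (f846866 IH) (Lpn v28932)))))))))))
theorem f710798 : Led Lsl_ct (LP (LK LD1_c9 LD2_c15 LD3_c36)) = (LP (LK LD1_c17 LD2_c10 LD3_c5)) :=
  Lre_c IH (LK LD1_c9 LD2_c15 LD3_c36) (LK LD1_c17 LD2_c10 LD3_c5) Lrfl Lrfl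
theorem f207093 : Led Lsl_ft (LP (LK LD1_c6 LD2_c44 LD3_c38)) = (LP (LK LD1_c12 LD2_c53 LD3_c48)) :=
  Lre_f IH (LK LD1_c6 LD2_c44 LD3_c38) (LK LD1_c12 LD2_c53 LD3_c48) Lrfl Lrfl
theorem f207094 : Led Lsl_af (LP (LK LD1_c17 LD2_c4 LD3_c54)) = (LP (LK LD1_c12 LD2_c53 LD3_c48)) :=
  Lgr Lrot45 (Lpr_ft (K35.f152581 IH) (Lpr_at (K35.f207082 IH) (Lpr_ft (f207093 IH) (Lpn (LP (LK LD1_c12 LD2_c53 LD3_c48))))))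
theorem f207262 : Led Lsl_gf (LP (LK LD1_c17 LD2_c4 LD3_c54)) = (LP (LK LD1_c12 LD2_c53 LD3_c45)) :=
  Lgr Lrot76 (Lpr_af (f207094 IH) (Lpe (f207093 IH) (Lpr_gt (f141976 IH) (Lpn (LP (LK LD1_c12 LD2_c53 LD3_c45))))))
theorem f710799 : Led Lsl_gt (LP (LK LD1_c17 LD2_c10 LD3_c5)) = (LP (LK LD1_c22 LD2_c3 LD3_c27)) :=
  Lgr Lrot94 (Lpe (f710798 IH) (Lpr_gt (K59.f710796 IH) (Lpr_dt (K51.f444654 IH) (Lpr_gt (K46.f644687 IH) (Lpr_dt (K52.f152553 IH) (Lpe (K35.f152554 IH) (Lpe (K35.f152552 IH) (Lpr_gf (f207262 IH) (Lpe (f141977 IH) (Lpn (LP (LK LD1_c22 LD2_c3 LD3_c27))))))))))))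
theorem f207164 : Led Lsl_ct (LP (LK LD1_c12 LD2_c53 LD3_c53)) = (LP (LK LD1_c22 LD2_c3 LD3_c36)) :=
  Lre_c IH (LK LD1_c12 LD2_c53 LD3_c53) (LK LD1_c22 LD2_c3 LD3_c36) Lrfl Lrfl
theorem f710802 : Led Lsl_gf (LP (LK LD1_c9 LD2_c15 LD3_c36)) = (LP (LK LD1_c12 LD2_c53 LD3_c52)) :=
  Lgr Lrot147 (Lpr_ct (f710798 IH) (Lpr_gt (f710799 IH) (Lpr_ct (f699148 IH) (Lpr_df (f700567 IH) (Lpe (f207164 IH) (Lpe (f207160 IH) (Lpe (K46.f207110 IH) (Lpe (K46.f207239 IH) (Lpe (K46.f207245 IH) (Lpn (LP (LK LD1_c12 LD2_c53 LD3_c52))))))))))))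
theorem f901748 : Led Lsl_at (LP (LK LD1_c17 LD2_c2 LD3_c13)) = (LP (LK LD1_c9 LD2_c15 LD3_c36)) :=
  Lgr Lrot26 (Lpr_ff (f901745 IH) (Lpe (f846869 IH) (Lpe (f710802 IH) (Lpn (LP (LK LD1_c9 LD2_c15 LD3_c36))))))
theorem f901749 : Led Lsl_at (LP (LK LD1_c17 LD2_c2 LD3_c13)) = (LP (LK LD1_c9 LD2_c15 LD3_c36)) :=
  Leop (Lpe (f901748 IH) (Lpn (LP (LK LD1_c17 LD2_c2 LD3_c13))))
theorem seed_2239 : LEOK LG_a (LK LD1_c17 LD2_c2 LD3_c13) :=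
  Leoe_a (LK LD1_c17 LD2_c2 LD3_c13) (f901749 IH)
def v15982 : LQ := Led Lsl_ft (LP (LK LD1_c5 LD2_c50 LD3_c46))
theorem f744516 : Led Lsl_ft (LP (LK LD1_c5 LD2_c50 LD3_c46)) = v15982 :=
  Lrfl
theorem f744518 : Led Lsl_ff (LP (LK LD1_c5 LD2_c50 LD3_c46)) = v15982 :=
  Lgr Lrot3 (Lpr_ft (f744516 IH) (Lpn v15982))
def v13106 : LQ := Led Lsl_at (LP (LK LD1_c4 LD2_c40 LD3_c0))
theorem f701145 : Led Lsl_at (LP (LK LD1_c4 LD2_c40 LD3_c0)) = v13106 :=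
  Lrfl
theorem f701146 : Led Lsl_af (LP (LK LD1_c4 LD2_c40 LD3_c0)) = v13106 :=
  Lgr Lrot0 (Lpr_at (f701145 IH) (Lpn v13106))
theorem f701148 : Led Lsl_ft (LP (LK LD1_c4 LD2_c40 LD3_c1)) = v13106 :=
  Lgr Lrot2 (Lpr_gt (K56.f79978 IH) (Lpr_gt (K11.f100192 IH) (Lpr_af (f701146 IH) (Lpn v13106))))
theorem f753279 : Led Lsl_bf v15982 = v13106 :=
  Lgr Lrot61 (Lpe (f744518 IH) (Lpr_bt (K56.f744510 IH) (Lpqs (K56.f753275 IH) (Lpr_ft (f701148 IH) (Lpn v13106)))))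
def v13108 : LQ := Led Lsl_ft (LP (LK LD1_c4 LD2_c40 LD3_c0))
theorem f701155 : Led Lsl_ft (LP (LK LD1_c4 LD2_c40 LD3_c0)) = v13108 :=
  Lrfl
theorem f701157 : Led Lsl_ff (LP (LK LD1_c4 LD2_c40 LD3_c0)) = v13108 :=
  Lgr Lrot3 (Lpr_ft (f701155 IH) (Lpn v13108))
theorem f774758 : Led Lsl_ef (LP (LK LD1_c17 LD2_c2 LD3_c13)) = (LP (LK LD1_c9 LD2_c9 LD3_c60)) :=
  Lgr Lrot88 (Lpr_et (f774756 IH) (Lpn (LP (LK LD1_c9 LD2_c9 LD3_c60))))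
theorem f79979 : Led Lsl_et (LP (LK LD1_c9 LD2_c15 LD3_c36)) = (LP (LK LD1_c4 LD2_c40 LD3_c1)) :=
  Lre_e IH (LK LD1_c9 LD2_c15 LD3_c36) (LK LD1_c4 LD2_c40 LD3_c1) Lrfl Lrfl
theorem f701149 : Led Lsl_ff (LP (LK LD1_c4 LD2_c40 LD3_c1)) = v13106 :=
  Lgr Lrot3 (Lpr_ft (f701148 IH) (Lpn v13106))
theorem f701158 : Led Lsl_at (LP (LK LD1_c4 LD2_c40 LD3_c1)) = v13108 :=
  Lgr Lrot66 (Lpr_ff (f701149 IH) (Lpe (f701145 IH) (Lpr_ff (f701157 IH) (Lpn v13108))))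
theorem f901752 : (LP (LK LD1_c9 LD2_c9 LD3_c60)) = v13108 :=
  (Llr Lrot20 (Lpe (f774758 IH) (Lpr_at (f901748 IH) (Lpr_et (f79979 IH) (Lpr_at (f701158 IH) (Lpn v13108)))))).symm
theorem f901755 : (LP (LK LD1_c4 LD2_c40 LD3_c0)) = v38392 :=
  Lefun (Lecon (Lfl_ff (f701157 IH)) (f901752 IH).symm) (f901744 IH)
theorem f901758 : (LP (LK LD1_c9 LD2_c9 LD3_c59)) = v13106 :=
  Lefun (Lecon (Lfl_af (f901741 IH)) (f901755 IH).symm) (f701145 IH)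
theorem f901764 : v15982 = K64.v12923 :=
  Lefun (Lecon (Lfl_bf (f753279 IH)) (f901758 IH).symm) (Lfl_bf (K65.f824872 IH))
theorem f744513 : Led Lsl_cf (LP (LK LD1_c5 LD2_c50 LD3_c46)) = K56.v15980 :=
  Lgr Lrot11 (Lpr_ct (K56.f744512 IH) (Lpn K56.v15980))
theorem f901845 : Led Lsl_ff K56.v15980 = K64.v24628 :=
  Lgr Lrot23 (Lpe (f744513 IH) (Lpr_ft (f744516 IH) (Lpqs (f901764 IH) (Lpr_ct (K64.f824817 IH) (Lpn K64.v24628)))))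
def v24629 : LQ := Led Lsl_gf K56.v4865
theorem f824875 : Led Lsl_gf K56.v4865 = v24629 :=
  Lrfl
theorem f824876 : Led Lsl_gt K64.v16064 = v24629 :=
  Lgr Lrot5 (Lpe (K64.f745120 IH) (Lpe (K64.f640824 IH) (Lpr_gf (f824875 IH) (Lpn v24629))))
theorem f901847 : Led Lsl_at K56.v15980 = v24629 :=
  Lgr Lrot26 (Lpr_ff (f901845 IH) (Lpe (K64.f824816 IH) (Lpr_gt (f824876 IH) (Lpn v24629))))
def v15978 : LQ := Led Lsl_at (LP (LK LD1_c5 LD2_c50 LD3_c46))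
theorem f744506 : Led Lsl_at (LP (LK LD1_c5 LD2_c50 LD3_c46)) = v15978 :=
  Lrfl
theorem f744507 : Led Lsl_af (LP (LK LD1_c5 LD2_c50 LD3_c46)) = v15978 :=
  Lgr Lrot0 (Lpr_at (f744506 IH) (Lpn v15978))
theorem f615397 : Led Lsl_df (LP (LK LD1_c2 LD2_c31 LD3_c20)) = (LP (LK LD1_c2 LD2_c51 LD3_c10)) :=
  Lgr Lrot18 (Lpe (K53.f288113 IH) (Lpr_dt (K41.f615395 IH) (Lpr_at (K55.f496499 IH) (Lpn (LP (LK LD1_c2 LD2_c51 LD3_c10))))))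
theorem f22175 : Led Lsl_ft (LP (LK LD1_c5 LD2_c6 LD3_c38)) = (LP (LK LD1_c2 LD2_c30 LD3_c35)) :=
  Lre_f IH (LK LD1_c5 LD2_c6 LD3_c38) (LK LD1_c2 LD2_c30 LD3_c35) Lrfl Lrfl
theorem f302726 : Led Lsl_gf (LP (LK LD1_c5 LD2_c13 LD3_c31)) = (LP (LK LD1_c5 LD2_c6 LD3_c38)) :=
  Lgr Lrot47 (Lpr_gt (K35.f20513 IH) (Lpr_af (K56.f302679 IH) (Lpe (f22175 IH) (Lpn (LP (LK LD1_c5 LD2_c6 LD3_c38))))))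
theorem f824877 : Led Lsl_ct K56.v12924 = v24629 :=
  Lgr Lrot152 (Lpe (K56.f699620 IH) (Lpr_df (K56.f22156 IH) (Lpe (f302726 IH) (Lpr_ct (K54.f723719 IH) (Lpqs (K54.f739441 IH) (Lpr_gt (K54.f165761 IH) (Lpr_ct (K17.f165651 IH) (Lpr_df (f615397 IH) (Lpr_cf (K56.f640636 IH) (Lpr_gf (f824875 IH) (Lpn v24629)))))))))))
theorem f824878 : Led Lsl_cf K56.v12924 = v24629 :=
  Lgr Lrot11 (Lpr_ct (f824877 IH) (Lpn v24629))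
theorem f901849 : v15978 = K56.v12924 :=
  (Llr Lrot68 (Lpe (f744507 IH) (Lpr_ct (K56.f744512 IH) (Lpr_at (f901847 IH) (Lpe (f824878 IH) (Lpn K56.v12924)))))).symm
theorem f699633 : Led Lsl_at (LP (LK LD1_c5 LD2_c50 LD3_c47)) = K50.v12925 :=
  Lgr Lrot66 (Lpe (K55.f22158 IH) (Lpe (K56.f302724 IH) (Lpr_ff (K56.f699631 IH) (Lpn K50.v12925))))
def v4880 : LQ := Led Lsl_gt (LP (LK LD1_c2 LD2_c51 LD3_c35))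
theorem f640691 : Led Lsl_gt (LP (LK LD1_c2 LD2_c51 LD3_c35)) = v4880 :=
  Lrfl
theorem f699638 : Led Lsl_gt v4880 = K50.v12925 :=
  Lgr Lrot46 (Lpe (f640691 IH) (Lpr_ft (K55.f22158 IH) (Lpr_at (f699633 IH) (Lpn K50.v12925))))
theorem f744508 : Led Lsl_ft v4880 = v15978 :=
  Lgr Lrot2 (Lpr_gt (f699638 IH) (Lpe (K56.f699637 IH) (Lpr_af (f744507 IH) (Lpn v15978))))
def v16215 : LQ := Led Lsl_gf (LP (LK LD1_c5 LD2_c55 LD3_c14))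
theorem f747062 : Led Lsl_gf (LP (LK LD1_c5 LD2_c55 LD3_c14)) = v16215 :=
  Lrfl
theorem f68945 : Led Lsl_et (LP (LK LD1_c6 LD2_c2 LD3_c43)) = (LP (LK LD1_c2 LD2_c57 LD3_c27)) :=
  Lre_e IH (LK LD1_c6 LD2_c2 LD3_c43) (LK LD1_c2 LD2_c57 LD3_c27) Lrfl Lrfl
theorem f747063 : Led Lsl_dt v4880 = v16215 :=
  Lgr Lrot171 (Lpe (f640691 IH) (Lpe (K11.f22142 IH) (Lpr_dt (K11.f22181 IH) (Lpr_gf (K11.f169780 IH) (Lpe (K11.f25938 IH) (Lpe (K11.f68922 IH) (Lpe (K35.f68944 IH) (Lpe (f68945 IH) (Lpr_dt (K55.f68946 IH) (Lpr_gf (f747062 IH) (Lpn v16215)))))))))))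
theorem f747064 : Led Lsl_df v4880 = v16215 :=
  Lgr Lrot38 (Lpr_dt (f747063 IH) (Lpn v16215))
theorem f901851 : Led Lsl_ff v16215 = (LP (LK LD1_c10 LD2_c17 LD3_c27)) :=
  Lgr Lrot19 (Lpe (f747064 IH) (Lpr_ft (f744508 IH) (Lpqs (f901849 IH) (Lpe (K56.f699623 IH) (Lpn (LP (LK LD1_c10 LD2_c17 LD3_c27)))))))
theorem f901852 : Led Lsl_ft v16215 = (LP (LK LD1_c10 LD2_c17 LD3_c27)) :=
  Lgr Lrot48 (Lpr_ff (f901851 IH) (Lpn (LP (LK LD1_c10 LD2_c17 LD3_c27))))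
theorem f166381 : Led Lsl_gt (LP (LK LD1_c2 LD2_c30 LD3_c45)) = (LP (LK LD1_c5 LD2_c6 LD3_c55)) :=
  Lre_g IH (LK LD1_c2 LD2_c30 LD3_c45) (LK LD1_c5 LD2_c6 LD3_c55) Lrfl Lrfl
theorem f166386 : Led Lsl_et (LP (LK LD1_c10 LD2_c4 LD3_c36)) = (LP (LK LD1_c5 LD2_c6 LD3_c55)) :=
  Lre_e IH (LK LD1_c10 LD2_c4 LD3_c36) (LK LD1_c5 LD2_c6 LD3_c55) Lrfl Lrfl
theorem f169772 : Led Lsl_df (LP (LK LD1_c5 LD2_c50 LD3_c46)) = (LP (LK LD1_c10 LD2_c4 LD3_c36)) :=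
  Lgr Lrot170 (Lpr_gt (K56.f22159 IH) (Lpr_df (K11.f22152 IH) (Lpr_et (K11.f22144 IH) (Lpr_gt (K9.f169748 IH) (Lpr_dt (K2.f71507 IH) (Lpe (K9.f166367 IH) (Lpe (K14.f166379 IH) (Lpr_et (K38.f166380 IH) (Lpr_gt (f166381 IH) (Lpe (f166386 IH) (Lpn (LP (LK LD1_c10 LD2_c4 LD3_c36)))))))))))))
theorem f169778 : Led Lsl_gf (LP (LK LD1_c10 LD2_c4 LD3_c36)) = (LP (LK LD1_c5 LD2_c55 LD3_c14)) :=
  Lgr Lrot138 (Lpe (f169772 IH) (Lpr_gt (K56.f22159 IH) (Lpr_df (K11.f22152 IH) (Lpr_et (K11.f22144 IH) (Lpr_gt (K9.f169748 IH) (Lpe (K17.f166182 IH) (Lpr_dt (K17.f166183 IH) (Lpr_gt (K24.f169775 IH) (Lpe (K49.f169776 IH) (Lpr_et (K53.f169777 IH) (Lpn (LP (LK LD1_c5 LD2_c55 LD3_c14)))))))))))))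
theorem f901853 : Led Lsl_af (LP (LK LD1_c10 LD2_c4 LD3_c36)) = (LP (LK LD1_c10 LD2_c17 LD3_c27)) :=
  Lgr Lrot31 (Lpr_gf (f169778 IH) (Lpr_gf (f747062 IH) (Lpr_ft (f901852 IH) (Lpn (LP (LK LD1_c10 LD2_c17 LD3_c27))))))
theorem f901854 : Led Lsl_at (LP (LK LD1_c10 LD2_c17 LD3_c27)) = (LP (LK LD1_c10 LD2_c4 LD3_c36)) :=
  Leop (Lpr_af (f901853 IH) (Lpn (LP (LK LD1_c10 LD2_c17 LD3_c27))))
theorem seed_2240 : LEOK LG_a (LK LD1_c10 LD2_c17 LD3_c27) :=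
  Leoe_a (LK LD1_c10 LD2_c17 LD3_c27) (f901854 IH)
theorem f100079 : Led Lsl_ct (LP (LK LD1_c17 LD2_c3 LD3_c5)) = (LP (LK LD1_c9 LD2_c9 LD3_c59)) :=
  Lre_c IH (LK LD1_c17 LD2_c3 LD3_c5) (LK LD1_c9 LD2_c9 LD3_c59) Lrfl Lrfl
theorem f100198 : Led Lsl_ct (LP (LK LD1_c4 LD2_c40 LD3_c0)) = (LP (LK LD1_c9 LD2_c15 LD3_c32)) :=
  Lre_c IH (LK LD1_c4 LD2_c40 LD3_c0) (LK LD1_c9 LD2_c15 LD3_c32) Lrfl Lrfl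
theorem f901896 : Led Lsl_af (LP (LK LD1_c17 LD2_c3 LD3_c5)) = (LP (LK LD1_c9 LD2_c15 LD3_c32)) :=
  Lgr Lrot68 (Lpr_ct (f100079 IH) (Lpr_at (f901740 IH) (Lpq (f901755 IH) (Lpr_ct (f100198 IH) (Lpn (LP (LK LD1_c9 LD2_c15 LD3_c32)))))))
theorem f901898 : Led Lsl_at (LP (LK LD1_c17 LD2_c3 LD3_c5)) = (LP (LK LD1_c9 LD2_c15 LD3_c32)) :=
  Lgr Lrot100 (Lpr_af (f901896 IH) (Lpn (LP (LK LD1_c9 LD2_c15 LD3_c32))))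
theorem f100109 : Led Lsl_ct (LP (LK LD1_c9 LD2_c15 LD3_c34)) = (LP (LK LD1_c4 LD2_c40 LD3_c1)) :=
  Lre_c IH (LK LD1_c9 LD2_c15 LD3_c34) (LK LD1_c4 LD2_c40 LD3_c1) Lrfl Lrfl
theorem f901892 : Led Lsl_ff (LP (LK LD1_c9 LD2_c15 LD3_c34)) = (LP (LK LD1_c17 LD2_c3 LD3_c5)) :=
  Lgr Lrot23 (Lpr_ct (f100109 IH) (Lpr_ft (f701148 IH) (Lpq (f901758 IH) (Lpr_ct (K65.f100077 IH) (Lpn (LP (LK LD1_c17 LD2_c3 LD3_c5)))))))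
theorem f901894 : Led Lsl_ft (LP (LK LD1_c9 LD2_c15 LD3_c34)) = (LP (LK LD1_c17 LD2_c3 LD3_c5)) :=
  Lgr Lrot48 (Lpr_ff (f901892 IH) (Lpn (LP (LK LD1_c17 LD2_c3 LD3_c5))))
theorem f901900 : Led Lsl_gt (LP (LK LD1_c17 LD2_c2 LD3_c21)) = (LP (LK LD1_c9 LD2_c15 LD3_c32)) :=
  Lgr Lrot46 (Lpr_gf (K56.f752432 IH) (Lpr_ft (f901894 IH) (Lpr_at (f901898 IH) (Lpn (LP (LK LD1_c9 LD2_c15 LD3_c32))))))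
theorem f739495 : Led Lsl_bt (LP (LK LD1_c11 LD2_c28 LD3_c26)) = (LP (LK LD1_c20 LD2_c22 LD3_c49)) :=
  Lgr Lrot127 (Lpr_bf (K64.f739493 IH) (Lpn (LP (LK LD1_c20 LD2_c22 LD3_c49))))
def v16174 : LQ := Led Lsl_gf (LP (LK LD1_c5 LD2_c54 LD3_c28))
theorem f746844 : Led Lsl_gf (LP (LK LD1_c5 LD2_c54 LD3_c28)) = v16174 :=
  Lrfl
theorem f132409 : Led Lsl_et (LP (LK LD1_c5 LD2_c47 LD3_c60)) = (LP (LK LD1_c2 LD2_c50 LD3_c0)) :=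
  Lre_e IH (LK LD1_c5 LD2_c47 LD3_c60) (LK LD1_c2 LD2_c50 LD3_c0) Lrfl Lrfl
theorem f137313 : Led Lsl_bt (LP (LK LD1_c2 LD2_c53 LD3_c38)) = (LP (LK LD1_c5 LD2_c47 LD3_c60)) :=
  Lgr Lrot119 (Lpe (K56.f137312 IH) (Lpr_bf (K6.f137304 IH) (Lpe (f132409 IH) (Lpn (LP (LK LD1_c5 LD2_c47 LD3_c60))))))
theorem f746845 : Led Lsl_ct (LP (LK LD1_c11 LD2_c28 LD3_c26)) = v16174 :=
  Lgr Lrot64 (Lpr_bt (f739495 IH) (Lpe (K64.f100317 IH) (Lpe (K51.f100319 IH) (Lpr_ct (K56.f100310 IH) (Lpr_gf (K64.f117255 IH) (Lpe (K56.f739482 IH) (Lpe (K56.f132407 IH) (Lpe (f137313 IH) (Lpr_ct (K8.f138408 IH) (Lpr_gf (f746844 IH) (Lpn v16174)))))))))))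
def v17234 : LQ := Led Lsl_ft (LP (LK LD1_c6 LD2_c16 LD3_c4))
theorem f757880 : Led Lsl_ft (LP (LK LD1_c6 LD2_c16 LD3_c4)) = v17234 :=
  Lrfl
theorem f757884 : Led Lsl_ff (LP (LK LD1_c6 LD2_c16 LD3_c4)) = v17234 :=
  Lgr Lrot3 (Lpr_ft (f757880 IH) (Lpn v17234))
theorem f138582 : Led Lsl_ct (LP (LK LD1_c3 LD2_c5 LD3_c8)) = (LP (LK LD1_c6 LD2_c16 LD3_c4)) :=
  Lre_c IH (LK LD1_c3 LD2_c5 LD3_c8) (LK LD1_c6 LD2_c16 LD3_c4) Lrfl Lrfl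
theorem f138412 : Led Lsl_ct (LP (LK LD1_c5 LD2_c54 LD3_c28)) = (LP (LK LD1_c2 LD2_c53 LD3_c38)) :=
  Lre_c IH (LK LD1_c5 LD2_c54 LD3_c28) (LK LD1_c2 LD2_c53 LD3_c38) Lrfl Lrfl
theorem f138583 : Led Lsl_at (LP (LK LD1_c6 LD2_c16 LD3_c4)) = (LP (LK LD1_c5 LD2_c54 LD3_c28)) :=
  Lgr Lrot107 (Lpe (f138582 IH) (Lpr_af (K56.f138452 IH) (Lpe (f138412 IH) (Lpn (LP (LK LD1_c5 LD2_c54 LD3_c28))))))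
theorem f757888 : Led Lsl_gf v16174 = v17234 :=
  Lgr Lrot47 (Lpe (f746844 IH) (Lpe (f138583 IH) (Lpr_ff (f757884 IH) (Lpn v17234))))
theorem f138455 : Led Lsl_ct (LP (LK LD1_c6 LD2_c16 LD3_c4)) = (LP (LK LD1_c3 LD2_c5 LD3_c8)) :=
  Lre_c IH (LK LD1_c6 LD2_c16 LD3_c4) (LK LD1_c3 LD2_c5 LD3_c8) Lrfl Lrfl
theorem f757886 : Led Lsl_ct (LP (LK LD1_c6 LD2_c16 LD3_c7)) = v17234 :=
  Lgr Lrot40 (Lpe (K64.f138471 IH) (Lpe (f138455 IH) (Lpr_ff (f757884 IH) (Lpn v17234))))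
theorem f138462 : Led Lsl_bt (LP (LK LD1_c6 LD2_c16 LD3_c7)) = (LP (LK LD1_c12 LD2_c9 LD3_c33)) :=
  Lre_b IH (LK LD1_c6 LD2_c16 LD3_c7) (LK LD1_c12 LD2_c9 LD3_c33) Lrfl Lrfl
theorem f701147 : Led Lsl_bt (LP (LK LD1_c4 LD2_c40 LD3_c0)) = (LP (LK LD1_c9 LD2_c15 LD3_c31)) :=
  Lre_b IH (LK LD1_c4 LD2_c40 LD3_c0) (LK LD1_c9 LD2_c15 LD3_c31) Lrfl Lrfl
theorem f901902 : Led Lsl_gf (LP (LK LD1_c12 LD2_c9 LD3_c33)) = (LP (LK LD1_c9 LD2_c15 LD3_c31)) :=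
  Lgr Lrot124 (Lpe (f138462 IH) (Lpr_ct (f757886 IH) (Lpe (f757888 IH) (Lpe (f746845 IH) (Lpr_bt (f739495 IH) (Lpr_gt (f132449 IH) (Lpe (K56.f207030 IH) (Lpr_gt (f901900 IH) (Lpe (f100198 IH) (Lpr_bt (f701147 IH) (Lpn (LP (LK LD1_c9 LD2_c15 LD3_c31)))))))))))))
theorem f901903 : Led Lsl_gt (LP (LK LD1_c9 LD2_c15 LD3_c31)) = (LP (LK LD1_c12 LD2_c9 LD3_c33)) :=
  Leop (Lpr_gf (f901902 IH) (Lpn (LP (LK LD1_c9 LD2_c15 LD3_c31))))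
theorem seed_2241 : LEOK LG_g (LK LD1_c9 LD2_c15 LD3_c31) :=
  Leoe_g (LK LD1_c9 LD2_c15 LD3_c31) (f901903 IH)
def v38397 : LQ := Led Lsl_ft (LP (LK LD1_c9 LD2_c10 LD3_c1))
theorem f901923 : Led Lsl_ft (LP (LK LD1_c9 LD2_c10 LD3_c1)) = v38397 :=
  Lrfl
theorem f901927 : Led Lsl_ff (LP (LK LD1_c9 LD2_c10 LD3_c1)) = v38397 :=
  Lgr Lrot3 (Lpr_ft (f901923 IH) (Lpn v38397))
def v15994 : LQ := Led Lsl_et (LP (LK LD1_c5 LD2_c51 LD3_c14))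
theorem f744693 : Led Lsl_et (LP (LK LD1_c5 LD2_c51 LD3_c14)) = v15994 :=
  Lrfl
theorem f744696 : Led Lsl_ef (LP (LK LD1_c5 LD2_c51 LD3_c14)) = v15994 :=
  Lgr Lrot88 (Lpr_et (f744693 IH) (Lpn v15994))
theorem f141613 : Led Lsl_bt (LP (LK LD1_c4 LD2_c37 LD3_c9)) = (LP (LK LD1_c3 LD2_c15 LD3_c51)) :=
  Lgr Lrot127 (Lpr_bf (K6.f141606 IH) (Lpn (LP (LK LD1_c3 LD2_c15 LD3_c51))))
theorem f158033 : Led Lsl_af (LP (LK LD1_c4 LD2_c37 LD3_c9)) = (LP (LK LD1_c5 LD2_c51 LD3_c14)) :=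
  Lgr Lrot36 (Lpr_bt (f141613 IH) (Lpe (K6.f119607 IH) (Lpe (K4.f117031 IH) (Lpr_at (K8.f158029 IH) (Lpr_bt (K36.f157196 IH) (Lpn (LP (LK LD1_c5 LD2_c51 LD3_c14))))))))
theorem f744697 : Led Lsl_at (LP (LK LD1_c9 LD2_c10 LD3_c1)) = v15994 :=
  Lgr Lrot80 (Lpe (K56.f141615 IH) (Lpr_af (f158033 IH) (Lpr_ef (f744696 IH) (Lpn v15994))))
def v17123 : LQ := Led Lsl_ct (LP (LK LD1_c6 LD2_c11 LD3_c51))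
theorem f755301 : Led Lsl_ct (LP (LK LD1_c6 LD2_c11 LD3_c51)) = v17123 :=
  Lrfl
theorem f418633 : Led Lsl_bt (LP (LK LD1_c11 LD2_c11 LD3_c26)) = (LP (LK LD1_c5 LD2_c40 LD3_c25)) :=
  Lre_b IH (LK LD1_c11 LD2_c11 LD3_c26) (LK LD1_c5 LD2_c40 LD3_c25) Lrfl Lrfl
theorem f418638 : Led Lsl_cf (LP (LK LD1_c11 LD2_c16 LD3_c2)) = (LP (LK LD1_c11 LD2_c11 LD3_c26)) :=
  Lgr Lrot11 (Lpr_ct (K53.f418629 IH) (Lpn (LP (LK LD1_c11 LD2_c11 LD3_c26))))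
theorem f710316 : Led Lsl_gf (LP (LK LD1_c11 LD2_c16 LD3_c2)) = (LP (LK LD1_c12 LD2_c54 LD3_c21)) :=
  Lgr Lrot129 (Lpr_cf (f418638 IH) (Lpr_bt (f418633 IH) (Lpr_gt (K51.f710312 IH) (Lpe (K51.f414335 IH) (Lpe (K24.f414320 IH) (Lpr_gt (K24.f22918 IH) (Lpe (K24.f22912 IH) (Lpr_bt (K53.f80011 IH) (Lpr_gt (K53.f79992 IH) (Lpr_ct (K53.f80010 IH) (Lpn (LP (LK LD1_c12 LD2_c54 LD3_c21)))))))))))))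
theorem f744695 : Led Lsl_cf (LP (LK LD1_c5 LD2_c51 LD3_c15)) = v15994 :=
  Lgr Lrot39 (Lpr_et (K8.f157204 IH) (Lpr_ct (K8.f24060 IH) (Lpr_et (f744693 IH) (Lpn v15994))))
theorem f755305 : Led Lsl_gf v15994 = v17123 :=
  Lgr Lrot104 (Lpe (f744695 IH) (Lpr_df (K52.f589207 IH) (Lpe (K53.f418629 IH) (Lpr_gf (f710316 IH) (Lpe (K53.f80010 IH) (Lpe (K53.f79992 IH) (Lpe (K51.f61452 IH) (Lpr_gt (K51.f80009 IH) (Lpr_ct (f755301 IH) (Lpn v17123))))))))))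
theorem f901931 : Led Lsl_gf v17123 = v38397 :=
  Lgr Lrot47 (Lpe (f755305 IH) (Lpe (f744697 IH) (Lpr_ff (f901927 IH) (Lpn v38397))))
def v5247 : LQ := Led Lsl_ct (LP (LK LD1_c3 LD2_c2 LD3_c30))
theorem f646786 : Led Lsl_ct (LP (LK LD1_c3 LD2_c2 LD3_c30)) = v5247 :=
  Lrfl
theorem f646787 : Led Lsl_cf (LP (LK LD1_c3 LD2_c2 LD3_c30)) = v5247 :=
  Lgr Lrot11 (Lpr_ct (f646786 IH) (Lpn v5247))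
theorem f755304 : Led Lsl_ff v5247 = v17123 :=
  Lgr Lrot23 (Lpe (f646787 IH) (Lpr_ft (K51.f646789 IH) (Lpqs (K51.f706260 IH) (Lpr_ct (f755301 IH) (Lpn v17123)))))
def v17122 : LQ := Led Lsl_ct (LP (LK LD1_c6 LD2_c11 LD3_c50))
theorem f755290 : Led Lsl_ct (LP (LK LD1_c6 LD2_c11 LD3_c50)) = v17122 :=
  Lrfl
theorem f755292 : Led Lsl_cf (LP (LK LD1_c6 LD2_c11 LD3_c50)) = v17122 :=
  Lgr Lrot11 (Lpr_ct (f755290 IH) (Lpn v17122))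
theorem f755300 : Led Lsl_at v5247 = v17122 :=
  Lgr Lrot107 (Lpe (f646786 IH) (Lpr_af (K51.f646780 IH) (Lpq (K51.f706255 IH) (Lpr_cf (f755292 IH) (Lpn v17122)))))
theorem f568468 : Led Lsl_ct (LP (LK LD1_c6 LD2_c11 LD3_c56)) = (LP (LK LD1_c3 LD2_c2 LD3_c31)) :=
  Lre_c IH (LK LD1_c6 LD2_c11 LD3_c56) (LK LD1_c3 LD2_c2 LD3_c31) Lrfl Lrfl
theorem f755294 : Led Lsl_ff (LP (LK LD1_c6 LD2_c11 LD3_c56)) = v17122 :=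
  Lgr Lrot23 (Lpr_ct (f568468 IH) (Lpr_ft (K51.f646781 IH) (Lpq (K51.f706255 IH) (Lpr_ct (f755290 IH) (Lpn v17122)))))
theorem f755306 : Led Lsl_at (LP (LK LD1_c6 LD2_c11 LD3_c56)) = v17123 :=
  Lgr Lrot66 (Lpr_ff (f755294 IH) (Lpe (f755300 IH) (Lpr_ff (f755304 IH) (Lpn v17123))))
theorem f901932 : Led Lsl_gt v17122 = v38397 :=
  Lgr Lrot5 (Lpe (f755294 IH) (Lpr_at (f755306 IH) (Lpr_gf (f901931 IH) (Lpn v38397))))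
theorem f150297 : Led Lsl_bt (LP (LK LD1_c6 LD2_c25 LD3_c17)) = (LP (LK LD1_c12 LD2_c23 LD3_c25)) :=
  Lre_b IH (LK LD1_c6 LD2_c25 LD3_c17) (LK LD1_c12 LD2_c23 LD3_c25) Lrfl Lrfl
theorem f150299 : Led Lsl_bt (LP (LK LD1_c20 LD2_c40 LD3_c30)) = (LP (LK LD1_c11 LD2_c40 LD3_c35)) :=
  Lre_b IH (LK LD1_c20 LD2_c40 LD3_c30) (LK LD1_c11 LD2_c40 LD3_c35) Lrfl Lrfl
theorem f150300 : Led Lsl_ct (LP (LK LD1_c11 LD2_c40 LD3_c35)) = (LP (LK LD1_c5 LD2_c57 LD3_c56)) :=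
  Lre_c IH (LK LD1_c11 LD2_c40 LD3_c35) (LK LD1_c5 LD2_c57 LD3_c56) Lrfl Lrfl
theorem f150301 : Led Lsl_bf (LP (LK LD1_c3 LD2_c10 LD3_c18)) = (LP (LK LD1_c5 LD2_c57 LD3_c56)) :=
  Lgr Lrot90 (Lpr_ct (K51.f150298 IH) (Lpr_bt (f150297 IH) (Lpr_ct (K32.f150295 IH) (Lpr_bt (f150299 IH) (Lpr_ct (f150300 IH) (Lpn (LP (LK LD1_c5 LD2_c57 LD3_c56))))))))
theorem f496783 : Led Lsl_at (LP (LK LD1_c3 LD2_c10 LD3_c18)) = (LP (LK LD1_c2 LD2_c54 LD3_c35)) :=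
  Lgr Lrot80 (Lpe (K32.f69217 IH) (Lpr_af (K32.f496779 IH) (Lpe (K32.f141858 IH) (Lpn (LP (LK LD1_c2 LD2_c54 LD3_c35))))))
theorem f560127 : Led Lsl_bt (LP (LK LD1_c2 LD2_c54 LD3_c35)) = (LP (LK LD1_c2 LD2_c51 LD3_c39)) :=
  Lgr Lrot62 (Lpe (f496783 IH) (Lpr_bf (f150301 IH) (Lpr_af (K50.f496714 IH) (Lpr_bf (K50.f560125 IH) (Lpr_af (K50.f406400 IH) (Lpn (LP (LK LD1_c2 LD2_c51 LD3_c39))))))))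
theorem f141809 : Led Lsl_ct (LP (LK LD1_c2 LD2_c54 LD3_c35)) = (LP (LK LD1_c5 LD2_c56 LD3_c31)) :=
  Lre_c IH (LK LD1_c2 LD2_c54 LD3_c35) (LK LD1_c5 LD2_c56 LD3_c31) Lrfl Lrfl
theorem f141783 : Led Lsl_gt (LP (LK LD1_c11 LD2_c38 LD3_c20)) = (LP (LK LD1_c5 LD2_c56 LD3_c31)) :=
  Lre_g IH (LK LD1_c11 LD2_c38 LD3_c20) (LK LD1_c5 LD2_c56 LD3_c31) Lrfl Lrfl
theorem f157137 : Led Lsl_ft (LP (LK LD1_c9 LD2_c47 LD3_c25)) = (LP (LK LD1_c17 LD2_c57 LD3_c47)) :=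
  Lre_f IH (LK LD1_c9 LD2_c47 LD3_c25) (LK LD1_c17 LD2_c57 LD3_c47) Lrfl Lrfl
theorem f901930 : Led Lsl_ct (LP (LK LD1_c17 LD2_c57 LD3_c47)) = v38397 :=
  Lgr Lrot40 (Lpe (f157137 IH) (Lpr_cf (K56.f157143 IH) (Lpr_ff (f901927 IH) (Lpn v38397))))
theorem f157129 : Led Lsl_bt (LP (LK LD1_c17 LD2_c57 LD3_c47)) = (LP (LK LD1_c20 LD2_c22 LD3_c43)) :=
  Lgr Lrot127 (Lpr_bf (K51.f157127 IH) (Lpn (LP (LK LD1_c20 LD2_c22 LD3_c43))))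
theorem f119880 : Led Lsl_gt (LP (LK LD1_c20 LD2_c22 LD3_c43)) = (LP (LK LD1_c11 LD2_c25 LD3_c16)) :=
  Lre_g IH (LK LD1_c20 LD2_c22 LD3_c43) (LK LD1_c11 LD2_c25 LD3_c16) Lrfl Lrfl
theorem f901933 : Led Lsl_cf (LP (LK LD1_c11 LD2_c38 LD3_c20)) = (LP (LK LD1_c11 LD2_c25 LD3_c16)) :=
  Lgr Lrot125 (Lpr_gt (f141783 IH) (Lpe (f141809 IH) (Lpr_bt (f560127 IH) (Lpr_gt (K53.f204837 IH) (Lpr_bf (K53.f706824 IH) (Lpq (K51.f706255 IH) (Lpr_ct (f755290 IH) (Lpr_gt (f901932 IH) (Lpe (f901930 IH) (Lpr_bt (f157129 IH) (Lpr_gt (f119880 IH) (Lpn (LP (LK LD1_c11 LD2_c25 LD3_c16))))))))))))))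
theorem f901934 : Led Lsl_ct (LP (LK LD1_c11 LD2_c25 LD3_c16)) = (LP (LK LD1_c11 LD2_c38 LD3_c20)) :=
  Leop (Lpr_cf (f901933 IH) (Lpn (LP (LK LD1_c11 LD2_c25 LD3_c16))))
theorem seed_2242 : LEOK LG_c (LK LD1_c11 LD2_c25 LD3_c16) :=
  Leoe_c (LK LD1_c11 LD2_c25 LD3_c16) (f901934 IH)
def v38399 : LQ := Led Lsl_ft (LP (LK LD1_c9 LD2_c10 LD3_c2))
theorem f901946 : Led Lsl_ft (LP (LK LD1_c9 LD2_c10 LD3_c2)) = v38399 :=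
  Lrfl
theorem f428497 : Led Lsl_gt (LP (LK LD1_c9 LD2_c10 LD3_c2)) = (LP (LK LD1_c17 LD2_c3 LD3_c9)) :=
  Lre_g IH (LK LD1_c9 LD2_c10 LD3_c2) (LK LD1_c17 LD2_c3 LD3_c9) Lrfl Lrfl
theorem f124797 : Led Lsl_et (LP (LK LD1_c3 LD2_c7 LD3_c40)) = (LP (LK LD1_c6 LD2_c20 LD3_c13)) :=
  Lre_e IH (LK LD1_c3 LD2_c7 LD3_c40) (LK LD1_c6 LD2_c20 LD3_c13) Lrfl Lrfl
theorem f428465 : Led Lsl_af (LP (LK LD1_c9 LD2_c10 LD3_c2)) = (LP (LK LD1_c6 LD2_c20 LD3_c13)) :=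
  Lgr Lrot50 (Lpr_et (K60.f139056 IH) (Lpr_at (K32.f428461 IH) (Lpr_et (f124797 IH) (Lpn (LP (LK LD1_c6 LD2_c20 LD3_c13))))))
theorem f124793 : Led Lsl_ft (LP (LK LD1_c12 LD2_c15 LD3_c6)) = (LP (LK LD1_c6 LD2_c20 LD3_c13)) :=
  Lre_f IH (LK LD1_c12 LD2_c15 LD3_c6) (LK LD1_c6 LD2_c20 LD3_c13) Lrfl Lrfl
theorem f901947 : Led Lsl_af (LP (LK LD1_c12 LD2_c15 LD3_c6)) = v38399 :=
  Lgr Lrot45 (Lpr_ft (f124793 IH) (Lpe (f428465 IH) (Lpr_ft (f901946 IH) (Lpn v38399))))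
theorem f901952 : Led Lsl_gt (LP (LK LD1_c17 LD2_c3 LD3_c9)) = (LP (LK LD1_c12 LD2_c15 LD3_c6)) :=
  Lgr Lrot46 (Lpe (f428497 IH) (Lpr_ft (f901946 IH) (Lpe (f901947 IH) (Lpn (LP (LK LD1_c12 LD2_c15 LD3_c6))))))
theorem f901953 : Led Lsl_gt (LP (LK LD1_c17 LD2_c3 LD3_c9)) = (LP (LK LD1_c12 LD2_c15 LD3_c6)) :=
  Leop (Lpe (f901952 IH) (Lpn (LP (LK LD1_c17 LD2_c3 LD3_c9))))
theorem seed_2243 : LEOK LG_g (LK LD1_c17 LD2_c3 LD3_c9) :=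
  Leoe_g (LK LD1_c17 LD2_c3 LD3_c9) (f901953 IH)
def v38407 : LQ := Led Lsl_gf (LP (LK LD1_c9 LD2_c10 LD3_c8))
theorem f901998 : Led Lsl_gf (LP (LK LD1_c9 LD2_c10 LD3_c8)) = v38407 :=
  Lrfl
theorem f141889 : Led Lsl_dt (LP (LK LD1_c4 LD2_c37 LD3_c12)) = (LP (LK LD1_c9 LD2_c10 LD3_c8)) :=
  Lre_d IH (LK LD1_c4 LD2_c37 LD3_c12) (LK LD1_c9 LD2_c10 LD3_c8) Lrfl Lrfl
theorem f141888 : Led Lsl_et (LP (LK LD1_c4 LD2_c37 LD3_c12)) = (LP (LK LD1_c2 LD2_c15 LD3_c46)) :=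
  Lre_e IH (LK LD1_c4 LD2_c37 LD3_c12) (LK LD1_c2 LD2_c15 LD3_c46) Lrfl Lrfl
theorem f141892 : Led Lsl_et (LP (LK LD1_c12 LD2_c53 LD3_c42)) = (LP (LK LD1_c6 LD2_c44 LD3_c36)) :=
  Lre_e IH (LK LD1_c12 LD2_c53 LD3_c42) (LK LD1_c6 LD2_c44 LD3_c36) Lrfl Lrfl
theorem f901999 : Led Lsl_dt (LP (LK LD1_c12 LD2_c53 LD3_c42)) = v38407 :=
  Lgr Lrot136 (Lpr_et (f141892 IH) (Lpe (K55.f141891 IH) (Lpe (K35.f141890 IH) (Lpr_dt (K8.f116966 IH) (Lpr_gf (K8.f141881 IH) (Lpe (K8.f141875 IH) (Lpe (K4.f100249 IH) (Lpe (f141888 IH) (Lpr_dt (f141889 IH) (Lpr_gf (f901998 IH) (Lpn v38407)))))))))))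
theorem f622272 : Led Lsl_dt (LP (LK LD1_c9 LD2_c10 LD3_c8)) = (LP (LK LD1_c4 LD2_c37 LD3_c12)) :=
  Lre_d IH (LK LD1_c9 LD2_c10 LD3_c8) (LK LD1_c4 LD2_c37 LD3_c12) Lrfl Lrfl
theorem f719612 : Led Lsl_ct (LP (LK LD1_c17 LD2_c6 LD3_c47)) = (LP (LK LD1_c9 LD2_c12 LD3_c36)) :=
  Lre_c IH (LK LD1_c17 LD2_c6 LD3_c47) (LK LD1_c9 LD2_c12 LD3_c36) Lrfl Lrfl
theorem f902002 : Led Lsl_gf (LP (LK LD1_c12 LD2_c53 LD3_c42)) = (LP (LK LD1_c17 LD2_c6 LD3_c47)) :=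
  Lgr Lrot144 (Lpr_dt (f901999 IH) (Lpe (f901998 IH) (Lpr_dt (f622272 IH) (Lpe (K66.f622271 IH) (Lpe (K52.f546430 IH) (Lpr_gf (K55.f699923 IH) (Lpe (K55.f699922 IH) (Lpr_gf (f723202 IH) (Lpe (f719612 IH) (Lpn (LP (LK LD1_c17 LD2_c6 LD3_c47))))))))))))
theorem f902003 : Led Lsl_gt (LP (LK LD1_c17 LD2_c6 LD3_c47)) = (LP (LK LD1_c12 LD2_c53 LD3_c42)) :=
  Leop (Lpr_gf (f902002 IH) (Lpn (LP (LK LD1_c17 LD2_c6 LD3_c47))))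
theorem seed_2244 : LEOK LG_g (LK LD1_c17 LD2_c6 LD3_c47) :=
  Leoe_g (LK LD1_c17 LD2_c6 LD3_c47) (f902003 IH)
def v38433 : LQ := Led Lsl_et (LP (LK LD1_c9 LD2_c10 LD3_c25))
theorem f902136 : Led Lsl_et (LP (LK LD1_c9 LD2_c10 LD3_c25)) = v38433 :=
  Lrfl
theorem f599537 : Led Lsl_dt (LP (LK LD1_c9 LD2_c10 LD3_c25)) = (LP (LK LD1_c17 LD2_c3 LD3_c34)) :=
  Lre_d IH (LK LD1_c9 LD2_c10 LD3_c25) (LK LD1_c17 LD2_c3 LD3_c34) Lrfl Lrfl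
theorem f599542 : Led Lsl_gt (LP (LK LD1_c17 LD2_c3 LD3_c34)) = (LP (LK LD1_c11 LD2_c22 LD3_c55)) :=
  Lgr Lrot137 (Lpr_ef (K67.f599538 IH) (Lpr_dt (K67.f509809 IH) (Lpe (K67.f414529 IH) (Lpe (K67.f445866 IH) (Lpr_et (K35.f27129 IH) (Lpe (K24.f77037 IH) (Lpr_ef (K35.f494584 IH) (Lpe (K35.f494580 IH) (Lpe (K35.f494570 IH) (Lpe (K35.f494577 IH) (Lpn (LP (LK LD1_c11 LD2_c22 LD3_c55)))))))))))))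
theorem f494573 : Led Lsl_df (LP (LK LD1_c11 LD2_c22 LD3_c55)) = (LP (LK LD1_c11 LD2_c49 LD3_c31)) :=
  Lgr Lrot70 (Lpr_et (K35.f225987 IH) (Lpe (K50.f225974 IH) (Lpr_et (K17.f225941 IH) (Lpr_dt (K50.f225938 IH) (Lpr_et (K35.f494571 IH) (Lpn (LP (LK LD1_c11 LD2_c49 LD3_c31))))))))
theorem f631708 : Led Lsl_ft (LP (LK LD1_c4 LD2_c33 LD3_c47)) = (LP (LK LD1_c9 LD2_c5 LD3_c6)) :=
  Lre_f IH (LK LD1_c4 LD2_c33 LD3_c47) (LK LD1_c9 LD2_c5 LD3_c6) Lrfl Lrfl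
theorem f640391 : Led Lsl_at (LP (LK LD1_c9 LD2_c5 LD3_c6)) = (LP (LK LD1_c5 LD2_c46 LD3_c0)) :=
  Lgr Lrot100 (Lpr_af (K53.f640387 IH) (Lpn (LP (LK LD1_c5 LD2_c46 LD3_c0))))
theorem f698639 : Led Lsl_gt (LP (LK LD1_c9 LD2_c4 LD3_c46)) = (LP (LK LD1_c5 LD2_c46 LD3_c0)) :=
  Lgr Lrot46 (Lpr_gf (K50.f698637 IH) (Lpr_ft (f631708 IH) (Lpr_at (f640391 IH) (Lpn (LP (LK LD1_c5 LD2_c46 LD3_c0))))))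
theorem f902141 : Led Lsl_gt (LP (LK LD1_c16 LD2_c57 LD3_c55)) = v38433 :=
  Lgr Lrot131 (Lpe (K50.f639740 IH) (Lpe (K50.f639749 IH) (Lpe (f698639 IH) (Lpe (K50.f226000 IH) (Lpe (K55.f225939 IH) (Lpr_ef (K35.f494575 IH) (Lpe (f494573 IH) (Lpe (f599542 IH) (Lpe (f599537 IH) (Lpr_et (f902136 IH) (Lpn v38433)))))))))))
theorem f639738 : Led Lsl_dt (LP (LK LD1_c12 LD2_c3 LD3_c58)) = (LP (LK LD1_c16 LD2_c57 LD3_c55)) :=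
  Lgr Lrot42 (Lpr_df (K50.f639735 IH) (Lpn (LP (LK LD1_c16 LD2_c57 LD3_c55))))
def v37889 : LQ := Led Lsl_ft (LP (LK LD1_c9 LD2_c1 LD3_c38))
theorem f897415 : Led Lsl_ft (LP (LK LD1_c9 LD2_c1 LD3_c38)) = v37889 :=
  Lrfl
theorem f449210 : Led Lsl_ft (LP (LK LD1_c2 LD2_c46 LD3_c32)) = (LP (LK LD1_c4 LD2_c31 LD3_c54)) :=
  Lgr Lrot54 (Lpe (K10.f60178 IH) (Lpr_ff (K36.f449208 IH) (Lpe (K36.f60210 IH) (Lpn (LP (LK LD1_c4 LD2_c31 LD3_c54))))))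
theorem f897418 : Led Lsl_ef (LP (LK LD1_c11 LD2_c12 LD3_c36)) = v37889 :=
  Lgr Lrot21 (Lpr_ft (K56.f68644 IH) (Lpr_et (K32.f60182 IH) (Lpr_ft (f449210 IH) (Lpr_et (K36.f164284 IH) (Lpr_ft (f897415 IH) (Lpn v37889))))))
theorem f699785 : Led Lsl_ff (LP (LK LD1_c4 LD2_c35 LD3_c14)) = K50.v12951 :=
  Lgr Lrot3 (Lpr_ft (K50.f699782 IH) (Lpn K50.v12951))
theorem f897417 : Led Lsl_df K50.v12951 = v37889 :=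
  Lgr Lrot78 (Lpe (f699785 IH) (Lpr_dt (K36.f164288 IH) (Lpr_ft (f897415 IH) (Lpn v37889))))
theorem f449280 : Led Lsl_at (LP (LK LD1_c4 LD2_c35 LD3_c14)) = (LP (LK LD1_c2 LD2_c53 LD3_c1)) :=
  Lgr Lrot100 (Lpr_af (K36.f449278 IH) (Lpn (LP (LK LD1_c2 LD2_c53 LD3_c1))))
theorem f699831 : Led Lsl_gf (LP (LK LD1_c5 LD2_c53 LD3_c24)) = K50.v12951 :=
  Lgr Lrot47 (Lpr_gt (K50.f24492 IH) (Lpe (f449280 IH) (Lpr_ff (f699785 IH) (Lpn K50.v12951))))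
theorem f699832 : Led Lsl_gt (LP (LK LD1_c5 LD2_c53 LD3_c23)) = K50.v12951 :=
  Lgr Lrot5 (Lpe (K50.f699793 IH) (Lpe (K50.f699772 IH) (Lpr_gf (f699831 IH) (Lpn K50.v12951))))
theorem f509948 : Led Lsl_af (LP (LK LD1_c12 LD2_c55 LD3_c17)) = (LP (LK LD1_c12 LD2_c4 LD3_c6)) :=
  Lgr Lrot0 (Lpr_at (K35.f509944 IH) (Lpn (LP (LK LD1_c12 LD2_c4 LD3_c6))))
theorem f445872 : Led Lsl_ft (LP (LK LD1_c6 LD2_c12 LD3_c13)) = (LP (LK LD1_c12 LD2_c4 LD3_c6)) :=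
  Lre_f IH (LK LD1_c6 LD2_c12 LD3_c13) (LK LD1_c12 LD2_c4 LD3_c6) Lrfl Lrfl
theorem f510103 : Led Lsl_gf (LP (LK LD1_c12 LD2_c55 LD3_c17)) = (LP (LK LD1_c12 LD2_c4 LD3_c4)) :=
  Lgr Lrot76 (Lpr_af (f509948 IH) (Lpe (f445872 IH) (Lpr_gt (K67.f414529 IH) (Lpn (LP (LK LD1_c12 LD2_c4 LD3_c4))))))
theorem f700699 : Led Lsl_gt (LP (LK LD1_c17 LD2_c6 LD3_c42)) = (LP (LK LD1_c9 LD2_c12 LD3_c29)) :=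
  Lre_g IH (LK LD1_c17 LD2_c6 LD3_c42) (LK LD1_c9 LD2_c12 LD3_c29) Lrfl Lrfl
theorem f719843 : Led Lsl_et (LP (LK LD1_c12 LD2_c4 LD3_c4)) = (LP (LK LD1_c17 LD2_c6 LD3_c42)) :=
  Lgr Lrot121 (Lpe (K67.f509807 IH) (Lpe (K55.f23970 IH) (Lpr_df (K56.f23965 IH) (Lpr_et (K55.f23943 IH) (Lpe (K32.f268489 IH) (Lpe (K32.f60182 IH) (Lpr_dt (K51.f68635 IH) (Lpr_gf (K53.f648266 IH) (Lpqs (K53.f719496 IH) (Lpe (K56.f700698 IH) (Lpe (f700699 IH) (Lpn (LP (LK LD1_c17 LD2_c6 LD3_c42))))))))))))))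
theorem f719845 : Led Lsl_ef (LP (LK LD1_c12 LD2_c4 LD3_c4)) = (LP (LK LD1_c17 LD2_c6 LD3_c42)) :=
  Lgr Lrot88 (Lpr_et (f719843 IH) (Lpn (LP (LK LD1_c17 LD2_c6 LD3_c42))))
theorem f902143 : Led Lsl_dt (LP (LK LD1_c17 LD2_c6 LD3_c42)) = v38433 :=
  Lgr Lrot56 (Lpe (f719845 IH) (Lpe (f510103 IH) (Lpr_ef (K67.f699802 IH) (Lpr_dt (K50.f177014 IH) (Lpr_gt (f699832 IH) (Lpr_df (f897417 IH) (Lpe (f897418 IH) (Lpe (K56.f639732 IH) (Lpr_dt (f639738 IH) (Lpr_gt (f902141 IH) (Lpn v38433)))))))))))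
theorem f616388 : Led Lsl_bt (LP (LK LD1_c5 LD2_c55 LD3_c55)) = (LP (LK LD1_c9 LD2_c10 LD3_c25)) :=
  Lgr Lrot127 (Lpr_bf (K55.f616371 IH) (Lpn (LP (LK LD1_c9 LD2_c10 LD3_c25))))
theorem f902137 : Led Lsl_bf (LP (LK LD1_c11 LD2_c22 LD3_c29)) = v38433 :=
  Lgr Lrot96 (Lpe (K55.f714360 IH) (Lpr_bt (f616388 IH) (Lpr_et (f902136 IH) (Lpn v38433))))
theorem f902144 : Led Lsl_bf (LP (LK LD1_c17 LD2_c6 LD3_c42)) = (LP (LK LD1_c9 LD2_c13 LD3_c52)) :=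
  Lgr Lrot93 (Lpr_dt (f902143 IH) (Lpe (f902137 IH) (Lpe (K55.f714354 IH) (Lpn (LP (LK LD1_c9 LD2_c13 LD3_c52))))))
theorem f902145 : Led Lsl_bt (LP (LK LD1_c9 LD2_c13 LD3_c52)) = (LP (LK LD1_c17 LD2_c6 LD3_c42)) :=
  Leop (Lpr_bf (f902144 IH) (Lpn (LP (LK LD1_c9 LD2_c13 LD3_c52))))
theorem seed_2245 : LEOK LG_b (LK LD1_c9 LD2_c13 LD3_c52) :=
  Leoe_b (LK LD1_c9 LD2_c13 LD3_c52) (f902145 IH)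
theorem f714352 : Led Lsl_dt (LP (LK LD1_c9 LD2_c13 LD3_c52)) = (LP (LK LD1_c11 LD2_c22 LD3_c29)) :=
  Lgr Lrot6 (Lpe (K55.f645493 IH) (Lpr_ct (K52.f645500 IH) (Lpr_gt (K52.f645651 IH) (Lpr_ct (K52.f140900 IH) (Lpe (K52.f140902 IH) (Lpr_cf (K55.f714272 IH) (Lpr_gf (K55.f640264 IH) (Lpe (K55.f640142 IH) (Lpe (K55.f640133 IH) (Lpn (LP (LK LD1_c11 LD2_c22 LD3_c29))))))))))))
theorem f747914 : Led Lsl_ft (LP (LK LD1_c6 LD2_c3 LD3_c13)) = (LP (LK LD1_c9 LD2_c13 LD3_c52)) :=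
  Lgr Lrot54 (Lpe (K56.f645572 IH) (Lpr_ff (K56.f747910 IH) (Lpe (f714352 IH) (Lpn (LP (LK LD1_c9 LD2_c13 LD3_c52))))))
def v16597 : LQ := Led Lsl_bt (LP (LK LD1_c6 LD2_c3 LD3_c13))
theorem f750660 : Led Lsl_bt (LP (LK LD1_c6 LD2_c3 LD3_c13)) = v16597 :=
  Lrfl
theorem f750661 : Led Lsl_bf (LP (LK LD1_c6 LD2_c3 LD3_c13)) = v16597 :=
  Lgr Lrot24 (Lpr_bt (f750660 IH) (Lpn v16597))
theorem f902148 : Led Lsl_ft (LP (LK LD1_c17 LD2_c6 LD3_c42)) = v16597 :=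
  Lgr Lrot75 (Lpr_bf (f902144 IH) (Lpe (f747914 IH) (Lpr_bf (f750661 IH) (Lpn v16597))))
theorem f902150 : Led Lsl_ff (LP (LK LD1_c17 LD2_c6 LD3_c42)) = v16597 :=
  Lgr Lrot3 (Lpr_ft (f902148 IH) (Lpn v16597))
theorem f68784 : Led Lsl_et (LP (LK LD1_c2 LD2_c47 LD3_c10)) = (LP (LK LD1_c5 LD2_c42 LD3_c26)) :=
  Lre_e IH (LK LD1_c2 LD2_c47 LD3_c10) (LK LD1_c5 LD2_c42 LD3_c26) Lrfl Lrfl
theorem f68756 : Led Lsl_gt (LP (LK LD1_c5 LD2_c42 LD3_c26)) = (LP (LK LD1_c11 LD2_c15 LD3_c3)) :=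
  Lre_g IH (LK LD1_c5 LD2_c42 LD3_c26) (LK LD1_c11 LD2_c15 LD3_c3) Lrfl Lrfl
theorem f268659 : Led Lsl_et (LP (LK LD1_c11 LD2_c51 LD3_c18)) = (LP (LK LD1_c11 LD2_c15 LD3_c3)) :=
  Lgr Lrot122 (Lpr_dt (K67.f175438 IH) (Lpr_gt (K67.f175408 IH) (Lpr_df (f175432 IH) (Lpr_et (K39.f175427 IH) (Lpr_gt (K16.f175511 IH) (Lpr_dt (K36.f60210 IH) (Lpr_gt (K16.f268655 IH) (Lpe (K16.f68794 IH) (Lpr_et (f68784 IH) (Lpr_gt (f68756 IH) (Lpn (LP (LK LD1_c11 LD2_c15 LD3_c3)))))))))))))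
theorem f268662 : Led Lsl_ef (LP (LK LD1_c11 LD2_c51 LD3_c18)) = (LP (LK LD1_c11 LD2_c15 LD3_c3)) :=
  Lgr Lrot88 (Lpr_et (f268659 IH) (Lpn (LP (LK LD1_c11 LD2_c15 LD3_c3))))
theorem f68762 : Led Lsl_gt (LP (LK LD1_c5 LD2_c46 LD3_c57)) = (LP (LK LD1_c11 LD2_c24 LD3_c1)) :=
  Lre_g IH (LK LD1_c5 LD2_c46 LD3_c57) (LK LD1_c11 LD2_c24 LD3_c1) Lrfl Lrfl
theorem f699811 : Led Lsl_et (LP (LK LD1_c12 LD2_c4 LD3_c5)) = (LP (LK LD1_c11 LD2_c24 LD3_c1)) :=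
  Lgr Lrot122 (Lpr_dt (K67.f699804 IH) (Lpr_gt (K67.f23969 IH) (Lpr_df (K56.f23965 IH) (Lpr_et (K55.f23943 IH) (Lpe (K40.f177003 IH) (Lpr_dt (K36.f176903 IH) (Lpe (K16.f268717 IH) (Lpr_df (K16.f268679 IH) (Lpr_et (K16.f68734 IH) (Lpr_gt (f68762 IH) (Lpn (LP (LK LD1_c11 LD2_c24 LD3_c1)))))))))))))
theorem f747686 : Led Lsl_af (LP (LK LD1_c11 LD2_c15 LD3_c3)) = (LP (LK LD1_c11 LD2_c24 LD3_c1)) :=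
  Lgr Lrot50 (Lpe (f268662 IH) (Lpr_at (K67.f747682 IH) (Lpr_et (f699811 IH) (Lpn (LP (LK LD1_c11 LD2_c24 LD3_c1))))))
theorem f68749 : Led Lsl_gt (LP (LK LD1_c11 LD2_c15 LD3_c4)) = (LP (LK LD1_c5 LD2_c42 LD3_c26)) :=
  Lre_g IH (LK LD1_c11 LD2_c15 LD3_c4) (LK LD1_c5 LD2_c42 LD3_c26) Lrfl Lrfl
theorem f747765 : Led Lsl_ft (LP (LK LD1_c11 LD2_c15 LD3_c4)) = (LP (LK LD1_c11 LD2_c24 LD3_c1)) :=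
  Lgr Lrot2 (Lpr_gt (f68749 IH) (Lpr_gt (f68756 IH) (Lpr_af (f747686 IH) (Lpn (LP (LK LD1_c11 LD2_c24 LD3_c1))))))
theorem f747769 : Led Lsl_ff (LP (LK LD1_c11 LD2_c15 LD3_c4)) = (LP (LK LD1_c11 LD2_c24 LD3_c1)) :=
  Lgr Lrot3 (Lpr_ft (f747765 IH) (Lpn (LP (LK LD1_c11 LD2_c24 LD3_c1))))
theorem f68763 : Led Lsl_gf (LP (LK LD1_c11 LD2_c14 LD3_c54)) = (LP (LK LD1_c11 LD2_c24 LD3_c1)) :=
  Lgr Lrot76 (Lpr_af (K16.f68753 IH) (Lpe (K16.f68761 IH) (Lpr_gt (f68762 IH) (Lpn (LP (LK LD1_c11 LD2_c24 LD3_c1))))))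
theorem f68760 : Led Lsl_ft (LP (LK LD1_c11 LD2_c14 LD3_c54)) = (LP (LK LD1_c5 LD2_c42 LD3_c26)) :=
  Lre_f IH (LK LD1_c11 LD2_c14 LD3_c54) (LK LD1_c5 LD2_c42 LD3_c26) Lrfl Lrfl
theorem f68786 : Led Lsl_gt (LP (LK LD1_c11 LD2_c24 LD3_c2)) = (LP (LK LD1_c5 LD2_c46 LD3_c57)) :=
  Lre_g IH (LK LD1_c11 LD2_c24 LD3_c2) (LK LD1_c5 LD2_c46 LD3_c57) Lrfl Lrfl
theorem f68787 : Led Lsl_gt (LP (LK LD1_c11 LD2_c14 LD3_c54)) = (LP (LK LD1_c11 LD2_c24 LD3_c2)) :=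
  Lgr Lrot5 (Lpr_ft (f68760 IH) (Lpr_at (K66.f68738 IH) (Lpe (f68786 IH) (Lpn (LP (LK LD1_c11 LD2_c24 LD3_c2))))))
theorem f747773 : Led Lsl_at (LP (LK LD1_c11 LD2_c15 LD3_c4)) = (LP (LK LD1_c11 LD2_c24 LD3_c2)) :=
  Lgr Lrot26 (Lpr_ff (f747769 IH) (Lpe (f68763 IH) (Lpr_gt (f68787 IH) (Lpn (LP (LK LD1_c11 LD2_c24 LD3_c2))))))
theorem f747763 : Led Lsl_at (LP (LK LD1_c11 LD2_c15 LD3_c3)) = (LP (LK LD1_c11 LD2_c24 LD3_c1)) :=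
  Lgr Lrot100 (Lpr_af (f747686 IH) (Lpn (LP (LK LD1_c11 LD2_c24 LD3_c1))))
theorem f747777 : Led Lsl_ff (LP (LK LD1_c11 LD2_c15 LD3_c3)) = (LP (LK LD1_c11 LD2_c24 LD3_c2)) :=
  Lgr Lrot30 (Lpr_at (f747763 IH) (Lpe (f747769 IH) (Lpr_at (f747773 IH) (Lpn (LP (LK LD1_c11 LD2_c24 LD3_c2))))))
theorem f747779 : Led Lsl_ft (LP (LK LD1_c11 LD2_c15 LD3_c3)) = (LP (LK LD1_c11 LD2_c24 LD3_c2)) :=
  Lgr Lrot48 (Lpr_ff (f747777 IH) (Lpn (LP (LK LD1_c11 LD2_c24 LD3_c2))))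
theorem f902151 : Led Lsl_et (LP (LK LD1_c11 LD2_c24 LD3_c2)) = v16597 :=
  Lgr Lrot69 (Lpe (f747779 IH) (Lpe (f268659 IH) (Lpe (K67.f747672 IH) (Lpr_ef (f719845 IH) (Lpr_ff (f902150 IH) (Lpn v16597))))))
theorem f566534 : Led Lsl_dt (LP (LK LD1_c16 LD2_c54 LD3_c2)) = (LP (LK LD1_c9 LD2_c3 LD3_c14)) :=
  Lre_d IH (LK LD1_c16 LD2_c54 LD3_c2) (LK LD1_c9 LD2_c3 LD3_c14) Lrfl Lrfl
theorem f566539 : Led Lsl_af (LP (LK LD1_c16 LD2_c52 LD3_c28)) = (LP (LK LD1_c9 LD2_c3 LD3_c15)) :=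
  Lgr Lrot45 (Lpr_ft (f566538 IH) (Lpr_at (K41.f566515 IH) (Lpr_ft (K51.f566522 IH) (Lpn (LP (LK LD1_c9 LD2_c3 LD3_c15))))))
theorem f566542 : Led Lsl_gf (LP (LK LD1_c16 LD2_c52 LD3_c28)) = (LP (LK LD1_c9 LD2_c3 LD3_c14)) :=
  Lgr Lrot76 (Lpr_af (f566539 IH) (Lpe (K51.f566522 IH) (Lpr_gt (K55.f566523 IH) (Lpn (LP (LK LD1_c9 LD2_c3 LD3_c14))))))
theorem f280329 : Led Lsl_dt (LP (LK LD1_c9 LD2_c2 LD3_c12)) = (LP (LK LD1_c16 LD2_c52 LD3_c28)) :=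
  Lre_d IH (LK LD1_c9 LD2_c2 LD3_c12) (LK LD1_c16 LD2_c52 LD3_c28) Lrfl Lrfl
theorem f280328 : Led Lsl_gt (LP (LK LD1_c5 LD2_c42 LD3_c60)) = (LP (LK LD1_c11 LD2_c15 LD3_c24)) :=
  Lre_g IH (LK LD1_c5 LD2_c42 LD3_c60) (LK LD1_c11 LD2_c15 LD3_c24) Lrfl Lrfl
theorem f714567 : Led Lsl_ef (LP (LK LD1_c11 LD2_c15 LD3_c24)) = (LP (LK LD1_c6 LD2_c3 LD3_c13)) :=
  Lgr Lrot17 (Lpe (f280328 IH) (Lpr_ef (K16.f280299 IH) (Lpr_dt (f280329 IH) (Lpr_gf (f566542 IH) (Lpe (f566534 IH) (Lpr_gf (K55.f707110 IH) (Lpe (K51.f639791 IH) (Lpr_dt (K51.f639801 IH) (Lpr_gf (K55.f714561 IH) (Lpe (K55.f645645 IH) (Lpn (LP (LK LD1_c6 LD2_c3 LD3_c13)))))))))))))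
theorem f902152 : Led Lsl_bf (LP (LK LD1_c11 LD2_c24 LD3_c2)) = (LP (LK LD1_c11 LD2_c15 LD3_c24)) :=
  Lgr Lrot96 (Lpr_et (f902151 IH) (Lpe (f750661 IH) (Lpe (f714567 IH) (Lpn (LP (LK LD1_c11 LD2_c15 LD3_c24))))))
theorem f902153 : Led Lsl_bt (LP (LK LD1_c11 LD2_c15 LD3_c24)) = (LP (LK LD1_c11 LD2_c24 LD3_c2)) :=
  Leop (Lpr_bf (f902152 IH) (Lpn (LP (LK LD1_c11 LD2_c15 LD3_c24))))
theorem seed_2246 : LEOK LG_b (LK LD1_c11 LD2_c15 LD3_c24) :=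
  Leoe_b (LK LD1_c11 LD2_c15 LD3_c24) (f902153 IH)
def v38447 : LQ := Led Lsl_et (LP (LK LD1_c9 LD2_c10 LD3_c45))
theorem f902249 : Led Lsl_et (LP (LK LD1_c9 LD2_c10 LD3_c45)) = v38447 :=
  Lrfl
theorem f538002 : Led Lsl_et (LP (LK LD1_c4 LD2_c37 LD3_c34)) = (LP (LK LD1_c2 LD2_c15 LD3_c61)) :=
  Lre_e IH (LK LD1_c4 LD2_c37 LD3_c34) (LK LD1_c2 LD2_c15 LD3_c61) Lrfl Lrfl
theorem f698511 : Led Lsl_et (LP (LK LD1_c5 LD2_c53 LD3_c19)) = K52.v12840 :=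
  Lgr Lrot87 (Lpr_ef (K52.f698507 IH) (Lpn K52.v12840))
theorem f902254 : Led Lsl_gt K52.v12840 = v38447 :=
  Lgr Lrot131 (Lpe (f698511 IH) (Lpr_dt (K52.f552439 IH) (Lpe (K42.f572577 IH) (Lpe (K42.f175497 IH) (Lpe (K42.f571954 IH) (Lpqs (K35.f537995 IH) (Lpe (f538002 IH) (Lpr_dt (K55.f206827 IH) (Lpe (K46.f100012 IH) (Lpe (K60.f571963 IH) (Lpr_et (f902249 IH) (Lpn v38447))))))))))))
theorem f698508 : Led Lsl_ct (LP (LK LD1_c9 LD2_c3 LD3_c46)) = (LP (LK LD1_c16 LD2_c54 LD3_c61)) :=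
  Lre_c IH (LK LD1_c9 LD2_c3 LD3_c46) (LK LD1_c16 LD2_c54 LD3_c61) Lrfl Lrfl
theorem f642736 : Led Lsl_et (LP (LK LD1_c17 LD2_c6 LD3_c32)) = (LP (LK LD1_c9 LD2_c12 LD3_c21)) :=
  Lre_e IH (LK LD1_c17 LD2_c6 LD3_c32) (LK LD1_c9 LD2_c12 LD3_c21) Lrfl Lrfl
theorem f902252 : Led Lsl_df (LP (LK LD1_c17 LD2_c6 LD3_c32)) = v38447 :=
  Lgr Lrot70 (Lpr_et (f642736 IH) (Lpr_dt (K45.f642593 IH) (Lpr_et (K46.f615051 IH) (Lpr_dt (K60.f642566 IH) (Lpr_et (f902249 IH) (Lpn v38447))))))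
theorem f642742 : Led Lsl_ct (LP (LK LD1_c26 LD2_c59 LD3_c47)) = (LP (LK LD1_c17 LD2_c6 LD3_c32)) :=
  Lre_c IH (LK LD1_c26 LD2_c59 LD3_c47) (LK LD1_c17 LD2_c6 LD3_c32) Lrfl Lrfl
theorem f644456 : Led Lsl_dt (LP (LK LD1_c4 LD2_c33 LD3_c19)) = (LP (LK LD1_c9 LD2_c4 LD3_c8)) :=
  Lre_d IH (LK LD1_c4 LD2_c33 LD3_c19) (LK LD1_c9 LD2_c4 LD3_c8) Lrfl Lrfl
theorem f644457 : Led Lsl_et (LP (LK LD1_c4 LD2_c33 LD3_c19)) = (LP (LK LD1_c2 LD2_c13 LD3_c35)) :=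
  Lre_e IH (LK LD1_c4 LD2_c33 LD3_c19) (LK LD1_c2 LD2_c13 LD3_c35) Lrfl Lrfl
theorem f390714 : Led Lsl_gt (LP (LK LD1_c2 LD2_c13 LD3_c35)) = (LP (LK LD1_c4 LD2_c33 LD3_c15)) :=
  Lre_g IH (LK LD1_c2 LD2_c13 LD3_c35) (LK LD1_c4 LD2_c33 LD3_c15) Lrfl Lrfl
theorem f598837 : Led Lsl_dt (LP (LK LD1_c9 LD2_c3 LD3_c56)) = (LP (LK LD1_c16 LD2_c55 LD3_c11)) :=
  Lre_d IH (LK LD1_c9 LD2_c3 LD3_c56) (LK LD1_c16 LD2_c55 LD3_c11) Lrfl Lrfl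
theorem f644458 : Led Lsl_gt (LP (LK LD1_c16 LD2_c55 LD3_c11)) = (LP (LK LD1_c26 LD2_c51 LD3_c16)) :=
  Lre_g IH (LK LD1_c16 LD2_c55 LD3_c11) (LK LD1_c26 LD2_c51 LD3_c16) Lrfl Lrfl
theorem f642722 : Led Lsl_et (LP (LK LD1_c26 LD2_c59 LD3_c47)) = (LP (LK LD1_c17 LD2_c6 LD3_c31)) :=
  Lre_e IH (LK LD1_c26 LD2_c59 LD3_c47) (LK LD1_c17 LD2_c6 LD3_c31) Lrfl Lrfl
theorem f644459 : Led Lsl_df (LP (LK LD1_c26 LD2_c51 LD3_c16)) = (LP (LK LD1_c26 LD2_c59 LD3_c47)) :=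
  Lgr Lrot168 (Lpe (f644458 IH) (Lpe (f598837 IH) (Lpr_et (K54.f598840 IH) (Lpe (f390714 IH) (Lpe (f644457 IH) (Lpr_dt (f644456 IH) (Lpe (K45.f454884 IH) (Lpe (K45.f644447 IH) (Lpr_gf (K45.f644448 IH) (Lpe (f642722 IH) (Lpn (LP (LK LD1_c26 LD2_c59 LD3_c47)))))))))))))
theorem f644463 : Led Lsl_dt (LP (LK LD1_c26 LD2_c51 LD3_c16)) = (LP (LK LD1_c26 LD2_c59 LD3_c47)) :=
  Lgr Lrot42 (Lpr_df (f644459 IH) (Lpn (LP (LK LD1_c26 LD2_c59 LD3_c47))))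
def v38018 : LQ := Led Lsl_gf (LP (LK LD1_c9 LD2_c3 LD3_c56))
theorem f898672 : Led Lsl_gf (LP (LK LD1_c9 LD2_c3 LD3_c56)) = v38018 :=
  Lrfl
theorem f902257 : (LP (LK LD1_c16 LD2_c54 LD3_c61)) = v38018 :=
  (Llr Lrot8 (Lpe (f698508 IH) (Lpr_gt (K52.f618163 IH) (Lpr_dt (K52.f698504 IH) (Lpr_gt (f902254 IH) (Lpe (f902252 IH) (Lpe (f642742 IH) (Lpe (f644463 IH) (Lpe (f644458 IH) (Lpe (f598837 IH) (Lpr_gf (f898672 IH) (Lpn v38018)))))))))))).symm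
theorem f902258 : Led Lsl_gt (LP (LK LD1_c16 LD2_c54 LD3_c61)) = (LP (LK LD1_c9 LD2_c3 LD3_c56)) :=
  Leop (Lpr_gf (f898672 IH) (Lpq (f902257 IH) (Lpn (LP (LK LD1_c16 LD2_c54 LD3_c61)))))
theorem seed_2247 : LEOK LG_g (LK LD1_c16 LD2_c54 LD3_c61) :=
  Leoe_g (LK LD1_c16 LD2_c54 LD3_c61) (f902258 IH)
def v38454 : LQ := Led Lsl_gf (LP (LK LD1_c9 LD2_c10 LD3_c51))
theorem f902294 : Led Lsl_gf (LP (LK LD1_c9 LD2_c10 LD3_c51)) = v38454 :=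
  Lrfl
theorem f494486 : Led Lsl_et (LP (LK LD1_c2 LD2_c15 LD3_c61)) = (LP (LK LD1_c4 LD2_c37 LD3_c34)) :=
  Lre_e IH (LK LD1_c2 LD2_c15 LD3_c61) (LK LD1_c4 LD2_c37 LD3_c34) Lrfl Lrfl
theorem f653023 : Led Lsl_dt (LP (LK LD1_c9 LD2_c9 LD3_c12)) = K46.v6369 :=
  Lgr Lrot60 (Lpr_ff (f507772 IH) (Lpe (K42.f435454 IH) (Lpr_ff (K50.f653021 IH) (Lpn K46.v6369))))
theorem f902297 : Led Lsl_et (LP (LK LD1_c11 LD2_c39 LD3_c60)) = v38454 :=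
  Lgr Lrot185 (Lpe (K60.f781189 IH) (Lpr_gf (K51.f653025 IH) (Lpe (f653023 IH) (Lpr_gf (K46.f615047 IH) (Lpe (f494486 IH) (Lpr_dt (K44.f494476 IH) (Lpe (K36.f99671 IH) (Lpe (K36.f537983 IH) (Lpr_et (K40.f541495 IH) (Lpr_gf (f902294 IH) (Lpn v38454)))))))))))
theorem f902300 : Led Lsl_ef (LP (LK LD1_c11 LD2_c39 LD3_c60)) = v38454 :=
  Lgr Lrot88 (Lpr_et (f902297 IH) (Lpn v38454))
def v19638 : LQ := Led Lsl_ft (LP (LK LD1_c6 LD2_c45 LD3_c6))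
theorem f781422 : Led Lsl_ft (LP (LK LD1_c6 LD2_c45 LD3_c6)) = v19638 :=
  Lrfl
theorem f781426 : Led Lsl_ff (LP (LK LD1_c6 LD2_c45 LD3_c6)) = v19638 :=
  Lgr Lrot3 (Lpr_ft (f781422 IH) (Lpn v19638))
theorem f781257 : Led Lsl_df (LP (LK LD1_c6 LD2_c44 LD3_c50)) = K60.v19614 :=
  Lgr Lrot38 (Lpr_dt (K60.f781255 IH) (Lpn K60.v19614))
theorem f652921 : Led Lsl_et K51.v2155 = K51.v6346 :=
  Lgr Lrot87 (Lpr_ef (K51.f652920 IH) (Lpn K51.v6346))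
theorem f706617 : K51.v6346 = (LP (LK LD1_c6 LD2_c44 LD3_c50)) :=
  Lefun (Lecon (f652921 IH) (K51.f706596 IH)) (K60.f652707 IH)
theorem f781269 : Led Lsl_at (LP (LK LD1_c6 LD2_c45 LD3_c6)) = K60.v19614 :=
  Lgr Lrot51 (Lpe (K51.f438067 IH) (Lpr_af (K51.f652919 IH) (Lpqs (f706617 IH) (Lpr_df (f781257 IH) (Lpn K60.v19614)))))
theorem f781258 : Led Lsl_ff (LP (LK LD1_c11 LD2_c39 LD3_c60)) = K60.v19614 :=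
  Lgr Lrot19 (Lpe (K60.f781189 IH) (Lpe (K51.f706549 IH) (Lpqs (f706617 IH) (Lpr_dt (K60.f781255 IH) (Lpn K60.v19614)))))
theorem f781427 : Led Lsl_at (LP (LK LD1_c11 LD2_c39 LD3_c60)) = v19638 :=
  Lgr Lrot66 (Lpr_ff (f781258 IH) (Lpe (f781269 IH) (Lpr_ff (f781426 IH) (Lpn v19638))))
theorem f644819 : Led Lsl_dt (LP (LK LD1_c6 LD2_c45 LD3_c6)) = (LP (LK LD1_c3 LD2_c20 LD3_c40)) :=
  Lre_d IH (LK LD1_c6 LD2_c45 LD3_c6) (LK LD1_c3 LD2_c20 LD3_c40) Lrfl Lrfl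
theorem f781429 : Led Lsl_dt (LP (LK LD1_c6 LD2_c45 LD3_c7)) = v19638 :=
  Lgr Lrot60 (Lpe (K50.f509313 IH) (Lpe (f644819 IH) (Lpr_ff (f781426 IH) (Lpn v19638))))
def v19608 : LQ := Led Lsl_gt (LP (LK LD1_c6 LD2_c44 LD3_c41))
theorem f781211 : Led Lsl_gt (LP (LK LD1_c6 LD2_c44 LD3_c41)) = v19608 :=
  Lrfl
theorem f100088 : Led Lsl_gf (LP (LK LD1_c9 LD2_c9 LD3_c60)) = (LP (LK LD1_c4 LD2_c40 LD3_c2)) :=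
  Lgr Lrot47 (Lpr_gt (f100087 IH) (Lpr_af (K6.f100071 IH) (Lpe (K6.f100070 IH) (Lpn (LP (LK LD1_c4 LD2_c40 LD3_c2))))))
theorem f781213 : Led Lsl_df (LP (LK LD1_c11 LD2_c14 LD3_c26)) = v19608 :=
  Lgr Lrot135 (Lpe (K53.f653317 IH) (Lpe (K51.f61452 IH) (Lpr_et (K40.f80019 IH) (Lpe (f100088 IH) (Lpe (f774756 IH) (Lpr_dt (f774750 IH) (Lpe (f700318 IH) (Lpe (K55.f116925 IH) (Lpr_et (K55.f116911 IH) (Lpr_gt (f781211 IH) (Lpn v19608)))))))))))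
theorem f706552 : Led Lsl_ft K51.v6346 = (LP (LK LD1_c12 LD2_c53 LD3_c32)) :=
  Lgr Lrot48 (Lpr_ff (K51.f706549 IH) (Lpn (LP (LK LD1_c12 LD2_c53 LD3_c32))))
theorem f706546 : Led Lsl_af (LP (LK LD1_c6 LD2_c45 LD3_c7)) = (LP (LK LD1_c12 LD2_c53 LD3_c32)) :=
  Lgr Lrot0 (Lpr_at (K51.f706544 IH) (Lpn (LP (LK LD1_c12 LD2_c53 LD3_c32))))
theorem f706664 : Led Lsl_gt (LP (LK LD1_c12 LD2_c53 LD3_c33)) = (LP (LK LD1_c6 LD2_c45 LD3_c7)) :=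
  Lgr Lrot46 (Lpr_gf (K60.f706660 IH) (Lpq (f706617 IH) (Lpr_ft (f706552 IH) (Lpe (f706546 IH) (Lpn (LP (LK LD1_c6 LD2_c45 LD3_c7)))))))
theorem f706666 : Led Lsl_gf (LP (LK LD1_c6 LD2_c32 LD3_c40)) = (LP (LK LD1_c6 LD2_c45 LD3_c7)) :=
  Lgr Lrot76 (Lpr_af (K42.f615009 IH) (Lpe (K42.f206824 IH) (Lpr_gt (f706664 IH) (Lpn (LP (LK LD1_c6 LD2_c45 LD3_c7))))))
theorem f781218 : Led Lsl_ef (LP (LK LD1_c6 LD2_c45 LD3_c7)) = v19608 :=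
  Lgr Lrot114 (Lpe (f706666 IH) (Lpr_ef (K42.f614642 IH) (Lpr_dt (K45.f207334 IH) (Lpr_gt (K51.f207335 IH) (Lpr_df (K51.f700300 IH) (Lpe (K51.f700298 IH) (Lpr_gt (K50.f61456 IH) (Lpe (K55.f561788 IH) (Lpr_gt (f653319 IH) (Lpr_df (f781213 IH) (Lpn v19608)))))))))))
theorem f781215 : Led Lsl_dt (LP (LK LD1_c11 LD2_c14 LD3_c26)) = v19608 :=
  Lgr Lrot42 (Lpr_df (f781213 IH) (Lpn v19608))
theorem f225968 : Led Lsl_bt (LP (LK LD1_c20 LD2_c9 LD3_c28)) = (LP (LK LD1_c11 LD2_c14 LD3_c28)) :=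
  Lre_b IH (LK LD1_c20 LD2_c9 LD3_c28) (LK LD1_c11 LD2_c14 LD3_c28) Lrfl Lrfl
theorem f225969 : Led Lsl_bt (LP (LK LD1_c5 LD2_c46 LD3_c19)) = (LP (LK LD1_c11 LD2_c22 LD3_c53)) :=
  Lre_b IH (LK LD1_c5 LD2_c46 LD3_c19) (LK LD1_c11 LD2_c22 LD3_c53) Lrfl Lrfl
theorem f225970 : Led Lsl_df (LP (LK LD1_c20 LD2_c9 LD3_c28)) = (LP (LK LD1_c11 LD2_c22 LD3_c53)) :=
  Lgr Lrot12 (Lpr_bt (f225968 IH) (Lpr_dt (K17.f225942 IH) (Lpr_bt (f225969 IH) (Lpn (LP (LK LD1_c11 LD2_c22 LD3_c53))))))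
theorem f781432 : Led Lsl_ef (LP (LK LD1_c11 LD2_c22 LD3_c53)) = v19638 :=
  Lgr Lrot73 (Lpe (f225970 IH) (Lpr_et (f225999 IH) (Lpr_dt (f781215 IH) (Lpe (f781218 IH) (Lpr_dt (f781429 IH) (Lpn v19638))))))
theorem f902301 : Led Lsl_at (LP (LK LD1_c11 LD2_c22 LD3_c53)) = v38454 :=
  Lgr Lrot80 (Lpr_ef (f781432 IH) (Lpe (f781427 IH) (Lpr_ef (f902300 IH) (Lpn v38454))))
theorem f899381 : Led Lsl_at (LP (LK LD1_c11 LD2_c32 LD3_c50)) = v38131 :=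
  Lgr Lrot100 (Lpr_af (f899379 IH) (Lpn v38131))
theorem f902302 : Led Lsl_ff (LP (LK LD1_c11 LD2_c32 LD3_c50)) = v38454 :=
  Lgr Lrot30 (Lpr_at (f899381 IH) (Lpe (f899377 IH) (Lpr_at (f902301 IH) (Lpn v38454))))
theorem f500405 : Led Lsl_dt (LP (LK LD1_c11 LD2_c32 LD3_c50)) = (LP (LK LD1_c20 LD2_c29 LD3_c55)) :=
  Lre_d IH (LK LD1_c11 LD2_c32 LD3_c50) (LK LD1_c20 LD2_c29 LD3_c55) Lrfl Lrfl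
theorem f73046 : Led Lsl_et (LP (LK LD1_c12 LD2_c3 LD3_c40)) = (LP (LK LD1_c6 LD2_c11 LD3_c59)) :=
  Lre_e IH (LK LD1_c12 LD2_c3 LD3_c40) (LK LD1_c6 LD2_c11 LD3_c59) Lrfl Lrfl
theorem f902296 : Led Lsl_dt (LP (LK LD1_c12 LD2_c3 LD3_c40)) = v38454 :=
  Lgr Lrot136 (Lpr_et (f73046 IH) (Lpe (K51.f73045 IH) (Lpe (K40.f73018 IH) (Lpr_dt (K40.f73043 IH) (Lpq (K38.f547708 IH) (Lpe (K38.f495223 IH) (Lpr_df (K18.f168221 IH) (Lpe (K36.f423863 IH) (Lpe (K40.f423891 IH) (Lpr_dt (K40.f561178 IH) (Lpr_gf (f902294 IH) (Lpn v38454))))))))))))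
theorem f902304 : Led Lsl_ft (LP (LK LD1_c20 LD2_c29 LD3_c55)) = (LP (LK LD1_c12 LD2_c3 LD3_c40)) :=
  Lgr Lrot54 (Lpe (f500405 IH) (Lpr_ff (f902302 IH) (Lpe (f902296 IH) (Lpn (LP (LK LD1_c12 LD2_c3 LD3_c40))))))
theorem f902305 : Led Lsl_ft (LP (LK LD1_c20 LD2_c29 LD3_c55)) = (LP (LK LD1_c12 LD2_c3 LD3_c40)) :=
  Leop (Lpe (f902304 IH) (Lpn (LP (LK LD1_c20 LD2_c29 LD3_c55))))
theorem seed_2248 : LEOK LG_f (LK LD1_c20 LD2_c29 LD3_c55) :=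
  Leoe_f (LK LD1_c20 LD2_c29 LD3_c55) (f902305 IH)
def v38473 : LQ := Led Lsl_gt (LP (LK LD1_c9 LD2_c11 LD3_c9))
theorem f902438 : Led Lsl_gt (LP (LK LD1_c9 LD2_c11 LD3_c9)) = v38473 :=
  Lrfl
theorem f557930 : Led Lsl_bf (LP (LK LD1_c9 LD2_c11 LD3_c9)) = (LP (LK LD1_c4 LD2_c42 LD3_c61)) :=
  Lgr Lrot24 (Lpr_bt (K40.f557928 IH) (Lpn (LP (LK LD1_c4 LD2_c42 LD3_c61))))
theorem f204356 : Led Lsl_cf (LP (LK LD1_c9 LD2_c18 LD3_c3)) = (LP (LK LD1_c4 LD2_c42 LD3_c61)) :=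
  Lgr Lrot39 (Lpr_et (K11.f204355 IH) (Lpr_ct (K11.f204349 IH) (Lpr_et (K11.f104852 IH) (Lpn (LP (LK LD1_c4 LD2_c42 LD3_c61))))))
theorem f749993 : Led Lsl_gf K56.v16432 = (LP (LK LD1_c12 LD2_c25 LD3_c0)) :=
  Lgr Lrot47 (Lpe (K56.f749320 IH) (Lpe (K52.f498360 IH) (Lpr_ff (K56.f749985 IH) (Lpn (LP (LK LD1_c12 LD2_c25 LD3_c0))))))
theorem f425755 : Led Lsl_ct (LP (LK LD1_c6 LD2_c51 LD3_c3)) = (LP (LK LD1_c3 LD2_c24 LD3_c2)) :=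
  Lre_c IH (LK LD1_c6 LD2_c51 LD3_c3) (LK LD1_c3 LD2_c24 LD3_c2) Lrfl Lrfl
theorem f711306 : Led Lsl_ff (LP (LK LD1_c6 LD2_c51 LD3_c3)) = (LP (LK LD1_c11 LD2_c27 LD3_c8)) :=
  Lgr Lrot23 (Lpr_ct (f425755 IH) (Lpr_ft (K57.f654350 IH) (Lpqs (K65.f711301 IH) (Lpr_ct (K67.f623375 IH) (Lpn (LP (LK LD1_c11 LD2_c27 LD3_c8)))))))
theorem f711310 : Led Lsl_ft (LP (LK LD1_c6 LD2_c51 LD3_c3)) = (LP (LK LD1_c11 LD2_c27 LD3_c8)) :=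
  Lgr Lrot48 (Lpr_ff (f711306 IH) (Lpn (LP (LK LD1_c11 LD2_c27 LD3_c8))))
theorem f749901 : Led Lsl_at (LP (LK LD1_c11 LD2_c27 LD3_c8)) = (LP (LK LD1_c12 LD2_c25 LD3_c1)) :=
  Lgr Lrot66 (Lpe (f711310 IH) (Lpr_af (K56.f497278 IH) (Lpr_ff (K56.f749895 IH) (Lpn (LP (LK LD1_c12 LD2_c25 LD3_c1))))))
theorem f209193 : Led Lsl_gt (LP (LK LD1_c6 LD2_c51 LD3_c3)) = (LP (LK LD1_c13 LD2_c2 LD3_c11)) :=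
  Lre_g IH (LK LD1_c6 LD2_c51 LD3_c3) (LK LD1_c13 LD2_c2 LD3_c11) Lrfl Lrfl
theorem f750101 : Led Lsl_gt (LP (LK LD1_c13 LD2_c2 LD3_c11)) = (LP (LK LD1_c12 LD2_c25 LD3_c1)) :=
  Lgr Lrot46 (Lpe (f209193 IH) (Lpr_ft (f711310 IH) (Lpr_at (f749901 IH) (Lpn (LP (LK LD1_c12 LD2_c25 LD3_c1))))))
theorem f902441 : Led Lsl_cf (LP (LK LD1_c13 LD2_c2 LD3_c11)) = v38473 :=
  Lgr Lrot125 (Lpr_gt (f750101 IH) (Lpe (K56.f69124 IH) (Lpr_bt (K56.f749239 IH) (Lpe (f749993 IH) (Lpqs (K56.f750018 IH) (Lpe (K56.f698851 IH) (Lpr_ct (K56.f437266 IH) (Lpr_gt (K56.f737638 IH) (Lpr_cf (f204356 IH) (Lpe (f557930 IH) (Lpr_gt (f902438 IH) (Lpn v38473))))))))))))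
theorem f623310 : Led Lsl_ct (LP (LK LD1_c12 LD2_c25 LD3_c1)) = (LP (LK LD1_c6 LD2_c26 LD3_c33)) :=
  Lre_c IH (LK LD1_c12 LD2_c25 LD3_c1) (LK LD1_c6 LD2_c26 LD3_c33) Lrfl Lrfl
theorem f749930 : Led Lsl_ct (LP (LK LD1_c21 LD2_c31 LD3_c57)) = (LP (LK LD1_c12 LD2_c25 LD3_c2)) :=
  Lre_c IH (LK LD1_c21 LD2_c31 LD3_c57) (LK LD1_c12 LD2_c25 LD3_c2) Lrfl Lrfl
theorem f40672 : Led Lsl_et (LP (LK LD1_c3 LD2_c24 LD3_c2)) = (LP (LK LD1_c1 LD2_c38 LD3_c18)) :=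
  Lre_e IH (LK LD1_c3 LD2_c24 LD3_c2) (LK LD1_c1 LD2_c38 LD3_c18) Lrfl Lrfl
theorem f641803 : Led Lsl_gf (LP (LK LD1_c6 LD2_c51 LD3_c4)) = (LP (LK LD1_c11 LD2_c27 LD3_c23)) :=
  Lgr Lrot145 (Lpe (K8.f40673 IH) (Lpr_et (f40672 IH) (Lpr_gt (K8.f40334 IH) (Lpr_dt (K8.f99538 IH) (Lpr_gt (K4.f36621 IH) (Lpe (K4.f99504 IH) (Lpr_et (K4.f74969 IH) (Lpr_gt (K42.f641799 IH) (Lpe (K57.f56730 IH) (Lpr_dt (K57.f56728 IH) (Lpn (LP (LK LD1_c11 LD2_c27 LD3_c23)))))))))))))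
theorem f749928 : Led Lsl_ff (LP (LK LD1_c8 LD2_c0 LD3_c29)) = (LP (LK LD1_c12 LD2_c25 LD3_c2)) :=
  Lgr Lrot52 (Lpe (K65.f497284 IH) (Lpr_gf (f641803 IH) (Lpr_gf (K57.f749924 IH) (Lpn (LP (LK LD1_c12 LD2_c25 LD3_c2))))))
theorem f749964 : Led Lsl_ft (LP (LK LD1_c8 LD2_c0 LD3_c29)) = (LP (LK LD1_c12 LD2_c25 LD3_c2)) :=
  Lgr Lrot48 (Lpr_ff (f749928 IH) (Lpn (LP (LK LD1_c12 LD2_c25 LD3_c2))))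
theorem f623781 : Led Lsl_ct (LP (LK LD1_c12 LD2_c25 LD3_c2)) = (LP (LK LD1_c21 LD2_c31 LD3_c57)) :=
  Lre_c IH (LK LD1_c12 LD2_c25 LD3_c2) (LK LD1_c21 LD2_c31 LD3_c57) Lrfl Lrfl
theorem f749968 : Led Lsl_ff (LP (LK LD1_c15 LD2_c5 LD3_c10)) = (LP (LK LD1_c21 LD2_c31 LD3_c57)) :=
  Lgr Lrot23 (Lpr_ct (K52.f149996 IH) (Lpr_ft (f749964 IH) (Lpr_ct (f623781 IH) (Lpn (LP (LK LD1_c21 LD2_c31 LD3_c57))))))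
theorem f426348 : Led Lsl_et (LP (LK LD1_c16 LD2_c28 LD3_c8)) = (LP (LK LD1_c8 LD2_c48 LD3_c0)) :=
  Lre_e IH (LK LD1_c16 LD2_c28 LD3_c8) (LK LD1_c8 LD2_c48 LD3_c0) Lrfl Lrfl
theorem f426335 : Led Lsl_et (LP (LK LD1_c11 LD2_c41 LD3_c19)) = (LP (LK LD1_c20 LD2_c41 LD3_c9)) :=
  Lre_e IH (LK LD1_c11 LD2_c41 LD3_c19) (LK LD1_c20 LD2_c41 LD3_c9) Lrfl Lrfl
theorem f426349 : Led Lsl_cf (LP (LK LD1_c16 LD2_c28 LD3_c8)) = (LP (LK LD1_c20 LD2_c41 LD3_c9)) :=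
  Lgr Lrot39 (Lpr_et (f426348 IH) (Lpr_ct (K28.f426342 IH) (Lpr_et (f426335 IH) (Lpn (LP (LK LD1_c20 LD2_c41 LD3_c9))))))
theorem f427432 : Led Lsl_ct (LP (LK LD1_c16 LD2_c28 LD3_c8)) = (LP (LK LD1_c20 LD2_c41 LD3_c9)) :=
  Lgr Lrot59 (Lpr_cf (f426349 IH) (Lpn (LP (LK LD1_c20 LD2_c41 LD3_c9))))
theorem f427406 : Led Lsl_af (LP (LK LD1_c16 LD2_c28 LD3_c8)) = (LP (LK LD1_c16 LD2_c28 LD3_c9)) :=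
  Lgr Lrot50 (Lpr_et (f426348 IH) (Lpr_at (K40.f427404 IH) (Lpr_et (K52.f38552 IH) (Lpn (LP (LK LD1_c16 LD2_c28 LD3_c9))))))
theorem f427434 : Led Lsl_af (LP (LK LD1_c16 LD2_c24 LD3_c40)) = (LP (LK LD1_c20 LD2_c41 LD3_c9)) :=
  Lgr Lrot68 (Lpe (K52.f70508 IH) (Lpe (f427406 IH) (Lpr_ct (f427432 IH) (Lpn (LP (LK LD1_c20 LD2_c41 LD3_c9))))))
theorem f426996 : Led Lsl_bt (LP (LK LD1_c11 LD2_c41 LD3_c25)) = (LP (LK LD1_c20 LD2_c41 LD3_c9)) :=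
  Lre_b IH (LK LD1_c11 LD2_c41 LD3_c25) (LK LD1_c20 LD2_c41 LD3_c9) Lrfl Lrfl
theorem f72752 : Led Lsl_at (LP (LK LD1_c5 LD2_c59 LD3_c0)) = (LP (LK LD1_c11 LD2_c41 LD3_c25)) :=
  Lre_a IH (LK LD1_c5 LD2_c59 LD3_c0) (LK LD1_c11 LD2_c41 LD3_c25) Lrfl Lrfl
theorem f72800 : Led Lsl_bt (LP (LK LD1_c11 LD2_c42 LD3_c24)) = (LP (LK LD1_c5 LD2_c59 LD3_c0)) :=
  Lre_b IH (LK LD1_c11 LD2_c42 LD3_c24) (LK LD1_c5 LD2_c59 LD3_c0) Lrfl Lrfl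
theorem f568369 : Led Lsl_af (LP (LK LD1_c11 LD2_c42 LD3_c24)) = (LP (LK LD1_c15 LD2_c5 LD3_c10)) :=
  Lgr Lrot36 (Lpr_bt (f72800 IH) (Lpr_at (f72752 IH) (Lpr_bt (f426996 IH) (Lpe (f427434 IH) (Lpr_bt (K52.f568367 IH) (Lpn (LP (LK LD1_c15 LD2_c5 LD3_c10))))))))
theorem f711337 : Led Lsl_ft (LP (LK LD1_c11 LD2_c42 LD3_c24)) = (LP (LK LD1_c20 LD2_c25 LD3_c6)) :=
  Lgr Lrot48 (Lpr_ff (K65.f711317 IH) (Lpn (LP (LK LD1_c20 LD2_c25 LD3_c6))))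
theorem f749970 : Led Lsl_at (LP (LK LD1_c20 LD2_c25 LD3_c6)) = (LP (LK LD1_c21 LD2_c31 LD3_c57)) :=
  Lgr Lrot66 (Lpe (f711337 IH) (Lpr_af (f568369 IH) (Lpr_ff (f749968 IH) (Lpn (LP (LK LD1_c21 LD2_c31 LD3_c57))))))
theorem f72775 : Led Lsl_gt (LP (LK LD1_c11 LD2_c42 LD3_c24)) = (LP (LK LD1_c20 LD2_c42 LD3_c40)) :=
  Lre_g IH (LK LD1_c11 LD2_c42 LD3_c24) (LK LD1_c20 LD2_c42 LD3_c40) Lrfl Lrfl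
theorem f749974 : Led Lsl_gt (LP (LK LD1_c20 LD2_c42 LD3_c40)) = (LP (LK LD1_c21 LD2_c31 LD3_c57)) :=
  Lgr Lrot46 (Lpe (f72775 IH) (Lpr_ft (f711337 IH) (Lpr_at (f749970 IH) (Lpn (LP (LK LD1_c21 LD2_c31 LD3_c57))))))
theorem f557934 : Led Lsl_df (LP (LK LD1_c9 LD2_c11 LD3_c9)) = (LP (LK LD1_c6 LD2_c16 LD3_c43)) :=
  Lgr Lrot12 (Lpr_bt (K40.f557928 IH) (Lpe (K11.f204459 IH) (Lpr_bt (K56.f204462 IH) (Lpn (LP (LK LD1_c6 LD2_c16 LD3_c43))))))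
theorem f204686 : Led Lsl_gt (LP (LK LD1_c6 LD2_c16 LD3_c43)) = (LP (LK LD1_c12 LD2_c10 LD3_c30)) :=
  Lre_g IH (LK LD1_c6 LD2_c16 LD3_c43) (LK LD1_c12 LD2_c10 LD3_c30) Lrfl Lrfl
theorem f902448 : Led Lsl_cf (LP (LK LD1_c20 LD2_c42 LD3_c40)) = (LP (LK LD1_c12 LD2_c10 LD3_c30)) :=
  Lgr Lrot169 (Lpr_gt (f749974 IH) (Lpr_ct (f749930 IH) (Lpe (K57.f623311 IH) (Lpe (f623310 IH) (Lpe (f750101 IH) (Lpr_cf (f902441 IH) (Lpe (f902438 IH) (Lpr_df (f557934 IH) (Lpr_gt (f204686 IH) (Lpn (LP (LK LD1_c12 LD2_c10 LD3_c30))))))))))))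
theorem f902449 : Led Lsl_ct (LP (LK LD1_c12 LD2_c10 LD3_c30)) = (LP (LK LD1_c20 LD2_c42 LD3_c40)) :=
  Leop (Lpr_cf (f902448 IH) (Lpn (LP (LK LD1_c12 LD2_c10 LD3_c30))))
theorem seed_2249 : LEOK LG_c (LK LD1_c12 LD2_c10 LD3_c30) :=
  Leoe_c (LK LD1_c12 LD2_c10 LD3_c30) (f902449 IH)
def v38478 : LQ := Led Lsl_et (LP (LK LD1_c9 LD2_c11 LD3_c18))
theorem f902479 : Led Lsl_et (LP (LK LD1_c9 LD2_c11 LD3_c18)) = v38478 :=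
  Lrfl
theorem f75501 : Led Lsl_et (LP (LK LD1_c17 LD2_c59 LD3_c29)) = (LP (LK LD1_c9 LD2_c49 LD3_c4)) :=
  Lre_e IH (LK LD1_c17 LD2_c59 LD3_c29) (LK LD1_c9 LD2_c49 LD3_c4) Lrfl Lrfl
theorem f902482 : Led Lsl_cf (LP (LK LD1_c17 LD2_c59 LD3_c29)) = v38478 :=
  Lgr Lrot39 (Lpr_et (f75501 IH) (Lpq (K67.f743653 IH) (Lpr_ct (K67.f743608 IH) (Lpr_et (f902479 IH) (Lpn v38478)))))
theorem f652696 : Led Lsl_cf (LP (LK LD1_c3 LD2_c20 LD3_c27)) = K55.v6317 :=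
  Lgr Lrot11 (Lpr_ct (K55.f652695 IH) (Lpn K55.v6317))
theorem f699098 : Led Lsl_cf (LP (LK LD1_c12 LD2_c43 LD3_c47)) = (LP (LK LD1_c6 LD2_c44 LD3_c41)) :=
  Lgr Lrot39 (Lpr_et (K60.f116876 IH) (Lpq (K55.f699094 IH) (Lpe (f652696 IH) (Lpr_et (K55.f116911 IH) (Lpn (LP (LK LD1_c6 LD2_c44 LD3_c41)))))))
theorem f698999 : Led Lsl_bf (LP (LK LD1_c9 LD2_c30 LD3_c22)) = (LP (LK LD1_c6 LD2_c44 LD3_c41)) :=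
  Lgr Lrot96 (Lpr_et (K56.f452963 IH) (Lpq (K52.f698977 IH) (Lpqs (K55.f698940 IH) (Lpe (K55.f652694 IH) (Lpr_et (K55.f116911 IH) (Lpn (LP (LK LD1_c6 LD2_c44 LD3_c41))))))))
theorem f742122 : Led Lsl_bt (LP (LK LD1_c6 LD2_c47 LD3_c33)) = (LP (LK LD1_c12 LD2_c58 LD3_c3)) :=
  Lre_b IH (LK LD1_c6 LD2_c47 LD3_c33) (LK LD1_c12 LD2_c58 LD3_c3) Lrfl Lrfl
theorem f740472 : Led Lsl_ct (LP (LK LD1_c12 LD2_c44 LD3_c30)) = (LP (LK LD1_c6 LD2_c39 LD3_c25)) :=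
  Lre_c IH (LK LD1_c12 LD2_c44 LD3_c30) (LK LD1_c6 LD2_c39 LD3_c25) Lrfl Lrfl
theorem f778334 : Led Lsl_gt (LP (LK LD1_c12 LD2_c58 LD3_c3)) = (LP (LK LD1_c12 LD2_c44 LD3_c30)) :=
  Lgr Lrot82 (Lpe (f742122 IH) (Lpr_ct (K55.f454535 IH) (Lpe (K57.f743535 IH) (Lpr_cf (K55.f414541 IH) (Lpr_bt (K55.f414540 IH) (Lpr_gf (K56.f740501 IH) (Lpr_bf (f698999 IH) (Lpe (f699098 IH) (Lpqs (K60.f778332 IH) (Lpe (K60.f778315 IH) (Lpe (f740472 IH) (Lpn (LP (LK LD1_c12 LD2_c44 LD3_c30))))))))))))))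
theorem f741971 : Led Lsl_bt (LP (LK LD1_c11 LD2_c26 LD3_c30)) = (LP (LK LD1_c5 LD2_c48 LD3_c33)) :=
  Lre_b IH (LK LD1_c11 LD2_c26 LD3_c30) (LK LD1_c5 LD2_c48 LD3_c33) Lrfl Lrfl
theorem f742135 : Led Lsl_ff (LP (LK LD1_c11 LD2_c26 LD3_c30)) = (LP (LK LD1_c12 LD2_c58 LD3_c3)) :=
  Lgr Lrot25 (Lpr_bt (f741971 IH) (Lpr_ft (K55.f742133 IH) (Lpr_bt (f742122 IH) (Lpn (LP (LK LD1_c12 LD2_c58 LD3_c3))))))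
theorem f699175 : Led Lsl_et (LP (LK LD1_c5 LD2_c48 LD3_c30)) = (LP (LK LD1_c11 LD2_c26 LD3_c30)) :=
  Lre_e IH (LK LD1_c5 LD2_c48 LD3_c30) (LK LD1_c11 LD2_c26 LD3_c30) Lrfl Lrfl
theorem f743720 : Led Lsl_af (LP (LK LD1_c17 LD2_c59 LD3_c29)) = (LP (LK LD1_c11 LD2_c26 LD3_c30)) :=
  Lgr Lrot50 (Lpr_et (f75501 IH) (Lpq (K67.f743653 IH) (Lpe (K55.f742005 IH) (Lpr_et (f699175 IH) (Lpn (LP (LK LD1_c11 LD2_c26 LD3_c30)))))))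
theorem f778336 : Led Lsl_gf (LP (LK LD1_c17 LD2_c59 LD3_c29)) = (LP (LK LD1_c12 LD2_c44 LD3_c30)) :=
  Lgr Lrot76 (Lpr_af (f743720 IH) (Lpr_ff (f742135 IH) (Lpr_gt (f778334 IH) (Lpn (LP (LK LD1_c12 LD2_c44 LD3_c30))))))
theorem f740468 : Led Lsl_ct (LP (LK LD1_c6 LD2_c39 LD3_c25)) = (LP (LK LD1_c12 LD2_c44 LD3_c30)) :=
  Lre_c IH (LK LD1_c6 LD2_c39 LD3_c25) (LK LD1_c12 LD2_c44 LD3_c30) Lrfl Lrfl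
theorem f672062 : Led Lsl_bf K32.v2163 = K55.v8711 :=
  Lgr Lrot24 (Lpr_bt (K55.f672061 IH) (Lpn K55.v8711))
theorem f509412 : Led Lsl_cf (LP (LK LD1_c1 LD2_c37 LD3_c3)) = K32.v2163 :=
  Lgr Lrot166 (Lpr_gt (K32.f23185 IH) (Lpe (K0.f23181 IH) (Lpr_gt (K0.f22865 IH) (Lpr_dt (K17.f20091 IH) (Lpr_ct (K17.f22866 IH) (Lpe (K17.f22859 IH) (Lpr_gf (K0.f22850 IH) (Lpe (K0.f22849 IH) (Lpr_gf (K32.f509408 IH) (Lpn K32.v2163))))))))))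
theorem f778328 : Led Lsl_bt K59.v8746 = K60.v19180 :=
  Lgr Lrot128 (Lpe (K59.f672178 IH) (Lpe (K58.f509526 IH) (Lpr_cf (f509412 IH) (Lpr_bf (f672062 IH) (Lpq (K55.f747241 IH) (Lpr_cf (K60.f778326 IH) (Lpn K60.v19180)))))))
def v8744 : LQ := Led Lsl_gf K58.v2188
theorem f672168 : Led Lsl_gf K58.v2188 = v8744 :=
  Lrfl
theorem f768868 : K32.v2105 = v8744 :=
  Lefun (Lecon (Lfl_gt (K46.f624547 IH)) (K58.f768818 IH)) (f672168 IH)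
theorem f702456 : Led Lsl_cf K58.v4317 = K59.v13348 :=
  Lgr Lrot108 (Lpe (K58.f632618 IH) (Lpr_ct (K59.f632573 IH) (Lpr_ft (K59.f702454 IH) (Lpn K59.v13348))))
theorem f650795 : Led Lsl_bt (LP (LK LD1_c6 LD2_c37 LD3_c29)) = (LP (LK LD1_c3 LD2_c17 LD3_c4)) :=
  Lre_b IH (LK LD1_c6 LD2_c37 LD3_c29) (LK LD1_c3 LD2_c17 LD3_c4) Lrfl Lrfl
theorem f650798 : Led Lsl_ct (LP (LK LD1_c6 LD2_c37 LD3_c29)) = (LP (LK LD1_c3 LD2_c17 LD3_c12)) :=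
  Lre_c IH (LK LD1_c6 LD2_c37 LD3_c29) (LK LD1_c3 LD2_c17 LD3_c12) Lrfl Lrfl
theorem f117088 : Led Lsl_gt (LP (LK LD1_c6 LD2_c37 LD3_c44)) = (LP (LK LD1_c3 LD2_c17 LD3_c12)) :=
  Lre_g IH (LK LD1_c6 LD2_c37 LD3_c44) (LK LD1_c3 LD2_c17 LD3_c12) Lrfl Lrfl
theorem f650799 : Led Lsl_ct (LP (LK LD1_c12 LD2_c41 LD3_c9)) = (LP (LK LD1_c6 LD2_c37 LD3_c44)) :=
  Lre_c IH (LK LD1_c12 LD2_c41 LD3_c9) (LK LD1_c6 LD2_c37 LD3_c44) Lrfl Lrfl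
theorem f771338 : Led Lsl_bf (LP (LK LD1_c17 LD2_c7 LD3_c17)) = (LP (LK LD1_c12 LD2_c41 LD3_c9)) :=
  Lgr Lrot34 (Lpe (K67.f150523 IH) (Lpr_bf (K59.f150484 IH) (Lpr_ct (K11.f150488 IH) (Lpe (K59.f632567 IH) (Lpqs (K59.f771125 IH) (Lpr_cf (f702456 IH) (Lpqs (K59.f771337 IH) (Lpe (K59.f650794 IH) (Lpe (f650795 IH) (Lpr_ct (f650798 IH) (Lpe (f117088 IH) (Lpe (f650799 IH) (Lpn (LP (LK LD1_c12 LD2_c41 LD3_c9)))))))))))))))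
theorem f742030 : Led Lsl_bt (LP (LK LD1_c9 LD2_c12 LD3_c58)) = (LP (LK LD1_c17 LD2_c7 LD3_c24)) :=
  Lre_b IH (LK LD1_c9 LD2_c12 LD3_c58) (LK LD1_c17 LD2_c7 LD3_c24) Lrfl Lrfl
theorem f771344 : Led Lsl_ft (LP (LK LD1_c17 LD2_c7 LD3_c24)) = (LP (LK LD1_c12 LD2_c41 LD3_c9)) :=
  Lgr Lrot75 (Lpe (f742030 IH) (Lpr_ff (K67.f743688 IH) (Lpr_bf (f771338 IH) (Lpn (LP (LK LD1_c12 LD2_c41 LD3_c9))))))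
theorem f771349 : Led Lsl_ff (LP (LK LD1_c17 LD2_c7 LD3_c24)) = (LP (LK LD1_c12 LD2_c41 LD3_c9)) :=
  Lgr Lrot3 (Lpr_ft (f771344 IH) (Lpn (LP (LK LD1_c12 LD2_c41 LD3_c9))))
theorem f678636 : Led Lsl_bt (LP (LK LD1_c12 LD2_c40 LD3_c48)) = (LP (LK LD1_c6 LD2_c37 LD3_c33)) :=
  Lre_b IH (LK LD1_c12 LD2_c40 LD3_c48) (LK LD1_c6 LD2_c37 LD3_c33) Lrfl Lrfl
theorem f118636 : Led Lsl_ct (LP (LK LD1_c12 LD2_c40 LD3_c48)) = (LP (LK LD1_c6 LD2_c37 LD3_c46)) :=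
  Lre_c IH (LK LD1_c12 LD2_c40 LD3_c48) (LK LD1_c6 LD2_c37 LD3_c46) Lrfl Lrfl
theorem f118865 : Led Lsl_gt (LP (LK LD1_c12 LD2_c40 LD3_c59)) = (LP (LK LD1_c6 LD2_c37 LD3_c46)) :=
  Lre_g IH (LK LD1_c12 LD2_c40 LD3_c59) (LK LD1_c6 LD2_c37 LD3_c46) Lrfl Lrfl
theorem f150478 : Led Lsl_ct (LP (LK LD1_c2 LD2_c19 LD3_c19)) = (LP (LK LD1_c1 LD2_c6 LD3_c47)) :=
  Lre_c IH (LK LD1_c2 LD2_c19 LD3_c19) (LK LD1_c1 LD2_c6 LD3_c47) Lrfl Lrfl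
theorem f150481 : Led Lsl_bt (LP (LK LD1_c17 LD2_c7 LD3_c24)) = (LP (LK LD1_c9 LD2_c12 LD3_c58)) :=
  Lre_b IH (LK LD1_c17 LD2_c7 LD3_c24) (LK LD1_c9 LD2_c12 LD3_c58) Lrfl Lrfl
theorem f771105 : Led Lsl_cf (LP (LK LD1_c12 LD2_c40 LD3_c59)) = (LP (LK LD1_c17 LD2_c7 LD3_c24)) :=
  Lgr Lrot160 (Lpr_gt (f118865 IH) (Lpe (f118636 IH) (Lpr_bt (f678636 IH) (Lpq (K65.f771093 IH) (Lpe (K65.f702440 IH) (Lpr_ct (K59.f150480 IH) (Lpr_gt (K51.f150479 IH) (Lpe (f150478 IH) (Lpe (K11.f150457 IH) (Lpr_gt (K55.f150475 IH) (Lpe (f150481 IH) (Lpn (LP (LK LD1_c17 LD2_c7 LD3_c24))))))))))))))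
theorem f117935 : Led Lsl_ct (LP (LK LD1_c6 LD2_c37 LD3_c44)) = (LP (LK LD1_c12 LD2_c41 LD3_c9)) :=
  Lre_c IH (LK LD1_c6 LD2_c37 LD3_c44) (LK LD1_c12 LD2_c41 LD3_c9) Lrfl Lrfl
theorem f771351 : Led Lsl_ft (LP (LK LD1_c12 LD2_c40 LD3_c59)) = (LP (LK LD1_c6 LD2_c37 LD3_c44)) :=
  Lgr Lrot4 (Lpr_cf (f771105 IH) (Lpr_ff (f771349 IH) (Lpe (f117935 IH) (Lpn (LP (LK LD1_c6 LD2_c37 LD3_c44))))))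
theorem f771109 : Led Lsl_ct (LP (LK LD1_c12 LD2_c40 LD3_c59)) = (LP (LK LD1_c17 LD2_c7 LD3_c24)) :=
  Lgr Lrot59 (Lpr_cf (f771105 IH) (Lpn (LP (LK LD1_c17 LD2_c7 LD3_c24))))
theorem f771113 : Led Lsl_bf (LP (LK LD1_c12 LD2_c40 LD3_c59)) = (LP (LK LD1_c6 LD2_c44 LD3_c36)) :=
  Lgr Lrot90 (Lpr_ct (f771109 IH) (Lpr_bt (f150481 IH) (Lpe (K55.f742031 IH) (Lpr_bt (K55.f742016 IH) (Lpr_ct (K55.f207218 IH) (Lpn (LP (LK LD1_c6 LD2_c44 LD3_c36))))))))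
theorem f771353 : Led Lsl_bf (LP (LK LD1_c9 LD2_c11 LD3_c18)) = (LP (LK LD1_c6 LD2_c37 LD3_c44)) :=
  Lgr Lrot61 (Lpe (f743615 IH) (Lpe (f771113 IH) (Lpr_ft (f771351 IH) (Lpn (LP (LK LD1_c6 LD2_c37 LD3_c44))))))
theorem f117089 : Led Lsl_et (LP (LK LD1_c12 LD2_c41 LD3_c11)) = (LP (LK LD1_c6 LD2_c37 LD3_c44)) :=
  Lre_e IH (LK LD1_c12 LD2_c41 LD3_c11) (LK LD1_c6 LD2_c37 LD3_c44) Lrfl Lrfl
theorem f902481 : Led Lsl_bf (LP (LK LD1_c12 LD2_c41 LD3_c11)) = v38478 :=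
  Lgr Lrot96 (Lpr_et (f117089 IH) (Lpe (f771353 IH) (Lpr_et (f902479 IH) (Lpn v38478))))
theorem f902488 : Led Lsl_gf (LP (LK LD1_c12 LD2_c38 LD3_c31)) = (LP (LK LD1_c12 LD2_c41 LD3_c11)) :=
  Lgr Lrot124 (Lpe (K52.f624169 IH) (Lpr_ct (K46.f62165 IH) (Lpq (K46.f624152 IH) (Lpqs (f768868 IH) (Lpe (f672168 IH) (Lpq (K58.f768818 IH) (Lpr_cf (K60.f651363 IH) (Lpqs (K59.f768870 IH) (Lpr_bt (f778328 IH) (Lpe (K60.f778316 IH) (Lpr_ct (f740468 IH) (Lpe (f778336 IH) (Lpr_cf (f902482 IH) (Lpe (f902481 IH) (Lpn (LP (LK LD1_c12 LD2_c41 LD3_c11)))))))))))))))))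
theorem f902489 : Led Lsl_gt (LP (LK LD1_c12 LD2_c41 LD3_c11)) = (LP (LK LD1_c12 LD2_c38 LD3_c31)) :=
  Leop (Lpr_gf (f902488 IH) (Lpn (LP (LK LD1_c12 LD2_c41 LD3_c11))))
theorem seed_2250 : LEOK LG_g (LK LD1_c12 LD2_c41 LD3_c11) :=
  Leoe_g (LK LD1_c12 LD2_c41 LD3_c11) (f902489 IH)
def v38482 : LQ := Led Lsl_gt (LP (LK LD1_c9 LD2_c11 LD3_c22))
theorem f902514 : Led Lsl_gt (LP (LK LD1_c9 LD2_c11 LD3_c22)) = v38482 :=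
  Lrfl
theorem f40626 : Led Lsl_dt (LP (LK LD1_c4 LD2_c37 LD3_c51)) = (LP (LK LD1_c9 LD2_c11 LD3_c22)) :=
  Lre_d IH (LK LD1_c4 LD2_c37 LD3_c51) (LK LD1_c9 LD2_c11 LD3_c22) Lrfl Lrfl
theorem f902517 : Led Lsl_dt (LP (LK LD1_c9 LD2_c15 LD3_c36)) = v38482 :=
  Lgr Lrot56 (Lpr_et (f79979 IH) (Lpr_gt (K56.f79978 IH) (Lpe (K11.f79977 IH) (Lpr_dt (K8.f59362 IH) (Lpr_gt (K4.f22447 IH) (Lpr_df (K4.f79947 IH) (Lpr_et (K50.f79976 IH) (Lpr_gt (K50.f40625 IH) (Lpr_dt (f40626 IH) (Lpr_gt (f902514 IH) (Lpn v38482)))))))))))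
theorem f642432 : Led Lsl_cf (LP (LK LD1_c21 LD2_c50 LD3_c57)) = (LP (LK LD1_c12 LD2_c53 LD3_c52)) :=
  Lgr Lrot39 (Lpr_et (K45.f642428 IH) (Lpr_ct (K45.f507612 IH) (Lpe (K46.f642399 IH) (Lpn (LP (LK LD1_c12 LD2_c53 LD3_c52))))))
theorem f700464 : Led Lsl_ft (LP (LK LD1_c9 LD2_c11 LD3_c22)) = (LP (LK LD1_c6 LD2_c44 LD3_c40)) :=
  Lgr Lrot48 (Lpr_ff (f700456 IH) (Lpn (LP (LK LD1_c6 LD2_c44 LD3_c40))))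
theorem f902515 : Led Lsl_gf (LP (LK LD1_c9 LD2_c11 LD3_c24)) = v38482 :=
  Lgr Lrot76 (Lpr_af (K55.f700320 IH) (Lpe (f700464 IH) (Lpr_gt (f902514 IH) (Lpn v38482))))
theorem f631999 : Led Lsl_bf (LP (LK LD1_c2 LD2_c16 LD3_c21)) = K51.v4217 :=
  Lgr Lrot24 (Lpr_bt (K51.f631998 IH) (Lpn K51.v4217))
theorem f700425 : Led Lsl_gf (LP (LK LD1_c9 LD2_c11 LD3_c23)) = (LP (LK LD1_c6 LD2_c39 LD3_c5)) :=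
  Lgr Lrot126 (Lpe (K58.f209308 IH) (Lpqs (K51.f700271 IH) (Lpe (f631999 IH) (Lpr_gt (K24.f26768 IH) (Lpr_ct (K11.f150466 IH) (Lpr_gt (K11.f26310 IH) (Lpr_cf (K32.f438432 IH) (Lpr_bt (K55.f438431 IH) (Lpr_gt (K51.f640529 IH) (Lpq (K51.f669416 IH) (Lpe (K4.f57038 IH) (Lpe (K4.f57002 IH) (Lpn (LP (LK LD1_c6 LD2_c39 LD3_c5)))))))))))))))
theorem f498193 : Led Lsl_af (LP (LK LD1_c4 LD2_c38 LD3_c2)) = (LP (LK LD1_c3 LD2_c17 LD3_c47)) :=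
  Lgr Lrot117 (Lpr_dt (K50.f100005 IH) (Lpr_at (K32.f498184 IH) (Lpr_dt (f56995 IH) (Lpn (LP (LK LD1_c3 LD2_c17 LD3_c47))))))
theorem f700429 : Led Lsl_gt (LP (LK LD1_c9 LD2_c11 LD3_c23)) = (LP (LK LD1_c4 LD2_c38 LD3_c2)) :=
  Lgr Lrot46 (Lpr_gf (f700425 IH) (Lpr_ft (K4.f57000 IH) (Lpe (f498193 IH) (Lpn (LP (LK LD1_c4 LD2_c38 LD3_c2))))))
theorem f700431 : Led Lsl_at (LP (LK LD1_c6 LD2_c2 LD3_c0)) = (LP (LK LD1_c9 LD2_c11 LD3_c21)) :=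
  Lgr Lrot26 (Lpr_ff (f700347 IH) (Lpr_gt (f700429 IH) (Lpr_gt (K52.f700256 IH) (Lpn (LP (LK LD1_c9 LD2_c11 LD3_c21))))))
theorem f419070 : Led Lsl_dt (LP (LK LD1_c11 LD2_c48 LD3_c37)) = (LP (LK LD1_c6 LD2_c2 LD3_c0)) :=
  Lre_d IH (LK LD1_c11 LD2_c48 LD3_c37) (LK LD1_c6 LD2_c2 LD3_c0) Lrfl Lrfl
theorem f700259 : Led Lsl_dt (LP (LK LD1_c9 LD2_c11 LD3_c21)) = (LP (LK LD1_c17 LD2_c4 LD3_c55)) :=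
  Lre_d IH (LK LD1_c9 LD2_c11 LD3_c21) (LK LD1_c17 LD2_c4 LD3_c55) Lrfl Lrfl
theorem f700435 : Led Lsl_af (LP (LK LD1_c11 LD2_c48 LD3_c37)) = (LP (LK LD1_c17 LD2_c4 LD3_c55)) :=
  Lgr Lrot117 (Lpr_dt (f419070 IH) (Lpr_at (f700431 IH) (Lpr_dt (f700259 IH) (Lpn (LP (LK LD1_c17 LD2_c4 LD3_c55))))))
theorem f700442 : Led Lsl_ft (LP (LK LD1_c12 LD2_c43 LD3_c46)) = (LP (LK LD1_c17 LD2_c4 LD3_c55)) :=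
  Lgr Lrot101 (Lpr_af (f700355 IH) (Lpe (f700357 IH) (Lpr_af (f700435 IH) (Lpn (LP (LK LD1_c17 LD2_c4 LD3_c55))))))
theorem f700446 : Led Lsl_ff (LP (LK LD1_c12 LD2_c43 LD3_c46)) = (LP (LK LD1_c17 LD2_c4 LD3_c55)) :=
  Lgr Lrot3 (Lpr_ft (f700442 IH) (Lpn (LP (LK LD1_c17 LD2_c4 LD3_c55))))
theorem f700258 : Led Lsl_gt (LP (LK LD1_c17 LD2_c4 LD3_c55)) = (LP (LK LD1_c26 LD2_c58 LD3_c59)) :=
  Lre_g IH (LK LD1_c17 LD2_c4 LD3_c55) (LK LD1_c26 LD2_c58 LD3_c59) Lrfl Lrfl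
theorem f700450 : Led Lsl_gf (LP (LK LD1_c17 LD2_c4 LD3_c57)) = (LP (LK LD1_c26 LD2_c58 LD3_c59)) :=
  Lgr Lrot76 (Lpe (f700353 IH) (Lpr_ff (f700446 IH) (Lpr_gt (f700258 IH) (Lpn (LP (LK LD1_c26 LD2_c58 LD3_c59))))))
theorem f80104 : Led Lsl_et (LP (LK LD1_c2 LD2_c17 LD3_c2)) = (LP (LK LD1_c4 LD2_c39 LD3_c61)) :=
  Lre_e IH (LK LD1_c2 LD2_c17 LD3_c2) (LK LD1_c4 LD2_c39 LD3_c61) Lrfl Lrfl
theorem f80105 : Led Lsl_gt (LP (LK LD1_c9 LD2_c15 LD3_c28)) = (LP (LK LD1_c4 LD2_c39 LD3_c61)) :=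
  Lre_g IH (LK LD1_c9 LD2_c15 LD3_c28) (LK LD1_c4 LD2_c39 LD3_c61) Lrfl Lrfl
theorem f80106 : Led Lsl_et (LP (LK LD1_c17 LD2_c9 LD3_c60)) = (LP (LK LD1_c9 LD2_c15 LD3_c28)) :=
  Lre_e IH (LK LD1_c17 LD2_c9 LD3_c60) (LK LD1_c9 LD2_c15 LD3_c28) Lrfl Lrfl
theorem f700573 : Led Lsl_dt (LP (LK LD1_c17 LD2_c9 LD3_c60)) = (LP (LK LD1_c26 LD2_c58 LD3_c59)) :=
  Lgr Lrot56 (Lpr_et (f80106 IH) (Lpr_gt (f80105 IH) (Lpe (f80104 IH) (Lpr_dt (K36.f73011 IH) (Lpr_gt (K8.f80049 IH) (Lpe (K8.f79961 IH) (Lpr_et (K55.f80063 IH) (Lpr_gt (K52.f700256 IH) (Lpr_dt (f700259 IH) (Lpr_gt (f700258 IH) (Lpn (LP (LK LD1_c26 LD2_c58 LD3_c59)))))))))))))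
theorem f902520 : Led Lsl_gt (LP (LK LD1_c21 LD2_c50 LD3_c57)) = (LP (LK LD1_c17 LD2_c9 LD3_c60)) :=
  Lgr Lrot94 (Lpr_cf (f642432 IH) (Lpe (f710802 IH) (Lpr_dt (f902517 IH) (Lpe (f902515 IH) (Lpr_dt (K51.f80189 IH) (Lpe (K58.f152563 IH) (Lpe (f209310 IH) (Lpr_gf (f700450 IH) (Lpe (f700573 IH) (Lpn (LP (LK LD1_c17 LD2_c9 LD3_c60))))))))))))
theorem f902521 : Led Lsl_gt (LP (LK LD1_c21 LD2_c50 LD3_c57)) = (LP (LK LD1_c17 LD2_c9 LD3_c60)) :=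
  Leop (Lpe (f902520 IH) (Lpn (LP (LK LD1_c21 LD2_c50 LD3_c57))))
theorem seed_2251 : LEOK LG_g (LK LD1_c21 LD2_c50 LD3_c57) :=
  Leoe_g (LK LD1_c21 LD2_c50 LD3_c57) (f902521 IH)
def v38483 : LQ := Led Lsl_gf (LP (LK LD1_c9 LD2_c11 LD3_c22))
theorem f902524 : Led Lsl_gf (LP (LK LD1_c9 LD2_c11 LD3_c22)) = v38483 :=
  Lrfl
def v13023 : LQ := Led Lsl_et (LP (LK LD1_c4 LD2_c37 LD3_c51))
theorem f700233 : Led Lsl_et (LP (LK LD1_c4 LD2_c37 LD3_c51)) = v13023 :=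
  Lrfl
def v38471 : LQ := Led Lsl_gt (LP (LK LD1_c9 LD2_c11 LD3_c8))
theorem f902417 : Led Lsl_gt (LP (LK LD1_c9 LD2_c11 LD3_c8)) = v38471 :=
  Lrfl
theorem f618194 : Led Lsl_et (LP (LK LD1_c4 LD2_c37 LD3_c44)) = (LP (LK LD1_c9 LD2_c11 LD3_c8)) :=
  Lre_e IH (LK LD1_c4 LD2_c37 LD3_c44) (LK LD1_c9 LD2_c11 LD3_c8) Lrfl Lrfl
theorem f644432 : Led Lsl_ct (LP (LK LD1_c16 LD2_c54 LD3_c13)) = (LP (LK LD1_c26 LD2_c50 LD3_c27)) :=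
  Lre_c IH (LK LD1_c16 LD2_c54 LD3_c13) (LK LD1_c26 LD2_c50 LD3_c27) Lrfl Lrfl
theorem f644441 : Led Lsl_ft (LP (LK LD1_c26 LD2_c50 LD3_c27)) = (LP (LK LD1_c17 LD2_c6 LD3_c31)) :=
  Lgr Lrot4 (Lpe (f644432 IH) (Lpr_ff (K45.f644428 IH) (Lpe (K45.f642594 IH) (Lpn (LP (LK LD1_c17 LD2_c6 LD3_c31))))))
theorem f644791 : Led Lsl_gt (LP (LK LD1_c26 LD2_c50 LD3_c27)) = (LP (LK LD1_c18 LD2_c1 LD3_c18)) :=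
  Lgr Lrot5 (Lpr_ft (f644441 IH) (Lpe (K45.f642663 IH) (Lpe (K57.f642495 IH) (Lpn (LP (LK LD1_c18 LD2_c1 LD3_c18))))))
theorem f415822 : Led Lsl_ct (LP (LK LD1_c18 LD2_c1 LD3_c18)) = (LP (LK LD1_c9 LD2_c50 LD3_c16)) :=
  Lre_c IH (LK LD1_c18 LD2_c1 LD3_c18) (LK LD1_c9 LD2_c50 LD3_c16) Lrfl Lrfl
theorem f415817 : Led Lsl_ct (LP (LK LD1_c9 LD2_c10 LD3_c59)) = (LP (LK LD1_c4 LD2_c59 LD3_c54)) :=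
  Lgr Lrot59 (Lpr_cf (K31.f415601 IH) (Lpn (LP (LK LD1_c4 LD2_c59 LD3_c54))))
theorem f644793 : Led Lsl_gf (LP (LK LD1_c16 LD2_c54 LD3_c13)) = (LP (LK LD1_c9 LD2_c11 LD3_c7)) :=
  Lgr Lrot147 (Lpr_ct (f644432 IH) (Lpr_gt (f644791 IH) (Lpr_ct (f415822 IH) (Lpe (K55.f415965 IH) (Lpe (f415817 IH) (Lpe (K31.f415600 IH) (Lpe (K31.f116886 IH) (Lpe (K24.f142127 IH) (Lpe (K56.f415969 IH) (Lpn (LP (LK LD1_c9 LD2_c11 LD3_c7))))))))))))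
theorem f644795 : Led Lsl_gt (LP (LK LD1_c6 LD2_c3 LD3_c0)) = (LP (LK LD1_c9 LD2_c11 LD3_c7)) :=
  Lgr Lrot5 (Lpr_ft (K45.f642676 IH) (Lpe (K51.f644471 IH) (Lpr_gf (f644793 IH) (Lpn (LP (LK LD1_c9 LD2_c11 LD3_c7))))))
theorem f79983 : Led Lsl_et (LP (LK LD1_c6 LD2_c11 LD3_c50)) = (LP (LK LD1_c9 LD2_c4 LD3_c17)) :=
  Lgr Lrot87 (Lpr_ef (K51.f79974 IH) (Lpn (LP (LK LD1_c9 LD2_c4 LD3_c17))))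
theorem f747194 : Led Lsl_ft (LP (LK LD1_c11 LD2_c21 LD3_c31)) = (LP (LK LD1_c12 LD2_c3 LD3_c33)) :=
  Lgr Lrot48 (Lpr_ff (K60.f747187 IH) (Lpn (LP (LK LD1_c12 LD2_c3 LD3_c33))))
theorem f747199 : Led Lsl_gt (LP (LK LD1_c11 LD2_c21 LD3_c31)) = (LP (LK LD1_c12 LD2_c3 LD3_c31)) :=
  Lgr Lrot5 (Lpr_ft (f747194 IH) (Lpe (K55.f698920 IH) (Lpe (K51.f700335 IH) (Lpn (LP (LK LD1_c12 LD2_c3 LD3_c31))))))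
theorem f781225 : Led Lsl_df (LP (LK LD1_c11 LD2_c21 LD3_c31)) = K60.v19609 :=
  Lgr Lrot78 (Lpr_ft (f747194 IH) (Lpe (K55.f116909 IH) (Lpr_ft (K60.f781223 IH) (Lpn K60.v19609))))
theorem f902421 : Led Lsl_et K60.v19609 = v38471 :=
  Lgr Lrot122 (Lpe (f781225 IH) (Lpr_gt (f747199 IH) (Lpe (K51.f73002 IH) (Lpr_et (f79983 IH) (Lpr_gt (K54.f644430 IH) (Lpr_dt (K45.f507613 IH) (Lpr_gt (f644795 IH) (Lpe (K55.f415968 IH) (Lpr_et (f618194 IH) (Lpr_gt (f902417 IH) (Lpn v38471)))))))))))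
theorem f700234 : Led Lsl_ef (LP (LK LD1_c4 LD2_c37 LD3_c51)) = v13023 :=
  Lgr Lrot88 (Lpr_et (f700233 IH) (Lpn v13023))
theorem f902425 : Led Lsl_ff v13023 = v38471 :=
  Lgr Lrot72 (Lpe (f700234 IH) (Lpq (K51.f700261 IH) (Lpq (K51.f669256 IH) (Lpq (f698907 IH) (Lpe (f652699 IH) (Lpr_et (K55.f116911 IH) (Lpr_ft (K60.f781223 IH) (Lpr_et (f902421 IH) (Lpn v38471)))))))))
theorem f902428 : Led Lsl_ft v13023 = v38471 :=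
  Lgr Lrot48 (Lpr_ff (f902425 IH) (Lpn v38471))
theorem f902422 : Led Lsl_af K55.v13045 = v38471 :=
  Lgr Lrot50 (Lpe (K55.f700718 IH) (Lpr_at (K60.f781227 IH) (Lpr_et (f902421 IH) (Lpn v38471))))
def v13046 : LQ := Led Lsl_gf (LP (LK LD1_c4 LD2_c38 LD3_c22))
theorem f700725 : Led Lsl_gf (LP (LK LD1_c4 LD2_c38 LD3_c22)) = v13046 :=
  Lrfl
theorem f902429 : v13023 = v13046 :=
  (Llr Lrot52 (Lpr_ft (f902428 IH) (Lpe (f902422 IH) (Lpe (K55.f700712 IH) (Lpr_gf (f700725 IH) (Lpn v13046)))))).symm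
def v13048 : LQ := Led Lsl_dt (LP (LK LD1_c4 LD2_c38 LD3_c22))
theorem f700733 : Led Lsl_dt (LP (LK LD1_c4 LD2_c38 LD3_c22)) = v13048 :=
  Lrfl
theorem f80007 : Led Lsl_et (LP (LK LD1_c3 LD2_c20 LD3_c32)) = (LP (LK LD1_c4 LD2_c37 LD3_c45)) :=
  Lre_e IH (LK LD1_c3 LD2_c20 LD3_c32) (LK LD1_c4 LD2_c37 LD3_c45) Lrfl Lrfl
theorem f614950 : Led Lsl_et (LP (LK LD1_c4 LD2_c38 LD3_c22)) = (LP (LK LD1_c2 LD2_c16 LD3_c13)) :=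
  Lre_e IH (LK LD1_c4 LD2_c38 LD3_c22) (LK LD1_c2 LD2_c16 LD3_c13) Lrfl Lrfl
theorem f508542 : Led Lsl_et (LP (LK LD1_c4 LD2_c35 LD3_c42)) = (LP (LK LD1_c9 LD2_c7 LD3_c54)) :=
  Lre_e IH (LK LD1_c4 LD2_c35 LD3_c42) (LK LD1_c9 LD2_c7 LD3_c54) Lrfl Lrfl
theorem f846861 : Led Lsl_gt v13048 = K53.v12965 :=
  Lgr Lrot112 (Lpe (f700733 IH) (Lpr_et (f614950 IH) (Lpe (K45.f552465 IH) (Lpe (f80007 IH) (Lpr_dt (K65.f652721 IH) (Lpe (K66.f652748 IH) (Lpr_df (K66.f672036 IH) (Lpr_gf (K66.f846858 IH) (Lpe (f508542 IH) (Lpr_dt (K53.f699909 IH) (Lpn K53.v12965)))))))))))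
theorem f846867 : Led Lsl_ef K66.v8700 = v28932 :=
  Lgr Lrot88 (Lpr_et (f846866 IH) (Lpn v28932))
theorem f902527 : Led Lsl_dt v28932 = v38483 :=
  Lgr Lrot136 (Lpe (f846867 IH) (Lpr_gf (K66.f846858 IH) (Lpe (f508542 IH) (Lpr_dt (K53.f699909 IH) (Lpe (f846861 IH) (Lpe (f700733 IH) (Lpr_gf (f700725 IH) (Lpq (f902429 IH) (Lpe (f700233 IH) (Lpr_dt (f40626 IH) (Lpr_gf (f902524 IH) (Lpn v38483))))))))))))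
theorem f846868 : Led Lsl_gt (LP (LK LD1_c11 LD2_c48 LD3_c47)) = v28932 :=
  Lgr Lrot131 (Lpr_ef (K45.f444644 IH) (Lpr_dt (K51.f642674 IH) (Lpe (K45.f642686 IH) (Lpe (K45.f631945 IH) (Lpe (K45.f552465 IH) (Lpe (f80007 IH) (Lpr_dt (K65.f652721 IH) (Lpe (K66.f652748 IH) (Lpr_df (K66.f672036 IH) (Lpr_et (f846866 IH) (Lpn v28932)))))))))))
theorem f700228 : Led Lsl_dt (LP (LK LD1_c17 LD2_c4 LD3_c55)) = (LP (LK LD1_c9 LD2_c11 LD3_c21)) :=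
  Lre_d IH (LK LD1_c17 LD2_c4 LD3_c55) (LK LD1_c9 LD2_c11 LD3_c21) Lrfl Lrfl
theorem f700232 : Led Lsl_gt (LP (LK LD1_c26 LD2_c58 LD3_c60)) = (LP (LK LD1_c17 LD2_c4 LD3_c55)) :=
  Lre_g IH (LK LD1_c26 LD2_c58 LD3_c60) (LK LD1_c17 LD2_c4 LD3_c55) Lrfl Lrfl
theorem f902531 : Led Lsl_dt (LP (LK LD1_c21 LD2_c52 LD3_c4)) = (LP (LK LD1_c26 LD2_c58 LD3_c60)) :=
  Lgr Lrot57 (Lpr_gf (K45.f642443 IH) (Lpe (K45.f415438 IH) (Lpr_gt (f846868 IH) (Lpr_dt (f902527 IH) (Lpe (f902524 IH) (Lpr_dt (f80190 IH) (Lpe (K50.f152562 IH) (Lpe (f700228 IH) (Lpe (f700232 IH) (Lpn (LP (LK LD1_c26 LD2_c58 LD3_c60))))))))))))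
theorem f902532 : Led Lsl_dt (LP (LK LD1_c21 LD2_c52 LD3_c4)) = (LP (LK LD1_c26 LD2_c58 LD3_c60)) :=
  Leop (Lpe (f902531 IH) (Lpn (LP (LK LD1_c21 LD2_c52 LD3_c4))))
theorem seed_2252 : LEOK LG_d (LK LD1_c21 LD2_c52 LD3_c4) :=
  Leoe_d (LK LD1_c21 LD2_c52 LD3_c4) (f902532 IH)
def v38504 : LQ := Led Lsl_gf (LP (LK LD1_c9 LD2_c11 LD3_c53))
theorem f902679 : Led Lsl_gf (LP (LK LD1_c9 LD2_c11 LD3_c53)) = v38504 :=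
  Lrfl
theorem f100358 : Led Lsl_et (LP (LK LD1_c4 LD2_c38 LD3_c6)) = (LP (LK LD1_c2 LD2_c16 LD3_c9)) :=
  Lre_e IH (LK LD1_c4 LD2_c38 LD3_c6) (LK LD1_c2 LD2_c16 LD3_c9) Lrfl Lrfl
theorem f99717 : Led Lsl_et (LP (LK LD1_c3 LD2_c2 LD3_c3)) = (LP (LK LD1_c6 LD2_c10 LD3_c52)) :=
  Lre_e IH (LK LD1_c3 LD2_c2 LD3_c3) (LK LD1_c6 LD2_c10 LD3_c52) Lrfl Lrfl
theorem f622260 : Led Lsl_ct (LP (LK LD1_c9 LD2_c10 LD3_c11)) = (LP (LK LD1_c4 LD2_c37 LD3_c14)) :=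
  Lre_c IH (LK LD1_c9 LD2_c10 LD3_c11) (LK LD1_c4 LD2_c37 LD3_c14) Lrfl Lrfl
theorem f204219 : Led Lsl_ct (LP (LK LD1_c6 LD2_c2 LD3_c31)) = (LP (LK LD1_c11 LD2_c49 LD3_c20)) :=
  Lre_c IH (LK LD1_c6 LD2_c2 LD3_c31) (LK LD1_c11 LD2_c49 LD3_c20) Lrfl Lrfl
theorem f622261 : Led Lsl_ef (LP (LK LD1_c9 LD2_c10 LD3_c11)) = (LP (LK LD1_c11 LD2_c49 LD3_c20)) :=
  Lgr Lrot28 (Lpr_ct (f622260 IH) (Lpr_et (K50.f622256 IH) (Lpr_ct (f204219 IH) (Lpn (LP (LK LD1_c11 LD2_c49 LD3_c20))))))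
theorem f902682 : Led Lsl_dt (LP (LK LD1_c11 LD2_c49 LD3_c20)) = v38504 :=
  Lgr Lrot136 (Lpe (f622261 IH) (Lpe (K55.f748145 IH) (Lpe (f99717 IH) (Lpr_dt (K6.f100247 IH) (Lpe (K6.f65014 IH) (Lpe (K6.f99950 IH) (Lpe (K0.f26380 IH) (Lpe (f100358 IH) (Lpr_dt (K42.f100359 IH) (Lpr_gf (f902679 IH) (Lpn v38504)))))))))))
theorem f902684 : Led Lsl_df (LP (LK LD1_c11 LD2_c49 LD3_c20)) = v38504 :=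
  Lgr Lrot38 (Lpr_dt (f902682 IH) (Lpn v38504))
theorem f500981 : Led Lsl_ct (LP (LK LD1_c11 LD2_c49 LD3_c18)) = (LP (LK LD1_c6 LD2_c2 LD3_c28)) :=
  Lre_c IH (LK LD1_c11 LD2_c49 LD3_c18) (LK LD1_c6 LD2_c2 LD3_c28) Lrfl Lrfl
theorem f614612 : Led Lsl_ff (LP (LK LD1_c11 LD2_c49 LD3_c18)) = (LP (LK LD1_c11 LD2_c35 LD3_c56)) :=
  Lgr Lrot23 (Lpr_ct (f500981 IH) (Lpr_ft (K45.f614610 IH) (Lpr_ct (K50.f435618 IH) (Lpn (LP (LK LD1_c11 LD2_c35 LD3_c56))))))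
theorem f614934 : Led Lsl_af (LP (LK LD1_c11 LD2_c35 LD3_c56)) = (LP (LK LD1_c11 LD2_c49 LD3_c20)) :=
  Lgr Lrot45 (Lpe (f614612 IH) (Lpe (K50.f614906 IH) (Lpr_ft (K50.f614928 IH) (Lpn (LP (LK LD1_c11 LD2_c49 LD3_c20))))))
def v19130 : LQ := Led Lsl_bt (LP (LK LD1_c6 LD2_c38 LD3_c34))
theorem f777974 : Led Lsl_bt (LP (LK LD1_c6 LD2_c38 LD3_c34)) = v19130 :=
  Lrfl
theorem f435612 : Led Lsl_et (LP (LK LD1_c6 LD2_c33 LD3_c38)) = (LP (LK LD1_c3 LD2_c15 LD3_c5)) :=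
  Lre_e IH (LK LD1_c6 LD2_c33 LD3_c38) (LK LD1_c3 LD2_c15 LD3_c5) Lrfl Lrfl
theorem f435613 : Led Lsl_et (LP (LK LD1_c5 LD2_c55 LD3_c11)) = (LP (LK LD1_c11 LD2_c35 LD3_c56)) :=
  Lre_e IH (LK LD1_c5 LD2_c55 LD3_c11) (LK LD1_c11 LD2_c35 LD3_c56) Lrfl Lrfl
theorem f435614 : Led Lsl_bf (LP (LK LD1_c6 LD2_c33 LD3_c38)) = (LP (LK LD1_c11 LD2_c35 LD3_c56)) :=
  Lgr Lrot96 (Lpr_et (f435612 IH) (Lpr_bt (K58.f435606 IH) (Lpr_et (f435613 IH) (Lpn (LP (LK LD1_c11 LD2_c35 LD3_c56))))))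
theorem f777976 : Led Lsl_df (LP (LK LD1_c11 LD2_c35 LD3_c56)) = v19130 :=
  Lgr Lrot12 (Lpe (f435614 IH) (Lpq (K59.f768800 IH) (Lpe (K56.f675653 IH) (Lpr_bt (f777974 IH) (Lpn v19130)))))
theorem f777977 : Led Lsl_dt (LP (LK LD1_c11 LD2_c35 LD3_c56)) = v19130 :=
  Lgr Lrot42 (Lpr_df (f777976 IH) (Lpn v19130))
theorem f902685 : Led Lsl_at v19130 = v38504 :=
  Lgr Lrot51 (Lpe (f777977 IH) (Lpr_af (f614934 IH) (Lpr_df (f902684 IH) (Lpn v38504))))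
def v38503 : LQ := Led Lsl_gt (LP (LK LD1_c9 LD2_c11 LD3_c53))
theorem f902670 : Led Lsl_gt (LP (LK LD1_c9 LD2_c11 LD3_c53)) = v38503 :=
  Lrfl
theorem f902671 : Led Lsl_df (LP (LK LD1_c11 LD2_c49 LD3_c18)) = v38503 :=
  Lgr Lrot84 (Lpe (K50.f419103 IH) (Lpe (K49.f69214 IH) (Lpe (K42.f69213 IH) (Lpr_df (K35.f500976 IH) (Lpqs (K35.f538049 IH) (Lpe (K11.f207344 IH) (Lpe (K50.f207353 IH) (Lpe (K49.f643760 IH) (Lpr_dt (K42.f100359 IH) (Lpr_gt (f902670 IH) (Lpn v38503)))))))))))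
theorem f902675 : Led Lsl_ft v19130 = v38503 :=
  Lgr Lrot54 (Lpe (f777977 IH) (Lpe (K50.f614616 IH) (Lpr_df (f902671 IH) (Lpn v38503))))
theorem f902677 : Led Lsl_ff v19130 = v38503 :=
  Lgr Lrot3 (Lpr_ft (f902675 IH) (Lpn v38503))
theorem f499223 : Led Lsl_af (LP (LK LD1_c9 LD2_c11 LD3_c53)) = (LP (LK LD1_c6 LD2_c38 LD3_c60)) :=
  Lgr Lrot0 (Lpr_at (K42.f499221 IH) (Lpn (LP (LK LD1_c6 LD2_c38 LD3_c60))))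
theorem f499257 : Led Lsl_ft (LP (LK LD1_c12 LD2_c43 LD3_c38)) = (LP (LK LD1_c6 LD2_c38 LD3_c60)) :=
  Lre_f IH (LK LD1_c12 LD2_c43 LD3_c38) (LK LD1_c6 LD2_c38 LD3_c60) Lrfl Lrfl
theorem f902680 : Led Lsl_gt (LP (LK LD1_c12 LD2_c43 LD3_c38)) = v38504 :=
  Lgr Lrot5 (Lpr_ft (f499257 IH) (Lpe (f499223 IH) (Lpr_gf (f902679 IH) (Lpn v38504))))
theorem f902687 : Led Lsl_gt v38503 = (LP (LK LD1_c12 LD2_c43 LD3_c38)) :=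
  Lgr Lrot5 (Lpe (f902677 IH) (Lpr_at (f902685 IH) (Lpe (f902680 IH) (Lpn (LP (LK LD1_c12 LD2_c43 LD3_c38))))))
theorem f902674 : Led Lsl_dt (LP (LK LD1_c11 LD2_c49 LD3_c18)) = v38503 :=
  Lgr Lrot42 (Lpr_df (f902671 IH) (Lpn v38503))
theorem f499110 : Led Lsl_dt (LP (LK LD1_c12 LD2_c43 LD3_c38)) = (LP (LK LD1_c6 LD2_c38 LD3_c61)) :=
  Lre_d IH (LK LD1_c12 LD2_c43 LD3_c38) (LK LD1_c6 LD2_c38 LD3_c61) Lrfl Lrfl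
theorem f643770 : Led Lsl_df (LP (LK LD1_c12 LD2_c43 LD3_c30)) = (LP (LK LD1_c12 LD2_c17 LD3_c43)) :=
  Lgr Lrot162 (Lpe (K50.f499102 IH) (Lpr_gf (K49.f643766 IH) (Lpe (K49.f207331 IH) (Lpe (K42.f207327 IH) (Lpq (K35.f538049 IH) (Lpe (K35.f500976 IH) (Lpr_gt (K42.f69213 IH) (Lpr_ct (K42.f443703 IH) (Lpr_gt (K42.f443704 IH) (Lpe (K60.f443710 IH) (Lpn (LP (LK LD1_c12 LD2_c17 LD3_c43)))))))))))))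
theorem f644181 : Led Lsl_ff (LP (LK LD1_c20 LD2_c51 LD3_c38)) = (LP (LK LD1_c15 LD2_c5 LD3_c11)) :=
  Lgr Lrot3 (Lpr_ft (K50.f644173 IH) (Lpn (LP (LK LD1_c15 LD2_c5 LD3_c11))))
theorem f615095 : Led Lsl_bt (LP (LK LD1_c5 LD2_c50 LD3_c27)) = (LP (LK LD1_c9 LD2_c49 LD3_c40)) :=
  Lgr Lrot35 (Lpr_ff (K59.f615093 IH) (Lpr_bf (K45.f570785 IH) (Lpe (K42.f570782 IH) (Lpn (LP (LK LD1_c9 LD2_c49 LD3_c40))))))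
theorem f497253 : Led Lsl_at (LP (LK LD1_c8 LD2_c0 LD3_c35)) = (LP (LK LD1_c6 LD2_c50 LD3_c61)) :=
  Lgr Lrot100 (Lpr_af (K42.f497251 IH) (Lpn (LP (LK LD1_c6 LD2_c50 LD3_c61))))
theorem f436272 : Led Lsl_ct (LP (LK LD1_c11 LD2_c28 LD3_c51)) = (LP (LK LD1_c5 LD2_c50 LD3_c27)) :=
  Lre_c IH (LK LD1_c11 LD2_c28 LD3_c51) (LK LD1_c5 LD2_c50 LD3_c27) Lrfl Lrfl
theorem f615089 : Led Lsl_ff (LP (LK LD1_c11 LD2_c28 LD3_c51)) = (LP (LK LD1_c6 LD2_c50 LD3_c61)) :=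
  Lgr Lrot23 (Lpr_ct (f436272 IH) (Lpr_ft (K42.f615085 IH) (Lpr_ct (K42.f69042 IH) (Lpn (LP (LK LD1_c6 LD2_c50 LD3_c61))))))
theorem f643931 : Led Lsl_at (LP (LK LD1_c11 LD2_c28 LD3_c51)) = (LP (LK LD1_c12 LD2_c17 LD3_c44)) :=
  Lgr Lrot66 (Lpr_ff (f615089 IH) (Lpe (f497253 IH) (Lpr_ff (K60.f643929 IH) (Lpn (LP (LK LD1_c12 LD2_c17 LD3_c44))))))
theorem f643947 : Led Lsl_af (LP (LK LD1_c5 LD2_c50 LD3_c27)) = (LP (LK LD1_c6 LD2_c22 LD3_c1)) :=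
  Lgr Lrot68 (Lpr_ct (K59.f436262 IH) (Lpr_at (f643931 IH) (Lpr_ct (K60.f443708 IH) (Lpn (LP (LK LD1_c6 LD2_c22 LD3_c1))))))
theorem f644165 : Led Lsl_at (LP (LK LD1_c20 LD2_c51 LD3_c38)) = (LP (LK LD1_c12 LD2_c17 LD3_c43)) :=
  Lgr Lrot67 (Lpr_bf (K50.f644163 IH) (Lpr_af (K42.f615246 IH) (Lpe (f615095 IH) (Lpr_af (f643947 IH) (Lpe (K42.f443702 IH) (Lpn (LP (LK LD1_c12 LD2_c17 LD3_c43))))))))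
theorem f700917 : Led Lsl_gt (LP (LK LD1_c9 LD2_c5 LD3_c60)) = (LP (LK LD1_c12 LD2_c17 LD3_c43)) :=
  Lgr Lrot46 (Lpr_gf (K50.f700915 IH) (Lpe (f644181 IH) (Lpr_at (f644165 IH) (Lpn (LP (LK LD1_c12 LD2_c17 LD3_c43))))))
theorem f669589 : Led Lsl_dt (LP (LK LD1_c16 LD2_c57 LD3_c47)) = (LP (LK LD1_c9 LD2_c5 LD3_c60)) :=
  Lre_d IH (LK LD1_c16 LD2_c57 LD3_c47) (LK LD1_c9 LD2_c5 LD3_c60) Lrfl Lrfl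
theorem f902688 : Led Lsl_gt (LP (LK LD1_c20 LD2_c27 LD3_c6)) = (LP (LK LD1_c16 LD2_c57 LD3_c47)) :=
  Lgr Lrot94 (Lpr_cf (K52.f710039 IH) (Lpe (K52.f715330 IH) (Lpr_dt (f902674 IH) (Lpr_gt (f902687 IH) (Lpr_dt (f499110 IH) (Lpe (K49.f499109 IH) (Lpr_df (f643770 IH) (Lpe (f700917 IH) (Lpe (f669589 IH) (Lpn (LP (LK LD1_c16 LD2_c57 LD3_c47))))))))))))
theorem f902689 : Led Lsl_gt (LP (LK LD1_c20 LD2_c27 LD3_c6)) = (LP (LK LD1_c16 LD2_c57 LD3_c47)) :=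
  Leop (Lpe (f902688 IH) (Lpn (LP (LK LD1_c20 LD2_c27 LD3_c6))))
theorem seed_2253 : LEOK LG_g (LK LD1_c20 LD2_c27 LD3_c6) :=
  Leoe_g (LK LD1_c20 LD2_c27 LD3_c6) (f902689 IH)
def v38580 : LQ := Led Lsl_dt (LP (LK LD1_c9 LD2_c12 LD3_c54))
theorem f903043 : Led Lsl_dt (LP (LK LD1_c9 LD2_c12 LD3_c54)) = v38580 :=
  Lrfl
theorem f510226 : Led Lsl_dt (LP (LK LD1_c12 LD2_c54 LD3_c50)) = (LP (LK LD1_c6 LD2_c45 LD3_c16)) :=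
  Lre_d IH (LK LD1_c12 LD2_c54 LD3_c50) (LK LD1_c6 LD2_c45 LD3_c16) Lrfl Lrfl
theorem f903047 : Led Lsl_ff (LP (LK LD1_c12 LD2_c54 LD3_c50)) = v38580 :=
  Lgr Lrot19 (Lpr_dt (f510226 IH) (Lpe (K53.f710169 IH) (Lpr_dt (f903043 IH) (Lpn v38580))))
theorem f903049 : Led Lsl_ft (LP (LK LD1_c12 LD2_c54 LD3_c50)) = v38580 :=
  Lgr Lrot48 (Lpr_ff (f903047 IH) (Lpn v38580))
theorem f436641 : Led Lsl_af (LP (LK LD1_c9 LD2_c12 LD3_c54)) = (LP (LK LD1_c6 LD2_c2 LD3_c19)) :=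
  Lgr Lrot0 (Lpr_at (K51.f436639 IH) (Lpn (LP (LK LD1_c6 LD2_c2 LD3_c19))))
theorem f56788 : Led Lsl_dt (LP (LK LD1_c11 LD2_c48 LD3_c59)) = (LP (LK LD1_c6 LD2_c2 LD3_c19)) :=
  Lre_d IH (LK LD1_c11 LD2_c48 LD3_c59) (LK LD1_c6 LD2_c2 LD3_c19) Lrfl Lrfl
theorem f903044 : Led Lsl_af (LP (LK LD1_c11 LD2_c48 LD3_c59)) = v38580 :=
  Lgr Lrot117 (Lpr_dt (f56788 IH) (Lpe (f436641 IH) (Lpr_dt (f903043 IH) (Lpn v38580))))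
theorem f56794 : Led Lsl_gt (LP (LK LD1_c20 LD2_c51 LD3_c27)) = (LP (LK LD1_c11 LD2_c48 LD3_c59)) :=
  Lre_g IH (LK LD1_c20 LD2_c51 LD3_c27) (LK LD1_c11 LD2_c48 LD3_c59) Lrfl Lrfl
theorem f903050 : Led Lsl_gt (LP (LK LD1_c12 LD2_c54 LD3_c50)) = (LP (LK LD1_c20 LD2_c51 LD3_c27)) :=
  Lgr Lrot5 (Lpr_ft (f903049 IH) (Lpe (f903044 IH) (Lpe (f56794 IH) (Lpn (LP (LK LD1_c20 LD2_c51 LD3_c27))))))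
theorem f903051 : Led Lsl_gt (LP (LK LD1_c12 LD2_c54 LD3_c50)) = (LP (LK LD1_c20 LD2_c51 LD3_c27)) :=
  Leop (Lpe (f903050 IH) (Lpn (LP (LK LD1_c12 LD2_c54 LD3_c50))))
theorem seed_2254 : LEOK LG_g (LK LD1_c12 LD2_c54 LD3_c50) :=
  Leoe_g (LK LD1_c12 LD2_c54 LD3_c50) (f903051 IH)
def v38625 : LQ := Led Lsl_et (LP (LK LD1_c9 LD2_c13 LD3_c29))
theorem f903320 : Led Lsl_et (LP (LK LD1_c9 LD2_c13 LD3_c29)) = v38625 :=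
  Lrfl
theorem f495964 : Led Lsl_et (LP (LK LD1_c12 LD2_c53 LD3_c15)) = (LP (LK LD1_c6 LD2_c44 LD3_c16)) :=
  Lre_e IH (LK LD1_c12 LD2_c53 LD3_c15) (LK LD1_c6 LD2_c44 LD3_c16) Lrfl Lrfl
def v19696 : LQ := Led Lsl_bt (LP (LK LD1_c6 LD2_c45 LD3_c51))
theorem f781689 : Led Lsl_bt (LP (LK LD1_c6 LD2_c45 LD3_c51)) = v19696 :=
  Lrfl
theorem f781690 : Led Lsl_bf (LP (LK LD1_c6 LD2_c45 LD3_c51)) = v19696 :=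
  Lgr Lrot24 (Lpr_bt (f781689 IH) (Lpn v19696))
theorem f900559 : Led Lsl_bt (LP (LK LD1_c9 LD2_c8 LD3_c50)) = (LP (LK LD1_c17 LD2_c1 LD3_c35)) :=
  Lre_b IH (LK LD1_c9 LD2_c8 LD3_c50) (LK LD1_c17 LD2_c1 LD3_c35) Lrfl Lrfl
theorem f436296 : Led Lsl_ct (LP (LK LD1_c11 LD2_c31 LD3_c61)) = (LP (LK LD1_c5 LD2_c52 LD3_c52)) :=
  Lre_c IH (LK LD1_c11 LD2_c31 LD3_c61) (LK LD1_c5 LD2_c52 LD3_c52) Lrfl Lrfl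
theorem f445660 : Led Lsl_ct (LP (LK LD1_c17 LD2_c16 LD3_c35)) = (LP (LK LD1_c9 LD2_c20 LD3_c40)) :=
  Lre_c IH (LK LD1_c17 LD2_c16 LD3_c35) (LK LD1_c9 LD2_c20 LD3_c40) Lrfl Lrfl
theorem f853346 : Led Lsl_df (LP (LK LD1_c12 LD2_c55 LD3_c27)) = (LP (LK LD1_c17 LD2_c7 LD3_c55)) :=
  Lgr Lrot155 (Lpr_gt (f853340 IH) (Lpe (K48.f669561 IH) (Lpr_gt (K48.f436300 IH) (Lpr_ct (f436296 IH) (Lpr_dt (K65.f445653 IH) (Lpe (f445660 IH) (Lpr_gf (K60.f784743 IH) (Lpe (K60.f784742 IH) (Lpe (K60.f784744 IH) (Lpn (LP (LK LD1_c17 LD2_c7 LD3_c55))))))))))))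
theorem f746967 : Led Lsl_et (LP (LK LD1_c6 LD2_c44 LD3_c16)) = (LP (LK LD1_c12 LD2_c53 LD3_c15)) :=
  Lre_e IH (LK LD1_c6 LD2_c44 LD3_c16) (LK LD1_c12 LD2_c53 LD3_c15) Lrfl Lrfl
theorem f853362 : Led Lsl_af (LP (LK LD1_c17 LD2_c7 LD3_c55)) = (LP (LK LD1_c12 LD2_c53 LD3_c15)) :=
  Lgr Lrot50 (Lpr_et (K66.f104838 IH) (Lpqs (K66.f853322 IH) (Lpe (K66.f780866 IH) (Lpr_et (f746967 IH) (Lpn (LP (LK LD1_c12 LD2_c53 LD3_c15)))))))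
theorem f900570 : Led Lsl_dt (LP (LK LD1_c17 LD2_c1 LD3_c35)) = (LP (LK LD1_c12 LD2_c53 LD3_c15)) :=
  Lgr Lrot44 (Lpr_af (f900566 IH) (Lpr_df (f853346 IH) (Lpr_af (f853362 IH) (Lpn (LP (LK LD1_c12 LD2_c53 LD3_c15))))))
theorem f901098 : v19696 = (LP (LK LD1_c12 LD2_c53 LD3_c15)) :=
  (Llr Lrot93 (Lpe (f781690 IH) (Lpr_dt (f781691 IH) (Lpqs (f901095 IH) (Lpr_bt (f900559 IH) (Lpr_dt (f900570 IH) (Lpn (LP (LK LD1_c12 LD2_c53 LD3_c15))))))))).symm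
theorem f900543 : Led Lsl_bt (LP (LK LD1_c11 LD2_c49 LD3_c53)) = (LP (LK LD1_c20 LD2_c52 LD3_c5)) :=
  Lre_b IH (LK LD1_c11 LD2_c49 LD3_c53) (LK LD1_c20 LD2_c52 LD3_c5) Lrfl Lrfl
theorem f901094 : Led Lsl_ff v19696 = (LP (LK LD1_c20 LD2_c52 LD3_c5)) :=
  Lgr Lrot25 (Lpe (f781690 IH) (Lpr_ft (f781679 IH) (Lpqs (f901089 IH) (Lpqs (f900561 IH) (Lpr_bt (f900543 IH) (Lpn (LP (LK LD1_c20 LD2_c52 LD3_c5))))))))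
theorem f900565 : Led Lsl_et (LP (LK LD1_c11 LD2_c49 LD3_c52)) = (LP (LK LD1_c20 LD2_c52 LD3_c5)) :=
  Lre_e IH (LK LD1_c11 LD2_c49 LD3_c52) (LK LD1_c20 LD2_c52 LD3_c5) Lrfl Lrfl
theorem f903324 : Led Lsl_ff (LP (LK LD1_c11 LD2_c49 LD3_c52)) = v38625 :=
  Lgr Lrot72 (Lpr_et (f900565 IH) (Lpe (f901094 IH) (Lpqs (f901098 IH) (Lpr_et (f495964 IH) (Lpr_ft (K66.f780880 IH) (Lpqs (K66.f853283 IH) (Lpr_et (f903320 IH) (Lpn v38625))))))))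
theorem f903326 : Led Lsl_ft (LP (LK LD1_c11 LD2_c49 LD3_c52)) = v38625 :=
  Lgr Lrot48 (Lpr_ff (f903324 IH) (Lpn v38625))
theorem f780868 : Led Lsl_ff (LP (LK LD1_c6 LD2_c44 LD3_c17)) = K66.v19590 :=
  Lgr Lrot3 (Lpr_ft (K66.f780867 IH) (Lpn K66.v19590))
theorem f780883 : Led Lsl_at (LP (LK LD1_c6 LD2_c44 LD3_c17)) = K66.v19593 :=
  Lgr Lrot66 (Lpr_ff (f780868 IH) (Lpe (K66.f780865 IH) (Lpr_ff (K66.f780882 IH) (Lpn K66.v19593))))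
theorem f495960 : Led Lsl_et (LP (LK LD1_c12 LD2_c53 LD3_c16)) = (LP (LK LD1_c6 LD2_c44 LD3_c17)) :=
  Lre_e IH (LK LD1_c12 LD2_c53 LD3_c16) (LK LD1_c6 LD2_c44 LD3_c17) Lrfl Lrfl
theorem f903321 : Led Lsl_af (LP (LK LD1_c12 LD2_c53 LD3_c16)) = v38625 :=
  Lgr Lrot50 (Lpr_et (f495960 IH) (Lpr_at (f780883 IH) (Lpqs (K66.f853283 IH) (Lpr_et (f903320 IH) (Lpn v38625)))))
theorem f700635 : Led Lsl_ft (LP (LK LD1_c17 LD2_c6 LD3_c21)) = (LP (LK LD1_c9 LD2_c12 LD3_c16)) :=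
  Lre_f IH (LK LD1_c17 LD2_c6 LD3_c21) (LK LD1_c9 LD2_c12 LD3_c16) Lrfl Lrfl
theorem f753423 : Led Lsl_af (LP (LK LD1_c17 LD2_c6 LD3_c21)) = (LP (LK LD1_c18 LD2_c22 LD3_c32)) :=
  Lgr Lrot45 (Lpr_ft (f700635 IH) (Lpr_at (K55.f700696 IH) (Lpr_ft (K56.f753419 IH) (Lpn (LP (LK LD1_c18 LD2_c22 LD3_c32))))))
theorem f753427 : Led Lsl_gt (LP (LK LD1_c17 LD2_c6 LD3_c16)) = (LP (LK LD1_c12 LD2_c53 LD3_c16)) :=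
  Lgr Lrot5 (Lpr_ft (K56.f753419 IH) (Lpe (f753423 IH) (Lpe (K55.f746964 IH) (Lpn (LP (LK LD1_c12 LD2_c53 LD3_c16))))))
theorem f903327 : Led Lsl_gt (LP (LK LD1_c11 LD2_c49 LD3_c52)) = (LP (LK LD1_c17 LD2_c6 LD3_c16)) :=
  Lgr Lrot5 (Lpr_ft (f903326 IH) (Lpe (f903321 IH) (Lpe (f753427 IH) (Lpn (LP (LK LD1_c17 LD2_c6 LD3_c16))))))
theorem f903328 : Led Lsl_gt (LP (LK LD1_c11 LD2_c49 LD3_c52)) = (LP (LK LD1_c17 LD2_c6 LD3_c16)) :=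
  Leop (Lpe (f903327 IH) (Lpn (LP (LK LD1_c11 LD2_c49 LD3_c52))))
theorem seed_2255 : LEOK LG_g (LK LD1_c11 LD2_c49 LD3_c52) :=
  Leoe_g (LK LD1_c11 LD2_c49 LD3_c52) (f903328 IH)
def v38644 : LQ := Led Lsl_bt (LP (LK LD1_c9 LD2_c13 LD3_c53))
theorem f903474 : Led Lsl_bt (LP (LK LD1_c9 LD2_c13 LD3_c53)) = v38644 :=
  Lrfl
theorem f714239 : Led Lsl_ef (LP (LK LD1_c9 LD2_c13 LD3_c53)) = (LP (LK LD1_c5 LD2_c42 LD3_c58)) :=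
  Lgr Lrot88 (Lpr_et (f714234 IH) (Lpn (LP (LK LD1_c5 LD2_c42 LD3_c58))))
theorem f281550 : Led Lsl_bt (LP (LK LD1_c11 LD2_c16 LD3_c11)) = (LP (LK LD1_c5 LD2_c42 LD3_c58)) :=
  Lre_b IH (LK LD1_c11 LD2_c16 LD3_c11) (LK LD1_c5 LD2_c42 LD3_c58) Lrfl Lrfl
theorem f903476 : Led Lsl_ef (LP (LK LD1_c11 LD2_c16 LD3_c11)) = v38644 :=
  Lgr Lrot29 (Lpr_bt (f281550 IH) (Lpe (f714239 IH) (Lpr_bt (f903474 IH) (Lpn v38644))))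
theorem f747940 : Led Lsl_ff (LP (LK LD1_c6 LD2_c3 LD3_c14)) = (LP (LK LD1_c9 LD2_c13 LD3_c53)) :=
  Lgr Lrot19 (Lpr_dt (K52.f710943 IH) (Lpr_ft (K56.f747936 IH) (Lpe (K52.f714217 IH) (Lpn (LP (LK LD1_c9 LD2_c13 LD3_c53))))))
theorem f747900 : Led Lsl_at (LP (LK LD1_c6 LD2_c3 LD3_c14)) = (LP (LK LD1_c9 LD2_c13 LD3_c52)) :=
  Lgr Lrot51 (Lpr_df (K52.f710940 IH) (Lpr_af (K56.f747892 IH) (Lpe (f714352 IH) (Lpn (LP (LK LD1_c9 LD2_c13 LD3_c52))))))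
theorem f747906 : Led Lsl_ff (LP (LK LD1_c6 LD2_c3 LD3_c13)) = (LP (LK LD1_c9 LD2_c13 LD3_c52)) :=
  Lgr Lrot19 (Lpr_dt (K55.f645645 IH) (Lpr_ft (K56.f747902 IH) (Lpe (K55.f714354 IH) (Lpn (LP (LK LD1_c9 LD2_c13 LD3_c52))))))
theorem f747950 : Led Lsl_at (LP (LK LD1_c6 LD2_c3 LD3_c13)) = (LP (LK LD1_c9 LD2_c13 LD3_c53)) :=
  Lgr Lrot66 (Lpr_ff (f747906 IH) (Lpe (f747900 IH) (Lpr_ff (f747940 IH) (Lpn (LP (LK LD1_c9 LD2_c13 LD3_c53))))))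
theorem f714571 : Led Lsl_et (LP (LK LD1_c11 LD2_c15 LD3_c24)) = (LP (LK LD1_c6 LD2_c3 LD3_c13)) :=
  Lgr Lrot87 (Lpr_ef (f714567 IH) (Lpn (LP (LK LD1_c6 LD2_c3 LD3_c13))))
def v15587 : LQ := Led Lsl_ft (LP (LK LD1_c5 LD2_c42 LD3_c57))
theorem f738154 : Led Lsl_ft (LP (LK LD1_c5 LD2_c42 LD3_c57)) = v15587 :=
  Lrfl
theorem f738156 : Led Lsl_ff (LP (LK LD1_c5 LD2_c42 LD3_c57)) = v15587 :=
  Lgr Lrot3 (Lpr_ft (f738154 IH) (Lpn v15587))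
def v15583 : LQ := Led Lsl_at (LP (LK LD1_c5 LD2_c42 LD3_c57))
theorem f738141 : Led Lsl_at (LP (LK LD1_c5 LD2_c42 LD3_c57)) = v15583 :=
  Lrfl
theorem f738142 : Led Lsl_af (LP (LK LD1_c5 LD2_c42 LD3_c57)) = v15583 :=
  Lgr Lrot0 (Lpr_at (f738141 IH) (Lpn v15583))
theorem f280948 : Led Lsl_gt (LP (LK LD1_c2 LD2_c47 LD3_c26)) = (LP (LK LD1_c5 LD2_c42 LD3_c57)) :=
  Lre_g IH (LK LD1_c2 LD2_c47 LD3_c26) (LK LD1_c5 LD2_c42 LD3_c57) Lrfl Lrfl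
theorem f738143 : Led Lsl_ft (LP (LK LD1_c5 LD2_c42 LD3_c58)) = v15583 :=
  Lgr Lrot2 (Lpr_gt (f281549 IH) (Lpr_gt (f280948 IH) (Lpr_af (f738142 IH) (Lpn v15583))))
theorem f738145 : Led Lsl_ff (LP (LK LD1_c5 LD2_c42 LD3_c58)) = v15583 :=
  Lgr Lrot3 (Lpr_ft (f738143 IH) (Lpn v15583))
theorem f738157 : Led Lsl_at (LP (LK LD1_c5 LD2_c42 LD3_c58)) = v15587 :=
  Lgr Lrot66 (Lpr_ff (f738145 IH) (Lpe (f738141 IH) (Lpr_ff (f738156 IH) (Lpn v15587))))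
theorem f747966 : (LP (LK LD1_c11 LD2_c15 LD3_c24)) = v15587 :=
  (Llr Lrot20 (Lpr_et (f714571 IH) (Lpr_at (f747950 IH) (Lpr_et (f714234 IH) (Lpr_at (f738157 IH) (Lpn v15587)))))).symm
def v15584 : LQ := Led Lsl_bt (LP (LK LD1_c5 LD2_c42 LD3_c57))
theorem f738146 : Led Lsl_bt (LP (LK LD1_c5 LD2_c42 LD3_c57)) = v15584 :=
  Lrfl
theorem f738147 : Led Lsl_bf (LP (LK LD1_c5 LD2_c42 LD3_c57)) = v15584 :=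
  Lgr Lrot24 (Lpr_bt (f738146 IH) (Lpn v15584))
theorem f902158 : (LP (LK LD1_c11 LD2_c15 LD3_c3)) = v15584 :=
  (Llr Lrot75 (Lpr_ff (f747777 IH) (Lpr_bf (f902152 IH) (Lpqs (f747966 IH) (Lpe (f738154 IH) (Lpr_bf (f738147 IH) (Lpn v15584))))))).symm
theorem f747621 : Led Lsl_ff (LP (LK LD1_c5 LD2_c56 LD3_c51)) = (LP (LK LD1_c11 LD2_c36 LD3_c61)) :=
  Lgr Lrot3 (Lpr_ft (K55.f747614 IH) (Lpn (LP (LK LD1_c11 LD2_c36 LD3_c61))))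
theorem f745004 : Led Lsl_bt (LP (LK LD1_c5 LD2_c56 LD3_c51)) = (LP (LK LD1_c11 LD2_c38 LD3_c54)) :=
  Lre_b IH (LK LD1_c5 LD2_c56 LD3_c51) (LK LD1_c11 LD2_c38 LD3_c54) Lrfl Lrfl
theorem f747624 : Led Lsl_ft (LP (LK LD1_c11 LD2_c38 LD3_c54)) = (LP (LK LD1_c17 LD2_c3 LD3_c34)) :=
  Lgr Lrot75 (Lpe (f745004 IH) (Lpr_ff (f747621 IH) (Lpr_bf (K67.f616392 IH) (Lpn (LP (LK LD1_c17 LD2_c3 LD3_c34))))))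
theorem f747702 : Led Lsl_af (LP (LK LD1_c11 LD2_c51 LD3_c17)) = (LP (LK LD1_c17 LD2_c3 LD3_c34)) :=
  Lgr Lrot45 (Lpr_ft (K67.f747700 IH) (Lpe (K67.f747650 IH) (Lpr_ft (f747624 IH) (Lpn (LP (LK LD1_c17 LD2_c3 LD3_c34))))))
theorem f710992 : Led Lsl_bt (LP (LK LD1_c11 LD2_c39 LD3_c2)) = (LP (LK LD1_c5 LD2_c56 LD3_c55)) :=
  Lre_b IH (LK LD1_c11 LD2_c39 LD3_c2) (LK LD1_c5 LD2_c56 LD3_c55) Lrfl Lrfl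
theorem f747706 : Led Lsl_at (LP (LK LD1_c11 LD2_c42 LD3_c13)) = (LP (LK LD1_c11 LD2_c39 LD3_c2)) :=
  Lgr Lrot67 (Lpr_bf (K67.f744995 IH) (Lpr_af (f747702 IH) (Lpe (K67.f616390 IH) (Lpe (K55.f747593 IH) (Lpe (f710992 IH) (Lpn (LP (LK LD1_c11 LD2_c39 LD3_c2))))))))
theorem f557471 : Led Lsl_dt (LP (LK LD1_c2 LD2_c56 LD3_c57)) = (LP (LK LD1_c5 LD2_c49 LD3_c52)) :=
  Lgr Lrot42 (Lpr_df (K40.f557463 IH) (Lpn (LP (LK LD1_c5 LD2_c49 LD3_c52))))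
theorem f557473 : Led Lsl_et (LP (LK LD1_c2 LD2_c56 LD3_c57)) = (LP (LK LD1_c6 LD2_c1 LD3_c35)) :=
  Lre_e IH (LK LD1_c2 LD2_c56 LD3_c57) (LK LD1_c6 LD2_c1 LD3_c35) Lrfl Lrfl
theorem f562573 : Led Lsl_gt (LP (LK LD1_c6 LD2_c1 LD3_c35)) = (LP (LK LD1_c11 LD2_c47 LD3_c49)) :=
  Lre_g IH (LK LD1_c6 LD2_c1 LD3_c35) (LK LD1_c11 LD2_c47 LD3_c49) Lrfl Lrfl
theorem f150389 : Led Lsl_gt (LP (LK LD1_c5 LD2_c58 LD3_c54)) = (LP (LK LD1_c2 LD2_c55 LD3_c52)) :=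
  Lre_g IH (LK LD1_c5 LD2_c58 LD3_c54) (LK LD1_c2 LD2_c55 LD3_c52) Lrfl Lrfl
theorem f562574 : Led Lsl_ef (LP (LK LD1_c11 LD2_c47 LD3_c49)) = (LP (LK LD1_c11 LD2_c42 LD3_c13)) :=
  Lgr Lrot17 (Lpe (f562573 IH) (Lpe (f557473 IH) (Lpr_dt (f557471 IH) (Lpe (K43.f562562 IH) (Lpr_df (K40.f562564 IH) (Lpe (K40.f428275 IH) (Lpe (K40.f428333 IH) (Lpr_dt (K50.f427043 IH) (Lpe (f150389 IH) (Lpe (K67.f539478 IH) (Lpn (LP (LK LD1_c11 LD2_c42 LD3_c13)))))))))))))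
theorem f562590 : Led Lsl_et (LP (LK LD1_c11 LD2_c47 LD3_c49)) = (LP (LK LD1_c11 LD2_c42 LD3_c13)) :=
  Lgr Lrot87 (Lpr_ef (f562574 IH) (Lpn (LP (LK LD1_c11 LD2_c42 LD3_c13))))
theorem f500924 : Led Lsl_et (LP (LK LD1_c6 LD2_c1 LD3_c30)) = (LP (LK LD1_c2 LD2_c56 LD3_c55)) :=
  Lre_e IH (LK LD1_c6 LD2_c1 LD3_c30) (LK LD1_c2 LD2_c56 LD3_c55) Lrfl Lrfl
theorem f383559 : Led Lsl_bt (LP (LK LD1_c11 LD2_c18 LD3_c29)) = (LP (LK LD1_c5 LD2_c44 LD3_c20)) :=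
  Lre_b IH (LK LD1_c11 LD2_c18 LD3_c29) (LK LD1_c5 LD2_c44 LD3_c20) Lrfl Lrfl
theorem f562471 : Led Lsl_ef (LP (LK LD1_c11 LD2_c18 LD3_c29)) = (LP (LK LD1_c5 LD2_c45 LD3_c4)) :=
  Lgr Lrot29 (Lpr_bt (f383559 IH) (Lpr_et (K40.f562468 IH) (Lpe (K40.f562447 IH) (Lpn (LP (LK LD1_c5 LD2_c45 LD3_c4))))))
theorem f616322 : Led Lsl_gt (LP (LK LD1_c11 LD2_c18 LD3_c29)) = (LP (LK LD1_c20 LD2_c14 LD3_c59)) :=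
  Lre_g IH (LK LD1_c11 LD2_c18 LD3_c29) (LK LD1_c20 LD2_c14 LD3_c59) Lrfl Lrfl
theorem f642322 : Led Lsl_dt (LP (LK LD1_c11 LD2_c39 LD3_c2)) = (LP (LK LD1_c5 LD2_c56 LD3_c53)) :=
  Lre_d IH (LK LD1_c11 LD2_c39 LD3_c2) (LK LD1_c5 LD2_c56 LD3_c53) Lrfl Lrfl
theorem f710985 : Led Lsl_ef (LP (LK LD1_c20 LD2_c14 LD3_c59)) = (LP (LK LD1_c11 LD2_c39 LD3_c2)) :=
  Lgr Lrot17 (Lpe (f616322 IH) (Lpr_ef (f562471 IH) (Lpr_dt (K39.f442636 IH) (Lpr_gf (K39.f556078 IH) (Lpe (K41.f563127 IH) (Lpr_gf (K40.f545454 IH) (Lpe (f500924 IH) (Lpe (K45.f539486 IH) (Lpr_gf (K52.f710979 IH) (Lpe (f642322 IH) (Lpn (LP (LK LD1_c11 LD2_c39 LD3_c2)))))))))))))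
theorem f747708 : Led Lsl_af (LP (LK LD1_c11 LD2_c47 LD3_c49)) = (LP (LK LD1_c20 LD2_c14 LD3_c59)) :=
  Lgr Lrot50 (Lpr_et (f562590 IH) (Lpr_at (f747706 IH) (Lpe (f710985 IH) (Lpn (LP (LK LD1_c20 LD2_c14 LD3_c59))))))
theorem f597237 : Led Lsl_gt (LP (LK LD1_c11 LD2_c47 LD3_c50)) = (LP (LK LD1_c6 LD2_c1 LD3_c35)) :=
  Lre_g IH (LK LD1_c11 LD2_c47 LD3_c50) (LK LD1_c6 LD2_c1 LD3_c35) Lrfl Lrfl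
theorem f747714 : Led Lsl_ft (LP (LK LD1_c11 LD2_c47 LD3_c50)) = (LP (LK LD1_c20 LD2_c14 LD3_c59)) :=
  Lgr Lrot2 (Lpr_gt (f597237 IH) (Lpr_gt (f562573 IH) (Lpr_af (f747708 IH) (Lpn (LP (LK LD1_c20 LD2_c14 LD3_c59))))))
theorem f500917 : Led Lsl_ct (LP (LK LD1_c2 LD2_c56 LD3_c57)) = (LP (LK LD1_c6 LD2_c1 LD3_c34)) :=
  Lre_c IH (LK LD1_c2 LD2_c56 LD3_c57) (LK LD1_c6 LD2_c1 LD3_c34) Lrfl Lrfl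
theorem f596900 : Led Lsl_at (LP (LK LD1_c5 LD2_c45 LD3_c4)) = (LP (LK LD1_c2 LD2_c56 LD3_c57)) :=
  Lgr Lrot107 (Lpe (K41.f442640 IH) (Lpr_af (K50.f596882 IH) (Lpe (f500917 IH) (Lpn (LP (LK LD1_c2 LD2_c56 LD3_c57))))))
theorem f597218 : Led Lsl_af (LP (LK LD1_c11 LD2_c18 LD3_c29)) = (LP (LK LD1_c6 LD2_c1 LD3_c35)) :=
  Lgr Lrot50 (Lpe (K40.f556094 IH) (Lpr_at (f596900 IH) (Lpr_et (f557473 IH) (Lpn (LP (LK LD1_c6 LD2_c1 LD3_c35))))))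
theorem f597227 : Led Lsl_dt (LP (LK LD1_c11 LD2_c18 LD3_c29)) = (LP (LK LD1_c5 LD2_c44 LD3_c12)) :=
  Lre_d IH (LK LD1_c11 LD2_c18 LD3_c29) (LK LD1_c5 LD2_c44 LD3_c12) Lrfl Lrfl
theorem f383537 : Led Lsl_at (LP (LK LD1_c5 LD2_c44 LD3_c12)) = (LP (LK LD1_c11 LD2_c18 LD3_c26)) :=
  Lre_a IH (LK LD1_c5 LD2_c44 LD3_c12) (LK LD1_c11 LD2_c18 LD3_c26) Lrfl Lrfl
theorem f597228 : Led Lsl_dt (LP (LK LD1_c11 LD2_c18 LD3_c26)) = (LP (LK LD1_c6 LD2_c1 LD3_c35)) :=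
  Lgr Lrot44 (Lpe (f383537 IH) (Lpe (f597227 IH) (Lpr_af (f597218 IH) (Lpn (LP (LK LD1_c6 LD2_c1 LD3_c35))))))
theorem f384168 : Led Lsl_et (LP (LK LD1_c11 LD2_c18 LD3_c26)) = (LP (LK LD1_c5 LD2_c44 LD3_c10)) :=
  Lre_e IH (LK LD1_c11 LD2_c18 LD3_c26) (LK LD1_c5 LD2_c44 LD3_c10) Lrfl Lrfl
theorem f381495 : Led Lsl_dt (LP (LK LD1_c5 LD2_c43 LD3_c18)) = (LP (LK LD1_c2 LD2_c47 LD3_c40)) :=
  Lre_d IH (LK LD1_c5 LD2_c43 LD3_c18) (LK LD1_c2 LD2_c47 LD3_c40) Lrfl Lrfl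
theorem f556051 : Led Lsl_gt (LP (LK LD1_c5 LD2_c44 LD3_c10)) = (LP (LK LD1_c5 LD2_c43 LD3_c18)) :=
  Lgr Lrot49 (Lpe (K28.f384169 IH) (Lpr_gf (K36.f542632 IH) (Lpr_cf (K2.f72947 IH) (Lpr_gt (K35.f541659 IH) (Lpe (K38.f427671 IH) (Lpr_gt (K39.f556049 IH) (Lpr_dt (K39.f536098 IH) (Lpe (K35.f536096 IH) (Lpe (f381495 IH) (Lpn (LP (LK LD1_c5 LD2_c43 LD3_c18))))))))))))
theorem f381803 : Led Lsl_et (LP (LK LD1_c2 LD2_c47 LD3_c54)) = (LP (LK LD1_c5 LD2_c43 LD3_c46)) :=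
  Lre_e IH (LK LD1_c2 LD2_c47 LD3_c54) (LK LD1_c5 LD2_c43 LD3_c46) Lrfl Lrfl
theorem f381482 : Led Lsl_gt (LP (LK LD1_c5 LD2_c43 LD3_c46)) = (LP (LK LD1_c11 LD2_c17 LD3_c30)) :=
  Lre_g IH (LK LD1_c5 LD2_c43 LD3_c46) (LK LD1_c11 LD2_c17 LD3_c30) Lrfl Lrfl
theorem f542615 : Led Lsl_et (LP (LK LD1_c20 LD2_c13 LD3_c40)) = (LP (LK LD1_c11 LD2_c17 LD3_c30)) :=
  Lre_e IH (LK LD1_c20 LD2_c13 LD3_c40) (LK LD1_c11 LD2_c17 LD3_c30) Lrfl Lrfl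
theorem f597238 : Led Lsl_dt (LP (LK LD1_c20 LD2_c13 LD3_c40)) = (LP (LK LD1_c11 LD2_c47 LD3_c50)) :=
  Lgr Lrot136 (Lpr_et (f542615 IH) (Lpe (f381482 IH) (Lpe (f381803 IH) (Lpr_dt (K55.f381202 IH) (Lpe (K35.f168873 IH) (Lpe (f381495 IH) (Lpe (f556051 IH) (Lpe (f384168 IH) (Lpr_dt (f597228 IH) (Lpe (f597237 IH) (Lpn (LP (LK LD1_c11 LD2_c47 LD3_c50)))))))))))))
theorem f424620 : Led Lsl_et (LP (LK LD1_c2 LD2_c55 LD3_c7)) = (LP (LK LD1_c5 LD2_c57 LD3_c36)) :=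
  Lre_e IH (LK LD1_c2 LD2_c55 LD3_c7) (LK LD1_c5 LD2_c57 LD3_c36) Lrfl Lrfl
theorem f426012 : Led Lsl_et (LP (LK LD1_c2 LD2_c55 LD3_c22)) = (LP (LK LD1_c5 LD2_c58 LD3_c1)) :=
  Lre_e IH (LK LD1_c2 LD2_c55 LD3_c22) (LK LD1_c5 LD2_c58 LD3_c1) Lrfl Lrfl
theorem f642324 : Led Lsl_et (LP (LK LD1_c11 LD2_c39 LD3_c3)) = (LP (LK LD1_c5 LD2_c56 LD3_c53)) :=
  Lre_e IH (LK LD1_c11 LD2_c39 LD3_c3) (LK LD1_c5 LD2_c56 LD3_c53) Lrfl Lrfl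
theorem f140181 : Led Lsl_dt (LP (LK LD1_c2 LD2_c56 LD3_c46)) = (LP (LK LD1_c6 LD2_c1 LD3_c3)) :=
  Lre_d IH (LK LD1_c2 LD2_c56 LD3_c46) (LK LD1_c6 LD2_c1 LD3_c3) Lrfl Lrfl
theorem f641513 : Led Lsl_gt (LP (LK LD1_c6 LD2_c1 LD3_c3)) = (LP (LK LD1_c11 LD2_c46 LD3_c42)) :=
  Lre_g IH (LK LD1_c6 LD2_c1 LD3_c3) (LK LD1_c11 LD2_c46 LD3_c42) Lrfl Lrfl
theorem f714043 : Led Lsl_dt (LP (LK LD1_c11 LD2_c39 LD3_c3)) = (LP (LK LD1_c11 LD2_c46 LD3_c42)) :=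
  Lgr Lrot56 (Lpr_et (f642324 IH) (Lpe (K52.f710979 IH) (Lpe (f426012 IH) (Lpr_dt (K32.f426080 IH) (Lpr_gt (K40.f426067 IH) (Lpe (K28.f137615 IH) (Lpr_et (f424620 IH) (Lpqs (K52.f713988 IH) (Lpe (K52.f641512 IH) (Lpr_dt (f140181 IH) (Lpr_gt (f641513 IH) (Lpn (LP (LK LD1_c11 LD2_c46 LD3_c42))))))))))))))
theorem f642341 : Led Lsl_et (LP (LK LD1_c5 LD2_c56 LD3_c53)) = (LP (LK LD1_c11 LD2_c39 LD3_c3)) :=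
  Lre_e IH (LK LD1_c5 LD2_c56 LD3_c53) (LK LD1_c11 LD2_c39 LD3_c3) Lrfl Lrfl
theorem f710990 : Led Lsl_et (LP (LK LD1_c20 LD2_c14 LD3_c59)) = (LP (LK LD1_c11 LD2_c39 LD3_c2)) :=
  Lgr Lrot87 (Lpr_ef (f710985 IH) (Lpn (LP (LK LD1_c11 LD2_c39 LD3_c2))))
theorem f714049 : Led Lsl_et (LP (LK LD1_c11 LD2_c46 LD3_c42)) = (LP (LK LD1_c20 LD2_c48 LD3_c41)) :=
  Lre_e IH (LK LD1_c11 LD2_c46 LD3_c42) (LK LD1_c20 LD2_c48 LD3_c41) Lrfl Lrfl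
theorem f714050 : Led Lsl_df (LP (LK LD1_c20 LD2_c14 LD3_c59)) = (LP (LK LD1_c20 LD2_c48 LD3_c41)) :=
  Lgr Lrot70 (Lpr_et (f710990 IH) (Lpr_dt (f642322 IH) (Lpr_et (f642341 IH) (Lpr_dt (f714043 IH) (Lpr_et (f714049 IH) (Lpn (LP (LK LD1_c20 LD2_c48 LD3_c41))))))))
theorem f714058 : Led Lsl_dt (LP (LK LD1_c20 LD2_c14 LD3_c59)) = (LP (LK LD1_c20 LD2_c48 LD3_c41)) :=
  Lgr Lrot42 (Lpr_df (f714050 IH) (Lpn (LP (LK LD1_c20 LD2_c48 LD3_c41))))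
theorem f747718 : Led Lsl_ff (LP (LK LD1_c20 LD2_c13 LD3_c40)) = (LP (LK LD1_c20 LD2_c48 LD3_c41)) :=
  Lgr Lrot19 (Lpr_dt (f597238 IH) (Lpr_ft (f747714 IH) (Lpr_dt (f714058 IH) (Lpn (LP (LK LD1_c20 LD2_c48 LD3_c41))))))
theorem f562576 : Led Lsl_dt (LP (LK LD1_c11 LD2_c47 LD3_c49)) = (LP (LK LD1_c20 LD2_c50 LD3_c9)) :=
  Lre_d IH (LK LD1_c11 LD2_c47 LD3_c49) (LK LD1_c20 LD2_c50 LD3_c9) Lrfl Lrfl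
theorem f747712 : Led Lsl_at (LP (LK LD1_c20 LD2_c50 LD3_c9)) = (LP (LK LD1_c20 LD2_c48 LD3_c41)) :=
  Lgr Lrot51 (Lpe (f562576 IH) (Lpr_af (f747708 IH) (Lpr_df (f714050 IH) (Lpn (LP (LK LD1_c20 LD2_c48 LD3_c41))))))
theorem f745012 : Led Lsl_bt (LP (LK LD1_c11 LD2_c47 LD3_c49)) = (LP (LK LD1_c6 LD2_c3 LD3_c52)) :=
  Lgr Lrot119 (Lpr_ef (f562574 IH) (Lpr_bf (K67.f744995 IH) (Lpe (K67.f494563 IH) (Lpn (LP (LK LD1_c6 LD2_c3 LD3_c52))))))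
theorem f562595 : Led Lsl_dt (LP (LK LD1_c20 LD2_c50 LD3_c9)) = (LP (LK LD1_c11 LD2_c47 LD3_c49)) :=
  Lre_d IH (LK LD1_c20 LD2_c50 LD3_c9) (LK LD1_c11 LD2_c47 LD3_c49) Lrfl Lrfl
theorem f745016 : Led Lsl_bf (LP (LK LD1_c20 LD2_c50 LD3_c9)) = (LP (LK LD1_c11 LD2_c51 LD3_c16)) :=
  Lgr Lrot93 (Lpr_dt (f562595 IH) (Lpr_bt (f745012 IH) (Lpr_dt (K50.f175402 IH) (Lpn (LP (LK LD1_c11 LD2_c51 LD3_c16))))))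
theorem f745018 : Led Lsl_bt (LP (LK LD1_c20 LD2_c50 LD3_c9)) = (LP (LK LD1_c11 LD2_c51 LD3_c16)) :=
  Lgr Lrot127 (Lpr_bf (f745016 IH) (Lpn (LP (LK LD1_c11 LD2_c51 LD3_c16))))
theorem f699817 : Led Lsl_bt (LP (LK LD1_c12 LD2_c4 LD3_c5)) = (LP (LK LD1_c21 LD2_c9 LD3_c38)) :=
  Lre_b IH (LK LD1_c12 LD2_c4 LD3_c5) (LK LD1_c21 LD2_c9 LD3_c38) Lrfl Lrfl
theorem f747694 : Led Lsl_ff (LP (LK LD1_c20 LD2_c50 LD3_c9)) = (LP (LK LD1_c21 LD2_c9 LD3_c38)) :=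
  Lgr Lrot25 (Lpr_bt (f745018 IH) (Lpr_ft (K67.f747692 IH) (Lpr_bt (f699817 IH) (Lpn (LP (LK LD1_c21 LD2_c9 LD3_c38))))))
theorem f747724 : Led Lsl_at (LP (LK LD1_c20 LD2_c13 LD3_c40)) = (LP (LK LD1_c21 LD2_c9 LD3_c38)) :=
  Lgr Lrot66 (Lpr_ff (f747718 IH) (Lpe (f747712 IH) (Lpr_ff (f747694 IH) (Lpn (LP (LK LD1_c21 LD2_c9 LD3_c38))))))
theorem f747726 : Led Lsl_af (LP (LK LD1_c20 LD2_c13 LD3_c40)) = (LP (LK LD1_c21 LD2_c9 LD3_c38)) :=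
  Lgr Lrot0 (Lpr_at (f747724 IH) (Lpn (LP (LK LD1_c21 LD2_c9 LD3_c38))))
theorem f445874 : Led Lsl_bt (LP (LK LD1_c21 LD2_c9 LD3_c38)) = (LP (LK LD1_c12 LD2_c4 LD3_c5)) :=
  Lre_b IH (LK LD1_c21 LD2_c9 LD3_c38) (LK LD1_c12 LD2_c4 LD3_c5) Lrfl Lrfl
theorem f699806 : Led Lsl_bt (LP (LK LD1_c9 LD2_c14 LD3_c31)) = (LP (LK LD1_c17 LD2_c8 LD3_c50)) :=
  Lre_b IH (LK LD1_c9 LD2_c14 LD3_c31) (LK LD1_c17 LD2_c8 LD3_c50) Lrfl Lrfl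
theorem f699807 : Led Lsl_df (LP (LK LD1_c21 LD2_c9 LD3_c38)) = (LP (LK LD1_c17 LD2_c8 LD3_c50)) :=
  Lgr Lrot12 (Lpr_bt (f445874 IH) (Lpr_dt (K67.f699804 IH) (Lpr_bt (f699806 IH) (Lpn (LP (LK LD1_c17 LD2_c8 LD3_c50))))))
theorem f747728 : Led Lsl_at (LP (LK LD1_c11 LD2_c47 LD3_c50)) = (LP (LK LD1_c17 LD2_c8 LD3_c50)) :=
  Lgr Lrot51 (Lpe (f597238 IH) (Lpr_af (f747726 IH) (Lpr_df (f699807 IH) (Lpn (LP (LK LD1_c17 LD2_c8 LD3_c50))))))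
theorem f747720 : Led Lsl_ff (LP (LK LD1_c11 LD2_c47 LD3_c50)) = (LP (LK LD1_c20 LD2_c14 LD3_c59)) :=
  Lgr Lrot3 (Lpr_ft (f747714 IH) (Lpn (LP (LK LD1_c20 LD2_c14 LD3_c59))))
theorem f747710 : Led Lsl_at (LP (LK LD1_c11 LD2_c47 LD3_c49)) = (LP (LK LD1_c20 LD2_c14 LD3_c59)) :=
  Lgr Lrot100 (Lpr_af (f747708 IH) (Lpn (LP (LK LD1_c20 LD2_c14 LD3_c59))))
theorem f747732 : Led Lsl_ff (LP (LK LD1_c11 LD2_c47 LD3_c49)) = (LP (LK LD1_c17 LD2_c8 LD3_c50)) :=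
  Lgr Lrot30 (Lpr_at (f747710 IH) (Lpe (f747720 IH) (Lpr_at (f747728 IH) (Lpn (LP (LK LD1_c17 LD2_c8 LD3_c50))))))
theorem f747734 : Led Lsl_gf (LP (LK LD1_c11 LD2_c18 LD3_c29)) = (LP (LK LD1_c17 LD2_c8 LD3_c50)) :=
  Lgr Lrot47 (Lpr_gt (f616322 IH) (Lpe (f747710 IH) (Lpr_ff (f747732 IH) (Lpn (LP (LK LD1_c17 LD2_c8 LD3_c50))))))
theorem f384109 : Led Lsl_et (LP (LK LD1_c5 LD2_c44 LD3_c12)) = (LP (LK LD1_c2 LD2_c48 LD3_c3)) :=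
  Lre_e IH (LK LD1_c5 LD2_c44 LD3_c12) (LK LD1_c2 LD2_c48 LD3_c3) Lrfl Lrfl
theorem f381894 : Led Lsl_et (LP (LK LD1_c5 LD2_c43 LD3_c25)) = (LP (LK LD1_c11 LD2_c16 LD3_c54)) :=
  Lre_e IH (LK LD1_c5 LD2_c43 LD3_c25) (LK LD1_c11 LD2_c16 LD3_c54) Lrfl Lrfl
theorem f381870 : Led Lsl_gt (LP (LK LD1_c11 LD2_c16 LD3_c54)) = (LP (LK LD1_c20 LD2_c12 LD3_c47)) :=
  Lre_g IH (LK LD1_c11 LD2_c16 LD3_c54) (LK LD1_c20 LD2_c12 LD3_c47) Lrfl Lrfl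
theorem f23972 : Led Lsl_bt (LP (LK LD1_c17 LD2_c8 LD3_c50)) = (LP (LK LD1_c9 LD2_c14 LD3_c31)) :=
  Lre_b IH (LK LD1_c17 LD2_c8 LD3_c50) (LK LD1_c9 LD2_c14 LD3_c31) Lrfl Lrfl
theorem f699818 : Led Lsl_dt (LP (LK LD1_c21 LD2_c9 LD3_c38)) = (LP (LK LD1_c17 LD2_c8 LD3_c50)) :=
  Lgr Lrot79 (Lpe (f699817 IH) (Lpr_df (K67.f699809 IH) (Lpe (f23972 IH) (Lpn (LP (LK LD1_c17 LD2_c8 LD3_c50))))))
theorem f747738 : Led Lsl_ef (LP (LK LD1_c20 LD2_c12 LD3_c47)) = (LP (LK LD1_c21 LD2_c9 LD3_c38)) :=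
  Lgr Lrot17 (Lpe (f381870 IH) (Lpe (f381894 IH) (Lpr_dt (K36.f381682 IH) (Lpr_gf (K37.f423995 IH) (Lpe (K39.f172449 IH) (Lpe (K39.f424042 IH) (Lpe (f384109 IH) (Lpr_dt (K40.f424044 IH) (Lpr_gf (f747734 IH) (Lpe (f699818 IH) (Lpn (LP (LK LD1_c21 LD2_c9 LD3_c38)))))))))))))
theorem f747744 : Led Lsl_et (LP (LK LD1_c20 LD2_c12 LD3_c47)) = (LP (LK LD1_c21 LD2_c9 LD3_c38)) :=
  Lgr Lrot87 (Lpr_ef (f747738 IH) (Lpn (LP (LK LD1_c21 LD2_c9 LD3_c38))))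
theorem f747748 : Led Lsl_bf (LP (LK LD1_c20 LD2_c12 LD3_c47)) = (LP (LK LD1_c11 LD2_c24 LD3_c1)) :=
  Lgr Lrot96 (Lpr_et (f747744 IH) (Lpr_bt (f445874 IH) (Lpr_et (f699811 IH) (Lpn (LP (LK LD1_c11 LD2_c24 LD3_c1))))))
theorem f597243 : Led Lsl_et (LP (LK LD1_c11 LD2_c17 LD3_c30)) = (LP (LK LD1_c20 LD2_c13 LD3_c40)) :=
  Lre_e IH (LK LD1_c11 LD2_c17 LD3_c30) (LK LD1_c20 LD2_c13 LD3_c40) Lrfl Lrfl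
theorem f747740 : Led Lsl_at (LP (LK LD1_c20 LD2_c12 LD3_c47)) = (LP (LK LD1_c11 LD2_c17 LD3_c30)) :=
  Lgr Lrot80 (Lpr_ef (f747738 IH) (Lpe (f747724 IH) (Lpe (f597243 IH) (Lpn (LP (LK LD1_c11 LD2_c17 LD3_c30))))))
theorem f902167 : Led Lsl_bf v15583 = (LP (LK LD1_c11 LD2_c17 LD3_c30)) :=
  Lgr Lrot81 (Lpe (f738142 IH) (Lpr_bt (f738146 IH) (Lpq (f902158 IH) (Lpr_at (f747763 IH) (Lpe (f747748 IH) (Lpr_at (f747740 IH) (Lpn (LP (LK LD1_c11 LD2_c17 LD3_c30)))))))))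
theorem f714236 : Led Lsl_bt (LP (LK LD1_c5 LD2_c42 LD3_c58)) = (LP (LK LD1_c11 LD2_c16 LD3_c11)) :=
  Lre_b IH (LK LD1_c5 LD2_c42 LD3_c58) (LK LD1_c11 LD2_c16 LD3_c11) Lrfl Lrfl
theorem f902171 : Led Lsl_ft (LP (LK LD1_c11 LD2_c16 LD3_c11)) = (LP (LK LD1_c11 LD2_c17 LD3_c30)) :=
  Lgr Lrot75 (Lpe (f714236 IH) (Lpr_ff (f738145 IH) (Lpr_bf (f902167 IH) (Lpn (LP (LK LD1_c11 LD2_c17 LD3_c30))))))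
theorem f747746 : Led Lsl_af (LP (LK LD1_c20 LD2_c12 LD3_c47)) = (LP (LK LD1_c11 LD2_c17 LD3_c30)) :=
  Lgr Lrot50 (Lpr_et (f747744 IH) (Lpe (f747726 IH) (Lpr_et (f542615 IH) (Lpn (LP (LK LD1_c11 LD2_c17 LD3_c30))))))
theorem f902178 : Led Lsl_gt (LP (LK LD1_c11 LD2_c16 LD3_c11)) = (LP (LK LD1_c11 LD2_c16 LD3_c54)) :=
  Lgr Lrot5 (Lpr_ft (f902171 IH) (Lpe (f747746 IH) (Lpe (f381870 IH) (Lpn (LP (LK LD1_c11 LD2_c16 LD3_c54))))))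
theorem f381480 : Led Lsl_dt (LP (LK LD1_c11 LD2_c17 LD3_c32)) = (LP (LK LD1_c5 LD2_c43 LD3_c46)) :=
  Lre_d IH (LK LD1_c11 LD2_c17 LD3_c32) (LK LD1_c5 LD2_c43 LD3_c46) Lrfl Lrfl
theorem f542599 : Led Lsl_dt (LP (LK LD1_c11 LD2_c16 LD3_c54)) = (LP (LK LD1_c11 LD2_c17 LD3_c52)) :=
  Lgr Lrot44 (Lpe (K36.f381890 IH) (Lpe (f381480 IH) (Lpr_af (K36.f542583 IH) (Lpn (LP (LK LD1_c11 LD2_c17 LD3_c52))))))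
theorem f75819 : Led Lsl_dt (LP (LK LD1_c2 LD2_c56 LD3_c18)) = (LP (LK LD1_c1 LD2_c24 LD3_c1)) :=
  Lre_d IH (LK LD1_c2 LD2_c56 LD3_c18) (LK LD1_c1 LD2_c24 LD3_c1) Lrfl Lrfl
theorem f75823 : Led Lsl_dt (LP (LK LD1_c5 LD2_c59 LD3_c59)) = (LP (LK LD1_c2 LD2_c56 LD3_c17)) :=
  Lre_d IH (LK LD1_c5 LD2_c59 LD3_c59) (LK LD1_c2 LD2_c56 LD3_c17) Lrfl Lrfl
theorem f75826 : Led Lsl_et (LP (LK LD1_c5 LD2_c59 LD3_c59)) = (LP (LK LD1_c11 LD2_c44 LD3_c27)) :=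
  Lre_e IH (LK LD1_c5 LD2_c59 LD3_c59) (LK LD1_c11 LD2_c44 LD3_c27) Lrfl Lrfl
theorem f541674 : Led Lsl_dt (LP (LK LD1_c5 LD2_c43 LD3_c57)) = (LP (LK LD1_c2 LD2_c47 LD3_c60)) :=
  Lre_d IH (LK LD1_c5 LD2_c43 LD3_c57) (LK LD1_c2 LD2_c47 LD3_c60) Lrfl Lrfl
theorem f622072 : Led Lsl_gf (LP (LK LD1_c11 LD2_c44 LD3_c27)) = (LP (LK LD1_c11 LD2_c17 LD3_c52)) :=
  Lgr Lrot141 (Lpe (f75826 IH) (Lpr_dt (f75823 IH) (Lpr_gt (K48.f75822 IH) (Lpe (f75819 IH) (Lpr_et (K32.f75532 IH) (Lpr_gt (K36.f75824 IH) (Lpe (K36.f428102 IH) (Lpr_gt (K36.f541766 IH) (Lpe (f541674 IH) (Lpr_et (K36.f542601 IH) (Lpn (LP (LK LD1_c11 LD2_c17 LD3_c52)))))))))))))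
theorem f622076 : Led Lsl_dt (LP (LK LD1_c20 LD2_c45 LD3_c53)) = (LP (LK LD1_c11 LD2_c44 LD3_c27)) :=
  Lre_d IH (LK LD1_c20 LD2_c45 LD3_c53) (LK LD1_c11 LD2_c44 LD3_c27) Lrfl Lrfl
theorem f622077 : Led Lsl_et (LP (LK LD1_c20 LD2_c45 LD3_c53)) = (LP (LK LD1_c11 LD2_c44 LD3_c28)) :=
  Lre_e IH (LK LD1_c20 LD2_c45 LD3_c53) (LK LD1_c11 LD2_c44 LD3_c28) Lrfl Lrfl
theorem f714081 : Led Lsl_gt (LP (LK LD1_c11 LD2_c44 LD3_c28)) = (LP (LK LD1_c11 LD2_c19 LD3_c59)) :=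
  Lgr Lrot137 (Lpe (f622077 IH) (Lpr_dt (f622076 IH) (Lpr_gf (f622072 IH) (Lpe (f542599 IH) (Lpr_et (K36.f381855 IH) (Lpr_gf (K36.f423986 IH) (Lpr_ef (K40.f561778 IH) (Lpr_dt (K55.f75919 IH) (Lpe (K55.f61459 IH) (Lpr_df (K55.f713984 IH) (Lpn (LP (LK LD1_c11 LD2_c19 LD3_c59)))))))))))))
theorem f714075 : Led Lsl_et (LP (LK LD1_c5 LD2_c44 LD3_c52)) = (LP (LK LD1_c11 LD2_c19 LD3_c59)) :=
  Lre_e IH (LK LD1_c5 LD2_c44 LD3_c52) (LK LD1_c11 LD2_c19 LD3_c59) Lrfl Lrfl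
theorem f642130 : Led Lsl_gt (LP (LK LD1_c11 LD2_c19 LD3_c58)) = (LP (LK LD1_c20 LD2_c17 LD3_c3)) :=
  Lre_g IH (LK LD1_c11 LD2_c19 LD3_c58) (LK LD1_c20 LD2_c17 LD3_c3) Lrfl Lrfl
theorem f903480 : Led Lsl_df (LP (LK LD1_c20 LD2_c17 LD3_c3)) = v38644 :=
  Lgr Lrot168 (Lpe (f642130 IH) (Lpe (K52.f140558 IH) (Lpr_et (f714075 IH) (Lpe (f714081 IH) (Lpe (f622077 IH) (Lpr_dt (f622076 IH) (Lpr_gf (f622072 IH) (Lpe (f542599 IH) (Lpe (f902178 IH) (Lpr_ef (f903476 IH) (Lpn v38644)))))))))))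
theorem f903481 : Led Lsl_bt (LP (LK LD1_c20 LD2_c17 LD3_c3)) = (LP (LK LD1_c11 LD2_c22 LD3_c30)) :=
  Lgr Lrot95 (Lpr_df (f903480 IH) (Lpe (f903474 IH) (Lpr_df (K52.f714217 IH) (Lpn (LP (LK LD1_c11 LD2_c22 LD3_c30))))))
theorem f903482 : Led Lsl_bt (LP (LK LD1_c20 LD2_c17 LD3_c3)) = (LP (LK LD1_c11 LD2_c22 LD3_c30)) :=
  Leop (Lpe (f903481 IH) (Lpn (LP (LK LD1_c20 LD2_c17 LD3_c3))))
theorem seed_2256 : LEOK LG_b (LK LD1_c20 LD2_c17 LD3_c3) :=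
  Leoe_b (LK LD1_c20 LD2_c17 LD3_c3) (f903482 IH)
def v16640 : LQ := Led Lsl_ft (LP (LK LD1_c6 LD2_c3 LD3_c45))
theorem f750822 : Led Lsl_ft (LP (LK LD1_c6 LD2_c3 LD3_c45)) = v16640 :=
  Lrfl
theorem f750824 : Led Lsl_ff (LP (LK LD1_c6 LD2_c3 LD3_c45)) = v16640 :=
  Lgr Lrot3 (Lpr_ft (f750822 IH) (Lpn v16640))
def v16639 : LQ := Led Lsl_at (LP (LK LD1_c6 LD2_c3 LD3_c45))
theorem f750818 : Led Lsl_at (LP (LK LD1_c6 LD2_c3 LD3_c45)) = v16639 :=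
  Lrfl
theorem f750819 : Led Lsl_af (LP (LK LD1_c6 LD2_c3 LD3_c45)) = v16639 :=
  Lgr Lrot0 (Lpr_at (f750818 IH) (Lpn v16639))
theorem f175808 : Led Lsl_gt (LP (LK LD1_c6 LD2_c3 LD3_c46)) = (LP (LK LD1_c2 LD2_c57 LD3_c60)) :=
  Lre_g IH (LK LD1_c6 LD2_c3 LD3_c46) (LK LD1_c2 LD2_c57 LD3_c60) Lrfl Lrfl
theorem f750820 : Led Lsl_ft (LP (LK LD1_c6 LD2_c3 LD3_c46)) = v16639 :=
  Lgr Lrot2 (Lpr_gt (f175808 IH) (Lpr_gt (K56.f175805 IH) (Lpr_af (f750819 IH) (Lpn v16639))))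
theorem f750821 : Led Lsl_ff (LP (LK LD1_c6 LD2_c3 LD3_c46)) = v16639 :=
  Lgr Lrot3 (Lpr_ft (f750820 IH) (Lpn v16639))
theorem f750825 : Led Lsl_at (LP (LK LD1_c6 LD2_c3 LD3_c46)) = v16640 :=
  Lgr Lrot66 (Lpr_ff (f750821 IH) (Lpe (f750818 IH) (Lpr_ff (f750824 IH) (Lpn v16640))))
def v38697 : LQ := Led Lsl_et (LP (LK LD1_c9 LD2_c14 LD3_c24))
theorem f903824 : Led Lsl_et (LP (LK LD1_c9 LD2_c14 LD3_c24)) = v38697 :=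
  Lrfl
def v38692 : LQ := Led Lsl_at (LP (LK LD1_c9 LD2_c14 LD3_c23))
theorem f903802 : Led Lsl_at (LP (LK LD1_c9 LD2_c14 LD3_c23)) = v38692 :=
  Lrfl
theorem f903803 : Led Lsl_af (LP (LK LD1_c9 LD2_c14 LD3_c23)) = v38692 :=
  Lgr Lrot0 (Lpr_at (f903802 IH) (Lpn v38692))
theorem f285155 : Led Lsl_gt (LP (LK LD1_c4 LD2_c39 LD3_c22)) = (LP (LK LD1_c9 LD2_c14 LD3_c23)) :=
  Lre_g IH (LK LD1_c4 LD2_c39 LD3_c22) (LK LD1_c9 LD2_c14 LD3_c23) Lrfl Lrfl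
theorem f903806 : Led Lsl_ft (LP (LK LD1_c9 LD2_c14 LD3_c24)) = v38692 :=
  Lgr Lrot2 (Lpr_gt (K56.f185971 IH) (Lpr_gt (f285155 IH) (Lpr_af (f903803 IH) (Lpn v38692))))
theorem f903807 : Led Lsl_ff (LP (LK LD1_c9 LD2_c14 LD3_c24)) = v38692 :=
  Lgr Lrot3 (Lpr_ft (f903806 IH) (Lpn v38692))
theorem f699510 : Led Lsl_ef (LP (LK LD1_c9 LD2_c14 LD3_c23)) = (LP (LK LD1_c6 LD2_c46 LD3_c5)) :=
  Lgr Lrot17 (Lpe (f285155 IH) (Lpe (K36.f177750 IH) (Lpe (K10.f177746 IH) (Lpr_gf (K10.f177753 IH) (Lpe (K41.f26667 IH) (Lpe (K11.f26784 IH) (Lpe (K36.f175338 IH) (Lpr_dt (K50.f175329 IH) (Lpe (K50.f175348 IH) (Lpr_df (K50.f699503 IH) (Lpn (LP (LK LD1_c6 LD2_c46 LD3_c5)))))))))))))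
def v19725 : LQ := Led Lsl_ft (LP (LK LD1_c6 LD2_c46 LD3_c4))
theorem f781811 : Led Lsl_ft (LP (LK LD1_c6 LD2_c46 LD3_c4)) = v19725 :=
  Lrfl
def v19722 : LQ := Led Lsl_at (LP (LK LD1_c6 LD2_c46 LD3_c4))
theorem f781800 : Led Lsl_at (LP (LK LD1_c6 LD2_c46 LD3_c4)) = v19722 :=
  Lrfl
theorem f781801 : Led Lsl_af (LP (LK LD1_c6 LD2_c46 LD3_c4)) = v19722 :=
  Lgr Lrot0 (Lpr_at (f781800 IH) (Lpn v19722))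
theorem f781802 : Led Lsl_ft (LP (LK LD1_c6 LD2_c46 LD3_c5)) = v19722 :=
  Lgr Lrot2 (Lpr_gt (K50.f23090 IH) (Lpr_gt (K49.f23091 IH) (Lpr_af (f781801 IH) (Lpn v19722))))
theorem f781812 : Led Lsl_af (LP (LK LD1_c6 LD2_c46 LD3_c5)) = v19725 :=
  Lgr Lrot45 (Lpr_ft (f781802 IH) (Lpe (f781801 IH) (Lpr_ft (f781811 IH) (Lpn v19725))))
theorem f903804 : Led Lsl_ef v19725 = v38692 :=
  Lgr Lrot20 (Lpe (f781812 IH) (Lpe (f699510 IH) (Lpr_at (f903802 IH) (Lpn v38692))))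
theorem f903805 : Led Lsl_et v19725 = v38692 :=
  Lgr Lrot87 (Lpr_ef (f903804 IH) (Lpn v38692))
theorem f23092 : Led Lsl_et (LP (LK LD1_c12 LD2_c55 LD3_c57)) = (LP (LK LD1_c6 LD2_c46 LD3_c4)) :=
  Lre_e IH (LK LD1_c12 LD2_c55 LD3_c57) (LK LD1_c6 LD2_c46 LD3_c4) Lrfl Lrfl
theorem f903827 : Led Lsl_ff (LP (LK LD1_c12 LD2_c55 LD3_c57)) = v38697 :=
  Lgr Lrot72 (Lpr_et (f23092 IH) (Lpr_ft (f781811 IH) (Lpr_et (f903805 IH) (Lpe (f903807 IH) (Lpr_et (f903824 IH) (Lpn v38697))))))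
theorem f903829 : Led Lsl_ft (LP (LK LD1_c12 LD2_c55 LD3_c57)) = v38697 :=
  Lgr Lrot48 (Lpr_ff (f903827 IH) (Lpn v38697))
def v28286 : LQ := Led Lsl_dt v8034
theorem f843515 : Led Lsl_dt v8034 = v28286 :=
  Lrfl
theorem f843517 : Led Lsl_df v8034 = v28286 :=
  Lgr Lrot38 (Lpr_dt (f843515 IH) (Lpn v28286))
def v5119 : LQ := Led Lsl_et (LP (LK LD1_c2 LD2_c57 LD3_c53))
theorem f646035 : Led Lsl_et (LP (LK LD1_c2 LD2_c57 LD3_c53)) = v5119 :=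
  Lrfl
theorem f646036 : Led Lsl_df v1660 = v5119 :=
  Lgr Lrot70 (Lpe (f500611 IH) (Lpr_dt (K10.f24462 IH) (Lpr_et (K10.f24455 IH) (Lpe (K10.f185966 IH) (Lpr_et (f646035 IH) (Lpn v5119))))))
theorem f646037 : Led Lsl_ef (LP (LK LD1_c2 LD2_c57 LD3_c53)) = v5119 :=
  Lgr Lrot88 (Lpr_et (f646035 IH) (Lpn v5119))
theorem f691530 : Led Lsl_et (LP (LK LD1_c6 LD2_c46 LD3_c4)) = (LP (LK LD1_c12 LD2_c55 LD3_c57)) :=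
  Lre_e IH (LK LD1_c6 LD2_c46 LD3_c4) (LK LD1_c12 LD2_c55 LD3_c57) Lrfl Lrfl
theorem f843519 : Led Lsl_gt (LP (LK LD1_c12 LD2_c55 LD3_c57)) = v28286 :=
  Lgr Lrot137 (Lpe (f691530 IH) (Lpe (K49.f691528 IH) (Lpe (K49.f175351 IH) (Lpe (K50.f175329 IH) (Lpr_et (K36.f175338 IH) (Lpe (K10.f9419 IH) (Lpr_ef (f646037 IH) (Lpe (f646036 IH) (Lpr_gf (f669731 IH) (Lpr_df (f843517 IH) (Lpn v28286)))))))))))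
theorem f897652 : Led Lsl_dt (LP (LK LD1_c9 LD2_c5 LD3_c21)) = v37928 :=
  Lgr Lrot60 (Lpr_ff (K67.f715242 IH) (Lpe (K17.f225942 IH) (Lpr_ff (f897651 IH) (Lpn v37928))))
theorem f843520 : Led Lsl_ef (LP (LK LD1_c9 LD2_c5 LD3_c21)) = v28286 :=
  Lgr Lrot17 (Lpe (K67.f446596 IH) (Lpe (K50.f9411 IH) (Lpr_dt (K0.f9380 IH) (Lpe (K9.f9417 IH) (Lpe (K10.f9418 IH) (Lpe (K10.f9419 IH) (Lpr_ef (f646037 IH) (Lpe (f646036 IH) (Lpr_gf (f669731 IH) (Lpr_df (f843517 IH) (Lpn v28286)))))))))))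
theorem f843521 : Led Lsl_et (LP (LK LD1_c9 LD2_c5 LD3_c21)) = v28286 :=
  Lgr Lrot87 (Lpr_ef (f843520 IH) (Lpn v28286))
def v16642 : LQ := Led Lsl_dt (LP (LK LD1_c6 LD2_c3 LD3_c46))
theorem f750828 : Led Lsl_dt (LP (LK LD1_c6 LD2_c3 LD3_c46)) = v16642 :=
  Lrfl
theorem f285142 : Led Lsl_at (LP (LK LD1_c4 LD2_c39 LD3_c22)) = (LP (LK LD1_c2 LD2_c57 LD3_c60)) :=
  Lgr Lrot100 (Lpr_af (K39.f285138 IH) (Lpn (LP (LK LD1_c2 LD2_c57 LD3_c60))))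
theorem f285347 : Led Lsl_gt (LP (LK LD1_c9 LD2_c14 LD3_c25)) = (LP (LK LD1_c6 LD2_c3 LD3_c46)) :=
  Lgr Lrot5 (Lpr_ft (K39.f268421 IH) (Lpr_at (f285142 IH) (Lpe (f175808 IH) (Lpn (LP (LK LD1_c6 LD2_c3 LD3_c46))))))
theorem f175467 : Led Lsl_dt (LP (LK LD1_c6 LD2_c3 LD3_c54)) = (LP (LK LD1_c11 LD2_c23 LD3_c53)) :=
  Lgr Lrot42 (Lpr_df (K39.f175435 IH) (Lpn (LP (LK LD1_c11 LD2_c23 LD3_c53))))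
theorem f285300 : Led Lsl_gf (LP (LK LD1_c9 LD2_c14 LD3_c31)) = (LP (LK LD1_c6 LD2_c3 LD3_c54)) :=
  Lgr Lrot47 (Lpr_gt (K67.f23969 IH) (Lpr_af (K67.f285290 IH) (Lpe (K39.f175434 IH) (Lpn (LP (LK LD1_c6 LD2_c3 LD3_c54))))))
theorem f699815 : Led Lsl_gf (LP (LK LD1_c11 LD2_c23 LD3_c53)) = (LP (LK LD1_c11 LD2_c59 LD3_c14)) :=
  Lgr Lrot138 (Lpe (K39.f175435 IH) (Lpe (f285300 IH) (Lpe (K67.f699804 IH) (Lpr_et (f699811 IH) (Lpe (f68763 IH) (Lpe (K55.f68755 IH) (Lpr_dt (f68765 IH) (Lpr_gt (K55.f412025 IH) (Lpe (K55.f26970 IH) (Lpe (f26971 IH) (Lpn (LP (LK LD1_c11 LD2_c59 LD3_c14)))))))))))))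
theorem f750830 : Led Lsl_gf (LP (LK LD1_c10 LD2_c3 LD3_c5)) = v16642 :=
  Lgr Lrot134 (Lpr_df (K56.f180482 IH) (Lpr_et (K17.f26996 IH) (Lpr_gt (K55.f26995 IH) (Lpe (K55.f26989 IH) (Lpe (K55.f22905 IH) (Lpe (f699815 IH) (Lpe (f175467 IH) (Lpr_et (K39.f268422 IH) (Lpr_gt (f285347 IH) (Lpr_dt (f750828 IH) (Lpn v16642)))))))))))
def v16643 : LQ := Led Lsl_et (LP (LK LD1_c6 LD2_c3 LD3_c46))
theorem f750833 : Led Lsl_et (LP (LK LD1_c6 LD2_c3 LD3_c46)) = v16643 :=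
  Lrfl
theorem f897929 : Led Lsl_gt v28286 = v16643 :=
  Lgr Lrot131 (Lpe (f843521 IH) (Lpr_dt (f897652 IH) (Lpe (f897646 IH) (Lpe (K55.f26991 IH) (Lpe (K55.f26995 IH) (Lpe (K17.f26996 IH) (Lpe (K56.f180482 IH) (Lpr_gf (f750830 IH) (Lpe (f750828 IH) (Lpr_et (f750833 IH) (Lpn v16643)))))))))))
theorem f903830 : Led Lsl_af v16643 = v38697 :=
  Lgr Lrot31 (Lpe (f897929 IH) (Lpe (f843519 IH) (Lpr_ft (f903829 IH) (Lpn v38697))))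
theorem f750834 : Led Lsl_ef (LP (LK LD1_c6 LD2_c3 LD3_c46)) = v16643 :=
  Lgr Lrot88 (Lpr_et (f750833 IH) (Lpn v16643))
theorem f903832 : v16640 = (LP (LK LD1_c9 LD2_c14 LD3_c24)) :=
  (Llr Lrot80 (Lpe (f750825 IH) (Lpr_ef (f750834 IH) (Lpr_af (f903830 IH) (Lpe (f903824 IH) (Lpn (LP (LK LD1_c9 LD2_c14 LD3_c24)))))))).symm
theorem f903834 : Led Lsl_at (LP (LK LD1_c6 LD2_c3 LD3_c46)) = (LP (LK LD1_c9 LD2_c14 LD3_c24)) :=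
  Leop (Lpq (f903832 IH) (Lpe (f750825 IH) (Lpn (LP (LK LD1_c6 LD2_c3 LD3_c46)))))
theorem seed_2257 : LEOK LG_a (LK LD1_c6 LD2_c3 LD3_c46) :=
  Leoe_a (LK LD1_c6 LD2_c3 LD3_c46) (f903834 IH)
def v38706 : LQ := Led Lsl_ft (LP (LK LD1_c9 LD2_c14 LD3_c29))
theorem f903967 : Led Lsl_ft (LP (LK LD1_c9 LD2_c14 LD3_c29)) = v38706 :=
  Lrfl
theorem f421671 : Led Lsl_gt (LP (LK LD1_c9 LD2_c14 LD3_c29)) = (LP (LK LD1_c17 LD2_c8 LD3_c48)) :=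
  Lre_g IH (LK LD1_c9 LD2_c14 LD3_c29) (LK LD1_c17 LD2_c8 LD3_c48) Lrfl Lrfl
theorem f175666 : Led Lsl_et (LP (LK LD1_c2 LD2_c58 LD3_c0)) = (LP (LK LD1_c6 LD2_c3 LD3_c51)) :=
  Lre_e IH (LK LD1_c2 LD2_c58 LD3_c0) (LK LD1_c6 LD2_c3 LD3_c51) Lrfl Lrfl
theorem f186010 : Led Lsl_et (LP (LK LD1_c9 LD2_c14 LD3_c29)) = (LP (LK LD1_c4 LD2_c39 LD3_c24)) :=
  Lre_e IH (LK LD1_c9 LD2_c14 LD3_c29) (LK LD1_c4 LD2_c39 LD3_c24) Lrfl Lrfl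
theorem f268405 : Led Lsl_at (LP (LK LD1_c6 LD2_c3 LD3_c51)) = (LP (LK LD1_c9 LD2_c14 LD3_c29)) :=
  Lgr Lrot80 (Lpe (f175666 IH) (Lpr_af (K15.f268399 IH) (Lpe (f186010 IH) (Lpn (LP (LK LD1_c9 LD2_c14 LD3_c29))))))
theorem f268413 : Led Lsl_ft (LP (LK LD1_c11 LD2_c51 LD3_c14)) = (LP (LK LD1_c6 LD2_c3 LD3_c51)) :=
  Lre_f IH (LK LD1_c11 LD2_c51 LD3_c14) (LK LD1_c6 LD2_c3 LD3_c51) Lrfl Lrfl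
theorem f903968 : Led Lsl_af (LP (LK LD1_c11 LD2_c51 LD3_c14)) = v38706 :=
  Lgr Lrot45 (Lpr_ft (f268413 IH) (Lpr_at (f268405 IH) (Lpr_ft (f903967 IH) (Lpn v38706))))
theorem f903972 : Led Lsl_gt (LP (LK LD1_c17 LD2_c8 LD3_c48)) = (LP (LK LD1_c11 LD2_c51 LD3_c14)) :=
  Lgr Lrot46 (Lpe (f421671 IH) (Lpr_ft (f903967 IH) (Lpe (f903968 IH) (Lpn (LP (LK LD1_c11 LD2_c51 LD3_c14))))))
theorem f903973 : Led Lsl_gt (LP (LK LD1_c17 LD2_c8 LD3_c48)) = (LP (LK LD1_c11 LD2_c51 LD3_c14)) :=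
  Leop (Lpe (f903972 IH) (Lpn (LP (LK LD1_c17 LD2_c8 LD3_c48))))
theorem seed_2258 : LEOK LG_g (LK LD1_c17 LD2_c8 LD3_c48) :=
  Leoe_g (LK LD1_c17 LD2_c8 LD3_c48) (f903973 IH)
def v16655 : LQ := Led Lsl_gt (LP (LK LD1_c6 LD2_c3 LD3_c58))
theorem f750860 : Led Lsl_gt (LP (LK LD1_c6 LD2_c3 LD3_c58)) = v16655 :=
  Lrfl
def v38708 : LQ := Led Lsl_ct (LP (LK LD1_c9 LD2_c14 LD3_c30))
theorem f903990 : Led Lsl_ct (LP (LK LD1_c9 LD2_c14 LD3_c30)) = v38708 :=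
  Lrfl
def v16651 : LQ := Led Lsl_ct (LP (LK LD1_c6 LD2_c3 LD3_c53))
theorem f750850 : Led Lsl_ct (LP (LK LD1_c6 LD2_c3 LD3_c53)) = v16651 :=
  Lrfl
theorem f750851 : Led Lsl_cf (LP (LK LD1_c6 LD2_c3 LD3_c53)) = v16651 :=
  Lgr Lrot11 (Lpr_ct (f750850 IH) (Lpn v16651))
theorem f903993 : Led Lsl_ff v16651 = v38708 :=
  Lgr Lrot23 (Lpe (f750851 IH) (Lpe (K67.f747670 IH) (Lpr_ct (f903990 IH) (Lpn v38708))))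
theorem f903995 : Led Lsl_ft v16651 = v38708 :=
  Lgr Lrot48 (Lpr_ff (f903993 IH) (Lpn v38708))
theorem f898026 : Led Lsl_bt (LP (LK LD1_c9 LD2_c4 LD3_c31)) = (LP (LK LD1_c11 LD2_c59 LD3_c14)) :=
  Lgr Lrot127 (Lpr_bf (f898020 IH) (Lpn (LP (LK LD1_c11 LD2_c59 LD3_c14))))
theorem f824144 : Led Lsl_ft (LP (LK LD1_c11 LD2_c59 LD3_c14)) = (LP (LK LD1_c11 LD2_c23 LD3_c52)) :=
  Lgr Lrot54 (Lpr_df (K55.f22905 IH) (Lpr_ff (f781570 IH) (Lpqs (f824137 IH) (Lpr_df (f175452 IH) (Lpn (LP (LK LD1_c11 LD2_c23 LD3_c52)))))))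
theorem f898060 : Led Lsl_bt (LP (LK LD1_c11 LD2_c23 LD3_c52)) = (LP (LK LD1_c16 LD2_c56 LD3_c3)) :=
  Lgr Lrot35 (Lpe (f824144 IH) (Lpe (f898026 IH) (Lpr_ff (f898058 IH) (Lpn (LP (LK LD1_c16 LD2_c56 LD3_c3))))))
theorem f697771 : Led Lsl_ct (LP (LK LD1_c4 LD2_c33 LD3_c31)) = v12712 :=
  Lgr Lrot40 (Lpe (K50.f245664 IH) (Lpe (K13.f174640 IH) (Lpr_ff (f697768 IH) (Lpn v12712))))
def v24275 : LQ := Led Lsl_ct v4653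
theorem f823184 : Led Lsl_ct v4653 = v24275 :=
  Lrfl
theorem f823185 : Led Lsl_cf v4653 = v24275 :=
  Lgr Lrot11 (Lpr_ct (f823184 IH) (Lpn v24275))
theorem f698269 : Led Lsl_cf (LP (LK LD1_c4 LD2_c31 LD3_c10)) = v12799 :=
  Lgr Lrot11 (Lpr_ct (f698268 IH) (Lpn v12799))
theorem f823200 : (LP (LK LD1_c4 LD2_c31 LD3_c10)) = v24275 :=
  Lefun (Lecon (Lfl_cf (f698269 IH)) (f823199 IH)) (f823184 IH)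
theorem f319366 : Led Lsl_bt (LP (LK LD1_c4 LD2_c31 LD3_c9)) = (LP (LK LD1_c2 LD2_c12 LD3_c32)) :=
  Lre_b IH (LK LD1_c4 LD2_c31 LD3_c9) (LK LD1_c2 LD2_c12 LD3_c32) Lrfl Lrfl
theorem f418718 : Led Lsl_ct (LP (LK LD1_c4 LD2_c31 LD3_c9)) = (LP (LK LD1_c9 LD2_c0 LD3_c18)) :=
  Lre_c IH (LK LD1_c4 LD2_c31 LD3_c9) (LK LD1_c9 LD2_c0 LD3_c18) Lrfl Lrfl
def v37806 : LQ := Led Lsl_gf (LP (LK LD1_c9 LD2_c0 LD3_c18))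
theorem f896607 : Led Lsl_gf (LP (LK LD1_c9 LD2_c0 LD3_c18)) = v37806 :=
  Lrfl
theorem f898104 : Led Lsl_ct (LP (LK LD1_c11 LD2_c23 LD3_c52)) = v37806 :=
  Lgr Lrot64 (Lpr_bt (f898060 IH) (Lpe (f407086 IH) (Lpe (K30.f245604 IH) (Lpr_ct (f697771 IH) (Lpe (f697774 IH) (Lpr_cf (f823185 IH) (Lpq (f823200 IH) (Lpe (K65.f289450 IH) (Lpe (f319366 IH) (Lpr_ct (f418718 IH) (Lpr_gf (f896607 IH) (Lpn v37806))))))))))))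
theorem f753737 : Led Lsl_df (LP (LK LD1_c9 LD2_c14 LD3_c32)) = K56.v16951 :=
  Lgr Lrot78 (Lpr_ft (K67.f23967 IH) (Lpr_dt (K55.f23944 IH) (Lpr_ft (K56.f753735 IH) (Lpn K56.v16951))))
def v16656 : LQ := Led Lsl_gf (LP (LK LD1_c6 LD2_c3 LD3_c58))
theorem f750861 : Led Lsl_gf (LP (LK LD1_c6 LD2_c3 LD3_c58)) = v16656 :=
  Lrfl
theorem f898106 : v16651 = v16656 :=
  (Llr Lrot152 (Lpe (f750850 IH) (Lpe (K67.f285305 IH) (Lpr_df (f753737 IH) (Lpe (f753743 IH) (Lpr_ct (f898104 IH) (Lpe (f896607 IH) (Lpr_ct (K56.f418709 IH) (Lpe (K56.f613546 IH) (Lpr_cf (K56.f186317 IH) (Lpr_gf (f750861 IH) (Lpn v16656)))))))))))).symm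
theorem f747676 : Led Lsl_af (LP (LK LD1_c9 LD2_c14 LD3_c30)) = (LP (LK LD1_c6 LD2_c3 LD3_c52)) :=
  Lgr Lrot0 (Lpr_at (K67.f747674 IH) (Lpn (LP (LK LD1_c6 LD2_c3 LD3_c52))))
theorem f285317 : Led Lsl_ct (LP (LK LD1_c11 LD2_c51 LD3_c15)) = (LP (LK LD1_c6 LD2_c3 LD3_c52)) :=
  Lre_c IH (LK LD1_c11 LD2_c51 LD3_c15) (LK LD1_c6 LD2_c3 LD3_c52) Lrfl Lrfl
theorem f903991 : Led Lsl_af (LP (LK LD1_c11 LD2_c51 LD3_c15)) = v38708 :=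
  Lgr Lrot68 (Lpr_ct (f285317 IH) (Lpe (f747676 IH) (Lpr_ct (f903990 IH) (Lpn v38708))))
theorem f903996 : v16655 = (LP (LK LD1_c11 LD2_c51 LD3_c15)) :=
  (Llr Lrot46 (Lpe (f750860 IH) (Lpr_gf (f750861 IH) (Lpq (f898106 IH) (Lpr_ft (f903995 IH) (Lpe (f903991 IH) (Lpn (LP (LK LD1_c11 LD2_c51 LD3_c15))))))))).symm
theorem f903997 : Led Lsl_gt (LP (LK LD1_c6 LD2_c3 LD3_c58)) = (LP (LK LD1_c11 LD2_c51 LD3_c15)) :=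
  Leop (Lpq (f903996 IH) (Lpe (f750860 IH) (Lpn (LP (LK LD1_c6 LD2_c3 LD3_c58)))))
theorem seed_2259 : LEOK LG_g (LK LD1_c6 LD2_c3 LD3_c58) :=
  Leoe_g (LK LD1_c6 LD2_c3 LD3_c58) (f903997 IH)
def v38709 : LQ := Led Lsl_ct (LP (LK LD1_c9 LD2_c14 LD3_c31))
theorem f903999 : Led Lsl_ct (LP (LK LD1_c9 LD2_c14 LD3_c31)) = v38709 :=
  Lrfl
theorem f904003 : Led Lsl_ff (LP (LK LD1_c11 LD2_c51 LD3_c15)) = v38709 :=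
  Lgr Lrot23 (Lpr_ct (f285317 IH) (Lpe (K67.f747658 IH) (Lpr_ct (f903999 IH) (Lpn v38709))))
theorem f175439 : Led Lsl_ct (LP (LK LD1_c6 LD2_c3 LD3_c52)) = (LP (LK LD1_c11 LD2_c51 LD3_c15)) :=
  Lre_c IH (LK LD1_c6 LD2_c3 LD3_c52) (LK LD1_c11 LD2_c51 LD3_c15) Lrfl Lrfl
theorem f903992 : Led Lsl_cf (LP (LK LD1_c9 LD2_c14 LD3_c30)) = v38708 :=
  Lgr Lrot11 (Lpr_ct (f903990 IH) (Lpn v38708))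
theorem f903998 : Led Lsl_af v38708 = (LP (LK LD1_c11 LD2_c51 LD3_c15)) :=
  Lgr Lrot68 (Lpe (f903992 IH) (Lpr_at (K67.f747674 IH) (Lpr_ct (f175439 IH) (Lpn (LP (LK LD1_c11 LD2_c51 LD3_c15))))))
theorem f904004 : Led Lsl_at v16651 = v38709 :=
  Lgr Lrot66 (Lpr_ff (f903993 IH) (Lpr_af (f903998 IH) (Lpr_ff (f904003 IH) (Lpn v38709))))
def v38707 : LQ := Led Lsl_bt (LP (LK LD1_c9 LD2_c14 LD3_c30))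
theorem f903979 : Led Lsl_bt (LP (LK LD1_c9 LD2_c14 LD3_c30)) = v38707 :=
  Lrfl
def v16650 : LQ := Led Lsl_bt (LP (LK LD1_c6 LD2_c3 LD3_c53))
theorem f750848 : Led Lsl_bt (LP (LK LD1_c6 LD2_c3 LD3_c53)) = v16650 :=
  Lrfl
theorem f750849 : Led Lsl_bf (LP (LK LD1_c6 LD2_c3 LD3_c53)) = v16650 :=
  Lgr Lrot24 (Lpr_bt (f750848 IH) (Lpn v16650))
theorem f903984 : Led Lsl_ff v16650 = v38707 :=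
  Lgr Lrot25 (Lpe (f750849 IH) (Lpe (K67.f747670 IH) (Lpr_bt (f903979 IH) (Lpn v38707))))
def v15586 : LQ := Led Lsl_et (LP (LK LD1_c5 LD2_c42 LD3_c57))
theorem f738152 : Led Lsl_et (LP (LK LD1_c5 LD2_c42 LD3_c57)) = v15586 :=
  Lrfl
theorem f902161 : Led Lsl_bf (LP (LK LD1_c11 LD2_c51 LD3_c18)) = v15586 :=
  Lgr Lrot96 (Lpr_et (f268659 IH) (Lpqs (f902158 IH) (Lpe (f738147 IH) (Lpr_et (f738152 IH) (Lpn v15586)))))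
theorem f902163 : Led Lsl_dt v16650 = v15586 :=
  Lgr Lrot79 (Lpe (f750848 IH) (Lpe (K67.f175438 IH) (Lpr_bf (f902161 IH) (Lpn v15586))))
def v38643 : LQ := Led Lsl_et (LP (LK LD1_c9 LD2_c13 LD3_c52))
theorem f903462 : Led Lsl_et (LP (LK LD1_c9 LD2_c13 LD3_c52)) = v38643 :=
  Lrfl
theorem f738153 : Led Lsl_ef (LP (LK LD1_c5 LD2_c42 LD3_c57)) = v15586 :=
  Lgr Lrot88 (Lpr_et (f738152 IH) (Lpn v15586))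
theorem f903466 : Led Lsl_ff v15586 = v38643 :=
  Lgr Lrot72 (Lpe (f738153 IH) (Lpr_ft (f738154 IH) (Lpq (f747966 IH) (Lpr_et (f714571 IH) (Lpr_ft (f747914 IH) (Lpr_et (f903462 IH) (Lpn v38643)))))))
theorem f903471 : Led Lsl_ft v15586 = v38643 :=
  Lgr Lrot48 (Lpr_ff (f903466 IH) (Lpn v38643))
theorem f903985 : Led Lsl_dt v38643 = v38707 :=
  Lgr Lrot60 (Lpe (f903471 IH) (Lpe (f902163 IH) (Lpr_ff (f903984 IH) (Lpn v38707))))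
theorem f903465 : Led Lsl_ef (LP (LK LD1_c9 LD2_c13 LD3_c52)) = v38643 :=
  Lgr Lrot88 (Lpr_et (f903462 IH) (Lpn v38643))
theorem f398543 : Led Lsl_et (LP (LK LD1_c9 LD2_c2 LD3_c0)) = (LP (LK LD1_c4 LD2_c32 LD3_c11)) :=
  Lre_e IH (LK LD1_c9 LD2_c2 LD3_c0) (LK LD1_c4 LD2_c32 LD3_c11) Lrfl Lrfl
theorem f297043 : Led Lsl_et (LP (LK LD1_c4 LD2_c33 LD3_c28)) = (LP (LK LD1_c2 LD2_c13 LD3_c39)) :=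
  Lre_e IH (LK LD1_c4 LD2_c33 LD3_c28) (LK LD1_c2 LD2_c13 LD3_c39) Lrfl Lrfl
theorem f903987 : Led Lsl_gt K50.v12848 = v38707 :=
  Lgr Lrot112 (Lpe (K50.f698564 IH) (Lpr_et (f297043 IH) (Lpr_gf (K31.f398539 IH) (Lpe (f398543 IH) (Lpe (K51.f621116 IH) (Lpqs (K55.f713933 IH) (Lpe (K55.f645610 IH) (Lpe (K56.f645497 IH) (Lpr_gf (K55.f645493 IH) (Lpr_ef (f903465 IH) (Lpr_dt (f903985 IH) (Lpn v38707))))))))))))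
theorem f698570 : Led Lsl_bt K35.v4179 = K50.v12848 :=
  Lgr Lrot119 (Lpe (f631671 IH) (Lpe (K40.f541565 IH) (Lpr_ef (K50.f698568 IH) (Lpn K50.v12848))))
theorem f631625 : Led Lsl_bf (LP (LK LD1_c6 LD2_c4 LD3_c13)) = K53.v4173 :=
  Lgr Lrot93 (Lpr_dt (K56.f613546 IH) (Lpr_bt (f319366 IH) (Lpr_dt (K53.f631623 IH) (Lpn K53.v4173))))
theorem f751030 : Led Lsl_bf K53.v12802 = K60.v16677 :=
  Lgr Lrot61 (Lpe (K53.f698279 IH) (Lpe (f631625 IH) (Lpr_ft (K60.f751028 IH) (Lpn K60.v16677))))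
def v16658 : LQ := Led Lsl_ft (LP (LK LD1_c6 LD2_c3 LD3_c58))
theorem f750864 : Led Lsl_ft (LP (LK LD1_c6 LD2_c3 LD3_c58)) = v16658 :=
  Lrfl
theorem f750866 : Led Lsl_ff (LP (LK LD1_c6 LD2_c3 LD3_c58)) = v16658 :=
  Lgr Lrot3 (Lpr_ft (f750864 IH) (Lpn v16658))
theorem f751031 : Led Lsl_cf v16658 = K60.v16677 :=
  Lgr Lrot108 (Lpe (f750866 IH) (Lpe (K56.f186317 IH) (Lpr_ft (K60.f751028 IH) (Lpn K60.v16677))))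
theorem f903994 : Led Lsl_gf v16658 = v38708 :=
  Lgr Lrot126 (Lpr_cf (f751031 IH) (Lpe (f751030 IH) (Lpe (f698280 IH) (Lpr_ct (f842901 IH) (Lpe (f842907 IH) (Lpe (f820499 IH) (Lpr_bt (f698570 IH) (Lpr_gt (f903987 IH) (Lpe (f903979 IH) (Lpr_ct (f903990 IH) (Lpn v38708)))))))))))
theorem f904006 : Led Lsl_gt v16658 = v38709 :=
  Lgr Lrot46 (Lpr_gf (f903994 IH) (Lpe (f903993 IH) (Lpr_at (f904004 IH) (Lpn v38709))))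
theorem f751034 : Led Lsl_ff (LP (LK LD1_c6 LD2_c4 LD3_c13)) = K60.v16677 :=
  Lgr Lrot3 (Lpr_ft (K60.f751028 IH) (Lpn K60.v16677))
def v14175 : LQ := Led Lsl_gf (LP (LK LD1_c5 LD2_c0 LD3_c26))
theorem f720839 : Led Lsl_gf (LP (LK LD1_c5 LD2_c0 LD3_c26)) = v14175 :=
  Lrfl
theorem f751040 : Led Lsl_gf v14175 = K60.v16677 :=
  Lgr Lrot47 (Lpe (f720839 IH) (Lpr_af (K56.f334700 IH) (Lpr_ff (f751034 IH) (Lpn K60.v16677))))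
theorem f750945 : Led Lsl_ft (LP (LK LD1_c9 LD2_c51 LD3_c13)) = K56.v16676 :=
  Lgr Lrot48 (Lpr_ff (K56.f750942 IH) (Lpn K56.v16676))
theorem f750934 : Led Lsl_af (LP (LK LD1_c9 LD2_c51 LD3_c13)) = K56.v16675 :=
  Lgr Lrot117 (Lpe (K56.f720035 IH) (Lpe (K55.f746443 IH) (Lpr_dt (K56.f750933 IH) (Lpn K56.v16675))))
theorem f746469 : Led Lsl_ff (LP (LK LD1_c12 LD2_c56 LD3_c43)) = K55.v15514 :=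
  Lgr Lrot3 (Lpr_ft (K55.f746466 IH) (Lpn K55.v15514))
theorem f737825 : Led Lsl_ef (LP (LK LD1_c5 LD2_c41 LD3_c3)) = K55.v15514 :=
  Lgr Lrot88 (Lpr_et (K55.f737824 IH) (Lpn K55.v15514))
theorem f495726 : Led Lsl_df (LP (LK LD1_c1 LD2_c19 LD3_c32)) = K39.v1470 :=
  Lgr Lrot38 (Lpr_dt (K39.f495725 IH) (Lpn K39.v1470))
theorem f737826 : Led Lsl_df v14175 = K55.v15514 :=
  Lgr Lrot170 (Lpe (f720839 IH) (Lpe (K36.f176733 IH) (Lpr_et (K36.f24237 IH) (Lpr_gt (K39.f495727 IH) (Lpe (f495726 IH) (Lpqs (K39.f537179 IH) (Lpe (K35.f452546 IH) (Lpe (K24.f379937 IH) (Lpr_et (K24.f379929 IH) (Lpr_gt (K55.f225747 IH) (Lpr_ef (f737825 IH) (Lpn K55.v15514))))))))))))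
theorem f737827 : Led Lsl_dt v14175 = K55.v15514 :=
  Lgr Lrot42 (Lpr_df (f737826 IH) (Lpn K55.v15514))
theorem f750936 : Led Lsl_ff v14175 = K56.v16675 :=
  Lgr Lrot19 (Lpr_dt (f737827 IH) (Lpe (f746469 IH) (Lpr_dt (K56.f750933 IH) (Lpn K56.v16675))))
theorem f750938 : Led Lsl_ft v14175 = K56.v16675 :=
  Lgr Lrot48 (Lpr_ff (f750936 IH) (Lpn K56.v16675))
theorem f750946 : Led Lsl_af v14175 = K56.v16676 :=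
  Lgr Lrot45 (Lpr_ft (f750938 IH) (Lpe (f750934 IH) (Lpr_ft (f750945 IH) (Lpn K56.v16676))))
theorem f751041 : Led Lsl_gt (LP (LK LD1_c9 LD2_c51 LD3_c13)) = K60.v16677 :=
  Lgr Lrot5 (Lpr_ft (f750945 IH) (Lpe (f750946 IH) (Lpr_gf (f751040 IH) (Lpn K60.v16677))))
theorem f642998 : Led Lsl_dt (LP (LK LD1_c11 LD2_c31 LD3_c25)) = (LP (LK LD1_c5 LD2_c52 LD3_c27)) :=
  Lre_d IH (LK LD1_c11 LD2_c31 LD3_c25) (LK LD1_c5 LD2_c52 LD3_c27) Lrfl Lrfl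
theorem f558373 : Led Lsl_et (LP (LK LD1_c5 LD2_c0 LD3_c6)) = (LP (LK LD1_c9 LD2_c50 LD3_c47)) :=
  Lre_e IH (LK LD1_c5 LD2_c0 LD3_c6) (LK LD1_c9 LD2_c50 LD3_c47) Lrfl Lrfl
theorem f558385 : Led Lsl_gt (LP (LK LD1_c9 LD2_c50 LD3_c47)) = (LP (LK LD1_c18 LD2_c1 LD3_c56)) :=
  Lre_g IH (LK LD1_c9 LD2_c50 LD3_c47) (LK LD1_c18 LD2_c1 LD3_c56) Lrfl Lrfl
theorem f719099 : Led Lsl_et (LP (LK LD1_c11 LD2_c31 LD3_c25)) = (LP (LK LD1_c18 LD2_c1 LD3_c56)) :=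
  Lgr Lrot122 (Lpr_dt (f642998 IH) (Lpr_gt (K53.f719096 IH) (Lpe (K44.f581839 IH) (Lpr_et (K44.f545420 IH) (Lpr_gt (K40.f545415 IH) (Lpr_dt (K40.f562548 IH) (Lpe (K41.f450415 IH) (Lpr_df (K40.f558371 IH) (Lpr_et (f558373 IH) (Lpr_gt (f558385 IH) (Lpn (LP (LK LD1_c18 LD2_c1 LD3_c56)))))))))))))
theorem f622526 : Led Lsl_bt (LP (LK LD1_c5 LD2_c52 LD3_c29)) = (LP (LK LD1_c11 LD2_c31 LD3_c25)) :=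
  Lre_b IH (LK LD1_c5 LD2_c52 LD3_c29) (LK LD1_c11 LD2_c31 LD3_c25) Lrfl Lrfl
theorem f622524 : Led Lsl_et (LP (LK LD1_c9 LD2_c51 LD3_c13)) = (LP (LK LD1_c5 LD2_c52 LD3_c29)) :=
  Lgr Lrot87 (Lpr_ef (K56.f622520 IH) (Lpn (LP (LK LD1_c5 LD2_c52 LD3_c29))))
theorem f719101 : Led Lsl_bf (LP (LK LD1_c9 LD2_c51 LD3_c13)) = (LP (LK LD1_c18 LD2_c1 LD3_c56)) :=
  Lgr Lrot96 (Lpr_et (f622524 IH) (Lpr_bt (f622526 IH) (Lpr_et (f719099 IH) (Lpn (LP (LK LD1_c18 LD2_c1 LD3_c56))))))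
theorem f383529 : Led Lsl_ct (LP (LK LD1_c5 LD2_c44 LD3_c20)) = (LP (LK LD1_c11 LD2_c18 LD3_c48)) :=
  Lre_c IH (LK LD1_c5 LD2_c44 LD3_c20) (LK LD1_c11 LD2_c18 LD3_c48) Lrfl Lrfl
theorem f564055 : Led Lsl_gt (LP (LK LD1_c11 LD2_c18 LD3_c48)) = (LP (LK LD1_c20 LD2_c15 LD3_c24)) :=
  Lre_g IH (LK LD1_c11 LD2_c18 LD3_c48) (LK LD1_c20 LD2_c15 LD3_c24) Lrfl Lrfl
theorem f904008 : Led Lsl_ct (LP (LK LD1_c18 LD2_c1 LD3_c56)) = (LP (LK LD1_c20 LD2_c15 LD3_c24)) :=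
  Lgr Lrot10 (Lpe (f719101 IH) (Lpr_gt (f751041 IH) (Lpe (f751031 IH) (Lpr_gt (f904006 IH) (Lpe (f903999 IH) (Lpr_bt (f699806 IH) (Lpe (f747734 IH) (Lpe (K40.f383572 IH) (Lpr_ct (f383529 IH) (Lpr_gt (f564055 IH) (Lpn (LP (LK LD1_c20 LD2_c15 LD3_c24)))))))))))))
theorem f904009 : Led Lsl_ct (LP (LK LD1_c18 LD2_c1 LD3_c56)) = (LP (LK LD1_c20 LD2_c15 LD3_c24)) :=
  Leop (Lpe (f904008 IH) (Lpn (LP (LK LD1_c18 LD2_c1 LD3_c56))))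
theorem seed_2260 : LEOK LG_c (LK LD1_c18 LD2_c1 LD3_c56) :=
  Leoe_c (LK LD1_c18 LD2_c1 LD3_c56) (f904009 IH)
def v38729 : LQ := Led Lsl_bt (LP (LK LD1_c9 LD2_c14 LD3_c45))
theorem f904125 : Led Lsl_bt (LP (LK LD1_c9 LD2_c14 LD3_c45)) = v38729 :=
  Lrfl
theorem f599807 : Led Lsl_df (LP (LK LD1_c5 LD2_c50 LD3_c23)) = (LP (LK LD1_c9 LD2_c14 LD3_c45)) :=
  Lgr Lrot38 (Lpr_dt (K49.f599804 IH) (Lpn (LP (LK LD1_c9 LD2_c14 LD3_c45))))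
theorem f622976 : Led Lsl_ef (LP (LK LD1_c9 LD2_c14 LD3_c45)) = (LP (LK LD1_c4 LD2_c49 LD3_c52)) :=
  Lgr Lrot73 (Lpe (f599807 IH) (Lpr_et (K49.f499957 IH) (Lpr_dt (K41.f446048 IH) (Lpe (K35.f622966 IH) (Lpr_dt (K35.f622968 IH) (Lpn (LP (LK LD1_c4 LD2_c49 LD3_c52))))))))
theorem f414958 : Led Lsl_bt (LP (LK LD1_c9 LD2_c32 LD3_c20)) = (LP (LK LD1_c4 LD2_c49 LD3_c52)) :=
  Lre_b IH (LK LD1_c9 LD2_c32 LD3_c20) (LK LD1_c4 LD2_c49 LD3_c52) Lrfl Lrfl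
theorem f904128 : Led Lsl_ef (LP (LK LD1_c9 LD2_c32 LD3_c20)) = v38729 :=
  Lgr Lrot29 (Lpr_bt (f414958 IH) (Lpe (f622976 IH) (Lpr_bt (f904125 IH) (Lpn v38729))))
theorem f904133 : Led Lsl_et (LP (LK LD1_c9 LD2_c32 LD3_c20)) = v38729 :=
  Lgr Lrot87 (Lpr_ef (f904128 IH) (Lpn v38729))
theorem f622972 : Led Lsl_df (LP (LK LD1_c11 LD2_c31 LD3_c3)) = (LP (LK LD1_c9 LD2_c32 LD3_c20)) :=
  Lgr Lrot12 (Lpr_bt (K49.f416675 IH) (Lpr_dt (K35.f622968 IH) (Lpr_bt (K65.f415053 IH) (Lpn (LP (LK LD1_c9 LD2_c32 LD3_c20))))))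
def v38680 : LQ := Led Lsl_ft (LP (LK LD1_c9 LD2_c14 LD3_c15))
theorem f903728 : Led Lsl_ft (LP (LK LD1_c9 LD2_c14 LD3_c15)) = v38680 :=
  Lrfl
theorem f903732 : Led Lsl_ff (LP (LK LD1_c9 LD2_c14 LD3_c15)) = v38680 :=
  Lgr Lrot3 (Lpr_ft (f903728 IH) (Lpn v38680))
theorem f268330 : Led Lsl_af (LP (LK LD1_c6 LD2_c3 LD3_c37)) = (LP (LK LD1_c9 LD2_c14 LD3_c15)) :=
  Lgr Lrot0 (Lpr_at (K49.f268328 IH) (Lpn (LP (LK LD1_c9 LD2_c14 LD3_c15))))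
theorem f903736 : Led Lsl_gf (LP (LK LD1_c11 LD2_c50 LD3_c49)) = v38680 :=
  Lgr Lrot47 (Lpr_gt (K49.f175687 IH) (Lpr_af (f268330 IH) (Lpr_ff (f903732 IH) (Lpn v38680))))
theorem f268292 : Led Lsl_ft (LP (LK LD1_c4 LD2_c39 LD3_c19)) = (LP (LK LD1_c9 LD2_c14 LD3_c18)) :=
  Lre_f IH (LK LD1_c4 LD2_c39 LD3_c19) (LK LD1_c9 LD2_c14 LD3_c18) Lrfl Lrfl
theorem f903734 : Led Lsl_ct (LP (LK LD1_c9 LD2_c14 LD3_c18)) = v38680 :=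
  Lgr Lrot40 (Lpe (f268292 IH) (Lpe (K49.f268336 IH) (Lpr_ff (f903732 IH) (Lpn v38680))))
theorem f186216 : Led Lsl_et (LP (LK LD1_c6 LD2_c3 LD3_c38)) = (LP (LK LD1_c11 LD2_c50 LD3_c51)) :=
  Lre_e IH (LK LD1_c6 LD2_c3 LD3_c38) (LK LD1_c11 LD2_c50 LD3_c51) Lrfl Lrfl
theorem f508193 : Led Lsl_at (LP (LK LD1_c11 LD2_c50 LD3_c51)) = (LP (LK LD1_c17 LD2_c8 LD3_c36)) :=
  Lgr Lrot80 (Lpe (f186216 IH) (Lpr_af (K50.f508187 IH) (Lpe (K50.f268362 IH) (Lpn (LP (LK LD1_c17 LD2_c8 LD3_c36))))))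
theorem f508111 : Led Lsl_at (LP (LK LD1_c9 LD2_c31 LD3_c22)) = (LP (LK LD1_c6 LD2_c45 LD3_c27)) :=
  Lgr Lrot80 (Lpe (K53.f416531 IH) (Lpr_af (K35.f508107 IH) (Lpe (K67.f166198 IH) (Lpn (LP (LK LD1_c6 LD2_c45 LD3_c27))))))
theorem f508199 : Led Lsl_ff (LP (LK LD1_c11 LD2_c50 LD3_c51)) = (LP (LK LD1_c6 LD2_c45 LD3_c27)) :=
  Lgr Lrot30 (Lpr_at (f508193 IH) (Lpe (K53.f508183 IH) (Lpr_at (f508111 IH) (Lpn (LP (LK LD1_c6 LD2_c45 LD3_c27))))))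
theorem f508203 : Led Lsl_ft (LP (LK LD1_c6 LD2_c3 LD3_c38)) = (LP (LK LD1_c9 LD2_c14 LD3_c17)) :=
  Lgr Lrot86 (Lpe (K55.f186208 IH) (Lpr_ff (f508199 IH) (Lpe (K17.f180330 IH) (Lpe (K35.f508103 IH) (Lpr_ef (K35.f494584 IH) (Lpn (LP (LK LD1_c9 LD2_c14 LD3_c17))))))))
theorem f711021 : Led Lsl_bf (LP (LK LD1_c6 LD2_c3 LD3_c38)) = (LP (LK LD1_c11 LD2_c47 LD3_c36)) :=
  Lgr Lrot61 (Lpr_ft (f508203 IH) (Lpe (K52.f643584 IH) (Lpr_ft (K52.f711019 IH) (Lpn (LP (LK LD1_c11 LD2_c47 LD3_c36))))))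
theorem f642241 : Led Lsl_ct (LP (LK LD1_c4 LD2_c59 LD3_c4)) = (LP (LK LD1_c9 LD2_c48 LD3_c38)) :=
  Lre_c IH (LK LD1_c4 LD2_c59 LD3_c4) (LK LD1_c9 LD2_c48 LD3_c38) Lrfl Lrfl
theorem f139031 : Led Lsl_bt (LP (LK LD1_c4 LD2_c59 LD3_c4)) = (LP (LK LD1_c9 LD2_c48 LD3_c17)) :=
  Lre_b IH (LK LD1_c4 LD2_c59 LD3_c4) (LK LD1_c9 LD2_c48 LD3_c17) Lrfl Lrfl
theorem f904130 : Led Lsl_gf (LP (LK LD1_c9 LD2_c48 LD3_c17)) = v38729 :=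
  Lgr Lrot124 (Lpe (f139031 IH) (Lpr_ct (f642241 IH) (Lpr_gt (K52.f562420 IH) (Lpe (K52.f711042 IH) (Lpe (f711021 IH) (Lpr_gt (K55.f268354 IH) (Lpr_ct (f903734 IH) (Lpe (f903736 IH) (Lpe (K55.f623100 IH) (Lpr_bt (f904125 IH) (Lpn v38729)))))))))))
theorem f539785 : Led Lsl_et (LP (LK LD1_c4 LD2_c58 LD3_c59)) = (LP (LK LD1_c9 LD2_c48 LD3_c17)) :=
  Lre_e IH (LK LD1_c4 LD2_c58 LD3_c59) (LK LD1_c9 LD2_c48 LD3_c17) Lrfl Lrfl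
theorem f876569 : Led Lsl_dt (LP (LK LD1_c12 LD2_c56 LD3_c26)) = (LP (LK LD1_c20 LD2_c27 LD3_c59)) :=
  Lgr Lrot42 (Lpr_df (K67.f876567 IH) (Lpn (LP (LK LD1_c20 LD2_c27 LD3_c59))))
theorem f904134 : Led Lsl_gf (LP (LK LD1_c11 LD2_c31 LD3_c3)) = (LP (LK LD1_c20 LD2_c27 LD3_c59)) :=
  Lgr Lrot134 (Lpr_df (f622972 IH) (Lpr_et (f904133 IH) (Lpe (f904130 IH) (Lpe (f539785 IH) (Lpr_dt (K43.f101745 IH) (Lpe (K36.f539778 IH) (Lpe (K7.f100452 IH) (Lpe (K7.f100466 IH) (Lpr_gt (K60.f782086 IH) (Lpr_dt (f876569 IH) (Lpn (LP (LK LD1_c20 LD2_c27 LD3_c59)))))))))))))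
theorem f904135 : Led Lsl_gt (LP (LK LD1_c20 LD2_c27 LD3_c59)) = (LP (LK LD1_c11 LD2_c31 LD3_c3)) :=
  Leop (Lpr_gf (f904134 IH) (Lpn (LP (LK LD1_c20 LD2_c27 LD3_c59))))
theorem seed_2261 : LEOK LG_g (LK LD1_c20 LD2_c27 LD3_c59) :=
  Leoe_g (LK LD1_c20 LD2_c27 LD3_c59) (f904135 IH)
theorem f904126 : Led Lsl_bf (LP (LK LD1_c9 LD2_c14 LD3_c45)) = v38729 :=
  Lgr Lrot24 (Lpr_bt (f904125 IH) (Lpn v38729))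
theorem f151879 : Led Lsl_bt (LP (LK LD1_c2 LD2_c52 LD3_c43)) = (LP (LK LD1_c5 LD2_c52 LD3_c34)) :=
  Lre_b IH (LK LD1_c2 LD2_c52 LD3_c43) (LK LD1_c5 LD2_c52 LD3_c34) Lrfl Lrfl
def v4918 : LQ := Led Lsl_ct (LP (LK LD1_c2 LD2_c52 LD3_c43))
theorem f640911 : Led Lsl_ct (LP (LK LD1_c2 LD2_c52 LD3_c43)) = v4918 :=
  Lrfl
def v12998 : LQ := Led Lsl_ct (LP (LK LD1_c4 LD2_c36 LD3_c33))
theorem f700103 : Led Lsl_ct (LP (LK LD1_c4 LD2_c36 LD3_c33)) = v12998 :=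
  Lrfl
theorem f640912 : Led Lsl_cf (LP (LK LD1_c2 LD2_c52 LD3_c43)) = v4918 :=
  Lgr Lrot11 (Lpr_ct (f640911 IH) (Lpn v4918))
theorem f700107 : Led Lsl_gf v4918 = v12998 :=
  Lgr Lrot104 (Lpe (f640912 IH) (Lpe (K10.f22556 IH) (Lpe (K7.f22517 IH) (Lpe (K24.f151924 IH) (Lpr_cf (K32.f494883 IH) (Lpqs (K32.f504713 IH) (Lpe (K32.f71361 IH) (Lpe (K48.f72053 IH) (Lpr_gt (K24.f23027 IH) (Lpr_ct (f700103 IH) (Lpn v12998)))))))))))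
theorem f72041 : Led Lsl_bt (LP (LK LD1_c4 LD2_c36 LD3_c20)) = (LP (LK LD1_c2 LD2_c15 LD3_c26)) :=
  Lre_b IH (LK LD1_c4 LD2_c36 LD3_c20) (LK LD1_c2 LD2_c15 LD3_c26) Lrfl Lrfl
theorem f579417 : Led Lsl_gt (LP (LK LD1_c17 LD2_c1 LD3_c37)) = (LP (LK LD1_c9 LD2_c8 LD3_c51)) :=
  Lre_g IH (LK LD1_c17 LD2_c1 LD3_c37) (LK LD1_c9 LD2_c8 LD3_c51) Lrfl Lrfl
theorem f904155 : Led Lsl_cf (LP (LK LD1_c17 LD2_c1 LD3_c37)) = v38729 :=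
  Lgr Lrot160 (Lpr_gt (f579417 IH) (Lpe (f631876 IH) (Lpr_bt (f72041 IH) (Lpr_gt (K24.f23027 IH) (Lpr_ct (f700103 IH) (Lpe (f700107 IH) (Lpe (f640911 IH) (Lpr_bt (f151879 IH) (Lpr_gt (K54.f599812 IH) (Lpr_bf (f904126 IH) (Lpn v38729)))))))))))
theorem f415050 : Led Lsl_ct (LP (LK LD1_c17 LD2_c34 LD3_c39)) = (LP (LK LD1_c9 LD2_c32 LD3_c20)) :=
  Lre_c IH (LK LD1_c17 LD2_c34 LD3_c39) (LK LD1_c9 LD2_c32 LD3_c20) Lrfl Lrfl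
theorem f904157 : Led Lsl_et (LP (LK LD1_c17 LD2_c1 LD3_c37)) = (LP (LK LD1_c17 LD2_c34 LD3_c39)) :=
  Lgr Lrot158 (Lpr_cf (f904155 IH) (Lpe (f904133 IH) (Lpe (f415050 IH) (Lpn (LP (LK LD1_c17 LD2_c34 LD3_c39))))))
theorem f904158 : Led Lsl_et (LP (LK LD1_c17 LD2_c1 LD3_c37)) = (LP (LK LD1_c17 LD2_c34 LD3_c39)) :=
  Leop (Lpe (f904157 IH) (Lpn (LP (LK LD1_c17 LD2_c1 LD3_c37))))
theorem seed_2262 : LEOK LG_e (LK LD1_c17 LD2_c1 LD3_c37) :=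
  Leoe_e (LK LD1_c17 LD2_c1 LD3_c37) (f904158 IH)
theorem f904129 : Led Lsl_ff (LP (LK LD1_c11 LD2_c31 LD3_c31)) = v38729 :=
  Lgr Lrot25 (Lpr_bt (f500346 IH) (Lpr_ft (K49.f622944 IH) (Lpr_bt (f904125 IH) (Lpn v38729))))
theorem f904132 : Led Lsl_ft (LP (LK LD1_c11 LD2_c31 LD3_c31)) = v38729 :=
  Lgr Lrot48 (Lpr_ff (f904129 IH) (Lpn v38729))
theorem f599783 : Led Lsl_ct (LP (LK LD1_c20 LD2_c28 LD3_c10)) = (LP (LK LD1_c11 LD2_c31 LD3_c31)) :=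
  Lre_c IH (LK LD1_c20 LD2_c28 LD3_c10) (LK LD1_c11 LD2_c31 LD3_c31) Lrfl Lrfl
theorem f904159 : Led Lsl_ft (LP (LK LD1_c17 LD2_c1 LD3_c37)) = (LP (LK LD1_c20 LD2_c28 LD3_c10)) :=
  Lgr Lrot4 (Lpr_cf (f904155 IH) (Lpe (f904132 IH) (Lpe (f599783 IH) (Lpn (LP (LK LD1_c20 LD2_c28 LD3_c10))))))
theorem f904160 : Led Lsl_ft (LP (LK LD1_c17 LD2_c1 LD3_c37)) = (LP (LK LD1_c20 LD2_c28 LD3_c10)) :=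
  Leop (Lpe (f904159 IH) (Lpn (LP (LK LD1_c17 LD2_c1 LD3_c37))))
theorem seed_2263 : LEOK LG_f (LK LD1_c17 LD2_c1 LD3_c37) :=
  Leoe_f (LK LD1_c17 LD2_c1 LD3_c37) (f904160 IH)
def v38735 : LQ := Led Lsl_gt (LP (LK LD1_c9 LD2_c15 LD3_c5))
theorem f904199 : Led Lsl_gt (LP (LK LD1_c9 LD2_c15 LD3_c5)) = v38735 :=
  Lrfl
theorem f412363 : Led Lsl_et (LP (LK LD1_c9 LD2_c14 LD3_c20)) = (LP (LK LD1_c4 LD2_c39 LD3_c20)) :=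
  Lre_e IH (LK LD1_c9 LD2_c14 LD3_c20) (LK LD1_c4 LD2_c39 LD3_c20) Lrfl Lrfl
theorem f705618 : Led Lsl_df (LP (LK LD1_c4 LD2_c49 LD3_c22)) = K51.v13872 :=
  Lgr Lrot38 (Lpr_dt (K51.f705615 IH) (Lpn K51.v13872))
theorem f510185 : Led Lsl_ft (LP (LK LD1_c3 LD2_c20 LD3_c45)) = (LP (LK LD1_c4 LD2_c49 LD3_c24)) :=
  Lgr Lrot48 (Lpr_ff (K49.f510180 IH) (Lpn (LP (LK LD1_c4 LD2_c49 LD3_c24))))
theorem f705620 : Led Lsl_at (LP (LK LD1_c4 LD2_c49 LD3_c24)) = K51.v13872 :=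
  Lgr Lrot66 (Lpe (f510185 IH) (Lpe (K60.f509392 IH) (Lpr_ff (K51.f705619 IH) (Lpn K51.v13872))))
theorem f705626 : Led Lsl_gt K60.v6356 = K51.v13872 :=
  Lgr Lrot46 (Lpe (K60.f652967 IH) (Lpr_ft (f510185 IH) (Lpr_at (f705620 IH) (Lpn K51.v13872))))
def v26160 : LQ := Led Lsl_et K60.v6356
theorem f832358 : Led Lsl_et K60.v6356 = v26160 :=
  Lrfl
theorem f832359 : Led Lsl_ef K60.v6356 = v26160 :=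
  Lgr Lrot88 (Lpr_et (f832358 IH) (Lpn v26160))
theorem f904201 : Led Lsl_dt v26160 = v38735 :=
  Lgr Lrot37 (Lpe (f832359 IH) (Lpr_gt (f705626 IH) (Lpe (f705618 IH) (Lpq (K51.f707332 IH) (Lpe (K51.f641097 IH) (Lpe (K52.f163128 IH) (Lpr_et (K52.f542689 IH) (Lpe (K36.f542685 IH) (Lpe (f412363 IH) (Lpr_dt (K36.f542683 IH) (Lpr_gt (f904199 IH) (Lpn v38735))))))))))))
def v38351 : LQ := Led Lsl_et (LP (LK LD1_c9 LD2_c9 LD3_c12))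
theorem f901495 : Led Lsl_et (LP (LK LD1_c9 LD2_c9 LD3_c12)) = v38351 :=
  Lrfl
theorem f901499 : Led Lsl_ff v26160 = v38351 :=
  Lgr Lrot72 (Lpe (f832359 IH) (Lpr_ft (K60.f781183 IH) (Lpq (K60.f781185 IH) (Lpe (K60.f748381 IH) (Lpe (f507772 IH) (Lpr_et (f901495 IH) (Lpn v38351)))))))
theorem f901498 : Led Lsl_ef (LP (LK LD1_c9 LD2_c9 LD3_c12)) = v38351 :=
  Lgr Lrot88 (Lpr_et (f901495 IH) (Lpn v38351))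
theorem f621239 : Led Lsl_dt (LP (LK LD1_c9 LD2_c12 LD3_c25)) = (LP (LK LD1_c17 LD2_c6 LD3_c39)) :=
  Lre_d IH (LK LD1_c9 LD2_c12 LD3_c25) (LK LD1_c17 LD2_c6 LD3_c39) Lrfl Lrfl
theorem f653046 : Led Lsl_ft (LP (LK LD1_c17 LD2_c6 LD3_c39)) = (LP (LK LD1_c11 LD2_c49 LD3_c28)) :=
  Lgr Lrot54 (Lpe (f621239 IH) (Lpr_ff (f653038 IH) (Lpe (K42.f505202 IH) (Lpn (LP (LK LD1_c11 LD2_c49 LD3_c28))))))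
theorem f411198 : Led Lsl_bt (LP (LK LD1_c11 LD2_c49 LD3_c28)) = (LP (LK LD1_c6 LD2_c2 LD3_c40)) :=
  Lre_b IH (LK LD1_c11 LD2_c49 LD3_c28) (LK LD1_c6 LD2_c2 LD3_c40) Lrfl Lrfl
theorem f507737 : Led Lsl_ff (LP (LK LD1_c9 LD2_c13 LD3_c61)) = (LP (LK LD1_c6 LD2_c2 LD3_c40)) :=
  Lgr Lrot19 (Lpr_dt (K46.f22992 IH) (Lpr_ft (K35.f507733 IH) (Lpr_dt (K29.f411195 IH) (Lpn (LP (LK LD1_c6 LD2_c2 LD3_c40))))))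
theorem f653048 : Led Lsl_bf (LP (LK LD1_c17 LD2_c6 LD3_c39)) = (LP (LK LD1_c9 LD2_c13 LD3_c61)) :=
  Lgr Lrot61 (Lpr_ft (f653046 IH) (Lpr_bt (f411198 IH) (Lpe (f507737 IH) (Lpn (LP (LK LD1_c9 LD2_c13 LD3_c61))))))
theorem f183459 : Led Lsl_bt (LP (LK LD1_c11 LD2_c57 LD3_c57)) = (LP (LK LD1_c6 LD2_c7 LD3_c47)) :=
  Lre_b IH (LK LD1_c11 LD2_c57 LD3_c57) (LK LD1_c6 LD2_c7 LD3_c47) Lrfl Lrfl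
theorem f653055 : Led Lsl_et (LP (LK LD1_c17 LD2_c6 LD3_c39)) = (LP (LK LD1_c11 LD2_c57 LD3_c57)) :=
  Lgr Lrot74 (Lpr_bf (f653048 IH) (Lpe (K49.f645385 IH) (Lpe (f183459 IH) (Lpn (LP (LK LD1_c11 LD2_c57 LD3_c57))))))
theorem f901502 : Led Lsl_dt (LP (LK LD1_c11 LD2_c57 LD3_c57)) = v38351 :=
  Lgr Lrot77 (Lpe (f653055 IH) (Lpe (f621239 IH) (Lpr_ef (K46.f653026 IH) (Lpe (f653023 IH) (Lpr_ef (f901498 IH) (Lpn v38351))))))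
theorem f904204 : Led Lsl_ff (LP (LK LD1_c11 LD2_c57 LD3_c57)) = v38735 :=
  Lgr Lrot19 (Lpr_dt (f901502 IH) (Lpe (f901499 IH) (Lpr_dt (f904201 IH) (Lpn v38735))))
theorem f904206 : Led Lsl_ft (LP (LK LD1_c11 LD2_c57 LD3_c57)) = v38735 :=
  Lgr Lrot48 (Lpr_ff (f904204 IH) (Lpn v38735))
theorem f547973 : Led Lsl_et (LP (LK LD1_c9 LD2_c15 LD3_c2)) = (LP (LK LD1_c17 LD2_c9 LD3_c28)) :=
  Lre_e IH (LK LD1_c9 LD2_c15 LD3_c2) (LK LD1_c17 LD2_c9 LD3_c28) Lrfl Lrfl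
theorem f723173 : Led Lsl_df (LP (LK LD1_c17 LD2_c4 LD3_c34)) = (LP (LK LD1_c10 LD2_c17 LD3_c16)) :=
  Lgr Lrot78 (Lpr_ft (K53.f157182 IH) (Lpr_dt (K36.f157172 IH) (Lpr_ft (K53.f723169 IH) (Lpn (LP (LK LD1_c10 LD2_c17 LD3_c16))))))
theorem f719609 : Led Lsl_gt (LP (LK LD1_c17 LD2_c4 LD3_c34)) = (LP (LK LD1_c9 LD2_c12 LD3_c25)) :=
  Lgr Lrot5 (Lpr_ft (K53.f157182 IH) (Lpq (K53.f719602 IH) (Lpe (K53.f700691 IH) (Lpe (K46.f615056 IH) (Lpn (LP (LK LD1_c9 LD2_c12 LD3_c25)))))))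
theorem f621236 : Led Lsl_dt (LP (LK LD1_c17 LD2_c6 LD3_c39)) = (LP (LK LD1_c9 LD2_c12 LD3_c25)) :=
  Lre_d IH (LK LD1_c17 LD2_c6 LD3_c39) (LK LD1_c9 LD2_c12 LD3_c25) Lrfl Lrfl
theorem f723198 : Led Lsl_gf (LP (LK LD1_c17 LD2_c9 LD3_c28)) = (LP (LK LD1_c11 LD2_c57 LD3_c57)) :=
  Lgr Lrot141 (Lpe (f547973 IH) (Lpr_dt (K42.f542790 IH) (Lpe (K38.f547179 IH) (Lpe (K45.f547904 IH) (Lpr_et (K36.f547906 IH) (Lpr_gt (K53.f723183 IH) (Lpe (f723173 IH) (Lpr_gt (f719609 IH) (Lpe (f621236 IH) (Lpr_et (f653055 IH) (Lpn (LP (LK LD1_c11 LD2_c57 LD3_c57)))))))))))))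
theorem f547828 : Led Lsl_dt (LP (LK LD1_c4 LD2_c35 LD3_c37)) = (LP (LK LD1_c2 LD2_c16 LD3_c57)) :=
  Lgr Lrot42 (Lpr_df (K36.f547821 IH) (Lpn (LP (LK LD1_c2 LD2_c16 LD3_c57))))
theorem f547974 : Led Lsl_gf (LP (LK LD1_c16 LD2_c59 LD3_c43)) = (LP (LK LD1_c17 LD2_c9 LD3_c28)) :=
  Lgr Lrot141 (Lpe (f547972 IH) (Lpr_dt (K56.f547971 IH) (Lpr_gt (K51.f445863 IH) (Lpe (K56.f435441 IH) (Lpr_et (K56.f547939 IH) (Lpr_gt (K36.f35189 IH) (Lpr_dt (f547828 IH) (Lpr_gt (K38.f547964 IH) (Lpe (K42.f542790 IH) (Lpr_et (f547973 IH) (Lpn (LP (LK LD1_c17 LD2_c9 LD3_c28)))))))))))))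
theorem f904208 : Led Lsl_af (LP (LK LD1_c16 LD2_c59 LD3_c43)) = v38735 :=
  Lgr Lrot31 (Lpr_gf (f547974 IH) (Lpr_gf (f723198 IH) (Lpr_ft (f904206 IH) (Lpn v38735))))
theorem f904209 : Led Lsl_at (LP (LK LD1_c16 LD2_c59 LD3_c43)) = v38735 :=
  Lgr Lrot100 (Lpr_af (f904208 IH) (Lpn v38735))
theorem f542720 : Led Lsl_gt (LP (LK LD1_c17 LD2_c9 LD3_c34)) = (LP (LK LD1_c9 LD2_c15 LD3_c5)) :=
  Lre_g IH (LK LD1_c17 LD2_c9 LD3_c34) (LK LD1_c9 LD2_c15 LD3_c5) Lrfl Lrfl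
theorem f904210 : Led Lsl_ff (LP (LK LD1_c16 LD2_c59 LD3_c43)) = (LP (LK LD1_c17 LD2_c9 LD3_c34)) :=
  Lgr Lrot52 (Lpr_at (f904209 IH) (Lpe (f904199 IH) (Lpe (f542720 IH) (Lpn (LP (LK LD1_c17 LD2_c9 LD3_c34))))))
theorem f904211 : Led Lsl_ft (LP (LK LD1_c17 LD2_c9 LD3_c34)) = (LP (LK LD1_c16 LD2_c59 LD3_c43)) :=
  Leop (Lpr_ff (f904210 IH) (Lpn (LP (LK LD1_c17 LD2_c9 LD3_c34))))
theorem seed_2264 : LEOK LG_f (LK LD1_c17 LD2_c9 LD3_c34) :=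
  Leoe_f (LK LD1_c17 LD2_c9 LD3_c34) (f904211 IH)
def v38740 : LQ := Led Lsl_dt (LP (LK LD1_c9 LD2_c15 LD3_c7))
theorem f904226 : Led Lsl_dt (LP (LK LD1_c9 LD2_c15 LD3_c7)) = v38740 :=
  Lrfl
theorem f586805 : Led Lsl_et (LP (LK LD1_c9 LD2_c15 LD3_c7)) = (LP (LK LD1_c17 LD2_c9 LD3_c36)) :=
  Lre_e IH (LK LD1_c9 LD2_c15 LD3_c7) (LK LD1_c17 LD2_c9 LD3_c36) Lrfl Lrfl
theorem f185105 : Led Lsl_ct (LP (LK LD1_c5 LD2_c13 LD3_c48)) = (LP (LK LD1_c10 LD2_c17 LD3_c48)) :=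
  Lre_c IH (LK LD1_c5 LD2_c13 LD3_c48) (LK LD1_c10 LD2_c17 LD3_c48) Lrfl Lrfl
theorem f421018 : Led Lsl_dt (LP (LK LD1_c18 LD2_c42 LD3_c55)) = (LP (LK LD1_c10 LD2_c17 LD3_c48)) :=
  Lre_d IH (LK LD1_c18 LD2_c42 LD3_c55) (LK LD1_c10 LD2_c17 LD3_c48) Lrfl Lrfl
theorem f904228 : Led Lsl_gf (LP (LK LD1_c18 LD2_c42 LD3_c55)) = v38740 :=
  Lgr Lrot143 (Lpr_dt (f421018 IH) (Lpe (f185105 IH) (Lpe (K42.f495436 IH) (Lpr_gf (K37.f542369 IH) (Lpe (K38.f34936 IH) (Lpe (K38.f34937 IH) (Lpe (K45.f35201 IH) (Lpe (K45.f586812 IH) (Lpr_dt (f904226 IH) (Lpn v38740))))))))))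
theorem f495439 : Led Lsl_dt (LP (LK LD1_c10 LD2_c17 LD3_c48)) = (LP (LK LD1_c18 LD2_c42 LD3_c55)) :=
  Lre_d IH (LK LD1_c10 LD2_c17 LD3_c48) (LK LD1_c18 LD2_c42 LD3_c55) Lrfl Lrfl
theorem f198807 : Led Lsl_ct (LP (LK LD1_c10 LD2_c17 LD3_c48)) = (LP (LK LD1_c5 LD2_c13 LD3_c48)) :=
  Lre_c IH (LK LD1_c10 LD2_c17 LD3_c48) (LK LD1_c5 LD2_c13 LD3_c48) Lrfl Lrfl
theorem f562719 : Led Lsl_af (LP (LK LD1_c10 LD2_c17 LD3_c48)) = (LP (LK LD1_c9 LD2_c7 LD3_c40)) :=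
  Lgr Lrot68 (Lpr_ct (f198807 IH) (Lpr_at (K40.f562711 IH) (Lpr_ct (K53.f442797 IH) (Lpn (LP (LK LD1_c9 LD2_c7 LD3_c40))))))
theorem f699276 : Led Lsl_ef (LP (LK LD1_c10 LD2_c11 LD3_c61)) = (LP (LK LD1_c10 LD2_c17 LD3_c48)) :=
  Lgr Lrot20 (Lpr_at (K53.f249902 IH) (Lpr_et (K53.f699274 IH) (Lpe (f562719 IH) (Lpn (LP (LK LD1_c10 LD2_c17 LD3_c48))))))
theorem f249891 : Led Lsl_at (LP (LK LD1_c9 LD2_c58 LD3_c42)) = (LP (LK LD1_c5 LD2_c3 LD3_c54)) :=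
  Lre_a IH (LK LD1_c9 LD2_c58 LD3_c42) (LK LD1_c5 LD2_c3 LD3_c54) Lrfl Lrfl
theorem f248836 : Led Lsl_at (LP (LK LD1_c5 LD2_c10 LD3_c40)) = (LP (LK LD1_c10 LD2_c11 LD3_c61)) :=
  Lre_a IH (LK LD1_c5 LD2_c10 LD3_c40) (LK LD1_c10 LD2_c11 LD3_c61) Lrfl Lrfl
theorem f249892 : Led Lsl_ff (LP (LK LD1_c9 LD2_c58 LD3_c42)) = (LP (LK LD1_c10 LD2_c11 LD3_c61)) :=
  Lgr Lrot30 (Lpr_at (f249891 IH) (Lpr_ft (K14.f249879 IH) (Lpr_at (f248836 IH) (Lpn (LP (LK LD1_c10 LD2_c11 LD3_c61))))))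
theorem f165672 : Led Lsl_gt (LP (LK LD1_c9 LD2_c58 LD3_c45)) = (LP (LK LD1_c5 LD2_c3 LD3_c54)) :=
  Lre_g IH (LK LD1_c9 LD2_c58 LD3_c45) (LK LD1_c5 LD2_c3 LD3_c54) Lrfl Lrfl
theorem f417537 : Led Lsl_gf (LP (LK LD1_c9 LD2_c58 LD3_c45)) = (LP (LK LD1_c10 LD2_c11 LD3_c61)) :=
  Lgr Lrot47 (Lpr_gt (f165672 IH) (Lpe (f249891 IH) (Lpr_ff (f249892 IH) (Lpn (LP (LK LD1_c10 LD2_c11 LD3_c61))))))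
theorem f721278 : Led Lsl_dt (LP (LK LD1_c18 LD2_c31 LD3_c18)) = (LP (LK LD1_c18 LD2_c23 LD3_c24)) :=
  Lgr Lrot44 (Lpr_af (K53.f721276 IH) (Lpr_df (K53.f585448 IH) (Lpe (K53.f714489 IH) (Lpn (LP (LK LD1_c18 LD2_c23 LD3_c24))))))
theorem f259749 : Led Lsl_ct (LP (LK LD1_c10 LD2_c10 LD3_c1)) = (LP (LK LD1_c18 LD2_c31 LD3_c18)) :=
  Lre_c IH (LK LD1_c10 LD2_c10 LD3_c1) (LK LD1_c18 LD2_c31 LD3_c18) Lrfl Lrfl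
theorem f180734 : Led Lsl_gt (LP (LK LD1_c5 LD2_c9 LD3_c55)) = (LP (LK LD1_c2 LD2_c32 LD3_c0)) :=
  Lre_g IH (LK LD1_c5 LD2_c9 LD3_c55) (LK LD1_c2 LD2_c32 LD3_c0) Lrfl Lrfl
theorem f710750 : Led Lsl_gf (LP (LK LD1_c10 LD2_c4 LD3_c39)) = (LP (LK LD1_c9 LD2_c58 LD3_c46)) :=
  Lgr Lrot47 (Lpr_gt (K53.f710748 IH) (Lpr_af (K53.f562721 IH) (Lpe (K53.f699324 IH) (Lpn (LP (LK LD1_c9 LD2_c58 LD3_c46))))))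
theorem f721328 : Led Lsl_df (LP (LK LD1_c5 LD2_c9 LD3_c55)) = (LP (LK LD1_c9 LD2_c58 LD3_c45)) :=
  Lgr Lrot155 (Lpr_gt (f180734 IH) (Lpr_ct (K44.f180576 IH) (Lpr_gt (K53.f180577 IH) (Lpr_ct (f259749 IH) (Lpr_dt (f721278 IH) (Lpe (K53.f166283 IH) (Lpr_gf (f710750 IH) (Lpe (K53.f165690 IH) (Lpe (f165672 IH) (Lpn (LP (LK LD1_c9 LD2_c58 LD3_c45))))))))))))
theorem f180623 : Led Lsl_dt (LP (LK LD1_c5 LD2_c9 LD3_c57)) = (LP (LK LD1_c2 LD2_c32 LD3_c0)) :=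
  Lre_d IH (LK LD1_c5 LD2_c9 LD3_c57) (LK LD1_c2 LD2_c32 LD3_c0) Lrfl Lrfl
theorem f299924 : Led Lsl_et (LP (LK LD1_c5 LD2_c9 LD3_c57)) = (LP (LK LD1_c10 LD2_c10 LD3_c43)) :=
  Lre_e IH (LK LD1_c5 LD2_c9 LD3_c57) (LK LD1_c10 LD2_c10 LD3_c43) Lrfl Lrfl
theorem f904229 : Led Lsl_gf (LP (LK LD1_c17 LD2_c9 LD3_c36)) = (LP (LK LD1_c10 LD2_c10 LD3_c43)) :=
  Lgr Lrot141 (Lpe (f586805 IH) (Lpr_dt (f904226 IH) (Lpe (f904228 IH) (Lpe (f495439 IH) (Lpe (f699276 IH) (Lpe (f417537 IH) (Lpe (f721328 IH) (Lpr_gt (f180734 IH) (Lpe (f180623 IH) (Lpr_et (f299924 IH) (Lpn (LP (LK LD1_c10 LD2_c10 LD3_c43)))))))))))))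
theorem f904230 : Led Lsl_gt (LP (LK LD1_c10 LD2_c10 LD3_c43)) = (LP (LK LD1_c17 LD2_c9 LD3_c36)) :=
  Leop (Lpr_gf (f904229 IH) (Lpn (LP (LK LD1_c10 LD2_c10 LD3_c43))))
theorem seed_2265 : LEOK LG_g (LK LD1_c10 LD2_c10 LD3_c43) :=
  Leoe_g (LK LD1_c10 LD2_c10 LD3_c43) (f904230 IH)
def v38746 : LQ := Led Lsl_ct (LP (LK LD1_c9 LD2_c15 LD3_c12))
theorem f904246 : Led Lsl_ct (LP (LK LD1_c9 LD2_c15 LD3_c12)) = v38746 :=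
  Lrfl
theorem f547926 : Led Lsl_dt (LP (LK LD1_c16 LD2_c59 LD3_c58)) = (LP (LK LD1_c9 LD2_c9 LD3_c61)) :=
  Lgr Lrot42 (Lpr_df (K36.f547920 IH) (Lpn (LP (LK LD1_c9 LD2_c9 LD3_c61))))
theorem f157885 : Led Lsl_ct (LP (LK LD1_c17 LD2_c2 LD3_c21)) = (LP (LK LD1_c11 LD2_c25 LD3_c25)) :=
  Lgr Lrot15 (Lpe (K56.f157884 IH) (Lpr_cf (K8.f157875 IH) (Lpe (K51.f132440 IH) (Lpn (LP (LK LD1_c11 LD2_c25 LD3_c25))))))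
theorem f100316 : Led Lsl_dt (LP (LK LD1_c11 LD2_c25 LD3_c25)) = (LP (LK LD1_c20 LD2_c22 LD3_c50)) :=
  Lre_d IH (LK LD1_c11 LD2_c25 LD3_c25) (LK LD1_c20 LD2_c22 LD3_c50) Lrfl Lrfl
theorem f904250 : Led Lsl_gf (LP (LK LD1_c26 LD2_c55 LD3_c6)) = v38746 :=
  Lgr Lrot104 (Lpe (K43.f574443 IH) (Lpe (f100316 IH) (Lpe (f157885 IH) (Lpr_gf (K56.f752432 IH) (Lpe (K56.f100106 IH) (Lpe (K56.f100100 IH) (Lpe (f547926 IH) (Lpr_gt (K36.f547918 IH) (Lpr_ct (f904246 IH) (Lpn v38746))))))))))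
theorem f302720 : Led Lsl_ct (LP (LK LD1_c18 LD2_c42 LD3_c12)) = (LP (LK LD1_c10 LD2_c17 LD3_c16)) :=
  Lre_c IH (LK LD1_c18 LD2_c42 LD3_c12) (LK LD1_c10 LD2_c17 LD3_c16) Lrfl Lrfl
theorem f904249 : Led Lsl_ff (LP (LK LD1_c18 LD2_c42 LD3_c12)) = v38746 :=
  Lgr Lrot23 (Lpr_ct (f302720 IH) (Lpe (K53.f723175 IH) (Lpr_ct (f904246 IH) (Lpn v38746))))
theorem f723343 : Led Lsl_ft (LP (LK LD1_c18 LD2_c35 LD3_c54)) = (LP (LK LD1_c10 LD2_c22 LD3_c41)) :=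
  Lgr Lrot48 (Lpr_ff (K53.f723337 IH) (Lpn (LP (LK LD1_c10 LD2_c22 LD3_c41))))
theorem f723345 : Led Lsl_ff (LP (LK LD1_c18 LD2_c59 LD3_c43)) = (LP (LK LD1_c18 LD2_c49 LD3_c53)) :=
  Lgr Lrot25 (Lpr_bt (K53.f230212 IH) (Lpr_ft (f723343 IH) (Lpr_bt (K53.f166087 IH) (Lpn (LP (LK LD1_c18 LD2_c49 LD3_c53))))))
theorem f723349 : Led Lsl_at (LP (LK LD1_c18 LD2_c59 LD3_c43)) = (LP (LK LD1_c18 LD2_c47 LD3_c13)) :=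
  Lgr Lrot26 (Lpr_ff (f723345 IH) (Lpr_gt (K53.f585467 IH) (Lpr_gt (K44.f294772 IH) (Lpn (LP (LK LD1_c18 LD2_c47 LD3_c13))))))
theorem f723355 : Led Lsl_af (LP (LK LD1_c10 LD2_c28 LD3_c52)) = (LP (LK LD1_c10 LD2_c29 LD3_c56)) :=
  Lgr Lrot68 (Lpr_ct (K44.f230162 IH) (Lpr_at (f723349 IH) (Lpe (K44.f294767 IH) (Lpn (LP (LK LD1_c10 LD2_c29 LD3_c56))))))
theorem f723361 : Led Lsl_ft (LP (LK LD1_c10 LD2_c28 LD3_c53)) = (LP (LK LD1_c10 LD2_c29 LD3_c56)) :=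
  Lgr Lrot2 (Lpr_gt (K37.f230164 IH) (Lpr_gt (K37.f229994 IH) (Lpr_af (f723355 IH) (Lpn (LP (LK LD1_c10 LD2_c29 LD3_c56))))))
theorem f723371 : Led Lsl_ff (LP (LK LD1_c10 LD2_c28 LD3_c53)) = (LP (LK LD1_c10 LD2_c29 LD3_c56)) :=
  Lgr Lrot3 (Lpr_ft (f723361 IH) (Lpn (LP (LK LD1_c10 LD2_c29 LD3_c56))))
theorem f723380 : Led Lsl_at (LP (LK LD1_c10 LD2_c28 LD3_c53)) = (LP (LK LD1_c10 LD2_c29 LD3_c55)) :=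
  Lgr Lrot26 (Lpr_ff (f723371 IH) (Lpr_gt (K44.f252927 IH) (Lpr_gt (K53.f184859 IH) (Lpn (LP (LK LD1_c10 LD2_c29 LD3_c55))))))
theorem f723382 : Led Lsl_af (LP (LK LD1_c18 LD2_c59 LD3_c46)) = (LP (LK LD1_c18 LD2_c49 LD3_c53)) :=
  Lgr Lrot68 (Lpr_ct (K37.f230165 IH) (Lpr_at (f723380 IH) (Lpr_ct (K53.f294777 IH) (Lpn (LP (LK LD1_c18 LD2_c49 LD3_c53))))))
theorem f723527 : Led Lsl_at (LP (LK LD1_c18 LD2_c44 LD3_c48)) = (LP (LK LD1_c10 LD2_c21 LD3_c10)) :=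
  Lgr Lrot67 (Lpe (K37.f230168 IH) (Lpr_af (f723382 IH) (Lpe (K53.f166087 IH) (Lpe (K53.f723333 IH) (Lpe (K53.f215222 IH) (Lpn (LP (LK LD1_c10 LD2_c21 LD3_c10))))))))
theorem f350912 : Led Lsl_ft (LP (LK LD1_c10 LD2_c28 LD3_c54)) = (LP (LK LD1_c10 LD2_c29 LD3_c57)) :=
  Lgr Lrot4 (Lpr_cf (K37.f230193 IH) (Lpr_ff (K37.f350897 IH) (Lpe (K18.f294755 IH) (Lpn (LP (LK LD1_c10 LD2_c29 LD3_c57))))))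
theorem f351117 : Led Lsl_gt (LP (LK LD1_c10 LD2_c28 LD3_c54)) = (LP (LK LD1_c10 LD2_c29 LD3_c56)) :=
  Lgr Lrot5 (Lpr_ft (f350912 IH) (Lpr_at (K18.f294759 IH) (Lpe (K44.f252927 IH) (Lpn (LP (LK LD1_c10 LD2_c29 LD3_c56))))))
theorem f351119 : Led Lsl_gf (LP (LK LD1_c18 LD2_c44 LD3_c50)) = (LP (LK LD1_c10 LD2_c21 LD3_c9)) :=
  Lgr Lrot124 (Lpr_bf (K44.f343213 IH) (Lpr_ct (K26.f181008 IH) (Lpr_gt (K44.f343322 IH) (Lpe (K44.f252849 IH) (Lpe (K44.f252905 IH) (Lpe (K44.f350959 IH) (Lpe (K37.f230193 IH) (Lpr_gt (f351117 IH) (Lpr_cf (K44.f294767 IH) (Lpr_bt (K44.f294766 IH) (Lpn (LP (LK LD1_c10 LD2_c21 LD3_c9)))))))))))))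
theorem f723535 : Led Lsl_ff (LP (LK LD1_c18 LD2_c44 LD3_c48)) = (LP (LK LD1_c10 LD2_c21 LD3_c9)) :=
  Lgr Lrot52 (Lpr_at (f723527 IH) (Lpe (K53.f343238 IH) (Lpr_gf (f351119 IH) (Lpn (LP (LK LD1_c10 LD2_c21 LD3_c9))))))
theorem f214275 : Led Lsl_ct (LP (LK LD1_c18 LD2_c47 LD3_c14)) = (LP (LK LD1_c10 LD2_c21 LD3_c9)) :=
  Lre_c IH (LK LD1_c18 LD2_c47 LD3_c14) (LK LD1_c10 LD2_c21 LD3_c9) Lrfl Lrfl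
theorem f215221 : Led Lsl_at (LP (LK LD1_c28 LD2_c8 LD3_c23)) = (LP (LK LD1_c18 LD2_c34 LD3_c12)) :=
  Lre_a IH (LK LD1_c28 LD2_c8 LD3_c23) (LK LD1_c18 LD2_c34 LD3_c12) Lrfl Lrfl
theorem f294769 : Led Lsl_bt (LP (LK LD1_c10 LD2_c21 LD3_c9)) = (LP (LK LD1_c18 LD2_c47 LD3_c13)) :=
  Lre_b IH (LK LD1_c10 LD2_c21 LD3_c9) (LK LD1_c18 LD2_c47 LD3_c13) Lrfl Lrfl
theorem f294774 : Led Lsl_ct (LP (LK LD1_c10 LD2_c21 LD3_c9)) = (LP (LK LD1_c18 LD2_c47 LD3_c14)) :=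
  Lre_c IH (LK LD1_c10 LD2_c21 LD3_c9) (LK LD1_c18 LD2_c47 LD3_c14) Lrfl Lrfl
theorem f585762 : Led Lsl_gt (LP (LK LD1_c18 LD2_c47 LD3_c14)) = (LP (LK LD1_c25 LD2_c26 LD3_c30)) :=
  Lgr Lrot65 (Lpe (f294774 IH) (Lpr_bt (f294769 IH) (Lpe (K44.f294772 IH) (Lpe (K44.f582634 IH) (Lpr_ct (K44.f582620 IH) (Lpr_gf (K44.f582627 IH) (Lpr_cf (K2.f32473 IH) (Lpr_gf (K44.f585757 IH) (Lpe (K53.f585712 IH) (Lpe (K44.f585715 IH) (Lpn (LP (LK LD1_c25 LD2_c26 LD3_c30)))))))))))))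
theorem f604142 : Led Lsl_ff (LP (LK LD1_c28 LD2_c8 LD3_c23)) = (LP (LK LD1_c18 LD2_c47 LD3_c14)) :=
  Lgr Lrot52 (Lpr_at (f215221 IH) (Lpr_gf (K53.f604140 IH) (Lpe (f585762 IH) (Lpn (LP (LK LD1_c18 LD2_c47 LD3_c14))))))
theorem f604150 : Led Lsl_ft (LP (LK LD1_c28 LD2_c8 LD3_c23)) = (LP (LK LD1_c18 LD2_c47 LD3_c14)) :=
  Lgr Lrot48 (Lpr_ff (f604142 IH) (Lpn (LP (LK LD1_c18 LD2_c47 LD3_c14))))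
theorem f723539 : Led Lsl_ct (LP (LK LD1_c18 LD2_c44 LD3_c48)) = (LP (LK LD1_c28 LD2_c8 LD3_c23)) :=
  Lgr Lrot40 (Lpr_ff (f723535 IH) (Lpe (f214275 IH) (Lpe (f604150 IH) (Lpn (LP (LK LD1_c28 LD2_c8 LD3_c23))))))
theorem f32495 : Led Lsl_gt (LP (LK LD1_c10 LD2_c19 LD3_c44)) = (LP (LK LD1_c5 LD2_c15 LD3_c7)) :=
  Lre_g IH (LK LD1_c10 LD2_c19 LD3_c44) (LK LD1_c5 LD2_c15 LD3_c7) Lrfl Lrfl
theorem f723545 : Led Lsl_gf (LP (LK LD1_c27 LD2_c54 LD3_c47)) = (LP (LK LD1_c28 LD2_c8 LD3_c23)) :=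
  Lgr Lrot129 (Lpe (K44.f214873 IH) (Lpr_bt (K44.f32840 IH) (Lpr_gt (f32495 IH) (Lpe (K23.f32836 IH) (Lpr_ct (K1.f32448 IH) (Lpr_gt (K14.f32318 IH) (Lpe (K14.f214828 IH) (Lpr_bt (K37.f214799 IH) (Lpr_gt (K37.f214854 IH) (Lpr_ct (f723539 IH) (Lpn (LP (LK LD1_c28 LD2_c8 LD3_c23)))))))))))))
theorem f49640 : Led Lsl_bt (LP (LK LD1_c8 LD2_c16 LD3_c20)) = (LP (LK LD1_c15 LD2_c33 LD3_c2)) :=
  Lre_b IH (LK LD1_c8 LD2_c16 LD3_c20) (LK LD1_c15 LD2_c33 LD3_c2) Lrfl Lrfl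
theorem f49642 : Led Lsl_bf (LP (LK LD1_c25 LD2_c24 LD3_c5)) = (LP (LK LD1_c25 LD2_c26 LD3_c31)) :=
  Lgr Lrot90 (Lpr_ct (K44.f49639 IH) (Lpr_bt (K13.f49638 IH) (Lpr_ct (K9.f49636 IH) (Lpr_bt (f49640 IH) (Lpr_ct (K44.f49641 IH) (Lpn (LP (LK LD1_c25 LD2_c26 LD3_c31))))))))
theorem f583700 : Led Lsl_dt (LP (LK LD1_c27 LD2_c54 LD3_c47)) = (LP (LK LD1_c25 LD2_c26 LD3_c31)) :=
  Lgr Lrot79 (Lpe (K44.f214866 IH) (Lpr_df (K44.f583698 IH) (Lpr_bf (f49642 IH) (Lpn (LP (LK LD1_c25 LD2_c26 LD3_c31))))))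
theorem f49696 : Led Lsl_ct (LP (LK LD1_c25 LD2_c26 LD3_c31)) = (LP (LK LD1_c15 LD2_c33 LD3_c2)) :=
  Lre_c IH (LK LD1_c25 LD2_c26 LD3_c31) (LK LD1_c15 LD2_c33 LD3_c2) Lrfl Lrfl
theorem f49678 : Led Lsl_bt (LP (LK LD1_c15 LD2_c33 LD3_c2)) = (LP (LK LD1_c8 LD2_c16 LD3_c20)) :=
  Lre_b IH (LK LD1_c15 LD2_c33 LD3_c2) (LK LD1_c8 LD2_c16 LD3_c20) Lrfl Lrfl
theorem f212323 : Led Lsl_gt (LP (LK LD1_c5 LD2_c20 LD3_c3)) = (LP (LK LD1_c10 LD2_c30 LD3_c1)) :=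
  Lre_g IH (LK LD1_c5 LD2_c20 LD3_c3) (LK LD1_c10 LD2_c30 LD3_c1) Lrfl Lrfl
theorem f230643 : Led Lsl_gt (LP (LK LD1_c16 LD2_c34 LD3_c57)) = (LP (LK LD1_c8 LD2_c52 LD3_c9)) :=
  Lre_g IH (LK LD1_c16 LD2_c34 LD3_c57) (LK LD1_c8 LD2_c52 LD3_c9) Lrfl Lrfl
theorem f351063 : Led Lsl_gt (LP (LK LD1_c16 LD2_c35 LD3_c35)) = (LP (LK LD1_c16 LD2_c34 LD3_c57)) :=
  Lgr Lrot5 (Lpr_ft (K44.f351057 IH) (Lpr_at (K15.f230630 IH) (Lpe (f230643 IH) (Lpn (LP (LK LD1_c16 LD2_c34 LD3_c57))))))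
theorem f544778 : Led Lsl_gt (LP (LK LD1_c18 LD2_c47 LD3_c42)) = (LP (LK LD1_c19 LD2_c0 LD3_c52)) :=
  Lgr Lrot46 (Lpr_gf (K37.f544776 IH) (Lpr_ft (K18.f299542 IH) (Lpr_at (K18.f299548 IH) (Lpn (LP (LK LD1_c19 LD2_c0 LD3_c52))))))
theorem f230191 : Led Lsl_dt (LP (LK LD1_c10 LD2_c28 LD3_c53)) = (LP (LK LD1_c18 LD2_c59 LD3_c47)) :=
  Lre_d IH (LK LD1_c10 LD2_c28 LD3_c53) (LK LD1_c18 LD2_c59 LD3_c47) Lrfl Lrfl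
theorem f583928 : Led Lsl_ct (LP (LK LD1_c16 LD2_c34 LD3_c57)) = (LP (LK LD1_c18 LD2_c59 LD3_c47)) :=
  Lgr Lrot151 (Lpe (f351063 IH) (Lpr_cf (K44.f351053 IH) (Lpe (K37.f288952 IH) (Lpr_dt (K53.f583924 IH) (Lpr_gt (f544778 IH) (Lpr_ct (K53.f582677 IH) (Lpe (K44.f230166 IH) (Lpr_ct (K37.f230165 IH) (Lpr_dt (f230191 IH) (Lpn (LP (LK LD1_c18 LD2_c59 LD3_c47))))))))))))
theorem f583940 : Led Lsl_cf (LP (LK LD1_c16 LD2_c34 LD3_c57)) = (LP (LK LD1_c18 LD2_c59 LD3_c47)) :=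
  Lgr Lrot11 (Lpr_ct (f583928 IH) (Lpn (LP (LK LD1_c18 LD2_c59 LD3_c47))))
theorem f230419 : Led Lsl_bt (LP (LK LD1_c5 LD2_c19 LD3_c21)) = (LP (LK LD1_c2 LD2_c36 LD3_c21)) :=
  Lre_b IH (LK LD1_c5 LD2_c19 LD3_c21) (LK LD1_c2 LD2_c36 LD3_c21) Lrfl Lrfl
theorem f583942 : Led Lsl_bf (LP (LK LD1_c10 LD2_c30 LD3_c1)) = (LP (LK LD1_c18 LD2_c59 LD3_c47)) :=
  Lgr Lrot34 (Lpe (f212323 IH) (Lpe (K37.f212315 IH) (Lpr_ct (K20.f212318 IH) (Lpe (K12.f212310 IH) (Lpe (K12.f184084 IH) (Lpr_gf (K12.f230416 IH) (Lpe (f230419 IH) (Lpe (K44.f230563 IH) (Lpe (f230643 IH) (Lpr_cf (f583940 IH) (Lpn (LP (LK LD1_c18 LD2_c59 LD3_c47)))))))))))))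
theorem f230173 : Led Lsl_bt (LP (LK LD1_c18 LD2_c59 LD3_c45)) = (LP (LK LD1_c10 LD2_c28 LD3_c53)) :=
  Lre_b IH (LK LD1_c18 LD2_c59 LD3_c45) (LK LD1_c10 LD2_c28 LD3_c53) Lrfl Lrfl
theorem f583946 : Led Lsl_dt (LP (LK LD1_c10 LD2_c30 LD3_c1)) = (LP (LK LD1_c18 LD2_c59 LD3_c45)) :=
  Lgr Lrot79 (Lpr_bf (f583942 IH) (Lpe (f230191 IH) (Lpe (f230173 IH) (Lpn (LP (LK LD1_c18 LD2_c59 LD3_c45))))))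
theorem f723357 : Led Lsl_at (LP (LK LD1_c10 LD2_c28 LD3_c52)) = (LP (LK LD1_c10 LD2_c29 LD3_c56)) :=
  Lgr Lrot100 (Lpr_af (f723355 IH) (Lpn (LP (LK LD1_c10 LD2_c29 LD3_c56))))
theorem f723386 : Led Lsl_ff (LP (LK LD1_c10 LD2_c28 LD3_c52)) = (LP (LK LD1_c10 LD2_c29 LD3_c55)) :=
  Lgr Lrot30 (Lpr_at (f723357 IH) (Lpe (f723371 IH) (Lpr_at (f723380 IH) (Lpn (LP (LK LD1_c10 LD2_c29 LD3_c55))))))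
theorem f723390 : Led Lsl_ft (LP (LK LD1_c18 LD2_c59 LD3_c44)) = (LP (LK LD1_c19 LD2_c0 LD3_c8)) :=
  Lgr Lrot54 (Lpe (K44.f229995 IH) (Lpr_ff (f723386 IH) (Lpe (K53.f583935 IH) (Lpn (LP (LK LD1_c19 LD2_c0 LD3_c8))))))
theorem f723398 : Led Lsl_ff (LP (LK LD1_c18 LD2_c59 LD3_c44)) = (LP (LK LD1_c19 LD2_c0 LD3_c8)) :=
  Lgr Lrot3 (Lpr_ft (f723390 IH) (Lpn (LP (LK LD1_c19 LD2_c0 LD3_c8))))
theorem f586316 : Led Lsl_cf (LP (LK LD1_c19 LD2_c0 LD3_c8)) = (LP (LK LD1_c16 LD2_c35 LD3_c33)) :=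
  Lgr Lrot11 (Lpr_ct (K53.f586312 IH) (Lpn (LP (LK LD1_c16 LD2_c35 LD3_c33))))
theorem f723408 : Led Lsl_ft (LP (LK LD1_c16 LD2_c34 LD3_c56)) = (LP (LK LD1_c16 LD2_c35 LD3_c33)) :=
  Lgr Lrot4 (Lpr_cf (K44.f583819 IH) (Lpr_ff (f723398 IH) (Lpr_cf (f586316 IH) (Lpn (LP (LK LD1_c16 LD2_c35 LD3_c33))))))
theorem f723410 : Led Lsl_ff (LP (LK LD1_c26 LD2_c32 LD3_c23)) = (LP (LK LD1_c18 LD2_c54 LD3_c58)) :=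
  Lgr Lrot25 (Lpr_bt (K45.f351072 IH) (Lpr_ft (f723408 IH) (Lpe (K53.f247448 IH) (Lpn (LP (LK LD1_c18 LD2_c54 LD3_c58))))))
theorem f723426 : Led Lsl_ft (LP (LK LD1_c26 LD2_c32 LD3_c23)) = (LP (LK LD1_c18 LD2_c54 LD3_c58)) :=
  Lgr Lrot48 (Lpr_ff (f723410 IH) (Lpn (LP (LK LD1_c18 LD2_c54 LD3_c58))))
theorem f723428 : Led Lsl_ff (LP (LK LD1_c18 LD2_c51 LD3_c48)) = (LP (LK LD1_c10 LD2_c25 LD3_c45)) :=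
  Lgr Lrot23 (Lpr_ct (K45.f418922 IH) (Lpr_ft (f723426 IH) (Lpr_ct (K53.f215104 IH) (Lpn (LP (LK LD1_c10 LD2_c25 LD3_c45))))))
theorem f418921 : Led Lsl_bt (LP (LK LD1_c16 LD2_c34 LD3_c56)) = (LP (LK LD1_c26 LD2_c32 LD3_c23)) :=
  Lre_b IH (LK LD1_c16 LD2_c34 LD3_c56) (LK LD1_c26 LD2_c32 LD3_c23) Lrfl Lrfl
theorem f583821 : Led Lsl_bt (LP (LK LD1_c18 LD2_c51 LD3_c48)) = (LP (LK LD1_c28 LD2_c9 LD3_c41)) :=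
  Lgr Lrot128 (Lpr_cf (K45.f418919 IH) (Lpe (f418921 IH) (Lpr_cf (K44.f583819 IH) (Lpr_bf (K44.f230216 IH) (Lpe (K44.f214622 IH) (Lpn (LP (LK LD1_c28 LD2_c9 LD3_c41))))))))
theorem f214639 : Led Lsl_bt (LP (LK LD1_c18 LD2_c54 LD3_c57)) = (LP (LK LD1_c10 LD2_c25 LD3_c45)) :=
  Lre_b IH (LK LD1_c18 LD2_c54 LD3_c57) (LK LD1_c10 LD2_c25 LD3_c45) Lrfl Lrfl
theorem f723430 : Led Lsl_ft (LP (LK LD1_c28 LD2_c9 LD3_c41)) = (LP (LK LD1_c18 LD2_c54 LD3_c57)) :=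
  Lgr Lrot75 (Lpe (f583821 IH) (Lpr_ff (f723428 IH) (Lpe (f214639 IH) (Lpn (LP (LK LD1_c18 LD2_c54 LD3_c57))))))
theorem f723471 : Led Lsl_af (LP (LK LD1_c28 LD2_c3 LD3_c40)) = (LP (LK LD1_c18 LD2_c54 LD3_c57)) :=
  Lgr Lrot31 (Lpe (K44.f584289 IH) (Lpe (K44.f583748 IH) (Lpr_ft (f723430 IH) (Lpn (LP (LK LD1_c18 LD2_c54 LD3_c57))))))
theorem f247450 : Led Lsl_ct (LP (LK LD1_c10 LD2_c25 LD3_c45)) = (LP (LK LD1_c18 LD2_c54 LD3_c58)) :=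
  Lre_c IH (LK LD1_c10 LD2_c25 LD3_c45) (LK LD1_c18 LD2_c54 LD3_c58) Lrfl Lrfl
theorem f586318 : Led Lsl_ct (LP (LK LD1_c18 LD2_c15 LD3_c45)) = (LP (LK LD1_c18 LD2_c54 LD3_c57)) :=
  Lgr Lrot83 (Lpe (K53.f583933 IH) (Lpr_cf (f586316 IH) (Lpe (K53.f247445 IH) (Lpe (f247450 IH) (Lpe (f214639 IH) (Lpn (LP (LK LD1_c18 LD2_c54 LD3_c57))))))))
theorem f723475 : Led Lsl_at (LP (LK LD1_c18 LD2_c35 LD3_c50)) = (LP (LK LD1_c18 LD2_c15 LD3_c45)) :=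
  Lgr Lrot107 (Lpr_cf (K44.f584291 IH) (Lpr_af (f723471 IH) (Lpe (f586318 IH) (Lpn (LP (LK LD1_c18 LD2_c15 LD3_c45))))))
theorem f723481 : Led Lsl_af (LP (LK LD1_c10 LD2_c12 LD3_c52)) = (LP (LK LD1_c9 LD2_c59 LD3_c19)) :=
  Lgr Lrot117 (Lpr_dt (K44.f185252 IH) (Lpr_at (f723475 IH) (Lpr_dt (K53.f294782 IH) (Lpn (LP (LK LD1_c9 LD2_c59 LD3_c19))))))
theorem f723485 : Led Lsl_at (LP (LK LD1_c18 LD2_c35 LD3_c49)) = (LP (LK LD1_c18 LD2_c59 LD3_c45)) :=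
  Lgr Lrot67 (Lpe (K44.f185235 IH) (Lpr_af (f723481 IH) (Lpe (K53.f294775 IH) (Lpe (f723380 IH) (Lpe (f230173 IH) (Lpn (LP (LK LD1_c18 LD2_c59 LD3_c45))))))))
theorem f185242 : Led Lsl_at (LP (LK LD1_c27 LD2_c54 LD3_c48)) = (LP (LK LD1_c18 LD2_c14 LD3_c34)) :=
  Lre_a IH (LK LD1_c27 LD2_c54 LD3_c48) (LK LD1_c18 LD2_c14 LD3_c34) Lrfl Lrfl
theorem f723499 : Led Lsl_cf (LP (LK LD1_c27 LD2_c54 LD3_c48)) = (LP (LK LD1_c18 LD2_c59 LD3_c45)) :=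
  Lgr Lrot1 (Lpr_at (f185242 IH) (Lpe (K44.f185209 IH) (Lpr_at (f723485 IH) (Lpn (LP (LK LD1_c18 LD2_c59 LD3_c45))))))
theorem f723551 : Led Lsl_bt (LP (LK LD1_c27 LD2_c54 LD3_c48)) = (LP (LK LD1_c28 LD2_c8 LD3_c23)) :=
  Lgr Lrot178 (Lpr_cf (f723499 IH) (Lpe (f583946 IH) (Lpe (f212323 IH) (Lpe (K37.f212315 IH) (Lpr_cf (K12.f212313 IH) (Lpe (K12.f229506 IH) (Lpr_gf (K12.f229516 IH) (Lpr_bf (K19.f253488 IH) (Lpr_cf (K16.f266904 IH) (Lpe (K16.f275164 IH) (Lpr_gf (K16.f275162 IH) (Lpe (K16.f191370 IH) (Lpe (K13.f191360 IH) (Lpe (K13.f191361 IH) (Lpr_gf (K13.f49694 IH) (Lpe (f49678 IH) (Lpe (f49696 IH) (Lpe (f583700 IH) (Lpr_gf (f723545 IH) (Lpn (LP (LK LD1_c28 LD2_c8 LD3_c23))))))))))))))))))))))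
theorem f185240 : Led Lsl_at (LP (LK LD1_c18 LD2_c14 LD3_c34)) = (LP (LK LD1_c27 LD2_c54 LD3_c48)) :=
  Lre_a IH (LK LD1_c18 LD2_c14 LD3_c34) (LK LD1_c27 LD2_c54 LD3_c48) Lrfl Lrfl
theorem f723553 : Led Lsl_af (LP (LK LD1_c9 LD2_c58 LD3_c21)) = (LP (LK LD1_c10 LD2_c11 LD3_c40)) :=
  Lgr Lrot36 (Lpr_bt (K44.f185208 IH) (Lpr_at (f185240 IH) (Lpr_bt (f723551 IH) (Lpr_at (f215221 IH) (Lpr_bt (K53.f215032 IH) (Lpn (LP (LK LD1_c10 LD2_c11 LD3_c40))))))))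
theorem f723561 : Led Lsl_ft (LP (LK LD1_c9 LD2_c58 LD3_c20)) = (LP (LK LD1_c10 LD2_c11 LD3_c40)) :=
  Lgr Lrot2 (Lpr_gt (K37.f249870 IH) (Lpr_gt (K44.f405319 IH) (Lpr_af (f723553 IH) (Lpn (LP (LK LD1_c10 LD2_c11 LD3_c40))))))
theorem f723571 : Led Lsl_ff (LP (LK LD1_c9 LD2_c58 LD3_c20)) = (LP (LK LD1_c10 LD2_c11 LD3_c40)) :=
  Lgr Lrot3 (Lpr_ft (f723561 IH) (Lpn (LP (LK LD1_c10 LD2_c11 LD3_c40))))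
theorem f723579 : Led Lsl_at (LP (LK LD1_c9 LD2_c58 LD3_c20)) = (LP (LK LD1_c10 LD2_c11 LD3_c41)) :=
  Lgr Lrot26 (Lpr_ff (f723571 IH) (Lpe (K53.f249857 IH) (Lpe (K53.f412519 IH) (Lpn (LP (LK LD1_c10 LD2_c11 LD3_c41))))))
theorem f723583 : Led Lsl_af (LP (LK LD1_c10 LD2_c13 LD3_c51)) = (LP (LK LD1_c9 LD2_c59 LD3_c15)) :=
  Lgr Lrot68 (Lpe (K53.f343364 IH) (Lpr_at (f723579 IH) (Lpe (K53.f171636 IH) (Lpn (LP (LK LD1_c9 LD2_c59 LD3_c15))))))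
theorem f233583 : Led Lsl_dt (LP (LK LD1_c10 LD2_c13 LD3_c51)) = (LP (LK LD1_c18 LD2_c37 LD3_c16)) :=
  Lre_d IH (LK LD1_c10 LD2_c13 LD3_c51) (LK LD1_c18 LD2_c37 LD3_c16) Lrfl Lrfl
theorem f723646 : Led Lsl_at (LP (LK LD1_c18 LD2_c37 LD3_c16)) = (LP (LK LD1_c18 LD2_c15 LD3_c40)) :=
  Lgr Lrot51 (Lpe (f233583 IH) (Lpr_af (f723583 IH) (Lpe (K53.f171638 IH) (Lpn (LP (LK LD1_c18 LD2_c15 LD3_c40))))))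
theorem f302721 : Led Lsl_ct (LP (LK LD1_c10 LD2_c17 LD3_c16)) = (LP (LK LD1_c18 LD2_c42 LD3_c12)) :=
  Lre_c IH (LK LD1_c10 LD2_c17 LD3_c16) (LK LD1_c18 LD2_c42 LD3_c12) Lrfl Lrfl
theorem f723208 : Led Lsl_ef (LP (LK LD1_c18 LD2_c37 LD3_c16)) = (LP (LK LD1_c18 LD2_c42 LD3_c12)) :=
  Lgr Lrot28 (Lpe (K53.f343404 IH) (Lpr_et (K53.f723200 IH) (Lpr_ct (f302721 IH) (Lpn (LP (LK LD1_c18 LD2_c42 LD3_c12))))))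
theorem f621228 : Led Lsl_ct (LP (LK LD1_c9 LD2_c15 LD3_c11)) = (LP (LK LD1_c17 LD2_c9 LD3_c46)) :=
  Lre_c IH (LK LD1_c9 LD2_c15 LD3_c11) (LK LD1_c17 LD2_c9 LD3_c46) Lrfl Lrfl
theorem f714495 : Led Lsl_et (LP (LK LD1_c17 LD2_c9 LD3_c46)) = (LP (LK LD1_c18 LD2_c15 LD3_c40)) :=
  Lgr Lrot158 (Lpe (f621228 IH) (Lpe (K53.f562744 IH) (Lpr_cf (K53.f714493 IH) (Lpn (LP (LK LD1_c18 LD2_c15 LD3_c40))))))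
theorem f714525 : Led Lsl_ef (LP (LK LD1_c17 LD2_c9 LD3_c46)) = (LP (LK LD1_c18 LD2_c15 LD3_c40)) :=
  Lgr Lrot88 (Lpr_et (f714495 IH) (Lpn (LP (LK LD1_c18 LD2_c15 LD3_c40))))
theorem f723676 : Led Lsl_af (LP (LK LD1_c18 LD2_c42 LD3_c12)) = (LP (LK LD1_c17 LD2_c9 LD3_c46)) :=
  Lgr Lrot50 (Lpe (f723208 IH) (Lpr_at (f723646 IH) (Lpe (f714525 IH) (Lpn (LP (LK LD1_c17 LD2_c9 LD3_c46))))))
theorem f723678 : Led Lsl_at (LP (LK LD1_c18 LD2_c42 LD3_c12)) = (LP (LK LD1_c17 LD2_c9 LD3_c46)) :=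
  Lgr Lrot100 (Lpr_af (f723676 IH) (Lpn (LP (LK LD1_c17 LD2_c9 LD3_c46))))
theorem f904251 : Led Lsl_gt (LP (LK LD1_c26 LD2_c55 LD3_c6)) = (LP (LK LD1_c17 LD2_c9 LD3_c46)) :=
  Lgr Lrot46 (Lpr_gf (f904250 IH) (Lpe (f904249 IH) (Lpr_at (f723678 IH) (Lpn (LP (LK LD1_c17 LD2_c9 LD3_c46))))))
theorem f904252 : Led Lsl_gt (LP (LK LD1_c26 LD2_c55 LD3_c6)) = (LP (LK LD1_c17 LD2_c9 LD3_c46)) :=
  Leop (Lpe (f904251 IH) (Lpn (LP (LK LD1_c26 LD2_c55 LD3_c6))))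
theorem seed_2266 : LEOK LG_g (LK LD1_c26 LD2_c55 LD3_c6) :=
  Leoe_g (LK LD1_c26 LD2_c55 LD3_c6) (f904252 IH)
def v38760 : LQ := Led Lsl_et (LP (LK LD1_c9 LD2_c15 LD3_c20))
theorem f904328 : Led Lsl_et (LP (LK LD1_c9 LD2_c15 LD3_c20)) = v38760 :=
  Lrfl
theorem f904331 : Led Lsl_ef (LP (LK LD1_c9 LD2_c15 LD3_c20)) = v38760 :=
  Lgr Lrot88 (Lpr_et (f904328 IH) (Lpn v38760))
theorem f9167 : Led Lsl_gt (LP (LK LD1_c9 LD2_c15 LD3_c20)) = (LP (LK LD1_c6 LD2_c8 LD3_c29)) :=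
  Lre_g IH (LK LD1_c9 LD2_c15 LD3_c20) (LK LD1_c6 LD2_c8 LD3_c29) Lrfl Lrfl
theorem f9108 : Led Lsl_et (LP (LK LD1_c3 LD2_c0 LD3_c27)) = (LP (LK LD1_c6 LD2_c8 LD3_c29)) :=
  Lre_e IH (LK LD1_c3 LD2_c0 LD3_c27) (LK LD1_c6 LD2_c8 LD3_c29) Lrfl Lrfl
theorem f186378 : Led Lsl_df (LP (LK LD1_c6 LD2_c16 LD3_c47)) = (LP (LK LD1_c10 LD2_c17 LD3_c23)) :=
  Lgr Lrot38 (Lpr_dt (K50.f186372 IH) (Lpn (LP (LK LD1_c10 LD2_c17 LD3_c23))))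
theorem f176925 : Led Lsl_gt (LP (LK LD1_c9 LD2_c17 LD3_c60)) = (LP (LK LD1_c4 LD2_c41 LD3_c33)) :=
  Lre_g IH (LK LD1_c9 LD2_c17 LD3_c60) (LK LD1_c4 LD2_c41 LD3_c33) Lrfl Lrfl
theorem f302571 : Led Lsl_gt (LP (LK LD1_c6 LD2_c16 LD3_c47)) = (LP (LK LD1_c9 LD2_c17 LD3_c60)) :=
  Lgr Lrot5 (Lpr_ft (K50.f186380 IH) (Lpr_at (K44.f302563 IH) (Lpe (f176925 IH) (Lpn (LP (LK LD1_c9 LD2_c17 LD3_c60))))))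
theorem f904334 : Led Lsl_df (LP (LK LD1_c9 LD2_c17 LD3_c60)) = v38760 :=
  Lgr Lrot132 (Lpe (f302571 IH) (Lpr_df (f186378 IH) (Lpr_gf (K64.f302581 IH) (Lpe (K64.f193910 IH) (Lpr_dt (K16.f193909 IH) (Lpe (K48.f58579 IH) (Lpe (K1.f58564 IH) (Lpr_et (f9108 IH) (Lpe (f9167 IH) (Lpr_ef (f904331 IH) (Lpn v38760)))))))))))
def v16903 : LQ := Led Lsl_at (LP (LK LD1_c6 LD2_c8 LD3_c30))
theorem f752391 : Led Lsl_at (LP (LK LD1_c6 LD2_c8 LD3_c30)) = v16903 :=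
  Lrfl

end

end K69

end

end Cfsg.Agent.Helper28.S1692
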