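import Cfsg.Agent.Lib.Helper28.S1692.Seeds6

set_option autoImplicit false
set_option maxRecDepth 100000
set_option linter.all false

namespace Cfsg.Agent.Helper28.S1692

open Cfsg.Agent.Helper28
open Cfsg.Spor.ON (Gen)

noncomputable section

namespace K7
abbrev LD1_c0 := D1.c0
abbrev LD1_c1 := D1.c1
abbrev LD1_c2 := D1.c2
abbrev LD1_c3 := D1.c3
abbrev LD1_c4 := D1.c4
abbrev LD1_c5 := D1.c5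
abbrev LD1_c6 := D1.c6
abbrev LD1_c7 := D1.c7
abbrev LD1_c8 := D1.c8
abbrev LD1_c9 := D1.c9
abbrev LD1_c10 := D1.c10
abbrev LD1_c11 := D1.c11
abbrev LD1_c12 := D1.c12
abbrev LD1_c13 := D1.c13
abbrev LD1_c14 := D1.c14
abbrev LD1_c15 := D1.c15
abbrev LD1_c16 := D1.c16
abbrev LD1_c17 := D1.c17
abbrev LD1_c18 := D1.c18
abbrev LD1_c19 := D1.c19
abbrev LD1_c20 := D1.c20
abbrev LD1_c21 := D1.c21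
abbrev LD1_c22 := D1.c22
abbrev LD1_c23 := D1.c23
abbrev LD1_c24 := D1.c24
abbrev LD1_c25 := D1.c25
abbrev LD1_c26 := D1.c26
abbrev LD1_c27 := D1.c27
abbrev LD1_c28 := D1.c28
abbrev LD1_c29 := D1.c29
abbrev LD1_c30 := D1.c30
abbrev LD1_c31 := D1.c31
abbrev LD1_c32 := D1.c32
abbrev LD2_c0 := D2.c0
abbrev LD2_c1 := D2.c1
abbrev LD2_c2 := D2.c2
abbrev LD2_c3 := D2.c3
abbrev LD2_c4 := D2.c4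
abbrev LD2_c5 := D2.c5
abbrev LD2_c6 := D2.c6
abbrev LD2_c7 := D2.c7
abbrev LD2_c8 := D2.c8
abbrev LD2_c9 := D2.c9
abbrev LD2_c10 := D2.c10
abbrev LD2_c11 := D2.c11
abbrev LD2_c12 := D2.c12
abbrev LD2_c13 := D2.c13
abbrev LD2_c14 := D2.c14
abbrev LD2_c15 := D2.c15
abbrev LD2_c16 := D2.c16
abbrev LD2_c17 := D2.c17
abbrev LD2_c18 := D2.c18
abbrev LD2_c19 := D2.c19
abbrev LD2_c20 := D2.c20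
abbrev LD2_c21 := D2.c21
abbrev LD2_c22 := D2.c22
abbrev LD2_c23 := D2.c23
abbrev LD2_c24 := D2.c24
abbrev LD2_c25 := D2.c25
abbrev LD2_c26 := D2.c26
abbrev LD2_c27 := D2.c27
abbrev LD2_c28 := D2.c28
abbrev LD2_c29 := D2.c29
abbrev LD2_c30 := D2.c30
abbrev LD2_c31 := D2.c31
abbrev LD2_c32 := D2.c32
abbrev LD2_c33 := D2.c33
abbrev LD2_c34 := D2.c34
abbrev LD2_c35 := D2.c35
abbrev LD2_c36 := D2.c36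
abbrev LD2_c37 := D2.c37
abbrev LD2_c38 := D2.c38
abbrev LD2_c39 := D2.c39
abbrev LD2_c40 := D2.c40
abbrev LD2_c41 := D2.c41
abbrev LD2_c42 := D2.c42
abbrev LD2_c43 := D2.c43
abbrev LD2_c44 := D2.c44
abbrev LD2_c45 := D2.c45
abbrev LD2_c46 := D2.c46
abbrev LD2_c47 := D2.c47
abbrev LD2_c48 := D2.c48
abbrev LD2_c49 := D2.c49
abbrev LD2_c50 := D2.c50
abbrev LD2_c51 := D2.c51
abbrev LD2_c52 := D2.c52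
abbrev LD2_c53 := D2.c53
abbrev LD2_c54 := D2.c54
abbrev LD2_c55 := D2.c55
abbrev LD2_c56 := D2.c56
abbrev LD2_c57 := D2.c57
abbrev LD2_c58 := D2.c58
abbrev LD2_c59 := D2.c59
abbrev LD3_c0 := D3.c0
abbrev LD3_c1 := D3.c1
abbrev LD3_c2 := D3.c2
abbrev LD3_c3 := D3.c3
abbrev LD3_c4 := D3.c4
abbrev LD3_c5 := D3.c5
abbrev LD3_c6 := D3.c6
abbrev LD3_c7 := D3.c7
abbrev LD3_c8 := D3.c8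
abbrev LD3_c9 := D3.c9
abbrev LD3_c10 := D3.c10
abbrev LD3_c11 := D3.c11
abbrev LD3_c12 := D3.c12
abbrev LD3_c13 := D3.c13
abbrev LD3_c14 := D3.c14
abbrev LD3_c15 := D3.c15
abbrev LD3_c16 := D3.c16
abbrev LD3_c17 := D3.c17
abbrev LD3_c18 := D3.c18
abbrev LD3_c19 := D3.c19
abbrev LD3_c20 := D3.c20
abbrev LD3_c21 := D3.c21
abbrev LD3_c22 := D3.c22
abbrev LD3_c23 := D3.c23
abbrev LD3_c24 := D3.c24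
abbrev LD3_c25 := D3.c25
abbrev LD3_c26 := D3.c26
abbrev LD3_c27 := D3.c27
abbrev LD3_c28 := D3.c28
abbrev LD3_c29 := D3.c29
abbrev LD3_c30 := D3.c30
abbrev LD3_c31 := D3.c31
abbrev LD3_c32 := D3.c32
abbrev LD3_c33 := D3.c33
abbrev LD3_c34 := D3.c34
abbrev LD3_c35 := D3.c35
abbrev LD3_c36 := D3.c36
abbrev LD3_c37 := D3.c37
abbrev LD3_c38 := D3.c38
abbrev LD3_c39 := D3.c39
abbrev LD3_c40 := D3.c40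
abbrev LD3_c41 := D3.c41
abbrev LD3_c42 := D3.c42
abbrev LD3_c43 := D3.c43
abbrev LD3_c44 := D3.c44
abbrev LD3_c45 := D3.c45
abbrev LD3_c46 := D3.c46
abbrev LD3_c47 := D3.c47
abbrev LD3_c48 := D3.c48
abbrev LD3_c49 := D3.c49
abbrev LD3_c50 := D3.c50
abbrev LD3_c51 := D3.c51
abbrev LD3_c52 := D3.c52
abbrev LD3_c53 := D3.c53
abbrev LD3_c54 := D3.c54
abbrev LD3_c55 := D3.c55
abbrev LD3_c56 := D3.c56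
abbrev LD3_c57 := D3.c57
abbrev LD3_c58 := D3.c58
abbrev LD3_c59 := D3.c59
abbrev LD3_c60 := D3.c60
abbrev LD3_c61 := D3.c61
abbrev LG_g := Gen.g
abbrev Lsl_gt : Gen × Bool := sl_gt
alias Lfl_gt := fl_gt
alias Lpr_gt := pr_gt
abbrev Lsl_gf : Gen × Bool := sl_gf
alias Lfl_gf := fl_gf
alias Lpr_gf := pr_gf
alias Lre_g := re_g
alias Leoe_g := eoe_g
abbrev LG_a := Gen.a
abbrev Lsl_at : Gen × Bool := sl_at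
alias Lfl_at := fl_at
alias Lpr_at := pr_at
abbrev Lsl_af : Gen × Bool := sl_af
alias Lfl_af := fl_af
alias Lpr_af := pr_af
alias Lre_a := re_a
alias Leoe_a := eoe_a
abbrev LG_b := Gen.b
abbrev Lsl_bt : Gen × Bool := sl_bt
alias Lfl_bt := fl_bt
alias Lpr_bt := pr_bt
abbrev Lsl_bf : Gen × Bool := sl_bf
alias Lfl_bf := fl_bf
alias Lpr_bf := pr_bf
alias Lre_b := re_b
alias Leoe_b := eoe_b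
abbrev LG_c := Gen.c
abbrev Lsl_ct : Gen × Bool := sl_ct
alias Lfl_ct := fl_ct
alias Lpr_ct := pr_ct
abbrev Lsl_cf : Gen × Bool := sl_cf
alias Lfl_cf := fl_cf
alias Lpr_cf := pr_cf
alias Lre_c := re_c
alias Leoe_c := eoe_c
abbrev LG_d := Gen.d
abbrev Lsl_dt : Gen × Bool := sl_dt
alias Lfl_dt := fl_dt
alias Lpr_dt := pr_dt
abbrev Lsl_df : Gen × Bool := sl_df
alias Lfl_df := fl_df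
alias Lpr_df := pr_df
alias Lre_d := re_d
alias Leoe_d := eoe_d
abbrev LG_e := Gen.e
abbrev Lsl_et : Gen × Bool := sl_et
alias Lfl_et := fl_et
alias Lpr_et := pr_et
abbrev Lsl_ef : Gen × Bool := sl_ef
alias Lfl_ef := fl_ef
alias Lpr_ef := pr_ef
alias Lre_e := re_e
alias Leoe_e := eoe_e
abbrev LG_f := Gen.f
abbrev Lsl_ft : Gen × Bool := sl_ft
alias Lfl_ft := fl_ft
alias Lpr_ft := pr_ft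
abbrev Lsl_ff : Gen × Bool := sl_ff
alias Lfl_ff := fl_ff
alias Lpr_ff := pr_ff
alias Lre_f := re_f
alias Leoe_f := eoe_f
abbrev LK := Pt.mk
abbrev LQ : Type := Qt rels S
abbrev LP (p : Pt) : LQ := P p
abbrev Led (l : Gen × Bool) (c : LQ) : LQ := ed l c
abbrev LEOK (x : Gen) (p : Pt) : Prop := EntryOK rels S fwd inv o plet idx x p
alias Lpe := pe
alias Lpn := pn
alias Lgr := gr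
alias Lpq := pq
alias Lpqs := pqs
alias Llr := lr
alias Leop := eop
alias Lefun := efun
alias Lecon := econ
theorem Lrfl {α : Sort _} {a : α} : a = a := rfl
alias Lrot0 := rot0
alias Lrot1 := rot1
alias Lrot2 := rot2
alias Lrot3 := rot3
alias Lrot4 := rot4
alias Lrot5 := rot5
alias Lrot6 := rot6
alias Lrot7 := rot7
alias Lrot8 := rot8
alias Lrot9 := rot9
alias Lrot10 := rot10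
alias Lrot11 := rot11
alias Lrot12 := rot12
alias Lrot14 := rot14
alias Lrot15 := rot15
alias Lrot17 := rot17
alias Lrot18 := rot18
alias Lrot19 := rot19
alias Lrot20 := rot20
alias Lrot21 := rot21
alias Lrot22 := rot22
alias Lrot23 := rot23
alias Lrot24 := rot24
alias Lrot25 := rot25
alias Lrot26 := rot26
alias Lrot28 := rot28
alias Lrot29 := rot29
alias Lrot30 := rot30
alias Lrot31 := rot31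
alias Lrot32 := rot32
alias Lrot33 := rot33
alias Lrot34 := rot34
alias Lrot35 := rot35
alias Lrot36 := rot36
alias Lrot38 := rot38
alias Lrot39 := rot39
alias Lrot40 := rot40
alias Lrot41 := rot41
alias Lrot42 := rot42
alias Lrot43 := rot43
alias Lrot44 := rot44
alias Lrot45 := rot45
alias Lrot46 := rot46
alias Lrot47 := rot47
alias Lrot48 := rot48
alias Lrot49 := rot49
alias Lrot50 := rot50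
alias Lrot51 := rot51
alias Lrot52 := rot52
alias Lrot53 := rot53
alias Lrot54 := rot54
alias Lrot55 := rot55
alias Lrot56 := rot56
alias Lrot57 := rot57
alias Lrot58 := rot58
alias Lrot59 := rot59
alias Lrot60 := rot60
alias Lrot61 := rot61
alias Lrot62 := rot62
alias Lrot63 := rot63
alias Lrot64 := rot64
alias Lrot65 := rot65
alias Lrot66 := rot66
alias Lrot67 := rot67
alias Lrot68 := rot68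
alias Lrot69 := rot69
alias Lrot70 := rot70
alias Lrot71 := rot71
alias Lrot72 := rot72
alias Lrot73 := rot73
alias Lrot74 := rot74
alias Lrot75 := rot75
alias Lrot76 := rot76
alias Lrot77 := rot77
alias Lrot78 := rot78
alias Lrot79 := rot79
alias Lrot80 := rot80
alias Lrot81 := rot81
alias Lrot82 := rot82
alias Lrot83 := rot83
alias Lrot84 := rot84
alias Lrot85 := rot85
alias Lrot86 := rot86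
alias Lrot87 := rot87
alias Lrot88 := rot88
alias Lrot90 := rot90
alias Lrot91 := rot91
alias Lrot92 := rot92
alias Lrot93 := rot93
alias Lrot94 := rot94
alias Lrot95 := rot95
alias Lrot96 := rot96
alias Lrot97 := rot97
alias Lrot98 := rot98
alias Lrot99 := rot99
alias Lrot100 := rot100
alias Lrot101 := rot101
alias Lrot103 := rot103
alias Lrot104 := rot104
alias Lrot105 := rot105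
alias Lrot106 := rot106
alias Lrot107 := rot107
alias Lrot108 := rot108
alias Lrot109 := rot109
alias Lrot110 := rot110
alias Lrot111 := rot111
alias Lrot112 := rot112
alias Lrot113 := rot113
alias Lrot114 := rot114
alias Lrot115 := rot115
alias Lrot116 := rot116
alias Lrot117 := rot117
alias Lrot118 := rot118
alias Lrot119 := rot119
alias Lrot120 := rot120
alias Lrot121 := rot121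
alias Lrot122 := rot122
alias Lrot123 := rot123
alias Lrot124 := rot124
alias Lrot125 := rot125
alias Lrot126 := rot126
alias Lrot127 := rot127
alias Lrot128 := rot128
alias Lrot129 := rot129
alias Lrot130 := rot130
alias Lrot131 := rot131
alias Lrot133 := rot133
alias Lrot134 := rot134
alias Lrot135 := rot135
alias Lrot136 := rot136
alias Lrot137 := rot137
alias Lrot138 := rot138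
alias Lrot139 := rot139
alias Lrot140 := rot140
alias Lrot141 := rot141
alias Lrot142 := rot142
alias Lrot143 := rot143
alias Lrot144 := rot144
alias Lrot145 := rot145
alias Lrot147 := rot147
alias Lrot148 := rot148
alias Lrot149 := rot149
alias Lrot150 := rot150
alias Lrot151 := rot151
alias Lrot152 := rot152
alias Lrot153 := rot153
alias Lrot154 := rot154
alias Lrot155 := rot155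
alias Lrot156 := rot156
alias Lrot157 := rot157
alias Lrot158 := rot158
alias Lrot159 := rot159
alias Lrot160 := rot160
alias Lrot161 := rot161
alias Lrot162 := rot162
alias Lrot163 := rot163
alias Lrot164 := rot164
alias Lrot165 := rot165
alias Lrot166 := rot166
alias Lrot167 := rot167
alias Lrot168 := rot168
alias Lrot169 := rot169
alias Lrot170 := rot170
alias Lrot171 := rot171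
alias Lrot172 := rot172
alias Lrot173 := rot173
alias Lrot174 := rot174
alias Lrot175 := rot175
alias Lrot176 := rot176
alias Lrot177 := rot177
alias Lrot178 := rot178
alias Lrot179 := rot179
alias Lrot180 := rot180
alias Lrot181 := rot181
alias Lrot182 := rot182
alias Lrot183 := rot183
alias Lrot184 := rot184
alias Lrot185 := rot185
alias Lrot186 := rot186
alias Lrot187 := rot187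
alias Lrot188 := rot188
alias Lrot189 := rot189
alias Lrot190 := rot190
alias Lrot191 := rot191

section
variable (IH : IHT)
include IH

theorem f122656 : Led Lsl_dt (LP (LK LD1_c7 LD2_c21 LD3_c56)) = (LP (LK LD1_c13 LD2_c55 LD3_c37)) :=
  Lre_d IH (LK LD1_c7 LD2_c21 LD3_c56) (LK LD1_c13 LD2_c55 LD3_c37) Lrfl Lrfl
theorem f132040 : Led Lsl_af (LP (LK LD1_c13 LD2_c52 LD3_c41)) = (LP (LK LD1_c13 LD2_c55 LD3_c37)) :=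
  Lgr Lrot117 (Lpr_dt (K6.f96425 IH) (Lpr_at (K6.f132034 IH) (Lpr_dt (f122656 IH) (Lpn (LP (LK LD1_c13 LD2_c55 LD3_c37))))))
theorem f96427 : Led Lsl_et (LP (LK LD1_c13 LD2_c52 LD3_c41)) = (LP (LK LD1_c7 LD2_c20 LD3_c16)) :=
  Lre_e IH (LK LD1_c13 LD2_c52 LD3_c41) (LK LD1_c7 LD2_c20 LD3_c16) Lrfl Lrfl
theorem f122629 : Led Lsl_dt (LP (LK LD1_c13 LD2_c55 LD3_c37)) = (LP (LK LD1_c7 LD2_c21 LD3_c56)) :=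
  Lre_d IH (LK LD1_c13 LD2_c55 LD3_c37) (LK LD1_c7 LD2_c21 LD3_c56) Lrfl Lrfl
theorem f120972 : Led Lsl_et (LP (LK LD1_c1 LD2_c48 LD3_c4)) = (LP (LK LD1_c3 LD2_c42 LD3_c10)) :=
  Lre_e IH (LK LD1_c1 LD2_c48 LD3_c4) (LK LD1_c3 LD2_c42 LD3_c10) Lrfl Lrfl
theorem f120991 : Led Lsl_dt (LP (LK LD1_c3 LD2_c42 LD3_c10)) = (LP (LK LD1_c7 LD2_c25 LD3_c3)) :=
  Lre_d IH (LK LD1_c3 LD2_c42 LD3_c10) (LK LD1_c7 LD2_c25 LD3_c3) Lrfl Lrfl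
theorem f122630 : Led Lsl_ef (LP (LK LD1_c13 LD2_c55 LD3_c37)) = (LP (LK LD1_c7 LD2_c25 LD3_c3)) :=
  Lgr Lrot73 (Lpr_dt (f122629 IH) (Lpr_et (K6.f122628 IH) (Lpr_dt (K5.f122621 IH) (Lpr_et (f120972 IH) (Lpr_dt (f120991 IH) (Lpn (LP (LK LD1_c7 LD2_c25 LD3_c3))))))))
theorem f132054 : Led Lsl_at (LP (LK LD1_c7 LD2_c20 LD3_c16)) = (LP (LK LD1_c7 LD2_c25 LD3_c3)) :=
  Lgr Lrot80 (Lpe (f96427 IH) (Lpr_af (f132040 IH) (Lpr_ef (f122630 IH) (Lpn (LP (LK LD1_c7 LD2_c25 LD3_c3))))))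
theorem f96432 : Led Lsl_dt (LP (LK LD1_c3 LD2_c40 LD3_c4)) = (LP (LK LD1_c7 LD2_c20 LD3_c16)) :=
  Lre_d IH (LK LD1_c3 LD2_c40 LD3_c4) (LK LD1_c7 LD2_c20 LD3_c16) Lrfl Lrfl
theorem f122673 : Led Lsl_dt (LP (LK LD1_c7 LD2_c25 LD3_c3)) = (LP (LK LD1_c3 LD2_c42 LD3_c10)) :=
  Lre_d IH (LK LD1_c7 LD2_c25 LD3_c3) (LK LD1_c3 LD2_c42 LD3_c10) Lrfl Lrfl
theorem f132058 : Led Lsl_af (LP (LK LD1_c3 LD2_c40 LD3_c4)) = (LP (LK LD1_c3 LD2_c42 LD3_c10)) :=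
  Lgr Lrot117 (Lpr_dt (f96432 IH) (Lpr_at (f132054 IH) (Lpr_dt (f122673 IH) (Lpn (LP (LK LD1_c3 LD2_c42 LD3_c10))))))
theorem f132060 : Led Lsl_at (LP (LK LD1_c3 LD2_c40 LD3_c4)) = (LP (LK LD1_c3 LD2_c42 LD3_c10)) :=
  Lgr Lrot100 (Lpr_af (f132058 IH) (Lpn (LP (LK LD1_c3 LD2_c42 LD3_c10))))
theorem f120990 : Led Lsl_et (LP (LK LD1_c3 LD2_c42 LD3_c10)) = (LP (LK LD1_c1 LD2_c48 LD3_c4)) :=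
  Lre_e IH (LK LD1_c3 LD2_c42 LD3_c10) (LK LD1_c1 LD2_c48 LD3_c4) Lrfl Lrfl
theorem f132070 : Led Lsl_af (LP (LK LD1_c1 LD2_c47 LD3_c0)) = (LP (LK LD1_c1 LD2_c48 LD3_c4)) :=
  Lgr Lrot50 (Lpr_et (K5.f96341 IH) (Lpr_at (f132060 IH) (Lpr_et (f120990 IH) (Lpn (LP (LK LD1_c1 LD2_c48 LD3_c4))))))
theorem f128042 : Led Lsl_ff (LP (LK LD1_c1 LD2_c48 LD3_c4)) = (LP (LK LD1_c1 LD2_c40 LD3_c0)) :=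
  Lgr Lrot3 (Lpr_ft (K5.f128037 IH) (Lpn (LP (LK LD1_c1 LD2_c40 LD3_c0))))
theorem f132072 : Led Lsl_gf (LP (LK LD1_c1 LD2_c47 LD3_c0)) = (LP (LK LD1_c0 LD2_c50 LD3_c24)) :=
  Lgr Lrot76 (Lpr_af (f132070 IH) (Lpr_ff (f128042 IH) (Lpe (K3.f107303 IH) (Lpn (LP (LK LD1_c0 LD2_c50 LD3_c24))))))
theorem f96340 : Led Lsl_dt (LP (LK LD1_c1 LD2_c47 LD3_c0)) = (LP (LK LD1_c3 LD2_c40 LD3_c3)) :=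
  Lre_d IH (LK LD1_c1 LD2_c47 LD3_c0) (LK LD1_c3 LD2_c40 LD3_c3) Lrfl Lrfl
theorem f147528 : Led Lsl_ct (LP (LK LD1_c3 LD2_c40 LD3_c3)) = (LP (LK LD1_c6 LD2_c31 LD3_c26)) :=
  Lgr Lrot7 (Lpe (f96340 IH) (Lpr_gf (f132072 IH) (Lpe (K5.f107302 IH) (Lpr_gf (K5.f129147 IH) (Lpe (K5.f12586 IH) (Lpe (K6.f128051 IH) (Lpr_dt (K4.f108892 IH) (Lpr_gt (K5.f124685 IH) (Lpr_dt (K6.f147518 IH) (Lpn (LP (LK LD1_c6 LD2_c31 LD3_c26))))))))))))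
theorem f147530 : Led Lsl_ct (LP (LK LD1_c3 LD2_c19 LD3_c5)) = (LP (LK LD1_c1 LD2_c48 LD3_c60)) :=
  Lgr Lrot186 (Lpe (K6.f66559 IH) (Lpr_dt (K5.f24858 IH) (Lpr_gt (K1.f66452 IH) (Lpe (K1.f66462 IH) (Lpr_gt (K4.f12562 IH) (Lpr_ct (K4.f12564 IH) (Lpr_dt (K6.f147518 IH) (Lpe (f147528 IH) (Lpe (K5.f116534 IH) (Lpn (LP (LK LD1_c1 LD2_c48 LD3_c60))))))))))))
theorem f146836 : Led Lsl_ct (LP (LK LD1_c1 LD2_c47 LD3_c2)) = (LP (LK LD1_c3 LD2_c14 LD3_c11)) :=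
  Lgr Lrot59 (Lpr_cf (K6.f146832 IH) (Lpn (LP (LK LD1_c3 LD2_c14 LD3_c11))))
theorem f134787 : Led Lsl_ff (LP (LK LD1_c1 LD2_c35 LD3_c58)) = (LP (LK LD1_c2 LD2_c22 LD3_c0)) :=
  Lgr Lrot23 (Lpr_ct (K6.f24847 IH) (Lpr_ft (K5.f134782 IH) (Lpr_ct (K6.f84593 IH) (Lpn (LP (LK LD1_c2 LD2_c22 LD3_c0))))))
theorem f145299 : Led Lsl_df (LP (LK LD1_c2 LD2_c22 LD3_c0)) = (LP (LK LD1_c1 LD2_c53 LD3_c44)) :=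
  Lgr Lrot78 (Lpe (f134787 IH) (Lpe (K6.f144345 IH) (Lpr_ft (K6.f145289 IH) (Lpn (LP (LK LD1_c1 LD2_c53 LD3_c44))))))
theorem f147547 : Led Lsl_gt (LP (LK LD1_c3 LD2_c19 LD3_c5)) = (LP (LK LD1_c1 LD2_c53 LD3_c44)) :=
  Lgr Lrot180 (Lpr_ct (f147530 IH) (Lpr_gt (K5.f116534 IH) (Lpr_dt (K5.f96344 IH) (Lpr_gt (K4.f12370 IH) (Lpr_dt (K6.f66556 IH) (Lpr_ct (f146836 IH) (Lpr_df (K6.f144139 IH) (Lpr_gf (K6.f143186 IH) (Lpr_df (f145299 IH) (Lpn (LP (LK LD1_c1 LD2_c53 LD3_c44))))))))))))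
theorem f147543 : Led Lsl_cf (LP (LK LD1_c3 LD2_c19 LD3_c5)) = (LP (LK LD1_c1 LD2_c48 LD3_c60)) :=
  Lgr Lrot11 (Lpr_ct (f147530 IH) (Lpn (LP (LK LD1_c1 LD2_c48 LD3_c60))))
theorem f122232 : Led Lsl_bt (LP (LK LD1_c1 LD2_c48 LD3_c60)) = (LP (LK LD1_c3 LD2_c43 LD3_c48)) :=
  Lre_b IH (LK LD1_c1 LD2_c48 LD3_c60) (LK LD1_c3 LD2_c43 LD3_c48) Lrfl Lrfl
theorem f122172 : Led Lsl_gf (LP (LK LD1_c3 LD2_c41 LD3_c1)) = (LP (LK LD1_c3 LD2_c43 LD3_c46)) :=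
  Lgr Lrot76 (Lpe (K4.f122055 IH) (Lpr_ff (K4.f122150 IH) (Lpr_gt (K6.f122137 IH) (Lpn (LP (LK LD1_c3 LD2_c43 LD3_c46))))))
theorem f122067 : Led Lsl_dt (LP (LK LD1_c3 LD2_c41 LD3_c1)) = (LP (LK LD1_c7 LD2_c22 LD3_c15)) :=
  Lre_d IH (LK LD1_c3 LD2_c41 LD3_c1) (LK LD1_c7 LD2_c22 LD3_c15) Lrfl Lrfl
theorem f121998 : Led Lsl_dt (LP (LK LD1_c6 LD2_c53 LD3_c7)) = (LP (LK LD1_c3 LD2_c25 LD3_c34)) :=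
  Lre_d IH (LK LD1_c6 LD2_c53 LD3_c7) (LK LD1_c3 LD2_c25 LD3_c34) Lrfl Lrfl
theorem f122249 : Led Lsl_dt (LP (LK LD1_c3 LD2_c29 LD3_c50)) = (LP (LK LD1_c3 LD2_c50 LD3_c4)) :=
  Lgr Lrot6 (Lpr_gt (K4.f103622 IH) (Lpr_ct (K4.f19046 IH) (Lpr_gt (K5.f122247 IH) (Lpe (K4.f122125 IH) (Lpe (f121998 IH) (Lpr_cf (K5.f121977 IH) (Lpe (K5.f64263 IH) (Lpe (K4.f63507 IH) (Lpe (K5.f87474 IH) (Lpn (LP (LK LD1_c3 LD2_c50 LD3_c4))))))))))))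
theorem f87372 : Led Lsl_dt (LP (LK LD1_c1 LD2_c51 LD3_c61)) = (LP (LK LD1_c0 LD2_c52 LD3_c45)) :=
  Lre_d IH (LK LD1_c1 LD2_c51 LD3_c61) (LK LD1_c0 LD2_c52 LD3_c45) Lrfl Lrfl
theorem f96385 : Led Lsl_dt (LP (LK LD1_c3 LD2_c50 LD3_c2)) = (LP (LK LD1_c1 LD2_c51 LD3_c60)) :=
  Lre_d IH (LK LD1_c3 LD2_c50 LD3_c2) (LK LD1_c1 LD2_c51 LD3_c60) Lrfl Lrfl
theorem f136968 : Led Lsl_gt (LP (LK LD1_c7 LD2_c22 LD3_c15)) = (LP (LK LD1_c3 LD2_c50 LD3_c2)) :=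
  Lgr Lrot49 (Lpe (f122067 IH) (Lpr_gf (f122172 IH) (Lpr_cf (K6.f136945 IH) (Lpr_gt (K4.f115829 IH) (Lpr_dt (f122249 IH) (Lpr_gt (K5.f87474 IH) (Lpr_dt (f87372 IH) (Lpe (K5.f84929 IH) (Lpe (f96385 IH) (Lpn (LP (LK LD1_c3 LD2_c50 LD3_c2))))))))))))
theorem f122176 : Led Lsl_at (LP (LK LD1_c7 LD2_c22 LD3_c15)) = (LP (LK LD1_c3 LD2_c41 LD3_c2)) :=
  Lre_a IH (LK LD1_c7 LD2_c22 LD3_c15) (LK LD1_c3 LD2_c41 LD3_c2) Lrfl Lrfl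
theorem f122177 : Led Lsl_at (LP (LK LD1_c3 LD2_c43 LD3_c48)) = (LP (LK LD1_c7 LD2_c28 LD3_c10)) :=
  Lre_a IH (LK LD1_c3 LD2_c43 LD3_c48) (LK LD1_c7 LD2_c28 LD3_c10) Lrfl Lrfl
theorem f122178 : Led Lsl_ff (LP (LK LD1_c7 LD2_c22 LD3_c15)) = (LP (LK LD1_c7 LD2_c28 LD3_c10)) :=
  Lgr Lrot30 (Lpr_at (f122176 IH) (Lpr_ft (K5.f122168 IH) (Lpr_at (f122177 IH) (Lpn (LP (LK LD1_c7 LD2_c28 LD3_c10))))))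
theorem f122239 : Led Lsl_ft (LP (LK LD1_c7 LD2_c22 LD3_c15)) = (LP (LK LD1_c7 LD2_c28 LD3_c10)) :=
  Lgr Lrot48 (Lpr_ff (f122178 IH) (Lpn (LP (LK LD1_c7 LD2_c28 LD3_c10))))
theorem f122242 : Led Lsl_at (LP (LK LD1_c7 LD2_c28 LD3_c10)) = (LP (LK LD1_c3 LD2_c43 LD3_c48)) :=
  Lre_a IH (LK LD1_c7 LD2_c28 LD3_c10) (LK LD1_c3 LD2_c43 LD3_c48) Lrfl Lrfl
theorem f136972 : Led Lsl_gf (LP (LK LD1_c3 LD2_c43 LD3_c48)) = (LP (LK LD1_c3 LD2_c50 LD3_c2)) :=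
  Lgr Lrot76 (Lpe (f122242 IH) (Lpe (f122239 IH) (Lpr_gt (f136968 IH) (Lpn (LP (LK LD1_c3 LD2_c50 LD3_c2))))))
theorem f65967 : Led Lsl_et (LP (LK LD1_c1 LD2_c52 LD3_c1)) = (LP (LK LD1_c0 LD2_c52 LD3_c46)) :=
  Lre_e IH (LK LD1_c1 LD2_c52 LD3_c1) (LK LD1_c0 LD2_c52 LD3_c46) Lrfl Lrfl
theorem f84933 : Led Lsl_bt (LP (LK LD1_c3 LD2_c31 LD3_c60)) = (LP (LK LD1_c1 LD2_c52 LD3_c1)) :=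
  Lgr Lrot119 (Lpe (K5.f84932 IH) (Lpr_bf (K2.f84922 IH) (Lpe (f65967 IH) (Lpn (LP (LK LD1_c1 LD2_c52 LD3_c1))))))
theorem f84940 : Led Lsl_ft (LP (LK LD1_c7 LD2_c5 LD3_c27)) = (LP (LK LD1_c3 LD2_c31 LD3_c60)) :=
  Lre_f IH (LK LD1_c7 LD2_c5 LD3_c27) (LK LD1_c3 LD2_c31 LD3_c60) Lrfl Lrfl
theorem f84941 : Led Lsl_ft (LP (LK LD1_c1 LD2_c52 LD3_c1)) = (LP (LK LD1_c3 LD2_c50 LD3_c12)) :=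
  Lre_f IH (LK LD1_c1 LD2_c52 LD3_c1) (LK LD1_c3 LD2_c50 LD3_c12) Lrfl Lrfl
theorem f84942 : Led Lsl_bf (LP (LK LD1_c7 LD2_c5 LD3_c27)) = (LP (LK LD1_c3 LD2_c50 LD3_c12)) :=
  Lgr Lrot61 (Lpr_ft (f84940 IH) (Lpr_bt (f84933 IH) (Lpr_ft (f84941 IH) (Lpn (LP (LK LD1_c3 LD2_c50 LD3_c12))))))
theorem f84945 : Led Lsl_bt (LP (LK LD1_c7 LD2_c5 LD3_c27)) = (LP (LK LD1_c3 LD2_c50 LD3_c12)) :=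
  Lgr Lrot127 (Lpr_bf (f84942 IH) (Lpn (LP (LK LD1_c3 LD2_c50 LD3_c12))))
theorem f84951 : Led Lsl_ct (LP (LK LD1_c3 LD2_c50 LD3_c12)) = (LP (LK LD1_c1 LD2_c52 LD3_c5)) :=
  Lre_c IH (LK LD1_c3 LD2_c50 LD3_c12) (LK LD1_c1 LD2_c52 LD3_c5) Lrfl Lrfl
theorem f84952 : Led Lsl_bt (LP (LK LD1_c1 LD2_c52 LD3_c5)) = (LP (LK LD1_c3 LD2_c50 LD3_c10)) :=
  Lre_b IH (LK LD1_c1 LD2_c52 LD3_c5) (LK LD1_c3 LD2_c50 LD3_c10) Lrfl Lrfl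
theorem f84953 : Led Lsl_ct (LP (LK LD1_c3 LD2_c50 LD3_c10)) = (LP (LK LD1_c7 LD2_c41 LD3_c7)) :=
  Lre_c IH (LK LD1_c3 LD2_c50 LD3_c10) (LK LD1_c7 LD2_c41 LD3_c7) Lrfl Lrfl
theorem f96360 : Led Lsl_bf (LP (LK LD1_c7 LD2_c20 LD3_c17)) = (LP (LK LD1_c7 LD2_c41 LD3_c7)) :=
  Lgr Lrot90 (Lpr_ct (K5.f96356 IH) (Lpr_bt (f84945 IH) (Lpr_ct (f84951 IH) (Lpr_bt (f84952 IH) (Lpr_ct (f84953 IH) (Lpn (LP (LK LD1_c7 LD2_c41 LD3_c7))))))))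
theorem f96367 : Led Lsl_ft (LP (LK LD1_c3 LD2_c50 LD3_c3)) = (LP (LK LD1_c7 LD2_c41 LD3_c7)) :=
  Lre_f IH (LK LD1_c3 LD2_c50 LD3_c3) (LK LD1_c7 LD2_c41 LD3_c7) Lrfl Lrfl
theorem f96368 : Led Lsl_bt (LP (LK LD1_c3 LD2_c40 LD3_c4)) = (LP (LK LD1_c3 LD2_c50 LD3_c3)) :=
  Lgr Lrot35 (Lpe (K5.f96350 IH) (Lpr_bf (f96360 IH) (Lpe (f96367 IH) (Lpn (LP (LK LD1_c3 LD2_c50 LD3_c3))))))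
theorem f96379 : Led Lsl_et (LP (LK LD1_c3 LD2_c50 LD3_c3)) = (LP (LK LD1_c1 LD2_c51 LD3_c60)) :=
  Lre_e IH (LK LD1_c3 LD2_c50 LD3_c3) (LK LD1_c1 LD2_c51 LD3_c60) Lrfl Lrfl
theorem f96380 : Led Lsl_bf (LP (LK LD1_c1 LD2_c47 LD3_c0)) = (LP (LK LD1_c1 LD2_c51 LD3_c60)) :=
  Lgr Lrot96 (Lpr_et (K5.f96341 IH) (Lpr_bt (f96368 IH) (Lpr_et (f96379 IH) (Lpn (LP (LK LD1_c1 LD2_c51 LD3_c60))))))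
theorem f96386 : Led Lsl_bt (LP (LK LD1_c3 LD2_c40 LD3_c3)) = (LP (LK LD1_c3 LD2_c50 LD3_c2)) :=
  Lgr Lrot95 (Lpe (f96340 IH) (Lpr_bf (f96380 IH) (Lpe (f96385 IH) (Lpn (LP (LK LD1_c3 LD2_c50 LD3_c2))))))
theorem f122980 : Led Lsl_ct (LP (LK LD1_c0 LD2_c53 LD3_c27)) = (LP (LK LD1_c1 LD2_c53 LD3_c44)) :=
  Lre_c IH (LK LD1_c0 LD2_c53 LD3_c27) (LK LD1_c1 LD2_c53 LD3_c44) Lrfl Lrfl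
theorem f11769 : Led Lsl_bt (LP (LK LD1_c1 LD2_c54 LD3_c9)) = (LP (LK LD1_c3 LD2_c55 LD3_c7)) :=
  Lre_b IH (LK LD1_c1 LD2_c54 LD3_c9) (LK LD1_c3 LD2_c55 LD3_c7) Lrfl Lrfl
theorem f122988 : Led Lsl_bt (LP (LK LD1_c3 LD2_c54 LD3_c13)) = (LP (LK LD1_c1 LD2_c53 LD3_c44)) :=
  Lre_b IH (LK LD1_c3 LD2_c54 LD3_c13) (LK LD1_c1 LD2_c53 LD3_c44) Lrfl Lrfl
theorem f21156 : Led Lsl_ct (LP (LK LD1_c1 LD2_c53 LD3_c44)) = (LP (LK LD1_c0 LD2_c53 LD3_c27)) :=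
  Lre_c IH (LK LD1_c1 LD2_c53 LD3_c44) (LK LD1_c0 LD2_c53 LD3_c27) Lrfl Lrfl
theorem f122991 : Led Lsl_bf (LP (LK LD1_c0 LD2_c53 LD3_c40)) = (LP (LK LD1_c0 LD2_c53 LD3_c27)) :=
  Lgr Lrot90 (Lpr_ct (K6.f11768 IH) (Lpr_bt (f11769 IH) (Lpr_ct (K6.f122982 IH) (Lpr_bt (f122988 IH) (Lpr_ct (f21156 IH) (Lpn (LP (LK LD1_c0 LD2_c53 LD3_c27))))))))
theorem f123447 : Led Lsl_at (LP (LK LD1_c0 LD2_c53 LD3_c27)) = (LP (LK LD1_c1 LD2_c53 LD3_c35)) :=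
  Lre_a IH (LK LD1_c0 LD2_c53 LD3_c27) (LK LD1_c1 LD2_c53 LD3_c35) Lrfl Lrfl
theorem f123013 : Led Lsl_ft (LP (LK LD1_c3 LD2_c55 LD3_c12)) = (LP (LK LD1_c1 LD2_c54 LD3_c10)) :=
  Lre_f IH (LK LD1_c3 LD2_c55 LD3_c12) (LK LD1_c1 LD2_c54 LD3_c10) Lrfl Lrfl
theorem f122939 : Led Lsl_et (LP (LK LD1_c1 LD2_c54 LD3_c10)) = (LP (LK LD1_c0 LD2_c53 LD3_c40)) :=
  Lre_e IH (LK LD1_c1 LD2_c54 LD3_c10) (LK LD1_c0 LD2_c53 LD3_c40) Lrfl Lrfl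
theorem f123014 : Led Lsl_ft (LP (LK LD1_c1 LD2_c53 LD3_c45)) = (LP (LK LD1_c3 LD2_c54 LD3_c18)) :=
  Lre_f IH (LK LD1_c1 LD2_c53 LD3_c45) (LK LD1_c3 LD2_c54 LD3_c18) Lrfl Lrfl
theorem f122940 : Led Lsl_et (LP (LK LD1_c0 LD2_c53 LD3_c27)) = (LP (LK LD1_c1 LD2_c53 LD3_c45)) :=
  Lre_e IH (LK LD1_c0 LD2_c53 LD3_c27) (LK LD1_c1 LD2_c53 LD3_c45) Lrfl Lrfl
theorem f145318 : Led Lsl_ft (LP (LK LD1_c0 LD2_c53 LD3_c40)) = (LP (LK LD1_c0 LD2_c53 LD3_c27)) :=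
  Lgr Lrot86 (Lpe (f122939 IH) (Lpe (f123013 IH) (Lpr_ef (K6.f145310 IH) (Lpe (f123014 IH) (Lpe (f122940 IH) (Lpn (LP (LK LD1_c0 LD2_c53 LD3_c27))))))))
theorem f146876 : Led Lsl_gt (LP (LK LD1_c0 LD2_c53 LD3_c40)) = (LP (LK LD1_c1 LD2_c47 LD3_c33)) :=
  Lgr Lrot5 (Lpr_ft (f145318 IH) (Lpr_at (f123447 IH) (Lpr_gf (K6.f146870 IH) (Lpn (LP (LK LD1_c1 LD2_c47 LD3_c33))))))
theorem f147554 : Led Lsl_gf (LP (LK LD1_c6 LD2_c31 LD3_c26)) = (LP (LK LD1_c3 LD2_c13 LD3_c61)) :=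
  Lgr Lrot129 (Lpe (f147528 IH) (Lpr_bt (f96386 IH) (Lpe (f136972 IH) (Lpe (f122232 IH) (Lpe (f147543 IH) (Lpr_gt (f147547 IH) (Lpe (f122980 IH) (Lpe (f122991 IH) (Lpr_gt (f146876 IH) (Lpe (K6.f146904 IH) (Lpn (LP (LK LD1_c3 LD2_c13 LD3_c61)))))))))))))
theorem f147522 : Led Lsl_df (LP (LK LD1_c3 LD2_c39 LD3_c55)) = (LP (LK LD1_c6 LD2_c31 LD3_c26)) :=
  Lgr Lrot38 (Lpr_dt (K6.f147518 IH) (Lpn (LP (LK LD1_c6 LD2_c31 LD3_c26))))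
theorem f17732 : Led Lsl_dt (LP (LK LD1_c1 LD2_c38 LD3_c58)) = (LP (LK LD1_c0 LD2_c45 LD3_c53)) :=
  Lre_d IH (LK LD1_c1 LD2_c38 LD3_c58) (LK LD1_c0 LD2_c45 LD3_c53) Lrfl Lrfl
theorem f107210 : Led Lsl_dt (LP (LK LD1_c0 LD2_c50 LD3_c46)) = (LP (LK LD1_c1 LD2_c47 LD3_c60)) :=
  Lre_d IH (LK LD1_c0 LD2_c50 LD3_c46) (LK LD1_c1 LD2_c47 LD3_c60) Lrfl Lrfl
theorem f131672 : Led Lsl_gf (LP (LK LD1_c1 LD2_c38 LD3_c58)) = (LP (LK LD1_c1 LD2_c47 LD3_c60)) :=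
  Lgr Lrot143 (Lpr_dt (f17732 IH) (Lpe (K4.f17696 IH) (Lpr_df (K5.f131652 IH) (Lpe (K3.f12761 IH) (Lpe (K4.f12843 IH) (Lpe (K4.f12898 IH) (Lpe (K4.f120829 IH) (Lpe (K4.f120856 IH) (Lpr_dt (f107210 IH) (Lpn (LP (LK LD1_c1 LD2_c47 LD3_c60))))))))))))
theorem f22499 : Led Lsl_gt (LP (LK LD1_c1 LD2_c33 LD3_c31)) = (LP (LK LD1_c3 LD2_c13 LD3_c53)) :=
  Lre_g IH (LK LD1_c1 LD2_c33 LD3_c31) (LK LD1_c3 LD2_c13 LD3_c53) Lrfl Lrfl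
theorem f107217 : Led Lsl_dt (LP (LK LD1_c1 LD2_c47 LD3_c60)) = (LP (LK LD1_c0 LD2_c50 LD3_c46)) :=
  Lre_d IH (LK LD1_c1 LD2_c47 LD3_c60) (LK LD1_c0 LD2_c50 LD3_c46) Lrfl Lrfl
theorem f107227 : Led Lsl_ct (LP (LK LD1_c3 LD2_c13 LD3_c53)) = (LP (LK LD1_c1 LD2_c47 LD3_c60)) :=
  Lgr Lrot110 (Lpe (f22499 IH) (Lpe (K6.f22498 IH) (Lpe (K3.f22497 IH) (Lpe (K0.f22620 IH) (Lpr_gt (K0.f20870 IH) (Lpr_ct (K0.f20871 IH) (Lpr_gt (K3.f107223 IH) (Lpe (K3.f107215 IH) (Lpe (f107217 IH) (Lpn (LP (LK LD1_c1 LD2_c47 LD3_c60))))))))))))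
theorem f147561 : Led Lsl_gt (LP (LK LD1_c3 LD2_c13 LD3_c53)) = (LP (LK LD1_c1 LD2_c33 LD3_c34)) :=
  Lgr Lrot180 (Lpr_ct (f107227 IH) (Lpe (f131672 IH) (Lpr_dt (f17732 IH) (Lpr_gt (K6.f124855 IH) (Lpe (K5.f124843 IH) (Lpr_ct (K4.f12564 IH) (Lpr_df (f147522 IH) (Lpr_gf (f147554 IH) (Lpe (K6.f146899 IH) (Lpn (LP (LK LD1_c1 LD2_c33 LD3_c34))))))))))))
theorem f95894 : Led Lsl_dt (LP (LK LD1_c1 LD2_c33 LD3_c21)) = (LP (LK LD1_c3 LD2_c13 LD3_c36)) :=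
  Lre_d IH (LK LD1_c1 LD2_c33 LD3_c21) (LK LD1_c3 LD2_c13 LD3_c36) Lrfl Lrfl
theorem f124606 : Led Lsl_gt (LP (LK LD1_c3 LD2_c13 LD3_c36)) = (LP (LK LD1_c6 LD2_c30 LD3_c52)) :=
  Lre_g IH (LK LD1_c3 LD2_c13 LD3_c36) (LK LD1_c6 LD2_c30 LD3_c52) Lrfl Lrfl
theorem f124607 : Led Lsl_df (LP (LK LD1_c3 LD2_c13 LD3_c53)) = (LP (LK LD1_c6 LD2_c30 LD3_c52)) :=
  Lgr Lrot174 (Lpr_ct (f107227 IH) (Lpe (f107210 IH) (Lpr_gf (K4.f120856 IH) (Lpe (K4.f124110 IH) (Lpe (K5.f124127 IH) (Lpr_ct (K5.f124592 IH) (Lpr_gt (K5.f23618 IH) (Lpr_dt (f95894 IH) (Lpr_gt (f124606 IH) (Lpn (LP (LK LD1_c6 LD2_c30 LD3_c52))))))))))))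
theorem f4459 : Led Lsl_gt (LP (LK LD1_c1 LD2_c47 LD3_c39)) = (LP (LK LD1_c0 LD2_c50 LD3_c35)) :=
  Lre_g IH (LK LD1_c1 LD2_c47 LD3_c39) (LK LD1_c0 LD2_c50 LD3_c35) Lrfl Lrfl
theorem f147568 : Led Lsl_cf (LP (LK LD1_c3 LD2_c13 LD3_c36)) = (LP (LK LD1_c1 LD2_c47 LD3_c39)) :=
  Lgr Lrot166 (Lpr_gt (f124606 IH) (Lpe (f124607 IH) (Lpr_gt (f147561 IH) (Lpr_dt (K6.f146899 IH) (Lpr_ct (K6.f146900 IH) (Lpe (K6.f12900 IH) (Lpe (K3.f11407 IH) (Lpe (K5.f4458 IH) (Lpe (f4459 IH) (Lpn (LP (LK LD1_c1 LD2_c47 LD3_c39))))))))))))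
theorem f23614 : Led Lsl_dt (LP (LK LD1_c3 LD2_c13 LD3_c36)) = (LP (LK LD1_c1 LD2_c33 LD3_c21)) :=
  Lre_d IH (LK LD1_c3 LD2_c13 LD3_c36) (LK LD1_c1 LD2_c33 LD3_c21) Lrfl Lrfl
theorem f124040 : Led Lsl_df (LP (LK LD1_c1 LD2_c47 LD3_c38)) = (LP (LK LD1_c0 LD2_c53 LD3_c25)) :=
  Lgr Lrot38 (Lpr_dt (K4.f124035 IH) (Lpn (LP (LK LD1_c0 LD2_c53 LD3_c25))))
theorem f144141 : Led Lsl_cf (LP (LK LD1_c3 LD2_c13 LD3_c46)) = (LP (LK LD1_c1 LD2_c47 LD3_c38)) :=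
  Lgr Lrot99 (Lpe (K4.f23694 IH) (Lpe (K4.f23693 IH) (Lpr_gf (K6.f144137 IH) (Lpe (K6.f84599 IH) (Lpe (K6.f143184 IH) (Lpe (K5.f129129 IH) (Lpr_gt (K5.f129158 IH) (Lpr_ct (K5.f12918 IH) (Lpr_gt (K4.f13390 IH) (Lpn (LP (LK LD1_c1 LD2_c47 LD3_c38))))))))))))
theorem f147574 : Led Lsl_dt (LP (LK LD1_c0 LD2_c53 LD3_c26)) = (LP (LK LD1_c1 LD2_c47 LD3_c39)) :=
  Lgr Lrot173 (Lpe (K6.f142698 IH) (Lpe (K4.f92514 IH) (Lpe (K2.f23690 IH) (Lpe (K4.f23695 IH) (Lpe (K4.f23696 IH) (Lpe (K5.f23699 IH) (Lpr_cf (f144141 IH) (Lpr_df (f124040 IH) (Lpe (K4.f95851 IH) (Lpe (K4.f23677 IH) (Lpe (K0.f20871 IH) (Lpe (K3.f23650 IH) (Lpe (K4.f23608 IH) (Lpe (f23614 IH) (Lpr_cf (f147568 IH) (Lpn (LP (LK LD1_c1 LD2_c47 LD3_c39))))))))))))))))))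
theorem f142710 : Led Lsl_ff (LP (LK LD1_c0 LD2_c53 LD3_c39)) = (LP (LK LD1_c0 LD2_c53 LD3_c26)) :=
  Lgr Lrot23 (Lpr_ct (K6.f11648 IH) (Lpe (K5.f124059 IH) (Lpr_ct (K6.f142698 IH) (Lpn (LP (LK LD1_c0 LD2_c53 LD3_c26))))))
theorem f147584 : Led Lsl_af (LP (LK LD1_c0 LD2_c53 LD3_c25)) = (LP (LK LD1_c0 LD2_c53 LD3_c39)) :=
  Lgr Lrot109 (Lpe (K4.f95851 IH) (Lpe (K4.f23677 IH) (Lpe (K0.f20871 IH) (Lpe (K3.f23650 IH) (Lpe (K4.f23608 IH) (Lpe (f23614 IH) (Lpr_cf (f147568 IH) (Lpe (f147574 IH) (Lpe (f142710 IH) (Lpn (LP (LK LD1_c0 LD2_c53 LD3_c39))))))))))))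
theorem f121223 : Led Lsl_ff (LP (LK LD1_c0 LD2_c53 LD3_c38)) = (LP (LK LD1_c0 LD2_c53 LD3_c25)) :=
  Lgr Lrot23 (Lpe (K4.f121000 IH) (Lpr_ft (K4.f121219 IH) (Lpr_ct (K4.f95851 IH) (Lpn (LP (LK LD1_c0 LD2_c53 LD3_c25))))))
theorem f147591 : Led Lsl_at (LP (LK LD1_c0 LD2_c53 LD3_c38)) = (LP (LK LD1_c0 LD2_c53 LD3_c26)) :=
  Lgr Lrot66 (Lpr_ff (f121223 IH) (Lpr_af (f147584 IH) (Lpr_ff (f142710 IH) (Lpn (LP (LK LD1_c0 LD2_c53 LD3_c26))))))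
theorem f147600 : Led Lsl_gt (LP (LK LD1_c0 LD2_c53 LD3_c25)) = (LP (LK LD1_c0 LD2_c53 LD3_c36)) :=
  Lgr Lrot5 (Lpe (f121223 IH) (Lpr_at (f147591 IH) (Lpe (K6.f134738 IH) (Lpn (LP (LK LD1_c0 LD2_c53 LD3_c36))))))
theorem f12923 : Led Lsl_et (LP (LK LD1_c1 LD2_c47 LD3_c41)) = (LP (LK LD1_c0 LD2_c50 LD3_c35)) :=
  Lre_e IH (LK LD1_c1 LD2_c47 LD3_c41) (LK LD1_c0 LD2_c50 LD3_c35) Lrfl Lrfl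
theorem f12945 : Led Lsl_dt (LP (LK LD1_c1 LD2_c47 LD3_c41)) = (LP (LK LD1_c3 LD2_c41 LD3_c33)) :=
  Lre_d IH (LK LD1_c1 LD2_c47 LD3_c41) (LK LD1_c3 LD2_c41 LD3_c33) Lrfl Lrfl
theorem f13060 : Led Lsl_gt (LP (LK LD1_c7 LD2_c23 LD3_c46)) = (LP (LK LD1_c3 LD2_c41 LD3_c33)) :=
  Lre_g IH (LK LD1_c7 LD2_c23 LD3_c46) (LK LD1_c3 LD2_c41 LD3_c33) Lrfl Lrfl
theorem f124053 : Led Lsl_dt (LP (LK LD1_c13 LD2_c59 LD3_c14)) = (LP (LK LD1_c7 LD2_c23 LD3_c46)) :=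
  Lre_d IH (LK LD1_c13 LD2_c59 LD3_c14) (LK LD1_c7 LD2_c23 LD3_c46) Lrfl Lrfl
theorem f84908 : Led Lsl_dt (LP (LK LD1_c1 LD2_c53 LD3_c61)) = (LP (LK LD1_c0 LD2_c53 LD3_c36)) :=
  Lre_d IH (LK LD1_c1 LD2_c53 LD3_c61) (LK LD1_c0 LD2_c53 LD3_c36) Lrfl Lrfl
theorem f134743 : Led Lsl_et (LP (LK LD1_c1 LD2_c53 LD3_c61)) = (LP (LK LD1_c3 LD2_c54 LD3_c50)) :=
  Lre_e IH (LK LD1_c1 LD2_c53 LD3_c61) (LK LD1_c3 LD2_c54 LD3_c50) Lrfl Lrfl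
theorem f144633 : Led Lsl_gt (LP (LK LD1_c3 LD2_c54 LD3_c50)) = (LP (LK LD1_c7 LD2_c51 LD3_c20)) :=
  Lre_g IH (LK LD1_c3 LD2_c54 LD3_c50) (LK LD1_c7 LD2_c51 LD3_c20) Lrfl Lrfl
theorem f147609 : Led Lsl_et (LP (LK LD1_c13 LD2_c59 LD3_c14)) = (LP (LK LD1_c7 LD2_c51 LD3_c20)) :=
  Lgr Lrot122 (Lpr_dt (f124053 IH) (Lpr_gt (f13060 IH) (Lpe (f12945 IH) (Lpr_et (f12923 IH) (Lpr_gt (K4.f13390 IH) (Lpr_dt (K4.f124035 IH) (Lpr_gt (f147600 IH) (Lpe (f84908 IH) (Lpr_et (f134743 IH) (Lpr_gt (f144633 IH) (Lpn (LP (LK LD1_c7 LD2_c51 LD3_c20)))))))))))))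
theorem f147626 : Led Lsl_gt (LP (LK LD1_c13 LD2_c54 LD3_c54)) = (LP (LK LD1_c7 LD2_c23 LD3_c46)) :=
  Lre_g IH (LK LD1_c13 LD2_c54 LD3_c54) (LK LD1_c7 LD2_c23 LD3_c46) Lrfl Lrfl
theorem f147627 : Led Lsl_dt (LP (LK LD1_c7 LD2_c21 LD3_c35)) = (LP (LK LD1_c13 LD2_c54 LD3_c54)) :=
  Lre_d IH (LK LD1_c7 LD2_c21 LD3_c35) (LK LD1_c13 LD2_c54 LD3_c54) Lrfl Lrfl
theorem f147628 : Led Lsl_gt (LP (LK LD1_c3 LD2_c41 LD3_c31)) = (LP (LK LD1_c7 LD2_c21 LD3_c35)) :=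
  Lre_g IH (LK LD1_c3 LD2_c41 LD3_c31) (LK LD1_c7 LD2_c21 LD3_c35) Lrfl Lrfl
theorem f147629 : Led Lsl_et (LP (LK LD1_c7 LD2_c23 LD3_c40)) = (LP (LK LD1_c3 LD2_c41 LD3_c31)) :=
  Lre_e IH (LK LD1_c7 LD2_c23 LD3_c40) (LK LD1_c3 LD2_c41 LD3_c31) Lrfl Lrfl
theorem f147630 : Led Lsl_dt (LP (LK LD1_c7 LD2_c23 LD3_c40)) = (LP (LK LD1_c13 LD2_c58 LD3_c57)) :=
  Lre_d IH (LK LD1_c7 LD2_c23 LD3_c40) (LK LD1_c13 LD2_c58 LD3_c57) Lrfl Lrfl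
theorem f123043 : Led Lsl_gt (LP (LK LD1_c7 LD2_c51 LD3_c20)) = (LP (LK LD1_c3 LD2_c55 LD3_c12)) :=
  Lre_g IH (LK LD1_c7 LD2_c51 LD3_c20) (LK LD1_c3 LD2_c55 LD3_c12) Lrfl Lrfl
theorem f122891 : Led Lsl_dt (LP (LK LD1_c3 LD2_c54 LD3_c18)) = (LP (LK LD1_c7 LD2_c50 LD3_c13)) :=
  Lre_d IH (LK LD1_c3 LD2_c54 LD3_c18) (LK LD1_c7 LD2_c50 LD3_c13) Lrfl Lrfl
theorem f147631 : Led Lsl_gf (LP (LK LD1_c13 LD2_c58 LD3_c57)) = (LP (LK LD1_c7 LD2_c50 LD3_c13)) :=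
  Lgr Lrot145 (Lpe (f147630 IH) (Lpr_et (f147629 IH) (Lpr_gt (f147628 IH) (Lpr_dt (f147627 IH) (Lpr_gt (f147626 IH) (Lpe (f124053 IH) (Lpr_et (f147609 IH) (Lpr_gt (f123043 IH) (Lpr_ef (K6.f145310 IH) (Lpr_dt (f122891 IH) (Lpn (LP (LK LD1_c7 LD2_c50 LD3_c13)))))))))))))
theorem f123313 : Led Lsl_gt (LP (LK LD1_c7 LD2_c49 LD3_c27)) = (LP (LK LD1_c3 LD2_c54 LD3_c18)) :=
  Lre_g IH (LK LD1_c7 LD2_c49 LD3_c27) (LK LD1_c3 LD2_c54 LD3_c18) Lrfl Lrfl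
theorem f142332 : Led Lsl_et (LP (LK LD1_c1 LD2_c53 LD3_c35)) = (LP (LK LD1_c3 LD2_c53 LD3_c56)) :=
  Lre_e IH (LK LD1_c1 LD2_c53 LD3_c35) (LK LD1_c3 LD2_c53 LD3_c56) Lrfl Lrfl
theorem f142316 : Led Lsl_gt (LP (LK LD1_c3 LD2_c53 LD3_c56)) = (LP (LK LD1_c7 LD2_c49 LD3_c27)) :=
  Lre_g IH (LK LD1_c3 LD2_c53 LD3_c56) (LK LD1_c7 LD2_c49 LD3_c27) Lrfl Lrfl
theorem f13367 : Led Lsl_et (LP (LK LD1_c1 LD2_c49 LD3_c9)) = (LP (LK LD1_c0 LD2_c51 LD3_c20)) :=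
  Lre_e IH (LK LD1_c1 LD2_c49 LD3_c9) (LK LD1_c0 LD2_c51 LD3_c20) Lrfl Lrfl
theorem f13048 : Led Lsl_dt (LP (LK LD1_c1 LD2_c49 LD3_c9)) = (LP (LK LD1_c3 LD2_c44 LD3_c14)) :=
  Lre_d IH (LK LD1_c1 LD2_c49 LD3_c9) (LK LD1_c3 LD2_c44 LD3_c14) Lrfl Lrfl
theorem f13358 : Led Lsl_gt (LP (LK LD1_c7 LD2_c29 LD3_c28)) = (LP (LK LD1_c3 LD2_c44 LD3_c14)) :=
  Lre_g IH (LK LD1_c7 LD2_c29 LD3_c28) (LK LD1_c3 LD2_c44 LD3_c14) Lrfl Lrfl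
theorem f121041 : Led Lsl_dt (LP (LK LD1_c14 LD2_c8 LD3_c42)) = (LP (LK LD1_c7 LD2_c29 LD3_c28)) :=
  Lre_d IH (LK LD1_c14 LD2_c8 LD3_c42) (LK LD1_c7 LD2_c29 LD3_c28) Lrfl Lrfl
theorem f142336 : Led Lsl_ef (LP (LK LD1_c7 LD2_c49 LD3_c27)) = (LP (LK LD1_c14 LD2_c8 LD3_c42)) :=
  Lgr Lrot17 (Lpe (f142316 IH) (Lpe (f142332 IH) (Lpr_dt (K6.f134753 IH) (Lpr_gf (K6.f142320 IH) (Lpe (K4.f121015 IH) (Lpe (K4.f12926 IH) (Lpe (f13367 IH) (Lpr_dt (f13048 IH) (Lpe (f13358 IH) (Lpe (f121041 IH) (Lpn (LP (LK LD1_c14 LD2_c8 LD3_c42)))))))))))))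
theorem f142346 : Led Lsl_gt (LP (LK LD1_c14 LD2_c4 LD3_c20)) = (LP (LK LD1_c7 LD2_c29 LD3_c28)) :=
  Lre_g IH (LK LD1_c14 LD2_c4 LD3_c20) (LK LD1_c7 LD2_c29 LD3_c28) Lrfl Lrfl
theorem f142347 : Led Lsl_dt (LP (LK LD1_c7 LD2_c26 LD3_c41)) = (LP (LK LD1_c14 LD2_c4 LD3_c20)) :=
  Lre_d IH (LK LD1_c7 LD2_c26 LD3_c41) (LK LD1_c14 LD2_c4 LD3_c20) Lrfl Lrfl
theorem f147645 : Led Lsl_ef (LP (LK LD1_c7 LD2_c21 LD3_c35)) = (LP (LK LD1_c7 LD2_c26 LD3_c41)) :=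
  Lgr Lrot17 (Lpe (f147628 IH) (Lpe (f147629 IH) (Lpr_dt (f147630 IH) (Lpr_gf (f147631 IH) (Lpe (f122891 IH) (Lpe (f123313 IH) (Lpr_ef (f142336 IH) (Lpr_dt (f121041 IH) (Lpe (f142346 IH) (Lpe (f142347 IH) (Lpn (LP (LK LD1_c7 LD2_c26 LD3_c41)))))))))))))
theorem f147654 : Led Lsl_ft (LP (LK LD1_c7 LD2_c21 LD3_c35)) = (LP (LK LD1_c3 LD2_c40 LD3_c39)) :=
  Lre_f IH (LK LD1_c7 LD2_c21 LD3_c35) (LK LD1_c3 LD2_c40 LD3_c39) Lrfl Lrfl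
theorem f147655 : Led Lsl_et (LP (LK LD1_c3 LD2_c40 LD3_c39)) = (LP (LK LD1_c1 LD2_c47 LD3_c16)) :=
  Lre_e IH (LK LD1_c3 LD2_c40 LD3_c39) (LK LD1_c1 LD2_c47 LD3_c16) Lrfl Lrfl
theorem f147656 : Led Lsl_ft (LP (LK LD1_c3 LD2_c42 LD3_c57)) = (LP (LK LD1_c7 LD2_c26 LD3_c41)) :=
  Lre_f IH (LK LD1_c3 LD2_c42 LD3_c57) (LK LD1_c7 LD2_c26 LD3_c41) Lrfl Lrfl
theorem f147657 : Led Lsl_et (LP (LK LD1_c1 LD2_c48 LD3_c29)) = (LP (LK LD1_c3 LD2_c42 LD3_c57)) :=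
  Lre_e IH (LK LD1_c1 LD2_c48 LD3_c29) (LK LD1_c3 LD2_c42 LD3_c57) Lrfl Lrfl
theorem f147658 : Led Lsl_ft (LP (LK LD1_c1 LD2_c47 LD3_c16)) = (LP (LK LD1_c1 LD2_c48 LD3_c29)) :=
  Lgr Lrot86 (Lpe (f147655 IH) (Lpe (f147654 IH) (Lpr_ef (f147645 IH) (Lpe (f147656 IH) (Lpe (f147657 IH) (Lpn (LP (LK LD1_c1 LD2_c48 LD3_c29))))))))
theorem f13174 : Led Lsl_at (LP (LK LD1_c1 LD2_c48 LD3_c29)) = (LP (LK LD1_c0 LD2_c51 LD3_c20)) :=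
  Lre_a IH (LK LD1_c1 LD2_c48 LD3_c29) (LK LD1_c0 LD2_c51 LD3_c20) Lrfl Lrfl
theorem f147675 : Led Lsl_gt (LP (LK LD1_c1 LD2_c47 LD3_c16)) = (LP (LK LD1_c1 LD2_c49 LD3_c7)) :=
  Lgr Lrot5 (Lpr_ft (f147658 IH) (Lpr_at (f13174 IH) (Lpe (K6.f11302 IH) (Lpn (LP (LK LD1_c1 LD2_c49 LD3_c7))))))
theorem f147691 : Led Lsl_dt (LP (LK LD1_c3 LD2_c40 LD3_c39)) = (LP (LK LD1_c7 LD2_c21 LD3_c34)) :=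
  Lre_d IH (LK LD1_c3 LD2_c40 LD3_c39) (LK LD1_c7 LD2_c21 LD3_c34) Lrfl Lrfl
theorem f147692 : Led Lsl_gt (LP (LK LD1_c13 LD2_c54 LD3_c52)) = (LP (LK LD1_c7 LD2_c21 LD3_c34)) :=
  Lre_g IH (LK LD1_c13 LD2_c54 LD3_c52) (LK LD1_c7 LD2_c21 LD3_c34) Lrfl Lrfl
theorem f142279 : Led Lsl_df (LP (LK LD1_c0 LD2_c53 LD3_c39)) = (LP (LK LD1_c1 LD2_c49 LD3_c7)) :=
  Lgr Lrot38 (Lpr_dt (K6.f142269 IH) (Lpn (LP (LK LD1_c1 LD2_c49 LD3_c7))))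
theorem f121034 : Led Lsl_et (LP (LK LD1_c0 LD2_c53 LD3_c40)) = (LP (LK LD1_c1 LD2_c54 LD3_c10)) :=
  Lre_e IH (LK LD1_c0 LD2_c53 LD3_c40) (LK LD1_c1 LD2_c54 LD3_c10) Lrfl Lrfl
theorem f122943 : Led Lsl_gt (LP (LK LD1_c1 LD2_c54 LD3_c10)) = (LP (LK LD1_c3 LD2_c55 LD3_c9)) :=
  Lre_g IH (LK LD1_c1 LD2_c54 LD3_c10) (LK LD1_c3 LD2_c55 LD3_c9) Lrfl Lrfl
theorem f147693 : Led Lsl_et (LP (LK LD1_c7 LD2_c52 LD3_c4)) = (LP (LK LD1_c3 LD2_c55 LD3_c9)) :=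
  Lre_e IH (LK LD1_c7 LD2_c52 LD3_c4) (LK LD1_c3 LD2_c55 LD3_c9) Lrfl Lrfl
theorem f147694 : Led Lsl_df (LP (LK LD1_c13 LD2_c54 LD3_c52)) = (LP (LK LD1_c7 LD2_c52 LD3_c4)) :=
  Lgr Lrot170 (Lpr_gt (f147692 IH) (Lpe (f147691 IH) (Lpr_et (f147655 IH) (Lpr_gt (f147675 IH) (Lpe (f142279 IH) (Lpr_gt (K2.f11523 IH) (Lpe (K6.f34694 IH) (Lpr_et (f121034 IH) (Lpr_gt (f122943 IH) (Lpe (f147693 IH) (Lpn (LP (LK LD1_c7 LD2_c52 LD3_c4)))))))))))))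
theorem f13010 : Led Lsl_gt (LP (LK LD1_c7 LD2_c23 LD3_c48)) = (LP (LK LD1_c13 LD2_c54 LD3_c52)) :=
  Lre_g IH (LK LD1_c7 LD2_c23 LD3_c48) (LK LD1_c13 LD2_c54 LD3_c52) Lrfl Lrfl
theorem f13024 : Led Lsl_dt (LP (LK LD1_c3 LD2_c41 LD3_c34)) = (LP (LK LD1_c7 LD2_c23 LD3_c48)) :=
  Lre_d IH (LK LD1_c3 LD2_c41 LD3_c34) (LK LD1_c7 LD2_c23 LD3_c48) Lrfl Lrfl
theorem f12971 : Led Lsl_at (LP (LK LD1_c7 LD2_c21 LD3_c35)) = (LP (LK LD1_c3 LD2_c41 LD3_c34)) :=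
  Lre_a IH (LK LD1_c7 LD2_c21 LD3_c35) (LK LD1_c3 LD2_c41 LD3_c34) Lrfl Lrfl
theorem f12969 : Led Lsl_at (LP (LK LD1_c3 LD2_c44 LD3_c15)) = (LP (LK LD1_c7 LD2_c26 LD3_c41)) :=
  Lre_a IH (LK LD1_c3 LD2_c44 LD3_c15) (LK LD1_c7 LD2_c26 LD3_c41) Lrfl Lrfl
theorem f147647 : Led Lsl_et (LP (LK LD1_c3 LD2_c41 LD3_c34)) = (LP (LK LD1_c3 LD2_c44 LD3_c15)) :=
  Lgr Lrot123 (Lpe (f12971 IH) (Lpr_ef (f147645 IH) (Lpe (f12969 IH) (Lpn (LP (LK LD1_c3 LD2_c44 LD3_c15))))))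
theorem f12993 : Led Lsl_gt (LP (LK LD1_c7 LD2_c26 LD3_c38)) = (LP (LK LD1_c3 LD2_c44 LD3_c15)) :=
  Lre_g IH (LK LD1_c7 LD2_c26 LD3_c38) (LK LD1_c3 LD2_c44 LD3_c15) Lrfl Lrfl
theorem f147710 : Led Lsl_et (LP (LK LD1_c14 LD2_c4 LD3_c13)) = (LP (LK LD1_c7 LD2_c26 LD3_c38)) :=
  Lre_e IH (LK LD1_c14 LD2_c4 LD3_c13) (LK LD1_c7 LD2_c26 LD3_c38) Lrfl Lrfl
theorem f144586 : Led Lsl_gt (LP (LK LD1_c3 LD2_c55 LD3_c9)) = (LP (LK LD1_c7 LD2_c51 LD3_c23)) :=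
  Lre_g IH (LK LD1_c3 LD2_c55 LD3_c9) (LK LD1_c7 LD2_c51 LD3_c23) Lrfl Lrfl
theorem f144618 : Led Lsl_dt (LP (LK LD1_c7 LD2_c51 LD3_c23)) = (LP (LK LD1_c14 LD2_c49 LD3_c14)) :=
  Lre_d IH (LK LD1_c7 LD2_c51 LD3_c23) (LK LD1_c14 LD2_c49 LD3_c14) Lrfl Lrfl
theorem f147711 : Led Lsl_gt (LP (LK LD1_c14 LD2_c49 LD3_c14)) = (LP (LK LD1_c7 LD2_c52 LD3_c10)) :=
  Lre_g IH (LK LD1_c14 LD2_c49 LD3_c14) (LK LD1_c7 LD2_c52 LD3_c10) Lrfl Lrfl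
theorem f147712 : Led Lsl_dt (LP (LK LD1_c14 LD2_c4 LD3_c13)) = (LP (LK LD1_c7 LD2_c52 LD3_c10)) :=
  Lgr Lrot56 (Lpr_et (f147710 IH) (Lpr_gt (f12993 IH) (Lpe (f147647 IH) (Lpr_dt (f13024 IH) (Lpr_gt (f13010 IH) (Lpr_df (f147694 IH) (Lpr_et (f147693 IH) (Lpr_gt (f144586 IH) (Lpr_dt (f144618 IH) (Lpr_gt (f147711 IH) (Lpn (LP (LK LD1_c7 LD2_c52 LD3_c10)))))))))))))
theorem f147726 : Led Lsl_gt (LP (LK LD1_c3 LD2_c42 LD3_c57)) = (LP (LK LD1_c7 LD2_c26 LD3_c38)) :=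
  Lre_g IH (LK LD1_c3 LD2_c42 LD3_c57) (LK LD1_c7 LD2_c26 LD3_c38) Lrfl Lrfl
theorem f147670 : Led Lsl_dt (LP (LK LD1_c1 LD2_c48 LD3_c29)) = (LP (LK LD1_c0 LD2_c50 LD3_c61)) :=
  Lre_d IH (LK LD1_c1 LD2_c48 LD3_c29) (LK LD1_c0 LD2_c50 LD3_c61) Lrfl Lrfl
theorem f123303 : Led Lsl_gt (LP (LK LD1_c7 LD2_c52 LD3_c10)) = (LP (LK LD1_c3 LD2_c55 LD3_c11)) :=
  Lre_g IH (LK LD1_c7 LD2_c52 LD3_c10) (LK LD1_c3 LD2_c55 LD3_c11) Lrfl Lrfl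
theorem f147727 : Led Lsl_gf (LP (LK LD1_c0 LD2_c50 LD3_c61)) = (LP (LK LD1_c0 LD2_c50 LD3_c33)) :=
  Lgr Lrot134 (Lpe (f147670 IH) (Lpr_et (f147657 IH) (Lpr_gt (f147726 IH) (Lpe (f147710 IH) (Lpr_dt (f147712 IH) (Lpr_gt (f123303 IH) (Lpe (K6.f121055 IH) (Lpr_et (f122939 IH) (Lpr_gt (f146876 IH) (Lpr_dt (K6.f116272 IH) (Lpn (LP (LK LD1_c0 LD2_c50 LD3_c33)))))))))))))
theorem f147746 : Led Lsl_ct (LP (LK LD1_c0 LD2_c23 LD3_c1)) = (LP (LK LD1_c0 LD2_c50 LD3_c61)) :=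
  Lre_c IH (LK LD1_c0 LD2_c23 LD3_c1) (LK LD1_c0 LD2_c50 LD3_c61) Lrfl Lrfl
theorem f147738 : Led Lsl_ct (LP (LK LD1_c0 LD2_c50 LD3_c61)) = (LP (LK LD1_c0 LD2_c23 LD3_c1)) :=
  Lre_c IH (LK LD1_c0 LD2_c50 LD3_c61) (LK LD1_c0 LD2_c23 LD3_c1) Lrfl Lrfl
theorem f146848 : Led Lsl_cf (LP (LK LD1_c1 LD2_c47 LD3_c28)) = (LP (LK LD1_c3 LD2_c14 LD3_c5)) :=
  Lgr Lrot11 (Lpr_ct (K6.f146842 IH) (Lpn (LP (LK LD1_c3 LD2_c14 LD3_c5))))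
theorem f147739 : Led Lsl_gt (LP (LK LD1_c0 LD2_c23 LD3_c1)) = (LP (LK LD1_c0 LD2_c22 LD3_c50)) :=
  Lgr Lrot150 (Lpe (f147738 IH) (Lpr_gf (f147727 IH) (Lpe (K6.f116272 IH) (Lpe (K6.f146870 IH) (Lpe (K5.f134764 IH) (Lpr_gt (K6.f146861 IH) (Lpe (f146848 IH) (Lpe (K6.f116054 IH) (Lpe (K3.f108818 IH) (Lpn (LP (LK LD1_c0 LD2_c22 LD3_c50))))))))))))
theorem f147747 : Led Lsl_bt (LP (LK LD1_c0 LD2_c23 LD3_c1)) = (LP (LK LD1_c0 LD2_c23 LD3_c1)) :=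
  Lgr Lrot130 (Lpr_ct (f147746 IH) (Lpr_gf (f147727 IH) (Lpr_cf (K3.f108777 IH) (Lpe (K3.f108774 IH) (Lpe (K3.f62834 IH) (Lpe (K4.f94491 IH) (Lpe (K4.f122483 IH) (Lpr_gf (K4.f122477 IH) (Lpe (K3.f108818 IH) (Lpe (f147739 IH) (Lpn (LP (LK LD1_c0 LD2_c23 LD3_c1)))))))))))))
theorem f123586 : Led Lsl_ft (LP (LK LD1_c0 LD2_c50 LD3_c33)) = (LP (LK LD1_c0 LD2_c51 LD3_c18)) :=
  Lgr Lrot4 (Lpr_cf (K3.f108777 IH) (Lpe (K4.f116009 IH) (Lpr_cf (K4.f123570 IH) (Lpn (LP (LK LD1_c0 LD2_c51 LD3_c18))))))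
theorem f94211 : Led Lsl_dt (LP (LK LD1_c3 LD2_c13 LD3_c61)) = (LP (LK LD1_c1 LD2_c33 LD3_c34)) :=
  Lre_d IH (LK LD1_c3 LD2_c13 LD3_c61) (LK LD1_c1 LD2_c33 LD3_c34) Lrfl Lrfl
theorem f22627 : Led Lsl_ct (LP (LK LD1_c1 LD2_c33 LD3_c34)) = (LP (LK LD1_c0 LD2_c43 LD3_c23)) :=
  Lre_c IH (LK LD1_c1 LD2_c33 LD3_c34) (LK LD1_c0 LD2_c43 LD3_c23) Lrfl Lrfl
theorem f94202 : Led Lsl_dt (LP (LK LD1_c0 LD2_c43 LD3_c23)) = (LP (LK LD1_c0 LD2_c45 LD3_c19)) :=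
  Lgr Lrot79 (Lpe (K2.f22504 IH) (Lpr_df (K2.f94200 IH) (Lpe (K2.f84750 IH) (Lpn (LP (LK LD1_c0 LD2_c45 LD3_c19))))))
theorem f146913 : Led Lsl_af (LP (LK LD1_c0 LD2_c50 LD3_c34)) = (LP (LK LD1_c0 LD2_c51 LD3_c18)) :=
  Lgr Lrot109 (Lpr_cf (K4.f124019 IH) (Lpe (K3.f84746 IH) (Lpr_cf (K2.f84753 IH) (Lpe (f94202 IH) (Lpe (f22627 IH) (Lpe (f94211 IH) (Lpr_cf (K6.f146904 IH) (Lpe (K6.f12900 IH) (Lpr_ft (f123586 IH) (Lpn (LP (LK LD1_c0 LD2_c51 LD3_c18))))))))))))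
theorem f147731 : Led Lsl_gt (LP (LK LD1_c0 LD2_c50 LD3_c61)) = (LP (LK LD1_c0 LD2_c50 LD3_c34)) :=
  Lgr Lrot46 (Lpr_gf (f147727 IH) (Lpr_ft (f123586 IH) (Lpe (f146913 IH) (Lpn (LP (LK LD1_c0 LD2_c50 LD3_c34))))))
theorem f94423 : Led Lsl_bt (LP (LK LD1_c0 LD2_c47 LD3_c58)) = (LP (LK LD1_c0 LD2_c21 LD3_c31)) :=
  Lre_b IH (LK LD1_c0 LD2_c47 LD3_c58) (LK LD1_c0 LD2_c21 LD3_c31) Lrfl Lrfl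
theorem f94446 : Led Lsl_ct (LP (LK LD1_c0 LD2_c48 LD3_c8)) = (LP (LK LD1_c0 LD2_c50 LD3_c4)) :=
  Lgr Lrot59 (Lpr_cf (K2.f94416 IH) (Lpn (LP (LK LD1_c0 LD2_c50 LD3_c4))))
theorem f147768 : Led Lsl_gt (LP (LK LD1_c0 LD2_c22 LD3_c49)) = (LP (LK LD1_c0 LD2_c23 LD3_c1)) :=
  Lgr Lrot164 (Lpr_bf (K5.f128310 IH) (Lpr_ct (f94446 IH) (Lpe (K2.f5701 IH) (Lpe (K0.f397 IH) (Lpe (K2.f94412 IH) (Lpe (f94423 IH) (Lpe (K4.f124019 IH) (Lpe (f147731 IH) (Lpe (f147746 IH) (Lpr_bt (f147747 IH) (Lpn (LP (LK LD1_c0 LD2_c23 LD3_c1)))))))))))))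
theorem f122485 : Led Lsl_bt (LP (LK LD1_c3 LD2_c40 LD3_c45)) = (LP (LK LD1_c1 LD2_c47 LD3_c21)) :=
  Lre_b IH (LK LD1_c3 LD2_c40 LD3_c45) (LK LD1_c1 LD2_c47 LD3_c21) Lrfl Lrfl
theorem f13165 : Led Lsl_bt (LP (LK LD1_c0 LD2_c50 LD3_c61)) = (LP (LK LD1_c1 LD2_c48 LD3_c28)) :=
  Lre_b IH (LK LD1_c0 LD2_c50 LD3_c61) (LK LD1_c1 LD2_c48 LD3_c28) Lrfl Lrfl
theorem f147780 : Led Lsl_gt (LP (LK LD1_c1 LD2_c48 LD3_c28)) = (LP (LK LD1_c3 LD2_c42 LD3_c54)) :=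
  Lre_g IH (LK LD1_c1 LD2_c48 LD3_c28) (LK LD1_c3 LD2_c42 LD3_c54) Lrfl Lrfl
theorem f147781 : Led Lsl_bt (LP (LK LD1_c7 LD2_c26 LD3_c30)) = (LP (LK LD1_c3 LD2_c42 LD3_c54)) :=
  Lre_b IH (LK LD1_c7 LD2_c26 LD3_c30) (LK LD1_c3 LD2_c42 LD3_c54) Lrfl Lrfl
theorem f147782 : Led Lsl_cf (LP (LK LD1_c6 LD2_c34 LD3_c6)) = (LP (LK LD1_c7 LD2_c26 LD3_c30)) :=
  Lgr Lrot160 (Lpr_gt (K4.f65362 IH) (Lpe (K6.f122614 IH) (Lpr_bt (f122485 IH) (Lpr_gt (K4.f12581 IH) (Lpr_ct (K6.f12582 IH) (Lpr_gt (f147768 IH) (Lpe (f147738 IH) (Lpr_bt (f13165 IH) (Lpr_gt (f147780 IH) (Lpe (f147781 IH) (Lpn (LP (LK LD1_c7 LD2_c26 LD3_c30)))))))))))))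
theorem f147802 : Led Lsl_gf (LP (LK LD1_c1 LD2_c48 LD3_c28)) = (LP (LK LD1_c3 LD2_c42 LD3_c54)) :=
  Lgr Lrot124 (Lpe (f13165 IH) (Lpr_ct (f147738 IH) (Lpr_gt (f147739 IH) (Lpe (K3.f108816 IH) (Lpr_bt (K4.f122141 IH) (Lpr_gt (K6.f108790 IH) (Lpe (K6.f137061 IH) (Lpe (K4.f115816 IH) (Lpr_cf (f147782 IH) (Lpr_bt (f147781 IH) (Lpn (LP (LK LD1_c3 LD2_c42 LD3_c54)))))))))))))
theorem f12890 : Led Lsl_bt (LP (LK LD1_c1 LD2_c48 LD3_c28)) = (LP (LK LD1_c0 LD2_c50 LD3_c61)) :=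
  Lre_b IH (LK LD1_c1 LD2_c48 LD3_c28) (LK LD1_c0 LD2_c50 LD3_c61) Lrfl Lrfl
theorem f147760 : Led Lsl_cf (LP (LK LD1_c1 LD2_c48 LD3_c28)) = (LP (LK LD1_c1 LD2_c48 LD3_c28)) :=
  Lgr Lrot97 (Lpr_bt (f12890 IH) (Lpr_ct (f147738 IH) (Lpr_bt (f147747 IH) (Lpr_ct (f147746 IH) (Lpr_bt (f13165 IH) (Lpn (LP (LK LD1_c1 LD2_c48 LD3_c28))))))))
theorem f147790 : Led Lsl_ct (LP (LK LD1_c7 LD2_c26 LD3_c31)) = (LP (LK LD1_c3 LD2_c42 LD3_c54)) :=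
  Lre_c IH (LK LD1_c7 LD2_c26 LD3_c31) (LK LD1_c3 LD2_c42 LD3_c54) Lrfl Lrfl
theorem f147804 : Led Lsl_bf (LP (LK LD1_c7 LD2_c27 LD3_c35)) = (LP (LK LD1_c7 LD2_c26 LD3_c31)) :=
  Lgr Lrot156 (Lpe (K4.f102899 IH) (Lpr_bf (K6.f137059 IH) (Lpe (K6.f137061 IH) (Lpe (K4.f115816 IH) (Lpr_cf (f147782 IH) (Lpr_bt (f147781 IH) (Lpe (f147802 IH) (Lpe (f147760 IH) (Lpr_gt (f147780 IH) (Lpe (f147790 IH) (Lpn (LP (LK LD1_c7 LD2_c26 LD3_c31)))))))))))))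
theorem f147806 : Led Lsl_et (LP (LK LD1_c14 LD2_c3 LD3_c56)) = (LP (LK LD1_c7 LD2_c26 LD3_c31)) :=
  Lre_e IH (LK LD1_c14 LD2_c3 LD3_c56) (LK LD1_c7 LD2_c26 LD3_c31) Lrfl Lrfl
theorem f147807 : Led Lsl_bt (LP (LK LD1_c14 LD2_c5 LD3_c1)) = (LP (LK LD1_c14 LD2_c3 LD3_c56)) :=
  Lgr Lrot119 (Lpe (K4.f108916 IH) (Lpr_bf (f147804 IH) (Lpe (f147806 IH) (Lpn (LP (LK LD1_c14 LD2_c3 LD3_c56))))))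
theorem f111171 : Led Lsl_bt (LP (LK LD1_c12 LD2_c34 LD3_c52)) = (LP (LK LD1_c21 LD2_c41 LD3_c13)) :=
  Lre_b IH (LK LD1_c12 LD2_c34 LD3_c52) (LK LD1_c21 LD2_c41 LD3_c13) Lrfl Lrfl
theorem f147811 : Led Lsl_ct (LP (LK LD1_c14 LD2_c3 LD3_c56)) = (LP (LK LD1_c7 LD2_c26 LD3_c32)) :=
  Lre_c IH (LK LD1_c14 LD2_c3 LD3_c56) (LK LD1_c7 LD2_c26 LD3_c32) Lrfl Lrfl
theorem f147812 : Led Lsl_bt (LP (LK LD1_c7 LD2_c26 LD3_c32)) = (LP (LK LD1_c14 LD2_c3 LD3_c55)) :=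
  Lre_b IH (LK LD1_c7 LD2_c26 LD3_c32) (LK LD1_c14 LD2_c3 LD3_c55) Lrfl Lrfl
theorem f147813 : Led Lsl_cf (LP (LK LD1_c12 LD2_c34 LD3_c52)) = (LP (LK LD1_c14 LD2_c3 LD3_c55)) :=
  Lgr Lrot97 (Lpr_bt (f111171 IH) (Lpe (K4.f111296 IH) (Lpr_bt (f147807 IH) (Lpr_ct (f147811 IH) (Lpr_bt (f147812 IH) (Lpn (LP (LK LD1_c14 LD2_c3 LD3_c55))))))))
theorem f111235 : Led Lsl_et (LP (LK LD1_c14 LD2_c11 LD3_c39)) = (LP (LK LD1_c7 LD2_c31 LD3_c13)) :=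
  Lre_e IH (LK LD1_c14 LD2_c11 LD3_c39) (LK LD1_c7 LD2_c31 LD3_c13) Lrfl Lrfl
theorem f105419 : Led Lsl_dt (LP (LK LD1_c23 LD2_c47 LD3_c3)) = (LP (LK LD1_c14 LD2_c11 LD3_c39)) :=
  Lre_d IH (LK LD1_c23 LD2_c47 LD3_c3) (LK LD1_c14 LD2_c11 LD3_c39) Lrfl Lrfl
theorem f111134 : Led Lsl_et (LP (LK LD1_c6 LD2_c34 LD3_c6)) = (LP (LK LD1_c12 LD2_c34 LD3_c52)) :=
  Lre_e IH (LK LD1_c6 LD2_c34 LD3_c6) (LK LD1_c12 LD2_c34 LD3_c52) Lrfl Lrfl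
theorem f111236 : Led Lsl_dt (LP (LK LD1_c12 LD2_c34 LD3_c52)) = (LP (LK LD1_c21 LD2_c41 LD3_c15)) :=
  Lre_d IH (LK LD1_c12 LD2_c34 LD3_c52) (LK LD1_c21 LD2_c41 LD3_c15) Lrfl Lrfl
theorem f111237 : Led Lsl_ef (LP (LK LD1_c23 LD2_c47 LD3_c3)) = (LP (LK LD1_c21 LD2_c41 LD3_c15)) :=
  Lgr Lrot73 (Lpr_dt (f105419 IH) (Lpr_et (f111235 IH) (Lpr_dt (K4.f111226 IH) (Lpr_et (f111134 IH) (Lpr_dt (f111236 IH) (Lpn (LP (LK LD1_c21 LD2_c41 LD3_c15))))))))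
theorem f111196 : Led Lsl_at (LP (LK LD1_c23 LD2_c47 LD3_c3)) = (LP (LK LD1_c14 LD2_c11 LD3_c42)) :=
  Lre_a IH (LK LD1_c23 LD2_c47 LD3_c3) (LK LD1_c14 LD2_c11 LD3_c42) Lrfl Lrfl
theorem f111240 : Led Lsl_at (LP (LK LD1_c13 LD2_c19 LD3_c2)) = (LP (LK LD1_c21 LD2_c41 LD3_c15)) :=
  Lgr Lrot80 (Lpe (K4.f111189 IH) (Lpe (f111196 IH) (Lpr_ef (f111237 IH) (Lpn (LP (LK LD1_c21 LD2_c41 LD3_c15))))))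
theorem f111246 : Led Lsl_dt (LP (LK LD1_c21 LD2_c41 LD3_c15)) = (LP (LK LD1_c12 LD2_c34 LD3_c52)) :=
  Lre_d IH (LK LD1_c21 LD2_c41 LD3_c15) (LK LD1_c12 LD2_c34 LD3_c52) Lrfl Lrfl
theorem f111260 : Led Lsl_af (LP (LK LD1_c7 LD2_c1 LD3_c14)) = (LP (LK LD1_c12 LD2_c34 LD3_c52)) :=
  Lgr Lrot117 (Lpr_dt (K4.f111178 IH) (Lpr_at (f111240 IH) (Lpr_dt (f111246 IH) (Lpn (LP (LK LD1_c12 LD2_c34 LD3_c52))))))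
theorem f111174 : Led Lsl_ct (LP (LK LD1_c7 LD2_c1 LD3_c14)) = (LP (LK LD1_c13 LD2_c19 LD3_c0)) :=
  Lre_c IH (LK LD1_c7 LD2_c1 LD3_c14) (LK LD1_c13 LD2_c19 LD3_c0) Lrfl Lrfl
theorem f147821 : Led Lsl_at (LP (LK LD1_c13 LD2_c19 LD3_c0)) = (LP (LK LD1_c14 LD2_c3 LD3_c55)) :=
  Lgr Lrot107 (Lpe (f111174 IH) (Lpr_af (f111260 IH) (Lpr_cf (f147813 IH) (Lpn (LP (LK LD1_c14 LD2_c3 LD3_c55))))))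
theorem f147831 : Led Lsl_et (LP (LK LD1_c7 LD2_c1 LD3_c13)) = (LP (LK LD1_c13 LD2_c19 LD3_c0)) :=
  Lre_e IH (LK LD1_c7 LD2_c1 LD3_c13) (LK LD1_c13 LD2_c19 LD3_c0) Lrfl Lrfl
theorem f147795 : Led Lsl_et (LP (LK LD1_c14 LD2_c3 LD3_c55)) = (LP (LK LD1_c7 LD2_c26 LD3_c30)) :=
  Lre_e IH (LK LD1_c14 LD2_c3 LD3_c55) (LK LD1_c7 LD2_c26 LD3_c30) Lrfl Lrfl
theorem f147832 : Led Lsl_af (LP (LK LD1_c7 LD2_c1 LD3_c13)) = (LP (LK LD1_c7 LD2_c26 LD3_c30)) :=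
  Lgr Lrot50 (Lpr_et (f147831 IH) (Lpr_at (f147821 IH) (Lpr_et (f147795 IH) (Lpn (LP (LK LD1_c7 LD2_c26 LD3_c30))))))
theorem f136963 : Led Lsl_ct (LP (LK LD1_c3 LD2_c43 LD3_c46)) = (LP (LK LD1_c6 LD2_c34 LD3_c7)) :=
  Lgr Lrot59 (Lpr_cf (K6.f136945 IH) (Lpn (LP (LK LD1_c6 LD2_c34 LD3_c7))))
theorem f136961 : Led Lsl_bt (LP (LK LD1_c3 LD2_c43 LD3_c46)) = (LP (LK LD1_c7 LD2_c27 LD3_c37)) :=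
  Lgr Lrot128 (Lpr_cf (K6.f136945 IH) (Lpr_bf (K4.f115791 IH) (Lpr_cf (K6.f115840 IH) (Lpr_bf (K4.f103737 IH) (Lpe (K5.f103662 IH) (Lpn (LP (LK LD1_c7 LD2_c27 LD3_c37))))))))
theorem f123636 : Led Lsl_bt (LP (LK LD1_c3 LD2_c43 LD3_c55)) = (LP (LK LD1_c7 LD2_c28 LD3_c30)) :=
  Lre_b IH (LK LD1_c3 LD2_c43 LD3_c55) (LK LD1_c7 LD2_c28 LD3_c30) Lrfl Lrfl
theorem f111138 : Led Lsl_ct (LP (LK LD1_c7 LD2_c1 LD3_c13)) = (LP (LK LD1_c3 LD2_c29 LD3_c49)) :=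
  Lre_c IH (LK LD1_c7 LD2_c1 LD3_c13) (LK LD1_c3 LD2_c29 LD3_c49) Lrfl Lrfl
theorem f137044 : Led Lsl_gt (LP (LK LD1_c7 LD2_c28 LD3_c30)) = (LP (LK LD1_c7 LD2_c1 LD3_c13)) :=
  Lgr Lrot82 (Lpe (f123636 IH) (Lpe (K6.f123958 IH) (Lpr_gf (K5.f123964 IH) (Lpr_cf (K5.f108902 IH) (Lpe (K5.f108900 IH) (Lpr_gf (K4.f102887 IH) (Lpe (f136961 IH) (Lpr_ct (f136963 IH) (Lpr_gf (K4.f115827 IH) (Lpe (f111138 IH) (Lpn (LP (LK LD1_c7 LD2_c1 LD3_c13)))))))))))))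
theorem f103644 : Led Lsl_ct (LP (LK LD1_c3 LD2_c29 LD3_c50)) = (LP (LK LD1_c7 LD2_c1 LD3_c16)) :=
  Lre_c IH (LK LD1_c3 LD2_c29 LD3_c50) (LK LD1_c7 LD2_c1 LD3_c16) Lrfl Lrfl
theorem f147798 : Led Lsl_ft (LP (LK LD1_c7 LD2_c1 LD3_c16)) = (LP (LK LD1_c7 LD2_c26 LD3_c30)) :=
  Lgr Lrot4 (Lpe (f103644 IH) (Lpe (K4.f111123 IH) (Lpr_cf (f147782 IH) (Lpn (LP (LK LD1_c7 LD2_c26 LD3_c30))))))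
theorem f147834 : Led Lsl_gf (LP (LK LD1_c7 LD2_c28 LD3_c30)) = (LP (LK LD1_c7 LD2_c1 LD3_c16)) :=
  Lgr Lrot47 (Lpr_gt (f137044 IH) (Lpr_af (f147832 IH) (Lpe (f147798 IH) (Lpn (LP (LK LD1_c7 LD2_c1 LD3_c16))))))
theorem f137046 : Led Lsl_dt (LP (LK LD1_c7 LD2_c28 LD3_c30)) = (LP (LK LD1_c14 LD2_c6 LD3_c36)) :=
  Lre_d IH (LK LD1_c7 LD2_c28 LD3_c30) (LK LD1_c14 LD2_c6 LD3_c36) Lrfl Lrfl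
theorem f146699 : Led Lsl_gf (LP (LK LD1_c3 LD2_c17 LD3_c30)) = (LP (LK LD1_c3 LD2_c29 LD3_c53)) :=
  Lgr Lrot47 (Lpr_gt (K6.f146697 IH) (Lpe (K6.f146666 IH) (Lpe (K6.f146675 IH) (Lpn (LP (LK LD1_c3 LD2_c29 LD3_c53))))))
theorem f147836 : Led Lsl_gt (LP (LK LD1_c14 LD2_c6 LD3_c36)) = (LP (LK LD1_c14 LD2_c18 LD3_c54)) :=
  Lgr Lrot49 (Lpe (f137046 IH) (Lpr_gf (f147834 IH) (Lpe (f103644 IH) (Lpr_gt (K4.f103622 IH) (Lpr_dt (K6.f103647 IH) (Lpe (f146699 IH) (Lpe (K5.f116665 IH) (Lpe (K5.f116663 IH) (Lpe (K5.f116664 IH) (Lpn (LP (LK LD1_c14 LD2_c18 LD3_c54))))))))))))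
theorem f142534 : Led Lsl_dt (LP (LK LD1_c1 LD2_c48 LD3_c18)) = (LP (LK LD1_c3 LD2_c42 LD3_c38)) :=
  Lre_d IH (LK LD1_c1 LD2_c48 LD3_c18) (LK LD1_c3 LD2_c42 LD3_c38) Lrfl Lrfl
theorem f125598 : Led Lsl_gt (LP (LK LD1_c3 LD2_c42 LD3_c38)) = (LP (LK LD1_c7 LD2_c25 LD3_c52)) :=
  Lre_g IH (LK LD1_c3 LD2_c42 LD3_c38) (LK LD1_c7 LD2_c25 LD3_c52) Lrfl Lrfl
theorem f146705 : Led Lsl_dt (LP (LK LD1_c7 LD2_c25 LD3_c52)) = (LP (LK LD1_c3 LD2_c43 LD3_c46)) :=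
  Lgr Lrot105 (Lpe (f125598 IH) (Lpe (f142534 IH) (Lpr_gf (K6.f142690 IH) (Lpe (K5.f132228 IH) (Lpr_gt (K4.f91265 IH) (Lpr_dt (K4.f116659 IH) (Lpr_gt (K6.f146697 IH) (Lpe (K6.f146664 IH) (Lpe (f136963 IH) (Lpn (LP (LK LD1_c3 LD2_c43 LD3_c46))))))))))))
theorem f146728 : Led Lsl_ct (LP (LK LD1_c14 LD2_c2 LD3_c57)) = (LP (LK LD1_c7 LD2_c25 LD3_c52)) :=
  Lre_c IH (LK LD1_c14 LD2_c2 LD3_c57) (LK LD1_c7 LD2_c25 LD3_c52) Lrfl Lrfl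
theorem f147839 : Led Lsl_gf (LP (LK LD1_c14 LD2_c2 LD3_c57)) = (LP (LK LD1_c9 LD2_c24 LD3_c4)) :=
  Lgr Lrot172 (Lpr_ct (f146728 IH) (Lpr_dt (f146705 IH) (Lpr_cf (K6.f136945 IH) (Lpr_gf (K4.f115827 IH) (Lpe (f111138 IH) (Lpe (f137044 IH) (Lpr_dt (f137046 IH) (Lpr_gt (f147836 IH) (Lpr_ct (K5.f128799 IH) (Lpn (LP (LK LD1_c9 LD2_c24 LD3_c4))))))))))))
theorem f123639 : Led Lsl_dt (LP (LK LD1_c14 LD2_c6 LD3_c36)) = (LP (LK LD1_c7 LD2_c28 LD3_c30)) :=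
  Lre_d IH (LK LD1_c14 LD2_c6 LD3_c36) (LK LD1_c7 LD2_c28 LD3_c30) Lrfl Lrfl
theorem f147881 : Led Lsl_df (LP (LK LD1_c7 LD2_c25 LD3_c52)) = (LP (LK LD1_c3 LD2_c43 LD3_c46)) :=
  Lgr Lrot162 (Lpe (f146728 IH) (Lpr_gf (f147839 IH) (Lpe (K5.f128799 IH) (Lpe (f147836 IH) (Lpr_dt (f123639 IH) (Lpr_gt (f137044 IH) (Lpr_ct (f111138 IH) (Lpe (K4.f115827 IH) (Lpe (K6.f136945 IH) (Lpn (LP (LK LD1_c3 LD2_c43 LD3_c46))))))))))))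
theorem f144749 : Led Lsl_at (LP (LK LD1_c7 LD2_c25 LD3_c18)) = (LP (LK LD1_c14 LD2_c2 LD3_c6)) :=
  Lre_a IH (LK LD1_c7 LD2_c25 LD3_c18) (LK LD1_c14 LD2_c2 LD3_c6) Lrfl Lrfl
theorem f12828 : Led Lsl_at (LP (LK LD1_c7 LD2_c27 LD3_c37)) = (LP (LK LD1_c3 LD2_c43 LD3_c30)) :=
  Lre_a IH (LK LD1_c7 LD2_c27 LD3_c37) (LK LD1_c3 LD2_c43 LD3_c30) Lrfl Lrfl
theorem f144750 : Led Lsl_dt (LP (LK LD1_c14 LD2_c2 LD3_c6)) = (LP (LK LD1_c7 LD2_c27 LD3_c37)) :=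
  Lgr Lrot44 (Lpe (f144749 IH) (Lpr_df (K6.f144686 IH) (Lpe (f12828 IH) (Lpn (LP (LK LD1_c7 LD2_c27 LD3_c37))))))
theorem f147883 : Led Lsl_bt (LP (LK LD1_c7 LD2_c25 LD3_c52)) = (LP (LK LD1_c14 LD2_c2 LD3_c6)) :=
  Lgr Lrot95 (Lpr_df (f147881 IH) (Lpr_bf (K6.f137009 IH) (Lpe (f144750 IH) (Lpn (LP (LK LD1_c14 LD2_c2 LD3_c6))))))
theorem f144666 : Led Lsl_at (LP (LK LD1_c14 LD2_c2 LD3_c6)) = (LP (LK LD1_c7 LD2_c25 LD3_c18)) :=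
  Lre_a IH (LK LD1_c14 LD2_c2 LD3_c6) (LK LD1_c7 LD2_c25 LD3_c18) Lrfl Lrfl
theorem f122611 : Led Lsl_at (LP (LK LD1_c1 LD2_c47 LD3_c21)) = (LP (LK LD1_c1 LD2_c48 LD3_c50)) :=
  Lgr Lrot107 (Lpr_cf (K4.f122483 IH) (Lpe (K4.f116001 IH) (Lpe (K3.f12774 IH) (Lpn (LP (LK LD1_c1 LD2_c48 LD3_c50))))))
theorem f144661 : Led Lsl_df (LP (LK LD1_c3 LD2_c42 LD3_c18)) = (LP (LK LD1_c1 LD2_c48 LD3_c50)) :=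
  Lgr Lrot155 (Lpe (K6.f144659 IH) (Lpe (K6.f125592 IH) (Lpr_gt (K6.f144343 IH) (Lpr_ct (K6.f13326 IH) (Lpr_dt (K5.f11301 IH) (Lpe (K4.f11304 IH) (Lpe (K4.f12766 IH) (Lpe (K4.f12905 IH) (Lpr_gf (K4.f116531 IH) (Lpn (LP (LK LD1_c1 LD2_c48 LD3_c50))))))))))))
theorem f146799 : Led Lsl_af (LP (LK LD1_c3 LD2_c40 LD3_c10)) = (LP (LK LD1_c3 LD2_c42 LD3_c18)) :=
  Lgr Lrot117 (Lpr_dt (K6.f146797 IH) (Lpr_at (f122611 IH) (Lpe (f144661 IH) (Lpn (LP (LK LD1_c3 LD2_c42 LD3_c18))))))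
theorem f147901 : Led Lsl_bt (LP (LK LD1_c3 LD2_c40 LD3_c10)) = (LP (LK LD1_c7 LD2_c20 LD3_c29)) :=
  Lre_b IH (LK LD1_c3 LD2_c40 LD3_c10) (LK LD1_c7 LD2_c20 LD3_c29) Lrfl Lrfl
theorem f147902 : Led Lsl_af (LP (LK LD1_c7 LD2_c25 LD3_c52)) = (LP (LK LD1_c7 LD2_c20 LD3_c29)) :=
  Lgr Lrot36 (Lpr_bt (f147883 IH) (Lpr_at (f144666 IH) (Lpr_bt (K6.f144663 IH) (Lpe (f146799 IH) (Lpr_bt (f147901 IH) (Lpn (LP (LK LD1_c7 LD2_c20 LD3_c29))))))))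
theorem f62201 : Led Lsl_gt (LP (LK LD1_c3 LD2_c17 LD3_c28)) = (LP (LK LD1_c1 LD2_c35 LD3_c18)) :=
  Lre_g IH (LK LD1_c3 LD2_c17 LD3_c28) (LK LD1_c1 LD2_c35 LD3_c18) Lrfl Lrfl
theorem f123469 : Led Lsl_dt (LP (LK LD1_c6 LD2_c38 LD3_c19)) = (LP (LK LD1_c3 LD2_c17 LD3_c28)) :=
  Lre_d IH (LK LD1_c6 LD2_c38 LD3_c19) (LK LD1_c3 LD2_c17 LD3_c28) Lrfl Lrfl
theorem f123470 : Led Lsl_dt (LP (LK LD1_c3 LD2_c17 LD3_c28)) = (LP (LK LD1_c6 LD2_c38 LD3_c19)) :=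
  Lre_d IH (LK LD1_c3 LD2_c17 LD3_c28) (LK LD1_c6 LD2_c38 LD3_c19) Lrfl Lrfl
theorem f56806 : Led Lsl_ct (LP (LK LD1_c3 LD2_c20 LD3_c18)) = (LP (LK LD1_c2 LD2_c50 LD3_c11)) :=
  Lgr Lrot59 (Lpr_cf (K6.f56757 IH) (Lpn (LP (LK LD1_c2 LD2_c50 LD3_c11))))
theorem f146695 : Led Lsl_cf (LP (LK LD1_c6 LD2_c44 LD3_c19)) = (LP (LK LD1_c3 LD2_c51 LD3_c14)) :=
  Lgr Lrot97 (Lpr_bt (K6.f56827 IH) (Lpr_ct (f56806 IH) (Lpr_bt (K6.f56756 IH) (Lpr_ct (K6.f56828 IH) (Lpr_bt (K6.f146667 IH) (Lpn (LP (LK LD1_c3 LD2_c51 LD3_c14))))))))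
theorem f146707 : Led Lsl_gt (LP (LK LD1_c6 LD2_c38 LD3_c19)) = (LP (LK LD1_c3 LD2_c17 LD3_c58)) :=
  Lgr Lrot9 (Lpe (f123470 IH) (Lpr_gt (f62201 IH) (Lpr_ct (K5.f62286 IH) (Lpr_gt (K6.f146697 IH) (Lpe (f146695 IH) (Lpe (K6.f141978 IH) (Lpe (K6.f136157 IH) (Lpe (K6.f136010 IH) (Lpe (K6.f105473 IH) (Lpn (LP (LK LD1_c3 LD2_c17 LD3_c58))))))))))))
theorem f146709 : Led Lsl_df (LP (LK LD1_c12 LD2_c15 LD3_c8)) = (LP (LK LD1_c6 LD2_c44 LD3_c19)) :=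
  Lgr Lrot162 (Lpe (K6.f136157 IH) (Lpe (K6.f136010 IH) (Lpe (K6.f105473 IH) (Lpe (f146707 IH) (Lpr_dt (f123469 IH) (Lpr_gt (f62201 IH) (Lpr_ct (K5.f62286 IH) (Lpr_gt (K6.f146697 IH) (Lpe (f146695 IH) (Lpn (LP (LK LD1_c6 LD2_c44 LD3_c19))))))))))))
theorem f122324 : Led Lsl_dt (LP (LK LD1_c21 LD2_c41 LD3_c17)) = (LP (LK LD1_c12 LD2_c34 LD3_c53)) :=
  Lre_d IH (LK LD1_c21 LD2_c41 LD3_c17) (LK LD1_c12 LD2_c34 LD3_c53) Lrfl Lrfl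
theorem f146650 : Led Lsl_dt (LP (LK LD1_c7 LD2_c43 LD3_c54)) = (LP (LK LD1_c14 LD2_c34 LD3_c48)) :=
  Lre_d IH (LK LD1_c7 LD2_c43 LD3_c54) (LK LD1_c14 LD2_c34 LD3_c48) Lrfl Lrfl
theorem f146651 : Led Lsl_et (LP (LK LD1_c3 LD2_c51 LD3_c14)) = (LP (LK LD1_c7 LD2_c43 LD3_c54)) :=
  Lre_e IH (LK LD1_c3 LD2_c51 LD3_c14) (LK LD1_c7 LD2_c43 LD3_c54) Lrfl Lrfl
theorem f146652 : Led Lsl_dt (LP (LK LD1_c6 LD2_c34 LD3_c7)) = (LP (LK LD1_c3 LD2_c51 LD3_c14)) :=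
  Lgr Lrot77 (Lpe (K4.f115784 IH) (Lpe (f122324 IH) (Lpr_ef (K6.f146642 IH) (Lpe (f146650 IH) (Lpe (f146651 IH) (Lpn (LP (LK LD1_c3 LD2_c51 LD3_c14))))))))
theorem f63506 : Led Lsl_dt (LP (LK LD1_c7 LD2_c1 LD3_c20)) = (LP (LK LD1_c3 LD2_c29 LD3_c52)) :=
  Lre_d IH (LK LD1_c7 LD2_c1 LD3_c20) (LK LD1_c3 LD2_c29 LD3_c52) Lrfl Lrfl
theorem f141624 : Led Lsl_bt (LP (LK LD1_c12 LD2_c36 LD3_c9)) = (LP (LK LD1_c6 LD2_c35 LD3_c0)) :=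
  Lre_b IH (LK LD1_c12 LD2_c36 LD3_c9) (LK LD1_c6 LD2_c35 LD3_c0) Lrfl Lrfl
theorem f141625 : Led Lsl_dt (LP (LK LD1_c6 LD2_c37 LD3_c35)) = (LP (LK LD1_c12 LD2_c36 LD3_c9)) :=
  Lgr Lrot79 (Lpe (K6.f141560 IH) (Lpr_df (K6.f141622 IH) (Lpe (f141624 IH) (Lpn (LP (LK LD1_c12 LD2_c36 LD3_c9))))))
theorem f120778 : Led Lsl_gt (LP (LK LD1_c4 LD2_c45 LD3_c34)) = (LP (LK LD1_c9 LD2_c23 LD3_c48)) :=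
  Lre_g IH (LK LD1_c4 LD2_c45 LD3_c34) (LK LD1_c9 LD2_c23 LD3_c48) Lrfl Lrfl
theorem f141718 : Led Lsl_cf (LP (LK LD1_c9 LD2_c23 LD3_c48)) = (LP (LK LD1_c12 LD2_c36 LD3_c9)) :=
  Lgr Lrot58 (Lpe (f120778 IH) (Lpr_cf (K6.f136049 IH) (Lpr_bt (K6.f120766 IH) (Lpe (K5.f124418 IH) (Lpe (K6.f118715 IH) (Lpr_ct (K6.f117036 IH) (Lpe (K6.f117041 IH) (Lpr_cf (K6.f124511 IH) (Lpr_gf (K6.f141714 IH) (Lpe (f141624 IH) (Lpn (LP (LK LD1_c12 LD2_c36 LD3_c9)))))))))))))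
theorem f146729 : Led Lsl_df (LP (LK LD1_c14 LD2_c2 LD3_c57)) = (LP (LK LD1_c9 LD2_c23 LD3_c48)) :=
  Lgr Lrot43 (Lpr_ct (f146728 IH) (Lpr_dt (f146705 IH) (Lpr_ct (f136963 IH) (Lpr_dt (f146652 IH) (Lpe (f146695 IH) (Lpe (f146709 IH) (Lpe (K6.f136153 IH) (Lpr_dt (K6.f146726 IH) (Lpr_ct (K6.f122074 IH) (Lpr_dt (f63506 IH) (Lpr_ct (K6.f63505 IH) (Lpr_dt (K6.f103647 IH) (Lpr_ct (K6.f141597 IH) (Lpr_dt (f141625 IH) (Lpe (f141718 IH) (Lpn (LP (LK LD1_c9 LD2_c23 LD3_c48))))))))))))))))))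
theorem f147945 : Led Lsl_ft (LP (LK LD1_c7 LD2_c1 LD3_c20)) = (LP (LK LD1_c7 LD2_c20 LD3_c29)) :=
  Lgr Lrot142 (Lpr_dt (f63506 IH) (Lpr_ct (K6.f63505 IH) (Lpr_dt (K6.f103647 IH) (Lpr_ct (K6.f141597 IH) (Lpr_dt (f141625 IH) (Lpe (f141718 IH) (Lpe (f146729 IH) (Lpr_ct (f146728 IH) (Lpr_af (f147902 IH) (Lpn (LP (LK LD1_c7 LD2_c20 LD3_c29))))))))))))
theorem f147949 : Led Lsl_df (LP (LK LD1_c3 LD2_c40 LD3_c45)) = (LP (LK LD1_c7 LD2_c20 LD3_c29)) :=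
  Lgr Lrot78 (Lpr_ft (K6.f123562 IH) (Lpr_dt (K6.f122073 IH) (Lpr_ft (f147945 IH) (Lpn (LP (LK LD1_c7 LD2_c20 LD3_c29))))))
theorem f123573 : Led Lsl_dt (LP (LK LD1_c7 LD2_c21 LD3_c46)) = (LP (LK LD1_c13 LD2_c55 LD3_c15)) :=
  Lre_d IH (LK LD1_c7 LD2_c21 LD3_c46) (LK LD1_c13 LD2_c55 LD3_c15) Lrfl Lrfl
theorem f147942 : Led Lsl_et (LP (LK LD1_c13 LD2_c53 LD3_c0)) = (LP (LK LD1_c7 LD2_c20 LD3_c29)) :=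
  Lre_e IH (LK LD1_c13 LD2_c53 LD3_c0) (LK LD1_c7 LD2_c20 LD3_c29) Lrfl Lrfl
theorem f147984 : Led Lsl_dt (LP (LK LD1_c23 LD2_c23 LD3_c3)) = (LP (LK LD1_c13 LD2_c53 LD3_c0)) :=
  Lre_d IH (LK LD1_c23 LD2_c23 LD3_c3) (LK LD1_c13 LD2_c53 LD3_c0) Lrfl Lrfl
theorem f147985 : Led Lsl_et (LP (LK LD1_c13 LD2_c55 LD3_c15)) = (LP (LK LD1_c23 LD2_c23 LD3_c3)) :=
  Lgr Lrot71 (Lpe (f123573 IH) (Lpe (K4.f123554 IH) (Lpr_df (f147949 IH) (Lpe (f147942 IH) (Lpe (f147984 IH) (Lpn (LP (LK LD1_c23 LD2_c23 LD3_c3))))))))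
theorem f147996 : Led Lsl_ef (LP (LK LD1_c13 LD2_c55 LD3_c15)) = (LP (LK LD1_c23 LD2_c23 LD3_c3)) :=
  Lgr Lrot88 (Lpr_et (f147985 IH) (Lpn (LP (LK LD1_c23 LD2_c23 LD3_c3))))
theorem f123548 : Led Lsl_at (LP (LK LD1_c6 LD2_c34 LD3_c8)) = (LP (LK LD1_c12 LD2_c34 LD3_c53)) :=
  Lre_a IH (LK LD1_c6 LD2_c34 LD3_c8) (LK LD1_c12 LD2_c34 LD3_c53) Lrfl Lrfl
theorem f137001 : Led Lsl_at (LP (LK LD1_c7 LD2_c28 LD3_c9)) = (LP (LK LD1_c7 LD2_c21 LD3_c46)) :=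
  Lgr Lrot107 (Lpr_cf (K6.f136997 IH) (Lpe (f123548 IH) (Lpe (K4.f123546 IH) (Lpn (LP (LK LD1_c7 LD2_c21 LD3_c46))))))
theorem f136999 : Led Lsl_dt (LP (LK LD1_c14 LD2_c6 LD3_c2)) = (LP (LK LD1_c7 LD2_c28 LD3_c9)) :=
  Lre_d IH (LK LD1_c14 LD2_c6 LD3_c2) (LK LD1_c7 LD2_c28 LD3_c9) Lrfl Lrfl
theorem f137019 : Led Lsl_af (LP (LK LD1_c14 LD2_c6 LD3_c2)) = (LP (LK LD1_c13 LD2_c55 LD3_c15)) :=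
  Lgr Lrot117 (Lpr_dt (f136999 IH) (Lpr_at (f137001 IH) (Lpr_dt (f123573 IH) (Lpn (LP (LK LD1_c13 LD2_c55 LD3_c15))))))
theorem f147885 : Led Lsl_et (LP (LK LD1_c7 LD2_c25 LD3_c52)) = (LP (LK LD1_c14 LD2_c2 LD3_c58)) :=
  Lre_e IH (LK LD1_c7 LD2_c25 LD3_c52) (LK LD1_c14 LD2_c2 LD3_c58) Lrfl Lrfl
theorem f147886 : Led Lsl_dt (LP (LK LD1_c14 LD2_c2 LD3_c58)) = (LP (LK LD1_c23 LD2_c35 LD3_c61)) :=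
  Lre_d IH (LK LD1_c14 LD2_c2 LD3_c58) (LK LD1_c23 LD2_c35 LD3_c61) Lrfl Lrfl
theorem f122174 : Led Lsl_et (LP (LK LD1_c7 LD2_c28 LD3_c9)) = (LP (LK LD1_c3 LD2_c43 LD3_c46)) :=
  Lre_e IH (LK LD1_c7 LD2_c28 LD3_c9) (LK LD1_c3 LD2_c43 LD3_c46) Lrfl Lrfl
theorem f147887 : Led Lsl_et (LP (LK LD1_c23 LD2_c35 LD3_c61)) = (LP (LK LD1_c14 LD2_c6 LD3_c2)) :=
  Lgr Lrot71 (Lpe (f147886 IH) (Lpe (f147885 IH) (Lpr_df (f147881 IH) (Lpe (f122174 IH) (Lpe (f136999 IH) (Lpn (LP (LK LD1_c14 LD2_c6 LD3_c2))))))))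
theorem f147892 : Led Lsl_ef (LP (LK LD1_c23 LD2_c35 LD3_c61)) = (LP (LK LD1_c14 LD2_c6 LD3_c2)) :=
  Lgr Lrot88 (Lpr_et (f147887 IH) (Lpn (LP (LK LD1_c14 LD2_c6 LD3_c2))))
theorem f147998 : Led Lsl_at (LP (LK LD1_c23 LD2_c35 LD3_c61)) = (LP (LK LD1_c23 LD2_c23 LD3_c3)) :=
  Lgr Lrot80 (Lpr_ef (f147892 IH) (Lpr_af (f137019 IH) (Lpr_ef (f147996 IH) (Lpn (LP (LK LD1_c23 LD2_c23 LD3_c3))))))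
theorem f148011 : Led Lsl_af (LP (LK LD1_c14 LD2_c2 LD3_c58)) = (LP (LK LD1_c13 LD2_c53 LD3_c0)) :=
  Lgr Lrot117 (Lpr_dt (f147886 IH) (Lpr_at (f147998 IH) (Lpr_dt (f147984 IH) (Lpn (LP (LK LD1_c13 LD2_c53 LD3_c0))))))
theorem f147919 : Led Lsl_ft (LP (LK LD1_c14 LD2_c2 LD3_c58)) = (LP (LK LD1_c23 LD2_c36 LD3_c0)) :=
  Lre_f IH (LK LD1_c14 LD2_c2 LD3_c58) (LK LD1_c23 LD2_c36 LD3_c0) Lrfl Lrfl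
theorem f147965 : Led Lsl_ft (LP (LK LD1_c23 LD2_c23 LD3_c4)) = (LP (LK LD1_c13 LD2_c53 LD3_c0)) :=
  Lre_f IH (LK LD1_c23 LD2_c23 LD3_c4) (LK LD1_c13 LD2_c53 LD3_c0) Lrfl Lrfl
theorem f148016 : Led Lsl_at (LP (LK LD1_c23 LD2_c36 LD3_c0)) = (LP (LK LD1_c23 LD2_c23 LD3_c4)) :=
  Lgr Lrot66 (Lpe (f147919 IH) (Lpr_af (f148011 IH) (Lpe (f147965 IH) (Lpn (LP (LK LD1_c23 LD2_c23 LD3_c4))))))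
theorem f147900 : Led Lsl_et (LP (LK LD1_c14 LD2_c2 LD3_c58)) = (LP (LK LD1_c7 LD2_c25 LD3_c52)) :=
  Lre_e IH (LK LD1_c14 LD2_c2 LD3_c58) (LK LD1_c7 LD2_c25 LD3_c52) Lrfl Lrfl
theorem f147906 : Led Lsl_et (LP (LK LD1_c14 LD2_c2 LD3_c6)) = (LP (LK LD1_c23 LD2_c35 LD3_c3)) :=
  Lre_e IH (LK LD1_c14 LD2_c2 LD3_c6) (LK LD1_c23 LD2_c35 LD3_c3) Lrfl Lrfl
theorem f147907 : Led Lsl_bf (LP (LK LD1_c14 LD2_c2 LD3_c58)) = (LP (LK LD1_c23 LD2_c35 LD3_c3)) :=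
  Lgr Lrot96 (Lpr_et (f147900 IH) (Lpr_bt (f147883 IH) (Lpr_et (f147906 IH) (Lpn (LP (LK LD1_c23 LD2_c35 LD3_c3))))))
theorem f147914 : Led Lsl_ft (LP (LK LD1_c31 LD2_c7 LD3_c12)) = (LP (LK LD1_c23 LD2_c35 LD3_c3)) :=
  Lre_f IH (LK LD1_c31 LD2_c7 LD3_c12) (LK LD1_c23 LD2_c35 LD3_c3) Lrfl Lrfl
theorem f147920 : Led Lsl_bt (LP (LK LD1_c23 LD2_c36 LD3_c0)) = (LP (LK LD1_c31 LD2_c7 LD3_c12)) :=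
  Lgr Lrot35 (Lpe (f147919 IH) (Lpr_bf (f147907 IH) (Lpe (f147914 IH) (Lpn (LP (LK LD1_c31 LD2_c7 LD3_c12))))))
theorem f147925 : Led Lsl_bf (LP (LK LD1_c23 LD2_c36 LD3_c0)) = (LP (LK LD1_c31 LD2_c7 LD3_c12)) :=
  Lgr Lrot24 (Lpr_bt (f147920 IH) (Lpn (LP (LK LD1_c31 LD2_c7 LD3_c12))))
theorem f147929 : Led Lsl_at (LP (LK LD1_c23 LD2_c35 LD3_c7)) = (LP (LK LD1_c31 LD2_c7 LD3_c12)) :=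
  Lre_a IH (LK LD1_c23 LD2_c35 LD3_c7) (LK LD1_c31 LD2_c7 LD3_c12) Lrfl Lrfl
theorem f147930 : Led Lsl_bt (LP (LK LD1_c14 LD2_c2 LD3_c11)) = (LP (LK LD1_c23 LD2_c35 LD3_c7)) :=
  Lre_b IH (LK LD1_c14 LD2_c2 LD3_c11) (LK LD1_c23 LD2_c35 LD3_c7) Lrfl Lrfl
theorem f147968 : Led Lsl_bt (LP (LK LD1_c23 LD2_c23 LD3_c4)) = (LP (LK LD1_c13 LD2_c53 LD3_c4)) :=
  Lre_b IH (LK LD1_c23 LD2_c23 LD3_c4) (LK LD1_c13 LD2_c53 LD3_c4) Lrfl Lrfl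
theorem f148020 : Led Lsl_af (LP (LK LD1_c14 LD2_c2 LD3_c11)) = (LP (LK LD1_c13 LD2_c53 LD3_c4)) :=
  Lgr Lrot36 (Lpr_bt (f147930 IH) (Lpr_at (f147929 IH) (Lpe (f147925 IH) (Lpr_at (f148016 IH) (Lpr_bt (f147968 IH) (Lpn (LP (LK LD1_c13 LD2_c53 LD3_c4))))))))
theorem f147955 : Led Lsl_ff (LP (LK LD1_c7 LD2_c1 LD3_c20)) = (LP (LK LD1_c7 LD2_c20 LD3_c29)) :=
  Lgr Lrot3 (Lpr_ft (f147945 IH) (Lpn (LP (LK LD1_c7 LD2_c20 LD3_c29))))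
theorem f122077 : Led Lsl_et (LP (LK LD1_c7 LD2_c1 LD3_c20)) = (LP (LK LD1_c13 LD2_c19 LD3_c11)) :=
  Lre_e IH (LK LD1_c7 LD2_c1 LD3_c20) (LK LD1_c13 LD2_c19 LD3_c11) Lrfl Lrfl
theorem f146745 : Led Lsl_ft (LP (LK LD1_c13 LD2_c19 LD3_c11)) = (LP (LK LD1_c22 LD2_c35 LD3_c36)) :=
  Lre_f IH (LK LD1_c13 LD2_c19 LD3_c11) (LK LD1_c22 LD2_c35 LD3_c36) Lrfl Lrfl
theorem f147966 : Led Lsl_et (LP (LK LD1_c22 LD2_c35 LD3_c36)) = (LP (LK LD1_c23 LD2_c23 LD3_c4)) :=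
  Lgr Lrot69 (Lpe (f146745 IH) (Lpe (f122077 IH) (Lpr_ff (f147955 IH) (Lpe (f147942 IH) (Lpe (f147965 IH) (Lpn (LP (LK LD1_c23 LD2_c23 LD3_c4))))))))
theorem f124647 : Led Lsl_ft (LP (LK LD1_c14 LD2_c2 LD3_c15)) = (LP (LK LD1_c7 LD2_c25 LD3_c20)) :=
  Lre_f IH (LK LD1_c14 LD2_c2 LD3_c15) (LK LD1_c7 LD2_c25 LD3_c20) Lrfl Lrfl
theorem f146746 : Led Lsl_bf (LP (LK LD1_c14 LD2_c2 LD3_c15)) = (LP (LK LD1_c22 LD2_c35 LD3_c36)) :=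
  Lgr Lrot61 (Lpr_ft (f124647 IH) (Lpr_bt (K6.f146738 IH) (Lpr_ft (f146745 IH) (Lpn (LP (LK LD1_c22 LD2_c35 LD3_c36))))))
theorem f146748 : Led Lsl_bt (LP (LK LD1_c14 LD2_c2 LD3_c15)) = (LP (LK LD1_c22 LD2_c35 LD3_c36)) :=
  Lgr Lrot127 (Lpr_bf (f146746 IH) (Lpn (LP (LK LD1_c22 LD2_c35 LD3_c36))))
theorem f147969 : Led Lsl_ef (LP (LK LD1_c14 LD2_c2 LD3_c15)) = (LP (LK LD1_c13 LD2_c53 LD3_c4)) :=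
  Lgr Lrot29 (Lpr_bt (f146748 IH) (Lpr_et (f147966 IH) (Lpr_bt (f147968 IH) (Lpn (LP (LK LD1_c13 LD2_c53 LD3_c4))))))
theorem f147972 : Led Lsl_et (LP (LK LD1_c14 LD2_c2 LD3_c15)) = (LP (LK LD1_c13 LD2_c53 LD3_c4)) :=
  Lgr Lrot87 (Lpr_ef (f147969 IH) (Lpn (LP (LK LD1_c13 LD2_c53 LD3_c4))))
theorem f124641 : Led Lsl_ft (LP (LK LD1_c7 LD2_c25 LD3_c20)) = (LP (LK LD1_c14 LD2_c2 LD3_c15)) :=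
  Lre_f IH (LK LD1_c7 LD2_c25 LD3_c20) (LK LD1_c14 LD2_c2 LD3_c15) Lrfl Lrfl
theorem f146780 : Led Lsl_ft (LP (LK LD1_c13 LD2_c6 LD3_c31)) = (LP (LK LD1_c6 LD2_c53 LD3_c50)) :=
  Lre_f IH (LK LD1_c13 LD2_c6 LD3_c31) (LK LD1_c6 LD2_c53 LD3_c50) Lrfl Lrfl
theorem f146781 : Led Lsl_at (LP (LK LD1_c14 LD2_c2 LD3_c15)) = (LP (LK LD1_c13 LD2_c6 LD3_c31)) :=
  Lgr Lrot66 (Lpe (f124641 IH) (Lpr_af (K6.f146768 IH) (Lpe (f146780 IH) (Lpn (LP (LK LD1_c13 LD2_c6 LD3_c31))))))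
theorem f146786 : Led Lsl_af (LP (LK LD1_c14 LD2_c2 LD3_c15)) = (LP (LK LD1_c13 LD2_c6 LD3_c31)) :=
  Lgr Lrot0 (Lpr_at (f146781 IH) (Lpn (LP (LK LD1_c13 LD2_c6 LD3_c31))))
theorem f148029 : Led Lsl_et (LP (LK LD1_c14 LD2_c2 LD3_c11)) = (LP (LK LD1_c13 LD2_c6 LD3_c31)) :=
  Lgr Lrot123 (Lpr_af (f148020 IH) (Lpe (f147972 IH) (Lpr_af (f146786 IH) (Lpn (LP (LK LD1_c13 LD2_c6 LD3_c31))))))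
theorem f148036 : Led Lsl_ef (LP (LK LD1_c14 LD2_c2 LD3_c11)) = (LP (LK LD1_c13 LD2_c6 LD3_c31)) :=
  Lgr Lrot88 (Lpr_et (f148029 IH) (Lpn (LP (LK LD1_c13 LD2_c6 LD3_c31))))
theorem f148031 : Led Lsl_ft (LP (LK LD1_c14 LD2_c2 LD3_c11)) = (LP (LK LD1_c7 LD2_c25 LD3_c19)) :=
  Lre_f IH (LK LD1_c14 LD2_c2 LD3_c11) (LK LD1_c7 LD2_c25 LD3_c19) Lrfl Lrfl
theorem f144738 : Led Lsl_et (LP (LK LD1_c7 LD2_c25 LD3_c19)) = (LP (LK LD1_c3 LD2_c42 LD3_c18)) :=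
  Lre_e IH (LK LD1_c7 LD2_c25 LD3_c19) (LK LD1_c3 LD2_c42 LD3_c18) Lrfl Lrfl
theorem f146790 : Led Lsl_ft (LP (LK LD1_c6 LD2_c53 LD3_c50)) = (LP (LK LD1_c13 LD2_c6 LD3_c31)) :=
  Lre_f IH (LK LD1_c6 LD2_c53 LD3_c50) (LK LD1_c13 LD2_c6 LD3_c31) Lrfl Lrfl
theorem f148039 : Led Lsl_ft (LP (LK LD1_c3 LD2_c42 LD3_c18)) = (LP (LK LD1_c3 LD2_c25 LD3_c58)) :=
  Lgr Lrot86 (Lpe (f144738 IH) (Lpe (f148031 IH) (Lpr_ef (f148036 IH) (Lpe (f146790 IH) (Lpe (K6.f12604 IH) (Lpn (LP (LK LD1_c3 LD2_c25 LD3_c58))))))))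
theorem f147437 : Led Lsl_dt (LP (LK LD1_c1 LD2_c33 LD3_c31)) = (LP (LK LD1_c3 LD2_c13 LD3_c56)) :=
  Lre_d IH (LK LD1_c1 LD2_c33 LD3_c31) (LK LD1_c3 LD2_c13 LD3_c56) Lrfl Lrfl
theorem f147466 : Led Lsl_gt (LP (LK LD1_c3 LD2_c13 LD3_c54)) = (LP (LK LD1_c1 LD2_c33 LD3_c31)) :=
  Lre_g IH (LK LD1_c3 LD2_c13 LD3_c54) (LK LD1_c1 LD2_c33 LD3_c31) Lrfl Lrfl
theorem f147467 : Led Lsl_ct (LP (LK LD1_c1 LD2_c47 LD3_c59)) = (LP (LK LD1_c3 LD2_c13 LD3_c54)) :=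
  Lgr Lrot8 (Lpe (K5.f128328 IH) (Lpr_dt (K5.f124836 IH) (Lpe (K5.f124828 IH) (Lpr_dt (K4.f115063 IH) (Lpe (K5.f12573 IH) (Lpr_df (K6.f147453 IH) (Lpe (K6.f147446 IH) (Lpe (f147437 IH) (Lpe (f147466 IH) (Lpn (LP (LK LD1_c3 LD2_c13 LD3_c54))))))))))))
theorem f146791 : Led Lsl_af (LP (LK LD1_c3 LD2_c42 LD3_c19)) = (LP (LK LD1_c3 LD2_c25 LD3_c58)) :=
  Lgr Lrot0 (Lpr_at (K6.f146778 IH) (Lpn (LP (LK LD1_c3 LD2_c25 LD3_c58))))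
theorem f23615 : Led Lsl_gt (LP (LK LD1_c6 LD2_c30 LD3_c53)) = (LP (LK LD1_c3 LD2_c13 LD3_c36)) :=
  Lre_g IH (LK LD1_c6 LD2_c30 LD3_c53) (LK LD1_c3 LD2_c13 LD3_c36) Lrfl Lrfl
theorem f124631 : Led Lsl_cf (LP (LK LD1_c6 LD2_c30 LD3_c53)) = (LP (LK LD1_c3 LD2_c42 LD3_c19)) :=
  Lgr Lrot166 (Lpr_gt (f23615 IH) (Lpr_dt (f23614 IH) (Lpr_gt (K4.f23617 IH) (Lpr_dt (K6.f124096 IH) (Lpr_ct (K6.f124626 IH) (Lpr_df (K5.f122626 IH) (Lpe (K4.f26198 IH) (Lpe (K6.f26195 IH) (Lpe (K6.f26196 IH) (Lpn (LP (LK LD1_c3 LD2_c42 LD3_c19))))))))))))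
theorem f124634 : Led Lsl_ct (LP (LK LD1_c6 LD2_c30 LD3_c53)) = (LP (LK LD1_c3 LD2_c42 LD3_c19)) :=
  Lgr Lrot59 (Lpr_cf (f124631 IH) (Lpn (LP (LK LD1_c3 LD2_c42 LD3_c19))))
theorem f148045 : Led Lsl_dt (LP (LK LD1_c3 LD2_c13 LD3_c54)) = (LP (LK LD1_c6 LD2_c30 LD3_c53)) :=
  Lgr Lrot120 (Lpe (f147467 IH) (Lpe (K4.f26249 IH) (Lpr_cf (K3.f104120 IH) (Lpe (K4.f104138 IH) (Lpe (K3.f12774 IH) (Lpr_df (K6.f142696 IH) (Lpr_ft (f148039 IH) (Lpe (f146791 IH) (Lpe (f124634 IH) (Lpn (LP (LK LD1_c6 LD2_c30 LD3_c53))))))))))))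
theorem f148043 : Led Lsl_gt (LP (LK LD1_c1 LD2_c48 LD3_c19)) = (LP (LK LD1_c3 LD2_c42 LD3_c19)) :=
  Lgr Lrot46 (Lpr_gf (K6.f144659 IH) (Lpr_ft (f148039 IH) (Lpe (f146791 IH) (Lpn (LP (LK LD1_c3 LD2_c42 LD3_c19))))))
theorem f124873 : Led Lsl_gf (LP (LK LD1_c1 LD2_c47 LD3_c60)) = (LP (LK LD1_c1 LD2_c31 LD3_c32)) :=
  Lgr Lrot154 (Lpr_dt (f107217 IH) (Lpr_ct (K3.f107208 IH) (Lpe (K3.f98634 IH) (Lpr_gf (K4.f120267 IH) (Lpe (K3.f108776 IH) (Lpe (K5.f109355 IH) (Lpr_ct (K5.f124868 IH) (Lpr_gt (K5.f124833 IH) (Lpr_dt (K5.f124837 IH) (Lpn (LP (LK LD1_c1 LD2_c31 LD3_c32))))))))))))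
theorem f26247 : Led Lsl_dt (LP (LK LD1_c3 LD2_c42 LD3_c6)) = (LP (LK LD1_c1 LD2_c48 LD3_c2)) :=
  Lre_d IH (LK LD1_c3 LD2_c42 LD3_c6) (LK LD1_c1 LD2_c48 LD3_c2) Lrfl Lrfl
theorem f128340 : Led Lsl_dt (LP (LK LD1_c0 LD2_c51 LD3_c8)) = (LP (LK LD1_c1 LD2_c48 LD3_c47)) :=
  Lre_d IH (LK LD1_c0 LD2_c51 LD3_c8) (LK LD1_c1 LD2_c48 LD3_c47) Lrfl Lrfl
theorem f128341 : Led Lsl_gf (LP (LK LD1_c3 LD2_c42 LD3_c6)) = (LP (LK LD1_c1 LD2_c48 LD3_c47)) :=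
  Lgr Lrot154 (Lpr_dt (f26247 IH) (Lpr_ct (K5.f26244 IH) (Lpe (K4.f26246 IH) (Lpe (K3.f26250 IH) (Lpe (f107217 IH) (Lpr_gf (f124873 IH) (Lpr_ct (K5.f128331 IH) (Lpr_gt (K5.f116090 IH) (Lpr_dt (f128340 IH) (Lpn (LP (LK LD1_c1 LD2_c48 LD3_c47))))))))))))
theorem f134798 : Led Lsl_dt (LP (LK LD1_c1 LD2_c48 LD3_c47)) = (LP (LK LD1_c0 LD2_c51 LD3_c8)) :=
  Lre_d IH (LK LD1_c1 LD2_c48 LD3_c47) (LK LD1_c0 LD2_c51 LD3_c8) Lrfl Lrfl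
theorem f116076 : Led Lsl_gt (LP (LK LD1_c0 LD2_c51 LD3_c8)) = (LP (LK LD1_c1 LD2_c48 LD3_c44)) :=
  Lre_g IH (LK LD1_c0 LD2_c51 LD3_c8) (LK LD1_c1 LD2_c48 LD3_c44) Lrfl Lrfl
theorem f148056 : Led Lsl_cf (LP (LK LD1_c1 LD2_c38 LD3_c58)) = (LP (LK LD1_c1 LD2_c48 LD3_c44)) :=
  Lgr Lrot188 (Lpr_gt (K4.f109361 IH) (Lpr_ct (f147467 IH) (Lpr_dt (f148045 IH) (Lpr_cf (f124631 IH) (Lpe (f148043 IH) (Lpe (K5.f125587 IH) (Lpr_gf (f128341 IH) (Lpr_dt (f134798 IH) (Lpr_gt (f116076 IH) (Lpn (LP (LK LD1_c1 LD2_c48 LD3_c44))))))))))))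
theorem f64388 : Led Lsl_gt (LP (LK LD1_c0 LD2_c51 LD3_c7)) = (LP (LK LD1_c0 LD2_c23 LD3_c5)) :=
  Lre_g IH (LK LD1_c0 LD2_c51 LD3_c7) (LK LD1_c0 LD2_c23 LD3_c5) Lrfl Lrfl
theorem f148075 : Led Lsl_df (LP (LK LD1_c0 LD2_c39 LD3_c59)) = (LP (LK LD1_c0 LD2_c51 LD3_c7)) :=
  Lgr Lrot155 (Lpr_gt (K2.f21024 IH) (Lpe (K2.f21081 IH) (Lpr_gt (K0.f17645 IH) (Lpr_ct (K4.f17696 IH) (Lpr_dt (K4.f17735 IH) (Lpr_cf (f148056 IH) (Lpe (f116076 IH) (Lpe (K5.f97369 IH) (Lpe (f64388 IH) (Lpn (LP (LK LD1_c0 LD2_c51 LD3_c7))))))))))))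
theorem f144191 : Led Lsl_ft (LP (LK LD1_c1 LD2_c29 LD3_c15)) = (LP (LK LD1_c1 LD2_c39 LD3_c10)) :=
  Lgr Lrot48 (Lpr_ff (K6.f144181 IH) (Lpn (LP (LK LD1_c1 LD2_c39 LD3_c10))))
theorem f144195 : Led Lsl_cf (LP (LK LD1_c0 LD2_c48 LD3_c58)) = (LP (LK LD1_c1 LD2_c39 LD3_c10)) :=
  Lgr Lrot108 (Lpe (K6.f144173 IH) (Lpr_ct (K4.f84740 IH) (Lpr_ft (f144191 IH) (Lpn (LP (LK LD1_c1 LD2_c39 LD3_c10))))))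
theorem f144245 : Led Lsl_gt (LP (LK LD1_c0 LD2_c46 LD3_c2)) = (LP (LK LD1_c1 LD2_c39 LD3_c10)) :=
  Lgr Lrot150 (Lpe (K2.f84643 IH) (Lpr_gf (K5.f134845 IH) (Lpr_df (K6.f134779 IH) (Lpr_gt (K6.f142285 IH) (Lpr_ct (K4.f120963 IH) (Lpr_gt (K6.f142330 IH) (Lpe (K5.f132166 IH) (Lpr_df (K6.f142716 IH) (Lpr_cf (f144195 IH) (Lpn (LP (LK LD1_c1 LD2_c39 LD3_c10))))))))))))
theorem f148090 : Led Lsl_ct (LP (LK LD1_c1 LD2_c48 LD3_c42)) = (LP (LK LD1_c0 LD2_c51 LD3_c7)) :=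
  Lre_c IH (LK LD1_c1 LD2_c48 LD3_c42) (LK LD1_c0 LD2_c51 LD3_c7) Lrfl Lrfl
theorem f148101 : Led Lsl_gt (LP (LK LD1_c3 LD2_c39 LD3_c54)) = (LP (LK LD1_c1 LD2_c48 LD3_c42)) :=
  Lgr Lrot150 (Lpe (K4.f107290 IH) (Lpe (K5.f129101 IH) (Lpr_df (K5.f129093 IH) (Lpr_gt (f144245 IH) (Lpe (f144195 IH) (Lpr_gt (K6.f21159 IH) (Lpr_ct (K2.f21157 IH) (Lpr_df (f148075 IH) (Lpe (f148090 IH) (Lpn (LP (LK LD1_c1 LD2_c48 LD3_c42))))))))))))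
theorem f124014 : Led Lsl_dt (LP (LK LD1_c0 LD2_c51 LD3_c18)) = (LP (LK LD1_c1 LD2_c49 LD3_c1)) :=
  Lre_d IH (LK LD1_c0 LD2_c51 LD3_c18) (LK LD1_c1 LD2_c49 LD3_c1) Lrfl Lrfl
theorem f148107 : Led Lsl_dt (LP (LK LD1_c1 LD2_c48 LD3_c42)) = (LP (LK LD1_c3 LD2_c43 LD3_c17)) :=
  Lre_d IH (LK LD1_c1 LD2_c48 LD3_c42) (LK LD1_c3 LD2_c43 LD3_c17) Lrfl Lrfl
theorem f148110 : Led Lsl_cf (LP (LK LD1_c1 LD2_c49 LD3_c1)) = (LP (LK LD1_c3 LD2_c43 LD3_c17)) :=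
  Lgr Lrot14 (Lpe (f124014 IH) (Lpe (K4.f11313 IH) (Lpe (K5.f11301 IH) (Lpe (K6.f11302 IH) (Lpe (K6.f142248 IH) (Lpr_gt (K5.f125676 IH) (Lpr_dt (K5.f124218 IH) (Lpr_gt (f148101 IH) (Lpr_dt (f148107 IH) (Lpn (LP (LK LD1_c3 LD2_c43 LD3_c17))))))))))))
theorem f124629 : Led Lsl_cf (LP (LK LD1_c6 LD2_c30 LD3_c46)) = (LP (LK LD1_c3 LD2_c40 LD3_c51)) :=
  Lgr Lrot11 (Lpr_ct (K6.f124626 IH) (Lpn (LP (LK LD1_c3 LD2_c40 LD3_c51))))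
theorem f148131 : Led Lsl_gt (LP (LK LD1_c6 LD2_c30 LD3_c46)) = (LP (LK LD1_c3 LD2_c43 LD3_c17)) :=
  Lgr Lrot150 (Lpr_cf (f124629 IH) (Lpe (K5.f12589 IH) (Lpe (K4.f12588 IH) (Lpr_gt (K6.f12577 IH) (Lpr_ct (K5.f12576 IH) (Lpr_gt (K4.f12590 IH) (Lpr_ct (K4.f123580 IH) (Lpe (K6.f123582 IH) (Lpr_cf (f148110 IH) (Lpn (LP (LK LD1_c3 LD2_c43 LD3_c17))))))))))))
theorem f124022 : Led Lsl_dt (LP (LK LD1_c0 LD2_c50 LD3_c34)) = (LP (LK LD1_c1 LD2_c47 LD3_c36)) :=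
  Lre_d IH (LK LD1_c0 LD2_c50 LD3_c34) (LK LD1_c1 LD2_c47 LD3_c36) Lrfl Lrfl
theorem f146909 : Led Lsl_ct (LP (LK LD1_c1 LD2_c47 LD3_c36)) = (LP (LK LD1_c3 LD2_c13 LD3_c56)) :=
  Lgr Lrot176 (Lpe (f124022 IH) (Lpr_cf (K4.f124019 IH) (Lpe (K3.f84746 IH) (Lpr_cf (K2.f84753 IH) (Lpe (f94202 IH) (Lpe (f22627 IH) (Lpe (f94211 IH) (Lpr_cf (K6.f146904 IH) (Lpe (K6.f12900 IH) (Lpr_cf (K3.f108777 IH) (Lpe (K3.f108776 IH) (Lpe (K3.f109380 IH) (Lpr_df (K3.f109390 IH) (Lpe (K6.f22622 IH) (Lpe (K6.f146908 IH) (Lpn (LP (LK LD1_c3 LD2_c13 LD3_c56))))))))))))))))))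
theorem f148118 : Led Lsl_at (LP (LK LD1_c3 LD2_c13 LD3_c56)) = (LP (LK LD1_c3 LD2_c43 LD3_c17)) :=
  Lgr Lrot107 (Lpe (f146909 IH) (Lpr_af (K6.f146878 IH) (Lpr_cf (f148110 IH) (Lpn (LP (LK LD1_c3 LD2_c43 LD3_c17))))))
theorem f147444 : Led Lsl_ft (LP (LK LD1_c3 LD2_c43 LD3_c11)) = (LP (LK LD1_c3 LD2_c13 LD3_c56)) :=
  Lgr Lrot48 (Lpr_ff (K6.f146911 IH) (Lpn (LP (LK LD1_c3 LD2_c13 LD3_c56))))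
theorem f148134 : Led Lsl_gf (LP (LK LD1_c6 LD2_c30 LD3_c46)) = (LP (LK LD1_c3 LD2_c43 LD3_c11)) :=
  Lgr Lrot47 (Lpr_gt (f148131 IH) (Lpe (f148118 IH) (Lpe (f147444 IH) (Lpn (LP (LK LD1_c3 LD2_c43 LD3_c11))))))
theorem f124102 : Led Lsl_dt (LP (LK LD1_c6 LD2_c30 LD3_c46)) = (LP (LK LD1_c3 LD2_c13 LD3_c33)) :=
  Lre_d IH (LK LD1_c6 LD2_c30 LD3_c46) (LK LD1_c3 LD2_c13 LD3_c33) Lrfl Lrfl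
theorem f148154 : Led Lsl_gf (LP (LK LD1_c0 LD2_c53 LD3_c27)) = (LP (LK LD1_c1 LD2_c49 LD3_c4)) :=
  Lgr Lrot144 (Lpr_dt (K6.f21155 IH) (Lpr_gt (K4.f84773 IH) (Lpe (f124040 IH) (Lpr_cf (K4.f124048 IH) (Lpe (K4.f23694 IH) (Lpr_gf (K4.f124103 IH) (Lpe (f124102 IH) (Lpr_gf (f148134 IH) (Lpr_cf (K4.f116074 IH) (Lpn (LP (LK LD1_c1 LD2_c49 LD3_c4))))))))))))
theorem f123592 : Led Lsl_df (LP (LK LD1_c0 LD2_c20 LD3_c32)) = (LP (LK LD1_c0 LD2_c23 LD3_c8)) :=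
  Lgr Lrot155 (Lpr_gt (K5.f12693 IH) (Lpr_ct (K2.f21014 IH) (Lpr_gt (K3.f21026 IH) (Lpr_ct (K4.f109162 IH) (Lpe (K4.f116015 IH) (Lpr_cf (K4.f123570 IH) (Lpe (K4.f11313 IH) (Lpe (K4.f11304 IH) (Lpe (K4.f12766 IH) (Lpn (LP (LK LD1_c0 LD2_c23 LD3_c8))))))))))))
theorem f147677 : Led Lsl_dt (LP (LK LD1_c1 LD2_c47 LD3_c16)) = (LP (LK LD1_c0 LD2_c50 LD3_c26)) :=
  Lre_d IH (LK LD1_c1 LD2_c47 LD3_c16) (LK LD1_c0 LD2_c50 LD3_c26) Lrfl Lrfl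
theorem f147687 : Led Lsl_gt (LP (LK LD1_c0 LD2_c50 LD3_c26)) = (LP (LK LD1_c0 LD2_c51 LD3_c19)) :=
  Lgr Lrot9 (Lpe (f147677 IH) (Lpr_gt (f147675 IH) (Lpe (K6.f142248 IH) (Lpr_gt (K5.f125676 IH) (Lpr_ct (K5.f12586 IH) (Lpe (K5.f12583 IH) (Lpe (K3.f12593 IH) (Lpe (K3.f109441 IH) (Lpr_cf (K4.f116119 IH) (Lpn (LP (LK LD1_c0 LD2_c51 LD3_c19))))))))))))
theorem f148157 : Led Lsl_ct (LP (LK LD1_c0 LD2_c22 LD3_c48)) = (LP (LK LD1_c0 LD2_c50 LD3_c26)) :=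
  Lre_c IH (LK LD1_c0 LD2_c22 LD3_c48) (LK LD1_c0 LD2_c50 LD3_c26) Lrfl Lrfl
theorem f148158 : Led Lsl_gf (LP (LK LD1_c0 LD2_c23 LD3_c8)) = (LP (LK LD1_c0 LD2_c22 LD3_c48)) :=
  Lgr Lrot144 (Lpe (f123592 IH) (Lpr_gt (K5.f12693 IH) (Lpr_dt (K5.f124866 IH) (Lpe (K4.f12181 IH) (Lpe (K6.f21155 IH) (Lpr_gf (f148154 IH) (Lpe (K4.f116073 IH) (Lpe (f147687 IH) (Lpe (f148157 IH) (Lpn (LP (LK LD1_c0 LD2_c22 LD3_c48))))))))))))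
theorem f121967 : Led Lsl_gf (LP (LK LD1_c0 LD2_c51 LD3_c15)) = (LP (LK LD1_c0 LD2_c23 LD3_c20)) :=
  Lgr Lrot147 (Lpr_ct (K4.f94223 IH) (Lpr_gt (K5.f121961 IH) (Lpr_ct (K2.f14602 IH) (Lpe (K2.f9798 IH) (Lpe (K3.f13513 IH) (Lpe (K3.f13553 IH) (Lpr_cf (K4.f120826 IH) (Lpe (K4.f120843 IH) (Lpe (K2.f65863 IH) (Lpn (LP (LK LD1_c0 LD2_c23 LD3_c20))))))))))))
theorem f131696 : Led Lsl_gt (LP (LK LD1_c0 LD2_c51 LD3_c16)) = (LP (LK LD1_c1 LD2_c48 LD3_c51)) :=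
  Lgr Lrot65 (Lpe (K4.f116536 IH) (Lpr_bt (K4.f116537 IH) (Lpr_gf (f121967 IH) (Lpe (K2.f92285 IH) (Lpr_ct (K2.f6701 IH) (Lpe (K3.f65699 IH) (Lpe (K3.f94641 IH) (Lpr_gf (K3.f103566 IH) (Lpe (K3.f98639 IH) (Lpr_ct (K5.f131675 IH) (Lpn (LP (LK LD1_c1 LD2_c48 LD3_c51)))))))))))))
theorem f147669 : Led Lsl_dt (LP (LK LD1_c0 LD2_c50 LD3_c26)) = (LP (LK LD1_c1 LD2_c47 LD3_c16)) :=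
  Lre_d IH (LK LD1_c0 LD2_c50 LD3_c26) (LK LD1_c1 LD2_c47 LD3_c16) Lrfl Lrfl
theorem f147683 : Led Lsl_gf (LP (LK LD1_c0 LD2_c50 LD3_c26)) = (LP (LK LD1_c0 LD2_c51 LD3_c18)) :=
  Lgr Lrot144 (Lpr_dt (f147669 IH) (Lpr_gt (f147675 IH) (Lpe (f142279 IH) (Lpr_cf (K2.f11524 IH) (Lpe (K4.f107564 IH) (Lpe (K3.f65390 IH) (Lpe (K5.f65532 IH) (Lpe (K4.f116007 IH) (Lpr_cf (K4.f123570 IH) (Lpn (LP (LK LD1_c0 LD2_c51 LD3_c18))))))))))))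
theorem f148238 : Led Lsl_bt (LP (LK LD1_c0 LD2_c22 LD3_c48)) = (LP (LK LD1_c0 LD2_c22 LD3_c48)) :=
  Lgr Lrot130 (Lpr_ct (f148157 IH) (Lpr_gf (f147683 IH) (Lpe (K4.f123580 IH) (Lpr_bt (K5.f116019 IH) (Lpr_gf (K3.f103566 IH) (Lpe (K3.f98639 IH) (Lpr_ct (K5.f131675 IH) (Lpe (f131696 IH) (Lpe (K4.f116536 IH) (Lpr_gf (f148158 IH) (Lpn (LP (LK LD1_c0 LD2_c22 LD3_c48)))))))))))))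
theorem f131662 : Led Lsl_bt (LP (LK LD1_c0 LD2_c49 LD3_c7)) = (LP (LK LD1_c0 LD2_c23 LD3_c7)) :=
  Lgr Lrot95 (Lpe (K3.f10763 IH) (Lpe (K0.f17694 IH) (Lpr_df (K5.f131652 IH) (Lpn (LP (LK LD1_c0 LD2_c23 LD3_c7))))))
theorem f148282 : Led Lsl_gt (LP (LK LD1_c0 LD2_c23 LD3_c7)) = (LP (LK LD1_c0 LD2_c22 LD3_c48)) :=
  Lgr Lrot164 (Lpe (f131662 IH) (Lpr_ct (K3.f97190 IH) (Lpr_gf (K3.f5051 IH) (Lpe (K0.f4995 IH) (Lpr_gf (K3.f97277 IH) (Lpe (K3.f97283 IH) (Lpe (K4.f97284 IH) (Lpe (f147687 IH) (Lpe (f148157 IH) (Lpr_bt (f148238 IH) (Lpn (LP (LK LD1_c0 LD2_c22 LD3_c48)))))))))))))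
theorem f137140 : Led Lsl_bt (LP (LK LD1_c13 LD2_c19 LD3_c12)) = (LP (LK LD1_c7 LD2_c27 LD3_c40)) :=
  Lgr Lrot127 (Lpr_bf (K6.f137128 IH) (Lpn (LP (LK LD1_c7 LD2_c27 LD3_c40))))
theorem f122079 : Led Lsl_dt (LP (LK LD1_c7 LD2_c1 LD3_c21)) = (LP (LK LD1_c13 LD2_c19 LD3_c12)) :=
  Lre_d IH (LK LD1_c7 LD2_c1 LD3_c21) (LK LD1_c13 LD2_c19 LD3_c12) Lrfl Lrfl
theorem f137142 : Led Lsl_bf (LP (LK LD1_c7 LD2_c1 LD3_c21)) = (LP (LK LD1_c3 LD2_c43 LD3_c32)) :=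
  Lgr Lrot93 (Lpr_dt (f122079 IH) (Lpr_bt (f137140 IH) (Lpr_dt (K6.f137122 IH) (Lpn (LP (LK LD1_c3 LD2_c43 LD3_c32))))))
theorem f122078 : Led Lsl_et (LP (LK LD1_c7 LD2_c1 LD3_c21)) = (LP (LK LD1_c3 LD2_c29 LD3_c52)) :=
  Lre_e IH (LK LD1_c7 LD2_c1 LD3_c21) (LK LD1_c3 LD2_c29 LD3_c52) Lrfl Lrfl
theorem f137145 : Led Lsl_bt (LP (LK LD1_c3 LD2_c29 LD3_c52)) = (LP (LK LD1_c1 LD2_c48 LD3_c51)) :=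
  Lgr Lrot119 (Lpe (f122078 IH) (Lpr_bf (f137142 IH) (Lpe (K6.f131689 IH) (Lpn (LP (LK LD1_c1 LD2_c48 LD3_c51))))))
theorem f147678 : Led Lsl_ct (LP (LK LD1_c0 LD2_c50 LD3_c26)) = (LP (LK LD1_c0 LD2_c22 LD3_c48)) :=
  Lre_c IH (LK LD1_c0 LD2_c50 LD3_c26) (LK LD1_c0 LD2_c22 LD3_c48) Lrfl Lrfl
theorem f12892 : Led Lsl_bt (LP (LK LD1_c0 LD2_c50 LD3_c26)) = (LP (LK LD1_c1 LD2_c47 LD3_c15)) :=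
  Lre_b IH (LK LD1_c0 LD2_c50 LD3_c26) (LK LD1_c1 LD2_c47 LD3_c15) Lrfl Lrfl
theorem f148293 : Led Lsl_gt (LP (LK LD1_c1 LD2_c47 LD3_c15)) = (LP (LK LD1_c3 LD2_c40 LD3_c36)) :=
  Lre_g IH (LK LD1_c1 LD2_c47 LD3_c15) (LK LD1_c3 LD2_c40 LD3_c36) Lrfl Lrfl
theorem f148294 : Led Lsl_bt (LP (LK LD1_c7 LD2_c1 LD3_c16)) = (LP (LK LD1_c3 LD2_c40 LD3_c36)) :=
  Lgr Lrot92 (Lpr_ct (K4.f103627 IH) (Lpr_gt (K4.f103622 IH) (Lpe (K6.f63505 IH) (Lpr_bt (f137145 IH) (Lpr_gt (K5.f131674 IH) (Lpr_ct (K5.f12901 IH) (Lpr_gt (f148282 IH) (Lpe (f147678 IH) (Lpr_bt (f12892 IH) (Lpr_gt (f148293 IH) (Lpn (LP (LK LD1_c3 LD2_c40 LD3_c36)))))))))))))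
theorem f148312 : Led Lsl_gf (LP (LK LD1_c1 LD2_c47 LD3_c15)) = (LP (LK LD1_c3 LD2_c40 LD3_c36)) :=
  Lgr Lrot124 (Lpe (f12892 IH) (Lpr_ct (f147678 IH) (Lpe (f148158 IH) (Lpe (K4.f12905 IH) (Lpr_bt (K4.f12907 IH) (Lpr_gt (K6.f122137 IH) (Lpr_ct (f136963 IH) (Lpr_gt (K4.f115829 IH) (Lpe (K4.f103627 IH) (Lpr_bt (f148294 IH) (Lpn (LP (LK LD1_c3 LD2_c40 LD3_c36)))))))))))))
theorem f12922 : Led Lsl_et (LP (LK LD1_c0 LD2_c51 LD3_c20)) = (LP (LK LD1_c1 LD2_c49 LD3_c9)) :=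
  Lre_e IH (LK LD1_c0 LD2_c51 LD3_c20) (LK LD1_c1 LD2_c49 LD3_c9) Lrfl Lrfl
theorem f12924 : Led Lsl_bt (LP (LK LD1_c1 LD2_c49 LD3_c9)) = (LP (LK LD1_c1 LD2_c47 LD3_c41)) :=
  Lgr Lrot119 (Lpe (f12922 IH) (Lpr_bf (K5.f12896 IH) (Lpe (f12923 IH) (Lpn (LP (LK LD1_c1 LD2_c47 LD3_c41))))))
theorem f12948 : Led Lsl_ft (LP (LK LD1_c3 LD2_c44 LD3_c15)) = (LP (LK LD1_c1 LD2_c49 LD3_c9)) :=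
  Lre_f IH (LK LD1_c3 LD2_c44 LD3_c15) (LK LD1_c1 LD2_c49 LD3_c9) Lrfl Lrfl
theorem f12949 : Led Lsl_ft (LP (LK LD1_c1 LD2_c47 LD3_c41)) = (LP (LK LD1_c3 LD2_c41 LD3_c34)) :=
  Lre_f IH (LK LD1_c1 LD2_c47 LD3_c41) (LK LD1_c3 LD2_c41 LD3_c34) Lrfl Lrfl
theorem f12950 : Led Lsl_bf (LP (LK LD1_c3 LD2_c44 LD3_c15)) = (LP (LK LD1_c3 LD2_c41 LD3_c34)) :=
  Lgr Lrot61 (Lpr_ft (f12948 IH) (Lpr_bt (f12924 IH) (Lpr_ft (f12949 IH) (Lpn (LP (LK LD1_c3 LD2_c41 LD3_c34))))))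
theorem f12983 : Led Lsl_dt (LP (LK LD1_c3 LD2_c44 LD3_c15)) = (LP (LK LD1_c7 LD2_c29 LD3_c30)) :=
  Lre_d IH (LK LD1_c3 LD2_c44 LD3_c15) (LK LD1_c7 LD2_c29 LD3_c30) Lrfl Lrfl
theorem f12984 : Led Lsl_dt (LP (LK LD1_c7 LD2_c23 LD3_c48)) = (LP (LK LD1_c3 LD2_c41 LD3_c34)) :=
  Lre_d IH (LK LD1_c7 LD2_c23 LD3_c48) (LK LD1_c3 LD2_c41 LD3_c34) Lrfl Lrfl
theorem f12985 : Led Lsl_bt (LP (LK LD1_c7 LD2_c29 LD3_c30)) = (LP (LK LD1_c7 LD2_c23 LD3_c48)) :=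
  Lgr Lrot95 (Lpe (f12983 IH) (Lpr_bf (f12950 IH) (Lpe (f12984 IH) (Lpn (LP (LK LD1_c7 LD2_c23 LD3_c48))))))
theorem f13001 : Led Lsl_bf (LP (LK LD1_c7 LD2_c29 LD3_c30)) = (LP (LK LD1_c7 LD2_c23 LD3_c48)) :=
  Lgr Lrot24 (Lpr_bt (f12985 IH) (Lpn (LP (LK LD1_c7 LD2_c23 LD3_c48))))
theorem f13026 : Led Lsl_ft (LP (LK LD1_c7 LD2_c29 LD3_c30)) = (LP (LK LD1_c3 LD2_c44 LD3_c14)) :=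
  Lre_f IH (LK LD1_c7 LD2_c29 LD3_c30) (LK LD1_c3 LD2_c44 LD3_c14) Lrfl Lrfl
theorem f13027 : Led Lsl_ft (LP (LK LD1_c3 LD2_c41 LD3_c33)) = (LP (LK LD1_c7 LD2_c23 LD3_c48)) :=
  Lre_f IH (LK LD1_c3 LD2_c41 LD3_c33) (LK LD1_c7 LD2_c23 LD3_c48) Lrfl Lrfl
theorem f13028 : Led Lsl_bt (LP (LK LD1_c3 LD2_c44 LD3_c14)) = (LP (LK LD1_c3 LD2_c41 LD3_c33)) :=
  Lgr Lrot35 (Lpe (f13026 IH) (Lpr_bf (f13001 IH) (Lpe (f13027 IH) (Lpn (LP (LK LD1_c3 LD2_c41 LD3_c33))))))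
theorem f13050 : Led Lsl_et (LP (LK LD1_c1 LD2_c49 LD3_c12)) = (LP (LK LD1_c3 LD2_c44 LD3_c14)) :=
  Lre_e IH (LK LD1_c1 LD2_c49 LD3_c12) (LK LD1_c3 LD2_c44 LD3_c14) Lrfl Lrfl
theorem f13051 : Led Lsl_et (LP (LK LD1_c3 LD2_c41 LD3_c33)) = (LP (LK LD1_c1 LD2_c47 LD3_c44)) :=
  Lre_e IH (LK LD1_c3 LD2_c41 LD3_c33) (LK LD1_c1 LD2_c47 LD3_c44) Lrfl Lrfl
theorem f13052 : Led Lsl_bf (LP (LK LD1_c1 LD2_c49 LD3_c12)) = (LP (LK LD1_c1 LD2_c47 LD3_c44)) :=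
  Lgr Lrot96 (Lpr_et (f13050 IH) (Lpr_bt (f13028 IH) (Lpr_et (f13051 IH) (Lpn (LP (LK LD1_c1 LD2_c47 LD3_c44))))))
theorem f13066 : Led Lsl_at (LP (LK LD1_c1 LD2_c49 LD3_c12)) = (LP (LK LD1_c3 LD2_c42 LD3_c58)) :=
  Lre_a IH (LK LD1_c1 LD2_c49 LD3_c12) (LK LD1_c3 LD2_c42 LD3_c58) Lrfl Lrfl
theorem f13067 : Led Lsl_bt (LP (LK LD1_c3 LD2_c42 LD3_c58)) = (LP (LK LD1_c7 LD2_c26 LD3_c37)) :=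
  Lre_b IH (LK LD1_c3 LD2_c42 LD3_c58) (LK LD1_c7 LD2_c26 LD3_c37) Lrfl Lrfl
theorem f4644 : Led Lsl_at (LP (LK LD1_c3 LD2_c40 LD3_c41)) = (LP (LK LD1_c1 LD2_c47 LD3_c44)) :=
  Lre_a IH (LK LD1_c3 LD2_c40 LD3_c41) (LK LD1_c1 LD2_c47 LD3_c44) Lrfl Lrfl
theorem f13068 : Led Lsl_bt (LP (LK LD1_c7 LD2_c21 LD3_c30)) = (LP (LK LD1_c3 LD2_c40 LD3_c41)) :=
  Lre_b IH (LK LD1_c7 LD2_c21 LD3_c30) (LK LD1_c3 LD2_c40 LD3_c41) Lrfl Lrfl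
theorem f13069 : Led Lsl_at (LP (LK LD1_c7 LD2_c26 LD3_c37)) = (LP (LK LD1_c7 LD2_c21 LD3_c30)) :=
  Lgr Lrot67 (Lpe (f13067 IH) (Lpe (f13066 IH) (Lpr_bf (f13052 IH) (Lpe (f4644 IH) (Lpe (f13068 IH) (Lpn (LP (LK LD1_c7 LD2_c21 LD3_c30))))))))
theorem f13131 : Led Lsl_dt (LP (LK LD1_c3 LD2_c42 LD3_c56)) = (LP (LK LD1_c7 LD2_c26 LD3_c37)) :=
  Lre_d IH (LK LD1_c3 LD2_c42 LD3_c56) (LK LD1_c7 LD2_c26 LD3_c37) Lrfl Lrfl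
theorem f13132 : Led Lsl_dt (LP (LK LD1_c7 LD2_c21 LD3_c30)) = (LP (LK LD1_c3 LD2_c40 LD3_c38)) :=
  Lre_d IH (LK LD1_c7 LD2_c21 LD3_c30) (LK LD1_c3 LD2_c40 LD3_c38) Lrfl Lrfl
theorem f13133 : Led Lsl_af (LP (LK LD1_c3 LD2_c42 LD3_c56)) = (LP (LK LD1_c3 LD2_c40 LD3_c38)) :=
  Lgr Lrot117 (Lpr_dt (f13131 IH) (Lpr_at (f13069 IH) (Lpr_dt (f13132 IH) (Lpn (LP (LK LD1_c3 LD2_c40 LD3_c38))))))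
theorem f13143 : Led Lsl_et (LP (LK LD1_c3 LD2_c42 LD3_c56)) = (LP (LK LD1_c1 LD2_c48 LD3_c28)) :=
  Lre_e IH (LK LD1_c3 LD2_c42 LD3_c56) (LK LD1_c1 LD2_c48 LD3_c28) Lrfl Lrfl
theorem f13144 : Led Lsl_et (LP (LK LD1_c1 LD2_c47 LD3_c15)) = (LP (LK LD1_c3 LD2_c40 LD3_c38)) :=
  Lre_e IH (LK LD1_c1 LD2_c47 LD3_c15) (LK LD1_c3 LD2_c40 LD3_c38) Lrfl Lrfl
theorem f13145 : Led Lsl_at (LP (LK LD1_c1 LD2_c48 LD3_c28)) = (LP (LK LD1_c1 LD2_c47 LD3_c15)) :=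
  Lgr Lrot80 (Lpe (f13143 IH) (Lpr_af (f13133 IH) (Lpe (f13144 IH) (Lpn (LP (LK LD1_c1 LD2_c47 LD3_c15))))))
theorem f148315 : Led Lsl_ff (LP (LK LD1_c1 LD2_c48 LD3_c28)) = (LP (LK LD1_c1 LD2_c47 LD3_c15)) :=
  Lgr Lrot52 (Lpr_at (f13145 IH) (Lpr_gf (f148312 IH) (Lpe (f148293 IH) (Lpn (LP (LK LD1_c1 LD2_c47 LD3_c15))))))
theorem f13168 : Led Lsl_bt (LP (LK LD1_c1 LD2_c47 LD3_c15)) = (LP (LK LD1_c0 LD2_c50 LD3_c26)) :=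
  Lre_b IH (LK LD1_c1 LD2_c47 LD3_c15) (LK LD1_c0 LD2_c50 LD3_c26) Lrfl Lrfl
theorem f148274 : Led Lsl_cf (LP (LK LD1_c1 LD2_c47 LD3_c15)) = (LP (LK LD1_c1 LD2_c47 LD3_c15)) :=
  Lgr Lrot97 (Lpr_bt (f13168 IH) (Lpr_ct (f147678 IH) (Lpr_bt (f148238 IH) (Lpr_ct (f148157 IH) (Lpr_bt (f12892 IH) (Lpn (LP (LK LD1_c1 LD2_c47 LD3_c15))))))))
theorem f148322 : Led Lsl_ft (LP (LK LD1_c1 LD2_c48 LD3_c28)) = (LP (LK LD1_c1 LD2_c47 LD3_c15)) :=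
  Lgr Lrot4 (Lpr_cf (f147760 IH) (Lpr_ff (f148315 IH) (Lpr_cf (f148274 IH) (Lpn (LP (LK LD1_c1 LD2_c47 LD3_c15))))))
theorem f148324 : Led Lsl_ff (LP (LK LD1_c0 LD2_c50 LD3_c61)) = (LP (LK LD1_c0 LD2_c50 LD3_c26)) :=
  Lgr Lrot25 (Lpr_bt (f13165 IH) (Lpr_ft (f148322 IH) (Lpr_bt (f13168 IH) (Lpn (LP (LK LD1_c0 LD2_c50 LD3_c26))))))
theorem f12889 : Led Lsl_at (LP (LK LD1_c0 LD2_c50 LD3_c61)) = (LP (LK LD1_c0 LD2_c23 LD3_c9)) :=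
  Lre_a IH (LK LD1_c0 LD2_c50 LD3_c61) (LK LD1_c0 LD2_c23 LD3_c9) Lrfl Lrfl
theorem f12891 : Led Lsl_at (LP (LK LD1_c0 LD2_c22 LD3_c51)) = (LP (LK LD1_c0 LD2_c50 LD3_c26)) :=
  Lre_a IH (LK LD1_c0 LD2_c22 LD3_c51) (LK LD1_c0 LD2_c50 LD3_c26) Lrfl Lrfl
theorem f148336 : Led Lsl_ft (LP (LK LD1_c0 LD2_c23 LD3_c9)) = (LP (LK LD1_c0 LD2_c22 LD3_c51)) :=
  Lgr Lrot101 (Lpe (f12889 IH) (Lpr_ff (f148324 IH) (Lpe (f12891 IH) (Lpn (LP (LK LD1_c0 LD2_c22 LD3_c51))))))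
theorem f4831 : Led Lsl_dt (LP (LK LD1_c0 LD2_c10 LD3_c17)) = (LP (LK LD1_c0 LD2_c22 LD3_c48)) :=
  Lre_d IH (LK LD1_c0 LD2_c10 LD3_c17) (LK LD1_c0 LD2_c22 LD3_c48) Lrfl Lrfl
theorem f23669 : Led Lsl_at (LP (LK LD1_c0 LD2_c8 LD3_c42)) = (LP (LK LD1_c0 LD2_c19 LD3_c21)) :=
  Lre_a IH (LK LD1_c0 LD2_c8 LD3_c42) (LK LD1_c0 LD2_c19 LD3_c21) Lrfl Lrfl
theorem f4843 : Led Lsl_at (LP (LK LD1_c0 LD2_c10 LD3_c17)) = (LP (LK LD1_c0 LD2_c4 LD3_c51)) :=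
  Lre_a IH (LK LD1_c0 LD2_c10 LD3_c17) (LK LD1_c0 LD2_c4 LD3_c51) Lrfl Lrfl
theorem f23670 : Led Lsl_ct (LP (LK LD1_c0 LD2_c19 LD3_c21)) = (LP (LK LD1_c0 LD2_c10 LD3_c17)) :=
  Lgr Lrot111 (Lpe (f23669 IH) (Lpr_cf (K0.f23667 IH) (Lpe (f4843 IH) (Lpn (LP (LK LD1_c0 LD2_c10 LD3_c17))))))
theorem f148288 : Led Lsl_dt (LP (LK LD1_c0 LD2_c43 LD3_c21)) = (LP (LK LD1_c0 LD2_c19 LD3_c21)) :=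
  Lre_d IH (LK LD1_c0 LD2_c43 LD3_c21) (LK LD1_c0 LD2_c19 LD3_c21) Lrfl Lrfl
theorem f148341 : Led Lsl_ct (LP (LK LD1_c1 LD2_c33 LD3_c28)) = (LP (LK LD1_c0 LD2_c43 LD3_c21)) :=
  Lre_c IH (LK LD1_c1 LD2_c33 LD3_c28) (LK LD1_c0 LD2_c43 LD3_c21) Lrfl Lrfl
theorem f148342 : Led Lsl_dt (LP (LK LD1_c1 LD2_c49 LD3_c8)) = (LP (LK LD1_c1 LD2_c33 LD3_c28)) :=
  Lgr Lrot32 (Lpe (K6.f12916 IH) (Lpe (K4.f13389 IH) (Lpr_ft (f148336 IH) (Lpr_at (f12891 IH) (Lpe (f148157 IH) (Lpe (f4831 IH) (Lpe (f23670 IH) (Lpe (f148288 IH) (Lpe (f148341 IH) (Lpn (LP (LK LD1_c1 LD2_c33 LD3_c28))))))))))))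
theorem f148358 : Led Lsl_ct (LP (LK LD1_c0 LD2_c43 LD3_c21)) = (LP (LK LD1_c1 LD2_c33 LD3_c28)) :=
  Lre_c IH (LK LD1_c0 LD2_c43 LD3_c21) (LK LD1_c1 LD2_c33 LD3_c28) Lrfl Lrfl
theorem f148359 : Led Lsl_dt (LP (LK LD1_c0 LD2_c19 LD3_c21)) = (LP (LK LD1_c0 LD2_c43 LD3_c21)) :=
  Lre_d IH (LK LD1_c0 LD2_c19 LD3_c21) (LK LD1_c0 LD2_c43 LD3_c21) Lrfl Lrfl
theorem f148360 : Led Lsl_gt (LP (LK LD1_c0 LD2_c23 LD3_c3)) = (LP (LK LD1_c0 LD2_c19 LD3_c21)) :=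
  Lgr Lrot49 (Lpe (K4.f120811 IH) (Lpr_gf (K5.f124230 IH) (Lpe (K5.f13618 IH) (Lpr_gt (K5.f129263 IH) (Lpr_dt (K5.f125586 IH) (Lpr_gt (K6.f144343 IH) (Lpr_dt (f148342 IH) (Lpe (f148358 IH) (Lpe (f148359 IH) (Lpn (LP (LK LD1_c0 LD2_c19 LD3_c21))))))))))))
theorem f148368 : Led Lsl_gf (LP (LK LD1_c0 LD2_c51 LD3_c7)) = (LP (LK LD1_c0 LD2_c43 LD3_c21)) :=
  Lgr Lrot143 (Lpe (f148075 IH) (Lpe (K2.f21157 IH) (Lpe (K4.f21167 IH) (Lpr_gf (K4.f109445 IH) (Lpe (K3.f65533 IH) (Lpe (K4.f121231 IH) (Lpe (K4.f120818 IH) (Lpr_gt (f148360 IH) (Lpr_dt (f148359 IH) (Lpn (LP (LK LD1_c0 LD2_c43 LD3_c21))))))))))))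
theorem f148112 : Led Lsl_ct (LP (LK LD1_c0 LD2_c51 LD3_c7)) = (LP (LK LD1_c1 LD2_c48 LD3_c42)) :=
  Lre_c IH (LK LD1_c0 LD2_c51 LD3_c7) (LK LD1_c1 LD2_c48 LD3_c42) Lrfl Lrfl
theorem f148091 : Led Lsl_dt (LP (LK LD1_c3 LD2_c43 LD3_c17)) = (LP (LK LD1_c1 LD2_c48 LD3_c42)) :=
  Lre_d IH (LK LD1_c3 LD2_c43 LD3_c17) (LK LD1_c1 LD2_c48 LD3_c42) Lrfl Lrfl
theorem f148092 : Led Lsl_ct (LP (LK LD1_c1 LD2_c49 LD3_c1)) = (LP (LK LD1_c3 LD2_c43 LD3_c17)) :=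
  Lgr Lrot176 (Lpe (f124014 IH) (Lpe (K4.f123580 IH) (Lpr_df (K4.f116015 IH) (Lpe (K4.f109162 IH) (Lpe (K4.f116055 IH) (Lpe (K4.f116065 IH) (Lpe (K4.f116066 IH) (Lpr_cf (K4.f116074 IH) (Lpe (K4.f116073 IH) (Lpr_cf (K4.f97284 IH) (Lpe (K3.f21171 IH) (Lpr_cf (K2.f21165 IH) (Lpr_df (f148075 IH) (Lpe (f148090 IH) (Lpe (f148091 IH) (Lpn (LP (LK LD1_c3 LD2_c43 LD3_c17))))))))))))))))))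
theorem f124927 : Led Lsl_af (LP (LK LD1_c0 LD2_c46 LD3_c2)) = (LP (LK LD1_c0 LD2_c45 LD3_c53)) :=
  Lgr Lrot68 (Lpr_ct (K2.f84591 IH) (Lpr_at (K5.f124921 IH) (Lpr_ct (K4.f17696 IH) (Lpn (LP (LK LD1_c0 LD2_c45 LD3_c53))))))
theorem f129095 : Led Lsl_at (LP (LK LD1_c1 LD2_c33 LD3_c6)) = (LP (LK LD1_c1 LD2_c38 LD3_c58)) :=
  Lgr Lrot51 (Lpr_df (K5.f129093 IH) (Lpr_af (f124927 IH) (Lpe (f17732 IH) (Lpn (LP (LK LD1_c1 LD2_c38 LD3_c58))))))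
theorem f128333 : Led Lsl_bt (LP (LK LD1_c0 LD2_c42 LD3_c20)) = (LP (LK LD1_c1 LD2_c31 LD3_c32)) :=
  Lre_b IH (LK LD1_c0 LD2_c42 LD3_c20) (LK LD1_c1 LD2_c31 LD3_c32) Lrfl Lrfl
theorem f129065 : Led Lsl_ff (LP (LK LD1_c1 LD2_c33 LD3_c6)) = (LP (LK LD1_c1 LD2_c31 LD3_c32)) :=
  Lgr Lrot25 (Lpr_bt (K5.f59509 IH) (Lpr_ft (K5.f129063 IH) (Lpr_bt (f128333 IH) (Lpn (LP (LK LD1_c1 LD2_c31 LD3_c32))))))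
theorem f148069 : Led Lsl_dt (LP (LK LD1_c3 LD2_c19 LD3_c5)) = (LP (LK LD1_c1 LD2_c48 LD3_c44)) :=
  Lgr Lrot120 (Lpr_cf (f147543 IH) (Lpe (K5.f116533 IH) (Lpe (K4.f116536 IH) (Lpe (K5.f123590 IH) (Lpr_cf (K5.f124859 IH) (Lpe (K5.f124836 IH) (Lpe (f129065 IH) (Lpr_at (f129095 IH) (Lpr_cf (f148056 IH) (Lpn (LP (LK LD1_c1 LD2_c48 LD3_c44))))))))))))
theorem f148394 : Led Lsl_gt (LP (LK LD1_c1 LD2_c48 LD3_c44)) = (LP (LK LD1_c1 LD2_c33 LD3_c28)) :=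
  Lgr Lrot9 (Lpe (f148069 IH) (Lpr_gt (f147547 IH) (Lpr_ct (f21156 IH) (Lpe (K6.f142712 IH) (Lpr_ct (f148092 IH) (Lpe (f148107 IH) (Lpe (f148112 IH) (Lpr_gf (f148368 IH) (Lpe (f148341 IH) (Lpn (LP (LK LD1_c1 LD2_c33 LD3_c28))))))))))))
theorem f22672 : Led Lsl_at (LP (LK LD1_c0 LD2_c43 LD3_c24)) = (LP (LK LD1_c1 LD2_c33 LD3_c28)) :=
  Lre_a IH (LK LD1_c0 LD2_c43 LD3_c24) (LK LD1_c1 LD2_c33 LD3_c28) Lrfl Lrfl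
theorem f148413 : Led Lsl_ft (LP (LK LD1_c0 LD2_c51 LD3_c8)) = (LP (LK LD1_c0 LD2_c43 LD3_c24)) :=
  Lgr Lrot2 (Lpr_gt (f116076 IH) (Lpr_gt (f148394 IH) (Lpe (f22672 IH) (Lpn (LP (LK LD1_c0 LD2_c43 LD3_c24))))))
theorem f148425 : Led Lsl_ff (LP (LK LD1_c0 LD2_c51 LD3_c8)) = (LP (LK LD1_c0 LD2_c43 LD3_c24)) :=
  Lgr Lrot3 (Lpr_ft (f148413 IH) (Lpn (LP (LK LD1_c0 LD2_c43 LD3_c24))))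
theorem f148427 : Led Lsl_at (LP (LK LD1_c0 LD2_c51 LD3_c8)) = (LP (LK LD1_c1 LD2_c48 LD3_c27)) :=
  Lre_a IH (LK LD1_c0 LD2_c51 LD3_c8) (LK LD1_c1 LD2_c48 LD3_c27) Lrfl Lrfl
theorem f148435 : Led Lsl_gf (LP (LK LD1_c1 LD2_c48 LD3_c27)) = (LP (LK LD1_c1 LD2_c33 LD3_c36)) :=
  Lgr Lrot76 (Lpe (f148427 IH) (Lpr_ff (f148425 IH) (Lpr_gt (K6.f22814 IH) (Lpn (LP (LK LD1_c1 LD2_c33 LD3_c36))))))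
theorem f146850 : Led Lsl_dt (LP (LK LD1_c3 LD2_c14 LD3_c5)) = (LP (LK LD1_c1 LD2_c33 LD3_c36)) :=
  Lre_d IH (LK LD1_c3 LD2_c14 LD3_c5) (LK LD1_c1 LD2_c33 LD3_c36) Lrfl Lrfl
theorem f148438 : Led Lsl_dt (LP (LK LD1_c1 LD2_c48 LD3_c27)) = (LP (LK LD1_c1 LD2_c47 LD3_c40)) :=
  Lgr Lrot105 (Lpr_gf (f148435 IH) (Lpe (f146850 IH) (Lpe (K6.f146861 IH) (Lpr_cf (K5.f134764 IH) (Lpr_gt (K6.f142325 IH) (Lpr_dt (K6.f124021 IH) (Lpr_gt (K4.f4463 IH) (Lpr_dt (K4.f12895 IH) (Lpe (K5.f12918 IH) (Lpn (LP (LK LD1_c1 LD2_c47 LD3_c40))))))))))))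
theorem f128924 : Led Lsl_bt (LP (LK LD1_c2 LD2_c19 LD3_c49)) = (LP (LK LD1_c4 LD2_c43 LD3_c54)) :=
  Lre_b IH (LK LD1_c2 LD2_c19 LD3_c49) (LK LD1_c4 LD2_c43 LD3_c54) Lrfl Lrfl
theorem f112082 : Led Lsl_ct (LP (LK LD1_c3 LD2_c12 LD3_c8)) = (LP (LK LD1_c1 LD2_c50 LD3_c43)) :=
  Lgr Lrot111 (Lpr_af (K4.f112076 IH) (Lpr_cf (K2.f84974 IH) (Lpe (K2.f89289 IH) (Lpn (LP (LK LD1_c1 LD2_c50 LD3_c43))))))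
theorem f96096 : Led Lsl_bt (LP (LK LD1_c3 LD2_c16 LD3_c47)) = (LP (LK LD1_c6 LD2_c36 LD3_c54)) :=
  Lre_b IH (LK LD1_c3 LD2_c16 LD3_c47) (LK LD1_c6 LD2_c36 LD3_c54) Lrfl Lrfl
theorem f128925 : Led Lsl_gt (LP (LK LD1_c4 LD2_c43 LD3_c54)) = (LP (LK LD1_c6 LD2_c36 LD3_c54)) :=
  Lgr Lrot164 (Lpe (f128924 IH) (Lpr_ct (K5.f128917 IH) (Lpe (K5.f96728 IH) (Lpe (K4.f62861 IH) (Lpe (K4.f62866 IH) (Lpe (K4.f62898 IH) (Lpr_ct (f112082 IH) (Lpe (K3.f93593 IH) (Lpe (K3.f96116 IH) (Lpr_bt (f96096 IH) (Lpn (LP (LK LD1_c6 LD2_c36 LD3_c54)))))))))))))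
theorem f96091 : Led Lsl_bt (LP (LK LD1_c3 LD2_c45 LD3_c18)) = (LP (LK LD1_c1 LD2_c49 LD3_c49)) :=
  Lre_b IH (LK LD1_c3 LD2_c45 LD3_c18) (LK LD1_c1 LD2_c49 LD3_c49) Lrfl Lrfl
theorem f96097 : Led Lsl_dt (LP (LK LD1_c6 LD2_c36 LD3_c54)) = (LP (LK LD1_c3 LD2_c45 LD3_c18)) :=
  Lgr Lrot79 (Lpe (f96096 IH) (Lpr_df (K3.f96089 IH) (Lpe (f96091 IH) (Lpn (LP (LK LD1_c3 LD2_c45 LD3_c18))))))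
theorem f22823 : Led Lsl_bt (LP (LK LD1_c3 LD2_c14 LD3_c4)) = (LP (LK LD1_c1 LD2_c33 LD3_c36)) :=
  Lre_b IH (LK LD1_c3 LD2_c14 LD3_c4) (LK LD1_c1 LD2_c33 LD3_c36) Lrfl Lrfl
theorem f148445 : Led Lsl_ct (LP (LK LD1_c3 LD2_c45 LD3_c18)) = (LP (LK LD1_c3 LD2_c14 LD3_c4)) :=
  Lgr Lrot191 (Lpe (f96097 IH) (Lpe (f128925 IH) (Lpe (f128924 IH) (Lpe (K5.f124582 IH) (Lpe (K5.f128907 IH) (Lpr_gf (K5.f77978 IH) (Lpe (K3.f79614 IH) (Lpe (K3.f110011 IH) (Lpr_df (K3.f92026 IH) (Lpe (K3.f110214 IH) (Lpe (K4.f121207 IH) (Lpr_cf (K4.f121000 IH) (Lpe (K4.f121015 IH) (Lpe (K4.f12926 IH) (Lpr_bf (K5.f12896 IH) (Lpe (K5.f12918 IH) (Lpe (f148438 IH) (Lpr_gf (f148435 IH) (Lpe (f22823 IH) (Lpn (LP (LK LD1_c3 LD2_c14 LD3_c4))))))))))))))))))))))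
theorem f148535 : Led Lsl_cf (LP (LK LD1_c3 LD2_c45 LD3_c18)) = (LP (LK LD1_c3 LD2_c14 LD3_c4)) :=
  Lgr Lrot11 (Lpr_ct (f148445 IH) (Lpn (LP (LK LD1_c3 LD2_c14 LD3_c4))))
theorem f62935 : Led Lsl_bt (LP (LK LD1_c1 LD2_c49 LD3_c49)) = (LP (LK LD1_c3 LD2_c45 LD3_c18)) :=
  Lre_b IH (LK LD1_c1 LD2_c49 LD3_c49) (LK LD1_c3 LD2_c45 LD3_c18) Lrfl Lrfl
theorem f65646 : Led Lsl_bt (LP (LK LD1_c3 LD2_c15 LD3_c30)) = (LP (LK LD1_c1 LD2_c34 LD3_c30)) :=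
  Lre_b IH (LK LD1_c3 LD2_c15 LD3_c30) (LK LD1_c1 LD2_c34 LD3_c30) Lrfl Lrfl
theorem f109332 : Led Lsl_ft (LP (LK LD1_c3 LD2_c45 LD3_c18)) = (LP (LK LD1_c3 LD2_c15 LD3_c30)) :=
  Lgr Lrot75 (Lpe (f62935 IH) (Lpr_ff (K3.f109329 IH) (Lpe (f65646 IH) (Lpn (LP (LK LD1_c3 LD2_c15 LD3_c30))))))
theorem f17737 : Led Lsl_bt (LP (LK LD1_c1 LD2_c38 LD3_c58)) = (LP (LK LD1_c1 LD2_c40 LD3_c59)) :=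
  Lgr Lrot95 (Lpe (K4.f17735 IH) (Lpr_bf (K0.f17730 IH) (Lpe (K3.f17736 IH) (Lpn (LP (LK LD1_c1 LD2_c40 LD3_c59))))))
theorem f108696 : Led Lsl_bt (LP (LK LD1_c1 LD2_c34 LD3_c30)) = (LP (LK LD1_c3 LD2_c15 LD3_c30)) :=
  Lre_b IH (LK LD1_c1 LD2_c34 LD3_c30) (LK LD1_c3 LD2_c15 LD3_c30) Lrfl Lrfl
theorem f148059 : Led Lsl_bt (LP (LK LD1_c3 LD2_c43 LD3_c21)) = (LP (LK LD1_c1 LD2_c48 LD3_c44)) :=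
  Lre_b IH (LK LD1_c3 LD2_c43 LD3_c21) (LK LD1_c1 LD2_c48 LD3_c44) Lrfl Lrfl
theorem f148060 : Led Lsl_ct (LP (LK LD1_c3 LD2_c15 LD3_c30)) = (LP (LK LD1_c3 LD2_c43 LD3_c21)) :=
  Lgr Lrot83 (Lpe (f108696 IH) (Lpe (K3.f107196 IH) (Lpe (f17737 IH) (Lpr_cf (f148056 IH) (Lpe (f148059 IH) (Lpn (LP (LK LD1_c3 LD2_c43 LD3_c21))))))))
theorem f148589 : Led Lsl_ft (LP (LK LD1_c3 LD2_c43 LD3_c21)) = (LP (LK LD1_c3 LD2_c14 LD3_c4)) :=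
  Lgr Lrot4 (Lpe (f148060 IH) (Lpe (f109332 IH) (Lpr_cf (f148535 IH) (Lpn (LP (LK LD1_c3 LD2_c14 LD3_c4))))))
theorem f148601 : Led Lsl_ff (LP (LK LD1_c3 LD2_c43 LD3_c21)) = (LP (LK LD1_c3 LD2_c14 LD3_c4)) :=
  Lgr Lrot3 (Lpr_ft (f148589 IH) (Lpn (LP (LK LD1_c3 LD2_c14 LD3_c4))))
theorem f148586 : Led Lsl_bt (LP (LK LD1_c1 LD2_c33 LD3_c36)) = (LP (LK LD1_c3 LD2_c14 LD3_c4)) :=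
  Lre_b IH (LK LD1_c1 LD2_c33 LD3_c36) (LK LD1_c3 LD2_c14 LD3_c4) Lrfl Lrfl
theorem f148614 : Led Lsl_ft (LP (LK LD1_c1 LD2_c48 LD3_c44)) = (LP (LK LD1_c1 LD2_c33 LD3_c36)) :=
  Lgr Lrot75 (Lpe (f148059 IH) (Lpr_ff (f148601 IH) (Lpe (f148586 IH) (Lpn (LP (LK LD1_c1 LD2_c33 LD3_c36))))))
theorem f147552 : Led Lsl_df (LP (LK LD1_c3 LD2_c19 LD3_c5)) = (LP (LK LD1_c1 LD2_c48 LD3_c44)) :=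
  Lgr Lrot153 (Lpr_gt (f147547 IH) (Lpe (f145299 IH) (Lpe (K6.f84593 IH) (Lpe (K6.f84589 IH) (Lpe (K6.f144149 IH) (Lpe (K4.f116055 IH) (Lpe (K4.f86815 IH) (Lpe (K5.f116077 IH) (Lpr_gt (f116076 IH) (Lpn (LP (LK LD1_c1 LD2_c48 LD3_c44))))))))))))
theorem f148625 : Led Lsl_af (LP (LK LD1_c1 LD2_c48 LD3_c45)) = (LP (LK LD1_c1 LD2_c33 LD3_c36)) :=
  Lgr Lrot109 (Lpe (K5.f128331 IH) (Lpe (K5.f124837 IH) (Lpe (K5.f124864 IH) (Lpr_df (f123592 IH) (Lpe (K4.f12905 IH) (Lpe (K4.f116543 IH) (Lpe (f147530 IH) (Lpr_df (f147552 IH) (Lpr_ft (f148614 IH) (Lpn (LP (LK LD1_c1 LD2_c33 LD3_c36))))))))))))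
theorem f148636 : Led Lsl_gf (LP (LK LD1_c1 LD2_c48 LD3_c45)) = (LP (LK LD1_c1 LD2_c33 LD3_c28)) :=
  Lgr Lrot76 (Lpr_af (f148625 IH) (Lpe (f148614 IH) (Lpr_gt (f148394 IH) (Lpn (LP (LK LD1_c1 LD2_c33 LD3_c28))))))
theorem f128335 : Led Lsl_cf (LP (LK LD1_c1 LD2_c31 LD3_c32)) = (LP (LK LD1_c1 LD2_c48 LD3_c45)) :=
  Lgr Lrot11 (Lpr_ct (K5.f128331 IH) (Lpn (LP (LK LD1_c1 LD2_c48 LD3_c45))))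
theorem f147566 : Led Lsl_cf (LP (LK LD1_c3 LD2_c13 LD3_c53)) = (LP (LK LD1_c1 LD2_c47 LD3_c60)) :=
  Lgr Lrot166 (Lpr_gt (f147561 IH) (Lpr_dt (K6.f146899 IH) (Lpe (f147554 IH) (Lpe (f147522 IH) (Lpr_ct (K5.f66561 IH) (Lpr_df (K5.f124843 IH) (Lpe (K6.f124855 IH) (Lpe (f17732 IH) (Lpr_gf (f131672 IH) (Lpn (LP (LK LD1_c1 LD2_c47 LD3_c60))))))))))))
theorem f148348 : Led Lsl_df (LP (LK LD1_c1 LD2_c49 LD3_c8)) = (LP (LK LD1_c1 LD2_c33 LD3_c28)) :=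
  Lgr Lrot38 (Lpr_dt (f148342 IH) (Lpn (LP (LK LD1_c1 LD2_c33 LD3_c28))))
theorem f148642 : Led Lsl_cf (LP (LK LD1_c6 LD2_c30 LD3_c52)) = (LP (LK LD1_c3 LD2_c42 LD3_c18)) :=
  Lgr Lrot175 (Lpe (f124607 IH) (Lpr_cf (f147566 IH) (Lpr_gf (f124873 IH) (Lpr_cf (f128335 IH) (Lpr_gf (f148636 IH) (Lpe (f148348 IH) (Lpe (K6.f142287 IH) (Lpr_ct (K6.f124653 IH) (Lpr_gt (K6.f124066 IH) (Lpn (LP (LK LD1_c3 LD2_c42 LD3_c18))))))))))))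
theorem f12842 : Led Lsl_dt (LP (LK LD1_c1 LD2_c48 LD3_c53)) = (LP (LK LD1_c0 LD2_c51 LD3_c13)) :=
  Lre_d IH (LK LD1_c1 LD2_c48 LD3_c53) (LK LD1_c0 LD2_c51 LD3_c13) Lrfl Lrfl
theorem f131664 : Led Lsl_dt (LP (LK LD1_c0 LD2_c20 LD3_c31)) = (LP (LK LD1_c0 LD2_c23 LD3_c7)) :=
  Lgr Lrot42 (Lpr_df (K5.f131652 IH) (Lpn (LP (LK LD1_c0 LD2_c23 LD3_c7))))
theorem f132074 : Led Lsl_gt (LP (LK LD1_c3 LD2_c40 LD3_c3)) = (LP (LK LD1_c1 LD2_c48 LD3_c53)) :=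
  Lgr Lrot49 (Lpe (f96340 IH) (Lpr_gf (f132072 IH) (Lpe (K3.f95901 IH) (Lpr_gt (K6.f95895 IH) (Lpr_dt (K6.f12745 IH) (Lpr_gt (K0.f17645 IH) (Lpr_dt (f131664 IH) (Lpe (K5.f12901 IH) (Lpe (f12842 IH) (Lpn (LP (LK LD1_c1 LD2_c48 LD3_c53))))))))))))
theorem f147526 : Led Lsl_cf (LP (LK LD1_c3 LD2_c40 LD3_c3)) = (LP (LK LD1_c6 LD2_c31 LD3_c26)) :=
  Lgr Lrot118 (Lpr_dt (K5.f96344 IH) (Lpr_ct (K5.f96338 IH) (Lpr_dt (K2.f84762 IH) (Lpr_ct (K4.f84740 IH) (Lpr_dt (K4.f115063 IH) (Lpr_ct (K4.f12572 IH) (Lpr_af (K5.f124594 IH) (Lpr_ff (K5.f124678 IH) (Lpr_dt (K6.f147518 IH) (Lpn (LP (LK LD1_c6 LD2_c31 LD3_c26))))))))))))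
theorem f148681 : Led Lsl_df (LP (LK LD1_c6 LD2_c30 LD3_c52)) = (LP (LK LD1_c3 LD2_c13 LD3_c53)) :=
  Lgr Lrot84 (Lpr_cf (f148642 IH) (Lpr_df (f144661 IH) (Lpe (K3.f12763 IH) (Lpe (f12842 IH) (Lpe (f132074 IH) (Lpr_cf (f147526 IH) (Lpr_gt (K6.f147517 IH) (Lpr_dt (K6.f146908 IH) (Lpr_gt (f22499 IH) (Lpn (LP (LK LD1_c3 LD2_c13 LD3_c53))))))))))))
theorem f148679 : Led Lsl_gt (LP (LK LD1_c6 LD2_c30 LD3_c52)) = (LP (LK LD1_c3 LD2_c13 LD3_c46)) :=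
  Lgr Lrot94 (Lpr_cf (f148642 IH) (Lpe (K6.f144659 IH) (Lpr_dt (K5.f120992 IH) (Lpr_gt (K6.f142330 IH) (Lpe (K6.f142359 IH) (Lpe (K6.f144249 IH) (Lpe (K6.f124600 IH) (Lpe (K5.f124610 IH) (Lpe (K5.f23699 IH) (Lpn (LP (LK LD1_c3 LD2_c13 LD3_c46))))))))))))
theorem f147733 : Led Lsl_dt (LP (LK LD1_c0 LD2_c50 LD3_c61)) = (LP (LK LD1_c1 LD2_c48 LD3_c29)) :=
  Lre_d IH (LK LD1_c0 LD2_c50 LD3_c61) (LK LD1_c1 LD2_c48 LD3_c29) Lrfl Lrfl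
theorem f68464 : Led Lsl_ct (LP (LK LD1_c1 LD2_c33 LD3_c37)) = (LP (LK LD1_c1 LD2_c33 LD3_c6)) :=
  Lgr Lrot59 (Lpr_cf (K5.f68358 IH) (Lpn (LP (LK LD1_c1 LD2_c33 LD3_c6))))
theorem f68471 : Led Lsl_dt (LP (LK LD1_c3 LD2_c14 LD3_c8)) = (LP (LK LD1_c1 LD2_c33 LD3_c37)) :=
  Lre_d IH (LK LD1_c3 LD2_c14 LD3_c8) (LK LD1_c1 LD2_c33 LD3_c37) Lrfl Lrfl
theorem f144373 : Led Lsl_gt (LP (LK LD1_c1 LD2_c54 LD3_c9)) = (LP (LK LD1_c3 LD2_c14 LD3_c8)) :=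
  Lgr Lrot49 (Lpr_df (K6.f144345 IH) (Lpe (K6.f144339 IH) (Lpe (K5.f26226 IH) (Lpr_gt (K4.f26232 IH) (Lpe (K4.f114995 IH) (Lpe (K3.f84637 IH) (Lpe (K5.f129093 IH) (Lpe (f68464 IH) (Lpe (f68471 IH) (Lpn (LP (LK LD1_c3 LD2_c14 LD3_c8))))))))))))
theorem f147734 : Led Lsl_ct (LP (LK LD1_c1 LD2_c48 LD3_c29)) = (LP (LK LD1_c1 LD2_c33 LD3_c38)) :=
  Lgr Lrot7 (Lpe (f147733 IH) (Lpr_gf (f147727 IH) (Lpe (K6.f116272 IH) (Lpe (f146876 IH) (Lpe (K6.f121002 IH) (Lpr_gt (f144373 IH) (Lpr_dt (f68471 IH) (Lpr_gt (K5.f22824 IH) (Lpr_dt (K5.f22664 IH) (Lpn (LP (LK LD1_c1 LD2_c33 LD3_c38))))))))))))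
theorem f148689 : Led Lsl_gt (LP (LK LD1_c1 LD2_c47 LD3_c38)) = (LP (LK LD1_c1 LD2_c48 LD3_c29)) :=
  Lgr Lrot150 (Lpr_cf (K4.f124048 IH) (Lpe (f148679 IH) (Lpr_df (f148681 IH) (Lpr_gt (f147561 IH) (Lpr_ct (f22627 IH) (Lpr_gt (K2.f22503 IH) (Lpr_ct (K5.f22613 IH) (Lpe (K6.f22616 IH) (Lpe (f147734 IH) (Lpn (LP (LK LD1_c1 LD2_c48 LD3_c29))))))))))))
theorem f129193 : Led Lsl_bt (LP (LK LD1_c1 LD2_c47 LD3_c13)) = (LP (LK LD1_c3 LD2_c40 LD3_c31)) :=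
  Lre_b IH (LK LD1_c1 LD2_c47 LD3_c13) (LK LD1_c3 LD2_c40 LD3_c31) Lrfl Lrfl
theorem f122729 : Led Lsl_gt (LP (LK LD1_c3 LD2_c40 LD3_c31)) = (LP (LK LD1_c7 LD2_c21 LD3_c10)) :=
  Lre_g IH (LK LD1_c3 LD2_c40 LD3_c31) (LK LD1_c7 LD2_c21 LD3_c10) Lrfl Lrfl
theorem f148696 : Led Lsl_bt (LP (LK LD1_c13 LD2_c6 LD3_c21)) = (LP (LK LD1_c7 LD2_c21 LD3_c10)) :=
  Lgr Lrot92 (Lpe (K6.f136720 IH) (Lpr_gt (K6.f126476 IH) (Lpe (K6.f13392 IH) (Lpr_bt (K5.f13391 IH) (Lpr_gt (f148689 IH) (Lpr_ct (f147734 IH) (Lpr_gt (K5.f22637 IH) (Lpr_cf (K5.f129145 IH) (Lpr_bt (f129193 IH) (Lpr_gt (f122729 IH) (Lpn (LP (LK LD1_c7 LD2_c21 LD3_c10)))))))))))))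
theorem f102883 : Led Lsl_dt (LP (LK LD1_c6 LD2_c53 LD3_c46)) = (LP (LK LD1_c13 LD2_c6 LD3_c21)) :=
  Lre_d IH (LK LD1_c6 LD2_c53 LD3_c46) (LK LD1_c13 LD2_c6 LD3_c21) Lrfl Lrfl
theorem f148706 : Led Lsl_df (LP (LK LD1_c3 LD2_c41 LD3_c0)) = (LP (LK LD1_c7 LD2_c21 LD3_c10)) :=
  Lgr Lrot12 (Lpe (K6.f137059 IH) (Lpr_dt (f102883 IH) (Lpr_bt (f148696 IH) (Lpn (LP (LK LD1_c7 LD2_c21 LD3_c10))))))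
theorem f115819 : Led Lsl_dt (LP (LK LD1_c7 LD2_c1 LD3_c18)) = (LP (LK LD1_c3 LD2_c29 LD3_c51)) :=
  Lre_d IH (LK LD1_c7 LD2_c1 LD3_c18) (LK LD1_c3 LD2_c29 LD3_c51) Lrfl Lrfl
theorem f122728 : Led Lsl_dt (LP (LK LD1_c1 LD2_c47 LD3_c12)) = (LP (LK LD1_c3 LD2_c40 LD3_c31)) :=
  Lre_d IH (LK LD1_c1 LD2_c47 LD3_c12) (LK LD1_c3 LD2_c40 LD3_c31) Lrfl Lrfl
theorem f84967 : Led Lsl_dt (LP (LK LD1_c1 LD2_c51 LD3_c57)) = (LP (LK LD1_c3 LD2_c49 LD3_c56)) :=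
  Lre_d IH (LK LD1_c1 LD2_c51 LD3_c57) (LK LD1_c3 LD2_c49 LD3_c56) Lrfl Lrfl
theorem f148753 : Led Lsl_gf (LP (LK LD1_c7 LD2_c1 LD3_c18)) = (LP (LK LD1_c3 LD2_c49 LD3_c56)) :=
  Lgr Lrot143 (Lpr_dt (f115819 IH) (Lpr_cf (K6.f137061 IH) (Lpr_df (f148706 IH) (Lpe (f122729 IH) (Lpe (f122728 IH) (Lpe (K5.f122707 IH) (Lpe (K5.f14745 IH) (Lpr_gt (K6.f84966 IH) (Lpr_dt (f84967 IH) (Lpn (LP (LK LD1_c3 LD2_c49 LD3_c56))))))))))))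
theorem f130587 : Led Lsl_at (LP (LK LD1_c3 LD2_c29 LD3_c53)) = (LP (LK LD1_c7 LD2_c1 LD3_c18)) :=
  Lre_a IH (LK LD1_c3 LD2_c29 LD3_c53) (LK LD1_c7 LD2_c1 LD3_c18) Lrfl Lrfl
theorem f148755 : Led Lsl_gt (LP (LK LD1_c1 LD2_c52 LD3_c28)) = (LP (LK LD1_c3 LD2_c49 LD3_c56)) :=
  Lgr Lrot5 (Lpr_ft (K6.f115636 IH) (Lpr_at (f130587 IH) (Lpr_gf (f148753 IH) (Lpn (LP (LK LD1_c3 LD2_c49 LD3_c56))))))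
theorem f65384 : Led Lsl_gt (LP (LK LD1_c7 LD2_c43 LD3_c56)) = (LP (LK LD1_c3 LD2_c51 LD3_c15)) :=
  Lre_g IH (LK LD1_c7 LD2_c43 LD3_c56) (LK LD1_c3 LD2_c51 LD3_c15) Lrfl Lrfl
theorem f17123 : Led Lsl_ct (LP (LK LD1_c9 LD2_c23 LD3_c12)) = (LP (LK LD1_c4 LD2_c45 LD3_c16)) :=
  Lre_c IH (LK LD1_c9 LD2_c23 LD3_c12) (LK LD1_c4 LD2_c45 LD3_c16) Lrfl Lrfl
theorem f14676 : Led Lsl_bt (LP (LK LD1_c1 LD2_c52 LD3_c28)) = (LP (LK LD1_c0 LD2_c52 LD3_c57)) :=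
  Lre_b IH (LK LD1_c1 LD2_c52 LD3_c28) (LK LD1_c0 LD2_c52 LD3_c57) Lrfl Lrfl
theorem f65266 : Led Lsl_bt (LP (LK LD1_c1 LD2_c34 LD3_c42)) = (LP (LK LD1_c3 LD2_c15 LD3_c53)) :=
  Lre_b IH (LK LD1_c1 LD2_c34 LD3_c42) (LK LD1_c3 LD2_c15 LD3_c53) Lrfl Lrfl
theorem f65267 : Led Lsl_ct (LP (LK LD1_c3 LD2_c15 LD3_c53)) = (LP (LK LD1_c6 LD2_c35 LD3_c2)) :=
  Lre_c IH (LK LD1_c3 LD2_c15 LD3_c53) (LK LD1_c6 LD2_c35 LD3_c2) Lrfl Lrfl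
theorem f65268 : Led Lsl_bf (LP (LK LD1_c3 LD2_c51 LD3_c15)) = (LP (LK LD1_c6 LD2_c35 LD3_c2)) :=
  Lgr Lrot90 (Lpr_ct (K6.f14677 IH) (Lpr_bt (f14676 IH) (Lpr_ct (K2.f65255 IH) (Lpr_bt (f65266 IH) (Lpr_ct (f65267 IH) (Lpn (LP (LK LD1_c6 LD2_c35 LD3_c2))))))))
theorem f141671 : Led Lsl_bt (LP (LK LD1_c9 LD2_c23 LD3_c12)) = (LP (LK LD1_c7 LD2_c43 LD3_c56)) :=
  Lgr Lrot22 (Lpr_ct (f17123 IH) (Lpe (K3.f91385 IH) (Lpe (K0.f14040 IH) (Lpe (K6.f15550 IH) (Lpe (K6.f15553 IH) (Lpr_ct (K6.f141651 IH) (Lpe (K6.f65277 IH) (Lpe (K6.f65361 IH) (Lpe (f65268 IH) (Lpe (f65384 IH) (Lpn (LP (LK LD1_c7 LD2_c43 LD3_c56)))))))))))))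
theorem f69316 : Led Lsl_bt (LP (LK LD1_c1 LD2_c34 LD3_c52)) = (LP (LK LD1_c0 LD2_c44 LD3_c9)) :=
  Lre_b IH (LK LD1_c1 LD2_c34 LD3_c52) (LK LD1_c0 LD2_c44 LD3_c9) Lrfl Lrfl
theorem f15616 : Led Lsl_bt (LP (LK LD1_c3 LD2_c16 LD3_c10)) = (LP (LK LD1_c1 LD2_c34 LD3_c51)) :=
  Lre_b IH (LK LD1_c3 LD2_c16 LD3_c10) (LK LD1_c1 LD2_c34 LD3_c51) Lrfl Lrfl
theorem f148762 : Led Lsl_ct (LP (LK LD1_c3 LD2_c16 LD3_c10)) = (LP (LK LD1_c3 LD2_c49 LD3_c56)) :=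
  Lgr Lrot63 (Lpr_bt (f15616 IH) (Lpr_gt (K3.f15615 IH) (Lpe (f69316 IH) (Lpr_ct (K0.f14040 IH) (Lpr_gt (K3.f91385 IH) (Lpe (f17123 IH) (Lpr_bt (f141671 IH) (Lpr_gt (f65384 IH) (Lpr_ct (K6.f14677 IH) (Lpr_gt (f148755 IH) (Lpn (LP (LK LD1_c3 LD2_c49 LD3_c56)))))))))))))
theorem f93460 : Led Lsl_bt (LP (LK LD1_c1 LD2_c5 LD3_c1)) = (LP (LK LD1_c0 LD2_c44 LD3_c22)) :=
  Lre_b IH (LK LD1_c1 LD2_c5 LD3_c1) (LK LD1_c0 LD2_c44 LD3_c22) Lrfl Lrfl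
theorem f58856 : Led Lsl_gt (LP (LK LD1_c1 LD2_c5 LD3_c0)) = (LP (LK LD1_c0 LD2_c29 LD3_c42)) :=
  Lre_g IH (LK LD1_c1 LD2_c5 LD3_c0) (LK LD1_c0 LD2_c29 LD3_c42) Lrfl Lrfl
theorem f93905 : Led Lsl_ct (LP (LK LD1_c2 LD2_c16 LD3_c6)) = (LP (LK LD1_c1 LD2_c5 LD3_c0)) :=
  Lre_c IH (LK LD1_c2 LD2_c16 LD3_c6) (LK LD1_c1 LD2_c5 LD3_c0) Lrfl Lrfl
theorem f148790 : Led Lsl_gf (LP (LK LD1_c2 LD2_c16 LD3_c6)) = (LP (LK LD1_c4 LD2_c37 LD3_c48)) :=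
  Lgr Lrot181 (Lpr_ct (f93905 IH) (Lpr_gt (f58856 IH) (Lpe (K6.f36591 IH) (Lpr_bt (f93460 IH) (Lpr_gt (K3.f63820 IH) (Lpe (f15616 IH) (Lpr_ct (f148762 IH) (Lpe (f148753 IH) (Lpr_cf (K5.f130578 IH) (Lpr_bt (K6.f130561 IH) (Lpn (LP (LK LD1_c4 LD2_c37 LD3_c48)))))))))))))
theorem f63822 : Led Lsl_ct (LP (LK LD1_c4 LD2_c38 LD3_c9)) = (LP (LK LD1_c2 LD2_c16 LD3_c10)) :=
  Lre_c IH (LK LD1_c4 LD2_c38 LD3_c9) (LK LD1_c2 LD2_c16 LD3_c10) Lrfl Lrfl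
theorem f100291 : Led Lsl_gt (LP (LK LD1_c4 LD2_c37 LD3_c11)) = (LP (LK LD1_c9 LD2_c10 LD3_c3)) :=
  Lre_g IH (LK LD1_c4 LD2_c37 LD3_c11) (LK LD1_c9 LD2_c10 LD3_c3) Lrfl Lrfl
theorem f141381 : Led Lsl_gf (LP (LK LD1_c4 LD2_c37 LD3_c31)) = (LP (LK LD1_c9 LD2_c10 LD3_c3)) :=
  Lgr Lrot76 (Lpr_af (K6.f141377 IH) (Lpr_ff (K6.f141241 IH) (Lpr_gt (f100291 IH) (Lpn (LP (LK LD1_c9 LD2_c10 LD3_c3))))))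
theorem f148794 : Led Lsl_df (LP (LK LD1_c9 LD2_c10 LD3_c3)) = (LP (LK LD1_c4 LD2_c37 LD3_c48)) :=
  Lgr Lrot155 (Lpe (f141381 IH) (Lpr_ct (K6.f141379 IH) (Lpr_gt (K6.f141393 IH) (Lpr_ct (f63822 IH) (Lpr_dt (K6.f36592 IH) (Lpe (K0.f26379 IH) (Lpe (f58856 IH) (Lpe (f93905 IH) (Lpr_gf (f148790 IH) (Lpn (LP (LK LD1_c4 LD2_c37 LD3_c48))))))))))))
theorem f141936 : Led Lsl_ff (LP (LK LD1_c4 LD2_c37 LD3_c48)) = (LP (LK LD1_c3 LD2_c20 LD3_c18)) :=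
  Lgr Lrot23 (Lpe (K5.f130558 IH) (Lpr_ft (K6.f141932 IH) (Lpe (K6.f56757 IH) (Lpn (LP (LK LD1_c3 LD2_c20 LD3_c18))))))
theorem f56858 : Led Lsl_dt (LP (LK LD1_c0 LD2_c44 LD3_c19)) = (LP (LK LD1_c1 LD2_c35 LD3_c27)) :=
  Lre_d IH (LK LD1_c0 LD2_c44 LD3_c19) (LK LD1_c1 LD2_c35 LD3_c27) Lrfl Lrfl
theorem f141967 : Led Lsl_dt (LP (LK LD1_c6 LD2_c20 LD3_c15)) = (LP (LK LD1_c3 LD2_c20 LD3_c18)) :=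
  Lgr Lrot6 (Lpr_gt (K6.f141243 IH) (Lpr_ct (K6.f141303 IH) (Lpe (K6.f141322 IH) (Lpr_ct (K6.f114922 IH) (Lpe (f56858 IH) (Lpe (K6.f26507 IH) (Lpe (K6.f26492 IH) (Lpe (K6.f62198 IH) (Lpr_gf (K6.f141963 IH) (Lpn (LP (LK LD1_c3 LD2_c20 LD3_c18))))))))))))
theorem f148804 : Led Lsl_ft (LP (LK LD1_c9 LD2_c10 LD3_c3)) = (LP (LK LD1_c6 LD2_c20 LD3_c15)) :=
  Lgr Lrot54 (Lpr_df (f148794 IH) (Lpr_ff (f141936 IH) (Lpe (f141967 IH) (Lpn (LP (LK LD1_c6 LD2_c20 LD3_c15))))))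
theorem f100290 : Led Lsl_gt (LP (LK LD1_c4 LD2_c37 LD3_c31)) = (LP (LK LD1_c9 LD2_c10 LD3_c4)) :=
  Lre_g IH (LK LD1_c4 LD2_c37 LD3_c31) (LK LD1_c9 LD2_c10 LD3_c4) Lrfl Lrfl
theorem f148829 : Led Lsl_af (LP (LK LD1_c9 LD2_c10 LD3_c4)) = (LP (LK LD1_c6 LD2_c20 LD3_c15)) :=
  Lgr Lrot31 (Lpe (f100290 IH) (Lpr_gf (f141381 IH) (Lpr_ft (f148804 IH) (Lpn (LP (LK LD1_c6 LD2_c20 LD3_c15))))))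
theorem f40600 : Led Lsl_ct (LP (LK LD1_c2 LD2_c16 LD3_c4)) = (LP (LK LD1_c1 LD2_c4 LD3_c61)) :=
  Lre_c IH (LK LD1_c2 LD2_c16 LD3_c4) (LK LD1_c1 LD2_c4 LD3_c61) Lrfl Lrfl
theorem f79967 : Led Lsl_gt (LP (LK LD1_c4 LD2_c37 LD3_c49)) = (LP (LK LD1_c2 LD2_c16 LD3_c4)) :=
  Lre_g IH (LK LD1_c4 LD2_c37 LD3_c49) (LK LD1_c2 LD2_c16 LD3_c4) Lrfl Lrfl
theorem f141197 : Led Lsl_gt (LP (LK LD1_c9 LD2_c10 LD3_c4)) = (LP (LK LD1_c4 LD2_c37 LD3_c11)) :=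
  Lre_g IH (LK LD1_c9 LD2_c10 LD3_c4) (LK LD1_c4 LD2_c37 LD3_c11) Lrfl Lrfl
theorem f141217 : Led Lsl_df (LP (LK LD1_c4 LD2_c37 LD3_c49)) = (LP (LK LD1_c9 LD2_c10 LD3_c4)) :=
  Lgr Lrot155 (Lpr_gt (f79967 IH) (Lpr_ct (f40600 IH) (Lpr_gt (K4.f26401 IH) (Lpr_ct (K0.f26400 IH) (Lpr_dt (K6.f80096 IH) (Lpe (K6.f15585 IH) (Lpe (K6.f139769 IH) (Lpr_cf (K6.f141189 IH) (Lpe (f141197 IH) (Lpn (LP (LK LD1_c9 LD2_c10 LD3_c4))))))))))))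
theorem f148833 : Led Lsl_at (LP (LK LD1_c4 LD2_c37 LD3_c49)) = (LP (LK LD1_c3 LD2_c20 LD3_c18)) :=
  Lgr Lrot51 (Lpr_df (f141217 IH) (Lpr_af (f148829 IH) (Lpr_df (K6.f141969 IH) (Lpn (LP (LK LD1_c3 LD2_c20 LD3_c18))))))
theorem f148851 : Led Lsl_ff (LP (LK LD1_c4 LD2_c37 LD3_c49)) = (LP (LK LD1_c3 LD2_c20 LD3_c19)) :=
  Lgr Lrot30 (Lpr_at (f148833 IH) (Lpe (f141936 IH) (Lpr_at (K6.f141731 IH) (Lpn (LP (LK LD1_c3 LD2_c20 LD3_c19))))))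
theorem f148856 : Led Lsl_ft (LP (LK LD1_c4 LD2_c37 LD3_c49)) = (LP (LK LD1_c3 LD2_c20 LD3_c19)) :=
  Lgr Lrot48 (Lpr_ff (f148851 IH) (Lpn (LP (LK LD1_c3 LD2_c20 LD3_c19))))
theorem f117903 : Led Lsl_at (LP (LK LD1_c3 LD2_c17 LD3_c10)) = (LP (LK LD1_c1 LD2_c35 LD3_c11)) :=
  Lre_a IH (LK LD1_c3 LD2_c17 LD3_c10) (LK LD1_c1 LD2_c35 LD3_c11) Lrfl Lrfl
theorem f118653 : Led Lsl_ff (LP (LK LD1_c3 LD2_c17 LD3_c10)) = (LP (LK LD1_c6 LD2_c35 LD3_c14)) :=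
  Lgr Lrot30 (Lpr_at (f117903 IH) (Lpr_ft (K4.f118650 IH) (Lpr_at (K6.f118652 IH) (Lpn (LP (LK LD1_c6 LD2_c35 LD3_c14))))))
theorem f98863 : Led Lsl_gt (LP (LK LD1_c3 LD2_c17 LD3_c9)) = (LP (LK LD1_c1 LD2_c35 LD3_c11)) :=
  Lre_g IH (LK LD1_c3 LD2_c17 LD3_c9) (LK LD1_c1 LD2_c35 LD3_c11) Lrfl Lrfl
theorem f118846 : Led Lsl_gf (LP (LK LD1_c3 LD2_c17 LD3_c9)) = (LP (LK LD1_c6 LD2_c35 LD3_c14)) :=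
  Lgr Lrot47 (Lpr_gt (f98863 IH) (Lpe (f117903 IH) (Lpr_ff (f118653 IH) (Lpn (LP (LK LD1_c6 LD2_c35 LD3_c14))))))
theorem f141574 : Led Lsl_at (LP (LK LD1_c6 LD2_c35 LD3_c2)) = (LP (LK LD1_c3 LD2_c17 LD3_c9)) :=
  Lgr Lrot26 (Lpr_ff (K6.f141568 IH) (Lpr_gt (K6.f118661 IH) (Lpe (f118846 IH) (Lpn (LP (LK LD1_c3 LD2_c17 LD3_c9))))))
theorem f141576 : Led Lsl_af (LP (LK LD1_c6 LD2_c35 LD3_c2)) = (LP (LK LD1_c3 LD2_c17 LD3_c9)) :=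
  Lgr Lrot0 (Lpr_at (f141574 IH) (Lpn (LP (LK LD1_c3 LD2_c17 LD3_c9))))
theorem f141675 : Led Lsl_ft (LP (LK LD1_c6 LD2_c35 LD3_c13)) = (LP (LK LD1_c3 LD2_c17 LD3_c9)) :=
  Lgr Lrot2 (Lpr_gt (K6.f117041 IH) (Lpr_gt (K6.f141673 IH) (Lpr_af (f141576 IH) (Lpn (LP (LK LD1_c3 LD2_c17 LD3_c9))))))
theorem f148858 : Led Lsl_bf (LP (LK LD1_c4 LD2_c37 LD3_c49)) = (LP (LK LD1_c3 LD2_c17 LD3_c9)) :=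
  Lgr Lrot61 (Lpr_ft (f148856 IH) (Lpe (K6.f141722 IH) (Lpr_ft (f141675 IH) (Lpn (LP (LK LD1_c3 LD2_c17 LD3_c9))))))
theorem f56803 : Led Lsl_bt (LP (LK LD1_c3 LD2_c20 LD3_c18)) = (LP (LK LD1_c6 LD2_c44 LD3_c19)) :=
  Lre_b IH (LK LD1_c3 LD2_c20 LD3_c18) (LK LD1_c6 LD2_c44 LD3_c19) Lrfl Lrfl
theorem f148862 : Led Lsl_at (LP (LK LD1_c6 LD2_c44 LD3_c19)) = (LP (LK LD1_c3 LD2_c51 LD3_c15)) :=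
  Lgr Lrot67 (Lpe (f56803 IH) (Lpe (f148833 IH) (Lpr_bf (f148858 IH) (Lpe (f141574 IH) (Lpe (K6.f65351 IH) (Lpn (LP (LK LD1_c3 LD2_c51 LD3_c15))))))))
theorem f130582 : Led Lsl_ct (LP (LK LD1_c7 LD2_c1 LD3_c18)) = (LP (LK LD1_c9 LD2_c11 LD3_c14)) :=
  Lgr Lrot59 (Lpr_cf (K5.f130578 IH) (Lpn (LP (LK LD1_c9 LD2_c11 LD3_c14))))
theorem f146722 : Led Lsl_ff (LP (LK LD1_c6 LD2_c44 LD3_c19)) = (LP (LK LD1_c9 LD2_c11 LD3_c14)) :=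
  Lgr Lrot23 (Lpr_ct (K6.f146715 IH) (Lpe (K6.f146673 IH) (Lpr_ct (f130582 IH) (Lpn (LP (LK LD1_c9 LD2_c11 LD3_c14))))))
theorem f148906 : Led Lsl_gt (LP (LK LD1_c9 LD2_c11 LD3_c14)) = (LP (LK LD1_c7 LD2_c43 LD3_c56)) :=
  Lgr Lrot5 (Lpe (f146722 IH) (Lpr_at (f148862 IH) (Lpe (f65384 IH) (Lpn (LP (LK LD1_c7 LD2_c43 LD3_c56))))))
theorem f14058 : Led Lsl_ct (LP (LK LD1_c4 LD2_c37 LD3_c40)) = (LP (LK LD1_c2 LD2_c56 LD3_c2)) :=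
  Lre_c IH (LK LD1_c4 LD2_c37 LD3_c40) (LK LD1_c2 LD2_c56 LD3_c2) Lrfl Lrfl
theorem f14353 : Led Lsl_bt (LP (LK LD1_c4 LD2_c37 LD3_c40)) = (LP (LK LD1_c2 LD2_c16 LD3_c1)) :=
  Lre_b IH (LK LD1_c4 LD2_c37 LD3_c40) (LK LD1_c2 LD2_c16 LD3_c1) Lrfl Lrfl
theorem f56851 : Led Lsl_ct (LP (LK LD1_c1 LD2_c35 LD3_c25)) = (LP (LK LD1_c2 LD2_c27 LD3_c33)) :=
  Lgr Lrot59 (Lpr_cf (K4.f56840 IH) (Lpn (LP (LK LD1_c2 LD2_c27 LD3_c33))))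
theorem f148910 : Led Lsl_gf (LP (LK LD1_c4 LD2_c34 LD3_c29)) = (LP (LK LD1_c2 LD2_c27 LD3_c33)) :=
  Lgr Lrot129 (Lpr_cf (K5.f130558 IH) (Lpr_bt (K5.f130567 IH) (Lpr_gt (f148906 IH) (Lpe (f141671 IH) (Lpr_ct (f17123 IH) (Lpr_gt (K3.f17122 IH) (Lpe (f14058 IH) (Lpr_bt (f14353 IH) (Lpr_gt (K4.f14354 IH) (Lpr_ct (f56851 IH) (Lpn (LP (LK LD1_c2 LD2_c27 LD3_c33)))))))))))))
theorem f141905 : Led Lsl_af (LP (LK LD1_c4 LD2_c34 LD3_c29)) = (LP (LK LD1_c6 LD2_c44 LD3_c21)) :=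
  Lgr Lrot68 (Lpr_ct (K5.f130562 IH) (Lpr_at (K6.f141731 IH) (Lpr_ct (K6.f139703 IH) (Lpn (LP (LK LD1_c6 LD2_c44 LD3_c21))))))
theorem f81948 : Led Lsl_cf (LP (LK LD1_c2 LD2_c27 LD3_c4)) = (LP (LK LD1_c1 LD2_c23 LD3_c3)) :=
  Lgr Lrot11 (Lpr_ct (K6.f81837 IH) (Lpn (LP (LK LD1_c1 LD2_c23 LD3_c3))))
theorem f82029 : Led Lsl_bt (LP (LK LD1_c0 LD2_c32 LD3_c51)) = (LP (LK LD1_c1 LD2_c10 LD3_c48)) :=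
  Lre_b IH (LK LD1_c0 LD2_c32 LD3_c51) (LK LD1_c1 LD2_c10 LD3_c48) Lrfl Lrfl
theorem f82030 : Led Lsl_gt (LP (LK LD1_c2 LD2_c27 LD3_c1)) = (LP (LK LD1_c1 LD2_c10 LD3_c48)) :=
  Lre_g IH (LK LD1_c2 LD2_c27 LD3_c1) (LK LD1_c1 LD2_c10 LD3_c48) Lrfl Lrfl
theorem f82031 : Led Lsl_bf (LP (LK LD1_c2 LD2_c27 LD3_c1)) = (LP (LK LD1_c2 LD2_c54 LD3_c21)) :=
  Lgr Lrot156 (Lpr_gt (f82030 IH) (Lpe (f82029 IH) (Lpr_ct (K6.f74313 IH) (Lpr_gt (K4.f76093 IH) (Lpr_cf (f81948 IH) (Lpr_bt (K6.f71958 IH) (Lpr_gt (K6.f69439 IH) (Lpr_ct (K2.f37920 IH) (Lpr_gt (K6.f81817 IH) (Lpe (K6.f81820 IH) (Lpn (LP (LK LD1_c2 LD2_c54 LD3_c21)))))))))))))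
theorem f82035 : Led Lsl_dt (LP (LK LD1_c2 LD2_c27 LD3_c1)) = (LP (LK LD1_c4 LD2_c58 LD3_c21)) :=
  Lre_d IH (LK LD1_c2 LD2_c27 LD3_c1) (LK LD1_c4 LD2_c58 LD3_c21) Lrfl Lrfl
theorem f82036 : Led Lsl_bt (LP (LK LD1_c4 LD2_c58 LD3_c21)) = (LP (LK LD1_c5 LD2_c56 LD3_c0)) :=
  Lgr Lrot95 (Lpe (f82035 IH) (Lpr_bf (f82031 IH) (Lpe (K6.f81999 IH) (Lpn (LP (LK LD1_c5 LD2_c56 LD3_c0))))))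
theorem f82041 : Led Lsl_bf (LP (LK LD1_c4 LD2_c58 LD3_c21)) = (LP (LK LD1_c5 LD2_c56 LD3_c0)) :=
  Lgr Lrot24 (Lpr_bt (f82036 IH) (Lpn (LP (LK LD1_c5 LD2_c56 LD3_c0))))
theorem f26506 : Led Lsl_bt (LP (LK LD1_c0 LD2_c19 LD3_c53)) = (LP (LK LD1_c0 LD2_c8 LD3_c55)) :=
  Lre_b IH (LK LD1_c0 LD2_c19 LD3_c53) (LK LD1_c0 LD2_c8 LD3_c55) Lrfl Lrfl
theorem f82050 : Led Lsl_gt (LP (LK LD1_c4 LD2_c58 LD3_c21)) = (LP (LK LD1_c2 LD2_c27 LD3_c33)) :=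
  Lgr Lrot82 (Lpr_bf (f82041 IH) (Lpe (K6.f82009 IH) (Lpe (K6.f56863 IH) (Lpe (K6.f56760 IH) (Lpr_bt (K4.f56759 IH) (Lpe (K1.f22974 IH) (Lpe (f26506 IH) (Lpr_ct (K6.f26507 IH) (Lpe (K4.f56857 IH) (Lpr_cf (K4.f56840 IH) (Lpn (LP (LK LD1_c2 LD2_c27 LD3_c33)))))))))))))
theorem f148914 : Led Lsl_ff (LP (LK LD1_c6 LD2_c44 LD3_c21)) = (LP (LK LD1_c4 LD2_c58 LD3_c21)) :=
  Lgr Lrot52 (Lpe (f141905 IH) (Lpr_gf (f148910 IH) (Lpe (f82050 IH) (Lpn (LP (LK LD1_c4 LD2_c58 LD3_c21))))))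
theorem f148924 : Led Lsl_ft (LP (LK LD1_c6 LD2_c44 LD3_c21)) = (LP (LK LD1_c4 LD2_c58 LD3_c21)) :=
  Lgr Lrot48 (Lpr_ff (f148914 IH) (Lpn (LP (LK LD1_c4 LD2_c58 LD3_c21))))
theorem f141750 : Led Lsl_dt (LP (LK LD1_c4 LD2_c25 LD3_c46)) = (LP (LK LD1_c6 LD2_c44 LD3_c21)) :=
  Lgr Lrot42 (Lpr_df (K6.f141735 IH) (Lpn (LP (LK LD1_c6 LD2_c44 LD3_c21))))
theorem f82049 : Led Lsl_dt (LP (LK LD1_c4 LD2_c58 LD3_c21)) = (LP (LK LD1_c2 LD2_c27 LD3_c1)) :=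
  Lre_d IH (LK LD1_c4 LD2_c58 LD3_c21) (LK LD1_c2 LD2_c27 LD3_c1) Lrfl Lrfl
theorem f148930 : Led Lsl_ff (LP (LK LD1_c4 LD2_c25 LD3_c46)) = (LP (LK LD1_c2 LD2_c27 LD3_c1)) :=
  Lgr Lrot19 (Lpr_dt (f141750 IH) (Lpr_ft (f148924 IH) (Lpr_dt (f82049 IH) (Lpn (LP (LK LD1_c2 LD2_c27 LD3_c1))))))
theorem f141923 : Led Lsl_af (LP (LK LD1_c2 LD2_c14 LD3_c28)) = (LP (LK LD1_c4 LD2_c25 LD3_c46)) :=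
  Lgr Lrot117 (Lpe (K6.f130548 IH) (Lpr_at (K6.f141921 IH) (Lpe (K6.f141735 IH) (Lpn (LP (LK LD1_c4 LD2_c25 LD3_c46))))))
theorem f148936 : Led Lsl_gf (LP (LK LD1_c2 LD2_c14 LD3_c28)) = (LP (LK LD1_c1 LD2_c10 LD3_c48)) :=
  Lgr Lrot76 (Lpr_af (f141923 IH) (Lpr_ff (f148930 IH) (Lpr_gt (f82030 IH) (Lpn (LP (LK LD1_c1 LD2_c10 LD3_c48))))))
theorem f72257 : Led Lsl_bt (LP (LK LD1_c2 LD2_c15 LD3_c39)) = (LP (LK LD1_c1 LD2_c22 LD3_c38)) :=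
  Lgr Lrot127 (Lpr_bf (K2.f72255 IH) (Lpn (LP (LK LD1_c1 LD2_c22 LD3_c38))))
theorem f37863 : Led Lsl_at (LP (LK LD1_c1 LD2_c2 LD3_c13)) = (LP (LK LD1_c0 LD2_c28 LD3_c23)) :=
  Lre_a IH (LK LD1_c1 LD2_c2 LD3_c13) (LK LD1_c0 LD2_c28 LD3_c23) Lrfl Lrfl
theorem f36298 : Led Lsl_bt (LP (LK LD1_c0 LD2_c24 LD3_c39)) = (LP (LK LD1_c0 LD2_c54 LD3_c35)) :=
  Lre_b IH (LK LD1_c0 LD2_c24 LD3_c39) (LK LD1_c0 LD2_c54 LD3_c35) Lrfl Lrfl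
theorem f37864 : Led Lsl_at (LP (LK LD1_c0 LD2_c54 LD3_c35)) = (LP (LK LD1_c1 LD2_c55 LD3_c44)) :=
  Lre_a IH (LK LD1_c0 LD2_c54 LD3_c35) (LK LD1_c1 LD2_c55 LD3_c44) Lrfl Lrfl
theorem f37865 : Led Lsl_bf (LP (LK LD1_c1 LD2_c2 LD3_c13)) = (LP (LK LD1_c1 LD2_c55 LD3_c44)) :=
  Lgr Lrot81 (Lpr_at (f37863 IH) (Lpr_bt (K2.f37862 IH) (Lpr_at (K1.f37764 IH) (Lpr_bt (f36298 IH) (Lpr_at (f37864 IH) (Lpn (LP (LK LD1_c1 LD2_c55 LD3_c44))))))))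
theorem f99707 : Led Lsl_ft (LP (LK LD1_c1 LD2_c2 LD3_c12)) = (LP (LK LD1_c2 LD2_c10 LD3_c11)) :=
  Lre_f IH (LK LD1_c1 LD2_c2 LD3_c12) (LK LD1_c2 LD2_c10 LD3_c11) Lrfl Lrfl
theorem f138919 : Led Lsl_ct (LP (LK LD1_c2 LD2_c10 LD3_c11)) = (LP (LK LD1_c1 LD2_c10 LD3_c48)) :=
  Lgr Lrot40 (Lpe (f99707 IH) (Lpe (K6.f26591 IH) (Lpr_ff (K6.f138914 IH) (Lpn (LP (LK LD1_c1 LD2_c10 LD3_c48))))))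
theorem f148947 : Led Lsl_gt (LP (LK LD1_c1 LD2_c2 LD3_c13)) = (LP (LK LD1_c2 LD2_c10 LD3_c11)) :=
  Lgr Lrot82 (Lpr_bf (f37865 IH) (Lpr_ct (K4.f40090 IH) (Lpr_gf (K4.f99581 IH) (Lpe (K6.f72251 IH) (Lpe (K6.f101743 IH) (Lpr_gf (K2.f72405 IH) (Lpe (f72257 IH) (Lpr_ct (K5.f25394 IH) (Lpr_gf (f148936 IH) (Lpe (f138919 IH) (Lpn (LP (LK LD1_c2 LD2_c10 LD3_c11)))))))))))))
theorem f40091 : Led Lsl_ct (LP (LK LD1_c0 LD2_c29 LD3_c41)) = (LP (LK LD1_c1 LD2_c2 LD3_c13)) :=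
  Lre_c IH (LK LD1_c0 LD2_c29 LD3_c41) (LK LD1_c1 LD2_c2 LD3_c13) Lrfl Lrfl
theorem f142114 : Led Lsl_at (LP (LK LD1_c0 LD2_c29 LD3_c39)) = (LP (LK LD1_c1 LD2_c4 LD3_c50)) :=
  Lre_a IH (LK LD1_c0 LD2_c29 LD3_c39) (LK LD1_c1 LD2_c4 LD3_c50) Lrfl Lrfl
theorem f142115 : Led Lsl_ft (LP (LK LD1_c1 LD2_c4 LD3_c55)) = (LP (LK LD1_c0 LD2_c29 LD3_c39)) :=
  Lre_f IH (LK LD1_c1 LD2_c4 LD3_c55) (LK LD1_c0 LD2_c29 LD3_c39) Lrfl Lrfl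
theorem f142116 : Led Lsl_gt (LP (LK LD1_c1 LD2_c4 LD3_c55)) = (LP (LK LD1_c0 LD2_c29 LD3_c41)) :=
  Lgr Lrot5 (Lpr_ft (f142115 IH) (Lpr_at (f142114 IH) (Lpr_gf (K6.f141984 IH) (Lpn (LP (LK LD1_c0 LD2_c29 LD3_c41))))))
theorem f148965 : Led Lsl_bt (LP (LK LD1_c2 LD2_c15 LD3_c38)) = (LP (LK LD1_c1 LD2_c4 LD3_c55)) :=
  Lre_b IH (LK LD1_c2 LD2_c15 LD3_c38) (LK LD1_c1 LD2_c4 LD3_c55) Lrfl Lrfl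
theorem f138903 : Led Lsl_ft (LP (LK LD1_c2 LD2_c10 LD3_c11)) = (LP (LK LD1_c1 LD2_c2 LD3_c12)) :=
  Lre_f IH (LK LD1_c2 LD2_c10 LD3_c11) (LK LD1_c1 LD2_c2 LD3_c12) Lrfl Lrfl
theorem f138904 : Led Lsl_cf (LP (LK LD1_c2 LD2_c10 LD3_c11)) = (LP (LK LD1_c1 LD2_c10 LD3_c48)) :=
  Lgr Lrot108 (Lpr_ft (f138903 IH) (Lpr_ct (K6.f36009 IH) (Lpr_ft (K6.f138897 IH) (Lpn (LP (LK LD1_c1 LD2_c10 LD3_c48))))))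
theorem f16156 : Led Lsl_ct (LP (LK LD1_c4 LD2_c26 LD3_c37)) = (LP (LK LD1_c8 LD2_c50 LD3_c2)) :=
  Lre_c IH (LK LD1_c4 LD2_c26 LD3_c37) (LK LD1_c8 LD2_c50 LD3_c2) Lrfl Lrfl
theorem f40065 : Led Lsl_ft (LP (LK LD1_c3 LD2_c57 LD3_c57)) = (LP (LK LD1_c4 LD2_c26 LD3_c37)) :=
  Lgr Lrot4 (Lpe (K1.f40064 IH) (Lpr_ff (K1.f40058 IH) (Lpe (f16156 IH) (Lpn (LP (LK LD1_c4 LD2_c26 LD3_c37))))))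
theorem f100433 : Led Lsl_dt (LP (LK LD1_c4 LD2_c26 LD3_c37)) = (LP (LK LD1_c3 LD2_c3 LD3_c16)) :=
  Lgr Lrot60 (Lpe (f40065 IH) (Lpe (K1.f40080 IH) (Lpr_ff (K5.f100426 IH) (Lpn (LP (LK LD1_c3 LD2_c3 LD3_c16))))))
theorem f40023 : Led Lsl_ct (LP (LK LD1_c3 LD2_c57 LD3_c60)) = (LP (LK LD1_c1 LD2_c55 LD3_c45)) :=
  Lre_c IH (LK LD1_c3 LD2_c57 LD3_c60) (LK LD1_c1 LD2_c55 LD3_c45) Lrfl Lrfl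
theorem f100445 : Led Lsl_df (LP (LK LD1_c1 LD2_c38 LD3_c19)) = (LP (LK LD1_c1 LD2_c27 LD3_c38)) :=
  Lgr Lrot43 (Lpr_ct (K4.f40326 IH) (Lpr_dt (K0.f14392 IH) (Lpr_ct (K6.f40650 IH) (Lpr_dt (K6.f40045 IH) (Lpr_ct (f40023 IH) (Lpr_dt (K1.f35527 IH) (Lpr_ct (K1.f35526 IH) (Lpr_dt (K1.f40035 IH) (Lpr_ct (K1.f36232 IH) (Lpr_dt (K1.f40036 IH) (Lpr_ct (K1.f40037 IH) (Lpr_dt (K1.f40038 IH) (Lpr_ct (K0.f16137 IH) (Lpr_dt (f100433 IH) (Lpr_ct (K5.f100421 IH) (Lpn (LP (LK LD1_c1 LD2_c27 LD3_c38))))))))))))))))))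
theorem f40331 : Led Lsl_et (LP (LK LD1_c1 LD2_c38 LD3_c19)) = (LP (LK LD1_c3 LD2_c24 LD3_c3)) :=
  Lre_e IH (LK LD1_c1 LD2_c38 LD3_c19) (LK LD1_c3 LD2_c24 LD3_c3) Lrfl Lrfl
theorem f40689 : Led Lsl_dt (LP (LK LD1_c3 LD2_c24 LD3_c3)) = (LP (LK LD1_c6 LD2_c51 LD3_c5)) :=
  Lre_d IH (LK LD1_c3 LD2_c24 LD3_c3) (LK LD1_c6 LD2_c51 LD3_c5) Lrfl Lrfl
theorem f100451 : Led Lsl_et (LP (LK LD1_c3 LD2_c3 LD3_c27)) = (LP (LK LD1_c1 LD2_c27 LD3_c38)) :=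
  Lre_e IH (LK LD1_c3 LD2_c3 LD3_c27) (LK LD1_c1 LD2_c27 LD3_c38) Lrfl Lrfl
theorem f100452 : Led Lsl_dt (LP (LK LD1_c6 LD2_c13 LD3_c18)) = (LP (LK LD1_c3 LD2_c3 LD3_c27)) :=
  Lre_d IH (LK LD1_c6 LD2_c13 LD3_c18) (LK LD1_c3 LD2_c3 LD3_c27) Lrfl Lrfl
theorem f100453 : Led Lsl_et (LP (LK LD1_c6 LD2_c51 LD3_c5)) = (LP (LK LD1_c6 LD2_c13 LD3_c18)) :=
  Lgr Lrot71 (Lpe (f40689 IH) (Lpe (f40331 IH) (Lpr_df (f100445 IH) (Lpe (f100451 IH) (Lpe (f100452 IH) (Lpn (LP (LK LD1_c6 LD2_c13 LD3_c18))))))))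
theorem f100466 : Led Lsl_ef (LP (LK LD1_c6 LD2_c51 LD3_c5)) = (LP (LK LD1_c6 LD2_c13 LD3_c18)) :=
  Lgr Lrot88 (Lpr_et (f100453 IH) (Lpn (LP (LK LD1_c6 LD2_c13 LD3_c18))))
theorem f100475 : Led Lsl_bt (LP (LK LD1_c6 LD2_c51 LD3_c5)) = (LP (LK LD1_c9 LD2_c47 LD3_c20)) :=
  Lre_b IH (LK LD1_c6 LD2_c51 LD3_c5) (LK LD1_c9 LD2_c47 LD3_c20) Lrfl Lrfl
theorem f100476 : Led Lsl_et (LP (LK LD1_c9 LD2_c47 LD3_c20)) = (LP (LK LD1_c4 LD2_c58 LD3_c15)) :=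
  Lre_e IH (LK LD1_c9 LD2_c47 LD3_c20) (LK LD1_c4 LD2_c58 LD3_c15) Lrfl Lrfl
theorem f100477 : Led Lsl_bt (LP (LK LD1_c4 LD2_c58 LD3_c15)) = (LP (LK LD1_c6 LD2_c13 LD3_c18)) :=
  Lgr Lrot119 (Lpe (f100476 IH) (Lpe (f100475 IH) (Lpr_ef (f100466 IH) (Lpn (LP (LK LD1_c6 LD2_c13 LD3_c18))))))
theorem f100492 : Led Lsl_ft (LP (LK LD1_c9 LD2_c45 LD3_c12)) = (LP (LK LD1_c4 LD2_c58 LD3_c15)) :=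
  Lre_f IH (LK LD1_c9 LD2_c45 LD3_c12) (LK LD1_c4 LD2_c58 LD3_c15) Lrfl Lrfl
theorem f100468 : Led Lsl_ft (LP (LK LD1_c6 LD2_c13 LD3_c18)) = (LP (LK LD1_c12 LD2_c5 LD3_c30)) :=
  Lre_f IH (LK LD1_c6 LD2_c13 LD3_c18) (LK LD1_c12 LD2_c5 LD3_c30) Lrfl Lrfl
theorem f100493 : Led Lsl_bf (LP (LK LD1_c9 LD2_c45 LD3_c12)) = (LP (LK LD1_c12 LD2_c5 LD3_c30)) :=
  Lgr Lrot61 (Lpr_ft (f100492 IH) (Lpr_bt (f100477 IH) (Lpr_ft (f100468 IH) (Lpn (LP (LK LD1_c12 LD2_c5 LD3_c30))))))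
theorem f100508 : Led Lsl_et (LP (LK LD1_c9 LD2_c45 LD3_c12)) = (LP (LK LD1_c17 LD2_c54 LD3_c48)) :=
  Lre_e IH (LK LD1_c9 LD2_c45 LD3_c12) (LK LD1_c17 LD2_c54 LD3_c48) Lrfl Lrfl
theorem f100482 : Led Lsl_et (LP (LK LD1_c21 LD2_c11 LD3_c10)) = (LP (LK LD1_c12 LD2_c5 LD3_c30)) :=
  Lre_e IH (LK LD1_c21 LD2_c11 LD3_c10) (LK LD1_c12 LD2_c5 LD3_c30) Lrfl Lrfl
theorem f100509 : Led Lsl_bt (LP (LK LD1_c17 LD2_c54 LD3_c48)) = (LP (LK LD1_c21 LD2_c11 LD3_c10)) :=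
  Lgr Lrot119 (Lpe (f100508 IH) (Lpr_bf (f100493 IH) (Lpe (f100482 IH) (Lpn (LP (LK LD1_c21 LD2_c11 LD3_c10))))))
theorem f40216 : Led Lsl_dt (LP (LK LD1_c9 LD2_c45 LD3_c11)) = (LP (LK LD1_c17 LD2_c54 LD3_c48)) :=
  Lre_d IH (LK LD1_c9 LD2_c45 LD3_c11) (LK LD1_c17 LD2_c54 LD3_c48) Lrfl Lrfl
theorem f100524 : Led Lsl_df (LP (LK LD1_c15 LD2_c3 LD3_c50)) = (LP (LK LD1_c21 LD2_c11 LD3_c10)) :=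
  Lgr Lrot12 (Lpr_bt (K1.f40197 IH) (Lpr_dt (f40216 IH) (Lpr_bt (f100509 IH) (Lpn (LP (LK LD1_c21 LD2_c11 LD3_c10))))))
theorem f100532 : Led Lsl_et (LP (LK LD1_c15 LD2_c3 LD3_c50)) = (LP (LK LD1_c7 LD2_c59 LD3_c8)) :=
  Lre_e IH (LK LD1_c15 LD2_c3 LD3_c50) (LK LD1_c7 LD2_c59 LD3_c8) Lrfl Lrfl
theorem f100469 : Led Lsl_et (LP (LK LD1_c12 LD2_c5 LD3_c30)) = (LP (LK LD1_c21 LD2_c11 LD3_c10)) :=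
  Lre_e IH (LK LD1_c12 LD2_c5 LD3_c30) (LK LD1_c21 LD2_c11 LD3_c10) Lrfl Lrfl
theorem f100505 : Led Lsl_dt (LP (LK LD1_c6 LD2_c13 LD3_c19)) = (LP (LK LD1_c12 LD2_c5 LD3_c30)) :=
  Lre_d IH (LK LD1_c6 LD2_c13 LD3_c19) (LK LD1_c12 LD2_c5 LD3_c30) Lrfl Lrfl
theorem f100533 : Led Lsl_et (LP (LK LD1_c3 LD2_c58 LD3_c56)) = (LP (LK LD1_c6 LD2_c13 LD3_c19)) :=
  Lgr Lrot71 (Lpe (K1.f40171 IH) (Lpe (f100532 IH) (Lpr_df (f100524 IH) (Lpe (f100469 IH) (Lpe (f100505 IH) (Lpn (LP (LK LD1_c6 LD2_c13 LD3_c19))))))))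
theorem f40166 : Led Lsl_bf (LP (LK LD1_c3 LD2_c58 LD3_c56)) = (LP (LK LD1_c2 LD2_c26 LD3_c27)) :=
  Lgr Lrot24 (Lpr_bt (K1.f40154 IH) (Lpn (LP (LK LD1_c2 LD2_c26 LD3_c27))))
theorem f100545 : Led Lsl_et (LP (LK LD1_c4 LD2_c57 LD3_c2)) = (LP (LK LD1_c2 LD2_c26 LD3_c27)) :=
  Lre_e IH (LK LD1_c4 LD2_c57 LD3_c2) (LK LD1_c2 LD2_c26 LD3_c27) Lrfl Lrfl
theorem f100546 : Led Lsl_bf (LP (LK LD1_c4 LD2_c57 LD3_c2)) = (LP (LK LD1_c6 LD2_c13 LD3_c19)) :=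
  Lgr Lrot96 (Lpr_et (f100545 IH) (Lpe (f40166 IH) (Lpr_et (f100533 IH) (Lpn (LP (LK LD1_c6 LD2_c13 LD3_c19))))))
theorem f100573 : Led Lsl_ft (LP (LK LD1_c4 LD2_c57 LD3_c2)) = (LP (LK LD1_c2 LD2_c26 LD3_c59)) :=
  Lre_f IH (LK LD1_c4 LD2_c57 LD3_c2) (LK LD1_c2 LD2_c26 LD3_c59) Lrfl Lrfl
theorem f100559 : Led Lsl_ft (LP (LK LD1_c3 LD2_c3 LD3_c27)) = (LP (LK LD1_c6 LD2_c13 LD3_c19)) :=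
  Lre_f IH (LK LD1_c3 LD2_c3 LD3_c27) (LK LD1_c6 LD2_c13 LD3_c19) Lrfl Lrfl
theorem f100574 : Led Lsl_bt (LP (LK LD1_c2 LD2_c26 LD3_c59)) = (LP (LK LD1_c3 LD2_c3 LD3_c27)) :=
  Lgr Lrot35 (Lpe (f100573 IH) (Lpr_bf (f100546 IH) (Lpe (f100559 IH) (Lpn (LP (LK LD1_c3 LD2_c3 LD3_c27))))))
theorem f75510 : Led Lsl_et (LP (LK LD1_c1 LD2_c10 LD3_c46)) = (LP (LK LD1_c2 LD2_c26 LD3_c59)) :=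
  Lre_e IH (LK LD1_c1 LD2_c10 LD3_c46) (LK LD1_c2 LD2_c26 LD3_c59) Lrfl Lrfl
theorem f100585 : Led Lsl_bf (LP (LK LD1_c1 LD2_c10 LD3_c46)) = (LP (LK LD1_c1 LD2_c27 LD3_c38)) :=
  Lgr Lrot96 (Lpr_et (f75510 IH) (Lpr_bt (f100574 IH) (Lpr_et (f100451 IH) (Lpn (LP (LK LD1_c1 LD2_c27 LD3_c38))))))
theorem f148966 : Led Lsl_ct (LP (LK LD1_c2 LD2_c15 LD3_c38)) = (LP (LK LD1_c1 LD2_c55 LD3_c43)) :=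
  Lgr Lrot10 (Lpr_bt (f148965 IH) (Lpr_gt (f142116 IH) (Lpr_ct (f40091 IH) (Lpr_gt (f148947 IH) (Lpr_cf (f138904 IH) (Lpr_bt (K6.f77580 IH) (Lpr_gt (K2.f72520 IH) (Lpr_bf (f100585 IH) (Lpr_ct (K5.f100432 IH) (Lpe (K5.f100435 IH) (Lpn (LP (LK LD1_c1 LD2_c55 LD3_c43)))))))))))))
theorem f8372 : Led Lsl_bt (LP (LK LD1_c1 LD2_c21 LD3_c54)) = (LP (LK LD1_c2 LD2_c51 LD3_c42)) :=
  Lre_b IH (LK LD1_c1 LD2_c21 LD3_c54) (LK LD1_c2 LD2_c51 LD3_c42) Lrfl Lrfl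
theorem f148986 : Led Lsl_gf (LP (LK LD1_c2 LD2_c15 LD3_c38)) = (LP (LK LD1_c2 LD2_c51 LD3_c42)) :=
  Lgr Lrot181 (Lpr_ct (f148966 IH) (Lpr_gt (K5.f35531 IH) (Lpe (K1.f35530 IH) (Lpr_bt (K1.f35525 IH) (Lpe (K0.f35518 IH) (Lpe (K6.f8339 IH) (Lpr_ct (K6.f8340 IH) (Lpr_gt (K6.f8320 IH) (Lpe (K6.f8371 IH) (Lpr_bt (f8372 IH) (Lpn (LP (LK LD1_c2 LD2_c51 LD3_c42)))))))))))))
theorem f142133 : Led Lsl_bt (LP (LK LD1_c1 LD2_c4 LD3_c55)) = (LP (LK LD1_c2 LD2_c15 LD3_c38)) :=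
  Lre_b IH (LK LD1_c1 LD2_c4 LD3_c55) (LK LD1_c2 LD2_c15 LD3_c38) Lrfl Lrfl
theorem f8370 : Led Lsl_ct (LP (LK LD1_c1 LD2_c21 LD3_c56)) = (LP (LK LD1_c2 LD2_c51 LD3_c46)) :=
  Lre_c IH (LK LD1_c1 LD2_c21 LD3_c56) (LK LD1_c2 LD2_c51 LD3_c46) Lrfl Lrfl
theorem f148994 : Led Lsl_gt (LP (LK LD1_c2 LD2_c15 LD3_c44)) = (LP (LK LD1_c2 LD2_c51 LD3_c46)) :=
  Lgr Lrot65 (Lpe (K6.f141247 IH) (Lpr_bt (f142133 IH) (Lpr_gf (f148986 IH) (Lpe (f8372 IH) (Lpr_ct (K6.f8371 IH) (Lpe (K6.f8320 IH) (Lpe (K6.f8340 IH) (Lpe (K6.f8361 IH) (Lpe (K6.f8369 IH) (Lpr_ct (f8370 IH) (Lpn (LP (LK LD1_c2 LD2_c51 LD3_c46)))))))))))))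
theorem f149000 : Led Lsl_ft (LP (LK LD1_c2 LD2_c15 LD3_c44)) = (LP (LK LD1_c1 LD2_c4 LD3_c52)) :=
  Lre_f IH (LK LD1_c2 LD2_c15 LD3_c44) (LK LD1_c1 LD2_c4 LD3_c52) Lrfl Lrfl
theorem f142149 : Led Lsl_at (LP (LK LD1_c1 LD2_c4 LD3_c52)) = (LP (LK LD1_c2 LD2_c15 LD3_c31)) :=
  Lre_a IH (LK LD1_c1 LD2_c4 LD3_c52) (LK LD1_c2 LD2_c15 LD3_c31) Lrfl Lrfl
theorem f149001 : Led Lsl_gf (LP (LK LD1_c2 LD2_c15 LD3_c31)) = (LP (LK LD1_c2 LD2_c51 LD3_c46)) :=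
  Lgr Lrot76 (Lpe (f142149 IH) (Lpe (f149000 IH) (Lpr_gt (f148994 IH) (Lpn (LP (LK LD1_c2 LD2_c51 LD3_c46))))))
theorem f141258 : Led Lsl_dt (LP (LK LD1_c2 LD2_c15 LD3_c31)) = (LP (LK LD1_c4 LD2_c36 LD3_c38)) :=
  Lre_d IH (LK LD1_c2 LD2_c15 LD3_c31) (LK LD1_c4 LD2_c36 LD3_c38) Lrfl Lrfl
theorem f141256 : Led Lsl_dt (LP (LK LD1_c2 LD2_c15 LD3_c32)) = (LP (LK LD1_c1 LD2_c4 LD3_c50)) :=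
  Lre_d IH (LK LD1_c2 LD2_c15 LD3_c32) (LK LD1_c1 LD2_c4 LD3_c50) Lrfl Lrfl
theorem f141257 : Led Lsl_ct (LP (LK LD1_c1 LD2_c4 LD3_c50)) = (LP (LK LD1_c2 LD2_c15 LD3_c31)) :=
  Lre_c IH (LK LD1_c1 LD2_c4 LD3_c50) (LK LD1_c2 LD2_c15 LD3_c31) Lrfl Lrfl
theorem f141259 : Led Lsl_cf (LP (LK LD1_c7 LD2_c26 LD3_c44)) = (LP (LK LD1_c4 LD2_c36 LD3_c38)) :=
  Lgr Lrot55 (Lpr_dt (K6.f139589 IH) (Lpr_ct (K6.f128948 IH) (Lpr_dt (K6.f141250 IH) (Lpr_ct (K6.f141249 IH) (Lpr_dt (K6.f141248 IH) (Lpr_ct (K6.f141247 IH) (Lpr_dt (K6.f141246 IH) (Lpr_ct (K6.f141245 IH) (Lpe (K6.f141182 IH) (Lpr_ct (K6.f141206 IH) (Lpr_dt (K6.f141254 IH) (Lpr_ct (K6.f141255 IH) (Lpr_dt (f141256 IH) (Lpr_ct (f141257 IH) (Lpr_dt (f141258 IH) (Lpn (LP (LK LD1_c4 LD2_c36 LD3_c38))))))))))))))))))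
theorem f129163 : Led Lsl_bt (LP (LK LD1_c7 LD2_c26 LD3_c44)) = (LP (LK LD1_c3 LD2_c42 LD3_c61)) :=
  Lre_b IH (LK LD1_c7 LD2_c26 LD3_c44) (LK LD1_c3 LD2_c42 LD3_c61) Lrfl Lrfl
theorem f104776 : Led Lsl_dt (LP (LK LD1_c2 LD2_c15 LD3_c6)) = (LP (LK LD1_c1 LD2_c4 LD3_c40)) :=
  Lre_d IH (LK LD1_c2 LD2_c15 LD3_c6) (LK LD1_c1 LD2_c4 LD3_c40) Lrfl Lrfl
theorem f104777 : Led Lsl_ct (LP (LK LD1_c1 LD2_c4 LD3_c40)) = (LP (LK LD1_c2 LD2_c15 LD3_c5)) :=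
  Lre_c IH (LK LD1_c1 LD2_c4 LD3_c40) (LK LD1_c2 LD2_c15 LD3_c5) Lrfl Lrfl
theorem f149009 : Led Lsl_bt (LP (LK LD1_c2 LD2_c15 LD3_c5)) = (LP (LK LD1_c2 LD2_c51 LD3_c46)) :=
  Lgr Lrot178 (Lpe (f104777 IH) (Lpe (f104776 IH) (Lpr_gf (K4.f104727 IH) (Lpe (K4.f26002 IH) (Lpe (K1.f60927 IH) (Lpe (K0.f25728 IH) (Lpe (K1.f20967 IH) (Lpe (K2.f20968 IH) (Lpr_cf (K2.f61211 IH) (Lpe (K2.f76431 IH) (Lpr_gf (K4.f79381 IH) (Lpr_bf (K4.f124195 IH) (Lpe (K4.f107289 IH) (Lpe (K5.f124218 IH) (Lpe (K5.f125676 IH) (Lpe (f129163 IH) (Lpr_cf (f141259 IH) (Lpe (f141258 IH) (Lpr_gf (f149001 IH) (Lpn (LP (LK LD1_c2 LD2_c51 LD3_c46))))))))))))))))))))))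
theorem f141949 : Led Lsl_ff (LP (LK LD1_c2 LD2_c15 LD3_c39)) = (LP (LK LD1_c2 LD2_c51 LD3_c46)) :=
  Lgr Lrot23 (Lpr_ct (K5.f25394 IH) (Lpr_ft (K6.f141945 IH) (Lpr_ct (f8370 IH) (Lpn (LP (LK LD1_c2 LD2_c51 LD3_c46))))))
theorem f149017 : Led Lsl_ff (LP (LK LD1_c2 LD2_c15 LD3_c5)) = (LP (LK LD1_c1 LD2_c22 LD3_c38)) :=
  Lgr Lrot25 (Lpr_bt (f149009 IH) (Lpe (f141949 IH) (Lpr_bt (f72257 IH) (Lpn (LP (LK LD1_c1 LD2_c22 LD3_c38))))))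
theorem f149026 : Led Lsl_at (LP (LK LD1_c2 LD2_c15 LD3_c5)) = (LP (LK LD1_c1 LD2_c22 LD3_c42)) :=
  Lgr Lrot26 (Lpr_ff (f149017 IH) (Lpe (K2.f72405 IH) (Lpr_gt (K6.f101748 IH) (Lpn (LP (LK LD1_c1 LD2_c22 LD3_c42))))))
theorem f149030 : Led Lsl_af (LP (LK LD1_c1 LD2_c4 LD3_c40)) = (LP (LK LD1_c0 LD2_c38 LD3_c19)) :=
  Lgr Lrot68 (Lpr_ct (f104777 IH) (Lpr_at (f149026 IH) (Lpr_ct (K6.f72248 IH) (Lpn (LP (LK LD1_c0 LD2_c38 LD3_c19))))))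
theorem f35551 : Led Lsl_ct (LP (LK LD1_c2 LD2_c15 LD3_c5)) = (LP (LK LD1_c1 LD2_c4 LD3_c40)) :=
  Lre_c IH (LK LD1_c2 LD2_c15 LD3_c5) (LK LD1_c1 LD2_c4 LD3_c40) Lrfl Lrfl
theorem f104778 : Led Lsl_dt (LP (LK LD1_c4 LD2_c35 LD3_c48)) = (LP (LK LD1_c2 LD2_c15 LD3_c5)) :=
  Lre_d IH (LK LD1_c4 LD2_c35 LD3_c48) (LK LD1_c2 LD2_c15 LD3_c5) Lrfl Lrfl
theorem f149042 : Led Lsl_ct (LP (LK LD1_c9 LD2_c7 LD3_c60)) = (LP (LK LD1_c4 LD2_c35 LD3_c48)) :=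
  Lre_c IH (LK LD1_c9 LD2_c7 LD3_c60) (LK LD1_c4 LD2_c35 LD3_c48) Lrfl Lrfl
theorem f149032 : Led Lsl_af (LP (LK LD1_c4 LD2_c35 LD3_c48)) = (LP (LK LD1_c2 LD2_c53 LD3_c13)) :=
  Lgr Lrot117 (Lpr_dt (f104778 IH) (Lpr_at (f149026 IH) (Lpr_dt (K6.f81849 IH) (Lpn (LP (LK LD1_c2 LD2_c53 LD3_c13))))))
theorem f149039 : Led Lsl_et (LP (LK LD1_c4 LD2_c35 LD3_c48)) = (LP (LK LD1_c9 LD2_c7 LD3_c61)) :=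
  Lre_e IH (LK LD1_c4 LD2_c35 LD3_c48) (LK LD1_c9 LD2_c7 LD3_c61) Lrfl Lrfl
theorem f149040 : Led Lsl_at (LP (LK LD1_c9 LD2_c7 LD3_c61)) = (LP (LK LD1_c5 LD2_c53 LD3_c45)) :=
  Lgr Lrot80 (Lpe (f149039 IH) (Lpr_af (f149032 IH) (Lpe (K6.f137517 IH) (Lpn (LP (LK LD1_c5 LD2_c53 LD3_c45))))))
theorem f149045 : Led Lsl_ct (LP (LK LD1_c17 LD2_c0 LD3_c19)) = (LP (LK LD1_c9 LD2_c7 LD3_c61)) :=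
  Lre_c IH (LK LD1_c17 LD2_c0 LD3_c19) (LK LD1_c9 LD2_c7 LD3_c61) Lrfl Lrfl
theorem f149046 : Led Lsl_af (LP (LK LD1_c17 LD2_c0 LD3_c19)) = (LP (LK LD1_c11 LD2_c33 LD3_c24)) :=
  Lgr Lrot68 (Lpr_ct (f149045 IH) (Lpr_at (f149040 IH) (Lpr_ct (K6.f104580 IH) (Lpn (LP (LK LD1_c11 LD2_c33 LD3_c24))))))
theorem f149068 : Led Lsl_at (LP (LK LD1_c17 LD2_c0 LD3_c19)) = (LP (LK LD1_c11 LD2_c33 LD3_c24)) :=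
  Lgr Lrot100 (Lpr_af (f149046 IH) (Lpn (LP (LK LD1_c11 LD2_c33 LD3_c24))))
theorem f149072 : Led Lsl_et (LP (LK LD1_c9 LD2_c7 LD3_c60)) = (LP (LK LD1_c17 LD2_c0 LD3_c19)) :=
  Lre_e IH (LK LD1_c9 LD2_c7 LD3_c60) (LK LD1_c17 LD2_c0 LD3_c19) Lrfl Lrfl
theorem f149073 : Led Lsl_af (LP (LK LD1_c9 LD2_c7 LD3_c60)) = (LP (LK LD1_c5 LD2_c53 LD3_c44)) :=
  Lgr Lrot50 (Lpr_et (f149072 IH) (Lpr_at (f149068 IH) (Lpr_et (K6.f104353 IH) (Lpn (LP (LK LD1_c5 LD2_c53 LD3_c44))))))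
theorem f149036 : Led Lsl_ct (LP (LK LD1_c4 LD2_c35 LD3_c48)) = (LP (LK LD1_c9 LD2_c7 LD3_c60)) :=
  Lre_c IH (LK LD1_c4 LD2_c35 LD3_c48) (LK LD1_c9 LD2_c7 LD3_c60) Lrfl Lrfl
theorem f149021 : Led Lsl_dt (LP (LK LD1_c2 LD2_c15 LD3_c5)) = (LP (LK LD1_c4 LD2_c35 LD3_c48)) :=
  Lre_d IH (LK LD1_c2 LD2_c15 LD3_c5) (LK LD1_c4 LD2_c35 LD3_c48) Lrfl Lrfl
theorem f102344 : Led Lsl_dt (LP (LK LD1_c4 LD2_c44 LD3_c49)) = (LP (LK LD1_c2 LD2_c20 LD3_c32)) :=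
  Lre_d IH (LK LD1_c4 LD2_c44 LD3_c49) (LK LD1_c2 LD2_c20 LD3_c32) Lrfl Lrfl
theorem f149081 : Led Lsl_df (LP (LK LD1_c4 LD2_c35 LD3_c49)) = (LP (LK LD1_c4 LD2_c44 LD3_c32)) :=
  Lgr Lrot106 (Lpr_ct (K4.f40642 IH) (Lpr_dt (f104776 IH) (Lpr_ct (f104777 IH) (Lpr_dt (f149021 IH) (Lpr_ct (f149036 IH) (Lpr_af (f149073 IH) (Lpr_ff (K6.f104356 IH) (Lpr_dt (f102344 IH) (Lpr_ct (K6.f102343 IH) (Lpn (LP (LK LD1_c4 LD2_c44 LD3_c32))))))))))))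
theorem f149085 : Led Lsl_dt (LP (LK LD1_c4 LD2_c35 LD3_c49)) = (LP (LK LD1_c4 LD2_c44 LD3_c32)) :=
  Lgr Lrot42 (Lpr_df (f149081 IH) (Lpn (LP (LK LD1_c4 LD2_c44 LD3_c32))))
theorem f94800 : Led Lsl_at (LP (LK LD1_c4 LD2_c40 LD3_c24)) = (LP (LK LD1_c9 LD2_c16 LD3_c11)) :=
  Lre_a IH (LK LD1_c4 LD2_c40 LD3_c24) (LK LD1_c9 LD2_c16 LD3_c11) Lrfl Lrfl
theorem f102914 : Led Lsl_ft (LP (LK LD1_c9 LD2_c16 LD3_c11)) = (LP (LK LD1_c4 LD2_c44 LD3_c48)) :=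
  Lgr Lrot101 (Lpe (f94800 IH) (Lpr_ff (K3.f102910 IH) (Lpe (K6.f102913 IH) (Lpn (LP (LK LD1_c4 LD2_c44 LD3_c48))))))
theorem f149161 : Led Lsl_df (LP (LK LD1_c9 LD2_c7 LD3_c60)) = (LP (LK LD1_c9 LD2_c16 LD3_c11)) :=
  Lgr Lrot157 (Lpr_ct (f149042 IH) (Lpr_dt (f104778 IH) (Lpr_ct (f35551 IH) (Lpr_dt (K4.f34733 IH) (Lpr_ct (K4.f34734 IH) (Lpr_dt (f149085 IH) (Lpr_ct (K3.f102345 IH) (Lpe (K6.f102913 IH) (Lpe (f102914 IH) (Lpn (LP (LK LD1_c9 LD2_c16 LD3_c11))))))))))))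
theorem f94791 : Led Lsl_at (LP (LK LD1_c9 LD2_c16 LD3_c11)) = (LP (LK LD1_c4 LD2_c40 LD3_c24)) :=
  Lre_a IH (LK LD1_c9 LD2_c16 LD3_c11) (LK LD1_c4 LD2_c40 LD3_c24) Lrfl Lrfl
theorem f94792 : Led Lsl_at (LP (LK LD1_c3 LD2_c26 LD3_c0)) = (LP (LK LD1_c6 LD2_c53 LD3_c56)) :=
  Lre_a IH (LK LD1_c3 LD2_c26 LD3_c0) (LK LD1_c6 LD2_c53 LD3_c56) Lrfl Lrfl
theorem f94793 : Led Lsl_cf (LP (LK LD1_c9 LD2_c16 LD3_c11)) = (LP (LK LD1_c6 LD2_c53 LD3_c56)) :=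
  Lgr Lrot1 (Lpr_at (f94791 IH) (Lpr_ct (K3.f94788 IH) (Lpr_at (f94792 IH) (Lpn (LP (LK LD1_c6 LD2_c53 LD3_c56))))))
theorem f37767 : Led Lsl_gt (LP (LK LD1_c1 LD2_c4 LD3_c41)) = (LP (LK LD1_c0 LD2_c29 LD3_c36)) :=
  Lre_g IH (LK LD1_c1 LD2_c4 LD3_c41) (LK LD1_c0 LD2_c29 LD3_c36) Lrfl Lrfl
theorem f149290 : Led Lsl_ft (LP (LK LD1_c1 LD2_c4 LD3_c41)) = (LP (LK LD1_c0 LD2_c38 LD3_c19)) :=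
  Lgr Lrot2 (Lpr_gt (f37767 IH) (Lpr_gt (K4.f34732 IH) (Lpr_af (f149030 IH) (Lpn (LP (LK LD1_c0 LD2_c38 LD3_c19))))))
theorem f37814 : Led Lsl_dt (LP (LK LD1_c1 LD2_c4 LD3_c41)) = (LP (LK LD1_c2 LD2_c15 LD3_c9)) :=
  Lre_d IH (LK LD1_c1 LD2_c4 LD3_c41) (LK LD1_c2 LD2_c15 LD3_c9) Lrfl Lrfl
theorem f71122 : Led Lsl_ct (LP (LK LD1_c2 LD2_c15 LD3_c9)) = (LP (LK LD1_c4 LD2_c35 LD3_c56)) :=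
  Lre_c IH (LK LD1_c2 LD2_c15 LD3_c9) (LK LD1_c4 LD2_c35 LD3_c56) Lrfl Lrfl
theorem f149292 : Led Lsl_df (LP (LK LD1_c6 LD2_c53 LD3_c56)) = (LP (LK LD1_c4 LD2_c35 LD3_c56)) :=
  Lgr Lrot106 (Lpe (f94793 IH) (Lpe (f149161 IH) (Lpr_ct (f149042 IH) (Lpr_dt (f104778 IH) (Lpr_ct (f35551 IH) (Lpr_af (f149030 IH) (Lpe (f149290 IH) (Lpr_dt (f37814 IH) (Lpr_ct (f71122 IH) (Lpn (LP (LK LD1_c4 LD2_c35 LD3_c56))))))))))))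
theorem f149090 : Led Lsl_ft (LP (LK LD1_c4 LD2_c35 LD3_c49)) = (LP (LK LD1_c2 LD2_c53 LD3_c7)) :=
  Lgr Lrot54 (Lpr_df (f149081 IH) (Lpe (K3.f102908 IH) (Lpe (K6.f94771 IH) (Lpn (LP (LK LD1_c2 LD2_c53 LD3_c7))))))
theorem f149097 : Led Lsl_ff (LP (LK LD1_c4 LD2_c35 LD3_c49)) = (LP (LK LD1_c2 LD2_c53 LD3_c7)) :=
  Lgr Lrot3 (Lpr_ft (f149090 IH) (Lpn (LP (LK LD1_c2 LD2_c53 LD3_c7))))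
theorem f149099 : Led Lsl_ft (LP (LK LD1_c2 LD2_c15 LD3_c6)) = (LP (LK LD1_c1 LD2_c22 LD3_c39)) :=
  Lgr Lrot4 (Lpe (K4.f40642 IH) (Lpr_ff (f149097 IH) (Lpe (K5.f37957 IH) (Lpn (LP (LK LD1_c1 LD2_c22 LD3_c39))))))
theorem f149101 : Led Lsl_ff (LP (LK LD1_c1 LD2_c4 LD3_c40)) = (LP (LK LD1_c0 LD2_c38 LD3_c18)) :=
  Lgr Lrot19 (Lpr_dt (K4.f34733 IH) (Lpr_ft (f149099 IH) (Lpr_dt (K6.f71209 IH) (Lpn (LP (LK LD1_c0 LD2_c38 LD3_c18))))))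
theorem f149103 : Led Lsl_at (LP (LK LD1_c1 LD2_c4 LD3_c40)) = (LP (LK LD1_c0 LD2_c38 LD3_c19)) :=
  Lgr Lrot26 (Lpr_ff (f149101 IH) (Lpe (K6.f71206 IH) (Lpr_gt (K6.f81844 IH) (Lpn (LP (LK LD1_c0 LD2_c38 LD3_c19))))))
theorem f149105 : Led Lsl_af (LP (LK LD1_c2 LD2_c15 LD3_c6)) = (LP (LK LD1_c1 LD2_c22 LD3_c43)) :=
  Lgr Lrot117 (Lpr_dt (f104776 IH) (Lpr_at (f149103 IH) (Lpr_dt (K6.f79353 IH) (Lpn (LP (LK LD1_c1 LD2_c22 LD3_c43))))))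
theorem f138486 : Led Lsl_et (LP (LK LD1_c2 LD2_c15 LD3_c6)) = (LP (LK LD1_c4 LD2_c35 LD3_c50)) :=
  Lre_e IH (LK LD1_c2 LD2_c15 LD3_c6) (LK LD1_c4 LD2_c35 LD3_c50) Lrfl Lrfl
theorem f149109 : Led Lsl_et (LP (LK LD1_c2 LD2_c53 LD3_c15)) = (LP (LK LD1_c1 LD2_c22 LD3_c43)) :=
  Lre_e IH (LK LD1_c2 LD2_c53 LD3_c15) (LK LD1_c1 LD2_c22 LD3_c43) Lrfl Lrfl
theorem f149110 : Led Lsl_at (LP (LK LD1_c4 LD2_c35 LD3_c50)) = (LP (LK LD1_c2 LD2_c53 LD3_c15)) :=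
  Lgr Lrot80 (Lpe (f138486 IH) (Lpr_af (f149105 IH) (Lpe (f149109 IH) (Lpn (LP (LK LD1_c2 LD2_c53 LD3_c15))))))
theorem f149115 : Led Lsl_ct (LP (LK LD1_c9 LD2_c8 LD3_c2)) = (LP (LK LD1_c4 LD2_c35 LD3_c50)) :=
  Lre_c IH (LK LD1_c9 LD2_c8 LD3_c2) (LK LD1_c4 LD2_c35 LD3_c50) Lrfl Lrfl
theorem f149116 : Led Lsl_ct (LP (LK LD1_c2 LD2_c53 LD3_c15)) = (LP (LK LD1_c5 LD2_c53 LD3_c48)) :=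
  Lre_c IH (LK LD1_c2 LD2_c53 LD3_c15) (LK LD1_c5 LD2_c53 LD3_c48) Lrfl Lrfl
theorem f149117 : Led Lsl_af (LP (LK LD1_c9 LD2_c8 LD3_c2)) = (LP (LK LD1_c5 LD2_c53 LD3_c48)) :=
  Lgr Lrot68 (Lpr_ct (f149115 IH) (Lpr_at (f149110 IH) (Lpr_ct (f149116 IH) (Lpn (LP (LK LD1_c5 LD2_c53 LD3_c48))))))
theorem f149120 : Led Lsl_at (LP (LK LD1_c9 LD2_c8 LD3_c2)) = (LP (LK LD1_c5 LD2_c53 LD3_c48)) :=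
  Lgr Lrot100 (Lpr_af (f149117 IH) (Lpn (LP (LK LD1_c5 LD2_c53 LD3_c48))))
theorem f149087 : Led Lsl_et (LP (LK LD1_c4 LD2_c35 LD3_c49)) = (LP (LK LD1_c9 LD2_c8 LD3_c2)) :=
  Lre_e IH (LK LD1_c4 LD2_c35 LD3_c49) (LK LD1_c9 LD2_c8 LD3_c2) Lrfl Lrfl
theorem f79362 : Led Lsl_et (LP (LK LD1_c5 LD2_c53 LD3_c48)) = (LP (LK LD1_c2 LD2_c53 LD3_c14)) :=
  Lre_e IH (LK LD1_c5 LD2_c53 LD3_c48) (LK LD1_c2 LD2_c53 LD3_c14) Lrfl Lrfl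
theorem f149124 : Led Lsl_af (LP (LK LD1_c4 LD2_c35 LD3_c49)) = (LP (LK LD1_c2 LD2_c53 LD3_c14)) :=
  Lgr Lrot50 (Lpr_et (f149087 IH) (Lpr_at (f149120 IH) (Lpr_et (f79362 IH) (Lpn (LP (LK LD1_c2 LD2_c53 LD3_c14))))))
theorem f149306 : Led Lsl_ff (LP (LK LD1_c2 LD2_c53 LD3_c14)) = (LP (LK LD1_c4 LD2_c35 LD3_c56)) :=
  Lgr Lrot103 (Lpe (f149124 IH) (Lpe (K4.f34734 IH) (Lpe (K4.f34733 IH) (Lpe (f35551 IH) (Lpe (f104778 IH) (Lpe (f149042 IH) (Lpr_df (f149161 IH) (Lpr_cf (f94793 IH) (Lpr_df (f149292 IH) (Lpn (LP (LK LD1_c4 LD2_c35 LD3_c56))))))))))))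
theorem f149313 : Led Lsl_ft (LP (LK LD1_c1 LD2_c22 LD3_c43)) = (LP (LK LD1_c2 LD2_c15 LD3_c9)) :=
  Lgr Lrot4 (Lpe (K6.f69188 IH) (Lpr_ff (f149306 IH) (Lpe (f71122 IH) (Lpn (LP (LK LD1_c2 LD2_c15 LD3_c9))))))
theorem f149322 : Led Lsl_ff (LP (LK LD1_c1 LD2_c22 LD3_c43)) = (LP (LK LD1_c2 LD2_c15 LD3_c9)) :=
  Lgr Lrot3 (Lpr_ft (f149313 IH) (Lpn (LP (LK LD1_c2 LD2_c15 LD3_c9))))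
theorem f37816 : Led Lsl_dt (LP (LK LD1_c2 LD2_c15 LD3_c9)) = (LP (LK LD1_c1 LD2_c4 LD3_c41)) :=
  Lre_d IH (LK LD1_c2 LD2_c15 LD3_c9) (LK LD1_c1 LD2_c4 LD3_c41) Lrfl Lrfl
theorem f37820 : Led Lsl_ct (LP (LK LD1_c1 LD2_c4 LD3_c41)) = (LP (LK LD1_c2 LD2_c15 LD3_c8)) :=
  Lre_c IH (LK LD1_c1 LD2_c4 LD3_c41) (LK LD1_c2 LD2_c15 LD3_c8) Lrfl Lrfl
theorem f37811 : Led Lsl_dt (LP (LK LD1_c2 LD2_c15 LD3_c8)) = (LP (LK LD1_c4 LD2_c35 LD3_c54)) :=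
  Lre_d IH (LK LD1_c2 LD2_c15 LD3_c8) (LK LD1_c4 LD2_c35 LD3_c54) Lrfl Lrfl
theorem f149334 : Led Lsl_cf (LP (LK LD1_c4 LD2_c44 LD3_c49)) = (LP (LK LD1_c4 LD2_c35 LD3_c54)) :=
  Lgr Lrot116 (Lpr_dt (f102344 IH) (Lpr_ct (K6.f102343 IH) (Lpe (f149081 IH) (Lpr_ct (K4.f40642 IH) (Lpr_af (f149105 IH) (Lpr_ff (f149322 IH) (Lpr_dt (f37816 IH) (Lpr_ct (f37820 IH) (Lpr_dt (f37811 IH) (Lpn (LP (LK LD1_c4 LD2_c35 LD3_c54))))))))))))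
theorem f102960 : Led Lsl_bt (LP (LK LD1_c4 LD2_c44 LD3_c49)) = (LP (LK LD1_c2 LD2_c20 LD3_c33)) :=
  Lre_b IH (LK LD1_c4 LD2_c44 LD3_c49) (LK LD1_c2 LD2_c20 LD3_c33) Lrfl Lrfl
theorem f35550 : Led Lsl_ct (LP (LK LD1_c1 LD2_c4 LD3_c43)) = (LP (LK LD1_c0 LD2_c29 LD3_c36)) :=
  Lre_c IH (LK LD1_c1 LD2_c4 LD3_c43) (LK LD1_c0 LD2_c29 LD3_c36) Lrfl Lrfl
theorem f37768 : Led Lsl_ct (LP (LK LD1_c2 LD2_c15 LD3_c8)) = (LP (LK LD1_c1 LD2_c4 LD3_c41)) :=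
  Lre_c IH (LK LD1_c2 LD2_c15 LD3_c8) (LK LD1_c1 LD2_c4 LD3_c41) Lrfl Lrfl
theorem f37041 : Led Lsl_bt (LP (LK LD1_c0 LD2_c54 LD3_c35)) = (LP (LK LD1_c0 LD2_c24 LD3_c39)) :=
  Lre_b IH (LK LD1_c0 LD2_c54 LD3_c35) (LK LD1_c0 LD2_c24 LD3_c39) Lrfl Lrfl
theorem f37772 : Led Lsl_ct (LP (LK LD1_c1 LD2_c56 LD3_c23)) = (LP (LK LD1_c0 LD2_c54 LD3_c61)) :=
  Lre_c IH (LK LD1_c1 LD2_c56 LD3_c23) (LK LD1_c0 LD2_c54 LD3_c61) Lrfl Lrfl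
theorem f37773 : Led Lsl_bt (LP (LK LD1_c1 LD2_c56 LD3_c23)) = (LP (LK LD1_c3 LD2_c59 LD3_c21)) :=
  Lre_b IH (LK LD1_c1 LD2_c56 LD3_c23) (LK LD1_c3 LD2_c59 LD3_c21) Lrfl Lrfl
theorem f37774 : Led Lsl_gf (LP (LK LD1_c2 LD2_c15 LD3_c8)) = (LP (LK LD1_c3 LD2_c59 LD3_c21)) :=
  Lgr Lrot181 (Lpr_ct (f37768 IH) (Lpr_gt (f37767 IH) (Lpe (f35550 IH) (Lpr_bt (K2.f34724 IH) (Lpr_gt (K1.f37756 IH) (Lpe (f37041 IH) (Lpr_ct (K1.f35526 IH) (Lpr_gt (K6.f37771 IH) (Lpe (f37772 IH) (Lpr_bt (f37773 IH) (Lpn (LP (LK LD1_c3 LD2_c59 LD3_c21)))))))))))))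
theorem f37818 : Led Lsl_ct (LP (LK LD1_c0 LD2_c54 LD3_c61)) = (LP (LK LD1_c1 LD2_c56 LD3_c23)) :=
  Lre_c IH (LK LD1_c0 LD2_c54 LD3_c61) (LK LD1_c1 LD2_c56 LD3_c23) Lrfl Lrfl
theorem f149347 : Led Lsl_gt (LP (LK LD1_c1 LD2_c22 LD3_c3)) = (LP (LK LD1_c1 LD2_c56 LD3_c24)) :=
  Lgr Lrot190 (Lpe (K5.f68332 IH) (Lpe (K2.f68322 IH) (Lpe (K1.f25180 IH) (Lpr_gf (K1.f67039 IH) (Lpe (K3.f61672 IH) (Lpr_cf (K2.f82388 IH) (Lpe (K2.f79143 IH) (Lpe (K2.f79144 IH) (Lpe (K4.f82403 IH) (Lpr_cf (K5.f120769 IH) (Lpr_df (K3.f102971 IH) (Lpe (K3.f102963 IH) (Lpe (f102960 IH) (Lpr_cf (f149334 IH) (Lpe (f37811 IH) (Lpr_gf (f37774 IH) (Lpe (f37773 IH) (Lpe (f37818 IH) (Lpe (K6.f37819 IH) (Lpn (LP (LK LD1_c1 LD2_c56 LD3_c24))))))))))))))))))))))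
theorem f8343 : Led Lsl_ct (LP (LK LD1_c2 LD2_c52 LD3_c6)) = (LP (LK LD1_c1 LD2_c22 LD3_c3)) :=
  Lre_c IH (LK LD1_c2 LD2_c52 LD3_c6) (LK LD1_c1 LD2_c22 LD3_c3) Lrfl Lrfl
theorem f73994 : Led Lsl_at (LP (LK LD1_c5 LD2_c51 LD3_c42)) = (LP (LK LD1_c2 LD2_c52 LD3_c6)) :=
  Lre_a IH (LK LD1_c5 LD2_c51 LD3_c42) (LK LD1_c2 LD2_c52 LD3_c6) Lrfl Lrfl
theorem f73995 : Led Lsl_bf (LP (LK LD1_c1 LD2_c29 LD3_c35)) = (LP (LK LD1_c2 LD2_c52 LD3_c6)) :=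
  Lgr Lrot81 (Lpr_at (K1.f66837 IH) (Lpr_bt (K2.f66870 IH) (Lpr_at (K2.f73992 IH) (Lpr_bt (K2.f73985 IH) (Lpr_at (f73994 IH) (Lpn (LP (LK LD1_c2 LD2_c52 LD3_c6))))))))
theorem f102346 : Led Lsl_gt (LP (LK LD1_c4 LD2_c44 LD3_c47)) = (LP (LK LD1_c2 LD2_c20 LD3_c32)) :=
  Lre_g IH (LK LD1_c4 LD2_c44 LD3_c47) (LK LD1_c2 LD2_c20 LD3_c32) Lrfl Lrfl
theorem f59895 : Led Lsl_ct (LP (LK LD1_c3 LD2_c59 LD3_c24)) = (LP (LK LD1_c1 LD2_c56 LD3_c24)) :=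
  Lre_c IH (LK LD1_c3 LD2_c59 LD3_c24) (LK LD1_c1 LD2_c56 LD3_c24) Lrfl Lrfl
theorem f149357 : Led Lsl_cf (LP (LK LD1_c4 LD2_c44 LD3_c47)) = (LP (LK LD1_c4 LD2_c36 LD3_c16)) :=
  Lgr Lrot125 (Lpr_gt (f102346 IH) (Lpe (K3.f102345 IH) (Lpr_bt (K3.f102342 IH) (Lpe (K3.f99091 IH) (Lpr_bf (f73995 IH) (Lpr_ct (f8343 IH) (Lpr_gt (f149347 IH) (Lpe (f59895 IH) (Lpr_bt (K6.f59887 IH) (Lpe (K6.f59888 IH) (Lpn (LP (LK LD1_c4 LD2_c36 LD3_c16)))))))))))))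
theorem f58859 : Led Lsl_gt (LP (LK LD1_c4 LD2_c38 LD3_c46)) = (LP (LK LD1_c2 LD2_c16 LD3_c25)) :=
  Lre_g IH (LK LD1_c4 LD2_c38 LD3_c46) (LK LD1_c2 LD2_c16 LD3_c25) Lrfl Lrfl
theorem f149374 : Led Lsl_df (LP (LK LD1_c4 LD2_c38 LD3_c46)) = (LP (LK LD1_c8 LD2_c0 LD3_c1)) :=
  Lgr Lrot155 (Lpr_gt (f58859 IH) (Lpr_ct (K4.f34765 IH) (Lpe (K4.f104727 IH) (Lpr_ct (K4.f34734 IH) (Lpr_dt (f149085 IH) (Lpe (K6.f102343 IH) (Lpe (f102346 IH) (Lpr_cf (f149357 IH) (Lpr_gf (K6.f59888 IH) (Lpn (LP (LK LD1_c8 LD2_c0 LD3_c1))))))))))))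
theorem f59471 : Led Lsl_ct (LP (LK LD1_c5 LD2_c47 LD3_c26)) = (LP (LK LD1_c2 LD2_c49 LD3_c42)) :=
  Lre_c IH (LK LD1_c5 LD2_c47 LD3_c26) (LK LD1_c2 LD2_c49 LD3_c42) Lrfl Lrfl
theorem f73416 : Led Lsl_ct (LP (LK LD1_c2 LD2_c49 LD3_c44)) = (LP (LK LD1_c1 LD2_c20 LD3_c59)) :=
  Lre_c IH (LK LD1_c2 LD2_c49 LD3_c44) (LK LD1_c1 LD2_c20 LD3_c59) Lrfl Lrfl
theorem f59446 : Led Lsl_bt (LP (LK LD1_c2 LD2_c49 LD3_c44)) = (LP (LK LD1_c1 LD2_c32 LD3_c52)) :=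
  Lgr Lrot128 (Lpe (K2.f56657 IH) (Lpe (K4.f59443 IH) (Lpr_cf (K1.f59426 IH) (Lpe (K1.f59444 IH) (Lpe (K2.f59445 IH) (Lpn (LP (LK LD1_c1 LD2_c32 LD3_c52))))))))
theorem f99499 : Led Lsl_gf (LP (LK LD1_c4 LD2_c40 LD3_c24)) = (LP (LK LD1_c5 LD2_c54 LD3_c48)) :=
  Lgr Lrot129 (Lpr_cf (K6.f94795 IH) (Lpr_bt (K3.f94770 IH) (Lpe (K2.f94778 IH) (Lpe (f59446 IH) (Lpr_ct (f73416 IH) (Lpr_gt (K4.f59455 IH) (Lpe (f59471 IH) (Lpr_bt (K4.f99495 IH) (Lpr_gt (K4.f22464 IH) (Lpr_ct (K2.f22809 IH) (Lpn (LP (LK LD1_c5 LD2_c54 LD3_c48)))))))))))))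
theorem f139483 : Led Lsl_dt (LP (LK LD1_c2 LD2_c57 LD3_c0)) = (LP (LK LD1_c5 LD2_c54 LD3_c47)) :=
  Lgr Lrot6 (Lpr_gt (K6.f26487 IH) (Lpr_ct (K6.f26505 IH) (Lpr_gt (K6.f139481 IH) (Lpr_ct (K5.f37957 IH) (Lpr_df (K6.f94919 IH) (Lpe (K3.f94788 IH) (Lpr_gf (f99499 IH) (Lpe (K2.f22809 IH) (Lpe (K4.f22464 IH) (Lpn (LP (LK LD1_c5 LD2_c54 LD3_c47))))))))))))
theorem f149382 : Led Lsl_ft (LP (LK LD1_c4 LD2_c38 LD3_c46)) = (LP (LK LD1_c2 LD2_c57 LD3_c0)) :=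
  Lgr Lrot54 (Lpr_df (f149374 IH) (Lpr_ff (K6.f139444 IH) (Lpe (f139483 IH) (Lpn (LP (LK LD1_c2 LD2_c57 LD3_c0))))))
theorem f61141 : Led Lsl_gt (LP (LK LD1_c2 LD2_c16 LD3_c25)) = (LP (LK LD1_c4 LD2_c38 LD3_c45)) :=
  Lre_g IH (LK LD1_c2 LD2_c16 LD3_c25) (LK LD1_c4 LD2_c38 LD3_c45) Lrfl Lrfl
theorem f149390 : Led Lsl_af (LP (LK LD1_c4 LD2_c38 LD3_c45)) = (LP (LK LD1_c2 LD2_c57 LD3_c0)) :=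
  Lgr Lrot31 (Lpe (f61141 IH) (Lpe (f58859 IH) (Lpr_ft (f149382 IH) (Lpn (LP (LK LD1_c2 LD2_c57 LD3_c0))))))
theorem f139485 : Led Lsl_df (LP (LK LD1_c2 LD2_c57 LD3_c0)) = (LP (LK LD1_c5 LD2_c54 LD3_c47)) :=
  Lgr Lrot155 (Lpr_gt (K6.f26487 IH) (Lpr_ct (K6.f26505 IH) (Lpr_gt (K6.f139481 IH) (Lpr_ct (K5.f37957 IH) (Lpr_dt (K6.f94771 IH) (Lpe (K3.f94788 IH) (Lpr_gf (f99499 IH) (Lpe (K2.f22809 IH) (Lpe (K4.f22464 IH) (Lpn (LP (LK LD1_c5 LD2_c54 LD3_c47))))))))))))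
theorem f149394 : Led Lsl_dt (LP (LK LD1_c4 LD2_c38 LD3_c45)) = (LP (LK LD1_c9 LD2_c8 LD3_c41)) :=
  Lgr Lrot44 (Lpr_af (f149390 IH) (Lpr_df (f139485 IH) (Lpe (K6.f139464 IH) (Lpn (LP (LK LD1_c9 LD2_c8 LD3_c41))))))
theorem f70928 : Led Lsl_dt (LP (LK LD1_c5 LD2_c53 LD3_c56)) = (LP (LK LD1_c2 LD2_c53 LD3_c19)) :=
  Lre_d IH (LK LD1_c5 LD2_c53 LD3_c56) (LK LD1_c2 LD2_c53 LD3_c19) Lrfl Lrfl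
theorem f71008 : Led Lsl_ct (LP (LK LD1_c1 LD2_c22 LD3_c45)) = (LP (LK LD1_c2 LD2_c53 LD3_c19)) :=
  Lre_c IH (LK LD1_c1 LD2_c22 LD3_c45) (LK LD1_c2 LD2_c53 LD3_c19) Lrfl Lrfl
theorem f149400 : Led Lsl_gt (LP (LK LD1_c1 LD2_c4 LD3_c40)) = (LP (LK LD1_c0 LD2_c38 LD3_c20)) :=
  Lgr Lrot49 (Lpe (f104776 IH) (Lpr_gf (K4.f104727 IH) (Lpe (K4.f34765 IH) (Lpr_gt (f61141 IH) (Lpr_dt (f149394 IH) (Lpr_gt (K6.f71179 IH) (Lpr_dt (f70928 IH) (Lpe (f71008 IH) (Lpe (K2.f71007 IH) (Lpn (LP (LK LD1_c0 LD2_c38 LD3_c20))))))))))))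
theorem f71006 : Led Lsl_ct (LP (LK LD1_c1 LD2_c22 LD3_c44)) = (LP (LK LD1_c0 LD2_c38 LD3_c20)) :=
  Lre_c IH (LK LD1_c1 LD2_c22 LD3_c44) (LK LD1_c0 LD2_c38 LD3_c20) Lrfl Lrfl
theorem f29492 : Led Lsl_bt (LP (LK LD1_c0 LD2_c55 LD3_c24)) = (LP (LK LD1_c0 LD2_c25 LD3_c7)) :=
  Lre_b IH (LK LD1_c0 LD2_c55 LD3_c24) (LK LD1_c0 LD2_c25 LD3_c7) Lrfl Lrfl
theorem f29335 : Led Lsl_bf (LP (LK LD1_c0 LD2_c55 LD3_c27)) = (LP (LK LD1_c0 LD2_c55 LD3_c27)) :=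
  Lgr Lrot96 (Lpr_et (K1.f29229 IH) (Lpr_bt (K1.f29327 IH) (Lpr_et (K1.f29227 IH) (Lpn (LP (LK LD1_c0 LD2_c55 LD3_c27))))))
theorem f29341 : Led Lsl_bt (LP (LK LD1_c1 LD2_c57 LD3_c1)) = (LP (LK LD1_c1 LD2_c57 LD3_c1)) :=
  Lgr Lrot35 (Lpe (K1.f29216 IH) (Lpr_bf (f29335 IH) (Lpe (K1.f29215 IH) (Lpn (LP (LK LD1_c1 LD2_c57 LD3_c1))))))
theorem f29347 : Led Lsl_bf (LP (LK LD1_c0 LD2_c55 LD3_c20)) = (LP (LK LD1_c0 LD2_c55 LD3_c20)) :=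
  Lgr Lrot96 (Lpr_et (K1.f29206 IH) (Lpr_bt (f29341 IH) (Lpr_et (K1.f29204 IH) (Lpn (LP (LK LD1_c0 LD2_c55 LD3_c20))))))
theorem f29350 : Led Lsl_bt (LP (LK LD1_c1 LD2_c57 LD3_c0)) = (LP (LK LD1_c4 LD2_c0 LD3_c29)) :=
  Lre_b IH (LK LD1_c1 LD2_c57 LD3_c0) (LK LD1_c4 LD2_c0 LD3_c29) Lrfl Lrfl
theorem f29351 : Led Lsl_bt (LP (LK LD1_c4 LD2_c0 LD3_c29)) = (LP (LK LD1_c1 LD2_c57 LD3_c0)) :=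
  Lre_b IH (LK LD1_c4 LD2_c0 LD3_c29) (LK LD1_c1 LD2_c57 LD3_c0) Lrfl Lrfl
theorem f29352 : Led Lsl_ct (LP (LK LD1_c4 LD2_c0 LD3_c29)) = (LP (LK LD1_c4 LD2_c0 LD3_c29)) :=
  Lgr Lrot83 (Lpe (f29350 IH) (Lpe (K1.f29349 IH) (Lpr_bf (f29347 IH) (Lpe (K1.f29287 IH) (Lpe (f29351 IH) (Lpn (LP (LK LD1_c4 LD2_c0 LD3_c29))))))))
theorem f29360 : Led Lsl_dt (LP (LK LD1_c8 LD2_c1 LD3_c57)) = (LP (LK LD1_c4 LD2_c0 LD3_c29)) :=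
  Lre_d IH (LK LD1_c8 LD2_c1 LD3_c57) (LK LD1_c4 LD2_c0 LD3_c29) Lrfl Lrfl
theorem f29378 : Led Lsl_ft (LP (LK LD1_c8 LD2_c1 LD3_c57)) = (LP (LK LD1_c4 LD2_c0 LD3_c28)) :=
  Lre_f IH (LK LD1_c8 LD2_c1 LD3_c57) (LK LD1_c4 LD2_c0 LD3_c28) Lrfl Lrfl
theorem f29379 : Led Lsl_at (LP (LK LD1_c4 LD2_c0 LD3_c28)) = (LP (LK LD1_c8 LD2_c1 LD3_c52)) :=
  Lre_a IH (LK LD1_c4 LD2_c0 LD3_c28) (LK LD1_c8 LD2_c1 LD3_c52) Lrfl Lrfl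
theorem f29380 : Led Lsl_ct (LP (LK LD1_c15 LD2_c7 LD3_c16)) = (LP (LK LD1_c8 LD2_c1 LD3_c52)) :=
  Lre_c IH (LK LD1_c15 LD2_c7 LD3_c16) (LK LD1_c8 LD2_c1 LD3_c52) Lrfl Lrfl
theorem f29381 : Led Lsl_dt (LP (LK LD1_c24 LD2_c55 LD3_c40)) = (LP (LK LD1_c15 LD2_c7 LD3_c16)) :=
  Lre_d IH (LK LD1_c24 LD2_c55 LD3_c40) (LK LD1_c15 LD2_c7 LD3_c16) Lrfl Lrfl
theorem f29363 : Led Lsl_dt (LP (LK LD1_c4 LD2_c0 LD3_c29)) = (LP (LK LD1_c8 LD2_c1 LD3_c57)) :=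
  Lre_d IH (LK LD1_c4 LD2_c0 LD3_c29) (LK LD1_c8 LD2_c1 LD3_c57) Lrfl Lrfl
theorem f29364 : Led Lsl_ct (LP (LK LD1_c8 LD2_c1 LD3_c57)) = (LP (LK LD1_c15 LD2_c7 LD3_c28)) :=
  Lre_c IH (LK LD1_c8 LD2_c1 LD3_c57) (LK LD1_c15 LD2_c7 LD3_c28) Lrfl Lrfl
theorem f29365 : Led Lsl_dt (LP (LK LD1_c15 LD2_c7 LD3_c28)) = (LP (LK LD1_c24 LD2_c56 LD3_c10)) :=
  Lre_d IH (LK LD1_c15 LD2_c7 LD3_c28) (LK LD1_c24 LD2_c56 LD3_c10) Lrfl Lrfl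
theorem f29382 : Led Lsl_cf (LP (LK LD1_c24 LD2_c55 LD3_c40)) = (LP (LK LD1_c24 LD2_c56 LD3_c10)) :=
  Lgr Lrot161 (Lpr_dt (f29381 IH) (Lpr_ct (f29380 IH) (Lpe (f29379 IH) (Lpe (f29378 IH) (Lpr_dt (f29360 IH) (Lpr_ct (f29352 IH) (Lpr_dt (f29363 IH) (Lpr_ct (f29364 IH) (Lpr_dt (f29365 IH) (Lpn (LP (LK LD1_c24 LD2_c56 LD3_c10))))))))))))
theorem f29393 : Led Lsl_dt (LP (LK LD1_c8 LD2_c1 LD3_c52)) = (LP (LK LD1_c4 LD2_c0 LD3_c27)) :=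
  Lre_d IH (LK LD1_c8 LD2_c1 LD3_c52) (LK LD1_c4 LD2_c0 LD3_c27) Lrfl Lrfl
theorem f29361 : Led Lsl_ct (LP (LK LD1_c15 LD2_c7 LD3_c28)) = (LP (LK LD1_c8 LD2_c1 LD3_c57)) :=
  Lre_c IH (LK LD1_c15 LD2_c7 LD3_c28) (LK LD1_c8 LD2_c1 LD3_c57) Lrfl Lrfl
theorem f29362 : Led Lsl_dt (LP (LK LD1_c24 LD2_c56 LD3_c10)) = (LP (LK LD1_c15 LD2_c7 LD3_c28)) :=
  Lre_d IH (LK LD1_c24 LD2_c56 LD3_c10) (LK LD1_c15 LD2_c7 LD3_c28) Lrfl Lrfl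
theorem f29356 : Led Lsl_at (LP (LK LD1_c8 LD2_c1 LD3_c44)) = (LP (LK LD1_c4 LD2_c0 LD3_c29)) :=
  Lre_a IH (LK LD1_c8 LD2_c1 LD3_c44) (LK LD1_c4 LD2_c0 LD3_c29) Lrfl Lrfl
theorem f29372 : Led Lsl_ft (LP (LK LD1_c4 LD2_c0 LD3_c27)) = (LP (LK LD1_c8 LD2_c1 LD3_c44)) :=
  Lre_f IH (LK LD1_c4 LD2_c0 LD3_c27) (LK LD1_c8 LD2_c1 LD3_c44) Lrfl Lrfl
theorem f29373 : Led Lsl_dt (LP (LK LD1_c4 LD2_c0 LD3_c27)) = (LP (LK LD1_c8 LD2_c1 LD3_c52)) :=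
  Lre_d IH (LK LD1_c4 LD2_c0 LD3_c27) (LK LD1_c8 LD2_c1 LD3_c52) Lrfl Lrfl
theorem f29374 : Led Lsl_ct (LP (LK LD1_c8 LD2_c1 LD3_c52)) = (LP (LK LD1_c15 LD2_c7 LD3_c16)) :=
  Lre_c IH (LK LD1_c8 LD2_c1 LD3_c52) (LK LD1_c15 LD2_c7 LD3_c16) Lrfl Lrfl
theorem f29375 : Led Lsl_dt (LP (LK LD1_c15 LD2_c7 LD3_c16)) = (LP (LK LD1_c24 LD2_c55 LD3_c40)) :=
  Lre_d IH (LK LD1_c15 LD2_c7 LD3_c16) (LK LD1_c24 LD2_c55 LD3_c40) Lrfl Lrfl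
theorem f29376 : Led Lsl_cf (LP (LK LD1_c24 LD2_c56 LD3_c10)) = (LP (LK LD1_c24 LD2_c55 LD3_c40)) :=
  Lgr Lrot116 (Lpr_dt (f29362 IH) (Lpr_ct (f29361 IH) (Lpr_dt (f29360 IH) (Lpr_ct (f29352 IH) (Lpe (f29356 IH) (Lpe (f29372 IH) (Lpr_dt (f29373 IH) (Lpr_ct (f29374 IH) (Lpr_dt (f29375 IH) (Lpn (LP (LK LD1_c24 LD2_c55 LD3_c40))))))))))))
theorem f29394 : Led Lsl_ct (LP (LK LD1_c4 LD2_c0 LD3_c27)) = (LP (LK LD1_c4 LD2_c0 LD3_c27)) :=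
  Lgr Lrot176 (Lpe (f29393 IH) (Lpe (f29380 IH) (Lpe (f29381 IH) (Lpr_cf (f29382 IH) (Lpe (f29365 IH) (Lpe (f29364 IH) (Lpe (f29363 IH) (Lpe (f29352 IH) (Lpe (f29360 IH) (Lpe (f29361 IH) (Lpe (f29362 IH) (Lpr_cf (f29376 IH) (Lpe (f29375 IH) (Lpe (f29374 IH) (Lpe (f29373 IH) (Lpn (LP (LK LD1_c4 LD2_c0 LD3_c27))))))))))))))))))
theorem f29453 : Led Lsl_et (LP (LK LD1_c1 LD2_c57 LD3_c10)) = (LP (LK LD1_c4 LD2_c0 LD3_c27)) :=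
  Lre_e IH (LK LD1_c1 LD2_c57 LD3_c10) (LK LD1_c4 LD2_c0 LD3_c27) Lrfl Lrfl
theorem f29454 : Led Lsl_et (LP (LK LD1_c4 LD2_c0 LD3_c27)) = (LP (LK LD1_c1 LD2_c57 LD3_c10)) :=
  Lre_e IH (LK LD1_c4 LD2_c0 LD3_c27) (LK LD1_c1 LD2_c57 LD3_c10) Lrfl Lrfl
theorem f29455 : Led Lsl_cf (LP (LK LD1_c1 LD2_c57 LD3_c10)) = (LP (LK LD1_c1 LD2_c57 LD3_c10)) :=
  Lgr Lrot39 (Lpr_et (f29453 IH) (Lpr_ct (f29394 IH) (Lpr_et (f29454 IH) (Lpn (LP (LK LD1_c1 LD2_c57 LD3_c10))))))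
theorem f29459 : Led Lsl_at (LP (LK LD1_c1 LD2_c57 LD3_c10)) = (LP (LK LD1_c0 LD2_c55 LD3_c24)) :=
  Lre_a IH (LK LD1_c1 LD2_c57 LD3_c10) (LK LD1_c0 LD2_c55 LD3_c24) Lrfl Lrfl
theorem f29460 : Led Lsl_at (LP (LK LD1_c0 LD2_c55 LD3_c24)) = (LP (LK LD1_c1 LD2_c57 LD3_c10)) :=
  Lre_a IH (LK LD1_c0 LD2_c55 LD3_c24) (LK LD1_c1 LD2_c57 LD3_c10) Lrfl Lrfl
theorem f29461 : Led Lsl_ct (LP (LK LD1_c0 LD2_c55 LD3_c24)) = (LP (LK LD1_c0 LD2_c55 LD3_c24)) :=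
  Lgr Lrot111 (Lpe (f29459 IH) (Lpr_cf (f29455 IH) (Lpe (f29460 IH) (Lpn (LP (LK LD1_c0 LD2_c55 LD3_c24))))))
theorem f29500 : Led Lsl_gt (LP (LK LD1_c1 LD2_c57 LD3_c9)) = (LP (LK LD1_c0 LD2_c55 LD3_c24)) :=
  Lre_g IH (LK LD1_c1 LD2_c57 LD3_c9) (LK LD1_c0 LD2_c55 LD3_c24) Lrfl Lrfl
theorem f29489 : Led Lsl_ct (LP (LK LD1_c4 LD2_c0 LD3_c45)) = (LP (LK LD1_c1 LD2_c57 LD3_c9)) :=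
  Lre_c IH (LK LD1_c4 LD2_c0 LD3_c45) (LK LD1_c1 LD2_c57 LD3_c9) Lrfl Lrfl
theorem f138776 : Led Lsl_gt (LP (LK LD1_c8 LD2_c2 LD3_c11)) = (LP (LK LD1_c4 LD2_c0 LD3_c45)) :=
  Lgr Lrot82 (Lpr_bf (K6.f138773 IH) (Lpr_ct (K6.f37080 IH) (Lpe (K6.f36940 IH) (Lpe (K5.f37038 IH) (Lpr_bt (K1.f35601 IH) (Lpe (K1.f35594 IH) (Lpe (f29492 IH) (Lpr_ct (f29461 IH) (Lpe (f29500 IH) (Lpe (f29489 IH) (Lpn (LP (LK LD1_c4 LD2_c0 LD3_c45)))))))))))))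
theorem f29486 : Led Lsl_ct (LP (LK LD1_c1 LD2_c57 LD3_c9)) = (LP (LK LD1_c4 LD2_c0 LD3_c45)) :=
  Lre_c IH (LK LD1_c1 LD2_c57 LD3_c9) (LK LD1_c4 LD2_c0 LD3_c45) Lrfl Lrfl
theorem f138821 : Led Lsl_bt (LP (LK LD1_c1 LD2_c57 LD3_c9)) = (LP (LK LD1_c4 LD2_c0 LD3_c44)) :=
  Lre_b IH (LK LD1_c1 LD2_c57 LD3_c9) (LK LD1_c4 LD2_c0 LD3_c44) Lrfl Lrfl
theorem f149406 : Led Lsl_gf (LP (LK LD1_c2 LD2_c15 LD3_c5)) = (LP (LK LD1_c4 LD2_c0 LD3_c44)) :=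
  Lgr Lrot181 (Lpr_ct (f35551 IH) (Lpr_gt (f149400 IH) (Lpe (f71006 IH) (Lpr_bt (K4.f71124 IH) (Lpe (K6.f72112 IH) (Lpe (K6.f38535 IH) (Lpe (K6.f138747 IH) (Lpr_gt (f138776 IH) (Lpe (f29486 IH) (Lpr_bt (f138821 IH) (Lpn (LP (LK LD1_c4 LD2_c0 LD3_c44)))))))))))))
theorem f70924 : Led Lsl_dt (LP (LK LD1_c1 LD2_c22 LD3_c44)) = (LP (LK LD1_c2 LD2_c53 LD3_c17)) :=
  Lre_d IH (LK LD1_c1 LD2_c22 LD3_c44) (LK LD1_c2 LD2_c53 LD3_c17) Lrfl Lrfl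
theorem f71002 : Led Lsl_ct (LP (LK LD1_c5 LD2_c53 LD3_c51)) = (LP (LK LD1_c2 LD2_c53 LD3_c17)) :=
  Lre_c IH (LK LD1_c5 LD2_c53 LD3_c51) (LK LD1_c2 LD2_c53 LD3_c17) Lrfl Lrfl
theorem f70910 : Led Lsl_at (LP (LK LD1_c2 LD2_c53 LD3_c31)) = (LP (LK LD1_c5 LD2_c53 LD3_c51)) :=
  Lre_a IH (LK LD1_c2 LD2_c53 LD3_c31) (LK LD1_c5 LD2_c53 LD3_c51) Lrfl Lrfl
theorem f112752 : Led Lsl_gt (LP (LK LD1_c6 LD2_c15 LD3_c41)) = (LP (LK LD1_c5 LD2_c53 LD3_c51)) :=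
  Lgr Lrot46 (Lpr_gf (K6.f112742 IH) (Lpr_ft (K2.f70899 IH) (Lpr_at (f70910 IH) (Lpn (LP (LK LD1_c5 LD2_c53 LD3_c51))))))
theorem f112354 : Led Lsl_gt (LP (LK LD1_c6 LD2_c15 LD3_c40)) = (LP (LK LD1_c3 LD2_c4 LD3_c57)) :=
  Lre_g IH (LK LD1_c6 LD2_c15 LD3_c40) (LK LD1_c3 LD2_c4 LD3_c57) Lrfl Lrfl
theorem f149410 : Led Lsl_dt (LP (LK LD1_c6 LD2_c15 LD3_c40)) = (LP (LK LD1_c4 LD2_c0 LD3_c44)) :=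
  Lgr Lrot6 (Lpr_gt (f112354 IH) (Lpr_ct (K6.f83790 IH) (Lpr_gt (f112752 IH) (Lpr_ct (f71002 IH) (Lpe (f70924 IH) (Lpe (K2.f70925 IH) (Lpe (f149400 IH) (Lpe (f35551 IH) (Lpr_gf (f149406 IH) (Lpn (LP (LK LD1_c4 LD2_c0 LD3_c44))))))))))))
theorem f132863 : Led Lsl_af (LP (LK LD1_c3 LD2_c4 LD3_c57)) = (LP (LK LD1_c4 LD2_c42 LD3_c52)) :=
  Lgr Lrot45 (Lpr_ft (K6.f132679 IH) (Lpe (K6.f132672 IH) (Lpr_ft (K5.f132856 IH) (Lpn (LP (LK LD1_c4 LD2_c42 LD3_c52))))))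
theorem f132872 : Led Lsl_gt (LP (LK LD1_c3 LD2_c5 LD3_c5)) = (LP (LK LD1_c6 LD2_c15 LD3_c40)) :=
  Lgr Lrot5 (Lpr_ft (K5.f132856 IH) (Lpe (f132863 IH) (Lpe (f112354 IH) (Lpn (LP (LK LD1_c6 LD2_c15 LD3_c40))))))
theorem f99087 : Led Lsl_gt (LP (LK LD1_c2 LD2_c20 LD3_c32)) = (LP (LK LD1_c4 LD2_c44 LD3_c46)) :=
  Lre_g IH (LK LD1_c2 LD2_c20 LD3_c32) (LK LD1_c4 LD2_c44 LD3_c46) Lrfl Lrfl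
theorem f102921 : Led Lsl_gf (LP (LK LD1_c9 LD2_c16 LD3_c11)) = (LP (LK LD1_c4 LD2_c44 LD3_c46)) :=
  Lgr Lrot76 (Lpe (f94800 IH) (Lpr_ff (K3.f102910 IH) (Lpr_gt (f99087 IH) (Lpn (LP (LK LD1_c4 LD2_c44 LD3_c46))))))
theorem f149443 : Led Lsl_dt (LP (LK LD1_c4 LD2_c36 LD3_c8)) = (LP (LK LD1_c4 LD2_c44 LD3_c46)) :=
  Lgr Lrot57 (Lpr_gf (K6.f112401 IH) (Lpe (K6.f80261 IH) (Lpr_gt (f132872 IH) (Lpr_dt (f149410 IH) (Lpe (f149406 IH) (Lpr_dt (f149021 IH) (Lpe (f149042 IH) (Lpr_df (f149161 IH) (Lpr_gf (f102921 IH) (Lpn (LP (LK LD1_c4 LD2_c44 LD3_c46))))))))))))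
theorem f70892 : Led Lsl_dt (LP (LK LD1_c5 LD2_c54 LD3_c14)) = (LP (LK LD1_c2 LD2_c53 LD3_c31)) :=
  Lre_d IH (LK LD1_c5 LD2_c54 LD3_c14) (LK LD1_c2 LD2_c53 LD3_c31) Lrfl Lrfl
theorem f149455 : Led Lsl_ff (LP (LK LD1_c5 LD2_c54 LD3_c14)) = (LP (LK LD1_c4 LD2_c44 LD3_c46)) :=
  Lgr Lrot19 (Lpr_dt (f70892 IH) (Lpe (K2.f70885 IH) (Lpr_dt (f149443 IH) (Lpn (LP (LK LD1_c4 LD2_c44 LD3_c46))))))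
theorem f149462 : Led Lsl_ft (LP (LK LD1_c5 LD2_c54 LD3_c14)) = (LP (LK LD1_c4 LD2_c44 LD3_c46)) :=
  Lgr Lrot48 (Lpr_ff (f149455 IH) (Lpn (LP (LK LD1_c4 LD2_c44 LD3_c46))))
theorem f149359 : Led Lsl_at (LP (LK LD1_c4 LD2_c44 LD3_c47)) = (LP (LK LD1_c5 LD2_c54 LD3_c14)) :=
  Lgr Lrot107 (Lpr_cf (f149357 IH) (Lpe (K6.f59892 IH) (Lpr_cf (K2.f70865 IH) (Lpn (LP (LK LD1_c5 LD2_c54 LD3_c14))))))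
theorem f70909 : Led Lsl_at (LP (LK LD1_c9 LD2_c8 LD3_c10)) = (LP (LK LD1_c4 LD2_c36 LD3_c8)) :=
  Lre_a IH (LK LD1_c9 LD2_c8 LD3_c10) (LK LD1_c4 LD2_c36 LD3_c8) Lrfl Lrfl
theorem f149446 : Led Lsl_af (LP (LK LD1_c5 LD2_c54 LD3_c48)) = (LP (LK LD1_c4 LD2_c44 LD3_c46)) :=
  Lgr Lrot117 (Lpe (K2.f71186 IH) (Lpr_at (f70909 IH) (Lpr_dt (f149443 IH) (Lpn (LP (LK LD1_c4 LD2_c44 LD3_c46))))))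
theorem f149507 : Led Lsl_ff (LP (LK LD1_c4 LD2_c44 LD3_c47)) = (LP (LK LD1_c5 LD2_c54 LD3_c48)) :=
  Lgr Lrot30 (Lpr_at (f149359 IH) (Lpr_ft (f149462 IH) (Lpe (f149446 IH) (Lpn (LP (LK LD1_c5 LD2_c54 LD3_c48))))))
theorem f149361 : Led Lsl_bt (LP (LK LD1_c4 LD2_c44 LD3_c47)) = (LP (LK LD1_c9 LD2_c22 LD3_c12)) :=
  Lre_b IH (LK LD1_c4 LD2_c44 LD3_c47) (LK LD1_c9 LD2_c22 LD3_c12) Lrfl Lrfl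
theorem f71188 : Led Lsl_bt (LP (LK LD1_c11 LD2_c35 LD3_c8)) = (LP (LK LD1_c5 LD2_c54 LD3_c48)) :=
  Lre_b IH (LK LD1_c11 LD2_c35 LD3_c8) (LK LD1_c5 LD2_c54 LD3_c48) Lrfl Lrfl
theorem f149509 : Led Lsl_ft (LP (LK LD1_c9 LD2_c22 LD3_c12)) = (LP (LK LD1_c11 LD2_c35 LD3_c8)) :=
  Lgr Lrot75 (Lpe (f149361 IH) (Lpr_ff (f149507 IH) (Lpe (f71188 IH) (Lpn (LP (LK LD1_c11 LD2_c35 LD3_c8))))))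
theorem f149514 : Led Lsl_ff (LP (LK LD1_c9 LD2_c22 LD3_c12)) = (LP (LK LD1_c11 LD2_c35 LD3_c8)) :=
  Lgr Lrot3 (Lpr_ft (f149509 IH) (Lpn (LP (LK LD1_c11 LD2_c35 LD3_c8))))
theorem f58417 : Led Lsl_et (LP (LK LD1_c12 LD2_c0 LD3_c38)) = (LP (LK LD1_c6 LD2_c9 LD3_c48)) :=
  Lre_e IH (LK LD1_c12 LD2_c0 LD3_c38) (LK LD1_c6 LD2_c9 LD3_c48) Lrfl Lrfl
theorem f100141 : Led Lsl_af (LP (LK LD1_c9 LD2_c9 LD3_c57)) = (LP (LK LD1_c6 LD2_c9 LD3_c48)) :=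
  Lgr Lrot50 (Lpr_et (K6.f100140 IH) (Lpr_at (K6.f100114 IH) (Lpr_et (f58417 IH) (Lpn (LP (LK LD1_c6 LD2_c9 LD3_c48))))))
theorem f19124 : Led Lsl_ft (LP (LK LD1_c3 LD2_c1 LD3_c42)) = (LP (LK LD1_c6 LD2_c9 LD3_c48)) :=
  Lre_f IH (LK LD1_c3 LD2_c1 LD3_c42) (LK LD1_c6 LD2_c9 LD3_c48) Lrfl Lrfl
theorem f65647 : Led Lsl_gt (LP (LK LD1_c3 LD2_c1 LD3_c42)) = (LP (LK LD1_c6 LD2_c10 LD3_c8)) :=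
  Lre_g IH (LK LD1_c3 LD2_c1 LD3_c42) (LK LD1_c6 LD2_c10 LD3_c8) Lrfl Lrfl
theorem f100179 : Led Lsl_gf (LP (LK LD1_c9 LD2_c9 LD3_c57)) = (LP (LK LD1_c6 LD2_c10 LD3_c8)) :=
  Lgr Lrot76 (Lpr_af (f100141 IH) (Lpe (f19124 IH) (Lpr_gt (f65647 IH) (Lpn (LP (LK LD1_c6 LD2_c10 LD3_c8))))))
theorem f70871 : Led Lsl_ct (LP (LK LD1_c5 LD2_c54 LD3_c48)) = (LP (LK LD1_c2 LD2_c53 LD3_c44)) :=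
  Lre_c IH (LK LD1_c5 LD2_c54 LD3_c48) (LK LD1_c2 LD2_c53 LD3_c44) Lrfl Lrfl
theorem f22810 : Led Lsl_bt (LP (LK LD1_c5 LD2_c54 LD3_c48)) = (LP (LK LD1_c11 LD2_c35 LD3_c8)) :=
  Lre_b IH (LK LD1_c5 LD2_c54 LD3_c48) (LK LD1_c11 LD2_c35 LD3_c8) Lrfl Lrfl
theorem f65655 : Led Lsl_ct (LP (LK LD1_c12 LD2_c1 LD3_c9)) = (LP (LK LD1_c6 LD2_c10 LD3_c8)) :=
  Lre_c IH (LK LD1_c12 LD2_c1 LD3_c9) (LK LD1_c6 LD2_c10 LD3_c8) Lrfl Lrfl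
theorem f100181 : Led Lsl_gt (LP (LK LD1_c11 LD2_c35 LD3_c8)) = (LP (LK LD1_c12 LD2_c1 LD3_c9)) :=
  Lgr Lrot82 (Lpe (f22810 IH) (Lpr_ct (f70871 IH) (Lpe (K4.f22464 IH) (Lpe (K4.f99472 IH) (Lpr_bt (K4.f74557 IH) (Lpr_gf (K4.f74957 IH) (Lpe (K4.f74949 IH) (Lpe (K6.f100158 IH) (Lpr_gf (f100179 IH) (Lpe (f65655 IH) (Lpn (LP (LK LD1_c12 LD2_c1 LD3_c9)))))))))))))
theorem f65552 : Led Lsl_gt (LP (LK LD1_c3 LD2_c15 LD3_c33)) = (LP (LK LD1_c1 LD2_c34 LD3_c31)) :=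
  Lre_g IH (LK LD1_c3 LD2_c15 LD3_c33) (LK LD1_c1 LD2_c34 LD3_c31) Lrfl Lrfl
theorem f65649 : Led Lsl_bt (LP (LK LD1_c6 LD2_c34 LD3_c23)) = (LP (LK LD1_c3 LD2_c15 LD3_c33)) :=
  Lre_b IH (LK LD1_c6 LD2_c34 LD3_c23) (LK LD1_c3 LD2_c15 LD3_c33) Lrfl Lrfl
theorem f65650 : Led Lsl_ct (LP (LK LD1_c6 LD2_c34 LD3_c23)) = (LP (LK LD1_c12 LD2_c35 LD3_c11)) :=
  Lre_c IH (LK LD1_c6 LD2_c34 LD3_c23) (LK LD1_c12 LD2_c35 LD3_c11) Lrfl Lrfl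
theorem f65651 : Led Lsl_ct (LP (LK LD1_c6 LD2_c10 LD3_c8)) = (LP (LK LD1_c12 LD2_c1 LD3_c9)) :=
  Lre_c IH (LK LD1_c6 LD2_c10 LD3_c8) (LK LD1_c12 LD2_c1 LD3_c9) Lrfl Lrfl
theorem f65652 : Led Lsl_gf (LP (LK LD1_c12 LD2_c35 LD3_c11)) = (LP (LK LD1_c12 LD2_c1 LD3_c9)) :=
  Lgr Lrot129 (Lpe (f65650 IH) (Lpr_bt (f65649 IH) (Lpr_gt (f65552 IH) (Lpe (K6.f7160 IH) (Lpr_ct (K2.f65270 IH) (Lpr_gt (K1.f65387 IH) (Lpe (K2.f62945 IH) (Lpr_bt (K4.f62964 IH) (Lpr_gt (f65647 IH) (Lpr_ct (f65651 IH) (Lpn (LP (LK LD1_c12 LD2_c1 LD3_c9)))))))))))))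
theorem f149521 : Led Lsl_at (LP (LK LD1_c9 LD2_c22 LD3_c12)) = (LP (LK LD1_c12 LD2_c35 LD3_c11)) :=
  Lgr Lrot26 (Lpr_ff (f149514 IH) (Lpr_gt (f100181 IH) (Lpe (f65652 IH) (Lpn (LP (LK LD1_c12 LD2_c35 LD3_c11))))))
theorem f35977 : Led Lsl_at (LP (LK LD1_c7 LD2_c56 LD3_c50)) = (LP (LK LD1_c3 LD2_c57 LD3_c44)) :=
  Lre_a IH (LK LD1_c7 LD2_c56 LD3_c50) (LK LD1_c3 LD2_c57 LD3_c44) Lrfl Lrfl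
theorem f81613 : Led Lsl_at (LP (LK LD1_c7 LD2_c56 LD3_c51)) = (LP (LK LD1_c11 LD2_c41 LD3_c14)) :=
  Lgr Lrot107 (Lpe (K4.f35669 IH) (Lpe (f35977 IH) (Lpr_cf (K2.f81611 IH) (Lpn (LP (LK LD1_c11 LD2_c41 LD3_c14))))))
theorem f70906 : Led Lsl_bt (LP (LK LD1_c17 LD2_c0 LD3_c36)) = (LP (LK LD1_c9 LD2_c8 LD3_c10)) :=
  Lre_b IH (LK LD1_c17 LD2_c0 LD3_c36) (LK LD1_c9 LD2_c8 LD3_c10) Lrfl Lrfl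
theorem f99454 : Led Lsl_at (LP (LK LD1_c20 LD2_c41 LD3_c1)) = (LP (LK LD1_c17 LD2_c0 LD3_c36)) :=
  Lgr Lrot67 (Lpe (K2.f81630 IH) (Lpe (f81613 IH) (Lpr_bf (K4.f99448 IH) (Lpe (f70909 IH) (Lpe (f70906 IH) (Lpn (LP (LK LD1_c17 LD2_c0 LD3_c36))))))))
theorem f81675 : Led Lsl_dt (LP (LK LD1_c11 LD2_c41 LD3_c13)) = (LP (LK LD1_c20 LD2_c41 LD3_c1)) :=
  Lre_d IH (LK LD1_c11 LD2_c41 LD3_c13) (LK LD1_c20 LD2_c41 LD3_c1) Lrfl Lrfl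
theorem f71029 : Led Lsl_bt (LP (LK LD1_c9 LD2_c8 LD3_c10)) = (LP (LK LD1_c17 LD2_c0 LD3_c36)) :=
  Lre_b IH (LK LD1_c9 LD2_c8 LD3_c10) (LK LD1_c17 LD2_c0 LD3_c36) Lrfl Lrfl
theorem f71189 : Led Lsl_dt (LP (LK LD1_c17 LD2_c0 LD3_c36)) = (LP (LK LD1_c11 LD2_c35 LD3_c8)) :=
  Lgr Lrot79 (Lpe (f71029 IH) (Lpr_df (K2.f71186 IH) (Lpe (f71188 IH) (Lpn (LP (LK LD1_c11 LD2_c35 LD3_c8))))))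
theorem f101796 : Led Lsl_af (LP (LK LD1_c11 LD2_c41 LD3_c13)) = (LP (LK LD1_c11 LD2_c35 LD3_c8)) :=
  Lgr Lrot117 (Lpr_dt (f81675 IH) (Lpr_at (f99454 IH) (Lpr_dt (f71189 IH) (Lpn (LP (LK LD1_c11 LD2_c35 LD3_c8))))))
theorem f101798 : Led Lsl_at (LP (LK LD1_c11 LD2_c41 LD3_c13)) = (LP (LK LD1_c11 LD2_c35 LD3_c8)) :=
  Lgr Lrot100 (Lpr_af (f101796 IH) (Lpn (LP (LK LD1_c11 LD2_c35 LD3_c8))))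
theorem f149532 : Led Lsl_ff (LP (LK LD1_c11 LD2_c41 LD3_c13)) = (LP (LK LD1_c12 LD2_c35 LD3_c11)) :=
  Lgr Lrot30 (Lpr_at (f101798 IH) (Lpe (f149514 IH) (Lpr_at (f149521 IH) (Lpn (LP (LK LD1_c12 LD2_c35 LD3_c11))))))
theorem f76181 : Led Lsl_bt (LP (LK LD1_c11 LD2_c41 LD3_c13)) = (LP (LK LD1_c5 LD2_c58 LD3_c17)) :=
  Lre_b IH (LK LD1_c11 LD2_c41 LD3_c13) (LK LD1_c5 LD2_c58 LD3_c17) Lrfl Lrfl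
theorem f149534 : Led Lsl_bt (LP (LK LD1_c11 LD2_c41 LD3_c10)) = (LP (LK LD1_c12 LD2_c35 LD3_c11)) :=
  Lgr Lrot35 (Lpe (K2.f81609 IH) (Lpe (f76181 IH) (Lpr_ff (f149532 IH) (Lpn (LP (LK LD1_c12 LD2_c35 LD3_c11))))))
theorem f112653 : Led Lsl_bt (LP (LK LD1_c5 LD2_c56 LD3_c15)) = (LP (LK LD1_c11 LD2_c37 LD3_c43)) :=
  Lre_b IH (LK LD1_c5 LD2_c56 LD3_c15) (LK LD1_c11 LD2_c37 LD3_c43) Lrfl Lrfl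
theorem f65656 : Led Lsl_ct (LP (LK LD1_c12 LD2_c35 LD3_c11)) = (LP (LK LD1_c6 LD2_c34 LD3_c23)) :=
  Lre_c IH (LK LD1_c12 LD2_c35 LD3_c11) (LK LD1_c6 LD2_c34 LD3_c23) Lrfl Lrfl
theorem f149547 : Led Lsl_cf (LP (LK LD1_c5 LD2_c56 LD3_c15)) = (LP (LK LD1_c3 LD2_c15 LD3_c33)) :=
  Lgr Lrot97 (Lpr_bt (f112653 IH) (Lpr_ct (K5.f112648 IH) (Lpr_bt (f149534 IH) (Lpr_ct (f65656 IH) (Lpr_bt (f65649 IH) (Lpn (LP (LK LD1_c3 LD2_c15 LD3_c33))))))))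
theorem f71904 : Led Lsl_dt (LP (LK LD1_c5 LD2_c56 LD3_c15)) = (LP (LK LD1_c2 LD2_c54 LD3_c28)) :=
  Lre_d IH (LK LD1_c5 LD2_c56 LD3_c15) (LK LD1_c2 LD2_c54 LD3_c28) Lrfl Lrfl
theorem f112620 : Led Lsl_bf (LP (LK LD1_c5 LD2_c56 LD3_c8)) = (LP (LK LD1_c6 LD2_c29 LD3_c22)) :=
  Lgr Lrot24 (Lpr_bt (K4.f112618 IH) (Lpn (LP (LK LD1_c6 LD2_c29 LD3_c22))))
theorem f114840 : Led Lsl_ft (LP (LK LD1_c5 LD2_c56 LD3_c8)) = (LP (LK LD1_c6 LD2_c24 LD3_c27)) :=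
  Lgr Lrot75 (Lpr_bf (f112620 IH) (Lpr_ff (K4.f114838 IH) (Lpe (K4.f79052 IH) (Lpn (LP (LK LD1_c6 LD2_c24 LD3_c27))))))
theorem f119718 : Led Lsl_af (LP (LK LD1_c5 LD2_c56 LD3_c10)) = (LP (LK LD1_c6 LD2_c24 LD3_c27)) :=
  Lgr Lrot45 (Lpr_ft (K6.f119715 IH) (Lpr_at (K6.f117641 IH) (Lpr_ft (f114840 IH) (Lpn (LP (LK LD1_c6 LD2_c24 LD3_c27))))))
theorem f81789 : Led Lsl_gt (LP (LK LD1_c5 LD2_c56 LD3_c8)) = (LP (LK LD1_c11 LD2_c37 LD3_c30)) :=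
  Lre_g IH (LK LD1_c5 LD2_c56 LD3_c8) (LK LD1_c11 LD2_c37 LD3_c30) Lrfl Lrfl
theorem f119759 : Led Lsl_gf (LP (LK LD1_c5 LD2_c56 LD3_c10)) = (LP (LK LD1_c11 LD2_c37 LD3_c30)) :=
  Lgr Lrot76 (Lpr_af (f119718 IH) (Lpe (f114840 IH) (Lpr_gt (f81789 IH) (Lpn (LP (LK LD1_c11 LD2_c37 LD3_c30))))))
theorem f23564 : Led Lsl_gt (LP (LK LD1_c3 LD2_c15 LD3_c16)) = (LP (LK LD1_c6 LD2_c33 LD3_c55)) :=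
  Lre_g IH (LK LD1_c3 LD2_c15 LD3_c16) (LK LD1_c6 LD2_c33 LD3_c55) Lrfl Lrfl
theorem f119711 : Led Lsl_dt (LP (LK LD1_c5 LD2_c56 LD3_c10)) = (LP (LK LD1_c6 LD2_c36 LD3_c24)) :=
  Lgr Lrot42 (Lpr_df (K4.f119664 IH) (Lpn (LP (LK LD1_c6 LD2_c36 LD3_c24))))
theorem f119906 : Led Lsl_dt (LP (LK LD1_c6 LD2_c33 LD3_c55)) = (LP (LK LD1_c11 LD2_c37 LD3_c30)) :=
  Lgr Lrot57 (Lpe (f23564 IH) (Lpe (K6.f65550 IH) (Lpe (K6.f80296 IH) (Lpr_dt (K2.f23922 IH) (Lpr_gt (K4.f23914 IH) (Lpr_dt (K4.f119891 IH) (Lpe (K4.f79429 IH) (Lpe (f119711 IH) (Lpr_gf (f119759 IH) (Lpn (LP (LK LD1_c11 LD2_c37 LD3_c30))))))))))))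
theorem f119909 : Led Lsl_df (LP (LK LD1_c6 LD2_c33 LD3_c55)) = (LP (LK LD1_c11 LD2_c37 LD3_c30)) :=
  Lgr Lrot38 (Lpr_dt (f119906 IH) (Lpn (LP (LK LD1_c11 LD2_c37 LD3_c30))))
theorem f137743 : Led Lsl_gt (LP (LK LD1_c5 LD2_c56 LD3_c44)) = (LP (LK LD1_c3 LD2_c15 LD3_c33)) :=
  Lgr Lrot5 (Lpr_ft (K6.f137738 IH) (Lpr_at (K6.f119744 IH) (Lpe (f65552 IH) (Lpn (LP (LK LD1_c3 LD2_c15 LD3_c33))))))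
theorem f137762 : Led Lsl_cf (LP (LK LD1_c5 LD2_c56 LD3_c44)) = (LP (LK LD1_c11 LD2_c37 LD3_c20)) :=
  Lgr Lrot11 (Lpr_ct (K6.f137753 IH) (Lpn (LP (LK LD1_c11 LD2_c37 LD3_c20))))
theorem f149578 : Led Lsl_gt (LP (LK LD1_c6 LD2_c33 LD3_c55)) = (LP (LK LD1_c11 LD2_c37 LD3_c20)) :=
  Lgr Lrot9 (Lpr_df (f119909 IH) (Lpe (f119759 IH) (Lpr_ct (K4.f112689 IH) (Lpr_gt (K4.f81783 IH) (Lpr_ct (K2.f71864 IH) (Lpe (f71904 IH) (Lpr_cf (f149547 IH) (Lpe (f137743 IH) (Lpr_cf (f137762 IH) (Lpn (LP (LK LD1_c11 LD2_c37 LD3_c20))))))))))))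
theorem f137770 : Led Lsl_ct (LP (LK LD1_c2 LD2_c54 LD3_c24)) = (LP (LK LD1_c5 LD2_c56 LD3_c4)) :=
  Lre_c IH (LK LD1_c2 LD2_c54 LD3_c24) (LK LD1_c5 LD2_c56 LD3_c4) Lrfl Lrfl
theorem f149581 : Led Lsl_dt (LP (LK LD1_c1 LD2_c23 LD3_c11)) = (LP (LK LD1_c2 LD2_c54 LD3_c24)) :=
  Lre_d IH (LK LD1_c1 LD2_c23 LD3_c11) (LK LD1_c2 LD2_c54 LD3_c24) Lrfl Lrfl
theorem f149582 : Led Lsl_gt (LP (LK LD1_c2 LD2_c9 LD3_c46)) = (LP (LK LD1_c1 LD2_c23 LD3_c11)) :=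
  Lgr Lrot49 (Lpe (K2.f35248 IH) (Lpr_gf (K6.f81795 IH) (Lpe (K4.f81797 IH) (Lpr_gt (f81789 IH) (Lpe (f119909 IH) (Lpr_gt (f149578 IH) (Lpr_dt (K6.f119702 IH) (Lpe (f137770 IH) (Lpe (f149581 IH) (Lpn (LP (LK LD1_c1 LD2_c23 LD3_c11))))))))))))
theorem f149586 : Led Lsl_at (LP (LK LD1_c2 LD2_c9 LD3_c44)) = (LP (LK LD1_c1 LD2_c23 LD3_c11)) :=
  Lgr Lrot26 (Lpr_ff (K6.f137837 IH) (Lpe (K6.f81818 IH) (Lpr_gt (f149582 IH) (Lpn (LP (LK LD1_c1 LD2_c23 LD3_c11))))))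
theorem f136248 : Led Lsl_bt (LP (LK LD1_c1 LD2_c21 LD3_c53)) = (LP (LK LD1_c0 LD2_c37 LD3_c54)) :=
  Lre_b IH (LK LD1_c1 LD2_c21 LD3_c53) (LK LD1_c0 LD2_c37 LD3_c54) Lrfl Lrfl
theorem f136249 : Led Lsl_dt (LP (LK LD1_c2 LD2_c50 LD3_c9)) = (LP (LK LD1_c1 LD2_c21 LD3_c53)) :=
  Lgr Lrot79 (Lpe (K6.f56770 IH) (Lpr_df (K6.f136246 IH) (Lpe (f136248 IH) (Lpn (LP (LK LD1_c1 LD2_c21 LD3_c53))))))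
theorem f56771 : Led Lsl_ct (LP (LK LD1_c2 LD2_c57 LD3_c15)) = (LP (LK LD1_c2 LD2_c50 LD3_c9)) :=
  Lgr Lrot59 (Lpr_cf (K6.f56764 IH) (Lpn (LP (LK LD1_c2 LD2_c50 LD3_c9))))
theorem f149665 : Led Lsl_dt (LP (LK LD1_c1 LD2_c34 LD3_c31)) = (LP (LK LD1_c2 LD2_c57 LD3_c15)) :=
  Lgr Lrot140 (Lpe (K6.f65551 IH) (Lpe (K6.f119731 IH) (Lpe (K6.f82011 IH) (Lpe (K6.f81823 IH) (Lpe (K6.f137837 IH) (Lpr_at (f149586 IH) (Lpe (K6.f24075 IH) (Lpe (f136249 IH) (Lpe (f56771 IH) (Lpn (LP (LK LD1_c2 LD2_c57 LD3_c15))))))))))))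
theorem f24070 : Led Lsl_dt (LP (LK LD1_c1 LD2_c23 LD3_c16)) = (LP (LK LD1_c2 LD2_c54 LD3_c41)) :=
  Lre_d IH (LK LD1_c1 LD2_c23 LD3_c16) (LK LD1_c2 LD2_c54 LD3_c41) Lrfl Lrfl
theorem f35249 : Led Lsl_ct (LP (LK LD1_c8 LD2_c46 LD3_c42)) = (LP (LK LD1_c4 LD2_c24 LD3_c35)) :=
  Lre_c IH (LK LD1_c8 LD2_c46 LD3_c42) (LK LD1_c4 LD2_c24 LD3_c35) Lrfl Lrfl
theorem f35246 : Led Lsl_dt (LP (LK LD1_c1 LD2_c4 LD3_c34)) = (LP (LK LD1_c2 LD2_c14 LD3_c53)) :=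
  Lre_d IH (LK LD1_c1 LD2_c4 LD3_c34) (LK LD1_c2 LD2_c14 LD3_c53) Lrfl Lrfl
theorem f35247 : Led Lsl_ct (LP (LK LD1_c2 LD2_c14 LD3_c53)) = (LP (LK LD1_c4 LD2_c35 LD3_c21)) :=
  Lre_c IH (LK LD1_c2 LD2_c14 LD3_c53) (LK LD1_c4 LD2_c35 LD3_c21) Lrfl Lrfl
theorem f149569 : Led Lsl_dt (LP (LK LD1_c4 LD2_c35 LD3_c21)) = (LP (LK LD1_c3 LD2_c15 LD3_c33)) :=
  Lgr Lrot173 (Lpe (f35247 IH) (Lpe (f35246 IH) (Lpr_cf (K2.f35220 IH) (Lpe (K2.f35248 IH) (Lpe (f35249 IH) (Lpe (K6.f71866 IH) (Lpe (K6.f71876 IH) (Lpe (f24070 IH) (Lpe (K4.f23913 IH) (Lpe (K6.f24072 IH) (Lpe (K6.f24073 IH) (Lpe (K2.f69452 IH) (Lpe (K4.f69447 IH) (Lpe (f71904 IH) (Lpr_cf (f149547 IH) (Lpn (LP (LK LD1_c3 LD2_c15 LD3_c33))))))))))))))))))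
theorem f119918 : Led Lsl_ct (LP (LK LD1_c2 LD2_c54 LD3_c39)) = (LP (LK LD1_c5 LD2_c47 LD3_c44)) :=
  Lgr Lrot40 (Lpr_ff (K4.f119904 IH) (Lpr_cf (K4.f117501 IH) (Lpe (K4.f117526 IH) (Lpn (LP (LK LD1_c5 LD2_c47 LD3_c44))))))
theorem f117538 : Led Lsl_gt (LP (LK LD1_c5 LD2_c47 LD3_c44)) = (LP (LK LD1_c4 LD2_c58 LD3_c29)) :=
  Lgr Lrot5 (Lpr_ft (K4.f117526 IH) (Lpr_at (K4.f24061 IH) (Lpr_gf (K6.f24078 IH) (Lpn (LP (LK LD1_c4 LD2_c58 LD3_c29))))))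
theorem f149678 : Led Lsl_dt (LP (LK LD1_c1 LD2_c21 LD3_c53)) = (LP (LK LD1_c2 LD2_c50 LD3_c9)) :=
  Lgr Lrot105 (Lpe (K6.f24076 IH) (Lpe (K6.f24077 IH) (Lpe (f117538 IH) (Lpe (f119918 IH) (Lpr_gt (K4.f83029 IH) (Lpr_dt (f149569 IH) (Lpr_gt (f65552 IH) (Lpr_dt (f149665 IH) (Lpr_cf (K6.f56764 IH) (Lpn (LP (LK LD1_c2 LD2_c50 LD3_c9))))))))))))
theorem f56802 : Led Lsl_at (LP (LK LD1_c2 LD2_c50 LD3_c9)) = (LP (LK LD1_c5 LD2_c48 LD3_c14)) :=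
  Lre_a IH (LK LD1_c2 LD2_c50 LD3_c9) (LK LD1_c5 LD2_c48 LD3_c14) Lrfl Lrfl
theorem f149684 : Led Lsl_df (LP (LK LD1_c2 LD2_c51 LD3_c40)) = (LP (LK LD1_c5 LD2_c48 LD3_c14)) :=
  Lgr Lrot18 (Lpr_at (K6.f119684 IH) (Lpr_dt (f149678 IH) (Lpr_at (f56802 IH) (Lpn (LP (LK LD1_c5 LD2_c48 LD3_c14))))))
theorem f149692 : Led Lsl_dt (LP (LK LD1_c2 LD2_c51 LD3_c40)) = (LP (LK LD1_c5 LD2_c48 LD3_c14)) :=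
  Lgr Lrot42 (Lpr_df (f149684 IH) (Lpn (LP (LK LD1_c5 LD2_c48 LD3_c14))))
theorem f70526 : Led Lsl_bt (LP (LK LD1_c2 LD2_c9 LD3_c50)) = (LP (LK LD1_c4 LD2_c24 LD3_c42)) :=
  Lre_b IH (LK LD1_c2 LD2_c9 LD3_c50) (LK LD1_c4 LD2_c24 LD3_c42) Lrfl Lrfl
theorem f36008 : Led Lsl_ct (LP (LK LD1_c4 LD2_c24 LD3_c42)) = (LP (LK LD1_c4 LD2_c25 LD3_c46)) :=
  Lre_c IH (LK LD1_c4 LD2_c24 LD3_c42) (LK LD1_c4 LD2_c25 LD3_c46) Lrfl Lrfl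
theorem f137835 : Led Lsl_cf (LP (LK LD1_c2 LD2_c9 LD3_c44)) = (LP (LK LD1_c2 LD2_c51 LD3_c40)) :=
  Lgr Lrot11 (Lpr_ct (K6.f137833 IH) (Lpn (LP (LK LD1_c2 LD2_c51 LD3_c40))))
theorem f137874 : Led Lsl_bt (LP (LK LD1_c4 LD2_c25 LD3_c46)) = (LP (LK LD1_c2 LD2_c51 LD3_c40)) :=
  Lgr Lrot128 (Lpe (f36008 IH) (Lpe (f70526 IH) (Lpr_cf (K6.f137868 IH) (Lpe (K6.f137680 IH) (Lpr_cf (f137835 IH) (Lpn (LP (LK LD1_c2 LD2_c51 LD3_c40))))))))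
theorem f149697 : Led Lsl_bf (LP (LK LD1_c6 LD2_c44 LD3_c21)) = (LP (LK LD1_c5 LD2_c48 LD3_c14)) :=
  Lgr Lrot93 (Lpe (K6.f141735 IH) (Lpr_bt (f137874 IH) (Lpr_dt (f149692 IH) (Lpn (LP (LK LD1_c5 LD2_c48 LD3_c14))))))
theorem f26862 : Led Lsl_ct (LP (LK LD1_c1 LD2_c5 LD3_c4)) = (LP (LK LD1_c2 LD2_c16 LD3_c18)) :=
  Lre_c IH (LK LD1_c1 LD2_c5 LD3_c4) (LK LD1_c2 LD2_c16 LD3_c18) Lrfl Lrfl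
theorem f149703 : Led Lsl_cf (LP (LK LD1_c4 LD2_c38 LD3_c30)) = (LP (LK LD1_c5 LD2_c48 LD3_c14)) :=
  Lgr Lrot58 (Lpe (K6.f61661 IH) (Lpe (f26862 IH) (Lpr_bt (K6.f26360 IH) (Lpe (K0.f20082 IH) (Lpe (K0.f26378 IH) (Lpr_ct (K0.f26379 IH) (Lpe (K0.f26380 IH) (Lpe (K0.f26381 IH) (Lpr_gf (K6.f141752 IH) (Lpr_bf (f149697 IH) (Lpn (LP (LK LD1_c5 LD2_c48 LD3_c14)))))))))))))
theorem f110995 : Led Lsl_at (LP (LK LD1_c3 LD2_c15 LD3_c16)) = (LP (LK LD1_c6 LD2_c33 LD3_c57)) :=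
  Lre_a IH (LK LD1_c3 LD2_c15 LD3_c16) (LK LD1_c6 LD2_c33 LD3_c57) Lrfl Lrfl
theorem f137683 : Led Lsl_ct (LP (LK LD1_c3 LD2_c15 LD3_c34)) = (LP (LK LD1_c6 LD2_c33 LD3_c57)) :=
  Lre_c IH (LK LD1_c3 LD2_c15 LD3_c34) (LK LD1_c6 LD2_c33 LD3_c57) Lrfl Lrfl
theorem f149712 : Led Lsl_dt (LP (LK LD1_c4 LD2_c38 LD3_c30)) = (LP (LK LD1_c3 LD2_c15 LD3_c34)) :=
  Lgr Lrot120 (Lpr_cf (f149703 IH) (Lpe (f149692 IH) (Lpe (K6.f137833 IH) (Lpr_df (K6.f137659 IH) (Lpe (K6.f99259 IH) (Lpe (K6.f137646 IH) (Lpe (K6.f110954 IH) (Lpr_at (f110995 IH) (Lpe (f137683 IH) (Lpn (LP (LK LD1_c3 LD2_c15 LD3_c34))))))))))))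
theorem f137741 : Led Lsl_ff (LP (LK LD1_c5 LD2_c56 LD3_c44)) = (LP (LK LD1_c3 LD2_c15 LD3_c34)) :=
  Lgr Lrot3 (Lpr_ft (K6.f137738 IH) (Lpn (LP (LK LD1_c3 LD2_c15 LD3_c34))))
theorem f149721 : Led Lsl_ff (LP (LK LD1_c4 LD2_c38 LD3_c30)) = (LP (LK LD1_c2 LD2_c57 LD3_c14)) :=
  Lgr Lrot19 (Lpr_dt (f149712 IH) (Lpe (f137741 IH) (Lpr_dt (K6.f137745 IH) (Lpn (LP (LK LD1_c2 LD2_c57 LD3_c14))))))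
theorem f124526 : Led Lsl_bt (LP (LK LD1_c4 LD2_c38 LD3_c30)) = (LP (LK LD1_c9 LD2_c12 LD3_c53)) :=
  Lre_b IH (LK LD1_c4 LD2_c38 LD3_c30) (LK LD1_c9 LD2_c12 LD3_c53) Lrfl Lrfl
theorem f82008 : Led Lsl_bt (LP (LK LD1_c6 LD2_c2 LD3_c17)) = (LP (LK LD1_c2 LD2_c57 LD3_c14)) :=
  Lre_b IH (LK LD1_c6 LD2_c2 LD3_c17) (LK LD1_c2 LD2_c57 LD3_c14) Lrfl Lrfl
theorem f149737 : Led Lsl_ft (LP (LK LD1_c9 LD2_c12 LD3_c53)) = (LP (LK LD1_c6 LD2_c2 LD3_c17)) :=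
  Lgr Lrot75 (Lpe (f124526 IH) (Lpr_ff (f149721 IH) (Lpe (f82008 IH) (Lpn (LP (LK LD1_c6 LD2_c2 LD3_c17))))))
theorem f149739 : Led Lsl_af (LP (LK LD1_c3 LD2_c15 LD3_c53)) = (LP (LK LD1_c6 LD2_c2 LD3_c17)) :=
  Lgr Lrot45 (Lpr_ft (K4.f115611 IH) (Lpe (K6.f141709 IH) (Lpr_ft (f149737 IH) (Lpn (LP (LK LD1_c6 LD2_c2 LD3_c17))))))
theorem f65383 : Led Lsl_gt (LP (LK LD1_c6 LD2_c35 LD3_c1)) = (LP (LK LD1_c3 LD2_c15 LD3_c53)) :=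
  Lre_g IH (LK LD1_c6 LD2_c35 LD3_c1) (LK LD1_c3 LD2_c15 LD3_c53) Lrfl Lrfl
theorem f149746 : Led Lsl_gt (LP (LK LD1_c9 LD2_c12 LD3_c53)) = (LP (LK LD1_c6 LD2_c35 LD3_c1)) :=
  Lgr Lrot5 (Lpr_ft (f149737 IH) (Lpe (f149739 IH) (Lpe (f65383 IH) (Lpn (LP (LK LD1_c6 LD2_c35 LD3_c1))))))
theorem f148673 : Led Lsl_ct (LP (LK LD1_c6 LD2_c30 LD3_c52)) = (LP (LK LD1_c3 LD2_c42 LD3_c18)) :=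
  Lgr Lrot59 (Lpr_cf (f148642 IH) (Lpn (LP (LK LD1_c3 LD2_c42 LD3_c18))))
theorem f144669 : Led Lsl_bt (LP (LK LD1_c3 LD2_c42 LD3_c18)) = (LP (LK LD1_c7 LD2_c25 LD3_c18)) :=
  Lre_b IH (LK LD1_c3 LD2_c42 LD3_c18) (LK LD1_c7 LD2_c25 LD3_c18) Lrfl Lrfl
theorem f123481 : Led Lsl_ct (LP (LK LD1_c7 LD2_c24 LD3_c61)) = (LP (LK LD1_c3 LD2_c49 LD3_c58)) :=
  Lgr Lrot59 (Lpr_cf (K5.f122705 IH) (Lpn (LP (LK LD1_c3 LD2_c49 LD3_c58))))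
theorem f87371 : Led Lsl_dt (LP (LK LD1_c0 LD2_c52 LD3_c45)) = (LP (LK LD1_c1 LD2_c51 LD3_c61)) :=
  Lre_d IH (LK LD1_c0 LD2_c52 LD3_c45) (LK LD1_c1 LD2_c51 LD3_c61) Lrfl Lrfl
theorem f115586 : Led Lsl_at (LP (LK LD1_c3 LD2_c1 LD3_c54)) = (LP (LK LD1_c6 LD2_c10 LD3_c31)) :=
  Lre_a IH (LK LD1_c3 LD2_c1 LD3_c54) (LK LD1_c6 LD2_c10 LD3_c31) Lrfl Lrfl
theorem f115598 : Led Lsl_gt (LP (LK LD1_c3 LD2_c15 LD3_c50)) = (LP (LK LD1_c6 LD2_c10 LD3_c31)) :=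
  Lgr Lrot46 (Lpe (K4.f62952 IH) (Lpr_ft (K4.f115579 IH) (Lpr_at (f115586 IH) (Lpn (LP (LK LD1_c6 LD2_c10 LD3_c31))))))
theorem f147501 : Led Lsl_bt (LP (LK LD1_c3 LD2_c13 LD3_c55)) = (LP (LK LD1_c1 LD2_c33 LD3_c31)) :=
  Lre_b IH (LK LD1_c3 LD2_c13 LD3_c55) (LK LD1_c1 LD2_c33 LD3_c31) Lrfl Lrfl
theorem f147495 : Led Lsl_ct (LP (LK LD1_c3 LD2_c20 LD3_c20)) = (LP (LK LD1_c3 LD2_c13 LD3_c55)) :=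
  Lgr Lrot59 (Lpr_cf (K6.f147492 IH) (Lpn (LP (LK LD1_c3 LD2_c13 LD3_c55))))
theorem f148691 : Led Lsl_dt (LP (LK LD1_c6 LD2_c10 LD3_c31)) = (LP (LK LD1_c9 LD2_c12 LD3_c53)) :=
  Lgr Lrot182 (Lpe (f115598 IH) (Lpe (K4.f117104 IH) (Lpe (K4.f63507 IH) (Lpe (f87371 IH) (Lpe (K5.f65963 IH) (Lpe (K5.f65964 IH) (Lpe (f123481 IH) (Lpe (K6.f122694 IH) (Lpe (K6.f144760 IH) (Lpe (f144669 IH) (Lpe (f148673 IH) (Lpr_df (f148681 IH) (Lpe (f22499 IH) (Lpe (f147501 IH) (Lpe (f147495 IH) (Lpe (K6.f56829 IH) (Lpe (K6.f139698 IH) (Lpe (K6.f141720 IH) (Lpr_cf (K6.f124511 IH) (Lpn (LP (LK LD1_c9 LD2_c12 LD3_c53))))))))))))))))))))))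
theorem f117106 : Led Lsl_ct (LP (LK LD1_c3 LD2_c17 LD3_c11)) = (LP (LK LD1_c3 LD2_c15 LD3_c50)) :=
  Lgr Lrot59 (Lpr_cf (K4.f117101 IH) (Lpn (LP (LK LD1_c3 LD2_c15 LD3_c50))))
theorem f117035 : Led Lsl_dt (LP (LK LD1_c3 LD2_c15 LD3_c59)) = (LP (LK LD1_c6 LD2_c35 LD3_c15)) :=
  Lre_d IH (LK LD1_c3 LD2_c15 LD3_c59) (LK LD1_c6 LD2_c35 LD3_c15) Lrfl Lrfl
theorem f141682 : Led Lsl_gt (LP (LK LD1_c6 LD2_c37 LD3_c38)) = (LP (LK LD1_c6 LD2_c34 LD3_c59)) :=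
  Lgr Lrot49 (Lpe (K4.f117904 IH) (Lpr_gf (K6.f141677 IH) (Lpe (f65267 IH) (Lpr_gt (K6.f65277 IH) (Lpe (K6.f141622 IH) (Lpr_gt (K6.f118661 IH) (Lpe (K6.f119895 IH) (Lpr_cf (K6.f119979 IH) (Lpe (K6.f119603 IH) (Lpn (LP (LK LD1_c6 LD2_c34 LD3_c59))))))))))))
theorem f141686 : Led Lsl_gf (LP (LK LD1_c6 LD2_c35 LD3_c15)) = (LP (LK LD1_c6 LD2_c34 LD3_c59)) :=
  Lgr Lrot76 (Lpe (K4.f119975 IH) (Lpr_ff (K4.f119981 IH) (Lpr_gt (f141682 IH) (Lpn (LP (LK LD1_c6 LD2_c34 LD3_c59))))))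
theorem f97711 : Led Lsl_dt (LP (LK LD1_c3 LD2_c15 LD3_c50)) = (LP (LK LD1_c6 LD2_c34 LD3_c57)) :=
  Lre_d IH (LK LD1_c3 LD2_c15 LD3_c50) (LK LD1_c6 LD2_c34 LD3_c57) Lrfl Lrfl
theorem f117117 : Led Lsl_ff (LP (LK LD1_c6 LD2_c37 LD3_c40)) = (LP (LK LD1_c6 LD2_c34 LD3_c57)) :=
  Lgr Lrot19 (Lpr_dt (K4.f117069 IH) (Lpr_ft (K4.f117112 IH) (Lpr_dt (f97711 IH) (Lpn (LP (LK LD1_c6 LD2_c34 LD3_c57))))))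
theorem f119632 : Led Lsl_at (LP (LK LD1_c6 LD2_c37 LD3_c41)) = (LP (LK LD1_c6 LD2_c34 LD3_c57)) :=
  Lgr Lrot66 (Lpr_ff (K6.f119630 IH) (Lpe (K6.f119610 IH) (Lpr_ff (f117117 IH) (Lpn (LP (LK LD1_c6 LD2_c34 LD3_c57))))))
theorem f141688 : Led Lsl_gt (LP (LK LD1_c6 LD2_c35 LD3_c15)) = (LP (LK LD1_c6 LD2_c34 LD3_c57)) :=
  Lgr Lrot46 (Lpr_gf (f141686 IH) (Lpe (K6.f119630 IH) (Lpr_at (f119632 IH) (Lpn (LP (LK LD1_c6 LD2_c34 LD3_c57))))))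
theorem f117075 : Led Lsl_dt (LP (LK LD1_c1 LD2_c35 LD3_c11)) = (LP (LK LD1_c3 LD2_c17 LD3_c11)) :=
  Lre_d IH (LK LD1_c1 LD2_c35 LD3_c11) (LK LD1_c3 LD2_c17 LD3_c11) Lrfl Lrfl
theorem f149748 : Led Lsl_df (LP (LK LD1_c3 LD2_c17 LD3_c9)) = (LP (LK LD1_c6 LD2_c35 LD3_c1)) :=
  Lgr Lrot153 (Lpr_gt (f98863 IH) (Lpr_dt (f117075 IH) (Lpr_cf (K4.f117101 IH) (Lpe (K6.f115600 IH) (Lpe (f141688 IH) (Lpe (f117035 IH) (Lpe (K6.f117041 IH) (Lpr_cf (K6.f124511 IH) (Lpr_gt (f149746 IH) (Lpn (LP (LK LD1_c6 LD2_c35 LD3_c1))))))))))))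
theorem f148864 : Led Lsl_bt (LP (LK LD1_c4 LD2_c37 LD3_c49)) = (LP (LK LD1_c3 LD2_c17 LD3_c9)) :=
  Lgr Lrot127 (Lpr_bf (f148858 IH) (Lpn (LP (LK LD1_c3 LD2_c17 LD3_c9))))
theorem f148902 : Led Lsl_ff (LP (LK LD1_c6 LD2_c35 LD3_c13)) = (LP (LK LD1_c3 LD2_c17 LD3_c9)) :=
  Lgr Lrot25 (Lpr_bt (K6.f141720 IH) (Lpe (f148851 IH) (Lpr_bt (f148864 IH) (Lpn (LP (LK LD1_c3 LD2_c17 LD3_c9))))))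
theorem f149741 : Led Lsl_cf (LP (LK LD1_c3 LD2_c17 LD3_c9)) = (LP (LK LD1_c6 LD2_c2 LD3_c17)) :=
  Lgr Lrot108 (Lpe (f148902 IH) (Lpr_ct (K6.f124527 IH) (Lpr_ft (f149737 IH) (Lpn (LP (LK LD1_c6 LD2_c2 LD3_c17))))))
theorem f130759 : Led Lsl_at (LP (LK LD1_c1 LD2_c26 LD3_c59)) = (LP (LK LD1_c0 LD2_c44 LD3_c3)) :=
  Lgr Lrot107 (Lpe (K3.f23037 IH) (Lpr_af (K5.f130686 IH) (Lpe (K2.f62851 IH) (Lpn (LP (LK LD1_c0 LD2_c44 LD3_c3))))))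
theorem f130761 : Led Lsl_af (LP (LK LD1_c1 LD2_c26 LD3_c59)) = (LP (LK LD1_c0 LD2_c44 LD3_c3)) :=
  Lgr Lrot0 (Lpr_at (f130759 IH) (Lpn (LP (LK LD1_c0 LD2_c44 LD3_c3))))
theorem f96735 : Led Lsl_bt (LP (LK LD1_c1 LD2_c34 LD3_c41)) = (LP (LK LD1_c0 LD2_c44 LD3_c3)) :=
  Lre_b IH (LK LD1_c1 LD2_c34 LD3_c41) (LK LD1_c0 LD2_c44 LD3_c3) Lrfl Lrfl
theorem f115585 : Led Lsl_at (LP (LK LD1_c3 LD2_c15 LD3_c52)) = (LP (LK LD1_c1 LD2_c34 LD3_c41)) :=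
  Lre_a IH (LK LD1_c3 LD2_c15 LD3_c52) (LK LD1_c1 LD2_c34 LD3_c41) Lrfl Lrfl
theorem f137736 : Led Lsl_bt (LP (LK LD1_c5 LD2_c56 LD3_c44)) = (LP (LK LD1_c3 LD2_c15 LD3_c52)) :=
  Lgr Lrot62 (Lpr_af (K6.f137732 IH) (Lpe (K4.f103584 IH) (Lpr_af (f130761 IH) (Lpe (f96735 IH) (Lpe (f115585 IH) (Lpn (LP (LK LD1_c3 LD2_c15 LD3_c52))))))))
theorem f137751 : Led Lsl_dt (LP (LK LD1_c3 LD2_c15 LD3_c52)) = (LP (LK LD1_c6 LD2_c2 LD3_c17)) :=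
  Lgr Lrot79 (Lpe (f137736 IH) (Lpr_df (K6.f137747 IH) (Lpe (f82008 IH) (Lpn (LP (LK LD1_c6 LD2_c2 LD3_c17))))))
theorem f149750 : Led Lsl_gt (LP (LK LD1_c6 LD2_c10 LD3_c29)) = (LP (LK LD1_c3 LD2_c15 LD3_c52)) :=
  Lgr Lrot49 (Lpe (K4.f117069 IH) (Lpe (K4.f87375 IH) (Lpr_cf (K4.f117101 IH) (Lpr_gt (f115598 IH) (Lpr_dt (f148691 IH) (Lpr_gt (f149746 IH) (Lpe (f149748 IH) (Lpr_cf (f149741 IH) (Lpe (f137751 IH) (Lpn (LP (LK LD1_c3 LD2_c15 LD3_c52))))))))))))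
theorem f149752 : Led Lsl_cf (LP (LK LD1_c6 LD2_c2 LD3_c17)) = (LP (LK LD1_c3 LD2_c17 LD3_c9)) :=
  Lgr Lrot14 (Lpe (f137751 IH) (Lpe (f149750 IH) (Lpe (K4.f117069 IH) (Lpe (K4.f87375 IH) (Lpr_ct (f117106 IH) (Lpr_gt (f115598 IH) (Lpr_dt (f148691 IH) (Lpr_gt (f149746 IH) (Lpe (f149748 IH) (Lpn (LP (LK LD1_c3 LD2_c17 LD3_c9))))))))))))
theorem f82019 : Led Lsl_gt (LP (LK LD1_c11 LD2_c48 LD3_c57)) = (LP (LK LD1_c6 LD2_c2 LD3_c17)) :=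
  Lre_g IH (LK LD1_c11 LD2_c48 LD3_c57) (LK LD1_c6 LD2_c2 LD3_c17) Lrfl Lrfl
theorem f130922 : Led Lsl_bt (LP (LK LD1_c1 LD2_c35 LD3_c26)) = (LP (LK LD1_c3 LD2_c16 LD3_c15)) :=
  Lre_b IH (LK LD1_c1 LD2_c35 LD3_c26) (LK LD1_c3 LD2_c16 LD3_c15) Lrfl Lrfl
theorem f98890 : Led Lsl_gt (LP (LK LD1_c3 LD2_c16 LD3_c15)) = (LP (LK LD1_c6 LD2_c33 LD3_c40)) :=
  Lre_g IH (LK LD1_c3 LD2_c16 LD3_c15) (LK LD1_c6 LD2_c33 LD3_c40) Lrfl Lrfl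
theorem f98889 : Led Lsl_bt (LP (LK LD1_c12 LD2_c34 LD3_c16)) = (LP (LK LD1_c6 LD2_c33 LD3_c40)) :=
  Lre_b IH (LK LD1_c12 LD2_c34 LD3_c16) (LK LD1_c6 LD2_c33 LD3_c40) Lrfl Lrfl
theorem f149760 : Led Lsl_cf (LP (LK LD1_c11 LD2_c48 LD3_c57)) = (LP (LK LD1_c12 LD2_c34 LD3_c16)) :=
  Lgr Lrot160 (Lpr_gt (f82019 IH) (Lpr_cf (f149752 IH) (Lpe (f148858 IH) (Lpr_gt (f79967 IH) (Lpr_ct (f40600 IH) (Lpr_gt (K4.f26401 IH) (Lpe (K6.f75056 IH) (Lpr_bt (f130922 IH) (Lpr_gt (f98890 IH) (Lpe (f98889 IH) (Lpn (LP (LK LD1_c12 LD2_c34 LD3_c16)))))))))))))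
theorem f40579 : Led Lsl_gt (LP (LK LD1_c6 LD2_c33 LD3_c40)) = (LP (LK LD1_c3 LD2_c15 LD3_c7)) :=
  Lre_g IH (LK LD1_c6 LD2_c33 LD3_c40) (LK LD1_c3 LD2_c15 LD3_c7) Lrfl Lrfl
theorem f79383 : Led Lsl_bt (LP (LK LD1_c1 LD2_c34 LD3_c13)) = (LP (LK LD1_c3 LD2_c15 LD3_c7)) :=
  Lre_b IH (LK LD1_c1 LD2_c34 LD3_c13) (LK LD1_c3 LD2_c15 LD3_c7) Lrfl Lrfl
theorem f141563 : Led Lsl_cf (LP (LK LD1_c6 LD2_c10 LD3_c32)) = (LP (LK LD1_c3 LD2_c17 LD3_c8)) :=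
  Lgr Lrot11 (Lpr_ct (K6.f141558 IH) (Lpn (LP (LK LD1_c3 LD2_c17 LD3_c8))))
theorem f149767 : Led Lsl_gf (LP (LK LD1_c11 LD2_c48 LD3_c57)) = (LP (LK LD1_c6 LD2_c10 LD3_c32)) :=
  Lgr Lrot129 (Lpr_cf (f149760 IH) (Lpr_bt (f98889 IH) (Lpr_gt (f40579 IH) (Lpe (f79383 IH) (Lpr_ct (K1.f62005 IH) (Lpr_gt (K3.f13806 IH) (Lpe (K3.f61997 IH) (Lpr_bt (K6.f94790 IH) (Lpr_gt (K6.f61941 IH) (Lpe (f141563 IH) (Lpn (LP (LK LD1_c6 LD2_c10 LD3_c32)))))))))))))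
theorem f149771 : Led Lsl_dt (LP (LK LD1_c11 LD2_c48 LD3_c57)) = (LP (LK LD1_c6 LD2_c35 LD3_c2)) :=
  Lgr Lrot57 (Lpr_gf (f149767 IH) (Lpr_cf (f141563 IH) (Lpr_gt (K6.f118661 IH) (Lpe (K6.f119895 IH) (Lpe (K6.f141620 IH) (Lpr_dt (K6.f119634 IH) (Lpr_cf (K4.f119567 IH) (Lpe (K4.f117904 IH) (Lpr_gf (K6.f141677 IH) (Lpn (LP (LK LD1_c6 LD2_c35 LD3_c2))))))))))))
theorem f149790 : Led Lsl_ff (LP (LK LD1_c11 LD2_c48 LD3_c57)) = (LP (LK LD1_c6 LD2_c35 LD3_c0)) :=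
  Lgr Lrot19 (Lpr_dt (f149771 IH) (Lpr_ft (K6.f141572 IH) (Lpr_dt (K6.f141627 IH) (Lpn (LP (LK LD1_c6 LD2_c35 LD3_c0))))))
theorem f149796 : Led Lsl_at (LP (LK LD1_c11 LD2_c48 LD3_c57)) = (LP (LK LD1_c6 LD2_c35 LD3_c1)) :=
  Lgr Lrot26 (Lpr_ff (f149790 IH) (Lpe (K6.f141714 IH) (Lpr_gt (f149746 IH) (Lpn (LP (LK LD1_c6 LD2_c35 LD3_c1))))))
theorem f149798 : Led Lsl_af (LP (LK LD1_c11 LD2_c48 LD3_c57)) = (LP (LK LD1_c6 LD2_c35 LD3_c1)) :=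
  Lgr Lrot0 (Lpr_at (f149796 IH) (Lpn (LP (LK LD1_c6 LD2_c35 LD3_c1))))
theorem f149806 : Led Lsl_dt (LP (LK LD1_c3 LD2_c17 LD3_c9)) = (LP (LK LD1_c6 LD2_c35 LD3_c1)) :=
  Lgr Lrot44 (Lpe (f141574 IH) (Lpe (f149771 IH) (Lpr_af (f149798 IH) (Lpn (LP (LK LD1_c6 LD2_c35 LD3_c1))))))
theorem f118664 : Led Lsl_ct (LP (LK LD1_c6 LD2_c35 LD3_c14)) = (LP (LK LD1_c12 LD2_c36 LD3_c29)) :=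
  Lre_c IH (LK LD1_c6 LD2_c35 LD3_c14) (LK LD1_c12 LD2_c36 LD3_c29) Lrfl Lrfl
theorem f118778 : Led Lsl_ft (LP (LK LD1_c12 LD2_c40 LD3_c37)) = (LP (LK LD1_c11 LD2_c36 LD3_c37)) :=
  Lgr Lrot48 (Lpr_ff (K6.f118771 IH) (Lpn (LP (LK LD1_c11 LD2_c36 LD3_c37))))
theorem f118764 : Led Lsl_bf (LP (LK LD1_c12 LD2_c36 LD3_c29)) = (LP (LK LD1_c11 LD2_c36 LD3_c37)) :=
  Lgr Lrot81 (Lpr_at (K6.f117067 IH) (Lpr_bt (K6.f118715 IH) (Lpe (K5.f118684 IH) (Lpr_bt (K6.f118704 IH) (Lpr_at (K6.f118760 IH) (Lpn (LP (LK LD1_c11 LD2_c36 LD3_c37))))))))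
theorem f118780 : Led Lsl_ff (LP (LK LD1_c6 LD2_c37 LD3_c27)) = (LP (LK LD1_c12 LD2_c36 LD3_c29)) :=
  Lgr Lrot25 (Lpr_bt (K4.f79373 IH) (Lpr_ft (f118778 IH) (Lpe (f118764 IH) (Lpn (LP (LK LD1_c12 LD2_c36 LD3_c29))))))
theorem f117114 : Led Lsl_at (LP (LK LD1_c6 LD2_c37 LD3_c27)) = (LP (LK LD1_c3 LD2_c17 LD3_c2)) :=
  Lre_a IH (LK LD1_c6 LD2_c37 LD3_c27) (LK LD1_c3 LD2_c17 LD3_c2) Lrfl Lrfl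
theorem f66095 : Led Lsl_gt (LP (LK LD1_c6 LD2_c37 LD3_c26)) = (LP (LK LD1_c3 LD2_c17 LD3_c2)) :=
  Lre_g IH (LK LD1_c6 LD2_c37 LD3_c26) (LK LD1_c3 LD2_c17 LD3_c2) Lrfl Lrfl
theorem f118785 : Led Lsl_gf (LP (LK LD1_c6 LD2_c37 LD3_c26)) = (LP (LK LD1_c12 LD2_c36 LD3_c29)) :=
  Lgr Lrot47 (Lpr_gt (f66095 IH) (Lpe (f117114 IH) (Lpr_ff (f118780 IH) (Lpn (LP (LK LD1_c12 LD2_c36 LD3_c29))))))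
theorem f108688 : Led Lsl_dt (LP (LK LD1_c6 LD2_c34 LD3_c53)) = (LP (LK LD1_c3 LD2_c15 LD3_c46)) :=
  Lre_d IH (LK LD1_c6 LD2_c34 LD3_c53) (LK LD1_c3 LD2_c15 LD3_c46) Lrfl Lrfl
theorem f108689 : Led Lsl_gt (LP (LK LD1_c12 LD2_c36 LD3_c4)) = (LP (LK LD1_c6 LD2_c34 LD3_c53)) :=
  Lre_g IH (LK LD1_c12 LD2_c36 LD3_c4) (LK LD1_c6 LD2_c34 LD3_c53) Lrfl Lrfl
theorem f149814 : Led Lsl_dt (LP (LK LD1_c6 LD2_c37 LD3_c26)) = (LP (LK LD1_c12 LD2_c36 LD3_c4)) :=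
  Lgr Lrot57 (Lpr_gf (f118785 IH) (Lpe (f118664 IH) (Lpe (f118846 IH) (Lpr_dt (f149806 IH) (Lpr_gt (f65383 IH) (Lpr_dt (K4.f115591 IH) (Lpe (K4.f108687 IH) (Lpe (f108688 IH) (Lpe (f108689 IH) (Lpn (LP (LK LD1_c12 LD2_c36 LD3_c4))))))))))))
theorem f149818 : Led Lsl_df (LP (LK LD1_c6 LD2_c37 LD3_c26)) = (LP (LK LD1_c12 LD2_c36 LD3_c4)) :=
  Lgr Lrot38 (Lpr_dt (f149814 IH) (Lpn (LP (LK LD1_c12 LD2_c36 LD3_c4))))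
theorem f131601 : Led Lsl_bt (LP (LK LD1_c6 LD2_c28 LD3_c22)) = (LP (LK LD1_c12 LD2_c27 LD3_c54)) :=
  Lre_b IH (LK LD1_c6 LD2_c28 LD3_c22) (LK LD1_c12 LD2_c27 LD3_c54) Lrfl Lrfl
theorem f131621 : Led Lsl_dt (LP (LK LD1_c12 LD2_c27 LD3_c54)) = (LP (LK LD1_c6 LD2_c35 LD3_c11)) :=
  Lgr Lrot79 (Lpe (f131601 IH) (Lpr_df (K5.f131617 IH) (Lpe (K6.f118715 IH) (Lpn (LP (LK LD1_c6 LD2_c35 LD3_c11))))))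
theorem f141716 : Led Lsl_cf (LP (LK LD1_c12 LD2_c27 LD3_c54)) = (LP (LK LD1_c6 LD2_c37 LD3_c26)) :=
  Lgr Lrot175 (Lpr_dt (f131621 IH) (Lpe (K4.f117066 IH) (Lpe (K6.f117041 IH) (Lpr_cf (K6.f124511 IH) (Lpr_gf (K6.f141714 IH) (Lpe (K6.f141622 IH) (Lpr_gt (K6.f118661 IH) (Lpr_ct (f118664 IH) (Lpe (f118785 IH) (Lpn (LP (LK LD1_c6 LD2_c37 LD3_c26))))))))))))
theorem f119628 : Led Lsl_df (LP (LK LD1_c6 LD2_c37 LD3_c41)) = (LP (LK LD1_c6 LD2_c10 LD3_c30)) :=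
  Lgr Lrot78 (Lpr_ft (K6.f119624 IH) (Lpr_dt (K6.f119603 IH) (Lpe (K4.f119598 IH) (Lpn (LP (LK LD1_c6 LD2_c10 LD3_c30))))))
theorem f149849 : Led Lsl_ct (LP (LK LD1_c6 LD2_c37 LD3_c41)) = (LP (LK LD1_c12 LD2_c36 LD3_c4)) :=
  Lgr Lrot41 (Lpr_df (f119628 IH) (Lpr_cf (K4.f119567 IH) (Lpe (K4.f117904 IH) (Lpr_ft (K6.f118646 IH) (Lpr_at (K6.f118375 IH) (Lpe (K6.f117036 IH) (Lpe (f131621 IH) (Lpr_cf (f141716 IH) (Lpr_df (f149818 IH) (Lpn (LP (LK LD1_c12 LD2_c36 LD3_c4))))))))))))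
theorem f98862 : Led Lsl_dt (LP (LK LD1_c3 LD2_c17 LD3_c11)) = (LP (LK LD1_c1 LD2_c35 LD3_c11)) :=
  Lre_d IH (LK LD1_c3 LD2_c17 LD3_c11) (LK LD1_c1 LD2_c35 LD3_c11) Lrfl Lrfl
theorem f96737 : Led Lsl_gt (LP (LK LD1_c3 LD2_c15 LD3_c46)) = (LP (LK LD1_c6 LD2_c34 LD3_c50)) :=
  Lre_g IH (LK LD1_c3 LD2_c15 LD3_c46) (LK LD1_c6 LD2_c34 LD3_c50) Lrfl Lrfl
theorem f149853 : Led Lsl_df (LP (LK LD1_c6 LD2_c35 LD3_c46)) = (LP (LK LD1_c6 LD2_c34 LD3_c50)) :=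
  Lgr Lrot174 (Lpr_ct (K6.f141651 IH) (Lpe (K6.f141627 IH) (Lpe (K6.f61941 IH) (Lpe (f98862 IH) (Lpe (K6.f87389 IH) (Lpr_ct (f149849 IH) (Lpr_gt (f108689 IH) (Lpr_dt (f108688 IH) (Lpr_gt (f96737 IH) (Lpn (LP (LK LD1_c6 LD2_c34 LD3_c50))))))))))))
theorem f101907 : Led Lsl_gt (LP (LK LD1_c6 LD2_c35 LD3_c46)) = (LP (LK LD1_c12 LD2_c37 LD3_c33)) :=
  Lre_g IH (LK LD1_c6 LD2_c35 LD3_c46) (LK LD1_c12 LD2_c37 LD3_c33) Lrfl Lrfl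
theorem f115560 : Led Lsl_at (LP (LK LD1_c6 LD2_c10 LD3_c27)) = (LP (LK LD1_c12 LD2_c1 LD3_c34)) :=
  Lre_a IH (LK LD1_c6 LD2_c10 LD3_c27) (LK LD1_c12 LD2_c1 LD3_c34) Lrfl Lrfl
theorem f115567 : Led Lsl_gt (LP (LK LD1_c6 LD2_c34 LD3_c50)) = (LP (LK LD1_c12 LD2_c1 LD3_c34)) :=
  Lgr Lrot46 (Lpe (f96737 IH) (Lpr_ft (K4.f115557 IH) (Lpr_at (f115560 IH) (Lpn (LP (LK LD1_c12 LD2_c1 LD3_c34))))))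
theorem f115572 : Led Lsl_ct (LP (LK LD1_c12 LD2_c1 LD3_c34)) = (LP (LK LD1_c6 LD2_c10 LD3_c31)) :=
  Lre_c IH (LK LD1_c12 LD2_c1 LD3_c34) (LK LD1_c6 LD2_c10 LD3_c31) Lrfl Lrfl
theorem f119639 : Led Lsl_gt (LP (LK LD1_c6 LD2_c10 LD3_c31)) = (LP (LK LD1_c3 LD2_c15 LD3_c51)) :=
  Lgr Lrot46 (Lpe (f115598 IH) (Lpe (K4.f117121 IH) (Lpr_at (K6.f119601 IH) (Lpn (LP (LK LD1_c3 LD2_c15 LD3_c51))))))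
theorem f66094 : Led Lsl_ct (LP (LK LD1_c1 LD2_c35 LD3_c11)) = (LP (LK LD1_c3 LD2_c17 LD3_c2)) :=
  Lre_c IH (LK LD1_c1 LD2_c35 LD3_c11) (LK LD1_c3 LD2_c17 LD3_c2) Lrfl Lrfl
theorem f118648 : Led Lsl_ft (LP (LK LD1_c3 LD2_c17 LD3_c2)) = (LP (LK LD1_c6 LD2_c35 LD3_c11)) :=
  Lgr Lrot4 (Lpe (f66094 IH) (Lpr_ff (K4.f118642 IH) (Lpe (K6.f117036 IH) (Lpn (LP (LK LD1_c6 LD2_c35 LD3_c11))))))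
theorem f103836 : Led Lsl_gt (LP (LK LD1_c3 LD2_c17 LD3_c2)) = (LP (LK LD1_c6 LD2_c37 LD3_c25)) :=
  Lre_g IH (LK LD1_c3 LD2_c17 LD3_c2) (LK LD1_c6 LD2_c37 LD3_c25) Lrfl Lrfl
theorem f118748 : Led Lsl_at (LP (LK LD1_c6 LD2_c35 LD3_c11)) = (LP (LK LD1_c12 LD2_c36 LD3_c29)) :=
  Lre_a IH (LK LD1_c6 LD2_c35 LD3_c11) (LK LD1_c12 LD2_c36 LD3_c29) Lrfl Lrfl
theorem f118851 : Led Lsl_gt (LP (LK LD1_c6 LD2_c37 LD3_c25)) = (LP (LK LD1_c12 LD2_c36 LD3_c29)) :=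
  Lgr Lrot46 (Lpe (f103836 IH) (Lpr_ft (f118648 IH) (Lpr_at (f118748 IH) (Lpn (LP (LK LD1_c12 LD2_c36 LD3_c29))))))
theorem f149863 : Led Lsl_ct (LP (LK LD1_c12 LD2_c37 LD3_c33)) = (LP (LK LD1_c6 LD2_c37 LD3_c25)) :=
  Lgr Lrot152 (Lpe (f101907 IH) (Lpr_df (f149853 IH) (Lpr_gt (f115567 IH) (Lpr_ct (f115572 IH) (Lpr_gt (f119639 IH) (Lpe (K6.f119979 IH) (Lpr_df (K6.f119895 IH) (Lpe (K6.f118663 IH) (Lpe (f118851 IH) (Lpn (LP (LK LD1_c6 LD2_c37 LD3_c25))))))))))))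
theorem f66009 : Led Lsl_bt (LP (LK LD1_c1 LD2_c35 LD3_c11)) = (LP (LK LD1_c0 LD2_c44 LD3_c15)) :=
  Lre_b IH (LK LD1_c1 LD2_c35 LD3_c11) (LK LD1_c0 LD2_c44 LD3_c15) Lrfl Lrfl
theorem f79126 : Led Lsl_bt (LP (LK LD1_c3 LD2_c16 LD3_c38)) = (LP (LK LD1_c1 LD2_c34 LD3_c61)) :=
  Lre_b IH (LK LD1_c3 LD2_c16 LD3_c38) (LK LD1_c1 LD2_c34 LD3_c61) Lrfl Lrfl
theorem f79116 : Led Lsl_bt (LP (LK LD1_c3 LD2_c10 LD3_c45)) = (LP (LK LD1_c1 LD2_c31 LD3_c47)) :=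
  Lre_b IH (LK LD1_c3 LD2_c10 LD3_c45) (LK LD1_c1 LD2_c31 LD3_c47) Lrfl Lrfl
theorem f79117 : Led Lsl_bt (LP (LK LD1_c1 LD2_c34 LD3_c61)) = (LP (LK LD1_c3 LD2_c16 LD3_c38)) :=
  Lre_b IH (LK LD1_c1 LD2_c34 LD3_c61) (LK LD1_c3 LD2_c16 LD3_c38) Lrfl Lrfl
theorem f79118 : Led Lsl_cf (LP (LK LD1_c3 LD2_c10 LD3_c45)) = (LP (LK LD1_c3 LD2_c16 LD3_c38)) :=
  Lgr Lrot97 (Lpr_bt (f79116 IH) (Lpr_ct (K5.f69135 IH) (Lpr_bt (K5.f79115 IH) (Lpr_ct (K2.f79113 IH) (Lpr_bt (f79117 IH) (Lpn (LP (LK LD1_c3 LD2_c16 LD3_c38))))))))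
theorem f69137 : Led Lsl_gt (LP (LK LD1_c6 LD2_c25 LD3_c55)) = (LP (LK LD1_c3 LD2_c10 LD3_c45)) :=
  Lre_g IH (LK LD1_c6 LD2_c25 LD3_c55) (LK LD1_c3 LD2_c10 LD3_c45) Lrfl Lrfl
theorem f26508 : Led Lsl_gt (LP (LK LD1_c0 LD2_c44 LD3_c19)) = (LP (LK LD1_c1 LD2_c35 LD3_c24)) :=
  Lre_g IH (LK LD1_c0 LD2_c44 LD3_c19) (LK LD1_c1 LD2_c35 LD3_c24) Lrfl Lrfl
theorem f94129 : Led Lsl_bt (LP (LK LD1_c3 LD2_c17 LD3_c41)) = (LP (LK LD1_c1 LD2_c35 LD3_c24)) :=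
  Lre_b IH (LK LD1_c3 LD2_c17 LD3_c41) (LK LD1_c1 LD2_c35 LD3_c24) Lrfl Lrfl
theorem f103834 : Led Lsl_ct (LP (LK LD1_c3 LD2_c17 LD3_c41)) = (LP (LK LD1_c6 LD2_c25 LD3_c55)) :=
  Lgr Lrot64 (Lpr_bt (f94129 IH) (Lpe (f26508 IH) (Lpe (K4.f57108 IH) (Lpr_ct (K1.f24616 IH) (Lpe (K1.f61875 IH) (Lpe (K3.f61997 IH) (Lpr_gf (K3.f103812 IH) (Lpe (f79126 IH) (Lpe (f79118 IH) (Lpe (f69137 IH) (Lpn (LP (LK LD1_c6 LD2_c25 LD3_c55)))))))))))))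
theorem f103837 : Led Lsl_gt (LP (LK LD1_c6 LD2_c38 LD3_c51)) = (LP (LK LD1_c3 LD2_c17 LD3_c41)) :=
  Lre_g IH (LK LD1_c6 LD2_c38 LD3_c51) (LK LD1_c3 LD2_c17 LD3_c41) Lrfl Lrfl
theorem f149876 : Led Lsl_bt (LP (LK LD1_c12 LD2_c37 LD3_c33)) = (LP (LK LD1_c6 LD2_c38 LD3_c51)) :=
  Lgr Lrot130 (Lpr_ct (f149863 IH) (Lpe (f103836 IH) (Lpe (f66094 IH) (Lpr_bt (f66009 IH) (Lpr_gf (K3.f103812 IH) (Lpe (f79126 IH) (Lpe (f79118 IH) (Lpe (f69137 IH) (Lpe (f103834 IH) (Lpe (f103837 IH) (Lpn (LP (LK LD1_c6 LD2_c38 LD3_c51)))))))))))))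
theorem f103895 : Led Lsl_bt (LP (LK LD1_c1 LD2_c35 LD3_c24)) = (LP (LK LD1_c3 LD2_c17 LD3_c41)) :=
  Lre_b IH (LK LD1_c1 LD2_c35 LD3_c24) (LK LD1_c3 LD2_c17 LD3_c41) Lrfl Lrfl
theorem f103921 : Led Lsl_ct (LP (LK LD1_c1 LD2_c35 LD3_c24)) = (LP (LK LD1_c3 LD2_c17 LD3_c42)) :=
  Lre_c IH (LK LD1_c1 LD2_c35 LD3_c24) (LK LD1_c3 LD2_c17 LD3_c42) Lrfl Lrfl
theorem f139706 : Led Lsl_ct (LP (LK LD1_c6 LD2_c44 LD3_c21)) = (LP (LK LD1_c3 LD2_c20 LD3_c19)) :=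
  Lre_c IH (LK LD1_c6 LD2_c44 LD3_c21) (LK LD1_c3 LD2_c20 LD3_c19) Lrfl Lrfl
theorem f148920 : Led Lsl_ct (LP (LK LD1_c4 LD2_c37 LD3_c49)) = (LP (LK LD1_c4 LD2_c58 LD3_c21)) :=
  Lgr Lrot40 (Lpr_ff (f148851 IH) (Lpe (f139706 IH) (Lpr_ff (f148914 IH) (Lpn (LP (LK LD1_c4 LD2_c58 LD3_c21))))))
theorem f149878 : Led Lsl_gt (LP (LK LD1_c3 LD2_c17 LD3_c42)) = (LP (LK LD1_c4 LD2_c58 LD3_c21)) :=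
  Lgr Lrot65 (Lpe (f103921 IH) (Lpr_bt (f103895 IH) (Lpe (f103837 IH) (Lpe (f149876 IH) (Lpr_ct (f149863 IH) (Lpe (f103836 IH) (Lpe (f66094 IH) (Lpe (f98863 IH) (Lpe (f148864 IH) (Lpr_ct (f148920 IH) (Lpn (LP (LK LD1_c4 LD2_c58 LD3_c21)))))))))))))
theorem f56859 : Led Lsl_gt (LP (LK LD1_c1 LD2_c35 LD3_c27)) = (LP (LK LD1_c3 LD2_c17 LD3_c50)) :=
  Lre_g IH (LK LD1_c1 LD2_c35 LD3_c27) (LK LD1_c3 LD2_c17 LD3_c50) Lrfl Lrfl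
theorem f149882 : Led Lsl_ct (LP (LK LD1_c3 LD2_c17 LD3_c50)) = (LP (LK LD1_c6 LD2_c39 LD3_c12)) :=
  Lre_c IH (LK LD1_c3 LD2_c17 LD3_c50) (LK LD1_c6 LD2_c39 LD3_c12) Lrfl Lrfl
theorem f149883 : Led Lsl_gt (LP (LK LD1_c6 LD2_c39 LD3_c12)) = (LP (LK LD1_c12 LD2_c44 LD3_c6)) :=
  Lre_g IH (LK LD1_c6 LD2_c39 LD3_c12) (LK LD1_c12 LD2_c44 LD3_c6) Lrfl Lrfl
theorem f148928 : Led Lsl_cf (LP (LK LD1_c4 LD2_c37 LD3_c49)) = (LP (LK LD1_c4 LD2_c58 LD3_c21)) :=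
  Lgr Lrot108 (Lpr_ft (f148856 IH) (Lpr_ct (K6.f139703 IH) (Lpr_ft (f148924 IH) (Lpn (LP (LK LD1_c4 LD2_c58 LD3_c21))))))
theorem f149884 : Led Lsl_ct (LP (LK LD1_c12 LD2_c44 LD3_c6)) = (LP (LK LD1_c9 LD2_c10 LD3_c4)) :=
  Lgr Lrot110 (Lpe (f149883 IH) (Lpe (f149882 IH) (Lpe (f56859 IH) (Lpe (f56858 IH) (Lpr_gt (f26508 IH) (Lpr_ct (f103921 IH) (Lpr_gt (f149878 IH) (Lpe (f148928 IH) (Lpr_df (f141217 IH) (Lpn (LP (LK LD1_c9 LD2_c10 LD3_c4))))))))))))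
theorem f148792 : Led Lsl_dt (LP (LK LD1_c9 LD2_c10 LD3_c3)) = (LP (LK LD1_c4 LD2_c37 LD3_c48)) :=
  Lgr Lrot6 (Lpe (f141381 IH) (Lpr_ct (K6.f141379 IH) (Lpr_gt (K6.f141393 IH) (Lpr_ct (f63822 IH) (Lpe (K6.f99950 IH) (Lpe (K0.f26379 IH) (Lpe (f58856 IH) (Lpe (f93905 IH) (Lpr_gf (f148790 IH) (Lpn (LP (LK LD1_c4 LD2_c37 LD3_c48))))))))))))
theorem f20414 : Led Lsl_ct (LP (LK LD1_c2 LD2_c14 LD3_c28)) = (LP (LK LD1_c2 LD2_c15 LD3_c39)) :=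
  Lre_c IH (LK LD1_c2 LD2_c14 LD3_c28) (LK LD1_c2 LD2_c15 LD3_c39) Lrfl Lrfl
theorem f72261 : Led Lsl_dt (LP (LK LD1_c2 LD2_c15 LD3_c39)) = (LP (LK LD1_c4 LD2_c36 LD3_c51)) :=
  Lre_d IH (LK LD1_c2 LD2_c15 LD3_c39) (LK LD1_c4 LD2_c36 LD3_c51) Lrfl Lrfl
theorem f72355 : Led Lsl_ct (LP (LK LD1_c4 LD2_c36 LD3_c51)) = (LP (LK LD1_c9 LD2_c9 LD3_c32)) :=
  Lre_c IH (LK LD1_c4 LD2_c36 LD3_c51) (LK LD1_c9 LD2_c9 LD3_c32) Lrfl Lrfl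
theorem f149892 : Led Lsl_df (LP (LK LD1_c12 LD2_c44 LD3_c6)) = (LP (LK LD1_c9 LD2_c9 LD3_c32)) :=
  Lgr Lrot177 (Lpr_ct (f149884 IH) (Lpr_af (f148829 IH) (Lpe (f148804 IH) (Lpr_dt (f148792 IH) (Lpe (K5.f130558 IH) (Lpr_dt (K5.f130553 IH) (Lpr_ct (f20414 IH) (Lpr_dt (f72261 IH) (Lpr_ct (f72355 IH) (Lpn (LP (LK LD1_c9 LD2_c9 LD3_c32))))))))))))
theorem f24201 : Led Lsl_ct (LP (LK LD1_c2 LD2_c51 LD3_c46)) = (LP (LK LD1_c1 LD2_c21 LD3_c56)) :=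
  Lre_c IH (LK LD1_c2 LD2_c51 LD3_c46) (LK LD1_c1 LD2_c21 LD3_c56) Lrfl Lrfl
theorem f141943 : Led Lsl_ft (LP (LK LD1_c2 LD2_c15 LD3_c39)) = (LP (LK LD1_c2 LD2_c51 LD3_c46)) :=
  Lgr Lrot4 (Lpe (f20414 IH) (Lpr_ff (K6.f141938 IH) (Lpe (f24201 IH) (Lpn (LP (LK LD1_c2 LD2_c51 LD3_c46))))))
theorem f82033 : Led Lsl_bt (LP (LK LD1_c2 LD2_c27 LD3_c1)) = (LP (LK LD1_c2 LD2_c54 LD3_c21)) :=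
  Lgr Lrot127 (Lpr_bf (f82031 IH) (Lpn (LP (LK LD1_c2 LD2_c54 LD3_c21))))
theorem f79134 : Led Lsl_bt (LP (LK LD1_c1 LD2_c10 LD3_c49)) = (LP (LK LD1_c2 LD2_c27 LD3_c5)) :=
  Lre_b IH (LK LD1_c1 LD2_c10 LD3_c49) (LK LD1_c2 LD2_c27 LD3_c5) Lrfl Lrfl
theorem f79964 : Led Lsl_ct (LP (LK LD1_c0 LD2_c29 LD3_c40)) = (LP (LK LD1_c1 LD2_c4 LD3_c57)) :=
  Lre_c IH (LK LD1_c0 LD2_c29 LD3_c40) (LK LD1_c1 LD2_c4 LD3_c57) Lrfl Lrfl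
theorem f79957 : Led Lsl_gt (LP (LK LD1_c1 LD2_c4 LD3_c57)) = (LP (LK LD1_c2 LD2_c15 LD3_c40)) :=
  Lre_g IH (LK LD1_c1 LD2_c4 LD3_c57) (LK LD1_c2 LD2_c15 LD3_c40) Lrfl Lrfl
theorem f119687 : Led Lsl_ct (LP (LK LD1_c2 LD2_c27 LD3_c1)) = (LP (LK LD1_c2 LD2_c15 LD3_c40)) :=
  Lgr Lrot63 (Lpr_bt (f82033 IH) (Lpr_gt (K6.f119668 IH) (Lpe (f79134 IH) (Lpr_ct (K4.f74360 IH) (Lpr_gt (K2.f72520 IH) (Lpe (K2.f72463 IH) (Lpr_bt (K4.f57101 IH) (Lpr_gt (K5.f57102 IH) (Lpr_ct (f79964 IH) (Lpr_gt (f79957 IH) (Lpn (LP (LK LD1_c2 LD2_c15 LD3_c40)))))))))))))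
theorem f149894 : Led Lsl_at (LP (LK LD1_c2 LD2_c51 LD3_c46)) = (LP (LK LD1_c2 LD2_c15 LD3_c40)) :=
  Lgr Lrot33 (Lpe (f141943 IH) (Lpr_dt (f72261 IH) (Lpr_ct (f72355 IH) (Lpe (f149892 IH) (Lpr_ct (f149884 IH) (Lpe (f141217 IH) (Lpr_ct (f148920 IH) (Lpr_dt (f82049 IH) (Lpr_ct (f119687 IH) (Lpn (LP (LK LD1_c2 LD2_c15 LD3_c40))))))))))))
theorem f119692 : Led Lsl_cf (LP (LK LD1_c2 LD2_c27 LD3_c1)) = (LP (LK LD1_c2 LD2_c15 LD3_c40)) :=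
  Lgr Lrot11 (Lpr_ct (f119687 IH) (Lpn (LP (LK LD1_c2 LD2_c15 LD3_c40))))
theorem f119695 : Led Lsl_bt (LP (LK LD1_c3 LD2_c57 LD3_c42)) = (LP (LK LD1_c2 LD2_c15 LD3_c40)) :=
  Lgr Lrot128 (Lpr_cf (K6.f81825 IH) (Lpe (K6.f81828 IH) (Lpe (K6.f81820 IH) (Lpe (f82033 IH) (Lpr_cf (f119692 IH) (Lpn (LP (LK LD1_c2 LD2_c15 LD3_c40))))))))
theorem f137882 : Led Lsl_ff (LP (LK LD1_c4 LD2_c24 LD3_c42)) = (LP (LK LD1_c2 LD2_c15 LD3_c40)) :=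
  Lgr Lrot25 (Lpr_bt (K6.f36007 IH) (Lpr_ft (K6.f137880 IH) (Lpr_bt (f119695 IH) (Lpn (LP (LK LD1_c2 LD2_c15 LD3_c40))))))
theorem f149906 : Led Lsl_af (LP (LK LD1_c2 LD2_c15 LD3_c39)) = (LP (LK LD1_c4 LD2_c24 LD3_c42)) :=
  Lgr Lrot45 (Lpr_ft (f141943 IH) (Lpr_at (f149894 IH) (Lpe (f137882 IH) (Lpn (LP (LK LD1_c4 LD2_c24 LD3_c42))))))
theorem f149908 : Led Lsl_at (LP (LK LD1_c4 LD2_c36 LD3_c51)) = (LP (LK LD1_c8 LD2_c46 LD3_c16)) :=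
  Lgr Lrot51 (Lpe (f72261 IH) (Lpr_af (f149906 IH) (Lpr_df (K6.f70485 IH) (Lpn (LP (LK LD1_c8 LD2_c46 LD3_c16))))))
theorem f139763 : Led Lsl_gt (LP (LK LD1_c5 LD2_c50 LD3_c15)) = (LP (LK LD1_c11 LD2_c28 LD3_c44)) :=
  Lre_g IH (LK LD1_c5 LD2_c50 LD3_c15) (LK LD1_c11 LD2_c28 LD3_c44) Lrfl Lrfl
theorem f141986 : Led Lsl_cf (LP (LK LD1_c6 LD2_c20 LD3_c15)) = (LP (LK LD1_c11 LD2_c28 LD3_c44)) :=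
  Lgr Lrot99 (Lpr_df (K6.f141969 IH) (Lpr_cf (K6.f56757 IH) (Lpe (K6.f141960 IH) (Lpe (K4.f26386 IH) (Lpe (K0.f14019 IH) (Lpe (K6.f75057 IH) (Lpr_gt (K6.f15594 IH) (Lpe (K6.f139759 IH) (Lpr_gt (f139763 IH) (Lpn (LP (LK LD1_c11 LD2_c28 LD3_c44))))))))))))
theorem f141996 : Led Lsl_ct (LP (LK LD1_c6 LD2_c20 LD3_c15)) = (LP (LK LD1_c11 LD2_c28 LD3_c44)) :=
  Lgr Lrot59 (Lpr_cf (f141986 IH) (Lpn (LP (LK LD1_c11 LD2_c28 LD3_c44))))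
theorem f100345 : Led Lsl_bt (LP (LK LD1_c4 LD2_c38 LD3_c7)) = (LP (LK LD1_c9 LD2_c11 LD3_c55)) :=
  Lre_b IH (LK LD1_c4 LD2_c38 LD3_c7) (LK LD1_c9 LD2_c11 LD3_c55) Lrfl Lrfl
theorem f142019 : Led Lsl_gf (LP (LK LD1_c8 LD2_c49 LD3_c25)) = (LP (LK LD1_c11 LD2_c28 LD3_c44)) :=
  Lgr Lrot129 (Lpr_cf (K6.f100354 IH) (Lpr_bt (f100345 IH) (Lpr_gt (K6.f141549 IH) (Lpe (K4.f77869 IH) (Lpr_ct (K6.f77865 IH) (Lpe (K4.f124232 IH) (Lpr_cf (K5.f128940 IH) (Lpr_bt (K6.f128955 IH) (Lpr_gt (K6.f128957 IH) (Lpr_ct (f141996 IH) (Lpn (LP (LK LD1_c11 LD2_c28 LD3_c44)))))))))))))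
theorem f15595 : Led Lsl_ct (LP (LK LD1_c3 LD2_c17 LD3_c48)) = (LP (LK LD1_c4 LD2_c26 LD3_c19)) :=
  Lre_c IH (LK LD1_c3 LD2_c17 LD3_c48) (LK LD1_c4 LD2_c26 LD3_c19) Lrfl Lrfl
theorem f38019 : Led Lsl_dt (LP (LK LD1_c4 LD2_c26 LD3_c19)) = (LP (LK LD1_c2 LD2_c10 LD3_c24)) :=
  Lre_d IH (LK LD1_c4 LD2_c26 LD3_c19) (LK LD1_c2 LD2_c10 LD3_c24) Lrfl Lrfl
theorem f38021 : Led Lsl_ct (LP (LK LD1_c1 LD2_c2 LD3_c14)) = (LP (LK LD1_c2 LD2_c10 LD3_c24)) :=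
  Lre_c IH (LK LD1_c1 LD2_c2 LD3_c14) (LK LD1_c2 LD2_c10 LD3_c24) Lrfl Lrfl
theorem f27176 : Led Lsl_gt (LP (LK LD1_c2 LD2_c10 LD3_c23)) = (LP (LK LD1_c1 LD2_c2 LD3_c14)) :=
  Lre_g IH (LK LD1_c2 LD2_c10 LD3_c23) (LK LD1_c1 LD2_c2 LD3_c14) Lrfl Lrfl
theorem f80131 : Led Lsl_ct (LP (LK LD1_c4 LD2_c26 LD3_c14)) = (LP (LK LD1_c2 LD2_c10 LD3_c23)) :=
  Lre_c IH (LK LD1_c4 LD2_c26 LD3_c14) (LK LD1_c2 LD2_c10 LD3_c23) Lrfl Lrfl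
theorem f16148 : Led Lsl_dt (LP (LK LD1_c4 LD2_c25 LD3_c38)) = (LP (LK LD1_c2 LD2_c10 LD3_c10)) :=
  Lre_d IH (LK LD1_c4 LD2_c25 LD3_c38) (LK LD1_c2 LD2_c10 LD3_c10) Lrfl Lrfl
theorem f16159 : Led Lsl_gt (LP (LK LD1_c2 LD2_c10 LD3_c22)) = (LP (LK LD1_c4 LD2_c25 LD3_c38)) :=
  Lre_g IH (LK LD1_c2 LD2_c10 LD3_c22) (LK LD1_c4 LD2_c25 LD3_c38) Lrfl Lrfl
theorem f142021 : Led Lsl_dt (LP (LK LD1_c8 LD2_c49 LD3_c45)) = (LP (LK LD1_c11 LD2_c28 LD3_c44)) :=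
  Lgr Lrot57 (Lpe (K6.f38102 IH) (Lpe (K6.f38101 IH) (Lpr_gt (f16159 IH) (Lpr_dt (f16148 IH) (Lpr_gt (K5.f99601 IH) (Lpr_dt (K5.f99658 IH) (Lpe (K6.f99723 IH) (Lpe (K6.f99724 IH) (Lpr_gf (f142019 IH) (Lpn (LP (LK LD1_c11 LD2_c28 LD3_c44))))))))))))
theorem f142023 : Led Lsl_gf (LP (LK LD1_c4 LD2_c26 LD3_c14)) = (LP (LK LD1_c8 LD2_c49 LD3_c45)) :=
  Lgr Lrot147 (Lpr_ct (f80131 IH) (Lpr_gt (f27176 IH) (Lpr_ct (f38021 IH) (Lpe (f38019 IH) (Lpe (f15595 IH) (Lpe (K6.f15577 IH) (Lpe (K6.f100384 IH) (Lpr_gf (f142019 IH) (Lpe (f142021 IH) (Lpn (LP (LK LD1_c8 LD2_c49 LD3_c45))))))))))))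
theorem f60862 : Led Lsl_ct (LP (LK LD1_c1 LD2_c5 LD3_c26)) = (LP (LK LD1_c2 LD2_c17 LD3_c0)) :=
  Lre_c IH (LK LD1_c1 LD2_c5 LD3_c26) (LK LD1_c2 LD2_c17 LD3_c0) Lrfl Lrfl
theorem f79955 : Led Lsl_dt (LP (LK LD1_c4 LD2_c39 LD3_c56)) = (LP (LK LD1_c2 LD2_c17 LD3_c0)) :=
  Lre_d IH (LK LD1_c4 LD2_c39 LD3_c56) (LK LD1_c2 LD2_c17 LD3_c0) Lrfl Lrfl
theorem f79958 : Led Lsl_dt (LP (LK LD1_c2 LD2_c15 LD3_c40)) = (LP (LK LD1_c4 LD2_c36 LD3_c53)) :=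
  Lre_d IH (LK LD1_c2 LD2_c15 LD3_c40) (LK LD1_c4 LD2_c36 LD3_c53) Lrfl Lrfl
theorem f79959 : Led Lsl_gf (LP (LK LD1_c4 LD2_c39 LD3_c56)) = (LP (LK LD1_c4 LD2_c36 LD3_c53)) :=
  Lgr Lrot143 (Lpr_dt (f79955 IH) (Lpe (f60862 IH) (Lpr_df (K4.f79947 IH) (Lpe (K5.f40608 IH) (Lpe (K5.f79956 IH) (Lpe (K2.f72252 IH) (Lpe (K2.f72253 IH) (Lpr_gt (f79957 IH) (Lpr_dt (f79958 IH) (Lpn (LP (LK LD1_c4 LD2_c36 LD3_c53))))))))))))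
theorem f80109 : Led Lsl_gt (LP (LK LD1_c2 LD2_c15 LD3_c40)) = (LP (LK LD1_c1 LD2_c4 LD3_c52)) :=
  Lre_g IH (LK LD1_c2 LD2_c15 LD3_c40) (LK LD1_c1 LD2_c4 LD3_c52) Lrfl Lrfl
theorem f80110 : Led Lsl_ct (LP (LK LD1_c1 LD2_c4 LD3_c52)) = (LP (LK LD1_c0 LD2_c29 LD3_c39)) :=
  Lre_c IH (LK LD1_c1 LD2_c4 LD3_c52) (LK LD1_c0 LD2_c29 LD3_c39) Lrfl Lrfl
theorem f16124 : Led Lsl_gt (LP (LK LD1_c4 LD2_c26 LD3_c16)) = (LP (LK LD1_c8 LD2_c48 LD3_c50)) :=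
  Lre_g IH (LK LD1_c4 LD2_c26 LD3_c16) (LK LD1_c8 LD2_c48 LD3_c50) Lrfl Lrfl
theorem f80112 : Led Lsl_ct (LP (LK LD1_c4 LD2_c39 LD3_c56)) = (LP (LK LD1_c4 LD2_c26 LD3_c16)) :=
  Lgr Lrot152 (Lpr_gf (f79959 IH) (Lpe (f79958 IH) (Lpr_gt (f80109 IH) (Lpr_ct (f80110 IH) (Lpr_gt (K4.f80111 IH) (Lpr_ct (K6.f40641 IH) (Lpe (f16148 IH) (Lpe (K6.f16100 IH) (Lpe (f16124 IH) (Lpn (LP (LK LD1_c4 LD2_c26 LD3_c16))))))))))))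
theorem f80121 : Led Lsl_cf (LP (LK LD1_c4 LD2_c39 LD3_c56)) = (LP (LK LD1_c4 LD2_c26 LD3_c16)) :=
  Lgr Lrot11 (Lpr_ct (f80112 IH) (Lpn (LP (LK LD1_c4 LD2_c26 LD3_c16))))
theorem f79949 : Led Lsl_dt (LP (LK LD1_c2 LD2_c17 LD3_c0)) = (LP (LK LD1_c4 LD2_c39 LD3_c56)) :=
  Lre_d IH (LK LD1_c2 LD2_c17 LD3_c0) (LK LD1_c4 LD2_c39 LD3_c56) Lrfl Lrfl
theorem f26778 : Led Lsl_ct (LP (LK LD1_c1 LD2_c5 LD3_c20)) = (LP (LK LD1_c0 LD2_c29 LD3_c57)) :=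
  Lre_c IH (LK LD1_c1 LD2_c5 LD3_c20) (LK LD1_c0 LD2_c29 LD3_c57) Lrfl Lrfl
theorem f80124 : Led Lsl_gt (LP (LK LD1_c2 LD2_c10 LD3_c24)) = (LP (LK LD1_c4 LD2_c26 LD3_c16)) :=
  Lre_g IH (LK LD1_c2 LD2_c10 LD3_c24) (LK LD1_c4 LD2_c26 LD3_c16) Lrfl Lrfl
theorem f80128 : Led Lsl_df (LP (LK LD1_c2 LD2_c16 LD3_c48)) = (LP (LK LD1_c2 LD2_c10 LD3_c23)) :=
  Lgr Lrot155 (Lpr_gt (K4.f36424 IH) (Lpr_ct (f26778 IH) (Lpr_gt (K4.f22447 IH) (Lpr_ct (f60862 IH) (Lpr_dt (f79949 IH) (Lpr_cf (f80121 IH) (Lpe (f80124 IH) (Lpe (f38021 IH) (Lpe (f27176 IH) (Lpn (LP (LK LD1_c2 LD2_c10 LD3_c23))))))))))))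
theorem f142033 : Led Lsl_gt (LP (LK LD1_c5 LD2_c46 LD3_c48)) = (LP (LK LD1_c8 LD2_c46 LD3_c16)) :=
  Lgr Lrot9 (Lpe (K6.f72987 IH) (Lpe (K5.f119045 IH) (Lpe (K5.f132568 IH) (Lpr_gt (K6.f132544 IH) (Lpr_ct (K4.f60933 IH) (Lpr_df (f80128 IH) (Lpe (f80131 IH) (Lpr_gf (f142023 IH) (Lpr_cf (K6.f70444 IH) (Lpn (LP (LK LD1_c8 LD2_c46 LD3_c16))))))))))))
theorem f141305 : Led Lsl_ct (LP (LK LD1_c2 LD2_c15 LD3_c44)) = (LP (LK LD1_c1 LD2_c4 LD3_c55)) :=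
  Lre_c IH (LK LD1_c2 LD2_c15 LD3_c44) (LK LD1_c1 LD2_c4 LD3_c55) Lrfl Lrfl
theorem f116898 : Led Lsl_dt (LP (LK LD1_c0 LD2_c29 LD3_c41)) = (LP (LK LD1_c1 LD2_c4 LD3_c60)) :=
  Lre_d IH (LK LD1_c0 LD2_c29 LD3_c41) (LK LD1_c1 LD2_c4 LD3_c60) Lrfl Lrfl
theorem f72986 : Led Lsl_ct (LP (LK LD1_c1 LD2_c20 LD3_c41)) = (LP (LK LD1_c2 LD2_c49 LD3_c6)) :=
  Lre_c IH (LK LD1_c1 LD2_c20 LD3_c41) (LK LD1_c2 LD2_c49 LD3_c6) Lrfl Lrfl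
theorem f72988 : Led Lsl_dt (LP (LK LD1_c5 LD2_c46 LD3_c48)) = (LP (LK LD1_c2 LD2_c49 LD3_c6)) :=
  Lre_d IH (LK LD1_c5 LD2_c46 LD3_c48) (LK LD1_c2 LD2_c49 LD3_c6) Lrfl Lrfl
theorem f141927 : Led Lsl_dt (LP (LK LD1_c2 LD2_c51 LD3_c46)) = (LP (LK LD1_c5 LD2_c51 LD3_c1)) :=
  Lre_d IH (LK LD1_c2 LD2_c51 LD3_c46) (LK LD1_c5 LD2_c51 LD3_c1) Lrfl Lrfl
theorem f149003 : Led Lsl_gf (LP (LK LD1_c5 LD2_c46 LD3_c48)) = (LP (LK LD1_c5 LD2_c51 LD3_c1)) :=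
  Lgr Lrot143 (Lpr_dt (f72988 IH) (Lpe (f72986 IH) (Lpe (K6.f116865 IH) (Lpe (K6.f96652 IH) (Lpe (f116898 IH) (Lpe (f142116 IH) (Lpe (f141305 IH) (Lpr_gt (f148994 IH) (Lpr_dt (f141927 IH) (Lpn (LP (LK LD1_c5 LD2_c51 LD3_c1))))))))))))
theorem f149916 : Led Lsl_ff (LP (LK LD1_c4 LD2_c36 LD3_c51)) = (LP (LK LD1_c5 LD2_c51 LD3_c1)) :=
  Lgr Lrot52 (Lpr_at (f149908 IH) (Lpe (f142033 IH) (Lpr_gf (f149003 IH) (Lpn (LP (LK LD1_c5 LD2_c51 LD3_c1))))))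
theorem f72263 : Led Lsl_bt (LP (LK LD1_c4 LD2_c36 LD3_c51)) = (LP (LK LD1_c2 LD2_c53 LD3_c5)) :=
  Lgr Lrot95 (Lpe (f72261 IH) (Lpr_bf (K2.f72255 IH) (Lpe (K6.f72262 IH) (Lpn (LP (LK LD1_c2 LD2_c53 LD3_c5))))))
theorem f104375 : Led Lsl_at (LP (LK LD1_c5 LD2_c53 LD3_c31)) = (LP (LK LD1_c4 LD2_c44 LD3_c49)) :=
  Lgr Lrot100 (Lpr_af (K6.f104373 IH) (Lpn (LP (LK LD1_c4 LD2_c44 LD3_c49))))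
theorem f149079 : Led Lsl_ft (LP (LK LD1_c9 LD2_c7 LD3_c60)) = (LP (LK LD1_c5 LD2_c53 LD3_c31)) :=
  Lgr Lrot101 (Lpr_af (f149073 IH) (Lpr_ff (K6.f104356 IH) (Lpe (f104375 IH) (Lpn (LP (LK LD1_c5 LD2_c53 LD3_c31))))))
theorem f149165 : Led Lsl_ff (LP (LK LD1_c4 LD2_c35 LD3_c48)) = (LP (LK LD1_c2 LD2_c53 LD3_c5)) :=
  Lgr Lrot23 (Lpr_ct (f149036 IH) (Lpr_ft (f149079 IH) (Lpr_ct (K6.f72356 IH) (Lpn (LP (LK LD1_c2 LD2_c53 LD3_c5))))))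
theorem f149920 : Led Lsl_bt (LP (LK LD1_c4 LD2_c35 LD3_c48)) = (LP (LK LD1_c5 LD2_c51 LD3_c1)) :=
  Lgr Lrot35 (Lpr_ff (f149165 IH) (Lpe (f72263 IH) (Lpr_ff (f149916 IH) (Lpn (LP (LK LD1_c5 LD2_c51 LD3_c1))))))
theorem f116965 : Led Lsl_ct (LP (LK LD1_c0 LD2_c44 LD3_c45)) = (LP (LK LD1_c1 LD2_c36 LD3_c35)) :=
  Lre_c IH (LK LD1_c0 LD2_c44 LD3_c45) (LK LD1_c1 LD2_c36 LD3_c35) Lrfl Lrfl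
theorem f141965 : Led Lsl_gt (LP (LK LD1_c1 LD2_c36 LD3_c35)) = (LP (LK LD1_c3 LD2_c20 LD3_c19)) :=
  Lgr Lrot46 (Lpr_gf (K6.f141963 IH) (Lpe (f141936 IH) (Lpr_at (K6.f141731 IH) (Lpn (LP (LK LD1_c3 LD2_c20 LD3_c19))))))
theorem f142120 : Led Lsl_gt (LP (LK LD1_c2 LD2_c15 LD3_c31)) = (LP (LK LD1_c4 LD2_c24 LD3_c42)) :=
  Lgr Lrot150 (Lpe (f141257 IH) (Lpr_gf (K6.f141984 IH) (Lpe (K6.f40099 IH) (Lpr_gt (K6.f96652 IH) (Lpr_ct (f116965 IH) (Lpr_gt (f141965 IH) (Lpr_ct (K6.f139703 IH) (Lpe (f141750 IH) (Lpe (f36008 IH) (Lpn (LP (LK LD1_c4 LD2_c24 LD3_c42))))))))))))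
theorem f141265 : Led Lsl_ft (LP (LK LD1_c2 LD2_c15 LD3_c31)) = (LP (LK LD1_c1 LD2_c4 LD3_c57)) :=
  Lre_f IH (LK LD1_c2 LD2_c15 LD3_c31) (LK LD1_c1 LD2_c4 LD3_c57) Lrfl Lrfl
theorem f141266 : Led Lsl_at (LP (LK LD1_c1 LD2_c4 LD3_c57)) = (LP (LK LD1_c2 LD2_c15 LD3_c44)) :=
  Lre_a IH (LK LD1_c1 LD2_c4 LD3_c57) (LK LD1_c2 LD2_c15 LD3_c44) Lrfl Lrfl
theorem f142130 : Led Lsl_gf (LP (LK LD1_c2 LD2_c15 LD3_c44)) = (LP (LK LD1_c4 LD2_c24 LD3_c42)) :=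
  Lgr Lrot76 (Lpe (f141266 IH) (Lpe (f141265 IH) (Lpr_gt (f142120 IH) (Lpn (LP (LK LD1_c4 LD2_c24 LD3_c42))))))
theorem f141307 : Led Lsl_ct (LP (LK LD1_c9 LD2_c9 LD3_c47)) = (LP (LK LD1_c4 LD2_c37 LD3_c0)) :=
  Lre_c IH (LK LD1_c9 LD2_c9 LD3_c47) (LK LD1_c4 LD2_c37 LD3_c0) Lrfl Lrfl
theorem f139534 : Led Lsl_ff (LP (LK LD1_c6 LD2_c25 LD3_c50)) = (LP (LK LD1_c6 LD2_c50 LD3_c26)) :=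
  Lgr Lrot3 (Lpr_ft (K6.f139501 IH) (Lpn (LP (LK LD1_c6 LD2_c50 LD3_c26))))
theorem f40355 : Led Lsl_ft (LP (LK LD1_c3 LD2_c59 LD3_c48)) = (LP (LK LD1_c3 LD2_c23 LD3_c37)) :=
  Lgr Lrot4 (Lpe (K1.f40052 IH) (Lpr_ff (K2.f40349 IH) (Lpe (K4.f40352 IH) (Lpn (LP (LK LD1_c3 LD2_c23 LD3_c37))))))
theorem f139538 : Led Lsl_at (LP (LK LD1_c6 LD2_c25 LD3_c50)) = (LP (LK LD1_c3 LD2_c59 LD3_c48)) :=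
  Lgr Lrot66 (Lpr_ff (f139534 IH) (Lpe (K0.f14401 IH) (Lpe (f40355 IH) (Lpn (LP (LK LD1_c3 LD2_c59 LD3_c48))))))
theorem f139544 : Led Lsl_gf (LP (LK LD1_c4 LD2_c41 LD3_c45)) = (LP (LK LD1_c6 LD2_c50 LD3_c26)) :=
  Lgr Lrot47 (Lpe (K4.f104729 IH) (Lpe (f139538 IH) (Lpr_ff (f139534 IH) (Lpn (LP (LK LD1_c6 LD2_c50 LD3_c26))))))
theorem f60993 : Led Lsl_bt (LP (LK LD1_c4 LD2_c41 LD3_c45)) = (LP (LK LD1_c2 LD2_c18 LD3_c3)) :=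
  Lre_b IH (LK LD1_c4 LD2_c41 LD3_c45) (LK LD1_c2 LD2_c18 LD3_c3) Lrfl Lrfl
theorem f124122 : Led Lsl_bt (LP (LK LD1_c1 LD2_c48 LD3_c14)) = (LP (LK LD1_c3 LD2_c42 LD3_c30)) :=
  Lre_b IH (LK LD1_c1 LD2_c48 LD3_c14) (LK LD1_c3 LD2_c42 LD3_c30) Lrfl Lrfl
theorem f124123 : Led Lsl_cf (LP (LK LD1_c4 LD2_c41 LD3_c45)) = (LP (LK LD1_c3 LD2_c42 LD3_c30)) :=
  Lgr Lrot97 (Lpr_bt (f60993 IH) (Lpr_ct (K4.f60989 IH) (Lpr_bt (K4.f124114 IH) (Lpr_ct (K5.f124121 IH) (Lpr_bt (f124122 IH) (Lpn (LP (LK LD1_c3 LD2_c42 LD3_c30))))))))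
theorem f124139 : Led Lsl_bt (LP (LK LD1_c3 LD2_c42 LD3_c30)) = (LP (LK LD1_c1 LD2_c48 LD3_c14)) :=
  Lre_b IH (LK LD1_c3 LD2_c42 LD3_c30) (LK LD1_c1 LD2_c48 LD3_c14) Lrfl Lrfl
theorem f13600 : Led Lsl_gt (LP (LK LD1_c3 LD2_c42 LD3_c60)) = (LP (LK LD1_c7 LD2_c26 LD3_c42)) :=
  Lre_g IH (LK LD1_c3 LD2_c42 LD3_c60) (LK LD1_c7 LD2_c26 LD3_c42) Lrfl Lrfl
theorem f40348 : Led Lsl_et (LP (LK LD1_c6 LD2_c50 LD3_c29)) = (LP (LK LD1_c13 LD2_c1 LD3_c41)) :=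
  Lre_e IH (LK LD1_c6 LD2_c50 LD3_c29) (LK LD1_c13 LD2_c1 LD3_c41) Lrfl Lrfl
theorem f40643 : Led Lsl_et (LP (LK LD1_c15 LD2_c0 LD3_c8)) = (LP (LK LD1_c7 LD2_c57 LD3_c20)) :=
  Lre_e IH (LK LD1_c15 LD2_c0 LD3_c8) (LK LD1_c7 LD2_c57 LD3_c20) Lrfl Lrfl
theorem f40652 : Led Lsl_at (LP (LK LD1_c13 LD2_c1 LD3_c41)) = (LP (LK LD1_c15 LD2_c0 LD3_c8)) :=
  Lgr Lrot80 (Lpe (f40348 IH) (Lpr_af (K6.f40646 IH) (Lpe (f40643 IH) (Lpn (LP (LK LD1_c15 LD2_c0 LD3_c8))))))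
theorem f14526 : Led Lsl_ct (LP (LK LD1_c6 LD2_c50 LD3_c30)) = (LP (LK LD1_c13 LD2_c1 LD3_c41)) :=
  Lre_c IH (LK LD1_c6 LD2_c50 LD3_c30) (LK LD1_c13 LD2_c1 LD3_c41) Lrfl Lrfl
theorem f14409 : Led Lsl_at (LP (LK LD1_c13 LD2_c1 LD3_c39)) = (LP (LK LD1_c6 LD2_c50 LD3_c30)) :=
  Lre_a IH (LK LD1_c13 LD2_c1 LD3_c39) (LK LD1_c6 LD2_c50 LD3_c30) Lrfl Lrfl
theorem f40656 : Led Lsl_cf (LP (LK LD1_c13 LD2_c1 LD3_c39)) = (LP (LK LD1_c15 LD2_c0 LD3_c8)) :=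
  Lgr Lrot1 (Lpr_at (f14409 IH) (Lpr_ct (f14526 IH) (Lpr_at (f40652 IH) (Lpn (LP (LK LD1_c15 LD2_c0 LD3_c8))))))
theorem f40658 : Led Lsl_ct (LP (LK LD1_c13 LD2_c1 LD3_c39)) = (LP (LK LD1_c15 LD2_c0 LD3_c8)) :=
  Lgr Lrot59 (Lpr_cf (f40656 IH) (Lpn (LP (LK LD1_c15 LD2_c0 LD3_c8))))
theorem f14430 : Led Lsl_et (LP (LK LD1_c6 LD2_c50 LD3_c26)) = (LP (LK LD1_c13 LD2_c1 LD3_c39)) :=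
  Lre_e IH (LK LD1_c6 LD2_c50 LD3_c26) (LK LD1_c13 LD2_c1 LD3_c39) Lrfl Lrfl
theorem f40661 : Led Lsl_cf (LP (LK LD1_c6 LD2_c50 LD3_c26)) = (LP (LK LD1_c7 LD2_c57 LD3_c20)) :=
  Lgr Lrot39 (Lpr_et (f14430 IH) (Lpr_ct (f40658 IH) (Lpr_et (f40643 IH) (Lpn (LP (LK LD1_c7 LD2_c57 LD3_c20))))))
theorem f139546 : Led Lsl_bf (LP (LK LD1_c7 LD2_c26 LD3_c42)) = (LP (LK LD1_c7 LD2_c57 LD3_c20)) :=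
  Lgr Lrot34 (Lpe (f13600 IH) (Lpe (K6.f13599 IH) (Lpr_ct (K4.f120805 IH) (Lpr_gf (K5.f124230 IH) (Lpe (K5.f13618 IH) (Lpr_gf (K5.f124129 IH) (Lpe (f124139 IH) (Lpe (f124123 IH) (Lpr_gf (f139544 IH) (Lpr_cf (f40661 IH) (Lpn (LP (LK LD1_c7 LD2_c57 LD3_c20)))))))))))))
theorem f139557 : Led Lsl_ft (LP (LK LD1_c7 LD2_c26 LD3_c42)) = (LP (LK LD1_c4 LD2_c26 LD3_c19)) :=
  Lgr Lrot75 (Lpr_bf (f139546 IH) (Lpe (K6.f40644 IH) (Lpe (K6.f15596 IH) (Lpn (LP (LK LD1_c4 LD2_c26 LD3_c19))))))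
theorem f16077 : Led Lsl_at (LP (LK LD1_c4 LD2_c26 LD3_c19)) = (LP (LK LD1_c3 LD2_c17 LD3_c52)) :=
  Lre_a IH (LK LD1_c4 LD2_c26 LD3_c19) (LK LD1_c3 LD2_c17 LD3_c52) Lrfl Lrfl
theorem f139559 : Led Lsl_ft (LP (LK LD1_c3 LD2_c17 LD3_c52)) = (LP (LK LD1_c4 LD2_c38 LD3_c9)) :=
  Lre_f IH (LK LD1_c3 LD2_c17 LD3_c52) (LK LD1_c4 LD2_c38 LD3_c9) Lrfl Lrfl
theorem f139560 : Led Lsl_af (LP (LK LD1_c7 LD2_c26 LD3_c42)) = (LP (LK LD1_c4 LD2_c38 LD3_c9)) :=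
  Lgr Lrot45 (Lpr_ft (f139557 IH) (Lpr_at (f16077 IH) (Lpr_ft (f139559 IH) (Lpn (LP (LK LD1_c4 LD2_c38 LD3_c9))))))
theorem f139668 : Led Lsl_gf (LP (LK LD1_c3 LD2_c42 LD3_c60)) = (LP (LK LD1_c3 LD2_c17 LD3_c52)) :=
  Lgr Lrot47 (Lpr_gt (f13600 IH) (Lpr_af (f139560 IH) (Lpe (f139559 IH) (Lpn (LP (LK LD1_c3 LD2_c17 LD3_c52))))))
theorem f61907 : Led Lsl_ct (LP (LK LD1_c1 LD2_c29 LD3_c60)) = (LP (LK LD1_c0 LD2_c41 LD3_c36)) :=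
  Lre_c IH (LK LD1_c1 LD2_c29 LD3_c60) (LK LD1_c0 LD2_c41 LD3_c36) Lrfl Lrfl
theorem f139672 : Led Lsl_cf (LP (LK LD1_c3 LD2_c42 LD3_c60)) = (LP (LK LD1_c3 LD2_c7 LD3_c42)) :=
  Lgr Lrot58 (Lpr_gf (f139668 IH) (Lpe (K6.f57071 IH) (Lpr_bt (K6.f65241 IH) (Lpe (K1.f24618 IH) (Lpr_bf (K3.f104229 IH) (Lpr_ct (f61907 IH) (Lpe (K1.f25018 IH) (Lpe (K5.f61864 IH) (Lpe (K5.f58916 IH) (Lpe (K6.f104240 IH) (Lpn (LP (LK LD1_c3 LD2_c7 LD3_c42)))))))))))))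
theorem f141235 : Led Lsl_df (LP (LK LD1_c3 LD2_c7 LD3_c42)) = (LP (LK LD1_c4 LD2_c37 LD3_c13)) :=
  Lgr Lrot78 (Lpr_ft (K6.f141227 IH) (Lpr_dt (K6.f99997 IH) (Lpr_ft (K6.f141188 IH) (Lpn (LP (LK LD1_c4 LD2_c37 LD3_c13))))))
theorem f141269 : Led Lsl_ct (LP (LK LD1_c2 LD2_c15 LD3_c48)) = (LP (LK LD1_c4 LD2_c37 LD3_c13)) :=
  Lre_c IH (LK LD1_c2 LD2_c15 LD3_c48) (LK LD1_c4 LD2_c37 LD3_c13) Lrfl Lrfl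
theorem f141270 : Led Lsl_dt (LP (LK LD1_c1 LD2_c4 LD3_c55)) = (LP (LK LD1_c2 LD2_c15 LD3_c48)) :=
  Lre_d IH (LK LD1_c1 LD2_c4 LD3_c55) (LK LD1_c2 LD2_c15 LD3_c48) Lrfl Lrfl
theorem f141306 : Led Lsl_dt (LP (LK LD1_c4 LD2_c37 LD3_c0)) = (LP (LK LD1_c2 LD2_c15 LD3_c44)) :=
  Lre_d IH (LK LD1_c4 LD2_c37 LD3_c0) (LK LD1_c2 LD2_c15 LD3_c44) Lrfl Lrfl
theorem f141308 : Led Lsl_df (LP (LK LD1_c9 LD2_c9 LD3_c47)) = (LP (LK LD1_c6 LD2_c30 LD3_c50)) :=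
  Lgr Lrot43 (Lpr_ct (f141307 IH) (Lpr_dt (f141306 IH) (Lpr_ct (f141305 IH) (Lpr_dt (f141270 IH) (Lpr_ct (f141269 IH) (Lpe (f141235 IH) (Lpe (f139672 IH) (Lpr_dt (K6.f139671 IH) (Lpr_ct (K6.f141288 IH) (Lpr_dt (K6.f141298 IH) (Lpr_ct (K6.f141299 IH) (Lpr_dt (K6.f141300 IH) (Lpr_ct (K6.f141301 IH) (Lpr_dt (K6.f141302 IH) (Lpr_ct (K6.f141303 IH) (Lpn (LP (LK LD1_c6 LD2_c30 LD3_c50))))))))))))))))))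
theorem f141296 : Led Lsl_gt (LP (LK LD1_c7 LD2_c26 LD3_c42)) = (LP (LK LD1_c6 LD2_c30 LD3_c50)) :=
  Lgr Lrot46 (Lpe (f13600 IH) (Lpr_ft (K6.f141290 IH) (Lpr_at (K6.f141204 IH) (Lpn (LP (LK LD1_c6 LD2_c30 LD3_c50))))))
theorem f139565 : Led Lsl_ft (LP (LK LD1_c2 LD2_c10 LD3_c24)) = (LP (LK LD1_c4 LD2_c26 LD3_c21)) :=
  Lre_f IH (LK LD1_c2 LD2_c10 LD3_c24) (LK LD1_c4 LD2_c26 LD3_c21) Lrfl Lrfl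
theorem f139566 : Led Lsl_df (LP (LK LD1_c7 LD2_c26 LD3_c42)) = (LP (LK LD1_c4 LD2_c26 LD3_c21)) :=
  Lgr Lrot78 (Lpr_ft (f139557 IH) (Lpr_dt (f38019 IH) (Lpr_ft (f139565 IH) (Lpn (LP (LK LD1_c4 LD2_c26 LD3_c21))))))
theorem f147482 : Led Lsl_gf (LP (LK LD1_c4 LD2_c26 LD3_c21)) = (LP (LK LD1_c6 LD2_c31 LD3_c23)) :=
  Lgr Lrot148 (Lpe (f139566 IH) (Lpr_gt (f141296 IH) (Lpe (f141308 IH) (Lpr_ct (f141307 IH) (Lpe (K6.f141246 IH) (Lpr_gf (f142130 IH) (Lpr_df (K6.f70485 IH) (Lpe (f142033 IH) (Lpr_ct (K6.f147473 IH) (Lpn (LP (LK LD1_c6 LD2_c31 LD3_c23))))))))))))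
theorem f139590 : Led Lsl_ct (LP (LK LD1_c2 LD2_c10 LD3_c26)) = (LP (LK LD1_c4 LD2_c26 LD3_c21)) :=
  Lre_c IH (LK LD1_c2 LD2_c10 LD3_c26) (LK LD1_c4 LD2_c26 LD3_c21) Lrfl Lrfl
theorem f149926 : Led Lsl_gf (LP (LK LD1_c9 LD2_c7 LD3_c60)) = (LP (LK LD1_c4 LD2_c42 LD3_c37)) :=
  Lgr Lrot126 (Lpe (f149036 IH) (Lpr_bt (f149920 IH) (Lpe (f149003 IH) (Lpr_ct (K6.f147473 IH) (Lpe (f147482 IH) (Lpe (f139590 IH) (Lpr_bt (K0.f16141 IH) (Lpr_gt (K1.f38621 IH) (Lpe (K6.f59248 IH) (Lpr_ct (K6.f59233 IH) (Lpn (LP (LK LD1_c4 LD2_c42 LD3_c37)))))))))))))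
theorem f149928 : Led Lsl_gt (LP (LK LD1_c4 LD2_c44 LD3_c49)) = (LP (LK LD1_c4 LD2_c42 LD3_c37)) :=
  Lgr Lrot5 (Lpe (K6.f104356 IH) (Lpe (f149073 IH) (Lpr_gf (f149926 IH) (Lpn (LP (LK LD1_c4 LD2_c42 LD3_c37))))))
theorem f59246 : Led Lsl_bt (LP (LK LD1_c1 LD2_c55 LD3_c35)) = (LP (LK LD1_c3 LD2_c57 LD3_c39)) :=
  Lre_b IH (LK LD1_c1 LD2_c55 LD3_c35) (LK LD1_c3 LD2_c57 LD3_c39) Lrfl Lrfl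
theorem f59249 : Led Lsl_gt (LP (LK LD1_c3 LD2_c57 LD3_c39)) = (LP (LK LD1_c7 LD2_c56 LD3_c42)) :=
  Lre_g IH (LK LD1_c3 LD2_c57 LD3_c39) (LK LD1_c7 LD2_c56 LD3_c42) Lrfl Lrfl
theorem f150029 : Led Lsl_bt (LP (LK LD1_c4 LD2_c35 LD3_c54)) = (LP (LK LD1_c7 LD2_c56 LD3_c42)) :=
  Lgr Lrot92 (Lpe (f149334 IH) (Lpr_gt (f149928 IH) (Lpe (K6.f59233 IH) (Lpr_bt (K6.f59248 IH) (Lpr_gt (K1.f59244 IH) (Lpe (K1.f37882 IH) (Lpr_gt (K1.f38621 IH) (Lpr_cf (K1.f59186 IH) (Lpr_bt (f59246 IH) (Lpr_gt (f59249 IH) (Lpn (LP (LK LD1_c7 LD2_c56 LD3_c42)))))))))))))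
theorem f149341 : Led Lsl_ft (LP (LK LD1_c2 LD2_c53 LD3_c13)) = (LP (LK LD1_c4 LD2_c35 LD3_c54)) :=
  Lgr Lrot4 (Lpe (K6.f81848 IH) (Lpr_ff (K6.f104356 IH) (Lpr_cf (f149334 IH) (Lpn (LP (LK LD1_c4 LD2_c35 LD3_c54))))))
theorem f137515 : Led Lsl_bf (LP (LK LD1_c2 LD2_c53 LD3_c13)) = (LP (LK LD1_c4 LD2_c24 LD3_c19)) :=
  Lgr Lrot24 (Lpr_bt (K6.f137512 IH) (Lpn (LP (LK LD1_c4 LD2_c24 LD3_c19))))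
theorem f150044 : Led Lsl_ff (LP (LK LD1_c4 LD2_c24 LD3_c19)) = (LP (LK LD1_c7 LD2_c56 LD3_c42)) :=
  Lgr Lrot25 (Lpe (f137515 IH) (Lpr_ft (f149341 IH) (Lpr_bt (f150029 IH) (Lpn (LP (LK LD1_c7 LD2_c56 LD3_c42))))))
theorem f150047 : Led Lsl_ft (LP (LK LD1_c4 LD2_c24 LD3_c19)) = (LP (LK LD1_c7 LD2_c56 LD3_c42)) :=
  Lgr Lrot48 (Lpr_ff (f150044 IH) (Lpn (LP (LK LD1_c7 LD2_c56 LD3_c42))))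
theorem f137898 : Led Lsl_dt (LP (LK LD1_c2 LD2_c9 LD3_c49)) = (LP (LK LD1_c4 LD2_c24 LD3_c19)) :=
  Lgr Lrot42 (Lpr_df (K6.f137894 IH) (Lpn (LP (LK LD1_c4 LD2_c24 LD3_c19))))
theorem f36047 : Led Lsl_gt (LP (LK LD1_c1 LD2_c55 LD3_c37)) = (LP (LK LD1_c3 LD2_c57 LD3_c41)) :=
  Lre_g IH (LK LD1_c1 LD2_c55 LD3_c37) (LK LD1_c3 LD2_c57 LD3_c41) Lrfl Lrfl
theorem f37769 : Led Lsl_bt (LP (LK LD1_c2 LD2_c15 LD3_c8)) = (LP (LK LD1_c3 LD2_c57 LD3_c41)) :=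
  Lgr Lrot92 (Lpr_ct (f37768 IH) (Lpr_gt (f37767 IH) (Lpe (f35550 IH) (Lpr_bt (K2.f34724 IH) (Lpr_gt (K1.f37756 IH) (Lpr_ct (K1.f35590 IH) (Lpr_gt (K1.f28523 IH) (Lpe (K1.f35572 IH) (Lpr_bt (K1.f35577 IH) (Lpr_gt (f36047 IH) (Lpn (LP (LK LD1_c3 LD2_c57 LD3_c41)))))))))))))
theorem f37833 : Led Lsl_bf (LP (LK LD1_c2 LD2_c15 LD3_c8)) = (LP (LK LD1_c3 LD2_c57 LD3_c41)) :=
  Lgr Lrot24 (Lpr_bt (f37769 IH) (Lpn (LP (LK LD1_c3 LD2_c57 LD3_c41))))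
theorem f150039 : Led Lsl_df (LP (LK LD1_c3 LD2_c57 LD3_c41)) = (LP (LK LD1_c7 LD2_c56 LD3_c42)) :=
  Lgr Lrot12 (Lpe (f37833 IH) (Lpr_dt (f37811 IH) (Lpr_bt (f150029 IH) (Lpn (LP (LK LD1_c7 LD2_c56 LD3_c42))))))
theorem f150049 : Led Lsl_ff (LP (LK LD1_c2 LD2_c9 LD3_c49)) = (LP (LK LD1_c3 LD2_c57 LD3_c41)) :=
  Lgr Lrot19 (Lpr_dt (f137898 IH) (Lpr_ft (f150047 IH) (Lpe (f150039 IH) (Lpn (LP (LK LD1_c3 LD2_c57 LD3_c41))))))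
theorem f150057 : Led Lsl_ft (LP (LK LD1_c2 LD2_c9 LD3_c49)) = (LP (LK LD1_c3 LD2_c57 LD3_c41)) :=
  Lgr Lrot48 (Lpr_ff (f150049 IH) (Lpn (LP (LK LD1_c3 LD2_c57 LD3_c41))))
theorem f150059 : Led Lsl_af (LP (LK LD1_c2 LD2_c9 LD3_c50)) = (LP (LK LD1_c3 LD2_c57 LD3_c41)) :=
  Lgr Lrot45 (Lpr_ft (K6.f137880 IH) (Lpe (K6.f137886 IH) (Lpr_ft (f150057 IH) (Lpn (LP (LK LD1_c3 LD2_c57 LD3_c41))))))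
theorem f150078 : Led Lsl_at (LP (LK LD1_c4 LD2_c24 LD3_c20)) = (LP (LK LD1_c7 LD2_c56 LD3_c42)) :=
  Lgr Lrot51 (Lpe (K6.f70488 IH) (Lpr_af (f150059 IH) (Lpr_df (f150039 IH) (Lpn (LP (LK LD1_c7 LD2_c56 LD3_c42))))))
theorem f59247 : Led Lsl_gt (LP (LK LD1_c7 LD2_c56 LD3_c43)) = (LP (LK LD1_c3 LD2_c57 LD3_c39)) :=
  Lre_g IH (LK LD1_c7 LD2_c56 LD3_c43) (LK LD1_c3 LD2_c57 LD3_c39) Lrfl Lrfl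
theorem f150093 : Led Lsl_ff (LP (LK LD1_c4 LD2_c24 LD3_c20)) = (LP (LK LD1_c7 LD2_c56 LD3_c43)) :=
  Lgr Lrot52 (Lpr_at (f150078 IH) (Lpe (f59249 IH) (Lpe (f59247 IH) (Lpn (LP (LK LD1_c7 LD2_c56 LD3_c43))))))
theorem f150104 : Led Lsl_ft (LP (LK LD1_c4 LD2_c24 LD3_c20)) = (LP (LK LD1_c7 LD2_c56 LD3_c43)) :=
  Lgr Lrot48 (Lpr_ff (f150093 IH) (Lpn (LP (LK LD1_c7 LD2_c56 LD3_c43))))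
theorem f70450 : Led Lsl_ct (LP (LK LD1_c8 LD2_c46 LD3_c17)) = (LP (LK LD1_c4 LD2_c24 LD3_c20)) :=
  Lre_c IH (LK LD1_c8 LD2_c46 LD3_c17) (LK LD1_c4 LD2_c24 LD3_c20) Lrfl Lrfl
theorem f138017 : Led Lsl_ct (LP (LK LD1_c7 LD2_c56 LD3_c43)) = (LP (LK LD1_c14 LD2_c59 LD3_c27)) :=
  Lre_c IH (LK LD1_c7 LD2_c56 LD3_c43) (LK LD1_c14 LD2_c59 LD3_c27) Lrfl Lrfl
theorem f150108 : Led Lsl_ff (LP (LK LD1_c8 LD2_c46 LD3_c17)) = (LP (LK LD1_c14 LD2_c59 LD3_c27)) :=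
  Lgr Lrot23 (Lpr_ct (f70450 IH) (Lpr_ft (f150104 IH) (Lpr_ct (f138017 IH) (Lpn (LP (LK LD1_c14 LD2_c59 LD3_c27))))))
theorem f70478 : Led Lsl_bt (LP (LK LD1_c8 LD2_c46 LD3_c17)) = (LP (LK LD1_c16 LD2_c24 LD3_c36)) :=
  Lre_b IH (LK LD1_c8 LD2_c46 LD3_c17) (LK LD1_c16 LD2_c24 LD3_c36) Lrfl Lrfl
theorem f139079 : Led Lsl_gt (LP (LK LD1_c6 LD2_c18 LD3_c21)) = (LP (LK LD1_c8 LD2_c48 LD3_c20)) :=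
  Lgr Lrot164 (Lpe (K6.f61793 IH) (Lpr_ct (K3.f61792 IH) (Lpe (K3.f61722 IH) (Lpe (K2.f25104 IH) (Lpr_gf (K3.f61767 IH) (Lpe (K4.f61790 IH) (Lpr_ct (K4.f61794 IH) (Lpr_gf (K6.f139073 IH) (Lpr_cf (K6.f71914 IH) (Lpe (K6.f70380 IH) (Lpn (LP (LK LD1_c8 LD2_c48 LD3_c20)))))))))))))
theorem f137575 : Led Lsl_df (LP (LK LD1_c5 LD2_c57 LD3_c38)) = (LP (LK LD1_c8 LD2_c48 LD3_c2)) :=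
  Lgr Lrot38 (Lpr_dt (K6.f137569 IH) (Lpn (LP (LK LD1_c8 LD2_c48 LD3_c2))))
theorem f139081 : Led Lsl_dt (LP (LK LD1_c6 LD2_c18 LD3_c21)) = (LP (LK LD1_c8 LD2_c50 LD3_c28)) :=
  Lgr Lrot6 (Lpr_gt (f139079 IH) (Lpr_ct (K6.f81620 IH) (Lpr_gt (K6.f74702 IH) (Lpr_ct (K6.f74697 IH) (Lpr_df (f137575 IH) (Lpe (K6.f38010 IH) (Lpr_gf (K6.f137623 IH) (Lpe (K4.f38149 IH) (Lpe (K6.f38198 IH) (Lpn (LP (LK LD1_c8 LD2_c50 LD3_c28))))))))))))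
theorem f110516 : Led Lsl_ft (LP (LK LD1_c2 LD2_c21 LD3_c20)) = (LP (LK LD1_c4 LD2_c40 LD3_c33)) :=
  Lgr Lrot4 (Lpr_cf (K3.f102989 IH) (Lpe (K3.f102936 IH) (Lpr_cf (K4.f110350 IH) (Lpn (LP (LK LD1_c4 LD2_c40 LD3_c33))))))
theorem f20063 : Led Lsl_bt (LP (LK LD1_c4 LD2_c46 LD3_c52)) = (LP (LK LD1_c2 LD2_c21 LD3_c20)) :=
  Lre_b IH (LK LD1_c4 LD2_c46 LD3_c52) (LK LD1_c2 LD2_c21 LD3_c20) Lrfl Lrfl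
theorem f137538 : Led Lsl_ff (LP (LK LD1_c4 LD2_c46 LD3_c52)) = (LP (LK LD1_c8 LD2_c46 LD3_c14)) :=
  Lgr Lrot25 (Lpr_bt (f20063 IH) (Lpr_ft (f110516 IH) (Lpr_bt (K6.f137534 IH) (Lpn (LP (LK LD1_c8 LD2_c46 LD3_c14))))))
theorem f137656 : Led Lsl_bt (LP (LK LD1_c4 LD2_c23 LD3_c59)) = (LP (LK LD1_c8 LD2_c45 LD3_c41)) :=
  Lre_b IH (LK LD1_c4 LD2_c23 LD3_c59) (LK LD1_c8 LD2_c45 LD3_c41) Lrfl Lrfl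
theorem f137657 : Led Lsl_df (LP (LK LD1_c4 LD2_c24 LD3_c33)) = (LP (LK LD1_c8 LD2_c45 LD3_c41)) :=
  Lgr Lrot12 (Lpr_bt (K6.f137655 IH) (Lpr_dt (K6.f137653 IH) (Lpr_bt (f137656 IH) (Lpn (LP (LK LD1_c8 LD2_c45 LD3_c41))))))
theorem f70477 : Led Lsl_ct (LP (LK LD1_c4 LD2_c24 LD3_c20)) = (LP (LK LD1_c8 LD2_c46 LD3_c17)) :=
  Lre_c IH (LK LD1_c4 LD2_c24 LD3_c20) (LK LD1_c8 LD2_c46 LD3_c17) Lrfl Lrfl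
theorem f139083 : Led Lsl_at (LP (LK LD1_c4 LD2_c46 LD3_c52)) = (LP (LK LD1_c8 LD2_c46 LD3_c17)) :=
  Lgr Lrot33 (Lpr_ff (f137538 IH) (Lpe (K6.f137536 IH) (Lpe (K6.f110928 IH) (Lpr_dt (f139081 IH) (Lpr_ct (K6.f137644 IH) (Lpe (f137657 IH) (Lpe (K6.f137868 IH) (Lpr_dt (K6.f70488 IH) (Lpr_ct (f70477 IH) (Lpn (LP (LK LD1_c8 LD2_c46 LD3_c17))))))))))))
theorem f102994 : Led Lsl_bt (LP (LK LD1_c2 LD2_c21 LD3_c20)) = (LP (LK LD1_c4 LD2_c46 LD3_c52)) :=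
  Lre_b IH (LK LD1_c2 LD2_c21 LD3_c20) (LK LD1_c4 LD2_c46 LD3_c52) Lrfl Lrfl
theorem f110348 : Led Lsl_ff (LP (LK LD1_c2 LD2_c20 LD3_c35)) = (LP (LK LD1_c2 LD2_c17 LD3_c21)) :=
  Lgr Lrot23 (Lpr_ct (K3.f99008 IH) (Lpr_ft (K3.f98907 IH) (Lpr_ct (K4.f110341 IH) (Lpn (LP (LK LD1_c2 LD2_c17 LD3_c21))))))
theorem f110813 : Led Lsl_af (LP (LK LD1_c2 LD2_c17 LD3_c20)) = (LP (LK LD1_c2 LD2_c20 LD3_c35)) :=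
  Lgr Lrot109 (Lpr_cf (K4.f110802 IH) (Lpe (K4.f102291 IH) (Lpe (K3.f103598 IH) (Lpe (K4.f104144 IH) (Lpe (K3.f58770 IH) (Lpe (K3.f78655 IH) (Lpr_cf (K4.f110350 IH) (Lpe (K4.f58261 IH) (Lpe (f110348 IH) (Lpn (LP (LK LD1_c2 LD2_c20 LD3_c35))))))))))))
theorem f78588 : Led Lsl_dt (LP (LK LD1_c2 LD2_c17 LD3_c20)) = (LP (LK LD1_c4 LD2_c40 LD3_c31)) :=
  Lre_d IH (LK LD1_c2 LD2_c17 LD3_c20) (LK LD1_c4 LD2_c40 LD3_c31) Lrfl Lrfl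
theorem f110816 : Led Lsl_at (LP (LK LD1_c4 LD2_c40 LD3_c31)) = (LP (LK LD1_c2 LD2_c21 LD3_c20)) :=
  Lgr Lrot51 (Lpe (f78588 IH) (Lpr_af (f110813 IH) (Lpe (K3.f102995 IH) (Lpn (LP (LK LD1_c2 LD2_c21 LD3_c20))))))
theorem f110774 : Led Lsl_bt (LP (LK LD1_c9 LD2_c16 LD3_c24)) = (LP (LK LD1_c4 LD2_c40 LD3_c31)) :=
  Lre_b IH (LK LD1_c9 LD2_c16 LD3_c24) (LK LD1_c4 LD2_c40 LD3_c31) Lrfl Lrfl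
theorem f139087 : Led Lsl_af (LP (LK LD1_c9 LD2_c16 LD3_c24)) = (LP (LK LD1_c16 LD2_c24 LD3_c36)) :=
  Lgr Lrot36 (Lpr_bt (f110774 IH) (Lpr_at (f110816 IH) (Lpr_bt (f102994 IH) (Lpr_at (f139083 IH) (Lpr_bt (f70478 IH) (Lpn (LP (LK LD1_c16 LD2_c24 LD3_c36))))))))
theorem f110779 : Led Lsl_et (LP (LK LD1_c9 LD2_c16 LD3_c25)) = (LP (LK LD1_c4 LD2_c40 LD3_c31)) :=
  Lre_e IH (LK LD1_c9 LD2_c16 LD3_c25) (LK LD1_c4 LD2_c40 LD3_c31) Lrfl Lrfl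
theorem f102997 : Led Lsl_et (LP (LK LD1_c2 LD2_c21 LD3_c20)) = (LP (LK LD1_c4 LD2_c46 LD3_c53)) :=
  Lre_e IH (LK LD1_c2 LD2_c21 LD3_c20) (LK LD1_c4 LD2_c46 LD3_c53) Lrfl Lrfl
theorem f110818 : Led Lsl_af (LP (LK LD1_c9 LD2_c16 LD3_c25)) = (LP (LK LD1_c4 LD2_c46 LD3_c53)) :=
  Lgr Lrot50 (Lpr_et (f110779 IH) (Lpr_at (f110816 IH) (Lpr_et (f102997 IH) (Lpn (LP (LK LD1_c4 LD2_c46 LD3_c53))))))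
theorem f110825 : Led Lsl_ft (LP (LK LD1_c9 LD2_c16 LD3_c25)) = (LP (LK LD1_c17 LD2_c11 LD3_c2)) :=
  Lre_f IH (LK LD1_c9 LD2_c16 LD3_c25) (LK LD1_c17 LD2_c11 LD3_c2) Lrfl Lrfl
theorem f103072 : Led Lsl_ft (LP (LK LD1_c9 LD2_c26 LD3_c33)) = (LP (LK LD1_c4 LD2_c46 LD3_c53)) :=
  Lre_f IH (LK LD1_c9 LD2_c26 LD3_c33) (LK LD1_c4 LD2_c46 LD3_c53) Lrfl Lrfl
theorem f110826 : Led Lsl_at (LP (LK LD1_c17 LD2_c11 LD3_c2)) = (LP (LK LD1_c9 LD2_c26 LD3_c33)) :=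
  Lgr Lrot66 (Lpe (f110825 IH) (Lpr_af (f110818 IH) (Lpe (f103072 IH) (Lpn (LP (LK LD1_c9 LD2_c26 LD3_c33))))))
theorem f102961 : Led Lsl_et (LP (LK LD1_c4 LD2_c44 LD3_c53)) = (LP (LK LD1_c2 LD2_c20 LD3_c33)) :=
  Lre_e IH (LK LD1_c4 LD2_c44 LD3_c53) (LK LD1_c2 LD2_c20 LD3_c33) Lrfl Lrfl
theorem f102998 : Led Lsl_ct (LP (LK LD1_c4 LD2_c46 LD3_c53)) = (LP (LK LD1_c4 LD2_c44 LD3_c53)) :=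
  Lgr Lrot15 (Lpe (f102997 IH) (Lpr_cf (K3.f102989 IH) (Lpe (f102961 IH) (Lpn (LP (LK LD1_c4 LD2_c44 LD3_c53))))))
theorem f103073 : Led Lsl_ft (LP (LK LD1_c4 LD2_c44 LD3_c53)) = (LP (LK LD1_c9 LD2_c22 LD3_c26)) :=
  Lre_f IH (LK LD1_c4 LD2_c44 LD3_c53) (LK LD1_c9 LD2_c22 LD3_c26) Lrfl Lrfl
theorem f103074 : Led Lsl_cf (LP (LK LD1_c9 LD2_c26 LD3_c33)) = (LP (LK LD1_c9 LD2_c22 LD3_c26)) :=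
  Lgr Lrot108 (Lpr_ft (f103072 IH) (Lpr_ct (f102998 IH) (Lpr_ft (f103073 IH) (Lpn (LP (LK LD1_c9 LD2_c22 LD3_c26))))))
theorem f103091 : Led Lsl_ct (LP (LK LD1_c9 LD2_c26 LD3_c33)) = (LP (LK LD1_c9 LD2_c22 LD3_c26)) :=
  Lgr Lrot59 (Lpr_cf (f103074 IH) (Lpn (LP (LK LD1_c9 LD2_c22 LD3_c26))))
theorem f78497 : Led Lsl_et (LP (LK LD1_c2 LD2_c17 LD3_c19)) = (LP (LK LD1_c1 LD2_c5 LD3_c37)) :=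
  Lre_e IH (LK LD1_c2 LD2_c17 LD3_c19) (LK LD1_c1 LD2_c5 LD3_c37) Lrfl Lrfl
theorem f99104 : Led Lsl_et (LP (LK LD1_c0 LD2_c30 LD3_c61)) = (LP (LK LD1_c1 LD2_c7 LD3_c36)) :=
  Lre_e IH (LK LD1_c0 LD2_c30 LD3_c61) (LK LD1_c1 LD2_c7 LD3_c36) Lrfl Lrfl
theorem f103340 : Led Lsl_af (LP (LK LD1_c2 LD2_c17 LD3_c19)) = (LP (LK LD1_c1 LD2_c7 LD3_c36)) :=
  Lgr Lrot50 (Lpr_et (f78497 IH) (Lpr_at (K3.f103334 IH) (Lpr_et (f99104 IH) (Lpn (LP (LK LD1_c1 LD2_c7 LD3_c36))))))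
theorem f78684 : Led Lsl_ct (LP (LK LD1_c2 LD2_c17 LD3_c19)) = (LP (LK LD1_c4 LD2_c40 LD3_c28)) :=
  Lre_c IH (LK LD1_c2 LD2_c17 LD3_c19) (LK LD1_c4 LD2_c40 LD3_c28) Lrfl Lrfl
theorem f102302 : Led Lsl_ct (LP (LK LD1_c2 LD2_c20 LD3_c34)) = (LP (LK LD1_c1 LD2_c7 LD3_c36)) :=
  Lre_c IH (LK LD1_c2 LD2_c20 LD3_c34) (LK LD1_c1 LD2_c7 LD3_c36) Lrfl Lrfl
theorem f103344 : Led Lsl_at (LP (LK LD1_c4 LD2_c40 LD3_c28)) = (LP (LK LD1_c2 LD2_c20 LD3_c34)) :=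
  Lgr Lrot107 (Lpe (f78684 IH) (Lpr_af (f103340 IH) (Lpe (f102302 IH) (Lpn (LP (LK LD1_c2 LD2_c20 LD3_c34))))))
theorem f78682 : Led Lsl_dt (LP (LK LD1_c9 LD2_c16 LD3_c19)) = (LP (LK LD1_c4 LD2_c40 LD3_c28)) :=
  Lre_d IH (LK LD1_c9 LD2_c16 LD3_c19) (LK LD1_c4 LD2_c40 LD3_c28) Lrfl Lrfl
theorem f102239 : Led Lsl_dt (LP (LK LD1_c2 LD2_c20 LD3_c34)) = (LP (LK LD1_c4 LD2_c44 LD3_c54)) :=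
  Lre_d IH (LK LD1_c2 LD2_c20 LD3_c34) (LK LD1_c4 LD2_c44 LD3_c54) Lrfl Lrfl
theorem f103367 : Led Lsl_af (LP (LK LD1_c9 LD2_c16 LD3_c19)) = (LP (LK LD1_c4 LD2_c44 LD3_c54)) :=
  Lgr Lrot117 (Lpr_dt (f78682 IH) (Lpr_at (f103344 IH) (Lpr_dt (f102239 IH) (Lpn (LP (LK LD1_c4 LD2_c44 LD3_c54))))))
theorem f103375 : Led Lsl_et (LP (LK LD1_c9 LD2_c16 LD3_c19)) = (LP (LK LD1_c17 LD2_c10 LD3_c50)) :=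
  Lre_e IH (LK LD1_c9 LD2_c16 LD3_c19) (LK LD1_c17 LD2_c10 LD3_c50) Lrfl Lrfl
theorem f103376 : Led Lsl_et (LP (LK LD1_c9 LD2_c22 LD3_c25)) = (LP (LK LD1_c4 LD2_c44 LD3_c54)) :=
  Lre_e IH (LK LD1_c9 LD2_c22 LD3_c25) (LK LD1_c4 LD2_c44 LD3_c54) Lrfl Lrfl
theorem f103377 : Led Lsl_at (LP (LK LD1_c17 LD2_c10 LD3_c50)) = (LP (LK LD1_c9 LD2_c22 LD3_c25)) :=
  Lgr Lrot80 (Lpe (f103375 IH) (Lpr_af (f103367 IH) (Lpe (f103376 IH) (Lpn (LP (LK LD1_c9 LD2_c22 LD3_c25))))))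
theorem f103387 : Led Lsl_ft (LP (LK LD1_c27 LD2_c2 LD3_c13)) = (LP (LK LD1_c17 LD2_c10 LD3_c50)) :=
  Lre_f IH (LK LD1_c27 LD2_c2 LD3_c13) (LK LD1_c17 LD2_c10 LD3_c50) Lrfl Lrfl
theorem f103104 : Led Lsl_ft (LP (LK LD1_c9 LD2_c22 LD3_c25)) = (LP (LK LD1_c17 LD2_c18 LD3_c60)) :=
  Lre_f IH (LK LD1_c9 LD2_c22 LD3_c25) (LK LD1_c17 LD2_c18 LD3_c60) Lrfl Lrfl
theorem f103388 : Led Lsl_af (LP (LK LD1_c27 LD2_c2 LD3_c13)) = (LP (LK LD1_c17 LD2_c18 LD3_c60)) :=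
  Lgr Lrot45 (Lpr_ft (f103387 IH) (Lpr_at (f103377 IH) (Lpr_ft (f103104 IH) (Lpn (LP (LK LD1_c17 LD2_c18 LD3_c60))))))
theorem f103321 : Led Lsl_dt (LP (LK LD1_c27 LD2_c2 LD3_c13)) = (LP (LK LD1_c17 LD2_c10 LD3_c51)) :=
  Lre_d IH (LK LD1_c27 LD2_c2 LD3_c13) (LK LD1_c17 LD2_c10 LD3_c51) Lrfl Lrfl
theorem f103097 : Led Lsl_dt (LP (LK LD1_c9 LD2_c22 LD3_c26)) = (LP (LK LD1_c17 LD2_c18 LD3_c60)) :=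
  Lre_d IH (LK LD1_c9 LD2_c22 LD3_c26) (LK LD1_c17 LD2_c18 LD3_c60) Lrfl Lrfl
theorem f103398 : Led Lsl_at (LP (LK LD1_c17 LD2_c10 LD3_c51)) = (LP (LK LD1_c9 LD2_c22 LD3_c26)) :=
  Lgr Lrot51 (Lpe (f103321 IH) (Lpr_af (f103388 IH) (Lpe (f103097 IH) (Lpn (LP (LK LD1_c9 LD2_c22 LD3_c26))))))
theorem f103407 : Led Lsl_af (LP (LK LD1_c17 LD2_c10 LD3_c51)) = (LP (LK LD1_c9 LD2_c22 LD3_c26)) :=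
  Lgr Lrot0 (Lpr_at (f103398 IH) (Lpn (LP (LK LD1_c9 LD2_c22 LD3_c26))))
theorem f110831 : Led Lsl_cf (LP (LK LD1_c17 LD2_c11 LD3_c2)) = (LP (LK LD1_c17 LD2_c10 LD3_c51)) :=
  Lgr Lrot1 (Lpr_at (f110826 IH) (Lpr_ct (f103091 IH) (Lpe (f103407 IH) (Lpn (LP (LK LD1_c17 LD2_c10 LD3_c51))))))
theorem f103272 : Led Lsl_et (LP (LK LD1_c9 LD2_c16 LD3_c18)) = (LP (LK LD1_c4 LD2_c40 LD3_c27)) :=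
  Lre_e IH (LK LD1_c9 LD2_c16 LD3_c18) (LK LD1_c4 LD2_c40 LD3_c27) Lrfl Lrfl
theorem f103288 : Led Lsl_ft (LP (LK LD1_c17 LD2_c10 LD3_c51)) = (LP (LK LD1_c9 LD2_c16 LD3_c18)) :=
  Lre_f IH (LK LD1_c17 LD2_c10 LD3_c51) (LK LD1_c9 LD2_c16 LD3_c18) Lrfl Lrfl
theorem f99053 : Led Lsl_et (LP (LK LD1_c2 LD2_c20 LD3_c38)) = (LP (LK LD1_c4 LD2_c44 LD3_c60)) :=
  Lre_e IH (LK LD1_c2 LD2_c20 LD3_c38) (LK LD1_c4 LD2_c44 LD3_c60) Lrfl Lrfl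
theorem f99025 : Led Lsl_ft (LP (LK LD1_c4 LD2_c44 LD3_c60)) = (LP (LK LD1_c9 LD2_c22 LD3_c42)) :=
  Lre_f IH (LK LD1_c4 LD2_c44 LD3_c60) (LK LD1_c9 LD2_c22 LD3_c42) Lrfl Lrfl
theorem f103289 : Led Lsl_ef (LP (LK LD1_c17 LD2_c10 LD3_c51)) = (LP (LK LD1_c9 LD2_c22 LD3_c42)) :=
  Lgr Lrot21 (Lpr_ft (f103288 IH) (Lpr_et (f103272 IH) (Lpr_ft (K3.f103282 IH) (Lpr_et (f99053 IH) (Lpr_ft (f99025 IH) (Lpn (LP (LK LD1_c9 LD2_c22 LD3_c42))))))))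
theorem f99009 : Led Lsl_et (LP (LK LD1_c4 LD2_c44 LD3_c60)) = (LP (LK LD1_c2 LD2_c20 LD3_c38)) :=
  Lre_e IH (LK LD1_c4 LD2_c44 LD3_c60) (LK LD1_c2 LD2_c20 LD3_c38) Lrfl Lrfl
theorem f98917 : Led Lsl_et (LP (LK LD1_c2 LD2_c21 LD3_c19)) = (LP (LK LD1_c4 LD2_c46 LD3_c51)) :=
  Lre_e IH (LK LD1_c2 LD2_c21 LD3_c19) (LK LD1_c4 LD2_c46 LD3_c51) Lrfl Lrfl
theorem f99010 : Led Lsl_cf (LP (LK LD1_c4 LD2_c44 LD3_c60)) = (LP (LK LD1_c4 LD2_c46 LD3_c51)) :=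
  Lgr Lrot39 (Lpr_et (f99009 IH) (Lpr_ct (K3.f98909 IH) (Lpr_et (f98917 IH) (Lpn (LP (LK LD1_c4 LD2_c46 LD3_c51))))))
theorem f99026 : Led Lsl_ft (LP (LK LD1_c9 LD2_c26 LD3_c29)) = (LP (LK LD1_c4 LD2_c46 LD3_c51)) :=
  Lre_f IH (LK LD1_c9 LD2_c26 LD3_c29) (LK LD1_c4 LD2_c46 LD3_c51) Lrfl Lrfl
theorem f99027 : Led Lsl_ct (LP (LK LD1_c9 LD2_c22 LD3_c42)) = (LP (LK LD1_c9 LD2_c26 LD3_c29)) :=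
  Lgr Lrot40 (Lpe (f99025 IH) (Lpr_cf (f99010 IH) (Lpe (f99026 IH) (Lpn (LP (LK LD1_c9 LD2_c26 LD3_c29))))))
theorem f99038 : Led Lsl_cf (LP (LK LD1_c9 LD2_c22 LD3_c42)) = (LP (LK LD1_c9 LD2_c26 LD3_c29)) :=
  Lgr Lrot11 (Lpr_ct (f99027 IH) (Lpn (LP (LK LD1_c9 LD2_c26 LD3_c29))))
theorem f110838 : Led Lsl_et (LP (LK LD1_c17 LD2_c11 LD3_c2)) = (LP (LK LD1_c9 LD2_c26 LD3_c29)) :=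
  Lgr Lrot158 (Lpr_cf (f110831 IH) (Lpr_ef (f103289 IH) (Lpr_cf (f99038 IH) (Lpn (LP (LK LD1_c9 LD2_c26 LD3_c29))))))
theorem f110830 : Led Lsl_bt (LP (LK LD1_c27 LD2_c2 LD3_c20)) = (LP (LK LD1_c17 LD2_c11 LD3_c2)) :=
  Lre_b IH (LK LD1_c27 LD2_c2 LD3_c20) (LK LD1_c17 LD2_c11 LD3_c2) Lrfl Lrfl
theorem f99036 : Led Lsl_bt (LP (LK LD1_c9 LD2_c26 LD3_c29)) = (LP (LK LD1_c17 LD2_c24 LD3_c23)) :=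
  Lre_b IH (LK LD1_c9 LD2_c26 LD3_c29) (LK LD1_c17 LD2_c24 LD3_c23) Lrfl Lrfl
theorem f110840 : Led Lsl_ef (LP (LK LD1_c27 LD2_c2 LD3_c20)) = (LP (LK LD1_c17 LD2_c24 LD3_c23)) :=
  Lgr Lrot29 (Lpr_bt (f110830 IH) (Lpr_et (f110838 IH) (Lpr_bt (f99036 IH) (Lpn (LP (LK LD1_c17 LD2_c24 LD3_c23))))))
theorem f110845 : Led Lsl_ft (LP (LK LD1_c27 LD2_c2 LD3_c20)) = (LP (LK LD1_c17 LD2_c11 LD3_c0)) :=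
  Lre_f IH (LK LD1_c27 LD2_c2 LD3_c20) (LK LD1_c17 LD2_c11 LD3_c0) Lrfl Lrfl
theorem f110846 : Led Lsl_et (LP (LK LD1_c17 LD2_c11 LD3_c0)) = (LP (LK LD1_c9 LD2_c16 LD3_c24)) :=
  Lre_e IH (LK LD1_c17 LD2_c11 LD3_c0) (LK LD1_c9 LD2_c16 LD3_c24) Lrfl Lrfl
theorem f110847 : Led Lsl_ft (LP (LK LD1_c9 LD2_c26 LD3_c25)) = (LP (LK LD1_c17 LD2_c24 LD3_c23)) :=
  Lre_f IH (LK LD1_c9 LD2_c26 LD3_c25) (LK LD1_c17 LD2_c24 LD3_c23) Lrfl Lrfl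
theorem f110723 : Led Lsl_et (LP (LK LD1_c4 LD2_c46 LD3_c50)) = (LP (LK LD1_c9 LD2_c26 LD3_c25)) :=
  Lre_e IH (LK LD1_c4 LD2_c46 LD3_c50) (LK LD1_c9 LD2_c26 LD3_c25) Lrfl Lrfl
theorem f110848 : Led Lsl_ft (LP (LK LD1_c9 LD2_c16 LD3_c24)) = (LP (LK LD1_c4 LD2_c46 LD3_c50)) :=
  Lgr Lrot86 (Lpe (f110846 IH) (Lpe (f110845 IH) (Lpr_ef (f110840 IH) (Lpe (f110847 IH) (Lpe (f110723 IH) (Lpn (LP (LK LD1_c4 LD2_c46 LD3_c50))))))))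
theorem f110577 : Led Lsl_at (LP (LK LD1_c4 LD2_c46 LD3_c50)) = (LP (LK LD1_c9 LD2_c26 LD3_c23)) :=
  Lre_a IH (LK LD1_c4 LD2_c46 LD3_c50) (LK LD1_c9 LD2_c26 LD3_c23) Lrfl Lrfl
theorem f139095 : Led Lsl_ft (LP (LK LD1_c9 LD2_c26 LD3_c23)) = (LP (LK LD1_c16 LD2_c24 LD3_c36)) :=
  Lgr Lrot101 (Lpe (f110577 IH) (Lpe (f110848 IH) (Lpr_af (f139087 IH) (Lpn (LP (LK LD1_c16 LD2_c24 LD3_c36))))))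
theorem f139099 : Led Lsl_ff (LP (LK LD1_c9 LD2_c26 LD3_c23)) = (LP (LK LD1_c16 LD2_c24 LD3_c36)) :=
  Lgr Lrot3 (Lpr_ft (f139095 IH) (Lpn (LP (LK LD1_c16 LD2_c24 LD3_c36))))
theorem f150117 : Led Lsl_bt (LP (LK LD1_c9 LD2_c26 LD3_c23)) = (LP (LK LD1_c14 LD2_c59 LD3_c27)) :=
  Lgr Lrot35 (Lpr_ff (f139099 IH) (Lpe (f70478 IH) (Lpr_ff (f150108 IH) (Lpn (LP (LK LD1_c14 LD2_c59 LD3_c27))))))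
theorem f150123 : Led Lsl_bf (LP (LK LD1_c9 LD2_c26 LD3_c23)) = (LP (LK LD1_c14 LD2_c59 LD3_c27)) :=
  Lgr Lrot24 (Lpr_bt (f150117 IH) (Lpn (LP (LK LD1_c14 LD2_c59 LD3_c27))))
theorem f24202 : Led Lsl_dt (LP (LK LD1_c5 LD2_c51 LD3_c1)) = (LP (LK LD1_c2 LD2_c51 LD3_c46)) :=
  Lre_d IH (LK LD1_c5 LD2_c51 LD3_c1) (LK LD1_c2 LD2_c51 LD3_c46) Lrfl Lrfl
theorem f149904 : Led Lsl_af (LP (LK LD1_c5 LD2_c51 LD3_c1)) = (LP (LK LD1_c4 LD2_c36 LD3_c53)) :=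
  Lgr Lrot117 (Lpr_dt (f24202 IH) (Lpr_at (f149894 IH) (Lpr_dt (f79958 IH) (Lpn (LP (LK LD1_c4 LD2_c36 LD3_c53))))))
theorem f149918 : Led Lsl_ft (LP (LK LD1_c8 LD2_c46 LD3_c16)) = (LP (LK LD1_c4 LD2_c36 LD3_c53)) :=
  Lgr Lrot101 (Lpe (f149908 IH) (Lpr_ff (f149916 IH) (Lpr_af (f149904 IH) (Lpn (LP (LK LD1_c4 LD2_c36 LD3_c53))))))
theorem f150097 : Led Lsl_bt (LP (LK LD1_c4 LD2_c36 LD3_c53)) = (LP (LK LD1_c7 LD2_c56 LD3_c43)) :=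
  Lgr Lrot35 (Lpe (f149918 IH) (Lpe (K6.f70449 IH) (Lpr_ff (f150093 IH) (Lpn (LP (LK LD1_c7 LD2_c56 LD3_c43))))))
theorem f80107 : Led Lsl_ct (LP (LK LD1_c9 LD2_c9 LD3_c35)) = (LP (LK LD1_c4 LD2_c36 LD3_c53)) :=
  Lre_c IH (LK LD1_c9 LD2_c9 LD3_c35) (LK LD1_c4 LD2_c36 LD3_c53) Lrfl Lrfl
theorem f150144 : Led Lsl_bt (LP (LK LD1_c17 LD2_c2 LD3_c33)) = (LP (LK LD1_c9 LD2_c9 LD3_c35)) :=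
  Lre_b IH (LK LD1_c17 LD2_c2 LD3_c33) (LK LD1_c9 LD2_c9 LD3_c35) Lrfl Lrfl
theorem f150145 : Led Lsl_ct (LP (LK LD1_c9 LD2_c26 LD3_c23)) = (LP (LK LD1_c17 LD2_c2 LD3_c33)) :=
  Lgr Lrot83 (Lpr_bf (f150123 IH) (Lpe (f138017 IH) (Lpe (f150097 IH) (Lpe (f80107 IH) (Lpe (f150144 IH) (Lpn (LP (LK LD1_c17 LD2_c2 LD3_c33))))))))
theorem f70448 : Led Lsl_bt (LP (LK LD1_c8 LD2_c49 LD3_c45)) = (LP (LK LD1_c16 LD2_c30 LD3_c27)) :=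
  Lre_b IH (LK LD1_c8 LD2_c49 LD3_c45) (LK LD1_c16 LD2_c30 LD3_c27) Lrfl Lrfl
theorem f70451 : Led Lsl_bt (LP (LK LD1_c16 LD2_c24 LD3_c36)) = (LP (LK LD1_c8 LD2_c46 LD3_c17)) :=
  Lre_b IH (LK LD1_c16 LD2_c24 LD3_c36) (LK LD1_c8 LD2_c46 LD3_c17) Lrfl Lrfl
theorem f70452 : Led Lsl_ct (LP (LK LD1_c16 LD2_c30 LD3_c27)) = (LP (LK LD1_c16 LD2_c24 LD3_c36)) :=
  Lgr Lrot83 (Lpe (f70448 IH) (Lpr_cf (K6.f70444 IH) (Lpe (K6.f70449 IH) (Lpe (f70450 IH) (Lpe (f70451 IH) (Lpn (LP (LK LD1_c16 LD2_c24 LD3_c36))))))))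
theorem f150151 : Led Lsl_ff (LP (LK LD1_c16 LD2_c30 LD3_c27)) = (LP (LK LD1_c17 LD2_c2 LD3_c33)) :=
  Lgr Lrot23 (Lpr_ct (f70452 IH) (Lpe (f139099 IH) (Lpr_ct (f150145 IH) (Lpn (LP (LK LD1_c17 LD2_c2 LD3_c33))))))
theorem f150157 : Led Lsl_ft (LP (LK LD1_c16 LD2_c30 LD3_c27)) = (LP (LK LD1_c17 LD2_c2 LD3_c33)) :=
  Lgr Lrot48 (Lpr_ff (f150151 IH) (Lpn (LP (LK LD1_c17 LD2_c2 LD3_c33))))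
theorem f150159 : Led Lsl_ff (LP (LK LD1_c8 LD2_c49 LD3_c45)) = (LP (LK LD1_c9 LD2_c9 LD3_c35)) :=
  Lgr Lrot25 (Lpr_bt (f70448 IH) (Lpr_ft (f150157 IH) (Lpr_bt (f150144 IH) (Lpn (LP (LK LD1_c9 LD2_c9 LD3_c35))))))
theorem f130580 : Led Lsl_ct (LP (LK LD1_c9 LD2_c9 LD3_c32)) = (LP (LK LD1_c4 LD2_c36 LD3_c51)) :=
  Lre_c IH (LK LD1_c9 LD2_c9 LD3_c32) (LK LD1_c4 LD2_c36 LD3_c51) Lrfl Lrfl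
theorem f149912 : Led Lsl_af (LP (LK LD1_c9 LD2_c9 LD3_c32)) = (LP (LK LD1_c8 LD2_c49 LD3_c45)) :=
  Lgr Lrot68 (Lpr_ct (f130580 IH) (Lpr_at (f149908 IH) (Lpe (K6.f70444 IH) (Lpn (LP (LK LD1_c8 LD2_c49 LD3_c45))))))
theorem f139611 : Led Lsl_dt (LP (LK LD1_c1 LD2_c2 LD3_c13)) = (LP (LK LD1_c2 LD2_c10 LD3_c21)) :=
  Lre_d IH (LK LD1_c1 LD2_c2 LD3_c13) (LK LD1_c2 LD2_c10 LD3_c21) Lrfl Lrfl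
theorem f40086 : Led Lsl_gt (LP (LK LD1_c2 LD2_c10 LD3_c21)) = (LP (LK LD1_c4 LD2_c26 LD3_c6)) :=
  Lre_g IH (LK LD1_c2 LD2_c10 LD3_c21) (LK LD1_c4 LD2_c26 LD3_c6) Lrfl Lrfl
theorem f40088 : Led Lsl_ct (LP (LK LD1_c4 LD2_c26 LD3_c6)) = (LP (LK LD1_c8 LD2_c49 LD3_c35)) :=
  Lre_c IH (LK LD1_c4 LD2_c26 LD3_c6) (LK LD1_c8 LD2_c49 LD3_c35) Lrfl Lrfl
theorem f25395 : Led Lsl_dt (LP (LK LD1_c4 LD2_c36 LD3_c51)) = (LP (LK LD1_c2 LD2_c15 LD3_c39)) :=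
  Lre_d IH (LK LD1_c4 LD2_c36 LD3_c51) (LK LD1_c2 LD2_c15 LD3_c39) Lrfl Lrfl
theorem f148963 : Led Lsl_gt (LP (LK LD1_c8 LD2_c49 LD3_c35)) = (LP (LK LD1_c9 LD2_c9 LD3_c32)) :=
  Lgr Lrot150 (Lpe (f40088 IH) (Lpe (f40086 IH) (Lpe (f139611 IH) (Lpr_gt (f148947 IH) (Lpr_ct (f138919 IH) (Lpe (f148936 IH) (Lpr_ct (f20414 IH) (Lpe (f25395 IH) (Lpe (f130580 IH) (Lpn (LP (LK LD1_c9 LD2_c9 LD3_c32))))))))))))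
theorem f150161 : Led Lsl_gf (LP (LK LD1_c8 LD2_c49 LD3_c35)) = (LP (LK LD1_c9 LD2_c9 LD3_c35)) :=
  Lgr Lrot47 (Lpr_gt (f148963 IH) (Lpr_af (f149912 IH) (Lpr_ff (f150159 IH) (Lpn (LP (LK LD1_c9 LD2_c9 LD3_c35))))))
theorem f139594 : Led Lsl_ct (LP (LK LD1_c8 LD2_c49 LD3_c35)) = (LP (LK LD1_c4 LD2_c26 LD3_c6)) :=
  Lre_c IH (LK LD1_c8 LD2_c49 LD3_c35) (LK LD1_c4 LD2_c26 LD3_c6) Lrfl Lrfl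
theorem f37894 : Led Lsl_gt (LP (LK LD1_c4 LD2_c26 LD3_c6)) = (LP (LK LD1_c2 LD2_c10 LD3_c26)) :=
  Lre_g IH (LK LD1_c4 LD2_c26 LD3_c6) (LK LD1_c2 LD2_c10 LD3_c26) Lrfl Lrfl
theorem f56832 : Led Lsl_dt (LP (LK LD1_c0 LD2_c29 LD3_c43)) = (LP (LK LD1_c0 LD2_c19 LD3_c53)) :=
  Lre_d IH (LK LD1_c0 LD2_c29 LD3_c43) (LK LD1_c0 LD2_c19 LD3_c53) Lrfl Lrfl
theorem f116968 : Led Lsl_dt (LP (LK LD1_c2 LD2_c10 LD3_c26)) = (LP (LK LD1_c1 LD2_c2 LD3_c15)) :=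
  Lre_d IH (LK LD1_c2 LD2_c10 LD3_c26) (LK LD1_c1 LD2_c2 LD3_c15) Lrfl Lrfl
theorem f37877 : Led Lsl_ct (LP (LK LD1_c4 LD2_c26 LD3_c21)) = (LP (LK LD1_c2 LD2_c10 LD3_c26)) :=
  Lre_c IH (LK LD1_c4 LD2_c26 LD3_c21) (LK LD1_c2 LD2_c10 LD3_c26) Lrfl Lrfl
theorem f139573 : Led Lsl_dt (LP (LK LD1_c7 LD2_c26 LD3_c42)) = (LP (LK LD1_c4 LD2_c26 LD3_c21)) :=
  Lgr Lrot159 (Lpr_ft (f139557 IH) (Lpr_at (f16077 IH) (Lpe (K6.f57071 IH) (Lpe (f56858 IH) (Lpe (K6.f26507 IH) (Lpe (f56832 IH) (Lpe (K6.f35546 IH) (Lpe (f116968 IH) (Lpe (f37877 IH) (Lpn (LP (LK LD1_c4 LD2_c26 LD3_c21))))))))))))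
theorem f139562 : Led Lsl_ft (LP (LK LD1_c3 LD2_c17 LD3_c48)) = (LP (LK LD1_c4 LD2_c37 LD3_c41)) :=
  Lre_f IH (LK LD1_c3 LD2_c17 LD3_c48) (LK LD1_c4 LD2_c37 LD3_c41) Lrfl Lrfl
theorem f139563 : Led Lsl_cf (LP (LK LD1_c7 LD2_c26 LD3_c42)) = (LP (LK LD1_c4 LD2_c37 LD3_c41)) :=
  Lgr Lrot108 (Lpr_ft (f139557 IH) (Lpr_ct (K6.f15585 IH) (Lpr_ft (f139562 IH) (Lpn (LP (LK LD1_c4 LD2_c37 LD3_c41))))))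
theorem f15563 : Led Lsl_gt (LP (LK LD1_c3 LD2_c17 LD3_c50)) = (LP (LK LD1_c4 LD2_c37 LD3_c41)) :=
  Lre_g IH (LK LD1_c3 LD2_c17 LD3_c50) (LK LD1_c4 LD2_c37 LD3_c41) Lrfl Lrfl
theorem f139592 : Led Lsl_ct (LP (LK LD1_c6 LD2_c39 LD3_c12)) = (LP (LK LD1_c3 LD2_c17 LD3_c50)) :=
  Lre_c IH (LK LD1_c6 LD2_c39 LD3_c12) (LK LD1_c3 LD2_c17 LD3_c50) Lrfl Lrfl
theorem f139593 : Led Lsl_gt (LP (LK LD1_c12 LD2_c44 LD3_c7)) = (LP (LK LD1_c6 LD2_c39 LD3_c12)) :=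
  Lre_g IH (LK LD1_c12 LD2_c44 LD3_c7) (LK LD1_c6 LD2_c39 LD3_c12) Lrfl Lrfl
theorem f150165 : Led Lsl_df (LP (LK LD1_c12 LD2_c44 LD3_c7)) = (LP (LK LD1_c9 LD2_c9 LD3_c35)) :=
  Lgr Lrot155 (Lpr_gt (f139593 IH) (Lpr_ct (f139592 IH) (Lpr_gt (f15563 IH) (Lpe (f139563 IH) (Lpr_dt (f139573 IH) (Lpe (f139590 IH) (Lpe (f37894 IH) (Lpe (f139594 IH) (Lpr_gf (f150161 IH) (Lpn (LP (LK LD1_c9 LD2_c9 LD3_c35))))))))))))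
theorem f70476 : Led Lsl_bt (LP (LK LD1_c16 LD2_c30 LD3_c27)) = (LP (LK LD1_c8 LD2_c49 LD3_c45)) :=
  Lre_b IH (LK LD1_c16 LD2_c30 LD3_c27) (LK LD1_c8 LD2_c49 LD3_c45) Lrfl Lrfl
theorem f80115 : Led Lsl_bt (LP (LK LD1_c9 LD2_c9 LD3_c35)) = (LP (LK LD1_c17 LD2_c2 LD3_c33)) :=
  Lre_b IH (LK LD1_c9 LD2_c9 LD3_c35) (LK LD1_c17 LD2_c2 LD3_c33) Lrfl Lrfl
theorem f150155 : Led Lsl_ft (LP (LK LD1_c8 LD2_c49 LD3_c45)) = (LP (LK LD1_c9 LD2_c9 LD3_c35)) :=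
  Lgr Lrot75 (Lpe (f70476 IH) (Lpr_ff (f150151 IH) (Lpe (f80115 IH) (Lpn (LP (LK LD1_c9 LD2_c9 LD3_c35))))))
theorem f142017 : Led Lsl_df (LP (LK LD1_c8 LD2_c49 LD3_c45)) = (LP (LK LD1_c11 LD2_c28 LD3_c44)) :=
  Lgr Lrot106 (Lpr_ct (K6.f70454 IH) (Lpe (K6.f70485 IH) (Lpr_ct (f36008 IH) (Lpr_dt (f141750 IH) (Lpr_ct (f139706 IH) (Lpe (K6.f141731 IH) (Lpr_ff (f141936 IH) (Lpe (K6.f141969 IH) (Lpr_ct (f141996 IH) (Lpn (LP (LK LD1_c11 LD2_c28 LD3_c44))))))))))))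
theorem f150171 : Led Lsl_ft (LP (LK LD1_c12 LD2_c44 LD3_c7)) = (LP (LK LD1_c11 LD2_c28 LD3_c44)) :=
  Lgr Lrot54 (Lpr_df (f150165 IH) (Lpe (f150155 IH) (Lpr_df (f142017 IH) (Lpn (LP (LK LD1_c11 LD2_c28 LD3_c44))))))
theorem f148827 : Led Lsl_ff (LP (LK LD1_c9 LD2_c10 LD3_c3)) = (LP (LK LD1_c6 LD2_c20 LD3_c15)) :=
  Lgr Lrot3 (Lpr_ft (f148804 IH) (Lpn (LP (LK LD1_c6 LD2_c20 LD3_c15))))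
theorem f150175 : Led Lsl_cf (LP (LK LD1_c12 LD2_c44 LD3_c7)) = (LP (LK LD1_c9 LD2_c10 LD3_c3)) :=
  Lgr Lrot108 (Lpr_ft (f150171 IH) (Lpe (f141986 IH) (Lpe (f148827 IH) (Lpn (LP (LK LD1_c9 LD2_c10 LD3_c3))))))
theorem f150188 : Led Lsl_bt (LP (LK LD1_c3 LD2_c17 LD3_c50)) = (LP (LK LD1_c6 LD2_c39 LD3_c11)) :=
  Lre_b IH (LK LD1_c3 LD2_c17 LD3_c50) (LK LD1_c6 LD2_c39 LD3_c11) Lrfl Lrfl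
theorem f141208 : Led Lsl_bt (LP (LK LD1_c2 LD2_c19 LD3_c17)) = (LP (LK LD1_c4 LD2_c37 LD3_c11)) :=
  Lgr Lrot128 (Lpr_cf (K5.f124074 IH) (Lpe (K5.f23603 IH) (Lpe (K4.f23608 IH) (Lpe (K6.f23609 IH) (Lpr_cf (K6.f141189 IH) (Lpn (LP (LK LD1_c4 LD2_c37 LD3_c11))))))))
theorem f124077 : Led Lsl_ct (LP (LK LD1_c2 LD2_c19 LD3_c17)) = (LP (LK LD1_c1 LD2_c33 LD3_c5)) :=
  Lgr Lrot59 (Lpr_cf (K5.f124074 IH) (Lpn (LP (LK LD1_c1 LD2_c33 LD3_c5))))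
theorem f125509 : Led Lsl_cf (LP (LK LD1_c3 LD2_c10 LD3_c31)) = (LP (LK LD1_c3 LD2_c7 LD3_c28)) :=
  Lgr Lrot108 (Lpr_ft (K5.f125507 IH) (Lpr_ct (K4.f77868 IH) (Lpe (K6.f118749 IH) (Lpn (LP (LK LD1_c3 LD2_c7 LD3_c28))))))
theorem f150189 : Led Lsl_gt (LP (LK LD1_c6 LD2_c39 LD3_c11)) = (LP (LK LD1_c6 LD2_c19 LD3_c50)) :=
  Lgr Lrot164 (Lpe (f150188 IH) (Lpr_ct (f149882 IH) (Lpe (f139593 IH) (Lpr_cf (f150175 IH) (Lpe (f100291 IH) (Lpe (f141208 IH) (Lpr_ct (f124077 IH) (Lpe (K5.f125515 IH) (Lpr_cf (f125509 IH) (Lpr_bt (K6.f118704 IH) (Lpn (LP (LK LD1_c6 LD2_c19 LD3_c50)))))))))))))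
theorem f150193 : Led Lsl_ct (LP (LK LD1_c12 LD2_c44 LD3_c4)) = (LP (LK LD1_c6 LD2_c39 LD3_c11)) :=
  Lre_c IH (LK LD1_c12 LD2_c44 LD3_c4) (LK LD1_c6 LD2_c39 LD3_c11) Lrfl Lrfl
theorem f118754 : Led Lsl_cf (LP (LK LD1_c6 LD2_c19 LD3_c50)) = (LP (LK LD1_c6 LD2_c36 LD3_c16)) :=
  Lgr Lrot108 (Lpr_ft (K6.f118751 IH) (Lpr_ct (K4.f79340 IH) (Lpe (K4.f79419 IH) (Lpn (LP (LK LD1_c6 LD2_c36 LD3_c16))))))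
theorem f77298 : Led Lsl_df (LP (LK LD1_c6 LD2_c21 LD3_c4)) = (LP (LK LD1_c11 LD2_c43 LD3_c15)) :=
  Lgr Lrot38 (Lpr_dt (K4.f77292 IH) (Lpn (LP (LK LD1_c11 LD2_c43 LD3_c15))))
theorem f14057 : Led Lsl_dt (LP (LK LD1_c3 LD2_c51 LD3_c29)) = (LP (LK LD1_c4 LD2_c37 LD3_c40)) :=
  Lre_d IH (LK LD1_c3 LD2_c51 LD3_c29) (LK LD1_c4 LD2_c37 LD3_c40) Lrfl Lrfl
theorem f77306 : Led Lsl_ct (LP (LK LD1_c6 LD2_c21 LD3_c4)) = (LP (LK LD1_c6 LD2_c49 LD3_c16)) :=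
  Lgr Lrot176 (Lpr_df (f77298 IH) (Lpe (K3.f14083 IH) (Lpe (K3.f14082 IH) (Lpe (f14058 IH) (Lpe (f14057 IH) (Lpe (K0.f14054 IH) (Lpe (K0.f14055 IH) (Lpe (K0.f14038 IH) (Lpe (K0.f14037 IH) (Lpr_cf (K0.f14005 IH) (Lpe (K0.f14039 IH) (Lpe (K0.f14040 IH) (Lpe (K0.f14041 IH) (Lpe (K6.f14050 IH) (Lpe (K6.f14049 IH) (Lpn (LP (LK LD1_c6 LD2_c49 LD3_c16))))))))))))))))))
theorem f150194 : Led Lsl_gf (LP (LK LD1_c12 LD2_c44 LD3_c4)) = (LP (LK LD1_c20 LD2_c40 LD3_c25)) :=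
  Lgr Lrot181 (Lpr_ct (f150193 IH) (Lpr_gt (f150189 IH) (Lpr_cf (f118754 IH) (Lpr_bt (K4.f79418 IH) (Lpe (K4.f114858 IH) (Lpe (K4.f77305 IH) (Lpr_ct (f77306 IH) (Lpr_gt (K6.f72604 IH) (Lpe (K6.f14066 IH) (Lpe (K6.f72596 IH) (Lpn (LP (LK LD1_c20 LD2_c40 LD3_c25)))))))))))))
theorem f15565 : Led Lsl_ct (LP (LK LD1_c6 LD2_c39 LD3_c11)) = (LP (LK LD1_c12 LD2_c44 LD3_c4)) :=
  Lre_c IH (LK LD1_c6 LD2_c39 LD3_c11) (LK LD1_c12 LD2_c44 LD3_c4) Lrfl Lrfl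
theorem f15564 : Led Lsl_bt (LP (LK LD1_c6 LD2_c39 LD3_c11)) = (LP (LK LD1_c3 LD2_c17 LD3_c50)) :=
  Lre_b IH (LK LD1_c6 LD2_c39 LD3_c11) (LK LD1_c3 LD2_c17 LD3_c50) Lrfl Lrfl
theorem f141332 : Led Lsl_at (LP (LK LD1_c9 LD2_c10 LD3_c37)) = (LP (LK LD1_c4 LD2_c43 LD3_c10)) :=
  Lgr Lrot66 (Lpr_ff (K6.f141330 IH) (Lpe (K6.f124777 IH) (Lpr_ff (K5.f124764 IH) (Lpn (LP (LK LD1_c4 LD2_c43 LD3_c10))))))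
theorem f124550 : Led Lsl_gt (LP (LK LD1_c9 LD2_c19 LD3_c58)) = (LP (LK LD1_c4 LD2_c43 LD3_c10)) :=
  Lre_g IH (LK LD1_c9 LD2_c19 LD3_c58) (LK LD1_c4 LD2_c43 LD3_c10) Lrfl Lrfl
theorem f141338 : Led Lsl_gf (LP (LK LD1_c9 LD2_c19 LD3_c58)) = (LP (LK LD1_c6 LD2_c20 LD3_c9)) :=
  Lgr Lrot47 (Lpr_gt (f124550 IH) (Lpe (f141332 IH) (Lpr_ff (K6.f141330 IH) (Lpn (LP (LK LD1_c6 LD2_c20 LD3_c9))))))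
theorem f130485 : Led Lsl_at (LP (LK LD1_c14 LD2_c11 LD3_c28)) = (LP (LK LD1_c7 LD2_c31 LD3_c6)) :=
  Lre_a IH (LK LD1_c14 LD2_c11 LD3_c28) (LK LD1_c7 LD2_c31 LD3_c6) Lrfl Lrfl
theorem f130486 : Led Lsl_ct (LP (LK LD1_c20 LD2_c40 LD3_c25)) = (LP (LK LD1_c14 LD2_c11 LD3_c28)) :=
  Lgr Lrot111 (Lpr_af (K6.f130481 IH) (Lpe (K6.f93391 IH) (Lpe (f130485 IH) (Lpn (LP (LK LD1_c14 LD2_c11 LD3_c28))))))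
theorem f130488 : Led Lsl_cf (LP (LK LD1_c20 LD2_c40 LD3_c25)) = (LP (LK LD1_c14 LD2_c11 LD3_c28)) :=
  Lgr Lrot11 (Lpr_ct (f130486 IH) (Lpn (LP (LK LD1_c14 LD2_c11 LD3_c28))))
theorem f150201 : Led Lsl_bf (LP (LK LD1_c9 LD2_c19 LD3_c58)) = (LP (LK LD1_c14 LD2_c11 LD3_c28)) :=
  Lgr Lrot34 (Lpr_gf (f141338 IH) (Lpe (K6.f141324 IH) (Lpr_ct (K6.f141303 IH) (Lpe (f141296 IH) (Lpr_cf (f139563 IH) (Lpe (f15563 IH) (Lpe (f15564 IH) (Lpr_ct (f15565 IH) (Lpr_gf (f150194 IH) (Lpr_cf (f130488 IH) (Lpn (LP (LK LD1_c14 LD2_c11 LD3_c28)))))))))))))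
theorem f141534 : Led Lsl_ff (LP (LK LD1_c14 LD2_c11 LD3_c28)) = (LP (LK LD1_c12 LD2_c14 LD3_c57)) :=
  Lgr Lrot30 (Lpr_at (f130485 IH) (Lpr_ft (K6.f141530 IH) (Lpe (K6.f141440 IH) (Lpn (LP (LK LD1_c12 LD2_c14 LD3_c57))))))
theorem f94972 : Led Lsl_bt (LP (LK LD1_c6 LD2_c20 LD3_c8)) = (LP (LK LD1_c12 LD2_c14 LD3_c57)) :=
  Lre_b IH (LK LD1_c6 LD2_c20 LD3_c8) (LK LD1_c12 LD2_c14 LD3_c57) Lrfl Lrfl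
theorem f150208 : Led Lsl_ft (LP (LK LD1_c9 LD2_c19 LD3_c58)) = (LP (LK LD1_c6 LD2_c20 LD3_c8)) :=
  Lgr Lrot75 (Lpr_bf (f150201 IH) (Lpr_ff (f141534 IH) (Lpe (f94972 IH) (Lpn (LP (LK LD1_c6 LD2_c20 LD3_c8))))))
theorem f141415 : Led Lsl_at (LP (LK LD1_c6 LD2_c20 LD3_c8)) = (LP (LK LD1_c7 LD2_c30 LD3_c58)) :=
  Lgr Lrot100 (Lpr_af (K6.f141413 IH) (Lpn (LP (LK LD1_c7 LD2_c30 LD3_c58))))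
theorem f141411 : Led Lsl_ff (LP (LK LD1_c6 LD2_c20 LD3_c7)) = (LP (LK LD1_c7 LD2_c30 LD3_c58)) :=
  Lgr Lrot3 (Lpr_ft (K6.f141407 IH) (Lpn (LP (LK LD1_c7 LD2_c30 LD3_c58))))
theorem f150587 : Led Lsl_af (LP (LK LD1_c9 LD2_c19 LD3_c58)) = (LP (LK LD1_c6 LD2_c20 LD3_c7)) :=
  Lgr Lrot45 (Lpr_ft (f150208 IH) (Lpr_at (f141415 IH) (Lpe (f141411 IH) (Lpn (LP (LK LD1_c6 LD2_c20 LD3_c7))))))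
theorem f66440 : Led Lsl_dt (LP (LK LD1_c7 LD2_c30 LD3_c58)) = (LP (LK LD1_c3 LD2_c45 LD3_c4)) :=
  Lre_d IH (LK LD1_c7 LD2_c30 LD3_c58) (LK LD1_c3 LD2_c45 LD3_c4) Lrfl Lrfl
theorem f12488 : Led Lsl_bt (LP (LK LD1_c1 LD2_c49 LD3_c39)) = (LP (LK LD1_c3 LD2_c45 LD3_c4)) :=
  Lre_b IH (LK LD1_c1 LD2_c49 LD3_c39) (LK LD1_c3 LD2_c45 LD3_c4) Lrfl Lrfl
theorem f126354 : Led Lsl_ff (LP (LK LD1_c3 LD2_c16 LD3_c40)) = (LP (LK LD1_c3 LD2_c45 LD3_c4)) :=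
  Lgr Lrot25 (Lpr_bt (K6.f65999 IH) (Lpr_ft (K5.f126352 IH) (Lpr_bt (f12488 IH) (Lpn (LP (LK LD1_c3 LD2_c45 LD3_c4))))))
theorem f141409 : Led Lsl_df (LP (LK LD1_c6 LD2_c20 LD3_c7)) = (LP (LK LD1_c3 LD2_c16 LD3_c40)) :=
  Lgr Lrot78 (Lpr_ft (K6.f141407 IH) (Lpr_dt (f66440 IH) (Lpe (f126354 IH) (Lpn (LP (LK LD1_c3 LD2_c16 LD3_c40))))))
theorem f126370 : Led Lsl_at (LP (LK LD1_c6 LD2_c36 LD3_c41)) = (LP (LK LD1_c3 LD2_c16 LD3_c40)) :=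
  Lre_a IH (LK LD1_c6 LD2_c36 LD3_c41) (LK LD1_c3 LD2_c16 LD3_c40) Lrfl Lrfl
theorem f150591 : Led Lsl_dt (LP (LK LD1_c9 LD2_c19 LD3_c58)) = (LP (LK LD1_c6 LD2_c36 LD3_c41)) :=
  Lgr Lrot44 (Lpr_af (f150587 IH) (Lpr_df (f141409 IH) (Lpe (f126370 IH) (Lpn (LP (LK LD1_c6 LD2_c36 LD3_c41))))))
theorem f150595 : Led Lsl_df (LP (LK LD1_c9 LD2_c19 LD3_c58)) = (LP (LK LD1_c6 LD2_c36 LD3_c41)) :=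
  Lgr Lrot38 (Lpr_dt (f150591 IH) (Lpn (LP (LK LD1_c6 LD2_c36 LD3_c41))))
theorem f66443 : Led Lsl_dt (LP (LK LD1_c3 LD2_c45 LD3_c4)) = (LP (LK LD1_c7 LD2_c30 LD3_c58)) :=
  Lre_d IH (LK LD1_c3 LD2_c45 LD3_c4) (LK LD1_c7 LD2_c30 LD3_c58) Lrfl Lrfl
theorem f66520 : Led Lsl_at (LP (LK LD1_c7 LD2_c30 LD3_c57)) = (LP (LK LD1_c3 LD2_c45 LD3_c4)) :=
  Lre_a IH (LK LD1_c7 LD2_c30 LD3_c57) (LK LD1_c3 LD2_c45 LD3_c4) Lrfl Lrfl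
theorem f141419 : Led Lsl_dt (LP (LK LD1_c6 LD2_c20 LD3_c8)) = (LP (LK LD1_c7 LD2_c30 LD3_c57)) :=
  Lgr Lrot44 (Lpr_af (K6.f141413 IH) (Lpe (f66443 IH) (Lpe (f66520 IH) (Lpn (LP (LK LD1_c7 LD2_c30 LD3_c57))))))
theorem f150597 : Led Lsl_ft (LP (LK LD1_c7 LD2_c30 LD3_c57)) = (LP (LK LD1_c6 LD2_c36 LD3_c41)) :=
  Lgr Lrot54 (Lpe (f141419 IH) (Lpe (f150208 IH) (Lpr_df (f150595 IH) (Lpn (LP (LK LD1_c6 LD2_c36 LD3_c41))))))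
theorem f150603 : Led Lsl_ff (LP (LK LD1_c7 LD2_c30 LD3_c57)) = (LP (LK LD1_c6 LD2_c36 LD3_c41)) :=
  Lgr Lrot3 (Lpr_ft (f150597 IH) (Lpn (LP (LK LD1_c6 LD2_c36 LD3_c41))))
theorem f150589 : Led Lsl_ff (LP (LK LD1_c9 LD2_c19 LD3_c58)) = (LP (LK LD1_c6 LD2_c20 LD3_c8)) :=
  Lgr Lrot3 (Lpr_ft (f150208 IH) (Lpn (LP (LK LD1_c6 LD2_c20 LD3_c8))))
theorem f150609 : Led Lsl_dt (LP (LK LD1_c7 LD2_c30 LD3_c57)) = (LP (LK LD1_c6 LD2_c20 LD3_c8)) :=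
  Lgr Lrot60 (Lpr_ff (f150603 IH) (Lpe (f150591 IH) (Lpr_ff (f150589 IH) (Lpn (LP (LK LD1_c6 LD2_c20 LD3_c8))))))
theorem f79150 : Led Lsl_at (LP (LK LD1_c3 LD2_c16 LD3_c38)) = (LP (LK LD1_c6 LD2_c36 LD3_c39)) :=
  Lre_a IH (LK LD1_c3 LD2_c16 LD3_c38) (LK LD1_c6 LD2_c36 LD3_c39) Lrfl Lrfl
theorem f12561 : Led Lsl_bt (LP (LK LD1_c3 LD2_c45 LD3_c4)) = (LP (LK LD1_c1 LD2_c49 LD3_c39)) :=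
  Lre_b IH (LK LD1_c3 LD2_c45 LD3_c4) (LK LD1_c1 LD2_c49 LD3_c39) Lrfl Lrfl
theorem f126346 : Led Lsl_bt (LP (LK LD1_c6 LD2_c36 LD3_c39)) = (LP (LK LD1_c7 LD2_c30 LD3_c57)) :=
  Lgr Lrot62 (Lpe (f79150 IH) (Lpe (f79117 IH) (Lpr_af (K5.f126342 IH) (Lpe (f12561 IH) (Lpe (f66520 IH) (Lpn (LP (LK LD1_c7 LD2_c30 LD3_c57))))))))
theorem f150611 : Led Lsl_df (LP (LK LD1_c6 LD2_c36 LD3_c39)) = (LP (LK LD1_c12 LD2_c14 LD3_c57)) :=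
  Lgr Lrot12 (Lpr_bt (f126346 IH) (Lpr_dt (f150609 IH) (Lpr_bt (f94972 IH) (Lpn (LP (LK LD1_c12 LD2_c14 LD3_c57))))))
theorem f141545 : Led Lsl_ft (LP (LK LD1_c14 LD2_c11 LD3_c28)) = (LP (LK LD1_c12 LD2_c14 LD3_c57)) :=
  Lgr Lrot48 (Lpr_ff (f141534 IH) (Lpn (LP (LK LD1_c12 LD2_c14 LD3_c57))))
theorem f124493 : Led Lsl_dt (LP (LK LD1_c7 LD2_c31 LD3_c5)) = (LP (LK LD1_c14 LD2_c11 LD3_c28)) :=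
  Lre_d IH (LK LD1_c7 LD2_c31 LD3_c5) (LK LD1_c14 LD2_c11 LD3_c28) Lrfl Lrfl
theorem f150627 : Led Lsl_ft (LP (LK LD1_c6 LD2_c36 LD3_c39)) = (LP (LK LD1_c7 LD2_c31 LD3_c5)) :=
  Lgr Lrot54 (Lpr_df (f150611 IH) (Lpe (f141545 IH) (Lpe (f124493 IH) (Lpn (LP (LK LD1_c7 LD2_c31 LD3_c5))))))
theorem f69136 : Led Lsl_bt (LP (LK LD1_c1 LD2_c31 LD3_c47)) = (LP (LK LD1_c3 LD2_c10 LD3_c45)) :=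
  Lre_b IH (LK LD1_c1 LD2_c31 LD3_c47) (LK LD1_c3 LD2_c10 LD3_c45) Lrfl Lrfl
theorem f79127 : Led Lsl_ct (LP (LK LD1_c3 LD2_c10 LD3_c45)) = (LP (LK LD1_c3 LD2_c16 LD3_c38)) :=
  Lgr Lrot83 (Lpe (f69136 IH) (Lpe (K5.f79125 IH) (Lpe (K2.f61253 IH) (Lpr_cf (K2.f79120 IH) (Lpe (f79126 IH) (Lpn (LP (LK LD1_c3 LD2_c16 LD3_c38))))))))
theorem f79149 : Led Lsl_at (LP (LK LD1_c6 LD2_c25 LD3_c56)) = (LP (LK LD1_c3 LD2_c10 LD3_c45)) :=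
  Lre_a IH (LK LD1_c6 LD2_c25 LD3_c56) (LK LD1_c3 LD2_c10 LD3_c45) Lrfl Lrfl
theorem f79151 : Led Lsl_cf (LP (LK LD1_c6 LD2_c25 LD3_c56)) = (LP (LK LD1_c6 LD2_c36 LD3_c39)) :=
  Lgr Lrot1 (Lpr_at (f79149 IH) (Lpr_ct (f79127 IH) (Lpr_at (f79150 IH) (Lpn (LP (LK LD1_c6 LD2_c36 LD3_c39))))))
theorem f79155 : Led Lsl_ct (LP (LK LD1_c6 LD2_c25 LD3_c56)) = (LP (LK LD1_c6 LD2_c36 LD3_c39)) :=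
  Lgr Lrot59 (Lpr_cf (f79151 IH) (Lpn (LP (LK LD1_c6 LD2_c36 LD3_c39))))
theorem f26007 : Led Lsl_gt (LP (LK LD1_c1 LD2_c6 LD3_c5)) = (LP (LK LD1_c2 LD2_c18 LD3_c6)) :=
  Lre_g IH (LK LD1_c1 LD2_c6 LD3_c5) (LK LD1_c2 LD2_c18 LD3_c6) Lrfl Lrfl
theorem f124434 : Led Lsl_cf (LP (LK LD1_c1 LD2_c32 LD3_c27)) = (LP (LK LD1_c2 LD2_c18 LD3_c6)) :=
  Lgr Lrot175 (Lpr_dt (K4.f26148 IH) (Lpe (K5.f24384 IH) (Lpe (K3.f20985 IH) (Lpe (K2.f26074 IH) (Lpe (K3.f26099 IH) (Lpr_dt (K5.f124423 IH) (Lpr_gt (K5.f60974 IH) (Lpr_ct (K3.f26006 IH) (Lpr_gt (f26007 IH) (Lpn (LP (LK LD1_c2 LD2_c18 LD3_c6))))))))))))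
theorem f124453 : Led Lsl_ct (LP (LK LD1_c1 LD2_c32 LD3_c27)) = (LP (LK LD1_c2 LD2_c18 LD3_c6)) :=
  Lgr Lrot59 (Lpr_cf (f124434 IH) (Lpn (LP (LK LD1_c2 LD2_c18 LD3_c6))))
theorem f113347 : Led Lsl_bt (LP (LK LD1_c1 LD2_c32 LD3_c27)) = (LP (LK LD1_c3 LD2_c12 LD3_c0)) :=
  Lre_b IH (LK LD1_c1 LD2_c32 LD3_c27) (LK LD1_c3 LD2_c12 LD3_c0) Lrfl Lrfl
theorem f103558 : Led Lsl_gt (LP (LK LD1_c3 LD2_c12 LD3_c0)) = (LP (LK LD1_c1 LD2_c34 LD3_c47)) :=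
  Lgr Lrot9 (Lpe (K4.f24400 IH) (Lpr_gt (K3.f103507 IH) (Lpe (K3.f103493 IH) (Lpr_gt (K3.f9756 IH) (Lpr_ct (K0.f9737 IH) (Lpe (K2.f9748 IH) (Lpe (K2.f9749 IH) (Lpr_gf (K3.f60972 IH) (Lpe (K3.f60971 IH) (Lpn (LP (LK LD1_c1 LD2_c34 LD3_c47))))))))))))
theorem f124459 : Led Lsl_bt (LP (LK LD1_c0 LD2_c51 LD3_c42)) = (LP (LK LD1_c1 LD2_c6 LD3_c4)) :=
  Lgr Lrot130 (Lpr_ct (K3.f62654 IH) (Lpe (K5.f103580 IH) (Lpe (K3.f60975 IH) (Lpr_bt (K3.f96630 IH) (Lpe (f103558 IH) (Lpe (f113347 IH) (Lpr_ct (f124453 IH) (Lpe (f26007 IH) (Lpe (K3.f26006 IH) (Lpe (K5.f60974 IH) (Lpn (LP (LK LD1_c1 LD2_c6 LD3_c4)))))))))))))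
theorem f117058 : Led Lsl_bt (LP (LK LD1_c3 LD2_c45 LD3_c9)) = (LP (LK LD1_c1 LD2_c49 LD3_c42)) :=
  Lre_b IH (LK LD1_c3 LD2_c45 LD3_c9) (LK LD1_c1 LD2_c49 LD3_c42) Lrfl Lrfl
theorem f124425 : Led Lsl_ct (LP (LK LD1_c1 LD2_c6 LD3_c4)) = (LP (LK LD1_c2 LD2_c18 LD3_c4)) :=
  Lre_c IH (LK LD1_c1 LD2_c6 LD3_c4) (LK LD1_c2 LD2_c18 LD3_c4) Lrfl Lrfl
theorem f61143 : Led Lsl_bt (LP (LK LD1_c2 LD2_c18 LD3_c4)) = (LP (LK LD1_c4 LD2_c41 LD3_c46)) :=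
  Lre_b IH (LK LD1_c2 LD2_c18 LD3_c4) (LK LD1_c4 LD2_c41 LD3_c46) Lrfl Lrfl
theorem f124461 : Led Lsl_cf (LP (LK LD1_c3 LD2_c45 LD3_c9)) = (LP (LK LD1_c4 LD2_c41 LD3_c46)) :=
  Lgr Lrot97 (Lpr_bt (f117058 IH) (Lpr_ct (K5.f62312 IH) (Lpr_bt (f124459 IH) (Lpr_ct (f124425 IH) (Lpr_bt (f61143 IH) (Lpn (LP (LK LD1_c4 LD2_c41 LD3_c46))))))))
theorem f124475 : Led Lsl_at (LP (LK LD1_c3 LD2_c45 LD3_c9)) = (LP (LK LD1_c7 LD2_c31 LD3_c5)) :=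
  Lre_a IH (LK LD1_c3 LD2_c45 LD3_c9) (LK LD1_c7 LD2_c31 LD3_c5) Lrfl Lrfl
theorem f124476 : Led Lsl_at (LP (LK LD1_c9 LD2_c18 LD3_c11)) = (LP (LK LD1_c4 LD2_c41 LD3_c46)) :=
  Lre_a IH (LK LD1_c9 LD2_c18 LD3_c11) (LK LD1_c4 LD2_c41 LD3_c46) Lrfl Lrfl
theorem f124477 : Led Lsl_ct (LP (LK LD1_c7 LD2_c31 LD3_c5)) = (LP (LK LD1_c9 LD2_c18 LD3_c11)) :=
  Lgr Lrot111 (Lpe (f124475 IH) (Lpr_cf (f124461 IH) (Lpe (f124476 IH) (Lpn (LP (LK LD1_c9 LD2_c18 LD3_c11))))))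
theorem f150631 : Led Lsl_ff (LP (LK LD1_c6 LD2_c25 LD3_c56)) = (LP (LK LD1_c9 LD2_c18 LD3_c11)) :=
  Lgr Lrot23 (Lpr_ct (f79155 IH) (Lpr_ft (f150627 IH) (Lpr_ct (f124477 IH) (Lpn (LP (LK LD1_c9 LD2_c18 LD3_c11))))))
theorem f150637 : Led Lsl_ft (LP (LK LD1_c6 LD2_c25 LD3_c56)) = (LP (LK LD1_c9 LD2_c18 LD3_c11)) :=
  Lgr Lrot48 (Lpr_ff (f150631 IH) (Lpn (LP (LK LD1_c9 LD2_c18 LD3_c11))))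
theorem f79157 : Led Lsl_at (LP (LK LD1_c3 LD2_c10 LD3_c45)) = (LP (LK LD1_c6 LD2_c25 LD3_c56)) :=
  Lre_a IH (LK LD1_c3 LD2_c10 LD3_c45) (LK LD1_c6 LD2_c25 LD3_c56) Lrfl Lrfl
theorem f150649 : Led Lsl_ff (LP (LK LD1_c3 LD2_c10 LD3_c45)) = (LP (LK LD1_c4 LD2_c41 LD3_c46)) :=
  Lgr Lrot30 (Lpr_at (f79157 IH) (Lpr_ft (f150637 IH) (Lpr_at (f124476 IH) (Lpn (LP (LK LD1_c4 LD2_c41 LD3_c46))))))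
theorem f150651 : Led Lsl_ft (LP (LK LD1_c1 LD2_c31 LD3_c47)) = (LP (LK LD1_c2 LD2_c18 LD3_c4)) :=
  Lgr Lrot75 (Lpe (f79116 IH) (Lpr_ff (f150649 IH) (Lpe (f61143 IH) (Lpn (LP (LK LD1_c2 LD2_c18 LD3_c4))))))
theorem f69276 : Led Lsl_bt (LP (LK LD1_c0 LD2_c45 LD3_c27)) = (LP (LK LD1_c1 LD2_c37 LD3_c61)) :=
  Lre_b IH (LK LD1_c0 LD2_c45 LD3_c27) (LK LD1_c1 LD2_c37 LD3_c61) Lrfl Lrfl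
theorem f125553 : Led Lsl_gt (LP (LK LD1_c1 LD2_c31 LD3_c47)) = (LP (LK LD1_c3 LD2_c10 LD3_c42)) :=
  Lgr Lrot65 (Lpe (K5.f79125 IH) (Lpr_bt (K5.f79115 IH) (Lpe (K3.f94119 IH) (Lpe (f69276 IH) (Lpr_ct (K2.f69269 IH) (Lpe (K5.f90582 IH) (Lpe (K5.f107332 IH) (Lpr_gf (K5.f107269 IH) (Lpe (K5.f79612 IH) (Lpr_ct (K5.f125539 IH) (Lpn (LP (LK LD1_c3 LD2_c10 LD3_c42)))))))))))))
theorem f150658 : Led Lsl_af (LP (LK LD1_c1 LD2_c31 LD3_c44)) = (LP (LK LD1_c2 LD2_c18 LD3_c4)) :=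
  Lgr Lrot31 (Lpe (K5.f125538 IH) (Lpe (f125553 IH) (Lpr_ft (f150651 IH) (Lpn (LP (LK LD1_c2 LD2_c18 LD3_c4))))))
theorem f150660 : Led Lsl_at (LP (LK LD1_c1 LD2_c31 LD3_c44)) = (LP (LK LD1_c2 LD2_c18 LD3_c4)) :=
  Lgr Lrot100 (Lpr_af (f150658 IH) (Lpn (LP (LK LD1_c2 LD2_c18 LD3_c4))))
theorem f61142 : Led Lsl_ct (LP (LK LD1_c2 LD2_c18 LD3_c4)) = (LP (LK LD1_c1 LD2_c6 LD3_c4)) :=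
  Lre_c IH (LK LD1_c2 LD2_c18 LD3_c4) (LK LD1_c1 LD2_c6 LD3_c4) Lrfl Lrfl
theorem f124436 : Led Lsl_gt (LP (LK LD1_c2 LD2_c21 LD3_c1)) = (LP (LK LD1_c2 LD2_c18 LD3_c4)) :=
  Lgr Lrot187 (Lpe (K2.f60965 IH) (Lpe (K3.f104183 IH) (Lpr_dt (K3.f23477 IH) (Lpr_gt (K3.f104154 IH) (Lpe (K3.f79284 IH) (Lpr_gt (K3.f79321 IH) (Lpe (K3.f26101 IH) (Lpr_dt (K5.f124423 IH) (Lpe (f61142 IH) (Lpn (LP (LK LD1_c2 LD2_c18 LD3_c4))))))))))))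
theorem f150676 : Led Lsl_ff (LP (LK LD1_c1 LD2_c31 LD3_c44)) = (LP (LK LD1_c2 LD2_c18 LD3_c3)) :=
  Lgr Lrot52 (Lpr_at (f150660 IH) (Lpe (f124436 IH) (Lpe (K2.f60966 IH) (Lpn (LP (LK LD1_c2 LD2_c18 LD3_c3))))))
theorem f150684 : Led Lsl_ft (LP (LK LD1_c1 LD2_c31 LD3_c44)) = (LP (LK LD1_c2 LD2_c18 LD3_c3)) :=
  Lgr Lrot48 (Lpr_ff (f150676 IH) (Lpn (LP (LK LD1_c2 LD2_c18 LD3_c3))))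
theorem f125557 : Led Lsl_bt (LP (LK LD1_c3 LD2_c10 LD3_c43)) = (LP (LK LD1_c1 LD2_c31 LD3_c44)) :=
  Lre_b IH (LK LD1_c3 LD2_c10 LD3_c43) (LK LD1_c1 LD2_c31 LD3_c44) Lrfl Lrfl
theorem f150688 : Led Lsl_ff (LP (LK LD1_c3 LD2_c10 LD3_c43)) = (LP (LK LD1_c4 LD2_c41 LD3_c45)) :=
  Lgr Lrot25 (Lpr_bt (f125557 IH) (Lpr_ft (f150684 IH) (Lpr_bt (K4.f61145 IH) (Lpn (LP (LK LD1_c4 LD2_c41 LD3_c45))))))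
theorem f139523 : Led Lsl_at (LP (LK LD1_c3 LD2_c10 LD3_c43)) = (LP (LK LD1_c6 LD2_c25 LD3_c51)) :=
  Lre_a IH (LK LD1_c3 LD2_c10 LD3_c43) (LK LD1_c6 LD2_c25 LD3_c51) Lrfl Lrfl
theorem f150692 : Led Lsl_gf (LP (LK LD1_c6 LD2_c25 LD3_c51)) = (LP (LK LD1_c3 LD2_c59 LD3_c48)) :=
  Lgr Lrot76 (Lpe (f139523 IH) (Lpr_ff (f150688 IH) (Lpe (K4.f104729 IH) (Lpn (LP (LK LD1_c3 LD2_c59 LD3_c48))))))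
theorem f150694 : Led Lsl_gt (LP (LK LD1_c6 LD2_c25 LD3_c51)) = (LP (LK LD1_c6 LD2_c50 LD3_c26)) :=
  Lgr Lrot46 (Lpr_gf (f150692 IH) (Lpr_ft (f40355 IH) (Lpr_at (K0.f14401 IH) (Lpn (LP (LK LD1_c6 LD2_c50 LD3_c26))))))
theorem f14079 : Led Lsl_dt (LP (LK LD1_c6 LD2_c50 LD3_c26)) = (LP (LK LD1_c3 LD2_c23 LD3_c36)) :=
  Lre_d IH (LK LD1_c6 LD2_c50 LD3_c26) (LK LD1_c3 LD2_c23 LD3_c36) Lrfl Lrfl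
theorem f36270 : Led Lsl_ft (LP (LK LD1_c0 LD2_c45 LD3_c33)) = (LP (LK LD1_c0 LD2_c55 LD3_c2)) :=
  Lgr Lrot75 (Lpe (K4.f23588 IH) (Lpr_ff (K1.f36267 IH) (Lpe (K4.f36231 IH) (Lpn (LP (LK LD1_c0 LD2_c55 LD3_c2))))))
theorem f99553 : Led Lsl_ft (LP (LK LD1_c0 LD2_c24 LD3_c55)) = (LP (LK LD1_c0 LD2_c40 LD3_c32)) :=
  Lgr Lrot54 (Lpe (K1.f37454 IH) (Lpe (f36270 IH) (Lpr_df (K4.f99540 IH) (Lpn (LP (LK LD1_c0 LD2_c40 LD3_c32))))))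
theorem f100447 : Led Lsl_at (LP (LK LD1_c0 LD2_c40 LD3_c32)) = (LP (LK LD1_c1 LD2_c27 LD3_c38)) :=
  Lre_a IH (LK LD1_c0 LD2_c40 LD3_c32) (LK LD1_c1 LD2_c27 LD3_c38) Lrfl Lrfl
theorem f101688 : Led Lsl_gt (LP (LK LD1_c0 LD2_c54 LD3_c61)) = (LP (LK LD1_c1 LD2_c27 LD3_c38)) :=
  Lgr Lrot46 (Lpe (K6.f37771 IH) (Lpr_ft (f99553 IH) (Lpr_at (f100447 IH) (Lpn (LP (LK LD1_c1 LD2_c27 LD3_c38))))))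
theorem f68337 : Led Lsl_gt (LP (LK LD1_c2 LD2_c52 LD3_c6)) = (LP (LK LD1_c5 LD2_c51 LD3_c44)) :=
  Lre_g IH (LK LD1_c2 LD2_c52 LD3_c6) (LK LD1_c5 LD2_c51 LD3_c44) Lrfl Lrfl
theorem f150696 : Led Lsl_df (LP (LK LD1_c6 LD2_c25 LD3_c51)) = (LP (LK LD1_c5 LD2_c51 LD3_c44)) :=
  Lgr Lrot153 (Lpr_gt (f150694 IH) (Lpr_dt (f14079 IH) (Lpe (K4.f40326 IH) (Lpr_df (f100445 IH) (Lpe (f101688 IH) (Lpe (K6.f37819 IH) (Lpe (f149347 IH) (Lpe (f8343 IH) (Lpr_gt (f68337 IH) (Lpn (LP (LK LD1_c5 LD2_c51 LD3_c44))))))))))))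
theorem f139524 : Led Lsl_at (LP (LK LD1_c6 LD2_c42 LD3_c10)) = (LP (LK LD1_c3 LD2_c19 LD3_c3)) :=
  Lre_a IH (LK LD1_c6 LD2_c42 LD3_c10) (LK LD1_c3 LD2_c19 LD3_c3) Lrfl Lrfl
theorem f139788 : Led Lsl_cf (LP (LK LD1_c6 LD2_c42 LD3_c10)) = (LP (LK LD1_c6 LD2_c25 LD3_c51)) :=
  Lgr Lrot1 (Lpr_at (f139524 IH) (Lpr_ct (K6.f139779 IH) (Lpr_at (f139523 IH) (Lpn (LP (LK LD1_c6 LD2_c25 LD3_c51))))))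
theorem f129236 : Led Lsl_at (LP (LK LD1_c7 LD2_c24 LD3_c58)) = (LP (LK LD1_c3 LD2_c42 LD3_c5)) :=
  Lre_a IH (LK LD1_c7 LD2_c24 LD3_c58) (LK LD1_c3 LD2_c42 LD3_c5) Lrfl Lrfl
theorem f129237 : Led Lsl_bt (LP (LK LD1_c1 LD2_c35 LD3_c61)) = (LP (LK LD1_c3 LD2_c19 LD3_c3)) :=
  Lre_b IH (LK LD1_c1 LD2_c35 LD3_c61) (LK LD1_c3 LD2_c19 LD3_c3) Lrfl Lrfl
theorem f129238 : Led Lsl_at (LP (LK LD1_c3 LD2_c19 LD3_c3)) = (LP (LK LD1_c6 LD2_c42 LD3_c10)) :=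
  Lre_a IH (LK LD1_c3 LD2_c19 LD3_c3) (LK LD1_c6 LD2_c42 LD3_c10) Lrfl Lrfl
theorem f129239 : Led Lsl_bf (LP (LK LD1_c7 LD2_c24 LD3_c58)) = (LP (LK LD1_c6 LD2_c42 LD3_c10)) :=
  Lgr Lrot81 (Lpr_at (f129236 IH) (Lpr_bt (K6.f26245 IH) (Lpr_at (K5.f129232 IH) (Lpr_bt (f129237 IH) (Lpr_at (f129238 IH) (Lpn (LP (LK LD1_c6 LD2_c42 LD3_c10))))))))
theorem f150639 : Led Lsl_gf (LP (LK LD1_c6 LD2_c25 LD3_c55)) = (LP (LK LD1_c9 LD2_c18 LD3_c11)) :=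
  Lgr Lrot47 (Lpr_gt (f69137 IH) (Lpe (f79149 IH) (Lpr_ff (f150631 IH) (Lpn (LP (LK LD1_c9 LD2_c18 LD3_c11))))))
theorem f94128 : Led Lsl_gt (LP (LK LD1_c1 LD2_c35 LD3_c24)) = (LP (LK LD1_c2 LD2_c16 LD3_c1)) :=
  Lre_g IH (LK LD1_c1 LD2_c35 LD3_c24) (LK LD1_c2 LD2_c16 LD3_c1) Lrfl Lrfl
theorem f14348 : Led Lsl_gt (LP (LK LD1_c2 LD2_c56 LD3_c2)) = (LP (LK LD1_c4 LD2_c45 LD3_c17)) :=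
  Lre_g IH (LK LD1_c2 LD2_c56 LD3_c2) (LK LD1_c4 LD2_c45 LD3_c17) Lrfl Lrfl
theorem f69317 : Led Lsl_ct (LP (LK LD1_c9 LD2_c23 LD3_c16)) = (LP (LK LD1_c4 LD2_c45 LD3_c17)) :=
  Lre_c IH (LK LD1_c9 LD2_c23 LD3_c16) (LK LD1_c4 LD2_c45 LD3_c17) Lrfl Lrfl
theorem f14062 : Led Lsl_gt (LP (LK LD1_c4 LD2_c45 LD3_c17)) = (LP (LK LD1_c2 LD2_c20 LD3_c46)) :=
  Lre_g IH (LK LD1_c4 LD2_c45 LD3_c17) (LK LD1_c2 LD2_c20 LD3_c46) Lrfl Lrfl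
theorem f79123 : Led Lsl_gt (LP (LK LD1_c3 LD2_c16 LD3_c38)) = (LP (LK LD1_c6 LD2_c36 LD3_c37)) :=
  Lre_g IH (LK LD1_c3 LD2_c16 LD3_c38) (LK LD1_c6 LD2_c36 LD3_c37) Lrfl Lrfl
theorem f94123 : Led Lsl_bt (LP (LK LD1_c9 LD2_c23 LD3_c16)) = (LP (LK LD1_c6 LD2_c36 LD3_c37)) :=
  Lgr Lrot92 (Lpr_ct (f69317 IH) (Lpr_gt (f14062 IH) (Lpe (K0.f14040 IH) (Lpr_bt (f69316 IH) (Lpr_gt (K3.f63841 IH) (Lpr_ct (K3.f69278 IH) (Lpr_gt (K3.f94119 IH) (Lpr_cf (K2.f79120 IH) (Lpr_bt (f79117 IH) (Lpr_gt (f79123 IH) (Lpn (LP (LK LD1_c6 LD2_c36 LD3_c37)))))))))))))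
theorem f150643 : Led Lsl_gt (LP (LK LD1_c6 LD2_c36 LD3_c37)) = (LP (LK LD1_c7 LD2_c31 LD3_c5)) :=
  Lgr Lrot82 (Lpe (f94123 IH) (Lpr_ct (f69317 IH) (Lpe (f14348 IH) (Lpe (f14058 IH) (Lpr_bt (f14353 IH) (Lpe (f94128 IH) (Lpe (f94129 IH) (Lpr_ct (f103834 IH) (Lpr_gf (f150639 IH) (Lpe (f124477 IH) (Lpn (LP (LK LD1_c7 LD2_c31 LD3_c5)))))))))))))
theorem f14093 : Led Lsl_gt (LP (LK LD1_c3 LD2_c16 LD3_c13)) = (LP (LK LD1_c4 LD2_c37 LD3_c40)) :=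
  Lre_g IH (LK LD1_c3 LD2_c16 LD3_c13) (LK LD1_c4 LD2_c37 LD3_c40) Lrfl Lrfl
theorem f94127 : Led Lsl_bt (LP (LK LD1_c6 LD2_c35 LD3_c42)) = (LP (LK LD1_c3 LD2_c16 LD3_c13)) :=
  Lre_b IH (LK LD1_c6 LD2_c35 LD3_c42) (LK LD1_c3 LD2_c16 LD3_c13) Lrfl Lrfl
theorem f66464 : Led Lsl_et (LP (LK LD1_c1 LD2_c35 LD3_c60)) = (LP (LK LD1_c3 LD2_c19 LD3_c2)) :=
  Lre_e IH (LK LD1_c1 LD2_c35 LD3_c60) (LK LD1_c3 LD2_c19 LD3_c2) Lrfl Lrfl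
theorem f66465 : Led Lsl_cf (LP (LK LD1_c1 LD2_c46 LD3_c58)) = (LP (LK LD1_c3 LD2_c19 LD3_c2)) :=
  Lgr Lrot39 (Lpr_et (K1.f12482 IH) (Lpr_ct (K1.f66453 IH) (Lpr_et (f66464 IH) (Lpn (LP (LK LD1_c3 LD2_c19 LD3_c2))))))
theorem f66473 : Led Lsl_ct (LP (LK LD1_c1 LD2_c46 LD3_c58)) = (LP (LK LD1_c3 LD2_c19 LD3_c2)) :=
  Lgr Lrot59 (Lpr_cf (f66465 IH) (Lpn (LP (LK LD1_c3 LD2_c19 LD3_c2))))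
theorem f12478 : Led Lsl_ct (LP (LK LD1_c3 LD2_c45 LD3_c6)) = (LP (LK LD1_c1 LD2_c49 LD3_c40)) :=
  Lre_c IH (LK LD1_c3 LD2_c45 LD3_c6) (LK LD1_c1 LD2_c49 LD3_c40) Lrfl Lrfl
theorem f12479 : Led Lsl_bt (LP (LK LD1_c7 LD2_c30 LD3_c59)) = (LP (LK LD1_c3 LD2_c45 LD3_c6)) :=
  Lre_b IH (LK LD1_c7 LD2_c30 LD3_c59) (LK LD1_c3 LD2_c45 LD3_c6) Lrfl Lrfl
theorem f66482 : Led Lsl_bt (LP (LK LD1_c3 LD2_c19 LD3_c2)) = (LP (LK LD1_c6 LD2_c42 LD3_c5)) :=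
  Lre_b IH (LK LD1_c3 LD2_c19 LD3_c2) (LK LD1_c6 LD2_c42 LD3_c5) Lrfl Lrfl
theorem f66487 : Led Lsl_cf (LP (LK LD1_c7 LD2_c30 LD3_c59)) = (LP (LK LD1_c6 LD2_c42 LD3_c5)) :=
  Lgr Lrot97 (Lpr_bt (f12479 IH) (Lpr_ct (f12478 IH) (Lpe (K1.f12472 IH) (Lpr_ct (f66473 IH) (Lpr_bt (f66482 IH) (Lpn (LP (LK LD1_c6 LD2_c42 LD3_c5))))))))
theorem f66445 : Led Lsl_et (LP (LK LD1_c7 LD2_c30 LD3_c59)) = (LP (LK LD1_c3 LD2_c45 LD3_c4)) :=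
  Lre_e IH (LK LD1_c7 LD2_c30 LD3_c59) (LK LD1_c3 LD2_c45 LD3_c4) Lrfl Lrfl
theorem f66502 : Led Lsl_et (LP (LK LD1_c3 LD2_c19 LD3_c1)) = (LP (LK LD1_c6 LD2_c42 LD3_c5)) :=
  Lre_e IH (LK LD1_c3 LD2_c19 LD3_c1) (LK LD1_c6 LD2_c42 LD3_c5) Lrfl Lrfl
theorem f66503 : Led Lsl_ct (LP (LK LD1_c3 LD2_c45 LD3_c4)) = (LP (LK LD1_c3 LD2_c19 LD3_c1)) :=
  Lgr Lrot15 (Lpe (f66445 IH) (Lpr_cf (f66487 IH) (Lpe (f66502 IH) (Lpn (LP (LK LD1_c3 LD2_c19 LD3_c1))))))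
theorem f66527 : Led Lsl_gt (LP (LK LD1_c6 LD2_c42 LD3_c3)) = (LP (LK LD1_c3 LD2_c19 LD3_c1)) :=
  Lre_g IH (LK LD1_c6 LD2_c42 LD3_c3) (LK LD1_c3 LD2_c19 LD3_c1) Lrfl Lrfl
theorem f96627 : Led Lsl_gt (LP (LK LD1_c1 LD2_c34 LD3_c52)) = (LP (LK LD1_c3 LD2_c16 LD3_c13)) :=
  Lre_g IH (LK LD1_c1 LD2_c34 LD3_c52) (LK LD1_c3 LD2_c16 LD3_c13) Lrfl Lrfl
theorem f96628 : Led Lsl_cf (LP (LK LD1_c6 LD2_c42 LD3_c3)) = (LP (LK LD1_c6 LD2_c35 LD3_c42)) :=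
  Lgr Lrot160 (Lpr_gt (f66527 IH) (Lpe (f66503 IH) (Lpr_bt (f12561 IH) (Lpr_gt (K3.f96619 IH) (Lpr_ct (K3.f63863 IH) (Lpr_gt (K3.f63862 IH) (Lpe (K3.f63845 IH) (Lpr_bt (K6.f96626 IH) (Lpr_gt (f96627 IH) (Lpe (f94127 IH) (Lpn (LP (LK LD1_c6 LD2_c35 LD3_c42)))))))))))))
theorem f150593 : Led Lsl_bf (LP (LK LD1_c7 LD2_c31 LD3_c5)) = (LP (LK LD1_c6 LD2_c36 LD3_c41)) :=
  Lgr Lrot93 (Lpr_dt (f124493 IH) (Lpe (f150201 IH) (Lpr_dt (f150591 IH) (Lpn (LP (LK LD1_c6 LD2_c36 LD3_c41))))))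
theorem f130905 : Led Lsl_at (LP (LK LD1_c3 LD2_c42 LD3_c5)) = (LP (LK LD1_c7 LD2_c24 LD3_c58)) :=
  Lre_a IH (LK LD1_c3 LD2_c42 LD3_c5) (LK LD1_c7 LD2_c24 LD3_c58) Lrfl Lrfl
theorem f130906 : Led Lsl_cf (LP (LK LD1_c6 LD2_c36 LD3_c41)) = (LP (LK LD1_c7 LD2_c24 LD3_c58)) :=
  Lgr Lrot1 (Lpr_at (f126370 IH) (Lpr_ct (K6.f130901 IH) (Lpr_at (f130905 IH) (Lpn (LP (LK LD1_c7 LD2_c24 LD3_c58))))))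
theorem f130947 : Led Lsl_ct (LP (LK LD1_c6 LD2_c36 LD3_c41)) = (LP (LK LD1_c7 LD2_c24 LD3_c58)) :=
  Lgr Lrot59 (Lpr_cf (f130906 IH) (Lpn (LP (LK LD1_c7 LD2_c24 LD3_c58))))
theorem f150645 : Led Lsl_gf (LP (LK LD1_c6 LD2_c42 LD3_c3)) = (LP (LK LD1_c7 LD2_c24 LD3_c58)) :=
  Lgr Lrot126 (Lpr_cf (f96628 IH) (Lpr_bt (f94127 IH) (Lpr_gt (f14093 IH) (Lpr_ct (f14058 IH) (Lpr_gt (f14348 IH) (Lpe (f69317 IH) (Lpr_bt (f94123 IH) (Lpr_gt (f150643 IH) (Lpr_bf (f150593 IH) (Lpr_ct (f130947 IH) (Lpn (LP (LK LD1_c7 LD2_c24 LD3_c58)))))))))))))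
theorem f96644 : Led Lsl_dt (LP (LK LD1_c6 LD2_c42 LD3_c3)) = (LP (LK LD1_c12 LD2_c49 LD3_c12)) :=
  Lre_d IH (LK LD1_c6 LD2_c42 LD3_c3) (LK LD1_c12 LD2_c49 LD3_c12) Lrfl Lrfl
theorem f68320 : Led Lsl_bt (LP (LK LD1_c1 LD2_c29 LD3_c35)) = (LP (LK LD1_c2 LD2_c52 LD3_c6)) :=
  Lgr Lrot128 (Lpe (K2.f66812 IH) (Lpe (K2.f66944 IH) (Lpr_cf (K2.f68316 IH) (Lpe (K2.f8342 IH) (Lpe (f8343 IH) (Lpn (LP (LK LD1_c2 LD2_c52 LD3_c6))))))))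
theorem f103270 : Led Lsl_bt (LP (LK LD1_c9 LD2_c16 LD3_c17)) = (LP (LK LD1_c4 LD2_c40 LD3_c27)) :=
  Lre_b IH (LK LD1_c9 LD2_c16 LD3_c17) (LK LD1_c4 LD2_c40 LD3_c27) Lrfl Lrfl
theorem f150704 : Led Lsl_ct (LP (LK LD1_c12 LD2_c49 LD3_c12)) = (LP (LK LD1_c9 LD2_c16 LD3_c17)) :=
  Lgr Lrot191 (Lpe (f96644 IH) (Lpr_gf (f150645 IH) (Lpr_bf (f129239 IH) (Lpr_cf (f139788 IH) (Lpr_df (f150696 IH) (Lpe (f68337 IH) (Lpe (f68320 IH) (Lpe (K2.f66812 IH) (Lpe (K2.f66811 IH) (Lpe (K2.f68352 IH) (Lpe (K3.f83905 IH) (Lpe (K3.f90178 IH) (Lpr_df (K3.f90362 IH) (Lpr_gf (K3.f103184 IH) (Lpe (K3.f23492 IH) (Lpe (K3.f23550 IH) (Lpr_df (K3.f103312 IH) (Lpe (K3.f103293 IH) (Lpe (f103270 IH) (Lpn (LP (LK LD1_c9 LD2_c16 LD3_c17))))))))))))))))))))))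
theorem f103277 : Led Lsl_bt (LP (LK LD1_c4 LD2_c40 LD3_c27)) = (LP (LK LD1_c9 LD2_c16 LD3_c17)) :=
  Lre_b IH (LK LD1_c4 LD2_c40 LD3_c27) (LK LD1_c9 LD2_c16 LD3_c17) Lrfl Lrfl
theorem f99000 : Led Lsl_bt (LP (LK LD1_c4 LD2_c44 LD3_c59)) = (LP (LK LD1_c2 LD2_c20 LD3_c38)) :=
  Lre_b IH (LK LD1_c4 LD2_c44 LD3_c59) (LK LD1_c2 LD2_c20 LD3_c38) Lrfl Lrfl
theorem f103314 : Led Lsl_ft (LP (LK LD1_c9 LD2_c16 LD3_c17)) = (LP (LK LD1_c4 LD2_c44 LD3_c59)) :=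
  Lgr Lrot75 (Lpe (f103277 IH) (Lpr_ff (K3.f103291 IH) (Lpe (f99000 IH) (Lpn (LP (LK LD1_c4 LD2_c44 LD3_c59))))))
theorem f99063 : Led Lsl_ct (LP (LK LD1_c4 LD2_c44 LD3_c59)) = (LP (LK LD1_c9 LD2_c22 LD3_c39)) :=
  Lre_c IH (LK LD1_c4 LD2_c44 LD3_c59) (LK LD1_c9 LD2_c22 LD3_c39) Lrfl Lrfl
theorem f150713 : Led Lsl_ff (LP (LK LD1_c12 LD2_c49 LD3_c12)) = (LP (LK LD1_c9 LD2_c22 LD3_c39)) :=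
  Lgr Lrot23 (Lpr_ct (f150704 IH) (Lpr_ft (f103314 IH) (Lpr_ct (f99063 IH) (Lpn (LP (LK LD1_c9 LD2_c22 LD3_c39))))))
theorem f99001 : Led Lsl_ct (LP (LK LD1_c9 LD2_c22 LD3_c39)) = (LP (LK LD1_c4 LD2_c44 LD3_c59)) :=
  Lre_c IH (LK LD1_c9 LD2_c22 LD3_c39) (LK LD1_c4 LD2_c44 LD3_c59) Lrfl Lrfl
theorem f99002 : Led Lsl_bt (LP (LK LD1_c2 LD2_c21 LD3_c19)) = (LP (LK LD1_c4 LD2_c46 LD3_c50)) :=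
  Lre_b IH (LK LD1_c2 LD2_c21 LD3_c19) (LK LD1_c4 LD2_c46 LD3_c50) Lrfl Lrfl
theorem f99003 : Led Lsl_ct (LP (LK LD1_c4 LD2_c46 LD3_c50)) = (LP (LK LD1_c9 LD2_c26 LD3_c24)) :=
  Lre_c IH (LK LD1_c4 LD2_c46 LD3_c50) (LK LD1_c9 LD2_c26 LD3_c24) Lrfl Lrfl
theorem f99004 : Led Lsl_bf (LP (LK LD1_c9 LD2_c22 LD3_c39)) = (LP (LK LD1_c9 LD2_c26 LD3_c24)) :=
  Lgr Lrot90 (Lpr_ct (f99001 IH) (Lpr_bt (f99000 IH) (Lpr_ct (K3.f98909 IH) (Lpr_bt (f99002 IH) (Lpr_ct (f99003 IH) (Lpn (LP (LK LD1_c9 LD2_c26 LD3_c24))))))))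
theorem f110793 : Led Lsl_ct (LP (LK LD1_c17 LD2_c10 LD3_c61)) = (LP (LK LD1_c9 LD2_c16 LD3_c24)) :=
  Lre_c IH (LK LD1_c17 LD2_c10 LD3_c61) (LK LD1_c9 LD2_c16 LD3_c24) Lrfl Lrfl
theorem f110852 : Led Lsl_ff (LP (LK LD1_c17 LD2_c10 LD3_c61)) = (LP (LK LD1_c9 LD2_c26 LD3_c24)) :=
  Lgr Lrot23 (Lpr_ct (f110793 IH) (Lpr_ft (f110848 IH) (Lpr_ct (f99003 IH) (Lpn (LP (LK LD1_c9 LD2_c26 LD3_c24))))))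
theorem f110885 : Led Lsl_ft (LP (LK LD1_c17 LD2_c10 LD3_c61)) = (LP (LK LD1_c9 LD2_c26 LD3_c24)) :=
  Lgr Lrot48 (Lpr_ff (f110852 IH) (Lpn (LP (LK LD1_c9 LD2_c26 LD3_c24))))
theorem f150715 : Led Lsl_bt (LP (LK LD1_c12 LD2_c49 LD3_c12)) = (LP (LK LD1_c17 LD2_c10 LD3_c61)) :=
  Lgr Lrot35 (Lpr_ff (f150713 IH) (Lpr_bf (f99004 IH) (Lpe (f110885 IH) (Lpn (LP (LK LD1_c17 LD2_c10 LD3_c61))))))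
theorem f66563 : Led Lsl_bt (LP (LK LD1_c12 LD2_c49 LD3_c11)) = (LP (LK LD1_c6 LD2_c42 LD3_c3)) :=
  Lre_b IH (LK LD1_c12 LD2_c49 LD3_c11) (LK LD1_c6 LD2_c42 LD3_c3) Lrfl Lrfl
theorem f150719 : Led Lsl_df (LP (LK LD1_c12 LD2_c49 LD3_c11)) = (LP (LK LD1_c17 LD2_c10 LD3_c61)) :=
  Lgr Lrot12 (Lpr_bt (f66563 IH) (Lpr_dt (f96644 IH) (Lpr_bt (f150715 IH) (Lpn (LP (LK LD1_c17 LD2_c10 LD3_c61))))))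
theorem f110794 : Led Lsl_ct (LP (LK LD1_c9 LD2_c16 LD3_c24)) = (LP (LK LD1_c17 LD2_c10 LD3_c61)) :=
  Lre_c IH (LK LD1_c9 LD2_c16 LD3_c24) (LK LD1_c17 LD2_c10 LD3_c61) Lrfl Lrfl
theorem f139091 : Led Lsl_at (LP (LK LD1_c17 LD2_c10 LD3_c61)) = (LP (LK LD1_c16 LD2_c30 LD3_c27)) :=
  Lgr Lrot107 (Lpe (f110794 IH) (Lpr_af (f139087 IH) (Lpe (f70452 IH) (Lpn (LP (LK LD1_c16 LD2_c30 LD3_c27))))))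
theorem f139101 : Led Lsl_af (LP (LK LD1_c17 LD2_c10 LD3_c61)) = (LP (LK LD1_c16 LD2_c30 LD3_c27)) :=
  Lgr Lrot0 (Lpr_at (f139091 IH) (Lpn (LP (LK LD1_c16 LD2_c30 LD3_c27))))
theorem f141999 : Led Lsl_bt (LP (LK LD1_c11 LD2_c28 LD3_c44)) = (LP (LK LD1_c20 LD2_c26 LD3_c2)) :=
  Lre_b IH (LK LD1_c11 LD2_c28 LD3_c44) (LK LD1_c20 LD2_c26 LD3_c2) Lrfl Lrfl
theorem f142106 : Led Lsl_df (LP (LK LD1_c16 LD2_c30 LD3_c27)) = (LP (LK LD1_c20 LD2_c26 LD3_c2)) :=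
  Lgr Lrot12 (Lpr_bt (f70476 IH) (Lpr_dt (f142021 IH) (Lpr_bt (f141999 IH) (Lpn (LP (LK LD1_c20 LD2_c26 LD3_c2))))))
theorem f150727 : Led Lsl_at (LP (LK LD1_c12 LD2_c49 LD3_c11)) = (LP (LK LD1_c20 LD2_c26 LD3_c2)) :=
  Lgr Lrot51 (Lpr_df (f150719 IH) (Lpr_af (f139101 IH) (Lpr_df (f142106 IH) (Lpn (LP (LK LD1_c20 LD2_c26 LD3_c2))))))
theorem f96640 : Led Lsl_bt (LP (LK LD1_c6 LD2_c42 LD3_c3)) = (LP (LK LD1_c12 LD2_c49 LD3_c11)) :=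
  Lre_b IH (LK LD1_c6 LD2_c42 LD3_c3) (LK LD1_c12 LD2_c49 LD3_c11) Lrfl Lrfl
theorem f141993 : Led Lsl_bt (LP (LK LD1_c20 LD2_c26 LD3_c2)) = (LP (LK LD1_c11 LD2_c28 LD3_c44)) :=
  Lre_b IH (LK LD1_c20 LD2_c26 LD3_c2) (LK LD1_c11 LD2_c28 LD3_c44) Lrfl Lrfl
theorem f148831 : Led Lsl_at (LP (LK LD1_c9 LD2_c10 LD3_c4)) = (LP (LK LD1_c6 LD2_c20 LD3_c15)) :=
  Lgr Lrot100 (Lpr_af (f148829 IH) (Lpn (LP (LK LD1_c6 LD2_c20 LD3_c15))))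
theorem f149888 : Led Lsl_af (LP (LK LD1_c12 LD2_c44 LD3_c6)) = (LP (LK LD1_c11 LD2_c28 LD3_c44)) :=
  Lgr Lrot68 (Lpr_ct (f149884 IH) (Lpr_at (f148831 IH) (Lpr_ct (f141996 IH) (Lpn (LP (LK LD1_c11 LD2_c28 LD3_c44))))))
theorem f141210 : Led Lsl_ct (LP (LK LD1_c3 LD2_c13 LD3_c35)) = (LP (LK LD1_c4 LD2_c37 LD3_c11)) :=
  Lgr Lrot59 (Lpr_cf (K6.f141189 IH) (Lpn (LP (LK LD1_c4 LD2_c37 LD3_c11))))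
theorem f26227 : Led Lsl_bt (LP (LK LD1_c1 LD2_c48 LD3_c2)) = (LP (LK LD1_c3 LD2_c42 LD3_c5)) :=
  Lre_b IH (LK LD1_c1 LD2_c48 LD3_c2) (LK LD1_c3 LD2_c42 LD3_c5) Lrfl Lrfl
theorem f107212 : Led Lsl_gt (LP (LK LD1_c3 LD2_c42 LD3_c5)) = (LP (LK LD1_c7 LD2_c24 LD3_c56)) :=
  Lre_g IH (LK LD1_c3 LD2_c42 LD3_c5) (LK LD1_c7 LD2_c24 LD3_c56) Lrfl Lrfl
theorem f149896 : Led Lsl_bt (LP (LK LD1_c12 LD2_c44 LD3_c6)) = (LP (LK LD1_c7 LD2_c24 LD3_c56)) :=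
  Lgr Lrot92 (Lpr_ct (f149884 IH) (Lpr_gt (f141197 IH) (Lpe (f141210 IH) (Lpr_bt (K6.f23609 IH) (Lpr_gt (K4.f23617 IH) (Lpe (K6.f124094 IH) (Lpr_gt (K4.f26233 IH) (Lpe (K5.f26244 IH) (Lpr_bt (f26227 IH) (Lpr_gt (f107212 IH) (Lpn (LP (LK LD1_c7 LD2_c24 LD3_c56)))))))))))))
theorem f150737 : Led Lsl_af (LP (LK LD1_c6 LD2_c42 LD3_c3)) = (LP (LK LD1_c7 LD2_c24 LD3_c56)) :=
  Lgr Lrot36 (Lpr_bt (f96640 IH) (Lpr_at (f150727 IH) (Lpr_bt (f141993 IH) (Lpe (f149888 IH) (Lpr_bt (f149896 IH) (Lpn (LP (LK LD1_c7 LD2_c24 LD3_c56))))))))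
theorem f150739 : Led Lsl_at (LP (LK LD1_c6 LD2_c42 LD3_c3)) = (LP (LK LD1_c7 LD2_c24 LD3_c56)) :=
  Lgr Lrot100 (Lpr_af (f150737 IH) (Lpn (LP (LK LD1_c7 LD2_c24 LD3_c56))))
theorem f130910 : Led Lsl_gt (LP (LK LD1_c7 LD2_c24 LD3_c57)) = (LP (LK LD1_c3 LD2_c42 LD3_c5)) :=
  Lre_g IH (LK LD1_c7 LD2_c24 LD3_c57) (LK LD1_c3 LD2_c42 LD3_c5) Lrfl Lrfl
theorem f150747 : Led Lsl_ff (LP (LK LD1_c6 LD2_c42 LD3_c3)) = (LP (LK LD1_c7 LD2_c24 LD3_c57)) :=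
  Lgr Lrot52 (Lpr_at (f150739 IH) (Lpe (f107212 IH) (Lpe (f130910 IH) (Lpn (LP (LK LD1_c7 LD2_c24 LD3_c57))))))
theorem f150755 : Led Lsl_ft (LP (LK LD1_c6 LD2_c42 LD3_c3)) = (LP (LK LD1_c7 LD2_c24 LD3_c57)) :=
  Lgr Lrot48 (Lpr_ff (f150747 IH) (Lpn (LP (LK LD1_c7 LD2_c24 LD3_c57))))
theorem f79384 : Led Lsl_gt (LP (LK LD1_c3 LD2_c15 LD3_c7)) = (LP (LK LD1_c6 LD2_c33 LD3_c39)) :=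
  Lre_g IH (LK LD1_c3 LD2_c15 LD3_c7) (LK LD1_c6 LD2_c33 LD3_c39) Lrfl Lrfl
theorem f15593 : Led Lsl_bt (LP (LK LD1_c12 LD2_c34 LD3_c13)) = (LP (LK LD1_c6 LD2_c33 LD3_c39)) :=
  Lre_b IH (LK LD1_c12 LD2_c34 LD3_c13) (LK LD1_c6 LD2_c33 LD3_c39) Lrfl Lrfl
theorem f130911 : Led Lsl_ct (LP (LK LD1_c12 LD2_c34 LD3_c13)) = (LP (LK LD1_c7 LD2_c24 LD3_c57)) :=
  Lgr Lrot64 (Lpr_bt (f15593 IH) (Lpe (f79384 IH) (Lpe (f79383 IH) (Lpr_ct (K1.f62005 IH) (Lpe (K1.f14700 IH) (Lpe (K3.f57110 IH) (Lpe (K3.f64480 IH) (Lpe (K6.f65999 IH) (Lpr_ct (K6.f130901 IH) (Lpe (f130910 IH) (Lpn (LP (LK LD1_c7 LD2_c24 LD3_c57)))))))))))))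
theorem f130916 : Led Lsl_cf (LP (LK LD1_c12 LD2_c34 LD3_c13)) = (LP (LK LD1_c7 LD2_c24 LD3_c57)) :=
  Lgr Lrot11 (Lpr_ct (f130911 IH) (Lpn (LP (LK LD1_c7 LD2_c24 LD3_c57))))
theorem f150759 : Led Lsl_ff (LP (LK LD1_c6 LD2_c35 LD3_c42)) = (LP (LK LD1_c12 LD2_c34 LD3_c13)) :=
  Lgr Lrot23 (Lpe (f96628 IH) (Lpr_ft (f150755 IH) (Lpe (f130916 IH) (Lpn (LP (LK LD1_c12 LD2_c34 LD3_c13))))))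
theorem f79941 : Led Lsl_bt (LP (LK LD1_c6 LD2_c33 LD3_c39)) = (LP (LK LD1_c12 LD2_c34 LD3_c13)) :=
  Lre_b IH (LK LD1_c6 LD2_c33 LD3_c39) (LK LD1_c12 LD2_c34 LD3_c13) Lrfl Lrfl
theorem f150814 : Led Lsl_ft (LP (LK LD1_c3 LD2_c16 LD3_c13)) = (LP (LK LD1_c6 LD2_c33 LD3_c39)) :=
  Lgr Lrot75 (Lpe (f94127 IH) (Lpr_ff (f150759 IH) (Lpe (f79941 IH) (Lpn (LP (LK LD1_c6 LD2_c33 LD3_c39))))))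
theorem f150823 : Led Lsl_af (LP (LK LD1_c3 LD2_c16 LD3_c14)) = (LP (LK LD1_c6 LD2_c33 LD3_c39)) :=
  Lgr Lrot31 (Lpe (K6.f109908 IH) (Lpe (f14093 IH) (Lpr_ft (f150814 IH) (Lpn (LP (LK LD1_c6 LD2_c33 LD3_c39))))))
theorem f150832 : Led Lsl_et (LP (LK LD1_c3 LD2_c16 LD3_c14)) = (LP (LK LD1_c6 LD2_c35 LD3_c49)) :=
  Lre_e IH (LK LD1_c3 LD2_c16 LD3_c14) (LK LD1_c6 LD2_c35 LD3_c49) Lrfl Lrfl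
theorem f150833 : Led Lsl_et (LP (LK LD1_c12 LD2_c34 LD3_c15)) = (LP (LK LD1_c6 LD2_c33 LD3_c39)) :=
  Lre_e IH (LK LD1_c12 LD2_c34 LD3_c15) (LK LD1_c6 LD2_c33 LD3_c39) Lrfl Lrfl
theorem f150834 : Led Lsl_at (LP (LK LD1_c6 LD2_c35 LD3_c49)) = (LP (LK LD1_c12 LD2_c34 LD3_c15)) :=
  Lgr Lrot80 (Lpe (f150832 IH) (Lpr_af (f150823 IH) (Lpe (f150833 IH) (Lpn (LP (LK LD1_c12 LD2_c34 LD3_c15))))))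
theorem f141664 : Led Lsl_bt (LP (LK LD1_c12 LD2_c37 LD3_c35)) = (LP (LK LD1_c6 LD2_c35 LD3_c49)) :=
  Lre_b IH (LK LD1_c12 LD2_c37 LD3_c35) (LK LD1_c6 LD2_c35 LD3_c49) Lrfl Lrfl
theorem f141657 : Led Lsl_at (LP (LK LD1_c21 LD2_c43 LD3_c60)) = (LP (LK LD1_c12 LD2_c37 LD3_c35)) :=
  Lre_a IH (LK LD1_c21 LD2_c43 LD3_c60) (LK LD1_c12 LD2_c37 LD3_c35) Lrfl Lrfl
theorem f130932 : Led Lsl_bt (LP (LK LD1_c12 LD2_c34 LD3_c15)) = (LP (LK LD1_c21 LD2_c40 LD3_c29)) :=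
  Lre_b IH (LK LD1_c12 LD2_c34 LD3_c15) (LK LD1_c21 LD2_c40 LD3_c29) Lrfl Lrfl
theorem f66468 : Led Lsl_gt (LP (LK LD1_c3 LD2_c19 LD3_c1)) = (LP (LK LD1_c6 LD2_c42 LD3_c2)) :=
  Lre_g IH (LK LD1_c3 LD2_c19 LD3_c1) (LK LD1_c6 LD2_c42 LD3_c2) Lrfl Lrfl
theorem f150763 : Led Lsl_af (LP (LK LD1_c6 LD2_c42 LD3_c2)) = (LP (LK LD1_c7 LD2_c24 LD3_c57)) :=
  Lgr Lrot31 (Lpe (f66468 IH) (Lpe (f66527 IH) (Lpr_ft (f150755 IH) (Lpn (LP (LK LD1_c7 LD2_c24 LD3_c57))))))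
theorem f150771 : Led Lsl_et (LP (LK LD1_c6 LD2_c42 LD3_c2)) = (LP (LK LD1_c12 LD2_c49 LD3_c10)) :=
  Lre_e IH (LK LD1_c6 LD2_c42 LD3_c2) (LK LD1_c12 LD2_c49 LD3_c10) Lrfl Lrfl
theorem f130936 : Led Lsl_et (LP (LK LD1_c14 LD2_c1 LD3_c37)) = (LP (LK LD1_c7 LD2_c24 LD3_c57)) :=
  Lre_e IH (LK LD1_c14 LD2_c1 LD3_c37) (LK LD1_c7 LD2_c24 LD3_c57) Lrfl Lrfl
theorem f150772 : Led Lsl_at (LP (LK LD1_c12 LD2_c49 LD3_c10)) = (LP (LK LD1_c14 LD2_c1 LD3_c37)) :=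
  Lgr Lrot80 (Lpe (f150771 IH) (Lpr_af (f150763 IH) (Lpe (f130936 IH) (Lpn (LP (LK LD1_c14 LD2_c1 LD3_c37))))))
theorem f150785 : Led Lsl_ct (LP (LK LD1_c21 LD2_c57 LD3_c22)) = (LP (LK LD1_c12 LD2_c49 LD3_c10)) :=
  Lre_c IH (LK LD1_c21 LD2_c57 LD3_c22) (LK LD1_c12 LD2_c49 LD3_c10) Lrfl Lrfl
theorem f130918 : Led Lsl_et (LP (LK LD1_c21 LD2_c40 LD3_c29)) = (LP (LK LD1_c12 LD2_c34 LD3_c13)) :=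
  Lre_e IH (LK LD1_c21 LD2_c40 LD3_c29) (LK LD1_c12 LD2_c34 LD3_c13) Lrfl Lrfl
theorem f130919 : Led Lsl_et (LP (LK LD1_c7 LD2_c24 LD3_c57)) = (LP (LK LD1_c14 LD2_c1 LD3_c37)) :=
  Lre_e IH (LK LD1_c7 LD2_c24 LD3_c57) (LK LD1_c14 LD2_c1 LD3_c37) Lrfl Lrfl
theorem f130920 : Led Lsl_cf (LP (LK LD1_c21 LD2_c40 LD3_c29)) = (LP (LK LD1_c14 LD2_c1 LD3_c37)) :=
  Lgr Lrot39 (Lpr_et (f130918 IH) (Lpr_ct (f130911 IH) (Lpr_et (f130919 IH) (Lpn (LP (LK LD1_c14 LD2_c1 LD3_c37))))))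
theorem f150786 : Led Lsl_af (LP (LK LD1_c21 LD2_c57 LD3_c22)) = (LP (LK LD1_c21 LD2_c40 LD3_c29)) :=
  Lgr Lrot68 (Lpr_ct (f150785 IH) (Lpr_at (f150772 IH) (Lpe (f130920 IH) (Lpn (LP (LK LD1_c21 LD2_c40 LD3_c29))))))
theorem f150838 : Led Lsl_bf (LP (LK LD1_c21 LD2_c43 LD3_c60)) = (LP (LK LD1_c21 LD2_c57 LD3_c22)) :=
  Lgr Lrot81 (Lpr_at (f141657 IH) (Lpr_bt (f141664 IH) (Lpr_at (f150834 IH) (Lpr_bt (f130932 IH) (Lpe (f150786 IH) (Lpn (LP (LK LD1_c21 LD2_c57 LD3_c22))))))))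
theorem f150851 : Led Lsl_bt (LP (LK LD1_c21 LD2_c43 LD3_c60)) = (LP (LK LD1_c21 LD2_c57 LD3_c22)) :=
  Lgr Lrot127 (Lpr_bf (f150838 IH) (Lpn (LP (LK LD1_c21 LD2_c57 LD3_c22))))
theorem f150854 : Led Lsl_et (LP (LK LD1_c12 LD2_c37 LD3_c34)) = (LP (LK LD1_c21 LD2_c43 LD3_c60)) :=
  Lre_e IH (LK LD1_c12 LD2_c37 LD3_c34) (LK LD1_c21 LD2_c43 LD3_c60) Lrfl Lrfl
theorem f150795 : Led Lsl_et (LP (LK LD1_c21 LD2_c57 LD3_c22)) = (LP (LK LD1_c12 LD2_c49 LD3_c8)) :=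
  Lre_e IH (LK LD1_c21 LD2_c57 LD3_c22) (LK LD1_c12 LD2_c49 LD3_c8) Lrfl Lrfl
theorem f150855 : Led Lsl_bf (LP (LK LD1_c12 LD2_c37 LD3_c34)) = (LP (LK LD1_c12 LD2_c49 LD3_c8)) :=
  Lgr Lrot96 (Lpr_et (f150854 IH) (Lpr_bt (f150851 IH) (Lpr_et (f150795 IH) (Lpn (LP (LK LD1_c12 LD2_c49 LD3_c8))))))
theorem f66528 : Led Lsl_ct (LP (LK LD1_c12 LD2_c49 LD3_c8)) = (LP (LK LD1_c6 LD2_c42 LD3_c2)) :=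
  Lre_c IH (LK LD1_c12 LD2_c49 LD3_c8) (LK LD1_c6 LD2_c42 LD3_c2) Lrfl Lrfl
theorem f117068 : Led Lsl_gt (LP (LK LD1_c12 LD2_c36 LD3_c28)) = (LP (LK LD1_c6 LD2_c35 LD3_c11)) :=
  Lre_g IH (LK LD1_c12 LD2_c36 LD3_c28) (LK LD1_c6 LD2_c35 LD3_c11) Lrfl Lrfl
theorem f12560 : Led Lsl_ct (LP (LK LD1_c1 LD2_c49 LD3_c39)) = (LP (LK LD1_c0 LD2_c51 LD3_c40)) :=
  Lre_c IH (LK LD1_c1 LD2_c49 LD3_c39) (LK LD1_c0 LD2_c51 LD3_c40) Lrfl Lrfl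
theorem f131633 : Led Lsl_bt (LP (LK LD1_c6 LD2_c37 LD3_c28)) = (LP (LK LD1_c3 LD2_c17 LD3_c3)) :=
  Lre_b IH (LK LD1_c6 LD2_c37 LD3_c28) (LK LD1_c3 LD2_c17 LD3_c3) Lrfl Lrfl
theorem f131654 : Led Lsl_cf (LP (LK LD1_c12 LD2_c36 LD3_c28)) = (LP (LK LD1_c6 LD2_c37 LD3_c28)) :=
  Lgr Lrot160 (Lpr_gt (f117068 IH) (Lpe (K4.f117066 IH) (Lpr_bt (K6.f118374 IH) (Lpr_gt (K4.f96756 IH) (Lpr_ct (f12560 IH) (Lpr_gt (K1.f66432 IH) (Lpr_cf (K1.f64478 IH) (Lpr_bt (K5.f64606 IH) (Lpr_gt (K5.f131639 IH) (Lpe (f131633 IH) (Lpn (LP (LK LD1_c6 LD2_c37 LD3_c28)))))))))))))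
theorem f150857 : Led Lsl_gt (LP (LK LD1_c12 LD2_c37 LD3_c34)) = (LP (LK LD1_c6 LD2_c37 LD3_c28)) :=
  Lgr Lrot82 (Lpr_bf (f150855 IH) (Lpr_ct (f66528 IH) (Lpe (f66468 IH) (Lpe (f66503 IH) (Lpr_bt (f12561 IH) (Lpe (K4.f96756 IH) (Lpe (K6.f118374 IH) (Lpr_ct (K4.f117066 IH) (Lpe (f117068 IH) (Lpr_cf (f131654 IH) (Lpn (LP (LK LD1_c6 LD2_c37 LD3_c28)))))))))))))
theorem f117042 : Led Lsl_gt (LP (LK LD1_c12 LD2_c1 LD3_c33)) = (LP (LK LD1_c6 LD2_c10 LD3_c27)) :=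
  Lre_g IH (LK LD1_c12 LD2_c1 LD3_c33) (LK LD1_c6 LD2_c10 LD3_c27) Lrfl Lrfl
theorem f150861 : Led Lsl_df (LP (LK LD1_c12 LD2_c37 LD3_c34)) = (LP (LK LD1_c12 LD2_c1 LD3_c33)) :=
  Lgr Lrot155 (Lpr_gt (f150857 IH) (Lpe (f131654 IH) (Lpr_gt (f117068 IH) (Lpr_ct (K6.f117036 IH) (Lpr_dt (f117035 IH) (Lpr_cf (K4.f117033 IH) (Lpe (K4.f117028 IH) (Lpe (K4.f96108 IH) (Lpe (f117042 IH) (Lpn (LP (LK LD1_c12 LD2_c1 LD3_c33))))))))))))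
theorem f149820 : Led Lsl_cf (LP (LK LD1_c12 LD2_c1 LD3_c33)) = (LP (LK LD1_c6 LD2_c34 LD3_c53)) :=
  Lgr Lrot188 (Lpr_gt (f117042 IH) (Lpr_ct (K4.f96108 IH) (Lpr_dt (K4.f115592 IH) (Lpr_cf (f141563 IH) (Lpe (K6.f61941 IH) (Lpe (K4.f61940 IH) (Lpe (f66095 IH) (Lpr_dt (f149814 IH) (Lpr_gt (f108689 IH) (Lpn (LP (LK LD1_c6 LD2_c34 LD3_c53))))))))))))
theorem f82018 : Led Lsl_gt (LP (LK LD1_c6 LD2_c2 LD3_c17)) = (LP (LK LD1_c11 LD2_c48 LD3_c56)) :=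
  Lre_g IH (LK LD1_c6 LD2_c2 LD3_c17) (LK LD1_c11 LD2_c48 LD3_c56) Lrfl Lrfl
theorem f150876 : Led Lsl_cf (LP (LK LD1_c12 LD2_c37 LD3_c34)) = (LP (LK LD1_c11 LD2_c48 LD3_c56)) :=
  Lgr Lrot99 (Lpr_df (f150861 IH) (Lpr_cf (f149820 IH) (Lpe (f108689 IH) (Lpe (f149849 IH) (Lpr_gf (K6.f141620 IH) (Lpr_df (K6.f119895 IH) (Lpe (f118846 IH) (Lpe (f149752 IH) (Lpr_gt (f82018 IH) (Lpn (LP (LK LD1_c11 LD2_c48 LD3_c56))))))))))))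
theorem f66010 : Led Lsl_dt (LP (LK LD1_c6 LD2_c37 LD3_c28)) = (LP (LK LD1_c3 LD2_c17 LD3_c2)) :=
  Lre_d IH (LK LD1_c6 LD2_c37 LD3_c28) (LK LD1_c3 LD2_c17 LD3_c2) Lrfl Lrfl
theorem f149874 : Led Lsl_df (LP (LK LD1_c12 LD2_c1 LD3_c11)) = (LP (LK LD1_c6 LD2_c37 LD3_c25)) :=
  Lgr Lrot162 (Lpe (K4.f117081 IH) (Lpe (K4.f87375 IH) (Lpr_cf (K4.f117101 IH) (Lpe (K4.f62952 IH) (Lpr_dt (K6.f65382 IH) (Lpr_gt (K6.f65277 IH) (Lpe (K6.f141643 IH) (Lpr_gt (f101907 IH) (Lpr_ct (f149863 IH) (Lpn (LP (LK LD1_c6 LD2_c37 LD3_c25))))))))))))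
theorem f110807 : Led Lsl_dt (LP (LK LD1_c6 LD2_c10 LD3_c32)) = (LP (LK LD1_c3 LD2_c1 LD3_c54)) :=
  Lre_d IH (LK LD1_c6 LD2_c10 LD3_c32) (LK LD1_c3 LD2_c1 LD3_c54) Lrfl Lrfl
theorem f150885 : Led Lsl_gf (LP (LK LD1_c6 LD2_c10 LD3_c32)) = (LP (LK LD1_c11 LD2_c48 LD3_c56)) :=
  Lgr Lrot144 (Lpr_dt (f110807 IH) (Lpr_gt (K4.f117028 IH) (Lpe (K4.f117071 IH) (Lpr_cf (K4.f117090 IH) (Lpr_df (f149874 IH) (Lpe (f103836 IH) (Lpe (f66010 IH) (Lpe (f150857 IH) (Lpr_cf (f150876 IH) (Lpn (LP (LK LD1_c11 LD2_c48 LD3_c56))))))))))))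
theorem f149758 : Led Lsl_dt (LP (LK LD1_c11 LD2_c48 LD3_c56)) = (LP (LK LD1_c6 LD2_c35 LD3_c13)) :=
  Lgr Lrot57 (Lpe (f82018 IH) (Lpr_cf (f149752 IH) (Lpr_gt (f98863 IH) (Lpr_dt (f117075 IH) (Lpr_gt (K4.f87375 IH) (Lpr_dt (K4.f117069 IH) (Lpe (K4.f117029 IH) (Lpe (f117035 IH) (Lpe (K6.f117041 IH) (Lpn (LP (LK LD1_c6 LD2_c35 LD3_c13))))))))))))
theorem f118678 : Led Lsl_gt (LP (LK LD1_c6 LD2_c35 LD3_c11)) = (LP (LK LD1_c12 LD2_c36 LD3_c27)) :=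
  Lre_g IH (LK LD1_c6 LD2_c35 LD3_c11) (LK LD1_c12 LD2_c36 LD3_c27) Lrfl Lrfl
theorem f135961 : Led Lsl_bt (LP (LK LD1_c2 LD2_c16 LD3_c8)) = (LP (LK LD1_c4 LD2_c37 LD3_c61)) :=
  Lre_b IH (LK LD1_c2 LD2_c16 LD3_c8) (LK LD1_c4 LD2_c37 LD3_c61) Lrfl Lrfl
theorem f141737 : Led Lsl_gt (LP (LK LD1_c9 LD2_c11 LD3_c40)) = (LP (LK LD1_c4 LD2_c37 LD3_c61)) :=
  Lre_g IH (LK LD1_c9 LD2_c11 LD3_c40) (LK LD1_c4 LD2_c37 LD3_c61) Lrfl Lrfl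
theorem f141738 : Led Lsl_bt (LP (LK LD1_c17 LD2_c5 LD3_c21)) = (LP (LK LD1_c9 LD2_c11 LD3_c40)) :=
  Lre_b IH (LK LD1_c17 LD2_c5 LD3_c21) (LK LD1_c9 LD2_c11 LD3_c40) Lrfl Lrfl
theorem f141739 : Led Lsl_ct (LP (LK LD1_c17 LD2_c5 LD3_c21)) = (LP (LK LD1_c12 LD2_c36 LD3_c27)) :=
  Lgr Lrot63 (Lpr_bt (f141738 IH) (Lpr_gt (f141737 IH) (Lpe (f135961 IH) (Lpr_ct (K6.f80098 IH) (Lpr_gt (K6.f141733 IH) (Lpe (K6.f139703 IH) (Lpe (K6.f141722 IH) (Lpr_gt (K6.f117041 IH) (Lpr_ct (K4.f117066 IH) (Lpr_gt (f118678 IH) (Lpn (LP (LK LD1_c12 LD2_c36 LD3_c27)))))))))))))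
theorem f141743 : Led Lsl_cf (LP (LK LD1_c17 LD2_c5 LD3_c21)) = (LP (LK LD1_c12 LD2_c36 LD3_c27)) :=
  Lgr Lrot11 (Lpr_ct (f141739 IH) (Lpn (LP (LK LD1_c12 LD2_c36 LD3_c27))))
theorem f150891 : Led Lsl_df (LP (LK LD1_c12 LD2_c36 LD3_c29)) = (LP (LK LD1_c17 LD2_c5 LD3_c21)) :=
  Lgr Lrot162 (Lpe (f118664 IH) (Lpe (K6.f118661 IH) (Lpe (K6.f141558 IH) (Lpr_gf (f150885 IH) (Lpr_dt (f149758 IH) (Lpr_gt (K6.f117041 IH) (Lpr_ct (K4.f117066 IH) (Lpr_gt (f118678 IH) (Lpe (f141743 IH) (Lpn (LP (LK LD1_c17 LD2_c5 LD3_c21))))))))))))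
theorem f141742 : Led Lsl_bt (LP (LK LD1_c9 LD2_c11 LD3_c40)) = (LP (LK LD1_c17 LD2_c5 LD3_c21)) :=
  Lre_b IH (LK LD1_c9 LD2_c11 LD3_c40) (LK LD1_c17 LD2_c5 LD3_c21) Lrfl Lrfl
theorem f150903 : Led Lsl_dt (LP (LK LD1_c11 LD2_c36 LD3_c37)) = (LP (LK LD1_c9 LD2_c11 LD3_c40)) :=
  Lgr Lrot79 (Lpe (K6.f118773 IH) (Lpr_df (f150891 IH) (Lpe (f141742 IH) (Lpn (LP (LK LD1_c9 LD2_c11 LD3_c40))))))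
theorem f151139 : Led Lsl_df (LP (LK LD1_c11 LD2_c36 LD3_c37)) = (LP (LK LD1_c9 LD2_c11 LD3_c40)) :=
  Lgr Lrot38 (Lpr_dt (f150903 IH) (Lpn (LP (LK LD1_c9 LD2_c11 LD3_c40))))
theorem f118762 : Led Lsl_af (LP (LK LD1_c6 LD2_c19 LD3_c50)) = (LP (LK LD1_c11 LD2_c36 LD3_c37)) :=
  Lgr Lrot0 (Lpr_at (K6.f118760 IH) (Lpn (LP (LK LD1_c11 LD2_c36 LD3_c37))))
theorem f64608 : Led Lsl_bt (LP (LK LD1_c6 LD2_c38 LD3_c37)) = (LP (LK LD1_c3 LD2_c17 LD3_c36)) :=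
  Lre_b IH (LK LD1_c6 LD2_c38 LD3_c37) (LK LD1_c3 LD2_c17 LD3_c36) Lrfl Lrfl
theorem f118705 : Led Lsl_df (LP (LK LD1_c6 LD2_c38 LD3_c37)) = (LP (LK LD1_c6 LD2_c19 LD3_c50)) :=
  Lgr Lrot12 (Lpr_bt (f64608 IH) (Lpr_dt (K5.f118700 IH) (Lpr_bt (K6.f118704 IH) (Lpn (LP (LK LD1_c6 LD2_c19 LD3_c50))))))
theorem f151141 : Led Lsl_at (LP (LK LD1_c6 LD2_c38 LD3_c37)) = (LP (LK LD1_c9 LD2_c11 LD3_c40)) :=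
  Lgr Lrot51 (Lpr_df (f118705 IH) (Lpr_af (f118762 IH) (Lpr_df (f151139 IH) (Lpn (LP (LK LD1_c9 LD2_c11 LD3_c40))))))
theorem f118697 : Led Lsl_bt (LP (LK LD1_c3 LD2_c17 LD3_c36)) = (LP (LK LD1_c6 LD2_c38 LD3_c37)) :=
  Lre_b IH (LK LD1_c3 LD2_c17 LD3_c36) (LK LD1_c6 LD2_c38 LD3_c37) Lrfl Lrfl
theorem f131610 : Led Lsl_bt (LP (LK LD1_c12 LD2_c27 LD3_c54)) = (LP (LK LD1_c6 LD2_c28 LD3_c22)) :=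
  Lre_b IH (LK LD1_c12 LD2_c27 LD3_c54) (LK LD1_c6 LD2_c28 LD3_c22) Lrfl Lrfl
theorem f151143 : Led Lsl_af (LP (LK LD1_c12 LD2_c27 LD3_c54)) = (LP (LK LD1_c17 LD2_c5 LD3_c21)) :=
  Lgr Lrot36 (Lpr_bt (f131610 IH) (Lpr_at (K5.f131619 IH) (Lpr_bt (f118697 IH) (Lpr_at (f151141 IH) (Lpr_bt (f141742 IH) (Lpn (LP (LK LD1_c17 LD2_c5 LD3_c21))))))))
theorem f79377 : Led Lsl_ct (LP (LK LD1_c6 LD2_c37 LD3_c27)) = (LP (LK LD1_c3 LD2_c17 LD3_c10)) :=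
  Lre_c IH (LK LD1_c6 LD2_c37 LD3_c27) (LK LD1_c3 LD2_c17 LD3_c10) Lrfl Lrfl
theorem f96736 : Led Lsl_ct (LP (LK LD1_c1 LD2_c34 LD3_c41)) = (LP (LK LD1_c3 LD2_c15 LD3_c46)) :=
  Lre_c IH (LK LD1_c1 LD2_c34 LD3_c41) (LK LD1_c3 LD2_c15 LD3_c46) Lrfl Lrfl
theorem f141684 : Led Lsl_gf (LP (LK LD1_c6 LD2_c37 LD3_c38)) = (LP (LK LD1_c6 LD2_c34 LD3_c57)) :=
  Lgr Lrot47 (Lpr_gt (f141682 IH) (Lpe (K6.f119610 IH) (Lpr_ff (f117117 IH) (Lpn (LP (LK LD1_c6 LD2_c34 LD3_c57))))))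
theorem f117690 : Led Lsl_dt (LP (LK LD1_c6 LD2_c37 LD3_c38)) = (LP (LK LD1_c3 LD2_c17 LD3_c10)) :=
  Lre_d IH (LK LD1_c6 LD2_c37 LD3_c38) (LK LD1_c3 LD2_c17 LD3_c10) Lrfl Lrfl
theorem f149861 : Led Lsl_dt (LP (LK LD1_c12 LD2_c37 LD3_c33)) = (LP (LK LD1_c6 LD2_c37 LD3_c27)) :=
  Lgr Lrot105 (Lpe (f101907 IH) (Lpr_df (f149853 IH) (Lpe (f96737 IH) (Lpe (f96736 IH) (Lpr_gt (K4.f62952 IH) (Lpr_dt (f97711 IH) (Lpe (f141684 IH) (Lpr_dt (f117690 IH) (Lpe (f79377 IH) (Lpn (LP (LK LD1_c6 LD2_c37 LD3_c27))))))))))))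
theorem f151148 : Led Lsl_ft (LP (LK LD1_c12 LD2_c37 LD3_c33)) = (LP (LK LD1_c17 LD2_c5 LD3_c21)) :=
  Lgr Lrot142 (Lpr_dt (f149861 IH) (Lpr_ct (f79377 IH) (Lpr_dt (K4.f117904 IH) (Lpe (K4.f119567 IH) (Lpe (f119628 IH) (Lpr_ct (f149849 IH) (Lpe (f149818 IH) (Lpe (f141716 IH) (Lpr_af (f151143 IH) (Lpn (LP (LK LD1_c17 LD2_c5 LD3_c21))))))))))))
theorem f151156 : Led Lsl_ff (LP (LK LD1_c12 LD2_c37 LD3_c33)) = (LP (LK LD1_c17 LD2_c5 LD3_c21)) :=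
  Lgr Lrot3 (Lpr_ft (f151148 IH) (Lpn (LP (LK LD1_c17 LD2_c5 LD3_c21))))
theorem f151145 : Led Lsl_at (LP (LK LD1_c12 LD2_c27 LD3_c54)) = (LP (LK LD1_c17 LD2_c5 LD3_c21)) :=
  Lgr Lrot100 (Lpr_af (f151143 IH) (Lpn (LP (LK LD1_c17 LD2_c5 LD3_c21))))
theorem f131628 : Led Lsl_bt (LP (LK LD1_c3 LD2_c17 LD3_c3)) = (LP (LK LD1_c6 LD2_c37 LD3_c28)) :=
  Lre_b IH (LK LD1_c3 LD2_c17 LD3_c3) (LK LD1_c6 LD2_c37 LD3_c28) Lrfl Lrfl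
theorem f131629 : Led Lsl_ff (LP (LK LD1_c12 LD2_c27 LD3_c54)) = (LP (LK LD1_c6 LD2_c37 LD3_c28)) :=
  Lgr Lrot25 (Lpr_bt (f131610 IH) (Lpr_ft (K5.f131626 IH) (Lpr_bt (f131628 IH) (Lpn (LP (LK LD1_c6 LD2_c37 LD3_c28))))))
theorem f151158 : Led Lsl_at (LP (LK LD1_c12 LD2_c37 LD3_c33)) = (LP (LK LD1_c6 LD2_c37 LD3_c28)) :=
  Lgr Lrot66 (Lpr_ff (f151156 IH) (Lpe (f151145 IH) (Lpr_ff (f131629 IH) (Lpn (LP (LK LD1_c6 LD2_c37 LD3_c28))))))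
theorem f151165 : Led Lsl_gf (LP (LK LD1_c12 LD2_c37 LD3_c34)) = (LP (LK LD1_c17 LD2_c5 LD3_c21)) :=
  Lgr Lrot47 (Lpr_gt (f150857 IH) (Lpe (f151158 IH) (Lpr_ff (f151156 IH) (Lpn (LP (LK LD1_c17 LD2_c5 LD3_c21))))))
theorem f149762 : Led Lsl_ct (LP (LK LD1_c11 LD2_c48 LD3_c57)) = (LP (LK LD1_c12 LD2_c34 LD3_c16)) :=
  Lgr Lrot59 (Lpr_cf (f149760 IH) (Lpn (LP (LK LD1_c12 LD2_c34 LD3_c16))))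
theorem f118679 : Led Lsl_gf (LP (LK LD1_c6 LD2_c37 LD3_c27)) = (LP (LK LD1_c12 LD2_c36 LD3_c27)) :=
  Lgr Lrot76 (Lpe (K6.f118669 IH) (Lpr_ff (K4.f118655 IH) (Lpr_gt (f118678 IH) (Lpn (LP (LK LD1_c12 LD2_c36 LD3_c27))))))
theorem f112104 : Led Lsl_bf (LP (LK LD1_c2 LD2_c54 LD3_c40)) = (LP (LK LD1_c3 LD2_c16 LD3_c5)) :=
  Lgr Lrot90 (Lpe (K4.f24064 IH) (Lpr_bt (K4.f24056 IH) (Lpr_ct (K4.f24055 IH) (Lpr_bt (K4.f112096 IH) (Lpr_ct (K3.f96622 IH) (Lpn (LP (LK LD1_c3 LD2_c16 LD3_c5))))))))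
theorem f112951 : Led Lsl_at (LP (LK LD1_c6 LD2_c37 LD3_c38)) = (LP (LK LD1_c3 LD2_c17 LD3_c11)) :=
  Lre_a IH (LK LD1_c6 LD2_c37 LD3_c38) (LK LD1_c3 LD2_c17 LD3_c11) Lrfl Lrfl
theorem f117463 : Led Lsl_bt (LP (LK LD1_c4 LD2_c35 LD3_c26)) = (LP (LK LD1_c6 LD2_c37 LD3_c38)) :=
  Lgr Lrot62 (Lpr_af (K4.f117459 IH) (Lpr_bf (f112104 IH) (Lpr_af (K3.f110195 IH) (Lpe (K4.f87383 IH) (Lpe (f112951 IH) (Lpn (LP (LK LD1_c6 LD2_c37 LD3_c38))))))))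
theorem f117691 : Led Lsl_bf (LP (LK LD1_c6 LD2_c2 LD3_c20)) = (LP (LK LD1_c3 LD2_c17 LD3_c10)) :=
  Lgr Lrot93 (Lpr_dt (K4.f117686 IH) (Lpr_bt (f117463 IH) (Lpr_dt (f117690 IH) (Lpn (LP (LK LD1_c3 LD2_c17 LD3_c10))))))
theorem f64535 : Led Lsl_gt (LP (LK LD1_c3 LD2_c16 LD3_c42)) = (LP (LK LD1_c1 LD2_c35 LD3_c1)) :=
  Lre_g IH (LK LD1_c3 LD2_c16 LD3_c42) (LK LD1_c1 LD2_c35 LD3_c1) Lrfl Lrfl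
theorem f117714 : Led Lsl_gt (LP (LK LD1_c6 LD2_c2 LD3_c20)) = (LP (LK LD1_c3 LD2_c16 LD3_c42)) :=
  Lgr Lrot5 (Lpr_ft (K4.f117699 IH) (Lpr_at (K4.f79088 IH) (Lpe (f64535 IH) (Lpn (LP (LK LD1_c3 LD2_c16 LD3_c42))))))
theorem f64573 : Led Lsl_bt (LP (LK LD1_c6 LD2_c36 LD3_c44)) = (LP (LK LD1_c3 LD2_c16 LD3_c42)) :=
  Lre_b IH (LK LD1_c6 LD2_c36 LD3_c44) (LK LD1_c3 LD2_c16 LD3_c42) Lrfl Lrfl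
theorem f64593 : Led Lsl_ct (LP (LK LD1_c6 LD2_c36 LD3_c44)) = (LP (LK LD1_c12 LD2_c39 LD3_c15)) :=
  Lre_c IH (LK LD1_c6 LD2_c36 LD3_c44) (LK LD1_c12 LD2_c39 LD3_c15) Lrfl Lrfl
theorem f78336 : Led Lsl_bt (LP (LK LD1_c2 LD2_c21 LD3_c11)) = (LP (LK LD1_c1 LD2_c7 LD3_c53)) :=
  Lre_b IH (LK LD1_c2 LD2_c21 LD3_c11) (LK LD1_c1 LD2_c7 LD3_c53) Lrfl Lrfl
theorem f78338 : Led Lsl_bf (LP (LK LD1_c4 LD2_c46 LD3_c27)) = (LP (LK LD1_c3 LD2_c6 LD3_c16)) :=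
  Lgr Lrot90 (Lpr_ct (K6.f78337 IH) (Lpr_bt (f78336 IH) (Lpr_ct (K3.f78248 IH) (Lpr_bt (K2.f77903 IH) (Lpr_ct (K2.f25055 IH) (Lpn (LP (LK LD1_c3 LD2_c6 LD3_c16))))))))
theorem f78418 : Led Lsl_gt (LP (LK LD1_c4 LD2_c46 LD3_c27)) = (LP (LK LD1_c9 LD2_c25 LD3_c32)) :=
  Lre_g IH (LK LD1_c4 LD2_c46 LD3_c27) (LK LD1_c9 LD2_c25 LD3_c32) Lrfl Lrfl
theorem f60982 : Led Lsl_bt (LP (LK LD1_c2 LD2_c27 LD3_c43)) = (LP (LK LD1_c1 LD2_c37 LD3_c36)) :=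
  Lre_b IH (LK LD1_c2 LD2_c27 LD3_c43) (LK LD1_c1 LD2_c37 LD3_c36) Lrfl Lrfl
theorem f77202 : Led Lsl_ft (LP (LK LD1_c1 LD2_c10 LD3_c60)) = (LP (LK LD1_c2 LD2_c27 LD3_c43)) :=
  Lre_f IH (LK LD1_c1 LD2_c10 LD3_c60) (LK LD1_c2 LD2_c27 LD3_c43) Lrfl Lrfl
theorem f77203 : Led Lsl_bf (LP (LK LD1_c1 LD2_c10 LD3_c60)) = (LP (LK LD1_c1 LD2_c30 LD3_c21)) :=
  Lgr Lrot61 (Lpr_ft (f77202 IH) (Lpr_bt (f60982 IH) (Lpr_ft (K3.f77198 IH) (Lpn (LP (LK LD1_c1 LD2_c30 LD3_c21))))))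
theorem f56958 : Led Lsl_bt (LP (LK LD1_c4 LD2_c59 LD3_c42)) = (LP (LK LD1_c2 LD2_c27 LD3_c40)) :=
  Lre_b IH (LK LD1_c4 LD2_c59 LD3_c42) (LK LD1_c2 LD2_c27 LD3_c40) Lrfl Lrfl
theorem f56868 : Led Lsl_bt (LP (LK LD1_c1 LD2_c8 LD3_c17)) = (LP (LK LD1_c2 LD2_c22 LD3_c15)) :=
  Lre_b IH (LK LD1_c1 LD2_c8 LD3_c17) (LK LD1_c2 LD2_c22 LD3_c15) Lrfl Lrfl
theorem f56869 : Led Lsl_ct (LP (LK LD1_c2 LD2_c22 LD3_c16)) = (LP (LK LD1_c1 LD2_c8 LD3_c17)) :=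
  Lre_c IH (LK LD1_c2 LD2_c22 LD3_c16) (LK LD1_c1 LD2_c8 LD3_c17) Lrfl Lrfl
theorem f56870 : Led Lsl_bt (LP (LK LD1_c4 LD2_c48 LD3_c45)) = (LP (LK LD1_c2 LD2_c22 LD3_c16)) :=
  Lre_b IH (LK LD1_c4 LD2_c48 LD3_c45) (LK LD1_c2 LD2_c22 LD3_c16) Lrfl Lrfl
theorem f56871 : Led Lsl_bt (LP (LK LD1_c2 LD2_c27 LD3_c40)) = (LP (LK LD1_c4 LD2_c59 LD3_c42)) :=
  Lre_b IH (LK LD1_c2 LD2_c27 LD3_c40) (LK LD1_c4 LD2_c59 LD3_c42) Lrfl Lrfl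
theorem f56872 : Led Lsl_cf (LP (LK LD1_c4 LD2_c48 LD3_c45)) = (LP (LK LD1_c4 LD2_c59 LD3_c42)) :=
  Lgr Lrot97 (Lpr_bt (f56870 IH) (Lpr_ct (f56869 IH) (Lpr_bt (f56868 IH) (Lpr_ct (K6.f56866 IH) (Lpr_bt (f56871 IH) (Lpn (LP (LK LD1_c4 LD2_c59 LD3_c42))))))))
theorem f56961 : Led Lsl_gt (LP (LK LD1_c9 LD2_c29 LD3_c61)) = (LP (LK LD1_c4 LD2_c48 LD3_c45)) :=
  Lre_g IH (LK LD1_c9 LD2_c29 LD3_c61) (LK LD1_c4 LD2_c48 LD3_c45) Lrfl Lrfl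
theorem f78419 : Led Lsl_ct (LP (LK LD1_c9 LD2_c25 LD3_c32)) = (LP (LK LD1_c9 LD2_c29 LD3_c61)) :=
  Lgr Lrot91 (Lpe (f78418 IH) (Lpr_bf (f78338 IH) (Lpr_ct (K2.f77814 IH) (Lpr_gf (K2.f78122 IH) (Lpe (K2.f58901 IH) (Lpe (f77203 IH) (Lpe (K2.f56880 IH) (Lpe (f56958 IH) (Lpe (f56872 IH) (Lpe (f56961 IH) (Lpn (LP (LK LD1_c9 LD2_c29 LD3_c61)))))))))))))
theorem f56985 : Led Lsl_bt (LP (LK LD1_c2 LD2_c27 LD3_c34)) = (LP (LK LD1_c4 LD2_c59 LD3_c24)) :=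
  Lre_b IH (LK LD1_c2 LD2_c27 LD3_c34) (LK LD1_c4 LD2_c59 LD3_c24) Lrfl Lrfl
theorem f70531 : Led Lsl_bt (LP (LK LD1_c1 LD2_c31 LD3_c7)) = (LP (LK LD1_c0 LD2_c42 LD3_c2)) :=
  Lre_b IH (LK LD1_c1 LD2_c31 LD3_c7) (LK LD1_c0 LD2_c42 LD3_c2) Lrfl Lrfl
theorem f69239 : Led Lsl_ct (LP (LK LD1_c3 LD2_c9 LD3_c58)) = (LP (LK LD1_c1 LD2_c31 LD3_c7)) :=
  Lre_c IH (LK LD1_c3 LD2_c9 LD3_c58) (LK LD1_c1 LD2_c31 LD3_c7) Lrfl Lrfl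
theorem f69240 : Led Lsl_dt (LP (LK LD1_c6 LD2_c24 LD3_c39)) = (LP (LK LD1_c3 LD2_c9 LD3_c58)) :=
  Lre_d IH (LK LD1_c6 LD2_c24 LD3_c39) (LK LD1_c3 LD2_c9 LD3_c58) Lrfl Lrfl
theorem f75508 : Led Lsl_gt (LP (LK LD1_c4 LD2_c59 LD3_c24)) = (LP (LK LD1_c6 LD2_c24 LD3_c39)) :=
  Lgr Lrot190 (Lpe (f56985 IH) (Lpe (K6.f57070 IH) (Lpr_df (K4.f75441 IH) (Lpe (K4.f56023 IH) (Lpe (K1.f56029 IH) (Lpe (K1.f213 IH) (Lpe (K1.f212 IH) (Lpe (K0.f20988 IH) (Lpe (K0.f8189 IH) (Lpr_cf (K0.f8183 IH) (Lpr_df (K2.f37966 IH) (Lpe (K2.f37958 IH) (Lpr_bf (K1.f29309 IH) (Lpe (K1.f29311 IH) (Lpe (K1.f29552 IH) (Lpe (K4.f70439 IH) (Lpe (f70531 IH) (Lpe (f69239 IH) (Lpe (f69240 IH) (Lpn (LP (LK LD1_c6 LD2_c24 LD3_c39))))))))))))))))))))))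
theorem f78428 : Led Lsl_bt (LP (LK LD1_c9 LD2_c25 LD3_c32)) = (LP (LK LD1_c6 LD2_c24 LD3_c39)) :=
  Lgr Lrot92 (Lpr_ct (f78419 IH) (Lpr_gt (f56961 IH) (Lpr_cf (f56872 IH) (Lpr_bt (f56958 IH) (Lpr_gt (K2.f56880 IH) (Lpr_ct (K4.f56883 IH) (Lpr_gt (K4.f56864 IH) (Lpe (K4.f56847 IH) (Lpr_bt (f56985 IH) (Lpr_gt (f75508 IH) (Lpn (LP (LK LD1_c6 LD2_c24 LD3_c39)))))))))))))
theorem f78430 : Led Lsl_bf (LP (LK LD1_c9 LD2_c25 LD3_c32)) = (LP (LK LD1_c6 LD2_c24 LD3_c39)) :=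
  Lgr Lrot24 (Lpr_bt (f78428 IH) (Lpn (LP (LK LD1_c6 LD2_c24 LD3_c39))))
theorem f79093 : Led Lsl_ct (LP (LK LD1_c6 LD2_c24 LD3_c39)) = (LP (LK LD1_c3 LD2_c16 LD3_c42)) :=
  Lgr Lrot64 (Lpe (f78430 IH) (Lpe (f78418 IH) (Lpr_bf (f78338 IH) (Lpr_ct (K2.f77814 IH) (Lpr_gf (K2.f78122 IH) (Lpe (K2.f58901 IH) (Lpr_gf (K2.f79050 IH) (Lpe (K5.f64549 IH) (Lpr_ct (K4.f64538 IH) (Lpe (f64535 IH) (Lpn (LP (LK LD1_c3 LD2_c16 LD3_c42)))))))))))))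
theorem f79203 : Led Lsl_cf (LP (LK LD1_c6 LD2_c24 LD3_c39)) = (LP (LK LD1_c3 LD2_c16 LD3_c42)) :=
  Lgr Lrot11 (Lpr_ct (f79093 IH) (Lpn (LP (LK LD1_c3 LD2_c16 LD3_c42))))
theorem f64590 : Led Lsl_ct (LP (LK LD1_c12 LD2_c39 LD3_c15)) = (LP (LK LD1_c6 LD2_c36 LD3_c44)) :=
  Lre_c IH (LK LD1_c12 LD2_c39 LD3_c15) (LK LD1_c6 LD2_c36 LD3_c44) Lrfl Lrfl
theorem f79215 : Led Lsl_bt (LP (LK LD1_c9 LD2_c29 LD3_c61)) = (LP (LK LD1_c12 LD2_c39 LD3_c15)) :=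
  Lgr Lrot128 (Lpe (f78419 IH) (Lpr_bf (f78430 IH) (Lpr_cf (f79203 IH) (Lpe (f64573 IH) (Lpe (f64590 IH) (Lpn (LP (LK LD1_c12 LD2_c39 LD3_c15))))))))
theorem f78423 : Led Lsl_cf (LP (LK LD1_c9 LD2_c25 LD3_c32)) = (LP (LK LD1_c9 LD2_c29 LD3_c61)) :=
  Lgr Lrot11 (Lpr_ct (f78419 IH) (Lpn (LP (LK LD1_c9 LD2_c29 LD3_c61))))
theorem f78391 : Led Lsl_ct (LP (LK LD1_c2 LD2_c21 LD3_c11)) = (LP (LK LD1_c4 LD2_c46 LD3_c27)) :=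
  Lre_c IH (LK LD1_c2 LD2_c21 LD3_c11) (LK LD1_c4 LD2_c46 LD3_c27) Lrfl Lrfl
theorem f40573 : Led Lsl_bt (LP (LK LD1_c4 LD2_c44 LD3_c28)) = (LP (LK LD1_c2 LD2_c20 LD3_c17)) :=
  Lre_b IH (LK LD1_c4 LD2_c44 LD3_c28) (LK LD1_c2 LD2_c20 LD3_c17) Lrfl Lrfl
theorem f15574 : Led Lsl_ct (LP (LK LD1_c4 LD2_c44 LD3_c28)) = (LP (LK LD1_c3 LD2_c15 LD3_c7)) :=
  Lre_c IH (LK LD1_c4 LD2_c44 LD3_c28) (LK LD1_c3 LD2_c15 LD3_c7) Lrfl Lrfl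
theorem f40580 : Led Lsl_ct (LP (LK LD1_c12 LD2_c34 LD3_c17)) = (LP (LK LD1_c6 LD2_c33 LD3_c40)) :=
  Lre_c IH (LK LD1_c12 LD2_c34 LD3_c17) (LK LD1_c6 LD2_c33 LD3_c40) Lrfl Lrfl
theorem f79228 : Led Lsl_gf (LP (LK LD1_c12 LD2_c34 LD3_c17)) = (LP (LK LD1_c12 LD2_c39 LD3_c15)) :=
  Lgr Lrot181 (Lpr_ct (f40580 IH) (Lpr_gt (f40579 IH) (Lpe (f15574 IH) (Lpr_bt (f40573 IH) (Lpr_gt (K3.f13800 IH) (Lpe (f78336 IH) (Lpr_ct (f78391 IH) (Lpr_gt (f78418 IH) (Lpr_cf (f78423 IH) (Lpr_bt (f79215 IH) (Lpn (LP (LK LD1_c12 LD2_c39 LD3_c15)))))))))))))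
theorem f79230 : Led Lsl_ct (LP (LK LD1_c6 LD2_c33 LD3_c40)) = (LP (LK LD1_c12 LD2_c34 LD3_c17)) :=
  Lre_c IH (LK LD1_c6 LD2_c33 LD3_c40) (LK LD1_c12 LD2_c34 LD3_c17) Lrfl Lrfl
theorem f79231 : Led Lsl_bt (LP (LK LD1_c6 LD2_c33 LD3_c40)) = (LP (LK LD1_c12 LD2_c34 LD3_c16)) :=
  Lre_b IH (LK LD1_c6 LD2_c33 LD3_c40) (LK LD1_c12 LD2_c34 LD3_c16) Lrfl Lrfl
theorem f141746 : Led Lsl_gf (LP (LK LD1_c17 LD2_c5 LD3_c21)) = (LP (LK LD1_c12 LD2_c34 LD3_c16)) :=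
  Lgr Lrot181 (Lpr_ct (f141739 IH) (Lpe (f118679 IH) (Lpe (K4.f79374 IH) (Lpe (f117691 IH) (Lpr_gt (f117714 IH) (Lpe (f64573 IH) (Lpr_ct (f64593 IH) (Lpe (f79228 IH) (Lpe (f79230 IH) (Lpr_bt (f79231 IH) (Lpn (LP (LK LD1_c12 LD2_c34 LD3_c16)))))))))))))
theorem f96248 : Led Lsl_bt (LP (LK LD1_c3 LD2_c1 LD3_c55)) = (LP (LK LD1_c6 LD2_c10 LD3_c32)) :=
  Lre_b IH (LK LD1_c3 LD2_c1 LD3_c55) (LK LD1_c6 LD2_c10 LD3_c32) Lrfl Lrfl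
theorem f15011 : Led Lsl_gt (LP (LK LD1_c6 LD2_c35 LD3_c53)) = (LP (LK LD1_c3 LD2_c16 LD3_c16)) :=
  Lre_g IH (LK LD1_c6 LD2_c35 LD3_c53) (LK LD1_c3 LD2_c16 LD3_c16) Lrfl Lrfl
theorem f149773 : Led Lsl_bt (LP (LK LD1_c12 LD2_c36 LD3_c27)) = (LP (LK LD1_c6 LD2_c35 LD3_c53)) :=
  Lgr Lrot22 (Lpe (f141743 IH) (Lpr_gf (f141746 IH) (Lpe (f149762 IH) (Lpr_gf (f149767 IH) (Lpe (f96248 IH) (Lpe (K3.f96232 IH) (Lpe (K1.f65006 IH) (Lpe (K3.f15608 IH) (Lpr_bt (K4.f15204 IH) (Lpe (f15011 IH) (Lpn (LP (LK LD1_c6 LD2_c35 LD3_c53)))))))))))))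
theorem f15560 : Led Lsl_gt (LP (LK LD1_c3 LD2_c51 LD3_c29)) = (LP (LK LD1_c6 LD2_c35 LD3_c53)) :=
  Lre_g IH (LK LD1_c3 LD2_c51 LD3_c29) (LK LD1_c6 LD2_c35 LD3_c53) Lrfl Lrfl
theorem f40664 : Led Lsl_bt (LP (LK LD1_c4 LD2_c37 LD3_c41)) = (LP (LK LD1_c3 LD2_c51 LD3_c29)) :=
  Lre_b IH (LK LD1_c4 LD2_c37 LD3_c41) (LK LD1_c3 LD2_c51 LD3_c29) Lrfl Lrfl
theorem f128956 : Led Lsl_gt (LP (LK LD1_c6 LD2_c20 LD3_c16)) = (LP (LK LD1_c3 LD2_c7 LD3_c42)) :=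
  Lre_g IH (LK LD1_c6 LD2_c20 LD3_c16) (LK LD1_c3 LD2_c7 LD3_c42) Lrfl Lrfl
theorem f151173 : Led Lsl_bt (LP (LK LD1_c11 LD2_c48 LD3_c56)) = (LP (LK LD1_c6 LD2_c20 LD3_c16)) :=
  Lgr Lrot130 (Lpe (f150876 IH) (Lpr_gf (f151165 IH) (Lpr_cf (f141743 IH) (Lpr_bt (f149773 IH) (Lpe (f15560 IH) (Lpe (f40664 IH) (Lpe (f139563 IH) (Lpe (f13600 IH) (Lpr_cf (f139672 IH) (Lpe (f128956 IH) (Lpn (LP (LK LD1_c6 LD2_c20 LD3_c16)))))))))))))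
theorem f149812 : Led Lsl_ff (LP (LK LD1_c11 LD2_c48 LD3_c56)) = (LP (LK LD1_c6 LD2_c35 LD3_c1)) :=
  Lgr Lrot19 (Lpr_dt (f149758 IH) (Lpr_ft (f141675 IH) (Lpr_dt (f149806 IH) (Lpn (LP (LK LD1_c6 LD2_c35 LD3_c1))))))
theorem f14078 : Led Lsl_bt (LP (LK LD1_c3 LD2_c23 LD3_c36)) = (LP (LK LD1_c6 LD2_c49 LD3_c39)) :=
  Lre_b IH (LK LD1_c3 LD2_c23 LD3_c36) (LK LD1_c6 LD2_c49 LD3_c39) Lrfl Lrfl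
theorem f14080 : Led Lsl_bf (LP (LK LD1_c6 LD2_c50 LD3_c26)) = (LP (LK LD1_c7 LD2_c43 LD3_c11)) :=
  Lgr Lrot93 (Lpr_dt (f14079 IH) (Lpr_bt (f14078 IH) (Lpr_dt (K0.f14055 IH) (Lpn (LP (LK LD1_c7 LD2_c43 LD3_c11))))))
theorem f139552 : Led Lsl_ct (LP (LK LD1_c7 LD2_c26 LD3_c42)) = (LP (LK LD1_c4 LD2_c37 LD3_c41)) :=
  Lgr Lrot83 (Lpr_bf (f139546 IH) (Lpe (K6.f40650 IH) (Lpr_bf (f14080 IH) (Lpe (K4.f14091 IH) (Lpe (f40664 IH) (Lpn (LP (LK LD1_c4 LD2_c37 LD3_c41))))))))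
theorem f57098 : Led Lsl_dt (LP (LK LD1_c4 LD2_c37 LD3_c41)) = (LP (LK LD1_c2 LD2_c16 LD3_c1)) :=
  Lre_d IH (LK LD1_c4 LD2_c37 LD3_c41) (LK LD1_c2 LD2_c16 LD3_c1) Lrfl Lrfl
theorem f139699 : Led Lsl_dt (LP (LK LD1_c3 LD2_c20 LD3_c19)) = (LP (LK LD1_c6 LD2_c20 LD3_c16)) :=
  Lgr Lrot6 (Lpr_gt (K6.f139698 IH) (Lpr_ct (K6.f57107 IH) (Lpr_gt (K4.f40100 IH) (Lpr_ct (K4.f56837 IH) (Lpe (f57098 IH) (Lpe (f139552 IH) (Lpe (f13600 IH) (Lpr_cf (f139672 IH) (Lpe (f128956 IH) (Lpn (LP (LK LD1_c6 LD2_c20 LD3_c16))))))))))))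
theorem f148860 : Led Lsl_ff (LP (LK LD1_c9 LD2_c10 LD3_c4)) = (LP (LK LD1_c6 LD2_c20 LD3_c16)) :=
  Lgr Lrot19 (Lpe (f141217 IH) (Lpr_ft (f148856 IH) (Lpr_dt (f139699 IH) (Lpn (LP (LK LD1_c6 LD2_c20 LD3_c16))))))
theorem f151177 : Led Lsl_bf (LP (LK LD1_c6 LD2_c35 LD3_c1)) = (LP (LK LD1_c9 LD2_c10 LD3_c4)) :=
  Lgr Lrot61 (Lpe (f149812 IH) (Lpr_bt (f151173 IH) (Lpe (f148860 IH) (Lpn (LP (LK LD1_c9 LD2_c10 LD3_c4))))))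
theorem f65380 : Led Lsl_dt (LP (LK LD1_c3 LD2_c51 LD3_c15)) = (LP (LK LD1_c7 LD2_c43 LD3_c57)) :=
  Lre_d IH (LK LD1_c3 LD2_c51 LD3_c15) (LK LD1_c7 LD2_c43 LD3_c57) Lrfl Lrfl
theorem f148904 : Led Lsl_af (LP (LK LD1_c12 LD2_c15 LD3_c8)) = (LP (LK LD1_c7 LD2_c43 LD3_c57)) :=
  Lgr Lrot117 (Lpr_dt (K6.f141978 IH) (Lpr_at (f148862 IH) (Lpr_dt (f65380 IH) (Lpn (LP (LK LD1_c7 LD2_c43 LD3_c57))))))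
theorem f151179 : Led Lsl_bt (LP (LK LD1_c11 LD2_c48 LD3_c57)) = (LP (LK LD1_c7 LD2_c43 LD3_c57)) :=
  Lgr Lrot62 (Lpr_af (f149798 IH) (Lpr_bf (f151177 IH) (Lpr_af (f148829 IH) (Lpe (K6.f128958 IH) (Lpr_af (f148904 IH) (Lpn (LP (LK LD1_c7 LD2_c43 LD3_c57))))))))
theorem f149777 : Led Lsl_et (LP (LK LD1_c20 LD2_c51 LD3_c24)) = (LP (LK LD1_c11 LD2_c48 LD3_c57)) :=
  Lre_e IH (LK LD1_c20 LD2_c51 LD3_c24) (LK LD1_c11 LD2_c48 LD3_c57) Lrfl Lrfl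
theorem f151193 : Led Lsl_et (LP (LK LD1_c7 LD2_c43 LD3_c57)) = (LP (LK LD1_c14 LD2_c34 LD3_c52)) :=
  Lre_e IH (LK LD1_c7 LD2_c43 LD3_c57) (LK LD1_c14 LD2_c34 LD3_c52) Lrfl Lrfl
theorem f151194 : Led Lsl_bf (LP (LK LD1_c20 LD2_c51 LD3_c24)) = (LP (LK LD1_c14 LD2_c34 LD3_c52)) :=
  Lgr Lrot96 (Lpr_et (f149777 IH) (Lpr_bt (f151179 IH) (Lpr_et (f151193 IH) (Lpn (LP (LK LD1_c14 LD2_c34 LD3_c52))))))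
theorem f151204 : Led Lsl_bt (LP (LK LD1_c20 LD2_c51 LD3_c24)) = (LP (LK LD1_c14 LD2_c34 LD3_c52)) :=
  Lgr Lrot127 (Lpr_bf (f151194 IH) (Lpn (LP (LK LD1_c14 LD2_c34 LD3_c52))))
theorem f149800 : Led Lsl_et (LP (LK LD1_c6 LD2_c35 LD3_c1)) = (LP (LK LD1_c12 LD2_c36 LD3_c11)) :=
  Lre_e IH (LK LD1_c6 LD2_c35 LD3_c1) (LK LD1_c12 LD2_c36 LD3_c11) Lrfl Lrfl
theorem f149801 : Led Lsl_af (LP (LK LD1_c20 LD2_c51 LD3_c24)) = (LP (LK LD1_c12 LD2_c36 LD3_c11)) :=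
  Lgr Lrot50 (Lpr_et (f149777 IH) (Lpr_at (f149796 IH) (Lpr_et (f149800 IH) (Lpn (LP (LK LD1_c12 LD2_c36 LD3_c11))))))
theorem f141878 : Led Lsl_et (LP (LK LD1_c17 LD2_c3 LD3_c11)) = (LP (LK LD1_c9 LD2_c10 LD3_c4)) :=
  Lre_e IH (LK LD1_c17 LD2_c3 LD3_c11) (LK LD1_c9 LD2_c10 LD3_c4) Lrfl Lrfl
theorem f151181 : Led Lsl_bt (LP (LK LD1_c12 LD2_c36 LD3_c11)) = (LP (LK LD1_c17 LD2_c3 LD3_c11)) :=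
  Lgr Lrot119 (Lpe (f149800 IH) (Lpr_bf (f151177 IH) (Lpe (f141878 IH) (Lpn (LP (LK LD1_c17 LD2_c3 LD3_c11))))))
theorem f151183 : Led Lsl_bf (LP (LK LD1_c12 LD2_c36 LD3_c11)) = (LP (LK LD1_c17 LD2_c3 LD3_c11)) :=
  Lgr Lrot24 (Lpr_bt (f151181 IH) (Lpn (LP (LK LD1_c17 LD2_c3 LD3_c11))))
theorem f148835 : Led Lsl_et (LP (LK LD1_c9 LD2_c10 LD3_c4)) = (LP (LK LD1_c17 LD2_c3 LD3_c11)) :=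
  Lre_e IH (LK LD1_c9 LD2_c10 LD3_c4) (LK LD1_c17 LD2_c3 LD3_c11) Lrfl Lrfl
theorem f142016 : Led Lsl_et (LP (LK LD1_c12 LD2_c15 LD3_c9)) = (LP (LK LD1_c6 LD2_c20 LD3_c15)) :=
  Lre_e IH (LK LD1_c12 LD2_c15 LD3_c9) (LK LD1_c6 LD2_c20 LD3_c15) Lrfl Lrfl
theorem f148836 : Led Lsl_at (LP (LK LD1_c17 LD2_c3 LD3_c11)) = (LP (LK LD1_c12 LD2_c15 LD3_c9)) :=
  Lgr Lrot80 (Lpe (f148835 IH) (Lpr_af (f148829 IH) (Lpe (f142016 IH) (Lpn (LP (LK LD1_c12 LD2_c15 LD3_c9))))))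
theorem f148838 : Led Lsl_af (LP (LK LD1_c17 LD2_c3 LD3_c11)) = (LP (LK LD1_c12 LD2_c15 LD3_c9)) :=
  Lgr Lrot0 (Lpr_at (f148836 IH) (Lpn (LP (LK LD1_c12 LD2_c15 LD3_c9))))
theorem f136164 : Led Lsl_bt (LP (LK LD1_c21 LD2_c20 LD3_c44)) = (LP (LK LD1_c12 LD2_c15 LD3_c9)) :=
  Lre_b IH (LK LD1_c21 LD2_c20 LD3_c44) (LK LD1_c12 LD2_c15 LD3_c9) Lrfl Lrfl
theorem f151206 : Led Lsl_af (LP (LK LD1_c21 LD2_c20 LD3_c44)) = (LP (LK LD1_c14 LD2_c34 LD3_c52)) :=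
  Lgr Lrot36 (Lpr_bt (f136164 IH) (Lpe (f148838 IH) (Lpe (f151183 IH) (Lpe (f149801 IH) (Lpr_bt (f151204 IH) (Lpn (LP (LK LD1_c14 LD2_c34 LD3_c52))))))))
theorem f136160 : Led Lsl_et (LP (LK LD1_c21 LD2_c20 LD3_c44)) = (LP (LK LD1_c12 LD2_c15 LD3_c8)) :=
  Lre_e IH (LK LD1_c21 LD2_c20 LD3_c44) (LK LD1_c12 LD2_c15 LD3_c8) Lrfl Lrfl
theorem f151208 : Led Lsl_at (LP (LK LD1_c12 LD2_c15 LD3_c8)) = (LP (LK LD1_c7 LD2_c43 LD3_c57)) :=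
  Lgr Lrot80 (Lpe (f136160 IH) (Lpr_af (f151206 IH) (Lpe (f151193 IH) (Lpn (LP (LK LD1_c7 LD2_c43 LD3_c57))))))
theorem f91472 : Led Lsl_bt (LP (LK LD1_c3 LD2_c7 LD3_c32)) = (LP (LK LD1_c6 LD2_c19 LD3_c57)) :=
  Lre_b IH (LK LD1_c3 LD2_c7 LD3_c32) (LK LD1_c6 LD2_c19 LD3_c57) Lrfl Lrfl
theorem f91473 : Led Lsl_gt (LP (LK LD1_c6 LD2_c19 LD3_c57)) = (LP (LK LD1_c12 LD2_c14 LD3_c38)) :=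
  Lre_g IH (LK LD1_c6 LD2_c19 LD3_c57) (LK LD1_c12 LD2_c14 LD3_c38) Lrfl Lrfl
theorem f98885 : Led Lsl_bf (LP (LK LD1_c12 LD2_c14 LD3_c38)) = (LP (LK LD1_c12 LD2_c34 LD3_c17)) :=
  Lgr Lrot34 (Lpe (f91473 IH) (Lpe (f91472 IH) (Lpr_ct (K3.f61892 IH) (Lpr_gf (K3.f98881 IH) (Lpe (K3.f78248 IH) (Lpe (K3.f13800 IH) (Lpe (f40573 IH) (Lpr_ct (f15574 IH) (Lpe (f40579 IH) (Lpe (f40580 IH) (Lpn (LP (LK LD1_c12 LD2_c34 LD3_c17)))))))))))))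
theorem f98887 : Led Lsl_bt (LP (LK LD1_c12 LD2_c14 LD3_c38)) = (LP (LK LD1_c12 LD2_c34 LD3_c17)) :=
  Lgr Lrot127 (Lpr_bf (f98885 IH) (Lpn (LP (LK LD1_c12 LD2_c34 LD3_c17))))
theorem f151191 : Led Lsl_cf (LP (LK LD1_c12 LD2_c14 LD3_c38)) = (LP (LK LD1_c7 LD2_c43 LD3_c57)) :=
  Lgr Lrot97 (Lpr_bt (f98887 IH) (Lpr_ct (f40580 IH) (Lpr_bt (f79231 IH) (Lpe (f149760 IH) (Lpr_bt (f151179 IH) (Lpn (LP (LK LD1_c7 LD2_c43 LD3_c57))))))))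
theorem f151210 : Led Lsl_af (LP (LK LD1_c9 LD2_c23 LD3_c49)) = (LP (LK LD1_c12 LD2_c14 LD3_c38)) :=
  Lgr Lrot68 (Lpr_ct (K6.f136157 IH) (Lpr_at (f151208 IH) (Lpe (f151191 IH) (Lpn (LP (LK LD1_c12 LD2_c14 LD3_c38))))))
theorem f151216 : Led Lsl_ft (LP (LK LD1_c9 LD2_c23 LD3_c48)) = (LP (LK LD1_c12 LD2_c14 LD3_c38)) :=
  Lgr Lrot142 (Lpe (f146729 IH) (Lpr_ct (f146728 IH) (Lpr_dt (f146705 IH) (Lpr_ct (f136963 IH) (Lpr_dt (f146652 IH) (Lpe (f146695 IH) (Lpe (f146709 IH) (Lpe (K6.f136153 IH) (Lpr_af (f151210 IH) (Lpn (LP (LK LD1_c12 LD2_c14 LD3_c38))))))))))))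
theorem f151222 : Led Lsl_ff (LP (LK LD1_c9 LD2_c23 LD3_c48)) = (LP (LK LD1_c12 LD2_c14 LD3_c38)) :=
  Lgr Lrot3 (Lpr_ft (f151216 IH) (Lpn (LP (LK LD1_c12 LD2_c14 LD3_c38))))
theorem f151196 : Led Lsl_ff (LP (LK LD1_c12 LD2_c36 LD3_c9)) = (LP (LK LD1_c7 LD2_c43 LD3_c57)) :=
  Lgr Lrot25 (Lpr_bt (f141624 IH) (Lpe (f149790 IH) (Lpr_bt (f151179 IH) (Lpn (LP (LK LD1_c7 LD2_c43 LD3_c57))))))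
theorem f151200 : Led Lsl_ft (LP (LK LD1_c12 LD2_c36 LD3_c9)) = (LP (LK LD1_c7 LD2_c43 LD3_c57)) :=
  Lgr Lrot48 (Lpr_ff (f151196 IH) (Lpn (LP (LK LD1_c7 LD2_c43 LD3_c57))))
theorem f151228 : Led Lsl_ct (LP (LK LD1_c9 LD2_c23 LD3_c48)) = (LP (LK LD1_c12 LD2_c36 LD3_c9)) :=
  Lgr Lrot40 (Lpr_ff (f151222 IH) (Lpr_cf (f151191 IH) (Lpe (f151200 IH) (Lpn (LP (LK LD1_c12 LD2_c36 LD3_c9))))))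
theorem f141640 : Led Lsl_bt (LP (LK LD1_c6 LD2_c35 LD3_c0)) = (LP (LK LD1_c12 LD2_c36 LD3_c9)) :=
  Lre_b IH (LK LD1_c6 LD2_c35 LD3_c0) (LK LD1_c12 LD2_c36 LD3_c9) Lrfl Lrfl
theorem f141641 : Led Lsl_df (LP (LK LD1_c6 LD2_c37 LD3_c35)) = (LP (LK LD1_c12 LD2_c36 LD3_c9)) :=
  Lgr Lrot12 (Lpr_bt (K6.f118665 IH) (Lpr_dt (K6.f141627 IH) (Lpr_bt (f141640 IH) (Lpn (LP (LK LD1_c12 LD2_c36 LD3_c9))))))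
theorem f141561 : Led Lsl_cf (LP (LK LD1_c3 LD2_c29 LD3_c53)) = (LP (LK LD1_c6 LD2_c37 LD3_c35)) :=
  Lgr Lrot97 (Lpr_bt (K6.f65013 IH) (Lpe (K3.f65104 IH) (Lpr_bt (f96248 IH) (Lpr_ct (K6.f141558 IH) (Lpr_bt (K6.f141560 IH) (Lpn (LP (LK LD1_c6 LD2_c37 LD3_c35))))))))
theorem f142535 : Led Lsl_ct (LP (LK LD1_c7 LD2_c25 LD3_c52)) = (LP (LK LD1_c14 LD2_c2 LD3_c57)) :=
  Lre_c IH (LK LD1_c7 LD2_c25 LD3_c52) (LK LD1_c14 LD2_c2 LD3_c57) Lrfl Lrfl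
theorem f151230 : Led Lsl_df (LP (LK LD1_c9 LD2_c23 LD3_c48)) = (LP (LK LD1_c14 LD2_c2 LD3_c57)) :=
  Lgr Lrot43 (Lpr_ct (f151228 IH) (Lpe (f141641 IH) (Lpe (f141561 IH) (Lpr_dt (K6.f111229 IH) (Lpr_ct (K4.f19046 IH) (Lpr_dt (K6.f122073 IH) (Lpr_ct (K6.f122075 IH) (Lpe (K6.f146724 IH) (Lpr_ct (K6.f136157 IH) (Lpr_dt (K6.f141978 IH) (Lpr_ct (K6.f146715 IH) (Lpe (K6.f146664 IH) (Lpe (K6.f136945 IH) (Lpe (f147881 IH) (Lpr_ct (f142535 IH) (Lpn (LP (LK LD1_c14 LD2_c2 LD3_c57))))))))))))))))))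
theorem f119985 : Led Lsl_dt (LP (LK LD1_c5 LD2_c56 LD3_c41)) = (LP (LK LD1_c6 LD2_c35 LD3_c14)) :=
  Lgr Lrot60 (Lpr_ff (K4.f119981 IH) (Lpe (K4.f117904 IH) (Lpr_ff (f118653 IH) (Lpn (LP (LK LD1_c6 LD2_c35 LD3_c14))))))
theorem f96238 : Led Lsl_gt (LP (LK LD1_c6 LD2_c10 LD3_c27)) = (LP (LK LD1_c12 LD2_c1 LD3_c32)) :=
  Lre_g IH (LK LD1_c6 LD2_c10 LD3_c27) (LK LD1_c12 LD2_c1 LD3_c32) Lrfl Lrfl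
theorem f150905 : Led Lsl_dt (LP (LK LD1_c12 LD2_c1 LD3_c32)) = (LP (LK LD1_c12 LD2_c34 LD3_c16)) :=
  Lgr Lrot57 (Lpe (f96238 IH) (Lpe (K4.f96237 IH) (Lpr_gt (K4.f117028 IH) (Lpe (K4.f117071 IH) (Lpr_gt (K6.f141618 IH) (Lpr_dt (f119985 IH) (Lpe (K6.f118663 IH) (Lpr_df (f150891 IH) (Lpr_gf (f141746 IH) (Lpn (LP (LK LD1_c12 LD2_c34 LD3_c16))))))))))))
theorem f115569 : Led Lsl_dt (LP (LK LD1_c3 LD2_c15 LD3_c46)) = (LP (LK LD1_c6 LD2_c34 LD3_c53)) :=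
  Lre_d IH (LK LD1_c3 LD2_c15 LD3_c46) (LK LD1_c6 LD2_c34 LD3_c53) Lrfl Lrfl
theorem f141656 : Led Lsl_at (LP (LK LD1_c12 LD2_c37 LD3_c34)) = (LP (LK LD1_c6 LD2_c35 LD3_c46)) :=
  Lre_a IH (LK LD1_c12 LD2_c37 LD3_c34) (LK LD1_c6 LD2_c35 LD3_c46) Lrfl Lrfl
theorem f149857 : Led Lsl_dt (LP (LK LD1_c6 LD2_c35 LD3_c46)) = (LP (LK LD1_c6 LD2_c34 LD3_c50)) :=
  Lgr Lrot42 (Lpr_df (f149853 IH) (Lpn (LP (LK LD1_c6 LD2_c34 LD3_c50))))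
theorem f150870 : Led Lsl_at (LP (LK LD1_c6 LD2_c34 LD3_c50)) = (LP (LK LD1_c12 LD2_c1 LD3_c33)) :=
  Lgr Lrot51 (Lpe (f149857 IH) (Lpe (f141656 IH) (Lpr_df (f150861 IH) (Lpn (LP (LK LD1_c12 LD2_c1 LD3_c33))))))
theorem f151045 : Led Lsl_ft (LP (LK LD1_c12 LD2_c1 LD3_c32)) = (LP (LK LD1_c6 LD2_c34 LD3_c50)) :=
  Lgr Lrot142 (Lpr_dt (f150905 IH) (Lpe (f149760 IH) (Lpr_dt (f149771 IH) (Lpr_ct (K6.f65361 IH) (Lpr_dt (K4.f115591 IH) (Lpr_ct (f96736 IH) (Lpr_dt (f115569 IH) (Lpe (f149820 IH) (Lpe (f150870 IH) (Lpn (LP (LK LD1_c6 LD2_c34 LD3_c50))))))))))))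
theorem f151040 : Led Lsl_df (LP (LK LD1_c12 LD2_c1 LD3_c32)) = (LP (LK LD1_c12 LD2_c34 LD3_c16)) :=
  Lgr Lrot38 (Lpr_dt (f150905 IH) (Lpn (LP (LK LD1_c12 LD2_c34 LD3_c16))))
theorem f151047 : Led Lsl_ff (LP (LK LD1_c12 LD2_c34 LD3_c16)) = (LP (LK LD1_c6 LD2_c35 LD3_c46)) :=
  Lgr Lrot19 (Lpe (f151040 IH) (Lpr_ft (f151045 IH) (Lpe (f149853 IH) (Lpn (LP (LK LD1_c6 LD2_c35 LD3_c46))))))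
theorem f101906 : Led Lsl_bt (LP (LK LD1_c3 LD2_c16 LD3_c14)) = (LP (LK LD1_c6 LD2_c35 LD3_c46)) :=
  Lre_b IH (LK LD1_c3 LD2_c16 LD3_c14) (LK LD1_c6 LD2_c35 LD3_c46) Lrfl Lrfl
theorem f151049 : Led Lsl_ft (LP (LK LD1_c6 LD2_c33 LD3_c40)) = (LP (LK LD1_c3 LD2_c16 LD3_c14)) :=
  Lgr Lrot75 (Lpe (f98889 IH) (Lpr_ff (f151047 IH) (Lpe (f101906 IH) (Lpn (LP (LK LD1_c3 LD2_c16 LD3_c14))))))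
theorem f101905 : Led Lsl_ct (LP (LK LD1_c3 LD2_c16 LD3_c14)) = (LP (LK LD1_c6 LD2_c35 LD3_c47)) :=
  Lre_c IH (LK LD1_c3 LD2_c16 LD3_c14) (LK LD1_c6 LD2_c35 LD3_c47) Lrfl Lrfl
theorem f151053 : Led Lsl_ff (LP (LK LD1_c12 LD2_c34 LD3_c17)) = (LP (LK LD1_c6 LD2_c35 LD3_c47)) :=
  Lgr Lrot23 (Lpr_ct (f40580 IH) (Lpr_ft (f151049 IH) (Lpr_ct (f101905 IH) (Lpn (LP (LK LD1_c6 LD2_c35 LD3_c47))))))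
theorem f151226 : Led Lsl_bt (LP (LK LD1_c9 LD2_c23 LD3_c48)) = (LP (LK LD1_c6 LD2_c35 LD3_c47)) :=
  Lgr Lrot35 (Lpr_ff (f151222 IH) (Lpr_bf (f98885 IH) (Lpr_ff (f151053 IH) (Lpn (LP (LK LD1_c6 LD2_c35 LD3_c47))))))
theorem f101903 : Led Lsl_dt (LP (LK LD1_c6 LD2_c35 LD3_c47)) = (LP (LK LD1_c12 LD2_c37 LD3_c36)) :=
  Lre_d IH (LK LD1_c6 LD2_c35 LD3_c47) (LK LD1_c12 LD2_c37 LD3_c36) Lrfl Lrfl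
theorem f151233 : Led Lsl_bt (LP (LK LD1_c12 LD2_c37 LD3_c36)) = (LP (LK LD1_c14 LD2_c2 LD3_c57)) :=
  Lgr Lrot95 (Lpe (f101903 IH) (Lpe (f151226 IH) (Lpr_df (f151230 IH) (Lpn (LP (LK LD1_c14 LD2_c2 LD3_c57))))))
theorem f72915 : Led Lsl_gt (LP (LK LD1_c21 LD2_c3 LD3_c26)) = (LP (LK LD1_c11 LD2_c58 LD3_c44)) :=
  Lre_g IH (LK LD1_c21 LD2_c3 LD3_c26) (LK LD1_c11 LD2_c58 LD3_c44) Lrfl Lrfl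
theorem f151240 : Led Lsl_ct (LP (LK LD1_c12 LD2_c37 LD3_c36)) = (LP (LK LD1_c21 LD2_c3 LD3_c26)) :=
  Lgr Lrot64 (Lpr_bt (f151233 IH) (Lpr_gf (f147839 IH) (Lpe (K5.f110399 IH) (Lpr_ct (K5.f110385 IH) (Lpe (K5.f102240 IH) (Lpe (K3.f102040 IH) (Lpr_gf (K3.f102001 IH) (Lpe (K2.f74012 IH) (Lpr_ct (K2.f74001 IH) (Lpe (f72915 IH) (Lpn (LP (LK LD1_c21 LD2_c3 LD3_c26)))))))))))))
theorem f36052 : Led Lsl_bt (LP (LK LD1_c8 LD2_c46 LD3_c57)) = (LP (LK LD1_c16 LD2_c25 LD3_c57)) :=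
  Lre_b IH (LK LD1_c8 LD2_c46 LD3_c57) (LK LD1_c16 LD2_c25 LD3_c57) Lrfl Lrfl
theorem f151246 : Led Lsl_gf (LP (LK LD1_c12 LD2_c37 LD3_c36)) = (LP (LK LD1_c16 LD2_c25 LD3_c57)) :=
  Lgr Lrot181 (Lpr_ct (f151240 IH) (Lpr_gt (f72915 IH) (Lpe (K2.f74001 IH) (Lpr_bt (K2.f74012 IH) (Lpe (K3.f102001 IH) (Lpr_bf (K4.f102071 IH) (Lpr_ct (K5.f81100 IH) (Lpe (K4.f112585 IH) (Lpe (K2.f35962 IH) (Lpr_bt (f36052 IH) (Lpn (LP (LK LD1_c16 LD2_c25 LD3_c57)))))))))))))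
theorem f101909 : Led Lsl_dt (LP (LK LD1_c12 LD2_c37 LD3_c36)) = (LP (LK LD1_c6 LD2_c35 LD3_c47)) :=
  Lre_d IH (LK LD1_c12 LD2_c37 LD3_c36) (LK LD1_c6 LD2_c35 LD3_c47) Lrfl Lrfl
theorem f99187 : Led Lsl_ct (LP (LK LD1_c6 LD2_c35 LD3_c47)) = (LP (LK LD1_c3 LD2_c16 LD3_c14)) :=
  Lre_c IH (LK LD1_c6 LD2_c35 LD3_c47) (LK LD1_c3 LD2_c16 LD3_c14) Lrfl Lrfl
theorem f15551 : Led Lsl_dt (LP (LK LD1_c6 LD2_c35 LD3_c48)) = (LP (LK LD1_c3 LD2_c16 LD3_c14)) :=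
  Lre_d IH (LK LD1_c6 LD2_c35 LD3_c48) (LK LD1_c3 LD2_c16 LD3_c14) Lrfl Lrfl
theorem f81668 : Led Lsl_dt (LP (LK LD1_c20 LD2_c41 LD3_c1)) = (LP (LK LD1_c11 LD2_c41 LD3_c13)) :=
  Lre_d IH (LK LD1_c20 LD2_c41 LD3_c1) (LK LD1_c11 LD2_c41 LD3_c13) Lrfl Lrfl
theorem f99462 : Led Lsl_bt (LP (LK LD1_c5 LD2_c53 LD3_c51)) = (LP (LK LD1_c11 LD2_c33 LD3_c34)) :=
  Lre_b IH (LK LD1_c5 LD2_c53 LD3_c51) (LK LD1_c11 LD2_c33 LD3_c34) Lrfl Lrfl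
theorem f99463 : Led Lsl_af (LP (LK LD1_c16 LD2_c25 LD3_c57)) = (LP (LK LD1_c11 LD2_c33 LD3_c34)) :=
  Lgr Lrot36 (Lpr_bt (K2.f35964 IH) (Lpr_at (K5.f35968 IH) (Lpr_bt (K4.f99460 IH) (Lpr_at (f70910 IH) (Lpr_bt (f99462 IH) (Lpn (LP (LK LD1_c11 LD2_c33 LD3_c34))))))))
theorem f81642 : Led Lsl_ft (LP (LK LD1_c16 LD2_c25 LD3_c57)) = (LP (LK LD1_c20 LD2_c41 LD3_c1)) :=
  Lgr Lrot75 (Lpe (f36052 IH) (Lpr_ff (K5.f81640 IH) (Lpe (K2.f81615 IH) (Lpn (LP (LK LD1_c20 LD2_c41 LD3_c1))))))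
theorem f101778 : Led Lsl_ft (LP (LK LD1_c17 LD2_c0 LD3_c36)) = (LP (LK LD1_c11 LD2_c33 LD3_c34)) :=
  Lgr Lrot101 (Lpe (f99454 IH) (Lpe (f81642 IH) (Lpr_af (f99463 IH) (Lpn (LP (LK LD1_c11 LD2_c33 LD3_c34))))))
theorem f101781 : Led Lsl_ff (LP (LK LD1_c17 LD2_c0 LD3_c36)) = (LP (LK LD1_c11 LD2_c33 LD3_c34)) :=
  Lgr Lrot3 (Lpr_ft (f101778 IH) (Lpn (LP (LK LD1_c11 LD2_c33 LD3_c34))))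
theorem f101776 : Led Lsl_at (LP (LK LD1_c16 LD2_c25 LD3_c57)) = (LP (LK LD1_c11 LD2_c33 LD3_c34)) :=
  Lgr Lrot100 (Lpr_af (f99463 IH) (Lpn (LP (LK LD1_c11 LD2_c33 LD3_c34))))
theorem f101783 : Led Lsl_at (LP (LK LD1_c17 LD2_c0 LD3_c36)) = (LP (LK LD1_c20 LD2_c41 LD3_c1)) :=
  Lgr Lrot66 (Lpr_ff (f101781 IH) (Lpe (f101776 IH) (Lpr_ff (K2.f81633 IH) (Lpn (LP (LK LD1_c20 LD2_c41 LD3_c1))))))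
theorem f101800 : Led Lsl_df (LP (LK LD1_c17 LD2_c0 LD3_c36)) = (LP (LK LD1_c11 LD2_c35 LD3_c8)) :=
  Lgr Lrot18 (Lpr_at (f101783 IH) (Lpr_dt (f81668 IH) (Lpr_at (f101798 IH) (Lpn (LP (LK LD1_c11 LD2_c35 LD3_c8))))))
theorem f149511 : Led Lsl_df (LP (LK LD1_c9 LD2_c22 LD3_c12)) = (LP (LK LD1_c11 LD2_c33 LD3_c34)) :=
  Lgr Lrot78 (Lpr_ft (f149509 IH) (Lpe (f101800 IH) (Lpr_ft (f101778 IH) (Lpn (LP (LK LD1_c11 LD2_c33 LD3_c34))))))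
theorem f149527 : Led Lsl_df (LP (LK LD1_c16 LD2_c25 LD3_c57)) = (LP (LK LD1_c12 LD2_c35 LD3_c11)) :=
  Lgr Lrot18 (Lpr_at (f101776 IH) (Lpe (f149511 IH) (Lpr_at (f149521 IH) (Lpn (LP (LK LD1_c12 LD2_c35 LD3_c11))))))
theorem f75221 : Led Lsl_dt (LP (LK LD1_c6 LD2_c10 LD3_c10)) = (LP (LK LD1_c12 LD2_c1 LD3_c14)) :=
  Lre_d IH (LK LD1_c6 LD2_c10 LD3_c10) (LK LD1_c12 LD2_c1 LD3_c14) Lrfl Lrfl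
theorem f66879 : Led Lsl_ft (LP (LK LD1_c12 LD2_c1 LD3_c14)) = (LP (LK LD1_c7 LD2_c2 LD3_c8)) :=
  Lre_f IH (LK LD1_c12 LD2_c1 LD3_c14) (LK LD1_c7 LD2_c2 LD3_c8) Lrfl Lrfl
theorem f100164 : Led Lsl_df (LP (LK LD1_c9 LD2_c9 LD3_c57)) = (LP (LK LD1_c7 LD2_c2 LD3_c8)) :=
  Lgr Lrot78 (Lpr_ft (K6.f100162 IH) (Lpr_dt (f75221 IH) (Lpr_ft (f66879 IH) (Lpn (LP (LK LD1_c7 LD2_c2 LD3_c8))))))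
theorem f100177 : Led Lsl_dt (LP (LK LD1_c9 LD2_c9 LD3_c57)) = (LP (LK LD1_c7 LD2_c2 LD3_c8)) :=
  Lgr Lrot42 (Lpr_df (f100164 IH) (Lpn (LP (LK LD1_c7 LD2_c2 LD3_c8))))
theorem f151250 : Led Lsl_gf (LP (LK LD1_c6 LD2_c35 LD3_c48)) = (LP (LK LD1_c7 LD2_c2 LD3_c8)) :=
  Lgr Lrot143 (Lpr_dt (f15551 IH) (Lpe (f99187 IH) (Lpe (f101909 IH) (Lpr_gf (f151246 IH) (Lpr_df (f149527 IH) (Lpr_gf (f65652 IH) (Lpe (f65651 IH) (Lpe (f100179 IH) (Lpr_dt (f100177 IH) (Lpn (LP (LK LD1_c7 LD2_c2 LD3_c8))))))))))))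
theorem f18284 : Led Lsl_ft (LP (LK LD1_c7 LD2_c2 LD3_c8)) = (LP (LK LD1_c12 LD2_c1 LD3_c14)) :=
  Lre_f IH (LK LD1_c7 LD2_c2 LD3_c8) (LK LD1_c12 LD2_c1 LD3_c14) Lrfl Lrfl
theorem f18283 : Led Lsl_at (LP (LK LD1_c12 LD2_c1 LD3_c14)) = (LP (LK LD1_c6 LD2_c10 LD3_c11)) :=
  Lre_a IH (LK LD1_c12 LD2_c1 LD3_c14) (LK LD1_c6 LD2_c10 LD3_c11) Lrfl Lrfl
theorem f151274 : Led Lsl_gt (LP (LK LD1_c6 LD2_c35 LD3_c48)) = (LP (LK LD1_c6 LD2_c10 LD3_c11)) :=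
  Lgr Lrot46 (Lpr_gf (f151250 IH) (Lpr_ft (f18284 IH) (Lpr_at (f18283 IH) (Lpn (LP (LK LD1_c6 LD2_c10 LD3_c11))))))
theorem f101904 : Led Lsl_dt (LP (LK LD1_c3 LD2_c16 LD3_c14)) = (LP (LK LD1_c6 LD2_c35 LD3_c48)) :=
  Lre_d IH (LK LD1_c3 LD2_c16 LD3_c14) (LK LD1_c6 LD2_c35 LD3_c48) Lrfl Lrfl
theorem f14349 : Led Lsl_dt (LP (LK LD1_c4 LD2_c45 LD3_c17)) = (LP (LK LD1_c9 LD2_c23 LD3_c17)) :=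
  Lre_d IH (LK LD1_c4 LD2_c45 LD3_c17) (LK LD1_c9 LD2_c23 LD3_c17) Lrfl Lrfl
theorem f151278 : Led Lsl_gt (LP (LK LD1_c9 LD2_c23 LD3_c17)) = (LP (LK LD1_c9 LD2_c16 LD3_c0)) :=
  Lgr Lrot49 (Lpe (f14349 IH) (Lpe (f14348 IH) (Lpe (f14058 IH) (Lpr_gt (K6.f109908 IH) (Lpr_dt (f101904 IH) (Lpr_gt (f151274 IH) (Lpr_dt (K2.f18277 IH) (Lpe (K2.f18288 IH) (Lpe (K2.f19123 IH) (Lpn (LP (LK LD1_c9 LD2_c16 LD3_c0))))))))))))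
theorem f151310 : Led Lsl_gf (LP (LK LD1_c9 LD2_c23 LD3_c17)) = (LP (LK LD1_c11 LD2_c40 LD3_c49)) :=
  Lgr Lrot47 (Lpr_gt (f151278 IH) (Lpr_af (K2.f75152 IH) (Lpe (K2.f75205 IH) (Lpn (LP (LK LD1_c11 LD2_c40 LD3_c49))))))
theorem f14063 : Led Lsl_dt (LP (LK LD1_c9 LD2_c23 LD3_c17)) = (LP (LK LD1_c4 LD2_c45 LD3_c17)) :=
  Lre_d IH (LK LD1_c9 LD2_c23 LD3_c17) (LK LD1_c4 LD2_c45 LD3_c17) Lrfl Lrfl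
theorem f78992 : Led Lsl_ff (LP (LK LD1_c3 LD2_c16 LD3_c30)) = (LP (LK LD1_c3 LD2_c8 LD3_c12)) :=
  Lgr Lrot19 (Lpr_dt (K2.f78718 IH) (Lpe (K3.f77226 IH) (Lpr_dt (K2.f77159 IH) (Lpn (LP (LK LD1_c3 LD2_c8 LD3_c12))))))
theorem f78994 : Led Lsl_ft (LP (LK LD1_c6 LD2_c36 LD3_c20)) = (LP (LK LD1_c6 LD2_c21 LD3_c4)) :=
  Lgr Lrot75 (Lpe (K6.f78708 IH) (Lpr_ff (f78992 IH) (Lpe (K4.f77305 IH) (Lpn (LP (LK LD1_c6 LD2_c21 LD3_c4))))))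
theorem f79000 : Led Lsl_ff (LP (LK LD1_c6 LD2_c36 LD3_c20)) = (LP (LK LD1_c6 LD2_c21 LD3_c4)) :=
  Lgr Lrot3 (Lpr_ft (f78994 IH) (Lpn (LP (LK LD1_c6 LD2_c21 LD3_c4))))
theorem f14088 : Led Lsl_at (LP (LK LD1_c9 LD2_c26 LD3_c7)) = (LP (LK LD1_c11 LD2_c43 LD3_c15)) :=
  Lgr Lrot33 (Lpe (K0.f14004 IH) (Lpr_dt (K0.f14037 IH) (Lpr_ct (K0.f14038 IH) (Lpr_dt (K0.f14055 IH) (Lpr_ct (K0.f14054 IH) (Lpr_dt (f14057 IH) (Lpr_ct (f14058 IH) (Lpr_dt (K3.f14082 IH) (Lpr_ct (K3.f14083 IH) (Lpn (LP (LK LD1_c11 LD2_c43 LD3_c15))))))))))))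
theorem f14099 : Led Lsl_af (LP (LK LD1_c9 LD2_c26 LD3_c7)) = (LP (LK LD1_c11 LD2_c43 LD3_c15)) :=
  Lgr Lrot0 (Lpr_at (f14088 IH) (Lpn (LP (LK LD1_c11 LD2_c43 LD3_c15))))
theorem f77294 : Led Lsl_af (LP (LK LD1_c6 LD2_c21 LD3_c4)) = (LP (LK LD1_c4 LD2_c59 LD3_c16)) :=
  Lgr Lrot117 (Lpr_dt (K4.f77292 IH) (Lpe (f14099 IH) (Lpr_dt (K6.f14141 IH) (Lpn (LP (LK LD1_c4 LD2_c59 LD3_c16))))))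
theorem f15549 : Led Lsl_ft (LP (LK LD1_c9 LD2_c47 LD3_c18)) = (LP (LK LD1_c4 LD2_c59 LD3_c16)) :=
  Lre_f IH (LK LD1_c9 LD2_c47 LD3_c18) (LK LD1_c4 LD2_c59 LD3_c16) Lrfl Lrfl
theorem f79009 : Led Lsl_at (LP (LK LD1_c6 LD2_c36 LD3_c20)) = (LP (LK LD1_c9 LD2_c47 LD3_c18)) :=
  Lgr Lrot66 (Lpr_ff (f79000 IH) (Lpr_af (f77294 IH) (Lpe (f15549 IH) (Lpn (LP (LK LD1_c9 LD2_c47 LD3_c18))))))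
theorem f77302 : Led Lsl_gt (LP (LK LD1_c6 LD2_c21 LD3_c4)) = (LP (LK LD1_c12 LD2_c16 LD3_c8)) :=
  Lre_g IH (LK LD1_c6 LD2_c21 LD3_c4) (LK LD1_c12 LD2_c16 LD3_c8) Lrfl Lrfl
theorem f79011 : Led Lsl_gf (LP (LK LD1_c9 LD2_c47 LD3_c18)) = (LP (LK LD1_c12 LD2_c16 LD3_c8)) :=
  Lgr Lrot76 (Lpe (f79009 IH) (Lpr_ff (f79000 IH) (Lpr_gt (f77302 IH) (Lpn (LP (LK LD1_c12 LD2_c16 LD3_c8))))))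
theorem f76521 : Led Lsl_af (LP (LK LD1_c11 LD2_c58 LD3_c44)) = (LP (LK LD1_c12 LD2_c12 LD3_c53)) :=
  Lgr Lrot117 (Lpr_dt (K2.f72906 IH) (Lpe (K2.f61529 IH) (Lpr_dt (K4.f76519 IH) (Lpn (LP (LK LD1_c12 LD2_c12 LD3_c53))))))
theorem f76489 : Led Lsl_bt (LP (LK LD1_c12 LD2_c12 LD3_c53)) = (LP (LK LD1_c6 LD2_c18 LD3_c26)) :=
  Lre_b IH (LK LD1_c12 LD2_c12 LD3_c53) (LK LD1_c6 LD2_c18 LD3_c26) Lrfl Lrfl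
theorem f76490 : Led Lsl_ft (LP (LK LD1_c12 LD2_c12 LD3_c36)) = (LP (LK LD1_c12 LD2_c12 LD3_c53)) :=
  Lgr Lrot75 (Lpe (K2.f76416 IH) (Lpr_ff (K2.f76483 IH) (Lpe (f76489 IH) (Lpn (LP (LK LD1_c12 LD2_c12 LD3_c53))))))
theorem f76681 : Led Lsl_gf (LP (LK LD1_c21 LD2_c3 LD3_c26)) = (LP (LK LD1_c12 LD2_c12 LD3_c36)) :=
  Lgr Lrot47 (Lpr_gt (f72915 IH) (Lpr_af (f76521 IH) (Lpe (f76490 IH) (Lpn (LP (LK LD1_c12 LD2_c12 LD3_c36))))))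
theorem f151353 : Led Lsl_df (LP (LK LD1_c12 LD2_c16 LD3_c8)) = (LP (LK LD1_c21 LD2_c3 LD3_c26)) :=
  Lgr Lrot153 (Lpe (f79011 IH) (Lpr_dt (K4.f14061 IH) (Lpr_cf (K0.f14005 IH) (Lpe (K0.f14039 IH) (Lpe (f14062 IH) (Lpe (f14063 IH) (Lpr_gf (f151310 IH) (Lpr_cf (K2.f76410 IH) (Lpe (f76681 IH) (Lpn (LP (LK LD1_c21 LD2_c3 LD3_c26))))))))))))
theorem f151358 : Led Lsl_dt (LP (LK LD1_c12 LD2_c16 LD3_c8)) = (LP (LK LD1_c21 LD2_c3 LD3_c26)) :=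
  Lgr Lrot42 (Lpr_df (f151353 IH) (Lpn (LP (LK LD1_c21 LD2_c3 LD3_c26))))
theorem f87292 : Led Lsl_bt (LP (LK LD1_c3 LD2_c17 LD3_c31)) = (LP (LK LD1_c1 LD2_c35 LD3_c19)) :=
  Lre_b IH (LK LD1_c3 LD2_c17 LD3_c31) (LK LD1_c1 LD2_c35 LD3_c19) Lrfl Lrfl
theorem f87291 : Led Lsl_ct (LP (LK LD1_c6 LD2_c38 LD3_c23)) = (LP (LK LD1_c3 LD2_c17 LD3_c31)) :=
  Lre_c IH (LK LD1_c6 LD2_c38 LD3_c23) (LK LD1_c3 LD2_c17 LD3_c31) Lrfl Lrfl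
theorem f87314 : Led Lsl_dt (LP (LK LD1_c12 LD2_c42 LD3_c25)) = (LP (LK LD1_c6 LD2_c38 LD3_c23)) :=
  Lre_d IH (LK LD1_c12 LD2_c42 LD3_c25) (LK LD1_c6 LD2_c38 LD3_c23) Lrfl Lrfl
theorem f151244 : Led Lsl_cf (LP (LK LD1_c12 LD2_c37 LD3_c36)) = (LP (LK LD1_c21 LD2_c3 LD3_c26)) :=
  Lgr Lrot11 (Lpr_ct (f151240 IH) (Lpn (LP (LK LD1_c21 LD2_c3 LD3_c26))))
theorem f151360 : Led Lsl_gf (LP (LK LD1_c12 LD2_c42 LD3_c25)) = (LP (LK LD1_c14 LD2_c2 LD3_c57)) :=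
  Lgr Lrot85 (Lpr_dt (f87314 IH) (Lpr_ct (f87291 IH) (Lpr_bt (f87292 IH) (Lpr_gt (K2.f87353 IH) (Lpr_dt (K3.f58397 IH) (Lpr_ct (K3.f58390 IH) (Lpr_bt (K3.f58381 IH) (Lpr_gt (K4.f110526 IH) (Lpr_dt (K4.f103329 IH) (Lpr_ct (K3.f79314 IH) (Lpe (K3.f103473 IH) (Lpr_gt (K3.f13532 IH) (Lpe (K3.f77187 IH) (Lpr_ct (K3.f77172 IH) (Lpr_bt (K4.f77291 IH) (Lpr_gt (f77302 IH) (Lpr_dt (f151358 IH) (Lpe (f151244 IH) (Lpr_bt (f151233 IH) (Lpn (LP (LK LD1_c14 LD2_c2 LD3_c57))))))))))))))))))))))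
theorem f125590 : Led Lsl_bt (LP (LK LD1_c1 LD2_c48 LD3_c19)) = (LP (LK LD1_c3 LD2_c42 LD3_c38)) :=
  Lre_b IH (LK LD1_c1 LD2_c48 LD3_c19) (LK LD1_c3 LD2_c42 LD3_c38) Lrfl Lrfl
theorem f147681 : Led Lsl_ct (LP (LK LD1_c1 LD2_c47 LD3_c16)) = (LP (LK LD1_c1 LD2_c48 LD3_c47)) :=
  Lgr Lrot8 (Lpr_gt (f147675 IH) (Lpe (f142279 IH) (Lpr_gt (K2.f11523 IH) (Lpr_dt (K6.f11654 IH) (Lpe (K6.f121002 IH) (Lpr_df (K6.f144345 IH) (Lpe (K6.f144339 IH) (Lpe (f26247 IH) (Lpr_gf (f128341 IH) (Lpn (LP (LK LD1_c1 LD2_c48 LD3_c47))))))))))))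
theorem f13176 : Led Lsl_bt (LP (LK LD1_c1 LD2_c47 LD3_c16)) = (LP (LK LD1_c3 LD2_c40 LD3_c37)) :=
  Lre_b IH (LK LD1_c1 LD2_c47 LD3_c16) (LK LD1_c3 LD2_c40 LD3_c37) Lrfl Lrfl
theorem f13169 : Led Lsl_dt (LP (LK LD1_c3 LD2_c42 LD3_c55)) = (LP (LK LD1_c1 LD2_c48 LD3_c28)) :=
  Lre_d IH (LK LD1_c3 LD2_c42 LD3_c55) (LK LD1_c1 LD2_c48 LD3_c28) Lrfl Lrfl
theorem f13170 : Led Lsl_dt (LP (LK LD1_c1 LD2_c47 LD3_c15)) = (LP (LK LD1_c3 LD2_c40 LD3_c37)) :=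
  Lre_d IH (LK LD1_c1 LD2_c47 LD3_c15) (LK LD1_c3 LD2_c40 LD3_c37) Lrfl Lrfl
theorem f148326 : Led Lsl_ff (LP (LK LD1_c3 LD2_c42 LD3_c55)) = (LP (LK LD1_c3 LD2_c40 LD3_c37)) :=
  Lgr Lrot19 (Lpr_dt (f13169 IH) (Lpr_ft (f148322 IH) (Lpr_dt (f13170 IH) (Lpn (LP (LK LD1_c3 LD2_c40 LD3_c37))))))
theorem f12908 : Led Lsl_at (LP (LK LD1_c0 LD2_c51 LD3_c20)) = (LP (LK LD1_c1 LD2_c48 LD3_c29)) :=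
  Lre_a IH (LK LD1_c0 LD2_c51 LD3_c20) (LK LD1_c1 LD2_c48 LD3_c29) Lrfl Lrfl
theorem f12909 : Led Lsl_bt (LP (LK LD1_c1 LD2_c48 LD3_c29)) = (LP (LK LD1_c3 LD2_c42 LD3_c55)) :=
  Lre_b IH (LK LD1_c1 LD2_c48 LD3_c29) (LK LD1_c3 LD2_c42 LD3_c55) Lrfl Lrfl
theorem f12910 : Led Lsl_at (LP (LK LD1_c1 LD2_c47 LD3_c16)) = (LP (LK LD1_c0 LD2_c50 LD3_c35)) :=
  Lre_a IH (LK LD1_c1 LD2_c47 LD3_c16) (LK LD1_c0 LD2_c50 LD3_c35) Lrfl Lrfl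
theorem f12911 : Led Lsl_bt (LP (LK LD1_c3 LD2_c40 LD3_c37)) = (LP (LK LD1_c1 LD2_c47 LD3_c16)) :=
  Lre_b IH (LK LD1_c3 LD2_c40 LD3_c37) (LK LD1_c1 LD2_c47 LD3_c16) Lrfl Lrfl
theorem f12912 : Led Lsl_at (LP (LK LD1_c3 LD2_c42 LD3_c55)) = (LP (LK LD1_c3 LD2_c40 LD3_c37)) :=
  Lgr Lrot67 (Lpe (f12909 IH) (Lpe (f12908 IH) (Lpr_bf (K5.f12896 IH) (Lpe (f12910 IH) (Lpe (f12911 IH) (Lpn (LP (LK LD1_c3 LD2_c40 LD3_c37))))))))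
theorem f148317 : Led Lsl_gt (LP (LK LD1_c3 LD2_c40 LD3_c37)) = (LP (LK LD1_c7 LD2_c21 LD3_c26)) :=
  Lre_g IH (LK LD1_c3 LD2_c40 LD3_c37) (LK LD1_c7 LD2_c21 LD3_c26) Lrfl Lrfl
theorem f148330 : Led Lsl_gf (LP (LK LD1_c3 LD2_c40 LD3_c37)) = (LP (LK LD1_c7 LD2_c21 LD3_c26)) :=
  Lgr Lrot76 (Lpe (f12912 IH) (Lpr_ff (f148326 IH) (Lpr_gt (f148317 IH) (Lpn (LP (LK LD1_c7 LD2_c21 LD3_c26))))))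
theorem f148332 : Led Lsl_bt (LP (LK LD1_c13 LD2_c54 LD3_c30)) = (LP (LK LD1_c7 LD2_c21 LD3_c26)) :=
  Lre_b IH (LK LD1_c13 LD2_c54 LD3_c30) (LK LD1_c7 LD2_c21 LD3_c26) Lrfl Lrfl
theorem f151368 : Led Lsl_cf (LP (LK LD1_c12 LD2_c42 LD3_c25)) = (LP (LK LD1_c13 LD2_c54 LD3_c30)) :=
  Lgr Lrot163 (Lpr_gf (f151360 IH) (Lpe (f142535 IH) (Lpe (f125598 IH) (Lpe (f125590 IH) (Lpe (K6.f125592 IH) (Lpr_gf (f128341 IH) (Lpe (f147681 IH) (Lpr_bt (f13176 IH) (Lpr_gf (f148330 IH) (Lpe (f148332 IH) (Lpn (LP (LK LD1_c13 LD2_c54 LD3_c30)))))))))))))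
theorem f145000 : Led Lsl_bf (LP (LK LD1_c3 LD2_c48 LD3_c11)) = (LP (LK LD1_c7 LD2_c35 LD3_c51)) :=
  Lgr Lrot90 (Lpe (K6.f129583 IH) (Lpr_bt (K5.f122711 IH) (Lpe (K5.f122709 IH) (Lpr_bt (K6.f142543 IH) (Lpr_ct (K6.f144998 IH) (Lpn (LP (LK LD1_c7 LD2_c35 LD3_c51))))))))
theorem f147909 : Led Lsl_gf (LP (LK LD1_c13 LD2_c6 LD3_c23)) = (LP (LK LD1_c14 LD2_c2 LD3_c6)) :=
  Lgr Lrot85 (Lpr_dt (K6.f127984 IH) (Lpr_ct (K6.f144998 IH) (Lpe (f145000 IH) (Lpe (K5.f89832 IH) (Lpe (K6.f127123 IH) (Lpr_ct (K5.f25298 IH) (Lpr_bt (K5.f127480 IH) (Lpr_gt (K5.f129612 IH) (Lpr_dt (K5.f65546 IH) (Lpe (K3.f103482 IH) (Lpr_bt (K3.f103476 IH) (Lpe (K3.f103471 IH) (Lpe (K5.f120771 IH) (Lpr_ct (K4.f120761 IH) (Lpr_bt (K6.f102980 IH) (Lpr_gt (f120778 IH) (Lpe (f146729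 IH) (Lpr_ct (f146728 IH) (Lpr_bt (f147883 IH) (Lpn (LP (LK LD1_c14 LD2_c2 LD3_c6))))))))))))))))))))))
theorem f147911 : Led Lsl_ff (LP (LK LD1_c13 LD2_c6 LD3_c21)) = (LP (LK LD1_c14 LD2_c2 LD3_c6)) :=
  Lgr Lrot52 (Lpr_at (K6.f135877 IH) (Lpe (K6.f96314 IH) (Lpr_gf (f147909 IH) (Lpn (LP (LK LD1_c14 LD2_c2 LD3_c6))))))
theorem f148709 : Led Lsl_ff (LP (LK LD1_c7 LD2_c25 LD3_c52)) = (LP (LK LD1_c7 LD2_c21 LD3_c10)) :=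
  Lgr Lrot25 (Lpr_bt (f147883 IH) (Lpe (f147911 IH) (Lpr_bt (f148696 IH) (Lpn (LP (LK LD1_c7 LD2_c21 LD3_c10))))))
theorem f148713 : Led Lsl_ct (LP (LK LD1_c13 LD2_c54 LD3_c2)) = (LP (LK LD1_c7 LD2_c21 LD3_c10)) :=
  Lre_c IH (LK LD1_c13 LD2_c54 LD3_c2) (LK LD1_c7 LD2_c21 LD3_c10) Lrfl Lrfl
theorem f148714 : Led Lsl_ft (LP (LK LD1_c14 LD2_c2 LD3_c57)) = (LP (LK LD1_c13 LD2_c54 LD3_c2)) :=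
  Lgr Lrot4 (Lpe (f142535 IH) (Lpr_ff (f148709 IH) (Lpe (f148713 IH) (Lpn (LP (LK LD1_c13 LD2_c54 LD3_c2))))))
theorem f148719 : Led Lsl_ft (LP (LK LD1_c7 LD2_c25 LD3_c52)) = (LP (LK LD1_c7 LD2_c21 LD3_c10)) :=
  Lgr Lrot48 (Lpr_ff (f148709 IH) (Lpn (LP (LK LD1_c7 LD2_c21 LD3_c10))))
theorem f129203 : Led Lsl_ct (LP (LK LD1_c7 LD2_c21 LD3_c10)) = (LP (LK LD1_c13 LD2_c54 LD3_c2)) :=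
  Lre_c IH (LK LD1_c7 LD2_c21 LD3_c10) (LK LD1_c13 LD2_c54 LD3_c2) Lrfl Lrfl
theorem f148721 : Led Lsl_ff (LP (LK LD1_c14 LD2_c2 LD3_c57)) = (LP (LK LD1_c13 LD2_c54 LD3_c2)) :=
  Lgr Lrot23 (Lpr_ct (f146728 IH) (Lpr_ft (f148719 IH) (Lpr_ct (f129203 IH) (Lpn (LP (LK LD1_c13 LD2_c54 LD3_c2))))))
theorem f12368 : Led Lsl_ct (LP (LK LD1_c13 LD2_c52 LD3_c61)) = (LP (LK LD1_c7 LD2_c20 LD3_c29)) :=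
  Lre_c IH (LK LD1_c13 LD2_c52 LD3_c61) (LK LD1_c7 LD2_c20 LD3_c29) Lrfl Lrfl
theorem f147940 : Led Lsl_at (LP (LK LD1_c14 LD2_c2 LD3_c57)) = (LP (LK LD1_c13 LD2_c52 LD3_c61)) :=
  Lgr Lrot107 (Lpe (f142535 IH) (Lpr_af (f147902 IH) (Lpe (f12368 IH) (Lpn (LP (LK LD1_c13 LD2_c52 LD3_c61))))))
theorem f146816 : Led Lsl_ct (LP (LK LD1_c7 LD2_c20 LD3_c29)) = (LP (LK LD1_c13 LD2_c52 LD3_c61)) :=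
  Lre_c IH (LK LD1_c7 LD2_c20 LD3_c29) (LK LD1_c13 LD2_c52 LD3_c61) Lrfl Lrfl
theorem f147947 : Led Lsl_ff (LP (LK LD1_c13 LD2_c19 LD3_c10)) = (LP (LK LD1_c13 LD2_c52 LD3_c61)) :=
  Lgr Lrot23 (Lpr_ct (K6.f122074 IH) (Lpr_ft (f147945 IH) (Lpr_ct (f146816 IH) (Lpn (LP (LK LD1_c13 LD2_c52 LD3_c61))))))
theorem f148723 : Led Lsl_at (LP (LK LD1_c13 LD2_c19 LD3_c10)) = (LP (LK LD1_c13 LD2_c54 LD3_c2)) :=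
  Lgr Lrot66 (Lpr_ff (f147947 IH) (Lpe (f147940 IH) (Lpr_ff (f148721 IH) (Lpn (LP (LK LD1_c13 LD2_c54 LD3_c2))))))
theorem f148725 : Led Lsl_af (LP (LK LD1_c13 LD2_c19 LD3_c10)) = (LP (LK LD1_c13 LD2_c54 LD3_c2)) :=
  Lgr Lrot0 (Lpr_at (f148723 IH) (Lpn (LP (LK LD1_c13 LD2_c54 LD3_c2))))
theorem f151364 : Led Lsl_gt (LP (LK LD1_c12 LD2_c42 LD3_c25)) = (LP (LK LD1_c13 LD2_c19 LD3_c10)) :=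
  Lgr Lrot46 (Lpr_gf (f151360 IH) (Lpr_ft (f148714 IH) (Lpe (f148725 IH) (Lpn (LP (LK LD1_c13 LD2_c19 LD3_c10))))))
theorem f102973 : Led Lsl_bt (LP (LK LD1_c9 LD2_c22 LD3_c19)) = (LP (LK LD1_c4 LD2_c44 LD3_c51)) :=
  Lre_b IH (LK LD1_c9 LD2_c22 LD3_c19) (LK LD1_c4 LD2_c44 LD3_c51) Lrfl Lrfl
theorem f102981 : Led Lsl_dt (LP (LK LD1_c4 LD2_c45 LD3_c34)) = (LP (LK LD1_c9 LD2_c22 LD3_c19)) :=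
  Lgr Lrot79 (Lpe (K6.f102980 IH) (Lpr_df (K3.f102971 IH) (Lpe (f102973 IH) (Lpn (LP (LK LD1_c9 LD2_c22 LD3_c19))))))
theorem f105474 : Led Lsl_dt (LP (LK LD1_c6 LD2_c10 LD3_c43)) = (LP (LK LD1_c3 LD2_c1 LD3_c59)) :=
  Lre_d IH (LK LD1_c6 LD2_c10 LD3_c43) (LK LD1_c3 LD2_c1 LD3_c59) Lrfl Lrfl
theorem f105222 : Led Lsl_at (LP (LK LD1_c3 LD2_c1 LD3_c59)) = (LP (LK LD1_c6 LD2_c10 LD3_c41)) :=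
  Lre_a IH (LK LD1_c3 LD2_c1 LD3_c59) (LK LD1_c6 LD2_c10 LD3_c41) Lrfl Lrfl
theorem f136040 : Led Lsl_dt (LP (LK LD1_c6 LD2_c10 LD3_c41)) = (LP (LK LD1_c4 LD2_c43 LD3_c8)) :=
  Lgr Lrot44 (Lpe (f105222 IH) (Lpe (f105474 IH) (Lpr_af (K6.f136036 IH) (Lpn (LP (LK LD1_c4 LD2_c43 LD3_c8))))))
theorem f105220 : Led Lsl_ct (LP (LK LD1_c3 LD2_c45 LD3_c31)) = (LP (LK LD1_c7 LD2_c31 LD3_c13)) :=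
  Lre_c IH (LK LD1_c3 LD2_c45 LD3_c31) (LK LD1_c7 LD2_c31 LD3_c13) Lrfl Lrfl
theorem f122269 : Led Lsl_cf (LP (LK LD1_c6 LD2_c10 LD3_c41)) = (LP (LK LD1_c3 LD2_c50 LD3_c4)) :=
  Lgr Lrot108 (Lpe (K3.f105218 IH) (Lpr_ct (f105220 IH) (Lpr_ft (K5.f122262 IH) (Lpn (LP (LK LD1_c3 LD2_c50 LD3_c4))))))
theorem f111139 : Led Lsl_dt (LP (LK LD1_c13 LD2_c18 LD3_c61)) = (LP (LK LD1_c7 LD2_c1 LD3_c13)) :=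
  Lre_d IH (LK LD1_c13 LD2_c18 LD3_c61) (LK LD1_c7 LD2_c1 LD3_c13) Lrfl Lrfl
theorem f136151 : Led Lsl_ct (LP (LK LD1_c9 LD2_c22 LD3_c19)) = (LP (LK LD1_c13 LD2_c18 LD3_c61)) :=
  Lgr Lrot53 (Lpe (f102981 IH) (Lpr_cf (K6.f136049 IH) (Lpe (f136040 IH) (Lpr_cf (f122269 IH) (Lpe (f122249 IH) (Lpe (K4.f111129 IH) (Lpr_at (K4.f111136 IH) (Lpe (f111138 IH) (Lpe (f111139 IH) (Lpn (LP (LK LD1_c13 LD2_c18 LD3_c61))))))))))))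
theorem f111162 : Led Lsl_dt (LP (LK LD1_c7 LD2_c1 LD3_c13)) = (LP (LK LD1_c13 LD2_c18 LD3_c61)) :=
  Lre_d IH (LK LD1_c7 LD2_c1 LD3_c13) (LK LD1_c13 LD2_c18 LD3_c61) Lrfl Lrfl
theorem f151378 : Led Lsl_gf (LP (LK LD1_c14 LD2_c6 LD3_c36)) = (LP (LK LD1_c13 LD2_c54 LD3_c30)) :=
  Lgr Lrot144 (Lpr_dt (f123639 IH) (Lpr_gt (f137044 IH) (Lpr_dt (f111162 IH) (Lpe (f136151 IH) (Lpe (f102981 IH) (Lpe (K6.f124521 IH) (Lpr_df (K6.f146724 IH) (Lpe (f151364 IH) (Lpr_cf (f151368 IH) (Lpn (LP (LK LD1_c13 LD2_c54 LD3_c30))))))))))))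
theorem f144812 : Led Lsl_af (LP (LK LD1_c7 LD2_c35 LD3_c34)) = (LP (LK LD1_c3 LD2_c49 LD3_c59)) :=
  Lgr Lrot68 (Lpr_ct (K5.f116663 IH) (Lpr_at (K6.f144808 IH) (Lpr_ct (K6.f123504 IH) (Lpn (LP (LK LD1_c3 LD2_c49 LD3_c59))))))
theorem f136712 : Led Lsl_dt (LP (LK LD1_c7 LD2_c40 LD3_c54)) = (LP (LK LD1_c3 LD2_c49 LD3_c59)) :=
  Lre_d IH (LK LD1_c7 LD2_c40 LD3_c54) (LK LD1_c3 LD2_c49 LD3_c59) Lrfl Lrfl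
theorem f144816 : Led Lsl_at (LP (LK LD1_c14 LD2_c18 LD3_c54)) = (LP (LK LD1_c7 LD2_c40 LD3_c54)) :=
  Lgr Lrot51 (Lpe (K5.f116690 IH) (Lpr_af (f144812 IH) (Lpe (f136712 IH) (Lpn (LP (LK LD1_c7 LD2_c40 LD3_c54))))))
theorem f144820 : Led Lsl_af (LP (LK LD1_c14 LD2_c18 LD3_c54)) = (LP (LK LD1_c7 LD2_c40 LD3_c54)) :=
  Lgr Lrot0 (Lpr_at (f144816 IH) (Lpn (LP (LK LD1_c7 LD2_c40 LD3_c54))))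
theorem f151380 : Led Lsl_ff (LP (LK LD1_c7 LD2_c40 LD3_c54)) = (LP (LK LD1_c13 LD2_c54 LD3_c30)) :=
  Lgr Lrot52 (Lpe (f144820 IH) (Lpe (f147836 IH) (Lpr_gf (f151378 IH) (Lpn (LP (LK LD1_c13 LD2_c54 LD3_c30))))))
theorem f151393 : Led Lsl_ft (LP (LK LD1_c7 LD2_c40 LD3_c54)) = (LP (LK LD1_c13 LD2_c54 LD3_c30)) :=
  Lgr Lrot48 (Lpr_ff (f151380 IH) (Lpn (LP (LK LD1_c13 LD2_c54 LD3_c30))))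
theorem f136713 : Led Lsl_dt (LP (LK LD1_c3 LD2_c49 LD3_c59)) = (LP (LK LD1_c7 LD2_c40 LD3_c54)) :=
  Lre_d IH (LK LD1_c3 LD2_c49 LD3_c59) (LK LD1_c7 LD2_c40 LD3_c54) Lrfl Lrfl
theorem f96388 : Led Lsl_ct (LP (LK LD1_c3 LD2_c49 LD3_c59)) = (LP (LK LD1_c1 LD2_c51 LD3_c58)) :=
  Lre_c IH (LK LD1_c3 LD2_c49 LD3_c59) (LK LD1_c1 LD2_c51 LD3_c58) Lrfl Lrfl
theorem f144839 : Led Lsl_ft (LP (LK LD1_c7 LD2_c35 LD3_c37)) = (LP (LK LD1_c3 LD2_c49 LD3_c59)) :=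
  Lgr Lrot4 (Lpe (K6.f114454 IH) (Lpr_ff (K6.f144835 IH) (Lpe (f96388 IH) (Lpn (LP (LK LD1_c3 LD2_c49 LD3_c59))))))
theorem f151395 : Led Lsl_df (LP (LK LD1_c7 LD2_c35 LD3_c37)) = (LP (LK LD1_c13 LD2_c54 LD3_c30)) :=
  Lgr Lrot78 (Lpr_ft (f144839 IH) (Lpr_dt (f136713 IH) (Lpr_ft (f151393 IH) (Lpn (LP (LK LD1_c13 LD2_c54 LD3_c30))))))
theorem f151371 : Led Lsl_ct (LP (LK LD1_c12 LD2_c42 LD3_c25)) = (LP (LK LD1_c13 LD2_c54 LD3_c30)) :=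
  Lgr Lrot59 (Lpr_cf (f151368 IH) (Lpn (LP (LK LD1_c13 LD2_c54 LD3_c30))))
theorem f87294 : Led Lsl_dt (LP (LK LD1_c6 LD2_c38 LD3_c23)) = (LP (LK LD1_c12 LD2_c42 LD3_c25)) :=
  Lre_d IH (LK LD1_c6 LD2_c38 LD3_c23) (LK LD1_c12 LD2_c42 LD3_c25) Lrfl Lrfl
theorem f93438 : Led Lsl_at (LP (LK LD1_c1 LD2_c35 LD3_c18)) = (LP (LK LD1_c3 LD2_c17 LD3_c29)) :=
  Lre_a IH (LK LD1_c1 LD2_c35 LD3_c18) (LK LD1_c3 LD2_c17 LD3_c29) Lrfl Lrfl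
theorem f93855 : Led Lsl_ft (LP (LK LD1_c0 LD2_c44 LD3_c17)) = (LP (LK LD1_c1 LD2_c34 LD3_c51)) :=
  Lgr Lrot54 (Lpe (K2.f62184 IH) (Lpr_ff (K4.f93853 IH) (Lpe (K3.f93444 IH) (Lpn (LP (LK LD1_c1 LD2_c34 LD3_c51))))))
theorem f93659 : Led Lsl_bt (LP (LK LD1_c1 LD2_c34 LD3_c51)) = (LP (LK LD1_c3 LD2_c16 LD3_c10)) :=
  Lre_b IH (LK LD1_c1 LD2_c34 LD3_c51) (LK LD1_c3 LD2_c16 LD3_c10) Lrfl Lrfl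
theorem f93857 : Led Lsl_ff (LP (LK LD1_c1 LD2_c35 LD3_c18)) = (LP (LK LD1_c3 LD2_c16 LD3_c10)) :=
  Lgr Lrot25 (Lpr_bt (K4.f62178 IH) (Lpr_ft (f93855 IH) (Lpr_bt (f93659 IH) (Lpn (LP (LK LD1_c3 LD2_c16 LD3_c10))))))
theorem f128830 : Led Lsl_at (LP (LK LD1_c6 LD2_c28 LD3_c40)) = (LP (LK LD1_c3 LD2_c16 LD3_c10)) :=
  Lgr Lrot66 (Lpr_ff (K5.f128821 IH) (Lpe (f93438 IH) (Lpr_ff (f93857 IH) (Lpn (LP (LK LD1_c3 LD2_c16 LD3_c10))))))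
theorem f144858 : Led Lsl_dt (LP (LK LD1_c3 LD2_c49 LD3_c56)) = (LP (LK LD1_c1 LD2_c51 LD3_c57)) :=
  Lre_d IH (LK LD1_c3 LD2_c49 LD3_c56) (LK LD1_c1 LD2_c51 LD3_c57) Lrfl Lrfl
theorem f144859 : Led Lsl_ft (LP (LK LD1_c3 LD2_c17 LD3_c30)) = (LP (LK LD1_c3 LD2_c49 LD3_c56)) :=
  Lgr Lrot54 (Lpe (K4.f116659 IH) (Lpr_ff (K6.f144852 IH) (Lpe (f144858 IH) (Lpn (LP (LK LD1_c3 LD2_c49 LD3_c56))))))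
theorem f96305 : Led Lsl_gt (LP (LK LD1_c7 LD2_c1 LD3_c22)) = (LP (LK LD1_c3 LD2_c29 LD3_c53)) :=
  Lre_g IH (LK LD1_c7 LD2_c1 LD3_c22) (LK LD1_c3 LD2_c29 LD3_c53) Lrfl Lrfl
theorem f146678 : Led Lsl_gf (LP (LK LD1_c7 LD2_c1 LD3_c22)) = (LP (LK LD1_c3 LD2_c51 LD3_c14)) :=
  Lgr Lrot47 (Lpr_gt (f96305 IH) (Lpe (K6.f130581 IH) (Lpr_ff (K6.f146673 IH) (Lpn (LP (LK LD1_c3 LD2_c51 LD3_c14))))))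
theorem f146701 : Led Lsl_at (LP (LK LD1_c3 LD2_c49 LD3_c56)) = (LP (LK LD1_c7 LD2_c1 LD3_c22)) :=
  Lgr Lrot26 (Lpe (f144859 IH) (Lpr_gt (K6.f146697 IH) (Lpe (f146678 IH) (Lpn (LP (LK LD1_c7 LD2_c1 LD3_c22))))))
theorem f148776 : Led Lsl_cf (LP (LK LD1_c6 LD2_c28 LD3_c40)) = (LP (LK LD1_c7 LD2_c1 LD3_c22)) :=
  Lgr Lrot1 (Lpr_at (f128830 IH) (Lpr_ct (f148762 IH) (Lpr_at (f146701 IH) (Lpn (LP (LK LD1_c7 LD2_c1 LD3_c22))))))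
theorem f151402 : Led Lsl_dt (LP (LK LD1_c3 LD2_c47 LD3_c23)) = (LP (LK LD1_c7 LD2_c1 LD3_c22)) :=
  Lgr Lrot173 (Lpe (K6.f114437 IH) (Lpr_df (f151395 IH) (Lpe (f151371 IH) (Lpe (f87294 IH) (Lpe (K5.f87176 IH) (Lpe (K5.f87382 IH) (Lpe (K4.f62179 IH) (Lpe (K4.f116659 IH) (Lpe (K5.f116663 IH) (Lpe (K5.f116664 IH) (Lpr_cf (K5.f128801 IH) (Lpe (K5.f128805 IH) (Lpe (K5.f120000 IH) (Lpe (K5.f128506 IH) (Lpr_cf (f148776 IH) (Lpn (LP (LK LD1_c7 LD2_c1 LD3_c22))))))))))))))))))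
theorem f122732 : Led Lsl_dt (LP (LK LD1_c3 LD2_c49 LD3_c60)) = (LP (LK LD1_c1 LD2_c51 LD3_c58)) :=
  Lre_d IH (LK LD1_c3 LD2_c49 LD3_c60) (LK LD1_c1 LD2_c51 LD3_c58) Lrfl Lrfl
theorem f151411 : Led Lsl_ff (LP (LK LD1_c3 LD2_c49 LD3_c60)) = (LP (LK LD1_c7 LD2_c1 LD3_c22)) :=
  Lgr Lrot19 (Lpr_dt (f122732 IH) (Lpe (K6.f144835 IH) (Lpr_dt (f151402 IH) (Lpn (LP (LK LD1_c7 LD2_c1 LD3_c22))))))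
theorem f151415 : Led Lsl_ft (LP (LK LD1_c3 LD2_c49 LD3_c60)) = (LP (LK LD1_c7 LD2_c1 LD3_c22)) :=
  Lgr Lrot48 (Lpr_ff (f151411 IH) (Lpn (LP (LK LD1_c7 LD2_c1 LD3_c22))))
theorem f144845 : Led Lsl_af (LP (LK LD1_c3 LD2_c47 LD3_c23)) = (LP (LK LD1_c1 LD2_c51 LD3_c57)) :=
  Lgr Lrot0 (Lpr_at (K6.f144842 IH) (Lpn (LP (LK LD1_c1 LD2_c51 LD3_c57))))
theorem f151404 : Led Lsl_af (LP (LK LD1_c3 LD2_c49 LD3_c56)) = (LP (LK LD1_c7 LD2_c1 LD3_c22)) :=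
  Lgr Lrot117 (Lpr_dt (f144858 IH) (Lpe (f144845 IH) (Lpr_dt (f151402 IH) (Lpn (LP (LK LD1_c7 LD2_c1 LD3_c22))))))
theorem f151419 : Led Lsl_gt (LP (LK LD1_c3 LD2_c49 LD3_c60)) = (LP (LK LD1_c1 LD2_c52 LD3_c28)) :=
  Lgr Lrot5 (Lpr_ft (f151415 IH) (Lpe (f151404 IH) (Lpe (f148755 IH) (Lpn (LP (LK LD1_c1 LD2_c52 LD3_c28))))))
theorem f151417 : Led Lsl_cf (LP (LK LD1_c3 LD2_c49 LD3_c60)) = (LP (LK LD1_c3 LD2_c17 LD3_c29)) :=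
  Lgr Lrot108 (Lpr_ft (f151415 IH) (Lpe (f148776 IH) (Lpr_ft (K5.f128810 IH) (Lpn (LP (LK LD1_c3 LD2_c17 LD3_c29))))))
theorem f93907 : Led Lsl_gt (LP (LK LD1_c6 LD2_c35 LD3_c38)) = (LP (LK LD1_c3 LD2_c16 LD3_c10)) :=
  Lre_g IH (LK LD1_c6 LD2_c35 LD3_c38) (LK LD1_c3 LD2_c16 LD3_c10) Lrfl Lrfl
theorem f128837 : Led Lsl_gf (LP (LK LD1_c6 LD2_c35 LD3_c38)) = (LP (LK LD1_c3 LD2_c17 LD3_c29)) :=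
  Lgr Lrot47 (Lpr_gt (f93907 IH) (Lpe (f128830 IH) (Lpr_ff (K5.f128821 IH) (Lpn (LP (LK LD1_c3 LD2_c17 LD3_c29))))))
theorem f146682 : Led Lsl_df (LP (LK LD1_c3 LD2_c15 LD3_c23)) = (LP (LK LD1_c1 LD2_c52 LD3_c28)) :=
  Lgr Lrot78 (Lpr_ft (K4.f115805 IH) (Lpr_dt (K6.f103647 IH) (Lpr_ft (K6.f146675 IH) (Lpn (LP (LK LD1_c1 LD2_c52 LD3_c28))))))
theorem f64402 : Led Lsl_ct (LP (LK LD1_c6 LD2_c10 LD3_c42)) = (LP (LK LD1_c3 LD2_c1 LD3_c59)) :=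
  Lre_c IH (LK LD1_c6 LD2_c10 LD3_c42) (LK LD1_c3 LD2_c1 LD3_c59) Lrfl Lrfl
theorem f61897 : Led Lsl_gt (LP (LK LD1_c3 LD2_c7 LD3_c34)) = (LP (LK LD1_c6 LD2_c19 LD3_c61)) :=
  Lre_g IH (LK LD1_c3 LD2_c7 LD3_c34) (LK LD1_c6 LD2_c19 LD3_c61) Lrfl Lrfl
theorem f136044 : Led Lsl_gf (LP (LK LD1_c6 LD2_c10 LD3_c43)) = (LP (LK LD1_c6 LD2_c19 LD3_c61)) :=
  Lgr Lrot76 (Lpr_af (K6.f136036 IH) (Lpe (K6.f136042 IH) (Lpr_gt (f61897 IH) (Lpn (LP (LK LD1_c6 LD2_c19 LD3_c61))))))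
theorem f151423 : Led Lsl_dt (LP (LK LD1_c6 LD2_c35 LD3_c38)) = (LP (LK LD1_c6 LD2_c19 LD3_c61)) :=
  Lgr Lrot115 (Lpr_gf (f128837 IH) (Lpe (f151417 IH) (Lpr_gt (f151419 IH) (Lpe (f146682 IH) (Lpr_gt (K4.f94533 IH) (Lpe (K6.f122283 IH) (Lpr_ct (f64402 IH) (Lpe (f105474 IH) (Lpr_gf (f136044 IH) (Lpn (LP (LK LD1_c6 LD2_c19 LD3_c61))))))))))))
theorem f151451 : Led Lsl_cf (LP (LK LD1_c3 LD2_c17 LD3_c29)) = (LP (LK LD1_c3 LD2_c49 LD3_c60)) :=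
  Lgr Lrot166 (Lpe (f128837 IH) (Lpr_dt (f151423 IH) (Lpe (f136044 IH) (Lpr_dt (f105474 IH) (Lpr_ct (K4.f58423 IH) (Lpr_df (K6.f122283 IH) (Lpe (K4.f94533 IH) (Lpr_df (f146682 IH) (Lpe (f151419 IH) (Lpn (LP (LK LD1_c3 LD2_c49 LD3_c60))))))))))))
theorem f128840 : Led Lsl_ct (LP (LK LD1_c12 LD2_c37 LD3_c15)) = (LP (LK LD1_c6 LD2_c35 LD3_c38)) :=
  Lre_c IH (LK LD1_c12 LD2_c37 LD3_c15) (LK LD1_c6 LD2_c35 LD3_c38) Lrfl Lrfl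
theorem f115644 : Led Lsl_at (LP (LK LD1_c3 LD2_c51 LD3_c14)) = (LP (LK LD1_c1 LD2_c52 LD3_c28)) :=
  Lre_a IH (LK LD1_c3 LD2_c51 LD3_c14) (LK LD1_c1 LD2_c52 LD3_c28) Lrfl Lrfl
theorem f151421 : Led Lsl_gf (LP (LK LD1_c3 LD2_c49 LD3_c60)) = (LP (LK LD1_c7 LD2_c1 LD3_c18)) :=
  Lgr Lrot47 (Lpr_gt (f151419 IH) (Lpe (f115644 IH) (Lpe (K6.f146669 IH) (Lpn (LP (LK LD1_c7 LD2_c1 LD3_c18))))))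
theorem f144949 : Led Lsl_bt (LP (LK LD1_c3 LD2_c14 LD3_c37)) = (LP (LK LD1_c3 LD2_c49 LD3_c56)) :=
  Lgr Lrot95 (Lpe (K5.f129908 IH) (Lpr_bf (K6.f144940 IH) (Lpe (f144858 IH) (Lpn (LP (LK LD1_c3 LD2_c49 LD3_c56))))))
theorem f129902 : Led Lsl_cf (LP (LK LD1_c3 LD2_c23 LD3_c19)) = (LP (LK LD1_c3 LD2_c14 LD3_c37)) :=
  Lgr Lrot11 (Lpr_ct (K5.f129898 IH) (Lpn (LP (LK LD1_c3 LD2_c14 LD3_c37))))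
theorem f148757 : Led Lsl_bf (LP (LK LD1_c7 LD2_c1 LD3_c18)) = (LP (LK LD1_c3 LD2_c51 LD3_c21)) :=
  Lgr Lrot34 (Lpr_gf (f148753 IH) (Lpe (f144949 IH) (Lpe (f129902 IH) (Lpr_gf (K3.f103184 IH) (Lpr_cf (K2.f78103 IH) (Lpe (K2.f78097 IH) (Lpe (K3.f92046 IH) (Lpr_ct (K3.f58944 IH) (Lpe (K5.f61821 IH) (Lpr_cf (K5.f130537 IH) (Lpn (LP (LK LD1_c3 LD2_c51 LD3_c21)))))))))))))
theorem f135838 : Led Lsl_gt (LP (LK LD1_c9 LD2_c28 LD3_c28)) = (LP (LK LD1_c5 LD2_c48 LD3_c6)) :=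
  Lgr Lrot46 (Lpe (K6.f113300 IH) (Lpr_ft (K6.f135830 IH) (Lpr_at (K6.f57249 IH) (Lpn (LP (LK LD1_c5 LD2_c48 LD3_c6))))))
theorem f151462 : Led Lsl_bt (LP (LK LD1_c12 LD2_c37 LD3_c15)) = (LP (LK LD1_c9 LD2_c28 LD3_c28)) :=
  Lgr Lrot22 (Lpr_ct (f128840 IH) (Lpr_gf (f128837 IH) (Lpr_cf (f151451 IH) (Lpr_gf (f151421 IH) (Lpr_bf (f148757 IH) (Lpe (K5.f130537 IH) (Lpr_gf (K6.f146484 IH) (Lpe (K6.f135840 IH) (Lpr_bt (K6.f57449 IH) (Lpe (f135838 IH) (Lpn (LP (LK LD1_c9 LD2_c28 LD3_c28)))))))))))))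
theorem f151466 : Led Lsl_bf (LP (LK LD1_c12 LD2_c37 LD3_c15)) = (LP (LK LD1_c9 LD2_c28 LD3_c28)) :=
  Lgr Lrot24 (Lpr_bt (f151462 IH) (Lpn (LP (LK LD1_c9 LD2_c28 LD3_c28))))
theorem f63807 : Led Lsl_bt (LP (LK LD1_c1 LD2_c50 LD3_c54)) = (LP (LK LD1_c0 LD2_c52 LD3_c20)) :=
  Lre_b IH (LK LD1_c1 LD2_c50 LD3_c54) (LK LD1_c0 LD2_c52 LD3_c20) Lrfl Lrfl
theorem f141608 : Led Lsl_gt (LP (LK LD1_c12 LD2_c40 LD3_c52)) = (LP (LK LD1_c6 LD2_c37 LD3_c35)) :=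
  Lre_g IH (LK LD1_c12 LD2_c40 LD3_c52) (LK LD1_c6 LD2_c37 LD3_c35) Lrfl Lrfl
theorem f75412 : Led Lsl_bt (LP (LK LD1_c1 LD2_c7 LD3_c57)) = (LP (LK LD1_c0 LD2_c38 LD3_c50)) :=
  Lre_b IH (LK LD1_c1 LD2_c7 LD3_c57) (LK LD1_c0 LD2_c38 LD3_c50) Lrfl Lrfl
theorem f77621 : Led Lsl_bt (LP (LK LD1_c2 LD2_c56 LD3_c30)) = (LP (LK LD1_c1 LD2_c24 LD3_c5)) :=
  Lre_b IH (LK LD1_c2 LD2_c56 LD3_c30) (LK LD1_c1 LD2_c24 LD3_c5) Lrfl Lrfl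
theorem f98891 : Led Lsl_ct (LP (LK LD1_c2 LD2_c56 LD3_c30)) = (LP (LK LD1_c6 LD2_c0 LD3_c30)) :=
  Lre_c IH (LK LD1_c2 LD2_c56 LD3_c30) (LK LD1_c6 LD2_c0 LD3_c30) Lrfl Lrfl
theorem f110548 : Led Lsl_gf (LP (LK LD1_c3 LD2_c7 LD3_c34)) = (LP (LK LD1_c6 LD2_c0 LD3_c30)) :=
  Lgr Lrot126 (Lpe (K6.f61896 IH) (Lpr_bt (K6.f61895 IH) (Lpr_gt (K4.f110524 IH) (Lpr_ct (K4.f13747 IH) (Lpr_gt (K4.f13746 IH) (Lpe (K0.f13713 IH) (Lpr_bt (f75412 IH) (Lpr_gt (K6.f56782 IH) (Lpe (f77621 IH) (Lpr_ct (f98891 IH) (Lpn (LP (LK LD1_c6 LD2_c0 LD3_c30)))))))))))))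
theorem f110550 : Led Lsl_gt (LP (LK LD1_c6 LD2_c10 LD3_c43)) = (LP (LK LD1_c6 LD2_c0 LD3_c30)) :=
  Lgr Lrot5 (Lpe (K6.f105315 IH) (Lpe (K4.f105471 IH) (Lpr_gf (f110548 IH) (Lpn (LP (LK LD1_c6 LD2_c0 LD3_c30))))))
theorem f75371 : Led Lsl_bt (LP (LK LD1_c4 LD2_c45 LD3_c18)) = (LP (LK LD1_c2 LD2_c21 LD3_c16)) :=
  Lre_b IH (LK LD1_c4 LD2_c45 LD3_c18) (LK LD1_c2 LD2_c21 LD3_c16) Lrfl Lrfl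
theorem f14017 : Led Lsl_ct (LP (LK LD1_c4 LD2_c45 LD3_c18)) = (LP (LK LD1_c3 LD2_c16 LD3_c15)) :=
  Lre_c IH (LK LD1_c4 LD2_c45 LD3_c18) (LK LD1_c3 LD2_c16 LD3_c15) Lrfl Lrfl
theorem f136002 : Led Lsl_gt (LP (LK LD1_c12 LD2_c14 LD3_c38)) = (LP (LK LD1_c9 LD2_c23 LD3_c50)) :=
  Lgr Lrot82 (Lpr_bf (f98885 IH) (Lpr_ct (f40580 IH) (Lpe (f98890 IH) (Lpe (f14017 IH) (Lpr_bt (f75371 IH) (Lpe (K2.f72712 IH) (Lpe (f77621 IH) (Lpr_ct (f98891 IH) (Lpe (f110550 IH) (Lpr_cf (K6.f135995 IH) (Lpn (LP (LK LD1_c9 LD2_c23 LD3_c50)))))))))))))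
theorem f14146 : Led Lsl_gt (LP (LK LD1_c9 LD2_c21 LD3_c42)) = (LP (LK LD1_c4 LD2_c45 LD3_c18)) :=
  Lre_g IH (LK LD1_c9 LD2_c21 LD3_c42) (LK LD1_c4 LD2_c45 LD3_c18) Lrfl Lrfl
theorem f103535 : Led Lsl_gt (LP (LK LD1_c6 LD2_c43 LD3_c20)) = (LP (LK LD1_c3 LD2_c19 LD3_c46)) :=
  Lre_g IH (LK LD1_c6 LD2_c43 LD3_c20) (LK LD1_c3 LD2_c19 LD3_c46) Lrfl Lrfl
theorem f120304 : Led Lsl_ct (LP (LK LD1_c12 LD2_c51 LD3_c34)) = (LP (LK LD1_c6 LD2_c43 LD3_c20)) :=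
  Lre_c IH (LK LD1_c12 LD2_c51 LD3_c34) (LK LD1_c6 LD2_c43 LD3_c20) Lrfl Lrfl
theorem f78650 : Led Lsl_bt (LP (LK LD1_c4 LD2_c45 LD3_c36)) = (LP (LK LD1_c2 LD2_c20 LD3_c54)) :=
  Lre_b IH (LK LD1_c4 LD2_c45 LD3_c36) (LK LD1_c2 LD2_c20 LD3_c54) Lrfl Lrfl
theorem f40577 : Led Lsl_gt (LP (LK LD1_c4 LD2_c44 LD3_c28)) = (LP (LK LD1_c9 LD2_c21 LD3_c42)) :=
  Lre_g IH (LK LD1_c4 LD2_c44 LD3_c28) (LK LD1_c9 LD2_c21 LD3_c42) Lrfl Lrfl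
theorem f120630 : Led Lsl_bt (LP (LK LD1_c12 LD2_c51 LD3_c34)) = (LP (LK LD1_c9 LD2_c21 LD3_c42)) :=
  Lgr Lrot92 (Lpr_ct (f120304 IH) (Lpr_gt (f103535 IH) (Lpr_cf (K4.f120622 IH) (Lpr_bt (f78650 IH) (Lpr_gt (K3.f13804 IH) (Lpr_ct (K3.f13803 IH) (Lpr_gt (K3.f13802 IH) (Lpe (K0.f13774 IH) (Lpr_bt (K6.f13777 IH) (Lpr_gt (f40577 IH) (Lpn (LP (LK LD1_c9 LD2_c21 LD3_c42)))))))))))))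
theorem f135973 : Led Lsl_ct (LP (LK LD1_c6 LD2_c0 LD3_c8)) = (LP (LK LD1_c3 LD2_c29 LD3_c40)) :=
  Lgr Lrot59 (Lpr_cf (K6.f135968 IH) (Lpn (LP (LK LD1_c3 LD2_c29 LD3_c40))))
theorem f136004 : Led Lsl_gf (LP (LK LD1_c6 LD2_c43 LD3_c20)) = (LP (LK LD1_c3 LD2_c29 LD3_c40)) :=
  Lgr Lrot126 (Lpe (f120304 IH) (Lpr_bt (f120630 IH) (Lpr_gt (f14146 IH) (Lpr_ct (f14017 IH) (Lpr_gt (f98890 IH) (Lpe (f40580 IH) (Lpe (f98885 IH) (Lpr_gt (f136002 IH) (Lpe (K6.f135991 IH) (Lpr_ct (f135973 IH) (Lpn (LP (LK LD1_c3 LD2_c29 LD3_c40)))))))))))))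
theorem f103536 : Led Lsl_bt (LP (LK LD1_c12 LD2_c51 LD3_c33)) = (LP (LK LD1_c6 LD2_c43 LD3_c20)) :=
  Lre_b IH (LK LD1_c12 LD2_c51 LD3_c33) (LK LD1_c6 LD2_c43 LD3_c20) Lrfl Lrfl
theorem f141609 : Led Lsl_ct (LP (LK LD1_c12 LD2_c51 LD3_c33)) = (LP (LK LD1_c12 LD2_c40 LD3_c52)) :=
  Lgr Lrot64 (Lpr_bt (f103536 IH) (Lpr_gf (f136004 IH) (Lpe (K3.f65051 IH) (Lpe (K3.f65052 IH) (Lpr_gf (K3.f63805 IH) (Lpe (K3.f63734 IH) (Lpr_gf (K1.f65003 IH) (Lpe (K6.f65013 IH) (Lpr_ct (K6.f141597 IH) (Lpe (f141608 IH) (Lpn (LP (LK LD1_c12 LD2_c40 LD3_c52)))))))))))))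
theorem f151468 : Led Lsl_gt (LP (LK LD1_c12 LD2_c37 LD3_c15)) = (LP (LK LD1_c12 LD2_c51 LD3_c33)) :=
  Lgr Lrot82 (Lpr_bf (f151466 IH) (Lpr_ct (K6.f135805 IH) (Lpe (K6.f16084 IH) (Lpe (K0.f16067 IH) (Lpr_bt (f63807 IH) (Lpr_gf (K1.f65003 IH) (Lpe (K6.f65013 IH) (Lpr_ct (K6.f141597 IH) (Lpe (f141608 IH) (Lpe (f141609 IH) (Lpn (LP (LK LD1_c12 LD2_c51 LD3_c33)))))))))))))
theorem f151472 : Led Lsl_df (LP (LK LD1_c12 LD2_c37 LD3_c15)) = (LP (LK LD1_c6 LD2_c53 LD3_c5)) :=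
  Lgr Lrot155 (Lpr_gt (f151468 IH) (Lpr_ct (f141609 IH) (Lpr_gt (f141608 IH) (Lpe (f141561 IH) (Lpr_dt (K6.f111229 IH) (Lpe (K6.f63505 IH) (Lpe (K4.f122071 IH) (Lpr_cf (K4.f122061 IH) (Lpe (K4.f122087 IH) (Lpn (LP (LK LD1_c6 LD2_c53 LD3_c5))))))))))))
theorem f128839 : Led Lsl_ct (LP (LK LD1_c6 LD2_c35 LD3_c38)) = (LP (LK LD1_c12 LD2_c37 LD3_c15)) :=
  Lre_c IH (LK LD1_c6 LD2_c35 LD3_c38) (LK LD1_c12 LD2_c37 LD3_c15) Lrfl Lrfl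
theorem f147793 : Led Lsl_ct (LP (LK LD1_c6 LD2_c34 LD3_c6)) = (LP (LK LD1_c7 LD2_c26 LD3_c30)) :=
  Lgr Lrot59 (Lpr_cf (f147782 IH) (Lpn (LP (LK LD1_c7 LD2_c26 LD3_c30))))
theorem f151481 : Led Lsl_gt (LP (LK LD1_c7 LD2_c26 LD3_c30)) = (LP (LK LD1_c7 LD2_c22 LD3_c42)) :=
  Lgr Lrot150 (Lpe (f147793 IH) (Lpr_gf (K4.f115816 IH) (Lpe (f115819 IH) (Lpe (f151421 IH) (Lpe (f151451 IH) (Lpe (f128837 IH) (Lpr_ct (f128839 IH) (Lpr_df (f151472 IH) (Lpr_cf (K4.f122109 IH) (Lpn (LP (LK LD1_c7 LD2_c22 LD3_c42))))))))))))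
theorem f115874 : Led Lsl_bt (LP (LK LD1_c3 LD2_c25 LD3_c40)) = (LP (LK LD1_c6 LD2_c53 LD3_c14)) :=
  Lre_b IH (LK LD1_c3 LD2_c25 LD3_c40) (LK LD1_c6 LD2_c53 LD3_c14) Lrfl Lrfl
theorem f122093 : Led Lsl_bt (LP (LK LD1_c6 LD2_c53 LD3_c5)) = (LP (LK LD1_c7 LD2_c32 LD3_c26)) :=
  Lgr Lrot127 (Lpr_bf (K4.f122089 IH) (Lpn (LP (LK LD1_c7 LD2_c32 LD3_c26))))
theorem f151485 : Led Lsl_gf (LP (LK LD1_c6 LD2_c53 LD3_c14)) = (LP (LK LD1_c7 LD2_c32 LD3_c26)) :=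
  Lgr Lrot124 (Lpe (f115874 IH) (Lpr_ct (K4.f115867 IH) (Lpr_gt (K4.f103761 IH) (Lpe (K4.f65934 IH) (Lpe (K4.f115857 IH) (Lpe (K4.f115816 IH) (Lpr_ct (f147793 IH) (Lpr_gt (f151481 IH) (Lpe (K4.f122095 IH) (Lpr_bt (f122093 IH) (Lpn (LP (LK LD1_c7 LD2_c32 LD3_c26)))))))))))))
theorem f24190 : Led Lsl_at (LP (LK LD1_c3 LD2_c14 LD3_c50)) = (LP (LK LD1_c1 LD2_c34 LD3_c4)) :=
  Lre_a IH (LK LD1_c3 LD2_c14 LD3_c50) (LK LD1_c1 LD2_c34 LD3_c4) Lrfl Lrfl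
theorem f58783 : Led Lsl_ff (LP (LK LD1_c3 LD2_c14 LD3_c50)) = (LP (LK LD1_c1 LD2_c50 LD3_c1)) :=
  Lgr Lrot52 (Lpr_at (f24190 IH) (Lpr_gf (K3.f58780 IH) (Lpe (K3.f58782 IH) (Lpn (LP (LK LD1_c1 LD2_c50 LD3_c1))))))
theorem f58802 : Led Lsl_ft (LP (LK LD1_c3 LD2_c14 LD3_c50)) = (LP (LK LD1_c1 LD2_c50 LD3_c1)) :=
  Lgr Lrot48 (Lpr_ff (f58783 IH) (Lpn (LP (LK LD1_c1 LD2_c50 LD3_c1))))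
theorem f24191 : Led Lsl_bt (LP (LK LD1_c6 LD2_c33 LD3_c9)) = (LP (LK LD1_c3 LD2_c14 LD3_c50)) :=
  Lre_b IH (LK LD1_c6 LD2_c33 LD3_c9) (LK LD1_c3 LD2_c14 LD3_c50) Lrfl Lrfl
theorem f58805 : Led Lsl_ff (LP (LK LD1_c6 LD2_c33 LD3_c9)) = (LP (LK LD1_c3 LD2_c45 LD3_c52)) :=
  Lgr Lrot25 (Lpr_bt (f24191 IH) (Lpr_ft (f58802 IH) (Lpr_bt (K4.f58804 IH) (Lpn (LP (LK LD1_c3 LD2_c45 LD3_c52))))))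
theorem f151487 : Led Lsl_af (LP (LK LD1_c6 LD2_c53 LD3_c14)) = (LP (LK LD1_c6 LD2_c33 LD3_c9)) :=
  Lgr Lrot31 (Lpr_gf (f151485 IH) (Lpe (K4.f58837 IH) (Lpe (f58805 IH) (Lpn (LP (LK LD1_c6 LD2_c33 LD3_c9))))))
theorem f151495 : Led Lsl_et (LP (LK LD1_c6 LD2_c53 LD3_c14)) = (LP (LK LD1_c13 LD2_c5 LD3_c25)) :=
  Lre_e IH (LK LD1_c6 LD2_c53 LD3_c14) (LK LD1_c13 LD2_c5 LD3_c25) Lrfl Lrfl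
theorem f58833 : Led Lsl_et (LP (LK LD1_c12 LD2_c33 LD3_c37)) = (LP (LK LD1_c6 LD2_c33 LD3_c9)) :=
  Lre_e IH (LK LD1_c12 LD2_c33 LD3_c37) (LK LD1_c6 LD2_c33 LD3_c9) Lrfl Lrfl
theorem f151496 : Led Lsl_at (LP (LK LD1_c13 LD2_c5 LD3_c25)) = (LP (LK LD1_c12 LD2_c33 LD3_c37)) :=
  Lgr Lrot80 (Lpe (f151495 IH) (Lpr_af (f151487 IH) (Lpe (f58833 IH) (Lpn (LP (LK LD1_c12 LD2_c33 LD3_c37))))))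
theorem f151500 : Led Lsl_ft (LP (LK LD1_c22 LD2_c16 LD3_c12)) = (LP (LK LD1_c13 LD2_c5 LD3_c25)) :=
  Lre_f IH (LK LD1_c22 LD2_c16 LD3_c12) (LK LD1_c13 LD2_c5 LD3_c25) Lrfl Lrfl
theorem f58826 : Led Lsl_ft (LP (LK LD1_c12 LD2_c33 LD3_c37)) = (LP (LK LD1_c21 LD2_c39 LD3_c56)) :=
  Lre_f IH (LK LD1_c12 LD2_c33 LD3_c37) (LK LD1_c21 LD2_c39 LD3_c56) Lrfl Lrfl
theorem f151516 : Led Lsl_af (LP (LK LD1_c22 LD2_c16 LD3_c12)) = (LP (LK LD1_c21 LD2_c39 LD3_c56)) :=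
  Lgr Lrot45 (Lpr_ft (f151500 IH) (Lpr_at (f151496 IH) (Lpr_ft (f58826 IH) (Lpn (LP (LK LD1_c21 LD2_c39 LD3_c56))))))
theorem f151520 : Led Lsl_bt (LP (LK LD1_c22 LD2_c16 LD3_c12)) = (LP (LK LD1_c13 LD2_c5 LD3_c28)) :=
  Lre_b IH (LK LD1_c22 LD2_c16 LD3_c12) (LK LD1_c13 LD2_c5 LD3_c28) Lrfl Lrfl
theorem f24171 : Led Lsl_bt (LP (LK LD1_c12 LD2_c33 LD3_c39)) = (LP (LK LD1_c21 LD2_c39 LD3_c56)) :=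
  Lre_b IH (LK LD1_c12 LD2_c33 LD3_c39) (LK LD1_c21 LD2_c39 LD3_c56) Lrfl Lrfl
theorem f24170 : Led Lsl_at (LP (LK LD1_c6 LD2_c33 LD3_c36)) = (LP (LK LD1_c12 LD2_c33 LD3_c39)) :=
  Lre_a IH (LK LD1_c6 LD2_c33 LD3_c36) (LK LD1_c12 LD2_c33 LD3_c39) Lrfl Lrfl
theorem f24152 : Led Lsl_et (LP (LK LD1_c5 LD2_c51 LD3_c24)) = (LP (LK LD1_c2 LD2_c51 LD3_c58)) :=
  Lre_e IH (LK LD1_c5 LD2_c51 LD3_c24) (LK LD1_c2 LD2_c51 LD3_c58) Lrfl Lrfl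
theorem f24153 : Led Lsl_et (LP (LK LD1_c1 LD2_c34 LD3_c4)) = (LP (LK LD1_c3 LD2_c15 LD3_c4)) :=
  Lre_e IH (LK LD1_c1 LD2_c34 LD3_c4) (LK LD1_c3 LD2_c15 LD3_c4) Lrfl Lrfl
theorem f24154 : Led Lsl_bf (LP (LK LD1_c5 LD2_c51 LD3_c24)) = (LP (LK LD1_c3 LD2_c15 LD3_c4)) :=
  Lgr Lrot96 (Lpr_et (f24152 IH) (Lpr_bt (K4.f24137 IH) (Lpr_et (f24153 IH) (Lpn (LP (LK LD1_c3 LD2_c15 LD3_c4))))))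
theorem f24162 : Led Lsl_ft (LP (LK LD1_c5 LD2_c51 LD3_c24)) = (LP (LK LD1_c11 LD2_c30 LD3_c14)) :=
  Lre_f IH (LK LD1_c5 LD2_c51 LD3_c24) (LK LD1_c11 LD2_c30 LD3_c14) Lrfl Lrfl
theorem f24163 : Led Lsl_ft (LP (LK LD1_c6 LD2_c33 LD3_c36)) = (LP (LK LD1_c3 LD2_c15 LD3_c4)) :=
  Lre_f IH (LK LD1_c6 LD2_c33 LD3_c36) (LK LD1_c3 LD2_c15 LD3_c4) Lrfl Lrfl
theorem f24164 : Led Lsl_bt (LP (LK LD1_c11 LD2_c30 LD3_c14)) = (LP (LK LD1_c6 LD2_c33 LD3_c36)) :=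
  Lgr Lrot35 (Lpe (f24162 IH) (Lpr_bf (f24154 IH) (Lpe (f24163 IH) (Lpn (LP (LK LD1_c6 LD2_c33 LD3_c36))))))
theorem f151521 : Led Lsl_at (LP (LK LD1_c13 LD2_c5 LD3_c28)) = (LP (LK LD1_c11 LD2_c30 LD3_c14)) :=
  Lgr Lrot67 (Lpe (f151520 IH) (Lpr_af (f151516 IH) (Lpe (f24171 IH) (Lpe (f24170 IH) (Lpe (f24164 IH) (Lpn (LP (LK LD1_c11 LD2_c30 LD3_c14))))))))
theorem f151523 : Led Lsl_af (LP (LK LD1_c13 LD2_c5 LD3_c28)) = (LP (LK LD1_c11 LD2_c30 LD3_c14)) :=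
  Lgr Lrot0 (Lpr_at (f151521 IH) (Lpn (LP (LK LD1_c11 LD2_c30 LD3_c14))))
theorem f115886 : Led Lsl_ft (LP (LK LD1_c13 LD2_c5 LD3_c28)) = (LP (LK LD1_c6 LD2_c53 LD3_c15)) :=
  Lre_f IH (LK LD1_c13 LD2_c5 LD3_c28) (LK LD1_c6 LD2_c53 LD3_c15) Lrfl Lrfl
theorem f151526 : Led Lsl_at (LP (LK LD1_c6 LD2_c53 LD3_c15)) = (LP (LK LD1_c5 LD2_c51 LD3_c24)) :=
  Lgr Lrot66 (Lpe (f115886 IH) (Lpr_af (f151523 IH) (Lpe (f24162 IH) (Lpn (LP (LK LD1_c5 LD2_c51 LD3_c24))))))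
theorem f115885 : Led Lsl_et (LP (LK LD1_c3 LD2_c25 LD3_c40)) = (LP (LK LD1_c6 LD2_c53 LD3_c15)) :=
  Lre_e IH (LK LD1_c3 LD2_c25 LD3_c40) (LK LD1_c6 LD2_c53 LD3_c15) Lrfl Lrfl
theorem f151533 : Led Lsl_af (LP (LK LD1_c3 LD2_c25 LD3_c40)) = (LP (LK LD1_c2 LD2_c51 LD3_c58)) :=
  Lgr Lrot50 (Lpr_et (f115885 IH) (Lpr_at (f151526 IH) (Lpr_et (f24152 IH) (Lpn (LP (LK LD1_c2 LD2_c51 LD3_c58))))))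
theorem f151541 : Led Lsl_ft (LP (LK LD1_c3 LD2_c25 LD3_c39)) = (LP (LK LD1_c2 LD2_c51 LD3_c58)) :=
  Lgr Lrot2 (Lpr_gt (K4.f103761 IH) (Lpe (K4.f103755 IH) (Lpr_af (f151533 IH) (Lpn (LP (LK LD1_c2 LD2_c51 LD3_c58))))))
theorem f151549 : Led Lsl_ff (LP (LK LD1_c3 LD2_c25 LD3_c39)) = (LP (LK LD1_c2 LD2_c51 LD3_c58)) :=
  Lgr Lrot3 (Lpr_ft (f151541 IH) (Lpn (LP (LK LD1_c2 LD2_c51 LD3_c58))))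
theorem f20402 : Led Lsl_dt (LP (LK LD1_c0 LD2_c29 LD3_c27)) = (LP (LK LD1_c1 LD2_c4 LD3_c23)) :=
  Lre_d IH (LK LD1_c0 LD2_c29 LD3_c27) (LK LD1_c1 LD2_c4 LD3_c23) Lrfl Lrfl
theorem f146482 : Led Lsl_gf (LP (LK LD1_c3 LD2_c25 LD3_c42)) = (LP (LK LD1_c2 LD2_c50 LD3_c5)) :=
  Lgr Lrot76 (Lpr_af (K5.f130153 IH) (Lpe (K5.f130214 IH) (Lpr_gt (K6.f146480 IH) (Lpn (LP (LK LD1_c2 LD2_c50 LD3_c5))))))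
theorem f146490 : Led Lsl_df (LP (LK LD1_c2 LD2_c14 LD3_c32)) = (LP (LK LD1_c3 LD2_c25 LD3_c39)) :=
  Lgr Lrot84 (Lpe (K6.f20403 IH) (Lpe (f20402 IH) (Lpe (K2.f20406 IH) (Lpe (K5.f130546 IH) (Lpr_gf (K6.f146484 IH) (Lpe (K6.f135840 IH) (Lpe (f146482 IH) (Lpr_dt (K5.f95244 IH) (Lpr_gt (K4.f20204 IH) (Lpn (LP (LK LD1_c3 LD2_c25 LD3_c39))))))))))))
theorem f151555 : Led Lsl_ft (LP (LK LD1_c2 LD2_c14 LD3_c32)) = (LP (LK LD1_c1 LD2_c21 LD3_c61)) :=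
  Lgr Lrot54 (Lpr_df (f146490 IH) (Lpr_ff (f151549 IH) (Lpe (K4.f8357 IH) (Lpn (LP (LK LD1_c1 LD2_c21 LD3_c61))))))
theorem f8377 : Led Lsl_at (LP (LK LD1_c1 LD2_c21 LD3_c61)) = (LP (LK LD1_c2 LD2_c51 LD3_c48)) :=
  Lre_a IH (LK LD1_c1 LD2_c21 LD3_c61) (LK LD1_c2 LD2_c51 LD3_c48) Lrfl Lrfl
theorem f151563 : Led Lsl_gt (LP (LK LD1_c4 LD2_c34 LD3_c52)) = (LP (LK LD1_c2 LD2_c51 LD3_c48)) :=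
  Lgr Lrot46 (Lpe (K6.f25296 IH) (Lpr_ft (f151555 IH) (Lpr_at (f8377 IH) (Lpn (LP (LK LD1_c2 LD2_c51 LD3_c48))))))
theorem f8376 : Led Lsl_ct (LP (LK LD1_c2 LD2_c51 LD3_c48)) = (LP (LK LD1_c1 LD2_c21 LD3_c58)) :=
  Lre_c IH (LK LD1_c2 LD2_c51 LD3_c48) (LK LD1_c1 LD2_c21 LD3_c58) Lrfl Lrfl
theorem f151569 : Led Lsl_gf (LP (LK LD1_c1 LD2_c21 LD3_c4)) = (LP (LK LD1_c1 LD2_c21 LD3_c58)) :=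
  Lgr Lrot104 (Lpr_ct (K4.f100280 IH) (Lpr_df (K4.f117287 IH) (Lpe (K6.f15208 IH) (Lpe (K6.f132312 IH) (Lpr_cf (K6.f64335 IH) (Lpr_gf (K6.f136922 IH) (Lpe (K6.f137230 IH) (Lpr_gt (f151563 IH) (Lpr_ct (f8376 IH) (Lpn (LP (LK LD1_c1 LD2_c21 LD3_c58))))))))))))
theorem f100338 : Led Lsl_at (LP (LK LD1_c2 LD2_c14 LD3_c30)) = (LP (LK LD1_c1 LD2_c4 LD3_c23)) :=
  Lre_a IH (LK LD1_c2 LD2_c14 LD3_c30) (LK LD1_c1 LD2_c4 LD3_c23) Lrfl Lrfl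
theorem f151573 : Led Lsl_ff (LP (LK LD1_c2 LD2_c14 LD3_c30)) = (LP (LK LD1_c1 LD2_c21 LD3_c58)) :=
  Lgr Lrot52 (Lpr_at (f100338 IH) (Lpe (K6.f100335 IH) (Lpr_gf (f151569 IH) (Lpn (LP (LK LD1_c1 LD2_c21 LD3_c58))))))
theorem f151661 : Led Lsl_ft (LP (LK LD1_c2 LD2_c14 LD3_c30)) = (LP (LK LD1_c1 LD2_c21 LD3_c58)) :=
  Lgr Lrot48 (Lpr_ff (f151573 IH) (Lpn (LP (LK LD1_c1 LD2_c21 LD3_c58))))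
theorem f20374 : Led Lsl_dt (LP (LK LD1_c2 LD2_c14 LD3_c30)) = (LP (LK LD1_c1 LD2_c4 LD3_c22)) :=
  Lre_d IH (LK LD1_c2 LD2_c14 LD3_c30) (LK LD1_c1 LD2_c4 LD3_c22) Lrfl Lrfl
theorem f20303 : Led Lsl_et (LP (LK LD1_c0 LD2_c5 LD3_c56)) = (LP (LK LD1_c0 LD2_c12 LD3_c61)) :=
  Lre_e IH (LK LD1_c0 LD2_c5 LD3_c56) (LK LD1_c0 LD2_c12 LD3_c61) Lrfl Lrfl
theorem f9401 : Led Lsl_et (LP (LK LD1_c0 LD2_c12 LD3_c61)) = (LP (LK LD1_c0 LD2_c5 LD3_c56)) :=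
  Lre_e IH (LK LD1_c0 LD2_c12 LD3_c61) (LK LD1_c0 LD2_c5 LD3_c56) Lrfl Lrfl
theorem f20304 : Led Lsl_bt (LP (LK LD1_c0 LD2_c12 LD3_c61)) = (LP (LK LD1_c0 LD2_c12 LD3_c61)) :=
  Lgr Lrot119 (Lpe (f20303 IH) (Lpr_bf (K2.f20286 IH) (Lpe (f9401 IH) (Lpn (LP (LK LD1_c0 LD2_c12 LD3_c61))))))
theorem f20316 : Led Lsl_ft (LP (LK LD1_c0 LD2_c29 LD3_c32)) = (LP (LK LD1_c0 LD2_c12 LD3_c61)) :=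
  Lre_f IH (LK LD1_c0 LD2_c29 LD3_c32) (LK LD1_c0 LD2_c12 LD3_c61) Lrfl Lrfl
theorem f20317 : Led Lsl_ft (LP (LK LD1_c0 LD2_c12 LD3_c61)) = (LP (LK LD1_c0 LD2_c29 LD3_c32)) :=
  Lre_f IH (LK LD1_c0 LD2_c12 LD3_c61) (LK LD1_c0 LD2_c29 LD3_c32) Lrfl Lrfl
theorem f20318 : Led Lsl_bf (LP (LK LD1_c0 LD2_c29 LD3_c32)) = (LP (LK LD1_c0 LD2_c29 LD3_c32)) :=
  Lgr Lrot61 (Lpr_ft (f20316 IH) (Lpr_bt (f20304 IH) (Lpr_ft (f20317 IH) (Lpn (LP (LK LD1_c0 LD2_c29 LD3_c32))))))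
theorem f20326 : Led Lsl_ct (LP (LK LD1_c0 LD2_c29 LD3_c32)) = (LP (LK LD1_c1 LD2_c4 LD3_c29)) :=
  Lre_c IH (LK LD1_c0 LD2_c29 LD3_c32) (LK LD1_c1 LD2_c4 LD3_c29) Lrfl Lrfl
theorem f20327 : Led Lsl_bt (LP (LK LD1_c1 LD2_c4 LD3_c29)) = (LP (LK LD1_c2 LD2_c14 LD3_c36)) :=
  Lre_b IH (LK LD1_c1 LD2_c4 LD3_c29) (LK LD1_c2 LD2_c14 LD3_c36) Lrfl Lrfl
theorem f20328 : Led Lsl_ct (LP (LK LD1_c1 LD2_c4 LD3_c29)) = (LP (LK LD1_c0 LD2_c29 LD3_c32)) :=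
  Lre_c IH (LK LD1_c1 LD2_c4 LD3_c29) (LK LD1_c0 LD2_c29 LD3_c32) Lrfl Lrfl
theorem f20329 : Led Lsl_bt (LP (LK LD1_c2 LD2_c14 LD3_c36)) = (LP (LK LD1_c1 LD2_c4 LD3_c29)) :=
  Lre_b IH (LK LD1_c2 LD2_c14 LD3_c36) (LK LD1_c1 LD2_c4 LD3_c29) Lrfl Lrfl
theorem f20330 : Led Lsl_ct (LP (LK LD1_c2 LD2_c14 LD3_c36)) = (LP (LK LD1_c2 LD2_c14 LD3_c36)) :=
  Lgr Lrot83 (Lpe (f20327 IH) (Lpe (f20326 IH) (Lpr_bf (f20318 IH) (Lpe (f20328 IH) (Lpe (f20329 IH) (Lpn (LP (LK LD1_c2 LD2_c14 LD3_c36))))))))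
theorem f20333 : Led Lsl_dt (LP (LK LD1_c4 LD2_c35 LD3_c1)) = (LP (LK LD1_c2 LD2_c14 LD3_c36)) :=
  Lre_d IH (LK LD1_c4 LD2_c35 LD3_c1) (LK LD1_c2 LD2_c14 LD3_c36) Lrfl Lrfl
theorem f20341 : Led Lsl_ft (LP (LK LD1_c4 LD2_c35 LD3_c1)) = (LP (LK LD1_c2 LD2_c14 LD3_c35)) :=
  Lre_f IH (LK LD1_c4 LD2_c35 LD3_c1) (LK LD1_c2 LD2_c14 LD3_c35) Lrfl Lrfl
theorem f20342 : Led Lsl_at (LP (LK LD1_c2 LD2_c14 LD3_c35)) = (LP (LK LD1_c4 LD2_c34 LD3_c51)) :=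
  Lre_a IH (LK LD1_c2 LD2_c14 LD3_c35) (LK LD1_c4 LD2_c34 LD3_c51) Lrfl Lrfl
theorem f20343 : Led Lsl_ct (LP (LK LD1_c9 LD2_c6 LD3_c21)) = (LP (LK LD1_c4 LD2_c34 LD3_c51)) :=
  Lre_c IH (LK LD1_c9 LD2_c6 LD3_c21) (LK LD1_c4 LD2_c34 LD3_c51) Lrfl Lrfl
theorem f20344 : Led Lsl_dt (LP (LK LD1_c16 LD2_c58 LD3_c9)) = (LP (LK LD1_c9 LD2_c6 LD3_c21)) :=
  Lre_d IH (LK LD1_c16 LD2_c58 LD3_c9) (LK LD1_c9 LD2_c6 LD3_c21) Lrfl Lrfl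
theorem f20336 : Led Lsl_dt (LP (LK LD1_c2 LD2_c14 LD3_c36)) = (LP (LK LD1_c4 LD2_c35 LD3_c1)) :=
  Lre_d IH (LK LD1_c2 LD2_c14 LD3_c36) (LK LD1_c4 LD2_c35 LD3_c1) Lrfl Lrfl
theorem f20337 : Led Lsl_ct (LP (LK LD1_c4 LD2_c35 LD3_c1)) = (LP (LK LD1_c9 LD2_c6 LD3_c50)) :=
  Lre_c IH (LK LD1_c4 LD2_c35 LD3_c1) (LK LD1_c9 LD2_c6 LD3_c50) Lrfl Lrfl
theorem f20338 : Led Lsl_dt (LP (LK LD1_c9 LD2_c6 LD3_c50)) = (LP (LK LD1_c16 LD2_c58 LD3_c61)) :=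
  Lre_d IH (LK LD1_c9 LD2_c6 LD3_c50) (LK LD1_c16 LD2_c58 LD3_c61) Lrfl Lrfl
theorem f20345 : Led Lsl_cf (LP (LK LD1_c16 LD2_c58 LD3_c9)) = (LP (LK LD1_c16 LD2_c58 LD3_c61)) :=
  Lgr Lrot161 (Lpr_dt (f20344 IH) (Lpr_ct (f20343 IH) (Lpe (f20342 IH) (Lpe (f20341 IH) (Lpr_dt (f20333 IH) (Lpr_ct (f20330 IH) (Lpr_dt (f20336 IH) (Lpr_ct (f20337 IH) (Lpr_dt (f20338 IH) (Lpn (LP (LK LD1_c16 LD2_c58 LD3_c61))))))))))))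
theorem f20353 : Led Lsl_dt (LP (LK LD1_c4 LD2_c34 LD3_c51)) = (LP (LK LD1_c2 LD2_c14 LD3_c31)) :=
  Lre_d IH (LK LD1_c4 LD2_c34 LD3_c51) (LK LD1_c2 LD2_c14 LD3_c31) Lrfl Lrfl
theorem f20334 : Led Lsl_ct (LP (LK LD1_c9 LD2_c6 LD3_c50)) = (LP (LK LD1_c4 LD2_c35 LD3_c1)) :=
  Lre_c IH (LK LD1_c9 LD2_c6 LD3_c50) (LK LD1_c4 LD2_c35 LD3_c1) Lrfl Lrfl
theorem f20335 : Led Lsl_dt (LP (LK LD1_c16 LD2_c58 LD3_c61)) = (LP (LK LD1_c9 LD2_c6 LD3_c50)) :=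
  Lre_d IH (LK LD1_c16 LD2_c58 LD3_c61) (LK LD1_c9 LD2_c6 LD3_c50) Lrfl Lrfl
theorem f20351 : Led Lsl_ct (LP (LK LD1_c16 LD2_c58 LD3_c9)) = (LP (LK LD1_c16 LD2_c58 LD3_c61)) :=
  Lgr Lrot59 (Lpr_cf (f20345 IH) (Lpn (LP (LK LD1_c16 LD2_c58 LD3_c61))))
theorem f20354 : Led Lsl_dt (LP (LK LD1_c9 LD2_c6 LD3_c21)) = (LP (LK LD1_c16 LD2_c58 LD3_c9)) :=
  Lre_d IH (LK LD1_c9 LD2_c6 LD3_c21) (LK LD1_c16 LD2_c58 LD3_c9) Lrfl Lrfl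
theorem f20355 : Led Lsl_ct (LP (LK LD1_c4 LD2_c34 LD3_c51)) = (LP (LK LD1_c9 LD2_c6 LD3_c21)) :=
  Lre_c IH (LK LD1_c4 LD2_c34 LD3_c51) (LK LD1_c9 LD2_c6 LD3_c21) Lrfl Lrfl
theorem f20356 : Led Lsl_dt (LP (LK LD1_c2 LD2_c14 LD3_c31)) = (LP (LK LD1_c4 LD2_c34 LD3_c51)) :=
  Lre_d IH (LK LD1_c2 LD2_c14 LD3_c31) (LK LD1_c4 LD2_c34 LD3_c51) Lrfl Lrfl
theorem f20357 : Led Lsl_ct (LP (LK LD1_c2 LD2_c14 LD3_c31)) = (LP (LK LD1_c2 LD2_c14 LD3_c31)) :=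
  Lgr Lrot176 (Lpe (f20353 IH) (Lpe (f20343 IH) (Lpe (f20344 IH) (Lpr_cf (f20345 IH) (Lpe (f20338 IH) (Lpe (f20337 IH) (Lpe (f20336 IH) (Lpe (f20330 IH) (Lpe (f20333 IH) (Lpe (f20334 IH) (Lpe (f20335 IH) (Lpe (f20351 IH) (Lpe (f20354 IH) (Lpe (f20355 IH) (Lpe (f20356 IH) (Lpn (LP (LK LD1_c2 LD2_c14 LD3_c31))))))))))))))))))
theorem f20366 : Led Lsl_et (LP (LK LD1_c1 LD2_c4 LD3_c22)) = (LP (LK LD1_c2 LD2_c14 LD3_c31)) :=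
  Lre_e IH (LK LD1_c1 LD2_c4 LD3_c22) (LK LD1_c2 LD2_c14 LD3_c31) Lrfl Lrfl
theorem f20367 : Led Lsl_et (LP (LK LD1_c2 LD2_c14 LD3_c31)) = (LP (LK LD1_c1 LD2_c4 LD3_c22)) :=
  Lre_e IH (LK LD1_c2 LD2_c14 LD3_c31) (LK LD1_c1 LD2_c4 LD3_c22) Lrfl Lrfl
theorem f20368 : Led Lsl_cf (LP (LK LD1_c1 LD2_c4 LD3_c22)) = (LP (LK LD1_c1 LD2_c4 LD3_c22)) :=
  Lgr Lrot39 (Lpr_et (f20366 IH) (Lpr_ct (f20357 IH) (Lpr_et (f20367 IH) (Lpn (LP (LK LD1_c1 LD2_c4 LD3_c22))))))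
theorem f20372 : Led Lsl_dt (LP (LK LD1_c1 LD2_c4 LD3_c22)) = (LP (LK LD1_c2 LD2_c14 LD3_c30)) :=
  Lre_d IH (LK LD1_c1 LD2_c4 LD3_c22) (LK LD1_c2 LD2_c14 LD3_c30) Lrfl Lrfl
theorem f20373 : Led Lsl_ct (LP (LK LD1_c2 LD2_c14 LD3_c30)) = (LP (LK LD1_c4 LD2_c34 LD3_c49)) :=
  Lre_c IH (LK LD1_c2 LD2_c14 LD3_c30) (LK LD1_c4 LD2_c34 LD3_c49) Lrfl Lrfl
theorem f151664 : Led Lsl_at (LP (LK LD1_c1 LD2_c21 LD3_c58)) = (LP (LK LD1_c0 LD2_c37 LD3_c57)) :=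
  Lre_a IH (LK LD1_c1 LD2_c21 LD3_c58) (LK LD1_c0 LD2_c37 LD3_c57) Lrfl Lrfl
theorem f8353 : Led Lsl_dt (LP (LK LD1_c2 LD2_c51 LD3_c58)) = (LP (LK LD1_c1 LD2_c21 LD3_c61)) :=
  Lre_d IH (LK LD1_c2 LD2_c51 LD3_c58) (LK LD1_c1 LD2_c21 LD3_c61) Lrfl Lrfl
theorem f151673 : Led Lsl_dt (LP (LK LD1_c4 LD2_c34 LD3_c49)) = (LP (LK LD1_c5 LD2_c51 LD3_c23)) :=
  Lgr Lrot140 (Lpe (f20373 IH) (Lpe (f20372 IH) (Lpr_cf (f20368 IH) (Lpe (f20374 IH) (Lpr_ft (f151661 IH) (Lpr_at (f151664 IH) (Lpe (K4.f8352 IH) (Lpe (f8353 IH) (Lpe (K4.f8354 IH) (Lpn (LP (LK LD1_c5 LD2_c51 LD3_c23))))))))))))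
theorem f20375 : Led Lsl_ct (LP (LK LD1_c4 LD2_c34 LD3_c49)) = (LP (LK LD1_c2 LD2_c14 LD3_c30)) :=
  Lre_c IH (LK LD1_c4 LD2_c34 LD3_c49) (LK LD1_c2 LD2_c14 LD3_c30) Lrfl Lrfl
theorem f8351 : Led Lsl_dt (LP (LK LD1_c0 LD2_c37 LD3_c57)) = (LP (LK LD1_c0 LD2_c16 LD3_c57)) :=
  Lre_d IH (LK LD1_c0 LD2_c37 LD3_c57) (LK LD1_c0 LD2_c16 LD3_c57) Lrfl Lrfl
theorem f8355 : Led Lsl_dt (LP (LK LD1_c0 LD2_c16 LD3_c57)) = (LP (LK LD1_c0 LD2_c37 LD3_c57)) :=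
  Lre_d IH (LK LD1_c0 LD2_c16 LD3_c57) (LK LD1_c0 LD2_c37 LD3_c57) Lrfl Lrfl
theorem f151677 : Led Lsl_df (LP (LK LD1_c4 LD2_c34 LD3_c49)) = (LP (LK LD1_c5 LD2_c51 LD3_c23)) :=
  Lgr Lrot43 (Lpr_ct (f20375 IH) (Lpr_dt (f20374 IH) (Lpe (f20368 IH) (Lpr_dt (f20372 IH) (Lpr_ct (f20373 IH) (Lpr_dt (f151673 IH) (Lpr_ct (K4.f8354 IH) (Lpr_dt (f8353 IH) (Lpr_ct (K4.f8352 IH) (Lpr_dt (f8351 IH) (Lpr_ct (K6.f8340 IH) (Lpr_dt (f8355 IH) (Lpr_ct (K4.f8356 IH) (Lpr_dt (K4.f8357 IH) (Lpr_ct (K4.f8358 IH) (Lpn (LP (LK LD1_c5 LD2_c51 LD3_c23))))))))))))))))))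
theorem f136251 : Led Lsl_dt (LP (LK LD1_c1 LD2_c21 LD3_c8)) = (LP (LK LD1_c0 LD2_c37 LD3_c54)) :=
  Lgr Lrot42 (Lpr_df (K6.f136246 IH) (Lpn (LP (LK LD1_c0 LD2_c37 LD3_c54))))
theorem f151711 : Led Lsl_gf (LP (LK LD1_c1 LD2_c4 LD3_c22)) = (LP (LK LD1_c0 LD2_c37 LD3_c54)) :=
  Lgr Lrot143 (Lpr_dt (f20372 IH) (Lpe (f20375 IH) (Lpr_df (f151677 IH) (Lpe (K4.f103750 IH) (Lpr_df (K6.f130120 IH) (Lpe (K5.f56814 IH) (Lpe (K6.f56676 IH) (Lpr_gt (K6.f56762 IH) (Lpr_dt (f136251 IH) (Lpn (LP (LK LD1_c0 LD2_c37 LD3_c54))))))))))))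
theorem f151657 : Led Lsl_et (LP (LK LD1_c2 LD2_c14 LD3_c30)) = (LP (LK LD1_c4 LD2_c34 LD3_c50)) :=
  Lre_e IH (LK LD1_c2 LD2_c14 LD3_c30) (LK LD1_c4 LD2_c34 LD3_c50) Lrfl Lrfl
theorem f151715 : Led Lsl_gt (LP (LK LD1_c4 LD2_c34 LD3_c50)) = (LP (LK LD1_c9 LD2_c6 LD3_c17)) :=
  Lre_g IH (LK LD1_c4 LD2_c34 LD3_c50) (LK LD1_c9 LD2_c6 LD3_c17) Lrfl Lrfl
theorem f151716 : Led Lsl_et (LP (LK LD1_c1 LD2_c21 LD3_c11)) = (LP (LK LD1_c0 LD2_c37 LD3_c28)) :=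
  Lre_e IH (LK LD1_c1 LD2_c21 LD3_c11) (LK LD1_c0 LD2_c37 LD3_c28) Lrfl Lrfl
theorem f66352 : Led Lsl_dt (LP (LK LD1_c1 LD2_c21 LD3_c11)) = (LP (LK LD1_c2 LD2_c50 LD3_c20)) :=
  Lre_d IH (LK LD1_c1 LD2_c21 LD3_c11) (LK LD1_c2 LD2_c50 LD3_c20) Lrfl Lrfl
theorem f57521 : Led Lsl_gt (LP (LK LD1_c5 LD2_c48 LD3_c35)) = (LP (LK LD1_c2 LD2_c50 LD3_c20)) :=
  Lre_g IH (LK LD1_c5 LD2_c48 LD3_c35) (LK LD1_c2 LD2_c50 LD3_c20) Lrfl Lrfl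
theorem f151590 : Led Lsl_dt (LP (LK LD1_c11 LD2_c26 LD3_c43)) = (LP (LK LD1_c5 LD2_c48 LD3_c35)) :=
  Lre_d IH (LK LD1_c11 LD2_c26 LD3_c43) (LK LD1_c5 LD2_c48 LD3_c35) Lrfl Lrfl
theorem f151717 : Led Lsl_ef (LP (LK LD1_c9 LD2_c6 LD3_c17)) = (LP (LK LD1_c11 LD2_c26 LD3_c43)) :=
  Lgr Lrot17 (Lpe (f151715 IH) (Lpe (f151657 IH) (Lpr_dt (f20374 IH) (Lpr_gf (f151711 IH) (Lpe (f136251 IH) (Lpe (K6.f56762 IH) (Lpe (f151716 IH) (Lpr_dt (f66352 IH) (Lpe (f57521 IH) (Lpe (f151590 IH) (Lpn (LP (LK LD1_c11 LD2_c26 LD3_c43)))))))))))))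
theorem f25248 : Led Lsl_gt (LP (LK LD1_c9 LD2_c6 LD3_c17)) = (LP (LK LD1_c4 LD2_c34 LD3_c57)) :=
  Lre_g IH (LK LD1_c9 LD2_c6 LD3_c17) (LK LD1_c4 LD2_c34 LD3_c57) Lrfl Lrfl
theorem f66362 : Led Lsl_gt (LP (LK LD1_c11 LD2_c25 LD3_c59)) = (LP (LK LD1_c5 LD2_c48 LD3_c35)) :=
  Lre_g IH (LK LD1_c11 LD2_c25 LD3_c59) (LK LD1_c5 LD2_c48 LD3_c35) Lrfl Lrfl
theorem f66364 : Led Lsl_dt (LP (LK LD1_c5 LD2_c48 LD3_c11)) = (LP (LK LD1_c11 LD2_c25 LD3_c59)) :=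
  Lre_d IH (LK LD1_c5 LD2_c48 LD3_c11) (LK LD1_c11 LD2_c25 LD3_c59) Lrfl Lrfl
theorem f151589 : Led Lsl_gt (LP (LK LD1_c2 LD2_c50 LD3_c18)) = (LP (LK LD1_c5 LD2_c48 LD3_c11)) :=
  Lre_g IH (LK LD1_c2 LD2_c50 LD3_c18) (LK LD1_c5 LD2_c48 LD3_c11) Lrfl Lrfl
theorem f151577 : Led Lsl_et (LP (LK LD1_c5 LD2_c48 LD3_c29)) = (LP (LK LD1_c2 LD2_c50 LD3_c18)) :=
  Lre_e IH (LK LD1_c5 LD2_c48 LD3_c29) (LK LD1_c2 LD2_c50 LD3_c18) Lrfl Lrfl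
theorem f64343 : Led Lsl_dt (LP (LK LD1_c1 LD2_c21 LD3_c4)) = (LP (LK LD1_c0 LD2_c37 LD3_c26)) :=
  Lre_d IH (LK LD1_c1 LD2_c21 LD3_c4) (LK LD1_c0 LD2_c37 LD3_c26) Lrfl Lrfl
theorem f57147 : Led Lsl_gt (LP (LK LD1_c1 LD2_c21 LD3_c11)) = (LP (LK LD1_c2 LD2_c50 LD3_c18)) :=
  Lre_g IH (LK LD1_c1 LD2_c21 LD3_c11) (LK LD1_c2 LD2_c50 LD3_c18) Lrfl Lrfl
theorem f22317 : Led Lsl_et (LP (LK LD1_c2 LD2_c51 LD3_c49)) = (LP (LK LD1_c1 LD2_c21 LD3_c58)) :=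
  Lre_e IH (LK LD1_c2 LD2_c51 LD3_c49) (LK LD1_c1 LD2_c21 LD3_c58) Lrfl Lrfl
theorem f3119 : Led Lsl_dt (LP (LK LD1_c0 LD2_c3 LD3_c7)) = (LP (LK LD1_c0 LD2_c6 LD3_c53)) :=
  Lre_d IH (LK LD1_c0 LD2_c3 LD3_c7) (LK LD1_c0 LD2_c6 LD3_c53) Lrfl Lrfl
theorem f21224 : Led Lsl_ef (LP (LK LD1_c0 LD2_c3 LD3_c24)) = (LP (LK LD1_c0 LD2_c6 LD3_c53)) :=
  Lgr Lrot73 (Lpr_dt (K0.f8309 IH) (Lpr_et (K0.f3858 IH) (Lpr_dt (K0.f21222 IH) (Lpr_et (K0.f3110 IH) (Lpr_dt (f3119 IH) (Lpn (LP (LK LD1_c0 LD2_c6 LD3_c53))))))))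
theorem f3273 : Led Lsl_ct (LP (LK LD1_c0 LD2_c15 LD3_c4)) = (LP (LK LD1_c0 LD2_c6 LD3_c53)) :=
  Lre_c IH (LK LD1_c0 LD2_c15 LD3_c4) (LK LD1_c0 LD2_c6 LD3_c53) Lrfl Lrfl
theorem f22116 : Led Lsl_et (LP (LK LD1_c0 LD2_c7 LD3_c33)) = (LP (LK LD1_c0 LD2_c15 LD3_c4)) :=
  Lgr Lrot158 (Lpe (K0.f8307 IH) (Lpr_ef (f21224 IH) (Lpe (f3273 IH) (Lpn (LP (LK LD1_c0 LD2_c15 LD3_c4))))))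
theorem f22218 : Led Lsl_ef (LP (LK LD1_c0 LD2_c7 LD3_c33)) = (LP (LK LD1_c0 LD2_c15 LD3_c4)) :=
  Lgr Lrot88 (Lpr_et (f22116 IH) (Lpn (LP (LK LD1_c0 LD2_c15 LD3_c4))))
theorem f20290 : Led Lsl_et (LP (LK LD1_c0 LD2_c16 LD3_c58)) = (LP (LK LD1_c0 LD2_c37 LD3_c60)) :=
  Lre_e IH (LK LD1_c0 LD2_c16 LD3_c58) (LK LD1_c0 LD2_c37 LD3_c60) Lrfl Lrfl
theorem f3763 : Led Lsl_dt (LP (LK LD1_c0 LD2_c33 LD3_c37)) = (LP (LK LD1_c0 LD2_c15 LD3_c4)) :=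
  Lre_d IH (LK LD1_c0 LD2_c33 LD3_c37) (LK LD1_c0 LD2_c15 LD3_c4) Lrfl Lrfl
theorem f22227 : Led Lsl_et (LP (LK LD1_c1 LD2_c12 LD3_c41)) = (LP (LK LD1_c0 LD2_c33 LD3_c37)) :=
  Lre_e IH (LK LD1_c1 LD2_c12 LD3_c41) (LK LD1_c0 LD2_c33 LD3_c37) Lrfl Lrfl
theorem f22228 : Led Lsl_dt (LP (LK LD1_c0 LD2_c37 LD3_c60)) = (LP (LK LD1_c1 LD2_c12 LD3_c41)) :=
  Lgr Lrot77 (Lpe (f20290 IH) (Lpe (K0.f8308 IH) (Lpr_ef (f22218 IH) (Lpe (f3763 IH) (Lpe (f22227 IH) (Lpn (LP (LK LD1_c1 LD2_c12 LD3_c41))))))))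
theorem f22237 : Led Lsl_ft (LP (LK LD1_c1 LD2_c22 LD3_c7)) = (LP (LK LD1_c0 LD2_c37 LD3_c60)) :=
  Lre_f IH (LK LD1_c1 LD2_c22 LD3_c7) (LK LD1_c0 LD2_c37 LD3_c60) Lrfl Lrfl
theorem f22238 : Led Lsl_ft (LP (LK LD1_c1 LD2_c12 LD3_c41)) = (LP (LK LD1_c2 LD2_c31 LD3_c25)) :=
  Lre_f IH (LK LD1_c1 LD2_c12 LD3_c41) (LK LD1_c2 LD2_c31 LD3_c25) Lrfl Lrfl
theorem f22239 : Led Lsl_df (LP (LK LD1_c1 LD2_c22 LD3_c7)) = (LP (LK LD1_c2 LD2_c31 LD3_c25)) :=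
  Lgr Lrot78 (Lpr_ft (f22237 IH) (Lpr_dt (f22228 IH) (Lpr_ft (f22238 IH) (Lpn (LP (LK LD1_c2 LD2_c31 LD3_c25))))))
theorem f22255 : Led Lsl_dt (LP (LK LD1_c1 LD2_c22 LD3_c7)) = (LP (LK LD1_c2 LD2_c31 LD3_c25)) :=
  Lgr Lrot42 (Lpr_df (f22239 IH) (Lpn (LP (LK LD1_c2 LD2_c31 LD3_c25))))
theorem f22260 : Led Lsl_bt (LP (LK LD1_c2 LD2_c51 LD3_c61)) = (LP (LK LD1_c1 LD2_c22 LD3_c7)) :=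
  Lre_b IH (LK LD1_c2 LD2_c51 LD3_c61) (LK LD1_c1 LD2_c22 LD3_c7) Lrfl Lrfl
theorem f22261 : Led Lsl_bt (LP (LK LD1_c2 LD2_c31 LD3_c25)) = (LP (LK LD1_c5 LD2_c8 LD3_c4)) :=
  Lre_b IH (LK LD1_c2 LD2_c31 LD3_c25) (LK LD1_c5 LD2_c8 LD3_c4) Lrfl Lrfl
theorem f22262 : Led Lsl_df (LP (LK LD1_c2 LD2_c51 LD3_c61)) = (LP (LK LD1_c5 LD2_c8 LD3_c4)) :=
  Lgr Lrot12 (Lpr_bt (f22260 IH) (Lpr_dt (f22255 IH) (Lpr_bt (f22261 IH) (Lpn (LP (LK LD1_c5 LD2_c8 LD3_c4))))))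
theorem f22270 : Led Lsl_ft (LP (LK LD1_c2 LD2_c51 LD3_c61)) = (LP (LK LD1_c1 LD2_c22 LD3_c0)) :=
  Lre_f IH (LK LD1_c2 LD2_c51 LD3_c61) (LK LD1_c1 LD2_c22 LD3_c0) Lrfl Lrfl
theorem f22271 : Led Lsl_ft (LP (LK LD1_c2 LD2_c31 LD3_c15)) = (LP (LK LD1_c5 LD2_c8 LD3_c4)) :=
  Lre_f IH (LK LD1_c2 LD2_c31 LD3_c15) (LK LD1_c5 LD2_c8 LD3_c4) Lrfl Lrfl
theorem f22272 : Led Lsl_dt (LP (LK LD1_c1 LD2_c22 LD3_c0)) = (LP (LK LD1_c2 LD2_c31 LD3_c15)) :=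
  Lgr Lrot60 (Lpe (f22270 IH) (Lpr_df (f22262 IH) (Lpe (f22271 IH) (Lpn (LP (LK LD1_c2 LD2_c31 LD3_c15))))))
theorem f22285 : Led Lsl_at (LP (LK LD1_c2 LD2_c51 LD3_c49)) = (LP (LK LD1_c1 LD2_c22 LD3_c0)) :=
  Lre_a IH (LK LD1_c2 LD2_c51 LD3_c49) (LK LD1_c1 LD2_c22 LD3_c0) Lrfl Lrfl
theorem f22275 : Led Lsl_at (LP (LK LD1_c2 LD2_c31 LD3_c15)) = (LP (LK LD1_c5 LD2_c7 LD3_c51)) :=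
  Lre_a IH (LK LD1_c2 LD2_c31 LD3_c15) (LK LD1_c5 LD2_c7 LD3_c51) Lrfl Lrfl
theorem f22286 : Led Lsl_df (LP (LK LD1_c2 LD2_c51 LD3_c49)) = (LP (LK LD1_c5 LD2_c7 LD3_c51)) :=
  Lgr Lrot18 (Lpr_at (f22285 IH) (Lpr_dt (f22272 IH) (Lpr_at (f22275 IH) (Lpn (LP (LK LD1_c5 LD2_c7 LD3_c51))))))
theorem f22315 : Led Lsl_dt (LP (LK LD1_c2 LD2_c51 LD3_c49)) = (LP (LK LD1_c5 LD2_c7 LD3_c51)) :=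
  Lgr Lrot42 (Lpr_df (f22286 IH) (Lpn (LP (LK LD1_c5 LD2_c7 LD3_c51))))
theorem f22324 : Led Lsl_gt (LP (LK LD1_c10 LD2_c5 LD3_c61)) = (LP (LK LD1_c5 LD2_c7 LD3_c51)) :=
  Lre_g IH (LK LD1_c10 LD2_c5 LD3_c61) (LK LD1_c5 LD2_c7 LD3_c51) Lrfl Lrfl
theorem f151578 : Led Lsl_dt (LP (LK LD1_c5 LD2_c48 LD3_c29)) = (LP (LK LD1_c10 LD2_c5 LD3_c61)) :=
  Lgr Lrot136 (Lpr_et (f151577 IH) (Lpe (f57147 IH) (Lpe (K6.f146456 IH) (Lpr_dt (K6.f56833 IH) (Lpe (K6.f57256 IH) (Lpe (f64343 IH) (Lpr_gf (f151569 IH) (Lpe (f22317 IH) (Lpr_dt (f22315 IH) (Lpe (f22324 IH) (Lpn (LP (LK LD1_c10 LD2_c5 LD3_c61)))))))))))))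
theorem f22280 : Led Lsl_gt (LP (LK LD1_c5 LD2_c8 LD3_c4)) = (LP (LK LD1_c10 LD2_c5 LD3_c61)) :=
  Lre_g IH (LK LD1_c5 LD2_c8 LD3_c4) (LK LD1_c10 LD2_c5 LD3_c61) Lrfl Lrfl
theorem f22251 : Led Lsl_bt (LP (LK LD1_c1 LD2_c22 LD3_c7)) = (LP (LK LD1_c2 LD2_c51 LD3_c61)) :=
  Lre_b IH (LK LD1_c1 LD2_c22 LD3_c7) (LK LD1_c2 LD2_c51 LD3_c61) Lrfl Lrfl
theorem f22252 : Led Lsl_bt (LP (LK LD1_c5 LD2_c8 LD3_c4)) = (LP (LK LD1_c2 LD2_c31 LD3_c25)) :=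
  Lre_b IH (LK LD1_c5 LD2_c8 LD3_c4) (LK LD1_c2 LD2_c31 LD3_c25) Lrfl Lrfl
theorem f22253 : Led Lsl_dt (LP (LK LD1_c2 LD2_c51 LD3_c61)) = (LP (LK LD1_c5 LD2_c8 LD3_c4)) :=
  Lgr Lrot79 (Lpe (f22251 IH) (Lpr_df (f22239 IH) (Lpe (f22252 IH) (Lpn (LP (LK LD1_c5 LD2_c8 LD3_c4))))))
theorem f151730 : Led Lsl_ef (LP (LK LD1_c4 LD2_c34 LD3_c57)) = (LP (LK LD1_c2 LD2_c51 LD3_c61)) :=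
  Lgr Lrot17 (Lpe (f25248 IH) (Lpr_ef (f151717 IH) (Lpr_dt (f151590 IH) (Lpe (f66362 IH) (Lpe (f66364 IH) (Lpe (f151589 IH) (Lpe (f151577 IH) (Lpr_dt (f151578 IH) (Lpe (f22280 IH) (Lpe (f22253 IH) (Lpn (LP (LK LD1_c2 LD2_c51 LD3_c61)))))))))))))
theorem f151738 : Led Lsl_et (LP (LK LD1_c4 LD2_c34 LD3_c57)) = (LP (LK LD1_c2 LD2_c51 LD3_c61)) :=
  Lgr Lrot87 (Lpr_ef (f151730 IH) (Lpn (LP (LK LD1_c2 LD2_c51 LD3_c61))))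
theorem f151745 : Led Lsl_dt (LP (LK LD1_c9 LD2_c6 LD3_c38)) = (LP (LK LD1_c4 LD2_c34 LD3_c57)) :=
  Lre_d IH (LK LD1_c9 LD2_c6 LD3_c38) (LK LD1_c4 LD2_c34 LD3_c57) Lrfl Lrfl
theorem f151746 : Led Lsl_et (LP (LK LD1_c16 LD2_c58 LD3_c41)) = (LP (LK LD1_c9 LD2_c6 LD3_c38)) :=
  Lre_e IH (LK LD1_c16 LD2_c58 LD3_c41) (LK LD1_c9 LD2_c6 LD3_c38) Lrfl Lrfl
theorem f22282 : Led Lsl_et (LP (LK LD1_c5 LD2_c8 LD3_c4)) = (LP (LK LD1_c10 LD2_c6 LD3_c42)) :=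
  Lre_e IH (LK LD1_c5 LD2_c8 LD3_c4) (LK LD1_c10 LD2_c6 LD3_c42) Lrfl Lrfl
theorem f151747 : Led Lsl_df (LP (LK LD1_c16 LD2_c58 LD3_c41)) = (LP (LK LD1_c10 LD2_c6 LD3_c42)) :=
  Lgr Lrot70 (Lpr_et (f151746 IH) (Lpr_dt (f151745 IH) (Lpr_et (f151738 IH) (Lpr_dt (f22253 IH) (Lpr_et (f22282 IH) (Lpn (LP (LK LD1_c10 LD2_c6 LD3_c42))))))))
theorem f151757 : Led Lsl_ft (LP (LK LD1_c16 LD2_c58 LD3_c41)) = (LP (LK LD1_c9 LD2_c6 LD3_c51)) :=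
  Lre_f IH (LK LD1_c16 LD2_c58 LD3_c41) (LK LD1_c9 LD2_c6 LD3_c51) Lrfl Lrfl
theorem f151758 : Led Lsl_ft (LP (LK LD1_c5 LD2_c8 LD3_c5)) = (LP (LK LD1_c10 LD2_c6 LD3_c42)) :=
  Lre_f IH (LK LD1_c5 LD2_c8 LD3_c5) (LK LD1_c10 LD2_c6 LD3_c42) Lrfl Lrfl
theorem f151759 : Led Lsl_dt (LP (LK LD1_c9 LD2_c6 LD3_c51)) = (LP (LK LD1_c5 LD2_c8 LD3_c5)) :=
  Lgr Lrot60 (Lpe (f151757 IH) (Lpr_df (f151747 IH) (Lpe (f151758 IH) (Lpn (LP (LK LD1_c5 LD2_c8 LD3_c5))))))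
theorem f151771 : Led Lsl_et (LP (LK LD1_c4 LD2_c35 LD3_c1)) = (LP (LK LD1_c9 LD2_c6 LD3_c51)) :=
  Lre_e IH (LK LD1_c4 LD2_c35 LD3_c1) (LK LD1_c9 LD2_c6 LD3_c51) Lrfl Lrfl
theorem f151772 : Led Lsl_et (LP (LK LD1_c5 LD2_c8 LD3_c5)) = (LP (LK LD1_c2 LD2_c31 LD3_c16)) :=
  Lre_e IH (LK LD1_c5 LD2_c8 LD3_c5) (LK LD1_c2 LD2_c31 LD3_c16) Lrfl Lrfl
theorem f3166 : Led Lsl_dt (LP (LK LD1_c2 LD2_c31 LD3_c16)) = (LP (LK LD1_c1 LD2_c12 LD3_c37)) :=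
  Lre_d IH (LK LD1_c2 LD2_c31 LD3_c16) (LK LD1_c1 LD2_c12 LD3_c37) Lrfl Lrfl
theorem f151773 : Led Lsl_ef (LP (LK LD1_c2 LD2_c14 LD3_c36)) = (LP (LK LD1_c1 LD2_c12 LD3_c37)) :=
  Lgr Lrot73 (Lpr_dt (f20336 IH) (Lpr_et (f151771 IH) (Lpr_dt (f151759 IH) (Lpr_et (f151772 IH) (Lpr_dt (f3166 IH) (Lpn (LP (LK LD1_c1 LD2_c12 LD3_c37))))))))
theorem f20340 : Led Lsl_ft (LP (LK LD1_c2 LD2_c14 LD3_c36)) = (LP (LK LD1_c1 LD2_c4 LD3_c24)) :=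
  Lre_f IH (LK LD1_c2 LD2_c14 LD3_c36) (LK LD1_c1 LD2_c4 LD3_c24) Lrfl Lrfl
theorem f20386 : Led Lsl_et (LP (LK LD1_c1 LD2_c4 LD3_c24)) = (LP (LK LD1_c0 LD2_c29 LD3_c27)) :=
  Lre_e IH (LK LD1_c1 LD2_c4 LD3_c24) (LK LD1_c0 LD2_c29 LD3_c27) Lrfl Lrfl
theorem f3172 : Led Lsl_ft (LP (LK LD1_c0 LD2_c33 LD3_c36)) = (LP (LK LD1_c1 LD2_c12 LD3_c37)) :=
  Lre_f IH (LK LD1_c0 LD2_c33 LD3_c36) (LK LD1_c1 LD2_c12 LD3_c37) Lrfl Lrfl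
theorem f3272 : Led Lsl_bt (LP (LK LD1_c0 LD2_c33 LD3_c36)) = (LP (LK LD1_c0 LD2_c15 LD3_c4)) :=
  Lre_b IH (LK LD1_c0 LD2_c33 LD3_c36) (LK LD1_c0 LD2_c15 LD3_c4) Lrfl Lrfl
theorem f22225 : Led Lsl_et (LP (LK LD1_c0 LD2_c16 LD3_c57)) = (LP (LK LD1_c0 LD2_c33 LD3_c36)) :=
  Lgr Lrot74 (Lpe (K6.f8319 IH) (Lpr_ef (f22218 IH) (Lpe (f3272 IH) (Lpn (LP (LK LD1_c0 LD2_c33 LD3_c36))))))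
theorem f151792 : Led Lsl_ft (LP (LK LD1_c0 LD2_c29 LD3_c27)) = (LP (LK LD1_c0 LD2_c16 LD3_c57)) :=
  Lgr Lrot86 (Lpe (f20386 IH) (Lpe (f20340 IH) (Lpr_ef (f151773 IH) (Lpe (f3172 IH) (Lpe (f22225 IH) (Lpn (LP (LK LD1_c0 LD2_c16 LD3_c57))))))))
theorem f151794 : Led Lsl_ff (LP (LK LD1_c0 LD2_c12 LD3_c60)) = (LP (LK LD1_c0 LD2_c7 LD3_c33)) :=
  Lgr Lrot25 (Lpr_bt (K2.f20298 IH) (Lpr_ft (f151792 IH) (Lpr_bt (K6.f8339 IH) (Lpn (LP (LK LD1_c0 LD2_c7 LD3_c33))))))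
theorem f151807 : Led Lsl_at (LP (LK LD1_c0 LD2_c12 LD3_c60)) = (LP (LK LD1_c0 LD2_c7 LD3_c35)) :=
  Lgr Lrot26 (Lpr_ff (f151794 IH) (Lpe (K0.f20271 IH) (Lpe (K0.f26476 IH) (Lpn (LP (LK LD1_c0 LD2_c7 LD3_c35))))))
theorem f69329 : Led Lsl_et (LP (LK LD1_c0 LD2_c29 LD3_c29)) = (LP (LK LD1_c0 LD2_c12 LD3_c60)) :=
  Lre_e IH (LK LD1_c0 LD2_c29 LD3_c29) (LK LD1_c0 LD2_c12 LD3_c60) Lrfl Lrfl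
theorem f68340 : Led Lsl_et (LP (LK LD1_c0 LD2_c7 LD3_c35)) = (LP (LK LD1_c0 LD2_c17 LD3_c1)) :=
  Lre_e IH (LK LD1_c0 LD2_c7 LD3_c35) (LK LD1_c0 LD2_c17 LD3_c1) Lrfl Lrfl
theorem f151818 : Led Lsl_af (LP (LK LD1_c0 LD2_c29 LD3_c29)) = (LP (LK LD1_c0 LD2_c17 LD3_c1)) :=
  Lgr Lrot50 (Lpr_et (f69329 IH) (Lpr_at (f151807 IH) (Lpr_et (f68340 IH) (Lpn (LP (LK LD1_c0 LD2_c17 LD3_c1))))))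
theorem f151804 : Led Lsl_ft (LP (LK LD1_c0 LD2_c29 LD3_c29)) = (LP (LK LD1_c1 LD2_c4 LD3_c29)) :=
  Lre_f IH (LK LD1_c0 LD2_c29 LD3_c29) (LK LD1_c1 LD2_c4 LD3_c29) Lrfl Lrfl
theorem f151827 : Led Lsl_ft (LP (LK LD1_c0 LD2_c38 LD3_c14)) = (LP (LK LD1_c0 LD2_c17 LD3_c1)) :=
  Lre_f IH (LK LD1_c0 LD2_c38 LD3_c14) (LK LD1_c0 LD2_c17 LD3_c1) Lrfl Lrfl
theorem f151828 : Led Lsl_at (LP (LK LD1_c1 LD2_c4 LD3_c29)) = (LP (LK LD1_c0 LD2_c38 LD3_c14)) :=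
  Lgr Lrot66 (Lpe (f151804 IH) (Lpr_af (f151818 IH) (Lpe (f151827 IH) (Lpn (LP (LK LD1_c0 LD2_c38 LD3_c14))))))
theorem f20332 : Led Lsl_dt (LP (LK LD1_c2 LD2_c14 LD3_c44)) = (LP (LK LD1_c1 LD2_c4 LD3_c29)) :=
  Lre_d IH (LK LD1_c2 LD2_c14 LD3_c44) (LK LD1_c1 LD2_c4 LD3_c29) Lrfl Lrfl
theorem f24577 : Led Lsl_dt (LP (LK LD1_c0 LD2_c38 LD3_c14)) = (LP (LK LD1_c1 LD2_c22 LD3_c31)) :=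
  Lre_d IH (LK LD1_c0 LD2_c38 LD3_c14) (LK LD1_c1 LD2_c22 LD3_c31) Lrfl Lrfl
theorem f151838 : Led Lsl_af (LP (LK LD1_c2 LD2_c14 LD3_c44)) = (LP (LK LD1_c1 LD2_c22 LD3_c31)) :=
  Lgr Lrot117 (Lpr_dt (f20332 IH) (Lpr_at (f151828 IH) (Lpr_dt (f24577 IH) (Lpn (LP (LK LD1_c1 LD2_c22 LD3_c31))))))
theorem f151845 : Led Lsl_et (LP (LK LD1_c2 LD2_c14 LD3_c44)) = (LP (LK LD1_c4 LD2_c35 LD3_c10)) :=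
  Lre_e IH (LK LD1_c2 LD2_c14 LD3_c44) (LK LD1_c4 LD2_c35 LD3_c10) Lrfl Lrfl
theorem f151846 : Led Lsl_et (LP (LK LD1_c2 LD2_c52 LD3_c53)) = (LP (LK LD1_c1 LD2_c22 LD3_c31)) :=
  Lre_e IH (LK LD1_c2 LD2_c52 LD3_c53) (LK LD1_c1 LD2_c22 LD3_c31) Lrfl Lrfl
theorem f151847 : Led Lsl_at (LP (LK LD1_c4 LD2_c35 LD3_c10)) = (LP (LK LD1_c2 LD2_c52 LD3_c53)) :=
  Lgr Lrot80 (Lpe (f151845 IH) (Lpr_af (f151838 IH) (Lpe (f151846 IH) (Lpn (LP (LK LD1_c2 LD2_c52 LD3_c53))))))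
theorem f151864 : Led Lsl_ft (LP (LK LD1_c9 LD2_c6 LD3_c53)) = (LP (LK LD1_c4 LD2_c35 LD3_c10)) :=
  Lre_f IH (LK LD1_c9 LD2_c6 LD3_c53) (LK LD1_c4 LD2_c35 LD3_c10) Lrfl Lrfl
theorem f151865 : Led Lsl_ft (LP (LK LD1_c2 LD2_c52 LD3_c53)) = (LP (LK LD1_c5 LD2_c52 LD3_c54)) :=
  Lre_f IH (LK LD1_c2 LD2_c52 LD3_c53) (LK LD1_c5 LD2_c52 LD3_c54) Lrfl Lrfl
theorem f151866 : Led Lsl_af (LP (LK LD1_c9 LD2_c6 LD3_c53)) = (LP (LK LD1_c5 LD2_c52 LD3_c54)) :=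
  Lgr Lrot45 (Lpr_ft (f151864 IH) (Lpr_at (f151847 IH) (Lpr_ft (f151865 IH) (Lpn (LP (LK LD1_c5 LD2_c52 LD3_c54))))))
theorem f151871 : Led Lsl_et (LP (LK LD1_c9 LD2_c6 LD3_c53)) = (LP (LK LD1_c4 LD2_c35 LD3_c3)) :=
  Lre_e IH (LK LD1_c9 LD2_c6 LD3_c53) (LK LD1_c4 LD2_c35 LD3_c3) Lrfl Lrfl
theorem f151872 : Led Lsl_et (LP (LK LD1_c2 LD2_c52 LD3_c43)) = (LP (LK LD1_c5 LD2_c52 LD3_c54)) :=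
  Lre_e IH (LK LD1_c2 LD2_c52 LD3_c43) (LK LD1_c5 LD2_c52 LD3_c54) Lrfl Lrfl
theorem f151873 : Led Lsl_at (LP (LK LD1_c4 LD2_c35 LD3_c3)) = (LP (LK LD1_c2 LD2_c52 LD3_c43)) :=
  Lgr Lrot80 (Lpe (f151871 IH) (Lpr_af (f151866 IH) (Lpe (f151872 IH) (Lpn (LP (LK LD1_c2 LD2_c52 LD3_c43))))))
theorem f25226 : Led Lsl_ft (LP (LK LD1_c2 LD2_c14 LD3_c37)) = (LP (LK LD1_c4 LD2_c35 LD3_c3)) :=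
  Lre_f IH (LK LD1_c2 LD2_c14 LD3_c37) (LK LD1_c4 LD2_c35 LD3_c3) Lrfl Lrfl
theorem f22569 : Led Lsl_ft (LP (LK LD1_c2 LD2_c52 LD3_c43)) = (LP (LK LD1_c1 LD2_c22 LD3_c23)) :=
  Lre_f IH (LK LD1_c2 LD2_c52 LD3_c43) (LK LD1_c1 LD2_c22 LD3_c23) Lrfl Lrfl
theorem f151882 : Led Lsl_af (LP (LK LD1_c2 LD2_c14 LD3_c37)) = (LP (LK LD1_c1 LD2_c22 LD3_c23)) :=
  Lgr Lrot45 (Lpr_ft (f25226 IH) (Lpr_at (f151873 IH) (Lpr_ft (f22569 IH) (Lpn (LP (LK LD1_c1 LD2_c22 LD3_c23))))))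
theorem f25221 : Led Lsl_dt (LP (LK LD1_c2 LD2_c14 LD3_c37)) = (LP (LK LD1_c1 LD2_c4 LD3_c25)) :=
  Lre_d IH (LK LD1_c2 LD2_c14 LD3_c37) (LK LD1_c1 LD2_c4 LD3_c25) Lrfl Lrfl
theorem f22726 : Led Lsl_dt (LP (LK LD1_c0 LD2_c38 LD3_c10)) = (LP (LK LD1_c1 LD2_c22 LD3_c23)) :=
  Lre_d IH (LK LD1_c0 LD2_c38 LD3_c10) (LK LD1_c1 LD2_c22 LD3_c23) Lrfl Lrfl
theorem f151894 : Led Lsl_at (LP (LK LD1_c1 LD2_c4 LD3_c25)) = (LP (LK LD1_c0 LD2_c38 LD3_c10)) :=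
  Lgr Lrot51 (Lpe (f25221 IH) (Lpr_af (f151882 IH) (Lpe (f22726 IH) (Lpn (LP (LK LD1_c0 LD2_c38 LD3_c10))))))
theorem f25198 : Led Lsl_et (LP (LK LD1_c0 LD2_c30 LD3_c54)) = (LP (LK LD1_c0 LD2_c13 LD3_c43)) :=
  Lre_e IH (LK LD1_c0 LD2_c30 LD3_c54) (LK LD1_c0 LD2_c13 LD3_c43) Lrfl Lrfl
theorem f25199 : Led Lsl_et (LP (LK LD1_c0 LD2_c29 LD3_c28)) = (LP (LK LD1_c1 LD2_c4 LD3_c25)) :=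
  Lre_e IH (LK LD1_c0 LD2_c29 LD3_c28) (LK LD1_c1 LD2_c4 LD3_c25) Lrfl Lrfl
theorem f25200 : Led Lsl_cf (LP (LK LD1_c0 LD2_c30 LD3_c54)) = (LP (LK LD1_c1 LD2_c4 LD3_c25)) :=
  Lgr Lrot39 (Lpr_et (f25198 IH) (Lpr_ct (K2.f25182 IH) (Lpr_et (f25199 IH) (Lpn (LP (LK LD1_c1 LD2_c4 LD3_c25))))))
theorem f25219 : Led Lsl_ct (LP (LK LD1_c0 LD2_c30 LD3_c54)) = (LP (LK LD1_c1 LD2_c4 LD3_c25)) :=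
  Lgr Lrot59 (Lpr_cf (f25200 IH) (Lpn (LP (LK LD1_c1 LD2_c4 LD3_c25))))
theorem f22492 : Led Lsl_et (LP (LK LD1_c0 LD2_c17 LD3_c0)) = (LP (LK LD1_c0 LD2_c38 LD3_c10)) :=
  Lre_e IH (LK LD1_c0 LD2_c17 LD3_c0) (LK LD1_c0 LD2_c38 LD3_c10) Lrfl Lrfl
theorem f22493 : Led Lsl_cf (LP (LK LD1_c0 LD2_c19 LD3_c23)) = (LP (LK LD1_c0 LD2_c38 LD3_c10)) :=
  Lgr Lrot39 (Lpr_et (K0.f22491 IH) (Lpr_ct (K1.f22456 IH) (Lpr_et (f22492 IH) (Lpn (LP (LK LD1_c0 LD2_c38 LD3_c10))))))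
theorem f151903 : Led Lsl_af (LP (LK LD1_c0 LD2_c30 LD3_c54)) = (LP (LK LD1_c0 LD2_c19 LD3_c23)) :=
  Lgr Lrot68 (Lpr_ct (f25219 IH) (Lpr_at (f151894 IH) (Lpe (f22493 IH) (Lpn (LP (LK LD1_c0 LD2_c19 LD3_c23))))))
theorem f25222 : Led Lsl_ft (LP (LK LD1_c0 LD2_c30 LD3_c54)) = (LP (LK LD1_c1 LD2_c7 LD3_c23)) :=
  Lre_f IH (LK LD1_c0 LD2_c30 LD3_c54) (LK LD1_c1 LD2_c7 LD3_c23) Lrfl Lrfl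
theorem f22567 : Led Lsl_ft (LP (LK LD1_c0 LD2_c43 LD3_c28)) = (LP (LK LD1_c0 LD2_c19 LD3_c23)) :=
  Lre_f IH (LK LD1_c0 LD2_c43 LD3_c28) (LK LD1_c0 LD2_c19 LD3_c23) Lrfl Lrfl
theorem f151918 : Led Lsl_at (LP (LK LD1_c1 LD2_c7 LD3_c23)) = (LP (LK LD1_c0 LD2_c43 LD3_c28)) :=
  Lgr Lrot66 (Lpe (f25222 IH) (Lpr_af (f151903 IH) (Lpe (f22567 IH) (Lpn (LP (LK LD1_c0 LD2_c43 LD3_c28))))))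
theorem f151922 : Led Lsl_af (LP (LK LD1_c1 LD2_c7 LD3_c23)) = (LP (LK LD1_c0 LD2_c43 LD3_c28)) :=
  Lgr Lrot0 (Lpr_at (f151918 IH) (Lpn (LP (LK LD1_c0 LD2_c43 LD3_c28))))
theorem f25223 : Led Lsl_ft (LP (LK LD1_c2 LD2_c14 LD3_c38)) = (LP (LK LD1_c1 LD2_c4 LD3_c25)) :=
  Lre_f IH (LK LD1_c2 LD2_c14 LD3_c38) (LK LD1_c1 LD2_c4 LD3_c25) Lrfl Lrfl
theorem f25224 : Led Lsl_ct (LP (LK LD1_c1 LD2_c7 LD3_c23)) = (LP (LK LD1_c2 LD2_c14 LD3_c38)) :=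
  Lgr Lrot40 (Lpe (f25222 IH) (Lpr_cf (f25200 IH) (Lpe (f25223 IH) (Lpn (LP (LK LD1_c2 LD2_c14 LD3_c38))))))
theorem f22515 : Led Lsl_ft (LP (LK LD1_c0 LD2_c19 LD3_c23)) = (LP (LK LD1_c0 LD2_c43 LD3_c28)) :=
  Lre_f IH (LK LD1_c0 LD2_c19 LD3_c23) (LK LD1_c0 LD2_c43 LD3_c28) Lrfl Lrfl
theorem f22516 : Led Lsl_ft (LP (LK LD1_c1 LD2_c22 LD3_c24)) = (LP (LK LD1_c0 LD2_c38 LD3_c10)) :=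
  Lre_f IH (LK LD1_c1 LD2_c22 LD3_c24) (LK LD1_c0 LD2_c38 LD3_c10) Lrfl Lrfl
theorem f22517 : Led Lsl_ct (LP (LK LD1_c0 LD2_c43 LD3_c28)) = (LP (LK LD1_c1 LD2_c22 LD3_c24)) :=
  Lgr Lrot40 (Lpe (f22515 IH) (Lpr_cf (f22493 IH) (Lpe (f22516 IH) (Lpn (LP (LK LD1_c1 LD2_c22 LD3_c24))))))
theorem f22554 : Led Lsl_cf (LP (LK LD1_c0 LD2_c43 LD3_c28)) = (LP (LK LD1_c1 LD2_c22 LD3_c24)) :=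
  Lgr Lrot11 (Lpr_ct (f22517 IH) (Lpn (LP (LK LD1_c1 LD2_c22 LD3_c24))))
theorem f151940 : Led Lsl_at (LP (LK LD1_c2 LD2_c14 LD3_c38)) = (LP (LK LD1_c1 LD2_c22 LD3_c24)) :=
  Lgr Lrot107 (Lpe (f25224 IH) (Lpr_af (f151922 IH) (Lpr_cf (f22554 IH) (Lpn (LP (LK LD1_c1 LD2_c22 LD3_c24))))))
theorem f25243 : Led Lsl_bt (LP (LK LD1_c4 LD2_c34 LD3_c57)) = (LP (LK LD1_c2 LD2_c14 LD3_c38)) :=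
  Lre_b IH (LK LD1_c4 LD2_c34 LD3_c57) (LK LD1_c2 LD2_c14 LD3_c38) Lrfl Lrfl
theorem f151742 : Led Lsl_at (LP (LK LD1_c9 LD2_c6 LD3_c20)) = (LP (LK LD1_c4 LD2_c34 LD3_c57)) :=
  Lre_a IH (LK LD1_c9 LD2_c6 LD3_c20) (LK LD1_c4 LD2_c34 LD3_c57) Lrfl Lrfl
theorem f22550 : Led Lsl_bt (LP (LK LD1_c1 LD2_c22 LD3_c24)) = (LP (LK LD1_c2 LD2_c52 LD3_c33)) :=
  Lre_b IH (LK LD1_c1 LD2_c22 LD3_c24) (LK LD1_c2 LD2_c52 LD3_c33) Lrfl Lrfl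
theorem f151953 : Led Lsl_at (LP (LK LD1_c2 LD2_c52 LD3_c33)) = (LP (LK LD1_c5 LD2_c52 LD3_c5)) :=
  Lre_a IH (LK LD1_c2 LD2_c52 LD3_c33) (LK LD1_c5 LD2_c52 LD3_c5) Lrfl Lrfl
theorem f151954 : Led Lsl_bf (LP (LK LD1_c9 LD2_c6 LD3_c20)) = (LP (LK LD1_c5 LD2_c52 LD3_c5)) :=
  Lgr Lrot81 (Lpr_at (f151742 IH) (Lpr_bt (f25243 IH) (Lpr_at (f151940 IH) (Lpr_bt (f22550 IH) (Lpr_at (f151953 IH) (Lpn (LP (LK LD1_c5 LD2_c52 LD3_c5))))))))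
theorem f151668 : Led Lsl_ft (LP (LK LD1_c9 LD2_c6 LD3_c20)) = (LP (LK LD1_c4 LD2_c34 LD3_c50)) :=
  Lre_f IH (LK LD1_c9 LD2_c6 LD3_c20) (LK LD1_c4 LD2_c34 LD3_c50) Lrfl Lrfl
theorem f151960 : Led Lsl_ft (LP (LK LD1_c2 LD2_c52 LD3_c19)) = (LP (LK LD1_c5 LD2_c52 LD3_c5)) :=
  Lre_f IH (LK LD1_c2 LD2_c52 LD3_c19) (LK LD1_c5 LD2_c52 LD3_c5) Lrfl Lrfl
theorem f151961 : Led Lsl_bt (LP (LK LD1_c4 LD2_c34 LD3_c50)) = (LP (LK LD1_c2 LD2_c52 LD3_c19)) :=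
  Lgr Lrot35 (Lpe (f151668 IH) (Lpr_bf (f151954 IH) (Lpe (f151960 IH) (Lpn (LP (LK LD1_c2 LD2_c52 LD3_c19))))))
theorem f151977 : Led Lsl_et (LP (LK LD1_c2 LD2_c52 LD3_c19)) = (LP (LK LD1_c1 LD2_c22 LD3_c15)) :=
  Lre_e IH (LK LD1_c2 LD2_c52 LD3_c19) (LK LD1_c1 LD2_c22 LD3_c15) Lrfl Lrfl
theorem f151978 : Led Lsl_bf (LP (LK LD1_c2 LD2_c14 LD3_c30)) = (LP (LK LD1_c1 LD2_c22 LD3_c15)) :=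
  Lgr Lrot96 (Lpr_et (f151657 IH) (Lpr_bt (f151961 IH) (Lpr_et (f151977 IH) (Lpn (LP (LK LD1_c1 LD2_c22 LD3_c15))))))
theorem f151992 : Led Lsl_dt (LP (LK LD1_c0 LD2_c38 LD3_c7)) = (LP (LK LD1_c1 LD2_c22 LD3_c15)) :=
  Lre_d IH (LK LD1_c0 LD2_c38 LD3_c7) (LK LD1_c1 LD2_c22 LD3_c15) Lrfl Lrfl
theorem f151993 : Led Lsl_bt (LP (LK LD1_c1 LD2_c4 LD3_c22)) = (LP (LK LD1_c0 LD2_c38 LD3_c7)) :=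
  Lgr Lrot95 (Lpe (f20374 IH) (Lpr_bf (f151978 IH) (Lpe (f151992 IH) (Lpn (LP (LK LD1_c0 LD2_c38 LD3_c7))))))
theorem f100332 : Led Lsl_ct (LP (LK LD1_c2 LD2_c50 LD3_c2)) = (LP (LK LD1_c1 LD2_c21 LD3_c4)) :=
  Lre_c IH (LK LD1_c2 LD2_c50 LD3_c2) (LK LD1_c1 LD2_c21 LD3_c4) Lrfl Lrfl
theorem f136934 : Led Lsl_gf (LP (LK LD1_c2 LD2_c14 LD3_c11)) = (LP (LK LD1_c1 LD2_c21 LD3_c8)) :=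
  Lgr Lrot144 (Lpr_dt (K6.f135867 IH) (Lpr_gt (K6.f135897 IH) (Lpr_dt (K5.f100339 IH) (Lpe (f100332 IH) (Lpr_df (K4.f117287 IH) (Lpe (K6.f136920 IH) (Lpr_df (K6.f136924 IH) (Lpr_gf (K6.f135942 IH) (Lpe (K6.f135966 IH) (Lpn (LP (LK LD1_c1 LD2_c21 LD3_c8))))))))))))
theorem f136322 : Led Lsl_dt (LP (LK LD1_c1 LD2_c21 LD3_c57)) = (LP (LK LD1_c2 LD2_c51 LD3_c47)) :=
  Lre_d IH (LK LD1_c1 LD2_c21 LD3_c57) (LK LD1_c2 LD2_c51 LD3_c47) Lrfl Lrfl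
theorem f112937 : Led Lsl_ct (LP (LK LD1_c0 LD2_c37 LD3_c55)) = (LP (LK LD1_c1 LD2_c21 LD3_c57)) :=
  Lre_c IH (LK LD1_c0 LD2_c37 LD3_c55) (LK LD1_c1 LD2_c21 LD3_c57) Lrfl Lrfl
theorem f151713 : Led Lsl_gt (LP (LK LD1_c1 LD2_c4 LD3_c22)) = (LP (LK LD1_c0 LD2_c37 LD3_c55)) :=
  Lgr Lrot150 (Lpr_cf (f20368 IH) (Lpr_gf (f151711 IH) (Lpe (f136251 IH) (Lpe (f136934 IH) (Lpr_ct (K6.f135849 IH) (Lpr_gt (K6.f135860 IH) (Lpr_ct (K6.f136307 IH) (Lpe (f136322 IH) (Lpe (f112937 IH) (Lpn (LP (LK LD1_c0 LD2_c37 LD3_c55))))))))))))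
theorem f149013 : Led Lsl_bf (LP (LK LD1_c1 LD2_c4 LD3_c40)) = (LP (LK LD1_c1 LD2_c21 LD3_c57)) :=
  Lgr Lrot90 (Lpr_ct (f104777 IH) (Lpr_bt (f149009 IH) (Lpr_ct (f24201 IH) (Lpr_bt (K6.f8369 IH) (Lpr_ct (f112937 IH) (Lpn (LP (LK LD1_c1 LD2_c21 LD3_c57))))))))
theorem f71054 : Led Lsl_ct (LP (LK LD1_c2 LD2_c14 LD3_c22)) = (LP (LK LD1_c2 LD2_c15 LD3_c15)) :=
  Lre_c IH (LK LD1_c2 LD2_c14 LD3_c22) (LK LD1_c2 LD2_c15 LD3_c15) Lrfl Lrfl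
theorem f71055 : Led Lsl_bt (LP (LK LD1_c2 LD2_c14 LD3_c22)) = (LP (LK LD1_c1 LD2_c4 LD3_c15)) :=
  Lre_b IH (LK LD1_c2 LD2_c14 LD3_c22) (LK LD1_c1 LD2_c4 LD3_c15) Lrfl Lrfl
theorem f151997 : Led Lsl_gt (LP (LK LD1_c1 LD2_c4 LD3_c15)) = (LP (LK LD1_c0 LD2_c38 LD3_c7)) :=
  Lgr Lrot164 (Lpe (f71055 IH) (Lpr_ct (f71054 IH) (Lpr_gf (K6.f71048 IH) (Lpe (K2.f70925 IH) (Lpe (f149400 IH) (Lpr_bf (f149013 IH) (Lpr_ct (K6.f8364 IH) (Lpe (f151713 IH) (Lpr_cf (f20368 IH) (Lpr_bt (f151993 IH) (Lpn (LP (LK LD1_c0 LD2_c38 LD3_c7)))))))))))))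
theorem f20545 : Led Lsl_gt (LP (LK LD1_c0 LD2_c29 LD3_c25)) = (LP (LK LD1_c1 LD2_c4 LD3_c15)) :=
  Lre_g IH (LK LD1_c0 LD2_c29 LD3_c25) (LK LD1_c1 LD2_c4 LD3_c15) Lrfl Lrfl
theorem f151811 : Led Lsl_at (LP (LK LD1_c0 LD2_c16 LD3_c61)) = (LP (LK LD1_c0 LD2_c38 LD3_c7)) :=
  Lre_a IH (LK LD1_c0 LD2_c16 LD3_c61) (LK LD1_c0 LD2_c38 LD3_c7) Lrfl Lrfl
theorem f151999 : Led Lsl_ft (LP (LK LD1_c0 LD2_c29 LD3_c25)) = (LP (LK LD1_c0 LD2_c16 LD3_c61)) :=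
  Lgr Lrot2 (Lpr_gt (f20545 IH) (Lpr_gt (f151997 IH) (Lpe (f151811 IH) (Lpn (LP (LK LD1_c0 LD2_c16 LD3_c61))))))
theorem f152012 : Led Lsl_ff (LP (LK LD1_c0 LD2_c29 LD3_c25)) = (LP (LK LD1_c0 LD2_c16 LD3_c61)) :=
  Lgr Lrot3 (Lpr_ft (f151999 IH) (Lpn (LP (LK LD1_c0 LD2_c16 LD3_c61))))
theorem f152014 : Led Lsl_dt (LP (LK LD1_c0 LD2_c29 LD3_c25)) = (LP (LK LD1_c1 LD2_c4 LD3_c18)) :=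
  Lre_d IH (LK LD1_c0 LD2_c29 LD3_c25) (LK LD1_c1 LD2_c4 LD3_c18) Lrfl Lrfl
theorem f26562 : Led Lsl_dt (LP (LK LD1_c0 LD2_c38 LD3_c8)) = (LP (LK LD1_c0 LD2_c16 LD3_c61)) :=
  Lre_d IH (LK LD1_c0 LD2_c38 LD3_c8) (LK LD1_c0 LD2_c16 LD3_c61) Lrfl Lrfl
theorem f152020 : Led Lsl_ft (LP (LK LD1_c1 LD2_c4 LD3_c18)) = (LP (LK LD1_c0 LD2_c38 LD3_c8)) :=
  Lgr Lrot54 (Lpe (f152014 IH) (Lpr_ff (f152012 IH) (Lpe (f26562 IH) (Lpn (LP (LK LD1_c0 LD2_c38 LD3_c8))))))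
theorem f152034 : Led Lsl_et (LP (LK LD1_c2 LD2_c14 LD3_c25)) = (LP (LK LD1_c1 LD2_c4 LD3_c18)) :=
  Lre_e IH (LK LD1_c2 LD2_c14 LD3_c25) (LK LD1_c1 LD2_c4 LD3_c18) Lrfl Lrfl
theorem f152035 : Led Lsl_ft (LP (LK LD1_c4 LD2_c34 LD3_c46)) = (LP (LK LD1_c2 LD2_c14 LD3_c25)) :=
  Lre_f IH (LK LD1_c4 LD2_c34 LD3_c46) (LK LD1_c2 LD2_c14 LD3_c25) Lrfl Lrfl
theorem f26563 : Led Lsl_et (LP (LK LD1_c0 LD2_c38 LD3_c8)) = (LP (LK LD1_c1 LD2_c22 LD3_c19)) :=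
  Lre_e IH (LK LD1_c0 LD2_c38 LD3_c8) (LK LD1_c1 LD2_c22 LD3_c19) Lrfl Lrfl
theorem f152036 : Led Lsl_ft (LP (LK LD1_c1 LD2_c22 LD3_c19)) = (LP (LK LD1_c2 LD2_c52 LD3_c33)) :=
  Lre_f IH (LK LD1_c1 LD2_c22 LD3_c19) (LK LD1_c2 LD2_c52 LD3_c33) Lrfl Lrfl
theorem f152037 : Led Lsl_ef (LP (LK LD1_c4 LD2_c34 LD3_c46)) = (LP (LK LD1_c2 LD2_c52 LD3_c33)) :=
  Lgr Lrot21 (Lpr_ft (f152035 IH) (Lpr_et (f152034 IH) (Lpr_ft (f152020 IH) (Lpr_et (f26563 IH) (Lpr_ft (f152036 IH) (Lpn (LP (LK LD1_c2 LD2_c52 LD3_c33))))))))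
theorem f152046 : Led Lsl_et (LP (LK LD1_c4 LD2_c34 LD3_c46)) = (LP (LK LD1_c2 LD2_c52 LD3_c33)) :=
  Lgr Lrot87 (Lpr_ef (f152037 IH) (Lpn (LP (LK LD1_c2 LD2_c52 LD3_c33))))
theorem f152052 : Led Lsl_bt (LP (LK LD1_c2 LD2_c14 LD3_c26)) = (LP (LK LD1_c4 LD2_c34 LD3_c46)) :=
  Lre_b IH (LK LD1_c2 LD2_c14 LD3_c26) (LK LD1_c4 LD2_c34 LD3_c46) Lrfl Lrfl
theorem f22563 : Led Lsl_bt (LP (LK LD1_c2 LD2_c52 LD3_c33)) = (LP (LK LD1_c1 LD2_c22 LD3_c24)) :=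
  Lre_b IH (LK LD1_c2 LD2_c52 LD3_c33) (LK LD1_c1 LD2_c22 LD3_c24) Lrfl Lrfl
theorem f152053 : Led Lsl_ef (LP (LK LD1_c2 LD2_c14 LD3_c26)) = (LP (LK LD1_c1 LD2_c22 LD3_c24)) :=
  Lgr Lrot29 (Lpr_bt (f152052 IH) (Lpr_et (f152046 IH) (Lpr_bt (f22563 IH) (Lpn (LP (LK LD1_c1 LD2_c22 LD3_c24))))))
theorem f152061 : Led Lsl_ft (LP (LK LD1_c2 LD2_c14 LD3_c26)) = (LP (LK LD1_c1 LD2_c4 LD3_c19)) :=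
  Lre_f IH (LK LD1_c2 LD2_c14 LD3_c26) (LK LD1_c1 LD2_c4 LD3_c19) Lrfl Lrfl
theorem f56659 : Led Lsl_et (LP (LK LD1_c1 LD2_c4 LD3_c19)) = (LP (LK LD1_c0 LD2_c29 LD3_c26)) :=
  Lre_e IH (LK LD1_c1 LD2_c4 LD3_c19) (LK LD1_c0 LD2_c29 LD3_c26) Lrfl Lrfl
theorem f22568 : Led Lsl_ft (LP (LK LD1_c0 LD2_c38 LD3_c10)) = (LP (LK LD1_c1 LD2_c22 LD3_c24)) :=
  Lre_f IH (LK LD1_c0 LD2_c38 LD3_c10) (LK LD1_c1 LD2_c22 LD3_c24) Lrfl Lrfl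
theorem f152062 : Led Lsl_ft (LP (LK LD1_c0 LD2_c29 LD3_c26)) = (LP (LK LD1_c0 LD2_c17 LD3_c0)) :=
  Lgr Lrot86 (Lpe (f56659 IH) (Lpe (f152061 IH) (Lpr_ef (f152053 IH) (Lpe (f22568 IH) (Lpe (f22492 IH) (Lpn (LP (LK LD1_c0 LD2_c17 LD3_c0))))))))
theorem f152066 : Led Lsl_ff (LP (LK LD1_c0 LD2_c13 LD3_c44)) = (LP (LK LD1_c0 LD2_c8 LD3_c43)) :=
  Lgr Lrot23 (Lpr_ct (K4.f58939 IH) (Lpr_ft (f152062 IH) (Lpe (K1.f22488 IH) (Lpn (LP (LK LD1_c0 LD2_c8 LD3_c43))))))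
theorem f152076 : Led Lsl_at (LP (LK LD1_c0 LD2_c13 LD3_c44)) = (LP (LK LD1_c0 LD2_c8 LD3_c46)) :=
  Lgr Lrot26 (Lpr_ff (f152066 IH) (Lpr_gt (K4.f68333 IH) (Lpr_gt (K0.f22831 IH) (Lpn (LP (LK LD1_c0 LD2_c8 LD3_c46))))))
theorem f22727 : Led Lsl_et (LP (LK LD1_c0 LD2_c8 LD3_c43)) = (LP (LK LD1_c0 LD2_c19 LD3_c23)) :=
  Lre_e IH (LK LD1_c0 LD2_c8 LD3_c43) (LK LD1_c0 LD2_c19 LD3_c23) Lrfl Lrfl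
theorem f151916 : Led Lsl_at (LP (LK LD1_c0 LD2_c13 LD3_c43)) = (LP (LK LD1_c0 LD2_c8 LD3_c43)) :=
  Lgr Lrot80 (Lpe (f25198 IH) (Lpr_af (f151903 IH) (Lpe (f22727 IH) (Lpn (LP (LK LD1_c0 LD2_c8 LD3_c43))))))
theorem f152087 : Led Lsl_ff (LP (LK LD1_c0 LD2_c13 LD3_c43)) = (LP (LK LD1_c0 LD2_c8 LD3_c46)) :=
  Lgr Lrot30 (Lpr_at (f151916 IH) (Lpe (f152066 IH) (Lpr_at (f152076 IH) (Lpn (LP (LK LD1_c0 LD2_c8 LD3_c46))))))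
theorem f152095 : Led Lsl_ft (LP (LK LD1_c0 LD2_c13 LD3_c43)) = (LP (LK LD1_c0 LD2_c8 LD3_c46)) :=
  Lgr Lrot48 (Lpr_ff (f152087 IH) (Lpn (LP (LK LD1_c0 LD2_c8 LD3_c46))))
theorem f152103 : Led Lsl_ff (LP (LK LD1_c0 LD2_c6 LD3_c16)) = (LP (LK LD1_c0 LD2_c3 LD3_c59)) :=
  Lgr Lrot19 (Lpr_dt (K0.f25197 IH) (Lpr_ft (f152095 IH) (Lpr_dt (K0.f22830 IH) (Lpn (LP (LK LD1_c0 LD2_c3 LD3_c59))))))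
theorem f152113 : Led Lsl_at (LP (LK LD1_c0 LD2_c6 LD3_c16)) = (LP (LK LD1_c0 LD2_c3 LD3_c58)) :=
  Lgr Lrot26 (Lpr_ff (f152103 IH) (Lpr_gt (K0.f368 IH) (Lpr_gt (K0.f5834 IH) (Lpn (LP (LK LD1_c0 LD2_c3 LD3_c58))))))
theorem f152119 : Led Lsl_af (LP (LK LD1_c0 LD2_c4 LD3_c12)) = (LP (LK LD1_c0 LD2_c4 LD3_c24)) :=
  Lgr Lrot68 (Lpe (K0.f20049 IH) (Lpr_at (f152113 IH) (Lpe (K0.f20074 IH) (Lpn (LP (LK LD1_c0 LD2_c4 LD3_c24))))))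
theorem f152127 : Led Lsl_ft (LP (LK LD1_c0 LD2_c4 LD3_c13)) = (LP (LK LD1_c0 LD2_c4 LD3_c24)) :=
  Lgr Lrot2 (Lpr_gt (K0.f3797 IH) (Lpr_gt (K0.f1634 IH) (Lpr_af (f152119 IH) (Lpn (LP (LK LD1_c0 LD2_c4 LD3_c24))))))
theorem f152137 : Led Lsl_ff (LP (LK LD1_c0 LD2_c4 LD3_c13)) = (LP (LK LD1_c0 LD2_c4 LD3_c24)) :=
  Lgr Lrot3 (Lpr_ft (f152127 IH) (Lpn (LP (LK LD1_c0 LD2_c4 LD3_c24))))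
theorem f152145 : Led Lsl_at (LP (LK LD1_c0 LD2_c4 LD3_c13)) = (LP (LK LD1_c0 LD2_c8 LD3_c45)) :=
  Lgr Lrot26 (Lpr_ff (f152137 IH) (Lpr_gt (K0.f20866 IH) (Lpr_gt (K3.f20889 IH) (Lpn (LP (LK LD1_c0 LD2_c8 LD3_c45))))))
theorem f152121 : Led Lsl_at (LP (LK LD1_c0 LD2_c4 LD3_c12)) = (LP (LK LD1_c0 LD2_c4 LD3_c24)) :=
  Lgr Lrot100 (Lpr_af (f152119 IH) (Lpn (LP (LK LD1_c0 LD2_c4 LD3_c24))))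
theorem f152153 : Led Lsl_ff (LP (LK LD1_c0 LD2_c4 LD3_c12)) = (LP (LK LD1_c0 LD2_c8 LD3_c45)) :=
  Lgr Lrot30 (Lpr_at (f152121 IH) (Lpe (f152137 IH) (Lpr_at (f152145 IH) (Lpn (LP (LK LD1_c0 LD2_c8 LD3_c45))))))
theorem f152109 : Led Lsl_ft (LP (LK LD1_c0 LD2_c4 LD3_c12)) = (LP (LK LD1_c0 LD2_c8 LD3_c45)) :=
  Lgr Lrot4 (Lpr_cf (K0.f23272 IH) (Lpr_ff (f152103 IH) (Lpe (K0.f369 IH) (Lpn (LP (LK LD1_c0 LD2_c8 LD3_c45))))))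
theorem f152157 : Led Lsl_ft (LP (LK LD1_c0 LD2_c19 LD3_c29)) = (LP (LK LD1_c0 LD2_c19 LD3_c29)) :=
  Lgr Lrot86 (Lpe (K6.f24269 IH) (Lpe (f152109 IH) (Lpr_ef (K2.f20825 IH) (Lpr_ff (f152153 IH) (Lpe (K6.f24268 IH) (Lpn (LP (LK LD1_c0 LD2_c19 LD3_c29))))))))
theorem f7313 : Led Lsl_et (LP (LK LD1_c0 LD2_c9 LD3_c7)) = (LP (LK LD1_c0 LD2_c4 LD3_c13)) :=
  Lre_e IH (LK LD1_c0 LD2_c9 LD3_c7) (LK LD1_c0 LD2_c4 LD3_c13) Lrfl Lrfl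
theorem f152151 : Led Lsl_af (LP (LK LD1_c0 LD2_c9 LD3_c7)) = (LP (LK LD1_c0 LD2_c19 LD3_c29)) :=
  Lgr Lrot50 (Lpr_et (f7313 IH) (Lpr_at (f152145 IH) (Lpr_et (K6.f24269 IH) (Lpn (LP (LK LD1_c0 LD2_c19 LD3_c29))))))
theorem f13435 : Led Lsl_gt (LP (LK LD1_c0 LD2_c20 LD3_c13)) = (LP (LK LD1_c0 LD2_c9 LD3_c7)) :=
  Lre_g IH (LK LD1_c0 LD2_c20 LD3_c13) (LK LD1_c0 LD2_c9 LD3_c7) Lrfl Lrfl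
theorem f152161 : Led Lsl_gt (LP (LK LD1_c0 LD2_c19 LD3_c29)) = (LP (LK LD1_c0 LD2_c20 LD3_c13)) :=
  Lgr Lrot5 (Lpr_ft (f152157 IH) (Lpe (f152151 IH) (Lpe (f13435 IH) (Lpn (LP (LK LD1_c0 LD2_c20 LD3_c13))))))
theorem f20088 : Led Lsl_dt (LP (LK LD1_c0 LD2_c20 LD3_c6)) = (LP (LK LD1_c0 LD2_c45 LD3_c17)) :=
  Lre_d IH (LK LD1_c0 LD2_c20 LD3_c6) (LK LD1_c0 LD2_c45 LD3_c17) Lrfl Lrfl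
theorem f86368 : Led Lsl_ct (LP (LK LD1_c0 LD2_c45 LD3_c17)) = (LP (LK LD1_c1 LD2_c37 LD3_c45)) :=
  Lre_c IH (LK LD1_c0 LD2_c45 LD3_c17) (LK LD1_c1 LD2_c37 LD3_c45) Lrfl Lrfl
theorem f121406 : Led Lsl_ct (LP (LK LD1_c2 LD2_c22 LD3_c57)) = (LP (LK LD1_c1 LD2_c8 LD3_c35)) :=
  Lre_c IH (LK LD1_c2 LD2_c22 LD3_c57) (LK LD1_c1 LD2_c8 LD3_c35) Lrfl Lrfl
theorem f7501 : Led Lsl_dt (LP (LK LD1_c1 LD2_c8 LD3_c35)) = (LP (LK LD1_c0 LD2_c31 LD3_c22)) :=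
  Lre_d IH (LK LD1_c1 LD2_c8 LD3_c35) (LK LD1_c0 LD2_c31 LD3_c22) Lrfl Lrfl
theorem f143021 : Led Lsl_ct (LP (LK LD1_c0 LD2_c31 LD3_c22)) = (LP (LK LD1_c0 LD2_c20 LD3_c11)) :=
  Lgr Lrot176 (Lpe (f7501 IH) (Lpe (f121406 IH) (Lpe (K6.f135448 IH) (Lpe (f86368 IH) (Lpe (f20088 IH) (Lpe (K6.f20924 IH) (Lpr_df (K1.f20882 IH) (Lpr_cf (K3.f57560 IH) (Lpe (K6.f57536 IH) (Lpe (K6.f57565 IH) (Lpr_df (K5.f86359 IH) (Lpe (K3.f86028 IH) (Lpr_df (K6.f143019 IH) (Lpe (K2.f21045 IH) (Lpe (K6.f20844 IH) (Lpn (LP (LK LD1_c0 LD2_c20 LD3_c11))))))))))))))))))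
theorem f143034 : Led Lsl_et (LP (LK LD1_c0 LD2_c20 LD3_c11)) = (LP (LK LD1_c0 LD2_c20 LD3_c30)) :=
  Lgr Lrot158 (Lpe (f143021 IH) (Lpr_ef (K6.f143032 IH) (Lpe (K2.f21045 IH) (Lpn (LP (LK LD1_c0 LD2_c20 LD3_c30))))))
theorem f7383 : Led Lsl_et (LP (LK LD1_c0 LD2_c4 LD3_c8)) = (LP (LK LD1_c0 LD2_c1 LD3_c53)) :=
  Lre_e IH (LK LD1_c0 LD2_c4 LD3_c8) (LK LD1_c0 LD2_c1 LD3_c53) Lrfl Lrfl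
theorem f144 : Led Lsl_ef (LP (LK LD1_c0 LD2_c1 LD3_c56)) = (LP (LK LD1_c0 LD2_c1 LD3_c56)) :=
  Lgr Lrot17 (Lpe (K0.f56 IH) (Lpe (K0.f55 IH) (Lpr_dt (K0.f21 IH) (Lpr_gf (K0.f46 IH) (Lpe (K0.f49 IH) (Lpq (K0.f68 IH) (Lpe (K0.f45 IH) (Lpe (K0.f57 IH) (Lpr_dt (K0.f58 IH) (Lpe (K0.f82 IH) (Lpr_df (K0.f127 IH) (Lpn (LP (LK LD1_c0 LD2_c1 LD3_c56))))))))))))))
theorem f147 : Led Lsl_et (LP (LK LD1_c0 LD2_c4 LD3_c16)) = (LP (LK LD1_c0 LD2_c4 LD3_c16)) :=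
  Lgr Lrot74 (Lpe (K0.f146 IH) (Lpr_ef (f144 IH) (Lpe (K0.f135 IH) (Lpn (LP (LK LD1_c0 LD2_c4 LD3_c16))))))
theorem f13432 : Led Lsl_dt (LP (LK LD1_c0 LD2_c9 LD3_c7)) = (LP (LK LD1_c0 LD2_c9 LD3_c7)) :=
  Lgr Lrot77 (Lpe (K6.f13431 IH) (Lpr_df (K0.f13425 IH) (Lpe (f147 IH) (Lpe (K0.f13429 IH) (Lpe (f7313 IH) (Lpn (LP (LK LD1_c0 LD2_c9 LD3_c7))))))))
theorem f152164 : Led Lsl_df (LP (LK LD1_c0 LD2_c20 LD3_c13)) = (LP (LK LD1_c0 LD2_c20 LD3_c13)) :=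
  Lgr Lrot135 (Lpr_gt (f13435 IH) (Lpe (f13432 IH) (Lpr_et (f7313 IH) (Lpr_gt (K0.f3797 IH) (Lpe (f7383 IH) (Lpr_dt (K0.f204 IH) (Lpr_gt (K0.f131 IH) (Lpe (K3.f24213 IH) (Lpr_et (K6.f24269 IH) (Lpr_gt (f152161 IH) (Lpn (LP (LK LD1_c0 LD2_c20 LD3_c13)))))))))))))
theorem f152166 : Led Lsl_ef (LP (LK LD1_c0 LD2_c20 LD3_c7)) = (LP (LK LD1_c0 LD2_c20 LD3_c13)) :=
  Lgr Lrot114 (Lpe (K6.f145488 IH) (Lpe (f143034 IH) (Lpr_dt (K6.f20844 IH) (Lpr_gt (K6.f145468 IH) (Lpe (K1.f20928 IH) (Lpr_et (K6.f20932 IH) (Lpe (K6.f24601 IH) (Lpe (K6.f24593 IH) (Lpr_gt (f152161 IH) (Lpr_df (f152164 IH) (Lpn (LP (LK LD1_c0 LD2_c20 LD3_c13)))))))))))))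
theorem f152168 : Led Lsl_et (LP (LK LD1_c0 LD2_c20 LD3_c7)) = (LP (LK LD1_c0 LD2_c20 LD3_c13)) :=
  Lgr Lrot87 (Lpr_ef (f152166 IH) (Lpn (LP (LK LD1_c0 LD2_c20 LD3_c13))))
theorem f20847 : Led Lsl_gt (LP (LK LD1_c0 LD2_c20 LD3_c29)) = (LP (LK LD1_c0 LD2_c9 LD3_c15)) :=
  Lre_g IH (LK LD1_c0 LD2_c20 LD3_c29) (LK LD1_c0 LD2_c9 LD3_c15) Lrfl Lrfl
theorem f152172 : Led Lsl_dt (LP (LK LD1_c0 LD2_c20 LD3_c7)) = (LP (LK LD1_c0 LD2_c20 LD3_c29)) :=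
  Lgr Lrot136 (Lpr_et (f152168 IH) (Lpe (f152161 IH) (Lpe (K6.f24269 IH) (Lpr_dt (K3.f24213 IH) (Lpe (K0.f131 IH) (Lpe (K0.f204 IH) (Lpr_gf (K0.f7362 IH) (Lpe (K0.f7373 IH) (Lpe (K1.f20006 IH) (Lpe (f20847 IH) (Lpn (LP (LK LD1_c0 LD2_c20 LD3_c29)))))))))))))
theorem f152174 : Led Lsl_gf (LP (LK LD1_c0 LD2_c20 LD3_c29)) = (LP (LK LD1_c0 LD2_c20 LD3_c9)) :=
  Lgr Lrot134 (Lpe (f152172 IH) (Lpr_et (f152168 IH) (Lpr_gt (f13435 IH) (Lpe (K6.f13431 IH) (Lpr_dt (K0.f13429 IH) (Lpe (K0.f13421 IH) (Lpe (K0.f7341 IH) (Lpr_et (K0.f7338 IH) (Lpr_gt (K6.f146215 IH) (Lpe (K6.f20912 IH) (Lpn (LP (LK LD1_c0 LD2_c20 LD3_c9)))))))))))))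
theorem f20851 : Led Lsl_df (LP (LK LD1_c0 LD2_c20 LD3_c11)) = (LP (LK LD1_c0 LD2_c20 LD3_c30)) :=
  Lgr Lrot38 (Lpr_dt (K6.f20844 IH) (Lpn (LP (LK LD1_c0 LD2_c20 LD3_c30))))
theorem f145458 : Led Lsl_gt (LP (LK LD1_c0 LD2_c20 LD3_c11)) = (LP (LK LD1_c0 LD2_c9 LD3_c11)) :=
  Lgr Lrot82 (Lpe (K6.f20013 IH) (Lpr_ct (K6.f145452 IH) (Lpe (K5.f11109 IH) (Lpe (K0.f7400 IH) (Lpr_bt (K2.f7395 IH) (Lpe (K3.f86029 IH) (Lpr_bf (K2.f82448 IH) (Lpr_ct (K6.f25744 IH) (Lpr_gf (K2.f83935 IH) (Lpe (K1.f7318 IH) (Lpn (LP (LK LD1_c0 LD2_c9 LD3_c11)))))))))))))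
theorem f145470 : Led Lsl_et (LP (LK LD1_c0 LD2_c20 LD3_c30)) = (LP (LK LD1_c0 LD2_c20 LD3_c11)) :=
  Lgr Lrot121 (Lpe (f20851 IH) (Lpr_gf (K6.f145462 IH) (Lpe (K1.f9655 IH) (Lpr_et (K0.f9654 IH) (Lpe (K0.f3966 IH) (Lpe (K1.f9688 IH) (Lpr_dt (K1.f20903 IH) (Lpe (K1.f20900 IH) (Lpr_df (K0.f7311 IH) (Lpe (f145458 IH) (Lpn (LP (LK LD1_c0 LD2_c20 LD3_c11)))))))))))))
theorem f145484 : Led Lsl_at (LP (LK LD1_c0 LD2_c20 LD3_c11)) = (LP (LK LD1_c0 LD2_c37 LD3_c46)) :=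
  Lgr Lrot51 (Lpr_df (f20851 IH) (Lpr_af (K6.f145478 IH) (Lpr_df (K6.f20912 IH) (Lpn (LP (LK LD1_c0 LD2_c37 LD3_c46))))))
theorem f145486 : Led Lsl_et (LP (LK LD1_c0 LD2_c37 LD3_c46)) = (LP (LK LD1_c0 LD2_c20 LD3_c9)) :=
  Lgr Lrot123 (Lpe (f145484 IH) (Lpe (f145470 IH) (Lpr_af (K6.f145478 IH) (Lpn (LP (LK LD1_c0 LD2_c20 LD3_c9))))))
theorem f152176 : Led Lsl_gf (LP (LK LD1_c0 LD2_c20 LD3_c9)) = (LP (LK LD1_c0 LD2_c20 LD3_c28)) :=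
  Lgr Lrot141 (Lpe (f145486 IH) (Lpe (K6.f20912 IH) (Lpe (f152174 IH) (Lpe (f152172 IH) (Lpr_et (f152168 IH) (Lpr_gt (f13435 IH) (Lpr_dt (f13432 IH) (Lpr_gt (K6.f13436 IH) (Lpe (K6.f20938 IH) (Lpe (K6.f20934 IH) (Lpn (LP (LK LD1_c0 LD2_c20 LD3_c28)))))))))))))
theorem f152180 : Led Lsl_dt (LP (LK LD1_c0 LD2_c20 LD3_c29)) = (LP (LK LD1_c0 LD2_c20 LD3_c7)) :=
  Lgr Lrot171 (Lpr_gf (f152174 IH) (Lpe (f145486 IH) (Lpe (K6.f20912 IH) (Lpr_gf (f152176 IH) (Lpr_df (K1.f20930 IH) (Lpe (K1.f20936 IH) (Lpe (K6.f145468 IH) (Lpe (f143034 IH) (Lpr_dt (K6.f20844 IH) (Lpr_gf (K6.f145488 IH) (Lpn (LP (LK LD1_c0 LD2_c20 LD3_c7)))))))))))))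
theorem f25810 : Led Lsl_ct (LP (LK LD1_c0 LD2_c30 LD3_c20)) = (LP (LK LD1_c0 LD2_c13 LD3_c28)) :=
  Lre_c IH (LK LD1_c0 LD2_c30 LD3_c20) (LK LD1_c0 LD2_c13 LD3_c28) Lrfl Lrfl
theorem f135488 : Led Lsl_gf (LP (LK LD1_c0 LD2_c20 LD3_c6)) = (LP (LK LD1_c0 LD2_c30 LD3_c20)) :=
  Lgr Lrot144 (Lpr_dt (f20088 IH) (Lpr_gt (K6.f135484 IH) (Lpr_dt (K2.f7488 IH) (Lpe (K1.f7486 IH) (Lpr_df (K2.f7396 IH) (Lpe (K3.f86029 IH) (Lpr_df (K1.f20997 IH) (Lpe (K1.f25754 IH) (Lpe (f25810 IH) (Lpn (LP (LK LD1_c0 LD2_c30 LD3_c20))))))))))))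
theorem f143017 : Led Lsl_gf (LP (LK LD1_c0 LD2_c30 LD3_c20)) = (LP (LK LD1_c0 LD2_c40 LD3_c1)) :=
  Lgr Lrot47 (Lpe (f135488 IH) (Lpr_af (K6.f143011 IH) (Lpe (K6.f21052 IH) (Lpn (LP (LK LD1_c0 LD2_c40 LD3_c1))))))
theorem f25803 : Led Lsl_df (LP (LK LD1_c0 LD2_c8 LD3_c24)) = (LP (LK LD1_c0 LD2_c13 LD3_c28)) :=
  Lgr Lrot38 (Lpr_dt (K1.f25795 IH) (Lpn (LP (LK LD1_c0 LD2_c13 LD3_c28))))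
theorem f25797 : Led Lsl_ct (LP (LK LD1_c0 LD2_c18 LD3_c44)) = (LP (LK LD1_c0 LD2_c8 LD3_c24)) :=
  Lre_c IH (LK LD1_c0 LD2_c18 LD3_c44) (LK LD1_c0 LD2_c8 LD3_c24) Lrfl Lrfl
theorem f152305 : Led Lsl_gt (LP (LK LD1_c0 LD2_c17 LD3_c58)) = (LP (LK LD1_c0 LD2_c18 LD3_c44)) :=
  Lgr Lrot187 (Lpe (K2.f21019 IH) (Lpe (f20847 IH) (Lpr_dt (f152180 IH) (Lpe (K6.f145488 IH) (Lpr_ct (K2.f21045 IH) (Lpe (f143017 IH) (Lpr_ct (f25810 IH) (Lpe (f25803 IH) (Lpe (f25797 IH) (Lpn (LP (LK LD1_c0 LD2_c18 LD3_c44))))))))))))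
theorem f24954 : Led Lsl_et (LP (LK LD1_c0 LD2_c8 LD3_c47)) = (LP (LK LD1_c0 LD2_c3 LD3_c59)) :=
  Lre_e IH (LK LD1_c0 LD2_c8 LD3_c47) (LK LD1_c0 LD2_c3 LD3_c59) Lrfl Lrfl
theorem f24603 : Led Lsl_dt (LP (LK LD1_c0 LD2_c8 LD3_c47)) = (LP (LK LD1_c0 LD2_c19 LD3_c31)) :=
  Lre_d IH (LK LD1_c0 LD2_c8 LD3_c47) (LK LD1_c0 LD2_c19 LD3_c31) Lrfl Lrfl
theorem f82536 : Led Lsl_ft (LP (LK LD1_c0 LD2_c6 LD3_c15)) = (LP (LK LD1_c0 LD2_c6 LD3_c15)) :=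
  Lgr Lrot101 (Lpr_af (K2.f82269 IH) (Lpr_ff (K3.f82534 IH) (Lpe (K2.f82267 IH) (Lpn (LP (LK LD1_c0 LD2_c6 LD3_c15))))))
theorem f23404 : Led Lsl_gt (LP (LK LD1_c0 LD2_c8 LD3_c41)) = (LP (LK LD1_c0 LD2_c3 LD3_c57)) :=
  Lre_g IH (LK LD1_c0 LD2_c8 LD3_c41) (LK LD1_c0 LD2_c3 LD3_c57) Lrfl Lrfl
theorem f83138 : Led Lsl_gt (LP (LK LD1_c0 LD2_c6 LD3_c15)) = (LP (LK LD1_c0 LD2_c8 LD3_c41)) :=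
  Lgr Lrot5 (Lpr_ft (f82536 IH) (Lpr_at (K2.f82267 IH) (Lpe (f23404 IH) (Lpn (LP (LK LD1_c0 LD2_c8 LD3_c41))))))
theorem f83145 : Led Lsl_et (LP (LK LD1_c0 LD2_c8 LD3_c24)) = (LP (LK LD1_c0 LD2_c8 LD3_c41)) :=
  Lgr Lrot122 (Lpr_dt (K1.f25795 IH) (Lpr_gt (K1.f25754 IH) (Lpe (K1.f25773 IH) (Lpr_et (K1.f7162 IH) (Lpr_gt (K0.f20999 IH) (Lpr_dt (K0.f7107 IH) (Lpr_gt (K0.f133 IH) (Lpr_df (K0.f23303 IH) (Lpr_et (K2.f23387 IH) (Lpr_gt (f83138 IH) (Lpn (LP (LK LD1_c0 LD2_c8 LD3_c41)))))))))))))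
theorem f83140 : Led Lsl_ct (LP (LK LD1_c0 LD2_c8 LD3_c41)) = (LP (LK LD1_c0 LD2_c19 LD3_c18)) :=
  Lre_c IH (LK LD1_c0 LD2_c8 LD3_c41) (LK LD1_c0 LD2_c19 LD3_c18) Lrfl Lrfl
theorem f83147 : Led Lsl_ef (LP (LK LD1_c0 LD2_c18 LD3_c44)) = (LP (LK LD1_c0 LD2_c19 LD3_c18)) :=
  Lgr Lrot28 (Lpr_ct (f25797 IH) (Lpr_et (f83145 IH) (Lpr_ct (f83140 IH) (Lpn (LP (LK LD1_c0 LD2_c19 LD3_c18))))))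
theorem f83142 : Led Lsl_dt (LP (LK LD1_c0 LD2_c19 LD3_c18)) = (LP (LK LD1_c0 LD2_c43 LD3_c15)) :=
  Lre_d IH (LK LD1_c0 LD2_c19 LD3_c18) (LK LD1_c0 LD2_c43 LD3_c15) Lrfl Lrfl
theorem f152315 : Led Lsl_gf (LP (LK LD1_c0 LD2_c19 LD3_c31)) = (LP (LK LD1_c0 LD2_c43 LD3_c15)) :=
  Lgr Lrot145 (Lpe (f24603 IH) (Lpr_et (f24954 IH) (Lpr_gt (K0.f368 IH) (Lpr_dt (K0.f22829 IH) (Lpr_gt (K0.f24598 IH) (Lpr_df (K0.f24608 IH) (Lpr_et (K5.f21144 IH) (Lpr_gt (f152305 IH) (Lpr_ef (f83147 IH) (Lpr_dt (f83142 IH) (Lpn (LP (LK LD1_c0 LD2_c43 LD3_c15)))))))))))))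
theorem f24282 : Led Lsl_dt (LP (LK LD1_c0 LD2_c19 LD3_c31)) = (LP (LK LD1_c0 LD2_c8 LD3_c47)) :=
  Lre_d IH (LK LD1_c0 LD2_c19 LD3_c31) (LK LD1_c0 LD2_c8 LD3_c47) Lrfl Lrfl
theorem f24278 : Led Lsl_ct (LP (LK LD1_c0 LD2_c19 LD3_c29)) = (LP (LK LD1_c0 LD2_c8 LD3_c47)) :=
  Lre_c IH (LK LD1_c0 LD2_c19 LD3_c29) (LK LD1_c0 LD2_c8 LD3_c47) Lrfl Lrfl
theorem f13585 : Led Lsl_et (LP (LK LD1_c0 LD2_c6 LD3_c17)) = (LP (LK LD1_c0 LD2_c13 LD3_c45)) :=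
  Lre_e IH (LK LD1_c0 LD2_c6 LD3_c17) (LK LD1_c0 LD2_c13 LD3_c45) Lrfl Lrfl
theorem f13586 : Led Lsl_cf (LP (LK LD1_c0 LD2_c9 LD3_c7)) = (LP (LK LD1_c0 LD2_c13 LD3_c45)) :=
  Lgr Lrot39 (Lpr_et (f7313 IH) (Lpr_ct (K0.f13554 IH) (Lpr_et (f13585 IH) (Lpn (LP (LK LD1_c0 LD2_c13 LD3_c45))))))
theorem f152317 : Led Lsl_gt (LP (LK LD1_c0 LD2_c13 LD3_c45)) = (LP (LK LD1_c0 LD2_c19 LD3_c18)) :=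
  Lgr Lrot180 (Lpe (f13586 IH) (Lpr_gt (K6.f13436 IH) (Lpr_dt (K6.f20938 IH) (Lpe (K6.f24601 IH) (Lpe (K6.f24593 IH) (Lpr_ct (f24278 IH) (Lpe (f24282 IH) (Lpr_gf (f152315 IH) (Lpe (f83142 IH) (Lpn (LP (LK LD1_c0 LD2_c19 LD3_c18))))))))))))
theorem f86812 : Led Lsl_et (LP (LK LD1_c0 LD2_c23 LD3_c6)) = (LP (LK LD1_c0 LD2_c10 LD3_c23)) :=
  Lre_e IH (LK LD1_c0 LD2_c23 LD3_c6) (LK LD1_c0 LD2_c10 LD3_c23) Lrfl Lrfl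
theorem f124154 : Led Lsl_bt (LP (LK LD1_c0 LD2_c13 LD3_c45)) = (LP (LK LD1_c0 LD2_c23 LD3_c6)) :=
  Lgr Lrot119 (Lpe (f13585 IH) (Lpr_bf (K4.f124149 IH) (Lpe (f86812 IH) (Lpn (LP (LK LD1_c0 LD2_c23 LD3_c6))))))
theorem f124157 : Led Lsl_bf (LP (LK LD1_c0 LD2_c13 LD3_c45)) = (LP (LK LD1_c0 LD2_c23 LD3_c6)) :=
  Lgr Lrot24 (Lpr_bt (f124154 IH) (Lpn (LP (LK LD1_c0 LD2_c23 LD3_c6))))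
theorem f124159 : Led Lsl_ct (LP (LK LD1_c0 LD2_c23 LD3_c6)) = (LP (LK LD1_c0 LD2_c10 LD3_c25)) :=
  Lre_c IH (LK LD1_c0 LD2_c23 LD3_c6) (LK LD1_c0 LD2_c10 LD3_c25) Lrfl Lrfl
theorem f124175 : Led Lsl_gt (LP (LK LD1_c0 LD2_c23 LD3_c12)) = (LP (LK LD1_c0 LD2_c10 LD3_c25)) :=
  Lre_g IH (LK LD1_c0 LD2_c23 LD3_c12) (LK LD1_c0 LD2_c10 LD3_c25) Lrfl Lrfl
theorem f124176 : Led Lsl_ct (LP (LK LD1_c0 LD2_c51 LD3_c26)) = (LP (LK LD1_c0 LD2_c23 LD3_c12)) :=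
  Lre_c IH (LK LD1_c0 LD2_c51 LD3_c26) (LK LD1_c0 LD2_c23 LD3_c12) Lrfl Lrfl
theorem f83143 : Led Lsl_ct (LP (LK LD1_c0 LD2_c19 LD3_c18)) = (LP (LK LD1_c0 LD2_c8 LD3_c41)) :=
  Lre_c IH (LK LD1_c0 LD2_c19 LD3_c18) (LK LD1_c0 LD2_c8 LD3_c41) Lrfl Lrfl
theorem f23413 : Led Lsl_gt (LP (LK LD1_c0 LD2_c19 LD3_c14)) = (LP (LK LD1_c0 LD2_c43 LD3_c8)) :=
  Lre_g IH (LK LD1_c0 LD2_c19 LD3_c14) (LK LD1_c0 LD2_c43 LD3_c8) Lrfl Lrfl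
theorem f152321 : Led Lsl_bt (LP (LK LD1_c0 LD2_c51 LD3_c26)) = (LP (LK LD1_c0 LD2_c43 LD3_c8)) :=
  Lgr Lrot92 (Lpr_ct (f124176 IH) (Lpr_gt (f124175 IH) (Lpe (f124159 IH) (Lpe (f124157 IH) (Lpr_gt (f152317 IH) (Lpr_ct (f83143 IH) (Lpr_gt (f23404 IH) (Lpe (K3.f23423 IH) (Lpr_bt (K2.f23398 IH) (Lpr_gt (f23413 IH) (Lpn (LP (LK LD1_c0 LD2_c43 LD3_c8)))))))))))))
theorem f152326 : Led Lsl_et (LP (LK LD1_c1 LD2_c49 LD3_c19)) = (LP (LK LD1_c0 LD2_c51 LD3_c26)) :=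
  Lre_e IH (LK LD1_c1 LD2_c49 LD3_c19) (LK LD1_c0 LD2_c51 LD3_c26) Lrfl Lrfl
theorem f131424 : Led Lsl_ef (LP (LK LD1_c0 LD2_c43 LD3_c8)) = (LP (LK LD1_c1 LD2_c6 LD3_c7)) :=
  Lgr Lrot17 (Lpe (f23413 IH) (Lpe (K3.f23410 IH) (Lpr_dt (K5.f23555 IH) (Lpe (K3.f23446 IH) (Lpe (K3.f104337 IH) (Lpe (K5.f131400 IH) (Lpe (K5.f131389 IH) (Lpr_dt (K5.f82480 IH) (Lpr_gf (K5.f131410 IH) (Lpe (K5.f25791 IH) (Lpn (LP (LK LD1_c1 LD2_c6 LD3_c7)))))))))))))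
theorem f131428 : Led Lsl_et (LP (LK LD1_c0 LD2_c43 LD3_c8)) = (LP (LK LD1_c1 LD2_c6 LD3_c7)) :=
  Lgr Lrot87 (Lpr_ef (f131424 IH) (Lpn (LP (LK LD1_c1 LD2_c6 LD3_c7))))
theorem f152327 : Led Lsl_bf (LP (LK LD1_c1 LD2_c49 LD3_c19)) = (LP (LK LD1_c1 LD2_c6 LD3_c7)) :=
  Lgr Lrot96 (Lpr_et (f152326 IH) (Lpr_bt (f152321 IH) (Lpr_et (f131428 IH) (Lpn (LP (LK LD1_c1 LD2_c6 LD3_c7))))))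
theorem f152329 : Led Lsl_bt (LP (LK LD1_c1 LD2_c49 LD3_c19)) = (LP (LK LD1_c1 LD2_c6 LD3_c7)) :=
  Lgr Lrot127 (Lpr_bf (f152327 IH) (Lpn (LP (LK LD1_c1 LD2_c6 LD3_c7))))
theorem f152331 : Led Lsl_ct (LP (LK LD1_c1 LD2_c49 LD3_c19)) = (LP (LK LD1_c0 LD2_c51 LD3_c27)) :=
  Lre_c IH (LK LD1_c1 LD2_c49 LD3_c19) (LK LD1_c0 LD2_c51 LD3_c27) Lrfl Lrfl
theorem f25789 : Led Lsl_bt (LP (LK LD1_c0 LD2_c13 LD3_c27)) = (LP (LK LD1_c0 LD2_c30 LD3_c14)) :=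
  Lre_b IH (LK LD1_c0 LD2_c13 LD3_c27) (LK LD1_c0 LD2_c30 LD3_c14) Lrfl Lrfl
theorem f25785 : Led Lsl_ct (LP (LK LD1_c0 LD2_c13 LD3_c27)) = (LP (LK LD1_c0 LD2_c6 LD3_c8)) :=
  Lre_c IH (LK LD1_c0 LD2_c13 LD3_c27) (LK LD1_c0 LD2_c6 LD3_c8) Lrfl Lrfl
theorem f152334 : Led Lsl_gt (LP (LK LD1_c0 LD2_c51 LD3_c27)) = (LP (LK LD1_c0 LD2_c45 LD3_c60)) :=
  Lgr Lrot65 (Lpe (f152331 IH) (Lpr_bt (f152329 IH) (Lpe (K5.f25790 IH) (Lpe (f25789 IH) (Lpr_ct (f25785 IH) (Lpe (K1.f25754 IH) (Lpe (f25810 IH) (Lpr_gf (f143017 IH) (Lpe (K5.f21042 IH) (Lpe (K2.f21050 IH) (Lpn (LP (LK LD1_c0 LD2_c45 LD3_c60)))))))))))))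
theorem f152336 : Led Lsl_gf (LP (LK LD1_c0 LD2_c51 LD3_c27)) = (LP (LK LD1_c0 LD2_c45 LD3_c56)) :=
  Lgr Lrot47 (Lpr_gt (f152334 IH) (Lpe (K6.f21061 IH) (Lpe (K5.f21062 IH) (Lpn (LP (LK LD1_c0 LD2_c45 LD3_c56))))))
theorem f104669 : Led Lsl_gt (LP (LK LD1_c1 LD2_c6 LD3_c7)) = (LP (LK LD1_c2 LD2_c18 LD3_c2)) :=
  Lre_g IH (LK LD1_c1 LD2_c6 LD3_c7) (LK LD1_c2 LD2_c18 LD3_c2) Lrfl Lrfl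
theorem f152359 : Led Lsl_bf (LP (LK LD1_c2 LD2_c18 LD3_c2)) = (LP (LK LD1_c1 LD2_c29 LD3_c58)) :=
  Lgr Lrot34 (Lpe (f104669 IH) (Lpe (f152329 IH) (Lpr_ct (f152331 IH) (Lpr_gf (f152336 IH) (Lpr_cf (K5.f21070 IH) (Lpe (K6.f21127 IH) (Lpr_bf (K6.f145492 IH) (Lpr_ct (K6.f104605 IH) (Lpe (K6.f104662 IH) (Lpr_cf (K6.f104642 IH) (Lpn (LP (LK LD1_c1 LD2_c29 LD3_c58)))))))))))))
theorem f104658 : Led Lsl_ft (LP (LK LD1_c2 LD2_c18 LD3_c2)) = (LP (LK LD1_c1 LD2_c6 LD3_c2)) :=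
  Lre_f IH (LK LD1_c2 LD2_c18 LD3_c2) (LK LD1_c1 LD2_c6 LD3_c2) Lrfl Lrfl
theorem f104650 : Led Lsl_ft (LP (LK LD1_c0 LD2_c41 LD3_c35)) = (LP (LK LD1_c1 LD2_c29 LD3_c58)) :=
  Lre_f IH (LK LD1_c0 LD2_c41 LD3_c35) (LK LD1_c1 LD2_c29 LD3_c58) Lrfl Lrfl
theorem f152367 : Led Lsl_bt (LP (LK LD1_c1 LD2_c6 LD3_c2)) = (LP (LK LD1_c0 LD2_c41 LD3_c35)) :=
  Lgr Lrot35 (Lpe (f104658 IH) (Lpr_bf (f152359 IH) (Lpe (f104650 IH) (Lpn (LP (LK LD1_c0 LD2_c41 LD3_c35))))))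
theorem f104674 : Led Lsl_et (LP (LK LD1_c0 LD2_c41 LD3_c35)) = (LP (LK LD1_c0 LD2_c18 LD3_c35)) :=
  Lre_e IH (LK LD1_c0 LD2_c41 LD3_c35) (LK LD1_c0 LD2_c18 LD3_c35) Lrfl Lrfl
theorem f152378 : Led Lsl_bf (LP (LK LD1_c0 LD2_c30 LD3_c12)) = (LP (LK LD1_c0 LD2_c18 LD3_c35)) :=
  Lgr Lrot96 (Lpr_et (K5.f104673 IH) (Lpr_bt (f152367 IH) (Lpr_et (f104674 IH) (Lpn (LP (LK LD1_c0 LD2_c18 LD3_c35))))))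
theorem f131398 : Led Lsl_ff (LP (LK LD1_c0 LD2_c18 LD3_c56)) = (LP (LK LD1_c0 LD2_c30 LD3_c12)) :=
  Lgr Lrot3 (Lpr_ft (K5.f131390 IH) (Lpn (LP (LK LD1_c0 LD2_c30 LD3_c12))))
theorem f152386 : Led Lsl_ft (LP (LK LD1_c0 LD2_c30 LD3_c32)) = (LP (LK LD1_c0 LD2_c18 LD3_c35)) :=
  Lgr Lrot75 (Lpe (K5.f131548 IH) (Lpr_ff (f131398 IH) (Lpr_bf (f152378 IH) (Lpn (LP (LK LD1_c0 LD2_c18 LD3_c35))))))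
theorem f131561 : Led Lsl_ct (LP (LK LD1_c1 LD2_c6 LD3_c42)) = (LP (LK LD1_c2 LD2_c19 LD3_c7)) :=
  Lre_c IH (LK LD1_c1 LD2_c6 LD3_c42) (LK LD1_c2 LD2_c19 LD3_c7) Lrfl Lrfl
theorem f104313 : Led Lsl_at (LP (LK LD1_c0 LD2_c18 LD3_c35)) = (LP (LK LD1_c0 LD2_c8 LD3_c21)) :=
  Lre_a IH (LK LD1_c0 LD2_c18 LD3_c35) (LK LD1_c0 LD2_c8 LD3_c21) Lrfl Lrfl
theorem f61138 : Led Lsl_dt (LP (LK LD1_c2 LD2_c18 LD3_c8)) = (LP (LK LD1_c1 LD2_c6 LD3_c5)) :=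
  Lre_d IH (LK LD1_c2 LD2_c18 LD3_c8) (LK LD1_c1 LD2_c6 LD3_c5) Lrfl Lrfl
theorem f61175 : Led Lsl_ct (LP (LK LD1_c4 LD2_c41 LD3_c48)) = (LP (LK LD1_c2 LD2_c18 LD3_c8)) :=
  Lre_c IH (LK LD1_c4 LD2_c41 LD3_c48) (LK LD1_c2 LD2_c18 LD3_c8) Lrfl Lrfl
theorem f152392 : Led Lsl_dt (LP (LK LD1_c2 LD2_c19 LD3_c7)) = (LP (LK LD1_c4 LD2_c41 LD3_c48)) :=
  Lgr Lrot32 (Lpe (f131561 IH) (Lpe (K5.f131552 IH) (Lpr_ft (f152386 IH) (Lpr_at (f104313 IH) (Lpe (K3.f25761 IH) (Lpe (K2.f60991 IH) (Lpe (K3.f60957 IH) (Lpe (f61138 IH) (Lpe (f61175 IH) (Lpn (LP (LK LD1_c4 LD2_c41 LD3_c48))))))))))))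
theorem f152406 : Led Lsl_at (LP (LK LD1_c1 LD2_c29 LD3_c53)) = (LP (LK LD1_c0 LD2_c41 LD3_c38)) :=
  Lre_a IH (LK LD1_c1 LD2_c29 LD3_c53) (LK LD1_c0 LD2_c41 LD3_c38) Lrfl Lrfl
theorem f152407 : Led Lsl_ft (LP (LK LD1_c2 LD2_c19 LD3_c7)) = (LP (LK LD1_c1 LD2_c29 LD3_c53)) :=
  Lgr Lrot142 (Lpr_dt (f152392 IH) (Lpr_ct (f61175 IH) (Lpr_dt (f61138 IH) (Lpr_ct (K3.f60957 IH) (Lpr_dt (K2.f60991 IH) (Lpr_ct (K3.f25761 IH) (Lpr_dt (K1.f25017 IH) (Lpr_ct (K3.f58915 IH) (Lpe (f152406 IH) (Lpn (LP (LK LD1_c1 LD2_c29 LD3_c53))))))))))))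
theorem f152424 : Led Lsl_ff (LP (LK LD1_c2 LD2_c19 LD3_c7)) = (LP (LK LD1_c1 LD2_c29 LD3_c53)) :=
  Lgr Lrot3 (Lpr_ft (f152407 IH) (Lpn (LP (LK LD1_c1 LD2_c29 LD3_c53))))
theorem f150585 : Led Lsl_at (LP (LK LD1_c2 LD2_c19 LD3_c7)) = (LP (LK LD1_c1 LD2_c6 LD3_c46)) :=
  Lre_a IH (LK LD1_c2 LD2_c19 LD3_c7) (LK LD1_c1 LD2_c6 LD3_c46) Lrfl Lrfl
theorem f61660 : Led Lsl_dt (LP (LK LD1_c0 LD2_c13 LD3_c33)) = (LP (LK LD1_c0 LD2_c30 LD3_c33)) :=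
  Lre_d IH (LK LD1_c0 LD2_c13 LD3_c33) (LK LD1_c0 LD2_c30 LD3_c33) Lrfl Lrfl
theorem f69129 : Led Lsl_dt (LP (LK LD1_c1 LD2_c31 LD3_c50)) = (LP (LK LD1_c0 LD2_c42 LD3_c29)) :=
  Lre_d IH (LK LD1_c1 LD2_c31 LD3_c50) (LK LD1_c0 LD2_c42 LD3_c29) Lrfl Lrfl
theorem f104716 : Led Lsl_dt (LP (LK LD1_c1 LD2_c29 LD3_c53)) = (LP (LK LD1_c3 LD2_c7 LD3_c18)) :=
  Lre_d IH (LK LD1_c1 LD2_c29 LD3_c53) (LK LD1_c3 LD2_c7 LD3_c18) Lrfl Lrfl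
theorem f152451 : Led Lsl_cf (LP (LK LD1_c1 LD2_c31 LD3_c50)) = (LP (LK LD1_c3 LD2_c7 LD3_c18)) :=
  Lgr Lrot118 (Lpr_dt (f69129 IH) (Lpr_ct (K3.f69134 IH) (Lpr_dt (K2.f61251 IH) (Lpe (K2.f26316 IH) (Lpr_dt (f61660 IH) (Lpr_ct (K5.f26256 IH) (Lpe (f150585 IH) (Lpr_ff (f152424 IH) (Lpr_dt (f104716 IH) (Lpn (LP (LK LD1_c3 LD2_c7 LD3_c18))))))))))))
theorem f69152 : Led Lsl_gt (LP (LK LD1_c3 LD2_c10 LD3_c50)) = (LP (LK LD1_c1 LD2_c31 LD3_c50)) :=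
  Lre_g IH (LK LD1_c3 LD2_c10 LD3_c50) (LK LD1_c1 LD2_c31 LD3_c50) Lrfl Lrfl
theorem f128870 : Led Lsl_et (LP (LK LD1_c6 LD2_c28 LD3_c24)) = (LP (LK LD1_c3 LD2_c12 LD3_c9)) :=
  Lre_e IH (LK LD1_c6 LD2_c28 LD3_c24) (LK LD1_c3 LD2_c12 LD3_c9) Lrfl Lrfl
theorem f110808 : Led Lsl_et (LP (LK LD1_c3 LD2_c7 LD3_c13)) = (LP (LK LD1_c6 LD2_c19 LD3_c29)) :=
  Lre_e IH (LK LD1_c3 LD2_c7 LD3_c13) (LK LD1_c6 LD2_c19 LD3_c29) Lrfl Lrfl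
theorem f128871 : Led Lsl_af (LP (LK LD1_c6 LD2_c28 LD3_c24)) = (LP (LK LD1_c6 LD2_c19 LD3_c29)) :=
  Lgr Lrot50 (Lpr_et (f128870 IH) (Lpr_at (K5.f128862 IH) (Lpr_et (f110808 IH) (Lpn (LP (LK LD1_c6 LD2_c19 LD3_c29))))))
theorem f128873 : Led Lsl_at (LP (LK LD1_c6 LD2_c28 LD3_c24)) = (LP (LK LD1_c6 LD2_c19 LD3_c29)) :=
  Lgr Lrot100 (Lpr_af (f128871 IH) (Lpn (LP (LK LD1_c6 LD2_c19 LD3_c29))))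
theorem f93870 : Led Lsl_et (LP (LK LD1_c6 LD2_c38 LD3_c21)) = (LP (LK LD1_c3 LD2_c17 LD3_c29)) :=
  Lre_e IH (LK LD1_c6 LD2_c38 LD3_c21) (LK LD1_c3 LD2_c17 LD3_c29) Lrfl Lrfl
theorem f128847 : Led Lsl_bt (LP (LK LD1_c6 LD2_c19 LD3_c29)) = (LP (LK LD1_c6 LD2_c38 LD3_c21)) :=
  Lgr Lrot119 (Lpe (f110808 IH) (Lpr_bf (K5.f128843 IH) (Lpe (f93870 IH) (Lpn (LP (LK LD1_c6 LD2_c38 LD3_c21))))))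
theorem f93991 : Led Lsl_at (LP (LK LD1_c6 LD2_c38 LD3_c21)) = (LP (LK LD1_c3 LD2_c17 LD3_c32)) :=
  Lre_a IH (LK LD1_c6 LD2_c38 LD3_c21) (LK LD1_c3 LD2_c17 LD3_c32) Lrfl Lrfl
theorem f93294 : Led Lsl_af (LP (LK LD1_c3 LD2_c16 LD3_c9)) = (LP (LK LD1_c1 LD2_c35 LD3_c20)) :=
  Lgr Lrot68 (Lpr_ct (K3.f69282 IH) (Lpr_at (K3.f93288 IH) (Lpr_ct (K3.f62187 IH) (Lpn (LP (LK LD1_c1 LD2_c35 LD3_c20))))))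
theorem f128875 : Led Lsl_bf (LP (LK LD1_c6 LD2_c28 LD3_c24)) = (LP (LK LD1_c3 LD2_c16 LD3_c9)) :=
  Lgr Lrot81 (Lpr_at (f128873 IH) (Lpr_bt (f128847 IH) (Lpr_at (f93991 IH) (Lpr_bt (K4.f62260 IH) (Lpe (f93294 IH) (Lpn (LP (LK LD1_c3 LD2_c16 LD3_c9))))))))
theorem f128882 : Led Lsl_bt (LP (LK LD1_c3 LD2_c12 LD3_c9)) = (LP (LK LD1_c1 LD2_c34 LD3_c50)) :=
  Lgr Lrot119 (Lpe (f128870 IH) (Lpr_bf (f128875 IH) (Lpe (K3.f69280 IH) (Lpn (LP (LK LD1_c1 LD2_c34 LD3_c50))))))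
theorem f69130 : Led Lsl_bt (LP (LK LD1_c2 LD2_c57 LD3_c1)) = (LP (LK LD1_c1 LD2_c31 LD3_c50)) :=
  Lgr Lrot95 (Lpe (K6.f26503 IH) (Lpr_bf (K6.f68986 IH) (Lpe (f69129 IH) (Lpn (LP (LK LD1_c1 LD2_c31 LD3_c50))))))
theorem f91360 : Led Lsl_bf (LP (LK LD1_c3 LD2_c10 LD3_c50)) = (LP (LK LD1_c1 LD2_c38 LD3_c0)) :=
  Lgr Lrot156 (Lpr_gt (f69152 IH) (Lpe (f69130 IH) (Lpr_ct (K6.f26518 IH) (Lpe (K6.f91358 IH) (Lpr_cf (K5.f91320 IH) (Lpr_bt (K6.f14582 IH) (Lpr_gt (K2.f14577 IH) (Lpr_ct (K2.f14977 IH) (Lpr_gt (K2.f59568 IH) (Lpe (K2.f69277 IH) (Lpn (LP (LK LD1_c1 LD2_c38 LD3_c0)))))))))))))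
theorem f128884 : Led Lsl_cf (LP (LK LD1_c3 LD2_c12 LD3_c9)) = (LP (LK LD1_c3 LD2_c10 LD3_c50)) :=
  Lgr Lrot97 (Lpr_bt (f128882 IH) (Lpr_ct (K3.f69278 IH) (Lpr_bt (K3.f9806 IH) (Lpr_ct (K2.f69269 IH) (Lpe (f91360 IH) (Lpn (LP (LK LD1_c3 LD2_c10 LD3_c50))))))))
theorem f128886 : Led Lsl_ct (LP (LK LD1_c3 LD2_c12 LD3_c9)) = (LP (LK LD1_c3 LD2_c10 LD3_c50)) :=
  Lgr Lrot59 (Lpr_cf (f128884 IH) (Lpn (LP (LK LD1_c3 LD2_c10 LD3_c50))))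
theorem f152467 : Led Lsl_bt (LP (LK LD1_c3 LD2_c7 LD3_c18)) = (LP (LK LD1_c6 LD2_c19 LD3_c36)) :=
  Lre_b IH (LK LD1_c3 LD2_c7 LD3_c18) (LK LD1_c6 LD2_c19 LD3_c36) Lrfl Lrfl
theorem f152468 : Led Lsl_gf (LP (LK LD1_c9 LD2_c23 LD3_c16)) = (LP (LK LD1_c6 LD2_c19 LD3_c36)) :=
  Lgr Lrot181 (Lpr_ct (f69317 IH) (Lpr_gt (f14062 IH) (Lpe (K0.f14040 IH) (Lpr_bt (f69316 IH) (Lpr_gt (K3.f63841 IH) (Lpe (f128882 IH) (Lpr_ct (f128886 IH) (Lpr_gt (f69152 IH) (Lpr_cf (f152451 IH) (Lpr_bt (f152467 IH) (Lpn (LP (LK LD1_c6 LD2_c19 LD3_c36)))))))))))))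
theorem f15555 : Led Lsl_gt (LP (LK LD1_c6 LD2_c56 LD3_c37)) = (LP (LK LD1_c3 LD2_c27 LD3_c19)) :=
  Lre_g IH (LK LD1_c6 LD2_c56 LD3_c37) (LK LD1_c3 LD2_c27 LD3_c19) Lrfl Lrfl
theorem f152470 : Led Lsl_dt (LP (LK LD1_c3 LD2_c7 LD3_c17)) = (LP (LK LD1_c6 LD2_c19 LD3_c36)) :=
  Lre_d IH (LK LD1_c3 LD2_c7 LD3_c17) (LK LD1_c6 LD2_c19 LD3_c36) Lrfl Lrfl
theorem f152472 : Led Lsl_gt (LP (LK LD1_c3 LD2_c7 LD3_c17)) = (LP (LK LD1_c6 LD2_c19 LD3_c34)) :=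
  Lre_g IH (LK LD1_c3 LD2_c7 LD3_c17) (LK LD1_c6 LD2_c19 LD3_c34) Lrfl Lrfl
theorem f152473 : Led Lsl_cf (LP (LK LD1_c6 LD2_c56 LD3_c37)) = (LP (LK LD1_c6 LD2_c19 LD3_c34)) :=
  Lgr Lrot169 (Lpr_gt (f15555 IH) (Lpr_ct (K6.f14050 IH) (Lpe (K4.f14347 IH) (Lpe (K4.f14346 IH) (Lpe (f14062 IH) (Lpe (f69317 IH) (Lpr_gf (f152468 IH) (Lpe (f152470 IH) (Lpr_gt (f152472 IH) (Lpn (LP (LK LD1_c6 LD2_c19 LD3_c34))))))))))))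
theorem f152417 : Led Lsl_bt (LP (LK LD1_c1 LD2_c29 LD3_c53)) = (LP (LK LD1_c3 LD2_c7 LD3_c17)) :=
  Lre_b IH (LK LD1_c1 LD2_c29 LD3_c53) (LK LD1_c3 LD2_c7 LD3_c17) Lrfl Lrfl
theorem f104686 : Led Lsl_ct (LP (LK LD1_c1 LD2_c29 LD3_c53)) = (LP (LK LD1_c0 LD2_c41 LD3_c34)) :=
  Lre_c IH (LK LD1_c1 LD2_c29 LD3_c53) (LK LD1_c0 LD2_c41 LD3_c34) Lrfl Lrfl
theorem f152484 : Led Lsl_gt (LP (LK LD1_c1 LD2_c6 LD3_c44)) = (LP (LK LD1_c0 LD2_c41 LD3_c34)) :=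
  Lgr Lrot65 (Lpe (K4.f120119 IH) (Lpr_bt (K6.f120156 IH) (Lpe (K3.f65102 IH) (Lpe (K6.f15554 IH) (Lpr_ct (K4.f15530 IH) (Lpe (f15555 IH) (Lpr_cf (f152473 IH) (Lpe (f152472 IH) (Lpe (f152417 IH) (Lpr_ct (f104686 IH) (Lpn (LP (LK LD1_c0 LD2_c41 LD3_c34)))))))))))))
theorem f120174 : Led Lsl_bt (LP (LK LD1_c2 LD2_c19 LD3_c10)) = (LP (LK LD1_c1 LD2_c6 LD3_c44)) :=
  Lre_b IH (LK LD1_c2 LD2_c19 LD3_c10) (LK LD1_c1 LD2_c6 LD3_c44) Lrfl Lrfl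
theorem f25294 : Led Lsl_dt (LP (LK LD1_c2 LD2_c20 LD3_c7)) = (LP (LK LD1_c1 LD2_c7 LD3_c19)) :=
  Lre_d IH (LK LD1_c2 LD2_c20 LD3_c7) (LK LD1_c1 LD2_c7 LD3_c19) Lrfl Lrfl
theorem f129610 : Led Lsl_gf (LP (LK LD1_c2 LD2_c20 LD3_c7)) = (LP (LK LD1_c1 LD2_c41 LD3_c26)) :=
  Lgr Lrot144 (Lpr_dt (f25294 IH) (Lpr_gt (K5.f25393 IH) (Lpe (K5.f127073 IH) (Lpr_cf (K3.f89813 IH) (Lpe (K5.f127255 IH) (Lpr_gf (K5.f129608 IH) (Lpe (K3.f91961 IH) (Lpr_gf (K3.f108884 IH) (Lpe (K4.f11448 IH) (Lpn (LP (LK LD1_c1 LD2_c41 LD3_c26))))))))))))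
theorem f62587 : Led Lsl_ct (LP (LK LD1_c1 LD2_c36 LD3_c15)) = (LP (LK LD1_c0 LD2_c44 LD3_c37)) :=
  Lre_c IH (LK LD1_c1 LD2_c36 LD3_c15) (LK LD1_c0 LD2_c44 LD3_c37) Lrfl Lrfl
theorem f144026 : Led Lsl_gf (LP (LK LD1_c2 LD2_c21 LD3_c47)) = (LP (LK LD1_c1 LD2_c36 LD3_c15)) :=
  Lgr Lrot144 (Lpr_dt (K4.f109965 IH) (Lpe (f129610 IH) (Lpr_dt (f25294 IH) (Lpe (K4.f25292 IH) (Lpe (K5.f25295 IH) (Lpe (K2.f23310 IH) (Lpe (K3.f78111 IH) (Lpr_gf (K6.f144022 IH) (Lpe (f62587 IH) (Lpn (LP (LK LD1_c1 LD2_c36 LD3_c15))))))))))))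
theorem f62584 : Led Lsl_ct (LP (LK LD1_c0 LD2_c44 LD3_c37)) = (LP (LK LD1_c1 LD2_c36 LD3_c15)) :=
  Lre_c IH (LK LD1_c0 LD2_c44 LD3_c37) (LK LD1_c1 LD2_c36 LD3_c15) Lrfl Lrfl
theorem f120382 : Led Lsl_af (LP (LK LD1_c1 LD2_c7 LD3_c15)) = (LP (LK LD1_c0 LD2_c43 LD3_c30)) :=
  Lgr Lrot0 (Lpr_at (K4.f120380 IH) (Lpn (LP (LK LD1_c0 LD2_c43 LD3_c30))))
theorem f107368 : Led Lsl_ff (LP (LK LD1_c0 LD2_c43 LD3_c30)) = (LP (LK LD1_c1 LD2_c7 LD3_c12)) :=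
  Lgr Lrot23 (Lpr_ct (K3.f26162 IH) (Lpr_ft (K3.f107366 IH) (Lpr_ct (K3.f23483 IH) (Lpn (LP (LK LD1_c1 LD2_c7 LD3_c12))))))
theorem f144024 : Led Lsl_gt (LP (LK LD1_c1 LD2_c7 LD3_c12)) = (LP (LK LD1_c0 LD2_c44 LD3_c37)) :=
  Lgr Lrot5 (Lpe (f107368 IH) (Lpe (f120382 IH) (Lpr_gf (K6.f144022 IH) (Lpn (LP (LK LD1_c0 LD2_c44 LD3_c37))))))
theorem f104682 : Led Lsl_dt (LP (LK LD1_c0 LD2_c30 LD3_c12)) = (LP (LK LD1_c1 LD2_c6 LD3_c1)) :=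
  Lre_d IH (LK LD1_c0 LD2_c30 LD3_c12) (LK LD1_c1 LD2_c6 LD3_c1) Lrfl Lrfl
theorem f104685 : Led Lsl_dt (LP (LK LD1_c0 LD2_c41 LD3_c34)) = (LP (LK LD1_c0 LD2_c18 LD3_c35)) :=
  Lre_d IH (LK LD1_c0 LD2_c41 LD3_c34) (LK LD1_c0 LD2_c18 LD3_c35) Lrfl Lrfl
theorem f152384 : Led Lsl_bt (LP (LK LD1_c1 LD2_c6 LD3_c1)) = (LP (LK LD1_c0 LD2_c41 LD3_c34)) :=
  Lgr Lrot95 (Lpe (f104682 IH) (Lpr_bf (f152378 IH) (Lpe (f104685 IH) (Lpn (LP (LK LD1_c0 LD2_c41 LD3_c34))))))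
theorem f104683 : Led Lsl_ct (LP (LK LD1_c1 LD2_c6 LD3_c1)) = (LP (LK LD1_c2 LD2_c17 LD3_c60)) :=
  Lre_c IH (LK LD1_c1 LD2_c6 LD3_c1) (LK LD1_c2 LD2_c17 LD3_c60) Lrfl Lrfl
theorem f152497 : Led Lsl_gf (LP (LK LD1_c1 LD2_c31 LD3_c49)) = (LP (LK LD1_c2 LD2_c17 LD3_c60)) :=
  Lgr Lrot126 (Lpr_cf (K3.f109978 IH) (Lpr_bt (K3.f23481 IH) (Lpr_gt (f144024 IH) (Lpr_ct (f62584 IH) (Lpe (f144026 IH) (Lpe (K4.f120158 IH) (Lpr_bt (f120174 IH) (Lpr_gt (f152484 IH) (Lpe (f152384 IH) (Lpr_ct (f104683 IH) (Lpn (LP (LK LD1_c2 LD2_c17 LD3_c60)))))))))))))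
theorem f109985 : Led Lsl_ct (LP (LK LD1_c1 LD2_c31 LD3_c49)) = (LP (LK LD1_c2 LD2_c19 LD3_c47)) :=
  Lgr Lrot59 (Lpr_cf (K3.f109978 IH) (Lpn (LP (LK LD1_c2 LD2_c19 LD3_c47))))
theorem f104713 : Led Lsl_dt (LP (LK LD1_c4 LD2_c41 LD3_c41)) = (LP (LK LD1_c2 LD2_c17 LD3_c60)) :=
  Lre_d IH (LK LD1_c4 LD2_c41 LD3_c41) (LK LD1_c2 LD2_c17 LD3_c60) Lrfl Lrfl
theorem f152523 : Led Lsl_gf (LP (LK LD1_c3 LD2_c10 LD3_c50)) = (LP (LK LD1_c4 LD2_c41 LD3_c41)) :=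
  Lgr Lrot147 (Lpe (f128884 IH) (Lpr_gt (K5.f128888 IH) (Lpr_ct (K5.f131598 IH) (Lpe (K5.f60990 IH) (Lpe (K2.f60965 IH) (Lpe (K3.f104183 IH) (Lpe (f109985 IH) (Lpr_gf (f152497 IH) (Lpe (f104713 IH) (Lpn (LP (LK LD1_c4 LD2_c41 LD3_c41))))))))))))
theorem f62876 : Led Lsl_gt (LP (LK LD1_c0 LD2_c19 LD3_c6)) = (LP (LK LD1_c0 LD2_c42 LD3_c54)) :=
  Lre_g IH (LK LD1_c0 LD2_c19 LD3_c6) (LK LD1_c0 LD2_c42 LD3_c54) Lrfl Lrfl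
theorem f26108 : Led Lsl_gt (LP (LK LD1_c1 LD2_c32 LD3_c41)) = (LP (LK LD1_c0 LD2_c42 LD3_c56)) :=
  Lre_g IH (LK LD1_c1 LD2_c32 LD3_c41) (LK LD1_c0 LD2_c42 LD3_c56) Lrfl Lrfl
theorem f124823 : Led Lsl_dt (LP (LK LD1_c1 LD2_c32 LD3_c41)) = (LP (LK LD1_c3 LD2_c12 LD3_c28)) :=
  Lre_d IH (LK LD1_c1 LD2_c32 LD3_c41) (LK LD1_c3 LD2_c12 LD3_c28) Lrfl Lrfl
theorem f124082 : Led Lsl_dt (LP (LK LD1_c1 LD2_c6 LD3_c46)) = (LP (LK LD1_c2 LD2_c19 LD3_c18)) :=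
  Lre_d IH (LK LD1_c1 LD2_c6 LD3_c46) (LK LD1_c2 LD2_c19 LD3_c18) Lrfl Lrfl
theorem f104715 : Led Lsl_ct (LP (LK LD1_c0 LD2_c41 LD3_c34)) = (LP (LK LD1_c1 LD2_c29 LD3_c53)) :=
  Lre_c IH (LK LD1_c0 LD2_c41 LD3_c34) (LK LD1_c1 LD2_c29 LD3_c53) Lrfl Lrfl
theorem f104714 : Led Lsl_dt (LP (LK LD1_c0 LD2_c18 LD3_c35)) = (LP (LK LD1_c0 LD2_c41 LD3_c34)) :=
  Lre_d IH (LK LD1_c0 LD2_c18 LD3_c35) (LK LD1_c0 LD2_c41 LD3_c34) Lrfl Lrfl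
theorem f104312 : Led Lsl_at (LP (LK LD1_c0 LD2_c13 LD3_c25)) = (LP (LK LD1_c0 LD2_c30 LD3_c12)) :=
  Lre_a IH (LK LD1_c0 LD2_c13 LD3_c25) (LK LD1_c0 LD2_c30 LD3_c12) Lrfl Lrfl
theorem f104314 : Led Lsl_ct (LP (LK LD1_c0 LD2_c30 LD3_c12)) = (LP (LK LD1_c0 LD2_c18 LD3_c35)) :=
  Lgr Lrot111 (Lpe (f104312 IH) (Lpr_cf (K3.f104310 IH) (Lpe (f104313 IH) (Lpn (LP (LK LD1_c0 LD2_c18 LD3_c35))))))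
theorem f104688 : Led Lsl_dt (LP (LK LD1_c1 LD2_c6 LD3_c1)) = (LP (LK LD1_c0 LD2_c30 LD3_c12)) :=
  Lre_d IH (LK LD1_c1 LD2_c6 LD3_c1) (LK LD1_c0 LD2_c30 LD3_c12) Lrfl Lrfl
theorem f104689 : Led Lsl_ct (LP (LK LD1_c2 LD2_c17 LD3_c60)) = (LP (LK LD1_c1 LD2_c6 LD3_c1)) :=
  Lre_c IH (LK LD1_c2 LD2_c17 LD3_c60) (LK LD1_c1 LD2_c6 LD3_c1) Lrfl Lrfl
theorem f152459 : Led Lsl_ct (LP (LK LD1_c2 LD2_c19 LD3_c18)) = (LP (LK LD1_c4 LD2_c41 LD3_c41)) :=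
  Lgr Lrot176 (Lpe (f124082 IH) (Lpe (K5.f26256 IH) (Lpe (f61660 IH) (Lpr_cf (K2.f26316 IH) (Lpe (K2.f61251 IH) (Lpe (K3.f69134 IH) (Lpe (f69129 IH) (Lpr_cf (f152451 IH) (Lpe (f104716 IH) (Lpe (f104715 IH) (Lpe (f104714 IH) (Lpe (f104314 IH) (Lpe (f104688 IH) (Lpe (f104689 IH) (Lpe (f104713 IH) (Lpn (LP (LK LD1_c4 LD2_c41 LD3_c41))))))))))))))))))
theorem f152525 : Led Lsl_gt (LP (LK LD1_c3 LD2_c12 LD3_c28)) = (LP (LK LD1_c2 LD2_c19 LD3_c18)) :=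
  Lgr Lrot9 (Lpe (f124823 IH) (Lpr_gt (f26108 IH) (Lpr_ct (K4.f26081 IH) (Lpr_gt (f62876 IH) (Lpr_ct (K4.f62867 IH) (Lpe (K5.f112035 IH) (Lpr_cf (f128884 IH) (Lpr_gf (f152523 IH) (Lpe (f152459 IH) (Lpn (LP (LK LD1_c2 LD2_c19 LD3_c18))))))))))))
theorem f150452 : Led Lsl_at (LP (LK LD1_c1 LD2_c6 LD3_c46)) = (LP (LK LD1_c2 LD2_c19 LD3_c7)) :=
  Lre_a IH (LK LD1_c1 LD2_c6 LD3_c46) (LK LD1_c2 LD2_c19 LD3_c7) Lrfl Lrfl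
theorem f26266 : Led Lsl_dt (LP (LK LD1_c2 LD2_c19 LD3_c18)) = (LP (LK LD1_c1 LD2_c6 LD3_c46)) :=
  Lre_d IH (LK LD1_c2 LD2_c19 LD3_c18) (LK LD1_c1 LD2_c6 LD3_c46) Lrfl Lrfl
theorem f152394 : Led Lsl_af (LP (LK LD1_c2 LD2_c19 LD3_c18)) = (LP (LK LD1_c4 LD2_c41 LD3_c48)) :=
  Lgr Lrot117 (Lpr_dt (f26266 IH) (Lpr_at (f150452 IH) (Lpr_dt (f152392 IH) (Lpn (LP (LK LD1_c4 LD2_c41 LD3_c48))))))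
theorem f152398 : Led Lsl_df (LP (LK LD1_c2 LD2_c19 LD3_c7)) = (LP (LK LD1_c4 LD2_c41 LD3_c48)) :=
  Lgr Lrot38 (Lpr_dt (f152392 IH) (Lpn (LP (LK LD1_c4 LD2_c41 LD3_c48))))
theorem f152420 : Led Lsl_ff (LP (LK LD1_c4 LD2_c41 LD3_c48)) = (LP (LK LD1_c3 LD2_c7 LD3_c18)) :=
  Lgr Lrot19 (Lpe (f152398 IH) (Lpr_ft (f152407 IH) (Lpr_dt (f104716 IH) (Lpn (LP (LK LD1_c3 LD2_c7 LD3_c18))))))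
theorem f152598 : Led Lsl_gf (LP (LK LD1_c3 LD2_c12 LD3_c28)) = (LP (LK LD1_c3 LD2_c7 LD3_c18)) :=
  Lgr Lrot47 (Lpr_gt (f152525 IH) (Lpr_af (f152394 IH) (Lpr_ff (f152420 IH) (Lpn (LP (LK LD1_c3 LD2_c7 LD3_c18))))))
theorem f128889 : Led Lsl_dt (LP (LK LD1_c3 LD2_c12 LD3_c28)) = (LP (LK LD1_c1 LD2_c32 LD3_c41)) :=
  Lre_d IH (LK LD1_c3 LD2_c12 LD3_c28) (LK LD1_c1 LD2_c32 LD3_c41) Lrfl Lrfl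
theorem f61011 : Led Lsl_bt (LP (LK LD1_c0 LD2_c19 LD3_c6)) = (LP (LK LD1_c0 LD2_c8 LD3_c36)) :=
  Lre_b IH (LK LD1_c0 LD2_c19 LD3_c6) (LK LD1_c0 LD2_c8 LD3_c36) Lrfl Lrfl
theorem f116063 : Led Lsl_bf (LP (LK LD1_c0 LD2_c51 LD3_c6)) = (LP (LK LD1_c1 LD2_c31 LD3_c38)) :=
  Lgr Lrot93 (Lpr_dt (K4.f116055 IH) (Lpe (K4.f82411 IH) (Lpr_dt (K4.f82441 IH) (Lpn (LP (LK LD1_c1 LD2_c31 LD3_c38))))))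
theorem f124193 : Led Lsl_cf (LP (LK LD1_c1 LD2_c32 LD3_c41)) = (LP (LK LD1_c1 LD2_c31 LD3_c38)) :=
  Lgr Lrot160 (Lpr_gt (f26108 IH) (Lpe (K5.f26145 IH) (Lpr_bt (f61011 IH) (Lpr_gt (K1.f13541 IH) (Lpr_ct (K2.f61248 IH) (Lpe (K4.f61280 IH) (Lpe (K4.f58939 IH) (Lpr_bt (K4.f124152 IH) (Lpr_gt (K4.f86815 IH) (Lpr_bf (f116063 IH) (Lpn (LP (LK LD1_c1 LD2_c31 LD3_c38)))))))))))))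
theorem f125517 : Led Lsl_gt (LP (LK LD1_c1 LD2_c31 LD3_c33)) = (LP (LK LD1_c0 LD2_c42 LD3_c22)) :=
  Lgr Lrot9 (Lpe (K5.f125469 IH) (Lpr_gt (K5.f125515 IH) (Lpe (K5.f124074 IH) (Lpr_gt (K5.f26267 IH) (Lpr_ct (K6.f26265 IH) (Lpe (f61660 IH) (Lpr_cf (K2.f26316 IH) (Lpe (K3.f21009 IH) (Lpe (K3.f82408 IH) (Lpn (LP (LK LD1_c0 LD2_c42 LD3_c22))))))))))))
theorem f125521 : Led Lsl_gt (LP (LK LD1_c1 LD2_c33 LD3_c4)) = (LP (LK LD1_c3 LD2_c10 LD3_c31)) :=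
  Lgr Lrot46 (Lpr_gf (K5.f125519 IH) (Lpr_ft (K4.f118716 IH) (Lpe (K5.f125496 IH) (Lpn (LP (LK LD1_c3 LD2_c10 LD3_c31))))))
theorem f152603 : Led Lsl_gt (LP (LK LD1_c2 LD2_c19 LD3_c16)) = (LP (LK LD1_c1 LD2_c29 LD3_c53)) :=
  Lgr Lrot180 (Lpe (K5.f124538 IH) (Lpr_gt (f125521 IH) (Lpr_dt (K5.f125469 IH) (Lpr_gt (f125517 IH) (Lpr_dt (K4.f82441 IH) (Lpe (f124193 IH) (Lpe (f128889 IH) (Lpr_gf (f152598 IH) (Lpe (f104716 IH) (Lpn (LP (LK LD1_c1 LD2_c29 LD3_c53))))))))))))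
theorem f152612 : Led Lsl_gt (LP (LK LD1_c0 LD2_c18 LD3_c54)) = (LP (LK LD1_c0 LD2_c30 LD3_c12)) :=
  Lgr Lrot150 (Lpe (K5.f82404 IH) (Lpe (K5.f124821 IH) (Lpr_df (K1.f61937 IH) (Lpe (K5.f125519 IH) (Lpr_ct (K5.f124542 IH) (Lpr_gt (f152603 IH) (Lpr_ct (f104686 IH) (Lpe (f104714 IH) (Lpe (f104314 IH) (Lpn (LP (LK LD1_c0 LD2_c30 LD3_c12))))))))))))
theorem f125533 : Led Lsl_dt (LP (LK LD1_c0 LD2_c19 LD3_c10)) = (LP (LK LD1_c0 LD2_c42 LD3_c27)) :=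
  Lgr Lrot42 (Lpr_df (K5.f125523 IH) (Lpn (LP (LK LD1_c0 LD2_c42 LD3_c27))))
theorem f125558 : Led Lsl_bt (LP (LK LD1_c0 LD2_c22 LD3_c46)) = (LP (LK LD1_c0 LD2_c19 LD3_c10)) :=
  Lgr Lrot95 (Lpe (K4.f107288 IH) (Lpr_bf (K5.f125555 IH) (Lpe (f125533 IH) (Lpn (LP (LK LD1_c0 LD2_c19 LD3_c10))))))
theorem f125657 : Led Lsl_ef (LP (LK LD1_c0 LD2_c18 LD3_c54)) = (LP (LK LD1_c0 LD2_c19 LD3_c10)) :=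
  Lgr Lrot29 (Lpr_bt (K5.f124827 IH) (Lpr_et (K5.f125653 IH) (Lpr_bt (f125558 IH) (Lpn (LP (LK LD1_c0 LD2_c19 LD3_c10))))))
theorem f129044 : Led Lsl_et (LP (LK LD1_c0 LD2_c42 LD3_c24)) = (LP (LK LD1_c0 LD2_c18 LD3_c55)) :=
  Lre_e IH (LK LD1_c0 LD2_c42 LD3_c24) (LK LD1_c0 LD2_c18 LD3_c55) Lrfl Lrfl
theorem f109184 : Led Lsl_dt (LP (LK LD1_c0 LD2_c42 LD3_c24)) = (LP (LK LD1_c1 LD2_c31 LD3_c41)) :=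
  Lre_d IH (LK LD1_c0 LD2_c42 LD3_c24) (LK LD1_c1 LD2_c31 LD3_c41) Lrfl Lrfl
theorem f104708 : Led Lsl_et (LP (LK LD1_c1 LD2_c6 LD3_c2)) = (LP (LK LD1_c0 LD2_c30 LD3_c12)) :=
  Lre_e IH (LK LD1_c1 LD2_c6 LD3_c2) (LK LD1_c0 LD2_c30 LD3_c12) Lrfl Lrfl
theorem f104629 : Led Lsl_dt (LP (LK LD1_c1 LD2_c6 LD3_c2)) = (LP (LK LD1_c2 LD2_c18 LD3_c1)) :=
  Lre_d IH (LK LD1_c1 LD2_c6 LD3_c2) (LK LD1_c2 LD2_c18 LD3_c1) Lrfl Lrfl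
theorem f152624 : Led Lsl_gf (LP (LK LD1_c1 LD2_c31 LD3_c41)) = (LP (LK LD1_c2 LD2_c18 LD3_c1)) :=
  Lgr Lrot145 (Lpe (f109184 IH) (Lpr_et (f129044 IH) (Lpr_gt (K3.f21009 IH) (Lpr_dt (K5.f69132 IH) (Lpr_gt (K5.f68992 IH) (Lpe (f125533 IH) (Lpe (f125657 IH) (Lpr_gt (f152612 IH) (Lpe (f104708 IH) (Lpr_dt (f104629 IH) (Lpn (LP (LK LD1_c2 LD2_c18 LD3_c1)))))))))))))
theorem f131373 : Led Lsl_ft (LP (LK LD1_c2 LD2_c18 LD3_c1)) = (LP (LK LD1_c3 LD2_c10 LD3_c58)) :=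
  Lgr Lrot48 (Lpr_ff (K5.f131366 IH) (Lpn (LP (LK LD1_c3 LD2_c10 LD3_c58))))
theorem f131357 : Led Lsl_af (LP (LK LD1_c2 LD2_c18 LD3_c19)) = (LP (LK LD1_c3 LD2_c10 LD3_c58)) :=
  Lgr Lrot0 (Lpr_at (K5.f131338 IH) (Lpn (LP (LK LD1_c3 LD2_c10 LD3_c58))))
theorem f152628 : Led Lsl_gt (LP (LK LD1_c1 LD2_c31 LD3_c41)) = (LP (LK LD1_c2 LD2_c18 LD3_c19)) :=
  Lgr Lrot46 (Lpr_gf (f152624 IH) (Lpr_ft (f131373 IH) (Lpe (f131357 IH) (Lpn (LP (LK LD1_c2 LD2_c18 LD3_c19))))))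
theorem f25701 : Led Lsl_bt (LP (LK LD1_c0 LD2_c19 LD3_c61)) = (LP (LK LD1_c0 LD2_c44 LD3_c29)) :=
  Lre_b IH (LK LD1_c0 LD2_c19 LD3_c61) (LK LD1_c0 LD2_c44 LD3_c29) Lrfl Lrfl
theorem f25414 : Led Lsl_gt (LP (LK LD1_c1 LD2_c37 LD3_c31)) = (LP (LK LD1_c0 LD2_c45 LD3_c7)) :=
  Lre_g IH (LK LD1_c1 LD2_c37 LD3_c31) (LK LD1_c0 LD2_c45 LD3_c7) Lrfl Lrfl
theorem f131359 : Led Lsl_bt (LP (LK LD1_c1 LD2_c6 LD3_c19)) = (LP (LK LD1_c2 LD2_c18 LD3_c19)) :=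
  Lre_b IH (LK LD1_c1 LD2_c6 LD3_c19) (LK LD1_c2 LD2_c18 LD3_c19) Lrfl Lrfl
theorem f152639 : Led Lsl_cf (LP (LK LD1_c1 LD2_c37 LD3_c31)) = (LP (LK LD1_c1 LD2_c6 LD3_c19)) :=
  Lgr Lrot160 (Lpr_gt (f25414 IH) (Lpe (K2.f7436 IH) (Lpr_bt (f25701 IH) (Lpe (K4.f114159 IH) (Lpr_ct (K4.f78931 IH) (Lpr_gt (K5.f78956 IH) (Lpr_cf (K6.f114275 IH) (Lpr_bt (K6.f114270 IH) (Lpr_gt (f152628 IH) (Lpe (f131359 IH) (Lpn (LP (LK LD1_c1 LD2_c6 LD3_c19)))))))))))))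
theorem f152633 : Led Lsl_gf (LP (LK LD1_c2 LD2_c19 LD3_c39)) = (LP (LK LD1_c2 LD2_c18 LD3_c19)) :=
  Lgr Lrot76 (Lpr_af (K6.f143657 IH) (Lpe (K6.f126304 IH) (Lpr_gt (f152628 IH) (Lpn (LP (LK LD1_c2 LD2_c18 LD3_c19))))))
theorem f143668 : Led Lsl_bf (LP (LK LD1_c2 LD2_c19 LD3_c39)) = (LP (LK LD1_c1 LD2_c48 LD3_c17)) :=
  Lgr Lrot61 (Lpr_ft (K6.f143666 IH) (Lpr_bt (K5.f131304 IH) (Lpr_ft (K5.f125091 IH) (Lpn (LP (LK LD1_c1 LD2_c48 LD3_c17))))))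
theorem f152656 : Led Lsl_gf (LP (LK LD1_c1 LD2_c37 LD3_c31)) = (LP (LK LD1_c1 LD2_c29 LD3_c11)) :=
  Lgr Lrot129 (Lpr_cf (f152639 IH) (Lpr_bt (f131359 IH) (Lpe (f152633 IH) (Lpr_bf (f143668 IH) (Lpr_ct (K5.f124244 IH) (Lpe (K5.f134651 IH) (Lpe (K5.f21077 IH) (Lpr_bt (K6.f24673 IH) (Lpe (K1.f57600 IH) (Lpr_ct (K0.f25625 IH) (Lpn (LP (LK LD1_c1 LD2_c29 LD3_c11)))))))))))))
theorem f152645 : Led Lsl_ct (LP (LK LD1_c1 LD2_c37 LD3_c31)) = (LP (LK LD1_c1 LD2_c6 LD3_c19)) :=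
  Lgr Lrot59 (Lpr_cf (f152639 IH) (Lpn (LP (LK LD1_c1 LD2_c6 LD3_c19))))
theorem f25903 : Led Lsl_dt (LP (LK LD1_c1 LD2_c6 LD3_c19)) = (LP (LK LD1_c0 LD2_c30 LD3_c19)) :=
  Lre_d IH (LK LD1_c1 LD2_c6 LD3_c19) (LK LD1_c0 LD2_c30 LD3_c19) Lrfl Lrfl
theorem f25911 : Led Lsl_ct (LP (LK LD1_c0 LD2_c13 LD3_c29)) = (LP (LK LD1_c0 LD2_c30 LD3_c19)) :=
  Lre_c IH (LK LD1_c0 LD2_c13 LD3_c29) (LK LD1_c0 LD2_c30 LD3_c19) Lrfl Lrfl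
theorem f152662 : Led Lsl_gf (LP (LK LD1_c0 LD2_c13 LD3_c29)) = (LP (LK LD1_c0 LD2_c8 LD3_c24)) :=
  Lgr Lrot104 (Lpr_ct (f25911 IH) (Lpe (f25903 IH) (Lpe (f152645 IH) (Lpr_gf (f152656 IH) (Lpe (K0.f25625 IH) (Lpr_gf (K1.f57600 IH) (Lpe (K1.f21032 IH) (Lpr_gt (f152305 IH) (Lpr_ct (f25797 IH) (Lpn (LP (LK LD1_c0 LD2_c8 LD3_c24))))))))))))
theorem f25779 : Led Lsl_ft (LP (LK LD1_c0 LD2_c8 LD3_c33)) = (LP (LK LD1_c0 LD2_c3 LD3_c54)) :=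
  Lre_f IH (LK LD1_c0 LD2_c8 LD3_c33) (LK LD1_c0 LD2_c3 LD3_c54) Lrfl Lrfl
theorem f25780 : Led Lsl_ft (LP (LK LD1_c0 LD2_c6 LD3_c8)) = (LP (LK LD1_c0 LD2_c13 LD3_c29)) :=
  Lre_f IH (LK LD1_c0 LD2_c6 LD3_c8) (LK LD1_c0 LD2_c13 LD3_c29) Lrfl Lrfl
theorem f25781 : Led Lsl_df (LP (LK LD1_c0 LD2_c8 LD3_c33)) = (LP (LK LD1_c0 LD2_c13 LD3_c29)) :=
  Lgr Lrot78 (Lpr_ft (f25779 IH) (Lpr_dt (K1.f25773 IH) (Lpr_ft (f25780 IH) (Lpn (LP (LK LD1_c0 LD2_c13 LD3_c29))))))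
theorem f83149 : Led Lsl_ef (LP (LK LD1_c0 LD2_c8 LD3_c24)) = (LP (LK LD1_c0 LD2_c8 LD3_c41)) :=
  Lgr Lrot88 (Lpr_et (f83145 IH) (Lpn (LP (LK LD1_c0 LD2_c8 LD3_c41))))
theorem f26318 : Led Lsl_et (LP (LK LD1_c0 LD2_c6 LD3_c12)) = (LP (LK LD1_c0 LD2_c2 LD3_c51)) :=
  Lre_e IH (LK LD1_c0 LD2_c6 LD3_c12) (LK LD1_c0 LD2_c2 LD3_c51) Lrfl Lrfl
theorem f26328 : Led Lsl_df (LP (LK LD1_c0 LD2_c3 LD3_c50)) = (LP (LK LD1_c0 LD2_c6 LD3_c12)) :=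
  Lgr Lrot70 (Lpr_et (K2.f7139 IH) (Lpr_dt (K0.f7118 IH) (Lpr_et (K0.f7138 IH) (Lpq (K0.f25770 IH) (Lpq (K0.f26321 IH) (Lpr_dt (K0.f7182 IH) (Lpr_et (K2.f25738 IH) (Lpn (LP (LK LD1_c0 LD2_c6 LD3_c12))))))))))
theorem f86065 : Led Lsl_ef (LP (LK LD1_c0 LD2_c13 LD3_c28)) = (LP (LK LD1_c0 LD2_c13 LD3_c28)) :=
  Lgr Lrot167 (Lpr_gt (K1.f25754 IH) (Lpe (K1.f20997 IH) (Lpr_gt (K3.f86029 IH) (Lpr_df (K2.f7396 IH) (Lpr_et (K2.f20974 IH) (Lpr_gt (K1.f26372 IH) (Lpe (f26318 IH) (Lpe (f26328 IH) (Lpr_gt (K1.f21012 IH) (Lpr_df (f25803 IH) (Lpn (LP (LK LD1_c0 LD2_c13 LD3_c28)))))))))))))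
theorem f86069 : Led Lsl_dt (LP (LK LD1_c0 LD2_c8 LD3_c41)) = (LP (LK LD1_c0 LD2_c8 LD3_c41)) :=
  Lgr Lrot77 (Lpe (f83145 IH) (Lpr_df (f25803 IH) (Lpr_ef (f86065 IH) (Lpe (K1.f25795 IH) (Lpr_ef (f83149 IH) (Lpn (LP (LK LD1_c0 LD2_c8 LD3_c41))))))))
theorem f7108 : Led Lsl_et (LP (LK LD1_c0 LD2_c1 LD3_c36)) = (LP (LK LD1_c0 LD2_c0 LD3_c38)) :=
  Lre_e IH (LK LD1_c0 LD2_c1 LD3_c36) (LK LD1_c0 LD2_c0 LD3_c38) Lrfl Lrfl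
theorem f86071 : Led Lsl_dt (LP (LK LD1_c0 LD2_c3 LD3_c57)) = (LP (LK LD1_c0 LD2_c3 LD3_c57)) :=
  Lgr Lrot56 (Lpr_et (K2.f7481 IH) (Lpr_gt (K0.f1423 IH) (Lpe (f7108 IH) (Lpr_dt (K0.f7107 IH) (Lpr_gt (K0.f133 IH) (Lpr_df (K0.f23303 IH) (Lpr_et (K2.f23387 IH) (Lpr_gt (f83138 IH) (Lpr_dt (f86069 IH) (Lpr_gt (f23404 IH) (Lpn (LP (LK LD1_c0 LD2_c3 LD3_c57)))))))))))))
theorem f86073 : Led Lsl_df (LP (LK LD1_c0 LD2_c6 LD3_c15)) = (LP (LK LD1_c0 LD2_c6 LD3_c15)) :=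
  Lgr Lrot18 (Lpr_at (K2.f82267 IH) (Lpr_dt (f86071 IH) (Lpe (K2.f82269 IH) (Lpn (LP (LK LD1_c0 LD2_c6 LD3_c15))))))
theorem f152673 : Led Lsl_gt (LP (LK LD1_c0 LD2_c8 LD3_c33)) = (LP (LK LD1_c0 LD2_c4 LD3_c1)) :=
  Lgr Lrot139 (Lpr_df (f25781 IH) (Lpr_gf (f152662 IH) (Lpr_ef (f83149 IH) (Lpr_dt (f86069 IH) (Lpe (f83138 IH) (Lpr_df (f86073 IH) (Lpr_et (K2.f7451 IH) (Lpe (K0.f7177 IH) (Lpe (K2.f7174 IH) (Lpr_dt (K0.f7414 IH) (Lpn (LP (LK LD1_c0 LD2_c4 LD3_c1)))))))))))))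
theorem f152675 : Led Lsl_gf (LP (LK LD1_c0 LD2_c8 LD3_c33)) = (LP (LK LD1_c0 LD2_c8 LD3_c18)) :=
  Lgr Lrot47 (Lpr_gt (f152673 IH) (Lpe (K0.f7427 IH) (Lpe (K0.f25709 IH) (Lpn (LP (LK LD1_c0 LD2_c8 LD3_c18))))))
theorem f152689 : Led Lsl_ef (LP (LK LD1_c0 LD2_c8 LD3_c33)) = (LP (LK LD1_c0 LD2_c13 LD3_c29)) :=
  Lgr Lrot167 (Lpr_gt (f152673 IH) (Lpr_dt (K0.f7414 IH) (Lpr_gt (K2.f25739 IH) (Lpe (K2.f82517 IH) (Lpr_et (K2.f7139 IH) (Lpr_gt (K0.f3970 IH) (Lpe (K0.f25706 IH) (Lpe (K0.f25698 IH) (Lpe (f152675 IH) (Lpr_df (f25781 IH) (Lpn (LP (LK LD1_c0 LD2_c13 LD3_c29)))))))))))))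
theorem f152697 : Led Lsl_ft (LP (LK LD1_c0 LD2_c1 LD3_c41)) = (LP (LK LD1_c0 LD2_c2 LD3_c49)) :=
  Lgr Lrot86 (Lpe (K1.f7162 IH) (Lpe (f25779 IH) (Lpr_ef (f152689 IH) (Lpe (f25780 IH) (Lpe (K1.f20996 IH) (Lpn (LP (LK LD1_c0 LD2_c2 LD3_c49))))))))
def v69 : LQ := Led Lsl_at (LP (LK LD1_c0 LD2_c0 LD3_c36))
theorem f7115 : Led Lsl_at (LP (LK LD1_c0 LD2_c0 LD3_c36)) = v69 :=
  Lrfl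
theorem f7116 : Led Lsl_af (LP (LK LD1_c0 LD2_c0 LD3_c36)) = v69 :=
  Lgr Lrot0 (Lpr_at (f7115 IH) (Lpn v69))
theorem f7119 : Led Lsl_ft (LP (LK LD1_c0 LD2_c0 LD3_c37)) = v69 :=
  Lgr Lrot2 (Lpr_gt (K0.f1496 IH) (Lpr_gt (K1.f1495 IH) (Lpr_af (f7116 IH) (Lpn v69))))
theorem f7127 : Led Lsl_ff (LP (LK LD1_c0 LD2_c0 LD3_c37)) = v69 :=
  Lgr Lrot3 (Lpr_ft (f7119 IH) (Lpn v69))
theorem f152707 : v69 = (LP (LK LD1_c0 LD2_c1 LD3_c9)) :=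
  (Llr Lrot19 (Lpe (f7127 IH) (Lpr_dt (K0.f7122 IH) (Lpr_ft (f152697 IH) (Lpr_dt (K0.f20256 IH) (Lpn (LP (LK LD1_c0 LD2_c1 LD3_c9)))))))).symm
def v72 : LQ := Led Lsl_ft (LP (LK LD1_c0 LD2_c0 LD3_c36))
theorem f7143 : Led Lsl_ft (LP (LK LD1_c0 LD2_c0 LD3_c36)) = v72 :=
  Lrfl
theorem f152714 : K0.v73 = v72 :=
  (Llr Lrot61 (Lpe (K0.f7153 IH) (Lpr_ft (f7119 IH) (Lpqs (f152707 IH) (Lpqs (K0.f25767 IH) (Lpe (K0.f7130 IH) (Lpr_ft (f7143 IH) (Lpn v72)))))))).symm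
theorem f152721 : Led Lsl_ff (LP (LK LD1_c0 LD2_c1 LD3_c39)) = (LP (LK LD1_c0 LD2_c2 LD3_c51)) :=
  Lgr Lrot19 (Lpr_dt (K0.f7118 IH) (Lpr_ft (f7143 IH) (Lpq (f152714 IH) (Lpq (K0.f26321 IH) (Lpr_dt (K0.f7182 IH) (Lpn (LP (LK LD1_c0 LD2_c2 LD3_c51))))))))
theorem f152727 : Led Lsl_at (LP (LK LD1_c0 LD2_c1 LD3_c39)) = (LP (LK LD1_c0 LD2_c2 LD3_c49)) :=
  Lgr Lrot26 (Lpr_ff (f152721 IH) (Lpe (K1.f61246 IH) (Lpe (K0.f25722 IH) (Lpn (LP (LK LD1_c0 LD2_c2 LD3_c49))))))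
theorem f152703 : Led Lsl_ff (LP (LK LD1_c0 LD2_c1 LD3_c41)) = (LP (LK LD1_c0 LD2_c2 LD3_c49)) :=
  Lgr Lrot3 (Lpr_ft (f152697 IH) (Lpn (LP (LK LD1_c0 LD2_c2 LD3_c49))))
theorem f152731 : Led Lsl_af (LP (LK LD1_c0 LD2_c2 LD3_c51)) = (LP (LK LD1_c0 LD2_c1 LD3_c41)) :=
  Lgr Lrot45 (Lpe (f152721 IH) (Lpr_at (f152727 IH) (Lpe (f152703 IH) (Lpn (LP (LK LD1_c0 LD2_c1 LD3_c41))))))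
theorem f152735 : Led Lsl_at (LP (LK LD1_c0 LD2_c6 LD3_c12)) = (LP (LK LD1_c0 LD2_c3 LD3_c54)) :=
  Lgr Lrot80 (Lpe (K2.f25738 IH) (Lpr_af (f152731 IH) (Lpe (K1.f7162 IH) (Lpn (LP (LK LD1_c0 LD2_c3 LD3_c54))))))
theorem f82494 : Led Lsl_ft (LP (LK LD1_c0 LD2_c13 LD3_c36)) = (LP (LK LD1_c0 LD2_c6 LD3_c12)) :=
  Lre_f IH (LK LD1_c0 LD2_c13 LD3_c36) (LK LD1_c0 LD2_c6 LD3_c12) Lrfl Lrfl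
theorem f82519 : Led Lsl_ft (LP (LK LD1_c0 LD2_c8 LD3_c26)) = (LP (LK LD1_c0 LD2_c3 LD3_c50)) :=
  Lre_f IH (LK LD1_c0 LD2_c8 LD3_c26) (LK LD1_c0 LD2_c3 LD3_c50) Lrfl Lrfl
theorem f25755 : Led Lsl_ft (LP (LK LD1_c0 LD2_c6 LD3_c12)) = (LP (LK LD1_c0 LD2_c13 LD3_c36)) :=
  Lre_f IH (LK LD1_c0 LD2_c6 LD3_c12) (LK LD1_c0 LD2_c13 LD3_c36) Lrfl Lrfl
theorem f82520 : Led Lsl_df (LP (LK LD1_c0 LD2_c8 LD3_c26)) = (LP (LK LD1_c0 LD2_c13 LD3_c36)) :=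
  Lgr Lrot78 (Lpr_ft (f82519 IH) (Lpr_dt (K2.f82517 IH) (Lpr_ft (f25755 IH) (Lpn (LP (LK LD1_c0 LD2_c13 LD3_c36))))))
theorem f104619 : Led Lsl_ct (LP (LK LD1_c0 LD2_c8 LD3_c26)) = (LP (LK LD1_c0 LD2_c18 LD3_c43)) :=
  Lre_c IH (LK LD1_c0 LD2_c8 LD3_c26) (LK LD1_c0 LD2_c18 LD3_c43) Lrfl Lrfl
theorem f152741 : Led Lsl_dt (LP (LK LD1_c0 LD2_c18 LD3_c43)) = (LP (LK LD1_c0 LD2_c41 LD3_c56)) :=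
  Lre_d IH (LK LD1_c0 LD2_c18 LD3_c43) (LK LD1_c0 LD2_c41 LD3_c56) Lrfl Lrfl
theorem f152742 : Led Lsl_ct (LP (LK LD1_c0 LD2_c41 LD3_c56)) = (LP (LK LD1_c1 LD2_c30 LD3_c52)) :=
  Lre_c IH (LK LD1_c0 LD2_c41 LD3_c56) (LK LD1_c1 LD2_c30 LD3_c52) Lrfl Lrfl
theorem f24984 : Led Lsl_ct (LP (LK LD1_c0 LD2_c42 LD3_c43)) = (LP (LK LD1_c0 LD2_c19 LD3_c0)) :=
  Lre_c IH (LK LD1_c0 LD2_c42 LD3_c43) (LK LD1_c0 LD2_c19 LD3_c0) Lrfl Lrfl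
theorem f152743 : Led Lsl_dt (LP (LK LD1_c1 LD2_c30 LD3_c52)) = (LP (LK LD1_c0 LD2_c42 LD3_c43)) :=
  Lgr Lrot140 (Lpe (f152742 IH) (Lpe (f152741 IH) (Lpe (f104619 IH) (Lpr_df (f82520 IH) (Lpr_ft (f82494 IH) (Lpr_at (f152735 IH) (Lpe (K1.f24986 IH) (Lpe (K1.f24983 IH) (Lpe (f24984 IH) (Lpn (LP (LK LD1_c0 LD2_c42 LD3_c43))))))))))))
theorem f25821 : Led Lsl_ct (LP (LK LD1_c0 LD2_c19 LD3_c0)) = (LP (LK LD1_c0 LD2_c42 LD3_c43)) :=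
  Lre_c IH (LK LD1_c0 LD2_c19 LD3_c0) (LK LD1_c0 LD2_c42 LD3_c43) Lrfl Lrfl
theorem f152766 : Led Lsl_gf (LP (LK LD1_c0 LD2_c41 LD3_c56)) = (LP (LK LD1_c0 LD2_c42 LD3_c40)) :=
  Lgr Lrot172 (Lpr_ct (f152742 IH) (Lpr_dt (f152743 IH) (Lpe (f25821 IH) (Lpe (K1.f25808 IH) (Lpe (K6.f25818 IH) (Lpe (K6.f135281 IH) (Lpe (K5.f84177 IH) (Lpr_gt (K2.f84105 IH) (Lpr_ct (K2.f25817 IH) (Lpn (LP (LK LD1_c0 LD2_c42 LD3_c40))))))))))))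
theorem f82453 : Led Lsl_ft (LP (LK LD1_c0 LD2_c42 LD3_c34)) = (LP (LK LD1_c0 LD2_c18 LD3_c58)) :=
  Lre_f IH (LK LD1_c0 LD2_c42 LD3_c34) (LK LD1_c0 LD2_c18 LD3_c58) Lrfl Lrfl
theorem f82454 : Led Lsl_ft (LP (LK LD1_c0 LD2_c30 LD3_c34)) = (LP (LK LD1_c1 LD2_c6 LD3_c50)) :=
  Lre_f IH (LK LD1_c0 LD2_c30 LD3_c34) (LK LD1_c1 LD2_c6 LD3_c50) Lrfl Lrfl
theorem f82455 : Led Lsl_cf (LP (LK LD1_c0 LD2_c42 LD3_c34)) = (LP (LK LD1_c1 LD2_c6 LD3_c50)) :=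
  Lgr Lrot108 (Lpr_ft (f82453 IH) (Lpr_ct (K2.f82395 IH) (Lpr_ft (f82454 IH) (Lpn (LP (LK LD1_c1 LD2_c6 LD3_c50))))))
theorem f82474 : Led Lsl_ct (LP (LK LD1_c0 LD2_c42 LD3_c34)) = (LP (LK LD1_c1 LD2_c6 LD3_c50)) :=
  Lgr Lrot59 (Lpr_cf (f82455 IH) (Lpn (LP (LK LD1_c1 LD2_c6 LD3_c50))))
theorem f25910 : Led Lsl_bt (LP (LK LD1_c0 LD2_c19 LD3_c1)) = (LP (LK LD1_c0 LD2_c42 LD3_c34)) :=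
  Lre_b IH (LK LD1_c0 LD2_c19 LD3_c1) (LK LD1_c0 LD2_c42 LD3_c34) Lrfl Lrfl
theorem f25900 : Led Lsl_ct (LP (LK LD1_c0 LD2_c8 LD3_c33)) = (LP (LK LD1_c0 LD2_c19 LD3_c1)) :=
  Lre_c IH (LK LD1_c0 LD2_c8 LD3_c33) (LK LD1_c0 LD2_c19 LD3_c1) Lrfl Lrfl
theorem f82484 : Led Lsl_bt (LP (LK LD1_c1 LD2_c6 LD3_c50)) = (LP (LK LD1_c0 LD2_c30 LD3_c37)) :=
  Lre_b IH (LK LD1_c1 LD2_c6 LD3_c50) (LK LD1_c0 LD2_c30 LD3_c37) Lrfl Lrfl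
theorem f82485 : Led Lsl_ct (LP (LK LD1_c0 LD2_c30 LD3_c37)) = (LP (LK LD1_c0 LD2_c13 LD3_c36)) :=
  Lre_c IH (LK LD1_c0 LD2_c30 LD3_c37) (LK LD1_c0 LD2_c13 LD3_c36) Lrfl Lrfl
theorem f82486 : Led Lsl_bf (LP (LK LD1_c0 LD2_c8 LD3_c33)) = (LP (LK LD1_c0 LD2_c13 LD3_c36)) :=
  Lgr Lrot90 (Lpr_ct (f25900 IH) (Lpr_bt (f25910 IH) (Lpr_ct (f82474 IH) (Lpr_bt (f82484 IH) (Lpr_ct (f82485 IH) (Lpn (LP (LK LD1_c0 LD2_c13 LD3_c36))))))))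
theorem f82471 : Led Lsl_ct (LP (LK LD1_c0 LD2_c13 LD3_c36)) = (LP (LK LD1_c0 LD2_c30 LD3_c37)) :=
  Lre_c IH (LK LD1_c0 LD2_c13 LD3_c36) (LK LD1_c0 LD2_c30 LD3_c37) Lrfl Lrfl
theorem f152687 : Led Lsl_gf (LP (LK LD1_c0 LD2_c30 LD3_c37)) = (LP (LK LD1_c0 LD2_c18 LD3_c60)) :=
  Lgr Lrot126 (Lpe (f82471 IH) (Lpe (f82486 IH) (Lpr_gt (f152673 IH) (Lpr_ct (K0.f7434 IH) (Lpr_gt (K2.f10992 IH) (Lpr_cf (K6.f84287 IH) (Lpe (K2.f20003 IH) (Lpr_gt (K3.f12621 IH) (Lpe (K3.f7335 IH) (Lpr_ct (K2.f67395 IH) (Lpn (LP (LK LD1_c0 LD2_c18 LD3_c60)))))))))))))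
theorem f152739 : Led Lsl_gt (LP (LK LD1_c0 LD2_c13 LD3_c36)) = (LP (LK LD1_c0 LD2_c6 LD3_c21)) :=
  Lgr Lrot5 (Lpr_ft (f82494 IH) (Lpr_at (f152735 IH) (Lpe (K3.f24978 IH) (Lpn (LP (LK LD1_c0 LD2_c6 LD3_c21))))))
theorem f152776 : Led Lsl_gt (LP (LK LD1_c1 LD2_c30 LD3_c52)) = (LP (LK LD1_c1 LD2_c8 LD3_c37)) :=
  Lgr Lrot150 (Lpe (f152742 IH) (Lpr_gf (f152766 IH) (Lpe (K2.f25816 IH) (Lpe (f152687 IH) (Lpr_ct (f82485 IH) (Lpr_gt (f152739 IH) (Lpr_ct (K0.f7452 IH) (Lpe (K0.f7456 IH) (Lpe (K0.f7457 IH) (Lpn (LP (LK LD1_c1 LD2_c8 LD3_c37))))))))))))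
theorem f152750 : Led Lsl_df (LP (LK LD1_c1 LD2_c30 LD3_c52)) = (LP (LK LD1_c0 LD2_c42 LD3_c43)) :=
  Lgr Lrot38 (Lpr_dt (f152743 IH) (Lpn (LP (LK LD1_c0 LD2_c42 LD3_c43))))
theorem f25895 : Led Lsl_dt (LP (LK LD1_c0 LD2_c18 LD3_c44)) = (LP (LK LD1_c0 LD2_c41 LD3_c59)) :=
  Lre_d IH (LK LD1_c0 LD2_c18 LD3_c44) (LK LD1_c0 LD2_c41 LD3_c59) Lrfl Lrfl
theorem f152309 : Led Lsl_gf (LP (LK LD1_c0 LD2_c40 LD3_c6)) = (LP (LK LD1_c0 LD2_c41 LD3_c59)) :=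
  Lgr Lrot143 (Lpr_dt (K6.f57536 IH) (Lpe (K1.f57554 IH) (Lpe (K1.f20903 IH) (Lpe (K1.f9691 IH) (Lpe (K1.f20928 IH) (Lpe (K1.f12725 IH) (Lpr_cf (K6.f21030 IH) (Lpr_gt (f152305 IH) (Lpr_dt (f25895 IH) (Lpn (LP (LK LD1_c0 LD2_c41 LD3_c59))))))))))))
theorem f25799 : Led Lsl_ct (LP (LK LD1_c1 LD2_c30 LD3_c58)) = (LP (LK LD1_c0 LD2_c41 LD3_c59)) :=
  Lre_c IH (LK LD1_c1 LD2_c30 LD3_c58) (LK LD1_c0 LD2_c41 LD3_c59) Lrfl Lrfl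
theorem f152783 : Led Lsl_gf (LP (LK LD1_c0 LD2_c42 LD3_c43)) = (LP (LK LD1_c1 LD2_c30 LD3_c58)) :=
  Lgr Lrot144 (Lpe (f152750 IH) (Lpr_gt (f152776 IH) (Lpe (K2.f7490 IH) (Lpe (K0.f7466 IH) (Lpe (K0.f7465 IH) (Lpr_gf (K1.f57547 IH) (Lpe (K6.f57536 IH) (Lpr_gf (f152309 IH) (Lpe (f25799 IH) (Lpn (LP (LK LD1_c1 LD2_c30 LD3_c58))))))))))))
theorem f152768 : Led Lsl_bt (LP (LK LD1_c0 LD2_c19 LD3_c0)) = (LP (LK LD1_c0 LD2_c42 LD3_c33)) :=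
  Lre_b IH (LK LD1_c0 LD2_c19 LD3_c0) (LK LD1_c0 LD2_c42 LD3_c33) Lrfl Lrfl
theorem f25004 : Led Lsl_gt (LP (LK LD1_c0 LD2_c42 LD3_c33)) = (LP (LK LD1_c1 LD2_c31 LD3_c58)) :=
  Lre_g IH (LK LD1_c0 LD2_c42 LD3_c33) (LK LD1_c1 LD2_c31 LD3_c58) Lrfl Lrfl
theorem f152800 : Led Lsl_bt (LP (LK LD1_c3 LD2_c11 LD3_c1)) = (LP (LK LD1_c1 LD2_c31 LD3_c58)) :=
  Lre_b IH (LK LD1_c3 LD2_c11 LD3_c1) (LK LD1_c1 LD2_c31 LD3_c58) Lrfl Lrfl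
theorem f152801 : Led Lsl_ct (LP (LK LD1_c3 LD2_c11 LD3_c1)) = (LP (LK LD1_c6 LD2_c26 LD3_c19)) :=
  Lre_c IH (LK LD1_c3 LD2_c11 LD3_c1) (LK LD1_c6 LD2_c26 LD3_c19) Lrfl Lrfl
theorem f25896 : Led Lsl_ct (LP (LK LD1_c0 LD2_c41 LD3_c59)) = (LP (LK LD1_c1 LD2_c30 LD3_c58)) :=
  Lre_c IH (LK LD1_c0 LD2_c41 LD3_c59) (LK LD1_c1 LD2_c30 LD3_c58) Lrfl Lrfl
theorem f152790 : Led Lsl_gt (LP (LK LD1_c1 LD2_c8 LD3_c35)) = (LP (LK LD1_c0 LD2_c41 LD3_c59)) :=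
  Lgr Lrot9 (Lpe (K6.f24982 IH) (Lpr_gt (K5.f7472 IH) (Lpr_ct (K0.f7455 IH) (Lpr_gt (K3.f24978 IH) (Lpr_ct (K2.f24980 IH) (Lpe (K1.f24983 IH) (Lpe (f24984 IH) (Lpr_gf (f152783 IH) (Lpe (f25896 IH) (Lpn (LP (LK LD1_c0 LD2_c41 LD3_c59))))))))))))
theorem f94394 : Led Lsl_dt (LP (LK LD1_c1 LD2_c55 LD3_c5)) = (LP (LK LD1_c0 LD2_c54 LD3_c16)) :=
  Lre_d IH (LK LD1_c1 LD2_c55 LD3_c5) (LK LD1_c0 LD2_c54 LD3_c16) Lrfl Lrfl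
theorem f121385 : Led Lsl_bt (LP (LK LD1_c1 LD2_c8 LD3_c35)) = (LP (LK LD1_c1 LD2_c55 LD3_c5)) :=
  Lgr Lrot95 (Lpe (K6.f24982 IH) (Lpr_bf (K5.f121381 IH) (Lpe (f94394 IH) (Lpn (LP (LK LD1_c1 LD2_c55 LD3_c5))))))
theorem f121404 : Led Lsl_bf (LP (LK LD1_c1 LD2_c8 LD3_c35)) = (LP (LK LD1_c1 LD2_c55 LD3_c5)) :=
  Lgr Lrot24 (Lpr_bt (f121385 IH) (Lpn (LP (LK LD1_c1 LD2_c55 LD3_c5))))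
theorem f94390 : Led Lsl_ct (LP (LK LD1_c1 LD2_c55 LD3_c5)) = (LP (LK LD1_c3 LD2_c56 LD3_c45)) :=
  Lre_c IH (LK LD1_c1 LD2_c55 LD3_c5) (LK LD1_c3 LD2_c56 LD3_c45) Lrfl Lrfl
theorem f152802 : Led Lsl_gt (LP (LK LD1_c6 LD2_c26 LD3_c19)) = (LP (LK LD1_c3 LD2_c56 LD3_c45)) :=
  Lgr Lrot65 (Lpe (f152801 IH) (Lpr_bt (f152800 IH) (Lpe (f25004 IH) (Lpe (f152768 IH) (Lpr_ct (f25821 IH) (Lpr_gf (f152783 IH) (Lpe (f25896 IH) (Lpe (f152790 IH) (Lpr_bf (f121404 IH) (Lpr_ct (f94390 IH) (Lpn (LP (LK LD1_c3 LD2_c56 LD3_c45)))))))))))))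
theorem f94388 : Led Lsl_ct (LP (LK LD1_c3 LD2_c56 LD3_c45)) = (LP (LK LD1_c1 LD2_c55 LD3_c5)) :=
  Lre_c IH (LK LD1_c3 LD2_c56 LD3_c45) (LK LD1_c1 LD2_c55 LD3_c5) Lrfl Lrfl
theorem f94387 : Led Lsl_dt (LP (LK LD1_c0 LD2_c54 LD3_c16)) = (LP (LK LD1_c1 LD2_c55 LD3_c5)) :=
  Lre_d IH (LK LD1_c0 LD2_c54 LD3_c16) (LK LD1_c1 LD2_c55 LD3_c5) Lrfl Lrfl
theorem f114176 : Led Lsl_dt (LP (LK LD1_c3 LD2_c39 LD3_c59)) = (LP (LK LD1_c1 LD2_c46 LD3_c59)) :=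
  Lre_d IH (LK LD1_c3 LD2_c39 LD3_c59) (LK LD1_c1 LD2_c46 LD3_c59) Lrfl Lrfl
theorem f152808 : Led Lsl_gf (LP (LK LD1_c3 LD2_c11 LD3_c1)) = (LP (LK LD1_c3 LD2_c39 LD3_c59)) :=
  Lgr Lrot147 (Lpr_ct (f152801 IH) (Lpr_gt (f152802 IH) (Lpr_ct (f94388 IH) (Lpe (f94387 IH) (Lpe (K5.f10007 IH) (Lpe (K5.f121376 IH) (Lpe (K5.f108869 IH) (Lpe (K5.f114174 IH) (Lpe (f114176 IH) (Lpn (LP (LK LD1_c3 LD2_c39 LD3_c59))))))))))))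
theorem f152813 : Led Lsl_bt (LP (LK LD1_c1 LD2_c30 LD3_c57)) = (LP (LK LD1_c0 LD2_c41 LD3_c59)) :=
  Lre_b IH (LK LD1_c1 LD2_c30 LD3_c57) (LK LD1_c0 LD2_c41 LD3_c59) Lrfl Lrfl
theorem f152814 : Led Lsl_ct (LP (LK LD1_c1 LD2_c30 LD3_c57)) = (LP (LK LD1_c3 LD2_c9 LD3_c34)) :=
  Lre_c IH (LK LD1_c1 LD2_c30 LD3_c57) (LK LD1_c3 LD2_c9 LD3_c34) Lrfl Lrfl
theorem f152815 : Led Lsl_gt (LP (LK LD1_c3 LD2_c9 LD3_c34)) = (LP (LK LD1_c6 LD2_c23 LD3_c54)) :=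
  Lre_g IH (LK LD1_c3 LD2_c9 LD3_c34) (LK LD1_c6 LD2_c23 LD3_c54) Lrfl Lrfl
theorem f152816 : Led Lsl_ct (LP (LK LD1_c4 LD2_c47 LD3_c31)) = (LP (LK LD1_c6 LD2_c23 LD3_c54)) :=
  Lgr Lrot10 (Lpe (K5.f114183 IH) (Lpe (f152808 IH) (Lpr_ct (f152801 IH) (Lpr_gt (f152802 IH) (Lpe (f94390 IH) (Lpe (f121404 IH) (Lpr_gt (f152790 IH) (Lpe (f152813 IH) (Lpr_ct (f152814 IH) (Lpr_gt (f152815 IH) (Lpn (LP (LK LD1_c6 LD2_c23 LD3_c54)))))))))))))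
theorem f58175 : Led Lsl_dt (LP (LK LD1_c2 LD2_c21 LD3_c41)) = (LP (LK LD1_c1 LD2_c8 LD3_c1)) :=
  Lre_d IH (LK LD1_c2 LD2_c21 LD3_c41) (LK LD1_c1 LD2_c8 LD3_c1) Lrfl Lrfl
theorem f152831 : Led Lsl_df (LP (LK LD1_c9 LD2_c28 LD3_c24)) = (LP (LK LD1_c6 LD2_c23 LD3_c54)) :=
  Lgr Lrot106 (Lpr_ct (K5.f113597 IH) (Lpr_dt (K5.f58163 IH) (Lpr_ct (K5.f58164 IH) (Lpr_dt (f58175 IH) (Lpr_ct (K3.f25002 IH) (Lpr_af (K5.f125123 IH) (Lpe (K5.f125253 IH) (Lpr_dt (K5.f86315 IH) (Lpr_ct (f152816 IH) (Lpn (LP (LK LD1_c6 LD2_c23 LD3_c54))))))))))))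
theorem f152842 : Led Lsl_gf (LP (LK LD1_c2 LD2_c21 LD3_c38)) = (LP (LK LD1_c1 LD2_c30 LD3_c57)) :=
  Lgr Lrot144 (Lpr_dt (K5.f102185 IH) (Lpr_gt (K4.f102227 IH) (Lpr_dt (K3.f58057 IH) (Lpe (K1.f58060 IH) (Lpe (K5.f85806 IH) (Lpr_gf (K5.f86280 IH) (Lpr_df (f152831 IH) (Lpe (f152815 IH) (Lpe (f152814 IH) (Lpn (LP (LK LD1_c1 LD2_c30 LD3_c57))))))))))))
theorem f133225 : Led Lsl_af (LP (LK LD1_c2 LD2_c21 LD3_c38)) = (LP (LK LD1_c2 LD2_c17 LD3_c14)) :=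
  Lgr Lrot0 (Lpr_at (K5.f133222 IH) (Lpn (LP (LK LD1_c2 LD2_c17 LD3_c14))))
theorem f152849 : Led Lsl_gt (LP (LK LD1_c2 LD2_c21 LD3_c41)) = (LP (LK LD1_c1 LD2_c30 LD3_c57)) :=
  Lgr Lrot5 (Lpr_ft (K5.f133664 IH) (Lpe (f133225 IH) (Lpr_gf (f152842 IH) (Lpn (LP (LK LD1_c1 LD2_c30 LD3_c57))))))
theorem f83184 : Led Lsl_dt (LP (LK LD1_c1 LD2_c30 LD3_c57)) = (LP (LK LD1_c0 LD2_c41 LD3_c58)) :=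
  Lre_d IH (LK LD1_c1 LD2_c30 LD3_c57) (LK LD1_c0 LD2_c41 LD3_c58) Lrfl Lrfl
theorem f153126 : Led Lsl_ct (LP (LK LD1_c0 LD2_c41 LD3_c58)) = (LP (LK LD1_c0 LD2_c41 LD3_c58)) :=
  Lgr Lrot7 (Lpe (f83184 IH) (Lpe (f152849 IH) (Lpe (K5.f58161 IH) (Lpr_gf (K3.f58159 IH) (Lpe (K4.f86155 IH) (Lpe (K3.f58159 IH) (Lpr_dt (K5.f58161 IH) (Lpr_gt (f152849 IH) (Lpr_dt (f83184 IH) (Lpn (LP (LK LD1_c0 LD2_c41 LD3_c58))))))))))))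
theorem f83178 : Led Lsl_dt (LP (LK LD1_c0 LD2_c41 LD3_c58)) = (LP (LK LD1_c1 LD2_c30 LD3_c57)) :=
  Lre_d IH (LK LD1_c0 LD2_c41 LD3_c58) (LK LD1_c1 LD2_c30 LD3_c57) Lrfl Lrfl
theorem f152863 : Led Lsl_gt (LP (LK LD1_c1 LD2_c29 LD3_c0)) = (LP (LK LD1_c0 LD2_c41 LD3_c58)) :=
  Lgr Lrot137 (Lpe (K4.f102115 IH) (Lpe (K3.f102111 IH) (Lpe (K3.f63851 IH) (Lpe (K0.f13693 IH) (Lpr_et (K0.f13684 IH) (Lpe (K3.f99151 IH) (Lpe (K4.f102179 IH) (Lpr_dt (K5.f7475 IH) (Lpr_gf (f152842 IH) (Lpe (f83178 IH) (Lpn (LP (LK LD1_c0 LD2_c41 LD3_c58)))))))))))))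
theorem f25899 : Led Lsl_gt (LP (LK LD1_c0 LD2_c41 LD3_c58)) = (LP (LK LD1_c1 LD2_c30 LD3_c55)) :=
  Lre_g IH (LK LD1_c0 LD2_c41 LD3_c58) (LK LD1_c1 LD2_c30 LD3_c55) Lrfl Lrfl
theorem f152851 : Led Lsl_ct (LP (LK LD1_c1 LD2_c30 LD3_c55)) = (LP (LK LD1_c3 LD2_c9 LD3_c32)) :=
  Lre_c IH (LK LD1_c1 LD2_c30 LD3_c55) (LK LD1_c3 LD2_c9 LD3_c32) Lrfl Lrfl
theorem f153137 : Led Lsl_dt (LP (LK LD1_c6 LD2_c23 LD3_c52)) = (LP (LK LD1_c3 LD2_c9 LD3_c32)) :=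
  Lre_d IH (LK LD1_c6 LD2_c23 LD3_c52) (LK LD1_c3 LD2_c9 LD3_c32) Lrfl Lrfl
theorem f153138 : Led Lsl_ct (LP (LK LD1_c6 LD2_c17 LD3_c42)) = (LP (LK LD1_c6 LD2_c23 LD3_c52)) :=
  Lgr Lrot110 (Lpe (K5.f57668 IH) (Lpe (K5.f25632 IH) (Lpr_gf (K3.f99115 IH) (Lpe (K3.f58197 IH) (Lpr_gt (f152863 IH) (Lpr_ct (f153126 IH) (Lpr_gt (f25899 IH) (Lpr_ct (f152851 IH) (Lpe (f153137 IH) (Lpn (LP (LK LD1_c6 LD2_c23 LD3_c52))))))))))))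
theorem f153143 : Led Lsl_cf (LP (LK LD1_c6 LD2_c17 LD3_c42)) = (LP (LK LD1_c6 LD2_c23 LD3_c52)) :=
  Lgr Lrot11 (Lpr_ct (f153138 IH) (Lpn (LP (LK LD1_c6 LD2_c23 LD3_c52))))
theorem f134655 : Led Lsl_gt (LP (LK LD1_c3 LD2_c42 LD3_c34)) = (LP (LK LD1_c1 LD2_c48 LD3_c17)) :=
  Lre_g IH (LK LD1_c3 LD2_c42 LD3_c34) (LK LD1_c1 LD2_c48 LD3_c17) Lrfl Lrfl
theorem f153188 : Led Lsl_bf (LP (LK LD1_c3 LD2_c42 LD3_c34)) = (LP (LK LD1_c6 LD2_c23 LD3_c52)) :=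
  Lgr Lrot165 (Lpr_gt (f134655 IH) (Lpr_ct (K5.f124244 IH) (Lpe (K5.f134651 IH) (Lpe (K5.f21077 IH) (Lpr_bt (K6.f24673 IH) (Lpe (K1.f57600 IH) (Lpe (K4.f25611 IH) (Lpr_ct (K5.f25632 IH) (Lpr_gt (K5.f57668 IH) (Lpr_cf (f153143 IH) (Lpn (LP (LK LD1_c6 LD2_c23 LD3_c52)))))))))))))
theorem f153195 : Led Lsl_gf (LP (LK LD1_c3 LD2_c42 LD3_c34)) = (LP (LK LD1_c3 LD2_c25 LD3_c1)) :=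
  Lgr Lrot124 (Lpr_bf (f153188 IH) (Lpe (f153143 IH) (Lpe (K5.f58075 IH) (Lpe (K1.f58027 IH) (Lpr_bt (K5.f58028 IH) (Lpe (K4.f113998 IH) (Lpr_ct (K5.f114000 IH) (Lpr_gt (K5.f114012 IH) (Lpe (K5.f17756 IH) (Lpe (K6.f17749 IH) (Lpn (LP (LK LD1_c3 LD2_c25 LD3_c1)))))))))))))
theorem f95778 : Led Lsl_dt (LP (LK LD1_c1 LD2_c33 LD3_c24)) = (LP (LK LD1_c0 LD2_c43 LD3_c18)) :=
  Lre_d IH (LK LD1_c1 LD2_c33 LD3_c24) (LK LD1_c0 LD2_c43 LD3_c18) Lrfl Lrfl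
theorem f95816 : Led Lsl_gt (LP (LK LD1_c6 LD2_c31 LD3_c2)) = (LP (LK LD1_c3 LD2_c13 LD3_c42)) :=
  Lre_g IH (LK LD1_c6 LD2_c31 LD3_c2) (LK LD1_c3 LD2_c13 LD3_c42) Lrfl Lrfl
theorem f153199 : Led Lsl_ct (LP (LK LD1_c3 LD2_c42 LD3_c34)) = (LP (LK LD1_c6 LD2_c31 LD3_c2)) :=
  Lgr Lrot152 (Lpr_gf (f153195 IH) (Lpe (K5.f17758 IH) (Lpr_gt (K5.f120911 IH) (Lpe (K5.f120901 IH) (Lpr_gt (K5.f107086 IH) (Lpr_ct (K3.f95757 IH) (Lpe (f95778 IH) (Lpe (K3.f95809 IH) (Lpe (f95816 IH) (Lpn (LP (LK LD1_c6 LD2_c31 LD3_c2))))))))))))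
theorem f134866 : Led Lsl_dt (LP (LK LD1_c6 LD2_c31 LD3_c2)) = (LP (LK LD1_c12 LD2_c30 LD3_c43)) :=
  Lre_d IH (LK LD1_c6 LD2_c31 LD3_c2) (LK LD1_c12 LD2_c30 LD3_c43) Lrfl Lrfl
theorem f24783 : Led Lsl_gt (LP (LK LD1_c6 LD2_c9 LD3_c27)) = (LP (LK LD1_c11 LD2_c59 LD3_c56)) :=
  Lre_g IH (LK LD1_c6 LD2_c9 LD3_c27) (LK LD1_c11 LD2_c59 LD3_c56) Lrfl Lrfl
theorem f9829 : Led Lsl_bt (LP (LK LD1_c0 LD2_c20 LD3_c61)) = (LP (LK LD1_c0 LD2_c46 LD3_c44)) :=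
  Lre_b IH (LK LD1_c0 LD2_c20 LD3_c61) (LK LD1_c0 LD2_c46 LD3_c44) Lrfl Lrfl
theorem f143230 : Led Lsl_gf (LP (LK LD1_c3 LD2_c42 LD3_c50)) = (LP (LK LD1_c3 LD2_c25 LD3_c2)) :=
  Lgr Lrot129 (Lpe (K4.f120879 IH) (Lpr_bt (K4.f19328 IH) (Lpr_gt (K4.f17264 IH) (Lpe (f9829 IH) (Lpr_ct (K6.f9865 IH) (Lpr_gt (K6.f143204 IH) (Lpe (K6.f12721 IH) (Lpr_bt (K6.f124273 IH) (Lpe (K6.f143200 IH) (Lpr_ct (K5.f17714 IH) (Lpn (LP (LK LD1_c3 LD2_c25 LD3_c2)))))))))))))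
theorem f120898 : Led Lsl_dt (LP (LK LD1_c3 LD2_c42 LD3_c50)) = (LP (LK LD1_c7 LD2_c26 LD3_c20)) :=
  Lre_d IH (LK LD1_c3 LD2_c42 LD3_c50) (LK LD1_c7 LD2_c26 LD3_c20) Lrfl Lrfl
theorem f21133 : Led Lsl_gt (LP (LK LD1_c1 LD2_c39 LD3_c1)) = (LP (LK LD1_c0 LD2_c45 LD3_c58)) :=
  Lre_g IH (LK LD1_c1 LD2_c39 LD3_c1) (LK LD1_c0 LD2_c45 LD3_c58) Lrfl Lrfl
theorem f21089 : Led Lsl_dt (LP (LK LD1_c0 LD2_c45 LD3_c58)) = (LP (LK LD1_c1 LD2_c39 LD3_c6)) :=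
  Lre_d IH (LK LD1_c0 LD2_c45 LD3_c58) (LK LD1_c1 LD2_c39 LD3_c6) Lrfl Lrfl
theorem f134683 : Led Lsl_ct (LP (LK LD1_c3 LD2_c25 LD3_c9)) = (LP (LK LD1_c1 LD2_c39 LD3_c6)) :=
  Lre_c IH (LK LD1_c3 LD2_c25 LD3_c9) (LK LD1_c1 LD2_c39 LD3_c6) Lrfl Lrfl
theorem f134684 : Led Lsl_dt (LP (LK LD1_c6 LD2_c52 LD3_c34)) = (LP (LK LD1_c3 LD2_c25 LD3_c9)) :=
  Lre_d IH (LK LD1_c6 LD2_c52 LD3_c34) (LK LD1_c3 LD2_c25 LD3_c9) Lrfl Lrfl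
theorem f143232 : Led Lsl_gt (LP (LK LD1_c7 LD2_c26 LD3_c20)) = (LP (LK LD1_c6 LD2_c52 LD3_c34)) :=
  Lgr Lrot49 (Lpe (f120898 IH) (Lpr_gf (f143230 IH) (Lpe (K5.f17714 IH) (Lpr_gt (K5.f131043 IH) (Lpr_dt (K5.f134672 IH) (Lpr_gt (f21133 IH) (Lpr_dt (f21089 IH) (Lpe (f134683 IH) (Lpe (f134684 IH) (Lpn (LP (LK LD1_c6 LD2_c52 LD3_c34))))))))))))
theorem f120896 : Led Lsl_dt (LP (LK LD1_c7 LD2_c26 LD3_c20)) = (LP (LK LD1_c3 LD2_c42 LD3_c50)) :=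
  Lre_d IH (LK LD1_c7 LD2_c26 LD3_c20) (LK LD1_c3 LD2_c42 LD3_c50) Lrfl Lrfl
theorem f135074 : Led Lsl_at (LP (LK LD1_c9 LD2_c33 LD3_c2)) = (LP (LK LD1_c6 LD2_c52 LD3_c42)) :=
  Lgr Lrot33 (Lpr_ff (K5.f135066 IH) (Lpr_dt (K5.f21146 IH) (Lpr_ct (K5.f21091 IH) (Lpr_dt (K5.f21087 IH) (Lpe (K5.f21028 IH) (Lpr_dt (K5.f21130 IH) (Lpr_ct (K3.f12731 IH) (Lpr_dt (K5.f21131 IH) (Lpr_ct (K5.f21132 IH) (Lpn (LP (LK LD1_c6 LD2_c52 LD3_c42))))))))))))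
theorem f135081 : Led Lsl_gt (LP (LK LD1_c11 LD2_c59 LD3_c56)) = (LP (LK LD1_c6 LD2_c52 LD3_c42)) :=
  Lgr Lrot46 (Lpe (f24783 IH) (Lpe (K5.f135066 IH) (Lpr_at (f135074 IH) (Lpn (LP (LK LD1_c6 LD2_c52 LD3_c42))))))
theorem f143238 : Led Lsl_cf (LP (LK LD1_c11 LD2_c59 LD3_c56)) = (LP (LK LD1_c6 LD2_c52 LD3_c34)) :=
  Lgr Lrot169 (Lpr_gt (f135081 IH) (Lpr_ct (K5.f21075 IH) (Lpe (K5.f21131 IH) (Lpe (K3.f12731 IH) (Lpe (K5.f124254 IH) (Lpe (K4.f120875 IH) (Lpe (K4.f120878 IH) (Lpe (f120896 IH) (Lpr_gt (f143232 IH) (Lpn (LP (LK LD1_c6 LD2_c52 LD3_c34))))))))))))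
theorem f143248 : Led Lsl_ct (LP (LK LD1_c11 LD2_c59 LD3_c56)) = (LP (LK LD1_c6 LD2_c52 LD3_c34)) :=
  Lgr Lrot59 (Lpr_cf (f143238 IH) (Lpn (LP (LK LD1_c6 LD2_c52 LD3_c34))))
theorem f131067 : Led Lsl_gf (LP (LK LD1_c3 LD2_c25 LD3_c2)) = (LP (LK LD1_c3 LD2_c42 LD3_c49)) :=
  Lgr Lrot104 (Lpr_ct (K5.f17717 IH) (Lpe (K5.f17719 IH) (Lpe (K3.f17703 IH) (Lpr_gf (K5.f125095 IH) (Lpe (K5.f125098 IH) (Lpe (K3.f95926 IH) (Lpe (K3.f95783 IH) (Lpe (K3.f109127 IH) (Lpr_ct (K5.f131059 IH) (Lpn (LP (LK LD1_c3 LD2_c42 LD3_c49))))))))))))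
theorem f131066 : Led Lsl_dt (LP (LK LD1_c7 LD2_c26 LD3_c18)) = (LP (LK LD1_c3 LD2_c42 LD3_c49)) :=
  Lre_d IH (LK LD1_c7 LD2_c26 LD3_c18) (LK LD1_c3 LD2_c42 LD3_c49) Lrfl Lrfl
theorem f143250 : Led Lsl_gf (LP (LK LD1_c7 LD2_c26 LD3_c18)) = (LP (LK LD1_c6 LD2_c52 LD3_c34)) :=
  Lgr Lrot144 (Lpr_dt (f131066 IH) (Lpe (f131067 IH) (Lpr_dt (K6.f86784 IH) (Lpr_cf (K5.f125069 IH) (Lpe (K5.f125068 IH) (Lpe (K5.f125081 IH) (Lpe (K5.f134667 IH) (Lpe (f135081 IH) (Lpr_cf (f143238 IH) (Lpn (LP (LK LD1_c6 LD2_c52 LD3_c34))))))))))))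
theorem f153201 : Led Lsl_cf (LP (LK LD1_c12 LD2_c30 LD3_c43)) = (LP (LK LD1_c7 LD2_c26 LD3_c18)) :=
  Lgr Lrot99 (Lpe (f134866 IH) (Lpe (f153199 IH) (Lpr_gf (f153195 IH) (Lpr_cf (K5.f86771 IH) (Lpe (K5.f24798 IH) (Lpe (K5.f21146 IH) (Lpr_gt (f24783 IH) (Lpr_ct (f143248 IH) (Lpe (f143250 IH) (Lpn (LP (LK LD1_c7 LD2_c26 LD3_c18))))))))))))
theorem f95952 : Led Lsl_dt (LP (LK LD1_c12 LD2_c30 LD3_c43)) = (LP (LK LD1_c6 LD2_c31 LD3_c2)) :=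
  Lre_d IH (LK LD1_c12 LD2_c30 LD3_c43) (LK LD1_c6 LD2_c31 LD3_c2) Lrfl Lrfl
theorem f124262 : Led Lsl_dt (LP (LK LD1_c3 LD2_c42 LD3_c49)) = (LP (LK LD1_c7 LD2_c26 LD3_c18)) :=
  Lre_d IH (LK LD1_c3 LD2_c42 LD3_c49) (LK LD1_c7 LD2_c26 LD3_c18) Lrfl Lrfl
theorem f120907 : Led Lsl_df (LP (LK LD1_c3 LD2_c6 LD3_c19)) = (LP (LK LD1_c3 LD2_c42 LD3_c33)) :=
  Lgr Lrot174 (Lpe (K2.f87527 IH) (Lpe (K3.f87529 IH) (Lpr_gf (K3.f109127 IH) (Lpe (K3.f95923 IH) (Lpe (K5.f107086 IH) (Lpr_ct (K4.f120894 IH) (Lpr_gt (K4.f120893 IH) (Lpr_dt (K5.f120905 IH) (Lpr_gt (K6.f120906 IH) (Lpn (LP (LK LD1_c3 LD2_c42 LD3_c33))))))))))))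
theorem f143724 : Led Lsl_ft (LP (LK LD1_c3 LD2_c42 LD3_c33)) = (LP (LK LD1_c3 LD2_c40 LD3_c1)) :=
  Lgr Lrot75 (Lpr_bf (K6.f143718 IH) (Lpe (K5.f114504 IH) (Lpe (K5.f134541 IH) (Lpn (LP (LK LD1_c3 LD2_c40 LD3_c1))))))
theorem f153197 : Led Lsl_af (LP (LK LD1_c3 LD2_c42 LD3_c34)) = (LP (LK LD1_c3 LD2_c40 LD3_c1)) :=
  Lgr Lrot31 (Lpr_gf (f153195 IH) (Lpe (K6.f143726 IH) (Lpr_ft (f143724 IH) (Lpn (LP (LK LD1_c3 LD2_c40 LD3_c1))))))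
theorem f153209 : Led Lsl_ct (LP (LK LD1_c6 LD2_c31 LD3_c2)) = (LP (LK LD1_c3 LD2_c42 LD3_c34)) :=
  Lgr Lrot98 (Lpe (f95952 IH) (Lpr_cf (f153201 IH) (Lpe (f124262 IH) (Lpe (K5.f131059 IH) (Lpe (K3.f87547 IH) (Lpr_cf (K2.f87527 IH) (Lpr_df (f120907 IH) (Lpr_ft (f143724 IH) (Lpe (f153197 IH) (Lpn (LP (LK LD1_c3 LD2_c42 LD3_c34))))))))))))
theorem f95951 : Led Lsl_gt (LP (LK LD1_c6 LD2_c31 LD3_c4)) = (LP (LK LD1_c12 LD2_c30 LD3_c47)) :=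
  Lre_g IH (LK LD1_c6 LD2_c31 LD3_c4) (LK LD1_c12 LD2_c30 LD3_c47) Lrfl Lrfl
theorem f125104 : Led Lsl_ct (LP (LK LD1_c3 LD2_c42 LD3_c31)) = (LP (LK LD1_c7 LD2_c25 LD3_c42)) :=
  Lre_c IH (LK LD1_c3 LD2_c42 LD3_c31) (LK LD1_c7 LD2_c25 LD3_c42) Lrfl Lrfl
theorem f153216 : Led Lsl_dt (LP (LK LD1_c12 LD2_c30 LD3_c47)) = (LP (LK LD1_c7 LD2_c25 LD3_c42)) :=
  Lgr Lrot113 (Lpe (f95951 IH) (Lpe (K3.f95941 IH) (Lpe (f95816 IH) (Lpr_ct (f153209 IH) (Lpr_gt (f134655 IH) (Lpr_dt (K5.f125090 IH) (Lpr_gt (K5.f124135 IH) (Lpr_dt (K5.f124136 IH) (Lpr_ct (f125104 IH) (Lpn (LP (LK LD1_c7 LD2_c25 LD3_c42))))))))))))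
theorem f114182 : Led Lsl_ct (LP (LK LD1_c7 LD2_c20 LD3_c6)) = (LP (LK LD1_c3 LD2_c39 LD3_c59)) :=
  Lre_c IH (LK LD1_c7 LD2_c20 LD3_c6) (LK LD1_c3 LD2_c39 LD3_c59) Lrfl Lrfl
theorem f125209 : Led Lsl_af (LP (LK LD1_c7 LD2_c20 LD3_c6)) = (LP (LK LD1_c7 LD2_c25 LD3_c42)) :=
  Lgr Lrot68 (Lpr_ct (f114182 IH) (Lpr_at (K5.f125203 IH) (Lpr_ct (f125104 IH) (Lpn (LP (LK LD1_c7 LD2_c25 LD3_c42))))))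
theorem f114181 : Led Lsl_dt (LP (LK LD1_c7 LD2_c20 LD3_c6)) = (LP (LK LD1_c13 LD2_c52 LD3_c28)) :=
  Lre_d IH (LK LD1_c7 LD2_c20 LD3_c6) (LK LD1_c13 LD2_c52 LD3_c28) Lrfl Lrfl
theorem f153227 : Led Lsl_af (LP (LK LD1_c12 LD2_c30 LD3_c47)) = (LP (LK LD1_c13 LD2_c52 LD3_c28)) :=
  Lgr Lrot117 (Lpr_dt (f153216 IH) (Lpe (f125209 IH) (Lpr_dt (f114181 IH) (Lpn (LP (LK LD1_c13 LD2_c52 LD3_c28))))))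
theorem f95812 : Led Lsl_gt (LP (LK LD1_c12 LD2_c30 LD3_c48)) = (LP (LK LD1_c6 LD2_c31 LD3_c4)) :=
  Lre_g IH (LK LD1_c12 LD2_c30 LD3_c48) (LK LD1_c6 LD2_c31 LD3_c4) Lrfl Lrfl
theorem f153242 : Led Lsl_ft (LP (LK LD1_c12 LD2_c30 LD3_c48)) = (LP (LK LD1_c13 LD2_c52 LD3_c28)) :=
  Lgr Lrot2 (Lpr_gt (f95812 IH) (Lpr_gt (f95951 IH) (Lpr_af (f153227 IH) (Lpn (LP (LK LD1_c13 LD2_c52 LD3_c28))))))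
theorem f153250 : Led Lsl_ff (LP (LK LD1_c12 LD2_c30 LD3_c48)) = (LP (LK LD1_c13 LD2_c52 LD3_c28)) :=
  Lgr Lrot3 (Lpr_ft (f153242 IH) (Lpn (LP (LK LD1_c13 LD2_c52 LD3_c28))))
theorem f12438 : Led Lsl_ct (LP (LK LD1_c3 LD2_c39 LD3_c59)) = (LP (LK LD1_c7 LD2_c20 LD3_c6)) :=
  Lre_c IH (LK LD1_c3 LD2_c39 LD3_c59) (LK LD1_c7 LD2_c20 LD3_c6) Lrfl Lrfl
theorem f131220 : Led Lsl_ff (LP (LK LD1_c7 LD2_c25 LD3_c42)) = (LP (LK LD1_c7 LD2_c20 LD3_c7)) :=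
  Lgr Lrot103 (Lpe (f125209 IH) (Lpe (f12438 IH) (Lpe (K5.f12437 IH) (Lpr_cf (K5.f114179 IH) (Lpe (K5.f91704 IH) (Lpe (K5.f91686 IH) (Lpe (K5.f131195 IH) (Lpr_cf (K5.f131203 IH) (Lpe (K5.f106788 IH) (Lpn (LP (LK LD1_c7 LD2_c20 LD3_c7))))))))))))
theorem f131230 : Led Lsl_ft (LP (LK LD1_c7 LD2_c25 LD3_c42)) = (LP (LK LD1_c7 LD2_c20 LD3_c7)) :=
  Lgr Lrot48 (Lpr_ff (f131220 IH) (Lpn (LP (LK LD1_c7 LD2_c20 LD3_c7))))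
theorem f153231 : Led Lsl_ff (LP (LK LD1_c12 LD2_c30 LD3_c47)) = (LP (LK LD1_c13 LD2_c52 LD3_c30)) :=
  Lgr Lrot19 (Lpr_dt (f153216 IH) (Lpr_ft (f131230 IH) (Lpr_dt (K5.f106788 IH) (Lpn (LP (LK LD1_c13 LD2_c52 LD3_c30))))))
theorem f134568 : Led Lsl_ct (LP (LK LD1_c7 LD2_c20 LD3_c11)) = (LP (LK LD1_c3 LD2_c40 LD3_c1)) :=
  Lre_c IH (LK LD1_c7 LD2_c20 LD3_c11) (LK LD1_c3 LD2_c40 LD3_c1) Lrfl Lrfl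
theorem f12550 : Led Lsl_dt (LP (LK LD1_c1 LD2_c46 LD3_c61)) = (LP (LK LD1_c0 LD2_c50 LD3_c17)) :=
  Lre_d IH (LK LD1_c1 LD2_c46 LD3_c61) (LK LD1_c0 LD2_c50 LD3_c17) Lrfl Lrfl
theorem f114186 : Led Lsl_dt (LP (LK LD1_c13 LD2_c52 LD3_c28)) = (LP (LK LD1_c7 LD2_c20 LD3_c6)) :=
  Lre_d IH (LK LD1_c13 LD2_c52 LD3_c28) (LK LD1_c7 LD2_c20 LD3_c6) Lrfl Lrfl
theorem f134584 : Led Lsl_gf (LP (LK LD1_c13 LD2_c52 LD3_c28)) = (LP (LK LD1_c7 LD2_c26 LD3_c58)) :=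
  Lgr Lrot143 (Lpr_dt (f114186 IH) (Lpe (f12438 IH) (Lpe (K5.f12437 IH) (Lpe (K4.f12436 IH) (Lpe (f12550 IH) (Lpe (K5.f12555 IH) (Lpe (f134568 IH) (Lpr_gt (K5.f134582 IH) (Lpr_dt (K3.f106914 IH) (Lpn (LP (LK LD1_c7 LD2_c26 LD3_c58))))))))))))
theorem f153235 : Led Lsl_at (LP (LK LD1_c12 LD2_c30 LD3_c47)) = (LP (LK LD1_c13 LD2_c52 LD3_c28)) :=
  Lgr Lrot26 (Lpr_ff (f153231 IH) (Lpe (K5.f131291 IH) (Lpe (f134584 IH) (Lpn (LP (LK LD1_c13 LD2_c52 LD3_c28))))))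
theorem f153252 : Led Lsl_at (LP (LK LD1_c12 LD2_c30 LD3_c48)) = (LP (LK LD1_c13 LD2_c52 LD3_c30)) :=
  Lgr Lrot66 (Lpr_ff (f153250 IH) (Lpe (f153235 IH) (Lpr_ff (f153231 IH) (Lpn (LP (LK LD1_c13 LD2_c52 LD3_c30))))))
theorem f153260 : Led Lsl_gf (LP (LK LD1_c11 LD2_c59 LD3_c41)) = (LP (LK LD1_c13 LD2_c52 LD3_c28)) :=
  Lgr Lrot47 (Lpr_gt (K5.f131294 IH) (Lpe (f153252 IH) (Lpr_ff (f153250 IH) (Lpn (LP (LK LD1_c13 LD2_c52 LD3_c28))))))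
theorem f84482 : Led Lsl_dt (LP (LK LD1_c1 LD2_c37 LD3_c23)) = (LP (LK LD1_c0 LD2_c45 LD3_c2)) :=
  Lre_d IH (LK LD1_c1 LD2_c37 LD3_c23) (LK LD1_c0 LD2_c45 LD3_c2) Lrfl Lrfl
theorem f84490 : Led Lsl_gt (LP (LK LD1_c3 LD2_c22 LD3_c14)) = (LP (LK LD1_c1 LD2_c37 LD3_c23)) :=
  Lre_g IH (LK LD1_c3 LD2_c22 LD3_c14) (LK LD1_c1 LD2_c37 LD3_c23) Lrfl Lrfl
theorem f153264 : Led Lsl_ct (LP (LK LD1_c3 LD2_c22 LD3_c14)) = (LP (LK LD1_c6 LD2_c48 LD3_c5)) :=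
  Lre_c IH (LK LD1_c3 LD2_c22 LD3_c14) (LK LD1_c6 LD2_c48 LD3_c5) Lrfl Lrfl
theorem f153265 : Led Lsl_gt (LP (LK LD1_c6 LD2_c48 LD3_c5)) = (LP (LK LD1_c7 LD2_c20 LD3_c6)) :=
  Lgr Lrot94 (Lpe (f153264 IH) (Lpr_gt (f84490 IH) (Lpr_dt (f84482 IH) (Lpe (K5.f109180 IH) (Lpr_dt (K5.f82433 IH) (Lpe (K5.f82431 IH) (Lpe (K5.f82434 IH) (Lpr_gf (f153260 IH) (Lpe (f114181 IH) (Lpn (LP (LK LD1_c7 LD2_c20 LD3_c6))))))))))))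
theorem f153268 : Led Lsl_gf (LP (LK LD1_c6 LD2_c48 LD3_c5)) = (LP (LK LD1_c7 LD2_c20 LD3_c7)) :=
  Lgr Lrot47 (Lpr_gt (f153265 IH) (Lpr_af (f125209 IH) (Lpr_ff (f131220 IH) (Lpn (LP (LK LD1_c7 LD2_c20 LD3_c7))))))
theorem f153271 : Led Lsl_dt (LP (LK LD1_c6 LD2_c48 LD3_c5)) = (LP (LK LD1_c12 LD2_c58 LD3_c52)) :=
  Lre_d IH (LK LD1_c6 LD2_c48 LD3_c5) (LK LD1_c12 LD2_c58 LD3_c52) Lrfl Lrfl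
theorem f106865 : Led Lsl_dt (LP (LK LD1_c3 LD2_c25 LD3_c11)) = (LP (LK LD1_c6 LD2_c52 LD3_c38)) :=
  Lre_d IH (LK LD1_c3 LD2_c25 LD3_c11) (LK LD1_c6 LD2_c52 LD3_c38) Lrfl Lrfl
theorem f109172 : Led Lsl_cf (LP (LK LD1_c11 LD2_c59 LD3_c41)) = (LP (LK LD1_c6 LD2_c52 LD3_c38)) :=
  Lgr Lrot55 (Lpr_dt (K5.f82434 IH) (Lpr_ct (K5.f82431 IH) (Lpr_dt (K5.f82425 IH) (Lpr_ct (K3.f109164 IH) (Lpr_dt (K3.f95930 IH) (Lpe (K5.f106910 IH) (Lpr_dt (K3.f106890 IH) (Lpr_ct (K5.f106930 IH) (Lpr_dt (K6.f106380 IH) (Lpr_ct (K3.f86770 IH) (Lpr_dt (K4.f86735 IH) (Lpr_ct (K5.f86734 IH) (Lpr_dt (K3.f65537 IH) (Lpe (K3.f106858 IH) (Lpr_dt (f106865 IH) (Lpn (LP (LK LD1_c6 LD2_c52 LD3_c38))))))))))))))))))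
theorem f106893 : Led Lsl_af (LP (LK LD1_c6 LD2_c52 LD3_c36)) = (LP (LK LD1_c7 LD2_c5 LD3_c31)) :=
  Lgr Lrot0 (Lpr_at (K3.f106891 IH) (Lpn (LP (LK LD1_c7 LD2_c5 LD3_c31))))
theorem f106869 : Led Lsl_dt (LP (LK LD1_c6 LD2_c52 LD3_c38)) = (LP (LK LD1_c3 LD2_c25 LD3_c11)) :=
  Lre_d IH (LK LD1_c6 LD2_c52 LD3_c38) (LK LD1_c3 LD2_c25 LD3_c11) Lrfl Lrfl
theorem f106935 : Led Lsl_ff (LP (LK LD1_c7 LD2_c5 LD3_c31)) = (LP (LK LD1_c6 LD2_c52 LD3_c38)) :=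
  Lgr Lrot103 (Lpe (f106893 IH) (Lpr_cf (K3.f106915 IH) (Lpe (K3.f106914 IH) (Lpe (K3.f86768 IH) (Lpe (K3.f86737 IH) (Lpe (K3.f86723 IH) (Lpe (K3.f86810 IH) (Lpe (K3.f106863 IH) (Lpe (f106869 IH) (Lpn (LP (LK LD1_c6 LD2_c52 LD3_c38))))))))))))
theorem f142794 : Led Lsl_gt (LP (LK LD1_c6 LD2_c52 LD3_c38)) = (LP (LK LD1_c3 LD2_c25 LD3_c22)) :=
  Lgr Lrot5 (Lpe (f106935 IH) (Lpe (f106893 IH) (Lpr_gf (K6.f142782 IH) (Lpn (LP (LK LD1_c3 LD2_c25 LD3_c22))))))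
theorem f12173 : Led Lsl_dt (LP (LK LD1_c3 LD2_c25 LD3_c22)) = (LP (LK LD1_c1 LD2_c39 LD3_c17)) :=
  Lre_d IH (LK LD1_c3 LD2_c25 LD3_c22) (LK LD1_c1 LD2_c39 LD3_c17) Lrfl Lrfl
theorem f84817 : Led Lsl_gt (LP (LK LD1_c1 LD2_c39 LD3_c17)) = (LP (LK LD1_c3 LD2_c25 LD3_c20)) :=
  Lre_g IH (LK LD1_c1 LD2_c39 LD3_c17) (LK LD1_c3 LD2_c25 LD3_c20) Lrfl Lrfl
theorem f84818 : Led Lsl_dt (LP (LK LD1_c3 LD2_c25 LD3_c20)) = (LP (LK LD1_c6 LD2_c52 LD3_c54)) :=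
  Lre_d IH (LK LD1_c3 LD2_c25 LD3_c20) (LK LD1_c6 LD2_c52 LD3_c54) Lrfl Lrfl
theorem f153286 : Led Lsl_ct (LP (LK LD1_c12 LD2_c58 LD3_c52)) = (LP (LK LD1_c6 LD2_c52 LD3_c54)) :=
  Lgr Lrot7 (Lpe (f153271 IH) (Lpr_gf (f153268 IH) (Lpe (K5.f106797 IH) (Lpe (K5.f131294 IH) (Lpr_cf (f109172 IH) (Lpr_gt (f142794 IH) (Lpr_dt (f12173 IH) (Lpr_gt (f84817 IH) (Lpr_dt (f84818 IH) (Lpn (LP (LK LD1_c6 LD2_c52 LD3_c54))))))))))))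
theorem f153293 : Led Lsl_cf (LP (LK LD1_c12 LD2_c58 LD3_c52)) = (LP (LK LD1_c6 LD2_c52 LD3_c54)) :=
  Lgr Lrot11 (Lpr_ct (f153286 IH) (Lpn (LP (LK LD1_c6 LD2_c52 LD3_c54))))
theorem f153301 : Led Lsl_ct (LP (LK LD1_c11 LD2_c59 LD3_c41)) = (LP (LK LD1_c6 LD2_c52 LD3_c38)) :=
  Lgr Lrot8 (Lpr_gt (K5.f131294 IH) (Lpr_dt (K5.f106797 IH) (Lpe (f153268 IH) (Lpr_dt (f153271 IH) (Lpr_cf (f153293 IH) (Lpe (f84818 IH) (Lpe (f84817 IH) (Lpe (f12173 IH) (Lpe (f142794 IH) (Lpn (LP (LK LD1_c6 LD2_c52 LD3_c38))))))))))))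
theorem f106954 : Led Lsl_at (LP (LK LD1_c3 LD2_c13 LD3_c42)) = (LP (LK LD1_c3 LD2_c43 LD3_c9)) :=
  Lgr Lrot51 (Lpe (K3.f95811 IH) (Lpr_af (K3.f106951 IH) (Lpe (K3.f106914 IH) (Lpn (LP (LK LD1_c3 LD2_c43 LD3_c9))))))
theorem f153307 : Led Lsl_ft (LP (LK LD1_c6 LD2_c9 LD3_c18)) = (LP (LK LD1_c3 LD2_c13 LD3_c42)) :=
  Lgr Lrot142 (Lpr_dt (K5.f114191 IH) (Lpr_ct (f153301 IH) (Lpr_dt (f106869 IH) (Lpr_ct (K3.f106863 IH) (Lpr_dt (K3.f86810 IH) (Lpr_ct (K3.f86723 IH) (Lpr_dt (K3.f86737 IH) (Lpr_ct (K3.f86768 IH) (Lpe (f106954 IH) (Lpn (LP (LK LD1_c3 LD2_c13 LD3_c42))))))))))))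
theorem f153318 : Led Lsl_gt (LP (LK LD1_c6 LD2_c9 LD3_c18)) = (LP (LK LD1_c7 LD2_c20 LD3_c11)) :=
  Lgr Lrot5 (Lpr_ft (f153307 IH) (Lpr_at (f106954 IH) (Lpe (K5.f134582 IH) (Lpn (LP (LK LD1_c7 LD2_c20 LD3_c11))))))
theorem f77943 : Led Lsl_ct (LP (LK LD1_c4 LD2_c40 LD3_c15)) = (LP (LK LD1_c9 LD2_c15 LD3_c54)) :=
  Lre_c IH (LK LD1_c4 LD2_c40 LD3_c15) (LK LD1_c9 LD2_c15 LD3_c54) Lrfl Lrfl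
theorem f153147 : Led Lsl_gf (LP (LK LD1_c4 LD2_c44 LD3_c36)) = (LP (LK LD1_c6 LD2_c23 LD3_c52)) :=
  Lgr Lrot148 (Lpr_dt (K2.f23508 IH) (Lpe (K5.f125267 IH) (Lpr_dt (K5.f77942 IH) (Lpr_ct (f77943 IH) (Lpe (K5.f133259 IH) (Lpr_gf (K5.f86183 IH) (Lpe (K5.f58036 IH) (Lpr_gf (K5.f58075 IH) (Lpr_ct (f153138 IH) (Lpn (LP (LK LD1_c6 LD2_c23 LD3_c52))))))))))))
theorem f153140 : Led Lsl_dt (LP (LK LD1_c3 LD2_c9 LD3_c32)) = (LP (LK LD1_c6 LD2_c23 LD3_c52)) :=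
  Lre_d IH (LK LD1_c3 LD2_c9 LD3_c32) (LK LD1_c6 LD2_c23 LD3_c52) Lrfl Lrfl
theorem f153163 : Led Lsl_ef (LP (LK LD1_c3 LD2_c6 LD3_c0)) = (LP (LK LD1_c3 LD2_c9 LD3_c32)) :=
  Lgr Lrot17 (Lpr_gf (K5.f125294 IH) (Lpe (K5.f61658 IH) (Lpe (K4.f120010 IH) (Lpr_gf (K5.f120006 IH) (Lpe (K3.f23499 IH) (Lpe (K2.f23498 IH) (Lpe (K4.f23547 IH) (Lpr_dt (K4.f23544 IH) (Lpr_gf (f153147 IH) (Lpe (f153140 IH) (Lpn (LP (LK LD1_c3 LD2_c9 LD3_c32)))))))))))))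
theorem f66646 : Led Lsl_ft (LP (LK LD1_c1 LD2_c26 LD3_c32)) = (LP (LK LD1_c1 LD2_c29 LD3_c40)) :=
  Lgr Lrot2 (Lpr_gt (K3.f66644 IH) (Lpe (K2.f25025 IH) (Lpe (K5.f25030 IH) (Lpn (LP (LK LD1_c1 LD2_c29 LD3_c40))))))
theorem f66655 : Led Lsl_ff (LP (LK LD1_c1 LD2_c26 LD3_c32)) = (LP (LK LD1_c1 LD2_c29 LD3_c40)) :=
  Lgr Lrot3 (Lpr_ft (f66646 IH) (Lpn (LP (LK LD1_c1 LD2_c29 LD3_c40))))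
theorem f113333 : Led Lsl_bt (LP (LK LD1_c1 LD2_c26 LD3_c32)) = (LP (LK LD1_c1 LD2_c29 LD3_c49)) :=
  Lgr Lrot35 (Lpr_ff (f66655 IH) (Lpr_bf (K4.f113327 IH) (Lpr_ff (K5.f110468 IH) (Lpn (LP (LK LD1_c1 LD2_c29 LD3_c49))))))
theorem f18618 : Led Lsl_bt (LP (LK LD1_c0 LD2_c45 LD3_c42)) = (LP (LK LD1_c0 LD2_c20 LD3_c24)) :=
  Lre_b IH (LK LD1_c0 LD2_c45 LD3_c42) (LK LD1_c0 LD2_c20 LD3_c24) Lrfl Lrfl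
theorem f124849 : Led Lsl_cf (LP (LK LD1_c0 LD2_c45 LD3_c42)) = (LP (LK LD1_c1 LD2_c31 LD3_c31)) :=
  Lgr Lrot97 (Lpr_bt (f18618 IH) (Lpr_ct (K2.f19342 IH) (Lpe (K3.f99131 IH) (Lpr_ct (K3.f58752 IH) (Lpr_bt (K5.f124845 IH) (Lpn (LP (LK LD1_c1 LD2_c31 LD3_c31))))))))
theorem f124847 : Led Lsl_bf (LP (LK LD1_c1 LD2_c28 LD3_c59)) = (LP (LK LD1_c1 LD2_c31 LD3_c31)) :=
  Lgr Lrot24 (Lpr_bt (K5.f124845 IH) (Lpn (LP (LK LD1_c1 LD2_c31 LD3_c31))))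
theorem f143001 : Led Lsl_gf (LP (LK LD1_c1 LD2_c29 LD3_c49)) = (LP (LK LD1_c1 LD2_c28 LD3_c59)) :=
  Lgr Lrot124 (Lpe (f113333 IH) (Lpr_ct (K5.f57591 IH) (Lpe (K6.f142991 IH) (Lpr_cf (K6.f135794 IH) (Lpr_bt (K6.f142995 IH) (Lpr_gt (K5.f134801 IH) (Lpe (K2.f84753 IH) (Lpe (K5.f90113 IH) (Lpr_cf (f124849 IH) (Lpe (f124847 IH) (Lpn (LP (LK LD1_c1 LD2_c28 LD3_c59)))))))))))))
theorem f113421 : Led Lsl_af (LP (LK LD1_c1 LD2_c28 LD3_c61)) = (LP (LK LD1_c1 LD2_c5 LD3_c30)) :=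
  Lgr Lrot68 (Lpr_ct (K3.f58194 IH) (Lpr_at (K4.f113415 IH) (Lpr_ct (K2.f13669 IH) (Lpn (LP (LK LD1_c1 LD2_c5 LD3_c30))))))
theorem f143003 : Led Lsl_ff (LP (LK LD1_c1 LD2_c5 LD3_c30)) = (LP (LK LD1_c1 LD2_c28 LD3_c59)) :=
  Lgr Lrot52 (Lpe (f113421 IH) (Lpr_gf (K5.f127026 IH) (Lpr_gf (f143001 IH) (Lpn (LP (LK LD1_c1 LD2_c28 LD3_c59))))))
theorem f153169 : Led Lsl_ft (LP (LK LD1_c2 LD2_c17 LD3_c9)) = (LP (LK LD1_c3 LD2_c9 LD3_c32)) :=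
  Lgr Lrot86 (Lpe (K3.f66793 IH) (Lpr_ff (f143003 IH) (Lpe (K5.f102175 IH) (Lpr_ff (K5.f125259 IH) (Lpr_ef (f153163 IH) (Lpn (LP (LK LD1_c3 LD2_c9 LD3_c32))))))))
theorem f153173 : Led Lsl_ff (LP (LK LD1_c2 LD2_c17 LD3_c9)) = (LP (LK LD1_c3 LD2_c9 LD3_c32)) :=
  Lgr Lrot3 (Lpr_ft (f153169 IH) (Lpn (LP (LK LD1_c3 LD2_c9 LD3_c32))))
theorem f153177 : Led Lsl_ft (LP (LK LD1_c4 LD2_c40 LD3_c12)) = (LP (LK LD1_c6 LD2_c23 LD3_c52)) :=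
  Lgr Lrot54 (Lpe (K5.f66790 IH) (Lpr_ff (f153173 IH) (Lpe (f153137 IH) (Lpn (LP (LK LD1_c6 LD2_c23 LD3_c52))))))
theorem f66774 : Led Lsl_dt (LP (LK LD1_c4 LD2_c40 LD3_c12)) = (LP (LK LD1_c2 LD2_c17 LD3_c9)) :=
  Lre_d IH (LK LD1_c4 LD2_c40 LD3_c12) (LK LD1_c2 LD2_c17 LD3_c9) Lrfl Lrfl
theorem f115145 : Led Lsl_bt (LP (LK LD1_c3 LD2_c40 LD3_c0)) = (LP (LK LD1_c4 LD2_c40 LD3_c12)) :=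
  Lgr Lrot95 (Lpr_df (K6.f115137 IH) (Lpe (K3.f66788 IH) (Lpe (f66774 IH) (Lpn (LP (LK LD1_c4 LD2_c40 LD3_c12))))))
theorem f153193 : Led Lsl_ft (LP (LK LD1_c3 LD2_c42 LD3_c34)) = (LP (LK LD1_c3 LD2_c40 LD3_c0)) :=
  Lgr Lrot75 (Lpr_bf (f153188 IH) (Lpe (f153177 IH) (Lpe (f115145 IH) (Lpn (LP (LK LD1_c3 LD2_c40 LD3_c0))))))
theorem f153214 : Led Lsl_ff (LP (LK LD1_c6 LD2_c31 LD3_c2)) = (LP (LK LD1_c7 LD2_c20 LD3_c9)) :=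
  Lgr Lrot23 (Lpr_ct (f153209 IH) (Lpr_ft (f153193 IH) (Lpr_ct (K5.f12554 IH) (Lpn (LP (LK LD1_c7 LD2_c20 LD3_c9))))))
theorem f153320 : Led Lsl_at (LP (LK LD1_c6 LD2_c31 LD3_c2)) = (LP (LK LD1_c7 LD2_c20 LD3_c11)) :=
  Lgr Lrot26 (Lpr_ff (f153214 IH) (Lpr_gt (K5.f114187 IH) (Lpr_gt (f153318 IH) (Lpn (LP (LK LD1_c7 LD2_c20 LD3_c11))))))
theorem f95953 : Led Lsl_bt (LP (LK LD1_c12 LD2_c30 LD3_c42)) = (LP (LK LD1_c6 LD2_c31 LD3_c2)) :=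
  Lre_b IH (LK LD1_c12 LD2_c30 LD3_c42) (LK LD1_c6 LD2_c31 LD3_c2) Lrfl Lrfl
theorem f153326 : Led Lsl_at (LP (LK LD1_c21 LD2_c37 LD3_c11)) = (LP (LK LD1_c12 LD2_c30 LD3_c42)) :=
  Lre_a IH (LK LD1_c21 LD2_c37 LD3_c11) (LK LD1_c12 LD2_c30 LD3_c42) Lrfl Lrfl
theorem f134544 : Led Lsl_bt (LP (LK LD1_c7 LD2_c20 LD3_c11)) = (LP (LK LD1_c13 LD2_c52 LD3_c34)) :=
  Lre_b IH (LK LD1_c7 LD2_c20 LD3_c11) (LK LD1_c13 LD2_c52 LD3_c34) Lrfl Lrfl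
theorem f134565 : Led Lsl_at (LP (LK LD1_c13 LD2_c52 LD3_c34)) = (LP (LK LD1_c23 LD2_c22 LD3_c33)) :=
  Lre_a IH (LK LD1_c13 LD2_c52 LD3_c34) (LK LD1_c23 LD2_c22 LD3_c33) Lrfl Lrfl
theorem f153327 : Led Lsl_bf (LP (LK LD1_c21 LD2_c37 LD3_c11)) = (LP (LK LD1_c23 LD2_c22 LD3_c33)) :=
  Lgr Lrot81 (Lpr_at (f153326 IH) (Lpr_bt (f95953 IH) (Lpr_at (f153320 IH) (Lpr_bt (f134544 IH) (Lpr_at (f134565 IH) (Lpn (LP (LK LD1_c23 LD2_c22 LD3_c33))))))))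
theorem f134545 : Led Lsl_ct (LP (LK LD1_c13 LD2_c52 LD3_c34)) = (LP (LK LD1_c12 LD2_c27 LD3_c2)) :=
  Lgr Lrot83 (Lpe (f134544 IH) (Lpe (K5.f134543 IH) (Lpr_bf (K5.f134538 IH) (Lpe (K5.f67913 IH) (Lpe (K5.f114618 IH) (Lpn (LP (LK LD1_c12 LD2_c27 LD3_c2))))))))
theorem f134557 : Led Lsl_at (LP (LK LD1_c23 LD2_c22 LD3_c33)) = (LP (LK LD1_c13 LD2_c52 LD3_c34)) :=
  Lre_a IH (LK LD1_c23 LD2_c22 LD3_c33) (LK LD1_c13 LD2_c52 LD3_c34) Lrfl Lrfl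
theorem f134558 : Led Lsl_cf (LP (LK LD1_c23 LD2_c22 LD3_c33)) = (LP (LK LD1_c21 LD2_c34 LD3_c22)) :=
  Lgr Lrot1 (Lpr_at (f134557 IH) (Lpr_ct (f134545 IH) (Lpr_at (K5.f114752 IH) (Lpn (LP (LK LD1_c21 LD2_c34 LD3_c22))))))
theorem f58104 : Led Lsl_bt (LP (LK LD1_c12 LD2_c11 LD3_c49)) = (LP (LK LD1_c6 LD2_c17 LD3_c43)) :=
  Lre_b IH (LK LD1_c12 LD2_c11 LD3_c49) (LK LD1_c6 LD2_c17 LD3_c43) Lrfl Lrfl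
theorem f133486 : Led Lsl_bt (LP (LK LD1_c4 LD2_c47 LD3_c40)) = (LP (LK LD1_c9 LD2_c28 LD3_c18)) :=
  Lre_b IH (LK LD1_c4 LD2_c47 LD3_c40) (LK LD1_c9 LD2_c28 LD3_c18) Lrfl Lrfl
theorem f133487 : Led Lsl_ff (LP (LK LD1_c12 LD2_c11 LD3_c49)) = (LP (LK LD1_c9 LD2_c28 LD3_c18)) :=
  Lgr Lrot25 (Lpr_bt (f58104 IH) (Lpr_ft (K5.f133482 IH) (Lpr_bt (f133486 IH) (Lpn (LP (LK LD1_c9 LD2_c28 LD3_c18))))))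
theorem f133495 : Led Lsl_ft (LP (LK LD1_c12 LD2_c11 LD3_c49)) = (LP (LK LD1_c9 LD2_c28 LD3_c18)) :=
  Lgr Lrot48 (Lpr_ff (f133487 IH) (Lpn (LP (LK LD1_c9 LD2_c28 LD3_c18))))
theorem f133308 : Led Lsl_ct (LP (LK LD1_c12 LD2_c27 LD3_c0)) = (LP (LK LD1_c12 LD2_c11 LD3_c49)) :=
  Lgr Lrot83 (Lpe (K5.f67675 IH) (Lpe (K5.f67671 IH) (Lpe (K4.f79399 IH) (Lpr_cf (K5.f133306 IH) (Lpe (f58104 IH) (Lpn (LP (LK LD1_c12 LD2_c11 LD3_c49))))))))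
theorem f79409 : Led Lsl_bt (LP (LK LD1_c12 LD2_c27 LD3_c0)) = (LP (LK LD1_c6 LD2_c27 LD3_c51)) :=
  Lre_b IH (LK LD1_c12 LD2_c27 LD3_c0) (LK LD1_c6 LD2_c27 LD3_c51) Lrfl Lrfl
theorem f114558 : Led Lsl_ft (LP (LK LD1_c12 LD2_c13 LD3_c20)) = (LP (LK LD1_c12 LD2_c27 LD3_c0)) :=
  Lgr Lrot75 (Lpe (K5.f67904 IH) (Lpr_ff (K5.f114556 IH) (Lpe (f79409 IH) (Lpn (LP (LK LD1_c12 LD2_c27 LD3_c0))))))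
theorem f133508 : Led Lsl_cf (LP (LK LD1_c12 LD2_c13 LD3_c20)) = (LP (LK LD1_c9 LD2_c28 LD3_c18)) :=
  Lgr Lrot108 (Lpr_ft (f114558 IH) (Lpr_ct (f133308 IH) (Lpr_ft (f133495 IH) (Lpn (LP (LK LD1_c9 LD2_c28 LD3_c18))))))
theorem f133521 : Led Lsl_ct (LP (LK LD1_c12 LD2_c13 LD3_c20)) = (LP (LK LD1_c9 LD2_c28 LD3_c18)) :=
  Lgr Lrot59 (Lpr_cf (f133508 IH) (Lpn (LP (LK LD1_c9 LD2_c28 LD3_c18))))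
theorem f114606 : Led Lsl_at (LP (LK LD1_c21 LD2_c19 LD3_c15)) = (LP (LK LD1_c12 LD2_c13 LD3_c20)) :=
  Lre_a IH (LK LD1_c21 LD2_c19 LD3_c15) (LK LD1_c12 LD2_c13 LD3_c20) Lrfl Lrfl
theorem f133505 : Led Lsl_at (LP (LK LD1_c9 LD2_c28 LD3_c18)) = (LP (LK LD1_c17 LD2_c28 LD3_c4)) :=
  Lre_a IH (LK LD1_c9 LD2_c28 LD3_c18) (LK LD1_c17 LD2_c28 LD3_c4) Lrfl Lrfl
theorem f133531 : Led Lsl_cf (LP (LK LD1_c21 LD2_c19 LD3_c15)) = (LP (LK LD1_c17 LD2_c28 LD3_c4)) :=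
  Lgr Lrot1 (Lpr_at (f114606 IH) (Lpr_ct (f133521 IH) (Lpr_at (f133505 IH) (Lpn (LP (LK LD1_c17 LD2_c28 LD3_c4))))))
theorem f133412 : Led Lsl_bt (LP (LK LD1_c6 LD2_c17 LD3_c42)) = (LP (LK LD1_c12 LD2_c11 LD3_c47)) :=
  Lre_b IH (LK LD1_c6 LD2_c17 LD3_c42) (LK LD1_c12 LD2_c11 LD3_c47) Lrfl Lrfl
theorem f133564 : Led Lsl_at (LP (LK LD1_c12 LD2_c11 LD3_c47)) = (LP (LK LD1_c21 LD2_c17 LD3_c24)) :=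
  Lre_a IH (LK LD1_c12 LD2_c11 LD3_c47) (LK LD1_c21 LD2_c17 LD3_c24) Lrfl Lrfl
theorem f79602 : Led Lsl_bt (LP (LK LD1_c9 LD2_c28 LD3_c18)) = (LP (LK LD1_c4 LD2_c47 LD3_c40)) :=
  Lre_b IH (LK LD1_c9 LD2_c28 LD3_c18) (LK LD1_c4 LD2_c47 LD3_c40) Lrfl Lrfl
theorem f133489 : Led Lsl_at (LP (LK LD1_c17 LD2_c28 LD3_c4)) = (LP (LK LD1_c9 LD2_c28 LD3_c18)) :=
  Lre_a IH (LK LD1_c17 LD2_c28 LD3_c4) (LK LD1_c9 LD2_c28 LD3_c18) Lrfl Lrfl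
theorem f133565 : Led Lsl_bt (LP (LK LD1_c21 LD2_c17 LD3_c24)) = (LP (LK LD1_c17 LD2_c28 LD3_c4)) :=
  Lgr Lrot62 (Lpe (f133564 IH) (Lpe (f133412 IH) (Lpr_af (K5.f133484 IH) (Lpe (f79602 IH) (Lpe (f133489 IH) (Lpn (LP (LK LD1_c17 LD2_c28 LD3_c4))))))))
theorem f153331 : Led Lsl_ct (LP (LK LD1_c21 LD2_c37 LD3_c11)) = (LP (LK LD1_c21 LD2_c17 LD3_c24)) :=
  Lgr Lrot83 (Lpr_bf (f153327 IH) (Lpr_cf (f134558 IH) (Lpe (K5.f114620 IH) (Lpr_cf (f133531 IH) (Lpe (f133565 IH) (Lpn (LP (LK LD1_c21 LD2_c17 LD3_c24))))))))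
theorem f133453 : Led Lsl_at (LP (LK LD1_c21 LD2_c17 LD3_c28)) = (LP (LK LD1_c12 LD2_c11 LD3_c49)) :=
  Lre_a IH (LK LD1_c21 LD2_c17 LD3_c28) (LK LD1_c12 LD2_c11 LD3_c49) Lrfl Lrfl
theorem f133506 : Led Lsl_ff (LP (LK LD1_c21 LD2_c17 LD3_c28)) = (LP (LK LD1_c17 LD2_c28 LD3_c4)) :=
  Lgr Lrot30 (Lpr_at (f133453 IH) (Lpr_ft (f133495 IH) (Lpr_at (f133505 IH) (Lpn (LP (LK LD1_c17 LD2_c28 LD3_c4))))))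
theorem f58062 : Led Lsl_bt (LP (LK LD1_c9 LD2_c28 LD3_c15)) = (LP (LK LD1_c4 LD2_c47 LD3_c39)) :=
  Lre_b IH (LK LD1_c9 LD2_c28 LD3_c15) (LK LD1_c4 LD2_c47 LD3_c39) Lrfl Lrfl
theorem f115200 : Led Lsl_at (LP (LK LD1_c17 LD2_c27 LD3_c60)) = (LP (LK LD1_c9 LD2_c28 LD3_c15)) :=
  Lre_a IH (LK LD1_c17 LD2_c27 LD3_c60) (LK LD1_c9 LD2_c28 LD3_c15) Lrfl Lrfl
theorem f133314 : Led Lsl_bt (LP (LK LD1_c6 LD2_c17 LD3_c43)) = (LP (LK LD1_c12 LD2_c11 LD3_c49)) :=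
  Lre_b IH (LK LD1_c6 LD2_c17 LD3_c43) (LK LD1_c12 LD2_c11 LD3_c49) Lrfl Lrfl
theorem f133423 : Led Lsl_at (LP (LK LD1_c12 LD2_c11 LD3_c49)) = (LP (LK LD1_c21 LD2_c17 LD3_c28)) :=
  Lre_a IH (LK LD1_c12 LD2_c11 LD3_c49) (LK LD1_c21 LD2_c17 LD3_c28) Lrfl Lrfl
theorem f133424 : Led Lsl_bf (LP (LK LD1_c17 LD2_c27 LD3_c60)) = (LP (LK LD1_c21 LD2_c17 LD3_c28)) :=
  Lgr Lrot81 (Lpr_at (f115200 IH) (Lpr_bt (f58062 IH) (Lpr_at (K5.f133419 IH) (Lpr_bt (f133314 IH) (Lpr_at (f133423 IH) (Lpn (LP (LK LD1_c21 LD2_c17 LD3_c28))))))))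
theorem f133572 : Led Lsl_ff (LP (LK LD1_c21 LD2_c17 LD3_c24)) = (LP (LK LD1_c17 LD2_c27 LD3_c60)) :=
  Lgr Lrot25 (Lpr_bt (f133565 IH) (Lpe (f133506 IH) (Lpe (f133424 IH) (Lpn (LP (LK LD1_c17 LD2_c27 LD3_c60))))))
theorem f133578 : Led Lsl_ft (LP (LK LD1_c21 LD2_c17 LD3_c24)) = (LP (LK LD1_c17 LD2_c27 LD3_c60)) :=
  Lgr Lrot48 (Lpr_ff (f133572 IH) (Lpn (LP (LK LD1_c17 LD2_c27 LD3_c60))))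
theorem f115152 : Led Lsl_ct (LP (LK LD1_c4 LD2_c47 LD3_c39)) = (LP (LK LD1_c4 LD2_c40 LD3_c12)) :=
  Lgr Lrot59 (Lpr_cf (K5.f115147 IH) (Lpn (LP (LK LD1_c4 LD2_c40 LD3_c12))))
theorem f105655 : Led Lsl_bt (LP (LK LD1_c7 LD2_c20 LD3_c9)) = (LP (LK LD1_c13 LD2_c52 LD3_c33)) :=
  Lre_b IH (LK LD1_c7 LD2_c20 LD3_c9) (LK LD1_c13 LD2_c52 LD3_c33) Lrfl Lrfl
theorem f115191 : Led Lsl_cf (LP (LK LD1_c9 LD2_c28 LD3_c15)) = (LP (LK LD1_c13 LD2_c52 LD3_c33)) :=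
  Lgr Lrot97 (Lpr_bt (f58062 IH) (Lpr_ct (f115152 IH) (Lpe (K5.f115135 IH) (Lpr_ct (K5.f12554 IH) (Lpr_bt (f105655 IH) (Lpn (LP (LK LD1_c13 LD2_c52 LD3_c33))))))))
theorem f115195 : Led Lsl_at (LP (LK LD1_c9 LD2_c28 LD3_c15)) = (LP (LK LD1_c17 LD2_c27 LD3_c60)) :=
  Lre_a IH (LK LD1_c9 LD2_c28 LD3_c15) (LK LD1_c17 LD2_c27 LD3_c60) Lrfl Lrfl
theorem f115196 : Led Lsl_at (LP (LK LD1_c23 LD2_c22 LD3_c30)) = (LP (LK LD1_c13 LD2_c52 LD3_c33)) :=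
  Lre_a IH (LK LD1_c23 LD2_c22 LD3_c30) (LK LD1_c13 LD2_c52 LD3_c33) Lrfl Lrfl
theorem f115197 : Led Lsl_ct (LP (LK LD1_c17 LD2_c27 LD3_c60)) = (LP (LK LD1_c23 LD2_c22 LD3_c30)) :=
  Lgr Lrot111 (Lpe (f115195 IH) (Lpr_cf (f115191 IH) (Lpe (f115196 IH) (Lpn (LP (LK LD1_c23 LD2_c22 LD3_c30))))))
theorem f153336 : Led Lsl_ff (LP (LK LD1_c21 LD2_c37 LD3_c11)) = (LP (LK LD1_c23 LD2_c22 LD3_c30)) :=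
  Lgr Lrot23 (Lpr_ct (f153331 IH) (Lpr_ft (f133578 IH) (Lpr_ct (f115197 IH) (Lpn (LP (LK LD1_c23 LD2_c22 LD3_c30))))))
theorem f153340 : Led Lsl_ft (LP (LK LD1_c21 LD2_c37 LD3_c11)) = (LP (LK LD1_c23 LD2_c22 LD3_c30)) :=
  Lgr Lrot48 (Lpr_ff (f153336 IH) (Lpn (LP (LK LD1_c23 LD2_c22 LD3_c30))))
theorem f153333 : Led Lsl_at (LP (LK LD1_c12 LD2_c30 LD3_c42)) = (LP (LK LD1_c21 LD2_c37 LD3_c11)) :=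
  Lre_a IH (LK LD1_c12 LD2_c30 LD3_c42) (LK LD1_c21 LD2_c37 LD3_c11) Lrfl Lrfl
theorem f153346 : Led Lsl_ff (LP (LK LD1_c12 LD2_c30 LD3_c42)) = (LP (LK LD1_c13 LD2_c52 LD3_c33)) :=
  Lgr Lrot30 (Lpr_at (f153333 IH) (Lpr_ft (f153340 IH) (Lpr_at (f115196 IH) (Lpn (LP (LK LD1_c13 LD2_c52 LD3_c33))))))
theorem f153350 : Led Lsl_ft (LP (LK LD1_c6 LD2_c31 LD3_c2)) = (LP (LK LD1_c7 LD2_c20 LD3_c9)) :=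
  Lgr Lrot75 (Lpe (f95953 IH) (Lpr_ff (f153346 IH) (Lpe (f105655 IH) (Lpn (LP (LK LD1_c7 LD2_c20 LD3_c9))))))
theorem f153204 : Led Lsl_ct (LP (LK LD1_c12 LD2_c30 LD3_c43)) = (LP (LK LD1_c7 LD2_c26 LD3_c18)) :=
  Lgr Lrot59 (Lpr_cf (f153201 IH) (Lpn (LP (LK LD1_c7 LD2_c26 LD3_c18))))
theorem f21088 : Led Lsl_gt (LP (LK LD1_c0 LD2_c45 LD3_c58)) = (LP (LK LD1_c0 LD2_c20 LD3_c34)) :=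
  Lre_g IH (LK LD1_c0 LD2_c45 LD3_c58) (LK LD1_c0 LD2_c20 LD3_c34) Lrfl Lrfl
theorem f21090 : Led Lsl_ct (LP (LK LD1_c1 LD2_c39 LD3_c5)) = (LP (LK LD1_c0 LD2_c45 LD3_c58)) :=
  Lre_c IH (LK LD1_c1 LD2_c39 LD3_c5) (LK LD1_c0 LD2_c45 LD3_c58) Lrfl Lrfl
theorem f21137 : Led Lsl_ct (LP (LK LD1_c0 LD2_c45 LD3_c58)) = (LP (LK LD1_c1 LD2_c39 LD3_c5)) :=
  Lre_c IH (LK LD1_c0 LD2_c45 LD3_c58) (LK LD1_c1 LD2_c39 LD3_c5) Lrfl Lrfl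
theorem f134688 : Led Lsl_gf (LP (LK LD1_c3 LD2_c6 LD3_c19)) = (LP (LK LD1_c1 LD2_c39 LD3_c5)) :=
  Lgr Lrot172 (Lpe (K2.f87527 IH) (Lpr_dt (K3.f87547 IH) (Lpr_cf (K5.f131064 IH) (Lpe (K5.f124261 IH) (Lpe (K4.f120877 IH) (Lpe (K5.f124251 IH) (Lpr_dt (K5.f134672 IH) (Lpr_gt (f21133 IH) (Lpr_ct (f21137 IH) (Lpn (LP (LK LD1_c1 LD2_c39 LD3_c5))))))))))))
theorem f143728 : Led Lsl_df (LP (LK LD1_c3 LD2_c42 LD3_c33)) = (LP (LK LD1_c3 LD2_c6 LD3_c19)) :=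
  Lgr Lrot153 (Lpr_gt (K6.f143726 IH) (Lpr_dt (K6.f17710 IH) (Lpe (K0.f17711 IH) (Lpe (K5.f17706 IH) (Lpr_gf (K6.f143200 IH) (Lpe (K5.f21130 IH) (Lpe (f21088 IH) (Lpe (f21090 IH) (Lpe (f134688 IH) (Lpn (LP (LK LD1_c3 LD2_c6 LD3_c19))))))))))))
theorem f95815 : Led Lsl_gt (LP (LK LD1_c3 LD2_c13 LD3_c42)) = (LP (LK LD1_c6 LD2_c31 LD3_c1)) :=
  Lre_g IH (LK LD1_c3 LD2_c13 LD3_c42) (LK LD1_c6 LD2_c31 LD3_c1) Lrfl Lrfl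
theorem f153359 : Led Lsl_af (LP (LK LD1_c6 LD2_c31 LD3_c1)) = (LP (LK LD1_c7 LD2_c20 LD3_c9)) :=
  Lgr Lrot31 (Lpe (f95815 IH) (Lpe (f95816 IH) (Lpr_ft (f153350 IH) (Lpn (LP (LK LD1_c7 LD2_c20 LD3_c9))))))
theorem f153361 : Led Lsl_ct (LP (LK LD1_c3 LD2_c42 LD3_c33)) = (LP (LK LD1_c6 LD2_c31 LD3_c1)) :=
  Lgr Lrot98 (Lpr_df (f143728 IH) (Lpe (K2.f87548 IH) (Lpe (K3.f87529 IH) (Lpr_cf (K5.f131064 IH) (Lpe (f131066 IH) (Lpe (f153204 IH) (Lpe (f134866 IH) (Lpr_ft (f153350 IH) (Lpe (f153359 IH) (Lpn (LP (LK LD1_c6 LD2_c31 LD3_c1))))))))))))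
theorem f120903 : Led Lsl_dt (LP (LK LD1_c1 LD2_c48 LD3_c16)) = (LP (LK LD1_c3 LD2_c42 LD3_c32)) :=
  Lre_d IH (LK LD1_c1 LD2_c48 LD3_c16) (LK LD1_c3 LD2_c42 LD3_c32) Lrfl Lrfl
theorem f120910 : Led Lsl_ct (LP (LK LD1_c7 LD2_c25 LD3_c43)) = (LP (LK LD1_c3 LD2_c42 LD3_c32)) :=
  Lre_c IH (LK LD1_c7 LD2_c25 LD3_c43) (LK LD1_c3 LD2_c42 LD3_c32) Lrfl Lrfl
theorem f125211 : Led Lsl_at (LP (LK LD1_c7 LD2_c20 LD3_c6)) = (LP (LK LD1_c7 LD2_c25 LD3_c42)) :=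
  Lgr Lrot100 (Lpr_af (f125209 IH) (Lpn (LP (LK LD1_c7 LD2_c25 LD3_c42))))
theorem f106790 : Led Lsl_dt (LP (LK LD1_c3 LD2_c39 LD3_c60)) = (LP (LK LD1_c1 LD2_c46 LD3_c60)) :=
  Lre_d IH (LK LD1_c3 LD2_c39 LD3_c60) (LK LD1_c1 LD2_c46 LD3_c60) Lrfl Lrfl
theorem f125127 : Led Lsl_af (LP (LK LD1_c3 LD2_c39 LD3_c60)) = (LP (LK LD1_c3 LD2_c42 LD3_c32)) :=
  Lgr Lrot117 (Lpr_dt (f106790 IH) (Lpr_at (K5.f125119 IH) (Lpr_dt (f120903 IH) (Lpn (LP (LK LD1_c3 LD2_c42 LD3_c32))))))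
theorem f125131 : Led Lsl_at (LP (LK LD1_c7 LD2_c20 LD3_c7)) = (LP (LK LD1_c7 LD2_c25 LD3_c43)) :=
  Lgr Lrot107 (Lpe (K5.f106787 IH) (Lpr_af (f125127 IH) (Lpe (f120910 IH) (Lpn (LP (LK LD1_c7 LD2_c25 LD3_c43))))))
theorem f131232 : Led Lsl_ff (LP (LK LD1_c7 LD2_c20 LD3_c6)) = (LP (LK LD1_c7 LD2_c25 LD3_c43)) :=
  Lgr Lrot30 (Lpr_at (f125211 IH) (Lpr_ft (f131230 IH) (Lpr_at (f125131 IH) (Lpn (LP (LK LD1_c7 LD2_c25 LD3_c43))))))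
theorem f153257 : Led Lsl_dt (LP (LK LD1_c12 LD2_c30 LD3_c48)) = (LP (LK LD1_c7 LD2_c25 LD3_c43)) :=
  Lgr Lrot60 (Lpr_ff (f153250 IH) (Lpe (f114181 IH) (Lpr_ff (f131232 IH) (Lpn (LP (LK LD1_c7 LD2_c25 LD3_c43))))))
theorem f106965 : Led Lsl_gt (LP (LK LD1_c13 LD2_c0 LD3_c46)) = (LP (LK LD1_c12 LD2_c30 LD3_c48)) :=
  Lgr Lrot5 (Lpr_ft (K3.f106956 IH) (Lpe (K3.f106951 IH) (Lpe (f95812 IH) (Lpn (LP (LK LD1_c12 LD2_c30 LD3_c48))))))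
theorem f87504 : Led Lsl_dt (LP (LK LD1_c6 LD2_c49 LD3_c15)) = (LP (LK LD1_c13 LD2_c0 LD3_c46)) :=
  Lre_d IH (LK LD1_c6 LD2_c49 LD3_c15) (LK LD1_c13 LD2_c0 LD3_c46) Lrfl Lrfl
theorem f153372 : Led Lsl_gf (LP (LK LD1_c6 LD2_c49 LD3_c15)) = (LP (LK LD1_c6 LD2_c31 LD3_c1)) :=
  Lgr Lrot148 (Lpr_dt (f87504 IH) (Lpr_gt (f106965 IH) (Lpr_dt (f153257 IH) (Lpr_ct (f120910 IH) (Lpe (f120903 IH) (Lpe (K5.f120911 IH) (Lpe (K6.f17710 IH) (Lpe (K6.f143726 IH) (Lpr_ct (f153361 IH) (Lpn (LP (LK LD1_c6 LD2_c31 LD3_c1))))))))))))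
theorem f142977 : Led Lsl_ff (LP (LK LD1_c3 LD2_c42 LD3_c33)) = (LP (LK LD1_c3 LD2_c40 LD3_c1)) :=
  Lgr Lrot19 (Lpe (f120907 IH) (Lpr_ft (K6.f142975 IH) (Lpe (K6.f134597 IH) (Lpn (LP (LK LD1_c3 LD2_c40 LD3_c1))))))
theorem f153368 : Led Lsl_ff (LP (LK LD1_c7 LD2_c20 LD3_c11)) = (LP (LK LD1_c6 LD2_c31 LD3_c1)) :=
  Lgr Lrot23 (Lpr_ct (f134568 IH) (Lpe (f142977 IH) (Lpr_ct (f153361 IH) (Lpn (LP (LK LD1_c6 LD2_c31 LD3_c1))))))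
theorem f153324 : Led Lsl_af (LP (LK LD1_c6 LD2_c31 LD3_c2)) = (LP (LK LD1_c7 LD2_c20 LD3_c11)) :=
  Lgr Lrot0 (Lpr_at (f153320 IH) (Lpn (LP (LK LD1_c7 LD2_c20 LD3_c11))))
theorem f153378 : Led Lsl_gt (LP (LK LD1_c6 LD2_c49 LD3_c15)) = (LP (LK LD1_c6 LD2_c31 LD3_c2)) :=
  Lgr Lrot46 (Lpr_gf (f153372 IH) (Lpe (f153368 IH) (Lpe (f153324 IH) (Lpn (LP (LK LD1_c6 LD2_c31 LD3_c2))))))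
theorem f153190 : Led Lsl_bt (LP (LK LD1_c3 LD2_c42 LD3_c34)) = (LP (LK LD1_c6 LD2_c23 LD3_c52)) :=
  Lgr Lrot127 (Lpr_bf (f153188 IH) (Lpn (LP (LK LD1_c6 LD2_c23 LD3_c52))))
theorem f153384 : Led Lsl_gf (LP (LK LD1_c3 LD2_c22 LD3_c51)) = (LP (LK LD1_c3 LD2_c1 LD3_c4)) :=
  Lgr Lrot181 (Lpr_ct (K3.f87503 IH) (Lpr_gt (f153378 IH) (Lpe (f153199 IH) (Lpr_bt (f153190 IH) (Lpe (f153147 IH) (Lpr_bf (K2.f23510 IH) (Lpr_ct (K6.f134063 IH) (Lpr_gt (K6.f143847 IH) (Lpe (K6.f113269 IH) (Lpr_bt (K6.f135618 IH) (Lpn (LP (LK LD1_c3 LD2_c1 LD3_c4)))))))))))))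
theorem f84926 : Led Lsl_gt (LP (LK LD1_c3 LD2_c31 LD3_c61)) = (LP (LK LD1_c1 LD2_c42 LD3_c41)) :=
  Lre_g IH (LK LD1_c3 LD2_c31 LD3_c61) (LK LD1_c1 LD2_c42 LD3_c41) Lrfl Lrfl
theorem f153392 : Led Lsl_cf (LP (LK LD1_c3 LD2_c31 LD3_c61)) = (LP (LK LD1_c3 LD2_c1 LD3_c3)) :=
  Lgr Lrot166 (Lpr_gt (f84926 IH) (Lpr_dt (K3.f87547 IH) (Lpr_gt (K5.f109129 IH) (Lpr_dt (K4.f87492 IH) (Lpr_ct (K2.f87483 IH) (Lpe (K3.f87488 IH) (Lpr_gf (f153384 IH) (Lpe (K5.f21116 IH) (Lpe (K6.f21127 IH) (Lpn (LP (LK LD1_c3 LD2_c1 LD3_c3))))))))))))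
theorem f61725 : Led Lsl_bt (LP (LK LD1_c3 LD2_c6 LD3_c19)) = (LP (LK LD1_c1 LD2_c29 LD3_c17)) :=
  Lre_b IH (LK LD1_c3 LD2_c6 LD3_c19) (LK LD1_c1 LD2_c29 LD3_c17) Lrfl Lrfl
theorem f83118 : Led Lsl_bt (LP (LK LD1_c0 LD2_c18 LD3_c40)) = (LP (LK LD1_c0 LD2_c41 LD3_c50)) :=
  Lre_b IH (LK LD1_c0 LD2_c18 LD3_c40) (LK LD1_c0 LD2_c41 LD3_c50) Lrfl Lrfl
theorem f153394 : Led Lsl_gt (LP (LK LD1_c1 LD2_c29 LD3_c17)) = (LP (LK LD1_c0 LD2_c41 LD3_c50)) :=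
  Lgr Lrot164 (Lpe (f61725 IH) (Lpe (K2.f87527 IH) (Lpe (f84926 IH) (Lpr_cf (f153392 IH) (Lpe (K6.f21048 IH) (Lpe (K2.f21047 IH) (Lpe (K2.f21035 IH) (Lpr_gf (K6.f145488 IH) (Lpe (K6.f145490 IH) (Lpr_bt (f83118 IH) (Lpn (LP (LK LD1_c0 LD2_c41 LD3_c50)))))))))))))
theorem f83128 : Led Lsl_dt (LP (LK LD1_c0 LD2_c41 LD3_c50)) = (LP (LK LD1_c1 LD2_c30 LD3_c39)) :=
  Lre_d IH (LK LD1_c0 LD2_c41 LD3_c50) (LK LD1_c1 LD2_c30 LD3_c39) Lrfl Lrfl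
theorem f153399 : Led Lsl_gf (LP (LK LD1_c3 LD2_c6 LD3_c18)) = (LP (LK LD1_c1 LD2_c30 LD3_c39)) :=
  Lgr Lrot134 (Lpe (K5.f77799 IH) (Lpr_et (K2.f77798 IH) (Lpr_gt (K2.f77789 IH) (Lpe (K2.f76717 IH) (Lpr_dt (K2.f9763 IH) (Lpe (K2.f79040 IH) (Lpe (K4.f25113 IH) (Lpr_et (K2.f61717 IH) (Lpr_gt (f153394 IH) (Lpr_dt (f83128 IH) (Lpn (LP (LK LD1_c1 LD2_c30 LD3_c39)))))))))))))
theorem f77913 : Led Lsl_dt (LP (LK LD1_c4 LD2_c40 LD3_c14)) = (LP (LK LD1_c9 LD2_c15 LD3_c52)) :=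
  Lre_d IH (LK LD1_c4 LD2_c40 LD3_c14) (LK LD1_c9 LD2_c15 LD3_c52) Lrfl Lrfl
theorem f77914 : Led Lsl_dt (LP (LK LD1_c6 LD2_c18 LD3_c6)) = (LP (LK LD1_c3 LD2_c6 LD3_c17)) :=
  Lre_d IH (LK LD1_c6 LD2_c18 LD3_c6) (LK LD1_c3 LD2_c6 LD3_c17) Lrfl Lrfl
theorem f77915 : Led Lsl_bt (LP (LK LD1_c9 LD2_c15 LD3_c52)) = (LP (LK LD1_c6 LD2_c18 LD3_c6)) :=
  Lgr Lrot95 (Lpe (f77913 IH) (Lpr_bf (K5.f77908 IH) (Lpe (f77914 IH) (Lpn (LP (LK LD1_c6 LD2_c18 LD3_c6))))))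
theorem f77921 : Led Lsl_bf (LP (LK LD1_c9 LD2_c15 LD3_c52)) = (LP (LK LD1_c6 LD2_c18 LD3_c6)) :=
  Lgr Lrot24 (Lpr_bt (f77915 IH) (Lpn (LP (LK LD1_c6 LD2_c18 LD3_c6))))
theorem f77931 : Led Lsl_et (LP (LK LD1_c9 LD2_c15 LD3_c52)) = (LP (LK LD1_c4 LD2_c40 LD3_c15)) :=
  Lre_e IH (LK LD1_c9 LD2_c15 LD3_c52) (LK LD1_c4 LD2_c40 LD3_c15) Lrfl Lrfl
theorem f77933 : Led Lsl_bt (LP (LK LD1_c4 LD2_c40 LD3_c15)) = (LP (LK LD1_c3 LD2_c6 LD3_c18)) :=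
  Lgr Lrot119 (Lpe (f77931 IH) (Lpr_bf (f77921 IH) (Lpe (K4.f77932 IH) (Lpn (LP (LK LD1_c3 LD2_c6 LD3_c18))))))
theorem f84526 : Led Lsl_bt (LP (LK LD1_c0 LD2_c41 LD3_c51)) = (LP (LK LD1_c1 LD2_c30 LD3_c39)) :=
  Lre_b IH (LK LD1_c0 LD2_c41 LD3_c51) (LK LD1_c1 LD2_c30 LD3_c39) Lrfl Lrfl
theorem f57659 : Led Lsl_ct (LP (LK LD1_c0 LD2_c45 LD3_c5)) = (LP (LK LD1_c1 LD2_c37 LD3_c26)) :=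
  Lre_c IH (LK LD1_c0 LD2_c45 LD3_c5) (LK LD1_c1 LD2_c37 LD3_c26) Lrfl Lrfl
theorem f25700 : Led Lsl_dt (LP (LK LD1_c0 LD2_c45 LD3_c5)) = (LP (LK LD1_c0 LD2_c19 LD3_c60)) :=
  Lre_d IH (LK LD1_c0 LD2_c45 LD3_c5) (LK LD1_c0 LD2_c19 LD3_c60) Lrfl Lrfl
theorem f25801 : Led Lsl_dt (LP (LK LD1_c0 LD2_c30 LD3_c20)) = (LP (LK LD1_c1 LD2_c6 LD3_c21)) :=
  Lre_d IH (LK LD1_c0 LD2_c30 LD3_c20) (LK LD1_c1 LD2_c6 LD3_c21) Lrfl Lrfl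
theorem f152178 : Led Lsl_gf (LP (LK LD1_c0 LD2_c45 LD3_c5)) = (LP (LK LD1_c1 LD2_c6 LD3_c21)) :=
  Lgr Lrot143 (Lpr_dt (f25700 IH) (Lpr_cf (K6.f146209 IH) (Lpe (K6.f20915 IH) (Lpr_gf (f152176 IH) (Lpr_df (K1.f20930 IH) (Lpe (K6.f145468 IH) (Lpr_cf (K2.f21035 IH) (Lpe (f143017 IH) (Lpr_dt (f25801 IH) (Lpn (LP (LK LD1_c1 LD2_c6 LD3_c21))))))))))))
theorem f135516 : Led Lsl_bt (LP (LK LD1_c2 LD2_c18 LD3_c39)) = (LP (LK LD1_c1 LD2_c6 LD3_c21)) :=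
  Lre_b IH (LK LD1_c2 LD2_c18 LD3_c39) (LK LD1_c1 LD2_c6 LD3_c21) Lrfl Lrfl
theorem f135517 : Led Lsl_ct (LP (LK LD1_c2 LD2_c18 LD3_c39)) = (LP (LK LD1_c4 LD2_c42 LD3_c28)) :=
  Lre_c IH (LK LD1_c2 LD2_c18 LD3_c39) (LK LD1_c4 LD2_c42 LD3_c28) Lrfl Lrfl
theorem f153409 : Led Lsl_gt (LP (LK LD1_c9 LD2_c15 LD3_c54)) = (LP (LK LD1_c4 LD2_c42 LD3_c28)) :=
  Lgr Lrot65 (Lpe (f77943 IH) (Lpr_bt (f77933 IH) (Lpr_gf (f153399 IH) (Lpe (f84526 IH) (Lpr_ct (K6.f25815 IH) (Lpe (K6.f135281 IH) (Lpe (f57659 IH) (Lpr_gf (f152178 IH) (Lpe (f135516 IH) (Lpr_ct (f135517 IH) (Lpn (LP (LK LD1_c4 LD2_c42 LD3_c28)))))))))))))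
theorem f133263 : Led Lsl_df (LP (LK LD1_c12 LD2_c11 LD3_c56)) = (LP (LK LD1_c9 LD2_c15 LD3_c54)) :=
  Lgr Lrot38 (Lpr_dt (K5.f133259 IH) (Lpn (LP (LK LD1_c9 LD2_c15 LD3_c54))))
theorem f83966 : Led Lsl_dt (LP (LK LD1_c12 LD2_c11 LD3_c43)) = (LP (LK LD1_c6 LD2_c17 LD3_c38)) :=
  Lre_d IH (LK LD1_c12 LD2_c11 LD3_c43) (LK LD1_c6 LD2_c17 LD3_c38) Lrfl Lrfl
theorem f153416 : Led Lsl_ct (LP (LK LD1_c4 LD2_c42 LD3_c28)) = (LP (LK LD1_c2 LD2_c18 LD3_c39)) :=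
  Lre_c IH (LK LD1_c4 LD2_c42 LD3_c28) (LK LD1_c2 LD2_c18 LD3_c39) Lrfl Lrfl
theorem f153417 : Led Lsl_gf (LP (LK LD1_c3 LD2_c6 LD3_c1)) = (LP (LK LD1_c2 LD2_c18 LD3_c39)) :=
  Lgr Lrot104 (Lpr_ct (K5.f25714 IH) (Lpe (f83966 IH) (Lpe (K5.f133271 IH) (Lpr_gf (K5.f86183 IH) (Lpe (K5.f86153 IH) (Lpe (K5.f25629 IH) (Lpr_df (f133263 IH) (Lpr_gt (f153409 IH) (Lpr_ct (f153416 IH) (Lpn (LP (LK LD1_c2 LD2_c18 LD3_c39))))))))))))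
theorem f79563 : Led Lsl_gt (LP (LK LD1_c9 LD2_c15 LD3_c56)) = (LP (LK LD1_c4 LD2_c40 LD3_c16)) :=
  Lre_g IH (LK LD1_c9 LD2_c15 LD3_c56) (LK LD1_c4 LD2_c40 LD3_c16) Lrfl Lrfl
theorem f133286 : Led Lsl_gf (LP (LK LD1_c9 LD2_c15 LD3_c56)) = (LP (LK LD1_c6 LD2_c17 LD3_c38)) :=
  Lgr Lrot47 (Lpr_gt (f79563 IH) (Lpe (K5.f133229 IH) (Lpr_ff (K5.f133276 IH) (Lpn (LP (LK LD1_c6 LD2_c17 LD3_c38))))))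
theorem f98950 : Led Lsl_et (LP (LK LD1_c0 LD2_c13 LD3_c47)) = (LP (LK LD1_c0 LD2_c31 LD3_c4)) :=
  Lre_e IH (LK LD1_c0 LD2_c13 LD3_c47) (LK LD1_c0 LD2_c31 LD3_c4) Lrfl Lrfl
theorem f25894 : Led Lsl_ct (LP (LK LD1_c0 LD2_c8 LD3_c24)) = (LP (LK LD1_c0 LD2_c18 LD3_c44)) :=
  Lre_c IH (LK LD1_c0 LD2_c8 LD3_c24) (LK LD1_c0 LD2_c18 LD3_c44) Lrfl Lrfl
theorem f83151 : Led Lsl_et (LP (LK LD1_c0 LD2_c18 LD3_c44)) = (LP (LK LD1_c0 LD2_c19 LD3_c18)) :=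
  Lgr Lrot158 (Lpe (f25894 IH) (Lpr_ef (f83149 IH) (Lpe (f83143 IH) (Lpn (LP (LK LD1_c0 LD2_c19 LD3_c18))))))
theorem f83153 : Led Lsl_bt (LP (LK LD1_c0 LD2_c41 LD3_c58)) = (LP (LK LD1_c0 LD2_c18 LD3_c44)) :=
  Lre_b IH (LK LD1_c0 LD2_c41 LD3_c58) (LK LD1_c0 LD2_c18 LD3_c44) Lrfl Lrfl
theorem f83144 : Led Lsl_bt (LP (LK LD1_c0 LD2_c19 LD3_c18)) = (LP (LK LD1_c0 LD2_c43 LD3_c14)) :=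
  Lre_b IH (LK LD1_c0 LD2_c19 LD3_c18) (LK LD1_c0 LD2_c43 LD3_c14) Lrfl Lrfl
theorem f83154 : Led Lsl_ef (LP (LK LD1_c0 LD2_c41 LD3_c58)) = (LP (LK LD1_c0 LD2_c43 LD3_c14)) :=
  Lgr Lrot29 (Lpr_bt (f83153 IH) (Lpr_et (f83151 IH) (Lpr_bt (f83144 IH) (Lpn (LP (LK LD1_c0 LD2_c43 LD3_c14))))))
theorem f83180 : Led Lsl_et (LP (LK LD1_c0 LD2_c41 LD3_c58)) = (LP (LK LD1_c0 LD2_c43 LD3_c14)) :=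
  Lgr Lrot87 (Lpr_ef (f83154 IH) (Lpn (LP (LK LD1_c0 LD2_c43 LD3_c14))))
theorem f152861 : Led Lsl_gt (LP (LK LD1_c0 LD2_c31 LD3_c4)) = (LP (LK LD1_c0 LD2_c43 LD3_c14)) :=
  Lgr Lrot131 (Lpe (f98950 IH) (Lpr_dt (K3.f97556 IH) (Lpr_gf (K3.f98945 IH) (Lpe (K3.f13681 IH) (Lpe (K3.f99151 IH) (Lpe (K4.f102179 IH) (Lpr_dt (K5.f7475 IH) (Lpr_gf (f152842 IH) (Lpe (f83178 IH) (Lpr_et (f83180 IH) (Lpn (LP (LK LD1_c0 LD2_c43 LD3_c14)))))))))))))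
theorem f102269 : Led Lsl_at (LP (LK LD1_c0 LD2_c31 LD3_c4)) = (LP (LK LD1_c1 LD2_c7 LD3_c37)) :=
  Lre_a IH (LK LD1_c0 LD2_c31 LD3_c4) (LK LD1_c1 LD2_c7 LD3_c37) Lrfl Lrfl
theorem f102270 : Led Lsl_at (LP (LK LD1_c1 LD2_c7 LD3_c37)) = (LP (LK LD1_c0 LD2_c31 LD3_c4)) :=
  Lre_a IH (LK LD1_c1 LD2_c7 LD3_c37) (LK LD1_c0 LD2_c31 LD3_c4) Lrfl Lrfl
theorem f102271 : Led Lsl_ff (LP (LK LD1_c0 LD2_c31 LD3_c4)) = (LP (LK LD1_c0 LD2_c31 LD3_c4)) :=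
  Lgr Lrot30 (Lpr_at (f102269 IH) (Lpr_ft (K5.f99111 IH) (Lpr_at (f102270 IH) (Lpn (LP (LK LD1_c0 LD2_c31 LD3_c4))))))
theorem f152927 : Led Lsl_gf (LP (LK LD1_c1 LD2_c7 LD3_c37)) = (LP (LK LD1_c0 LD2_c43 LD3_c14)) :=
  Lgr Lrot76 (Lpe (f102269 IH) (Lpr_ff (f102271 IH) (Lpr_gt (f152861 IH) (Lpn (LP (LK LD1_c0 LD2_c43 LD3_c14))))))
theorem f23422 : Led Lsl_bt (LP (LK LD1_c0 LD2_c13 LD3_c41)) = (LP (LK LD1_c0 LD2_c30 LD3_c47)) :=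
  Lre_b IH (LK LD1_c0 LD2_c13 LD3_c41) (LK LD1_c0 LD2_c30 LD3_c47) Lrfl Lrfl
theorem f23419 : Led Lsl_gt (LP (LK LD1_c1 LD2_c7 LD3_c10)) = (LP (LK LD1_c0 LD2_c30 LD3_c47)) :=
  Lre_g IH (LK LD1_c1 LD2_c7 LD3_c10) (LK LD1_c0 LD2_c30 LD3_c47) Lrfl Lrfl
theorem f23429 : Led Lsl_bt (LP (LK LD1_c2 LD2_c19 LD3_c52)) = (LP (LK LD1_c1 LD2_c7 LD3_c10)) :=
  Lre_b IH (LK LD1_c2 LD2_c19 LD3_c52) (LK LD1_c1 LD2_c7 LD3_c10) Lrfl Lrfl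
theorem f152929 : Led Lsl_cf (LP (LK LD1_c2 LD2_c20 LD3_c36)) = (LP (LK LD1_c2 LD2_c19 LD3_c52)) :=
  Lgr Lrot163 (Lpr_gf (K5.f102288 IH) (Lpe (K5.f102274 IH) (Lpr_gf (f152927 IH) (Lpe (f83144 IH) (Lpr_ct (f83143 IH) (Lpe (f83138 IH) (Lpe (K2.f23395 IH) (Lpr_bt (f23422 IH) (Lpe (f23419 IH) (Lpe (f23429 IH) (Lpn (LP (LK LD1_c2 LD2_c19 LD3_c52)))))))))))))
theorem f125292 : Led Lsl_ef (LP (LK LD1_c4 LD2_c40 LD3_c11)) = (LP (LK LD1_c2 LD2_c20 LD3_c36)) :=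
  Lgr Lrot88 (Lpr_et (K5.f125290 IH) (Lpn (LP (LK LD1_c2 LD2_c20 LD3_c36))))
theorem f82452 : Led Lsl_dt (LP (LK LD1_c0 LD2_c30 LD3_c34)) = (LP (LK LD1_c1 LD2_c6 LD3_c49)) :=
  Lre_d IH (LK LD1_c0 LD2_c30 LD3_c34) (LK LD1_c1 LD2_c6 LD3_c49) Lrfl Lrfl
theorem f82460 : Led Lsl_gt (LP (LK LD1_c2 LD2_c19 LD3_c26)) = (LP (LK LD1_c1 LD2_c6 LD3_c49)) :=
  Lre_g IH (LK LD1_c2 LD2_c19 LD3_c26) (LK LD1_c1 LD2_c6 LD3_c49) Lrfl Lrfl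
theorem f104709 : Led Lsl_et (LP (LK LD1_c0 LD2_c18 LD3_c35)) = (LP (LK LD1_c0 LD2_c41 LD3_c35)) :=
  Lre_e IH (LK LD1_c0 LD2_c18 LD3_c35) (LK LD1_c0 LD2_c41 LD3_c35) Lrfl Lrfl
theorem f104677 : Led Lsl_gt (LP (LK LD1_c0 LD2_c41 LD3_c35)) = (LP (LK LD1_c1 LD2_c29 LD3_c55)) :=
  Lre_g IH (LK LD1_c0 LD2_c41 LD3_c35) (LK LD1_c1 LD2_c29 LD3_c55) Lrfl Lrfl
theorem f152501 : Led Lsl_df (LP (LK LD1_c2 LD2_c19 LD3_c26)) = (LP (LK LD1_c1 LD2_c29 LD3_c55)) :=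
  Lgr Lrot135 (Lpr_gt (f82460 IH) (Lpe (f82452 IH) (Lpr_et (K2.f82394 IH) (Lpr_gt (K3.f61673 IH) (Lpe (K5.f131519 IH) (Lpe (K4.f120177 IH) (Lpr_gt (f152484 IH) (Lpe (f104714 IH) (Lpr_et (f104709 IH) (Lpr_gt (f104677 IH) (Lpn (LP (LK LD1_c1 LD2_c29 LD3_c55)))))))))))))
theorem f149824 : Led Lsl_ct (LP (LK LD1_c12 LD2_c1 LD3_c33)) = (LP (LK LD1_c6 LD2_c34 LD3_c53)) :=
  Lgr Lrot59 (Lpr_cf (f149820 IH) (Lpn (LP (LK LD1_c6 LD2_c34 LD3_c53))))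
theorem f115583 : Led Lsl_ct (LP (LK LD1_c3 LD2_c15 LD3_c52)) = (LP (LK LD1_c6 LD2_c34 LD3_c52)) :=
  Lre_c IH (LK LD1_c3 LD2_c15 LD3_c52) (LK LD1_c6 LD2_c34 LD3_c52) Lrfl Lrfl
theorem f149838 : Led Lsl_gf (LP (LK LD1_c12 LD2_c1 LD3_c33)) = (LP (LK LD1_c6 LD2_c34 LD3_c52)) :=
  Lgr Lrot104 (Lpr_ct (f149824 IH) (Lpe (f115569 IH) (Lpe (f96736 IH) (Lpe (K4.f62874 IH) (Lpe (K4.f119983 IH) (Lpe (K6.f141618 IH) (Lpr_df (K4.f117071 IH) (Lpr_gt (f149750 IH) (Lpr_ct (f115583 IH) (Lpn (LP (LK LD1_c6 LD2_c34 LD3_c52))))))))))))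
theorem f90087 : Led Lsl_bt (LP (LK LD1_c6 LD2_c34 LD3_c53)) = (LP (LK LD1_c3 LD2_c15 LD3_c47)) :=
  Lre_b IH (LK LD1_c6 LD2_c34 LD3_c53) (LK LD1_c3 LD2_c15 LD3_c47) Lrfl Lrfl
theorem f149840 : Led Lsl_gt (LP (LK LD1_c3 LD2_c15 LD3_c47)) = (LP (LK LD1_c3 LD2_c7 LD3_c35)) :=
  Lgr Lrot164 (Lpe (f90087 IH) (Lpe (f149820 IH) (Lpr_gf (f149838 IH) (Lpe (f115583 IH) (Lpe (f149750 IH) (Lpe (K4.f117054 IH) (Lpr_ct (K4.f63724 IH) (Lpe (K6.f111349 IH) (Lpe (f105220 IH) (Lpr_bt (K3.f105198 IH) (Lpn (LP (LK LD1_c3 LD2_c7 LD3_c35)))))))))))))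
theorem f90091 : Led Lsl_dt (LP (LK LD1_c1 LD2_c34 LD3_c37)) = (LP (LK LD1_c3 LD2_c15 LD3_c47)) :=
  Lre_d IH (LK LD1_c1 LD2_c34 LD3_c37) (LK LD1_c3 LD2_c15 LD3_c47) Lrfl Lrfl
theorem f149844 : Led Lsl_gt (LP (LK LD1_c0 LD2_c42 LD3_c54)) = (LP (LK LD1_c1 LD2_c7 LD3_c6)) :=
  Lgr Lrot94 (Lpe (K4.f62897 IH) (Lpr_gt (K4.f62866 IH) (Lpr_dt (f90091 IH) (Lpr_gt (f149840 IH) (Lpr_dt (K3.f91446 IH) (Lpe (K5.f89459 IH) (Lpe (K5.f91435 IH) (Lpe (K4.f82321 IH) (Lpe (K2.f23575 IH) (Lpn (LP (LK LD1_c1 LD2_c7 LD3_c6))))))))))))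
theorem f23581 : Led Lsl_et (LP (LK LD1_c0 LD2_c30 LD3_c45)) = (LP (LK LD1_c1 LD2_c7 LD3_c7)) :=
  Lre_e IH (LK LD1_c0 LD2_c30 LD3_c45) (LK LD1_c1 LD2_c7 LD3_c7) Lrfl Lrfl
theorem f82650 : Led Lsl_et (LP (LK LD1_c0 LD2_c19 LD3_c5)) = (LP (LK LD1_c0 LD2_c19 LD3_c5)) :=
  Lgr Lrot123 (Lpe (K2.f26139 IH) (Lpr_ef (K3.f82556 IH) (Lpe (K2.f26071 IH) (Lpn (LP (LK LD1_c0 LD2_c19 LD3_c5))))))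
theorem f23577 : Led Lsl_et (LP (LK LD1_c1 LD2_c7 LD3_c7)) = (LP (LK LD1_c0 LD2_c30 LD3_c45)) :=
  Lre_e IH (LK LD1_c1 LD2_c7 LD3_c7) (LK LD1_c0 LD2_c30 LD3_c45) Lrfl Lrfl
theorem f83100 : Led Lsl_ff (LP (LK LD1_c1 LD2_c7 LD3_c7)) = (LP (LK LD1_c1 LD2_c7 LD3_c7)) :=
  Lgr Lrot72 (Lpr_et (f23577 IH) (Lpr_ft (K2.f82310 IH) (Lpr_et (f82650 IH) (Lpe (K2.f82319 IH) (Lpr_et (f23581 IH) (Lpn (LP (LK LD1_c1 LD2_c7 LD3_c7))))))))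
theorem f23411 : Led Lsl_at (LP (LK LD1_c1 LD2_c7 LD3_c7)) = (LP (LK LD1_c0 LD2_c30 LD3_c47)) :=
  Lre_a IH (LK LD1_c1 LD2_c7 LD3_c7) (LK LD1_c0 LD2_c30 LD3_c47) Lrfl Lrfl
theorem f83102 : Led Lsl_gf (LP (LK LD1_c1 LD2_c7 LD3_c10)) = (LP (LK LD1_c1 LD2_c7 LD3_c7)) :=
  Lgr Lrot47 (Lpr_gt (f23419 IH) (Lpe (f23411 IH) (Lpr_ff (f83100 IH) (Lpn (LP (LK LD1_c1 LD2_c7 LD3_c7))))))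
theorem f152508 : Led Lsl_ef (LP (LK LD1_c1 LD2_c7 LD3_c10)) = (LP (LK LD1_c1 LD2_c29 LD3_c55)) :=
  Lgr Lrot17 (Lpr_gf (f83102 IH) (Lpe (f23581 IH) (Lpr_dt (K2.f23579 IH) (Lpe (f149844 IH) (Lpr_df (K4.f113026 IH) (Lpe (K3.f61673 IH) (Lpe (K2.f82394 IH) (Lpr_dt (f82452 IH) (Lpe (f82460 IH) (Lpr_df (f152501 IH) (Lpn (LP (LK LD1_c1 LD2_c29 LD3_c55)))))))))))))
theorem f152513 : Led Lsl_et (LP (LK LD1_c1 LD2_c7 LD3_c10)) = (LP (LK LD1_c1 LD2_c29 LD3_c55)) :=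
  Lgr Lrot87 (Lpr_ef (f152508 IH) (Lpn (LP (LK LD1_c1 LD2_c29 LD3_c55))))
theorem f152515 : Led Lsl_bt (LP (LK LD1_c1 LD2_c29 LD3_c55)) = (LP (LK LD1_c3 LD2_c7 LD3_c24)) :=
  Lre_b IH (LK LD1_c1 LD2_c29 LD3_c55) (LK LD1_c3 LD2_c7 LD3_c24) Lrfl Lrfl
theorem f152516 : Led Lsl_ef (LP (LK LD1_c2 LD2_c19 LD3_c52)) = (LP (LK LD1_c3 LD2_c7 LD3_c24)) :=
  Lgr Lrot29 (Lpr_bt (f23429 IH) (Lpr_et (f152513 IH) (Lpr_bt (f152515 IH) (Lpn (LP (LK LD1_c3 LD2_c7 LD3_c24))))))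
theorem f152933 : Led Lsl_ct (LP (LK LD1_c4 LD2_c40 LD3_c11)) = (LP (LK LD1_c3 LD2_c7 LD3_c24)) :=
  Lgr Lrot15 (Lpr_ef (f125292 IH) (Lpr_cf (f152929 IH) (Lpr_ef (f152516 IH) (Lpn (LP (LK LD1_c3 LD2_c7 LD3_c24))))))
theorem f125289 : Led Lsl_dt (LP (LK LD1_c9 LD2_c15 LD3_c46)) = (LP (LK LD1_c4 LD2_c40 LD3_c11)) :=
  Lre_d IH (LK LD1_c9 LD2_c15 LD3_c46) (LK LD1_c4 LD2_c40 LD3_c11) Lrfl Lrfl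
theorem f58165 : Led Lsl_dt (LP (LK LD1_c2 LD2_c21 LD3_c40)) = (LP (LK LD1_c4 LD2_c47 LD3_c33)) :=
  Lre_d IH (LK LD1_c2 LD2_c21 LD3_c40) (LK LD1_c4 LD2_c47 LD3_c33) Lrfl Lrfl
theorem f152503 : Led Lsl_bt (LP (LK LD1_c2 LD2_c19 LD3_c26)) = (LP (LK LD1_c4 LD2_c43 LD3_c24)) :=
  Lre_b IH (LK LD1_c2 LD2_c19 LD3_c26) (LK LD1_c4 LD2_c43 LD3_c24) Lrfl Lrfl
theorem f104639 : Led Lsl_bt (LP (LK LD1_c3 LD2_c7 LD3_c24)) = (LP (LK LD1_c1 LD2_c29 LD3_c55)) :=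
  Lre_b IH (LK LD1_c3 LD2_c7 LD3_c24) (LK LD1_c1 LD2_c29 LD3_c55) Lrfl Lrfl
theorem f152504 : Led Lsl_dt (LP (LK LD1_c4 LD2_c43 LD3_c24)) = (LP (LK LD1_c3 LD2_c7 LD3_c24)) :=
  Lgr Lrot79 (Lpe (f152503 IH) (Lpr_df (f152501 IH) (Lpe (f104639 IH) (Lpn (LP (LK LD1_c3 LD2_c7 LD3_c24))))))
theorem f152937 : Led Lsl_gt (LP (LK LD1_c4 LD2_c47 LD3_c33)) = (LP (LK LD1_c4 LD2_c43 LD3_c24)) :=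
  Lgr Lrot189 (Lpe (f58165 IH) (Lpr_gf (K5.f125300 IH) (Lpr_ct (K5.f61647 IH) (Lpe (K5.f125294 IH) (Lpr_dt (K5.f78271 IH) (Lpe (K5.f125287 IH) (Lpr_dt (f125289 IH) (Lpr_ct (f152933 IH) (Lpe (f152504 IH) (Lpn (LP (LK LD1_c4 LD2_c43 LD3_c24))))))))))))
theorem f58166 : Led Lsl_dt (LP (LK LD1_c4 LD2_c47 LD3_c33)) = (LP (LK LD1_c2 LD2_c21 LD3_c40)) :=
  Lre_d IH (LK LD1_c4 LD2_c47 LD3_c33) (LK LD1_c2 LD2_c21 LD3_c40) Lrfl Lrfl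
theorem f152939 : Led Lsl_cf (LP (LK LD1_c9 LD2_c15 LD3_c56)) = (LP (LK LD1_c4 LD2_c43 LD3_c24)) :=
  Lgr Lrot169 (Lpr_gt (f79563 IH) (Lpr_ct (K5.f78260 IH) (Lpe (K5.f77999 IH) (Lpe (K3.f77883 IH) (Lpr_gf (K5.f125267 IH) (Lpe (K4.f120025 IH) (Lpe (K5.f125314 IH) (Lpe (f58166 IH) (Lpr_gt (f152937 IH) (Lpn (LP (LK LD1_c4 LD2_c43 LD3_c24))))))))))))
theorem f82502 : Led Lsl_bt (LP (LK LD1_c4 LD2_c43 LD3_c24)) = (LP (LK LD1_c2 LD2_c19 LD3_c26)) :=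
  Lre_b IH (LK LD1_c4 LD2_c43 LD3_c24) (LK LD1_c2 LD2_c19 LD3_c26) Lrfl Lrfl
theorem f153095 : Led Lsl_bt (LP (LK LD1_c0 LD2_c30 LD3_c36)) = (LP (LK LD1_c1 LD2_c6 LD3_c49)) :=
  Lre_b IH (LK LD1_c0 LD2_c30 LD3_c36) (LK LD1_c1 LD2_c6 LD3_c49) Lrfl Lrfl
theorem f61261 : Led Lsl_ct (LP (LK LD1_c0 LD2_c30 LD3_c36)) = (LP (LK LD1_c1 LD2_c6 LD3_c55)) :=
  Lre_c IH (LK LD1_c0 LD2_c30 LD3_c36) (LK LD1_c1 LD2_c6 LD3_c55) Lrfl Lrfl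
theorem f153439 : Led Lsl_bt (LP (LK LD1_c1 LD2_c6 LD3_c21)) = (LP (LK LD1_c2 LD2_c18 LD3_c39)) :=
  Lre_b IH (LK LD1_c1 LD2_c6 LD3_c21) (LK LD1_c2 LD2_c18 LD3_c39) Lrfl Lrfl
theorem f25802 : Led Lsl_ct (LP (LK LD1_c1 LD2_c6 LD3_c21)) = (LP (LK LD1_c2 LD2_c18 LD3_c40)) :=
  Lre_c IH (LK LD1_c1 LD2_c6 LD3_c21) (LK LD1_c2 LD2_c18 LD3_c40) Lrfl Lrfl
theorem f153440 : Led Lsl_gt (LP (LK LD1_c1 LD2_c6 LD3_c55)) = (LP (LK LD1_c2 LD2_c18 LD3_c40)) :=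
  Lgr Lrot65 (Lpe (f61261 IH) (Lpr_bt (f153095 IH) (Lpe (f82460 IH) (Lpe (f82502 IH) (Lpe (f152939 IH) (Lpr_gf (f133286 IH) (Lpe (K5.f25714 IH) (Lpr_gf (f153417 IH) (Lpe (f153439 IH) (Lpr_ct (f25802 IH) (Lpn (LP (LK LD1_c2 LD2_c18 LD3_c40)))))))))))))
theorem f25897 : Led Lsl_ct (LP (LK LD1_c2 LD2_c18 LD3_c40)) = (LP (LK LD1_c1 LD2_c6 LD3_c21)) :=
  Lre_c IH (LK LD1_c2 LD2_c18 LD3_c40) (LK LD1_c1 LD2_c6 LD3_c21) Lrfl Lrfl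
theorem f153453 : Led Lsl_df (LP (LK LD1_c1 LD2_c6 LD3_c55)) = (LP (LK LD1_c1 LD2_c37 LD3_c31)) :=
  Lgr Lrot155 (Lpr_gt (f153440 IH) (Lpr_ct (f25897 IH) (Lpe (f152178 IH) (Lpr_ct (f57659 IH) (Lpe (K5.f84177 IH) (Lpe (K2.f21033 IH) (Lpr_gf (K2.f25411 IH) (Lpe (K0.f7433 IH) (Lpe (f25414 IH) (Lpn (LP (LK LD1_c1 LD2_c37 LD3_c31))))))))))))
theorem f25747 : Led Lsl_ct (LP (LK LD1_c1 LD2_c6 LD3_c55)) = (LP (LK LD1_c0 LD2_c30 LD3_c36)) :=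
  Lre_c IH (LK LD1_c1 LD2_c6 LD3_c55) (LK LD1_c0 LD2_c30 LD3_c36) Lrfl Lrfl
theorem f82817 : Led Lsl_ft (LP (LK LD1_c0 LD2_c30 LD3_c18)) = (LP (LK LD1_c1 LD2_c6 LD3_c19)) :=
  Lre_f IH (LK LD1_c0 LD2_c30 LD3_c18) (LK LD1_c1 LD2_c6 LD3_c19) Lrfl Lrfl
theorem f152651 : Led Lsl_ft (LP (LK LD1_c1 LD2_c37 LD3_c31)) = (LP (LK LD1_c1 LD2_c6 LD3_c18)) :=
  Lgr Lrot4 (Lpr_cf (f152639 IH) (Lpe (f82817 IH) (Lpe (K3.f82794 IH) (Lpn (LP (LK LD1_c1 LD2_c6 LD3_c18))))))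
theorem f153475 : Led Lsl_af (LP (LK LD1_c0 LD2_c41 LD3_c55)) = (LP (LK LD1_c1 LD2_c6 LD3_c18)) :=
  Lgr Lrot109 (Lpe (K2.f67082 IH) (Lpe (K1.f61775 IH) (Lpe (K1.f25805 IH) (Lpr_df (f26328 IH) (Lpe (K2.f25752 IH) (Lpe (K6.f25746 IH) (Lpe (f25747 IH) (Lpr_df (f153453 IH) (Lpr_ft (f152651 IH) (Lpn (LP (LK LD1_c1 LD2_c6 LD3_c18))))))))))))
theorem f153485 : Led Lsl_et (LP (LK LD1_c0 LD2_c41 LD3_c55)) = (LP (LK LD1_c1 LD2_c30 LD3_c35)) :=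
  Lre_e IH (LK LD1_c0 LD2_c41 LD3_c55) (LK LD1_c1 LD2_c30 LD3_c35) Lrfl Lrfl
theorem f86025 : Led Lsl_et (LP (LK LD1_c2 LD2_c18 LD3_c26)) = (LP (LK LD1_c1 LD2_c6 LD3_c18)) :=
  Lre_e IH (LK LD1_c2 LD2_c18 LD3_c26) (LK LD1_c1 LD2_c6 LD3_c18) Lrfl Lrfl
theorem f153486 : Led Lsl_at (LP (LK LD1_c1 LD2_c30 LD3_c35)) = (LP (LK LD1_c2 LD2_c18 LD3_c26)) :=
  Lgr Lrot80 (Lpe (f153485 IH) (Lpr_af (f153475 IH) (Lpe (f86025 IH) (Lpn (LP (LK LD1_c2 LD2_c18 LD3_c26))))))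
theorem f153502 : Led Lsl_ft (LP (LK LD1_c3 LD2_c8 LD3_c57)) = (LP (LK LD1_c1 LD2_c30 LD3_c35)) :=
  Lre_f IH (LK LD1_c3 LD2_c8 LD3_c57) (LK LD1_c1 LD2_c30 LD3_c35) Lrfl Lrfl
theorem f153503 : Led Lsl_ft (LP (LK LD1_c2 LD2_c18 LD3_c26)) = (LP (LK LD1_c4 LD2_c42 LD3_c15)) :=
  Lre_f IH (LK LD1_c2 LD2_c18 LD3_c26) (LK LD1_c4 LD2_c42 LD3_c15) Lrfl Lrfl
theorem f153504 : Led Lsl_af (LP (LK LD1_c3 LD2_c8 LD3_c57)) = (LP (LK LD1_c4 LD2_c42 LD3_c15)) :=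
  Lgr Lrot45 (Lpr_ft (f153502 IH) (Lpr_at (f153486 IH) (Lpr_ft (f153503 IH) (Lpn (LP (LK LD1_c4 LD2_c42 LD3_c15))))))
theorem f153510 : Led Lsl_ct (LP (LK LD1_c3 LD2_c8 LD3_c57)) = (LP (LK LD1_c1 LD2_c30 LD3_c36)) :=
  Lre_c IH (LK LD1_c3 LD2_c8 LD3_c57) (LK LD1_c1 LD2_c30 LD3_c36) Lrfl Lrfl
theorem f61103 : Led Lsl_ct (LP (LK LD1_c2 LD2_c18 LD3_c27)) = (LP (LK LD1_c4 LD2_c42 LD3_c15)) :=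
  Lre_c IH (LK LD1_c2 LD2_c18 LD3_c27) (LK LD1_c4 LD2_c42 LD3_c15) Lrfl Lrfl
theorem f153521 : Led Lsl_at (LP (LK LD1_c1 LD2_c30 LD3_c36)) = (LP (LK LD1_c2 LD2_c18 LD3_c27)) :=
  Lgr Lrot107 (Lpe (f153510 IH) (Lpr_af (f153504 IH) (Lpe (f61103 IH) (Lpn (LP (LK LD1_c2 LD2_c18 LD3_c27))))))
theorem f153528 : Led Lsl_dt (LP (LK LD1_c0 LD2_c41 LD3_c49)) = (LP (LK LD1_c1 LD2_c30 LD3_c36)) :=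
  Lre_d IH (LK LD1_c0 LD2_c41 LD3_c49) (LK LD1_c1 LD2_c30 LD3_c36) Lrfl Lrfl
theorem f61106 : Led Lsl_dt (LP (LK LD1_c2 LD2_c18 LD3_c27)) = (LP (LK LD1_c1 LD2_c6 LD3_c14)) :=
  Lre_d IH (LK LD1_c2 LD2_c18 LD3_c27) (LK LD1_c1 LD2_c6 LD3_c14) Lrfl Lrfl
theorem f153565 : Led Lsl_af (LP (LK LD1_c0 LD2_c41 LD3_c49)) = (LP (LK LD1_c1 LD2_c6 LD3_c14)) :=
  Lgr Lrot117 (Lpr_dt (f153528 IH) (Lpr_at (f153521 IH) (Lpr_dt (f61106 IH) (Lpn (LP (LK LD1_c1 LD2_c6 LD3_c14))))))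
theorem f153575 : Led Lsl_ft (LP (LK LD1_c0 LD2_c41 LD3_c49)) = (LP (LK LD1_c0 LD2_c18 LD3_c39)) :=
  Lre_f IH (LK LD1_c0 LD2_c41 LD3_c49) (LK LD1_c0 LD2_c18 LD3_c39) Lrfl Lrfl
theorem f61116 : Led Lsl_ft (LP (LK LD1_c0 LD2_c30 LD3_c15)) = (LP (LK LD1_c1 LD2_c6 LD3_c14)) :=
  Lre_f IH (LK LD1_c0 LD2_c30 LD3_c15) (LK LD1_c1 LD2_c6 LD3_c14) Lrfl Lrfl
theorem f153576 : Led Lsl_at (LP (LK LD1_c0 LD2_c18 LD3_c39)) = (LP (LK LD1_c0 LD2_c30 LD3_c15)) :=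
  Lgr Lrot66 (Lpe (f153575 IH) (Lpr_af (f153565 IH) (Lpe (f61116 IH) (Lpn (LP (LK LD1_c0 LD2_c30 LD3_c15))))))
theorem f82571 : Led Lsl_et (LP (LK LD1_c0 LD2_c8 LD3_c22)) = (LP (LK LD1_c0 LD2_c18 LD3_c39)) :=
  Lre_e IH (LK LD1_c0 LD2_c8 LD3_c22) (LK LD1_c0 LD2_c18 LD3_c39) Lrfl Lrfl
theorem f26011 : Led Lsl_et (LP (LK LD1_c0 LD2_c30 LD3_c15)) = (LP (LK LD1_c0 LD2_c13 LD3_c26)) :=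
  Lre_e IH (LK LD1_c0 LD2_c30 LD3_c15) (LK LD1_c0 LD2_c13 LD3_c26) Lrfl Lrfl
theorem f153594 : Led Lsl_af (LP (LK LD1_c0 LD2_c8 LD3_c22)) = (LP (LK LD1_c0 LD2_c13 LD3_c26)) :=
  Lgr Lrot50 (Lpr_et (f82571 IH) (Lpr_at (f153576 IH) (Lpr_et (f26011 IH) (Lpn (LP (LK LD1_c0 LD2_c13 LD3_c26))))))
theorem f153609 : Led Lsl_ft (LP (LK LD1_c0 LD2_c8 LD3_c31)) = (LP (LK LD1_c0 LD2_c13 LD3_c26)) :=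
  Lgr Lrot2 (Lpe (K1.f61662 IH) (Lpe (K1.f61818 IH) (Lpr_af (f153594 IH) (Lpn (LP (LK LD1_c0 LD2_c13 LD3_c26))))))
theorem f153615 : Led Lsl_ff (LP (LK LD1_c0 LD2_c8 LD3_c31)) = (LP (LK LD1_c0 LD2_c13 LD3_c26)) :=
  Lgr Lrot3 (Lpr_ft (f153609 IH) (Lpn (LP (LK LD1_c0 LD2_c13 LD3_c26))))
theorem f153625 : Led Lsl_at (LP (LK LD1_c0 LD2_c8 LD3_c31)) = (LP (LK LD1_c0 LD2_c13 LD3_c34)) :=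
  Lgr Lrot26 (Lpr_ff (f153615 IH) (Lpe (K3.f57541 IH) (Lpe (K0.f26049 IH) (Lpn (LP (LK LD1_c0 LD2_c13 LD3_c34))))))
theorem f153601 : Led Lsl_at (LP (LK LD1_c0 LD2_c8 LD3_c22)) = (LP (LK LD1_c0 LD2_c13 LD3_c26)) :=
  Lgr Lrot100 (Lpr_af (f153594 IH) (Lpn (LP (LK LD1_c0 LD2_c13 LD3_c26))))
theorem f153634 : Led Lsl_ff (LP (LK LD1_c0 LD2_c8 LD3_c22)) = (LP (LK LD1_c0 LD2_c13 LD3_c34)) :=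
  Lgr Lrot30 (Lpr_at (f153601 IH) (Lpe (f153615 IH) (Lpr_at (f153625 IH) (Lpn (LP (LK LD1_c0 LD2_c13 LD3_c34))))))
theorem f153643 : Led Lsl_ft (LP (LK LD1_c0 LD2_c8 LD3_c22)) = (LP (LK LD1_c0 LD2_c13 LD3_c34)) :=
  Lgr Lrot48 (Lpr_ff (f153634 IH) (Lpn (LP (LK LD1_c0 LD2_c13 LD3_c34))))
theorem f61835 : Led Lsl_et (LP (LK LD1_c0 LD2_c18 LD3_c39)) = (LP (LK LD1_c0 LD2_c8 LD3_c22)) :=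
  Lre_e IH (LK LD1_c0 LD2_c18 LD3_c39) (LK LD1_c0 LD2_c8 LD3_c22) Lrfl Lrfl
theorem f26309 : Led Lsl_et (LP (LK LD1_c0 LD2_c13 LD3_c34)) = (LP (LK LD1_c0 LD2_c30 LD3_c35)) :=
  Lre_e IH (LK LD1_c0 LD2_c13 LD3_c34) (LK LD1_c0 LD2_c30 LD3_c35) Lrfl Lrfl
theorem f150506 : Led Lsl_ft (LP (LK LD1_c0 LD2_c30 LD3_c35)) = (LP (LK LD1_c1 LD2_c6 LD3_c54)) :=
  Lre_f IH (LK LD1_c0 LD2_c30 LD3_c35) (LK LD1_c1 LD2_c6 LD3_c54) Lrfl Lrfl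
theorem f153649 : Led Lsl_ef (LP (LK LD1_c0 LD2_c41 LD3_c49)) = (LP (LK LD1_c1 LD2_c6 LD3_c54)) :=
  Lgr Lrot21 (Lpr_ft (f153575 IH) (Lpr_et (f61835 IH) (Lpr_ft (f153643 IH) (Lpr_et (f26309 IH) (Lpr_ft (f150506 IH) (Lpn (LP (LK LD1_c1 LD2_c6 LD3_c54))))))))
theorem f153571 : Led Lsl_at (LP (LK LD1_c0 LD2_c41 LD3_c49)) = (LP (LK LD1_c1 LD2_c6 LD3_c14)) :=
  Lgr Lrot100 (Lpr_af (f153565 IH) (Lpn (LP (LK LD1_c1 LD2_c6 LD3_c14))))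
theorem f67066 : Led Lsl_et (LP (LK LD1_c0 LD2_c18 LD3_c59)) = (LP (LK LD1_c0 LD2_c8 LD3_c31)) :=
  Lre_e IH (LK LD1_c0 LD2_c18 LD3_c59) (LK LD1_c0 LD2_c8 LD3_c31) Lrfl Lrfl
theorem f69063 : Led Lsl_ft (LP (LK LD1_c0 LD2_c42 LD3_c38)) = (LP (LK LD1_c0 LD2_c18 LD3_c59)) :=
  Lre_f IH (LK LD1_c0 LD2_c42 LD3_c38) (LK LD1_c0 LD2_c18 LD3_c59) Lrfl Lrfl
theorem f59487 : Led Lsl_et (LP (LK LD1_c0 LD2_c13 LD3_c26)) = (LP (LK LD1_c0 LD2_c30 LD3_c15)) :=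
  Lre_e IH (LK LD1_c0 LD2_c13 LD3_c26) (LK LD1_c0 LD2_c30 LD3_c15) Lrfl Lrfl
theorem f153613 : Led Lsl_ef (LP (LK LD1_c0 LD2_c42 LD3_c38)) = (LP (LK LD1_c1 LD2_c6 LD3_c14)) :=
  Lgr Lrot21 (Lpr_ft (f69063 IH) (Lpr_et (f67066 IH) (Lpr_ft (f153609 IH) (Lpr_et (f59487 IH) (Lpr_ft (f61116 IH) (Lpn (LP (LK LD1_c1 LD2_c6 LD3_c14))))))))
theorem f153651 : Led Lsl_at (LP (LK LD1_c0 LD2_c42 LD3_c38)) = (LP (LK LD1_c1 LD2_c6 LD3_c54)) :=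
  Lgr Lrot80 (Lpr_ef (f153613 IH) (Lpe (f153571 IH) (Lpr_ef (f153649 IH) (Lpn (LP (LK LD1_c1 LD2_c6 LD3_c54))))))
theorem f69090 : Led Lsl_dt (LP (LK LD1_c1 LD2_c32 LD3_c9)) = (LP (LK LD1_c0 LD2_c42 LD3_c38)) :=
  Lre_d IH (LK LD1_c1 LD2_c32 LD3_c9) (LK LD1_c0 LD2_c42 LD3_c38) Lrfl Lrfl
theorem f150514 : Led Lsl_dt (LP (LK LD1_c1 LD2_c6 LD3_c54)) = (LP (LK LD1_c2 LD2_c19 LD3_c35)) :=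
  Lre_d IH (LK LD1_c1 LD2_c6 LD3_c54) (LK LD1_c2 LD2_c19 LD3_c35) Lrfl Lrfl
theorem f153679 : Led Lsl_af (LP (LK LD1_c1 LD2_c32 LD3_c9)) = (LP (LK LD1_c2 LD2_c19 LD3_c35)) :=
  Lgr Lrot117 (Lpr_dt (f69090 IH) (Lpr_at (f153651 IH) (Lpr_dt (f150514 IH) (Lpn (LP (LK LD1_c2 LD2_c19 LD3_c35))))))
theorem f69101 : Led Lsl_ft (LP (LK LD1_c1 LD2_c32 LD3_c9)) = (LP (LK LD1_c0 LD2_c42 LD3_c37)) :=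
  Lre_f IH (LK LD1_c1 LD2_c32 LD3_c9) (LK LD1_c0 LD2_c42 LD3_c37) Lrfl Lrfl
theorem f153696 : Led Lsl_ft (LP (LK LD1_c1 LD2_c6 LD3_c53)) = (LP (LK LD1_c2 LD2_c19 LD3_c35)) :=
  Lre_f IH (LK LD1_c1 LD2_c6 LD3_c53) (LK LD1_c2 LD2_c19 LD3_c35) Lrfl Lrfl
theorem f153697 : Led Lsl_at (LP (LK LD1_c0 LD2_c42 LD3_c37)) = (LP (LK LD1_c1 LD2_c6 LD3_c53)) :=
  Lgr Lrot66 (Lpe (f69101 IH) (Lpr_af (f153679 IH) (Lpe (f153696 IH) (Lpn (LP (LK LD1_c1 LD2_c6 LD3_c53))))))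
theorem f69060 : Led Lsl_ct (LP (LK LD1_c1 LD2_c32 LD3_c8)) = (LP (LK LD1_c0 LD2_c42 LD3_c37)) :=
  Lre_c IH (LK LD1_c1 LD2_c32 LD3_c8) (LK LD1_c0 LD2_c42 LD3_c37) Lrfl Lrfl
theorem f26284 : Led Lsl_ct (LP (LK LD1_c1 LD2_c6 LD3_c53)) = (LP (LK LD1_c2 LD2_c19 LD3_c34)) :=
  Lre_c IH (LK LD1_c1 LD2_c6 LD3_c53) (LK LD1_c2 LD2_c19 LD3_c34) Lrfl Lrfl
theorem f153708 : Led Lsl_af (LP (LK LD1_c1 LD2_c32 LD3_c8)) = (LP (LK LD1_c2 LD2_c19 LD3_c34)) :=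
  Lgr Lrot68 (Lpr_ct (f69060 IH) (Lpr_at (f153697 IH) (Lpr_ct (f26284 IH) (Lpn (LP (LK LD1_c2 LD2_c19 LD3_c34))))))
theorem f152804 : Led Lsl_et (LP (LK LD1_c1 LD2_c32 LD3_c8)) = (LP (LK LD1_c0 LD2_c42 LD3_c43)) :=
  Lre_e IH (LK LD1_c1 LD2_c32 LD3_c8) (LK LD1_c0 LD2_c42 LD3_c43) Lrfl Lrfl
theorem f153467 : Led Lsl_et (LP (LK LD1_c1 LD2_c6 LD3_c55)) = (LP (LK LD1_c2 LD2_c19 LD3_c34)) :=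
  Lre_e IH (LK LD1_c1 LD2_c6 LD3_c55) (LK LD1_c2 LD2_c19 LD3_c34) Lrfl Lrfl
theorem f153723 : Led Lsl_at (LP (LK LD1_c0 LD2_c42 LD3_c43)) = (LP (LK LD1_c1 LD2_c6 LD3_c55)) :=
  Lgr Lrot80 (Lpe (f152804 IH) (Lpr_af (f153708 IH) (Lpe (f153467 IH) (Lpn (LP (LK LD1_c1 LD2_c6 LD3_c55))))))
theorem f25812 : Led Lsl_ct (LP (LK LD1_c0 LD2_c8 LD3_c23)) = (LP (LK LD1_c0 LD2_c3 LD3_c50)) :=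
  Lre_c IH (LK LD1_c0 LD2_c8 LD3_c23) (LK LD1_c0 LD2_c3 LD3_c50) Lrfl Lrfl
theorem f67154 : Led Lsl_dt (LP (LK LD1_c1 LD2_c30 LD3_c51)) = (LP (LK LD1_c0 LD2_c41 LD3_c55)) :=
  Lre_d IH (LK LD1_c1 LD2_c30 LD3_c51) (LK LD1_c0 LD2_c41 LD3_c55) Lrfl Lrfl
theorem f153740 : Led Lsl_ff (LP (LK LD1_c0 LD2_c42 LD3_c43)) = (LP (LK LD1_c1 LD2_c30 LD3_c51)) :=
  Lgr Lrot103 (Lpr_at (f153723 IH) (Lpe (f61261 IH) (Lpe (K6.f25748 IH) (Lpe (K6.f25744 IH) (Lpe (K2.f82517 IH) (Lpe (f25812 IH) (Lpe (K6.f67088 IH) (Lpe (K2.f67085 IH) (Lpe (f67154 IH) (Lpn (LP (LK LD1_c1 LD2_c30 LD3_c51))))))))))))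
theorem f25784 : Led Lsl_ft (LP (LK LD1_c0 LD2_c19 LD3_c0)) = (LP (LK LD1_c0 LD2_c42 LD3_c44)) :=
  Lre_f IH (LK LD1_c0 LD2_c19 LD3_c0) (LK LD1_c0 LD2_c42 LD3_c44) Lrfl Lrfl
theorem f153745 : Led Lsl_ct (LP (LK LD1_c0 LD2_c42 LD3_c44)) = (LP (LK LD1_c1 LD2_c30 LD3_c51)) :=
  Lgr Lrot40 (Lpe (f25784 IH) (Lpe (f24984 IH) (Lpr_ff (f153740 IH) (Lpn (LP (LK LD1_c1 LD2_c30 LD3_c51))))))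
theorem f84014 : Led Lsl_dt (LP (LK LD1_c0 LD2_c41 LD3_c55)) = (LP (LK LD1_c1 LD2_c30 LD3_c51)) :=
  Lre_d IH (LK LD1_c0 LD2_c41 LD3_c55) (LK LD1_c1 LD2_c30 LD3_c51) Lrfl Lrfl
theorem f82793 : Led Lsl_dt (LP (LK LD1_c2 LD2_c18 LD3_c35)) = (LP (LK LD1_c1 LD2_c6 LD3_c18)) :=
  Lre_d IH (LK LD1_c2 LD2_c18 LD3_c35) (LK LD1_c1 LD2_c6 LD3_c18) Lrfl Lrfl
theorem f153483 : Led Lsl_at (LP (LK LD1_c1 LD2_c30 LD3_c51)) = (LP (LK LD1_c2 LD2_c18 LD3_c35)) :=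
  Lgr Lrot51 (Lpe (f84014 IH) (Lpr_af (f153475 IH) (Lpe (f82793 IH) (Lpn (LP (LK LD1_c2 LD2_c18 LD3_c35))))))
theorem f82493 : Led Lsl_dt (LP (LK LD1_c1 LD2_c6 LD3_c56)) = (LP (LK LD1_c0 LD2_c30 LD3_c37)) :=
  Lre_d IH (LK LD1_c1 LD2_c6 LD3_c56) (LK LD1_c0 LD2_c30 LD3_c37) Lrfl Lrfl
theorem f25775 : Led Lsl_ct (LP (LK LD1_c0 LD2_c6 LD3_c8)) = (LP (LK LD1_c0 LD2_c13 LD3_c27)) :=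
  Lre_c IH (LK LD1_c0 LD2_c6 LD3_c8) (LK LD1_c0 LD2_c13 LD3_c27) Lrfl Lrfl
theorem f25778 : Led Lsl_dt (LP (LK LD1_c1 LD2_c6 LD3_c18)) = (LP (LK LD1_c2 LD2_c18 LD3_c35)) :=
  Lre_d IH (LK LD1_c1 LD2_c6 LD3_c18) (LK LD1_c2 LD2_c18 LD3_c35) Lrfl Lrfl
theorem f152748 : Led Lsl_cf (LP (LK LD1_c1 LD2_c6 LD3_c56)) = (LP (LK LD1_c2 LD2_c18 LD3_c35)) :=
  Lgr Lrot55 (Lpr_dt (f82493 IH) (Lpr_ct (f82485 IH) (Lpe (f82520 IH) (Lpr_ct (f104619 IH) (Lpr_dt (f152741 IH) (Lpr_ct (f152742 IH) (Lpr_dt (f152743 IH) (Lpr_ct (f24984 IH) (Lpr_dt (K1.f24983 IH) (Lpr_ct (K1.f24986 IH) (Lpr_dt (K1.f25773 IH) (Lpr_ct (f25775 IH) (Lpr_dt (K3.f25776 IH) (Lpr_ct (K3.f25777 IH) (Lpr_dt (f25778 IH) (Lpn (LP (LK LD1_c2 LD2_c18 LD3_c35))))))))))))))))))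
theorem f153963 : Led Lsl_af (LP (LK LD1_c0 LD2_c42 LD3_c44)) = (LP (LK LD1_c1 LD2_c6 LD3_c56)) :=
  Lgr Lrot68 (Lpr_ct (f153745 IH) (Lpr_at (f153483 IH) (Lpe (f152748 IH) (Lpn (LP (LK LD1_c1 LD2_c6 LD3_c56))))))
theorem f25908 : Led Lsl_dt (LP (LK LD1_c0 LD2_c42 LD3_c44)) = (LP (LK LD1_c0 LD2_c19 LD3_c1)) :=
  Lre_d IH (LK LD1_c0 LD2_c42 LD3_c44) (LK LD1_c0 LD2_c19 LD3_c1) Lrfl Lrfl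
theorem f104692 : Led Lsl_dt (LP (LK LD1_c0 LD2_c30 LD3_c37)) = (LP (LK LD1_c1 LD2_c6 LD3_c56)) :=
  Lre_d IH (LK LD1_c0 LD2_c30 LD3_c37) (LK LD1_c1 LD2_c6 LD3_c56) Lrfl Lrfl
theorem f154055 : Led Lsl_at (LP (LK LD1_c0 LD2_c19 LD3_c1)) = (LP (LK LD1_c0 LD2_c30 LD3_c37)) :=
  Lgr Lrot51 (Lpe (f25908 IH) (Lpr_af (f153963 IH) (Lpe (f104692 IH) (Lpn (LP (LK LD1_c0 LD2_c30 LD3_c37))))))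
theorem f154061 : Led Lsl_ft (LP (LK LD1_c0 LD2_c8 LD3_c32)) = (LP (LK LD1_c0 LD2_c19 LD3_c1)) :=
  Lre_f IH (LK LD1_c0 LD2_c8 LD3_c32) (LK LD1_c0 LD2_c19 LD3_c1) Lrfl Lrfl
theorem f154062 : Led Lsl_ft (LP (LK LD1_c0 LD2_c30 LD3_c37)) = (LP (LK LD1_c0 LD2_c13 LD3_c35)) :=
  Lre_f IH (LK LD1_c0 LD2_c30 LD3_c37) (LK LD1_c0 LD2_c13 LD3_c35) Lrfl Lrfl
theorem f154063 : Led Lsl_af (LP (LK LD1_c0 LD2_c8 LD3_c32)) = (LP (LK LD1_c0 LD2_c13 LD3_c35)) :=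
  Lgr Lrot45 (Lpr_ft (f154061 IH) (Lpr_at (f154055 IH) (Lpr_ft (f154062 IH) (Lpn (LP (LK LD1_c0 LD2_c13 LD3_c35))))))
theorem f154069 : Led Lsl_cf (LP (LK LD1_c2 LD2_c18 LD3_c35)) = (LP (LK LD1_c1 LD2_c6 LD3_c56)) :=
  Lgr Lrot118 (Lpr_dt (f82793 IH) (Lpr_ct (K3.f82794 IH) (Lpr_dt (K6.f25786 IH) (Lpr_ct (f25785 IH) (Lpe (K1.f20997 IH) (Lpr_ct (K2.f24980 IH) (Lpr_af (f154063 IH) (Lpe (f154062 IH) (Lpr_dt (f104692 IH) (Lpn (LP (LK LD1_c1 LD2_c6 LD3_c56))))))))))))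
theorem f104617 : Led Lsl_bt (LP (LK LD1_c1 LD2_c6 LD3_c10)) = (LP (LK LD1_c0 LD2_c30 LD3_c19)) :=
  Lre_b IH (LK LD1_c1 LD2_c6 LD3_c10) (LK LD1_c0 LD2_c30 LD3_c19) Lrfl Lrfl
theorem f25902 : Led Lsl_ct (LP (LK LD1_c0 LD2_c30 LD3_c19)) = (LP (LK LD1_c0 LD2_c13 LD3_c29)) :=
  Lre_c IH (LK LD1_c0 LD2_c30 LD3_c19) (LK LD1_c0 LD2_c13 LD3_c29) Lrfl Lrfl
theorem f104618 : Led Lsl_bt (LP (LK LD1_c0 LD2_c18 LD3_c43)) = (LP (LK LD1_c0 LD2_c41 LD3_c43)) :=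
  Lre_b IH (LK LD1_c0 LD2_c18 LD3_c43) (LK LD1_c0 LD2_c41 LD3_c43) Lrfl Lrfl
theorem f104620 : Led Lsl_bt (LP (LK LD1_c0 LD2_c13 LD3_c29)) = (LP (LK LD1_c0 LD2_c8 LD3_c26)) :=
  Lgr Lrot128 (Lpe (f25902 IH) (Lpe (f104617 IH) (Lpr_cf (K6.f104596 IH) (Lpe (f104618 IH) (Lpe (f104619 IH) (Lpn (LP (LK LD1_c0 LD2_c8 LD3_c26))))))))
theorem f25904 : Led Lsl_dt (LP (LK LD1_c0 LD2_c8 LD3_c33)) = (LP (LK LD1_c0 LD2_c13 LD3_c29)) :=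
  Lgr Lrot42 (Lpr_df (f25781 IH) (Lpn (LP (LK LD1_c0 LD2_c13 LD3_c29))))
theorem f104690 : Led Lsl_df (LP (LK LD1_c0 LD2_c13 LD3_c36)) = (LP (LK LD1_c0 LD2_c8 LD3_c26)) :=
  Lgr Lrot12 (Lpe (f82486 IH) (Lpr_dt (f25904 IH) (Lpr_bt (f104620 IH) (Lpn (LP (LK LD1_c0 LD2_c8 LD3_c26))))))
theorem f154075 : Led Lsl_af (LP (LK LD1_c0 LD2_c6 LD3_c8)) = (LP (LK LD1_c0 LD2_c3 LD3_c50)) :=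
  Lgr Lrot109 (Lpe (f25785 IH) (Lpe (K6.f25786 IH) (Lpe (K3.f82794 IH) (Lpe (f82793 IH) (Lpr_cf (f154069 IH) (Lpe (f104692 IH) (Lpe (f82471 IH) (Lpr_df (f104690 IH) (Lpr_ft (f82519 IH) (Lpn (LP (LK LD1_c0 LD2_c3 LD3_c50))))))))))))
theorem f154079 : Led Lsl_gf (LP (LK LD1_c0 LD2_c13 LD3_c28)) = (LP (LK LD1_c0 LD2_c8 LD3_c26)) :=
  Lgr Lrot47 (Lpr_gt (K1.f25754 IH) (Lpr_af (f154075 IH) (Lpe (f82519 IH) (Lpn (LP (LK LD1_c0 LD2_c8 LD3_c26))))))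
theorem f25800 : Led Lsl_ct (LP (LK LD1_c0 LD2_c13 LD3_c28)) = (LP (LK LD1_c0 LD2_c30 LD3_c20)) :=
  Lre_c IH (LK LD1_c0 LD2_c13 LD3_c28) (LK LD1_c0 LD2_c30 LD3_c20) Lrfl Lrfl
theorem f61260 : Led Lsl_dt (LP (LK LD1_c1 LD2_c6 LD3_c15)) = (LP (LK LD1_c0 LD2_c30 LD3_c16)) :=
  Lre_d IH (LK LD1_c1 LD2_c6 LD3_c15) (LK LD1_c0 LD2_c30 LD3_c16) Lrfl Lrfl
theorem f104644 : Led Lsl_ct (LP (LK LD1_c0 LD2_c18 LD3_c43)) = (LP (LK LD1_c0 LD2_c8 LD3_c26)) :=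
  Lre_c IH (LK LD1_c0 LD2_c18 LD3_c43) (LK LD1_c0 LD2_c8 LD3_c26) Lrfl Lrfl
theorem f154083 : Led Lsl_gt (LP (LK LD1_c0 LD2_c30 LD3_c16)) = (LP (LK LD1_c0 LD2_c18 LD3_c43)) :=
  Lgr Lrot9 (Lpe (f61260 IH) (Lpr_gt (K6.f61256 IH) (Lpr_ct (f61261 IH) (Lpr_gt (f153440 IH) (Lpr_ct (f25897 IH) (Lpe (f25801 IH) (Lpe (f25800 IH) (Lpr_gf (f154079 IH) (Lpe (f104644 IH) (Lpn (LP (LK LD1_c0 LD2_c18 LD3_c43))))))))))))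
theorem f83226 : Led Lsl_ft (LP (LK LD1_c0 LD2_c42 LD3_c40)) = (LP (LK LD1_c0 LD2_c41 LD3_c54)) :=
  Lgr Lrot4 (Lpe (K2.f25817 IH) (Lpr_ff (K2.f83221 IH) (Lpe (K2.f83195 IH) (Lpn (LP (LK LD1_c0 LD2_c41 LD3_c54))))))
theorem f68096 : Led Lsl_af (LP (LK LD1_c0 LD2_c20 LD3_c22)) = (LP (LK LD1_c0 LD2_c18 LD3_c61)) :=
  Lgr Lrot45 (Lpr_ft (K1.f67399 IH) (Lpe (K2.f67378 IH) (Lpr_ft (K1.f67363 IH) (Lpn (LP (LK LD1_c0 LD2_c18 LD3_c61))))))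
theorem f83190 : Led Lsl_af (LP (LK LD1_c0 LD2_c42 LD3_c42)) = (LP (LK LD1_c0 LD2_c41 LD3_c54)) :=
  Lgr Lrot117 (Lpr_dt (K2.f67361 IH) (Lpe (f68096 IH) (Lpr_dt (K2.f83188 IH) (Lpn (LP (LK LD1_c0 LD2_c41 LD3_c54))))))
theorem f152774 : Led Lsl_gt (LP (LK LD1_c0 LD2_c41 LD3_c56)) = (LP (LK LD1_c0 LD2_c42 LD3_c42)) :=
  Lgr Lrot46 (Lpr_gf (f152766 IH) (Lpr_ft (f83226 IH) (Lpe (f83190 IH) (Lpn (LP (LK LD1_c0 LD2_c42 LD3_c42))))))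
theorem f154088 : Led Lsl_cf (LP (LK LD1_c0 LD2_c30 LD3_c16)) = (LP (LK LD1_c0 LD2_c20 LD3_c28)) :=
  Lgr Lrot166 (Lpr_gt (f154083 IH) (Lpr_dt (f152741 IH) (Lpr_gt (f152774 IH) (Lpr_dt (K2.f67361 IH) (Lpe (K1.f67157 IH) (Lpe (K0.f7302 IH) (Lpr_gf (K6.f146213 IH) (Lpe (K6.f20915 IH) (Lpr_gf (f152176 IH) (Lpn (LP (LK LD1_c0 LD2_c20 LD3_c28))))))))))))
theorem f25914 : Led Lsl_bt (LP (LK LD1_c0 LD2_c30 LD3_c19)) = (LP (LK LD1_c1 LD2_c6 LD3_c10)) :=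
  Lre_b IH (LK LD1_c0 LD2_c30 LD3_c19) (LK LD1_c1 LD2_c6 LD3_c10) Lrfl Lrfl
theorem f104640 : Led Lsl_bt (LP (LK LD1_c0 LD2_c41 LD3_c43)) = (LP (LK LD1_c0 LD2_c18 LD3_c43)) :=
  Lre_b IH (LK LD1_c0 LD2_c41 LD3_c43) (LK LD1_c0 LD2_c18 LD3_c43) Lrfl Lrfl
theorem f104645 : Led Lsl_bf (LP (LK LD1_c0 LD2_c13 LD3_c29)) = (LP (LK LD1_c0 LD2_c8 LD3_c26)) :=
  Lgr Lrot90 (Lpr_ct (f25911 IH) (Lpr_bt (f25914 IH) (Lpr_ct (K6.f104622 IH) (Lpr_bt (f104640 IH) (Lpr_ct (f104644 IH) (Lpn (LP (LK LD1_c0 LD2_c8 LD3_c26))))))))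
theorem f24996 : Led Lsl_gt (LP (LK LD1_c0 LD2_c8 LD3_c25)) = (LP (LK LD1_c0 LD2_c3 LD3_c50)) :=
  Lre_g IH (LK LD1_c0 LD2_c8 LD3_c25) (LK LD1_c0 LD2_c3 LD3_c50) Lrfl Lrfl
theorem f82523 : Led Lsl_ct (LP (LK LD1_c0 LD2_c8 LD3_c25)) = (LP (LK LD1_c0 LD2_c18 LD3_c45)) :=
  Lre_c IH (LK LD1_c0 LD2_c8 LD3_c25) (LK LD1_c0 LD2_c18 LD3_c45) Lrfl Lrfl
theorem f82524 : Led Lsl_gt (LP (LK LD1_c0 LD2_c18 LD3_c45)) = (LP (LK LD1_c0 LD2_c17 LD3_c58)) :=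
  Lgr Lrot94 (Lpe (f82523 IH) (Lpr_gt (f24996 IH) (Lpr_dt (K2.f82517 IH) (Lpe (K2.f25741 IH) (Lpe (K0.f25698 IH) (Lpe (K0.f25624 IH) (Lpe (K0.f25623 IH) (Lpr_gf (K1.f57600 IH) (Lpe (K1.f21032 IH) (Lpn (LP (LK LD1_c0 LD2_c17 LD3_c58))))))))))))
theorem f152683 : Led Lsl_gt (LP (LK LD1_c0 LD2_c13 LD3_c29)) = (LP (LK LD1_c0 LD2_c8 LD3_c25)) :=
  Lgr Lrot9 (Lpe (f25904 IH) (Lpr_gt (f152673 IH) (Lpr_ct (K0.f7434 IH) (Lpr_gt (K2.f10992 IH) (Lpr_ct (K2.f84282 IH) (Lpr_df (K6.f20840 IH) (Lpr_cf (K6.f21030 IH) (Lpe (f82524 IH) (Lpe (f82523 IH) (Lpn (LP (LK LD1_c0 LD2_c8 LD3_c25))))))))))))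
theorem f154092 : Led Lsl_bt (LP (LK LD1_c0 LD2_c20 LD3_c28)) = (LP (LK LD1_c0 LD2_c9 LD3_c18)) :=
  Lgr Lrot92 (Lpe (f154088 IH) (Lpr_gt (f154083 IH) (Lpe (f104619 IH) (Lpe (f104645 IH) (Lpr_gt (f152683 IH) (Lpr_ct (f82523 IH) (Lpr_gt (f82524 IH) (Lpe (K2.f21019 IH) (Lpr_bt (K1.f20005 IH) (Lpr_gt (K0.f156 IH) (Lpn (LP (LK LD1_c0 LD2_c9 LD3_c18)))))))))))))
theorem f10919 : Led Lsl_dt (LP (LK LD1_c0 LD2_c21 LD3_c52)) = (LP (LK LD1_c0 LD2_c9 LD3_c50)) :=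
  Lre_d IH (LK LD1_c0 LD2_c21 LD3_c52) (LK LD1_c0 LD2_c9 LD3_c50) Lrfl Lrfl
theorem f10932 : Led Lsl_gt (LP (LK LD1_c0 LD2_c10 LD3_c0)) = (LP (LK LD1_c0 LD2_c21 LD3_c52)) :=
  Lgr Lrot5 (Lpr_ft (K0.f9986 IH) (Lpe (K0.f10099 IH) (Lpr_gf (K6.f10914 IH) (Lpn (LP (LK LD1_c0 LD2_c21 LD3_c52))))))
theorem f9945 : Led Lsl_dt (LP (LK LD1_c0 LD2_c4 LD3_c43)) = (LP (LK LD1_c0 LD2_c10 LD3_c0)) :=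
  Lre_d IH (LK LD1_c0 LD2_c4 LD3_c43) (LK LD1_c0 LD2_c10 LD3_c0) Lrfl Lrfl
theorem f154 : Led Lsl_dt (LP (LK LD1_c0 LD2_c1 LD3_c60)) = (LP (LK LD1_c0 LD2_c0 LD3_c47)) :=
  Lre_d IH (LK LD1_c0 LD2_c1 LD3_c60) (LK LD1_c0 LD2_c0 LD3_c47) Lrfl Lrfl
theorem f12676 : Led Lsl_et (LP (LK LD1_c0 LD2_c4 LD3_c21)) = (LP (LK LD1_c0 LD2_c1 LD3_c60)) :=
  Lre_e IH (LK LD1_c0 LD2_c4 LD3_c21) (LK LD1_c0 LD2_c1 LD3_c60) Lrfl Lrfl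
theorem f12677 : Led Lsl_dt (LP (LK LD1_c0 LD2_c4 LD3_c23)) = (LP (LK LD1_c0 LD2_c4 LD3_c21)) :=
  Lgr Lrot77 (Lpe (K0.f12619 IH) (Lpe (K0.f3829 IH) (Lpr_ef (K0.f12671 IH) (Lpe (f154 IH) (Lpe (f12676 IH) (Lpn (LP (LK LD1_c0 LD2_c4 LD3_c21))))))))
theorem f143259 : Led Lsl_dt (LP (LK LD1_c0 LD2_c9 LD3_c18)) = (LP (LK LD1_c0 LD2_c9 LD3_c19)) :=
  Lgr Lrot113 (Lpe (K0.f156 IH) (Lpe (f12677 IH) (Lpr_gf (K3.f12623 IH) (Lpr_ct (K1.f9867 IH) (Lpr_gt (K0.f11929 IH) (Lpr_dt (f9945 IH) (Lpr_gt (f10932 IH) (Lpr_dt (f10919 IH) (Lpr_ct (K6.f143224 IH) (Lpn (LP (LK LD1_c0 LD2_c9 LD3_c19))))))))))))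
theorem f154097 : Led Lsl_bf (LP (LK LD1_c0 LD2_c20 LD3_c8)) = (LP (LK LD1_c0 LD2_c9 LD3_c19)) :=
  Lgr Lrot93 (Lpe (K1.f20930 IH) (Lpr_bt (f154092 IH) (Lpr_dt (f143259 IH) (Lpn (LP (LK LD1_c0 LD2_c9 LD3_c19))))))
theorem f20944 : Led Lsl_bf (LP (LK LD1_c0 LD2_c2 LD3_c7)) = (LP (LK LD1_c0 LD2_c2 LD3_c7)) :=
  Lgr Lrot96 (Lpr_et (K0.f6688 IH) (Lpr_bt (K0.f20942 IH) (Lpr_et (K0.f4927 IH) (Lpn (LP (LK LD1_c0 LD2_c2 LD3_c7))))))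
theorem f4932 : Led Lsl_ct (LP (LK LD1_c0 LD2_c4 LD3_c38)) = (LP (LK LD1_c0 LD2_c9 LD3_c54)) :=
  Lre_c IH (LK LD1_c0 LD2_c4 LD3_c38) (LK LD1_c0 LD2_c9 LD3_c54) Lrfl Lrfl
theorem f154105 : Led Lsl_gf (LP (LK LD1_c0 LD2_c20 LD3_c36)) = (LP (LK LD1_c0 LD2_c9 LD3_c54)) :=
  Lgr Lrot129 (Lpe (K5.f20856 IH) (Lpr_bt (K2.f20853 IH) (Lpr_gt (K6.f145468 IH) (Lpr_bf (f154097 IH) (Lpe (K6.f143255 IH) (Lpr_gt (K6.f9962 IH) (Lpe (K0.f9983 IH) (Lpe (f20944 IH) (Lpr_gt (K0.f4928 IH) (Lpr_ct (f4932 IH) (Lpn (LP (LK LD1_c0 LD2_c9 LD3_c54)))))))))))))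
theorem f104588 : Led Lsl_bf (LP (LK LD1_c0 LD2_c6 LD3_c8)) = (LP (LK LD1_c0 LD2_c3 LD3_c50)) :=
  Lgr Lrot90 (Lpr_ct (f25775 IH) (Lpr_bt (f25789 IH) (Lpr_ct (K5.f104318 IH) (Lpr_bt (K6.f104587 IH) (Lpr_ct (f25812 IH) (Lpn (LP (LK LD1_c0 LD2_c3 LD3_c50))))))))
theorem f4931 : Led Lsl_bt (LP (LK LD1_c0 LD2_c4 LD3_c38)) = (LP (LK LD1_c0 LD2_c9 LD3_c53)) :=
  Lre_b IH (LK LD1_c0 LD2_c4 LD3_c38) (LK LD1_c0 LD2_c9 LD3_c53) Lrfl Lrfl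
theorem f154109 : Led Lsl_gt (LP (LK LD1_c0 LD2_c6 LD3_c8)) = (LP (LK LD1_c0 LD2_c9 LD3_c53)) :=
  Lgr Lrot164 (Lpr_bf (f104588 IH) (Lpr_ct (K1.f25805 IH) (Lpe (K1.f58935 IH) (Lpr_cf (K1.f67086 IH) (Lpe (K6.f145468 IH) (Lpe (K2.f20853 IH) (Lpr_ct (K5.f20856 IH) (Lpr_gf (f154105 IH) (Lpe (f4932 IH) (Lpr_bt (f4931 IH) (Lpn (LP (LK LD1_c0 LD2_c9 LD3_c53)))))))))))))
theorem f23402 : Led Lsl_gt (LP (LK LD1_c0 LD2_c3 LD3_c57)) = (LP (LK LD1_c0 LD2_c8 LD3_c40)) :=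
  Lre_g IH (LK LD1_c0 LD2_c3 LD3_c57) (LK LD1_c0 LD2_c8 LD3_c40) Lrfl Lrfl
theorem f82540 : Led Lsl_gf (LP (LK LD1_c0 LD2_c6 LD3_c15)) = (LP (LK LD1_c0 LD2_c8 LD3_c40)) :=
  Lgr Lrot76 (Lpr_af (K2.f82269 IH) (Lpr_ff (K3.f82534 IH) (Lpr_gt (f23402 IH) (Lpn (LP (LK LD1_c0 LD2_c8 LD3_c40))))))
theorem f86075 : Led Lsl_df (LP (LK LD1_c0 LD2_c8 LD3_c40)) = (LP (LK LD1_c0 LD2_c8 LD3_c40)) :=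
  Lgr Lrot135 (Lpe (f82540 IH) (Lpr_df (f86073 IH) (Lpr_et (K2.f7451 IH) (Lpr_gt (K0.f1463 IH) (Lpe (K0.f13610 IH) (Lpr_dt (K0.f13629 IH) (Lpr_gt (K0.f1471 IH) (Lpr_df (K1.f26744 IH) (Lpr_et (K2.f23583 IH) (Lpr_gt (f23402 IH) (Lpn (LP (LK LD1_c0 LD2_c8 LD3_c40)))))))))))))
theorem f154126 : Led Lsl_et (LP (LK LD1_c0 LD2_c8 LD3_c40)) = (LP (LK LD1_c0 LD2_c9 LD3_c53)) :=
  Lgr Lrot122 (Lpe (f86075 IH) (Lpe (f82540 IH) (Lpr_df (f86073 IH) (Lpr_et (K2.f7451 IH) (Lpr_gt (K0.f1463 IH) (Lpr_dt (K1.f7001 IH) (Lpr_gt (K0.f6978 IH) (Lpe (K0.f20256 IH) (Lpr_et (K1.f20996 IH) (Lpr_gt (f154109 IH) (Lpn (LP (LK LD1_c0 LD2_c9 LD3_c53)))))))))))))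
theorem f154132 : Led Lsl_ef (LP (LK LD1_c0 LD2_c8 LD3_c40)) = (LP (LK LD1_c0 LD2_c9 LD3_c53)) :=
  Lgr Lrot88 (Lpr_et (f154126 IH) (Lpn (LP (LK LD1_c0 LD2_c9 LD3_c53))))
theorem f23405 : Led Lsl_ct (LP (LK LD1_c0 LD2_c8 LD3_c40)) = (LP (LK LD1_c0 LD2_c19 LD3_c17)) :=
  Lre_c IH (LK LD1_c0 LD2_c8 LD3_c40) (LK LD1_c0 LD2_c19 LD3_c17) Lrfl Lrfl
theorem f10355 : Led Lsl_ct (LP (LK LD1_c0 LD2_c21 LD3_c55)) = (LP (LK LD1_c0 LD2_c9 LD3_c53)) :=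
  Lre_c IH (LK LD1_c0 LD2_c21 LD3_c55) (LK LD1_c0 LD2_c9 LD3_c53) Lrfl Lrfl
theorem f154136 : Led Lsl_et (LP (LK LD1_c0 LD2_c19 LD3_c17)) = (LP (LK LD1_c0 LD2_c21 LD3_c55)) :=
  Lgr Lrot158 (Lpe (f23405 IH) (Lpr_ef (f154132 IH) (Lpe (f10355 IH) (Lpn (LP (LK LD1_c0 LD2_c21 LD3_c55))))))
theorem f86077 : Led Lsl_dt (LP (LK LD1_c0 LD2_c19 LD3_c17)) = (LP (LK LD1_c0 LD2_c43 LD3_c13)) :=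
  Lre_d IH (LK LD1_c0 LD2_c19 LD3_c17) (LK LD1_c0 LD2_c43 LD3_c13) Lrfl Lrfl
theorem f10357 : Led Lsl_ct (LP (LK LD1_c0 LD2_c9 LD3_c53)) = (LP (LK LD1_c0 LD2_c21 LD3_c55)) :=
  Lre_c IH (LK LD1_c0 LD2_c9 LD3_c53) (LK LD1_c0 LD2_c21 LD3_c55) Lrfl Lrfl
theorem f154117 : Led Lsl_gf (LP (LK LD1_c0 LD2_c40 LD3_c1)) = (LP (LK LD1_c0 LD2_c21 LD3_c55)) :=
  Lgr Lrot104 (Lpe (K2.f21035 IH) (Lpe (K6.f20844 IH) (Lpe (f143021 IH) (Lpe (K5.f23830 IH) (Lpe (K1.f7486 IH) (Lpe (K3.f86029 IH) (Lpr_df (K1.f20997 IH) (Lpr_gt (f154109 IH) (Lpr_ct (f10357 IH) (Lpn (LP (LK LD1_c0 LD2_c21 LD3_c55))))))))))))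
theorem f154144 : Led Lsl_gf (LP (LK LD1_c0 LD2_c43 LD3_c13)) = (LP (LK LD1_c0 LD2_c19 LD3_c31)) :=
  Lgr Lrot145 (Lpe (f86077 IH) (Lpr_et (f154136 IH) (Lpe (f154117 IH) (Lpe (K6.f143019 IH) (Lpr_gt (K3.f7471 IH) (Lpe (K0.f7453 IH) (Lpr_et (K6.f25677 IH) (Lpr_gt (K0.f24024 IH) (Lpe (f24954 IH) (Lpr_dt (f24603 IH) (Lpn (LP (LK LD1_c0 LD2_c19 LD3_c31)))))))))))))
theorem f86078 : Led Lsl_dt (LP (LK LD1_c0 LD2_c43 LD3_c13)) = (LP (LK LD1_c0 LD2_c19 LD3_c17)) :=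
  Lre_d IH (LK LD1_c0 LD2_c43 LD3_c13) (LK LD1_c0 LD2_c19 LD3_c17) Lrfl Lrfl
theorem f82542 : Led Lsl_ct (LP (LK LD1_c0 LD2_c19 LD3_c17)) = (LP (LK LD1_c0 LD2_c8 LD3_c40)) :=
  Lre_c IH (LK LD1_c0 LD2_c19 LD3_c17) (LK LD1_c0 LD2_c8 LD3_c40) Lrfl Lrfl
theorem f154146 : Led Lsl_gt (LP (LK LD1_c0 LD2_c19 LD3_c18)) = (LP (LK LD1_c0 LD2_c8 LD3_c47)) :=
  Lgr Lrot94 (Lpe (f83140 IH) (Lpr_gt (f23404 IH) (Lpr_dt (f86071 IH) (Lpr_gt (f23402 IH) (Lpe (f86075 IH) (Lpe (f82542 IH) (Lpe (f86078 IH) (Lpr_gf (f154144 IH) (Lpe (f24603 IH) (Lpn (LP (LK LD1_c0 LD2_c8 LD3_c47))))))))))))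
theorem f23393 : Led Lsl_bf (LP (LK LD1_c0 LD2_c6 LD3_c15)) = (LP (LK LD1_c0 LD2_c3 LD3_c57)) :=
  Lgr Lrot24 (Lpr_bt (K2.f23388 IH) (Lpn (LP (LK LD1_c0 LD2_c3 LD3_c57))))
theorem f23417 : Led Lsl_gt (LP (LK LD1_c0 LD2_c19 LD3_c16)) = (LP (LK LD1_c0 LD2_c8 LD3_c39)) :=
  Lre_g IH (LK LD1_c0 LD2_c19 LD3_c16) (LK LD1_c0 LD2_c8 LD3_c39) Lrfl Lrfl
theorem f82265 : Led Lsl_at (LP (LK LD1_c0 LD2_c13 LD3_c41)) = (LP (LK LD1_c0 LD2_c8 LD3_c39)) :=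
  Lgr Lrot100 (Lpr_af (K2.f82263 IH) (Lpn (LP (LK LD1_c0 LD2_c8 LD3_c39))))
theorem f82544 : Led Lsl_ff (LP (LK LD1_c0 LD2_c13 LD3_c41)) = (LP (LK LD1_c0 LD2_c13 LD3_c41)) :=
  Lgr Lrot30 (Lpr_at (f82265 IH) (Lpr_ft (K3.f82538 IH) (Lpe (K2.f82263 IH) (Lpn (LP (LK LD1_c0 LD2_c13 LD3_c41))))))
theorem f83108 : Led Lsl_gf (LP (LK LD1_c0 LD2_c19 LD3_c16)) = (LP (LK LD1_c0 LD2_c13 LD3_c41)) :=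
  Lgr Lrot47 (Lpr_gt (f23417 IH) (Lpe (f82265 IH) (Lpr_ff (f82544 IH) (Lpn (LP (LK LD1_c0 LD2_c13 LD3_c41))))))
theorem f67047 : Led Lsl_et (LP (LK LD1_c0 LD2_c6 LD3_c14)) = (LP (LK LD1_c0 LD2_c13 LD3_c41)) :=
  Lre_e IH (LK LD1_c0 LD2_c6 LD3_c14) (LK LD1_c0 LD2_c13 LD3_c41) Lrfl Lrfl
theorem f83110 : Led Lsl_ef (LP (LK LD1_c0 LD2_c19 LD3_c16)) = (LP (LK LD1_c0 LD2_c18 LD3_c40)) :=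
  Lgr Lrot17 (Lpr_gf (f83108 IH) (Lpe (f67047 IH) (Lpr_dt (K2.f22749 IH) (Lpe (K3.f67041 IH) (Lpe (K1.f25180 IH) (Lpr_gf (K1.f67039 IH) (Lpe (K1.f25846 IH) (Lpr_dt (K1.f24985 IH) (Lpe (K1.f25808 IH) (Lpe (K1.f25807 IH) (Lpn (LP (LK LD1_c0 LD2_c18 LD3_c40)))))))))))))
theorem f83116 : Led Lsl_et (LP (LK LD1_c0 LD2_c19 LD3_c16)) = (LP (LK LD1_c0 LD2_c18 LD3_c40)) :=
  Lgr Lrot87 (Lpr_ef (f83110 IH) (Lpn (LP (LK LD1_c0 LD2_c18 LD3_c40))))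
theorem f152170 : Led Lsl_cf (LP (LK LD1_c0 LD2_c19 LD3_c16)) = (LP (LK LD1_c0 LD2_c20 LD3_c13)) :=
  Lgr Lrot39 (Lpr_et (f83116 IH) (Lpr_ct (K6.f145490 IH) (Lpr_et (f152168 IH) (Lpn (LP (LK LD1_c0 LD2_c20 LD3_c13))))))
theorem f24274 : Led Lsl_bt (LP (LK LD1_c0 LD2_c19 LD3_c29)) = (LP (LK LD1_c0 LD2_c19 LD3_c29)) :=
  Lgr Lrot119 (Lpe (K6.f24269 IH) (Lpr_bf (K3.f24266 IH) (Lpe (K6.f24268 IH) (Lpn (LP (LK LD1_c0 LD2_c19 LD3_c29))))))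
theorem f154149 : Led Lsl_bt (LP (LK LD1_c0 LD2_c20 LD3_c13)) = (LP (LK LD1_c0 LD2_c20 LD3_c13)) :=
  Lgr Lrot92 (Lpe (f152170 IH) (Lpr_gt (f23417 IH) (Lpe (K2.f23397 IH) (Lpe (f23393 IH) (Lpr_gt (f83138 IH) (Lpr_ct (f83140 IH) (Lpr_gt (f154146 IH) (Lpe (f24278 IH) (Lpr_bt (f24274 IH) (Lpr_gt (f152161 IH) (Lpn (LP (LK LD1_c0 LD2_c20 LD3_c13)))))))))))))
theorem f154157 : Led Lsl_bf (LP (LK LD1_c0 LD2_c20 LD3_c7)) = (LP (LK LD1_c0 LD2_c20 LD3_c7)) :=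
  Lgr Lrot96 (Lpr_et (f152168 IH) (Lpr_bt (f154149 IH) (Lpe (f152166 IH) (Lpn (LP (LK LD1_c0 LD2_c20 LD3_c7))))))
theorem f154159 : Led Lsl_bt (LP (LK LD1_c0 LD2_c20 LD3_c29)) = (LP (LK LD1_c0 LD2_c20 LD3_c29)) :=
  Lgr Lrot95 (Lpe (f152172 IH) (Lpr_bf (f154157 IH) (Lpe (f152180 IH) (Lpn (LP (LK LD1_c0 LD2_c20 LD3_c29))))))
theorem f25788 : Led Lsl_gt (LP (LK LD1_c0 LD2_c30 LD3_c17)) = (LP (LK LD1_c0 LD2_c13 LD3_c27)) :=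
  Lre_g IH (LK LD1_c0 LD2_c30 LD3_c17) (LK LD1_c0 LD2_c13 LD3_c27) Lrfl Lrfl
theorem f82820 : Led Lsl_cf (LP (LK LD1_c0 LD2_c30 LD3_c17)) = (LP (LK LD1_c0 LD2_c20 LD3_c29)) :=
  Lgr Lrot166 (Lpr_gt (f25788 IH) (Lpr_dt (K3.f25776 IH) (Lpr_gt (K3.f82791 IH) (Lpr_dt (K2.f25842 IH) (Lpe (K2.f67384 IH) (Lpe (K0.f7326 IH) (Lpr_gf (K0.f9689 IH) (Lpr_df (K6.f20840 IH) (Lpe (f20847 IH) (Lpn (LP (LK LD1_c0 LD2_c20 LD3_c29))))))))))))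
theorem f82527 : Led Lsl_gt (LP (LK LD1_c0 LD2_c18 LD3_c44)) = (LP (LK LD1_c0 LD2_c41 LD3_c57)) :=
  Lre_g IH (LK LD1_c0 LD2_c18 LD3_c44) (LK LD1_c0 LD2_c41 LD3_c57) Lrfl Lrfl
theorem f20920 : Led Lsl_bt (LP (LK LD1_c0 LD2_c37 LD3_c46)) = (LP (LK LD1_c0 LD2_c37 LD3_c46)) :=
  Lgr Lrot35 (Lpe (K6.f20902 IH) (Lpr_bf (K1.f20905 IH) (Lpe (K6.f20917 IH) (Lpn (LP (LK LD1_c0 LD2_c37 LD3_c46))))))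
theorem f20922 : Led Lsl_bf (LP (LK LD1_c0 LD2_c20 LD3_c9)) = (LP (LK LD1_c0 LD2_c20 LD3_c9)) :=
  Lgr Lrot93 (Lpr_dt (K6.f20915 IH) (Lpr_bt (f20920 IH) (Lpe (K6.f20912 IH) (Lpn (LP (LK LD1_c0 LD2_c20 LD3_c9))))))
theorem f154163 : Led Lsl_cf (LP (LK LD1_c0 LD2_c41 LD3_c57)) = (LP (LK LD1_c0 LD2_c20 LD3_c9)) :=
  Lgr Lrot163 (Lpe (f82527 IH) (Lpe (f25894 IH) (Lpe (K1.f21012 IH) (Lpe (K2.f25763 IH) (Lpr_ct (f25775 IH) (Lpe (f25788 IH) (Lpr_cf (f82820 IH) (Lpr_bt (f154159 IH) (Lpr_gf (f152174 IH) (Lpr_bf (f20922 IH) (Lpn (LP (LK LD1_c0 LD2_c20 LD3_c9)))))))))))))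
theorem f19753 : Led Lsl_bt (LP (LK LD1_c0 LD2_c4 LD3_c40)) = (LP (LK LD1_c0 LD2_c4 LD3_c40)) :=
  Lgr Lrot128 (Lpe (K0.f9973 IH) (Lpe (K6.f10345 IH) (Lpr_cf (K0.f19448 IH) (Lpe (K0.f9975 IH) (Lpe (K0.f9966 IH) (Lpn (LP (LK LD1_c0 LD2_c4 LD3_c40))))))))
theorem f4935 : Led Lsl_bt (LP (LK LD1_c0 LD2_c9 LD3_c53)) = (LP (LK LD1_c0 LD2_c4 LD3_c38)) :=
  Lre_b IH (LK LD1_c0 LD2_c9 LD3_c53) (LK LD1_c0 LD2_c4 LD3_c38) Lrfl Lrfl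
theorem f154103 : Led Lsl_gt (LP (LK LD1_c0 LD2_c20 LD3_c6)) = (LP (LK LD1_c0 LD2_c21 LD3_c55)) :=
  Lgr Lrot149 (Lpe (K6.f20924 IH) (Lpe (K1.f9691 IH) (Lpr_bf (f154097 IH) (Lpe (K6.f143255 IH) (Lpe (K6.f10911 IH) (Lpe (K0.f9966 IH) (Lpr_bt (f19753 IH) (Lpe (K6.f10353 IH) (Lpe (f4935 IH) (Lpr_ct (f10357 IH) (Lpn (LP (LK LD1_c0 LD2_c21 LD3_c55)))))))))))))
theorem f154113 : Led Lsl_df (LP (LK LD1_c0 LD2_c8 LD3_c25)) = (LP (LK LD1_c0 LD2_c9 LD3_c53)) :=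
  Lgr Lrot153 (Lpr_gt (f24996 IH) (Lpr_dt (K2.f82517 IH) (Lpe (K2.f25752 IH) (Lpe (K6.f25746 IH) (Lpe (K6.f61256 IH) (Lpe (K6.f26010 IH) (Lpe (K6.f25813 IH) (Lpe (f25775 IH) (Lpr_gt (f154109 IH) (Lpn (LP (LK LD1_c0 LD2_c9 LD3_c53))))))))))))
theorem f82526 : Led Lsl_ct (LP (LK LD1_c0 LD2_c18 LD3_c45)) = (LP (LK LD1_c0 LD2_c8 LD3_c25)) :=
  Lre_c IH (LK LD1_c0 LD2_c18 LD3_c45) (LK LD1_c0 LD2_c8 LD3_c25) Lrfl Lrfl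
theorem f154176 : Led Lsl_gt (LP (LK LD1_c0 LD2_c41 LD3_c57)) = (LP (LK LD1_c0 LD2_c18 LD3_c45)) :=
  Lgr Lrot187 (Lpr_cf (f154163 IH) (Lpr_gf (f152176 IH) (Lpr_dt (K1.f20928 IH) (Lpr_gt (K1.f9691 IH) (Lpr_ct (K6.f20924 IH) (Lpr_gt (f154103 IH) (Lpr_ct (f10355 IH) (Lpe (f154113 IH) (Lpe (f82526 IH) (Lpn (LP (LK LD1_c0 LD2_c18 LD3_c45))))))))))))
theorem f154178 : Led Lsl_dt (LP (LK LD1_c0 LD2_c18 LD3_c45)) = (LP (LK LD1_c0 LD2_c41 LD3_c61)) :=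
  Lre_d IH (LK LD1_c0 LD2_c18 LD3_c45) (LK LD1_c0 LD2_c41 LD3_c61) Lrfl Lrfl
theorem f154168 : Led Lsl_ct (LP (LK LD1_c0 LD2_c41 LD3_c57)) = (LP (LK LD1_c0 LD2_c20 LD3_c9)) :=
  Lgr Lrot59 (Lpr_cf (f154163 IH) (Lpn (LP (LK LD1_c0 LD2_c20 LD3_c9))))
theorem f86311 : Led Lsl_bf (LP (LK LD1_c0 LD2_c6 LD3_c21)) = (LP (LK LD1_c0 LD2_c6 LD3_c21)) :=
  Lgr Lrot90 (Lpr_ct (K0.f7452 IH) (Lpr_bt (K3.f7473 IH) (Lpr_ct (K3.f86151 IH) (Lpr_bt (K3.f86162 IH) (Lpr_ct (K0.f7455 IH) (Lpn (LP (LK LD1_c0 LD2_c6 LD3_c21))))))))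
theorem f145466 : Led Lsl_ct (LP (LK LD1_c0 LD2_c20 LD3_c11)) = (LP (LK LD1_c0 LD2_c31 LD3_c22)) :=
  Lgr Lrot91 (Lpr_gf (K6.f145462 IH) (Lpe (K0.f9709 IH) (Lpe (K1.f25057 IH) (Lpe (K2.f83186 IH) (Lpe (K6.f25744 IH) (Lpe (K2.f82448 IH) (Lpe (K3.f24978 IH) (Lpr_bf (f86311 IH) (Lpr_ct (K0.f7452 IH) (Lpe (K5.f7472 IH) (Lpn (LP (LK LD1_c0 LD2_c31 LD3_c22)))))))))))))
theorem f154179 : Led Lsl_gf (LP (LK LD1_c1 LD2_c8 LD3_c35)) = (LP (LK LD1_c0 LD2_c41 LD3_c61)) :=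
  Lgr Lrot143 (Lpr_dt (f7501 IH) (Lpe (f145466 IH) (Lpr_df (f20851 IH) (Lpr_gf (K6.f145488 IH) (Lpe (f152180 IH) (Lpr_gf (f152174 IH) (Lpe (f154168 IH) (Lpr_gt (f154176 IH) (Lpr_dt (f154178 IH) (Lpn (LP (LK LD1_c0 LD2_c41 LD3_c61))))))))))))
theorem f143038 : Led Lsl_et (LP (LK LD1_c0 LD2_c31 LD3_c22)) = (LP (LK LD1_c0 LD2_c40 LD3_c1)) :=
  Lgr Lrot87 (Lpr_ef (K6.f143032 IH) (Lpn (LP (LK LD1_c0 LD2_c40 LD3_c1))))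
theorem f86067 : Led Lsl_et (LP (LK LD1_c0 LD2_c30 LD3_c20)) = (LP (LK LD1_c0 LD2_c30 LD3_c20)) :=
  Lgr Lrot158 (Lpe (f25800 IH) (Lpr_ef (f86065 IH) (Lpe (f25810 IH) (Lpn (LP (LK LD1_c0 LD2_c30 LD3_c20))))))
theorem f154190 : Led Lsl_ef (LP (LK LD1_c0 LD2_c41 LD3_c57)) = (LP (LK LD1_c0 LD2_c19 LD3_c60)) :=
  Lgr Lrot167 (Lpr_gt (f154176 IH) (Lpr_dt (f154178 IH) (Lpe (f154179 IH) (Lpe (K6.f24982 IH) (Lpr_et (f143038 IH) (Lpe (f143017 IH) (Lpe (f86067 IH) (Lpr_dt (f25801 IH) (Lpe (f152178 IH) (Lpe (K5.f25745 IH) (Lpn (LP (LK LD1_c0 LD2_c19 LD3_c60)))))))))))))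
theorem f154196 : Led Lsl_et (LP (LK LD1_c0 LD2_c18 LD3_c45)) = (LP (LK LD1_c0 LD2_c18 LD3_c45)) :=
  Lgr Lrot122 (Lpr_dt (f154178 IH) (Lpe (f154179 IH) (Lpe (K6.f24982 IH) (Lpr_et (f143038 IH) (Lpe (f143017 IH) (Lpr_dt (f25801 IH) (Lpe (f152178 IH) (Lpe (K5.f25745 IH) (Lpe (f154190 IH) (Lpr_gt (f154176 IH) (Lpn (LP (LK LD1_c0 LD2_c18 LD3_c45)))))))))))))
theorem f154201 : Led Lsl_ef (LP (LK LD1_c0 LD2_c8 LD3_c25)) = (LP (LK LD1_c0 LD2_c8 LD3_c25)) :=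
  Lgr Lrot28 (Lpr_ct (f82523 IH) (Lpr_et (f154196 IH) (Lpr_ct (f82526 IH) (Lpn (LP (LK LD1_c0 LD2_c8 LD3_c25))))))
theorem f9961 : Led Lsl_ct (LP (LK LD1_c0 LD2_c4 LD3_c39)) = (LP (LK LD1_c0 LD2_c9 LD3_c55)) :=
  Lre_c IH (LK LD1_c0 LD2_c4 LD3_c39) (LK LD1_c0 LD2_c9 LD3_c55) Lrfl Lrfl
theorem f12736 : Led Lsl_gt (LP (LK LD1_c0 LD2_c9 LD3_c55)) = (LP (LK LD1_c0 LD2_c9 LD3_c17)) :=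
  Lgr Lrot94 (Lpe (f9961 IH) (Lpr_gt (K0.f5843 IH) (Lpe (K0.f9942 IH) (Lpe (K0.f10996 IH) (Lpr_dt (K0.f7392 IH) (Lpe (K0.f7398 IH) (Lpe (K3.f7399 IH) (Lpr_gf (K3.f12716 IH) (Lpe (K3.f12708 IH) (Lpn (LP (LK LD1_c0 LD2_c9 LD3_c17))))))))))))
theorem f154090 : Led Lsl_bt (LP (LK LD1_c0 LD2_c4 LD3_c39)) = (LP (LK LD1_c0 LD2_c8 LD3_c25)) :=
  Lgr Lrot92 (Lpr_ct (f9961 IH) (Lpr_gt (f12736 IH) (Lpe (K6.f12719 IH) (Lpr_bt (K5.f12724 IH) (Lpr_gt (K1.f12725 IH) (Lpe (f154088 IH) (Lpr_gt (f154083 IH) (Lpe (f104619 IH) (Lpe (f104645 IH) (Lpr_gt (f152683 IH) (Lpn (LP (LK LD1_c0 LD2_c8 LD3_c25)))))))))))))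
theorem f154350 : Led Lsl_bt (LP (LK LD1_c0 LD2_c8 LD3_c25)) = (LP (LK LD1_c0 LD2_c4 LD3_c39)) :=
  Lgr Lrot119 (Lpr_ef (f154201 IH) (Lpe (f154090 IH) (Lpr_ef (K0.f9994 IH) (Lpn (LP (LK LD1_c0 LD2_c4 LD3_c39))))))
theorem f10348 : Led Lsl_ft (LP (LK LD1_c0 LD2_c4 LD3_c37)) = (LP (LK LD1_c0 LD2_c9 LD3_c52)) :=
  Lre_f IH (LK LD1_c0 LD2_c4 LD3_c37) (LK LD1_c0 LD2_c9 LD3_c52) Lrfl Lrfl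
theorem f9996 : Led Lsl_gt (LP (LK LD1_c0 LD2_c4 LD3_c37)) = (LP (LK LD1_c0 LD2_c9 LD3_c49)) :=
  Lre_g IH (LK LD1_c0 LD2_c4 LD3_c37) (LK LD1_c0 LD2_c9 LD3_c49) Lrfl Lrfl
theorem f10369 : Led Lsl_gf (LP (LK LD1_c0 LD2_c9 LD3_c52)) = (LP (LK LD1_c0 LD2_c9 LD3_c49)) :=
  Lgr Lrot76 (Lpr_af (K0.f10343 IH) (Lpe (f10348 IH) (Lpr_gt (f9996 IH) (Lpn (LP (LK LD1_c0 LD2_c9 LD3_c49))))))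
theorem f154354 : Led Lsl_ct (LP (LK LD1_c0 LD2_c9 LD3_c18)) = (LP (LK LD1_c0 LD2_c9 LD3_c49)) :=
  Lgr Lrot91 (Lpe (K0.f156 IH) (Lpe (K1.f20005 IH) (Lpr_ct (K2.f21019 IH) (Lpe (f82524 IH) (Lpe (f82523 IH) (Lpr_bt (f154350 IH) (Lpr_gf (K6.f10360 IH) (Lpe (f19753 IH) (Lpr_ct (K0.f9966 IH) (Lpr_gf (f10369 IH) (Lpn (LP (LK LD1_c0 LD2_c9 LD3_c49)))))))))))))
theorem f9869 : Led Lsl_dt (LP (LK LD1_c0 LD2_c20 LD3_c61)) = (LP (LK LD1_c0 LD2_c9 LD3_c31)) :=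
  Lre_d IH (LK LD1_c0 LD2_c20 LD3_c61) (LK LD1_c0 LD2_c9 LD3_c31) Lrfl Lrfl
theorem f7314 : Led Lsl_bt (LP (LK LD1_c0 LD2_c9 LD3_c11)) = (LP (LK LD1_c0 LD2_c4 LD3_c29)) :=
  Lre_b IH (LK LD1_c0 LD2_c9 LD3_c11) (LK LD1_c0 LD2_c4 LD3_c29) Lrfl Lrfl
theorem f7316 : Led Lsl_dt (LP (LK LD1_c0 LD2_c4 LD3_c29)) = (LP (LK LD1_c0 LD2_c4 LD3_c29)) :=
  Lgr Lrot79 (Lpe (f7314 IH) (Lpr_df (K0.f7311 IH) (Lpe (K1.f7315 IH) (Lpn (LP (LK LD1_c0 LD2_c4 LD3_c29))))))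
theorem f12718 : Led Lsl_dt (LP (LK LD1_c0 LD2_c20 LD3_c35)) = (LP (LK LD1_c0 LD2_c9 LD3_c17)) :=
  Lre_d IH (LK LD1_c0 LD2_c20 LD3_c35) (LK LD1_c0 LD2_c9 LD3_c17) Lrfl Lrfl
theorem f145456 : Led Lsl_gt (LP (LK LD1_c0 LD2_c9 LD3_c23)) = (LP (LK LD1_c0 LD2_c4 LD3_c29)) :=
  Lgr Lrot180 (Lpr_ct (K6.f145452 IH) (Lpr_gt (K5.f7424 IH) (Lpr_dt (K0.f7417 IH) (Lpr_gt (K3.f12709 IH) (Lpr_dt (f12718 IH) (Lpr_ct (K5.f12720 IH) (Lpe (f12677 IH) (Lpr_gf (K3.f12623 IH) (Lpe (f7316 IH) (Lpn (LP (LK LD1_c0 LD2_c4 LD3_c29))))))))))))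
theorem f20849 : Led Lsl_df (LP (LK LD1_c0 LD2_c9 LD3_c23)) = (LP (LK LD1_c0 LD2_c9 LD3_c20)) :=
  Lgr Lrot12 (Lpr_bt (K6.f20013 IH) (Lpr_dt (K6.f20844 IH) (Lpr_bt (K5.f20848 IH) (Lpn (LP (LK LD1_c0 LD2_c9 LD3_c20))))))
theorem f154359 : Led Lsl_gt (LP (LK LD1_c0 LD2_c9 LD3_c18)) = (LP (LK LD1_c0 LD2_c9 LD3_c20)) :=
  Lgr Lrot180 (Lpr_ct (f154354 IH) (Lpe (f10369 IH) (Lpr_dt (K0.f9967 IH) (Lpe (K0.f11474 IH) (Lpr_dt (f9869 IH) (Lpr_ct (K0.f9868 IH) (Lpe (f7316 IH) (Lpe (f145456 IH) (Lpr_df (f20849 IH) (Lpn (LP (LK LD1_c0 LD2_c9 LD3_c20))))))))))))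
theorem f154366 : Led Lsl_bf (LP (LK LD1_c0 LD2_c13 LD3_c28)) = (LP (LK LD1_c0 LD2_c13 LD3_c28)) :=
  Lgr Lrot165 (Lpr_gt (K1.f25754 IH) (Lpr_ct (f25775 IH) (Lpr_gt (K6.f25813 IH) (Lpr_cf (f154088 IH) (Lpr_bt (f154092 IH) (Lpr_gt (f154359 IH) (Lpe (K5.f20848 IH) (Lpr_ct (K2.f21045 IH) (Lpe (f143017 IH) (Lpe (f25800 IH) (Lpn (LP (LK LD1_c0 LD2_c13 LD3_c28)))))))))))))
theorem f154376 : Led Lsl_cf (LP (LK LD1_c0 LD2_c18 LD3_c40)) = (LP (LK LD1_c0 LD2_c20 LD3_c7)) :=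
  Lgr Lrot58 (Lpe (K1.f25806 IH) (Lpe (K1.f25805 IH) (Lpe (f104588 IH) (Lpe (K1.f25754 IH) (Lpr_bf (f154366 IH) (Lpr_ct (f25800 IH) (Lpr_gf (f143017 IH) (Lpe (K2.f21045 IH) (Lpr_gf (K6.f145488 IH) (Lpr_bf (f154157 IH) (Lpn (LP (LK LD1_c0 LD2_c20 LD3_c7)))))))))))))
theorem f154378 : Led Lsl_gf (LP (LK LD1_c0 LD2_c30 LD3_c19)) = (LP (LK LD1_c0 LD2_c18 LD3_c40)) :=
  Lgr Lrot129 (Lpe (f25911 IH) (Lpr_bt (f104620 IH) (Lpe (f154079 IH) (Lpr_bf (f154366 IH) (Lpr_ct (f25800 IH) (Lpe (f135488 IH) (Lpe (K6.f20924 IH) (Lpe (K1.f20060 IH) (Lpr_gt (K6.f7378 IH) (Lpe (f154376 IH) (Lpn (LP (LK LD1_c0 LD2_c18 LD3_c40)))))))))))))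
theorem f154181 : Led Lsl_ct (LP (LK LD1_c1 LD2_c31 LD3_c1)) = (LP (LK LD1_c0 LD2_c41 LD3_c61)) :=
  Lre_c IH (LK LD1_c1 LD2_c31 LD3_c1) (LK LD1_c0 LD2_c41 LD3_c61) Lrfl Lrfl
theorem f25820 : Led Lsl_dt (LP (LK LD1_c0 LD2_c41 LD3_c51)) = (LP (LK LD1_c0 LD2_c18 LD3_c40)) :=
  Lre_d IH (LK LD1_c0 LD2_c41 LD3_c51) (LK LD1_c0 LD2_c18 LD3_c40) Lrfl Lrfl
theorem f154383 : Led Lsl_gf (LP (LK LD1_c1 LD2_c31 LD3_c1)) = (LP (LK LD1_c0 LD2_c42 LD3_c43)) :=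
  Lgr Lrot104 (Lpr_ct (f154181 IH) (Lpe (f154178 IH) (Lpe (f82523 IH) (Lpe (f152683 IH) (Lpe (f25902 IH) (Lpr_gf (f154378 IH) (Lpe (f25820 IH) (Lpr_gt (K1.f25808 IH) (Lpr_ct (f25821 IH) (Lpn (LP (LK LD1_c0 LD2_c42 LD3_c43))))))))))))
theorem f7470 : Led Lsl_ft (LP (LK LD1_c1 LD2_c27 LD3_c31)) = (LP (LK LD1_c0 LD2_c45 LD3_c7)) :=
  Lre_f IH (LK LD1_c1 LD2_c27 LD3_c31) (LK LD1_c0 LD2_c45 LD3_c7) Lrfl Lrfl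
theorem f152781 : Led Lsl_gf (LP (LK LD1_c1 LD2_c30 LD3_c52)) = (LP (LK LD1_c1 LD2_c27 LD3_c31)) :=
  Lgr Lrot47 (Lpr_gt (f152776 IH) (Lpe (K2.f7469 IH) (Lpe (f7470 IH) (Lpn (LP (LK LD1_c1 LD2_c27 LD3_c31))))))
theorem f154388 : Led Lsl_dt (LP (LK LD1_c1 LD2_c31 LD3_c1)) = (LP (LK LD1_c2 LD2_c18 LD3_c40)) :=
  Lgr Lrot105 (Lpr_gf (f154383 IH) (Lpe (f152743 IH) (Lpr_gf (f152781 IH) (Lpe (K0.f7466 IH) (Lpr_gt (K3.f20099 IH) (Lpr_dt (K6.f143023 IH) (Lpe (f143017 IH) (Lpr_dt (f25801 IH) (Lpe (f25897 IH) (Lpn (LP (LK LD1_c2 LD2_c18 LD3_c40))))))))))))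
theorem f154184 : Led Lsl_ct (LP (LK LD1_c0 LD2_c41 LD3_c61)) = (LP (LK LD1_c1 LD2_c31 LD3_c1)) :=
  Lre_c IH (LK LD1_c0 LD2_c41 LD3_c61) (LK LD1_c1 LD2_c31 LD3_c1) Lrfl Lrfl
theorem f10356 : Led Lsl_dt (LP (LK LD1_c0 LD2_c48 LD3_c54)) = (LP (LK LD1_c0 LD2_c21 LD3_c55)) :=
  Lre_d IH (LK LD1_c0 LD2_c48 LD3_c54) (LK LD1_c0 LD2_c21 LD3_c55) Lrfl Lrfl
theorem f154119 : Led Lsl_ct (LP (LK LD1_c1 LD2_c44 LD3_c31)) = (LP (LK LD1_c0 LD2_c48 LD3_c54)) :=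
  Lre_c IH (LK LD1_c1 LD2_c44 LD3_c31) (LK LD1_c0 LD2_c48 LD3_c54) Lrfl Lrfl
theorem f25811 : Led Lsl_dt (LP (LK LD1_c1 LD2_c6 LD3_c21)) = (LP (LK LD1_c0 LD2_c30 LD3_c20)) :=
  Lre_d IH (LK LD1_c1 LD2_c6 LD3_c21) (LK LD1_c0 LD2_c30 LD3_c20) Lrfl Lrfl
theorem f154632 : Led Lsl_df (LP (LK LD1_c1 LD2_c44 LD3_c31)) = (LP (LK LD1_c1 LD2_c30 LD3_c58)) :=
  Lgr Lrot43 (Lpr_ct (f154119 IH) (Lpr_dt (f10356 IH) (Lpr_ct (f10355 IH) (Lpe (f154113 IH) (Lpr_ct (f82523 IH) (Lpr_dt (f154178 IH) (Lpr_ct (f154184 IH) (Lpr_dt (f154388 IH) (Lpr_ct (f25897 IH) (Lpr_dt (f25811 IH) (Lpr_ct (f25810 IH) (Lpe (f25803 IH) (Lpr_ct (f25894 IH) (Lpr_dt (f25895 IH) (Lpr_ct (f25896 IH) (Lpn (LP (LK LD1_c1 LD2_c30 LD3_c58))))))))))))))))))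
theorem f154122 : Led Lsl_dt (LP (LK LD1_c0 LD2_c21 LD3_c55)) = (LP (LK LD1_c0 LD2_c48 LD3_c54)) :=
  Lre_d IH (LK LD1_c0 LD2_c21 LD3_c55) (LK LD1_c0 LD2_c48 LD3_c54) Lrfl Lrfl
theorem f154640 : Led Lsl_gt (LP (LK LD1_c2 LD2_c18 LD3_c35)) = (LP (LK LD1_c1 LD2_c30 LD3_c58)) :=
  Lgr Lrot49 (Lpe (f25778 IH) (Lpr_gf (K3.f86017 IH) (Lpe (K2.f7454 IH) (Lpe (K6.f135486 IH) (Lpr_dt (K6.f20908 IH) (Lpr_gt (f154103 IH) (Lpr_dt (f154122 IH) (Lpe (f154119 IH) (Lpr_df (f154632 IH) (Lpn (LP (LK LD1_c1 LD2_c30 LD3_c58))))))))))))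
theorem f154646 : Led Lsl_gf (LP (LK LD1_c1 LD2_c6 LD3_c56)) = (LP (LK LD1_c0 LD2_c41 LD3_c53)) :=
  Lgr Lrot147 (Lpe (f154069 IH) (Lpr_gt (f154640 IH) (Lpr_ct (f25799 IH) (Lpe (f25895 IH) (Lpe (f25894 IH) (Lpe (K1.f21012 IH) (Lpe (f25812 IH) (Lpe (K1.f58935 IH) (Lpe (K1.f67143 IH) (Lpn (LP (LK LD1_c0 LD2_c41 LD3_c53))))))))))))
theorem f67168 : Led Lsl_bt (LP (LK LD1_c1 LD2_c30 LD3_c44)) = (LP (LK LD1_c0 LD2_c41 LD3_c53)) :=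
  Lre_b IH (LK LD1_c1 LD2_c30 LD3_c44) (LK LD1_c0 LD2_c41 LD3_c53) Lrfl Lrfl
theorem f67169 : Led Lsl_ct (LP (LK LD1_c1 LD2_c30 LD3_c44)) = (LP (LK LD1_c3 LD2_c9 LD3_c7)) :=
  Lre_c IH (LK LD1_c1 LD2_c30 LD3_c44) (LK LD1_c3 LD2_c9 LD3_c7) Lrfl Lrfl
theorem f154648 : Led Lsl_gt (LP (LK LD1_c6 LD2_c22 LD3_c52)) = (LP (LK LD1_c3 LD2_c9 LD3_c7)) :=
  Lre_g IH (LK LD1_c6 LD2_c22 LD3_c52) (LK LD1_c3 LD2_c9 LD3_c7) Lrfl Lrfl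
theorem f152799 : Led Lsl_bt (LP (LK LD1_c0 LD2_c41 LD3_c59)) = (LP (LK LD1_c1 LD2_c30 LD3_c57)) :=
  Lre_b IH (LK LD1_c0 LD2_c41 LD3_c59) (LK LD1_c1 LD2_c30 LD3_c57) Lrfl Lrfl
theorem f91322 : Led Lsl_et (LP (LK LD1_c2 LD2_c20 LD3_c43)) = (LP (LK LD1_c1 LD2_c7 LD3_c43)) :=
  Lre_e IH (LK LD1_c2 LD2_c20 LD3_c43) (LK LD1_c1 LD2_c7 LD3_c43) Lrfl Lrfl
theorem f90117 : Led Lsl_et (LP (LK LD1_c1 LD2_c38 LD3_c37)) = (LP (LK LD1_c3 LD2_c24 LD3_c24)) :=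
  Lre_e IH (LK LD1_c1 LD2_c38 LD3_c37) (LK LD1_c3 LD2_c24 LD3_c24) Lrfl Lrfl
theorem f91323 : Led Lsl_bf (LP (LK LD1_c2 LD2_c20 LD3_c43)) = (LP (LK LD1_c3 LD2_c24 LD3_c24)) :=
  Lgr Lrot96 (Lpr_et (f91322 IH) (Lpr_bt (K3.f91313 IH) (Lpr_et (f90117 IH) (Lpn (LP (LK LD1_c3 LD2_c24 LD3_c24))))))
theorem f91330 : Led Lsl_dt (LP (LK LD1_c6 LD2_c51 LD3_c28)) = (LP (LK LD1_c3 LD2_c24 LD3_c24)) :=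
  Lre_d IH (LK LD1_c6 LD2_c51 LD3_c28) (LK LD1_c3 LD2_c24 LD3_c24) Lrfl Lrfl
theorem f91331 : Led Lsl_bt (LP (LK LD1_c4 LD2_c45 LD3_c9)) = (LP (LK LD1_c6 LD2_c51 LD3_c28)) :=
  Lgr Lrot95 (Lpe (K5.f91329 IH) (Lpr_bf (f91323 IH) (Lpe (f91330 IH) (Lpn (LP (LK LD1_c6 LD2_c51 LD3_c28))))))
theorem f91333 : Led Lsl_bf (LP (LK LD1_c4 LD2_c45 LD3_c9)) = (LP (LK LD1_c6 LD2_c51 LD3_c28)) :=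
  Lgr Lrot24 (Lpr_bt (f91331 IH) (Lpn (LP (LK LD1_c6 LD2_c51 LD3_c28))))
theorem f91342 : Led Lsl_et (LP (LK LD1_c3 LD2_c24 LD3_c25)) = (LP (LK LD1_c6 LD2_c51 LD3_c28)) :=
  Lre_e IH (LK LD1_c3 LD2_c24 LD3_c25) (LK LD1_c6 LD2_c51 LD3_c28) Lrfl Lrfl
theorem f102188 : Led Lsl_bt (LP (LK LD1_c2 LD2_c21 LD3_c38)) = (LP (LK LD1_c3 LD2_c24 LD3_c25)) :=
  Lgr Lrot119 (Lpr_ef (K5.f102186 IH) (Lpr_bf (f91333 IH) (Lpe (f91342 IH) (Lpn (LP (LK LD1_c3 LD2_c24 LD3_c25))))))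
theorem f102219 : Led Lsl_bf (LP (LK LD1_c2 LD2_c21 LD3_c38)) = (LP (LK LD1_c3 LD2_c24 LD3_c25)) :=
  Lgr Lrot24 (Lpr_bt (f102188 IH) (Lpn (LP (LK LD1_c3 LD2_c24 LD3_c25))))
theorem f154649 : Led Lsl_cf (LP (LK LD1_c6 LD2_c22 LD3_c52)) = (LP (LK LD1_c3 LD2_c24 LD3_c25)) :=
  Lgr Lrot160 (Lpr_gt (f154648 IH) (Lpe (f67169 IH) (Lpr_bt (f67168 IH) (Lpe (f154646 IH) (Lpe (f154069 IH) (Lpr_gt (f154640 IH) (Lpe (f25896 IH) (Lpr_bt (f152799 IH) (Lpe (f152842 IH) (Lpr_bf (f102219 IH) (Lpn (LP (LK LD1_c3 LD2_c24 LD3_c25)))))))))))))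
theorem f19176 : Led Lsl_dt (LP (LK LD1_c1 LD2_c40 LD3_c32)) = (LP (LK LD1_c3 LD2_c27 LD3_c52)) :=
  Lre_d IH (LK LD1_c1 LD2_c40 LD3_c32) (LK LD1_c3 LD2_c27 LD3_c52) Lrfl Lrfl
theorem f92041 : Led Lsl_dt (LP (LK LD1_c3 LD2_c24 LD3_c25)) = (LP (LK LD1_c1 LD2_c38 LD3_c38)) :=
  Lre_d IH (LK LD1_c3 LD2_c24 LD3_c25) (LK LD1_c1 LD2_c38 LD3_c38) Lrfl Lrfl
theorem f126067 : Led Lsl_ft (LP (LK LD1_c3 LD2_c27 LD3_c52)) = (LP (LK LD1_c3 LD2_c24 LD3_c25)) :=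
  Lgr Lrot54 (Lpe (f19176 IH) (Lpr_ff (K5.f126065 IH) (Lpe (f92041 IH) (Lpn (LP (LK LD1_c3 LD2_c24 LD3_c25))))))
theorem f19175 : Led Lsl_ct (LP (LK LD1_c6 LD2_c57 LD3_c57)) = (LP (LK LD1_c3 LD2_c27 LD3_c52)) :=
  Lre_c IH (LK LD1_c6 LD2_c57 LD3_c57) (LK LD1_c3 LD2_c27 LD3_c52) Lrfl Lrfl
theorem f154663 : Led Lsl_ft (LP (LK LD1_c6 LD2_c22 LD3_c52)) = (LP (LK LD1_c6 LD2_c57 LD3_c57)) :=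
  Lgr Lrot4 (Lpr_cf (f154649 IH) (Lpe (f126067 IH) (Lpe (f19175 IH) (Lpn (LP (LK LD1_c6 LD2_c57 LD3_c57))))))
theorem f154659 : Led Lsl_dt (LP (LK LD1_c6 LD2_c22 LD3_c52)) = (LP (LK LD1_c12 LD2_c19 LD3_c10)) :=
  Lre_d IH (LK LD1_c6 LD2_c22 LD3_c52) (LK LD1_c12 LD2_c19 LD3_c10) Lrfl Lrfl
theorem f90116 : Led Lsl_dt (LP (LK LD1_c1 LD2_c38 LD3_c38)) = (LP (LK LD1_c3 LD2_c24 LD3_c25)) :=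
  Lre_d IH (LK LD1_c1 LD2_c38 LD3_c38) (LK LD1_c3 LD2_c24 LD3_c25) Lrfl Lrfl
theorem f12644 : Led Lsl_dt (LP (LK LD1_c1 LD2_c42 LD3_c37)) = (LP (LK LD1_c0 LD2_c47 LD3_c54)) :=
  Lre_d IH (LK LD1_c1 LD2_c42 LD3_c37) (LK LD1_c0 LD2_c47 LD3_c54) Lrfl Lrfl
theorem f64372 : Led Lsl_ct (LP (LK LD1_c3 LD2_c31 LD3_c55)) = (LP (LK LD1_c1 LD2_c42 LD3_c37)) :=
  Lre_c IH (LK LD1_c3 LD2_c31 LD3_c55) (LK LD1_c1 LD2_c42 LD3_c37) Lrfl Lrfl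
theorem f64369 : Led Lsl_dt (LP (LK LD1_c7 LD2_c5 LD3_c19)) = (LP (LK LD1_c3 LD2_c31 LD3_c55)) :=
  Lre_d IH (LK LD1_c7 LD2_c5 LD3_c19) (LK LD1_c3 LD2_c31 LD3_c55) Lrfl Lrfl
theorem f154665 : Led Lsl_ct (LP (LK LD1_c12 LD2_c19 LD3_c10)) = (LP (LK LD1_c7 LD2_c5 LD3_c19)) :=
  Lgr Lrot41 (Lpe (f154659 IH) (Lpr_cf (f154649 IH) (Lpe (f90116 IH) (Lpe (K5.f126065 IH) (Lpr_at (K5.f126069 IH) (Lpe (K4.f12633 IH) (Lpe (f12644 IH) (Lpe (f64372 IH) (Lpe (f64369 IH) (Lpn (LP (LK LD1_c7 LD2_c5 LD3_c19))))))))))))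
theorem f83458 : Led Lsl_dt (LP (LK LD1_c1 LD2_c42 LD3_c36)) = (LP (LK LD1_c3 LD2_c31 LD3_c54)) :=
  Lre_d IH (LK LD1_c1 LD2_c42 LD3_c36) (LK LD1_c3 LD2_c31 LD3_c54) Lrfl Lrfl
theorem f67170 : Led Lsl_gt (LP (LK LD1_c3 LD2_c9 LD3_c7)) = (LP (LK LD1_c6 LD2_c22 LD3_c51)) :=
  Lre_g IH (LK LD1_c3 LD2_c9 LD3_c7) (LK LD1_c6 LD2_c22 LD3_c51) Lrfl Lrfl
theorem f154694 : Led Lsl_af (LP (LK LD1_c6 LD2_c22 LD3_c51)) = (LP (LK LD1_c6 LD2_c57 LD3_c57)) :=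
  Lgr Lrot31 (Lpe (f67170 IH) (Lpe (f154648 IH) (Lpr_ft (f154663 IH) (Lpn (LP (LK LD1_c6 LD2_c57 LD3_c57))))))
theorem f154696 : Led Lsl_ct (LP (LK LD1_c3 LD2_c31 LD3_c54)) = (LP (LK LD1_c6 LD2_c22 LD3_c51)) :=
  Lgr Lrot98 (Lpe (f83458 IH) (Lpe (K4.f12633 IH) (Lpe (f12644 IH) (Lpe (f64372 IH) (Lpe (f64369 IH) (Lpe (f154665 IH) (Lpe (f154659 IH) (Lpr_ft (f154663 IH) (Lpe (f154694 IH) (Lpn (LP (LK LD1_c6 LD2_c22 LD3_c51))))))))))))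
theorem f91600 : Led Lsl_dt (LP (LK LD1_c1 LD2_c38 LD3_c39)) = (LP (LK LD1_c0 LD2_c45 LD3_c44)) :=
  Lre_d IH (LK LD1_c1 LD2_c38 LD3_c39) (LK LD1_c0 LD2_c45 LD3_c44) Lrfl Lrfl
theorem f91593 : Led Lsl_ct (LP (LK LD1_c3 LD2_c24 LD3_c26)) = (LP (LK LD1_c1 LD2_c38 LD3_c39)) :=
  Lre_c IH (LK LD1_c3 LD2_c24 LD3_c26) (LK LD1_c1 LD2_c38 LD3_c39) Lrfl Lrfl
theorem f91616 : Led Lsl_dt (LP (LK LD1_c6 LD2_c51 LD3_c31)) = (LP (LK LD1_c3 LD2_c24 LD3_c26)) :=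
  Lre_d IH (LK LD1_c6 LD2_c51 LD3_c31) (LK LD1_c3 LD2_c24 LD3_c26) Lrfl Lrfl
theorem f154703 : Led Lsl_dt (LP (LK LD1_c6 LD2_c22 LD3_c51)) = (LP (LK LD1_c12 LD2_c19 LD3_c8)) :=
  Lre_d IH (LK LD1_c6 LD2_c22 LD3_c51) (LK LD1_c12 LD2_c19 LD3_c8) Lrfl Lrfl
theorem f154704 : Led Lsl_cf (LP (LK LD1_c6 LD2_c51 LD3_c31)) = (LP (LK LD1_c12 LD2_c19 LD3_c8)) :=
  Lgr Lrot55 (Lpr_dt (f91616 IH) (Lpr_ct (f91593 IH) (Lpr_dt (f91600 IH) (Lpr_ct (K2.f92040 IH) (Lpr_dt (f90116 IH) (Lpe (f154649 IH) (Lpr_dt (f154659 IH) (Lpr_ct (f154665 IH) (Lpr_dt (f64369 IH) (Lpr_ct (f64372 IH) (Lpr_dt (f12644 IH) (Lpr_ct (K4.f12633 IH) (Lpr_dt (f83458 IH) (Lpr_ct (f154696 IH) (Lpr_dt (f154703 IH) (Lpn (LP (LK LD1_c12 LD2_c19 LD3_c8))))))))))))))))))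
theorem f154748 : Led Lsl_ct (LP (LK LD1_c6 LD2_c51 LD3_c31)) = (LP (LK LD1_c12 LD2_c19 LD3_c8)) :=
  Lgr Lrot59 (Lpr_cf (f154704 IH) (Lpn (LP (LK LD1_c12 LD2_c19 LD3_c8))))
theorem f124282 : Led Lsl_dt (LP (LK LD1_c3 LD2_c42 LD3_c29)) = (LP (LK LD1_c7 LD2_c25 LD3_c38)) :=
  Lre_d IH (LK LD1_c3 LD2_c42 LD3_c29) (LK LD1_c7 LD2_c25 LD3_c38) Lrfl Lrfl
theorem f19347 : Led Lsl_dt (LP (LK LD1_c0 LD2_c45 LD3_c44)) = (LP (LK LD1_c1 LD2_c38 LD3_c39)) :=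
  Lre_d IH (LK LD1_c0 LD2_c45 LD3_c44) (LK LD1_c1 LD2_c38 LD3_c39) Lrfl Lrfl
theorem f124283 : Led Lsl_gt (LP (LK LD1_c7 LD2_c25 LD3_c38)) = (LP (LK LD1_c6 LD2_c51 LD3_c31)) :=
  Lgr Lrot49 (Lpe (f124282 IH) (Lpr_gf (K5.f124269 IH) (Lpe (K5.f19333 IH) (Lpr_gt (K3.f19331 IH) (Lpr_dt (K1.f9822 IH) (Lpe (K2.f92036 IH) (Lpr_dt (f19347 IH) (Lpe (f91593 IH) (Lpe (f91616 IH) (Lpn (LP (LK LD1_c6 LD2_c51 LD3_c31))))))))))))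
theorem f124268 : Led Lsl_dt (LP (LK LD1_c7 LD2_c25 LD3_c38)) = (LP (LK LD1_c3 LD2_c42 LD3_c29)) :=
  Lre_d IH (LK LD1_c7 LD2_c25 LD3_c38) (LK LD1_c3 LD2_c42 LD3_c29) Lrfl Lrfl
theorem f19254 : Led Lsl_dt (LP (LK LD1_c1 LD2_c42 LD3_c39)) = (LP (LK LD1_c3 LD2_c31 LD3_c59)) :=
  Lre_d IH (LK LD1_c1 LD2_c42 LD3_c39) (LK LD1_c3 LD2_c31 LD3_c59) Lrfl Lrfl
theorem f19184 : Led Lsl_ct (LP (LK LD1_c7 LD2_c5 LD3_c25)) = (LP (LK LD1_c3 LD2_c31 LD3_c59)) :=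
  Lre_c IH (LK LD1_c7 LD2_c5 LD3_c25) (LK LD1_c3 LD2_c31 LD3_c59) Lrfl Lrfl
theorem f154790 : Led Lsl_gf (LP (LK LD1_c7 LD2_c5 LD3_c25)) = (LP (LK LD1_c12 LD2_c19 LD3_c8)) :=
  Lgr Lrot104 (Lpr_ct (f19184 IH) (Lpe (f19254 IH) (Lpe (K3.f11505 IH) (Lpr_gf (K2.f64365 IH) (Lpe (K5.f64370 IH) (Lpe (K5.f124280 IH) (Lpe (f124268 IH) (Lpr_gt (f124283 IH) (Lpr_ct (f154748 IH) (Lpn (LP (LK LD1_c12 LD2_c19 LD3_c8))))))))))))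
theorem f18134 : Led Lsl_dt (LP (LK LD1_c0 LD2_c47 LD3_c55)) = (LP (LK LD1_c0 LD2_c21 LD3_c27)) :=
  Lre_d IH (LK LD1_c0 LD2_c47 LD3_c55) (LK LD1_c0 LD2_c21 LD3_c27) Lrfl Lrfl
theorem f11501 : Led Lsl_ct (LP (LK LD1_c1 LD2_c42 LD3_c39)) = (LP (LK LD1_c0 LD2_c47 LD3_c55)) :=
  Lre_c IH (LK LD1_c1 LD2_c42 LD3_c39) (LK LD1_c0 LD2_c47 LD3_c55) Lrfl Lrfl
theorem f11502 : Led Lsl_dt (LP (LK LD1_c3 LD2_c31 LD3_c59)) = (LP (LK LD1_c1 LD2_c42 LD3_c39)) :=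
  Lre_d IH (LK LD1_c3 LD2_c31 LD3_c59) (LK LD1_c1 LD2_c42 LD3_c39) Lrfl Lrfl
theorem f83478 : Led Lsl_ct (LP (LK LD1_c3 LD2_c9 LD3_c14)) = (LP (LK LD1_c6 LD2_c23 LD3_c8)) :=
  Lre_c IH (LK LD1_c3 LD2_c9 LD3_c14) (LK LD1_c6 LD2_c23 LD3_c8) Lrfl Lrfl
theorem f83602 : Led Lsl_df (LP (LK LD1_c7 LD2_c5 LD3_c25)) = (LP (LK LD1_c6 LD2_c23 LD3_c8)) :=
  Lgr Lrot43 (Lpr_ct (f19184 IH) (Lpr_dt (f11502 IH) (Lpr_ct (f11501 IH) (Lpr_dt (f18134 IH) (Lpr_ct (K3.f68104 IH) (Lpr_dt (K2.f68110 IH) (Lpr_ct (K2.f68111 IH) (Lpr_dt (K2.f68112 IH) (Lpe (K2.f68113 IH) (Lpr_dt (K2.f9838 IH) (Lpr_ct (K2.f9834 IH) (Lpr_dt (K1.f9822 IH) (Lpr_ct (K1.f9821 IH) (Lpr_dt (K2.f83497 IH) (Lpr_ct (f83478 IH) (Lpn (LP (LK LD1_c6 LD2_c23 LD3_c8))))))))))))))))))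
theorem f83608 : Led Lsl_dt (LP (LK LD1_c7 LD2_c5 LD3_c25)) = (LP (LK LD1_c6 LD2_c23 LD3_c8)) :=
  Lgr Lrot42 (Lpr_df (f83602 IH) (Lpn (LP (LK LD1_c6 LD2_c23 LD3_c8))))
theorem f83494 : Led Lsl_ct (LP (LK LD1_c6 LD2_c23 LD3_c8)) = (LP (LK LD1_c3 LD2_c9 LD3_c14)) :=
  Lre_c IH (LK LD1_c6 LD2_c23 LD3_c8) (LK LD1_c3 LD2_c9 LD3_c14) Lrfl Lrfl
theorem f154796 : Led Lsl_gt (LP (LK LD1_c1 LD2_c30 LD3_c44)) = (LP (LK LD1_c3 LD2_c9 LD3_c6)) :=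
  Lre_g IH (LK LD1_c1 LD2_c30 LD3_c44) (LK LD1_c3 LD2_c9 LD3_c6) Lrfl Lrfl
theorem f154797 : Led Lsl_df (LP (LK LD1_c1 LD2_c32 LD3_c10)) = (LP (LK LD1_c3 LD2_c9 LD3_c6)) :=
  Lgr Lrot153 (Lpe (K2.f68108 IH) (Lpr_dt (K2.f83497 IH) (Lpe (f83494 IH) (Lpe (f83608 IH) (Lpr_gf (f154790 IH) (Lpe (f154703 IH) (Lpe (f67170 IH) (Lpe (f67169 IH) (Lpr_gt (f154796 IH) (Lpn (LP (LK LD1_c3 LD2_c9 LD3_c6))))))))))))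
theorem f7330 : Led Lsl_dt (LP (LK LD1_c1 LD2_c38 LD3_c15)) = (LP (LK LD1_c3 LD2_c23 LD3_c58)) :=
  Lre_d IH (LK LD1_c1 LD2_c38 LD3_c15) (LK LD1_c3 LD2_c23 LD3_c58) Lrfl Lrfl
theorem f154811 : Led Lsl_ft (LP (LK LD1_c3 LD2_c23 LD3_c58)) = (LP (LK LD1_c3 LD2_c9 LD3_c6)) :=
  Lgr Lrot54 (Lpe (f7330 IH) (Lpe (K4.f94036 IH) (Lpr_df (f154797 IH) (Lpn (LP (LK LD1_c3 LD2_c9 LD3_c6))))))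
theorem f83932 : Led Lsl_ct (LP (LK LD1_c6 LD2_c50 LD3_c57)) = (LP (LK LD1_c3 LD2_c23 LD3_c58)) :=
  Lre_c IH (LK LD1_c6 LD2_c50 LD3_c57) (LK LD1_c3 LD2_c23 LD3_c58) Lrfl Lrfl
theorem f154821 : Led Lsl_ct (LP (LK LD1_c3 LD2_c9 LD3_c6)) = (LP (LK LD1_c6 LD2_c22 LD3_c49)) :=
  Lre_c IH (LK LD1_c3 LD2_c9 LD3_c6) (LK LD1_c6 LD2_c22 LD3_c49) Lrfl Lrfl
theorem f154822 : Led Lsl_ff (LP (LK LD1_c6 LD2_c50 LD3_c57)) = (LP (LK LD1_c6 LD2_c22 LD3_c49)) :=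
  Lgr Lrot23 (Lpr_ct (f83932 IH) (Lpr_ft (f154811 IH) (Lpr_ct (f154821 IH) (Lpn (LP (LK LD1_c6 LD2_c22 LD3_c49))))))
theorem f88758 : Led Lsl_bt (LP (LK LD1_c3 LD2_c53 LD3_c35)) = (LP (LK LD1_c1 LD2_c53 LD3_c25)) :=
  Lre_b IH (LK LD1_c3 LD2_c53 LD3_c35) (LK LD1_c1 LD2_c53 LD3_c25) Lrfl Lrfl
theorem f90216 : Led Lsl_at (LP (LK LD1_c3 LD2_c23 LD3_c58)) = (LP (LK LD1_c3 LD2_c6 LD3_c51)) :=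
  Lgr Lrot51 (Lpe (f7330 IH) (Lpr_af (K2.f90212 IH) (Lpe (K6.f83815 IH) (Lpn (LP (LK LD1_c3 LD2_c6 LD3_c51))))))
theorem f90352 : Led Lsl_bt (LP (LK LD1_c1 LD2_c41 LD3_c13)) = (LP (LK LD1_c3 LD2_c23 LD3_c58)) :=
  Lgr Lrot62 (Lpe (K3.f88701 IH) (Lpe (f88758 IH) (Lpr_af (K3.f90348 IH) (Lpe (K3.f83816 IH) (Lpe (f90216 IH) (Lpn (LP (LK LD1_c3 LD2_c23 LD3_c58))))))))
theorem f88754 : Led Lsl_bt (LP (LK LD1_c6 LD2_c59 LD3_c30)) = (LP (LK LD1_c3 LD2_c28 LD3_c58)) :=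
  Lre_b IH (LK LD1_c6 LD2_c59 LD3_c30) (LK LD1_c3 LD2_c28 LD3_c58) Lrfl Lrfl
theorem f7331 : Led Lsl_ct (LP (LK LD1_c3 LD2_c23 LD3_c58)) = (LP (LK LD1_c6 LD2_c50 LD3_c57)) :=
  Lre_c IH (LK LD1_c3 LD2_c23 LD3_c58) (LK LD1_c6 LD2_c50 LD3_c57) Lrfl Lrfl
theorem f7332 : Led Lsl_bt (LP (LK LD1_c6 LD2_c50 LD3_c57)) = (LP (LK LD1_c13 LD2_c2 LD3_c5)) :=
  Lre_b IH (LK LD1_c6 LD2_c50 LD3_c57) (LK LD1_c13 LD2_c2 LD3_c5) Lrfl Lrfl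
theorem f90510 : Led Lsl_cf (LP (LK LD1_c6 LD2_c59 LD3_c30)) = (LP (LK LD1_c13 LD2_c2 LD3_c5)) :=
  Lgr Lrot97 (Lpr_bt (f88754 IH) (Lpr_ct (K3.f84998 IH) (Lpr_bt (f90352 IH) (Lpr_ct (f7331 IH) (Lpr_bt (f7332 IH) (Lpn (LP (LK LD1_c13 LD2_c2 LD3_c5))))))))
theorem f66612 : Led Lsl_et (LP (LK LD1_c6 LD2_c59 LD3_c30)) = (LP (LK LD1_c13 LD2_c15 LD3_c57)) :=
  Lre_e IH (LK LD1_c6 LD2_c59 LD3_c30) (LK LD1_c13 LD2_c15 LD3_c57) Lrfl Lrfl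
theorem f66598 : Led Lsl_ct (LP (LK LD1_c3 LD2_c28 LD3_c56)) = (LP (LK LD1_c6 LD2_c59 LD3_c28)) :=
  Lre_c IH (LK LD1_c3 LD2_c28 LD3_c56) (LK LD1_c6 LD2_c59 LD3_c28) Lrfl Lrfl
theorem f66599 : Led Lsl_bt (LP (LK LD1_c6 LD2_c59 LD3_c28)) = (LP (LK LD1_c13 LD2_c15 LD3_c57)) :=
  Lre_b IH (LK LD1_c6 LD2_c59 LD3_c28) (LK LD1_c13 LD2_c15 LD3_c57) Lrfl Lrfl
theorem f66600 : Led Lsl_ct (LP (LK LD1_c13 LD2_c0 LD3_c56)) = (LP (LK LD1_c6 LD2_c49 LD3_c35)) :=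
  Lre_c IH (LK LD1_c13 LD2_c0 LD3_c56) (LK LD1_c6 LD2_c49 LD3_c35) Lrfl Lrfl
theorem f66601 : Led Lsl_bt (LP (LK LD1_c22 LD2_c11 LD3_c7)) = (LP (LK LD1_c13 LD2_c0 LD3_c56)) :=
  Lre_b IH (LK LD1_c22 LD2_c11 LD3_c7) (LK LD1_c13 LD2_c0 LD3_c56) Lrfl Lrfl
theorem f66602 : Led Lsl_ct (LP (LK LD1_c13 LD2_c15 LD3_c57)) = (LP (LK LD1_c22 LD2_c11 LD3_c7)) :=
  Lgr Lrot83 (Lpe (f66599 IH) (Lpe (f66598 IH) (Lpr_bf (K3.f66593 IH) (Lpe (f66600 IH) (Lpe (f66601 IH) (Lpn (LP (LK LD1_c22 LD2_c11 LD3_c7))))))))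
theorem f90517 : Led Lsl_et (LP (LK LD1_c22 LD2_c11 LD3_c7)) = (LP (LK LD1_c13 LD2_c2 LD3_c5)) :=
  Lgr Lrot158 (Lpe (f66602 IH) (Lpe (f66612 IH) (Lpr_cf (f90510 IH) (Lpn (LP (LK LD1_c13 LD2_c2 LD3_c5))))))
theorem f90525 : Led Lsl_ef (LP (LK LD1_c22 LD2_c11 LD3_c7)) = (LP (LK LD1_c13 LD2_c2 LD3_c5)) :=
  Lgr Lrot88 (Lpr_et (f90517 IH) (Lpn (LP (LK LD1_c13 LD2_c2 LD3_c5))))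
theorem f90528 : Led Lsl_et (LP (LK LD1_c13 LD2_c0 LD3_c56)) = (LP (LK LD1_c6 LD2_c50 LD3_c57)) :=
  Lgr Lrot74 (Lpe (f66601 IH) (Lpr_ef (f90525 IH) (Lpe (f7332 IH) (Lpn (LP (LK LD1_c6 LD2_c50 LD3_c57))))))
theorem f66607 : Led Lsl_ct (LP (LK LD1_c6 LD2_c49 LD3_c35)) = (LP (LK LD1_c13 LD2_c0 LD3_c56)) :=
  Lre_c IH (LK LD1_c6 LD2_c49 LD3_c35) (LK LD1_c13 LD2_c0 LD3_c56) Lrfl Lrfl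
theorem f83821 : Led Lsl_ct (LP (LK LD1_c6 LD2_c50 LD3_c12)) = (LP (LK LD1_c3 LD2_c23 LD3_c26)) :=
  Lre_c IH (LK LD1_c6 LD2_c50 LD3_c12) (LK LD1_c3 LD2_c23 LD3_c26) Lrfl Lrfl
theorem f90324 : Led Lsl_at (LP (LK LD1_c13 LD2_c0 LD3_c56)) = (LP (LK LD1_c6 LD2_c50 LD3_c12)) :=
  Lgr Lrot107 (Lpe (f66607 IH) (Lpr_af (K3.f90317 IH) (Lpe (f83821 IH) (Lpn (LP (LK LD1_c6 LD2_c50 LD3_c12))))))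
theorem f90330 : Led Lsl_af (LP (LK LD1_c13 LD2_c0 LD3_c56)) = (LP (LK LD1_c6 LD2_c50 LD3_c12)) :=
  Lgr Lrot0 (Lpr_at (f90324 IH) (Lpn (LP (LK LD1_c6 LD2_c50 LD3_c12))))
theorem f83822 : Led Lsl_et (LP (LK LD1_c6 LD2_c18 LD3_c61)) = (LP (LK LD1_c6 LD2_c50 LD3_c12)) :=
  Lgr Lrot158 (Lpe (K6.f83820 IH) (Lpr_ef (K3.f83812 IH) (Lpe (f83821 IH) (Lpn (LP (LK LD1_c6 LD2_c50 LD3_c12))))))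
theorem f90530 : Led Lsl_af (LP (LK LD1_c6 LD2_c18 LD3_c61)) = (LP (LK LD1_c6 LD2_c50 LD3_c57)) :=
  Lgr Lrot50 (Lpr_et (f83822 IH) (Lpe (f90330 IH) (Lpr_et (f90528 IH) (Lpn (LP (LK LD1_c6 LD2_c50 LD3_c57))))))
theorem f83911 : Led Lsl_gt (LP (LK LD1_c12 LD2_c13 LD3_c49)) = (LP (LK LD1_c6 LD2_c18 LD3_c61)) :=
  Lre_g IH (LK LD1_c12 LD2_c13 LD3_c49) (LK LD1_c6 LD2_c18 LD3_c61) Lrfl Lrfl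
theorem f154892 : Led Lsl_gf (LP (LK LD1_c12 LD2_c13 LD3_c49)) = (LP (LK LD1_c6 LD2_c22 LD3_c49)) :=
  Lgr Lrot47 (Lpr_gt (f83911 IH) (Lpr_af (f90530 IH) (Lpr_ff (f154822 IH) (Lpn (LP (LK LD1_c6 LD2_c22 LD3_c49))))))
theorem f153272 : Led Lsl_gf (LP (LK LD1_c3 LD2_c22 LD3_c14)) = (LP (LK LD1_c3 LD2_c42 LD3_c47)) :=
  Lgr Lrot147 (Lpr_ct (f153264 IH) (Lpr_gt (f153265 IH) (Lpr_ct (f114182 IH) (Lpe (K5.f12437 IH) (Lpr_cf (K5.f114179 IH) (Lpr_gf (K4.f105940 IH) (Lpe (K5.f86734 IH) (Lpe (K5.f124264 IH) (Lpe (K6.f126889 IH) (Lpn (LP (LK LD1_c3 LD2_c42 LD3_c47))))))))))))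
theorem f84614 : Led Lsl_bt (LP (LK LD1_c6 LD2_c48 LD3_c4)) = (LP (LK LD1_c3 LD2_c22 LD3_c14)) :=
  Lre_b IH (LK LD1_c6 LD2_c48 LD3_c4) (LK LD1_c3 LD2_c22 LD3_c14) Lrfl Lrfl
theorem f126855 : Led Lsl_bf (LP (LK LD1_c3 LD2_c14 LD3_c46)) = (LP (LK LD1_c3 LD2_c42 LD3_c47)) :=
  Lgr Lrot93 (Lpr_dt (K5.f24361 IH) (Lpr_bt (K5.f126842 IH) (Lpr_dt (K6.f126854 IH) (Lpn (LP (LK LD1_c3 LD2_c42 LD3_c47))))))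
theorem f126859 : Led Lsl_bt (LP (LK LD1_c3 LD2_c14 LD3_c46)) = (LP (LK LD1_c3 LD2_c42 LD3_c47)) :=
  Lgr Lrot127 (Lpr_bf (f126855 IH) (Lpn (LP (LK LD1_c3 LD2_c42 LD3_c47))))
theorem f88768 : Led Lsl_ft (LP (LK LD1_c1 LD2_c41 LD3_c0)) = (LP (LK LD1_c3 LD2_c28 LD3_c38)) :=
  Lre_f IH (LK LD1_c1 LD2_c41 LD3_c0) (LK LD1_c3 LD2_c28 LD3_c38) Lrfl Lrfl
theorem f134393 : Led Lsl_gt (LP (LK LD1_c1 LD2_c30 LD3_c11)) = (LP (LK LD1_c3 LD2_c7 LD3_c60)) :=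
  Lre_g IH (LK LD1_c1 LD2_c30 LD3_c11) (LK LD1_c3 LD2_c7 LD3_c60) Lrfl Lrfl
theorem f145646 : Led Lsl_at (LP (LK LD1_c3 LD2_c28 LD3_c38)) = (LP (LK LD1_c3 LD2_c7 LD3_c60)) :=
  Lgr Lrot26 (Lpe (f88768 IH) (Lpr_gt (K6.f145642 IH) (Lpr_gt (f134393 IH) (Lpn (LP (LK LD1_c3 LD2_c7 LD3_c60))))))
theorem f90377 : Led Lsl_af (LP (LK LD1_c1 LD2_c41 LD3_c0)) = (LP (LK LD1_c3 LD2_c28 LD3_c27)) :=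
  Lgr Lrot0 (Lpr_at (K3.f90371 IH) (Lpn (LP (LK LD1_c3 LD2_c28 LD3_c27))))
theorem f145675 : Led Lsl_ff (LP (LK LD1_c3 LD2_c28 LD3_c27)) = (LP (LK LD1_c3 LD2_c7 LD3_c60)) :=
  Lgr Lrot30 (Lpe (f90377 IH) (Lpr_ft (f88768 IH) (Lpr_at (f145646 IH) (Lpn (LP (LK LD1_c3 LD2_c7 LD3_c60))))))
theorem f145685 : Led Lsl_gf (LP (LK LD1_c3 LD2_c28 LD3_c36)) = (LP (LK LD1_c3 LD2_c7 LD3_c60)) :=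
  Lgr Lrot47 (Lpr_gt (K6.f62327 IH) (Lpr_af (f90377 IH) (Lpr_ff (f145675 IH) (Lpn (LP (LK LD1_c3 LD2_c7 LD3_c60))))))
theorem f134119 : Led Lsl_ff (LP (LK LD1_c6 LD2_c27 LD3_c33)) = (LP (LK LD1_c6 LD2_c19 LD3_c14)) :=
  Lgr Lrot52 (Lpe (K3.f90382 IH) (Lpr_gf (K6.f133813 IH) (Lpr_gf (K6.f134117 IH) (Lpn (LP (LK LD1_c6 LD2_c19 LD3_c14))))))
theorem f134350 : Led Lsl_ft (LP (LK LD1_c6 LD2_c27 LD3_c33)) = (LP (LK LD1_c6 LD2_c19 LD3_c14)) :=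
  Lgr Lrot48 (Lpr_ff (f134119 IH) (Lpn (LP (LK LD1_c6 LD2_c19 LD3_c14))))
theorem f145679 : Led Lsl_dt (LP (LK LD1_c6 LD2_c19 LD3_c14)) = (LP (LK LD1_c3 LD2_c7 LD3_c60)) :=
  Lgr Lrot60 (Lpe (f134350 IH) (Lpr_df (K3.f76777 IH) (Lpr_ff (f145675 IH) (Lpn (LP (LK LD1_c3 LD2_c7 LD3_c60))))))
theorem f126921 : Led Lsl_dt (LP (LK LD1_c3 LD2_c22 LD3_c23)) = (LP (LK LD1_c6 LD2_c48 LD3_c30)) :=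
  Lre_d IH (LK LD1_c3 LD2_c22 LD3_c23) (LK LD1_c6 LD2_c48 LD3_c30) Lrfl Lrfl
theorem f145752 : Led Lsl_dt (LP (LK LD1_c12 LD2_c0 LD3_c21)) = (LP (LK LD1_c6 LD2_c9 LD3_c41)) :=
  Lre_d IH (LK LD1_c12 LD2_c0 LD3_c21) (LK LD1_c6 LD2_c9 LD3_c41) Lrfl Lrfl
theorem f145755 : Led Lsl_gt (LP (LK LD1_c6 LD2_c48 LD3_c30)) = (LP (LK LD1_c12 LD2_c0 LD3_c21)) :=
  Lgr Lrot49 (Lpe (f126921 IH) (Lpr_gf (K5.f126919 IH) (Lpe (K5.f62615 IH) (Lpr_gt (K6.f25044 IH) (Lpr_dt (f145679 IH) (Lpe (f145685 IH) (Lpr_dt (K6.f145711 IH) (Lpr_cf (K6.f145747 IH) (Lpe (f145752 IH) (Lpn (LP (LK LD1_c12 LD2_c0 LD3_c21))))))))))))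
theorem f145772 : Led Lsl_gf (LP (LK LD1_c6 LD2_c32 LD3_c61)) = (LP (LK LD1_c6 LD2_c9 LD3_c41)) :=
  Lgr Lrot143 (Lpr_dt (K5.f126741 IH) (Lpe (K5.f126738 IH) (Lpe (K5.f62400 IH) (Lpe (K6.f62407 IH) (Lpe (K6.f126759 IH) (Lpe (K6.f145648 IH) (Lpe (K6.f126922 IH) (Lpr_gt (f145755 IH) (Lpr_dt (f145752 IH) (Lpn (LP (LK LD1_c6 LD2_c9 LD3_c41))))))))))))
theorem f145750 : Led Lsl_ct (LP (LK LD1_c6 LD2_c59 LD3_c4)) = (LP (LK LD1_c6 LD2_c9 LD3_c41)) :=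
  Lgr Lrot59 (Lpr_cf (K6.f145747 IH) (Lpn (LP (LK LD1_c6 LD2_c9 LD3_c41))))
theorem f76788 : Led Lsl_ct (LP (LK LD1_c3 LD2_c28 LD3_c27)) = (LP (LK LD1_c1 LD2_c41 LD3_c0)) :=
  Lre_c IH (LK LD1_c3 LD2_c28 LD3_c27) (LK LD1_c1 LD2_c41 LD3_c0) Lrfl Lrfl
theorem f76759 : Led Lsl_bt (LP (LK LD1_c3 LD2_c28 LD3_c27)) = (LP (LK LD1_c1 LD2_c40 LD3_c54)) :=
  Lre_b IH (LK LD1_c3 LD2_c28 LD3_c27) (LK LD1_c1 LD2_c40 LD3_c54) Lrfl Lrfl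
theorem f76760 : Led Lsl_dt (LP (LK LD1_c6 LD2_c27 LD3_c33)) = (LP (LK LD1_c3 LD2_c28 LD3_c27)) :=
  Lgr Lrot79 (Lpe (K6.f76758 IH) (Lpr_df (K2.f76756 IH) (Lpe (f76759 IH) (Lpn (LP (LK LD1_c3 LD2_c28 LD3_c27))))))
theorem f134403 : Led Lsl_ct (LP (LK LD1_c9 LD2_c20 LD3_c55)) = (LP (LK LD1_c6 LD2_c27 LD3_c33)) :=
  Lgr Lrot59 (Lpr_cf (K6.f134353 IH) (Lpn (LP (LK LD1_c6 LD2_c27 LD3_c33))))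
theorem f133747 : Led Lsl_dt (LP (LK LD1_c17 LD2_c16 LD3_c54)) = (LP (LK LD1_c9 LD2_c20 LD3_c55)) :=
  Lre_d IH (LK LD1_c17 LD2_c16 LD3_c54) (LK LD1_c9 LD2_c20 LD3_c55) Lrfl Lrfl
theorem f134130 : Led Lsl_cf (LP (LK LD1_c6 LD2_c19 LD3_c14)) = (LP (LK LD1_c6 LD2_c33 LD3_c4)) :=
  Lgr Lrot166 (Lpe (K6.f134117 IH) (Lpr_dt (K6.f23545 IH) (Lpe (K5.f125320 IH) (Lpr_dt (K6.f88769 IH) (Lpr_ct (K6.f90205 IH) (Lpr_df (K6.f134122 IH) (Lpe (K6.f134121 IH) (Lpe (K6.f24372 IH) (Lpe (K6.f24375 IH) (Lpn (LP (LK LD1_c6 LD2_c33 LD3_c4))))))))))))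
theorem f134405 : Led Lsl_ft (LP (LK LD1_c9 LD2_c20 LD3_c55)) = (LP (LK LD1_c6 LD2_c33 LD3_c4)) :=
  Lgr Lrot4 (Lpr_cf (K6.f134353 IH) (Lpr_ff (f134119 IH) (Lpr_cf (f134130 IH) (Lpn (LP (LK LD1_c6 LD2_c33 LD3_c4))))))
theorem f134415 : Led Lsl_ff (LP (LK LD1_c9 LD2_c20 LD3_c55)) = (LP (LK LD1_c6 LD2_c33 LD3_c4)) :=
  Lgr Lrot3 (Lpr_ft (f134405 IH) (Lpn (LP (LK LD1_c6 LD2_c33 LD3_c4))))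
theorem f134398 : Led Lsl_at (LP (LK LD1_c9 LD2_c20 LD3_c55)) = (LP (LK LD1_c6 LD2_c33 LD3_c3)) :=
  Lgr Lrot107 (Lpr_cf (K6.f134353 IH) (Lpe (K3.f90384 IH) (Lpr_cf (K6.f133807 IH) (Lpn (LP (LK LD1_c6 LD2_c33 LD3_c3))))))
theorem f134412 : Led Lsl_dt (LP (LK LD1_c6 LD2_c33 LD3_c4)) = (LP (LK LD1_c12 LD2_c33 LD3_c26)) :=
  Lre_d IH (LK LD1_c6 LD2_c33 LD3_c4) (LK LD1_c12 LD2_c33 LD3_c26) Lrfl Lrfl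
theorem f134421 : Led Lsl_cf (LP (LK LD1_c17 LD2_c16 LD3_c54)) = (LP (LK LD1_c12 LD2_c33 LD3_c26)) :=
  Lgr Lrot118 (Lpr_dt (f133747 IH) (Lpr_ct (f134403 IH) (Lpr_dt (f76760 IH) (Lpr_ct (f76788 IH) (Lpr_dt (K5.f25035 IH) (Lpr_ct (K5.f133799 IH) (Lpe (f134398 IH) (Lpr_ff (f134415 IH) (Lpr_dt (f134412 IH) (Lpn (LP (LK LD1_c12 LD2_c33 LD3_c26))))))))))))
theorem f145687 : Led Lsl_df (LP (LK LD1_c6 LD2_c19 LD3_c14)) = (LP (LK LD1_c3 LD2_c7 LD3_c60)) :=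
  Lgr Lrot157 (Lpr_ct (K6.f126626 IH) (Lpr_dt (f134412 IH) (Lpe (f134421 IH) (Lpr_dt (f133747 IH) (Lpr_ct (f134403 IH) (Lpr_dt (f76760 IH) (Lpr_ct (f76788 IH) (Lpr_af (f90377 IH) (Lpr_ff (f145675 IH) (Lpn (LP (LK LD1_c3 LD2_c7 LD3_c60))))))))))))
theorem f95303 : Led Lsl_bt (LP (LK LD1_c0 LD2_c51 LD3_c44)) = (LP (LK LD1_c0 LD2_c23 LD3_c26)) :=
  Lre_b IH (LK LD1_c0 LD2_c51 LD3_c44) (LK LD1_c0 LD2_c23 LD3_c26) Lrfl Lrfl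
theorem f95304 : Led Lsl_at (LP (LK LD1_c0 LD2_c45 LD3_c23)) = (LP (LK LD1_c0 LD2_c51 LD3_c44)) :=
  Lgr Lrot67 (Lpe (K5.f95302 IH) (Lpr_af (K2.f95298 IH) (Lpe (K2.f23348 IH) (Lpe (K1.f65234 IH) (Lpe (f95303 IH) (Lpn (LP (LK LD1_c0 LD2_c51 LD3_c44))))))))
theorem f104150 : Led Lsl_gt (LP (LK LD1_c1 LD2_c7 LD3_c11)) = (LP (LK LD1_c0 LD2_c51 LD3_c44)) :=
  Lgr Lrot46 (Lpr_gf (K3.f104148 IH) (Lpe (K2.f95312 IH) (Lpr_at (f95304 IH) (Lpn (LP (LK LD1_c0 LD2_c51 LD3_c44))))))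
theorem f104192 : Led Lsl_dt (LP (LK LD1_c0 LD2_c51 LD3_c44)) = (LP (LK LD1_c1 LD2_c49 LD3_c47)) :=
  Lre_d IH (LK LD1_c0 LD2_c51 LD3_c44) (LK LD1_c1 LD2_c49 LD3_c47) Lrfl Lrfl
theorem f145689 : Led Lsl_ef (LP (LK LD1_c3 LD2_c7 LD3_c1)) = (LP (LK LD1_c3 LD2_c7 LD3_c60)) :=
  Lgr Lrot17 (Lpe (K5.f62620 IH) (Lpe (K5.f62634 IH) (Lpr_dt (K4.f25032 IH) (Lpr_gf (K5.f116722 IH) (Lpe (f104192 IH) (Lpe (f104150 IH) (Lpe (K2.f23495 IH) (Lpr_dt (K2.f23509 IH) (Lpr_gf (K6.f134117 IH) (Lpr_df (f145687 IH) (Lpn (LP (LK LD1_c3 LD2_c7 LD3_c60)))))))))))))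
theorem f145683 : Led Lsl_ft (LP (LK LD1_c3 LD2_c28 LD3_c27)) = (LP (LK LD1_c3 LD2_c7 LD3_c60)) :=
  Lgr Lrot48 (Lpr_ff (f145675 IH) (Lpn (LP (LK LD1_c3 LD2_c7 LD3_c60))))
theorem f76786 : Led Lsl_et (LP (LK LD1_c1 LD2_c40 LD3_c53)) = (LP (LK LD1_c3 LD2_c28 LD3_c27)) :=
  Lre_e IH (LK LD1_c1 LD2_c40 LD3_c53) (LK LD1_c3 LD2_c28 LD3_c27) Lrfl Lrfl
theorem f145693 : Led Lsl_ft (LP (LK LD1_c3 LD2_c7 LD3_c1)) = (LP (LK LD1_c3 LD2_c6 LD3_c50)) :=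
  Lgr Lrot86 (Lpr_ef (f145689 IH) (Lpe (f145683 IH) (Lpe (f76786 IH) (Lpr_ff (K2.f90188 IH) (Lpe (K2.f83912 IH) (Lpn (LP (LK LD1_c3 LD2_c6 LD3_c50))))))))
theorem f145697 : Led Lsl_ff (LP (LK LD1_c6 LD2_c19 LD3_c13)) = (LP (LK LD1_c6 LD2_c18 LD3_c60)) :=
  Lgr Lrot19 (Lpr_dt (K6.f126625 IH) (Lpr_ft (f145693 IH) (Lpr_dt (K3.f83897 IH) (Lpn (LP (LK LD1_c6 LD2_c18 LD3_c60))))))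
theorem f145699 : Led Lsl_at (LP (LK LD1_c6 LD2_c19 LD3_c13)) = (LP (LK LD1_c6 LD2_c20 LD3_c53)) :=
  Lgr Lrot66 (Lpr_ff (f145697 IH) (Lpe (K6.f90350 IH) (Lpr_ff (K6.f145551 IH) (Lpn (LP (LK LD1_c6 LD2_c20 LD3_c53))))))
theorem f145725 : Led Lsl_gf (LP (LK LD1_c6 LD2_c59 LD3_c4)) = (LP (LK LD1_c6 LD2_c18 LD3_c60)) :=
  Lgr Lrot47 (Lpr_gt (K6.f145723 IH) (Lpe (f145699 IH) (Lpr_ff (f145697 IH) (Lpn (LP (LK LD1_c6 LD2_c18 LD3_c60))))))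
theorem f153280 : Led Lsl_ct (LP (LK LD1_c6 LD2_c48 LD3_c4)) = (LP (LK LD1_c12 LD2_c13 LD3_c49)) :=
  Lgr Lrot64 (Lpr_bt (f84614 IH) (Lpr_gf (f153272 IH) (Lpe (f126859 IH) (Lpr_ct (K5.f126740 IH) (Lpr_gf (f145772 IH) (Lpe (f145750 IH) (Lpr_gf (f145725 IH) (Lpe (K3.f83816 IH) (Lpr_ct (K6.f83820 IH) (Lpe (f83911 IH) (Lpn (LP (LK LD1_c12 LD2_c13 LD3_c49)))))))))))))
theorem f154814 : Led Lsl_bt (LP (LK LD1_c0 LD2_c41 LD3_c53)) = (LP (LK LD1_c1 LD2_c30 LD3_c44)) :=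
  Lre_b IH (LK LD1_c0 LD2_c41 LD3_c53) (LK LD1_c1 LD2_c30 LD3_c44) Lrfl Lrfl
theorem f67140 : Led Lsl_ct (LP (LK LD1_c0 LD2_c41 LD3_c53)) = (LP (LK LD1_c1 LD2_c30 LD3_c45)) :=
  Lre_c IH (LK LD1_c0 LD2_c41 LD3_c53) (LK LD1_c1 LD2_c30 LD3_c45) Lrfl Lrfl
theorem f154896 : Led Lsl_gt (LP (LK LD1_c1 LD2_c37 LD3_c24)) = (LP (LK LD1_c1 LD2_c30 LD3_c45)) :=
  Lgr Lrot65 (Lpe (K6.f84094 IH) (Lpr_bt (K5.f84097 IH) (Lpe (f84490 IH) (Lpe (f84614 IH) (Lpr_ct (f153280 IH) (Lpr_gf (f154892 IH) (Lpe (f154821 IH) (Lpe (f154796 IH) (Lpe (f154814 IH) (Lpr_ct (f67140 IH) (Lpn (LP (LK LD1_c1 LD2_c30 LD3_c45)))))))))))))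
theorem f67144 : Led Lsl_ct (LP (LK LD1_c1 LD2_c30 LD3_c45)) = (LP (LK LD1_c0 LD2_c41 LD3_c53)) :=
  Lre_c IH (LK LD1_c1 LD2_c30 LD3_c45) (LK LD1_c0 LD2_c41 LD3_c53) Lrfl Lrfl
theorem f154902 : Led Lsl_gf (LP (LK LD1_c0 LD2_c45 LD3_c3)) = (LP (LK LD1_c0 LD2_c48 LD3_c54)) :=
  Lgr Lrot147 (Lpr_ct (K6.f84094 IH) (Lpr_gt (f154896 IH) (Lpr_ct (f67144 IH) (Lpe (K1.f67139 IH) (Lpr_cf (K1.f67086 IH) (Lpe (K6.f145468 IH) (Lpr_cf (K2.f21035 IH) (Lpr_gf (f154117 IH) (Lpe (f10356 IH) (Lpn (LP (LK LD1_c0 LD2_c48 LD3_c54))))))))))))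
theorem f154904 : Led Lsl_bt (LP (LK LD1_c1 LD2_c44 LD3_c30)) = (LP (LK LD1_c0 LD2_c48 LD3_c54)) :=
  Lre_b IH (LK LD1_c1 LD2_c44 LD3_c30) (LK LD1_c0 LD2_c48 LD3_c54) Lrfl Lrfl
theorem f154905 : Led Lsl_ct (LP (LK LD1_c1 LD2_c44 LD3_c30)) = (LP (LK LD1_c3 LD2_c35 LD3_c19)) :=
  Lre_c IH (LK LD1_c1 LD2_c44 LD3_c30) (LK LD1_c3 LD2_c35 LD3_c19) Lrfl Lrfl
theorem f84320 : Led Lsl_dt (LP (LK LD1_c0 LD2_c53 LD3_c20)) = (LP (LK LD1_c1 LD2_c53 LD3_c26)) :=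
  Lre_d IH (LK LD1_c0 LD2_c53 LD3_c20) (LK LD1_c1 LD2_c53 LD3_c26) Lrfl Lrfl
theorem f154804 : Led Lsl_bt (LP (LK LD1_c1 LD2_c53 LD3_c26)) = (LP (LK LD1_c3 LD2_c9 LD3_c6)) :=
  Lgr Lrot95 (Lpe (f84320 IH) (Lpr_bf (K3.f84297 IH) (Lpr_df (f154797 IH) (Lpn (LP (LK LD1_c3 LD2_c9 LD3_c6))))))
theorem f84617 : Led Lsl_ct (LP (LK LD1_c1 LD2_c53 LD3_c26)) = (LP (LK LD1_c3 LD2_c53 LD3_c38)) :=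
  Lre_c IH (LK LD1_c1 LD2_c53 LD3_c26) (LK LD1_c3 LD2_c53 LD3_c38) Lrfl Lrfl
theorem f154906 : Led Lsl_gf (LP (LK LD1_c3 LD2_c35 LD3_c19)) = (LP (LK LD1_c3 LD2_c53 LD3_c38)) :=
  Lgr Lrot126 (Lpe (f154905 IH) (Lpr_bt (f154904 IH) (Lpe (f154902 IH) (Lpr_ct (K6.f84094 IH) (Lpr_gt (f154896 IH) (Lpe (f67140 IH) (Lpr_bt (f154814 IH) (Lpr_gt (f154796 IH) (Lpe (f154804 IH) (Lpr_ct (f84617 IH) (Lpn (LP (LK LD1_c3 LD2_c53 LD3_c38)))))))))))))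
theorem f84300 : Led Lsl_dt (LP (LK LD1_c1 LD2_c53 LD3_c26)) = (LP (LK LD1_c0 LD2_c53 LD3_c20)) :=
  Lre_d IH (LK LD1_c1 LD2_c53 LD3_c26) (LK LD1_c0 LD2_c53 LD3_c20) Lrfl Lrfl
theorem f64519 : Led Lsl_dt (LP (LK LD1_c1 LD2_c42 LD3_c5)) = (LP (LK LD1_c3 LD2_c31 LD3_c4)) :=
  Lre_d IH (LK LD1_c1 LD2_c42 LD3_c5) (LK LD1_c3 LD2_c31 LD3_c4) Lrfl Lrfl
theorem f88856 : Led Lsl_af (LP (LK LD1_c1 LD2_c53 LD3_c26)) = (LP (LK LD1_c3 LD2_c31 LD3_c4)) :=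
  Lgr Lrot117 (Lpr_dt (f84300 IH) (Lpr_at (K4.f88827 IH) (Lpr_dt (f64519 IH) (Lpn (LP (LK LD1_c3 LD2_c31 LD3_c4))))))
theorem f88862 : Led Lsl_ft (LP (LK LD1_c1 LD2_c53 LD3_c26)) = (LP (LK LD1_c1 LD2_c41 LD3_c13)) :=
  Lgr Lrot101 (Lpr_af (f88856 IH) (Lpe (K3.f88822 IH) (Lpr_af (K3.f88698 IH) (Lpn (LP (LK LD1_c1 LD2_c41 LD3_c13))))))
theorem f88870 : Led Lsl_ff (LP (LK LD1_c1 LD2_c53 LD3_c26)) = (LP (LK LD1_c1 LD2_c41 LD3_c13)) :=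
  Lgr Lrot3 (Lpr_ft (f88862 IH) (Lpn (LP (LK LD1_c1 LD2_c41 LD3_c13))))
theorem f88872 : Led Lsl_ft (LP (LK LD1_c3 LD2_c53 LD3_c38)) = (LP (LK LD1_c3 LD2_c28 LD3_c58)) :=
  Lgr Lrot4 (Lpe (f84617 IH) (Lpr_ff (f88870 IH) (Lpe (K3.f84998 IH) (Lpn (LP (LK LD1_c3 LD2_c28 LD3_c58))))))
theorem f86345 : Led Lsl_ct (LP (LK LD1_c1 LD2_c53 LD3_c25)) = (LP (LK LD1_c3 LD2_c53 LD3_c36)) :=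
  Lre_c IH (LK LD1_c1 LD2_c53 LD3_c25) (LK LD1_c3 LD2_c53 LD3_c36) Lrfl Lrfl
theorem f88704 : Led Lsl_at (LP (LK LD1_c3 LD2_c53 LD3_c36)) = (LP (LK LD1_c3 LD2_c28 LD3_c58)) :=
  Lgr Lrot107 (Lpe (f86345 IH) (Lpr_af (K3.f88698 IH) (Lpe (K3.f84998 IH) (Lpn (LP (LK LD1_c3 LD2_c28 LD3_c58))))))
theorem f88706 : Led Lsl_af (LP (LK LD1_c3 LD2_c53 LD3_c36)) = (LP (LK LD1_c3 LD2_c28 LD3_c58)) :=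
  Lgr Lrot0 (Lpr_at (f88704 IH) (Lpn (LP (LK LD1_c3 LD2_c28 LD3_c58))))
theorem f154913 : Led Lsl_gt (LP (LK LD1_c3 LD2_c35 LD3_c19)) = (LP (LK LD1_c3 LD2_c53 LD3_c36)) :=
  Lgr Lrot46 (Lpr_gf (f154906 IH) (Lpr_ft (f88872 IH) (Lpe (f88706 IH) (Lpn (LP (LK LD1_c3 LD2_c53 LD3_c36))))))
theorem f86344 : Led Lsl_ct (LP (LK LD1_c3 LD2_c53 LD3_c36)) = (LP (LK LD1_c1 LD2_c53 LD3_c25)) :=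
  Lre_c IH (LK LD1_c3 LD2_c53 LD3_c36) (LK LD1_c1 LD2_c53 LD3_c25) Lrfl Lrfl
theorem f12638 : Led Lsl_dt (LP (LK LD1_c1 LD2_c35 LD3_c55)) = (LP (LK LD1_c0 LD2_c44 LD3_c28)) :=
  Lre_d IH (LK LD1_c1 LD2_c35 LD3_c55) (LK LD1_c0 LD2_c44 LD3_c28) Lrfl Lrfl
theorem f154928 : Led Lsl_gf (LP (LK LD1_c1 LD2_c44 LD3_c30)) = (LP (LK LD1_c1 LD2_c35 LD3_c55)) :=
  Lgr Lrot147 (Lpr_ct (f154905 IH) (Lpr_gt (f154913 IH) (Lpr_ct (f86344 IH) (Lpe (K3.f18012 IH) (Lpe (K2.f10993 IH) (Lpe (K2.f7426 IH) (Lpe (K2.f12165 IH) (Lpe (K4.f12169 IH) (Lpe (f12638 IH) (Lpn (LP (LK LD1_c1 LD2_c35 LD3_c55))))))))))))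
theorem f113957 : Led Lsl_af (LP (LK LD1_c1 LD2_c35 LD3_c52)) = (LP (LK LD1_c1 LD2_c26 LD3_c55)) :=
  Lgr Lrot117 (Lpr_dt (K5.f94384 IH) (Lpr_at (K4.f113949 IH) (Lpr_dt (K1.f61983 IH) (Lpn (LP (LK LD1_c1 LD2_c26 LD3_c55))))))
theorem f154934 : Led Lsl_gt (LP (LK LD1_c1 LD2_c44 LD3_c30)) = (LP (LK LD1_c1 LD2_c35 LD3_c52)) :=
  Lgr Lrot46 (Lpr_gf (f154928 IH) (Lpe (K5.f126110 IH) (Lpe (f113957 IH) (Lpn (LP (LK LD1_c1 LD2_c35 LD3_c52))))))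
theorem f106104 : Led Lsl_dt (LP (LK LD1_c0 LD2_c48 LD3_c53)) = (LP (LK LD1_c1 LD2_c44 LD3_c30)) :=
  Lre_d IH (LK LD1_c0 LD2_c48 LD3_c53) (LK LD1_c1 LD2_c44 LD3_c30) Lrfl Lrfl
theorem f12062 : Led Lsl_dt (LP (LK LD1_c0 LD2_c10 LD3_c42)) = (LP (LK LD1_c0 LD2_c4 LD3_c60)) :=
  Lre_d IH (LK LD1_c0 LD2_c10 LD3_c42) (LK LD1_c0 LD2_c4 LD3_c60) Lrfl Lrfl
theorem f11287 : Led Lsl_dt (LP (LK LD1_c0 LD2_c19 LD3_c47)) = (LP (LK LD1_c0 LD2_c8 LD3_c52)) :=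
  Lre_d IH (LK LD1_c0 LD2_c19 LD3_c47) (LK LD1_c0 LD2_c8 LD3_c52) Lrfl Lrfl
theorem f110023 : Led Lsl_df (LP (LK LD1_c0 LD2_c44 LD3_c7)) = (LP (LK LD1_c0 LD2_c40 LD3_c8)) :=
  Lgr Lrot153 (Lpr_gt (K6.f11288 IH) (Lpr_dt (f11287 IH) (Lpe (K3.f11291 IH) (Lpe (f12062 IH) (Lpe (K2.f63847 IH) (Lpr_df (K2.f88462 IH) (Lpr_gf (K2.f87569 IH) (Lpe (K4.f13676 IH) (Lpr_gt (K3.f110016 IH) (Lpn (LP (LK LD1_c0 LD2_c40 LD3_c8))))))))))))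
theorem f110204 : Led Lsl_et (LP (LK LD1_c0 LD2_c40 LD3_c8)) = (LP (LK LD1_c1 LD2_c26 LD3_c42)) :=
  Lre_e IH (LK LD1_c0 LD2_c40 LD3_c8) (LK LD1_c1 LD2_c26 LD3_c42) Lrfl Lrfl
theorem f154953 : Led Lsl_gf (LP (LK LD1_c0 LD2_c48 LD3_c53)) = (LP (LK LD1_c1 LD2_c26 LD3_c42)) :=
  Lgr Lrot138 (Lpr_dt (f106104 IH) (Lpr_gt (f154934 IH) (Lpe (K4.f7446 IH) (Lpr_et (K4.f113965 IH) (Lpe (K6.f110019 IH) (Lpe (K4.f110030 IH) (Lpr_dt (K3.f63844 IH) (Lpr_gt (K3.f93517 IH) (Lpr_df (f110023 IH) (Lpr_et (f110204 IH) (Lpn (LP (LK LD1_c1 LD2_c26 LD3_c42)))))))))))))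
theorem f154099 : Led Lsl_bt (LP (LK LD1_c0 LD2_c20 LD3_c8)) = (LP (LK LD1_c0 LD2_c9 LD3_c19)) :=
  Lgr Lrot127 (Lpr_bf (f154097 IH) (Lpn (LP (LK LD1_c0 LD2_c9 LD3_c19))))
theorem f154124 : Led Lsl_gf (LP (LK LD1_c0 LD2_c9 LD3_c19)) = (LP (LK LD1_c0 LD2_c9 LD3_c20)) :=
  Lgr Lrot124 (Lpe (f154099 IH) (Lpe (K1.f67086 IH) (Lpr_gt (K1.f58935 IH) (Lpe (K1.f25805 IH) (Lpe (f104588 IH) (Lpr_gt (f154109 IH) (Lpr_ct (f10357 IH) (Lpe (f154117 IH) (Lpe (K2.f21045 IH) (Lpr_bt (K5.f20848 IH) (Lpn (LP (LK LD1_c0 LD2_c9 LD3_c20)))))))))))))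
theorem f10920 : Led Lsl_bt (LP (LK LD1_c0 LD2_c9 LD3_c50)) = (LP (LK LD1_c0 LD2_c21 LD3_c51)) :=
  Lre_b IH (LK LD1_c0 LD2_c9 LD3_c50) (LK LD1_c0 LD2_c21 LD3_c51) Lrfl Lrfl
theorem f92030 : Led Lsl_et (LP (LK LD1_c0 LD2_c45 LD3_c39)) = (LP (LK LD1_c1 LD2_c38 LD3_c30)) :=
  Lre_e IH (LK LD1_c0 LD2_c45 LD3_c39) (LK LD1_c1 LD2_c38 LD3_c30) Lrfl Lrfl
theorem f110040 : Led Lsl_ct (LP (LK LD1_c1 LD2_c38 LD3_c30)) = (LP (LK LD1_c1 LD2_c26 LD3_c42)) :=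
  Lgr Lrot15 (Lpe (f92030 IH) (Lpr_cf (K3.f110025 IH) (Lpe (K4.f110032 IH) (Lpn (LP (LK LD1_c1 LD2_c26 LD3_c42))))))
theorem f114014 : Led Lsl_bt (LP (LK LD1_c1 LD2_c38 LD3_c30)) = (LP (LK LD1_c0 LD2_c45 LD3_c41)) :=
  Lre_b IH (LK LD1_c1 LD2_c38 LD3_c30) (LK LD1_c0 LD2_c45 LD3_c41) Lrfl Lrfl
theorem f154955 : Led Lsl_gt (LP (LK LD1_c0 LD2_c21 LD3_c51)) = (LP (LK LD1_c0 LD2_c45 LD3_c41)) :=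
  Lgr Lrot164 (Lpe (f10920 IH) (Lpr_ct (K6.f143224 IH) (Lpr_gf (f154124 IH) (Lpe (K2.f20858 IH) (Lpr_gf (f154105 IH) (Lpe (K6.f143289 IH) (Lpr_ct (K6.f106101 IH) (Lpr_gf (f154953 IH) (Lpe (f110040 IH) (Lpr_bt (f114014 IH) (Lpn (LP (LK LD1_c0 LD2_c45 LD3_c41)))))))))))))
theorem f10916 : Led Lsl_bt (LP (LK LD1_c0 LD2_c21 LD3_c51)) = (LP (LK LD1_c0 LD2_c9 LD3_c50)) :=
  Lre_b IH (LK LD1_c0 LD2_c21 LD3_c51) (LK LD1_c0 LD2_c9 LD3_c50) Lrfl Lrfl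
theorem f10921 : Led Lsl_ef (LP (LK LD1_c0 LD2_c21 LD3_c51)) = (LP (LK LD1_c0 LD2_c21 LD3_c51)) :=
  Lgr Lrot29 (Lpr_bt (f10916 IH) (Lpr_et (K6.f10917 IH) (Lpr_bt (f10920 IH) (Lpn (LP (LK LD1_c0 LD2_c21 LD3_c51))))))
theorem f10927 : Led Lsl_dt (LP (LK LD1_c0 LD2_c21 LD3_c51)) = (LP (LK LD1_c0 LD2_c48 LD3_c49)) :=
  Lre_d IH (LK LD1_c0 LD2_c21 LD3_c51) (LK LD1_c0 LD2_c48 LD3_c49) Lrfl Lrfl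
theorem f19346 : Led Lsl_et (LP (LK LD1_c0 LD2_c45 LD3_c44)) = (LP (LK LD1_c0 LD2_c20 LD3_c24)) :=
  Lre_e IH (LK LD1_c0 LD2_c45 LD3_c44) (LK LD1_c0 LD2_c20 LD3_c24) Lrfl Lrfl
theorem f154965 : Led Lsl_gf (LP (LK LD1_c0 LD2_c48 LD3_c49)) = (LP (LK LD1_c1 LD2_c38 LD3_c39)) :=
  Lgr Lrot145 (Lpe (f10927 IH) (Lpe (f10921 IH) (Lpr_gt (f154955 IH) (Lpr_dt (K3.f18154 IH) (Lpe (K3.f92249 IH) (Lpe (K2.f18091 IH) (Lpr_et (K2.f18080 IH) (Lpr_gt (K2.f19340 IH) (Lpe (f19346 IH) (Lpr_dt (f19347 IH) (Lpn (LP (LK LD1_c1 LD2_c38 LD3_c39)))))))))))))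
theorem f10928 : Led Lsl_dt (LP (LK LD1_c0 LD2_c48 LD3_c49)) = (LP (LK LD1_c0 LD2_c21 LD3_c51)) :=
  Lre_d IH (LK LD1_c0 LD2_c48 LD3_c49) (LK LD1_c0 LD2_c21 LD3_c51) Lrfl Lrfl
theorem f67138 : Led Lsl_bt (LP (LK LD1_c0 LD2_c18 LD3_c41)) = (LP (LK LD1_c0 LD2_c41 LD3_c52)) :=
  Lre_b IH (LK LD1_c0 LD2_c18 LD3_c41) (LK LD1_c0 LD2_c41 LD3_c52) Lrfl Lrfl
theorem f154101 : Led Lsl_ct (LP (LK LD1_c0 LD2_c41 LD3_c52)) = (LP (LK LD1_c0 LD2_c21 LD3_c51)) :=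
  Lgr Lrot83 (Lpe (f67138 IH) (Lpr_cf (K1.f67086 IH) (Lpr_bf (f154097 IH) (Lpe (K6.f143224 IH) (Lpe (f10916 IH) (Lpn (LP (LK LD1_c0 LD2_c21 LD3_c51))))))))
theorem f154671 : Led Lsl_dt (LP (LK LD1_c1 LD2_c30 LD3_c44)) = (LP (LK LD1_c0 LD2_c41 LD3_c52)) :=
  Lre_d IH (LK LD1_c1 LD2_c30 LD3_c44) (LK LD1_c0 LD2_c41 LD3_c52) Lrfl Lrfl
theorem f154970 : Led Lsl_gf (LP (LK LD1_c1 LD2_c30 LD3_c44)) = (LP (LK LD1_c3 LD2_c6 LD3_c51)) :=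
  Lgr Lrot154 (Lpr_dt (f154671 IH) (Lpr_ct (f154101 IH) (Lpe (f10928 IH) (Lpr_gf (f154965 IH) (Lpe (f19347 IH) (Lpr_gf (K2.f92036 IH) (Lpr_ct (K1.f9821 IH) (Lpr_gt (K3.f94034 IH) (Lpr_dt (K3.f68357 IH) (Lpn (LP (LK LD1_c3 LD2_c6 LD3_c51))))))))))))
theorem f155009 : Led Lsl_cf (LP (LK LD1_c0 LD2_c41 LD3_c52)) = (LP (LK LD1_c0 LD2_c21 LD3_c51)) :=
  Lgr Lrot14 (Lpe (f154671 IH) (Lpr_gf (f154970 IH) (Lpe (K3.f68357 IH) (Lpe (K3.f94034 IH) (Lpr_ct (K4.f9820 IH) (Lpe (K2.f92036 IH) (Lpr_dt (f19347 IH) (Lpe (f154965 IH) (Lpr_dt (f10928 IH) (Lpn (LP (LK LD1_c0 LD2_c21 LD3_c51))))))))))))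
theorem f154813 : Led Lsl_gt (LP (LK LD1_c1 LD2_c30 LD3_c42)) = (LP (LK LD1_c0 LD2_c41 LD3_c52)) :=
  Lre_g IH (LK LD1_c1 LD2_c30 LD3_c42) (LK LD1_c0 LD2_c41 LD3_c52) Lrfl Lrfl
theorem f9947 : Led Lsl_ct (LP (LK LD1_c0 LD2_c4 LD3_c37)) = (LP (LK LD1_c0 LD2_c2 LD3_c7)) :=
  Lre_c IH (LK LD1_c0 LD2_c4 LD3_c37) (LK LD1_c0 LD2_c2 LD3_c7) Lrfl Lrfl
theorem f106105 : Led Lsl_ct (LP (LK LD1_c0 LD2_c48 LD3_c53)) = (LP (LK LD1_c0 LD2_c21 LD3_c56)) :=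
  Lre_c IH (LK LD1_c0 LD2_c48 LD3_c53) (LK LD1_c0 LD2_c21 LD3_c56) Lrfl Lrfl
theorem f62055 : Led Lsl_dt (LP (LK LD1_c1 LD2_c34 LD3_c15)) = (LP (LK LD1_c0 LD2_c43 LD3_c46)) :=
  Lre_d IH (LK LD1_c1 LD2_c34 LD3_c15) (LK LD1_c0 LD2_c43 LD3_c46) Lrfl Lrfl
theorem f85321 : Led Lsl_dt (LP (LK LD1_c0 LD2_c47 LD3_c7)) = (LP (LK LD1_c1 LD2_c41 LD3_c9)) :=
  Lre_d IH (LK LD1_c0 LD2_c47 LD3_c7) (LK LD1_c1 LD2_c41 LD3_c9) Lrfl Lrfl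
theorem f143292 : Led Lsl_gt (LP (LK LD1_c0 LD2_c21 LD3_c56)) = (LP (LK LD1_c0 LD2_c47 LD3_c7)) :=
  Lgr Lrot94 (Lpe (f106105 IH) (Lpr_gt (K6.f143290 IH) (Lpr_dt (K4.f114329 IH) (Lpr_gt (K5.f114008 IH) (Lpr_dt (f62055 IH) (Lpe (K3.f64498 IH) (Lpe (K5.f78264 IH) (Lpe (K3.f87586 IH) (Lpe (f85321 IH) (Lpn (LP (LK LD1_c0 LD2_c47 LD3_c7))))))))))))
theorem f88855 : Led Lsl_bt (LP (LK LD1_c1 LD2_c40 LD3_c58)) = (LP (LK LD1_c0 LD2_c47 LD3_c7)) :=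
  Lre_b IH (LK LD1_c1 LD2_c40 LD3_c58) (LK LD1_c0 LD2_c47 LD3_c7) Lrfl Lrfl
theorem f155034 : Led Lsl_cf (LP (LK LD1_c1 LD2_c30 LD3_c42)) = (LP (LK LD1_c1 LD2_c40 LD3_c58)) :=
  Lgr Lrot160 (Lpr_gt (f154813 IH) (Lpr_cf (f155009 IH) (Lpr_bt (f10916 IH) (Lpr_gt (K6.f9962 IH) (Lpr_ct (f9947 IH) (Lpr_gt (K0.f4928 IH) (Lpe (K6.f4936 IH) (Lpr_bt (K6.f10032 IH) (Lpr_gt (f143292 IH) (Lpe (f88855 IH) (Lpn (LP (LK LD1_c1 LD2_c40 LD3_c58)))))))))))))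
theorem f10429 : Led Lsl_bt (LP (LK LD1_c0 LD2_c9 LD3_c47)) = (LP (LK LD1_c0 LD2_c4 LD3_c37)) :=
  Lre_b IH (LK LD1_c0 LD2_c9 LD3_c47) (LK LD1_c0 LD2_c4 LD3_c37) Lrfl Lrfl
theorem f10428 : Led Lsl_at (LP (LK LD1_c0 LD2_c21 LD3_c37)) = (LP (LK LD1_c0 LD2_c9 LD3_c47)) :=
  Lre_a IH (LK LD1_c0 LD2_c21 LD3_c37) (LK LD1_c0 LD2_c9 LD3_c47) Lrfl Lrfl
theorem f19427 : Led Lsl_ct (LP (LK LD1_c0 LD2_c9 LD3_c47)) = (LP (LK LD1_c0 LD2_c9 LD3_c47)) :=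
  Lgr Lrot111 (Lpe (f10428 IH) (Lpr_cf (K0.f19348 IH) (Lpe (K0.f10430 IH) (Lpn (LP (LK LD1_c0 LD2_c9 LD3_c47))))))
theorem f155033 : Led Lsl_bt (LP (LK LD1_c0 LD2_c48 LD3_c32)) = (LP (LK LD1_c1 LD2_c43 LD3_c56)) :=
  Lre_b IH (LK LD1_c0 LD2_c48 LD3_c32) (LK LD1_c1 LD2_c43 LD3_c56) Lrfl Lrfl
theorem f155053 : Led Lsl_gt (LP (LK LD1_c1 LD2_c43 LD3_c56)) = (LP (LK LD1_c1 LD2_c40 LD3_c58)) :=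
  Lgr Lrot82 (Lpe (f155033 IH) (Lpr_ct (K3.f106641 IH) (Lpe (K3.f9988 IH) (Lpe (f19427 IH) (Lpr_bt (f10429 IH) (Lpe (K6.f9962 IH) (Lpe (f10916 IH) (Lpe (f155009 IH) (Lpe (f154813 IH) (Lpr_cf (f155034 IH) (Lpn (LP (LK LD1_c1 LD2_c40 LD3_c58)))))))))))))
theorem f106010 : Led Lsl_gt (LP (LK LD1_c0 LD2_c21 LD3_c43)) = (LP (LK LD1_c0 LD2_c9 LD3_c47)) :=
  Lre_g IH (LK LD1_c0 LD2_c21 LD3_c43) (LK LD1_c0 LD2_c9 LD3_c47) Lrfl Lrfl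
theorem f10750 : Led Lsl_bt (LP (LK LD1_c0 LD2_c48 LD3_c33)) = (LP (LK LD1_c0 LD2_c21 LD3_c43)) :=
  Lre_b IH (LK LD1_c0 LD2_c48 LD3_c33) (LK LD1_c0 LD2_c21 LD3_c43) Lrfl Lrfl
theorem f10751 : Led Lsl_ct (LP (LK LD1_c0 LD2_c48 LD3_c33)) = (LP (LK LD1_c1 LD2_c43 LD3_c60)) :=
  Lre_c IH (LK LD1_c0 LD2_c48 LD3_c33) (LK LD1_c1 LD2_c43 LD3_c60) Lrfl Lrfl
theorem f155057 : Led Lsl_gf (LP (LK LD1_c1 LD2_c43 LD3_c60)) = (LP (LK LD1_c1 LD2_c41 LD3_c7)) :=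
  Lgr Lrot126 (Lpe (f10751 IH) (Lpr_bt (f10750 IH) (Lpr_gt (f106010 IH) (Lpr_ct (f19427 IH) (Lpr_gt (K3.f9988 IH) (Lpe (K3.f106641 IH) (Lpr_bt (f155033 IH) (Lpr_gt (f155053 IH) (Lpe (K3.f88840 IH) (Lpr_ct (K3.f88833 IH) (Lpn (LP (LK LD1_c1 LD2_c41 LD3_c7)))))))))))))
theorem f88832 : Led Lsl_bt (LP (LK LD1_c3 LD2_c28 LD3_c38)) = (LP (LK LD1_c1 LD2_c41 LD3_c7)) :=
  Lre_b IH (LK LD1_c3 LD2_c28 LD3_c38) (LK LD1_c1 LD2_c41 LD3_c7) Lrfl Lrfl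
theorem f145677 : Led Lsl_ct (LP (LK LD1_c3 LD2_c28 LD3_c38)) = (LP (LK LD1_c3 LD2_c7 LD3_c60)) :=
  Lgr Lrot40 (Lpe (f88768 IH) (Lpe (f76788 IH) (Lpr_ff (f145675 IH) (Lpn (LP (LK LD1_c3 LD2_c7 LD3_c60))))))
theorem f145499 : Led Lsl_ct (LP (LK LD1_c1 LD2_c34 LD3_c9)) = (LP (LK LD1_c1 LD2_c30 LD3_c11)) :=
  Lgr Lrot59 (Lpr_cf (K6.f145496 IH) (Lpn (LP (LK LD1_c1 LD2_c30 LD3_c11))))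
theorem f155070 : Led Lsl_bf (LP (LK LD1_c1 LD2_c43 LD3_c60)) = (LP (LK LD1_c3 LD2_c25 LD3_c3)) :=
  Lgr Lrot34 (Lpr_gf (f155057 IH) (Lpe (f88832 IH) (Lpr_ct (f145677 IH) (Lpe (f134393 IH) (Lpe (f145499 IH) (Lpe (K6.f135807 IH) (Lpr_bf (K6.f142999 IH) (Lpe (K5.f21070 IH) (Lpe (K6.f21125 IH) (Lpe (K6.f21067 IH) (Lpn (LP (LK LD1_c3 LD2_c25 LD3_c3)))))))))))))
theorem f155075 : Led Lsl_bt (LP (LK LD1_c1 LD2_c43 LD3_c60)) = (LP (LK LD1_c3 LD2_c25 LD3_c3)) :=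
  Lgr Lrot127 (Lpr_bf (f155070 IH) (Lpn (LP (LK LD1_c3 LD2_c25 LD3_c3))))
theorem f155077 : Led Lsl_bt (LP (LK LD1_c0 LD2_c21 LD3_c43)) = (LP (LK LD1_c0 LD2_c48 LD3_c33)) :=
  Lre_b IH (LK LD1_c0 LD2_c21 LD3_c43) (LK LD1_c0 LD2_c48 LD3_c33) Lrfl Lrfl
theorem f106011 : Led Lsl_ct (LP (LK LD1_c0 LD2_c48 LD3_c34)) = (LP (LK LD1_c0 LD2_c21 LD3_c43)) :=
  Lre_c IH (LK LD1_c0 LD2_c48 LD3_c34) (LK LD1_c0 LD2_c21 LD3_c43) Lrfl Lrfl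
theorem f155078 : Led Lsl_bf (LP (LK LD1_c0 LD2_c48 LD3_c34)) = (LP (LK LD1_c1 LD2_c38 LD3_c61)) :=
  Lgr Lrot90 (Lpr_ct (f106011 IH) (Lpr_bt (f155077 IH) (Lpr_ct (f10751 IH) (Lpr_bt (f155075 IH) (Lpr_ct (K6.f21067 IH) (Lpn (LP (LK LD1_c1 LD2_c38 LD3_c61))))))))
theorem f106012 : Led Lsl_gf (LP (LK LD1_c1 LD2_c40 LD3_c48)) = (LP (LK LD1_c0 LD2_c48 LD3_c34)) :=
  Lgr Lrot144 (Lpr_dt (K2.f19389 IH) (Lpe (K3.f105965 IH) (Lpr_dt (K3.f94371 IH) (Lpe (K2.f87478 IH) (Lpe (K3.f94408 IH) (Lpr_gf (K3.f106004 IH) (Lpe (K3.f19732 IH) (Lpe (f106010 IH) (Lpe (f106011 IH) (Lpn (LP (LK LD1_c0 LD2_c48 LD3_c34))))))))))))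
theorem f143273 : Led Lsl_gt (LP (LK LD1_c1 LD2_c44 LD3_c40)) = (LP (LK LD1_c1 LD2_c39 LD3_c2)) :=
  Lgr Lrot9 (Lpe (K2.f19390 IH) (Lpr_gt (K3.f106097 IH) (Lpr_ct (K3.f105883 IH) (Lpe (K3.f105855 IH) (Lpr_ct (K0.f17994 IH) (Lpe (K0.f10318 IH) (Lpr_cf (K0.f19448 IH) (Lpe (K6.f10362 IH) (Lpr_cf (K6.f143265 IH) (Lpn (LP (LK LD1_c1 LD2_c39 LD3_c2))))))))))))
theorem f143269 : Led Lsl_ct (LP (LK LD1_c0 LD2_c48 LD3_c13)) = (LP (LK LD1_c1 LD2_c39 LD3_c2)) :=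
  Lgr Lrot59 (Lpr_cf (K6.f143265 IH) (Lpn (LP (LK LD1_c1 LD2_c39 LD3_c2))))
theorem f143267 : Led Lsl_bt (LP (LK LD1_c0 LD2_c48 LD3_c13)) = (LP (LK LD1_c1 LD2_c43 LD3_c11)) :=
  Lre_b IH (LK LD1_c0 LD2_c48 LD3_c13) (LK LD1_c1 LD2_c43 LD3_c11) Lrfl Lrfl
theorem f142971 : Led Lsl_ct (LP (LK LD1_c3 LD2_c32 LD3_c1)) = (LP (LK LD1_c3 LD2_c39 LD3_c61)) :=
  Lgr Lrot7 (Lpr_df (K6.f142969 IH) (Lpe (K4.f115501 IH) (Lpe (K3.f95930 IH) (Lpr_gf (K4.f107084 IH) (Lpe (K4.f114170 IH) (Lpr_gt (K5.f114174 IH) (Lpr_dt (K5.f108845 IH) (Lpe (K5.f134586 IH) (Lpr_dt (K6.f134599 IH) (Lpn (LP (LK LD1_c3 LD2_c39 LD3_c61))))))))))))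
theorem f155081 : Led Lsl_gt (LP (LK LD1_c1 LD2_c43 LD3_c11)) = (LP (LK LD1_c3 LD2_c1 LD3_c34)) :=
  Lgr Lrot164 (Lpe (f143267 IH) (Lpr_ct (f143269 IH) (Lpe (f143273 IH) (Lpe (K3.f90399 IH) (Lpr_gf (f106012 IH) (Lpr_bf (f155078 IH) (Lpr_ct (K5.f21066 IH) (Lpr_gf (K6.f142981 IH) (Lpe (f142971 IH) (Lpr_bt (K6.f87536 IH) (Lpn (LP (LK LD1_c3 LD2_c1 LD3_c34)))))))))))))
theorem f87540 : Led Lsl_dt (LP (LK LD1_c3 LD2_c1 LD3_c37)) = (LP (LK LD1_c1 LD2_c26 LD3_c50)) :=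
  Lre_d IH (LK LD1_c3 LD2_c1 LD3_c37) (LK LD1_c1 LD2_c26 LD3_c50) Lrfl Lrfl
theorem f62660 : Led Lsl_gt (LP (LK LD1_c0 LD2_c47 LD3_c3)) = (LP (LK LD1_c1 LD2_c41 LD3_c4)) :=
  Lre_g IH (LK LD1_c0 LD2_c47 LD3_c3) (LK LD1_c1 LD2_c41 LD3_c4) Lrfl Lrfl
theorem f155083 : Led Lsl_cf (LP (LK LD1_c1 LD2_c43 LD3_c11)) = (LP (LK LD1_c1 LD2_c41 LD3_c4)) :=
  Lgr Lrot169 (Lpr_gt (f155081 IH) (Lpr_ct (K4.f87541 IH) (Lpe (f87540 IH) (Lpe (K5.f114326 IH) (Lpe (K5.f114375 IH) (Lpe (K5.f17756 IH) (Lpr_gf (K5.f105640 IH) (Lpe (K3.f85328 IH) (Lpr_gt (f62660 IH) (Lpn (LP (LK LD1_c1 LD2_c41 LD3_c4))))))))))))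
theorem f155087 : Led Lsl_ct (LP (LK LD1_c1 LD2_c43 LD3_c11)) = (LP (LK LD1_c1 LD2_c41 LD3_c4)) :=
  Lgr Lrot59 (Lpr_cf (f155083 IH) (Lpn (LP (LK LD1_c1 LD2_c41 LD3_c4))))
theorem f10363 : Led Lsl_bt (LP (LK LD1_c1 LD2_c43 LD3_c11)) = (LP (LK LD1_c0 LD2_c48 LD3_c13)) :=
  Lre_b IH (LK LD1_c1 LD2_c43 LD3_c11) (LK LD1_c0 LD2_c48 LD3_c13) Lrfl Lrfl
theorem f106091 : Led Lsl_bt (LP (LK LD1_c0 LD2_c48 LD3_c55)) = (LP (LK LD1_c1 LD2_c44 LD3_c33)) :=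
  Lre_b IH (LK LD1_c0 LD2_c48 LD3_c55) (LK LD1_c1 LD2_c44 LD3_c33) Lrfl Lrfl
theorem f106094 : Led Lsl_ct (LP (LK LD1_c0 LD2_c48 LD3_c55)) = (LP (LK LD1_c1 LD2_c44 LD3_c34)) :=
  Lre_c IH (LK LD1_c0 LD2_c48 LD3_c55) (LK LD1_c1 LD2_c44 LD3_c34) Lrfl Lrfl
theorem f155095 : Led Lsl_gf (LP (LK LD1_c1 LD2_c44 LD3_c34)) = (LP (LK LD1_c1 LD2_c41 LD3_c4)) :=
  Lgr Lrot126 (Lpe (f106094 IH) (Lpr_bt (f106091 IH) (Lpr_gt (K3.f106085 IH) (Lpr_ct (K3.f19436 IH) (Lpr_gt (K3.f10435 IH) (Lpr_cf (K0.f19348 IH) (Lpe (K2.f10398 IH) (Lpr_gt (K6.f10246 IH) (Lpe (f10363 IH) (Lpr_ct (f155087 IH) (Lpn (LP (LK LD1_c1 LD2_c41 LD3_c4)))))))))))))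
theorem f106092 : Led Lsl_ct (LP (LK LD1_c1 LD2_c44 LD3_c34)) = (LP (LK LD1_c0 LD2_c48 LD3_c55)) :=
  Lre_c IH (LK LD1_c1 LD2_c44 LD3_c34) (LK LD1_c0 LD2_c48 LD3_c55) Lrfl Lrfl
theorem f10029 : Led Lsl_gt (LP (LK LD1_c0 LD2_c48 LD3_c55)) = (LP (LK LD1_c0 LD2_c21 LD3_c57)) :=
  Lre_g IH (LK LD1_c0 LD2_c48 LD3_c55) (LK LD1_c0 LD2_c21 LD3_c57) Lrfl Lrfl
theorem f21150 : Led Lsl_ct (LP (LK LD1_c0 LD2_c45 LD3_c57)) = (LP (LK LD1_c1 LD2_c39 LD3_c3)) :=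
  Lre_c IH (LK LD1_c0 LD2_c45 LD3_c57) (LK LD1_c1 LD2_c39 LD3_c3) Lrfl Lrfl
theorem f155085 : Led Lsl_bt (LP (LK LD1_c1 LD2_c39 LD3_c3)) = (LP (LK LD1_c1 LD2_c41 LD3_c4)) :=
  Lgr Lrot128 (Lpe (f21150 IH) (Lpe (K6.f21143 IH) (Lpe (f143269 IH) (Lpe (f10363 IH) (Lpr_cf (f155083 IH) (Lpn (LP (LK LD1_c1 LD2_c41 LD3_c4))))))))
theorem f21141 : Led Lsl_ct (LP (LK LD1_c1 LD2_c39 LD3_c3)) = (LP (LK LD1_c0 LD2_c45 LD3_c57)) :=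
  Lre_c IH (LK LD1_c1 LD2_c39 LD3_c3) (LK LD1_c0 LD2_c45 LD3_c57) Lrfl Lrfl
theorem f154189 : Led Lsl_bt (LP (LK LD1_c0 LD2_c41 LD3_c60)) = (LP (LK LD1_c0 LD2_c18 LD3_c45)) :=
  Lre_b IH (LK LD1_c0 LD2_c41 LD3_c60) (LK LD1_c0 LD2_c18 LD3_c45) Lrfl Lrfl
theorem f155109 : Led Lsl_cf (LP (LK LD1_c0 LD2_c21 LD3_c57)) = (LP (LK LD1_c0 LD2_c41 LD3_c60)) :=
  Lgr Lrot163 (Lpe (f10029 IH) (Lpe (f106092 IH) (Lpr_gf (f155095 IH) (Lpe (f155085 IH) (Lpr_ct (f21141 IH) (Lpe (K6.f21086 IH) (Lpr_cf (K5.f21028 IH) (Lpr_bt (K6.f21073 IH) (Lpe (f82524 IH) (Lpe (f154189 IH) (Lpn (LP (LK LD1_c0 LD2_c41 LD3_c60)))))))))))))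
theorem f9959 : Led Lsl_ct (LP (LK LD1_c0 LD2_c9 LD3_c55)) = (LP (LK LD1_c0 LD2_c4 LD3_c39)) :=
  Lre_c IH (LK LD1_c0 LD2_c9 LD3_c55) (LK LD1_c0 LD2_c4 LD3_c39) Lrfl Lrfl
theorem f9998 : Led Lsl_bt (LP (LK LD1_c0 LD2_c9 LD3_c55)) = (LP (LK LD1_c0 LD2_c21 LD3_c57)) :=
  Lre_b IH (LK LD1_c0 LD2_c9 LD3_c55) (LK LD1_c0 LD2_c21 LD3_c57) Lrfl Lrfl
theorem f155093 : Led Lsl_gt (LP (LK LD1_c0 LD2_c21 LD3_c57)) = (LP (LK LD1_c0 LD2_c21 LD3_c4)) :=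
  Lgr Lrot82 (Lpe (f9998 IH) (Lpr_ct (f9959 IH) (Lpr_gf (K6.f10360 IH) (Lpe (K0.f9973 IH) (Lpr_bt (K0.f9975 IH) (Lpe (K6.f10362 IH) (Lpe (f10363 IH) (Lpr_ct (f155087 IH) (Lpe (f62660 IH) (Lpe (K3.f85327 IH) (Lpn (LP (LK LD1_c0 LD2_c21 LD3_c4)))))))))))))
theorem f88990 : Led Lsl_cf (LP (LK LD1_c1 LD2_c41 LD3_c6)) = (LP (LK LD1_c3 LD2_c18 LD3_c53)) :=
  Lgr Lrot11 (Lpr_ct (K3.f88979 IH) (Lpn (LP (LK LD1_c3 LD2_c18 LD3_c53))))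
theorem f12167 : Led Lsl_gt (LP (LK LD1_c1 LD2_c35 LD3_c56)) = (LP (LK LD1_c0 LD2_c44 LD3_c29)) :=
  Lre_g IH (LK LD1_c1 LD2_c35 LD3_c56) (LK LD1_c0 LD2_c44 LD3_c29) Lrfl Lrfl
theorem f145652 : Led Lsl_gt (LP (LK LD1_c1 LD2_c30 LD3_c60)) = (LP (LK LD1_c0 LD2_c41 LD3_c60)) :=
  Lre_g IH (LK LD1_c1 LD2_c30 LD3_c60) (LK LD1_c0 LD2_c41 LD3_c60) Lrfl Lrfl
theorem f155124 : Led Lsl_df (LP (LK LD1_c1 LD2_c35 LD3_c56)) = (LP (LK LD1_c1 LD2_c30 LD3_c60)) :=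
  Lgr Lrot155 (Lpr_gt (f12167 IH) (Lpr_ct (K5.f25420 IH) (Lpr_gt (K5.f57774 IH) (Lpe (f88990 IH) (Lpr_dt (K3.f85365 IH) (Lpe (K3.f85327 IH) (Lpe (f155093 IH) (Lpr_cf (f155109 IH) (Lpe (f145652 IH) (Lpn (LP (LK LD1_c1 LD2_c30 LD3_c60))))))))))))
theorem f155126 : Led Lsl_at (LP (LK LD1_c1 LD2_c26 LD3_c50)) = (LP (LK LD1_c1 LD2_c30 LD3_c60)) :=
  Lgr Lrot51 (Lpe (f87540 IH) (Lpr_af (K4.f114323 IH) (Lpr_df (f155124 IH) (Lpn (LP (LK LD1_c1 LD2_c30 LD3_c60))))))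
theorem f114071 : Led Lsl_ft (LP (LK LD1_c0 LD2_c40 LD3_c11)) = (LP (LK LD1_c1 LD2_c26 LD3_c50)) :=
  Lre_f IH (LK LD1_c0 LD2_c40 LD3_c11) (LK LD1_c1 LD2_c26 LD3_c50) Lrfl Lrfl
theorem f61742 : Led Lsl_gt (LP (LK LD1_c0 LD2_c40 LD3_c11)) = (LP (LK LD1_c1 LD2_c26 LD3_c48)) :=
  Lre_g IH (LK LD1_c0 LD2_c40 LD3_c11) (LK LD1_c1 LD2_c26 LD3_c48) Lrfl Lrfl
theorem f155160 : Led Lsl_gt (LP (LK LD1_c1 LD2_c26 LD3_c48)) = (LP (LK LD1_c1 LD2_c30 LD3_c60)) :=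
  Lgr Lrot46 (Lpe (f61742 IH) (Lpr_ft (f114071 IH) (Lpr_at (f155126 IH) (Lpn (LP (LK LD1_c1 LD2_c30 LD3_c60))))))
theorem f154312 : Led Lsl_at (LP (LK LD1_c1 LD2_c30 LD3_c61)) = (LP (LK LD1_c0 LD2_c41 LD3_c60)) :=
  Lre_a IH (LK LD1_c1 LD2_c30 LD3_c61) (LK LD1_c0 LD2_c41 LD3_c60) Lrfl Lrfl
theorem f155162 : Led Lsl_ft (LP (LK LD1_c1 LD2_c26 LD3_c48)) = (LP (LK LD1_c1 LD2_c30 LD3_c61)) :=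
  Lgr Lrot2 (Lpr_gt (f155160 IH) (Lpr_gt (f145652 IH) (Lpe (f154312 IH) (Lpn (LP (LK LD1_c1 LD2_c30 LD3_c61))))))
theorem f61743 : Led Lsl_dt (LP (LK LD1_c1 LD2_c26 LD3_c48)) = (LP (LK LD1_c3 LD2_c1 LD3_c35)) :=
  Lre_d IH (LK LD1_c1 LD2_c26 LD3_c48) (LK LD1_c3 LD2_c1 LD3_c35) Lrfl Lrfl
theorem f61744 : Led Lsl_ct (LP (LK LD1_c3 LD2_c1 LD3_c35)) = (LP (LK LD1_c6 LD2_c9 LD3_c61)) :=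
  Lre_c IH (LK LD1_c3 LD2_c1 LD3_c35) (LK LD1_c6 LD2_c9 LD3_c61) Lrfl Lrfl
theorem f154352 : Led Lsl_cf (LP (LK LD1_c0 LD2_c41 LD3_c60)) = (LP (LK LD1_c0 LD2_c21 LD3_c57)) :=
  Lgr Lrot97 (Lpr_bt (f154189 IH) (Lpr_ct (f82526 IH) (Lpr_bt (f154350 IH) (Lpr_ct (f9961 IH) (Lpr_bt (f9998 IH) (Lpn (LP (LK LD1_c0 LD2_c21 LD3_c57))))))))
theorem f10028 : Led Lsl_dt (LP (LK LD1_c0 LD2_c48 LD3_c57)) = (LP (LK LD1_c0 LD2_c21 LD3_c57)) :=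
  Lre_d IH (LK LD1_c0 LD2_c48 LD3_c57) (LK LD1_c0 LD2_c21 LD3_c57) Lrfl Lrfl
theorem f155120 : Led Lsl_ct (LP (LK LD1_c1 LD2_c44 LD3_c36)) = (LP (LK LD1_c0 LD2_c48 LD3_c57)) :=
  Lre_c IH (LK LD1_c1 LD2_c44 LD3_c36) (LK LD1_c0 LD2_c48 LD3_c57) Lrfl Lrfl
theorem f155168 : Led Lsl_dt (LP (LK LD1_c3 LD2_c35 LD3_c30)) = (LP (LK LD1_c1 LD2_c44 LD3_c36)) :=
  Lre_d IH (LK LD1_c3 LD2_c35 LD3_c30) (LK LD1_c1 LD2_c44 LD3_c36) Lrfl Lrfl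
theorem f155169 : Led Lsl_ct (LP (LK LD1_c7 LD2_c11 LD3_c52)) = (LP (LK LD1_c3 LD2_c35 LD3_c30)) :=
  Lre_c IH (LK LD1_c7 LD2_c11 LD3_c52) (LK LD1_c3 LD2_c35 LD3_c30) Lrfl Lrfl
theorem f155170 : Led Lsl_dt (LP (LK LD1_c6 LD2_c9 LD3_c61)) = (LP (LK LD1_c7 LD2_c11 LD3_c52)) :=
  Lgr Lrot32 (Lpe (f61744 IH) (Lpe (f61743 IH) (Lpr_ft (f155162 IH) (Lpr_at (f154312 IH) (Lpr_cf (f154352 IH) (Lpe (f10028 IH) (Lpe (f155120 IH) (Lpe (f155168 IH) (Lpe (f155169 IH) (Lpn (LP (LK LD1_c7 LD2_c11 LD3_c52))))))))))))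
theorem f154334 : Led Lsl_dt (LP (LK LD1_c0 LD2_c41 LD3_c60)) = (LP (LK LD1_c1 LD2_c31 LD3_c0)) :=
  Lre_d IH (LK LD1_c0 LD2_c41 LD3_c60) (LK LD1_c1 LD2_c31 LD3_c0) Lrfl Lrfl
theorem f155158 : Led Lsl_ct (LP (LK LD1_c1 LD2_c31 LD3_c0)) = (LP (LK LD1_c3 LD2_c9 LD3_c42)) :=
  Lre_c IH (LK LD1_c1 LD2_c31 LD3_c0) (LK LD1_c3 LD2_c9 LD3_c42) Lrfl Lrfl
theorem f155180 : Led Lsl_at (LP (LK LD1_c6 LD2_c24 LD3_c3)) = (LP (LK LD1_c3 LD2_c9 LD3_c42)) :=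
  Lre_a IH (LK LD1_c6 LD2_c24 LD3_c3) (LK LD1_c3 LD2_c9 LD3_c42) Lrfl Lrfl
theorem f155181 : Led Lsl_ft (LP (LK LD1_c6 LD2_c9 LD3_c61)) = (LP (LK LD1_c6 LD2_c24 LD3_c3)) :=
  Lgr Lrot142 (Lpr_dt (f155170 IH) (Lpr_ct (f155169 IH) (Lpr_dt (f155168 IH) (Lpr_ct (f155120 IH) (Lpr_dt (f10028 IH) (Lpe (f154352 IH) (Lpr_dt (f154334 IH) (Lpr_ct (f155158 IH) (Lpe (f155180 IH) (Lpn (LP (LK LD1_c6 LD2_c24 LD3_c3))))))))))))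
theorem f155190 : Led Lsl_ff (LP (LK LD1_c6 LD2_c9 LD3_c61)) = (LP (LK LD1_c6 LD2_c24 LD3_c3)) :=
  Lgr Lrot3 (Lpr_ft (f155181 IH) (Lpn (LP (LK LD1_c6 LD2_c24 LD3_c3))))
theorem f64514 : Led Lsl_ct (LP (LK LD1_c6 LD2_c9 LD3_c61)) = (LP (LK LD1_c3 LD2_c1 LD3_c35)) :=
  Lre_c IH (LK LD1_c6 LD2_c9 LD3_c61) (LK LD1_c3 LD2_c1 LD3_c35) Lrfl Lrfl
theorem f155196 : Led Lsl_ct (LP (LK LD1_c3 LD2_c9 LD3_c41)) = (LP (LK LD1_c6 LD2_c24 LD3_c3)) :=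
  Lre_c IH (LK LD1_c3 LD2_c9 LD3_c41) (LK LD1_c6 LD2_c24 LD3_c3) Lrfl Lrfl
theorem f155197 : Led Lsl_ft (LP (LK LD1_c3 LD2_c1 LD3_c35)) = (LP (LK LD1_c3 LD2_c9 LD3_c41)) :=
  Lgr Lrot4 (Lpe (f64514 IH) (Lpr_ff (f155190 IH) (Lpe (f155196 IH) (Lpn (LP (LK LD1_c3 LD2_c9 LD3_c41))))))
theorem f64484 : Led Lsl_et (LP (LK LD1_c0 LD2_c17 LD3_c61)) = (LP (LK LD1_c0 LD2_c40 LD3_c11)) :=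
  Lre_e IH (LK LD1_c0 LD2_c17 LD3_c61) (LK LD1_c0 LD2_c40 LD3_c11) Lrfl Lrfl
theorem f64487 : Led Lsl_gt (LP (LK LD1_c3 LD2_c1 LD3_c35)) = (LP (LK LD1_c1 LD2_c26 LD3_c55)) :=
  Lgr Lrot139 (Lpe (f61743 IH) (Lpe (f61742 IH) (Lpe (f64484 IH) (Lpr_dt (K1.f64294 IH) (Lpe (K2.f57109 IH) (Lpe (K1.f62960 IH) (Lpr_et (K3.f64485 IH) (Lpe (K1.f21160 IH) (Lpe (K4.f64486 IH) (Lpr_dt (K1.f61983 IH) (Lpn (LP (LK LD1_c1 LD2_c26 LD3_c55)))))))))))))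
theorem f155200 : Led Lsl_at (LP (LK LD1_c3 LD2_c9 LD3_c41)) = (LP (LK LD1_c1 LD2_c31 LD3_c0)) :=
  Lre_a IH (LK LD1_c3 LD2_c9 LD3_c41) (LK LD1_c1 LD2_c31 LD3_c0) Lrfl Lrfl
theorem f155201 : Led Lsl_gt (LP (LK LD1_c1 LD2_c26 LD3_c55)) = (LP (LK LD1_c1 LD2_c31 LD3_c0)) :=
  Lgr Lrot46 (Lpe (f64487 IH) (Lpr_ft (f155197 IH) (Lpr_at (f155200 IH) (Lpn (LP (LK LD1_c1 LD2_c31 LD3_c0))))))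
theorem f155207 : Led Lsl_gt (LP (LK LD1_c3 LD2_c9 LD3_c42)) = (LP (LK LD1_c6 LD2_c24 LD3_c5)) :=
  Lre_g IH (LK LD1_c3 LD2_c9 LD3_c42) (LK LD1_c6 LD2_c24 LD3_c5) Lrfl Lrfl
theorem f155208 : Led Lsl_cf (LP (LK LD1_c3 LD2_c31 LD3_c4)) = (LP (LK LD1_c6 LD2_c24 LD3_c5)) :=
  Lgr Lrot99 (Lpe (f64519 IH) (Lpe (K3.f64516 IH) (Lpe (K2.f7408 IH) (Lpe (K3.f11111 IH) (Lpe (K3.f64496 IH) (Lpe (K5.f61990 IH) (Lpr_gt (f155201 IH) (Lpr_ct (f155158 IH) (Lpr_gt (f155207 IH) (Lpn (LP (LK LD1_c6 LD2_c24 LD3_c5))))))))))))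
theorem f155251 : Led Lsl_ft (LP (LK LD1_c3 LD2_c53 LD3_c36)) = (LP (LK LD1_c6 LD2_c24 LD3_c5)) :=
  Lgr Lrot4 (Lpe (f86345 IH) (Lpr_ff (K3.f88818 IH) (Lpr_cf (f155208 IH) (Lpn (LP (LK LD1_c6 LD2_c24 LD3_c5))))))
theorem f155276 : Led Lsl_ff (LP (LK LD1_c3 LD2_c53 LD3_c36)) = (LP (LK LD1_c6 LD2_c24 LD3_c5)) :=
  Lgr Lrot3 (Lpr_ft (f155251 IH) (Lpn (LP (LK LD1_c6 LD2_c24 LD3_c5))))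
theorem f88717 : Led Lsl_ct (LP (LK LD1_c1 LD2_c41 LD3_c13)) = (LP (LK LD1_c3 LD2_c28 LD3_c58)) :=
  Lre_c IH (LK LD1_c1 LD2_c41 LD3_c13) (LK LD1_c3 LD2_c28 LD3_c58) Lrfl Lrfl
theorem f84997 : Led Lsl_dt (LP (LK LD1_c0 LD2_c47 LD3_c12)) = (LP (LK LD1_c1 LD2_c41 LD3_c13)) :=
  Lre_d IH (LK LD1_c0 LD2_c47 LD3_c12) (LK LD1_c1 LD2_c41 LD3_c13) Lrfl Lrfl
theorem f84995 : Led Lsl_ct (LP (LK LD1_c1 LD2_c41 LD3_c14)) = (LP (LK LD1_c0 LD2_c47 LD3_c13)) :=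
  Lre_c IH (LK LD1_c1 LD2_c41 LD3_c14) (LK LD1_c0 LD2_c47 LD3_c13) Lrfl Lrfl
theorem f155284 : Led Lsl_df (LP (LK LD1_c6 LD2_c59 LD3_c40)) = (LP (LK LD1_c6 LD2_c24 LD3_c5)) :=
  Lgr Lrot157 (Lpr_ct (K6.f88718 IH) (Lpr_dt (K5.f84993 IH) (Lpr_ct (f84995 IH) (Lpr_dt (K3.f84976 IH) (Lpr_ct (K4.f84996 IH) (Lpr_dt (f84997 IH) (Lpr_ct (f88717 IH) (Lpe (f88704 IH) (Lpr_ff (f155276 IH) (Lpn (LP (LK LD1_c6 LD2_c24 LD3_c5))))))))))))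
theorem f90812 : Led Lsl_ct (LP (LK LD1_c3 LD2_c15 LD3_c13)) = (LP (LK LD1_c1 LD2_c34 LD3_c15)) :=
  Lre_c IH (LK LD1_c3 LD2_c15 LD3_c13) (LK LD1_c1 LD2_c34 LD3_c15) Lrfl Lrfl
theorem f155292 : Led Lsl_gf (LP (LK LD1_c3 LD2_c2 LD3_c27)) = (LP (LK LD1_c1 LD2_c31 LD3_c0)) :=
  Lgr Lrot144 (Lpr_dt (K4.f84999 IH) (Lpr_gt (K3.f64494 IH) (Lpr_dt (K4.f62887 IH) (Lpe (f90812 IH) (Lpe (K5.f90633 IH) (Lpr_gf (K6.f143398 IH) (Lpr_df (f155284 IH) (Lpe (f155207 IH) (Lpe (f155158 IH) (Lpn (LP (LK LD1_c1 LD2_c31 LD3_c0))))))))))))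
theorem f105722 : Led Lsl_bt (LP (LK LD1_c6 LD2_c11 LD3_c44)) = (LP (LK LD1_c3 LD2_c2 LD3_c27)) :=
  Lre_b IH (LK LD1_c6 LD2_c11 LD3_c44) (LK LD1_c3 LD2_c2 LD3_c27) Lrfl Lrfl
theorem f154394 : Led Lsl_bt (LP (LK LD1_c0 LD2_c41 LD3_c61)) = (LP (LK LD1_c1 LD2_c31 LD3_c0)) :=
  Lre_b IH (LK LD1_c0 LD2_c41 LD3_c61) (LK LD1_c1 LD2_c31 LD3_c0) Lrfl Lrfl
theorem f25822 : Led Lsl_bt (LP (LK LD1_c1 LD2_c30 LD3_c39)) = (LP (LK LD1_c0 LD2_c41 LD3_c51)) :=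
  Lre_b IH (LK LD1_c1 LD2_c30 LD3_c39) (LK LD1_c0 LD2_c41 LD3_c51) Lrfl Lrfl
theorem f25825 : Led Lsl_ct (LP (LK LD1_c1 LD2_c30 LD3_c39)) = (LP (LK LD1_c3 LD2_c8 LD3_c61)) :=
  Lre_c IH (LK LD1_c1 LD2_c30 LD3_c39) (LK LD1_c3 LD2_c8 LD3_c61) Lrfl Lrfl
theorem f25826 : Led Lsl_gt (LP (LK LD1_c6 LD2_c22 LD3_c36)) = (LP (LK LD1_c3 LD2_c8 LD3_c61)) :=
  Lre_g IH (LK LD1_c6 LD2_c22 LD3_c36) (LK LD1_c3 LD2_c8 LD3_c61) Lrfl Lrfl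
theorem f155299 : Led Lsl_ct (LP (LK LD1_c6 LD2_c11 LD3_c44)) = (LP (LK LD1_c6 LD2_c22 LD3_c36)) :=
  Lgr Lrot64 (Lpr_bt (f105722 IH) (Lpr_gf (f155292 IH) (Lpe (f154394 IH) (Lpr_ct (f154184 IH) (Lpr_gf (f154383 IH) (Lpe (f25821 IH) (Lpe (K1.f25808 IH) (Lpe (f25822 IH) (Lpr_ct (f25825 IH) (Lpe (f25826 IH) (Lpn (LP (LK LD1_c6 LD2_c22 LD3_c36)))))))))))))
theorem f86354 : Led Lsl_dt (LP (LK LD1_c3 LD2_c2 LD3_c26)) = (LP (LK LD1_c6 LD2_c11 LD3_c44)) :=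
  Lre_d IH (LK LD1_c3 LD2_c2 LD3_c26) (LK LD1_c6 LD2_c11 LD3_c44) Lrfl Lrfl
theorem f67560 : Led Lsl_bt (LP (LK LD1_c3 LD2_c6 LD3_c38)) = (LP (LK LD1_c6 LD2_c18 LD3_c47)) :=
  Lre_b IH (LK LD1_c3 LD2_c6 LD3_c38) (LK LD1_c6 LD2_c18 LD3_c47) Lrfl Lrfl
theorem f67561 : Led Lsl_bt (LP (LK LD1_c6 LD2_c27 LD3_c57)) = (LP (LK LD1_c3 LD2_c11 LD3_c52)) :=
  Lre_b IH (LK LD1_c6 LD2_c27 LD3_c57) (LK LD1_c3 LD2_c11 LD3_c52) Lrfl Lrfl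
theorem f67562 : Led Lsl_ff (LP (LK LD1_c3 LD2_c6 LD3_c38)) = (LP (LK LD1_c3 LD2_c11 LD3_c52)) :=
  Lgr Lrot25 (Lpr_bt (f67560 IH) (Lpr_ft (K2.f67535 IH) (Lpr_bt (f67561 IH) (Lpn (LP (LK LD1_c3 LD2_c11 LD3_c52))))))
theorem f25132 : Led Lsl_at (LP (LK LD1_c3 LD2_c6 LD3_c38)) = (LP (LK LD1_c6 LD2_c18 LD3_c20)) :=
  Lre_a IH (LK LD1_c3 LD2_c6 LD3_c38) (LK LD1_c6 LD2_c18 LD3_c20) Lrfl Lrfl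
theorem f67956 : Led Lsl_gt (LP (LK LD1_c3 LD2_c11 LD3_c52)) = (LP (LK LD1_c6 LD2_c27 LD3_c55)) :=
  Lre_g IH (LK LD1_c3 LD2_c11 LD3_c52) (LK LD1_c6 LD2_c27 LD3_c55) Lrfl Lrfl
theorem f67957 : Led Lsl_gf (LP (LK LD1_c6 LD2_c18 LD3_c20)) = (LP (LK LD1_c6 LD2_c27 LD3_c55)) :=
  Lgr Lrot76 (Lpe (f25132 IH) (Lpr_ff (f67562 IH) (Lpr_gt (f67956 IH) (Lpn (LP (LK LD1_c6 LD2_c27 LD3_c55))))))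
theorem f133836 : Led Lsl_ct (LP (LK LD1_c6 LD2_c9 LD3_c56)) = (LP (LK LD1_c6 LD2_c27 LD3_c55)) :=
  Lgr Lrot152 (Lpr_gf (K5.f133826 IH) (Lpe (K5.f24393 IH) (Lpe (K5.f126612 IH) (Lpr_ct (K3.f77856 IH) (Lpe (K3.f79387 IH) (Lpe (K2.f25076 IH) (Lpe (K2.f25129 IH) (Lpe (K2.f25130 IH) (Lpr_gf (f67957 IH) (Lpn (LP (LK LD1_c6 LD2_c27 LD3_c55))))))))))))
theorem f133846 : Led Lsl_cf (LP (LK LD1_c6 LD2_c9 LD3_c56)) = (LP (LK LD1_c6 LD2_c27 LD3_c55)) :=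
  Lgr Lrot11 (Lpr_ct (f133836 IH) (Lpn (LP (LK LD1_c6 LD2_c27 LD3_c55))))
theorem f25128 : Led Lsl_dt (LP (LK LD1_c6 LD2_c18 LD3_c20)) = (LP (LK LD1_c12 LD2_c12 LD3_c43)) :=
  Lre_d IH (LK LD1_c6 LD2_c18 LD3_c20) (LK LD1_c12 LD2_c12 LD3_c43) Lrfl Lrfl
theorem f153406 : Led Lsl_dt (LP (LK LD1_c12 LD2_c18 LD3_c41)) = (LP (LK LD1_c6 LD2_c22 LD3_c36)) :=
  Lre_d IH (LK LD1_c12 LD2_c18 LD3_c41) (LK LD1_c6 LD2_c22 LD3_c36) Lrfl Lrfl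
theorem f155327 : Led Lsl_gt (LP (LK LD1_c12 LD2_c12 LD3_c43)) = (LP (LK LD1_c12 LD2_c18 LD3_c41)) :=
  Lgr Lrot189 (Lpe (f25128 IH) (Lpr_gf (f67957 IH) (Lpe (f133846 IH) (Lpe (K5.f126604 IH) (Lpr_dt (K5.f62643 IH) (Lpe (K5.f125404 IH) (Lpr_dt (f86354 IH) (Lpr_ct (f155299 IH) (Lpe (f153406 IH) (Lpn (LP (LK LD1_c12 LD2_c18 LD3_c41))))))))))))
theorem f67632 : Led Lsl_ft (LP (LK LD1_c6 LD2_c18 LD3_c48)) = (LP (LK LD1_c6 LD2_c27 LD3_c58)) :=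
  Lgr Lrot48 (Lpr_ff (K2.f67614 IH) (Lpn (LP (LK LD1_c6 LD2_c27 LD3_c58))))
theorem f67651 : Led Lsl_ft (LP (LK LD1_c12 LD2_c12 LD3_c43)) = (LP (LK LD1_c12 LD2_c13 LD3_c29)) :=
  Lgr Lrot4 (Lpr_cf (K2.f67639 IH) (Lpe (f67632 IH) (Lpe (K2.f25081 IH) (Lpn (LP (LK LD1_c12 LD2_c13 LD3_c29))))))
theorem f67641 : Led Lsl_at (LP (LK LD1_c12 LD2_c12 LD3_c43)) = (LP (LK LD1_c6 LD2_c18 LD3_c48)) :=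
  Lre_a IH (LK LD1_c12 LD2_c12 LD3_c43) (LK LD1_c6 LD2_c18 LD3_c48) Lrfl Lrfl
theorem f67642 : Led Lsl_at (LP (LK LD1_c12 LD2_c13 LD3_c29)) = (LP (LK LD1_c6 LD2_c27 LD3_c58)) :=
  Lgr Lrot107 (Lpe (K2.f25085 IH) (Lpe (f67641 IH) (Lpr_cf (K2.f67639 IH) (Lpn (LP (LK LD1_c6 LD2_c27 LD3_c58))))))
theorem f155330 : Led Lsl_gf (LP (LK LD1_c6 LD2_c27 LD3_c58)) = (LP (LK LD1_c12 LD2_c18 LD3_c41)) :=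
  Lgr Lrot76 (Lpe (f67642 IH) (Lpe (f67651 IH) (Lpr_gt (f155327 IH) (Lpn (LP (LK LD1_c12 LD2_c18 LD3_c41))))))
theorem f67960 : Led Lsl_dt (LP (LK LD1_c6 LD2_c27 LD3_c55)) = (LP (LK LD1_c12 LD2_c27 LD3_c7)) :=
  Lre_d IH (LK LD1_c6 LD2_c27 LD3_c55) (LK LD1_c12 LD2_c27 LD3_c7) Lrfl Lrfl
theorem f114910 : Led Lsl_cf (LP (LK LD1_c3 LD2_c1 LD3_c27)) = (LP (LK LD1_c2 LD2_c17 LD3_c59)) :=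
  Lgr Lrot39 (Lpr_et (K5.f77842 IH) (Lpr_ct (K4.f114908 IH) (Lpr_et (K4.f61228 IH) (Lpn (LP (LK LD1_c2 LD2_c17 LD3_c59))))))
theorem f67670 : Led Lsl_ct (LP (LK LD1_c6 LD2_c27 LD3_c51)) = (LP (LK LD1_c3 LD2_c11 LD3_c50)) :=
  Lre_c IH (LK LD1_c6 LD2_c27 LD3_c51) (LK LD1_c3 LD2_c11 LD3_c50) Lrfl Lrfl
theorem f114552 : Led Lsl_ff (LP (LK LD1_c3 LD2_c6 LD3_c37)) = (LP (LK LD1_c3 LD2_c11 LD3_c50)) :=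
  Lgr Lrot23 (Lpr_ct (K5.f67895 IH) (Lpr_ft (K5.f114544 IH) (Lpr_ct (f67670 IH) (Lpn (LP (LK LD1_c3 LD2_c11 LD3_c50))))))
theorem f114612 : Led Lsl_at (LP (LK LD1_c3 LD2_c6 LD3_c37)) = (LP (LK LD1_c3 LD2_c11 LD3_c51)) :=
  Lgr Lrot66 (Lpr_ff (f114552 IH) (Lpr_af (K4.f114496 IH) (Lpe (K5.f114504 IH) (Lpn (LP (LK LD1_c3 LD2_c11 LD3_c51))))))
theorem f133851 : Led Lsl_cf (LP (LK LD1_c12 LD2_c27 LD3_c3)) = (LP (LK LD1_c12 LD2_c27 LD3_c7)) :=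
  Lgr Lrot161 (Lpr_dt (K5.f67910 IH) (Lpr_ct (K5.f67913 IH) (Lpe (f114612 IH) (Lpr_ff (f114552 IH) (Lpe (K4.f79394 IH) (Lpe (f114910 IH) (Lpr_dt (K5.f78785 IH) (Lpr_ct (f133836 IH) (Lpr_dt (f67960 IH) (Lpn (LP (LK LD1_c12 LD2_c27 LD3_c7))))))))))))
theorem f67911 : Led Lsl_dt (LP (LK LD1_c6 LD2_c27 LD3_c53)) = (LP (LK LD1_c12 LD2_c27 LD3_c3)) :=
  Lre_d IH (LK LD1_c6 LD2_c27 LD3_c53) (LK LD1_c12 LD2_c27 LD3_c3) Lrfl Lrfl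
theorem f62638 : Led Lsl_dt (LP (LK LD1_c21 LD2_c4 LD3_c55)) = (LP (LK LD1_c12 LD2_c0 LD3_c5)) :=
  Lre_d IH (LK LD1_c21 LD2_c4 LD3_c55) (LK LD1_c12 LD2_c0 LD3_c5) Lrfl Lrfl
theorem f77960 : Led Lsl_ct (LP (LK LD1_c6 LD2_c18 LD3_c7)) = (LP (LK LD1_c3 LD2_c6 LD3_c18)) :=
  Lre_c IH (LK LD1_c6 LD2_c18 LD3_c7) (LK LD1_c3 LD2_c6 LD3_c18) Lrfl Lrfl
theorem f77969 : Led Lsl_dt (LP (LK LD1_c12 LD2_c12 LD3_c24)) = (LP (LK LD1_c6 LD2_c18 LD3_c7)) :=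
  Lre_d IH (LK LD1_c12 LD2_c12 LD3_c24) (LK LD1_c6 LD2_c18 LD3_c7) Lrfl Lrfl
theorem f134033 : Led Lsl_gt (LP (LK LD1_c21 LD2_c5 LD3_c60)) = (LP (LK LD1_c12 LD2_c12 LD3_c24)) :=
  Lgr Lrot49 (Lpe (K5.f133988 IH) (Lpr_gf (K5.f134029 IH) (Lpe (K5.f67909 IH) (Lpr_gt (K5.f67906 IH) (Lpr_dt (K2.f67636 IH) (Lpr_gt (K3.f79389 IH) (Lpr_dt (K5.f77799 IH) (Lpe (f77960 IH) (Lpe (f77969 IH) (Lpn (LP (LK LD1_c12 LD2_c12 LD3_c24))))))))))))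
theorem f134013 : Led Lsl_ff (LP (LK LD1_c21 LD2_c18 LD3_c22)) = (LP (LK LD1_c21 LD2_c5 LD3_c60)) :=
  Lgr Lrot19 (Lpr_dt (K5.f78182 IH) (Lpr_ft (K5.f134007 IH) (Lpr_dt (K5.f133988 IH) (Lpn (LP (LK LD1_c21 LD2_c5 LD3_c60))))))
theorem f24395 : Led Lsl_dt (LP (LK LD1_c6 LD2_c32 LD3_c52)) = (LP (LK LD1_c12 LD2_c33 LD3_c6)) :=
  Lre_d IH (LK LD1_c6 LD2_c32 LD3_c52) (LK LD1_c12 LD2_c33 LD3_c6) Lrfl Lrfl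
theorem f62636 : Led Lsl_dt (LP (LK LD1_c6 LD2_c9 LD3_c32)) = (LP (LK LD1_c3 LD2_c1 LD3_c13)) :=
  Lre_d IH (LK LD1_c6 LD2_c9 LD3_c32) (LK LD1_c3 LD2_c1 LD3_c13) Lrfl Lrfl
theorem f134023 : Led Lsl_cf (LP (LK LD1_c21 LD2_c4 LD3_c55)) = (LP (LK LD1_c12 LD2_c33 LD3_c6)) :=
  Lgr Lrot55 (Lpr_dt (f62638 IH) (Lpr_ct (K5.f62637 IH) (Lpr_dt (f62636 IH) (Lpe (K2.f62629 IH) (Lpr_dt (K5.f62635 IH) (Lpe (K5.f125418 IH) (Lpr_dt (K5.f78170 IH) (Lpr_ct (K5.f133991 IH) (Lpr_dt (K5.f126719 IH) (Lpr_ct (K5.f114546 IH) (Lpr_dt (K5.f134017 IH) (Lpr_ct (K5.f24348 IH) (Lpr_dt (K5.f24393 IH) (Lpr_ct (K5.f24394 IH) (Lpr_dt (f24395 IH) (Lpn (LP (LK LD1_c12 LD2_c33 LD3_c6))))))))))))))))))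
theorem f134025 : Led Lsl_at (LP (LK LD1_c21 LD2_c18 LD3_c22)) = (LP (LK LD1_c21 LD2_c4 LD3_c55)) :=
  Lgr Lrot33 (Lpr_ff (f134013 IH) (Lpr_dt (K5.f126719 IH) (Lpr_ct (K5.f114546 IH) (Lpr_dt (K5.f134017 IH) (Lpr_ct (K5.f24348 IH) (Lpr_dt (K5.f24393 IH) (Lpr_ct (K5.f24394 IH) (Lpr_dt (f24395 IH) (Lpe (f134023 IH) (Lpn (LP (LK LD1_c21 LD2_c4 LD3_c55))))))))))))
theorem f134039 : Led Lsl_gf (LP (LK LD1_c21 LD2_c4 LD3_c55)) = (LP (LK LD1_c12 LD2_c12 LD3_c24)) :=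
  Lgr Lrot76 (Lpe (f134025 IH) (Lpr_ff (f134013 IH) (Lpr_gt (f134033 IH) (Lpn (LP (LK LD1_c12 LD2_c12 LD3_c24))))))
theorem f155338 : Led Lsl_ct (LP (LK LD1_c12 LD2_c12 LD3_c24)) = (LP (LK LD1_c12 LD2_c18 LD3_c41)) :=
  Lgr Lrot8 (Lpe (f134039 IH) (Lpr_dt (f62638 IH) (Lpr_gt (K5.f134055 IH) (Lpr_dt (f67911 IH) (Lpr_cf (f133851 IH) (Lpe (f67960 IH) (Lpe (f67956 IH) (Lpe (K2.f67634 IH) (Lpr_gf (f155330 IH) (Lpn (LP (LK LD1_c12 LD2_c18 LD3_c41))))))))))))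
theorem f67692 : Led Lsl_gt (LP (LK LD1_c3 LD2_c6 LD3_c37)) = (LP (LK LD1_c3 LD2_c11 LD3_c49)) :=
  Lgr Lrot46 (Lpe (K5.f67691 IH) (Lpr_ft (K2.f67666 IH) (Lpr_at (K2.f67684 IH) (Lpn (LP (LK LD1_c3 LD2_c11 LD3_c49))))))
theorem f67716 : Led Lsl_gt (LP (LK LD1_c12 LD2_c13 LD3_c28)) = (LP (LK LD1_c6 LD2_c18 LD3_c48)) :=
  Lre_g IH (LK LD1_c12 LD2_c13 LD3_c28) (LK LD1_c6 LD2_c18 LD3_c48) Lrfl Lrfl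
theorem f25070 : Led Lsl_dt (LP (LK LD1_c1 LD2_c29 LD3_c23)) = (LP (LK LD1_c3 LD2_c6 LD3_c35)) :=
  Lre_d IH (LK LD1_c1 LD2_c29 LD3_c23) (LK LD1_c3 LD2_c6 LD3_c35) Lrfl Lrfl
theorem f25071 : Led Lsl_ct (LP (LK LD1_c3 LD2_c6 LD3_c35)) = (LP (LK LD1_c6 LD2_c18 LD3_c41)) :=
  Lre_c IH (LK LD1_c3 LD2_c6 LD3_c35) (LK LD1_c6 LD2_c18 LD3_c41) Lrfl Lrfl
theorem f78168 : Led Lsl_dt (LP (LK LD1_c12 LD2_c13 LD3_c13)) = (LP (LK LD1_c6 LD2_c18 LD3_c41)) :=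
  Lre_d IH (LK LD1_c12 LD2_c13 LD3_c13) (LK LD1_c6 LD2_c18 LD3_c41) Lrfl Lrfl
theorem f78171 : Led Lsl_gf (LP (LK LD1_c12 LD2_c13 LD3_c13)) = (LP (LK LD1_c21 LD2_c18 LD3_c22)) :=
  Lgr Lrot143 (Lpr_dt (f78168 IH) (Lpe (f25071 IH) (Lpe (f25070 IH) (Lpe (K3.f25064 IH) (Lpe (K2.f25078 IH) (Lpr_gf (K5.f78164 IH) (Lpe (K5.f61731 IH) (Lpr_gt (K5.f78169 IH) (Lpr_dt (K5.f78170 IH) (Lpn (LP (LK LD1_c21 LD2_c18 LD3_c22))))))))))))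
theorem f114627 : Led Lsl_cf (LP (LK LD1_c12 LD2_c13 LD3_c28)) = (LP (LK LD1_c12 LD2_c13 LD3_c13)) :=
  Lgr Lrot169 (Lpr_gt (f67716 IH) (Lpr_ct (K2.f25085 IH) (Lpr_df (K2.f67705 IH) (Lpe (K2.f67711 IH) (Lpe (f67692 IH) (Lpe (K5.f67717 IH) (Lpr_gf (K5.f114625 IH) (Lpe (K5.f78182 IH) (Lpe (f78171 IH) (Lpn (LP (LK LD1_c12 LD2_c13 LD3_c13))))))))))))
theorem f78187 : Led Lsl_dt (LP (LK LD1_c6 LD2_c18 LD3_c41)) = (LP (LK LD1_c12 LD2_c13 LD3_c13)) :=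
  Lre_d IH (LK LD1_c6 LD2_c18 LD3_c41) (LK LD1_c12 LD2_c13 LD3_c13) Lrfl Lrfl
theorem f84310 : Led Lsl_dt (LP (LK LD1_c3 LD2_c18 LD3_c49)) = (LP (LK LD1_c1 LD2_c35 LD3_c50)) :=
  Lre_d IH (LK LD1_c3 LD2_c18 LD3_c49) (LK LD1_c1 LD2_c35 LD3_c50) Lrfl Lrfl
theorem f84311 : Led Lsl_ct (LP (LK LD1_c6 LD2_c41 LD3_c30)) = (LP (LK LD1_c3 LD2_c18 LD3_c49)) :=
  Lre_c IH (LK LD1_c6 LD2_c41 LD3_c30) (LK LD1_c3 LD2_c18 LD3_c49) Lrfl Lrfl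
theorem f114633 : Led Lsl_dt (LP (LK LD1_c12 LD2_c13 LD3_c28)) = (LP (LK LD1_c6 LD2_c41 LD3_c30)) :=
  Lgr Lrot140 (Lpr_cf (f114627 IH) (Lpe (f78187 IH) (Lpe (f25071 IH) (Lpe (f25070 IH) (Lpr_ft (K4.f113895 IH) (Lpe (K4.f113889 IH) (Lpe (K4.f84304 IH) (Lpe (f84310 IH) (Lpe (f84311 IH) (Lpn (LP (LK LD1_c6 LD2_c41 LD3_c30))))))))))))
theorem f67892 : Led Lsl_ct (LP (LK LD1_c3 LD2_c6 LD3_c36)) = (LP (LK LD1_c6 LD2_c18 LD3_c43)) :=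
  Lre_c IH (LK LD1_c3 LD2_c6 LD3_c36) (LK LD1_c6 LD2_c18 LD3_c43) Lrfl Lrfl
theorem f67894 : Led Lsl_ct (LP (LK LD1_c6 LD2_c18 LD3_c43)) = (LP (LK LD1_c3 LD2_c6 LD3_c36)) :=
  Lre_c IH (LK LD1_c6 LD2_c18 LD3_c43) (LK LD1_c3 LD2_c6 LD3_c36) Lrfl Lrfl
theorem f77938 : Led Lsl_ct (LP (LK LD1_c3 LD2_c6 LD3_c18)) = (LP (LK LD1_c6 LD2_c18 LD3_c7)) :=
  Lre_c IH (LK LD1_c3 LD2_c6 LD3_c18) (LK LD1_c6 LD2_c18 LD3_c7) Lrfl Lrfl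
theorem f113887 : Led Lsl_af (LP (LK LD1_c6 LD2_c18 LD3_c43)) = (LP (LK LD1_c6 LD2_c18 LD3_c7)) :=
  Lgr Lrot68 (Lpr_ct (f67894 IH) (Lpr_at (K4.f113883 IH) (Lpr_ct (f77938 IH) (Lpn (LP (LK LD1_c6 LD2_c18 LD3_c7))))))
theorem f114635 : Led Lsl_ff (LP (LK LD1_c6 LD2_c18 LD3_c7)) = (LP (LK LD1_c6 LD2_c18 LD3_c41)) :=
  Lgr Lrot103 (Lpe (f113887 IH) (Lpe (f67892 IH) (Lpe (K4.f25091 IH) (Lpe (K4.f84304 IH) (Lpe (f84310 IH) (Lpe (f84311 IH) (Lpe (f114633 IH) (Lpr_cf (f114627 IH) (Lpe (f78187 IH) (Lpn (LP (LK LD1_c6 LD2_c18 LD3_c41))))))))))))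
theorem f114645 : Led Lsl_ft (LP (LK LD1_c6 LD2_c18 LD3_c7)) = (LP (LK LD1_c6 LD2_c18 LD3_c41)) :=
  Lgr Lrot48 (Lpr_ff (f114635 IH) (Lpn (LP (LK LD1_c6 LD2_c18 LD3_c41))))
theorem f114649 : Led Lsl_ff (LP (LK LD1_c12 LD2_c12 LD3_c24)) = (LP (LK LD1_c12 LD2_c13 LD3_c13)) :=
  Lgr Lrot19 (Lpr_dt (f77969 IH) (Lpr_ft (f114645 IH) (Lpr_dt (f78187 IH) (Lpn (LP (LK LD1_c12 LD2_c13 LD3_c13))))))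
theorem f114631 : Led Lsl_ct (LP (LK LD1_c12 LD2_c13 LD3_c28)) = (LP (LK LD1_c12 LD2_c13 LD3_c13)) :=
  Lgr Lrot59 (Lpr_cf (f114627 IH) (Lpn (LP (LK LD1_c12 LD2_c13 LD3_c13))))
theorem f155360 : Led Lsl_ff (LP (LK LD1_c12 LD2_c13 LD3_c28)) = (LP (LK LD1_c12 LD2_c18 LD3_c41)) :=
  Lgr Lrot23 (Lpr_ct (f114631 IH) (Lpe (f114649 IH) (Lpr_ct (f155338 IH) (Lpn (LP (LK LD1_c12 LD2_c18 LD3_c41))))))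
theorem f155364 : Led Lsl_ft (LP (LK LD1_c12 LD2_c13 LD3_c28)) = (LP (LK LD1_c12 LD2_c18 LD3_c41)) :=
  Lgr Lrot48 (Lpr_ff (f155360 IH) (Lpn (LP (LK LD1_c12 LD2_c18 LD3_c41))))
theorem f84312 : Led Lsl_dt (LP (LK LD1_c6 LD2_c18 LD3_c43)) = (LP (LK LD1_c12 LD2_c13 LD3_c18)) :=
  Lre_d IH (LK LD1_c6 LD2_c18 LD3_c43) (LK LD1_c12 LD2_c13 LD3_c18) Lrfl Lrfl
theorem f67734 : Led Lsl_gt (LP (LK LD1_c6 LD2_c18 LD3_c48)) = (LP (LK LD1_c12 LD2_c13 LD3_c27)) :=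
  Lre_g IH (LK LD1_c6 LD2_c18 LD3_c48) (LK LD1_c12 LD2_c13 LD3_c27) Lrfl Lrfl
theorem f155366 : Led Lsl_af (LP (LK LD1_c12 LD2_c13 LD3_c27)) = (LP (LK LD1_c12 LD2_c18 LD3_c41)) :=
  Lgr Lrot31 (Lpe (f67734 IH) (Lpe (f67716 IH) (Lpr_ft (f155364 IH) (Lpn (LP (LK LD1_c12 LD2_c18 LD3_c41))))))
theorem f155368 : Led Lsl_ct (LP (LK LD1_c12 LD2_c13 LD3_c18)) = (LP (LK LD1_c12 LD2_c13 LD3_c27)) :=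
  Lgr Lrot98 (Lpe (f84312 IH) (Lpe (f67892 IH) (Lpe (K4.f25091 IH) (Lpe (K4.f84304 IH) (Lpe (f84310 IH) (Lpe (f84311 IH) (Lpe (f114633 IH) (Lpr_ft (f155364 IH) (Lpe (f155366 IH) (Lpn (LP (LK LD1_c12 LD2_c13 LD3_c27))))))))))))
theorem f67698 : Led Lsl_af (LP (LK LD1_c12 LD2_c13 LD3_c29)) = (LP (LK LD1_c6 LD2_c27 LD3_c58)) :=
  Lgr Lrot117 (Lpr_dt (K2.f67695 IH) (Lpr_at (K2.f67697 IH) (Lpr_dt (K2.f67625 IH) (Lpn (LP (LK LD1_c6 LD2_c27 LD3_c58))))))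
theorem f67901 : Led Lsl_gf (LP (LK LD1_c12 LD2_c13 LD3_c29)) = (LP (LK LD1_c12 LD2_c13 LD3_c27)) :=
  Lgr Lrot76 (Lpr_af (f67698 IH) (Lpe (f67632 IH) (Lpr_gt (f67734 IH) (Lpn (LP (LK LD1_c12 LD2_c13 LD3_c27))))))
theorem f24378 : Led Lsl_dt (LP (LK LD1_c12 LD2_c33 LD3_c6)) = (LP (LK LD1_c6 LD2_c32 LD3_c52)) :=
  Lre_d IH (LK LD1_c12 LD2_c33 LD3_c6) (LK LD1_c6 LD2_c32 LD3_c52) Lrfl Lrfl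
theorem f155379 : Led Lsl_gf (LP (LK LD1_c12 LD2_c13 LD3_c18)) = (LP (LK LD1_c12 LD2_c33 LD3_c6)) :=
  Lgr Lrot147 (Lpr_ct (f155368 IH) (Lpe (f67901 IH) (Lpr_ct (K2.f25081 IH) (Lpe (K2.f25084 IH) (Lpe (K2.f25083 IH) (Lpr_gf (K5.f78164 IH) (Lpe (K5.f61731 IH) (Lpr_gf (K6.f134231 IH) (Lpe (f24378 IH) (Lpn (LP (LK LD1_c12 LD2_c33 LD3_c6))))))))))))
theorem f134229 : Led Lsl_ft (LP (LK LD1_c12 LD2_c0 LD3_c5)) = (LP (LK LD1_c6 LD2_c32 LD3_c52)) :=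
  Lgr Lrot48 (Lpr_ff (K6.f134221 IH) (Lpn (LP (LK LD1_c6 LD2_c32 LD3_c52))))
theorem f134257 : Led Lsl_ff (LP (LK LD1_c21 LD2_c4 LD3_c55)) = (LP (LK LD1_c12 LD2_c33 LD3_c6)) :=
  Lgr Lrot19 (Lpr_dt (f62638 IH) (Lpr_ft (f134229 IH) (Lpr_dt (f24395 IH) (Lpn (LP (LK LD1_c12 LD2_c33 LD3_c6))))))
theorem f134263 : Led Lsl_at (LP (LK LD1_c21 LD2_c4 LD3_c55)) = (LP (LK LD1_c21 LD2_c18 LD3_c22)) :=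
  Lgr Lrot33 (Lpr_ff (f134257 IH) (Lpr_dt (f24378 IH) (Lpr_ct (K5.f24377 IH) (Lpr_dt (K5.f24376 IH) (Lpe (K3.f24368 IH) (Lpr_dt (K5.f126716 IH) (Lpr_ct (K5.f126718 IH) (Lpr_dt (K5.f133988 IH) (Lpe (K5.f133989 IH) (Lpn (LP (LK LD1_c21 LD2_c18 LD3_c22))))))))))))
theorem f134265 : Led Lsl_af (LP (LK LD1_c12 LD2_c33 LD3_c6)) = (LP (LK LD1_c21 LD2_c5 LD3_c60)) :=
  Lgr Lrot68 (Lpe (f134023 IH) (Lpr_at (f134263 IH) (Lpr_ct (K5.f133991 IH) (Lpn (LP (LK LD1_c21 LD2_c5 LD3_c60))))))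
theorem f134005 : Led Lsl_ft (LP (LK LD1_c21 LD2_c18 LD3_c22)) = (LP (LK LD1_c21 LD2_c5 LD3_c60)) :=
  Lgr Lrot54 (Lpe (K5.f78170 IH) (Lpr_ff (K5.f133998 IH) (Lpe (K5.f126719 IH) (Lpn (LP (LK LD1_c21 LD2_c5 LD3_c60))))))
theorem f134272 : Led Lsl_gf (LP (LK LD1_c12 LD2_c33 LD3_c6)) = (LP (LK LD1_c12 LD2_c13 LD3_c13)) :=
  Lgr Lrot76 (Lpr_af (f134265 IH) (Lpe (f134005 IH) (Lpe (f78171 IH) (Lpn (LP (LK LD1_c12 LD2_c13 LD3_c13))))))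
theorem f155385 : Led Lsl_af (LP (LK LD1_c12 LD2_c13 LD3_c18)) = (LP (LK LD1_c12 LD2_c12 LD3_c24)) :=
  Lgr Lrot31 (Lpr_gf (f155379 IH) (Lpr_gf (f134272 IH) (Lpe (f114649 IH) (Lpn (LP (LK LD1_c12 LD2_c12 LD3_c24))))))
theorem f153407 : Led Lsl_dt (LP (LK LD1_c6 LD2_c22 LD3_c36)) = (LP (LK LD1_c12 LD2_c18 LD3_c41)) :=
  Lre_d IH (LK LD1_c6 LD2_c22 LD3_c36) (LK LD1_c12 LD2_c18 LD3_c41) Lrfl Lrfl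
theorem f155320 : Led Lsl_cf (LP (LK LD1_c12 LD2_c12 LD3_c24)) = (LP (LK LD1_c12 LD2_c18 LD3_c41)) :=
  Lgr Lrot116 (Lpr_dt (f77969 IH) (Lpr_ct (f77960 IH) (Lpr_dt (K4.f77861 IH) (Lpr_ct (K2.f77858 IH) (Lpe (K5.f113893 IH) (Lpr_ff (K4.f113924 IH) (Lpr_dt (f86354 IH) (Lpr_ct (f155299 IH) (Lpr_dt (f153407 IH) (Lpn (LP (LK LD1_c12 LD2_c18 LD3_c41))))))))))))
theorem f155392 : Led Lsl_at (LP (LK LD1_c12 LD2_c13 LD3_c27)) = (LP (LK LD1_c12 LD2_c18 LD3_c41)) :=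
  Lgr Lrot107 (Lpe (f155368 IH) (Lpr_af (f155385 IH) (Lpr_cf (f155320 IH) (Lpn (LP (LK LD1_c12 LD2_c18 LD3_c41))))))
theorem f25127 : Led Lsl_ct (LP (LK LD1_c3 LD2_c6 LD3_c25)) = (LP (LK LD1_c6 LD2_c18 LD3_c20)) :=
  Lre_c IH (LK LD1_c3 LD2_c6 LD3_c25) (LK LD1_c6 LD2_c18 LD3_c20) Lrfl Lrfl
theorem f25823 : Led Lsl_ct (LP (LK LD1_c3 LD2_c8 LD3_c61)) = (LP (LK LD1_c1 LD2_c30 LD3_c39)) :=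
  Lre_c IH (LK LD1_c3 LD2_c8 LD3_c61) (LK LD1_c1 LD2_c30 LD3_c39) Lrfl Lrfl
theorem f135346 : Led Lsl_gt (LP (LK LD1_c3 LD2_c8 LD3_c61)) = (LP (LK LD1_c6 LD2_c22 LD3_c35)) :=
  Lre_g IH (LK LD1_c3 LD2_c8 LD3_c61) (LK LD1_c6 LD2_c22 LD3_c35) Lrfl Lrfl
theorem f135347 : Led Lsl_dt (LP (LK LD1_c6 LD2_c22 LD3_c35)) = (LP (LK LD1_c12 LD2_c18 LD3_c39)) :=
  Lre_d IH (LK LD1_c6 LD2_c22 LD3_c35) (LK LD1_c12 LD2_c18 LD3_c39) Lrfl Lrfl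
theorem f153403 : Led Lsl_gf (LP (LK LD1_c12 LD2_c12 LD3_c43)) = (LP (LK LD1_c12 LD2_c18 LD3_c39)) :=
  Lgr Lrot143 (Lpr_dt (K2.f25131 IH) (Lpe (f25127 IH) (Lpe (K4.f25126 IH) (Lpr_gf (K3.f79387 IH) (Lpe (K4.f77861 IH) (Lpr_gf (f153399 IH) (Lpe (f25823 IH) (Lpr_gt (f135346 IH) (Lpr_dt (f135347 IH) (Lpn (LP (LK LD1_c12 LD2_c18 LD3_c39))))))))))))
theorem f155415 : Led Lsl_ff (LP (LK LD1_c12 LD2_c13 LD3_c27)) = (LP (LK LD1_c12 LD2_c18 LD3_c39)) :=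
  Lgr Lrot52 (Lpr_at (f155392 IH) (Lpe (f155327 IH) (Lpr_gf (f153403 IH) (Lpn (LP (LK LD1_c12 LD2_c18 LD3_c39))))))
theorem f155417 : Led Lsl_dt (LP (LK LD1_c12 LD2_c18 LD3_c39)) = (LP (LK LD1_c6 LD2_c22 LD3_c35)) :=
  Lre_d IH (LK LD1_c12 LD2_c18 LD3_c39) (LK LD1_c6 LD2_c22 LD3_c35) Lrfl Lrfl
theorem f113913 : Led Lsl_dt (LP (LK LD1_c6 LD2_c18 LD3_c7)) = (LP (LK LD1_c12 LD2_c12 LD3_c24)) :=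
  Lre_d IH (LK LD1_c6 LD2_c18 LD3_c7) (LK LD1_c12 LD2_c12 LD3_c24) Lrfl Lrfl
theorem f77859 : Led Lsl_dt (LP (LK LD1_c6 LD2_c18 LD3_c2)) = (LP (LK LD1_c3 LD2_c6 LD3_c15)) :=
  Lre_d IH (LK LD1_c6 LD2_c18 LD3_c2) (LK LD1_c3 LD2_c6 LD3_c15) Lrfl Lrfl
theorem f155418 : Led Lsl_ct (LP (LK LD1_c6 LD2_c22 LD3_c35)) = (LP (LK LD1_c6 LD2_c18 LD3_c2)) :=
  Lgr Lrot133 (Lpe (f155417 IH) (Lpe (f155415 IH) (Lpr_at (f155392 IH) (Lpe (f155338 IH) (Lpe (f113913 IH) (Lpe (f77938 IH) (Lpe (K5.f77799 IH) (Lpe (K3.f77856 IH) (Lpe (f77859 IH) (Lpn (LP (LK LD1_c6 LD2_c18 LD3_c2))))))))))))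
theorem f83129 : Led Lsl_gt (LP (LK LD1_c3 LD2_c8 LD3_c60)) = (LP (LK LD1_c1 LD2_c30 LD3_c39)) :=
  Lre_g IH (LK LD1_c3 LD2_c8 LD3_c60) (LK LD1_c1 LD2_c30 LD3_c39) Lrfl Lrfl
theorem f155424 : Led Lsl_df (LP (LK LD1_c3 LD2_c8 LD3_c60)) = (LP (LK LD1_c1 LD2_c32 LD3_c15)) :=
  Lgr Lrot155 (Lpr_gt (f83129 IH) (Lpr_ct (f25825 IH) (Lpr_gt (f135346 IH) (Lpr_ct (f155418 IH) (Lpr_dt (f77859 IH) (Lpe (K2.f77858 IH) (Lpe (K3.f79389 IH) (Lpe (K2.f67357 IH) (Lpe (K3.f67365 IH) (Lpn (LP (LK LD1_c1 LD2_c32 LD3_c15))))))))))))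
theorem f83126 : Led Lsl_dt (LP (LK LD1_c1 LD2_c30 LD3_c39)) = (LP (LK LD1_c0 LD2_c41 LD3_c50)) :=
  Lre_d IH (LK LD1_c1 LD2_c30 LD3_c39) (LK LD1_c0 LD2_c41 LD3_c50) Lrfl Lrfl
theorem f155443 : Led Lsl_ct (LP (LK LD1_c0 LD2_c41 LD3_c50)) = (LP (LK LD1_c0 LD2_c41 LD3_c50)) :=
  Lgr Lrot7 (Lpe (f83126 IH) (Lpe (f83129 IH) (Lpr_df (f155424 IH) (Lpe (K3.f67898 IH) (Lpr_cf (K2.f25076 IH) (Lpr_gt (K3.f67898 IH) (Lpe (f155424 IH) (Lpr_gt (f83129 IH) (Lpr_dt (f83126 IH) (Lpn (LP (LK LD1_c0 LD2_c41 LD3_c50))))))))))))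
theorem f61748 : Led Lsl_gt (LP (LK LD1_c3 LD2_c1 LD3_c29)) = (LP (LK LD1_c1 LD2_c26 LD3_c45)) :=
  Lre_g IH (LK LD1_c3 LD2_c1 LD3_c29) (LK LD1_c1 LD2_c26 LD3_c45) Lrfl Lrfl
theorem f61760 : Led Lsl_dt (LP (LK LD1_c3 LD2_c1 LD3_c29)) = (LP (LK LD1_c6 LD2_c9 LD3_c57)) :=
  Lre_d IH (LK LD1_c3 LD2_c1 LD3_c29) (LK LD1_c6 LD2_c9 LD3_c57) Lrfl Lrfl
theorem f155454 : Led Lsl_gt (LP (LK LD1_c6 LD2_c9 LD3_c57)) = (LP (LK LD1_c6 LD2_c11 LD3_c44)) :=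
  Lgr Lrot9 (Lpe (f61760 IH) (Lpr_gt (f61748 IH) (Lpe (K2.f61728 IH) (Lpr_gt (f153394 IH) (Lpr_ct (f155443 IH) (Lpe (f83126 IH) (Lpe (f25823 IH) (Lpe (f25826 IH) (Lpe (f155299 IH) (Lpn (LP (LK LD1_c6 LD2_c11 LD3_c44))))))))))))
theorem f155462 : Led Lsl_ct (LP (LK LD1_c6 LD2_c9 LD3_c57)) = (LP (LK LD1_c12 LD2_c0 LD3_c45)) :=
  Lre_c IH (LK LD1_c6 LD2_c9 LD3_c57) (LK LD1_c12 LD2_c0 LD3_c45) Lrfl Lrfl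
theorem f155463 : Led Lsl_gt (LP (LK LD1_c12 LD2_c0 LD3_c45)) = (LP (LK LD1_c6 LD2_c18 LD3_c41)) :=
  Lgr Lrot94 (Lpe (f155462 IH) (Lpr_gt (f155454 IH) (Lpr_dt (K4.f86147 IH) (Lpr_gt (K5.f126614 IH) (Lpr_dt (K5.f24393 IH) (Lpe (K5.f24377 IH) (Lpe (f24378 IH) (Lpr_gf (f134272 IH) (Lpe (f78187 IH) (Lpn (LP (LK LD1_c6 LD2_c18 LD3_c41))))))))))))
theorem f78173 : Led Lsl_ct (LP (LK LD1_c6 LD2_c18 LD3_c41)) = (LP (LK LD1_c3 LD2_c6 LD3_c35)) :=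
  Lre_c IH (LK LD1_c6 LD2_c18 LD3_c41) (LK LD1_c3 LD2_c6 LD3_c35) Lrfl Lrfl
theorem f155482 : Led Lsl_gf (LP (LK LD1_c6 LD2_c9 LD3_c57)) = (LP (LK LD1_c6 LD2_c18 LD3_c2)) :=
  Lgr Lrot147 (Lpr_ct (f155462 IH) (Lpr_gt (f155463 IH) (Lpr_ct (f78173 IH) (Lpe (f25070 IH) (Lpe (K3.f25093 IH) (Lpr_gf (K5.f125413 IH) (Lpe (K5.f62611 IH) (Lpe (K5.f125407 IH) (Lpe (f77859 IH) (Lpn (LP (LK LD1_c6 LD2_c18 LD3_c2))))))))))))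
theorem f77817 : Led Lsl_dt (LP (LK LD1_c3 LD2_c6 LD3_c15)) = (LP (LK LD1_c6 LD2_c18 LD3_c2)) :=
  Lre_d IH (LK LD1_c3 LD2_c6 LD3_c15) (LK LD1_c6 LD2_c18 LD3_c2) Lrfl Lrfl
theorem f155484 : Led Lsl_et (LP (LK LD1_c3 LD2_c1 LD3_c29)) = (LP (LK LD1_c3 LD2_c1 LD3_c29)) :=
  Lgr Lrot121 (Lpr_dt (f61760 IH) (Lpr_gf (f155482 IH) (Lpe (f77817 IH) (Lpr_et (K2.f77816 IH) (Lpr_gf (K2.f77794 IH) (Lpe (K5.f62650 IH) (Lpr_dt (K5.f62646 IH) (Lpr_gf (K5.f126610 IH) (Lpe (K5.f61733 IH) (Lpe (f61748 IH) (Lpn (LP (LK LD1_c3 LD2_c1 LD3_c29)))))))))))))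
theorem f83113 : Led Lsl_bt (LP (LK LD1_c0 LD2_c41 LD3_c50)) = (LP (LK LD1_c0 LD2_c18 LD3_c40)) :=
  Lre_b IH (LK LD1_c0 LD2_c41 LD3_c50) (LK LD1_c0 LD2_c18 LD3_c40) Lrfl Lrfl
theorem f104633 : Led Lsl_gt (LP (LK LD1_c0 LD2_c41 LD3_c43)) = (LP (LK LD1_c1 LD2_c29 LD3_c56)) :=
  Lre_g IH (LK LD1_c0 LD2_c41 LD3_c43) (LK LD1_c1 LD2_c29 LD3_c56) Lrfl Lrfl
theorem f104656 : Led Lsl_ct (LP (LK LD1_c3 LD2_c7 LD3_c26)) = (LP (LK LD1_c1 LD2_c29 LD3_c56)) :=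
  Lre_c IH (LK LD1_c3 LD2_c7 LD3_c26) (LK LD1_c1 LD2_c29 LD3_c56) Lrfl Lrfl
theorem f155456 : Led Lsl_bt (LP (LK LD1_c3 LD2_c7 LD3_c26)) = (LP (LK LD1_c3 LD2_c1 LD3_c29)) :=
  Lgr Lrot130 (Lpr_ct (f104656 IH) (Lpe (f104633 IH) (Lpe (K6.f104622 IH) (Lpr_bt (f104617 IH) (Lpr_gf (f154378 IH) (Lpe (f83113 IH) (Lpr_ct (f155443 IH) (Lpe (f153394 IH) (Lpr_cf (K2.f61728 IH) (Lpe (f61748 IH) (Lpn (LP (LK LD1_c3 LD2_c1 LD3_c29)))))))))))))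
theorem f155459 : Led Lsl_bf (LP (LK LD1_c3 LD2_c7 LD3_c26)) = (LP (LK LD1_c3 LD2_c1 LD3_c29)) :=
  Lgr Lrot24 (Lpr_bt (f155456 IH) (Lpn (LP (LK LD1_c3 LD2_c1 LD3_c29))))
theorem f155486 : Led Lsl_ef (LP (LK LD1_c3 LD2_c7 LD3_c26)) = (LP (LK LD1_c3 LD2_c7 LD3_c26)) :=
  Lgr Lrot29 (Lpr_bt (f155456 IH) (Lpr_et (f155484 IH) (Lpe (f155459 IH) (Lpn (LP (LK LD1_c3 LD2_c7 LD3_c26))))))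
theorem f104655 : Led Lsl_ct (LP (LK LD1_c1 LD2_c29 LD3_c56)) = (LP (LK LD1_c3 LD2_c7 LD3_c26)) :=
  Lre_c IH (LK LD1_c1 LD2_c29 LD3_c56) (LK LD1_c3 LD2_c7 LD3_c26) Lrfl Lrfl
theorem f155488 : Led Lsl_et (LP (LK LD1_c1 LD2_c29 LD3_c56)) = (LP (LK LD1_c1 LD2_c29 LD3_c56)) :=
  Lgr Lrot158 (Lpe (f104656 IH) (Lpr_ef (f155486 IH) (Lpe (f104655 IH) (Lpn (LP (LK LD1_c1 LD2_c29 LD3_c56))))))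
theorem f104680 : Led Lsl_gt (LP (LK LD1_c1 LD2_c29 LD3_c56)) = (LP (LK LD1_c0 LD2_c41 LD3_c35)) :=
  Lre_g IH (LK LD1_c1 LD2_c29 LD3_c56) (LK LD1_c0 LD2_c41 LD3_c35) Lrfl Lrfl
theorem f120172 : Led Lsl_af (LP (LK LD1_c1 LD2_c6 LD3_c45)) = (LP (LK LD1_c0 LD2_c41 LD3_c36)) :=
  Lgr Lrot45 (Lpr_ft (K4.f120103 IH) (Lpe (K4.f120117 IH) (Lpr_ft (K4.f120170 IH) (Lpn (LP (LK LD1_c0 LD2_c41 LD3_c36))))))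
theorem f152489 : Led Lsl_gf (LP (LK LD1_c1 LD2_c6 LD3_c45)) = (LP (LK LD1_c0 LD2_c41 LD3_c34)) :=
  Lgr Lrot76 (Lpr_af (f120172 IH) (Lpe (K4.f120170 IH) (Lpr_gt (f152484 IH) (Lpn (LP (LK LD1_c0 LD2_c41 LD3_c34))))))
theorem f120047 : Led Lsl_gt (LP (LK LD1_c1 LD2_c6 LD3_c49)) = (LP (LK LD1_c2 LD2_c19 LD3_c25)) :=
  Lre_g IH (LK LD1_c1 LD2_c6 LD3_c49) (LK LD1_c2 LD2_c19 LD3_c25) Lrfl Lrfl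
theorem f155492 : Led Lsl_dt (LP (LK LD1_c1 LD2_c29 LD3_c56)) = (LP (LK LD1_c2 LD2_c19 LD3_c25)) :=
  Lgr Lrot56 (Lpr_et (f155488 IH) (Lpr_gt (f104680 IH) (Lpe (f104709 IH) (Lpr_dt (f104714 IH) (Lpe (f152489 IH) (Lpr_df (K2.f82386 IH) (Lpe (K4.f120042 IH) (Lpr_gt (K4.f25757 IH) (Lpr_dt (f82452 IH) (Lpr_gt (f120047 IH) (Lpn (LP (LK LD1_c2 LD2_c19 LD3_c25)))))))))))))
theorem f113102 : Led Lsl_et (LP (LK LD1_c1 LD2_c6 LD3_c41)) = (LP (LK LD1_c0 LD2_c30 LD3_c31)) :=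
  Lre_e IH (LK LD1_c1 LD2_c6 LD3_c41) (LK LD1_c0 LD2_c30 LD3_c31) Lrfl Lrfl
theorem f104651 : Led Lsl_dt (LP (LK LD1_c0 LD2_c41 LD3_c35)) = (LP (LK LD1_c1 LD2_c29 LD3_c57)) :=
  Lre_d IH (LK LD1_c0 LD2_c41 LD3_c35) (LK LD1_c1 LD2_c29 LD3_c57) Lrfl Lrfl
theorem f155494 : Led Lsl_gf (LP (LK LD1_c2 LD2_c19 LD3_c6)) = (LP (LK LD1_c1 LD2_c29 LD3_c57)) :=
  Lgr Lrot134 (Lpe (K5.f113407 IH) (Lpr_et (f113102 IH) (Lpr_gt (K3.f61637 IH) (Lpe (K2.f82394 IH) (Lpr_dt (f82452 IH) (Lpr_gt (f120047 IH) (Lpe (f155492 IH) (Lpr_et (f155488 IH) (Lpr_gt (f104680 IH) (Lpr_dt (f104651 IH) (Lpn (LP (LK LD1_c1 LD2_c29 LD3_c57)))))))))))))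
theorem f155501 : Led Lsl_gt (LP (LK LD1_c0 LD2_c30 LD3_c30)) = (LP (LK LD1_c0 LD2_c18 LD3_c35)) :=
  Lgr Lrot131 (Lpe (K5.f131519 IH) (Lpe (K4.f120177 IH) (Lpe (K4.f26376 IH) (Lpe (f61660 IH) (Lpe (K3.f61637 IH) (Lpe (f113102 IH) (Lpr_dt (K5.f113407 IH) (Lpr_gf (f155494 IH) (Lpe (f104651 IH) (Lpr_et (f104674 IH) (Lpn (LP (LK LD1_c0 LD2_c18 LD3_c35)))))))))))))
theorem f113096 : Led Lsl_at (LP (LK LD1_c0 LD2_c18 LD3_c33)) = (LP (LK LD1_c0 LD2_c30 LD3_c31)) :=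
  Lgr Lrot66 (Lpr_ff (K4.f113075 IH) (Lpe (K4.f113088 IH) (Lpr_ff (K4.f113094 IH) (Lpn (LP (LK LD1_c0 LD2_c30 LD3_c31))))))
theorem f155505 : Led Lsl_gf (LP (LK LD1_c0 LD2_c30 LD3_c31)) = (LP (LK LD1_c0 LD2_c18 LD3_c35)) :=
  Lgr Lrot76 (Lpe (f113096 IH) (Lpr_ff (K4.f113075 IH) (Lpr_gt (f155501 IH) (Lpn (LP (LK LD1_c0 LD2_c18 LD3_c35))))))
theorem f125332 : Led Lsl_ft (LP (LK LD1_c0 LD2_c42 LD3_c50)) = (LP (LK LD1_c0 LD2_c41 LD3_c30)) :=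
  Lgr Lrot75 (Lpe (K5.f24344 IH) (Lpr_ff (K5.f125330 IH) (Lpe (K2.f62626 IH) (Lpn (LP (LK LD1_c0 LD2_c41 LD3_c30))))))
theorem f113395 : Led Lsl_af (LP (LK LD1_c1 LD2_c6 LD3_c41)) = (LP (LK LD1_c0 LD2_c41 LD3_c30)) :=
  Lgr Lrot0 (Lpr_at (K5.f113384 IH) (Lpn (LP (LK LD1_c0 LD2_c41 LD3_c30))))
theorem f131577 : Led Lsl_gt (LP (LK LD1_c1 LD2_c6 LD3_c43)) = (LP (LK LD1_c1 LD2_c6 LD3_c41)) :=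
  Lgr Lrot46 (Lpr_gf (K5.f131573 IH) (Lpr_ft (f125332 IH) (Lpe (f113395 IH) (Lpn (LP (LK LD1_c1 LD2_c6 LD3_c41))))))
theorem f104634 : Led Lsl_dt (LP (LK LD1_c2 LD2_c18 LD3_c19)) = (LP (LK LD1_c1 LD2_c6 LD3_c10)) :=
  Lre_d IH (LK LD1_c2 LD2_c18 LD3_c19) (LK LD1_c1 LD2_c6 LD3_c10) Lrfl Lrfl
theorem f104626 : Led Lsl_dt (LP (LK LD1_c1 LD2_c30 LD3_c19)) = (LP (LK LD1_c0 LD2_c41 LD3_c43)) :=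
  Lre_d IH (LK LD1_c1 LD2_c30 LD3_c19) (LK LD1_c0 LD2_c41 LD3_c43) Lrfl Lrfl
theorem f152635 : Led Lsl_gt (LP (LK LD1_c2 LD2_c19 LD3_c6)) = (LP (LK LD1_c1 LD2_c30 LD3_c19)) :=
  Lgr Lrot49 (Lpe (K5.f113407 IH) (Lpe (f131577 IH) (Lpe (K5.f82496 IH) (Lpr_gt (K5.f131579 IH) (Lpr_dt (f109184 IH) (Lpr_gt (f152628 IH) (Lpr_dt (f104634 IH) (Lpr_cf (K6.f104596 IH) (Lpe (f104626 IH) (Lpn (LP (LK LD1_c1 LD2_c30 LD3_c19))))))))))))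
theorem f104647 : Led Lsl_dt (LP (LK LD1_c0 LD2_c41 LD3_c43)) = (LP (LK LD1_c1 LD2_c30 LD3_c19)) :=
  Lre_d IH (LK LD1_c0 LD2_c41 LD3_c43) (LK LD1_c1 LD2_c30 LD3_c19) Lrfl Lrfl
theorem f113408 : Led Lsl_dt (LP (LK LD1_c1 LD2_c29 LD3_c48)) = (LP (LK LD1_c0 LD2_c41 LD3_c30)) :=
  Lre_d IH (LK LD1_c1 LD2_c29 LD3_c48) (LK LD1_c0 LD2_c41 LD3_c30) Lrfl Lrfl
theorem f131525 : Led Lsl_ft (LP (LK LD1_c1 LD2_c32 LD3_c29)) = (LP (LK LD1_c1 LD2_c29 LD3_c48)) :=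
  Lgr Lrot54 (Lpe (K4.f82658 IH) (Lpr_ff (K5.f131523 IH) (Lpe (f113408 IH) (Lpn (LP (LK LD1_c1 LD2_c29 LD3_c48))))))
theorem f155496 : Led Lsl_gt (LP (LK LD1_c1 LD2_c32 LD3_c29)) = (LP (LK LD1_c1 LD2_c29 LD3_c57)) :=
  Lgr Lrot5 (Lpr_ft (f131525 IH) (Lpe (K5.f113398 IH) (Lpr_gf (f155494 IH) (Lpn (LP (LK LD1_c1 LD2_c29 LD3_c57))))))
theorem f82489 : Led Lsl_ft (LP (LK LD1_c1 LD2_c6 LD3_c50)) = (LP (LK LD1_c0 LD2_c30 LD3_c34)) :=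
  Lre_f IH (LK LD1_c1 LD2_c6 LD3_c50) (LK LD1_c0 LD2_c30 LD3_c34) Lrfl Lrfl
theorem f131575 : Led Lsl_gt (LP (LK LD1_c1 LD2_c6 LD3_c50)) = (LP (LK LD1_c0 LD2_c42 LD3_c50)) :=
  Lgr Lrot5 (Lpr_ft (f82489 IH) (Lpr_at (K5.f82444 IH) (Lpr_gf (K5.f131573 IH) (Lpn (LP (LK LD1_c0 LD2_c42 LD3_c50))))))
theorem f155807 : Led Lsl_et (LP (LK LD1_c0 LD2_c41 LD3_c43)) = (LP (LK LD1_c1 LD2_c6 LD3_c50)) :=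
  Lgr Lrot121 (Lpr_dt (f104647 IH) (Lpe (f152635 IH) (Lpe (K5.f113407 IH) (Lpr_et (f113102 IH) (Lpr_gf (f155505 IH) (Lpe (f104674 IH) (Lpr_dt (f104651 IH) (Lpe (f155496 IH) (Lpe (K4.f82658 IH) (Lpe (f131575 IH) (Lpn (LP (LK LD1_c1 LD2_c6 LD3_c50)))))))))))))
theorem f155809 : Led Lsl_ef (LP (LK LD1_c0 LD2_c18 LD3_c43)) = (LP (LK LD1_c0 LD2_c30 LD3_c37)) :=
  Lgr Lrot29 (Lpr_bt (f104618 IH) (Lpr_et (f155807 IH) (Lpr_bt (f82484 IH) (Lpn (LP (LK LD1_c0 LD2_c30 LD3_c37))))))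
theorem f152182 : Led Lsl_ef (LP (LK LD1_c0 LD2_c20 LD3_c29)) = (LP (LK LD1_c0 LD2_c20 LD3_c29)) :=
  Lgr Lrot17 (Lpr_gf (f152174 IH) (Lpe (f145486 IH) (Lpe (K6.f20912 IH) (Lpr_gf (f152176 IH) (Lpr_df (K1.f20930 IH) (Lpe (K6.f145468 IH) (Lpe (f143034 IH) (Lpr_dt (K6.f20844 IH) (Lpr_gf (K6.f145488 IH) (Lpe (f152180 IH) (Lpn (LP (LK LD1_c0 LD2_c20 LD3_c29)))))))))))))
theorem f82818 : Led Lsl_ct (LP (LK LD1_c0 LD2_c30 LD3_c17)) = (LP (LK LD1_c0 LD2_c20 LD3_c29)) :=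
  Lgr Lrot8 (Lpr_gt (f25788 IH) (Lpr_dt (K3.f25776 IH) (Lpr_gt (K3.f82791 IH) (Lpr_dt (K2.f25842 IH) (Lpe (K2.f67395 IH) (Lpe (K0.f7326 IH) (Lpr_gf (K0.f9689 IH) (Lpr_df (K6.f20840 IH) (Lpe (f20847 IH) (Lpn (LP (LK LD1_c0 LD2_c20 LD3_c29))))))))))))
theorem f152184 : Led Lsl_et (LP (LK LD1_c0 LD2_c30 LD3_c17)) = (LP (LK LD1_c0 LD2_c30 LD3_c17)) :=
  Lgr Lrot158 (Lpr_cf (f82820 IH) (Lpr_ef (f152182 IH) (Lpe (f82818 IH) (Lpn (LP (LK LD1_c0 LD2_c30 LD3_c17))))))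
theorem f82864 : Led Lsl_dt (LP (LK LD1_c0 LD2_c30 LD3_c17)) = (LP (LK LD1_c1 LD2_c6 LD3_c17)) :=
  Lre_d IH (LK LD1_c0 LD2_c30 LD3_c17) (LK LD1_c1 LD2_c6 LD3_c17) Lrfl Lrfl
theorem f26259 : Led Lsl_et (LP (LK LD1_c0 LD2_c9 LD3_c10)) = (LP (LK LD1_c0 LD2_c20 LD3_c22)) :=
  Lre_e IH (LK LD1_c0 LD2_c9 LD3_c10) (LK LD1_c0 LD2_c20 LD3_c22) Lrfl Lrfl
theorem f152192 : Led Lsl_gf (LP (LK LD1_c1 LD2_c6 LD3_c17)) = (LP (LK LD1_c0 LD2_c30 LD3_c36)) :=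
  Lgr Lrot134 (Lpe (f82864 IH) (Lpr_et (f152184 IH) (Lpr_gt (f25788 IH) (Lpe (K6.f26009 IH) (Lpr_dt (K0.f25728 IH) (Lpe (K3.f57541 IH) (Lpe (K0.f26048 IH) (Lpr_et (f26259 IH) (Lpe (K2.f83935 IH) (Lpr_dt (K6.f25748 IH) (Lpn (LP (LK LD1_c0 LD2_c30 LD3_c36)))))))))))))
theorem f82865 : Led Lsl_ct (LP (LK LD1_c1 LD2_c6 LD3_c17)) = (LP (LK LD1_c2 LD2_c18 LD3_c32)) :=
  Lre_c IH (LK LD1_c1 LD2_c6 LD3_c17) (LK LD1_c2 LD2_c18 LD3_c32) Lrfl Lrfl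
theorem f152195 : Led Lsl_gt (LP (LK LD1_c2 LD2_c18 LD3_c32)) = (LP (LK LD1_c2 LD2_c22 LD3_c57)) :=
  Lgr Lrot150 (Lpe (f82865 IH) (Lpr_gf (f152192 IH) (Lpe (K6.f25748 IH) (Lpr_gt (K2.f83186 IH) (Lpr_ct (K1.f25050 IH) (Lpe (K6.f145462 IH) (Lpr_ct (f145466 IH) (Lpe (f7501 IH) (Lpe (f121406 IH) (Lpn (LP (LK LD1_c2 LD2_c22 LD3_c57))))))))))))
theorem f62489 : Led Lsl_bt (LP (LK LD1_c3 LD2_c1 LD3_c21)) = (LP (LK LD1_c1 LD2_c26 LD3_c38)) :=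
  Lre_b IH (LK LD1_c3 LD2_c1 LD3_c21) (LK LD1_c1 LD2_c26 LD3_c38) Lrfl Lrfl
theorem f84174 : Led Lsl_bt (LP (LK LD1_c1 LD2_c37 LD3_c26)) = (LP (LK LD1_c3 LD2_c22 LD3_c20)) :=
  Lre_b IH (LK LD1_c1 LD2_c37 LD3_c26) (LK LD1_c3 LD2_c22 LD3_c20) Lrfl Lrfl
theorem f135226 : Led Lsl_ft (LP (LK LD1_c1 LD2_c26 LD3_c38)) = (LP (LK LD1_c1 LD2_c37 LD3_c26)) :=
  Lgr Lrot75 (Lpe (f62489 IH) (Lpr_ff (K5.f135214 IH) (Lpe (f84174 IH) (Lpn (LP (LK LD1_c1 LD2_c37 LD3_c26))))))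
theorem f135456 : Led Lsl_at (LP (LK LD1_c1 LD2_c37 LD3_c26)) = (LP (LK LD1_c2 LD2_c22 LD3_c57)) :=
  Lgr Lrot66 (Lpe (f135226 IH) (Lpr_af (K6.f135271 IH) (Lpr_ff (K6.f135453 IH) (Lpn (LP (LK LD1_c2 LD2_c22 LD3_c57))))))
theorem f152243 : Led Lsl_gf (LP (LK LD1_c2 LD2_c18 LD3_c32)) = (LP (LK LD1_c1 LD2_c26 LD3_c38)) :=
  Lgr Lrot47 (Lpr_gt (f152195 IH) (Lpe (f135456 IH) (Lpe (f135226 IH) (Lpn (LP (LK LD1_c1 LD2_c26 LD3_c38))))))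
theorem f82867 : Led Lsl_ct (LP (LK LD1_c2 LD2_c18 LD3_c32)) = (LP (LK LD1_c1 LD2_c6 LD3_c17)) :=
  Lre_c IH (LK LD1_c2 LD2_c18 LD3_c32) (LK LD1_c1 LD2_c6 LD3_c17) Lrfl Lrfl
theorem f153968 : Led Lsl_gf (LP (LK LD1_c0 LD2_c42 LD3_c44)) = (LP (LK LD1_c1 LD2_c6 LD3_c17)) :=
  Lgr Lrot104 (Lpr_ct (f153745 IH) (Lpe (f84014 IH) (Lpe (K2.f67082 IH) (Lpe (K2.f61776 IH) (Lpe (K6.f83205 IH) (Lpr_gf (K3.f86357 IH) (Lpe (K6.f86369 IH) (Lpe (f152243 IH) (Lpr_ct (f82867 IH) (Lpn (LP (LK LD1_c1 LD2_c6 LD3_c17))))))))))))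
theorem f154081 : Led Lsl_gf (LP (LK LD1_c0 LD2_c30 LD3_c17)) = (LP (LK LD1_c0 LD2_c18 LD3_c43)) :=
  Lgr Lrot144 (Lpr_dt (f82864 IH) (Lpe (f153968 IH) (Lpr_dt (f25908 IH) (Lpe (f25900 IH) (Lpr_df (f25781 IH) (Lpr_gf (f152662 IH) (Lpr_df (f25803 IH) (Lpr_gf (f154079 IH) (Lpe (f104644 IH) (Lpn (LP (LK LD1_c0 LD2_c18 LD3_c43))))))))))))
theorem f25901 : Led Lsl_dt (LP (LK LD1_c0 LD2_c19 LD3_c1)) = (LP (LK LD1_c0 LD2_c42 LD3_c44)) :=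
  Lre_d IH (LK LD1_c0 LD2_c19 LD3_c1) (LK LD1_c0 LD2_c42 LD3_c44) Lrfl Lrfl
theorem f152693 : Led Lsl_et (LP (LK LD1_c0 LD2_c19 LD3_c1)) = (LP (LK LD1_c0 LD2_c30 LD3_c19)) :=
  Lgr Lrot158 (Lpe (f25900 IH) (Lpr_ef (f152689 IH) (Lpe (f25902 IH) (Lpn (LP (LK LD1_c0 LD2_c30 LD3_c19))))))
theorem f155830 : Led Lsl_gt (LP (LK LD1_c0 LD2_c30 LD3_c19)) = (LP (LK LD1_c0 LD2_c18 LD3_c41)) :=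
  Lgr Lrot131 (Lpe (f152693 IH) (Lpr_dt (f25901 IH) (Lpr_gf (f153968 IH) (Lpe (f82864 IH) (Lpr_gf (f154081 IH) (Lpr_ef (f155809 IH) (Lpr_dt (f104692 IH) (Lpr_gf (f154646 IH) (Lpe (K1.f67139 IH) (Lpr_et (K1.f67141 IH) (Lpn (LP (LK LD1_c0 LD2_c18 LD3_c41)))))))))))))
theorem f78960 : Led Lsl_bt (LP (LK LD1_c3 LD2_c1 LD3_c30)) = (LP (LK LD1_c1 LD2_c26 LD3_c49)) :=
  Lre_b IH (LK LD1_c3 LD2_c1 LD3_c30) (LK LD1_c1 LD2_c26 LD3_c49) Lrfl Lrfl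
theorem f113907 : Led Lsl_ft (LP (LK LD1_c3 LD2_c6 LD3_c34)) = (LP (LK LD1_c3 LD2_c6 LD3_c15)) :=
  Lgr Lrot4 (Lpe (K3.f25065 IH) (Lpr_ff (K4.f113903 IH) (Lpe (K3.f77856 IH) (Lpn (LP (LK LD1_c3 LD2_c6 LD3_c15))))))
theorem f113953 : Led Lsl_af (LP (LK LD1_c1 LD2_c35 LD3_c50)) = (LP (LK LD1_c3 LD2_c6 LD3_c15)) :=
  Lgr Lrot36 (Lpr_bt (K4.f84303 IH) (Lpr_at (K4.f113949 IH) (Lpr_bt (K4.f77853 IH) (Lpr_at (K3.f77852 IH) (Lpe (K2.f77850 IH) (Lpn (LP (LK LD1_c3 LD2_c6 LD3_c15))))))))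
theorem f126714 : Led Lsl_gt (LP (LK LD1_c3 LD2_c12 LD3_c1)) = (LP (LK LD1_c1 LD2_c35 LD3_c50)) :=
  Lgr Lrot46 (Lpr_gf (K5.f126710 IH) (Lpr_ft (f113907 IH) (Lpe (f113953 IH) (Lpn (LP (LK LD1_c1 LD2_c35 LD3_c50))))))
theorem f134027 : Led Lsl_gt (LP (LK LD1_c6 LD2_c9 LD3_c59)) = (LP (LK LD1_c3 LD2_c6 LD3_c38)) :=
  Lgr Lrot187 (Lpe (K5.f61734 IH) (Lpe (K5.f61740 IH) (Lpr_dt (K5.f134017 IH) (Lpr_gt (f126714 IH) (Lpr_ct (K4.f84304 IH) (Lpr_gt (K4.f25066 IH) (Lpr_ct (K2.f25067 IH) (Lpr_dt (K2.f25082 IH) (Lpe (K2.f25079 IH) (Lpn (LP (LK LD1_c3 LD2_c6 LD3_c38))))))))))))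
theorem f152654 : Led Lsl_gt (LP (LK LD1_c0 LD2_c41 LD3_c21)) = (LP (LK LD1_c1 LD2_c6 LD3_c19)) :=
  Lgr Lrot82 (Lpe (K2.f67095 IH) (Lpr_ct (K2.f25083 IH) (Lpe (f134027 IH) (Lpe (K5.f61734 IH) (Lpr_bt (f78960 IH) (Lpr_gf (K4.f114159 IH) (Lpe (f25701 IH) (Lpr_ct (K2.f7436 IH) (Lpe (f25414 IH) (Lpr_cf (f152639 IH) (Lpn (LP (LK LD1_c1 LD2_c6 LD3_c19)))))))))))))
theorem f155832 : Led Lsl_dt (LP (LK LD1_c2 LD2_c18 LD3_c32)) = (LP (LK LD1_c1 LD2_c30 LD3_c45)) :=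
  Lgr Lrot105 (Lpr_gf (f152243 IH) (Lpr_df (K5.f86359 IH) (Lpe (K3.f86008 IH) (Lpe (K2.f25062 IH) (Lpr_gt (f152654 IH) (Lpr_dt (f25903 IH) (Lpr_gt (f155830 IH) (Lpr_dt (K1.f67139 IH) (Lpe (f67144 IH) (Lpn (LP (LK LD1_c1 LD2_c30 LD3_c45))))))))))))
theorem f155871 : Led Lsl_gf (LP (LK LD1_c1 LD2_c6 LD3_c55)) = (LP (LK LD1_c1 LD2_c44 LD3_c31)) :=
  Lgr Lrot179 (Lpr_ct (f25747 IH) (Lpe (f152192 IH) (Lpr_ct (f82865 IH) (Lpr_dt (f155832 IH) (Lpe (f67140 IH) (Lpr_gf (K1.f67152 IH) (Lpe (f24984 IH) (Lpr_gf (f152783 IH) (Lpe (f154632 IH) (Lpn (LP (LK LD1_c1 LD2_c44 LD3_c31))))))))))))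
theorem f155880 : Led Lsl_bt (LP (LK LD1_c4 LD2_c43 LD3_c22)) = (LP (LK LD1_c2 LD2_c19 LD3_c25)) :=
  Lre_b IH (LK LD1_c4 LD2_c43 LD3_c22) (LK LD1_c2 LD2_c19 LD3_c25) Lrfl Lrfl
theorem f154642 : Led Lsl_ct (LP (LK LD1_c0 LD2_c48 LD3_c54)) = (LP (LK LD1_c1 LD2_c44 LD3_c31)) :=
  Lre_c IH (LK LD1_c0 LD2_c48 LD3_c54) (LK LD1_c1 LD2_c44 LD3_c31) Lrfl Lrfl
theorem f154637 : Led Lsl_dt (LP (LK LD1_c1 LD2_c44 LD3_c31)) = (LP (LK LD1_c1 LD2_c30 LD3_c58)) :=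
  Lgr Lrot42 (Lpr_df (f154632 IH) (Lpn (LP (LK LD1_c1 LD2_c30 LD3_c58))))
theorem f146217 : Led Lsl_gt (LP (LK LD1_c1 LD2_c30 LD3_c45)) = (LP (LK LD1_c1 LD2_c37 LD3_c26)) :=
  Lgr Lrot150 (Lpe (f67140 IH) (Lpr_gf (K1.f67152 IH) (Lpe (K1.f24985 IH) (Lpr_gt (K1.f24981 IH) (Lpe (K2.f67384 IH) (Lpr_gt (K6.f146215 IH) (Lpe (K6.f146209 IH) (Lpe (f25700 IH) (Lpe (K5.f57660 IH) (Lpn (LP (LK LD1_c1 LD2_c37 LD3_c26))))))))))))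
theorem f155869 : Led Lsl_gf (LP (LK LD1_c0 LD2_c48 LD3_c54)) = (LP (LK LD1_c0 LD2_c45 LD3_c5)) :=
  Lgr Lrot172 (Lpr_ct (f154642 IH) (Lpr_dt (f154637 IH) (Lpe (f25896 IH) (Lpe (f152790 IH) (Lpe (f121406 IH) (Lpe (f152195 IH) (Lpr_dt (f155832 IH) (Lpr_gt (f146217 IH) (Lpr_ct (K5.f57660 IH) (Lpn (LP (LK LD1_c0 LD2_c45 LD3_c5))))))))))))
theorem f146191 : Led Lsl_bt (LP (LK LD1_c1 LD2_c37 LD3_c25)) = (LP (LK LD1_c0 LD2_c45 LD3_c5)) :=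
  Lre_b IH (LK LD1_c1 LD2_c37 LD3_c25) (LK LD1_c0 LD2_c45 LD3_c5) Lrfl Lrfl
theorem f153422 : Led Lsl_ct (LP (LK LD1_c1 LD2_c37 LD3_c25)) = (LP (LK LD1_c3 LD2_c22 LD3_c18)) :=
  Lre_c IH (LK LD1_c1 LD2_c37 LD3_c25) (LK LD1_c3 LD2_c22 LD3_c18) Lrfl Lrfl
theorem f155881 : Led Lsl_gt (LP (LK LD1_c6 LD2_c48 LD3_c16)) = (LP (LK LD1_c3 LD2_c22 LD3_c18)) :=
  Lre_g IH (LK LD1_c6 LD2_c48 LD3_c16) (LK LD1_c3 LD2_c22 LD3_c18) Lrfl Lrfl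
theorem f155882 : Led Lsl_ct (LP (LK LD1_c4 LD2_c43 LD3_c22)) = (LP (LK LD1_c6 LD2_c48 LD3_c16)) :=
  Lgr Lrot64 (Lpr_bt (f155880 IH) (Lpe (f120047 IH) (Lpe (f153095 IH) (Lpr_ct (f61261 IH) (Lpr_gf (f155871 IH) (Lpe (f154642 IH) (Lpr_gf (f155869 IH) (Lpe (f146191 IH) (Lpr_ct (f153422 IH) (Lpe (f155881 IH) (Lpn (LP (LK LD1_c6 LD2_c48 LD3_c16)))))))))))))
theorem f88703 : Led Lsl_bt (LP (LK LD1_c1 LD2_c53 LD3_c25)) = (LP (LK LD1_c3 LD2_c53 LD3_c35)) :=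
  Lre_b IH (LK LD1_c1 LD2_c53 LD3_c25) (LK LD1_c3 LD2_c53 LD3_c35) Lrfl Lrfl
theorem f155896 : Led Lsl_gf (LP (LK LD1_c4 LD2_c43 LD3_c22)) = (LP (LK LD1_c3 LD2_c53 LD3_c35)) :=
  Lgr Lrot181 (Lpr_ct (f155882 IH) (Lpr_gt (f155881 IH) (Lpe (f153422 IH) (Lpr_bt (f146191 IH) (Lpe (f155869 IH) (Lpe (f154904 IH) (Lpr_ct (f154905 IH) (Lpr_gt (f154913 IH) (Lpe (f86345 IH) (Lpr_bt (f88703 IH) (Lpn (LP (LK LD1_c3 LD2_c53 LD3_c35)))))))))))))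
theorem f135296 : Led Lsl_ct (LP (LK LD1_c3 LD2_c22 LD3_c18)) = (LP (LK LD1_c1 LD2_c37 LD3_c25)) :=
  Lre_c IH (LK LD1_c3 LD2_c22 LD3_c18) (LK LD1_c1 LD2_c37 LD3_c25) Lrfl Lrfl
theorem f155895 : Led Lsl_dt (LP (LK LD1_c1 LD2_c37 LD3_c25)) = (LP (LK LD1_c0 LD2_c45 LD3_c4)) :=
  Lre_d IH (LK LD1_c1 LD2_c37 LD3_c25) (LK LD1_c0 LD2_c45 LD3_c4) Lrfl Lrfl
theorem f146198 : Led Lsl_bt (LP (LK LD1_c0 LD2_c19 LD3_c60)) = (LP (LK LD1_c0 LD2_c45 LD3_c4)) :=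
  Lre_b IH (LK LD1_c0 LD2_c19 LD3_c60) (LK LD1_c0 LD2_c45 LD3_c4) Lrfl Lrfl
theorem f146201 : Led Lsl_ct (LP (LK LD1_c0 LD2_c19 LD3_c60)) = (LP (LK LD1_c0 LD2_c37 LD3_c46)) :=
  Lgr Lrot40 (Lpr_ff (K6.f146194 IH) (Lpe (K1.f57554 IH) (Lpe (K6.f20917 IH) (Lpn (LP (LK LD1_c0 LD2_c37 LD3_c46))))))
theorem f25751 : Led Lsl_bt (LP (LK LD1_c0 LD2_c45 LD3_c4)) = (LP (LK LD1_c0 LD2_c19 LD3_c60)) :=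
  Lre_b IH (LK LD1_c0 LD2_c45 LD3_c4) (LK LD1_c0 LD2_c19 LD3_c60) Lrfl Lrfl
theorem f146211 : Led Lsl_ct (LP (LK LD1_c0 LD2_c45 LD3_c4)) = (LP (LK LD1_c0 LD2_c45 LD3_c4)) :=
  Lgr Lrot83 (Lpe (f146198 IH) (Lpr_cf (K6.f146209 IH) (Lpe (f20920 IH) (Lpe (f146201 IH) (Lpe (f25751 IH) (Lpn (LP (LK LD1_c0 LD2_c45 LD3_c4))))))))
theorem f155900 : Led Lsl_gf (LP (LK LD1_c0 LD2_c45 LD3_c4)) = (LP (LK LD1_c1 LD2_c26 LD3_c34)) :=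
  Lgr Lrot104 (Lpr_ct (f146211 IH) (Lpe (f155895 IH) (Lpe (f135296 IH) (Lpe (f155881 IH) (Lpe (f155882 IH) (Lpr_gf (f155896 IH) (Lpe (K6.f88769 IH) (Lpr_gt (K6.f125394 IH) (Lpr_ct (K2.f62613 IH) (Lpn (LP (LK LD1_c1 LD2_c26 LD3_c34))))))))))))
theorem f126785 : Led Lsl_ff (LP (LK LD1_c1 LD2_c33 LD3_c56)) = (LP (LK LD1_c1 LD2_c26 LD3_c35)) :=
  Lgr Lrot23 (Lpr_ct (K5.f126783 IH) (Lpr_ft (K5.f126726 IH) (Lpr_ct (K6.f126736 IH) (Lpn (LP (LK LD1_c1 LD2_c26 LD3_c35))))))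
theorem f155902 : Led Lsl_af (LP (LK LD1_c0 LD2_c45 LD3_c4)) = (LP (LK LD1_c1 LD2_c33 LD3_c56)) :=
  Lgr Lrot31 (Lpr_gf (f155900 IH) (Lpr_gf (K6.f144039 IH) (Lpe (f126785 IH) (Lpn (LP (LK LD1_c1 LD2_c33 LD3_c56))))))
theorem f155904 : Led Lsl_dt (LP (LK LD1_c6 LD2_c48 LD3_c18)) = (LP (LK LD1_c3 LD2_c22 LD3_c18)) :=
  Lre_d IH (LK LD1_c6 LD2_c48 LD3_c18) (LK LD1_c3 LD2_c22 LD3_c18) Lrfl Lrfl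
theorem f62604 : Led Lsl_dt (LP (LK LD1_c1 LD2_c26 LD3_c35)) = (LP (LK LD1_c3 LD2_c1 LD3_c15)) :=
  Lre_d IH (LK LD1_c1 LD2_c26 LD3_c35) (LK LD1_c3 LD2_c1 LD3_c15) Lrfl Lrfl
theorem f155918 : Led Lsl_cf (LP (LK LD1_c6 LD2_c48 LD3_c18)) = (LP (LK LD1_c12 LD2_c0 LD3_c9)) :=
  Lgr Lrot116 (Lpr_dt (f155904 IH) (Lpr_ct (f135296 IH) (Lpr_dt (f155895 IH) (Lpr_ct (f146211 IH) (Lpr_af (f155902 IH) (Lpr_ff (f126785 IH) (Lpr_dt (f62604 IH) (Lpr_ct (K6.f62570 IH) (Lpr_dt (K5.f62552 IH) (Lpn (LP (LK LD1_c12 LD2_c0 LD3_c9))))))))))))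
theorem f62550 : Led Lsl_ct (LP (LK LD1_c6 LD2_c9 LD3_c34)) = (LP (LK LD1_c3 LD2_c1 LD3_c15)) :=
  Lre_c IH (LK LD1_c6 LD2_c9 LD3_c34) (LK LD1_c3 LD2_c1 LD3_c15) Lrfl Lrfl
theorem f126751 : Led Lsl_ft (LP (LK LD1_c3 LD2_c1 LD3_c15)) = (LP (LK LD1_c3 LD2_c14 LD3_c46)) :=
  Lgr Lrot4 (Lpe (f62550 IH) (Lpr_ff (K5.f126743 IH) (Lpe (K5.f126740 IH) (Lpn (LP (LK LD1_c3 LD2_c14 LD3_c46))))))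
theorem f155927 : Led Lsl_af (LP (LK LD1_c1 LD2_c37 LD3_c25)) = (LP (LK LD1_c3 LD2_c14 LD3_c46)) :=
  Lgr Lrot109 (Lpe (f135296 IH) (Lpe (f155904 IH) (Lpr_cf (f155918 IH) (Lpe (K5.f62552 IH) (Lpe (K6.f62570 IH) (Lpe (f62604 IH) (Lpe (K6.f126736 IH) (Lpe (K6.f62577 IH) (Lpr_ft (f126751 IH) (Lpn (LP (LK LD1_c3 LD2_c14 LD3_c46))))))))))))
theorem f135287 : Led Lsl_gt (LP (LK LD1_c3 LD2_c22 LD3_c17)) = (LP (LK LD1_c1 LD2_c37 LD3_c25)) :=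
  Lre_g IH (LK LD1_c3 LD2_c22 LD3_c17) (LK LD1_c1 LD2_c37 LD3_c25) Lrfl Lrfl
theorem f155990 : Led Lsl_gf (LP (LK LD1_c3 LD2_c22 LD3_c17)) = (LP (LK LD1_c3 LD2_c1 LD3_c15)) :=
  Lgr Lrot47 (Lpr_gt (f135287 IH) (Lpr_af (f155927 IH) (Lpe (f126751 IH) (Lpn (LP (LK LD1_c3 LD2_c1 LD3_c15))))))
theorem f155992 : Led Lsl_ct (LP (LK LD1_c3 LD2_c22 LD3_c17)) = (LP (LK LD1_c6 LD2_c48 LD3_c13)) :=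
  Lre_c IH (LK LD1_c3 LD2_c22 LD3_c17) (LK LD1_c6 LD2_c48 LD3_c13) Lrfl Lrfl
theorem f155993 : Led Lsl_gt (LP (LK LD1_c6 LD2_c48 LD3_c13)) = (LP (LK LD1_c12 LD2_c15 LD3_c56)) :=
  Lgr Lrot150 (Lpe (f155992 IH) (Lpr_gf (f155990 IH) (Lpe (f62604 IH) (Lpe (K6.f144039 IH) (Lpe (K2.f62334 IH) (Lpr_gt (K5.f62620 IH) (Lpr_ct (K5.f126620 IH) (Lpr_df (K6.f145513 IH) (Lpe (K6.f145515 IH) (Lpn (LP (LK LD1_c12 LD2_c15 LD3_c56))))))))))))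
theorem f94077 : Led Lsl_at (LP (LK LD1_c1 LD2_c32 LD3_c10)) = (LP (LK LD1_c1 LD2_c38 LD3_c16)) :=
  Lgr Lrot100 (Lpr_af (K3.f94075 IH) (Lpn (LP (LK LD1_c1 LD2_c38 LD3_c16))))
theorem f94115 : Led Lsl_ct (LP (LK LD1_c1 LD2_c38 LD3_c16)) = (LP (LK LD1_c1 LD2_c42 LD3_c4)) :=
  Lgr Lrot111 (Lpe (f94077 IH) (Lpe (K2.f83505 IH) (Lpr_af (K3.f94081 IH) (Lpn (LP (LK LD1_c1 LD2_c42 LD3_c4))))))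
theorem f126632 : Led Lsl_bf (LP (LK LD1_c3 LD2_c11 LD3_c60)) = (LP (LK LD1_c1 LD2_c42 LD3_c5)) :=
  Lgr Lrot90 (Lpe (K6.f126623 IH) (Lpr_bt (K5.f126628 IH) (Lpr_ct (f94115 IH) (Lpr_bt (K2.f11934 IH) (Lpr_ct (K3.f64516 IH) (Lpn (LP (LK LD1_c1 LD2_c42 LD3_c5))))))))
theorem f145510 : Led Lsl_bf (LP (LK LD1_c3 LD2_c31 LD3_c4)) = (LP (LK LD1_c6 LD2_c20 LD3_c53)) :=
  Lgr Lrot93 (Lpr_dt (K3.f64517 IH) (Lpe (f126632 IH) (Lpr_dt (K6.f145506 IH) (Lpn (LP (LK LD1_c6 LD2_c20 LD3_c53))))))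
theorem f64500 : Led Lsl_dt (LP (LK LD1_c6 LD2_c10 LD3_c7)) = (LP (LK LD1_c3 LD2_c1 LD3_c41)) :=
  Lre_d IH (LK LD1_c6 LD2_c10 LD3_c7) (LK LD1_c3 LD2_c1 LD3_c41) Lrfl Lrfl
theorem f114321 : Led Lsl_dt (LP (LK LD1_c3 LD2_c18 LD3_c51)) = (LP (LK LD1_c6 LD2_c41 LD3_c35)) :=
  Lre_d IH (LK LD1_c3 LD2_c18 LD3_c51) (LK LD1_c6 LD2_c41 LD3_c35) Lrfl Lrfl
theorem f126118 : Led Lsl_ff (LP (LK LD1_c6 LD2_c10 LD3_c7)) = (LP (LK LD1_c6 LD2_c41 LD3_c35)) :=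
  Lgr Lrot19 (Lpr_dt (f64500 IH) (Lpr_ft (K5.f126114 IH) (Lpr_dt (f114321 IH) (Lpn (LP (LK LD1_c6 LD2_c41 LD3_c35))))))
theorem f61979 : Led Lsl_ct (LP (LK LD1_c3 LD2_c1 LD3_c41)) = (LP (LK LD1_c1 LD2_c26 LD3_c55)) :=
  Lre_c IH (LK LD1_c3 LD2_c1 LD3_c41) (LK LD1_c1 LD2_c26 LD3_c55) Lrfl Lrfl
theorem f61980 : Led Lsl_ct (LP (LK LD1_c1 LD2_c35 LD3_c16)) = (LP (LK LD1_c3 LD2_c17 LD3_c25)) :=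
  Lre_c IH (LK LD1_c1 LD2_c35 LD3_c16) (LK LD1_c3 LD2_c17 LD3_c25) Lrfl Lrfl
theorem f61981 : Led Lsl_ef (LP (LK LD1_c3 LD2_c1 LD3_c41)) = (LP (LK LD1_c3 LD2_c17 LD3_c25)) :=
  Lgr Lrot28 (Lpr_ct (f61979 IH) (Lpr_et (K1.f61974 IH) (Lpr_ct (f61980 IH) (Lpn (LP (LK LD1_c3 LD2_c17 LD3_c25))))))
theorem f118053 : Led Lsl_at (LP (LK LD1_c6 LD2_c35 LD3_c33)) = (LP (LK LD1_c3 LD2_c17 LD3_c25)) :=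
  Lgr Lrot100 (Lpr_af (K4.f118048 IH) (Lpn (LP (LK LD1_c3 LD2_c17 LD3_c25))))
theorem f119226 : Led Lsl_ef (LP (LK LD1_c6 LD2_c35 LD3_c33)) = (LP (LK LD1_c3 LD2_c18 LD3_c50)) :=
  Lgr Lrot20 (Lpr_at (f118053 IH) (Lpe (f61981 IH) (Lpr_at (K5.f119215 IH) (Lpn (LP (LK LD1_c3 LD2_c18 LD3_c50))))))
theorem f119234 : Led Lsl_et (LP (LK LD1_c6 LD2_c35 LD3_c33)) = (LP (LK LD1_c3 LD2_c18 LD3_c50)) :=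
  Lgr Lrot87 (Lpr_ef (f119226 IH) (Lpn (LP (LK LD1_c3 LD2_c18 LD3_c50))))
theorem f119236 : Led Lsl_ef (LP (LK LD1_c3 LD2_c17 LD3_c25)) = (LP (LK LD1_c3 LD2_c1 LD3_c41)) :=
  Lgr Lrot20 (Lpe (K4.f118048 IH) (Lpr_et (f119234 IH) (Lpe (K5.f119217 IH) (Lpn (LP (LK LD1_c3 LD2_c1 LD3_c41))))))
theorem f118144 : Led Lsl_dt (LP (LK LD1_c3 LD2_c17 LD3_c25)) = (LP (LK LD1_c6 LD2_c38 LD3_c11)) :=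
  Lre_d IH (LK LD1_c3 LD2_c17 LD3_c25) (LK LD1_c6 LD2_c38 LD3_c11) Lrfl Lrfl
theorem f118181 : Led Lsl_et (LP (LK LD1_c6 LD2_c38 LD3_c11)) = (LP (LK LD1_c12 LD2_c42 LD3_c10)) :=
  Lre_e IH (LK LD1_c6 LD2_c38 LD3_c11) (LK LD1_c12 LD2_c42 LD3_c10) Lrfl Lrfl
theorem f119270 : Led Lsl_et (LP (LK LD1_c12 LD2_c1 LD3_c7)) = (LP (LK LD1_c6 LD2_c10 LD3_c7)) :=
  Lre_e IH (LK LD1_c12 LD2_c1 LD3_c7) (LK LD1_c6 LD2_c10 LD3_c7) Lrfl Lrfl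
theorem f119271 : Led Lsl_dt (LP (LK LD1_c12 LD2_c42 LD3_c10)) = (LP (LK LD1_c12 LD2_c1 LD3_c7)) :=
  Lgr Lrot77 (Lpe (f118181 IH) (Lpe (f118144 IH) (Lpr_ef (f119236 IH) (Lpe (f64500 IH) (Lpe (f119270 IH) (Lpn (LP (LK LD1_c12 LD2_c1 LD3_c7))))))))
theorem f118183 : Led Lsl_ft (LP (LK LD1_c21 LD2_c49 LD3_c31)) = (LP (LK LD1_c12 LD2_c42 LD3_c10)) :=
  Lre_f IH (LK LD1_c21 LD2_c49 LD3_c31) (LK LD1_c12 LD2_c42 LD3_c10) Lrfl Lrfl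
theorem f119284 : Led Lsl_ft (LP (LK LD1_c12 LD2_c1 LD3_c7)) = (LP (LK LD1_c21 LD2_c6 LD3_c48)) :=
  Lre_f IH (LK LD1_c12 LD2_c1 LD3_c7) (LK LD1_c21 LD2_c6 LD3_c48) Lrfl Lrfl
theorem f119285 : Led Lsl_df (LP (LK LD1_c21 LD2_c49 LD3_c31)) = (LP (LK LD1_c21 LD2_c6 LD3_c48)) :=
  Lgr Lrot78 (Lpr_ft (f118183 IH) (Lpr_dt (f119271 IH) (Lpr_ft (f119284 IH) (Lpn (LP (LK LD1_c21 LD2_c6 LD3_c48))))))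
theorem f119297 : Led Lsl_dt (LP (LK LD1_c21 LD2_c49 LD3_c31)) = (LP (LK LD1_c21 LD2_c6 LD3_c48)) :=
  Lgr Lrot42 (Lpr_df (f119285 IH) (Lpn (LP (LK LD1_c21 LD2_c6 LD3_c48))))
theorem f118184 : Led Lsl_ft (LP (LK LD1_c21 LD2_c43 LD3_c32)) = (LP (LK LD1_c30 LD2_c8 LD3_c0)) :=
  Lre_f IH (LK LD1_c21 LD2_c43 LD3_c32) (LK LD1_c30 LD2_c8 LD3_c0) Lrfl Lrfl
theorem f118185 : Led Lsl_af (LP (LK LD1_c21 LD2_c49 LD3_c31)) = (LP (LK LD1_c30 LD2_c8 LD3_c0)) :=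
  Lgr Lrot45 (Lpr_ft (f118183 IH) (Lpr_at (K4.f118173 IH) (Lpr_ft (f118184 IH) (Lpn (LP (LK LD1_c30 LD2_c8 LD3_c0))))))
theorem f118182 : Led Lsl_et (LP (LK LD1_c21 LD2_c43 LD3_c32)) = (LP (LK LD1_c12 LD2_c37 LD3_c8)) :=
  Lre_e IH (LK LD1_c21 LD2_c43 LD3_c32) (LK LD1_c12 LD2_c37 LD3_c8) Lrfl Lrfl
theorem f114199 : Led Lsl_dt (LP (LK LD1_c3 LD2_c18 LD3_c50)) = (LP (LK LD1_c6 LD2_c41 LD3_c34)) :=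
  Lre_d IH (LK LD1_c3 LD2_c18 LD3_c50) (LK LD1_c6 LD2_c41 LD3_c34) Lrfl Lrfl
theorem f119243 : Led Lsl_et (LP (LK LD1_c6 LD2_c41 LD3_c34)) = (LP (LK LD1_c12 LD2_c48 LD3_c17)) :=
  Lre_e IH (LK LD1_c6 LD2_c41 LD3_c34) (LK LD1_c12 LD2_c48 LD3_c17) Lrfl Lrfl
theorem f119244 : Led Lsl_df (LP (LK LD1_c21 LD2_c43 LD3_c32)) = (LP (LK LD1_c12 LD2_c48 LD3_c17)) :=
  Lgr Lrot70 (Lpr_et (f118182 IH) (Lpr_dt (K4.f118211 IH) (Lpr_et (f119234 IH) (Lpr_dt (f114199 IH) (Lpr_et (f119243 IH) (Lpn (LP (LK LD1_c12 LD2_c48 LD3_c17))))))))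
theorem f119250 : Led Lsl_ft (LP (LK LD1_c21 LD2_c55 LD3_c53)) = (LP (LK LD1_c12 LD2_c48 LD3_c17)) :=
  Lre_f IH (LK LD1_c21 LD2_c55 LD3_c53) (LK LD1_c12 LD2_c48 LD3_c17) Lrfl Lrfl
theorem f119251 : Led Lsl_dt (LP (LK LD1_c30 LD2_c8 LD3_c0)) = (LP (LK LD1_c21 LD2_c55 LD3_c53)) :=
  Lgr Lrot60 (Lpe (f118184 IH) (Lpr_df (f119244 IH) (Lpe (f119250 IH) (Lpn (LP (LK LD1_c21 LD2_c55 LD3_c53))))))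
theorem f119257 : Led Lsl_df (LP (LK LD1_c30 LD2_c8 LD3_c0)) = (LP (LK LD1_c21 LD2_c55 LD3_c53)) :=
  Lgr Lrot38 (Lpr_dt (f119251 IH) (Lpn (LP (LK LD1_c21 LD2_c55 LD3_c53))))
theorem f119300 : Led Lsl_af (LP (LK LD1_c21 LD2_c55 LD3_c53)) = (LP (LK LD1_c21 LD2_c6 LD3_c48)) :=
  Lgr Lrot117 (Lpe (f119257 IH) (Lpe (f118185 IH) (Lpr_dt (f119297 IH) (Lpn (LP (LK LD1_c21 LD2_c6 LD3_c48))))))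
theorem f119302 : Led Lsl_at (LP (LK LD1_c12 LD2_c48 LD3_c17)) = (LP (LK LD1_c12 LD2_c1 LD3_c7)) :=
  Lgr Lrot66 (Lpe (f119250 IH) (Lpr_af (f119300 IH) (Lpe (f119284 IH) (Lpn (LP (LK LD1_c12 LD2_c1 LD3_c7))))))
theorem f119309 : Led Lsl_af (LP (LK LD1_c6 LD2_c41 LD3_c34)) = (LP (LK LD1_c6 LD2_c10 LD3_c7)) :=
  Lgr Lrot50 (Lpr_et (f119243 IH) (Lpr_at (f119302 IH) (Lpr_et (f119270 IH) (Lpn (LP (LK LD1_c6 LD2_c10 LD3_c7))))))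
theorem f126157 : Led Lsl_ff (LP (LK LD1_c12 LD2_c3 LD3_c22)) = (LP (LK LD1_c6 LD2_c41 LD3_c34)) :=
  Lgr Lrot30 (Lpr_at (K5.f126149 IH) (Lpe (f126118 IH) (Lpe (f119309 IH) (Lpn (LP (LK LD1_c6 LD2_c41 LD3_c34))))))
theorem f114315 : Led Lsl_gt (LP (LK LD1_c12 LD2_c0 LD3_c51)) = (LP (LK LD1_c6 LD2_c41 LD3_c35)) :=
  Lgr Lrot49 (Lpe (K5.f78957 IH) (Lpe (K5.f78956 IH) (Lpe (K4.f78931 IH) (Lpr_gt (K4.f114212 IH) (Lpr_dt (K3.f85294 IH) (Lpr_gt (K4.f12639 IH) (Lpr_dt (K5.f86166 IH) (Lpe (K5.f114156 IH) (Lpe (K5.f114314 IH) (Lpn (LP (LK LD1_c6 LD2_c41 LD3_c35))))))))))))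
theorem f126159 : Led Lsl_gt (LP (LK LD1_c6 LD2_c41 LD3_c34)) = (LP (LK LD1_c12 LD2_c0 LD3_c51)) :=
  Lgr Lrot5 (Lpe (f126157 IH) (Lpr_at (K5.f126149 IH) (Lpe (f114315 IH) (Lpn (LP (LK LD1_c12 LD2_c0 LD3_c51))))))
theorem f119228 : Led Lsl_gt (LP (LK LD1_c6 LD2_c41 LD3_c32)) = (LP (LK LD1_c3 LD2_c18 LD3_c50)) :=
  Lre_g IH (LK LD1_c6 LD2_c41 LD3_c32) (LK LD1_c3 LD2_c18 LD3_c50) Lrfl Lrfl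
theorem f109191 : Led Lsl_dt (LP (LK LD1_c1 LD2_c31 LD3_c37)) = (LP (LK LD1_c3 LD2_c10 LD3_c35)) :=
  Lre_d IH (LK LD1_c1 LD2_c31 LD3_c37) (LK LD1_c3 LD2_c10 LD3_c35) Lrfl Lrfl
theorem f62661 : Led Lsl_dt (LP (LK LD1_c1 LD2_c41 LD3_c4)) = (LP (LK LD1_c3 LD2_c28 LD3_c44)) :=
  Lre_d IH (LK LD1_c1 LD2_c41 LD3_c4) (LK LD1_c3 LD2_c28 LD3_c44) Lrfl Lrfl
theorem f105638 : Led Lsl_gt (LP (LK LD1_c3 LD2_c28 LD3_c44)) = (LP (LK LD1_c1 LD2_c41 LD3_c13)) :=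
  Lgr Lrot139 (Lpe (f62661 IH) (Lpe (f62660 IH) (Lpe (K3.f62659 IH) (Lpr_dt (K1.f17784 IH) (Lpr_gf (K1.f62310 IH) (Lpe (K1.f62313 IH) (Lpr_et (K3.f105632 IH) (Lpe (K3.f18906 IH) (Lpe (K3.f88670 IH) (Lpr_dt (f84997 IH) (Lpn (LP (LK LD1_c1 LD2_c41 LD3_c13)))))))))))))
theorem f126163 : Led Lsl_cf (LP (LK LD1_c6 LD2_c41 LD3_c32)) = (LP (LK LD1_c3 LD2_c28 LD3_c44)) :=
  Lgr Lrot166 (Lpr_gt (f119228 IH) (Lpr_dt (f114199 IH) (Lpr_gt (f126159 IH) (Lpr_dt (K5.f114277 IH) (Lpr_ct (K5.f114214 IH) (Lpe (f109191 IH) (Lpr_gf (K4.f109188 IH) (Lpe (K3.f85000 IH) (Lpe (f105638 IH) (Lpn (LP (LK LD1_c3 LD2_c28 LD3_c44))))))))))))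
theorem f126168 : Led Lsl_gt (LP (LK LD1_c3 LD2_c31 LD3_c4)) = (LP (LK LD1_c3 LD2_c28 LD3_c44)) :=
  Lgr Lrot9 (Lpe (f64519 IH) (Lpr_gt (K3.f105644 IH) (Lpe (K3.f105736 IH) (Lpr_gt (K3.f94374 IH) (Lpr_ct (K3.f84307 IH) (Lpe (K5.f94384 IH) (Lpe (K5.f113942 IH) (Lpe (f119228 IH) (Lpr_cf (f126163 IH) (Lpn (LP (LK LD1_c3 LD2_c28 LD3_c44))))))))))))
theorem f95821 : Led Lsl_dt (LP (LK LD1_c1 LD2_c33 LD3_c23)) = (LP (LK LD1_c3 LD2_c13 LD3_c41)) :=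
  Lre_d IH (LK LD1_c1 LD2_c33 LD3_c23) (LK LD1_c3 LD2_c13 LD3_c41) Lrfl Lrfl
theorem f144115 : Led Lsl_bt (LP (LK LD1_c3 LD2_c13 LD3_c41)) = (LP (LK LD1_c3 LD2_c1 LD3_c15)) :=
  Lgr Lrot95 (Lpe (f95821 IH) (Lpr_bf (K6.f144041 IH) (Lpe (K6.f62577 IH) (Lpn (LP (LK LD1_c3 LD2_c1 LD3_c15))))))
theorem f95822 : Led Lsl_ct (LP (LK LD1_c3 LD2_c13 LD3_c41)) = (LP (LK LD1_c6 LD2_c31 LD3_c0)) :=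
  Lre_c IH (LK LD1_c3 LD2_c13 LD3_c41) (LK LD1_c6 LD2_c31 LD3_c0) Lrfl Lrfl
theorem f106789 : Led Lsl_et (LP (LK LD1_c1 LD2_c46 LD3_c60)) = (LP (LK LD1_c3 LD2_c39 LD3_c61)) :=
  Lre_e IH (LK LD1_c1 LD2_c46 LD3_c60) (LK LD1_c3 LD2_c39 LD3_c61) Lrfl Lrfl
theorem f144197 : Led Lsl_ef (LP (LK LD1_c1 LD2_c48 LD3_c15)) = (LP (LK LD1_c1 LD2_c39 LD3_c10)) :=
  Lgr Lrot21 (Lpe (K5.f125111 IH) (Lpr_et (f106789 IH) (Lpe (K6.f142979 IH) (Lpr_et (K2.f87552 IH) (Lpr_ft (f144191 IH) (Lpn (LP (LK LD1_c1 LD2_c39 LD3_c10))))))))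
theorem f144199 : Led Lsl_et (LP (LK LD1_c1 LD2_c46 LD3_c59)) = (LP (LK LD1_c1 LD2_c31 LD3_c31)) :=
  Lgr Lrot123 (Lpr_af (K5.f125179 IH) (Lpr_ef (f144197 IH) (Lpe (K6.f144185 IH) (Lpn (LP (LK LD1_c1 LD2_c31 LD3_c31))))))
theorem f143730 : Led Lsl_gt (LP (LK LD1_c3 LD2_c6 LD3_c19)) = (LP (LK LD1_c1 LD2_c39 LD3_c3)) :=
  Lgr Lrot9 (Lpr_df (f120907 IH) (Lpr_gt (K6.f143726 IH) (Lpr_ct (K5.f86782 IH) (Lpe (K6.f134623 IH) (Lpe (K5.f134887 IH) (Lpr_df (K5.f86801 IH) (Lpe (K5.f21055 IH) (Lpe (K6.f21140 IH) (Lpe (f21141 IH) (Lpn (LP (LK LD1_c1 LD2_c39 LD3_c3))))))))))))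
theorem f21151 : Led Lsl_dt (LP (LK LD1_c1 LD2_c39 LD3_c3)) = (LP (LK LD1_c3 LD2_c25 LD3_c6)) :=
  Lre_d IH (LK LD1_c1 LD2_c39 LD3_c3) (LK LD1_c3 LD2_c25 LD3_c6) Lrfl Lrfl
theorem f144233 : Led Lsl_gf (LP (LK LD1_c3 LD2_c39 LD3_c59)) = (LP (LK LD1_c3 LD2_c25 LD3_c6)) :=
  Lgr Lrot134 (Lpe (K5.f12437 IH) (Lpr_et (f144199 IH) (Lpr_gt (K5.f124833 IH) (Lpr_ef (K5.f125662 IH) (Lpr_dt (K4.f107291 IH) (Lpr_gt (K4.f121229 IH) (Lpe (K4.f115063 IH) (Lpr_et (K4.f87551 IH) (Lpr_gt (f143730 IH) (Lpr_dt (f21151 IH) (Lpn (LP (LK LD1_c3 LD2_c25 LD3_c6)))))))))))))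
theorem f125205 : Led Lsl_af (LP (LK LD1_c3 LD2_c39 LD3_c59)) = (LP (LK LD1_c3 LD2_c42 LD3_c31)) :=
  Lgr Lrot0 (Lpr_at (K5.f125203 IH) (Lpn (LP (LK LD1_c3 LD2_c42 LD3_c31))))
theorem f125115 : Led Lsl_ft (LP (LK LD1_c3 LD2_c39 LD3_c60)) = (LP (LK LD1_c3 LD2_c42 LD3_c31)) :=
  Lgr Lrot54 (Lpe (K5.f106786 IH) (Lpr_ff (K5.f125111 IH) (Lpe (K5.f125097 IH) (Lpn (LP (LK LD1_c3 LD2_c42 LD3_c31))))))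
theorem f144235 : Led Lsl_gt (LP (LK LD1_c3 LD2_c39 LD3_c60)) = (LP (LK LD1_c3 LD2_c25 LD3_c6)) :=
  Lgr Lrot5 (Lpr_ft (f125115 IH) (Lpe (f125205 IH) (Lpr_gf (f144233 IH) (Lpn (LP (LK LD1_c3 LD2_c25 LD3_c6))))))
theorem f21122 : Led Lsl_ft (LP (LK LD1_c1 LD2_c26 LD3_c30)) = (LP (LK LD1_c0 LD2_c39 LD3_c61)) :=
  Lre_f IH (LK LD1_c1 LD2_c26 LD3_c30) (LK LD1_c0 LD2_c39 LD3_c61) Lrfl Lrfl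
theorem f134883 : Led Lsl_dt (LP (LK LD1_c2 LD2_c22 LD3_c59)) = (LP (LK LD1_c1 LD2_c26 LD3_c30)) :=
  Lgr Lrot60 (Lpr_ff (K5.f134875 IH) (Lpe (K5.f21076 IH) (Lpe (f21122 IH) (Lpn (LP (LK LD1_c1 LD2_c26 LD3_c30))))))
theorem f144127 : Led Lsl_cf (LP (LK LD1_c1 LD2_c33 LD3_c23)) = (LP (LK LD1_c0 LD2_c46 LD3_c4)) :=
  Lgr Lrot166 (Lpr_gt (K6.f144119 IH) (Lpr_dt (K4.f84631 IH) (Lpe (K5.f121391 IH) (Lpr_dt (f134883 IH) (Lpe (K2.f21050 IH) (Lpr_df (K5.f135047 IH) (Lpe (K5.f121379 IH) (Lpe (K5.f84775 IH) (Lpr_gf (K6.f142734 IH) (Lpn (LP (LK LD1_c0 LD2_c46 LD3_c4))))))))))))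
theorem f144129 : Led Lsl_gf (LP (LK LD1_c0 LD2_c46 LD3_c4)) = (LP (LK LD1_c0 LD2_c22 LD3_c44)) :=
  Lgr Lrot147 (Lpe (f144127 IH) (Lpr_gt (K6.f144119 IH) (Lpe (K2.f84758 IH) (Lpe (K4.f87492 IH) (Lpe (K3.f87493 IH) (Lpe (K5.f134956 IH) (Lpe (K5.f21064 IH) (Lpe (K5.f134851 IH) (Lpe (K5.f4901 IH) (Lpn (LP (LK LD1_c0 LD2_c22 LD3_c44))))))))))))
theorem f121401 : Led Lsl_ct (LP (LK LD1_c6 LD2_c31 LD3_c0)) = (LP (LK LD1_c3 LD2_c13 LD3_c41)) :=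
  Lre_c IH (LK LD1_c6 LD2_c31 LD3_c0) (LK LD1_c3 LD2_c13 LD3_c41) Lrfl Lrfl
theorem f144237 : Led Lsl_ct (LP (LK LD1_c3 LD2_c25 LD3_c6)) = (LP (LK LD1_c6 LD2_c52 LD3_c31)) :=
  Lre_c IH (LK LD1_c3 LD2_c25 LD3_c6) (LK LD1_c6 LD2_c52 LD3_c31) Lrfl Lrfl
theorem f144240 : Led Lsl_gf (LP (LK LD1_c6 LD2_c31 LD3_c0)) = (LP (LK LD1_c6 LD2_c52 LD3_c31)) :=
  Lgr Lrot104 (Lpr_ct (f121401 IH) (Lpe (f95821 IH) (Lpr_cf (f144127 IH) (Lpr_gf (f144129 IH) (Lpe (K3.f12431 IH) (Lpe (K3.f12441 IH) (Lpe (f106790 IH) (Lpr_gt (f144235 IH) (Lpr_ct (f144237 IH) (Lpn (LP (LK LD1_c6 LD2_c52 LD3_c31))))))))))))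
theorem f155997 : Led Lsl_bf (LP (LK LD1_c3 LD2_c28 LD3_c44)) = (LP (LK LD1_c3 LD2_c25 LD3_c6)) :=
  Lgr Lrot34 (Lpe (f126168 IH) (Lpr_bf (f145510 IH) (Lpr_ct (K6.f145512 IH) (Lpe (f155993 IH) (Lpe (f155992 IH) (Lpr_gf (f155990 IH) (Lpe (f144115 IH) (Lpr_ct (f95822 IH) (Lpr_gf (f144240 IH) (Lpe (f144237 IH) (Lpn (LP (LK LD1_c3 LD2_c25 LD3_c6)))))))))))))
theorem f155102 : Led Lsl_ct (LP (LK LD1_c3 LD2_c9 LD3_c42)) = (LP (LK LD1_c1 LD2_c31 LD3_c0)) :=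
  Lre_c IH (LK LD1_c3 LD2_c9 LD3_c42) (LK LD1_c1 LD2_c31 LD3_c0) Lrfl Lrfl
theorem f88986 : Led Lsl_dt (LP (LK LD1_c3 LD2_c28 LD3_c44)) = (LP (LK LD1_c1 LD2_c41 LD3_c4)) :=
  Lre_d IH (LK LD1_c3 LD2_c28 LD3_c44) (LK LD1_c1 LD2_c41 LD3_c4) Lrfl Lrfl
theorem f155103 : Led Lsl_gf (LP (LK LD1_c3 LD2_c9 LD3_c42)) = (LP (LK LD1_c3 LD2_c28 LD3_c58)) :=
  Lgr Lrot104 (Lpr_ct (f155102 IH) (Lpe (f154334 IH) (Lpr_cf (f154352 IH) (Lpe (f10029 IH) (Lpe (f106092 IH) (Lpr_gf (f155095 IH) (Lpe (f88986 IH) (Lpr_gt (f105638 IH) (Lpr_ct (f88717 IH) (Lpn (LP (LK LD1_c3 LD2_c28 LD3_c58))))))))))))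
theorem f156006 : Led Lsl_bt (LP (LK LD1_c1 LD2_c31 LD3_c0)) = (LP (LK LD1_c0 LD2_c41 LD3_c61)) :=
  Lre_b IH (LK LD1_c1 LD2_c31 LD3_c0) (LK LD1_c0 LD2_c41 LD3_c61) Lrfl Lrfl
theorem f156007 : Led Lsl_gt (LP (LK LD1_c3 LD2_c56 LD3_c45)) = (LP (LK LD1_c6 LD2_c52 LD3_c31)) :=
  Lgr Lrot65 (Lpe (f94390 IH) (Lpe (f121404 IH) (Lpr_gf (f154179 IH) (Lpe (f156006 IH) (Lpr_ct (f155158 IH) (Lpr_gf (f155103 IH) (Lpe (f88717 IH) (Lpe (f105638 IH) (Lpr_bf (f155997 IH) (Lpr_ct (f144237 IH) (Lpn (LP (LK LD1_c6 LD2_c52 LD3_c31)))))))))))))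
theorem f21152 : Led Lsl_ct (LP (LK LD1_c6 LD2_c52 LD3_c31)) = (LP (LK LD1_c3 LD2_c25 LD3_c6)) :=
  Lre_c IH (LK LD1_c6 LD2_c52 LD3_c31) (LK LD1_c3 LD2_c25 LD3_c6) Lrfl Lrfl
theorem f21153 : Led Lsl_dt (LP (LK LD1_c3 LD2_c1 LD3_c9)) = (LP (LK LD1_c1 LD2_c26 LD3_c28)) :=
  Lre_d IH (LK LD1_c3 LD2_c1 LD3_c9) (LK LD1_c1 LD2_c26 LD3_c28) Lrfl Lrfl
theorem f156009 : Led Lsl_gf (LP (LK LD1_c1 LD2_c55 LD3_c5)) = (LP (LK LD1_c3 LD2_c1 LD3_c9)) :=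
  Lgr Lrot147 (Lpr_ct (f94390 IH) (Lpr_gt (f156007 IH) (Lpr_ct (f21152 IH) (Lpe (f21151 IH) (Lpe (f21150 IH) (Lpe (K6.f21086 IH) (Lpr_cf (K5.f21028 IH) (Lpe (K6.f21093 IH) (Lpe (f21153 IH) (Lpn (LP (LK LD1_c3 LD2_c1 LD3_c9))))))))))))
theorem f156013 : Led Lsl_bt (LP (LK LD1_c6 LD2_c9 LD3_c22)) = (LP (LK LD1_c3 LD2_c1 LD3_c9)) :=
  Lre_b IH (LK LD1_c6 LD2_c9 LD3_c22) (LK LD1_c3 LD2_c1 LD3_c9) Lrfl Lrfl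
theorem f156014 : Led Lsl_ct (LP (LK LD1_c6 LD2_c9 LD3_c22)) = (LP (LK LD1_c11 LD2_c59 LD3_c44)) :=
  Lre_c IH (LK LD1_c6 LD2_c9 LD3_c22) (LK LD1_c11 LD2_c59 LD3_c44) Lrfl Lrfl
theorem f90508 : Led Lsl_bf (LP (LK LD1_c1 LD2_c41 LD3_c13)) = (LP (LK LD1_c3 LD2_c23 LD3_c58)) :=
  Lgr Lrot24 (Lpr_bt (f90352 IH) (Lpn (LP (LK LD1_c3 LD2_c23 LD3_c58))))
theorem f156015 : Led Lsl_gf (LP (LK LD1_c11 LD2_c59 LD3_c44)) = (LP (LK LD1_c6 LD2_c50 LD3_c57)) :=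
  Lgr Lrot126 (Lpe (f156014 IH) (Lpr_bt (f156013 IH) (Lpe (f156009 IH) (Lpr_ct (f94390 IH) (Lpr_gt (f156007 IH) (Lpe (f144237 IH) (Lpe (f155997 IH) (Lpr_gt (f105638 IH) (Lpr_bf (f90508 IH) (Lpr_ct (f7331 IH) (Lpn (LP (LK LD1_c6 LD2_c50 LD3_c57)))))))))))))
theorem f154824 : Led Lsl_ff (LP (LK LD1_c3 LD2_c23 LD3_c58)) = (LP (LK LD1_c3 LD2_c9 LD3_c6)) :=
  Lgr Lrot3 (Lpr_ft (f154811 IH) (Lpn (LP (LK LD1_c3 LD2_c9 LD3_c6))))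
theorem f154806 : Led Lsl_ct (LP (LK LD1_c6 LD2_c22 LD3_c49)) = (LP (LK LD1_c3 LD2_c9 LD3_c6)) :=
  Lre_c IH (LK LD1_c6 LD2_c22 LD3_c49) (LK LD1_c3 LD2_c9 LD3_c6) Lrfl Lrfl
theorem f154826 : Led Lsl_ft (LP (LK LD1_c6 LD2_c50 LD3_c57)) = (LP (LK LD1_c6 LD2_c22 LD3_c49)) :=
  Lgr Lrot4 (Lpe (f7331 IH) (Lpr_ff (f154824 IH) (Lpe (f154806 IH) (Lpn (LP (LK LD1_c6 LD2_c22 LD3_c49))))))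
theorem f90532 : Led Lsl_at (LP (LK LD1_c6 LD2_c18 LD3_c61)) = (LP (LK LD1_c6 LD2_c50 LD3_c57)) :=
  Lgr Lrot100 (Lpr_af (f90530 IH) (Lpn (LP (LK LD1_c6 LD2_c50 LD3_c57))))
theorem f154828 : Led Lsl_af (LP (LK LD1_c6 LD2_c50 LD3_c58)) = (LP (LK LD1_c6 LD2_c22 LD3_c49)) :=
  Lgr Lrot45 (Lpr_ft (K6.f94172 IH) (Lpr_at (f90532 IH) (Lpr_ft (f154826 IH) (Lpn (LP (LK LD1_c6 LD2_c22 LD3_c49))))))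
theorem f156017 : Led Lsl_gt (LP (LK LD1_c11 LD2_c59 LD3_c44)) = (LP (LK LD1_c6 LD2_c50 LD3_c58)) :=
  Lgr Lrot46 (Lpr_gf (f156015 IH) (Lpr_ft (f154826 IH) (Lpe (f154828 IH) (Lpn (LP (LK LD1_c6 LD2_c50 LD3_c58))))))
theorem f156022 : Led Lsl_gf (LP (LK LD1_c6 LD2_c9 LD3_c22)) = (LP (LK LD1_c3 LD2_c24 LD3_c25)) :=
  Lgr Lrot147 (Lpr_ct (f156014 IH) (Lpr_gt (f156017 IH) (Lpr_ct (K6.f76747 IH) (Lpe (K6.f76745 IH) (Lpr_cf (K2.f11935 IH) (Lpe (K3.f94405 IH) (Lpr_cf (K2.f87500 IH) (Lpr_gf (K2.f94347 IH) (Lpe (f92041 IH) (Lpn (LP (LK LD1_c3 LD2_c24 LD3_c25))))))))))))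
theorem f19174 : Led Lsl_dt (LP (LK LD1_c3 LD2_c27 LD3_c52)) = (LP (LK LD1_c1 LD2_c40 LD3_c32)) :=
  Lre_d IH (LK LD1_c3 LD2_c27 LD3_c52) (LK LD1_c1 LD2_c40 LD3_c32) Lrfl Lrfl
theorem f126063 : Led Lsl_ff (LP (LK LD1_c3 LD2_c27 LD3_c52)) = (LP (LK LD1_c3 LD2_c24 LD3_c25)) :=
  Lgr Lrot19 (Lpr_dt (f19174 IH) (Lpr_ft (K5.f126061 IH) (Lpr_dt (f90116 IH) (Lpn (LP (LK LD1_c3 LD2_c24 LD3_c25))))))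
theorem f90282 : Led Lsl_dt (LP (LK LD1_c3 LD2_c27 LD3_c51)) = (LP (LK LD1_c1 LD2_c40 LD3_c30)) :=
  Lre_d IH (LK LD1_c3 LD2_c27 LD3_c51) (LK LD1_c1 LD2_c40 LD3_c30) Lrfl Lrfl
theorem f126087 : Led Lsl_ff (LP (LK LD1_c3 LD2_c27 LD3_c51)) = (LP (LK LD1_c3 LD2_c31 LD3_c54)) :=
  Lgr Lrot19 (Lpr_dt (f90282 IH) (Lpr_ft (K5.f126083 IH) (Lpr_dt (f83458 IH) (Lpn (LP (LK LD1_c3 LD2_c31 LD3_c54))))))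
theorem f90279 : Led Lsl_dt (LP (LK LD1_c1 LD2_c40 LD3_c30)) = (LP (LK LD1_c3 LD2_c27 LD3_c51)) :=
  Lre_d IH (LK LD1_c1 LD2_c40 LD3_c30) (LK LD1_c3 LD2_c27 LD3_c51) Lrfl Lrfl
theorem f126059 : Led Lsl_at (LP (LK LD1_c3 LD2_c27 LD3_c51)) = (LP (LK LD1_c3 LD2_c24 LD3_c25)) :=
  Lgr Lrot51 (Lpe (f90279 IH) (Lpr_af (K5.f126051 IH) (Lpe (f92041 IH) (Lpn (LP (LK LD1_c3 LD2_c24 LD3_c25))))))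
theorem f126089 : Led Lsl_at (LP (LK LD1_c3 LD2_c27 LD3_c52)) = (LP (LK LD1_c3 LD2_c31 LD3_c54)) :=
  Lgr Lrot66 (Lpr_ff (f126063 IH) (Lpe (f126059 IH) (Lpr_ff (f126087 IH) (Lpn (LP (LK LD1_c3 LD2_c31 LD3_c54))))))
theorem f156024 : Led Lsl_gt (LP (LK LD1_c6 LD2_c9 LD3_c22)) = (LP (LK LD1_c3 LD2_c31 LD3_c54)) :=
  Lgr Lrot46 (Lpr_gf (f156022 IH) (Lpe (f126063 IH) (Lpr_at (f126089 IH) (Lpn (LP (LK LD1_c3 LD2_c31 LD3_c54))))))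
theorem f156021 : Led Lsl_dt (LP (LK LD1_c3 LD2_c1 LD3_c8)) = (LP (LK LD1_c6 LD2_c9 LD3_c22)) :=
  Lre_d IH (LK LD1_c3 LD2_c1 LD3_c8) (LK LD1_c6 LD2_c9 LD3_c22) Lrfl Lrfl
theorem f12645 : Led Lsl_dt (LP (LK LD1_c3 LD2_c31 LD3_c54)) = (LP (LK LD1_c1 LD2_c42 LD3_c36)) :=
  Lre_d IH (LK LD1_c3 LD2_c31 LD3_c54) (LK LD1_c1 LD2_c42 LD3_c36) Lrfl Lrfl
theorem f10937 : Led Lsl_ct (LP (LK LD1_c0 LD2_c48 LD3_c49)) = (LP (LK LD1_c1 LD2_c44 LD3_c25)) :=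
  Lre_c IH (LK LD1_c0 LD2_c48 LD3_c49) (LK LD1_c1 LD2_c44 LD3_c25) Lrfl Lrfl
theorem f10944 : Led Lsl_gt (LP (LK LD1_c1 LD2_c44 LD3_c25)) = (LP (LK LD1_c3 LD2_c35 LD3_c12)) :=
  Lre_g IH (LK LD1_c1 LD2_c44 LD3_c25) (LK LD1_c3 LD2_c35 LD3_c12) Lrfl Lrfl
theorem f19166 : Led Lsl_ff (LP (LK LD1_c0 LD2_c47 LD3_c53)) = (LP (LK LD1_c0 LD2_c46 LD3_c6)) :=
  Lgr Lrot25 (Lpe (K4.f18098 IH) (Lpr_ft (K2.f19162 IH) (Lpr_bt (K0.f9795 IH) (Lpn (LP (LK LD1_c0 LD2_c46 LD3_c6))))))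
theorem f18100 : Led Lsl_at (LP (LK LD1_c0 LD2_c47 LD3_c53)) = (LP (LK LD1_c0 LD2_c21 LD3_c27)) :=
  Lre_a IH (LK LD1_c0 LD2_c47 LD3_c53) (LK LD1_c0 LD2_c21 LD3_c27) Lrfl Lrfl
theorem f92038 : Led Lsl_gt (LP (LK LD1_c0 LD2_c45 LD3_c44)) = (LP (LK LD1_c0 LD2_c21 LD3_c27)) :=
  Lgr Lrot46 (Lpr_gf (K2.f92036 IH) (Lpe (f19166 IH) (Lpr_at (f18100 IH) (Lpn (LP (LK LD1_c0 LD2_c21 LD3_c27))))))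
theorem f84321 : Led Lsl_dt (LP (LK LD1_c6 LD2_c27 LD3_c28)) = (LP (LK LD1_c3 LD2_c11 LD3_c38)) :=
  Lre_d IH (LK LD1_c6 LD2_c27 LD3_c28) (LK LD1_c3 LD2_c11 LD3_c38) Lrfl Lrfl
theorem f154972 : Led Lsl_ct (LP (LK LD1_c3 LD2_c35 LD3_c12)) = (LP (LK LD1_c6 LD2_c27 LD3_c28)) :=
  Lgr Lrot110 (Lpe (f10944 IH) (Lpe (f10937 IH) (Lpr_gf (f154965 IH) (Lpe (f19347 IH) (Lpr_gt (f92038 IH) (Lpr_ct (K3.f68104 IH) (Lpr_gt (K2.f68107 IH) (Lpr_ct (K2.f83506 IH) (Lpe (f84321 IH) (Lpn (LP (LK LD1_c6 LD2_c27 LD3_c28))))))))))))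
theorem f154808 : Led Lsl_dt (LP (LK LD1_c1 LD2_c32 LD3_c10)) = (LP (LK LD1_c3 LD2_c9 LD3_c6)) :=
  Lgr Lrot42 (Lpr_df (f154797 IH) (Lpn (LP (LK LD1_c3 LD2_c9 LD3_c6))))
theorem f90521 : Led Lsl_bt (LP (LK LD1_c13 LD2_c2 LD3_c5)) = (LP (LK LD1_c6 LD2_c50 LD3_c57)) :=
  Lre_b IH (LK LD1_c13 LD2_c2 LD3_c5) (LK LD1_c6 LD2_c50 LD3_c57) Lrfl Lrfl
theorem f154830 : Led Lsl_bt (LP (LK LD1_c6 LD2_c22 LD3_c49)) = (LP (LK LD1_c12 LD2_c19 LD3_c4)) :=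
  Lre_b IH (LK LD1_c6 LD2_c22 LD3_c49) (LK LD1_c12 LD2_c19 LD3_c4) Lrfl Lrfl
theorem f154831 : Led Lsl_ff (LP (LK LD1_c13 LD2_c2 LD3_c5)) = (LP (LK LD1_c12 LD2_c19 LD3_c4)) :=
  Lgr Lrot25 (Lpr_bt (f90521 IH) (Lpr_ft (f154826 IH) (Lpr_bt (f154830 IH) (Lpn (LP (LK LD1_c12 LD2_c19 LD3_c4))))))
theorem f154841 : Led Lsl_ft (LP (LK LD1_c13 LD2_c2 LD3_c5)) = (LP (LK LD1_c12 LD2_c19 LD3_c4)) :=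
  Lgr Lrot48 (Lpr_ff (f154831 IH) (Lpn (LP (LK LD1_c12 LD2_c19 LD3_c4))))
theorem f90512 : Led Lsl_at (LP (LK LD1_c22 LD2_c11 LD3_c47)) = (LP (LK LD1_c13 LD2_c2 LD3_c5)) :=
  Lre_a IH (LK LD1_c22 LD2_c11 LD3_c47) (LK LD1_c13 LD2_c2 LD3_c5) Lrfl Lrfl
theorem f154849 : Led Lsl_at (LP (LK LD1_c12 LD2_c19 LD3_c4)) = (LP (LK LD1_c21 LD2_c25 LD3_c8)) :=
  Lre_a IH (LK LD1_c12 LD2_c19 LD3_c4) (LK LD1_c21 LD2_c25 LD3_c8) Lrfl Lrfl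
theorem f154850 : Led Lsl_ff (LP (LK LD1_c22 LD2_c11 LD3_c47)) = (LP (LK LD1_c21 LD2_c25 LD3_c8)) :=
  Lgr Lrot30 (Lpr_at (f90512 IH) (Lpr_ft (f154841 IH) (Lpr_at (f154849 IH) (Lpn (LP (LK LD1_c21 LD2_c25 LD3_c8))))))
theorem f83848 : Led Lsl_at (LP (LK LD1_c12 LD2_c13 LD3_c50)) = (LP (LK LD1_c21 LD2_c20 LD3_c0)) :=
  Lre_a IH (LK LD1_c12 LD2_c13 LD3_c50) (LK LD1_c21 LD2_c20 LD3_c0) Lrfl Lrfl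
theorem f90534 : Led Lsl_bt (LP (LK LD1_c21 LD2_c20 LD3_c0)) = (LP (LK LD1_c22 LD2_c11 LD3_c47)) :=
  Lgr Lrot62 (Lpe (f83848 IH) (Lpe (K6.f83866 IH) (Lpr_af (f90530 IH) (Lpe (f90521 IH) (Lpe (f90512 IH) (Lpn (LP (LK LD1_c22 LD2_c11 LD3_c47))))))))
theorem f90538 : Led Lsl_bf (LP (LK LD1_c21 LD2_c20 LD3_c0)) = (LP (LK LD1_c22 LD2_c11 LD3_c47)) :=
  Lgr Lrot24 (Lpr_bt (f90534 IH) (Lpn (LP (LK LD1_c22 LD2_c11 LD3_c47))))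
theorem f154862 : Led Lsl_bt (LP (LK LD1_c22 LD2_c11 LD3_c50)) = (LP (LK LD1_c21 LD2_c25 LD3_c8)) :=
  Lgr Lrot35 (Lpr_ff (K6.f94185 IH) (Lpr_bf (f90538 IH) (Lpr_ff (f154850 IH) (Lpn (LP (LK LD1_c21 LD2_c25 LD3_c8))))))
theorem f154866 : Led Lsl_bf (LP (LK LD1_c22 LD2_c11 LD3_c50)) = (LP (LK LD1_c21 LD2_c25 LD3_c8)) :=
  Lgr Lrot24 (Lpr_bt (f154862 IH) (Lpn (LP (LK LD1_c21 LD2_c25 LD3_c8))))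
theorem f154868 : Led Lsl_at (LP (LK LD1_c6 LD2_c50 LD3_c58)) = (LP (LK LD1_c6 LD2_c22 LD3_c49)) :=
  Lgr Lrot67 (Lpe (K6.f94174 IH) (Lpe (K6.f94189 IH) (Lpr_bf (f154866 IH) (Lpe (f154849 IH) (Lpe (f154830 IH) (Lpn (LP (LK LD1_c6 LD2_c22 LD3_c49))))))))
theorem f83837 : Led Lsl_dt (LP (LK LD1_c6 LD2_c18 LD3_c61)) = (LP (LK LD1_c12 LD2_c13 LD3_c51)) :=
  Lre_d IH (LK LD1_c6 LD2_c18 LD3_c61) (LK LD1_c12 LD2_c13 LD3_c51) Lrfl Lrfl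
theorem f83481 : Led Lsl_df (LP (LK LD1_c1 LD2_c37 LD3_c49)) = (LP (LK LD1_c3 LD2_c9 LD3_c14)) :=
  Lgr Lrot78 (Lpr_ft (K3.f68102 IH) (Lpr_dt (K2.f68069 IH) (Lpr_ft (K2.f83470 IH) (Lpn (LP (LK LD1_c3 LD2_c9 LD3_c14))))))
theorem f86754 : Led Lsl_dt (LP (LK LD1_c7 LD2_c26 LD3_c47)) = (LP (LK LD1_c14 LD2_c4 LD3_c24)) :=
  Lre_d IH (LK LD1_c7 LD2_c26 LD3_c47) (LK LD1_c14 LD2_c4 LD3_c24) Lrfl Lrfl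
theorem f83808 : Led Lsl_ct (LP (LK LD1_c6 LD2_c18 LD3_c61)) = (LP (LK LD1_c3 LD2_c6 LD3_c51)) :=
  Lre_c IH (LK LD1_c6 LD2_c18 LD3_c61) (LK LD1_c3 LD2_c6 LD3_c51) Lrfl Lrfl
theorem f83830 : Led Lsl_dt (LP (LK LD1_c12 LD2_c13 LD3_c51)) = (LP (LK LD1_c6 LD2_c18 LD3_c61)) :=
  Lre_d IH (LK LD1_c12 LD2_c13 LD3_c51) (LK LD1_c6 LD2_c18 LD3_c61) Lrfl Lrfl
theorem f94040 : Led Lsl_gt (LP (LK LD1_c14 LD2_c4 LD3_c24)) = (LP (LK LD1_c12 LD2_c13 LD3_c51)) :=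
  Lgr Lrot49 (Lpe (f86754 IH) (Lpr_gf (K5.f86749 IH) (Lpe (K5.f83638 IH) (Lpr_gt (K6.f83636 IH) (Lpe (f83481 IH) (Lpr_gt (K3.f94034 IH) (Lpr_dt (K3.f68357 IH) (Lpe (f83808 IH) (Lpe (f83830 IH) (Lpn (LP (LK LD1_c12 LD2_c13 LD3_c51))))))))))))
theorem f86763 : Led Lsl_dt (LP (LK LD1_c14 LD2_c4 LD3_c24)) = (LP (LK LD1_c7 LD2_c26 LD3_c47)) :=
  Lre_d IH (LK LD1_c14 LD2_c4 LD3_c24) (LK LD1_c7 LD2_c26 LD3_c47) Lrfl Lrfl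
theorem f76771 : Led Lsl_ct (LP (LK LD1_c6 LD2_c27 LD3_c34)) = (LP (LK LD1_c3 LD2_c11 LD3_c41)) :=
  Lre_c IH (LK LD1_c6 LD2_c27 LD3_c34) (LK LD1_c3 LD2_c11 LD3_c41) Lrfl Lrfl
theorem f68118 : Led Lsl_ct (LP (LK LD1_c6 LD2_c52 LD3_c60)) = (LP (LK LD1_c6 LD2_c27 LD3_c39)) :=
  Lgr Lrot59 (Lpr_cf (K2.f68113 IH) (Lpn (LP (LK LD1_c6 LD2_c27 LD3_c39))))
theorem f19208 : Led Lsl_ft (LP (LK LD1_c7 LD2_c5 LD3_c17)) = (LP (LK LD1_c6 LD2_c52 LD3_c60)) :=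
  Lgr Lrot54 (Lpe (K2.f19172 IH) (Lpr_ff (K3.f19192 IH) (Lpe (K2.f9838 IH) (Lpn (LP (LK LD1_c6 LD2_c52 LD3_c60))))))
theorem f19218 : Led Lsl_et (LP (LK LD1_c13 LD2_c26 LD3_c10)) = (LP (LK LD1_c7 LD2_c5 LD3_c17)) :=
  Lre_e IH (LK LD1_c13 LD2_c26 LD3_c10) (LK LD1_c7 LD2_c5 LD3_c17) Lrfl Lrfl
theorem f19219 : Led Lsl_ft (LP (LK LD1_c22 LD2_c45 LD3_c40)) = (LP (LK LD1_c13 LD2_c26 LD3_c10)) :=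
  Lre_f IH (LK LD1_c22 LD2_c45 LD3_c40) (LK LD1_c13 LD2_c26 LD3_c10) Lrfl Lrfl
theorem f19220 : Led Lsl_ft (LP (LK LD1_c13 LD2_c5 LD3_c10)) = (LP (LK LD1_c22 LD2_c15 LD3_c50)) :=
  Lre_f IH (LK LD1_c13 LD2_c5 LD3_c10) (LK LD1_c22 LD2_c15 LD3_c50) Lrfl Lrfl
theorem f19221 : Led Lsl_ef (LP (LK LD1_c22 LD2_c45 LD3_c40)) = (LP (LK LD1_c22 LD2_c15 LD3_c50)) :=
  Lgr Lrot21 (Lpr_ft (f19219 IH) (Lpr_et (f19218 IH) (Lpr_ft (f19208 IH) (Lpr_et (K2.f17184 IH) (Lpr_ft (f19220 IH) (Lpn (LP (LK LD1_c22 LD2_c15 LD3_c50))))))))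
theorem f19227 : Led Lsl_et (LP (LK LD1_c22 LD2_c45 LD3_c40)) = (LP (LK LD1_c22 LD2_c15 LD3_c50)) :=
  Lgr Lrot87 (Lpr_ef (f19221 IH) (Lpn (LP (LK LD1_c22 LD2_c15 LD3_c50))))
theorem f19234 : Led Lsl_at (LP (LK LD1_c13 LD2_c26 LD3_c31)) = (LP (LK LD1_c22 LD2_c45 LD3_c40)) :=
  Lre_a IH (LK LD1_c13 LD2_c26 LD3_c31) (LK LD1_c22 LD2_c45 LD3_c40) Lrfl Lrfl
theorem f17232 : Led Lsl_at (LP (LK LD1_c22 LD2_c15 LD3_c50)) = (LP (LK LD1_c13 LD2_c13 LD3_c55)) :=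
  Lre_a IH (LK LD1_c22 LD2_c15 LD3_c50) (LK LD1_c13 LD2_c13 LD3_c55) Lrfl Lrfl
theorem f19235 : Led Lsl_ef (LP (LK LD1_c13 LD2_c26 LD3_c31)) = (LP (LK LD1_c13 LD2_c13 LD3_c55)) :=
  Lgr Lrot20 (Lpr_at (f19234 IH) (Lpr_et (f19227 IH) (Lpr_at (f17232 IH) (Lpn (LP (LK LD1_c13 LD2_c13 LD3_c55))))))
theorem f19242 : Led Lsl_ft (LP (LK LD1_c13 LD2_c26 LD3_c31)) = (LP (LK LD1_c7 LD2_c5 LD3_c26)) :=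
  Lre_f IH (LK LD1_c13 LD2_c26 LD3_c31) (LK LD1_c7 LD2_c5 LD3_c26) Lrfl Lrfl
theorem f19243 : Led Lsl_et (LP (LK LD1_c7 LD2_c5 LD3_c26)) = (LP (LK LD1_c3 LD2_c31 LD3_c59)) :=
  Lre_e IH (LK LD1_c7 LD2_c5 LD3_c26) (LK LD1_c3 LD2_c31 LD3_c59) Lrfl Lrfl
theorem f17206 : Led Lsl_ft (LP (LK LD1_c6 LD2_c58 LD3_c7)) = (LP (LK LD1_c13 LD2_c13 LD3_c55)) :=
  Lre_f IH (LK LD1_c6 LD2_c58 LD3_c7) (LK LD1_c13 LD2_c13 LD3_c55) Lrfl Lrfl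
theorem f17249 : Led Lsl_et (LP (LK LD1_c3 LD2_c27 LD3_c58)) = (LP (LK LD1_c6 LD2_c58 LD3_c7)) :=
  Lre_e IH (LK LD1_c3 LD2_c27 LD3_c58) (LK LD1_c6 LD2_c58 LD3_c7) Lrfl Lrfl
theorem f19244 : Led Lsl_ft (LP (LK LD1_c3 LD2_c31 LD3_c59)) = (LP (LK LD1_c3 LD2_c27 LD3_c58)) :=
  Lgr Lrot86 (Lpe (f19243 IH) (Lpe (f19242 IH) (Lpr_ef (f19235 IH) (Lpe (f17206 IH) (Lpe (f17249 IH) (Lpn (LP (LK LD1_c3 LD2_c27 LD3_c58))))))))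
theorem f19255 : Led Lsl_gt (LP (LK LD1_c3 LD2_c31 LD3_c59)) = (LP (LK LD1_c7 LD2_c5 LD3_c23)) :=
  Lre_g IH (LK LD1_c3 LD2_c31 LD3_c59) (LK LD1_c7 LD2_c5 LD3_c23) Lrfl Lrfl
theorem f19249 : Led Lsl_at (LP (LK LD1_c3 LD2_c27 LD3_c58)) = (LP (LK LD1_c6 LD2_c52 LD3_c60)) :=
  Lre_a IH (LK LD1_c3 LD2_c27 LD3_c58) (LK LD1_c6 LD2_c52 LD3_c60) Lrfl Lrfl
theorem f19256 : Led Lsl_gt (LP (LK LD1_c7 LD2_c5 LD3_c23)) = (LP (LK LD1_c6 LD2_c52 LD3_c60)) :=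
  Lgr Lrot46 (Lpe (f19255 IH) (Lpr_ft (f19244 IH) (Lpr_at (f19249 IH) (Lpn (LP (LK LD1_c6 LD2_c52 LD3_c60))))))
theorem f94044 : Led Lsl_cf (LP (LK LD1_c7 LD2_c5 LD3_c23)) = (LP (LK LD1_c12 LD2_c13 LD3_c51)) :=
  Lgr Lrot169 (Lpr_gt (f19256 IH) (Lpr_ct (f68118 IH) (Lpe (K2.f68112 IH) (Lpe (K2.f68111 IH) (Lpe (K2.f76755 IH) (Lpe (f76771 IH) (Lpr_gf (K6.f90452 IH) (Lpe (f86763 IH) (Lpr_gt (f94040 IH) (Lpn (LP (LK LD1_c12 LD2_c13 LD3_c51))))))))))))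
theorem f154980 : Led Lsl_df (LP (LK LD1_c3 LD2_c35 LD3_c12)) = (LP (LK LD1_c7 LD2_c5 LD3_c23)) :=
  Lgr Lrot106 (Lpr_ct (f154972 IH) (Lpr_dt (f84321 IH) (Lpr_ct (K2.f83505 IH) (Lpr_dt (f154808 IH) (Lpr_ct (f154821 IH) (Lpe (f154868 IH) (Lpr_ff (K6.f94166 IH) (Lpr_dt (f83837 IH) (Lpe (f94044 IH) (Lpn (LP (LK LD1_c7 LD2_c5 LD3_c23))))))))))))
theorem f154986 : Led Lsl_dt (LP (LK LD1_c3 LD2_c35 LD3_c12)) = (LP (LK LD1_c7 LD2_c5 LD3_c23)) :=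
  Lgr Lrot42 (Lpr_df (f154980 IH) (Lpn (LP (LK LD1_c7 LD2_c5 LD3_c23))))
theorem f10935 : Led Lsl_ct (LP (LK LD1_c1 LD2_c44 LD3_c25)) = (LP (LK LD1_c0 LD2_c48 LD3_c49)) :=
  Lre_c IH (LK LD1_c1 LD2_c44 LD3_c25) (LK LD1_c0 LD2_c48 LD3_c49) Lrfl Lrfl
theorem f68356 : Led Lsl_et (LP (LK LD1_c1 LD2_c29 LD3_c33)) = (LP (LK LD1_c0 LD2_c41 LD3_c23)) :=
  Lre_e IH (LK LD1_c1 LD2_c29 LD3_c33) (LK LD1_c0 LD2_c41 LD3_c23) Lrfl Lrfl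
theorem f90182 : Led Lsl_ct (LP (LK LD1_c0 LD2_c53 LD3_c17)) = (LP (LK LD1_c1 LD2_c29 LD3_c33)) :=
  Lgr Lrot15 (Lpr_ef (K3.f88664 IH) (Lpr_cf (K2.f90173 IH) (Lpe (f68356 IH) (Lpn (LP (LK LD1_c1 LD2_c29 LD3_c33))))))
theorem f94042 : Led Lsl_gf (LP (LK LD1_c0 LD2_c46 LD3_c6)) = (LP (LK LD1_c0 LD2_c47 LD3_c54)) :=
  Lgr Lrot181 (Lpr_ct (K1.f9821 IH) (Lpr_gt (K3.f94034 IH) (Lpe (f90182 IH) (Lpr_bt (K2.f10991 IH) (Lpr_gt (K3.f12641 IH) (Lpe (K3.f11090 IH) (Lpr_ct (K3.f12640 IH) (Lpr_gt (K4.f12639 IH) (Lpe (K4.f12170 IH) (Lpr_bt (K4.f12630 IH) (Lpn (LP (LK LD1_c0 LD2_c47 LD3_c54)))))))))))))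
theorem f154993 : Led Lsl_gt (LP (LK LD1_c0 LD2_c48 LD3_c49)) = (LP (LK LD1_c1 LD2_c42 LD3_c37)) :=
  Lgr Lrot94 (Lpe (f10935 IH) (Lpr_gt (f10944 IH) (Lpr_dt (f154986 IH) (Lpr_gt (f19256 IH) (Lpr_dt (K2.f9838 IH) (Lpe (K3.f9832 IH) (Lpe (K2.f9823 IH) (Lpr_gf (f94042 IH) (Lpe (f12644 IH) (Lpn (LP (LK LD1_c1 LD2_c42 LD3_c37))))))))))))
theorem f10929 : Led Lsl_gt (LP (LK LD1_c0 LD2_c48 LD3_c47)) = (LP (LK LD1_c0 LD2_c21 LD3_c51)) :=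
  Lre_g IH (LK LD1_c0 LD2_c48 LD3_c47) (LK LD1_c0 LD2_c21 LD3_c51) Lrfl Lrfl
theorem f154996 : Led Lsl_ct (LP (LK LD1_c1 LD2_c44 LD3_c23)) = (LP (LK LD1_c0 LD2_c48 LD3_c47)) :=
  Lre_c IH (LK LD1_c1 LD2_c44 LD3_c23) (LK LD1_c0 LD2_c48 LD3_c47) Lrfl Lrfl
theorem f156188 : Led Lsl_gf (LP (LK LD1_c3 LD2_c1 LD3_c8)) = (LP (LK LD1_c1 LD2_c44 LD3_c23)) :=
  Lgr Lrot144 (Lpr_dt (f156021 IH) (Lpr_gt (f156024 IH) (Lpr_dt (f12645 IH) (Lpe (K4.f12633 IH) (Lpe (f12644 IH) (Lpe (f154993 IH) (Lpe (f10927 IH) (Lpe (f10929 IH) (Lpe (f154996 IH) (Lpn (LP (LK LD1_c1 LD2_c44 LD3_c23))))))))))))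
theorem f143278 : Led Lsl_bt (LP (LK LD1_c1 LD2_c26 LD3_c28)) = (LP (LK LD1_c3 LD2_c1 LD3_c8)) :=
  Lre_b IH (LK LD1_c1 LD2_c26 LD3_c28) (LK LD1_c3 LD2_c1 LD3_c8) Lrfl Lrfl
theorem f143279 : Led Lsl_cf (LP (LK LD1_c1 LD2_c43 LD3_c12)) = (LP (LK LD1_c1 LD2_c26 LD3_c28)) :=
  Lgr Lrot11 (Lpr_ct (K6.f143276 IH) (Lpn (LP (LK LD1_c1 LD2_c26 LD3_c28))))
theorem f143282 : Led Lsl_gt (LP (LK LD1_c1 LD2_c43 LD3_c12)) = (LP (LK LD1_c1 LD2_c42 LD3_c32)) :=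
  Lgr Lrot180 (Lpr_ct (K6.f143276 IH) (Lpr_gt (K6.f21093 IH) (Lpr_dt (K5.f21076 IH) (Lpe (K6.f134885 IH) (Lpr_dt (K5.f82425 IH) (Lpr_ct (K3.f109164 IH) (Lpe (K3.f95936 IH) (Lpr_gf (K4.f115091 IH) (Lpe (K4.f12101 IH) (Lpn (LP (LK LD1_c1 LD2_c42 LD3_c32))))))))))))
theorem f58077 : Led Lsl_dt (LP (LK LD1_c12 LD2_c11 LD3_c48)) = (LP (LK LD1_c6 LD2_c17 LD3_c42)) :=
  Lre_d IH (LK LD1_c12 LD2_c11 LD3_c48) (LK LD1_c6 LD2_c17 LD3_c42) Lrfl Lrfl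
theorem f152844 : Led Lsl_ct (LP (LK LD1_c3 LD2_c9 LD3_c34)) = (LP (LK LD1_c1 LD2_c30 LD3_c57)) :=
  Lre_c IH (LK LD1_c3 LD2_c9 LD3_c34) (LK LD1_c1 LD2_c30 LD3_c57) Lrfl Lrfl
theorem f152841 : Led Lsl_dt (LP (LK LD1_c6 LD2_c23 LD3_c57)) = (LP (LK LD1_c3 LD2_c9 LD3_c34)) :=
  Lre_d IH (LK LD1_c6 LD2_c23 LD3_c57) (LK LD1_c3 LD2_c9 LD3_c34) Lrfl Lrfl
theorem f152865 : Led Lsl_gt (LP (LK LD1_c12 LD2_c11 LD3_c50)) = (LP (LK LD1_c6 LD2_c23 LD3_c57)) :=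
  Lgr Lrot49 (Lpe (K5.f58099 IH) (Lpe (K5.f58096 IH) (Lpe (K1.f58027 IH) (Lpr_gt (K3.f99113 IH) (Lpr_dt (K4.f61242 IH) (Lpr_gt (f152863 IH) (Lpr_dt (f83178 IH) (Lpe (f152844 IH) (Lpe (f152841 IH) (Lpn (LP (LK LD1_c6 LD2_c23 LD3_c57))))))))))))
theorem f115163 : Led Lsl_cf (LP (LK LD1_c9 LD2_c28 LD3_c16)) = (LP (LK LD1_c9 LD2_c28 LD3_c13)) :=
  Lgr Lrot11 (Lpr_ct (K5.f115155 IH) (Lpn (LP (LK LD1_c9 LD2_c28 LD3_c13))))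
theorem f133340 : Led Lsl_at (LP (LK LD1_c9 LD2_c28 LD3_c16)) = (LP (LK LD1_c12 LD2_c11 LD3_c50)) :=
  Lgr Lrot107 (Lpr_cf (f115163 IH) (Lpe (K5.f113552 IH) (Lpr_cf (K5.f133321 IH) (Lpn (LP (LK LD1_c12 LD2_c11 LD3_c50))))))
theorem f133473 : Led Lsl_af (LP (LK LD1_c12 LD2_c11 LD3_c48)) = (LP (LK LD1_c9 LD2_c28 LD3_c19)) :=
  Lgr Lrot45 (Lpe (K5.f133404 IH) (Lpr_at (f133340 IH) (Lpr_ft (K5.f133467 IH) (Lpn (LP (LK LD1_c9 LD2_c28 LD3_c19))))))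
theorem f152871 : Led Lsl_gf (LP (LK LD1_c12 LD2_c11 LD3_c48)) = (LP (LK LD1_c6 LD2_c23 LD3_c57)) :=
  Lgr Lrot76 (Lpr_af (f133473 IH) (Lpe (K5.f133467 IH) (Lpr_gt (f152865 IH) (Lpn (LP (LK LD1_c6 LD2_c23 LD3_c57))))))
theorem f152882 : Led Lsl_dt (LP (LK LD1_c3 LD2_c9 LD3_c34)) = (LP (LK LD1_c6 LD2_c23 LD3_c57)) :=
  Lre_d IH (LK LD1_c3 LD2_c9 LD3_c34) (LK LD1_c6 LD2_c23 LD3_c57) Lrfl Lrfl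
theorem f152852 : Led Lsl_gt (LP (LK LD1_c6 LD2_c23 LD3_c55)) = (LP (LK LD1_c3 LD2_c9 LD3_c34)) :=
  Lre_g IH (LK LD1_c6 LD2_c23 LD3_c55) (LK LD1_c3 LD2_c9 LD3_c34) Lrfl Lrfl
theorem f127028 : Led Lsl_dt (LP (LK LD1_c2 LD2_c20 LD3_c25)) = (LP (LK LD1_c1 LD2_c29 LD3_c49)) :=
  Lgr Lrot57 (Lpe (K3.f98839 IH) (Lpe (K3.f98840 IH) (Lpr_gt (K3.f98915 IH) (Lpr_dt (K1.f13683 IH) (Lpe (K3.f102001 IH) (Lpr_dt (K3.f13745 IH) (Lpr_cf (K4.f99177 IH) (Lpe (K4.f58192 IH) (Lpr_gf (K5.f127026 IH) (Lpn (LP (LK LD1_c1 LD2_c29 LD3_c49))))))))))))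
theorem f128570 : Led Lsl_dt (LP (LK LD1_c2 LD2_c17 LD3_c7)) = (LP (LK LD1_c3 LD2_c12 LD3_c14)) :=
  Lgr Lrot60 (Lpr_ff (K5.f110468 IH) (Lpe (f127028 IH) (Lpr_ff (K5.f128563 IH) (Lpn (LP (LK LD1_c3 LD2_c12 LD3_c14))))))
theorem f104134 : Led Lsl_at (LP (LK LD1_c1 LD2_c7 LD3_c33)) = (LP (LK LD1_c2 LD2_c20 LD3_c20)) :=
  Lre_a IH (LK LD1_c1 LD2_c7 LD3_c33) (LK LD1_c2 LD2_c20 LD3_c20) Lrfl Lrfl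
theorem f104137 : Led Lsl_ft (LP (LK LD1_c2 LD2_c20 LD3_c28)) = (LP (LK LD1_c1 LD2_c7 LD3_c33)) :=
  Lre_f IH (LK LD1_c2 LD2_c20 LD3_c28) (LK LD1_c1 LD2_c7 LD3_c33) Lrfl Lrfl
theorem f128580 : Led Lsl_gt (LP (LK LD1_c2 LD2_c20 LD3_c28)) = (LP (LK LD1_c3 LD2_c12 LD3_c14)) :=
  Lgr Lrot5 (Lpr_ft (f104137 IH) (Lpr_at (f104134 IH) (Lpr_gf (K5.f128578 IH) (Lpn (LP (LK LD1_c3 LD2_c12 LD3_c14))))))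
theorem f152506 : Led Lsl_dt (LP (LK LD1_c2 LD2_c19 LD3_c26)) = (LP (LK LD1_c1 LD2_c29 LD3_c55)) :=
  Lgr Lrot42 (Lpr_df (f152501 IH) (Lpn (LP (LK LD1_c1 LD2_c29 LD3_c55))))
theorem f152518 : Led Lsl_df (LP (LK LD1_c4 LD2_c43 LD3_c24)) = (LP (LK LD1_c3 LD2_c7 LD3_c24)) :=
  Lgr Lrot12 (Lpr_bt (f82502 IH) (Lpr_dt (f152506 IH) (Lpr_bt (f152515 IH) (Lpn (LP (LK LD1_c3 LD2_c7 LD3_c24))))))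
theorem f152941 : Led Lsl_gf (LP (LK LD1_c2 LD2_c20 LD3_c29)) = (LP (LK LD1_c2 LD2_c19 LD3_c52)) :=
  Lgr Lrot141 (Lpe (K5.f102286 IH) (Lpr_dt (K4.f102291 IH) (Lpr_gt (f128580 IH) (Lpe (f128570 IH) (Lpr_et (K5.f61645 IH) (Lpe (K5.f125300 IH) (Lpr_dt (f58165 IH) (Lpr_gt (f152937 IH) (Lpr_df (f152518 IH) (Lpe (f152516 IH) (Lpn (LP (LK LD1_c2 LD2_c19 LD3_c52)))))))))))))
theorem f102281 : Led Lsl_at (LP (LK LD1_c1 LD2_c7 LD3_c39)) = (LP (LK LD1_c2 LD2_c20 LD3_c29)) :=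
  Lre_a IH (LK LD1_c1 LD2_c7 LD3_c39) (LK LD1_c2 LD2_c20 LD3_c29) Lrfl Lrfl
theorem f102282 : Led Lsl_ft (LP (LK LD1_c1 LD2_c7 LD3_c39)) = (LP (LK LD1_c1 LD2_c7 LD3_c39)) :=
  Lgr Lrot101 (Lpe (K5.f102280 IH) (Lpr_ff (K5.f102275 IH) (Lpe (f102281 IH) (Lpn (LP (LK LD1_c1 LD2_c7 LD3_c39))))))
theorem f152943 : Led Lsl_gt (LP (LK LD1_c1 LD2_c7 LD3_c39)) = (LP (LK LD1_c2 LD2_c19 LD3_c52)) :=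
  Lgr Lrot5 (Lpr_ft (f102282 IH) (Lpr_at (f102281 IH) (Lpr_gf (f152941 IH) (Lpn (LP (LK LD1_c2 LD2_c19 LD3_c52))))))
theorem f152945 : Led Lsl_gf (LP (LK LD1_c4 LD2_c47 LD3_c31)) = (LP (LK LD1_c4 LD2_c43 LD3_c24)) :=
  Lgr Lrot145 (Lpe (K5.f86315 IH) (Lpr_et (K5.f102175 IH) (Lpe (f143001 IH) (Lpe (K5.f127032 IH) (Lpr_gt (K3.f98873 IH) (Lpe (K3.f23499 IH) (Lpr_et (K5.f102292 IH) (Lpr_gt (f152943 IH) (Lpr_ef (f152516 IH) (Lpe (f152518 IH) (Lpn (LP (LK LD1_c4 LD2_c43 LD3_c24)))))))))))))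
theorem f152947 : Led Lsl_ff (LP (LK LD1_c4 LD2_c40 LD3_c15)) = (LP (LK LD1_c4 LD2_c47 LD3_c33)) :=
  Lgr Lrot52 (Lpe (K5.f125207 IH) (Lpr_gf (f152945 IH) (Lpe (f152937 IH) (Lpn (LP (LK LD1_c4 LD2_c47 LD3_c33))))))
theorem f78272 : Led Lsl_dt (LP (LK LD1_c6 LD2_c17 LD3_c37)) = (LP (LK LD1_c3 LD2_c6 LD3_c0)) :=
  Lre_d IH (LK LD1_c6 LD2_c17 LD3_c37) (LK LD1_c3 LD2_c6 LD3_c0) Lrfl Lrfl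
theorem f125265 : Led Lsl_ft (LP (LK LD1_c4 LD2_c47 LD3_c31)) = (LP (LK LD1_c6 LD2_c17 LD3_c37)) :=
  Lgr Lrot54 (Lpe (K5.f86315 IH) (Lpr_ff (K5.f125259 IH) (Lpe (f78272 IH) (Lpn (LP (LK LD1_c6 LD2_c17 LD3_c37))))))
theorem f152957 : Led Lsl_at (LP (LK LD1_c6 LD2_c17 LD3_c37)) = (LP (LK LD1_c4 LD2_c47 LD3_c33)) :=
  Lgr Lrot66 (Lpe (f125265 IH) (Lpr_af (K5.f125207 IH) (Lpr_ff (f152947 IH) (Lpn (LP (LK LD1_c4 LD2_c47 LD3_c33))))))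
theorem f113630 : Led Lsl_cf (LP (LK LD1_c9 LD2_c28 LD3_c7)) = (LP (LK LD1_c9 LD2_c28 LD3_c25)) :=
  Lgr Lrot11 (Lpr_ct (K5.f113621 IH) (Lpn (LP (LK LD1_c9 LD2_c28 LD3_c25))))
theorem f85763 : Led Lsl_bt (LP (LK LD1_c9 LD2_c21 LD3_c50)) = (LP (LK LD1_c17 LD2_c18 LD3_c4)) :=
  Lre_b IH (LK LD1_c9 LD2_c21 LD3_c50) (LK LD1_c17 LD2_c18 LD3_c4) Lrfl Lrfl
theorem f85764 : Led Lsl_ft (LP (LK LD1_c9 LD2_c28 LD3_c26)) = (LP (LK LD1_c9 LD2_c21 LD3_c50)) :=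
  Lgr Lrot75 (Lpe (K5.f85762 IH) (Lpr_ff (K3.f85749 IH) (Lpe (f85763 IH) (Lpn (LP (LK LD1_c9 LD2_c21 LD3_c50))))))
theorem f86568 : Led Lsl_gt (LP (LK LD1_c9 LD2_c28 LD3_c26)) = (LP (LK LD1_c9 LD2_c28 LD3_c25)) :=
  Lgr Lrot5 (Lpr_ft (f85764 IH) (Lpr_at (K5.f86165 IH) (Lpe (K5.f86567 IH) (Lpn (LP (LK LD1_c9 LD2_c28 LD3_c25))))))
theorem f152853 : Led Lsl_dt (LP (LK LD1_c9 LD2_c28 LD3_c25)) = (LP (LK LD1_c6 LD2_c23 LD3_c55)) :=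
  Lgr Lrot6 (Lpr_gt (K5.f86567 IH) (Lpr_ct (K5.f58016 IH) (Lpr_gt (f86568 IH) (Lpe (f113630 IH) (Lpe (K5.f102199 IH) (Lpe (K5.f7476 IH) (Lpr_gf (f152842 IH) (Lpe (f152844 IH) (Lpe (f152852 IH) (Lpn (LP (LK LD1_c6 LD2_c23 LD3_c55))))))))))))
theorem f152963 : Led Lsl_ct (LP (LK LD1_c6 LD2_c23 LD3_c55)) = (LP (LK LD1_c4 LD2_c47 LD3_c33)) :=
  Lgr Lrot98 (Lpe (f152853 IH) (Lpe (K5.f113621 IH) (Lpe (K5.f102199 IH) (Lpe (K5.f7476 IH) (Lpe (K5.f7475 IH) (Lpe (K4.f86318 IH) (Lpe (K5.f86314 IH) (Lpr_ft (f125265 IH) (Lpr_at (f152957 IH) (Lpn (LP (LK LD1_c4 LD2_c47 LD3_c33))))))))))))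
theorem f152967 : Led Lsl_cf (LP (LK LD1_c6 LD2_c23 LD3_c55)) = (LP (LK LD1_c4 LD2_c47 LD3_c33)) :=
  Lgr Lrot11 (Lpr_ct (f152963 IH) (Lpn (LP (LK LD1_c4 LD2_c47 LD3_c33))))
theorem f153149 : Led Lsl_gt (LP (LK LD1_c3 LD2_c7 LD3_c24)) = (LP (LK LD1_c3 LD2_c9 LD3_c32)) :=
  Lgr Lrot189 (Lpe (f152504 IH) (Lpe (f152937 IH) (Lpe (f152967 IH) (Lpr_gt (f152852 IH) (Lpr_dt (f152882 IH) (Lpe (f152871 IH) (Lpr_dt (f58077 IH) (Lpr_ct (f153138 IH) (Lpe (f153140 IH) (Lpn (LP (LK LD1_c3 LD2_c9 LD3_c32))))))))))))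
theorem f156199 : Led Lsl_bt (LP (LK LD1_c1 LD2_c30 LD3_c55)) = (LP (LK LD1_c1 LD2_c44 LD3_c23)) :=
  Lgr Lrot22 (Lpr_ct (f152851 IH) (Lpe (f153149 IH) (Lpe (f152933 IH) (Lpe (K5.f66776 IH) (Lpr_bf (K3.f66768 IH) (Lpr_ct (K3.f12094 IH) (Lpe (f143282 IH) (Lpr_cf (f143279 IH) (Lpr_bt (f143278 IH) (Lpr_gf (f156188 IH) (Lpn (LP (LK LD1_c1 LD2_c44 LD3_c23)))))))))))))
theorem f153175 : Led Lsl_ft (LP (LK LD1_c1 LD2_c5 LD3_c31)) = (LP (LK LD1_c1 LD2_c30 LD3_c55)) :=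
  Lgr Lrot4 (Lpe (K3.f66767 IH) (Lpr_ff (f153173 IH) (Lpe (f152851 IH) (Lpn (LP (LK LD1_c1 LD2_c30 LD3_c55))))))
theorem f66765 : Led Lsl_bf (LP (LK LD1_c1 LD2_c5 LD3_c31)) = (LP (LK LD1_c1 LD2_c42 LD3_c33)) :=
  Lgr Lrot24 (Lpr_bt (K3.f66763 IH) (Lpn (LP (LK LD1_c1 LD2_c42 LD3_c33))))
theorem f156207 : Led Lsl_ff (LP (LK LD1_c1 LD2_c42 LD3_c33)) = (LP (LK LD1_c1 LD2_c44 LD3_c23)) :=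
  Lgr Lrot25 (Lpe (f66765 IH) (Lpr_ft (f153175 IH) (Lpr_bt (f156199 IH) (Lpn (LP (LK LD1_c1 LD2_c44 LD3_c23))))))
theorem f156026 : Led Lsl_bt (LP (LK LD1_c3 LD2_c1 LD3_c9)) = (LP (LK LD1_c6 LD2_c9 LD3_c22)) :=
  Lre_b IH (LK LD1_c3 LD2_c1 LD3_c9) (LK LD1_c6 LD2_c9 LD3_c22) Lrfl Lrfl
theorem f86809 : Led Lsl_ct (LP (LK LD1_c3 LD2_c1 LD3_c9)) = (LP (LK LD1_c6 LD2_c9 LD3_c23)) :=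
  Lre_c IH (LK LD1_c3 LD2_c1 LD3_c9) (LK LD1_c6 LD2_c9 LD3_c23) Lrfl Lrfl
theorem f124242 : Led Lsl_bt (LP (LK LD1_c3 LD2_c42 LD3_c32)) = (LP (LK LD1_c6 LD2_c17 LD3_c37)) :=
  Lgr Lrot95 (Lpe (f120903 IH) (Lpr_bf (K5.f124240 IH) (Lpe (f78272 IH) (Lpn (LP (LK LD1_c6 LD2_c17 LD3_c37))))))
theorem f120904 : Led Lsl_ct (LP (LK LD1_c3 LD2_c42 LD3_c32)) = (LP (LK LD1_c7 LD2_c25 LD3_c43)) :=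
  Lre_c IH (LK LD1_c3 LD2_c42 LD3_c32) (LK LD1_c7 LD2_c25 LD3_c43) Lrfl Lrfl
theorem f156027 : Led Lsl_gt (LP (LK LD1_c6 LD2_c9 LD3_c23)) = (LP (LK LD1_c7 LD2_c25 LD3_c43)) :=
  Lgr Lrot65 (Lpe (f86809 IH) (Lpr_bt (f156026 IH) (Lpr_gf (f156022 IH) (Lpe (f102188 IH) (Lpr_ct (K5.f7476 IH) (Lpe (K5.f102204 IH) (Lpr_cf (K5.f125306 IH) (Lpr_gf (K5.f125287 IH) (Lpe (f124242 IH) (Lpr_ct (f120904 IH) (Lpn (LP (LK LD1_c7 LD2_c25 LD3_c43)))))))))))))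
theorem f121402 : Led Lsl_dt (LP (LK LD1_c3 LD2_c13 LD3_c41)) = (LP (LK LD1_c1 LD2_c33 LD3_c23)) :=
  Lre_d IH (LK LD1_c3 LD2_c13 LD3_c41) (LK LD1_c1 LD2_c33 LD3_c23) Lrfl Lrfl
theorem f156032 : Led Lsl_gf (LP (LK LD1_c3 LD2_c1 LD3_c9)) = (LP (LK LD1_c3 LD2_c13 LD3_c41)) :=
  Lgr Lrot147 (Lpr_ct (f86809 IH) (Lpr_gt (f156027 IH) (Lpr_ct (f120910 IH) (Lpe (f120903 IH) (Lpe (K4.f120894 IH) (Lpr_gf (K4.f106764 IH) (Lpr_cf (K2.f84758 IH) (Lpe (K6.f144119 IH) (Lpe (f121402 IH) (Lpn (LP (LK LD1_c3 LD2_c13 LD3_c41))))))))))))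
theorem f21135 : Led Lsl_dt (LP (LK LD1_c1 LD2_c26 LD3_c28)) = (LP (LK LD1_c3 LD2_c1 LD3_c9)) :=
  Lre_d IH (LK LD1_c1 LD2_c26 LD3_c28) (LK LD1_c3 LD2_c1 LD3_c9) Lrfl Lrfl
theorem f144135 : Led Lsl_et (LP (LK LD1_c1 LD2_c33 LD3_c23)) = (LP (LK LD1_c0 LD2_c45 LD3_c20)) :=
  Lgr Lrot87 (Lpr_ef (K6.f144131 IH) (Lpn (LP (LK LD1_c0 LD2_c45 LD3_c20))))
theorem f156039 : Led Lsl_et (LP (LK LD1_c1 LD2_c26 LD3_c28)) = (LP (LK LD1_c1 LD2_c26 LD3_c28)) :=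
  Lgr Lrot121 (Lpr_dt (f21135 IH) (Lpr_gf (f156032 IH) (Lpe (f95821 IH) (Lpr_et (f144135 IH) (Lpe (K6.f144149 IH) (Lpe (K4.f82438 IH) (Lpr_dt (K5.f82433 IH) (Lpr_gf (K6.f134885 IH) (Lpe (K5.f21076 IH) (Lpe (K6.f21093 IH) (Lpn (LP (LK LD1_c1 LD2_c26 LD3_c28)))))))))))))
theorem f156044 : Led Lsl_ef (LP (LK LD1_c1 LD2_c43 LD3_c12)) = (LP (LK LD1_c1 LD2_c43 LD3_c12)) :=
  Lgr Lrot28 (Lpr_ct (K6.f143276 IH) (Lpr_et (f156039 IH) (Lpe (f143279 IH) (Lpn (LP (LK LD1_c1 LD2_c43 LD3_c12))))))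
theorem f106096 : Led Lsl_bt (LP (LK LD1_c0 LD2_c48 LD3_c14)) = (LP (LK LD1_c1 LD2_c43 LD3_c12)) :=
  Lre_b IH (LK LD1_c0 LD2_c48 LD3_c14) (LK LD1_c1 LD2_c43 LD3_c12) Lrfl Lrfl
theorem f156055 : Led Lsl_et (LP (LK LD1_c0 LD2_c48 LD3_c14)) = (LP (LK LD1_c0 LD2_c48 LD3_c14)) :=
  Lgr Lrot74 (Lpe (K6.f10358 IH) (Lpr_ef (f156044 IH) (Lpe (f106096 IH) (Lpn (LP (LK LD1_c0 LD2_c48 LD3_c14))))))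
theorem f19982 : Led Lsl_dt (LP (LK LD1_c0 LD2_c9 LD3_c60)) = (LP (LK LD1_c0 LD2_c22 LD3_c11)) :=
  Lre_d IH (LK LD1_c0 LD2_c9 LD3_c60) (LK LD1_c0 LD2_c22 LD3_c11) Lrfl Lrfl
theorem f10087 : Led Lsl_gt (LP (LK LD1_c0 LD2_c22 LD3_c11)) = (LP (LK LD1_c0 LD2_c49 LD3_c31)) :=
  Lre_g IH (LK LD1_c0 LD2_c22 LD3_c11) (LK LD1_c0 LD2_c49 LD3_c31) Lrfl Lrfl
theorem f156059 : Led Lsl_dt (LP (LK LD1_c0 LD2_c48 LD3_c14)) = (LP (LK LD1_c0 LD2_c49 LD3_c31)) :=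
  Lgr Lrot56 (Lpr_et (f156055 IH) (Lpr_gt (K3.f10435 IH) (Lpe (K0.f10245 IH) (Lpr_dt (K2.f10244 IH) (Lpr_gt (K2.f10801 IH) (Lpr_df (K0.f17465 IH) (Lpe (K3.f105744 IH) (Lpr_gt (K3.f93081 IH) (Lpr_dt (f19982 IH) (Lpr_gt (f10087 IH) (Lpn (LP (LK LD1_c0 LD2_c49 LD3_c31)))))))))))))
theorem f156065 : Led Lsl_df (LP (LK LD1_c0 LD2_c48 LD3_c14)) = (LP (LK LD1_c0 LD2_c49 LD3_c31)) :=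
  Lgr Lrot38 (Lpr_dt (f156059 IH) (Lpn (LP (LK LD1_c0 LD2_c49 LD3_c31))))
theorem f19359 : Led Lsl_dt (LP (LK LD1_c0 LD2_c47 LD3_c9)) = (LP (LK LD1_c1 LD2_c41 LD3_c11)) :=
  Lre_d IH (LK LD1_c0 LD2_c47 LD3_c9) (LK LD1_c1 LD2_c41 LD3_c11) Lrfl Lrfl
theorem f87130 : Led Lsl_gt (LP (LK LD1_c1 LD2_c41 LD3_c11)) = (LP (LK LD1_c3 LD2_c28 LD3_c53)) :=
  Lre_g IH (LK LD1_c1 LD2_c41 LD3_c11) (LK LD1_c3 LD2_c28 LD3_c53) Lrfl Lrfl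
theorem f156074 : Led Lsl_df (LP (LK LD1_c1 LD2_c43 LD3_c13)) = (LP (LK LD1_c3 LD2_c28 LD3_c53)) :=
  Lgr Lrot84 (Lpe (K3.f10359 IH) (Lpr_df (f156065 IH) (Lpe (f10087 IH) (Lpe (f19982 IH) (Lpe (K3.f93081 IH) (Lpe (K3.f94360 IH) (Lpe (K3.f106773 IH) (Lpr_dt (f19359 IH) (Lpr_gt (f87130 IH) (Lpn (LP (LK LD1_c3 LD2_c28 LD3_c53))))))))))))
theorem f76772 : Led Lsl_gt (LP (LK LD1_c1 LD2_c40 LD3_c56)) = (LP (LK LD1_c0 LD2_c46 LD3_c59)) :=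
  Lre_g IH (LK LD1_c1 LD2_c40 LD3_c56) (LK LD1_c0 LD2_c46 LD3_c59) Lrfl Lrfl
theorem f155091 : Led Lsl_bt (LP (LK LD1_c1 LD2_c43 LD3_c13)) = (LP (LK LD1_c1 LD2_c40 LD3_c56)) :=
  Lgr Lrot22 (Lpr_ct (K3.f19436 IH) (Lpe (K3.f9976 IH) (Lpr_cf (K0.f19448 IH) (Lpe (K6.f10362 IH) (Lpe (f10363 IH) (Lpr_ct (f155087 IH) (Lpe (f62660 IH) (Lpe (K3.f85327 IH) (Lpr_bt (K3.f19385 IH) (Lpe (f76772 IH) (Lpn (LP (LK LD1_c1 LD2_c40 LD3_c56)))))))))))))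
theorem f94111 : Led Lsl_dt (LP (LK LD1_c1 LD2_c40 LD3_c56)) = (LP (LK LD1_c3 LD2_c28 LD3_c28)) :=
  Lre_d IH (LK LD1_c1 LD2_c40 LD3_c56) (LK LD1_c3 LD2_c28 LD3_c28) Lrfl Lrfl
theorem f156099 : Led Lsl_bt (LP (LK LD1_c3 LD2_c28 LD3_c28)) = (LP (LK LD1_c3 LD2_c28 LD3_c53)) :=
  Lgr Lrot95 (Lpe (f94111 IH) (Lpe (f155091 IH) (Lpr_df (f156074 IH) (Lpn (LP (LK LD1_c3 LD2_c28 LD3_c53))))))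
theorem f156118 : Led Lsl_bf (LP (LK LD1_c3 LD2_c28 LD3_c28)) = (LP (LK LD1_c3 LD2_c28 LD3_c53)) :=
  Lgr Lrot24 (Lpr_bt (f156099 IH) (Lpn (LP (LK LD1_c3 LD2_c28 LD3_c53))))
theorem f94114 : Led Lsl_dt (LP (LK LD1_c3 LD2_c28 LD3_c28)) = (LP (LK LD1_c1 LD2_c40 LD3_c56)) :=
  Lre_d IH (LK LD1_c3 LD2_c28 LD3_c28) (LK LD1_c1 LD2_c40 LD3_c56) Lrfl Lrfl
theorem f156101 : Led Lsl_dt (LP (LK LD1_c1 LD2_c43 LD3_c13)) = (LP (LK LD1_c3 LD2_c28 LD3_c53)) :=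
  Lgr Lrot42 (Lpr_df (f156074 IH) (Lpn (LP (LK LD1_c3 LD2_c28 LD3_c53))))
theorem f156120 : Led Lsl_bt (LP (LK LD1_c1 LD2_c40 LD3_c56)) = (LP (LK LD1_c1 LD2_c43 LD3_c13)) :=
  Lgr Lrot95 (Lpe (f94114 IH) (Lpr_bf (f156118 IH) (Lpe (f156101 IH) (Lpn (LP (LK LD1_c1 LD2_c43 LD3_c13))))))
theorem f156057 : Led Lsl_ef (LP (LK LD1_c1 LD2_c43 LD3_c13)) = (LP (LK LD1_c1 LD2_c43 LD3_c13)) :=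
  Lgr Lrot28 (Lpr_ct (K3.f19436 IH) (Lpr_et (f156055 IH) (Lpr_ct (K3.f10359 IH) (Lpn (LP (LK LD1_c1 LD2_c43 LD3_c13))))))
theorem f156124 : Led Lsl_ef (LP (LK LD1_c1 LD2_c40 LD3_c56)) = (LP (LK LD1_c1 LD2_c40 LD3_c56)) :=
  Lgr Lrot29 (Lpr_bt (f156120 IH) (Lpe (f156057 IH) (Lpr_bt (f155091 IH) (Lpn (LP (LK LD1_c1 LD2_c40 LD3_c56))))))
theorem f156122 : Led Lsl_cf (LP (LK LD1_c1 LD2_c40 LD3_c56)) = (LP (LK LD1_c3 LD2_c1 LD3_c8)) :=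
  Lgr Lrot97 (Lpr_bt (f156120 IH) (Lpr_ct (K3.f19436 IH) (Lpr_bt (f106096 IH) (Lpr_ct (K6.f143276 IH) (Lpr_bt (f143278 IH) (Lpn (LP (LK LD1_c3 LD2_c1 LD3_c8))))))))
theorem f21145 : Led Lsl_bt (LP (LK LD1_c3 LD2_c1 LD3_c8)) = (LP (LK LD1_c1 LD2_c26 LD3_c28)) :=
  Lre_b IH (LK LD1_c3 LD2_c1 LD3_c8) (LK LD1_c1 LD2_c26 LD3_c28) Lrfl Lrfl
theorem f156042 : Led Lsl_ef (LP (LK LD1_c3 LD2_c1 LD3_c8)) = (LP (LK LD1_c3 LD2_c1 LD3_c8)) :=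
  Lgr Lrot29 (Lpr_bt (f21145 IH) (Lpr_et (f156039 IH) (Lpr_bt (f143278 IH) (Lpn (LP (LK LD1_c3 LD2_c1 LD3_c8))))))
theorem f156128 : Led Lsl_ct (LP (LK LD1_c1 LD2_c40 LD3_c56)) = (LP (LK LD1_c3 LD2_c1 LD3_c8)) :=
  Lgr Lrot15 (Lpr_ef (f156124 IH) (Lpr_cf (f156122 IH) (Lpr_ef (f156042 IH) (Lpn (LP (LK LD1_c3 LD2_c1 LD3_c8))))))
theorem f94107 : Led Lsl_dt (LP (LK LD1_c3 LD2_c25 LD3_c16)) = (LP (LK LD1_c1 LD2_c39 LD3_c13)) :=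
  Lre_d IH (LK LD1_c3 LD2_c25 LD3_c16) (LK LD1_c1 LD2_c39 LD3_c13) Lrfl Lrfl
theorem f83945 : Led Lsl_dt (LP (LK LD1_c6 LD2_c26 LD3_c11)) = (LP (LK LD1_c3 LD2_c10 LD3_c56)) :=
  Lre_d IH (LK LD1_c6 LD2_c26 LD3_c11) (LK LD1_c3 LD2_c10 LD3_c56) Lrfl Lrfl
theorem f83947 : Led Lsl_dt (LP (LK LD1_c3 LD2_c10 LD3_c56)) = (LP (LK LD1_c6 LD2_c26 LD3_c11)) :=
  Lre_d IH (LK LD1_c3 LD2_c10 LD3_c56) (LK LD1_c6 LD2_c26 LD3_c11) Lrfl Lrfl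
theorem f95187 : Led Lsl_et (LP (LK LD1_c1 LD2_c38 LD3_c34)) = (LP (LK LD1_c0 LD2_c45 LD3_c40)) :=
  Lre_e IH (LK LD1_c1 LD2_c38 LD3_c34) (LK LD1_c0 LD2_c45 LD3_c40) Lrfl Lrfl
theorem f95188 : Led Lsl_dt (LP (LK LD1_c1 LD2_c38 LD3_c34)) = (LP (LK LD1_c3 LD2_c24 LD3_c21)) :=
  Lre_d IH (LK LD1_c1 LD2_c38 LD3_c34) (LK LD1_c3 LD2_c24 LD3_c21) Lrfl Lrfl
theorem f108856 : Led Lsl_gf (LP (LK LD1_c6 LD2_c26 LD3_c11)) = (LP (LK LD1_c3 LD2_c24 LD3_c21)) :=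
  Lgr Lrot145 (Lpe (f83947 IH) (Lpr_et (K5.f108852 IH) (Lpr_gt (K5.f104323 IH) (Lpr_dt (K2.f19344 IH) (Lpe (K3.f93999 IH) (Lpe (K2.f23700 IH) (Lpe (K4.f106140 IH) (Lpe (K4.f95178 IH) (Lpe (f95187 IH) (Lpr_dt (f95188 IH) (Lpn (LP (LK LD1_c3 LD2_c24 LD3_c21)))))))))))))
theorem f156130 : Led Lsl_gf (LP (LK LD1_c1 LD2_c38 LD3_c34)) = (LP (LK LD1_c3 LD2_c1 LD3_c8)) :=
  Lgr Lrot148 (Lpr_dt (f95188 IH) (Lpe (f108856 IH) (Lpr_dt (f83945 IH) (Lpr_ct (K4.f108829 IH) (Lpe (f94107 IH) (Lpr_gf (K5.f94105 IH) (Lpe (K3.f76780 IH) (Lpe (f76772 IH) (Lpr_ct (f156128 IH) (Lpn (LP (LK LD1_c3 LD2_c1 LD3_c8))))))))))))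
theorem f156217 : Led Lsl_at (LP (LK LD1_c1 LD2_c42 LD3_c33)) = (LP (LK LD1_c1 LD2_c38 LD3_c34)) :=
  Lgr Lrot26 (Lpr_ff (f156207 IH) (Lpe (f156188 IH) (Lpe (f156130 IH) (Lpn (LP (LK LD1_c1 LD2_c38 LD3_c34))))))
theorem f156219 : Led Lsl_af (LP (LK LD1_c1 LD2_c42 LD3_c33)) = (LP (LK LD1_c1 LD2_c38 LD3_c34)) :=
  Lgr Lrot0 (Lpr_at (f156217 IH) (Lpn (LP (LK LD1_c1 LD2_c38 LD3_c34))))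
theorem f92264 : Led Lsl_ct (LP (LK LD1_c0 LD2_c45 LD3_c41)) = (LP (LK LD1_c1 LD2_c38 LD3_c34)) :=
  Lre_c IH (LK LD1_c0 LD2_c45 LD3_c41) (LK LD1_c1 LD2_c38 LD3_c34) Lrfl Lrfl
theorem f156283 : Led Lsl_at (LP (LK LD1_c0 LD2_c47 LD3_c51)) = (LP (LK LD1_c0 LD2_c45 LD3_c41)) :=
  Lgr Lrot107 (Lpe (K3.f12104 IH) (Lpr_af (f156219 IH) (Lpe (f92264 IH) (Lpn (LP (LK LD1_c0 LD2_c45 LD3_c41))))))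
theorem f156285 : Led Lsl_ff (LP (LK LD1_c0 LD2_c47 LD3_c51)) = (LP (LK LD1_c0 LD2_c48 LD3_c47)) :=
  Lgr Lrot52 (Lpr_at (f156283 IH) (Lpe (f154955 IH) (Lpe (f10929 IH) (Lpn (LP (LK LD1_c0 LD2_c48 LD3_c47))))))
theorem f125171 : Led Lsl_ft (LP (LK LD1_c0 LD2_c45 LD3_c44)) = (LP (LK LD1_c0 LD2_c46 LD3_c43)) :=
  Lgr Lrot75 (Lpe (K4.f92044 IH) (Lpr_ff (K5.f125169 IH) (Lpe (K4.f83951 IH) (Lpn (LP (LK LD1_c0 LD2_c46 LD3_c43))))))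
theorem f156287 : Led Lsl_et (LP (LK LD1_c0 LD2_c46 LD3_c43)) = (LP (LK LD1_c0 LD2_c48 LD3_c47)) :=
  Lgr Lrot69 (Lpe (f125171 IH) (Lpe (K2.f91305 IH) (Lpe (K5.f126018 IH) (Lpe (K2.f18139 IH) (Lpr_ff (f156285 IH) (Lpn (LP (LK LD1_c0 LD2_c48 LD3_c47))))))))
theorem f156126 : Led Lsl_bt (LP (LK LD1_c0 LD2_c21 LD3_c42)) = (LP (LK LD1_c0 LD2_c48 LD3_c31)) :=
  Lre_b IH (LK LD1_c0 LD2_c21 LD3_c42) (LK LD1_c0 LD2_c48 LD3_c31) Lrfl Lrfl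
theorem f156127 : Led Lsl_gt (LP (LK LD1_c0 LD2_c48 LD3_c31)) = (LP (LK LD1_c1 LD2_c43 LD3_c52)) :=
  Lre_g IH (LK LD1_c0 LD2_c48 LD3_c31) (LK LD1_c1 LD2_c43 LD3_c52) Lrfl Lrfl
theorem f154995 : Led Lsl_ct (LP (LK LD1_c0 LD2_c48 LD3_c47)) = (LP (LK LD1_c1 LD2_c44 LD3_c23)) :=
  Lre_c IH (LK LD1_c0 LD2_c48 LD3_c47) (LK LD1_c1 LD2_c44 LD3_c23) Lrfl Lrfl
theorem f156197 : Led Lsl_bf (LP (LK LD1_c1 LD2_c43 LD3_c52)) = (LP (LK LD1_c0 LD2_c48 LD3_c47)) :=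
  Lgr Lrot34 (Lpe (f156127 IH) (Lpe (f156126 IH) (Lpr_ct (K3.f106015 IH) (Lpe (K3.f106648 IH) (Lpr_cf (K3.f90397 IH) (Lpr_gf (K3.f106087 IH) (Lpe (f156120 IH) (Lpr_ct (f156128 IH) (Lpr_gf (f156188 IH) (Lpe (f154995 IH) (Lpn (LP (LK LD1_c0 LD2_c48 LD3_c47)))))))))))))
theorem f156289 : Led Lsl_ef (LP (LK LD1_c1 LD2_c40 LD3_c31)) = (LP (LK LD1_c1 LD2_c43 LD3_c52)) :=
  Lgr Lrot29 (Lpr_bt (K5.f12647 IH) (Lpr_et (f156287 IH) (Lpe (f156197 IH) (Lpn (LP (LK LD1_c1 LD2_c43 LD3_c52))))))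
theorem f156299 : Led Lsl_df (LP (LK LD1_c3 LD2_c27 LD3_c53)) = (LP (LK LD1_c1 LD2_c43 LD3_c52)) :=
  Lgr Lrot168 (Lpe (K4.f120883 IH) (Lpe (K3.f87485 IH) (Lpr_et (K2.f84756 IH) (Lpe (K2.f84732 IH) (Lpe (K3.f87550 IH) (Lpr_dt (K3.f87547 IH) (Lpr_gf (K3.f109127 IH) (Lpe (K3.f95923 IH) (Lpe (K5.f107086 IH) (Lpr_ef (f156289 IH) (Lpn (LP (LK LD1_c1 LD2_c43 LD3_c52)))))))))))))
theorem f131114 : Led Lsl_cf (LP (LK LD1_c3 LD2_c40 LD3_c20)) = (LP (LK LD1_c3 LD2_c31 LD3_c50)) :=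
  Lgr Lrot11 (Lpr_ct (K5.f131109 IH) (Lpn (LP (LK LD1_c3 LD2_c31 LD3_c50))))
theorem f115225 : Led Lsl_ft (LP (LK LD1_c3 LD2_c27 LD3_c53)) = (LP (LK LD1_c3 LD2_c31 LD3_c50)) :=
  Lgr Lrot75 (Lpe (K4.f106363 IH) (Lpr_ff (K4.f115223 IH) (Lpe (K4.f64375 IH) (Lpn (LP (LK LD1_c3 LD2_c31 LD3_c50))))))
theorem f131135 : Led Lsl_cf (LP (LK LD1_c3 LD2_c27 LD3_c53)) = (LP (LK LD1_c3 LD2_c42 LD3_c50)) :=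
  Lgr Lrot108 (Lpr_ft (f115225 IH) (Lpe (f131114 IH) (Lpr_ft (K5.f131128 IH) (Lpn (LP (LK LD1_c3 LD2_c42 LD3_c50))))))
theorem f143202 : Led Lsl_gt (LP (LK LD1_c1 LD2_c39 LD3_c3)) = (LP (LK LD1_c3 LD2_c25 LD3_c5)) :=
  Lre_g IH (LK LD1_c1 LD2_c39 LD3_c3) (LK LD1_c3 LD2_c25 LD3_c5) Lrfl Lrfl
theorem f156308 : Led Lsl_ct (LP (LK LD1_c3 LD2_c25 LD3_c5)) = (LP (LK LD1_c1 LD2_c43 LD3_c52)) :=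
  Lgr Lrot110 (Lpe (f143202 IH) (Lpe (f21150 IH) (Lpe (K6.f21086 IH) (Lpe (K5.f21074 IH) (Lpe (K6.f143200 IH) (Lpr_ct (K5.f17714 IH) (Lpe (f143230 IH) (Lpe (f131135 IH) (Lpr_df (f156299 IH) (Lpn (LP (LK LD1_c1 LD2_c43 LD3_c52))))))))))))
theorem f113963 : Led Lsl_et (LP (LK LD1_c1 LD2_c35 LD3_c51)) = (LP (LK LD1_c0 LD2_c49 LD3_c3)) :=
  Lgr Lrot158 (Lpe (K4.f84313 IH) (Lpr_ef (K4.f113959 IH) (Lpe (K4.f110054 IH) (Lpn (LP (LK LD1_c0 LD2_c49 LD3_c3))))))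
theorem f144171 : Led Lsl_ef (LP (LK LD1_c1 LD2_c42 LD3_c44)) = (LP (LK LD1_c0 LD2_c48 LD3_c58)) :=
  Lgr Lrot29 (Lpr_bt (K5.f94380 IH) (Lpr_et (f113963 IH) (Lpr_bt (K6.f144163 IH) (Lpn (LP (LK LD1_c0 LD2_c48 LD3_c58))))))
theorem f125157 : Led Lsl_at (LP (LK LD1_c1 LD2_c45 LD3_c58)) = (LP (LK LD1_c1 LD2_c40 LD3_c31)) :=
  Lgr Lrot100 (Lpr_af (K5.f125125 IH) (Lpn (LP (LK LD1_c1 LD2_c40 LD3_c31))))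
theorem f125183 : Led Lsl_ff (LP (LK LD1_c1 LD2_c45 LD3_c58)) = (LP (LK LD1_c1 LD2_c42 LD3_c44)) :=
  Lgr Lrot30 (Lpr_at (f125157 IH) (Lpe (K5.f125169 IH) (Lpr_at (K5.f125175 IH) (Lpn (LP (LK LD1_c1 LD2_c42 LD3_c44))))))
theorem f144183 : Led Lsl_ef (LP (LK LD1_c3 LD2_c32 LD3_c1)) = (LP (LK LD1_c1 LD2_c45 LD3_c58)) :=
  Lgr Lrot21 (Lpr_ft (K4.f87532 IH) (Lpr_et (K3.f87550 IH) (Lpr_ft (K6.f144177 IH) (Lpe (f144171 IH) (Lpe (f125183 IH) (Lpn (LP (LK LD1_c1 LD2_c45 LD3_c58))))))))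
theorem f156293 : Led Lsl_at (LP (LK LD1_c3 LD2_c32 LD3_c1)) = (LP (LK LD1_c1 LD2_c43 LD3_c52)) :=
  Lgr Lrot80 (Lpr_ef (f144183 IH) (Lpr_af (K5.f125125 IH) (Lpr_ef (f156289 IH) (Lpn (LP (LK LD1_c1 LD2_c43 LD3_c52))))))
theorem f87543 : Led Lsl_ft (LP (LK LD1_c1 LD2_c42 LD3_c41)) = (LP (LK LD1_c3 LD2_c32 LD3_c1)) :=
  Lre_f IH (LK LD1_c1 LD2_c42 LD3_c41) (LK LD1_c3 LD2_c32 LD3_c1) Lrfl Lrfl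
theorem f156314 : Led Lsl_df (LP (LK LD1_c3 LD2_c25 LD3_c5)) = (LP (LK LD1_c3 LD2_c42 LD3_c34)) :=
  Lgr Lrot177 (Lpr_ct (f156308 IH) (Lpe (f156293 IH) (Lpe (f87543 IH) (Lpr_dt (K3.f87547 IH) (Lpr_ct (K5.f131059 IH) (Lpr_dt (f124262 IH) (Lpe (f153201 IH) (Lpr_dt (f95952 IH) (Lpr_ct (f153209 IH) (Lpn (LP (LK LD1_c3 LD2_c42 LD3_c34))))))))))))
theorem f156310 : Led Lsl_cf (LP (LK LD1_c3 LD2_c25 LD3_c5)) = (LP (LK LD1_c1 LD2_c43 LD3_c52)) :=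
  Lgr Lrot11 (Lpr_ct (f156308 IH) (Lpn (LP (LK LD1_c1 LD2_c43 LD3_c52))))
theorem f156303 : Led Lsl_ct (LP (LK LD1_c1 LD2_c43 LD3_c54)) = (LP (LK LD1_c0 LD2_c48 LD3_c31)) :=
  Lre_c IH (LK LD1_c1 LD2_c43 LD3_c54) (LK LD1_c0 LD2_c48 LD3_c31) Lrfl Lrfl
theorem f156332 : Led Lsl_gf (LP (LK LD1_c1 LD2_c43 LD3_c54)) = (LP (LK LD1_c1 LD2_c26 LD3_c26)) :=
  Lgr Lrot147 (Lpr_ct (f156303 IH) (Lpr_gt (f156127 IH) (Lpe (f156310 IH) (Lpr_df (f156314 IH) (Lpe (f153209 IH) (Lpe (f153378 IH) (Lpe (K3.f87503 IH) (Lpr_gf (f153384 IH) (Lpe (K5.f21116 IH) (Lpn (LP (LK LD1_c1 LD2_c26 LD3_c26))))))))))))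
theorem f134796 : Led Lsl_gf (LP (LK LD1_c0 LD2_c44 LD3_c30)) = (LP (LK LD1_c0 LD2_c51 LD3_c2)) :=
  Lgr Lrot47 (Lpr_gt (K5.f134794 IH) (Lpe (K4.f107056 IH) (Lpe (K4.f121257 IH) (Lpn (LP (LK LD1_c0 LD2_c51 LD3_c2))))))
theorem f13597 : Led Lsl_dt (LP (LK LD1_c0 LD2_c23 LD3_c3)) = (LP (LK LD1_c0 LD2_c51 LD3_c2)) :=
  Lre_d IH (LK LD1_c0 LD2_c23 LD3_c3) (LK LD1_c0 LD2_c51 LD3_c2) Lrfl Lrfl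
theorem f156335 : Led Lsl_dt (LP (LK LD1_c1 LD2_c43 LD3_c54)) = (LP (LK LD1_c3 LD2_c22 LD3_c14)) :=
  Lgr Lrot171 (Lpr_gf (f156332 IH) (Lpe (K5.f21106 IH) (Lpe (K5.f24830 IH) (Lpr_gf (f134796 IH) (Lpe (f13597 IH) (Lpr_et (K4.f121288 IH) (Lpe (K3.f9670 IH) (Lpe (K2.f84322 IH) (Lpr_dt (K5.f84580 IH) (Lpe (f84490 IH) (Lpn (LP (LK LD1_c3 LD2_c22 LD3_c14)))))))))))))
theorem f124174 : Led Lsl_et (LP (LK LD1_c0 LD2_c10 LD3_c23)) = (LP (LK LD1_c0 LD2_c23 LD3_c6)) :=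
  Lre_e IH (LK LD1_c0 LD2_c10 LD3_c23) (LK LD1_c0 LD2_c23 LD3_c6) Lrfl Lrfl
theorem f124165 : Led Lsl_gt (LP (LK LD1_c0 LD2_c51 LD3_c11)) = (LP (LK LD1_c0 LD2_c23 LD3_c6)) :=
  Lre_g IH (LK LD1_c0 LD2_c51 LD3_c11) (LK LD1_c0 LD2_c23 LD3_c6) Lrfl Lrfl
theorem f156341 : Led Lsl_et (LP (LK LD1_c1 LD2_c43 LD3_c54)) = (LP (LK LD1_c0 LD2_c51 LD3_c11)) :=
  Lgr Lrot185 (Lpr_dt (f156335 IH) (Lpr_gf (f153272 IH) (Lpe (K6.f126854 IH) (Lpe (K5.f126891 IH) (Lpe (K3.f82416 IH) (Lpe (K4.f116067 IH) (Lpe (K4.f86815 IH) (Lpe (K4.f86814 IH) (Lpr_et (f124174 IH) (Lpe (f124165 IH) (Lpn (LP (LK LD1_c0 LD2_c51 LD3_c11)))))))))))))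
theorem f147741 : Led Lsl_dt (LP (LK LD1_c0 LD2_c23 LD3_c1)) = (LP (LK LD1_c0 LD2_c10 LD3_c22)) :=
  Lre_d IH (LK LD1_c0 LD2_c23 LD3_c1) (LK LD1_c0 LD2_c10 LD3_c22) Lrfl Lrfl
theorem f147742 : Led Lsl_ct (LP (LK LD1_c0 LD2_c23 LD3_c0)) = (LP (LK LD1_c0 LD2_c10 LD3_c22)) :=
  Lre_c IH (LK LD1_c0 LD2_c23 LD3_c0) (LK LD1_c0 LD2_c10 LD3_c22) Lrfl Lrfl
theorem f147776 : Led Lsl_dt (LP (LK LD1_c0 LD2_c50 LD3_c59)) = (LP (LK LD1_c0 LD2_c23 LD3_c0)) :=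
  Lre_d IH (LK LD1_c0 LD2_c50 LD3_c59) (LK LD1_c0 LD2_c23 LD3_c0) Lrfl Lrfl
theorem f147777 : Led Lsl_gt (LP (LK LD1_c0 LD2_c43 LD3_c22)) = (LP (LK LD1_c0 LD2_c50 LD3_c59)) :=
  Lgr Lrot49 (Lpe (K6.f147508 IH) (Lpe (K3.f9670 IH) (Lpe (K2.f20019 IH) (Lpr_gt (K2.f12078 IH) (Lpe (K6.f128323 IH) (Lpr_gt (f147768 IH) (Lpr_dt (f147741 IH) (Lpe (f147742 IH) (Lpe (f147776 IH) (Lpn (LP (LK LD1_c0 LD2_c50 LD3_c59))))))))))))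
theorem f148437 : Led Lsl_dt (LP (LK LD1_c0 LD2_c23 LD3_c0)) = (LP (LK LD1_c0 LD2_c50 LD3_c59)) :=
  Lre_d IH (LK LD1_c0 LD2_c23 LD3_c0) (LK LD1_c0 LD2_c50 LD3_c59) Lrfl Lrfl
theorem f156343 : Led Lsl_et (LP (LK LD1_c0 LD2_c23 LD3_c0)) = (LP (LK LD1_c0 LD2_c50 LD3_c60)) :=
  Lre_e IH (LK LD1_c0 LD2_c23 LD3_c0) (LK LD1_c0 LD2_c50 LD3_c60) Lrfl Lrfl
theorem f156344 : Led Lsl_gf (LP (LK LD1_c0 LD2_c51 LD3_c11)) = (LP (LK LD1_c0 LD2_c50 LD3_c60)) :=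
  Lgr Lrot141 (Lpe (f156341 IH) (Lpr_dt (f156335 IH) (Lpr_gt (f84490 IH) (Lpe (K5.f84580 IH) (Lpr_et (K2.f84322 IH) (Lpr_gt (K3.f9670 IH) (Lpr_dt (K6.f147508 IH) (Lpr_gt (f147777 IH) (Lpe (f148437 IH) (Lpr_et (f156343 IH) (Lpn (LP (LK LD1_c0 LD2_c50 LD3_c60)))))))))))))
theorem f124169 : Led Lsl_at (LP (LK LD1_c0 LD2_c50 LD3_c60)) = (LP (LK LD1_c0 LD2_c23 LD3_c6)) :=
  Lre_a IH (LK LD1_c0 LD2_c50 LD3_c60) (LK LD1_c0 LD2_c23 LD3_c6) Lrfl Lrfl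
theorem f156346 : Led Lsl_ff (LP (LK LD1_c0 LD2_c50 LD3_c60)) = (LP (LK LD1_c0 LD2_c50 LD3_c60)) :=
  Lgr Lrot52 (Lpr_at (f124169 IH) (Lpe (f124165 IH) (Lpr_gf (f156344 IH) (Lpn (LP (LK LD1_c0 LD2_c50 LD3_c60))))))
theorem f156349 : Led Lsl_ct (LP (LK LD1_c0 LD2_c50 LD3_c60)) = (LP (LK LD1_c0 LD2_c23 LD3_c2)) :=
  Lre_c IH (LK LD1_c0 LD2_c50 LD3_c60) (LK LD1_c0 LD2_c23 LD3_c2) Lrfl Lrfl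
theorem f156348 : Led Lsl_ct (LP (LK LD1_c0 LD2_c23 LD3_c2)) = (LP (LK LD1_c0 LD2_c50 LD3_c60)) :=
  Lre_c IH (LK LD1_c0 LD2_c23 LD3_c2) (LK LD1_c0 LD2_c50 LD3_c60) Lrfl Lrfl
theorem f156352 : Led Lsl_ft (LP (LK LD1_c0 LD2_c23 LD3_c2)) = (LP (LK LD1_c0 LD2_c23 LD3_c2)) :=
  Lgr Lrot4 (Lpe (f156349 IH) (Lpr_ff (f156346 IH) (Lpe (f156348 IH) (Lpn (LP (LK LD1_c0 LD2_c23 LD3_c2))))))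
theorem f156355 : Led Lsl_at (LP (LK LD1_c0 LD2_c10 LD3_c25)) = (LP (LK LD1_c0 LD2_c23 LD3_c2)) :=
  Lre_a IH (LK LD1_c0 LD2_c10 LD3_c25) (LK LD1_c0 LD2_c23 LD3_c2) Lrfl Lrfl
theorem f156356 : Led Lsl_at (LP (LK LD1_c0 LD2_c23 LD3_c2)) = (LP (LK LD1_c0 LD2_c10 LD3_c25)) :=
  Lre_a IH (LK LD1_c0 LD2_c23 LD3_c2) (LK LD1_c0 LD2_c10 LD3_c25) Lrfl Lrfl
theorem f156357 : Led Lsl_ff (LP (LK LD1_c0 LD2_c10 LD3_c25)) = (LP (LK LD1_c0 LD2_c10 LD3_c25)) :=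
  Lgr Lrot30 (Lpr_at (f156355 IH) (Lpr_ft (f156352 IH) (Lpr_at (f156356 IH) (Lpn (LP (LK LD1_c0 LD2_c10 LD3_c25))))))
theorem f142480 : Led Lsl_et (LP (LK LD1_c0 LD2_c10 LD3_c25)) = (LP (LK LD1_c0 LD2_c4 LD3_c53)) :=
  Lre_e IH (LK LD1_c0 LD2_c10 LD3_c25) (LK LD1_c0 LD2_c4 LD3_c53) Lrfl Lrfl
theorem f4842 : Led Lsl_at (LP (LK LD1_c0 LD2_c4 LD3_c51)) = (LP (LK LD1_c0 LD2_c10 LD3_c17)) :=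
  Lre_a IH (LK LD1_c0 LD2_c4 LD3_c51) (LK LD1_c0 LD2_c10 LD3_c17) Lrfl Lrfl
theorem f148353 : Led Lsl_ft (LP (LK LD1_c0 LD2_c4 LD3_c53)) = (LP (LK LD1_c0 LD2_c4 LD3_c51)) :=
  Lgr Lrot142 (Lpr_dt (K4.f12843 IH) (Lpr_ct (K4.f11304 IH) (Lpr_dt (K4.f13389 IH) (Lpr_ct (K6.f12916 IH) (Lpr_dt (f148342 IH) (Lpr_ct (f148341 IH) (Lpr_dt (f148288 IH) (Lpr_ct (f23670 IH) (Lpe (f4842 IH) (Lpn (LP (LK LD1_c0 LD2_c4 LD3_c51))))))))))))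
theorem f156363 : Led Lsl_et (LP (LK LD1_c0 LD2_c4 LD3_c53)) = (LP (LK LD1_c0 LD2_c10 LD3_c25)) :=
  Lre_e IH (LK LD1_c0 LD2_c4 LD3_c53) (LK LD1_c0 LD2_c10 LD3_c25) Lrfl Lrfl
theorem f156364 : Led Lsl_ft (LP (LK LD1_c0 LD2_c4 LD3_c51)) = (LP (LK LD1_c0 LD2_c4 LD3_c53)) :=
  Lgr Lrot86 (Lpr_ef (K0.f4478 IH) (Lpe (f148353 IH) (Lpe (f142480 IH) (Lpr_ff (f156357 IH) (Lpe (f156363 IH) (Lpn (LP (LK LD1_c0 LD2_c4 LD3_c53))))))))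
theorem f156371 : Led Lsl_ff (LP (LK LD1_c0 LD2_c2 LD3_c13)) = (LP (LK LD1_c0 LD2_c2 LD3_c14)) :=
  Lgr Lrot25 (Lpr_bt (K0.f4477 IH) (Lpr_ft (f156364 IH) (Lpr_bt (K3.f11292 IH) (Lpn (LP (LK LD1_c0 LD2_c2 LD3_c14))))))
theorem f156377 : Led Lsl_at (LP (LK LD1_c0 LD2_c2 LD3_c13)) = (LP (LK LD1_c0 LD2_c2 LD3_c13)) :=
  Lgr Lrot26 (Lpr_ff (f156371 IH) (Lpr_gt (K0.f3831 IH) (Lpr_gt (K0.f344 IH) (Lpn (LP (LK LD1_c0 LD2_c2 LD3_c13))))))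
theorem f11296 : Led Lsl_et (LP (LK LD1_c0 LD2_c4 LD3_c55)) = (LP (LK LD1_c0 LD2_c2 LD3_c14)) :=
  Lre_e IH (LK LD1_c0 LD2_c4 LD3_c55) (LK LD1_c0 LD2_c2 LD3_c14) Lrfl Lrfl
theorem f124160 : Led Lsl_bt (LP (LK LD1_c0 LD2_c10 LD3_c25)) = (LP (LK LD1_c0 LD2_c4 LD3_c55)) :=
  Lre_b IH (LK LD1_c0 LD2_c10 LD3_c25) (LK LD1_c0 LD2_c4 LD3_c55) Lrfl Lrfl
theorem f124171 : Led Lsl_bt (LP (LK LD1_c0 LD2_c4 LD3_c55)) = (LP (LK LD1_c0 LD2_c10 LD3_c25)) :=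
  Lre_b IH (LK LD1_c0 LD2_c4 LD3_c55) (LK LD1_c0 LD2_c10 LD3_c25) Lrfl Lrfl
theorem f156361 : Led Lsl_ft (LP (LK LD1_c0 LD2_c4 LD3_c55)) = (LP (LK LD1_c0 LD2_c4 LD3_c55)) :=
  Lgr Lrot75 (Lpe (f124160 IH) (Lpr_ff (f156357 IH) (Lpe (f124171 IH) (Lpn (LP (LK LD1_c0 LD2_c4 LD3_c55))))))
theorem f11308 : Led Lsl_et (LP (LK LD1_c0 LD2_c2 LD3_c14)) = (LP (LK LD1_c0 LD2_c4 LD3_c55)) :=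
  Lre_e IH (LK LD1_c0 LD2_c2 LD3_c14) (LK LD1_c0 LD2_c4 LD3_c55) Lrfl Lrfl
theorem f156375 : Led Lsl_ft (LP (LK LD1_c0 LD2_c2 LD3_c13)) = (LP (LK LD1_c0 LD2_c2 LD3_c14)) :=
  Lgr Lrot86 (Lpe (K0.f4470 IH) (Lpr_ff (f156371 IH) (Lpe (f11296 IH) (Lpe (f156361 IH) (Lpe (f11308 IH) (Lpn (LP (LK LD1_c0 LD2_c2 LD3_c14))))))))
theorem f156379 : Led Lsl_af (LP (LK LD1_c0 LD2_c2 LD3_c14)) = (LP (LK LD1_c0 LD2_c2 LD3_c14)) :=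
  Lgr Lrot45 (Lpe (f156371 IH) (Lpr_at (f156377 IH) (Lpr_ft (f156375 IH) (Lpn (LP (LK LD1_c0 LD2_c2 LD3_c14))))))
theorem f156382 : Led Lsl_at (LP (LK LD1_c0 LD2_c4 LD3_c55)) = (LP (LK LD1_c0 LD2_c4 LD3_c55)) :=
  Lgr Lrot80 (Lpe (f11308 IH) (Lpr_af (f156379 IH) (Lpe (f11296 IH) (Lpn (LP (LK LD1_c0 LD2_c4 LD3_c55))))))
theorem f149 : Led Lsl_et (LP (LK LD1_c0 LD2_c4 LD3_c25)) = (LP (LK LD1_c0 LD2_c2 LD3_c1)) :=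
  Lre_e IH (LK LD1_c0 LD2_c4 LD3_c25) (LK LD1_c0 LD2_c2 LD3_c1) Lrfl Lrfl
theorem f13440 : Led Lsl_bt (LP (LK LD1_c0 LD2_c9 LD3_c7)) = (LP (LK LD1_c0 LD2_c4 LD3_c25)) :=
  Lgr Lrot119 (Lpe (K6.f13431 IH) (Lpr_bf (K0.f13437 IH) (Lpe (f149 IH) (Lpn (LP (LK LD1_c0 LD2_c4 LD3_c25))))))
theorem f124170 : Led Lsl_ct (LP (LK LD1_c0 LD2_c10 LD3_c25)) = (LP (LK LD1_c0 LD2_c23 LD3_c6)) :=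
  Lre_c IH (LK LD1_c0 LD2_c10 LD3_c25) (LK LD1_c0 LD2_c23 LD3_c6) Lrfl Lrfl
theorem f124172 : Led Lsl_ct (LP (LK LD1_c0 LD2_c4 LD3_c25)) = (LP (LK LD1_c0 LD2_c4 LD3_c55)) :=
  Lgr Lrot83 (Lpe (f13440 IH) (Lpr_cf (f13586 IH) (Lpr_bf (f124157 IH) (Lpe (f124170 IH) (Lpe (f124171 IH) (Lpn (LP (LK LD1_c0 LD2_c4 LD3_c55))))))))
theorem f124179 : Led Lsl_cf (LP (LK LD1_c0 LD2_c4 LD3_c25)) = (LP (LK LD1_c0 LD2_c4 LD3_c55)) :=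
  Lgr Lrot11 (Lpr_ct (f124172 IH) (Lpn (LP (LK LD1_c0 LD2_c4 LD3_c55))))
theorem f156386 : Led Lsl_af (LP (LK LD1_c0 LD2_c4 LD3_c25)) = (LP (LK LD1_c0 LD2_c4 LD3_c25)) :=
  Lgr Lrot68 (Lpr_ct (f124172 IH) (Lpr_at (f156382 IH) (Lpe (f124179 IH) (Lpn (LP (LK LD1_c0 LD2_c4 LD3_c25))))))
theorem f152143 : Led Lsl_ft (LP (LK LD1_c0 LD2_c9 LD3_c7)) = (LP (LK LD1_c0 LD2_c9 LD3_c7)) :=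
  Lgr Lrot86 (Lpe (K6.f13431 IH) (Lpr_ff (f152137 IH) (Lpe (K1.f3961 IH) (Lpe (f152127 IH) (Lpe (f7313 IH) (Lpn (LP (LK LD1_c0 LD2_c9 LD3_c7))))))))
theorem f152159 : Led Lsl_af (LP (LK LD1_c0 LD2_c19 LD3_c29)) = (LP (LK LD1_c0 LD2_c9 LD3_c7)) :=
  Lgr Lrot45 (Lpr_ft (f152157 IH) (Lpe (f152151 IH) (Lpr_ft (f152143 IH) (Lpn (LP (LK LD1_c0 LD2_c9 LD3_c7))))))
theorem f156388 : Led Lsl_bt (LP (LK LD1_c0 LD2_c4 LD3_c25)) = (LP (LK LD1_c0 LD2_c9 LD3_c7)) :=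
  Lgr Lrot62 (Lpr_af (f156386 IH) (Lpe (f13440 IH) (Lpr_af (f152151 IH) (Lpe (f24274 IH) (Lpr_af (f152159 IH) (Lpn (LP (LK LD1_c0 LD2_c9 LD3_c7))))))))
theorem f156390 : Led Lsl_ff (LP (LK LD1_c0 LD2_c4 LD3_c25)) = (LP (LK LD1_c0 LD2_c4 LD3_c25)) :=
  Lgr Lrot25 (Lpr_bt (f156388 IH) (Lpr_ft (f152143 IH) (Lpr_bt (f13440 IH) (Lpn (LP (LK LD1_c0 LD2_c4 LD3_c25))))))
theorem f152 : Led Lsl_gt (LP (LK LD1_c0 LD2_c4 LD3_c25)) = (LP (LK LD1_c0 LD2_c9 LD3_c24)) :=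
  Lre_g IH (LK LD1_c0 LD2_c4 LD3_c25) (LK LD1_c0 LD2_c9 LD3_c24) Lrfl Lrfl
theorem f156392 : Led Lsl_gf (LP (LK LD1_c0 LD2_c4 LD3_c25)) = (LP (LK LD1_c0 LD2_c9 LD3_c24)) :=
  Lgr Lrot76 (Lpr_af (f156386 IH) (Lpr_ff (f156390 IH) (Lpr_gt (f152 IH) (Lpn (LP (LK LD1_c0 LD2_c9 LD3_c24))))))
theorem f138 : Led Lsl_et (LP (LK LD1_c0 LD2_c2 LD3_c1)) = (LP (LK LD1_c0 LD2_c4 LD3_c25)) :=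
  Lre_e IH (LK LD1_c0 LD2_c2 LD3_c1) (LK LD1_c0 LD2_c4 LD3_c25) Lrfl Lrfl
theorem f26319 : Led Lsl_bf (LP (LK LD1_c0 LD2_c6 LD3_c12)) = (LP (LK LD1_c0 LD2_c3 LD3_c54)) :=
  Lgr Lrot96 (Lpr_et (f26318 IH) (Lpr_bt (K0.f26306 IH) (Lpr_et (K1.f7164 IH) (Lpn (LP (LK LD1_c0 LD2_c3 LD3_c54))))))
theorem f145460 : Led Lsl_gf (LP (LK LD1_c0 LD2_c9 LD3_c23)) = (LP (LK LD1_c0 LD2_c9 LD3_c14)) :=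
  Lgr Lrot181 (Lpr_ct (K6.f145452 IH) (Lpr_gt (K5.f7424 IH) (Lpe (K0.f7416 IH) (Lpr_bt (K0.f7412 IH) (Lpr_gt (K2.f25739 IH) (Lpr_bf (f26319 IH) (Lpr_ct (K2.f24980 IH) (Lpr_gt (K1.f24981 IH) (Lpe (K2.f67395 IH) (Lpr_bt (K3.f7335 IH) (Lpn (LP (LK LD1_c0 LD2_c9 LD3_c14)))))))))))))
theorem f20854 : Led Lsl_dt (LP (LK LD1_c0 LD2_c9 LD3_c23)) = (LP (LK LD1_c0 LD2_c9 LD3_c20)) :=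
  Lgr Lrot79 (Lpr_bf (K6.f20011 IH) (Lpr_df (f20851 IH) (Lpe (K2.f20853 IH) (Lpn (LP (LK LD1_c0 LD2_c9 LD3_c20))))))
theorem f156394 : Led Lsl_et (LP (LK LD1_c0 LD2_c9 LD3_c18)) = (LP (LK LD1_c0 LD2_c9 LD3_c24)) :=
  Lgr Lrot185 (Lpr_dt (f143259 IH) (Lpr_gf (f154124 IH) (Lpe (f20854 IH) (Lpr_gf (f145460 IH) (Lpe (K3.f7387 IH) (Lpr_dt (K0.f168 IH) (Lpe (K0.f13419 IH) (Lpe (K0.f136 IH) (Lpr_et (f138 IH) (Lpr_gf (f156392 IH) (Lpn (LP (LK LD1_c0 LD2_c9 LD3_c24)))))))))))))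
theorem f150 : Led Lsl_dt (LP (LK LD1_c0 LD2_c4 LD3_c25)) = (LP (LK LD1_c0 LD2_c4 LD3_c25)) :=
  Lgr Lrot77 (Lpe (f138 IH) (Lpr_df (K0.f127 IH) (Lpr_ef (f144 IH) (Lpe (K0.f136 IH) (Lpe (f149 IH) (Lpn (LP (LK LD1_c0 LD2_c4 LD3_c25))))))))
theorem f157 : Led Lsl_et (LP (LK LD1_c0 LD2_c1 LD3_c57)) = (LP (LK LD1_c0 LD2_c0 LD3_c49)) :=
  Lre_e IH (LK LD1_c0 LD2_c1 LD3_c57) (LK LD1_c0 LD2_c0 LD3_c49) Lrfl Lrfl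
theorem f156396 : Led Lsl_dt (LP (LK LD1_c0 LD2_c9 LD3_c24)) = (LP (LK LD1_c0 LD2_c9 LD3_c24)) :=
  Lgr Lrot171 (Lpe (f152 IH) (Lpe (f138 IH) (Lpr_dt (K0.f136 IH) (Lpe (K0.f56 IH) (Lpe (K0.f129 IH) (Lpr_et (f157 IH) (Lpe (K0.f82 IH) (Lpe (f149 IH) (Lpr_dt (f150 IH) (Lpr_gf (f156392 IH) (Lpn (LP (LK LD1_c0 LD2_c9 LD3_c24)))))))))))))
theorem f143261 : Led Lsl_ct (LP (LK LD1_c0 LD2_c9 LD3_c49)) = (LP (LK LD1_c0 LD2_c9 LD3_c18)) :=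
  Lgr Lrot110 (Lpe (f9996 IH) (Lpe (K0.f9983 IH) (Lpe (K0.f5843 IH) (Lpe (K0.f9989 IH) (Lpr_gt (K6.f10353 IH) (Lpr_ct (K0.f9966 IH) (Lpr_gt (K6.f10911 IH) (Lpr_ct (K6.f143224 IH) (Lpe (f143259 IH) (Lpn (LP (LK LD1_c0 LD2_c9 LD3_c18))))))))))))
theorem f143263 : Led Lsl_df (LP (LK LD1_c0 LD2_c9 LD3_c18)) = (LP (LK LD1_c0 LD2_c9 LD3_c19)) :=
  Lgr Lrot162 (Lpe (f143261 IH) (Lpe (f9996 IH) (Lpe (K0.f9983 IH) (Lpe (K0.f5843 IH) (Lpe (K0.f9992 IH) (Lpr_gt (K6.f10353 IH) (Lpr_ct (K0.f9966 IH) (Lpr_gt (K6.f10911 IH) (Lpr_ct (K6.f143224 IH) (Lpn (LP (LK LD1_c0 LD2_c9 LD3_c19))))))))))))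
theorem f156398 : Led Lsl_ef (LP (LK LD1_c0 LD2_c9 LD3_c18)) = (LP (LK LD1_c0 LD2_c9 LD3_c24)) :=
  Lgr Lrot73 (Lpr_dt (f143259 IH) (Lpe (K6.f143257 IH) (Lpe (f143263 IH) (Lpr_et (f156394 IH) (Lpr_dt (f156396 IH) (Lpn (LP (LK LD1_c0 LD2_c9 LD3_c24))))))))
theorem f446836 : Led Lsl_ft (LP (LK LD1_c0 LD2_c9 LD3_c24)) = (LP (LK LD1_c0 LD2_c9 LD3_c24)) :=
  Lgr Lrot86 (Lpe (f156394 IH) (Lpr_ff (K0.f446832 IH) (Lpr_ef (K6.f446835 IH) (Lpe (K0.f446829 IH) (Lpr_ef (f156398 IH) (Lpn (LP (LK LD1_c0 LD2_c9 LD3_c24))))))))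
theorem f446837 : Led Lsl_ft (LP (LK LD1_c0 LD2_c9 LD3_c24)) = (LP (LK LD1_c0 LD2_c9 LD3_c24)) :=
  Leop (Lpe (f446836 IH) (Lpn (LP (LK LD1_c0 LD2_c9 LD3_c24))))
theorem seed_16 : LEOK LG_f (LK LD1_c0 LD2_c9 LD3_c24) :=
  Leoe_f (LK LD1_c0 LD2_c9 LD3_c24) (f446837 IH)
def v98 : LQ := Led Lsl_gt (LP (LK LD1_c0 LD2_c10 LD3_c36))
theorem f447691 : Led Lsl_gt (LP (LK LD1_c0 LD2_c10 LD3_c36)) = v98 :=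
  Lrfl
theorem f94477 : Led Lsl_at (LP (LK LD1_c0 LD2_c51 LD3_c58)) = (LP (LK LD1_c0 LD2_c23 LD3_c31)) :=
  Lre_a IH (LK LD1_c0 LD2_c51 LD3_c58) (LK LD1_c0 LD2_c23 LD3_c31) Lrfl Lrfl
theorem f109102 : Led Lsl_ct (LP (LK LD1_c1 LD2_c42 LD3_c50)) = (LP (LK LD1_c0 LD2_c51 LD3_c58)) :=
  Lgr Lrot111 (Lpr_af (K3.f109099 IH) (Lpe (K2.f5783 IH) (Lpe (f94477 IH) (Lpn (LP (LK LD1_c0 LD2_c51 LD3_c58))))))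
theorem f5791 : Led Lsl_dt (LP (LK LD1_c0 LD2_c51 LD3_c58)) = (LP (LK LD1_c0 LD2_c23 LD3_c30)) :=
  Lre_d IH (LK LD1_c0 LD2_c51 LD3_c58) (LK LD1_c0 LD2_c23 LD3_c30) Lrfl Lrfl
theorem f24951 : Led Lsl_dt (LP (LK LD1_c3 LD2_c29 LD3_c32)) = (LP (LK LD1_c1 LD2_c41 LD3_c30)) :=
  Lre_d IH (LK LD1_c3 LD2_c29 LD3_c32) (LK LD1_c1 LD2_c41 LD3_c30) Lrfl Lrfl
theorem f98506 : Led Lsl_ct (LP (LK LD1_c1 LD2_c50 LD3_c16)) = (LP (LK LD1_c3 LD2_c29 LD3_c32)) :=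
  Lgr Lrot8 (Lpr_gt (K3.f98498 IH) (Lpr_dt (K3.f10463 IH) (Lpr_gt (K3.f97371 IH) (Lpe (K3.f97374 IH) (Lpr_cf (K3.f97416 IH) (Lpe (K3.f97030 IH) (Lpr_gf (K3.f97027 IH) (Lpe (K3.f10804 IH) (Lpe (K3.f97461 IH) (Lpn (LP (LK LD1_c3 LD2_c29 LD3_c32))))))))))))
theorem f109466 : Led Lsl_ct (LP (LK LD1_c0 LD2_c23 LD3_c30)) = (LP (LK LD1_c0 LD2_c10 LD3_c33)) :=
  Lgr Lrot176 (Lpe (f5791 IH) (Lpe (f109102 IH) (Lpe (K3.f94422 IH) (Lpe (K3.f97153 IH) (Lpe (K3.f98478 IH) (Lpr_cf (K3.f109095 IH) (Lpr_df (K3.f109462 IH) (Lpr_cf (K3.f95965 IH) (Lpe (K3.f95975 IH) (Lpe (K3.f24950 IH) (Lpe (f24951 IH) (Lpe (f98506 IH) (Lpe (K3.f5784 IH) (Lpe (K2.f5783 IH) (Lpe (K2.f5764 IH) (Lpn (LP (LK LD1_c0 LD2_c10 LD3_c33))))))))))))))))))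
theorem f124384 : Led Lsl_bt (LP (LK LD1_c0 LD2_c23 LD3_c30)) = (LP (LK LD1_c0 LD2_c50 LD3_c50)) :=
  Lgr Lrot130 (Lpr_ct (f109466 IH) (Lpe (K4.f94670 IH) (Lpe (K1.f5244 IH) (Lpr_bt (K0.f12566 IH) (Lpe (K2.f94624 IH) (Lpe (K2.f94212 IH) (Lpr_ct (K2.f14991 IH) (Lpr_gf (K2.f94645 IH) (Lpr_cf (K2.f23697 IH) (Lpr_gf (K5.f124376 IH) (Lpn (LP (LK LD1_c0 LD2_c50 LD3_c50)))))))))))))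
theorem f5792 : Led Lsl_et (LP (LK LD1_c0 LD2_c51 LD3_c59)) = (LP (LK LD1_c0 LD2_c23 LD3_c30)) :=
  Lre_e IH (LK LD1_c0 LD2_c51 LD3_c59) (LK LD1_c0 LD2_c23 LD3_c30) Lrfl Lrfl
theorem f124391 : Led Lsl_et (LP (LK LD1_c0 LD2_c50 LD3_c50)) = (LP (LK LD1_c1 LD2_c48 LD3_c9)) :=
  Lre_e IH (LK LD1_c0 LD2_c50 LD3_c50) (LK LD1_c1 LD2_c48 LD3_c9) Lrfl Lrfl
theorem f124392 : Led Lsl_bf (LP (LK LD1_c0 LD2_c51 LD3_c59)) = (LP (LK LD1_c1 LD2_c48 LD3_c9)) :=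
  Lgr Lrot96 (Lpr_et (f5792 IH) (Lpr_bt (f124384 IH) (Lpr_et (f124391 IH) (Lpn (LP (LK LD1_c1 LD2_c48 LD3_c9))))))
theorem f85188 : Led Lsl_at (LP (LK LD1_c0 LD2_c51 LD3_c59)) = (LP (LK LD1_c0 LD2_c23 LD3_c32)) :=
  Lre_a IH (LK LD1_c0 LD2_c51 LD3_c59) (LK LD1_c0 LD2_c23 LD3_c32) Lrfl Lrfl
theorem f85189 : Led Lsl_at (LP (LK LD1_c0 LD2_c23 LD3_c32)) = (LP (LK LD1_c0 LD2_c51 LD3_c59)) :=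
  Lre_a IH (LK LD1_c0 LD2_c23 LD3_c32) (LK LD1_c0 LD2_c51 LD3_c59) Lrfl Lrfl
theorem f85190 : Led Lsl_ff (LP (LK LD1_c0 LD2_c51 LD3_c59)) = (LP (LK LD1_c0 LD2_c51 LD3_c59)) :=
  Lgr Lrot30 (Lpr_at (f85188 IH) (Lpr_ft (K2.f85184 IH) (Lpr_at (f85189 IH) (Lpn (LP (LK LD1_c0 LD2_c51 LD3_c59))))))
theorem f124397 : Led Lsl_bt (LP (LK LD1_c0 LD2_c51 LD3_c59)) = (LP (LK LD1_c1 LD2_c48 LD3_c9)) :=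
  Lgr Lrot127 (Lpr_bf (f124392 IH) (Lpn (LP (LK LD1_c1 LD2_c48 LD3_c9))))
theorem f124399 : Led Lsl_ft (LP (LK LD1_c1 LD2_c48 LD3_c9)) = (LP (LK LD1_c1 LD2_c48 LD3_c9)) :=
  Lgr Lrot75 (Lpe (f124397 IH) (Lpr_ff (f85190 IH) (Lpr_bf (f124392 IH) (Lpn (LP (LK LD1_c1 LD2_c48 LD3_c9))))))
theorem f85034 : Led Lsl_bt (LP (LK LD1_c0 LD2_c23 LD3_c29)) = (LP (LK LD1_c0 LD2_c51 LD3_c39)) :=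
  Lre_b IH (LK LD1_c0 LD2_c23 LD3_c29) (LK LD1_c0 LD2_c51 LD3_c39) Lrfl Lrfl
theorem f124395 : Led Lsl_at (LP (LK LD1_c0 LD2_c51 LD3_c39)) = (LP (LK LD1_c1 LD2_c48 LD3_c9)) :=
  Lgr Lrot67 (Lpe (f85034 IH) (Lpe (K2.f85029 IH) (Lpe (K2.f85183 IH) (Lpe (f85188 IH) (Lpr_bf (f124392 IH) (Lpn (LP (LK LD1_c1 LD2_c48 LD3_c9))))))))
theorem f85033 : Led Lsl_bt (LP (LK LD1_c0 LD2_c51 LD3_c39)) = (LP (LK LD1_c0 LD2_c23 LD3_c29)) :=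
  Lre_b IH (LK LD1_c0 LD2_c51 LD3_c39) (LK LD1_c0 LD2_c23 LD3_c29) Lrfl Lrfl
theorem f85035 : Led Lsl_ff (LP (LK LD1_c0 LD2_c51 LD3_c39)) = (LP (LK LD1_c0 LD2_c51 LD3_c39)) :=
  Lgr Lrot25 (Lpr_bt (f85033 IH) (Lpr_ft (K2.f85026 IH) (Lpr_bt (f85034 IH) (Lpn (LP (LK LD1_c0 LD2_c51 LD3_c39))))))
theorem f124401 : Led Lsl_af (LP (LK LD1_c0 LD2_c51 LD3_c39)) = (LP (LK LD1_c1 LD2_c48 LD3_c9)) :=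
  Lgr Lrot45 (Lpe (f85035 IH) (Lpr_at (f124395 IH) (Lpr_ft (f124399 IH) (Lpn (LP (LK LD1_c1 LD2_c48 LD3_c9))))))
theorem f85181 : Led Lsl_et (LP (LK LD1_c0 LD2_c23 LD3_c21)) = (LP (LK LD1_c0 LD2_c51 LD3_c39)) :=
  Lre_e IH (LK LD1_c0 LD2_c23 LD3_c21) (LK LD1_c0 LD2_c51 LD3_c39) Lrfl Lrfl
theorem f68354 : Led Lsl_et (LP (LK LD1_c0 LD2_c45 LD3_c25)) = (LP (LK LD1_c0 LD2_c20 LD3_c15)) :=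
  Lre_e IH (LK LD1_c0 LD2_c45 LD3_c25) (LK LD1_c0 LD2_c20 LD3_c15) Lrfl Lrfl
theorem f107324 : Led Lsl_ct (LP (LK LD1_c0 LD2_c51 LD3_c39)) = (LP (LK LD1_c0 LD2_c45 LD3_c25)) :=
  Lgr Lrot15 (Lpe (f85181 IH) (Lpr_cf (K3.f107299 IH) (Lpe (f68354 IH) (Lpn (LP (LK LD1_c0 LD2_c45 LD3_c25))))))
theorem f91967 : Led Lsl_et (LP (LK LD1_c0 LD2_c20 LD3_c15)) = (LP (LK LD1_c0 LD2_c45 LD3_c25)) :=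
  Lre_e IH (LK LD1_c0 LD2_c20 LD3_c15) (LK LD1_c0 LD2_c45 LD3_c25) Lrfl Lrfl
theorem f95308 : Led Lsl_at (LP (LK LD1_c0 LD2_c45 LD3_c25)) = (LP (LK LD1_c0 LD2_c52 LD3_c1)) :=
  Lgr Lrot80 (Lpe (f91967 IH) (Lpr_af (K2.f95298 IH) (Lpe (K2.f23360 IH) (Lpn (LP (LK LD1_c0 LD2_c52 LD3_c1))))))
theorem f124405 : Led Lsl_ct (LP (LK LD1_c0 LD2_c52 LD3_c1)) = (LP (LK LD1_c1 LD2_c48 LD3_c9)) :=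
  Lgr Lrot111 (Lpe (f95308 IH) (Lpe (f107324 IH) (Lpr_af (f124401 IH) (Lpn (LP (LK LD1_c1 LD2_c48 LD3_c9))))))
theorem f124409 : Led Lsl_cf (LP (LK LD1_c0 LD2_c52 LD3_c1)) = (LP (LK LD1_c1 LD2_c48 LD3_c9)) :=
  Lgr Lrot11 (Lpr_ct (f124405 IH) (Lpn (LP (LK LD1_c1 LD2_c48 LD3_c9))))
theorem f85043 : Led Lsl_ct (LP (LK LD1_c0 LD2_c23 LD3_c35)) = (LP (LK LD1_c0 LD2_c10 LD3_c36)) :=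
  Lre_c IH (LK LD1_c0 LD2_c23 LD3_c35) (LK LD1_c0 LD2_c10 LD3_c36) Lrfl Lrfl
theorem f124413 : Led Lsl_ct (LP (LK LD1_c0 LD2_c23 LD3_c32)) = (LP (LK LD1_c0 LD2_c51 LD3_c59)) :=
  Lgr Lrot83 (Lpe (K2.f85182 IH) (Lpe (f85043 IH) (Lpe (K2.f85168 IH) (Lpr_cf (f124409 IH) (Lpe (f124397 IH) (Lpn (LP (LK LD1_c0 LD2_c51 LD3_c59))))))))
theorem f154095 : Led Lsl_bf (LP (LK LD1_c0 LD2_c20 LD3_c28)) = (LP (LK LD1_c0 LD2_c9 LD3_c18)) :=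
  Lgr Lrot24 (Lpr_bt (f154092 IH) (Lpn (LP (LK LD1_c0 LD2_c9 LD3_c18))))
theorem f156400 : Led Lsl_bt (LP (LK LD1_c0 LD2_c20 LD3_c12)) = (LP (LK LD1_c0 LD2_c9 LD3_c24)) :=
  Lgr Lrot119 (Lpe (K6.f20932 IH) (Lpr_bf (f154095 IH) (Lpr_ef (f156398 IH) (Lpn (LP (LK LD1_c0 LD2_c9 LD3_c24))))))
theorem f24276 : Led Lsl_ct (LP (LK LD1_c0 LD2_c8 LD3_c47)) = (LP (LK LD1_c0 LD2_c19 LD3_c29)) :=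
  Lre_c IH (LK LD1_c0 LD2_c8 LD3_c47) (LK LD1_c0 LD2_c19 LD3_c29) Lrfl Lrfl
theorem f152319 : Led Lsl_cf (LP (LK LD1_c0 LD2_c13 LD3_c45)) = (LP (LK LD1_c0 LD2_c9 LD3_c7)) :=
  Lgr Lrot166 (Lpr_gt (f152317 IH) (Lpr_dt (f83142 IH) (Lpe (f152315 IH) (Lpr_dt (f24282 IH) (Lpr_ct (f24276 IH) (Lpr_df (K6.f24593 IH) (Lpr_gf (K6.f24601 IH) (Lpe (K6.f20938 IH) (Lpe (K6.f13436 IH) (Lpn (LP (LK LD1_c0 LD2_c9 LD3_c7))))))))))))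
theorem f154153 : Led Lsl_bt (LP (LK LD1_c0 LD2_c8 LD3_c41)) = (LP (LK LD1_c0 LD2_c8 LD3_c41)) :=
  Lgr Lrot92 (Lpr_ct (f83140 IH) (Lpr_gt (f154146 IH) (Lpe (f24278 IH) (Lpr_bt (f24274 IH) (Lpr_gt (f152161 IH) (Lpe (f152170 IH) (Lpr_gt (f23417 IH) (Lpe (K2.f23397 IH) (Lpe (f23393 IH) (Lpr_gt (f83138 IH) (Lpn (LP (LK LD1_c0 LD2_c8 LD3_c41)))))))))))))
theorem f23420 : Led Lsl_gt (LP (LK LD1_c0 LD2_c8 LD3_c39)) = (LP (LK LD1_c0 LD2_c19 LD3_c15)) :=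
  Lre_g IH (LK LD1_c0 LD2_c8 LD3_c39) (LK LD1_c0 LD2_c19 LD3_c15) Lrfl Lrfl
theorem f156404 : Led Lsl_ct (LP (LK LD1_c0 LD2_c20 LD3_c12)) = (LP (LK LD1_c0 LD2_c19 LD3_c15)) :=
  Lgr Lrot63 (Lpr_bt (f156400 IH) (Lpe (f156392 IH) (Lpe (f13440 IH) (Lpe (f152319 IH) (Lpr_gt (f152317 IH) (Lpe (f83140 IH) (Lpr_bt (f154153 IH) (Lpr_gt (f23404 IH) (Lpr_ct (K2.f23397 IH) (Lpr_gt (f23420 IH) (Lpn (LP (LK LD1_c0 LD2_c19 LD3_c15)))))))))))))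
theorem f82548 : Led Lsl_gt (LP (LK LD1_c0 LD2_c19 LD3_c15)) = (LP (LK LD1_c0 LD2_c13 LD3_c41)) :=
  Lgr Lrot46 (Lpe (f23420 IH) (Lpr_ft (K3.f82538 IH) (Lpe (K2.f82263 IH) (Lpn (LP (LK LD1_c0 LD2_c13 LD3_c41))))))
theorem f23403 : Led Lsl_ct (LP (LK LD1_c0 LD2_c6 LD3_c15)) = (LP (LK LD1_c0 LD2_c13 LD3_c41)) :=
  Lre_c IH (LK LD1_c0 LD2_c6 LD3_c15) (LK LD1_c0 LD2_c13 LD3_c41) Lrfl Lrfl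
theorem f156408 : Led Lsl_gf (LP (LK LD1_c0 LD2_c13 LD3_c45)) = (LP (LK LD1_c0 LD2_c19 LD3_c17)) :=
  Lgr Lrot129 (Lpr_cf (f152319 IH) (Lpr_bt (f13440 IH) (Lpr_gt (f152 IH) (Lpe (f156400 IH) (Lpr_ct (f156404 IH) (Lpr_gt (f82548 IH) (Lpe (f23403 IH) (Lpr_bt (K2.f23388 IH) (Lpr_gt (f23402 IH) (Lpr_ct (f23405 IH) (Lpn (LP (LK LD1_c0 LD2_c19 LD3_c17)))))))))))))
theorem f154134 : Led Lsl_bt (LP (LK LD1_c0 LD2_c8 LD3_c40)) = (LP (LK LD1_c0 LD2_c4 LD3_c50)) :=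
  Lgr Lrot119 (Lpr_ef (f154132 IH) (Lpe (f4931 IH) (Lpe (K0.f4929 IH) (Lpn (LP (LK LD1_c0 LD2_c4 LD3_c50))))))
theorem f4011 : Led Lsl_et (LP (LK LD1_c0 LD2_c10 LD3_c9)) = (LP (LK LD1_c0 LD2_c22 LD3_c34)) :=
  Lre_e IH (LK LD1_c0 LD2_c10 LD3_c9) (LK LD1_c0 LD2_c22 LD3_c34) Lrfl Lrfl
theorem f4013 : Led Lsl_et (LP (LK LD1_c0 LD2_c22 LD3_c34)) = (LP (LK LD1_c0 LD2_c10 LD3_c9)) :=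
  Lre_e IH (LK LD1_c0 LD2_c22 LD3_c34) (LK LD1_c0 LD2_c10 LD3_c9) Lrfl Lrfl
theorem f5002 : Led Lsl_ct (LP (LK LD1_c0 LD2_c22 LD3_c34)) = (LP (LK LD1_c0 LD2_c22 LD3_c34)) :=
  Lgr Lrot15 (Lpe (f4011 IH) (Lpr_cf (K0.f4996 IH) (Lpe (f4013 IH) (Lpn (LP (LK LD1_c0 LD2_c22 LD3_c34))))))
theorem f3998 : Led Lsl_at (LP (LK LD1_c0 LD2_c10 LD3_c11)) = (LP (LK LD1_c0 LD2_c22 LD3_c34)) :=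
  Lre_a IH (LK LD1_c0 LD2_c10 LD3_c11) (LK LD1_c0 LD2_c22 LD3_c34) Lrfl Lrfl
theorem f3999 : Led Lsl_at (LP (LK LD1_c0 LD2_c22 LD3_c34)) = (LP (LK LD1_c0 LD2_c10 LD3_c11)) :=
  Lre_a IH (LK LD1_c0 LD2_c22 LD3_c34) (LK LD1_c0 LD2_c10 LD3_c11) Lrfl Lrfl
theorem f5705 : Led Lsl_cf (LP (LK LD1_c0 LD2_c10 LD3_c11)) = (LP (LK LD1_c0 LD2_c10 LD3_c11)) :=
  Lgr Lrot1 (Lpr_at (f3998 IH) (Lpr_ct (f5002 IH) (Lpr_at (f3999 IH) (Lpn (LP (LK LD1_c0 LD2_c10 LD3_c11))))))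
theorem f3982 : Led Lsl_bt (LP (LK LD1_c0 LD2_c10 LD3_c11)) = (LP (LK LD1_c0 LD2_c4 LD3_c49)) :=
  Lre_b IH (LK LD1_c0 LD2_c10 LD3_c11) (LK LD1_c0 LD2_c4 LD3_c49) Lrfl Lrfl
theorem f3983 : Led Lsl_bt (LP (LK LD1_c0 LD2_c4 LD3_c49)) = (LP (LK LD1_c0 LD2_c10 LD3_c11)) :=
  Lre_b IH (LK LD1_c0 LD2_c4 LD3_c49) (LK LD1_c0 LD2_c10 LD3_c11) Lrfl Lrfl
theorem f5707 : Led Lsl_bt (LP (LK LD1_c0 LD2_c2 LD3_c12)) = (LP (LK LD1_c0 LD2_c2 LD3_c12)) :=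
  Lgr Lrot128 (Lpe (K0.f3976 IH) (Lpe (f3982 IH) (Lpr_cf (f5705 IH) (Lpe (f3983 IH) (Lpe (K0.f3975 IH) (Lpn (LP (LK LD1_c0 LD2_c2 LD3_c12))))))))
theorem f3977 : Led Lsl_ft (LP (LK LD1_c0 LD2_c4 LD3_c49)) = (LP (LK LD1_c0 LD2_c4 LD3_c49)) :=
  Lgr Lrot4 (Lpe (K0.f3975 IH) (Lpr_ff (K0.f3973 IH) (Lpe (K0.f3976 IH) (Lpn (LP (LK LD1_c0 LD2_c4 LD3_c49))))))
theorem f3991 : Led Lsl_gt (LP (LK LD1_c0 LD2_c4 LD3_c49)) = (LP (LK LD1_c0 LD2_c10 LD3_c13)) :=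
  Lre_g IH (LK LD1_c0 LD2_c4 LD3_c49) (LK LD1_c0 LD2_c10 LD3_c13) Lrfl Lrfl
theorem f4919 : Led Lsl_gf (LP (LK LD1_c0 LD2_c4 LD3_c49)) = (LP (LK LD1_c0 LD2_c10 LD3_c13)) :=
  Lgr Lrot76 (Lpr_af (K0.f4911 IH) (Lpe (f3977 IH) (Lpr_gt (f3991 IH) (Lpn (LP (LK LD1_c0 LD2_c10 LD3_c13))))))
theorem f156412 : Led Lsl_ct (LP (LK LD1_c0 LD2_c9 LD3_c24)) = (LP (LK LD1_c0 LD2_c10 LD3_c13)) :=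
  Lgr Lrot91 (Lpe (f152 IH) (Lpe (f13440 IH) (Lpe (f152319 IH) (Lpr_gf (f156408 IH) (Lpe (f23405 IH) (Lpr_bt (f154134 IH) (Lpe (K0.f3980 IH) (Lpe (f5707 IH) (Lpr_ct (K0.f3975 IH) (Lpr_gf (f4919 IH) (Lpn (LP (LK LD1_c0 LD2_c10 LD3_c13)))))))))))))
theorem f156419 : Led Lsl_ef (LP (LK LD1_c0 LD2_c9 LD3_c49)) = (LP (LK LD1_c0 LD2_c10 LD3_c13)) :=
  Lgr Lrot28 (Lpr_ct (f143261 IH) (Lpr_et (f156394 IH) (Lpr_ct (f156412 IH) (Lpn (LP (LK LD1_c0 LD2_c10 LD3_c13))))))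
theorem f154356 : Led Lsl_bt (LP (LK LD1_c0 LD2_c9 LD3_c49)) = (LP (LK LD1_c0 LD2_c21 LD3_c50)) :=
  Lre_b IH (LK LD1_c0 LD2_c9 LD3_c49) (LK LD1_c0 LD2_c21 LD3_c50) Lrfl Lrfl
theorem f4921 : Led Lsl_bt (LP (LK LD1_c0 LD2_c22 LD3_c41)) = (LP (LK LD1_c0 LD2_c10 LD3_c13)) :=
  Lre_b IH (LK LD1_c0 LD2_c22 LD3_c41) (LK LD1_c0 LD2_c10 LD3_c13) Lrfl Lrfl
theorem f429012 : Led Lsl_et (LP (LK LD1_c0 LD2_c21 LD3_c50)) = (LP (LK LD1_c0 LD2_c22 LD3_c41)) :=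
  Lgr Lrot74 (Lpe (f154356 IH) (Lpr_ef (f156419 IH) (Lpe (f4921 IH) (Lpn (LP (LK LD1_c0 LD2_c22 LD3_c41))))))
theorem f10373 : Led Lsl_ct (LP (LK LD1_c0 LD2_c48 LD3_c46)) = (LP (LK LD1_c0 LD2_c21 LD3_c50)) :=
  Lre_c IH (LK LD1_c0 LD2_c48 LD3_c46) (LK LD1_c0 LD2_c21 LD3_c50) Lrfl Lrfl
theorem f156406 : Led Lsl_cf (LP (LK LD1_c0 LD2_c20 LD3_c12)) = (LP (LK LD1_c0 LD2_c19 LD3_c15)) :=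
  Lgr Lrot11 (Lpr_ct (f156404 IH) (Lpn (LP (LK LD1_c0 LD2_c19 LD3_c15))))
theorem f23421 : Led Lsl_bt (LP (LK LD1_c0 LD2_c43 LD3_c10)) = (LP (LK LD1_c0 LD2_c19 LD3_c15)) :=
  Lre_b IH (LK LD1_c0 LD2_c43 LD3_c10) (LK LD1_c0 LD2_c19 LD3_c15) Lrfl Lrfl
theorem f156414 : Led Lsl_bt (LP (LK LD1_c0 LD2_c10 LD3_c13)) = (LP (LK LD1_c0 LD2_c22 LD3_c41)) :=
  Lre_b IH (LK LD1_c0 LD2_c10 LD3_c13) (LK LD1_c0 LD2_c22 LD3_c41) Lrfl Lrfl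
theorem f156415 : Led Lsl_cf (LP (LK LD1_c0 LD2_c43 LD3_c10)) = (LP (LK LD1_c0 LD2_c22 LD3_c41)) :=
  Lgr Lrot97 (Lpr_bt (f23421 IH) (Lpe (f156406 IH) (Lpr_bt (f156400 IH) (Lpr_ct (f156412 IH) (Lpr_bt (f156414 IH) (Lpn (LP (LK LD1_c0 LD2_c22 LD3_c41))))))))
theorem f429019 : Led Lsl_ef (LP (LK LD1_c0 LD2_c48 LD3_c46)) = (LP (LK LD1_c0 LD2_c43 LD3_c10)) :=
  Lgr Lrot28 (Lpr_ct (f10373 IH) (Lpr_et (f429012 IH) (Lpe (f156415 IH) (Lpn (LP (LK LD1_c0 LD2_c43 LD3_c10))))))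
theorem f429026 : Led Lsl_et (LP (LK LD1_c0 LD2_c48 LD3_c46)) = (LP (LK LD1_c0 LD2_c43 LD3_c10)) :=
  Lgr Lrot87 (Lpr_ef (f429019 IH) (Lpn (LP (LK LD1_c0 LD2_c43 LD3_c10))))
theorem f61270 : Led Lsl_et (LP (LK LD1_c0 LD2_c30 LD3_c16)) = (LP (LK LD1_c0 LD2_c19 LD3_c15)) :=
  Lgr Lrot122 (Lpr_dt (K6.f26010 IH) (Lpr_gt (K6.f61256 IH) (Lpe (K6.f25748 IH) (Lpr_et (K6.f26313 IH) (Lpe (K1.f61220 IH) (Lpr_dt (K1.f61004 IH) (Lpe (K1.f61009 IH) (Lpe (K1.f23375 IH) (Lpr_et (K2.f59470 IH) (Lpr_gt (f23420 IH) (Lpn (LP (LK LD1_c0 LD2_c19 LD3_c15)))))))))))))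
theorem f61273 : Led Lsl_ef (LP (LK LD1_c0 LD2_c30 LD3_c16)) = (LP (LK LD1_c0 LD2_c19 LD3_c15)) :=
  Lgr Lrot88 (Lpr_et (f61270 IH) (Lpn (LP (LK LD1_c0 LD2_c19 LD3_c15))))
theorem f429032 : Led Lsl_bf (LP (LK LD1_c0 LD2_c48 LD3_c46)) = (LP (LK LD1_c0 LD2_c30 LD3_c16)) :=
  Lgr Lrot96 (Lpr_et (f429026 IH) (Lpr_bt (f23421 IH) (Lpe (f61273 IH) (Lpn (LP (LK LD1_c0 LD2_c30 LD3_c16))))))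
theorem f154371 : Led Lsl_gt (LP (LK LD1_c0 LD2_c48 LD3_c46)) = (LP (LK LD1_c1 LD2_c44 LD3_c21)) :=
  Lre_g IH (LK LD1_c0 LD2_c48 LD3_c46) (LK LD1_c1 LD2_c44 LD3_c21) Lrfl Lrfl
theorem f154086 : Led Lsl_ct (LP (LK LD1_c0 LD2_c30 LD3_c16)) = (LP (LK LD1_c0 LD2_c20 LD3_c28)) :=
  Lgr Lrot8 (Lpr_gt (f154083 IH) (Lpr_dt (f152741 IH) (Lpr_gt (f152774 IH) (Lpr_dt (K2.f67361 IH) (Lpe (K2.f67155 IH) (Lpe (K0.f7302 IH) (Lpr_gf (K6.f146213 IH) (Lpe (K6.f20915 IH) (Lpr_gf (f152176 IH) (Lpn (LP (LK LD1_c0 LD2_c20 LD3_c28))))))))))))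
theorem f429041 : Led Lsl_bf (LP (LK LD1_c1 LD2_c44 LD3_c21)) = (LP (LK LD1_c1 LD2_c44 LD3_c34)) :=
  Lgr Lrot34 (Lpe (f154371 IH) (Lpr_bf (f429032 IH) (Lpr_ct (f154086 IH) (Lpe (K1.f12725 IH) (Lpr_cf (K6.f21030 IH) (Lpe (f82524 IH) (Lpe (f154189 IH) (Lpe (f155109 IH) (Lpe (f10029 IH) (Lpe (f106092 IH) (Lpn (LP (LK LD1_c1 LD2_c44 LD3_c34)))))))))))))
theorem f429045 : Led Lsl_bt (LP (LK LD1_c1 LD2_c44 LD3_c21)) = (LP (LK LD1_c1 LD2_c44 LD3_c34)) :=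
  Lgr Lrot127 (Lpr_bf (f429041 IH) (Lpn (LP (LK LD1_c1 LD2_c44 LD3_c34))))
theorem f106082 : Led Lsl_ct (LP (LK LD1_c1 LD2_c44 LD3_c33)) = (LP (LK LD1_c1 LD2_c43 LD3_c55)) :=
  Lre_c IH (LK LD1_c1 LD2_c44 LD3_c33) (LK LD1_c1 LD2_c43 LD3_c55) Lrfl Lrfl
theorem f429047 : Led Lsl_cf (LP (LK LD1_c1 LD2_c44 LD3_c21)) = (LP (LK LD1_c3 LD2_c28 LD3_c26)) :=
  Lgr Lrot97 (Lpr_bt (f429045 IH) (Lpr_ct (f106092 IH) (Lpr_bt (f106091 IH) (Lpr_ct (f106082 IH) (Lpr_bt (K3.f106749 IH) (Lpn (LP (LK LD1_c3 LD2_c28 LD3_c26))))))))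
theorem f94091 : Led Lsl_dt (LP (LK LD1_c6 LD2_c52 LD3_c46)) = (LP (LK LD1_c3 LD2_c28 LD3_c26)) :=
  Lgr Lrot42 (Lpr_df (K3.f94087 IH) (Lpn (LP (LK LD1_c3 LD2_c28 LD3_c26))))
theorem f429053 : Led Lsl_df (LP (LK LD1_c1 LD2_c44 LD3_c21)) = (LP (LK LD1_c3 LD2_c11 LD3_c40)) :=
  Lgr Lrot84 (Lpr_cf (f429047 IH) (Lpe (f94091 IH) (Lpe (K3.f84662 IH) (Lpe (K3.f84661 IH) (Lpe (K3.f108823 IH) (Lpr_cf (K2.f90199 IH) (Lpe (K3.f94038 IH) (Lpr_dt (K2.f68110 IH) (Lpr_gt (K5.f67422 IH) (Lpn (LP (LK LD1_c3 LD2_c11 LD3_c40))))))))))))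
theorem f429658 : Led Lsl_dt (LP (LK LD1_c1 LD2_c44 LD3_c21)) = (LP (LK LD1_c3 LD2_c11 LD3_c40)) :=
  Lgr Lrot42 (Lpr_df (f429053 IH) (Lpn (LP (LK LD1_c3 LD2_c11 LD3_c40))))
theorem f154361 : Led Lsl_gt (LP (LK LD1_c0 LD2_c21 LD3_c50)) = (LP (LK LD1_c0 LD2_c48 LD3_c44)) :=
  Lre_g IH (LK LD1_c0 LD2_c21 LD3_c50) (LK LD1_c0 LD2_c48 LD3_c44) Lrfl Lrfl
theorem f430098 : Led Lsl_dt (LP (LK LD1_c0 LD2_c48 LD3_c44)) = (LP (LK LD1_c1 LD2_c42 LD3_c38)) :=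
  Lgr Lrot57 (Lpe (f154361 IH) (Lpe (f10373 IH) (Lpr_gt (f154371 IH) (Lpr_dt (f429658 IH) (Lpr_gt (K6.f83636 IH) (Lpe (f83481 IH) (Lpe (K1.f9821 IH) (Lpe (K1.f9822 IH) (Lpe (K3.f19331 IH) (Lpn (LP (LK LD1_c1 LD2_c42 LD3_c38))))))))))))
theorem f430112 : Led Lsl_et (LP (LK LD1_c0 LD2_c48 LD3_c44)) = (LP (LK LD1_c0 LD2_c47 LD3_c54)) :=
  Lgr Lrot121 (Lpr_dt (f430098 IH) (Lpe (K3.f19330 IH) (Lpe (K2.f18068 IH) (Lpr_et (K2.f18133 IH) (Lpe (K2.f12082 IH) (Lpe (K2.f18139 IH) (Lpr_dt (K2.f18140 IH) (Lpe (K2.f64367 IH) (Lpe (K2.f9823 IH) (Lpr_gf (f94042 IH) (Lpn (LP (LK LD1_c0 LD2_c47 LD3_c54)))))))))))))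
theorem f430116 : Led Lsl_ef (LP (LK LD1_c0 LD2_c48 LD3_c44)) = (LP (LK LD1_c0 LD2_c47 LD3_c54)) :=
  Lgr Lrot88 (Lpr_et (f430112 IH) (Lpn (LP (LK LD1_c0 LD2_c47 LD3_c54))))
theorem f126079 : Led Lsl_ft (LP (LK LD1_c0 LD2_c46 LD3_c42)) = (LP (LK LD1_c0 LD2_c47 LD3_c54)) :=
  Lgr Lrot4 (Lpe (K4.f90274 IH) (Lpr_ff (K5.f126075 IH) (Lpe (K4.f12633 IH) (Lpn (LP (LK LD1_c0 LD2_c47 LD3_c54))))))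
theorem f132281 : Led Lsl_ff (LP (LK LD1_c0 LD2_c21 LD3_c23)) = (LP (LK LD1_c0 LD2_c20 LD3_c23)) :=
  Lgr Lrot19 (Lpr_dt (K1.f64346 IH) (Lpr_ft (K5.f132275 IH) (Lpe (K2.f90849 IH) (Lpn (LP (LK LD1_c0 LD2_c20 LD3_c23))))))
theorem f430123 : Led Lsl_ft (LP (LK LD1_c0 LD2_c48 LD3_c44)) = (LP (LK LD1_c0 LD2_c45 LD3_c41)) :=
  Lgr Lrot86 (Lpr_ef (f430116 IH) (Lpe (f126079 IH) (Lpr_ef (K4.f90262 IH) (Lpr_ff (f132281 IH) (Lpe (K3.f18153 IH) (Lpn (LP (LK LD1_c0 LD2_c45 LD3_c41))))))))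
theorem f430102 : Led Lsl_ct (LP (LK LD1_c1 LD2_c44 LD3_c19)) = (LP (LK LD1_c0 LD2_c48 LD3_c44)) :=
  Lre_c IH (LK LD1_c1 LD2_c44 LD3_c19) (LK LD1_c0 LD2_c48 LD3_c44) Lrfl Lrfl
theorem f430125 : Led Lsl_ff (LP (LK LD1_c1 LD2_c44 LD3_c19)) = (LP (LK LD1_c1 LD2_c38 LD3_c34)) :=
  Lgr Lrot23 (Lpr_ct (f430102 IH) (Lpr_ft (f430123 IH) (Lpr_ct (f92264 IH) (Lpn (LP (LK LD1_c1 LD2_c38 LD3_c34))))))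
theorem f430132 : Led Lsl_ft (LP (LK LD1_c1 LD2_c44 LD3_c19)) = (LP (LK LD1_c1 LD2_c38 LD3_c34)) :=
  Lgr Lrot48 (Lpr_ff (f430125 IH) (Lpn (LP (LK LD1_c1 LD2_c38 LD3_c34))))
theorem f430103 : Led Lsl_dt (LP (LK LD1_c3 LD2_c35 LD3_c6)) = (LP (LK LD1_c1 LD2_c44 LD3_c19)) :=
  Lre_d IH (LK LD1_c3 LD2_c35 LD3_c6) (LK LD1_c1 LD2_c44 LD3_c19) Lrfl Lrfl
theorem f430150 : Led Lsl_ff (LP (LK LD1_c3 LD2_c35 LD3_c6)) = (LP (LK LD1_c3 LD2_c24 LD3_c21)) :=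
  Lgr Lrot19 (Lpr_dt (f430103 IH) (Lpr_ft (f430132 IH) (Lpr_dt (f95188 IH) (Lpn (LP (LK LD1_c3 LD2_c24 LD3_c21))))))
theorem f106387 : Led Lsl_ct (LP (LK LD1_c6 LD2_c23 LD3_c10)) = (LP (LK LD1_c3 LD2_c24 LD3_c21)) :=
  Lgr Lrot59 (Lpr_cf (K5.f106377 IH) (Lpn (LP (LK LD1_c3 LD2_c24 LD3_c21))))
theorem f156221 : Led Lsl_af (LP (LK LD1_c3 LD2_c31 LD3_c51)) = (LP (LK LD1_c3 LD2_c24 LD3_c21)) :=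
  Lgr Lrot117 (Lpr_dt (K3.f64378 IH) (Lpr_at (f156217 IH) (Lpr_dt (f95188 IH) (Lpn (LP (LK LD1_c3 LD2_c24 LD3_c21))))))
theorem f26128 : Led Lsl_dt (LP (LK LD1_c1 LD2_c39 LD3_c23)) = (LP (LK LD1_c3 LD2_c25 LD3_c30)) :=
  Lre_d IH (LK LD1_c1 LD2_c39 LD3_c23) (LK LD1_c3 LD2_c25 LD3_c30) Lrfl Lrfl
theorem f94345 : Led Lsl_gf (LP (LK LD1_c3 LD2_c31 LD3_c51)) = (LP (LK LD1_c3 LD2_c25 LD3_c30)) :=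
  Lgr Lrot145 (Lpe (K3.f66771 IH) (Lpr_et (K3.f66762 IH) (Lpr_gt (K2.f87515 IH) (Lpe (K2.f94200 IH) (Lpr_gt (K2.f94205 IH) (Lpe (K2.f91957 IH) (Lpr_et (K2.f94238 IH) (Lpr_gt (K2.f14989 IH) (Lpe (K5.f26130 IH) (Lpr_dt (f26128 IH) (Lpn (LP (LK LD1_c3 LD2_c25 LD3_c30)))))))))))))
theorem f83455 : Led Lsl_ct (LP (LK LD1_c3 LD2_c11 LD3_c42)) = (LP (LK LD1_c1 LD2_c32 LD3_c12)) :=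
  Lre_c IH (LK LD1_c3 LD2_c11 LD3_c42) (LK LD1_c1 LD2_c32 LD3_c12) Lrfl Lrfl
theorem f68123 : Led Lsl_gt (LP (LK LD1_c6 LD2_c27 LD3_c37)) = (LP (LK LD1_c3 LD2_c11 LD3_c42)) :=
  Lre_g IH (LK LD1_c6 LD2_c27 LD3_c37) (LK LD1_c3 LD2_c11 LD3_c42) Lrfl Lrfl
theorem f106146 : Led Lsl_ct (LP (LK LD1_c3 LD2_c31 LD3_c51)) = (LP (LK LD1_c6 LD2_c27 LD3_c37)) :=
  Lgr Lrot152 (Lpr_gf (f94345 IH) (Lpe (f26128 IH) (Lpr_gt (K4.f106144 IH) (Lpr_ct (K4.f92043 IH) (Lpr_gt (f92038 IH) (Lpr_ct (K3.f68104 IH) (Lpe (K5.f68106 IH) (Lpe (f83455 IH) (Lpe (f68123 IH) (Lpn (LP (LK LD1_c6 LD2_c27 LD3_c37))))))))))))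
theorem f156225 : Led Lsl_at (LP (LK LD1_c6 LD2_c27 LD3_c37)) = (LP (LK LD1_c6 LD2_c23 LD3_c10)) :=
  Lgr Lrot107 (Lpe (f106146 IH) (Lpr_af (f156221 IH) (Lpe (f106387 IH) (Lpn (LP (LK LD1_c6 LD2_c23 LD3_c10))))))
theorem f83472 : Led Lsl_gt (LP (LK LD1_c6 LD2_c23 LD3_c11)) = (LP (LK LD1_c3 LD2_c9 LD3_c15)) :=
  Lre_g IH (LK LD1_c6 LD2_c23 LD3_c11) (LK LD1_c3 LD2_c9 LD3_c15) Lrfl Lrfl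
theorem f156229 : Led Lsl_ff (LP (LK LD1_c6 LD2_c27 LD3_c37)) = (LP (LK LD1_c6 LD2_c23 LD3_c11)) :=
  Lgr Lrot52 (Lpr_at (f156225 IH) (Lpe (K5.f83663 IH) (Lpe (f83472 IH) (Lpn (LP (LK LD1_c6 LD2_c23 LD3_c11))))))
theorem f156235 : Led Lsl_ft (LP (LK LD1_c6 LD2_c27 LD3_c37)) = (LP (LK LD1_c6 LD2_c23 LD3_c11)) :=
  Lgr Lrot48 (Lpr_ff (f156229 IH) (Lpn (LP (LK LD1_c6 LD2_c23 LD3_c11))))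
theorem f68095 : Led Lsl_gt (LP (LK LD1_c3 LD2_c11 LD3_c42)) = (LP (LK LD1_c6 LD2_c27 LD3_c36)) :=
  Lre_g IH (LK LD1_c3 LD2_c11 LD3_c42) (LK LD1_c6 LD2_c27 LD3_c36) Lrfl Lrfl
theorem f156240 : Led Lsl_af (LP (LK LD1_c6 LD2_c27 LD3_c36)) = (LP (LK LD1_c6 LD2_c23 LD3_c11)) :=
  Lgr Lrot31 (Lpe (f68095 IH) (Lpe (f68123 IH) (Lpr_ft (f156235 IH) (Lpn (LP (LK LD1_c6 LD2_c23 LD3_c11))))))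
theorem f156227 : Led Lsl_af (LP (LK LD1_c6 LD2_c27 LD3_c37)) = (LP (LK LD1_c6 LD2_c23 LD3_c10)) :=
  Lgr Lrot0 (Lpr_at (f156225 IH) (Lpn (LP (LK LD1_c6 LD2_c23 LD3_c10))))
theorem f156245 : Led Lsl_ft (LP (LK LD1_c6 LD2_c27 LD3_c36)) = (LP (LK LD1_c6 LD2_c23 LD3_c10)) :=
  Lgr Lrot101 (Lpr_af (f156240 IH) (Lpe (f156235 IH) (Lpr_af (f156227 IH) (Lpn (LP (LK LD1_c6 LD2_c23 LD3_c10))))))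
theorem f430154 : Led Lsl_ct (LP (LK LD1_c3 LD2_c35 LD3_c6)) = (LP (LK LD1_c6 LD2_c27 LD3_c36)) :=
  Lgr Lrot40 (Lpr_ff (f430150 IH) (Lpe (f106387 IH) (Lpe (f156245 IH) (Lpn (LP (LK LD1_c6 LD2_c27 LD3_c36))))))
theorem f68094 : Led Lsl_bt (LP (LK LD1_c6 LD2_c27 LD3_c38)) = (LP (LK LD1_c3 LD2_c11 LD3_c42)) :=
  Lre_b IH (LK LD1_c6 LD2_c27 LD3_c38) (LK LD1_c3 LD2_c11 LD3_c42) Lrfl Lrfl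
theorem f83410 : Led Lsl_bt (LP (LK LD1_c3 LD2_c9 LD3_c15)) = (LP (LK LD1_c6 LD2_c23 LD3_c12)) :=
  Lre_b IH (LK LD1_c3 LD2_c9 LD3_c15) (LK LD1_c6 LD2_c23 LD3_c12) Lrfl Lrfl
theorem f83411 : Led Lsl_ft (LP (LK LD1_c3 LD2_c11 LD3_c42)) = (LP (LK LD1_c3 LD2_c9 LD3_c15)) :=
  Lgr Lrot75 (Lpe (f68094 IH) (Lpr_ff (K2.f83402 IH) (Lpe (f83410 IH) (Lpn (LP (LK LD1_c3 LD2_c9 LD3_c15))))))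
theorem f83604 : Led Lsl_at (LP (LK LD1_c3 LD2_c9 LD3_c15)) = (LP (LK LD1_c6 LD2_c23 LD3_c8)) :=
  Lre_a IH (LK LD1_c3 LD2_c9 LD3_c15) (LK LD1_c6 LD2_c23 LD3_c8) Lrfl Lrfl
theorem f83668 : Led Lsl_gt (LP (LK LD1_c6 LD2_c27 LD3_c36)) = (LP (LK LD1_c6 LD2_c23 LD3_c8)) :=
  Lgr Lrot46 (Lpe (f68095 IH) (Lpr_ft (f83411 IH) (Lpr_at (f83604 IH) (Lpn (LP (LK LD1_c6 LD2_c23 LD3_c8))))))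
theorem f67551 : Led Lsl_bt (LP (LK LD1_c12 LD2_c13 LD3_c25)) = (LP (LK LD1_c21 LD2_c18 LD3_c31)) :=
  Lre_b IH (LK LD1_c12 LD2_c13 LD3_c25) (LK LD1_c21 LD2_c18 LD3_c31) Lrfl Lrfl
theorem f67990 : Led Lsl_bt (LP (LK LD1_c21 LD2_c33 LD3_c39)) = (LP (LK LD1_c12 LD2_c26 LD3_c41)) :=
  Lre_b IH (LK LD1_c21 LD2_c33 LD3_c39) (LK LD1_c12 LD2_c26 LD3_c41) Lrfl Lrfl
theorem f67991 : Led Lsl_ct (LP (LK LD1_c21 LD2_c18 LD3_c31)) = (LP (LK LD1_c21 LD2_c33 LD3_c39)) :=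
  Lgr Lrot83 (Lpe (f67551 IH) (Lpe (K2.f67548 IH) (Lpr_bf (K2.f67518 IH) (Lpe (K2.f67981 IH) (Lpe (f67990 IH) (Lpn (LP (LK LD1_c21 LD2_c33 LD3_c39))))))))
theorem f67819 : Led Lsl_at (LP (LK LD1_c12 LD2_c12 LD3_c42)) = (LP (LK LD1_c21 LD2_c18 LD3_c31)) :=
  Lre_a IH (LK LD1_c12 LD2_c12 LD3_c42) (LK LD1_c21 LD2_c18 LD3_c31) Lrfl Lrfl
theorem f67994 : Led Lsl_at (LP (LK LD1_c21 LD2_c33 LD3_c39)) = (LP (LK LD1_c12 LD2_c26 LD3_c30)) :=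
  Lre_a IH (LK LD1_c21 LD2_c33 LD3_c39) (LK LD1_c12 LD2_c26 LD3_c30) Lrfl Lrfl
theorem f67995 : Led Lsl_cf (LP (LK LD1_c12 LD2_c12 LD3_c42)) = (LP (LK LD1_c12 LD2_c26 LD3_c30)) :=
  Lgr Lrot1 (Lpr_at (f67819 IH) (Lpr_ct (f67991 IH) (Lpr_at (f67994 IH) (Lpn (LP (LK LD1_c12 LD2_c26 LD3_c30))))))
theorem f67812 : Led Lsl_bt (LP (LK LD1_c12 LD2_c12 LD3_c42)) = (LP (LK LD1_c6 LD2_c18 LD3_c20)) :=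
  Lre_b IH (LK LD1_c12 LD2_c12 LD3_c42) (LK LD1_c6 LD2_c18 LD3_c20) Lrfl Lrfl
theorem f68007 : Led Lsl_bt (LP (LK LD1_c6 LD2_c27 LD3_c29)) = (LP (LK LD1_c12 LD2_c26 LD3_c30)) :=
  Lre_b IH (LK LD1_c6 LD2_c27 LD3_c29) (LK LD1_c12 LD2_c26 LD3_c30) Lrfl Lrfl
theorem f68008 : Led Lsl_bt (LP (LK LD1_c3 LD2_c6 LD3_c25)) = (LP (LK LD1_c3 LD2_c11 LD3_c39)) :=
  Lgr Lrot128 (Lpe (K2.f25130 IH) (Lpe (f67812 IH) (Lpr_cf (f67995 IH) (Lpe (f68007 IH) (Lpe (K5.f67678 IH) (Lpn (LP (LK LD1_c3 LD2_c11 LD3_c39))))))))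
theorem f83476 : Led Lsl_bf (LP (LK LD1_c3 LD2_c11 LD3_c49)) = (LP (LK LD1_c3 LD2_c9 LD3_c14)) :=
  Lgr Lrot61 (Lpe (K5.f67685 IH) (Lpr_bt (f68008 IH) (Lpr_ft (K2.f83470 IH) (Lpn (LP (LK LD1_c3 LD2_c9 LD3_c14))))))
theorem f430160 : Led Lsl_bt (LP (LK LD1_c3 LD2_c35 LD3_c6)) = (LP (LK LD1_c6 LD2_c19 LD3_c17)) :=
  Lgr Lrot92 (Lpr_ct (f430154 IH) (Lpr_gt (f83668 IH) (Lpe (f83478 IH) (Lpe (f83476 IH) (Lpr_gt (K5.f78166 IH) (Lpr_ct (K5.f61752 IH) (Lpr_gt (K5.f78169 IH) (Lpr_cf (K5.f125418 IH) (Lpr_bt (K6.f113393 IH) (Lpr_gt (K6.f113378 IH) (Lpn (LP (LK LD1_c6 LD2_c19 LD3_c17)))))))))))))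
theorem f430168 : Led Lsl_gf (LP (LK LD1_c4 LD2_c43 LD3_c21)) = (LP (LK LD1_c6 LD2_c19 LD3_c17)) :=
  Lgr Lrot124 (Lpr_bf (K5.f120054 IH) (Lpr_ct (K5.f120063 IH) (Lpr_gt (K6.f120064 IH) (Lpr_cf (K6.f134353 IH) (Lpr_bt (K3.f76775 IH) (Lpr_gt (K2.f76755 IH) (Lpr_ct (K2.f68111 IH) (Lpr_gt (f68095 IH) (Lpe (f430154 IH) (Lpr_bt (f430160 IH) (Lpn (LP (LK LD1_c6 LD2_c19 LD3_c17)))))))))))))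
theorem f82801 : Led Lsl_bt (LP (LK LD1_c1 LD2_c6 LD3_c9)) = (LP (LK LD1_c0 LD2_c30 LD3_c18)) :=
  Lre_b IH (LK LD1_c1 LD2_c6 LD3_c9) (LK LD1_c0 LD2_c30 LD3_c18) Lrfl Lrfl
theorem f82802 : Led Lsl_ct (LP (LK LD1_c1 LD2_c6 LD3_c9)) = (LP (LK LD1_c2 LD2_c18 LD3_c18)) :=
  Lre_c IH (LK LD1_c1 LD2_c6 LD3_c9) (LK LD1_c2 LD2_c18 LD3_c18) Lrfl Lrfl
theorem f82823 : Led Lsl_gt (LP (LK LD1_c4 LD2_c41 LD3_c59)) = (LP (LK LD1_c2 LD2_c18 LD3_c18)) :=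
  Lre_g IH (LK LD1_c4 LD2_c41 LD3_c59) (LK LD1_c2 LD2_c18 LD3_c18) Lrfl Lrfl
theorem f134356 : Led Lsl_ct (LP (LK LD1_c4 LD2_c43 LD3_c21)) = (LP (LK LD1_c4 LD2_c41 LD3_c59)) :=
  Lgr Lrot64 (Lpr_bt (K5.f120057 IH) (Lpr_gf (K6.f134061 IH) (Lpe (K6.f84099 IH) (Lpr_ct (K6.f25626 IH) (Lpr_gf (K2.f84087 IH) (Lpe (K2.f25819 IH) (Lpe (K3.f82791 IH) (Lpe (f82801 IH) (Lpr_ct (f82802 IH) (Lpe (f82823 IH) (Lpn (LP (LK LD1_c4 LD2_c41 LD3_c59)))))))))))))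
theorem f82822 : Led Lsl_ct (LP (LK LD1_c2 LD2_c18 LD3_c18)) = (LP (LK LD1_c1 LD2_c6 LD3_c9)) :=
  Lre_c IH (LK LD1_c2 LD2_c18 LD3_c18) (LK LD1_c1 LD2_c6 LD3_c9) Lrfl Lrfl
theorem f104231 : Led Lsl_gt (LP (LK LD1_c0 LD2_c41 LD3_c41)) = (LP (LK LD1_c0 LD2_c18 LD3_c37)) :=
  Lre_g IH (LK LD1_c0 LD2_c41 LD3_c41) (LK LD1_c0 LD2_c18 LD3_c37) Lrfl Lrfl
theorem f104609 : Led Lsl_ct (LP (LK LD1_c1 LD2_c30 LD3_c15)) = (LP (LK LD1_c0 LD2_c41 LD3_c41)) :=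
  Lre_c IH (LK LD1_c1 LD2_c30 LD3_c15) (LK LD1_c0 LD2_c41 LD3_c41) Lrfl Lrfl
theorem f103589 : Led Lsl_et (LP (LK LD1_c0 LD2_c19 LD3_c48)) = (LP (LK LD1_c0 LD2_c8 LD3_c52)) :=
  Lre_e IH (LK LD1_c0 LD2_c19 LD3_c48) (LK LD1_c0 LD2_c8 LD3_c52) Lrfl Lrfl
theorem f155132 : Led Lsl_ef (LP (LK LD1_c0 LD2_c44 LD3_c28)) = (LP (LK LD1_c1 LD2_c30 LD3_c60)) :=
  Lgr Lrot17 (Lpe (K4.f12639 IH) (Lpe (K4.f103590 IH) (Lpr_dt (K1.f58394 IH) (Lpe (K3.f18897 IH) (Lpr_df (K4.f103578 IH) (Lpe (K3.f103568 IH) (Lpe (f103589 IH) (Lpr_dt (K4.f84619 IH) (Lpe (f12167 IH) (Lpr_df (f155124 IH) (Lpn (LP (LK LD1_c1 LD2_c30 LD3_c60)))))))))))))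
theorem f155136 : Led Lsl_et (LP (LK LD1_c0 LD2_c44 LD3_c28)) = (LP (LK LD1_c1 LD2_c30 LD3_c60)) :=
  Lgr Lrot87 (Lpr_ef (f155132 IH) (Lpn (LP (LK LD1_c1 LD2_c30 LD3_c60))))
theorem f155140 : Led Lsl_bt (LP (LK LD1_c1 LD2_c30 LD3_c60)) = (LP (LK LD1_c3 LD2_c9 LD3_c40)) :=
  Lre_b IH (LK LD1_c1 LD2_c30 LD3_c60) (LK LD1_c3 LD2_c9 LD3_c40) Lrfl Lrfl
theorem f155141 : Led Lsl_ef (LP (LK LD1_c1 LD2_c35 LD3_c53)) = (LP (LK LD1_c3 LD2_c9 LD3_c40)) :=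
  Lgr Lrot29 (Lpr_bt (K5.f12637 IH) (Lpr_et (f155136 IH) (Lpr_bt (f155140 IH) (Lpn (LP (LK LD1_c3 LD2_c9 LD3_c40))))))
theorem f126934 : Led Lsl_ct (LP (LK LD1_c3 LD2_c8 LD3_c1)) = (LP (LK LD1_c3 LD2_c9 LD3_c40)) :=
  Lre_c IH (LK LD1_c3 LD2_c8 LD3_c1) (LK LD1_c3 LD2_c9 LD3_c40) Lrfl Lrfl
theorem f155143 : Led Lsl_et (LP (LK LD1_c3 LD2_c7 LD3_c4)) = (LP (LK LD1_c3 LD2_c8 LD3_c1)) :=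
  Lgr Lrot158 (Lpe (K5.f125388 IH) (Lpr_ef (f155141 IH) (Lpe (f126934 IH) (Lpn (LP (LK LD1_c3 LD2_c8 LD3_c1))))))
theorem f155151 : Led Lsl_ef (LP (LK LD1_c3 LD2_c7 LD3_c4)) = (LP (LK LD1_c3 LD2_c8 LD3_c1)) :=
  Lgr Lrot88 (Lpr_et (f155143 IH) (Lpn (LP (LK LD1_c3 LD2_c8 LD3_c1))))
theorem f113386 : Led Lsl_dt (LP (LK LD1_c3 LD2_c7 LD3_c5)) = (LP (LK LD1_c1 LD2_c29 LD3_c44)) :=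
  Lre_d IH (LK LD1_c3 LD2_c7 LD3_c5) (LK LD1_c1 LD2_c29 LD3_c44) Lrfl Lrfl
theorem f113387 : Led Lsl_at (LP (LK LD1_c4 LD2_c43 LD3_c1)) = (LP (LK LD1_c3 LD2_c7 LD3_c5)) :=
  Lgr Lrot51 (Lpe (K5.f110010 IH) (Lpr_af (K5.f113380 IH) (Lpe (f113386 IH) (Lpn (LP (LK LD1_c3 LD2_c7 LD3_c5))))))
theorem f102267 : Led Lsl_et (LP (LK LD1_c3 LD2_c5 LD3_c49)) = (LP (LK LD1_c1 LD2_c28 LD3_c60)) :=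
  Lre_e IH (LK LD1_c3 LD2_c5 LD3_c49) (LK LD1_c1 LD2_c28 LD3_c60) Lrfl Lrfl
theorem f102248 : Led Lsl_dt (LP (LK LD1_c3 LD2_c5 LD3_c49)) = (LP (LK LD1_c6 LD2_c17 LD3_c16)) :=
  Lre_d IH (LK LD1_c3 LD2_c5 LD3_c49) (LK LD1_c6 LD2_c17 LD3_c16) Lrfl Lrfl
theorem f25027 : Led Lsl_et (LP (LK LD1_c1 LD2_c29 LD3_c44)) = (LP (LK LD1_c0 LD2_c41 LD3_c28)) :=
  Lre_e IH (LK LD1_c1 LD2_c29 LD3_c44) (LK LD1_c0 LD2_c41 LD3_c28) Lrfl Lrfl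
theorem f133689 : Led Lsl_gt (LP (LK LD1_c6 LD2_c17 LD3_c16)) = (LP (LK LD1_c3 LD2_c7 LD3_c5)) :=
  Lgr Lrot112 (Lpe (f102248 IH) (Lpr_et (f102267 IH) (Lpr_gf (K4.f113337 IH) (Lpr_ef (K5.f133685 IH) (Lpr_dt (K3.f26166 IH) (Lpr_gf (K3.f104308 IH) (Lpr_df (K3.f79608 IH) (Lpe (K1.f24974 IH) (Lpe (f25027 IH) (Lpr_dt (K6.f25028 IH) (Lpn (LP (LK LD1_c3 LD2_c7 LD3_c5)))))))))))))
theorem f133711 : Led Lsl_gf (LP (LK LD1_c6 LD2_c17 LD3_c16)) = (LP (LK LD1_c4 LD2_c43 LD3_c21)) :=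
  Lgr Lrot47 (Lpr_gt (f133689 IH) (Lpe (f113387 IH) (Lpr_ff (K5.f133703 IH) (Lpn (LP (LK LD1_c4 LD2_c43 LD3_c21))))))
theorem f155153 : Led Lsl_df (LP (LK LD1_c6 LD2_c19 LD3_c17)) = (LP (LK LD1_c3 LD2_c8 LD3_c1)) :=
  Lgr Lrot168 (Lpe (K6.f113378 IH) (Lpe (K6.f25028 IH) (Lpr_et (f25027 IH) (Lpe (K5.f113374 IH) (Lpe (f102267 IH) (Lpr_dt (f102248 IH) (Lpr_gf (f133711 IH) (Lpe (K5.f120051 IH) (Lpr_gf (K5.f125384 IH) (Lpr_ef (f155151 IH) (Lpn (LP (LK LD1_c3 LD2_c8 LD3_c1)))))))))))))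
theorem f430170 : Led Lsl_gf (LP (LK LD1_c1 LD2_c30 LD3_c15)) = (LP (LK LD1_c3 LD2_c8 LD3_c1)) :=
  Lgr Lrot147 (Lpr_ct (f104609 IH) (Lpr_gt (f104231 IH) (Lpe (K5.f104590 IH) (Lpe (K5.f104592 IH) (Lpe (f82822 IH) (Lpe (f82823 IH) (Lpe (f134356 IH) (Lpr_gf (f430168 IH) (Lpr_df (f155153 IH) (Lpn (LP (LK LD1_c3 LD2_c8 LD3_c1))))))))))))
theorem f133695 : Led Lsl_bt (LP (LK LD1_c3 LD2_c8 LD3_c6)) = (LP (LK LD1_c1 LD2_c30 LD3_c15)) :=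
  Lre_b IH (LK LD1_c3 LD2_c8 LD3_c6) (LK LD1_c1 LD2_c30 LD3_c15) Lrfl Lrfl
theorem f156402 : Led Lsl_bf (LP (LK LD1_c0 LD2_c20 LD3_c12)) = (LP (LK LD1_c0 LD2_c9 LD3_c24)) :=
  Lgr Lrot24 (Lpr_bt (f156400 IH) (Lpn (LP (LK LD1_c0 LD2_c9 LD3_c24))))
theorem f156421 : Led Lsl_gt (LP (LK LD1_c0 LD2_c8 LD3_c47)) = (LP (LK LD1_c0 LD2_c19 LD3_c17)) :=
  Lgr Lrot149 (Lpe (f24278 IH) (Lpr_gf (K6.f24601 IH) (Lpr_bf (f156402 IH) (Lpr_ct (f156412 IH) (Lpe (f3991 IH) (Lpe (K0.f3975 IH) (Lpr_bt (f5707 IH) (Lpe (K0.f4922 IH) (Lpe (f154134 IH) (Lpr_ct (f23405 IH) (Lpn (LP (LK LD1_c0 LD2_c19 LD3_c17)))))))))))))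
theorem f152091 : Led Lsl_ft (LP (LK LD1_c0 LD2_c6 LD3_c16)) = (LP (LK LD1_c0 LD2_c3 LD3_c59)) :=
  Lgr Lrot54 (Lpe (K0.f20835 IH) (Lpr_ff (f152087 IH) (Lpe (K0.f23183 IH) (Lpn (LP (LK LD1_c0 LD2_c3 LD3_c59))))))
theorem f23184 : Led Lsl_et (LP (LK LD1_c0 LD2_c3 LD3_c59)) = (LP (LK LD1_c0 LD2_c8 LD3_c47)) :=
  Lre_e IH (LK LD1_c0 LD2_c3 LD3_c59) (LK LD1_c0 LD2_c8 LD3_c47) Lrfl Lrfl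
theorem f152111 : Led Lsl_ft (LP (LK LD1_c0 LD2_c8 LD3_c47)) = (LP (LK LD1_c0 LD2_c8 LD3_c47)) :=
  Lgr Lrot86 (Lpe (f23184 IH) (Lpe (f152091 IH) (Lpe (K2.f23299 IH) (Lpr_ff (f152103 IH) (Lpe (f24954 IH) (Lpn (LP (LK LD1_c0 LD2_c8 LD3_c47))))))))
theorem f156423 : Led Lsl_at (LP (LK LD1_c0 LD2_c8 LD3_c47)) = (LP (LK LD1_c0 LD2_c13 LD3_c45)) :=
  Lgr Lrot26 (Lpe (f152111 IH) (Lpr_gt (f156421 IH) (Lpe (f156408 IH) (Lpn (LP (LK LD1_c0 LD2_c13 LD3_c45))))))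
theorem f23188 : Led Lsl_et (LP (LK LD1_c0 LD2_c13 LD3_c45)) = (LP (LK LD1_c0 LD2_c6 LD3_c17)) :=
  Lre_e IH (LK LD1_c0 LD2_c13 LD3_c45) (LK LD1_c0 LD2_c6 LD3_c17) Lrfl Lrfl
theorem f156436 : Led Lsl_af (LP (LK LD1_c0 LD2_c3 LD3_c59)) = (LP (LK LD1_c0 LD2_c6 LD3_c17)) :=
  Lgr Lrot50 (Lpr_et (f23184 IH) (Lpr_at (f156423 IH) (Lpr_et (f23188 IH) (Lpn (LP (LK LD1_c0 LD2_c6 LD3_c17))))))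
theorem f24300 : Led Lsl_at (LP (LK LD1_c0 LD2_c8 LD3_c44)) = (LP (LK LD1_c0 LD2_c19 LD3_c26)) :=
  Lre_a IH (LK LD1_c0 LD2_c8 LD3_c44) (LK LD1_c0 LD2_c19 LD3_c26) Lrfl Lrfl
theorem f124151 : Led Lsl_at (LP (LK LD1_c0 LD2_c23 LD3_c0)) = (LP (LK LD1_c0 LD2_c10 LD3_c23)) :=
  Lre_a IH (LK LD1_c0 LD2_c23 LD3_c0) (LK LD1_c0 LD2_c10 LD3_c23) Lrfl Lrfl
theorem f156444 : Led Lsl_bt (LP (LK LD1_c0 LD2_c19 LD3_c26)) = (LP (LK LD1_c0 LD2_c23 LD3_c0)) :=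
  Lgr Lrot62 (Lpe (f24300 IH) (Lpe (K3.f24270 IH) (Lpr_af (f156436 IH) (Lpr_bf (K4.f124149 IH) (Lpe (f124151 IH) (Lpn (LP (LK LD1_c0 LD2_c23 LD3_c0))))))))
theorem f24277 : Led Lsl_bt (LP (LK LD1_c0 LD2_c19 LD3_c28)) = (LP (LK LD1_c0 LD2_c8 LD3_c47)) :=
  Lre_b IH (LK LD1_c0 LD2_c19 LD3_c28) (LK LD1_c0 LD2_c8 LD3_c47) Lrfl Lrfl
theorem f24279 : Led Lsl_bt (LP (LK LD1_c0 LD2_c8 LD3_c47)) = (LP (LK LD1_c0 LD2_c19 LD3_c28)) :=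
  Lre_b IH (LK LD1_c0 LD2_c8 LD3_c47) (LK LD1_c0 LD2_c19 LD3_c28) Lrfl Lrfl
theorem f24280 : Led Lsl_cf (LP (LK LD1_c0 LD2_c19 LD3_c28)) = (LP (LK LD1_c0 LD2_c19 LD3_c28)) :=
  Lgr Lrot97 (Lpr_bt (f24277 IH) (Lpr_ct (f24276 IH) (Lpr_bt (f24274 IH) (Lpr_ct (f24278 IH) (Lpr_bt (f24279 IH) (Lpn (LP (LK LD1_c0 LD2_c19 LD3_c28))))))))
theorem f24283 : Led Lsl_at (LP (LK LD1_c0 LD2_c19 LD3_c28)) = (LP (LK LD1_c0 LD2_c43 LD3_c35)) :=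
  Lre_a IH (LK LD1_c0 LD2_c19 LD3_c28) (LK LD1_c0 LD2_c43 LD3_c35) Lrfl Lrfl
theorem f24284 : Led Lsl_at (LP (LK LD1_c0 LD2_c43 LD3_c35)) = (LP (LK LD1_c0 LD2_c19 LD3_c28)) :=
  Lre_a IH (LK LD1_c0 LD2_c43 LD3_c35) (LK LD1_c0 LD2_c19 LD3_c28) Lrfl Lrfl
theorem f24285 : Led Lsl_ct (LP (LK LD1_c0 LD2_c43 LD3_c35)) = (LP (LK LD1_c0 LD2_c43 LD3_c35)) :=
  Lgr Lrot111 (Lpe (f24283 IH) (Lpr_cf (f24280 IH) (Lpe (f24284 IH) (Lpn (LP (LK LD1_c0 LD2_c43 LD3_c35))))))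
theorem f24295 : Led Lsl_et (LP (LK LD1_c0 LD2_c19 LD3_c26)) = (LP (LK LD1_c0 LD2_c43 LD3_c35)) :=
  Lre_e IH (LK LD1_c0 LD2_c19 LD3_c26) (LK LD1_c0 LD2_c43 LD3_c35) Lrfl Lrfl
theorem f24296 : Led Lsl_et (LP (LK LD1_c0 LD2_c43 LD3_c35)) = (LP (LK LD1_c0 LD2_c19 LD3_c26)) :=
  Lre_e IH (LK LD1_c0 LD2_c43 LD3_c35) (LK LD1_c0 LD2_c19 LD3_c26) Lrfl Lrfl
theorem f24297 : Led Lsl_cf (LP (LK LD1_c0 LD2_c19 LD3_c26)) = (LP (LK LD1_c0 LD2_c19 LD3_c26)) :=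
  Lgr Lrot39 (Lpr_et (f24295 IH) (Lpr_ct (f24285 IH) (Lpr_et (f24296 IH) (Lpn (LP (LK LD1_c0 LD2_c19 LD3_c26))))))
theorem f148687 : Led Lsl_gf (LP (LK LD1_c0 LD2_c19 LD3_c20)) = (LP (LK LD1_c0 LD2_c23 LD3_c0)) :=
  Lgr Lrot143 (Lpr_dt (K1.f23692 IH) (Lpe (K4.f23696 IH) (Lpe (K5.f23699 IH) (Lpe (f148679 IH) (Lpr_df (f148681 IH) (Lpe (f22499 IH) (Lpe (K6.f22498 IH) (Lpr_gt (f147777 IH) (Lpr_dt (f147776 IH) (Lpn (LP (LK LD1_c0 LD2_c23 LD3_c0))))))))))))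
theorem f156454 : Led Lsl_gf (LP (LK LD1_c0 LD2_c19 LD3_c26)) = (LP (LK LD1_c0 LD2_c30 LD3_c50)) :=
  Lgr Lrot129 (Lpr_cf (f24297 IH) (Lpr_bt (f156444 IH) (Lpe (f148687 IH) (Lpe (K2.f12423 IH) (Lpr_ct (K3.f23688 IH) (Lpr_gt (K0.f5716 IH) (Lpe (K2.f23708 IH) (Lpr_bt (K2.f23709 IH) (Lpe (K3.f104148 IH) (Lpr_ct (K3.f23503 IH) (Lpn (LP (LK LD1_c0 LD2_c30 LD3_c50)))))))))))))
theorem f24301 : Led Lsl_dt (LP (LK LD1_c0 LD2_c19 LD3_c26)) = (LP (LK LD1_c0 LD2_c43 LD3_c34)) :=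
  Lre_d IH (LK LD1_c0 LD2_c19 LD3_c26) (LK LD1_c0 LD2_c43 LD3_c34) Lrfl Lrfl
theorem f24305 : Led Lsl_ct (LP (LK LD1_c1 LD2_c33 LD3_c58)) = (LP (LK LD1_c0 LD2_c43 LD3_c34)) :=
  Lre_c IH (LK LD1_c1 LD2_c33 LD3_c58) (LK LD1_c0 LD2_c43 LD3_c34) Lrfl Lrfl
theorem f156460 : Led Lsl_gf (LP (LK LD1_c1 LD2_c33 LD3_c58)) = (LP (LK LD1_c2 LD2_c20 LD3_c6)) :=
  Lgr Lrot104 (Lpr_ct (f24305 IH) (Lpe (f24301 IH) (Lpr_cf (f24297 IH) (Lpr_gf (f156454 IH) (Lpe (K3.f23503 IH) (Lpr_gf (K3.f104148 IH) (Lpe (K2.f66444 IH) (Lpr_gt (K5.f129592 IH) (Lpr_ct (K5.f127064 IH) (Lpn (LP (LK LD1_c2 LD2_c20 LD3_c6))))))))))))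
theorem f24303 : Led Lsl_dt (LP (LK LD1_c1 LD2_c33 LD3_c58)) = (LP (LK LD1_c3 LD2_c14 LD3_c50)) :=
  Lre_d IH (LK LD1_c1 LD2_c33 LD3_c58) (LK LD1_c3 LD2_c14 LD3_c50) Lrfl Lrfl
theorem f25392 : Led Lsl_dt (LP (LK LD1_c1 LD2_c7 LD3_c19)) = (LP (LK LD1_c2 LD2_c20 LD3_c7)) :=
  Lre_d IH (LK LD1_c1 LD2_c7 LD3_c19) (LK LD1_c2 LD2_c20 LD3_c7) Lrfl Lrfl
theorem f156471 : Led Lsl_cf (LP (LK LD1_c3 LD2_c14 LD3_c50)) = (LP (LK LD1_c2 LD2_c20 LD3_c7)) :=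
  Lgr Lrot14 (Lpe (f24303 IH) (Lpr_gf (f156460 IH) (Lpe (K5.f127075 IH) (Lpe (K3.f57467 IH) (Lpr_ct (K4.f64307 IH) (Lpr_gt (K4.f11853 IH) (Lpr_dt (K5.f64306 IH) (Lpr_gt (K4.f116711 IH) (Lpr_dt (f25392 IH) (Lpn (LP (LK LD1_c2 LD2_c20 LD3_c7))))))))))))
theorem f24306 : Led Lsl_dt (LP (LK LD1_c3 LD2_c14 LD3_c50)) = (LP (LK LD1_c1 LD2_c33 LD3_c58)) :=
  Lre_d IH (LK LD1_c3 LD2_c14 LD3_c50) (LK LD1_c1 LD2_c33 LD3_c58) Lrfl Lrfl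
theorem f24302 : Led Lsl_ct (LP (LK LD1_c0 LD2_c43 LD3_c34)) = (LP (LK LD1_c1 LD2_c33 LD3_c58)) :=
  Lre_c IH (LK LD1_c0 LD2_c43 LD3_c34) (LK LD1_c1 LD2_c33 LD3_c58) Lrfl Lrfl
theorem f127090 : Led Lsl_gf (LP (LK LD1_c2 LD2_c20 LD3_c1)) = (LP (LK LD1_c1 LD2_c49 LD3_c45)) :=
  Lgr Lrot104 (Lpr_ct (K5.f25297 IH) (Lpr_df (K5.f127084 IH) (Lpe (K5.f57591 IH) (Lpr_gf (K4.f90373 IH) (Lpe (K3.f90178 IH) (Lpe (K4.f113325 IH) (Lpr_df (K5.f126508 IH) (Lpr_gt (K5.f62888 IH) (Lpr_ct (K2.f62890 IH) (Lpn (LP (LK LD1_c1 LD2_c49 LD3_c45))))))))))))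
theorem f156479 : Led Lsl_gf (LP (LK LD1_c0 LD2_c43 LD3_c34)) = (LP (LK LD1_c1 LD2_c7 LD3_c17)) :=
  Lgr Lrot104 (Lpr_ct (f24302 IH) (Lpe (f24306 IH) (Lpr_cf (f156471 IH) (Lpr_gf (f129610 IH) (Lpe (K4.f11449 IH) (Lpr_gf (K4.f111070 IH) (Lpe (K4.f93192 IH) (Lpe (f127090 IH) (Lpr_ct (K5.f25297 IH) (Lpn (LP (LK LD1_c1 LD2_c7 LD3_c17))))))))))))
theorem f156486 : Led Lsl_gt (LP (LK LD1_c0 LD2_c43 LD3_c35)) = (LP (LK LD1_c0 LD2_c43 LD3_c40)) :=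
  Lgr Lrot131 (Lpe (f24295 IH) (Lpr_dt (f24301 IH) (Lpr_gf (f156479 IH) (Lpr_df (K5.f127084 IH) (Lpe (K3.f57581 IH) (Lpe (K5.f62344 IH) (Lpr_dt (K5.f62383 IH) (Lpe (K6.f62367 IH) (Lpr_df (K6.f126844 IH) (Lpr_et (K6.f112967 IH) (Lpn (LP (LK LD1_c0 LD2_c43 LD3_c40)))))))))))))
theorem f156488 : Led Lsl_ft (LP (LK LD1_c0 LD2_c43 LD3_c35)) = (LP (LK LD1_c0 LD2_c43 LD3_c35)) :=
  Lgr Lrot2 (Lpr_gt (f156486 IH) (Lpr_gt (K6.f24290 IH) (Lpe (f24284 IH) (Lpn (LP (LK LD1_c0 LD2_c43 LD3_c35))))))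
theorem f156490 : Led Lsl_ff (LP (LK LD1_c0 LD2_c19 LD3_c28)) = (LP (LK LD1_c0 LD2_c19 LD3_c28)) :=
  Lgr Lrot30 (Lpr_at (f24283 IH) (Lpr_ft (f156488 IH) (Lpr_at (f24284 IH) (Lpn (LP (LK LD1_c0 LD2_c19 LD3_c28))))))
theorem f24287 : Led Lsl_et (LP (LK LD1_c0 LD2_c19 LD3_c28)) = (LP (LK LD1_c0 LD2_c8 LD3_c44)) :=
  Lre_e IH (LK LD1_c0 LD2_c19 LD3_c28) (LK LD1_c0 LD2_c8 LD3_c44) Lrfl Lrfl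
theorem f152107 : Led Lsl_ft (LP (LK LD1_c0 LD2_c13 LD3_c42)) = (LP (LK LD1_c0 LD2_c8 LD3_c44)) :=
  Lgr Lrot75 (Lpe (K2.f20946 IH) (Lpr_ff (f152103 IH) (Lpe (K3.f24271 IH) (Lpn (LP (LK LD1_c0 LD2_c8 LD3_c44))))))
theorem f127125 : Led Lsl_df (LP (LK LD1_c1 LD2_c7 LD3_c18)) = (LP (LK LD1_c0 LD2_c40 LD3_c3)) :=
  Lgr Lrot38 (Lpr_dt (K5.f127119 IH) (Lpn (LP (LK LD1_c0 LD2_c40 LD3_c3))))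
theorem f144043 : Led Lsl_et (LP (LK LD1_c0 LD2_c13 LD3_c42)) = (LP (LK LD1_c0 LD2_c13 LD3_c42)) :=
  Lgr Lrot121 (Lpr_dt (K5.f25295 IH) (Lpe (K4.f25210 IH) (Lpr_df (f127125 IH) (Lpr_et (K2.f62333 IH) (Lpr_gf (K6.f144039 IH) (Lpe (K6.f62589 IH) (Lpe (K6.f62579 IH) (Lpe (f144024 IH) (Lpe (K3.f20948 IH) (Lpe (K2.f20947 IH) (Lpn (LP (LK LD1_c0 LD2_c13 LD3_c42)))))))))))))
theorem f156494 : Led Lsl_ft (LP (LK LD1_c0 LD2_c8 LD3_c44)) = (LP (LK LD1_c0 LD2_c13 LD3_c42)) :=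
  Lgr Lrot86 (Lpe (f24287 IH) (Lpr_ff (f156490 IH) (Lpe (K6.f24288 IH) (Lpe (f152107 IH) (Lpe (f144043 IH) (Lpn (LP (LK LD1_c0 LD2_c13 LD3_c42))))))))
theorem f144046 : Led Lsl_at (LP (LK LD1_c0 LD2_c13 LD3_c42)) = (LP (LK LD1_c0 LD2_c30 LD3_c52)) :=
  Lre_a IH (LK LD1_c0 LD2_c13 LD3_c42) (LK LD1_c0 LD2_c30 LD3_c52) Lrfl Lrfl
theorem f156500 : Led Lsl_gt (LP (LK LD1_c0 LD2_c19 LD3_c24)) = (LP (LK LD1_c0 LD2_c30 LD3_c52)) :=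
  Lgr Lrot46 (Lpe (K3.f24308 IH) (Lpr_ft (f156494 IH) (Lpr_at (f144046 IH) (Lpn (LP (LK LD1_c0 LD2_c30 LD3_c52))))))
theorem f26223 : Led Lsl_ct (LP (LK LD1_c0 LD2_c51 LD3_c3)) = (LP (LK LD1_c0 LD2_c49 LD3_c43)) :=
  Lre_c IH (LK LD1_c0 LD2_c51 LD3_c3) (LK LD1_c0 LD2_c49 LD3_c43) Lrfl Lrfl
theorem f26222 : Led Lsl_bt (LP (LK LD1_c0 LD2_c51 LD3_c3)) = (LP (LK LD1_c0 LD2_c23 LD3_c4)) :=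
  Lre_b IH (LK LD1_c0 LD2_c51 LD3_c3) (LK LD1_c0 LD2_c23 LD3_c4) Lrfl Lrfl
theorem f148366 : Led Lsl_gf (LP (LK LD1_c0 LD2_c23 LD3_c4)) = (LP (LK LD1_c0 LD2_c19 LD3_c21)) :=
  Lgr Lrot76 (Lpe (K3.f107062 IH) (Lpe (K4.f121273 IH) (Lpr_gt (f148360 IH) (Lpn (LP (LK LD1_c0 LD2_c19 LD3_c21))))))
theorem f156502 : Led Lsl_gf (LP (LK LD1_c0 LD2_c19 LD3_c25)) = (LP (LK LD1_c0 LD2_c30 LD3_c52)) :=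
  Lgr Lrot76 (Lpr_af (K3.f107448 IH) (Lpe (K3.f107454 IH) (Lpr_gt (f156500 IH) (Lpn (LP (LK LD1_c0 LD2_c30 LD3_c52))))))
theorem f156510 : Led Lsl_cf (LP (LK LD1_c0 LD2_c30 LD3_c52)) = (LP (LK LD1_c0 LD2_c30 LD3_c52)) :=
  Lgr Lrot169 (Lpe (f156502 IH) (Lpe (K3.f24332 IH) (Lpr_df (K3.f104200 IH) (Lpr_cf (K3.f61908 IH) (Lpe (K6.f135772 IH) (Lpe (K6.f113298 IH) (Lpr_gf (K6.f135796 IH) (Lpe (K3.f24309 IH) (Lpr_gt (f156500 IH) (Lpn (LP (LK LD1_c0 LD2_c30 LD3_c52))))))))))))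
theorem f156515 : Led Lsl_bf (LP (LK LD1_c0 LD2_c19 LD3_c21)) = (LP (LK LD1_c0 LD2_c30 LD3_c52)) :=
  Lgr Lrot156 (Lpe (f148366 IH) (Lpe (f26222 IH) (Lpr_ct (f26223 IH) (Lpr_gt (K3.f108880 IH) (Lpr_cf (K3.f107299 IH) (Lpr_bt (K5.f95302 IH) (Lpr_gt (K4.f95579 IH) (Lpr_ct (K3.f24325 IH) (Lpr_gt (f156500 IH) (Lpr_cf (f156510 IH) (Lpn (LP (LK LD1_c0 LD2_c30 LD3_c52)))))))))))))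
theorem f144105 : Led Lsl_dt (LP (LK LD1_c1 LD2_c7 LD3_c16)) = (LP (LK LD1_c0 LD2_c30 LD3_c52)) :=
  Lre_d IH (LK LD1_c1 LD2_c7 LD3_c16) (LK LD1_c0 LD2_c30 LD3_c52) Lrfl Lrfl
theorem f156517 : Led Lsl_bt (LP (LK LD1_c0 LD2_c43 LD3_c21)) = (LP (LK LD1_c1 LD2_c7 LD3_c16)) :=
  Lgr Lrot95 (Lpe (f148359 IH) (Lpr_bf (f156515 IH) (Lpe (f144105 IH) (Lpn (LP (LK LD1_c1 LD2_c7 LD3_c16))))))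
theorem f156520 : Led Lsl_bf (LP (LK LD1_c0 LD2_c43 LD3_c21)) = (LP (LK LD1_c1 LD2_c7 LD3_c16)) :=
  Lgr Lrot24 (Lpr_bt (f156517 IH) (Lpn (LP (LK LD1_c1 LD2_c7 LD3_c16))))
theorem f4829 : Led Lsl_dt (LP (LK LD1_c0 LD2_c22 LD3_c48)) = (LP (LK LD1_c0 LD2_c10 LD3_c17)) :=
  Lre_d IH (LK LD1_c0 LD2_c22 LD3_c48) (LK LD1_c0 LD2_c10 LD3_c17) Lrfl Lrfl
theorem f148289 : Led Lsl_gt (LP (LK LD1_c0 LD2_c51 LD3_c6)) = (LP (LK LD1_c0 LD2_c43 LD3_c21)) :=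
  Lgr Lrot49 (Lpr_df (K4.f116067 IH) (Lpe (K3.f21026 IH) (Lpe (K2.f21014 IH) (Lpr_gt (K0.f17645 IH) (Lpr_dt (f131664 IH) (Lpr_gt (f148282 IH) (Lpr_dt (f4829 IH) (Lpe (f23670 IH) (Lpe (f148288 IH) (Lpn (LP (LK LD1_c0 LD2_c43 LD3_c21))))))))))))
theorem f152600 : Led Lsl_gf (LP (LK LD1_c1 LD2_c32 LD3_c41)) = (LP (LK LD1_c2 LD2_c19 LD3_c48)) :=
  Lgr Lrot144 (Lpr_dt (f124823 IH) (Lpr_gt (f152525 IH) (Lpr_dt (f26266 IH) (Lpe (K5.f26256 IH) (Lpe (f61660 IH) (Lpe (K3.f61637 IH) (Lpr_df (K5.f128403 IH) (Lpe (K5.f82331 IH) (Lpe (K2.f23576 IH) (Lpn (LP (LK LD1_c2 LD2_c19 LD3_c48))))))))))))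
theorem f156509 : Led Lsl_ct (LP (LK LD1_c1 LD2_c7 LD3_c16)) = (LP (LK LD1_c2 LD2_c19 LD3_c61)) :=
  Lre_c IH (LK LD1_c1 LD2_c7 LD3_c16) (LK LD1_c2 LD2_c19 LD3_c61) Lrfl Lrfl
theorem f156547 : Led Lsl_gf (LP (LK LD1_c1 LD2_c34 LD3_c3)) = (LP (LK LD1_c2 LD2_c19 LD3_c61)) :=
  Lgr Lrot126 (Lpr_cf (K4.f62892 IH) (Lpr_bt (K4.f62904 IH) (Lpr_gt (f149844 IH) (Lpr_ct (K2.f23580 IH) (Lpe (f152600 IH) (Lpr_cf (f124193 IH) (Lpe (f116063 IH) (Lpr_gt (f148289 IH) (Lpr_bf (f156520 IH) (Lpr_ct (f156509 IH) (Lpn (LP (LK LD1_c2 LD2_c19 LD3_c61)))))))))))))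
theorem f156553 : Led Lsl_df (LP (LK LD1_c1 LD2_c50 LD3_c1)) = (LP (LK LD1_c2 LD2_c19 LD3_c61)) :=
  Lgr Lrot155 (Lpr_gt (K3.f58782 IH) (Lpr_ct (K3.f58786 IH) (Lpr_gt (K2.f5730 IH) (Lpe (K3.f95584 IH) (Lpr_dt (K3.f91961 IH) (Lpe (K2.f91963 IH) (Lpe (K5.f126494 IH) (Lpe (K4.f62899 IH) (Lpr_gf (f156547 IH) (Lpn (LP (LK LD1_c2 LD2_c19 LD3_c61))))))))))))
theorem f156579 : Led Lsl_ft (LP (LK LD1_c1 LD2_c33 LD3_c58)) = (LP (LK LD1_c2 LD2_c19 LD3_c61)) :=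
  Lgr Lrot54 (Lpe (f24306 IH) (Lpr_ff (f58783 IH) (Lpr_df (f156553 IH) (Lpn (LP (LK LD1_c2 LD2_c19 LD3_c61))))))
theorem f24133 : Led Lsl_bt (LP (LK LD1_c3 LD2_c14 LD3_c49)) = (LP (LK LD1_c1 LD2_c33 LD3_c58)) :=
  Lre_b IH (LK LD1_c3 LD2_c14 LD3_c49) (LK LD1_c1 LD2_c33 LD3_c58) Lrfl Lrfl
theorem f25305 : Led Lsl_bt (LP (LK LD1_c2 LD2_c19 LD3_c61)) = (LP (LK LD1_c4 LD2_c44 LD3_c5)) :=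
  Lre_b IH (LK LD1_c2 LD2_c19 LD3_c61) (LK LD1_c4 LD2_c44 LD3_c5) Lrfl Lrfl
theorem f156597 : Led Lsl_ff (LP (LK LD1_c3 LD2_c14 LD3_c49)) = (LP (LK LD1_c4 LD2_c44 LD3_c5)) :=
  Lgr Lrot25 (Lpr_bt (f24133 IH) (Lpr_ft (f156579 IH) (Lpr_bt (f25305 IH) (Lpn (LP (LK LD1_c4 LD2_c44 LD3_c5))))))
theorem f24131 : Led Lsl_bt (LP (LK LD1_c2 LD2_c51 LD3_c48)) = (LP (LK LD1_c5 LD2_c51 LD3_c3)) :=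
  Lre_b IH (LK LD1_c2 LD2_c51 LD3_c48) (LK LD1_c5 LD2_c51 LD3_c3) Lrfl Lrfl
theorem f24132 : Led Lsl_at (LP (LK LD1_c1 LD2_c33 LD3_c58)) = (LP (LK LD1_c0 LD2_c43 LD3_c38)) :=
  Lre_a IH (LK LD1_c1 LD2_c33 LD3_c58) (LK LD1_c0 LD2_c43 LD3_c38) Lrfl Lrfl
theorem f24134 : Led Lsl_at (LP (LK LD1_c5 LD2_c51 LD3_c3)) = (LP (LK LD1_c3 LD2_c14 LD3_c49)) :=
  Lgr Lrot67 (Lpe (f24131 IH) (Lpe (f8377 IH) (Lpr_bf (K4.f24053 IH) (Lpe (f24132 IH) (Lpe (f24133 IH) (Lpn (LP (LK LD1_c3 LD2_c14 LD3_c49))))))))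
theorem f24193 : Led Lsl_af (LP (LK LD1_c5 LD2_c51 LD3_c3)) = (LP (LK LD1_c3 LD2_c14 LD3_c49)) :=
  Lgr Lrot0 (Lpr_at (f24134 IH) (Lpn (LP (LK LD1_c3 LD2_c14 LD3_c49))))
theorem f156514 : Led Lsl_gt (LP (LK LD1_c4 LD2_c44 LD3_c5)) = (LP (LK LD1_c9 LD2_c21 LD3_c1)) :=
  Lre_g IH (LK LD1_c4 LD2_c44 LD3_c5) (LK LD1_c9 LD2_c21 LD3_c1) Lrfl Lrfl
theorem f156603 : Led Lsl_gf (LP (LK LD1_c5 LD2_c51 LD3_c3)) = (LP (LK LD1_c9 LD2_c21 LD3_c1)) :=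
  Lgr Lrot76 (Lpr_af (f24193 IH) (Lpr_ff (f156597 IH) (Lpr_gt (f156514 IH) (Lpn (LP (LK LD1_c9 LD2_c21 LD3_c1))))))
theorem f122287 : Led Lsl_gt (LP (LK LD1_c3 LD2_c50 LD3_c0)) = (LP (LK LD1_c7 LD2_c31 LD3_c13)) :=
  Lgr Lrot46 (Lpe (K4.f117148 IH) (Lpr_ft (K6.f122281 IH) (Lpr_at (K4.f95603 IH) (Lpn (LP (LK LD1_c7 LD2_c31 LD3_c13))))))
theorem f105212 : Led Lsl_ct (LP (LK LD1_c7 LD2_c31 LD3_c13)) = (LP (LK LD1_c3 LD2_c45 LD3_c31)) :=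
  Lre_c IH (LK LD1_c7 LD2_c31 LD3_c13) (LK LD1_c3 LD2_c45 LD3_c31) Lrfl Lrfl
theorem f96001 : Led Lsl_gt (LP (LK LD1_c6 LD2_c10 LD3_c40)) = (LP (LK LD1_c3 LD2_c1 LD3_c59)) :=
  Lre_g IH (LK LD1_c6 LD2_c10 LD3_c40) (LK LD1_c3 LD2_c1 LD3_c59) Lrfl Lrfl
theorem f105239 : Led Lsl_gt (LP (LK LD1_c3 LD2_c45 LD3_c31)) = (LP (LK LD1_c6 LD2_c10 LD3_c40)) :=
  Lgr Lrot5 (Lpr_ft (K3.f105227 IH) (Lpr_at (K3.f96012 IH) (Lpe (f96001 IH) (Lpn (LP (LK LD1_c6 LD2_c10 LD3_c40))))))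
theorem f105242 : Led Lsl_ct (LP (LK LD1_c12 LD2_c1 LD3_c55)) = (LP (LK LD1_c6 LD2_c10 LD3_c40)) :=
  Lre_c IH (LK LD1_c12 LD2_c1 LD3_c55) (LK LD1_c6 LD2_c10 LD3_c40) Lrfl Lrfl
theorem f156605 : Led Lsl_bt (LP (LK LD1_c12 LD2_c1 LD3_c55)) = (LP (LK LD1_c9 LD2_c21 LD3_c1)) :=
  Lgr Lrot22 (Lpr_ct (f105242 IH) (Lpe (f105239 IH) (Lpe (f105212 IH) (Lpe (f122287 IH) (Lpe (K4.f117162 IH) (Lpr_ct (f100332 IH) (Lpr_gf (f151569 IH) (Lpe (f8376 IH) (Lpr_bt (f24131 IH) (Lpr_gf (f156603 IH) (Lpn (LP (LK LD1_c9 LD2_c21 LD3_c1)))))))))))))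
theorem f156608 : Led Lsl_bf (LP (LK LD1_c12 LD2_c1 LD3_c55)) = (LP (LK LD1_c9 LD2_c21 LD3_c1)) :=
  Lgr Lrot24 (Lpr_bt (f156605 IH) (Lpn (LP (LK LD1_c9 LD2_c21 LD3_c1))))
theorem f114436 : Led Lsl_bt (LP (LK LD1_c3 LD2_c47 LD3_c23)) = (LP (LK LD1_c7 LD2_c35 LD3_c36)) :=
  Lre_b IH (LK LD1_c3 LD2_c47 LD3_c23) (LK LD1_c7 LD2_c35 LD3_c36) Lrfl Lrfl
theorem f145258 : Led Lsl_gf (LP (LK LD1_c7 LD2_c51 LD3_c35)) = (LP (LK LD1_c7 LD2_c35 LD3_c37)) :=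
  Lgr Lrot126 (Lpr_cf (K5.f123450 IH) (Lpr_bt (K6.f129562 IH) (Lpr_gt (K6.f145249 IH) (Lpr_ct (K6.f145137 IH) (Lpe (K6.f64439 IH) (Lpe (K6.f16763 IH) (Lpr_bt (K6.f64441 IH) (Lpe (K6.f145031 IH) (Lpe (f114436 IH) (Lpr_ct (K6.f114454 IH) (Lpn (LP (LK LD1_c7 LD2_c35 LD3_c37)))))))))))))
theorem f117134 : Led Lsl_dt (LP (LK LD1_c1 LD2_c51 LD3_c59)) = (LP (LK LD1_c3 LD2_c50 LD3_c0)) :=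
  Lre_d IH (LK LD1_c1 LD2_c51 LD3_c59) (LK LD1_c3 LD2_c50 LD3_c0) Lrfl Lrfl
theorem f105241 : Led Lsl_ct (LP (LK LD1_c6 LD2_c10 LD3_c40)) = (LP (LK LD1_c12 LD2_c1 LD3_c55)) :=
  Lre_c IH (LK LD1_c6 LD2_c10 LD3_c40) (LK LD1_c12 LD2_c1 LD3_c55) Lrfl Lrfl
theorem f145262 : Led Lsl_df (LP (LK LD1_c7 LD2_c20 LD3_c61)) = (LP (LK LD1_c12 LD2_c1 LD3_c55)) :=
  Lgr Lrot162 (Lpe (K5.f122734 IH) (Lpr_gf (f145258 IH) (Lpe (K6.f114454 IH) (Lpr_gf (K6.f136767 IH) (Lpr_dt (f117134 IH) (Lpr_gt (f122287 IH) (Lpr_ct (f105212 IH) (Lpr_gt (f105239 IH) (Lpr_ct (f105241 IH) (Lpn (LP (LK LD1_c12 LD2_c1 LD3_c55))))))))))))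
theorem f156611 : Led Lsl_dt (LP (LK LD1_c7 LD2_c30 LD3_c12)) = (LP (LK LD1_c9 LD2_c21 LD3_c1)) :=
  Lgr Lrot79 (Lpe (K6.f129562 IH) (Lpr_df (f145262 IH) (Lpr_bf (f156608 IH) (Lpn (LP (LK LD1_c9 LD2_c21 LD3_c1))))))
theorem f156613 : Led Lsl_df (LP (LK LD1_c7 LD2_c30 LD3_c12)) = (LP (LK LD1_c9 LD2_c21 LD3_c1)) :=
  Lgr Lrot38 (Lpr_dt (f156611 IH) (Lpn (LP (LK LD1_c9 LD2_c21 LD3_c1))))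
theorem f14772 : Led Lsl_dt (LP (LK LD1_c7 LD2_c30 LD3_c13)) = (LP (LK LD1_c3 LD2_c44 LD3_c34)) :=
  Lre_d IH (LK LD1_c7 LD2_c30 LD3_c13) (LK LD1_c3 LD2_c44 LD3_c34) Lrfl Lrfl
theorem f25288 : Led Lsl_bt (LP (LK LD1_c4 LD2_c44 LD3_c5)) = (LP (LK LD1_c2 LD2_c19 LD3_c61)) :=
  Lre_b IH (LK LD1_c4 LD2_c44 LD3_c5) (LK LD1_c2 LD2_c19 LD3_c61) Lrfl Lrfl
theorem f156575 : Led Lsl_dt (LP (LK LD1_c3 LD2_c45 LD3_c52)) = (LP (LK LD1_c4 LD2_c44 LD3_c5)) :=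
  Lgr Lrot79 (Lpe (K4.f58804 IH) (Lpr_df (f156553 IH) (Lpe (f25288 IH) (Lpn (LP (LK LD1_c4 LD2_c44 LD3_c5))))))
theorem f58836 : Led Lsl_at (LP (LK LD1_c7 LD2_c32 LD3_c27)) = (LP (LK LD1_c3 LD2_c45 LD3_c52)) :=
  Lre_a IH (LK LD1_c7 LD2_c32 LD3_c27) (LK LD1_c3 LD2_c45 LD3_c52) Lrfl Lrfl
theorem f151498 : Led Lsl_ft (LP (LK LD1_c6 LD2_c53 LD3_c14)) = (LP (LK LD1_c7 LD2_c32 LD3_c27)) :=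
  Lgr Lrot101 (Lpr_af (f151487 IH) (Lpr_ff (f58805 IH) (Lpe (f58836 IH) (Lpn (LP (LK LD1_c7 LD2_c32 LD3_c27))))))
theorem f18665 : Led Lsl_gt (LP (LK LD1_c6 LD2_c58 LD3_c42)) = (LP (LK LD1_c3 LD2_c28 LD3_c15)) :=
  Lre_g IH (LK LD1_c6 LD2_c58 LD3_c42) (LK LD1_c3 LD2_c28 LD3_c15) Lrfl Lrfl
theorem f94620 : Led Lsl_cf (LP (LK LD1_c0 LD2_c46 LD3_c9)) = (LP (LK LD1_c0 LD2_c47 LD3_c23)) :=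
  Lgr Lrot166 (Lpr_gt (K2.f94615 IH) (Lpr_dt (K3.f84708 IH) (Lpr_gt (K3.f84694 IH) (Lpr_dt (K2.f84930 IH) (Lpr_ct (K2.f11543 IH) (Lpe (K1.f63503 IH) (Lpe (K1.f64255 IH) (Lpe (K1.f63494 IH) (Lpe (K3.f11312 IH) (Lpn (LP (LK LD1_c0 LD2_c47 LD3_c23))))))))))))
theorem f92348 : Led Lsl_bt (LP (LK LD1_c0 LD2_c51 LD3_c51)) = (LP (LK LD1_c1 LD2_c49 LD3_c57)) :=
  Lre_b IH (LK LD1_c0 LD2_c51 LD3_c51) (LK LD1_c1 LD2_c49 LD3_c57) Lrfl Lrfl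
theorem f92357 : Led Lsl_gt (LP (LK LD1_c1 LD2_c49 LD3_c57)) = (LP (LK LD1_c3 LD2_c45 LD3_c38)) :=
  Lre_g IH (LK LD1_c1 LD2_c49 LD3_c57) (LK LD1_c3 LD2_c45 LD3_c38) Lrfl Lrfl
theorem f92478 : Led Lsl_bt (LP (LK LD1_c7 LD2_c31 LD3_c54)) = (LP (LK LD1_c3 LD2_c45 LD3_c38)) :=
  Lre_b IH (LK LD1_c7 LD2_c31 LD3_c54) (LK LD1_c3 LD2_c45 LD3_c38) Lrfl Lrfl
theorem f94627 : Led Lsl_cf (LP (LK LD1_c6 LD2_c58 LD3_c42)) = (LP (LK LD1_c7 LD2_c31 LD3_c54)) :=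
  Lgr Lrot160 (Lpr_gt (f18665 IH) (Lpr_cf (K4.f18621 IH) (Lpr_bt (K4.f18875 IH) (Lpr_gt (K4.f18887 IH) (Lpe (f94620 IH) (Lpr_gt (K2.f94615 IH) (Lpe (K3.f92352 IH) (Lpr_bt (f92348 IH) (Lpr_gt (f92357 IH) (Lpe (f92478 IH) (Lpn (LP (LK LD1_c7 LD2_c31 LD3_c54)))))))))))))
theorem f115896 : Led Lsl_gt (LP (LK LD1_c6 LD2_c53 LD3_c14)) = (LP (LK LD1_c7 LD2_c31 LD3_c54)) :=
  Lgr Lrot82 (Lpe (f115874 IH) (Lpr_ct (K4.f115867 IH) (Lpe (K4.f20204 IH) (Lpr_cf (K4.f115890 IH) (Lpr_bt (K4.f19047 IH) (Lpe (K4.f18887 IH) (Lpe (K4.f18875 IH) (Lpe (K4.f18621 IH) (Lpe (f18665 IH) (Lpr_cf (f94627 IH) (Lpn (LP (LK LD1_c7 LD2_c31 LD3_c54)))))))))))))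
theorem f151504 : Led Lsl_gt (LP (LK LD1_c7 LD2_c31 LD3_c54)) = (LP (LK LD1_c3 LD2_c45 LD3_c52)) :=
  Lgr Lrot46 (Lpe (f115896 IH) (Lpr_ft (f151498 IH) (Lpr_at (f58836 IH) (Lpn (LP (LK LD1_c3 LD2_c45 LD3_c52))))))
theorem f94639 : Led Lsl_ct (LP (LK LD1_c6 LD2_c58 LD3_c42)) = (LP (LK LD1_c7 LD2_c31 LD3_c54)) :=
  Lgr Lrot59 (Lpr_cf (f94627 IH) (Lpn (LP (LK LD1_c7 LD2_c31 LD3_c54))))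
theorem f63111 : Led Lsl_bt (LP (LK LD1_c3 LD2_c50 LD3_c13)) = (LP (LK LD1_c1 LD2_c52 LD3_c2)) :=
  Lre_b IH (LK LD1_c3 LD2_c50 LD3_c13) (LK LD1_c1 LD2_c52 LD3_c2) Lrfl Lrfl
theorem f63112 : Led Lsl_dt (LP (LK LD1_c3 LD2_c28 LD3_c15)) = (LP (LK LD1_c3 LD2_c50 LD3_c13)) :=
  Lgr Lrot79 (Lpe (K2.f18612 IH) (Lpr_df (K1.f62676 IH) (Lpe (f63111 IH) (Lpn (LP (LK LD1_c3 LD2_c50 LD3_c13))))))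
theorem f156620 : Led Lsl_gf (LP (LK LD1_c7 LD2_c30 LD3_c13)) = (LP (LK LD1_c3 LD2_c50 LD3_c13)) :=
  Lgr Lrot143 (Lpr_dt (f14772 IH) (Lpe (K6.f14743 IH) (Lpr_df (f156613 IH) (Lpe (f156514 IH) (Lpe (f156575 IH) (Lpe (f151504 IH) (Lpe (f94639 IH) (Lpr_gt (f18665 IH) (Lpr_dt (f63112 IH) (Lpn (LP (LK LD1_c3 LD2_c50 LD3_c13))))))))))))
theorem f63228 : Led Lsl_bt (LP (LK LD1_c6 LD2_c59 LD3_c58)) = (LP (LK LD1_c13 LD2_c16 LD3_c38)) :=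
  Lre_b IH (LK LD1_c6 LD2_c59 LD3_c58) (LK LD1_c13 LD2_c16 LD3_c38) Lrfl Lrfl
theorem f63229 : Led Lsl_bt (LP (LK LD1_c14 LD2_c29 LD3_c55)) = (LP (LK LD1_c7 LD2_c41 LD3_c33)) :=
  Lre_b IH (LK LD1_c14 LD2_c29 LD3_c55) (LK LD1_c7 LD2_c41 LD3_c33) Lrfl Lrfl
theorem f63230 : Led Lsl_et (LP (LK LD1_c13 LD2_c16 LD3_c38)) = (LP (LK LD1_c14 LD2_c29 LD3_c55)) :=
  Lgr Lrot74 (Lpe (f63228 IH) (Lpr_ef (K2.f63219 IH) (Lpe (f63229 IH) (Lpn (LP (LK LD1_c14 LD2_c29 LD3_c55))))))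
theorem f63596 : Led Lsl_ft (LP (LK LD1_c6 LD2_c59 LD3_c50)) = (LP (LK LD1_c13 LD2_c16 LD3_c38)) :=
  Lre_f IH (LK LD1_c6 LD2_c59 LD3_c50) (LK LD1_c13 LD2_c16 LD3_c38) Lrfl Lrfl
theorem f63597 : Led Lsl_et (LP (LK LD1_c3 LD2_c29 LD3_c3)) = (LP (LK LD1_c6 LD2_c59 LD3_c50)) :=
  Lre_e IH (LK LD1_c3 LD2_c29 LD3_c3) (LK LD1_c6 LD2_c59 LD3_c50) Lrfl Lrfl
theorem f63470 : Led Lsl_ft (LP (LK LD1_c14 LD2_c29 LD3_c55)) = (LP (LK LD1_c7 LD2_c41 LD3_c29)) :=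
  Lre_f IH (LK LD1_c14 LD2_c29 LD3_c55) (LK LD1_c7 LD2_c41 LD3_c29) Lrfl Lrfl
theorem f63424 : Led Lsl_et (LP (LK LD1_c7 LD2_c41 LD3_c29)) = (LP (LK LD1_c3 LD2_c50 LD3_c13)) :=
  Lre_e IH (LK LD1_c7 LD2_c41 LD3_c29) (LK LD1_c3 LD2_c50 LD3_c13) Lrfl Lrfl
theorem f63598 : Led Lsl_ff (LP (LK LD1_c3 LD2_c29 LD3_c3)) = (LP (LK LD1_c3 LD2_c50 LD3_c13)) :=
  Lgr Lrot72 (Lpr_et (f63597 IH) (Lpr_ft (f63596 IH) (Lpr_et (f63230 IH) (Lpr_ft (f63470 IH) (Lpr_et (f63424 IH) (Lpn (LP (LK LD1_c3 LD2_c50 LD3_c13))))))))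
theorem f19129 : Led Lsl_bt (LP (LK LD1_c6 LD2_c51 LD3_c32)) = (LP (LK LD1_c3 LD2_c24 LD3_c28)) :=
  Lre_b IH (LK LD1_c6 LD2_c51 LD3_c32) (LK LD1_c3 LD2_c24 LD3_c28) Lrfl Lrfl
theorem f90938 : Led Lsl_bt (LP (LK LD1_c3 LD2_c27 LD3_c5)) = (LP (LK LD1_c6 LD2_c56 LD3_c5)) :=
  Lre_b IH (LK LD1_c3 LD2_c27 LD3_c5) (LK LD1_c6 LD2_c56 LD3_c5) Lrfl Lrfl
theorem f90954 : Led Lsl_ff (LP (LK LD1_c6 LD2_c51 LD3_c32)) = (LP (LK LD1_c6 LD2_c56 LD3_c5)) :=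
  Lgr Lrot25 (Lpr_bt (f19129 IH) (Lpr_ft (K3.f90952 IH) (Lpr_bt (f90938 IH) (Lpn (LP (LK LD1_c6 LD2_c56 LD3_c5))))))
theorem f19126 : Led Lsl_bt (LP (LK LD1_c3 LD2_c24 LD3_c28)) = (LP (LK LD1_c6 LD2_c51 LD3_c32)) :=
  Lre_b IH (LK LD1_c3 LD2_c24 LD3_c28) (LK LD1_c6 LD2_c51 LD3_c32) Lrfl Lrfl
theorem f63406 : Led Lsl_at (LP (LK LD1_c6 LD2_c51 LD3_c32)) = (LP (LK LD1_c3 LD2_c50 LD3_c13)) :=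
  Lgr Lrot67 (Lpe (f19126 IH) (Lpe (K1.f18236 IH) (Lpe (K4.f18250 IH) (Lpr_af (K3.f63395 IH) (Lpe (f63111 IH) (Lpn (LP (LK LD1_c3 LD2_c50 LD3_c13))))))))
theorem f90956 : Led Lsl_at (LP (LK LD1_c3 LD2_c29 LD3_c3)) = (LP (LK LD1_c6 LD2_c56 LD3_c5)) :=
  Lgr Lrot66 (Lpr_ff (f63598 IH) (Lpe (f63406 IH) (Lpr_ff (f90954 IH) (Lpn (LP (LK LD1_c6 LD2_c56 LD3_c5))))))
theorem f156622 : Led Lsl_gt (LP (LK LD1_c7 LD2_c30 LD3_c13)) = (LP (LK LD1_c6 LD2_c56 LD3_c5)) :=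
  Lgr Lrot46 (Lpr_gf (f156620 IH) (Lpe (f63598 IH) (Lpr_at (f90956 IH) (Lpn (LP (LK LD1_c6 LD2_c56 LD3_c5))))))
theorem f14734 : Led Lsl_dt (LP (LK LD1_c3 LD2_c44 LD3_c34)) = (LP (LK LD1_c7 LD2_c30 LD3_c13)) :=
  Lre_d IH (LK LD1_c3 LD2_c44 LD3_c34) (LK LD1_c7 LD2_c30 LD3_c13) Lrfl Lrfl
theorem f14718 : Led Lsl_et (LP (LK LD1_c3 LD2_c44 LD3_c36)) = (LP (LK LD1_c1 LD2_c49 LD3_c20)) :=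
  Lre_e IH (LK LD1_c3 LD2_c44 LD3_c36) (LK LD1_c1 LD2_c49 LD3_c20) Lrfl Lrfl
theorem f15946 : Led Lsl_dt (LP (LK LD1_c3 LD2_c44 LD3_c36)) = (LP (LK LD1_c7 LD2_c30 LD3_c20)) :=
  Lre_d IH (LK LD1_c3 LD2_c44 LD3_c36) (LK LD1_c7 LD2_c30 LD3_c20) Lrfl Lrfl
theorem f15972 : Led Lsl_gt (LP (LK LD1_c14 LD2_c10 LD3_c27)) = (LP (LK LD1_c7 LD2_c30 LD3_c20)) :=
  Lre_g IH (LK LD1_c14 LD2_c10 LD3_c27) (LK LD1_c7 LD2_c30 LD3_c20) Lrfl Lrfl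
theorem f15860 : Led Lsl_dt (LP (LK LD1_c6 LD2_c51 LD3_c32)) = (LP (LK LD1_c3 LD2_c24 LD3_c27)) :=
  Lre_d IH (LK LD1_c6 LD2_c51 LD3_c32) (LK LD1_c3 LD2_c24 LD3_c27) Lrfl Lrfl
theorem f90961 : Led Lsl_dt (LP (LK LD1_c3 LD2_c29 LD3_c2)) = (LP (LK LD1_c6 LD2_c56 LD3_c5)) :=
  Lgr Lrot60 (Lpr_ff (K2.f18626 IH) (Lpe (f15860 IH) (Lpr_ff (f90954 IH) (Lpn (LP (LK LD1_c6 LD2_c56 LD3_c5))))))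
theorem f18722 : Led Lsl_gt (LP (LK LD1_c6 LD2_c59 LD3_c48)) = (LP (LK LD1_c13 LD2_c16 LD3_c31)) :=
  Lre_g IH (LK LD1_c6 LD2_c59 LD3_c48) (LK LD1_c13 LD2_c16 LD3_c31) Lrfl Lrfl
theorem f19024 : Led Lsl_et (LP (LK LD1_c22 LD2_c32 LD3_c6)) = (LP (LK LD1_c13 LD2_c16 LD3_c31)) :=
  Lre_e IH (LK LD1_c22 LD2_c32 LD3_c6) (LK LD1_c13 LD2_c16 LD3_c31) Lrfl Lrfl
theorem f156627 : Led Lsl_df (LP (LK LD1_c14 LD2_c10 LD3_c27)) = (LP (LK LD1_c22 LD2_c32 LD3_c6)) :=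
  Lgr Lrot170 (Lpr_gt (f15972 IH) (Lpe (f15946 IH) (Lpr_et (f14718 IH) (Lpr_gt (K6.f14733 IH) (Lpr_dt (f14734 IH) (Lpr_gt (f156622 IH) (Lpe (f90961 IH) (Lpr_et (K2.f18641 IH) (Lpr_gt (f18722 IH) (Lpe (f19024 IH) (Lpn (LP (LK LD1_c22 LD2_c32 LD3_c6)))))))))))))
theorem f15437 : Led Lsl_at (LP (LK LD1_c3 LD2_c44 LD3_c38)) = (LP (LK LD1_c1 LD2_c52 LD3_c54)) :=
  Lre_a IH (LK LD1_c3 LD2_c44 LD3_c38) (LK LD1_c1 LD2_c52 LD3_c54) Lrfl Lrfl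
theorem f15438 : Led Lsl_bt (LP (LK LD1_c7 LD2_c30 LD3_c20)) = (LP (LK LD1_c3 LD2_c44 LD3_c38)) :=
  Lre_b IH (LK LD1_c7 LD2_c30 LD3_c20) (LK LD1_c3 LD2_c44 LD3_c38) Lrfl Lrfl
theorem f15439 : Led Lsl_at (LP (LK LD1_c1 LD2_c40 LD3_c20)) = (LP (LK LD1_c3 LD2_c26 LD3_c15)) :=
  Lre_a IH (LK LD1_c1 LD2_c40 LD3_c20) (LK LD1_c3 LD2_c26 LD3_c15) Lrfl Lrfl
theorem f15440 : Led Lsl_bt (LP (LK LD1_c3 LD2_c26 LD3_c15)) = (LP (LK LD1_c6 LD2_c54 LD3_c22)) :=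
  Lre_b IH (LK LD1_c3 LD2_c26 LD3_c15) (LK LD1_c6 LD2_c54 LD3_c22) Lrfl Lrfl
theorem f15441 : Led Lsl_af (LP (LK LD1_c7 LD2_c30 LD3_c20)) = (LP (LK LD1_c6 LD2_c54 LD3_c22)) :=
  Lgr Lrot36 (Lpr_bt (f15438 IH) (Lpr_at (f15437 IH) (Lpr_bt (K0.f15429 IH) (Lpr_at (f15439 IH) (Lpr_bt (f15440 IH) (Lpn (LP (LK LD1_c6 LD2_c54 LD3_c22))))))))
theorem f15955 : Led Lsl_ft (LP (LK LD1_c13 LD2_c7 LD3_c24)) = (LP (LK LD1_c6 LD2_c54 LD3_c22)) :=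
  Lre_f IH (LK LD1_c13 LD2_c7 LD3_c24) (LK LD1_c6 LD2_c54 LD3_c22) Lrfl Lrfl
theorem f17042 : Led Lsl_gf (LP (LK LD1_c14 LD2_c10 LD3_c27)) = (LP (LK LD1_c13 LD2_c7 LD3_c24)) :=
  Lgr Lrot47 (Lpr_gt (f15972 IH) (Lpr_af (f15441 IH) (Lpe (f15955 IH) (Lpn (LP (LK LD1_c13 LD2_c7 LD3_c24))))))
theorem f15940 : Led Lsl_dt (LP (LK LD1_c6 LD2_c54 LD3_c23)) = (LP (LK LD1_c13 LD2_c7 LD3_c24)) :=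
  Lre_d IH (LK LD1_c6 LD2_c54 LD3_c23) (LK LD1_c13 LD2_c7 LD3_c24) Lrfl Lrfl
theorem f14814 : Led Lsl_bt (LP (LK LD1_c7 LD2_c36 LD3_c9)) = (LP (LK LD1_c3 LD2_c50 LD3_c57)) :=
  Lre_b IH (LK LD1_c7 LD2_c36 LD3_c9) (LK LD1_c3 LD2_c50 LD3_c57) Lrfl Lrfl
theorem f15306 : Led Lsl_bt (LP (LK LD1_c3 LD2_c26 LD3_c16)) = (LP (LK LD1_c6 LD2_c54 LD3_c23)) :=
  Lre_b IH (LK LD1_c3 LD2_c26 LD3_c16) (LK LD1_c6 LD2_c54 LD3_c23) Lrfl Lrfl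
theorem f15307 : Led Lsl_ef (LP (LK LD1_c7 LD2_c36 LD3_c9)) = (LP (LK LD1_c6 LD2_c54 LD3_c23)) :=
  Lgr Lrot29 (Lpr_bt (f14814 IH) (Lpr_et (K0.f15293 IH) (Lpr_bt (f15306 IH) (Lpn (LP (LK LD1_c6 LD2_c54 LD3_c23))))))
theorem f14830 : Led Lsl_gt (LP (LK LD1_c3 LD2_c47 LD3_c43)) = (LP (LK LD1_c7 LD2_c36 LD3_c9)) :=
  Lre_g IH (LK LD1_c3 LD2_c47 LD3_c43) (LK LD1_c7 LD2_c36 LD3_c9) Lrfl Lrfl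
theorem f17055 : Led Lsl_et (LP (LK LD1_c7 LD2_c36 LD3_c27)) = (LP (LK LD1_c3 LD2_c47 LD3_c43)) :=
  Lre_e IH (LK LD1_c7 LD2_c36 LD3_c27) (LK LD1_c3 LD2_c47 LD3_c43) Lrfl Lrfl
theorem f17056 : Led Lsl_dt (LP (LK LD1_c7 LD2_c36 LD3_c27)) = (LP (LK LD1_c14 LD2_c20 LD3_c31)) :=
  Lre_d IH (LK LD1_c7 LD2_c36 LD3_c27) (LK LD1_c14 LD2_c20 LD3_c31) Lrfl Lrfl
theorem f18970 : Led Lsl_gt (LP (LK LD1_c13 LD2_c16 LD3_c31)) = (LP (LK LD1_c6 LD2_c59 LD3_c54)) :=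
  Lre_g IH (LK LD1_c13 LD2_c16 LD3_c31) (LK LD1_c6 LD2_c59 LD3_c54) Lrfl Lrfl
theorem f18721 : Led Lsl_dt (LP (LK LD1_c6 LD2_c59 LD3_c54)) = (LP (LK LD1_c13 LD2_c16 LD3_c49)) :=
  Lre_d IH (LK LD1_c6 LD2_c59 LD3_c54) (LK LD1_c13 LD2_c16 LD3_c49) Lrfl Lrfl
theorem f156636 : Led Lsl_gf (LP (LK LD1_c14 LD2_c20 LD3_c31)) = (LP (LK LD1_c13 LD2_c16 LD3_c49)) :=
  Lgr Lrot134 (Lpe (f17056 IH) (Lpr_et (f17055 IH) (Lpr_gt (f14830 IH) (Lpr_ef (f15307 IH) (Lpr_dt (f15940 IH) (Lpe (f17042 IH) (Lpr_df (f156627 IH) (Lpr_et (f19024 IH) (Lpr_gt (f18970 IH) (Lpr_dt (f18721 IH) (Lpn (LP (LK LD1_c13 LD2_c16 LD3_c49)))))))))))))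
theorem f18967 : Led Lsl_ft (LP (LK LD1_c13 LD2_c16 LD3_c49)) = (LP (LK LD1_c6 LD2_c59 LD3_c53)) :=
  Lre_f IH (LK LD1_c13 LD2_c16 LD3_c49) (LK LD1_c6 LD2_c59 LD3_c53) Lrfl Lrfl
theorem f18968 : Led Lsl_at (LP (LK LD1_c6 LD2_c59 LD3_c53)) = (LP (LK LD1_c13 LD2_c16 LD3_c33)) :=
  Lre_a IH (LK LD1_c6 LD2_c59 LD3_c53) (LK LD1_c13 LD2_c16 LD3_c33) Lrfl Lrfl
theorem f156638 : Led Lsl_gt (LP (LK LD1_c14 LD2_c20 LD3_c31)) = (LP (LK LD1_c13 LD2_c16 LD3_c33)) :=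
  Lgr Lrot46 (Lpr_gf (f156636 IH) (Lpr_ft (f18967 IH) (Lpr_at (f18968 IH) (Lpn (LP (LK LD1_c13 LD2_c16 LD3_c33))))))
theorem f14960 : Led Lsl_gt (LP (LK LD1_c1 LD2_c50 LD3_c55)) = (LP (LK LD1_c3 LD2_c47 LD3_c43)) :=
  Lre_g IH (LK LD1_c1 LD2_c50 LD3_c55) (LK LD1_c3 LD2_c47 LD3_c43) Lrfl Lrfl
theorem f14956 : Led Lsl_et (LP (LK LD1_c0 LD2_c52 LD3_c19)) = (LP (LK LD1_c1 LD2_c50 LD3_c55)) :=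
  Lre_e IH (LK LD1_c0 LD2_c52 LD3_c19) (LK LD1_c1 LD2_c50 LD3_c55) Lrfl Lrfl
theorem f16108 : Led Lsl_gt (LP (LK LD1_c3 LD2_c47 LD3_c40)) = (LP (LK LD1_c1 LD2_c50 LD3_c54)) :=
  Lre_g IH (LK LD1_c3 LD2_c47 LD3_c40) (LK LD1_c1 LD2_c50 LD3_c54) Lrfl Lrfl
theorem f18669 : Led Lsl_dt (LP (LK LD1_c6 LD2_c59 LD3_c48)) = (LP (LK LD1_c13 LD2_c16 LD3_c33)) :=
  Lre_d IH (LK LD1_c6 LD2_c59 LD3_c48) (LK LD1_c13 LD2_c16 LD3_c33) Lrfl Lrfl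
theorem f18666 : Led Lsl_gt (LP (LK LD1_c3 LD2_c29 LD3_c2)) = (LP (LK LD1_c6 LD2_c58 LD3_c42)) :=
  Lgr Lrot5 (Lpr_ft (K2.f18645 IH) (Lpe (K4.f18619 IH) (Lpe (f18665 IH) (Lpn (LP (LK LD1_c6 LD2_c58 LD3_c42))))))
theorem f156657 : Led Lsl_df (LP (LK LD1_c3 LD2_c47 LD3_c40)) = (LP (LK LD1_c6 LD2_c58 LD3_c42)) :=
  Lgr Lrot135 (Lpr_gt (f16108 IH) (Lpe (K0.f15657 IH) (Lpr_et (f14956 IH) (Lpr_gt (f14960 IH) (Lpe (f17055 IH) (Lpr_dt (f17056 IH) (Lpr_gt (f156638 IH) (Lpe (f18669 IH) (Lpr_et (K2.f18661 IH) (Lpr_gt (f18666 IH) (Lpn (LP (LK LD1_c6 LD2_c58 LD3_c42)))))))))))))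
theorem f156662 : Led Lsl_dt (LP (LK LD1_c3 LD2_c47 LD3_c40)) = (LP (LK LD1_c6 LD2_c58 LD3_c42)) :=
  Lgr Lrot42 (Lpr_df (f156657 IH) (Lpn (LP (LK LD1_c6 LD2_c58 LD3_c42))))
theorem f16104 : Led Lsl_at (LP (LK LD1_c3 LD2_c47 LD3_c37)) = (LP (LK LD1_c1 LD2_c50 LD3_c54)) :=
  Lre_a IH (LK LD1_c3 LD2_c47 LD3_c37) (LK LD1_c1 LD2_c50 LD3_c54) Lrfl Lrfl
theorem f16105 : Led Lsl_ft (LP (LK LD1_c3 LD2_c26 LD3_c12)) = (LP (LK LD1_c3 LD2_c47 LD3_c37)) :=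
  Lgr Lrot142 (Lpr_dt (K0.f16062 IH) (Lpe (K0.f15914 IH) (Lpr_dt (K0.f16059 IH) (Lpr_ct (K0.f16060 IH) (Lpr_dt (K0.f16061 IH) (Lpr_ct (K0.f16095 IH) (Lpr_dt (K0.f16094 IH) (Lpr_ct (K0.f15654 IH) (Lpe (f16104 IH) (Lpn (LP (LK LD1_c3 LD2_c47 LD3_c37))))))))))))
theorem f16116 : Led Lsl_gt (LP (LK LD1_c3 LD2_c26 LD3_c12)) = (LP (LK LD1_c3 LD2_c47 LD3_c40)) :=
  Lgr Lrot5 (Lpr_ft (f16105 IH) (Lpr_at (f16104 IH) (Lpe (f16108 IH) (Lpn (LP (LK LD1_c3 LD2_c47 LD3_c40))))))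
theorem f92194 : Led Lsl_gt (LP (LK LD1_c9 LD2_c28 LD3_c29)) = (LP (LK LD1_c4 LD2_c47 LD3_c43)) :=
  Lre_g IH (LK LD1_c9 LD2_c28 LD3_c29) (LK LD1_c4 LD2_c47 LD3_c43) Lrfl Lrfl
theorem f135843 : Led Lsl_gf (LP (LK LD1_c9 LD2_c28 LD3_c29)) = (LP (LK LD1_c5 LD2_c48 LD3_c6)) :=
  Lgr Lrot47 (Lpr_gt (f92194 IH) (Lpe (K6.f92188 IH) (Lpr_ff (K6.f135836 IH) (Lpn (LP (LK LD1_c5 LD2_c48 LD3_c6))))))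
theorem f156668 : Led Lsl_dt (LP (LK LD1_c9 LD2_c28 LD3_c29)) = (LP (LK LD1_c7 LD2_c31 LD3_c54)) :=
  Lgr Lrot105 (Lpr_gf (f135843 IH) (Lpr_df (K6.f145107 IH) (Lpe (K6.f145097 IH) (Lpe (K6.f16763 IH) (Lpr_gt (K5.f16761 IH) (Lpr_dt (K0.f16059 IH) (Lpr_gt (f16116 IH) (Lpr_dt (f156662 IH) (Lpr_cf (f94627 IH) (Lpn (LP (LK LD1_c7 LD2_c31 LD3_c54))))))))))))
theorem f156675 : Led Lsl_df (LP (LK LD1_c9 LD2_c28 LD3_c29)) = (LP (LK LD1_c7 LD2_c31 LD3_c54)) :=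
  Lgr Lrot38 (Lpr_dt (f156668 IH) (Lpn (LP (LK LD1_c7 LD2_c31 LD3_c54))))
theorem f94638 : Led Lsl_bt (LP (LK LD1_c3 LD2_c45 LD3_c38)) = (LP (LK LD1_c7 LD2_c31 LD3_c54)) :=
  Lre_b IH (LK LD1_c3 LD2_c45 LD3_c38) (LK LD1_c7 LD2_c31 LD3_c54) Lrfl Lrfl
theorem f97483 : Led Lsl_dt (LP (LK LD1_c7 LD2_c31 LD3_c55)) = (LP (LK LD1_c3 LD2_c45 LD3_c38)) :=
  Lre_d IH (LK LD1_c7 LD2_c31 LD3_c55) (LK LD1_c3 LD2_c45 LD3_c38) Lrfl Lrfl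
theorem f156677 : Led Lsl_bt (LP (LK LD1_c9 LD2_c28 LD3_c29)) = (LP (LK LD1_c7 LD2_c31 LD3_c55)) :=
  Lgr Lrot95 (Lpr_df (f156675 IH) (Lpe (f94638 IH) (Lpe (f97483 IH) (Lpn (LP (LK LD1_c7 LD2_c31 LD3_c55))))))
theorem f121136 : Led Lsl_ct (LP (LK LD1_c7 LD2_c29 LD3_c2)) = (LP (LK LD1_c14 LD2_c7 LD3_c39)) :=
  Lre_c IH (LK LD1_c7 LD2_c29 LD3_c2) (LK LD1_c14 LD2_c7 LD3_c39) Lrfl Lrfl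
theorem f121137 : Led Lsl_dt (LP (LK LD1_c7 LD2_c29 LD3_c2)) = (LP (LK LD1_c3 LD2_c54 LD3_c60)) :=
  Lgr Lrot42 (Lpr_df (K6.f121125 IH) (Lpn (LP (LK LD1_c3 LD2_c54 LD3_c60))))
theorem f116504 : Led Lsl_gt (LP (LK LD1_c1 LD2_c47 LD3_c32)) = (LP (LK LD1_c3 LD2_c41 LD3_c10)) :=
  Lre_g IH (LK LD1_c1 LD2_c47 LD3_c32) (LK LD1_c3 LD2_c41 LD3_c10) Lrfl Lrfl
theorem f116505 : Led Lsl_dt (LP (LK LD1_c3 LD2_c41 LD3_c10)) = (LP (LK LD1_c7 LD2_c22 LD3_c40)) :=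
  Lre_d IH (LK LD1_c3 LD2_c41 LD3_c10) (LK LD1_c7 LD2_c22 LD3_c40) Lrfl Lrfl
theorem f130265 : Led Lsl_gf (LP (LK LD1_c7 LD2_c29 LD3_c2)) = (LP (LK LD1_c7 LD2_c22 LD3_c40)) :=
  Lgr Lrot143 (Lpr_dt (f121137 IH) (Lpr_cf (K5.f129370 IH) (Lpr_df (K5.f88228 IH) (Lpr_gf (K6.f130259 IH) (Lpe (K4.f12846 IH) (Lpr_gf (K4.f111339 IH) (Lpe (K4.f116455 IH) (Lpr_gt (f116504 IH) (Lpr_dt (f116505 IH) (Lpn (LP (LK LD1_c7 LD2_c22 LD3_c40))))))))))))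
theorem f123673 : Led Lsl_dt (LP (LK LD1_c7 LD2_c22 LD3_c40)) = (LP (LK LD1_c3 LD2_c41 LD3_c10)) :=
  Lre_d IH (LK LD1_c7 LD2_c22 LD3_c40) (LK LD1_c3 LD2_c41 LD3_c10) Lrfl Lrfl
theorem f123659 : Led Lsl_at (LP (LK LD1_c1 LD2_c49 LD3_c0)) = (LP (LK LD1_c3 LD2_c43 LD3_c56)) :=
  Lre_a IH (LK LD1_c1 LD2_c49 LD3_c0) (LK LD1_c3 LD2_c43 LD3_c56) Lrfl Lrfl
theorem f123670 : Led Lsl_gt (LP (LK LD1_c3 LD2_c41 LD3_c10)) = (LP (LK LD1_c3 LD2_c43 LD3_c56)) :=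
  Lgr Lrot46 (Lpe (f116504 IH) (Lpr_ft (K4.f123654 IH) (Lpr_at (f123659 IH) (Lpn (LP (LK LD1_c3 LD2_c43 LD3_c56))))))
theorem f123718 : Led Lsl_cf (LP (LK LD1_c3 LD2_c45 LD3_c46)) = (LP (LK LD1_c3 LD2_c43 LD3_c56)) :=
  Lgr Lrot14 (Lpr_df (K5.f111372 IH) (Lpe (K4.f91287 IH) (Lpe (K5.f108738 IH) (Lpe (K5.f114422 IH) (Lpe (K5.f121209 IH) (Lpr_gt (K5.f121020 IH) (Lpe (K5.f123715 IH) (Lpr_gt (K5.f123712 IH) (Lpr_dt (K5.f123678 IH) (Lpn (LP (LK LD1_c3 LD2_c43 LD3_c56))))))))))))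
theorem f136750 : Led Lsl_gt (LP (LK LD1_c3 LD2_c45 LD3_c46)) = (LP (LK LD1_c3 LD2_c26 LD3_c3)) :=
  Lgr Lrot150 (Lpr_cf (f123718 IH) (Lpe (f123670 IH) (Lpe (f123673 IH) (Lpe (f130265 IH) (Lpr_ct (f121136 IH) (Lpr_gt (K6.f136746 IH) (Lpr_ct (K6.f136724 IH) (Lpe (f102883 IH) (Lpe (K4.f102446 IH) (Lpn (LP (LK LD1_c3 LD2_c26 LD3_c3))))))))))))
theorem f17901 : Led Lsl_at (LP (LK LD1_c1 LD2_c44 LD3_c55)) = (LP (LK LD1_c3 LD2_c36 LD3_c4)) :=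
  Lre_a IH (LK LD1_c1 LD2_c44 LD3_c55) (LK LD1_c3 LD2_c36 LD3_c4) Lrfl Lrfl
theorem f17902 : Led Lsl_at (LP (LK LD1_c7 LD2_c0 LD3_c18)) = (LP (LK LD1_c3 LD2_c29 LD3_c20)) :=
  Lre_a IH (LK LD1_c7 LD2_c0 LD3_c18) (LK LD1_c3 LD2_c29 LD3_c20) Lrfl Lrfl
theorem f17903 : Led Lsl_ct (LP (LK LD1_c3 LD2_c36 LD3_c4)) = (LP (LK LD1_c7 LD2_c0 LD3_c18)) :=
  Lgr Lrot111 (Lpe (f17901 IH) (Lpr_cf (K4.f17884 IH) (Lpe (f17902 IH) (Lpn (LP (LK LD1_c7 LD2_c0 LD3_c18))))))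
theorem f17912 : Led Lsl_cf (LP (LK LD1_c3 LD2_c36 LD3_c4)) = (LP (LK LD1_c7 LD2_c0 LD3_c18)) :=
  Lgr Lrot11 (Lpr_ct (f17903 IH) (Lpn (LP (LK LD1_c7 LD2_c0 LD3_c18))))
theorem f102893 : Led Lsl_gt (LP (LK LD1_c6 LD2_c53 LD3_c46)) = (LP (LK LD1_c7 LD2_c27 LD3_c36)) :=
  Lgr Lrot5 (Lpr_ft (K5.f102885 IH) (Lpr_at (f12828 IH) (Lpe (K4.f12829 IH) (Lpn (LP (LK LD1_c7 LD2_c27 LD3_c36))))))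
theorem f95504 : Led Lsl_et (LP (LK LD1_c13 LD2_c20 LD3_c5)) = (LP (LK LD1_c7 LD2_c1 LD3_c50)) :=
  Lre_e IH (LK LD1_c13 LD2_c20 LD3_c5) (LK LD1_c7 LD2_c1 LD3_c50) Lrfl Lrfl
theorem f95505 : Led Lsl_et (LP (LK LD1_c3 LD2_c44 LD3_c56)) = (LP (LK LD1_c7 LD2_c30 LD3_c46)) :=
  Lre_e IH (LK LD1_c3 LD2_c44 LD3_c56) (LK LD1_c7 LD2_c30 LD3_c46) Lrfl Lrfl
theorem f95506 : Led Lsl_bt (LP (LK LD1_c7 LD2_c1 LD3_c50)) = (LP (LK LD1_c3 LD2_c44 LD3_c56)) :=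
  Lgr Lrot119 (Lpe (f95504 IH) (Lpr_bf (K3.f95499 IH) (Lpe (f95505 IH) (Lpn (LP (LK LD1_c3 LD2_c44 LD3_c56))))))
theorem f108999 : Led Lsl_bf (LP (LK LD1_c1 LD2_c50 LD3_c2)) = (LP (LK LD1_c3 LD2_c29 LD3_c39)) :=
  Lgr Lrot93 (Lpe (K3.f108982 IH) (Lpr_bt (K3.f78100 IH) (Lpr_dt (K3.f108996 IH) (Lpn (LP (LK LD1_c3 LD2_c29 LD3_c39))))))
theorem f109565 : Led Lsl_cf (LP (LK LD1_c3 LD2_c32 LD3_c35)) = (LP (LK LD1_c7 LD2_c1 LD3_c50)) :=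
  Lgr Lrot97 (Lpr_bt (K3.f109544 IH) (Lpr_ct (K3.f109007 IH) (Lpe (f108999 IH) (Lpr_ct (K3.f108984 IH) (Lpe (K4.f95351 IH) (Lpn (LP (LK LD1_c7 LD2_c1 LD3_c50))))))))
theorem f136752 : Led Lsl_gf (LP (LK LD1_c3 LD2_c36 LD3_c4)) = (LP (LK LD1_c3 LD2_c32 LD3_c35)) :=
  Lgr Lrot126 (Lpr_cf (f17912 IH) (Lpe (K4.f111822 IH) (Lpr_gt (f136750 IH) (Lpr_ct (K4.f102446 IH) (Lpr_gt (f102893 IH) (Lpe (K4.f108898 IH) (Lpr_bt (K4.f95583 IH) (Lpr_gt (K3.f108896 IH) (Lpe (f95506 IH) (Lpe (f109565 IH) (Lpn (LP (LK LD1_c3 LD2_c32 LD3_c35)))))))))))))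
theorem f109502 : Led Lsl_ff (LP (LK LD1_c3 LD2_c36 LD3_c3)) = (LP (LK LD1_c3 LD2_c32 LD3_c35)) :=
  Lgr Lrot3 (Lpr_ft (K3.f109498 IH) (Lpn (LP (LK LD1_c3 LD2_c32 LD3_c35))))
theorem f109490 : Led Lsl_at (LP (LK LD1_c3 LD2_c36 LD3_c3)) = (LP (LK LD1_c3 LD2_c32 LD3_c14)) :=
  Lgr Lrot100 (Lpr_af (K3.f109487 IH) (Lpn (LP (LK LD1_c3 LD2_c32 LD3_c14))))
theorem f136754 : Led Lsl_gt (LP (LK LD1_c3 LD2_c36 LD3_c4)) = (LP (LK LD1_c3 LD2_c32 LD3_c14)) :=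
  Lgr Lrot46 (Lpr_gf (f136752 IH) (Lpe (f109502 IH) (Lpr_at (f109490 IH) (Lpn (LP (LK LD1_c3 LD2_c32 LD3_c14))))))
theorem f111515 : Led Lsl_gt (LP (LK LD1_c3 LD2_c45 LD3_c38)) = (LP (LK LD1_c7 LD2_c0 LD3_c18)) :=
  Lgr Lrot46 (Lpe (f92357 IH) (Lpr_ft (K4.f111507 IH) (Lpr_at (K4.f17916 IH) (Lpn (LP (LK LD1_c7 LD2_c0 LD3_c18))))))
theorem f92358 : Led Lsl_dt (LP (LK LD1_c3 LD2_c45 LD3_c38)) = (LP (LK LD1_c7 LD2_c31 LD3_c55)) :=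
  Lre_d IH (LK LD1_c3 LD2_c45 LD3_c38) (LK LD1_c7 LD2_c31 LD3_c55) Lrfl Lrfl
theorem f95398 : Led Lsl_bt (LP (LK LD1_c1 LD2_c38 LD3_c47)) = (LP (LK LD1_c3 LD2_c24 LD3_c41)) :=
  Lre_b IH (LK LD1_c1 LD2_c38 LD3_c47) (LK LD1_c3 LD2_c24 LD3_c41) Lrfl Lrfl
theorem f95399 : Led Lsl_gt (LP (LK LD1_c6 LD2_c51 LD3_c52)) = (LP (LK LD1_c3 LD2_c24 LD3_c41)) :=
  Lre_g IH (LK LD1_c6 LD2_c51 LD3_c52) (LK LD1_c3 LD2_c24 LD3_c41) Lrfl Lrfl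
theorem f92364 : Led Lsl_ct (LP (LK LD1_c0 LD2_c52 LD3_c7)) = (LP (LK LD1_c1 LD2_c50 LD3_c15)) :=
  Lre_c IH (LK LD1_c0 LD2_c52 LD3_c7) (LK LD1_c1 LD2_c50 LD3_c15) Lrfl Lrfl
theorem f92366 : Led Lsl_ct (LP (LK LD1_c7 LD2_c33 LD3_c42)) = (LP (LK LD1_c3 LD2_c46 LD3_c19)) :=
  Lre_c IH (LK LD1_c7 LD2_c33 LD3_c42) (LK LD1_c3 LD2_c46 LD3_c19) Lrfl Lrfl
theorem f116566 : Led Lsl_bf (LP (LK LD1_c6 LD2_c51 LD3_c52)) = (LP (LK LD1_c7 LD2_c33 LD3_c42)) :=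
  Lgr Lrot156 (Lpr_gt (f95399 IH) (Lpe (f95398 IH) (Lpe (K4.f116564 IH) (Lpr_gt (K4.f116562 IH) (Lpe (K3.f94570 IH) (Lpr_bt (K3.f94568 IH) (Lpr_gt (K2.f62825 IH) (Lpr_ct (f92364 IH) (Lpr_gt (K3.f92365 IH) (Lpe (f92366 IH) (Lpn (LP (LK LD1_c7 LD2_c33 LD3_c42)))))))))))))
theorem f116573 : Led Lsl_et (LP (LK LD1_c6 LD2_c51 LD3_c52)) = (LP (LK LD1_c13 LD2_c3 LD3_c16)) :=
  Lre_e IH (LK LD1_c6 LD2_c51 LD3_c52) (LK LD1_c13 LD2_c3 LD3_c16) Lrfl Lrfl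
theorem f116574 : Led Lsl_et (LP (LK LD1_c14 LD2_c15 LD3_c39)) = (LP (LK LD1_c7 LD2_c33 LD3_c42)) :=
  Lre_e IH (LK LD1_c14 LD2_c15 LD3_c39) (LK LD1_c7 LD2_c33 LD3_c42) Lrfl Lrfl
theorem f116575 : Led Lsl_bt (LP (LK LD1_c13 LD2_c3 LD3_c16)) = (LP (LK LD1_c14 LD2_c15 LD3_c39)) :=
  Lgr Lrot119 (Lpe (f116573 IH) (Lpr_bf (f116566 IH) (Lpe (f116574 IH) (Lpn (LP (LK LD1_c14 LD2_c15 LD3_c39))))))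
theorem f94466 : Led Lsl_ct (LP (LK LD1_c14 LD2_c15 LD3_c39)) = (LP (LK LD1_c7 LD2_c33 LD3_c43)) :=
  Lre_c IH (LK LD1_c14 LD2_c15 LD3_c39) (LK LD1_c7 LD2_c33 LD3_c43) Lrfl Lrfl
theorem f94460 : Led Lsl_et (LP (LK LD1_c3 LD2_c46 LD3_c19)) = (LP (LK LD1_c7 LD2_c33 LD3_c43)) :=
  Lre_e IH (LK LD1_c3 LD2_c46 LD3_c19) (LK LD1_c7 LD2_c33 LD3_c43) Lrfl Lrfl
theorem f94461 : Led Lsl_et (LP (LK LD1_c13 LD2_c46 LD3_c25)) = (LP (LK LD1_c7 LD2_c16 LD3_c45)) :=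
  Lre_e IH (LK LD1_c13 LD2_c46 LD3_c25) (LK LD1_c7 LD2_c16 LD3_c45) Lrfl Lrfl
theorem f94462 : Led Lsl_bt (LP (LK LD1_c7 LD2_c33 LD3_c43)) = (LP (LK LD1_c13 LD2_c46 LD3_c25)) :=
  Lgr Lrot119 (Lpe (f94460 IH) (Lpr_bf (K3.f94452 IH) (Lpe (f94461 IH) (Lpn (LP (LK LD1_c13 LD2_c46 LD3_c25))))))
theorem f94467 : Led Lsl_ct (LP (LK LD1_c13 LD2_c46 LD3_c25)) = (LP (LK LD1_c7 LD2_c16 LD3_c46)) :=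
  Lre_c IH (LK LD1_c13 LD2_c46 LD3_c25) (LK LD1_c7 LD2_c16 LD3_c46) Lrfl Lrfl
theorem f94468 : Led Lsl_bt (LP (LK LD1_c7 LD2_c16 LD3_c46)) = (LP (LK LD1_c13 LD2_c46 LD3_c24)) :=
  Lre_b IH (LK LD1_c7 LD2_c16 LD3_c46) (LK LD1_c13 LD2_c46 LD3_c24) Lrfl Lrfl
theorem f116610 : Led Lsl_cf (LP (LK LD1_c13 LD2_c3 LD3_c16)) = (LP (LK LD1_c13 LD2_c46 LD3_c24)) :=
  Lgr Lrot97 (Lpr_bt (f116575 IH) (Lpr_ct (f94466 IH) (Lpr_bt (f94462 IH) (Lpr_ct (f94467 IH) (Lpr_bt (f94468 IH) (Lpn (LP (LK LD1_c13 LD2_c46 LD3_c24))))))))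
theorem f116618 : Led Lsl_ct (LP (LK LD1_c13 LD2_c3 LD3_c16)) = (LP (LK LD1_c13 LD2_c46 LD3_c24)) :=
  Lgr Lrot59 (Lpr_cf (f116610 IH) (Lpn (LP (LK LD1_c13 LD2_c46 LD3_c24))))
theorem f116621 : Led Lsl_et (LP (LK LD1_c13 LD2_c46 LD3_c24)) = (LP (LK LD1_c7 LD2_c16 LD3_c44)) :=
  Lre_e IH (LK LD1_c13 LD2_c46 LD3_c24) (LK LD1_c7 LD2_c16 LD3_c44) Lrfl Lrfl
theorem f116622 : Led Lsl_cf (LP (LK LD1_c6 LD2_c51 LD3_c52)) = (LP (LK LD1_c7 LD2_c16 LD3_c44)) :=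
  Lgr Lrot39 (Lpr_et (f116573 IH) (Lpr_ct (f116618 IH) (Lpr_et (f116621 IH) (Lpn (LP (LK LD1_c7 LD2_c16 LD3_c44))))))
theorem f5633 : Led Lsl_bt (LP (LK LD1_c7 LD2_c16 LD3_c44)) = (LP (LK LD1_c3 LD2_c38 LD3_c12)) :=
  Lre_b IH (LK LD1_c7 LD2_c16 LD3_c44) (LK LD1_c3 LD2_c38 LD3_c12) Lrfl Lrfl
theorem f116624 : Led Lsl_cf (LP (LK LD1_c3 LD2_c24 LD3_c41)) = (LP (LK LD1_c3 LD2_c32 LD3_c14)) :=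
  Lgr Lrot58 (Lpe (f95399 IH) (Lpr_cf (f116622 IH) (Lpr_bt (f5633 IH) (Lpe (K3.f5062 IH) (Lpe (K0.f5045 IH) (Lpr_ct (K2.f394 IH) (Lpe (K2.f94412 IH) (Lpe (K3.f92289 IH) (Lpe (K3.f94418 IH) (Lpe (K3.f94424 IH) (Lpn (LP (LK LD1_c3 LD2_c32 LD3_c14)))))))))))))
theorem f18230 : Led Lsl_bt (LP (LK LD1_c3 LD2_c24 LD3_c41)) = (LP (LK LD1_c1 LD2_c38 LD3_c47)) :=
  Lre_b IH (LK LD1_c3 LD2_c24 LD3_c41) (LK LD1_c1 LD2_c38 LD3_c47) Lrfl Lrfl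
theorem f95359 : Led Lsl_df (LP (LK LD1_c3 LD2_c24 LD3_c41)) = (LP (LK LD1_c3 LD2_c50 LD3_c58)) :=
  Lgr Lrot12 (Lpr_bt (f18230 IH) (Lpr_dt (K2.f95357 IH) (Lpr_bt (K4.f95278 IH) (Lpn (LP (LK LD1_c3 LD2_c50 LD3_c58))))))
theorem f17141 : Led Lsl_ct (LP (LK LD1_c7 LD2_c43 LD3_c3)) = (LP (LK LD1_c3 LD2_c50 LD3_c58)) :=
  Lre_c IH (LK LD1_c7 LD2_c43 LD3_c3) (LK LD1_c3 LD2_c50 LD3_c58) Lrfl Lrfl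
theorem f127831 : Led Lsl_ct (LP (LK LD1_c13 LD2_c17 LD3_c42)) = (LP (LK LD1_c14 LD2_c32 LD3_c55)) :=
  Lgr Lrot40 (Lpr_ff (K5.f127827 IH) (Lpe (K5.f127666 IH) (Lpr_ff (K5.f127670 IH) (Lpn (LP (LK LD1_c14 LD2_c32 LD3_c55))))))
theorem f136758 : Led Lsl_gt (LP (LK LD1_c7 LD2_c31 LD3_c55)) = (LP (LK LD1_c13 LD2_c17 LD3_c42)) :=
  Lgr Lrot9 (Lpe (f92358 IH) (Lpr_gt (f111515 IH) (Lpe (f17912 IH) (Lpr_gt (f136754 IH) (Lpe (f116624 IH) (Lpr_df (f95359 IH) (Lpe (f17141 IH) (Lpe (K5.f17143 IH) (Lpe (f127831 IH) (Lpn (LP (LK LD1_c13 LD2_c17 LD3_c42))))))))))))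
theorem f136760 : Led Lsl_gf (LP (LK LD1_c7 LD2_c31 LD3_c55)) = (LP (LK LD1_c3 LD2_c45 LD3_c59)) :=
  Lgr Lrot47 (Lpr_gt (f136758 IH) (Lpe (K5.f104057 IH) (Lpr_ff (K5.f126410 IH) (Lpn (LP (LK LD1_c3 LD2_c45 LD3_c59))))))
theorem f15655 : Led Lsl_gt (LP (LK LD1_c7 LD2_c36 LD3_c17)) = (LP (LK LD1_c3 LD2_c47 LD3_c41)) :=
  Lre_g IH (LK LD1_c7 LD2_c36 LD3_c17) (LK LD1_c3 LD2_c47 LD3_c41) Lrfl Lrfl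
theorem f156679 : Led Lsl_ct (LP (LK LD1_c9 LD2_c28 LD3_c29)) = (LP (LK LD1_c7 LD2_c36 LD3_c17)) :=
  Lgr Lrot64 (Lpr_bt (f156677 IH) (Lpr_gf (f136760 IH) (Lpe (K5.f92929 IH) (Lpe (K3.f93366 IH) (Lpe (K3.f96057 IH) (Lpr_cf (K3.f96043 IH) (Lpr_gf (K3.f63799 IH) (Lpe (f63807 IH) (Lpr_ct (K0.f16067 IH) (Lpe (f15655 IH) (Lpn (LP (LK LD1_c7 LD2_c36 LD3_c17)))))))))))))
theorem f16092 : Led Lsl_gt (LP (LK LD1_c6 LD2_c54 LD3_c19)) = (LP (LK LD1_c7 LD2_c36 LD3_c17)) :=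
  Lgr Lrot5 (Lpr_ft (K0.f16082 IH) (Lpr_at (K0.f16081 IH) (Lpe (f15655 IH) (Lpn (LP (LK LD1_c7 LD2_c36 LD3_c17))))))
theorem f15523 : Led Lsl_at (LP (LK LD1_c0 LD2_c52 LD3_c61)) = (LP (LK LD1_c1 LD2_c35 LD3_c31)) :=
  Lre_a IH (LK LD1_c0 LD2_c52 LD3_c61) (LK LD1_c1 LD2_c35 LD3_c31) Lrfl Lrfl
theorem f15525 : Led Lsl_at (LP (LK LD1_c1 LD2_c39 LD3_c48)) = (LP (LK LD1_c0 LD2_c46 LD3_c37)) :=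
  Lre_a IH (LK LD1_c1 LD2_c39 LD3_c48) (LK LD1_c0 LD2_c46 LD3_c37) Lrfl Lrfl
theorem f15526 : Led Lsl_at (LP (LK LD1_c3 LD2_c17 LD3_c61)) = (LP (LK LD1_c3 LD2_c26 LD3_c12)) :=
  Lgr Lrot67 (Lpe (K6.f15524 IH) (Lpe (f15523 IH) (Lpr_bf (K0.f15513 IH) (Lpe (f15525 IH) (Lpe (K6.f15052 IH) (Lpn (LP (LK LD1_c3 LD2_c26 LD3_c12))))))))
theorem f16112 : Led Lsl_ft (LP (LK LD1_c1 LD2_c50 LD3_c54)) = (LP (LK LD1_c3 LD2_c17 LD3_c61)) :=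
  Lre_f IH (LK LD1_c1 LD2_c50 LD3_c54) (LK LD1_c3 LD2_c17 LD3_c61) Lrfl Lrfl
theorem f16782 : Led Lsl_gt (LP (LK LD1_c1 LD2_c50 LD3_c54)) = (LP (LK LD1_c3 LD2_c47 LD3_c39)) :=
  Lre_g IH (LK LD1_c1 LD2_c50 LD3_c54) (LK LD1_c3 LD2_c47 LD3_c39) Lrfl Lrfl
theorem f16783 : Led Lsl_gt (LP (LK LD1_c3 LD2_c47 LD3_c39)) = (LP (LK LD1_c3 LD2_c26 LD3_c12)) :=
  Lgr Lrot46 (Lpe (f16782 IH) (Lpr_ft (f16112 IH) (Lpr_at (f15526 IH) (Lpn (LP (LK LD1_c3 LD2_c26 LD3_c12))))))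
theorem f16787 : Led Lsl_bt (LP (LK LD1_c7 LD2_c36 LD3_c10)) = (LP (LK LD1_c3 LD2_c47 LD3_c39)) :=
  Lre_b IH (LK LD1_c7 LD2_c36 LD3_c10) (LK LD1_c3 LD2_c47 LD3_c39) Lrfl Lrfl
theorem f16789 : Led Lsl_ct (LP (LK LD1_c7 LD2_c36 LD3_c10)) = (LP (LK LD1_c14 LD2_c20 LD3_c1)) :=
  Lre_c IH (LK LD1_c7 LD2_c36 LD3_c10) (LK LD1_c14 LD2_c20 LD3_c1) Lrfl Lrfl
theorem f127823 : Led Lsl_bf (LP (LK LD1_c13 LD2_c17 LD3_c42)) = (LP (LK LD1_c7 LD2_c32 LD3_c50)) :=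
  Lgr Lrot24 (Lpr_bt (K5.f127821 IH) (Lpn (LP (LK LD1_c7 LD2_c32 LD3_c50))))
theorem f156681 : Led Lsl_gf (LP (LK LD1_c14 LD2_c20 LD3_c1)) = (LP (LK LD1_c14 LD2_c13 LD3_c47)) :=
  Lgr Lrot126 (Lpe (f16789 IH) (Lpr_bt (f16787 IH) (Lpr_gt (f16783 IH) (Lpr_ct (K0.f16060 IH) (Lpr_gt (f16092 IH) (Lpe (f156679 IH) (Lpr_bt (f156677 IH) (Lpr_gt (f136758 IH) (Lpr_bf (f127823 IH) (Lpr_ct (K6.f88254 IH) (Lpn (LP (LK LD1_c14 LD2_c13 LD3_c47)))))))))))))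
theorem f16788 : Led Lsl_ct (LP (LK LD1_c14 LD2_c20 LD3_c1)) = (LP (LK LD1_c7 LD2_c36 LD3_c10)) :=
  Lre_c IH (LK LD1_c14 LD2_c20 LD3_c1) (LK LD1_c7 LD2_c36 LD3_c10) Lrfl Lrfl
theorem f144670 : Led Lsl_cf (LP (LK LD1_c7 LD2_c25 LD3_c18)) = (LP (LK LD1_c13 LD2_c58 LD3_c16)) :=
  Lgr Lrot11 (Lpr_ct (K6.f144664 IH) (Lpn (LP (LK LD1_c13 LD2_c58 LD3_c16))))
theorem f116528 : Led Lsl_dt (LP (LK LD1_c3 LD2_c41 LD3_c11)) = (LP (LK LD1_c7 LD2_c22 LD3_c44)) :=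
  Lre_d IH (LK LD1_c3 LD2_c41 LD3_c11) (LK LD1_c7 LD2_c22 LD3_c44) Lrfl Lrfl
theorem f144691 : Led Lsl_gf (LP (LK LD1_c3 LD2_c41 LD3_c25)) = (LP (LK LD1_c7 LD2_c22 LD3_c44)) :=
  Lgr Lrot179 (Lpr_ct (K6.f13392 IH) (Lpr_gt (K6.f13393 IH) (Lpe (f144670 IH) (Lpr_dt (K6.f144681 IH) (Lpr_cf (K4.f12812 IH) (Lpr_gf (K4.f111339 IH) (Lpe (K4.f116455 IH) (Lpe (K4.f116512 IH) (Lpr_dt (f116528 IH) (Lpn (LP (LK LD1_c7 LD2_c22 LD3_c44))))))))))))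
theorem f96173 : Led Lsl_dt (LP (LK LD1_c7 LD2_c0 LD3_c29)) = (LP (LK LD1_c3 LD2_c46 LD3_c59)) :=
  Lgr Lrot79 (Lpe (K5.f96172 IH) (Lpr_df (K3.f96165 IH) (Lpe (K4.f88621 IH) (Lpn (LP (LK LD1_c3 LD2_c46 LD3_c59))))))
theorem f130272 : Led Lsl_gf (LP (LK LD1_c7 LD2_c0 LD3_c29)) = (LP (LK LD1_c6 LD2_c53 LD3_c59)) :=
  Lgr Lrot76 (Lpr_af (K5.f127684 IH) (Lpr_ff (K5.f127733 IH) (Lpr_gt (K6.f130263 IH) (Lpn (LP (LK LD1_c6 LD2_c53 LD3_c59))))))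
theorem f102447 : Led Lsl_dt (LP (LK LD1_c3 LD2_c26 LD3_c3)) = (LP (LK LD1_c6 LD2_c53 LD3_c59)) :=
  Lre_d IH (LK LD1_c3 LD2_c26 LD3_c3) (LK LD1_c6 LD2_c53 LD3_c59) Lrfl Lrfl
theorem f144698 : Led Lsl_gt (LP (LK LD1_c3 LD2_c43 LD3_c56)) = (LP (LK LD1_c3 LD2_c41 LD3_c11)) :=
  Lgr Lrot94 (Lpe (K5.f123647 IH) (Lpr_gt (f136750 IH) (Lpr_dt (f102447 IH) (Lpe (f130272 IH) (Lpr_dt (f96173 IH) (Lpe (K4.f96125 IH) (Lpe (K6.f129348 IH) (Lpr_gf (f144691 IH) (Lpe (f116528 IH) (Lpn (LP (LK LD1_c3 LD2_c41 LD3_c11))))))))))))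
theorem f156685 : Led Lsl_df (LP (LK LD1_c7 LD2_c36 LD3_c10)) = (LP (LK LD1_c7 LD2_c22 LD3_c43)) :=
  Lgr Lrot162 (Lpe (f16788 IH) (Lpr_gf (f156681 IH) (Lpe (K6.f88254 IH) (Lpr_gf (K6.f130259 IH) (Lpr_dt (K6.f12827 IH) (Lpr_gt (K4.f111343 IH) (Lpr_ct (K5.f123647 IH) (Lpr_gt (f144698 IH) (Lpr_ct (K4.f116520 IH) (Lpn (LP (LK LD1_c7 LD2_c22 LD3_c43))))))))))))
theorem f116518 : Led Lsl_bf (LP (LK LD1_c7 LD2_c22 LD3_c43)) = (LP (LK LD1_c6 LD2_c58 LD3_c41)) :=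
  Lgr Lrot24 (Lpr_bt (K4.f116516 IH) (Lpn (LP (LK LD1_c6 LD2_c58 LD3_c41))))
theorem f156688 : Led Lsl_dt (LP (LK LD1_c3 LD2_c47 LD3_c39)) = (LP (LK LD1_c6 LD2_c58 LD3_c41)) :=
  Lgr Lrot79 (Lpe (f16787 IH) (Lpr_df (f156685 IH) (Lpr_bf (f116518 IH) (Lpn (LP (LK LD1_c6 LD2_c58 LD3_c41))))))
theorem f156715 : Led Lsl_ct (LP (LK LD1_c7 LD2_c36 LD3_c17)) = (LP (LK LD1_c9 LD2_c28 LD3_c29)) :=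
  Lgr Lrot151 (Lpe (f16092 IH) (Lpe (K0.f16060 IH) (Lpe (f16783 IH) (Lpr_dt (f156688 IH) (Lpr_gt (K4.f18668 IH) (Lpe (K4.f18659 IH) (Lpr_gt (f18666 IH) (Lpr_ct (f94639 IH) (Lpe (f156675 IH) (Lpn (LP (LK LD1_c9 LD2_c28 LD3_c29))))))))))))
theorem f16111 : Led Lsl_gt (LP (LK LD1_c14 LD2_c20 LD3_c12)) = (LP (LK LD1_c7 LD2_c36 LD3_c18)) :=
  Lre_g IH (LK LD1_c14 LD2_c20 LD3_c12) (LK LD1_c7 LD2_c36 LD3_c18) Lrfl Lrfl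
theorem f16122 : Led Lsl_gt (LP (LK LD1_c13 LD2_c7 LD3_c13)) = (LP (LK LD1_c14 LD2_c20 LD3_c12)) :=
  Lgr Lrot5 (Lpr_ft (K1.f16102 IH) (Lpr_at (K1.f14746 IH) (Lpe (f16111 IH) (Lpn (LP (LK LD1_c14 LD2_c20 LD3_c12))))))
theorem f144366 : Led Lsl_dt (LP (LK LD1_c3 LD2_c55 LD3_c7)) = (LP (LK LD1_c3 LD2_c18 LD3_c57)) :=
  Lgr Lrot79 (Lpe (f11769 IH) (Lpr_df (K6.f144345 IH) (Lpe (K6.f144347 IH) (Lpn (LP (LK LD1_c3 LD2_c18 LD3_c57))))))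
theorem f122986 : Led Lsl_gt (LP (LK LD1_c7 LD2_c49 LD3_c61)) = (LP (LK LD1_c3 LD2_c54 LD3_c13)) :=
  Lre_g IH (LK LD1_c7 LD2_c49 LD3_c61) (LK LD1_c3 LD2_c54 LD3_c13) Lrfl Lrfl
theorem f156723 : Led Lsl_ct (LP (LK LD1_c14 LD2_c20 LD3_c12)) = (LP (LK LD1_c7 LD2_c49 LD3_c61)) :=
  Lgr Lrot152 (Lpe (f16122 IH) (Lpe (K0.f16061 IH) (Lpr_gt (f16092 IH) (Lpr_ct (f156715 IH) (Lpr_gt (f92194 IH) (Lpr_ct (K6.f145268 IH) (Lpe (f144366 IH) (Lpr_cf (K6.f122964 IH) (Lpe (f122986 IH) (Lpn (LP (LK LD1_c7 LD2_c49 LD3_c61))))))))))))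
theorem f37892 : Led Lsl_gt (LP (LK LD1_c1 LD2_c55 LD3_c45)) = (LP (LK LD1_c3 LD2_c57 LD3_c58)) :=
  Lre_g IH (LK LD1_c1 LD2_c55 LD3_c45) (LK LD1_c3 LD2_c57 LD3_c58) Lrfl Lrfl
theorem f40033 : Led Lsl_gt (LP (LK LD1_c3 LD2_c57 LD3_c58)) = (LP (LK LD1_c4 LD2_c26 LD3_c37)) :=
  Lgr Lrot46 (Lpe (f37892 IH) (Lpr_ft (K1.f40011 IH) (Lpr_at (K0.f16142 IH) (Lpn (LP (LK LD1_c4 LD2_c26 LD3_c37))))))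
theorem f144379 : Led Lsl_bt (LP (LK LD1_c6 LD2_c31 LD3_c55)) = (LP (LK LD1_c3 LD2_c14 LD3_c8)) :=
  Lre_b IH (LK LD1_c6 LD2_c31 LD3_c55) (LK LD1_c3 LD2_c14 LD3_c8) Lrfl Lrfl
theorem f156728 : Led Lsl_cf (LP (LK LD1_c3 LD2_c57 LD3_c58)) = (LP (LK LD1_c6 LD2_c31 LD3_c55)) :=
  Lgr Lrot160 (Lpr_gt (f40033 IH) (Lpe (K0.f16137 IH) (Lpe (K1.f16133 IH) (Lpr_gt (f16122 IH) (Lpr_ct (f156723 IH) (Lpr_gt (f122986 IH) (Lpe (K6.f122982 IH) (Lpr_bt (K6.f122979 IH) (Lpr_gt (f144373 IH) (Lpe (f144379 IH) (Lpn (LP (LK LD1_c6 LD2_c31 LD3_c55)))))))))))))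
theorem f156730 : Led Lsl_ct (LP (LK LD1_c3 LD2_c57 LD3_c58)) = (LP (LK LD1_c6 LD2_c31 LD3_c55)) :=
  Lgr Lrot59 (Lpr_cf (f156728 IH) (Lpn (LP (LK LD1_c6 LD2_c31 LD3_c55))))
theorem f46609 : Led Lsl_at (LP (LK LD1_c0 LD2_c56 LD3_c41)) = (LP (LK LD1_c0 LD2_c59 LD3_c4)) :=
  Lgr Lrot100 (Lpr_af (K1.f46604 IH) (Lpn (LP (LK LD1_c0 LD2_c59 LD3_c4))))
theorem f56334 : Led Lsl_at (LP (LK LD1_c0 LD2_c29 LD3_c50)) = (LP (LK LD1_c0 LD2_c42 LD3_c0)) :=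
  Lgr Lrot80 (Lpe (K1.f56068 IH) (Lpe (f46609 IH) (Lpr_ef (K1.f56327 IH) (Lpn (LP (LK LD1_c0 LD2_c42 LD3_c0))))))
theorem f73401 : Led Lsl_bt (LP (LK LD1_c0 LD2_c42 LD3_c0)) = (LP (LK LD1_c1 LD2_c20 LD3_c58)) :=
  Lgr Lrot62 (Lpe (f56334 IH) (Lpe (K1.f56183 IH) (Lpe (K4.f56265 IH) (Lpr_bf (K2.f73396 IH) (Lpe (K2.f73380 IH) (Lpn (LP (LK LD1_c1 LD2_c20 LD3_c58))))))))
theorem f59430 : Led Lsl_gt (LP (LK LD1_c1 LD2_c20 LD3_c58)) = (LP (LK LD1_c2 LD2_c49 LD3_c39)) :=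
  Lre_g IH (LK LD1_c1 LD2_c20 LD3_c58) (LK LD1_c2 LD2_c49 LD3_c39) Lrfl Lrfl
theorem f156747 : Led Lsl_df (LP (LK LD1_c3 LD2_c57 LD3_c58)) = (LP (LK LD1_c2 LD2_c49 LD3_c39)) :=
  Lgr Lrot183 (Lpr_ct (f156730 IH) (Lpr_bt (f144379 IH) (Lpe (K6.f129265 IH) (Lpr_dt (K5.f13619 IH) (Lpr_ct (K5.f13618 IH) (Lpr_bt (K5.f13617 IH) (Lpr_gt (K0.f13616 IH) (Lpr_dt (K1.f13615 IH) (Lpr_ct (K0.f13594 IH) (Lpe (K0.f13602 IH) (Lpr_gt (K0.f1472 IH) (Lpr_dt (K2.f34726 IH) (Lpr_ct (K0.f8174 IH) (Lpr_bt (K0.f8175 IH) (Lpe (K1.f35406 IH) (Lpe (K1.f36326 IH) (Lpr_ct (K1.f36296 IH) (Lpr_bt (f73401 IH) (Lpr_gt (f59430 IH) (Lpn (LP (LK LD1_c2 LD2_c49 LD3_c39))))))))))))))))))))))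
theorem f40663 : Led Lsl_at (LP (LK LD1_c0 LD2_c45 LD3_c33)) = (LP (LK LD1_c1 LD2_c38 LD3_c19)) :=
  Lre_a IH (LK LD1_c0 LD2_c45 LD3_c33) (LK LD1_c1 LD2_c38 LD3_c19) Lrfl Lrfl
theorem f99547 : Led Lsl_dt (LP (LK LD1_c1 LD2_c38 LD3_c19)) = (LP (LK LD1_c1 LD2_c27 LD3_c38)) :=
  Lgr Lrot44 (Lpe (f40663 IH) (Lpr_df (K4.f99540 IH) (Lpe (K6.f99546 IH) (Lpn (LP (LK LD1_c1 LD2_c27 LD3_c38))))))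
theorem f56587 : Led Lsl_gt (LP (LK LD1_c0 LD2_c37 LD3_c23)) = (LP (LK LD1_c1 LD2_c20 LD3_c55)) :=
  Lre_g IH (LK LD1_c0 LD2_c37 LD3_c23) (LK LD1_c1 LD2_c20 LD3_c55) Lrfl Lrfl
theorem f149077 : Led Lsl_dt (LP (LK LD1_c9 LD2_c7 LD3_c60)) = (LP (LK LD1_c9 LD2_c16 LD3_c11)) :=
  Lgr Lrot44 (Lpr_af (f149073 IH) (Lpr_df (K6.f104351 IH) (Lpe (f94791 IH) (Lpn (LP (LK LD1_c9 LD2_c16 LD3_c11))))))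
theorem f94797 : Led Lsl_at (LP (LK LD1_c6 LD2_c53 LD3_c56)) = (LP (LK LD1_c3 LD2_c26 LD3_c0)) :=
  Lre_a IH (LK LD1_c6 LD2_c53 LD3_c56) (LK LD1_c3 LD2_c26 LD3_c0) Lrfl Lrfl
theorem f94801 : Led Lsl_ct (LP (LK LD1_c9 LD2_c16 LD3_c11)) = (LP (LK LD1_c6 LD2_c53 LD3_c56)) :=
  Lgr Lrot111 (Lpe (f94800 IH) (Lpr_cf (K6.f94795 IH) (Lpe (f94797 IH) (Lpn (LP (LK LD1_c6 LD2_c53 LD3_c56))))))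
theorem f78200 : Led Lsl_ct (LP (LK LD1_c4 LD2_c45 LD3_c28)) = (LP (LK LD1_c2 LD2_c20 LD3_c55)) :=
  Lre_c IH (LK LD1_c4 LD2_c45 LD3_c28) (LK LD1_c2 LD2_c20 LD3_c55) Lrfl Lrfl
theorem f78211 : Led Lsl_gt (LP (LK LD1_c4 LD2_c45 LD3_c28)) = (LP (LK LD1_c9 LD2_c23 LD3_c42)) :=
  Lre_g IH (LK LD1_c4 LD2_c45 LD3_c28) (LK LD1_c9 LD2_c23 LD3_c42) Lrfl Lrfl
theorem f78210 : Led Lsl_bt (LP (LK LD1_c2 LD2_c20 LD3_c51)) = (LP (LK LD1_c4 LD2_c45 LD3_c28)) :=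
  Lre_b IH (LK LD1_c2 LD2_c20 LD3_c51) (LK LD1_c4 LD2_c45 LD3_c28) Lrfl Lrfl
theorem f20285 : Led Lsl_ct (LP (LK LD1_c0 LD2_c32 LD3_c55)) = (LP (LK LD1_c0 LD2_c17 LD3_c15)) :=
  Lre_c IH (LK LD1_c0 LD2_c32 LD3_c55) (LK LD1_c0 LD2_c17 LD3_c15) Lrfl Lrfl
theorem f26451 : Led Lsl_dt (LP (LK LD1_c1 LD2_c11 LD3_c0)) = (LP (LK LD1_c0 LD2_c32 LD3_c55)) :=
  Lre_d IH (LK LD1_c1 LD2_c11 LD3_c0) (LK LD1_c0 LD2_c32 LD3_c55) Lrfl Lrfl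
theorem f128351 : Led Lsl_dt (LP (LK LD1_c9 LD2_c23 LD3_c42)) = (LP (LK LD1_c9 LD2_c8 LD3_c0)) :=
  Lgr Lrot182 (Lpe (f78211 IH) (Lpe (f78210 IH) (Lpe (K3.f78161 IH) (Lpr_df (K3.f78197 IH) (Lpe (K5.f82406 IH) (Lpe (K5.f82405 IH) (Lpe (K5.f82399 IH) (Lpe (K5.f82442 IH) (Lpr_gf (K5.f128347 IH) (Lpe (K5.f26359 IH) (Lpe (K2.f26351 IH) (Lpe (K0.f23023 IH) (Lpe (K0.f20543 IH) (Lpe (K6.f35238 IH) (Lpe (f20285 IH) (Lpe (f26451 IH) (Lpe (K4.f26003 IH) (Lpe (K4.f26004 IH) (Lpe (K4.f104791 IH) (Lpn (LP (LK LD1_c9 LD2_c8 LD3_c0))))))))))))))))))))))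
theorem f149930 : Led Lsl_gf (LP (LK LD1_c4 LD2_c35 LD3_c56)) = (LP (LK LD1_c9 LD2_c8 LD3_c0)) :=
  Lgr Lrot143 (Lpe (f149292 IH) (Lpe (f94801 IH) (Lpe (f149077 IH) (Lpr_gf (f149926 IH) (Lpe (K6.f78251 IH) (Lpe (K6.f78201 IH) (Lpe (f78200 IH) (Lpr_gt (f78211 IH) (Lpr_dt (f128351 IH) (Lpn (LP (LK LD1_c9 LD2_c8 LD3_c0))))))))))))
theorem f37815 : Led Lsl_ct (LP (LK LD1_c4 LD2_c35 LD3_c56)) = (LP (LK LD1_c2 LD2_c15 LD3_c9)) :=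
  Lre_c IH (LK LD1_c4 LD2_c35 LD3_c56) (LK LD1_c2 LD2_c15 LD3_c9) Lrfl Lrfl
theorem f149332 : Led Lsl_gf (LP (LK LD1_c1 LD2_c5 LD3_c6)) = (LP (LK LD1_c2 LD2_c15 LD3_c9)) :=
  Lgr Lrot47 (Lpe (K4.f104727 IH) (Lpr_af (f149105 IH) (Lpr_ff (f149322 IH) (Lpn (LP (LK LD1_c2 LD2_c15 LD3_c9))))))
theorem f58894 : Led Lsl_dt (LP (LK LD1_c2 LD2_c16 LD3_c25)) = (LP (LK LD1_c4 LD2_c38 LD3_c47)) :=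
  Lre_d IH (LK LD1_c2 LD2_c16 LD3_c25) (LK LD1_c4 LD2_c38 LD3_c47) Lrfl Lrfl
theorem f137470 : Led Lsl_gt (LP (LK LD1_c9 LD2_c23 LD3_c42)) = (LP (LK LD1_c5 LD2_c54 LD3_c35)) :=
  Lgr Lrot46 (Lpe (f78211 IH) (Lpr_ft (K6.f137460 IH) (Lpe (K6.f137412 IH) (Lpn (LP (LK LD1_c5 LD2_c54 LD3_c35))))))
theorem f78705 : Led Lsl_gt (LP (LK LD1_c4 LD2_c45 LD3_c39)) = (LP (LK LD1_c2 LD2_c20 LD3_c55)) :=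
  Lre_g IH (LK LD1_c4 LD2_c45 LD3_c39) (LK LD1_c2 LD2_c20 LD3_c55) Lrfl Lrfl
theorem f133163 : Led Lsl_gt (LP (LK LD1_c9 LD2_c22 LD3_c54)) = (LP (LK LD1_c4 LD2_c45 LD3_c39)) :=
  Lgr Lrot5 (Lpr_ft (K5.f133155 IH) (Lpr_at (K5.f133099 IH) (Lpe (f78705 IH) (Lpn (LP (LK LD1_c4 LD2_c45 LD3_c39))))))
theorem f149937 : Led Lsl_cf (LP (LK LD1_c4 LD2_c38 LD3_c47)) = (LP (LK LD1_c4 LD2_c45 LD3_c39)) :=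
  Lgr Lrot99 (Lpe (f58894 IH) (Lpe (K4.f58858 IH) (Lpr_gf (f149332 IH) (Lpe (f37815 IH) (Lpr_gf (f149930 IH) (Lpe (f128351 IH) (Lpr_gt (f137470 IH) (Lpr_ct (K6.f137406 IH) (Lpr_gt (f133163 IH) (Lpn (LP (LK LD1_c4 LD2_c45 LD3_c39))))))))))))
theorem f149941 : Led Lsl_ct (LP (LK LD1_c4 LD2_c38 LD3_c47)) = (LP (LK LD1_c4 LD2_c45 LD3_c39)) :=
  Lgr Lrot59 (Lpr_cf (f149937 IH) (Lpn (LP (LK LD1_c4 LD2_c45 LD3_c39))))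
theorem f22813 : Led Lsl_ct (LP (LK LD1_c2 LD2_c53 LD3_c37)) = (LP (LK LD1_c1 LD2_c22 LD3_c51)) :=
  Lre_c IH (LK LD1_c2 LD2_c53 LD3_c37) (LK LD1_c1 LD2_c22 LD3_c51) Lrfl Lrfl
theorem f137317 : Led Lsl_ff (LP (LK LD1_c2 LD2_c53 LD3_c37)) = (LP (LK LD1_c3 LD2_c4 LD3_c59)) :=
  Lgr Lrot23 (Lpr_ct (f22813 IH) (Lpr_ft (K6.f137315 IH) (Lpr_ct (K4.f83763 IH) (Lpn (LP (LK LD1_c3 LD2_c4 LD3_c59))))))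
theorem f137466 : Led Lsl_df (LP (LK LD1_c4 LD2_c45 LD3_c28)) = (LP (LK LD1_c2 LD2_c53 LD3_c37)) :=
  Lgr Lrot78 (Lpr_ft (K6.f137460 IH) (Lpe (K5.f83773 IH) (Lpe (f137317 IH) (Lpn (LP (LK LD1_c2 LD2_c53 LD3_c37))))))
theorem f22466 : Led Lsl_gt (LP (LK LD1_c2 LD2_c53 LD3_c43)) = (LP (LK LD1_c1 LD2_c22 LD3_c53)) :=
  Lre_g IH (LK LD1_c2 LD2_c53 LD3_c43) (LK LD1_c1 LD2_c22 LD3_c53) Lrfl Lrfl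
theorem f22772 : Led Lsl_dt (LP (LK LD1_c5 LD2_c54 LD3_c44)) = (LP (LK LD1_c2 LD2_c53 LD3_c43)) :=
  Lre_d IH (LK LD1_c5 LD2_c54 LD3_c44) (LK LD1_c2 LD2_c53 LD3_c43) Lrfl Lrfl
theorem f149971 : Led Lsl_gf (LP (LK LD1_c4 LD2_c38 LD3_c47)) = (LP (LK LD1_c5 LD2_c54 LD3_c44)) :=
  Lgr Lrot147 (Lpr_ct (f149941 IH) (Lpr_gt (f78705 IH) (Lpr_ct (K6.f78291 IH) (Lpr_df (f137466 IH) (Lpe (K2.f61206 IH) (Lpe (K2.f22812 IH) (Lpe (K4.f22462 IH) (Lpe (f22466 IH) (Lpe (f22772 IH) (Lpn (LP (LK LD1_c5 LD2_c54 LD3_c44))))))))))))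
theorem f78199 : Led Lsl_bt (LP (LK LD1_c4 LD2_c45 LD3_c28)) = (LP (LK LD1_c2 LD2_c20 LD3_c51)) :=
  Lre_b IH (LK LD1_c4 LD2_c45 LD3_c28) (LK LD1_c2 LD2_c20 LD3_c51) Lrfl Lrfl
theorem f36254 : Led Lsl_gt (LP (LK LD1_c0 LD2_c55 LD3_c2)) = (LP (LK LD1_c1 LD2_c56 LD3_c31)) :=
  Lre_g IH (LK LD1_c0 LD2_c55 LD3_c2) (LK LD1_c1 LD2_c56 LD3_c31) Lrfl Lrfl
theorem f40425 : Led Lsl_ct (LP (LK LD1_c3 LD2_c59 LD3_c42)) = (LP (LK LD1_c1 LD2_c56 LD3_c31)) :=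
  Lre_c IH (LK LD1_c3 LD2_c59 LD3_c42) (LK LD1_c1 LD2_c56 LD3_c31) Lrfl Lrfl
theorem f149973 : Led Lsl_bf (LP (LK LD1_c5 LD2_c54 LD3_c44)) = (LP (LK LD1_c3 LD2_c59 LD3_c42)) :=
  Lgr Lrot165 (Lpe (f149971 IH) (Lpr_ct (f149941 IH) (Lpr_gt (f78705 IH) (Lpe (f78200 IH) (Lpr_bt (f78199 IH) (Lpr_gt (K3.f78192 IH) (Lpe (K2.f40396 IH) (Lpr_ct (K1.f36239 IH) (Lpr_gt (f36254 IH) (Lpe (f40425 IH) (Lpn (LP (LK LD1_c3 LD2_c59 LD3_c42)))))))))))))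
theorem f34766 : Led Lsl_dt (LP (LK LD1_c4 LD2_c38 LD3_c47)) = (LP (LK LD1_c2 LD2_c16 LD3_c25)) :=
  Lre_d IH (LK LD1_c4 LD2_c38 LD3_c47) (LK LD1_c2 LD2_c16 LD3_c25) Lrfl Lrfl
theorem f34764 : Led Lsl_bt (LP (LK LD1_c1 LD2_c5 LD3_c6)) = (LP (LK LD1_c0 LD2_c29 LD3_c45)) :=
  Lre_b IH (LK LD1_c1 LD2_c5 LD3_c6) (LK LD1_c0 LD2_c29 LD3_c45) Lrfl Lrfl
theorem f36256 : Led Lsl_ct (LP (LK LD1_c1 LD2_c56 LD3_c31)) = (LP (LK LD1_c3 LD2_c59 LD3_c42)) :=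
  Lre_c IH (LK LD1_c1 LD2_c56 LD3_c31) (LK LD1_c3 LD2_c59 LD3_c42) Lrfl Lrfl
theorem f149982 : Led Lsl_dt (LP (LK LD1_c1 LD2_c20 LD3_c55)) = (LP (LK LD1_c1 LD2_c56 LD3_c31)) :=
  Lgr Lrot182 (Lpe (f56587 IH) (Lpe (K4.f56573 IH) (Lpe (K1.f56569 IH) (Lpr_df (K0.f25726 IH) (Lpe (K0.f20986 IH) (Lpe (K0.f8177 IH) (Lpe (K0.f8178 IH) (Lpe (K0.f34757 IH) (Lpe (K0.f27912 IH) (Lpe (K0.f34737 IH) (Lpe (K2.f20194 IH) (Lpe (K0.f20189 IH) (Lpe (K0.f20190 IH) (Lpe (f34764 IH) (Lpe (K4.f34765 IH) (Lpe (f34766 IH) (Lpr_gf (f149971 IH) (Lpr_bf (f149973 IH) (Lpe (f36256 IH) (Lpn (LP (LK LD1_c1 LD2_c56 LD3_c31))))))))))))))))))))))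
theorem f156751 : Led Lsl_gf (LP (LK LD1_c1 LD2_c38 LD3_c19)) = (LP (LK LD1_c1 LD2_c56 LD3_c31)) :=
  Lgr Lrot143 (Lpr_dt (f99547 IH) (Lpe (K5.f100421 IH) (Lpe (f100433 IH) (Lpe (f40033 IH) (Lpr_df (f156747 IH) (Lpe (f59430 IH) (Lpe (K6.f56574 IH) (Lpr_gt (f56587 IH) (Lpr_dt (f149982 IH) (Lpn (LP (LK LD1_c1 LD2_c56 LD3_c31))))))))))))
theorem f56842 : Led Lsl_bt (LP (LK LD1_c0 LD2_c38 LD3_c47)) = (LP (LK LD1_c1 LD2_c4 LD3_c60)) :=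
  Lre_b IH (LK LD1_c0 LD2_c38 LD3_c47) (LK LD1_c1 LD2_c4 LD3_c60) Lrfl Lrfl
theorem f56843 : Led Lsl_ct (LP (LK LD1_c0 LD2_c38 LD3_c47)) = (LP (LK LD1_c1 LD2_c23 LD3_c59)) :=
  Lre_c IH (LK LD1_c0 LD2_c38 LD3_c47) (LK LD1_c1 LD2_c23 LD3_c59) Lrfl Lrfl
theorem f56844 : Led Lsl_gt (LP (LK LD1_c1 LD2_c23 LD3_c59)) = (LP (LK LD1_c2 LD2_c21 LD3_c15)) :=
  Lre_g IH (LK LD1_c1 LD2_c23 LD3_c59) (LK LD1_c2 LD2_c21 LD3_c15) Lrfl Lrfl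
theorem f36255 : Led Lsl_bt (LP (LK LD1_c3 LD2_c59 LD3_c41)) = (LP (LK LD1_c1 LD2_c56 LD3_c31)) :=
  Lre_b IH (LK LD1_c3 LD2_c59 LD3_c41) (LK LD1_c1 LD2_c56 LD3_c31) Lrfl Lrfl
theorem f156754 : Led Lsl_cf (LP (LK LD1_c2 LD2_c21 LD3_c15)) = (LP (LK LD1_c3 LD2_c59 LD3_c41)) :=
  Lgr Lrot58 (Lpe (f56844 IH) (Lpe (f56843 IH) (Lpr_bt (f56842 IH) (Lpe (K4.f40100 IH) (Lpe (K4.f40101 IH) (Lpr_ct (K4.f56749 IH) (Lpr_gf (K4.f56834 IH) (Lpe (K4.f40326 IH) (Lpr_gf (f156751 IH) (Lpe (f36255 IH) (Lpn (LP (LK LD1_c3 LD2_c59 LD3_c41)))))))))))))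
theorem f29332 : Led Lsl_bt (LP (LK LD1_c0 LD2_c55 LD3_c26)) = (LP (LK LD1_c1 LD2_c57 LD3_c12)) :=
  Lre_b IH (LK LD1_c0 LD2_c55 LD3_c26) (LK LD1_c1 LD2_c57 LD3_c12) Lrfl Lrfl
theorem f37043 : Led Lsl_ct (LP (LK LD1_c1 LD2_c56 LD3_c27)) = (LP (LK LD1_c0 LD2_c55 LD3_c0)) :=
  Lre_c IH (LK LD1_c1 LD2_c56 LD3_c27) (LK LD1_c0 LD2_c55 LD3_c0) Lrfl Lrfl
theorem f37044 : Led Lsl_bt (LP (LK LD1_c1 LD2_c56 LD3_c27)) = (LP (LK LD1_c3 LD2_c59 LD3_c31)) :=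
  Lre_b IH (LK LD1_c1 LD2_c56 LD3_c27) (LK LD1_c3 LD2_c59 LD3_c31) Lrfl Lrfl
theorem f37045 : Led Lsl_gt (LP (LK LD1_c1 LD2_c57 LD3_c12)) = (LP (LK LD1_c3 LD2_c59 LD3_c31)) :=
  Lgr Lrot164 (Lpe (f29332 IH) (Lpr_ct (K1.f29329 IH) (Lpe (K1.f36913 IH) (Lpr_cf (K1.f36936 IH) (Lpe (K1.f35549 IH) (Lpe (f37041 IH) (Lpr_ct (K1.f35526 IH) (Lpe (K5.f37042 IH) (Lpe (f37043 IH) (Lpr_bt (f37044 IH) (Lpn (LP (LK LD1_c3 LD2_c59 LD3_c31)))))))))))))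
theorem f29330 : Led Lsl_bt (LP (LK LD1_c1 LD2_c57 LD3_c12)) = (LP (LK LD1_c0 LD2_c55 LD3_c26)) :=
  Lre_b IH (LK LD1_c1 LD2_c57 LD3_c12) (LK LD1_c0 LD2_c55 LD3_c26) Lrfl Lrfl
theorem f29333 : Led Lsl_cf (LP (LK LD1_c1 LD2_c57 LD3_c12)) = (LP (LK LD1_c1 LD2_c57 LD3_c12)) :=
  Lgr Lrot97 (Lpr_bt (f29330 IH) (Lpr_ct (K1.f29329 IH) (Lpr_bt (K1.f29327 IH) (Lpr_ct (K1.f29331 IH) (Lpr_bt (f29332 IH) (Lpn (LP (LK LD1_c1 LD2_c57 LD3_c12))))))))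
theorem f26594 : Led Lsl_gt (LP (LK LD1_c1 LD2_c4 LD3_c33)) = (LP (LK LD1_c0 LD2_c29 LD3_c33)) :=
  Lre_g IH (LK LD1_c1 LD2_c4 LD3_c33) (LK LD1_c0 LD2_c29 LD3_c33) Lrfl Lrfl
theorem f35232 : Led Lsl_ct (LP (LK LD1_c2 LD2_c14 LD3_c51)) = (LP (LK LD1_c1 LD2_c4 LD3_c33)) :=
  Lre_c IH (LK LD1_c2 LD2_c14 LD3_c51) (LK LD1_c1 LD2_c4 LD3_c33) Lrfl Lrfl
theorem f37053 : Led Lsl_ct (LP (LK LD1_c8 LD2_c0 LD3_c5)) = (LP (LK LD1_c3 LD2_c59 LD3_c31)) :=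
  Lre_c IH (LK LD1_c8 LD2_c0 LD3_c5) (LK LD1_c3 LD2_c59 LD3_c31) Lrfl Lrfl
theorem f37054 : Led Lsl_bt (LP (LK LD1_c8 LD2_c0 LD3_c5)) = (LP (LK LD1_c3 LD2_c59 LD3_c28)) :=
  Lre_b IH (LK LD1_c8 LD2_c0 LD3_c5) (LK LD1_c3 LD2_c59 LD3_c28) Lrfl Lrfl
theorem f37055 : Led Lsl_gf (LP (LK LD1_c2 LD2_c14 LD3_c51)) = (LP (LK LD1_c3 LD2_c59 LD3_c28)) :=
  Lgr Lrot181 (Lpr_ct (f35232 IH) (Lpr_gt (f26594 IH) (Lpe (K2.f34755 IH) (Lpr_bt (K4.f34747 IH) (Lpr_gt (K1.f34741 IH) (Lpe (f29330 IH) (Lpe (f29333 IH) (Lpr_gt (f37045 IH) (Lpe (f37053 IH) (Lpr_bt (f37054 IH) (Lpn (LP (LK LD1_c3 LD2_c59 LD3_c28)))))))))))))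
theorem f37064 : Led Lsl_ct (LP (LK LD1_c1 LD2_c4 LD3_c33)) = (LP (LK LD1_c2 LD2_c14 LD3_c51)) :=
  Lre_c IH (LK LD1_c1 LD2_c4 LD3_c33) (LK LD1_c2 LD2_c14 LD3_c51) Lrfl Lrfl
theorem f100449 : Led Lsl_bt (LP (LK LD1_c1 LD2_c10 LD3_c46)) = (LP (LK LD1_c1 LD2_c27 LD3_c38)) :=
  Lgr Lrot95 (Lpe (K4.f57099 IH) (Lpe (K2.f40320 IH) (Lpr_df (f100445 IH) (Lpn (LP (LK LD1_c1 LD2_c27 LD3_c38))))))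
theorem f101607 : Led Lsl_bt (LP (LK LD1_c1 LD2_c4 LD3_c33)) = (LP (LK LD1_c1 LD2_c23 LD3_c35)) :=
  Lgr Lrot130 (Lpr_ct (f37064 IH) (Lpr_gf (f37055 IH) (Lpe (K5.f37061 IH) (Lpr_bt (K5.f37065 IH) (Lpr_gf (K5.f101598 IH) (Lpe (f100449 IH) (Lpr_ct (K2.f57100 IH) (Lpe (K2.f56896 IH) (Lpe (K2.f20411 IH) (Lpe (K6.f72574 IH) (Lpn (LP (LK LD1_c1 LD2_c23 LD3_c35)))))))))))))
theorem f35234 : Led Lsl_dt (LP (LK LD1_c2 LD2_c14 LD3_c52)) = (LP (LK LD1_c1 LD2_c4 LD3_c33)) :=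
  Lre_d IH (LK LD1_c2 LD2_c14 LD3_c52) (LK LD1_c1 LD2_c4 LD3_c33) Lrfl Lrfl
theorem f72600 : Led Lsl_dt (LP (LK LD1_c1 LD2_c23 LD3_c35)) = (LP (LK LD1_c2 LD2_c55 LD3_c16)) :=
  Lre_d IH (LK LD1_c1 LD2_c23 LD3_c35) (LK LD1_c2 LD2_c55 LD3_c16) Lrfl Lrfl
theorem f101614 : Led Lsl_bf (LP (LK LD1_c2 LD2_c14 LD3_c52)) = (LP (LK LD1_c2 LD2_c55 LD3_c16)) :=
  Lgr Lrot93 (Lpr_dt (f35234 IH) (Lpr_bt (f101607 IH) (Lpr_dt (f72600 IH) (Lpn (LP (LK LD1_c2 LD2_c55 LD3_c16))))))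
theorem f101619 : Led Lsl_ct (LP (LK LD1_c2 LD2_c14 LD3_c52)) = (LP (LK LD1_c4 LD2_c35 LD3_c19)) :=
  Lre_c IH (LK LD1_c2 LD2_c14 LD3_c52) (LK LD1_c4 LD2_c35 LD3_c19) Lrfl Lrfl
theorem f101620 : Led Lsl_bt (LP (LK LD1_c4 LD2_c35 LD3_c19)) = (LP (LK LD1_c9 LD2_c7 LD3_c12)) :=
  Lre_b IH (LK LD1_c4 LD2_c35 LD3_c19) (LK LD1_c9 LD2_c7 LD3_c12) Lrfl Lrfl
theorem f101621 : Led Lsl_bt (LP (LK LD1_c11 LD2_c40 LD3_c28)) = (LP (LK LD1_c5 LD2_c57 LD3_c51)) :=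
  Lre_b IH (LK LD1_c11 LD2_c40 LD3_c28) (LK LD1_c5 LD2_c57 LD3_c51) Lrfl Lrfl
theorem f101622 : Led Lsl_ct (LP (LK LD1_c9 LD2_c7 LD3_c12)) = (LP (LK LD1_c11 LD2_c40 LD3_c28)) :=
  Lgr Lrot83 (Lpe (f101620 IH) (Lpe (f101619 IH) (Lpr_bf (f101614 IH) (Lpe (K6.f72593 IH) (Lpe (f101621 IH) (Lpn (LP (LK LD1_c11 LD2_c40 LD3_c28))))))))
theorem f150210 : Led Lsl_gt (LP (LK LD1_c6 LD2_c19 LD3_c50)) = (LP (LK LD1_c9 LD2_c7 LD3_c12)) :=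
  Lgr Lrot82 (Lpe (K6.f118704 IH) (Lpe (f125509 IH) (Lpe (f125521 IH) (Lpr_cf (K5.f124538 IH) (Lpr_bt (K5.f124549 IH) (Lpe (f124550 IH) (Lpr_bf (f150201 IH) (Lpe (f130488 IH) (Lpe (K6.f72595 IH) (Lpe (f101622 IH) (Lpn (LP (LK LD1_c9 LD2_c7 LD3_c12)))))))))))))
theorem f114860 : Led Lsl_gt (LP (LK LD1_c1 LD2_c37 LD3_c36)) = (LP (LK LD1_c3 LD2_c16 LD3_c28)) :=
  Lgr Lrot5 (Lpr_ft (K3.f77198 IH) (Lpr_at (K3.f77197 IH) (Lpr_gf (K4.f114858 IH) (Lpn (LP (LK LD1_c3 LD2_c16 LD3_c28))))))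
theorem f104787 : Led Lsl_ct (LP (LK LD1_c4 LD2_c59 LD3_c11)) = (LP (LK LD1_c2 LD2_c27 LD3_c29)) :=
  Lre_c IH (LK LD1_c4 LD2_c59 LD3_c11) (LK LD1_c2 LD2_c27 LD3_c29) Lrfl Lrfl
theorem f101638 : Led Lsl_cf (LP (LK LD1_c9 LD2_c7 LD3_c12)) = (LP (LK LD1_c11 LD2_c40 LD3_c28)) :=
  Lgr Lrot11 (Lpr_ct (f101622 IH) (Lpn (LP (LK LD1_c11 LD2_c40 LD3_c28))))
theorem f150214 : Led Lsl_gf (LP (LK LD1_c4 LD2_c59 LD3_c11)) = (LP (LK LD1_c5 LD2_c57 LD3_c51)) :=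
  Lgr Lrot181 (Lpr_ct (f104787 IH) (Lpr_gt (K4.f26003 IH) (Lpe (K4.f20421 IH) (Lpr_bt (f60982 IH) (Lpr_gt (f114860 IH) (Lpe (K4.f79418 IH) (Lpe (f118754 IH) (Lpr_gt (f150210 IH) (Lpr_cf (f101638 IH) (Lpr_bt (f101621 IH) (Lpn (LP (LK LD1_c5 LD2_c57 LD3_c51)))))))))))))
theorem f72592 : Led Lsl_dt (LP (LK LD1_c11 LD2_c40 LD3_c29)) = (LP (LK LD1_c5 LD2_c57 LD3_c51)) :=
  Lre_d IH (LK LD1_c11 LD2_c40 LD3_c29) (LK LD1_c5 LD2_c57 LD3_c51) Lrfl Lrfl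
theorem f150218 : Led Lsl_gf (LP (LK LD1_c9 LD2_c26 LD3_c3)) = (LP (LK LD1_c11 LD2_c40 LD3_c29)) :=
  Lgr Lrot147 (Lpr_ct (K6.f105055 IH) (Lpr_gt (K6.f14126 IH) (Lpr_ct (K4.f14357 IH) (Lpe (K4.f26444 IH) (Lpe (K0.f20425 IH) (Lpe (K4.f26003 IH) (Lpe (f104787 IH) (Lpr_gf (f150214 IH) (Lpe (f72592 IH) (Lpn (LP (LK LD1_c11 LD2_c40 LD3_c29))))))))))))
theorem f72588 : Led Lsl_ct (LP (LK LD1_c2 LD2_c55 LD3_c16)) = (LP (LK LD1_c5 LD2_c57 LD3_c51)) :=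
  Lre_c IH (LK LD1_c2 LD2_c55 LD3_c16) (LK LD1_c5 LD2_c57 LD3_c51) Lrfl Lrfl
theorem f72589 : Led Lsl_dt (LP (LK LD1_c5 LD2_c57 LD3_c51)) = (LP (LK LD1_c11 LD2_c40 LD3_c29)) :=
  Lre_d IH (LK LD1_c5 LD2_c57 LD3_c51) (LK LD1_c11 LD2_c40 LD3_c29) Lrfl Lrfl
theorem f26529 : Led Lsl_gt (LP (LK LD1_c2 LD2_c55 LD3_c31)) = (LP (LK LD1_c5 LD2_c58 LD3_c22)) :=
  Lre_g IH (LK LD1_c2 LD2_c55 LD3_c31) (LK LD1_c5 LD2_c58 LD3_c22) Lrfl Lrfl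
theorem f72590 : Led Lsl_cf (LP (LK LD1_c11 LD2_c40 LD3_c29)) = (LP (LK LD1_c5 LD2_c58 LD3_c22)) :=
  Lgr Lrot99 (Lpe (f72589 IH) (Lpe (f72588 IH) (Lpr_gf (K6.f72576 IH) (Lpr_cf (K6.f56874 IH) (Lpe (K2.f14399 IH) (Lpe (K2.f40685 IH) (Lpr_gt (K2.f14069 IH) (Lpr_ct (K2.f56977 IH) (Lpr_gt (f26529 IH) (Lpn (LP (LK LD1_c5 LD2_c58 LD3_c22))))))))))))
theorem f72618 : Led Lsl_gt (LP (LK LD1_c1 LD2_c23 LD3_c41)) = (LP (LK LD1_c2 LD2_c55 LD3_c28)) :=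
  Lre_g IH (LK LD1_c1 LD2_c23 LD3_c41) (LK LD1_c2 LD2_c55 LD3_c28) Lrfl Lrfl
theorem f22484 : Led Lsl_bt (LP (LK LD1_c0 LD2_c17 LD3_c0)) = (LP (LK LD1_c0 LD2_c38 LD3_c8)) :=
  Lre_b IH (LK LD1_c0 LD2_c17 LD3_c0) (LK LD1_c0 LD2_c38 LD3_c8) Lrfl Lrfl
theorem f22751 : Led Lsl_gt (LP (LK LD1_c1 LD2_c22 LD3_c17)) = (LP (LK LD1_c0 LD2_c38 LD3_c8)) :=
  Lre_g IH (LK LD1_c1 LD2_c22 LD3_c17) (LK LD1_c0 LD2_c38 LD3_c8) Lrfl Lrfl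
theorem f22752 : Led Lsl_bt (LP (LK LD1_c2 LD2_c52 LD3_c23)) = (LP (LK LD1_c1 LD2_c22 LD3_c17)) :=
  Lre_b IH (LK LD1_c2 LD2_c52 LD3_c23) (LK LD1_c1 LD2_c22 LD3_c17) Lrfl Lrfl
theorem f74555 : Led Lsl_ct (LP (LK LD1_c2 LD2_c52 LD3_c23)) = (LP (LK LD1_c2 LD2_c55 LD3_c28)) :=
  Lgr Lrot63 (Lpr_bt (f22752 IH) (Lpr_gt (f22751 IH) (Lpe (f22484 IH) (Lpe (K1.f22488 IH) (Lpr_gt (K4.f68333 IH) (Lpe (K0.f22826 IH) (Lpr_bt (K4.f23175 IH) (Lpr_gt (K2.f74540 IH) (Lpr_ct (K2.f37293 IH) (Lpr_gt (f72618 IH) (Lpn (LP (LK LD1_c2 LD2_c55 LD3_c28)))))))))))))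
theorem f74721 : Led Lsl_cf (LP (LK LD1_c2 LD2_c52 LD3_c23)) = (LP (LK LD1_c2 LD2_c55 LD3_c28)) :=
  Lgr Lrot11 (Lpr_ct (f74555 IH) (Lpn (LP (LK LD1_c2 LD2_c55 LD3_c28))))
theorem f150224 : Led Lsl_gf (LP (LK LD1_c4 LD2_c58 LD3_c32)) = (LP (LK LD1_c2 LD2_c52 LD3_c23)) :=
  Lgr Lrot104 (Lpr_ct (K6.f139150 IH) (Lpr_df (K6.f137612 IH) (Lpe (K6.f105055 IH) (Lpr_gf (f150218 IH) (Lpr_cf (f72590 IH) (Lpe (f26529 IH) (Lpe (K2.f26530 IH) (Lpr_gt (f72618 IH) (Lpe (f74721 IH) (Lpn (LP (LK LD1_c2 LD2_c52 LD3_c23))))))))))))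
theorem f150227 : Led Lsl_gt (LP (LK LD1_c3 LD2_c59 LD3_c17)) = (LP (LK LD1_c2 LD2_c52 LD3_c23)) :=
  Lgr Lrot5 (Lpr_ft (K6.f139382 IH) (Lpr_at (K6.f74984 IH) (Lpr_gf (f150224 IH) (Lpn (LP (LK LD1_c2 LD2_c52 LD3_c23))))))
theorem f72553 : Led Lsl_gt (LP (LK LD1_c2 LD2_c55 LD3_c28)) = (LP (LK LD1_c1 LD2_c23 LD3_c54)) :=
  Lre_g IH (LK LD1_c2 LD2_c55 LD3_c28) (LK LD1_c1 LD2_c23 LD3_c54) Lrfl Lrfl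
theorem f72538 : Led Lsl_ct (LP (LK LD1_c1 LD2_c23 LD3_c54)) = (LP (LK LD1_c0 LD2_c38 LD3_c45)) :=
  Lre_c IH (LK LD1_c1 LD2_c23 LD3_c54) (LK LD1_c0 LD2_c38 LD3_c45) Lrfl Lrfl
theorem f56888 : Led Lsl_gt (LP (LK LD1_c1 LD2_c23 LD3_c34)) = (LP (LK LD1_c0 LD2_c38 LD3_c44)) :=
  Lre_g IH (LK LD1_c1 LD2_c23 LD3_c34) (LK LD1_c0 LD2_c38 LD3_c44) Lrfl Lrfl
theorem f26553 : Led Lsl_ct (LP (LK LD1_c1 LD2_c22 LD3_c14)) = (LP (LK LD1_c1 LD2_c23 LD3_c34)) :=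
  Lre_c IH (LK LD1_c1 LD2_c22 LD3_c14) (LK LD1_c1 LD2_c23 LD3_c34) Lrfl Lrfl
theorem f150229 : Led Lsl_gt (LP (LK LD1_c1 LD2_c56 LD3_c22)) = (LP (LK LD1_c1 LD2_c22 LD3_c14)) :=
  Lgr Lrot9 (Lpe (K6.f139374 IH) (Lpr_gt (f150227 IH) (Lpr_ct (f74555 IH) (Lpr_gt (f72553 IH) (Lpr_ct (f72538 IH) (Lpe (K2.f72458 IH) (Lpe (K2.f56887 IH) (Lpe (f56888 IH) (Lpe (f26553 IH) (Lpn (LP (LK LD1_c1 LD2_c22 LD3_c14))))))))))))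
theorem f99527 : Led Lsl_at (LP (LK LD1_c1 LD2_c10 LD3_c54)) = (LP (LK LD1_c2 LD2_c27 LD3_c8)) :=
  Lre_a IH (LK LD1_c1 LD2_c10 LD3_c54) (LK LD1_c2 LD2_c27 LD3_c8) Lrfl Lrfl
theorem f150253 : Led Lsl_gf (LP (LK LD1_c2 LD2_c27 LD3_c8)) = (LP (LK LD1_c1 LD2_c22 LD3_c14)) :=
  Lgr Lrot76 (Lpe (f99527 IH) (Lpe (K6.f139399 IH) (Lpr_gt (f150229 IH) (Lpn (LP (LK LD1_c1 LD2_c22 LD3_c14))))))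
theorem f26479 : Led Lsl_gt (LP (LK LD1_c1 LD2_c24 LD3_c0)) = (LP (LK LD1_c2 LD2_c56 LD3_c11)) :=
  Lre_g IH (LK LD1_c1 LD2_c24 LD3_c0) (LK LD1_c2 LD2_c56 LD3_c11) Lrfl Lrfl
theorem f26481 : Led Lsl_gt (LP (LK LD1_c1 LD2_c21 LD3_c43)) = (LP (LK LD1_c0 LD2_c37 LD3_c49)) :=
  Lre_g IH (LK LD1_c1 LD2_c21 LD3_c43) (LK LD1_c0 LD2_c37 LD3_c49) Lrfl Lrfl
theorem f26482 : Led Lsl_bt (LP (LK LD1_c2 LD2_c51 LD3_c18)) = (LP (LK LD1_c1 LD2_c21 LD3_c43)) :=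
  Lre_b IH (LK LD1_c2 LD2_c51 LD3_c18) (LK LD1_c1 LD2_c21 LD3_c43) Lrfl Lrfl
theorem f26483 : Led Lsl_cf (LP (LK LD1_c2 LD2_c56 LD3_c11)) = (LP (LK LD1_c2 LD2_c51 LD3_c18)) :=
  Lgr Lrot163 (Lpe (f26479 IH) (Lpe (K2.f26478 IH) (Lpe (K0.f23682 IH) (Lpe (K0.f23681 IH) (Lpr_ct (K0.f13544 IH) (Lpe (K0.f24025 IH) (Lpr_cf (K0.f26459 IH) (Lpr_bt (K6.f26480 IH) (Lpe (f26481 IH) (Lpe (f26482 IH) (Lpn (LP (LK LD1_c2 LD2_c51 LD3_c18)))))))))))))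
theorem f26524 : Led Lsl_ct (LP (LK LD1_c2 LD2_c56 LD3_c11)) = (LP (LK LD1_c2 LD2_c51 LD3_c18)) :=
  Lgr Lrot59 (Lpr_cf (f26483 IH) (Lpn (LP (LK LD1_c2 LD2_c51 LD3_c18))))
theorem f26544 : Led Lsl_dt (LP (LK LD1_c0 LD2_c7 LD3_c39)) = (LP (LK LD1_c0 LD2_c17 LD3_c14)) :=
  Lre_d IH (LK LD1_c0 LD2_c7 LD3_c39) (LK LD1_c0 LD2_c17 LD3_c14) Lrfl Lrfl
theorem f26540 : Led Lsl_gt (LP (LK LD1_c0 LD2_c38 LD3_c39)) = (LP (LK LD1_c1 LD2_c23 LD3_c34)) :=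
  Lre_g IH (LK LD1_c0 LD2_c38 LD3_c39) (LK LD1_c1 LD2_c23 LD3_c34) Lrfl Lrfl
theorem f22819 : Led Lsl_ct (LP (LK LD1_c1 LD2_c23 LD3_c34)) = (LP (LK LD1_c1 LD2_c22 LD3_c14)) :=
  Lre_c IH (LK LD1_c1 LD2_c23 LD3_c34) (LK LD1_c1 LD2_c22 LD3_c14) Lrfl Lrfl
theorem f26545 : Led Lsl_df (LP (LK LD1_c1 LD2_c22 LD3_c14)) = (LP (LK LD1_c2 LD2_c51 LD3_c18)) :=
  Lgr Lrot162 (Lpe (f22819 IH) (Lpe (f26540 IH) (Lpe (K2.f26539 IH) (Lpe (K2.f20410 IH) (Lpr_dt (f26544 IH) (Lpr_gt (K0.f23682 IH) (Lpr_ct (K2.f26478 IH) (Lpr_gt (f26479 IH) (Lpr_ct (f26524 IH) (Lpn (LP (LK LD1_c2 LD2_c51 LD3_c18))))))))))))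
theorem f156782 : Led Lsl_gf (LP (LK LD1_c2 LD2_c51 LD3_c18)) = (LP (LK LD1_c3 LD2_c59 LD3_c41)) :=
  Lgr Lrot144 (Lpe (f26545 IH) (Lpe (f150253 IH) (Lpr_dt (K6.f139132 IH) (Lpr_cf (K6.f139146 IH) (Lpr_df (K6.f137612 IH) (Lpe (K6.f99080 IH) (Lpe (K4.f105023 IH) (Lpe (K4.f105024 IH) (Lpr_cf (f156754 IH) (Lpn (LP (LK LD1_c3 LD2_c59 LD3_c41))))))))))))
theorem f26522 : Led Lsl_bt (LP (LK LD1_c2 LD2_c56 LD3_c11)) = (LP (LK LD1_c5 LD2_c59 LD3_c43)) :=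
  Lre_b IH (LK LD1_c2 LD2_c56 LD3_c11) (LK LD1_c5 LD2_c59 LD3_c43) Lrfl Lrfl
theorem f26532 : Led Lsl_gt (LP (LK LD1_c5 LD2_c59 LD3_c43)) = (LP (LK LD1_c11 LD2_c43 LD3_c59)) :=
  Lre_g IH (LK LD1_c5 LD2_c59 LD3_c43) (LK LD1_c11 LD2_c43 LD3_c59) Lrfl Lrfl
theorem f156777 : Led Lsl_ct (LP (LK LD1_c2 LD2_c21 LD3_c15)) = (LP (LK LD1_c3 LD2_c59 LD3_c41)) :=
  Lgr Lrot59 (Lpr_cf (f156754 IH) (Lpn (LP (LK LD1_c3 LD2_c59 LD3_c41))))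
theorem f112617 : Led Lsl_bt (LP (LK LD1_c2 LD2_c56 LD3_c2)) = (LP (LK LD1_c1 LD2_c23 LD3_c59)) :=
  Lre_b IH (LK LD1_c2 LD2_c56 LD3_c2) (LK LD1_c1 LD2_c23 LD3_c59) Lrfl Lrfl
theorem f14116 : Led Lsl_ct (LP (LK LD1_c6 LD2_c35 LD3_c43)) = (LP (LK LD1_c3 LD2_c16 LD3_c13)) :=
  Lre_c IH (LK LD1_c6 LD2_c35 LD3_c43) (LK LD1_c3 LD2_c16 LD3_c13) Lrfl Lrfl
theorem f156825 : Led Lsl_bf (LP (LK LD1_c11 LD2_c43 LD3_c59)) = (LP (LK LD1_c6 LD2_c35 LD3_c43)) :=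
  Lgr Lrot34 (Lpe (f26532 IH) (Lpe (f26522 IH) (Lpr_ct (f26524 IH) (Lpr_gf (f156782 IH) (Lpe (f156777 IH) (Lpe (f56844 IH) (Lpe (f112617 IH) (Lpr_ct (K4.f14352 IH) (Lpe (f14093 IH) (Lpe (f14116 IH) (Lpn (LP (LK LD1_c6 LD2_c35 LD3_c43)))))))))))))
theorem f96668 : Led Lsl_ct (LP (LK LD1_c3 LD2_c16 LD3_c13)) = (LP (LK LD1_c6 LD2_c35 LD3_c43)) :=
  Lre_c IH (LK LD1_c3 LD2_c16 LD3_c13) (LK LD1_c6 LD2_c35 LD3_c43) Lrfl Lrfl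
theorem f96642 : Led Lsl_ct (LP (LK LD1_c6 LD2_c42 LD3_c3)) = (LP (LK LD1_c6 LD2_c35 LD3_c42)) :=
  Lgr Lrot59 (Lpr_cf (f96628 IH) (Lpn (LP (LK LD1_c6 LD2_c35 LD3_c42))))
theorem f156831 : Led Lsl_ct (LP (LK LD1_c11 LD2_c43 LD3_c59)) = (LP (LK LD1_c12 LD2_c49 LD3_c11)) :=
  Lgr Lrot83 (Lpr_bf (f156825 IH) (Lpe (f96668 IH) (Lpe (f94127 IH) (Lpe (f96642 IH) (Lpe (f66563 IH) (Lpn (LP (LK LD1_c12 LD2_c49 LD3_c11))))))))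
theorem f156829 : Led Lsl_bt (LP (LK LD1_c11 LD2_c43 LD3_c59)) = (LP (LK LD1_c6 LD2_c35 LD3_c43)) :=
  Lgr Lrot127 (Lpr_bf (f156825 IH) (Lpn (LP (LK LD1_c6 LD2_c35 LD3_c43))))
theorem f151060 : Led Lsl_ff (LP (LK LD1_c6 LD2_c33 LD3_c40)) = (LP (LK LD1_c3 LD2_c16 LD3_c14)) :=
  Lgr Lrot3 (Lpr_ft (f151049 IH) (Lpn (LP (LK LD1_c3 LD2_c16 LD3_c14))))
theorem f151064 : Led Lsl_ft (LP (LK LD1_c12 LD2_c34 LD3_c17)) = (LP (LK LD1_c6 LD2_c35 LD3_c47)) :=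
  Lgr Lrot4 (Lpe (f79230 IH) (Lpr_ff (f151060 IH) (Lpe (f99187 IH) (Lpn (LP (LK LD1_c6 LD2_c35 LD3_c47))))))
theorem f79937 : Led Lsl_ct (LP (LK LD1_c12 LD2_c34 LD3_c14)) = (LP (LK LD1_c6 LD2_c33 LD3_c39)) :=
  Lre_c IH (LK LD1_c12 LD2_c34 LD3_c14) (LK LD1_c6 LD2_c33 LD3_c39) Lrfl Lrfl
theorem f150830 : Led Lsl_at (LP (LK LD1_c6 LD2_c35 LD3_c47)) = (LP (LK LD1_c12 LD2_c34 LD3_c14)) :=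
  Lgr Lrot107 (Lpe (f101905 IH) (Lpr_af (f150823 IH) (Lpe (f79937 IH) (Lpn (LP (LK LD1_c12 LD2_c34 LD3_c14))))))
theorem f79940 : Led Lsl_ct (LP (LK LD1_c6 LD2_c33 LD3_c39)) = (LP (LK LD1_c12 LD2_c34 LD3_c14)) :=
  Lre_c IH (LK LD1_c6 LD2_c33 LD3_c39) (LK LD1_c12 LD2_c34 LD3_c14) Lrfl Lrfl
theorem f150816 : Led Lsl_ff (LP (LK LD1_c6 LD2_c35 LD3_c43)) = (LP (LK LD1_c12 LD2_c34 LD3_c14)) :=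
  Lgr Lrot23 (Lpr_ct (f14116 IH) (Lpr_ft (f150814 IH) (Lpr_ct (f79940 IH) (Lpn (LP (LK LD1_c12 LD2_c34 LD3_c14))))))
theorem f151073 : Led Lsl_af (LP (LK LD1_c12 LD2_c34 LD3_c17)) = (LP (LK LD1_c6 LD2_c35 LD3_c43)) :=
  Lgr Lrot45 (Lpr_ft (f151064 IH) (Lpr_at (f150830 IH) (Lpe (f150816 IH) (Lpn (LP (LK LD1_c6 LD2_c35 LD3_c43))))))
theorem f151077 : Led Lsl_at (LP (LK LD1_c12 LD2_c34 LD3_c17)) = (LP (LK LD1_c6 LD2_c35 LD3_c43)) :=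
  Lgr Lrot100 (Lpr_af (f151073 IH) (Lpn (LP (LK LD1_c6 LD2_c35 LD3_c43))))
theorem f141659 : Led Lsl_ct (LP (LK LD1_c12 LD2_c37 LD3_c37)) = (LP (LK LD1_c6 LD2_c35 LD3_c49)) :=
  Lre_c IH (LK LD1_c12 LD2_c37 LD3_c37) (LK LD1_c6 LD2_c35 LD3_c49) Lrfl Lrfl
theorem f130924 : Led Lsl_ct (LP (LK LD1_c12 LD2_c34 LD3_c15)) = (LP (LK LD1_c21 LD2_c40 LD3_c30)) :=
  Lre_c IH (LK LD1_c12 LD2_c34 LD3_c15) (LK LD1_c21 LD2_c40 LD3_c30) Lrfl Lrfl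
theorem f150840 : Led Lsl_af (LP (LK LD1_c12 LD2_c37 LD3_c37)) = (LP (LK LD1_c21 LD2_c40 LD3_c30)) :=
  Lgr Lrot68 (Lpr_ct (f141659 IH) (Lpr_at (f150834 IH) (Lpr_ct (f130924 IH) (Lpn (LP (LK LD1_c21 LD2_c40 LD3_c30))))))
theorem f150844 : Led Lsl_at (LP (LK LD1_c12 LD2_c37 LD3_c37)) = (LP (LK LD1_c21 LD2_c40 LD3_c30)) :=
  Lgr Lrot100 (Lpr_af (f150840 IH) (Lpn (LP (LK LD1_c21 LD2_c40 LD3_c30))))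
theorem f150848 : Led Lsl_et (LP (LK LD1_c6 LD2_c35 LD3_c47)) = (LP (LK LD1_c12 LD2_c37 LD3_c37)) :=
  Lre_e IH (LK LD1_c6 LD2_c35 LD3_c47) (LK LD1_c12 LD2_c37 LD3_c37) Lrfl Lrfl
theorem f79942 : Led Lsl_et (LP (LK LD1_c21 LD2_c40 LD3_c30)) = (LP (LK LD1_c12 LD2_c34 LD3_c14)) :=
  Lre_e IH (LK LD1_c21 LD2_c40 LD3_c30) (LK LD1_c12 LD2_c34 LD3_c14) Lrfl Lrfl
theorem f150849 : Led Lsl_af (LP (LK LD1_c6 LD2_c35 LD3_c47)) = (LP (LK LD1_c12 LD2_c34 LD3_c14)) :=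
  Lgr Lrot50 (Lpr_et (f150848 IH) (Lpr_at (f150844 IH) (Lpr_et (f79942 IH) (Lpn (LP (LK LD1_c12 LD2_c34 LD3_c14))))))
theorem f151132 : Led Lsl_ff (LP (LK LD1_c12 LD2_c34 LD3_c14)) = (LP (LK LD1_c6 LD2_c35 LD3_c43)) :=
  Lgr Lrot30 (Lpe (f150849 IH) (Lpe (f151053 IH) (Lpr_at (f151077 IH) (Lpn (LP (LK LD1_c6 LD2_c35 LD3_c43))))))
theorem f99238 : Led Lsl_ct (LP (LK LD1_c5 LD2_c59 LD3_c47)) = (LP (LK LD1_c8 LD2_c50 LD3_c29)) :=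
  Lgr Lrot59 (Lpr_cf (K4.f99234 IH) (Lpn (LP (LK LD1_c8 LD2_c50 LD3_c29))))
theorem f99237 : Led Lsl_bt (LP (LK LD1_c5 LD2_c59 LD3_c47)) = (LP (LK LD1_c11 LD2_c44 LD3_c3)) :=
  Lre_b IH (LK LD1_c5 LD2_c59 LD3_c47) (LK LD1_c11 LD2_c44 LD3_c3) Lrfl Lrfl
theorem f99186 : Led Lsl_bt (LP (LK LD1_c2 LD2_c20 LD3_c46)) = (LP (LK LD1_c1 LD2_c7 LD3_c44)) :=
  Lre_b IH (LK LD1_c2 LD2_c20 LD3_c46) (LK LD1_c1 LD2_c7 LD3_c44) Lrfl Lrfl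
theorem f101899 : Led Lsl_gt (LP (LK LD1_c11 LD2_c44 LD3_c3)) = (LP (LK LD1_c6 LD2_c35 LD3_c47)) :=
  Lgr Lrot82 (Lpe (f99237 IH) (Lpr_ct (f99238 IH) (Lpe (K4.f99220 IH) (Lpr_cf (K4.f101893 IH) (Lpr_bt (K4.f99138 IH) (Lpe (K3.f77326 IH) (Lpe (f99186 IH) (Lpr_ct (K4.f14346 IH) (Lpe (K6.f15550 IH) (Lpe (f99187 IH) (Lpn (LP (LK LD1_c6 LD2_c35 LD3_c47)))))))))))))
theorem f151134 : Led Lsl_gf (LP (LK LD1_c11 LD2_c44 LD3_c3)) = (LP (LK LD1_c6 LD2_c35 LD3_c43)) :=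
  Lgr Lrot47 (Lpr_gt (f101899 IH) (Lpr_af (f150849 IH) (Lpr_ff (f151132 IH) (Lpn (LP (LK LD1_c6 LD2_c35 LD3_c43))))))
theorem f78417 : Led Lsl_at (LP (LK LD1_c4 LD2_c46 LD3_c27)) = (LP (LK LD1_c9 LD2_c25 LD3_c31)) :=
  Lre_a IH (LK LD1_c4 LD2_c46 LD3_c27) (LK LD1_c9 LD2_c25 LD3_c31) Lrfl Lrfl
theorem f118954 : Led Lsl_ft (LP (LK LD1_c6 LD2_c48 LD3_c61)) = (LP (LK LD1_c4 LD2_c46 LD3_c27)) :=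
  Lgr Lrot142 (Lpr_dt (K5.f112632 IH) (Lpr_ct (K5.f81803 IH) (Lpr_dt (K5.f112832 IH) (Lpr_ct (K5.f80685 IH) (Lpr_dt (K5.f80693 IH) (Lpr_ct (K5.f80694 IH) (Lpr_dt (K5.f118949 IH) (Lpr_ct (K5.f118946 IH) (Lpe (f78417 IH) (Lpn (LP (LK LD1_c4 LD2_c46 LD3_c27))))))))))))
theorem f118962 : Led Lsl_gt (LP (LK LD1_c8 LD2_c50 LD3_c29)) = (LP (LK LD1_c9 LD2_c25 LD3_c31)) :=
  Lgr Lrot46 (Lpe (K4.f99220 IH) (Lpr_ft (f118954 IH) (Lpr_at (f78417 IH) (Lpn (LP (LK LD1_c9 LD2_c25 LD3_c31))))))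
theorem f13748 : Led Lsl_bt (LP (LK LD1_c4 LD2_c45 LD3_c13)) = (LP (LK LD1_c2 LD2_c20 LD3_c45)) :=
  Lre_b IH (LK LD1_c4 LD2_c45 LD3_c13) (LK LD1_c2 LD2_c20 LD3_c45) Lrfl Lrfl
theorem f102261 : Led Lsl_at (LP (LK LD1_c9 LD2_c23 LD3_c7)) = (LP (LK LD1_c4 LD2_c45 LD3_c13)) :=
  Lre_a IH (LK LD1_c9 LD2_c23 LD3_c7) (LK LD1_c4 LD2_c45 LD3_c13) Lrfl Lrfl
theorem f78344 : Led Lsl_bt (LP (LK LD1_c1 LD2_c7 LD3_c53)) = (LP (LK LD1_c2 LD2_c21 LD3_c11)) :=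
  Lre_b IH (LK LD1_c1 LD2_c7 LD3_c53) (LK LD1_c2 LD2_c21 LD3_c11) Lrfl Lrfl
theorem f113830 : Led Lsl_at (LP (LK LD1_c2 LD2_c21 LD3_c11)) = (LP (LK LD1_c4 LD2_c46 LD3_c26)) :=
  Lre_a IH (LK LD1_c2 LD2_c21 LD3_c11) (LK LD1_c4 LD2_c46 LD3_c26) Lrfl Lrfl
theorem f113831 : Led Lsl_bf (LP (LK LD1_c9 LD2_c23 LD3_c7)) = (LP (LK LD1_c4 LD2_c46 LD3_c26)) :=
  Lgr Lrot81 (Lpr_at (f102261 IH) (Lpr_bt (f13748 IH) (Lpr_at (K4.f113828 IH) (Lpr_bt (f78344 IH) (Lpr_at (f113830 IH) (Lpn (LP (LK LD1_c4 LD2_c46 LD3_c26))))))))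
theorem f118958 : Led Lsl_ff (LP (LK LD1_c4 LD2_c45 LD3_c10)) = (LP (LK LD1_c2 LD2_c21 LD3_c11)) :=
  Lgr Lrot23 (Lpe (K4.f101893 IH) (Lpr_ft (f118954 IH) (Lpr_ct (K6.f78337 IH) (Lpn (LP (LK LD1_c2 LD2_c21 LD3_c11))))))
theorem f101892 : Led Lsl_at (LP (LK LD1_c4 LD2_c45 LD3_c10)) = (LP (LK LD1_c9 LD2_c23 LD3_c1)) :=
  Lre_a IH (LK LD1_c4 LD2_c45 LD3_c10) (LK LD1_c9 LD2_c23 LD3_c1) Lrfl Lrfl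
theorem f118964 : Led Lsl_ft (LP (LK LD1_c9 LD2_c23 LD3_c1)) = (LP (LK LD1_c4 LD2_c46 LD3_c26)) :=
  Lgr Lrot101 (Lpe (f101892 IH) (Lpr_ff (f118958 IH) (Lpe (K5.f112455 IH) (Lpn (LP (LK LD1_c4 LD2_c46 LD3_c26))))))
theorem f99179 : Led Lsl_et (LP (LK LD1_c4 LD2_c45 LD3_c12)) = (LP (LK LD1_c2 LD2_c20 LD3_c44)) :=
  Lre_e IH (LK LD1_c4 LD2_c45 LD3_c12) (LK LD1_c2 LD2_c20 LD3_c44) Lrfl Lrfl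
theorem f99180 : Led Lsl_et (LP (LK LD1_c3 LD2_c5 LD3_c50)) = (LP (LK LD1_c6 LD2_c17 LD3_c17)) :=
  Lre_e IH (LK LD1_c3 LD2_c5 LD3_c50) (LK LD1_c6 LD2_c17 LD3_c17) Lrfl Lrfl
theorem f99181 : Led Lsl_cf (LP (LK LD1_c4 LD2_c45 LD3_c12)) = (LP (LK LD1_c6 LD2_c17 LD3_c17)) :=
  Lgr Lrot39 (Lpr_et (f99179 IH) (Lpr_ct (K4.f99155 IH) (Lpr_et (f99180 IH) (Lpn (LP (LK LD1_c6 LD2_c17 LD3_c17))))))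
theorem f99190 : Led Lsl_ct (LP (LK LD1_c4 LD2_c45 LD3_c12)) = (LP (LK LD1_c6 LD2_c17 LD3_c17)) :=
  Lgr Lrot59 (Lpr_cf (f99181 IH) (Lpn (LP (LK LD1_c6 LD2_c17 LD3_c17))))
theorem f115022 : Led Lsl_af (LP (LK LD1_c4 LD2_c45 LD3_c12)) = (LP (LK LD1_c2 LD2_c21 LD3_c10)) :=
  Lgr Lrot68 (Lpr_ct (f99190 IH) (Lpr_at (K5.f115012 IH) (Lpe (K5.f78056 IH) (Lpn (LP (LK LD1_c2 LD2_c21 LD3_c10))))))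
theorem f99189 : Led Lsl_bt (LP (LK LD1_c4 LD2_c45 LD3_c12)) = (LP (LK LD1_c9 LD2_c23 LD3_c2)) :=
  Lre_b IH (LK LD1_c4 LD2_c45 LD3_c12) (LK LD1_c9 LD2_c23 LD3_c2) Lrfl Lrfl
theorem f115024 : Led Lsl_at (LP (LK LD1_c9 LD2_c23 LD3_c2)) = (LP (LK LD1_c17 LD2_c19 LD3_c31)) :=
  Lre_a IH (LK LD1_c9 LD2_c23 LD3_c2) (LK LD1_c17 LD2_c19 LD3_c31) Lrfl Lrfl
theorem f115025 : Led Lsl_at (LP (LK LD1_c9 LD2_c25 LD3_c12)) = (LP (LK LD1_c4 LD2_c46 LD3_c20)) :=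
  Lre_a IH (LK LD1_c9 LD2_c25 LD3_c12) (LK LD1_c4 LD2_c46 LD3_c20) Lrfl Lrfl
theorem f115026 : Led Lsl_bt (LP (LK LD1_c17 LD2_c19 LD3_c31)) = (LP (LK LD1_c9 LD2_c25 LD3_c12)) :=
  Lgr Lrot62 (Lpe (f115024 IH) (Lpe (f99189 IH) (Lpr_af (f115022 IH) (Lpe (K5.f78080 IH) (Lpe (f115025 IH) (Lpn (LP (LK LD1_c9 LD2_c25 LD3_c12))))))))
theorem f115041 : Led Lsl_et (LP (LK LD1_c9 LD2_c23 LD3_c1)) = (LP (LK LD1_c17 LD2_c19 LD3_c31)) :=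
  Lre_e IH (LK LD1_c9 LD2_c23 LD3_c1) (LK LD1_c17 LD2_c19 LD3_c31) Lrfl Lrfl
theorem f115042 : Led Lsl_et (LP (LK LD1_c9 LD2_c25 LD3_c12)) = (LP (LK LD1_c4 LD2_c46 LD3_c17)) :=
  Lre_e IH (LK LD1_c9 LD2_c25 LD3_c12) (LK LD1_c4 LD2_c46 LD3_c17) Lrfl Lrfl
theorem f115043 : Led Lsl_bf (LP (LK LD1_c9 LD2_c23 LD3_c1)) = (LP (LK LD1_c4 LD2_c46 LD3_c17)) :=
  Lgr Lrot96 (Lpr_et (f115041 IH) (Lpr_bt (f115026 IH) (Lpr_et (f115042 IH) (Lpn (LP (LK LD1_c4 LD2_c46 LD3_c17))))))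
theorem f118973 : Led Lsl_ff (LP (LK LD1_c4 LD2_c46 LD3_c17)) = (LP (LK LD1_c9 LD2_c23 LD3_c7)) :=
  Lgr Lrot25 (Lpe (f115043 IH) (Lpr_ft (f118964 IH) (Lpe (f113831 IH) (Lpn (LP (LK LD1_c9 LD2_c23 LD3_c7))))))
theorem f113803 : Led Lsl_at (LP (LK LD1_c4 LD2_c46 LD3_c17)) = (LP (LK LD1_c2 LD2_c21 LD3_c8)) :=
  Lre_a IH (LK LD1_c4 LD2_c46 LD3_c17) (LK LD1_c2 LD2_c21 LD3_c8) Lrfl Lrfl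
theorem f78067 : Led Lsl_gt (LP (LK LD1_c4 LD2_c46 LD3_c16)) = (LP (LK LD1_c2 LD2_c21 LD3_c8)) :=
  Lre_g IH (LK LD1_c4 LD2_c46 LD3_c16) (LK LD1_c2 LD2_c21 LD3_c8) Lrfl Lrfl
theorem f118985 : Led Lsl_gf (LP (LK LD1_c4 LD2_c46 LD3_c16)) = (LP (LK LD1_c9 LD2_c23 LD3_c7)) :=
  Lgr Lrot47 (Lpr_gt (f78067 IH) (Lpe (f113803 IH) (Lpr_ff (f118973 IH) (Lpn (LP (LK LD1_c9 LD2_c23 LD3_c7))))))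
theorem f118989 : Led Lsl_ct (LP (LK LD1_c4 LD2_c46 LD3_c16)) = (LP (LK LD1_c9 LD2_c25 LD3_c7)) :=
  Lre_c IH (LK LD1_c4 LD2_c46 LD3_c16) (LK LD1_c9 LD2_c25 LD3_c7) Lrfl Lrfl
theorem f156854 : Led Lsl_gt (LP (LK LD1_c9 LD2_c25 LD3_c7)) = (LP (LK LD1_c12 LD2_c49 LD3_c11)) :=
  Lgr Lrot149 (Lpe (f118989 IH) (Lpr_gf (f118985 IH) (Lpr_bf (f113831 IH) (Lpr_ct (K5.f118946 IH) (Lpe (f118962 IH) (Lpe (f99238 IH) (Lpr_bt (f99237 IH) (Lpr_gf (f151134 IH) (Lpe (f156829 IH) (Lpr_ct (f156831 IH) (Lpn (LP (LK LD1_c12 LD2_c49 LD3_c11)))))))))))))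
theorem f150729 : Led Lsl_dt (LP (LK LD1_c12 LD2_c49 LD3_c11)) = (LP (LK LD1_c17 LD2_c10 LD3_c61)) :=
  Lgr Lrot42 (Lpr_df (f150719 IH) (Lpn (LP (LK LD1_c17 LD2_c10 LD3_c61))))
theorem f12658 : Led Lsl_bt (LP (LK LD1_c0 LD2_c45 LD3_c39)) = (LP (LK LD1_c0 LD2_c20 LD3_c23)) :=
  Lre_b IH (LK LD1_c0 LD2_c45 LD3_c39) (LK LD1_c0 LD2_c20 LD3_c23) Lrfl Lrfl
theorem f16118 : Led Lsl_ct (LP (LK LD1_c3 LD2_c47 LD3_c40)) = (LP (LK LD1_c7 LD2_c36 LD3_c14)) :=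
  Lre_c IH (LK LD1_c3 LD2_c47 LD3_c40) (LK LD1_c7 LD2_c36 LD3_c14) Lrfl Lrfl
theorem f156856 : Led Lsl_bf (LP (LK LD1_c9 LD2_c25 LD3_c7)) = (LP (LK LD1_c7 LD2_c36 LD3_c14)) :=
  Lgr Lrot184 (Lpr_gt (f156854 IH) (Lpr_dt (f150729 IH) (Lpr_ct (f110793 IH) (Lpr_bt (f110774 IH) (Lpr_gt (K4.f110785 IH) (Lpr_dt (K0.f13698 IH) (Lpr_ct (K3.f13697 IH) (Lpr_bt (K4.f77325 IH) (Lpr_gt (K3.f93517 IH) (Lpr_dt (K3.f110197 IH) (Lpe (K3.f110025 IH) (Lpr_bt (f12658 IH) (Lpe (K2.f18146 IH) (Lpr_dt (K2.f18065 IH) (Lpr_ct (K2.f18077 IH) (Lpr_bt (K2.f18085 IH) (Lpr_gt (f18666 IH) (Lpe (f156657 IH) (Lpr_ct (f16118 IH) (Lpn (LP (LK LD1_c7 LD2_c36 LD3_c14))))))))))))))))))))))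
theorem f156859 : Led Lsl_bt (LP (LK LD1_c9 LD2_c25 LD3_c7)) = (LP (LK LD1_c7 LD2_c36 LD3_c14)) :=
  Lgr Lrot127 (Lpr_bf (f156856 IH) (Lpn (LP (LK LD1_c7 LD2_c36 LD3_c14))))
theorem f118990 : Led Lsl_ct (LP (LK LD1_c9 LD2_c25 LD3_c7)) = (LP (LK LD1_c4 LD2_c46 LD3_c16)) :=
  Lre_c IH (LK LD1_c9 LD2_c25 LD3_c7) (LK LD1_c4 LD2_c46 LD3_c16) Lrfl Lrfl
theorem f156883 : Led Lsl_gt (LP (LK LD1_c4 LD2_c48 LD3_c12)) = (LP (LK LD1_c7 LD2_c36 LD3_c14)) :=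
  Lgr Lrot164 (Lpe (K6.f84600 IH) (Lpr_ct (K6.f84599 IH) (Lpe (K6.f142723 IH) (Lpe (K4.f23608 IH) (Lpe (K5.f23618 IH) (Lpe (K5.f124664 IH) (Lpr_ct (K5.f78052 IH) (Lpe (f78067 IH) (Lpe (f118990 IH) (Lpr_bt (f156859 IH) (Lpn (LP (LK LD1_c7 LD2_c36 LD3_c14)))))))))))))
theorem f145278 : Led Lsl_dt (LP (LK LD1_c4 LD2_c48 LD3_c12)) = (LP (LK LD1_c3 LD2_c54 LD3_c13)) :=
  Lgr Lrot42 (Lpr_df (K6.f145274 IH) (Lpn (LP (LK LD1_c3 LD2_c54 LD3_c13))))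
theorem f122985 : Led Lsl_gt (LP (LK LD1_c3 LD2_c54 LD3_c13)) = (LP (LK LD1_c7 LD2_c49 LD3_c60)) :=
  Lre_g IH (LK LD1_c3 LD2_c54 LD3_c13) (LK LD1_c7 LD2_c49 LD3_c60) Lrfl Lrfl
theorem f16109 : Led Lsl_ct (LP (LK LD1_c7 LD2_c36 LD3_c14)) = (LP (LK LD1_c3 LD2_c47 LD3_c40)) :=
  Lre_c IH (LK LD1_c7 LD2_c36 LD3_c14) (LK LD1_c3 LD2_c47 LD3_c40) Lrfl Lrfl
theorem f14756 : Led Lsl_ft (LP (LK LD1_c7 LD2_c36 LD3_c18)) = (LP (LK LD1_c8 LD2_c49 LD3_c39)) :=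
  Lre_f IH (LK LD1_c7 LD2_c36 LD3_c18) (LK LD1_c8 LD2_c49 LD3_c39) Lrfl Lrfl
theorem f16107 : Led Lsl_gt (LP (LK LD1_c7 LD2_c36 LD3_c18)) = (LP (LK LD1_c14 LD2_c20 LD3_c11)) :=
  Lre_g IH (LK LD1_c7 LD2_c36 LD3_c18) (LK LD1_c14 LD2_c20 LD3_c11) Lrfl Lrfl
theorem f16131 : Led Lsl_gf (LP (LK LD1_c13 LD2_c7 LD3_c13)) = (LP (LK LD1_c14 LD2_c20 LD3_c11)) :=
  Lgr Lrot76 (Lpr_af (K0.f16097 IH) (Lpe (f14756 IH) (Lpr_gt (f16107 IH) (Lpn (LP (LK LD1_c14 LD2_c20 LD3_c11))))))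
theorem f156885 : Led Lsl_ct (LP (LK LD1_c7 LD2_c49 LD3_c60)) = (LP (LK LD1_c14 LD2_c20 LD3_c11)) :=
  Lgr Lrot152 (Lpe (f122985 IH) (Lpe (f145278 IH) (Lpr_gt (f156883 IH) (Lpr_ct (f16109 IH) (Lpr_gt (f16108 IH) (Lpr_ct (K0.f16067 IH) (Lpe (K0.f16094 IH) (Lpe (K0.f16095 IH) (Lpr_gf (f16131 IH) (Lpn (LP (LK LD1_c14 LD2_c20 LD3_c11))))))))))))
theorem f16099 : Led Lsl_bt (LP (LK LD1_c7 LD2_c36 LD3_c18)) = (LP (LK LD1_c8 LD2_c48 LD3_c50)) :=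
  Lre_b IH (LK LD1_c7 LD2_c36 LD3_c18) (LK LD1_c8 LD2_c48 LD3_c50) Lrfl Lrfl
theorem f16110 : Led Lsl_gt (LP (LK LD1_c8 LD2_c48 LD3_c50)) = (LP (LK LD1_c4 LD2_c26 LD3_c17)) :=
  Lre_g IH (LK LD1_c8 LD2_c48 LD3_c50) (LK LD1_c4 LD2_c26 LD3_c17) Lrfl Lrfl
theorem f156890 : Led Lsl_bt (LP (LK LD1_c3 LD2_c43 LD3_c11)) = (LP (LK LD1_c4 LD2_c26 LD3_c17)) :=
  Lgr Lrot92 (Lpr_ct (K4.f116082 IH) (Lpe (f148154 IH) (Lpe (f21156 IH) (Lpr_bt (K6.f122981 IH) (Lpr_gt (f122985 IH) (Lpr_ct (f156885 IH) (Lpe (f16131 IH) (Lpe (K0.f16069 IH) (Lpr_bt (f16099 IH) (Lpr_gt (f16110 IH) (Lpn (LP (LK LD1_c4 LD2_c26 LD3_c17)))))))))))))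
theorem f156899 : Led Lsl_ff (LP (LK LD1_c6 LD2_c31 LD3_c23)) = (LP (LK LD1_c4 LD2_c26 LD3_c17)) :=
  Lgr Lrot25 (Lpr_bt (K6.f147436 IH) (Lpe (K6.f146911 IH) (Lpr_bt (f156890 IH) (Lpn (LP (LK LD1_c4 LD2_c26 LD3_c17))))))
theorem f38022 : Led Lsl_gt (LP (LK LD1_c4 LD2_c26 LD3_c17)) = (LP (LK LD1_c2 LD2_c10 LD3_c24)) :=
  Lre_g IH (LK LD1_c4 LD2_c26 LD3_c17) (LK LD1_c2 LD2_c10 LD3_c24) Lrfl Lrfl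
theorem f156921 : Led Lsl_at (LP (LK LD1_c6 LD2_c31 LD3_c23)) = (LP (LK LD1_c4 LD2_c26 LD3_c16)) :=
  Lgr Lrot26 (Lpr_ff (f156899 IH) (Lpr_gt (f38022 IH) (Lpr_gt (f80124 IH) (Lpn (LP (LK LD1_c4 LD2_c26 LD3_c16))))))
theorem f152527 : Led Lsl_bt (LP (LK LD1_c2 LD2_c16 LD3_c4)) = (LP (LK LD1_c3 LD2_c12 LD3_c28)) :=
  Lgr Lrot130 (Lpr_ct (f40600 IH) (Lpe (K5.f40608 IH) (Lpe (K6.f36591 IH) (Lpr_bt (f93460 IH) (Lpe (K3.f63733 IH) (Lpe (f128882 IH) (Lpr_ct (f128886 IH) (Lpr_gf (f152523 IH) (Lpe (f152459 IH) (Lpe (f152525 IH) (Lpn (LP (LK LD1_c3 LD2_c12 LD3_c28)))))))))))))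
theorem f152531 : Led Lsl_bt (LP (LK LD1_c1 LD2_c32 LD3_c41)) = (LP (LK LD1_c3 LD2_c12 LD3_c27)) :=
  Lre_b IH (LK LD1_c1 LD2_c32 LD3_c41) (LK LD1_c3 LD2_c12 LD3_c27) Lrfl Lrfl
theorem f152532 : Led Lsl_df (LP (LK LD1_c2 LD2_c16 LD3_c4)) = (LP (LK LD1_c3 LD2_c12 LD3_c27)) :=
  Lgr Lrot12 (Lpr_bt (f152527 IH) (Lpr_dt (f128889 IH) (Lpr_bt (f152531 IH) (Lpn (LP (LK LD1_c3 LD2_c12 LD3_c27))))))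
theorem f121237 : Led Lsl_bt (LP (LK LD1_c3 LD2_c43 LD3_c10)) = (LP (LK LD1_c1 LD2_c48 LD3_c39)) :=
  Lre_b IH (LK LD1_c3 LD2_c43 LD3_c10) (LK LD1_c1 LD2_c48 LD3_c39) Lrfl Lrfl
theorem f156894 : Led Lsl_df (LP (LK LD1_c3 LD2_c43 LD3_c10)) = (LP (LK LD1_c4 LD2_c26 LD3_c17)) :=
  Lgr Lrot12 (Lpr_bt (f121237 IH) (Lpr_dt (K4.f116088 IH) (Lpr_bt (f156890 IH) (Lpn (LP (LK LD1_c4 LD2_c26 LD3_c17))))))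
theorem f156923 : Led Lsl_cf (LP (LK LD1_c3 LD2_c12 LD3_c27)) = (LP (LK LD1_c3 LD2_c43 LD3_c10)) :=
  Lgr Lrot118 (Lpe (f152532 IH) (Lpr_ct (f40600 IH) (Lpe (K4.f79947 IH) (Lpr_ct (f60862 IH) (Lpr_dt (f79949 IH) (Lpr_ct (f80112 IH) (Lpe (f156921 IH) (Lpr_ff (f156899 IH) (Lpe (f156894 IH) (Lpn (LP (LK LD1_c3 LD2_c43 LD3_c10))))))))))))
theorem f14020 : Led Lsl_dt (LP (LK LD1_c2 LD2_c16 LD3_c9)) = (LP (LK LD1_c4 LD2_c38 LD3_c5)) :=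
  Lre_d IH (LK LD1_c2 LD2_c16 LD3_c9) (LK LD1_c4 LD2_c38 LD3_c5) Lrfl Lrfl
theorem f80028 : Led Lsl_bt (LP (LK LD1_c2 LD2_c16 LD3_c9)) = (LP (LK LD1_c4 LD2_c38 LD3_c3)) :=
  Lre_b IH (LK LD1_c2 LD2_c16 LD3_c9) (LK LD1_c4 LD2_c38 LD3_c3) Lrfl Lrfl
theorem f80029 : Led Lsl_gt (LP (LK LD1_c4 LD2_c38 LD3_c3)) = (LP (LK LD1_c9 LD2_c11 LD3_c47)) :=
  Lre_g IH (LK LD1_c4 LD2_c38 LD3_c3) (LK LD1_c9 LD2_c11 LD3_c47) Lrfl Lrfl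
theorem f118875 : Led Lsl_ff (LP (LK LD1_c6 LD2_c35 LD3_c26)) = (LP (LK LD1_c3 LD2_c16 LD3_c31)) :=
  Lgr Lrot3 (Lpr_ft (K5.f118869 IH) (Lpn (LP (LK LD1_c3 LD2_c16 LD3_c31))))
theorem f118880 : Led Lsl_at (LP (LK LD1_c6 LD2_c35 LD3_c26)) = (LP (LK LD1_c11 LD2_c48 LD3_c60)) :=
  Lgr Lrot66 (Lpr_ff (f118875 IH) (Lpe (K5.f66401 IH) (Lpe (K4.f117797 IH) (Lpn (LP (LK LD1_c11 LD2_c48 LD3_c60))))))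
theorem f64539 : Led Lsl_gt (LP (LK LD1_c3 LD2_c16 LD3_c31)) = (LP (LK LD1_c6 LD2_c36 LD3_c22)) :=
  Lre_g IH (LK LD1_c3 LD2_c16 LD3_c31) (LK LD1_c6 LD2_c36 LD3_c22) Lrfl Lrfl
theorem f118883 : Led Lsl_gf (LP (LK LD1_c11 LD2_c48 LD3_c60)) = (LP (LK LD1_c6 LD2_c36 LD3_c22)) :=
  Lgr Lrot76 (Lpe (f118880 IH) (Lpr_ff (f118875 IH) (Lpr_gt (f64539 IH) (Lpn (LP (LK LD1_c6 LD2_c36 LD3_c22))))))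
theorem f141757 : Led Lsl_ct (LP (LK LD1_c9 LD2_c11 LD3_c47)) = (LP (LK LD1_c6 LD2_c36 LD3_c22)) :=
  Lgr Lrot91 (Lpe (f80029 IH) (Lpe (f80028 IH) (Lpr_ct (K4.f26386 IH) (Lpr_gf (K6.f141752 IH) (Lpe (K6.f139703 IH) (Lpe (K6.f141722 IH) (Lpe (K6.f118856 IH) (Lpe (K4.f117901 IH) (Lpr_ct (K4.f82016 IH) (Lpr_gf (f118883 IH) (Lpn (LP (LK LD1_c6 LD2_c36 LD3_c22)))))))))))))
theorem f59559 : Led Lsl_gt (LP (LK LD1_c0 LD2_c38 LD3_c31)) = (LP (LK LD1_c1 LD2_c23 LD3_c14)) :=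
  Lre_g IH (LK LD1_c0 LD2_c38 LD3_c31) (LK LD1_c1 LD2_c23 LD3_c14) Lrfl Lrfl
theorem f59560 : Led Lsl_ct (LP (LK LD1_c1 LD2_c23 LD3_c14)) = (LP (LK LD1_c2 LD2_c54 LD3_c34)) :=
  Lre_c IH (LK LD1_c1 LD2_c23 LD3_c14) (LK LD1_c2 LD2_c54 LD3_c34) Lrfl Lrfl
theorem f59561 : Led Lsl_gt (LP (LK LD1_c2 LD2_c54 LD3_c34)) = (LP (LK LD1_c5 LD2_c56 LD3_c29)) :=
  Lre_g IH (LK LD1_c2 LD2_c54 LD3_c34) (LK LD1_c5 LD2_c56 LD3_c29) Lrfl Lrfl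
theorem f138011 : Led Lsl_ct (LP (LK LD1_c5 LD2_c56 LD3_c29)) = (LP (LK LD1_c5 LD2_c47 LD3_c28)) :=
  Lgr Lrot151 (Lpe (f59561 IH) (Lpe (f59560 IH) (Lpe (f59559 IH) (Lpr_dt (K2.f24081 IH) (Lpr_gt (K6.f37936 IH) (Lpr_ct (K6.f59536 IH) (Lpr_gt (K6.f59537 IH) (Lpr_ct (K6.f59545 IH) (Lpr_dt (K6.f137999 IH) (Lpn (LP (LK LD1_c5 LD2_c47 LD3_c28))))))))))))
theorem f141766 : Led Lsl_df (LP (LK LD1_c4 LD2_c38 LD3_c3)) = (LP (LK LD1_c2 LD2_c54 LD3_c34)) :=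
  Lgr Lrot155 (Lpr_gt (f80029 IH) (Lpr_ct (f141757 IH) (Lpe (f118883 IH) (Lpr_ct (K4.f117685 IH) (Lpr_dt (K4.f117686 IH) (Lpr_cf (K4.f117501 IH) (Lpe (K6.f138780 IH) (Lpe (f138011 IH) (Lpe (f59561 IH) (Lpn (LP (LK LD1_c2 LD2_c54 LD3_c34))))))))))))
theorem f141773 : Led Lsl_et (LP (LK LD1_c4 LD2_c38 LD3_c3)) = (LP (LK LD1_c9 LD2_c11 LD3_c50)) :=
  Lre_e IH (LK LD1_c4 LD2_c38 LD3_c3) (LK LD1_c9 LD2_c11 LD3_c50) Lrfl Lrfl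
theorem f132558 : Led Lsl_dt (LP (LK LD1_c9 LD2_c11 LD3_c50)) = (LP (LK LD1_c17 LD2_c5 LD3_c39)) :=
  Lre_d IH (LK LD1_c9 LD2_c11 LD3_c50) (LK LD1_c17 LD2_c5 LD3_c39) Lrfl Lrfl
theorem f141774 : Led Lsl_et (LP (LK LD1_c5 LD2_c56 LD3_c31)) = (LP (LK LD1_c2 LD2_c54 LD3_c34)) :=
  Lre_e IH (LK LD1_c5 LD2_c56 LD3_c31) (LK LD1_c2 LD2_c54 LD3_c34) Lrfl Lrfl
theorem f141775 : Led Lsl_dt (LP (LK LD1_c11 LD2_c38 LD3_c21)) = (LP (LK LD1_c5 LD2_c56 LD3_c31)) :=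
  Lre_d IH (LK LD1_c11 LD2_c38 LD3_c21) (LK LD1_c5 LD2_c56 LD3_c31) Lrfl Lrfl
theorem f141776 : Led Lsl_et (LP (LK LD1_c17 LD2_c5 LD3_c39)) = (LP (LK LD1_c11 LD2_c38 LD3_c21)) :=
  Lgr Lrot71 (Lpe (f132558 IH) (Lpe (f141773 IH) (Lpr_df (f141766 IH) (Lpe (f141774 IH) (Lpe (f141775 IH) (Lpn (LP (LK LD1_c11 LD2_c38 LD3_c21))))))))
theorem f141791 : Led Lsl_ef (LP (LK LD1_c17 LD2_c5 LD3_c39)) = (LP (LK LD1_c11 LD2_c38 LD3_c21)) :=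
  Lgr Lrot88 (Lpr_et (f141776 IH) (Lpn (LP (LK LD1_c11 LD2_c38 LD3_c21))))
theorem f141796 : Led Lsl_bt (LP (LK LD1_c17 LD2_c5 LD3_c39)) = (LP (LK LD1_c9 LD2_c11 LD3_c53)) :=
  Lre_b IH (LK LD1_c17 LD2_c5 LD3_c39) (LK LD1_c9 LD2_c11 LD3_c53) Lrfl Lrfl
theorem f141797 : Led Lsl_et (LP (LK LD1_c9 LD2_c11 LD3_c53)) = (LP (LK LD1_c17 LD2_c5 LD3_c41)) :=
  Lre_e IH (LK LD1_c9 LD2_c11 LD3_c53) (LK LD1_c17 LD2_c5 LD3_c41) Lrfl Lrfl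
theorem f141798 : Led Lsl_bt (LP (LK LD1_c17 LD2_c5 LD3_c41)) = (LP (LK LD1_c11 LD2_c38 LD3_c21)) :=
  Lgr Lrot119 (Lpe (f141797 IH) (Lpe (f141796 IH) (Lpr_ef (f141791 IH) (Lpn (LP (LK LD1_c11 LD2_c38 LD3_c21))))))
theorem f141804 : Led Lsl_dt (LP (LK LD1_c9 LD2_c11 LD3_c52)) = (LP (LK LD1_c17 LD2_c5 LD3_c41)) :=
  Lre_d IH (LK LD1_c9 LD2_c11 LD3_c52) (LK LD1_c17 LD2_c5 LD3_c41) Lrfl Lrfl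
theorem f141805 : Led Lsl_bf (LP (LK LD1_c9 LD2_c11 LD3_c52)) = (LP (LK LD1_c5 LD2_c56 LD3_c31)) :=
  Lgr Lrot93 (Lpr_dt (f141804 IH) (Lpr_bt (f141798 IH) (Lpr_dt (f141775 IH) (Lpn (LP (LK LD1_c5 LD2_c56 LD3_c31))))))
theorem f141807 : Led Lsl_bt (LP (LK LD1_c9 LD2_c11 LD3_c52)) = (LP (LK LD1_c5 LD2_c56 LD3_c31)) :=
  Lgr Lrot127 (Lpr_bf (f141805 IH) (Lpn (LP (LK LD1_c5 LD2_c56 LD3_c31))))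
theorem f141828 : Led Lsl_et (LP (LK LD1_c4 LD2_c38 LD3_c5)) = (LP (LK LD1_c9 LD2_c11 LD3_c52)) :=
  Lre_e IH (LK LD1_c4 LD2_c38 LD3_c5) (LK LD1_c9 LD2_c11 LD3_c52) Lrfl Lrfl
theorem f141829 : Led Lsl_bf (LP (LK LD1_c4 LD2_c38 LD3_c5)) = (LP (LK LD1_c2 LD2_c54 LD3_c34)) :=
  Lgr Lrot96 (Lpr_et (f141828 IH) (Lpr_bt (f141807 IH) (Lpr_et (f141774 IH) (Lpn (LP (LK LD1_c2 LD2_c54 LD3_c34))))))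
theorem f83004 : Led Lsl_ct (LP (LK LD1_c2 LD2_c54 LD3_c34)) = (LP (LK LD1_c1 LD2_c23 LD3_c14)) :=
  Lre_c IH (LK LD1_c2 LD2_c54 LD3_c34) (LK LD1_c1 LD2_c23 LD3_c14) Lrfl Lrfl
theorem f62843 : Led Lsl_bt (LP (LK LD1_c3 LD2_c2 LD3_c9)) = (LP (LK LD1_c4 LD2_c39 LD3_c60)) :=
  Lre_b IH (LK LD1_c3 LD2_c2 LD3_c9) (LK LD1_c4 LD2_c39 LD3_c60) Lrfl Lrfl

end

end K7

end

end Cfsg.Agent.Helper28.S1692
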