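import Cfsg.Agent.Lib.Helper28.S1692.Seeds69

set_option autoImplicit false
set_option maxRecDepth 100000
set_option linter.all false

namespace Cfsg.Agent.Helper28.S1692

open Cfsg.Agent.Helper28
open Cfsg.Spor.ON (Gen)

noncomputable section

namespace K70
abbrev LD1_c0 := D1.c0
abbrev LD1_c1 := D1.c1
abbrev LD1_c2 := D1.c2
abbrev LD1_c3 := D1.c3
abbrev LD1_c4 := D1.c4
abbrev LD1_c5 := D1.c5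
abbrev LD1_c6 := D1.c6
abbrev LD1_c7 := D1.c7
abbrev LD1_c8 := D1.c8
abbrev LD1_c9 := D1.c9
abbrev LD1_c10 := D1.c10
abbrev LD1_c11 := D1.c11
abbrev LD1_c12 := D1.c12
abbrev LD1_c13 := D1.c13
abbrev LD1_c14 := D1.c14
abbrev LD1_c15 := D1.c15
abbrev LD1_c16 := D1.c16
abbrev LD1_c17 := D1.c17
abbrev LD1_c18 := D1.c18
abbrev LD1_c19 := D1.c19
abbrev LD1_c20 := D1.c20
abbrev LD1_c21 := D1.c21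
abbrev LD1_c22 := D1.c22
abbrev LD1_c23 := D1.c23
abbrev LD1_c24 := D1.c24
abbrev LD1_c25 := D1.c25
abbrev LD1_c26 := D1.c26
abbrev LD1_c27 := D1.c27
abbrev LD1_c28 := D1.c28
abbrev LD1_c29 := D1.c29
abbrev LD1_c30 := D1.c30
abbrev LD1_c31 := D1.c31
abbrev LD1_c32 := D1.c32
abbrev LD2_c0 := D2.c0
abbrev LD2_c1 := D2.c1
abbrev LD2_c2 := D2.c2
abbrev LD2_c3 := D2.c3
abbrev LD2_c4 := D2.c4
abbrev LD2_c5 := D2.c5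
abbrev LD2_c6 := D2.c6
abbrev LD2_c7 := D2.c7
abbrev LD2_c8 := D2.c8
abbrev LD2_c9 := D2.c9
abbrev LD2_c10 := D2.c10
abbrev LD2_c11 := D2.c11
abbrev LD2_c12 := D2.c12
abbrev LD2_c13 := D2.c13
abbrev LD2_c14 := D2.c14
abbrev LD2_c15 := D2.c15
abbrev LD2_c16 := D2.c16
abbrev LD2_c17 := D2.c17
abbrev LD2_c18 := D2.c18
abbrev LD2_c19 := D2.c19
abbrev LD2_c20 := D2.c20
abbrev LD2_c21 := D2.c21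
abbrev LD2_c22 := D2.c22
abbrev LD2_c23 := D2.c23
abbrev LD2_c24 := D2.c24
abbrev LD2_c25 := D2.c25
abbrev LD2_c26 := D2.c26
abbrev LD2_c27 := D2.c27
abbrev LD2_c28 := D2.c28
abbrev LD2_c29 := D2.c29
abbrev LD2_c30 := D2.c30
abbrev LD2_c31 := D2.c31
abbrev LD2_c32 := D2.c32
abbrev LD2_c33 := D2.c33
abbrev LD2_c34 := D2.c34
abbrev LD2_c35 := D2.c35
abbrev LD2_c36 := D2.c36
abbrev LD2_c37 := D2.c37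
abbrev LD2_c38 := D2.c38
abbrev LD2_c39 := D2.c39
abbrev LD2_c40 := D2.c40
abbrev LD2_c41 := D2.c41
abbrev LD2_c42 := D2.c42
abbrev LD2_c43 := D2.c43
abbrev LD2_c44 := D2.c44
abbrev LD2_c45 := D2.c45
abbrev LD2_c46 := D2.c46
abbrev LD2_c47 := D2.c47
abbrev LD2_c48 := D2.c48
abbrev LD2_c49 := D2.c49
abbrev LD2_c50 := D2.c50
abbrev LD2_c51 := D2.c51
abbrev LD2_c52 := D2.c52
abbrev LD2_c53 := D2.c53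
abbrev LD2_c54 := D2.c54
abbrev LD2_c55 := D2.c55
abbrev LD2_c56 := D2.c56
abbrev LD2_c57 := D2.c57
abbrev LD2_c58 := D2.c58
abbrev LD2_c59 := D2.c59
abbrev LD3_c0 := D3.c0
abbrev LD3_c1 := D3.c1
abbrev LD3_c2 := D3.c2
abbrev LD3_c3 := D3.c3
abbrev LD3_c4 := D3.c4
abbrev LD3_c5 := D3.c5
abbrev LD3_c6 := D3.c6
abbrev LD3_c7 := D3.c7
abbrev LD3_c8 := D3.c8
abbrev LD3_c9 := D3.c9
abbrev LD3_c10 := D3.c10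
abbrev LD3_c11 := D3.c11
abbrev LD3_c12 := D3.c12
abbrev LD3_c13 := D3.c13
abbrev LD3_c14 := D3.c14
abbrev LD3_c15 := D3.c15
abbrev LD3_c16 := D3.c16
abbrev LD3_c17 := D3.c17
abbrev LD3_c18 := D3.c18
abbrev LD3_c19 := D3.c19
abbrev LD3_c20 := D3.c20
abbrev LD3_c21 := D3.c21
abbrev LD3_c22 := D3.c22
abbrev LD3_c23 := D3.c23
abbrev LD3_c24 := D3.c24
abbrev LD3_c25 := D3.c25
abbrev LD3_c26 := D3.c26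
abbrev LD3_c27 := D3.c27
abbrev LD3_c28 := D3.c28
abbrev LD3_c29 := D3.c29
abbrev LD3_c30 := D3.c30
abbrev LD3_c31 := D3.c31
abbrev LD3_c32 := D3.c32
abbrev LD3_c33 := D3.c33
abbrev LD3_c34 := D3.c34
abbrev LD3_c35 := D3.c35
abbrev LD3_c36 := D3.c36
abbrev LD3_c37 := D3.c37
abbrev LD3_c38 := D3.c38
abbrev LD3_c39 := D3.c39
abbrev LD3_c40 := D3.c40
abbrev LD3_c41 := D3.c41
abbrev LD3_c42 := D3.c42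
abbrev LD3_c43 := D3.c43
abbrev LD3_c44 := D3.c44
abbrev LD3_c45 := D3.c45
abbrev LD3_c46 := D3.c46
abbrev LD3_c47 := D3.c47
abbrev LD3_c48 := D3.c48
abbrev LD3_c49 := D3.c49
abbrev LD3_c50 := D3.c50
abbrev LD3_c51 := D3.c51
abbrev LD3_c52 := D3.c52
abbrev LD3_c53 := D3.c53
abbrev LD3_c54 := D3.c54
abbrev LD3_c55 := D3.c55
abbrev LD3_c56 := D3.c56
abbrev LD3_c57 := D3.c57
abbrev LD3_c58 := D3.c58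
abbrev LD3_c59 := D3.c59
abbrev LD3_c60 := D3.c60
abbrev LD3_c61 := D3.c61
abbrev LG_g := Gen.g
abbrev Lsl_gt : Gen × Bool := sl_gt
alias Lfl_gt := fl_gt
alias Lpr_gt := pr_gt
abbrev Lsl_gf : Gen × Bool := sl_gf
alias Lfl_gf := fl_gf
alias Lpr_gf := pr_gf
alias Lre_g := re_g
alias Leoe_g := eoe_g
abbrev LG_a := Gen.a
abbrev Lsl_at : Gen × Bool := sl_at
alias Lfl_at := fl_at
alias Lpr_at := pr_at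
abbrev Lsl_af : Gen × Bool := sl_af
alias Lfl_af := fl_af
alias Lpr_af := pr_af
alias Lre_a := re_a
alias Leoe_a := eoe_a
abbrev LG_b := Gen.b
abbrev Lsl_bt : Gen × Bool := sl_bt
alias Lfl_bt := fl_bt
alias Lpr_bt := pr_bt
abbrev Lsl_bf : Gen × Bool := sl_bf
alias Lfl_bf := fl_bf
alias Lpr_bf := pr_bf
alias Lre_b := re_b
alias Leoe_b := eoe_b
abbrev LG_c := Gen.c
abbrev Lsl_ct : Gen × Bool := sl_ct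
alias Lfl_ct := fl_ct
alias Lpr_ct := pr_ct
abbrev Lsl_cf : Gen × Bool := sl_cf
alias Lfl_cf := fl_cf
alias Lpr_cf := pr_cf
alias Lre_c := re_c
alias Leoe_c := eoe_c
abbrev LG_d := Gen.d
abbrev Lsl_dt : Gen × Bool := sl_dt
alias Lfl_dt := fl_dt
alias Lpr_dt := pr_dt
abbrev Lsl_df : Gen × Bool := sl_df
alias Lfl_df := fl_df
alias Lpr_df := pr_df
alias Lre_d := re_d
alias Leoe_d := eoe_d
abbrev LG_e := Gen.e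
abbrev Lsl_et : Gen × Bool := sl_et
alias Lfl_et := fl_et
alias Lpr_et := pr_et
abbrev Lsl_ef : Gen × Bool := sl_ef
alias Lfl_ef := fl_ef
alias Lpr_ef := pr_ef
alias Lre_e := re_e
alias Leoe_e := eoe_e
abbrev LG_f := Gen.f
abbrev Lsl_ft : Gen × Bool := sl_ft
alias Lfl_ft := fl_ft
alias Lpr_ft := pr_ft
abbrev Lsl_ff : Gen × Bool := sl_ff
alias Lfl_ff := fl_ff
alias Lpr_ff := pr_ff
alias Lre_f := re_f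
alias Leoe_f := eoe_f
abbrev LK := Pt.mk
abbrev LQ : Type := Qt rels S
abbrev LP (p : Pt) : LQ := P p
abbrev Led (l : Gen × Bool) (c : LQ) : LQ := ed l c
abbrev LEOK (x : Gen) (p : Pt) : Prop := EntryOK rels S fwd inv o plet idx x p
alias Lpe := pe
alias Lpn := pn
alias Lgr := gr
alias Lpq := pq
alias Lpqs := pqs
alias Llr := lr
alias Leop := eop
alias Lefun := efun
alias Lecon := econ
theorem Lrfl {α : Sort _} {a : α} : a = a := rfl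
alias Lrot0 := rot0
alias Lrot1 := rot1
alias Lrot2 := rot2
alias Lrot3 := rot3
alias Lrot4 := rot4
alias Lrot5 := rot5
alias Lrot6 := rot6
alias Lrot7 := rot7
alias Lrot8 := rot8
alias Lrot9 := rot9
alias Lrot10 := rot10
alias Lrot11 := rot11
alias Lrot12 := rot12
alias Lrot14 := rot14
alias Lrot15 := rot15
alias Lrot17 := rot17
alias Lrot18 := rot18
alias Lrot19 := rot19
alias Lrot20 := rot20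
alias Lrot21 := rot21
alias Lrot22 := rot22
alias Lrot23 := rot23
alias Lrot24 := rot24
alias Lrot25 := rot25
alias Lrot26 := rot26
alias Lrot27 := rot27
alias Lrot28 := rot28
alias Lrot29 := rot29
alias Lrot30 := rot30
alias Lrot31 := rot31
alias Lrot33 := rot33
alias Lrot34 := rot34
alias Lrot35 := rot35
alias Lrot36 := rot36
alias Lrot37 := rot37
alias Lrot38 := rot38
alias Lrot39 := rot39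
alias Lrot40 := rot40
alias Lrot42 := rot42
alias Lrot43 := rot43
alias Lrot44 := rot44
alias Lrot45 := rot45
alias Lrot46 := rot46
alias Lrot47 := rot47
alias Lrot48 := rot48
alias Lrot49 := rot49
alias Lrot50 := rot50
alias Lrot51 := rot51
alias Lrot52 := rot52
alias Lrot53 := rot53
alias Lrot54 := rot54
alias Lrot55 := rot55
alias Lrot56 := rot56
alias Lrot57 := rot57
alias Lrot58 := rot58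
alias Lrot59 := rot59
alias Lrot60 := rot60
alias Lrot61 := rot61
alias Lrot62 := rot62
alias Lrot63 := rot63
alias Lrot64 := rot64
alias Lrot65 := rot65
alias Lrot66 := rot66
alias Lrot67 := rot67
alias Lrot68 := rot68
alias Lrot69 := rot69
alias Lrot70 := rot70
alias Lrot71 := rot71
alias Lrot72 := rot72
alias Lrot73 := rot73
alias Lrot74 := rot74
alias Lrot75 := rot75
alias Lrot76 := rot76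
alias Lrot77 := rot77
alias Lrot78 := rot78
alias Lrot79 := rot79
alias Lrot80 := rot80
alias Lrot81 := rot81
alias Lrot82 := rot82
alias Lrot83 := rot83
alias Lrot84 := rot84
alias Lrot86 := rot86
alias Lrot87 := rot87
alias Lrot88 := rot88
alias Lrot90 := rot90
alias Lrot91 := rot91
alias Lrot92 := rot92
alias Lrot93 := rot93
alias Lrot94 := rot94
alias Lrot95 := rot95
alias Lrot96 := rot96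
alias Lrot97 := rot97
alias Lrot98 := rot98
alias Lrot99 := rot99
alias Lrot100 := rot100
alias Lrot101 := rot101
alias Lrot102 := rot102
alias Lrot103 := rot103
alias Lrot104 := rot104
alias Lrot105 := rot105
alias Lrot106 := rot106
alias Lrot107 := rot107
alias Lrot108 := rot108
alias Lrot109 := rot109
alias Lrot110 := rot110
alias Lrot111 := rot111
alias Lrot112 := rot112
alias Lrot113 := rot113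
alias Lrot114 := rot114
alias Lrot116 := rot116
alias Lrot117 := rot117
alias Lrot118 := rot118
alias Lrot119 := rot119
alias Lrot120 := rot120
alias Lrot121 := rot121
alias Lrot122 := rot122
alias Lrot123 := rot123
alias Lrot124 := rot124
alias Lrot125 := rot125
alias Lrot126 := rot126
alias Lrot127 := rot127
alias Lrot128 := rot128
alias Lrot129 := rot129
alias Lrot130 := rot130
alias Lrot131 := rot131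
alias Lrot132 := rot132
alias Lrot134 := rot134
alias Lrot135 := rot135
alias Lrot136 := rot136
alias Lrot137 := rot137
alias Lrot138 := rot138
alias Lrot139 := rot139
alias Lrot140 := rot140
alias Lrot141 := rot141
alias Lrot142 := rot142
alias Lrot143 := rot143
alias Lrot144 := rot144
alias Lrot145 := rot145
alias Lrot146 := rot146
alias Lrot147 := rot147
alias Lrot148 := rot148
alias Lrot149 := rot149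
alias Lrot150 := rot150
alias Lrot151 := rot151
alias Lrot152 := rot152
alias Lrot153 := rot153
alias Lrot154 := rot154
alias Lrot155 := rot155
alias Lrot156 := rot156
alias Lrot157 := rot157
alias Lrot158 := rot158
alias Lrot159 := rot159
alias Lrot160 := rot160
alias Lrot161 := rot161
alias Lrot162 := rot162
alias Lrot163 := rot163
alias Lrot164 := rot164
alias Lrot166 := rot166
alias Lrot168 := rot168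
alias Lrot169 := rot169
alias Lrot170 := rot170
alias Lrot171 := rot171
alias Lrot173 := rot173
alias Lrot174 := rot174
alias Lrot175 := rot175
alias Lrot181 := rot181
alias Lrot183 := rot183
alias Lrot186 := rot186
alias Lrot188 := rot188
alias Lrot189 := rot189

section
variable (IH : IHT)
include IH

theorem f752392 : Led Lsl_af (LP (LK LD1_c6 LD2_c8 LD3_c30)) = K69.v16903 :=
  Lgr Lrot0 (Lpr_at (K69.f752391 IH) (Lpn K69.v16903))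
theorem f68841 : Led Lsl_gt (LP (LK LD1_c3 LD2_c0 LD3_c28)) = (LP (LK LD1_c6 LD2_c8 LD3_c30)) :=
  Lre_g IH (LK LD1_c3 LD2_c0 LD3_c28) (LK LD1_c6 LD2_c8 LD3_c30) Lrfl Lrfl
theorem f752394 : Led Lsl_ft (LP (LK LD1_c6 LD2_c8 LD3_c31)) = K69.v16903 :=
  Lgr Lrot2 (Lpr_gt (K67.f68847 IH) (Lpr_gt (f68841 IH) (Lpr_af (f752392 IH) (Lpn K69.v16903))))
theorem f752395 : Led Lsl_ff (LP (LK LD1_c6 LD2_c8 LD3_c31)) = K69.v16903 :=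
  Lgr Lrot3 (Lpr_ft (f752394 IH) (Lpn K69.v16903))
theorem f880828 : Led Lsl_cf K69.v16903 = K67.v35869 :=
  Lgr Lrot108 (Lpe (f752395 IH) (Lpr_ct (K67.f752408 IH) (Lpq (K67.f753499 IH) (Lpr_ft (K67.f880826 IH) (Lpn K67.v35869)))))
theorem f225988 : Led Lsl_ct (LP (LK LD1_c5 LD2_c46 LD3_c11)) = (LP (LK LD1_c2 LD2_c48 LD3_c51)) :=
  Lre_c IH (LK LD1_c5 LD2_c46 LD3_c11) (LK LD1_c2 LD2_c48 LD3_c51) Lrfl Lrfl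
theorem f9139 : Led Lsl_ct (LP (LK LD1_c4 LD2_c33 LD3_c52)) = (LP (LK LD1_c2 LD2_c43 LD3_c19)) :=
  Lre_c IH (LK LD1_c4 LD2_c33 LD3_c52) (LK LD1_c2 LD2_c43 LD3_c19) Lrfl Lrfl
theorem f9109 : Led Lsl_cf (LP (LK LD1_c5 LD2_c27 LD3_c23)) = (LP (LK LD1_c6 LD2_c8 LD3_c29)) :=
  Lgr Lrot39 (Lpr_et (K0.f9059 IH) (Lpr_ct (K54.f9107 IH) (Lpr_et (K69.f9108 IH) (Lpn (LP (LK LD1_c6 LD2_c8 LD3_c29))))))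
def v15773 : LQ := Led Lsl_gf (LP (LK LD1_c5 LD2_c46 LD3_c11))
theorem f741468 : Led Lsl_gf (LP (LK LD1_c5 LD2_c46 LD3_c11)) = v15773 :=
  Lrfl
def v15774 : LQ := Led Lsl_at (LP (LK LD1_c5 LD2_c46 LD3_c11))
theorem f741471 : Led Lsl_at (LP (LK LD1_c5 LD2_c46 LD3_c11)) = v15774 :=
  Lrfl
theorem f225989 : Led Lsl_ct (LP (LK LD1_c2 LD2_c48 LD3_c51)) = (LP (LK LD1_c5 LD2_c46 LD3_c11)) :=
  Lre_c IH (LK LD1_c2 LD2_c48 LD3_c51) (LK LD1_c5 LD2_c46 LD3_c11) Lrfl Lrfl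
theorem f741473 : Led Lsl_cf K55.v4824 = v15774 :=
  Lgr Lrot1 (Lpe (K55.f640480 IH) (Lpr_ct (f225989 IH) (Lpr_at (f741471 IH) (Lpn v15774))))
theorem f26999 : Led Lsl_ct (LP (LK LD1_c2 LD2_c48 LD3_c52)) = (LP (LK LD1_c5 LD2_c46 LD3_c15)) :=
  Lre_c IH (LK LD1_c2 LD2_c48 LD3_c52) (LK LD1_c5 LD2_c46 LD3_c15) Lrfl Lrfl
theorem f741475 : Led Lsl_ft (LP (LK LD1_c5 LD2_c46 LD3_c15)) = v15774 :=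
  Lgr Lrot4 (Lpe (f26999 IH) (Lpr_ff (K55.f640485 IH) (Lpr_cf (f741473 IH) (Lpn v15774))))
theorem f741472 : Led Lsl_af (LP (LK LD1_c5 LD2_c46 LD3_c11)) = v15774 :=
  Lgr Lrot0 (Lpr_at (f741471 IH) (Lpn v15774))
theorem f741478 : Led Lsl_gt (LP (LK LD1_c5 LD2_c46 LD3_c15)) = v15773 :=
  Lgr Lrot5 (Lpr_ft (f741475 IH) (Lpe (f741472 IH) (Lpr_gf (f741468 IH) (Lpn v15773))))
theorem f880783 : (LP (LK LD1_c3 LD2_c58 LD3_c48)) = v15773 :=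
  Lefun (Lecon (Lfl_gf (K67.f689117 IH)) (K67.f880782 IH)) (f741478 IH)
theorem f880803 : Led Lsl_cf (LP (LK LD1_c9 LD2_c15 LD3_c20)) = (LP (LK LD1_c8 LD2_c14 LD3_c41)) :=
  Lgr Lrot169 (Lpr_gt (K69.f9167 IH) (Lpe (f9109 IH) (Lpe (K0.f9111 IH) (Lpe (f9139 IH) (Lpe (K17.f180475 IH) (Lpe (f225988 IH) (Lpr_gf (f741468 IH) (Lpq (f880783 IH) (Lpr_df (K53.f54809 IH) (Lpr_gt (K67.f54836 IH) (Lpn (LP (LK LD1_c8 LD2_c14 LD3_c41)))))))))))))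
theorem f881411 : K69.v16903 = (LP (LK LD1_c9 LD2_c15 LD3_c20)) :=
  Lefun (Lecon (Lfl_cf (f880828 IH)) (K67.f881407 IH)) (Lfl_cf (f880803 IH))
def v16905 : LQ := Led Lsl_et (LP (LK LD1_c6 LD2_c8 LD3_c30))
theorem f752398 : Led Lsl_et (LP (LK LD1_c6 LD2_c8 LD3_c30)) = v16905 :=
  Lrfl
theorem f904332 : Led Lsl_at v16905 = K69.v38760 :=
  Lgr Lrot80 (Lpe (f752398 IH) (Lpr_af (f752392 IH) (Lpqs (f881411 IH) (Lpr_ef (K69.f904331 IH) (Lpn K69.v38760)))))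
theorem f752399 : Led Lsl_ef (LP (LK LD1_c6 LD2_c8 LD3_c30)) = v16905 :=
  Lgr Lrot88 (Lpr_et (f752398 IH) (Lpn v16905))
theorem f9267 : Led Lsl_gt (LP (LK LD1_c6 LD2_c8 LD3_c30)) = (LP (LK LD1_c9 LD2_c15 LD3_c19)) :=
  Lre_g IH (LK LD1_c6 LD2_c8 LD3_c30) (LK LD1_c9 LD2_c15 LD3_c19) Lrfl Lrfl
theorem f421771 : Led Lsl_et (LP (LK LD1_c4 LD2_c39 LD3_c54)) = (LP (LK LD1_c9 LD2_c15 LD3_c19)) :=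
  Lre_e IH (LK LD1_c4 LD2_c39 LD3_c54) (LK LD1_c9 LD2_c15 LD3_c19) Lrfl Lrfl
theorem f186357 : Led Lsl_gt (LP (LK LD1_c6 LD2_c16 LD3_c46)) = (LP (LK LD1_c3 LD2_c5 LD3_c28)) :=
  Lre_g IH (LK LD1_c6 LD2_c16 LD3_c46) (LK LD1_c3 LD2_c5 LD3_c28) Lrfl Lrfl
theorem f176968 : Led Lsl_ft (LP (LK LD1_c9 LD2_c17 LD3_c61)) = (LP (LK LD1_c4 LD2_c41 LD3_c33)) :=
  Lre_f IH (LK LD1_c9 LD2_c17 LD3_c61) (LK LD1_c4 LD2_c41 LD3_c33) Lrfl Lrfl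
theorem f302602 : Led Lsl_gf (LP (LK LD1_c6 LD2_c16 LD3_c46)) = (LP (LK LD1_c9 LD2_c17 LD3_c61)) :=
  Lgr Lrot47 (Lpr_gt (f186357 IH) (Lpr_af (K44.f302565 IH) (Lpe (f176968 IH) (Lpn (LP (LK LD1_c9 LD2_c17 LD3_c61))))))
theorem f752400 : Led Lsl_df (LP (LK LD1_c6 LD2_c16 LD3_c46)) = v16905 :=
  Lgr Lrot132 (Lpr_gf (f302602 IH) (Lpe (K50.f176966 IH) (Lpe (K50.f421764 IH) (Lpe (K50.f421761 IH) (Lpr_dt (K32.f58492 IH) (Lpe (K51.f100209 IH) (Lpe (K46.f25581 IH) (Lpr_et (f421771 IH) (Lpe (f9267 IH) (Lpr_ef (f752399 IH) (Lpn v16905)))))))))))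
theorem f752401 : Led Lsl_dt (LP (LK LD1_c6 LD2_c16 LD3_c46)) = v16905 :=
  Lgr Lrot42 (Lpr_df (f752400 IH) (Lpn v16905))
def v17249 : LQ := Led Lsl_at (LP (LK LD1_c6 LD2_c16 LD3_c46))
theorem f757949 : Led Lsl_at (LP (LK LD1_c6 LD2_c16 LD3_c46)) = v17249 :=
  Lrfl
theorem f757950 : Led Lsl_af (LP (LK LD1_c6 LD2_c16 LD3_c46)) = v17249 :=
  Lgr Lrot0 (Lpr_at (f757949 IH) (Lpn v17249))
theorem f904336 : (LP (LK LD1_c9 LD2_c17 LD3_c60)) = v17249 :=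
  (Llr Lrot44 (Lpr_df (K69.f904334 IH) (Lpe (f904332 IH) (Lpe (f752401 IH) (Lpr_af (f757950 IH) (Lpn v17249)))))).symm
theorem f904337 : Led Lsl_at (LP (LK LD1_c9 LD2_c17 LD3_c60)) = (LP (LK LD1_c6 LD2_c16 LD3_c46)) :=
  Leop (Lpr_af (f757950 IH) (Lpq (f904336 IH) (Lpn (LP (LK LD1_c9 LD2_c17 LD3_c60)))))
theorem seed_2267 : LEOK LG_a (LK LD1_c9 LD2_c17 LD3_c60) :=
  Leoe_a (LK LD1_c9 LD2_c17 LD3_c60) (f904337 IH)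
def v38785 : LQ := Led Lsl_gf (LP (LK LD1_c9 LD2_c15 LD3_c41))
theorem f904489 : Led Lsl_gf (LP (LK LD1_c9 LD2_c15 LD3_c41)) = v38785 :=
  Lrfl
def v38784 : LQ := Led Lsl_gt (LP (LK LD1_c9 LD2_c15 LD3_c41))
theorem f904481 : Led Lsl_gt (LP (LK LD1_c9 LD2_c15 LD3_c41)) = v38784 :=
  Lrfl
theorem f639417 : Led Lsl_bt (LP (LK LD1_c4 LD2_c40 LD3_c7)) = (LP (LK LD1_c9 LD2_c15 LD3_c41)) :=
  Lre_b IH (LK LD1_c4 LD2_c40 LD3_c7) (LK LD1_c9 LD2_c15 LD3_c41) Lrfl Lrfl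
theorem f443754 : Led Lsl_bt (LP (LK LD1_c6 LD2_c8 LD3_c55)) = (LP (LK LD1_c3 LD2_c0 LD3_c47)) :=
  Lre_b IH (LK LD1_c6 LD2_c8 LD3_c55) (LK LD1_c3 LD2_c0 LD3_c47) Lrfl Lrfl
theorem f639418 : Led Lsl_ft (LP (LK LD1_c9 LD2_c15 LD3_c41)) = (LP (LK LD1_c6 LD2_c8 LD3_c55)) :=
  Lgr Lrot75 (Lpe (f639417 IH) (Lpr_ff (K52.f639415 IH) (Lpe (f443754 IH) (Lpn (LP (LK LD1_c6 LD2_c8 LD3_c55))))))
theorem f904482 : Led Lsl_gf (LP (LK LD1_c11 LD2_c34 LD3_c49)) = v38784 :=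
  Lgr Lrot76 (Lpr_af (K56.f712229 IH) (Lpe (f639418 IH) (Lpr_gt (f904481 IH) (Lpn v38784))))
theorem f712201 : Led Lsl_et (LP (LK LD1_c5 LD2_c54 LD3_c29)) = (LP (LK LD1_c11 LD2_c34 LD3_c50)) :=
  Lre_e IH (LK LD1_c5 LD2_c54 LD3_c29) (LK LD1_c11 LD2_c34 LD3_c50) Lrfl Lrfl
theorem f853338 : Led Lsl_gf K66.v9683 = (LP (LK LD1_c11 LD2_c34 LD3_c50)) :=
  Lgr Lrot76 (Lpe (K66.f853272 IH) (Lpe (K66.f853257 IH) (Lpr_gt (K66.f853335 IH) (Lpn (LP (LK LD1_c11 LD2_c34 LD3_c50))))))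
theorem f904483 : Led Lsl_dt K69.v19694 = v38784 :=
  Lgr Lrot136 (Lpe (K69.f781684 IH) (Lpe (K69.f414609 IH) (Lpe (K69.f509432 IH) (Lpr_dt (K69.f509428 IH) (Lpe (K66.f415059 IH) (Lpr_df (K66.f714914 IH) (Lpr_gf (f853338 IH) (Lpe (f712201 IH) (Lpr_dt (K56.f138420 IH) (Lpr_gf (f904482 IH) (Lpn v38784)))))))))))
theorem f904485 : Led Lsl_df K69.v19694 = v38784 :=
  Lgr Lrot38 (Lpr_dt (f904483 IH) (Lpn v38784))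
theorem f750499 : Led Lsl_af (LP (LK LD1_c6 LD2_c2 LD3_c58)) = K69.v16577 :=
  Lgr Lrot45 (Lpr_ft (K69.f750488 IH) (Lpe (K69.f750487 IH) (Lpr_ft (K69.f750498 IH) (Lpn K69.v16577))))
def v16579 : LQ := Led Lsl_dt (LP (LK LD1_c6 LD2_c2 LD3_c58))
theorem f750504 : Led Lsl_dt (LP (LK LD1_c6 LD2_c2 LD3_c58)) = v16579 :=
  Lrfl
theorem f904488 : Led Lsl_at v16579 = v38784 :=
  Lgr Lrot51 (Lpe (f750504 IH) (Lpr_af (f750499 IH) (Lpqs (K69.f901106 IH) (Lpq (K69.f901107 IH) (Lpr_df (f904485 IH) (Lpn v38784))))))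
theorem f904491 : Led Lsl_ff v16579 = v38785 :=
  Lgr Lrot52 (Lpr_at (f904488 IH) (Lpe (f904481 IH) (Lpr_gf (f904489 IH) (Lpn v38785))))
theorem f750505 : Led Lsl_df (LP (LK LD1_c6 LD2_c2 LD3_c58)) = v16579 :=
  Lgr Lrot38 (Lpr_dt (f750504 IH) (Lpn v16579))
theorem f904493 : Led Lsl_dt K69.v16573 = v38785 :=
  Lgr Lrot60 (Lpe (K69.f750488 IH) (Lpr_df (f750505 IH) (Lpr_ff (f904491 IH) (Lpn v38785))))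
theorem f740693 : Led Lsl_ef (LP (LK LD1_c11 LD2_c48 LD3_c31)) = (LP (LK LD1_c11 LD2_c22 LD3_c8)) :=
  Lgr Lrot88 (Lpr_et (K56.f740687 IH) (Lpn (LP (LK LD1_c11 LD2_c22 LD3_c8))))
theorem f446046 : Led Lsl_dt (LP (LK LD1_c4 LD2_c40 LD3_c6)) = (LP (LK LD1_c9 LD2_c15 LD3_c41)) :=
  Lre_d IH (LK LD1_c4 LD2_c40 LD3_c6) (LK LD1_c9 LD2_c15 LD3_c41) Lrfl Lrfl
theorem f904497 : Led Lsl_gf (LP (LK LD1_c11 LD2_c48 LD3_c31)) = (LP (LK LD1_c9 LD2_c15 LD3_c42)) :=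
  Lgr Lrot141 (Lpr_ef (f740693 IH) (Lpr_dt (K56.f750427 IH) (Lpr_gt (K56.f645762 IH) (Lpe (K53.f645464 IH) (Lpr_et (K53.f645458 IH) (Lpr_gt (K56.f750413 IH) (Lpqs (K56.f750426 IH) (Lpqs (K69.f901105 IH) (Lpr_dt (f904493 IH) (Lpe (f904489 IH) (Lpe (f446046 IH) (Lpr_et (K56.f446041 IH) (Lpn (LP (LK LD1_c9 LD2_c15 LD3_c42)))))))))))))))
theorem f904498 : Led Lsl_gt (LP (LK LD1_c9 LD2_c15 LD3_c42)) = (LP (LK LD1_c11 LD2_c48 LD3_c31)) :=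
  Leop (Lpr_gf (f904497 IH) (Lpn (LP (LK LD1_c9 LD2_c15 LD3_c42))))
theorem seed_2268 : LEOK LG_g (LK LD1_c9 LD2_c15 LD3_c42) :=
  Leoe_g (LK LD1_c9 LD2_c15 LD3_c42) (f904498 IH)
def v38796 : LQ := Led Lsl_gf (LP (LK LD1_c9 LD2_c15 LD3_c52))
theorem f904558 : Led Lsl_gf (LP (LK LD1_c9 LD2_c15 LD3_c52)) = v38796 :=
  Lrfl
def v23993 : LQ := Led Lsl_et K58.v4391
theorem f821812 : Led Lsl_et K58.v4391 = v23993 :=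
  Lrfl
theorem f821815 : Led Lsl_ef K58.v4391 = v23993 :=
  Lgr Lrot88 (Lpr_et (f821812 IH) (Lpn v23993))
theorem f904560 : Led Lsl_dt v23993 = v38796 :=
  Lgr Lrot136 (Lpe (f821815 IH) (Lpe (K58.f633110 IH) (Lpe (K58.f98850 IH) (Lpr_dt (K3.f98849 IH) (Lpe (K3.f98832 IH) (Lpr_df (K3.f91469 IH) (Lpr_gf (K3.f98881 IH) (Lpe (K5.f77907 IH) (Lpr_dt (K7.f77913 IH) (Lpr_gf (f904558 IH) (Lpn v38796)))))))))))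
theorem f821817 : Led Lsl_bt (LP (LK LD1_c12 LD2_c28 LD3_c34)) = v23993 :=
  Lgr Lrot119 (Lpe (K52.f707996 IH) (Lpr_bf (K58.f766134 IH) (Lpqs (K58.f770361 IH) (Lpr_ef (f821815 IH) (Lpn v23993)))))
theorem f904562 : Led Lsl_bf (LP (LK LD1_c14 LD2_c44 LD3_c34)) = v38796 :=
  Lgr Lrot93 (Lpe (K65.f772243 IH) (Lpr_bt (f821817 IH) (Lpr_dt (f904560 IH) (Lpn v38796))))
theorem f775764 : Led Lsl_gf K59.v13643 = K58.v6292 :=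
  Lgr Lrot181 (Lpe (K59.f774049 IH) (Lpr_gt (K59.f764851 IH) (Lpe (K59.f670486 IH) (Lpr_bt (K59.f670484 IH) (Lpqs (K59.f772268 IH) (Lpe (K58.f667402 IH) (Lpe (K65.f88683 IH) (Lpr_ct (K65.f775747 IH) (Lpr_gt (K59.f652511 IH) (Lpe (K59.f438364 IH) (Lpr_bt (K58.f652607 IH) (Lpn K58.v6292))))))))))))
theorem f133200 : Led Lsl_ct (LP (LK LD1_c4 LD2_c46 LD3_c14)) = (LP (LK LD1_c9 LD2_c25 LD3_c0)) :=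
  Lre_c IH (LK LD1_c4 LD2_c46 LD3_c14) (LK LD1_c9 LD2_c25 LD3_c0) Lrfl Lrfl
theorem f154654 : Led Lsl_bt (LP (LK LD1_c6 LD2_c22 LD3_c52)) = (LP (LK LD1_c12 LD2_c19 LD3_c9)) :=
  Lre_b IH (LK LD1_c6 LD2_c22 LD3_c52) (LK LD1_c12 LD2_c19 LD3_c9) Lrfl Lrfl
theorem f102192 : Led Lsl_bt (LP (LK LD1_c9 LD2_c28 LD3_c6)) = (LP (LK LD1_c4 LD2_c47 LD3_c32)) :=
  Lre_b IH (LK LD1_c9 LD2_c28 LD3_c6) (LK LD1_c4 LD2_c47 LD3_c32) Lrfl Lrfl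
theorem f154655 : Led Lsl_ct (LP (LK LD1_c12 LD2_c19 LD3_c9)) = (LP (LK LD1_c9 LD2_c28 LD3_c6)) :=
  Lgr Lrot83 (Lpe (f154654 IH) (Lpr_cf (K7.f154649 IH) (Lpe (K7.f102188 IH) (Lpe (K5.f102202 IH) (Lpe (f102192 IH) (Lpn (LP (LK LD1_c9 LD2_c28 LD3_c6))))))))
theorem f154687 : Led Lsl_bt (LP (LK LD1_c12 LD2_c19 LD3_c9)) = (LP (LK LD1_c6 LD2_c22 LD3_c52)) :=
  Lre_b IH (LK LD1_c12 LD2_c19 LD3_c9) (LK LD1_c6 LD2_c22 LD3_c52) Lrfl Lrfl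
theorem f154843 : Led Lsl_gt (LP (LK LD1_c12 LD2_c19 LD3_c4)) = (LP (LK LD1_c21 LD2_c25 LD3_c6)) :=
  Lre_g IH (LK LD1_c12 LD2_c19 LD3_c4) (LK LD1_c21 LD2_c25 LD3_c6) Lrfl Lrfl
theorem f102218 : Led Lsl_gt (LP (LK LD1_c17 LD2_c27 LD3_c43)) = (LP (LK LD1_c9 LD2_c28 LD3_c6)) :=
  Lre_g IH (LK LD1_c17 LD2_c27 LD3_c43) (LK LD1_c9 LD2_c28 LD3_c6) Lrfl Lrfl
theorem f435015 : Led Lsl_ct (LP (LK LD1_c27 LD2_c17 LD3_c48)) = (LP (LK LD1_c17 LD2_c27 LD3_c43)) :=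
  Lre_c IH (LK LD1_c27 LD2_c17 LD3_c48) (LK LD1_c17 LD2_c27 LD3_c43) Lrfl Lrfl
theorem f435024 : Led Lsl_bf (LP (LK LD1_c21 LD2_c25 LD3_c6)) = (LP (LK LD1_c27 LD2_c17 LD3_c48)) :=
  Lgr Lrot34 (Lpe (f154843 IH) (Lpe (K7.f154830 IH) (Lpr_ct (K7.f154806 IH) (Lpe (K7.f154796 IH) (Lpe (K33.f154670 IH) (Lpe (K7.f154648 IH) (Lpe (f154687 IH) (Lpr_ct (f154655 IH) (Lpe (f102218 IH) (Lpe (f435015 IH) (Lpn (LP (LK LD1_c27 LD2_c17 LD3_c48)))))))))))))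
theorem f90522 : Led Lsl_at (LP (LK LD1_c13 LD2_c2 LD3_c5)) = (LP (LK LD1_c22 LD2_c11 LD3_c47)) :=
  Lre_a IH (LK LD1_c13 LD2_c2 LD3_c5) (LK LD1_c22 LD2_c11 LD3_c47) Lrfl Lrfl
theorem f154844 : Led Lsl_gf (LP (LK LD1_c22 LD2_c11 LD3_c47)) = (LP (LK LD1_c21 LD2_c25 LD3_c6)) :=
  Lgr Lrot76 (Lpe (f90522 IH) (Lpr_ff (K7.f154831 IH) (Lpr_gt (f154843 IH) (Lpn (LP (LK LD1_c21 LD2_c25 LD3_c6))))))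
theorem f90504 : Led Lsl_bt (LP (LK LD1_c24 LD2_c30 LD3_c43)) = (LP (LK LD1_c29 LD2_c58 LD3_c46)) :=
  Lgr Lrot127 (Lpr_bf (K6.f90502 IH) (Lpn (LP (LK LD1_c29 LD2_c58 LD3_c46))))
theorem f88721 : Led Lsl_ct (LP (LK LD1_c14 LD2_c44 LD3_c37)) = (LP (LK LD1_c24 LD2_c30 LD3_c43)) :=
  Lre_c IH (LK LD1_c14 LD2_c44 LD3_c37) (LK LD1_c24 LD2_c30 LD3_c43) Lrfl Lrfl
theorem f90540 : Led Lsl_cf (LP (LK LD1_c13 LD2_c16 LD3_c0)) = (LP (LK LD1_c22 LD2_c11 LD3_c47)) :=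
  Lgr Lrot97 (Lpe (K59.f88712 IH) (Lpr_ct (f88721 IH) (Lpr_bt (f90504 IH) (Lpr_ct (K6.f83895 IH) (Lpr_bt (K7.f90534 IH) (Lpn (LP (LK LD1_c22 LD2_c11 LD3_c47))))))))
theorem f88892 : Led Lsl_bt (LP (LK LD1_c7 LD2_c48 LD3_c50)) = (LP (LK LD1_c3 LD2_c53 LD3_c38)) :=
  Lre_b IH (LK LD1_c7 LD2_c48 LD3_c50) (LK LD1_c3 LD2_c53 LD3_c38) Lrfl Lrfl
theorem f88893 : Led Lsl_ff (LP (LK LD1_c7 LD2_c48 LD3_c50)) = (LP (LK LD1_c6 LD2_c59 LD3_c30)) :=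
  Lgr Lrot25 (Lpr_bt (f88892 IH) (Lpr_ft (K7.f88872 IH) (Lpr_bt (K59.f88710 IH) (Lpn (LP (LK LD1_c6 LD2_c59 LD3_c30))))))
theorem f88899 : Led Lsl_ft (LP (LK LD1_c7 LD2_c48 LD3_c50)) = (LP (LK LD1_c6 LD2_c59 LD3_c30)) :=
  Lgr Lrot48 (Lpr_ff (f88893 IH) (Lpn (LP (LK LD1_c6 LD2_c59 LD3_c30))))
theorem f88908 : Led Lsl_at (LP (LK LD1_c14 LD2_c44 LD3_c42)) = (LP (LK LD1_c7 LD2_c48 LD3_c50)) :=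
  Lre_a IH (LK LD1_c14 LD2_c44 LD3_c42) (LK LD1_c7 LD2_c48 LD3_c50) Lrfl Lrfl
theorem f88909 : Led Lsl_ff (LP (LK LD1_c14 LD2_c44 LD3_c42)) = (LP (LK LD1_c13 LD2_c16 LD3_c0)) :=
  Lgr Lrot30 (Lpr_at (f88908 IH) (Lpr_ft (f88899 IH) (Lpr_at (K59.f88711 IH) (Lpn (LP (LK LD1_c13 LD2_c16 LD3_c0))))))
theorem f88913 : Led Lsl_gt (LP (LK LD1_c14 LD2_c44 LD3_c41)) = (LP (LK LD1_c7 LD2_c48 LD3_c50)) :=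
  Lre_g IH (LK LD1_c14 LD2_c44 LD3_c41) (LK LD1_c7 LD2_c48 LD3_c50) Lrfl Lrfl
theorem f88914 : Led Lsl_gf (LP (LK LD1_c14 LD2_c44 LD3_c41)) = (LP (LK LD1_c13 LD2_c16 LD3_c0)) :=
  Lgr Lrot47 (Lpr_gt (f88913 IH) (Lpe (f88908 IH) (Lpr_ff (f88909 IH) (Lpn (LP (LK LD1_c13 LD2_c16 LD3_c0))))))
theorem f88917 : Led Lsl_ct (LP (LK LD1_c24 LD2_c30 LD3_c53)) = (LP (LK LD1_c14 LD2_c44 LD3_c41)) :=
  Lre_c IH (LK LD1_c24 LD2_c30 LD3_c53) (LK LD1_c14 LD2_c44 LD3_c41) Lrfl Lrfl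
theorem f105946 : Led Lsl_bt (LP (LK LD1_c6 LD2_c57 LD3_c56)) = (LP (LK LD1_c13 LD2_c13 LD3_c29)) :=
  Lre_b IH (LK LD1_c6 LD2_c57 LD3_c56) (LK LD1_c13 LD2_c13 LD3_c29) Lrfl Lrfl
theorem f105947 : Led Lsl_gt (LP (LK LD1_c13 LD2_c13 LD3_c29)) = (LP (LK LD1_c22 LD2_c27 LD3_c52)) :=
  Lre_g IH (LK LD1_c13 LD2_c13 LD3_c29) (LK LD1_c22 LD2_c27 LD3_c52) Lrfl Lrfl
theorem f154852 : Led Lsl_bt (LP (LK LD1_c12 LD2_c19 LD3_c4)) = (LP (LK LD1_c6 LD2_c22 LD3_c49)) :=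
  Lre_b IH (LK LD1_c12 LD2_c19 LD3_c4) (LK LD1_c6 LD2_c22 LD3_c49) Lrfl Lrfl
theorem f90515 : Led Lsl_ct (LP (LK LD1_c6 LD2_c59 LD3_c30)) = (LP (LK LD1_c13 LD2_c2 LD3_c5)) :=
  Lgr Lrot59 (Lpr_cf (K7.f90510 IH) (Lpn (LP (LK LD1_c13 LD2_c2 LD3_c5))))
theorem f154853 : Led Lsl_cf (LP (LK LD1_c7 LD2_c48 LD3_c50)) = (LP (LK LD1_c12 LD2_c19 LD3_c4)) :=
  Lgr Lrot108 (Lpr_ft (f88899 IH) (Lpr_ct (f90515 IH) (Lpr_ft (K7.f154841 IH) (Lpn (LP (LK LD1_c12 LD2_c19 LD3_c4))))))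
theorem f154894 : Led Lsl_bf (LP (LK LD1_c22 LD2_c27 LD3_c52)) = (LP (LK LD1_c24 LD2_c30 LD3_c53)) :=
  Lgr Lrot34 (Lpe (f105947 IH) (Lpe (f105946 IH) (Lpr_ct (K11.f105945 IH) (Lpr_gf (K11.f154740 IH) (Lpr_cf (K11.f153282 IH) (Lpr_gf (K7.f154892 IH) (Lpe (f154852 IH) (Lpe (f154853 IH) (Lpe (f88913 IH) (Lpe (f88917 IH) (Lpn (LP (LK LD1_c24 LD2_c30 LD3_c53)))))))))))))
theorem f154712 : Led Lsl_bt (LP (LK LD1_c12 LD2_c19 LD3_c7)) = (LP (LK LD1_c6 LD2_c22 LD3_c51)) :=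
  Lre_b IH (LK LD1_c12 LD2_c19 LD3_c7) (LK LD1_c6 LD2_c22 LD3_c51) Lrfl Lrfl
theorem f154713 : Led Lsl_ft (LP (LK LD1_c13 LD2_c13 LD3_c29)) = (LP (LK LD1_c12 LD2_c19 LD3_c7)) :=
  Lgr Lrot75 (Lpe (f105946 IH) (Lpr_ff (K11.f154706 IH) (Lpe (f154712 IH) (Lpn (LP (LK LD1_c12 LD2_c19 LD3_c7))))))
theorem f154733 : Led Lsl_at (LP (LK LD1_c12 LD2_c19 LD3_c7)) = (LP (LK LD1_c21 LD2_c25 LD3_c12)) :=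
  Lre_a IH (LK LD1_c12 LD2_c19 LD3_c7) (LK LD1_c21 LD2_c25 LD3_c12) Lrfl Lrfl
theorem f154735 : Led Lsl_gt (LP (LK LD1_c22 LD2_c27 LD3_c52)) = (LP (LK LD1_c21 LD2_c25 LD3_c12)) :=
  Lgr Lrot46 (Lpe (f105947 IH) (Lpr_ft (f154713 IH) (Lpr_at (f154733 IH) (Lpn (LP (LK LD1_c21 LD2_c25 LD3_c12))))))
theorem f83949 : Led Lsl_bt (LP (LK LD1_c6 LD2_c57 LD3_c57)) = (LP (LK LD1_c13 LD2_c13 LD3_c30)) :=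
  Lre_b IH (LK LD1_c6 LD2_c57 LD3_c57) (LK LD1_c13 LD2_c13 LD3_c30) Lrfl Lrfl
theorem f83991 : Led Lsl_at (LP (LK LD1_c13 LD2_c13 LD3_c30)) = (LP (LK LD1_c22 LD2_c27 LD3_c55)) :=
  Lre_a IH (LK LD1_c13 LD2_c13 LD3_c30) (LK LD1_c22 LD2_c27 LD3_c55) Lrfl Lrfl
theorem f154721 : Led Lsl_at (LP (LK LD1_c21 LD2_c25 LD3_c12)) = (LP (LK LD1_c12 LD2_c19 LD3_c7)) :=
  Lre_a IH (LK LD1_c21 LD2_c25 LD3_c12) (LK LD1_c12 LD2_c19 LD3_c7) Lrfl Lrfl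
theorem f435002 : Led Lsl_bt (LP (LK LD1_c22 LD2_c27 LD3_c55)) = (LP (LK LD1_c21 LD2_c25 LD3_c12)) :=
  Lgr Lrot62 (Lpe (f83991 IH) (Lpe (f83949 IH) (Lpr_af (K49.f154698 IH) (Lpe (f154712 IH) (Lpe (f154721 IH) (Lpn (LP (LK LD1_c21 LD2_c25 LD3_c12))))))))
theorem f83970 : Led Lsl_bt (LP (LK LD1_c12 LD2_c11 LD3_c44)) = (LP (LK LD1_c21 LD2_c17 LD3_c15)) :=
  Lre_b IH (LK LD1_c12 LD2_c11 LD3_c44) (LK LD1_c21 LD2_c17 LD3_c15) Lrfl Lrfl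
theorem f83971 : Led Lsl_ct (LP (LK LD1_c13 LD2_c13 LD3_c31)) = (LP (LK LD1_c6 LD2_c57 LD3_c58)) :=
  Lre_c IH (LK LD1_c13 LD2_c13 LD3_c31) (LK LD1_c6 LD2_c57 LD3_c58) Lrfl Lrfl
theorem f83972 : Led Lsl_bt (LP (LK LD1_c22 LD2_c27 LD3_c56)) = (LP (LK LD1_c13 LD2_c13 LD3_c31)) :=
  Lre_b IH (LK LD1_c22 LD2_c27 LD3_c56) (LK LD1_c13 LD2_c13 LD3_c31) Lrfl Lrfl
theorem f83973 : Led Lsl_ct (LP (LK LD1_c21 LD2_c17 LD3_c15)) = (LP (LK LD1_c22 LD2_c27 LD3_c56)) :=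
  Lgr Lrot83 (Lpe (f83970 IH) (Lpe (K65.f83969 IH) (Lpr_bf (K59.f83964 IH) (Lpe (f83971 IH) (Lpe (f83972 IH) (Lpn (LP (LK LD1_c22 LD2_c27 LD3_c56))))))))
theorem f83978 : Led Lsl_cf (LP (LK LD1_c21 LD2_c17 LD3_c15)) = (LP (LK LD1_c22 LD2_c27 LD3_c56)) :=
  Lgr Lrot11 (Lpr_ct (f83973 IH) (Lpn (LP (LK LD1_c22 LD2_c27 LD3_c56))))
theorem f83986 : Led Lsl_et (LP (LK LD1_c21 LD2_c17 LD3_c15)) = (LP (LK LD1_c12 LD2_c11 LD3_c42)) :=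
  Lre_e IH (LK LD1_c21 LD2_c17 LD3_c15) (LK LD1_c12 LD2_c11 LD3_c42) Lrfl Lrfl
theorem f83987 : Led Lsl_et (LP (LK LD1_c13 LD2_c13 LD3_c30)) = (LP (LK LD1_c22 LD2_c27 LD3_c56)) :=
  Lre_e IH (LK LD1_c13 LD2_c13 LD3_c30) (LK LD1_c22 LD2_c27 LD3_c56) Lrfl Lrfl
theorem f83988 : Led Lsl_ct (LP (LK LD1_c12 LD2_c11 LD3_c42)) = (LP (LK LD1_c13 LD2_c13 LD3_c30)) :=
  Lgr Lrot15 (Lpe (f83986 IH) (Lpr_cf (f83978 IH) (Lpe (f83987 IH) (Lpn (LP (LK LD1_c13 LD2_c13 LD3_c30))))))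
theorem f83990 : Led Lsl_at (LP (LK LD1_c21 LD2_c17 LD3_c13)) = (LP (LK LD1_c12 LD2_c11 LD3_c42)) :=
  Lre_a IH (LK LD1_c21 LD2_c17 LD3_c13) (LK LD1_c12 LD2_c11 LD3_c42) Lrfl Lrfl
theorem f83992 : Led Lsl_cf (LP (LK LD1_c21 LD2_c17 LD3_c13)) = (LP (LK LD1_c22 LD2_c27 LD3_c55)) :=
  Lgr Lrot1 (Lpr_at (f83990 IH) (Lpr_ct (f83988 IH) (Lpr_at (f83991 IH) (Lpn (LP (LK LD1_c22 LD2_c27 LD3_c55))))))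
theorem f435032 : Led Lsl_gt (LP (LK LD1_c21 LD2_c17 LD3_c13)) = (LP (LK LD1_c17 LD2_c27 LD3_c43)) :=
  Lgr Lrot65 (Lpr_cf (f83992 IH) (Lpr_bt (f435002 IH) (Lpe (f154735 IH) (Lpr_bf (f154894 IH) (Lpr_ct (f88917 IH) (Lpr_gf (f88914 IH) (Lpr_cf (f90540 IH) (Lpr_gf (f154844 IH) (Lpr_bf (f435024 IH) (Lpr_ct (f435015 IH) (Lpn (LP (LK LD1_c17 LD2_c27 LD3_c43)))))))))))))
theorem f102205 : Led Lsl_at (LP (LK LD1_c17 LD2_c27 LD3_c44)) = (LP (LK LD1_c9 LD2_c28 LD3_c6)) :=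
  Lre_a IH (LK LD1_c17 LD2_c27 LD3_c44) (LK LD1_c9 LD2_c28 LD3_c6) Lrfl Lrfl
theorem f435034 : Led Lsl_ft (LP (LK LD1_c21 LD2_c17 LD3_c13)) = (LP (LK LD1_c17 LD2_c27 LD3_c44)) :=
  Lgr Lrot2 (Lpr_gt (f435032 IH) (Lpr_gt (f102218 IH) (Lpe (f102205 IH) (Lpn (LP (LK LD1_c17 LD2_c27 LD3_c44))))))
theorem f84005 : Led Lsl_dt (LP (LK LD1_c29 LD2_c56 LD3_c33)) = (LP (LK LD1_c21 LD2_c17 LD3_c13)) :=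
  Lre_d IH (LK LD1_c29 LD2_c56 LD3_c33) (LK LD1_c21 LD2_c17 LD3_c13) Lrfl Lrfl
theorem f102211 : Led Lsl_dt (LP (LK LD1_c17 LD2_c27 LD3_c44)) = (LP (LK LD1_c27 LD2_c17 LD3_c50)) :=
  Lre_d IH (LK LD1_c17 LD2_c27 LD3_c44) (LK LD1_c27 LD2_c17 LD3_c50) Lrfl Lrfl
theorem f435038 : Led Lsl_ff (LP (LK LD1_c29 LD2_c56 LD3_c33)) = (LP (LK LD1_c27 LD2_c17 LD3_c50)) :=
  Lgr Lrot19 (Lpr_dt (f84005 IH) (Lpr_ft (f435034 IH) (Lpr_dt (f102211 IH) (Lpn (LP (LK LD1_c27 LD2_c17 LD3_c50))))))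
theorem f84004 : Led Lsl_at (LP (LK LD1_c12 LD2_c11 LD3_c42)) = (LP (LK LD1_c21 LD2_c17 LD3_c13)) :=
  Lre_a IH (LK LD1_c12 LD2_c11 LD3_c42) (LK LD1_c21 LD2_c17 LD3_c13) Lrfl Lrfl
theorem f431340 : Led Lsl_at (LP (LK LD1_c17 LD2_c27 LD3_c49)) = (LP (LK LD1_c9 LD2_c28 LD3_c8)) :=
  Lre_a IH (LK LD1_c17 LD2_c27 LD3_c49) (LK LD1_c9 LD2_c28 LD3_c8) Lrfl Lrfl
theorem f431341 : Led Lsl_bt (LP (LK LD1_c21 LD2_c17 LD3_c13)) = (LP (LK LD1_c17 LD2_c27 LD3_c49)) :=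
  Lgr Lrot62 (Lpe (f84004 IH) (Lpe (K49.f25715 IH) (Lpr_af (K65.f431338 IH) (Lpe (K65.f133637 IH) (Lpe (f431340 IH) (Lpn (LP (LK LD1_c17 LD2_c27 LD3_c49))))))))
theorem f431367 : Led Lsl_dt (LP (LK LD1_c17 LD2_c27 LD3_c49)) = (LP (LK LD1_c27 LD2_c17 LD3_c55)) :=
  Lre_d IH (LK LD1_c17 LD2_c27 LD3_c49) (LK LD1_c27 LD2_c17 LD3_c55) Lrfl Lrfl
theorem f431368 : Led Lsl_bf (LP (LK LD1_c29 LD2_c56 LD3_c33)) = (LP (LK LD1_c27 LD2_c17 LD3_c55)) :=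
  Lgr Lrot93 (Lpr_dt (f84005 IH) (Lpr_bt (f431341 IH) (Lpr_dt (f431367 IH) (Lpn (LP (LK LD1_c27 LD2_c17 LD3_c55))))))
theorem f431372 : Led Lsl_bt (LP (LK LD1_c29 LD2_c56 LD3_c33)) = (LP (LK LD1_c27 LD2_c17 LD3_c55)) :=
  Lgr Lrot127 (Lpr_bf (f431368 IH) (Lpn (LP (LK LD1_c27 LD2_c17 LD3_c55))))
theorem f113626 : Led Lsl_bt (LP (LK LD1_c17 LD2_c27 LD3_c45)) = (LP (LK LD1_c9 LD2_c28 LD3_c7)) :=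
  Lre_b IH (LK LD1_c17 LD2_c27 LD3_c45) (LK LD1_c9 LD2_c28 LD3_c7) Lrfl Lrfl
theorem f133237 : Led Lsl_at (LP (LK LD1_c27 LD2_c17 LD3_c50)) = (LP (LK LD1_c17 LD2_c27 LD3_c45)) :=
  Lre_a IH (LK LD1_c27 LD2_c17 LD3_c50) (LK LD1_c17 LD2_c27 LD3_c45) Lrfl Lrfl
theorem f113495 : Led Lsl_bt (LP (LK LD1_c9 LD2_c15 LD3_c58)) = (LP (LK LD1_c17 LD2_c10 LD3_c27)) :=
  Lre_b IH (LK LD1_c9 LD2_c15 LD3_c58) (LK LD1_c17 LD2_c10 LD3_c27) Lrfl Lrfl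
theorem f133238 : Led Lsl_at (LP (LK LD1_c17 LD2_c10 LD3_c27)) = (LP (LK LD1_c27 LD2_c1 LD3_c50)) :=
  Lre_a IH (LK LD1_c17 LD2_c10 LD3_c27) (LK LD1_c27 LD2_c1 LD3_c50) Lrfl Lrfl
theorem f133239 : Led Lsl_bf (LP (LK LD1_c27 LD2_c17 LD3_c50)) = (LP (LK LD1_c27 LD2_c1 LD3_c50)) :=
  Lgr Lrot81 (Lpr_at (f133237 IH) (Lpr_bt (f113626 IH) (Lpr_at (K5.f133233 IH) (Lpr_bt (f113495 IH) (Lpr_at (f133238 IH) (Lpn (LP (LK LD1_c27 LD2_c1 LD3_c50))))))))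
theorem f435049 : Led Lsl_ft (LP (LK LD1_c27 LD2_c17 LD3_c55)) = (LP (LK LD1_c27 LD2_c1 LD3_c50)) :=
  Lgr Lrot75 (Lpe (f431372 IH) (Lpr_ff (f435038 IH) (Lpr_bf (f133239 IH) (Lpn (LP (LK LD1_c27 LD2_c1 LD3_c50))))))
theorem f435054 : Led Lsl_ff (LP (LK LD1_c27 LD2_c17 LD3_c55)) = (LP (LK LD1_c27 LD2_c1 LD3_c50)) :=
  Lgr Lrot3 (Lpr_ft (f435049 IH) (Lpn (LP (LK LD1_c27 LD2_c1 LD3_c50))))
theorem f431377 : Led Lsl_dt (LP (LK LD1_c27 LD2_c17 LD3_c55)) = (LP (LK LD1_c17 LD2_c27 LD3_c49)) :=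
  Lre_d IH (LK LD1_c27 LD2_c17 LD3_c55) (LK LD1_c17 LD2_c27 LD3_c49) Lrfl Lrfl
theorem f79555 : Led Lsl_dt (LP (LK LD1_c17 LD2_c10 LD3_c26)) = (LP (LK LD1_c27 LD2_c1 LD3_c50)) :=
  Lre_d IH (LK LD1_c17 LD2_c10 LD3_c26) (LK LD1_c27 LD2_c1 LD3_c50) Lrfl Lrfl
theorem f435060 : Led Lsl_ft (LP (LK LD1_c17 LD2_c27 LD3_c49)) = (LP (LK LD1_c17 LD2_c10 LD3_c26)) :=
  Lgr Lrot54 (Lpe (f431377 IH) (Lpr_ff (f435054 IH) (Lpe (f79555 IH) (Lpn (LP (LK LD1_c17 LD2_c10 LD3_c26))))))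
theorem f435040 : Led Lsl_ff (LP (LK LD1_c21 LD2_c17 LD3_c13)) = (LP (LK LD1_c17 LD2_c27 LD3_c44)) :=
  Lgr Lrot3 (Lpr_ft (f435034 IH) (Lpn (LP (LK LD1_c17 LD2_c27 LD3_c44))))
theorem f435064 : Led Lsl_bf (LP (LK LD1_c17 LD2_c27 LD3_c44)) = (LP (LK LD1_c17 LD2_c10 LD3_c26)) :=
  Lgr Lrot61 (Lpe (f435040 IH) (Lpr_bt (f431341 IH) (Lpr_ft (f435060 IH) (Lpn (LP (LK LD1_c17 LD2_c10 LD3_c26))))))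
theorem f91335 : Led Lsl_ct (LP (LK LD1_c9 LD2_c22 LD3_c60)) = (LP (LK LD1_c4 LD2_c45 LD3_c9)) :=
  Lre_c IH (LK LD1_c9 LD2_c22 LD3_c60) (LK LD1_c4 LD2_c45 LD3_c9) Lrfl Lrfl
theorem f102190 : Led Lsl_et (LP (LK LD1_c4 LD2_c47 LD3_c32)) = (LP (LK LD1_c9 LD2_c22 LD3_c60)) :=
  Lgr Lrot158 (Lpe (K5.f7476 IH) (Lpr_ef (K5.f102186 IH) (Lpe (f91335 IH) (Lpn (LP (LK LD1_c9 LD2_c22 LD3_c60))))))
theorem f102197 : Led Lsl_ef (LP (LK LD1_c4 LD2_c47 LD3_c32)) = (LP (LK LD1_c9 LD2_c22 LD3_c60)) :=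
  Lgr Lrot88 (Lpr_et (f102190 IH) (Lpn (LP (LK LD1_c9 LD2_c22 LD3_c60))))
theorem f91336 : Led Lsl_bt (LP (LK LD1_c17 LD2_c19 LD3_c28)) = (LP (LK LD1_c9 LD2_c22 LD3_c60)) :=
  Lre_b IH (LK LD1_c17 LD2_c19 LD3_c28) (LK LD1_c9 LD2_c22 LD3_c60) Lrfl Lrfl
theorem f102200 : Led Lsl_et (LP (LK LD1_c9 LD2_c28 LD3_c6)) = (LP (LK LD1_c17 LD2_c19 LD3_c28)) :=
  Lgr Lrot74 (Lpe (K49.f7477 IH) (Lpr_ef (f102197 IH) (Lpe (f91336 IH) (Lpn (LP (LK LD1_c17 LD2_c19 LD3_c28))))))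
theorem f102206 : Led Lsl_at (LP (LK LD1_c17 LD2_c19 LD3_c28)) = (LP (LK LD1_c27 LD2_c9 LD3_c10)) :=
  Lre_a IH (LK LD1_c17 LD2_c19 LD3_c28) (LK LD1_c27 LD2_c9 LD3_c10) Lrfl Lrfl
theorem f102207 : Led Lsl_ef (LP (LK LD1_c17 LD2_c27 LD3_c44)) = (LP (LK LD1_c27 LD2_c9 LD3_c10)) :=
  Lgr Lrot20 (Lpr_at (f102205 IH) (Lpr_et (f102200 IH) (Lpr_at (f102206 IH) (Lpn (LP (LK LD1_c27 LD2_c9 LD3_c10))))))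
theorem f102212 : Led Lsl_et (LP (LK LD1_c17 LD2_c27 LD3_c44)) = (LP (LK LD1_c27 LD2_c9 LD3_c10)) :=
  Lgr Lrot87 (Lpr_ef (f102207 IH) (Lpn (LP (LK LD1_c27 LD2_c9 LD3_c10))))
theorem f79509 : Led Lsl_ct (LP (LK LD1_c4 LD2_c46 LD3_c13)) = (LP (LK LD1_c2 LD2_c21 LD3_c6)) :=
  Lre_c IH (LK LD1_c4 LD2_c46 LD3_c13) (LK LD1_c2 LD2_c21 LD3_c6) Lrfl Lrfl
theorem f79510 : Led Lsl_ef (LP (LK LD1_c4 LD2_c46 LD3_c13)) = (LP (LK LD1_c4 LD2_c40 LD3_c16)) :=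
  Lgr Lrot28 (Lpr_ct (f79509 IH) (Lpr_et (K57.f79505 IH) (Lpr_ct (K5.f78262 IH) (Lpn (LP (LK LD1_c4 LD2_c40 LD3_c16))))))
theorem f79515 : Led Lsl_bt (LP (LK LD1_c4 LD2_c46 LD3_c13)) = (LP (LK LD1_c9 LD2_c24 LD3_c60)) :=
  Lre_b IH (LK LD1_c4 LD2_c46 LD3_c13) (LK LD1_c9 LD2_c24 LD3_c60) Lrfl Lrfl
theorem f79516 : Led Lsl_bt (LP (LK LD1_c9 LD2_c15 LD3_c57)) = (LP (LK LD1_c4 LD2_c40 LD3_c16)) :=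
  Lre_b IH (LK LD1_c9 LD2_c15 LD3_c57) (LK LD1_c4 LD2_c40 LD3_c16) Lrfl Lrfl
theorem f79517 : Led Lsl_et (LP (LK LD1_c9 LD2_c24 LD3_c60)) = (LP (LK LD1_c9 LD2_c15 LD3_c57)) :=
  Lgr Lrot74 (Lpe (f79515 IH) (Lpr_ef (f79510 IH) (Lpe (f79516 IH) (Lpn (LP (LK LD1_c9 LD2_c15 LD3_c57))))))
theorem f79534 : Led Lsl_ef (LP (LK LD1_c9 LD2_c24 LD3_c60)) = (LP (LK LD1_c9 LD2_c15 LD3_c57)) :=
  Lgr Lrot88 (Lpr_et (f79517 IH) (Lpn (LP (LK LD1_c9 LD2_c15 LD3_c57))))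
theorem f79540 : Led Lsl_at (LP (LK LD1_c9 LD2_c24 LD3_c60)) = (LP (LK LD1_c17 LD2_c22 LD3_c15)) :=
  Lre_a IH (LK LD1_c9 LD2_c24 LD3_c60) (LK LD1_c17 LD2_c22 LD3_c15) Lrfl Lrfl
theorem f79541 : Led Lsl_at (LP (LK LD1_c17 LD2_c10 LD3_c26)) = (LP (LK LD1_c9 LD2_c15 LD3_c57)) :=
  Lre_a IH (LK LD1_c17 LD2_c10 LD3_c26) (LK LD1_c9 LD2_c15 LD3_c57) Lrfl Lrfl
theorem f79542 : Led Lsl_et (LP (LK LD1_c17 LD2_c22 LD3_c15)) = (LP (LK LD1_c17 LD2_c10 LD3_c26)) :=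
  Lgr Lrot123 (Lpe (f79540 IH) (Lpr_ef (f79534 IH) (Lpe (f79541 IH) (Lpn (LP (LK LD1_c17 LD2_c10 LD3_c26))))))
theorem f435070 : Led Lsl_bt (LP (LK LD1_c27 LD2_c9 LD3_c10)) = (LP (LK LD1_c17 LD2_c22 LD3_c15)) :=
  Lgr Lrot119 (Lpe (f102212 IH) (Lpr_bf (f435064 IH) (Lpe (f79542 IH) (Lpn (LP (LK LD1_c17 LD2_c22 LD3_c15))))))
theorem f91340 : Led Lsl_bt (LP (LK LD1_c9 LD2_c22 LD3_c60)) = (LP (LK LD1_c17 LD2_c19 LD3_c28)) :=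
  Lre_b IH (LK LD1_c9 LD2_c22 LD3_c60) (LK LD1_c17 LD2_c19 LD3_c28) Lrfl Lrfl
theorem f79527 : Led Lsl_at (LP (LK LD1_c17 LD2_c22 LD3_c15)) = (LP (LK LD1_c9 LD2_c24 LD3_c60)) :=
  Lre_a IH (LK LD1_c17 LD2_c22 LD3_c15) (LK LD1_c9 LD2_c24 LD3_c60) Lrfl Lrfl
theorem f79544 : Led Lsl_bt (LP (LK LD1_c9 LD2_c24 LD3_c60)) = (LP (LK LD1_c4 LD2_c46 LD3_c13)) :=
  Lre_b IH (LK LD1_c9 LD2_c24 LD3_c60) (LK LD1_c4 LD2_c46 LD3_c13) Lrfl Lrfl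
theorem f435072 : Led Lsl_af (LP (LK LD1_c9 LD2_c22 LD3_c60)) = (LP (LK LD1_c4 LD2_c46 LD3_c13)) :=
  Lgr Lrot36 (Lpr_bt (f91340 IH) (Lpr_at (f102206 IH) (Lpr_bt (f435070 IH) (Lpr_at (f79527 IH) (Lpr_bt (f79544 IH) (Lpn (LP (LK LD1_c4 LD2_c46 LD3_c13))))))))
theorem f91339 : Led Lsl_gt (LP (LK LD1_c17 LD2_c19 LD3_c27)) = (LP (LK LD1_c9 LD2_c22 LD3_c60)) :=
  Lre_g IH (LK LD1_c17 LD2_c19 LD3_c27) (LK LD1_c9 LD2_c22 LD3_c60) Lrfl Lrfl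
theorem f79562 : Led Lsl_ft (LP (LK LD1_c9 LD2_c25 LD3_c0)) = (LP (LK LD1_c4 LD2_c46 LD3_c13)) :=
  Lre_f IH (LK LD1_c9 LD2_c25 LD3_c0) (LK LD1_c4 LD2_c46 LD3_c13) Lrfl Lrfl
theorem f435076 : Led Lsl_gf (LP (LK LD1_c17 LD2_c19 LD3_c27)) = (LP (LK LD1_c9 LD2_c25 LD3_c0)) :=
  Lgr Lrot47 (Lpr_gt (f91339 IH) (Lpr_af (f435072 IH) (Lpe (f79562 IH) (Lpn (LP (LK LD1_c9 LD2_c25 LD3_c0))))))
theorem f904566 : Led Lsl_cf (LP (LK LD1_c17 LD2_c19 LD3_c27)) = v38796 :=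
  Lgr Lrot58 (Lpr_gf (f435076 IH) (Lpe (f133200 IH) (Lpr_bt (K59.f704034 IH) (Lpr_gf (f775764 IH) (Lpe (K58.f652607 IH) (Lpr_ct (K59.f438364 IH) (Lpe (K59.f652511 IH) (Lpe (K65.f775747 IH) (Lpe (K60.f90497 IH) (Lpr_bf (f904562 IH) (Lpn v38796)))))))))))
theorem f904563 : Led Lsl_df v23993 = v38796 :=
  Lgr Lrot38 (Lpr_dt (f904560 IH) (Lpn v38796))
theorem f707807 : Led Lsl_et (LP (LK LD1_c12 LD2_c27 LD3_c48)) = (LP (LK LD1_c6 LD2_c28 LD3_c14)) :=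
  Lre_e IH (LK LD1_c12 LD2_c27 LD3_c48) (LK LD1_c6 LD2_c28 LD3_c14) Lrfl Lrfl
theorem f821813 : Led Lsl_af (LP (LK LD1_c12 LD2_c27 LD3_c48)) = v23993 :=
  Lgr Lrot50 (Lpr_et (f707807 IH) (Lpr_at (K58.f766132 IH) (Lpqs (K58.f770361 IH) (Lpr_et (f821812 IH) (Lpn v23993)))))
def v23940 : LQ := Led Lsl_bt K57.v4319
theorem f821435 : Led Lsl_bt K57.v4319 = v23940 :=
  Lrfl
theorem f632623 : Led Lsl_bt (LP (LK LD1_c12 LD2_c27 LD3_c48)) = (LP (LK LD1_c6 LD2_c28 LD3_c16)) :=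
  Lre_b IH (LK LD1_c12 LD2_c27 LD3_c48) (LK LD1_c6 LD2_c28 LD3_c16) Lrfl Lrfl
theorem f821437 : Led Lsl_df (LP (LK LD1_c12 LD2_c27 LD3_c48)) = v23940 :=
  Lgr Lrot12 (Lpr_bt (f632623 IH) (Lpr_dt (K57.f632622 IH) (Lpr_bt (f821435 IH) (Lpn v23940))))
theorem f821438 : Led Lsl_dt (LP (LK LD1_c12 LD2_c27 LD3_c48)) = v23940 :=
  Lgr Lrot42 (Lpr_df (f821437 IH) (Lpn v23940))
theorem f904565 : Led Lsl_at v23940 = v38796 :=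
  Lgr Lrot51 (Lpe (f821438 IH) (Lpr_af (f821813 IH) (Lpr_df (f904563 IH) (Lpn v38796))))
theorem f821436 : Led Lsl_bf K57.v4319 = v23940 :=
  Lgr Lrot24 (Lpr_bt (f821435 IH) (Lpn v23940))
def v23930 : LQ := Led Lsl_ft K35.v4305
theorem f821378 : Led Lsl_ft K35.v4305 = v23930 :=
  Lrfl
theorem f821382 : Led Lsl_ff K35.v4305 = v23930 :=
  Lgr Lrot3 (Lpr_ft (f821378 IH) (Lpn v23930))
theorem f632538 : Led Lsl_af (LP (LK LD1_c2 LD2_c19 LD3_c21)) = K35.v4305 :=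
  Lgr Lrot117 (Lpr_dt (K59.f150477 IH) (Lpr_at (K59.f210119 IH) (Lpr_dt (K35.f632537 IH) (Lpn K35.v4305))))
theorem f821386 : Led Lsl_gf K57.v4319 = v23930 :=
  Lgr Lrot47 (Lpe (K57.f632621 IH) (Lpr_af (f632538 IH) (Lpr_ff (f821382 IH) (Lpn v23930))))
theorem f632539 : Led Lsl_bf K57.v1927 = K35.v4305 :=
  Lgr Lrot93 (Lpe (K65.f506425 IH) (Lpe (K58.f453586 IH) (Lpr_dt (K35.f632537 IH) (Lpn K35.v4305))))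
theorem f821384 : Led Lsl_bt K57.v5603 = v23930 :=
  Lgr Lrot35 (Lpe (K57.f648473 IH) (Lpr_bf (f632539 IH) (Lpr_ff (f821382 IH) (Lpn v23930))))
theorem f79502 : Led Lsl_ct (LP (LK LD1_c2 LD2_c21 LD3_c6)) = (LP (LK LD1_c4 LD2_c46 LD3_c13)) :=
  Lre_c IH (LK LD1_c2 LD2_c21 LD3_c6) (LK LD1_c4 LD2_c46 LD3_c13) Lrfl Lrfl
theorem f79525 : Led Lsl_gt (LP (LK LD1_c9 LD2_c24 LD3_c59)) = (LP (LK LD1_c4 LD2_c46 LD3_c13)) :=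
  Lre_g IH (LK LD1_c9 LD2_c24 LD3_c59) (LK LD1_c4 LD2_c46 LD3_c13) Lrfl Lrfl
theorem f821440 : Led Lsl_cf (LP (LK LD1_c9 LD2_c24 LD3_c59)) = v23940 :=
  Lgr Lrot160 (Lpr_gt (f79525 IH) (Lpe (f79502 IH) (Lpr_bt (K58.f633275 IH) (Lpe (K58.f770902 IH) (Lpe (K58.f764873 IH) (Lpr_gt (K57.f764854 IH) (Lpe (K57.f764860 IH) (Lpr_bt (f821384 IH) (Lpe (f821386 IH) (Lpr_bf (f821436 IH) (Lpn v23940)))))))))))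
theorem f821441 : Led Lsl_ct (LP (LK LD1_c9 LD2_c24 LD3_c59)) = v23940 :=
  Lgr Lrot59 (Lpr_cf (f821440 IH) (Lpn v23940))
theorem f904567 : Led Lsl_at (LP (LK LD1_c17 LD2_c19 LD3_c27)) = (LP (LK LD1_c9 LD2_c24 LD3_c59)) :=
  Lgr Lrot107 (Lpr_cf (f904566 IH) (Lpe (f904565 IH) (Lpe (f821441 IH) (Lpn (LP (LK LD1_c9 LD2_c24 LD3_c59))))))
theorem f904568 : Led Lsl_at (LP (LK LD1_c17 LD2_c19 LD3_c27)) = (LP (LK LD1_c9 LD2_c24 LD3_c59)) :=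
  Leop (Lpe (f904567 IH) (Lpn (LP (LK LD1_c17 LD2_c19 LD3_c27))))
theorem seed_2269 : LEOK LG_a (LK LD1_c17 LD2_c19 LD3_c27) :=
  Leoe_a (LK LD1_c17 LD2_c19 LD3_c27) (f904568 IH)
def v38861 : LQ := Led Lsl_gf (LP (LK LD1_c9 LD2_c16 LD3_c48))
theorem f904938 : Led Lsl_gf (LP (LK LD1_c9 LD2_c16 LD3_c48)) = v38861 :=
  Lrfl
theorem f13832 : Led Lsl_dt (LP (LK LD1_c9 LD2_c21 LD3_c46)) = (LP (LK LD1_c4 LD2_c44 LD3_c29)) :=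
  Lre_d IH (LK LD1_c9 LD2_c21 LD3_c46) (LK LD1_c4 LD2_c44 LD3_c29) Lrfl Lrfl
theorem f78020 : Led Lsl_dt (LP (LK LD1_c4 LD2_c44 LD3_c30)) = (LP (LK LD1_c2 LD2_c20 LD3_c18)) :=
  Lre_d IH (LK LD1_c4 LD2_c44 LD3_c30) (LK LD1_c2 LD2_c20 LD3_c18) Lrfl Lrfl
theorem f904941 : Led Lsl_cf K59.v13161 = v38861 :=
  Lgr Lrot166 (Lpe (K59.f701467 IH) (Lpr_dt (K51.f58343 IH) (Lpe (K51.f78012 IH) (Lpr_dt (f78020 IH) (Lpr_ct (K56.f78022 IH) (Lpe (f13832 IH) (Lpr_gf (K50.f79465 IH) (Lpe (K50.f58303 IH) (Lpr_gf (f904938 IH) (Lpn v38861))))))))))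
def v13725 : LQ := Led Lsl_at (LP (LK LD1_c4 LD2_c47 LD3_c26))
theorem f704521 : Led Lsl_at (LP (LK LD1_c4 LD2_c47 LD3_c26)) = v13725 :=
  Lrfl
theorem f704523 : Led Lsl_df K51.v4448 = v13725 :=
  Lgr Lrot18 (Lpe (K51.f633433 IH) (Lpr_dt (K58.f441931 IH) (Lpr_at (f704521 IH) (Lpn v13725))))
def v7910 : LQ := Led Lsl_dt K51.v1356
theorem f668952 : Led Lsl_dt K51.v1356 = v7910 :=
  Lrfl
theorem f704525 : Led Lsl_ft v7910 = v13725 :=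
  Lgr Lrot54 (Lpe (f668952 IH) (Lpr_ff (K51.f633439 IH) (Lpr_df (f704523 IH) (Lpn v13725))))
theorem f704522 : Led Lsl_af (LP (LK LD1_c4 LD2_c47 LD3_c26)) = v13725 :=
  Lgr Lrot0 (Lpr_at (f704521 IH) (Lpn v13725))
theorem f704527 : Led Lsl_gt v7910 = K65.v13724 :=
  Lgr Lrot5 (Lpr_ft (f704525 IH) (Lpe (f704522 IH) (Lpr_gf (K65.f704520 IH) (Lpn K65.v13724))))
theorem f703323 : Led Lsl_gf (LP (LK LD1_c4 LD2_c47 LD3_c13)) = K50.v13496 :=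
  Lgr Lrot47 (Lpr_gt (K52.f110920 IH) (Lpe (K56.f703301 IH) (Lpr_ff (K56.f703306 IH) (Lpn K50.v13496))))
theorem f703325 : Led Lsl_dt (LP (LK LD1_c4 LD2_c47 LD3_c13)) = (LP (LK LD1_c9 LD2_c27 LD3_c28)) :=
  Lre_d IH (LK LD1_c4 LD2_c47 LD3_c13) (LK LD1_c9 LD2_c27 LD3_c28) Lrfl Lrfl
theorem f13834 : Led Lsl_dt (LP (LK LD1_c17 LD2_c17 LD3_c55)) = (LP (LK LD1_c9 LD2_c21 LD3_c45)) :=
  Lre_d IH (LK LD1_c17 LD2_c17 LD3_c55) (LK LD1_c9 LD2_c21 LD3_c45) Lrfl Lrfl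
theorem f110534 : Led Lsl_dt (LP (LK LD1_c4 LD2_c47 LD3_c12)) = (LP (LK LD1_c9 LD2_c27 LD3_c26)) :=
  Lre_d IH (LK LD1_c4 LD2_c47 LD3_c12) (LK LD1_c9 LD2_c27 LD3_c26) Lrfl Lrfl
theorem f761427 : Led Lsl_af (LP (LK LD1_c17 LD2_c17 LD3_c55)) = (LP (LK LD1_c9 LD2_c27 LD3_c26)) :=
  Lgr Lrot117 (Lpr_dt (f13834 IH) (Lpqs (K57.f761415 IH) (Lpe (K57.f704367 IH) (Lpr_dt (f110534 IH) (Lpn (LP (LK LD1_c9 LD2_c27 LD3_c26)))))))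
theorem f761429 : Led Lsl_at (LP (LK LD1_c17 LD2_c17 LD3_c55)) = (LP (LK LD1_c9 LD2_c27 LD3_c26)) :=
  Lgr Lrot100 (Lpr_af (f761427 IH) (Lpn (LP (LK LD1_c9 LD2_c27 LD3_c26))))
theorem f703328 : Led Lsl_dt (LP (LK LD1_c9 LD2_c27 LD3_c28)) = (LP (LK LD1_c4 LD2_c47 LD3_c13)) :=
  Lre_d IH (LK LD1_c9 LD2_c27 LD3_c28) (LK LD1_c4 LD2_c47 LD3_c13) Lrfl Lrfl
theorem f79471 : Led Lsl_dt (LP (LK LD1_c9 LD2_c21 LD3_c45)) = (LP (LK LD1_c17 LD2_c17 LD3_c55)) :=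
  Lre_d IH (LK LD1_c9 LD2_c21 LD3_c45) (LK LD1_c17 LD2_c17 LD3_c55) Lrfl Lrfl
theorem f761420 : Led Lsl_ff (LP (LK LD1_c9 LD2_c27 LD3_c28)) = (LP (LK LD1_c17 LD2_c17 LD3_c55)) :=
  Lgr Lrot19 (Lpr_dt (f703328 IH) (Lpr_ft (K57.f704370 IH) (Lpq (K57.f761415 IH) (Lpr_dt (f79471 IH) (Lpn (LP (LK LD1_c17 LD2_c17 LD3_c55)))))))
theorem f761423 : Led Lsl_ft (LP (LK LD1_c9 LD2_c27 LD3_c28)) = (LP (LK LD1_c17 LD2_c17 LD3_c55)) :=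
  Lgr Lrot48 (Lpr_ff (f761420 IH) (Lpn (LP (LK LD1_c17 LD2_c17 LD3_c55))))
theorem f703334 : Led Lsl_gt (LP (LK LD1_c17 LD2_c26 LD3_c25)) = (LP (LK LD1_c9 LD2_c27 LD3_c26)) :=
  Lre_g IH (LK LD1_c17 LD2_c26 LD3_c25) (LK LD1_c9 LD2_c27 LD3_c26) Lrfl Lrfl
theorem f761443 : Led Lsl_gt (LP (LK LD1_c9 LD2_c27 LD3_c28)) = (LP (LK LD1_c17 LD2_c26 LD3_c25)) :=
  Lgr Lrot5 (Lpr_ft (f761423 IH) (Lpr_at (f761429 IH) (Lpe (f703334 IH) (Lpn (LP (LK LD1_c17 LD2_c26 LD3_c25))))))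
theorem f904947 : Led Lsl_dt (LP (LK LD1_c17 LD2_c26 LD3_c25)) = v38861 :=
  Lgr Lrot105 (Lpe (f761443 IH) (Lpe (f703325 IH) (Lpr_gf (f703323 IH) (Lpe (K56.f703321 IH) (Lpe (K51.f633066 IH) (Lpr_dt (f668952 IH) (Lpr_gt (f704527 IH) (Lpe (K65.f758568 IH) (Lpr_cf (f904941 IH) (Lpn v38861))))))))))
theorem f774204 : Led Lsl_dt (LP (LK LD1_c12 LD2_c32 LD3_c40)) = (LP (LK LD1_c9 LD2_c25 LD3_c41)) :=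
  Lgr Lrot42 (Lpr_df (K59.f774184 IH) (Lpn (LP (LK LD1_c9 LD2_c25 LD3_c41))))
theorem f904942 : Led Lsl_et (LP (LK LD1_c12 LD2_c32 LD3_c40)) = v38861 :=
  Lgr Lrot121 (Lpr_dt (f774204 IH) (Lpe (K59.f79484 IH) (Lpe (K59.f78355 IH) (Lpr_et (K5.f78341 IH) (Lpe (K3.f13800 IH) (Lpe (K50.f13852 IH) (Lpr_dt (K0.f13787 IH) (Lpr_gf (K50.f79465 IH) (Lpe (K50.f58303 IH) (Lpr_gf (f904938 IH) (Lpn v38861)))))))))))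
theorem f442912 : Led Lsl_ct (LP (LK LD1_c11 LD2_c39 LD3_c56)) = (LP (LK LD1_c20 LD2_c39 LD3_c57)) :=
  Lre_c IH (LK LD1_c11 LD2_c39 LD3_c56) (LK LD1_c20 LD2_c39 LD3_c57) Lrfl Lrfl
theorem f442913 : Led Lsl_bt (LP (LK LD1_c6 LD2_c32 LD3_c34)) = (LP (LK LD1_c3 LD2_c14 LD3_c29)) :=
  Lre_b IH (LK LD1_c6 LD2_c32 LD3_c34) (LK LD1_c3 LD2_c14 LD3_c29) Lrfl Lrfl
theorem f442915 : Led Lsl_bt (LP (LK LD1_c20 LD2_c39 LD3_c57)) = (LP (LK LD1_c12 LD2_c32 LD3_c40)) :=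
  Lgr Lrot128 (Lpe (f442912 IH) (Lpe (K41.f442911 IH) (Lpr_cf (K32.f442893 IH) (Lpe (f442913 IH) (Lpe (K59.f442914 IH) (Lpn (LP (LK LD1_c12 LD2_c32 LD3_c40))))))))
theorem f749464 : Led Lsl_dt (LP (LK LD1_c11 LD2_c46 LD3_c17)) = (LP (LK LD1_c20 LD2_c48 LD3_c1)) :=
  Lre_d IH (LK LD1_c11 LD2_c46 LD3_c17) (LK LD1_c20 LD2_c48 LD3_c1) Lrfl Lrfl
theorem f749467 : Led Lsl_cf (LP (LK LD1_c11 LD2_c46 LD3_c61)) = (LP (LK LD1_c20 LD2_c48 LD3_c1)) :=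
  Lgr Lrot14 (Lpe (K41.f641652 IH) (Lpe (K41.f641650 IH) (Lpe (K41.f500850 IH) (Lpe (K41.f383346 IH) (Lpr_ct (K9.f140184 IH) (Lpr_gt (K9.f140185 IH) (Lpr_dt (K41.f564044 IH) (Lpr_gt (K56.f749462 IH) (Lpr_dt (f749464 IH) (Lpn (LP (LK LD1_c20 LD2_c48 LD3_c1))))))))))))
theorem f749473 : Led Lsl_et (LP (LK LD1_c20 LD2_c39 LD3_c57)) = (LP (LK LD1_c20 LD2_c48 LD3_c1)) :=
  Lgr Lrot158 (Lpe (f442912 IH) (Lpr_ef (K41.f642133 IH) (Lpr_cf (f749467 IH) (Lpn (LP (LK LD1_c20 LD2_c48 LD3_c1))))))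
theorem f749500 : Led Lsl_ef (LP (LK LD1_c20 LD2_c39 LD3_c57)) = (LP (LK LD1_c20 LD2_c48 LD3_c1)) :=
  Lgr Lrot88 (Lpr_et (f749473 IH) (Lpn (LP (LK LD1_c20 LD2_c48 LD3_c1))))
theorem f904943 : Led Lsl_bf (LP (LK LD1_c20 LD2_c48 LD3_c1)) = v38861 :=
  Lgr Lrot96 (Lpe (f749500 IH) (Lpr_bt (f442915 IH) (Lpr_et (f904942 IH) (Lpn v38861))))
theorem f641490 : Led Lsl_dt (LP (LK LD1_c20 LD2_c48 LD3_c1)) = (LP (LK LD1_c11 LD2_c46 LD3_c17)) :=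
  Lre_d IH (LK LD1_c20 LD2_c48 LD3_c1) (LK LD1_c11 LD2_c46 LD3_c17) Lrfl Lrfl
theorem f904948 : Led Lsl_bf (LP (LK LD1_c17 LD2_c26 LD3_c25)) = (LP (LK LD1_c11 LD2_c46 LD3_c17)) :=
  Lgr Lrot93 (Lpr_dt (f904947 IH) (Lpe (f904943 IH) (Lpr_dt (f641490 IH) (Lpn (LP (LK LD1_c11 LD2_c46 LD3_c17))))))
theorem f904949 : Led Lsl_bt (LP (LK LD1_c11 LD2_c46 LD3_c17)) = (LP (LK LD1_c17 LD2_c26 LD3_c25)) :=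
  Leop (Lpr_bf (f904948 IH) (Lpn (LP (LK LD1_c11 LD2_c46 LD3_c17))))
theorem seed_2270 : LEOK LG_b (LK LD1_c11 LD2_c46 LD3_c17) :=
  Leoe_b (LK LD1_c11 LD2_c46 LD3_c17) (f904949 IH)
theorem f904944 : Led Lsl_ef (LP (LK LD1_c12 LD2_c32 LD3_c40)) = v38861 :=
  Lgr Lrot88 (Lpr_et (f904942 IH) (Lpn v38861))
theorem f774210 : Led Lsl_et (LP (LK LD1_c9 LD2_c25 LD3_c41)) = (LP (LK LD1_c17 LD2_c23 LD3_c10)) :=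
  Lre_e IH (LK LD1_c9 LD2_c25 LD3_c41) (LK LD1_c17 LD2_c23 LD3_c10) Lrfl Lrfl
theorem f704106 : Led Lsl_dt (LP (LK LD1_c17 LD2_c23 LD3_c10)) = (LP (LK LD1_c27 LD2_c12 LD3_c22)) :=
  Lre_d IH (LK LD1_c17 LD2_c23 LD3_c10) (LK LD1_c27 LD2_c12 LD3_c22) Lrfl Lrfl
theorem f904951 : Led Lsl_ef (LP (LK LD1_c17 LD2_c26 LD3_c25)) = (LP (LK LD1_c27 LD2_c12 LD3_c22)) :=
  Lgr Lrot73 (Lpr_dt (f904947 IH) (Lpe (f904944 IH) (Lpr_dt (f774204 IH) (Lpr_et (f774210 IH) (Lpr_dt (f704106 IH) (Lpn (LP (LK LD1_c27 LD2_c12 LD3_c22))))))))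
theorem f904952 : Led Lsl_et (LP (LK LD1_c27 LD2_c12 LD3_c22)) = (LP (LK LD1_c17 LD2_c26 LD3_c25)) :=
  Leop (Lpr_ef (f904951 IH) (Lpn (LP (LK LD1_c27 LD2_c12 LD3_c22))))
theorem seed_2271 : LEOK LG_e (LK LD1_c27 LD2_c12 LD3_c22) :=
  Leoe_e (LK LD1_c27 LD2_c12 LD3_c22) (f904952 IH)
def v38866 : LQ := Led Lsl_dt (LP (LK LD1_c9 LD2_c16 LD3_c51))
theorem f904970 : Led Lsl_dt (LP (LK LD1_c9 LD2_c16 LD3_c51)) = v38866 :=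
  Lrfl
theorem f58300 : Led Lsl_et (LP (LK LD1_c9 LD2_c16 LD3_c51)) = (LP (LK LD1_c4 LD2_c40 LD3_c42)) :=
  Lre_e IH (LK LD1_c9 LD2_c16 LD3_c51) (LK LD1_c4 LD2_c40 LD3_c42) Lrfl Lrfl
theorem f703776 : Led Lsl_dt (LP (LK LD1_c4 LD2_c45 LD3_c50)) = (LP (LK LD1_c9 LD2_c24 LD3_c15)) :=
  Lre_d IH (LK LD1_c4 LD2_c45 LD3_c50) (LK LD1_c9 LD2_c24 LD3_c15) Lrfl Lrfl
theorem f904973 : Led Lsl_gt (LP (LK LD1_c9 LD2_c24 LD3_c15)) = v38866 :=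
  Lgr Lrot112 (Lpe (f703776 IH) (Lpr_et (K59.f674036 IH) (Lpe (K59.f774008 IH) (Lpr_ef (K59.f774014 IH) (Lpe (K51.f704281 IH) (Lpe (K59.f701333 IH) (Lpe (K59.f110796 IH) (Lpe (K57.f78696 IH) (Lpe (f58300 IH) (Lpr_dt (f904970 IH) (Lpn v38866)))))))))))
theorem f703792 : Led Lsl_ff (LP (LK LD1_c4 LD2_c45 LD3_c50)) = K58.v13590 :=
  Lgr Lrot3 (Lpr_ft (K58.f703789 IH) (Lpn K58.v13590))
theorem f441197 : Led Lsl_ct (LP (LK LD1_c4 LD2_c45 LD3_c50)) = (LP (LK LD1_c2 LD2_c20 LD3_c58)) :=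
  Lre_c IH (LK LD1_c4 LD2_c45 LD3_c50) (LK LD1_c2 LD2_c20 LD3_c58) Lrfl Lrfl
theorem f703796 : Led Lsl_ct K57.v4412 = K58.v13590 :=
  Lgr Lrot40 (Lpe (K57.f633242 IH) (Lpe (f441197 IH) (Lpr_ff (f703792 IH) (Lpn K58.v13590))))
theorem f113672 : Led Lsl_ct (LP (LK LD1_c4 LD2_c45 LD3_c3)) = (LP (LK LD1_c9 LD2_c22 LD3_c51)) :=
  Lre_c IH (LK LD1_c4 LD2_c45 LD3_c3) (LK LD1_c9 LD2_c22 LD3_c51) Lrfl Lrfl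
theorem f758503 : K58.v13590 = (LP (LK LD1_c9 LD2_c22 LD3_c51)) :=
  Lefun (Lecon (f703796 IH) (K57.f758499 IH)) (f113672 IH)
theorem f633235 : Led Lsl_dt (LP (LK LD1_c9 LD2_c24 LD3_c15)) = (LP (LK LD1_c4 LD2_c45 LD3_c50)) :=
  Lre_d IH (LK LD1_c9 LD2_c24 LD3_c15) (LK LD1_c4 LD2_c45 LD3_c50) Lrfl Lrfl
theorem f113673 : Led Lsl_dt (LP (LK LD1_c9 LD2_c22 LD3_c51)) = (LP (LK LD1_c17 LD2_c19 LD3_c16)) :=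
  Lre_d IH (LK LD1_c9 LD2_c22 LD3_c51) (LK LD1_c17 LD2_c19 LD3_c16) Lrfl Lrfl
theorem f758538 : Led Lsl_ff (LP (LK LD1_c9 LD2_c24 LD3_c15)) = (LP (LK LD1_c17 LD2_c19 LD3_c16)) :=
  Lgr Lrot19 (Lpr_dt (f633235 IH) (Lpr_ft (K58.f703789 IH) (Lpqs (f758503 IH) (Lpr_dt (f113673 IH) (Lpn (LP (LK LD1_c17 LD2_c19 LD3_c16)))))))
theorem f758544 : Led Lsl_ft (LP (LK LD1_c9 LD2_c24 LD3_c15)) = (LP (LK LD1_c17 LD2_c19 LD3_c16)) :=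
  Lgr Lrot48 (Lpr_ff (f758538 IH) (Lpn (LP (LK LD1_c17 LD2_c19 LD3_c16))))
theorem f113674 : Led Lsl_dt (LP (LK LD1_c17 LD2_c19 LD3_c16)) = (LP (LK LD1_c9 LD2_c22 LD3_c51)) :=
  Lre_d IH (LK LD1_c17 LD2_c19 LD3_c16) (LK LD1_c9 LD2_c22 LD3_c51) Lrfl Lrfl
theorem f441214 : Led Lsl_dt (LP (LK LD1_c4 LD2_c45 LD3_c53)) = (LP (LK LD1_c9 LD2_c24 LD3_c18)) :=
  Lre_d IH (LK LD1_c4 LD2_c45 LD3_c53) (LK LD1_c9 LD2_c24 LD3_c18) Lrfl Lrfl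
theorem f758563 : Led Lsl_af (LP (LK LD1_c17 LD2_c19 LD3_c16)) = (LP (LK LD1_c9 LD2_c24 LD3_c18)) :=
  Lgr Lrot117 (Lpr_dt (f113674 IH) (Lpq (f758503 IH) (Lpe (K58.f703790 IH) (Lpr_dt (f441214 IH) (Lpn (LP (LK LD1_c9 LD2_c24 LD3_c18)))))))
theorem f758565 : Led Lsl_at (LP (LK LD1_c17 LD2_c19 LD3_c16)) = (LP (LK LD1_c9 LD2_c24 LD3_c18)) :=
  Lgr Lrot100 (Lpr_af (f758563 IH) (Lpn (LP (LK LD1_c9 LD2_c24 LD3_c18))))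
theorem f904974 : Led Lsl_gf (LP (LK LD1_c9 LD2_c24 LD3_c18)) = v38866 :=
  Lgr Lrot76 (Lpe (f758565 IH) (Lpe (f758544 IH) (Lpr_gt (f904973 IH) (Lpn v38866))))
theorem f441212 : Led Lsl_dt (LP (LK LD1_c9 LD2_c24 LD3_c18)) = (LP (LK LD1_c4 LD2_c45 LD3_c53)) :=
  Lre_d IH (LK LD1_c9 LD2_c24 LD3_c18) (LK LD1_c4 LD2_c45 LD3_c53) Lrfl Lrfl
theorem f78239 : Led Lsl_dt (LP (LK LD1_c4 LD2_c45 LD3_c54)) = (LP (LK LD1_c2 LD2_c20 LD3_c59)) :=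
  Lre_d IH (LK LD1_c4 LD2_c45 LD3_c54) (LK LD1_c2 LD2_c20 LD3_c59) Lrfl Lrfl
theorem f703833 : Led Lsl_gt K58.v13591 = (LP (LK LD1_c4 LD2_c45 LD3_c54)) :=
  Lgr Lrot46 (Lpe (K58.f703797 IH) (Lpr_ft (K59.f703829 IH) (Lpe (K59.f703830 IH) (Lpn (LP (LK LD1_c4 LD2_c45 LD3_c54))))))
def v23864 : LQ := Led Lsl_gf K58.v4244
theorem f820981 : Led Lsl_gf K58.v4244 = v23864 :=
  Lrfl
def v38865 : LQ := Led Lsl_gf (LP (LK LD1_c9 LD2_c16 LD3_c51))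
theorem f904969 : Led Lsl_gf (LP (LK LD1_c9 LD2_c16 LD3_c51)) = v38865 :=
  Lrfl
theorem f904975 : Led Lsl_ct v23864 = v38865 :=
  Lgr Lrot8 (Lpe (f820981 IH) (Lpr_dt (K58.f703801 IH) (Lpr_gt (f703833 IH) (Lpr_dt (f78239 IH) (Lpe (K59.f441215 IH) (Lpe (f441212 IH) (Lpr_gf (f904974 IH) (Lpe (f904970 IH) (Lpr_gf (f904969 IH) (Lpn v38865))))))))))
def v26082 : LQ := Led Lsl_gt K58.v6262
theorem f831962 : Led Lsl_gt K58.v6262 = v26082 :=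
  Lrfl
theorem f634036 : Led Lsl_dt K58.v4379 = K58.v4465 :=
  Lgr Lrot42 (Lpr_df (K58.f634033 IH) (Lpn K58.v4465))
theorem f652357 : Led Lsl_ff K58.v4379 = K58.v6262 :=
  Lgr Lrot19 (Lpr_dt (f634036 IH) (Lpe (K58.f634034 IH) (Lpr_dt (K58.f652353 IH) (Lpn K58.v6262))))
theorem f775355 : Led Lsl_af K58.v6262 = K57.v13610 :=
  Lgr Lrot117 (Lpe (K58.f652355 IH) (Lpr_at (K60.f652351 IH) (Lpqs (K60.f768921 IH) (Lpqs (K60.f770951 IH) (Lpr_dt (K57.f703895 IH) (Lpn K57.v13610))))))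
theorem f820982 : Led Lsl_ff K57.v13610 = v23864 :=
  Lgr Lrot52 (Lpe (f775355 IH) (Lpr_gf (K58.f771013 IH) (Lpr_gf (f820981 IH) (Lpn v23864))))
theorem f820983 : Led Lsl_at K58.v4379 = v23864 :=
  Lgr Lrot66 (Lpr_ff (f652357 IH) (Lpr_af (f775355 IH) (Lpr_ff (f820982 IH) (Lpn v23864))))
theorem f831964 : Led Lsl_gf v23864 = v26082 :=
  Lgr Lrot76 (Lpe (f820983 IH) (Lpr_ff (f652357 IH) (Lpr_gt (f831962 IH) (Lpn v26082))))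
def v5271 : LQ := Led Lsl_bt (LP (LK LD1_c3 LD2_c2 LD3_c51))
theorem f646858 : Led Lsl_bt (LP (LK LD1_c3 LD2_c2 LD3_c51)) = v5271 :=
  Lrfl
theorem f646861 : Led Lsl_ff K58.v2049 = v5271 :=
  Lgr Lrot25 (Lpe (K58.f508562 IH) (Lpe (K32.f507919 IH) (Lpr_bt (f646858 IH) (Lpn v5271))))
theorem f646863 : Led Lsl_ft K58.v2049 = v5271 :=
  Lgr Lrot48 (Lpr_ff (f646861 IH) (Lpn v5271))
theorem f652359 : Led Lsl_et v5271 = K58.v6262 :=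
  Lgr Lrot69 (Lpe (f646863 IH) (Lpe (K58.f508569 IH) (Lpr_ff (K58.f508555 IH) (Lpr_ef (K58.f633024 IH) (Lpr_ff (f652357 IH) (Lpn K58.v6262))))))
theorem f646860 : Led Lsl_df K58.v2146 = v5271 :=
  Lgr Lrot12 (Lpe (K58.f509221 IH) (Lpr_dt (K16.f415413 IH) (Lpr_bt (f646858 IH) (Lpn v5271))))
def v8685 : LQ := Led Lsl_gf K58.v2146
theorem f672002 : Led Lsl_gf K58.v2146 = v8685 :=
  Lrfl
theorem f668902 : Led Lsl_af K49.v1352 = K49.v7896 :=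
  Lgr Lrot117 (Lpe (K49.f495055 IH) (Lpr_at (K35.f495044 IH) (Lpr_dt (K49.f668901 IH) (Lpn K49.v7896))))
theorem f668905 : Led Lsl_ft K49.v1355 = K49.v7896 :=
  Lgr Lrot48 (Lpr_ff (K49.f668904 IH) (Lpn K49.v7896))
theorem f668920 : Led Lsl_af K49.v1355 = K49.v7901 :=
  Lgr Lrot45 (Lpr_ft (f668905 IH) (Lpe (f668902 IH) (Lpr_ft (K49.f668919 IH) (Lpn K49.v7901))))
theorem f668923 : Led Lsl_gt K58.v7897 = K49.v1355 :=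
  Lgr Lrot46 (Lpe (K58.f668907 IH) (Lpr_ft (K49.f668919 IH) (Lpe (f668920 IH) (Lpn K49.v1355))))
theorem f672121 : Led Lsl_gf v8685 = K58.v8734 :=
  Lgr Lrot47 (Lpe (f672002 IH) (Lpr_af (K59.f671998 IH) (Lpr_ff (K59.f672118 IH) (Lpn K58.v8734))))
theorem f770997 : K49.v1355 = v8685 :=
  Lefun (Lecon (f668923 IH) (K58.f770994 IH)) (Lfl_gf (f672121 IH))
def v13592 : LQ := Led Lsl_gf (LP (LK LD1_c4 LD2_c45 LD3_c51))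
theorem f703803 : Led Lsl_gf (LP (LK LD1_c4 LD2_c45 LD3_c51)) = v13592 :=
  Lrfl
theorem f831965 : Led Lsl_df v13592 = v26082 :=
  Lgr Lrot135 (Lpe (f703803 IH) (Lpe (K58.f78494 IH) (Lpr_et (K57.f103359 IH) (Lpqs (K49.f674033 IH) (Lpe (K49.f633415 IH) (Lpe (K49.f495053 IH) (Lpr_dt (K49.f495075 IH) (Lpqs (f770997 IH) (Lpe (f672002 IH) (Lpr_df (f646860 IH) (Lpr_et (f652359 IH) (Lpr_gt (f831962 IH) (Lpn v26082)))))))))))))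
theorem f633245 : Led Lsl_ct (LP (LK LD1_c4 LD2_c45 LD3_c51)) = (LP (LK LD1_c9 LD2_c24 LD3_c17)) :=
  Lre_c IH (LK LD1_c4 LD2_c45 LD3_c51) (LK LD1_c9 LD2_c24 LD3_c17) Lrfl Lrfl
theorem f703798 : Led Lsl_gt (LP (LK LD1_c9 LD2_c24 LD3_c17)) = (LP (LK LD1_c17 LD2_c21 LD3_c33)) :=
  Lre_g IH (LK LD1_c9 LD2_c24 LD3_c17) (LK LD1_c17 LD2_c21 LD3_c33) Lrfl Lrfl
def v17453 : LQ := Led Lsl_et (LP (LK LD1_c6 LD2_c19 LD3_c25))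
theorem f759877 : Led Lsl_et (LP (LK LD1_c6 LD2_c19 LD3_c25)) = v17453 :=
  Lrfl
theorem f759879 : Led Lsl_ef (LP (LK LD1_c6 LD2_c19 LD3_c25)) = v17453 :=
  Lgr Lrot88 (Lpr_et (f759877 IH) (Lpn v17453))
theorem f701329 : Led Lsl_et (LP (LK LD1_c4 LD2_c40 LD3_c42)) = (LP (LK LD1_c9 LD2_c16 LD3_c51)) :=
  Lre_e IH (LK LD1_c4 LD2_c40 LD3_c42) (LK LD1_c9 LD2_c16 LD3_c51) Lrfl Lrfl
theorem f759880 : Led Lsl_ct (LP (LK LD1_c9 LD2_c16 LD3_c51)) = v17453 :=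
  Lgr Lrot15 (Lpe (f701329 IH) (Lpr_cf (K57.f701381 IH) (Lpq (K57.f708514 IH) (Lpr_ef (f759879 IH) (Lpn v17453)))))
theorem f759044 : Led Lsl_dt (LP (LK LD1_c6 LD2_c19 LD3_c25)) = K57.v17381 :=
  Lgr Lrot42 (Lpr_df (K57.f759043 IH) (Lpn K57.v17381))
theorem f770281 : Led Lsl_dt K58.v17702 = v17453 :=
  Lgr Lrot77 (Lpr_ef (K58.f770276 IH) (Lpe (K58.f759033 IH) (Lpr_ef (K57.f759040 IH) (Lpe (f759044 IH) (Lpr_ef (f759879 IH) (Lpn v17453))))))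
theorem f904981 : Led Lsl_ct (LP (LK LD1_c17 LD2_c21 LD3_c33)) = K58.v17702 :=
  Lgr Lrot110 (Lpe (f703798 IH) (Lpe (f633245 IH) (Lpr_gf (f703803 IH) (Lpr_df (f831965 IH) (Lpe (f831964 IH) (Lpr_ct (f904975 IH) (Lpe (f904969 IH) (Lpr_ct (f759880 IH) (Lpe (f770281 IH) (Lpn K58.v17702))))))))))
theorem f904982 : Led Lsl_ct (LP (LK LD1_c17 LD2_c21 LD3_c33)) = (LP (LK LD1_c12 LD2_c15 LD3_c49)) :=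
  Leop (Lpq (K58.f770283 IH) (Lpe (f904981 IH) (Lpn (LP (LK LD1_c17 LD2_c21 LD3_c33)))))
theorem seed_2272 : LEOK LG_c (LK LD1_c17 LD2_c21 LD3_c33) :=
  Leoe_c (LK LD1_c17 LD2_c21 LD3_c33) (f904982 IH)
def v38869 : LQ := Led Lsl_gt (LP (LK LD1_c9 LD2_c16 LD3_c54))
theorem f905002 : Led Lsl_gt (LP (LK LD1_c9 LD2_c16 LD3_c54)) = v38869 :=
  Lrfl
theorem f674213 : Led Lsl_ct (LP (LK LD1_c4 LD2_c40 LD3_c43)) = (LP (LK LD1_c9 LD2_c16 LD3_c54)) :=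
  Lre_c IH (LK LD1_c4 LD2_c40 LD3_c43) (LK LD1_c9 LD2_c16 LD3_c54) Lrfl Lrfl
theorem f110797 : Led Lsl_gt (LP (LK LD1_c9 LD2_c16 LD3_c53)) = (LP (LK LD1_c4 LD2_c40 LD3_c43)) :=
  Lre_g IH (LK LD1_c9 LD2_c16 LD3_c53) (LK LD1_c4 LD2_c40 LD3_c43) Lrfl Lrfl
def v6303 : LQ := Led Lsl_et (LP (LK LD1_c3 LD2_c20 LD3_c2))
theorem f652643 : Led Lsl_et (LP (LK LD1_c3 LD2_c20 LD3_c2)) = v6303 :=
  Lrfl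
theorem f652645 : Led Lsl_ef (LP (LK LD1_c3 LD2_c20 LD3_c2)) = v6303 :=
  Lgr Lrot88 (Lpr_et (f652643 IH) (Lpn v6303))
theorem f652646 : Led Lsl_ct K58.v2146 = v6303 :=
  Lgr Lrot15 (Lpe (K58.f509220 IH) (Lpe (K59.f415426 IH) (Lpr_ef (f652645 IH) (Lpn v6303))))
theorem f765299 : Led Lsl_gt K58.v5660 = K58.v18154 :=
  Lgr Lrot5 (Lpe (K58.f648734 IH) (Lpr_at (K58.f506607 IH) (Lpr_gf (K58.f765298 IH) (Lpn K58.v18154))))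
theorem f704295 : Led Lsl_bf K58.v6494 = K51.v13684 :=
  Lgr Lrot93 (Lpe (K58.f653635 IH) (Lpe (K58.f653590 IH) (Lpr_dt (K51.f704293 IH) (Lpn K51.v13684))))
theorem f775381 : Led Lsl_gf v6303 = K50.v13551 :=
  Lgr Lrot126 (Lpe (f652646 IH) (Lpe (K58.f509221 IH) (Lpr_gt (K24.f416552 IH) (Lpr_ct (K24.f414306 IH) (Lpe (K50.f417014 IH) (Lpr_cf (K35.f509779 IH) (Lpq (K35.f623406 IH) (Lpr_bt (K60.f648735 IH) (Lpr_gt (f765299 IH) (Lpqs (K58.f769759 IH) (Lpr_bf (f704295 IH) (Lpe (K51.f704296 IH) (Lpn K50.v13551)))))))))))))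
theorem f652644 : Led Lsl_cf K58.v2146 = v6303 :=
  Lgr Lrot39 (Lpe (K59.f509222 IH) (Lpr_ct (K58.f57154 IH) (Lpr_et (f652643 IH) (Lpn v6303))))
def v7899 : LQ := Led Lsl_ct K49.v1352
theorem f668910 : Led Lsl_ct K49.v1352 = v7899 :=
  Lrfl
def v27994 : LQ := Led Lsl_dt v7899
theorem f842432 : Led Lsl_dt v7899 = v27994 :=
  Lrfl
theorem f905003 : Led Lsl_cf v27994 = v38869 :=
  Lgr Lrot99 (Lpe (f842432 IH) (Lpe (f668910 IH) (Lpqs (K58.f770998 IH) (Lpe (K58.f672001 IH) (Lpr_cf (f652644 IH) (Lpr_gf (f775381 IH) (Lpe (K51.f703584 IH) (Lpr_gt (f110797 IH) (Lpr_ct (f674213 IH) (Lpr_gt (f905002 IH) (Lpn v38869)))))))))))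
theorem f842433 : Led Lsl_df v7899 = v27994 :=
  Lgr Lrot38 (Lpr_dt (f842432 IH) (Lpn v27994))
theorem f668911 : Led Lsl_cf K49.v1352 = v7899 :=
  Lgr Lrot11 (Lpr_ct (f668910 IH) (Lpn v7899))
theorem f674011 : K49.v7896 = K57.v7886 :=
  Lefun (Lecon (K49.f668901 IH) (K49.f674006 IH)) (K57.f668870 IH)
theorem f674012 : K57.v4440 = K49.v1355 :=
  Lefun (Lecon (K57.f633403 IH) (K49.f674006 IH)) (K49.f495091 IH)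
theorem f495086 : Led Lsl_dt (LP (LK LD1_c2 LD2_c21 LD3_c32)) = (LP (LK LD1_c4 LD2_c47 LD3_c21)) :=
  Lre_d IH (LK LD1_c2 LD2_c21 LD3_c32) (LK LD1_c4 LD2_c47 LD3_c21) Lrfl Lrfl
theorem f495087 : Led Lsl_ct (LP (LK LD1_c4 LD2_c47 LD3_c21)) = (LP (LK LD1_c9 LD2_c27 LD3_c45)) :=
  Lre_c IH (LK LD1_c4 LD2_c47 LD3_c21) (LK LD1_c9 LD2_c27 LD3_c45) Lrfl Lrfl
theorem f905005 : Led Lsl_dt (LP (LK LD1_c9 LD2_c27 LD3_c45)) = v38869 :=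
  Lgr Lrot140 (Lpe (f495087 IH) (Lpe (f495086 IH) (Lpe (K35.f495052 IH) (Lpr_df (K49.f495076 IH) (Lpq (f674012 IH) (Lpr_ft (K57.f668877 IH) (Lpq (f674011 IH) (Lpe (f668902 IH) (Lpr_cf (f668911 IH) (Lpr_df (f842433 IH) (Lpr_cf (f905003 IH) (Lpn v38869))))))))))))
theorem f905007 : Led Lsl_df (LP (LK LD1_c9 LD2_c27 LD3_c45)) = v38869 :=
  Lgr Lrot38 (Lpr_dt (f905005 IH) (Lpn v38869))
theorem f495067 : Led Lsl_ct (LP (LK LD1_c9 LD2_c27 LD3_c45)) = (LP (LK LD1_c4 LD2_c47 LD3_c21)) :=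
  Lre_c IH (LK LD1_c9 LD2_c27 LD3_c45) (LK LD1_c4 LD2_c47 LD3_c21) Lrfl Lrfl
theorem f633384 : Led Lsl_dt (LP (LK LD1_c9 LD2_c27 LD3_c35)) = (LP (LK LD1_c4 LD2_c47 LD3_c16)) :=
  Lre_d IH (LK LD1_c9 LD2_c27 LD3_c35) (LK LD1_c4 LD2_c47 LD3_c16) Lrfl Lrfl
theorem f709818 : Led Lsl_dt (LP (LK LD1_c17 LD2_c11 LD3_c60)) = (LP (LK LD1_c9 LD2_c16 LD3_c54)) :=
  Lre_d IH (LK LD1_c17 LD2_c11 LD3_c60) (LK LD1_c9 LD2_c16 LD3_c54) Lrfl Lrfl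
theorem f905010 : Led Lsl_gf (LP (LK LD1_c9 LD2_c27 LD3_c35)) = (LP (LK LD1_c17 LD2_c12 LD3_c4)) :=
  Lgr Lrot144 (Lpr_dt (f633384 IH) (Lpr_gt (K35.f633382 IH) (Lpr_dt (f495086 IH) (Lpe (f495067 IH) (Lpr_df (f905007 IH) (Lpe (f905002 IH) (Lpe (f709818 IH) (Lpe (K51.f633356 IH) (Lpe (K51.f709809 IH) (Lpn (LP (LK LD1_c17 LD2_c12 LD3_c4))))))))))))
theorem f905011 : Led Lsl_gt (LP (LK LD1_c17 LD2_c12 LD3_c4)) = (LP (LK LD1_c9 LD2_c27 LD3_c35)) :=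
  Leop (Lpr_gf (f905010 IH) (Lpn (LP (LK LD1_c17 LD2_c12 LD3_c4))))
theorem seed_2273 : LEOK LG_g (LK LD1_c17 LD2_c12 LD3_c4) :=
  Leoe_g (LK LD1_c17 LD2_c12 LD3_c4) (f905011 IH)
def v38870 : LQ := Led Lsl_gf (LP (LK LD1_c9 LD2_c16 LD3_c54))
theorem f905017 : Led Lsl_gf (LP (LK LD1_c9 LD2_c16 LD3_c54)) = v38870 :=
  Lrfl
def v38810 : LQ := Led Lsl_ct (LP (LK LD1_c9 LD2_c16 LD3_c5))
theorem f904644 : Led Lsl_ct (LP (LK LD1_c9 LD2_c16 LD3_c5)) = v38810 :=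
  Lrfl
theorem f701445 : Led Lsl_ct (LP (LK LD1_c9 LD2_c16 LD3_c54)) = (LP (LK LD1_c4 LD2_c40 LD3_c43)) :=
  Lre_c IH (LK LD1_c9 LD2_c16 LD3_c54) (LK LD1_c4 LD2_c40 LD3_c43) Lrfl Lrfl
theorem f904645 : Led Lsl_af (LP (LK LD1_c9 LD2_c16 LD3_c54)) = v38810 :=
  Lgr Lrot68 (Lpr_ct (f701445 IH) (Lpr_at (K57.f103205 IH) (Lpr_ct (f904644 IH) (Lpn v38810))))
theorem f58281 : Led Lsl_at (LP (LK LD1_c9 LD2_c16 LD3_c6)) = (LP (LK LD1_c4 LD2_c40 LD3_c44)) :=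
  Lre_a IH (LK LD1_c9 LD2_c16 LD3_c6) (LK LD1_c4 LD2_c40 LD3_c44) Lrfl Lrfl
theorem f454773 : Led Lsl_dt (LP (LK LD1_c4 LD2_c47 LD3_c10)) = (LP (LK LD1_c2 LD2_c21 LD3_c27)) :=
  Lre_d IH (LK LD1_c4 LD2_c47 LD3_c10) (LK LD1_c2 LD2_c21 LD3_c27) Lrfl Lrfl
theorem f495024 : Led Lsl_ct (LP (LK LD1_c9 LD2_c27 LD3_c22)) = (LP (LK LD1_c4 LD2_c47 LD3_c10)) :=
  Lre_c IH (LK LD1_c9 LD2_c27 LD3_c22) (LK LD1_c4 LD2_c47 LD3_c10) Lrfl Lrfl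
theorem f904649 : Led Lsl_df (LP (LK LD1_c9 LD2_c27 LD3_c22)) = v38810 :=
  Lgr Lrot106 (Lpr_ct (f495024 IH) (Lpr_dt (f454773 IH) (Lpr_ct (K57.f98986 IH) (Lpr_dt (K57.f139960 IH) (Lpr_ct (K9.f139940 IH) (Lpe (f58281 IH) (Lpe (K57.f58253 IH) (Lpr_dt (K57.f98934 IH) (Lpr_ct (f904644 IH) (Lpn v38810))))))))))
theorem f674208 : Led Lsl_ft (LP (LK LD1_c9 LD2_c27 LD3_c22)) = (LP (LK LD1_c4 LD2_c47 LD3_c9)) :=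
  Lre_f IH (LK LD1_c9 LD2_c27 LD3_c22) (LK LD1_c4 LD2_c47 LD3_c9) Lrfl Lrfl
theorem f704361 : Led Lsl_dt (LP (LK LD1_c4 LD2_c47 LD3_c9)) = (LP (LK LD1_c9 LD2_c27 LD3_c21)) :=
  Lre_d IH (LK LD1_c4 LD2_c47 LD3_c9) (LK LD1_c9 LD2_c27 LD3_c21) Lrfl Lrfl
theorem f904654 : Led Lsl_ft (LP (LK LD1_c9 LD2_c27 LD3_c21)) = v38810 :=
  Lgr Lrot54 (Lpe (f704361 IH) (Lpe (f674208 IH) (Lpr_df (f904649 IH) (Lpn v38810))))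
theorem f905018 : Led Lsl_gt (LP (LK LD1_c9 LD2_c27 LD3_c21)) = v38870 :=
  Lgr Lrot5 (Lpr_ft (f904654 IH) (Lpe (f904645 IH) (Lpr_gf (f905017 IH) (Lpn v38870))))
theorem f674201 : Led Lsl_ct (LP (LK LD1_c17 LD2_c10 LD3_c43)) = (LP (LK LD1_c9 LD2_c27 LD3_c21)) :=
  Lre_c IH (LK LD1_c17 LD2_c10 LD3_c43) (LK LD1_c9 LD2_c27 LD3_c21) Lrfl Lrfl
def v25989 : LQ := Led Lsl_ct K59.v6148
theorem f831494 : Led Lsl_ct K59.v6148 = v25989 :=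
  Lrfl
theorem f831499 : Led Lsl_gt K51.v13682 = v25989 :=
  Lgr Lrot65 (Lpe (K51.f704283 IH) (Lpe (K50.f704226 IH) (Lpr_gf (K60.f781931 IH) (Lpe (K60.f781913 IH) (Lpr_ct (K60.f776779 IH) (Lpq (K60.f777829 IH) (Lpr_gf (K60.f624183 IH) (Lpe (K49.f62119 IH) (Lpe (K32.f508997 IH) (Lpr_bf (K59.f651525 IH) (Lpr_ct (f831494 IH) (Lpn v25989))))))))))))
theorem f831496 : Led Lsl_cf K59.v6148 = v25989 :=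
  Lgr Lrot11 (Lpr_ct (f831494 IH) (Lpn v25989))
def v7907 : LQ := Led Lsl_ct K49.v1355
theorem f668944 : Led Lsl_ct K49.v1355 = v7907 :=
  Lrfl
def v28000 : LQ := Led Lsl_dt v7907
theorem f842457 : Led Lsl_dt v7907 = v28000 :=
  Lrfl
theorem f905019 : Led Lsl_cf v28000 = v38870 :=
  Lgr Lrot99 (Lpe (f842457 IH) (Lpe (f668944 IH) (Lpqs (f770997 IH) (Lpr_gf (f672121 IH) (Lpq (K59.f768886 IH) (Lpr_cf (f831496 IH) (Lpe (f831499 IH) (Lpe (K51.f704284 IH) (Lpr_gt (K51.f444313 IH) (Lpr_ct (f674201 IH) (Lpr_gt (f905018 IH) (Lpn v38870))))))))))))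
def v38817 : LQ := Led Lsl_dt (LP (LK LD1_c9 LD2_c16 LD3_c10))
theorem f904715 : Led Lsl_dt (LP (LK LD1_c9 LD2_c16 LD3_c10)) = v38817 :=
  Lrfl
theorem f78661 : Led Lsl_et (LP (LK LD1_c9 LD2_c16 LD3_c10)) = (LP (LK LD1_c4 LD2_c40 LD3_c23)) :=
  Lre_e IH (LK LD1_c9 LD2_c16 LD3_c10) (LK LD1_c4 LD2_c40 LD3_c23) Lrfl Lrfl
theorem f103242 : Led Lsl_et (LP (LK LD1_c3 LD2_c7 LD3_c32)) = (LP (LK LD1_c6 LD2_c19 LD3_c59)) :=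
  Lre_e IH (LK LD1_c3 LD2_c7 LD3_c32) (LK LD1_c6 LD2_c19 LD3_c59) Lrfl Lrfl
def v13553 : LQ := Led Lsl_gt (LP (LK LD1_c4 LD2_c45 LD3_c26))
theorem f703660 : Led Lsl_gt (LP (LK LD1_c4 LD2_c45 LD3_c26)) = v13553 :=
  Lrfl
def v8842 : LQ := Led Lsl_bt K65.v2229
theorem f672460 : Led Lsl_bt K65.v2229 = v8842 :=
  Lrfl
theorem f672461 : Led Lsl_bf K65.v2229 = v8842 :=
  Lgr Lrot24 (Lpr_bt (f672460 IH) (Lpn v8842))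
theorem f703662 : Led Lsl_ct v8842 = v13553 :=
  Lgr Lrot63 (Lpe (f672461 IH) (Lpe (K65.f509762 IH) (Lpe (K46.f140059 IH) (Lpe (K9.f140032 IH) (Lpr_gt (K0.f22928 IH) (Lpe (K17.f140058 IH) (Lpr_bt (K35.f98993 IH) (Lpr_gt (K35.f98978 IH) (Lpr_ct (K54.f98963 IH) (Lpr_gt (f703660 IH) (Lpn v13553)))))))))))
theorem f120689 : Led Lsl_ct (LP (LK LD1_c3 LD2_c7 LD3_c33)) = (LP (LK LD1_c6 LD2_c19 LD3_c59)) :=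
  Lre_c IH (LK LD1_c3 LD2_c7 LD3_c33) (LK LD1_c6 LD2_c19 LD3_c59) Lrfl Lrfl
theorem f707572 : v8842 = (LP (LK LD1_c3 LD2_c7 LD3_c33)) :=
  Lefun (Lecon (f672460 IH) (K65.f707544 IH)) (K4.f120134 IH)
theorem f707595 : v13553 = (LP (LK LD1_c6 LD2_c19 LD3_c59)) :=
  Lefun (Lecon (f703662 IH) (f707572 IH)) (f120689 IH)
theorem f703661 : Led Lsl_gf K35.v4436 = v13553 :=
  Lgr Lrot76 (Lpe (K35.f633361 IH) (Lpr_ff (K54.f633381 IH) (Lpqs (K54.f674022 IH) (Lpr_gt (f703660 IH) (Lpn v13553)))))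
def v7885 : LQ := Led Lsl_ct K49.v1348
theorem f668868 : Led Lsl_ct K49.v1348 = v7885 :=
  Lrfl
theorem f674010 : K35.v4436 = v7885 :=
  Lefun (Lecon (K54.f633365 IH) (K49.f674006 IH)) (f668868 IH)
theorem f668869 : Led Lsl_cf K49.v1348 = v7885 :=
  Lgr Lrot11 (Lpr_ct (f668868 IH) (Lpn v7885))
theorem f668946 : Led Lsl_ef v7885 = v7907 :=
  Lgr Lrot28 (Lpe (f668869 IH) (Lpr_et (K49.f495091 IH) (Lpr_ct (f668944 IH) (Lpn v7907))))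
theorem f904720 : Led Lsl_gt v28000 = v38817 :=
  Lgr Lrot112 (Lpe (f842457 IH) (Lpe (f668946 IH) (Lpq (f674010 IH) (Lpr_gf (f703661 IH) (Lpqs (f707595 IH) (Lpe (f103242 IH) (Lpr_dt (K3.f61889 IH) (Lpr_gf (K3.f103239 IH) (Lpe (K3.f78654 IH) (Lpe (K3.f58771 IH) (Lpe (f78661 IH) (Lpr_dt (f904715 IH) (Lpn v38817)))))))))))))
theorem f904717 : Led Lsl_df (LP (LK LD1_c9 LD2_c16 LD3_c10)) = v38817 :=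
  Lgr Lrot38 (Lpr_dt (f904715 IH) (Lpn v38817))
theorem f701422 : Led Lsl_dt (LP (LK LD1_c4 LD2_c40 LD3_c46)) = (LP (LK LD1_c9 LD2_c16 LD3_c58)) :=
  Lre_d IH (LK LD1_c4 LD2_c40 LD3_c46) (LK LD1_c9 LD2_c16 LD3_c58) Lrfl Lrfl
theorem f701423 : Led Lsl_ct (LP (LK LD1_c9 LD2_c16 LD3_c58)) = (LP (LK LD1_c17 LD2_c12 LD3_c0)) :=
  Lre_c IH (LK LD1_c9 LD2_c16 LD3_c58) (LK LD1_c17 LD2_c12 LD3_c0) Lrfl Lrfl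
theorem f674214 : Led Lsl_dt (LP (LK LD1_c9 LD2_c16 LD3_c54)) = (LP (LK LD1_c17 LD2_c11 LD3_c60)) :=
  Lre_d IH (LK LD1_c9 LD2_c16 LD3_c54) (LK LD1_c17 LD2_c11 LD3_c60) Lrfl Lrfl
theorem f704326 : Led Lsl_gt (LP (LK LD1_c17 LD2_c11 LD3_c60)) = (LP (LK LD1_c9 LD2_c27 LD3_c19)) :=
  Lre_g IH (LK LD1_c17 LD2_c11 LD3_c60) (LK LD1_c9 LD2_c27 LD3_c19) Lrfl Lrfl
theorem f905024 : Led Lsl_df (LP (LK LD1_c17 LD2_c12 LD3_c0)) = (LP (LK LD1_c9 LD2_c27 LD3_c19)) :=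
  Lgr Lrot84 (Lpe (f701423 IH) (Lpe (f701422 IH) (Lpr_gf (K51.f701421 IH) (Lpqs (K51.f708647 IH) (Lpr_df (f904717 IH) (Lpe (f904720 IH) (Lpr_cf (f905019 IH) (Lpe (f905017 IH) (Lpr_dt (f674214 IH) (Lpr_gt (f704326 IH) (Lpn (LP (LK LD1_c9 LD2_c27 LD3_c19)))))))))))))
theorem f905025 : Led Lsl_dt (LP (LK LD1_c9 LD2_c27 LD3_c19)) = (LP (LK LD1_c17 LD2_c12 LD3_c0)) :=
  Leop (Lpr_df (f905024 IH) (Lpn (LP (LK LD1_c9 LD2_c27 LD3_c19))))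
theorem seed_2274 : LEOK LG_d (LK LD1_c9 LD2_c27 LD3_c19) :=
  Leoe_d (LK LD1_c9 LD2_c27 LD3_c19) (f905025 IH)
def v38886 : LQ := Led Lsl_bt (LP (LK LD1_c9 LD2_c16 LD3_c61))
theorem f905132 : Led Lsl_bt (LP (LK LD1_c9 LD2_c16 LD3_c61)) = v38886 :=
  Lrfl
theorem f758160 : Led Lsl_ff (LP (LK LD1_c9 LD2_c16 LD3_c61)) = K57.v17285 :=
  Lgr Lrot3 (Lpr_ft (K57.f758159 IH) (Lpn K57.v17285))
def v18739 : LQ := Led Lsl_bt (LP (LK LD1_c6 LD2_c32 LD3_c33))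
theorem f768271 : Led Lsl_bt (LP (LK LD1_c6 LD2_c32 LD3_c33)) = v18739 :=
  Lrfl
theorem f768272 : Led Lsl_bf (LP (LK LD1_c6 LD2_c32 LD3_c33)) = v18739 :=
  Lgr Lrot24 (Lpr_bt (f768271 IH) (Lpn v18739))
theorem f905136 : Led Lsl_ff v18739 = v38886 :=
  Lgr Lrot25 (Lpe (f768272 IH) (Lpqs (K59.f774066 IH) (Lpe (f758160 IH) (Lpr_bt (f905132 IH) (Lpn v38886)))))
theorem f767835 : Led Lsl_bt K57.v17285 = K59.v18633 :=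
  Lgr Lrot119 (Lpe (K57.f758148 IH) (Lpr_bf (K59.f715586 IH) (Lpr_ef (K59.f767834 IH) (Lpn K59.v18633))))
theorem f774071 : K59.v18633 = v18739 :=
  Lefun (Lecon (f767835 IH) (K59.f774066 IH).symm) (f768271 IH)
def v17296 : LQ := Led Lsl_ft (LP (LK LD1_c6 LD2_c17 LD3_c30))
theorem f758227 : Led Lsl_ft (LP (LK LD1_c6 LD2_c17 LD3_c30)) = v17296 :=
  Lrfl
theorem f758229 : Led Lsl_ff (LP (LK LD1_c6 LD2_c17 LD3_c30)) = v17296 :=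
  Lgr Lrot3 (Lpr_ft (f758227 IH) (Lpn v17296))
theorem f758230 : Led Lsl_bt K57.v5318 = v17296 :=
  Lgr Lrot35 (Lpe (K57.f647053 IH) (Lpe (K56.f58361 IH) (Lpr_ff (f758229 IH) (Lpn v17296))))
theorem f758268 : v17296 = (LP (LK LD1_c6 LD2_c31 LD3_c32)) :=
  Lefun (Lecon (f758230 IH) (K57.f758264 IH)) (K59.f715584 IH)
def v13151 : LQ := Led Lsl_ft (LP (LK LD1_c4 LD2_c40 LD3_c45))
theorem f701415 : Led Lsl_ft (LP (LK LD1_c4 LD2_c40 LD3_c45)) = v13151 :=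
  Lrfl
theorem f701418 : Led Lsl_ff (LP (LK LD1_c4 LD2_c40 LD3_c45)) = v13151 :=
  Lgr Lrot3 (Lpr_ft (f701415 IH) (Lpn v13151))
theorem f701420 : Led Lsl_bt K51.v4241 = v13151 :=
  Lgr Lrot35 (Lpe (K51.f632150 IH) (Lpe (K50.f61054 IH) (Lpr_ff (f701418 IH) (Lpn v13151))))
theorem f674227 : Led Lsl_dt K66.v6676 = K66.v9199 :=
  Lgr Lrot60 (Lpe (K66.f657635 IH) (Lpr_df (K50.f523708 IH) (Lpr_ff (K66.f674224 IH) (Lpn K66.v9199))))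
theorem f76819 : Led Lsl_ct (LP (LK LD1_c1 LD2_c38 LD3_c9)) = (LP (LK LD1_c0 LD2_c45 LD3_c30)) :=
  Lre_c IH (LK LD1_c1 LD2_c38 LD3_c9) (LK LD1_c0 LD2_c45 LD3_c30) Lrfl Lrfl
def v5366 : LQ := Led Lsl_gf (LP (LK LD1_c3 LD2_c6 LD3_c55))
theorem f647266 : Led Lsl_gf (LP (LK LD1_c3 LD2_c6 LD3_c55)) = v5366 :=
  Lrfl
theorem f674927 : Led Lsl_cf v5366 = K66.v9257 :=
  Lgr Lrot169 (Lpe (f647266 IH) (Lpr_ct (K50.f76843 IH) (Lpe (K2.f76791 IH) (Lpe (f76819 IH) (Lpe (K35.f76880 IH) (Lpr_cf (K35.f633194 IH) (Lpq (K54.f663085 IH) (Lpr_gf (K66.f674229 IH) (Lpe (f674227 IH) (Lpr_gt (K66.f674926 IH) (Lpn K66.v9257)))))))))))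
theorem f67005 : Led Lsl_bt (LP (LK LD1_c1 LD2_c29 LD3_c36)) = (LP (LK LD1_c0 LD2_c41 LD3_c26)) :=
  Lre_b IH (LK LD1_c1 LD2_c29 LD3_c36) (LK LD1_c0 LD2_c41 LD3_c26) Lrfl Lrfl
theorem f140034 : Led Lsl_bt (LP (LK LD1_c1 LD2_c5 LD3_c44)) = (LP (LK LD1_c2 LD2_c17 LD3_c27)) :=
  Lre_b IH (LK LD1_c1 LD2_c5 LD3_c44) (LK LD1_c2 LD2_c17 LD3_c27) Lrfl Lrfl
theorem f674929 : Led Lsl_bf (LP (LK LD1_c4 LD2_c40 LD3_c21)) = K66.v9257 :=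
  Lgr Lrot34 (Lpe (K57.f140035 IH) (Lpe (f140034 IH) (Lpr_ct (K16.f58575 IH) (Lpe (K1.f27146 IH) (Lpr_cf (K9.f140023 IH) (Lpe (K9.f66976 IH) (Lpe (f67005 IH) (Lpr_ct (K50.f77077 IH) (Lpr_gf (f647266 IH) (Lpr_cf (f674927 IH) (Lpn K66.v9257)))))))))))
theorem f674930 : Led Lsl_bt (LP (LK LD1_c4 LD2_c40 LD3_c21)) = K66.v9257 :=
  Lgr Lrot127 (Lpr_bf (f674929 IH) (Lpn K66.v9257))
theorem f758285 : v13151 = K66.v9257 :=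
  Lefun (Lecon (f701420 IH) (K57.f758281 IH)) (f674930 IH)
def v13150 : LQ := Led Lsl_dt (LP (LK LD1_c4 LD2_c40 LD3_c45))
theorem f701409 : Led Lsl_dt (LP (LK LD1_c4 LD2_c40 LD3_c45)) = v13150 :=
  Lrfl
theorem f701411 : Led Lsl_df (LP (LK LD1_c4 LD2_c40 LD3_c45)) = v13150 :=
  Lgr Lrot38 (Lpr_dt (f701409 IH) (Lpn v13150))
theorem f758226 : Led Lsl_dt K66.v9257 = K66.v17295 :=
  Lgr Lrot42 (Lpr_df (K66.f758225 IH) (Lpn K66.v17295))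
theorem f758409 : Led Lsl_ff v13150 = K66.v17295 :=
  Lgr Lrot19 (Lpe (f701411 IH) (Lpr_ft (f701415 IH) (Lpqs (f758285 IH) (Lpr_dt (f758226 IH) (Lpn K66.v17295)))))
theorem f905137 : Led Lsl_et v13150 = v38886 :=
  Lgr Lrot69 (Lpr_ff (f758409 IH) (Lpe (K66.f758221 IH) (Lpr_ff (f758229 IH) (Lpqs (f758268 IH) (Lpr_ef (K59.f767834 IH) (Lpqs (f774071 IH) (Lpr_ff (f905136 IH) (Lpn v38886))))))))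
def v13147 : LQ := Led Lsl_gf (LP (LK LD1_c4 LD2_c40 LD3_c45))
theorem f701393 : Led Lsl_gf (LP (LK LD1_c4 LD2_c40 LD3_c45)) = v13147 :=
  Lrfl
theorem f701403 : (LP (LK LD1_c3 LD2_c25 LD3_c32)) = v13147 :=
  Lefun (Lecon (Lfl_gt (K50.f657633 IH)) (K50.f701401 IH)) (f701393 IH)
theorem f658052 : Led Lsl_dt K58.v2332 = K65.v6722 :=
  Lgr Lrot77 (Lpe (K58.f514684 IH) (Lpe (K3.f17658 IH) (Lpe (K5.f90268 IH) (Lpe (K7.f90282 IH) (Lpr_ef (K65.f658050 IH) (Lpn K65.v6722))))))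
theorem f148379 : Led Lsl_dt (LP (LK LD1_c4 LD2_c48 LD3_c26)) = (LP (LK LD1_c6 LD2_c31 LD3_c17)) :=
  Lgr Lrot42 (Lpr_df (K48.f148374 IH) (Lpn (LP (LK LD1_c6 LD2_c31 LD3_c17))))
def v13820 : LQ := Led Lsl_bt (LP (LK LD1_c4 LD2_c48 LD3_c26))
theorem f705056 : Led Lsl_bt (LP (LK LD1_c4 LD2_c48 LD3_c26)) = v13820 :=
  Lrfl
theorem f705057 : Led Lsl_bf (LP (LK LD1_c4 LD2_c48 LD3_c26)) = v13820 :=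
  Lgr Lrot24 (Lpr_bt (f705056 IH) (Lpn v13820))
theorem f767721 : Led Lsl_df v13820 = K59.v18610 :=
  Lgr Lrot12 (Lpe (f705057 IH) (Lpr_dt (f148379 IH) (Lpr_bt (K59.f767719 IH) (Lpn K59.v18610))))
theorem f773973 : Led Lsl_gt v13820 = K65.v6722 :=
  Lgr Lrot112 (Lpr_df (f767721 IH) (Lpe (K59.f767722 IH) (Lpqs (K59.f773952 IH) (Lpe (K59.f633095 IH) (Lpe (K58.f102318 IH) (Lpr_dt (K66.f102316 IH) (Lpe (K3.f107263 IH) (Lpe (K5.f107268 IH) (Lpr_gf (K5.f107269 IH) (Lpr_ef (K58.f514686 IH) (Lpr_dt (f658052 IH) (Lpn K65.v6722))))))))))))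
theorem f905140 : Led Lsl_gf K59.v18610 = v38886 :=
  Lgr Lrot138 (Lpe (f767721 IH) (Lpr_gt (f773973 IH) (Lpe (f658052 IH) (Lpe (K58.f514686 IH) (Lpe (K5.f107269 IH) (Lpr_ef (K49.f523709 IH) (Lpe (K50.f523708 IH) (Lpqs (f701403 IH) (Lpe (f701393 IH) (Lpr_df (f701411 IH) (Lpr_et (f905137 IH) (Lpn v38886))))))))))))
def v31011 : LQ := Led Lsl_ft K59.v10188
theorem f856742 : Led Lsl_ft K59.v10188 = v31011 :=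
  Lrfl
theorem f856745 : Led Lsl_ff K59.v10188 = v31011 :=
  Lgr Lrot3 (Lpr_ft (f856742 IH) (Lpn v31011))
theorem f905141 : Led Lsl_gt v31011 = v38886 :=
  Lgr Lrot5 (Lpe (f856745 IH) (Lpe (K59.f770709 IH) (Lpr_gf (f905140 IH) (Lpn v38886))))
theorem f770712 : Led Lsl_bf K59.v18383 = K59.v10188 :=
  Lgr Lrot24 (Lpr_bt (K59.f770711 IH) (Lpn K59.v10188))
theorem f856746 : Led Lsl_bt K65.v25916 = v31011 :=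
  Lgr Lrot35 (Lpe (K65.f831156 IH) (Lpq (K65.f772257 IH) (Lpr_bf (f770712 IH) (Lpr_ff (f856745 IH) (Lpn v31011)))))
theorem f668801 : Led Lsl_ct (LP (LK LD1_c9 LD2_c16 LD3_c61)) = (LP (LK LD1_c17 LD2_c12 LD3_c5)) :=
  Lre_c IH (LK LD1_c9 LD2_c16 LD3_c61) (LK LD1_c17 LD2_c12 LD3_c5) Lrfl Lrfl
def v23999 : LQ := Led Lsl_et K66.v4396
theorem f821866 : Led Lsl_et K66.v4396 = v23999 :=
  Lrfl
theorem f633367 : Led Lsl_et (LP (LK LD1_c4 LD2_c47 LD3_c22)) = (LP (LK LD1_c2 LD2_c21 LD3_c32)) :=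
  Lre_e IH (LK LD1_c4 LD2_c47 LD3_c22) (LK LD1_c2 LD2_c21 LD3_c32) Lrfl Lrfl
theorem f709812 : Led Lsl_et (LP (LK LD1_c9 LD2_c16 LD3_c60)) = (LP (LK LD1_c17 LD2_c12 LD3_c5)) :=
  Lre_e IH (LK LD1_c9 LD2_c16 LD3_c60) (LK LD1_c17 LD2_c12 LD3_c5) Lrfl Lrfl
theorem f821869 : Led Lsl_gt (LP (LK LD1_c17 LD2_c12 LD3_c5)) = v23999 :=
  Lgr Lrot131 (Lpe (f709812 IH) (Lpr_dt (K51.f632154 IH) (Lpr_gf (K51.f708645 IH) (Lpe (K4.f103013 IH) (Lpq (K51.f708582 IH) (Lpe (K51.f633369 IH) (Lpe (f633367 IH) (Lpr_dt (K59.f633372 IH) (Lpr_gf (K66.f821863 IH) (Lpe (K66.f821861 IH) (Lpr_et (f821866 IH) (Lpn v23999))))))))))))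
theorem f446385 : Led Lsl_ft (LP (LK LD1_c1 LD2_c7 LD3_c27)) = (LP (LK LD1_c0 LD2_c31 LD3_c5)) :=
  Lre_f IH (LK LD1_c1 LD2_c7 LD3_c27) (LK LD1_c0 LD2_c31 LD3_c5) Lrfl Lrfl
theorem f633065 : Led Lsl_et (LP (LK LD1_c2 LD2_c20 LD3_c50)) = K51.v4386 :=
  Lgr Lrot69 (Lpe (K49.f495017 IH) (Lpe (K49.f103475 IH) (Lpe (f446385 IH) (Lpe (K51.f78010 IH) (Lpr_ff (K51.f633059 IH) (Lpn K51.v4386))))))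
theorem f758569 : Led Lsl_gt K59.v13640 = (LP (LK LD1_c9 LD2_c16 LD3_c61)) :=
  Lgr Lrot131 (Lpe (K65.f704026 IH) (Lpr_dt (K65.f758567 IH) (Lpe (f704527 IH) (Lpe (f668952 IH) (Lpr_gf (K51.f633066 IH) (Lpe (f633065 IH) (Lpr_dt (K51.f58313 IH) (Lpe (K59.f58341 IH) (Lpe (K57.f632143 IH) (Lpr_et (K57.f633075 IH) (Lpn (LP (LK LD1_c9 LD2_c16 LD3_c61)))))))))))))
theorem f821873 : Led Lsl_ct (LP (LK LD1_c12 LD2_c27 LD3_c48)) = v23999 :=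
  Lgr Lrot63 (Lpr_bt (f632623 IH) (Lpq (K57.f761223 IH) (Lpe (K57.f759629 IH) (Lpe (K58.f61697 IH) (Lpr_ct (K41.f444220 IH) (Lpe (K41.f507141 IH) (Lpr_cf (K32.f442893 IH) (Lpr_bt (K59.f442919 IH) (Lpqs (K59.f770536 IH) (Lpr_gt (f758569 IH) (Lpr_ct (f668801 IH) (Lpr_gt (f821869 IH) (Lpn v23999)))))))))))))
theorem f905142 : Led Lsl_gf (LP (LK LD1_c12 LD2_c28 LD3_c32)) = (LP (LK LD1_c12 LD2_c13 LD3_c32)) :=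
  Lgr Lrot129 (Lpr_cf (K65.f831159 IH) (Lpr_bt (f856746 IH) (Lpr_gt (f905141 IH) (Lpe (f905132 IH) (Lpr_ct (f668801 IH) (Lpr_gt (f821869 IH) (Lpe (f821873 IH) (Lpr_bt (f632623 IH) (Lpq (K57.f761223 IH) (Lpe (K57.f759629 IH) (Lpr_ct (K57.f442837 IH) (Lpn (LP (LK LD1_c12 LD2_c13 LD3_c32))))))))))))))
theorem f905143 : Led Lsl_gt (LP (LK LD1_c12 LD2_c13 LD3_c32)) = (LP (LK LD1_c12 LD2_c28 LD3_c32)) :=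
  Leop (Lpr_gf (f905142 IH) (Lpn (LP (LK LD1_c12 LD2_c13 LD3_c32))))
theorem seed_2275 : LEOK LG_g (LK LD1_c12 LD2_c13 LD3_c32) :=
  Leoe_g (LK LD1_c12 LD2_c13 LD3_c32) (f905143 IH)
def v38895 : LQ := Led Lsl_dt (LP (LK LD1_c9 LD2_c17 LD3_c11))
theorem f905197 : Led Lsl_dt (LP (LK LD1_c9 LD2_c17 LD3_c11)) = v38895 :=
  Lrfl
theorem f739935 : Led Lsl_ff (LP (LK LD1_c9 LD2_c17 LD3_c11)) = (LP (LK LD1_c12 LD2_c9 LD3_c1)) :=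
  Lgr Lrot23 (Lpr_ct (K53.f713743 IH) (Lpr_ft (K55.f739931 IH) (Lpe (K55.f739899 IH) (Lpn (LP (LK LD1_c12 LD2_c9 LD3_c1))))))
theorem f117882 : Led Lsl_dt (LP (LK LD1_c21 LD2_c15 LD3_c18)) = (LP (LK LD1_c12 LD2_c9 LD3_c1)) :=
  Lre_d IH (LK LD1_c21 LD2_c15 LD3_c18) (LK LD1_c12 LD2_c9 LD3_c1) Lrfl Lrfl
theorem f905201 : Led Lsl_ff (LP (LK LD1_c21 LD2_c15 LD3_c18)) = v38895 :=
  Lgr Lrot19 (Lpr_dt (f117882 IH) (Lpe (f739935 IH) (Lpr_dt (f905197 IH) (Lpn v38895))))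
def v38891 : LQ := Led Lsl_dt (LP (LK LD1_c9 LD2_c17 LD3_c4))
theorem f905163 : Led Lsl_dt (LP (LK LD1_c9 LD2_c17 LD3_c4)) = v38891 :=
  Lrfl
theorem f905166 : Led Lsl_df (LP (LK LD1_c9 LD2_c17 LD3_c4)) = v38891 :=
  Lgr Lrot38 (Lpr_dt (f905163 IH) (Lpn v38891))
theorem f739897 : Led Lsl_bf (LP (LK LD1_c12 LD2_c9 LD3_c1)) = (LP (LK LD1_c9 LD2_c17 LD3_c4)) :=
  Lgr Lrot96 (Lpr_et (K55.f739893 IH) (Lpr_bt (K69.f75872 IH) (Lpr_et (K5.f75868 IH) (Lpn (LP (LK LD1_c9 LD2_c17 LD3_c4))))))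
theorem f112334 : Led Lsl_dt (LP (LK LD1_c12 LD2_c9 LD3_c1)) = (LP (LK LD1_c21 LD2_c15 LD3_c18)) :=
  Lre_d IH (LK LD1_c12 LD2_c9 LD3_c1) (LK LD1_c21 LD2_c15 LD3_c18) Lrfl Lrfl
theorem f905174 : Led Lsl_bt (LP (LK LD1_c21 LD2_c15 LD3_c18)) = v38891 :=
  Lgr Lrot95 (Lpe (f112334 IH) (Lpr_bf (f739897 IH) (Lpr_df (f905166 IH) (Lpn v38891))))
theorem f905168 : Led Lsl_ff K55.v13167 = v38891 :=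
  Lgr Lrot19 (Lpe (K55.f701494 IH) (Lpr_ft (K55.f701482 IH) (Lpqs (K55.f739960 IH) (Lpr_dt (f905163 IH) (Lpn v38891)))))
theorem f905202 : Led Lsl_bt K55.v13167 = v38895 :=
  Lgr Lrot35 (Lpr_ff (f905168 IH) (Lpe (f905174 IH) (Lpr_ff (f905201 IH) (Lpn v38895))))
theorem f638998 : Led Lsl_bt (LP (LK LD1_c2 LD2_c48 LD3_c16)) = (LP (LK LD1_c5 LD2_c44 LD3_c56)) :=
  Lre_b IH (LK LD1_c2 LD2_c48 LD3_c16) (LK LD1_c5 LD2_c44 LD3_c56) Lrfl Lrfl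
theorem f740204 : Led Lsl_ff (LP (LK LD1_c11 LD2_c18 LD3_c19)) = (LP (LK LD1_c5 LD2_c44 LD3_c56)) :=
  Lgr Lrot25 (Lpr_bt (K54.f416284 IH) (Lpqs (K55.f740005 IH) (Lpe (K54.f638997 IH) (Lpr_bt (f638998 IH) (Lpn (LP (LK LD1_c5 LD2_c44 LD3_c56)))))))
theorem f382071 : Led Lsl_gt (LP (LK LD1_c11 LD2_c17 LD3_c17)) = (LP (LK LD1_c20 LD2_c13 LD3_c22)) :=
  Lre_g IH (LK LD1_c11 LD2_c17 LD3_c17) (LK LD1_c20 LD2_c13 LD3_c22) Lrfl Lrfl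
theorem f740394 : Led Lsl_at (LP (LK LD1_c11 LD2_c18 LD3_c19)) = (LP (LK LD1_c20 LD2_c13 LD3_c22)) :=
  Lgr Lrot26 (Lpr_ff (f740204 IH) (Lpe (K55.f739881 IH) (Lpr_gt (f382071 IH) (Lpn (LP (LK LD1_c20 LD2_c13 LD3_c22))))))
theorem f740398 : Led Lsl_bf (LP (LK LD1_c11 LD2_c19 LD3_c56)) = (LP (LK LD1_c20 LD2_c13 LD3_c22)) :=
  Lgr Lrot81 (Lpr_at (K54.f638988 IH) (Lpr_bt (K52.f140498 IH) (Lpq (K55.f740004 IH) (Lpe (K55.f738377 IH) (Lpr_bt (K66.f738378 IH) (Lpr_at (f740394 IH) (Lpn (LP (LK LD1_c20 LD2_c13 LD3_c22)))))))))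
theorem f905204 : Led Lsl_ef (LP (LK LD1_c20 LD2_c13 LD3_c22)) = v38895 :=
  Lgr Lrot29 (Lpe (f740398 IH) (Lpr_et (K55.f740049 IH) (Lpr_bt (f905202 IH) (Lpn v38895))))
theorem f740402 : Led Lsl_ff (LP (LK LD1_c11 LD2_c20 LD3_c9)) = (LP (LK LD1_c20 LD2_c13 LD3_c22)) :=
  Lgr Lrot30 (Lpr_at (K54.f639009 IH) (Lpe (f740204 IH) (Lpr_at (f740394 IH) (Lpn (LP (LK LD1_c20 LD2_c13 LD3_c22))))))
theorem f740410 : Led Lsl_gf (LP (LK LD1_c11 LD2_c20 LD3_c8)) = (LP (LK LD1_c20 LD2_c13 LD3_c22)) :=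
  Lgr Lrot47 (Lpr_gt (K55.f711685 IH) (Lpe (K54.f639009 IH) (Lpr_ff (f740402 IH) (Lpn (LP (LK LD1_c20 LD2_c13 LD3_c22))))))
theorem f711687 : Led Lsl_dt (LP (LK LD1_c11 LD2_c20 LD3_c8)) = (LP (LK LD1_c6 LD2_c1 LD3_c16)) :=
  Lgr Lrot6 (Lpr_gt (K55.f711685 IH) (Lpr_ct (K55.f416005 IH) (Lpr_gt (K55.f711683 IH) (Lpr_ct (K55.f423133 IH) (Lpe (K52.f612931 IH) (Lpe (K53.f56823 IH) (Lpe (K54.f711661 IH) (Lpe (K52.f415572 IH) (Lpe (K55.f641558 IH) (Lpn (LP (LK LD1_c6 LD2_c1 LD3_c16))))))))))))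
theorem f415586 : Led Lsl_dt (LP (LK LD1_c6 LD2_c1 LD3_c19)) = (LP (LK LD1_c2 LD2_c56 LD3_c50)) :=
  Lre_d IH (LK LD1_c6 LD2_c1 LD3_c19) (LK LD1_c2 LD2_c56 LD3_c50) Lrfl Lrfl
theorem f645132 : Led Lsl_et (LP (LK LD1_c6 LD2_c1 LD3_c19)) = (LP (LK LD1_c11 LD2_c47 LD3_c17)) :=
  Lre_e IH (LK LD1_c6 LD2_c1 LD3_c19) (LK LD1_c11 LD2_c47 LD3_c17) Lrfl Lrfl
theorem f905200 : Led Lsl_df (LP (LK LD1_c9 LD2_c17 LD3_c11)) = v38895 :=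
  Lgr Lrot38 (Lpr_dt (f905197 IH) (Lpn v38895))
theorem f544925 : Led Lsl_et (LP (LK LD1_c6 LD2_c15 LD3_c37)) = (LP (LK LD1_c12 LD2_c9 LD3_c3)) :=
  Lre_e IH (LK LD1_c6 LD2_c15 LD3_c37) (LK LD1_c12 LD2_c9 LD3_c3) Lrfl Lrfl
theorem f595486 : Led Lsl_et (LP (LK LD1_c11 LD2_c7 LD3_c8)) = (LP (LK LD1_c5 LD2_c37 LD3_c56)) :=
  Lre_e IH (LK LD1_c11 LD2_c7 LD3_c8) (LK LD1_c5 LD2_c37 LD3_c56) Lrfl Lrfl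
theorem f595813 : Led Lsl_ft (LP (LK LD1_c20 LD2_c0 LD3_c27)) = (LP (LK LD1_c11 LD2_c7 LD3_c8)) :=
  Lre_f IH (LK LD1_c20 LD2_c0 LD3_c27) (LK LD1_c11 LD2_c7 LD3_c8) Lrfl Lrfl
theorem f595852 : Led Lsl_et (LP (LK LD1_c21 LD2_c15 LD3_c20)) = (LP (LK LD1_c20 LD2_c0 LD3_c27)) :=
  Lgr Lrot69 (Lpe (K54.f112332 IH) (Lpe (f544925 IH) (Lpr_ff (K52.f595532 IH) (Lpe (f595486 IH) (Lpe (f595813 IH) (Lpn (LP (LK LD1_c20 LD2_c0 LD3_c27))))))))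
theorem f905207 : Led Lsl_gt (LP (LK LD1_c11 LD2_c47 LD3_c17)) = (LP (LK LD1_c20 LD2_c0 LD3_c27)) :=
  Lgr Lrot131 (Lpe (f645132 IH) (Lpr_dt (f415586 IH) (Lpe (K55.f641558 IH) (Lpe (f711687 IH) (Lpr_gf (f740410 IH) (Lpr_ef (f905204 IH) (Lpe (f905200 IH) (Lpr_gf (K54.f714941 IH) (Lpe (K54.f112341 IH) (Lpr_et (f595852 IH) (Lpn (LP (LK LD1_c20 LD2_c0 LD3_c27)))))))))))))
theorem f905208 : Led Lsl_gt (LP (LK LD1_c11 LD2_c47 LD3_c17)) = (LP (LK LD1_c20 LD2_c0 LD3_c27)) :=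
  Leop (Lpe (f905207 IH) (Lpn (LP (LK LD1_c11 LD2_c47 LD3_c17))))
theorem seed_2276 : LEOK LG_g (LK LD1_c11 LD2_c47 LD3_c17) :=
  Leoe_g (LK LD1_c11 LD2_c47 LD3_c17) (f905208 IH)
def v38905 : LQ := Led Lsl_et (LP (LK LD1_c9 LD2_c17 LD3_c21))
theorem f905265 : Led Lsl_et (LP (LK LD1_c9 LD2_c17 LD3_c21)) = v38905 :=
  Lrfl
theorem f905269 : Led Lsl_ef (LP (LK LD1_c9 LD2_c17 LD3_c21)) = v38905 :=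
  Lgr Lrot88 (Lpr_et (f905265 IH) (Lpn v38905))
theorem f905272 : Led Lsl_ct (LP (LK LD1_c9 LD2_c17 LD3_c23)) = v38905 :=
  Lgr Lrot15 (Lpe (K51.f639711 IH) (Lpe (K52.f61042 IH) (Lpr_ef (f905269 IH) (Lpn v38905))))
theorem f435629 : Led Lsl_gt (LP (LK LD1_c20 LD2_c34 LD3_c12)) = (LP (LK LD1_c11 LD2_c35 LD3_c56)) :=
  Lre_g IH (LK LD1_c20 LD2_c34 LD3_c12) (LK LD1_c11 LD2_c35 LD3_c56) Lrfl Lrfl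
theorem f643115 : Led Lsl_bt (LP (LK LD1_c27 LD2_c41 LD3_c1)) = (LP (LK LD1_c17 LD2_c56 LD3_c6)) :=
  Lre_b IH (LK LD1_c27 LD2_c41 LD3_c1) (LK LD1_c17 LD2_c56 LD3_c6) Lrfl Lrfl
theorem f643206 : Led Lsl_cf (LP (LK LD1_c20 LD2_c34 LD3_c12)) = (LP (LK LD1_c27 LD2_c41 LD3_c1)) :=
  Lgr Lrot160 (Lpr_gt (f435629 IH) (Lpe (K50.f435618 IH) (Lpr_bt (K45.f435583 IH) (Lpr_gt (K35.f437529 IH) (Lpr_ct (K8.f61037 IH) (Lpe (K32.f419119 IH) (Lpr_cf (K35.f622866 IH) (Lpr_bt (K52.f622594 IH) (Lpr_gt (K66.f643204 IH) (Lpe (f643115 IH) (Lpn (LP (LK LD1_c27 LD2_c41 LD3_c1)))))))))))))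
theorem f204229 : Led Lsl_dt (LP (LK LD1_c20 LD2_c51 LD3_c21)) = (LP (LK LD1_c11 LD2_c48 LD3_c53)) :=
  Lre_d IH (LK LD1_c20 LD2_c51 LD3_c21) (LK LD1_c11 LD2_c48 LD3_c53) Lrfl Lrfl
theorem f204230 : Led Lsl_gt (LP (LK LD1_c11 LD2_c49 LD3_c11)) = (LP (LK LD1_c20 LD2_c51 LD3_c21)) :=
  Lre_g IH (LK LD1_c11 LD2_c49 LD3_c11) (LK LD1_c20 LD2_c51 LD3_c21) Lrfl Lrfl
theorem f425743 : Led Lsl_dt (LP (LK LD1_c20 LD2_c51 LD3_c44)) = (LP (LK LD1_c11 LD2_c49 LD3_c11)) :=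
  Lre_d IH (LK LD1_c20 LD2_c51 LD3_c44) (LK LD1_c11 LD2_c49 LD3_c11) Lrfl Lrfl
theorem f905273 : Led Lsl_gf (LP (LK LD1_c20 LD2_c51 LD3_c44)) = v38905 :=
  Lgr Lrot148 (Lpr_dt (f425743 IH) (Lpr_gt (f204230 IH) (Lpr_dt (f204229 IH) (Lpr_ct (K53.f204226 IH) (Lpe (K49.f538058 IH) (Lpe (K42.f207328 IH) (Lpe (K45.f207332 IH) (Lpr_gf (K60.f706522 IH) (Lpr_ct (f905272 IH) (Lpn v38905))))))))))
theorem f644219 : Led Lsl_ct (LP (LK LD1_c6 LD2_c2 LD3_c24)) = (LP (LK LD1_c11 LD2_c49 LD3_c9)) :=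
  Lre_c IH (LK LD1_c6 LD2_c2 LD3_c24) (LK LD1_c11 LD2_c49 LD3_c9) Lrfl Lrfl
theorem f137757 : Led Lsl_dt (LP (LK LD1_c2 LD2_c57 LD3_c17)) = (LP (LK LD1_c6 LD2_c2 LD3_c25)) :=
  Lre_d IH (LK LD1_c2 LD2_c57 LD3_c17) (LK LD1_c6 LD2_c2 LD3_c25) Lrfl Lrfl
theorem f204563 : Led Lsl_gt (LP (LK LD1_c6 LD2_c2 LD3_c25)) = (LP (LK LD1_c11 LD2_c49 LD3_c11)) :=
  Lre_g IH (LK LD1_c6 LD2_c2 LD3_c25) (LK LD1_c11 LD2_c49 LD3_c11) Lrfl Lrfl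
theorem f204564 : Led Lsl_dt (LP (LK LD1_c11 LD2_c49 LD3_c11)) = (LP (LK LD1_c20 LD2_c51 LD3_c44)) :=
  Lre_d IH (LK LD1_c11 LD2_c49 LD3_c11) (LK LD1_c20 LD2_c51 LD3_c44) Lrfl Lrfl
theorem f644223 : Led Lsl_cf (LP (LK LD1_c20 LD2_c51 LD3_c44)) = (LP (LK LD1_c21 LD2_c50 LD3_c43)) :=
  Lgr Lrot14 (Lpe (f204564 IH) (Lpe (f204563 IH) (Lpe (f137757 IH) (Lpe (K50.f119643 IH) (Lpr_ct (f644219 IH) (Lpr_gt (K50.f644217 IH) (Lpr_dt (K42.f570768 IH) (Lpr_gt (K50.f132531 IH) (Lpr_dt (K53.f132533 IH) (Lpn (LP (LK LD1_c21 LD2_c50 LD3_c43))))))))))))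
theorem f905274 : Led Lsl_gf (LP (LK LD1_c27 LD2_c41 LD3_c1)) = (LP (LK LD1_c20 LD2_c51 LD3_c39)) :=
  Lgr Lrot181 (Lpe (f643206 IH) (Lpr_gt (f435629 IH) (Lpe (K50.f435618 IH) (Lpr_bt (K45.f435583 IH) (Lpr_gt (K35.f437529 IH) (Lpe (K53.f27033 IH) (Lpr_ct (f905272 IH) (Lpe (f905273 IH) (Lpr_cf (f644223 IH) (Lpe (K53.f615282 IH) (Lpn (LP (LK LD1_c20 LD2_c51 LD3_c39)))))))))))))
theorem f905275 : Led Lsl_gt (LP (LK LD1_c20 LD2_c51 LD3_c39)) = (LP (LK LD1_c27 LD2_c41 LD3_c1)) :=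
  Leop (Lpr_gf (f905274 IH) (Lpn (LP (LK LD1_c20 LD2_c51 LD3_c39))))
theorem seed_2277 : LEOK LG_g (LK LD1_c20 LD2_c51 LD3_c39) :=
  Leoe_g (LK LD1_c20 LD2_c51 LD3_c39) (f905275 IH)
def v38998 : LQ := Led Lsl_bt (LP (LK LD1_c9 LD2_c18 LD3_c37))
theorem f905818 : Led Lsl_bt (LP (LK LD1_c9 LD2_c18 LD3_c37)) = v38998 :=
  Lrfl
theorem f905820 : Led Lsl_bf (LP (LK LD1_c9 LD2_c18 LD3_c37)) = v38998 :=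
  Lgr Lrot24 (Lpr_bt (f905818 IH) (Lpn v38998))
theorem f500139 : Led Lsl_gt (LP (LK LD1_c4 LD2_c42 LD3_c8)) = (LP (LK LD1_c9 LD2_c18 LD3_c37)) :=
  Lre_g IH (LK LD1_c4 LD2_c42 LD3_c8) (LK LD1_c9 LD2_c18 LD3_c37) Lrfl Lrfl
theorem f500138 : Led Lsl_bt (LP (LK LD1_c2 LD2_c18 LD3_c23)) = (LP (LK LD1_c4 LD2_c42 LD3_c8)) :=
  Lre_b IH (LK LD1_c2 LD2_c18 LD3_c23) (LK LD1_c4 LD2_c42 LD3_c8) Lrfl Lrfl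
theorem f24647 : Led Lsl_ct (LP (LK LD1_c3 LD2_c19 LD3_c24)) = (LP (LK LD1_c6 LD2_c42 LD3_c50)) :=
  Lre_c IH (LK LD1_c3 LD2_c19 LD3_c24) (LK LD1_c6 LD2_c42 LD3_c50) Lrfl Lrfl
theorem f24648 : Led Lsl_gt (LP (LK LD1_c12 LD2_c50 LD3_c35)) = (LP (LK LD1_c6 LD2_c42 LD3_c50)) :=
  Lre_g IH (LK LD1_c12 LD2_c50 LD3_c35) (LK LD1_c6 LD2_c42 LD3_c50) Lrfl Lrfl
theorem f905824 : Led Lsl_cf (LP (LK LD1_c12 LD2_c50 LD3_c35)) = v38998 :=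
  Lgr Lrot160 (Lpr_gt (f24648 IH) (Lpe (f24647 IH) (Lpr_bt (K59.f24644 IH) (Lpr_gt (K9.f24625 IH) (Lpr_ct (K32.f24641 IH) (Lpe (K32.f500136 IH) (Lpe (K32.f82833 IH) (Lpr_bt (f500138 IH) (Lpr_gt (f500139 IH) (Lpr_bf (f905820 IH) (Lpn v38998)))))))))))
def v17669 : LQ := Led Lsl_gt (LP (LK LD1_c6 LD2_c21 LD3_c13))
theorem f761629 : Led Lsl_gt (LP (LK LD1_c6 LD2_c21 LD3_c13)) = v17669 :=
  Lrfl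
theorem f79817 : Led Lsl_et (LP (LK LD1_c3 LD2_c12 LD3_c59)) = (LP (LK LD1_c6 LD2_c29 LD3_c60)) :=
  Lre_e IH (LK LD1_c3 LD2_c12 LD3_c59) (LK LD1_c6 LD2_c29 LD3_c60) Lrfl Lrfl
theorem f65544 : Led Lsl_df (LP (LK LD1_c3 LD2_c11 LD3_c59)) = (LP (LK LD1_c3 LD2_c11 LD3_c59)) :=
  Lgr Lrot70 (Lpr_et (K58.f65543 IH) (Lpr_dt (K3.f13497 IH) (Lpr_et (K3.f65541 IH) (Lpr_dt (K3.f13496 IH) (Lpr_et (K58.f13531 IH) (Lpn (LP (LK LD1_c3 LD2_c11 LD3_c59))))))))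
def v5681 : LQ := Led Lsl_gf (LP (LK LD1_c3 LD2_c11 LD3_c59))
theorem f648818 : Led Lsl_gf (LP (LK LD1_c3 LD2_c11 LD3_c59)) = v5681 :=
  Lrfl
theorem f632839 : Led Lsl_gf K58.v1987 = K46.v4348 :=
  Lgr Lrot47 (Lpe (K58.f506764 IH) (Lpe (K46.f453637 IH) (Lpr_ff (K46.f632835 IH) (Lpn K46.v4348))))
theorem f770119 : K46.v4348 = v5681 :=
  Lefun (Lecon (f632839 IH) (K58.f770114 IH)) (f648818 IH)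
def v17692 : LQ := Led Lsl_et (LP (LK LD1_c6 LD2_c21 LD3_c25))
theorem f761770 : Led Lsl_et (LP (LK LD1_c6 LD2_c21 LD3_c25)) = v17692 :=
  Lrfl
theorem f761774 : Led Lsl_ef (LP (LK LD1_c6 LD2_c21 LD3_c25)) = v17692 :=
  Lgr Lrot88 (Lpr_et (f761770 IH) (Lpn v17692))
theorem f761777 : Led Lsl_dt K58.v13420 = v17692 :=
  Lgr Lrot77 (Lpe (K58.f702866 IH) (Lpr_df (K46.f647891 IH) (Lpe (K46.f647885 IH) (Lpe (K58.f506045 IH) (Lpr_ef (f761774 IH) (Lpn v17692))))))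
theorem f770215 : v17669 = v17692 :=
  (Llr Lrot112 (Lpe (f761629 IH) (Lpe (K58.f443901 IH) (Lpr_et (K58.f647858 IH) (Lpqs (K58.f770214 IH) (Lpe (K58.f767131 IH) (Lpe (f79817 IH) (Lpr_dt (K46.f79777 IH) (Lpr_gf (K58.f506764 IH) (Lpqs (K58.f770114 IH) (Lpr_df (f65544 IH) (Lpr_gf (f648818 IH) (Lpq (f770119 IH) (Lpr_ef (K58.f702864 IH) (Lpr_dt (f761777 IH) (Lpn v17692)))))))))))))))).symm
theorem f500134 : Led Lsl_gt (LP (LK LD1_c9 LD2_c18 LD3_c38)) = (LP (LK LD1_c4 LD2_c42 LD3_c8)) :=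
  Lre_g IH (LK LD1_c9 LD2_c18 LD3_c38) (LK LD1_c4 LD2_c42 LD3_c8) Lrfl Lrfl
theorem f506058 : Led Lsl_gt (LP (LK LD1_c6 LD2_c21 LD3_c25)) = (LP (LK LD1_c9 LD2_c18 LD3_c38)) :=
  Lgr Lrot5 (Lpr_ft (K46.f506048 IH) (Lpr_at (K46.f506054 IH) (Lpe (f500134 IH) (Lpn (LP (LK LD1_c9 LD2_c18 LD3_c38))))))
theorem f761773 : Led Lsl_df K58.v13420 = v17692 :=
  Lgr Lrot70 (Lpe (K58.f702864 IH) (Lpr_dt (K58.f647892 IH) (Lpe (K46.f647888 IH) (Lpr_dt (K46.f506034 IH) (Lpr_et (f761770 IH) (Lpn v17692))))))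
theorem f67180 : Led Lsl_et (LP (LK LD1_c3 LD2_c8 LD3_c48)) = (LP (LK LD1_c3 LD2_c11 LD3_c18)) :=
  Lgr Lrot74 (Lpe (K58.f67178 IH) (Lpr_ef (K9.f67174 IH) (Lpe (K50.f67179 IH) (Lpn (LP (LK LD1_c3 LD2_c11 LD3_c18))))))
def v18430 : LQ := Led Lsl_dt (LP (LK LD1_c6 LD2_c29 LD3_c33))
theorem f766927 : Led Lsl_dt (LP (LK LD1_c6 LD2_c29 LD3_c33)) = v18430 :=
  Lrfl
theorem f766929 : Led Lsl_df (LP (LK LD1_c6 LD2_c29 LD3_c33)) = v18430 :=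
  Lgr Lrot38 (Lpr_dt (f766927 IH) (Lpn v18430))
theorem f770237 : (LP (LK LD1_c9 LD2_c18 LD3_c38)) = v18430 :=
  (Llr Lrot137 (Lpe (f506058 IH) (Lpr_ef (f761774 IH) (Lpq (f770215 IH) (Lpqs (f770215 IH) (Lpe (f761773 IH) (Lpqs (K58.f770029 IH) (Lpe (K58.f766905 IH) (Lpr_df (K58.f79631 IH) (Lpqs (K57.f761670 IH) (Lpqs (K58.f769888 IH) (Lpe (K58.f765349 IH) (Lpe (K58.f67320 IH) (Lpe (f67180 IH) (Lpr_dt (K58.f648004 IH) (Lpq (K58.f769915 IH) (Lpe (K58.f766925 IH) (Lpr_df (f766929 IH) (Lpn v18430))))))))))))))))))).symm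
theorem f766930 : Led Lsl_ef (LP (LK LD1_c12 LD2_c12 LD3_c39)) = v18430 :=
  Lgr Lrot73 (Lpr_dt (K58.f67683 IH) (Lpr_et (K58.f649148 IH) (Lpe (K57.f649146 IH) (Lpr_et (K58.f649138 IH) (Lpr_dt (f766927 IH) (Lpn v18430))))))
theorem f766931 : Led Lsl_at K58.v17385 = v18430 :=
  Lgr Lrot80 (Lpe (K58.f759551 IH) (Lpe (K58.f759361 IH) (Lpr_ef (f766930 IH) (Lpn v18430))))
theorem f444117 : Led Lsl_bt (LP (LK LD1_c3 LD2_c8 LD3_c27)) = (LP (LK LD1_c1 LD2_c30 LD3_c27)) :=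
  Lre_b IH (LK LD1_c3 LD2_c8 LD3_c27) (LK LD1_c1 LD2_c30 LD3_c27) Lrfl Lrfl
theorem f505069 : Led Lsl_ff (LP (LK LD1_c3 LD2_c8 LD3_c27)) = (LP (LK LD1_c4 LD2_c42 LD3_c8)) :=
  Lgr Lrot25 (Lpr_bt (f444117 IH) (Lpr_ft (K32.f504690 IH) (Lpqs (K32.f504896 IH) (Lpr_bt (f500138 IH) (Lpn (LP (LK LD1_c4 LD2_c42 LD3_c8)))))))
theorem f504689 : Led Lsl_at (LP (LK LD1_c3 LD2_c8 LD3_c27)) = (LP (LK LD1_c6 LD2_c21 LD3_c25)) :=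
  Lre_a IH (LK LD1_c3 LD2_c8 LD3_c27) (LK LD1_c6 LD2_c21 LD3_c25) Lrfl Lrfl
theorem f506098 : Led Lsl_gf (LP (LK LD1_c6 LD2_c21 LD3_c25)) = (LP (LK LD1_c9 LD2_c18 LD3_c37)) :=
  Lgr Lrot76 (Lpe (f504689 IH) (Lpr_ff (f505069 IH) (Lpr_gt (f500139 IH) (Lpn (LP (LK LD1_c9 LD2_c18 LD3_c37))))))
theorem f770246 : Led Lsl_ff K58.v17385 = (LP (LK LD1_c9 LD2_c18 LD3_c37)) :=
  Lgr Lrot52 (Lpr_at (f766931 IH) (Lpq (f770237 IH) (Lpe (f506058 IH) (Lpr_gf (f506098 IH) (Lpn (LP (LK LD1_c9 LD2_c18 LD3_c37)))))))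
theorem f770247 : Led Lsl_ft K58.v17385 = (LP (LK LD1_c9 LD2_c18 LD3_c37)) :=
  Lgr Lrot48 (Lpr_ff (f770246 IH) (Lpn (LP (LK LD1_c9 LD2_c18 LD3_c37))))
def v17705 : LQ := Led Lsl_ft (LP (LK LD1_c6 LD2_c21 LD3_c30))
theorem f761815 : Led Lsl_ft (LP (LK LD1_c6 LD2_c21 LD3_c30)) = v17705 :=
  Lrfl
theorem f770258 : (LP (LK LD1_c9 LD2_c18 LD3_c37)) = v17705 :=
  Lefun (Lecon (f770247 IH) (K58.f770248 IH)) (f761815 IH)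
def v17701 : LQ := Led Lsl_at (LP (LK LD1_c6 LD2_c21 LD3_c30))
theorem f761801 : Led Lsl_at (LP (LK LD1_c6 LD2_c21 LD3_c30)) = v17701 :=
  Lrfl
theorem f761802 : Led Lsl_af (LP (LK LD1_c6 LD2_c21 LD3_c30)) = v17701 :=
  Lgr Lrot0 (Lpr_at (f761801 IH) (Lpn v17701))
theorem f82644 : Led Lsl_gt (LP (LK LD1_c6 LD2_c21 LD3_c31)) = (LP (LK LD1_c3 LD2_c8 LD3_c27)) :=
  Lre_g IH (LK LD1_c6 LD2_c21 LD3_c31) (LK LD1_c3 LD2_c8 LD3_c27) Lrfl Lrfl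
theorem f761803 : Led Lsl_ft (LP (LK LD1_c6 LD2_c21 LD3_c31)) = v17701 :=
  Lgr Lrot2 (Lpr_gt (f82644 IH) (Lpr_gt (K58.f82643 IH) (Lpr_af (f761802 IH) (Lpn v17701))))
theorem f761816 : Led Lsl_af (LP (LK LD1_c6 LD2_c21 LD3_c31)) = v17705 :=
  Lgr Lrot45 (Lpr_ft (f761803 IH) (Lpe (f761802 IH) (Lpr_ft (f761815 IH) (Lpn v17705))))
theorem f761805 : Led Lsl_bt (LP (LK LD1_c6 LD2_c21 LD3_c31)) = (LP (LK LD1_c12 LD2_c16 LD3_c57)) :=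
  Lre_b IH (LK LD1_c6 LD2_c21 LD3_c31) (LK LD1_c12 LD2_c16 LD3_c57) Lrfl Lrfl
def v38952 : LQ := Led Lsl_gf (LP (LK LD1_c9 LD2_c18 LD3_c15))
theorem f905610 : Led Lsl_gf (LP (LK LD1_c9 LD2_c18 LD3_c15)) = v38952 :=
  Lrfl
def v27083 : LQ := Led Lsl_dt K59.v7201
theorem f837538 : Led Lsl_dt K59.v7201 = v27083 :=
  Lrfl
theorem f769995 : Led Lsl_ft K59.v13223 = K59.v7201 :=
  Lgr Lrot48 (Lpr_ff (K59.f769994 IH) (Lpn K59.v7201))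
theorem f837542 : Led Lsl_ff (LP (LK LD1_c12 LD2_c49 LD3_c46)) = v27083 :=
  Lgr Lrot19 (Lpr_dt (K61.f652085 IH) (Lpq (K59.f772629 IH) (Lpr_ft (f769995 IH) (Lpr_dt (f837538 IH) (Lpn v27083)))))
theorem f905611 : Led Lsl_gt v27083 = v38952 :=
  Lgr Lrot5 (Lpe (f837542 IH) (Lpr_at (K66.f772634 IH) (Lpr_gf (f905610 IH) (Lpn v38952))))
def v38951 : LQ := Led Lsl_gt (LP (LK LD1_c9 LD2_c18 LD3_c15))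
theorem f905598 : Led Lsl_gt (LP (LK LD1_c9 LD2_c18 LD3_c15)) = v38951 :=
  Lrfl
def v26049 : LQ := Led Lsl_dt K59.v6209
theorem f831802 : Led Lsl_dt K59.v6209 = v26049 :=
  Lrfl
theorem f831805 : Led Lsl_ff (LP (LK LD1_c9 LD2_c18 LD3_c15)) = v26049 :=
  Lgr Lrot19 (Lpr_dt (K66.f415374 IH) (Lpr_ft (K59.f701782 IH) (Lpqs (K59.f772602 IH) (Lpr_dt (f831802 IH) (Lpn v26049)))))
theorem f831807 : Led Lsl_ft (LP (LK LD1_c9 LD2_c18 LD3_c15)) = v26049 :=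
  Lgr Lrot48 (Lpr_ff (f831805 IH) (Lpn v26049))
theorem f837543 : Led Lsl_at v26049 = v27083 :=
  Lgr Lrot66 (Lpe (f831807 IH) (Lpe (K66.f772634 IH) (Lpr_ff (f837542 IH) (Lpn v27083))))
theorem f905599 : Led Lsl_gf v27083 = v38951 :=
  Lgr Lrot76 (Lpe (f837543 IH) (Lpe (f831807 IH) (Lpr_gt (f905598 IH) (Lpn v38951))))
theorem f649516 : Led Lsl_dt (LP (LK LD1_c6 LD2_c30 LD3_c57)) = (LP (LK LD1_c12 LD2_c30 LD3_c33)) :=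
  Lre_d IH (LK LD1_c6 LD2_c30 LD3_c57) (LK LD1_c12 LD2_c30 LD3_c33) Lrfl Lrfl
theorem f440061 : Led Lsl_et (LP (LK LD1_c6 LD2_c32 LD3_c9)) = (LP (LK LD1_c3 LD2_c14 LD3_c14)) :=
  Lre_e IH (LK LD1_c6 LD2_c32 LD3_c9) (LK LD1_c3 LD2_c14 LD3_c14) Lrfl Lrfl
theorem f768066 : Led Lsl_gt (LP (LK LD1_c12 LD2_c30 LD3_c33)) = K66.v18690 :=
  Lgr Lrot139 (Lpe (f649516 IH) (Lpq (K66.f760476 IH) (Lpqs (K57.f754195 IH) (Lpe (K57.f652061 IH) (Lpe (K7.f66464 IH) (Lpe (K5.f129137 IH) (Lpe (K5.f22637 IH) (Lpe (K5.f22664 IH) (Lpr_et (K57.f22738 IH) (Lpe (K50.f22604 IH) (Lpe (f440061 IH) (Lpr_dt (K66.f768064 IH) (Lpn K66.v18690)))))))))))))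
theorem f850011 : Led Lsl_df K66.v18689 = K66.v29634 :=
  Lgr Lrot84 (Lpe (K66.f768060 IH) (Lpr_df (K66.f768065 IH) (Lpe (f768066 IH) (Lpe (f649516 IH) (Lpq (K66.f760476 IH) (Lpqs (K57.f754195 IH) (Lpe (K57.f652061 IH) (Lpe (K7.f66473 IH) (Lpr_gt (K56.f523681 IH) (Lpr_dt (K66.f673954 IH) (Lpr_gt (K66.f850009 IH) (Lpn K66.v29634))))))))))))
def v20243 : LQ := Led Lsl_et (LP (LK LD1_c6 LD2_c52 LD3_c44))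
theorem f785856 : Led Lsl_et (LP (LK LD1_c6 LD2_c52 LD3_c44)) = v20243 :=
  Lrfl
theorem f785859 : Led Lsl_ef (LP (LK LD1_c6 LD2_c52 LD3_c44)) = v20243 :=
  Lgr Lrot88 (Lpr_et (f785856 IH) (Lpn v20243))
theorem f209007 : Led Lsl_gf (LP (LK LD1_c6 LD2_c25 LD3_c37)) = (LP (LK LD1_c6 LD2_c52 LD3_c44)) :=
  Lgr Lrot76 (Lpr_af (K46.f209002 IH) (Lpe (K46.f209001 IH) (Lpr_gt (K50.f209006 IH) (Lpn (LP (LK LD1_c6 LD2_c52 LD3_c44))))))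
theorem f523687 : Led Lsl_ef (LP (LK LD1_c3 LD2_c42 LD3_c8)) = K56.v2510 :=
  Lgr Lrot21 (Lpr_ft (K46.f26238 IH) (Lpr_et (K66.f26241 IH) (Lpr_ft (K5.f125611 IH) (Lpr_et (K56.f12476 IH) (Lpr_ft (K56.f523685 IH) (Lpn K56.v2510))))))
theorem f785862 : Led Lsl_df K66.v9231 = v20243 :=
  Lgr Lrot168 (Lpe (K66.f674782 IH) (Lpe (K66.f661565 IH) (Lpe (f523687 IH) (Lpr_gf (K50.f523714 IH) (Lpr_ef (K49.f674235 IH) (Lpe (K49.f674237 IH) (Lpe (K49.f527258 IH) (Lpe (K48.f209065 IH) (Lpr_gf (f209007 IH) (Lpr_ef (f785859 IH) (Lpn v20243)))))))))))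
theorem f785863 : Led Lsl_dt K66.v9231 = v20243 :=
  Lgr Lrot42 (Lpr_df (f785862 IH) (Lpn v20243))
theorem f768061 : Led Lsl_cf (LP (LK LD1_c6 LD2_c32 LD3_c9)) = K66.v18689 :=
  Lgr Lrot11 (Lpr_ct (K66.f768060 IH) (Lpn K66.v18689))
theorem f799769 : Led Lsl_gt v20243 = K66.v18689 :=
  Lgr Lrot9 (Lpe (f785863 IH) (Lpe (K66.f674781 IH) (Lpr_ct (K65.f662333 IH) (Lpe (K65.f662334 IH) (Lpr_ct (K58.f504180 IH) (Lpr_df (K48.f504183 IH) (Lpe (K62.f503677 IH) (Lpq (K62.f799765 IH) (Lpe (K62.f768050 IH) (Lpr_cf (f768061 IH) (Lpn K66.v18689)))))))))))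
def v20220 : LQ := Led Lsl_dt (LP (LK LD1_c6 LD2_c52 LD3_c26))
theorem f785753 : Led Lsl_dt (LP (LK LD1_c6 LD2_c52 LD3_c26)) = v20220 :=
  Lrfl
theorem f785756 : Led Lsl_ef K57.v7151 = v20220 :=
  Lgr Lrot73 (Lpe (K57.f661563 IH) (Lpe (f523687 IH) (Lpr_dt (K48.f209053 IH) (Lpe (K48.f209021 IH) (Lpr_dt (f785753 IH) (Lpn v20220))))))
theorem f785755 : Led Lsl_df (LP (LK LD1_c6 LD2_c52 LD3_c26)) = v20220 :=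
  Lgr Lrot38 (Lpr_dt (f785753 IH) (Lpn v20220))
def v18534 : LQ := Led Lsl_dt (LP (LK LD1_c6 LD2_c30 LD3_c29))
theorem f767341 : Led Lsl_dt (LP (LK LD1_c6 LD2_c30 LD3_c29)) = v18534 :=
  Lrfl
theorem f767343 : Led Lsl_df (LP (LK LD1_c6 LD2_c30 LD3_c29)) = v18534 :=
  Lgr Lrot38 (Lpr_dt (f767341 IH) (Lpn v18534))
theorem f905603 : Led Lsl_et v18534 = v38951 :=
  Lgr Lrot122 (Lpe (f767343 IH) (Lpe (K66.f209033 IH) (Lpr_df (f785755 IH) (Lpe (f785756 IH) (Lpr_gt (K66.f674782 IH) (Lpr_dt (f785863 IH) (Lpr_gt (f799769 IH) (Lpr_df (f850011 IH) (Lpe (K66.f850014 IH) (Lpr_gt (f905598 IH) (Lpn v38951)))))))))))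
theorem f905605 : Led Lsl_ef v18534 = v38951 :=
  Lgr Lrot88 (Lpr_et (f905603 IH) (Lpn v38951))
theorem f767342 : Led Lsl_bf (LP (LK LD1_c12 LD2_c12 LD3_c39)) = v18534 :=
  Lgr Lrot93 (Lpr_dt (K58.f67683 IH) (Lpr_bt (K66.f758963 IH) (Lpq (K66.f759151 IH) (Lpr_dt (f767341 IH) (Lpn v18534)))))
theorem f766932 : Led Lsl_et (LP (LK LD1_c12 LD2_c12 LD3_c39)) = v18430 :=
  Lgr Lrot87 (Lpr_ef (f766930 IH) (Lpn v18430))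
theorem f905606 : Led Lsl_bt v18430 = v38951 :=
  Lgr Lrot119 (Lpe (f766932 IH) (Lpr_bf (f767342 IH) (Lpr_ef (f905605 IH) (Lpn v38951))))
theorem f770249 : v18430 = v17701 :=
  Lefun (Lecon (f766931 IH) (K58.f770248 IH)) (f761801 IH)
theorem f504282 : Led Lsl_bt (LP (LK LD1_c12 LD2_c16 LD3_c57)) = (LP (LK LD1_c6 LD2_c21 LD3_c31)) :=
  Lre_b IH (LK LD1_c12 LD2_c16 LD3_c57) (LK LD1_c6 LD2_c21 LD3_c31) Lrfl Lrfl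
theorem f905607 : Led Lsl_ff (LP (LK LD1_c12 LD2_c16 LD3_c57)) = v38951 :=
  Lgr Lrot25 (Lpr_bt (f504282 IH) (Lpr_ft (f761803 IH) (Lpq (f770249 IH) (Lpr_bt (f905606 IH) (Lpn v38951)))))
theorem f905620 : Led Lsl_at (LP (LK LD1_c12 LD2_c16 LD3_c57)) = v38952 :=
  Lgr Lrot26 (Lpr_ff (f905607 IH) (Lpe (f905599 IH) (Lpr_gt (f905611 IH) (Lpn v38952))))
theorem f441210 : Led Lsl_ct (LP (LK LD1_c4 LD2_c45 LD3_c54)) = (LP (LK LD1_c9 LD2_c24 LD3_c19)) :=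
  Lre_c IH (LK LD1_c4 LD2_c45 LD3_c54) (LK LD1_c9 LD2_c24 LD3_c19) Lrfl Lrfl
theorem f441209 : Led Lsl_ct (LP (LK LD1_c9 LD2_c24 LD3_c19)) = (LP (LK LD1_c4 LD2_c45 LD3_c54)) :=
  Lre_c IH (LK LD1_c9 LD2_c24 LD3_c19) (LK LD1_c4 LD2_c45 LD3_c54) Lrfl Lrfl
theorem f775457 : Led Lsl_ff (LP (LK LD1_c9 LD2_c24 LD3_c19)) = (LP (LK LD1_c6 LD2_c42 LD3_c50)) :=
  Lgr Lrot23 (Lpr_ct (f441209 IH) (Lpq (K59.f770457 IH) (Lpe (K59.f633524 IH) (Lpr_ct (f24647 IH) (Lpn (LP (LK LD1_c6 LD2_c42 LD3_c50)))))))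
theorem f775459 : Led Lsl_ft (LP (LK LD1_c9 LD2_c24 LD3_c19)) = (LP (LK LD1_c6 LD2_c42 LD3_c50)) :=
  Lgr Lrot48 (Lpr_ff (f775457 IH) (Lpn (LP (LK LD1_c6 LD2_c42 LD3_c50))))
theorem f633250 : Led Lsl_ct (LP (LK LD1_c9 LD2_c24 LD3_c17)) = (LP (LK LD1_c4 LD2_c45 LD3_c51)) :=
  Lre_c IH (LK LD1_c9 LD2_c24 LD3_c17) (LK LD1_c4 LD2_c45 LD3_c51) Lrfl Lrfl
theorem f703807 : Led Lsl_dt K57.v4410 = K59.v13593 :=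
  Lgr Lrot42 (Lpr_df (K59.f703806 IH) (Lpn K59.v13593))
theorem f770486 : K59.v13593 = (LP (LK LD1_c3 LD2_c19 LD3_c24)) :=
  Lefun (Lecon (f703807 IH) ((K58.f758516 IH).symm.trans (K58.f770447 IH))) (K65.f494894 IH)
theorem f775050 : Led Lsl_af (LP (LK LD1_c9 LD2_c24 LD3_c17)) = (LP (LK LD1_c6 LD2_c42 LD3_c50)) :=
  Lgr Lrot68 (Lpr_ct (f633250 IH) (Lpr_at (K59.f703804 IH) (Lpqs (f770486 IH) (Lpr_ct (f24647 IH) (Lpn (LP (LK LD1_c6 LD2_c42 LD3_c50)))))))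
theorem f703780 : Led Lsl_gt (LP (LK LD1_c17 LD2_c21 LD3_c34)) = (LP (LK LD1_c9 LD2_c24 LD3_c17)) :=
  Lre_g IH (LK LD1_c17 LD2_c21 LD3_c34) (LK LD1_c9 LD2_c24 LD3_c17) Lrfl Lrfl
theorem f775461 : Led Lsl_gt (LP (LK LD1_c9 LD2_c24 LD3_c19)) = (LP (LK LD1_c17 LD2_c21 LD3_c34)) :=
  Lgr Lrot5 (Lpr_ft (f775459 IH) (Lpe (f775050 IH) (Lpe (f703780 IH) (Lpn (LP (LK LD1_c17 LD2_c21 LD3_c34))))))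
theorem f647681 : Led Lsl_gt (LP (LK LD1_c6 LD2_c20 LD3_c47)) = (LP (LK LD1_c12 LD2_c15 LD3_c48)) :=
  Lre_g IH (LK LD1_c6 LD2_c20 LD3_c47) (LK LD1_c12 LD2_c15 LD3_c48) Lrfl Lrfl
theorem f775045 : Led Lsl_ct (LP (LK LD1_c12 LD2_c15 LD3_c48)) = (LP (LK LD1_c17 LD2_c21 LD3_c34)) :=
  Lgr Lrot186 (Lpe (f647681 IH) (Lpr_dt (K58.f647678 IH) (Lpq (K58.f769949 IH) (Lpe (K58.f701209 IH) (Lpe (K5.f78056 IH) (Lpqs (K60.f770496 IH) (Lpe (K60.f703778 IH) (Lpr_ct (f441197 IH) (Lpr_dt (K58.f78494 IH) (Lpe (f633250 IH) (Lpe (f703780 IH) (Lpn (LP (LK LD1_c17 LD2_c21 LD3_c34))))))))))))))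
theorem f905614 : Led Lsl_bt (LP (LK LD1_c12 LD2_c15 LD3_c48)) = v38952 :=
  Lgr Lrot130 (Lpr_ct (f775045 IH) (Lpe (f775461 IH) (Lpe (f441210 IH) (Lpq (K59.f770457 IH) (Lpe (K59.f633522 IH) (Lpr_gf (K32.f135498 IH) (Lpe (K48.f20146 IH) (Lpr_ct (K50.f20150 IH) (Lpr_gf (K50.f701824 IH) (Lpe (K50.f415377 IH) (Lpr_gf (f905610 IH) (Lpn v38952))))))))))))
theorem f905615 : Led Lsl_bf (LP (LK LD1_c12 LD2_c15 LD3_c48)) = v38952 :=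
  Lgr Lrot24 (Lpr_bt (f905614 IH) (Lpn v38952))
theorem f905823 : Led Lsl_at (LP (LK LD1_c12 LD2_c15 LD3_c48)) = v38998 :=
  Lgr Lrot67 (Lpr_bf (f905615 IH) (Lpe (f905620 IH) (Lpe (f761805 IH) (Lpr_af (f761816 IH) (Lpq (f770258 IH) (Lpr_bf (f905820 IH) (Lpn v38998)))))))
theorem f775048 : Led Lsl_cf (LP (LK LD1_c12 LD2_c15 LD3_c48)) = (LP (LK LD1_c17 LD2_c21 LD3_c34)) :=
  Lgr Lrot11 (Lpr_ct (f775045 IH) (Lpn (LP (LK LD1_c17 LD2_c21 LD3_c34))))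
theorem f905825 : Led Lsl_at (LP (LK LD1_c12 LD2_c50 LD3_c35)) = (LP (LK LD1_c17 LD2_c21 LD3_c34)) :=
  Lgr Lrot107 (Lpr_cf (f905824 IH) (Lpe (f905823 IH) (Lpr_cf (f775048 IH) (Lpn (LP (LK LD1_c17 LD2_c21 LD3_c34))))))
theorem f905826 : Led Lsl_at (LP (LK LD1_c12 LD2_c50 LD3_c35)) = (LP (LK LD1_c17 LD2_c21 LD3_c34)) :=
  Leop (Lpe (f905825 IH) (Lpn (LP (LK LD1_c12 LD2_c50 LD3_c35))))
theorem seed_2278 : LEOK LG_a (LK LD1_c12 LD2_c50 LD3_c35) :=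
  Leoe_a (LK LD1_c12 LD2_c50 LD3_c35) (f905826 IH)
def v39021 : LQ := Led Lsl_at (LP (LK LD1_c9 LD2_c18 LD3_c52))
theorem f905974 : Led Lsl_at (LP (LK LD1_c9 LD2_c18 LD3_c52)) = v39021 :=
  Lrfl
theorem f434442 : Led Lsl_gf (LP (LK LD1_c1 LD2_c6 LD3_c15)) = (LP (LK LD1_c0 LD2_c42 LD3_c44)) :=
  Lgr Lrot104 (Lpr_ct (K6.f61258 IH) (Lpr_df (K6.f135283 IH) (Lpe (K6.f25815 IH) (Lpr_gf (K49.f155874 IH) (Lpr_cf (K7.f152748 IH) (Lpe (K11.f154386 IH) (Lpe (K11.f154182 IH) (Lpr_gt (K16.f154390 IH) (Lpr_ct (K16.f153465 IH) (Lpn (LP (LK LD1_c0 LD2_c42 LD3_c44))))))))))))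
theorem f61266 : Led Lsl_bt (LP (LK LD1_c2 LD2_c18 LD3_c28)) = (LP (LK LD1_c4 LD2_c42 LD3_c16)) :=
  Lre_b IH (LK LD1_c2 LD2_c18 LD3_c28) (LK LD1_c4 LD2_c42 LD3_c16) Lrfl Lrfl
theorem f104706 : Led Lsl_gt (LP (LK LD1_c4 LD2_c42 LD3_c16)) = (LP (LK LD1_c9 LD2_c18 LD3_c52)) :=
  Lre_g IH (LK LD1_c4 LD2_c42 LD3_c16) (LK LD1_c9 LD2_c18 LD3_c52) Lrfl Lrfl
theorem f434479 : Led Lsl_bt (LP (LK LD1_c17 LD2_c14 LD3_c10)) = (LP (LK LD1_c9 LD2_c18 LD3_c52)) :=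
  Lre_b IH (LK LD1_c17 LD2_c14 LD3_c10) (LK LD1_c9 LD2_c18 LD3_c52) Lrfl Lrfl
theorem f153456 : Led Lsl_bt (LP (LK LD1_c4 LD2_c42 LD3_c30)) = (LP (LK LD1_c2 LD2_c18 LD3_c40)) :=
  Lre_b IH (LK LD1_c4 LD2_c42 LD3_c30) (LK LD1_c2 LD2_c18 LD3_c40) Lrfl Lrfl
theorem f153457 : Led Lsl_ct (LP (LK LD1_c4 LD2_c42 LD3_c30)) = (LP (LK LD1_c9 LD2_c19 LD3_c15)) :=
  Lre_c IH (LK LD1_c4 LD2_c42 LD3_c30) (LK LD1_c9 LD2_c19 LD3_c15) Lrfl Lrfl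
theorem f153443 : Led Lsl_gt (LP (LK LD1_c17 LD2_c14 LD3_c44)) = (LP (LK LD1_c9 LD2_c19 LD3_c15)) :=
  Lre_g IH (LK LD1_c17 LD2_c14 LD3_c44) (LK LD1_c9 LD2_c19 LD3_c15) Lrfl Lrfl
theorem f434480 : Led Lsl_ct (LP (LK LD1_c17 LD2_c14 LD3_c10)) = (LP (LK LD1_c17 LD2_c14 LD3_c44)) :=
  Lgr Lrot64 (Lpr_bt (f434479 IH) (Lpe (f104706 IH) (Lpe (f61266 IH) (Lpr_ct (K6.f61259 IH) (Lpr_gf (f434442 IH) (Lpe (K16.f153465 IH) (Lpe (K16.f154390 IH) (Lpe (f153456 IH) (Lpr_ct (f153457 IH) (Lpe (f153443 IH) (Lpn (LP (LK LD1_c17 LD2_c14 LD3_c44)))))))))))))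
theorem f434483 : Led Lsl_cf (LP (LK LD1_c17 LD2_c14 LD3_c10)) = (LP (LK LD1_c17 LD2_c14 LD3_c44)) :=
  Lgr Lrot11 (Lpr_ct (f434480 IH) (Lpn (LP (LK LD1_c17 LD2_c14 LD3_c44))))
theorem f433824 : Led Lsl_gt (LP (LK LD1_c12 LD2_c21 LD3_c2)) = (LP (LK LD1_c17 LD2_c14 LD3_c44)) :=
  Lgr Lrot5 (Lpr_ft (K11.f433811 IH) (Lpr_at (K11.f433816 IH) (Lpe (f153443 IH) (Lpn (LP (LK LD1_c17 LD2_c14 LD3_c44))))))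
theorem f57776 : Led Lsl_dt (LP (LK LD1_c6 LD2_c48 LD3_c54)) = (LP (LK LD1_c3 LD2_c22 LD3_c32)) :=
  Lre_d IH (LK LD1_c6 LD2_c48 LD3_c54) (LK LD1_c3 LD2_c22 LD3_c32) Lrfl Lrfl
theorem f84058 : Led Lsl_ct (LP (LK LD1_c6 LD2_c41 LD3_c44)) = (LP (LK LD1_c12 LD2_c13 LD3_c39)) :=
  Lgr Lrot59 (Lpr_cf (K2.f84052 IH) (Lpn (LP (LK LD1_c12 LD2_c13 LD3_c39))))
theorem f434487 : Led Lsl_df (LP (LK LD1_c17 LD2_c14 LD3_c10)) = (LP (LK LD1_c12 LD2_c13 LD3_c39)) :=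
  Lgr Lrot162 (Lpr_cf (f434483 IH) (Lpe (f433824 IH) (Lpe (K49.f433644 IH) (Lpr_gf (K60.f433910 IH) (Lpr_dt (f57776 IH) (Lpr_gt (K2.f84067 IH) (Lpr_ct (K2.f25476 IH) (Lpr_gt (K2.f84066 IH) (Lpr_ct (f84058 IH) (Lpn (LP (LK LD1_c12 LD2_c13 LD3_c39))))))))))))
theorem f434489 : Led Lsl_dt (LP (LK LD1_c9 LD2_c18 LD3_c52)) = (LP (LK LD1_c6 LD2_c18 LD3_c56)) :=
  Lgr Lrot79 (Lpe (f434479 IH) (Lpr_df (f434487 IH) (Lpe (K60.f67126 IH) (Lpn (LP (LK LD1_c6 LD2_c18 LD3_c56))))))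
theorem f434492 : Led Lsl_df (LP (LK LD1_c9 LD2_c18 LD3_c52)) = (LP (LK LD1_c6 LD2_c18 LD3_c56)) :=
  Lgr Lrot38 (Lpr_dt (f434489 IH) (Lpn (LP (LK LD1_c6 LD2_c18 LD3_c56))))
def v17413 : LQ := Led Lsl_at (LP (LK LD1_c6 LD2_c18 LD3_c56))
theorem f759644 : Led Lsl_at (LP (LK LD1_c6 LD2_c18 LD3_c56)) = v17413 :=
  Lrfl
theorem f759645 : Led Lsl_af (LP (LK LD1_c6 LD2_c18 LD3_c56)) = v17413 :=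
  Lgr Lrot0 (Lpr_at (f759644 IH) (Lpn v17413))
theorem f905976 : Led Lsl_df v17413 = v39021 :=
  Lgr Lrot18 (Lpe (f759645 IH) (Lpe (f434492 IH) (Lpr_at (f905974 IH) (Lpn v39021))))
theorem f759646 : Led Lsl_ft (LP (LK LD1_c6 LD2_c18 LD3_c57)) = v17413 :=
  Lgr Lrot2 (Lpr_gt (K46.f67941 IH) (Lpr_gt (K2.f67093 IH) (Lpr_af (f759645 IH) (Lpn v17413))))
theorem f759647 : Led Lsl_ff (LP (LK LD1_c6 LD2_c18 LD3_c57)) = v17413 :=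
  Lgr Lrot3 (Lpr_ft (f759646 IH) (Lpn v17413))
def v17416 : LQ := Led Lsl_dt (LP (LK LD1_c6 LD2_c18 LD3_c57))
theorem f759656 : Led Lsl_dt (LP (LK LD1_c6 LD2_c18 LD3_c57)) = v17416 :=
  Lrfl
theorem f905978 : Led Lsl_ft v17416 = v39021 :=
  Lgr Lrot54 (Lpe (f759656 IH) (Lpr_ff (f759647 IH) (Lpr_df (f905976 IH) (Lpn v39021))))
theorem f905975 : Led Lsl_af (LP (LK LD1_c9 LD2_c18 LD3_c52)) = v39021 :=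
  Lgr Lrot0 (Lpr_at (f905974 IH) (Lpn v39021))
theorem f61267 : Led Lsl_gt (LP (LK LD1_c9 LD2_c18 LD3_c53)) = (LP (LK LD1_c4 LD2_c42 LD3_c16)) :=
  Lre_g IH (LK LD1_c9 LD2_c18 LD3_c53) (LK LD1_c4 LD2_c42 LD3_c16) Lrfl Lrfl
theorem f905980 : v17416 = (LP (LK LD1_c9 LD2_c18 LD3_c53)) :=
  (Llr Lrot52 (Lpr_ft (f905978 IH) (Lpe (f905975 IH) (Lpe (f104706 IH) (Lpe (f61267 IH) (Lpn (LP (LK LD1_c9 LD2_c18 LD3_c53)))))))).symm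
theorem f759657 : Led Lsl_df (LP (LK LD1_c6 LD2_c18 LD3_c57)) = v17416 :=
  Lgr Lrot38 (Lpr_dt (f759656 IH) (Lpn v17416))
theorem f905981 : Led Lsl_dt (LP (LK LD1_c9 LD2_c18 LD3_c53)) = (LP (LK LD1_c6 LD2_c18 LD3_c57)) :=
  Leop (Lpr_df (f759657 IH) (Lpqs (f905980 IH) (Lpn (LP (LK LD1_c9 LD2_c18 LD3_c53)))))
theorem seed_2279 : LEOK LG_d (LK LD1_c9 LD2_c18 LD3_c53) :=
  Leoe_d (LK LD1_c9 LD2_c18 LD3_c53) (f905981 IH)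
def v39033 : LQ := Led Lsl_dt (LP (LK LD1_c9 LD2_c18 LD3_c60))
theorem f906060 : Led Lsl_dt (LP (LK LD1_c9 LD2_c18 LD3_c60)) = v39033 :=
  Lrfl
def v38999 : LQ := Led Lsl_et (LP (LK LD1_c9 LD2_c18 LD3_c37))
theorem f905859 : Led Lsl_et (LP (LK LD1_c9 LD2_c18 LD3_c37)) = v38999 :=
  Lrfl
def v17704 : LQ := Led Lsl_et (LP (LK LD1_c6 LD2_c21 LD3_c30))
theorem f761813 : Led Lsl_et (LP (LK LD1_c6 LD2_c21 LD3_c30)) = v17704 :=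
  Lrfl
theorem f761814 : Led Lsl_ef (LP (LK LD1_c6 LD2_c21 LD3_c30)) = v17704 :=
  Lgr Lrot88 (Lpr_et (f761813 IH) (Lpn v17704))
theorem f770255 : (LP (LK LD1_c6 LD2_c18 LD3_c33)) = v17704 :=
  Lefun (Lecon (Lfl_ef (K58.f759552 IH)) (K58.f770248 IH)) (f761813 IH)
theorem f759367 : Led Lsl_ft (LP (LK LD1_c12 LD2_c12 LD3_c41)) = (LP (LK LD1_c6 LD2_c18 LD3_c33)) :=
  Lgr Lrot48 (Lpr_ff (K58.f759363 IH) (Lpn (LP (LK LD1_c6 LD2_c18 LD3_c33))))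
theorem f152274 : Led Lsl_et (LP (LK LD1_c2 LD2_c18 LD3_c31)) = (LP (LK LD1_c4 LD2_c42 LD3_c19)) :=
  Lre_e IH (LK LD1_c2 LD2_c18 LD3_c31) (LK LD1_c4 LD2_c42 LD3_c19) Lrfl Lrfl
theorem f152282 : Led Lsl_gt (LP (LK LD1_c4 LD2_c42 LD3_c19)) = (LP (LK LD1_c9 LD2_c18 LD3_c60)) :=
  Lre_g IH (LK LD1_c4 LD2_c42 LD3_c19) (LK LD1_c9 LD2_c18 LD3_c60) Lrfl Lrfl
theorem f430716 : Led Lsl_ef (LP (LK LD1_c9 LD2_c18 LD3_c60)) = (LP (LK LD1_c12 LD2_c12 LD3_c41)) :=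
  Lgr Lrot17 (Lpe (f152282 IH) (Lpe (f152274 IH) (Lpr_dt (K46.f152276 IH) (Lpe (K11.f82869 IH) (Lpr_df (K11.f430700 IH) (Lpe (K5.f67907 IH) (Lpe (K66.f67680 IH) (Lpr_dt (K66.f67681 IH) (Lpe (K57.f67916 IH) (Lpe (K58.f67917 IH) (Lpn (LP (LK LD1_c12 LD2_c12 LD3_c41)))))))))))))
theorem f430718 : Led Lsl_et (LP (LK LD1_c9 LD2_c18 LD3_c60)) = (LP (LK LD1_c12 LD2_c12 LD3_c41)) :=
  Lgr Lrot87 (Lpr_ef (f430716 IH) (Lpn (LP (LK LD1_c12 LD2_c12 LD3_c41))))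
theorem f905863 : Led Lsl_ff (LP (LK LD1_c9 LD2_c18 LD3_c60)) = v38999 :=
  Lgr Lrot72 (Lpr_et (f430718 IH) (Lpr_ft (f759367 IH) (Lpqs (f770255 IH) (Lpe (f761814 IH) (Lpq (K58.f770248 IH) (Lpr_ft (f770247 IH) (Lpr_et (f905859 IH) (Lpn v38999))))))))
def v25374 : LQ := Led Lsl_gt K58.v5508
theorem f828357 : Led Lsl_gt K58.v5508 = v25374 :=
  Lrfl
theorem f648009 : Led Lsl_et (LP (LK LD1_c6 LD2_c26 LD3_c54)) = K58.v5508 :=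
  Lgr Lrot87 (Lpr_ef (K58.f648007 IH) (Lpn K58.v5508))
theorem f828361 : Led Lsl_et K59.v17674 = v25374 :=
  Lgr Lrot122 (Lpe (K59.f761657 IH) (Lpr_gt (K59.f761344 IH) (Lpe (K59.f761336 IH) (Lpe (K59.f647816 IH) (Lpr_gt (K59.f76854 IH) (Lpr_dt (K49.f653647 IH) (Lpq (K58.f770066 IH) (Lpe (K58.f648730 IH) (Lpe (K58.f67300 IH) (Lpr_et (f648009 IH) (Lpr_gt (f828357 IH) (Lpn v25374))))))))))))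
theorem f761677 : Led Lsl_ff K59.v17674 = (LP (LK LD1_c6 LD2_c29 LD3_c30)) :=
  Lgr Lrot19 (Lpe (K59.f761657 IH) (Lpr_ft (K57.f761660 IH) (Lpq (K57.f761670 IH) (Lpe (K58.f79631 IH) (Lpn (LP (LK LD1_c6 LD2_c29 LD3_c30)))))))
theorem f828363 : Led Lsl_ff K58.v18412 = v25374 :=
  Lgr Lrot72 (Lpe (K58.f766857 IH) (Lpq (K57.f759178 IH) (Lpe (K57.f649143 IH) (Lpr_et (K58.f79633 IH) (Lpe (f761677 IH) (Lpr_et (f828361 IH) (Lpn v25374)))))))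
def v17703 : LQ := Led Lsl_dt (LP (LK LD1_c6 LD2_c21 LD3_c30))
theorem f761809 : Led Lsl_dt (LP (LK LD1_c6 LD2_c21 LD3_c30)) = v17703 :=
  Lrfl
theorem f770254 : K58.v18412 = v17703 :=
  Lefun (Lecon (K58.f766860 IH) (K58.f770248 IH)) (f761809 IH)
theorem f761810 : Led Lsl_df (LP (LK LD1_c6 LD2_c21 LD3_c30)) = v17703 :=
  Lgr Lrot38 (Lpr_dt (f761809 IH) (Lpn v17703))
theorem f828364 : Led Lsl_dt v17705 = v25374 :=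
  Lgr Lrot60 (Lpe (f761815 IH) (Lpr_df (f761810 IH) (Lpq (f770254 IH) (Lpr_ff (f828363 IH) (Lpn v25374)))))
theorem f114509 : Led Lsl_et (LP (LK LD1_c3 LD2_c6 LD3_c22)) = (LP (LK LD1_c6 LD2_c18 LD3_c11)) :=
  Lre_e IH (LK LD1_c3 LD2_c6 LD3_c22) (LK LD1_c6 LD2_c18 LD3_c11) Lrfl Lrfl
theorem f447126 : Led Lsl_bf (LP (LK LD1_c1 LD2_c30 LD3_c38)) = (LP (LK LD1_c1 LD2_c44 LD3_c20)) :=
  Lgr Lrot93 (Lpr_dt (K49.f83130 IH) (Lpr_bt (K49.f447114 IH) (Lpr_dt (K33.f434302 IH) (Lpn (LP (LK LD1_c1 LD2_c44 LD3_c20))))))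
theorem f446993 : Led Lsl_ft (LP (LK LD1_c1 LD2_c30 LD3_c43)) = (LP (LK LD1_c1 LD2_c44 LD3_c20)) :=
  Lgr Lrot2 (Lpr_gt (K49.f446986 IH) (Lpr_gt (K11.f430174 IH) (Lpe (K49.f429028 IH) (Lpn (LP (LK LD1_c1 LD2_c44 LD3_c20))))))
theorem f447232 : Led Lsl_bf (LP (LK LD1_c1 LD2_c30 LD3_c43)) = (LP (LK LD1_c2 LD2_c18 LD3_c30)) :=
  Lgr Lrot61 (Lpr_ft (f446993 IH) (Lpe (f447126 IH) (Lpr_ft (K49.f447230 IH) (Lpn (LP (LK LD1_c2 LD2_c18 LD3_c30))))))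
theorem f432802 : Led Lsl_cf (LP (LK LD1_c0 LD2_c47 LD3_c5)) = (LP (LK LD1_c1 LD2_c26 LD3_c48)) :=
  Lgr Lrot11 (Lpr_ct (K11.f432800 IH) (Lpn (LP (LK LD1_c1 LD2_c26 LD3_c48))))
theorem f447483 : Led Lsl_gf (LP (LK LD1_c1 LD2_c29 LD3_c17)) = (LP (LK LD1_c2 LD2_c18 LD3_c30)) :=
  Lgr Lrot126 (Lpr_cf (K2.f61728 IH) (Lpr_bt (K5.f61726 IH) (Lpr_gt (K7.f61742 IH) (Lpe (f432802 IH) (Lpr_gt (K11.f432804 IH) (Lpe (K7.f106092 IH) (Lpe (K7.f429041 IH) (Lpe (K49.f446984 IH) (Lpr_bf (f447232 IH) (Lpr_ct (K49.f435216 IH) (Lpn (LP (LK LD1_c2 LD2_c18 LD3_c30)))))))))))))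
theorem f905864 : Led Lsl_gf (LP (LK LD1_c9 LD2_c18 LD3_c56)) = v38999 :=
  Lgr Lrot141 (Lpe (K49.f152296 IH) (Lpr_dt (K49.f152295 IH) (Lpe (f447483 IH) (Lpe (K5.f61730 IH) (Lpr_et (f114509 IH) (Lpqs (K66.f769918 IH) (Lpe (K66.f648003 IH) (Lpr_dt (K58.f648004 IH) (Lpr_gt (f828357 IH) (Lpe (f828364 IH) (Lpq (f770258 IH) (Lpr_et (f905859 IH) (Lpn v38999)))))))))))))
theorem f447205 : Led Lsl_gf (LP (LK LD1_c3 LD2_c8 LD3_c60)) = (LP (LK LD1_c4 LD2_c42 LD3_c17)) :=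
  Lgr Lrot144 (Lpe (K46.f155322 IH) (Lpr_gt (K3.f67365 IH) (Lpr_dt (K2.f67637 IH) (Lpe (K2.f67635 IH) (Lpe (K2.f67634 IH) (Lpr_gf (K7.f155330 IH) (Lpe (K7.f153407 IH) (Lpr_gf (K49.f447201 IH) (Lpe (K49.f435219 IH) (Lpn (LP (LK LD1_c4 LD2_c42 LD3_c17))))))))))))
theorem f77120 : Led Lsl_et (LP (LK LD1_c12 LD2_c16 LD3_c32)) = (LP (LK LD1_c6 LD2_c21 LD3_c14)) :=
  Lre_e IH (LK LD1_c12 LD2_c16 LD3_c32) (LK LD1_c6 LD2_c21 LD3_c14) Lrfl Lrfl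
theorem f905866 : Led Lsl_dt (LP (LK LD1_c12 LD2_c16 LD3_c32)) = v38999 :=
  Lgr Lrot136 (Lpr_et (f77120 IH) (Lpe (K57.f77119 IH) (Lpr_ef (K2.f77103 IH) (Lpr_dt (K2.f67636 IH) (Lpe (K3.f67365 IH) (Lpr_df (K46.f155322 IH) (Lpr_gf (f447205 IH) (Lpe (K49.f152294 IH) (Lpe (K49.f152266 IH) (Lpr_gf (f905864 IH) (Lpn v38999)))))))))))
theorem f906064 : Led Lsl_ff (LP (LK LD1_c12 LD2_c16 LD3_c32)) = v39033 :=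
  Lgr Lrot19 (Lpr_dt (f905866 IH) (Lpe (f905863 IH) (Lpr_dt (f906060 IH) (Lpn v39033))))
theorem f906067 : Led Lsl_ft (LP (LK LD1_c12 LD2_c16 LD3_c32)) = v39033 :=
  Lgr Lrot48 (Lpr_ff (f906064 IH) (Lpn v39033))
theorem f761658 : Led Lsl_gt (LP (LK LD1_c12 LD2_c16 LD3_c32)) = (LP (LK LD1_c21 LD2_c21 LD3_c46)) :=
  Lre_g IH (LK LD1_c12 LD2_c16 LD3_c32) (LK LD1_c21 LD2_c21 LD3_c46) Lrfl Lrfl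
theorem f759371 : Led Lsl_af (LP (LK LD1_c12 LD2_c12 LD3_c41)) = (LP (LK LD1_c6 LD2_c18 LD3_c36)) :=
  Lgr Lrot45 (Lpr_ft (f759367 IH) (Lpe (K58.f759359 IH) (Lpe (K58.f759139 IH) (Lpn (LP (LK LD1_c6 LD2_c18 LD3_c36))))))
theorem f759143 : Led Lsl_et (LP (LK LD1_c12 LD2_c13 LD3_c7)) = (LP (LK LD1_c6 LD2_c18 LD3_c36)) :=
  Lre_e IH (LK LD1_c12 LD2_c13 LD3_c7) (LK LD1_c6 LD2_c18 LD3_c36) Lrfl Lrfl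
theorem f759373 : Led Lsl_at (LP (LK LD1_c9 LD2_c18 LD3_c60)) = (LP (LK LD1_c12 LD2_c13 LD3_c7)) :=
  Lgr Lrot80 (Lpr_ef (f430716 IH) (Lpr_af (f759371 IH) (Lpe (f759143 IH) (Lpn (LP (LK LD1_c12 LD2_c13 LD3_c7))))))
theorem f759375 : Led Lsl_af (LP (LK LD1_c9 LD2_c18 LD3_c60)) = (LP (LK LD1_c12 LD2_c13 LD3_c7)) :=
  Lgr Lrot0 (Lpr_at (f759373 IH) (Lpn (LP (LK LD1_c12 LD2_c13 LD3_c7))))
theorem f67319 : Led Lsl_et (LP (LK LD1_c12 LD2_c25 LD3_c32)) = (LP (LK LD1_c6 LD2_c26 LD3_c51)) :=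
  Lre_e IH (LK LD1_c12 LD2_c25 LD3_c32) (LK LD1_c6 LD2_c26 LD3_c51) Lrfl Lrfl
theorem f152277 : Led Lsl_et (LP (LK LD1_c4 LD2_c42 LD3_c19)) = (LP (LK LD1_c2 LD2_c18 LD3_c31)) :=
  Lre_e IH (LK LD1_c4 LD2_c42 LD3_c19) (LK LD1_c2 LD2_c18 LD3_c31) Lrfl Lrfl
theorem f152280 : Led Lsl_gt (LP (LK LD1_c9 LD2_c18 LD3_c61)) = (LP (LK LD1_c4 LD2_c42 LD3_c19)) :=
  Lre_g IH (LK LD1_c9 LD2_c18 LD3_c61) (LK LD1_c4 LD2_c42 LD3_c19) Lrfl Lrfl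
theorem f152283 : Led Lsl_dt (LP (LK LD1_c17 LD2_c14 LD3_c23)) = (LP (LK LD1_c9 LD2_c18 LD3_c61)) :=
  Lre_d IH (LK LD1_c17 LD2_c14 LD3_c23) (LK LD1_c9 LD2_c18 LD3_c61) Lrfl Lrfl
theorem f153045 : Led Lsl_et (LP (LK LD1_c17 LD2_c14 LD3_c23)) = (LP (LK LD1_c12 LD2_c16 LD3_c11)) :=
  Lgr Lrot122 (Lpr_dt (f152283 IH) (Lpr_gt (f152280 IH) (Lpe (K49.f152254 IH) (Lpr_et (f152277 IH) (Lpr_gt (K11.f153034 IH) (Lpr_dt (K11.f78176 IH) (Lpr_gt (K4.f86325 IH) (Lpe (K2.f67704 IH) (Lpe (K2.f77191 IH) (Lpr_gt (K57.f77629 IH) (Lpn (LP (LK LD1_c12 LD2_c16 LD3_c11)))))))))))))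
theorem f153048 : Led Lsl_ef (LP (LK LD1_c17 LD2_c14 LD3_c23)) = (LP (LK LD1_c12 LD2_c16 LD3_c11)) :=
  Lgr Lrot88 (Lpr_et (f153045 IH) (Lpn (LP (LK LD1_c12 LD2_c16 LD3_c11))))
theorem f769870 : Led Lsl_ff (LP (LK LD1_c12 LD2_c25 LD3_c32)) = (LP (LK LD1_c17 LD2_c14 LD3_c23)) :=
  Lgr Lrot72 (Lpr_et (f67319 IH) (Lpqs (K58.f769861 IH) (Lpr_ft (K58.f766839 IH) (Lpe (K58.f761697 IH) (Lpr_ft (K57.f761653 IH) (Lpqs (K58.f761685 IH) (Lpe (f153048 IH) (Lpn (LP (LK LD1_c17 LD2_c14 LD3_c23))))))))))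
theorem f153047 : Led Lsl_dt (LP (LK LD1_c9 LD2_c18 LD3_c61)) = (LP (LK LD1_c17 LD2_c14 LD3_c23)) :=
  Lre_d IH (LK LD1_c9 LD2_c18 LD3_c61) (LK LD1_c17 LD2_c14 LD3_c23) Lrfl Lrfl
theorem f759377 : Led Lsl_ft (LP (LK LD1_c9 LD2_c18 LD3_c61)) = (LP (LK LD1_c12 LD2_c13 LD3_c7)) :=
  Lgr Lrot2 (Lpr_gt (f152280 IH) (Lpr_gt (f152282 IH) (Lpr_af (f759375 IH) (Lpn (LP (LK LD1_c12 LD2_c13 LD3_c7))))))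
theorem f759381 : Led Lsl_ff (LP (LK LD1_c9 LD2_c18 LD3_c61)) = (LP (LK LD1_c12 LD2_c13 LD3_c7)) :=
  Lgr Lrot3 (Lpr_ft (f759377 IH) (Lpn (LP (LK LD1_c12 LD2_c13 LD3_c7))))
theorem f769873 : Led Lsl_dt (LP (LK LD1_c12 LD2_c25 LD3_c32)) = (LP (LK LD1_c12 LD2_c13 LD3_c7)) :=
  Lgr Lrot60 (Lpr_ff (f769870 IH) (Lpe (f153047 IH) (Lpr_ff (f759381 IH) (Lpn (LP (LK LD1_c12 LD2_c13 LD3_c7))))))
theorem f906061 : Led Lsl_af (LP (LK LD1_c12 LD2_c25 LD3_c32)) = v39033 :=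
  Lgr Lrot117 (Lpr_dt (f769873 IH) (Lpe (f759375 IH) (Lpr_dt (f906060 IH) (Lpn v39033))))
theorem f906069 : Led Lsl_gt (LP (LK LD1_c21 LD2_c21 LD3_c46)) = (LP (LK LD1_c12 LD2_c25 LD3_c32)) :=
  Lgr Lrot46 (Lpe (f761658 IH) (Lpr_ft (f906067 IH) (Lpe (f906061 IH) (Lpn (LP (LK LD1_c12 LD2_c25 LD3_c32))))))
theorem f906070 : Led Lsl_gt (LP (LK LD1_c21 LD2_c21 LD3_c46)) = (LP (LK LD1_c12 LD2_c25 LD3_c32)) :=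
  Leop (Lpe (f906069 IH) (Lpn (LP (LK LD1_c21 LD2_c21 LD3_c46))))
theorem seed_2280 : LEOK LG_g (LK LD1_c21 LD2_c21 LD3_c46) :=
  Leoe_g (LK LD1_c21 LD2_c21 LD3_c46) (f906070 IH)
def v39083 : LQ := Led Lsl_ft (LP (LK LD1_c9 LD2_c19 LD3_c41))
theorem f906329 : Led Lsl_ft (LP (LK LD1_c9 LD2_c19 LD3_c41)) = v39083 :=
  Lrfl
theorem f503178 : Led Lsl_gt (LP (LK LD1_c9 LD2_c19 LD3_c41)) = (LP (LK LD1_c17 LD2_c15 LD3_c26)) :=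
  Lre_g IH (LK LD1_c9 LD2_c19 LD3_c41) (LK LD1_c17 LD2_c15 LD3_c26) Lrfl Lrfl
theorem f906330 : Led Lsl_af (LP (LK LD1_c20 LD2_c25 LD3_c43)) = v39083 :=
  Lgr Lrot45 (Lpr_ft (K36.f421080 IH) (Lpe (K65.f449834 IH) (Lpr_ft (f906329 IH) (Lpn v39083))))
theorem f906333 : Led Lsl_gt (LP (LK LD1_c17 LD2_c15 LD3_c26)) = (LP (LK LD1_c20 LD2_c25 LD3_c43)) :=
  Lgr Lrot46 (Lpe (f503178 IH) (Lpr_ft (f906329 IH) (Lpe (f906330 IH) (Lpn (LP (LK LD1_c20 LD2_c25 LD3_c43))))))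
theorem f906334 : Led Lsl_gt (LP (LK LD1_c17 LD2_c15 LD3_c26)) = (LP (LK LD1_c20 LD2_c25 LD3_c43)) :=
  Leop (Lpe (f906333 IH) (Lpn (LP (LK LD1_c17 LD2_c15 LD3_c26))))
theorem seed_2281 : LEOK LG_g (LK LD1_c17 LD2_c15 LD3_c26) :=
  Leoe_g (LK LD1_c17 LD2_c15 LD3_c26) (f906334 IH)
def v39086 : LQ := Led Lsl_gf (LP (LK LD1_c9 LD2_c19 LD3_c52))
theorem f906348 : Led Lsl_gf (LP (LK LD1_c9 LD2_c19 LD3_c52)) = v39086 :=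
  Lrfl
theorem f499712 : Led Lsl_af (LP (LK LD1_c11 LD2_c31 LD3_c17)) = (LP (LK LD1_c17 LD2_c57 LD3_c56)) :=
  Lgr Lrot0 (Lpr_at (K64.f499710 IH) (Lpn (LP (LK LD1_c17 LD2_c57 LD3_c56))))
theorem f824848 : Led Lsl_gt (LP (LK LD1_c11 LD2_c24 LD3_c61)) = (LP (LK LD1_c11 LD2_c31 LD3_c17)) :=
  Lgr Lrot46 (Lpr_gf (K65.f824846 IH) (Lpr_ft (K64.f428350 IH) (Lpe (f499712 IH) (Lpn (LP (LK LD1_c11 LD2_c31 LD3_c17))))))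
theorem f445949 : Led Lsl_bt (LP (LK LD1_c5 LD2_c47 LD3_c34)) = (LP (LK LD1_c11 LD2_c24 LD3_c61)) :=
  Lre_b IH (LK LD1_c5 LD2_c47 LD3_c34) (LK LD1_c11 LD2_c24 LD3_c61) Lrfl Lrfl
theorem f73269 : Led Lsl_ct (LP (LK LD1_c5 LD2_c47 LD3_c34)) = (LP (LK LD1_c11 LD2_c25 LD3_c0)) :=
  Lre_c IH (LK LD1_c5 LD2_c47 LD3_c34) (LK LD1_c11 LD2_c25 LD3_c0) Lrfl Lrfl
theorem f545616 : Led Lsl_bt (LP (LK LD1_c9 LD2_c19 LD3_c52)) = (LP (LK LD1_c9 LD2_c5 LD3_c47)) :=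
  Lgr Lrot127 (Lpr_bf (K38.f545612 IH) (Lpn (LP (LK LD1_c9 LD2_c5 LD3_c47))))
theorem f824853 : Led Lsl_gf (LP (LK LD1_c11 LD2_c25 LD3_c0)) = (LP (LK LD1_c17 LD2_c15 LD3_c46)) :=
  Lgr Lrot126 (Lpe (f73269 IH) (Lpr_bt (f445949 IH) (Lpr_gt (f824848 IH) (Lpr_ct (K55.f74738 IH) (Lpe (K56.f752480 IH) (Lpe (K56.f76251 IH) (Lpr_bt (K56.f646359 IH) (Lpr_gt (K56.f741755 IH) (Lpe (f545616 IH) (Lpr_ct (K38.f436713 IH) (Lpn (LP (LK LD1_c17 LD2_c15 LD3_c46)))))))))))))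
theorem f906351 : Led Lsl_bt K56.v12924 = v39086 :=
  Lgr Lrot130 (Lpr_ct (K69.f824877 IH) (Lpe (K69.f824876 IH) (Lpe (K64.f745116 IH) (Lpr_bt (K64.f74746 IH) (Lpe (f824848 IH) (Lpe (f445949 IH) (Lpr_ct (f73269 IH) (Lpr_gf (f824853 IH) (Lpe (K38.f436713 IH) (Lpr_gf (f906348 IH) (Lpn v39086)))))))))))
theorem f699622 : Led Lsl_bt (LP (LK LD1_c18 LD2_c42 LD3_c18)) = (LP (LK LD1_c10 LD2_c17 LD3_c27)) :=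
  Lre_b IH (LK LD1_c18 LD2_c42 LD3_c18) (LK LD1_c10 LD2_c17 LD3_c27) Lrfl Lrfl
theorem f906354 : Led Lsl_df (LP (LK LD1_c18 LD2_c42 LD3_c18)) = v39086 :=
  Lgr Lrot12 (Lpr_bt (f699622 IH) (Lpr_dt (K56.f699621 IH) (Lpr_bt (f906351 IH) (Lpn v39086))))
theorem f906359 : Led Lsl_dt (LP (LK LD1_c18 LD2_c42 LD3_c18)) = v39086 :=
  Lgr Lrot42 (Lpr_df (f906354 IH) (Lpn v39086))
theorem f901888 : Led Lsl_et (LP (LK LD1_c18 LD2_c42 LD3_c18)) = (LP (LK LD1_c10 LD2_c17 LD3_c26)) :=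
  Lre_e IH (LK LD1_c18 LD2_c42 LD3_c18) (LK LD1_c10 LD2_c17 LD3_c26) Lrfl Lrfl
theorem f71266 : Led Lsl_et (LP (LK LD1_c11 LD2_c33 LD3_c50)) = (LP (LK LD1_c5 LD2_c54 LD3_c0)) :=
  Lre_e IH (LK LD1_c11 LD2_c33 LD3_c50) (LK LD1_c5 LD2_c54 LD3_c0) Lrfl Lrfl
theorem f428022 : Led Lsl_dt (LP (LK LD1_c5 LD2_c53 LD3_c58)) = (LP (LK LD1_c2 LD2_c53 LD3_c20)) :=
  Lre_d IH (LK LD1_c5 LD2_c53 LD3_c58) (LK LD1_c2 LD2_c53 LD3_c20) Lrfl Lrfl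
theorem f906360 : Led Lsl_gf (LP (LK LD1_c10 LD2_c17 LD3_c26)) = (LP (LK LD1_c11 LD2_c33 LD3_c44)) :=
  Lgr Lrot141 (Lpe (f901888 IH) (Lpr_dt (f906359 IH) (Lpe (f906348 IH) (Lpr_df (K38.f436711 IH) (Lpr_et (f71266 IH) (Lpr_gt (K38.f71126 IH) (Lpr_dt (K2.f71805 IH) (Lpr_gt (K37.f112388 IH) (Lpe (f428022 IH) (Lpr_et (K41.f436717 IH) (Lpn (LP (LK LD1_c11 LD2_c33 LD3_c44)))))))))))))
theorem f906361 : Led Lsl_gt (LP (LK LD1_c11 LD2_c33 LD3_c44)) = (LP (LK LD1_c10 LD2_c17 LD3_c26)) :=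
  Leop (Lpr_gf (f906360 IH) (Lpn (LP (LK LD1_c11 LD2_c33 LD3_c44))))
theorem seed_2282 : LEOK LG_g (LK LD1_c11 LD2_c33 LD3_c44) :=
  Leoe_g (LK LD1_c11 LD2_c33 LD3_c44) (f906361 IH)
def v39087 : LQ := Led Lsl_ft (LP (LK LD1_c9 LD2_c19 LD3_c52))
theorem f906364 : Led Lsl_ft (LP (LK LD1_c9 LD2_c19 LD3_c52)) = v39087 :=
  Lrfl
theorem f906369 : Led Lsl_ff (LP (LK LD1_c9 LD2_c19 LD3_c52)) = v39087 :=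
  Lgr Lrot3 (Lpr_ft (f906364 IH) (Lpn v39087))
theorem f545614 : Led Lsl_at (LP (LK LD1_c9 LD2_c19 LD3_c52)) = (LP (LK LD1_c6 LD2_c15 LD3_c58)) :=
  Lgr Lrot67 (Lpr_bf (K38.f545612 IH) (Lpr_af (K5.f132367 IH) (Lpe (K69.f137313 IH) (Lpe (K8.f138449 IH) (Lpe (K55.f138454 IH) (Lpn (LP (LK LD1_c6 LD2_c15 LD3_c58))))))))
theorem f503116 : Led Lsl_gt (LP (LK LD1_c12 LD2_c9 LD3_c32)) = (LP (LK LD1_c6 LD2_c15 LD3_c58)) :=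
  Lre_g IH (LK LD1_c12 LD2_c9 LD3_c32) (LK LD1_c6 LD2_c15 LD3_c58) Lrfl Lrfl
theorem f906374 : Led Lsl_gf (LP (LK LD1_c12 LD2_c9 LD3_c32)) = v39087 :=
  Lgr Lrot47 (Lpr_gt (f503116 IH) (Lpe (f545614 IH) (Lpr_ff (f906369 IH) (Lpn v39087))))
theorem f710744 : Led Lsl_gt (LP (LK LD1_c10 LD2_c3 LD3_c57)) = (LP (LK LD1_c18 LD2_c22 LD3_c31)) :=
  Lre_g IH (LK LD1_c10 LD2_c3 LD3_c57) (LK LD1_c18 LD2_c22 LD3_c31) Lrfl Lrfl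
theorem f753561 : Led Lsl_gf (LP (LK LD1_c11 LD2_c35 LD3_c39)) = (LP (LK LD1_c18 LD2_c22 LD3_c31)) :=
  Lgr Lrot76 (Lpe (K55.f719529 IH) (Lpr_ff (K55.f747028 IH) (Lpqs (K56.f753326 IH) (Lpr_gt (f710744 IH) (Lpn (LP (LK LD1_c18 LD2_c22 LD3_c31)))))))
theorem f753563 : Led Lsl_ff (LP (LK LD1_c11 LD2_c33 LD3_c50)) = (LP (LK LD1_c18 LD2_c22 LD3_c31)) :=
  Lgr Lrot52 (Lpr_at (K38.f545639 IH) (Lpe (K53.f538453 IH) (Lpr_gf (f753561 IH) (Lpn (LP (LK LD1_c18 LD2_c22 LD3_c31))))))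
theorem f753569 : Led Lsl_ft (LP (LK LD1_c11 LD2_c33 LD3_c50)) = (LP (LK LD1_c18 LD2_c22 LD3_c31)) :=
  Lgr Lrot48 (Lpr_ff (f753563 IH) (Lpn (LP (LK LD1_c18 LD2_c22 LD3_c31))))
theorem f906372 : Led Lsl_dt (LP (LK LD1_c18 LD2_c22 LD3_c31)) = v39087 :=
  Lgr Lrot60 (Lpe (f753569 IH) (Lpe (K38.f436714 IH) (Lpr_ff (f906369 IH) (Lpn v39087))))
def v35910 : LQ := Led Lsl_gf (LP (LK LD1_c8 LD2_c12 LD3_c45))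
theorem f881072 : Led Lsl_gf (LP (LK LD1_c8 LD2_c12 LD3_c45)) = v35910 :=
  Lrfl
theorem f73250 : Led Lsl_ct (LP (LK LD1_c4 LD2_c6 LD3_c0)) = (LP (LK LD1_c8 LD2_c12 LD3_c45)) :=
  Lre_c IH (LK LD1_c4 LD2_c6 LD3_c0) (LK LD1_c8 LD2_c12 LD3_c45) Lrfl Lrfl
theorem f55793 : Led Lsl_bt (LP (LK LD1_c4 LD2_c6 LD3_c0)) = (LP (LK LD1_c2 LD2_c0 LD3_c19)) :=
  Lre_b IH (LK LD1_c4 LD2_c6 LD3_c0) (LK LD1_c2 LD2_c0 LD3_c19) Lrfl Lrfl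
theorem f633545 : Led Lsl_ct (LP (LK LD1_c4 LD2_c6 LD3_c4)) = (LP (LK LD1_c6 LD2_c8 LD3_c23)) :=
  Lgr Lrot59 (Lpr_cf (K35.f633538 IH) (Lpn (LP (LK LD1_c6 LD2_c8 LD3_c23))))
theorem f646328 : Led Lsl_cf (LP (LK LD1_c4 LD2_c6 LD3_c5)) = K53.v5167 :=
  Lgr Lrot11 (Lpr_ct (K53.f646327 IH) (Lpn K53.v5167))
theorem f691802 : Led Lsl_af K53.v5167 = K52.v12378 :=
  Lgr Lrot68 (Lpe (f646328 IH) (Lpe (K51.f633719 IH) (Lpr_ct (K52.f691801 IH) (Lpn K52.v12378))))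
theorem f691804 : Led Lsl_ff (LP (LK LD1_c6 LD2_c8 LD3_c23)) = K52.v12378 :=
  Lgr Lrot23 (Lpe (K35.f633538 IH) (Lpe (K55.f633740 IH) (Lpr_ct (K52.f691801 IH) (Lpn K52.v12378))))
theorem f691808 : Led Lsl_ft (LP (LK LD1_c6 LD2_c8 LD3_c23)) = K52.v12378 :=
  Lgr Lrot48 (Lpr_ff (f691804 IH) (Lpn K52.v12378))
theorem f701144 : Led Lsl_gt (LP (LK LD1_c6 LD2_c8 LD3_c23)) = K53.v13105 :=
  Lgr Lrot5 (Lpr_ft (f691808 IH) (Lpe (f691802 IH) (Lpr_gf (K53.f701143 IH) (Lpn K53.v13105))))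
theorem f881073 : Led Lsl_ct (LP (LK LD1_c11 LD2_c35 LD3_c39)) = v35910 :=
  Lgr Lrot64 (Lpr_bt (K55.f715077 IH) (Lpe (K53.f79999 IH) (Lpe (K53.f76172 IH) (Lpr_ct (K53.f701141 IH) (Lpe (f701144 IH) (Lpe (f633545 IH) (Lpe (K32.f55714 IH) (Lpe (f55793 IH) (Lpr_ct (f73250 IH) (Lpr_gf (f881072 IH) (Lpn v35910)))))))))))
theorem f73266 : Led Lsl_ct (LP (LK LD1_c8 LD2_c12 LD3_c45)) = (LP (LK LD1_c4 LD2_c6 LD3_c0)) :=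
  Lre_c IH (LK LD1_c8 LD2_c12 LD3_c45) (LK LD1_c4 LD2_c6 LD3_c0) Lrfl Lrfl
theorem f73253 : Led Lsl_ct (LP (LK LD1_c5 LD2_c47 LD3_c33)) = (LP (LK LD1_c2 LD2_c49 LD3_c45)) :=
  Lre_c IH (LK LD1_c5 LD2_c47 LD3_c33) (LK LD1_c2 LD2_c49 LD3_c45) Lrfl Lrfl
def v15807 : LQ := Led Lsl_gf (LP (LK LD1_c5 LD2_c47 LD3_c33))
theorem f741691 : Led Lsl_gf (LP (LK LD1_c5 LD2_c47 LD3_c33)) = v15807 :=
  Lrfl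
def v38393 : LQ := Led Lsl_bt (LP (LK LD1_c9 LD2_c9 LD3_c60))
theorem f901904 : Led Lsl_bt (LP (LK LD1_c9 LD2_c9 LD3_c60)) = v38393 :=
  Lrfl
theorem f901905 : Led Lsl_bf (LP (LK LD1_c9 LD2_c9 LD3_c60)) = v38393 :=
  Lgr Lrot24 (Lpr_bt (f901904 IH) (Lpn v38393))
theorem f25584 : Led Lsl_bt (LP (LK LD1_c2 LD2_c17 LD3_c6)) = (LP (LK LD1_c4 LD2_c40 LD3_c2)) :=
  Lre_b IH (LK LD1_c2 LD2_c17 LD3_c6) (LK LD1_c4 LD2_c40 LD3_c2) Lrfl Lrfl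
theorem f25580 : Led Lsl_ct (LP (LK LD1_c2 LD2_c17 LD3_c6)) = (LP (LK LD1_c1 LD2_c27 LD3_c27)) :=
  Lre_c IH (LK LD1_c2 LD2_c17 LD3_c6) (LK LD1_c1 LD2_c27 LD3_c27) Lrfl Lrfl
theorem f73199 : Led Lsl_bt (LP (LK LD1_c2 LD2_c49 LD3_c45)) = (LP (LK LD1_c1 LD2_c20 LD3_c60)) :=
  Lre_b IH (LK LD1_c2 LD2_c49 LD3_c45) (LK LD1_c1 LD2_c20 LD3_c60) Lrfl Lrfl
theorem f901908 : Led Lsl_cf v15807 = v38393 :=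
  Lgr Lrot160 (Lpe (f741691 IH) (Lpe (K8.f73516 IH) (Lpr_bt (f73199 IH) (Lpr_gt (K16.f59432 IH) (Lpr_ct (K56.f443950 IH) (Lpe (K29.f443948 IH) (Lpe (f25580 IH) (Lpr_bt (f25584 IH) (Lpe (K69.f100088 IH) (Lpr_bf (f901905 IH) (Lpn v38393)))))))))))
theorem f906375 : (LP (LK LD1_c12 LD2_c9 LD3_c32)) = v38393 :=
  (Llr Lrot9 (Lpr_gf (f906374 IH) (Lpe (f906372 IH) (Lpe (f753561 IH) (Lpr_ct (f881073 IH) (Lpe (f881072 IH) (Lpr_ct (f73266 IH) (Lpr_df (K2.f73236 IH) (Lpe (f73253 IH) (Lpr_gf (f741691 IH) (Lpr_cf (f901908 IH) (Lpn v38393)))))))))))).symm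
theorem f906376 : Led Lsl_bt (LP (LK LD1_c12 LD2_c9 LD3_c32)) = (LP (LK LD1_c9 LD2_c9 LD3_c60)) :=
  Leop (Lpr_bf (f901905 IH) (Lpq (f906375 IH) (Lpn (LP (LK LD1_c12 LD2_c9 LD3_c32)))))
theorem seed_2283 : LEOK LG_b (LK LD1_c12 LD2_c9 LD3_c32) :=
  Leoe_b (LK LD1_c12 LD2_c9 LD3_c32) (f906376 IH)
theorem f901746 : Led Lsl_ff (LP (LK LD1_c9 LD2_c9 LD3_c60)) = K69.v38392 :=
  Lgr Lrot3 (Lpr_ft (K69.f901744 IH) (Lpn K69.v38392))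
theorem f100200 : Led Lsl_bt (LP (LK LD1_c9 LD2_c15 LD3_c31)) = (LP (LK LD1_c4 LD2_c40 LD3_c0)) :=
  Lre_b IH (LK LD1_c9 LD2_c15 LD3_c31) (LK LD1_c4 LD2_c40 LD3_c0) Lrfl Lrfl
theorem f901906 : Led Lsl_ff (LP (LK LD1_c9 LD2_c15 LD3_c31)) = v38393 :=
  Lgr Lrot25 (Lpr_bt (f100200 IH) (Lpqs (K69.f901755 IH) (Lpe (f901746 IH) (Lpr_bt (f901904 IH) (Lpn v38393)))))
def v24639 : LQ := Led Lsl_bt K69.v4880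
theorem f824927 : Led Lsl_bt K69.v4880 = v24639 :=
  Lrfl
theorem f824929 : Led Lsl_bf K69.v4880 = v24639 :=
  Lgr Lrot24 (Lpr_bt (f824927 IH) (Lpn v24639))
theorem f744509 : Led Lsl_ff K69.v4880 = K69.v15978 :=
  Lgr Lrot3 (Lpr_ft (K69.f744508 IH) (Lpn K69.v15978))
theorem f744519 : Led Lsl_at K69.v4880 = K69.v15982 :=
  Lgr Lrot66 (Lpr_ff (f744509 IH) (Lpe (K69.f744506 IH) (Lpr_ff (K69.f744518 IH) (Lpn K69.v15982))))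
theorem f753280 : Led Lsl_bt K69.v15982 = K69.v13106 :=
  Lgr Lrot127 (Lpr_bf (K69.f753279 IH) (Lpn K69.v13106))
theorem f824930 : Led Lsl_at (LP (LK LD1_c9 LD2_c15 LD3_c31)) = v24639 :=
  Lgr Lrot67 (Lpe (K69.f701147 IH) (Lpr_af (K69.f701146 IH) (Lpe (f753280 IH) (Lpe (f744519 IH) (Lpr_bf (f824929 IH) (Lpn v24639))))))
def v17231 : LQ := Led Lsl_gt (LP (LK LD1_c6 LD2_c15 LD3_c58))
theorem f757871 : Led Lsl_gt (LP (LK LD1_c6 LD2_c15 LD3_c58)) = v17231 :=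
  Lrfl
theorem f906380 : v24639 = v17231 :=
  (Llr Lrot26 (Lpe (f824930 IH) (Lpr_ff (f901906 IH) (Lpq (f906375 IH) (Lpr_gt (f503116 IH) (Lpr_gt (f757871 IH) (Lpn v17231))))))).symm
def v24640 : LQ := Led Lsl_ct K69.v4880
theorem f824933 : Led Lsl_ct K69.v4880 = v24640 :=
  Lrfl
theorem f288207 : Led Lsl_at (LP (LK LD1_c10 LD2_c10 LD3_c47)) = (LP (LK LD1_c9 LD2_c56 LD3_c15)) :=
  Lgr Lrot100 (Lpr_af (K17.f288203 IH) (Lpn (LP (LK LD1_c9 LD2_c56 LD3_c15))))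
theorem f722487 : Led Lsl_gf (LP (LK LD1_c9 LD2_c56 LD3_c15)) = K54.v14430 :=
  Lgr Lrot76 (Lpe (f288207 IH) (Lpe (K17.f180713 IH) (Lpr_gt (K54.f722486 IH) (Lpn K54.v14430))))
theorem f165769 : Led Lsl_ct (LP (LK LD1_c9 LD2_c56 LD3_c15)) = (LP (LK LD1_c5 LD2_c8 LD3_c16)) :=
  Lgr Lrot59 (Lpr_cf (K17.f165756 IH) (Lpn (LP (LK LD1_c5 LD2_c8 LD3_c16))))
theorem f744237 : Led Lsl_cf (LP (LK LD1_c5 LD2_c50 LD3_c2)) = K56.v15924 :=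
  Lgr Lrot11 (Lpr_ct (K56.f744236 IH) (Lpn K56.v15924))
theorem f824935 : Led Lsl_gf K56.v15924 = v24640 :=
  Lgr Lrot104 (Lpe (f744237 IH) (Lpe (K53.f615444 IH) (Lpe (f165769 IH) (Lpr_gf (f722487 IH) (Lpqs (K56.f753332 IH) (Lpe (K56.f22162 IH) (Lpe (K50.f22160 IH) (Lpe (K11.f22145 IH) (Lpr_gt (K69.f640691 IH) (Lpr_ct (f824933 IH) (Lpn v24640)))))))))))
theorem f138581 : Led Lsl_bt (LP (LK LD1_c3 LD2_c5 LD3_c8)) = (LP (LK LD1_c6 LD2_c15 LD3_c58)) :=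
  Lre_b IH (LK LD1_c3 LD2_c5 LD3_c8) (LK LD1_c6 LD2_c15 LD3_c58) Lrfl Lrfl
theorem f137439 : Led Lsl_gt (LP (LK LD1_c12 LD2_c9 LD3_c45)) = (LP (LK LD1_c6 LD2_c16 LD3_c4)) :=
  Lre_g IH (LK LD1_c12 LD2_c9 LD3_c45) (LK LD1_c6 LD2_c16 LD3_c4) Lrfl Lrfl
def v16014 : LQ := Led Lsl_bt (LP (LK LD1_c5 LD2_c51 LD3_c37))
theorem f744815 : Led Lsl_bt (LP (LK LD1_c5 LD2_c51 LD3_c37)) = v16014 :=
  Lrfl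
theorem f744816 : Led Lsl_bf (LP (LK LD1_c5 LD2_c51 LD3_c37)) = v16014 :=
  Lgr Lrot24 (Lpr_bt (f744815 IH) (Lpn v16014))
def v16176 : LQ := Led Lsl_ft (LP (LK LD1_c5 LD2_c54 LD3_c28))
theorem f746849 : Led Lsl_ft (LP (LK LD1_c5 LD2_c54 LD3_c28)) = v16176 :=
  Lrfl
theorem f746851 : Led Lsl_ff (LP (LK LD1_c5 LD2_c54 LD3_c28)) = v16176 :=
  Lgr Lrot3 (Lpr_ft (f746849 IH) (Lpn v16176))
theorem f746852 : Led Lsl_ct (LP (LK LD1_c5 LD2_c54 LD3_c31)) = v16176 :=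
  Lgr Lrot40 (Lpe (K8.f138417 IH) (Lpe (K69.f138412 IH) (Lpr_ff (f746851 IH) (Lpn v16176))))
theorem f138390 : Led Lsl_et (LP (LK LD1_c6 LD2_c16 LD3_c4)) = (LP (LK LD1_c3 LD2_c5 LD3_c7)) :=
  Lre_e IH (LK LD1_c6 LD2_c16 LD3_c4) (LK LD1_c3 LD2_c5 LD3_c7) Lrfl Lrfl
theorem f138392 : Led Lsl_af (LP (LK LD1_c6 LD2_c16 LD3_c4)) = (LP (LK LD1_c5 LD2_c54 LD3_c28)) :=
  Lgr Lrot50 (Lpr_et (f138390 IH) (Lpr_at (K8.f138384 IH) (Lpr_et (K8.f138391 IH) (Lpn (LP (LK LD1_c5 LD2_c54 LD3_c28))))))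
theorem f746853 : Led Lsl_gf (LP (LK LD1_c12 LD2_c9 LD3_c45)) = v16176 :=
  Lgr Lrot47 (Lpr_gt (f137439 IH) (Lpr_af (f138392 IH) (Lpr_ff (f746851 IH) (Lpn v16176))))
theorem f752521 : Led Lsl_ct v16014 = (LP (LK LD1_c12 LD2_c9 LD3_c45)) :=
  Lgr Lrot63 (Lpe (f744816 IH) (Lpr_gt (K65.f74246 IH) (Lpe (K32.f73614 IH) (Lpr_ct (K31.f73615 IH) (Lpr_gt (K31.f61832 IH) (Lpe (K32.f140089 IH) (Lpr_bt (K56.f140088 IH) (Lpr_gt (K56.f646364 IH) (Lpqs (K56.f752498 IH) (Lpr_ct (f746852 IH) (Lpe (f746853 IH) (Lpn (LP (LK LD1_c12 LD2_c9 LD3_c45))))))))))))))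
theorem f906382 : Led Lsl_gt (LP (LK LD1_c11 LD2_c28 LD3_c27)) = v16014 :=
  Lgr Lrot82 (Lpe (K53.f496496 IH) (Lpr_ct (K56.f744236 IH) (Lpr_gf (f824935 IH) (Lpe (f824933 IH) (Lpr_bt (f824927 IH) (Lpqs (f906380 IH) (Lpe (f757871 IH) (Lpe (f138581 IH) (Lpr_ct (K69.f138582 IH) (Lpe (f137439 IH) (Lpe (f752521 IH) (Lpn v16014))))))))))))
theorem f74252 : Led Lsl_ct (LP (LK LD1_c5 LD2_c51 LD3_c37)) = (LP (LK LD1_c11 LD2_c30 LD3_c38)) :=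
  Lre_c IH (LK LD1_c5 LD2_c51 LD3_c37) (LK LD1_c11 LD2_c30 LD3_c38) Lrfl Lrfl
theorem f906384 : Led Lsl_gf (LP (LK LD1_c11 LD2_c29 LD3_c6)) = (LP (LK LD1_c11 LD2_c30 LD3_c38)) :=
  Lgr Lrot126 (Lpe (K56.f22202 IH) (Lpr_bt (K50.f22148 IH) (Lpr_gt (K69.f640691 IH) (Lpr_ct (f824933 IH) (Lpe (f824935 IH) (Lpe (K56.f744236 IH) (Lpr_bt (K53.f496496 IH) (Lpr_gt (f906382 IH) (Lpe (f744815 IH) (Lpr_ct (f74252 IH) (Lpn (LP (LK LD1_c11 LD2_c30 LD3_c38)))))))))))))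
theorem f906385 : Led Lsl_gt (LP (LK LD1_c11 LD2_c30 LD3_c38)) = (LP (LK LD1_c11 LD2_c29 LD3_c6)) :=
  Leop (Lpr_gf (f906384 IH) (Lpn (LP (LK LD1_c11 LD2_c30 LD3_c38))))
theorem seed_2284 : LEOK LG_g (LK LD1_c11 LD2_c30 LD3_c38) :=
  Leoe_g (LK LD1_c11 LD2_c30 LD3_c38) (f906385 IH)
def v39097 : LQ := Led Lsl_ft (LP (LK LD1_c9 LD2_c19 LD3_c57))
theorem f906429 : Led Lsl_ft (LP (LK LD1_c9 LD2_c19 LD3_c57)) = v39097 :=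
  Lrfl
def v39094 : LQ := Led Lsl_gt (LP (LK LD1_c9 LD2_c19 LD3_c57))
theorem f906420 : Led Lsl_gt (LP (LK LD1_c9 LD2_c19 LD3_c57)) = v39094 :=
  Lrfl
theorem f104254 : Led Lsl_at (LP (LK LD1_c14 LD2_c15 LD3_c52)) = (LP (LK LD1_c7 LD2_c33 LD3_c56)) :=
  Lre_a IH (LK LD1_c14 LD2_c15 LD3_c52) (LK LD1_c7 LD2_c33 LD3_c56) Lrfl Lrfl
theorem f136062 : Led Lsl_at (LP (LK LD1_c6 LD2_c19 LD3_c53)) = (LP (LK LD1_c9 LD2_c19 LD3_c57)) :=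
  Lgr Lrot80 (Lpe (K51.f104251 IH) (Lpe (f104254 IH) (Lpr_ef (K51.f136060 IH) (Lpn (LP (LK LD1_c9 LD2_c19 LD3_c57))))))
def v17512 : LQ := Led Lsl_ft (LP (LK LD1_c6 LD2_c19 LD3_c53))
theorem f760321 : Led Lsl_ft (LP (LK LD1_c6 LD2_c19 LD3_c53)) = v17512 :=
  Lrfl
theorem f760324 : Led Lsl_ff (LP (LK LD1_c6 LD2_c19 LD3_c53)) = v17512 :=
  Lgr Lrot3 (Lpr_ft (f760321 IH) (Lpn v17512))
theorem f906430 : Led Lsl_af v17512 = v39097 :=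
  Lgr Lrot45 (Lpe (f760324 IH) (Lpr_at (f136062 IH) (Lpr_ft (f906429 IH) (Lpn v39097))))
theorem f906433 : Led Lsl_gt v39094 = v17512 :=
  Lgr Lrot46 (Lpe (f906420 IH) (Lpr_ft (f906429 IH) (Lpe (f906430 IH) (Lpn v17512))))
theorem f760323 : Led Lsl_df K51.v5407 = v17512 :=
  Lgr Lrot78 (Lpe (K51.f647505 IH) (Lpr_dt (K51.f61943 IH) (Lpr_ft (f760321 IH) (Lpn v17512))))
theorem f647513 : Led Lsl_df K51.v1852 = K51.v5409 :=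
  Lgr Lrot78 (Lpe (K51.f504573 IH) (Lpr_dt (K51.f104228 IH) (Lpr_ft (K51.f647512 IH) (Lpn K51.v5409))))
def v9829 : LQ := Led Lsl_et K58.v3086
theorem f677718 : Led Lsl_et K58.v3086 = v9829 :=
  Lrfl
theorem f677719 : Led Lsl_cf K66.v3088 = v9829 :=
  Lgr Lrot39 (Lpe (K66.f623814 IH) (Lpr_ct (K58.f623806 IH) (Lpr_et (f677718 IH) (Lpn v9829))))
def v30464 : LQ := Led Lsl_gt v9829
theorem f854581 : Led Lsl_gt v9829 = v30464 :=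
  Lrfl
theorem f906435 : Led Lsl_df v39094 = v30464 :=
  Lgr Lrot153 (Lpr_gt (f906433 IH) (Lpe (f760323 IH) (Lpe (K51.f647507 IH) (Lpr_df (f647513 IH) (Lpe (K57.f647766 IH) (Lpr_df (K66.f677728 IH) (Lpe (K66.f677727 IH) (Lpr_cf (f677719 IH) (Lpr_gt (f854581 IH) (Lpn v30464))))))))))
theorem f126979 : Led Lsl_gt (LP (LK LD1_c17 LD2_c15 LD3_c49)) = (LP (LK LD1_c9 LD2_c19 LD3_c57)) :=
  Lre_g IH (LK LD1_c17 LD2_c15 LD3_c49) (LK LD1_c9 LD2_c19 LD3_c57) Lrfl Lrfl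
theorem f760327 : Led Lsl_gf (LP (LK LD1_c17 LD2_c15 LD3_c49)) = v17512 :=
  Lgr Lrot47 (Lpr_gt (f126979 IH) (Lpe (f136062 IH) (Lpr_ff (f760324 IH) (Lpn v17512))))
theorem f124832 : Led Lsl_et (LP (LK LD1_c12 LD2_c23 LD3_c54)) = (LP (LK LD1_c6 LD2_c25 LD3_c39)) :=
  Lre_e IH (LK LD1_c12 LD2_c23 LD3_c54) (LK LD1_c6 LD2_c25 LD3_c39) Lrfl Lrfl
theorem f131649 : Led Lsl_et (LP (LK LD1_c6 LD2_c19 LD3_c30)) = (LP (LK LD1_c12 LD2_c14 LD3_c15)) :=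
  Lre_e IH (LK LD1_c6 LD2_c19 LD3_c30) (LK LD1_c12 LD2_c14 LD3_c15) Lrfl Lrfl
theorem f708690 : Led Lsl_cf (LP (LK LD1_c12 LD2_c23 LD3_c54)) = (LP (LK LD1_c12 LD2_c14 LD3_c15)) :=
  Lgr Lrot39 (Lpr_et (f124832 IH) (Lpr_ct (K51.f708678 IH) (Lpr_et (f131649 IH) (Lpn (LP (LK LD1_c12 LD2_c14 LD3_c15))))))
theorem f663156 : Led Lsl_et (LP (LK LD1_c6 LD2_c25 LD3_c39)) = (LP (LK LD1_c12 LD2_c23 LD3_c54)) :=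
  Lre_e IH (LK LD1_c6 LD2_c25 LD3_c39) (LK LD1_c12 LD2_c23 LD3_c54) Lrfl Lrfl
theorem f663303 : Led Lsl_af (LP (LK LD1_c12 LD2_c1 LD3_c21)) = (LP (LK LD1_c12 LD2_c23 LD3_c54)) :=
  Lgr Lrot50 (Lpr_et (K66.f441185 IH) (Lpq (K51.f663209 IH) (Lpe (K66.f663152 IH) (Lpr_et (f663156 IH) (Lpn (LP (LK LD1_c12 LD2_c23 LD3_c54)))))))
theorem f708483 : Led Lsl_cf K48.v5232 = (LP (LK LD1_c6 LD2_c28 LD3_c25)) :=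
  Lgr Lrot108 (Lpe (K48.f646708 IH) (Lpr_ct (K51.f140041 IH) (Lpr_ft (K51.f708481 IH) (Lpn (LP (LK LD1_c6 LD2_c28 LD3_c25))))))
theorem f441184 : Led Lsl_et (LP (LK LD1_c6 LD2_c10 LD3_c16)) = (LP (LK LD1_c12 LD2_c1 LD3_c21)) :=
  Lre_e IH (LK LD1_c6 LD2_c10 LD3_c16) (LK LD1_c12 LD2_c1 LD3_c21) Lrfl Lrfl
theorem f436007 : Led Lsl_et (LP (LK LD1_c12 LD2_c27 LD3_c56)) = (LP (LK LD1_c6 LD2_c28 LD3_c25)) :=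
  Lre_e IH (LK LD1_c12 LD2_c27 LD3_c56) (LK LD1_c6 LD2_c28 LD3_c25) Lrfl Lrfl
theorem f708485 : Led Lsl_ct (LP (LK LD1_c12 LD2_c1 LD3_c21)) = (LP (LK LD1_c12 LD2_c27 LD3_c56)) :=
  Lgr Lrot15 (Lpe (f441184 IH) (Lpq (K51.f663209 IH) (Lpr_cf (f708483 IH) (Lpe (f436007 IH) (Lpn (LP (LK LD1_c12 LD2_c27 LD3_c56)))))))
theorem f709789 : Led Lsl_at (LP (LK LD1_c12 LD2_c27 LD3_c56)) = (LP (LK LD1_c12 LD2_c14 LD3_c15)) :=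
  Lgr Lrot107 (Lpe (f708485 IH) (Lpr_af (f663303 IH) (Lpr_cf (f708690 IH) (Lpn (LP (LK LD1_c12 LD2_c14 LD3_c15))))))
theorem f124515 : Led Lsl_et (LP (LK LD1_c4 LD2_c43 LD3_c9)) = (LP (LK LD1_c2 LD2_c19 LD3_c14)) :=
  Lre_e IH (LK LD1_c4 LD2_c43 LD3_c9) (LK LD1_c2 LD2_c19 LD3_c14) Lrfl Lrfl
theorem f436008 : Led Lsl_df (LP (LK LD1_c17 LD2_c15 LD3_c49)) = (LP (LK LD1_c12 LD2_c27 LD3_c56)) :=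
  Lgr Lrot170 (Lpr_gt (f126979 IH) (Lpe (K51.f124516 IH) (Lpr_et (f124515 IH) (Lpe (K6.f124506 IH) (Lpr_dt (K41.f152493 IH) (Lpr_gt (K41.f113068 IH) (Lpe (K5.f112042 IH) (Lpr_et (K4.f112047 IH) (Lpr_gt (K51.f436006 IH) (Lpe (f436007 IH) (Lpn (LP (LK LD1_c12 LD2_c27 LD3_c56)))))))))))))
theorem f436010 : Led Lsl_dt (LP (LK LD1_c17 LD2_c15 LD3_c49)) = (LP (LK LD1_c12 LD2_c27 LD3_c56)) :=
  Lgr Lrot42 (Lpr_df (f436008 IH) (Lpn (LP (LK LD1_c12 LD2_c27 LD3_c56))))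
theorem f128489 : Led Lsl_et (LP (LK LD1_c1 LD2_c29 LD3_c51)) = (LP (LK LD1_c3 LD2_c7 LD3_c14)) :=
  Lre_e IH (LK LD1_c1 LD2_c29 LD3_c51) (LK LD1_c3 LD2_c7 LD3_c14) Lrfl Lrfl
theorem f131643 : Led Lsl_et (LP (LK LD1_c12 LD2_c14 LD3_c15)) = (LP (LK LD1_c6 LD2_c19 LD3_c30)) :=
  Lre_e IH (LK LD1_c12 LD2_c14 LD3_c15) (LK LD1_c6 LD2_c19 LD3_c30) Lrfl Lrfl
theorem f61933 : Led Lsl_dt (LP (LK LD1_c1 LD2_c35 LD3_c9)) = (LP (LK LD1_c3 LD2_c17 LD3_c3)) :=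
  Lre_d IH (LK LD1_c1 LD2_c35 LD3_c9) (LK LD1_c3 LD2_c17 LD3_c3) Lrfl Lrfl
theorem f61944 : Led Lsl_gt (LP (LK LD1_c12 LD2_c14 LD3_c37)) = (LP (LK LD1_c6 LD2_c19 LD3_c53)) :=
  Lre_g IH (LK LD1_c12 LD2_c14 LD3_c37) (LK LD1_c6 LD2_c19 LD3_c53) Lrfl Lrfl
theorem f131644 : Led Lsl_dt (LP (LK LD1_c12 LD2_c14 LD3_c15)) = (LP (LK LD1_c12 LD2_c14 LD3_c37)) :=
  Lgr Lrot136 (Lpr_et (f131643 IH) (Lpe (K51.f110498 IH) (Lpe (f128489 IH) (Lpr_dt (K5.f110451 IH) (Lpr_gf (K5.f131637 IH) (Lpe (f61933 IH) (Lpe (K1.f61878 IH) (Lpe (K51.f61942 IH) (Lpr_dt (K51.f61943 IH) (Lpe (f61944 IH) (Lpn (LP (LK LD1_c12 LD2_c14 LD3_c37)))))))))))))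
theorem f709793 : Led Lsl_af (LP (LK LD1_c17 LD2_c15 LD3_c49)) = (LP (LK LD1_c12 LD2_c14 LD3_c37)) :=
  Lgr Lrot117 (Lpr_dt (f436010 IH) (Lpr_at (f709789 IH) (Lpr_dt (f131644 IH) (Lpn (LP (LK LD1_c12 LD2_c14 LD3_c37))))))
theorem f906434 : Led Lsl_ft v39094 = (LP (LK LD1_c12 LD2_c14 LD3_c37)) :=
  Lgr Lrot2 (Lpr_gt (f906433 IH) (Lpe (f760327 IH) (Lpr_af (f709793 IH) (Lpn (LP (LK LD1_c12 LD2_c14 LD3_c37))))))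
theorem f131647 : Led Lsl_df (LP (LK LD1_c12 LD2_c14 LD3_c15)) = (LP (LK LD1_c12 LD2_c14 LD3_c37)) :=
  Lgr Lrot38 (Lpr_dt (f131644 IH) (Lpn (LP (LK LD1_c12 LD2_c14 LD3_c37))))
theorem f906437 : Led Lsl_ft (LP (LK LD1_c12 LD2_c14 LD3_c15)) = v30464 :=
  Lgr Lrot54 (Lpr_df (f131647 IH) (Lpe (f906434 IH) (Lpr_df (f906435 IH) (Lpn v30464))))
theorem f906438 : Led Lsl_ff (LP (LK LD1_c12 LD2_c14 LD3_c15)) = v30464 :=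
  Lgr Lrot3 (Lpr_ft (f906437 IH) (Lpn v30464))
theorem f906436 : Led Lsl_dt v39094 = v30464 :=
  Lgr Lrot42 (Lpr_df (f906435 IH) (Lpn v30464))
theorem f906439 : Led Lsl_ft (LP (LK LD1_c12 LD2_c14 LD3_c37)) = v39094 :=
  Lgr Lrot54 (Lpe (f131644 IH) (Lpr_ff (f906438 IH) (Lpe (f906436 IH) (Lpn v39094))))
theorem f104265 : Led Lsl_gt (LP (LK LD1_c6 LD2_c19 LD3_c53)) = (LP (LK LD1_c12 LD2_c14 LD3_c36)) :=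
  Lre_g IH (LK LD1_c6 LD2_c19 LD3_c53) (LK LD1_c12 LD2_c14 LD3_c36) Lrfl Lrfl
theorem f906440 : Led Lsl_af (LP (LK LD1_c12 LD2_c14 LD3_c36)) = v39094 :=
  Lgr Lrot31 (Lpe (f104265 IH) (Lpe (f61944 IH) (Lpr_ft (f906439 IH) (Lpn v39094))))
theorem f709795 : Led Lsl_at (LP (LK LD1_c17 LD2_c15 LD3_c49)) = (LP (LK LD1_c12 LD2_c14 LD3_c37)) :=
  Lgr Lrot100 (Lpr_af (f709793 IH) (Lpn (LP (LK LD1_c12 LD2_c14 LD3_c37))))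
theorem f906442 : Led Lsl_ft (LP (LK LD1_c12 LD2_c14 LD3_c36)) = (LP (LK LD1_c17 LD2_c15 LD3_c49)) :=
  Lgr Lrot101 (Lpr_af (f906440 IH) (Lpe (f906439 IH) (Lpe (f709795 IH) (Lpn (LP (LK LD1_c17 LD2_c15 LD3_c49))))))
theorem f906443 : Led Lsl_ft (LP (LK LD1_c12 LD2_c14 LD3_c36)) = (LP (LK LD1_c17 LD2_c15 LD3_c49)) :=
  Leop (Lpe (f906442 IH) (Lpn (LP (LK LD1_c12 LD2_c14 LD3_c36))))
theorem seed_2285 : LEOK LG_f (LK LD1_c12 LD2_c14 LD3_c36) :=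
  Leoe_f (LK LD1_c12 LD2_c14 LD3_c36) (f906443 IH)
def v39189 : LQ := Led Lsl_ct (LP (LK LD1_c9 LD2_c20 LD3_c34))
theorem f906881 : Led Lsl_ct (LP (LK LD1_c9 LD2_c20 LD3_c34)) = v39189 :=
  Lrfl
theorem f152201 : Led Lsl_bt (LP (LK LD1_c9 LD2_c20 LD3_c34)) = (LP (LK LD1_c4 LD2_c43 LD3_c41)) :=
  Lre_b IH (LK LD1_c9 LD2_c20 LD3_c34) (LK LD1_c4 LD2_c43 LD3_c41) Lrfl Lrfl
theorem f152200 : Led Lsl_gt (LP (LK LD1_c4 LD2_c43 LD3_c41)) = (LP (LK LD1_c2 LD2_c19 LD3_c36)) :=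
  Lre_g IH (LK LD1_c4 LD2_c43 LD3_c41) (LK LD1_c2 LD2_c19 LD3_c36) Lrfl Lrfl
theorem f152199 : Led Lsl_ct (LP (LK LD1_c9 LD2_c19 LD3_c0)) = (LP (LK LD1_c17 LD2_c14 LD3_c25)) :=
  Lre_c IH (LK LD1_c9 LD2_c19 LD3_c0) (LK LD1_c17 LD2_c14 LD3_c25) Lrfl Lrfl
theorem f906883 : Led Lsl_gt (LP (LK LD1_c17 LD2_c14 LD3_c25)) = v39189 :=
  Lgr Lrot149 (Lpe (f152199 IH) (Lpe (K60.f152198 IH) (Lpe (K60.f152197 IH) (Lpr_ct (K7.f82867 IH) (Lpr_gf (K7.f152192 IH) (Lpe (K7.f25747 IH) (Lpr_bt (K16.f61262 IH) (Lpe (f152200 IH) (Lpe (f152201 IH) (Lpr_ct (f906881 IH) (Lpn v39189)))))))))))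
theorem f434560 : Led Lsl_dt (LP (LK LD1_c4 LD2_c42 LD3_c20)) = (LP (LK LD1_c3 LD2_c9 LD3_c9)) :=
  Lgr Lrot42 (Lpr_df (K49.f155866 IH) (Lpn (LP (LK LD1_c3 LD2_c9 LD3_c9))))
theorem f67161 : Led Lsl_gt (LP (LK LD1_c3 LD2_c9 LD3_c9)) = (LP (LK LD1_c6 LD2_c22 LD3_c59)) :=
  Lre_g IH (LK LD1_c3 LD2_c9 LD3_c9) (LK LD1_c6 LD2_c22 LD3_c59) Lrfl Lrfl
theorem f67162 : Led Lsl_ct (LP (LK LD1_c6 LD2_c22 LD3_c59)) = (LP (LK LD1_c12 LD2_c19 LD3_c29)) :=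
  Lre_c IH (LK LD1_c6 LD2_c22 LD3_c59) (LK LD1_c12 LD2_c19 LD3_c29) Lrfl Lrfl
theorem f25827 : Led Lsl_bt (LP (LK LD1_c0 LD2_c42 LD3_c43)) = (LP (LK LD1_c1 LD2_c32 LD3_c19)) :=
  Lre_b IH (LK LD1_c0 LD2_c42 LD3_c43) (LK LD1_c1 LD2_c32 LD3_c19) Lrfl Lrfl
theorem f67164 : Led Lsl_bt (LP (LK LD1_c6 LD2_c28 LD3_c3)) = (LP (LK LD1_c3 LD2_c11 LD3_c55)) :=
  Lre_b IH (LK LD1_c6 LD2_c28 LD3_c3) (LK LD1_c3 LD2_c11 LD3_c55) Lrfl Lrfl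
theorem f67165 : Led Lsl_ct (LP (LK LD1_c6 LD2_c28 LD3_c3)) = (LP (LK LD1_c12 LD2_c27 LD3_c30)) :=
  Lre_c IH (LK LD1_c6 LD2_c28 LD3_c3) (LK LD1_c12 LD2_c27 LD3_c30) Lrfl Lrfl
theorem f67166 : Led Lsl_gt (LP (LK LD1_c12 LD2_c19 LD3_c29)) = (LP (LK LD1_c12 LD2_c27 LD3_c30)) :=
  Lgr Lrot149 (Lpe (f67162 IH) (Lpe (f67161 IH) (Lpe (K49.f67160 IH) (Lpr_ct (K7.f67144 IH) (Lpr_gf (K1.f67152 IH) (Lpe (K7.f24984 IH) (Lpr_bt (f25827 IH) (Lpe (K57.f67163 IH) (Lpe (f67164 IH) (Lpr_ct (f67165 IH) (Lpn (LP (LK LD1_c12 LD2_c27 LD3_c30)))))))))))))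
theorem f67328 : Led Lsl_ct (LP (LK LD1_c12 LD2_c27 LD3_c30)) = (LP (LK LD1_c6 LD2_c28 LD3_c3)) :=
  Lre_c IH (LK LD1_c12 LD2_c27 LD3_c30) (LK LD1_c6 LD2_c28 LD3_c3) Lrfl Lrfl
def v18276 : LQ := Led Lsl_dt (LP (LK LD1_c6 LD2_c28 LD3_c3))
theorem f766064 : Led Lsl_dt (LP (LK LD1_c6 LD2_c28 LD3_c3)) = v18276 :=
  Lrfl
theorem f906882 : Led Lsl_cf (LP (LK LD1_c9 LD2_c20 LD3_c34)) = v39189 :=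
  Lgr Lrot11 (Lpr_ct (f906881 IH) (Lpn v39189))
theorem f906884 : v18276 = (LP (LK LD1_c9 LD2_c20 LD3_c34)) :=
  (Llr Lrot27 (Lpe (f766064 IH) (Lpe (f67328 IH) (Lpe (f67166 IH) (Lpe (f67162 IH) (Lpe (f67161 IH) (Lpe (f434560 IH) (Lpr_gt (K60.f152198 IH) (Lpr_ct (f152199 IH) (Lpr_gt (f906883 IH) (Lpe (f906882 IH) (Lpn (LP (LK LD1_c9 LD2_c20 LD3_c34)))))))))))))).symm
theorem f766066 : Led Lsl_df (LP (LK LD1_c6 LD2_c28 LD3_c3)) = v18276 :=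
  Lgr Lrot38 (Lpr_dt (f766064 IH) (Lpn v18276))
theorem f906885 : Led Lsl_dt (LP (LK LD1_c9 LD2_c20 LD3_c34)) = (LP (LK LD1_c6 LD2_c28 LD3_c3)) :=
  Leop (Lpr_df (f766066 IH) (Lpqs (f906884 IH) (Lpn (LP (LK LD1_c9 LD2_c20 LD3_c34)))))
theorem seed_2286 : LEOK LG_d (LK LD1_c9 LD2_c20 LD3_c34) :=
  Leoe_d (LK LD1_c9 LD2_c20 LD3_c34) (f906885 IH)
def v5674 : LQ := Led Lsl_dt (LP (LK LD1_c3 LD2_c11 LD3_c54))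
theorem f648789 : Led Lsl_dt (LP (LK LD1_c3 LD2_c11 LD3_c54)) = v5674 :=
  Lrfl
def v25622 : LQ := Led Lsl_gf v5674
theorem f829596 : Led Lsl_gf v5674 = v25622 :=
  Lrfl
theorem f61263 : Led Lsl_gt (LP (LK LD1_c2 LD2_c19 LD3_c36)) = (LP (LK LD1_c4 LD2_c43 LD3_c40)) :=
  Lre_g IH (LK LD1_c2 LD2_c19 LD3_c36) (LK LD1_c4 LD2_c43 LD3_c40) Lrfl Lrfl
def v25620 : LQ := Led Lsl_dt K57.v5673
theorem f829589 : Led Lsl_dt K57.v5673 = v25620 :=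
  Lrfl
theorem f648790 : Led Lsl_df (LP (LK LD1_c3 LD2_c11 LD3_c54)) = v5674 :=
  Lgr Lrot38 (Lpr_dt (f648789 IH) (Lpn v5674))
theorem f829590 : Led Lsl_af v5674 = v25620 :=
  Lgr Lrot117 (Lpe (f648790 IH) (Lpr_at (K57.f648782 IH) (Lpr_dt (f829589 IH) (Lpn v25620))))
def v5676 : LQ := Led Lsl_dt (LP (LK LD1_c3 LD2_c11 LD3_c55))
theorem f648799 : Led Lsl_dt (LP (LK LD1_c3 LD2_c11 LD3_c55)) = v5676 :=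
  Lrfl
theorem f648800 : Led Lsl_df (LP (LK LD1_c3 LD2_c11 LD3_c55)) = v5676 :=
  Lgr Lrot38 (Lpr_dt (f648799 IH) (Lpn v5676))
theorem f829592 : Led Lsl_ff v5676 = v25620 :=
  Lgr Lrot19 (Lpe (f648800 IH) (Lpr_ft (K57.f648787 IH) (Lpr_dt (f829589 IH) (Lpn v25620))))
theorem f829593 : Led Lsl_ft v5676 = v25620 :=
  Lgr Lrot48 (Lpr_ff (f829592 IH) (Lpn v25620))
theorem f829597 : Led Lsl_gt v5676 = v25622 :=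
  Lgr Lrot5 (Lpr_ft (f829593 IH) (Lpe (f829590 IH) (Lpr_gf (f829596 IH) (Lpn v25622))))
theorem f647480 : Led Lsl_bt (LP (LK LD1_c3 LD2_c11 LD3_c55)) = (LP (LK LD1_c6 LD2_c28 LD3_c3)) :=
  Lre_b IH (LK LD1_c3 LD2_c11 LD3_c55) (LK LD1_c6 LD2_c28 LD3_c3) Lrfl Lrfl
theorem f766065 : Led Lsl_bf v5676 = v18276 :=
  Lgr Lrot93 (Lpe (f648800 IH) (Lpr_bt (f647480 IH) (Lpr_dt (f766064 IH) (Lpn v18276))))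
theorem f906888 : v5676 = (LP (LK LD1_c4 LD2_c43 LD3_c41)) :=
  Lefun (Lecon (Lfl_bf (f766065 IH)) (f906884 IH)) (f152201 IH)
theorem f906889 : v25622 = (LP (LK LD1_c2 LD2_c19 LD3_c36)) :=
  Lefun (Lecon (f829597 IH) (f906888 IH)) (f152200 IH)
theorem f906900 : v5674 = (LP (LK LD1_c4 LD2_c43 LD3_c40)) :=
  Lefun (Lecon (Lfl_gf (f829596 IH)) (f906889 IH)) (f61263 IH)
theorem f906904 : Led Lsl_dt (LP (LK LD1_c3 LD2_c11 LD3_c54)) = (LP (LK LD1_c4 LD2_c43 LD3_c40)) :=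
  Leop (Lpq (f906900 IH) (Lpe (f648789 IH) (Lpn (LP (LK LD1_c3 LD2_c11 LD3_c54)))))
theorem seed_2287 : LEOK LG_d (LK LD1_c3 LD2_c11 LD3_c54) :=
  Leoe_d (LK LD1_c3 LD2_c11 LD3_c54) (f906904 IH)
theorem f448093 : Led Lsl_bf (LP (LK LD1_c6 LD2_c26 LD3_c18)) = (LP (LK LD1_c3 LD2_c34 LD3_c24)) :=
  Lgr Lrot24 (Lpr_bt (K11.f448089 IH) (Lpn (LP (LK LD1_c3 LD2_c34 LD3_c24))))
theorem f126124 : Led Lsl_bt (LP (LK LD1_c12 LD2_c0 LD3_c60)) = (LP (LK LD1_c6 LD2_c10 LD3_c4)) :=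
  Lre_b IH (LK LD1_c12 LD2_c0 LD3_c60) (LK LD1_c6 LD2_c10 LD3_c4) Lrfl Lrfl
theorem f448101 : Led Lsl_bt (LP (LK LD1_c6 LD2_c48 LD3_c6)) = (LP (LK LD1_c12 LD2_c58 LD3_c53)) :=
  Lre_b IH (LK LD1_c6 LD2_c48 LD3_c6) (LK LD1_c12 LD2_c58 LD3_c53) Lrfl Lrfl
theorem f448102 : Led Lsl_cf (LP (LK LD1_c12 LD2_c0 LD3_c60)) = (LP (LK LD1_c12 LD2_c58 LD3_c53)) :=
  Lgr Lrot97 (Lpr_bt (f126124 IH) (Lpe (K66.f432974 IH) (Lpe (f448093 IH) (Lpr_ct (K11.f448097 IH) (Lpr_bt (f448101 IH) (Lpn (LP (LK LD1_c12 LD2_c58 LD3_c53))))))))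
theorem f429756 : Led Lsl_gt (LP (LK LD1_c12 LD2_c0 LD3_c60)) = (LP (LK LD1_c21 LD2_c6 LD3_c29)) :=
  Lre_g IH (LK LD1_c12 LD2_c0 LD3_c60) (LK LD1_c21 LD2_c6 LD3_c29) Lrfl Lrfl
theorem f433061 : Led Lsl_ct (LP (LK LD1_c29 LD2_c51 LD3_c30)) = (LP (LK LD1_c21 LD2_c6 LD3_c29)) :=
  Lre_c IH (LK LD1_c29 LD2_c51 LD3_c30) (LK LD1_c21 LD2_c6 LD3_c29) Lrfl Lrfl
theorem f154932 : Led Lsl_ct (LP (LK LD1_c13 LD2_c37 LD3_c51)) = (LP (LK LD1_c7 LD2_c11 LD3_c42)) :=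
  Lre_c IH (LK LD1_c13 LD2_c37 LD3_c51) (LK LD1_c7 LD2_c11 LD3_c42) Lrfl Lrfl
theorem f429744 : Led Lsl_bt (LP (LK LD1_c6 LD2_c10 LD3_c4)) = (LP (LK LD1_c12 LD2_c0 LD3_c60)) :=
  Lre_b IH (LK LD1_c6 LD2_c10 LD3_c4) (LK LD1_c12 LD2_c0 LD3_c60) Lrfl Lrfl
theorem f433054 : Led Lsl_bt (LP (LK LD1_c13 LD2_c37 LD3_c51)) = (LP (LK LD1_c21 LD2_c6 LD3_c29)) :=
  Lgr Lrot92 (Lpr_ct (f154932 IH) (Lpr_gt (K57.f154931 IH) (Lpe (K57.f154917 IH) (Lpr_bt (K60.f154916 IH) (Lpr_gt (K7.f154913 IH) (Lpr_ct (K7.f86344 IH) (Lpe (K11.f432970 IH) (Lpr_cf (K66.f432974 IH) (Lpr_bt (f429744 IH) (Lpr_gt (f429756 IH) (Lpn (LP (LK LD1_c21 LD2_c6 LD3_c29)))))))))))))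
theorem f429757 : Led Lsl_ct (LP (LK LD1_c21 LD2_c6 LD3_c29)) = (LP (LK LD1_c29 LD2_c51 LD3_c30)) :=
  Lre_c IH (LK LD1_c21 LD2_c6 LD3_c29) (LK LD1_c29 LD2_c51 LD3_c30) Lrfl Lrfl
theorem f434916 : Led Lsl_bf (LP (LK LD1_c22 LD2_c8 LD3_c56)) = (LP (LK LD1_c29 LD2_c51 LD3_c30)) :=
  Lgr Lrot90 (Lpr_ct (K57.f434913 IH) (Lpr_bt (K57.f433058 IH) (Lpr_ct (K57.f431121 IH) (Lpr_bt (f433054 IH) (Lpr_ct (f429757 IH) (Lpn (LP (LK LD1_c29 LD2_c51 LD3_c30))))))))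
theorem f432507 : Led Lsl_bt (LP (LK LD1_c12 LD2_c58 LD3_c53)) = (LP (LK LD1_c6 LD2_c48 LD3_c6)) :=
  Lre_b IH (LK LD1_c12 LD2_c58 LD3_c53) (LK LD1_c6 LD2_c48 LD3_c6) Lrfl Lrfl
theorem f84554 : Led Lsl_ct (LP (LK LD1_c12 LD2_c59 LD3_c4)) = (LP (LK LD1_c6 LD2_c48 LD3_c11)) :=
  Lre_c IH (LK LD1_c12 LD2_c59 LD3_c4) (LK LD1_c6 LD2_c48 LD3_c11) Lrfl Lrfl
theorem f448590 : Led Lsl_gt (LP (LK LD1_c22 LD2_c8 LD3_c56)) = (LP (LK LD1_c12 LD2_c59 LD3_c4)) :=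
  Lgr Lrot82 (Lpr_bf (f434916 IH) (Lpr_ct (f433061 IH) (Lpe (f429756 IH) (Lpr_cf (f448102 IH) (Lpr_bt (f432507 IH) (Lpe (K11.f84456 IH) (Lpe (K49.f84388 IH) (Lpr_ct (K6.f84372 IH) (Lpe (K60.f84545 IH) (Lpe (f84554 IH) (Lpn (LP (LK LD1_c12 LD2_c59 LD3_c4)))))))))))))
theorem f433805 : Led Lsl_ct (LP (LK LD1_c9 LD2_c19 LD3_c20)) = (LP (LK LD1_c17 LD2_c14 LD3_c45)) :=
  Lre_c IH (LK LD1_c9 LD2_c19 LD3_c20) (LK LD1_c17 LD2_c14 LD3_c45) Lrfl Lrfl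
theorem f433806 : Led Lsl_ft (LP (LK LD1_c6 LD2_c23 LD3_c61)) = (LP (LK LD1_c9 LD2_c19 LD3_c20)) :=
  Lgr Lrot4 (Lpe (K60.f433758 IH) (Lpr_ff (K11.f433797 IH) (Lpe (f433805 IH) (Lpn (LP (LK LD1_c9 LD2_c19 LD3_c20))))))
theorem f434070 : Led Lsl_bf (LP (LK LD1_c6 LD2_c24 LD3_c14)) = (LP (LK LD1_c9 LD2_c19 LD3_c20)) :=
  Lgr Lrot61 (Lpr_ft (K57.f433486 IH) (Lpe (K49.f433640 IH) (Lpr_ft (f433806 IH) (Lpn (LP (LK LD1_c9 LD2_c19 LD3_c20))))))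
theorem f154651 : Led Lsl_ct (LP (LK LD1_c21 LD2_c27 LD3_c12)) = (LP (LK LD1_c12 LD2_c21 LD3_c0)) :=
  Lre_c IH (LK LD1_c21 LD2_c27 LD3_c12) (LK LD1_c12 LD2_c21 LD3_c0) Lrfl Lrfl
theorem f84555 : Led Lsl_ct (LP (LK LD1_c6 LD2_c48 LD3_c11)) = (LP (LK LD1_c12 LD2_c59 LD3_c4)) :=
  Lre_c IH (LK LD1_c6 LD2_c48 LD3_c11) (LK LD1_c12 LD2_c59 LD3_c4) Lrfl Lrfl
theorem f448597 : Led Lsl_gf (LP (LK LD1_c21 LD2_c27 LD3_c12)) = (LP (LK LD1_c12 LD2_c59 LD3_c3)) :=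
  Lgr Lrot181 (Lpr_ct (f154651 IH) (Lpr_gt (K60.f434082 IH) (Lpe (f433805 IH) (Lpe (f434070 IH) (Lpr_gt (K57.f434098 IH) (Lpe (K57.f433058 IH) (Lpe (K57.f434888 IH) (Lpr_gt (f448590 IH) (Lpe (f84555 IH) (Lpr_bt (K60.f435230 IH) (Lpn (LP (LK LD1_c12 LD2_c59 LD3_c3)))))))))))))
theorem f435225 : Led Lsl_dt (LP (LK LD1_c12 LD2_c0 LD3_c33)) = (LP (LK LD1_c12 LD2_c59 LD3_c3)) :=
  Lgr Lrot27 (Lpe (K60.f86421 IH) (Lpr_gf (K60.f435222 IH) (Lpe (K60.f155312 IH) (Lpe (K49.f154188 IH) (Lpr_df (K60.f154630 IH) (Lpr_gt (K49.f431523 IH) (Lpr_ct (K49.f57765 IH) (Lpe (K60.f431528 IH) (Lpr_ct (K60.f84558 IH) (Lpn (LP (LK LD1_c12 LD2_c59 LD3_c3))))))))))))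
theorem f435224 : Led Lsl_gt (LP (LK LD1_c12 LD2_c0 LD3_c33)) = (LP (LK LD1_c21 LD2_c5 LD3_c42)) :=
  Lre_g IH (LK LD1_c12 LD2_c0 LD3_c33) (LK LD1_c21 LD2_c5 LD3_c42) Lrfl Lrfl
theorem f448602 : Led Lsl_cf (LP (LK LD1_c13 LD2_c37 LD3_c40)) = (LP (LK LD1_c21 LD2_c5 LD3_c42)) :=
  Lgr Lrot169 (Lpe (K57.f433461 IH) (Lpr_ct (K57.f433465 IH) (Lpe (K60.f433876 IH) (Lpe (K60.f433748 IH) (Lpe (K60.f434082 IH) (Lpe (f154651 IH) (Lpr_gf (f448597 IH) (Lpe (f435225 IH) (Lpr_gt (f435224 IH) (Lpn (LP (LK LD1_c21 LD2_c5 LD3_c42))))))))))))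
theorem f433515 : Led Lsl_at (LP (LK LD1_c9 LD2_c19 LD3_c20)) = (LP (LK LD1_c4 LD2_c42 LD3_c30)) :=
  Lre_a IH (LK LD1_c9 LD2_c19 LD3_c20) (LK LD1_c4 LD2_c42 LD3_c30) Lrfl Lrfl
theorem f433516 : Led Lsl_bf (LP (LK LD1_c9 LD2_c19 LD3_c20)) = (LP (LK LD1_c6 LD2_c24 LD3_c14)) :=
  Lgr Lrot81 (Lpr_at (f433515 IH) (Lpr_bt (f153456 IH) (Lpr_at (K11.f433511 IH) (Lpr_bt (K49.f154187 IH) (Lpr_at (K57.f433484 IH) (Lpn (LP (LK LD1_c6 LD2_c24 LD3_c14))))))))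
theorem f435241 : Led Lsl_bt (LP (LK LD1_c6 LD2_c9 LD3_c46)) = (LP (LK LD1_c12 LD2_c0 LD3_c33)) :=
  Lre_b IH (LK LD1_c6 LD2_c9 LD3_c46) (LK LD1_c12 LD2_c0 LD3_c33) Lrfl Lrfl
theorem f86418 : Led Lsl_ct (LP (LK LD1_c6 LD2_c9 LD3_c46)) = (LP (LK LD1_c12 LD2_c0 LD3_c34)) :=
  Lre_c IH (LK LD1_c6 LD2_c9 LD3_c46) (LK LD1_c12 LD2_c0 LD3_c34) Lrfl Lrfl
theorem f448606 : Led Lsl_gt (LP (LK LD1_c21 LD2_c5 LD3_c37)) = (LP (LK LD1_c12 LD2_c0 LD3_c34)) :=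
  Lgr Lrot65 (Lpr_cf (K60.f436031 IH) (Lpr_bt (K60.f433835 IH) (Lpr_gf (K60.f433830 IH) (Lpr_bf (f433516 IH) (Lpr_ct (K60.f433463 IH) (Lpr_gf (K57.f433461 IH) (Lpr_cf (f448602 IH) (Lpe (f435224 IH) (Lpe (f435241 IH) (Lpr_ct (f86418 IH) (Lpn (LP (LK LD1_c12 LD2_c0 LD3_c34)))))))))))))
theorem f84219 : Led Lsl_bt (LP (LK LD1_c3 LD2_c22 LD3_c20)) = (LP (LK LD1_c1 LD2_c37 LD3_c26)) :=
  Lre_b IH (LK LD1_c3 LD2_c22 LD3_c20) (LK LD1_c1 LD2_c37 LD3_c26) Lrfl Lrfl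
theorem f84221 : Led Lsl_ct (LP (LK LD1_c3 LD2_c22 LD3_c20)) = (LP (LK LD1_c6 LD2_c48 LD3_c17)) :=
  Lre_c IH (LK LD1_c3 LD2_c22 LD3_c20) (LK LD1_c6 LD2_c48 LD3_c17) Lrfl Lrfl
theorem f25829 : Led Lsl_bt (LP (LK LD1_c6 LD2_c28 LD3_c0)) = (LP (LK LD1_c3 LD2_c11 LD3_c54)) :=
  Lre_b IH (LK LD1_c6 LD2_c28 LD3_c0) (LK LD1_c3 LD2_c11 LD3_c54) Lrfl Lrfl
theorem f25830 : Led Lsl_ct (LP (LK LD1_c6 LD2_c28 LD3_c0)) = (LP (LK LD1_c12 LD2_c27 LD3_c21)) :=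
  Lre_c IH (LK LD1_c6 LD2_c28 LD3_c0) (LK LD1_c12 LD2_c27 LD3_c21) Lrfl Lrfl
theorem f135285 : Led Lsl_gf (LP (LK LD1_c6 LD2_c48 LD3_c17)) = (LP (LK LD1_c12 LD2_c27 LD3_c21)) :=
  Lgr Lrot126 (Lpe (f84221 IH) (Lpr_bt (f84219 IH) (Lpr_gt (K6.f135281 IH) (Lpr_ct (K6.f25818 IH) (Lpr_gt (K1.f25808 IH) (Lpe (K7.f24984 IH) (Lpr_bt (f25827 IH) (Lpr_gt (K57.f25828 IH) (Lpe (f25829 IH) (Lpr_ct (f25830 IH) (Lpn (LP (LK LD1_c12 LD2_c27 LD3_c21)))))))))))))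
theorem f25869 : Led Lsl_gt (LP (LK LD1_c12 LD2_c27 LD3_c19)) = (LP (LK LD1_c6 LD2_c28 LD3_c0)) :=
  Lre_g IH (LK LD1_c12 LD2_c27 LD3_c19) (LK LD1_c6 LD2_c28 LD3_c0) Lrfl Lrfl
theorem f783745 : Led Lsl_df (LP (LK LD1_c13 LD2_c0 LD3_c16)) = (LP (LK LD1_c12 LD2_c27 LD3_c19)) :=
  Lgr Lrot155 (Lpr_gt (K60.f783739 IH) (Lpe (K60.f765922 IH) (Lpr_gt (K60.f24763 IH) (Lpr_ct (K5.f24738 IH) (Lpr_dt (K5.f84204 IH) (Lpe (K5.f84227 IH) (Lpr_gf (f135285 IH) (Lpe (f25830 IH) (Lpe (f25869 IH) (Lpn (LP (LK LD1_c12 LD2_c27 LD3_c19))))))))))))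
theorem f86430 : Led Lsl_dt (LP (LK LD1_c12 LD2_c20 LD3_c11)) = (LP (LK LD1_c21 LD2_c26 LD3_c29)) :=
  Lre_d IH (LK LD1_c12 LD2_c20 LD3_c11) (LK LD1_c21 LD2_c26 LD3_c29) Lrfl Lrfl
theorem f783749 : Led Lsl_ft (LP (LK LD1_c21 LD2_c26 LD3_c29)) = (LP (LK LD1_c12 LD2_c27 LD3_c19)) :=
  Lgr Lrot54 (Lpe (f86430 IH) (Lpe (K60.f765910 IH) (Lpr_df (f783745 IH) (Lpn (LP (LK LD1_c12 LD2_c27 LD3_c19))))))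
theorem f783751 : Led Lsl_ff (LP (LK LD1_c21 LD2_c26 LD3_c29)) = (LP (LK LD1_c12 LD2_c27 LD3_c19)) :=
  Lgr Lrot3 (Lpr_ft (f783749 IH) (Lpn (LP (LK LD1_c12 LD2_c27 LD3_c19))))
def v18265 : LQ := Led Lsl_gt (LP (LK LD1_c6 LD2_c28 LD3_c0))
theorem f766012 : Led Lsl_gt (LP (LK LD1_c6 LD2_c28 LD3_c0)) = v18265 :=
  Lrfl
theorem f783753 : Led Lsl_at (LP (LK LD1_c21 LD2_c26 LD3_c29)) = v18265 :=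
  Lgr Lrot26 (Lpr_ff (f783751 IH) (Lpr_gt (f25869 IH) (Lpr_gt (f766012 IH) (Lpn v18265))))
theorem f431548 : Led Lsl_at (LP (LK LD1_c13 LD2_c0 LD3_c3)) = (LP (LK LD1_c22 LD2_c10 LD3_c4)) :=
  Lre_a IH (LK LD1_c13 LD2_c0 LD3_c3) (LK LD1_c22 LD2_c10 LD3_c4) Lrfl Lrfl
theorem f431539 : Led Lsl_bt (LP (LK LD1_c6 LD2_c48 LD3_c54)) = (LP (LK LD1_c13 LD2_c0 LD3_c3)) :=
  Lre_b IH (LK LD1_c6 LD2_c48 LD3_c54) (LK LD1_c13 LD2_c0 LD3_c3) Lrfl Lrfl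
def v19951 : LQ := Led Lsl_at (LP (LK LD1_c6 LD2_c48 LD3_c54))
theorem f783297 : Led Lsl_at (LP (LK LD1_c6 LD2_c48 LD3_c54)) = v19951 :=
  Lrfl
theorem f783298 : Led Lsl_af (LP (LK LD1_c6 LD2_c48 LD3_c54)) = v19951 :=
  Lgr Lrot0 (Lpr_at (f783297 IH) (Lpn v19951))
def v17929 : LQ := Led Lsl_at (LP (LK LD1_c6 LD2_c23 LD3_c59))
theorem f762832 : Led Lsl_at (LP (LK LD1_c6 LD2_c23 LD3_c59)) = v17929 :=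
  Lrfl
theorem f762834 : Led Lsl_df K60.v17190 = v17929 :=
  Lgr Lrot18 (Lpe (K60.f756570 IH) (Lpe (K60.f431094 IH) (Lpr_at (f762832 IH) (Lpn v17929))))
theorem f762836 : Led Lsl_ft (LP (LK LD1_c6 LD2_c23 LD3_c60)) = v17929 :=
  Lgr Lrot54 (Lpe (K60.f436050 IH) (Lpr_ff (K60.f756572 IH) (Lpr_df (f762834 IH) (Lpn v17929))))
theorem f762837 : Led Lsl_ff (LP (LK LD1_c6 LD2_c23 LD3_c60)) = v17929 :=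
  Lgr Lrot3 (Lpr_ft (f762836 IH) (Lpn v17929))
theorem f783299 : Led Lsl_df K60.v6480 = v19951 :=
  Lgr Lrot18 (Lpe (K60.f653572 IH) (Lpr_dt (K49.f57764 IH) (Lpr_at (f783297 IH) (Lpn v19951))))
theorem f783301 : Led Lsl_ft (LP (LK LD1_c6 LD2_c48 LD3_c58)) = v19951 :=
  Lgr Lrot54 (Lpe (K60.f86480 IH) (Lpr_ff (K60.f653575 IH) (Lpr_df (f783299 IH) (Lpn v19951))))
theorem f762835 : Led Lsl_dt K60.v17190 = v17929 :=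
  Lgr Lrot42 (Lpr_df (f762834 IH) (Lpn v17929))
theorem f783367 : v17929 = (LP (LK LD1_c6 LD2_c48 LD3_c58)) :=
  Lefun (Lecon (f762835 IH) (K60.f783355 IH).symm) (K60.f86480 IH)
theorem f783378 : (LP (LK LD1_c6 LD2_c23 LD3_c60)) = v19951 :=
  Lefun (Lecon (Lfl_ff (f762837 IH)) (f783367 IH)) (f783301 IH)
theorem f783756 : (LP (LK LD1_c12 LD2_c21 LD3_c11)) = v18265 :=
  (Llr Lrot81 (Lpr_bt (K60.f433835 IH) (Lpqs (f783378 IH) (Lpe (f783298 IH) (Lpr_bt (f431539 IH) (Lpr_at (f431548 IH) (Lpr_bt (K60.f783331 IH) (Lpr_at (f783753 IH) (Lpn v18265))))))))).symm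
def v18266 : LQ := Led Lsl_dt (LP (LK LD1_c6 LD2_c28 LD3_c0))
theorem f766015 : Led Lsl_dt (LP (LK LD1_c6 LD2_c28 LD3_c0)) = v18266 :=
  Lrfl
theorem f766017 : Led Lsl_df (LP (LK LD1_c6 LD2_c28 LD3_c0)) = v18266 :=
  Lgr Lrot38 (Lpr_dt (f766015 IH) (Lpn v18266))
theorem f783771 : Led Lsl_gf (LP (LK LD1_c13 LD2_c37 LD3_c50)) = v18266 :=
  Lgr Lrot147 (Lpe (K57.f434888 IH) (Lpr_gt (f448590 IH) (Lpr_ct (f84554 IH) (Lpe (K60.f435231 IH) (Lpe (K6.f86419 IH) (Lpe (f448606 IH) (Lpr_cf (K60.f436031 IH) (Lpqs (f783756 IH) (Lpe (f766012 IH) (Lpr_df (f766017 IH) (Lpn v18266)))))))))))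
theorem f766021 : Led Lsl_bt v5674 = v18266 :=
  Lgr Lrot95 (Lpe (f648789 IH) (Lpe (f25829 IH) (Lpr_df (f766017 IH) (Lpn v18266))))
theorem f135476 : Led Lsl_bt (LP (LK LD1_c4 LD2_c43 LD3_c40)) = (LP (LK LD1_c9 LD2_c20 LD3_c32)) :=
  Lre_b IH (LK LD1_c4 LD2_c43 LD3_c40) (LK LD1_c9 LD2_c20 LD3_c32) Lrfl Lrfl
theorem f906901 : v18266 = (LP (LK LD1_c9 LD2_c20 LD3_c32)) :=
  Lefun (Lecon (f766021 IH) (f906900 IH)) (f135476 IH)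
def v39182 : LQ := Led Lsl_ft (LP (LK LD1_c9 LD2_c20 LD3_c32))
theorem f906862 : Led Lsl_ft (LP (LK LD1_c9 LD2_c20 LD3_c32)) = v39182 :=
  Lrfl
theorem f434108 : Led Lsl_gt (LP (LK LD1_c13 LD2_c37 LD3_c50)) = (LP (LK LD1_c23 LD2_c2 LD3_c44)) :=
  Lre_g IH (LK LD1_c13 LD2_c37 LD3_c50) (LK LD1_c23 LD2_c2 LD3_c44) Lrfl Lrfl
theorem f906932 : Led Lsl_at v39182 = (LP (LK LD1_c23 LD2_c2 LD3_c44)) :=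
  Lgr Lrot26 (Lpe (f906862 IH) (Lpq (f906901 IH) (Lpe (f783771 IH) (Lpr_gt (f434108 IH) (Lpn (LP (LK LD1_c23 LD2_c2 LD3_c44)))))))
theorem f906864 : Led Lsl_ff (LP (LK LD1_c9 LD2_c20 LD3_c32)) = v39182 :=
  Lgr Lrot3 (Lpr_ft (f906862 IH) (Lpn v39182))
theorem f61264 : Led Lsl_bt (LP (LK LD1_c9 LD2_c20 LD3_c32)) = (LP (LK LD1_c4 LD2_c43 LD3_c40)) :=
  Lre_b IH (LK LD1_c9 LD2_c20 LD3_c32) (LK LD1_c4 LD2_c43 LD3_c40) Lrfl Lrfl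
def v13395 : LQ := Led Lsl_ft (LP (LK LD1_c4 LD2_c43 LD3_c40))
theorem f702721 : Led Lsl_ft (LP (LK LD1_c4 LD2_c43 LD3_c40)) = v13395 :=
  Lrfl
theorem f906865 : Led Lsl_bt v13395 = v39182 :=
  Lgr Lrot35 (Lpe (f702721 IH) (Lpe (f61264 IH) (Lpr_ff (f906864 IH) (Lpn v39182))))
theorem f702724 : Led Lsl_ff (LP (LK LD1_c4 LD2_c43 LD3_c40)) = v13395 :=
  Lgr Lrot3 (Lpr_ft (f702721 IH) (Lpn v13395))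
def v13392 : LQ := Led Lsl_at (LP (LK LD1_c4 LD2_c43 LD3_c40))
theorem f702710 : Led Lsl_at (LP (LK LD1_c4 LD2_c43 LD3_c40)) = v13392 :=
  Lrfl
theorem f702711 : Led Lsl_af (LP (LK LD1_c4 LD2_c43 LD3_c40)) = v13392 :=
  Lgr Lrot0 (Lpr_at (f702710 IH) (Lpn v13392))
theorem f702713 : Led Lsl_ft (LP (LK LD1_c4 LD2_c43 LD3_c41)) = v13392 :=
  Lgr Lrot2 (Lpr_gt (f152200 IH) (Lpr_gt (f61263 IH) (Lpr_af (f702711 IH) (Lpn v13392))))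
theorem f702714 : Led Lsl_ff (LP (LK LD1_c4 LD2_c43 LD3_c41)) = v13392 :=
  Lgr Lrot3 (Lpr_ft (f702713 IH) (Lpn v13392))
theorem f702725 : Led Lsl_at (LP (LK LD1_c4 LD2_c43 LD3_c41)) = v13395 :=
  Lgr Lrot66 (Lpr_ff (f702714 IH) (Lpe (f702710 IH) (Lpr_ff (f702724 IH) (Lpn v13395))))
theorem f702727 : Led Lsl_at (LP (LK LD1_c17 LD2_c16 LD3_c29)) = (LP (LK LD1_c9 LD2_c20 LD3_c34)) :=
  Lre_a IH (LK LD1_c17 LD2_c16 LD3_c29) (LK LD1_c9 LD2_c20 LD3_c34) Lrfl Lrfl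
theorem f906934 : Led Lsl_bf (LP (LK LD1_c17 LD2_c16 LD3_c29)) = (LP (LK LD1_c23 LD2_c2 LD3_c44)) :=
  Lgr Lrot81 (Lpr_at (f702727 IH) (Lpr_bt (f152201 IH) (Lpr_at (f702725 IH) (Lpr_bt (f906865 IH) (Lpr_at (f906932 IH) (Lpn (LP (LK LD1_c23 LD2_c2 LD3_c44))))))))
theorem f906935 : Led Lsl_bt (LP (LK LD1_c23 LD2_c2 LD3_c44)) = (LP (LK LD1_c17 LD2_c16 LD3_c29)) :=
  Leop (Lpr_bf (f906934 IH) (Lpn (LP (LK LD1_c23 LD2_c2 LD3_c44))))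
theorem seed_2288 : LEOK LG_b (LK LD1_c23 LD2_c2 LD3_c44) :=
  Leoe_b (LK LD1_c23 LD2_c2 LD3_c44) (f906935 IH)
def v18270 : LQ := Led Lsl_ft (LP (LK LD1_c6 LD2_c28 LD3_c1))
theorem f766046 : Led Lsl_ft (LP (LK LD1_c6 LD2_c28 LD3_c1)) = v18270 :=
  Lrfl
theorem f766049 : Led Lsl_ff (LP (LK LD1_c6 LD2_c28 LD3_c1)) = v18270 :=
  Lgr Lrot3 (Lpr_ft (f766046 IH) (Lpn v18270))
theorem f435273 : Led Lsl_ct (LP (LK LD1_c6 LD2_c28 LD3_c1)) = (LP (LK LD1_c3 LD2_c11 LD3_c54)) :=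
  Lre_c IH (LK LD1_c6 LD2_c28 LD3_c1) (LK LD1_c3 LD2_c11 LD3_c54) Lrfl Lrfl
def v5675 : LQ := Led Lsl_ft (LP (LK LD1_c3 LD2_c11 LD3_c54))
theorem f648793 : Led Lsl_ft (LP (LK LD1_c3 LD2_c11 LD3_c54)) = v5675 :=
  Lrfl
theorem f766051 : Led Lsl_ct v5675 = v18270 :=
  Lgr Lrot40 (Lpe (f648793 IH) (Lpe (f435273 IH) (Lpr_ff (f766049 IH) (Lpn v18270))))
theorem f153872 : Led Lsl_ct (LP (LK LD1_c6 LD2_c23 LD3_c37)) = (LP (LK LD1_c12 LD2_c20 LD3_c38)) :=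
  Lre_c IH (LK LD1_c6 LD2_c23 LD3_c37) (LK LD1_c12 LD2_c20 LD3_c38) Lrfl Lrfl
def v18267 : LQ := Led Lsl_ft (LP (LK LD1_c6 LD2_c28 LD3_c0))
theorem f766022 : Led Lsl_ft (LP (LK LD1_c6 LD2_c28 LD3_c0)) = v18267 :=
  Lrfl
theorem f25868 : Led Lsl_bt (LP (LK LD1_c3 LD2_c11 LD3_c54)) = (LP (LK LD1_c6 LD2_c28 LD3_c0)) :=
  Lre_b IH (LK LD1_c3 LD2_c11 LD3_c54) (LK LD1_c6 LD2_c28 LD3_c0) Lrfl Lrfl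
theorem f648795 : Led Lsl_ff (LP (LK LD1_c3 LD2_c11 LD3_c54)) = v5675 :=
  Lgr Lrot3 (Lpr_ft (f648793 IH) (Lpn v5675))
theorem f766023 : Led Lsl_bf v5675 = v18267 :=
  Lgr Lrot61 (Lpe (f648795 IH) (Lpr_bt (f25868 IH) (Lpr_ft (f766022 IH) (Lpn v18267))))
theorem f84085 : Led Lsl_gt (LP (LK LD1_c22 LD2_c10 LD3_c6)) = (LP (LK LD1_c13 LD2_c0 LD3_c3)) :=
  Lre_g IH (LK LD1_c22 LD2_c10 LD3_c6) (LK LD1_c13 LD2_c0 LD3_c3) Lrfl Lrfl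
theorem f67329 : Led Lsl_gt (LP (LK LD1_c6 LD2_c28 LD3_c3)) = (LP (LK LD1_c12 LD2_c27 LD3_c28)) :=
  Lre_g IH (LK LD1_c6 LD2_c28 LD3_c3) (LK LD1_c12 LD2_c27 LD3_c28) Lrfl Lrfl
theorem f647413 : Led Lsl_bt (LP (LK LD1_c6 LD2_c26 LD3_c21)) = (LP (LK LD1_c3 LD2_c11 LD3_c3)) :=
  Lre_b IH (LK LD1_c6 LD2_c26 LD3_c21) (LK LD1_c3 LD2_c11 LD3_c3) Lrfl Lrfl
theorem f647414 : Led Lsl_ct (LP (LK LD1_c12 LD2_c24 LD3_c39)) = (LP (LK LD1_c6 LD2_c26 LD3_c21)) :=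
  Lre_c IH (LK LD1_c12 LD2_c24 LD3_c39) (LK LD1_c6 LD2_c26 LD3_c21) Lrfl Lrfl
theorem f647400 : Led Lsl_bf (LP (LK LD1_c6 LD2_c9 LD3_c57)) = K46.v5403 :=
  Lgr Lrot93 (Lpr_dt (K58.f61759 IH) (Lpe (K7.f155459 IH) (Lpr_dt (K46.f647398 IH) (Lpn K46.v5403))))
theorem f647415 : Led Lsl_bf (LP (LK LD1_c12 LD2_c24 LD3_c39)) = (LP (LK LD1_c12 LD2_c0 LD3_c45)) :=
  Lgr Lrot90 (Lpr_ct (f647414 IH) (Lpr_bt (f647413 IH) (Lpr_ct (K46.f647404 IH) (Lpe (f647400 IH) (Lpr_ct (K7.f155462 IH) (Lpn (LP (LK LD1_c12 LD2_c0 LD3_c45))))))))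
theorem f135345 : Led Lsl_bt (LP (LK LD1_c6 LD2_c22 LD3_c37)) = (LP (LK LD1_c3 LD2_c8 LD3_c61)) :=
  Lre_b IH (LK LD1_c6 LD2_c22 LD3_c37) (LK LD1_c3 LD2_c8 LD3_c61) Lrfl Lrfl
theorem f25853 : Led Lsl_ct (LP (LK LD1_c12 LD2_c18 LD3_c52)) = (LP (LK LD1_c6 LD2_c22 LD3_c40)) :=
  Lre_c IH (LK LD1_c12 LD2_c18 LD3_c52) (LK LD1_c6 LD2_c22 LD3_c40) Lrfl Lrfl
theorem f25883 : Led Lsl_bt (LP (LK LD1_c12 LD2_c18 LD3_c52)) = (LP (LK LD1_c21 LD2_c24 LD3_c51)) :=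
  Lre_b IH (LK LD1_c12 LD2_c18 LD3_c52) (LK LD1_c21 LD2_c24 LD3_c51) Lrfl Lrfl
theorem f647476 : Led Lsl_gt (LP (LK LD1_c12 LD2_c24 LD3_c39)) = (LP (LK LD1_c21 LD2_c24 LD3_c51)) :=
  Lgr Lrot164 (Lpr_bf (f647415 IH) (Lpr_ct (K49.f155465 IH) (Lpr_gf (K7.f155482 IH) (Lpe (K7.f155418 IH) (Lpe (K7.f135346 IH) (Lpe (f135345 IH) (Lpr_ct (K49.f84522 IH) (Lpe (K57.f25835 IH) (Lpe (f25853 IH) (Lpr_bt (f25883 IH) (Lpn (LP (LK LD1_c21 LD2_c24 LD3_c51)))))))))))))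
theorem f647418 : Led Lsl_ct (LP (LK LD1_c6 LD2_c26 LD3_c21)) = (LP (LK LD1_c12 LD2_c24 LD3_c39)) :=
  Lre_c IH (LK LD1_c6 LD2_c26 LD3_c21) (LK LD1_c12 LD2_c24 LD3_c39) Lrfl Lrfl
theorem f153831 : Led Lsl_ct (LP (LK LD1_c3 LD2_c11 LD3_c4)) = (LP (LK LD1_c1 LD2_c32 LD3_c19)) :=
  Lre_c IH (LK LD1_c3 LD2_c11 LD3_c4) (LK LD1_c1 LD2_c32 LD3_c19) Lrfl Lrfl
theorem f153914 : Led Lsl_ct (LP (LK LD1_c6 LD2_c28 LD3_c4)) = (LP (LK LD1_c3 LD2_c11 LD3_c55)) :=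
  Lre_c IH (LK LD1_c6 LD2_c28 LD3_c4) (LK LD1_c3 LD2_c11 LD3_c55) Lrfl Lrfl
theorem f25836 : Led Lsl_bt (LP (LK LD1_c12 LD2_c18 LD3_c51)) = (LP (LK LD1_c6 LD2_c22 LD3_c40)) :=
  Lre_b IH (LK LD1_c12 LD2_c18 LD3_c51) (LK LD1_c6 LD2_c22 LD3_c40) Lrfl Lrfl
theorem f25838 : Led Lsl_gt (LP (LK LD1_c6 LD2_c28 LD3_c1)) = (LP (LK LD1_c12 LD2_c27 LD3_c23)) :=
  Lre_g IH (LK LD1_c6 LD2_c28 LD3_c1) (LK LD1_c12 LD2_c27 LD3_c23) Lrfl Lrfl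
theorem f25839 : Led Lsl_ct (LP (LK LD1_c12 LD2_c18 LD3_c51)) = (LP (LK LD1_c12 LD2_c27 LD3_c23)) :=
  Lgr Lrot63 (Lpr_bt (f25836 IH) (Lpr_gt (K57.f25835 IH) (Lpe (K49.f25834 IH) (Lpr_ct (K6.f25818 IH) (Lpr_gt (K1.f25808 IH) (Lpe (K7.f24984 IH) (Lpr_bt (f25827 IH) (Lpr_gt (K57.f25828 IH) (Lpr_ct (K57.f25837 IH) (Lpr_gt (f25838 IH) (Lpn (LP (LK LD1_c12 LD2_c27 LD3_c23)))))))))))))
theorem f25852 : Led Lsl_bt (LP (LK LD1_c6 LD2_c22 LD3_c40)) = (LP (LK LD1_c12 LD2_c18 LD3_c51)) :=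
  Lre_b IH (LK LD1_c6 LD2_c22 LD3_c40) (LK LD1_c12 LD2_c18 LD3_c51) Lrfl Lrfl
theorem f25854 : Led Lsl_bt (LP (LK LD1_c21 LD2_c24 LD3_c51)) = (LP (LK LD1_c12 LD2_c18 LD3_c52)) :=
  Lre_b IH (LK LD1_c21 LD2_c24 LD3_c51) (LK LD1_c12 LD2_c18 LD3_c52) Lrfl Lrfl
theorem f25855 : Led Lsl_bt (LP (LK LD1_c12 LD2_c27 LD3_c23)) = (LP (LK LD1_c21 LD2_c34 LD3_c50)) :=
  Lre_b IH (LK LD1_c12 LD2_c27 LD3_c23) (LK LD1_c21 LD2_c34 LD3_c50) Lrfl Lrfl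
theorem f25856 : Led Lsl_cf (LP (LK LD1_c21 LD2_c24 LD3_c51)) = (LP (LK LD1_c21 LD2_c34 LD3_c50)) :=
  Lgr Lrot97 (Lpr_bt (f25854 IH) (Lpr_ct (f25853 IH) (Lpr_bt (f25852 IH) (Lpr_ct (f25839 IH) (Lpr_bt (f25855 IH) (Lpn (LP (LK LD1_c21 LD2_c34 LD3_c50))))))))
theorem f25884 : Led Lsl_bt (LP (LK LD1_c21 LD2_c34 LD3_c50)) = (LP (LK LD1_c12 LD2_c27 LD3_c23)) :=
  Lre_b IH (LK LD1_c21 LD2_c34 LD3_c50) (LK LD1_c12 LD2_c27 LD3_c23) Lrfl Lrfl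
theorem f647478 : Led Lsl_gf (LP (LK LD1_c6 LD2_c28 LD3_c4)) = (LP (LK LD1_c12 LD2_c27 LD3_c23)) :=
  Lgr Lrot181 (Lpr_ct (f153914 IH) (Lpr_gt (K57.f67163 IH) (Lpe (f153831 IH) (Lpr_bt (K16.f153821 IH) (Lpr_gt (K46.f25833 IH) (Lpe (f647413 IH) (Lpr_ct (f647418 IH) (Lpr_gt (f647476 IH) (Lpr_cf (f25856 IH) (Lpr_bt (f25884 IH) (Lpn (LP (LK LD1_c12 LD2_c27 LD3_c23)))))))))))))
theorem f434592 : Led Lsl_at (LP (LK LD1_c6 LD2_c22 LD3_c53)) = (LP (LK LD1_c12 LD2_c19 LD3_c14)) :=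
  Lre_a IH (LK LD1_c6 LD2_c22 LD3_c53) (LK LD1_c12 LD2_c19 LD3_c14) Lrfl Lrfl
theorem f447029 : Led Lsl_ff (LP (LK LD1_c6 LD2_c22 LD3_c53)) = (LP (LK LD1_c7 LD2_c11 LD3_c22)) :=
  Lgr Lrot30 (Lpr_at (f434592 IH) (Lpr_ft (K49.f447025 IH) (Lpr_at (K49.f430312 IH) (Lpn (LP (LK LD1_c7 LD2_c11 LD3_c22))))))
theorem f430179 : Led Lsl_gt (LP (LK LD1_c7 LD2_c11 LD3_c22)) = (LP (LK LD1_c13 LD2_c37 LD3_c13)) :=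
  Lre_g IH (LK LD1_c7 LD2_c11 LD3_c22) (LK LD1_c13 LD2_c37 LD3_c13) Lrfl Lrfl
theorem f447575 : Led Lsl_gf (LP (LK LD1_c12 LD2_c19 LD3_c14)) = (LP (LK LD1_c13 LD2_c37 LD3_c13)) :=
  Lgr Lrot76 (Lpe (f434592 IH) (Lpr_ff (f447029 IH) (Lpr_gt (f430179 IH) (Lpn (LP (LK LD1_c13 LD2_c37 LD3_c13))))))
theorem f647481 : Led Lsl_ct (LP (LK LD1_c12 LD2_c27 LD3_c28)) = (LP (LK LD1_c13 LD2_c37 LD3_c13)) :=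
  Lgr Lrot91 (Lpe (f67329 IH) (Lpe (f647480 IH) (Lpr_ct (K57.f153911 IH) (Lpr_gf (f647478 IH) (Lpe (f25839 IH) (Lpr_bt (f25836 IH) (Lpe (K57.f447566 IH) (Lpr_bf (K49.f447086 IH) (Lpr_ct (K49.f434588 IH) (Lpr_gf (f447575 IH) (Lpn (LP (LK LD1_c13 LD2_c37 LD3_c13)))))))))))))
theorem f434577 : Led Lsl_ct (LP (LK LD1_c12 LD2_c19 LD3_c14)) = (LP (LK LD1_c6 LD2_c22 LD3_c61)) :=
  Lre_c IH (LK LD1_c12 LD2_c19 LD3_c14) (LK LD1_c6 LD2_c22 LD3_c61) Lrfl Lrfl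
theorem f434582 : Led Lsl_at (LP (LK LD1_c9 LD2_c18 LD3_c57)) = (LP (LK LD1_c17 LD2_c14 LD3_c16)) :=
  Lre_a IH (LK LD1_c9 LD2_c18 LD3_c57) (LK LD1_c17 LD2_c14 LD3_c16) Lrfl Lrfl
theorem f447072 : Led Lsl_ff (LP (LK LD1_c9 LD2_c18 LD3_c57)) = (LP (LK LD1_c6 LD2_c22 LD3_c37)) :=
  Lgr Lrot30 (Lpr_at (f434582 IH) (Lpr_ft (K49.f447069 IH) (Lpr_at (K49.f135342 IH) (Lpn (LP (LK LD1_c6 LD2_c22 LD3_c37))))))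
theorem f25867 : Led Lsl_gt (LP (LK LD1_c6 LD2_c22 LD3_c37)) = (LP (LK LD1_c12 LD2_c18 LD3_c42)) :=
  Lre_g IH (LK LD1_c6 LD2_c22 LD3_c37) (LK LD1_c12 LD2_c18 LD3_c42) Lrfl Lrfl
theorem f447561 : Led Lsl_gf (LP (LK LD1_c17 LD2_c14 LD3_c16)) = (LP (LK LD1_c12 LD2_c18 LD3_c42)) :=
  Lgr Lrot76 (Lpe (f434582 IH) (Lpr_ff (f447072 IH) (Lpr_gt (f25867 IH) (Lpn (LP (LK LD1_c12 LD2_c18 LD3_c42))))))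
theorem f702731 : Led Lsl_gt (LP (LK LD1_c9 LD2_c20 LD3_c34)) = (LP (LK LD1_c17 LD2_c16 LD3_c28)) :=
  Lre_g IH (LK LD1_c9 LD2_c20 LD3_c34) (LK LD1_c17 LD2_c16 LD3_c28) Lrfl Lrfl
theorem f906988 : Led Lsl_cf (LP (LK LD1_c12 LD2_c18 LD3_c42)) = (LP (LK LD1_c17 LD2_c16 LD3_c28)) :=
  Lgr Lrot188 (Lpe (f447561 IH) (Lpr_ct (K49.f434584 IH) (Lpr_dt (K49.f434556 IH) (Lpe (f434577 IH) (Lpr_gf (f447575 IH) (Lpe (f647481 IH) (Lpe (f67329 IH) (Lpr_dt (f766064 IH) (Lpqs (f906884 IH) (Lpr_gt (f702731 IH) (Lpn (LP (LK LD1_c17 LD2_c16 LD3_c28)))))))))))))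
def v39028 : LQ := Led Lsl_gf (LP (LK LD1_c9 LD2_c18 LD3_c57))
theorem f906036 : Led Lsl_gf (LP (LK LD1_c9 LD2_c18 LD3_c57)) = v39028 :=
  Lrfl
theorem f431116 : Led Lsl_bt (LP (LK LD1_c12 LD2_c21 LD3_c8)) = (LP (LK LD1_c6 LD2_c23 LD3_c59)) :=
  Lre_b IH (LK LD1_c12 LD2_c21 LD3_c8) (LK LD1_c6 LD2_c23 LD3_c59) Lrfl Lrfl
theorem f906039 : Led Lsl_ct (LP (LK LD1_c12 LD2_c21 LD3_c8)) = v39028 :=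
  Lgr Lrot64 (Lpr_bt (f431116 IH) (Lpe (K60.f152312 IH) (Lpe (K60.f152311 IH) (Lpr_ct (K7.f25799 IH) (Lpe (K7.f152790 IH) (Lpe (K7.f121406 IH) (Lpe (K7.f152195 IH) (Lpe (K49.f152245 IH) (Lpr_ct (K60.f152248 IH) (Lpr_gf (f906036 IH) (Lpn v39028)))))))))))
theorem f906040 : Led Lsl_cf (LP (LK LD1_c12 LD2_c21 LD3_c8)) = v39028 :=
  Lgr Lrot11 (Lpr_ct (f906039 IH) (Lpn v39028))
def v19952 : LQ := Led Lsl_ft (LP (LK LD1_c6 LD2_c48 LD3_c54))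
theorem f783303 : Led Lsl_ft (LP (LK LD1_c6 LD2_c48 LD3_c54)) = v19952 :=
  Lrfl
theorem f783307 : Led Lsl_ff (LP (LK LD1_c6 LD2_c48 LD3_c54)) = v19952 :=
  Lgr Lrot3 (Lpr_ft (f783303 IH) (Lpn v19952))
theorem f783309 : Led Lsl_dt K60.v6481 = v19952 :=
  Lgr Lrot60 (Lpe (K60.f653577 IH) (Lpe (f57776 IH) (Lpr_ff (f783307 IH) (Lpn v19952))))
theorem f783363 : v19952 = (LP (LK LD1_c6 LD2_c23 LD3_c59)) :=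
  Lefun (Lecon (f783309 IH) (K60.f783354 IH)) (Lfl_df (K60.f431094 IH))
theorem f783826 : Led Lsl_ff (LP (LK LD1_c12 LD2_c21 LD3_c8)) = (LP (LK LD1_c13 LD2_c0 LD3_c3)) :=
  Lgr Lrot25 (Lpr_bt (f431116 IH) (Lpq (f783363 IH) (Lpe (f783307 IH) (Lpr_bt (f431539 IH) (Lpn (LP (LK LD1_c13 LD2_c0 LD3_c3)))))))
theorem f783828 : Led Lsl_ft (LP (LK LD1_c12 LD2_c21 LD3_c8)) = (LP (LK LD1_c13 LD2_c0 LD3_c3)) :=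
  Lgr Lrot48 (Lpr_ff (f783826 IH) (Lpn (LP (LK LD1_c13 LD2_c0 LD3_c3))))
theorem f906041 : Led Lsl_ft (LP (LK LD1_c12 LD2_c18 LD3_c43)) = v39028 :=
  Lgr Lrot4 (Lpr_cf (K49.f431531 IH) (Lpe (f783828 IH) (Lpr_cf (f906040 IH) (Lpn v39028))))
theorem f783338 : Led Lsl_af (LP (LK LD1_c12 LD2_c18 LD3_c43)) = (LP (LK LD1_c17 LD2_c14 LD3_c15)) :=
  Lgr Lrot68 (Lpr_ct (K49.f431543 IH) (Lpr_at (f431548 IH) (Lpr_ct (K60.f783336 IH) (Lpn (LP (LK LD1_c17 LD2_c14 LD3_c15))))))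
theorem f783940 : Led Lsl_ft (LP (LK LD1_c12 LD2_c18 LD3_c42)) = (LP (LK LD1_c17 LD2_c14 LD3_c15)) :=
  Lgr Lrot2 (Lpe (f447561 IH) (Lpr_gt (K49.f447080 IH) (Lpr_af (f783338 IH) (Lpn (LP (LK LD1_c17 LD2_c14 LD3_c15))))))
theorem f906042 : Led Lsl_af (LP (LK LD1_c12 LD2_c18 LD3_c42)) = v39028 :=
  Lgr Lrot45 (Lpr_ft (f783940 IH) (Lpe (f783338 IH) (Lpr_ft (f906041 IH) (Lpn v39028))))
theorem f906043 : Led Lsl_at (LP (LK LD1_c12 LD2_c18 LD3_c42)) = v39028 :=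
  Lgr Lrot100 (Lpr_af (f906042 IH) (Lpn v39028))
theorem f906990 : Led Lsl_at (LP (LK LD1_c12 LD2_c21 LD3_c8)) = (LP (LK LD1_c17 LD2_c16 LD3_c28)) :=
  Lgr Lrot107 (Lpr_cf (f906040 IH) (Lpe (f906043 IH) (Lpr_cf (f906988 IH) (Lpn (LP (LK LD1_c17 LD2_c16 LD3_c28))))))
def v39188 : LQ := Led Lsl_gf (LP (LK LD1_c9 LD2_c20 LD3_c34))
theorem f906878 : Led Lsl_gf (LP (LK LD1_c9 LD2_c20 LD3_c34)) = v39188 :=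
  Lrfl
theorem f907010 : (LP (LK LD1_c13 LD2_c0 LD3_c3)) = v39188 :=
  (Llr Lrot52 (Lpe (f783826 IH) (Lpr_at (f906990 IH) (Lpe (f702731 IH) (Lpr_gf (f906878 IH) (Lpn v39188)))))).symm
theorem f907012 : Led Lsl_ft (LP (LK LD1_c22 LD2_c10 LD3_c6)) = (LP (LK LD1_c17 LD2_c16 LD3_c29)) :=
  Lgr Lrot2 (Lpr_gt (f84085 IH) (Lpqs (f907010 IH) (Lpe (f906878 IH) (Lpe (f702727 IH) (Lpn (LP (LK LD1_c17 LD2_c16 LD3_c29)))))))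
theorem f906942 : Led Lsl_bt (LP (LK LD1_c17 LD2_c16 LD3_c29)) = (LP (LK LD1_c23 LD2_c2 LD3_c44)) :=
  Lgr Lrot127 (Lpr_bf (f906934 IH) (Lpn (LP (LK LD1_c23 LD2_c2 LD3_c44))))
theorem f135475 : Led Lsl_at (LP (LK LD1_c17 LD2_c16 LD3_c26)) = (LP (LK LD1_c9 LD2_c20 LD3_c32)) :=
  Lre_a IH (LK LD1_c17 LD2_c16 LD3_c26) (LK LD1_c9 LD2_c20 LD3_c32) Lrfl Lrfl
theorem f906936 : Led Lsl_ff (LP (LK LD1_c17 LD2_c16 LD3_c26)) = (LP (LK LD1_c23 LD2_c2 LD3_c44)) :=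
  Lgr Lrot30 (Lpr_at (f135475 IH) (Lpr_ft (f906862 IH) (Lpr_at (f906932 IH) (Lpn (LP (LK LD1_c23 LD2_c2 LD3_c44))))))
theorem f907014 : Led Lsl_bf (LP (LK LD1_c22 LD2_c10 LD3_c6)) = (LP (LK LD1_c17 LD2_c16 LD3_c26)) :=
  Lgr Lrot61 (Lpr_ft (f907012 IH) (Lpr_bt (f906942 IH) (Lpe (f906936 IH) (Lpn (LP (LK LD1_c17 LD2_c16 LD3_c26))))))
theorem f84414 : Led Lsl_ct (LP (LK LD1_c3 LD2_c22 LD3_c16)) = (LP (LK LD1_c6 LD2_c48 LD3_c8)) :=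
  Lre_c IH (LK LD1_c3 LD2_c22 LD3_c16) (LK LD1_c6 LD2_c48 LD3_c8) Lrfl Lrfl
theorem f84401 : Led Lsl_gt (LP (LK LD1_c6 LD2_c48 LD3_c8)) = (LP (LK LD1_c12 LD2_c58 LD3_c57)) :=
  Lre_g IH (LK LD1_c6 LD2_c48 LD3_c8) (LK LD1_c12 LD2_c58 LD3_c57) Lrfl Lrfl
theorem f907020 : Led Lsl_cf (LP (LK LD1_c12 LD2_c58 LD3_c57)) = (LP (LK LD1_c17 LD2_c16 LD3_c26)) :=
  Lgr Lrot58 (Lpe (f84401 IH) (Lpe (f84414 IH) (Lpr_bt (K6.f84348 IH) (Lpe (K6.f84519 IH) (Lpe (K49.f84521 IH) (Lpr_ct (K49.f25866 IH) (Lpe (K49.f84525 IH) (Lpr_cf (K49.f431531 IH) (Lpe (f84085 IH) (Lpr_bf (f907014 IH) (Lpn (LP (LK LD1_c17 LD2_c16 LD3_c26)))))))))))))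
theorem f432189 : Led Lsl_af (LP (LK LD1_c6 LD2_c31 LD3_c0)) = (LP (LK LD1_c3 LD2_c22 LD3_c15)) :=
  Lgr Lrot0 (Lpr_at (K49.f432171 IH) (Lpn (LP (LK LD1_c3 LD2_c22 LD3_c15))))
theorem f144244 : Led Lsl_bt (LP (LK LD1_c12 LD2_c30 LD3_c39)) = (LP (LK LD1_c6 LD2_c31 LD3_c0)) :=
  Lre_b IH (LK LD1_c12 LD2_c30 LD3_c39) (LK LD1_c6 LD2_c31 LD3_c0) Lrfl Lrfl
theorem f126887 : Led Lsl_bt (LP (LK LD1_c7 LD2_c26 LD3_c13)) = (LP (LK LD1_c14 LD2_c3 LD3_c29)) :=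
  Lre_b IH (LK LD1_c7 LD2_c26 LD3_c13) (LK LD1_c14 LD2_c3 LD3_c29) Lrfl Lrfl
theorem f432159 : Led Lsl_ft (LP (LK LD1_c6 LD2_c31 LD3_c0)) = (LP (LK LD1_c7 LD2_c26 LD3_c13)) :=
  Lgr Lrot75 (Lpe (f144244 IH) (Lpr_ff (K49.f432154 IH) (Lpe (f126887 IH) (Lpn (LP (LK LD1_c7 LD2_c26 LD3_c13))))))
theorem f84453 : Led Lsl_ct (LP (LK LD1_c3 LD2_c22 LD3_c15)) = (LP (LK LD1_c1 LD2_c37 LD3_c23)) :=
  Lre_c IH (LK LD1_c3 LD2_c22 LD3_c15) (LK LD1_c1 LD2_c37 LD3_c23) Lrfl Lrfl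
theorem f430481 : Led Lsl_ff (LP (LK LD1_c3 LD2_c22 LD3_c15)) = (LP (LK LD1_c3 LD2_c56 LD3_c45)) :=
  Lgr Lrot23 (Lpr_ct (f84453 IH) (Lpr_ft (K11.f430479 IH) (Lpr_ct (K7.f94390 IH) (Lpn (LP (LK LD1_c3 LD2_c56 LD3_c45))))))
theorem f432239 : Led Lsl_at (LP (LK LD1_c7 LD2_c26 LD3_c13)) = (LP (LK LD1_c3 LD2_c56 LD3_c45)) :=
  Lgr Lrot66 (Lpe (f432159 IH) (Lpr_af (f432189 IH) (Lpr_ff (f430481 IH) (Lpn (LP (LK LD1_c3 LD2_c56 LD3_c45))))))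
theorem f126883 : Led Lsl_at (LP (LK LD1_c23 LD2_c36 LD3_c35)) = (LP (LK LD1_c14 LD2_c3 LD3_c29)) :=
  Lre_a IH (LK LD1_c23 LD2_c36 LD3_c35) (LK LD1_c14 LD2_c3 LD3_c29) Lrfl Lrfl
theorem f94392 : Led Lsl_bt (LP (LK LD1_c3 LD2_c56 LD3_c45)) = (LP (LK LD1_c7 LD2_c55 LD3_c14)) :=
  Lre_b IH (LK LD1_c3 LD2_c56 LD3_c45) (LK LD1_c7 LD2_c55 LD3_c14) Lrfl Lrfl
theorem f121442 : Led Lsl_at (LP (LK LD1_c7 LD2_c55 LD3_c14)) = (LP (LK LD1_c14 LD2_c56 LD3_c41)) :=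
  Lre_a IH (LK LD1_c7 LD2_c55 LD3_c14) (LK LD1_c14 LD2_c56 LD3_c41) Lrfl Lrfl
theorem f432241 : Led Lsl_bf (LP (LK LD1_c23 LD2_c36 LD3_c35)) = (LP (LK LD1_c14 LD2_c56 LD3_c41)) :=
  Lgr Lrot81 (Lpr_at (f126883 IH) (Lpr_bt (K49.f126862 IH) (Lpr_at (f432239 IH) (Lpr_bt (f94392 IH) (Lpr_at (f121442 IH) (Lpn (LP (LK LD1_c14 LD2_c56 LD3_c41))))))))
theorem f432147 : Led Lsl_at (LP (LK LD1_c21 LD2_c37 LD3_c4)) = (LP (LK LD1_c12 LD2_c30 LD3_c39)) :=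
  Lre_a IH (LK LD1_c21 LD2_c37 LD3_c4) (LK LD1_c12 LD2_c30 LD3_c39) Lrfl Lrfl
theorem f126877 : Led Lsl_at (LP (LK LD1_c14 LD2_c3 LD3_c29)) = (LP (LK LD1_c23 LD2_c36 LD3_c35)) :=
  Lre_a IH (LK LD1_c14 LD2_c3 LD3_c29) (LK LD1_c23 LD2_c36 LD3_c35) Lrfl Lrfl
theorem f432165 : Led Lsl_ff (LP (LK LD1_c21 LD2_c37 LD3_c4)) = (LP (LK LD1_c23 LD2_c36 LD3_c35)) :=
  Lgr Lrot30 (Lpr_at (f432147 IH) (Lpr_ft (K49.f432161 IH) (Lpr_at (f126877 IH) (Lpn (LP (LK LD1_c23 LD2_c36 LD3_c35))))))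
theorem f432195 : Led Lsl_et (LP (LK LD1_c12 LD2_c30 LD3_c39)) = (LP (LK LD1_c17 LD2_c29 LD3_c56)) :=
  Lgr Lrot74 (Lpe (K49.f95823 IH) (Lpr_ef (K49.f432193 IH) (Lpe (K6.f143982 IH) (Lpn (LP (LK LD1_c17 LD2_c29 LD3_c56))))))
theorem f432231 : Led Lsl_ef (LP (LK LD1_c21 LD2_c37 LD3_c4)) = (LP (LK LD1_c27 LD2_c20 LD3_c9)) :=
  Lgr Lrot20 (Lpr_at (f432147 IH) (Lpr_et (f432195 IH) (Lpr_at (K6.f143979 IH) (Lpn (LP (LK LD1_c27 LD2_c20 LD3_c9))))))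
theorem f84493 : Led Lsl_bt (LP (LK LD1_c17 LD2_c30 LD3_c29)) = (LP (LK LD1_c27 LD2_c20 LD3_c9)) :=
  Lre_b IH (LK LD1_c17 LD2_c30 LD3_c29) (LK LD1_c27 LD2_c20 LD3_c9) Lrfl Lrfl
theorem f84384 : Led Lsl_at (LP (LK LD1_c6 LD2_c48 LD3_c8)) = (LP (LK LD1_c12 LD2_c58 LD3_c59)) :=
  Lre_a IH (LK LD1_c6 LD2_c48 LD3_c8) (LK LD1_c12 LD2_c58 LD3_c59) Lrfl Lrfl
theorem f84385 : Led Lsl_at (LP (LK LD1_c17 LD2_c30 LD3_c29)) = (LP (LK LD1_c9 LD2_c29 LD3_c36)) :=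
  Lre_a IH (LK LD1_c17 LD2_c30 LD3_c29) (LK LD1_c9 LD2_c29 LD3_c36) Lrfl Lrfl
theorem f84386 : Led Lsl_et (LP (LK LD1_c12 LD2_c58 LD3_c59)) = (LP (LK LD1_c17 LD2_c30 LD3_c29)) :=
  Lgr Lrot123 (Lpe (f84384 IH) (Lpr_ef (K6.f84374 IH) (Lpe (f84385 IH) (Lpn (LP (LK LD1_c17 LD2_c30 LD3_c29))))))
theorem f432233 : Led Lsl_bt (LP (LK LD1_c21 LD2_c37 LD3_c4)) = (LP (LK LD1_c12 LD2_c58 LD3_c59)) :=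
  Lgr Lrot119 (Lpr_ef (f432231 IH) (Lpe (f84493 IH) (Lpe (f84386 IH) (Lpn (LP (LK LD1_c12 LD2_c58 LD3_c59))))))
theorem f432257 : Led Lsl_ft (LP (LK LD1_c12 LD2_c58 LD3_c59)) = (LP (LK LD1_c14 LD2_c56 LD3_c41)) :=
  Lgr Lrot75 (Lpe (f432233 IH) (Lpr_ff (f432165 IH) (Lpr_bf (f432241 IH) (Lpn (LP (LK LD1_c14 LD2_c56 LD3_c41))))))
theorem f432263 : Led Lsl_ff (LP (LK LD1_c12 LD2_c58 LD3_c59)) = (LP (LK LD1_c14 LD2_c56 LD3_c41)) :=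
  Lgr Lrot3 (Lpr_ft (f432257 IH) (Lpn (LP (LK LD1_c14 LD2_c56 LD3_c41))))
theorem f432267 : Led Lsl_ft (LP (LK LD1_c6 LD2_c48 LD3_c8)) = (LP (LK LD1_c7 LD2_c55 LD3_c14)) :=
  Lgr Lrot101 (Lpe (K6.f84406 IH) (Lpr_ff (f432263 IH) (Lpe (f121442 IH) (Lpn (LP (LK LD1_c7 LD2_c55 LD3_c14))))))
theorem f432331 : Led Lsl_gt (LP (LK LD1_c12 LD2_c58 LD3_c57)) = (LP (LK LD1_c14 LD2_c56 LD3_c41)) :=
  Lgr Lrot46 (Lpe (f84401 IH) (Lpr_ft (f432267 IH) (Lpr_at (f121442 IH) (Lpn (LP (LK LD1_c14 LD2_c56 LD3_c41))))))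
theorem f121416 : Led Lsl_bt (LP (LK LD1_c4 LD2_c50 LD3_c20)) = (LP (LK LD1_c9 LD2_c33 LD3_c0)) :=
  Lre_b IH (LK LD1_c4 LD2_c50 LD3_c20) (LK LD1_c9 LD2_c33 LD3_c0) Lrfl Lrfl
theorem f121417 : Led Lsl_ct (LP (LK LD1_c7 LD2_c55 LD3_c16)) = (LP (LK LD1_c3 LD2_c56 LD3_c46)) :=
  Lre_c IH (LK LD1_c7 LD2_c55 LD3_c16) (LK LD1_c3 LD2_c56 LD3_c46) Lrfl Lrfl
theorem f121418 : Led Lsl_bt (LP (LK LD1_c14 LD2_c56 LD3_c42)) = (LP (LK LD1_c7 LD2_c55 LD3_c16)) :=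
  Lre_b IH (LK LD1_c14 LD2_c56 LD3_c42) (LK LD1_c7 LD2_c55 LD3_c16) Lrfl Lrfl
theorem f121419 : Led Lsl_ct (LP (LK LD1_c9 LD2_c33 LD3_c0)) = (LP (LK LD1_c14 LD2_c56 LD3_c42)) :=
  Lgr Lrot83 (Lpe (f121416 IH) (Lpe (K32.f121415 IH) (Lpr_bf (K11.f121411 IH) (Lpe (f121417 IH) (Lpe (f121418 IH) (Lpn (LP (LK LD1_c14 LD2_c56 LD3_c42))))))))
theorem f121427 : Led Lsl_cf (LP (LK LD1_c9 LD2_c33 LD3_c0)) = (LP (LK LD1_c14 LD2_c56 LD3_c42)) :=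
  Lgr Lrot11 (Lpr_ct (f121419 IH) (Lpn (LP (LK LD1_c14 LD2_c56 LD3_c42))))
theorem f121437 : Led Lsl_et (LP (LK LD1_c9 LD2_c33 LD3_c0)) = (LP (LK LD1_c4 LD2_c50 LD3_c19)) :=
  Lre_e IH (LK LD1_c9 LD2_c33 LD3_c0) (LK LD1_c4 LD2_c50 LD3_c19) Lrfl Lrfl
theorem f121438 : Led Lsl_et (LP (LK LD1_c7 LD2_c55 LD3_c14)) = (LP (LK LD1_c14 LD2_c56 LD3_c42)) :=
  Lre_e IH (LK LD1_c7 LD2_c55 LD3_c14) (LK LD1_c14 LD2_c56 LD3_c42) Lrfl Lrfl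
theorem f121439 : Led Lsl_ct (LP (LK LD1_c4 LD2_c50 LD3_c19)) = (LP (LK LD1_c7 LD2_c55 LD3_c14)) :=
  Lgr Lrot15 (Lpe (f121437 IH) (Lpr_cf (f121427 IH) (Lpe (f121438 IH) (Lpn (LP (LK LD1_c7 LD2_c55 LD3_c14))))))
theorem f121441 : Led Lsl_at (LP (LK LD1_c9 LD2_c32 LD3_c61)) = (LP (LK LD1_c4 LD2_c50 LD3_c19)) :=
  Lre_a IH (LK LD1_c9 LD2_c32 LD3_c61) (LK LD1_c4 LD2_c50 LD3_c19) Lrfl Lrfl
theorem f121443 : Led Lsl_cf (LP (LK LD1_c9 LD2_c32 LD3_c61)) = (LP (LK LD1_c14 LD2_c56 LD3_c41)) :=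
  Lgr Lrot1 (Lpr_at (f121441 IH) (Lpr_ct (f121439 IH) (Lpr_at (f121442 IH) (Lpn (LP (LK LD1_c14 LD2_c56 LD3_c41))))))
theorem f121451 : Led Lsl_ct (LP (LK LD1_c9 LD2_c32 LD3_c61)) = (LP (LK LD1_c14 LD2_c56 LD3_c41)) :=
  Lgr Lrot59 (Lpr_cf (f121443 IH) (Lpn (LP (LK LD1_c14 LD2_c56 LD3_c41))))
theorem f432269 : Led Lsl_ft (LP (LK LD1_c6 LD2_c48 LD3_c12)) = (LP (LK LD1_c9 LD2_c32 LD3_c61)) :=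
  Lgr Lrot4 (Lpe (K6.f84460 IH) (Lpr_ff (f432263 IH) (Lpe (f121451 IH) (Lpn (LP (LK LD1_c9 LD2_c32 LD3_c61))))))
theorem f84533 : Led Lsl_df (LP (LK LD1_c3 LD2_c22 LD3_c25)) = (LP (LK LD1_c3 LD2_c22 LD3_c16)) :=
  Lgr Lrot38 (Lpr_dt (K6.f84517 IH) (Lpn (LP (LK LD1_c3 LD2_c22 LD3_c16))))
theorem f84368 : Led Lsl_at (LP (LK LD1_c6 LD2_c48 LD3_c12)) = (LP (LK LD1_c3 LD2_c22 LD3_c16)) :=
  Lre_a IH (LK LD1_c6 LD2_c48 LD3_c12) (LK LD1_c3 LD2_c22 LD3_c16) Lrfl Lrfl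
theorem f84548 : Led Lsl_dt (LP (LK LD1_c6 LD2_c48 LD3_c37)) = (LP (LK LD1_c6 LD2_c48 LD3_c12)) :=
  Lgr Lrot44 (Lpe (K6.f84547 IH) (Lpr_df (f84533 IH) (Lpe (f84368 IH) (Lpn (LP (LK LD1_c6 LD2_c48 LD3_c12))))))
theorem f432275 : Led Lsl_df (LP (LK LD1_c6 LD2_c49 LD3_c14)) = (LP (LK LD1_c9 LD2_c32 LD3_c61)) :=
  Lgr Lrot78 (Lpr_ft (K60.f145848 IH) (Lpr_dt (f84548 IH) (Lpr_ft (f432269 IH) (Lpn (LP (LK LD1_c9 LD2_c32 LD3_c61))))))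
theorem f113249 : Led Lsl_ct (LP (LK LD1_c13 LD2_c0 LD3_c38)) = (LP (LK LD1_c6 LD2_c49 LD3_c14)) :=
  Lre_c IH (LK LD1_c13 LD2_c0 LD3_c38) (LK LD1_c6 LD2_c49 LD3_c14) Lrfl Lrfl
theorem f87604 : Led Lsl_bt (LP (LK LD1_c2 LD2_c22 LD3_c57)) = (LP (LK LD1_c4 LD2_c50 LD3_c19)) :=
  Lre_b IH (LK LD1_c2 LD2_c22 LD3_c57) (LK LD1_c4 LD2_c50 LD3_c19) Lrfl Lrfl
theorem f87605 : Led Lsl_gt (LP (LK LD1_c4 LD2_c50 LD3_c19)) = (LP (LK LD1_c9 LD2_c32 LD3_c59)) :=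
  Lre_g IH (LK LD1_c4 LD2_c50 LD3_c19) (LK LD1_c9 LD2_c32 LD3_c59) Lrfl Lrfl
theorem f121458 : Led Lsl_ct (LP (LK LD1_c9 LD2_c32 LD3_c59)) = (LP (LK LD1_c17 LD2_c35 LD3_c10)) :=
  Lre_c IH (LK LD1_c9 LD2_c32 LD3_c59) (LK LD1_c17 LD2_c35 LD3_c10) Lrfl Lrfl
theorem f155255 : Led Lsl_gt (LP (LK LD1_c6 LD2_c24 LD3_c13)) = (LP (LK LD1_c3 LD2_c9 LD3_c44)) :=
  Lre_g IH (LK LD1_c6 LD2_c24 LD3_c13) (LK LD1_c3 LD2_c9 LD3_c44) Lrfl Lrfl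
theorem f433885 : Led Lsl_bt (LP (LK LD1_c12 LD2_c21 LD3_c41)) = (LP (LK LD1_c6 LD2_c24 LD3_c13)) :=
  Lre_b IH (LK LD1_c12 LD2_c21 LD3_c41) (LK LD1_c6 LD2_c24 LD3_c13) Lrfl Lrfl
theorem f434134 : Led Lsl_ct (LP (LK LD1_c12 LD2_c21 LD3_c41)) = (LP (LK LD1_c21 LD2_c28 LD3_c21)) :=
  Lre_c IH (LK LD1_c12 LD2_c21 LD3_c41) (LK LD1_c21 LD2_c28 LD3_c21) Lrfl Lrfl
theorem f435153 : Led Lsl_gt (LP (LK LD1_c17 LD2_c35 LD3_c10)) = (LP (LK LD1_c21 LD2_c28 LD3_c21)) :=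
  Lgr Lrot149 (Lpe (f121458 IH) (Lpe (f87605 IH) (Lpe (f87604 IH) (Lpr_ct (K7.f121406 IH) (Lpr_gf (K7.f154179 IH) (Lpe (K7.f154181 IH) (Lpr_bt (K49.f154187 IH) (Lpe (f155255 IH) (Lpe (f433885 IH) (Lpr_ct (f434134 IH) (Lpn (LP (LK LD1_c21 LD2_c28 LD3_c21)))))))))))))
theorem f121407 : Led Lsl_bt (LP (LK LD1_c4 LD2_c50 LD3_c19)) = (LP (LK LD1_c2 LD2_c22 LD3_c57)) :=
  Lre_b IH (LK LD1_c4 LD2_c50 LD3_c19) (LK LD1_c2 LD2_c22 LD3_c57) Lrfl Lrfl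
theorem f135458 : Led Lsl_ft (LP (LK LD1_c3 LD2_c22 LD3_c16)) = (LP (LK LD1_c4 LD2_c50 LD3_c19)) :=
  Lgr Lrot75 (Lpe (K6.f84360 IH) (Lpr_ff (K6.f135453 IH) (Lpe (f121407 IH) (Lpn (LP (LK LD1_c4 LD2_c50 LD3_c19))))))
theorem f145943 : Led Lsl_df (LP (LK LD1_c3 LD2_c22 LD3_c49)) = (LP (LK LD1_c4 LD2_c50 LD3_c19)) :=
  Lgr Lrot78 (Lpr_ft (K6.f145858 IH) (Lpr_dt (K6.f84517 IH) (Lpr_ft (f135458 IH) (Lpn (LP (LK LD1_c4 LD2_c50 LD3_c19))))))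
theorem f135594 : Led Lsl_gt (LP (LK LD1_c13 LD2_c0 LD3_c41)) = (LP (LK LD1_c17 LD2_c35 LD3_c32)) :=
  Lgr Lrot149 (Lpe (K60.f135591 IH) (Lpe (K60.f113259 IH) (Lpe (K32.f113218 IH) (Lpr_ct (K6.f20909 IH) (Lpr_gf (K6.f135486 IH) (Lpe (K0.f7457 IH) (Lpr_bt (K1.f7483 IH) (Lpe (K60.f115193 IH) (Lpe (K60.f135592 IH) (Lpr_ct (K60.f135593 IH) (Lpn (LP (LK LD1_c17 LD2_c35 LD3_c32)))))))))))))
theorem f135613 : Led Lsl_ct (LP (LK LD1_c17 LD2_c35 LD3_c32)) = (LP (LK LD1_c9 LD2_c33 LD3_c11)) :=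
  Lre_c IH (LK LD1_c17 LD2_c35 LD3_c32) (LK LD1_c9 LD2_c33 LD3_c11) Lrfl Lrfl
theorem f433886 : Led Lsl_ct (LP (LK LD1_c21 LD2_c28 LD3_c21)) = (LP (LK LD1_c12 LD2_c21 LD3_c41)) :=
  Lre_c IH (LK LD1_c21 LD2_c28 LD3_c21) (LK LD1_c12 LD2_c21 LD3_c41) Lrfl Lrfl
theorem f435155 : Led Lsl_dt (LP (LK LD1_c9 LD2_c33 LD3_c11)) = (LP (LK LD1_c12 LD2_c21 LD3_c41)) :=
  Lgr Lrot27 (Lpe (f135613 IH) (Lpe (f135594 IH) (Lpe (K60.f135591 IH) (Lpe (K60.f113259 IH) (Lpr_df (f145943 IH) (Lpr_gt (f87605 IH) (Lpr_ct (f121458 IH) (Lpr_gt (f435153 IH) (Lpr_ct (f433886 IH) (Lpn (LP (LK LD1_c12 LD2_c21 LD3_c41))))))))))))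
theorem f907030 : Led Lsl_gt (LP (LK LD1_c12 LD2_c21 LD3_c41)) = (LP (LK LD1_c17 LD2_c16 LD3_c26)) :=
  Lgr Lrot9 (Lpe (f435155 IH) (Lpr_gt (K60.f135614 IH) (Lpe (K60.f444449 IH) (Lpr_gt (K60.f437855 IH) (Lpr_ct (f113249 IH) (Lpr_df (f432275 IH) (Lpr_cf (f121443 IH) (Lpe (f432331 IH) (Lpr_cf (f907020 IH) (Lpn (LP (LK LD1_c17 LD2_c16 LD3_c26))))))))))))
theorem f84550 : Led Lsl_dt (LP (LK LD1_c6 LD2_c48 LD3_c29)) = (LP (LK LD1_c12 LD2_c59 LD3_c35)) :=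
  Lre_d IH (LK LD1_c6 LD2_c48 LD3_c29) (LK LD1_c12 LD2_c59 LD3_c35) Lrfl Lrfl
theorem f62465 : Led Lsl_dt (LP (LK LD1_c12 LD2_c0 LD3_c24)) = (LP (LK LD1_c21 LD2_c5 LD3_c26)) :=
  Lre_d IH (LK LD1_c12 LD2_c0 LD3_c24) (LK LD1_c21 LD2_c5 LD3_c26) Lrfl Lrfl
theorem f121454 : Led Lsl_at (LP (LK LD1_c4 LD2_c50 LD3_c19)) = (LP (LK LD1_c9 LD2_c32 LD3_c61)) :=
  Lre_a IH (LK LD1_c4 LD2_c50 LD3_c19) (LK LD1_c9 LD2_c32 LD3_c61) Lrfl Lrfl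
theorem f438784 : Led Lsl_gt (LP (LK LD1_c6 LD2_c48 LD3_c10)) = (LP (LK LD1_c9 LD2_c32 LD3_c61)) :=
  Lgr Lrot46 (Lpe (K57.f84539 IH) (Lpr_ft (f135458 IH) (Lpr_at (f121454 IH) (Lpn (LP (LK LD1_c9 LD2_c32 LD3_c61))))))
theorem f113254 : Led Lsl_dt (LP (LK LD1_c22 LD2_c10 LD3_c52)) = (LP (LK LD1_c13 LD2_c0 LD3_c38)) :=
  Lre_d IH (LK LD1_c22 LD2_c10 LD3_c52) (LK LD1_c13 LD2_c0 LD3_c38) Lrfl Lrfl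
theorem f782822 : Led Lsl_gt (LP (LK LD1_c21 LD2_c5 LD3_c26)) = (LP (LK LD1_c22 LD2_c10 LD3_c52)) :=
  Lgr Lrot49 (Lpe (f62465 IH) (Lpe (K6.f62463 IH) (Lpe (K5.f62432 IH) (Lpr_gt (K60.f62564 IH) (Lpr_dt (K60.f753842 IH) (Lpqs (K60.f782818 IH) (Lpr_gt (f438784 IH) (Lpe (f432275 IH) (Lpe (f113249 IH) (Lpe (f113254 IH) (Lpn (LP (LK LD1_c22 LD2_c10 LD3_c52)))))))))))))
theorem f143864 : Led Lsl_at (LP (LK LD1_c13 LD2_c0 LD3_c39)) = (LP (LK LD1_c22 LD2_c10 LD3_c52)) :=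
  Lre_a IH (LK LD1_c13 LD2_c0 LD3_c39) (LK LD1_c22 LD2_c10 LD3_c52) Lrfl Lrfl
theorem f143772 : Led Lsl_bt (LP (LK LD1_c6 LD2_c48 LD3_c30)) = (LP (LK LD1_c12 LD2_c59 LD3_c35)) :=
  Lre_b IH (LK LD1_c6 LD2_c48 LD3_c30) (LK LD1_c12 LD2_c59 LD3_c35) Lrfl Lrfl
theorem f143853 : Led Lsl_bt (LP (LK LD1_c13 LD2_c0 LD3_c39)) = (LP (LK LD1_c6 LD2_c49 LD3_c11)) :=
  Lre_b IH (LK LD1_c13 LD2_c0 LD3_c39) (LK LD1_c6 LD2_c49 LD3_c11) Lrfl Lrfl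
theorem f143854 : Led Lsl_ft (LP (LK LD1_c12 LD2_c59 LD3_c35)) = (LP (LK LD1_c13 LD2_c0 LD3_c39)) :=
  Lgr Lrot75 (Lpe (f143772 IH) (Lpr_ff (K11.f143845 IH) (Lpe (f143853 IH) (Lpn (LP (LK LD1_c13 LD2_c0 LD3_c39))))))
theorem f782825 : Led Lsl_gf (LP (LK LD1_c21 LD2_c5 LD3_c26)) = (LP (LK LD1_c12 LD2_c59 LD3_c35)) :=
  Lgr Lrot47 (Lpr_gt (f782822 IH) (Lpe (f143864 IH) (Lpe (f143854 IH) (Lpn (LP (LK LD1_c12 LD2_c59 LD3_c35))))))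
theorem f135219 : Led Lsl_dt (LP (LK LD1_c21 LD2_c5 LD3_c26)) = (LP (LK LD1_c12 LD2_c0 LD3_c24)) :=
  Lre_d IH (LK LD1_c21 LD2_c5 LD3_c26) (LK LD1_c12 LD2_c0 LD3_c24) Lrfl Lrfl
theorem f648785 : Led Lsl_at (LP (LK LD1_c6 LD2_c28 LD3_c0)) = (LP (LK LD1_c12 LD2_c27 LD3_c20)) :=
  Lre_a IH (LK LD1_c6 LD2_c28 LD3_c0) (LK LD1_c12 LD2_c27 LD3_c20) Lrfl Lrfl
theorem f906916 : Led Lsl_df (LP (LK LD1_c17 LD2_c16 LD3_c26)) = (LP (LK LD1_c12 LD2_c27 LD3_c20)) :=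
  Lgr Lrot18 (Lpr_at (f135475 IH) (Lpq (f906901 IH) (Lpe (f766017 IH) (Lpr_at (f648785 IH) (Lpn (LP (LK LD1_c12 LD2_c27 LD3_c20)))))))
theorem f906926 : Led Lsl_dt (LP (LK LD1_c17 LD2_c16 LD3_c26)) = (LP (LK LD1_c12 LD2_c27 LD3_c20)) :=
  Lgr Lrot42 (Lpr_df (f906916 IH) (Lpn (LP (LK LD1_c12 LD2_c27 LD3_c20))))
theorem f907035 : Led Lsl_cf (LP (LK LD1_c12 LD2_c0 LD3_c24)) = (LP (LK LD1_c12 LD2_c27 LD3_c20)) :=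
  Lgr Lrot14 (Lpe (f135219 IH) (Lpr_gf (f782825 IH) (Lpe (f84550 IH) (Lpe (K60.f84543 IH) (Lpe (K60.f438855 IH) (Lpe (K60.f783068 IH) (Lpr_dt (f435155 IH) (Lpr_gt (f907030 IH) (Lpr_dt (f906926 IH) (Lpn (LP (LK LD1_c12 LD2_c27 LD3_c20))))))))))))
theorem f84260 : Led Lsl_dt (LP (LK LD1_c12 LD2_c59 LD3_c14)) = (LP (LK LD1_c22 LD2_c9 LD3_c18)) :=
  Lre_d IH (LK LD1_c12 LD2_c59 LD3_c14) (LK LD1_c22 LD2_c9 LD3_c18) Lrfl Lrfl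
theorem f135181 : Led Lsl_at (LP (LK LD1_c21 LD2_c5 LD3_c30)) = (LP (LK LD1_c12 LD2_c0 LD3_c27)) :=
  Lre_a IH (LK LD1_c21 LD2_c5 LD3_c30) (LK LD1_c12 LD2_c0 LD3_c27) Lrfl Lrfl
theorem f135182 : Led Lsl_ff (LP (LK LD1_c21 LD2_c5 LD3_c30)) = (LP (LK LD1_c22 LD2_c9 LD3_c18)) :=
  Lgr Lrot30 (Lpr_at (f135181 IH) (Lpr_ft (K5.f135179 IH) (Lpr_at (K5.f135178 IH) (Lpn (LP (LK LD1_c22 LD2_c9 LD3_c18))))))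
theorem f62443 : Led Lsl_gt (LP (LK LD1_c21 LD2_c5 LD3_c32)) = (LP (LK LD1_c12 LD2_c0 LD3_c27)) :=
  Lre_g IH (LK LD1_c21 LD2_c5 LD3_c32) (LK LD1_c12 LD2_c0 LD3_c27) Lrfl Lrfl
theorem f438863 : Led Lsl_gf (LP (LK LD1_c21 LD2_c5 LD3_c32)) = (LP (LK LD1_c22 LD2_c9 LD3_c18)) :=
  Lgr Lrot47 (Lpr_gt (f62443 IH) (Lpe (f135181 IH) (Lpr_ff (f135182 IH) (Lpn (LP (LK LD1_c22 LD2_c9 LD3_c18))))))
theorem f145862 : Led Lsl_gf (LP (LK LD1_c6 LD2_c49 LD3_c13)) = (LP (LK LD1_c6 LD2_c48 LD3_c37)) :=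
  Lgr Lrot47 (Lpr_gt (K60.f113261 IH) (Lpe (K6.f113214 IH) (Lpr_ff (K6.f145854 IH) (Lpn (LP (LK LD1_c6 LD2_c48 LD3_c37))))))
theorem f145874 : Led Lsl_dt (LP (LK LD1_c13 LD2_c0 LD3_c37)) = (LP (LK LD1_c21 LD2_c5 LD3_c32)) :=
  Lgr Lrot57 (Lpr_gf (K60.f145872 IH) (Lpe (K60.f84564 IH) (Lpe (f145862 IH) (Lpr_dt (K60.f135580 IH) (Lpr_gt (K60.f86397 IH) (Lpe (K6.f86388 IH) (Lpe (K5.f62454 IH) (Lpe (K5.f62437 IH) (Lpe (f62443 IH) (Lpn (LP (LK LD1_c21 LD2_c5 LD3_c32))))))))))))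
theorem f145876 : Led Lsl_df (LP (LK LD1_c13 LD2_c0 LD3_c37)) = (LP (LK LD1_c21 LD2_c5 LD3_c32)) :=
  Lgr Lrot38 (Lpr_dt (f145874 IH) (Lpn (LP (LK LD1_c21 LD2_c5 LD3_c32))))
theorem f907041 : Led Lsl_gf (LP (LK LD1_c21 LD2_c26 LD3_c29)) = (LP (LK LD1_c12 LD2_c27 LD3_c20)) :=
  Lgr Lrot144 (Lpr_dt (K60.f86431 IH) (Lpr_gt (K60.f86427 IH) (Lpr_dt (K60.f438859 IH) (Lpe (K60.f783003 IH) (Lpr_df (f145876 IH) (Lpr_gf (f438863 IH) (Lpe (f84260 IH) (Lpe (K6.f135217 IH) (Lpr_cf (f907035 IH) (Lpn (LP (LK LD1_c12 LD2_c27 LD3_c20))))))))))))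
theorem f153978 : Led Lsl_at (LP (LK LD1_c21 LD2_c26 LD3_c44)) = (LP (LK LD1_c12 LD2_c20 LD3_c37)) :=
  Lre_a IH (LK LD1_c21 LD2_c26 LD3_c44) (LK LD1_c12 LD2_c20 LD3_c37) Lrfl Lrfl
theorem f907043 : Led Lsl_ff (LP (LK LD1_c21 LD2_c26 LD3_c44)) = (LP (LK LD1_c12 LD2_c27 LD3_c20)) :=
  Lgr Lrot52 (Lpr_at (f153978 IH) (Lpr_gf (K60.f153989 IH) (Lpr_gf (f907041 IH) (Lpn (LP (LK LD1_c12 LD2_c27 LD3_c20))))))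
theorem f766024 : Led Lsl_ff (LP (LK LD1_c6 LD2_c28 LD3_c0)) = v18267 :=
  Lgr Lrot3 (Lpr_ft (f766022 IH) (Lpn v18267))
theorem f907049 : (LP (LK LD1_c12 LD2_c20 LD3_c37)) = v18267 :=
  (Llr Lrot66 (Lpe (f153978 IH) (Lpr_ff (f907043 IH) (Lpe (f648785 IH) (Lpr_ff (f766024 IH) (Lpn v18267)))))).symm
theorem f907052 : v5675 = (LP (LK LD1_c6 LD2_c23 LD3_c37)) :=
  Lefun (Lecon (Lfl_bf (f766023 IH)) (f907049 IH).symm) (K60.f153873 IH)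
theorem f907058 : v18270 = (LP (LK LD1_c12 LD2_c20 LD3_c38)) :=
  Lefun (Lecon (f766051 IH) (f907052 IH)) (f153872 IH)
theorem f25887 : Led Lsl_dt (LP (LK LD1_c12 LD2_c27 LD3_c26)) = (LP (LK LD1_c6 LD2_c28 LD3_c1)) :=
  Lre_d IH (LK LD1_c12 LD2_c27 LD3_c26) (LK LD1_c6 LD2_c28 LD3_c1) Lrfl Lrfl
theorem f762638 : Led Lsl_dt (LP (LK LD1_c12 LD2_c20 LD3_c38)) = (LP (LK LD1_c21 LD2_c26 LD3_c48)) :=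
  Lre_d IH (LK LD1_c12 LD2_c20 LD3_c38) (LK LD1_c21 LD2_c26 LD3_c48) Lrfl Lrfl
theorem f907350 : Led Lsl_ff (LP (LK LD1_c12 LD2_c27 LD3_c26)) = (LP (LK LD1_c21 LD2_c26 LD3_c48)) :=
  Lgr Lrot19 (Lpr_dt (f25887 IH) (Lpr_ft (f766046 IH) (Lpqs (f907058 IH) (Lpr_dt (f762638 IH) (Lpn (LP (LK LD1_c21 LD2_c26 LD3_c48)))))))
theorem f907354 : Led Lsl_ft (LP (LK LD1_c12 LD2_c27 LD3_c26)) = (LP (LK LD1_c21 LD2_c26 LD3_c48)) :=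
  Lgr Lrot48 (Lpr_ff (f907350 IH) (Lpn (LP (LK LD1_c21 LD2_c26 LD3_c48))))
theorem f25888 : Led Lsl_gt (LP (LK LD1_c12 LD2_c27 LD3_c26)) = (LP (LK LD1_c21 LD2_c34 LD3_c55)) :=
  Lre_g IH (LK LD1_c12 LD2_c27 LD3_c26) (LK LD1_c21 LD2_c34 LD3_c55) Lrfl Lrfl
theorem f153892 : Led Lsl_dt (LP (LK LD1_c21 LD2_c26 LD3_c52)) = (LP (LK LD1_c12 LD2_c20 LD3_c41)) :=
  Lre_d IH (LK LD1_c21 LD2_c26 LD3_c52) (LK LD1_c12 LD2_c20 LD3_c41) Lrfl Lrfl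
theorem f766030 : Led Lsl_ct K57.v5673 = K57.v18268 :=
  Lgr Lrot59 (Lpr_cf (K57.f766029 IH) (Lpn K57.v18268))
theorem f153891 : Led Lsl_ct (LP (LK LD1_c6 LD2_c23 LD3_c38)) = (LP (LK LD1_c12 LD2_c20 LD3_c41)) :=
  Lre_c IH (LK LD1_c6 LD2_c23 LD3_c38) (LK LD1_c12 LD2_c20 LD3_c41) Lrfl Lrfl
def v25619 : LQ := Led Lsl_gf K57.v5673
theorem f829587 : Led Lsl_gf K57.v5673 = v25619 :=
  Lrfl
theorem f153885 : Led Lsl_gt (LP (LK LD1_c6 LD2_c23 LD3_c38)) = (LP (LK LD1_c3 LD2_c9 LD3_c25)) :=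
  Lre_g IH (LK LD1_c6 LD2_c23 LD3_c38) (LK LD1_c3 LD2_c9 LD3_c25) Lrfl Lrfl
theorem f153886 : Led Lsl_gt (LP (LK LD1_c3 LD2_c11 LD3_c56)) = (LP (LK LD1_c6 LD2_c23 LD3_c38)) :=
  Lgr Lrot5 (Lpr_ft (K16.f153856 IH) (Lpr_at (K16.f153855 IH) (Lpe (f153885 IH) (Lpn (LP (LK LD1_c6 LD2_c23 LD3_c38))))))
theorem f829588 : Led Lsl_gt v5675 = v25619 :=
  Lgr Lrot5 (Lpe (f648795 IH) (Lpr_at (K57.f648782 IH) (Lpr_gf (f829587 IH) (Lpn v25619))))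
theorem f153866 : Led Lsl_gf (LP (LK LD1_c3 LD2_c11 LD3_c56)) = (LP (LK LD1_c6 LD2_c23 LD3_c37)) :=
  Lgr Lrot76 (Lpe (K16.f153854 IH) (Lpr_ff (K16.f153842 IH) (Lpr_gt (K60.f153865 IH) (Lpn (LP (LK LD1_c6 LD2_c23 LD3_c37))))))
theorem f907053 : v25619 = (LP (LK LD1_c3 LD2_c11 LD3_c56)) :=
  Lefun (Lecon (f829588 IH) (f907052 IH)) (Lfl_gf (f153866 IH))
theorem f907070 : K57.v5673 = (LP (LK LD1_c6 LD2_c23 LD3_c38)) :=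
  Lefun (Lecon (Lfl_gf (f829587 IH)) (f907053 IH)) (f153886 IH)
theorem f907080 : K57.v18268 = (LP (LK LD1_c12 LD2_c20 LD3_c41)) :=
  Lefun (Lecon (f766030 IH) (f907070 IH)) (f153891 IH)
theorem f25889 : Led Lsl_dt (LP (LK LD1_c6 LD2_c28 LD3_c1)) = (LP (LK LD1_c12 LD2_c27 LD3_c26)) :=
  Lre_d IH (LK LD1_c6 LD2_c28 LD3_c1) (LK LD1_c12 LD2_c27 LD3_c26) Lrfl Lrfl
theorem f907095 : Led Lsl_af (LP (LK LD1_c21 LD2_c26 LD3_c52)) = (LP (LK LD1_c12 LD2_c27 LD3_c26)) :=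
  Lgr Lrot117 (Lpr_dt (f153892 IH) (Lpq (f907080 IH) (Lpe (K57.f766027 IH) (Lpr_dt (f25889 IH) (Lpn (LP (LK LD1_c12 LD2_c27 LD3_c26)))))))
theorem f907097 : Led Lsl_at (LP (LK LD1_c21 LD2_c26 LD3_c52)) = (LP (LK LD1_c12 LD2_c27 LD3_c26)) :=
  Lgr Lrot100 (Lpr_af (f907095 IH) (Lpn (LP (LK LD1_c12 LD2_c27 LD3_c26))))
theorem f153913 : Led Lsl_dt (LP (LK LD1_c12 LD2_c27 LD3_c32)) = (LP (LK LD1_c6 LD2_c28 LD3_c4)) :=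
  Lre_d IH (LK LD1_c12 LD2_c27 LD3_c32) (LK LD1_c6 LD2_c28 LD3_c4) Lrfl Lrfl
theorem f153895 : Led Lsl_dt (LP (LK LD1_c12 LD2_c20 LD3_c41)) = (LP (LK LD1_c21 LD2_c26 LD3_c52)) :=
  Lre_d IH (LK LD1_c12 LD2_c20 LD3_c41) (LK LD1_c21 LD2_c26 LD3_c52) Lrfl Lrfl
theorem f907091 : Led Lsl_ff (LP (LK LD1_c12 LD2_c27 LD3_c32)) = (LP (LK LD1_c21 LD2_c26 LD3_c52)) :=
  Lgr Lrot19 (Lpr_dt (f153913 IH) (Lpr_ft (K57.f766031 IH) (Lpqs (f907080 IH) (Lpr_dt (f153895 IH) (Lpn (LP (LK LD1_c21 LD2_c26 LD3_c52)))))))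
theorem f907093 : Led Lsl_ft (LP (LK LD1_c12 LD2_c27 LD3_c32)) = (LP (LK LD1_c21 LD2_c26 LD3_c52)) :=
  Lgr Lrot48 (Lpr_ff (f907091 IH) (Lpn (LP (LK LD1_c21 LD2_c26 LD3_c52))))
theorem f907356 : Led Lsl_af (LP (LK LD1_c12 LD2_c27 LD3_c32)) = (LP (LK LD1_c21 LD2_c26 LD3_c48)) :=
  Lgr Lrot45 (Lpr_ft (f907093 IH) (Lpr_at (f907097 IH) (Lpr_ft (f907354 IH) (Lpn (LP (LK LD1_c21 LD2_c26 LD3_c48))))))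
theorem f907358 : Led Lsl_gt (LP (LK LD1_c21 LD2_c34 LD3_c55)) = (LP (LK LD1_c12 LD2_c27 LD3_c32)) :=
  Lgr Lrot46 (Lpe (f25888 IH) (Lpr_ft (f907354 IH) (Lpe (f907356 IH) (Lpn (LP (LK LD1_c12 LD2_c27 LD3_c32))))))
def v13292 : LQ := Led Lsl_dt (LP (LK LD1_c4 LD2_c42 LD3_c26))
theorem f702182 : Led Lsl_dt (LP (LK LD1_c4 LD2_c42 LD3_c26)) = v13292 :=
  Lrfl
theorem f702186 : Led Lsl_ff (LP (LK LD1_c4 LD2_c43 LD3_c42)) = v13292 :=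
  Lgr Lrot19 (Lpe (K16.f154511 IH) (Lpr_ft (K57.f154443 IH) (Lpr_dt (f702182 IH) (Lpn v13292))))
theorem f154510 : Led Lsl_at (LP (LK LD1_c4 LD2_c43 LD3_c42)) = (LP (LK LD1_c2 LD2_c19 LD3_c36)) :=
  Lre_a IH (LK LD1_c4 LD2_c43 LD3_c42) (LK LD1_c2 LD2_c19 LD3_c36) Lrfl Lrfl
theorem f702190 : Led Lsl_gf (LP (LK LD1_c4 LD2_c43 LD3_c41)) = v13292 :=
  Lgr Lrot47 (Lpr_gt (f152200 IH) (Lpe (f154510 IH) (Lpr_ff (f702186 IH) (Lpn v13292))))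
theorem f67950 : Led Lsl_bt (LP (LK LD1_c12 LD2_c13 LD3_c41)) = (LP (LK LD1_c6 LD2_c18 LD3_c57)) :=
  Lre_b IH (LK LD1_c12 LD2_c13 LD3_c41) (LK LD1_c6 LD2_c18 LD3_c57) Lrfl Lrfl
theorem f782995 : Led Lsl_gf (LP (LK LD1_c21 LD2_c19 LD3_c47)) = (LP (LK LD1_c12 LD2_c20 LD3_c20)) :=
  Lgr Lrot129 (Lpe (K60.f67951 IH) (Lpr_bt (f67950 IH) (Lpr_gt (K46.f67941 IH) (Lpe (K2.f67092 IH) (Lpr_ct (K2.f25060 IH) (Lpr_gt (K7.f152654 IH) (Lpe (K7.f152645 IH) (Lpr_bt (K60.f152641 IH) (Lpr_gt (K60.f653565 IH) (Lpqs (K60.f782947 IH) (Lpr_ct (K60.f155029 IH) (Lpn (LP (LK LD1_c12 LD2_c20 LD3_c20))))))))))))))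
theorem f907360 : Led Lsl_df (LP (LK LD1_c21 LD2_c34 LD3_c55)) = (LP (LK LD1_c21 LD2_c19 LD3_c47)) :=
  Lgr Lrot153 (Lpr_gt (f907358 IH) (Lpr_dt (f153913 IH) (Lpe (K57.f153911 IH) (Lpr_df (f648800 IH) (Lpqs (f906888 IH) (Lpr_gf (f702190 IH) (Lpe (f702182 IH) (Lpr_gf (K60.f653566 IH) (Lpqs (K60.f782947 IH) (Lpe (K60.f434764 IH) (Lpe (f782995 IH) (Lpn (LP (LK LD1_c21 LD2_c19 LD3_c47))))))))))))))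
theorem f907361 : Led Lsl_dt (LP (LK LD1_c21 LD2_c19 LD3_c47)) = (LP (LK LD1_c21 LD2_c34 LD3_c55)) :=
  Leop (Lpr_df (f907360 IH) (Lpn (LP (LK LD1_c21 LD2_c19 LD3_c47))))
theorem seed_2289 : LEOK LG_d (LK LD1_c21 LD2_c19 LD3_c47) :=
  Leoe_d (LK LD1_c21 LD2_c19 LD3_c47) (f907361 IH)
theorem f906899 : v25620 = v13392 :=
  Lefun (Lecon (f829593 IH) (f906888 IH)) (f702713 IH)
theorem f153899 : Led Lsl_gt (LP (LK LD1_c21 LD2_c33 LD3_c31)) = (LP (LK LD1_c12 LD2_c26 LD3_c21)) :=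
  Lre_g IH (LK LD1_c21 LD2_c33 LD3_c31) (LK LD1_c12 LD2_c26 LD3_c21) Lrfl Lrfl
theorem f906912 : Led Lsl_df v18267 = v39182 :=
  Lgr Lrot78 (Lpe (f766024 IH) (Lpr_dt (f766015 IH) (Lpqs (f906901 IH) (Lpr_ft (f906862 IH) (Lpn v39182)))))
theorem f153984 : Led Lsl_cf (LP (LK LD1_c12 LD2_c20 LD3_c37)) = (LP (LK LD1_c12 LD2_c0 LD3_c25)) :=
  Lgr Lrot11 (Lpr_ct (K60.f153971 IH) (Lpn (LP (LK LD1_c12 LD2_c0 LD3_c25))))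
theorem f434890 : Led Lsl_bt (LP (LK LD1_c12 LD2_c59 LD3_c0)) = (LP (LK LD1_c6 LD2_c48 LD3_c10)) :=
  Lre_b IH (LK LD1_c12 LD2_c59 LD3_c0) (LK LD1_c6 LD2_c48 LD3_c10) Lrfl Lrfl
theorem f153742 : Led Lsl_bt (LP (LK LD1_c3 LD2_c9 LD3_c25)) = (LP (LK LD1_c1 LD2_c30 LD3_c51)) :=
  Lre_b IH (LK LD1_c3 LD2_c9 LD3_c25) (LK LD1_c1 LD2_c30 LD3_c51) Lrfl Lrfl
theorem f153832 : Led Lsl_ct (LP (LK LD1_c3 LD2_c9 LD3_c25)) = (LP (LK LD1_c6 LD2_c23 LD3_c39)) :=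
  Lre_c IH (LK LD1_c3 LD2_c9 LD3_c25) (LK LD1_c6 LD2_c23 LD3_c39) Lrfl Lrfl
theorem f153825 : Led Lsl_gt (LP (LK LD1_c12 LD2_c20 LD3_c43)) = (LP (LK LD1_c6 LD2_c23 LD3_c39)) :=
  Lre_g IH (LK LD1_c12 LD2_c20 LD3_c43) (LK LD1_c6 LD2_c23 LD3_c39) Lrfl Lrfl
theorem f434891 : Led Lsl_ct (LP (LK LD1_c12 LD2_c59 LD3_c0)) = (LP (LK LD1_c12 LD2_c20 LD3_c43)) :=
  Lgr Lrot64 (Lpr_bt (f434890 IH) (Lpe (K57.f84539 IH) (Lpe (K6.f84360 IH) (Lpr_ct (K6.f84091 IH) (Lpr_gf (K7.f154902 IH) (Lpe (K7.f154119 IH) (Lpe (K49.f154120 IH) (Lpe (f153742 IH) (Lpr_ct (f153832 IH) (Lpe (f153825 IH) (Lpn (LP (LK LD1_c12 LD2_c20 LD3_c43)))))))))))))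
theorem f153827 : Led Lsl_at (LP (LK LD1_c3 LD2_c11 LD3_c4)) = (LP (LK LD1_c6 LD2_c26 LD3_c24)) :=
  Lre_a IH (LK LD1_c3 LD2_c11 LD3_c4) (LK LD1_c6 LD2_c26 LD3_c24) Lrfl Lrfl
theorem f153828 : Led Lsl_at (LP (LK LD1_c12 LD2_c20 LD3_c36)) = (LP (LK LD1_c6 LD2_c23 LD3_c39)) :=
  Lre_a IH (LK LD1_c12 LD2_c20 LD3_c36) (LK LD1_c6 LD2_c23 LD3_c39) Lrfl Lrfl
theorem f153829 : Led Lsl_ft (LP (LK LD1_c6 LD2_c26 LD3_c24)) = (LP (LK LD1_c12 LD2_c20 LD3_c36)) :=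
  Lgr Lrot101 (Lpe (f153827 IH) (Lpr_ff (K16.f153822 IH) (Lpe (f153828 IH) (Lpn (LP (LK LD1_c12 LD2_c20 LD3_c36))))))
theorem f153943 : Led Lsl_gt (LP (LK LD1_c6 LD2_c26 LD3_c24)) = (LP (LK LD1_c12 LD2_c20 LD3_c43)) :=
  Lgr Lrot5 (Lpr_ft (f153829 IH) (Lpr_at (f153828 IH) (Lpe (f153825 IH) (Lpn (LP (LK LD1_c12 LD2_c20 LD3_c43))))))
theorem f153837 : Led Lsl_ct (LP (LK LD1_c3 LD2_c11 LD3_c56)) = (LP (LK LD1_c6 LD2_c26 LD3_c24)) :=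
  Lre_c IH (LK LD1_c3 LD2_c11 LD3_c56) (LK LD1_c6 LD2_c26 LD3_c24) Lrfl Lrfl
theorem f126787 : Led Lsl_at (LP (LK LD1_c21 LD2_c39 LD3_c22)) = (LP (LK LD1_c12 LD2_c33 LD3_c18)) :=
  Lre_a IH (LK LD1_c21 LD2_c39 LD3_c22) (LK LD1_c12 LD2_c33 LD3_c18) Lrfl Lrfl
theorem f126878 : Led Lsl_cf (LP (LK LD1_c21 LD2_c39 LD3_c22)) = (LP (LK LD1_c23 LD2_c36 LD3_c35)) :=
  Lgr Lrot1 (Lpr_at (f126787 IH) (Lpr_ct (K49.f126863 IH) (Lpr_at (f126877 IH) (Lpn (LP (LK LD1_c23 LD2_c36 LD3_c35))))))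
theorem f155929 : Led Lsl_af (LP (LK LD1_c3 LD2_c22 LD3_c18)) = (LP (LK LD1_c6 LD2_c32 LD3_c61)) :=
  Lgr Lrot109 (Lpe (K7.f153422 IH) (Lpe (K46.f146163 IH) (Lpe (K7.f146211 IH) (Lpe (K7.f155895 IH) (Lpe (K7.f135296 IH) (Lpe (K7.f155904 IH) (Lpr_cf (K7.f155918 IH) (Lpe (K5.f62552 IH) (Lpr_ft (K5.f126753 IH) (Lpn (LP (LK LD1_c6 LD2_c32 LD3_c61))))))))))))
theorem f135295 : Led Lsl_bt (LP (LK LD1_c3 LD2_c22 LD3_c18)) = (LP (LK LD1_c6 LD2_c48 LD3_c17)) :=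
  Lre_b IH (LK LD1_c3 LD2_c22 LD3_c18) (LK LD1_c6 LD2_c48 LD3_c17) Lrfl Lrfl
theorem f155934 : Led Lsl_bt (LP (LK LD1_c12 LD2_c59 LD3_c14)) = (LP (LK LD1_c21 LD2_c39 LD3_c22)) :=
  Lgr Lrot62 (Lpe (K6.f84265 IH) (Lpe (f135295 IH) (Lpr_af (f155929 IH) (Lpe (K49.f126748 IH) (Lpe (f126787 IH) (Lpn (LP (LK LD1_c21 LD2_c39 LD3_c22))))))))
theorem f155942 : Led Lsl_bf (LP (LK LD1_c12 LD2_c59 LD3_c14)) = (LP (LK LD1_c21 LD2_c39 LD3_c22)) :=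
  Lgr Lrot24 (Lpr_bt (f155934 IH) (Lpn (LP (LK LD1_c21 LD2_c39 LD3_c22))))
theorem f432255 : Led Lsl_bt (LP (LK LD1_c6 LD2_c48 LD3_c24)) = (LP (LK LD1_c9 LD2_c32 LD3_c61)) :=
  Lgr Lrot128 (Lpe (K5.f84251 IH) (Lpr_bf (f155942 IH) (Lpr_cf (f126878 IH) (Lpr_bf (f432241 IH) (Lpe (f121451 IH) (Lpn (LP (LK LD1_c9 LD2_c32 LD3_c61))))))))
theorem f84259 : Led Lsl_ct (LP (LK LD1_c6 LD2_c48 LD3_c24)) = (LP (LK LD1_c12 LD2_c59 LD3_c14)) :=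
  Lre_c IH (LK LD1_c6 LD2_c48 LD3_c24) (LK LD1_c12 LD2_c59 LD3_c14) Lrfl Lrfl
theorem f438786 : Led Lsl_gf (LP (LK LD1_c12 LD2_c0 LD3_c25)) = (LP (LK LD1_c12 LD2_c59 LD3_c14)) :=
  Lgr Lrot126 (Lpe (K60.f153971 IH) (Lpr_bt (K60.f153873 IH) (Lpe (f153866 IH) (Lpr_ct (f153837 IH) (Lpr_gt (f153943 IH) (Lpe (f434891 IH) (Lpr_bt (f434890 IH) (Lpr_gt (f438784 IH) (Lpe (f432255 IH) (Lpr_ct (f84259 IH) (Lpn (LP (LK LD1_c12 LD2_c59 LD3_c14)))))))))))))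
theorem f135176 : Led Lsl_ft (LP (LK LD1_c3 LD2_c1 LD3_c21)) = (LP (LK LD1_c3 LD2_c22 LD3_c20)) :=
  Lgr Lrot142 (Lpr_dt (K5.f86366 IH) (Lpr_ct (K5.f86363 IH) (Lpr_dt (K5.f86416 IH) (Lpr_ct (K5.f86417 IH) (Lpr_dt (K5.f135172 IH) (Lpr_ct (K5.f84253 IH) (Lpr_dt (K5.f84252 IH) (Lpr_ct (K5.f84251 IH) (Lpe (K5.f84216 IH) (Lpn (LP (LK LD1_c3 LD2_c22 LD3_c20))))))))))))
theorem f438865 : Led Lsl_gt (LP (LK LD1_c6 LD2_c9 LD3_c45)) = (LP (LK LD1_c6 LD2_c48 LD3_c24)) :=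
  Lgr Lrot46 (Lpe (K60.f62564 IH) (Lpr_ft (f135176 IH) (Lpr_at (K5.f84216 IH) (Lpn (LP (LK LD1_c6 LD2_c48 LD3_c24))))))
theorem f84404 : Led Lsl_gt (LP (LK LD1_c12 LD2_c58 LD3_c58)) = (LP (LK LD1_c6 LD2_c48 LD3_c8)) :=
  Lre_g IH (LK LD1_c12 LD2_c58 LD3_c58) (LK LD1_c6 LD2_c48 LD3_c8) Lrfl Lrfl
theorem f432271 : Led Lsl_gf (LP (LK LD1_c12 LD2_c58 LD3_c58)) = (LP (LK LD1_c14 LD2_c56 LD3_c41)) :=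
  Lgr Lrot47 (Lpr_gt (f84404 IH) (Lpe (K6.f84406 IH) (Lpr_ff (f432263 IH) (Lpn (LP (LK LD1_c14 LD2_c56 LD3_c41))))))
theorem f907365 : Led Lsl_cf v39182 = (LP (LK LD1_c12 LD2_c58 LD3_c58)) :=
  Lgr Lrot175 (Lpe (f906912 IH) (Lpq (f907049 IH) (Lpr_cf (f153984 IH) (Lpr_gf (f438786 IH) (Lpe (f84259 IH) (Lpe (f438865 IH) (Lpr_dt (K60.f753842 IH) (Lpqs (K60.f782818 IH) (Lpr_gt (f438784 IH) (Lpr_ct (f121451 IH) (Lpe (f432271 IH) (Lpn (LP (LK LD1_c12 LD2_c58 LD3_c58))))))))))))))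
theorem f907368 : Led Lsl_ct v39182 = (LP (LK LD1_c12 LD2_c58 LD3_c58)) :=
  Lgr Lrot59 (Lpr_cf (f907365 IH) (Lpn (LP (LK LD1_c12 LD2_c58 LD3_c58))))
theorem f906863 : Led Lsl_bf v13395 = v39182 :=
  Lgr Lrot61 (Lpe (f702724 IH) (Lpr_bt (f135476 IH) (Lpr_ft (f906862 IH) (Lpn v39182))))
def v13399 : LQ := Led Lsl_gf (LP (LK LD1_c4 LD2_c43 LD3_c42))
theorem f702737 : Led Lsl_gf (LP (LK LD1_c4 LD2_c43 LD3_c42)) = v13399 :=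
  Lrfl
theorem f907382 : v13395 = v13399 :=
  (Llr Lrot22 (Lpr_bf (f906863 IH) (Lpr_ct (f907368 IH) (Lpr_gf (f432271 IH) (Lpe (f121451 IH) (Lpe (f438784 IH) (Lpe (f434890 IH) (Lpr_ct (f434891 IH) (Lpe (f153943 IH) (Lpe (f153837 IH) (Lpr_bt (K16.f154517 IH) (Lpr_gf (f702737 IH) (Lpn v13399))))))))))))).symm
def v13398 : LQ := Led Lsl_gt (LP (LK LD1_c4 LD2_c43 LD3_c42))
theorem f702735 : Led Lsl_gt (LP (LK LD1_c4 LD2_c43 LD3_c42)) = v13398 :=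
  Lrfl
theorem f907383 : v13392 = v13398 :=
  (Llr Lrot26 (Lpe (f702710 IH) (Lpr_ff (f702724 IH) (Lpqs (f907382 IH) (Lpe (f702737 IH) (Lpr_gt (f702735 IH) (Lpn v13398))))))).symm
theorem f702189 : Led Lsl_ft (LP (LK LD1_c4 LD2_c43 LD3_c42)) = v13292 :=
  Lgr Lrot48 (Lpr_ff (f702186 IH) (Lpn v13292))
def v4297 : LQ := Led Lsl_dt (LP (LK LD1_c2 LD2_c18 LD3_c34))
theorem f632492 : Led Lsl_dt (LP (LK LD1_c2 LD2_c18 LD3_c34)) = v4297 :=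
  Lrfl
theorem f632494 : Led Lsl_df (LP (LK LD1_c2 LD2_c18 LD3_c34)) = v4297 :=
  Lgr Lrot38 (Lpr_dt (f632492 IH) (Lpn v4297))
theorem f702183 : Led Lsl_af v4297 = v13292 :=
  Lgr Lrot117 (Lpe (f632494 IH) (Lpr_at (K60.f154490 IH) (Lpr_dt (f702182 IH) (Lpn v13292))))
theorem f702736 : Led Lsl_gf v4297 = v13398 :=
  Lgr Lrot76 (Lpr_af (f702183 IH) (Lpe (f702189 IH) (Lpr_gt (f702735 IH) (Lpn v13398))))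
theorem f154628 : Led Lsl_et (LP (LK LD1_c2 LD2_c18 LD3_c34)) = (LP (LK LD1_c4 LD2_c42 LD3_c13)) :=
  Lre_e IH (LK LD1_c2 LD2_c18 LD3_c34) (LK LD1_c4 LD2_c42 LD3_c13) Lrfl Lrfl
theorem f500110 : Led Lsl_gt (LP (LK LD1_c4 LD2_c42 LD3_c13)) = (LP (LK LD1_c9 LD2_c18 LD3_c46)) :=
  Lre_g IH (LK LD1_c4 LD2_c42 LD3_c13) (LK LD1_c9 LD2_c18 LD3_c46) Lrfl Lrfl
theorem f632497 : Led Lsl_et (LP (LK LD1_c17 LD2_c14 LD3_c4)) = (LP (LK LD1_c9 LD2_c18 LD3_c46)) :=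
  Lre_e IH (LK LD1_c17 LD2_c14 LD3_c4) (LK LD1_c9 LD2_c18 LD3_c46) Lrfl Lrfl
theorem f907384 : Led Lsl_df (LP (LK LD1_c21 LD2_c33 LD3_c31)) = (LP (LK LD1_c17 LD2_c14 LD3_c4)) :=
  Lgr Lrot170 (Lpr_gt (f153899 IH) (Lpe (K16.f153878 IH) (Lpr_et (K16.f153877 IH) (Lpr_gt (f153886 IH) (Lpq (f907070 IH) (Lpr_dt (f829589 IH) (Lpqs (f906899 IH) (Lpqs (f907383 IH) (Lpe (f702736 IH) (Lpe (f632492 IH) (Lpr_et (f154628 IH) (Lpr_gt (f500110 IH) (Lpe (f632497 IH) (Lpn (LP (LK LD1_c17 LD2_c14 LD3_c4))))))))))))))))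
theorem f907385 : Led Lsl_dt (LP (LK LD1_c17 LD2_c14 LD3_c4)) = (LP (LK LD1_c21 LD2_c33 LD3_c31)) :=
  Leop (Lpr_df (f907384 IH) (Lpn (LP (LK LD1_c17 LD2_c14 LD3_c4))))
theorem seed_2290 : LEOK LG_d (LK LD1_c17 LD2_c14 LD3_c4) :=
  Leoe_d (LK LD1_c17 LD2_c14 LD3_c4) (f907385 IH)
theorem f829591 : Led Lsl_df K57.v5673 = v25620 :=
  Lgr Lrot38 (Lpr_dt (f829589 IH) (Lpn v25620))
theorem f82809 : Led Lsl_dt (LP (LK LD1_c17 LD2_c14 LD3_c31)) = (LP (LK LD1_c27 LD2_c4 LD3_c45)) :=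
  Lre_d IH (LK LD1_c17 LD2_c14 LD3_c31) (LK LD1_c27 LD2_c4 LD3_c45) Lrfl Lrfl
theorem f907390 : Led Lsl_gf (LP (LK LD1_c21 LD2_c26 LD3_c52)) = (LP (LK LD1_c27 LD2_c4 LD3_c45)) :=
  Lgr Lrot143 (Lpr_dt (f153892 IH) (Lpe (f153891 IH) (Lpq (f907070 IH) (Lpr_df (f829591 IH) (Lpqs (f906899 IH) (Lpqs (f907383 IH) (Lpe (f702735 IH) (Lpe (K16.f154497 IH) (Lpr_gf (K60.f154447 IH) (Lpe (K60.f131351 IH) (Lpr_gt (K60.f82798 IH) (Lpr_dt (f82809 IH) (Lpn (LP (LK LD1_c27 LD2_c4 LD3_c45)))))))))))))))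
theorem f907391 : Led Lsl_gt (LP (LK LD1_c27 LD2_c4 LD3_c45)) = (LP (LK LD1_c21 LD2_c26 LD3_c52)) :=
  Leop (Lpr_gf (f907390 IH) (Lpn (LP (LK LD1_c27 LD2_c4 LD3_c45))))
theorem seed_2291 : LEOK LG_g (LK LD1_c27 LD2_c4 LD3_c45) :=
  Leoe_g (LK LD1_c27 LD2_c4 LD3_c45) (f907391 IH)
def v25625 : LQ := Led Lsl_ft v5674
theorem f829602 : Led Lsl_ft v5674 = v25625 :=
  Lrfl
theorem f829605 : Led Lsl_ff v5674 = v25625 :=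
  Lgr Lrot3 (Lpr_ft (f829602 IH) (Lpn v25625))
theorem f829594 : Led Lsl_at v5674 = v25620 :=
  Lgr Lrot51 (Lpe (f648789 IH) (Lpr_af (K57.f648783 IH) (Lpr_df (f829591 IH) (Lpn v25620))))
theorem f829607 : Led Lsl_at v5676 = v25625 :=
  Lgr Lrot66 (Lpr_ff (f829592 IH) (Lpe (f829594 IH) (Lpr_ff (f829605 IH) (Lpn v25625))))
theorem f906891 : v25625 = v13395 :=
  Lefun (Lecon (f829607 IH) (f906888 IH)) (f702725 IH)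
theorem f829604 : Led Lsl_df v5675 = v25625 :=
  Lgr Lrot78 (Lpe (f648795 IH) (Lpr_dt (f648789 IH) (Lpr_ft (f829602 IH) (Lpn v25625))))
theorem f762632 : Led Lsl_dt (LP (LK LD1_c21 LD2_c26 LD3_c48)) = (LP (LK LD1_c12 LD2_c20 LD3_c38)) :=
  Lre_d IH (LK LD1_c21 LD2_c26 LD3_c48) (LK LD1_c12 LD2_c20 LD3_c38) Lrfl Lrfl
theorem f153463 : Led Lsl_dt (LP (LK LD1_c2 LD2_c19 LD3_c36)) = (LP (LK LD1_c3 LD2_c22 LD3_c30)) :=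
  Lgr Lrot79 (Lpe (K16.f61262 IH) (Lpr_df (K7.f153453 IH) (Lpe (K60.f25430 IH) (Lpn (LP (LK LD1_c3 LD2_c22 LD3_c30))))))
theorem f632495 : Led Lsl_ff (LP (LK LD1_c2 LD2_c19 LD3_c36)) = v4297 :=
  Lgr Lrot19 (Lpr_dt (f153463 IH) (Lpr_ft (K60.f154415 IH) (Lpr_dt (f632492 IH) (Lpn v4297))))
theorem f702738 : Led Lsl_gt v4297 = v13399 :=
  Lgr Lrot5 (Lpe (f632495 IH) (Lpr_at (K16.f153735 IH) (Lpr_gf (f702737 IH) (Lpn v13399))))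
theorem f154453 : Led Lsl_dt (LP (LK LD1_c17 LD2_c14 LD3_c32)) = (LP (LK LD1_c27 LD2_c4 LD3_c46)) :=
  Lre_d IH (LK LD1_c17 LD2_c14 LD3_c32) (LK LD1_c27 LD2_c4 LD3_c46) Lrfl Lrfl
theorem f907394 : Led Lsl_gf (LP (LK LD1_c21 LD2_c26 LD3_c48)) = (LP (LK LD1_c27 LD2_c4 LD3_c46)) :=
  Lgr Lrot143 (Lpr_dt (f762632 IH) (Lpe (f153872 IH) (Lpq (f907052 IH) (Lpr_df (f829604 IH) (Lpqs (f906891 IH) (Lpqs (f907382 IH) (Lpe (f702738 IH) (Lpe (f632492 IH) (Lpe (K3.f82825 IH) (Lpe (K57.f154624 IH) (Lpe (K60.f783160 IH) (Lpr_dt (f154453 IH) (Lpn (LP (LK LD1_c27 LD2_c4 LD3_c46)))))))))))))))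
theorem f907395 : Led Lsl_gt (LP (LK LD1_c27 LD2_c4 LD3_c46)) = (LP (LK LD1_c21 LD2_c26 LD3_c48)) :=
  Leop (Lpr_gf (f907394 IH) (Lpn (LP (LK LD1_c27 LD2_c4 LD3_c46))))
theorem seed_2292 : LEOK LG_g (LK LD1_c27 LD2_c4 LD3_c46) :=
  Leoe_g (LK LD1_c27 LD2_c4 LD3_c46) (f907395 IH)
def v39190 : LQ := Led Lsl_ft (LP (LK LD1_c9 LD2_c20 LD3_c34))
theorem f907399 : Led Lsl_ft (LP (LK LD1_c9 LD2_c20 LD3_c34)) = v39190 :=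
  Lrfl
theorem f907403 : Led Lsl_ff (LP (LK LD1_c9 LD2_c20 LD3_c34)) = v39190 :=
  Lgr Lrot3 (Lpr_ft (f907399 IH) (Lpn v39190))
def v18278 : LQ := Led Lsl_ft (LP (LK LD1_c6 LD2_c28 LD3_c3))
theorem f766072 : Led Lsl_ft (LP (LK LD1_c6 LD2_c28 LD3_c3)) = v18278 :=
  Lrfl
theorem f907406 : Led Lsl_dt v18278 = v39190 :=
  Lgr Lrot60 (Lpe (f766072 IH) (Lpr_df (f766066 IH) (Lpqs (f906884 IH) (Lpr_ff (f907403 IH) (Lpn v39190)))))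
theorem f766074 : Led Lsl_ff (LP (LK LD1_c6 LD2_c28 LD3_c3)) = v18278 :=
  Lgr Lrot3 (Lpr_ft (f766072 IH) (Lpn v18278))
theorem f766075 : Led Lsl_bt K57.v5673 = v18278 :=
  Lgr Lrot35 (Lpe (K57.f648787 IH) (Lpe (f67164 IH) (Lpr_ff (f766074 IH) (Lpn v18278))))
theorem f762634 : Led Lsl_bt (LP (LK LD1_c6 LD2_c23 LD3_c38)) = (LP (LK LD1_c12 LD2_c20 LD3_c40)) :=
  Lre_b IH (LK LD1_c6 LD2_c23 LD3_c38) (LK LD1_c12 LD2_c20 LD3_c40) Lrfl Lrfl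
theorem f907075 : v18278 = (LP (LK LD1_c12 LD2_c20 LD3_c40)) :=
  Lefun (Lecon (f766075 IH) (f907070 IH)) (f762634 IH)
theorem f434495 : Led Lsl_ct (LP (LK LD1_c21 LD2_c26 LD3_c50)) = (LP (LK LD1_c12 LD2_c20 LD3_c40)) :=
  Lre_c IH (LK LD1_c21 LD2_c26 LD3_c50) (LK LD1_c12 LD2_c20 LD3_c40) Lrfl Lrfl
theorem f135315 : Led Lsl_ct (LP (LK LD1_c9 LD2_c18 LD3_c52)) = (LP (LK LD1_c17 LD2_c14 LD3_c11)) :=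
  Lre_c IH (LK LD1_c9 LD2_c18 LD3_c52) (LK LD1_c17 LD2_c14 LD3_c11) Lrfl Lrfl
theorem f153897 : Led Lsl_bt (LP (LK LD1_c12 LD2_c20 LD3_c40)) = (LP (LK LD1_c6 LD2_c23 LD3_c38)) :=
  Lre_b IH (LK LD1_c12 LD2_c20 LD3_c40) (LK LD1_c6 LD2_c23 LD3_c38) Lrfl Lrfl
theorem f153898 : Led Lsl_ct (LP (LK LD1_c12 LD2_c20 LD3_c40)) = (LP (LK LD1_c21 LD2_c26 LD3_c50)) :=
  Lre_c IH (LK LD1_c12 LD2_c20 LD3_c40) (LK LD1_c21 LD2_c26 LD3_c50) Lrfl Lrfl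
theorem f434477 : Led Lsl_gt (LP (LK LD1_c17 LD2_c14 LD3_c11)) = (LP (LK LD1_c21 LD2_c26 LD3_c50)) :=
  Lgr Lrot149 (Lpe (f135315 IH) (Lpe (f104706 IH) (Lpe (f61266 IH) (Lpr_ct (K6.f61259 IH) (Lpr_gf (f434442 IH) (Lpe (K16.f153465 IH) (Lpr_bt (K60.f153858 IH) (Lpe (f153885 IH) (Lpe (f153897 IH) (Lpr_ct (f153898 IH) (Lpn (LP (LK LD1_c21 LD2_c26 LD3_c50)))))))))))))
theorem f135316 : Led Lsl_ct (LP (LK LD1_c6 LD2_c22 LD3_c39)) = (LP (LK LD1_c12 LD2_c18 LD3_c49)) :=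
  Lre_c IH (LK LD1_c6 LD2_c22 LD3_c39) (LK LD1_c12 LD2_c18 LD3_c49) Lrfl Lrfl
theorem f135317 : Led Lsl_gt (LP (LK LD1_c12 LD2_c18 LD3_c49)) = (LP (LK LD1_c21 LD2_c24 LD3_c46)) :=
  Lre_g IH (LK LD1_c12 LD2_c18 LD3_c49) (LK LD1_c21 LD2_c24 LD3_c46) Lrfl Lrfl
theorem f907409 : Led Lsl_ct (LP (LK LD1_c21 LD2_c24 LD3_c46)) = v39190 :=
  Lgr Lrot151 (Lpe (f135317 IH) (Lpe (f135316 IH) (Lpe (K49.f104607 IH) (Lpe (K49.f135306 IH) (Lpr_gt (f104706 IH) (Lpr_ct (f135315 IH) (Lpr_gt (f434477 IH) (Lpr_ct (f434495 IH) (Lpq (f907075 IH) (Lpr_dt (f907406 IH) (Lpn v39190)))))))))))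
theorem f907113 : Led Lsl_ff (LP (LK LD1_c12 LD2_c27 LD3_c30)) = (LP (LK LD1_c21 LD2_c26 LD3_c50)) :=
  Lgr Lrot23 (Lpr_ct (f67328 IH) (Lpr_ft (f766072 IH) (Lpqs (f907075 IH) (Lpr_ct (f153898 IH) (Lpn (LP (LK LD1_c21 LD2_c26 LD3_c50)))))))
theorem f907119 : Led Lsl_ft (LP (LK LD1_c12 LD2_c27 LD3_c30)) = (LP (LK LD1_c21 LD2_c26 LD3_c50)) :=
  Lgr Lrot48 (Lpr_ff (f907113 IH) (Lpn (LP (LK LD1_c21 LD2_c26 LD3_c50))))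
theorem f67322 : Led Lsl_at (LP (LK LD1_c21 LD2_c34 LD3_c58)) = (LP (LK LD1_c12 LD2_c27 LD3_c30)) :=
  Lre_a IH (LK LD1_c21 LD2_c34 LD3_c58) (LK LD1_c12 LD2_c27 LD3_c30) Lrfl Lrfl
theorem f67321 : Led Lsl_gt (LP (LK LD1_c21 LD2_c25 LD3_c44)) = (LP (LK LD1_c12 LD2_c19 LD3_c29)) :=
  Lre_g IH (LK LD1_c21 LD2_c25 LD3_c44) (LK LD1_c12 LD2_c19 LD3_c29) Lrfl Lrfl
theorem f67323 : Led Lsl_ft (LP (LK LD1_c21 LD2_c25 LD3_c44)) = (LP (LK LD1_c21 LD2_c34 LD3_c58)) :=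
  Lgr Lrot2 (Lpr_gt (f67321 IH) (Lpr_gt (f67166 IH) (Lpe (f67322 IH) (Lpn (LP (LK LD1_c21 LD2_c34 LD3_c58))))))
theorem f907121 : Led Lsl_af (LP (LK LD1_c21 LD2_c25 LD3_c44)) = (LP (LK LD1_c21 LD2_c26 LD3_c50)) :=
  Lgr Lrot45 (Lpr_ft (f67323 IH) (Lpr_at (f67322 IH) (Lpr_ft (f907119 IH) (Lpn (LP (LK LD1_c21 LD2_c26 LD3_c50))))))
theorem f762643 : Led Lsl_at (LP (LK LD1_c21 LD2_c26 LD3_c49)) = (LP (LK LD1_c12 LD2_c20 LD3_c40)) :=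
  Lre_a IH (LK LD1_c21 LD2_c26 LD3_c49) (LK LD1_c12 LD2_c20 LD3_c40) Lrfl Lrfl
theorem f907123 : Led Lsl_ct (LP (LK LD1_c21 LD2_c25 LD3_c44)) = (LP (LK LD1_c21 LD2_c26 LD3_c49)) :=
  Lgr Lrot111 (Lpr_af (f907121 IH) (Lpe (f153898 IH) (Lpe (f762643 IH) (Lpn (LP (LK LD1_c21 LD2_c26 LD3_c49))))))
theorem f762644 : Led Lsl_at (LP (LK LD1_c12 LD2_c20 LD3_c40)) = (LP (LK LD1_c21 LD2_c26 LD3_c49)) :=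
  Lre_a IH (LK LD1_c12 LD2_c20 LD3_c40) (LK LD1_c21 LD2_c26 LD3_c49) Lrfl Lrfl
theorem f907115 : Led Lsl_gt (LP (LK LD1_c12 LD2_c27 LD3_c28)) = (LP (LK LD1_c21 LD2_c26 LD3_c49)) :=
  Lgr Lrot46 (Lpe (f67329 IH) (Lpr_ft (f766072 IH) (Lpqs (f907075 IH) (Lpr_at (f762644 IH) (Lpn (LP (LK LD1_c21 LD2_c26 LD3_c49)))))))
theorem f647485 : Led Lsl_cf (LP (LK LD1_c12 LD2_c27 LD3_c28)) = (LP (LK LD1_c13 LD2_c37 LD3_c13)) :=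
  Lgr Lrot11 (Lpr_ct (f647481 IH) (Lpn (LP (LK LD1_c13 LD2_c37 LD3_c13))))
theorem f76748 : Led Lsl_bt (LP (LK LD1_c6 LD2_c50 LD3_c58)) = (LP (LK LD1_c13 LD2_c2 LD3_c6)) :=
  Lre_b IH (LK LD1_c6 LD2_c50 LD3_c58) (LK LD1_c13 LD2_c2 LD3_c6) Lrfl Lrfl
theorem f907127 : Led Lsl_bt (LP (LK LD1_c21 LD2_c25 LD3_c44)) = (LP (LK LD1_c22 LD2_c11 LD3_c49)) :=
  Lgr Lrot22 (Lpr_ct (f907123 IH) (Lpe (f907115 IH) (Lpr_cf (f647485 IH) (Lpe (f430179 IH) (Lpe (K49.f430178 IH) (Lpr_ct (K11.f154373 IH) (Lpe (K11.f430184 IH) (Lpe (K6.f76747 IH) (Lpr_bt (f76748 IH) (Lpe (K6.f94191 IH) (Lpn (LP (LK LD1_c22 LD2_c11 LD3_c49)))))))))))))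
theorem f67349 : Led Lsl_ff (LP (LK LD1_c21 LD2_c25 LD3_c44)) = (LP (LK LD1_c21 LD2_c34 LD3_c58)) :=
  Lgr Lrot3 (Lpr_ft (f67323 IH) (Lpn (LP (LK LD1_c21 LD2_c34 LD3_c58))))
theorem f153871 : Led Lsl_gt (LP (LK LD1_c12 LD2_c20 LD3_c38)) = (LP (LK LD1_c21 LD2_c26 LD3_c46)) :=
  Lre_g IH (LK LD1_c12 LD2_c20 LD3_c38) (LK LD1_c21 LD2_c26 LD3_c46) Lrfl Lrfl
theorem f907101 : Led Lsl_gt (LP (LK LD1_c21 LD2_c26 LD3_c46)) = (LP (LK LD1_c12 LD2_c20 LD3_c41)) :=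
  Lgr Lrot46 (Lpe (f153871 IH) (Lpq (f907058 IH) (Lpe (f766049 IH) (Lpr_at (K57.f766026 IH) (Lpqs (f907080 IH) (Lpn (LP (LK LD1_c12 LD2_c20 LD3_c41))))))))
def v39037 : LQ := Led Lsl_bt (LP (LK LD1_c9 LD2_c19 LD3_c1))
theorem f906095 : Led Lsl_bt (LP (LK LD1_c9 LD2_c19 LD3_c1)) = v39037 :=
  Lrfl
theorem f783101 : Led Lsl_ff (LP (LK LD1_c9 LD2_c19 LD3_c9)) = (LP (LK LD1_c12 LD2_c20 LD3_c28)) :=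
  Lgr Lrot3 (Lpr_ft (K60.f783095 IH) (Lpn (LP (LK LD1_c12 LD2_c20 LD3_c28))))
theorem f783090 : Led Lsl_at (LP (LK LD1_c9 LD2_c19 LD3_c9)) = (LP (LK LD1_c13 LD2_c0 LD3_c1)) :=
  Lgr Lrot51 (Lpr_df (K60.f783088 IH) (Lpe (K60.f765804 IH) (Lpr_df (K60.f84119 IH) (Lpn (LP (LK LD1_c13 LD2_c0 LD3_c1))))))
theorem f783870 : Led Lsl_gf (LP (LK LD1_c13 LD2_c0 LD3_c1)) = (LP (LK LD1_c21 LD2_c10 LD3_c11)) :=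
  Lgr Lrot76 (Lpe (f783090 IH) (Lpr_ff (f783101 IH) (Lpr_gt (K60.f783868 IH) (Lpn (LP (LK LD1_c21 LD2_c10 LD3_c11))))))
theorem f783876 : Led Lsl_ff (LP (LK LD1_c13 LD2_c0 LD3_c2)) = (LP (LK LD1_c21 LD2_c10 LD3_c11)) :=
  Lgr Lrot52 (Lpr_at (K60.f84071 IH) (Lpe (K60.f84086 IH) (Lpr_gf (f783870 IH) (Lpn (LP (LK LD1_c21 LD2_c10 LD3_c11))))))
theorem f430943 : Led Lsl_gt (LP (LK LD1_c1 LD2_c39 LD3_c4)) = (LP (LK LD1_c1 LD2_c40 LD3_c52)) :=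
  Lgr Lrot46 (Lpr_gf (K11.f430941 IH) (Lpr_ft (K3.f88773 IH) (Lpr_at (K2.f19386 IH) (Lpn (LP (LK LD1_c1 LD2_c40 LD3_c52))))))
theorem f432604 : Led Lsl_gf (LP (LK LD1_c6 LD2_c18 LD3_c59)) = (LP (LK LD1_c6 LD2_c53 LD3_c4)) :=
  Lgr Lrot104 (Lpr_ct (K3.f90130 IH) (Lpe (K2.f66815 IH) (Lpr_cf (K2.f90127 IH) (Lpe (f430943 IH) (Lpe (K11.f430940 IH) (Lpr_gf (K11.f430951 IH) (Lpe (K7.f430103 IH) (Lpr_gt (K33.f432600 IH) (Lpr_ct (K33.f121342 IH) (Lpn (LP (LK LD1_c6 LD2_c53 LD3_c4))))))))))))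
theorem f90395 : Led Lsl_gt (LP (LK LD1_c6 LD2_c18 LD3_c59)) = (LP (LK LD1_c12 LD2_c13 LD3_c44)) :=
  Lre_g IH (LK LD1_c6 LD2_c18 LD3_c59) (LK LD1_c12 LD2_c13 LD3_c44) Lrfl Lrfl
theorem f83639 : Led Lsl_ct (LP (LK LD1_c6 LD2_c27 LD3_c31)) = (LP (LK LD1_c3 LD2_c11 LD3_c40)) :=
  Lre_c IH (LK LD1_c6 LD2_c27 LD3_c31) (LK LD1_c3 LD2_c11 LD3_c40) Lrfl Lrfl
theorem f108858 : Led Lsl_ct (LP (LK LD1_c6 LD2_c26 LD3_c11)) = (LP (LK LD1_c12 LD2_c24 LD3_c24)) :=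
  Lre_c IH (LK LD1_c6 LD2_c26 LD3_c11) (LK LD1_c12 LD2_c24 LD3_c24) Lrfl Lrfl
theorem f430142 : Led Lsl_gf (LP (LK LD1_c6 LD2_c27 LD3_c31)) = (LP (LK LD1_c12 LD2_c24 LD3_c24)) :=
  Lgr Lrot104 (Lpr_ct (f83639 IH) (Lpe (K7.f429658 IH) (Lpr_cf (K7.f429047 IH) (Lpe (K11.f94096 IH) (Lpr_cf (K11.f430136 IH) (Lpe (K11.f94656 IH) (Lpe (K5.f92263 IH) (Lpe (K7.f108856 IH) (Lpr_ct (f108858 IH) (Lpn (LP (LK LD1_c12 LD2_c24 LD3_c24))))))))))))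
theorem f156268 : Led Lsl_gf (LP (LK LD1_c3 LD2_c35 LD3_c10)) = (LP (LK LD1_c6 LD2_c26 LD3_c11)) :=
  Lgr Lrot147 (Lpr_ct (K33.f156233 IH) (Lpr_gt (K7.f83472 IH) (Lpr_ct (K2.f83466 IH) (Lpe (K2.f83594 IH) (Lpe (K2.f11932 IH) (Lpe (K4.f12646 IH) (Lpe (K4.f19177 IH) (Lpe (K4.f83943 IH) (Lpe (K7.f83945 IH) (Lpn (LP (LK LD1_c6 LD2_c26 LD3_c11))))))))))))
theorem f121348 : Led Lsl_ff (LP (LK LD1_c3 LD2_c25 LD3_c30)) = (LP (LK LD1_c6 LD2_c26 LD3_c11)) :=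
  Lgr Lrot19 (Lpr_dt (K33.f26126 IH) (Lpr_ft (K4.f121340 IH) (Lpr_dt (K7.f83947 IH) (Lpn (LP (LK LD1_c6 LD2_c26 LD3_c11))))))
theorem f156270 : Led Lsl_af (LP (LK LD1_c3 LD2_c43 LD3_c2)) = (LP (LK LD1_c3 LD2_c25 LD3_c30)) :=
  Lgr Lrot31 (Lpr_gf (K11.f156195 IH) (Lpr_gf (f156268 IH) (Lpe (f121348 IH) (Lpn (LP (LK LD1_c3 LD2_c25 LD3_c30))))))
theorem f156272 : Led Lsl_at (LP (LK LD1_c7 LD2_c26 LD3_c47)) = (LP (LK LD1_c6 LD2_c53 LD3_c4)) :=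
  Lgr Lrot107 (Lpe (K5.f86756 IH) (Lpr_af (f156270 IH) (Lpe (K33.f106155 IH) (Lpn (LP (LK LD1_c6 LD2_c53 LD3_c4))))))
theorem f156274 : Led Lsl_af (LP (LK LD1_c7 LD2_c26 LD3_c47)) = (LP (LK LD1_c6 LD2_c53 LD3_c4)) :=
  Lgr Lrot0 (Lpr_at (f156272 IH) (Lpn (LP (LK LD1_c6 LD2_c53 LD3_c4))))
theorem f430144 : Led Lsl_ff (LP (LK LD1_c6 LD2_c53 LD3_c4)) = (LP (LK LD1_c12 LD2_c24 LD3_c24)) :=
  Lgr Lrot52 (Lpe (f156274 IH) (Lpr_gf (K5.f86749 IH) (Lpr_gf (f430142 IH) (Lpn (LP (LK LD1_c12 LD2_c24 LD3_c24))))))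
theorem f430146 : Led Lsl_ft (LP (LK LD1_c6 LD2_c53 LD3_c4)) = (LP (LK LD1_c12 LD2_c24 LD3_c24)) :=
  Lgr Lrot48 (Lpr_ff (f430144 IH) (Lpn (LP (LK LD1_c12 LD2_c24 LD3_c24))))
theorem f432661 : Led Lsl_af (LP (LK LD1_c12 LD2_c13 LD3_c44)) = (LP (LK LD1_c12 LD2_c24 LD3_c24)) :=
  Lgr Lrot31 (Lpe (f90395 IH) (Lpr_gf (f432604 IH) (Lpr_ft (f430146 IH) (Lpn (LP (LK LD1_c12 LD2_c24 LD3_c24))))))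
theorem f432666 : Led Lsl_ft (LP (LK LD1_c12 LD2_c13 LD3_c44)) = (LP (LK LD1_c7 LD2_c26 LD3_c47)) :=
  Lgr Lrot101 (Lpr_af (f432661 IH) (Lpe (f430146 IH) (Lpe (f156272 IH) (Lpn (LP (LK LD1_c7 LD2_c26 LD3_c47))))))
theorem f124286 : Led Lsl_ct (LP (LK LD1_c14 LD2_c2 LD3_c39)) = (LP (LK LD1_c7 LD2_c25 LD3_c38)) :=
  Lre_c IH (LK LD1_c14 LD2_c2 LD3_c39) (LK LD1_c7 LD2_c25 LD3_c38) Lrfl Lrfl
theorem f432674 : Led Lsl_dt (LP (LK LD1_c12 LD2_c13 LD3_c44)) = (LP (LK LD1_c14 LD2_c2 LD3_c39)) :=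
  Lgr Lrot159 (Lpr_ft (f432666 IH) (Lpr_at (f156272 IH) (Lpe (K33.f121342 IH) (Lpe (K7.f26128 IH) (Lpr_cf (K5.f124303 IH) (Lpe (K5.f120873 IH) (Lpe (K5.f120866 IH) (Lpe (K7.f124268 IH) (Lpe (f124286 IH) (Lpn (LP (LK LD1_c14 LD2_c2 LD3_c39))))))))))))
theorem f432670 : Led Lsl_ff (LP (LK LD1_c12 LD2_c13 LD3_c44)) = (LP (LK LD1_c7 LD2_c26 LD3_c47)) :=
  Lgr Lrot3 (Lpr_ft (f432666 IH) (Lpn (LP (LK LD1_c7 LD2_c26 LD3_c47))))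
theorem f432681 : Led Lsl_ff (LP (LK LD1_c14 LD2_c4 LD3_c24)) = (LP (LK LD1_c14 LD2_c2 LD3_c39)) :=
  Lgr Lrot19 (Lpr_dt (K7.f86763 IH) (Lpe (f432670 IH) (Lpr_dt (f432674 IH) (Lpn (LP (LK LD1_c14 LD2_c2 LD3_c39))))))
theorem f156280 : Led Lsl_bt (LP (LK LD1_c14 LD2_c4 LD3_c24)) = (LP (LK LD1_c23 LD2_c37 LD3_c49)) :=
  Lre_b IH (LK LD1_c14 LD2_c4 LD3_c24) (LK LD1_c23 LD2_c37 LD3_c49) Lrfl Lrfl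
theorem f432684 : Led Lsl_bt (LP (LK LD1_c23 LD2_c35 LD3_c38)) = (LP (LK LD1_c14 LD2_c2 LD3_c39)) :=
  Lre_b IH (LK LD1_c23 LD2_c35 LD3_c38) (LK LD1_c14 LD2_c2 LD3_c39) Lrfl Lrfl
theorem f432685 : Led Lsl_ft (LP (LK LD1_c23 LD2_c37 LD3_c49)) = (LP (LK LD1_c23 LD2_c35 LD3_c38)) :=
  Lgr Lrot75 (Lpe (f156280 IH) (Lpr_ff (f432681 IH) (Lpe (f432684 IH) (Lpn (LP (LK LD1_c23 LD2_c35 LD3_c38))))))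
theorem f432695 : Led Lsl_dt (LP (LK LD1_c14 LD2_c4 LD3_c23)) = (LP (LK LD1_c23 LD2_c37 LD3_c49)) :=
  Lre_d IH (LK LD1_c14 LD2_c4 LD3_c23) (LK LD1_c23 LD2_c37 LD3_c49) Lrfl Lrfl
theorem f90643 : Led Lsl_bt (LP (LK LD1_c21 LD2_c19 LD3_c53)) = (LP (LK LD1_c12 LD2_c13 LD3_c44)) :=
  Lre_b IH (LK LD1_c21 LD2_c19 LD3_c53) (LK LD1_c12 LD2_c13 LD3_c44) Lrfl Lrfl
theorem f124289 : Led Lsl_bt (LP (LK LD1_c14 LD2_c2 LD3_c39)) = (LP (LK LD1_c23 LD2_c35 LD3_c38)) :=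
  Lre_b IH (LK LD1_c14 LD2_c2 LD3_c39) (LK LD1_c23 LD2_c35 LD3_c38) Lrfl Lrfl
theorem f432676 : Led Lsl_df (LP (LK LD1_c21 LD2_c19 LD3_c53)) = (LP (LK LD1_c23 LD2_c35 LD3_c38)) :=
  Lgr Lrot12 (Lpr_bt (f90643 IH) (Lpr_dt (f432674 IH) (Lpr_bt (f124289 IH) (Lpn (LP (LK LD1_c23 LD2_c35 LD3_c38))))))
theorem f432696 : Led Lsl_ff (LP (LK LD1_c14 LD2_c4 LD3_c23)) = (LP (LK LD1_c21 LD2_c19 LD3_c53)) :=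
  Lgr Lrot19 (Lpr_dt (f432695 IH) (Lpr_ft (f432685 IH) (Lpe (f432676 IH) (Lpn (LP (LK LD1_c21 LD2_c19 LD3_c53))))))
theorem f86759 : Led Lsl_ct (LP (LK LD1_c14 LD2_c4 LD3_c23)) = (LP (LK LD1_c7 LD2_c26 LD3_c57)) :=
  Lre_c IH (LK LD1_c14 LD2_c4 LD3_c23) (LK LD1_c7 LD2_c26 LD3_c57) Lrfl Lrfl
theorem f106973 : Led Lsl_bt (LP (LK LD1_c13 LD2_c0 LD3_c45)) = (LP (LK LD1_c6 LD2_c49 LD3_c15)) :=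
  Lre_b IH (LK LD1_c13 LD2_c0 LD3_c45) (LK LD1_c6 LD2_c49 LD3_c15) Lrfl Lrfl
theorem f106974 : Led Lsl_ff (LP (LK LD1_c13 LD2_c0 LD3_c45)) = (LP (LK LD1_c7 LD2_c26 LD3_c57)) :=
  Lgr Lrot25 (Lpr_bt (f106973 IH) (Lpr_ft (K3.f106971 IH) (Lpr_bt (K60.f86774 IH) (Lpn (LP (LK LD1_c7 LD2_c26 LD3_c57))))))
theorem f432700 : Led Lsl_ct (LP (LK LD1_c13 LD2_c0 LD3_c45)) = (LP (LK LD1_c21 LD2_c19 LD3_c53)) :=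
  Lgr Lrot40 (Lpr_ff (f106974 IH) (Lpe (f86759 IH) (Lpr_ff (f432696 IH) (Lpn (LP (LK LD1_c21 LD2_c19 LD3_c53))))))
theorem f432702 : Led Lsl_cf (LP (LK LD1_c13 LD2_c0 LD3_c45)) = (LP (LK LD1_c21 LD2_c19 LD3_c53)) :=
  Lgr Lrot11 (Lpr_ct (f432700 IH) (Lpn (LP (LK LD1_c21 LD2_c19 LD3_c53))))
theorem f431698 : Led Lsl_ff (LP (LK LD1_c6 LD2_c27 LD3_c34)) = (LP (LK LD1_c6 LD2_c22 LD3_c45)) :=
  Lgr Lrot23 (Lpr_ct (K7.f76771 IH) (Lpr_ft (K33.f431696 IH) (Lpr_ct (K33.f155040 IH) (Lpn (LP (LK LD1_c6 LD2_c22 LD3_c45))))))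
theorem f432659 : Led Lsl_gt (LP (LK LD1_c6 LD2_c22 LD3_c45)) = (LP (LK LD1_c6 LD2_c53 LD3_c4)) :=
  Lgr Lrot5 (Lpe (f431698 IH) (Lpr_at (K6.f90404 IH) (Lpr_gf (f432604 IH) (Lpn (LP (LK LD1_c6 LD2_c53 LD3_c4))))))
theorem f432672 : Led Lsl_gt (LP (LK LD1_c12 LD2_c13 LD3_c44)) = (LP (LK LD1_c6 LD2_c22 LD3_c45)) :=
  Lgr Lrot5 (Lpr_ft (f432666 IH) (Lpr_at (f156272 IH) (Lpe (f432659 IH) (Lpn (LP (LK LD1_c6 LD2_c22 LD3_c45))))))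
theorem f83420 : Led Lsl_gt (LP (LK LD1_c6 LD2_c23 LD3_c12)) = (LP (LK LD1_c12 LD2_c19 LD3_c50)) :=
  Lre_g IH (LK LD1_c6 LD2_c23 LD3_c12) (LK LD1_c12 LD2_c19 LD3_c50) Lrfl Lrfl
theorem f83424 : Led Lsl_bt (LP (LK LD1_c21 LD2_c26 LD3_c1)) = (LP (LK LD1_c12 LD2_c19 LD3_c50)) :=
  Lre_b IH (LK LD1_c21 LD2_c26 LD3_c1) (LK LD1_c12 LD2_c19 LD3_c50) Lrfl Lrfl
theorem f432709 : Led Lsl_cf (LP (LK LD1_c22 LD2_c11 LD3_c1)) = (LP (LK LD1_c21 LD2_c26 LD3_c1)) :=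
  Lgr Lrot160 (Lpr_gt (K60.f121400 IH) (Lpr_cf (f432702 IH) (Lpr_bt (f90643 IH) (Lpr_gt (f432672 IH) (Lpr_ct (K33.f155052 IH) (Lpr_gt (K58.f154960 IH) (Lpe (K2.f83466 IH) (Lpr_bt (K7.f83410 IH) (Lpr_gt (f83420 IH) (Lpe (f83424 IH) (Lpn (LP (LK LD1_c21 LD2_c26 LD3_c1)))))))))))))
theorem f432711 : Led Lsl_bt (LP (LK LD1_c12 LD2_c19 LD3_c50)) = (LP (LK LD1_c21 LD2_c26 LD3_c1)) :=
  Lre_b IH (LK LD1_c12 LD2_c19 LD3_c50) (LK LD1_c21 LD2_c26 LD3_c1) Lrfl Lrfl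
theorem f783328 : Led Lsl_ct (LP (LK LD1_c13 LD2_c0 LD3_c2)) = (LP (LK LD1_c12 LD2_c19 LD3_c50)) :=
  Lgr Lrot83 (Lpr_bf (K60.f783324 IH) (Lpe (K60.f765908 IH) (Lpr_bf (K60.f765916 IH) (Lpr_cf (f432709 IH) (Lpe (f432711 IH) (Lpn (LP (LK LD1_c12 LD2_c19 LD3_c50))))))))
theorem f783865 : Led Lsl_ct (LP (LK LD1_c12 LD2_c26 LD3_c39)) = (LP (LK LD1_c21 LD2_c10 LD3_c11)) :=
  Lgr Lrot59 (Lpr_cf (K60.f783861 IH) (Lpn (LP (LK LD1_c21 LD2_c10 LD3_c11))))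
theorem f783880 : Led Lsl_ft (LP (LK LD1_c12 LD2_c19 LD3_c50)) = (LP (LK LD1_c12 LD2_c26 LD3_c39)) :=
  Lgr Lrot4 (Lpe (f783328 IH) (Lpr_ff (f783876 IH) (Lpe (f783865 IH) (Lpn (LP (LK LD1_c12 LD2_c26 LD3_c39))))))
theorem f783882 : Led Lsl_ff (LP (LK LD1_c12 LD2_c19 LD3_c50)) = (LP (LK LD1_c12 LD2_c26 LD3_c39)) :=
  Lgr Lrot3 (Lpr_ft (f783880 IH) (Lpn (LP (LK LD1_c12 LD2_c26 LD3_c39))))
theorem f783859 : Led Lsl_ft (LP (LK LD1_c13 LD2_c0 LD3_c2)) = (LP (LK LD1_c21 LD2_c10 LD3_c11)) :=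
  Lgr Lrot75 (Lpr_bf (K60.f783324 IH) (Lpe (K60.f765910 IH) (Lpr_bf (K60.f783855 IH) (Lpn (LP (LK LD1_c21 LD2_c10 LD3_c11))))))
theorem f783884 : Led Lsl_ct (LP (LK LD1_c12 LD2_c19 LD3_c50)) = (LP (LK LD1_c13 LD2_c0 LD3_c2)) :=
  Lgr Lrot40 (Lpr_ff (f783882 IH) (Lpr_cf (K60.f783861 IH) (Lpe (f783859 IH) (Lpn (LP (LK LD1_c13 LD2_c0 LD3_c2))))))
theorem f83409 : Led Lsl_ct (LP (LK LD1_c3 LD2_c9 LD3_c17)) = (LP (LK LD1_c6 LD2_c23 LD3_c12)) :=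
  Lre_c IH (LK LD1_c3 LD2_c9 LD3_c17) (LK LD1_c6 LD2_c23 LD3_c12) Lrfl Lrfl
def v17863 : LQ := Led Lsl_dt (LP (LK LD1_c6 LD2_c23 LD3_c19))
theorem f762487 : Led Lsl_dt (LP (LK LD1_c6 LD2_c23 LD3_c19)) = v17863 :=
  Lrfl
theorem f783348 : Led Lsl_dt (LP (LK LD1_c22 LD2_c10 LD3_c4)) = (LP (LK LD1_c13 LD2_c0 LD3_c2)) :=
  Lre_d IH (LK LD1_c22 LD2_c10 LD3_c4) (LK LD1_c13 LD2_c0 LD3_c2) Lrfl Lrfl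
theorem f783340 : Led Lsl_cf (LP (LK LD1_c22 LD2_c10 LD3_c4)) = (LP (LK LD1_c17 LD2_c14 LD3_c15)) :=
  Lgr Lrot11 (Lpr_ct (K60.f783336 IH) (Lpn (LP (LK LD1_c17 LD2_c14 LD3_c15))))
theorem f153970 : Led Lsl_gt (LP (LK LD1_c9 LD2_c19 LD3_c1)) = (LP (LK LD1_c4 LD2_c42 LD3_c20)) :=
  Lre_g IH (LK LD1_c9 LD2_c19 LD3_c1) (LK LD1_c4 LD2_c42 LD3_c20) Lrfl Lrfl
theorem f783898 : v17863 = (LP (LK LD1_c9 LD2_c19 LD3_c1)) :=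
  (Llr Lrot6 (Lpe (f762487 IH) (Lpr_gt (K57.f83381 IH) (Lpr_ct (f83409 IH) (Lpr_gt (f83420 IH) (Lpr_ct (f783884 IH) (Lpe (f783348 IH) (Lpr_cf (f783340 IH) (Lpe (K60.f152251 IH) (Lpe (K60.f152248 IH) (Lpe (f153970 IH) (Lpn (LP (LK LD1_c9 LD2_c19 LD3_c1)))))))))))))).symm
theorem f906097 : Led Lsl_df K57.v17861 = v39037 :=
  Lgr Lrot12 (Lpe (K57.f762484 IH) (Lpr_dt (f762487 IH) (Lpqs (f783898 IH) (Lpr_bt (f906095 IH) (Lpn v39037)))))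
theorem f762554 : Led Lsl_cf K57.v17861 = K57.v17873 :=
  Lgr Lrot11 (Lpr_ct (K57.f762552 IH) (Lpn K57.v17873))
theorem f153860 : Led Lsl_dt (LP (LK LD1_c1 LD2_c30 LD3_c50)) = (LP (LK LD1_c3 LD2_c9 LD3_c25)) :=
  Lre_d IH (LK LD1_c1 LD2_c30 LD3_c50) (LK LD1_c3 LD2_c9 LD3_c25) Lrfl Lrfl
theorem f906099 : Led Lsl_ct (LP (LK LD1_c21 LD2_c26 LD3_c46)) = v39037 :=
  Lgr Lrot110 (Lpe (f153871 IH) (Lpe (f153872 IH) (Lpe (K60.f153865 IH) (Lpe (f153860 IH) (Lpr_gt (K57.f86422 IH) (Lpr_ct (K57.f153889 IH) (Lpr_gt (K57.f762551 IH) (Lpe (f762554 IH) (Lpr_df (f906097 IH) (Lpn v39037))))))))))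
theorem f906100 : Led Lsl_cf (LP (LK LD1_c21 LD2_c26 LD3_c46)) = v39037 :=
  Lgr Lrot11 (Lpr_ct (f906099 IH) (Lpn v39037))
theorem f906096 : Led Lsl_bf (LP (LK LD1_c9 LD2_c19 LD3_c1)) = v39037 :=
  Lgr Lrot24 (Lpr_bt (f906095 IH) (Lpn v39037))
theorem f447077 : Led Lsl_ff (LP (LK LD1_c9 LD2_c19 LD3_c2)) = (LP (LK LD1_c6 LD2_c22 LD3_c41)) :=
  Lgr Lrot23 (Lpr_ct (K49.f434575 IH) (Lpr_ft (K49.f447069 IH) (Lpr_ct (K49.f135331 IH) (Lpn (LP (LK LD1_c6 LD2_c22 LD3_c41))))))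
theorem f434568 : Led Lsl_at (LP (LK LD1_c9 LD2_c19 LD3_c2)) = (LP (LK LD1_c4 LD2_c42 LD3_c20)) :=
  Lre_a IH (LK LD1_c9 LD2_c19 LD3_c2) (LK LD1_c4 LD2_c42 LD3_c20) Lrfl Lrfl
theorem f447557 : Led Lsl_gf (LP (LK LD1_c9 LD2_c19 LD3_c1)) = (LP (LK LD1_c6 LD2_c22 LD3_c41)) :=
  Lgr Lrot47 (Lpr_gt (f153970 IH) (Lpe (f434568 IH) (Lpr_ff (f447077 IH) (Lpn (LP (LK LD1_c6 LD2_c22 LD3_c41))))))
theorem f447100 : Led Lsl_bf (LP (LK LD1_c6 LD2_c22 LD3_c41)) = (LP (LK LD1_c9 LD2_c18 LD3_c54)) :=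
  Lgr Lrot24 (Lpr_bt (K49.f447096 IH) (Lpn (LP (LK LD1_c9 LD2_c18 LD3_c54))))
theorem f447379 : Led Lsl_ft (LP (LK LD1_c3 LD2_c9 LD3_c9)) = (LP (LK LD1_c4 LD2_c42 LD3_c16)) :=
  Lgr Lrot75 (Lpe (K49.f67160 IH) (Lpr_ff (K65.f447300 IH) (Lpe (K49.f86413 IH) (Lpn (LP (LK LD1_c4 LD2_c42 LD3_c16))))))
theorem f447382 : Led Lsl_ff (LP (LK LD1_c3 LD2_c9 LD3_c9)) = (LP (LK LD1_c4 LD2_c42 LD3_c16)) :=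
  Lgr Lrot3 (Lpr_ft (f447379 IH) (Lpn (LP (LK LD1_c4 LD2_c42 LD3_c16))))
theorem f154756 : Led Lsl_ct (LP (LK LD1_c3 LD2_c9 LD3_c9)) = (LP (LK LD1_c6 LD2_c22 LD3_c53)) :=
  Lre_c IH (LK LD1_c3 LD2_c9 LD3_c9) (LK LD1_c6 LD2_c22 LD3_c53) Lrfl Lrfl
theorem f447402 : Led Lsl_ft (LP (LK LD1_c6 LD2_c22 LD3_c53)) = (LP (LK LD1_c7 LD2_c11 LD3_c22)) :=
  Lgr Lrot4 (Lpe (f154756 IH) (Lpr_ff (f447382 IH) (Lpr_cf (K49.f430310 IH) (Lpn (LP (LK LD1_c7 LD2_c11 LD3_c22))))))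
theorem f154909 : Led Lsl_gt (LP (LK LD1_c6 LD2_c22 LD3_c53)) = (LP (LK LD1_c12 LD2_c19 LD3_c12)) :=
  Lre_g IH (LK LD1_c6 LD2_c22 LD3_c53) (LK LD1_c12 LD2_c19 LD3_c12) Lrfl Lrfl
theorem f447424 : Led Lsl_gt (LP (LK LD1_c12 LD2_c19 LD3_c12)) = (LP (LK LD1_c13 LD2_c37 LD3_c15)) :=
  Lgr Lrot46 (Lpe (f154909 IH) (Lpr_ft (f447402 IH) (Lpr_at (K49.f430329 IH) (Lpn (LP (LK LD1_c13 LD2_c37 LD3_c15))))))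
theorem f154910 : Led Lsl_ct (LP (LK LD1_c21 LD2_c25 LD3_c17)) = (LP (LK LD1_c12 LD2_c19 LD3_c12)) :=
  Lre_c IH (LK LD1_c21 LD2_c25 LD3_c17) (LK LD1_c12 LD2_c19 LD3_c12) Lrfl Lrfl
theorem f907103 : Led Lsl_gf (LP (LK LD1_c21 LD2_c25 LD3_c17)) = (LP (LK LD1_c12 LD2_c20 LD3_c40)) :=
  Lgr Lrot181 (Lpr_ct (f154910 IH) (Lpr_gt (f447424 IH) (Lpe (K49.f430313 IH) (Lpe (f447100 IH) (Lpe (f447557 IH) (Lpr_bf (f906096 IH) (Lpe (f906100 IH) (Lpr_gt (f907101 IH) (Lpe (f153891 IH) (Lpr_bt (f762634 IH) (Lpn (LP (LK LD1_c12 LD2_c20 LD3_c40)))))))))))))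
theorem f648798 : Led Lsl_at (LP (LK LD1_c6 LD2_c28 LD3_c3)) = (LP (LK LD1_c12 LD2_c27 LD3_c29)) :=
  Lre_a IH (LK LD1_c6 LD2_c28 LD3_c3) (LK LD1_c12 LD2_c27 LD3_c29) Lrfl Lrfl
theorem f907105 : Led Lsl_gt (LP (LK LD1_c21 LD2_c25 LD3_c17)) = (LP (LK LD1_c12 LD2_c27 LD3_c29)) :=
  Lgr Lrot46 (Lpr_gf (f907103 IH) (Lpq (f907075 IH) (Lpe (f766074 IH) (Lpr_at (f648798 IH) (Lpn (LP (LK LD1_c12 LD2_c27 LD3_c29)))))))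
theorem f155012 : Led Lsl_ct (LP (LK LD1_c12 LD2_c19 LD3_c12)) = (LP (LK LD1_c21 LD2_c25 LD3_c17)) :=
  Lre_c IH (LK LD1_c12 LD2_c19 LD3_c12) (LK LD1_c21 LD2_c25 LD3_c17) Lrfl Lrfl
theorem f155011 : Led Lsl_bt (LP (LK LD1_c3 LD2_c9 LD3_c7)) = (LP (LK LD1_c6 LD2_c22 LD3_c53)) :=
  Lre_b IH (LK LD1_c3 LD2_c9 LD3_c7) (LK LD1_c6 LD2_c22 LD3_c53) Lrfl Lrfl
theorem f83861 : Led Lsl_gt (LP (LK LD1_c21 LD2_c19 LD3_c61)) = (LP (LK LD1_c12 LD2_c13 LD3_c50)) :=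
  Lre_g IH (LK LD1_c21 LD2_c19 LD3_c61) (LK LD1_c12 LD2_c13 LD3_c50) Lrfl Lrfl
theorem f67348 : Led Lsl_ct (LP (LK LD1_c21 LD2_c34 LD3_c58)) = (LP (LK LD1_c12 LD2_c27 LD3_c29)) :=
  Lre_c IH (LK LD1_c21 LD2_c34 LD3_c58) (LK LD1_c12 LD2_c27 LD3_c29) Lrfl Lrfl
theorem f907107 : Led Lsl_bf (LP (LK LD1_c21 LD2_c19 LD3_c61)) = (LP (LK LD1_c21 LD2_c34 LD3_c58)) :=
  Lgr Lrot156 (Lpr_gt (f83861 IH) (Lpe (K6.f83866 IH) (Lpr_ct (K7.f83808 IH) (Lpe (K7.f154970 IH) (Lpe (K33.f154670 IH) (Lpr_bt (f155011 IH) (Lpr_gt (f154909 IH) (Lpr_ct (f155012 IH) (Lpr_gt (f907105 IH) (Lpe (f67348 IH) (Lpn (LP (LK LD1_c21 LD2_c34 LD3_c58)))))))))))))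
theorem f907109 : Led Lsl_bt (LP (LK LD1_c21 LD2_c19 LD3_c61)) = (LP (LK LD1_c21 LD2_c34 LD3_c58)) :=
  Lgr Lrot127 (Lpr_bf (f907107 IH) (Lpn (LP (LK LD1_c21 LD2_c34 LD3_c58))))
theorem f907133 : Led Lsl_ff (LP (LK LD1_c21 LD2_c19 LD3_c61)) = (LP (LK LD1_c22 LD2_c11 LD3_c49)) :=
  Lgr Lrot25 (Lpr_bt (f907109 IH) (Lpe (f67349 IH) (Lpr_bt (f907127 IH) (Lpn (LP (LK LD1_c22 LD2_c11 LD3_c49))))))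
theorem f907137 : Led Lsl_ft (LP (LK LD1_c21 LD2_c19 LD3_c61)) = (LP (LK LD1_c22 LD2_c11 LD3_c49)) :=
  Lgr Lrot48 (Lpr_ff (f907133 IH) (Lpn (LP (LK LD1_c22 LD2_c11 LD3_c49))))
theorem f135288 : Led Lsl_gt (LP (LK LD1_c6 LD2_c48 LD3_c17)) = (LP (LK LD1_c12 LD2_c59 LD3_c13)) :=
  Lre_g IH (LK LD1_c6 LD2_c48 LD3_c17) (LK LD1_c12 LD2_c59 LD3_c13) Lrfl Lrfl
theorem f431205 : Led Lsl_bt (LP (LK LD1_c22 LD2_c9 LD3_c16)) = (LP (LK LD1_c12 LD2_c59 LD3_c13)) :=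
  Lre_b IH (LK LD1_c22 LD2_c9 LD3_c16) (LK LD1_c12 LD2_c59 LD3_c13) Lrfl Lrfl
theorem f83878 : Led Lsl_bt (LP (LK LD1_c21 LD2_c19 LD3_c59)) = (LP (LK LD1_c12 LD2_c13 LD3_c47)) :=
  Lre_b IH (LK LD1_c21 LD2_c19 LD3_c59) (LK LD1_c12 LD2_c13 LD3_c47) Lrfl Lrfl
theorem f83868 : Led Lsl_ct (LP (LK LD1_c21 LD2_c19 LD3_c59)) = (LP (LK LD1_c12 LD2_c13 LD3_c50)) :=
  Lre_c IH (LK LD1_c21 LD2_c19 LD3_c59) (LK LD1_c12 LD2_c13 LD3_c50) Lrfl Lrfl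
theorem f431206 : Led Lsl_ct (LP (LK LD1_c22 LD2_c9 LD3_c16)) = (LP (LK LD1_c21 LD2_c19 LD3_c61)) :=
  Lgr Lrot64 (Lpr_bt (f431205 IH) (Lpe (f135288 IH) (Lpe (f135295 IH) (Lpr_ct (K7.f135296 IH) (Lpe (K7.f135287 IH) (Lpe (K46.f155931 IH) (Lpr_gf (K46.f431195 IH) (Lpe (f83878 IH) (Lpr_ct (f83868 IH) (Lpe (f83861 IH) (Lpn (LP (LK LD1_c21 LD2_c19 LD3_c61)))))))))))))
theorem f145831 : Led Lsl_cf (LP (LK LD1_c21 LD2_c5 LD3_c25)) = (LP (LK LD1_c22 LD2_c11 LD3_c49)) :=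
  Lgr Lrot11 (Lpr_ct (K6.f145824 IH) (Lpn (LP (LK LD1_c22 LD2_c11 LD3_c49))))
theorem f907155 : Led Lsl_ff (LP (LK LD1_c22 LD2_c9 LD3_c16)) = (LP (LK LD1_c21 LD2_c5 LD3_c25)) :=
  Lgr Lrot23 (Lpr_ct (f431206 IH) (Lpr_ft (f907137 IH) (Lpe (f145831 IH) (Lpn (LP (LK LD1_c21 LD2_c5 LD3_c25))))))
theorem f145830 : Led Lsl_bt (LP (LK LD1_c12 LD2_c0 LD3_c24)) = (LP (LK LD1_c21 LD2_c5 LD3_c25)) :=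
  Lre_b IH (LK LD1_c12 LD2_c0 LD3_c24) (LK LD1_c21 LD2_c5 LD3_c25) Lrfl Lrfl
theorem f907157 : Led Lsl_ft (LP (LK LD1_c12 LD2_c59 LD3_c13)) = (LP (LK LD1_c12 LD2_c0 LD3_c24)) :=
  Lgr Lrot75 (Lpe (f431205 IH) (Lpr_ff (f907155 IH) (Lpe (f145830 IH) (Lpn (LP (LK LD1_c12 LD2_c0 LD3_c24))))))
theorem f907163 : Led Lsl_ff (LP (LK LD1_c12 LD2_c59 LD3_c13)) = (LP (LK LD1_c12 LD2_c0 LD3_c24)) :=
  Lgr Lrot3 (Lpr_ft (f907157 IH) (Lpn (LP (LK LD1_c12 LD2_c0 LD3_c24))))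
theorem f907047 : Led Lsl_ft (LP (LK LD1_c21 LD2_c26 LD3_c44)) = (LP (LK LD1_c12 LD2_c27 LD3_c20)) :=
  Lgr Lrot48 (Lpr_ff (f907043 IH) (Lpn (LP (LK LD1_c12 LD2_c27 LD3_c20))))
theorem f907165 : Led Lsl_ct (LP (LK LD1_c12 LD2_c59 LD3_c13)) = (LP (LK LD1_c21 LD2_c26 LD3_c44)) :=
  Lgr Lrot40 (Lpr_ff (f907163 IH) (Lpr_cf (f907035 IH) (Lpe (f907047 IH) (Lpn (LP (LK LD1_c21 LD2_c26 LD3_c44))))))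
theorem f431212 : Led Lsl_cf (LP (LK LD1_c22 LD2_c9 LD3_c16)) = (LP (LK LD1_c21 LD2_c19 LD3_c61)) :=
  Lgr Lrot11 (Lpr_ct (f431206 IH) (Lpn (LP (LK LD1_c21 LD2_c19 LD3_c61))))
theorem f67352 : Led Lsl_ct (LP (LK LD1_c12 LD2_c27 LD3_c29)) = (LP (LK LD1_c21 LD2_c34 LD3_c58)) :=
  Lre_c IH (LK LD1_c12 LD2_c27 LD3_c29) (LK LD1_c21 LD2_c34 LD3_c58) Lrfl Lrfl
theorem f907215 : Led Lsl_bf (LP (LK LD1_c12 LD2_c27 LD3_c29)) = (LP (LK LD1_c21 LD2_c26 LD3_c44)) :=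
  Lgr Lrot90 (Lpr_ct (f67352 IH) (Lpe (f907107 IH) (Lpe (f431212 IH) (Lpr_bt (f431205 IH) (Lpr_ct (f907165 IH) (Lpn (LP (LK LD1_c21 LD2_c26 LD3_c44))))))))
theorem f907169 : Led Lsl_at (LP (LK LD1_c12 LD2_c59 LD3_c13)) = (LP (LK LD1_c12 LD2_c0 LD3_c25)) :=
  Lgr Lrot26 (Lpr_ff (f907163 IH) (Lpr_gt (K6.f135217 IH) (Lpe (f438786 IH) (Lpn (LP (LK LD1_c12 LD2_c0 LD3_c25))))))
theorem f907171 : Led Lsl_af (LP (LK LD1_c12 LD2_c59 LD3_c13)) = (LP (LK LD1_c12 LD2_c0 LD3_c25)) :=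
  Lgr Lrot0 (Lpr_at (f907169 IH) (Lpn (LP (LK LD1_c12 LD2_c0 LD3_c25))))
theorem f135290 : Led Lsl_ct (LP (LK LD1_c12 LD2_c27 LD3_c21)) = (LP (LK LD1_c6 LD2_c28 LD3_c0)) :=
  Lre_c IH (LK LD1_c12 LD2_c27 LD3_c21) (LK LD1_c6 LD2_c28 LD3_c0) Lrfl Lrfl
theorem f907037 : Led Lsl_at (LP (LK LD1_c12 LD2_c0 LD3_c24)) = (LP (LK LD1_c12 LD2_c27 LD3_c21)) :=
  Lgr Lrot107 (Lpr_cf (f907035 IH) (Lpe (f648785 IH) (Lpe (f135290 IH) (Lpn (LP (LK LD1_c12 LD2_c27 LD3_c21))))))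
theorem f907181 : Led Lsl_ft (LP (LK LD1_c12 LD2_c27 LD3_c21)) = (LP (LK LD1_c12 LD2_c0 LD3_c25)) :=
  Lgr Lrot101 (Lpe (f907037 IH) (Lpe (f907157 IH) (Lpr_af (f907171 IH) (Lpn (LP (LK LD1_c12 LD2_c0 LD3_c25))))))
theorem f907187 : Led Lsl_ff (LP (LK LD1_c12 LD2_c27 LD3_c21)) = (LP (LK LD1_c12 LD2_c0 LD3_c25)) :=
  Lgr Lrot3 (Lpr_ft (f907181 IH) (Lpn (LP (LK LD1_c12 LD2_c0 LD3_c25))))
theorem f135291 : Led Lsl_dt (LP (LK LD1_c12 LD2_c27 LD3_c21)) = (LP (LK LD1_c21 LD2_c34 LD3_c47)) :=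
  Lre_d IH (LK LD1_c12 LD2_c27 LD3_c21) (LK LD1_c21 LD2_c34 LD3_c47) Lrfl Lrfl
theorem f153988 : Led Lsl_dt (LP (LK LD1_c21 LD2_c5 LD3_c29)) = (LP (LK LD1_c12 LD2_c0 LD3_c25)) :=
  Lre_d IH (LK LD1_c21 LD2_c5 LD3_c29) (LK LD1_c12 LD2_c0 LD3_c25) Lrfl Lrfl
theorem f907193 : Led Lsl_ft (LP (LK LD1_c21 LD2_c34 LD3_c47)) = (LP (LK LD1_c21 LD2_c5 LD3_c29)) :=
  Lgr Lrot54 (Lpe (f135291 IH) (Lpr_ff (f907187 IH) (Lpe (f153988 IH) (Lpn (LP (LK LD1_c21 LD2_c5 LD3_c29))))))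
theorem f135446 : Led Lsl_dt (LP (LK LD1_c3 LD2_c22 LD3_c49)) = (LP (LK LD1_c4 LD2_c50 LD3_c19)) :=
  Lgr Lrot79 (Lpe (K32.f113218 IH) (Lpr_df (K6.f135444 IH) (Lpe (f121407 IH) (Lpn (LP (LK LD1_c4 LD2_c50 LD3_c19))))))
theorem f145952 : Led Lsl_ft (LP (LK LD1_c4 LD2_c50 LD3_c19)) = (LP (LK LD1_c3 LD2_c22 LD3_c16)) :=
  Lgr Lrot54 (Lpe (f135446 IH) (Lpr_ff (K6.f145948 IH) (Lpr_df (f84533 IH) (Lpn (LP (LK LD1_c3 LD2_c22 LD3_c16))))))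
theorem f437573 : Led Lsl_gt (LP (LK LD1_c9 LD2_c32 LD3_c59)) = (LP (LK LD1_c6 LD2_c48 LD3_c12)) :=
  Lgr Lrot46 (Lpe (f87605 IH) (Lpr_ft (f145952 IH) (Lpr_at (K6.f84464 IH) (Lpn (LP (LK LD1_c6 LD2_c48 LD3_c12))))))
theorem f153930 : Led Lsl_gt (LP (LK LD1_c6 LD2_c26 LD3_c23)) = (LP (LK LD1_c3 LD2_c11 LD3_c4)) :=
  Lre_g IH (LK LD1_c6 LD2_c26 LD3_c23) (LK LD1_c3 LD2_c11 LD3_c4) Lrfl Lrfl
theorem f153931 : Led Lsl_ct (LP (LK LD1_c12 LD2_c24 LD3_c45)) = (LP (LK LD1_c6 LD2_c26 LD3_c23)) :=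
  Lre_c IH (LK LD1_c12 LD2_c24 LD3_c45) (LK LD1_c6 LD2_c26 LD3_c23) Lrfl Lrfl
theorem f154392 : Led Lsl_bf (LP (LK LD1_c9 LD2_c32 LD3_c59)) = (LP (LK LD1_c12 LD2_c24 LD3_c45)) :=
  Lgr Lrot34 (Lpe (f87605 IH) (Lpe (f87604 IH) (Lpr_ct (K7.f121406 IH) (Lpr_gf (K7.f154179 IH) (Lpe (K7.f154181 IH) (Lpr_gf (K7.f154383 IH) (Lpe (K16.f67346 IH) (Lpr_ct (K16.f67335 IH) (Lpe (f153930 IH) (Lpe (f153931 IH) (Lpn (LP (LK LD1_c12 LD2_c24 LD3_c45)))))))))))))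
theorem f153838 : Led Lsl_at (LP (LK LD1_c6 LD2_c26 LD3_c24)) = (LP (LK LD1_c3 LD2_c11 LD3_c4)) :=
  Lre_a IH (LK LD1_c6 LD2_c26 LD3_c24) (LK LD1_c3 LD2_c11 LD3_c4) Lrfl Lrfl
theorem f153815 : Led Lsl_at (LP (LK LD1_c6 LD2_c23 LD3_c39)) = (LP (LK LD1_c12 LD2_c20 LD3_c36)) :=
  Lre_a IH (LK LD1_c6 LD2_c23 LD3_c39) (LK LD1_c12 LD2_c20 LD3_c36) Lrfl Lrfl
theorem f153839 : Led Lsl_ff (LP (LK LD1_c6 LD2_c26 LD3_c24)) = (LP (LK LD1_c12 LD2_c20 LD3_c36)) :=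
  Lgr Lrot30 (Lpr_at (f153838 IH) (Lpr_ft (K16.f153835 IH) (Lpr_at (f153815 IH) (Lpn (LP (LK LD1_c12 LD2_c20 LD3_c36))))))
theorem f153935 : Led Lsl_gf (LP (LK LD1_c6 LD2_c26 LD3_c23)) = (LP (LK LD1_c12 LD2_c20 LD3_c36)) :=
  Lgr Lrot47 (Lpr_gt (f153930 IH) (Lpe (f153838 IH) (Lpr_ff (f153839 IH) (Lpn (LP (LK LD1_c12 LD2_c20 LD3_c36))))))
theorem f153847 : Led Lsl_ct (LP (LK LD1_c6 LD2_c23 LD3_c36)) = (LP (LK LD1_c12 LD2_c20 LD3_c36)) :=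
  Lre_c IH (LK LD1_c6 LD2_c23 LD3_c36) (LK LD1_c12 LD2_c20 LD3_c36) Lrfl Lrfl
theorem f153743 : Led Lsl_ft (LP (LK LD1_c1 LD2_c32 LD3_c19)) = (LP (LK LD1_c3 LD2_c9 LD3_c25)) :=
  Lgr Lrot75 (Lpe (f25827 IH) (Lpr_ff (K7.f153740 IH) (Lpe (f153742 IH) (Lpn (LP (LK LD1_c3 LD2_c9 LD3_c25))))))
theorem f153902 : Led Lsl_at (LP (LK LD1_c3 LD2_c9 LD3_c25)) = (LP (LK LD1_c6 LD2_c23 LD3_c36)) :=
  Lre_a IH (LK LD1_c3 LD2_c9 LD3_c25) (LK LD1_c6 LD2_c23 LD3_c36) Lrfl Lrfl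
theorem f435271 : Led Lsl_gt (LP (LK LD1_c3 LD2_c11 LD3_c54)) = (LP (LK LD1_c6 LD2_c23 LD3_c36)) :=
  Lgr Lrot46 (Lpe (K57.f25828 IH) (Lpr_ft (f153743 IH) (Lpr_at (f153902 IH) (Lpn (LP (LK LD1_c6 LD2_c23 LD3_c36))))))
theorem f62498 : Led Lsl_ct (LP (LK LD1_c6 LD2_c9 LD3_c47)) = (LP (LK LD1_c12 LD2_c0 LD3_c26)) :=
  Lre_c IH (LK LD1_c6 LD2_c9 LD3_c47) (LK LD1_c12 LD2_c0 LD3_c26) Lrfl Lrfl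
theorem f437575 : Led Lsl_gf (LP (LK LD1_c12 LD2_c27 LD3_c21)) = (LP (LK LD1_c12 LD2_c0 LD3_c26)) :=
  Lgr Lrot126 (Lpe (f25830 IH) (Lpr_bt (f25829 IH) (Lpr_gt (f435271 IH) (Lpr_ct (f153847 IH) (Lpe (f153935 IH) (Lpe (f153931 IH) (Lpe (f154392 IH) (Lpr_gt (f437573 IH) (Lpr_bf (K6.f143951 IH) (Lpr_ct (f62498 IH) (Lpn (LP (LK LD1_c12 LD2_c0 LD3_c26)))))))))))))
theorem f155241 : Led Lsl_bt (LP (LK LD1_c12 LD2_c21 LD3_c23)) = (LP (LK LD1_c6 LD2_c24 LD3_c5)) :=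
  Lre_b IH (LK LD1_c12 LD2_c21 LD3_c23) (LK LD1_c6 LD2_c24 LD3_c5) Lrfl Lrfl
theorem f155278 : Led Lsl_ft (LP (LK LD1_c7 LD2_c48 LD3_c47)) = (LP (LK LD1_c12 LD2_c21 LD3_c23)) :=
  Lgr Lrot75 (Lpe (K34.f86347 IH) (Lpr_ff (K7.f155276 IH) (Lpe (f155241 IH) (Lpn (LP (LK LD1_c12 LD2_c21 LD3_c23))))))
theorem f134341 : Led Lsl_ct (LP (LK LD1_c14 LD2_c44 LD3_c33)) = (LP (LK LD1_c7 LD2_c48 LD3_c47)) :=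
  Lre_c IH (LK LD1_c14 LD2_c44 LD3_c33) (LK LD1_c7 LD2_c48 LD3_c47) Lrfl Lrfl
theorem f434655 : Led Lsl_cf (LP (LK LD1_c21 LD2_c21 LD3_c7)) = (LP (LK LD1_c12 LD2_c21 LD3_c23)) :=
  Lgr Lrot108 (Lpe (K6.f145549 IH) (Lpr_ct (f134341 IH) (Lpr_ft (f155278 IH) (Lpn (LP (LK LD1_c12 LD2_c21 LD3_c23))))))
theorem f431790 : Led Lsl_at (LP (LK LD1_c21 LD2_c21 LD3_c7)) = (LP (LK LD1_c29 LD2_c59 LD3_c1)) :=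
  Lre_a IH (LK LD1_c21 LD2_c21 LD3_c7) (LK LD1_c29 LD2_c59 LD3_c1) Lrfl Lrfl
theorem f429901 : Led Lsl_at (LP (LK LD1_c21 LD2_c27 LD3_c51)) = (LP (LK LD1_c12 LD2_c21 LD3_c23)) :=
  Lre_a IH (LK LD1_c21 LD2_c27 LD3_c51) (LK LD1_c12 LD2_c21 LD3_c23) Lrfl Lrfl
theorem f434662 : Led Lsl_ct (LP (LK LD1_c29 LD2_c59 LD3_c1)) = (LP (LK LD1_c21 LD2_c27 LD3_c51)) :=
  Lgr Lrot111 (Lpe (f431790 IH) (Lpr_cf (f434655 IH) (Lpe (f429901 IH) (Lpn (LP (LK LD1_c21 LD2_c27 LD3_c51))))))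
theorem f145703 : Led Lsl_ft (LP (LK LD1_c6 LD2_c19 LD3_c13)) = (LP (LK LD1_c6 LD2_c18 LD3_c60)) :=
  Lgr Lrot48 (Lpr_ff (K7.f145697 IH) (Lpn (LP (LK LD1_c6 LD2_c18 LD3_c60))))
theorem f431650 : Led Lsl_gf (LP (LK LD1_c3 LD2_c53 LD3_c35)) = (LP (LK LD1_c6 LD2_c20 LD3_c52)) :=
  Lgr Lrot76 (Lpr_af (K3.f90348 IH) (Lpe (f145703 IH) (Lpr_gt (K33.f431646 IH) (Lpn (LP (LK LD1_c6 LD2_c20 LD3_c52))))))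
theorem f90507 : Led Lsl_bt (LP (LK LD1_c7 LD2_c48 LD3_c45)) = (LP (LK LD1_c14 LD2_c44 LD3_c33)) :=
  Lre_b IH (LK LD1_c7 LD2_c48 LD3_c45) (LK LD1_c14 LD2_c44 LD3_c33) Lrfl Lrfl
theorem f84235 : Led Lsl_bt (LP (LK LD1_c6 LD2_c48 LD3_c17)) = (LP (LK LD1_c3 LD2_c22 LD3_c18)) :=
  Lre_b IH (LK LD1_c6 LD2_c48 LD3_c17) (LK LD1_c3 LD2_c22 LD3_c18) Lrfl Lrfl
theorem f84211 : Led Lsl_gt (LP (LK LD1_c6 LD2_c48 LD3_c23)) = (LP (LK LD1_c3 LD2_c22 LD3_c20)) :=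
  Lre_g IH (LK LD1_c6 LD2_c48 LD3_c23) (LK LD1_c3 LD2_c22 LD3_c20) Lrfl Lrfl
theorem f84278 : Led Lsl_ct (LP (LK LD1_c12 LD2_c59 LD3_c24)) = (LP (LK LD1_c6 LD2_c48 LD3_c23)) :=
  Lre_c IH (LK LD1_c12 LD2_c59 LD3_c24) (LK LD1_c6 LD2_c48 LD3_c23) Lrfl Lrfl
theorem f431783 : Led Lsl_bt (LP (LK LD1_c12 LD2_c59 LD3_c24)) = (LP (LK LD1_c22 LD2_c9 LD3_c33)) :=
  Lre_b IH (LK LD1_c12 LD2_c59 LD3_c24) (LK LD1_c22 LD2_c9 LD3_c33) Lrfl Lrfl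
theorem f431784 : Led Lsl_gt (LP (LK LD1_c14 LD2_c44 LD3_c33)) = (LP (LK LD1_c22 LD2_c9 LD3_c33)) :=
  Lgr Lrot164 (Lpe (f90507 IH) (Lpr_ct (K6.f90203 IH) (Lpr_gf (f431650 IH) (Lpr_cf (K46.f431681 IH) (Lpe (K46.f84236 IH) (Lpe (f84235 IH) (Lpr_ct (K5.f84227 IH) (Lpe (f84211 IH) (Lpe (f84278 IH) (Lpr_bt (f431783 IH) (Lpn (LP (LK LD1_c22 LD2_c9 LD3_c33)))))))))))))
theorem f145533 : Led Lsl_bt (LP (LK LD1_c21 LD2_c21 LD3_c7)) = (LP (LK LD1_c12 LD2_c15 LD3_c56)) :=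
  Lre_b IH (LK LD1_c21 LD2_c21 LD3_c7) (LK LD1_c12 LD2_c15 LD3_c56) Lrfl Lrfl
theorem f145541 : Led Lsl_ft (LP (LK LD1_c14 LD2_c44 LD3_c33)) = (LP (LK LD1_c21 LD2_c21 LD3_c7)) :=
  Lgr Lrot75 (Lpe (f90507 IH) (Lpr_ff (K6.f145538 IH) (Lpe (f145533 IH) (Lpn (LP (LK LD1_c21 LD2_c21 LD3_c7))))))
theorem f431791 : Led Lsl_gf (LP (LK LD1_c29 LD2_c59 LD3_c1)) = (LP (LK LD1_c22 LD2_c9 LD3_c33)) :=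
  Lgr Lrot76 (Lpe (f431790 IH) (Lpe (f145541 IH) (Lpr_gt (f431784 IH) (Lpn (LP (LK LD1_c22 LD2_c9 LD3_c33))))))
theorem f429776 : Led Lsl_ff (LP (LK LD1_c6 LD2_c41 LD3_c47)) = (LP (LK LD1_c6 LD2_c59 LD3_c40)) :=
  Lgr Lrot19 (Lpr_dt (K59.f429712 IH) (Lpr_ft (K7.f155251 IH) (Lpe (K7.f155284 IH) (Lpn (LP (LK LD1_c6 LD2_c59 LD3_c40))))))
theorem f429786 : Led Lsl_bt (LP (LK LD1_c6 LD2_c41 LD3_c47)) = (LP (LK LD1_c12 LD2_c48 LD3_c47)) :=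
  Lre_b IH (LK LD1_c6 LD2_c41 LD3_c47) (LK LD1_c12 LD2_c48 LD3_c47) Lrfl Lrfl
theorem f143404 : Led Lsl_bt (LP (LK LD1_c13 LD2_c16 LD3_c19)) = (LP (LK LD1_c6 LD2_c59 LD3_c40)) :=
  Lre_b IH (LK LD1_c13 LD2_c16 LD3_c19) (LK LD1_c6 LD2_c59 LD3_c40) Lrfl Lrfl
theorem f429787 : Led Lsl_ft (LP (LK LD1_c12 LD2_c48 LD3_c47)) = (LP (LK LD1_c13 LD2_c16 LD3_c19)) :=
  Lgr Lrot75 (Lpe (f429786 IH) (Lpr_ff (f429776 IH) (Lpe (f143404 IH) (Lpn (LP (LK LD1_c13 LD2_c16 LD3_c19))))))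
theorem f429887 : Led Lsl_ff (LP (LK LD1_c12 LD2_c48 LD3_c47)) = (LP (LK LD1_c13 LD2_c16 LD3_c19)) :=
  Lgr Lrot3 (Lpr_ft (f429787 IH) (Lpn (LP (LK LD1_c13 LD2_c16 LD3_c19))))
theorem f429793 : Led Lsl_at (LP (LK LD1_c6 LD2_c41 LD3_c47)) = (LP (LK LD1_c6 LD2_c59 LD3_c31)) :=
  Lgr Lrot26 (Lpr_ff (f429776 IH) (Lpe (K6.f143398 IH) (Lpr_gt (K11.f105667 IH) (Lpn (LP (LK LD1_c6 LD2_c59 LD3_c31))))))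
theorem f429772 : Led Lsl_et (LP (LK LD1_c12 LD2_c48 LD3_c48)) = (LP (LK LD1_c6 LD2_c41 LD3_c47)) :=
  Lre_e IH (LK LD1_c12 LD2_c48 LD3_c48) (LK LD1_c6 LD2_c41 LD3_c47) Lrfl Lrfl
theorem f88814 : Led Lsl_et (LP (LK LD1_c6 LD2_c59 LD3_c31)) = (LP (LK LD1_c13 LD2_c16 LD3_c2)) :=
  Lre_e IH (LK LD1_c6 LD2_c59 LD3_c31) (LK LD1_c13 LD2_c16 LD3_c2) Lrfl Lrfl
theorem f429796 : Led Lsl_af (LP (LK LD1_c12 LD2_c48 LD3_c48)) = (LP (LK LD1_c13 LD2_c16 LD3_c2)) :=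
  Lgr Lrot50 (Lpr_et (f429772 IH) (Lpr_at (f429793 IH) (Lpr_et (f88814 IH) (Lpn (LP (LK LD1_c13 LD2_c16 LD3_c2))))))
theorem f429789 : Led Lsl_ft (LP (LK LD1_c12 LD2_c48 LD3_c48)) = (LP (LK LD1_c21 LD2_c56 LD3_c55)) :=
  Lre_f IH (LK LD1_c12 LD2_c48 LD3_c48) (LK LD1_c21 LD2_c56 LD3_c55) Lrfl Lrfl
theorem f88937 : Led Lsl_ft (LP (LK LD1_c22 LD2_c31 LD3_c22)) = (LP (LK LD1_c13 LD2_c16 LD3_c2)) :=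
  Lre_f IH (LK LD1_c22 LD2_c31 LD3_c22) (LK LD1_c13 LD2_c16 LD3_c2) Lrfl Lrfl
theorem f429804 : Led Lsl_at (LP (LK LD1_c21 LD2_c56 LD3_c55)) = (LP (LK LD1_c22 LD2_c31 LD3_c22)) :=
  Lgr Lrot66 (Lpe (f429789 IH) (Lpr_af (f429796 IH) (Lpe (f88937 IH) (Lpn (LP (LK LD1_c22 LD2_c31 LD3_c22))))))
theorem f429812 : Led Lsl_dt (LP (LK LD1_c30 LD2_c13 LD3_c58)) = (LP (LK LD1_c21 LD2_c56 LD3_c55)) :=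
  Lre_d IH (LK LD1_c30 LD2_c13 LD3_c58) (LK LD1_c21 LD2_c56 LD3_c55) Lrfl Lrfl
theorem f88958 : Led Lsl_dt (LP (LK LD1_c22 LD2_c31 LD3_c22)) = (LP (LK LD1_c30 LD2_c33 LD3_c12)) :=
  Lre_d IH (LK LD1_c22 LD2_c31 LD3_c22) (LK LD1_c30 LD2_c33 LD3_c12) Lrfl Lrfl
theorem f429813 : Led Lsl_af (LP (LK LD1_c30 LD2_c13 LD3_c58)) = (LP (LK LD1_c30 LD2_c33 LD3_c12)) :=
  Lgr Lrot117 (Lpr_dt (f429812 IH) (Lpr_at (f429804 IH) (Lpr_dt (f88958 IH) (Lpn (LP (LK LD1_c30 LD2_c33 LD3_c12))))))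
theorem f429819 : Led Lsl_at (LP (LK LD1_c30 LD2_c13 LD3_c58)) = (LP (LK LD1_c30 LD2_c33 LD3_c12)) :=
  Lgr Lrot100 (Lpr_af (f429813 IH) (Lpn (LP (LK LD1_c30 LD2_c33 LD3_c12))))
theorem f429825 : Led Lsl_ft (LP (LK LD1_c21 LD2_c56 LD3_c54)) = (LP (LK LD1_c30 LD2_c13 LD3_c58)) :=
  Lre_f IH (LK LD1_c21 LD2_c56 LD3_c54) (LK LD1_c30 LD2_c13 LD3_c58) Lrfl Lrfl
theorem f88963 : Led Lsl_ft (LP (LK LD1_c30 LD2_c33 LD3_c12)) = (LP (LK LD1_c22 LD2_c31 LD3_c12)) :=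
  Lre_f IH (LK LD1_c30 LD2_c33 LD3_c12) (LK LD1_c22 LD2_c31 LD3_c12) Lrfl Lrfl
theorem f429826 : Led Lsl_af (LP (LK LD1_c21 LD2_c56 LD3_c54)) = (LP (LK LD1_c22 LD2_c31 LD3_c12)) :=
  Lgr Lrot45 (Lpr_ft (f429825 IH) (Lpr_at (f429819 IH) (Lpr_ft (f88963 IH) (Lpn (LP (LK LD1_c22 LD2_c31 LD3_c12))))))
theorem f88751 : Led Lsl_et (LP (LK LD1_c13 LD2_c15 LD3_c58)) = (LP (LK LD1_c22 LD2_c31 LD3_c12)) :=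
  Lre_e IH (LK LD1_c13 LD2_c15 LD3_c58) (LK LD1_c22 LD2_c31 LD3_c12) Lrfl Lrfl
theorem f88741 : Led Lsl_at (LP (LK LD1_c14 LD2_c44 LD3_c39)) = (LP (LK LD1_c13 LD2_c15 LD3_c58)) :=
  Lgr Lrot100 (Lpr_af (K59.f88736 IH) (Lpn (LP (LK LD1_c13 LD2_c15 LD3_c58))))
theorem f429832 : Led Lsl_et (LP (LK LD1_c21 LD2_c56 LD3_c54)) = (LP (LK LD1_c14 LD2_c44 LD3_c39)) :=
  Lgr Lrot123 (Lpr_af (f429826 IH) (Lpe (f88751 IH) (Lpe (f88741 IH) (Lpn (LP (LK LD1_c14 LD2_c44 LD3_c39))))))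
theorem f429837 : Led Lsl_bt (LP (LK LD1_c30 LD2_c13 LD3_c51)) = (LP (LK LD1_c21 LD2_c56 LD3_c54)) :=
  Lre_b IH (LK LD1_c30 LD2_c13 LD3_c51) (LK LD1_c21 LD2_c56 LD3_c54) Lrfl Lrfl
theorem f88743 : Led Lsl_bt (LP (LK LD1_c14 LD2_c44 LD3_c39)) = (LP (LK LD1_c24 LD2_c30 LD3_c51)) :=
  Lre_b IH (LK LD1_c14 LD2_c44 LD3_c39) (LK LD1_c24 LD2_c30 LD3_c51) Lrfl Lrfl
theorem f429838 : Led Lsl_ef (LP (LK LD1_c30 LD2_c13 LD3_c51)) = (LP (LK LD1_c24 LD2_c30 LD3_c51)) :=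
  Lgr Lrot29 (Lpr_bt (f429837 IH) (Lpr_et (f429832 IH) (Lpr_bt (f88743 IH) (Lpn (LP (LK LD1_c24 LD2_c30 LD3_c51))))))
theorem f429840 : Led Lsl_dt (LP (LK LD1_c30 LD2_c13 LD3_c51)) = (LP (LK LD1_c21 LD2_c56 LD3_c51)) :=
  Lre_d IH (LK LD1_c30 LD2_c13 LD3_c51) (LK LD1_c21 LD2_c56 LD3_c51) Lrfl Lrfl
theorem f429841 : Led Lsl_et (LP (LK LD1_c21 LD2_c56 LD3_c51)) = (LP (LK LD1_c12 LD2_c48 LD3_c47)) :=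
  Lre_e IH (LK LD1_c21 LD2_c56 LD3_c51) (LK LD1_c12 LD2_c48 LD3_c47) Lrfl Lrfl
theorem f429842 : Led Lsl_dt (LP (LK LD1_c14 LD2_c44 LD3_c38)) = (LP (LK LD1_c24 LD2_c30 LD3_c51)) :=
  Lre_d IH (LK LD1_c14 LD2_c44 LD3_c38) (LK LD1_c24 LD2_c30 LD3_c51) Lrfl Lrfl
theorem f429843 : Led Lsl_et (LP (LK LD1_c7 LD2_c48 LD3_c47)) = (LP (LK LD1_c14 LD2_c44 LD3_c38)) :=
  Lre_e IH (LK LD1_c7 LD2_c48 LD3_c47) (LK LD1_c14 LD2_c44 LD3_c38) Lrfl Lrfl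
theorem f429844 : Led Lsl_dt (LP (LK LD1_c12 LD2_c48 LD3_c47)) = (LP (LK LD1_c7 LD2_c48 LD3_c47)) :=
  Lgr Lrot77 (Lpe (f429841 IH) (Lpe (f429840 IH) (Lpr_ef (f429838 IH) (Lpe (f429842 IH) (Lpe (f429843 IH) (Lpn (LP (LK LD1_c7 LD2_c48 LD3_c47))))))))
theorem f429895 : Led Lsl_dt (LP (LK LD1_c12 LD2_c21 LD3_c23)) = (LP (LK LD1_c13 LD2_c16 LD3_c19)) :=
  Lgr Lrot60 (Lpe (f155278 IH) (Lpe (f429844 IH) (Lpr_ff (f429887 IH) (Lpn (LP (LK LD1_c13 LD2_c16 LD3_c19))))))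
theorem f429856 : Led Lsl_at (LP (LK LD1_c13 LD2_c16 LD3_c19)) = (LP (LK LD1_c22 LD2_c31 LD3_c51)) :=
  Lre_a IH (LK LD1_c13 LD2_c16 LD3_c19) (LK LD1_c22 LD2_c31 LD3_c51) Lrfl Lrfl
theorem f429902 : Led Lsl_df (LP (LK LD1_c21 LD2_c27 LD3_c51)) = (LP (LK LD1_c22 LD2_c31 LD3_c51)) :=
  Lgr Lrot18 (Lpr_at (f429901 IH) (Lpr_dt (f429895 IH) (Lpr_at (f429856 IH) (Lpn (LP (LK LD1_c22 LD2_c31 LD3_c51))))))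
theorem f429866 : Led Lsl_at (LP (LK LD1_c12 LD2_c48 LD3_c47)) = (LP (LK LD1_c21 LD2_c56 LD3_c49)) :=
  Lre_a IH (LK LD1_c12 LD2_c48 LD3_c47) (LK LD1_c21 LD2_c56 LD3_c49) Lrfl Lrfl
theorem f429889 : Led Lsl_at (LP (LK LD1_c22 LD2_c31 LD3_c51)) = (LP (LK LD1_c13 LD2_c16 LD3_c19)) :=
  Lre_a IH (LK LD1_c22 LD2_c31 LD3_c51) (LK LD1_c13 LD2_c16 LD3_c19) Lrfl Lrfl
theorem f429890 : Led Lsl_ft (LP (LK LD1_c21 LD2_c56 LD3_c49)) = (LP (LK LD1_c22 LD2_c31 LD3_c51)) :=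
  Lgr Lrot101 (Lpe (f429866 IH) (Lpr_ff (f429887 IH) (Lpe (f429889 IH) (Lpn (LP (LK LD1_c22 LD2_c31 LD3_c51))))))
theorem f429795 : Led Lsl_at (LP (LK LD1_c21 LD2_c56 LD3_c49)) = (LP (LK LD1_c12 LD2_c48 LD3_c47)) :=
  Lre_a IH (LK LD1_c21 LD2_c56 LD3_c49) (LK LD1_c12 LD2_c48 LD3_c47) Lrfl Lrfl
theorem f88753 : Led Lsl_at (LP (LK LD1_c7 LD2_c48 LD3_c47)) = (LP (LK LD1_c14 LD2_c44 LD3_c37)) :=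
  Lre_a IH (LK LD1_c7 LD2_c48 LD3_c47) (LK LD1_c14 LD2_c44 LD3_c37) Lrfl Lrfl
theorem f429853 : Led Lsl_df (LP (LK LD1_c21 LD2_c56 LD3_c49)) = (LP (LK LD1_c14 LD2_c44 LD3_c37)) :=
  Lgr Lrot18 (Lpr_at (f429795 IH) (Lpr_dt (f429844 IH) (Lpr_at (f88753 IH) (Lpn (LP (LK LD1_c14 LD2_c44 LD3_c37))))))
theorem f429917 : Led Lsl_ft (LP (LK LD1_c21 LD2_c27 LD3_c51)) = (LP (LK LD1_c14 LD2_c44 LD3_c37)) :=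
  Lgr Lrot54 (Lpr_df (f429902 IH) (Lpe (f429890 IH) (Lpr_df (f429853 IH) (Lpn (LP (LK LD1_c14 LD2_c44 LD3_c37))))))
theorem f134343 : Led Lsl_gt (LP (LK LD1_c14 LD2_c44 LD3_c36)) = (LP (LK LD1_c7 LD2_c48 LD3_c47)) :=
  Lre_g IH (LK LD1_c14 LD2_c44 LD3_c36) (LK LD1_c7 LD2_c48 LD3_c47) Lrfl Lrfl
theorem f429925 : Led Lsl_gt (LP (LK LD1_c21 LD2_c27 LD3_c51)) = (LP (LK LD1_c14 LD2_c44 LD3_c36)) :=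
  Lgr Lrot5 (Lpr_ft (f429917 IH) (Lpr_at (K59.f88709 IH) (Lpe (f134343 IH) (Lpn (LP (LK LD1_c14 LD2_c44 LD3_c36))))))
theorem f134344 : Led Lsl_ct (LP (LK LD1_c24 LD2_c30 LD3_c48)) = (LP (LK LD1_c14 LD2_c44 LD3_c36)) :=
  Lre_c IH (LK LD1_c24 LD2_c30 LD3_c48) (LK LD1_c14 LD2_c44 LD3_c36) Lrfl Lrfl
theorem f145669 : Led Lsl_ct (LP (LK LD1_c6 LD2_c9 LD3_c37)) = (LP (LK LD1_c3 LD2_c1 LD3_c18)) :=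
  Lre_c IH (LK LD1_c6 LD2_c9 LD3_c37) (LK LD1_c3 LD2_c1 LD3_c18) Lrfl Lrfl
theorem f126791 : Led Lsl_gt (LP (LK LD1_c12 LD2_c33 LD3_c18)) = (LP (LK LD1_c21 LD2_c39 LD3_c20)) :=
  Lre_g IH (LK LD1_c12 LD2_c33 LD3_c18) (LK LD1_c21 LD2_c39 LD3_c20) Lrfl Lrfl
theorem f209599 : Led Lsl_bt (LP (LK LD1_c24 LD2_c30 LD3_c48)) = (LP (LK LD1_c21 LD2_c39 LD3_c20)) :=
  Lgr Lrot92 (Lpr_ct (f134344 IH) (Lpr_gt (f134343 IH) (Lpe (f134341 IH) (Lpr_bt (K6.f90500 IH) (Lpr_gt (K6.f145791 IH) (Lpr_ct (f145669 IH) (Lpr_gt (K11.f209589 IH) (Lpe (K5.f126758 IH) (Lpr_bt (K49.f126760 IH) (Lpr_gt (f126791 IH) (Lpn (LP (LK LD1_c21 LD2_c39 LD3_c20)))))))))))))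
theorem f126761 : Led Lsl_ff (LP (LK LD1_c12 LD2_c0 LD3_c8)) = (LP (LK LD1_c12 LD2_c33 LD3_c18)) :=
  Lgr Lrot25 (Lpr_bt (K49.f62533 IH) (Lpr_ft (K5.f126753 IH) (Lpr_bt (K49.f126760 IH) (Lpn (LP (LK LD1_c12 LD2_c33 LD3_c18))))))
theorem f62527 : Led Lsl_at (LP (LK LD1_c12 LD2_c0 LD3_c8)) = (LP (LK LD1_c21 LD2_c5 LD3_c0)) :=
  Lre_a IH (LK LD1_c12 LD2_c0 LD3_c8) (LK LD1_c21 LD2_c5 LD3_c0) Lrfl Lrfl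
theorem f126806 : Led Lsl_gf (LP (LK LD1_c21 LD2_c5 LD3_c0)) = (LP (LK LD1_c21 LD2_c39 LD3_c20)) :=
  Lgr Lrot76 (Lpe (f62527 IH) (Lpr_ff (f126761 IH) (Lpr_gt (f126791 IH) (Lpn (LP (LK LD1_c21 LD2_c39 LD3_c20))))))
theorem f62531 : Led Lsl_bt (LP (LK LD1_c12 LD2_c0 LD3_c26)) = (LP (LK LD1_c21 LD2_c5 LD3_c0)) :=
  Lre_b IH (LK LD1_c12 LD2_c0 LD3_c26) (LK LD1_c21 LD2_c5 LD3_c0) Lrfl Lrfl
theorem f62508 : Led Lsl_ct (LP (LK LD1_c12 LD2_c0 LD3_c26)) = (LP (LK LD1_c6 LD2_c9 LD3_c47)) :=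
  Lre_c IH (LK LD1_c12 LD2_c0 LD3_c26) (LK LD1_c6 LD2_c9 LD3_c47) Lrfl Lrfl
theorem f434670 : Led Lsl_gf (LP (LK LD1_c6 LD2_c48 LD3_c23)) = (LP (LK LD1_c6 LD2_c9 LD3_c47)) :=
  Lgr Lrot126 (Lpe (f84278 IH) (Lpr_bt (f431783 IH) (Lpe (f431791 IH) (Lpr_ct (f434662 IH) (Lpr_gt (f429925 IH) (Lpe (f134344 IH) (Lpr_bt (f209599 IH) (Lpe (f126806 IH) (Lpe (f62531 IH) (Lpr_ct (f62508 IH) (Lpn (LP (LK LD1_c6 LD2_c9 LD3_c47)))))))))))))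
theorem f121447 : Led Lsl_gt (LP (LK LD1_c9 LD2_c32 LD3_c60)) = (LP (LK LD1_c4 LD2_c50 LD3_c19)) :=
  Lre_g IH (LK LD1_c9 LD2_c32 LD3_c60) (LK LD1_c4 LD2_c50 LD3_c19) Lrfl Lrfl
theorem f121450 : Led Lsl_bt (LP (LK LD1_c17 LD2_c35 LD3_c11)) = (LP (LK LD1_c9 LD2_c32 LD3_c60)) :=
  Lre_b IH (LK LD1_c17 LD2_c35 LD3_c11) (LK LD1_c9 LD2_c32 LD3_c60) Lrfl Lrfl
theorem f433891 : Led Lsl_gt (LP (LK LD1_c12 LD2_c21 LD3_c9)) = (LP (LK LD1_c21 LD2_c27 LD3_c25)) :=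
  Lre_g IH (LK LD1_c12 LD2_c21 LD3_c9) (LK LD1_c21 LD2_c27 LD3_c25) Lrfl Lrfl
theorem f435936 : Led Lsl_ct (LP (LK LD1_c17 LD2_c35 LD3_c11)) = (LP (LK LD1_c21 LD2_c27 LD3_c25)) :=
  Lgr Lrot63 (Lpr_bt (f121450 IH) (Lpr_gt (f121447 IH) (Lpe (f87604 IH) (Lpr_ct (K7.f121406 IH) (Lpr_gt (K7.f152790 IH) (Lpe (K7.f25799 IH) (Lpr_bt (K60.f152311 IH) (Lpr_gt (K60.f152312 IH) (Lpr_ct (K60.f153021 IH) (Lpr_gt (f433891 IH) (Lpn (LP (LK LD1_c21 LD2_c27 LD3_c25)))))))))))))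
theorem f435941 : Led Lsl_cf (LP (LK LD1_c17 LD2_c35 LD3_c11)) = (LP (LK LD1_c21 LD2_c27 LD3_c25)) :=
  Lgr Lrot11 (Lpr_ct (f435936 IH) (Lpn (LP (LK LD1_c21 LD2_c27 LD3_c25))))
theorem f432474 : Led Lsl_ct (LP (LK LD1_c7 LD2_c11 LD3_c41)) = (LP (LK LD1_c13 LD2_c37 LD3_c48)) :=
  Lre_c IH (LK LD1_c7 LD2_c11 LD3_c41) (LK LD1_c13 LD2_c37 LD3_c48) Lrfl Lrfl
theorem f84280 : Led Lsl_bt (LP (LK LD1_c12 LD2_c59 LD3_c23)) = (LP (LK LD1_c6 LD2_c48 LD3_c23)) :=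
  Lre_b IH (LK LD1_c12 LD2_c59 LD3_c23) (LK LD1_c6 LD2_c48 LD3_c23) Lrfl Lrfl
theorem f434505 : Led Lsl_ct (LP (LK LD1_c12 LD2_c59 LD3_c23)) = (LP (LK LD1_c22 LD2_c9 LD3_c32)) :=
  Lre_c IH (LK LD1_c12 LD2_c59 LD3_c23) (LK LD1_c22 LD2_c9 LD3_c32) Lrfl Lrfl
theorem f434506 : Led Lsl_gt (LP (LK LD1_c13 LD2_c37 LD3_c48)) = (LP (LK LD1_c22 LD2_c9 LD3_c32)) :=
  Lgr Lrot149 (Lpe (f432474 IH) (Lpe (K57.f154918 IH) (Lpe (K11.f154634 IH) (Lpr_ct (K7.f154119 IH) (Lpr_gf (K7.f155869 IH) (Lpe (K5.f57660 IH) (Lpr_bt (K7.f84174 IH) (Lpe (f84211 IH) (Lpe (f84280 IH) (Lpr_ct (f434505 IH) (Lpn (LP (LK LD1_c22 LD2_c9 LD3_c32)))))))))))))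
theorem f84281 : Led Lsl_ct (LP (LK LD1_c22 LD2_c9 LD3_c32)) = (LP (LK LD1_c12 LD2_c59 LD3_c23)) :=
  Lre_c IH (LK LD1_c22 LD2_c9 LD3_c32) (LK LD1_c12 LD2_c59 LD3_c23) Lrfl Lrfl
theorem f435948 : Led Lsl_df (LP (LK LD1_c17 LD2_c35 LD3_c11)) = (LP (LK LD1_c12 LD2_c59 LD3_c23)) :=
  Lgr Lrot162 (Lpr_cf (f435941 IH) (Lpe (f433891 IH) (Lpe (K60.f153021 IH) (Lpe (K60.f152312 IH) (Lpr_dt (K60.f433882 IH) (Lpr_gt (K57.f154918 IH) (Lpr_ct (f432474 IH) (Lpr_gt (f434506 IH) (Lpr_ct (f84281 IH) (Lpn (LP (LK LD1_c12 LD2_c59 LD3_c23))))))))))))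
theorem f435952 : Led Lsl_bt (LP (LK LD1_c6 LD2_c48 LD3_c23)) = (LP (LK LD1_c12 LD2_c59 LD3_c23)) :=
  Lre_b IH (LK LD1_c6 LD2_c48 LD3_c23) (LK LD1_c12 LD2_c59 LD3_c23) Lrfl Lrfl
theorem f435953 : Led Lsl_dt (LP (LK LD1_c9 LD2_c32 LD3_c60)) = (LP (LK LD1_c6 LD2_c48 LD3_c23)) :=
  Lgr Lrot79 (Lpe (f121450 IH) (Lpr_df (f435948 IH) (Lpe (f435952 IH) (Lpn (LP (LK LD1_c6 LD2_c48 LD3_c23))))))
theorem f435955 : Led Lsl_df (LP (LK LD1_c9 LD2_c32 LD3_c60)) = (LP (LK LD1_c6 LD2_c48 LD3_c23)) :=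
  Lgr Lrot38 (Lpr_dt (f435953 IH) (Lpn (LP (LK LD1_c6 LD2_c48 LD3_c23))))
theorem f113189 : Led Lsl_dt (LP (LK LD1_c13 LD2_c0 LD3_c39)) = (LP (LK LD1_c6 LD2_c49 LD3_c10)) :=
  Lre_d IH (LK LD1_c13 LD2_c0 LD3_c39) (LK LD1_c6 LD2_c49 LD3_c10) Lrfl Lrfl
theorem f437577 : Led Lsl_gt (LP (LK LD1_c21 LD2_c34 LD3_c47)) = (LP (LK LD1_c13 LD2_c0 LD3_c39)) :=
  Lgr Lrot49 (Lpe (f135291 IH) (Lpr_gf (f437575 IH) (Lpe (f62498 IH) (Lpe (f434670 IH) (Lpe (f435955 IH) (Lpr_gt (f121447 IH) (Lpe (f145943 IH) (Lpe (K6.f113205 IH) (Lpe (f113189 IH) (Lpn (LP (LK LD1_c13 LD2_c0 LD3_c39))))))))))))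
theorem f434695 : Led Lsl_dt (LP (LK LD1_c22 LD2_c9 LD3_c17)) = (LP (LK LD1_c12 LD2_c59 LD3_c13)) :=
  Lre_d IH (LK LD1_c22 LD2_c9 LD3_c17) (LK LD1_c12 LD2_c59 LD3_c13) Lrfl Lrfl
theorem f153986 : Led Lsl_dt (LP (LK LD1_c12 LD2_c0 LD3_c25)) = (LP (LK LD1_c21 LD2_c5 LD3_c29)) :=
  Lre_d IH (LK LD1_c12 LD2_c0 LD3_c25) (LK LD1_c21 LD2_c5 LD3_c29) Lrfl Lrfl
theorem f907173 : Led Lsl_af (LP (LK LD1_c22 LD2_c9 LD3_c17)) = (LP (LK LD1_c21 LD2_c5 LD3_c29)) :=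
  Lgr Lrot117 (Lpr_dt (f434695 IH) (Lpr_at (f907169 IH) (Lpr_dt (f153986 IH) (Lpn (LP (LK LD1_c21 LD2_c5 LD3_c29))))))
theorem f907197 : Led Lsl_gt (LP (LK LD1_c13 LD2_c0 LD3_c39)) = (LP (LK LD1_c22 LD2_c9 LD3_c17)) :=
  Lgr Lrot46 (Lpe (f437577 IH) (Lpr_ft (f907193 IH) (Lpe (f907173 IH) (Lpn (LP (LK LD1_c22 LD2_c9 LD3_c17))))))
theorem f113194 : Led Lsl_dt (LP (LK LD1_c6 LD2_c49 LD3_c10)) = (LP (LK LD1_c13 LD2_c0 LD3_c39)) :=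
  Lre_d IH (LK LD1_c6 LD2_c49 LD3_c10) (LK LD1_c13 LD2_c0 LD3_c39) Lrfl Lrfl
theorem f84230 : Led Lsl_ct (LP (LK LD1_c12 LD2_c0 LD3_c1)) = (LP (LK LD1_c6 LD2_c9 LD3_c29)) :=
  Lre_c IH (LK LD1_c12 LD2_c0 LD3_c1) (LK LD1_c6 LD2_c9 LD3_c29) Lrfl Lrfl
theorem f143575 : Led Lsl_gf (LP (LK LD1_c12 LD2_c0 LD3_c1)) = (LP (LK LD1_c13 LD2_c0 LD3_c17)) :=
  Lgr Lrot181 (Lpr_ct (f84230 IH) (Lpr_gt (K1.f24726 IH) (Lpe (K5.f24738 IH) (Lpr_bt (K5.f24755 IH) (Lpr_gt (K5.f24798 IH) (Lpe (K6.f86779 IH) (Lpe (K6.f86789 IH) (Lpr_gt (K60.f143570 IH) (Lpe (K60.f25488 IH) (Lpr_bt (K60.f25487 IH) (Lpn (LP (LK LD1_c13 LD2_c0 LD3_c17)))))))))))))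
theorem f57735 : Led Lsl_bt (LP (LK LD1_c6 LD2_c48 LD3_c36)) = (LP (LK LD1_c12 LD2_c59 LD3_c42)) :=
  Lre_b IH (LK LD1_c6 LD2_c48 LD3_c36) (LK LD1_c12 LD2_c59 LD3_c42) Lrfl Lrfl
theorem f57736 : Led Lsl_df (LP (LK LD1_c6 LD2_c48 LD3_c36)) = (LP (LK LD1_c6 LD2_c9 LD3_c29)) :=
  Lgr Lrot12 (Lpr_bt (f57735 IH) (Lpr_dt (K1.f57728 IH) (Lpr_bt (K1.f57664 IH) (Lpn (LP (LK LD1_c6 LD2_c9 LD3_c29))))))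
theorem f57767 : Led Lsl_ct (LP (LK LD1_c12 LD2_c12 LD3_c17)) = (LP (LK LD1_c6 LD2_c18 LD3_c0)) :=
  Lre_c IH (LK LD1_c12 LD2_c12 LD3_c17) (LK LD1_c6 LD2_c18 LD3_c0) Lrfl Lrfl
theorem f153153 : Led Lsl_bt (LP (LK LD1_c12 LD2_c12 LD3_c17)) = (LP (LK LD1_c21 LD2_c18 LD3_c1)) :=
  Lre_b IH (LK LD1_c12 LD2_c12 LD3_c17) (LK LD1_c21 LD2_c18 LD3_c1) Lrfl Lrfl
theorem f125318 : Led Lsl_ct (LP (LK LD1_c9 LD2_c15 LD3_c48)) = (LP (LK LD1_c4 LD2_c44 LD3_c36)) :=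
  Lgr Lrot110 (Lpe (K5.f113616 IH) (Lpe (K4.f58121 IH) (Lpr_gf (K5.f58118 IH) (Lpe (K3.f58057 IH) (Lpe (K3.f58159 IH) (Lpr_ct (K3.f25002 IH) (Lpr_gt (K5.f125314 IH) (Lpr_ct (K4.f120025 IH) (Lpe (K2.f23508 IH) (Lpn (LP (LK LD1_c4 LD2_c44 LD3_c36))))))))))))
theorem f133316 : Led Lsl_bt (LP (LK LD1_c9 LD2_c15 LD3_c48)) = (LP (LK LD1_c17 LD2_c10 LD3_c12)) :=
  Lre_b IH (LK LD1_c9 LD2_c15 LD3_c48) (LK LD1_c17 LD2_c10 LD3_c12) Lrfl Lrfl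
theorem f153154 : Led Lsl_gf (LP (LK LD1_c21 LD2_c18 LD3_c1)) = (LP (LK LD1_c17 LD2_c10 LD3_c12)) :=
  Lgr Lrot124 (Lpe (f153153 IH) (Lpr_ct (f57767 IH) (Lpr_gt (K57.f25640 IH) (Lpe (K1.f57747 IH) (Lpr_bt (K57.f58070 IH) (Lpr_gt (K5.f57668 IH) (Lpr_ct (K7.f153138 IH) (Lpe (K7.f153147 IH) (Lpe (f125318 IH) (Lpr_bt (f133316 IH) (Lpn (LP (LK LD1_c17 LD2_c10 LD3_c12)))))))))))))
theorem f25655 : Led Lsl_ct (LP (LK LD1_c29 LD2_c57 LD3_c19)) = (LP (LK LD1_c21 LD2_c18 LD3_c1)) :=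
  Lre_c IH (LK LD1_c29 LD2_c57 LD3_c19) (LK LD1_c21 LD2_c18 LD3_c1) Lrfl Lrfl
theorem f25654 : Led Lsl_bt (LP (LK LD1_c29 LD2_c57 LD3_c19)) = (LP (LK LD1_c21 LD2_c17 LD3_c61)) :=
  Lre_b IH (LK LD1_c29 LD2_c57 LD3_c19) (LK LD1_c21 LD2_c17 LD3_c61) Lrfl Lrfl
theorem f79575 : Led Lsl_bt (LP (LK LD1_c17 LD2_c10 LD3_c12)) = (LP (LK LD1_c9 LD2_c15 LD3_c48)) :=
  Lre_b IH (LK LD1_c17 LD2_c10 LD3_c12) (LK LD1_c9 LD2_c15 LD3_c48) Lrfl Lrfl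
theorem f134070 : Led Lsl_bt (LP (LK LD1_c6 LD2_c48 LD3_c28)) = (LP (LK LD1_c12 LD2_c59 LD3_c31)) :=
  Lre_b IH (LK LD1_c6 LD2_c48 LD3_c28) (LK LD1_c12 LD2_c59 LD3_c31) Lrfl Lrfl
theorem f134071 : Led Lsl_cf (LP (LK LD1_c17 LD2_c10 LD3_c12)) = (LP (LK LD1_c12 LD2_c59 LD3_c31)) :=
  Lgr Lrot97 (Lpr_bt (f79575 IH) (Lpr_ct (f125318 IH) (Lpr_bt (K11.f23512 IH) (Lpr_ct (K6.f134063 IH) (Lpr_bt (f134070 IH) (Lpn (LP (LK LD1_c12 LD2_c59 LD3_c31))))))))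
theorem f134078 : Led Lsl_bt (LP (LK LD1_c12 LD2_c59 LD3_c31)) = (LP (LK LD1_c6 LD2_c48 LD3_c28)) :=
  Lre_b IH (LK LD1_c12 LD2_c59 LD3_c31) (LK LD1_c6 LD2_c48 LD3_c28) Lrfl Lrfl
theorem f153158 : Led Lsl_gt (LP (LK LD1_c21 LD2_c17 LD3_c61)) = (LP (LK LD1_c12 LD2_c59 LD3_c43)) :=
  Lgr Lrot82 (Lpe (f25654 IH) (Lpr_ct (f25655 IH) (Lpr_gf (f153154 IH) (Lpr_cf (f134071 IH) (Lpr_bt (f134078 IH) (Lpe (K6.f25638 IH) (Lpe (K60.f84556 IH) (Lpr_ct (K60.f84531 IH) (Lpe (K60.f84537 IH) (Lpe (K60.f84540 IH) (Lpn (LP (LK LD1_c12 LD2_c59 LD3_c43)))))))))))))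
theorem f765902 : Led Lsl_gf (LP (LK LD1_c12 LD2_c12 LD3_c16)) = (LP (LK LD1_c12 LD2_c20 LD3_c14)) :=
  Lgr Lrot147 (Lpr_ct (K57.f25642 IH) (Lpr_gt (f153158 IH) (Lpr_ct (K60.f84540 IH) (Lpr_df (f57736 IH) (Lpe (f84230 IH) (Lpr_gf (f143575 IH) (Lpe (K60.f25426 IH) (Lpq (K60.f765894 IH) (Lpe (K60.f762545 IH) (Lpe (K60.f438860 IH) (Lpn (LP (LK LD1_c12 LD2_c20 LD3_c14)))))))))))))
theorem f434919 : Led Lsl_dt (LP (LK LD1_c12 LD2_c12 LD3_c16)) = (LP (LK LD1_c13 LD2_c37 LD3_c50)) :=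
  Lgr Lrot27 (Lpe (K57.f25651 IH) (Lpr_gf (K57.f25644 IH) (Lpe (K57.f25643 IH) (Lpe (K57.f25636 IH) (Lpr_df (f84533 IH) (Lpr_gt (K57.f84539 IH) (Lpr_ct (K57.f84541 IH) (Lpr_gt (K57.f84542 IH) (Lpr_ct (K57.f434913 IH) (Lpn (LP (LK LD1_c13 LD2_c37 LD3_c50))))))))))))
theorem f907033 : Led Lsl_ct (LP (LK LD1_c12 LD2_c0 LD3_c24)) = (LP (LK LD1_c12 LD2_c27 LD3_c20)) :=
  Lgr Lrot7 (Lpe (f135219 IH) (Lpr_gf (f782825 IH) (Lpe (f84550 IH) (Lpe (K60.f84543 IH) (Lpe (K60.f438851 IH) (Lpe (K60.f783068 IH) (Lpr_dt (f435155 IH) (Lpr_gt (f907030 IH) (Lpr_dt (f906926 IH) (Lpn (LP (LK LD1_c12 LD2_c27 LD3_c20))))))))))))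
theorem f907159 : Led Lsl_cf (LP (LK LD1_c12 LD2_c59 LD3_c13)) = (LP (LK LD1_c21 LD2_c26 LD3_c44)) :=
  Lgr Lrot108 (Lpr_ft (f907157 IH) (Lpr_ct (f907033 IH) (Lpe (f907043 IH) (Lpn (LP (LK LD1_c21 LD2_c26 LD3_c44))))))
theorem f907199 : Led Lsl_dt (LP (LK LD1_c23 LD2_c2 LD3_c44)) = (LP (LK LD1_c21 LD2_c26 LD3_c44)) :=
  Lgr Lrot105 (Lpe (f434108 IH) (Lpe (f434919 IH) (Lpr_gf (f765902 IH) (Lpe (K60.f783003 IH) (Lpr_gt (K60.f113212 IH) (Lpr_dt (f113194 IH) (Lpr_gt (f907197 IH) (Lpr_dt (f434695 IH) (Lpr_cf (f907159 IH) (Lpn (LP (LK LD1_c21 LD2_c26 LD3_c44))))))))))))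
theorem f907250 : Led Lsl_dt (LP (LK LD1_c12 LD2_c27 LD3_c29)) = (LP (LK LD1_c17 LD2_c16 LD3_c29)) :=
  Lgr Lrot79 (Lpr_bf (f907215 IH) (Lpe (f907199 IH) (Lpe (f906942 IH) (Lpn (LP (LK LD1_c17 LD2_c16 LD3_c29))))))
theorem f648797 : Led Lsl_at (LP (LK LD1_c12 LD2_c27 LD3_c29)) = (LP (LK LD1_c6 LD2_c28 LD3_c3)) :=
  Lre_a IH (LK LD1_c12 LD2_c27 LD3_c29) (LK LD1_c6 LD2_c28 LD3_c3) Lrfl Lrfl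
theorem f907111 : Led Lsl_ff (LP (LK LD1_c12 LD2_c27 LD3_c29)) = (LP (LK LD1_c21 LD2_c26 LD3_c49)) :=
  Lgr Lrot30 (Lpr_at (f648797 IH) (Lpr_ft (f766072 IH) (Lpqs (f907075 IH) (Lpr_at (f762644 IH) (Lpn (LP (LK LD1_c21 LD2_c26 LD3_c49)))))))
theorem f907016 : Led Lsl_ff (LP (LK LD1_c22 LD2_c10 LD3_c6)) = (LP (LK LD1_c17 LD2_c16 LD3_c29)) :=
  Lgr Lrot3 (Lpr_ft (f907012 IH) (Lpn (LP (LK LD1_c17 LD2_c16 LD3_c29))))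
theorem f907256 : Led Lsl_df (LP (LK LD1_c21 LD2_c26 LD3_c49)) = (LP (LK LD1_c22 LD2_c10 LD3_c6)) :=
  Lgr Lrot78 (Lpe (f907111 IH) (Lpr_dt (f907250 IH) (Lpe (f907016 IH) (Lpn (LP (LK LD1_c22 LD2_c10 LD3_c6))))))
theorem f907264 : Led Lsl_dt (LP (LK LD1_c21 LD2_c26 LD3_c49)) = (LP (LK LD1_c22 LD2_c10 LD3_c6)) :=
  Lgr Lrot42 (Lpr_df (f907256 IH) (Lpn (LP (LK LD1_c22 LD2_c10 LD3_c6))))
theorem f702728 : Led Lsl_at (LP (LK LD1_c9 LD2_c20 LD3_c34)) = (LP (LK LD1_c17 LD2_c16 LD3_c29)) :=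
  Lre_a IH (LK LD1_c9 LD2_c20 LD3_c34) (LK LD1_c17 LD2_c16 LD3_c29) Lrfl Lrfl
theorem f906986 : Led Lsl_df (LP (LK LD1_c12 LD2_c27 LD3_c29)) = (LP (LK LD1_c17 LD2_c16 LD3_c29)) :=
  Lgr Lrot18 (Lpr_at (f648797 IH) (Lpr_dt (f766064 IH) (Lpqs (f906884 IH) (Lpr_at (f702728 IH) (Lpn (LP (LK LD1_c17 LD2_c16 LD3_c29)))))))
theorem f907273 : Led Lsl_ff (LP (LK LD1_c21 LD2_c26 LD3_c49)) = (LP (LK LD1_c12 LD2_c27 LD3_c29)) :=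
  Lgr Lrot19 (Lpr_dt (f907264 IH) (Lpr_ft (f907012 IH) (Lpe (f906986 IH) (Lpn (LP (LK LD1_c12 LD2_c27 LD3_c29))))))
theorem f154908 : Led Lsl_bt (LP (LK LD1_c3 LD2_c9 LD3_c9)) = (LP (LK LD1_c1 LD2_c30 LD3_c45)) :=
  Lre_b IH (LK LD1_c3 LD2_c9 LD3_c9) (LK LD1_c1 LD2_c30 LD3_c45) Lrfl Lrfl
theorem f434508 : Led Lsl_gt (LP (LK LD1_c12 LD2_c19 LD3_c13)) = (LP (LK LD1_c6 LD2_c22 LD3_c53)) :=
  Lre_g IH (LK LD1_c12 LD2_c19 LD3_c13) (LK LD1_c6 LD2_c22 LD3_c53) Lrfl Lrfl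
theorem f432431 : Led Lsl_bt (LP (LK LD1_c13 LD2_c37 LD3_c47)) = (LP (LK LD1_c7 LD2_c11 LD3_c41)) :=
  Lre_b IH (LK LD1_c13 LD2_c37 LD3_c47) (LK LD1_c7 LD2_c11 LD3_c41) Lrfl Lrfl
theorem f434509 : Led Lsl_ct (LP (LK LD1_c13 LD2_c37 LD3_c47)) = (LP (LK LD1_c12 LD2_c19 LD3_c13)) :=
  Lgr Lrot64 (Lpr_bt (f432431 IH) (Lpe (K57.f154918 IH) (Lpe (K11.f154634 IH) (Lpr_ct (K7.f154119 IH) (Lpr_gf (K7.f155869 IH) (Lpe (K5.f57660 IH) (Lpe (K7.f146217 IH) (Lpe (f154908 IH) (Lpr_ct (f154756 IH) (Lpe (f434508 IH) (Lpn (LP (LK LD1_c12 LD2_c19 LD3_c13)))))))))))))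
theorem f907252 : Led Lsl_gt (LP (LK LD1_c12 LD2_c27 LD3_c29)) = (LP (LK LD1_c13 LD2_c37 LD3_c47)) :=
  Lgr Lrot82 (Lpr_bf (f907215 IH) (Lpe (f907159 IH) (Lpe (f135288 IH) (Lpe (f84221 IH) (Lpr_bt (f84219 IH) (Lpe (K7.f146217 IH) (Lpe (f154908 IH) (Lpr_ct (f154756 IH) (Lpe (f434508 IH) (Lpe (f434509 IH) (Lpn (LP (LK LD1_c13 LD2_c37 LD3_c47)))))))))))))
theorem f907277 : Led Lsl_gf (LP (LK LD1_c12 LD2_c20 LD3_c40)) = (LP (LK LD1_c13 LD2_c37 LD3_c47)) :=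
  Lgr Lrot76 (Lpe (f762643 IH) (Lpr_ff (f907273 IH) (Lpr_gt (f907252 IH) (Lpn (LP (LK LD1_c13 LD2_c37 LD3_c47))))))
theorem f57716 : Led Lsl_bt (LP (LK LD1_c6 LD2_c17 LD3_c61)) = (LP (LK LD1_c12 LD2_c12 LD3_c13)) :=
  Lre_b IH (LK LD1_c6 LD2_c17 LD3_c61) (LK LD1_c12 LD2_c12 LD3_c13) Lrfl Lrfl
theorem f432432 : Led Lsl_dt (LP (LK LD1_c12 LD2_c12 LD3_c13)) = (LP (LK LD1_c13 LD2_c37 LD3_c47)) :=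
  Lgr Lrot79 (Lpe (f57716 IH) (Lpr_df (K57.f432429 IH) (Lpe (f432431 IH) (Lpn (LP (LK LD1_c13 LD2_c37 LD3_c47))))))
theorem f67351 : Led Lsl_at (LP (LK LD1_c12 LD2_c27 LD3_c30)) = (LP (LK LD1_c21 LD2_c34 LD3_c58)) :=
  Lre_a IH (LK LD1_c12 LD2_c27 LD3_c30) (LK LD1_c21 LD2_c34 LD3_c58) Lrfl Lrfl
theorem f907117 : Led Lsl_at (LP (LK LD1_c21 LD2_c25 LD3_c44)) = (LP (LK LD1_c21 LD2_c26 LD3_c50)) :=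
  Lgr Lrot66 (Lpr_ff (f67349 IH) (Lpe (f67351 IH) (Lpr_ff (f907113 IH) (Lpn (LP (LK LD1_c21 LD2_c26 LD3_c50))))))
theorem f907326 : Led Lsl_gt (LP (LK LD1_c21 LD2_c34 LD3_c58)) = (LP (LK LD1_c17 LD2_c14 LD3_c11)) :=
  Lgr Lrot5 (Lpe (f67349 IH) (Lpr_at (f907117 IH) (Lpe (f434477 IH) (Lpn (LP (LK LD1_c17 LD2_c14 LD3_c11))))))
theorem f765867 : Led Lsl_af (LP (LK LD1_c12 LD2_c20 LD3_c28)) = (LP (LK LD1_c21 LD2_c10 LD3_c10)) :=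
  Lgr Lrot0 (Lpr_at (K60.f765861 IH) (Lpn (LP (LK LD1_c21 LD2_c10 LD3_c10))))
theorem f765870 : Led Lsl_gf (LP (LK LD1_c12 LD2_c20 LD3_c28)) = (LP (LK LD1_c6 LD2_c48 LD3_c52)) :=
  Lgr Lrot76 (Lpr_af (f765867 IH) (Lpe (K60.f765863 IH) (Lpr_gt (K60.f84086 IH) (Lpn (LP (LK LD1_c6 LD2_c48 LD3_c52))))))
theorem f67545 : Led Lsl_dt (LP (LK LD1_c6 LD2_c27 LD3_c38)) = (LP (LK LD1_c12 LD2_c26 LD3_c42)) :=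
  Lre_d IH (LK LD1_c6 LD2_c27 LD3_c38) (LK LD1_c12 LD2_c26 LD3_c42) Lrfl Lrfl
theorem f67171 : Led Lsl_bt (LP (LK LD1_c12 LD2_c19 LD3_c28)) = (LP (LK LD1_c6 LD2_c22 LD3_c59)) :=
  Lre_b IH (LK LD1_c12 LD2_c19 LD3_c28) (LK LD1_c6 LD2_c22 LD3_c59) Lrfl Lrfl
theorem f152795 : Led Lsl_ct (LP (LK LD1_c3 LD2_c9 LD3_c36)) = (LP (LK LD1_c6 LD2_c23 LD3_c56)) :=
  Lre_c IH (LK LD1_c3 LD2_c9 LD3_c36) (LK LD1_c6 LD2_c23 LD3_c56) Lrfl Lrfl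
theorem f152796 : Led Lsl_gt (LP (LK LD1_c12 LD2_c21 LD3_c1)) = (LP (LK LD1_c6 LD2_c23 LD3_c56)) :=
  Lre_g IH (LK LD1_c12 LD2_c21 LD3_c1) (LK LD1_c6 LD2_c23 LD3_c56) Lrfl Lrfl
theorem f152797 : Led Lsl_ct (LP (LK LD1_c12 LD2_c19 LD3_c28)) = (LP (LK LD1_c12 LD2_c21 LD3_c1)) :=
  Lgr Lrot64 (Lpr_bt (f67171 IH) (Lpe (f67161 IH) (Lpe (K49.f67160 IH) (Lpr_ct (K7.f67144 IH) (Lpr_gf (K1.f67152 IH) (Lpe (K7.f24984 IH) (Lpr_gf (K7.f152783 IH) (Lpe (K60.f152792 IH) (Lpr_ct (f152795 IH) (Lpe (f152796 IH) (Lpn (LP (LK LD1_c12 LD2_c21 LD3_c1)))))))))))))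
theorem f435907 : Led Lsl_cf (LP (LK LD1_c12 LD2_c19 LD3_c28)) = (LP (LK LD1_c12 LD2_c21 LD3_c1)) :=
  Lgr Lrot11 (Lpr_ct (f152797 IH) (Lpn (LP (LK LD1_c12 LD2_c21 LD3_c1))))
theorem f433813 : Led Lsl_gf (LP (LK LD1_c12 LD2_c21 LD3_c1)) = (LP (LK LD1_c17 LD2_c14 LD3_c45)) :=
  Lgr Lrot47 (Lpr_gt (f152796 IH) (Lpe (K60.f433801 IH) (Lpr_ff (K11.f433797 IH) (Lpn (LP (LK LD1_c17 LD2_c14 LD3_c45))))))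
theorem f84127 : Led Lsl_ct (LP (LK LD1_c12 LD2_c3 LD3_c27)) = (LP (LK LD1_c12 LD2_c27 LD3_c16)) :=
  Lgr Lrot59 (Lpr_cf (K60.f84123 IH) (Lpn (LP (LK LD1_c12 LD2_c27 LD3_c16))))
theorem f435914 : Led Lsl_df (LP (LK LD1_c12 LD2_c19 LD3_c28)) = (LP (LK LD1_c12 LD2_c27 LD3_c16)) :=
  Lgr Lrot162 (Lpr_cf (f435907 IH) (Lpr_gf (f433813 IH) (Lpe (f433805 IH) (Lpr_gf (K60.f434112 IH) (Lpr_dt (K60.f431101 IH) (Lpr_gt (K60.f84134 IH) (Lpr_ct (K60.f57872 IH) (Lpr_gt (K60.f84122 IH) (Lpr_ct (f84127 IH) (Lpn (LP (LK LD1_c12 LD2_c27 LD3_c16))))))))))))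
theorem f84125 : Led Lsl_bt (LP (LK LD1_c6 LD2_c27 LD3_c59)) = (LP (LK LD1_c12 LD2_c27 LD3_c16)) :=
  Lre_b IH (LK LD1_c6 LD2_c27 LD3_c59) (LK LD1_c12 LD2_c27 LD3_c16) Lrfl Lrfl
theorem f435916 : Led Lsl_dt (LP (LK LD1_c6 LD2_c22 LD3_c59)) = (LP (LK LD1_c6 LD2_c27 LD3_c59)) :=
  Lgr Lrot79 (Lpe (f67171 IH) (Lpr_df (f435914 IH) (Lpe (f84125 IH) (Lpn (LP (LK LD1_c6 LD2_c27 LD3_c59))))))
theorem f431689 : Led Lsl_dt (LP (LK LD1_c12 LD2_c19 LD3_c12)) = (LP (LK LD1_c21 LD2_c25 LD3_c18)) :=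
  Lre_d IH (LK LD1_c12 LD2_c19 LD3_c12) (LK LD1_c21 LD2_c25 LD3_c18) Lrfl Lrfl
theorem f83361 : Led Lsl_dt (LP (LK LD1_c6 LD2_c18 LD3_c58)) = (LP (LK LD1_c6 LD2_c23 LD3_c20)) :=
  Lgr Lrot42 (Lpr_df (K2.f83354 IH) (Lpn (LP (LK LD1_c6 LD2_c23 LD3_c20))))
theorem f83360 : Led Lsl_dt (LP (LK LD1_c21 LD2_c26 LD3_c2)) = (LP (LK LD1_c12 LD2_c19 LD3_c52)) :=
  Lre_d IH (LK LD1_c21 LD2_c26 LD3_c2) (LK LD1_c12 LD2_c19 LD3_c52) Lrfl Lrfl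
theorem f435923 : Led Lsl_gt (LP (LK LD1_c21 LD2_c25 LD3_c18)) = (LP (LK LD1_c21 LD2_c26 LD3_c2)) :=
  Lgr Lrot49 (Lpe (f431689 IH) (Lpe (f154909 IH) (Lpe (f154756 IH) (Lpr_gt (f67161 IH) (Lpr_dt (f435916 IH) (Lpe (K60.f67540 IH) (Lpr_dt (f83361 IH) (Lpe (K2.f83359 IH) (Lpe (f83360 IH) (Lpn (LP (LK LD1_c21 LD2_c26 LD3_c2))))))))))))
theorem f83661 : Led Lsl_at (LP (LK LD1_c12 LD2_c19 LD3_c53)) = (LP (LK LD1_c21 LD2_c26 LD3_c2)) :=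
  Lre_a IH (LK LD1_c12 LD2_c19 LD3_c53) (LK LD1_c21 LD2_c26 LD3_c2) Lrfl Lrfl
theorem f83385 : Led Lsl_dt (LP (LK LD1_c12 LD2_c19 LD3_c53)) = (LP (LK LD1_c6 LD2_c23 LD3_c12)) :=
  Lre_d IH (LK LD1_c12 LD2_c19 LD3_c53) (LK LD1_c6 LD2_c23 LD3_c12) Lrfl Lrfl
theorem f83413 : Led Lsl_ft (LP (LK LD1_c12 LD2_c26 LD3_c42)) = (LP (LK LD1_c12 LD2_c19 LD3_c53)) :=
  Lgr Lrot54 (Lpe (f67545 IH) (Lpr_ff (K2.f83402 IH) (Lpe (f83385 IH) (Lpn (LP (LK LD1_c12 LD2_c19 LD3_c53))))))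
theorem f435928 : Led Lsl_gf (LP (LK LD1_c21 LD2_c25 LD3_c18)) = (LP (LK LD1_c12 LD2_c26 LD3_c42)) :=
  Lgr Lrot47 (Lpr_gt (f435923 IH) (Lpe (f83661 IH) (Lpe (f83413 IH) (Lpn (LP (LK LD1_c12 LD2_c26 LD3_c42))))))
theorem f435930 : Led Lsl_dt (LP (LK LD1_c21 LD2_c25 LD3_c18)) = (LP (LK LD1_c12 LD2_c19 LD3_c12)) :=
  Lre_d IH (LK LD1_c21 LD2_c25 LD3_c18) (LK LD1_c12 LD2_c19 LD3_c12) Lrfl Lrfl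
theorem f765872 : Led Lsl_dt (LP (LK LD1_c12 LD2_c20 LD3_c25)) = (LP (LK LD1_c21 LD2_c25 LD3_c17)) :=
  Lgr Lrot105 (Lpe (K57.f67117 IH) (Lpe (K60.f67120 IH) (Lpr_gf (f765870 IH) (Lpr_cf (K49.f84078 IH) (Lpr_gt (K2.f68082 IH) (Lpr_dt (f67545 IH) (Lpe (f435928 IH) (Lpr_dt (f435930 IH) (Lpe (f154910 IH) (Lpn (LP (LK LD1_c21 LD2_c25 LD3_c17))))))))))))
theorem f765874 : Led Lsl_df (LP (LK LD1_c12 LD2_c20 LD3_c25)) = (LP (LK LD1_c21 LD2_c25 LD3_c17)) :=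
  Lgr Lrot38 (Lpr_dt (f765872 IH) (Lpn (LP (LK LD1_c21 LD2_c25 LD3_c17))))
theorem f430324 : Led Lsl_ct (LP (LK LD1_c17 LD2_c14 LD3_c11)) = (LP (LK LD1_c9 LD2_c18 LD3_c52)) :=
  Lre_c IH (LK LD1_c17 LD2_c14 LD3_c11) (LK LD1_c9 LD2_c18 LD3_c52) Lrfl Lrfl
theorem f67115 : Led Lsl_ct (LP (LK LD1_c12 LD2_c13 LD3_c40)) = (LP (LK LD1_c6 LD2_c18 LD3_c56)) :=
  Lre_c IH (LK LD1_c12 LD2_c13 LD3_c40) (LK LD1_c6 LD2_c18 LD3_c56) Lrfl Lrfl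
theorem f67111 : Led Lsl_gt (LP (LK LD1_c21 LD2_c19 LD3_c44)) = (LP (LK LD1_c12 LD2_c13 LD3_c40)) :=
  Lre_g IH (LK LD1_c21 LD2_c19 LD3_c44) (LK LD1_c12 LD2_c13 LD3_c40) Lrfl Lrfl
theorem f907328 : Led Lsl_ct (LP (LK LD1_c21 LD2_c17 LD3_c56)) = (LP (LK LD1_c21 LD2_c19 LD3_c44)) :=
  Lgr Lrot152 (Lpr_gf (K60.f765800 IH) (Lpr_df (f765874 IH) (Lpr_gt (f907105 IH) (Lpr_ct (f67352 IH) (Lpr_gt (f907326 IH) (Lpr_ct (f430324 IH) (Lpr_df (f434492 IH) (Lpe (f67115 IH) (Lpe (f67111 IH) (Lpn (LP (LK LD1_c21 LD2_c19 LD3_c44))))))))))))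
theorem f67121 : Led Lsl_dt (LP (LK LD1_c12 LD2_c13 LD3_c40)) = (LP (LK LD1_c21 LD2_c19 LD3_c46)) :=
  Lre_d IH (LK LD1_c12 LD2_c13 LD3_c40) (LK LD1_c21 LD2_c19 LD3_c46) Lrfl Lrfl
theorem f67118 : Led Lsl_gt (LP (LK LD1_c21 LD2_c19 LD3_c46)) = (LP (LK LD1_c29 LD2_c58 LD3_c37)) :=
  Lre_g IH (LK LD1_c21 LD2_c19 LD3_c46) (LK LD1_c29 LD2_c58 LD3_c37) Lrfl Lrfl
theorem f907412 : Led Lsl_df (LP (LK LD1_c21 LD2_c24 LD3_c46)) = (LP (LK LD1_c29 LD2_c58 LD3_c37)) :=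
  Lgr Lrot174 (Lpr_ct (f907409 IH) (Lpe (f907406 IH) (Lpqs (f907075 IH) (Lpr_gf (f907277 IH) (Lpe (f432432 IH) (Lpe (K60.f57717 IH) (Lpr_ct (f907328 IH) (Lpr_gt (f67111 IH) (Lpr_dt (f67121 IH) (Lpr_gt (f67118 IH) (Lpn (LP (LK LD1_c29 LD2_c58 LD3_c37)))))))))))))
theorem f907413 : Led Lsl_dt (LP (LK LD1_c29 LD2_c58 LD3_c37)) = (LP (LK LD1_c21 LD2_c24 LD3_c46)) :=
  Leop (Lpr_df (f907412 IH) (Lpn (LP (LK LD1_c29 LD2_c58 LD3_c37))))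
theorem seed_2293 : LEOK LG_d (LK LD1_c29 LD2_c58 LD3_c37) :=
  Leoe_d (LK LD1_c29 LD2_c58 LD3_c37) (f907413 IH)
def v39200 : LQ := Led Lsl_bt (LP (LK LD1_c9 LD2_c20 LD3_c39))
theorem f907463 : Led Lsl_bt (LP (LK LD1_c9 LD2_c20 LD3_c39)) = v39200 :=
  Lrfl
theorem f771714 : K58.v18454 = (LP (LK LD1_c9 LD2_c20 LD3_c39)) :=
  Lefun (Lecon (K58.f767048 IH) (K59.f771642 IH)) (Lfl_gt (K50.f26296 IH))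
theorem f766203 : Led Lsl_bf K58.v17422 = K66.v18302 :=
  Lgr Lrot93 (Lpe (K58.f759690 IH) (Lpq (K51.f709639 IH) (Lpr_bt (K51.f709485 IH) (Lpr_dt (K66.f766202 IH) (Lpn K66.v18302)))))
theorem f907467 : Led Lsl_ef K66.v18302 = v39200 :=
  Lgr Lrot29 (Lpe (f766203 IH) (Lpr_et (K58.f767046 IH) (Lpqs (f771714 IH) (Lpr_bt (f907463 IH) (Lpn v39200)))))
def v9905 : LQ := Led Lsl_dt K60.v3111
theorem f678021 : Led Lsl_dt K60.v3111 = v9905 :=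
  Lrfl
theorem f678022 : Led Lsl_df K60.v3111 = v9905 :=
  Lgr Lrot38 (Lpr_dt (f678021 IH) (Lpn v9905))
def v9900 : LQ := Led Lsl_dt K60.v3110
def v30613 : LQ := Led Lsl_gt v9900
theorem f855246 : Led Lsl_gt v9900 = v30613 :=
  Lrfl
def v28765 : LQ := Led Lsl_dt K60.v8421
theorem f845989 : Led Lsl_dt K60.v8421 = v28765 :=
  Lrfl
theorem f678007 : Led Lsl_dt K60.v3110 = v9900 :=
  Lrfl
theorem f678008 : Led Lsl_df K60.v3110 = v9900 :=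
  Lgr Lrot38 (Lpr_dt (f678007 IH) (Lpn v9900))
theorem f845992 : Led Lsl_ff v9900 = v28765 :=
  Lgr Lrot19 (Lpe (f678008 IH) (Lpr_ft (K60.f678011 IH) (Lpqs (K60.f771147 IH) (Lpr_dt (f845989 IH) (Lpn v28765)))))
theorem f845994 : Led Lsl_ft v9900 = v28765 :=
  Lgr Lrot48 (Lpr_ff (f845992 IH) (Lpn v28765))
theorem f845990 : Led Lsl_af v9905 = v28765 :=
  Lgr Lrot117 (Lpe (f678022 IH) (Lpr_at (K60.f678014 IH) (Lpqs (K60.f771147 IH) (Lpr_dt (f845989 IH) (Lpn v28765)))))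
theorem f855247 : Led Lsl_gf v9905 = v30613 :=
  Lgr Lrot76 (Lpr_af (f845990 IH) (Lpe (f845994 IH) (Lpr_gt (f855246 IH) (Lpn v30613))))
def v26092 : LQ := Led Lsl_et K57.v6273
theorem f832025 : Led Lsl_et K57.v6273 = v26092 :=
  Lrfl
theorem f832028 : Led Lsl_ef K57.v6273 = v26092 :=
  Lgr Lrot88 (Lpr_et (f832025 IH) (Lpn v26092))
theorem f855249 : Led Lsl_dt v26092 = v30613 :=
  Lgr Lrot56 (Lpe (f832028 IH) (Lpe (K57.f652522 IH) (Lpe (K51.f61911 IH) (Lpe (K3.f104280 IH) (Lpe (K3.f58780 IH) (Lpe (K44.f24192 IH) (Lpr_et (K60.f453732 IH) (Lpr_gt (K60.f623911 IH) (Lpr_dt (f678007 IH) (Lpr_gt (f855246 IH) (Lpn v30613)))))))))))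
def v6277 : LQ := Led Lsl_et (LP (LK LD1_c3 LD2_c19 LD3_c51))
def v26097 : LQ := Led Lsl_dt v6277
theorem f832039 : Led Lsl_dt v6277 = v26097 :=
  Lrfl
theorem f652537 : Led Lsl_et (LP (LK LD1_c3 LD2_c19 LD3_c51)) = v6277 :=
  Lrfl
theorem f652538 : Led Lsl_ef (LP (LK LD1_c3 LD2_c19 LD3_c51)) = v6277 :=
  Lgr Lrot88 (Lpr_et (f652537 IH) (Lpn v6277))
theorem f832043 : Led Lsl_gf K65.v8422 = v26097 :=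
  Lgr Lrot145 (Lpe (K65.f671180 IH) (Lpe (K60.f507845 IH) (Lpr_gt (K62.f156465 IH) (Lpr_dt (K4.f11850 IH) (Lpe (K1.f64297 IH) (Lpe (K1.f57251 IH) (Lpr_et (K1.f57230 IH) (Lpr_gt (K50.f57517 IH) (Lpr_ef (f652538 IH) (Lpr_dt (f832039 IH) (Lpn v26097)))))))))))
def v10116 : LQ := Led Lsl_gf K51.v3188
theorem f678865 : Led Lsl_gf K51.v3188 = v10116 :=
  Lrfl
def v26096 : LQ := Led Lsl_gf v6277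
theorem f832038 : Led Lsl_gf v6277 = v26096 :=
  Lrfl
theorem f832045 : Led Lsl_cf v10116 = v26096 :=
  Lgr Lrot166 (Lpe (f678865 IH) (Lpr_dt (K51.f677969 IH) (Lpe (K51.f677967 IH) (Lpe (K51.f623893 IH) (Lpr_ct (K60.f507847 IH) (Lpr_df (K65.f671182 IH) (Lpr_gf (f832043 IH) (Lpe (f832039 IH) (Lpr_gf (f832038 IH) (Lpn v26096))))))))))
theorem f509201 : Led Lsl_at K50.v552 = K51.v2140 :=
  Lgr Lrot66 (Lpr_ff (K50.f509190 IH) (Lpe (K50.f509187 IH) (Lpr_ff (K51.f509199 IH) (Lpn K51.v2140))))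
theorem f671941 : Led Lsl_af K51.v3188 = K51.v8666 :=
  Lgr Lrot50 (Lpe (K51.f624565 IH) (Lpr_at (f509201 IH) (Lpr_et (K51.f671940 IH) (Lpn K51.v8666))))
theorem f715576 : Led Lsl_gt K51.v8775 = v10116 :=
  Lgr Lrot5 (Lpe (K51.f708276 IH) (Lpq (K51.f708282 IH) (Lpe (f671941 IH) (Lpr_gf (f678865 IH) (Lpn v10116)))))
def v11133 : LQ := Led Lsl_gf K51.v3617
theorem f683223 : Led Lsl_gf K51.v3617 = v11133 :=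
  Lrfl
theorem f709493 : v11133 = K51.v5911 :=
  (Llr Lrot76 (Lpe (f683223 IH) (Lpr_af (K51.f683196 IH) (Lpr_ff (K51.f709489 IH) (Lpr_gt (K51.f708263 IH) (Lpn K51.v5911)))))).symm
def v5280 : LQ := Led Lsl_et (LP (LK LD1_c3 LD2_c2 LD3_c57))
theorem f646889 : Led Lsl_et (LP (LK LD1_c3 LD2_c2 LD3_c57)) = v5280 :=
  Lrfl
theorem f646901 : Led Lsl_ff (LP (LK LD1_c3 LD2_c2 LD3_c59)) = K51.v5284 :=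
  Lgr Lrot3 (Lpr_ft (K51.f646899 IH) (Lpn K51.v5284))
theorem f646891 : Led Lsl_ef (LP (LK LD1_c3 LD2_c2 LD3_c57)) = v5280 :=
  Lgr Lrot88 (Lpr_et (f646889 IH) (Lpn v5280))
theorem f646892 : Led Lsl_at (LP (LK LD1_c3 LD2_c2 LD3_c59)) = v5280 :=
  Lgr Lrot80 (Lpe (K51.f444185 IH) (Lpe (K49.f453021 IH) (Lpr_ef (f646891 IH) (Lpn v5280))))
theorem f701565 : Led Lsl_ef K51.v5284 = K51.v13184 :=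
  Lgr Lrot21 (Lpe (f646901 IH) (Lpr_et (K48.f444188 IH) (Lpr_ft (K49.f502988 IH) (Lpqs (K49.f503334 IH) (Lpr_et (K51.f446125 IH) (Lpr_ft (K51.f701562 IH) (Lpn K51.v13184)))))))
def v11119 : LQ := Led Lsl_gf K51.v3612
theorem f683187 : Led Lsl_gf K51.v3612 = v11119 :=
  Lrfl
theorem f708377 : K51.v5284 = v11119 :=
  (Llr Lrot121 (Lpr_ef (f701565 IH) (Lpe (K51.f701564 IH) (Lpqs (K51.f708355 IH) (Lpe (K51.f650001 IH) (Lpe (K3.f103526 IH) (Lpr_et (K51.f103525 IH) (Lpe (K51.f135801 IH) (Lpe (K6.f113308 IH) (Lpr_dt (K6.f113291 IH) (Lpr_gf (K51.f683191 IH) (Lpe (K51.f683188 IH) (Lpr_gf (f683187 IH) (Lpn v11119)))))))))))))).symm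
def v11118 : LQ := Led Lsl_gt K51.v3612
theorem f683186 : Led Lsl_gt K51.v3612 = v11118 :=
  Lrfl
theorem f708379 : v5280 = v11118 :=
  (Llr Lrot26 (Lpe (f646892 IH) (Lpr_ff (f646901 IH) (Lpqs (f708377 IH) (Lpe (f683187 IH) (Lpr_gt (f683186 IH) (Lpn v11118))))))).symm
def v11114 : LQ := Led Lsl_gf K51.v3611
theorem f683172 : Led Lsl_gf K51.v3611 = v11114 :=
  Lrfl
theorem f715577 : Led Lsl_df v11114 = v10116 :=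
  Lgr Lrot135 (Lpe (f683172 IH) (Lpe (K51.f626432 IH) (Lpr_et (K51.f626434 IH) (Lpr_gt (f683186 IH) (Lpq (f708379 IH) (Lpe (f646889 IH) (Lpr_dt (K48.f646885 IH) (Lpq (K51.f708737 IH) (Lpq (f709493 IH) (Lpe (f683223 IH) (Lpqs (K51.f708132 IH) (Lpe (K51.f672258 IH) (Lpr_et (K51.f672260 IH) (Lpr_gt (f715576 IH) (Lpn v10116)))))))))))))))
theorem f715578 : Led Lsl_dt v11114 = v10116 :=
  Lgr Lrot42 (Lpr_df (f715577 IH) (Lpn v10116))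
def v10136 : LQ := Led Lsl_bt K35.v3194
theorem f678922 : Led Lsl_bt K35.v3194 = v10136 :=
  Lrfl
theorem f624585 : Led Lsl_dt K35.v3120 = K35.v3194 :=
  Lgr Lrot42 (Lpr_df (K35.f624584 IH) (Lpn K35.v3194))
def v9926 : LQ := Led Lsl_bt K35.v3120
theorem f678085 : Led Lsl_bt K35.v3120 = v9926 :=
  Lrfl
theorem f678086 : Led Lsl_bf K35.v3120 = v9926 :=
  Lgr Lrot24 (Lpr_bt (f678085 IH) (Lpn v9926))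
theorem f678924 : Led Lsl_df v9926 = v10136 :=
  Lgr Lrot12 (Lpe (f678086 IH) (Lpr_dt (f624585 IH) (Lpr_bt (f678922 IH) (Lpn v10136))))
theorem f678927 : Led Lsl_dt v9926 = v10136 :=
  Lgr Lrot42 (Lpr_df (f678924 IH) (Lpn v10136))
theorem f683171 : Led Lsl_df K51.v8419 = K51.v11113 :=
  Lgr Lrot38 (Lpr_dt (K51.f683170 IH) (Lpn K51.v11113))
def v10157 : LQ := Led Lsl_et K57.v3209
theorem f679015 : Led Lsl_et K57.v3209 = v10157 :=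
  Lrfl
theorem f760163 : v10157 = K51.v8419 :=
  Lefun (Lecon (f679015 IH) (K57.f760157 IH).symm) (K51.f671175 IH)
def v3211 : LQ := Led Lsl_et K51.v569
theorem f624622 : Led Lsl_et K51.v569 = v3211 :=
  Lrfl
theorem f624624 : Led Lsl_ef K51.v569 = v3211 :=
  Lgr Lrot88 (Lpr_et (f624622 IH) (Lpn v3211))
theorem f679016 : Led Lsl_af v3211 = v10157 :=
  Lgr Lrot50 (Lpe (f624624 IH) (Lpr_at (K57.f624618 IH) (Lpr_et (f679015 IH) (Lpn v10157))))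
def v10164 : LQ := Led Lsl_dt v3211
theorem f679029 : Led Lsl_dt v3211 = v10164 :=
  Lrfl
theorem f760183 : Led Lsl_af K51.v11113 = v10164 :=
  Lgr Lrot117 (Lpe (f683171 IH) (Lpq (f760163 IH) (Lpe (f679016 IH) (Lpr_dt (f679029 IH) (Lpn v10164)))))
theorem f624623 : Led Lsl_bf K35.v570 = v3211 :=
  Lgr Lrot96 (Lpe (K35.f454810 IH) (Lpr_bt (K51.f454807 IH) (Lpr_et (f624622 IH) (Lpn v3211))))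
theorem f678925 : Led Lsl_ff v3211 = v10136 :=
  Lgr Lrot25 (Lpe (f624623 IH) (Lpr_ft (K35.f624630 IH) (Lpqs (K35.f633550 IH) (Lpr_bt (f678922 IH) (Lpn v10136)))))
theorem f679032 : Led Lsl_ff v9926 = v10164 :=
  Lgr Lrot19 (Lpr_dt (f678927 IH) (Lpe (f678925 IH) (Lpr_dt (f679029 IH) (Lpn v10164))))
theorem f679034 : Led Lsl_ft v9926 = v10164 :=
  Lgr Lrot48 (Lpr_ff (f679032 IH) (Lpn v10164))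
theorem f760185 : v11114 = v9926 :=
  (Llr Lrot47 (Lpe (f683172 IH) (Lpr_gt (K51.f683169 IH) (Lpr_af (f760183 IH) (Lpe (f679034 IH) (Lpn v9926)))))).symm
theorem f760186 : v10116 = v10136 :=
  Lefun (Lecon (f715578 IH) (f760185 IH)) (f678927 IH)
def v10161 : LQ := Led Lsl_et K51.v3210
theorem f679023 : Led Lsl_et K51.v3210 = v10161 :=
  Lrfl
theorem f679025 : Led Lsl_ef K51.v3210 = v10161 :=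
  Lgr Lrot88 (Lpr_et (f679023 IH) (Lpn v10161))
theorem f679026 : Led Lsl_ct v3211 = v10161 :=
  Lgr Lrot15 (Lpe (f624622 IH) (Lpr_cf (K52.f624621 IH) (Lpr_ef (f679025 IH) (Lpn v10161))))
theorem f832046 : Led Lsl_ft v10161 = v26096 :=
  Lgr Lrot4 (Lpe (f679026 IH) (Lpr_ff (f678925 IH) (Lpq (f760186 IH) (Lpr_cf (f832045 IH) (Lpn v26096)))))
theorem f832047 : Led Lsl_ff v10161 = v26096 :=
  Lgr Lrot3 (Lpr_ft (f832046 IH) (Lpn v26096))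
theorem f679012 : Led Lsl_af K51.v3210 = K57.v10156 :=
  Lgr Lrot68 (Lpe (K52.f624621 IH) (Lpr_at (K57.f624618 IH) (Lpr_ct (K57.f679011 IH) (Lpn K57.v10156))))
theorem f832029 : Led Lsl_at v10161 = v26092 :=
  Lgr Lrot80 (Lpe (f679023 IH) (Lpr_af (f679012 IH) (Lpqs (K57.f715911 IH) (Lpr_ef (f832028 IH) (Lpn v26092)))))
def v26095 : LQ := Led Lsl_gt v6277
theorem f832037 : Led Lsl_gt v6277 = v26095 :=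
  Lrfl
theorem f832048 : v26092 = v26095 :=
  (Llr Lrot26 (Lpe (f832029 IH) (Lpr_ff (f832047 IH) (Lpe (f832038 IH) (Lpr_gt (f832037 IH) (Lpn v26095)))))).symm
def v26094 : LQ := Led Lsl_et K58.v6276
theorem f832033 : Led Lsl_et K58.v6276 = v26094 :=
  Lrfl
theorem f832035 : Led Lsl_ef K58.v6276 = v26094 :=
  Lgr Lrot88 (Lpr_et (f832033 IH) (Lpn v26094))
theorem f832036 : Led Lsl_ct v6277 = v26094 :=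
  Lgr Lrot15 (Lpe (f652537 IH) (Lpr_cf (K58.f652535 IH) (Lpr_ef (f832035 IH) (Lpn v26094))))
theorem f861287 : Led Lsl_gt v26094 = K66.v25267 :=
  Lgr Lrot94 (Lpe (f832036 IH) (Lpr_gt (f832037 IH) (Lpq (f832048 IH) (Lpr_dt (f855249 IH) (Lpe (f855247 IH) (Lpe (f678022 IH) (Lpr_cf (K60.f678018 IH) (Lpqs (K66.f771287 IH) (Lpr_df (K66.f847243 IH) (Lpr_gf (K66.f861286 IH) (Lpe (K66.f861284 IH) (Lpn K66.v25267))))))))))))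
def v26093 : LQ := Led Lsl_dt K58.v6276
theorem f832031 : Led Lsl_dt K58.v6276 = v26093 :=
  Lrfl
theorem f504169 : Led Lsl_bt (LP (LK LD1_c12 LD2_c24 LD3_c57)) = (LP (LK LD1_c6 LD2_c26 LD3_c31)) :=
  Lre_b IH (LK LD1_c12 LD2_c24 LD3_c57) (LK LD1_c6 LD2_c26 LD3_c31) Lrfl Lrfl
theorem f907466 : Led Lsl_df (LP (LK LD1_c12 LD2_c24 LD3_c57)) = v39200 :=
  Lgr Lrot12 (Lpr_bt (f504169 IH) (Lpr_dt (K59.f765153 IH) (Lpq (K59.f769668 IH) (Lpqs (f771714 IH) (Lpr_bt (f907463 IH) (Lpn v39200))))))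
theorem f907475 : Led Lsl_gf v26093 = (LP (LK LD1_c12 LD2_c24 LD3_c57)) :=
  Lgr Lrot145 (Lpe (f832031 IH) (Lpr_et (f832033 IH) (Lpr_gt (f861287 IH) (Lpr_dt (K66.f861284 IH) (Lpe (K66.f861286 IH) (Lpe (K66.f847241 IH) (Lpr_et (K66.f847245 IH) (Lpr_gt (K66.f861288 IH) (Lpr_ef (f907467 IH) (Lpe (f907466 IH) (Lpn (LP (LK LD1_c12 LD2_c24 LD3_c57)))))))))))))
def v27872 : LQ := Led Lsl_dt K58.v7804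
theorem f841763 : Led Lsl_dt K58.v7804 = v27872 :=
  Lrfl
theorem f771074 : Led Lsl_at K58.v6542 = K58.v7804 :=
  Lgr Lrot67 (Lpr_bf (K58.f771073 IH) (Lpe (K58.f770909 IH) (Lpe (K59.f702438 IH) (Lpe (K59.f632619 IH) (Lpr_bf (K58.f668506 IH) (Lpn K58.v7804))))))
theorem f832032 : Led Lsl_df K58.v6276 = v26093 :=
  Lgr Lrot38 (Lpr_dt (f832031 IH) (Lpn v26093))
theorem f841764 : Led Lsl_af v26093 = v27872 :=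
  Lgr Lrot117 (Lpe (f832032 IH) (Lpqs (K58.f768730 IH) (Lpr_at (f771074 IH) (Lpr_dt (f841763 IH) (Lpn v27872)))))
theorem f841767 : Led Lsl_ff (LP (LK LD1_c12 LD2_c15 LD3_c55)) = v27872 :=
  Lgr Lrot19 (Lpr_dt (K59.f632554 IH) (Lpqs (K58.f771123 IH) (Lpr_ft (K58.f771119 IH) (Lpr_dt (f841763 IH) (Lpn v27872)))))
theorem f841769 : Led Lsl_ft (LP (LK LD1_c12 LD2_c15 LD3_c55)) = v27872 :=
  Lgr Lrot48 (Lpr_ff (f841767 IH) (Lpn v27872))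
theorem f907476 : Led Lsl_gt (LP (LK LD1_c12 LD2_c15 LD3_c55)) = (LP (LK LD1_c12 LD2_c24 LD3_c57)) :=
  Lgr Lrot5 (Lpr_ft (f841769 IH) (Lpe (f841764 IH) (Lpr_gf (f907475 IH) (Lpn (LP (LK LD1_c12 LD2_c24 LD3_c57))))))
theorem f907477 : Led Lsl_gt (LP (LK LD1_c12 LD2_c15 LD3_c55)) = (LP (LK LD1_c12 LD2_c24 LD3_c57)) :=
  Leop (Lpe (f907476 IH) (Lpn (LP (LK LD1_c12 LD2_c15 LD3_c55))))
theorem seed_2294 : LEOK LG_g (LK LD1_c12 LD2_c15 LD3_c55) :=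
  Leoe_g (LK LD1_c12 LD2_c15 LD3_c55) (f907477 IH)
def v39211 : LQ := Led Lsl_gt (LP (LK LD1_c9 LD2_c20 LD3_c48))
theorem f907566 : Led Lsl_gt (LP (LK LD1_c9 LD2_c20 LD3_c48)) = v39211 :=
  Lrfl
theorem f133823 : Led Lsl_ct (LP (LK LD1_c9 LD2_c21 LD3_c56)) = (LP (LK LD1_c17 LD2_c10 LD3_c14)) :=
  Lgr Lrot59 (Lpr_cf (K51.f133820 IH) (Lpn (LP (LK LD1_c17 LD2_c10 LD3_c14))))
theorem f433273 : Led Lsl_gt (LP (LK LD1_c6 LD2_c41 LD3_c25)) = (LP (LK LD1_c12 LD2_c34 LD3_c32)) :=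
  Lre_g IH (LK LD1_c6 LD2_c41 LD3_c25) (LK LD1_c12 LD2_c34 LD3_c32) Lrfl Lrfl
theorem f779360 : Led Lsl_cf (LP (LK LD1_c6 LD2_c41 LD3_c25)) = K60.v19381 :=
  Lgr Lrot11 (Lpr_ct (K60.f779359 IH) (Lpn K60.v19381))
theorem f907568 : Led Lsl_bt K60.v19381 = v39211 :=
  Lgr Lrot92 (Lpe (f779360 IH) (Lpr_gt (f433273 IH) (Lpe (K60.f441177 IH) (Lpr_bt (K60.f703347 IH) (Lpe (K51.f703349 IH) (Lpr_ct (K51.f99160 IH) (Lpe (K51.f707747 IH) (Lpe (f133823 IH) (Lpr_bt (K2.f23516 IH) (Lpr_gt (f907566 IH) (Lpn v39211)))))))))))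
theorem f907572 : Led Lsl_ff (LP (LK LD1_c12 LD2_c14 LD3_c32)) = v39211 :=
  Lgr Lrot25 (Lpe (K58.f709661 IH) (Lpr_ft (K60.f779368 IH) (Lpr_bt (f907568 IH) (Lpn v39211))))
theorem f907576 : Led Lsl_ft (LP (LK LD1_c12 LD2_c14 LD3_c32)) = v39211 :=
  Lgr Lrot48 (Lpr_ff (f907572 IH) (Lpn v39211))
theorem f768506 : Led Lsl_ct (LP (LK LD1_c17 LD2_c16 LD3_c51)) = (LP (LK LD1_c12 LD2_c14 LD3_c32)) :=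
  Lgr Lrot59 (Lpr_cf (K58.f768502 IH) (Lpn (LP (LK LD1_c12 LD2_c14 LD3_c32))))
theorem f759789 : Led Lsl_bf (LP (LK LD1_c6 LD2_c19 LD3_c6)) = K59.v17430 :=
  Lgr Lrot96 (Lpr_et (K59.f68216 IH) (Lpr_bt (K51.f647279 IH) (Lpr_et (K59.f759788 IH) (Lpn K59.v17430))))
theorem f871048 : Led Lsl_ff K59.v17430 = K66.v34475 :=
  Lgr Lrot25 (Lpe (f759789 IH) (Lpr_ft (K59.f759811 IH) (Lpq (K59.f772147 IH) (Lpr_bt (K66.f871046 IH) (Lpn K66.v34475)))))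
theorem f709637 : Led Lsl_ff (LP (LK LD1_c6 LD2_c28 LD3_c17)) = (LP (LK LD1_c6 LD2_c19 LD3_c4)) :=
  Lgr Lrot3 (Lpr_ft (K51.f709633 IH) (Lpn (LP (LK LD1_c6 LD2_c19 LD3_c4))))
theorem f871061 : Led Lsl_ft (LP (LK LD1_c12 LD2_c27 LD3_c50)) = (LP (LK LD1_c21 LD2_c20 LD3_c28)) :=
  Lgr Lrot86 (Lpe (K57.f709486 IH) (Lpr_ff (f709637 IH) (Lpr_ef (K59.f759790 IH) (Lpr_ff (f871048 IH) (Lpr_ef (K66.f871057 IH) (Lpn (LP (LK LD1_c21 LD2_c20 LD3_c28))))))))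
theorem f871068 : Led Lsl_ff (LP (LK LD1_c12 LD2_c27 LD3_c50)) = (LP (LK LD1_c21 LD2_c20 LD3_c28)) :=
  Lgr Lrot3 (Lpr_ft (f871061 IH) (Lpn (LP (LK LD1_c21 LD2_c20 LD3_c28))))
theorem f104212 : Led Lsl_dt (LP (LK LD1_c12 LD2_c14 LD3_c31)) = (LP (LK LD1_c21 LD2_c20 LD3_c28)) :=
  Lre_d IH (LK LD1_c12 LD2_c14 LD3_c31) (LK LD1_c21 LD2_c20 LD3_c28) Lrfl Lrfl
theorem f871073 : Led Lsl_ft (LP (LK LD1_c12 LD2_c20 LD3_c0)) = (LP (LK LD1_c12 LD2_c14 LD3_c31)) :=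
  Lgr Lrot54 (Lpr_df (K57.f759715 IH) (Lpr_ff (f871068 IH) (Lpe (f104212 IH) (Lpn (LP (LK LD1_c12 LD2_c14 LD3_c31))))))
theorem f759742 : Led Lsl_ff (LP (LK LD1_c6 LD2_c23 LD3_c16)) = (LP (LK LD1_c12 LD2_c19 LD3_c46)) :=
  Lgr Lrot30 (Lpr_at (K57.f759706 IH) (Lpe (K57.f759729 IH) (Lpr_at (K57.f759734 IH) (Lpn (LP (LK LD1_c12 LD2_c19 LD3_c46))))))
theorem f871077 : Led Lsl_bf (LP (LK LD1_c12 LD2_c19 LD3_c46)) = (LP (LK LD1_c12 LD2_c14 LD3_c31)) :=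
  Lgr Lrot61 (Lpe (f759742 IH) (Lpr_bt (K57.f759708 IH) (Lpr_ft (f871073 IH) (Lpn (LP (LK LD1_c12 LD2_c14 LD3_c31))))))
theorem f83252 : Led Lsl_bt (LP (LK LD1_c3 LD2_c9 LD3_c21)) = (LP (LK LD1_c6 LD2_c23 LD3_c17)) :=
  Lre_b IH (LK LD1_c3 LD2_c9 LD3_c21) (LK LD1_c6 LD2_c23 LD3_c17) Lrfl Lrfl
def v6468 : LQ := Led Lsl_gt (LP (LK LD1_c3 LD2_c22 LD3_c7))
theorem f653531 : Led Lsl_gt (LP (LK LD1_c3 LD2_c22 LD3_c7)) = v6468 :=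
  Lrfl
theorem f708760 : (LP (LK LD1_c4 LD2_c44 LD3_c0)) = v6468 :=
  Lefun (Lecon (Lfl_gf (K51.f702975 IH)) (K51.f708758 IH)) (f653531 IH)
theorem f107428 : Led Lsl_ct (LP (LK LD1_c4 LD2_c44 LD3_c0)) = (LP (LK LD1_c9 LD2_c20 LD3_c54)) :=
  Lre_c IH (LK LD1_c4 LD2_c44 LD3_c0) (LK LD1_c9 LD2_c20 LD3_c54) Lrfl Lrfl
theorem f145540 : Led Lsl_gt (LP (LK LD1_c9 LD2_c20 LD3_c54)) = (LP (LK LD1_c17 LD2_c16 LD3_c50)) :=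
  Lre_g IH (LK LD1_c9 LD2_c20 LD3_c54) (LK LD1_c17 LD2_c16 LD3_c50) Lrfl Lrfl
theorem f871081 : Led Lsl_cf (LP (LK LD1_c17 LD2_c16 LD3_c50)) = (LP (LK LD1_c12 LD2_c14 LD3_c31)) :=
  Lgr Lrot163 (Lpe (f145540 IH) (Lpe (f107428 IH) (Lpqs (f708760 IH) (Lpe (f653531 IH) (Lpe (K51.f23228 IH) (Lpr_ct (K32.f23232 IH) (Lpr_gf (K52.f140908 IH) (Lpe (K2.f83246 IH) (Lpr_bt (f83252 IH) (Lpe (K59.f83578 IH) (Lpr_bf (f871077 IH) (Lpn (LP (LK LD1_c12 LD2_c14 LD3_c31))))))))))))))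
theorem f761507 : Led Lsl_ct (LP (LK LD1_c12 LD2_c33 LD3_c16)) = (LP (LK LD1_c12 LD2_c20 LD3_c0)) :=
  Lgr Lrot59 (Lpr_cf (K57.f761502 IH) (Lpn (LP (LK LD1_c12 LD2_c20 LD3_c0))))
theorem f871088 : Led Lsl_ft (LP (LK LD1_c17 LD2_c16 LD3_c50)) = (LP (LK LD1_c12 LD2_c33 LD3_c16)) :=
  Lgr Lrot4 (Lpr_cf (f871081 IH) (Lpe (f871073 IH) (Lpe (f761507 IH) (Lpn (LP (LK LD1_c12 LD2_c33 LD3_c16))))))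
theorem f871094 : Led Lsl_ff (LP (LK LD1_c17 LD2_c16 LD3_c50)) = (LP (LK LD1_c12 LD2_c33 LD3_c16)) :=
  Lgr Lrot3 (Lpr_ft (f871088 IH) (Lpn (LP (LK LD1_c12 LD2_c33 LD3_c16))))
theorem f437601 : Led Lsl_gt (LP (LK LD1_c6 LD2_c32 LD3_c60)) = (LP (LK LD1_c12 LD2_c33 LD3_c15)) :=
  Lre_g IH (LK LD1_c6 LD2_c32 LD3_c60) (LK LD1_c12 LD2_c33 LD3_c15) Lrfl Lrfl
theorem f871098 : Led Lsl_at (LP (LK LD1_c17 LD2_c16 LD3_c50)) = (LP (LK LD1_c12 LD2_c33 LD3_c15)) :=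
  Lgr Lrot26 (Lpr_ff (f871094 IH) (Lpr_gt (K57.f134150 IH) (Lpr_gt (f437601 IH) (Lpn (LP (LK LD1_c12 LD2_c33 LD3_c15))))))
theorem f709761 : Led Lsl_af (LP (LK LD1_c12 LD2_c27 LD3_c50)) = (LP (LK LD1_c21 LD2_c4 LD3_c53)) :=
  Lgr Lrot0 (Lpr_at (K57.f709631 IH) (Lpn (LP (LK LD1_c21 LD2_c4 LD3_c53))))
theorem f90482 : Led Lsl_dt (LP (LK LD1_c12 LD2_c14 LD3_c32)) = (LP (LK LD1_c21 LD2_c4 LD3_c53)) :=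
  Lgr Lrot42 (Lpr_df (K58.f90480 IH) (Lpn (LP (LK LD1_c21 LD2_c4 LD3_c53))))
theorem f759717 : Led Lsl_at (LP (LK LD1_c12 LD2_c20 LD3_c0)) = (LP (LK LD1_c12 LD2_c14 LD3_c32)) :=
  Lgr Lrot51 (Lpr_df (K57.f759715 IH) (Lpr_af (f709761 IH) (Lpe (f90482 IH) (Lpn (LP (LK LD1_c12 LD2_c14 LD3_c32))))))
theorem f768504 : Led Lsl_at (LP (LK LD1_c17 LD2_c16 LD3_c51)) = (LP (LK LD1_c12 LD2_c33 LD3_c16)) :=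
  Lgr Lrot107 (Lpr_cf (K58.f768502 IH) (Lpe (f759717 IH) (Lpe (f761507 IH) (Lpn (LP (LK LD1_c12 LD2_c33 LD3_c16))))))
theorem f871103 : Led Lsl_ff (LP (LK LD1_c17 LD2_c16 LD3_c51)) = (LP (LK LD1_c12 LD2_c33 LD3_c15)) :=
  Lgr Lrot30 (Lpr_at (f768504 IH) (Lpe (f871094 IH) (Lpr_at (f871098 IH) (Lpn (LP (LK LD1_c12 LD2_c33 LD3_c15))))))
theorem f907577 : Led Lsl_cf (LP (LK LD1_c12 LD2_c33 LD3_c15)) = v39211 :=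
  Lgr Lrot108 (Lpe (f871103 IH) (Lpr_ct (f768506 IH) (Lpr_ft (f907576 IH) (Lpn v39211))))
theorem f871102 : Led Lsl_bt (LP (LK LD1_c12 LD2_c33 LD3_c15)) = (LP (LK LD1_c21 LD2_c39 LD3_c14)) :=
  Lre_b IH (LK LD1_c12 LD2_c33 LD3_c15) (LK LD1_c21 LD2_c39 LD3_c14) Lrfl Lrfl
theorem f779353 : Led Lsl_bt (LP (LK LD1_c12 LD2_c47 LD3_c58)) = (LP (LK LD1_c6 LD2_c41 LD3_c25)) :=
  Lre_b IH (LK LD1_c12 LD2_c47 LD3_c58) (LK LD1_c6 LD2_c41 LD3_c25) Lrfl Lrfl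
theorem f907578 : Led Lsl_ct (LP (LK LD1_c21 LD2_c39 LD3_c14)) = (LP (LK LD1_c12 LD2_c47 LD3_c58)) :=
  Lgr Lrot83 (Lpe (f871102 IH) (Lpr_cf (f907577 IH) (Lpe (f907568 IH) (Lpe (K60.f779359 IH) (Lpe (f779353 IH) (Lpn (LP (LK LD1_c12 LD2_c47 LD3_c58))))))))
theorem f907579 : Led Lsl_ct (LP (LK LD1_c21 LD2_c39 LD3_c14)) = (LP (LK LD1_c12 LD2_c47 LD3_c58)) :=
  Leop (Lpe (f907578 IH) (Lpn (LP (LK LD1_c21 LD2_c39 LD3_c14))))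
theorem seed_2295 : LEOK LG_c (LK LD1_c21 LD2_c39 LD3_c14) :=
  Leoe_c (LK LD1_c21 LD2_c39 LD3_c14) (f907579 IH)
theorem f871106 : Led Lsl_ft (LP (LK LD1_c17 LD2_c16 LD3_c51)) = (LP (LK LD1_c12 LD2_c33 LD3_c15)) :=
  Lgr Lrot48 (Lpr_ff (f871103 IH) (Lpn (LP (LK LD1_c12 LD2_c33 LD3_c15))))
theorem f907575 : Led Lsl_ct (LP (LK LD1_c12 LD2_c33 LD3_c15)) = v39211 :=
  Lgr Lrot40 (Lpe (f871106 IH) (Lpr_cf (K58.f768502 IH) (Lpr_ff (f907572 IH) (Lpn v39211))))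
theorem f907580 : Led Lsl_gt (LP (LK LD1_c21 LD2_c39 LD3_c14)) = (LP (LK LD1_c30 LD2_c6 LD3_c19)) :=
  Lre_g IH (LK LD1_c21 LD2_c39 LD3_c14) (LK LD1_c30 LD2_c6 LD3_c19) Lrfl Lrfl
theorem f438706 : Led Lsl_gt (LP (LK LD1_c12 LD2_c58 LD3_c31)) = (LP (LK LD1_c6 LD2_c47 LD3_c52)) :=
  Lre_g IH (LK LD1_c12 LD2_c58 LD3_c31) (LK LD1_c6 LD2_c47 LD3_c52) Lrfl Lrfl
theorem f760223 : Led Lsl_ct (LP (LK LD1_c22 LD2_c8 LD3_c27)) = (LP (LK LD1_c12 LD2_c58 LD3_c31)) :=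
  Lre_c IH (LK LD1_c22 LD2_c8 LD3_c27) (LK LD1_c12 LD2_c58 LD3_c31) Lrfl Lrfl
theorem f907588 : Led Lsl_bf (LP (LK LD1_c30 LD2_c6 LD3_c19)) = (LP (LK LD1_c22 LD2_c8 LD3_c27)) :=
  Lgr Lrot34 (Lpe (f907580 IH) (Lpe (f871102 IH) (Lpr_ct (f907575 IH) (Lpe (f907566 IH) (Lpe (K57.f760207 IH) (Lpe (K57.f504462 IH) (Lpe (K57.f504435 IH) (Lpr_ct (K57.f140913 IH) (Lpe (f438706 IH) (Lpe (f760223 IH) (Lpn (LP (LK LD1_c22 LD2_c8 LD3_c27)))))))))))))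
theorem f907589 : Led Lsl_bt (LP (LK LD1_c22 LD2_c8 LD3_c27)) = (LP (LK LD1_c30 LD2_c6 LD3_c19)) :=
  Leop (Lpr_bf (f907588 IH) (Lpn (LP (LK LD1_c22 LD2_c8 LD3_c27))))
theorem seed_2296 : LEOK LG_b (LK LD1_c22 LD2_c8 LD3_c27) :=
  Leoe_b (LK LD1_c22 LD2_c8 LD3_c27) (f907589 IH)
def v39224 : LQ := Led Lsl_gf (LP (LK LD1_c9 LD2_c20 LD3_c56))
theorem f907718 : Led Lsl_gf (LP (LK LD1_c9 LD2_c20 LD3_c56)) = v39224 :=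
  Lrfl
theorem f120059 : Led Lsl_bt (LP (LK LD1_c9 LD2_c20 LD3_c56)) = (LP (LK LD1_c4 LD2_c44 LD3_c1)) :=
  Lre_b IH (LK LD1_c9 LD2_c20 LD3_c56) (LK LD1_c4 LD2_c44 LD3_c1) Lrfl Lrfl
theorem f134361 : Led Lsl_bt (LP (LK LD1_c4 LD2_c41 LD3_c59)) = (LP (LK LD1_c9 LD2_c18 LD3_c24)) :=
  Lre_b IH (LK LD1_c4 LD2_c41 LD3_c59) (LK LD1_c9 LD2_c18 LD3_c24) Lrfl Lrfl
theorem f134362 : Led Lsl_cf (LP (LK LD1_c9 LD2_c20 LD3_c56)) = (LP (LK LD1_c9 LD2_c18 LD3_c24)) :=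
  Lgr Lrot97 (Lpr_bt (f120059 IH) (Lpr_ct (K5.f107438 IH) (Lpe (K5.f120054 IH) (Lpr_ct (K7.f134356 IH) (Lpr_bt (f134361 IH) (Lpn (LP (LK LD1_c9 LD2_c18 LD3_c24))))))))
theorem f131340 : Led Lsl_bt (LP (LK LD1_c9 LD2_c18 LD3_c24)) = (LP (LK LD1_c4 LD2_c41 LD3_c59)) :=
  Lre_b IH (LK LD1_c9 LD2_c18 LD3_c24) (LK LD1_c4 LD2_c41 LD3_c59) Lrfl Lrfl
theorem f131342 : Led Lsl_gt (LP (LK LD1_c6 LD2_c26 LD3_c14)) = (LP (LK LD1_c12 LD2_c24 LD3_c27)) :=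
  Lre_g IH (LK LD1_c6 LD2_c26 LD3_c14) (LK LD1_c12 LD2_c24 LD3_c27) Lrfl Lrfl
theorem f131343 : Led Lsl_bt (LP (LK LD1_c21 LD2_c31 LD3_c13)) = (LP (LK LD1_c12 LD2_c24 LD3_c27)) :=
  Lre_b IH (LK LD1_c21 LD2_c31 LD3_c13) (LK LD1_c12 LD2_c24 LD3_c27) Lrfl Lrfl
theorem f907720 : Led Lsl_ct (LP (LK LD1_c21 LD2_c31 LD3_c13)) = v39224 :=
  Lgr Lrot64 (Lpr_bt (f131343 IH) (Lpe (f131342 IH) (Lpe (K6.f131341 IH) (Lpr_ct (K6.f108841 IH) (Lpe (K5.f131319 IH) (Lpe (K7.f82822 IH) (Lpe (K7.f82823 IH) (Lpe (f131340 IH) (Lpe (f134362 IH) (Lpr_gf (f907718 IH) (Lpn v39224)))))))))))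
def v39223 : LQ := Led Lsl_gt (LP (LK LD1_c9 LD2_c20 LD3_c56))
theorem f907712 : Led Lsl_gt (LP (LK LD1_c9 LD2_c20 LD3_c56)) = v39223 :=
  Lrfl
theorem f120065 : Led Lsl_bt (LP (LK LD1_c4 LD2_c44 LD3_c1)) = (LP (LK LD1_c9 LD2_c20 LD3_c56)) :=
  Lre_b IH (LK LD1_c4 LD2_c44 LD3_c1) (LK LD1_c9 LD2_c20 LD3_c56) Lrfl Lrfl
theorem f82465 : Led Lsl_bt (LP (LK LD1_c0 LD2_c18 LD3_c58)) = (LP (LK LD1_c0 LD2_c8 LD3_c32)) :=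
  Lre_b IH (LK LD1_c0 LD2_c18 LD3_c58) (LK LD1_c0 LD2_c8 LD3_c32) Lrfl Lrfl
theorem f146220 : Led Lsl_gf (LP (LK LD1_c1 LD2_c7 LD3_c13)) = (LP (LK LD1_c0 LD2_c45 LD3_c4)) :=
  Lgr Lrot124 (Lpe (K5.f120052 IH) (Lpr_ct (K5.f82466 IH) (Lpr_gt (K4.f25757 IH) (Lpe (K2.f82395 IH) (Lpr_bt (f82465 IH) (Lpr_gt (K1.f24981 IH) (Lpe (K2.f67384 IH) (Lpr_gt (K6.f146215 IH) (Lpe (K7.f146201 IH) (Lpr_bt (K7.f146198 IH) (Lpn (LP (LK LD1_c0 LD2_c45 LD3_c4)))))))))))))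
theorem f105849 : Led Lsl_ct (LP (LK LD1_c22 LD2_c48 LD3_c49)) = (LP (LK LD1_c13 LD2_c28 LD3_c51)) :=
  Lre_c IH (LK LD1_c22 LD2_c48 LD3_c49) (LK LD1_c13 LD2_c28 LD3_c51) Lrfl Lrfl
theorem f907714 : Led Lsl_df (LP (LK LD1_c22 LD2_c48 LD3_c49)) = v39223 :=
  Lgr Lrot183 (Lpr_ct (f105849 IH) (Lpr_bt (K29.f105848 IH) (Lpe (K3.f105760 IH) (Lpr_dt (K3.f18004 IH) (Lpr_ct (K3.f18005 IH) (Lpr_bt (K33.f10102 IH) (Lpr_gt (K47.f447629 IH) (Lpe (K47.f447626 IH) (Lpr_ct (K7.f143261 IH) (Lpe (K7.f154095 IH) (Lpe (K7.f152176 IH) (Lpr_dt (K6.f20915 IH) (Lpe (K6.f146209 IH) (Lpr_bt (K7.f146198 IH) (Lpe (f146220 IH) (Lpr_dt (K3.f107441 IH) (Lpr_ct (K5.f120063 IH) (Lpr_bt (f120065 IH) (Lpr_gt (f907712 IH) (Lpn v39223))))))))))))))))))))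
theorem f105850 : Led Lsl_ct (LP (LK LD1_c13 LD2_c28 LD3_c51)) = (LP (LK LD1_c22 LD2_c48 LD3_c49)) :=
  Lre_c IH (LK LD1_c13 LD2_c28 LD3_c51) (LK LD1_c22 LD2_c48 LD3_c49) Lrfl Lrfl
theorem f782980 : Led Lsl_af (LP (LK LD1_c29 LD2_c50 LD3_c45)) = (LP (LK LD1_c22 LD2_c48 LD3_c49)) :=
  Lgr Lrot68 (Lpr_ct (K60.f782974 IH) (Lpr_at (K60.f121720 IH) (Lpr_ct (f105850 IH) (Lpn (LP (LK LD1_c22 LD2_c48 LD3_c49))))))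
theorem f435779 : Led Lsl_dt (LP (LK LD1_c29 LD2_c50 LD3_c45)) = (LP (LK LD1_c21 LD2_c5 LD3_c3)) :=
  Lre_d IH (LK LD1_c29 LD2_c50 LD3_c45) (LK LD1_c21 LD2_c5 LD3_c3) Lrfl Lrfl
theorem f907715 : Led Lsl_at (LP (LK LD1_c21 LD2_c5 LD3_c3)) = v39223 :=
  Lgr Lrot51 (Lpe (f435779 IH) (Lpr_af (f782980 IH) (Lpr_df (f907714 IH) (Lpn v39223))))
theorem f907719 : Led Lsl_ff (LP (LK LD1_c21 LD2_c5 LD3_c3)) = v39224 :=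
  Lgr Lrot52 (Lpr_at (f907715 IH) (Lpe (f907712 IH) (Lpr_gf (f907718 IH) (Lpn v39224))))
theorem f782972 : Led Lsl_ct (LP (LK LD1_c21 LD2_c5 LD3_c3)) = (LP (LK LD1_c23 LD2_c23 LD3_c51)) :=
  Lgr Lrot59 (Lpr_cf (K60.f782969 IH) (Lpn (LP (LK LD1_c23 LD2_c23 LD3_c51))))
theorem f907722 : Led Lsl_ff (LP (LK LD1_c21 LD2_c31 LD3_c13)) = (LP (LK LD1_c23 LD2_c23 LD3_c51)) :=
  Lgr Lrot23 (Lpr_ct (f907720 IH) (Lpe (f907719 IH) (Lpr_ct (f782972 IH) (Lpn (LP (LK LD1_c23 LD2_c23 LD3_c51))))))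
theorem f907723 : Led Lsl_ft (LP (LK LD1_c23 LD2_c23 LD3_c51)) = (LP (LK LD1_c21 LD2_c31 LD3_c13)) :=
  Leop (Lpr_ff (f907722 IH) (Lpn (LP (LK LD1_c23 LD2_c23 LD3_c51))))
theorem seed_2297 : LEOK LG_f (LK LD1_c23 LD2_c23 LD3_c51) :=
  Leoe_f (LK LD1_c23 LD2_c23 LD3_c51) (f907723 IH)
def v39233 : LQ := Led Lsl_gf (LP (LK LD1_c9 LD2_c21 LD3_c4))
theorem f907811 : Led Lsl_gf (LP (LK LD1_c9 LD2_c21 LD3_c4)) = v39233 :=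
  Lrfl
theorem f907814 : Led Lsl_dt K66.v13757 = v39233 :=
  Lgr Lrot57 (Lpr_gf (K66.f766705 IH) (Lpe (K66.f653405 IH) (Lpr_gt (K60.f653367 IH) (Lpqs (K51.f709168 IH) (Lpe (K51.f633498 IH) (Lpe (K51.f632926 IH) (Lpr_dt (K51.f144053 IH) (Lpe (K51.f144097 IH) (Lpe (K62.f144098 IH) (Lpr_gf (f907811 IH) (Lpn v39233)))))))))))
theorem f704697 : Led Lsl_ef (LP (LK LD1_c4 LD2_c47 LD3_c50)) = K66.v13757 :=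
  Lgr Lrot88 (Lpr_et (K66.f704695 IH) (Lpn K66.v13757))
theorem f761024 : Led Lsl_cf K66.v13757 = K66.v17590 :=
  Lgr Lrot39 (Lpe (f704697 IH) (Lpr_ct (K57.f704688 IH) (Lpq (K57.f715893 IH) (Lpr_et (K66.f761022 IH) (Lpn K66.v17590)))))
theorem f85089 : Led Lsl_ct (LP (LK LD1_c7 LD2_c31 LD3_c17)) = (LP (LK LD1_c3 LD2_c45 LD3_c16)) :=
  Lre_c IH (LK LD1_c7 LD2_c31 LD3_c17) (LK LD1_c3 LD2_c45 LD3_c16) Lrfl Lrfl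
theorem f85087 : Led Lsl_ct (LP (LK LD1_c3 LD2_c45 LD3_c16)) = (LP (LK LD1_c7 LD2_c31 LD3_c17)) :=
  Lre_c IH (LK LD1_c3 LD2_c45 LD3_c16) (LK LD1_c7 LD2_c31 LD3_c17) Lrfl Lrfl
theorem f772085 : K58.v13466 = (LP (LK LD1_c7 LD2_c31 LD3_c17)) :=
  Lefun (Lecon (Lfl_cf (K58.f766694 IH)) (K66.f772050 IH).symm) (f85087 IH)
theorem f766667 : Led Lsl_ct (LP (LK LD1_c17 LD2_c17 LD3_c33)) = (LP (LK LD1_c9 LD2_c21 LD3_c28)) :=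
  Lre_c IH (LK LD1_c17 LD2_c17 LD3_c33) (LK LD1_c9 LD2_c21 LD3_c28) Lrfl Lrfl
theorem f25278 : Led Lsl_ct (LP (LK LD1_c9 LD2_c21 LD3_c24)) = (LP (LK LD1_c17 LD2_c17 LD3_c28)) :=
  Lre_c IH (LK LD1_c9 LD2_c21 LD3_c24) (LK LD1_c17 LD2_c17 LD3_c28) Lrfl Lrfl
theorem f715744 : Led Lsl_dt (LP (LK LD1_c17 LD2_c17 LD3_c28)) = (LP (LK LD1_c17 LD2_c17 LD3_c35)) :=
  Lgr Lrot42 (Lpr_df (K52.f715741 IH) (Lpn (LP (LK LD1_c17 LD2_c17 LD3_c35))))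
theorem f715743 : Led Lsl_ct (LP (LK LD1_c17 LD2_c17 LD3_c35)) = (LP (LK LD1_c9 LD2_c21 LD3_c29)) :=
  Lre_c IH (LK LD1_c17 LD2_c17 LD3_c35) (LK LD1_c9 LD2_c21 LD3_c29) Lrfl Lrfl
theorem f715736 : Led Lsl_df (LP (LK LD1_c6 LD2_c47 LD3_c11)) = (LP (LK LD1_c9 LD2_c21 LD3_c29)) :=
  Lgr Lrot38 (Lpr_dt (K52.f715733 IH) (Lpn (LP (LK LD1_c9 LD2_c21 LD3_c29))))
theorem f715727 : Led Lsl_ct (LP (LK LD1_c6 LD2_c47 LD3_c11)) = (LP (LK LD1_c6 LD2_c20 LD3_c40)) :=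
  Lgr Lrot59 (Lpr_cf (K52.f715724 IH) (Lpn (LP (LK LD1_c6 LD2_c20 LD3_c40))))
theorem f670702 : Led Lsl_ct (LP (LK LD1_c9 LD2_c21 LD3_c26)) = (LP (LK LD1_c17 LD2_c17 LD3_c30)) :=
  Lre_c IH (LK LD1_c9 LD2_c21 LD3_c26) (LK LD1_c17 LD2_c17 LD3_c30) Lrfl Lrfl
theorem f766668 : Led Lsl_df (LP (LK LD1_c17 LD2_c17 LD3_c33)) = (LP (LK LD1_c17 LD2_c17 LD3_c30)) :=
  Lgr Lrot43 (Lpr_ct (f766667 IH) (Lpr_dt (K58.f766663 IH) (Lpr_ct (K58.f715549 IH) (Lpr_dt (K64.f708001 IH) (Lpqs (K52.f707997 IH) (Lpe (K58.f703155 IH) (Lpr_dt (K51.f25277 IH) (Lpr_ct (f25278 IH) (Lpr_dt (f715744 IH) (Lpr_ct (f715743 IH) (Lpe (f715736 IH) (Lpr_ct (f715727 IH) (Lpr_dt (K59.f670698 IH) (Lpe (K51.f670699 IH) (Lpr_dt (K58.f670701 IH) (Lpr_ct (f670702 IH) (Lpn (LP (LK LD1_c17 LD2_c17 LD3_c30)))))))))))))))))))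
theorem f801276 : Led Lsl_ff (LP (LK LD1_c23 LD2_c47 LD3_c14)) = (LP (LK LD1_c17 LD2_c17 LD3_c33)) :=
  Lgr Lrot19 (Lpr_dt (K62.f801269 IH) (Lpe (K62.f707914 IH) (Lpe (f766668 IH) (Lpn (LP (LK LD1_c17 LD2_c17 LD3_c33))))))
theorem f801278 : Led Lsl_ft (LP (LK LD1_c23 LD2_c47 LD3_c14)) = (LP (LK LD1_c17 LD2_c17 LD3_c33)) :=
  Lgr Lrot48 (Lpr_ff (f801276 IH) (Lpn (LP (LK LD1_c17 LD2_c17 LD3_c33))))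
theorem f773025 : Led Lsl_gt (LP (LK LD1_c14 LD2_c11 LD3_c44)) = (LP (LK LD1_c23 LD2_c47 LD3_c13)) :=
  Lre_g IH (LK LD1_c14 LD2_c11 LD3_c44) (LK LD1_c23 LD2_c47 LD3_c13) Lrfl Lrfl
theorem f801282 : Led Lsl_af (LP (LK LD1_c23 LD2_c47 LD3_c13)) = (LP (LK LD1_c17 LD2_c17 LD3_c33)) :=
  Lgr Lrot31 (Lpe (f773025 IH) (Lpe (K62.f773135 IH) (Lpr_ft (f801278 IH) (Lpn (LP (LK LD1_c17 LD2_c17 LD3_c33))))))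
theorem f715769 : Led Lsl_af (LP (LK LD1_c17 LD2_c17 LD3_c30)) = (LP (LK LD1_c22 LD2_c7 LD3_c18)) :=
  Lgr Lrot68 (Lpr_ct (K62.f670705 IH) (Lpr_at (K58.f708006 IH) (Lpr_ct (K62.f715554 IH) (Lpn (LP (LK LD1_c22 LD2_c7 LD3_c18))))))
theorem f801286 : Led Lsl_dt (LP (LK LD1_c23 LD2_c47 LD3_c13)) = (LP (LK LD1_c22 LD2_c7 LD3_c18)) :=
  Lgr Lrot44 (Lpr_af (f801282 IH) (Lpr_df (f766668 IH) (Lpr_af (f715769 IH) (Lpn (LP (LK LD1_c22 LD2_c7 LD3_c18))))))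
def v39232 : LQ := Led Lsl_gt (LP (LK LD1_c9 LD2_c21 LD3_c4))
theorem f907800 : Led Lsl_gt (LP (LK LD1_c9 LD2_c21 LD3_c4)) = v39232 :=
  Lrfl
theorem f144101 : Led Lsl_dt (LP (LK LD1_c4 LD2_c44 LD3_c6)) = (LP (LK LD1_c9 LD2_c21 LD3_c4)) :=
  Lre_d IH (LK LD1_c4 LD2_c44 LD3_c6) (LK LD1_c9 LD2_c21 LD3_c4) Lrfl Lrfl
def v2616 : LQ := Led Lsl_gt (LP (LK LD1_c1 LD2_c49 LD3_c46))
theorem f527880 : Led Lsl_gt (LP (LK LD1_c1 LD2_c49 LD3_c46)) = v2616 :=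
  Lrfl
theorem f664459 : Led Lsl_at (LP (LK LD1_c3 LD2_c45 LD3_c17)) = K59.v7310 :=
  Lgr Lrot66 (Lpe (K56.f85083 IH) (Lpr_af (K2.f95597 IH) (Lpr_ff (K59.f664457 IH) (Lpn K59.v7310))))
theorem f664465 : Led Lsl_gt v2616 = K59.v7310 :=
  Lgr Lrot46 (Lpe (f527880 IH) (Lpr_ft (K56.f85083 IH) (Lpr_at (f664459 IH) (Lpn K59.v7310))))
theorem f772051 : v2616 = (LP (LK LD1_c3 LD2_c12 LD3_c31)) :=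
  Lefun (Lecon (Lfl_gt (f664465 IH)) ((K59.f772029 IH).trans (K58.f767179 IH).symm)) (Lfl_gt (K58.f649052 IH))
theorem f649055 : Led Lsl_dt (LP (LK LD1_c3 LD2_c12 LD3_c31)) = (LP (LK LD1_c6 LD2_c29 LD3_c8)) :=
  Lre_d IH (LK LD1_c3 LD2_c12 LD3_c31) (LK LD1_c6 LD2_c29 LD3_c8) Lrfl Lrfl
def v18389 : LQ := Led Lsl_ct (LP (LK LD1_c6 LD2_c29 LD3_c8))
theorem f766726 : Led Lsl_ct (LP (LK LD1_c6 LD2_c29 LD3_c8)) = v18389 :=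
  Lrfl
theorem f907801 : Led Lsl_df v18389 = v39232 :=
  Lgr Lrot84 (Lpe (f766726 IH) (Lpe (f649055 IH) (Lpq (f772051 IH) (Lpe (f527880 IH) (Lpe (K3.f85070 IH) (Lpe (K59.f85086 IH) (Lpe (f85089 IH) (Lpq (f772085 IH) (Lpqs (K58.f707934 IH) (Lpe (K58.f703023 IH) (Lpr_dt (f144101 IH) (Lpr_gt (f907800 IH) (Lpn v39232)))))))))))))
theorem f766728 : Led Lsl_cf (LP (LK LD1_c6 LD2_c29 LD3_c8)) = v18389 :=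
  Lgr Lrot11 (Lpr_ct (f766726 IH) (Lpn v18389))
theorem f715783 : Led Lsl_dt K58.v13466 = (LP (LK LD1_c12 LD2_c57 LD3_c26)) :=
  Lgr Lrot60 (Lpe (K58.f703157 IH) (Lpe (K51.f437820 IH) (Lpr_ff (K62.f715775 IH) (Lpn (LP (LK LD1_c12 LD2_c57 LD3_c26))))))
theorem f801272 : Led Lsl_af (LP (LK LD1_c23 LD2_c47 LD3_c14)) = (LP (LK LD1_c17 LD2_c17 LD3_c35)) :=
  Lgr Lrot117 (Lpr_dt (K62.f801269 IH) (Lpr_at (K62.f707975 IH) (Lpr_dt (f715744 IH) (Lpn (LP (LK LD1_c17 LD2_c17 LD3_c35))))))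
theorem f801288 : Led Lsl_ft (LP (LK LD1_c23 LD2_c47 LD3_c13)) = (LP (LK LD1_c17 LD2_c17 LD3_c35)) :=
  Lgr Lrot101 (Lpr_af (f801282 IH) (Lpe (f801278 IH) (Lpr_af (f801272 IH) (Lpn (LP (LK LD1_c17 LD2_c17 LD3_c35))))))
theorem f715781 : Led Lsl_ft (LP (LK LD1_c17 LD2_c17 LD3_c28)) = (LP (LK LD1_c22 LD2_c7 LD3_c18)) :=
  Lgr Lrot4 (Lpe (f25278 IH) (Lpr_ff (K62.f715775 IH) (Lpe (K58.f715777 IH) (Lpn (LP (LK LD1_c22 LD2_c7 LD3_c18))))))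
theorem f801290 : Led Lsl_df (LP (LK LD1_c23 LD2_c47 LD3_c13)) = (LP (LK LD1_c22 LD2_c7 LD3_c18)) :=
  Lgr Lrot78 (Lpr_ft (f801288 IH) (Lpe (K52.f715741 IH) (Lpr_ft (f715781 IH) (Lpn (LP (LK LD1_c22 LD2_c7 LD3_c18))))))
theorem f907806 : Led Lsl_ct (LP (LK LD1_c23 LD2_c47 LD3_c13)) = v39232 :=
  Lgr Lrot53 (Lpr_df (f801290 IH) (Lpe (K62.f715554 IH) (Lpe (f715783 IH) (Lpqs (f772085 IH) (Lpe (f85087 IH) (Lpe (K66.f85088 IH) (Lpq (K66.f772095 IH) (Lpe (K66.f761028 IH) (Lpr_at (K66.f649092 IH) (Lpr_cf (f766728 IH) (Lpr_df (f907801 IH) (Lpn v39232))))))))))))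
theorem f907808 : Led Lsl_cf (LP (LK LD1_c23 LD2_c47 LD3_c13)) = v39232 :=
  Lgr Lrot11 (Lpr_ct (f907806 IH) (Lpn v39232))
theorem f907804 : Led Lsl_dt v18389 = v39232 :=
  Lgr Lrot42 (Lpr_df (f907801 IH) (Lpn v39232))
theorem f649060 : Led Lsl_ct (LP (LK LD1_c21 LD2_c35 LD3_c26)) = (LP (LK LD1_c12 LD2_c28 LD3_c35)) :=
  Lre_c IH (LK LD1_c21 LD2_c35 LD3_c26) (LK LD1_c12 LD2_c28 LD3_c35) Lrfl Lrfl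
theorem f907816 : Led Lsl_cf (LP (LK LD1_c23 LD2_c47 LD3_c14)) = v39233 :=
  Lgr Lrot55 (Lpr_dt (K62.f801269 IH) (Lpr_ct (f649060 IH) (Lpr_dt (K62.f506684 IH) (Lpr_ct (K51.f506683 IH) (Lpr_dt (f649055 IH) (Lpr_ct (f766726 IH) (Lpr_dt (f907804 IH) (Lpe (f907808 IH) (Lpr_dt (f801286 IH) (Lpr_ct (K58.f715777 IH) (Lpe (K58.f715771 IH) (Lpqs (f772085 IH) (Lpr_ct (f85089 IH) (Lpr_dt (K66.f664463 IH) (Lpq (K66.f772095 IH) (Lpe (f761024 IH) (Lpr_dt (f907814 IH) (Lpn v39233))))))))))))))))))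
theorem f85081 : Led Lsl_ct (LP (LK LD1_c7 LD2_c31 LD3_c16)) = (LP (LK LD1_c14 LD2_c11 LD3_c44)) :=
  Lre_c IH (LK LD1_c7 LD2_c31 LD3_c16) (LK LD1_c14 LD2_c11 LD3_c44) Lrfl Lrfl
theorem f111222 : Led Lsl_gt (LP (LK LD1_c14 LD2_c11 LD3_c42)) = (LP (LK LD1_c23 LD2_c47 LD3_c10)) :=
  Lre_g IH (LK LD1_c14 LD2_c11 LD3_c42) (LK LD1_c23 LD2_c47 LD3_c10) Lrfl Lrfl
def v13468 : LQ := Led Lsl_ft (LP (LK LD1_c4 LD2_c44 LD3_c19))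
theorem f703163 : Led Lsl_ft (LP (LK LD1_c4 LD2_c44 LD3_c19)) = v13468 :=
  Lrfl
theorem f703166 : Led Lsl_ff (LP (LK LD1_c4 LD2_c44 LD3_c19)) = v13468 :=
  Lgr Lrot3 (Lpr_ft (f703163 IH) (Lpn v13468))
theorem f907812 : Led Lsl_gt v13468 = v39233 :=
  Lgr Lrot5 (Lpe (f703166 IH) (Lpr_at (K8.f25324 IH) (Lpr_gf (f907811 IH) (Lpn v39233))))
theorem f25269 : Led Lsl_bt (LP (LK LD1_c4 LD2_c44 LD3_c19)) = (LP (LK LD1_c9 LD2_c6 LD3_c25)) :=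
  Lgr Lrot95 (Lpe (K52.f25267 IH) (Lpr_bf (K8.f25252 IH) (Lpe (K65.f25268 IH) (Lpn (LP (LK LD1_c9 LD2_c6 LD3_c25))))))
theorem f25376 : Led Lsl_ft (LP (LK LD1_c9 LD2_c6 LD3_c25)) = (LP (LK LD1_c16 LD2_c58 LD3_c20)) :=
  Lre_f IH (LK LD1_c9 LD2_c6 LD3_c25) (LK LD1_c16 LD2_c58 LD3_c20) Lrfl Lrfl
theorem f703167 : Led Lsl_bt (LP (LK LD1_c16 LD2_c58 LD3_c20)) = v13468 :=
  Lgr Lrot35 (Lpe (f25376 IH) (Lpe (f25269 IH) (Lpr_ff (f703166 IH) (Lpn v13468))))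
theorem f428845 : Led Lsl_ct (LP (LK LD1_c16 LD2_c58 LD3_c20)) = (LP (LK LD1_c26 LD2_c53 LD3_c54)) :=
  Lre_c IH (LK LD1_c16 LD2_c58 LD3_c20) (LK LD1_c26 LD2_c53 LD3_c54) Lrfl Lrfl
theorem f907821 : Led Lsl_bf (LP (LK LD1_c23 LD2_c47 LD3_c10)) = (LP (LK LD1_c20 LD2_c41 LD3_c55)) :=
  Lgr Lrot34 (Lpe (f111222 IH) (Lpe (K4.f111188 IH) (Lpr_ct (f85081 IH) (Lpe (K62.f773135 IH) (Lpr_cf (f907816 IH) (Lpe (f907812 IH) (Lpe (f703167 IH) (Lpr_ct (f428845 IH) (Lpe (K60.f643615 IH) (Lpe (K60.f426822 IH) (Lpn (LP (LK LD1_c20 LD2_c41 LD3_c55)))))))))))))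
theorem f907822 : Led Lsl_bt (LP (LK LD1_c20 LD2_c41 LD3_c55)) = (LP (LK LD1_c23 LD2_c47 LD3_c10)) :=
  Leop (Lpr_bf (f907821 IH) (Lpn (LP (LK LD1_c20 LD2_c41 LD3_c55))))
theorem seed_2298 : LEOK LG_b (LK LD1_c20 LD2_c41 LD3_c55) :=
  Leoe_b (LK LD1_c20 LD2_c41 LD3_c55) (f907822 IH)
def v39254 : LQ := Led Lsl_gt (LP (LK LD1_c9 LD2_c21 LD3_c18))
theorem f907994 : Led Lsl_gt (LP (LK LD1_c9 LD2_c21 LD3_c18)) = v39254 :=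
  Lrfl
def v13462 : LQ := Led Lsl_gf (LP (LK LD1_c4 LD2_c44 LD3_c15))
theorem f703133 : Led Lsl_gf (LP (LK LD1_c4 LD2_c44 LD3_c15)) = v13462 :=
  Lrfl
theorem f708383 : (LP (LK LD1_c3 LD2_c2 LD3_c58)) = v13462 :=
  Lefun (Lecon (Lfl_gt (K51.f646893 IH)) (K51.f708381 IH)) (f703133 IH)
theorem f715731 : Led Lsl_ef (LP (LK LD1_c6 LD2_c47 LD3_c11)) = (LP (LK LD1_c6 LD2_c20 LD3_c38)) :=
  Lgr Lrot88 (Lpr_et (K52.f715729 IH) (Lpn (LP (LK LD1_c6 LD2_c20 LD3_c38))))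
def v19817 : LQ := Led Lsl_ft (LP (LK LD1_c6 LD2_c46 LD3_c60))
theorem f782295 : Led Lsl_ft (LP (LK LD1_c6 LD2_c46 LD3_c60)) = v19817 :=
  Lrfl
theorem f782298 : Led Lsl_ff (LP (LK LD1_c6 LD2_c46 LD3_c60)) = v19817 :=
  Lgr Lrot3 (Lpr_ft (f782295 IH) (Lpn v19817))
theorem f509643 : Led Lsl_at (LP (LK LD1_c6 LD2_c46 LD3_c60)) = (LP (LK LD1_c3 LD2_c21 LD3_c45)) :=
  Lre_a IH (LK LD1_c6 LD2_c46 LD3_c60) (LK LD1_c3 LD2_c21 LD3_c45) Lrfl Lrfl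
theorem f782301 : Led Lsl_gf (LP (LK LD1_c6 LD2_c47 LD3_c11)) = v19817 :=
  Lgr Lrot47 (Lpr_gt (K52.f442858 IH) (Lpe (f509643 IH) (Lpr_ff (f782298 IH) (Lpn v19817))))
def v19826 : LQ := Led Lsl_gt (LP (LK LD1_c6 LD2_c47 LD3_c13))
theorem f782348 : Led Lsl_gt (LP (LK LD1_c6 LD2_c47 LD3_c13)) = v19826 :=
  Lrfl
def v6437 : LQ := Led Lsl_ft (LP (LK LD1_c3 LD2_c21 LD3_c46))
theorem f653416 : Led Lsl_ft (LP (LK LD1_c3 LD2_c21 LD3_c46)) = v6437 :=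
  Lrfl
theorem f782349 : Led Lsl_at v6437 = v19826 :=
  Lgr Lrot26 (Lpe (f653416 IH) (Lpr_gt (K51.f414545 IH) (Lpr_gt (f782348 IH) (Lpn v19826))))
theorem f653419 : Led Lsl_ff (LP (LK LD1_c3 LD2_c21 LD3_c46)) = v6437 :=
  Lgr Lrot3 (Lpr_ft (f653416 IH) (Lpn v6437))
theorem f454413 : Led Lsl_et (LP (LK LD1_c1 LD2_c37 LD3_c6)) = (LP (LK LD1_c3 LD2_c21 LD3_c45)) :=
  Lre_e IH (LK LD1_c1 LD2_c37 LD3_c6) (LK LD1_c3 LD2_c21 LD3_c45) Lrfl Lrfl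
theorem f653421 : Led Lsl_et K66.v6434 = v6437 :=
  Lgr Lrot69 (Lpe (K66.f653401 IH) (Lpe (f454413 IH) (Lpe (K32.f454341 IH) (Lpr_ef (K51.f416176 IH) (Lpr_ff (f653419 IH) (Lpn v6437))))))
theorem f782296 : Led Lsl_af K66.v6434 = v19817 :=
  Lgr Lrot45 (Lpe (K66.f653404 IH) (Lpr_at (K66.f653384 IH) (Lpr_ft (f782295 IH) (Lpn v19817))))
theorem f782352 : Led Lsl_ef v19817 = v19826 :=
  Lgr Lrot20 (Lpe (f782296 IH) (Lpr_et (f653421 IH) (Lpr_at (f782349 IH) (Lpn v19826))))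
theorem f907998 : Led Lsl_dt v19826 = v39254 :=
  Lgr Lrot56 (Lpe (f782352 IH) (Lpe (f782301 IH) (Lpr_ef (f715731 IH) (Lpr_dt (K51.f444012 IH) (Lpe (K51.f708336 IH) (Lpe (K51.f646894 IH) (Lpr_et (K51.f504138 IH) (Lpqs (f708383 IH) (Lpe (f703133 IH) (Lpr_dt (K51.f127081 IH) (Lpr_gt (f907994 IH) (Lpn v39254))))))))))))
def v6436 : LQ := Led Lsl_at (LP (LK LD1_c3 LD2_c21 LD3_c46))
theorem f653410 : Led Lsl_at (LP (LK LD1_c3 LD2_c21 LD3_c46)) = v6436 :=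
  Lrfl
theorem f653411 : Led Lsl_af (LP (LK LD1_c3 LD2_c21 LD3_c46)) = v6436 :=
  Lgr Lrot0 (Lpr_at (f653410 IH) (Lpn v6436))
theorem f782353 : Led Lsl_ff v6436 = v19826 :=
  Lgr Lrot30 (Lpe (f653411 IH) (Lpr_ft (f653416 IH) (Lpr_at (f782349 IH) (Lpn v19826))))
theorem f454372 : Led Lsl_dt (LP (LK LD1_c3 LD2_c21 LD3_c44)) = (LP (LK LD1_c1 LD2_c37 LD3_c6)) :=
  Lre_d IH (LK LD1_c3 LD2_c21 LD3_c44) (LK LD1_c1 LD2_c37 LD3_c6) Lrfl Lrfl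
theorem f454365 : Led Lsl_ct (LP (LK LD1_c6 LD2_c47 LD3_c8)) = (LP (LK LD1_c3 LD2_c21 LD3_c44)) :=
  Lre_c IH (LK LD1_c6 LD2_c47 LD3_c8) (LK LD1_c3 LD2_c21 LD3_c44) Lrfl Lrfl
theorem f495170 : Led Lsl_dt (LP (LK LD1_c12 LD2_c57 LD3_c18)) = (LP (LK LD1_c6 LD2_c47 LD3_c8)) :=
  Lre_d IH (LK LD1_c12 LD2_c57 LD3_c18) (LK LD1_c6 LD2_c47 LD3_c8) Lrfl Lrfl
theorem f908001 : Led Lsl_cf (LP (LK LD1_c12 LD2_c57 LD3_c18)) = v39254 :=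
  Lgr Lrot118 (Lpr_dt (f495170 IH) (Lpr_ct (f454365 IH) (Lpr_dt (f454372 IH) (Lpr_ct (K32.f454373 IH) (Lpr_dt (K50.f416185 IH) (Lpr_ct (K51.f414544 IH) (Lpr_af (f653411 IH) (Lpr_ff (f782353 IH) (Lpr_dt (f907998 IH) (Lpn v39254))))))))))
theorem f908002 : Led Lsl_ct (LP (LK LD1_c12 LD2_c57 LD3_c18)) = v39254 :=
  Lgr Lrot59 (Lpr_cf (f908001 IH) (Lpn v39254))
theorem f653412 : Led Lsl_cf K51.v2195 = v6436 :=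
  Lgr Lrot1 (Lpe (K51.f509557 IH) (Lpr_ct (K51.f414544 IH) (Lpr_at (f653410 IH) (Lpn v6436))))
theorem f782354 : Led Lsl_ct K51.v6390 = v19826 :=
  Lgr Lrot40 (Lpe (K51.f653172 IH) (Lpr_cf (f653412 IH) (Lpr_ff (f782353 IH) (Lpn v19826))))
def v8768 : LQ := Led Lsl_ct K51.v2197
theorem f672244 : Led Lsl_ct K51.v2197 = v8768 :=
  Lrfl
theorem f672245 : Led Lsl_cf K51.v2197 = v8768 :=
  Lgr Lrot11 (Lpr_ct (f672244 IH) (Lpn v8768))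
def v28991 : LQ := Led Lsl_gf v8768
theorem f847143 : Led Lsl_gf v8768 = v28991 :=
  Lrfl
def v39240 : LQ := Led Lsl_gf (LP (LK LD1_c9 LD2_c21 LD3_c7))
theorem f907875 : Led Lsl_gf (LP (LK LD1_c9 LD2_c21 LD3_c7)) = v39240 :=
  Lrfl
def v8773 : LQ := Led Lsl_ct K51.v2198
theorem f672256 : Led Lsl_ct K51.v2198 = v8773 :=
  Lrfl
def v6284 : LQ := Led Lsl_et (LP (LK LD1_c3 LD2_c19 LD3_c55))
theorem f652566 : Led Lsl_et (LP (LK LD1_c3 LD2_c19 LD3_c55)) = v6284 :=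
  Lrfl
theorem f652569 : Led Lsl_ef (LP (LK LD1_c3 LD2_c19 LD3_c55)) = v6284 :=
  Lgr Lrot88 (Lpr_et (f652566 IH) (Lpn v6284))
theorem f57242 : Led Lsl_ct (LP (LK LD1_c3 LD2_c19 LD3_c55)) = (LP (LK LD1_c1 LD2_c36 LD3_c21)) :=
  Lre_c IH (LK LD1_c3 LD2_c19 LD3_c55) (LK LD1_c1 LD2_c36 LD3_c21) Lrfl Lrfl
theorem f652570 : Led Lsl_ct K51.v2139 = v6284 :=
  Lgr Lrot15 (Lpe (K51.f509194 IH) (Lpe (f57242 IH) (Lpr_ef (f652569 IH) (Lpn v6284))))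
theorem f715561 : Led Lsl_af v8768 = v6284 :=
  Lgr Lrot68 (Lpe (f672245 IH) (Lpr_at (K51.f672238 IH) (Lpqs (K51.f708292 IH) (Lpr_ct (f652570 IH) (Lpn v6284)))))
theorem f652567 : Led Lsl_cf K51.v2139 = v6284 :=
  Lgr Lrot39 (Lpe (K66.f509196 IH) (Lpr_ct (K58.f509178 IH) (Lpr_et (f652566 IH) (Lpn v6284))))
theorem f708299 : Led Lsl_ff v6284 = v8773 :=
  Lgr Lrot23 (Lpe (f652567 IH) (Lpq (K51.f708292 IH) (Lpe (K51.f672241 IH) (Lpr_ct (f672256 IH) (Lpn v8773)))))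
theorem f847144 : Led Lsl_gt v8773 = v28991 :=
  Lgr Lrot5 (Lpe (f708299 IH) (Lpe (f715561 IH) (Lpr_gf (f847143 IH) (Lpn v28991))))
theorem f907878 : Led Lsl_dt v28991 = v39240 :=
  Lgr Lrot57 (Lpe (f847144 IH) (Lpe (f672256 IH) (Lpe (K51.f509573 IH) (Lpr_dt (K32.f416178 IH) (Lpq (K51.f708018 IH) (Lpe (K51.f507827 IH) (Lpe (K51.f129976 IH) (Lpe (K63.f129975 IH) (Lpe (K51.f129959 IH) (Lpr_gf (f907875 IH) (Lpn v39240)))))))))))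
theorem f907880 : Led Lsl_df v28991 = v39240 :=
  Lgr Lrot38 (Lpr_dt (f907878 IH) (Lpn v39240))
theorem f908005 : Led Lsl_gf (LP (LK LD1_c12 LD2_c57 LD3_c18)) = (LP (LK LD1_c17 LD2_c17 LD3_c8)) :=
  Lgr Lrot104 (Lpr_ct (f908002 IH) (Lpe (f907998 IH) (Lpe (f782354 IH) (Lpe (K51.f653174 IH) (Lpr_cf (f672245 IH) (Lpr_gf (f847143 IH) (Lpr_df (f907880 IH) (Lpe (f907875 IH) (Lpr_ct (K66.f129956 IH) (Lpn (LP (LK LD1_c17 LD2_c17 LD3_c8))))))))))))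
theorem f908006 : Led Lsl_gt (LP (LK LD1_c17 LD2_c17 LD3_c8)) = (LP (LK LD1_c12 LD2_c57 LD3_c18)) :=
  Leop (Lpr_gf (f908005 IH) (Lpn (LP (LK LD1_c17 LD2_c17 LD3_c8))))
theorem seed_2299 : LEOK LG_g (LK LD1_c17 LD2_c17 LD3_c8) :=
  Leoe_g (LK LD1_c17 LD2_c17 LD3_c8) (f908006 IH)
def v39259 : LQ := Led Lsl_gf (LP (LK LD1_c9 LD2_c21 LD3_c25))
theorem f908030 : Led Lsl_gf (LP (LK LD1_c9 LD2_c21 LD3_c25)) = v39259 :=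
  Lrfl
theorem f144014 : Led Lsl_dt (LP (LK LD1_c6 LD2_c43 LD3_c16)) = (LP (LK LD1_c3 LD2_c19 LD3_c44)) :=
  Lre_d IH (LK LD1_c6 LD2_c43 LD3_c16) (LK LD1_c3 LD2_c19 LD3_c44) Lrfl Lrfl
theorem f908034 : Led Lsl_cf K51.v13475 = v39259 :=
  Lgr Lrot166 (Lpe (K51.f703214 IH) (Lpr_dt (K51.f652487 IH) (Lpe (K51.f652483 IH) (Lpr_dt (K6.f62581 IH) (Lpr_ct (K60.f144016 IH) (Lpe (f144014 IH) (Lpe (K60.f144015 IH) (Lpe (K60.f437814 IH) (Lpr_gf (f908030 IH) (Lpn v39259))))))))))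
theorem f908038 : Led Lsl_dt (LP (LK LD1_c12 LD2_c51 LD3_c50)) = v39259 :=
  Lgr Lrot105 (Lpe (K60.f780452 IH) (Lpe (K60.f453959 IH) (Lpr_gf (K50.f652473 IH) (Lpe (K50.f652472 IH) (Lpe (K50.f509173 IH) (Lpr_dt (K50.f509174 IH) (Lpr_gt (K51.f652578 IH) (Lpq (K51.f708259 IH) (Lpr_dt (K51.f701597 IH) (Lpq (K51.f708757 IH) (Lpr_cf (f908034 IH) (Lpn v39259))))))))))))
theorem f908040 : Led Lsl_et (LP (LK LD1_c12 LD2_c51 LD3_c50)) = (LP (LK LD1_c22 LD2_c0 LD3_c60)) :=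
  Lre_e IH (LK LD1_c12 LD2_c51 LD3_c50) (LK LD1_c22 LD2_c0 LD3_c60) Lrfl Lrfl
theorem f908031 : Led Lsl_gt (LP (LK LD1_c21 LD2_c35 LD3_c28)) = v39259 :=
  Lgr Lrot5 (Lpr_ft (K60.f649627 IH) (Lpr_at (K60.f707937 IH) (Lpr_gf (f908030 IH) (Lpn v39259))))
theorem f780108 : Led Lsl_dt (LP (LK LD1_c12 LD2_c51 LD3_c22)) = (LP (LK LD1_c21 LD2_c35 LD3_c28)) :=
  Lgr Lrot60 (Lpr_ff (K60.f780101 IH) (Lpe (K60.f649615 IH) (Lpe (K60.f649627 IH) (Lpn (LP (LK LD1_c21 LD2_c35 LD3_c28))))))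
theorem f437836 : Led Lsl_et (LP (LK LD1_c12 LD2_c51 LD3_c20)) = (LP (LK LD1_c6 LD2_c43 LD3_c16)) :=
  Lre_e IH (LK LD1_c12 LD2_c51 LD3_c20) (LK LD1_c6 LD2_c43 LD3_c16) Lrfl Lrfl
theorem f145162 : Led Lsl_dt (LP (LK LD1_c12 LD2_c51 LD3_c20)) = (LP (LK LD1_c6 LD2_c43 LD3_c14)) :=
  Lre_d IH (LK LD1_c12 LD2_c51 LD3_c20) (LK LD1_c6 LD2_c43 LD3_c14) Lrfl Lrfl
theorem f780225 : Led Lsl_et (LP (LK LD1_c22 LD2_c0 LD3_c0)) = (LP (LK LD1_c30 LD2_c14 LD3_c50)) :=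
  Lre_e IH (LK LD1_c22 LD2_c0 LD3_c0) (LK LD1_c30 LD2_c14 LD3_c50) Lrfl Lrfl
theorem f908041 : Led Lsl_gt (LP (LK LD1_c22 LD2_c0 LD3_c60)) = (LP (LK LD1_c30 LD2_c14 LD3_c50)) :=
  Lgr Lrot131 (Lpe (f908040 IH) (Lpr_dt (f908038 IH) (Lpe (f908031 IH) (Lpe (f780108 IH) (Lpe (K60.f437799 IH) (Lpe (f437836 IH) (Lpr_dt (f145162 IH) (Lpe (K62.f437241 IH) (Lpe (K63.f437242 IH) (Lpr_et (f780225 IH) (Lpn (LP (LK LD1_c30 LD2_c14 LD3_c50)))))))))))))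
theorem f908042 : Led Lsl_gt (LP (LK LD1_c22 LD2_c0 LD3_c60)) = (LP (LK LD1_c30 LD2_c14 LD3_c50)) :=
  Leop (Lpe (f908041 IH) (Lpn (LP (LK LD1_c22 LD2_c0 LD3_c60))))
theorem seed_2300 : LEOK LG_g (LK LD1_c22 LD2_c0 LD3_c60) :=
  Leoe_g (LK LD1_c22 LD2_c0 LD3_c60) (f908042 IH)
theorem f803114 : Led Lsl_et (LP (LK LD1_c30 LD2_c14 LD3_c50)) = (LP (LK LD1_c22 LD2_c0 LD3_c0)) :=
  Lre_e IH (LK LD1_c30 LD2_c14 LD3_c50) (LK LD1_c22 LD2_c0 LD3_c0) Lrfl Lrfl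
theorem f780061 : Led Lsl_et (LP (LK LD1_c12 LD2_c51 LD3_c43)) = (LP (LK LD1_c22 LD2_c0 LD3_c45)) :=
  Lre_e IH (LK LD1_c12 LD2_c51 LD3_c43) (LK LD1_c22 LD2_c0 LD3_c45) Lrfl Lrfl
theorem f803489 : Led Lsl_af (LP (LK LD1_c30 LD2_c14 LD3_c50)) = (LP (LK LD1_c22 LD2_c0 LD3_c45)) :=
  Lgr Lrot50 (Lpr_et (f803114 IH) (Lpr_at (K62.f803480 IH) (Lpr_et (f780061 IH) (Lpn (LP (LK LD1_c22 LD2_c0 LD3_c45))))))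
theorem f803098 : Led Lsl_ft (LP (LK LD1_c30 LD2_c15 LD3_c21)) = (LP (LK LD1_c22 LD2_c0 LD3_c45)) :=
  Lre_f IH (LK LD1_c30 LD2_c15 LD3_c21) (LK LD1_c22 LD2_c0 LD3_c45) Lrfl Lrfl
theorem f908043 : Led Lsl_gf (LP (LK LD1_c22 LD2_c0 LD3_c60)) = (LP (LK LD1_c30 LD2_c15 LD3_c21)) :=
  Lgr Lrot47 (Lpr_gt (f908041 IH) (Lpr_af (f803489 IH) (Lpe (f803098 IH) (Lpn (LP (LK LD1_c30 LD2_c15 LD3_c21))))))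
theorem f437834 : Led Lsl_gt (LP (LK LD1_c22 LD2_c0 LD3_c8)) = (LP (LK LD1_c30 LD2_c14 LD3_c58)) :=
  Lre_g IH (LK LD1_c22 LD2_c0 LD3_c8) (LK LD1_c30 LD2_c14 LD3_c58) Lrfl Lrfl
theorem f667334 : Led Lsl_et (LP (LK LD1_c7 LD2_c48 LD3_c28)) = (LP (LK LD1_c14 LD2_c43 LD3_c61)) :=
  Lre_e IH (LK LD1_c7 LD2_c48 LD3_c28) (LK LD1_c14 LD2_c43 LD3_c61) Lrfl Lrfl
theorem f803097 : Led Lsl_ft (LP (LK LD1_c14 LD2_c43 LD3_c61)) = (LP (LK LD1_c24 LD2_c29 LD3_c48)) :=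
  Lre_f IH (LK LD1_c14 LD2_c43 LD3_c61) (LK LD1_c24 LD2_c29 LD3_c48) Lrfl Lrfl
theorem f780434 : Led Lsl_et (LP (LK LD1_c22 LD2_c0 LD3_c45)) = (LP (LK LD1_c12 LD2_c51 LD3_c43)) :=
  Lre_e IH (LK LD1_c22 LD2_c0 LD3_c45) (LK LD1_c12 LD2_c51 LD3_c43) Lrfl Lrfl
theorem f803099 : Led Lsl_et (LP (LK LD1_c24 LD2_c29 LD3_c48)) = (LP (LK LD1_c30 LD2_c15 LD3_c21)) :=
  Lgr Lrot69 (Lpe (f803097 IH) (Lpe (f667334 IH) (Lpr_ff (K62.f803092 IH) (Lpe (f780434 IH) (Lpe (f803098 IH) (Lpn (LP (LK LD1_c30 LD2_c15 LD3_c21))))))))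
theorem f803115 : Led Lsl_dt (LP (LK LD1_c24 LD2_c29 LD3_c48)) = (LP (LK LD1_c31 LD2_c33 LD3_c12)) :=
  Lre_d IH (LK LD1_c24 LD2_c29 LD3_c48) (LK LD1_c31 LD2_c33 LD3_c12) Lrfl Lrfl
theorem f708805 : Led Lsl_et (LP (LK LD1_c22 LD2_c6 LD3_c37)) = (LP (LK LD1_c12 LD2_c56 LD3_c59)) :=
  Lre_e IH (LK LD1_c22 LD2_c6 LD3_c37) (LK LD1_c12 LD2_c56 LD3_c59) Lrfl Lrfl
theorem f708806 : Led Lsl_dt (LP (LK LD1_c22 LD2_c6 LD3_c37)) = (LP (LK LD1_c12 LD2_c56 LD3_c58)) :=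
  Lre_d IH (LK LD1_c22 LD2_c6 LD3_c37) (LK LD1_c12 LD2_c56 LD3_c58) Lrfl Lrfl
theorem f634251 : Led Lsl_gt (LP (LK LD1_c22 LD2_c6 LD3_c36)) = (LP (LK LD1_c12 LD2_c56 LD3_c58)) :=
  Lre_g IH (LK LD1_c22 LD2_c6 LD3_c36) (LK LD1_c12 LD2_c56 LD3_c58) Lrfl Lrfl
theorem f25336 : Led Lsl_dt (LP (LK LD1_c4 LD2_c44 LD3_c19)) = (LP (LK LD1_c2 LD2_c20 LD3_c8)) :=
  Lre_d IH (LK LD1_c4 LD2_c44 LD3_c19) (LK LD1_c2 LD2_c20 LD3_c8) Lrfl Lrfl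
theorem f157476 : Led Lsl_et (LP (LK LD1_c27 LD2_c6 LD3_c47)) = (LP (LK LD1_c17 LD2_c17 LD3_c23)) :=
  Lre_e IH (LK LD1_c27 LD2_c6 LD3_c47) (LK LD1_c17 LD2_c17 LD3_c23) Lrfl Lrfl
theorem f715793 : Led Lsl_df (LP (LK LD1_c22 LD2_c6 LD3_c36)) = (LP (LK LD1_c27 LD2_c6 LD3_c47)) :=
  Lgr Lrot170 (Lpr_gt (f634251 IH) (Lpe (f708806 IH) (Lpr_et (f708805 IH) (Lpr_gt (K66.f715791 IH) (Lpr_dt (K58.f670704 IH) (Lpr_gt (K51.f25285 IH) (Lpe (f25336 IH) (Lpr_et (K8.f25338 IH) (Lpr_gt (K62.f146587 IH) (Lpe (f157476 IH) (Lpn (LP (LK LD1_c27 LD2_c6 LD3_c47)))))))))))))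
theorem f715796 : Led Lsl_dt (LP (LK LD1_c22 LD2_c6 LD3_c36)) = (LP (LK LD1_c27 LD2_c6 LD3_c47)) :=
  Lgr Lrot42 (Lpr_df (f715793 IH) (Lpn (LP (LK LD1_c27 LD2_c6 LD3_c47))))
theorem f803379 : Led Lsl_af (LP (LK LD1_c22 LD2_c6 LD3_c36)) = (LP (LK LD1_c12 LD2_c57 LD3_c21)) :=
  Lgr Lrot117 (Lpr_dt (f715796 IH) (Lpr_at (K62.f803373 IH) (Lpr_dt (K62.f715827 IH) (Lpn (LP (LK LD1_c12 LD2_c57 LD3_c21))))))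
theorem f715802 : Led Lsl_gt (LP (LK LD1_c12 LD2_c57 LD3_c23)) = (LP (LK LD1_c22 LD2_c6 LD3_c36)) :=
  Lre_g IH (LK LD1_c12 LD2_c57 LD3_c23) (LK LD1_c22 LD2_c6 LD3_c36) Lrfl Lrfl
theorem f803385 : Led Lsl_gt (LP (LK LD1_c22 LD2_c6 LD3_c35)) = (LP (LK LD1_c12 LD2_c57 LD3_c23)) :=
  Lre_g IH (LK LD1_c22 LD2_c6 LD3_c35) (LK LD1_c12 LD2_c57 LD3_c23) Lrfl Lrfl
theorem f803386 : Led Lsl_ft (LP (LK LD1_c22 LD2_c6 LD3_c35)) = (LP (LK LD1_c12 LD2_c57 LD3_c21)) :=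
  Lgr Lrot2 (Lpr_gt (f803385 IH) (Lpr_gt (f715802 IH) (Lpr_af (f803379 IH) (Lpn (LP (LK LD1_c12 LD2_c57 LD3_c21))))))
theorem f803392 : Led Lsl_ff (LP (LK LD1_c22 LD2_c6 LD3_c35)) = (LP (LK LD1_c12 LD2_c57 LD3_c21)) :=
  Lgr Lrot3 (Lpr_ft (f803386 IH) (Lpn (LP (LK LD1_c12 LD2_c57 LD3_c21))))
theorem f708013 : Led Lsl_gt (LP (LK LD1_c6 LD2_c47 LD3_c9)) = (LP (LK LD1_c12 LD2_c57 LD3_c20)) :=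
  Lre_g IH (LK LD1_c6 LD2_c47 LD3_c9) (LK LD1_c12 LD2_c57 LD3_c20) Lrfl Lrfl
theorem f803396 : Led Lsl_at (LP (LK LD1_c22 LD2_c6 LD3_c35)) = (LP (LK LD1_c12 LD2_c57 LD3_c20)) :=
  Lgr Lrot26 (Lpr_ff (f803392 IH) (Lpr_gt (K62.f509571 IH) (Lpr_gt (f708013 IH) (Lpn (LP (LK LD1_c12 LD2_c57 LD3_c20))))))
theorem f803382 : Led Lsl_at (LP (LK LD1_c22 LD2_c6 LD3_c36)) = (LP (LK LD1_c12 LD2_c57 LD3_c21)) :=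
  Lgr Lrot100 (Lpr_af (f803379 IH) (Lpn (LP (LK LD1_c12 LD2_c57 LD3_c21))))
theorem f803406 : Led Lsl_ff (LP (LK LD1_c22 LD2_c6 LD3_c36)) = (LP (LK LD1_c12 LD2_c57 LD3_c20)) :=
  Lgr Lrot30 (Lpr_at (f803382 IH) (Lpe (f803392 IH) (Lpr_at (f803396 IH) (Lpn (LP (LK LD1_c12 LD2_c57 LD3_c20))))))
theorem f803411 : Led Lsl_ft (LP (LK LD1_c22 LD2_c6 LD3_c36)) = (LP (LK LD1_c12 LD2_c57 LD3_c20)) :=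
  Lgr Lrot48 (Lpr_ff (f803406 IH) (Lpn (LP (LK LD1_c12 LD2_c57 LD3_c20))))
theorem f715543 : Led Lsl_dt (LP (LK LD1_c12 LD2_c57 LD3_c20)) = (LP (LK LD1_c22 LD2_c7 LD3_c9)) :=
  Lre_d IH (LK LD1_c12 LD2_c57 LD3_c20) (LK LD1_c22 LD2_c7 LD3_c9) Lrfl Lrfl
theorem f803416 : Led Lsl_ff (LP (LK LD1_c27 LD2_c6 LD3_c47)) = (LP (LK LD1_c22 LD2_c7 LD3_c9)) :=
  Lgr Lrot19 (Lpe (f715793 IH) (Lpr_ft (f803411 IH) (Lpr_dt (f715543 IH) (Lpn (LP (LK LD1_c22 LD2_c7 LD3_c9))))))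
theorem f803426 : Led Lsl_et (LP (LK LD1_c30 LD2_c18 LD3_c57)) = (LP (LK LD1_c22 LD2_c7 LD3_c9)) :=
  Lre_e IH (LK LD1_c30 LD2_c18 LD3_c57) (LK LD1_c22 LD2_c7 LD3_c9) Lrfl Lrfl
theorem f803427 : Led Lsl_ft (LP (LK LD1_c23 LD2_c48 LD3_c57)) = (LP (LK LD1_c30 LD2_c18 LD3_c57)) :=
  Lgr Lrot86 (Lpe (K62.f441907 IH) (Lpe (K62.f803333 IH) (Lpe (f157476 IH) (Lpr_ff (f803416 IH) (Lpe (f803426 IH) (Lpn (LP (LK LD1_c30 LD2_c18 LD3_c57))))))))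
theorem f441916 : Led Lsl_gt (LP (LK LD1_c23 LD2_c48 LD3_c57)) = (LP (LK LD1_c31 LD2_c13 LD3_c55)) :=
  Lre_g IH (LK LD1_c23 LD2_c48 LD3_c57) (LK LD1_c31 LD2_c13 LD3_c55) Lrfl Lrfl
theorem f803158 : Led Lsl_at (LP (LK LD1_c24 LD2_c29 LD3_c47)) = (LP (LK LD1_c23 LD2_c48 LD3_c57)) :=
  Lgr Lrot100 (Lpr_af (K62.f803141 IH) (Lpn (LP (LK LD1_c23 LD2_c48 LD3_c57))))
theorem f803175 : Led Lsl_ft (LP (LK LD1_c31 LD2_c33 LD3_c12)) = (LP (LK LD1_c24 LD2_c29 LD3_c47)) :=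
  Lre_f IH (LK LD1_c31 LD2_c33 LD3_c12) (LK LD1_c24 LD2_c29 LD3_c47) Lrfl Lrfl
theorem f803429 : Led Lsl_af (LP (LK LD1_c31 LD2_c33 LD3_c12)) = (LP (LK LD1_c30 LD2_c18 LD3_c57)) :=
  Lgr Lrot45 (Lpr_ft (f803175 IH) (Lpr_at (f803158 IH) (Lpr_ft (f803427 IH) (Lpn (LP (LK LD1_c30 LD2_c18 LD3_c57))))))
theorem f803435 : Led Lsl_gt (LP (LK LD1_c31 LD2_c13 LD3_c55)) = (LP (LK LD1_c31 LD2_c33 LD3_c12)) :=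
  Lgr Lrot46 (Lpe (f441916 IH) (Lpr_ft (f803427 IH) (Lpe (f803429 IH) (Lpn (LP (LK LD1_c31 LD2_c33 LD3_c12))))))
theorem f908045 : Led Lsl_dt (LP (LK LD1_c30 LD2_c14 LD3_c58)) = (LP (LK LD1_c31 LD2_c13 LD3_c55)) :=
  Lgr Lrot171 (Lpe (f437834 IH) (Lpe (K60.f437822 IH) (Lpe (K60.f437817 IH) (Lpr_gf (f908030 IH) (Lpe (f908038 IH) (Lpr_et (f908040 IH) (Lpr_gf (f908043 IH) (Lpe (f803099 IH) (Lpr_dt (f803115 IH) (Lpe (f803435 IH) (Lpn (LP (LK LD1_c31 LD2_c13 LD3_c55)))))))))))))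
theorem f908046 : Led Lsl_dt (LP (LK LD1_c30 LD2_c14 LD3_c58)) = (LP (LK LD1_c31 LD2_c13 LD3_c55)) :=
  Leop (Lpe (f908045 IH) (Lpn (LP (LK LD1_c30 LD2_c14 LD3_c58))))
theorem seed_2301 : LEOK LG_d (LK LD1_c30 LD2_c14 LD3_c58) :=
  Leoe_d (LK LD1_c30 LD2_c14 LD3_c58) (f908046 IH)
theorem f701591 : Led Lsl_bf (LP (LK LD1_c4 LD2_c41 LD3_c8)) = K51.v13189 :=
  Lgr Lrot24 (Lpr_bt (K51.f701590 IH) (Lpn K51.v13189))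
theorem f445964 : Led Lsl_ct (LP (LK LD1_c12 LD2_c29 LD3_c47)) = (LP (LK LD1_c21 LD2_c36 LD3_c32)) :=
  Lre_c IH (LK LD1_c12 LD2_c29 LD3_c47) (LK LD1_c21 LD2_c36 LD3_c32) Lrfl Lrfl
theorem f908035 : Led Lsl_bt (LP (LK LD1_c21 LD2_c36 LD3_c32)) = v39259 :=
  Lgr Lrot128 (Lpe (f445964 IH) (Lpe (K53.f503449 IH) (Lpr_cf (K35.f504005 IH) (Lpr_bf (f701591 IH) (Lpq (K51.f708757 IH) (Lpr_cf (f908034 IH) (Lpn v39259)))))))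
theorem f504013 : Led Lsl_ct (LP (LK LD1_c21 LD2_c36 LD3_c32)) = (LP (LK LD1_c12 LD2_c29 LD3_c47)) :=
  Lre_c IH (LK LD1_c21 LD2_c36 LD3_c32) (LK LD1_c12 LD2_c29 LD3_c47) Lrfl Lrfl
theorem f755476 : Led Lsl_ft (LP (LK LD1_c9 LD2_c6 LD3_c30)) = (LP (LK LD1_c11 LD2_c26 LD3_c39)) :=
  Lgr Lrot48 (Lpr_ff (K57.f755470 IH) (Lpn (LP (LK LD1_c11 LD2_c26 LD3_c39))))
theorem f720791 : Led Lsl_gf (LP (LK LD1_c11 LD2_c25 LD3_c43)) = (LP (LK LD1_c9 LD2_c6 LD3_c30)) :=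
  Lgr Lrot76 (Lpe (K53.f712254 IH) (Lpe (K53.f711781 IH) (Lpr_gt (K53.f720789 IH) (Lpn (LP (LK LD1_c9 LD2_c6 LD3_c30))))))
theorem f151600 : Led Lsl_gt (LP (LK LD1_c11 LD2_c25 LD3_c43)) = (LP (LK LD1_c20 LD2_c23 LD3_c13)) :=
  Lre_g IH (LK LD1_c11 LD2_c25 LD3_c43) (LK LD1_c20 LD2_c23 LD3_c13) Lrfl Lrfl
theorem f756168 : Led Lsl_af (LP (LK LD1_c20 LD2_c23 LD3_c13)) = (LP (LK LD1_c11 LD2_c26 LD3_c39)) :=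
  Lgr Lrot31 (Lpe (f151600 IH) (Lpr_gf (f720791 IH) (Lpr_ft (f755476 IH) (Lpn (LP (LK LD1_c11 LD2_c26 LD3_c39))))))
theorem f755820 : Led Lsl_at (LP (LK LD1_c11 LD2_c26 LD3_c43)) = (LP (LK LD1_c9 LD2_c6 LD3_c30)) :=
  Lgr Lrot100 (Lpr_af (K57.f755677 IH) (Lpn (LP (LK LD1_c9 LD2_c6 LD3_c30))))
theorem f756178 : Led Lsl_ft (LP (LK LD1_c20 LD2_c23 LD3_c13)) = (LP (LK LD1_c11 LD2_c26 LD3_c43)) :=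
  Lgr Lrot101 (Lpr_af (f756168 IH) (Lpe (f755476 IH) (Lpe (f755820 IH) (Lpn (LP (LK LD1_c11 LD2_c26 LD3_c43))))))
theorem f756190 : Led Lsl_gt (LP (LK LD1_c20 LD2_c23 LD3_c13)) = (LP (LK LD1_c12 LD2_c29 LD3_c47)) :=
  Lgr Lrot5 (Lpr_ft (f756178 IH) (Lpr_at (f755820 IH) (Lpe (K53.f720789 IH) (Lpn (LP (LK LD1_c12 LD2_c29 LD3_c47))))))
theorem f756182 : Led Lsl_cf (LP (LK LD1_c20 LD2_c23 LD3_c13)) = (LP (LK LD1_c29 LD2_c25 LD3_c45)) :=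
  Lgr Lrot108 (Lpr_ft (f756178 IH) (Lpr_ct (K57.f436308 IH) (Lpr_ft (K57.f755685 IH) (Lpn (LP (LK LD1_c29 LD2_c25 LD3_c45))))))
theorem f707994 : Led Lsl_cf (LP (LK LD1_c12 LD2_c28 LD3_c34)) = (LP (LK LD1_c9 LD2_c21 LD3_c25)) :=
  Lgr Lrot11 (Lpr_ct (K52.f707939 IH) (Lpn (LP (LK LD1_c9 LD2_c21 LD3_c25))))
theorem f827043 : Led Lsl_gt (LP (LK LD1_c12 LD2_c33 LD3_c47)) = (LP (LK LD1_c12 LD2_c52 LD3_c17)) :=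
  Lgr Lrot46 (Lpr_gf (K65.f827041 IH) (Lpe (K58.f709369 IH) (Lpe (K58.f709410 IH) (Lpn (LP (LK LD1_c12 LD2_c52 LD3_c17))))))
theorem f62387 : Led Lsl_dt (LP (LK LD1_c3 LD2_c19 LD3_c57)) = (LP (LK LD1_c6 LD2_c43 LD3_c42)) :=
  Lre_d IH (LK LD1_c3 LD2_c19 LD3_c57) (LK LD1_c6 LD2_c43 LD3_c42) Lrfl Lrfl
theorem f827045 : Led Lsl_gf (LP (LK LD1_c12 LD2_c13 LD3_c59)) = (LP (LK LD1_c12 LD2_c28 LD3_c34)) :=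
  Lgr Lrot147 (Lpe (K65.f709214 IH) (Lpr_gt (f827043 IH) (Lpr_ct (K58.f652551 IH) (Lpe (f62387 IH) (Lpe (K60.f652510 IH) (Lpe (K59.f652511 IH) (Lpe (K65.f775747 IH) (Lpe (K60.f90497 IH) (Lpe (K60.f772240 IH) (Lpn (LP (LK LD1_c12 LD2_c28 LD3_c34))))))))))))
theorem f709218 : Led Lsl_ct (LP (LK LD1_c12 LD2_c33 LD3_c47)) = (LP (LK LD1_c12 LD2_c13 LD3_c59)) :=
  Lgr Lrot59 (Lpr_cf (K65.f709214 IH) (Lpn (LP (LK LD1_c12 LD2_c13 LD3_c59))))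
theorem f709217 : Led Lsl_bt (LP (LK LD1_c12 LD2_c33 LD3_c47)) = (LP (LK LD1_c21 LD2_c39 LD3_c60)) :=
  Lre_b IH (LK LD1_c12 LD2_c33 LD3_c47) (LK LD1_c21 LD2_c39 LD3_c60) Lrfl Lrfl
theorem f709220 : Led Lsl_gt (LP (LK LD1_c21 LD2_c39 LD3_c60)) = (LP (LK LD1_c30 LD2_c6 LD3_c52)) :=
  Lre_g IH (LK LD1_c21 LD2_c39 LD3_c60) (LK LD1_c30 LD2_c6 LD3_c52) Lrfl Lrfl
theorem f908052 : Led Lsl_bt (LP (LK LD1_c29 LD2_c25 LD3_c45)) = (LP (LK LD1_c30 LD2_c6 LD3_c52)) :=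
  Lgr Lrot92 (Lpe (f756182 IH) (Lpr_gt (f756190 IH) (Lpe (f504013 IH) (Lpr_bt (f908035 IH) (Lpe (f908030 IH) (Lpe (f707994 IH) (Lpe (f827045 IH) (Lpe (f709218 IH) (Lpr_bt (f709217 IH) (Lpr_gt (f709220 IH) (Lpn (LP (LK LD1_c30 LD2_c6 LD3_c52)))))))))))))
theorem f908053 : Led Lsl_bt (LP (LK LD1_c29 LD2_c25 LD3_c45)) = (LP (LK LD1_c30 LD2_c6 LD3_c52)) :=
  Leop (Lpe (f908052 IH) (Lpn (LP (LK LD1_c29 LD2_c25 LD3_c45))))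
theorem seed_2302 : LEOK LG_b (LK LD1_c29 LD2_c25 LD3_c45) :=
  Leoe_b (LK LD1_c29 LD2_c25 LD3_c45) (f908053 IH)
def v39263 : LQ := Led Lsl_dt (LP (LK LD1_c9 LD2_c21 LD3_c30))
theorem f908072 : Led Lsl_dt (LP (LK LD1_c9 LD2_c21 LD3_c30)) = v39263 :=
  Lrfl
def v39234 : LQ := Led Lsl_ft (LP (LK LD1_c9 LD2_c21 LD3_c4))
theorem f907831 : Led Lsl_ft (LP (LK LD1_c9 LD2_c21 LD3_c4)) = v39234 :=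
  Lrfl
theorem f907833 : Led Lsl_df K51.v13447 = v39234 :=
  Lgr Lrot78 (Lpe (K51.f703030 IH) (Lpr_dt (f144101 IH) (Lpr_ft (f907831 IH) (Lpn v39234))))
theorem f908074 : Led Lsl_cf v39234 = v39263 :=
  Lgr Lrot116 (Lpe (f907833 IH) (Lpe (K51.f703028 IH) (Lpr_dt (K51.f632936 IH) (Lpr_ct (K58.f703032 IH) (Lpe (K51.f703031 IH) (Lpe (K51.f632959 IH) (Lpr_dt (K52.f25267 IH) (Lpr_ct (K62.f25330 IH) (Lpr_dt (f908072 IH) (Lpn v39263))))))))))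
theorem f907834 : Led Lsl_ff (LP (LK LD1_c9 LD2_c21 LD3_c4)) = v39234 :=
  Lgr Lrot3 (Lpr_ft (f907831 IH) (Lpn v39234))
theorem f144102 : Led Lsl_ct (LP (LK LD1_c9 LD2_c21 LD3_c4)) = (LP (LK LD1_c17 LD2_c17 LD3_c5)) :=
  Lre_c IH (LK LD1_c9 LD2_c21 LD3_c4) (LK LD1_c17 LD2_c17 LD3_c5) Lrfl Lrfl
theorem f908078 : Led Lsl_ft (LP (LK LD1_c17 LD2_c17 LD3_c5)) = v39263 :=
  Lgr Lrot4 (Lpe (f144102 IH) (Lpr_ff (f907834 IH) (Lpr_cf (f908074 IH) (Lpn v39263))))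
theorem f908080 : Led Lsl_ff (LP (LK LD1_c17 LD2_c17 LD3_c5)) = v39263 :=
  Lgr Lrot3 (Lpr_ft (f908078 IH) (Lpn v39263))
theorem f25361 : Led Lsl_gt (LP (LK LD1_c17 LD2_c17 LD3_c38)) = (LP (LK LD1_c9 LD2_c21 LD3_c30)) :=
  Lre_g IH (LK LD1_c17 LD2_c17 LD3_c38) (LK LD1_c9 LD2_c21 LD3_c30) Lrfl Lrfl
theorem f908081 : Led Lsl_gf (LP (LK LD1_c17 LD2_c17 LD3_c38)) = v39263 :=
  Lgr Lrot47 (Lpr_gt (f25361 IH) (Lpe (K64.f144057 IH) (Lpr_ff (f908080 IH) (Lpn v39263))))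
theorem f908077 : Led Lsl_ct v39234 = v39263 :=
  Lgr Lrot59 (Lpr_cf (f908074 IH) (Lpn v39263))
theorem f25369 : Led Lsl_at (LP (LK LD1_c9 LD2_c21 LD3_c4)) = (LP (LK LD1_c4 LD2_c44 LD3_c19)) :=
  Lre_a IH (LK LD1_c9 LD2_c21 LD3_c4) (LK LD1_c4 LD2_c44 LD3_c19) Lrfl Lrfl
theorem f907837 : Led Lsl_gf (LP (LK LD1_c9 LD2_c21 LD3_c29)) = v39234 :=
  Lgr Lrot47 (Lpr_gt (K52.f25347 IH) (Lpe (f25369 IH) (Lpr_ff (f907834 IH) (Lpn v39234))))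
theorem f715859 : Led Lsl_af (LP (LK LD1_c6 LD2_c47 LD3_c11)) = K66.v13757 :=
  Lgr Lrot50 (Lpr_et (K52.f715729 IH) (Lpqs (K57.f715838 IH) (Lpe (K57.f704682 IH) (Lpr_et (K66.f704695 IH) (Lpn K66.v13757)))))
theorem f715860 : Led Lsl_at (LP (LK LD1_c6 LD2_c47 LD3_c11)) = K66.v13757 :=
  Lgr Lrot100 (Lpr_af (f715859 IH) (Lpn K66.v13757))
theorem f907815 : Led Lsl_af (LP (LK LD1_c9 LD2_c21 LD3_c29)) = v39233 :=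
  Lgr Lrot117 (Lpe (f715736 IH) (Lpr_at (f715860 IH) (Lpr_dt (f907814 IH) (Lpn v39233))))
theorem f907817 : Led Lsl_df K66.v13757 = v39233 :=
  Lgr Lrot38 (Lpr_dt (f907814 IH) (Lpn v39233))
theorem f761033 : Led Lsl_ff (LP (LK LD1_c6 LD2_c47 LD3_c10)) = K66.v13757 :=
  Lgr Lrot23 (Lpr_ct (K58.f715549 IH) (Lpr_ft (K66.f761031 IH) (Lpe (f761024 IH) (Lpn K66.v13757))))
theorem f766670 : Led Lsl_df (LP (LK LD1_c9 LD2_c21 LD3_c28)) = (LP (LK LD1_c6 LD2_c47 LD3_c10)) :=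
  Lgr Lrot38 (Lpr_dt (K58.f766663 IH) (Lpn (LP (LK LD1_c6 LD2_c47 LD3_c10))))
theorem f907820 : Led Lsl_ft (LP (LK LD1_c9 LD2_c21 LD3_c28)) = v39233 :=
  Lgr Lrot54 (Lpr_df (f766670 IH) (Lpr_ff (f761033 IH) (Lpr_df (f907817 IH) (Lpn v39233))))
theorem f907838 : Led Lsl_gt (LP (LK LD1_c9 LD2_c21 LD3_c28)) = v39234 :=
  Lgr Lrot5 (Lpr_ft (f907820 IH) (Lpe (f907815 IH) (Lpr_gf (f907837 IH) (Lpn v39234))))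
theorem f761030 : Led Lsl_ft (LP (LK LD1_c6 LD2_c47 LD3_c10)) = K66.v13757 :=
  Lgr Lrot4 (Lpr_cf (K64.f715552 IH) (Lpr_ff (K66.f761028 IH) (Lpe (K66.f761027 IH) (Lpn K66.v13757))))
theorem f782302 : Led Lsl_gt (LP (LK LD1_c6 LD2_c47 LD3_c10)) = v19817 :=
  Lgr Lrot5 (Lpr_ft (f761030 IH) (Lpe (f715859 IH) (Lpr_gf (f782301 IH) (Lpn v19817))))
theorem f454628 : Led Lsl_ct (LP (LK LD1_c3 LD2_c21 LD3_c41)) = (LP (LK LD1_c6 LD2_c46 LD3_c60)) :=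
  Lre_c IH (LK LD1_c3 LD2_c21 LD3_c41) (LK LD1_c6 LD2_c46 LD3_c60) Lrfl Lrfl
theorem f782297 : Led Lsl_cf K51.v6429 = v19817 :=
  Lgr Lrot108 (Lpe (K51.f653377 IH) (Lpr_ct (f454628 IH) (Lpr_ft (f782295 IH) (Lpn v19817))))
theorem f509582 : Led Lsl_ct (LP (LK LD1_c3 LD2_c21 LD3_c47)) = (LP (LK LD1_c6 LD2_c47 LD3_c16)) :=
  Lre_c IH (LK LD1_c3 LD2_c21 LD3_c47) (LK LD1_c6 LD2_c47 LD3_c16) Lrfl Lrfl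
theorem f653381 : Led Lsl_dt (LP (LK LD1_c12 LD2_c57 LD3_c37)) = (LP (LK LD1_c6 LD2_c47 LD3_c16)) :=
  Lre_d IH (LK LD1_c12 LD2_c57 LD3_c37) (LK LD1_c6 LD2_c47 LD3_c16) Lrfl Lrfl
theorem f908082 : Led Lsl_ct (LP (LK LD1_c17 LD2_c17 LD3_c38)) = (LP (LK LD1_c12 LD2_c57 LD3_c37)) :=
  Lgr Lrot110 (Lpr_gf (f908081 IH) (Lpe (f908077 IH) (Lpe (f907838 IH) (Lpr_df (f766670 IH) (Lpr_gt (f782302 IH) (Lpe (f782297 IH) (Lpe (K51.f653379 IH) (Lpr_ct (f509582 IH) (Lpe (f653381 IH) (Lpn (LP (LK LD1_c12 LD2_c57 LD3_c37))))))))))))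
theorem f908083 : Led Lsl_ct (LP (LK LD1_c17 LD2_c17 LD3_c38)) = (LP (LK LD1_c12 LD2_c57 LD3_c37)) :=
  Leop (Lpe (f908082 IH) (Lpn (LP (LK LD1_c17 LD2_c17 LD3_c38))))
theorem seed_2303 : LEOK LG_c (LK LD1_c17 LD2_c17 LD3_c38) :=
  Leoe_c (LK LD1_c17 LD2_c17 LD3_c38) (f908083 IH)
theorem f509583 : Led Lsl_ct (LP (LK LD1_c6 LD2_c47 LD3_c16)) = (LP (LK LD1_c3 LD2_c21 LD3_c47)) :=
  Lre_c IH (LK LD1_c6 LD2_c47 LD3_c16) (LK LD1_c3 LD2_c21 LD3_c47) Lrfl Lrfl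
theorem f632987 : Led Lsl_ct (LP (LK LD1_c9 LD2_c21 LD3_c31)) = (LP (LK LD1_c17 LD2_c17 LD3_c41)) :=
  Lre_c IH (LK LD1_c9 LD2_c21 LD3_c31) (LK LD1_c17 LD2_c17 LD3_c41) Lrfl Lrfl
theorem f908089 : Led Lsl_df (LP (LK LD1_c17 LD2_c17 LD3_c38)) = (LP (LK LD1_c17 LD2_c17 LD3_c41)) :=
  Lgr Lrot43 (Lpr_ct (f908082 IH) (Lpr_dt (f653381 IH) (Lpr_ct (f509583 IH) (Lpr_dt (K51.f653429 IH) (Lpq (K51.f708308 IH) (Lpr_ct (K51.f144058 IH) (Lpr_dt (K51.f632939 IH) (Lpr_ct (K62.f632997 IH) (Lpe (K62.f801260 IH) (Lpr_ct (K62.f801257 IH) (Lpe (K62.f801255 IH) (Lpe (K62.f672265 IH) (Lpr_dt (K51.f672266 IH) (Lpqs (K51.f708791 IH) (Lpr_ct (K50.f25259 IH) (Lpr_dt (K58.f632986 IH) (Lpr_ct (f632987 IH) (Lpn (LP (LK LD1_c17 LD2_c17 LD3_c41))))))))))))))))))))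
theorem f908090 : Led Lsl_dt (LP (LK LD1_c17 LD2_c17 LD3_c41)) = (LP (LK LD1_c17 LD2_c17 LD3_c38)) :=
  Leop (Lpr_df (f908089 IH) (Lpn (LP (LK LD1_c17 LD2_c17 LD3_c41))))
theorem seed_2304 : LEOK LG_d (LK LD1_c17 LD2_c17 LD3_c41) :=
  Leoe_d (LK LD1_c17 LD2_c17 LD3_c41) (f908090 IH)
def v39271 : LQ := Led Lsl_dt (LP (LK LD1_c9 LD2_c21 LD3_c32))
theorem f908183 : Led Lsl_dt (LP (LK LD1_c9 LD2_c21 LD3_c32)) = v39271 :=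
  Lrfl
theorem f652490 : Led Lsl_ct (LP (LK LD1_c4 LD2_c44 LD3_c21)) = (LP (LK LD1_c9 LD2_c21 LD3_c32)) :=
  Lre_c IH (LK LD1_c4 LD2_c44 LD3_c21) (LK LD1_c9 LD2_c21 LD3_c32) Lrfl Lrfl
theorem f57345 : Led Lsl_ct (LP (LK LD1_c6 LD2_c43 LD3_c36)) = (LP (LK LD1_c12 LD2_c52 LD3_c4)) :=
  Lre_c IH (LK LD1_c6 LD2_c43 LD3_c36) (LK LD1_c12 LD2_c52 LD3_c4) Lrfl Lrfl
theorem f57369 : Led Lsl_gt (LP (LK LD1_c12 LD2_c52 LD3_c4)) = (LP (LK LD1_c22 LD2_c0 LD3_c10)) :=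
  Lre_g IH (LK LD1_c12 LD2_c52 LD3_c4) (LK LD1_c22 LD2_c0 LD3_c10) Lrfl Lrfl
theorem f908186 : Led Lsl_ct (LP (LK LD1_c22 LD2_c0 LD3_c10)) = v39271 :=
  Lgr Lrot151 (Lpe (f57369 IH) (Lpe (f57345 IH) (Lpe (K60.f780088 IH) (Lpr_dt (f780108 IH) (Lpr_gt (f908031 IH) (Lpe (f908034 IH) (Lpe (K51.f703214 IH) (Lpr_ct (f652490 IH) (Lpr_dt (f908183 IH) (Lpn v39271))))))))))
theorem f780278 : Led Lsl_dt (LP (LK LD1_c30 LD2_c14 LD3_c59)) = (LP (LK LD1_c22 LD2_c0 LD3_c10)) :=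
  Lre_d IH (LK LD1_c30 LD2_c14 LD3_c59) (LK LD1_c22 LD2_c0 LD3_c10) Lrfl Lrfl
theorem f908184 : Led Lsl_df (LP (LK LD1_c9 LD2_c21 LD3_c32)) = v39271 :=
  Lgr Lrot38 (Lpr_dt (f908183 IH) (Lpn v39271))
theorem f780584 : Led Lsl_at (LP (LK LD1_c6 LD2_c43 LD3_c44)) = K60.v19546 :=
  Lgr Lrot66 (Lpr_ff (K59.f709376 IH) (Lpr_af (K59.f709429 IH) (Lpr_ff (K60.f780567 IH) (Lpn K60.v19546))))
theorem f709275 : Led Lsl_dt (LP (LK LD1_c12 LD2_c51 LD3_c25)) = (LP (LK LD1_c22 LD2_c0 LD3_c14)) :=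
  Lre_d IH (LK LD1_c12 LD2_c51 LD3_c25) (LK LD1_c22 LD2_c0 LD3_c14) Lrfl Lrfl
theorem f908188 : Led Lsl_cf (LP (LK LD1_c30 LD2_c14 LD3_c59)) = (LP (LK LD1_c22 LD2_c0 LD3_c14)) :=
  Lgr Lrot118 (Lpr_dt (f780278 IH) (Lpr_ct (f908186 IH) (Lpe (f908184 IH) (Lpr_ct (K58.f652488 IH) (Lpr_dt (K51.f652487 IH) (Lpq (K58.f709398 IH) (Lpr_ct (K60.f780585 IH) (Lpe (f780584 IH) (Lpr_ff (K59.f709376 IH) (Lpr_dt (f709275 IH) (Lpn (LP (LK LD1_c22 LD2_c0 LD3_c14)))))))))))))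
theorem f908189 : Led Lsl_ct (LP (LK LD1_c22 LD2_c0 LD3_c14)) = (LP (LK LD1_c30 LD2_c14 LD3_c59)) :=
  Leop (Lpr_cf (f908188 IH) (Lpn (LP (LK LD1_c22 LD2_c0 LD3_c14))))
theorem seed_2305 : LEOK LG_c (LK LD1_c22 LD2_c0 LD3_c14) :=
  Leoe_c (LK LD1_c22 LD2_c0 LD3_c14) (f908189 IH)
def v39272 : LQ := Led Lsl_gt (LP (LK LD1_c9 LD2_c21 LD3_c33))
theorem f908192 : Led Lsl_gt (LP (LK LD1_c9 LD2_c21 LD3_c33)) = v39272 :=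
  Lrfl
def v39273 : LQ := Led Lsl_gf (LP (LK LD1_c9 LD2_c21 LD3_c33))
theorem f908199 : Led Lsl_gf (LP (LK LD1_c9 LD2_c21 LD3_c33)) = v39273 :=
  Lrfl
theorem f25391 : Led Lsl_bt (LP (LK LD1_c4 LD2_c44 LD3_c22)) = (LP (LK LD1_c9 LD2_c21 LD3_c33)) :=
  Lre_b IH (LK LD1_c4 LD2_c44 LD3_c22) (LK LD1_c9 LD2_c21 LD3_c33) Lrfl Lrfl
theorem f25217 : Led Lsl_bt (LP (LK LD1_c2 LD2_c20 LD3_c8)) = (LP (LK LD1_c4 LD2_c34 LD3_c53)) :=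
  Lgr Lrot128 (Lpe (K51.f25214 IH) (Lpe (K24.f25213 IH) (Lpr_cf (K7.f25200 IH) (Lpe (K45.f25215 IH) (Lpe (K52.f25216 IH) (Lpn (LP (LK LD1_c4 LD2_c34 LD3_c53))))))))
theorem f908201 : Led Lsl_bt (LP (LK LD1_c14 LD2_c30 LD3_c60)) = v39273 :=
  Lgr Lrot22 (Lpr_ct (K52.f426763 IH) (Lpe (K52.f425990 IH) (Lpe (K52.f642981 IH) (Lpe (K52.f25383 IH) (Lpe (f25217 IH) (Lpr_ct (K8.f25250 IH) (Lpe (K51.f25260 IH) (Lpe (K62.f25389 IH) (Lpr_bt (f25391 IH) (Lpr_gf (f908199 IH) (Lpn v39273)))))))))))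
theorem f427050 : Led Lsl_bt (LP (LK LD1_c11 LD2_c30 LD3_c31)) = (LP (LK LD1_c20 LD2_c27 LD3_c35)) :=
  Lre_b IH (LK LD1_c11 LD2_c30 LD3_c31) (LK LD1_c20 LD2_c27 LD3_c35) Lrfl Lrfl
theorem f427081 : Led Lsl_bt (LP (LK LD1_c12 LD2_c33 LD3_c56)) = (LP (LK LD1_c7 LD2_c42 LD3_c9)) :=
  Lgr Lrot128 (Lpr_cf (K64.f427079 IH) (Lpe (f427050 IH) (Lpe (K42.f427036 IH) (Lpe (K24.f426009 IH) (Lpr_cf (K52.f426106 IH) (Lpn (LP (LK LD1_c7 LD2_c42 LD3_c9))))))))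
theorem f908204 : Led Lsl_ff (LP (LK LD1_c12 LD2_c33 LD3_c56)) = v39273 :=
  Lgr Lrot25 (Lpr_bt (f427081 IH) (Lpr_ft (K52.f426781 IH) (Lpr_bt (f908201 IH) (Lpn v39273))))
theorem f426511 : Led Lsl_bt (LP (LK LD1_c11 LD2_c41 LD3_c46)) = (LP (LK LD1_c5 LD2_c58 LD3_c41)) :=
  Lre_b IH (LK LD1_c11 LD2_c41 LD3_c46) (LK LD1_c5 LD2_c58 LD3_c41) Lrfl Lrfl
theorem f426510 : Led Lsl_at (LP (LK LD1_c20 LD2_c41 LD3_c45)) = (LP (LK LD1_c11 LD2_c41 LD3_c46)) :=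
  Lre_a IH (LK LD1_c20 LD2_c41 LD3_c45) (LK LD1_c11 LD2_c41 LD3_c46) Lrfl Lrfl
theorem f427090 : Led Lsl_at (LP (LK LD1_c12 LD2_c33 LD3_c56)) = (LP (LK LD1_c13 LD2_c9 LD3_c57)) :=
  Lgr Lrot67 (Lpr_bf (K64.f427088 IH) (Lpr_af (K55.f426812 IH) (Lpe (f426511 IH) (Lpe (f426510 IH) (Lpr_bf (K28.f426508 IH) (Lpn (LP (LK LD1_c13 LD2_c9 LD3_c57))))))))
theorem f908206 : (LP (LK LD1_c13 LD2_c9 LD3_c57)) = v39272 :=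
  (Llr Lrot26 (Lpe (f427090 IH) (Lpr_ff (f908204 IH) (Lpe (f908199 IH) (Lpr_gt (f908192 IH) (Lpn v39272)))))).symm
theorem f908207 : Led Lsl_gt (LP (LK LD1_c9 LD2_c21 LD3_c33)) = (LP (LK LD1_c13 LD2_c9 LD3_c57)) :=
  Leop (Lpqs (f908206 IH) (Lpe (f908192 IH) (Lpn (LP (LK LD1_c9 LD2_c21 LD3_c33)))))
theorem seed_2306 : LEOK LG_g (LK LD1_c9 LD2_c21 LD3_c33) :=
  Leoe_g (LK LD1_c9 LD2_c21 LD3_c33) (f908207 IH)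
def v39280 : LQ := Led Lsl_gt (LP (LK LD1_c9 LD2_c21 LD3_c37))
theorem f908251 : Led Lsl_gt (LP (LK LD1_c9 LD2_c21 LD3_c37)) = v39280 :=
  Lrfl
theorem f908033 : Led Lsl_ct K51.v13475 = v39259 :=
  Lgr Lrot8 (Lpe (K51.f703214 IH) (Lpr_dt (K51.f652487 IH) (Lpe (K51.f652483 IH) (Lpr_dt (K6.f62581 IH) (Lpe (K50.f144009 IH) (Lpe (f144014 IH) (Lpe (K60.f144015 IH) (Lpe (K60.f437814 IH) (Lpr_gf (f908030 IH) (Lpn v39259))))))))))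
theorem f708003 : Led Lsl_ft (LP (LK LD1_c12 LD2_c28 LD3_c34)) = (LP (LK LD1_c21 LD2_c35 LD3_c25)) :=
  Lre_f IH (LK LD1_c12 LD2_c28 LD3_c34) (LK LD1_c21 LD2_c35 LD3_c25) Lrfl Lrfl
theorem f827047 : Led Lsl_gt (LP (LK LD1_c12 LD2_c13 LD3_c59)) = (LP (LK LD1_c12 LD2_c28 LD3_c41)) :=
  Lgr Lrot46 (Lpr_gf (f827045 IH) (Lpr_ft (f708003 IH) (Lpr_at (K60.f766192 IH) (Lpn (LP (LK LD1_c12 LD2_c28 LD3_c41))))))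
theorem f908255 : Led Lsl_ct K61.v20524 = v39280 :=
  Lgr Lrot10 (Lpe (K61.f787634 IH) (Lpr_gt (f827047 IH) (Lpr_ct (K60.f766190 IH) (Lpr_gt (f908031 IH) (Lpe (f908033 IH) (Lpqs (K51.f708757 IH) (Lpe (f701591 IH) (Lpr_gt (K35.f414585 IH) (Lpe (K59.f416170 IH) (Lpr_ct (K58.f416172 IH) (Lpr_gt (f908251 IH) (Lpn v39280))))))))))))
theorem f787869 : Led Lsl_df K61.v20524 = K65.v20551 :=
  Lgr Lrot38 (Lpr_dt (K65.f787866 IH) (Lpn K65.v20551))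
def v8928 : LQ := Led Lsl_dt K58.v2291
theorem f672789 : Led Lsl_dt K58.v2291 = v8928 :=
  Lrfl
theorem f672790 : Led Lsl_df K58.v2291 = v8928 :=
  Lgr Lrot38 (Lpr_dt (f672789 IH) (Lpn v8928))
theorem f769224 : Led Lsl_ff v8928 = K59.v9805 :=
  Lgr Lrot19 (Lpe (f672790 IH) (Lpqs (K58.f769178 IH) (Lpq (K58.f769085 IH) (Lpe (K58.f677555 IH) (Lpr_dt (K59.f677650 IH) (Lpn K59.v9805))))))
theorem f769226 : Led Lsl_ft v8928 = K59.v9805 :=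
  Lgr Lrot48 (Lpr_ff (f769224 IH) (Lpn K59.v9805))
theorem f787863 : Led Lsl_gt v8928 = K65.v20551 :=
  Lgr Lrot5 (Lpr_ft (f769226 IH) (Lpe (K59.f769222 IH) (Lpr_gf (K65.f787862 IH) (Lpn K65.v20551))))
theorem f650857 : Led Lsl_gt (LP (LK LD1_c6 LD2_c37 LD3_c59)) = (LP (LK LD1_c12 LD2_c41 LD3_c47)) :=
  Lre_g IH (LK LD1_c6 LD2_c37 LD3_c59) (LK LD1_c12 LD2_c41 LD3_c47) Lrfl Lrfl
theorem f908259 : Led Lsl_dt (LP (LK LD1_c12 LD2_c41 LD3_c47)) = v39280 :=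
  Lgr Lrot113 (Lpe (f650857 IH) (Lpe (K59.f650856 IH) (Lpq (K46.f650870 IH) (Lpe (K46.f508778 IH) (Lpr_ct (K59.f93826 IH) (Lpr_gt (K58.f511914 IH) (Lpr_dt (f672789 IH) (Lpr_gt (f787863 IH) (Lpe (f787869 IH) (Lpr_ct (f908255 IH) (Lpn v39280)))))))))))
theorem f708821 : Led Lsl_gt (LP (LK LD1_c6 LD2_c29 LD3_c9)) = (LP (LK LD1_c12 LD2_c28 LD3_c39)) :=
  Lre_g IH (LK LD1_c6 LD2_c29 LD3_c9) (LK LD1_c12 LD2_c28 LD3_c39) Lrfl Lrfl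
def v18450 : LQ := Led Lsl_et (LP (LK LD1_c6 LD2_c29 LD3_c46))
theorem f767028 : Led Lsl_et (LP (LK LD1_c6 LD2_c29 LD3_c46)) = v18450 :=
  Lrfl
theorem f767031 : Led Lsl_ef (LP (LK LD1_c6 LD2_c29 LD3_c46)) = v18450 :=
  Lgr Lrot88 (Lpr_et (f767028 IH) (Lpn v18450))
theorem f767032 : Led Lsl_at (LP (LK LD1_c12 LD2_c13 LD3_c59)) = v18450 :=
  Lgr Lrot80 (Lpe (K65.f709213 IH) (Lpe (K52.f709683 IH) (Lpr_ef (f767031 IH) (Lpn v18450))))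
theorem f787643 : (LP (LK LD1_c12 LD2_c28 LD3_c39)) = v18450 :=
  (Llr Lrot46 (Lpe (f708821 IH) (Lpe (K61.f649631 IH) (Lpr_ft (K65.f787640 IH) (Lpr_at (f767032 IH) (Lpn v18450)))))).symm
theorem f767030 : Led Lsl_bf (LP (LK LD1_c6 LD2_c29 LD3_c49)) = v18450 :=
  Lgr Lrot96 (Lpr_et (K58.f66748 IH) (Lpr_bt (K51.f649188 IH) (Lpr_et (f767028 IH) (Lpn v18450))))
theorem f787650 : Led Lsl_at (LP (LK LD1_c7 LD2_c31 LD3_c33)) = K61.v20524 :=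
  Lgr Lrot67 (Lpr_bf (K59.f766960 IH) (Lpe (K58.f766969 IH) (Lpr_bf (f767030 IH) (Lpq (f787643 IH) (Lpqs (f787643 IH) (Lpe (f767032 IH) (Lpr_bf (K61.f787634 IH) (Lpn K61.v20524))))))))
theorem f670920 : Led Lsl_ct (LP (LK LD1_c12 LD2_c2 LD3_c48)) = (LP (LK LD1_c7 LD2_c31 LD3_c33)) :=
  Lgr Lrot59 (Lpr_cf (K59.f670918 IH) (Lpn (LP (LK LD1_c7 LD2_c31 LD3_c33))))
theorem f908256 : Led Lsl_af (LP (LK LD1_c12 LD2_c2 LD3_c48)) = v39280 :=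
  Lgr Lrot68 (Lpr_ct (f670920 IH) (Lpr_at (f787650 IH) (Lpr_ct (f908255 IH) (Lpn v39280))))
theorem f650294 : Led Lsl_ft (LP (LK LD1_c6 LD2_c34 LD3_c46)) = (LP (LK LD1_c12 LD2_c35 LD3_c61)) :=
  Lre_f IH (LK LD1_c6 LD2_c34 LD3_c46) (LK LD1_c12 LD2_c35 LD3_c61) Lrfl Lrfl
theorem f773189 : Led Lsl_gf (LP (LK LD1_c12 LD2_c2 LD3_c48)) = (LP (LK LD1_c6 LD2_c34 LD3_c46)) :=
  Lgr Lrot47 (Lpr_gt (K59.f772569 IH) (Lpe (K59.f650997 IH) (Lpe (f650294 IH) (Lpn (LP (LK LD1_c6 LD2_c34 LD3_c46))))))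
theorem f651536 : Led Lsl_ef (LP (LK LD1_c3 LD2_c18 LD3_c27)) = K58.v6152 :=
  Lgr Lrot88 (Lpr_et (K58.f651535 IH) (Lpn K58.v6152))
theorem f755235 : Led Lsl_gf K49.v8520 = K60.v17116 :=
  Lgr Lrot134 (Lpe (K49.f671509 IH) (Lpq (K49.f678523 IH) (Lpqs (K58.f678548 IH) (Lpe (f651536 IH) (Lpr_gt (K32.f453908 IH) (Lpe (K24.f453906 IH) (Lpe (K49.f453922 IH) (Lpr_gt (K49.f624291 IH) (Lpe (K46.f65479 IH) (Lpr_et (K46.f502909 IH) (Lpr_gt (K56.f650315 IH) (Lpqs (K56.f753951 IH) (Lpr_dt (K60.f755230 IH) (Lpn K60.v17116))))))))))))))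
theorem f135560 : Led Lsl_gt (LP (LK LD1_c9 LD2_c29 LD3_c42)) = (LP (LK LD1_c4 LD2_c48 LD3_c33)) :=
  Lre_g IH (LK LD1_c9 LD2_c29 LD3_c42) (LK LD1_c4 LD2_c48 LD3_c33) Lrfl Lrfl
theorem f768945 : K49.v8520 = (LP (LK LD1_c4 LD2_c48 LD3_c33)) :=
  Lefun (Lecon (K49.f671509 IH) (((K49.f678523 IH).symm.trans (K58.f678548 IH)).trans (K58.f768902 IH).symm)) (K59.f135538 IH)
theorem f768975 : K60.v17116 = (LP (LK LD1_c9 LD2_c29 LD3_c42)) :=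
  Lefun (Lecon (f755235 IH) (f768945 IH)) (Lfl_gt (f135560 IH))
theorem f508525 : Led Lsl_gt (LP (LK LD1_c17 LD2_c30 LD3_c41)) = (LP (LK LD1_c9 LD2_c29 LD3_c40)) :=
  Lre_g IH (LK LD1_c17 LD2_c30 LD3_c41) (LK LD1_c9 LD2_c29 LD3_c40) Lrfl Lrfl
theorem f773191 : Led Lsl_dt (LP (LK LD1_c12 LD2_c2 LD3_c48)) = (LP (LK LD1_c17 LD2_c30 LD3_c41)) :=
  Lgr Lrot57 (Lpr_gf (f773189 IH) (Lpe (K59.f119505 IH) (Lpr_gt (K56.f650315 IH) (Lpqs (K56.f753951 IH) (Lpr_dt (K60.f755230 IH) (Lpqs (f768975 IH) (Lpr_gt (f135560 IH) (Lpr_dt (K60.f135539 IH) (Lpe (K58.f417062 IH) (Lpe (K58.f508524 IH) (Lpe (f508525 IH) (Lpn (LP (LK LD1_c17 LD2_c30 LD3_c41))))))))))))))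
theorem f908260 : Led Lsl_af (LP (LK LD1_c12 LD2_c41 LD3_c47)) = (LP (LK LD1_c17 LD2_c30 LD3_c41)) :=
  Lgr Lrot117 (Lpr_dt (f908259 IH) (Lpe (f908256 IH) (Lpr_dt (f773191 IH) (Lpn (LP (LK LD1_c17 LD2_c30 LD3_c41))))))
theorem f908261 : Led Lsl_at (LP (LK LD1_c17 LD2_c30 LD3_c41)) = (LP (LK LD1_c12 LD2_c41 LD3_c47)) :=
  Leop (Lpr_af (f908260 IH) (Lpn (LP (LK LD1_c17 LD2_c30 LD3_c41))))
theorem seed_2307 : LEOK LG_a (LK LD1_c17 LD2_c30 LD3_c41) :=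
  Leoe_a (LK LD1_c17 LD2_c30 LD3_c41) (f908261 IH)
def v39287 : LQ := Led Lsl_ft (LP (LK LD1_c9 LD2_c21 LD3_c44))
theorem f908331 : Led Lsl_ft (LP (LK LD1_c9 LD2_c21 LD3_c44)) = v39287 :=
  Lrfl
theorem f78029 : Led Lsl_gt (LP (LK LD1_c9 LD2_c21 LD3_c44)) = (LP (LK LD1_c17 LD2_c17 LD3_c53)) :=
  Lre_g IH (LK LD1_c9 LD2_c21 LD3_c44) (LK LD1_c17 LD2_c17 LD3_c53) Lrfl Lrfl
theorem f749109 : Led Lsl_at (LP (LK LD1_c5 LD2_c59 LD3_c22)) = (LP (LK LD1_c9 LD2_c21 LD3_c44)) :=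
  Lre_a IH (LK LD1_c5 LD2_c59 LD3_c22) (LK LD1_c9 LD2_c21 LD3_c44) Lrfl Lrfl
theorem f876474 : Led Lsl_ft (LP (LK LD1_c11 LD2_c43 LD3_c20)) = (LP (LK LD1_c5 LD2_c59 LD3_c22)) :=
  Lre_f IH (LK LD1_c11 LD2_c43 LD3_c20) (LK LD1_c5 LD2_c59 LD3_c22) Lrfl Lrfl
theorem f908332 : Led Lsl_af (LP (LK LD1_c11 LD2_c43 LD3_c20)) = v39287 :=
  Lgr Lrot45 (Lpr_ft (f876474 IH) (Lpr_at (f749109 IH) (Lpr_ft (f908331 IH) (Lpn v39287))))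
theorem f908339 : Led Lsl_gt (LP (LK LD1_c17 LD2_c17 LD3_c53)) = (LP (LK LD1_c11 LD2_c43 LD3_c20)) :=
  Lgr Lrot46 (Lpe (f78029 IH) (Lpr_ft (f908331 IH) (Lpe (f908332 IH) (Lpn (LP (LK LD1_c11 LD2_c43 LD3_c20))))))
theorem f908340 : Led Lsl_gt (LP (LK LD1_c17 LD2_c17 LD3_c53)) = (LP (LK LD1_c11 LD2_c43 LD3_c20)) :=
  Leop (Lpe (f908339 IH) (Lpn (LP (LK LD1_c17 LD2_c17 LD3_c53))))
theorem seed_2308 : LEOK LG_g (LK LD1_c17 LD2_c17 LD3_c53) :=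
  Leoe_g (LK LD1_c17 LD2_c17 LD3_c53) (f908340 IH)
def v39289 : LQ := Led Lsl_et (LP (LK LD1_c9 LD2_c21 LD3_c45))
theorem f908384 : Led Lsl_et (LP (LK LD1_c9 LD2_c21 LD3_c45)) = v39289 :=
  Lrfl
theorem f908387 : Led Lsl_ef (LP (LK LD1_c9 LD2_c21 LD3_c45)) = v39289 :=
  Lgr Lrot88 (Lpr_et (f908384 IH) (Lpn v39289))
theorem f58298 : Led Lsl_dt (LP (LK LD1_c12 LD2_c11 LD3_c15)) = (LP (LK LD1_c21 LD2_c16 LD3_c32)) :=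
  Lre_d IH (LK LD1_c12 LD2_c11 LD3_c15) (LK LD1_c21 LD2_c16 LD3_c32) Lrfl Lrfl
theorem f58304 : Led Lsl_gt (LP (LK LD1_c21 LD2_c16 LD3_c32)) = (LP (LK LD1_c12 LD2_c11 LD3_c28)) :=
  Lre_g IH (LK LD1_c21 LD2_c16 LD3_c32) (LK LD1_c12 LD2_c11 LD3_c28) Lrfl Lrfl
theorem f908390 : Led Lsl_df (LP (LK LD1_c12 LD2_c11 LD3_c28)) = v39289 :=
  Lgr Lrot168 (Lpe (f58304 IH) (Lpe (f58298 IH) (Lpe (K1.f58278 IH) (Lpe (K50.f58301 IH) (Lpe (K50.f58302 IH) (Lpr_dt (K50.f58303 IH) (Lpe (K50.f79469 IH) (Lpe (K50.f79486 IH) (Lpe (K50.f703307 IH) (Lpr_ef (f908387 IH) (Lpn v39289)))))))))))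
theorem f704369 : Led Lsl_et (LP (LK LD1_c4 LD2_c47 LD3_c12)) = (LP (LK LD1_c9 LD2_c27 LD3_c27)) :=
  Lre_e IH (LK LD1_c4 LD2_c47 LD3_c12) (LK LD1_c9 LD2_c27 LD3_c27) Lrfl Lrfl
theorem f908388 : Led Lsl_at (LP (LK LD1_c9 LD2_c27 LD3_c27)) = v39289 :=
  Lgr Lrot80 (Lpe (f704369 IH) (Lpr_af (K57.f704367 IH) (Lpq (K57.f761415 IH) (Lpr_ef (f908387 IH) (Lpn v39289)))))
theorem f110538 : Led Lsl_dt (LP (LK LD1_c17 LD2_c26 LD3_c28)) = (LP (LK LD1_c9 LD2_c27 LD3_c27)) :=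
  Lre_d IH (LK LD1_c17 LD2_c26 LD3_c28) (LK LD1_c9 LD2_c27 LD3_c27) Lrfl Lrfl
theorem f908391 : Led Lsl_at (LP (LK LD1_c12 LD2_c11 LD3_c28)) = (LP (LK LD1_c17 LD2_c26 LD3_c28)) :=
  Lgr Lrot51 (Lpr_df (f908390 IH) (Lpe (f908388 IH) (Lpe (f110538 IH) (Lpn (LP (LK LD1_c17 LD2_c26 LD3_c28))))))
theorem f908392 : Led Lsl_at (LP (LK LD1_c12 LD2_c11 LD3_c28)) = (LP (LK LD1_c17 LD2_c26 LD3_c28)) :=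
  Leop (Lpe (f908391 IH) (Lpn (LP (LK LD1_c12 LD2_c11 LD3_c28))))
theorem seed_2309 : LEOK LG_a (LK LD1_c12 LD2_c11 LD3_c28) :=
  Leoe_a (LK LD1_c12 LD2_c11 LD3_c28) (f908392 IH)
theorem f708876 : Led Lsl_ct (LP (LK LD1_c12 LD2_c11 LD3_c28)) = (LP (LK LD1_c21 LD2_c16 LD3_c51)) :=
  Lre_c IH (LK LD1_c12 LD2_c11 LD3_c28) (LK LD1_c21 LD2_c16 LD3_c51) Lrfl Lrfl
theorem f908393 : Led Lsl_dt (LP (LK LD1_c21 LD2_c16 LD3_c51)) = (LP (LK LD1_c29 LD2_c56 LD3_c13)) :=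
  Lre_d IH (LK LD1_c21 LD2_c16 LD3_c51) (LK LD1_c29 LD2_c56 LD3_c13) Lrfl Lrfl
theorem f703314 : Led Lsl_ct (LP (LK LD1_c9 LD2_c21 LD3_c45)) = (LP (LK LD1_c6 LD2_c21 LD3_c11)) :=
  Lgr Lrot59 (Lpr_cf (K51.f703310 IH) (Lpn (LP (LK LD1_c6 LD2_c21 LD3_c11))))
def v17663 : LQ := Led Lsl_et (LP (LK LD1_c6 LD2_c21 LD3_c11))
theorem f761471 : Led Lsl_et (LP (LK LD1_c6 LD2_c21 LD3_c11)) = v17663 :=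
  Lrfl
theorem f908389 : Led Lsl_ct v17663 = v39289 :=
  Lgr Lrot15 (Lpe (f761471 IH) (Lpe (f703314 IH) (Lpr_ef (f908387 IH) (Lpn v39289))))
def v18330 : LQ := Led Lsl_gf (LP (LK LD1_c6 LD2_c28 LD3_c36))
theorem f766396 : Led Lsl_gf (LP (LK LD1_c6 LD2_c28 LD3_c36)) = v18330 :=
  Lrfl
theorem f120018 : Led Lsl_dt (LP (LK LD1_c3 LD2_c12 LD3_c16)) = (LP (LK LD1_c6 LD2_c28 LD3_c36)) :=
  Lre_d IH (LK LD1_c3 LD2_c12 LD3_c16) (LK LD1_c6 LD2_c28 LD3_c36) Lrfl Lrfl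
theorem f120017 : Led Lsl_et (LP (LK LD1_c3 LD2_c12 LD3_c16)) = (LP (LK LD1_c1 LD2_c32 LD3_c37)) :=
  Lre_e IH (LK LD1_c3 LD2_c12 LD3_c16) (LK LD1_c1 LD2_c32 LD3_c37) Lrfl Lrfl
theorem f761473 : Led Lsl_ef (LP (LK LD1_c6 LD2_c21 LD3_c11)) = v17663 :=
  Lgr Lrot88 (Lpr_et (f761471 IH) (Lpn v17663))
theorem f766397 : Led Lsl_dt v17663 = v18330 :=
  Lgr Lrot136 (Lpe (f761473 IH) (Lpq (K51.f707743 IH) (Lpe (K51.f703379 IH) (Lpe (K2.f23532 IH) (Lpr_dt (K2.f23539 IH) (Lpe (K2.f23504 IH) (Lpe (K3.f98849 IH) (Lpe (K4.f119997 IH) (Lpe (f120017 IH) (Lpr_dt (f120018 IH) (Lpr_gf (f766396 IH) (Lpn v18330))))))))))))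
theorem f766399 : Led Lsl_df v17663 = v18330 :=
  Lgr Lrot38 (Lpr_dt (f766397 IH) (Lpn v18330))
def v25191 : LQ := Led Lsl_bt K58.v5345
theorem f827451 : Led Lsl_bt K58.v5345 = v25191 :=
  Lrfl
theorem f761474 : Led Lsl_bt K58.v5477 = v17663 :=
  Lgr Lrot119 (Lpe (K58.f647858 IH) (Lpe (K51.f77412 IH) (Lpr_ef (f761473 IH) (Lpn v17663))))
theorem f766398 : Led Lsl_bf K58.v17370 = v18330 :=
  Lgr Lrot93 (Lpe (K58.f758981 IH) (Lpr_bt (f761474 IH) (Lpr_dt (f766397 IH) (Lpn v18330))))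
theorem f827453 : Led Lsl_ff v18330 = v25191 :=
  Lgr Lrot25 (Lpe (f766398 IH) (Lpq (K58.f761453 IH) (Lpe (K58.f759576 IH) (Lpr_bt (f827451 IH) (Lpn v25191)))))
theorem f827454 : Led Lsl_ft v18330 = v25191 :=
  Lgr Lrot48 (Lpr_ff (f827453 IH) (Lpn v25191))
def v18329 : LQ := Led Lsl_gt (LP (LK LD1_c6 LD2_c28 LD3_c36))
theorem f766395 : Led Lsl_gt (LP (LK LD1_c6 LD2_c28 LD3_c36)) = v18329 :=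
  Lrfl
theorem f827455 : Led Lsl_af v18329 = v25191 :=
  Lgr Lrot31 (Lpe (f766395 IH) (Lpr_gf (f766396 IH) (Lpr_ft (f827454 IH) (Lpn v25191))))
def v26403 : LQ := Led Lsl_gt K57.v6650
theorem f833498 : Led Lsl_gt K57.v6650 = v26403 :=
  Lrfl
theorem f208780 : Led Lsl_ct (LP (LK LD1_c7 LD2_c27 LD3_c3)) = (LP (LK LD1_c3 LD2_c43 LD3_c15)) :=
  Lre_c IH (LK LD1_c7 LD2_c27 LD3_c3) (LK LD1_c3 LD2_c43 LD3_c15) Lrfl Lrfl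
theorem f209429 : Led Lsl_ct (LP (LK LD1_c14 LD2_c4 LD3_c46)) = (LP (LK LD1_c7 LD2_c27 LD3_c7)) :=
  Lre_c IH (LK LD1_c14 LD2_c4 LD3_c46) (LK LD1_c7 LD2_c27 LD3_c7) Lrfl Lrfl
def v18646 : LQ := Led Lsl_gt (LP (LK LD1_c6 LD2_c31 LD3_c43))
theorem f767887 : Led Lsl_gt (LP (LK LD1_c6 LD2_c31 LD3_c43)) = v18646 :=
  Lrfl
theorem f209447 : Led Lsl_ft (LP (LK LD1_c6 LD2_c31 LD3_c43)) = (LP (LK LD1_c12 LD2_c31 LD3_c24)) :=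
  Lre_f IH (LK LD1_c6 LD2_c31 LD3_c43) (LK LD1_c12 LD2_c31 LD3_c24) Lrfl Lrfl
theorem f209430 : Led Lsl_at (LP (LK LD1_c12 LD2_c31 LD3_c24)) = (LP (LK LD1_c14 LD2_c4 LD3_c46)) :=
  Lgr Lrot107 (Lpe (K66.f209428 IH) (Lpr_af (K46.f209422 IH) (Lpe (f209429 IH) (Lpn (LP (LK LD1_c14 LD2_c4 LD3_c46))))))
theorem f767888 : Led Lsl_gf (LP (LK LD1_c14 LD2_c4 LD3_c46)) = v18646 :=
  Lgr Lrot76 (Lpe (f209430 IH) (Lpe (f209447 IH) (Lpr_gt (f767887 IH) (Lpn v18646))))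
theorem f833501 : Led Lsl_cf v18646 = v26403 :=
  Lgr Lrot169 (Lpe (f767888 IH) (Lpr_ct (f209429 IH) (Lpe (K46.f208786 IH) (Lpe (f208780 IH) (Lpe (K52.f209510 IH) (Lpe (K52.f702896 IH) (Lpe (K52.f657462 IH) (Lpr_df (K57.f657469 IH) (Lpr_gt (f833498 IH) (Lpn v26403))))))))))
theorem f209472 : Led Lsl_ct (LP (LK LD1_c7 LD2_c27 LD3_c7)) = (LP (LK LD1_c14 LD2_c4 LD3_c46)) :=
  Lre_c IH (LK LD1_c7 LD2_c27 LD3_c7) (LK LD1_c14 LD2_c4 LD3_c46) Lrfl Lrfl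
def v17996 : LQ := Led Lsl_dt (LP (LK LD1_c6 LD2_c25 LD3_c43))
theorem f764597 : Led Lsl_dt (LP (LK LD1_c6 LD2_c25 LD3_c43)) = v17996 :=
  Lrfl
def v5570 : LQ := Led Lsl_dt (LP (LK LD1_c3 LD2_c10 LD3_c36))
theorem f648296 : Led Lsl_dt (LP (LK LD1_c3 LD2_c10 LD3_c36)) = v5570 :=
  Lrfl
theorem f648298 : Led Lsl_df (LP (LK LD1_c3 LD2_c10 LD3_c36)) = v5570 :=
  Lgr Lrot38 (Lpr_dt (f648296 IH) (Lpn v5570))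
theorem f764600 : Led Lsl_ff v5570 = v17996 :=
  Lgr Lrot19 (Lpe (f648298 IH) (Lpr_ft (K48.f208788 IH) (Lpr_dt (f764597 IH) (Lpn v17996))))
theorem f648297 : Led Lsl_bf (LP (LK LD1_c3 LD2_c43 LD3_c14)) = v5570 :=
  Lgr Lrot93 (Lpr_dt (K48.f116070 IH) (Lpr_bt (K48.f208769 IH) (Lpr_dt (f648296 IH) (Lpn v5570))))
theorem f764601 : Led Lsl_bt (LP (LK LD1_c7 LD2_c27 LD3_c7)) = v17996 :=
  Lgr Lrot35 (Lpe (K46.f209433 IH) (Lpr_bf (f648297 IH) (Lpr_ff (f764600 IH) (Lpn v17996))))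
def v5243 : LQ := Led Lsl_gf (LP (LK LD1_c3 LD2_c2 LD3_c25))
def v25112 : LQ := Led Lsl_bt v5243
theorem f827094 : Led Lsl_bt v5243 = v25112 :=
  Lrfl
theorem f646763 : Led Lsl_gf (LP (LK LD1_c3 LD2_c2 LD3_c25)) = v5243 :=
  Lrfl
theorem f62885 : Led Lsl_dt (LP (LK LD1_c1 LD2_c27 LD3_c10)) = (LP (LK LD1_c3 LD2_c2 LD3_c25)) :=
  Lre_d IH (LK LD1_c1 LD2_c27 LD3_c10) (LK LD1_c3 LD2_c2 LD3_c25) Lrfl Lrfl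
theorem f62884 : Led Lsl_et (LP (LK LD1_c1 LD2_c27 LD3_c10)) = (LP (LK LD1_c0 LD2_c40 LD3_c21)) :=
  Lre_e IH (LK LD1_c1 LD2_c27 LD3_c10) (LK LD1_c0 LD2_c40 LD3_c21) Lrfl Lrfl
theorem f65396 : Led Lsl_et (LP (LK LD1_c0 LD2_c43 LD3_c45)) = (LP (LK LD1_c1 LD2_c34 LD3_c14)) :=
  Lre_e IH (LK LD1_c0 LD2_c43 LD3_c45) (LK LD1_c1 LD2_c34 LD3_c14) Lrfl Lrfl
theorem f62089 : Led Lsl_et (LP (LK LD1_c6 LD2_c33 LD3_c45)) = (LP (LK LD1_c3 LD2_c15 LD3_c9)) :=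
  Lre_e IH (LK LD1_c6 LD2_c33 LD3_c45) (LK LD1_c3 LD2_c15 LD3_c9) Lrfl Lrfl
theorem f646768 : Led Lsl_dt (LP (LK LD1_c6 LD2_c33 LD3_c45)) = v5243 :=
  Lgr Lrot136 (Lpr_et (f62089 IH) (Lpe (K56.f62032 IH) (Lpe (f65396 IH) (Lpr_dt (K1.f14699 IH) (Lpe (K0.f14705 IH) (Lpe (K1.f65252 IH) (Lpr_gf (K1.f65253 IH) (Lpe (f62884 IH) (Lpr_dt (f62885 IH) (Lpr_gf (f646763 IH) (Lpn v5243)))))))))))
def v18836 : LQ := Led Lsl_bt (LP (LK LD1_c6 LD2_c33 LD3_c45))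
theorem f776035 : Led Lsl_bt (LP (LK LD1_c6 LD2_c33 LD3_c45)) = v18836 :=
  Lrfl
theorem f776036 : Led Lsl_bf (LP (LK LD1_c6 LD2_c33 LD3_c45)) = v18836 :=
  Lgr Lrot24 (Lpr_bt (f776035 IH) (Lpn v18836))
theorem f827096 : Led Lsl_df v18836 = v25112 :=
  Lgr Lrot12 (Lpe (f776036 IH) (Lpr_dt (f646768 IH) (Lpr_bt (f827094 IH) (Lpn v25112))))
theorem f646770 : Led Lsl_et (LP (LK LD1_c3 LD2_c15 LD3_c9)) = (LP (LK LD1_c6 LD2_c33 LD3_c45)) :=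
  Lre_e IH (LK LD1_c3 LD2_c15 LD3_c9) (LK LD1_c6 LD2_c33 LD3_c45) Lrfl Lrfl
theorem f776037 : Led Lsl_ef K56.v5938 = v18836 :=
  Lgr Lrot29 (Lpe (K56.f650139 IH) (Lpr_et (f646770 IH) (Lpr_bt (f776035 IH) (Lpn v18836))))
theorem f776039 : Led Lsl_et K56.v5938 = v18836 :=
  Lgr Lrot87 (Lpr_ef (f776037 IH) (Lpn v18836))
def v17509 : LQ := Led Lsl_et (LP (LK LD1_c6 LD2_c19 LD3_c52))
theorem f760311 : Led Lsl_et (LP (LK LD1_c6 LD2_c19 LD3_c52)) = v17509 :=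
  Lrfl
theorem f760312 : Led Lsl_ef (LP (LK LD1_c6 LD2_c19 LD3_c52)) = v17509 :=
  Lgr Lrot88 (Lpr_et (f760311 IH) (Lpn v17509))
theorem f776040 : Led Lsl_cf v17509 = v18836 :=
  Lgr Lrot39 (Lpe (f760312 IH) (Lpr_ct (K57.f712653 IH) (Lpr_et (f776039 IH) (Lpn v18836))))
def v18341 : LQ := Led Lsl_gf (LP (LK LD1_c6 LD2_c28 LD3_c45))
theorem f766458 : Led Lsl_gf (LP (LK LD1_c6 LD2_c28 LD3_c45)) = v18341 :=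
  Lrfl
theorem f120005 : Led Lsl_dt (LP (LK LD1_c3 LD2_c12 LD3_c19)) = (LP (LK LD1_c6 LD2_c28 LD3_c45)) :=
  Lre_d IH (LK LD1_c3 LD2_c12 LD3_c19) (LK LD1_c6 LD2_c28 LD3_c45) Lrfl Lrfl
theorem f104268 : Led Lsl_et (LP (LK LD1_c1 LD2_c29 LD3_c60)) = (LP (LK LD1_c3 LD2_c7 LD3_c29)) :=
  Lre_e IH (LK LD1_c1 LD2_c29 LD3_c60) (LK LD1_c3 LD2_c7 LD3_c29) Lrfl Lrfl
theorem f766460 : Led Lsl_dt v17509 = v18341 :=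
  Lgr Lrot136 (Lpe (f760312 IH) (Lpe (K52.f104246 IH) (Lpe (f104268 IH) (Lpe (K66.f104258 IH) (Lpr_gf (K59.f529940 IH) (Lpe (K59.f529942 IH) (Lpr_gf (K5.f128895 IH) (Lpe (K51.f120004 IH) (Lpr_dt (f120005 IH) (Lpr_gf (f766458 IH) (Lpn v18341)))))))))))
theorem f766461 : Led Lsl_df v17509 = v18341 :=
  Lgr Lrot38 (Lpr_dt (f766460 IH) (Lpn v18341))
theorem f766459 : Led Lsl_gt (LP (LK LD1_c12 LD2_c14 LD3_c6)) = v18341 :=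
  Lgr Lrot5 (Lpr_ft (K59.f89475 IH) (Lpe (K59.f208163 IH) (Lpr_gf (f766458 IH) (Lpn v18341))))
theorem f650329 : Led Lsl_gf (LP (LK LD1_c6 LD2_c25 LD3_c43)) = K51.v5975 :=
  Lgr Lrot76 (Lpe (K48.f208814 IH) (Lpe (K48.f208813 IH) (Lpr_gt (K51.f650328 IH) (Lpn K51.v5975))))
theorem f827098 : Led Lsl_gt v17996 = v25112 :=
  Lgr Lrot49 (Lpe (f764597 IH) (Lpr_gf (f650329 IH) (Lpe (K51.f708951 IH) (Lpr_gt (K51.f208154 IH) (Lpr_dt (K59.f89495 IH) (Lpr_gt (f766459 IH) (Lpe (f766461 IH) (Lpr_cf (f776040 IH) (Lpr_df (f827096 IH) (Lpn v25112))))))))))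
def v5714 : LQ := Led Lsl_ct (LP (LK LD1_c3 LD2_c12 LD3_c22))
def v25666 : LQ := Led Lsl_gf v5714
theorem f829811 : Led Lsl_gf v5714 = v25666 :=
  Lrfl
theorem f649011 : Led Lsl_ct (LP (LK LD1_c3 LD2_c12 LD3_c22)) = v5714 :=
  Lrfl
theorem f649013 : Led Lsl_cf (LP (LK LD1_c3 LD2_c12 LD3_c22)) = v5714 :=
  Lgr Lrot11 (Lpr_ct (f649011 IH) (Lpn v5714))
theorem f708237 : Led Lsl_ct (LP (LK LD1_c6 LD2_c11 LD3_c39)) = (LP (LK LD1_c6 LD2_c28 LD3_c44)) :=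
  Lgr Lrot63 (Lpr_bt (K51.f140019 IH) (Lpr_gt (K50.f114399 IH) (Lpe (K48.f23885 IH) (Lpr_ct (K35.f20112 IH) (Lpr_gt (K0.f20110 IH) (Lpr_cf (K46.f140010 IH) (Lpqs (K51.f707626 IH) (Lpe (K51.f648997 IH) (Lpe (K51.f440097 IH) (Lpr_ct (K4.f89424 IH) (Lpe (K52.f208144 IH) (Lpn (LP (LK LD1_c6 LD2_c28 LD3_c44))))))))))))))
theorem f829813 : Led Lsl_ct v25112 = v25666 :=
  Lgr Lrot152 (Lpe (f827098 IH) (Lpe (f764597 IH) (Lpr_gt (K52.f650331 IH) (Lpq (K50.f702889 IH) (Lpr_ct (f708237 IH) (Lpr_gt (K51.f208143 IH) (Lpr_ct (K51.f208136 IH) (Lpe (K51.f128430 IH) (Lpr_cf (f649013 IH) (Lpr_gf (f829811 IH) (Lpn v25666)))))))))))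
theorem f208240 : Led Lsl_bt (LP (LK LD1_c3 LD2_c12 LD3_c22)) = (LP (LK LD1_c6 LD2_c28 LD3_c36)) :=
  Lre_b IH (LK LD1_c3 LD2_c12 LD3_c22) (LK LD1_c6 LD2_c28 LD3_c36) Lrfl Lrfl
theorem f833504 : Led Lsl_bf v18329 = v26403 :=
  Lgr Lrot34 (Lpe (f766395 IH) (Lpe (f208240 IH) (Lpr_ct (f649011 IH) (Lpr_gf (f829811 IH) (Lpe (f829813 IH) (Lpe (f827098 IH) (Lpe (f764601 IH) (Lpr_ct (f209472 IH) (Lpr_gf (f767888 IH) (Lpr_cf (f833501 IH) (Lpn v26403)))))))))))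
theorem f833505 : Led Lsl_bt v18329 = v26403 :=
  Lgr Lrot127 (Lpr_bf (f833504 IH) (Lpn v26403))
theorem f785757 : Led Lsl_ff K57.v6650 = v20220 :=
  Lgr Lrot19 (Lpe (K57.f657469 IH) (Lpr_ft (K57.f109377 IH) (Lpr_dt (f785753 IH) (Lpn v20220))))
theorem f785760 : Led Lsl_ft K57.v6650 = v20220 :=
  Lgr Lrot48 (Lpr_ff (f785757 IH) (Lpn v20220))
def v18537 : LQ := Led Lsl_dt (LP (LK LD1_c6 LD2_c30 LD3_c31))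
theorem f767355 : Led Lsl_dt (LP (LK LD1_c6 LD2_c30 LD3_c31)) = v18537 :=
  Lrfl
theorem f767357 : Led Lsl_df (LP (LK LD1_c6 LD2_c30 LD3_c31)) = v18537 :=
  Lgr Lrot38 (Lpr_dt (f767355 IH) (Lpn v18537))
theorem f785754 : Led Lsl_af v18537 = v20220 :=
  Lgr Lrot117 (Lpe (f767357 IH) (Lpe (K48.f209027 IH) (Lpr_dt (f785753 IH) (Lpn v20220))))
theorem f833500 : Led Lsl_gf v18537 = v26403 :=
  Lgr Lrot76 (Lpr_af (f785754 IH) (Lpe (f785760 IH) (Lpr_gt (f833498 IH) (Lpn v26403))))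
def v5610 : LQ := Led Lsl_et (LP (LK LD1_c3 LD2_c10 LD3_c54))
theorem f648499 : Led Lsl_et (LP (LK LD1_c3 LD2_c10 LD3_c54)) = v5610 :=
  Lrfl
theorem f648501 : Led Lsl_df (LP (LK LD1_c3 LD2_c13 LD3_c20)) = v5610 :=
  Lgr Lrot70 (Lpr_et (K5.f68468 IH) (Lpr_dt (K49.f129097 IH) (Lpe (K5.f108862 IH) (Lpr_dt (K5.f108845 IH) (Lpr_et (f648499 IH) (Lpn v5610))))))
theorem f767359 : Led Lsl_ff v5610 = v18537 :=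
  Lgr Lrot19 (Lpe (f648501 IH) (Lpr_ft (K46.f68484 IH) (Lpr_dt (f767355 IH) (Lpn v18537))))
theorem f648500 : Led Lsl_bf K57.v1941 = v5610 :=
  Lgr Lrot96 (Lpe (K57.f506502 IH) (Lpr_bt (K5.f131304 IH) (Lpr_et (f648499 IH) (Lpn v5610))))
def v5787 : LQ := Led Lsl_dt (LP (LK LD1_c3 LD2_c13 LD3_c24))
theorem f649349 : Led Lsl_dt (LP (LK LD1_c3 LD2_c13 LD3_c24)) = v5787 :=
  Lrfl
theorem f649351 : Led Lsl_ff K57.v1941 = v5787 :=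
  Lgr Lrot19 (Lpe (K57.f506501 IH) (Lpr_ft (K48.f129085 IH) (Lpr_dt (f649349 IH) (Lpn v5787))))
theorem f649352 : Led Lsl_ft K57.v1941 = v5787 :=
  Lgr Lrot48 (Lpr_ff (f649351 IH) (Lpn v5787))
theorem f767360 : Led Lsl_bt v5787 = v18537 :=
  Lgr Lrot35 (Lpe (f649352 IH) (Lpr_bf (f648500 IH) (Lpr_ff (f767359 IH) (Lpn v18537))))
def v5617 : LQ := Led Lsl_et (LP (LK LD1_c3 LD2_c10 LD3_c59))
def v25547 : LQ := Led Lsl_ft v5617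
theorem f829235 : Led Lsl_ft v5617 = v25547 :=
  Lrfl
theorem f829238 : Led Lsl_ff v5617 = v25547 :=
  Lgr Lrot3 (Lpr_ft (f829235 IH) (Lpn v25547))
theorem f648545 : Led Lsl_et (LP (LK LD1_c3 LD2_c10 LD3_c59)) = v5617 :=
  Lrfl
theorem f648547 : Led Lsl_cf K57.v1941 = v5617 :=
  Lgr Lrot39 (Lpe (K57.f506502 IH) (Lpr_ct (K5.f131305 IH) (Lpr_et (f648545 IH) (Lpn v5617))))
theorem f829241 : Led Lsl_ct v5787 = v25547 :=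
  Lgr Lrot40 (Lpe (f649352 IH) (Lpr_cf (f648547 IH) (Lpr_ff (f829238 IH) (Lpn v25547))))
def v5579 : LQ := Led Lsl_et (LP (LK LD1_c3 LD2_c10 LD3_c39))
theorem f648336 : Led Lsl_et (LP (LK LD1_c3 LD2_c10 LD3_c39)) = v5579 :=
  Lrfl
theorem f648338 : Led Lsl_ef (LP (LK LD1_c3 LD2_c10 LD3_c39)) = v5579 :=
  Lgr Lrot88 (Lpr_et (f648336 IH) (Lpn v5579))
theorem f648546 : Led Lsl_af v5579 = v5617 :=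
  Lgr Lrot50 (Lpe (f648338 IH) (Lpe (K6.f143552 IH) (Lpr_et (f648545 IH) (Lpn v5617))))
def v25474 : LQ := Led Lsl_gf v5579
theorem f828875 : Led Lsl_gf v5579 = v25474 :=
  Lrfl
theorem f829242 : Led Lsl_gf v25474 = v25547 :=
  Lgr Lrot47 (Lpe (f828875 IH) (Lpr_af (f648546 IH) (Lpr_ff (f829238 IH) (Lpn v25547))))
def v8217 : LQ := Led Lsl_gt K66.v1925
theorem f670394 : Led Lsl_gt K66.v1925 = v8217 :=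
  Lrfl
theorem f506500 : Led Lsl_af K66.v1925 = K57.v1941 :=
  Lgr Lrot50 (Lpe (K66.f506413 IH) (Lpe (K66.f143651 IH) (Lpr_et (K57.f506499 IH) (Lpn K57.v1941))))
theorem f670398 : Led Lsl_af v5787 = K66.v8219 :=
  Lgr Lrot45 (Lpe (f649351 IH) (Lpe (f506500 IH) (Lpr_ft (K66.f670397 IH) (Lpn K66.v8219))))
theorem f670402 : Led Lsl_gt v8217 = v5787 :=
  Lgr Lrot46 (Lpe (f670394 IH) (Lpr_ft (K66.f670397 IH) (Lpe (f670398 IH) (Lpn v5787))))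
def v22124 : LQ := Led Lsl_gf (LP (LK LD1_c7 LD2_c31 LD3_c35))
theorem f801503 : Led Lsl_gf (LP (LK LD1_c7 LD2_c31 LD3_c35)) = v22124 :=
  Lrfl
theorem f114292 : Led Lsl_ct (LP (LK LD1_c3 LD2_c45 LD3_c27)) = (LP (LK LD1_c7 LD2_c31 LD3_c35)) :=
  Lre_c IH (LK LD1_c3 LD2_c45 LD3_c27) (LK LD1_c7 LD2_c31 LD3_c35) Lrfl Lrfl
theorem f114285 : Led Lsl_ct (LP (LK LD1_c7 LD2_c31 LD3_c35)) = (LP (LK LD1_c3 LD2_c45 LD3_c27)) :=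
  Lre_c IH (LK LD1_c7 LD2_c31 LD3_c35) (LK LD1_c3 LD2_c45 LD3_c27) Lrfl Lrfl
theorem f114286 : Led Lsl_et (LP (LK LD1_c6 LD2_c10 LD3_c0)) = (LP (LK LD1_c7 LD2_c31 LD3_c35)) :=
  Lgr Lrot158 (Lpr_cf (K6.f114275 IH) (Lpr_ef (K65.f109206 IH) (Lpe (f114285 IH) (Lpn (LP (LK LD1_c7 LD2_c31 LD3_c35))))))
theorem f114290 : Led Lsl_ef (LP (LK LD1_c6 LD2_c10 LD3_c0)) = (LP (LK LD1_c7 LD2_c31 LD3_c35)) :=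
  Lgr Lrot88 (Lpr_et (f114286 IH) (Lpn (LP (LK LD1_c7 LD2_c31 LD3_c35))))
theorem f114293 : Led Lsl_et (LP (LK LD1_c3 LD2_c10 LD3_c35)) = (LP (LK LD1_c3 LD2_c45 LD3_c27)) :=
  Lgr Lrot158 (Lpe (K5.f114214 IH) (Lpr_ef (f114290 IH) (Lpe (f114292 IH) (Lpn (LP (LK LD1_c3 LD2_c45 LD3_c27))))))
theorem f506414 : Led Lsl_bt (LP (LK LD1_c3 LD2_c45 LD3_c27)) = K66.v1925 :=
  Lgr Lrot119 (Lpe (f114293 IH) (Lpe (K6.f114281 IH) (Lpr_ef (K66.f506413 IH) (Lpn K66.v1925))))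
theorem f209239 : Led Lsl_ct (LP (LK LD1_c3 LD2_c45 LD3_c24)) = (LP (LK LD1_c1 LD2_c49 LD3_c52)) :=
  Lre_c IH (LK LD1_c3 LD2_c45 LD3_c24) (LK LD1_c1 LD2_c49 LD3_c52) Lrfl Lrfl
theorem f441171 : Led Lsl_dt (LP (LK LD1_c3 LD2_c2 LD3_c22)) = (LP (LK LD1_c6 LD2_c11 LD3_c36)) :=
  Lre_d IH (LK LD1_c3 LD2_c2 LD3_c22) (LK LD1_c6 LD2_c11 LD3_c36) Lrfl Lrfl
def v2114 : LQ := Led Lsl_et (LP (LK LD1_c1 LD2_c35 LD3_c47))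
def v8595 : LQ := Led Lsl_dt v2114
theorem f671712 : Led Lsl_dt v2114 = v8595 :=
  Lrfl
theorem f509064 : Led Lsl_et (LP (LK LD1_c1 LD2_c35 LD3_c47)) = v2114 :=
  Lrfl
theorem f509065 : Led Lsl_ef (LP (LK LD1_c1 LD2_c35 LD3_c47)) = v2114 :=
  Lgr Lrot88 (Lpr_et (f509064 IH) (Lpn v2114))
theorem f439810 : Led Lsl_gt (LP (LK LD1_c1 LD2_c35 LD3_c47)) = (LP (LK LD1_c3 LD2_c15 LD3_c12)) :=
  Lre_g IH (LK LD1_c1 LD2_c35 LD3_c47) (LK LD1_c3 LD2_c15 LD3_c12) Lrfl Lrfl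
theorem f441170 : Led Lsl_et (LP (LK LD1_c3 LD2_c2 LD3_c22)) = (LP (LK LD1_c1 LD2_c27 LD3_c9)) :=
  Lre_e IH (LK LD1_c3 LD2_c2 LD3_c22) (LK LD1_c1 LD2_c27 LD3_c9) Lrfl Lrfl
theorem f671714 : Led Lsl_gt (LP (LK LD1_c6 LD2_c11 LD3_c36)) = v8595 :=
  Lgr Lrot112 (Lpe (f441171 IH) (Lpr_et (f441170 IH) (Lpe (K51.f61060 IH) (Lpe (K46.f441149 IH) (Lpe (K46.f441150 IH) (Lpe (K56.f441168 IH) (Lpe (K46.f441169 IH) (Lpe (f439810 IH) (Lpr_ef (f509065 IH) (Lpr_dt (f671712 IH) (Lpn v8595)))))))))))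
theorem f801504 : Led Lsl_ct v8595 = v22124 :=
  Lgr Lrot152 (Lpe (f671714 IH) (Lpe (f441171 IH) (Lpr_gt (K50.f62173 IH) (Lpr_ct (K50.f649394 IH) (Lpr_gt (K50.f96199 IH) (Lpr_ct (f209239 IH) (Lpe (K65.f114297 IH) (Lpe (f114285 IH) (Lpr_gf (f801503 IH) (Lpn v22124))))))))))
theorem f25565 : Led Lsl_bt (LP (LK LD1_c3 LD2_c3 LD3_c5)) = (LP (LK LD1_c6 LD2_c11 LD3_c36)) :=
  Lre_b IH (LK LD1_c3 LD2_c3 LD3_c5) (LK LD1_c6 LD2_c11 LD3_c36) Lrfl Lrfl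
def v5331 : LQ := Led Lsl_gt (LP (LK LD1_c3 LD2_c6 LD3_c11))
theorem f647130 : Led Lsl_gt (LP (LK LD1_c3 LD2_c6 LD3_c11)) = v5331 :=
  Lrfl
theorem f647132 : Led Lsl_gf (LP (LK LD1_c6 LD2_c12 LD3_c46)) = v5331 :=
  Lgr Lrot76 (Lpr_af (K1.f58517 IH) (Lpe (K1.f58516 IH) (Lpr_gt (f647130 IH) (Lpn v5331))))
theorem f647137 : Led Lsl_ct K49.v1837 = v5331 :=
  Lgr Lrot152 (Lpe (K49.f504483 IH) (Lpe (K9.f61696 IH) (Lpr_gt (K31.f61832 IH) (Lpe (K9.f140086 IH) (Lpr_gt (K0.f22938 IH) (Lpr_ct (f25580 IH) (Lpe (K29.f25533 IH) (Lpe (K32.f25531 IH) (Lpr_gf (f647132 IH) (Lpn v5331))))))))))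
def v8102 : LQ := Led Lsl_bt K49.v1837
theorem f669991 : Led Lsl_bt K49.v1837 = v8102 :=
  Lrfl
theorem f801505 : v8217 = v8102 :=
  (Llr Lrot164 (Lpe (f670394 IH) (Lpe (f506414 IH) (Lpr_ct (f114292 IH) (Lpr_gf (f801503 IH) (Lpe (f801504 IH) (Lpe (f671714 IH) (Lpe (f25565 IH) (Lpr_ct (K1.f25532 IH) (Lpr_gf (f647132 IH) (Lpe (f647137 IH) (Lpr_bt (f669991 IH) (Lpn v8102))))))))))))).symm
theorem f25546 : Led Lsl_bt (LP (LK LD1_c1 LD2_c29 LD3_c9)) = (LP (LK LD1_c3 LD2_c5 LD3_c60)) :=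
  Lre_b IH (LK LD1_c1 LD2_c29 LD3_c9) (LK LD1_c3 LD2_c5 LD3_c60) Lrfl Lrfl
def v5321 : LQ := Led Lsl_gf (LP (LK LD1_c3 LD2_c5 LD3_c60))
theorem f647066 : Led Lsl_gf (LP (LK LD1_c3 LD2_c5 LD3_c60)) = v5321 :=
  Lrfl
def v25177 : LQ := Led Lsl_bt v5321
theorem f827384 : Led Lsl_bt v5321 = v25177 :=
  Lrfl
theorem f827385 : Led Lsl_bf v5321 = v25177 :=
  Lgr Lrot24 (Lpr_bt (f827384 IH) (Lpn v25177))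
theorem f829243 : Led Lsl_cf v25474 = v25177 :=
  Lgr Lrot163 (Lpr_gf (f829242 IH) (Lpe (f829241 IH) (Lpe (f670402 IH) (Lpqs (f801505 IH) (Lpe (f669991 IH) (Lpr_ct (f647137 IH) (Lpe (f647130 IH) (Lpe (K1.f25523 IH) (Lpr_bt (f25546 IH) (Lpr_gf (f647066 IH) (Lpr_bf (f827385 IH) (Lpn v25177))))))))))))
theorem f444288 : Led Lsl_ct (LP (LK LD1_c3 LD2_c5 LD3_c60)) = (LP (LK LD1_c6 LD2_c17 LD3_c36)) :=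
  Lre_c IH (LK LD1_c3 LD2_c5 LD3_c60) (LK LD1_c6 LD2_c17 LD3_c36) Lrfl Lrfl
theorem f434069 : Led Lsl_gt (LP (LK LD1_c6 LD2_c17 LD3_c36)) = (LP (LK LD1_c12 LD2_c11 LD3_c38)) :=
  Lre_g IH (LK LD1_c6 LD2_c17 LD3_c36) (LK LD1_c12 LD2_c11 LD3_c38) Lrfl Lrfl
theorem f833507 : Led Lsl_ct v18329 = (LP (LK LD1_c12 LD2_c11 LD3_c38)) :=
  Lgr Lrot63 (Lpr_bt (f833505 IH) (Lpe (f833500 IH) (Lpe (f767360 IH) (Lpr_ct (f829241 IH) (Lpe (f829242 IH) (Lpr_cf (f829243 IH) (Lpe (f827385 IH) (Lpe (f647066 IH) (Lpr_ct (f444288 IH) (Lpr_gt (f434069 IH) (Lpn (LP (LK LD1_c12 LD2_c11 LD3_c38)))))))))))))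
theorem f833509 : Led Lsl_cf v18329 = (LP (LK LD1_c12 LD2_c11 LD3_c38)) :=
  Lgr Lrot11 (Lpr_ct (f833507 IH) (Lpn (LP (LK LD1_c12 LD2_c11 LD3_c38))))
theorem f774284 : Led Lsl_dt (LP (LK LD1_c21 LD2_c17 LD3_c0)) = (LP (LK LD1_c12 LD2_c11 LD3_c38)) :=
  Lre_d IH (LK LD1_c21 LD2_c17 LD3_c0) (LK LD1_c12 LD2_c11 LD3_c38) Lrfl Lrfl
theorem f908395 : Led Lsl_ct (LP (LK LD1_c29 LD2_c56 LD3_c13)) = (LP (LK LD1_c21 LD2_c17 LD3_c0)) :=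
  Lgr Lrot53 (Lpe (f908393 IH) (Lpe (f708876 IH) (Lpr_df (f908390 IH) (Lpe (f908389 IH) (Lpr_df (f766399 IH) (Lpr_ft (f827454 IH) (Lpe (f827455 IH) (Lpr_cf (f833509 IH) (Lpe (f774284 IH) (Lpn (LP (LK LD1_c21 LD2_c17 LD3_c0))))))))))))
theorem f908396 : Led Lsl_ct (LP (LK LD1_c29 LD2_c56 LD3_c13)) = (LP (LK LD1_c21 LD2_c17 LD3_c0)) :=
  Leop (Lpe (f908395 IH) (Lpn (LP (LK LD1_c29 LD2_c56 LD3_c13))))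
theorem seed_2310 : LEOK LG_c (LK LD1_c29 LD2_c56 LD3_c13) :=
  Leoe_c (LK LD1_c29 LD2_c56 LD3_c13) (f908396 IH)
theorem f908394 : Led Lsl_dt (LP (LK LD1_c12 LD2_c11 LD3_c28)) = v39289 :=
  Lgr Lrot42 (Lpr_df (f908390 IH) (Lpn v39289))
theorem f908385 : Led Lsl_af (LP (LK LD1_c9 LD2_c27 LD3_c27)) = v39289 :=
  Lgr Lrot50 (Lpr_et (K58.f110530 IH) (Lpr_at (K57.f704366 IH) (Lpq (K57.f761415 IH) (Lpr_et (f908384 IH) (Lpn v39289)))))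
theorem f908401 : Led Lsl_af (LP (LK LD1_c12 LD2_c11 LD3_c28)) = (LP (LK LD1_c17 LD2_c26 LD3_c28)) :=
  Lgr Lrot117 (Lpr_dt (f908394 IH) (Lpe (f908385 IH) (Lpr_dt (K58.f110531 IH) (Lpn (LP (LK LD1_c17 LD2_c26 LD3_c28))))))
theorem f102068 : Led Lsl_dt (LP (LK LD1_c4 LD2_c44 LD3_c45)) = (LP (LK LD1_c9 LD2_c22 LD3_c9)) :=
  Lre_d IH (LK LD1_c4 LD2_c44 LD3_c45) (LK LD1_c9 LD2_c22 LD3_c9) Lrfl Lrfl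
theorem f128678 : Led Lsl_ct (LP (LK LD1_c17 LD2_c18 LD3_c28)) = (LP (LK LD1_c9 LD2_c22 LD3_c9)) :=
  Lre_c IH (LK LD1_c17 LD2_c18 LD3_c28) (LK LD1_c9 LD2_c22 LD3_c9) Lrfl Lrfl
theorem f128679 : Led Lsl_gt (LP (LK LD1_c27 LD2_c8 LD3_c11)) = (LP (LK LD1_c17 LD2_c18 LD3_c28)) :=
  Lre_g IH (LK LD1_c27 LD2_c8 LD3_c11) (LK LD1_c17 LD2_c18 LD3_c28) Lrfl Lrfl
theorem f76176 : Led Lsl_gt (LP (LK LD1_c6 LD2_c17 LD3_c29)) = (LP (LK LD1_c12 LD2_c11 LD3_c13)) :=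
  Lre_g IH (LK LD1_c6 LD2_c17 LD3_c29) (LK LD1_c12 LD2_c11 LD3_c13) Lrfl Lrfl
theorem f58594 : Led Lsl_dt (LP (LK LD1_c12 LD2_c11 LD3_c30)) = (LP (LK LD1_c6 LD2_c17 LD3_c29)) :=
  Lre_d IH (LK LD1_c12 LD2_c11 LD3_c30) (LK LD1_c6 LD2_c17 LD3_c29) Lrfl Lrfl
theorem f58638 : Led Lsl_ft (LP (LK LD1_c12 LD2_c11 LD3_c30)) = (LP (LK LD1_c6 LD2_c17 LD3_c28)) :=
  Lre_f IH (LK LD1_c12 LD2_c11 LD3_c30) (LK LD1_c6 LD2_c17 LD3_c28) Lrfl Lrfl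
theorem f110536 : Led Lsl_gt (LP (LK LD1_c12 LD2_c11 LD3_c30)) = (LP (LK LD1_c17 LD2_c26 LD3_c28)) :=
  Lgr Lrot5 (Lpr_ft (f58638 IH) (Lpr_at (K3.f74036 IH) (Lpr_gf (K58.f110532 IH) (Lpn (LP (LK LD1_c17 LD2_c26 LD3_c28))))))
theorem f715644 : Led Lsl_cf (LP (LK LD1_c27 LD2_c8 LD3_c11)) = (LP (LK LD1_c17 LD2_c26 LD3_c28)) :=
  Lgr Lrot169 (Lpr_gt (f128679 IH) (Lpr_ct (f128678 IH) (Lpe (f102068 IH) (Lpe (K59.f128669 IH) (Lpe (K51.f128677 IH) (Lpr_cf (K57.f715642 IH) (Lpe (f76176 IH) (Lpe (f58594 IH) (Lpr_gt (f110536 IH) (Lpn (LP (LK LD1_c17 LD2_c26 LD3_c28))))))))))))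
theorem f715646 : Led Lsl_ct (LP (LK LD1_c27 LD2_c8 LD3_c11)) = (LP (LK LD1_c17 LD2_c26 LD3_c28)) :=
  Lgr Lrot59 (Lpr_cf (f715644 IH) (Lpn (LP (LK LD1_c17 LD2_c26 LD3_c28))))
theorem f908403 : Led Lsl_at (LP (LK LD1_c21 LD2_c16 LD3_c51)) = (LP (LK LD1_c27 LD2_c8 LD3_c11)) :=
  Lgr Lrot107 (Lpe (f708876 IH) (Lpr_af (f908401 IH) (Lpe (f715646 IH) (Lpn (LP (LK LD1_c27 LD2_c8 LD3_c11))))))
theorem f908427 : Led Lsl_af (LP (LK LD1_c21 LD2_c16 LD3_c51)) = (LP (LK LD1_c27 LD2_c8 LD3_c11)) :=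
  Lgr Lrot0 (Lpr_at (f908403 IH) (Lpn (LP (LK LD1_c27 LD2_c8 LD3_c11))))
theorem f758979 : Led Lsl_gt (LP (LK LD1_c6 LD2_c18 LD3_c40)) = K58.v17370 :=
  Lgr Lrot5 (Lpr_ft (K2.f67690 IH) (Lpr_at (K58.f67434 IH) (Lpr_gf (K58.f758978 IH) (Lpn K58.v17370))))
theorem f444287 : Led Lsl_bt (LP (LK LD1_c3 LD2_c5 LD3_c60)) = (LP (LK LD1_c1 LD2_c29 LD3_c9)) :=
  Lre_b IH (LK LD1_c3 LD2_c5 LD3_c60) (LK LD1_c1 LD2_c29 LD3_c9) Lrfl Lrfl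
theorem f435818 : Led Lsl_gt (LP (LK LD1_c12 LD2_c11 LD3_c39)) = (LP (LK LD1_c6 LD2_c17 LD3_c36)) :=
  Lre_g IH (LK LD1_c12 LD2_c11 LD3_c39) (LK LD1_c6 LD2_c17 LD3_c36) Lrfl Lrfl
theorem f766401 : Led Lsl_cf (LP (LK LD1_c12 LD2_c11 LD3_c39)) = v18330 :=
  Lgr Lrot160 (Lpr_gt (f435818 IH) (Lpe (f444288 IH) (Lpr_bt (f444287 IH) (Lpr_gt (K32.f25576 IH) (Lpr_ct (K32.f25579 IH) (Lpe (K32.f444283 IH) (Lpe (K32.f67479 IH) (Lpr_bt (K24.f68053 IH) (Lpr_gt (f758979 IH) (Lpr_bf (f766398 IH) (Lpn v18330)))))))))))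
theorem f766403 : Led Lsl_ct (LP (LK LD1_c12 LD2_c11 LD3_c39)) = v18330 :=
  Lgr Lrot59 (Lpr_cf (f766401 IH) (Lpn v18330))
theorem f647063 : Led Lsl_dt (LP (LK LD1_c21 LD2_c17 LD3_c2)) = (LP (LK LD1_c12 LD2_c11 LD3_c39)) :=
  Lre_d IH (LK LD1_c21 LD2_c17 LD3_c2) (LK LD1_c12 LD2_c11 LD3_c39) Lrfl Lrfl
theorem f58299 : Led Lsl_gt (LP (LK LD1_c12 LD2_c11 LD3_c27)) = (LP (LK LD1_c21 LD2_c16 LD3_c32)) :=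
  Lre_g IH (LK LD1_c12 LD2_c11 LD3_c27) (LK LD1_c21 LD2_c16 LD3_c32) Lrfl Lrfl
theorem f908405 : Led Lsl_ft (LP (LK LD1_c12 LD2_c11 LD3_c27)) = (LP (LK LD1_c17 LD2_c26 LD3_c28)) :=
  Lgr Lrot2 (Lpr_gt (f58299 IH) (Lpr_gt (f58304 IH) (Lpr_af (f908401 IH) (Lpn (LP (LK LD1_c17 LD2_c26 LD3_c28))))))
theorem f908412 : Led Lsl_ff (LP (LK LD1_c12 LD2_c11 LD3_c27)) = (LP (LK LD1_c17 LD2_c26 LD3_c28)) :=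
  Lgr Lrot3 (Lpr_ft (f908405 IH) (Lpn (LP (LK LD1_c17 LD2_c26 LD3_c28))))
theorem f443930 : Led Lsl_ct (LP (LK LD1_c12 LD2_c11 LD3_c27)) = (LP (LK LD1_c21 LD2_c16 LD3_c50)) :=
  Lre_c IH (LK LD1_c12 LD2_c11 LD3_c27) (LK LD1_c21 LD2_c16 LD3_c50) Lrfl Lrfl
theorem f908417 : Led Lsl_ft (LP (LK LD1_c21 LD2_c16 LD3_c50)) = (LP (LK LD1_c27 LD2_c8 LD3_c11)) :=
  Lgr Lrot4 (Lpe (f443930 IH) (Lpr_ff (f908412 IH) (Lpe (f715646 IH) (Lpn (LP (LK LD1_c27 LD2_c8 LD3_c11))))))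
theorem f908420 : Led Lsl_dt (LP (LK LD1_c21 LD2_c16 LD3_c50)) = (LP (LK LD1_c29 LD2_c56 LD3_c12)) :=
  Lre_d IH (LK LD1_c21 LD2_c16 LD3_c50) (LK LD1_c29 LD2_c56 LD3_c12) Lrfl Lrfl
theorem f908429 : Led Lsl_cf (LP (LK LD1_c21 LD2_c17 LD3_c2)) = (LP (LK LD1_c29 LD2_c56 LD3_c12)) :=
  Lgr Lrot118 (Lpr_dt (f647063 IH) (Lpr_ct (f766403 IH) (Lpe (f766399 IH) (Lpr_ct (f908389 IH) (Lpe (f908390 IH) (Lpr_ct (f708876 IH) (Lpr_af (f908427 IH) (Lpe (f908417 IH) (Lpr_dt (f908420 IH) (Lpn (LP (LK LD1_c29 LD2_c56 LD3_c12))))))))))))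
theorem f908430 : Led Lsl_ct (LP (LK LD1_c29 LD2_c56 LD3_c12)) = (LP (LK LD1_c21 LD2_c17 LD3_c2)) :=
  Leop (Lpr_cf (f908429 IH) (Lpn (LP (LK LD1_c29 LD2_c56 LD3_c12))))
theorem seed_2311 : LEOK LG_c (LK LD1_c29 LD2_c56 LD3_c12) :=
  Leoe_c (LK LD1_c29 LD2_c56 LD3_c12) (f908430 IH)
def v39290 : LQ := Led Lsl_ft (LP (LK LD1_c9 LD2_c21 LD3_c46))
theorem f908436 : Led Lsl_ft (LP (LK LD1_c9 LD2_c21 LD3_c46)) = v39290 :=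
  Lrfl
theorem f908439 : Led Lsl_ff (LP (LK LD1_c9 LD2_c21 LD3_c46)) = v39290 :=
  Lgr Lrot3 (Lpr_ft (f908436 IH) (Lpn v39290))
theorem f13840 : Led Lsl_at (LP (LK LD1_c9 LD2_c21 LD3_c46)) = (LP (LK LD1_c4 LD2_c47 LD3_c14)) :=
  Lre_a IH (LK LD1_c9 LD2_c21 LD3_c46) (LK LD1_c4 LD2_c47 LD3_c14) Lrfl Lrfl
theorem f908442 : Led Lsl_gf (LP (LK LD1_c9 LD2_c27 LD3_c30)) = v39290 :=
  Lgr Lrot47 (Lpr_gt (K65.f99169 IH) (Lpe (f13840 IH) (Lpr_ff (f908439 IH) (Lpn v39290))))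
theorem f908441 : Led Lsl_dt K50.v13496 = v39290 :=
  Lgr Lrot60 (Lpe (K50.f703302 IH) (Lpe (f13832 IH) (Lpr_ff (f908439 IH) (Lpn v39290))))
theorem f126987 : Led Lsl_dt (LP (LK LD1_c9 LD2_c23 LD3_c52)) = (LP (LK LD1_c4 LD2_c45 LD3_c35)) :=
  Lre_d IH (LK LD1_c9 LD2_c23 LD3_c52) (LK LD1_c4 LD2_c45 LD3_c35) Lrfl Lrfl
theorem f126988 : Led Lsl_ct (LP (LK LD1_c17 LD2_c20 LD3_c47)) = (LP (LK LD1_c9 LD2_c23 LD3_c52)) :=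
  Lre_c IH (LK LD1_c17 LD2_c20 LD3_c47) (LK LD1_c9 LD2_c23 LD3_c52) Lrfl Lrfl
theorem f908444 : Led Lsl_gt (LP (LK LD1_c17 LD2_c26 LD3_c34)) = (LP (LK LD1_c17 LD2_c20 LD3_c47)) :=
  Lgr Lrot150 (Lpe (K65.f101936 IH) (Lpr_gf (f908442 IH) (Lpe (f908441 IH) (Lpe (f703323 IH) (Lpr_ct (K52.f704387 IH) (Lpqs (K52.f715912 IH) (Lpe (K52.f702328 IH) (Lpr_ct (K51.f440600 IH) (Lpe (f126987 IH) (Lpe (f126988 IH) (Lpn (LP (LK LD1_c17 LD2_c20 LD3_c47)))))))))))))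
theorem f908445 : Led Lsl_gt (LP (LK LD1_c17 LD2_c26 LD3_c34)) = (LP (LK LD1_c17 LD2_c20 LD3_c47)) :=
  Leop (Lpe (f908444 IH) (Lpn (LP (LK LD1_c17 LD2_c26 LD3_c34))))
theorem seed_2312 : LEOK LG_g (LK LD1_c17 LD2_c26 LD3_c34) :=
  Leoe_g (LK LD1_c17 LD2_c26 LD3_c34) (f908445 IH)
def v39292 : LQ := Led Lsl_ft (LP (LK LD1_c9 LD2_c21 LD3_c48))
theorem f908461 : Led Lsl_ft (LP (LK LD1_c9 LD2_c21 LD3_c48)) = v39292 :=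
  Lrfl
theorem f908464 : Led Lsl_ff (LP (LK LD1_c9 LD2_c21 LD3_c48)) = v39292 :=
  Lgr Lrot3 (Lpr_ft (f908461 IH) (Lpn v39292))
theorem f908460 : Led Lsl_at (LP (LK LD1_c9 LD2_c21 LD3_c48)) = (LP (LK LD1_c4 LD2_c47 LD3_c30)) :=
  Lre_a IH (LK LD1_c9 LD2_c21 LD3_c48) (LK LD1_c4 LD2_c47 LD3_c30) Lrfl Lrfl
theorem f908467 : Led Lsl_gf (LP (LK LD1_c9 LD2_c28 LD3_c1)) = v39292 :=
  Lgr Lrot47 (Lpr_gt (K52.f152848 IH) (Lpe (f908460 IH) (Lpr_ff (f908464 IH) (Lpn v39292))))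
theorem f908466 : Led Lsl_ct K50.v13497 = v39292 :=
  Lgr Lrot40 (Lpe (K50.f703337 IH) (Lpe (K66.f78032 IH) (Lpr_ff (f908464 IH) (Lpn v39292))))
theorem f758429 : Led Lsl_gf K58.v9658 = K57.v5317 :=
  Lgr Lrot138 (Lpe (K58.f677083 IH) (Lpr_gt (f668923 IH) (Lpe (K49.f495075 IH) (Lpr_et (K49.f495053 IH) (Lpr_gt (K57.f633409 IH) (Lpr_ef (K57.f703883 IH) (Lpr_dt (K57.f758260 IH) (Lpe (K57.f758251 IH) (Lpe (K57.f58494 IH) (Lpr_et (K57.f647047 IH) (Lpn K57.v5317)))))))))))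
theorem f758430 : Led Lsl_gt K58.v9658 = K57.v13158 :=
  Lgr Lrot46 (Lpr_gf (f758429 IH) (Lpq (K57.f758280 IH) (Lpe (K57.f701462 IH) (Lpr_at (K57.f701452 IH) (Lpn K57.v13158)))))
theorem f677084 : Led Lsl_dt K58.v7897 = K58.v9658 :=
  Lgr Lrot42 (Lpr_df (K58.f677083 IH) (Lpn K58.v9658))
theorem f758431 : Led Lsl_gf K59.v7871 = (LP (LK LD1_c9 LD2_c16 LD3_c8)) :=
  Lgr Lrot141 (Lpe (K59.f668823 IH) (Lpr_dt (K58.f668819 IH) (Lpr_gt (K58.f668881 IH) (Lpqs (K49.f674029 IH) (Lpr_df (K57.f668913 IH) (Lpe (K49.f668914 IH) (Lpr_gt (K58.f668907 IH) (Lpr_dt (f677084 IH) (Lpr_gt (f758430 IH) (Lpqs (K58.f758306 IH) (Lpe (K58.f701247 IH) (Lpr_et (K58.f99165 IH) (Lpn (LP (LK LD1_c9 LD2_c16 LD3_c8)))))))))))))))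
theorem f633015 : Led Lsl_df (LP (LK LD1_c6 LD2_c42 LD3_c51)) = K59.v4378 :=
  Lgr Lrot12 (Lpr_bt (K58.f25445 IH) (Lpr_dt (K32.f144071 IH) (Lpr_bt (K59.f633013 IH) (Lpn K59.v4378))))
theorem f25446 : Led Lsl_ct (LP (LK LD1_c12 LD2_c50 LD3_c37)) = (LP (LK LD1_c6 LD2_c42 LD3_c51)) :=
  Lre_c IH (LK LD1_c12 LD2_c50 LD3_c37) (LK LD1_c6 LD2_c42 LD3_c51) Lrfl Lrfl
theorem f25447 : Led Lsl_dt (LP (LK LD1_c21 LD2_c58 LD3_c58)) = (LP (LK LD1_c12 LD2_c50 LD3_c37)) :=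
  Lre_d IH (LK LD1_c21 LD2_c58 LD3_c58) (LK LD1_c12 LD2_c50 LD3_c37) Lrfl Lrfl
theorem f908469 : Led Lsl_gt (LP (LK LD1_c17 LD2_c27 LD3_c31)) = (LP (LK LD1_c21 LD2_c58 LD3_c58)) :=
  Lgr Lrot49 (Lpe (K66.f715918 IH) (Lpr_gf (f908467 IH) (Lpe (f908466 IH) (Lpe (K51.f703349 IH) (Lpr_dt (K58.f99163 IH) (Lpe (f758431 IH) (Lpqs (K59.f770478 IH) (Lpe (f633015 IH) (Lpe (f25446 IH) (Lpe (f25447 IH) (Lpn (LP (LK LD1_c21 LD2_c58 LD3_c58)))))))))))))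
theorem f908470 : Led Lsl_gt (LP (LK LD1_c17 LD2_c27 LD3_c31)) = (LP (LK LD1_c21 LD2_c58 LD3_c58)) :=
  Leop (Lpe (f908469 IH) (Lpn (LP (LK LD1_c17 LD2_c27 LD3_c31))))
theorem seed_2313 : LEOK LG_g (LK LD1_c17 LD2_c27 LD3_c31) :=
  Leoe_g (LK LD1_c17 LD2_c27 LD3_c31) (f908470 IH)
def v39301 : LQ := Led Lsl_gt (LP (LK LD1_c9 LD2_c22 LD3_c2))
theorem f908537 : Led Lsl_gt (LP (LK LD1_c9 LD2_c22 LD3_c2)) = v39301 :=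
  Lrfl
theorem f98918 : Led Lsl_gt (LP (LK LD1_c9 LD2_c26 LD3_c27)) = (LP (LK LD1_c4 LD2_c46 LD3_c51)) :=
  Lre_g IH (LK LD1_c9 LD2_c26 LD3_c27) (LK LD1_c4 LD2_c46 LD3_c51) Lrfl Lrfl
theorem f99032 : Led Lsl_dt (LP (LK LD1_c17 LD2_c24 LD3_c26)) = (LP (LK LD1_c9 LD2_c26 LD3_c27)) :=
  Lre_d IH (LK LD1_c17 LD2_c24 LD3_c26) (LK LD1_c9 LD2_c26 LD3_c27) Lrfl Lrfl
theorem f110697 : Led Lsl_et (LP (LK LD1_c17 LD2_c24 LD3_c26)) = (LP (LK LD1_c27 LD2_c13 LD3_c35)) :=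
  Lre_e IH (LK LD1_c17 LD2_c24 LD3_c26) (LK LD1_c27 LD2_c13 LD3_c35) Lrfl Lrfl
def v7850 : LQ := Led Lsl_gt K58.v1332
theorem f668718 : Led Lsl_gt K58.v1332 = v7850 :=
  Lrfl
theorem f668719 : Led Lsl_gf K58.v2020 = v7850 :=
  Lgr Lrot76 (Lpe (K58.f506921 IH) (Lpr_ff (K58.f506927 IH) (Lpqs (K58.f507041 IH) (Lpr_gt (f668718 IH) (Lpn v7850)))))
theorem f770464 : v7850 = (LP (LK LD1_c1 LD2_c7 LD3_c36)) :=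
  Lefun (Lecon (f668719 IH) (K58.f770442 IH).symm) (Lfl_gt (K57.f494982 IH))
theorem f908540 : Led Lsl_df K59.v18735 = v39301 :=
  Lgr Lrot84 (Lpe (K59.f768254 IH) (Lpq (K58.f770429 IH) (Lpqs (K58.f758522 IH) (Lpe (K57.f668795 IH) (Lpe (K57.f494982 IH) (Lpe (K49.f99105 IH) (Lpq (f770464 IH) (Lpe (f668718 IH) (Lpq (K58.f507041 IH) (Lpr_cf (K59.f649924 IH) (Lpqs (K58.f770364 IH) (Lpe (K58.f703386 IH) (Lpr_dt (K37.f98901 IH) (Lpr_gt (f908537 IH) (Lpn v39301)))))))))))))))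
theorem f775503 : Led Lsl_et (LP (LK LD1_c12 LD2_c32 LD3_c34)) = (LP (LK LD1_c21 LD2_c38 LD3_c34)) :=
  Lre_e IH (LK LD1_c12 LD2_c32 LD3_c34) (LK LD1_c21 LD2_c38 LD3_c34) Lrfl Lrfl
theorem f908541 : Led Lsl_gf (LP (LK LD1_c27 LD2_c13 LD3_c35)) = (LP (LK LD1_c21 LD2_c38 LD3_c34)) :=
  Lgr Lrot141 (Lpe (f110697 IH) (Lpr_dt (f99032 IH) (Lpr_gt (f98918 IH) (Lpe (K37.f98903 IH) (Lpe (K37.f110690 IH) (Lpr_gt (f908537 IH) (Lpe (f908540 IH) (Lpe (K59.f775494 IH) (Lpr_df (K59.f775501 IH) (Lpr_et (f775503 IH) (Lpn (LP (LK LD1_c21 LD2_c38 LD3_c34)))))))))))))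
theorem f908542 : Led Lsl_gt (LP (LK LD1_c21 LD2_c38 LD3_c34)) = (LP (LK LD1_c27 LD2_c13 LD3_c35)) :=
  Leop (Lpr_gf (f908541 IH) (Lpn (LP (LK LD1_c21 LD2_c38 LD3_c34))))
theorem seed_2314 : LEOK LG_g (LK LD1_c21 LD2_c38 LD3_c34) :=
  Leoe_g (LK LD1_c21 LD2_c38 LD3_c34) (f908542 IH)
def v39308 : LQ := Led Lsl_ft (LP (LK LD1_c9 LD2_c22 LD3_c8))
theorem f908585 : Led Lsl_ft (LP (LK LD1_c9 LD2_c22 LD3_c8)) = v39308 :=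
  Lrfl
theorem f102066 : Led Lsl_gt (LP (LK LD1_c9 LD2_c22 LD3_c8)) = (LP (LK LD1_c17 LD2_c18 LD3_c25)) :=
  Lre_g IH (LK LD1_c9 LD2_c22 LD3_c8) (LK LD1_c17 LD2_c18 LD3_c25) Lrfl Lrfl
theorem f128540 : Led Lsl_at (LP (LK LD1_c4 LD2_c45 LD3_c44)) = (LP (LK LD1_c4 LD2_c44 LD3_c41)) :=
  Lgr Lrot100 (Lpr_af (K5.f128538 IH) (Lpn (LP (LK LD1_c4 LD2_c44 LD3_c41))))
theorem f128536 : Led Lsl_ff (LP (LK LD1_c4 LD2_c45 LD3_c43)) = (LP (LK LD1_c4 LD2_c44 LD3_c41)) :=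
  Lgr Lrot3 (Lpr_ft (K5.f128526 IH) (Lpn (LP (LK LD1_c4 LD2_c44 LD3_c41))))
theorem f128555 : Led Lsl_at (LP (LK LD1_c4 LD2_c45 LD3_c43)) = (LP (LK LD1_c4 LD2_c44 LD3_c44)) :=
  Lgr Lrot66 (Lpr_ff (f128536 IH) (Lpe (f128540 IH) (Lpr_ff (K5.f128553 IH) (Lpn (LP (LK LD1_c4 LD2_c44 LD3_c44))))))
theorem f110394 : Led Lsl_et (LP (LK LD1_c9 LD2_c24 LD3_c5)) = (LP (LK LD1_c4 LD2_c45 LD3_c43)) :=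
  Lre_e IH (LK LD1_c9 LD2_c24 LD3_c5) (LK LD1_c4 LD2_c45 LD3_c43) Lrfl Lrfl
theorem f102065 : Led Lsl_et (LP (LK LD1_c4 LD2_c44 LD3_c44)) = (LP (LK LD1_c9 LD2_c22 LD3_c8)) :=
  Lre_e IH (LK LD1_c4 LD2_c44 LD3_c44) (LK LD1_c9 LD2_c22 LD3_c8) Lrfl Lrfl
theorem f440111 : Led Lsl_af (LP (LK LD1_c9 LD2_c24 LD3_c5)) = (LP (LK LD1_c9 LD2_c22 LD3_c8)) :=
  Lgr Lrot50 (Lpr_et (f110394 IH) (Lpr_at (f128555 IH) (Lpr_et (f102065 IH) (Lpn (LP (LK LD1_c9 LD2_c22 LD3_c8))))))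
theorem f440113 : Led Lsl_at (LP (LK LD1_c9 LD2_c24 LD3_c5)) = (LP (LK LD1_c9 LD2_c22 LD3_c8)) :=
  Lgr Lrot100 (Lpr_af (f440111 IH) (Lpn (LP (LK LD1_c9 LD2_c22 LD3_c8))))
theorem f110424 : Led Lsl_ft (LP (LK LD1_c17 LD2_c21 LD3_c16)) = (LP (LK LD1_c9 LD2_c24 LD3_c5)) :=
  Lre_f IH (LK LD1_c17 LD2_c21 LD3_c16) (LK LD1_c9 LD2_c24 LD3_c5) Lrfl Lrfl
theorem f908586 : Led Lsl_af (LP (LK LD1_c17 LD2_c21 LD3_c16)) = v39308 :=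
  Lgr Lrot45 (Lpr_ft (f110424 IH) (Lpr_at (f440113 IH) (Lpr_ft (f908585 IH) (Lpn v39308))))
theorem f908590 : Led Lsl_gt (LP (LK LD1_c17 LD2_c18 LD3_c25)) = (LP (LK LD1_c17 LD2_c21 LD3_c16)) :=
  Lgr Lrot46 (Lpe (f102066 IH) (Lpr_ft (f908585 IH) (Lpe (f908586 IH) (Lpn (LP (LK LD1_c17 LD2_c21 LD3_c16))))))
theorem f908591 : Led Lsl_gt (LP (LK LD1_c17 LD2_c18 LD3_c25)) = (LP (LK LD1_c17 LD2_c21 LD3_c16)) :=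
  Leop (Lpe (f908590 IH) (Lpn (LP (LK LD1_c17 LD2_c18 LD3_c25))))
theorem seed_2315 : LEOK LG_g (LK LD1_c17 LD2_c18 LD3_c25) :=
  Leoe_g (LK LD1_c17 LD2_c18 LD3_c25) (f908591 IH)
def v39364 : LQ := Led Lsl_et (LP (LK LD1_c9 LD2_c22 LD3_c44))
theorem f908864 : Led Lsl_et (LP (LK LD1_c9 LD2_c22 LD3_c44)) = v39364 :=
  Lrfl
theorem f908868 : Led Lsl_ef (LP (LK LD1_c9 LD2_c22 LD3_c44)) = v39364 :=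
  Lgr Lrot88 (Lpr_et (f908864 IH) (Lpn v39364))
theorem f125702 : Led Lsl_et (LP (LK LD1_c6 LD2_c1 LD3_c46)) = (LP (LK LD1_c11 LD2_c48 LD3_c9)) :=
  Lre_e IH (LK LD1_c6 LD2_c1 LD3_c46) (LK LD1_c11 LD2_c48 LD3_c9) Lrfl Lrfl
theorem f908871 : Led Lsl_ct (LP (LK LD1_c11 LD2_c48 LD3_c9)) = v39364 :=
  Lgr Lrot15 (Lpe (f125702 IH) (Lpr_cf (K28.f125698 IH) (Lpr_ef (f908868 IH) (Lpn v39364))))
theorem f672098 : Led Lsl_ct K50.v6363 = K50.v8727 :=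
  Lgr Lrot59 (Lpr_cf (K50.f672097 IH) (Lpn K50.v8727))
theorem f698823 : Led Lsl_ff K50.v6363 = (LP (LK LD1_c9 LD2_c13 LD3_c21)) :=
  Lgr Lrot23 (Lpr_ct (f672098 IH) (Lpr_ft (K66.f698822 IH) (Lpe (K50.f698813 IH) (Lpn (LP (LK LD1_c9 LD2_c13 LD3_c21))))))
theorem f705947 : Led Lsl_at K50.v6363 = (LP (LK LD1_c9 LD2_c31 LD3_c15)) :=
  Lgr Lrot26 (Lpr_ff (f698823 IH) (Lpqs (K50.f705944 IH) (Lpe (K50.f705588 IH) (Lpr_gt (K50.f510382 IH) (Lpn (LP (LK LD1_c9 LD2_c31 LD3_c15)))))))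
theorem f428717 : Led Lsl_af (LP (LK LD1_c9 LD2_c13 LD3_c21)) = (LP (LK LD1_c6 LD2_c1 LD3_c47)) :=
  Lgr Lrot0 (Lpr_at (K50.f158864 IH) (Lpn (LP (LK LD1_c6 LD2_c1 LD3_c47))))
theorem f705949 : Led Lsl_ff (LP (LK LD1_c6 LD2_c1 LD3_c47)) = (LP (LK LD1_c9 LD2_c31 LD3_c15)) :=
  Lgr Lrot30 (Lpe (f428717 IH) (Lpe (f698823 IH) (Lpr_at (f705947 IH) (Lpn (LP (LK LD1_c9 LD2_c31 LD3_c15))))))
theorem f705953 : Led Lsl_ft (LP (LK LD1_c6 LD2_c1 LD3_c47)) = (LP (LK LD1_c9 LD2_c31 LD3_c15)) :=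
  Lgr Lrot48 (Lpr_ff (f705949 IH) (Lpn (LP (LK LD1_c9 LD2_c31 LD3_c15))))
theorem f158933 : Led Lsl_bt (LP (LK LD1_c11 LD2_c48 LD3_c9)) = (LP (LK LD1_c6 LD2_c1 LD3_c47)) :=
  Lre_b IH (LK LD1_c11 LD2_c48 LD3_c9) (LK LD1_c6 LD2_c1 LD3_c47) Lrfl Lrfl
theorem f704463 : Led Lsl_bf (LP (LK LD1_c17 LD2_c26 LD3_c54)) = (LP (LK LD1_c9 LD2_c31 LD3_c15)) :=
  Lgr Lrot24 (Lpr_bt (K50.f704461 IH) (Lpn (LP (LK LD1_c9 LD2_c31 LD3_c15))))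
theorem f705955 : Led Lsl_ff (LP (LK LD1_c11 LD2_c48 LD3_c9)) = (LP (LK LD1_c17 LD2_c26 LD3_c54)) :=
  Lgr Lrot25 (Lpr_bt (f158933 IH) (Lpr_ft (f705953 IH) (Lpe (f704463 IH) (Lpn (LP (LK LD1_c17 LD2_c26 LD3_c54))))))
theorem f704465 : Led Lsl_ct (LP (LK LD1_c9 LD2_c27 LD3_c41)) = (LP (LK LD1_c17 LD2_c26 LD3_c54)) :=
  Lre_c IH (LK LD1_c9 LD2_c27 LD3_c41) (LK LD1_c17 LD2_c26 LD3_c54) Lrfl Lrfl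
theorem f908872 : Led Lsl_ff (LP (LK LD1_c9 LD2_c27 LD3_c41)) = v39364 :=
  Lgr Lrot23 (Lpr_ct (f704465 IH) (Lpe (f705955 IH) (Lpr_ct (f908871 IH) (Lpn v39364))))
theorem f704466 : Led Lsl_bt (LP (LK LD1_c9 LD2_c27 LD3_c41)) = (LP (LK LD1_c17 LD2_c26 LD3_c53)) :=
  Lre_b IH (LK LD1_c9 LD2_c27 LD3_c41) (LK LD1_c17 LD2_c26 LD3_c53) Lrfl Lrfl
theorem f203084 : Led Lsl_ft (LP (LK LD1_c9 LD2_c29 LD3_c56)) = (LP (LK LD1_c5 LD2_c59 LD3_c43)) :=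
  Lgr Lrot75 (Lpe (K28.f58867 IH) (Lpr_ff (K28.f203082 IH) (Lpe (K40.f26534 IH) (Lpn (LP (LK LD1_c5 LD2_c59 LD3_c43))))))
theorem f203134 : Led Lsl_at (LP (LK LD1_c5 LD2_c59 LD3_c43)) = (LP (LK LD1_c9 LD2_c24 LD3_c33)) :=
  Lgr Lrot26 (Lpe (f203084 IH) (Lpr_gt (K59.f203132 IH) (Lpr_gt (K28.f130943 IH) (Lpn (LP (LK LD1_c9 LD2_c24 LD3_c33))))))
theorem f203136 : Led Lsl_bf (LP (LK LD1_c4 LD2_c48 LD3_c44)) = (LP (LK LD1_c9 LD2_c22 LD3_c44)) :=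
  Lgr Lrot81 (Lpr_at (K28.f163227 IH) (Lpr_bt (K7.f26522 IH) (Lpr_at (f203134 IH) (Lpr_bt (K28.f158909 IH) (Lpr_at (K42.f158918 IH) (Lpn (LP (LK LD1_c9 LD2_c22 LD3_c44))))))))
theorem f158482 : Led Lsl_et (LP (LK LD1_c4 LD2_c48 LD3_c44)) = (LP (LK LD1_c9 LD2_c29 LD3_c60)) :=
  Lre_e IH (LK LD1_c4 LD2_c48 LD3_c44) (LK LD1_c9 LD2_c29 LD3_c60) Lrfl Lrfl
theorem f908870 : Led Lsl_bt (LP (LK LD1_c9 LD2_c29 LD3_c60)) = v39364 :=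
  Lgr Lrot119 (Lpe (f158482 IH) (Lpr_bf (f203136 IH) (Lpr_ef (f908868 IH) (Lpn v39364))))
theorem f908874 : Led Lsl_ft (LP (LK LD1_c17 LD2_c26 LD3_c53)) = (LP (LK LD1_c9 LD2_c29 LD3_c60)) :=
  Lgr Lrot75 (Lpe (f704466 IH) (Lpr_ff (f908872 IH) (Lpe (f908870 IH) (Lpn (LP (LK LD1_c9 LD2_c29 LD3_c60))))))
theorem f908875 : Led Lsl_ft (LP (LK LD1_c17 LD2_c26 LD3_c53)) = (LP (LK LD1_c9 LD2_c29 LD3_c60)) :=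
  Leop (Lpe (f908874 IH) (Lpn (LP (LK LD1_c17 LD2_c26 LD3_c53))))
theorem seed_2316 : LEOK LG_f (LK LD1_c17 LD2_c26 LD3_c53) :=
  Leoe_f (LK LD1_c17 LD2_c26 LD3_c53) (f908875 IH)
def v13710 : LQ := Led Lsl_gt (LP (LK LD1_c4 LD2_c47 LD3_c20))
theorem f704445 : Led Lsl_gt (LP (LK LD1_c4 LD2_c47 LD3_c20)) = v13710 :=
  Lrfl
theorem f908876 : Led Lsl_ft (LP (LK LD1_c9 LD2_c27 LD3_c41)) = v39364 :=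
  Lgr Lrot48 (Lpr_ff (f908872 IH) (Lpn v39364))
theorem f158912 : Led Lsl_et (LP (LK LD1_c9 LD2_c24 LD3_c35)) = (LP (LK LD1_c4 LD2_c45 LD3_c61)) :=
  Lre_e IH (LK LD1_c9 LD2_c24 LD3_c35) (LK LD1_c4 LD2_c45 LD3_c61) Lrfl Lrfl
theorem f908865 : Led Lsl_af (LP (LK LD1_c9 LD2_c24 LD3_c35)) = v39364 :=
  Lgr Lrot50 (Lpr_et (f158912 IH) (Lpr_at (K42.f158918 IH) (Lpr_et (f908864 IH) (Lpn v39364))))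
theorem f908879 : v13710 = (LP (LK LD1_c9 LD2_c24 LD3_c35)) :=
  (Llr Lrot46 (Lpe (f704445 IH) (Lpe (K50.f674199 IH) (Lpr_ft (f908876 IH) (Lpe (f908865 IH) (Lpn (LP (LK LD1_c9 LD2_c24 LD3_c35)))))))).symm
theorem f908880 : Led Lsl_gt (LP (LK LD1_c4 LD2_c47 LD3_c20)) = (LP (LK LD1_c9 LD2_c24 LD3_c35)) :=
  Leop (Lpq (f908879 IH) (Lpe (f704445 IH) (Lpn (LP (LK LD1_c4 LD2_c47 LD3_c20)))))
theorem seed_2317 : LEOK LG_g (LK LD1_c4 LD2_c47 LD3_c20) :=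
  Leoe_g (LK LD1_c4 LD2_c47 LD3_c20) (f908880 IH)
theorem f125700 : Led Lsl_et (LP (LK LD1_c11 LD2_c48 LD3_c9)) = (LP (LK LD1_c6 LD2_c1 LD3_c46)) :=
  Lre_e IH (LK LD1_c11 LD2_c48 LD3_c9) (LK LD1_c6 LD2_c1 LD3_c46) Lrfl Lrfl
theorem f908867 : Led Lsl_cf (LP (LK LD1_c11 LD2_c48 LD3_c9)) = v39364 :=
  Lgr Lrot39 (Lpr_et (f125700 IH) (Lpr_ct (K8.f125694 IH) (Lpr_et (f908864 IH) (Lpn v39364))))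
theorem f158934 : Led Lsl_gt (LP (LK LD1_c20 LD2_c50 LD3_c46)) = (LP (LK LD1_c11 LD2_c48 LD3_c9)) :=
  Lre_g IH (LK LD1_c20 LD2_c50 LD3_c46) (LK LD1_c11 LD2_c48 LD3_c9) Lrfl Lrfl
theorem f105107 : Led Lsl_et (LP (LK LD1_c9 LD2_c29 LD3_c60)) = (LP (LK LD1_c4 LD2_c48 LD3_c44)) :=
  Lre_e IH (LK LD1_c9 LD2_c29 LD3_c60) (LK LD1_c4 LD2_c48 LD3_c44) Lrfl Lrfl
theorem f908866 : Led Lsl_bf (LP (LK LD1_c9 LD2_c29 LD3_c60)) = v39364 :=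
  Lgr Lrot96 (Lpr_et (f105107 IH) (Lpr_bt (K28.f158478 IH) (Lpr_et (f908864 IH) (Lpn v39364))))
theorem f644029 : Led Lsl_dt (LP (LK LD1_c9 LD2_c30 LD3_c57)) = (LP (LK LD1_c17 LD2_c32 LD3_c31)) :=
  Lre_d IH (LK LD1_c9 LD2_c30 LD3_c57) (LK LD1_c17 LD2_c32 LD3_c31) Lrfl Lrfl
theorem f705216 : Led Lsl_et (LP (LK LD1_c9 LD2_c30 LD3_c57)) = (LP (LK LD1_c4 LD2_c49 LD3_c6)) :=
  Lre_e IH (LK LD1_c9 LD2_c30 LD3_c57) (LK LD1_c4 LD2_c49 LD3_c6) Lrfl Lrfl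
def v13842 : LQ := Led Lsl_gf (LP (LK LD1_c4 LD2_c49 LD3_c2))
theorem f705200 : Led Lsl_gf (LP (LK LD1_c4 LD2_c49 LD3_c2)) = v13842 :=
  Lrfl
theorem f705218 : Led Lsl_gt (LP (LK LD1_c4 LD2_c49 LD3_c6)) = v13842 :=
  Lgr Lrot5 (Lpr_ft (K50.f705214 IH) (Lpe (K50.f705210 IH) (Lpr_gf (f705200 IH) (Lpn v13842))))
theorem f748303 : v13842 = (LP (LK LD1_c9 LD2_c29 LD3_c60)) :=
  (Llr Lrot131 (Lpe (f705218 IH) (Lpe (f705216 IH) (Lpr_dt (f644029 IH) (Lpr_gf (K55.f748289 IH) (Lpe (K55.f427387 IH) (Lpe (K55.f427386 IH) (Lpe (K55.f427452 IH) (Lpr_dt (K55.f426054 IH) (Lpe (K55.f427450 IH) (Lpe (K8.f137606 IH) (Lpr_et (f158482 IH) (Lpn (LP (LK LD1_c9 LD2_c29 LD3_c60))))))))))))))).symm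
theorem f624353 : Led Lsl_gt (LP (LK LD1_c17 LD2_c19 LD3_c54)) = (LP (LK LD1_c9 LD2_c23 LD3_c25)) :=
  Lre_g IH (LK LD1_c17 LD2_c19 LD3_c54) (LK LD1_c9 LD2_c23 LD3_c25) Lrfl Lrfl
theorem f495023 : Led Lsl_bt (LP (LK LD1_c17 LD2_c20 LD3_c2)) = (LP (LK LD1_c9 LD2_c23 LD3_c25)) :=
  Lre_b IH (LK LD1_c17 LD2_c20 LD3_c2) (LK LD1_c9 LD2_c23 LD3_c25) Lrfl Lrfl
theorem f908891 : Led Lsl_cf (LP (LK LD1_c20 LD2_c50 LD3_c46)) = (LP (LK LD1_c17 LD2_c20 LD3_c2)) :=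
  Lgr Lrot160 (Lpr_gt (f158934 IH) (Lpr_cf (f908867 IH) (Lpe (f908866 IH) (Lpq (f748303 IH) (Lpe (f705200 IH) (Lpr_ct (K54.f634124 IH) (Lpr_gt (K17.f75892 IH) (Lpe (K60.f644047 IH) (Lpr_bt (K60.f705206 IH) (Lpr_gt (f624353 IH) (Lpe (f495023 IH) (Lpn (LP (LK LD1_c17 LD2_c20 LD3_c2))))))))))))))
theorem f908892 : Led Lsl_ct (LP (LK LD1_c17 LD2_c20 LD3_c2)) = (LP (LK LD1_c20 LD2_c50 LD3_c46)) :=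
  Leop (Lpr_cf (f908891 IH) (Lpn (LP (LK LD1_c17 LD2_c20 LD3_c2))))
theorem seed_2318 : LEOK LG_c (LK LD1_c17 LD2_c20 LD3_c2) :=
  Leoe_c (LK LD1_c17 LD2_c20 LD3_c2) (f908892 IH)
def v39365 : LQ := Led Lsl_gf (LP (LK LD1_c9 LD2_c22 LD3_c47))
theorem f908896 : Led Lsl_gf (LP (LK LD1_c9 LD2_c22 LD3_c47)) = v39365 :=
  Lrfl
theorem f113705 : Led Lsl_bt (LP (LK LD1_c4 LD2_c45 LD3_c2)) = (LP (LK LD1_c9 LD2_c22 LD3_c47)) :=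
  Lre_b IH (LK LD1_c4 LD2_c45 LD3_c2) (LK LD1_c9 LD2_c22 LD3_c47) Lrfl Lrfl
theorem f644231 : Led Lsl_bt (LP (LK LD1_c3 LD2_c19 LD3_c23)) = (LP (LK LD1_c6 LD2_c0 LD3_c17)) :=
  Lgr Lrot127 (Lpr_bf (K57.f644213 IH) (Lpn (LP (LK LD1_c6 LD2_c0 LD3_c17))))
theorem f908897 : Led Lsl_bt (LP (LK LD1_c9 LD2_c30 LD3_c4)) = v39365 :=
  Lgr Lrot22 (Lpe (K55.f643111 IH) (Lpe (K45.f615271 IH) (Lpr_cf (K50.f615248 IH) (Lpr_gf (K50.f641461 IH) (Lpqs (K50.f644200 IH) (Lpe (f644231 IH) (Lpr_ct (K57.f146024 IH) (Lpq (K58.f770447 IH) (Lpe (K58.f633162 IH) (Lpe (K66.f113647 IH) (Lpr_bt (f113705 IH) (Lpr_gf (f908896 IH) (Lpn v39365)))))))))))))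
theorem f501993 : Led Lsl_bt (LP (LK LD1_c11 LD2_c44 LD3_c55)) = (LP (LK LD1_c6 LD2_c0 LD3_c13)) :=
  Lre_b IH (LK LD1_c11 LD2_c44 LD3_c55) (LK LD1_c6 LD2_c0 LD3_c13) Lrfl Lrfl
theorem f908899 : Led Lsl_ff (LP (LK LD1_c11 LD2_c44 LD3_c55)) = v39365 :=
  Lgr Lrot25 (Lpr_bt (f501993 IH) (Lpe (K55.f643818 IH) (Lpr_bt (f908897 IH) (Lpn v39365))))
theorem f428613 : Led Lsl_gt (LP (LK LD1_c9 LD2_c22 LD3_c47)) = (LP (LK LD1_c17 LD2_c19 LD3_c13)) :=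
  Lre_g IH (LK LD1_c9 LD2_c22 LD3_c47) (LK LD1_c17 LD2_c19 LD3_c13) Lrfl Lrfl
theorem f908901 : Led Lsl_at (LP (LK LD1_c11 LD2_c44 LD3_c55)) = (LP (LK LD1_c17 LD2_c19 LD3_c13)) :=
  Lgr Lrot26 (Lpr_ff (f908899 IH) (Lpe (f908896 IH) (Lpr_gt (f428613 IH) (Lpn (LP (LK LD1_c17 LD2_c19 LD3_c13))))))
theorem f908902 : Led Lsl_at (LP (LK LD1_c11 LD2_c44 LD3_c55)) = (LP (LK LD1_c17 LD2_c19 LD3_c13)) :=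
  Leop (Lpe (f908901 IH) (Lpn (LP (LK LD1_c11 LD2_c44 LD3_c55))))
theorem seed_2319 : LEOK LG_a (LK LD1_c11 LD2_c44 LD3_c55) :=
  Leoe_a (LK LD1_c11 LD2_c44 LD3_c55) (f908902 IH)
def v39384 : LQ := Led Lsl_dt (LP (LK LD1_c9 LD2_c22 LD3_c57))
theorem f909034 : Led Lsl_dt (LP (LK LD1_c9 LD2_c22 LD3_c57)) = v39384 :=
  Lrfl
theorem f703521 : Led Lsl_dt (LP (LK LD1_c9 LD2_c24 LD3_c46)) = (LP (LK LD1_c4 LD2_c46 LD3_c5)) :=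
  Lre_d IH (LK LD1_c9 LD2_c24 LD3_c46) (LK LD1_c4 LD2_c46 LD3_c5) Lrfl Lrfl
theorem f909037 : Led Lsl_ff (LP (LK LD1_c9 LD2_c24 LD3_c46)) = v39384 :=
  Lgr Lrot19 (Lpr_dt (f703521 IH) (Lpr_ft (K59.f703949 IH) (Lpqs (K59.f771422 IH) (Lpr_dt (f909034 IH) (Lpn v39384)))))
theorem f909039 : Led Lsl_ft (LP (LK LD1_c9 LD2_c24 LD3_c46)) = v39384 :=
  Lgr Lrot48 (Lpr_ff (f909037 IH) (Lpn v39384))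
theorem f110405 : Led Lsl_gt (LP (LK LD1_c9 LD2_c24 LD3_c46)) = (LP (LK LD1_c17 LD2_c21 LD3_c57)) :=
  Lre_g IH (LK LD1_c9 LD2_c24 LD3_c46) (LK LD1_c17 LD2_c21 LD3_c57) Lrfl Lrfl
theorem f495038 : Led Lsl_dt (LP (LK LD1_c9 LD2_c24 LD3_c47)) = (LP (LK LD1_c4 LD2_c46 LD3_c6)) :=
  Lre_d IH (LK LD1_c9 LD2_c24 LD3_c47) (LK LD1_c4 LD2_c46 LD3_c6) Lrfl Lrfl
theorem f909035 : Led Lsl_af (LP (LK LD1_c9 LD2_c24 LD3_c47)) = v39384 :=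
  Lgr Lrot117 (Lpr_dt (f495038 IH) (Lpr_at (K59.f703952 IH) (Lpqs (K59.f771422 IH) (Lpr_dt (f909034 IH) (Lpn v39384)))))
theorem f909040 : Led Lsl_gt (LP (LK LD1_c17 LD2_c21 LD3_c57)) = (LP (LK LD1_c9 LD2_c24 LD3_c47)) :=
  Lgr Lrot46 (Lpe (f110405 IH) (Lpr_ft (f909039 IH) (Lpe (f909035 IH) (Lpn (LP (LK LD1_c9 LD2_c24 LD3_c47))))))
theorem f909041 : Led Lsl_gt (LP (LK LD1_c17 LD2_c21 LD3_c57)) = (LP (LK LD1_c9 LD2_c24 LD3_c47)) :=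
  Leop (Lpe (f909040 IH) (Lpn (LP (LK LD1_c17 LD2_c21 LD3_c57))))
theorem seed_2320 : LEOK LG_g (LK LD1_c17 LD2_c21 LD3_c57) :=
  Leoe_g (LK LD1_c17 LD2_c21 LD3_c57) (f909041 IH)
def v39386 : LQ := Led Lsl_ft (LP (LK LD1_c9 LD2_c22 LD3_c58))
theorem f909048 : Led Lsl_ft (LP (LK LD1_c9 LD2_c22 LD3_c58)) = v39386 :=
  Lrfl
theorem f103183 : Led Lsl_gt (LP (LK LD1_c9 LD2_c22 LD3_c58)) = (LP (LK LD1_c17 LD2_c19 LD3_c24)) :=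
  Lre_g IH (LK LD1_c9 LD2_c22 LD3_c58) (LK LD1_c17 LD2_c19 LD3_c24) Lrfl Lrfl
theorem f133176 : Led Lsl_dt (LP (LK LD1_c27 LD2_c9 LD3_c4)) = (LP (LK LD1_c17 LD2_c19 LD3_c19)) :=
  Lre_d IH (LK LD1_c27 LD2_c9 LD3_c4) (LK LD1_c17 LD2_c19 LD3_c19) Lrfl Lrfl
theorem f125755 : Led Lsl_dt (LP (LK LD1_c9 LD2_c24 LD3_c38)) = (LP (LK LD1_c17 LD2_c21 LD3_c50)) :=
  Lre_d IH (LK LD1_c9 LD2_c24 LD3_c38) (LK LD1_c17 LD2_c21 LD3_c50) Lrfl Lrfl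
theorem f133177 : Led Lsl_bf (LP (LK LD1_c27 LD2_c9 LD3_c4)) = (LP (LK LD1_c17 LD2_c21 LD3_c50)) :=
  Lgr Lrot93 (Lpr_dt (f133176 IH) (Lpr_bt (K5.f133168 IH) (Lpr_dt (f125755 IH) (Lpn (LP (LK LD1_c17 LD2_c21 LD3_c50))))))
theorem f133185 : Led Lsl_bt (LP (LK LD1_c27 LD2_c9 LD3_c4)) = (LP (LK LD1_c17 LD2_c21 LD3_c50)) :=
  Lgr Lrot127 (Lpr_bf (f133177 IH) (Lpn (LP (LK LD1_c17 LD2_c21 LD3_c50))))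
theorem f133187 : Led Lsl_at (LP (LK LD1_c17 LD2_c19 LD3_c22)) = (LP (LK LD1_c27 LD2_c9 LD3_c4)) :=
  Lre_a IH (LK LD1_c17 LD2_c19 LD3_c22) (LK LD1_c27 LD2_c9 LD3_c4) Lrfl Lrfl
theorem f133188 : Led Lsl_bt (LP (LK LD1_c9 LD2_c22 LD3_c58)) = (LP (LK LD1_c17 LD2_c19 LD3_c22)) :=
  Lre_b IH (LK LD1_c9 LD2_c22 LD3_c58) (LK LD1_c17 LD2_c19 LD3_c22) Lrfl Lrfl
theorem f133189 : Led Lsl_at (LP (LK LD1_c17 LD2_c21 LD3_c50)) = (LP (LK LD1_c9 LD2_c24 LD3_c43)) :=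
  Lre_a IH (LK LD1_c17 LD2_c21 LD3_c50) (LK LD1_c9 LD2_c24 LD3_c43) Lrfl Lrfl
theorem f133190 : Led Lsl_bt (LP (LK LD1_c9 LD2_c24 LD3_c43)) = (LP (LK LD1_c4 LD2_c46 LD3_c7)) :=
  Lre_b IH (LK LD1_c9 LD2_c24 LD3_c43) (LK LD1_c4 LD2_c46 LD3_c7) Lrfl Lrfl
theorem f133191 : Led Lsl_af (LP (LK LD1_c9 LD2_c22 LD3_c58)) = (LP (LK LD1_c4 LD2_c46 LD3_c7)) :=
  Lgr Lrot36 (Lpr_bt (f133188 IH) (Lpr_at (f133187 IH) (Lpr_bt (f133185 IH) (Lpr_at (f133189 IH) (Lpr_bt (f133190 IH) (Lpn (LP (LK LD1_c4 LD2_c46 LD3_c7))))))))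
theorem f133194 : Led Lsl_ft (LP (LK LD1_c9 LD2_c24 LD3_c50)) = (LP (LK LD1_c4 LD2_c46 LD3_c7)) :=
  Lre_f IH (LK LD1_c9 LD2_c24 LD3_c50) (LK LD1_c4 LD2_c46 LD3_c7) Lrfl Lrfl
theorem f909049 : Led Lsl_af (LP (LK LD1_c9 LD2_c24 LD3_c50)) = v39386 :=
  Lgr Lrot45 (Lpr_ft (f133194 IH) (Lpe (f133191 IH) (Lpr_ft (f909048 IH) (Lpn v39386))))
theorem f909052 : Led Lsl_gt (LP (LK LD1_c17 LD2_c19 LD3_c24)) = (LP (LK LD1_c9 LD2_c24 LD3_c50)) :=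
  Lgr Lrot46 (Lpe (f103183 IH) (Lpr_ft (f909048 IH) (Lpe (f909049 IH) (Lpn (LP (LK LD1_c9 LD2_c24 LD3_c50))))))
theorem f909053 : Led Lsl_gt (LP (LK LD1_c17 LD2_c19 LD3_c24)) = (LP (LK LD1_c9 LD2_c24 LD3_c50)) :=
  Leop (Lpe (f909052 IH) (Lpn (LP (LK LD1_c17 LD2_c19 LD3_c24))))
theorem seed_2321 : LEOK LG_g (LK LD1_c17 LD2_c19 LD3_c24) :=
  Leoe_g (LK LD1_c17 LD2_c19 LD3_c24) (f909053 IH)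
theorem f909051 : Led Lsl_ff (LP (LK LD1_c9 LD2_c22 LD3_c58)) = v39386 :=
  Lgr Lrot3 (Lpr_ft (f909048 IH) (Lpn v39386))
theorem f133179 : Led Lsl_at (LP (LK LD1_c27 LD2_c9 LD3_c4)) = (LP (LK LD1_c17 LD2_c19 LD3_c22)) :=
  Lre_a IH (LK LD1_c27 LD2_c9 LD3_c4) (LK LD1_c17 LD2_c19 LD3_c22) Lrfl Lrfl
theorem f133180 : Led Lsl_bt (LP (LK LD1_c17 LD2_c19 LD3_c22)) = (LP (LK LD1_c9 LD2_c22 LD3_c58)) :=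
  Lre_b IH (LK LD1_c17 LD2_c19 LD3_c22) (LK LD1_c9 LD2_c22 LD3_c58) Lrfl Lrfl
theorem f133181 : Led Lsl_at (LP (LK LD1_c9 LD2_c24 LD3_c43)) = (LP (LK LD1_c17 LD2_c21 LD3_c50)) :=
  Lre_a IH (LK LD1_c9 LD2_c24 LD3_c43) (LK LD1_c17 LD2_c21 LD3_c50) Lrfl Lrfl
theorem f133182 : Led Lsl_bt (LP (LK LD1_c4 LD2_c46 LD3_c7)) = (LP (LK LD1_c9 LD2_c24 LD3_c43)) :=
  Lre_b IH (LK LD1_c4 LD2_c46 LD3_c7) (LK LD1_c9 LD2_c24 LD3_c43) Lrfl Lrfl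
theorem f133183 : Led Lsl_at (LP (LK LD1_c9 LD2_c22 LD3_c58)) = (LP (LK LD1_c4 LD2_c46 LD3_c7)) :=
  Lgr Lrot67 (Lpe (f133180 IH) (Lpe (f133179 IH) (Lpr_bf (f133177 IH) (Lpe (f133181 IH) (Lpe (f133182 IH) (Lpn (LP (LK LD1_c4 LD2_c46 LD3_c7))))))))
theorem f133203 : Led Lsl_ft (LP (LK LD1_c4 LD2_c46 LD3_c7)) = (LP (LK LD1_c9 LD2_c24 LD3_c50)) :=
  Lre_f IH (LK LD1_c4 LD2_c46 LD3_c7) (LK LD1_c9 LD2_c24 LD3_c50) Lrfl Lrfl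
theorem f909054 : Led Lsl_at (LP (LK LD1_c9 LD2_c24 LD3_c50)) = v39386 :=
  Lgr Lrot66 (Lpe (f133203 IH) (Lpe (f133183 IH) (Lpr_ff (f909051 IH) (Lpn v39386))))
theorem f909057 : Led Lsl_gt (LP (LK LD1_c9 LD2_c24 LD3_c48)) = v39386 :=
  Lgr Lrot46 (Lpe (K58.f441952 IH) (Lpr_ft (f133203 IH) (Lpr_at (f909054 IH) (Lpn v39386))))
theorem f441953 : Led Lsl_dt (LP (LK LD1_c17 LD2_c21 LD3_c60)) = (LP (LK LD1_c9 LD2_c24 LD3_c48)) :=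
  Lre_d IH (LK LD1_c17 LD2_c21 LD3_c60) (LK LD1_c9 LD2_c24 LD3_c48) Lrfl Lrfl
theorem f61899 : Led Lsl_dt (LP (LK LD1_c4 LD2_c45 LD3_c8)) = (LP (LK LD1_c9 LD2_c22 LD3_c58)) :=
  Lre_d IH (LK LD1_c4 LD2_c45 LD3_c8) (LK LD1_c9 LD2_c22 LD3_c58) Lrfl Lrfl
theorem f909050 : Led Lsl_df K58.v13541 = v39386 :=
  Lgr Lrot78 (Lpe (K58.f703514 IH) (Lpr_dt (f61899 IH) (Lpr_ft (f909048 IH) (Lpn v39386))))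
theorem f708890 : Led Lsl_ct (LP (LK LD1_c12 LD2_c11 LD3_c36)) = (LP (LK LD1_c6 LD2_c17 LD3_c35)) :=
  Lre_c IH (LK LD1_c12 LD2_c11 LD3_c36) (LK LD1_c6 LD2_c17 LD3_c35) Lrfl Lrfl
theorem f909058 : Led Lsl_gf (LP (LK LD1_c17 LD2_c21 LD3_c60)) = (LP (LK LD1_c12 LD2_c11 LD3_c36)) :=
  Lgr Lrot144 (Lpr_dt (f441953 IH) (Lpr_gt (f909057 IH) (Lpe (f909050 IH) (Lpe (K58.f703517 IH) (Lpr_df (K59.f703527 IH) (Lpe (K59.f703536 IH) (Lpr_df (K59.f704023 IH) (Lpq (K59.f770536 IH) (Lpr_gf (K58.f768284 IH) (Lpq (K58.f770517 IH) (Lpe (f708890 IH) (Lpn (LP (LK LD1_c12 LD2_c11 LD3_c36))))))))))))))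
theorem f909059 : Led Lsl_gt (LP (LK LD1_c12 LD2_c11 LD3_c36)) = (LP (LK LD1_c17 LD2_c21 LD3_c60)) :=
  Leop (Lpr_gf (f909058 IH) (Lpn (LP (LK LD1_c12 LD2_c11 LD3_c36))))
theorem seed_2322 : LEOK LG_g (LK LD1_c12 LD2_c11 LD3_c36) :=
  Leoe_g (LK LD1_c12 LD2_c11 LD3_c36) (f909059 IH)
def v25801 : LQ := Led Lsl_ct K59.v5883
theorem f830476 : Led Lsl_ct K59.v5883 = v25801 :=
  Lrfl
theorem f830479 : Led Lsl_ff (LP (LK LD1_c12 LD2_c11 LD3_c36)) = v25801 :=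
  Lgr Lrot23 (Lpr_ct (f708890 IH) (Lpqs (K59.f774065 IH) (Lpe (K59.f768270 IH) (Lpr_ct (f830476 IH) (Lpn v25801)))))
theorem f830481 : Led Lsl_ft (LP (LK LD1_c12 LD2_c11 LD3_c36)) = v25801 :=
  Lgr Lrot48 (Lpr_ff (f830479 IH) (Lpn v25801))
theorem f768279 : Led Lsl_af K59.v5883 = K59.v18742 :=
  Lgr Lrot45 (Lpr_ft (K59.f768269 IH) (Lpe (K59.f768268 IH) (Lpr_ft (K59.f768278 IH) (Lpn K59.v18742))))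
theorem f668802 : Led Lsl_ct (LP (LK LD1_c17 LD2_c12 LD3_c5)) = (LP (LK LD1_c9 LD2_c16 LD3_c61)) :=
  Lre_c IH (LK LD1_c17 LD2_c12 LD3_c5) (LK LD1_c9 LD2_c16 LD3_c61) Lrfl Lrfl
theorem f830477 : Led Lsl_af (LP (LK LD1_c17 LD2_c12 LD3_c5)) = v25801 :=
  Lgr Lrot68 (Lpr_ct (f668802 IH) (Lpqs (K59.f774064 IH) (Lpe (f768279 IH) (Lpr_ct (f830476 IH) (Lpn v25801)))))
theorem f909061 : Led Lsl_gt (LP (LK LD1_c17 LD2_c21 LD3_c60)) = (LP (LK LD1_c17 LD2_c12 LD3_c5)) :=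
  Lgr Lrot46 (Lpr_gf (f909058 IH) (Lpr_ft (f830481 IH) (Lpe (f830477 IH) (Lpn (LP (LK LD1_c17 LD2_c12 LD3_c5))))))
theorem f909062 : Led Lsl_gt (LP (LK LD1_c17 LD2_c21 LD3_c60)) = (LP (LK LD1_c17 LD2_c12 LD3_c5)) :=
  Leop (Lpe (f909061 IH) (Lpn (LP (LK LD1_c17 LD2_c21 LD3_c60))))
theorem seed_2323 : LEOK LG_g (LK LD1_c17 LD2_c21 LD3_c60) :=
  Leoe_g (LK LD1_c17 LD2_c21 LD3_c60) (f909062 IH)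
def v39390 : LQ := Led Lsl_ft (LP (LK LD1_c9 LD2_c22 LD3_c60))
theorem f909082 : Led Lsl_ft (LP (LK LD1_c9 LD2_c22 LD3_c60)) = v39390 :=
  Lrfl
def v39388 : LQ := Led Lsl_gt (LP (LK LD1_c9 LD2_c22 LD3_c60))
theorem f909073 : Led Lsl_gt (LP (LK LD1_c9 LD2_c22 LD3_c60)) = v39388 :=
  Lrfl
theorem f909083 : Led Lsl_af (LP (LK LD1_c9 LD2_c25 LD3_c0)) = v39390 :=
  Lgr Lrot45 (Lpr_ft (f79562 IH) (Lpe (f435072 IH) (Lpr_ft (f909082 IH) (Lpn v39390))))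
theorem f909086 : Led Lsl_gt v39388 = (LP (LK LD1_c9 LD2_c25 LD3_c0)) :=
  Lgr Lrot46 (Lpe (f909073 IH) (Lpr_ft (f909082 IH) (Lpe (f909083 IH) (Lpn (LP (LK LD1_c9 LD2_c25 LD3_c0))))))
theorem f435078 : Led Lsl_ct (LP (LK LD1_c9 LD2_c25 LD3_c0)) = (LP (LK LD1_c4 LD2_c46 LD3_c14)) :=
  Lre_c IH (LK LD1_c9 LD2_c25 LD3_c0) (LK LD1_c4 LD2_c46 LD3_c14) Lrfl Lrfl
theorem f133198 : Led Lsl_ct (LP (LK LD1_c4 LD2_c46 LD3_c8)) = (LP (LK LD1_c2 LD2_c21 LD3_c7)) :=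
  Lre_c IH (LK LD1_c4 LD2_c46 LD3_c8) (LK LD1_c2 LD2_c21 LD3_c7) Lrfl Lrfl
def v38795 : LQ := Led Lsl_gt (LP (LK LD1_c9 LD2_c15 LD3_c52))
theorem f904557 : Led Lsl_gt (LP (LK LD1_c9 LD2_c15 LD3_c52)) = v38795 :=
  Lrfl
theorem f909088 : Led Lsl_cf v39388 = v38795 :=
  Lgr Lrot169 (Lpr_gt (f909086 IH) (Lpr_ct (f435078 IH) (Lpe (K59.f133199 IH) (Lpe (f133198 IH) (Lpe (K59.f703515 IH) (Lpq (K59.f771421 IH) (Lpe (K58.f770910 IH) (Lpq (K59.f774152 IH) (Lpe (K59.f701235 IH) (Lpe (K58.f77929 IH) (Lpr_gt (f904557 IH) (Lpn v38795))))))))))))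
theorem f91338 : Led Lsl_ct (LP (LK LD1_c4 LD2_c45 LD3_c9)) = (LP (LK LD1_c9 LD2_c22 LD3_c60)) :=
  Lre_c IH (LK LD1_c4 LD2_c45 LD3_c9) (LK LD1_c9 LD2_c22 LD3_c60) Lrfl Lrfl
def v23928 : LQ := Led Lsl_gt K35.v4305
theorem f821364 : Led Lsl_gt K35.v4305 = v23928 :=
  Lrfl
theorem f120120 : Led Lsl_at (LP (LK LD1_c1 LD2_c6 LD3_c44)) = (LP (LK LD1_c0 LD2_c41 LD3_c37)) :=
  Lgr Lrot100 (Lpr_af (K4.f120117 IH) (Lpn (LP (LK LD1_c0 LD2_c41 LD3_c37))))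
theorem f131565 : Led Lsl_gf (LP (LK LD1_c1 LD2_c6 LD3_c42)) = (LP (LK LD1_c0 LD2_c41 LD3_c36)) :=
  Lgr Lrot47 (Lpr_gt (K5.f131559 IH) (Lpe (f120120 IH) (Lpr_ff (K51.f120164 IH) (Lpn (LP (LK LD1_c0 LD2_c41 LD3_c36))))))
def v8314 : LQ := Led Lsl_et K51.v1977
theorem f670755 : Led Lsl_et K51.v1977 = v8314 :=
  Lrfl
def v8297 : LQ := Led Lsl_et K51.v1969
theorem f670708 : Led Lsl_et K51.v1969 = v8297 :=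
  Lrfl
theorem f707824 : v8314 = v8297 :=
  Lefun (Lecon (f670755 IH) (K51.f707785 IH).symm) (f670708 IH)
theorem f670757 : Led Lsl_ef K51.v1977 = v8314 :=
  Lgr Lrot88 (Lpr_et (f670755 IH) (Lpn v8314))
theorem f506717 : Led Lsl_af K51.v497 = K51.v1977 :=
  Lgr Lrot45 (Lpr_ft (K51.f506714 IH) (Lpe (K51.f506710 IH) (Lpr_ft (K51.f506716 IH) (Lpn K51.v1977))))
theorem f670758 : Led Lsl_at K66.v3088 = v8314 :=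
  Lgr Lrot80 (Lpe (K66.f623813 IH) (Lpr_af (f506717 IH) (Lpr_ef (f670757 IH) (Lpn v8314))))
def v9834 : LQ := Led Lsl_ft K66.v3088
theorem f677739 : Led Lsl_ft K66.v3088 = v9834 :=
  Lrfl
theorem f677740 : Led Lsl_ff K66.v3088 = v9834 :=
  Lgr Lrot3 (Lpr_ft (f677739 IH) (Lpn v9834))
theorem f670710 : Led Lsl_ef K51.v1969 = v8297 :=
  Lgr Lrot88 (Lpr_et (f670708 IH) (Lpn v8297))
def v5439 : LQ := Led Lsl_et (LP (LK LD1_c3 LD2_c7 LD3_c54))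
theorem f647659 : Led Lsl_et (LP (LK LD1_c3 LD2_c7 LD3_c54)) = v5439 :=
  Lrfl
theorem f670711 : Led Lsl_dt v5439 = v8297 :=
  Lgr Lrot77 (Lpe (f647659 IH) (Lpe (K51.f443698 IH) (Lpe (K51.f110454 IH) (Lpr_df (K51.f506671 IH) (Lpr_ef (f670710 IH) (Lpn v8297))))))
theorem f647660 : Led Lsl_ef (LP (LK LD1_c3 LD2_c7 LD3_c54)) = v5439 :=
  Lgr Lrot88 (Lpr_et (f647659 IH) (Lpn v5439))
theorem f649019 : Led Lsl_df (LP (LK LD1_c3 LD2_c12 LD3_c23)) = K51.v5715 :=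
  Lgr Lrot78 (Lpr_ft (K5.f128460 IH) (Lpr_dt (K51.f82341 IH) (Lpr_ft (K51.f649017 IH) (Lpn K51.v5715))))
theorem f113111 : Led Lsl_et (LP (LK LD1_c0 LD2_c30 LD3_c31)) = (LP (LK LD1_c1 LD2_c6 LD3_c41)) :=
  Lre_e IH (LK LD1_c0 LD2_c30 LD3_c31) (LK LD1_c1 LD2_c6 LD3_c41) Lrfl Lrfl
theorem f128431 : Led Lsl_et (LP (LK LD1_c2 LD2_c19 LD3_c6)) = (LP (LK LD1_c3 LD2_c12 LD3_c22)) :=
  Lgr Lrot71 (Lpe (K5.f113407 IH) (Lpe (f113111 IH) (Lpr_df (K5.f128403 IH) (Lpe (K5.f82340 IH) (Lpe (K51.f128430 IH) (Lpn (LP (LK LD1_c3 LD2_c12 LD3_c22))))))))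
theorem f649020 : Led Lsl_ef K51.v5463 = K51.v5715 :=
  Lgr Lrot21 (Lpe (K51.f647765 IH) (Lpr_et (K5.f126942 IH) (Lpr_ft (K5.f126931 IH) (Lpr_et (f128431 IH) (Lpr_ft (K51.f649017 IH) (Lpn K51.v5715))))))
theorem f670093 : Led Lsl_dt (LP (LK LD1_c6 LD2_c19 LD3_c55)) = K51.v8122 :=
  Lgr Lrot42 (Lpr_df (K51.f670092 IH) (Lpn K51.v8122))
theorem f670712 : Led Lsl_gt K51.v8122 = v8297 :=
  Lgr Lrot139 (Lpe (f670093 IH) (Lpr_gf (K51.f647769 IH) (Lpr_ef (f649020 IH) (Lpe (f649019 IH) (Lpe (K51.f440101 IH) (Lpr_df (K51.f647322 IH) (Lpr_et (K51.f647639 IH) (Lpe (K51.f647634 IH) (Lpr_ef (f647660 IH) (Lpr_dt (f670711 IH) (Lpn v8297)))))))))))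
theorem f707897 : Led Lsl_gt v9834 = K51.v8122 :=
  Lgr Lrot5 (Lpe (f677740 IH) (Lpr_at (f670758 IH) (Lpqs (f707824 IH) (Lpe (f670712 IH) (Lpn K51.v8122)))))
def v18301 : LQ := Led Lsl_ft (LP (LK LD1_c6 LD2_c28 LD3_c16))
theorem f766194 : Led Lsl_ft (LP (LK LD1_c6 LD2_c28 LD3_c16)) = v18301 :=
  Lrfl
def v5695 : LQ := Led Lsl_ft (LP (LK LD1_c3 LD2_c12 LD3_c5))
theorem f648943 : Led Lsl_ft (LP (LK LD1_c3 LD2_c12 LD3_c5)) = v5695 :=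
  Lrfl
theorem f648946 : Led Lsl_ff (LP (LK LD1_c3 LD2_c12 LD3_c5)) = v5695 :=
  Lgr Lrot3 (Lpr_ft (f648943 IH) (Lpn v5695))
theorem f707816 : K51.v497 = v5695 :=
  Lefun (Lecon (Lfl_ff (K51.f506715 IH)) (K57.f707781 IH)) (f648943 IH)
theorem f766196 : Led Lsl_ef v9834 = v18301 :=
  Lgr Lrot21 (Lpe (f677740 IH) (Lpe (K66.f623814 IH) (Lpqs (f707816 IH) (Lpe (f648946 IH) (Lpr_et (K57.f632626 IH) (Lpr_ft (f766194 IH) (Lpn v18301)))))))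
theorem f821367 : Led Lsl_dt v18301 = v23928 :=
  Lgr Lrot37 (Lpe (f766196 IH) (Lpr_gt (f707897 IH) (Lpe (K51.f670092 IH) (Lpr_gt (K51.f104223 IH) (Lpe (K51.f104228 IH) (Lpr_et (K4.f104219 IH) (Lpe (f131565 IH) (Lpe (K57.f131572 IH) (Lpr_dt (K35.f632537 IH) (Lpr_gt (f821364 IH) (Lpn v23928)))))))))))
theorem f632625 : Led Lsl_df (LP (LK LD1_c6 LD2_c28 LD3_c16)) = K57.v4319 :=
  Lgr Lrot38 (Lpr_dt (K57.f632622 IH) (Lpn K57.v4319))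
theorem f821369 : Led Lsl_ff K57.v4319 = v23928 :=
  Lgr Lrot19 (Lpe (f632625 IH) (Lpr_ft (f766194 IH) (Lpr_dt (f821367 IH) (Lpn v23928))))
theorem f649123 : Led Lsl_af (LP (LK LD1_c3 LD2_c12 LD3_c34)) = K57.v5736 :=
  Lgr Lrot0 (Lpr_at (K57.f649122 IH) (Lpn K57.v5736))
theorem f715830 : Led Lsl_af K57.v4319 = K57.v5737 :=
  Lgr Lrot117 (Lpe (f632625 IH) (Lpq (K57.f707813 IH) (Lpe (f649123 IH) (Lpr_dt (K57.f649129 IH) (Lpn K57.v5737)))))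
theorem f715831 : Led Lsl_at K57.v4319 = K57.v5737 :=
  Lgr Lrot100 (Lpr_af (f715830 IH) (Lpn K57.v5737))
theorem f821371 : Led Lsl_gf K60.v4321 = v23928 :=
  Lgr Lrot47 (Lpr_gt (K60.f649131 IH) (Lpe (f715831 IH) (Lpr_ff (f821369 IH) (Lpn v23928))))
theorem f909091 : Led Lsl_bf v23928 = v38795 :=
  Lgr Lrot156 (Lpe (f821371 IH) (Lpe (K60.f632637 IH) (Lpr_ct (K32.f150515 IH) (Lpe (K48.f153727 IH) (Lpe (K32.f416814 IH) (Lpr_bt (K58.f416830 IH) (Lpq (K59.f774038 IH) (Lpe (K59.f703523 IH) (Lpr_ct (f91338 IH) (Lpr_gt (f909073 IH) (Lpr_cf (f909088 IH) (Lpn v38795))))))))))))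
theorem f909092 : Led Lsl_bt v23928 = v38795 :=
  Lgr Lrot127 (Lpr_bf (f909091 IH) (Lpn v38795))
theorem f821370 : Led Lsl_ft K57.v4319 = v23928 :=
  Lgr Lrot48 (Lpr_ff (f821369 IH) (Lpn v23928))
theorem f909093 : Led Lsl_ff v23940 = v38795 :=
  Lgr Lrot25 (Lpe (f821436 IH) (Lpr_ft (f821370 IH) (Lpr_bt (f909092 IH) (Lpn v38795))))
theorem f909089 : Led Lsl_ct v39388 = v38795 :=
  Lgr Lrot59 (Lpr_cf (f909088 IH) (Lpn v38795))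
theorem f909094 : Led Lsl_ft (LP (LK LD1_c9 LD2_c24 LD3_c59)) = v39388 :=
  Lgr Lrot4 (Lpr_cf (f821440 IH) (Lpr_ff (f909093 IH) (Lpe (f909089 IH) (Lpn v39388))))
theorem f79522 : Led Lsl_gt (LP (LK LD1_c4 LD2_c46 LD3_c13)) = (LP (LK LD1_c9 LD2_c24 LD3_c58)) :=
  Lre_g IH (LK LD1_c4 LD2_c46 LD3_c13) (LK LD1_c9 LD2_c24 LD3_c58) Lrfl Lrfl
theorem f909095 : Led Lsl_af (LP (LK LD1_c9 LD2_c24 LD3_c58)) = v39388 :=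
  Lgr Lrot31 (Lpe (f79522 IH) (Lpe (f79525 IH) (Lpr_ft (f909094 IH) (Lpn v39388))))
theorem f909098 : Led Lsl_ft (LP (LK LD1_c9 LD2_c24 LD3_c58)) = (LP (LK LD1_c17 LD2_c19 LD3_c27)) :=
  Lgr Lrot101 (Lpr_af (f909095 IH) (Lpe (f909094 IH) (Lpe (f904567 IH) (Lpn (LP (LK LD1_c17 LD2_c19 LD3_c27))))))
theorem f909099 : Led Lsl_ft (LP (LK LD1_c9 LD2_c24 LD3_c58)) = (LP (LK LD1_c17 LD2_c19 LD3_c27)) :=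
  Leop (Lpe (f909098 IH) (Lpn (LP (LK LD1_c9 LD2_c24 LD3_c58))))
theorem seed_2324 : LEOK LG_f (LK LD1_c9 LD2_c24 LD3_c58) :=
  Leoe_f (LK LD1_c9 LD2_c24 LD3_c58) (f909099 IH)
def v39408 : LQ := Led Lsl_ct (LP (LK LD1_c9 LD2_c23 LD3_c11))
theorem f909203 : Led Lsl_ct (LP (LK LD1_c9 LD2_c23 LD3_c11)) = v39408 :=
  Lrfl
theorem f909205 : Led Lsl_cf (LP (LK LD1_c9 LD2_c23 LD3_c11)) = v39408 :=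
  Lgr Lrot11 (Lpr_ct (f909203 IH) (Lpn v39408))
theorem f102132 : Led Lsl_dt (LP (LK LD1_c9 LD2_c23 LD3_c11)) = (LP (LK LD1_c4 LD2_c45 LD3_c15)) :=
  Lre_d IH (LK LD1_c9 LD2_c23 LD3_c11) (LK LD1_c4 LD2_c45 LD3_c15) Lrfl Lrfl
def v17279 : LQ := Led Lsl_gf (LP (LK LD1_c6 LD2_c17 LD3_c15))
theorem f758113 : Led Lsl_gf (LP (LK LD1_c6 LD2_c17 LD3_c15)) = v17279 :=
  Lrfl
def v13338 : LQ := Led Lsl_gf (LP (LK LD1_c4 LD2_c43 LD3_c18))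
theorem f702426 : Led Lsl_gf (LP (LK LD1_c4 LD2_c43 LD3_c18)) = v13338 :=
  Lrfl
theorem f758114 : Led Lsl_gt (LP (LK LD1_c9 LD2_c15 LD3_c53)) = v17279 :=
  Lgr Lrot5 (Lpr_ft (K58.f77968 IH) (Lpe (K58.f125229 IH) (Lpr_gf (f758113 IH) (Lpn v17279))))
theorem f770914 : Led Lsl_ff K59.v13339 = K58.v13621 :=
  Lgr Lrot3 (Lpr_ft (K59.f770912 IH) (Lpn K58.v13621))
theorem f770916 : Led Lsl_gf v13338 = K58.v13621 :=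
  Lgr Lrot47 (Lpe (f702426 IH) (Lpr_af (K59.f702428 IH) (Lpr_ff (f770914 IH) (Lpn K58.v13621))))
theorem f771088 : (LP (LK LD1_c9 LD2_c15 LD3_c53)) = v13338 :=
  Lefun (Lecon (K58.f758121 IH) (K58.f771087 IH)) (Lfl_gf (f770916 IH))
theorem f771090 : (LP (LK LD1_c4 LD2_c43 LD3_c18)) = v17279 :=
  Lefun (Lecon (Lfl_gf (f702426 IH)) (f771088 IH).symm) (f758114 IH)
theorem f702430 : Led Lsl_cf (LP (LK LD1_c4 LD2_c43 LD3_c18)) = K58.v13340 :=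
  Lgr Lrot11 (Lpr_ct (K58.f702429 IH) (Lpn K58.v13340))
theorem f91348 : Led Lsl_dt (LP (LK LD1_c9 LD2_c22 LD3_c58)) = (LP (LK LD1_c4 LD2_c45 LD3_c8)) :=
  Lre_d IH (LK LD1_c9 LD2_c22 LD3_c58) (LK LD1_c4 LD2_c45 LD3_c8) Lrfl Lrfl
theorem f909055 : Led Lsl_dt K58.v13541 = v39386 :=
  Lgr Lrot60 (Lpe (K58.f703510 IH) (Lpe (f91348 IH) (Lpr_ff (f909051 IH) (Lpn v39386))))
theorem f103062 : Led Lsl_gt (LP (LK LD1_c9 LD2_c24 LD3_c49)) = (LP (LK LD1_c4 LD2_c46 LD3_c7)) :=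
  Lre_g IH (LK LD1_c9 LD2_c24 LD3_c49) (LK LD1_c4 LD2_c46 LD3_c7) Lrfl Lrfl
theorem f909056 : Led Lsl_gf (LP (LK LD1_c9 LD2_c24 LD3_c49)) = v39386 :=
  Lgr Lrot47 (Lpr_gt (f103062 IH) (Lpe (f133183 IH) (Lpr_ff (f909051 IH) (Lpn v39386))))
theorem f821872 : Led Lsl_ct (LP (LK LD1_c9 LD2_c24 LD3_c49)) = (LP (LK LD1_c17 LD2_c22 LD3_c1)) :=
  Lre_c IH (LK LD1_c9 LD2_c24 LD3_c49) (LK LD1_c17 LD2_c22 LD3_c1) Lrfl Lrfl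
theorem f909207 : Led Lsl_gt (LP (LK LD1_c17 LD2_c22 LD3_c1)) = v39408 :=
  Lgr Lrot150 (Lpe (f821872 IH) (Lpr_gf (f909056 IH) (Lpe (f909055 IH) (Lpe (K58.f703519 IH) (Lpq (K58.f770904 IH) (Lpe (f702430 IH) (Lpqs (f771090 IH) (Lpe (f758113 IH) (Lpe (K58.f102123 IH) (Lpe (f102132 IH) (Lpr_cf (f909205 IH) (Lpn v39408))))))))))))
theorem f125235 : Led Lsl_af (LP (LK LD1_c9 LD2_c23 LD3_c11)) = (LP (LK LD1_c4 LD2_c46 LD3_c31)) :=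
  Lgr Lrot117 (Lpr_dt (f102132 IH) (Lpr_at (K59.f125233 IH) (Lpr_dt (K59.f78355 IH) (Lpn (LP (LK LD1_c4 LD2_c46 LD3_c31))))))
theorem f125237 : Led Lsl_at (LP (LK LD1_c9 LD2_c23 LD3_c11)) = (LP (LK LD1_c4 LD2_c46 LD3_c31)) :=
  Lgr Lrot100 (Lpr_af (f125235 IH) (Lpn (LP (LK LD1_c4 LD2_c46 LD3_c31))))
theorem f78356 : Led Lsl_ct (LP (LK LD1_c4 LD2_c46 LD3_c31)) = (LP (LK LD1_c9 LD2_c25 LD3_c43)) :=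
  Lre_c IH (LK LD1_c4 LD2_c46 LD3_c31) (LK LD1_c9 LD2_c25 LD3_c43) Lrfl Lrfl
theorem f909206 : Led Lsl_at (LP (LK LD1_c9 LD2_c25 LD3_c43)) = v39408 :=
  Lgr Lrot107 (Lpe (f78356 IH) (Lpe (f125237 IH) (Lpr_cf (f909205 IH) (Lpn v39408))))
theorem f909208 : Led Lsl_ft (LP (LK LD1_c17 LD2_c23 LD3_c16)) = (LP (LK LD1_c9 LD2_c25 LD3_c43)) :=
  Lre_f IH (LK LD1_c17 LD2_c23 LD3_c16) (LK LD1_c9 LD2_c25 LD3_c43) Lrfl Lrfl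
theorem f909209 : Led Lsl_gf (LP (LK LD1_c17 LD2_c22 LD3_c1)) = (LP (LK LD1_c17 LD2_c23 LD3_c16)) :=
  Lgr Lrot47 (Lpr_gt (f909207 IH) (Lpe (f909206 IH) (Lpe (f909208 IH) (Lpn (LP (LK LD1_c17 LD2_c23 LD3_c16))))))
theorem f909210 : Led Lsl_gt (LP (LK LD1_c17 LD2_c23 LD3_c16)) = (LP (LK LD1_c17 LD2_c22 LD3_c1)) :=
  Leop (Lpr_gf (f909209 IH) (Lpn (LP (LK LD1_c17 LD2_c23 LD3_c16))))
theorem seed_2325 : LEOK LG_g (LK LD1_c17 LD2_c23 LD3_c16) :=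
  Leoe_g (LK LD1_c17 LD2_c23 LD3_c16) (f909210 IH)
def v39429 : LQ := Led Lsl_dt (LP (LK LD1_c9 LD2_c23 LD3_c35))
theorem f909310 : Led Lsl_dt (LP (LK LD1_c9 LD2_c23 LD3_c35)) = v39429 :=
  Lrfl
theorem f909312 : Led Lsl_df (LP (LK LD1_c9 LD2_c23 LD3_c35)) = v39429 :=
  Lgr Lrot38 (Lpr_dt (f909310 IH) (Lpn v39429))
theorem f141136 : Led Lsl_gt (LP (LK LD1_c4 LD2_c45 LD3_c24)) = (LP (LK LD1_c9 LD2_c23 LD3_c35)) :=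
  Lre_g IH (LK LD1_c4 LD2_c45 LD3_c24) (LK LD1_c9 LD2_c23 LD3_c35) Lrfl Lrfl
theorem f102074 : Led Lsl_dt (LP (LK LD1_c2 LD2_c20 LD3_c48)) = (LP (LK LD1_c4 LD2_c45 LD3_c24)) :=
  Lre_d IH (LK LD1_c2 LD2_c20 LD3_c48) (LK LD1_c4 LD2_c45 LD3_c24) Lrfl Lrfl
theorem f102030 : Led Lsl_gt (LP (LK LD1_c4 LD2_c45 LD3_c23)) = (LP (LK LD1_c2 LD2_c20 LD3_c48)) :=
  Lre_g IH (LK LD1_c4 LD2_c45 LD3_c23) (LK LD1_c2 LD2_c20 LD3_c48) Lrfl Lrfl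
theorem f443009 : Led Lsl_et (LP (LK LD1_c3 LD2_c14 LD3_c24)) = (LP (LK LD1_c6 LD2_c32 LD3_c31)) :=
  Lre_e IH (LK LD1_c3 LD2_c14 LD3_c24) (LK LD1_c6 LD2_c32 LD3_c31) Lrfl Lrfl
theorem f442943 : Led Lsl_gt (LP (LK LD1_c12 LD2_c32 LD3_c38)) = (LP (LK LD1_c6 LD2_c32 LD3_c31)) :=
  Lre_g IH (LK LD1_c12 LD2_c32 LD3_c38) (LK LD1_c6 LD2_c32 LD3_c31) Lrfl Lrfl
theorem f909330 : Led Lsl_ef (LP (LK LD1_c12 LD2_c32 LD3_c38)) = v39429 :=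
  Lgr Lrot114 (Lpr_gt (f442943 IH) (Lpe (f443009 IH) (Lpr_dt (K59.f443000 IH) (Lpr_gt (K59.f442963 IH) (Lpr_df (K65.f775565 IH) (Lpr_et (K59.f102031 IH) (Lpr_gt (f102030 IH) (Lpr_dt (f102074 IH) (Lpr_gt (f141136 IH) (Lpr_df (f909312 IH) (Lpn v39429)))))))))))
def v18417 : LQ := Led Lsl_dt (LP (LK LD1_c6 LD2_c29 LD3_c28))
theorem f766877 : Led Lsl_dt (LP (LK LD1_c6 LD2_c29 LD3_c28)) = v18417 :=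
  Lrfl
theorem f909315 : Led Lsl_cf v18417 = v39429 :=
  Lgr Lrot14 (Lpe (f766877 IH) (Lpqs (K57.f708555 IH) (Lpe (K57.f703383 IH) (Lpe (K5.f127043 IH) (Lpe (K51.f708551 IH) (Lpr_ct (K49.f527845 IH) (Lpr_gt (f102030 IH) (Lpr_dt (f102074 IH) (Lpr_gt (f141136 IH) (Lpr_dt (f909310 IH) (Lpn v39429)))))))))))
theorem f766881 : Led Lsl_ff K57.v17381 = v18417 :=
  Lgr Lrot19 (Lpe (K57.f759043 IH) (Lpqs (K57.f708514 IH) (Lpe (K57.f759183 IH) (Lpr_dt (f766877 IH) (Lpn v18417)))))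
theorem f759039 : Led Lsl_cf K50.v13690 = K57.v17381 :=
  Lgr Lrot39 (Lpe (K50.f704350 IH) (Lpr_ct (K57.f438630 IH) (Lpr_et (K57.f759037 IH) (Lpn K57.v17381))))
theorem f909317 : Led Lsl_ft K50.v13690 = v39429 :=
  Lgr Lrot4 (Lpr_cf (f759039 IH) (Lpr_ff (f766881 IH) (Lpr_cf (f909315 IH) (Lpn v39429))))
theorem f102007 : Led Lsl_et (LP (LK LD1_c12 LD2_c11 LD3_c26)) = (LP (LK LD1_c6 LD2_c17 LD3_c27)) :=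
  Lre_e IH (LK LD1_c12 LD2_c11 LD3_c26) (LK LD1_c6 LD2_c17 LD3_c27) Lrfl Lrfl
theorem f909332 : Led Lsl_ft (LP (LK LD1_c12 LD2_c32 LD3_c38)) = (LP (LK LD1_c12 LD2_c11 LD3_c26)) :=
  Lgr Lrot86 (Lpr_ef (f909330 IH) (Lpe (f909317 IH) (Lpe (K57.f704353 IH) (Lpq (K57.f759111 IH) (Lpe (K57.f758186 IH) (Lpe (f102007 IH) (Lpn (LP (LK LD1_c12 LD2_c11 LD3_c26)))))))))
theorem f909333 : Led Lsl_ft (LP (LK LD1_c12 LD2_c32 LD3_c38)) = (LP (LK LD1_c12 LD2_c11 LD3_c26)) :=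
  Leop (Lpe (f909332 IH) (Lpn (LP (LK LD1_c12 LD2_c32 LD3_c38))))
theorem seed_2326 : LEOK LG_f (LK LD1_c12 LD2_c32 LD3_c38) :=
  Leoe_f (LK LD1_c12 LD2_c32 LD3_c38) (f909333 IH)
def v39541 : LQ := Led Lsl_at (LP (LK LD1_c9 LD2_c24 LD3_c48))
theorem f909867 : Led Lsl_at (LP (LK LD1_c9 LD2_c24 LD3_c48)) = v39541 :=
  Lrfl
theorem f909868 : Led Lsl_af (LP (LK LD1_c9 LD2_c24 LD3_c48)) = v39541 :=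
  Lgr Lrot0 (Lpr_at (f909867 IH) (Lpn v39541))
theorem f703967 : Led Lsl_ct (LP (LK LD1_c17 LD2_c21 LD3_c59)) = (LP (LK LD1_c9 LD2_c24 LD3_c48)) :=
  Lre_c IH (LK LD1_c17 LD2_c21 LD3_c59) (LK LD1_c9 LD2_c24 LD3_c48) Lrfl Lrfl
theorem f703965 : Led Lsl_dt (LP (LK LD1_c27 LD2_c11 LD3_c17)) = (LP (LK LD1_c17 LD2_c21 LD3_c59)) :=
  Lre_d IH (LK LD1_c27 LD2_c11 LD3_c17) (LK LD1_c17 LD2_c21 LD3_c59) Lrfl Lrfl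
theorem f909869 : Led Lsl_ft (LP (LK LD1_c9 LD2_c24 LD3_c49)) = v39541 :=
  Lgr Lrot2 (Lpr_gt (f103062 IH) (Lpr_gt (K58.f441952 IH) (Lpr_af (f909868 IH) (Lpn v39541))))
theorem f821871 : Led Lsl_df (LP (LK LD1_c9 LD2_c24 LD3_c49)) = v23999 :=
  Lgr Lrot153 (Lpr_gt (f103062 IH) (Lpr_dt (K58.f133202 IH) (Lpe (K5.f133206 IH) (Lpe (K5.f77997 IH) (Lpe (K58.f78275 IH) (Lpqs (K58.f770519 IH) (Lpe (K58.f652677 IH) (Lpqs (K58.f770467 IH) (Lpe (K57.f668800 IH) (Lpe (f668802 IH) (Lpr_gt (f821869 IH) (Lpn v23999))))))))))))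
theorem f821875 : Led Lsl_dt (LP (LK LD1_c9 LD2_c24 LD3_c49)) = v23999 :=
  Lgr Lrot42 (Lpr_df (f821871 IH) (Lpn v23999))
theorem f821867 : Led Lsl_cf (LP (LK LD1_c12 LD2_c27 LD3_c48)) = v23999 :=
  Lgr Lrot39 (Lpr_et (f707807 IH) (Lpr_ct (K66.f766141 IH) (Lpqs (K66.f773954 IH) (Lpr_et (f821866 IH) (Lpn v23999)))))
theorem f775446 : Led Lsl_dt (LP (LK LD1_c9 LD2_c24 LD3_c59)) = (LP (LK LD1_c17 LD2_c22 LD3_c12)) :=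
  Lre_d IH (LK LD1_c9 LD2_c24 LD3_c59) (LK LD1_c17 LD2_c22 LD3_c12) Lrfl Lrfl
theorem f909870 : Led Lsl_cf (LP (LK LD1_c27 LD2_c11 LD3_c17)) = (LP (LK LD1_c17 LD2_c22 LD3_c12)) :=
  Lgr Lrot161 (Lpr_dt (f703965 IH) (Lpr_ct (f703967 IH) (Lpr_af (f909868 IH) (Lpe (f909869 IH) (Lpr_dt (f821875 IH) (Lpe (f821867 IH) (Lpr_dt (f821438 IH) (Lpe (f821440 IH) (Lpr_dt (f775446 IH) (Lpn (LP (LK LD1_c17 LD2_c22 LD3_c12))))))))))))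
theorem f909871 : Led Lsl_ct (LP (LK LD1_c17 LD2_c22 LD3_c12)) = (LP (LK LD1_c27 LD2_c11 LD3_c17)) :=
  Leop (Lpr_cf (f909870 IH) (Lpn (LP (LK LD1_c17 LD2_c22 LD3_c12))))
theorem seed_2327 : LEOK LG_c (LK LD1_c17 LD2_c22 LD3_c12) :=
  Leoe_c (LK LD1_c17 LD2_c22 LD3_c12) (f909871 IH)
def v39562 : LQ := Led Lsl_ct (LP (LK LD1_c9 LD2_c24 LD3_c58))
theorem f910001 : Led Lsl_ct (LP (LK LD1_c9 LD2_c24 LD3_c58)) = v39562 :=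
  Lrfl
theorem f909102 : Led Lsl_ff (LP (LK LD1_c9 LD2_c24 LD3_c58)) = (LP (LK LD1_c17 LD2_c19 LD3_c27)) :=
  Lgr Lrot3 (Lpr_ft (f909098 IH) (Lpn (LP (LK LD1_c17 LD2_c19 LD3_c27))))
theorem f910004 : Led Lsl_ff v38796 = v39562 :=
  Lgr Lrot23 (Lpe (f904566 IH) (Lpe (f909102 IH) (Lpr_ct (f910001 IH) (Lpn v39562))))
theorem f910009 : Led Lsl_ft v38796 = v39562 :=
  Lgr Lrot48 (Lpr_ff (f910004 IH) (Lpn v39562))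
def v13639 : LQ := Led Lsl_bt (LP (LK LD1_c4 LD2_c46 LD3_c11))
theorem f704020 : Led Lsl_bt (LP (LK LD1_c4 LD2_c46 LD3_c11)) = v13639 :=
  Lrfl
theorem f770573 : (LP (LK LD1_c2 LD2_c22 LD3_c11)) = v13639 :=
  Lefun (Lecon (Lfl_bf (K59.f634110 IH)) (K59.f770556 IH).symm) (f704020 IH)
theorem f415369 : Led Lsl_gt (LP (LK LD1_c6 LD2_c43 LD3_c50)) = (LP (LK LD1_c12 LD2_c51 LD3_c28)) :=
  Lre_g IH (LK LD1_c6 LD2_c43 LD3_c50) (LK LD1_c12 LD2_c51 LD3_c28) Lrfl Lrfl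
theorem f904559 : Led Lsl_bt (LP (LK LD1_c14 LD2_c44 LD3_c34)) = v38796 :=
  Lgr Lrot130 (Lpr_ct (K60.f780663 IH) (Lpqs (K60.f784492 IH) (Lpe (f415369 IH) (Lpe (K65.f151937 IH) (Lpr_bt (K65.f135410 IH) (Lpr_gf (K32.f415367 IH) (Lpqs (f770573 IH) (Lpe (f704020 IH) (Lpr_ct (K59.f495036 IH) (Lpr_gf (K59.f770580 IH) (Lpe (K59.f77927 IH) (Lpr_gf (f904558 IH) (Lpn v38796)))))))))))))
theorem f910011 : Led Lsl_bf (LP (LK LD1_c12 LD2_c52 LD3_c22)) = v39562 :=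
  Lgr Lrot61 (Lpe (K60.f780191 IH) (Lpr_bt (f904559 IH) (Lpr_ft (f910009 IH) (Lpn v39562))))
theorem f652618 : Led Lsl_ct (LP (LK LD1_c12 LD2_c52 LD3_c22)) = (LP (LK LD1_c6 LD2_c43 LD3_c46)) :=
  Lre_c IH (LK LD1_c12 LD2_c52 LD3_c22) (LK LD1_c6 LD2_c43 LD3_c46) Lrfl Lrfl
theorem f909100 : Led Lsl_bt (LP (LK LD1_c17 LD2_c22 LD3_c10)) = (LP (LK LD1_c9 LD2_c24 LD3_c58)) :=
  Lre_b IH (LK LD1_c17 LD2_c22 LD3_c10) (LK LD1_c9 LD2_c24 LD3_c58) Lrfl Lrfl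
theorem f910012 : Led Lsl_ct (LP (LK LD1_c12 LD2_c52 LD3_c21)) = (LP (LK LD1_c17 LD2_c22 LD3_c10)) :=
  Lgr Lrot83 (Lpe (K60.f780195 IH) (Lpe (f652618 IH) (Lpr_bf (f910011 IH) (Lpe (f910001 IH) (Lpe (f909100 IH) (Lpn (LP (LK LD1_c17 LD2_c22 LD3_c10))))))))
theorem f910013 : Led Lsl_ct (LP (LK LD1_c12 LD2_c52 LD3_c21)) = (LP (LK LD1_c17 LD2_c22 LD3_c10)) :=
  Leop (Lpe (f910012 IH) (Lpn (LP (LK LD1_c12 LD2_c52 LD3_c21))))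
theorem seed_2328 : LEOK LG_c (LK LD1_c12 LD2_c52 LD3_c21) :=
  Leoe_c (LK LD1_c12 LD2_c52 LD3_c21) (f910013 IH)
theorem f780286 : Led Lsl_bt (LP (LK LD1_c12 LD2_c52 LD3_c21)) = (LP (LK LD1_c6 LD2_c43 LD3_c46)) :=
  Lre_b IH (LK LD1_c12 LD2_c52 LD3_c21) (LK LD1_c6 LD2_c43 LD3_c46) Lrfl Lrfl
theorem f780275 : Led Lsl_ff (LP (LK LD1_c6 LD2_c43 LD3_c18)) = K60.v19507 :=
  Lgr Lrot3 (Lpr_ft (K60.f780272 IH) (Lpn K60.v19507))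
theorem f62390 : Led Lsl_at (LP (LK LD1_c6 LD2_c43 LD3_c18)) = (LP (LK LD1_c3 LD2_c19 LD3_c59)) :=
  Lre_a IH (LK LD1_c6 LD2_c43 LD3_c18) (LK LD1_c3 LD2_c19 LD3_c59) Lrfl Lrfl
theorem f62590 : Led Lsl_ft (LP (LK LD1_c3 LD2_c19 LD3_c59)) = (LP (LK LD1_c6 LD2_c43 LD3_c50)) :=
  Lre_f IH (LK LD1_c3 LD2_c19 LD3_c59) (LK LD1_c6 LD2_c43 LD3_c50) Lrfl Lrfl
theorem f780282 : Led Lsl_at (LP (LK LD1_c6 LD2_c43 LD3_c50)) = K60.v19507 :=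
  Lgr Lrot66 (Lpe (f62590 IH) (Lpe (f62390 IH) (Lpr_ff (f780275 IH) (Lpn K60.v19507))))
theorem f780285 : Led Lsl_gt (LP (LK LD1_c6 LD2_c43 LD3_c46)) = K60.v19507 :=
  Lgr Lrot46 (Lpe (K60.f62591 IH) (Lpr_ft (f62590 IH) (Lpr_at (f780282 IH) (Lpn K60.v19507))))
theorem f780274 : Led Lsl_cf K46.v6268 = K60.v19507 :=
  Lgr Lrot108 (Lpe (K59.f652495 IH) (Lpr_ct (K6.f62549 IH) (Lpr_ft (K60.f780272 IH) (Lpn K60.v19507))))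
theorem f652506 : Led Lsl_bt (LP (LK LD1_c6 LD2_c43 LD3_c44)) = (LP (LK LD1_c12 LD2_c52 LD3_c18)) :=
  Lre_b IH (LK LD1_c6 LD2_c43 LD3_c44) (LK LD1_c12 LD2_c52 LD3_c18) Lrfl Lrfl
theorem f652507 : Led Lsl_gt (LP (LK LD1_c12 LD2_c52 LD3_c18)) = (LP (LK LD1_c22 LD2_c2 LD3_c1)) :=
  Lre_g IH (LK LD1_c12 LD2_c52 LD3_c18) (LK LD1_c22 LD2_c2 LD3_c1) Lrfl Lrfl
theorem f652508 : Led Lsl_bt (LP (LK LD1_c30 LD2_c16 LD3_c40)) = (LP (LK LD1_c22 LD2_c2 LD3_c1)) :=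
  Lre_b IH (LK LD1_c30 LD2_c16 LD3_c40) (LK LD1_c22 LD2_c2 LD3_c1) Lrfl Lrfl
theorem f910006 : Led Lsl_gt (LP (LK LD1_c27 LD2_c11 LD3_c29)) = (LP (LK LD1_c17 LD2_c22 LD3_c10)) :=
  Lre_g IH (LK LD1_c27 LD2_c11 LD3_c29) (LK LD1_c17 LD2_c22 LD3_c10) Lrfl Lrfl
theorem f910019 : Led Lsl_ct (LP (LK LD1_c30 LD2_c16 LD3_c40)) = (LP (LK LD1_c27 LD2_c11 LD3_c29)) :=
  Lgr Lrot64 (Lpr_bt (f652508 IH) (Lpe (f652507 IH) (Lpe (f652506 IH) (Lpr_ct (K59.f453958 IH) (Lpr_gf (K59.f652502 IH) (Lpr_cf (f780274 IH) (Lpe (f780285 IH) (Lpe (f780286 IH) (Lpr_ct (f910012 IH) (Lpe (f910006 IH) (Lpn (LP (LK LD1_c27 LD2_c11 LD3_c29)))))))))))))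
theorem f910020 : Led Lsl_ct (LP (LK LD1_c30 LD2_c16 LD3_c40)) = (LP (LK LD1_c27 LD2_c11 LD3_c29)) :=
  Leop (Lpe (f910019 IH) (Lpn (LP (LK LD1_c30 LD2_c16 LD3_c40))))
theorem seed_2329 : LEOK LG_c (LK LD1_c30 LD2_c16 LD3_c40) :=
  Leoe_c (LK LD1_c30 LD2_c16 LD3_c40) (f910020 IH)
theorem f910014 : Led Lsl_cf (LP (LK LD1_c12 LD2_c52 LD3_c21)) = (LP (LK LD1_c17 LD2_c22 LD3_c10)) :=
  Lgr Lrot11 (Lpr_ct (f910012 IH) (Lpn (LP (LK LD1_c17 LD2_c22 LD3_c10))))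
theorem f815320 : Led Lsl_gt (LP (LK LD1_c22 LD2_c2 LD3_c8)) = (LP (LK LD1_c12 LD2_c52 LD3_c21)) :=
  Lre_g IH (LK LD1_c22 LD2_c2 LD3_c8) (LK LD1_c12 LD2_c52 LD3_c21) Lrfl Lrfl
theorem f910018 : Led Lsl_ct (LP (LK LD1_c30 LD2_c16 LD3_c47)) = (LP (LK LD1_c22 LD2_c2 LD3_c8)) :=
  Lre_c IH (LK LD1_c30 LD2_c16 LD3_c47) (LK LD1_c22 LD2_c2 LD3_c8) Lrfl Lrfl
theorem f909085 : Led Lsl_ff (LP (LK LD1_c9 LD2_c22 LD3_c60)) = v39390 :=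
  Lgr Lrot3 (Lpr_ft (f909082 IH) (Lpn v39390))
theorem f133220 : Led Lsl_at (LP (LK LD1_c9 LD2_c22 LD3_c60)) = (LP (LK LD1_c4 LD2_c46 LD3_c13)) :=
  Lgr Lrot107 (Lpe (f91338 IH) (Lpr_af (K5.f133214 IH) (Lpe (f79509 IH) (Lpn (LP (LK LD1_c4 LD2_c46 LD3_c13))))))
theorem f909106 : Led Lsl_gf (LP (LK LD1_c9 LD2_c24 LD3_c59)) = v39390 :=
  Lgr Lrot47 (Lpr_gt (f79525 IH) (Lpe (f133220 IH) (Lpr_ff (f909085 IH) (Lpn v39390))))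
theorem f909107 : Led Lsl_gt (LP (LK LD1_c9 LD2_c24 LD3_c58)) = v39390 :=
  Lgr Lrot5 (Lpr_ft (f909098 IH) (Lpr_at (f904567 IH) (Lpr_gf (f909106 IH) (Lpn v39390))))
theorem f909084 : Led Lsl_cf K50.v13543 = v39390 :=
  Lgr Lrot108 (Lpe (K59.f703528 IH) (Lpr_ct (f91338 IH) (Lpr_ft (f909082 IH) (Lpn v39390))))
theorem f668809 : Led Lsl_bt (LP (LK LD1_c9 LD2_c24 LD3_c56)) = (LP (LK LD1_c17 LD2_c22 LD3_c7)) :=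
  Lre_b IH (LK LD1_c9 LD2_c24 LD3_c56) (LK LD1_c17 LD2_c22 LD3_c7) Lrfl Lrfl
theorem f668810 : Led Lsl_gt (LP (LK LD1_c17 LD2_c22 LD3_c7)) = (LP (LK LD1_c27 LD2_c11 LD3_c23)) :=
  Lre_g IH (LK LD1_c17 LD2_c22 LD3_c7) (LK LD1_c27 LD2_c11 LD3_c23) Lrfl Lrfl
theorem f910034 : Led Lsl_bt (LP (LK LD1_c30 LD2_c16 LD3_c47)) = (LP (LK LD1_c27 LD2_c11 LD3_c23)) :=
  Lgr Lrot92 (Lpr_ct (f910018 IH) (Lpr_gt (f815320 IH) (Lpr_cf (f910014 IH) (Lpr_bt (f909100 IH) (Lpr_gt (f909107 IH) (Lpe (f909084 IH) (Lpe (K59.f703535 IH) (Lpe (K59.f495035 IH) (Lpr_bt (f668809 IH) (Lpr_gt (f668810 IH) (Lpn (LP (LK LD1_c27 LD2_c11 LD3_c23)))))))))))))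
theorem f910035 : Led Lsl_bt (LP (LK LD1_c30 LD2_c16 LD3_c47)) = (LP (LK LD1_c27 LD2_c11 LD3_c23)) :=
  Leop (Lpe (f910034 IH) (Lpn (LP (LK LD1_c30 LD2_c16 LD3_c47))))
theorem seed_2330 : LEOK LG_b (LK LD1_c30 LD2_c16 LD3_c47) :=
  Leoe_b (LK LD1_c30 LD2_c16 LD3_c47) (f910035 IH)
def v39608 : LQ := Led Lsl_ct (LP (LK LD1_c9 LD2_c25 LD3_c41))
theorem f910256 : Led Lsl_ct (LP (LK LD1_c9 LD2_c25 LD3_c41)) = v39608 :=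
  Lrfl
theorem f910257 : Led Lsl_cf (LP (LK LD1_c9 LD2_c25 LD3_c41)) = v39608 :=
  Lgr Lrot11 (Lpr_ct (f910256 IH) (Lpn v39608))
theorem f443012 : Led Lsl_ct (LP (LK LD1_c12 LD2_c32 LD3_c44)) = (LP (LK LD1_c6 LD2_c32 LD3_c33)) :=
  Lre_c IH (LK LD1_c12 LD2_c32 LD3_c44) (LK LD1_c6 LD2_c32 LD3_c33) Lrfl Lrfl
theorem f774076 : Led Lsl_ef (LP (LK LD1_c12 LD2_c32 LD3_c44)) = (LP (LK LD1_c12 LD2_c11 LD3_c16)) :=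
  Lgr Lrot28 (Lpr_ct (f443012 IH) (Lpqs (K59.f774066 IH) (Lpe (K57.f758150 IH) (Lpr_ct (K59.f140016 IH) (Lpn (LP (LK LD1_c12 LD2_c11 LD3_c16)))))))
def v17299 : LQ := Led Lsl_ft (LP (LK LD1_c6 LD2_c17 LD3_c31))
theorem f758241 : Led Lsl_ft (LP (LK LD1_c6 LD2_c17 LD3_c31)) = v17299 :=
  Lrfl
theorem f758244 : Led Lsl_ff (LP (LK LD1_c6 LD2_c17 LD3_c31)) = v17299 :=
  Lgr Lrot3 (Lpr_ft (f758241 IH) (Lpn v17299))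
theorem f76230 : Led Lsl_ct (LP (LK LD1_c6 LD2_c17 LD3_c31)) = (LP (LK LD1_c3 LD2_c5 LD3_c58)) :=
  Lre_c IH (LK LD1_c6 LD2_c17 LD3_c31) (LK LD1_c3 LD2_c5 LD3_c58) Lrfl Lrfl
theorem f758246 : Led Lsl_ct K57.v5318 = v17299 :=
  Lgr Lrot40 (Lpe (K57.f647053 IH) (Lpe (f76230 IH) (Lpr_ff (f758244 IH) (Lpn v17299))))
theorem f758271 : v17299 = (LP (LK LD1_c12 LD2_c11 LD3_c16)) :=
  Lefun (Lecon (f758246 IH) (K57.f758264 IH)) (K59.f140016 IH)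
def v17298 : LQ := Led Lsl_et (LP (LK LD1_c6 LD2_c17 LD3_c31))
theorem f758237 : Led Lsl_et (LP (LK LD1_c6 LD2_c17 LD3_c31)) = v17298 :=
  Lrfl
theorem f758239 : Led Lsl_ef (LP (LK LD1_c6 LD2_c17 LD3_c31)) = v17298 :=
  Lgr Lrot88 (Lpr_et (f758237 IH) (Lpn v17298))
theorem f758240 : Led Lsl_ct K57.v5317 = v17298 :=
  Lgr Lrot15 (Lpe (K57.f647047 IH) (Lpe (f76230 IH) (Lpr_ef (f758239 IH) (Lpn v17298))))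
theorem f758426 : Led Lsl_ff (LP (LK LD1_c9 LD2_c16 LD3_c60)) = v17298 :=
  Lgr Lrot23 (Lpr_ct (K51.f633371 IH) (Lpr_ft (K57.f701459 IH) (Lpqs (K57.f758280 IH) (Lpr_ct (f758240 IH) (Lpn v17298)))))
theorem f758427 : Led Lsl_ft (LP (LK LD1_c9 LD2_c16 LD3_c60)) = v17298 :=
  Lgr Lrot48 (Lpr_ff (f758426 IH) (Lpn v17298))
theorem f758428 : Led Lsl_et (LP (LK LD1_c17 LD2_c12 LD3_c5)) = (LP (LK LD1_c9 LD2_c16 LD3_c60)) :=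
  Lre_e IH (LK LD1_c17 LD2_c12 LD3_c5) (LK LD1_c9 LD2_c16 LD3_c60) Lrfl Lrfl
theorem f774082 : Led Lsl_ft (LP (LK LD1_c12 LD2_c32 LD3_c44)) = (LP (LK LD1_c17 LD2_c12 LD3_c5)) :=
  Lgr Lrot86 (Lpr_ef (f774076 IH) (Lpq (f758271 IH) (Lpe (f758241 IH) (Lpr_ef (f758239 IH) (Lpe (f758427 IH) (Lpe (f758428 IH) (Lpn (LP (LK LD1_c17 LD2_c12 LD3_c5)))))))))
theorem f774086 : Led Lsl_ff (LP (LK LD1_c12 LD2_c32 LD3_c44)) = (LP (LK LD1_c17 LD2_c12 LD3_c5)) :=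
  Lgr Lrot3 (Lpr_ft (f774082 IH) (Lpn (LP (LK LD1_c17 LD2_c12 LD3_c5))))
def v17297 : LQ := Led Lsl_at (LP (LK LD1_c6 LD2_c17 LD3_c31))
theorem f758231 : Led Lsl_at (LP (LK LD1_c6 LD2_c17 LD3_c31)) = v17297 :=
  Lrfl
theorem f758233 : Led Lsl_cf K57.v5316 = v17297 :=
  Lgr Lrot1 (Lpe (K57.f647039 IH) (Lpr_ct (K66.f444211 IH) (Lpr_at (f758231 IH) (Lpn v17297))))
theorem f58364 : Led Lsl_ct (LP (LK LD1_c3 LD2_c5 LD3_c59)) = (LP (LK LD1_c6 LD2_c17 LD3_c33)) :=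
  Lre_c IH (LK LD1_c3 LD2_c5 LD3_c59) (LK LD1_c6 LD2_c17 LD3_c33) Lrfl Lrfl
theorem f758235 : Led Lsl_ft (LP (LK LD1_c6 LD2_c17 LD3_c33)) = v17297 :=
  Lgr Lrot4 (Lpe (f58364 IH) (Lpr_ff (K57.f647045 IH) (Lpr_cf (f758233 IH) (Lpn v17297))))
theorem f758236 : Led Lsl_ff (LP (LK LD1_c6 LD2_c17 LD3_c33)) = v17297 :=
  Lgr Lrot3 (Lpr_ft (f758235 IH) (Lpn v17297))
theorem f758245 : Led Lsl_at (LP (LK LD1_c6 LD2_c17 LD3_c33)) = v17299 :=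
  Lgr Lrot66 (Lpr_ff (f758236 IH) (Lpe (f758231 IH) (Lpr_ff (f758244 IH) (Lpn v17299))))
theorem f708888 : Led Lsl_et (LP (LK LD1_c12 LD2_c11 LD3_c36)) = (LP (LK LD1_c6 LD2_c17 LD3_c33)) :=
  Lre_e IH (LK LD1_c12 LD2_c11 LD3_c36) (LK LD1_c6 LD2_c17 LD3_c33) Lrfl Lrfl
theorem f774078 : Led Lsl_at (LP (LK LD1_c12 LD2_c32 LD3_c44)) = (LP (LK LD1_c12 LD2_c11 LD3_c36)) :=
  Lgr Lrot80 (Lpr_ef (f774076 IH) (Lpq (f758271 IH) (Lpe (f758245 IH) (Lpe (f708888 IH) (Lpn (LP (LK LD1_c12 LD2_c11 LD3_c36)))))))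
theorem f821870 : Led Lsl_gf (LP (LK LD1_c12 LD2_c11 LD3_c36)) = v23999 :=
  Lgr Lrot76 (Lpe (f774078 IH) (Lpr_ff (f774086 IH) (Lpr_gt (f821869 IH) (Lpn v23999))))
def v13627 : LQ := Led Lsl_ct (LP (LK LD1_c4 LD2_c46 LD3_c7))
theorem f703959 : Led Lsl_ct (LP (LK LD1_c4 LD2_c46 LD3_c7)) = v13627 :=
  Lrfl
theorem f910258 : Led Lsl_gt v13627 = v39608 :=
  Lgr Lrot150 (Lpe (f703959 IH) (Lpe (f103062 IH) (Lpr_df (f821871 IH) (Lpe (f821870 IH) (Lpr_ct (f708890 IH) (Lpqs (K58.f770517 IH) (Lpe (K58.f768284 IH) (Lpr_ct (K59.f442922 IH) (Lpr_df (K59.f774184 IH) (Lpr_cf (f910257 IH) (Lpn v39608)))))))))))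
theorem f207929 : Led Lsl_gt (LP (LK LD1_c17 LD2_c21 LD3_c55)) = (LP (LK LD1_c9 LD2_c24 LD3_c43)) :=
  Lre_g IH (LK LD1_c17 LD2_c21 LD3_c55) (LK LD1_c9 LD2_c24 LD3_c43) Lrfl Lrfl
theorem f774211 : Led Lsl_bt (LP (LK LD1_c9 LD2_c25 LD3_c41)) = (LP (LK LD1_c17 LD2_c23 LD3_c9)) :=
  Lre_b IH (LK LD1_c9 LD2_c25 LD3_c41) (LK LD1_c17 LD2_c23 LD3_c9) Lrfl Lrfl
theorem f442884 : Led Lsl_bt (LP (LK LD1_c5 LD2_c57 LD3_c17)) = (LP (LK LD1_c2 LD2_c54 LD3_c54)) :=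
  Lre_b IH (LK LD1_c5 LD2_c57 LD3_c17) (LK LD1_c2 LD2_c54 LD3_c54) Lrfl Lrfl
theorem f442885 : Led Lsl_ct (LP (LK LD1_c11 LD2_c39 LD3_c53)) = (LP (LK LD1_c5 LD2_c57 LD3_c17)) :=
  Lre_c IH (LK LD1_c11 LD2_c39 LD3_c53) (LK LD1_c5 LD2_c57 LD3_c17) Lrfl Lrfl
theorem f442886 : Led Lsl_bt (LP (LK LD1_c1 LD2_c33 LD3_c45)) = (LP (LK LD1_c3 LD2_c14 LD3_c26)) :=
  Lre_b IH (LK LD1_c1 LD2_c33 LD3_c45) (LK LD1_c3 LD2_c14 LD3_c26) Lrfl Lrfl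
theorem f442888 : Led Lsl_bf (LP (LK LD1_c11 LD2_c39 LD3_c53)) = (LP (LK LD1_c6 LD2_c32 LD3_c31)) :=
  Lgr Lrot90 (Lpr_ct (f442885 IH) (Lpr_bt (f442884 IH) (Lpr_ct (K32.f442877 IH) (Lpr_bt (f442886 IH) (Lpr_ct (K59.f442887 IH) (Lpn (LP (LK LD1_c6 LD2_c32 LD3_c31))))))))
theorem f641783 : Led Lsl_bt (LP (LK LD1_c11 LD2_c45 LD3_c32)) = (LP (LK LD1_c12 LD2_c32 LD3_c39)) :=
  Lgr Lrot95 (Lpr_df (K59.f641781 IH) (Lpr_bf (f442888 IH) (Lpe (K59.f443007 IH) (Lpn (LP (LK LD1_c12 LD2_c32 LD3_c39))))))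
theorem f774212 : Led Lsl_ff (LP (LK LD1_c11 LD2_c45 LD3_c32)) = (LP (LK LD1_c17 LD2_c23 LD3_c9)) :=
  Lgr Lrot25 (Lpr_bt (f641783 IH) (Lpr_ft (K59.f774207 IH) (Lpr_bt (f774211 IH) (Lpn (LP (LK LD1_c17 LD2_c23 LD3_c9))))))
theorem f442931 : Led Lsl_at (LP (LK LD1_c20 LD2_c39 LD3_c51)) = (LP (LK LD1_c11 LD2_c39 LD3_c53)) :=
  Lre_a IH (LK LD1_c20 LD2_c39 LD3_c51) (LK LD1_c11 LD2_c39 LD3_c53) Lrfl Lrfl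
theorem f711403 : Led Lsl_at (LP (LK LD1_c11 LD2_c45 LD3_c32)) = (LP (LK LD1_c17 LD2_c23 LD3_c30)) :=
  Lgr Lrot51 (Lpr_df (K59.f641781 IH) (Lpe (f442931 IH) (Lpr_df (K52.f711290 IH) (Lpn (LP (LK LD1_c17 LD2_c23 LD3_c30))))))
theorem f774269 : Led Lsl_gf (LP (LK LD1_c11 LD2_c45 LD3_c34)) = (LP (LK LD1_c17 LD2_c23 LD3_c9)) :=
  Lgr Lrot47 (Lpe (K52.f498375 IH) (Lpe (f711403 IH) (Lpr_ff (f774212 IH) (Lpn (LP (LK LD1_c17 LD2_c23 LD3_c9))))))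
theorem f498378 : Led Lsl_ct (LP (LK LD1_c11 LD2_c45 LD3_c34)) = (LP (LK LD1_c20 LD2_c46 LD3_c53)) :=
  Lre_c IH (LK LD1_c11 LD2_c45 LD3_c34) (LK LD1_c20 LD2_c46 LD3_c53) Lrfl Lrfl
theorem f746269 : Led Lsl_ff (LP (LK LD1_c20 LD2_c45 LD3_c39)) = (LP (LK LD1_c20 LD2_c41 LD3_c23)) :=
  Lgr Lrot3 (Lpr_ft (K55.f746251 IH) (Lpn (LP (LK LD1_c20 LD2_c41 LD3_c23))))
theorem f427458 : Led Lsl_dt (LP (LK LD1_c17 LD2_c31 LD3_c43)) = (LP (LK LD1_c20 LD2_c41 LD3_c23)) :=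
  Lgr Lrot42 (Lpr_df (K55.f427454 IH) (Lpn (LP (LK LD1_c20 LD2_c41 LD3_c23))))
theorem f746271 : Led Lsl_ft (LP (LK LD1_c11 LD2_c44 LD3_c19)) = (LP (LK LD1_c17 LD2_c31 LD3_c43)) :=
  Lgr Lrot54 (Lpe (K55.f715406 IH) (Lpr_ff (f746269 IH) (Lpe (f427458 IH) (Lpn (LP (LK LD1_c17 LD2_c31 LD3_c43))))))
theorem f746276 : Led Lsl_ct (LP (LK LD1_c20 LD2_c45 LD3_c38)) = (LP (LK LD1_c11 LD2_c44 LD3_c19)) :=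
  Lre_c IH (LK LD1_c20 LD2_c45 LD3_c38) (LK LD1_c11 LD2_c44 LD3_c19) Lrfl Lrfl
theorem f750028 : Led Lsl_ff (LP (LK LD1_c20 LD2_c45 LD3_c38)) = (LP (LK LD1_c20 LD2_c46 LD3_c50)) :=
  Lgr Lrot23 (Lpr_ct (f746276 IH) (Lpr_ft (f746271 IH) (Lpr_ct (K56.f750021 IH) (Lpn (LP (LK LD1_c20 LD2_c46 LD3_c50))))))
theorem f750031 : Led Lsl_ft (LP (LK LD1_c20 LD2_c45 LD3_c38)) = (LP (LK LD1_c20 LD2_c46 LD3_c50)) :=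
  Lgr Lrot48 (Lpr_ff (f750028 IH) (Lpn (LP (LK LD1_c20 LD2_c46 LD3_c50))))
theorem f558622 : Led Lsl_ct (LP (LK LD1_c20 LD2_c45 LD3_c41)) = (LP (LK LD1_c11 LD2_c44 LD3_c20)) :=
  Lre_c IH (LK LD1_c20 LD2_c45 LD3_c41) (LK LD1_c11 LD2_c44 LD3_c20) Lrfl Lrfl
theorem f750023 : Led Lsl_af (LP (LK LD1_c20 LD2_c45 LD3_c41)) = (LP (LK LD1_c20 LD2_c46 LD3_c50)) :=
  Lgr Lrot68 (Lpr_ct (f558622 IH) (Lpr_at (K55.f746297 IH) (Lpr_ct (K56.f750021 IH) (Lpn (LP (LK LD1_c20 LD2_c46 LD3_c50))))))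
theorem f825930 : Led Lsl_gt (LP (LK LD1_c20 LD2_c46 LD3_c53)) = (LP (LK LD1_c20 LD2_c45 LD3_c41)) :=
  Lgr Lrot46 (Lpr_gf (K65.f825928 IH) (Lpr_ft (f750031 IH) (Lpe (f750023 IH) (Lpn (LP (LK LD1_c20 LD2_c45 LD3_c41))))))
theorem f641406 : Led Lsl_ct (LP (LK LD1_c11 LD2_c44 LD3_c20)) = (LP (LK LD1_c20 LD2_c45 LD3_c41)) :=
  Lre_c IH (LK LD1_c11 LD2_c44 LD3_c20) (LK LD1_c20 LD2_c45 LD3_c41) Lrfl Lrfl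
theorem f910259 : Led Lsl_bf (LP (LK LD1_c17 LD2_c21 LD3_c55)) = (LP (LK LD1_c11 LD2_c44 LD3_c20)) :=
  Lgr Lrot156 (Lpr_gt (f207929 IH) (Lpe (f133182 IH) (Lpr_ct (f703959 IH) (Lpr_gt (f910258 IH) (Lpe (f910256 IH) (Lpr_bt (f774211 IH) (Lpe (f774269 IH) (Lpr_ct (f498378 IH) (Lpr_gt (f825930 IH) (Lpe (f641406 IH) (Lpn (LP (LK LD1_c11 LD2_c44 LD3_c20)))))))))))))
theorem f910260 : Led Lsl_bt (LP (LK LD1_c11 LD2_c44 LD3_c20)) = (LP (LK LD1_c17 LD2_c21 LD3_c55)) :=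
  Leop (Lpr_bf (f910259 IH) (Lpn (LP (LK LD1_c11 LD2_c44 LD3_c20))))
theorem seed_2331 : LEOK LG_b (LK LD1_c11 LD2_c44 LD3_c20) :=
  Leoe_b (LK LD1_c11 LD2_c44 LD3_c20) (f910260 IH)
def v39620 : LQ := Led Lsl_bt (LP (LK LD1_c9 LD2_c25 LD3_c53))
theorem f910310 : Led Lsl_bt (LP (LK LD1_c9 LD2_c25 LD3_c53)) = v39620 :=
  Lrfl
theorem f910311 : Led Lsl_bf (LP (LK LD1_c9 LD2_c25 LD3_c53)) = v39620 :=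
  Lgr Lrot24 (Lpr_bt (f910310 IH) (Lpn v39620))
def v2128 : LQ := Led Lsl_gf (LP (LK LD1_c1 LD2_c36 LD3_c6))
theorem f509137 : Led Lsl_gf (LP (LK LD1_c1 LD2_c36 LD3_c6)) = v2128 :=
  Lrfl
theorem f770481 : (LP (LK LD1_c2 LD2_c20 LD3_c41)) = v2128 :=
  Lefun (Lecon (Lfl_gt (K58.f633162 IH)) (K58.f770447 IH)) (f509137 IH)
theorem f671810 : Led Lsl_bt (LP (LK LD1_c12 LD2_c15 LD3_c46)) = (LP (LK LD1_c6 LD2_c20 LD3_c46)) :=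
  Lre_b IH (LK LD1_c12 LD2_c15 LD3_c46) (LK LD1_c6 LD2_c20 LD3_c46) Lrfl Lrfl
theorem f647618 : Led Lsl_ct (LP (LK LD1_c12 LD2_c15 LD3_c46)) = (LP (LK LD1_c6 LD2_c20 LD3_c48)) :=
  Lre_c IH (LK LD1_c12 LD2_c15 LD3_c46) (LK LD1_c6 LD2_c20 LD3_c48) Lrfl Lrfl
theorem f204607 : Led Lsl_gt (LP (LK LD1_c12 LD2_c15 LD3_c51)) = (LP (LK LD1_c6 LD2_c20 LD3_c48)) :=
  Lre_g IH (LK LD1_c12 LD2_c15 LD3_c51) (LK LD1_c6 LD2_c20 LD3_c48) Lrfl Lrfl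
theorem f910316 : Led Lsl_cf (LP (LK LD1_c12 LD2_c15 LD3_c51)) = v39620 :=
  Lgr Lrot160 (Lpr_gt (f204607 IH) (Lpe (f647618 IH) (Lpr_bt (f671810 IH) (Lpqs (K58.f770551 IH) (Lpe (K58.f703474 IH) (Lpr_ct (K66.f113647 IH) (Lpqs (f770481 IH) (Lpe (f509137 IH) (Lpe (K57.f146024 IH) (Lpr_bt (f644231 IH) (Lpq (K50.f644200 IH) (Lpe (K50.f641461 IH) (Lpr_bf (f910311 IH) (Lpn v39620))))))))))))))
def v13659 : LQ := Led Lsl_et (LP (LK LD1_c4 LD2_c46 LD3_c33))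
theorem f704107 : Led Lsl_et (LP (LK LD1_c4 LD2_c46 LD3_c33)) = v13659 :=
  Lrfl
theorem f139301 : Led Lsl_et (LP (LK LD1_c4 LD2_c46 LD3_c36)) = (LP (LK LD1_c2 LD2_c21 LD3_c14)) :=
  Lre_e IH (LK LD1_c4 LD2_c46 LD3_c36) (LK LD1_c2 LD2_c21 LD3_c14) Lrfl Lrfl
theorem f704108 : Led Lsl_bf (LP (LK LD1_c4 LD2_c46 LD3_c36)) = v13659 :=
  Lgr Lrot96 (Lpr_et (f139301 IH) (Lpr_bt (K32.f150396 IH) (Lpr_et (f704107 IH) (Lpn v13659))))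
theorem f910313 : Led Lsl_ff v13659 = v39620 :=
  Lgr Lrot25 (Lpe (f704108 IH) (Lpr_ft (K42.f497074 IH) (Lpr_bt (f910310 IH) (Lpn v39620))))
theorem f910315 : Led Lsl_ft v13659 = v39620 :=
  Lgr Lrot48 (Lpr_ff (f910313 IH) (Lpn v39620))
theorem f704110 : Led Lsl_ef (LP (LK LD1_c4 LD2_c46 LD3_c33)) = v13659 :=
  Lgr Lrot88 (Lpr_et (f704107 IH) (Lpn v13659))
theorem f704112 : Led Lsl_ct (LP (LK LD1_c12 LD2_c42 LD3_c14)) = v13659 :=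
  Lgr Lrot15 (Lpe (K49.f206645 IH) (Lpe (K32.f419892 IH) (Lpr_ef (f704110 IH) (Lpn v13659))))
theorem f910318 : Led Lsl_ft (LP (LK LD1_c12 LD2_c15 LD3_c51)) = (LP (LK LD1_c12 LD2_c42 LD3_c14)) :=
  Lgr Lrot4 (Lpr_cf (f910316 IH) (Lpe (f910315 IH) (Lpe (f704112 IH) (Lpn (LP (LK LD1_c12 LD2_c42 LD3_c14))))))
theorem f910319 : Led Lsl_ft (LP (LK LD1_c12 LD2_c15 LD3_c51)) = (LP (LK LD1_c12 LD2_c42 LD3_c14)) :=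
  Leop (Lpe (f910318 IH) (Lpn (LP (LK LD1_c12 LD2_c15 LD3_c51))))
theorem seed_2332 : LEOK LG_f (LK LD1_c12 LD2_c15 LD3_c51) :=
  Leoe_f (LK LD1_c12 LD2_c15 LD3_c51) (f910319 IH)
def v39626 : LQ := Led Lsl_ft (LP (LK LD1_c9 LD2_c25 LD3_c59))
theorem f910344 : Led Lsl_ft (LP (LK LD1_c9 LD2_c25 LD3_c59)) = v39626 :=
  Lrfl
theorem f910347 : Led Lsl_ff (LP (LK LD1_c9 LD2_c25 LD3_c59)) = v39626 :=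
  Lgr Lrot3 (Lpr_ft (f910344 IH) (Lpn v39626))
theorem f498370 : Led Lsl_at (LP (LK LD1_c9 LD2_c25 LD3_c59)) = (LP (LK LD1_c6 LD2_c0 LD3_c35)) :=
  Lgr Lrot100 (Lpr_af (K52.f498368 IH) (Lpn (LP (LK LD1_c6 LD2_c0 LD3_c35))))
theorem f910350 : Led Lsl_gf (LP (LK LD1_c11 LD2_c45 LD3_c32)) = v39626 :=
  Lgr Lrot47 (Lpr_gt (K59.f76288 IH) (Lpe (f498370 IH) (Lpr_ff (f910347 IH) (Lpn v39626))))
theorem f910349 : Led Lsl_dt K52.v13662 = v39626 :=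
  Lgr Lrot60 (Lpe (K52.f704116 IH) (Lpe (K52.f156823 IH) (Lpr_ff (f910347 IH) (Lpn v39626))))
theorem f76062 : Led Lsl_ct (LP (LK LD1_c1 LD2_c24 LD3_c1)) = (LP (LK LD1_c2 LD2_c56 LD3_c15)) :=
  Lre_c IH (LK LD1_c1 LD2_c24 LD3_c1) (LK LD1_c2 LD2_c56 LD3_c15) Lrfl Lrfl
theorem f502219 : Led Lsl_gt (LP (LK LD1_c20 LD2_c45 LD3_c44)) = (LP (LK LD1_c11 LD2_c44 LD3_c21)) :=
  Lre_g IH (LK LD1_c20 LD2_c45 LD3_c44) (LK LD1_c11 LD2_c44 LD3_c21) Lrfl Lrfl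
theorem f910352 : Led Lsl_ct (LP (LK LD1_c11 LD2_c45 LD3_c32)) = (LP (LK LD1_c20 LD2_c45 LD3_c44)) :=
  Lgr Lrot152 (Lpr_gf (f910350 IH) (Lpe (f910349 IH) (Lpe (K56.f704123 IH) (Lpq (K56.f749995 IH) (Lpr_ct (K56.f502756 IH) (Lpr_gt (K48.f75822 IH) (Lpr_ct (f76062 IH) (Lpe (K40.f500810 IH) (Lpe (K40.f500811 IH) (Lpe (f502219 IH) (Lpn (LP (LK LD1_c20 LD2_c45 LD3_c44)))))))))))))
theorem f910353 : Led Lsl_ct (LP (LK LD1_c11 LD2_c45 LD3_c32)) = (LP (LK LD1_c20 LD2_c45 LD3_c44)) :=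
  Leop (Lpe (f910352 IH) (Lpn (LP (LK LD1_c11 LD2_c45 LD3_c32))))
theorem seed_2333 : LEOK LG_c (LK LD1_c11 LD2_c45 LD3_c32) :=
  Leoe_c (LK LD1_c11 LD2_c45 LD3_c32) (f910353 IH)
def v39630 : LQ := Led Lsl_bt (LP (LK LD1_c9 LD2_c26 LD3_c0))
theorem f910435 : Led Lsl_bt (LP (LK LD1_c9 LD2_c26 LD3_c0)) = v39630 :=
  Lrfl
theorem f704152 : Led Lsl_ff (LP (LK LD1_c4 LD2_c46 LD3_c47)) = K60.v13665 :=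
  Lgr Lrot3 (Lpr_ft (K60.f704149 IH) (Lpn K60.v13665))
def v13668 : LQ := Led Lsl_ft (LP (LK LD1_c4 LD2_c46 LD3_c46))
theorem f704161 : Led Lsl_ft (LP (LK LD1_c4 LD2_c46 LD3_c46)) = v13668 :=
  Lrfl
theorem f704163 : Led Lsl_ff (LP (LK LD1_c4 LD2_c46 LD3_c46)) = v13668 :=
  Lgr Lrot3 (Lpr_ft (f704161 IH) (Lpn v13668))
theorem f704164 : Led Lsl_at (LP (LK LD1_c4 LD2_c46 LD3_c47)) = v13668 :=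
  Lgr Lrot66 (Lpr_ff (f704152 IH) (Lpe (K60.f704147 IH) (Lpr_ff (f704163 IH) (Lpn v13668))))
theorem f495026 : Led Lsl_gt (LP (LK LD1_c4 LD2_c46 LD3_c49)) = (LP (LK LD1_c9 LD2_c26 LD3_c0)) :=
  Lre_g IH (LK LD1_c4 LD2_c46 LD3_c49) (LK LD1_c9 LD2_c26 LD3_c0) Lrfl Lrfl
theorem f785267 : v13668 = (LP (LK LD1_c9 LD2_c26 LD3_c0)) :=
  (Llr Lrot26 (Lpe (f704164 IH) (Lpr_ff (f704152 IH) (Lpqs (K60.f785142 IH) (Lpr_gt (K17.f105085 IH) (Lpr_gt (f495026 IH) (Lpn (LP (LK LD1_c9 LD2_c26 LD3_c0))))))))).symm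
def v13666 : LQ := Led Lsl_bt (LP (LK LD1_c4 LD2_c46 LD3_c46))
theorem f704154 : Led Lsl_bt (LP (LK LD1_c4 LD2_c46 LD3_c46)) = v13666 :=
  Lrfl
theorem f704155 : Led Lsl_bf (LP (LK LD1_c4 LD2_c46 LD3_c46)) = v13666 :=
  Lgr Lrot24 (Lpr_bt (f704154 IH) (Lpn v13666))
theorem f910437 : Led Lsl_ff v13666 = v39630 :=
  Lgr Lrot25 (Lpe (f704155 IH) (Lpr_ft (f704161 IH) (Lpqs (f785267 IH) (Lpr_bt (f910435 IH) (Lpn v39630)))))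
theorem f910439 : Led Lsl_ft v13666 = v39630 :=
  Lgr Lrot48 (Lpr_ff (f910437 IH) (Lpn v39630))
theorem f704157 : Led Lsl_bt (LP (LK LD1_c17 LD2_c19 LD3_c54)) = (LP (LK LD1_c9 LD2_c26 LD3_c2)) :=
  Lre_b IH (LK LD1_c17 LD2_c19 LD3_c54) (LK LD1_c9 LD2_c26 LD3_c2) Lrfl Lrfl
theorem f105499 : Led Lsl_ct (LP (LK LD1_c12 LD2_c44 LD3_c61)) = (LP (LK LD1_c6 LD2_c39 LD3_c35)) :=
  Lre_c IH (LK LD1_c12 LD2_c44 LD3_c61) (LK LD1_c6 LD2_c39 LD3_c35) Lrfl Lrfl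
theorem f105456 : Led Lsl_gt (LP (LK LD1_c6 LD2_c39 LD3_c35)) = (LP (LK LD1_c12 LD2_c45 LD3_c0)) :=
  Lre_g IH (LK LD1_c6 LD2_c39 LD3_c35) (LK LD1_c12 LD2_c45 LD3_c0) Lrfl Lrfl
theorem f708605 : Led Lsl_ct v13666 = (LP (LK LD1_c12 LD2_c45 LD3_c0)) :=
  Lgr Lrot63 (Lpe (f704155 IH) (Lpr_gt (K53.f75295 IH) (Lpe (f704157 IH) (Lpr_ct (K60.f704158 IH) (Lpr_gt (K60.f652751 IH) (Lpe (K60.f141142 IH) (Lpr_bt (K60.f708563 IH) (Lpr_gt (K60.f708603 IH) (Lpr_ct (f105499 IH) (Lpr_gt (f105456 IH) (Lpn (LP (LK LD1_c12 LD2_c45 LD3_c0)))))))))))))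
theorem f708638 : Led Lsl_cf v13666 = (LP (LK LD1_c12 LD2_c45 LD3_c0)) :=
  Lgr Lrot11 (Lpr_ct (f708605 IH) (Lpn (LP (LK LD1_c12 LD2_c45 LD3_c0))))
theorem f785168 : K60.v20164 = K60.v19771 :=
  Lefun (Lecon (K60.f785136 IH) (K65.f785163 IH).symm) (K60.f782044 IH)
theorem f710643 : Led Lsl_ct (LP (LK LD1_c11 LD2_c36 LD3_c41)) = (LP (LK LD1_c6 LD2_c51 LD3_c10)) :=
  Lgr Lrot59 (Lpr_cf (K54.f710637 IH) (Lpn (LP (LK LD1_c6 LD2_c51 LD3_c10))))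
theorem f161640 : Led Lsl_gt (LP (LK LD1_c9 LD2_c7 LD3_c10)) = (LP (LK LD1_c16 LD2_c59 LD3_c25)) :=
  Lre_g IH (LK LD1_c9 LD2_c7 LD3_c10) (LK LD1_c16 LD2_c59 LD3_c25) Lrfl Lrfl
theorem f782046 : Led Lsl_cf (LP (LK LD1_c16 LD2_c59 LD3_c25)) = K60.v19771 :=
  Lgr Lrot58 (Lpe (f161640 IH) (Lpe (K54.f163125 IH) (Lpr_bt (K54.f549481 IH) (Lpr_gf (K60.f670321 IH) (Lpr_bf (K60.f780846 IH) (Lpe (K60.f780845 IH) (Lpe (K51.f414019 IH) (Lpe (K51.f413889 IH) (Lpe (K60.f413578 IH) (Lpr_bf (K60.f782045 IH) (Lpn K60.v19771)))))))))))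
theorem f785202 : Led Lsl_ff (LP (LK LD1_c11 LD2_c36 LD3_c41)) = (LP (LK LD1_c16 LD2_c59 LD3_c25)) :=
  Lgr Lrot23 (Lpr_ct (f710643 IH) (Lpr_ft (K60.f785131 IH) (Lpqs (f785168 IH) (Lpq (K60.f782061 IH) (Lpqs (K60.f782061 IH) (Lpe (f782046 IH) (Lpn (LP (LK LD1_c16 LD2_c59 LD3_c25)))))))))
theorem f510260 : Led Lsl_dt (LP (LK LD1_c9 LD2_c31 LD3_c29)) = (LP (LK LD1_c17 LD2_c33 LD3_c20)) :=
  Lre_d IH (LK LD1_c9 LD2_c31 LD3_c29) (LK LD1_c17 LD2_c33 LD3_c20) Lrfl Lrfl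
theorem f710621 : Led Lsl_af (LP (LK LD1_c9 LD2_c31 LD3_c29)) = (LP (LK LD1_c6 LD2_c45 LD3_c12)) :=
  Lgr Lrot117 (Lpr_dt (f510260 IH) (Lpr_at (K52.f710617 IH) (Lpr_dt (K52.f652939 IH) (Lpn (LP (LK LD1_c6 LD2_c45 LD3_c12))))))
theorem f710672 : Led Lsl_gt (LP (LK LD1_c16 LD2_c59 LD3_c25)) = (LP (LK LD1_c9 LD2_c31 LD3_c29)) :=
  Lgr Lrot46 (Lpe (f161640 IH) (Lpr_ft (K52.f710626 IH) (Lpe (f710621 IH) (Lpn (LP (LK LD1_c9 LD2_c31 LD3_c29))))))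
theorem f707278 : Led Lsl_gt (LP (LK LD1_c9 LD2_c31 LD3_c29)) = (LP (LK LD1_c16 LD2_c59 LD3_c26)) :=
  Lgr Lrot5 (Lpr_ft (K52.f707272 IH) (Lpr_at (K52.f163118 IH) (Lpe (K54.f161639 IH) (Lpn (LP (LK LD1_c16 LD2_c59 LD3_c26))))))
theorem f785208 : Led Lsl_at (LP (LK LD1_c11 LD2_c36 LD3_c41)) = (LP (LK LD1_c16 LD2_c59 LD3_c26)) :=
  Lgr Lrot26 (Lpr_ff (f785202 IH) (Lpr_gt (f710672 IH) (Lpr_gt (f707278 IH) (Lpn (LP (LK LD1_c16 LD2_c59 LD3_c26))))))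
theorem f735921 : Led Lsl_cf (LP (LK LD1_c11 LD2_c26 LD3_c2)) = (LP (LK LD1_c16 LD2_c59 LD3_c26)) :=
  Lgr Lrot11 (Lpr_ct (K54.f735919 IH) (Lpn (LP (LK LD1_c16 LD2_c59 LD3_c26))))
theorem f785212 : K60.v20163 = (LP (LK LD1_c11 LD2_c26 LD3_c2)) :=
  (Llr Lrot68 (Lpe (K60.f785128 IH) (Lpe (K54.f710637 IH) (Lpr_at (f785208 IH) (Lpe (f735921 IH) (Lpn (LP (LK LD1_c11 LD2_c26 LD3_c2)))))))).symm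
theorem f781292 : Led Lsl_ct (LP (LK LD1_c11 LD2_c36 LD3_c40)) = (LP (LK LD1_c17 LD2_c23 LD3_c60)) :=
  Lgr Lrot59 (Lpr_cf (K60.f781288 IH) (Lpn (LP (LK LD1_c17 LD2_c23 LD3_c60))))
theorem f785217 : Led Lsl_ff (LP (LK LD1_c11 LD2_c36 LD3_c40)) = (LP (LK LD1_c16 LD2_c59 LD3_c26)) :=
  Lgr Lrot23 (Lpr_ct (f781292 IH) (Lpr_ft (K60.f785129 IH) (Lpqs (f785212 IH) (Lpr_ct (K54.f735919 IH) (Lpn (LP (LK LD1_c16 LD2_c59 LD3_c26)))))))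
theorem f785223 : Led Lsl_ft (LP (LK LD1_c11 LD2_c36 LD3_c40)) = (LP (LK LD1_c16 LD2_c59 LD3_c26)) :=
  Lgr Lrot48 (Lpr_ff (f785217 IH) (Lpn (LP (LK LD1_c16 LD2_c59 LD3_c26))))
theorem f781298 : Led Lsl_bf (LP (LK LD1_c11 LD2_c36 LD3_c40)) = (LP (LK LD1_c12 LD2_c45 LD3_c0)) :=
  Lgr Lrot90 (Lpr_ct (f781292 IH) (Lpr_bt (K60.f672106 IH) (Lpr_ct (K53.f510307 IH) (Lpr_bt (f704154 IH) (Lpr_ct (f708605 IH) (Lpn (LP (LK LD1_c12 LD2_c45 LD3_c0))))))))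
theorem f120140 : Led Lsl_ct (LP (LK LD1_c3 LD2_c7 LD3_c36)) = (LP (LK LD1_c1 LD2_c30 LD3_c2)) :=
  Lre_c IH (LK LD1_c3 LD2_c7 LD3_c36) (LK LD1_c1 LD2_c30 LD3_c2) Lrfl Lrfl
theorem f105491 : Led Lsl_bt (LP (LK LD1_c3 LD2_c7 LD3_c36)) = (LP (LK LD1_c6 LD2_c20 LD3_c0)) :=
  Lre_b IH (LK LD1_c3 LD2_c7 LD3_c36) (LK LD1_c6 LD2_c20 LD3_c0) Lrfl Lrfl
theorem f105244 : Led Lsl_gt (LP (LK LD1_c12 LD2_c14 LD3_c46)) = (LP (LK LD1_c6 LD2_c20 LD3_c0)) :=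
  Lre_g IH (LK LD1_c12 LD2_c14 LD3_c46) (LK LD1_c6 LD2_c20 LD3_c0) Lrfl Lrfl
theorem f735924 : Led Lsl_bf (LP (LK LD1_c12 LD2_c14 LD3_c46)) = (LP (LK LD1_c16 LD2_c59 LD3_c26)) :=
  Lgr Lrot156 (Lpr_gt (f105244 IH) (Lpe (f105491 IH) (Lpr_ct (f120140 IH) (Lpq (K65.f707544 IH) (Lpe (K65.f509762 IH) (Lpe (K66.f73756 IH) (Lpe (K49.f140974 IH) (Lpr_gt (K53.f140996 IH) (Lpr_ct (K53.f140999 IH) (Lpe (K54.f710180 IH) (Lpr_cf (f735921 IH) (Lpn (LP (LK LD1_c16 LD2_c59 LD3_c26))))))))))))))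
theorem f785227 : Led Lsl_ff (LP (LK LD1_c12 LD2_c45 LD3_c0)) = (LP (LK LD1_c12 LD2_c14 LD3_c46)) :=
  Lgr Lrot25 (Lpe (f781298 IH) (Lpr_ft (f785223 IH) (Lpe (f735924 IH) (Lpn (LP (LK LD1_c12 LD2_c14 LD3_c46))))))
theorem f910440 : Led Lsl_cf (LP (LK LD1_c12 LD2_c14 LD3_c46)) = v39630 :=
  Lgr Lrot108 (Lpe (f785227 IH) (Lpe (f708638 IH) (Lpr_ft (f910439 IH) (Lpn v39630))))
theorem f129471 : Led Lsl_gt (LP (LK LD1_c6 LD2_c20 LD3_c0)) = (LP (LK LD1_c12 LD2_c14 LD3_c45)) :=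
  Lre_g IH (LK LD1_c6 LD2_c20 LD3_c0) (LK LD1_c12 LD2_c14 LD3_c45) Lrfl Lrfl
theorem f785229 : Led Lsl_at (LP (LK LD1_c12 LD2_c45 LD3_c0)) = (LP (LK LD1_c12 LD2_c14 LD3_c45)) :=
  Lgr Lrot26 (Lpr_ff (f785227 IH) (Lpr_gt (f105244 IH) (Lpr_gt (f129471 IH) (Lpn (LP (LK LD1_c12 LD2_c14 LD3_c45))))))
theorem f785231 : Led Lsl_af (LP (LK LD1_c12 LD2_c45 LD3_c0)) = (LP (LK LD1_c12 LD2_c14 LD3_c45)) :=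
  Lgr Lrot0 (Lpr_at (f785229 IH) (Lpn (LP (LK LD1_c12 LD2_c14 LD3_c45))))
theorem f105455 : Led Lsl_gt (LP (LK LD1_c12 LD2_c45 LD3_c1)) = (LP (LK LD1_c6 LD2_c39 LD3_c35)) :=
  Lre_g IH (LK LD1_c12 LD2_c45 LD3_c1) (LK LD1_c6 LD2_c39 LD3_c35) Lrfl Lrfl
theorem f785233 : Led Lsl_ft (LP (LK LD1_c12 LD2_c45 LD3_c1)) = (LP (LK LD1_c12 LD2_c14 LD3_c45)) :=
  Lgr Lrot2 (Lpr_gt (f105455 IH) (Lpr_gt (f105456 IH) (Lpr_af (f785231 IH) (Lpn (LP (LK LD1_c12 LD2_c14 LD3_c45))))))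
theorem f781290 : Led Lsl_bt (LP (LK LD1_c11 LD2_c36 LD3_c40)) = (LP (LK LD1_c12 LD2_c45 LD3_c0)) :=
  Lgr Lrot128 (Lpr_cf (K60.f781288 IH) (Lpe (K53.f510306 IH) (Lpe (K60.f644049 IH) (Lpr_bf (f704155 IH) (Lpr_cf (f708638 IH) (Lpn (LP (LK LD1_c12 LD2_c45 LD3_c0))))))))
theorem f735926 : Led Lsl_bt (LP (LK LD1_c12 LD2_c14 LD3_c46)) = (LP (LK LD1_c16 LD2_c59 LD3_c26)) :=
  Lgr Lrot127 (Lpr_bf (f735924 IH) (Lpn (LP (LK LD1_c16 LD2_c59 LD3_c26))))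
theorem f785221 : Led Lsl_ft (LP (LK LD1_c12 LD2_c45 LD3_c0)) = (LP (LK LD1_c12 LD2_c14 LD3_c46)) :=
  Lgr Lrot75 (Lpe (f781290 IH) (Lpr_ff (f785217 IH) (Lpe (f735926 IH) (Lpn (LP (LK LD1_c12 LD2_c14 LD3_c46))))))
theorem f785235 : Led Lsl_af (LP (LK LD1_c12 LD2_c45 LD3_c1)) = (LP (LK LD1_c12 LD2_c14 LD3_c46)) :=
  Lgr Lrot45 (Lpr_ft (f785233 IH) (Lpe (f785231 IH) (Lpr_ft (f785221 IH) (Lpn (LP (LK LD1_c12 LD2_c14 LD3_c46))))))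
theorem f760372 : Led Lsl_ct (LP (LK LD1_c12 LD2_c45 LD3_c1)) = (LP (LK LD1_c21 LD2_c52 LD3_c14)) :=
  Lre_c IH (LK LD1_c12 LD2_c45 LD3_c1) (LK LD1_c21 LD2_c52 LD3_c14) Lrfl Lrfl
theorem f910441 : Led Lsl_at (LP (LK LD1_c21 LD2_c52 LD3_c14)) = v39630 :=
  Lgr Lrot107 (Lpe (f760372 IH) (Lpr_af (f785235 IH) (Lpr_cf (f910440 IH) (Lpn v39630))))
theorem f910436 : Led Lsl_bf (LP (LK LD1_c9 LD2_c26 LD3_c0)) = v39630 :=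
  Lgr Lrot24 (Lpr_bt (f910435 IH) (Lpn v39630))
theorem f704162 : Led Lsl_af (LP (LK LD1_c4 LD2_c46 LD3_c47)) = v13668 :=
  Lgr Lrot45 (Lpr_ft (K60.f704149 IH) (Lpe (K60.f704148 IH) (Lpr_ft (f704161 IH) (Lpn v13668))))
theorem f413592 : Led Lsl_bt (LP (LK LD1_c4 LD2_c46 LD3_c47)) = (LP (LK LD1_c9 LD2_c26 LD3_c15)) :=
  Lre_b IH (LK LD1_c4 LD2_c46 LD3_c47) (LK LD1_c9 LD2_c26 LD3_c15) Lrfl Lrfl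
theorem f704166 : Led Lsl_at (LP (LK LD1_c9 LD2_c26 LD3_c15)) = (LP (LK LD1_c17 LD2_c24 LD3_c0)) :=
  Lre_a IH (LK LD1_c9 LD2_c26 LD3_c15) (LK LD1_c17 LD2_c24 LD3_c0) Lrfl Lrfl
theorem f910443 : Led Lsl_bf (LP (LK LD1_c21 LD2_c52 LD3_c14)) = (LP (LK LD1_c17 LD2_c24 LD3_c0)) :=
  Lgr Lrot81 (Lpr_at (f910441 IH) (Lpe (f910436 IH) (Lpq (f785267 IH) (Lpe (f704162 IH) (Lpr_bt (f413592 IH) (Lpr_at (f704166 IH) (Lpn (LP (LK LD1_c17 LD2_c24 LD3_c0)))))))))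
theorem f910444 : Led Lsl_bt (LP (LK LD1_c17 LD2_c24 LD3_c0)) = (LP (LK LD1_c21 LD2_c52 LD3_c14)) :=
  Leop (Lpr_bf (f910443 IH) (Lpn (LP (LK LD1_c17 LD2_c24 LD3_c0))))
theorem seed_2334 : LEOK LG_b (LK LD1_c17 LD2_c24 LD3_c0) :=
  Leoe_b (LK LD1_c17 LD2_c24 LD3_c0) (f910444 IH)
def v39633 : LQ := Led Lsl_et (LP (LK LD1_c9 LD2_c26 LD3_c0))
theorem f910463 : Led Lsl_et (LP (LK LD1_c9 LD2_c26 LD3_c0)) = v39633 :=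
  Lrfl
theorem f910465 : Led Lsl_ef (LP (LK LD1_c9 LD2_c26 LD3_c0)) = v39633 :=
  Lgr Lrot88 (Lpr_et (f910463 IH) (Lpn v39633))
theorem f76285 : Led Lsl_gt (LP (LK LD1_c9 LD2_c26 LD3_c0)) = (LP (LK LD1_c4 LD2_c46 LD3_c41)) :=
  Lre_g IH (LK LD1_c9 LD2_c26 LD3_c0) (LK LD1_c4 LD2_c46 LD3_c41) Lrfl Lrfl
theorem f76284 : Led Lsl_et (LP (LK LD1_c2 LD2_c21 LD3_c16)) = (LP (LK LD1_c4 LD2_c46 LD3_c41)) :=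
  Lre_e IH (LK LD1_c2 LD2_c21 LD3_c16) (LK LD1_c4 LD2_c46 LD3_c41) Lrfl Lrfl
theorem f442946 : Led Lsl_dt (LP (LK LD1_c5 LD2_c57 LD3_c16)) = (LP (LK LD1_c11 LD2_c39 LD3_c52)) :=
  Lre_d IH (LK LD1_c5 LD2_c57 LD3_c16) (LK LD1_c11 LD2_c39 LD3_c52) Lrfl Lrfl
theorem f443001 : Led Lsl_gt (LP (LK LD1_c11 LD2_c39 LD3_c52)) = (LP (LK LD1_c20 LD2_c39 LD3_c52)) :=
  Lre_g IH (LK LD1_c11 LD2_c39 LD3_c52) (LK LD1_c20 LD2_c39 LD3_c52) Lrfl Lrfl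
theorem f910467 : Led Lsl_df (LP (LK LD1_c20 LD2_c39 LD3_c52)) = v39633 :=
  Lgr Lrot132 (Lpe (f443001 IH) (Lpe (f442946 IH) (Lpe (K41.f641776 IH) (Lpe (K4.f74528 IH) (Lpr_dt (K28.f74526 IH) (Lpe (K2.f14147 IH) (Lpe (K2.f74322 IH) (Lpr_et (f76284 IH) (Lpe (f76285 IH) (Lpr_ef (f910465 IH) (Lpn v39633)))))))))))
theorem f704153 : Led Lsl_et (LP (LK LD1_c4 LD2_c46 LD3_c47)) = (LP (LK LD1_c9 LD2_c26 LD3_c18)) :=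
  Lre_e IH (LK LD1_c4 LD2_c46 LD3_c47) (LK LD1_c9 LD2_c26 LD3_c18) Lrfl Lrfl
theorem f910466 : Led Lsl_at (LP (LK LD1_c9 LD2_c26 LD3_c18)) = v39633 :=
  Lgr Lrot80 (Lpe (f704153 IH) (Lpr_af (f704162 IH) (Lpqs (f785267 IH) (Lpr_ef (f910465 IH) (Lpn v39633)))))
theorem f711423 : Led Lsl_dt (LP (LK LD1_c17 LD2_c24 LD3_c6)) = (LP (LK LD1_c9 LD2_c26 LD3_c18)) :=
  Lre_d IH (LK LD1_c17 LD2_c24 LD3_c6) (LK LD1_c9 LD2_c26 LD3_c18) Lrfl Lrfl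
theorem f910468 : Led Lsl_at (LP (LK LD1_c20 LD2_c39 LD3_c52)) = (LP (LK LD1_c17 LD2_c24 LD3_c6)) :=
  Lgr Lrot51 (Lpr_df (f910467 IH) (Lpe (f910466 IH) (Lpe (f711423 IH) (Lpn (LP (LK LD1_c17 LD2_c24 LD3_c6))))))
theorem f910469 : Led Lsl_at (LP (LK LD1_c20 LD2_c39 LD3_c52)) = (LP (LK LD1_c17 LD2_c24 LD3_c6)) :=
  Leop (Lpe (f910468 IH) (Lpn (LP (LK LD1_c20 LD2_c39 LD3_c52))))
theorem seed_2335 : LEOK LG_a (LK LD1_c20 LD2_c39 LD3_c52) :=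
  Leoe_a (LK LD1_c20 LD2_c39 LD3_c52) (f910469 IH)
def v39637 : LQ := Led Lsl_ft (LP (LK LD1_c9 LD2_c26 LD3_c4))
theorem f910504 : Led Lsl_ft (LP (LK LD1_c9 LD2_c26 LD3_c4)) = v39637 :=
  Lrfl
theorem f139242 : Led Lsl_gt (LP (LK LD1_c9 LD2_c26 LD3_c4)) = (LP (LK LD1_c17 LD2_c23 LD3_c39)) :=
  Lre_g IH (LK LD1_c9 LD2_c26 LD3_c4) (LK LD1_c17 LD2_c23 LD3_c39) Lrfl Lrfl
theorem f74353 : Led Lsl_et (LP (LK LD1_c2 LD2_c56 LD3_c39)) = (LP (LK LD1_c6 LD2_c0 LD3_c46)) :=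
  Lre_e IH (LK LD1_c2 LD2_c56 LD3_c39) (LK LD1_c6 LD2_c0 LD3_c46) Lrfl Lrfl
theorem f139186 : Led Lsl_et (LP (LK LD1_c9 LD2_c26 LD3_c4)) = (LP (LK LD1_c4 LD2_c46 LD3_c42)) :=
  Lre_e IH (LK LD1_c9 LD2_c26 LD3_c4) (LK LD1_c4 LD2_c46 LD3_c42) Lrfl Lrfl
theorem f139187 : Led Lsl_at (LP (LK LD1_c6 LD2_c0 LD3_c46)) = (LP (LK LD1_c9 LD2_c26 LD3_c4)) :=
  Lgr Lrot80 (Lpe (f74353 IH) (Lpr_af (K8.f139179 IH) (Lpe (f139186 IH) (Lpn (LP (LK LD1_c9 LD2_c26 LD3_c4))))))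
theorem f74351 : Led Lsl_ft (LP (LK LD1_c11 LD2_c45 LD3_c55)) = (LP (LK LD1_c6 LD2_c0 LD3_c46)) :=
  Lre_f IH (LK LD1_c11 LD2_c45 LD3_c55) (LK LD1_c6 LD2_c0 LD3_c46) Lrfl Lrfl
theorem f910505 : Led Lsl_af (LP (LK LD1_c11 LD2_c45 LD3_c55)) = v39637 :=
  Lgr Lrot45 (Lpr_ft (f74351 IH) (Lpr_at (f139187 IH) (Lpr_ft (f910504 IH) (Lpn v39637))))
theorem f910508 : Led Lsl_gt (LP (LK LD1_c17 LD2_c23 LD3_c39)) = (LP (LK LD1_c11 LD2_c45 LD3_c55)) :=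
  Lgr Lrot46 (Lpe (f139242 IH) (Lpr_ft (f910504 IH) (Lpe (f910505 IH) (Lpn (LP (LK LD1_c11 LD2_c45 LD3_c55))))))
theorem f910509 : Led Lsl_gt (LP (LK LD1_c17 LD2_c23 LD3_c39)) = (LP (LK LD1_c11 LD2_c45 LD3_c55)) :=
  Leop (Lpe (f910508 IH) (Lpn (LP (LK LD1_c17 LD2_c23 LD3_c39))))
theorem seed_2336 : LEOK LG_g (LK LD1_c17 LD2_c23 LD3_c39) :=
  Leoe_g (LK LD1_c17 LD2_c23 LD3_c39) (f910509 IH)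
def v39652 : LQ := Led Lsl_ct (LP (LK LD1_c9 LD2_c26 LD3_c15))
theorem f910615 : Led Lsl_ct (LP (LK LD1_c9 LD2_c26 LD3_c15)) = v39652 :=
  Lrfl
theorem f413582 : Led Lsl_bt (LP (LK LD1_c9 LD2_c26 LD3_c15)) = (LP (LK LD1_c4 LD2_c46 LD3_c47)) :=
  Lre_b IH (LK LD1_c9 LD2_c26 LD3_c15) (LK LD1_c4 LD2_c46 LD3_c47) Lrfl Lrfl
theorem f495042 : Led Lsl_bt (LP (LK LD1_c1 LD2_c7 LD3_c56)) = (LP (LK LD1_c2 LD2_c21 LD3_c18)) :=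
  Lre_b IH (LK LD1_c1 LD2_c7 LD3_c56) (LK LD1_c2 LD2_c21 LD3_c18) Lrfl Lrfl
theorem f454789 : Led Lsl_ct (LP (LK LD1_c1 LD2_c7 LD3_c56)) = (LP (LK LD1_c0 LD2_c31 LD3_c9)) :=
  Lre_c IH (LK LD1_c1 LD2_c7 LD3_c56) (LK LD1_c0 LD2_c31 LD3_c9) Lrfl Lrfl
theorem f495060 : Led Lsl_bt (LP (LK LD1_c2 LD2_c21 LD3_c30)) = (LP (LK LD1_c4 LD2_c47 LD3_c17)) :=
  Lre_b IH (LK LD1_c2 LD2_c21 LD3_c30) (LK LD1_c4 LD2_c47 LD3_c17) Lrfl Lrfl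
theorem f416446 : Led Lsl_gt (LP (LK LD1_c4 LD2_c47 LD3_c17)) = (LP (LK LD1_c9 LD2_c27 LD3_c36)) :=
  Lre_g IH (LK LD1_c4 LD2_c47 LD3_c17) (LK LD1_c9 LD2_c27 LD3_c36) Lrfl Lrfl
theorem f674152 : Led Lsl_ct (LP (LK LD1_c9 LD2_c27 LD3_c36)) = (LP (LK LD1_c17 LD2_c26 LD3_c46)) :=
  Lre_c IH (LK LD1_c9 LD2_c27 LD3_c36) (LK LD1_c17 LD2_c26 LD3_c46) Lrfl Lrfl
theorem f910619 : Led Lsl_gt (LP (LK LD1_c17 LD2_c26 LD3_c46)) = v39652 :=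
  Lgr Lrot149 (Lpe (f674152 IH) (Lpe (f416446 IH) (Lpe (f495060 IH) (Lpr_ct (K51.f495046 IH) (Lpe (K35.f76948 IH) (Lpe (f454789 IH) (Lpr_bt (f495042 IH) (Lpe (K17.f139228 IH) (Lpe (f413582 IH) (Lpr_ct (f910615 IH) (Lpn v39652)))))))))))
theorem f910620 : Led Lsl_bt (LP (LK LD1_c9 LD2_c27 LD3_c36)) = (LP (LK LD1_c17 LD2_c26 LD3_c45)) :=
  Lre_b IH (LK LD1_c9 LD2_c27 LD3_c36) (LK LD1_c17 LD2_c26 LD3_c45) Lrfl Lrfl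
theorem f510399 : Led Lsl_ct (LP (LK LD1_c2 LD2_c21 LD3_c18)) = (LP (LK LD1_c1 LD2_c8 LD3_c20)) :=
  Lre_c IH (LK LD1_c2 LD2_c21 LD3_c18) (LK LD1_c1 LD2_c8 LD3_c20) Lrfl Lrfl
theorem f644096 : Led Lsl_bt (LP (LK LD1_c4 LD2_c49 LD3_c2)) = (LP (LK LD1_c9 LD2_c30 LD3_c42)) :=
  Lre_b IH (LK LD1_c4 LD2_c49 LD3_c2) (LK LD1_c9 LD2_c30 LD3_c42) Lrfl Lrfl
theorem f910621 : Led Lsl_gf (LP (LK LD1_c17 LD2_c26 LD3_c45)) = (LP (LK LD1_c9 LD2_c30 LD3_c42)) :=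
  Lgr Lrot124 (Lpe (f910620 IH) (Lpr_ct (f674152 IH) (Lpr_gt (f910619 IH) (Lpe (f910615 IH) (Lpr_bt (f413582 IH) (Lpr_gt (K17.f139228 IH) (Lpr_ct (f510399 IH) (Lpr_gt (K17.f75929 IH) (Lpe (K54.f634124 IH) (Lpr_bt (f644096 IH) (Lpn (LP (LK LD1_c9 LD2_c30 LD3_c42)))))))))))))
theorem f910622 : Led Lsl_gt (LP (LK LD1_c9 LD2_c30 LD3_c42)) = (LP (LK LD1_c17 LD2_c26 LD3_c45)) :=
  Leop (Lpr_gf (f910621 IH) (Lpn (LP (LK LD1_c9 LD2_c30 LD3_c42))))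
theorem seed_2337 : LEOK LG_g (LK LD1_c9 LD2_c30 LD3_c42) :=
  Leoe_g (LK LD1_c9 LD2_c30 LD3_c42) (f910622 IH)
def v39670 : LQ := Led Lsl_at (LP (LK LD1_c9 LD2_c26 LD3_c31))
theorem f910704 : Led Lsl_at (LP (LK LD1_c9 LD2_c26 LD3_c31)) = v39670 :=
  Lrfl
theorem f910705 : Led Lsl_af (LP (LK LD1_c9 LD2_c26 LD3_c31)) = v39670 :=
  Lgr Lrot0 (Lpr_at (f910704 IH) (Lpn v39670))
theorem f103076 : Led Lsl_gt (LP (LK LD1_c4 LD2_c46 LD3_c53)) = (LP (LK LD1_c9 LD2_c26 LD3_c31)) :=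
  Lre_g IH (LK LD1_c4 LD2_c46 LD3_c53) (LK LD1_c9 LD2_c26 LD3_c31) Lrfl Lrfl
theorem f103082 : Led Lsl_gt (LP (LK LD1_c9 LD2_c26 LD3_c32)) = (LP (LK LD1_c4 LD2_c46 LD3_c53)) :=
  Lre_g IH (LK LD1_c9 LD2_c26 LD3_c32) (LK LD1_c4 LD2_c46 LD3_c53) Lrfl Lrfl
theorem f910706 : Led Lsl_ft (LP (LK LD1_c9 LD2_c26 LD3_c32)) = v39670 :=
  Lgr Lrot2 (Lpr_gt (f103082 IH) (Lpr_gt (f103076 IH) (Lpr_af (f910705 IH) (Lpn v39670))))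
theorem f910708 : Led Lsl_ff (LP (LK LD1_c9 LD2_c26 LD3_c32)) = v39670 :=
  Lgr Lrot3 (Lpr_ft (f910706 IH) (Lpn v39670))
theorem f103119 : Led Lsl_et (LP (LK LD1_c17 LD2_c24 LD3_c34)) = (LP (LK LD1_c9 LD2_c26 LD3_c32)) :=
  Lre_e IH (LK LD1_c17 LD2_c24 LD3_c34) (LK LD1_c9 LD2_c26 LD3_c32) Lrfl Lrfl
theorem f103120 : Led Lsl_dt (LP (LK LD1_c17 LD2_c24 LD3_c34)) = (LP (LK LD1_c27 LD2_c13 LD3_c44)) :=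
  Lre_d IH (LK LD1_c17 LD2_c24 LD3_c34) (LK LD1_c27 LD2_c13 LD3_c44) Lrfl Lrfl
theorem f74109 : Led Lsl_gt (LP (LK LD1_c6 LD2_c17 LD3_c25)) = (LP (LK LD1_c12 LD2_c11 LD3_c19)) :=
  Lre_g IH (LK LD1_c6 LD2_c17 LD3_c25) (LK LD1_c12 LD2_c11 LD3_c19) Lrfl Lrfl
theorem f74110 : Led Lsl_dt (LP (LK LD1_c12 LD2_c11 LD3_c19)) = (LP (LK LD1_c21 LD2_c16 LD3_c38)) :=
  Lre_d IH (LK LD1_c12 LD2_c11 LD3_c19) (LK LD1_c21 LD2_c16 LD3_c38) Lrfl Lrfl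
theorem f103121 : Led Lsl_gf (LP (LK LD1_c27 LD2_c13 LD3_c44)) = (LP (LK LD1_c21 LD2_c16 LD3_c38)) :=
  Lgr Lrot134 (Lpe (f103120 IH) (Lpr_et (f103119 IH) (Lpr_gt (f103082 IH) (Lpe (K7.f102997 IH) (Lpr_dt (K3.f102995 IH) (Lpe (K3.f103113 IH) (Lpe (K1.f25402 IH) (Lpr_et (K1.f58718 IH) (Lpr_gt (f74109 IH) (Lpr_dt (f74110 IH) (Lpn (LP (LK LD1_c21 LD2_c16 LD3_c38)))))))))))))
theorem f103123 : Led Lsl_dt (LP (LK LD1_c27 LD2_c13 LD3_c44)) = (LP (LK LD1_c17 LD2_c24 LD3_c34)) :=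
  Lre_d IH (LK LD1_c27 LD2_c13 LD3_c44) (LK LD1_c17 LD2_c24 LD3_c34) Lrfl Lrfl
theorem f58707 : Led Lsl_ct (LP (LK LD1_c9 LD2_c16 LD3_c45)) = (LP (LK LD1_c17 LD2_c11 LD3_c31)) :=
  Lre_c IH (LK LD1_c9 LD2_c16 LD3_c45) (LK LD1_c17 LD2_c11 LD3_c31) Lrfl Lrfl
theorem f74085 : Led Lsl_ct (LP (LK LD1_c17 LD2_c10 LD3_c37)) = (LP (LK LD1_c12 LD2_c11 LD3_c22)) :=
  Lgr Lrot15 (Lpr_ef (K4.f74080 IH) (Lpe (f58707 IH) (Lpr_ef (K1.f58701 IH) (Lpn (LP (LK LD1_c12 LD2_c11 LD3_c22))))))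
theorem f74082 : Led Lsl_ft (LP (LK LD1_c9 LD2_c16 LD3_c2)) = (LP (LK LD1_c17 LD2_c10 LD3_c37)) :=
  Lre_f IH (LK LD1_c9 LD2_c16 LD3_c2) (LK LD1_c17 LD2_c10 LD3_c37) Lrfl Lrfl
theorem f58704 : Led Lsl_ft (LP (LK LD1_c12 LD2_c11 LD3_c22)) = (LP (LK LD1_c6 LD2_c17 LD3_c25)) :=
  Lre_f IH (LK LD1_c12 LD2_c11 LD3_c22) (LK LD1_c6 LD2_c17 LD3_c25) Lrfl Lrfl
theorem f74093 : Led Lsl_cf (LP (LK LD1_c9 LD2_c16 LD3_c2)) = (LP (LK LD1_c6 LD2_c17 LD3_c25)) :=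
  Lgr Lrot108 (Lpr_ft (f74082 IH) (Lpr_ct (f74085 IH) (Lpr_ft (f58704 IH) (Lpn (LP (LK LD1_c6 LD2_c17 LD3_c25))))))
theorem f74108 : Led Lsl_dt (LP (LK LD1_c17 LD2_c10 LD3_c35)) = (LP (LK LD1_c27 LD2_c1 LD3_c61)) :=
  Lre_d IH (LK LD1_c17 LD2_c10 LD3_c35) (LK LD1_c27 LD2_c1 LD3_c61) Lrfl Lrfl
theorem f98919 : Led Lsl_et (LP (LK LD1_c17 LD2_c24 LD3_c27)) = (LP (LK LD1_c9 LD2_c26 LD3_c27)) :=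
  Lre_e IH (LK LD1_c17 LD2_c24 LD3_c27) (LK LD1_c9 LD2_c26 LD3_c27) Lrfl Lrfl
theorem f98920 : Led Lsl_dt (LP (LK LD1_c17 LD2_c24 LD3_c27)) = (LP (LK LD1_c27 LD2_c13 LD3_c36)) :=
  Lre_d IH (LK LD1_c17 LD2_c24 LD3_c27) (LK LD1_c27 LD2_c13 LD3_c36) Lrfl Lrfl
theorem f98921 : Led Lsl_gt (LP (LK LD1_c27 LD2_c1 LD3_c61)) = (LP (LK LD1_c27 LD2_c13 LD3_c36)) :=
  Lgr Lrot139 (Lpe (f74108 IH) (Lpe (K3.f74107 IH) (Lpe (K3.f74083 IH) (Lpr_dt (K1.f13680 IH) (Lpe (K3.f98915 IH) (Lpr_df (K3.f98883 IH) (Lpr_et (K7.f98917 IH) (Lpe (f98918 IH) (Lpe (f98919 IH) (Lpr_dt (f98920 IH) (Lpn (LP (LK LD1_c27 LD2_c13 LD3_c36)))))))))))))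
theorem f98926 : Led Lsl_dt (LP (LK LD1_c27 LD2_c13 LD3_c36)) = (LP (LK LD1_c17 LD2_c24 LD3_c27)) :=
  Lre_d IH (LK LD1_c27 LD2_c13 LD3_c36) (LK LD1_c17 LD2_c24 LD3_c27) Lrfl Lrfl
theorem f103126 : Led Lsl_cf (LP (LK LD1_c17 LD2_c24 LD3_c34)) = (LP (LK LD1_c17 LD2_c24 LD3_c27)) :=
  Lgr Lrot14 (Lpe (f103123 IH) (Lpr_gf (f103121 IH) (Lpe (f74110 IH) (Lpe (f74109 IH) (Lpe (f74093 IH) (Lpr_gt (K3.f74107 IH) (Lpr_dt (f74108 IH) (Lpr_gt (f98921 IH) (Lpr_dt (f98926 IH) (Lpn (LP (LK LD1_c17 LD2_c24 LD3_c27))))))))))))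
theorem f103131 : Led Lsl_et (LP (LK LD1_c9 LD2_c26 LD3_c27)) = (LP (LK LD1_c17 LD2_c24 LD3_c27)) :=
  Lre_e IH (LK LD1_c9 LD2_c26 LD3_c27) (LK LD1_c17 LD2_c24 LD3_c27) Lrfl Lrfl
theorem f103132 : Led Lsl_ct (LP (LK LD1_c9 LD2_c26 LD3_c32)) = (LP (LK LD1_c9 LD2_c26 LD3_c27)) :=
  Lgr Lrot15 (Lpe (f103119 IH) (Lpr_cf (f103126 IH) (Lpe (f103131 IH) (Lpn (LP (LK LD1_c9 LD2_c26 LD3_c27))))))
def v39661 : LQ := Led Lsl_at (LP (LK LD1_c9 LD2_c26 LD3_c26))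
theorem f910679 : Led Lsl_at (LP (LK LD1_c9 LD2_c26 LD3_c26)) = v39661 :=
  Lrfl
theorem f910680 : Led Lsl_af (LP (LK LD1_c9 LD2_c26 LD3_c26)) = v39661 :=
  Lgr Lrot0 (Lpr_at (f910679 IH) (Lpn v39661))
theorem f98923 : Led Lsl_gt (LP (LK LD1_c4 LD2_c46 LD3_c51)) = (LP (LK LD1_c9 LD2_c26 LD3_c26)) :=
  Lre_g IH (LK LD1_c4 LD2_c46 LD3_c51) (LK LD1_c9 LD2_c26 LD3_c26) Lrfl Lrfl
theorem f910682 : Led Lsl_ft (LP (LK LD1_c9 LD2_c26 LD3_c27)) = v39661 :=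
  Lgr Lrot2 (Lpr_gt (f98918 IH) (Lpr_gt (f98923 IH) (Lpr_af (f910680 IH) (Lpn v39661))))
theorem f910709 : Led Lsl_ct v39661 = v39670 :=
  Lgr Lrot40 (Lpe (f910682 IH) (Lpe (f103132 IH) (Lpr_ff (f910708 IH) (Lpn v39670))))
def v39662 : LQ := Led Lsl_ct (LP (LK LD1_c9 LD2_c26 LD3_c26))
theorem f910684 : Led Lsl_ct (LP (LK LD1_c9 LD2_c26 LD3_c26)) = v39662 :=
  Lrfl
theorem f910685 : Led Lsl_cf (LP (LK LD1_c9 LD2_c26 LD3_c26)) = v39662 :=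
  Lgr Lrot11 (Lpr_ct (f910684 IH) (Lpn v39662))
theorem f910710 : v39662 = (LP (LK LD1_c9 LD2_c26 LD3_c31)) :=
  (Llr Lrot1 (Lpe (f910685 IH) (Lpr_at (f910679 IH) (Lpr_ct (f910709 IH) (Lpe (f910705 IH) (Lpn (LP (LK LD1_c9 LD2_c26 LD3_c31)))))))).symm
theorem f910711 : Led Lsl_ct (LP (LK LD1_c9 LD2_c26 LD3_c31)) = (LP (LK LD1_c9 LD2_c26 LD3_c26)) :=
  Leop (Lpr_cf (f910685 IH) (Lpqs (f910710 IH) (Lpn (LP (LK LD1_c9 LD2_c26 LD3_c31)))))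
theorem seed_2338 : LEOK LG_c (LK LD1_c9 LD2_c26 LD3_c31) :=
  Leoe_c (LK LD1_c9 LD2_c26 LD3_c31) (f910711 IH)
def v39689 : LQ := Led Lsl_ft (LP (LK LD1_c9 LD2_c26 LD3_c42))
theorem f910800 : Led Lsl_ft (LP (LK LD1_c9 LD2_c26 LD3_c42)) = v39689 :=
  Lrfl
theorem f910764 : Led Lsl_gt (LP (LK LD1_c9 LD2_c26 LD3_c42)) = (LP (LK LD1_c17 LD2_c24 LD3_c54)) :=
  Lre_g IH (LK LD1_c9 LD2_c26 LD3_c42) (LK LD1_c17 LD2_c24 LD3_c54) Lrfl Lrfl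
def v39687 : LQ := Led Lsl_at (LP (LK LD1_c9 LD2_c26 LD3_c42))
theorem f910779 : Led Lsl_at (LP (LK LD1_c9 LD2_c26 LD3_c42)) = v39687 :=
  Lrfl
theorem f910780 : Led Lsl_af (LP (LK LD1_c9 LD2_c26 LD3_c42)) = v39687 :=
  Lgr Lrot0 (Lpr_at (f910779 IH) (Lpn v39687))
theorem f704181 : Led Lsl_ct (LP (LK LD1_c4 LD2_c46 LD3_c56)) = (LP (LK LD1_c9 LD2_c26 LD3_c42)) :=
  Lre_c IH (LK LD1_c4 LD2_c46 LD3_c56) (LK LD1_c9 LD2_c26 LD3_c42) Lrfl Lrfl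
def v13670 : LQ := Led Lsl_at (LP (LK LD1_c4 LD2_c46 LD3_c56))
theorem f704178 : Led Lsl_at (LP (LK LD1_c4 LD2_c46 LD3_c56)) = v13670 :=
  Lrfl
theorem f704179 : Led Lsl_af (LP (LK LD1_c4 LD2_c46 LD3_c56)) = v13670 :=
  Lgr Lrot0 (Lpr_at (f704178 IH) (Lpn v13670))
theorem f910781 : Led Lsl_cf v13670 = v39687 :=
  Lgr Lrot1 (Lpe (f704179 IH) (Lpr_ct (f704181 IH) (Lpr_at (f910779 IH) (Lpn v39687))))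
theorem f633301 : Led Lsl_gt (LP (LK LD1_c4 LD2_c46 LD3_c57)) = (LP (LK LD1_c2 LD2_c21 LD3_c22)) :=
  Lre_g IH (LK LD1_c4 LD2_c46 LD3_c57) (LK LD1_c2 LD2_c21 LD3_c22) Lrfl Lrfl
theorem f704183 : Led Lsl_ft (LP (LK LD1_c4 LD2_c46 LD3_c57)) = v13670 :=
  Lgr Lrot2 (Lpr_gt (f633301 IH) (Lpr_gt (K3.f78595 IH) (Lpr_af (f704179 IH) (Lpn v13670))))
theorem f704190 : Led Lsl_ff (LP (LK LD1_c4 LD2_c46 LD3_c57)) = v13670 :=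
  Lgr Lrot3 (Lpr_ft (f704183 IH) (Lpn v13670))
theorem f14308 : Led Lsl_ct (LP (LK LD1_c4 LD2_c46 LD3_c57)) = (LP (LK LD1_c9 LD2_c26 LD3_c46)) :=
  Lre_c IH (LK LD1_c4 LD2_c46 LD3_c57) (LK LD1_c9 LD2_c26 LD3_c46) Lrfl Lrfl
theorem f910783 : Led Lsl_ft (LP (LK LD1_c9 LD2_c26 LD3_c46)) = v39687 :=
  Lgr Lrot4 (Lpe (f14308 IH) (Lpr_ff (f704190 IH) (Lpr_cf (f910781 IH) (Lpn v39687))))
theorem f910801 : Led Lsl_af (LP (LK LD1_c9 LD2_c26 LD3_c46)) = v39689 :=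
  Lgr Lrot45 (Lpr_ft (f910783 IH) (Lpe (f910780 IH) (Lpr_ft (f910800 IH) (Lpn v39689))))
theorem f910804 : Led Lsl_gt (LP (LK LD1_c17 LD2_c24 LD3_c54)) = (LP (LK LD1_c9 LD2_c26 LD3_c46)) :=
  Lgr Lrot46 (Lpe (f910764 IH) (Lpr_ft (f910800 IH) (Lpe (f910801 IH) (Lpn (LP (LK LD1_c9 LD2_c26 LD3_c46))))))
theorem f910805 : Led Lsl_gt (LP (LK LD1_c17 LD2_c24 LD3_c54)) = (LP (LK LD1_c9 LD2_c26 LD3_c46)) :=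
  Leop (Lpe (f910804 IH) (Lpn (LP (LK LD1_c17 LD2_c24 LD3_c54))))
theorem seed_2339 : LEOK LG_g (LK LD1_c17 LD2_c24 LD3_c54) :=
  Leoe_g (LK LD1_c17 LD2_c24 LD3_c54) (f910805 IH)
def v39690 : LQ := Led Lsl_at (LP (LK LD1_c9 LD2_c26 LD3_c43))
theorem f910811 : Led Lsl_at (LP (LK LD1_c9 LD2_c26 LD3_c43)) = v39690 :=
  Lrfl
theorem f13960 : Led Lsl_dt (LP (LK LD1_c4 LD2_c46 LD3_c56)) = (LP (LK LD1_c9 LD2_c26 LD3_c43)) :=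
  Lre_d IH (LK LD1_c4 LD2_c46 LD3_c56) (LK LD1_c9 LD2_c26 LD3_c43) Lrfl Lrfl
theorem f910814 : Led Lsl_df v13670 = v39690 :=
  Lgr Lrot18 (Lpe (f704179 IH) (Lpr_dt (f13960 IH) (Lpr_at (f910811 IH) (Lpn v39690))))
theorem f13951 : Led Lsl_dt (LP (LK LD1_c4 LD2_c46 LD3_c57)) = (LP (LK LD1_c9 LD2_c26 LD3_c47)) :=
  Lre_d IH (LK LD1_c4 LD2_c46 LD3_c57) (LK LD1_c9 LD2_c26 LD3_c47) Lrfl Lrfl
theorem f910817 : Led Lsl_ft (LP (LK LD1_c9 LD2_c26 LD3_c47)) = v39690 :=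
  Lgr Lrot54 (Lpe (f13951 IH) (Lpr_ff (f704190 IH) (Lpr_df (f910814 IH) (Lpn v39690))))
theorem f910812 : Led Lsl_af (LP (LK LD1_c9 LD2_c26 LD3_c43)) = v39690 :=
  Lgr Lrot0 (Lpr_at (f910811 IH) (Lpn v39690))
theorem f910810 : Led Lsl_gt (LP (LK LD1_c17 LD2_c24 LD3_c58)) = (LP (LK LD1_c9 LD2_c26 LD3_c43)) :=
  Lre_g IH (LK LD1_c17 LD2_c24 LD3_c58) (LK LD1_c9 LD2_c26 LD3_c43) Lrfl Lrfl
theorem f910820 : Led Lsl_gt (LP (LK LD1_c9 LD2_c26 LD3_c47)) = (LP (LK LD1_c17 LD2_c24 LD3_c58)) :=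
  Lgr Lrot5 (Lpr_ft (f910817 IH) (Lpe (f910812 IH) (Lpe (f910810 IH) (Lpn (LP (LK LD1_c17 LD2_c24 LD3_c58))))))
theorem f910821 : Led Lsl_gt (LP (LK LD1_c9 LD2_c26 LD3_c47)) = (LP (LK LD1_c17 LD2_c24 LD3_c58)) :=
  Leop (Lpe (f910820 IH) (Lpn (LP (LK LD1_c9 LD2_c26 LD3_c47))))
theorem seed_2340 : LEOK LG_g (LK LD1_c9 LD2_c26 LD3_c47) :=
  Leoe_g (LK LD1_c9 LD2_c26 LD3_c47) (f910821 IH)
def v39691 : LQ := Led Lsl_ft (LP (LK LD1_c9 LD2_c26 LD3_c43))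
theorem f910829 : Led Lsl_ft (LP (LK LD1_c9 LD2_c26 LD3_c43)) = v39691 :=
  Lrfl
theorem f13959 : Led Lsl_gt (LP (LK LD1_c9 LD2_c26 LD3_c43)) = (LP (LK LD1_c17 LD2_c24 LD3_c57)) :=
  Lre_g IH (LK LD1_c9 LD2_c26 LD3_c43) (LK LD1_c17 LD2_c24 LD3_c57) Lrfl Lrfl
theorem f910830 : Led Lsl_af (LP (LK LD1_c9 LD2_c26 LD3_c47)) = v39691 :=
  Lgr Lrot45 (Lpr_ft (f910817 IH) (Lpe (f910812 IH) (Lpr_ft (f910829 IH) (Lpn v39691))))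
theorem f910833 : Led Lsl_gt (LP (LK LD1_c17 LD2_c24 LD3_c57)) = (LP (LK LD1_c9 LD2_c26 LD3_c47)) :=
  Lgr Lrot46 (Lpe (f13959 IH) (Lpr_ft (f910829 IH) (Lpe (f910830 IH) (Lpn (LP (LK LD1_c9 LD2_c26 LD3_c47))))))
theorem f910834 : Led Lsl_gt (LP (LK LD1_c17 LD2_c24 LD3_c57)) = (LP (LK LD1_c9 LD2_c26 LD3_c47)) :=
  Leop (Lpe (f910833 IH) (Lpn (LP (LK LD1_c17 LD2_c24 LD3_c57))))
theorem seed_2341 : LEOK LG_g (LK LD1_c17 LD2_c24 LD3_c57) :=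
  Leoe_g (LK LD1_c17 LD2_c24 LD3_c57) (f910834 IH)
def v39722 : LQ := Led Lsl_ct (LP (LK LD1_c9 LD2_c26 LD3_c60))
theorem f910966 : Led Lsl_ct (LP (LK LD1_c9 LD2_c26 LD3_c60)) = v39722 :=
  Lrfl
theorem f674628 : Led Lsl_af (LP (LK LD1_c4 LD2_c47 LD3_c1)) = (LP (LK LD1_c9 LD2_c23 LD3_c32)) :=
  Lgr Lrot0 (Lpr_at (K51.f674626 IH) (Lpn (LP (LK LD1_c9 LD2_c23 LD3_c32))))
theorem f527254 : Led Lsl_gt (LP (LK LD1_c9 LD2_c26 LD3_c60)) = (LP (LK LD1_c4 LD2_c47 LD3_c1)) :=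
  Lre_g IH (LK LD1_c9 LD2_c26 LD3_c60) (LK LD1_c4 LD2_c47 LD3_c1) Lrfl Lrfl
theorem f674707 : Led Lsl_gf (LP (LK LD1_c9 LD2_c26 LD3_c60)) = (LP (LK LD1_c4 LD2_c47 LD3_c5)) :=
  Lgr Lrot47 (Lpr_gt (f527254 IH) (Lpr_af (f674628 IH) (Lpe (K51.f674460 IH) (Lpn (LP (LK LD1_c4 LD2_c47 LD3_c5))))))
theorem f674462 : Led Lsl_bt (LP (LK LD1_c9 LD2_c27 LD3_c5)) = (LP (LK LD1_c4 LD2_c47 LD3_c5)) :=
  Lre_b IH (LK LD1_c9 LD2_c27 LD3_c5) (LK LD1_c4 LD2_c47 LD3_c5) Lrfl Lrfl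
theorem f674490 : Led Lsl_ct (LP (LK LD1_c9 LD2_c27 LD3_c5)) = (LP (LK LD1_c17 LD2_c25 LD3_c45)) :=
  Lre_c IH (LK LD1_c9 LD2_c27 LD3_c5) (LK LD1_c17 LD2_c25 LD3_c45) Lrfl Lrfl
theorem f674709 : Led Lsl_gt (LP (LK LD1_c27 LD2_c15 LD3_c3)) = (LP (LK LD1_c17 LD2_c25 LD3_c45)) :=
  Lre_g IH (LK LD1_c27 LD2_c15 LD3_c3) (LK LD1_c17 LD2_c25 LD3_c45) Lrfl Lrfl
theorem f103228 : Led Lsl_dt (LP (LK LD1_c4 LD2_c45 LD3_c25)) = (LP (LK LD1_c9 LD2_c23 LD3_c38)) :=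
  Lre_d IH (LK LD1_c4 LD2_c45 LD3_c25) (LK LD1_c9 LD2_c23 LD3_c38) Lrfl Lrfl
theorem f842459 : Led Lsl_df v7907 = v28000 :=
  Lgr Lrot38 (Lpr_dt (f842457 IH) (Lpn v28000))
theorem f668945 : Led Lsl_cf K49.v1355 = v7907 :=
  Lgr Lrot11 (Lpr_ct (f668944 IH) (Lpn v7907))
theorem f495059 : Led Lsl_dt (LP (LK LD1_c2 LD2_c21 LD3_c30)) = (LP (LK LD1_c4 LD2_c47 LD3_c18)) :=
  Lre_d IH (LK LD1_c2 LD2_c21 LD3_c30) (LK LD1_c4 LD2_c47 LD3_c18) Lrfl Lrfl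
def v13706 : LQ := Led Lsl_ct (LP (LK LD1_c4 LD2_c47 LD3_c18))
theorem f704439 : Led Lsl_ct (LP (LK LD1_c4 LD2_c47 LD3_c18)) = v13706 :=
  Lrfl
theorem f905023 : Led Lsl_dt v13706 = v38870 :=
  Lgr Lrot173 (Lpe (f704439 IH) (Lpe (f495059 IH) (Lpe (K35.f76953 IH) (Lpr_df (K49.f495055 IH) (Lpr_cf (f668911 IH) (Lpr_df (f842433 IH) (Lpr_cf (f905003 IH) (Lpe (f905005 IH) (Lpe (f495087 IH) (Lpe (f495086 IH) (Lpe (K35.f495052 IH) (Lpr_df (K49.f495076 IH) (Lpr_cf (f668945 IH) (Lpr_df (f842459 IH) (Lpr_cf (f905019 IH) (Lpn v38870))))))))))))))))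
theorem f910968 : Led Lsl_gf v13706 = v39722 :=
  Lgr Lrot148 (Lpr_dt (f905023 IH) (Lpe (f905017 IH) (Lpr_dt (f674214 IH) (Lpr_ct (K51.f633355 IH) (Lpe (f103228 IH) (Lpe (K49.f66043 IH) (Lpe (K51.f527253 IH) (Lpe (f527254 IH) (Lpr_ct (f910966 IH) (Lpn v39722))))))))))
theorem f674130 : Led Lsl_bt (LP (LK LD1_c4 LD2_c47 LD3_c18)) = (LP (LK LD1_c9 LD2_c27 LD3_c38)) :=
  Lre_b IH (LK LD1_c4 LD2_c47 LD3_c18) (LK LD1_c9 LD2_c27 LD3_c38) Lrfl Lrfl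
theorem f674183 : Led Lsl_gt (LP (LK LD1_c9 LD2_c27 LD3_c38)) = (LP (LK LD1_c17 LD2_c26 LD3_c49)) :=
  Lre_g IH (LK LD1_c9 LD2_c27 LD3_c38) (LK LD1_c17 LD2_c26 LD3_c49) Lrfl Lrfl
theorem f674186 : Led Lsl_bt (LP (LK LD1_c27 LD2_c16 LD3_c39)) = (LP (LK LD1_c17 LD2_c26 LD3_c49)) :=
  Lre_b IH (LK LD1_c27 LD2_c16 LD3_c39) (LK LD1_c17 LD2_c26 LD3_c49) Lrfl Lrfl
theorem f910969 : Led Lsl_cf (LP (LK LD1_c27 LD2_c15 LD3_c3)) = (LP (LK LD1_c27 LD2_c16 LD3_c39)) :=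
  Lgr Lrot160 (Lpr_gt (f674709 IH) (Lpe (f674490 IH) (Lpr_bt (f674462 IH) (Lpe (f674707 IH) (Lpr_ct (f910966 IH) (Lpe (f910968 IH) (Lpe (f704439 IH) (Lpr_bt (f674130 IH) (Lpr_gt (f674183 IH) (Lpe (f674186 IH) (Lpn (LP (LK LD1_c27 LD2_c16 LD3_c39)))))))))))))
theorem f910970 : Led Lsl_ct (LP (LK LD1_c27 LD2_c16 LD3_c39)) = (LP (LK LD1_c27 LD2_c15 LD3_c3)) :=
  Leop (Lpr_cf (f910969 IH) (Lpn (LP (LK LD1_c27 LD2_c16 LD3_c39))))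
theorem seed_2342 : LEOK LG_c (LK LD1_c27 LD2_c16 LD3_c39) :=
  Leoe_c (LK LD1_c27 LD2_c16 LD3_c39) (f910970 IH)
def v39735 : LQ := Led Lsl_gf (LP (LK LD1_c9 LD2_c27 LD3_c4))
theorem f911016 : Led Lsl_gf (LP (LK LD1_c9 LD2_c27 LD3_c4)) = v39735 :=
  Lrfl
theorem f653593 : Led Lsl_ct (LP (LK LD1_c4 LD2_c47 LD3_c3)) = (LP (LK LD1_c9 LD2_c27 LD3_c4)) :=
  Lre_c IH (LK LD1_c4 LD2_c47 LD3_c3) (LK LD1_c9 LD2_c27 LD3_c4) Lrfl Lrfl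
theorem f633308 : Led Lsl_bt (LP (LK LD1_c4 LD2_c47 LD3_c3)) = (LP (LK LD1_c2 LD2_c21 LD3_c25)) :=
  Lre_b IH (LK LD1_c4 LD2_c47 LD3_c3) (LK LD1_c2 LD2_c21 LD3_c25) Lrfl Lrfl
theorem f674154 : Led Lsl_bt (LP (LK LD1_c17 LD2_c26 LD3_c45)) = (LP (LK LD1_c9 LD2_c27 LD3_c36)) :=
  Lre_b IH (LK LD1_c17 LD2_c26 LD3_c45) (LK LD1_c9 LD2_c27 LD3_c36) Lrfl Lrfl
theorem f911017 : Led Lsl_ct (LP (LK LD1_c17 LD2_c26 LD3_c45)) = v39735 :=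
  Lgr Lrot64 (Lpr_bt (f674154 IH) (Lpe (f416446 IH) (Lpe (f495060 IH) (Lpr_ct (K51.f495046 IH) (Lpe (K35.f76948 IH) (Lpe (f454789 IH) (Lpe (K50.f416242 IH) (Lpe (f633308 IH) (Lpr_ct (f653593 IH) (Lpr_gf (f911016 IH) (Lpn v39735)))))))))))
theorem f705426 : Led Lsl_dt (LP (LK LD1_c9 LD2_c30 LD3_c42)) = (LP (LK LD1_c17 LD2_c32 LD3_c3)) :=
  Lre_d IH (LK LD1_c9 LD2_c30 LD3_c42) (LK LD1_c17 LD2_c32 LD3_c3) Lrfl Lrfl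
theorem f653591 : Led Lsl_ct (LP (LK LD1_c9 LD2_c27 LD3_c4)) = (LP (LK LD1_c4 LD2_c47 LD3_c3)) :=
  Lre_c IH (LK LD1_c9 LD2_c27 LD3_c4) (LK LD1_c4 LD2_c47 LD3_c3) Lrfl Lrfl
theorem f674494 : Led Lsl_dt (LP (LK LD1_c9 LD2_c27 LD3_c5)) = (LP (LK LD1_c4 LD2_c47 LD3_c3)) :=
  Lre_d IH (LK LD1_c9 LD2_c27 LD3_c5) (LK LD1_c4 LD2_c47 LD3_c3) Lrfl Lrfl
theorem f674514 : Led Lsl_ct (LP (LK LD1_c17 LD2_c25 LD3_c45)) = (LP (LK LD1_c9 LD2_c27 LD3_c5)) :=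
  Lre_c IH (LK LD1_c17 LD2_c25 LD3_c45) (LK LD1_c9 LD2_c27 LD3_c5) Lrfl Lrfl
theorem f911019 : Led Lsl_gt (LP (LK LD1_c17 LD2_c32 LD3_c3)) = (LP (LK LD1_c27 LD2_c16 LD3_c39)) :=
  Lgr Lrot9 (Lpe (f705426 IH) (Lpe (f910621 IH) (Lpr_ct (f911017 IH) (Lpe (f911016 IH) (Lpr_ct (f653591 IH) (Lpe (f674494 IH) (Lpe (f674514 IH) (Lpe (f674709 IH) (Lpr_cf (f910969 IH) (Lpn (LP (LK LD1_c27 LD2_c16 LD3_c39))))))))))))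
theorem f911020 : Led Lsl_gt (LP (LK LD1_c17 LD2_c32 LD3_c3)) = (LP (LK LD1_c27 LD2_c16 LD3_c39)) :=
  Leop (Lpe (f911019 IH) (Lpn (LP (LK LD1_c17 LD2_c32 LD3_c3))))
theorem seed_2343 : LEOK LG_g (LK LD1_c17 LD2_c32 LD3_c3) :=
  Leoe_g (LK LD1_c17 LD2_c32 LD3_c3) (f911020 IH)
def v39759 : LQ := Led Lsl_ft (LP (LK LD1_c9 LD2_c27 LD3_c26))
theorem f911104 : Led Lsl_ft (LP (LK LD1_c9 LD2_c27 LD3_c26)) = v39759 :=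
  Lrfl
theorem f110535 : Led Lsl_gt (LP (LK LD1_c9 LD2_c27 LD3_c26)) = (LP (LK LD1_c17 LD2_c26 LD3_c24)) :=
  Lre_g IH (LK LD1_c9 LD2_c27 LD3_c26) (LK LD1_c17 LD2_c26 LD3_c24) Lrfl Lrfl
theorem f911105 : Led Lsl_af (LP (LK LD1_c9 LD2_c27 LD3_c28)) = v39759 :=
  Lgr Lrot45 (Lpr_ft (f761423 IH) (Lpr_at (f761429 IH) (Lpr_ft (f911104 IH) (Lpn v39759))))
theorem f911108 : Led Lsl_gt (LP (LK LD1_c17 LD2_c26 LD3_c24)) = (LP (LK LD1_c9 LD2_c27 LD3_c28)) :=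
  Lgr Lrot46 (Lpe (f110535 IH) (Lpr_ft (f911104 IH) (Lpe (f911105 IH) (Lpn (LP (LK LD1_c9 LD2_c27 LD3_c28))))))
theorem f911109 : Led Lsl_gt (LP (LK LD1_c17 LD2_c26 LD3_c24)) = (LP (LK LD1_c9 LD2_c27 LD3_c28)) :=
  Leop (Lpe (f911108 IH) (Lpn (LP (LK LD1_c17 LD2_c26 LD3_c24))))
theorem seed_2344 : LEOK LG_g (LK LD1_c17 LD2_c26 LD3_c24) :=
  Leoe_g (LK LD1_c17 LD2_c26 LD3_c24) (f911109 IH)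
def v39841 : LQ := Led Lsl_ft (LP (LK LD1_c9 LD2_c28 LD3_c31))
theorem f911511 : Led Lsl_ft (LP (LK LD1_c9 LD2_c28 LD3_c31)) = v39841 :=
  Lrfl
theorem f135778 : Led Lsl_gt (LP (LK LD1_c9 LD2_c28 LD3_c31)) = (LP (LK LD1_c17 LD2_c28 LD3_c28)) :=
  Lre_g IH (LK LD1_c9 LD2_c28 LD3_c31) (LK LD1_c17 LD2_c28 LD3_c28) Lrfl Lrfl
theorem f92075 : Led Lsl_at (LP (LK LD1_c4 LD2_c47 LD3_c52)) = (LP (LK LD1_c9 LD2_c28 LD3_c31)) :=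
  Lre_a IH (LK LD1_c4 LD2_c47 LD3_c52) (LK LD1_c9 LD2_c28 LD3_c31) Lrfl Lrfl
theorem f92229 : Led Lsl_ft (LP (LK LD1_c9 LD2_c28 LD3_c43)) = (LP (LK LD1_c4 LD2_c47 LD3_c52)) :=
  Lre_f IH (LK LD1_c9 LD2_c28 LD3_c43) (LK LD1_c4 LD2_c47 LD3_c52) Lrfl Lrfl
theorem f911512 : Led Lsl_af (LP (LK LD1_c9 LD2_c28 LD3_c43)) = v39841 :=
  Lgr Lrot45 (Lpr_ft (f92229 IH) (Lpr_at (f92075 IH) (Lpr_ft (f911511 IH) (Lpn v39841))))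
theorem f911515 : Led Lsl_gt (LP (LK LD1_c17 LD2_c28 LD3_c28)) = (LP (LK LD1_c9 LD2_c28 LD3_c43)) :=
  Lgr Lrot46 (Lpe (f135778 IH) (Lpr_ft (f911511 IH) (Lpe (f911512 IH) (Lpn (LP (LK LD1_c9 LD2_c28 LD3_c43))))))
theorem f911516 : Led Lsl_gt (LP (LK LD1_c17 LD2_c28 LD3_c28)) = (LP (LK LD1_c9 LD2_c28 LD3_c43)) :=
  Leop (Lpe (f911515 IH) (Lpn (LP (LK LD1_c17 LD2_c28 LD3_c28))))
theorem seed_2345 : LEOK LG_g (LK LD1_c17 LD2_c28 LD3_c28) :=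
  Leoe_g (LK LD1_c17 LD2_c28 LD3_c28) (f911516 IH)
def v9901 : LQ := Led Lsl_et K60.v3110
def v30617 : LQ := Led Lsl_dt v9901
theorem f855260 : Led Lsl_dt v9901 = v30617 :=
  Lrfl
theorem f678009 : Led Lsl_et K60.v3110 = v9901 :=
  Lrfl
theorem f678010 : Led Lsl_ef K60.v3110 = v9901 :=
  Lgr Lrot88 (Lpr_et (f678009 IH) (Lpn v9901))
def v28768 : LQ := Led Lsl_ft K65.v8422
theorem f846007 : Led Lsl_ft K65.v8422 = v28768 :=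
  Lrfl
theorem f846010 : Led Lsl_ff K65.v8422 = v28768 :=
  Lgr Lrot3 (Lpr_ft (f846007 IH) (Lpn v28768))
theorem f846012 : Led Lsl_dt K60.v8423 = v28768 :=
  Lgr Lrot60 (Lpe (K60.f671184 IH) (Lpr_df (K65.f671182 IH) (Lpr_ff (f846010 IH) (Lpn v28768))))
def v9908 : LQ := Led Lsl_gf K65.v3112
theorem f678026 : Led Lsl_gf K65.v3112 = v9908 :=
  Lrfl
theorem f846013 : Led Lsl_gf v9908 = v28768 :=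
  Lgr Lrot47 (Lpe (f678026 IH) (Lpr_af (K65.f671181 IH) (Lpr_ff (f846010 IH) (Lpn v28768))))
def v26088 : LQ := Led Lsl_et K58.v6265
theorem f831999 : Led Lsl_et K58.v6265 = v26088 :=
  Lrfl
theorem f832001 : Led Lsl_ef K58.v6265 = v26088 :=
  Lgr Lrot88 (Lpr_et (f831999 IH) (Lpn v26088))
theorem f145156 : Led Lsl_et (LP (LK LD1_c1 LD2_c36 LD3_c15)) = (LP (LK LD1_c3 LD2_c19 LD3_c44)) :=
  Lre_e IH (LK LD1_c1 LD2_c36 LD3_c15) (LK LD1_c3 LD2_c19 LD3_c44) Lrfl Lrfl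
theorem f62585 : Led Lsl_dt (LP (LK LD1_c1 LD2_c36 LD3_c15)) = (LP (LK LD1_c3 LD2_c19 LD3_c43)) :=
  Lre_d IH (LK LD1_c1 LD2_c36 LD3_c15) (LK LD1_c3 LD2_c19 LD3_c43) Lrfl Lrfl
theorem f832003 : Led Lsl_df v9908 = v26088 :=
  Lgr Lrot170 (Lpe (f678026 IH) (Lpe (K65.f623913 IH) (Lpe (K60.f453734 IH) (Lpr_gt (K5.f23174 IH) (Lpr_dt (K5.f111910 IH) (Lpr_gt (K6.f145151 IH) (Lpe (f62585 IH) (Lpr_et (f145156 IH) (Lpr_gt (K58.f652462 IH) (Lpr_ef (f832001 IH) (Lpn v26088)))))))))))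
theorem f155932 : Led Lsl_at (LP (LK LD1_c3 LD2_c22 LD3_c18)) = (LP (LK LD1_c6 LD2_c32 LD3_c61)) :=
  Lgr Lrot100 (Lpr_af (f155929 IH) (Lpn (LP (LK LD1_c6 LD2_c32 LD3_c61))))
theorem f155945 : Led Lsl_ff (LP (LK LD1_c3 LD2_c22 LD3_c18)) = (LP (LK LD1_c3 LD2_c1 LD3_c20)) :=
  Lgr Lrot30 (Lpr_at (f155932 IH) (Lpe (K5.f126743 IH) (Lpr_at (K5.f62548 IH) (Lpn (LP (LK LD1_c3 LD2_c1 LD3_c20))))))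
theorem f155947 : Led Lsl_ft (LP (LK LD1_c1 LD2_c37 LD3_c25)) = (LP (LK LD1_c1 LD2_c26 LD3_c37)) :=
  Lgr Lrot4 (Lpe (K7.f135296 IH) (Lpr_ff (f155945 IH) (Lpe (K5.f62360 IH) (Lpn (LP (LK LD1_c1 LD2_c26 LD3_c37))))))
theorem f62385 : Led Lsl_et (LP (LK LD1_c3 LD2_c19 LD3_c60)) = (LP (LK LD1_c6 LD2_c43 LD3_c51)) :=
  Lre_e IH (LK LD1_c3 LD2_c19 LD3_c60) (LK LD1_c6 LD2_c43 LD3_c51) Lrfl Lrfl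
theorem f155949 : Led Lsl_ff (LP (LK LD1_c3 LD2_c22 LD3_c19)) = (LP (LK LD1_c6 LD2_c43 LD3_c51)) :=
  Lgr Lrot72 (Lpr_et (K57.f146174 IH) (Lpr_ft (f155947 IH) (Lpe (K5.f62363 IH) (Lpr_ft (K60.f62384 IH) (Lpr_et (f62385 IH) (Lpn (LP (LK LD1_c6 LD2_c43 LD3_c51))))))))
theorem f155951 : Led Lsl_dt (LP (LK LD1_c6 LD2_c48 LD3_c34)) = (LP (LK LD1_c6 LD2_c43 LD3_c51)) :=
  Lgr Lrot60 (Lpe (K6.f143874 IH) (Lpe (K11.f146128 IH) (Lpr_ff (f155949 IH) (Lpn (LP (LK LD1_c6 LD2_c43 LD3_c51))))))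
theorem f62366 : Led Lsl_et (LP (LK LD1_c6 LD2_c43 LD3_c51)) = (LP (LK LD1_c3 LD2_c19 LD3_c60)) :=
  Lre_e IH (LK LD1_c6 LD2_c43 LD3_c51) (LK LD1_c3 LD2_c19 LD3_c60) Lrfl Lrfl
theorem f155955 : Led Lsl_ef (LP (LK LD1_c2 LD2_c21 LD3_c53)) = (LP (LK LD1_c1 LD2_c36 LD3_c23)) :=
  Lgr Lrot73 (Lpr_dt (K59.f143886 IH) (Lpe (K6.f143881 IH) (Lpr_dt (f155951 IH) (Lpr_et (f62366 IH) (Lpr_dt (K60.f57494 IH) (Lpn (LP (LK LD1_c1 LD2_c36 LD3_c23))))))))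
theorem f155957 : Led Lsl_et (LP (LK LD1_c4 LD2_c47 LD3_c53)) = (LP (LK LD1_c3 LD2_c19 LD3_c54)) :=
  Lgr Lrot158 (Lpe (K57.f92218 IH) (Lpr_ef (f155955 IH) (Lpe (K1.f57189 IH) (Lpn (LP (LK LD1_c3 LD2_c19 LD3_c54))))))
theorem f855264 : Led Lsl_gt (LP (LK LD1_c9 LD2_c28 LD3_c43)) = v30617 :=
  Lgr Lrot112 (Lpe (K6.f92096 IH) (Lpr_et (f155957 IH) (Lpe (K58.f652468 IH) (Lpr_ef (f832001 IH) (Lpe (f832003 IH) (Lpr_gf (f846013 IH) (Lpe (f846012 IH) (Lpe (K66.f671192 IH) (Lpr_ef (f678010 IH) (Lpr_dt (f855260 IH) (Lpn v30617)))))))))))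
theorem f855262 : Led Lsl_df v9901 = v30617 :=
  Lgr Lrot38 (Lpr_dt (f855260 IH) (Lpn v30617))
def v28763 : LQ := Led Lsl_et K60.v8420
theorem f845976 : Led Lsl_et K60.v8420 = v28763 :=
  Lrfl
theorem f845978 : Led Lsl_ef K60.v8420 = v28763 :=
  Lgr Lrot88 (Lpr_et (f845976 IH) (Lpn v28763))
theorem f845979 : Led Lsl_at v9901 = v28763 :=
  Lgr Lrot80 (Lpe (f678009 IH) (Lpr_af (K60.f678000 IH) (Lpq (K60.f771146 IH) (Lpr_ef (f845978 IH) (Lpn v28763)))))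
theorem f92175 : Led Lsl_dt (LP (LK LD1_c2 LD2_c21 LD3_c49)) = (LP (LK LD1_c4 LD2_c47 LD3_c52)) :=
  Lre_d IH (LK LD1_c2 LD2_c21 LD3_c49) (LK LD1_c4 LD2_c47 LD3_c52) Lrfl Lrfl
theorem f92088 : Led Lsl_gt (LP (LK LD1_c9 LD2_c28 LD3_c41)) = (LP (LK LD1_c4 LD2_c47 LD3_c52)) :=
  Lre_g IH (LK LD1_c9 LD2_c28 LD3_c41) (LK LD1_c4 LD2_c47 LD3_c52) Lrfl Lrfl
theorem f845980 : Led Lsl_df (LP (LK LD1_c9 LD2_c28 LD3_c41)) = v28763 :=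
  Lgr Lrot170 (Lpr_gt (f92088 IH) (Lpe (f92175 IH) (Lpr_et (K6.f92176 IH) (Lpr_gt (K2.f78097 IH) (Lpr_dt (K3.f108980 IH) (Lpe (K62.f156458 IH) (Lpe (K7.f24303 IH) (Lpr_et (K60.f507842 IH) (Lpr_gt (K60.f671177 IH) (Lpr_ef (f845978 IH) (Lpn v28763)))))))))))
theorem f855265 : Led Lsl_at (LP (LK LD1_c9 LD2_c28 LD3_c41)) = v30617 :=
  Lgr Lrot51 (Lpr_df (f845980 IH) (Lpe (f845979 IH) (Lpr_df (f855262 IH) (Lpn v30617))))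
theorem f911517 : Led Lsl_ft (LP (LK LD1_c17 LD2_c28 LD3_c28)) = (LP (LK LD1_c9 LD2_c28 LD3_c41)) :=
  Lgr Lrot2 (Lpr_gt (f911515 IH) (Lpr_gt (f855264 IH) (Lpe (f855265 IH) (Lpn (LP (LK LD1_c9 LD2_c28 LD3_c41))))))
theorem f911518 : Led Lsl_ft (LP (LK LD1_c17 LD2_c28 LD3_c28)) = (LP (LK LD1_c9 LD2_c28 LD3_c41)) :=
  Leop (Lpe (f911517 IH) (Lpn (LP (LK LD1_c17 LD2_c28 LD3_c28))))
theorem seed_2346 : LEOK LG_f (LK LD1_c17 LD2_c28 LD3_c28) :=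
  Leoe_f (LK LD1_c17 LD2_c28 LD3_c28) (f911518 IH)
theorem f911522 : Led Lsl_ff (LP (LK LD1_c17 LD2_c28 LD3_c28)) = (LP (LK LD1_c9 LD2_c28 LD3_c41)) :=
  Lgr Lrot3 (Lpr_ft (f911517 IH) (Lpn (LP (LK LD1_c9 LD2_c28 LD3_c41))))
theorem f92087 : Led Lsl_gt (LP (LK LD1_c4 LD2_c47 LD3_c52)) = (LP (LK LD1_c9 LD2_c28 LD3_c40)) :=
  Lre_g IH (LK LD1_c4 LD2_c47 LD3_c52) (LK LD1_c9 LD2_c28 LD3_c40) Lrfl Lrfl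
theorem f911527 : Led Lsl_at (LP (LK LD1_c17 LD2_c28 LD3_c28)) = (LP (LK LD1_c9 LD2_c28 LD3_c40)) :=
  Lgr Lrot26 (Lpr_ff (f911522 IH) (Lpr_gt (f92088 IH) (Lpr_gt (f92087 IH) (Lpn (LP (LK LD1_c9 LD2_c28 LD3_c40))))))
theorem f911529 : Led Lsl_ct (LP (LK LD1_c17 LD2_c28 LD3_c46)) = (LP (LK LD1_c9 LD2_c28 LD3_c40)) :=
  Lre_c IH (LK LD1_c17 LD2_c28 LD3_c46) (LK LD1_c9 LD2_c28 LD3_c40) Lrfl Lrfl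
theorem f911530 : Led Lsl_dt (LP (LK LD1_c27 LD2_c19 LD3_c15)) = (LP (LK LD1_c17 LD2_c28 LD3_c46)) :=
  Lre_d IH (LK LD1_c27 LD2_c19 LD3_c15) (LK LD1_c17 LD2_c28 LD3_c46) Lrfl Lrfl
theorem f845983 : Led Lsl_dt (LP (LK LD1_c9 LD2_c28 LD3_c41)) = v28763 :=
  Lgr Lrot42 (Lpr_df (f845980 IH) (Lpn v28763))
theorem f851103 : Led Lsl_ct v28763 = K66.v29790 :=
  Lgr Lrot15 (Lpe (f845976 IH) (Lpr_cf (K60.f676786 IH) (Lpqs (K60.f771149 IH) (Lpr_ef (K66.f851100 IH) (Lpn K66.v29790)))))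
theorem f771307 : Led Lsl_dt (LP (LK LD1_c9 LD2_c28 LD3_c53)) = (LP (LK LD1_c17 LD2_c29 LD3_c12)) :=
  Lre_d IH (LK LD1_c9 LD2_c28 LD3_c53) (LK LD1_c17 LD2_c29 LD3_c12) Lrfl Lrfl
theorem f911531 : Led Lsl_cf (LP (LK LD1_c27 LD2_c19 LD3_c15)) = (LP (LK LD1_c17 LD2_c29 LD3_c12)) :=
  Lgr Lrot161 (Lpr_dt (f911530 IH) (Lpr_ct (f911529 IH) (Lpe (f911527 IH) (Lpr_ff (f911522 IH) (Lpr_dt (f845983 IH) (Lpr_ct (f851103 IH) (Lpe (K66.f851104 IH) (Lpr_ct (K59.f771305 IH) (Lpr_dt (f771307 IH) (Lpn (LP (LK LD1_c17 LD2_c29 LD3_c12))))))))))))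
theorem f911532 : Led Lsl_ct (LP (LK LD1_c17 LD2_c29 LD3_c12)) = (LP (LK LD1_c27 LD2_c19 LD3_c15)) :=
  Leop (Lpr_cf (f911531 IH) (Lpn (LP (LK LD1_c17 LD2_c29 LD3_c12))))
theorem seed_2347 : LEOK LG_c (LK LD1_c17 LD2_c29 LD3_c12) :=
  Leoe_c (LK LD1_c17 LD2_c29 LD3_c12) (f911532 IH)
theorem f911533 : Led Lsl_ct (LP (LK LD1_c27 LD2_c19 LD3_c15)) = (LP (LK LD1_c17 LD2_c29 LD3_c12)) :=
  Lgr Lrot59 (Lpr_cf (f911531 IH) (Lpn (LP (LK LD1_c17 LD2_c29 LD3_c12))))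
theorem f911538 : Led Lsl_dt (LP (LK LD1_c17 LD2_c28 LD3_c46)) = (LP (LK LD1_c27 LD2_c19 LD3_c15)) :=
  Lre_d IH (LK LD1_c17 LD2_c28 LD3_c46) (LK LD1_c27 LD2_c19 LD3_c15) Lrfl Lrfl
theorem f92091 : Led Lsl_ct (LP (LK LD1_c9 LD2_c28 LD3_c40)) = (LP (LK LD1_c17 LD2_c28 LD3_c46)) :=
  Lre_c IH (LK LD1_c9 LD2_c28 LD3_c40) (LK LD1_c17 LD2_c28 LD3_c46) Lrfl Lrfl
theorem f771310 : Led Lsl_dt (LP (LK LD1_c17 LD2_c29 LD3_c12)) = (LP (LK LD1_c9 LD2_c28 LD3_c53)) :=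
  Lre_d IH (LK LD1_c17 LD2_c29 LD3_c12) (LK LD1_c9 LD2_c28 LD3_c53) Lrfl Lrfl
theorem f771306 : Led Lsl_cf K59.v17625 = (LP (LK LD1_c9 LD2_c28 LD3_c53)) :=
  Lgr Lrot11 (Lpr_ct (K59.f771305 IH) (Lpn (LP (LK LD1_c9 LD2_c28 LD3_c53))))
theorem f851105 : Led Lsl_dt K59.v17625 = K66.v29790 :=
  Lgr Lrot42 (Lpr_df (K66.f851104 IH) (Lpn K66.v29790))
theorem f676787 : Led Lsl_ct K60.v8420 = K60.v9594 :=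
  Lgr Lrot59 (Lpr_cf (K60.f676786 IH) (Lpn K60.v9594))
theorem f851099 : Led Lsl_cf v28763 = K66.v29790 :=
  Lgr Lrot39 (Lpe (f845978 IH) (Lpr_ct (f676787 IH) (Lpqs (K60.f771149 IH) (Lpr_et (K66.f851096 IH) (Lpn K66.v29790)))))
theorem f653391 : Led Lsl_dt (LP (LK LD1_c12 LD2_c57 LD3_c12)) = (LP (LK LD1_c6 LD2_c47 LD3_c6)) :=
  Lre_d IH (LK LD1_c12 LD2_c57 LD3_c12) (LK LD1_c6 LD2_c47 LD3_c6) Lrfl Lrfl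
theorem f844030 : Led Lsl_ff (LP (LK LD1_c12 LD2_c57 LD3_c12)) = K66.v28341 :=
  Lgr Lrot19 (Lpr_dt (f653391 IH) (Lpr_ft (K66.f782323 IH) (Lpqs (K66.f844021 IH) (Lpr_dt (K66.f844015 IH) (Lpn K66.v28341)))))
theorem f782356 : Led Lsl_ft v6436 = v19826 :=
  Lgr Lrot48 (Lpr_ff (f782353 IH) (Lpn v19826))
theorem f782350 : Led Lsl_af v6437 = v19826 :=
  Lgr Lrot0 (Lpr_at (f782349 IH) (Lpn v19826))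
def v19529 : LQ := Led Lsl_et (LP (LK LD1_c6 LD2_c43 LD3_c31))
theorem f780464 : Led Lsl_et (LP (LK LD1_c6 LD2_c43 LD3_c31)) = v19529 :=
  Lrfl
def v6280 : LQ := Led Lsl_et (LP (LK LD1_c3 LD2_c19 LD3_c52))
theorem f652545 : Led Lsl_et (LP (LK LD1_c3 LD2_c19 LD3_c52)) = v6280 :=
  Lrfl
theorem f652547 : Led Lsl_ef (LP (LK LD1_c3 LD2_c19 LD3_c52)) = v6280 :=
  Lgr Lrot88 (Lpr_et (f652545 IH) (Lpn v6280))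
theorem f780466 : Led Lsl_cf v6280 = v19529 :=
  Lgr Lrot39 (Lpe (f652547 IH) (Lpr_ct (K60.f435309 IH) (Lpr_et (f780464 IH) (Lpn v19529))))
theorem f435307 : Led Lsl_bf (LP (LK LD1_c6 LD2_c43 LD3_c31)) = (LP (LK LD1_c4 LD2_c43 LD3_c4)) :=
  Lgr Lrot24 (Lpr_bt (K50.f435305 IH) (Lpn (LP (LK LD1_c4 LD2_c43 LD3_c4))))
theorem f702283 : Led Lsl_ef (LP (LK LD1_c4 LD2_c43 LD3_c4)) = K57.v13311 :=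
  Lgr Lrot88 (Lpr_et (K57.f702282 IH) (Lpn K57.v13311))
theorem f780465 : Led Lsl_bf K57.v13311 = v19529 :=
  Lgr Lrot96 (Lpe (f702283 IH) (Lpe (f435307 IH) (Lpr_et (f780464 IH) (Lpn v19529))))
theorem f653420 : Led Lsl_ct K32.v1370 = v6437 :=
  Lgr Lrot40 (Lpe (K51.f495182 IH) (Lpe (K24.f416182 IH) (Lpr_ff (f653419 IH) (Lpn v6437))))
theorem f780470 : Led Lsl_gt v6280 = v6437 :=
  Lgr Lrot65 (Lpr_cf (f780466 IH) (Lpe (f780465 IH) (Lpq (K57.f761222 IH) (Lpe (K57.f672474 IH) (Lpe (K51.f509770 IH) (Lpe (K35.f140976 IH) (Lpr_gf (K32.f509408 IH) (Lpe (K55.f509410 IH) (Lpr_gf (K32.f446231 IH) (Lpr_bf (K51.f495178 IH) (Lpr_ct (f653420 IH) (Lpn v6437))))))))))))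
theorem f782358 : Led Lsl_gt v6436 = v6280 :=
  Lgr Lrot5 (Lpr_ft (f782356 IH) (Lpe (f782350 IH) (Lpe (f780470 IH) (Lpn v6280))))
theorem f634241 : Led Lsl_af (LP (LK LD1_c2 LD2_c22 LD3_c37)) = K51.v4498 :=
  Lgr Lrot0 (Lpr_at (K51.f634240 IH) (Lpn K51.v4498))
theorem f653413 : Led Lsl_ef K51.v4498 = v6436 :=
  Lgr Lrot20 (Lpe (f634241 IH) (Lpr_et (K24.f416183 IH) (Lpr_at (f653410 IH) (Lpn v6436))))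
theorem f653415 : Led Lsl_et K51.v4498 = v6436 :=
  Lgr Lrot87 (Lpr_ef (f653413 IH) (Lpn v6436))
theorem f705785 : Led Lsl_gt (LP (LK LD1_c6 LD2_c47 LD3_c6)) = K50.v13901 :=
  Lgr Lrot46 (Lpe (K66.f454371 IH) (Lpe (K50.f454352 IH) (Lpr_at (K50.f705781 IH) (Lpn K50.v13901))))
theorem f139962 : Led Lsl_ct (LP (LK LD1_c1 LD2_c27 LD3_c23)) = (LP (LK LD1_c3 LD2_c2 LD3_c58)) :=
  Lre_c IH (LK LD1_c1 LD2_c27 LD3_c23) (LK LD1_c3 LD2_c2 LD3_c58) Lrfl Lrfl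
def v17156 : LQ := Led Lsl_gf (LP (LK LD1_c6 LD2_c12 LD3_c37))
theorem f756421 : Led Lsl_gf (LP (LK LD1_c6 LD2_c12 LD3_c37)) = v17156 :=
  Lrfl
theorem f782359 : Led Lsl_df v17156 = v6280 :=
  Lgr Lrot153 (Lpe (f756421 IH) (Lpr_dt (K50.f502979 IH) (Lpe (f139962 IH) (Lpr_df (K48.f502980 IH) (Lpr_gf (K66.f669933 IH) (Lpq (K66.f768492 IH) (Lpe (K66.f671936 IH) (Lpqs (K51.f708131 IH) (Lpe (K51.f668997 IH) (Lpr_cf (f653412 IH) (Lpr_gt (f782358 IH) (Lpn v6280))))))))))))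
theorem f502986 : Led Lsl_dt (LP (LK LD1_c3 LD2_c2 LD3_c58)) = (LP (LK LD1_c6 LD2_c12 LD3_c37)) :=
  Lre_d IH (LK LD1_c3 LD2_c2 LD3_c58) (LK LD1_c6 LD2_c12 LD3_c37) Lrfl Lrfl
theorem f504145 : Led Lsl_et (LP (LK LD1_c3 LD2_c2 LD3_c58)) = (LP (LK LD1_c6 LD2_c12 LD3_c38)) :=
  Lre_e IH (LK LD1_c3 LD2_c2 LD3_c58) (LK LD1_c6 LD2_c12 LD3_c38) Lrfl Lrfl
def v17158 : LQ := Led Lsl_gt (LP (LK LD1_c6 LD2_c12 LD3_c38))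
theorem f756427 : Led Lsl_gt (LP (LK LD1_c6 LD2_c12 LD3_c38)) = v17158 :=
  Lrfl
theorem f782360 : Led Lsl_et (LP (LK LD1_c12 LD2_c57 LD3_c12)) = v17158 :=
  Lgr Lrot122 (Lpr_dt (f653391 IH) (Lpr_gt (f705785 IH) (Lpe (K66.f705789 IH) (Lpr_et (f653415 IH) (Lpr_gt (f782358 IH) (Lpe (f782359 IH) (Lpe (f756421 IH) (Lpe (f502986 IH) (Lpr_et (f504145 IH) (Lpr_gt (f756427 IH) (Lpn v17158)))))))))))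
theorem f844031 : Led Lsl_ft v17158 = v9901 :=
  Lgr Lrot86 (Lpe (f782360 IH) (Lpr_ff (f844030 IH) (Lpe (K66.f844018 IH) (Lpq (K60.f771147 IH) (Lpe (K60.f678011 IH) (Lpr_ef (f678010 IH) (Lpn v9901)))))))
theorem f911544 : Led Lsl_df (LP (LK LD1_c9 LD2_c28 LD3_c40)) = v17158 :=
  Lgr Lrot157 (Lpr_ct (f92091 IH) (Lpr_dt (f911538 IH) (Lpr_ct (f911533 IH) (Lpr_dt (f771310 IH) (Lpe (f771306 IH) (Lpr_dt (f851105 IH) (Lpe (f851099 IH) (Lpe (f845979 IH) (Lpe (f844031 IH) (Lpn v17158))))))))))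
theorem f911547 : Led Lsl_et (LP (LK LD1_c9 LD2_c28 LD3_c40)) = (LP (LK LD1_c17 LD2_c28 LD3_c47)) :=
  Lre_e IH (LK LD1_c9 LD2_c28 LD3_c40) (LK LD1_c17 LD2_c28 LD3_c47) Lrfl Lrfl
theorem f654212 : Led Lsl_dt (LP (LK LD1_c6 LD2_c47 LD3_c6)) = (LP (LK LD1_c12 LD2_c57 LD3_c12)) :=
  Lre_d IH (LK LD1_c6 LD2_c47 LD3_c6) (LK LD1_c12 LD2_c57 LD3_c12) Lrfl Lrfl
theorem f705788 : Led Lsl_et (LP (LK LD1_c12 LD2_c57 LD3_c13)) = (LP (LK LD1_c6 LD2_c47 LD3_c6)) :=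
  Lre_e IH (LK LD1_c12 LD2_c57 LD3_c13) (LK LD1_c6 LD2_c47 LD3_c6) Lrfl Lrfl
theorem f911548 : Led Lsl_dt (LP (LK LD1_c17 LD2_c28 LD3_c47)) = (LP (LK LD1_c12 LD2_c57 LD3_c13)) :=
  Lgr Lrot77 (Lpe (f911547 IH) (Lpr_df (f911544 IH) (Lpe (f782360 IH) (Lpe (f654212 IH) (Lpe (f705788 IH) (Lpn (LP (LK LD1_c12 LD2_c57 LD3_c13))))))))
theorem f911549 : Led Lsl_dt (LP (LK LD1_c17 LD2_c28 LD3_c47)) = (LP (LK LD1_c12 LD2_c57 LD3_c13)) :=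
  Leop (Lpe (f911548 IH) (Lpn (LP (LK LD1_c17 LD2_c28 LD3_c47))))
theorem seed_2348 : LEOK LG_d (LK LD1_c17 LD2_c28 LD3_c47) :=
  Leoe_d (LK LD1_c17 LD2_c28 LD3_c47) (f911549 IH)
theorem f911546 : Led Lsl_dt (LP (LK LD1_c9 LD2_c28 LD3_c40)) = v17158 :=
  Lgr Lrot42 (Lpr_df (f911544 IH) (Lpn v17158))
theorem f911580 : Led Lsl_gt (LP (LK LD1_c17 LD2_c28 LD3_c47)) = (LP (LK LD1_c27 LD2_c19 LD3_c17)) :=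
  Lre_g IH (LK LD1_c17 LD2_c28 LD3_c47) (LK LD1_c27 LD2_c19 LD3_c17) Lrfl Lrfl
theorem f708380 : Led Lsl_et (LP (LK LD1_c21 LD2_c20 LD3_c61)) = (LP (LK LD1_c12 LD2_c15 LD3_c39)) :=
  Lre_e IH (LK LD1_c21 LD2_c20 LD3_c61) (LK LD1_c12 LD2_c15 LD3_c39) Lrfl Lrfl
theorem f444010 : Led Lsl_dt (LP (LK LD1_c12 LD2_c15 LD3_c39)) = (LP (LK LD1_c6 LD2_c20 LD3_c38)) :=
  Lre_d IH (LK LD1_c12 LD2_c15 LD3_c39) (LK LD1_c6 LD2_c20 LD3_c38) Lrfl Lrfl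
theorem f715738 : Led Lsl_et (LP (LK LD1_c9 LD2_c21 LD3_c29)) = (LP (LK LD1_c17 LD2_c17 LD3_c36)) :=
  Lre_e IH (LK LD1_c9 LD2_c21 LD3_c29) (LK LD1_c17 LD2_c17 LD3_c36) Lrfl Lrfl
theorem f715739 : Led Lsl_df (LP (LK LD1_c21 LD2_c20 LD3_c61)) = (LP (LK LD1_c17 LD2_c17 LD3_c36)) :=
  Lgr Lrot70 (Lpr_et (f708380 IH) (Lpr_dt (f444010 IH) (Lpe (f715731 IH) (Lpr_dt (K52.f715733 IH) (Lpr_et (f715738 IH) (Lpn (LP (LK LD1_c17 LD2_c17 LD3_c36))))))))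
theorem f715750 : Led Lsl_dt (LP (LK LD1_c21 LD2_c20 LD3_c61)) = (LP (LK LD1_c17 LD2_c17 LD3_c36)) :=
  Lgr Lrot42 (Lpr_df (f715739 IH) (Lpn (LP (LK LD1_c17 LD2_c17 LD3_c36))))
theorem f715754 : Led Lsl_gt (LP (LK LD1_c27 LD2_c7 LD3_c3)) = (LP (LK LD1_c17 LD2_c17 LD3_c36)) :=
  Lre_g IH (LK LD1_c27 LD2_c7 LD3_c3) (LK LD1_c17 LD2_c17 LD3_c36) Lrfl Lrfl
theorem f715755 : Led Lsl_dt (LP (LK LD1_c32 LD2_c20 LD3_c28)) = (LP (LK LD1_c27 LD2_c7 LD3_c3)) :=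
  Lre_d IH (LK LD1_c32 LD2_c20 LD3_c28) (LK LD1_c27 LD2_c7 LD3_c3) Lrfl Lrfl
theorem f911603 : Led Lsl_ef (LP (LK LD1_c27 LD2_c19 LD3_c17)) = (LP (LK LD1_c32 LD2_c20 LD3_c28)) :=
  Lgr Lrot17 (Lpe (f911580 IH) (Lpe (f911547 IH) (Lpr_dt (f911546 IH) (Lpe (f756427 IH) (Lpe (K51.f416811 IH) (Lpr_gf (K51.f708336 IH) (Lpe (f708380 IH) (Lpr_dt (f715750 IH) (Lpe (f715754 IH) (Lpe (f715755 IH) (Lpn (LP (LK LD1_c32 LD2_c20 LD3_c28)))))))))))))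
theorem f911604 : Led Lsl_et (LP (LK LD1_c32 LD2_c20 LD3_c28)) = (LP (LK LD1_c27 LD2_c19 LD3_c17)) :=
  Leop (Lpr_ef (f911603 IH) (Lpn (LP (LK LD1_c32 LD2_c20 LD3_c28))))
theorem seed_2349 : LEOK LG_e (LK LD1_c32 LD2_c20 LD3_c28) :=
  Leoe_e (LK LD1_c32 LD2_c20 LD3_c28) (f911604 IH)
def v39842 : LQ := Led Lsl_bt (LP (LK LD1_c9 LD2_c28 LD3_c32))
theorem f911609 : Led Lsl_bt (LP (LK LD1_c9 LD2_c28 LD3_c32)) = v39842 :=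
  Lrfl
theorem f708316 : Led Lsl_ef (LP (LK LD1_c6 LD2_c47 LD3_c16)) = (LP (LK LD1_c9 LD2_c28 LD3_c32)) :=
  Lgr Lrot28 (Lpr_ct (f509583 IH) (Lpq (K51.f708307 IH) (Lpe (K51.f632998 IH) (Lpr_ct (K59.f135757 IH) (Lpn (LP (LK LD1_c9 LD2_c28 LD3_c32)))))))
theorem f708322 : Led Lsl_et (LP (LK LD1_c6 LD2_c47 LD3_c16)) = (LP (LK LD1_c9 LD2_c28 LD3_c32)) :=
  Lgr Lrot87 (Lpr_ef (f708316 IH) (Lpn (LP (LK LD1_c9 LD2_c28 LD3_c32))))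
theorem f653428 : Led Lsl_bt (LP (LK LD1_c12 LD2_c57 LD3_c36)) = (LP (LK LD1_c6 LD2_c47 LD3_c16)) :=
  Lre_b IH (LK LD1_c12 LD2_c57 LD3_c36) (LK LD1_c6 LD2_c47 LD3_c16) Lrfl Lrfl
theorem f911612 : Led Lsl_ef (LP (LK LD1_c12 LD2_c57 LD3_c36)) = v39842 :=
  Lgr Lrot29 (Lpr_bt (f653428 IH) (Lpr_et (f708322 IH) (Lpr_bt (f911609 IH) (Lpn v39842))))
theorem f911620 : Led Lsl_et (LP (LK LD1_c12 LD2_c57 LD3_c36)) = v39842 :=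
  Lgr Lrot87 (Lpr_ef (f911612 IH) (Lpn v39842))
theorem f908136 : Led Lsl_dt (LP (LK LD1_c12 LD2_c57 LD3_c36)) = (LP (LK LD1_c22 LD2_c7 LD3_c29)) :=
  Lre_d IH (LK LD1_c12 LD2_c57 LD3_c36) (LK LD1_c22 LD2_c7 LD3_c29) Lrfl Lrfl
theorem f633000 : Led Lsl_ct (LP (LK LD1_c9 LD2_c28 LD3_c32)) = (LP (LK LD1_c4 LD2_c47 LD3_c45)) :=
  Lre_c IH (LK LD1_c9 LD2_c28 LD3_c32) (LK LD1_c4 LD2_c47 LD3_c45) Lrfl Lrfl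
theorem f92104 : Led Lsl_bf (LP (LK LD1_c9 LD2_c5 LD3_c59)) = (LP (LK LD1_c4 LD2_c47 LD3_c53)) :=
  Lgr Lrot24 (Lpr_bt (K6.f92097 IH) (Lpn (LP (LK LD1_c4 LD2_c47 LD3_c53))))
def v38167 : LQ := Led Lsl_gf (LP (LK LD1_c9 LD2_c5 LD3_c50))
theorem f899708 : Led Lsl_gf (LP (LK LD1_c9 LD2_c5 LD3_c50)) = v38167 :=
  Lrfl
theorem f92203 : Led Lsl_at (LP (LK LD1_c4 LD2_c34 LD3_c32)) = (LP (LK LD1_c9 LD2_c5 LD3_c50)) :=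
  Lre_a IH (LK LD1_c4 LD2_c34 LD3_c32) (LK LD1_c9 LD2_c5 LD3_c50) Lrfl Lrfl
theorem f92179 : Led Lsl_ft (LP (LK LD1_c9 LD2_c5 LD3_c59)) = (LP (LK LD1_c4 LD2_c34 LD3_c32)) :=
  Lre_f IH (LK LD1_c9 LD2_c5 LD3_c59) (LK LD1_c4 LD2_c34 LD3_c32) Lrfl Lrfl
theorem f899709 : Led Lsl_gt (LP (LK LD1_c9 LD2_c5 LD3_c59)) = v38167 :=
  Lgr Lrot5 (Lpr_ft (f92179 IH) (Lpr_at (f92203 IH) (Lpr_gf (f899708 IH) (Lpn v38167))))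
theorem f500011 : Led Lsl_ct (LP (LK LD1_c9 LD2_c5 LD3_c50)) = (LP (LK LD1_c4 LD2_c34 LD3_c26)) :=
  Lre_c IH (LK LD1_c9 LD2_c5 LD3_c50) (LK LD1_c4 LD2_c34 LD3_c26) Lrfl Lrfl
theorem f899711 : Led Lsl_ct (LP (LK LD1_c11 LD2_c44 LD3_c32)) = v38167 :=
  Lgr Lrot152 (Lpe (K60.f501954 IH) (Lpe (K65.f559387 IH) (Lpr_gt (K66.f501965 IH) (Lpe (K66.f643121 IH) (Lpr_gt (K66.f92067 IH) (Lpr_ct (K58.f92132 IH) (Lpe (K50.f615491 IH) (Lpe (f500011 IH) (Lpr_gf (f899708 IH) (Lpn v38167))))))))))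
theorem f899713 : Led Lsl_cf (LP (LK LD1_c11 LD2_c44 LD3_c32)) = v38167 :=
  Lgr Lrot11 (Lpr_ct (f899711 IH) (Lpn v38167))
theorem f501823 : Led Lsl_gt (LP (LK LD1_c11 LD2_c44 LD3_c32)) = (LP (LK LD1_c6 LD2_c0 LD3_c2)) :=
  Lre_g IH (LK LD1_c11 LD2_c44 LD3_c32) (LK LD1_c6 LD2_c0 LD3_c2) Lrfl Lrfl
theorem f911614 : Led Lsl_gt (LP (LK LD1_c12 LD2_c33 LD3_c8)) = v39842 :=
  Lgr Lrot164 (Lpe (K36.f501812 IH) (Lpr_ct (K42.f501822 IH) (Lpe (f501823 IH) (Lpr_cf (f899713 IH) (Lpe (f899709 IH) (Lpr_bf (f92104 IH) (Lpr_ct (K6.f92108 IH) (Lpe (K35.f633461 IH) (Lpe (f633000 IH) (Lpr_bt (f911609 IH) (Lpn v39842)))))))))))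
theorem f136510 : Led Lsl_et (LP (LK LD1_c6 LD2_c32 LD3_c54)) = (LP (LK LD1_c12 LD2_c33 LD3_c8)) :=
  Lre_e IH (LK LD1_c6 LD2_c32 LD3_c54) (LK LD1_c12 LD2_c33 LD3_c8) Lrfl Lrfl
theorem f116604 : Led Lsl_dt (LP (LK LD1_c13 LD2_c9 LD3_c57)) = (LP (LK LD1_c22 LD2_c22 LD3_c26)) :=
  Lre_d IH (LK LD1_c13 LD2_c9 LD3_c57) (LK LD1_c22 LD2_c22 LD3_c26) Lrfl Lrfl
theorem f911623 : Led Lsl_gt (LP (LK LD1_c22 LD2_c7 LD3_c29)) = (LP (LK LD1_c22 LD2_c22 LD3_c26)) :=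
  Lgr Lrot112 (Lpe (f908136 IH) (Lpr_et (f911620 IH) (Lpe (f911614 IH) (Lpe (f136510 IH) (Lpe (K36.f136506 IH) (Lpe (K6.f89719 IH) (Lpe (K8.f96941 IH) (Lpe (K28.f90175 IH) (Lpe (K28.f116586 IH) (Lpr_dt (f116604 IH) (Lpn (LP (LK LD1_c22 LD2_c22 LD3_c26)))))))))))))
theorem f911624 : Led Lsl_gt (LP (LK LD1_c22 LD2_c7 LD3_c29)) = (LP (LK LD1_c22 LD2_c22 LD3_c26)) :=
  Leop (Lpe (f911623 IH) (Lpn (LP (LK LD1_c22 LD2_c7 LD3_c29))))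
theorem seed_2350 : LEOK LG_g (LK LD1_c22 LD2_c7 LD3_c29) :=
  Leoe_g (LK LD1_c22 LD2_c7 LD3_c29) (f911624 IH)
def v39843 : LQ := Led Lsl_gf (LP (LK LD1_c9 LD2_c28 LD3_c33))
theorem f911625 : Led Lsl_gf (LP (LK LD1_c9 LD2_c28 LD3_c33)) = v39843 :=
  Lrfl
theorem f911628 : Led Lsl_ct K66.v20531 = v39843 :=
  Lgr Lrot152 (Lpe (K66.f787700 IH) (Lpe (K66.f761014 IH) (Lpr_gt (K57.f760083 IH) (Lpe (K57.f760081 IH) (Lpqs (K57.f715857 IH) (Lpe (K57.f704593 IH) (Lpr_ct (K51.f437692 IH) (Lpe (K51.f113295 IH) (Lpe (K6.f113270 IH) (Lpr_gf (f911625 IH) (Lpn v39843)))))))))))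
theorem f647582 : Led Lsl_ct (LP (LK LD1_c12 LD2_c15 LD3_c42)) = (LP (LK LD1_c6 LD2_c20 LD3_c39)) :=
  Lre_c IH (LK LD1_c12 LD2_c15 LD3_c42) (LK LD1_c6 LD2_c20 LD3_c39) Lrfl Lrfl
theorem f647597 : Led Lsl_dt (LP (LK LD1_c21 LD2_c21 LD3_c0)) = (LP (LK LD1_c12 LD2_c15 LD3_c42)) :=
  Lre_d IH (LK LD1_c21 LD2_c21 LD3_c0) (LK LD1_c12 LD2_c15 LD3_c42) Lrfl Lrfl
theorem f113271 : Led Lsl_dt (LP (LK LD1_c9 LD2_c28 LD3_c33)) = (LP (LK LD1_c17 LD2_c28 LD3_c32)) :=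
  Lre_d IH (LK LD1_c9 LD2_c28 LD3_c33) (LK LD1_c17 LD2_c28 LD3_c32) Lrfl Lrfl
theorem f911631 : Led Lsl_gf (LP (LK LD1_c21 LD2_c21 LD3_c0)) = (LP (LK LD1_c17 LD2_c28 LD3_c32)) :=
  Lgr Lrot154 (Lpr_dt (f647597 IH) (Lpr_ct (f647582 IH) (Lpe (K59.f647581 IH) (Lpqs (K59.f771435 IH) (Lpe (K59.f658208 IH) (Lpe (K59.f62283 IH) (Lpr_gf (K66.f787699 IH) (Lpr_ct (f911628 IH) (Lpe (f911625 IH) (Lpr_dt (f113271 IH) (Lpn (LP (LK LD1_c17 LD2_c28 LD3_c32)))))))))))))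
theorem f911632 : Led Lsl_gt (LP (LK LD1_c17 LD2_c28 LD3_c32)) = (LP (LK LD1_c21 LD2_c21 LD3_c0)) :=
  Leop (Lpr_gf (f911631 IH) (Lpn (LP (LK LD1_c17 LD2_c28 LD3_c32))))
theorem seed_2351 : LEOK LG_g (LK LD1_c17 LD2_c28 LD3_c32) :=
  Leoe_g (LK LD1_c17 LD2_c28 LD3_c32) (f911632 IH)
def v39844 : LQ := Led Lsl_ft (LP (LK LD1_c9 LD2_c28 LD3_c33))
theorem f911636 : Led Lsl_ft (LP (LK LD1_c9 LD2_c28 LD3_c33)) = v39844 :=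
  Lrfl
theorem f911639 : Led Lsl_ff (LP (LK LD1_c9 LD2_c28 LD3_c33)) = v39844 :=
  Lgr Lrot3 (Lpr_ft (f911636 IH) (Lpn v39844))
theorem f911642 : Led Lsl_gf (LP (LK LD1_c9 LD2_c28 LD3_c53)) = v39844 :=
  Lgr Lrot47 (Lpr_gt (K59.f113304 IH) (Lpe (K6.f113167 IH) (Lpr_ff (f911639 IH) (Lpn v39844))))
theorem f911641 : Led Lsl_ct K50.v13747 = v39844 :=
  Lgr Lrot40 (Lpe (K50.f704629 IH) (Lpe (K6.f113270 IH) (Lpr_ff (f911639 IH) (Lpn v39844))))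
def v19545 : LQ := Led Lsl_dt (LP (LK LD1_c6 LD2_c43 LD3_c40))
theorem f780551 : Led Lsl_dt (LP (LK LD1_c6 LD2_c43 LD3_c40)) = v19545 :=
  Lrfl
theorem f780556 : Led Lsl_ff K51.v9885 = v19545 :=
  Lgr Lrot19 (Lpe (K51.f677941 IH) (Lpr_ft (K51.f704809 IH) (Lpqs (K51.f709508 IH) (Lpr_dt (f780551 IH) (Lpn v19545)))))
theorem f780561 : Led Lsl_ft K51.v9885 = v19545 :=
  Lgr Lrot48 (Lpr_ff (f780556 IH) (Lpn v19545))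
theorem f780552 : Led Lsl_af K51.v13782 = v19545 :=
  Lgr Lrot117 (Lpe (K51.f704817 IH) (Lpr_at (K51.f704807 IH) (Lpqs (K51.f709508 IH) (Lpr_dt (f780551 IH) (Lpn v19545)))))
def v5283 : LQ := Led Lsl_gf (LP (LK LD1_c3 LD2_c2 LD3_c59))
theorem f646898 : Led Lsl_gf (LP (LK LD1_c3 LD2_c2 LD3_c59)) = v5283 :=
  Lrfl
theorem f780562 : K51.v9885 = v5283 :=
  (Llr Lrot52 (Lpr_ft (f780561 IH) (Lpe (f780552 IH) (Lpqs (K66.f768491 IH) (Lpe (K66.f646896 IH) (Lpr_gf (f646898 IH) (Lpn v5283))))))).symm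
theorem f444181 : Led Lsl_ct (LP (LK LD1_c12 LD2_c4 LD3_c36)) = (LP (LK LD1_c6 LD2_c12 LD3_c39)) :=
  Lre_c IH (LK LD1_c12 LD2_c4 LD3_c36) (LK LD1_c6 LD2_c12 LD3_c39) Lrfl Lrfl
theorem f444179 : Led Lsl_dt (LP (LK LD1_c21 LD2_c9 LD3_c58)) = (LP (LK LD1_c12 LD2_c4 LD3_c36)) :=
  Lre_d IH (LK LD1_c21 LD2_c9 LD3_c58) (LK LD1_c12 LD2_c4 LD3_c36) Lrfl Lrfl
theorem f911644 : Led Lsl_gt (LP (LK LD1_c17 LD2_c29 LD3_c12)) = (LP (LK LD1_c21 LD2_c9 LD3_c58)) :=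
  Lgr Lrot49 (Lpe (f771307 IH) (Lpr_gf (f911642 IH) (Lpe (f911641 IH) (Lpe (K59.f704639 IH) (Lpr_dt (K51.f677944 IH) (Lpqs (f780562 IH) (Lpe (f646898 IH) (Lpr_dt (K51.f444184 IH) (Lpe (f444181 IH) (Lpe (f444179 IH) (Lpn (LP (LK LD1_c21 LD2_c9 LD3_c58)))))))))))))
theorem f911645 : Led Lsl_gt (LP (LK LD1_c17 LD2_c29 LD3_c12)) = (LP (LK LD1_c21 LD2_c9 LD3_c58)) :=
  Leop (Lpe (f911644 IH) (Lpn (LP (LK LD1_c17 LD2_c29 LD3_c12))))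
theorem seed_2352 : LEOK LG_g (LK LD1_c17 LD2_c29 LD3_c12) :=
  Leoe_g (LK LD1_c17 LD2_c29 LD3_c12) (f911645 IH)
def v39885 : LQ := Led Lsl_gf (LP (LK LD1_c9 LD2_c28 LD3_c59))
theorem f911894 : Led Lsl_gf (LP (LK LD1_c9 LD2_c28 LD3_c59)) = v39885 :=
  Lrfl
theorem f787774 : Led Lsl_gt K59.v19044 = K61.v17754 :=
  Lgr Lrot5 (Lpe (K61.f777369 IH) (Lpr_at (K61.f787745 IH) (Lpr_gf (K61.f787773 IH) (Lpn K61.v17754))))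
theorem f911897 : Led Lsl_ct K61.v17754 = v39885 :=
  Lgr Lrot152 (Lpe (f787774 IH) (Lpe (K59.f777366 IH) (Lpqs (K59.f772646 IH) (Lpqs (K59.f772678 IH) (Lpe (K59.f653833 IH) (Lpe (K59.f69287 IH) (Lpq (K59.f771510 IH) (Lpe (K59.f704839 IH) (Lpr_ct (K59.f68455 IH) (Lpe (K61.f68428 IH) (Lpe (K59.f68419 IH) (Lpr_gf (f911894 IH) (Lpn v39885)))))))))))))
theorem f787748 : Led Lsl_df K59.v6747 = K61.v20535 :=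
  Lgr Lrot18 (Lpe (K59.f658210 IH) (Lpr_dt (K59.f62224 IH) (Lpr_at (K61.f787745 IH) (Lpn K61.v20535))))
theorem f62240 : Led Lsl_dt (LP (LK LD1_c3 LD2_c28 LD3_c42)) = (LP (LK LD1_c6 LD2_c59 LD3_c8)) :=
  Lre_d IH (LK LD1_c3 LD2_c28 LD3_c42) (LK LD1_c6 LD2_c59 LD3_c8) Lrfl Lrfl
theorem f911901 : Led Lsl_gf (LP (LK LD1_c21 LD2_c56 LD3_c12)) = (LP (LK LD1_c17 LD2_c29 LD3_c23)) :=
  Lgr Lrot154 (Lpr_dt (K3.f89091 IH) (Lpe (K3.f89088 IH) (Lpe (f62240 IH) (Lpr_gf (K58.f653830 IH) (Lpq (K58.f769448 IH) (Lpqs (K59.f772673 IH) (Lpr_df (f787748 IH) (Lpr_gf (K61.f787773 IH) (Lpr_ct (f911897 IH) (Lpe (f911894 IH) (Lpr_dt (K59.f68442 IH) (Lpn (LP (LK LD1_c17 LD2_c29 LD3_c23))))))))))))))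
theorem f911902 : Led Lsl_gt (LP (LK LD1_c17 LD2_c29 LD3_c23)) = (LP (LK LD1_c21 LD2_c56 LD3_c12)) :=
  Leop (Lpr_gf (f911901 IH) (Lpn (LP (LK LD1_c17 LD2_c29 LD3_c23))))
theorem seed_2353 : LEOK LG_g (LK LD1_c17 LD2_c29 LD3_c23) :=
  Leoe_g (LK LD1_c17 LD2_c29 LD3_c23) (f911902 IH)
def v39900 : LQ := Led Lsl_ft (LP (LK LD1_c9 LD2_c29 LD3_c12))
theorem f912005 : Led Lsl_ft (LP (LK LD1_c9 LD2_c29 LD3_c12)) = v39900 :=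
  Lrfl
theorem f912008 : Led Lsl_ff (LP (LK LD1_c9 LD2_c29 LD3_c12)) = v39900 :=
  Lgr Lrot3 (Lpr_ft (f912005 IH) (Lpn v39900))
theorem f148511 : Led Lsl_at (LP (LK LD1_c9 LD2_c29 LD3_c12)) = (LP (LK LD1_c4 LD2_c48 LD3_c19)) :=
  Lre_a IH (LK LD1_c9 LD2_c29 LD3_c12) (LK LD1_c4 LD2_c48 LD3_c19) Lrfl Lrfl
theorem f912011 : Led Lsl_gf (LP (LK LD1_c9 LD2_c29 LD3_c23)) = v39900 :=
  Lgr Lrot47 (Lpr_gt (K59.f129271 IH) (Lpe (f148511 IH) (Lpr_ff (f912008 IH) (Lpn v39900))))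
theorem f773100 : Led Lsl_ct (LP (LK LD1_c9 LD2_c29 LD3_c23)) = (LP (LK LD1_c17 LD2_c30 LD3_c9)) :=
  Lre_c IH (LK LD1_c9 LD2_c29 LD3_c23) (LK LD1_c17 LD2_c30 LD3_c9) Lrfl Lrfl
theorem f912010 : Led Lsl_dt K58.v13799 = v39900 :=
  Lgr Lrot60 (Lpe (K58.f704919 IH) (Lpe (K57.f148508 IH) (Lpr_ff (f912008 IH) (Lpn v39900))))
theorem f704927 : Led Lsl_gf (LP (LK LD1_c4 LD2_c48 LD3_c18)) = K58.v13799 :=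
  Lgr Lrot47 (Lpr_gt (K58.f146875 IH) (Lpe (K32.f437334 IH) (Lpr_ff (K58.f704923 IH) (Lpn K58.v13799))))
theorem f124097 : Led Lsl_et (LP (LK LD1_c3 LD2_c13 LD3_c33)) = (LP (LK LD1_c6 LD2_c30 LD3_c47)) :=
  Lre_e IH (LK LD1_c3 LD2_c13 LD3_c33) (LK LD1_c6 LD2_c30 LD3_c47) Lrfl Lrfl
theorem f124098 : Led Lsl_cf (LP (LK LD1_c3 LD2_c42 LD3_c4)) = (LP (LK LD1_c6 LD2_c30 LD3_c47)) :=
  Lgr Lrot39 (Lpr_et (K11.f114961 IH) (Lpr_ct (K4.f124071 IH) (Lpr_et (f124097 IH) (Lpn (LP (LK LD1_c6 LD2_c30 LD3_c47))))))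
theorem f440348 : Led Lsl_ct (LP (LK LD1_c3 LD2_c42 LD3_c4)) = (LP (LK LD1_c6 LD2_c30 LD3_c47)) :=
  Lgr Lrot59 (Lpr_cf (f124098 IH) (Lpn (LP (LK LD1_c6 LD2_c30 LD3_c47))))
theorem f440350 : Led Lsl_dt (LP (LK LD1_c12 LD2_c30 LD3_c22)) = (LP (LK LD1_c6 LD2_c30 LD3_c47)) :=
  Lre_d IH (LK LD1_c12 LD2_c30 LD3_c22) (LK LD1_c6 LD2_c30 LD3_c47) Lrfl Lrfl
theorem f440351 : Led Lsl_ct (LP (LK LD1_c21 LD2_c36 LD3_c49)) = (LP (LK LD1_c12 LD2_c30 LD3_c22)) :=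
  Lre_c IH (LK LD1_c21 LD2_c36 LD3_c49) (LK LD1_c12 LD2_c30 LD3_c22) Lrfl Lrfl
theorem f912013 : Led Lsl_gt (LP (LK LD1_c17 LD2_c30 LD3_c9)) = (LP (LK LD1_c21 LD2_c36 LD3_c49)) :=
  Lgr Lrot150 (Lpe (f773100 IH) (Lpr_gf (f912011 IH) (Lpe (f912010 IH) (Lpe (f704927 IH) (Lpr_ct (K65.f677480 IH) (Lpq (K65.f774151 IH) (Lpe (K65.f662266 IH) (Lpr_ct (f440348 IH) (Lpe (f440350 IH) (Lpe (f440351 IH) (Lpn (LP (LK LD1_c21 LD2_c36 LD3_c49)))))))))))))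
theorem f912014 : Led Lsl_gt (LP (LK LD1_c17 LD2_c30 LD3_c9)) = (LP (LK LD1_c21 LD2_c36 LD3_c49)) :=
  Leop (Lpe (f912013 IH) (Lpn (LP (LK LD1_c17 LD2_c30 LD3_c9))))
theorem seed_2354 : LEOK LG_g (LK LD1_c17 LD2_c30 LD3_c9) :=
  Leoe_g (LK LD1_c17 LD2_c30 LD3_c9) (f912014 IH)
def v39911 : LQ := Led Lsl_ft (LP (LK LD1_c9 LD2_c29 LD3_c18))
theorem f912057 : Led Lsl_ft (LP (LK LD1_c9 LD2_c29 LD3_c18)) = v39911 :=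
  Lrfl
theorem f440046 : Led Lsl_gt (LP (LK LD1_c9 LD2_c29 LD3_c18)) = (LP (LK LD1_c17 LD2_c29 LD3_c60)) :=
  Lre_g IH (LK LD1_c9 LD2_c29 LD3_c18) (LK LD1_c17 LD2_c29 LD3_c60) Lrfl Lrfl
theorem f147558 : Led Lsl_dt (LP (LK LD1_c3 LD2_c54 LD3_c14)) = (LP (LK LD1_c7 LD2_c50 LD3_c2)) :=
  Lre_d IH (LK LD1_c3 LD2_c54 LD3_c14) (LK LD1_c7 LD2_c50 LD3_c2) Lrfl Lrfl
theorem f148480 : Led Lsl_af (LP (LK LD1_c9 LD2_c29 LD3_c18)) = (LP (LK LD1_c7 LD2_c50 LD3_c2)) :=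
  Lgr Lrot117 (Lpr_dt (K50.f148459 IH) (Lpr_at (K50.f148468 IH) (Lpr_dt (f147558 IH) (Lpn (LP (LK LD1_c7 LD2_c50 LD3_c2))))))
theorem f148493 : Led Lsl_ft (LP (LK LD1_c14 LD2_c46 LD3_c38)) = (LP (LK LD1_c7 LD2_c50 LD3_c2)) :=
  Lre_f IH (LK LD1_c14 LD2_c46 LD3_c38) (LK LD1_c7 LD2_c50 LD3_c2) Lrfl Lrfl
theorem f912058 : Led Lsl_af (LP (LK LD1_c14 LD2_c46 LD3_c38)) = v39911 :=
  Lgr Lrot45 (Lpr_ft (f148493 IH) (Lpe (f148480 IH) (Lpr_ft (f912057 IH) (Lpn v39911))))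
theorem f912062 : Led Lsl_gt (LP (LK LD1_c17 LD2_c29 LD3_c60)) = (LP (LK LD1_c14 LD2_c46 LD3_c38)) :=
  Lgr Lrot46 (Lpe (f440046 IH) (Lpr_ft (f912057 IH) (Lpe (f912058 IH) (Lpn (LP (LK LD1_c14 LD2_c46 LD3_c38))))))
theorem f912063 : Led Lsl_gt (LP (LK LD1_c17 LD2_c29 LD3_c60)) = (LP (LK LD1_c14 LD2_c46 LD3_c38)) :=
  Leop (Lpe (f912062 IH) (Lpn (LP (LK LD1_c17 LD2_c29 LD3_c60))))
theorem seed_2355 : LEOK LG_g (LK LD1_c17 LD2_c29 LD3_c60) :=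
  Leoe_g (LK LD1_c17 LD2_c29 LD3_c60) (f912063 IH)
def v39959 : LQ := Led Lsl_gt (LP (LK LD1_c9 LD2_c30 LD3_c5))
theorem f912306 : Led Lsl_gt (LP (LK LD1_c9 LD2_c30 LD3_c5)) = v39959 :=
  Lrfl
theorem f426300 : Led Lsl_dt (LP (LK LD1_c4 LD2_c48 LD3_c47)) = (LP (LK LD1_c9 LD2_c30 LD3_c5)) :=
  Lre_d IH (LK LD1_c4 LD2_c48 LD3_c47) (LK LD1_c9 LD2_c30 LD3_c5) Lrfl Lrfl
def v17720 : LQ := Led Lsl_ct (LP (LK LD1_c6 LD2_c21 LD3_c38))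
theorem f761851 : Led Lsl_ct (LP (LK LD1_c6 LD2_c21 LD3_c38)) = v17720 :=
  Lrfl
theorem f912307 : Led Lsl_df v17720 = v39959 :=
  Lgr Lrot84 (Lpe (f761851 IH) (Lpe (K35.f438658 IH) (Lpr_gf (K42.f615203 IH) (Lpe (K42.f76092 IH) (Lpe (K45.f570792 IH) (Lpr_cf (K55.f643111 IH) (Lpr_gt (K55.f56976 IH) (Lpr_dt (f426300 IH) (Lpr_gt (f912306 IH) (Lpn v39959))))))))))
def v15959 : LQ := Led Lsl_ct (LP (LK LD1_c5 LD2_c50 LD3_c35))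
theorem f744414 : Led Lsl_ct (LP (LK LD1_c5 LD2_c50 LD3_c35)) = v15959 :=
  Lrfl
theorem f744415 : Led Lsl_cf (LP (LK LD1_c5 LD2_c50 LD3_c35)) = v15959 :=
  Lgr Lrot11 (Lpr_ct (f744414 IH) (Lpn v15959))
theorem f761853 : Led Lsl_ff v15959 = v17720 :=
  Lgr Lrot23 (Lpe (f744415 IH) (Lpe (K66.f506159 IH) (Lpr_ct (f761851 IH) (Lpn v17720))))
def v16422 : LQ := Led Lsl_gf (LP (LK LD1_c6 LD2_c0 LD3_c15))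
theorem f749278 : Led Lsl_gf (LP (LK LD1_c6 LD2_c0 LD3_c15)) = v16422 :=
  Lrfl
theorem f72671 : Led Lsl_et (LP (LK LD1_c2 LD2_c56 LD3_c25)) = (LP (LK LD1_c1 LD2_c24 LD3_c3)) :=
  Lre_e IH (LK LD1_c2 LD2_c56 LD3_c25) (LK LD1_c1 LD2_c24 LD3_c3) Lrfl Lrfl
theorem f744425 : Led Lsl_et K66.v5000 = v15959 :=
  Lgr Lrot158 (Lpr_cf (K66.f744423 IH) (Lpe (K66.f744416 IH) (Lpr_cf (f744415 IH) (Lpn v15959))))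
theorem f744426 : Led Lsl_ef K66.v5000 = v15959 :=
  Lgr Lrot88 (Lpr_et (f744425 IH) (Lpn v15959))
theorem f749279 : Led Lsl_dt v15959 = v16422 :=
  Lgr Lrot136 (Lpe (f744426 IH) (Lpe (K66.f641273 IH) (Lpe (K66.f500672 IH) (Lpr_dt (K2.f26530 IH) (Lpe (K8.f150243 IH) (Lpe (K28.f137229 IH) (Lpe (K8.f72649 IH) (Lpe (f72671 IH) (Lpr_dt (K37.f72672 IH) (Lpr_gf (f749278 IH) (Lpn v16422)))))))))))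
theorem f912309 : Led Lsl_ft v16422 = v39959 :=
  Lgr Lrot54 (Lpe (f749279 IH) (Lpr_ff (f761853 IH) (Lpr_df (f912307 IH) (Lpn v39959))))
theorem f749280 : Led Lsl_df v15959 = v16422 :=
  Lgr Lrot38 (Lpr_dt (f749279 IH) (Lpn v16422))
theorem f500130 : Led Lsl_dt (LP (LK LD1_c5 LD2_c50 LD3_c34)) = (LP (LK LD1_c11 LD2_c29 LD3_c0)) :=
  Lre_d IH (LK LD1_c5 LD2_c50 LD3_c34) (LK LD1_c11 LD2_c29 LD3_c0) Lrfl Lrfl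
theorem f500124 : Led Lsl_ct (LP (LK LD1_c11 LD2_c29 LD3_c0)) = (LP (LK LD1_c20 LD2_c26 LD3_c15)) :=
  Lre_c IH (LK LD1_c11 LD2_c29 LD3_c0) (LK LD1_c20 LD2_c26 LD3_c15) Lrfl Lrfl
theorem f72673 : Led Lsl_gt (LP (LK LD1_c6 LD2_c0 LD3_c15)) = (LP (LK LD1_c11 LD2_c45 LD3_c0)) :=
  Lre_g IH (LK LD1_c6 LD2_c0 LD3_c15) (LK LD1_c11 LD2_c45 LD3_c0) Lrfl Lrfl
theorem f912311 : Led Lsl_af (LP (LK LD1_c11 LD2_c45 LD3_c0)) = v39959 :=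
  Lgr Lrot31 (Lpe (f72673 IH) (Lpr_gf (f749278 IH) (Lpr_ft (f912309 IH) (Lpn v39959))))
theorem f643953 : Led Lsl_ct (LP (LK LD1_c20 LD2_c46 LD3_c21)) = (LP (LK LD1_c11 LD2_c45 LD3_c0)) :=
  Lre_c IH (LK LD1_c20 LD2_c46 LD3_c21) (LK LD1_c11 LD2_c45 LD3_c0) Lrfl Lrfl
theorem f912312 : Led Lsl_dt (LP (LK LD1_c20 LD2_c26 LD3_c15)) = (LP (LK LD1_c20 LD2_c46 LD3_c21)) :=
  Lgr Lrot120 (Lpe (f500124 IH) (Lpe (f500130 IH) (Lpe (K35.f139893 IH) (Lpe (K35.f500046 IH) (Lpr_cf (f744415 IH) (Lpr_df (f749280 IH) (Lpr_ft (f912309 IH) (Lpe (f912311 IH) (Lpe (f643953 IH) (Lpn (LP (LK LD1_c20 LD2_c46 LD3_c21))))))))))))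
theorem f912313 : Led Lsl_dt (LP (LK LD1_c20 LD2_c26 LD3_c15)) = (LP (LK LD1_c20 LD2_c46 LD3_c21)) :=
  Leop (Lpe (f912312 IH) (Lpn (LP (LK LD1_c20 LD2_c26 LD3_c15))))
theorem seed_2356 : LEOK LG_d (LK LD1_c20 LD2_c26 LD3_c15) :=
  Leoe_d (LK LD1_c20 LD2_c26 LD3_c15) (f912313 IH)
def v39969 : LQ := Led Lsl_ct (LP (LK LD1_c9 LD2_c30 LD3_c21))
theorem f912383 : Led Lsl_ct (LP (LK LD1_c9 LD2_c30 LD3_c21)) = v39969 :=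
  Lrfl
theorem f76063 : Led Lsl_ct (LP (LK LD1_c11 LD2_c44 LD3_c25)) = (LP (LK LD1_c5 LD2_c59 LD3_c57)) :=
  Lre_c IH (LK LD1_c11 LD2_c44 LD3_c25) (LK LD1_c5 LD2_c59 LD3_c57) Lrfl Lrfl
theorem f912386 : Led Lsl_ff (LP (LK LD1_c11 LD2_c44 LD3_c25)) = v39969 :=
  Lgr Lrot23 (Lpr_ct (f76063 IH) (Lpr_ft (K69.f698989 IH) (Lpr_ct (f912383 IH) (Lpn v39969))))
theorem f912388 : Led Lsl_ft (LP (LK LD1_c11 LD2_c44 LD3_c25)) = v39969 :=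
  Lgr Lrot48 (Lpr_ff (f912386 IH) (Lpn v39969))
theorem f76061 : Led Lsl_gt (LP (LK LD1_c11 LD2_c44 LD3_c25)) = (LP (LK LD1_c20 LD2_c45 LD3_c52)) :=
  Lre_g IH (LK LD1_c11 LD2_c44 LD3_c25) (LK LD1_c20 LD2_c45 LD3_c52) Lrfl Lrfl
theorem f645216 : Led Lsl_dt K48.v1707 = K55.v5079 :=
  Lgr Lrot60 (Lpr_ff (K51.f508014 IH) (Lpe (K55.f508513 IH) (Lpr_ff (K55.f645215 IH) (Lpn K55.v5079))))
theorem f502752 : Led Lsl_dt (LP (LK LD1_c2 LD2_c56 LD3_c17)) = (LP (LK LD1_c5 LD2_c59 LD3_c59)) :=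
  Lre_d IH (LK LD1_c2 LD2_c56 LD3_c17) (LK LD1_c5 LD2_c59 LD3_c59) Lrfl Lrfl
theorem f669229 : K55.v5079 = (LP (LK LD1_c5 LD2_c59 LD3_c59)) :=
  Lefun (Lecon (f645216 IH) (K48.f669222 IH)) (f502752 IH)
theorem f502753 : Led Lsl_ct (LP (LK LD1_c11 LD2_c44 LD3_c26)) = (LP (LK LD1_c5 LD2_c59 LD3_c59)) :=
  Lre_c IH (LK LD1_c11 LD2_c44 LD3_c26) (LK LD1_c5 LD2_c59 LD3_c59) Lrfl Lrfl
theorem f912384 : Led Lsl_af (LP (LK LD1_c11 LD2_c44 LD3_c26)) = v39969 :=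
  Lgr Lrot68 (Lpr_ct (f502753 IH) (Lpq (f669229 IH) (Lpr_at (K55.f698987 IH) (Lpr_ct (f912383 IH) (Lpn v39969)))))
theorem f912389 : Led Lsl_gt (LP (LK LD1_c20 LD2_c45 LD3_c52)) = (LP (LK LD1_c11 LD2_c44 LD3_c26)) :=
  Lgr Lrot46 (Lpe (f76061 IH) (Lpr_ft (f912388 IH) (Lpe (f912384 IH) (Lpn (LP (LK LD1_c11 LD2_c44 LD3_c26))))))
theorem f912390 : Led Lsl_gt (LP (LK LD1_c20 LD2_c45 LD3_c52)) = (LP (LK LD1_c11 LD2_c44 LD3_c26)) :=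
  Leop (Lpe (f912389 IH) (Lpn (LP (LK LD1_c20 LD2_c45 LD3_c52))))
theorem seed_2357 : LEOK LG_g (LK LD1_c20 LD2_c45 LD3_c52) :=
  Leoe_g (LK LD1_c20 LD2_c45 LD3_c52) (f912390 IH)
def v39970 : LQ := Led Lsl_et (LP (LK LD1_c9 LD2_c30 LD3_c21))
theorem f912391 : Led Lsl_et (LP (LK LD1_c9 LD2_c30 LD3_c21)) = v39970 :=
  Lrfl
theorem f912394 : Led Lsl_ef (LP (LK LD1_c9 LD2_c30 LD3_c21)) = v39970 :=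
  Lgr Lrot88 (Lpr_et (f912391 IH) (Lpn v39970))
theorem f912398 : Led Lsl_bt (LP (LK LD1_c12 LD2_c53 LD3_c50)) = v39970 :=
  Lgr Lrot119 (Lpe (K56.f116924 IH) (Lpe (K55.f699007 IH) (Lpr_ef (f912394 IH) (Lpn v39970))))
theorem f281558 : Led Lsl_bt (LP (LK LD1_c20 LD2_c12 LD3_c13)) = (LP (LK LD1_c11 LD2_c16 LD3_c15)) :=
  Lre_b IH (LK LD1_c20 LD2_c12 LD3_c13) (LK LD1_c11 LD2_c16 LD3_c15) Lrfl Lrfl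
theorem f912399 : Led Lsl_ff (LP (LK LD1_c20 LD2_c12 LD3_c13)) = v39970 :=
  Lgr Lrot25 (Lpr_bt (f281558 IH) (Lpr_ft (K55.f700326 IH) (Lpr_bt (f912398 IH) (Lpn v39970))))
theorem f912400 : Led Lsl_ft (LP (LK LD1_c20 LD2_c12 LD3_c13)) = v39970 :=
  Lgr Lrot48 (Lpr_ff (f912399 IH) (Lpn v39970))
theorem f618455 : Led Lsl_et (LP (LK LD1_c11 LD2_c44 LD3_c27)) = (LP (LK LD1_c5 LD2_c59 LD3_c59)) :=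
  Lre_e IH (LK LD1_c11 LD2_c44 LD3_c27) (LK LD1_c5 LD2_c59 LD3_c59) Lrfl Lrfl
theorem f912392 : Led Lsl_af (LP (LK LD1_c11 LD2_c44 LD3_c27)) = v39970 :=
  Lgr Lrot50 (Lpr_et (f618455 IH) (Lpq (f669229 IH) (Lpr_at (K55.f698987 IH) (Lpr_et (f912391 IH) (Lpn v39970)))))
theorem f912401 : Led Lsl_gt (LP (LK LD1_c20 LD2_c12 LD3_c13)) = (LP (LK LD1_c11 LD2_c17 LD3_c52)) :=
  Lgr Lrot5 (Lpr_ft (f912400 IH) (Lpe (f912392 IH) (Lpr_gf (K69.f622072 IH) (Lpn (LP (LK LD1_c11 LD2_c17 LD3_c52))))))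
theorem f912402 : Led Lsl_gt (LP (LK LD1_c20 LD2_c12 LD3_c13)) = (LP (LK LD1_c11 LD2_c17 LD3_c52)) :=
  Leop (Lpe (f912401 IH) (Lpn (LP (LK LD1_c20 LD2_c12 LD3_c13))))
theorem seed_2358 : LEOK LG_g (LK LD1_c20 LD2_c12 LD3_c13) :=
  Leoe_g (LK LD1_c20 LD2_c12 LD3_c13) (f912402 IH)
def v39982 : LQ := Led Lsl_dt (LP (LK LD1_c9 LD2_c30 LD3_c33))
theorem f912497 : Led Lsl_dt (LP (LK LD1_c9 LD2_c30 LD3_c33)) = v39982 :=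
  Lrfl
theorem f495917 : Led Lsl_gt (LP (LK LD1_c4 LD2_c48 LD3_c61)) = (LP (LK LD1_c9 LD2_c30 LD3_c33)) :=
  Lre_g IH (LK LD1_c4 LD2_c48 LD3_c61) (LK LD1_c9 LD2_c30 LD3_c33) Lrfl Lrfl
theorem f495916 : Led Lsl_et (LP (LK LD1_c2 LD2_c55 LD3_c1)) = (LP (LK LD1_c4 LD2_c48 LD3_c61)) :=
  Lre_e IH (LK LD1_c2 LD2_c55 LD3_c1) (LK LD1_c4 LD2_c48 LD3_c61) Lrfl Lrfl
theorem f618464 : Led Lsl_et (LP (LK LD1_c6 LD2_c0 LD3_c23)) = (LP (LK LD1_c11 LD2_c45 LD3_c12)) :=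
  Lre_e IH (LK LD1_c6 LD2_c0 LD3_c23) (LK LD1_c11 LD2_c45 LD3_c12) Lrfl Lrfl
theorem f644002 : Led Lsl_dt (LP (LK LD1_c9 LD2_c30 LD3_c45)) = (LP (LK LD1_c11 LD2_c35 LD3_c61)) :=
  Lgr Lrot77 (Lpr_ef (K50.f643995 IH) (Lpr_df (K50.f618460 IH) (Lpe (f618464 IH) (Lpe (K50.f75034 IH) (Lpr_ef (K50.f643515 IH) (Lpn (LP (LK LD1_c11 LD2_c35 LD3_c61))))))))
theorem f912501 : Led Lsl_gf (LP (LK LD1_c11 LD2_c35 LD3_c61)) = v39982 :=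
  Lgr Lrot134 (Lpe (f644002 IH) (Lpr_et (K50.f644004 IH) (Lpr_gt (K50.f150372 IH) (Lpe (K40.f428271 IH) (Lpr_dt (K36.f383269 IH) (Lpq (K36.f539257 IH) (Lpe (K31.f495910 IH) (Lpe (K40.f72500 IH) (Lpr_et (f495916 IH) (Lpr_gt (f495917 IH) (Lpr_dt (f912497 IH) (Lpn v39982))))))))))))
theorem f698991 : Led Lsl_gf (LP (LK LD1_c17 LD2_c7 LD3_c40)) = (LP (LK LD1_c9 LD2_c30 LD3_c21)) :=
  Lgr Lrot47 (Lpr_gt (K53.f669247 IH) (Lpr_af (K55.f669245 IH) (Lpr_ff (K55.f698985 IH) (Lpn (LP (LK LD1_c9 LD2_c30 LD3_c21))))))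
theorem f912502 : Led Lsl_et (LP (LK LD1_c11 LD2_c39 LD3_c55)) = v39982 :=
  Lgr Lrot121 (Lpr_dt (K53.f720283 IH) (Lpr_gf (f698991 IH) (Lpe (K55.f502759 IH) (Lpr_et (K56.f698984 IH) (Lpqs (K56.f740499 IH) (Lpe (K56.f705266 IH) (Lpe (K50.f634127 IH) (Lpr_dt (K56.f426266 IH) (Lpe (K50.f643994 IH) (Lpr_df (K50.f644013 IH) (Lpr_gf (f912501 IH) (Lpn v39982))))))))))))
theorem f912503 : Led Lsl_ef (LP (LK LD1_c11 LD2_c39 LD3_c55)) = v39982 :=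
  Lgr Lrot88 (Lpr_et (f912502 IH) (Lpn v39982))
theorem f645058 : Led Lsl_gt (LP (LK LD1_c11 LD2_c39 LD3_c51)) = (LP (LK LD1_c6 LD2_c8 LD3_c50)) :=
  Lgr Lrot5 (Lpe (K41.f641954 IH) (Lpr_at (K41.f641948 IH) (Lpr_gf (K55.f645056 IH) (Lpn (LP (LK LD1_c6 LD2_c8 LD3_c50))))))
theorem f752970 : Led Lsl_at K56.v16347 = (LP (LK LD1_c6 LD2_c8 LD3_c50)) :=
  Lgr Lrot26 (Lpr_ff (K62.f752964 IH) (Lpe (K41.f642137 IH) (Lpr_gt (f645058 IH) (Lpn (LP (LK LD1_c6 LD2_c8 LD3_c50))))))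
theorem f748910 : Led Lsl_dt (LP (LK LD1_c17 LD2_c7 LD3_c39)) = K56.v16347 :=
  Lgr Lrot42 (Lpr_df (K56.f748909 IH) (Lpn K56.v16347))
theorem f752976 : Led Lsl_af (LP (LK LD1_c17 LD2_c7 LD3_c39)) = (LP (LK LD1_c11 LD2_c44 LD3_c23)) :=
  Lgr Lrot117 (Lpr_dt (f748910 IH) (Lpr_at (f752970 IH) (Lpe (K56.f75861 IH) (Lpn (LP (LK LD1_c11 LD2_c44 LD3_c23))))))
theorem f752980 : Led Lsl_ft (LP (LK LD1_c17 LD2_c7 LD3_c40)) = (LP (LK LD1_c11 LD2_c44 LD3_c23)) :=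
  Lgr Lrot2 (Lpr_gt (K53.f669247 IH) (Lpr_gt (K56.f645218 IH) (Lpr_af (f752976 IH) (Lpn (LP (LK LD1_c11 LD2_c44 LD3_c23))))))
theorem f752986 : Led Lsl_ff (LP (LK LD1_c17 LD2_c7 LD3_c40)) = (LP (LK LD1_c11 LD2_c44 LD3_c23)) :=
  Lgr Lrot3 (Lpr_ft (f752980 IH) (Lpn (LP (LK LD1_c11 LD2_c44 LD3_c23))))
theorem f720285 : Led Lsl_df (LP (LK LD1_c11 LD2_c39 LD3_c55)) = (LP (LK LD1_c17 LD2_c7 LD3_c40)) :=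
  Lgr Lrot38 (Lpr_dt (K53.f720283 IH) (Lpn (LP (LK LD1_c17 LD2_c7 LD3_c40))))
theorem f752988 : Led Lsl_ft (LP (LK LD1_c11 LD2_c39 LD3_c55)) = (LP (LK LD1_c6 LD2_c8 LD3_c50)) :=
  Lgr Lrot54 (Lpr_df (f720285 IH) (Lpr_ff (f752986 IH) (Lpr_df (K56.f75861 IH) (Lpn (LP (LK LD1_c6 LD2_c8 LD3_c50))))))
theorem f912506 : Led Lsl_ft (LP (LK LD1_c9 LD2_c31 LD3_c4)) = v39982 :=
  Lgr Lrot86 (Lpr_ef (K62.f76202 IH) (Lpqs (K56.f752935 IH) (Lpe (K56.f646355 IH) (Lpe (K56.f75860 IH) (Lpe (f752988 IH) (Lpr_ef (f912503 IH) (Lpn v39982)))))))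
theorem f705526 : Led Lsl_ff (LP (LK LD1_c4 LD2_c49 LD3_c9)) = K62.v13857 :=
  Lgr Lrot3 (Lpr_ft (K62.f705524 IH) (Lpn K62.v13857))
theorem f753010 : K62.v13854 = (LP (LK LD1_c9 LD2_c30 LD3_c33)) :=
  (Llr Lrot26 (Lpe (K62.f705507 IH) (Lpr_ff (f705526 IH) (Lpqs (K62.f752956 IH) (Lpr_gt (K2.f75022 IH) (Lpr_gt (f495917 IH) (Lpn (LP (LK LD1_c9 LD2_c30 LD3_c33))))))))).symm
theorem f912498 : Led Lsl_af (LP (LK LD1_c9 LD2_c31 LD3_c1)) = v39982 :=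
  Lgr Lrot117 (Lpr_dt (K41.f502757 IH) (Lpr_at (K62.f705507 IH) (Lpqs (f753010 IH) (Lpr_dt (f912497 IH) (Lpn v39982)))))
def v16222 : LQ := Led Lsl_gf (LP (LK LD1_c5 LD2_c55 LD3_c17))
theorem f747110 : Led Lsl_gf (LP (LK LD1_c5 LD2_c55 LD3_c17)) = v16222 :=
  Lrfl
theorem f912507 : (LP (LK LD1_c9 LD2_c31 LD3_c4)) = v16222 :=
  (Llr Lrot52 (Lpr_ft (f912506 IH) (Lpe (f912498 IH) (Lpqs (K56.f749655 IH) (Lpe (K56.f747109 IH) (Lpr_gf (f747110 IH) (Lpn v16222))))))).symm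
theorem f912508 : Led Lsl_gt (LP (LK LD1_c9 LD2_c31 LD3_c4)) = (LP (LK LD1_c5 LD2_c55 LD3_c17)) :=
  Leop (Lpr_gf (f747110 IH) (Lpq (f912507 IH) (Lpn (LP (LK LD1_c9 LD2_c31 LD3_c4)))))
theorem seed_2359 : LEOK LG_g (LK LD1_c9 LD2_c31 LD3_c4) :=
  Leoe_g (LK LD1_c9 LD2_c31 LD3_c4) (f912508 IH)
def v40007 : LQ := Led Lsl_ft (LP (LK LD1_c9 LD2_c30 LD3_c57))
theorem f912661 : Led Lsl_ft (LP (LK LD1_c9 LD2_c30 LD3_c57)) = v40007 :=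
  Lrfl
theorem f644028 : Led Lsl_gt (LP (LK LD1_c9 LD2_c30 LD3_c57)) = (LP (LK LD1_c17 LD2_c32 LD3_c30)) :=
  Lre_g IH (LK LD1_c9 LD2_c30 LD3_c57) (LK LD1_c17 LD2_c32 LD3_c30) Lrfl Lrfl
theorem f415116 : Led Lsl_ct (LP (LK LD1_c17 LD2_c31 LD3_c53)) = (LP (LK LD1_c9 LD2_c30 LD3_c32)) :=
  Lre_c IH (LK LD1_c17 LD2_c31 LD3_c53) (LK LD1_c9 LD2_c30 LD3_c32) Lrfl Lrfl
theorem f705389 : Led Lsl_af (LP (LK LD1_c17 LD2_c31 LD3_c53)) = (LP (LK LD1_c9 LD2_c30 LD3_c57)) :=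
  Lgr Lrot68 (Lpr_ct (f415116 IH) (Lpq (K52.f705361 IH) (Lpe (K55.f705289 IH) (Lpr_ct (K55.f644027 IH) (Lpn (LP (LK LD1_c9 LD2_c30 LD3_c57)))))))
theorem f705391 : Led Lsl_at (LP (LK LD1_c17 LD2_c31 LD3_c53)) = (LP (LK LD1_c9 LD2_c30 LD3_c57)) :=
  Lgr Lrot100 (Lpr_af (f705389 IH) (Lpn (LP (LK LD1_c9 LD2_c30 LD3_c57))))
theorem f415111 : Led Lsl_ct (LP (LK LD1_c9 LD2_c30 LD3_c32)) = (LP (LK LD1_c17 LD2_c31 LD3_c53)) :=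
  Lre_c IH (LK LD1_c9 LD2_c30 LD3_c32) (LK LD1_c17 LD2_c31 LD3_c53) Lrfl Lrfl
theorem f705368 : Led Lsl_ff (LP (LK LD1_c21 LD2_c38 LD3_c48)) = (LP (LK LD1_c17 LD2_c31 LD3_c53)) :=
  Lgr Lrot23 (Lpr_ct (K52.f454602 IH) (Lpr_ft (K50.f705293 IH) (Lpqs (K52.f705361 IH) (Lpr_ct (f415111 IH) (Lpn (LP (LK LD1_c17 LD2_c31 LD3_c53)))))))
theorem f705372 : Led Lsl_ft (LP (LK LD1_c21 LD2_c38 LD3_c48)) = (LP (LK LD1_c17 LD2_c31 LD3_c53)) :=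
  Lgr Lrot48 (Lpr_ff (f705368 IH) (Lpn (LP (LK LD1_c17 LD2_c31 LD3_c53))))
theorem f912662 : Led Lsl_af (LP (LK LD1_c21 LD2_c38 LD3_c48)) = v40007 :=
  Lgr Lrot45 (Lpr_ft (f705372 IH) (Lpr_at (f705391 IH) (Lpr_ft (f912661 IH) (Lpn v40007))))
theorem f912666 : Led Lsl_gt (LP (LK LD1_c17 LD2_c32 LD3_c30)) = (LP (LK LD1_c21 LD2_c38 LD3_c48)) :=
  Lgr Lrot46 (Lpe (f644028 IH) (Lpr_ft (f912661 IH) (Lpe (f912662 IH) (Lpn (LP (LK LD1_c21 LD2_c38 LD3_c48))))))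
theorem f912667 : Led Lsl_gt (LP (LK LD1_c17 LD2_c32 LD3_c30)) = (LP (LK LD1_c21 LD2_c38 LD3_c48)) :=
  Leop (Lpe (f912666 IH) (Lpn (LP (LK LD1_c17 LD2_c32 LD3_c30))))
theorem seed_2360 : LEOK LG_g (LK LD1_c17 LD2_c32 LD3_c30) :=
  Leoe_g (LK LD1_c17 LD2_c32 LD3_c30) (f912667 IH)
theorem f912668 : Led Lsl_ft (LP (LK LD1_c17 LD2_c32 LD3_c30)) = (LP (LK LD1_c11 LD2_c44 LD3_c58)) :=
  Lgr Lrot2 (Lpr_gt (f912666 IH) (Lpr_gt (K46.f643220 IH) (Lpe (K55.f643833 IH) (Lpn (LP (LK LD1_c11 LD2_c44 LD3_c58))))))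
def v39958 : LQ := Led Lsl_et (LP (LK LD1_c9 LD2_c30 LD3_c4))
theorem f912300 : Led Lsl_et (LP (LK LD1_c9 LD2_c30 LD3_c4)) = v39958 :=
  Lrfl
theorem f643182 : Led Lsl_af (LP (LK LD1_c5 LD2_c50 LD3_c24)) = (LP (LK LD1_c9 LD2_c49 LD3_c39)) :=
  Lgr Lrot0 (Lpr_at (K45.f643180 IH) (Lpn (LP (LK LD1_c9 LD2_c49 LD3_c39))))
theorem f643283 : Led Lsl_at (LP (LK LD1_c6 LD2_c0 LD3_c14)) = (LP (LK LD1_c9 LD2_c30 LD3_c4)) :=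
  Lgr Lrot107 (Lpr_cf (K45.f643281 IH) (Lpr_af (f643182 IH) (Lpr_cf (K55.f643111 IH) (Lpn (LP (LK LD1_c9 LD2_c30 LD3_c4))))))
theorem f912301 : Led Lsl_af (LP (LK LD1_c11 LD2_c44 LD3_c61)) = v39958 :=
  Lgr Lrot50 (Lpr_et (K55.f156790 IH) (Lpr_at (f643283 IH) (Lpr_et (f912300 IH) (Lpn v39958))))
theorem f645062 : Led Lsl_gt (LP (LK LD1_c11 LD2_c46 LD3_c56)) = (LP (LK LD1_c6 LD2_c1 LD3_c8)) :=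
  Lre_g IH (LK LD1_c11 LD2_c46 LD3_c56) (LK LD1_c6 LD2_c1 LD3_c8) Lrfl Lrfl
theorem f912304 : Led Lsl_ft (LP (LK LD1_c11 LD2_c46 LD3_c56)) = v39958 :=
  Lgr Lrot2 (Lpr_gt (f645062 IH) (Lpe (K55.f744352 IH) (Lpr_af (f912301 IH) (Lpn v39958))))
theorem f912305 : Led Lsl_ff (LP (LK LD1_c11 LD2_c46 LD3_c56)) = v39958 :=
  Lgr Lrot3 (Lpr_ft (f912304 IH) (Lpn v39958))
theorem f912670 : Led Lsl_ef (LP (LK LD1_c17 LD2_c32 LD3_c30)) = (LP (LK LD1_c11 LD2_c46 LD3_c56)) :=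
  Lgr Lrot21 (Lpr_ft (f912668 IH) (Lpr_et (K55.f425910 IH) (Lpe (K55.f643818 IH) (Lpr_et (f912300 IH) (Lpe (f912305 IH) (Lpn (LP (LK LD1_c11 LD2_c46 LD3_c56))))))))
theorem f912671 : Led Lsl_et (LP (LK LD1_c11 LD2_c46 LD3_c56)) = (LP (LK LD1_c17 LD2_c32 LD3_c30)) :=
  Leop (Lpr_ef (f912670 IH) (Lpn (LP (LK LD1_c11 LD2_c46 LD3_c56))))
theorem seed_2361 : LEOK LG_e (LK LD1_c11 LD2_c46 LD3_c56) :=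
  Leoe_e (LK LD1_c11 LD2_c46 LD3_c56) (f912671 IH)
theorem f912665 : Led Lsl_ff (LP (LK LD1_c9 LD2_c30 LD3_c57)) = v40007 :=
  Lgr Lrot3 (Lpr_ft (f912661 IH) (Lpn v40007))
theorem f644031 : Led Lsl_ct (LP (LK LD1_c9 LD2_c30 LD3_c57)) = (LP (LK LD1_c4 LD2_c49 LD3_c8)) :=
  Lre_c IH (LK LD1_c9 LD2_c30 LD3_c57) (LK LD1_c4 LD2_c49 LD3_c8) Lrfl Lrfl
theorem f912722 : Led Lsl_ct (LP (LK LD1_c9 LD2_c30 LD3_c61)) = v40007 :=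
  Lgr Lrot40 (Lpe (K50.f634140 IH) (Lpe (f644031 IH) (Lpr_ff (f912665 IH) (Lpn v40007))))
def v16306 : LQ := Led Lsl_ft (LP (LK LD1_c5 LD2_c57 LD3_c23))
theorem f748369 : Led Lsl_ft (LP (LK LD1_c5 LD2_c57 LD3_c23)) = v16306 :=
  Lrfl
theorem f748373 : Led Lsl_ff (LP (LK LD1_c5 LD2_c57 LD3_c23)) = v16306 :=
  Lgr Lrot3 (Lpr_ft (f748369 IH) (Lpn v16306))
theorem f446108 : Led Lsl_ct (LP (LK LD1_c12 LD2_c32 LD3_c42)) = (LP (LK LD1_c6 LD2_c32 LD3_c35)) :=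
  Lre_c IH (LK LD1_c12 LD2_c32 LD3_c42) (LK LD1_c6 LD2_c32 LD3_c35) Lrfl Lrfl
theorem f644205 : Led Lsl_ct (LP (LK LD1_c6 LD2_c0 LD3_c19)) = (LP (LK LD1_c11 LD2_c45 LD3_c4)) :=
  Lre_c IH (LK LD1_c6 LD2_c0 LD3_c19) (LK LD1_c11 LD2_c45 LD3_c4) Lrfl Lrfl
theorem f644245 : Led Lsl_ft (LP (LK LD1_c6 LD2_c32 LD3_c35)) = (LP (LK LD1_c6 LD2_c0 LD3_c19)) :=
  Lgr Lrot4 (Lpe (f446108 IH) (Lpr_ff (K57.f644243 IH) (Lpe (f644205 IH) (Lpn (LP (LK LD1_c6 LD2_c0 LD3_c19))))))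
theorem f748376 : Led Lsl_dt (LP (LK LD1_c6 LD2_c0 LD3_c19)) = v16306 :=
  Lgr Lrot60 (Lpe (f644245 IH) (Lpe (K42.f23854 IH) (Lpr_ff (f748373 IH) (Lpn v16306))))
theorem f748377 : Led Lsl_gf (LP (LK LD1_c5 LD2_c58 LD3_c28)) = v16306 :=
  Lgr Lrot47 (Lpe (K65.f716111 IH) (Lpe (K42.f446117 IH) (Lpr_ff (f748373 IH) (Lpn v16306))))
theorem f428290 : Led Lsl_dt (LP (LK LD1_c5 LD2_c58 LD3_c28)) = (LP (LK LD1_c2 LD2_c55 LD3_c37)) :=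
  Lre_d IH (LK LD1_c5 LD2_c58 LD3_c28) (LK LD1_c2 LD2_c55 LD3_c37) Lrfl Lrfl
theorem f428361 : Led Lsl_dt (LP (LK LD1_c11 LD2_c41 LD3_c28)) = (LP (LK LD1_c5 LD2_c58 LD3_c26)) :=
  Lre_d IH (LK LD1_c11 LD2_c41 LD3_c28) (LK LD1_c5 LD2_c58 LD3_c26) Lrfl Lrfl
theorem f912724 : Led Lsl_gf (LP (LK LD1_c11 LD2_c44 LD3_c58)) = v40007 :=
  Lgr Lrot148 (Lpe (K55.f499918 IH) (Lpr_gt (K55.f428362 IH) (Lpr_dt (f428361 IH) (Lpr_ct (K55.f427381 IH) (Lpe (f428290 IH) (Lpr_gf (f748377 IH) (Lpe (f748376 IH) (Lpr_gf (K57.f716103 IH) (Lpr_ct (f912722 IH) (Lpn v40007))))))))))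
theorem f912725 : Led Lsl_gt (LP (LK LD1_c11 LD2_c44 LD3_c58)) = (LP (LK LD1_c17 LD2_c31 LD3_c53)) :=
  Lgr Lrot46 (Lpr_gf (f912724 IH) (Lpe (f912665 IH) (Lpe (f705389 IH) (Lpn (LP (LK LD1_c17 LD2_c31 LD3_c53))))))
theorem f912726 : Led Lsl_gt (LP (LK LD1_c11 LD2_c44 LD3_c58)) = (LP (LK LD1_c17 LD2_c31 LD3_c53)) :=
  Leop (Lpe (f912725 IH) (Lpn (LP (LK LD1_c11 LD2_c44 LD3_c58))))
theorem seed_2362 : LEOK LG_g (LK LD1_c11 LD2_c44 LD3_c58) :=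
  Leoe_g (LK LD1_c11 LD2_c44 LD3_c58) (f912726 IH)
theorem f499928 : Led Lsl_ct (LP (LK LD1_c11 LD2_c44 LD3_c58)) = (LP (LK LD1_c20 LD2_c46 LD3_c14)) :=
  Lre_c IH (LK LD1_c11 LD2_c44 LD3_c58) (LK LD1_c20 LD2_c46 LD3_c14) Lrfl Lrfl
theorem f413579 : Led Lsl_bt (LP (LK LD1_c6 LD2_c46 LD3_c25)) = (LP (LK LD1_c9 LD2_c26 LD3_c16)) :=
  Lgr Lrot127 (Lpr_bf (K17.f413575 IH) (Lpn (LP (LK LD1_c9 LD2_c26 LD3_c16))))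
theorem f413593 : Led Lsl_et (LP (LK LD1_c9 LD2_c26 LD3_c16)) = (LP (LK LD1_c17 LD2_c24 LD3_c3)) :=
  Lre_e IH (LK LD1_c9 LD2_c26 LD3_c16) (LK LD1_c17 LD2_c24 LD3_c3) Lrfl Lrfl
theorem f782037 : Led Lsl_bt (LP (LK LD1_c17 LD2_c24 LD3_c3)) = K65.v19769 :=
  Lgr Lrot119 (Lpe (f413593 IH) (Lpe (f413579 IH) (Lpr_ef (K65.f782036 IH) (Lpn K65.v19769))))
theorem f711424 : Led Lsl_ct (LP (LK LD1_c17 LD2_c24 LD3_c3)) = (LP (LK LD1_c9 LD2_c26 LD3_c18)) :=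
  Lre_c IH (LK LD1_c17 LD2_c24 LD3_c3) (LK LD1_c9 LD2_c26 LD3_c18) Lrfl Lrfl
theorem f826814 : Led Lsl_gt (LP (LK LD1_c9 LD2_c26 LD3_c18)) = (LP (LK LD1_c12 LD2_c32 LD3_c42)) :=
  Lgr Lrot65 (Lpe (f711424 IH) (Lpr_bt (f782037 IH) (Lpqs (K65.f826787 IH) (Lpe (K65.f436250 IH) (Lpe (K35.f436247 IH) (Lpe (K24.f436241 IH) (Lpr_gf (K24.f454654 IH) (Lpe (K52.f510146 IH) (Lpr_gf (K50.f510152 IH) (Lpe (K42.f23853 IH) (Lpr_ct (K57.f446106 IH) (Lpn (LP (LK LD1_c12 LD2_c32 LD3_c42))))))))))))))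
theorem f71382 : Led Lsl_ct (LP (LK LD1_c11 LD2_c40 LD3_c1)) = (LP (LK LD1_c5 LD2_c57 LD3_c23)) :=
  Lre_c IH (LK LD1_c11 LD2_c40 LD3_c1) (LK LD1_c5 LD2_c57 LD3_c23) Lrfl Lrfl
theorem f446116 : Led Lsl_ct (LP (LK LD1_c20 LD2_c40 LD3_c3)) = (LP (LK LD1_c11 LD2_c40 LD3_c0)) :=
  Lre_c IH (LK LD1_c20 LD2_c40 LD3_c3) (LK LD1_c11 LD2_c40 LD3_c0) Lrfl Lrfl
theorem f643062 : Led Lsl_ff (LP (LK LD1_c20 LD2_c40 LD3_c3)) = (LP (LK LD1_c11 LD2_c42 LD3_c45)) :=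
  Lgr Lrot23 (Lpr_ct (f446116 IH) (Lpr_ft (K42.f643058 IH) (Lpr_ct (K65.f452975 IH) (Lpn (LP (LK LD1_c11 LD2_c42 LD3_c45))))))
theorem f446120 : Led Lsl_at (LP (LK LD1_c20 LD2_c40 LD3_c3)) = (LP (LK LD1_c11 LD2_c40 LD3_c1)) :=
  Lre_a IH (LK LD1_c20 LD2_c40 LD3_c3) (LK LD1_c11 LD2_c40 LD3_c1) Lrfl Lrfl
theorem f643262 : Led Lsl_gf (LP (LK LD1_c11 LD2_c40 LD3_c1)) = (LP (LK LD1_c17 LD2_c58 LD3_c38)) :=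
  Lgr Lrot76 (Lpe (f446120 IH) (Lpr_ff (f643062 IH) (Lpr_gt (K65.f641857 IH) (Lpn (LP (LK LD1_c17 LD2_c58 LD3_c38))))))
theorem f826816 : Led Lsl_gf (LP (LK LD1_c17 LD2_c24 LD3_c3)) = (LP (LK LD1_c20 LD2_c46 LD3_c14)) :=
  Lgr Lrot147 (Lpr_ct (f711424 IH) (Lpr_gt (f826814 IH) (Lpr_ct (f446108 IH) (Lpe (K42.f23854 IH) (Lpe (f71382 IH) (Lpr_gf (f643262 IH) (Lpe (K65.f76263 IH) (Lpe (K55.f76264 IH) (Lpr_df (K55.f643753 IH) (Lpn (LP (LK LD1_c20 LD2_c46 LD3_c14))))))))))))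
theorem f711427 : Led Lsl_ct (LP (LK LD1_c27 LD2_c13 LD3_c11)) = (LP (LK LD1_c17 LD2_c24 LD3_c6)) :=
  Lre_c IH (LK LD1_c27 LD2_c13 LD3_c11) (LK LD1_c17 LD2_c24 LD3_c6) Lrfl Lrfl
theorem f26527 : Led Lsl_et (LP (LK LD1_c2 LD2_c56 LD3_c11)) = (LP (LK LD1_c5 LD2_c59 LD3_c44)) :=
  Lre_e IH (LK LD1_c2 LD2_c56 LD3_c11) (LK LD1_c5 LD2_c59 LD3_c44) Lrfl Lrfl
theorem f26526 : Led Lsl_dt (LP (LK LD1_c2 LD2_c56 LD3_c11)) = (LP (LK LD1_c5 LD2_c58 LD3_c22)) :=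
  Lre_d IH (LK LD1_c2 LD2_c56 LD3_c11) (LK LD1_c5 LD2_c58 LD3_c22) Lrfl Lrfl
theorem f500737 : Led Lsl_gt (LP (LK LD1_c2 LD2_c55 LD3_c56)) = (LP (LK LD1_c5 LD2_c59 LD3_c1)) :=
  Lre_g IH (LK LD1_c2 LD2_c55 LD3_c56) (LK LD1_c5 LD2_c59 LD3_c1) Lrfl Lrfl
theorem f500738 : Led Lsl_dt (LP (LK LD1_c5 LD2_c59 LD3_c1)) = (LP (LK LD1_c11 LD2_c42 LD3_c32)) :=
  Lre_d IH (LK LD1_c5 LD2_c59 LD3_c1) (LK LD1_c11 LD2_c42 LD3_c32) Lrfl Lrfl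
theorem f500739 : Led Lsl_gt (LP (LK LD1_c11 LD2_c42 LD3_c32)) = (LP (LK LD1_c20 LD2_c42 LD3_c57)) :=
  Lre_g IH (LK LD1_c11 LD2_c42 LD3_c32) (LK LD1_c20 LD2_c42 LD3_c57) Lrfl Lrfl
theorem f653296 : Led Lsl_et (LP (LK LD1_c17 LD2_c31 LD3_c53)) = (LP (LK LD1_c9 LD2_c30 LD3_c30)) :=
  Lre_e IH (LK LD1_c17 LD2_c31 LD3_c53) (LK LD1_c9 LD2_c30 LD3_c30) Lrfl Lrfl
theorem f653297 : Led Lsl_df (LP (LK LD1_c20 LD2_c42 LD3_c57)) = (LP (LK LD1_c17 LD2_c31 LD3_c53)) :=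
  Lgr Lrot132 (Lpe (f500739 IH) (Lpe (f500738 IH) (Lpe (f500737 IH) (Lpe (K53.f500734 IH) (Lpr_dt (K2.f72552 IH) (Lpe (K37.f72578 IH) (Lpe (f26526 IH) (Lpr_et (f26527 IH) (Lpr_gf (K46.f653294 IH) (Lpe (f653296 IH) (Lpn (LP (LK LD1_c17 LD2_c31 LD3_c53)))))))))))))
theorem f705394 : Led Lsl_at (LP (LK LD1_c20 LD2_c42 LD3_c57)) = (LP (LK LD1_c17 LD2_c32 LD3_c31)) :=
  Lgr Lrot51 (Lpr_df (f653297 IH) (Lpr_af (f705389 IH) (Lpe (K55.f644030 IH) (Lpn (LP (LK LD1_c17 LD2_c32 LD3_c31))))))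
theorem f705396 : Led Lsl_af (LP (LK LD1_c20 LD2_c42 LD3_c57)) = (LP (LK LD1_c17 LD2_c32 LD3_c31)) :=
  Lgr Lrot0 (Lpr_at (f705394 IH) (Lpn (LP (LK LD1_c17 LD2_c32 LD3_c31))))
theorem f705400 : Led Lsl_gt (LP (LK LD1_c20 LD2_c42 LD3_c58)) = (LP (LK LD1_c11 LD2_c42 LD3_c32)) :=
  Lre_g IH (LK LD1_c20 LD2_c42 LD3_c58) (LK LD1_c11 LD2_c42 LD3_c32) Lrfl Lrfl
theorem f705401 : Led Lsl_ft (LP (LK LD1_c20 LD2_c42 LD3_c58)) = (LP (LK LD1_c17 LD2_c32 LD3_c31)) :=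
  Lgr Lrot2 (Lpr_gt (f705400 IH) (Lpr_gt (f500739 IH) (Lpr_af (f705396 IH) (Lpn (LP (LK LD1_c17 LD2_c32 LD3_c31))))))
theorem f705404 : Led Lsl_ff (LP (LK LD1_c20 LD2_c42 LD3_c58)) = (LP (LK LD1_c17 LD2_c32 LD3_c31)) :=
  Lgr Lrot3 (Lpr_ft (f705401 IH) (Lpn (LP (LK LD1_c17 LD2_c32 LD3_c31))))
theorem f912723 : Led Lsl_dt (LP (LK LD1_c20 LD2_c42 LD3_c58)) = v40007 :=
  Lgr Lrot60 (Lpr_ff (f705404 IH) (Lpe (f644029 IH) (Lpr_ff (f912665 IH) (Lpn v40007))))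
theorem f653309 : Led Lsl_ct (LP (LK LD1_c11 LD2_c42 LD3_c32)) = (LP (LK LD1_c20 LD2_c42 LD3_c59)) :=
  Lre_c IH (LK LD1_c11 LD2_c42 LD3_c32) (LK LD1_c20 LD2_c42 LD3_c59) Lrfl Lrfl
theorem f912727 : Led Lsl_gf (LP (LK LD1_c27 LD2_c13 LD3_c11)) = (LP (LK LD1_c20 LD2_c42 LD3_c59)) :=
  Lgr Lrot104 (Lpr_ct (f711427 IH) (Lpe (K69.f139230 IH) (Lpe (f711424 IH) (Lpr_gf (f826816 IH) (Lpe (f499928 IH) (Lpr_gf (f912724 IH) (Lpe (f912723 IH) (Lpr_gt (f705400 IH) (Lpr_ct (f653309 IH) (Lpn (LP (LK LD1_c20 LD2_c42 LD3_c59))))))))))))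
theorem f912728 : Led Lsl_gt (LP (LK LD1_c20 LD2_c42 LD3_c59)) = (LP (LK LD1_c27 LD2_c13 LD3_c11)) :=
  Leop (Lpr_gf (f912727 IH) (Lpn (LP (LK LD1_c20 LD2_c42 LD3_c59))))
theorem seed_2363 : LEOK LG_g (LK LD1_c20 LD2_c42 LD3_c59) :=
  Leoe_g (LK LD1_c20 LD2_c42 LD3_c59) (f912728 IH)
def v40012 : LQ := Led Lsl_gt (LP (LK LD1_c9 LD2_c31 LD3_c1))
theorem f912749 : Led Lsl_gt (LP (LK LD1_c9 LD2_c31 LD3_c1)) = v40012 :=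
  Lrfl
theorem f622200 : Led Lsl_dt (LP (LK LD1_c4 LD2_c49 LD3_c9)) = (LP (LK LD1_c9 LD2_c31 LD3_c1)) :=
  Lre_d IH (LK LD1_c4 LD2_c49 LD3_c9) (LK LD1_c9 LD2_c31 LD3_c1) Lrfl Lrfl
theorem f500928 : Led Lsl_et (LP (LK LD1_c1 LD2_c24 LD3_c14)) = (LP (LK LD1_c2 LD2_c22 LD3_c24)) :=
  Lre_e IH (LK LD1_c1 LD2_c24 LD3_c14) (LK LD1_c2 LD2_c22 LD3_c24) Lrfl Lrfl
theorem f711078 : Led Lsl_et (LP (LK LD1_c17 LD2_c31 LD3_c49)) = (LP (LK LD1_c11 LD2_c39 LD3_c11)) :=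
  Lgr Lrot87 (Lpr_ef (K66.f711076 IH) (Lpn (LP (LK LD1_c11 LD2_c39 LD3_c11))))
theorem f912753 : Led Lsl_dt (LP (LK LD1_c17 LD2_c31 LD3_c49)) = v40012 :=
  Lgr Lrot56 (Lpr_et (f711078 IH) (Lpe (K52.f710997 IH) (Lpe (K40.f500926 IH) (Lpr_dt (K36.f500880 IH) (Lpr_gt (K31.f176571 IH) (Lpe (K36.f176564 IH) (Lpr_et (f500928 IH) (Lpr_gt (K41.f414269 IH) (Lpr_dt (f622200 IH) (Lpr_gt (f912749 IH) (Lpn v40012)))))))))))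
theorem f545474 : Led Lsl_at (LP (LK LD1_c11 LD2_c47 LD3_c32)) = (LP (LK LD1_c20 LD2_c17 LD3_c58)) :=
  Lgr Lrot100 (Lpr_af (K56.f545466 IH) (Lpn (LP (LK LD1_c20 LD2_c17 LD3_c58))))
theorem f539435 : Led Lsl_et (LP (LK LD1_c11 LD2_c42 LD3_c18)) = (LP (LK LD1_c11 LD2_c47 LD3_c32)) :=
  Lgr Lrot69 (Lpe (K40.f428334 IH) (Lpe (K40.f428271 IH) (Lpr_ff (K36.f539429 IH) (Lpe (K38.f500900 IH) (Lpe (K56.f539121 IH) (Lpn (LP (LK LD1_c11 LD2_c47 LD3_c32))))))))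
theorem f545527 : Led Lsl_ef (LP (LK LD1_c11 LD2_c47 LD3_c37)) = (LP (LK LD1_c20 LD2_c17 LD3_c58)) :=
  Lgr Lrot20 (Lpe (K52.f539468 IH) (Lpr_et (f539435 IH) (Lpr_at (f545474 IH) (Lpn (LP (LK LD1_c20 LD2_c17 LD3_c58))))))
theorem f545535 : Led Lsl_et (LP (LK LD1_c11 LD2_c47 LD3_c37)) = (LP (LK LD1_c20 LD2_c17 LD3_c58)) :=
  Lgr Lrot87 (Lpr_ef (f545527 IH) (Lpn (LP (LK LD1_c20 LD2_c17 LD3_c58))))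
theorem f545537 : Led Lsl_ef (LP (LK LD1_c11 LD2_c42 LD3_c18)) = (LP (LK LD1_c11 LD2_c47 LD3_c32)) :=
  Lgr Lrot20 (Lpr_at (K40.f539459 IH) (Lpr_et (f545535 IH) (Lpe (K56.f545466 IH) (Lpn (LP (LK LD1_c11 LD2_c47 LD3_c32))))))
theorem f539107 : Led Lsl_bf (LP (LK LD1_c11 LD2_c32 LD3_c24)) = (LP (LK LD1_c6 LD2_c1 LD3_c28)) :=
  Lgr Lrot24 (Lpr_bt (K38.f539104 IH) (Lpn (LP (LK LD1_c6 LD2_c1 LD3_c28))))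
theorem f545434 : Led Lsl_df (LP (LK LD1_c6 LD2_c1 LD3_c28)) = (LP (LK LD1_c11 LD2_c40 LD3_c26)) :=
  Lgr Lrot12 (Lpe (f539107 IH) (Lpr_dt (K38.f545432 IH) (Lpr_bt (K38.f386726 IH) (Lpn (LP (LK LD1_c11 LD2_c40 LD3_c26))))))
theorem f539112 : Led Lsl_ft (LP (LK LD1_c6 LD2_c1 LD3_c28)) = (LP (LK LD1_c11 LD2_c47 LD3_c32)) :=
  Lre_f IH (LK LD1_c6 LD2_c1 LD3_c28) (LK LD1_c11 LD2_c47 LD3_c32) Lrfl Lrfl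
theorem f748548 : Led Lsl_df (LP (LK LD1_c11 LD2_c47 LD3_c6)) = (LP (LK LD1_c11 LD2_c47 LD3_c32)) :=
  Lgr Lrot78 (Lpr_ft (K56.f748523 IH) (Lpe (f545434 IH) (Lpr_ft (f539112 IH) (Lpn (LP (LK LD1_c11 LD2_c47 LD3_c32))))))
theorem f545560 : Led Lsl_ft (LP (LK LD1_c6 LD2_c8 LD3_c1)) = (LP (LK LD1_c11 LD2_c58 LD3_c6)) :=
  Lre_f IH (LK LD1_c6 LD2_c8 LD3_c1) (LK LD1_c11 LD2_c58 LD3_c6) Lrfl Lrfl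
theorem f748544 : Led Lsl_af (LP (LK LD1_c11 LD2_c47 LD3_c6)) = (LP (LK LD1_c11 LD2_c58 LD3_c6)) :=
  Lgr Lrot45 (Lpr_ft (K56.f748523 IH) (Lpr_at (K38.f545550 IH) (Lpr_ft (f545560 IH) (Lpn (LP (LK LD1_c11 LD2_c58 LD3_c6))))))
theorem f539658 : Led Lsl_gt (LP (LK LD1_c6 LD2_c8 LD3_c1)) = (LP (LK LD1_c11 LD2_c58 LD3_c5)) :=
  Lre_g IH (LK LD1_c6 LD2_c8 LD3_c1) (LK LD1_c11 LD2_c58 LD3_c5) Lrfl Lrfl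
theorem f748653 : Led Lsl_gf (LP (LK LD1_c11 LD2_c47 LD3_c6)) = (LP (LK LD1_c11 LD2_c58 LD3_c5)) :=
  Lgr Lrot76 (Lpr_af (f748544 IH) (Lpe (f545560 IH) (Lpr_gt (f539658 IH) (Lpn (LP (LK LD1_c11 LD2_c58 LD3_c5))))))
theorem f752881 : Led Lsl_ff (LP (LK LD1_c6 LD2_c8 LD3_c46)) = K62.v16930 :=
  Lgr Lrot3 (Lpr_ft (K62.f752880 IH) (Lpn K62.v16930))
theorem f912751 : Led Lsl_gf K62.v16929 = v40012 :=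
  Lgr Lrot76 (Lpe (K62.f752876 IH) (Lpr_ff (f752881 IH) (Lpq (K62.f752961 IH) (Lpr_gt (f912749 IH) (Lpn v40012)))))
theorem f76208 : Led Lsl_et (LP (LK LD1_c4 LD2_c49 LD3_c10)) = (LP (LK LD1_c9 LD2_c31 LD3_c5)) :=
  Lre_e IH (LK LD1_c4 LD2_c49 LD3_c10) (LK LD1_c9 LD2_c31 LD3_c5) Lrfl Lrfl
theorem f752954 : Led Lsl_gt (LP (LK LD1_c9 LD2_c31 LD3_c5)) = (LP (LK LD1_c17 LD2_c32 LD3_c47)) :=
  Lre_g IH (LK LD1_c9 LD2_c31 LD3_c5) (LK LD1_c17 LD2_c32 LD3_c47) Lrfl Lrfl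
theorem f912761 : Led Lsl_df (LP (LK LD1_c11 LD2_c58 LD3_c5)) = (LP (LK LD1_c17 LD2_c32 LD3_c47)) :=
  Lgr Lrot135 (Lpe (f748653 IH) (Lpr_df (f748548 IH) (Lpe (f545537 IH) (Lpr_gt (K52.f710995 IH) (Lpe (f711078 IH) (Lpr_dt (f912753 IH) (Lpe (f912751 IH) (Lpqs (K62.f752950 IH) (Lpe (K62.f76200 IH) (Lpr_et (f76208 IH) (Lpr_gt (f752954 IH) (Lpn (LP (LK LD1_c17 LD2_c32 LD3_c47))))))))))))))
theorem f912762 : Led Lsl_dt (LP (LK LD1_c17 LD2_c32 LD3_c47)) = (LP (LK LD1_c11 LD2_c58 LD3_c5)) :=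
  Leop (Lpr_df (f912761 IH) (Lpn (LP (LK LD1_c17 LD2_c32 LD3_c47))))
theorem seed_2364 : LEOK LG_d (LK LD1_c17 LD2_c32 LD3_c47) :=
  Leoe_d (LK LD1_c17 LD2_c32 LD3_c47) (f912762 IH)
def v40017 : LQ := Led Lsl_dt (LP (LK LD1_c9 LD2_c31 LD3_c5))
theorem f912784 : Led Lsl_dt (LP (LK LD1_c9 LD2_c31 LD3_c5)) = v40017 :=
  Lrfl
theorem f76201 : Led Lsl_et (LP (LK LD1_c9 LD2_c31 LD3_c5)) = (LP (LK LD1_c4 LD2_c49 LD3_c10)) :=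
  Lre_e IH (LK LD1_c9 LD2_c31 LD3_c5) (LK LD1_c4 LD2_c49 LD3_c10) Lrfl Lrfl
theorem f539114 : Led Lsl_gt (LP (LK LD1_c6 LD2_c1 LD3_c28)) = (LP (LK LD1_c11 LD2_c47 LD3_c30)) :=
  Lre_g IH (LK LD1_c6 LD2_c1 LD3_c28) (LK LD1_c11 LD2_c47 LD3_c30) Lrfl Lrfl
theorem f539115 : Led Lsl_dt (LP (LK LD1_c11 LD2_c47 LD3_c30)) = (LP (LK LD1_c20 LD2_c49 LD3_c37)) :=
  Lre_d IH (LK LD1_c11 LD2_c47 LD3_c30) (LK LD1_c20 LD2_c49 LD3_c37) Lrfl Lrfl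
theorem f912788 : Led Lsl_gt (LP (LK LD1_c20 LD2_c49 LD3_c37)) = v40017 :=
  Lgr Lrot139 (Lpe (f539115 IH) (Lpe (f539114 IH) (Lpe (K38.f500902 IH) (Lpr_dt (K36.f495291 IH) (Lpe (K36.f9394 IH) (Lpe (K36.f176564 IH) (Lpr_et (f500928 IH) (Lpe (K62.f76204 IH) (Lpe (f76201 IH) (Lpr_dt (f912784 IH) (Lpn v40017)))))))))))
theorem f387462 : Led Lsl_dt (LP (LK LD1_c2 LD2_c22 LD3_c24)) = (LP (LK LD1_c1 LD2_c8 LD3_c20)) :=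
  Lre_d IH (LK LD1_c2 LD2_c22 LD3_c24) (LK LD1_c1 LD2_c8 LD3_c20) Lrfl Lrfl
theorem f618935 : Led Lsl_et (LP (LK LD1_c4 LD2_c49 LD3_c3)) = (LP (LK LD1_c9 LD2_c30 LD3_c47)) :=
  Lre_e IH (LK LD1_c4 LD2_c49 LD3_c3) (LK LD1_c9 LD2_c30 LD3_c47) Lrfl Lrfl
theorem f75917 : Led Lsl_gt (LP (LK LD1_c9 LD2_c30 LD3_c47)) = (LP (LK LD1_c17 LD2_c32 LD3_c11)) :=
  Lre_g IH (LK LD1_c9 LD2_c30 LD3_c47) (LK LD1_c17 LD2_c32 LD3_c11) Lrfl Lrfl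
theorem f912791 : Led Lsl_et (LP (LK LD1_c11 LD2_c47 LD3_c30)) = (LP (LK LD1_c17 LD2_c32 LD3_c11)) :=
  Lgr Lrot122 (Lpr_dt (f539115 IH) (Lpr_gt (f912788 IH) (Lpe (f912784 IH) (Lpr_et (f76201 IH) (Lpr_gt (K62.f76204 IH) (Lpr_dt (f387462 IH) (Lpr_gt (K17.f75929 IH) (Lpe (K50.f618934 IH) (Lpr_et (f618935 IH) (Lpr_gt (f75917 IH) (Lpn (LP (LK LD1_c17 LD2_c32 LD3_c11)))))))))))))
theorem f912792 : Led Lsl_et (LP (LK LD1_c11 LD2_c47 LD3_c30)) = (LP (LK LD1_c17 LD2_c32 LD3_c11)) :=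
  Leop (Lpe (f912791 IH) (Lpn (LP (LK LD1_c11 LD2_c47 LD3_c30))))
theorem seed_2365 : LEOK LG_e (LK LD1_c11 LD2_c47 LD3_c30) :=
  Leoe_e (LK LD1_c11 LD2_c47 LD3_c30) (f912792 IH)
theorem f912787 : Led Lsl_ef (LP (LK LD1_c11 LD2_c40 LD3_c57)) = v40017 :=
  Lgr Lrot73 (Lpr_dt (K56.f75965 IH) (Lpe (K62.f76202 IH) (Lpr_dt (K62.f75914 IH) (Lpr_et (f76208 IH) (Lpr_dt (f912784 IH) (Lpn v40017))))))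
def v38631 : LQ := Led Lsl_bt (LP (LK LD1_c9 LD2_c13 LD3_c38))
theorem f903356 : Led Lsl_bt (LP (LK LD1_c9 LD2_c13 LD3_c38)) = v38631 :=
  Lrfl
theorem f903361 : Led Lsl_ff (LP (LK LD1_c11 LD2_c47 LD3_c5)) = v38631 :=
  Lgr Lrot25 (Lpe (K56.f642933 IH) (Lpr_ft (K35.f506986 IH) (Lpr_bt (f903356 IH) (Lpn v38631))))
theorem f691561 : Led Lsl_ft (LP (LK LD1_c15 LD2_c26 LD3_c16)) = (LP (LK LD1_c11 LD2_c57 LD3_c56)) :=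
  Lgr Lrot75 (Lpe (K56.f641191 IH) (Lpr_ff (K49.f691558 IH) (Lpe (K56.f691560 IH) (Lpn (LP (LK LD1_c11 LD2_c57 LD3_c56))))))
theorem f752005 : Led Lsl_ef (LP (LK LD1_c11 LD2_c40 LD3_c21)) = (LP (LK LD1_c11 LD2_c57 LD3_c56)) :=
  Lgr Lrot88 (Lpr_et (K56.f752003 IH) (Lpn (LP (LK LD1_c11 LD2_c57 LD3_c56))))
theorem f903363 : Led Lsl_et (LP (LK LD1_c11 LD2_c40 LD3_c41)) = v38631 :=
  Lgr Lrot69 (Lpr_ff (K56.f644327 IH) (Lpr_ef (f752005 IH) (Lpe (f691561 IH) (Lpr_ef (K56.f642944 IH) (Lpr_ff (f903361 IH) (Lpn v38631))))))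
theorem f428117 : Led Lsl_et (LP (LK LD1_c5 LD2_c57 LD3_c61)) = (LP (LK LD1_c2 LD2_c55 LD3_c24)) :=
  Lre_e IH (LK LD1_c5 LD2_c57 LD3_c61) (LK LD1_c2 LD2_c55 LD3_c24) Lrfl Lrfl
theorem f75951 : Led Lsl_dt (LP (LK LD1_c5 LD2_c58 LD3_c9)) = (LP (LK LD1_c2 LD2_c55 LD3_c27)) :=
  Lre_d IH (LK LD1_c5 LD2_c58 LD3_c9) (LK LD1_c2 LD2_c55 LD3_c27) Lrfl Lrfl
theorem f75967 : Led Lsl_dt (LP (LK LD1_c11 LD2_c40 LD3_c59)) = (LP (LK LD1_c5 LD2_c58 LD3_c8)) :=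
  Lre_d IH (LK LD1_c11 LD2_c40 LD3_c59) (LK LD1_c5 LD2_c58 LD3_c8) Lrfl Lrfl
theorem f903365 : Led Lsl_gf (LP (LK LD1_c11 LD2_c40 LD3_c59)) = v38631 :=
  Lgr Lrot138 (Lpr_dt (f75967 IH) (Lpr_gt (K54.f75966 IH) (Lpe (f75951 IH) (Lpr_et (K5.f75954 IH) (Lpr_gt (K43.f557510 IH) (Lpe (f428117 IH) (Lpr_dt (K56.f426947 IH) (Lpr_gt (K52.f72599 IH) (Lpe (K56.f426153 IH) (Lpr_et (f903363 IH) (Lpn v38631)))))))))))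
def v16928 : LQ := Led Lsl_ft (LP (LK LD1_c6 LD2_c8 LD3_c45))
theorem f752870 : Led Lsl_ft (LP (LK LD1_c6 LD2_c8 LD3_c45)) = v16928 :=
  Lrfl
theorem f752873 : Led Lsl_ff (LP (LK LD1_c6 LD2_c8 LD3_c45)) = v16928 :=
  Lgr Lrot3 (Lpr_ft (f752870 IH) (Lpn v16928))
theorem f75012 : Led Lsl_dt (LP (LK LD1_c6 LD2_c8 LD3_c45)) = (LP (LK LD1_c3 LD2_c0 LD3_c40)) :=
  Lre_d IH (LK LD1_c6 LD2_c8 LD3_c45) (LK LD1_c3 LD2_c0 LD3_c40) Lrfl Lrfl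
theorem f752875 : Led Lsl_dt K56.v5174 = v16928 :=
  Lgr Lrot60 (Lpe (K56.f646360 IH) (Lpe (f75012 IH) (Lpr_ff (f752873 IH) (Lpn v16928))))
theorem f76222 : Led Lsl_dt (LP (LK LD1_c5 LD2_c58 LD3_c8)) = (LP (LK LD1_c11 LD2_c40 LD3_c59)) :=
  Lre_d IH (LK LD1_c5 LD2_c58 LD3_c8) (LK LD1_c11 LD2_c40 LD3_c59) Lrfl Lrfl
theorem f752927 : v16928 = (LP (LK LD1_c11 LD2_c40 LD3_c59)) :=
  Lefun (Lecon (f752875 IH) (K56.f752916 IH).symm) (f76222 IH)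
theorem f752865 : Led Lsl_ff (LP (LK LD1_c6 LD2_c8 LD3_c49)) = K56.v16925 :=
  Lgr Lrot3 (Lpr_ft (K56.f752864 IH) (Lpn K56.v16925))
theorem f752874 : Led Lsl_at (LP (LK LD1_c6 LD2_c8 LD3_c49)) = v16928 :=
  Lgr Lrot66 (Lpr_ff (f752865 IH) (Lpe (K56.f752860 IH) (Lpr_ff (f752873 IH) (Lpn v16928))))
theorem f903366 : Led Lsl_gt K56.v16925 = v38631 :=
  Lgr Lrot5 (Lpe (f752865 IH) (Lpr_at (f752874 IH) (Lpqs (f752927 IH) (Lpr_gf (f903365 IH) (Lpn v38631)))))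
theorem f700942 : Led Lsl_bf (LP (LK LD1_c4 LD2_c38 LD3_c56)) = K53.v13071 :=
  Lgr Lrot96 (Lpr_et (K16.f27065 IH) (Lpr_bt (K42.f27093 IH) (Lpr_et (K53.f700940 IH) (Lpn K53.v13071))))
theorem f903359 : Led Lsl_df K53.v13071 = v38631 :=
  Lgr Lrot12 (Lpe (f700942 IH) (Lpr_dt (K16.f27066 IH) (Lpr_bt (f903356 IH) (Lpn v38631))))
theorem f720253 : Led Lsl_dt (LP (LK LD1_c6 LD2_c8 LD3_c7)) = (LP (LK LD1_c6 LD2_c1 LD3_c15)) :=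
  Lgr Lrot42 (Lpr_df (K53.f720251 IH) (Lpn (LP (LK LD1_c6 LD2_c1 LD3_c15))))
theorem f912786 : Led Lsl_df (LP (LK LD1_c9 LD2_c31 LD3_c5)) = v40017 :=
  Lgr Lrot38 (Lpr_dt (f912784 IH) (Lpn v40017))
theorem f752955 : Led Lsl_gt (LP (LK LD1_c17 LD2_c32 LD3_c48)) = (LP (LK LD1_c9 LD2_c31 LD3_c5)) :=
  Lre_g IH (LK LD1_c17 LD2_c32 LD3_c48) (LK LD1_c9 LD2_c31 LD3_c5) Lrfl Lrfl
theorem f912803 : Led Lsl_dt (LP (LK LD1_c10 LD2_c18 LD3_c48)) = (LP (LK LD1_c17 LD2_c32 LD3_c48)) :=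
  Lgr Lrot136 (Lpr_et (K41.f180738 IH) (Lpe (K28.f163944 IH) (Lpe (K56.f748625 IH) (Lpr_dt (f720253 IH) (Lpe (K53.f720250 IH) (Lpr_df (f903359 IH) (Lpe (f903366 IH) (Lpqs (K56.f752945 IH) (Lpr_ef (f912787 IH) (Lpe (f912786 IH) (Lpe (f752955 IH) (Lpn (LP (LK LD1_c17 LD2_c32 LD3_c48))))))))))))))
theorem f912804 : Led Lsl_dt (LP (LK LD1_c10 LD2_c18 LD3_c48)) = (LP (LK LD1_c17 LD2_c32 LD3_c48)) :=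
  Leop (Lpe (f912803 IH) (Lpn (LP (LK LD1_c10 LD2_c18 LD3_c48))))
theorem seed_2366 : LEOK LG_d (LK LD1_c10 LD2_c18 LD3_c48) :=
  Leoe_d (LK LD1_c10 LD2_c18 LD3_c48) (f912804 IH)
theorem f75944 : Led Lsl_ct (LP (LK LD1_c11 LD2_c47 LD3_c6)) = (LP (LK LD1_c6 LD2_c1 LD3_c14)) :=
  Lre_c IH (LK LD1_c11 LD2_c47 LD3_c6) (LK LD1_c6 LD2_c1 LD3_c14) Lrfl Lrfl
theorem f912807 : Led Lsl_ct (LP (LK LD1_c11 LD2_c40 LD3_c57)) = v40017 :=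
  Lgr Lrot7 (Lpe (K56.f76196 IH) (Lpe (K56.f75964 IH) (Lpe (f75951 IH) (Lpe (K5.f75931 IH) (Lpe (f75944 IH) (Lpr_gt (K54.f739428 IH) (Lpr_dt (f912803 IH) (Lpr_gt (f752955 IH) (Lpr_dt (f912784 IH) (Lpn v40017))))))))))
theorem f76250 : Led Lsl_ct (LP (LK LD1_c11 LD2_c59 LD3_c4)) = (LP (LK LD1_c6 LD2_c8 LD3_c49)) :=
  Lre_c IH (LK LD1_c11 LD2_c59 LD3_c4) (LK LD1_c6 LD2_c8 LD3_c49) Lrfl Lrfl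
theorem f912810 : Led Lsl_ff (LP (LK LD1_c11 LD2_c59 LD3_c4)) = v40017 :=
  Lgr Lrot23 (Lpr_ct (f76250 IH) (Lpr_ft (K56.f752864 IH) (Lpqs (K56.f752945 IH) (Lpr_ct (f912807 IH) (Lpn v40017)))))
theorem f705511 : Led Lsl_ft (LP (LK LD1_c17 LD2_c32 LD3_c49)) = (LP (LK LD1_c9 LD2_c31 LD3_c5)) :=
  Lre_f IH (LK LD1_c17 LD2_c32 LD3_c49) (LK LD1_c9 LD2_c31 LD3_c5) Lrfl Lrfl
theorem f912811 : Led Lsl_dt (LP (LK LD1_c11 LD2_c59 LD3_c4)) = (LP (LK LD1_c17 LD2_c32 LD3_c49)) :=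
  Lgr Lrot60 (Lpr_ff (f912810 IH) (Lpe (f912784 IH) (Lpe (f705511 IH) (Lpn (LP (LK LD1_c17 LD2_c32 LD3_c49))))))
theorem f912812 : Led Lsl_dt (LP (LK LD1_c11 LD2_c59 LD3_c4)) = (LP (LK LD1_c17 LD2_c32 LD3_c49)) :=
  Leop (Lpe (f912811 IH) (Lpn (LP (LK LD1_c11 LD2_c59 LD3_c4))))
theorem seed_2367 : LEOK LG_d (LK LD1_c11 LD2_c59 LD3_c4) :=
  Leoe_d (LK LD1_c11 LD2_c59 LD3_c4) (f912812 IH)
def v40033 : LQ := Led Lsl_bt (LP (LK LD1_c9 LD2_c31 LD3_c16))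
theorem f912925 : Led Lsl_bt (LP (LK LD1_c9 LD2_c31 LD3_c16)) = v40033 :=
  Lrfl
theorem f912926 : Led Lsl_bf (LP (LK LD1_c9 LD2_c31 LD3_c16)) = v40033 :=
  Lgr Lrot24 (Lpr_bt (f912925 IH) (Lpn v40033))
theorem f414138 : Led Lsl_bt (LP (LK LD1_c3 LD2_c21 LD3_c50)) = (LP (LK LD1_c1 LD2_c37 LD3_c10)) :=
  Lre_b IH (LK LD1_c3 LD2_c21 LD3_c50) (LK LD1_c1 LD2_c37 LD3_c10) Lrfl Lrfl
theorem f414139 : Led Lsl_ct (LP (LK LD1_c3 LD2_c21 LD3_c50)) = (LP (LK LD1_c6 LD2_c47 LD3_c22)) :=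
  Lre_c IH (LK LD1_c3 LD2_c21 LD3_c50) (LK LD1_c6 LD2_c47 LD3_c22) Lrfl Lrfl
theorem f416415 : Led Lsl_gt (LP (LK LD1_c12 LD2_c57 LD3_c47)) = (LP (LK LD1_c6 LD2_c47 LD3_c22)) :=
  Lre_g IH (LK LD1_c12 LD2_c57 LD3_c47) (LK LD1_c6 LD2_c47 LD3_c22) Lrfl Lrfl
theorem f912929 : Led Lsl_cf (LP (LK LD1_c12 LD2_c57 LD3_c47)) = v40033 :=
  Lgr Lrot160 (Lpr_gt (f416415 IH) (Lpe (f414139 IH) (Lpr_bt (f414138 IH) (Lpe (K24.f416410 IH) (Lpr_ct (K24.f416407 IH) (Lpr_gt (K24.f416408 IH) (Lpe (K35.f77027 IH) (Lpr_bt (K50.f77039 IH) (Lpr_gt (K66.f77040 IH) (Lpr_bf (f912926 IH) (Lpn v40033)))))))))))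
theorem f416753 : Led Lsl_bt (LP (LK LD1_c12 LD2_c55 LD3_c24)) = (LP (LK LD1_c6 LD2_c45 LD3_c46)) :=
  Lre_b IH (LK LD1_c12 LD2_c55 LD3_c24) (LK LD1_c6 LD2_c45 LD3_c46) Lrfl Lrfl
theorem f912927 : Led Lsl_ff (LP (LK LD1_c12 LD2_c55 LD3_c24)) = v40033 :=
  Lgr Lrot25 (Lpr_bt (f416753 IH) (Lpr_ft (K66.f781638 IH) (Lpqs (K66.f853249 IH) (Lpr_bt (f912925 IH) (Lpn v40033)))))
theorem f912928 : Led Lsl_ft (LP (LK LD1_c12 LD2_c55 LD3_c24)) = v40033 :=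
  Lgr Lrot48 (Lpr_ff (f912927 IH) (Lpn v40033))
theorem f415008 : Led Lsl_bt (LP (LK LD1_c1 LD2_c36 LD3_c46)) = (LP (LK LD1_c3 LD2_c20 LD3_c56)) :=
  Lre_b IH (LK LD1_c1 LD2_c36 LD3_c46) (LK LD1_c3 LD2_c20 LD3_c56) Lrfl Lrfl
theorem f416755 : Led Lsl_ct (LP (LK LD1_c4 LD2_c49 LD3_c50)) = (LP (LK LD1_c9 LD2_c32 LD3_c16)) :=
  Lre_c IH (LK LD1_c4 LD2_c49 LD3_c50) (LK LD1_c9 LD2_c32 LD3_c16) Lrfl Lrfl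
theorem f416756 : Led Lsl_gt (LP (LK LD1_c17 LD2_c34 LD3_c30)) = (LP (LK LD1_c9 LD2_c32 LD3_c16)) :=
  Lre_g IH (LK LD1_c17 LD2_c34 LD3_c30) (LK LD1_c9 LD2_c32 LD3_c16) Lrfl Lrfl
theorem f416757 : Led Lsl_ct (LP (LK LD1_c12 LD2_c55 LD3_c24)) = (LP (LK LD1_c17 LD2_c34 LD3_c30)) :=
  Lgr Lrot64 (Lpr_bt (f416753 IH) (Lpe (K66.f415009 IH) (Lpe (f415008 IH) (Lpr_ct (K24.f414620 IH) (Lpr_gf (K24.f416744 IH) (Lpe (K24.f416746 IH) (Lpe (K24.f413681 IH) (Lpe (K24.f416754 IH) (Lpr_ct (f416755 IH) (Lpe (f416756 IH) (Lpn (LP (LK LD1_c17 LD2_c34 LD3_c30)))))))))))))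
theorem f416761 : Led Lsl_cf (LP (LK LD1_c12 LD2_c55 LD3_c24)) = (LP (LK LD1_c17 LD2_c34 LD3_c30)) :=
  Lgr Lrot11 (Lpr_ct (f416757 IH) (Lpn (LP (LK LD1_c17 LD2_c34 LD3_c30))))
theorem f912932 : Led Lsl_ft (LP (LK LD1_c12 LD2_c57 LD3_c47)) = (LP (LK LD1_c17 LD2_c34 LD3_c30)) :=
  Lgr Lrot4 (Lpr_cf (f912929 IH) (Lpe (f912928 IH) (Lpr_cf (f416761 IH) (Lpn (LP (LK LD1_c17 LD2_c34 LD3_c30))))))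
theorem f912933 : Led Lsl_ft (LP (LK LD1_c12 LD2_c57 LD3_c47)) = (LP (LK LD1_c17 LD2_c34 LD3_c30)) :=
  Leop (Lpe (f912932 IH) (Lpn (LP (LK LD1_c12 LD2_c57 LD3_c47))))
theorem seed_2368 : LEOK LG_f (LK LD1_c12 LD2_c57 LD3_c47) :=
  Leoe_f (LK LD1_c12 LD2_c57 LD3_c47) (f912933 IH)
def v40048 : LQ := Led Lsl_at (LP (LK LD1_c9 LD2_c31 LD3_c35))
theorem f913041 : Led Lsl_at (LP (LK LD1_c9 LD2_c31 LD3_c35)) = v40048 :=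
  Lrfl
theorem f509374 : Led Lsl_ct (LP (LK LD1_c3 LD2_c20 LD3_c45)) = (LP (LK LD1_c6 LD2_c45 LD3_c19)) :=
  Lre_c IH (LK LD1_c3 LD2_c20 LD3_c45) (LK LD1_c6 LD2_c45 LD3_c19) Lrfl Lrfl
theorem f510182 : Led Lsl_ft (LP (LK LD1_c6 LD2_c45 LD3_c19)) = (LP (LK LD1_c9 LD2_c31 LD3_c35)) :=
  Lgr Lrot4 (Lpe (f509374 IH) (Lpr_ff (K49.f510180 IH) (Lpe (K56.f414980 IH) (Lpn (LP (LK LD1_c9 LD2_c31 LD3_c35))))))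
theorem f913045 : Led Lsl_gt (LP (LK LD1_c12 LD2_c54 LD3_c53)) = v40048 :=
  Lgr Lrot46 (Lpe (K56.f510302 IH) (Lpr_ft (f510182 IH) (Lpr_at (f913041 IH) (Lpn v40048))))
theorem f913047 : Led Lsl_gf (LP (LK LD1_c12 LD2_c54 LD3_c54)) = v40048 :=
  Lgr Lrot76 (Lpe (K56.f744662 IH) (Lpr_ff (K56.f744668 IH) (Lpr_gt (f913045 IH) (Lpn v40048))))
theorem f652969 : Led Lsl_dt (LP (LK LD1_c12 LD2_c54 LD3_c54)) = (LP (LK LD1_c22 LD2_c4 LD3_c36)) :=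
  Lre_d IH (LK LD1_c12 LD2_c54 LD3_c54) (LK LD1_c22 LD2_c4 LD3_c36) Lrfl Lrfl
theorem f509386 : Led Lsl_ct (LP (LK LD1_c12 LD2_c54 LD3_c55)) = (LP (LK LD1_c22 LD2_c4 LD3_c39)) :=
  Lre_c IH (LK LD1_c12 LD2_c54 LD3_c55) (LK LD1_c22 LD2_c4 LD3_c39) Lrfl Lrfl
theorem f508565 : Led Lsl_ct (LP (LK LD1_c6 LD2_c45 LD3_c19)) = (LP (LK LD1_c3 LD2_c20 LD3_c45)) :=
  Lre_c IH (LK LD1_c6 LD2_c45 LD3_c19) (LK LD1_c3 LD2_c20 LD3_c45) Lrfl Lrfl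
theorem f508566 : Led Lsl_dt (LP (LK LD1_c12 LD2_c54 LD3_c55)) = (LP (LK LD1_c6 LD2_c45 LD3_c19)) :=
  Lre_d IH (LK LD1_c12 LD2_c54 LD3_c55) (LK LD1_c6 LD2_c45 LD3_c19) Lrfl Lrfl
theorem f510235 : Led Lsl_ct (LP (LK LD1_c22 LD2_c4 LD3_c39)) = (LP (LK LD1_c12 LD2_c54 LD3_c55)) :=
  Lre_c IH (LK LD1_c22 LD2_c4 LD3_c39) (LK LD1_c12 LD2_c54 LD3_c55) Lrfl Lrfl
theorem f510225 : Led Lsl_dt (LP (LK LD1_c9 LD2_c31 LD3_c30)) = (LP (LK LD1_c17 LD2_c33 LD3_c22)) :=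
  Lre_d IH (LK LD1_c9 LD2_c31 LD3_c30) (LK LD1_c17 LD2_c33 LD3_c22) Lrfl Lrfl
theorem f510228 : Led Lsl_ct (LP (LK LD1_c17 LD2_c33 LD3_c22)) = (LP (LK LD1_c27 LD2_c22 LD3_c4)) :=
  Lre_c IH (LK LD1_c17 LD2_c33 LD3_c22) (LK LD1_c27 LD2_c22 LD3_c4) Lrfl Lrfl
theorem f510236 : Led Lsl_df (LP (LK LD1_c22 LD2_c4 LD3_c39)) = (LP (LK LD1_c27 LD2_c22 LD3_c4)) :=
  Lgr Lrot106 (Lpr_ct (f510235 IH) (Lpr_dt (f508566 IH) (Lpr_ct (f508565 IH) (Lpr_dt (K52.f141004 IH) (Lpr_ct (K51.f140043 IH) (Lpe (K51.f141000 IH) (Lpr_ff (K51.f510218 IH) (Lpr_dt (f510225 IH) (Lpr_ct (f510228 IH) (Lpn (LP (LK LD1_c27 LD2_c22 LD3_c4))))))))))))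
theorem f510240 : Led Lsl_dt (LP (LK LD1_c22 LD2_c4 LD3_c39)) = (LP (LK LD1_c27 LD2_c22 LD3_c4)) :=
  Lgr Lrot42 (Lpr_df (f510236 IH) (Lpn (LP (LK LD1_c27 LD2_c22 LD3_c4))))
theorem f510227 : Led Lsl_ct (LP (LK LD1_c27 LD2_c22 LD3_c4)) = (LP (LK LD1_c17 LD2_c33 LD3_c22)) :=
  Lre_c IH (LK LD1_c27 LD2_c22 LD3_c4) (LK LD1_c17 LD2_c33 LD3_c22) Lrfl Lrfl
theorem f913046 : Led Lsl_ct K51.v13872 = v40048 :=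
  Lgr Lrot98 (Lpe (K51.f705615 IH) (Lpe (K60.f510170 IH) (Lpe (K60.f510173 IH) (Lpe (f510227 IH) (Lpe (f510240 IH) (Lpe (f509386 IH) (Lpe (K56.f509385 IH) (Lpr_ft (f510182 IH) (Lpr_at (f913041 IH) (Lpn v40048))))))))))
theorem f781174 : Led Lsl_dt (LP (LK LD1_c6 LD2_c45 LD3_c18)) = K60.v19604 :=
  Lgr Lrot42 (Lpr_df (K60.f780932 IH) (Lpn K60.v19604))
theorem f639464 : Led Lsl_at (LP (LK LD1_c4 LD2_c40 LD3_c4)) = (LP (LK LD1_c3 LD2_c0 LD3_c47)) :=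
  Lgr Lrot66 (Lpr_ff (K52.f639462 IH) (Lpe (K52.f639424 IH) (Lpr_ff (K52.f639415 IH) (Lpn (LP (LK LD1_c3 LD2_c0 LD3_c47))))))
theorem f714388 : Led Lsl_at (LP (LK LD1_c12 LD2_c23 LD3_c23)) = (LP (LK LD1_c9 LD2_c15 LD3_c38)) :=
  Lgr Lrot67 (Lpr_bf (K56.f714386 IH) (Lpr_af (K56.f712229 IH) (Lpe (K52.f639499 IH) (Lpe (f639464 IH) (Lpe (K53.f27075 IH) (Lpn (LP (LK LD1_c9 LD2_c15 LD3_c38))))))))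
theorem f752674 : Led Lsl_af (LP (LK LD1_c11 LD2_c38 LD3_c36)) = (LP (LK LD1_c6 LD2_c8 LD3_c59)) :=
  Lgr Lrot45 (Lpr_ft (K56.f752672 IH) (Lpr_at (f714388 IH) (Lpr_ft (K52.f639467 IH) (Lpn (LP (LK LD1_c6 LD2_c8 LD3_c59))))))
theorem f752736 : Led Lsl_gf (LP (LK LD1_c11 LD2_c35 LD3_c57)) = (LP (LK LD1_c9 LD2_c15 LD3_c38)) :=
  Lgr Lrot47 (Lpe (K49.f691516 IH) (Lpr_af (f752674 IH) (Lpe (K52.f639467 IH) (Lpn (LP (LK LD1_c9 LD2_c15 LD3_c38))))))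
theorem f780930 : Led Lsl_gf (LP (LK LD1_c9 LD2_c15 LD3_c39)) = K60.v19604 :=
  Lgr Lrot141 (Lpe (K56.f445884 IH) (Lpr_dt (K52.f445891 IH) (Lpe (f752736 IH) (Lpe (K56.f714205 IH) (Lpr_et (K52.f714207 IH) (Lpr_gt (K45.f69259 IH) (Lpq (K45.f557974 IH) (Lpe (K45.f509243 IH) (Lpr_gt (K42.f206813 IH) (Lpe (K45.f206823 IH) (Lpr_et (K60.f780927 IH) (Lpn K60.v19604))))))))))))
theorem f414449 : Led Lsl_bt (LP (LK LD1_c4 LD2_c49 LD3_c33)) = (LP (LK LD1_c2 LD2_c22 LD3_c33)) :=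
  Lre_b IH (LK LD1_c4 LD2_c49 LD3_c33) (LK LD1_c2 LD2_c22 LD3_c33) Lrfl Lrfl
theorem f140012 : Led Lsl_bt (LP (LK LD1_c4 LD2_c40 LD3_c5)) = (LP (LK LD1_c9 LD2_c15 LD3_c39)) :=
  Lre_b IH (LK LD1_c4 LD2_c40 LD3_c5) (LK LD1_c9 LD2_c15 LD3_c39) Lrfl Lrfl
theorem f445879 : Led Lsl_df (LP (LK LD1_c4 LD2_c49 LD3_c33)) = (LP (LK LD1_c9 LD2_c15 LD3_c39)) :=
  Lgr Lrot12 (Lpr_bt (f414449 IH) (Lpr_dt (K17.f27101 IH) (Lpr_bt (f140012 IH) (Lpn (LP (LK LD1_c9 LD2_c15 LD3_c39))))))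
theorem f445887 : Led Lsl_ct (LP (LK LD1_c9 LD2_c31 LD3_c47)) = (LP (LK LD1_c4 LD2_c49 LD3_c33)) :=
  Lre_c IH (LK LD1_c9 LD2_c31 LD3_c47) (LK LD1_c4 LD2_c49 LD3_c33) Lrfl Lrfl
theorem f445886 : Led Lsl_dt (LP (LK LD1_c17 LD2_c33 LD3_c44)) = (LP (LK LD1_c9 LD2_c31 LD3_c47)) :=
  Lre_d IH (LK LD1_c17 LD2_c33 LD3_c44) (LK LD1_c9 LD2_c31 LD3_c47) Lrfl Lrfl
theorem f913048 : Led Lsl_gt (LP (LK LD1_c22 LD2_c4 LD3_c36)) = (LP (LK LD1_c17 LD2_c33 LD3_c44)) :=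
  Lgr Lrot49 (Lpe (f652969 IH) (Lpr_gf (f913047 IH) (Lpe (f913046 IH) (Lpe (K60.f705623 IH) (Lpr_dt (f781174 IH) (Lpe (f780930 IH) (Lpe (f445879 IH) (Lpe (f445887 IH) (Lpe (f445886 IH) (Lpn (LP (LK LD1_c17 LD2_c33 LD3_c44))))))))))))
theorem f913049 : Led Lsl_gt (LP (LK LD1_c22 LD2_c4 LD3_c36)) = (LP (LK LD1_c17 LD2_c33 LD3_c44)) :=
  Leop (Lpe (f913048 IH) (Lpn (LP (LK LD1_c22 LD2_c4 LD3_c36))))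
theorem seed_2369 : LEOK LG_g (LK LD1_c22 LD2_c4 LD3_c36) :=
  Leoe_g (LK LD1_c22 LD2_c4 LD3_c36) (f913049 IH)
def v40070 : LQ := Led Lsl_at (LP (LK LD1_c9 LD2_c31 LD3_c47))
theorem f913171 : Led Lsl_at (LP (LK LD1_c9 LD2_c31 LD3_c47)) = v40070 :=
  Lrfl
theorem f27096 : Led Lsl_bt (LP (LK LD1_c2 LD2_c22 LD3_c33)) = (LP (LK LD1_c4 LD2_c49 LD3_c33)) :=
  Lre_b IH (LK LD1_c2 LD2_c22 LD3_c33) (LK LD1_c4 LD2_c49 LD3_c33) Lrfl Lrfl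
theorem f27098 : Led Lsl_dt (LP (LK LD1_c4 LD2_c49 LD3_c33)) = (LP (LK LD1_c9 LD2_c15 LD3_c39)) :=
  Lgr Lrot79 (Lpe (f27096 IH) (Lpr_df (K0.f27062 IH) (Lpe (K56.f27097 IH) (Lpn (LP (LK LD1_c9 LD2_c15 LD3_c39))))))
theorem f639617 : Led Lsl_ft (LP (LK LD1_c3 LD2_c21 LD3_c0)) = (LP (LK LD1_c4 LD2_c49 LD3_c33)) :=
  Lgr Lrot54 (Lpe (K56.f639614 IH) (Lpr_ff (K56.f639612 IH) (Lpe (f27098 IH) (Lpn (LP (LK LD1_c4 LD2_c49 LD3_c33))))))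
theorem f98997 : Led Lsl_ct (LP (LK LD1_c6 LD2_c45 LD3_c54)) = (LP (LK LD1_c3 LD2_c21 LD3_c0)) :=
  Lre_c IH (LK LD1_c6 LD2_c45 LD3_c54) (LK LD1_c3 LD2_c21 LD3_c0) Lrfl Lrfl
theorem f414450 : Led Lsl_ct (LP (LK LD1_c4 LD2_c49 LD3_c33)) = (LP (LK LD1_c9 LD2_c31 LD3_c47)) :=
  Lre_c IH (LK LD1_c4 LD2_c49 LD3_c33) (LK LD1_c9 LD2_c31 LD3_c47) Lrfl Lrfl
theorem f639619 : Led Lsl_ff (LP (LK LD1_c6 LD2_c45 LD3_c54)) = (LP (LK LD1_c9 LD2_c31 LD3_c47)) :=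
  Lgr Lrot23 (Lpr_ct (f98997 IH) (Lpr_ft (f639617 IH) (Lpr_ct (f414450 IH) (Lpn (LP (LK LD1_c9 LD2_c31 LD3_c47))))))
theorem f639625 : Led Lsl_ft (LP (LK LD1_c6 LD2_c45 LD3_c54)) = (LP (LK LD1_c9 LD2_c31 LD3_c47)) :=
  Lgr Lrot48 (Lpr_ff (f639619 IH) (Lpn (LP (LK LD1_c9 LD2_c31 LD3_c47))))
def v19703 : LQ := Led Lsl_at (LP (LK LD1_c6 LD2_c45 LD3_c54))
theorem f781707 : Led Lsl_at (LP (LK LD1_c6 LD2_c45 LD3_c54)) = v19703 :=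
  Lrfl
theorem f781708 : Led Lsl_af (LP (LK LD1_c6 LD2_c45 LD3_c54)) = v19703 :=
  Lgr Lrot0 (Lpr_at (f781707 IH) (Lpn v19703))
theorem f913174 : Led Lsl_ff v19703 = v40070 :=
  Lgr Lrot30 (Lpe (f781708 IH) (Lpr_ft (f639625 IH) (Lpr_at (f913171 IH) (Lpn v40070))))
theorem f913178 : Led Lsl_gf (LP (LK LD1_c12 LD2_c55 LD3_c38)) = v40070 :=
  Lgr Lrot47 (Lpr_gt (K55.f414070 IH) (Lpr_af (f781708 IH) (Lpr_ff (f913174 IH) (Lpn v40070))))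
def v6373 : LQ := Led Lsl_at (LP (LK LD1_c3 LD2_c21 LD3_c0))
theorem f653075 : Led Lsl_at (LP (LK LD1_c3 LD2_c21 LD3_c0)) = v6373 :=
  Lrfl
theorem f653076 : Led Lsl_af (LP (LK LD1_c3 LD2_c21 LD3_c0)) = v6373 :=
  Lgr Lrot0 (Lpr_at (f653075 IH) (Lpn v6373))
theorem f781709 : Led Lsl_cf v6373 = v19703 :=
  Lgr Lrot1 (Lpe (f653076 IH) (Lpr_ct (K55.f414069 IH) (Lpr_at (f781707 IH) (Lpn v19703))))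
def v13888 : LQ := Led Lsl_at (LP (LK LD1_c4 LD2_c49 LD3_c33))
theorem f705700 : Led Lsl_at (LP (LK LD1_c4 LD2_c49 LD3_c33)) = v13888 :=
  Lrfl
theorem f705703 : Led Lsl_ff v6373 = v13888 :=
  Lgr Lrot30 (Lpe (f653076 IH) (Lpr_ft (f639617 IH) (Lpr_at (f705700 IH) (Lpn v13888))))
theorem f705706 : Led Lsl_ft v6373 = v13888 :=
  Lgr Lrot48 (Lpr_ff (f705703 IH) (Lpn v13888))
theorem f913176 : Led Lsl_ct v13888 = v40070 :=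
  Lgr Lrot40 (Lpe (f705706 IH) (Lpr_cf (f781709 IH) (Lpr_ff (f913174 IH) (Lpn v40070))))
theorem f705707 : Led Lsl_gf K60.v6372 = v13888 :=
  Lgr Lrot47 (Lpe (K60.f653074 IH) (Lpr_af (f653076 IH) (Lpr_ff (f705703 IH) (Lpn v13888))))
theorem f508567 : Led Lsl_gt (LP (LK LD1_c22 LD2_c4 LD3_c38)) = (LP (LK LD1_c12 LD2_c54 LD3_c55)) :=
  Lre_g IH (LK LD1_c22 LD2_c4 LD3_c38) (LK LD1_c12 LD2_c54 LD3_c55) Lrfl Lrfl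
theorem f913179 : Led Lsl_dt (LP (LK LD1_c12 LD2_c55 LD3_c38)) = (LP (LK LD1_c22 LD2_c4 LD3_c38)) :=
  Lgr Lrot57 (Lpr_gf (f913178 IH) (Lpe (f913176 IH) (Lpe (f705707 IH) (Lpqs (K60.f752762 IH) (Lpr_dt (K52.f163128 IH) (Lpr_gt (K51.f641094 IH) (Lpqs (K51.f707328 IH) (Lpr_dt (K60.f509373 IH) (Lpe (f508565 IH) (Lpe (f508566 IH) (Lpe (f508567 IH) (Lpn (LP (LK LD1_c22 LD2_c4 LD3_c38))))))))))))))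
theorem f913180 : Led Lsl_dt (LP (LK LD1_c12 LD2_c55 LD3_c38)) = (LP (LK LD1_c22 LD2_c4 LD3_c38)) :=
  Leop (Lpe (f913179 IH) (Lpn (LP (LK LD1_c12 LD2_c55 LD3_c38))))
theorem seed_2370 : LEOK LG_d (LK LD1_c12 LD2_c55 LD3_c38) :=
  Leoe_d (LK LD1_c12 LD2_c55 LD3_c38) (f913180 IH)
theorem f710178 : Led Lsl_at (LP (LK LD1_c9 LD2_c32 LD3_c13)) = (LP (LK LD1_c12 LD2_c54 LD3_c49)) :=
  Lgr Lrot66 (Lpr_ff (K52.f710145 IH) (Lpe (K51.f56791 IH) (Lpr_ff (K54.f710176 IH) (Lpn (LP (LK LD1_c12 LD2_c54 LD3_c49))))))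
theorem f652966 : Led Lsl_ct (LP (LK LD1_c22 LD2_c4 LD3_c31)) = (LP (LK LD1_c12 LD2_c54 LD3_c50)) :=
  Lre_c IH (LK LD1_c22 LD2_c4 LD3_c31) (LK LD1_c12 LD2_c54 LD3_c50) Lrfl Lrfl
theorem f652965 : Led Lsl_dt (LP (LK LD1_c30 LD2_c17 LD3_c42)) = (LP (LK LD1_c22 LD2_c4 LD3_c31)) :=
  Lre_d IH (LK LD1_c30 LD2_c17 LD3_c42) (LK LD1_c22 LD2_c4 LD3_c31) Lrfl Lrfl
theorem f913186 : Led Lsl_cf (LP (LK LD1_c30 LD2_c17 LD3_c42)) = (LP (LK LD1_c22 LD2_c4 LD3_c38)) :=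
  Lgr Lrot116 (Lpr_dt (f652965 IH) (Lpr_ct (f652966 IH) (Lpr_dt (K69.f510226 IH) (Lpr_ct (K53.f140999 IH) (Lpe (f710178 IH) (Lpr_ff (K52.f710145 IH) (Lpr_dt (K55.f741875 IH) (Lpe (K55.f741881 IH) (Lpr_dt (f913179 IH) (Lpn (LP (LK LD1_c22 LD2_c4 LD3_c38))))))))))))
theorem f913187 : Led Lsl_ct (LP (LK LD1_c22 LD2_c4 LD3_c38)) = (LP (LK LD1_c30 LD2_c17 LD3_c42)) :=
  Leop (Lpr_cf (f913186 IH) (Lpn (LP (LK LD1_c22 LD2_c4 LD3_c38))))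
theorem seed_2371 : LEOK LG_c (LK LD1_c22 LD2_c4 LD3_c38) :=
  Leoe_c (LK LD1_c22 LD2_c4 LD3_c38) (f913187 IH)
theorem f913177 : Led Lsl_ft v19703 = v40070 :=
  Lgr Lrot48 (Lpr_ff (f913174 IH) (Lpn v40070))
theorem f913172 : Led Lsl_af (LP (LK LD1_c9 LD2_c31 LD3_c47)) = v40070 :=
  Lgr Lrot0 (Lpr_at (f913171 IH) (Lpn v40070))
theorem f414451 : Led Lsl_gt (LP (LK LD1_c17 LD2_c33 LD3_c43)) = (LP (LK LD1_c9 LD2_c31 LD3_c47)) :=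
  Lre_g IH (LK LD1_c17 LD2_c33 LD3_c43) (LK LD1_c9 LD2_c31 LD3_c47) Lrfl Lrfl
theorem f913193 : Led Lsl_gt v19703 = (LP (LK LD1_c17 LD2_c33 LD3_c43)) :=
  Lgr Lrot5 (Lpr_ft (f913177 IH) (Lpe (f913172 IH) (Lpe (f414451 IH) (Lpn (LP (LK LD1_c17 LD2_c33 LD3_c43))))))
theorem f705701 : Led Lsl_af (LP (LK LD1_c4 LD2_c49 LD3_c33)) = v13888 :=
  Lgr Lrot0 (Lpr_at (f705700 IH) (Lpn v13888))
def v13887 : LQ := Led Lsl_gf (LP (LK LD1_c4 LD2_c49 LD3_c33))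
theorem f705699 : Led Lsl_gf (LP (LK LD1_c4 LD2_c49 LD3_c33)) = v13887 :=
  Lrfl
theorem f705708 : Led Lsl_gt v6373 = v13887 :=
  Lgr Lrot5 (Lpr_ft (f705706 IH) (Lpe (f705701 IH) (Lpr_gf (f705699 IH) (Lpn v13887))))
theorem f710615 : Led Lsl_df (LP (LK LD1_c29 LD2_c31 LD3_c3)) = (LP (LK LD1_c22 LD2_c4 LD3_c25)) :=
  Lgr Lrot38 (Lpr_dt (K52.f710613 IH) (Lpn (LP (LK LD1_c22 LD2_c4 LD3_c25))))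
theorem f163131 : Led Lsl_ct (LP (LK LD1_c29 LD2_c31 LD3_c3)) = (LP (LK LD1_c20 LD2_c34 LD3_c58)) :=
  Lre_c IH (LK LD1_c29 LD2_c31 LD3_c3) (LK LD1_c20 LD2_c34 LD3_c58) Lrfl Lrfl
theorem f163130 : Led Lsl_dt (LP (LK LD1_c20 LD2_c34 LD3_c58)) = (LP (LK LD1_c11 LD2_c36 LD3_c43)) :=
  Lre_d IH (LK LD1_c20 LD2_c34 LD3_c58) (LK LD1_c11 LD2_c36 LD3_c43) Lrfl Lrfl
theorem f163129 : Led Lsl_ct (LP (LK LD1_c11 LD2_c36 LD3_c43)) = (LP (LK LD1_c5 LD2_c55 LD3_c45)) :=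
  Lre_c IH (LK LD1_c11 LD2_c36 LD3_c43) (LK LD1_c5 LD2_c55 LD3_c45) Lrfl Lrfl
theorem f185983 : Led Lsl_ct (LP (LK LD1_c4 LD2_c35 LD3_c12)) = (LP (LK LD1_c9 LD2_c7 LD3_c4)) :=
  Lre_c IH (LK LD1_c4 LD2_c35 LD3_c12) (LK LD1_c9 LD2_c7 LD3_c4) Lrfl Lrfl
theorem f559665 : Led Lsl_at (LP (LK LD1_c2 LD2_c54 LD3_c14)) = (LP (LK LD1_c4 LD2_c35 LD3_c12)) :=
  Lgr Lrot107 (Lpe (K43.f500519 IH) (Lpr_af (K40.f559658 IH) (Lpe (f185983 IH) (Lpn (LP (LK LD1_c4 LD2_c35 LD3_c12))))))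
theorem f699760 : Led Lsl_af (LP (LK LD1_c5 LD2_c55 LD3_c45)) = K51.v12947 :=
  Lgr Lrot50 (Lpr_et (K52.f542689 IH) (Lpr_at (f559665 IH) (Lpr_et (K51.f699759 IH) (Lpn K51.v12947))))
theorem f652949 : Led Lsl_ct (LP (LK LD1_c12 LD2_c54 LD3_c44)) = (LP (LK LD1_c22 LD2_c4 LD3_c25)) :=
  Lre_c IH (LK LD1_c12 LD2_c54 LD3_c44) (LK LD1_c22 LD2_c4 LD3_c25) Lrfl Lrfl
theorem f652945 : Led Lsl_df (LP (LK LD1_c3 LD2_c20 LD3_c42)) = K56.v6351 :=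
  Lgr Lrot38 (Lpr_dt (K56.f652944 IH) (Lpn K56.v6351))
theorem f710674 : Led Lsl_ff K51.v12947 = K56.v6351 :=
  Lgr Lrot103 (Lpe (f699760 IH) (Lpe (f163129 IH) (Lpe (f163130 IH) (Lpe (f163131 IH) (Lpr_df (f710615 IH) (Lpe (f652949 IH) (Lpe (K52.f652948 IH) (Lpe (K52.f140982 IH) (Lpr_df (f652945 IH) (Lpn K56.v6351))))))))))
theorem f710676 : Led Lsl_ft K51.v12947 = K56.v6351 :=
  Lgr Lrot48 (Lpr_ff (f710674 IH) (Lpn K56.v6351))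
theorem f618374 : Led Lsl_af (LP (LK LD1_c2 LD2_c54 LD3_c14)) = (LP (LK LD1_c4 LD2_c35 LD3_c12)) :=
  Lgr Lrot0 (Lpr_at (f559665 IH) (Lpn (LP (LK LD1_c4 LD2_c35 LD3_c12))))
theorem f500516 : Led Lsl_et (LP (LK LD1_c2 LD2_c54 LD3_c14)) = (LP (LK LD1_c5 LD2_c55 LD3_c45)) :=
  Lre_e IH (LK LD1_c2 LD2_c54 LD3_c14) (LK LD1_c5 LD2_c55 LD3_c45) Lrfl Lrfl
theorem f699764 : Led Lsl_at (LP (LK LD1_c5 LD2_c55 LD3_c45)) = K51.v12947 :=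
  Lgr Lrot80 (Lpe (f500516 IH) (Lpr_af (f618374 IH) (Lpr_ef (K51.f699763 IH) (Lpn K51.v12947))))
def v13869 : LQ := Led Lsl_dt (LP (LK LD1_c4 LD2_c49 LD3_c21))
theorem f705607 : Led Lsl_dt (LP (LK LD1_c4 LD2_c49 LD3_c21)) = v13869 :=
  Lrfl
theorem f705608 : Led Lsl_df (LP (LK LD1_c4 LD2_c49 LD3_c21)) = v13869 :=
  Lgr Lrot38 (Lpr_dt (f705607 IH) (Lpn v13869))
theorem f707266 : Led Lsl_ff v13869 = (LP (LK LD1_c5 LD2_c55 LD3_c45)) :=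
  Lgr Lrot19 (Lpe (f705608 IH) (Lpqs (K52.f707254 IH) (Lpe (K52.f641101 IH) (Lpr_dt (K52.f82006 IH) (Lpn (LP (LK LD1_c5 LD2_c55 LD3_c45)))))))
theorem f707267 : Led Lsl_ft v13869 = (LP (LK LD1_c5 LD2_c55 LD3_c45)) :=
  Lgr Lrot48 (Lpr_ff (f707266 IH) (Lpn (LP (LK LD1_c5 LD2_c55 LD3_c45))))
theorem f710677 : Led Lsl_af v13869 = K56.v6351 :=
  Lgr Lrot45 (Lpr_ft (f707267 IH) (Lpr_at (f699764 IH) (Lpr_ft (f710676 IH) (Lpn K56.v6351))))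
theorem f210982 : Led Lsl_dt (LP (LK LD1_c4 LD2_c35 LD3_c12)) = (LP (LK LD1_c2 LD2_c14 LD3_c45)) :=
  Lre_d IH (LK LD1_c4 LD2_c35 LD3_c12) (LK LD1_c2 LD2_c14 LD3_c45) Lrfl Lrfl
theorem f699766 : Led Lsl_dt (LP (LK LD1_c4 LD2_c35 LD3_c17)) = K51.v12947 :=
  Lgr Lrot77 (Lpe (K51.f117017 IH) (Lpe (K8.f35229 IH) (Lpr_ef (K39.f494396 IH) (Lpqs (K36.f541541 IH) (Lpe (f210982 IH) (Lpr_ef (K51.f699763 IH) (Lpn K51.v12947)))))))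
def v4971 : LQ := Led Lsl_gt (LP (LK LD1_c2 LD2_c54 LD3_c38))
theorem f641111 : Led Lsl_gt (LP (LK LD1_c2 LD2_c54 LD3_c38)) = v4971 :=
  Lrfl
theorem f641112 : Led Lsl_gf (LP (LK LD1_c6 LD2_c25 LD3_c11)) = v4971 :=
  Lgr Lrot76 (Lpe (K32.f496796 IH) (Lpe (K32.f496795 IH) (Lpr_gt (f641111 IH) (Lpn v4971))))
theorem f752644 : (LP (LK LD1_c4 LD2_c40 LD3_c3)) = v4971 :=
  Lefun (Lecon (Lfl_gt (K56.f701161 IH)) (K56.f752642 IH)) (f641112 IH)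
theorem f445888 : Led Lsl_et (LP (LK LD1_c9 LD2_c15 LD3_c39)) = (LP (LK LD1_c4 LD2_c40 LD3_c3)) :=
  Lre_e IH (LK LD1_c9 LD2_c15 LD3_c39) (LK LD1_c4 LD2_c40 LD3_c3) Lrfl Lrfl
def v13886 : LQ := Led Lsl_gt (LP (LK LD1_c4 LD2_c49 LD3_c33))
theorem f705697 : Led Lsl_gt (LP (LK LD1_c4 LD2_c49 LD3_c33)) = v13886 :=
  Lrfl
theorem f752799 : K51.v12947 = v13886 :=
  (Llr Lrot37 (Lpe (f699766 IH) (Lpr_et (K51.f161445 IH) (Lpe (K46.f161439 IH) (Lpr_dt (K8.f69237 IH) (Lpr_gt (K8.f161025 IH) (Lpe (K8.f161036 IH) (Lpr_et (K42.f161038 IH) (Lpr_gt (f641111 IH) (Lpq (f752644 IH) (Lpe (f445888 IH) (Lpe (f445879 IH) (Lpr_gt (f705697 IH) (Lpn v13886)))))))))))))).symm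
theorem f639610 : Led Lsl_ff (LP (LK LD1_c3 LD2_c21 LD3_c0)) = (LP (LK LD1_c4 LD2_c49 LD3_c33)) :=
  Lgr Lrot19 (Lpr_dt (K60.f639609 IH) (Lpr_ft (K56.f639592 IH) (Lpe (f445879 IH) (Lpn (LP (LK LD1_c4 LD2_c49 LD3_c33))))))
theorem f705698 : Led Lsl_gf v6373 = v13886 :=
  Lgr Lrot76 (Lpe (f653075 IH) (Lpr_ff (f639610 IH) (Lpr_gt (f705697 IH) (Lpn v13886))))
theorem f752800 : v13869 = v13887 :=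
  (Llr Lrot26 (Lpr_af (f710677 IH) (Lpe (f710676 IH) (Lpqs (f752799 IH) (Lpe (f705698 IH) (Lpr_gt (f705708 IH) (Lpn v13887))))))).symm
theorem f414985 : Led Lsl_gt (LP (LK LD1_c27 LD2_c22 LD3_c13)) = (LP (LK LD1_c17 LD2_c33 LD3_c34)) :=
  Lre_g IH (LK LD1_c27 LD2_c22 LD3_c13) (LK LD1_c17 LD2_c33 LD3_c34) Lrfl Lrfl
theorem f913194 : Led Lsl_df (LP (LK LD1_c27 LD2_c22 LD3_c13)) = (LP (LK LD1_c17 LD2_c33 LD3_c43)) :=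
  Lgr Lrot153 (Lpr_gt (f414985 IH) (Lpr_dt (K56.f414984 IH) (Lpe (K56.f414948 IH) (Lpe (K51.f414983 IH) (Lpe (K52.f76981 IH) (Lpr_df (f705608 IH) (Lpqs (f752800 IH) (Lpe (f705708 IH) (Lpr_cf (f781709 IH) (Lpr_gt (f913193 IH) (Lpn (LP (LK LD1_c17 LD2_c33 LD3_c43)))))))))))))
theorem f913195 : Led Lsl_dt (LP (LK LD1_c17 LD2_c33 LD3_c43)) = (LP (LK LD1_c27 LD2_c22 LD3_c13)) :=
  Leop (Lpr_df (f913194 IH) (Lpn (LP (LK LD1_c17 LD2_c33 LD3_c43))))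
theorem seed_2372 : LEOK LG_d (LK LD1_c17 LD2_c33 LD3_c43) :=
  Leoe_d (LK LD1_c17 LD2_c33 LD3_c43) (f913195 IH)
def v40085 : LQ := Led Lsl_at (LP (LK LD1_c9 LD2_c31 LD3_c53))
theorem f913286 : Led Lsl_at (LP (LK LD1_c9 LD2_c31 LD3_c53)) = v40085 :=
  Lrfl
theorem f414063 : Led Lsl_bt (LP (LK LD1_c3 LD2_c21 LD3_c8)) = (LP (LK LD1_c6 LD2_c46 LD3_c7)) :=
  Lre_b IH (LK LD1_c3 LD2_c21 LD3_c8) (LK LD1_c6 LD2_c46 LD3_c7) Lrfl Lrfl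
theorem f414337 : Led Lsl_bt (LP (LK LD1_c9 LD2_c31 LD3_c53)) = (LP (LK LD1_c4 LD2_c49 LD3_c36)) :=
  Lre_b IH (LK LD1_c9 LD2_c31 LD3_c53) (LK LD1_c4 LD2_c49 LD3_c36) Lrfl Lrfl
theorem f504062 : Led Lsl_ft (LP (LK LD1_c6 LD2_c46 LD3_c7)) = (LP (LK LD1_c9 LD2_c31 LD3_c53)) :=
  Lgr Lrot75 (Lpe (f414063 IH) (Lpr_ff (K50.f504060 IH) (Lpe (f414337 IH) (Lpn (LP (LK LD1_c9 LD2_c31 LD3_c53))))))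
theorem f416498 : Led Lsl_at (LP (LK LD1_c12 LD2_c55 LD3_c61)) = (LP (LK LD1_c6 LD2_c46 LD3_c7)) :=
  Lre_a IH (LK LD1_c12 LD2_c55 LD3_c61) (LK LD1_c6 LD2_c46 LD3_c7) Lrfl Lrfl
theorem f913289 : Led Lsl_ff (LP (LK LD1_c12 LD2_c55 LD3_c61)) = v40085 :=
  Lgr Lrot30 (Lpr_at (f416498 IH) (Lpr_ft (f504062 IH) (Lpr_at (f913286 IH) (Lpn v40085))))
theorem f913292 : Led Lsl_ft (LP (LK LD1_c12 LD2_c55 LD3_c61)) = v40085 :=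
  Lgr Lrot48 (Lpr_ff (f913289 IH) (Lpn v40085))
theorem f913287 : Led Lsl_af (LP (LK LD1_c9 LD2_c31 LD3_c53)) = v40085 :=
  Lgr Lrot0 (Lpr_at (f913286 IH) (Lpn v40085))
theorem f414350 : Led Lsl_gt (LP (LK LD1_c17 LD2_c33 LD3_c49)) = (LP (LK LD1_c9 LD2_c31 LD3_c53)) :=
  Lre_g IH (LK LD1_c17 LD2_c33 LD3_c49) (LK LD1_c9 LD2_c31 LD3_c53) Lrfl Lrfl
theorem f913295 : Led Lsl_gt (LP (LK LD1_c12 LD2_c55 LD3_c61)) = (LP (LK LD1_c17 LD2_c33 LD3_c49)) :=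
  Lgr Lrot5 (Lpr_ft (f913292 IH) (Lpe (f913287 IH) (Lpe (f414350 IH) (Lpn (LP (LK LD1_c17 LD2_c33 LD3_c49))))))
theorem f913296 : Led Lsl_gt (LP (LK LD1_c12 LD2_c55 LD3_c61)) = (LP (LK LD1_c17 LD2_c33 LD3_c49)) :=
  Leop (Lpe (f913295 IH) (Lpn (LP (LK LD1_c12 LD2_c55 LD3_c61))))
theorem seed_2373 : LEOK LG_g (LK LD1_c12 LD2_c55 LD3_c61) :=
  Leoe_g (LK LD1_c12 LD2_c55 LD3_c61) (f913296 IH)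
def v40095 : LQ := Led Lsl_ct (LP (LK LD1_c9 LD2_c32 LD3_c1))
theorem f913385 : Led Lsl_ct (LP (LK LD1_c9 LD2_c32 LD3_c1)) = v40095 :=
  Lrfl
theorem f705761 : Led Lsl_bt (LP (LK LD1_c4 LD2_c49 LD3_c43)) = (LP (LK LD1_c9 LD2_c32 LD3_c0)) :=
  Lre_b IH (LK LD1_c4 LD2_c49 LD3_c43) (LK LD1_c9 LD2_c32 LD3_c0) Lrfl Lrfl
theorem f712788 : Led Lsl_gf (LP (LK LD1_c9 LD2_c32 LD3_c0)) = (LP (LK LD1_c7 LD2_c34 LD3_c9)) :=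
  Lgr Lrot124 (Lpe (f705761 IH) (Lpq (K51.f708439 IH) (Lpe (K51.f652518 IH) (Lpqs (K51.f708447 IH) (Lpe (K54.f705769 IH) (Lpr_cf (K46.f653978 IH) (Lpqs (K54.f708065 IH) (Lpr_bt (K54.f708070 IH) (Lpr_gt (K54.f712130 IH) (Lpr_ct (K5.f130585 IH) (Lpr_gt (K69.f712777 IH) (Lpe (K65.f443235 IH) (Lpr_bt (K65.f443234 IH) (Lpn (LP (LK LD1_c7 LD2_c34 LD3_c9))))))))))))))))
theorem f440771 : Led Lsl_ft (LP (LK LD1_c3 LD2_c46 LD3_c41)) = (LP (LK LD1_c7 LD2_c34 LD3_c12)) :=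
  Lre_f IH (LK LD1_c3 LD2_c46 LD3_c41) (LK LD1_c7 LD2_c34 LD3_c12) Lrfl Lrfl
theorem f712797 : Led Lsl_af (LP (LK LD1_c9 LD2_c32 LD3_c0)) = (LP (LK LD1_c7 LD2_c34 LD3_c12)) :=
  Lgr Lrot31 (Lpr_gf (f712788 IH) (Lpe (K60.f136021 IH) (Lpr_ft (f440771 IH) (Lpn (LP (LK LD1_c7 LD2_c34 LD3_c12))))))
theorem f712806 : Led Lsl_ft (LP (LK LD1_c9 LD2_c32 LD3_c0)) = (LP (LK LD1_c6 LD2_c43 LD3_c21)) :=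
  Lgr Lrot101 (Lpr_af (f712797 IH) (Lpe (f440771 IH) (Lpr_af (K4.f120228 IH) (Lpn (LP (LK LD1_c6 LD2_c43 LD3_c21))))))
theorem f712810 : Led Lsl_ff (LP (LK LD1_c9 LD2_c32 LD3_c0)) = (LP (LK LD1_c6 LD2_c43 LD3_c21)) :=
  Lgr Lrot3 (Lpr_ft (f712806 IH) (Lpn (LP (LK LD1_c6 LD2_c43 LD3_c21))))
theorem f712799 : Led Lsl_dt (LP (LK LD1_c9 LD2_c32 LD3_c0)) = (LP (LK LD1_c17 LD2_c34 LD3_c6)) :=
  Lre_d IH (LK LD1_c9 LD2_c32 LD3_c0) (LK LD1_c17 LD2_c34 LD3_c6) Lrfl Lrfl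
theorem f712824 : Led Lsl_ft (LP (LK LD1_c17 LD2_c34 LD3_c6)) = (LP (LK LD1_c12 LD2_c51 LD3_c37)) :=
  Lgr Lrot54 (Lpe (f712799 IH) (Lpr_ff (f712810 IH) (Lpe (K4.f120301 IH) (Lpn (LP (LK LD1_c12 LD2_c51 LD3_c37))))))
theorem f712830 : Led Lsl_bt (LP (LK LD1_c9 LD2_c32 LD3_c1)) = (LP (LK LD1_c17 LD2_c34 LD3_c6)) :=
  Lre_b IH (LK LD1_c9 LD2_c32 LD3_c1) (LK LD1_c17 LD2_c34 LD3_c6) Lrfl Lrfl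
theorem f712831 : Led Lsl_ff (LP (LK LD1_c9 LD2_c32 LD3_c1)) = (LP (LK LD1_c6 LD2_c43 LD3_c22)) :=
  Lgr Lrot25 (Lpr_bt (f712830 IH) (Lpr_ft (f712824 IH) (Lpr_bt (K4.f120216 IH) (Lpn (LP (LK LD1_c6 LD2_c43 LD3_c22))))))
theorem f913388 : Led Lsl_ff (LP (LK LD1_c12 LD2_c51 LD3_c38)) = v40095 :=
  Lgr Lrot23 (Lpr_ct (K61.f103547 IH) (Lpe (f712831 IH) (Lpr_ct (f913385 IH) (Lpn v40095))))
theorem f913392 : Led Lsl_ft (LP (LK LD1_c12 LD2_c51 LD3_c38)) = v40095 :=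
  Lgr Lrot48 (Lpr_ff (f913388 IH) (Lpn v40095))
theorem f715988 : Led Lsl_gt (LP (LK LD1_c12 LD2_c51 LD3_c38)) = (LP (LK LD1_c22 LD2_c0 LD3_c35)) :=
  Lre_g IH (LK LD1_c12 LD2_c51 LD3_c38) (LK LD1_c22 LD2_c0 LD3_c35) Lrfl Lrfl
theorem f712840 : Led Lsl_ft (LP (LK LD1_c9 LD2_c32 LD3_c1)) = (LP (LK LD1_c6 LD2_c43 LD3_c22)) :=
  Lgr Lrot48 (Lpr_ff (f712831 IH) (Lpn (LP (LK LD1_c6 LD2_c43 LD3_c22))))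
theorem f120220 : Led Lsl_ct (LP (LK LD1_c17 LD2_c28 LD3_c33)) = (LP (LK LD1_c9 LD2_c28 LD3_c34)) :=
  Lre_c IH (LK LD1_c17 LD2_c28 LD3_c33) (LK LD1_c9 LD2_c28 LD3_c34) Lrfl Lrfl
theorem f708408 : Led Lsl_ft (LP (LK LD1_c9 LD2_c28 LD3_c34)) = (LP (LK LD1_c6 LD2_c47 LD3_c1)) :=
  Lgr Lrot4 (Lpe (f120220 IH) (Lpr_ff (K61.f708406 IH) (Lpe (K61.f634248 IH) (Lpn (LP (LK LD1_c6 LD2_c47 LD3_c1))))))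
theorem f712842 : Led Lsl_af (LP (LK LD1_c9 LD2_c32 LD3_c1)) = (LP (LK LD1_c6 LD2_c47 LD3_c1)) :=
  Lgr Lrot45 (Lpr_ft (f712840 IH) (Lpe (K4.f120212 IH) (Lpr_ft (f708408 IH) (Lpn (LP (LK LD1_c6 LD2_c47 LD3_c1))))))
theorem f913386 : Led Lsl_af (LP (LK LD1_c12 LD2_c56 LD3_c61)) = v40095 :=
  Lgr Lrot68 (Lpr_ct (K61.f634249 IH) (Lpe (f712842 IH) (Lpr_ct (f913385 IH) (Lpn v40095))))
theorem f913393 : Led Lsl_gt (LP (LK LD1_c22 LD2_c0 LD3_c35)) = (LP (LK LD1_c12 LD2_c56 LD3_c61)) :=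
  Lgr Lrot46 (Lpe (f715988 IH) (Lpr_ft (f913392 IH) (Lpe (f913386 IH) (Lpn (LP (LK LD1_c12 LD2_c56 LD3_c61))))))
theorem f913394 : Led Lsl_gt (LP (LK LD1_c22 LD2_c0 LD3_c35)) = (LP (LK LD1_c12 LD2_c56 LD3_c61)) :=
  Leop (Lpe (f913393 IH) (Lpn (LP (LK LD1_c22 LD2_c0 LD3_c35))))
theorem seed_2374 : LEOK LG_g (LK LD1_c22 LD2_c0 LD3_c35) :=
  Leoe_g (LK LD1_c22 LD2_c0 LD3_c35) (f913394 IH)
theorem f111048 : Led Lsl_gt (LP (LK LD1_c4 LD2_c44 LD3_c4)) = (LP (LK LD1_c9 LD2_c20 LD3_c61)) :=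
  Lre_g IH (LK LD1_c4 LD2_c44 LD3_c4) (LK LD1_c9 LD2_c20 LD3_c61) Lrfl Lrfl
theorem f708113 : K51.v13893 = (LP (LK LD1_c9 LD2_c20 LD3_c61)) :=
  Lefun (Lecon (K66.f705736 IH) ((K51.f678951 IH).trans (K51.f708050 IH))) (f111048 IH)
def v39229 : LQ := Led Lsl_gt (LP (LK LD1_c9 LD2_c21 LD3_c0))
theorem f907779 : Led Lsl_gt (LP (LK LD1_c9 LD2_c21 LD3_c0)) = v39229 :=
  Lrfl
theorem f913395 : Led Lsl_cf (LP (LK LD1_c22 LD2_c0 LD3_c35)) = v39229 :=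
  Lgr Lrot169 (Lpr_gt (f913393 IH) (Lpr_ct (K61.f634249 IH) (Lpe (K61.f454796 IH) (Lpe (K46.f140063 IH) (Lpr_gf (K46.f651282 IH) (Lpr_cf (K51.f705741 IH) (Lpqs (f708113 IH) (Lpe (f111048 IH) (Lpe (K4.f111033 IH) (Lpr_gt (f907779 IH) (Lpn v39229)))))))))))
theorem f120416 : Led Lsl_ct (LP (LK LD1_c17 LD2_c16 LD3_c60)) = (LP (LK LD1_c27 LD2_c6 LD3_c24)) :=
  Lre_c IH (LK LD1_c17 LD2_c16 LD3_c60) (LK LD1_c27 LD2_c6 LD3_c24) Lrfl Lrfl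
theorem f708414 : Led Lsl_bt (LP (LK LD1_c6 LD2_c47 LD3_c1)) = (LP (LK LD1_c12 LD2_c56 LD3_c60)) :=
  Lre_b IH (LK LD1_c6 LD2_c47 LD3_c1) (LK LD1_c12 LD2_c56 LD3_c60) Lrfl Lrfl
theorem f88422 : Led Lsl_bt (LP (LK LD1_c14 LD2_c17 LD3_c1)) = (LP (LK LD1_c7 LD2_c34 LD3_c30)) :=
  Lre_b IH (LK LD1_c14 LD2_c17 LD3_c1) (LK LD1_c7 LD2_c34 LD3_c30) Lrfl Lrfl
theorem f664984 : Led Lsl_ct (LP (LK LD1_c14 LD2_c17 LD3_c1)) = (LP (LK LD1_c23 LD2_c54 LD3_c19)) :=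
  Lre_c IH (LK LD1_c14 LD2_c17 LD3_c1) (LK LD1_c23 LD2_c54 LD3_c19) Lrfl Lrfl
theorem f913396 : Led Lsl_gf (LP (LK LD1_c27 LD2_c6 LD3_c24)) = (LP (LK LD1_c23 LD2_c54 LD3_c19)) :=
  Lgr Lrot126 (Lpe (f120416 IH) (Lpr_bt (K4.f120413 IH) (Lpr_gt (f907779 IH) (Lpe (f913395 IH) (Lpr_gt (f913393 IH) (Lpe (K61.f634248 IH) (Lpr_bt (f708414 IH) (Lpe (K61.f708430 IH) (Lpe (f88422 IH) (Lpr_ct (f664984 IH) (Lpn (LP (LK LD1_c23 LD2_c54 LD3_c19)))))))))))))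
theorem f913397 : Led Lsl_gt (LP (LK LD1_c23 LD2_c54 LD3_c19)) = (LP (LK LD1_c27 LD2_c6 LD3_c24)) :=
  Leop (Lpr_gf (f913396 IH) (Lpn (LP (LK LD1_c23 LD2_c54 LD3_c19))))
theorem seed_2375 : LEOK LG_g (LK LD1_c23 LD2_c54 LD3_c19) :=
  Leoe_g (LK LD1_c23 LD2_c54 LD3_c19) (f913397 IH)
theorem f120425 : Led Lsl_ct (LP (LK LD1_c27 LD2_c6 LD3_c24)) = (LP (LK LD1_c17 LD2_c16 LD3_c60)) :=
  Lre_c IH (LK LD1_c27 LD2_c6 LD3_c24) (LK LD1_c17 LD2_c16 LD3_c60) Lrfl Lrfl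
def v39227 : LQ := Led Lsl_et (LP (LK LD1_c9 LD2_c20 LD3_c58))
theorem f907760 : Led Lsl_et (LP (LK LD1_c9 LD2_c20 LD3_c58)) = v39227 :=
  Lrfl
theorem f907763 : Led Lsl_cf (LP (LK LD1_c9 LD2_c20 LD3_c60)) = v39227 :=
  Lgr Lrot39 (Lpr_et (K44.f120418 IH) (Lpr_ct (K5.f111014 IH) (Lpr_et (f907760 IH) (Lpn v39227))))
theorem f907764 : Led Lsl_ef (LP (LK LD1_c9 LD2_c20 LD3_c58)) = v39227 :=
  Lgr Lrot88 (Lpr_et (f907760 IH) (Lpn v39227))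
theorem f907767 : Led Lsl_ct (LP (LK LD1_c9 LD2_c20 LD3_c60)) = v39227 :=
  Lgr Lrot15 (Lpe (K4.f120427 IH) (Lpe (K5.f78398 IH) (Lpr_ef (f907764 IH) (Lpn v39227))))
theorem f140073 : Led Lsl_ct (LP (LK LD1_c3 LD2_c21 LD3_c42)) = (LP (LK LD1_c6 LD2_c47 LD3_c0)) :=
  Lre_c IH (LK LD1_c3 LD2_c21 LD3_c42) (LK LD1_c6 LD2_c47 LD3_c0) Lrfl Lrfl
theorem f443233 : Led Lsl_ct (LP (LK LD1_c7 LD2_c34 LD3_c25)) = (LP (LK LD1_c14 LD2_c16 LD3_c50)) :=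
  Lre_c IH (LK LD1_c7 LD2_c34 LD3_c25) (LK LD1_c14 LD2_c16 LD3_c50) Lrfl Lrfl
theorem f907769 : Led Lsl_gt (LP (LK LD1_c14 LD2_c16 LD3_c50)) = v39227 :=
  Lgr Lrot65 (Lpe (f443233 IH) (Lpr_bt (K63.f443232 IH) (Lpr_gf (K51.f658421 IH) (Lpqs (K61.f707524 IH) (Lpe (K61.f140083 IH) (Lpr_ct (f140073 IH) (Lpqs (K51.f707485 IH) (Lpe (K51.f702303 IH) (Lpqs (K51.f707475 IH) (Lpr_cf (K51.f705741 IH) (Lpqs (f708113 IH) (Lpe (f111048 IH) (Lpe (K60.f120398 IH) (Lpr_ct (f907767 IH) (Lpn v39227)))))))))))))))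
theorem f207593 : Led Lsl_gt (LP (LK LD1_c14 LD2_c16 LD3_c48)) = (LP (LK LD1_c7 LD2_c34 LD3_c25)) :=
  Lre_g IH (LK LD1_c14 LD2_c16 LD3_c48) (LK LD1_c7 LD2_c34 LD3_c25) Lrfl Lrfl
theorem f715991 : Led Lsl_dt (LP (LK LD1_c14 LD2_c16 LD3_c48)) = (LP (LK LD1_c23 LD2_c53 LD3_c61)) :=
  Lre_d IH (LK LD1_c14 LD2_c16 LD3_c48) (LK LD1_c23 LD2_c53 LD3_c61) Lrfl Lrfl
theorem f913402 : Led Lsl_gt (LP (LK LD1_c23 LD2_c53 LD3_c61)) = (LP (LK LD1_c14 LD2_c17 LD3_c1)) :=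
  Lgr Lrot9 (Lpe (f715991 IH) (Lpr_gt (f207593 IH) (Lpr_ct (f443233 IH) (Lpr_gt (f907769 IH) (Lpe (f907763 IH) (Lpe (K4.f120417 IH) (Lpe (f120425 IH) (Lpr_gf (f913396 IH) (Lpe (f664984 IH) (Lpn (LP (LK LD1_c14 LD2_c17 LD3_c1))))))))))))
theorem f913403 : Led Lsl_gt (LP (LK LD1_c23 LD2_c53 LD3_c61)) = (LP (LK LD1_c14 LD2_c17 LD3_c1)) :=
  Leop (Lpe (f913402 IH) (Lpn (LP (LK LD1_c23 LD2_c53 LD3_c61))))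
theorem seed_2376 : LEOK LG_g (LK LD1_c23 LD2_c53 LD3_c61) :=
  Leoe_g (LK LD1_c23 LD2_c53 LD3_c61) (f913403 IH)
def v40104 : LQ := Led Lsl_bt (LP (LK LD1_c9 LD2_c32 LD3_c8))
theorem f913458 : Led Lsl_bt (LP (LK LD1_c9 LD2_c32 LD3_c8)) = v40104 :=
  Lrfl
theorem f913460 : Led Lsl_bf (LP (LK LD1_c9 LD2_c32 LD3_c8)) = v40104 :=
  Lgr Lrot24 (Lpr_bt (f913458 IH) (Lpn v40104))
theorem f413689 : Led Lsl_gt (LP (LK LD1_c9 LD2_c32 LD3_c8)) = (LP (LK LD1_c4 LD2_c49 LD3_c46)) :=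
  Lre_g IH (LK LD1_c9 LD2_c32 LD3_c8) (LK LD1_c4 LD2_c49 LD3_c46) Lrfl Lrfl
def v24816 : LQ := Led Lsl_gf K66.v4999
theorem f825746 : Led Lsl_gf K66.v4999 = v24816 :=
  Lrfl
theorem f76982 : Led Lsl_bt (LP (LK LD1_c5 LD2_c0 LD3_c0)) = (LP (LK LD1_c9 LD2_c50 LD3_c32)) :=
  Lre_b IH (LK LD1_c5 LD2_c0 LD3_c0) (LK LD1_c9 LD2_c50 LD3_c32) Lrfl Lrfl
def v14157 : LQ := Led Lsl_ct (LP (LK LD1_c5 LD2_c0 LD3_c0))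
theorem f720557 : Led Lsl_ct (LP (LK LD1_c5 LD2_c0 LD3_c0)) = v14157 :=
  Lrfl
theorem f781287 : Led Lsl_gt K66.v16334 = v14157 :=
  Lgr Lrot65 (Lpe (K66.f748817 IH) (Lpe (K66.f641267 IH) (Lpqs (K69.f781281 IH) (Lpe (K69.f652891 IH) (Lpe (K60.f509310 IH) (Lpr_ct (K46.f509311 IH) (Lpe (K46.f652816 IH) (Lpe (K54.f454464 IH) (Lpe (K55.f712740 IH) (Lpe (f76982 IH) (Lpr_ct (f720557 IH) (Lpn v14157))))))))))))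
theorem f825749 : Led Lsl_bt (LP (LK LD1_c9 LD2_c30 LD3_c51)) = v24816 :=
  Lgr Lrot130 (Lpr_ct (K60.f709913 IH) (Lpr_gf (K55.f707406 IH) (Lpe (K51.f454458 IH) (Lpr_bt (K52.f652824 IH) (Lpe (K55.f712740 IH) (Lpe (f76982 IH) (Lpr_ct (f720557 IH) (Lpe (f781287 IH) (Lpe (K66.f748817 IH) (Lpr_gf (f825746 IH) (Lpn v24816)))))))))))
theorem f825751 : Led Lsl_bf (LP (LK LD1_c9 LD2_c30 LD3_c51)) = v24816 :=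
  Lgr Lrot24 (Lpr_bt (f825749 IH) (Lpn v24816))
theorem f825754 : Led Lsl_cf (LP (LK LD1_c17 LD2_c34 LD3_c20)) = v24816 :=
  Lgr Lrot58 (Lpe (K54.f414245 IH) (Lpe (K17.f413821 IH) (Lpr_bt (K17.f413669 IH) (Lpe (K16.f413656 IH) (Lpe (K52.f413687 IH) (Lpr_ct (K32.f413688 IH) (Lpr_gf (K52.f705776 IH) (Lpqs (K52.f714863 IH) (Lpe (K8.f95220 IH) (Lpe (K55.f709906 IH) (Lpr_bf (f825751 IH) (Lpn v24816))))))))))))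
theorem f61852 : Led Lsl_gt (LP (LK LD1_c5 LD2_c53 LD3_c35)) = (LP (LK LD1_c11 LD2_c33 LD3_c10)) :=
  Lre_g IH (LK LD1_c5 LD2_c53 LD3_c35) (LK LD1_c11 LD2_c33 LD3_c10) Lrfl Lrfl
theorem f913462 : Led Lsl_cf (LP (LK LD1_c11 LD2_c33 LD3_c10)) = v40104 :=
  Lgr Lrot58 (Lpe (f61852 IH) (Lpe (K52.f61854 IH) (Lpr_bt (K8.f61850 IH) (Lpe (K55.f709906 IH) (Lpr_bf (f825751 IH) (Lpe (f825754 IH) (Lpe (K54.f414245 IH) (Lpe (K17.f413821 IH) (Lpe (f413689 IH) (Lpr_bf (f913460 IH) (Lpn v40104)))))))))))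
def v40103 : LQ := Led Lsl_ft (LP (LK LD1_c9 LD2_c32 LD3_c7))
theorem f913452 : Led Lsl_ft (LP (LK LD1_c9 LD2_c32 LD3_c7)) = v40103 :=
  Lrfl
theorem f913455 : Led Lsl_ff (LP (LK LD1_c9 LD2_c32 LD3_c7)) = v40103 :=
  Lgr Lrot3 (Lpr_ft (f913452 IH) (Lpn v40103))
def v40101 : LQ := Led Lsl_at (LP (LK LD1_c9 LD2_c32 LD3_c7))
theorem f913437 : Led Lsl_at (LP (LK LD1_c9 LD2_c32 LD3_c7)) = v40101 :=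
  Lrfl
theorem f913438 : Led Lsl_af (LP (LK LD1_c9 LD2_c32 LD3_c7)) = v40101 :=
  Lgr Lrot0 (Lpr_at (f913437 IH) (Lpn v40101))
theorem f913439 : Led Lsl_ft (LP (LK LD1_c9 LD2_c32 LD3_c8)) = v40101 :=
  Lgr Lrot2 (Lpr_gt (f413689 IH) (Lpr_gt (K17.f413684 IH) (Lpr_af (f913438 IH) (Lpn v40101))))
theorem f913440 : Led Lsl_ff (LP (LK LD1_c9 LD2_c32 LD3_c8)) = v40101 :=
  Lgr Lrot3 (Lpr_ft (f913439 IH) (Lpn v40101))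
theorem f913456 : Led Lsl_at (LP (LK LD1_c9 LD2_c32 LD3_c8)) = v40103 :=
  Lgr Lrot66 (Lpr_ff (f913440 IH) (Lpe (f913437 IH) (Lpr_ff (f913455 IH) (Lpn v40103))))
def v19173 : LQ := Led Lsl_at (LP (LK LD1_c6 LD2_c39 LD3_c23))
theorem f778223 : Led Lsl_at (LP (LK LD1_c6 LD2_c39 LD3_c23)) = v19173 :=
  Lrfl
theorem f778225 : Led Lsl_cf K60.v6104 = v19173 :=
  Lgr Lrot1 (Lpe (K60.f651087 IH) (Lpr_ct (K60.f624497 IH) (Lpr_at (f778223 IH) (Lpn v19173))))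
theorem f778227 : Led Lsl_ft (LP (LK LD1_c6 LD2_c39 LD3_c27)) = v19173 :=
  Lgr Lrot4 (Lpe (K69.f413692 IH) (Lpr_ff (K60.f651095 IH) (Lpr_cf (f778225 IH) (Lpn v19173))))
theorem f778228 : Led Lsl_ff (LP (LK LD1_c6 LD2_c39 LD3_c27)) = v19173 :=
  Lgr Lrot3 (Lpr_ft (f778227 IH) (Lpn v19173))
theorem f913454 : Led Lsl_bf v19173 = v40103 :=
  Lgr Lrot61 (Lpe (f778228 IH) (Lpe (K17.f413685 IH) (Lpr_ft (f913452 IH) (Lpn v40103))))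
theorem f778224 : Led Lsl_af (LP (LK LD1_c6 LD2_c39 LD3_c23)) = v19173 :=
  Lgr Lrot0 (Lpr_at (f778223 IH) (Lpn v19173))
def v19174 : LQ := Led Lsl_bt (LP (LK LD1_c6 LD2_c39 LD3_c23))
theorem f778229 : Led Lsl_bt (LP (LK LD1_c6 LD2_c39 LD3_c23)) = v19174 :=
  Lrfl
theorem f913461 : Led Lsl_at v19174 = v40104 :=
  Lgr Lrot67 (Lpe (f778229 IH) (Lpr_af (f778224 IH) (Lpr_bf (f913454 IH) (Lpe (f913456 IH) (Lpr_bf (f913460 IH) (Lpn v40104))))))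
theorem f76103 : Led Lsl_et (LP (LK LD1_c9 LD2_c47 LD3_c37)) = (LP (LK LD1_c4 LD2_c58 LD3_c28)) :=
  Lre_e IH (LK LD1_c9 LD2_c47 LD3_c37) (LK LD1_c4 LD2_c58 LD3_c28) Lrfl Lrfl
theorem f158483 : Led Lsl_ct (LP (LK LD1_c9 LD2_c29 LD3_c60)) = (LP (LK LD1_c9 LD2_c47 LD3_c37)) :=
  Lgr Lrot15 (Lpe (f158482 IH) (Lpr_cf (K8.f158475 IH) (Lpe (f76103 IH) (Lpn (LP (LK LD1_c9 LD2_c47 LD3_c37))))))
theorem f428731 : Led Lsl_cf (LP (LK LD1_c9 LD2_c29 LD3_c60)) = (LP (LK LD1_c9 LD2_c47 LD3_c37)) :=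
  Lgr Lrot11 (Lpr_ct (f158483 IH) (Lpn (LP (LK LD1_c9 LD2_c47 LD3_c37))))
theorem f428730 : Led Lsl_bt (LP (LK LD1_c9 LD2_c47 LD3_c37)) = (LP (LK LD1_c11 LD2_c33 LD3_c54)) :=
  Lre_b IH (LK LD1_c9 LD2_c47 LD3_c37) (LK LD1_c11 LD2_c33 LD3_c54) Lrfl Lrfl
theorem f778232 : Led Lsl_gt (LP (LK LD1_c11 LD2_c33 LD3_c54)) = v19174 :=
  Lgr Lrot164 (Lpe (f428730 IH) (Lpe (f428731 IH) (Lpq (f748303 IH) (Lpe (f705218 IH) (Lpe (K50.f634138 IH) (Lpe (K50.f634145 IH) (Lpe (K17.f413703 IH) (Lpr_ct (K17.f413702 IH) (Lpe (K57.f80080 IH) (Lpe (K57.f510312 IH) (Lpr_bt (f778229 IH) (Lpn v19174))))))))))))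
theorem f634137 : Led Lsl_bt (LP (LK LD1_c2 LD2_c22 LD3_c23)) = (LP (LK LD1_c4 LD2_c49 LD3_c5)) :=
  Lre_b IH (LK LD1_c2 LD2_c22 LD3_c23) (LK LD1_c4 LD2_c49 LD3_c5) Lrfl Lrfl
theorem f739113 : Led Lsl_bt K54.v4940 = (LP (LK LD1_c9 LD2_c30 LD3_c50)) :=
  Lgr Lrot35 (Lpe (K54.f640990 IH) (Lpe (K52.f61855 IH) (Lpr_ff (K54.f739111 IH) (Lpn (LP (LK LD1_c9 LD2_c30 LD3_c50))))))
theorem f149310 : Led Lsl_gt (LP (LK LD1_c9 LD2_c8 LD3_c6)) = (LP (LK LD1_c17 LD2_c0 LD3_c31)) :=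
  Lre_g IH (LK LD1_c9 LD2_c8 LD3_c6) (LK LD1_c17 LD2_c0 LD3_c31) Lrfl Lrfl
theorem f739334 : Led Lsl_gt (LP (LK LD1_c17 LD2_c0 LD3_c31)) = (LP (LK LD1_c9 LD2_c31 LD3_c11)) :=
  Lgr Lrot46 (Lpe (f149310 IH) (Lpr_ft (K57.f714908 IH) (Lpr_at (K57.f739246 IH) (Lpn (LP (LK LD1_c9 LD2_c31 LD3_c11))))))
theorem f778234 : Led Lsl_cf (LP (LK LD1_c17 LD2_c0 LD3_c31)) = v19174 :=
  Lgr Lrot125 (Lpr_gt (f739334 IH) (Lpe (K54.f141031 IH) (Lpqs (K54.f739125 IH) (Lpr_bt (f739113 IH) (Lpr_gt (K54.f705223 IH) (Lpe (f634137 IH) (Lpr_ct (K50.f634138 IH) (Lpr_gt (f705218 IH) (Lpqs (f748303 IH) (Lpr_cf (f428731 IH) (Lpr_bt (f428730 IH) (Lpr_gt (f778232 IH) (Lpn v19174)))))))))))))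
theorem f778236 : Led Lsl_ct (LP (LK LD1_c17 LD2_c0 LD3_c31)) = v19174 :=
  Lgr Lrot59 (Lpr_cf (f778234 IH) (Lpn v19174))
theorem f913463 : Led Lsl_at (LP (LK LD1_c11 LD2_c33 LD3_c10)) = (LP (LK LD1_c17 LD2_c0 LD3_c31)) :=
  Lgr Lrot107 (Lpr_cf (f913462 IH) (Lpe (f913461 IH) (Lpe (f778236 IH) (Lpn (LP (LK LD1_c17 LD2_c0 LD3_c31))))))
theorem f913464 : Led Lsl_at (LP (LK LD1_c11 LD2_c33 LD3_c10)) = (LP (LK LD1_c17 LD2_c0 LD3_c31)) :=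
  Leop (Lpe (f913463 IH) (Lpn (LP (LK LD1_c11 LD2_c33 LD3_c10))))
theorem seed_2377 : LEOK LG_a (LK LD1_c11 LD2_c33 LD3_c10) :=
  Leoe_a (LK LD1_c11 LD2_c33 LD3_c10) (f913464 IH)
theorem f913465 : Led Lsl_ct (LP (LK LD1_c11 LD2_c33 LD3_c10)) = v40104 :=
  Lgr Lrot59 (Lpr_cf (f913462 IH) (Lpn v40104))
theorem f913453 : Led Lsl_af (LP (LK LD1_c9 LD2_c32 LD3_c8)) = v40103 :=
  Lgr Lrot45 (Lpr_ft (f913439 IH) (Lpe (f913438 IH) (Lpr_ft (f913452 IH) (Lpn v40103))))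
theorem f913457 : Led Lsl_bt v19173 = v40103 :=
  Lgr Lrot35 (Lpe (f778227 IH) (Lpe (K57.f413690 IH) (Lpr_ff (f913455 IH) (Lpn v40103))))
theorem f778230 : Led Lsl_bf (LP (LK LD1_c6 LD2_c39 LD3_c23)) = v19174 :=
  Lgr Lrot24 (Lpr_bt (f778229 IH) (Lpn v19174))
theorem f913459 : Led Lsl_af v19174 = v40104 :=
  Lgr Lrot36 (Lpe (f778230 IH) (Lpr_at (f778223 IH) (Lpr_bt (f913457 IH) (Lpe (f913453 IH) (Lpr_bt (f913458 IH) (Lpn v40104))))))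
theorem f913468 : Led Lsl_af (LP (LK LD1_c11 LD2_c33 LD3_c10)) = (LP (LK LD1_c17 LD2_c0 LD3_c31)) :=
  Lgr Lrot68 (Lpr_ct (f913465 IH) (Lpe (f913459 IH) (Lpe (f778234 IH) (Lpn (LP (LK LD1_c17 LD2_c0 LD3_c31))))))
theorem f61853 : Led Lsl_gt (LP (LK LD1_c11 LD2_c33 LD3_c11)) = (LP (LK LD1_c5 LD2_c53 LD3_c35)) :=
  Lre_g IH (LK LD1_c11 LD2_c33 LD3_c11) (LK LD1_c5 LD2_c53 LD3_c35) Lrfl Lrfl
theorem f913470 : Led Lsl_ft (LP (LK LD1_c11 LD2_c33 LD3_c11)) = (LP (LK LD1_c17 LD2_c0 LD3_c31)) :=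
  Lgr Lrot2 (Lpr_gt (f61853 IH) (Lpr_gt (f61852 IH) (Lpr_af (f913468 IH) (Lpn (LP (LK LD1_c17 LD2_c0 LD3_c31))))))
theorem f913472 : Led Lsl_ff (LP (LK LD1_c11 LD2_c33 LD3_c11)) = (LP (LK LD1_c17 LD2_c0 LD3_c31)) :=
  Lgr Lrot3 (Lpr_ft (f913470 IH) (Lpn (LP (LK LD1_c17 LD2_c0 LD3_c31))))
theorem f913474 : Led Lsl_at (LP (LK LD1_c11 LD2_c33 LD3_c11)) = (LP (LK LD1_c17 LD2_c0 LD3_c32)) :=
  Lgr Lrot26 (Lpr_ff (f913472 IH) (Lpr_gt (f739334 IH) (Lpe (K66.f739252 IH) (Lpn (LP (LK LD1_c17 LD2_c0 LD3_c32))))))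
theorem f913478 : Led Lsl_ff (LP (LK LD1_c11 LD2_c33 LD3_c10)) = (LP (LK LD1_c17 LD2_c0 LD3_c32)) :=
  Lgr Lrot30 (Lpr_at (f913463 IH) (Lpe (f913472 IH) (Lpr_at (f913474 IH) (Lpn (LP (LK LD1_c17 LD2_c0 LD3_c32))))))
theorem f913481 : Led Lsl_ft (LP (LK LD1_c11 LD2_c33 LD3_c10)) = (LP (LK LD1_c17 LD2_c0 LD3_c32)) :=
  Lgr Lrot48 (Lpr_ff (f913478 IH) (Lpn (LP (LK LD1_c17 LD2_c0 LD3_c32))))
theorem f739256 : Led Lsl_ct (LP (LK LD1_c17 LD2_c0 LD3_c32)) = (LP (LK LD1_c9 LD2_c50 LD3_c35)) :=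
  Lgr Lrot59 (Lpr_cf (K66.f739254 IH) (Lpn (LP (LK LD1_c9 LD2_c50 LD3_c35))))
theorem f913483 : Led Lsl_ff v40104 = (LP (LK LD1_c9 LD2_c50 LD3_c35)) :=
  Lgr Lrot23 (Lpe (f913462 IH) (Lpr_ft (f913481 IH) (Lpr_ct (f739256 IH) (Lpn (LP (LK LD1_c9 LD2_c50 LD3_c35))))))
theorem f913484 : v40101 = (LP (LK LD1_c5 LD2_c0 LD3_c1)) :=
  (Llr Lrot75 (Lpe (f913439 IH) (Lpr_bf (f913460 IH) (Lpr_ff (f913483 IH) (Lpe (K66.f720556 IH) (Lpn (LP (LK LD1_c5 LD2_c0 LD3_c1)))))))).symm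
theorem f913486 : Led Lsl_at (LP (LK LD1_c9 LD2_c32 LD3_c7)) = (LP (LK LD1_c5 LD2_c0 LD3_c1)) :=
  Leop (Lpq (f913484 IH) (Lpe (f913437 IH) (Lpn (LP (LK LD1_c9 LD2_c32 LD3_c7)))))
theorem seed_2378 : LEOK LG_a (LK LD1_c9 LD2_c32 LD3_c7) :=
  Leoe_a (LK LD1_c9 LD2_c32 LD3_c7) (f913486 IH)
theorem f642866 : Led Lsl_dt (LP (LK LD1_c21 LD2_c51 LD3_c12)) = (LP (LK LD1_c12 LD2_c43 LD3_c61)) :=
  Lre_d IH (LK LD1_c21 LD2_c51 LD3_c12) (LK LD1_c12 LD2_c43 LD3_c61) Lrfl Lrfl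
def v19186 : LQ := Led Lsl_at (LP (LK LD1_c6 LD2_c39 LD3_c29))
theorem f778354 : Led Lsl_at (LP (LK LD1_c6 LD2_c39 LD3_c29)) = v19186 :=
  Lrfl
theorem f651096 : Led Lsl_et (LP (LK LD1_c3 LD2_c17 LD3_c55)) = (LP (LK LD1_c6 LD2_c39 LD3_c29)) :=
  Lre_e IH (LK LD1_c3 LD2_c17 LD3_c55) (LK LD1_c6 LD2_c39 LD3_c29) Lrfl Lrfl
def v6105 : LQ := Led Lsl_ft (LP (LK LD1_c3 LD2_c17 LD3_c54))
theorem f651098 : Led Lsl_ft (LP (LK LD1_c3 LD2_c17 LD3_c54)) = v6105 :=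
  Lrfl
theorem f651099 : Led Lsl_af (LP (LK LD1_c3 LD2_c17 LD3_c55)) = v6105 :=
  Lgr Lrot45 (Lpr_ft (K60.f651091 IH) (Lpe (K60.f651087 IH) (Lpr_ft (f651098 IH) (Lpn v6105))))
theorem f778357 : Led Lsl_ef v6105 = v19186 :=
  Lgr Lrot20 (Lpe (f651099 IH) (Lpr_et (f651096 IH) (Lpr_at (f778354 IH) (Lpn v19186))))
theorem f778358 : Led Lsl_et v6105 = v19186 :=
  Lgr Lrot87 (Lpr_ef (f778357 IH) (Lpn v19186))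
def v25937 : LQ := Led Lsl_gt K60.v6104
theorem f831278 : Led Lsl_gt K60.v6104 = v25937 :=
  Lrfl
theorem f651100 : Led Lsl_ff (LP (LK LD1_c3 LD2_c17 LD3_c54)) = v6105 :=
  Lgr Lrot3 (Lpr_ft (f651098 IH) (Lpn v6105))
theorem f651102 : Led Lsl_at (LP (LK LD1_c3 LD2_c17 LD3_c55)) = v6105 :=
  Lgr Lrot66 (Lpr_ff (K60.f651095 IH) (Lpe (K60.f651086 IH) (Lpr_ff (f651100 IH) (Lpn v6105))))
theorem f831279 : Led Lsl_gf v6105 = v25937 :=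
  Lgr Lrot76 (Lpe (f651102 IH) (Lpr_ff (K60.f651095 IH) (Lpr_gt (f831278 IH) (Lpn v25937))))
def v14158 : LQ := Led Lsl_ft (LP (LK LD1_c5 LD2_c0 LD3_c0))
theorem f720559 : Led Lsl_ft (LP (LK LD1_c5 LD2_c0 LD3_c0)) = v14158 :=
  Lrfl
theorem f720561 : Led Lsl_ff (LP (LK LD1_c5 LD2_c0 LD3_c0)) = v14158 :=
  Lgr Lrot3 (Lpr_ft (f720559 IH) (Lpn v14158))
def v14156 : LQ := Led Lsl_at (LP (LK LD1_c5 LD2_c0 LD3_c0))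
theorem f720552 : Led Lsl_at (LP (LK LD1_c5 LD2_c0 LD3_c0)) = v14156 :=
  Lrfl
theorem f720553 : Led Lsl_af (LP (LK LD1_c5 LD2_c0 LD3_c0)) = v14156 :=
  Lgr Lrot0 (Lpr_at (f720552 IH) (Lpn v14156))
theorem f720554 : Led Lsl_ft (LP (LK LD1_c5 LD2_c0 LD3_c1)) = v14156 :=
  Lgr Lrot2 (Lpr_gt (K66.f141032 IH) (Lpr_gt (K17.f73773 IH) (Lpr_af (f720553 IH) (Lpn v14156))))
theorem f720555 : Led Lsl_ff (LP (LK LD1_c5 LD2_c0 LD3_c1)) = v14156 :=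
  Lgr Lrot3 (Lpr_ft (f720554 IH) (Lpn v14156))
theorem f720562 : Led Lsl_at (LP (LK LD1_c5 LD2_c0 LD3_c1)) = v14158 :=
  Lgr Lrot66 (Lpr_ff (f720555 IH) (Lpe (f720552 IH) (Lpr_ff (f720561 IH) (Lpn v14158))))
theorem f913485 : (LP (LK LD1_c9 LD2_c32 LD3_c7)) = v14158 :=
  Lefun (Lecon (Lfl_af (f913438 IH)) (f913484 IH)) (f720562 IH)
theorem f913491 : (LP (LK LD1_c5 LD2_c0 LD3_c0)) = v40103 :=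
  Lefun (Lecon (Lfl_ff (f720561 IH)) (f913485 IH).symm) (f913452 IH)
theorem f913496 : v19173 = (LP (LK LD1_c9 LD2_c50 LD3_c32)) :=
  Lefun (Lecon (Lfl_bf (f913454 IH)) (f913491 IH).symm) (f76982 IH)
theorem f913501 : K60.v6104 = (LP (LK LD1_c6 LD2_c39 LD3_c7)) :=
  Lefun (Lecon (Lfl_cf (f778225 IH)) (f913496 IH)) (K17.f76979 IH)
theorem f913502 : v25937 = (LP (LK LD1_c3 LD2_c17 LD3_c57)) :=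
  Lefun (Lecon (f831278 IH) (f913501 IH)) (K17.f76978 IH)
theorem f913524 : v6105 = (LP (LK LD1_c6 LD2_c39 LD3_c8)) :=
  Lefun (Lecon (Lfl_gf (f831279 IH)) (f913502 IH)) (K51.f510411 IH)
theorem f913542 : v19186 = (LP (LK LD1_c12 LD2_c43 LD3_c61)) :=
  Lefun (Lecon (f778358 IH) (f913524 IH)) (K69.f778073 IH)
theorem f778355 : Led Lsl_af (LP (LK LD1_c6 LD2_c39 LD3_c29)) = v19186 :=
  Lgr Lrot0 (Lpr_at (f778354 IH) (Lpn v19186))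
theorem f913545 : Led Lsl_af (LP (LK LD1_c21 LD2_c51 LD3_c12)) = (LP (LK LD1_c12 LD2_c44 LD3_c45)) :=
  Lgr Lrot117 (Lpr_dt (f642866 IH) (Lpq (f913542 IH) (Lpe (f778355 IH) (Lpr_dt (K57.f436611 IH) (Lpn (LP (LK LD1_c12 LD2_c44 LD3_c45)))))))
theorem f644842 : Led Lsl_ft (LP (LK LD1_c21 LD2_c52 LD3_c1)) = (LP (LK LD1_c12 LD2_c44 LD3_c45)) :=
  Lre_f IH (LK LD1_c21 LD2_c52 LD3_c1) (LK LD1_c12 LD2_c44 LD3_c45) Lrfl Lrfl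
theorem f913551 : Led Lsl_gf (LP (LK LD1_c17 LD2_c2 LD3_c11)) = (LP (LK LD1_c21 LD2_c52 LD3_c1)) :=
  Lgr Lrot47 (Lpe (K51.f642843 IH) (Lpr_af (f913545 IH) (Lpe (f644842 IH) (Lpn (LP (LK LD1_c21 LD2_c52 LD3_c1))))))
theorem f71366 : Led Lsl_dt (LP (LK LD1_c17 LD2_c2 LD3_c11)) = (LP (LK LD1_c9 LD2_c9 LD3_c7)) :=
  Lre_d IH (LK LD1_c17 LD2_c2 LD3_c11) (LK LD1_c9 LD2_c9 LD3_c7) Lrfl Lrfl
def v12996 : LQ := Led Lsl_dt (LP (LK LD1_c4 LD2_c36 LD3_c29))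
theorem f700078 : Led Lsl_dt (LP (LK LD1_c4 LD2_c36 LD3_c29)) = v12996 :=
  Lrfl
theorem f700080 : Led Lsl_df (LP (LK LD1_c4 LD2_c36 LD3_c29)) = v12996 :=
  Lgr Lrot38 (Lpr_dt (f700078 IH) (Lpn v12996))
theorem f509270 : Led Lsl_et (LP (LK LD1_c6 LD2_c44 LD3_c50)) = (LP (LK LD1_c3 LD2_c20 LD3_c31)) :=
  Lre_e IH (LK LD1_c6 LD2_c44 LD3_c50) (LK LD1_c3 LD2_c20 LD3_c31) Lrfl Lrfl
theorem f781259 : Led Lsl_gt v12996 = K60.v19614 :=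
  Lgr Lrot139 (Lpe (f700078 IH) (Lpqs (K50.f642780 IH) (Lpe (K50.f631924 IH) (Lpe (K50.f494480 IH) (Lpr_dt (K6.f99632 IH) (Lpe (K5.f57102 IH) (Lpe (K6.f40640 IH) (Lpr_et (K40.f100254 IH) (Lpe (K17.f77004 IH) (Lpe (f509270 IH) (Lpr_dt (K60.f781255 IH) (Lpn K60.v19614))))))))))))
theorem f781430 : Led Lsl_gf v12996 = K69.v19638 :=
  Lgr Lrot47 (Lpr_gt (f781259 IH) (Lpe (K69.f781269 IH) (Lpr_ff (K69.f781426 IH) (Lpn K69.v19638))))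
theorem f644839 : Led Lsl_dt (LP (LK LD1_c12 LD2_c44 LD3_c46)) = (LP (LK LD1_c21 LD2_c52 LD3_c1)) :=
  Lre_d IH (LK LD1_c12 LD2_c44 LD3_c46) (LK LD1_c21 LD2_c52 LD3_c1) Lrfl Lrfl
theorem f913553 : Led Lsl_gt (LP (LK LD1_c21 LD2_c50 LD3_c47)) = (LP (LK LD1_c12 LD2_c44 LD3_c46)) :=
  Lgr Lrot94 (Lpe (K69.f615138 IH) (Lpr_gt (K69.f706664 IH) (Lpr_dt (K69.f781429 IH) (Lpe (f781430 IH) (Lpe (f700080 IH) (Lpe (K45.f71365 IH) (Lpe (f71366 IH) (Lpr_gf (f913551 IH) (Lpe (f644839 IH) (Lpn (LP (LK LD1_c12 LD2_c44 LD3_c46))))))))))))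
theorem f705376 : Led Lsl_ft (LP (LK LD1_c21 LD2_c22 LD3_c8)) = (LP (LK LD1_c18 LD2_c1 LD3_c12)) :=
  Lgr Lrot4 (Lpr_cf (K52.f454599 IH) (Lpr_ff (K52.f705366 IH) (Lpr_cf (K57.f414222 IH) (Lpn (LP (LK LD1_c18 LD2_c1 LD3_c12))))))
theorem f82649 : Led Lsl_gt (LP (LK LD1_c12 LD2_c16 LD3_c52)) = (LP (LK LD1_c21 LD2_c22 LD3_c7)) :=
  Lre_g IH (LK LD1_c12 LD2_c16 LD3_c52) (LK LD1_c21 LD2_c22 LD3_c7) Lrfl Lrfl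
theorem f705385 : Led Lsl_af (LP (LK LD1_c21 LD2_c22 LD3_c7)) = (LP (LK LD1_c18 LD2_c1 LD3_c12)) :=
  Lgr Lrot31 (Lpe (f82649 IH) (Lpe (K52.f438660 IH) (Lpr_ft (f705376 IH) (Lpn (LP (LK LD1_c18 LD2_c1 LD3_c12))))))
theorem f705387 : Led Lsl_at (LP (LK LD1_c21 LD2_c22 LD3_c7)) = (LP (LK LD1_c18 LD2_c1 LD3_c12)) :=
  Lgr Lrot100 (Lpr_af (f705385 IH) (Lpn (LP (LK LD1_c18 LD2_c1 LD3_c12))))
theorem f716095 : Led Lsl_ft (LP (LK LD1_c21 LD2_c36 LD3_c29)) = (LP (LK LD1_c21 LD2_c22 LD3_c7)) :=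
  Lgr Lrot101 (Lpr_af (K57.f716091 IH) (Lpr_ff (K57.f705380 IH) (Lpe (f705387 IH) (Lpn (LP (LK LD1_c21 LD2_c22 LD3_c7))))))
theorem f716129 : Led Lsl_gt (LP (LK LD1_c20 LD2_c46 LD3_c31)) = (LP (LK LD1_c18 LD2_c1 LD3_c12)) :=
  Lgr Lrot46 (Lpr_gf (K50.f643978 IH) (Lpr_ft (f716095 IH) (Lpr_at (f705387 IH) (Lpn (LP (LK LD1_c18 LD2_c1 LD3_c12))))))
theorem f643976 : Led Lsl_cf (LP (LK LD1_c20 LD2_c46 LD3_c31)) = (LP (LK LD1_c12 LD2_c17 LD3_c6)) :=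
  Lgr Lrot1 (Lpr_at (K50.f643972 IH) (Lpr_ct (K32.f438659 IH) (Lpr_at (K65.f438655 IH) (Lpn (LP (LK LD1_c12 LD2_c17 LD3_c6))))))
theorem f446015 : Led Lsl_bt (LP (LK LD1_c21 LD2_c36 LD3_c33)) = (LP (LK LD1_c12 LD2_c29 LD3_c48)) :=
  Lre_b IH (LK LD1_c21 LD2_c36 LD3_c33) (LK LD1_c12 LD2_c29 LD3_c48) Lrfl Lrfl
theorem f913558 : Led Lsl_ct (LP (LK LD1_c21 LD2_c36 LD3_c33)) = (LP (LK LD1_c12 LD2_c44 LD3_c46)) :=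
  Lgr Lrot10 (Lpr_bt (f446015 IH) (Lpr_gt (K65.f505067 IH) (Lpe (f643976 IH) (Lpr_gt (f716129 IH) (Lpe (K57.f415113 IH) (Lpr_bt (K57.f415110 IH) (Lpe (K65.f716105 IH) (Lpr_bf (K60.f615063 IH) (Lpr_ct (K69.f615138 IH) (Lpr_gt (f913553 IH) (Lpn (LP (LK LD1_c12 LD2_c44 LD3_c46)))))))))))))
theorem f651094 : Led Lsl_ft (LP (LK LD1_c12 LD2_c44 LD3_c46)) = (LP (LK LD1_c6 LD2_c39 LD3_c29)) :=
  Lre_f IH (LK LD1_c12 LD2_c44 LD3_c46) (LK LD1_c6 LD2_c39 LD3_c29) Lrfl Lrfl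
theorem f644840 : Led Lsl_ct (LP (LK LD1_c6 LD2_c39 LD3_c29)) = (LP (LK LD1_c12 LD2_c44 LD3_c41)) :=
  Lre_c IH (LK LD1_c6 LD2_c39 LD3_c29) (LK LD1_c12 LD2_c44 LD3_c41) Lrfl Lrfl
theorem f913563 : Led Lsl_ff (LP (LK LD1_c21 LD2_c36 LD3_c33)) = (LP (LK LD1_c12 LD2_c44 LD3_c41)) :=
  Lgr Lrot23 (Lpr_ct (f913558 IH) (Lpr_ft (f651094 IH) (Lpr_ct (f644840 IH) (Lpn (LP (LK LD1_c12 LD2_c44 LD3_c41))))))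
theorem f913568 : Led Lsl_ft (LP (LK LD1_c21 LD2_c36 LD3_c33)) = (LP (LK LD1_c12 LD2_c44 LD3_c41)) :=
  Lgr Lrot48 (Lpr_ff (f913563 IH) (Lpn (LP (LK LD1_c12 LD2_c44 LD3_c41))))
theorem f699056 : Led Lsl_bt (LP (LK LD1_c12 LD2_c25 LD3_c41)) = (LP (LK LD1_c21 LD2_c32 LD3_c44)) :=
  Lre_b IH (LK LD1_c12 LD2_c25 LD3_c41) (LK LD1_c21 LD2_c32 LD3_c44) Lrfl Lrfl
theorem f699057 : Led Lsl_et (LP (LK LD1_c21 LD2_c32 LD3_c44)) = (LP (LK LD1_c21 LD2_c36 LD3_c33)) :=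
  Lgr Lrot74 (Lpe (f699056 IH) (Lpr_ef (K65.f699054 IH) (Lpe (f446015 IH) (Lpn (LP (LK LD1_c21 LD2_c36 LD3_c33))))))
theorem f413699 : Led Lsl_et (LP (LK LD1_c12 LD2_c44 LD3_c41)) = (LP (LK LD1_c6 LD2_c39 LD3_c27)) :=
  Lre_e IH (LK LD1_c12 LD2_c44 LD3_c41) (LK LD1_c6 LD2_c39 LD3_c27) Lrfl Lrfl
theorem f77010 : Led Lsl_et (LP (LK LD1_c9 LD2_c50 LD3_c32)) = (LP (LK LD1_c18 LD2_c1 LD3_c38)) :=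
  Lre_e IH (LK LD1_c9 LD2_c50 LD3_c32) (LK LD1_c18 LD2_c1 LD3_c38) Lrfl Lrfl
theorem f913571 : Led Lsl_ff (LP (LK LD1_c21 LD2_c32 LD3_c44)) = (LP (LK LD1_c18 LD2_c1 LD3_c38)) :=
  Lgr Lrot72 (Lpr_et (f699057 IH) (Lpr_ft (f913568 IH) (Lpr_et (f413699 IH) (Lpr_ft (f778227 IH) (Lpqs (f913496 IH) (Lpr_et (f77010 IH) (Lpn (LP (LK LD1_c18 LD2_c1 LD3_c38)))))))))
theorem f699046 : Led Lsl_df (LP (LK LD1_c12 LD2_c25 LD3_c41)) = (LP (LK LD1_c11 LD2_c24 LD3_c31)) :=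
  Lgr Lrot38 (Lpr_dt (K65.f699042 IH) (Lpn (LP (LK LD1_c11 LD2_c24 LD3_c31))))
theorem f699059 : Led Lsl_dt (LP (LK LD1_c21 LD2_c32 LD3_c44)) = (LP (LK LD1_c20 LD2_c22 LD3_c15)) :=
  Lgr Lrot79 (Lpe (f699056 IH) (Lpr_df (f699046 IH) (Lpe (K53.f61613 IH) (Lpn (LP (LK LD1_c20 LD2_c22 LD3_c15))))))
theorem f710006 : Led Lsl_dt (LP (LK LD1_c20 LD2_c5 LD3_c59)) = (LP (LK LD1_c18 LD2_c1 LD3_c38)) :=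
  Lgr Lrot42 (Lpr_df (K52.f710002 IH) (Lpn (LP (LK LD1_c18 LD2_c1 LD3_c38))))
theorem f913579 : Led Lsl_ft (LP (LK LD1_c20 LD2_c22 LD3_c15)) = (LP (LK LD1_c20 LD2_c5 LD3_c59)) :=
  Lgr Lrot54 (Lpe (f699059 IH) (Lpr_ff (f913571 IH) (Lpe (f710006 IH) (Lpn (LP (LK LD1_c20 LD2_c5 LD3_c59))))))
theorem f913587 : Led Lsl_af (LP (LK LD1_c20 LD2_c0 LD3_c19)) = (LP (LK LD1_c20 LD2_c5 LD3_c59)) :=
  Lgr Lrot31 (Lpr_gf (K56.f740462 IH) (Lpe (K53.f714732 IH) (Lpr_ft (f913579 IH) (Lpn (LP (LK LD1_c20 LD2_c5 LD3_c59))))))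
theorem f710028 : Led Lsl_cf (LP (LK LD1_c20 LD2_c5 LD3_c59)) = (LP (LK LD1_c12 LD2_c3 LD3_c43)) :=
  Lgr Lrot11 (Lpr_ct (K52.f710023 IH) (Lpn (LP (LK LD1_c12 LD2_c3 LD3_c43))))
theorem f913591 : Led Lsl_at (LP (LK LD1_c20 LD2_c11 LD3_c44)) = (LP (LK LD1_c12 LD2_c3 LD3_c43)) :=
  Lgr Lrot107 (Lpr_cf (K56.f653322 IH) (Lpr_af (f913587 IH) (Lpr_cf (f710028 IH) (Lpn (LP (LK LD1_c12 LD2_c3 LD3_c43))))))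
theorem f586910 : Led Lsl_gf (LP (LK LD1_c12 LD2_c3 LD3_c43)) = (LP (LK LD1_c20 LD2_c11 LD3_c46)) :=
  Lgr Lrot47 (Lpr_gt (K52.f73065 IH) (Lpr_af (K53.f586904 IH) (Lpe (K45.f586880 IH) (Lpn (LP (LK LD1_c20 LD2_c11 LD3_c46))))))
theorem f913601 : Led Lsl_ff (LP (LK LD1_c20 LD2_c11 LD3_c44)) = (LP (LK LD1_c12 LD2_c3 LD3_c42)) :=
  Lgr Lrot52 (Lpr_at (f913591 IH) (Lpr_gf (f586910 IH) (Lpe (K53.f586918 IH) (Lpn (LP (LK LD1_c12 LD2_c3 LD3_c42))))))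
theorem f913607 : Led Lsl_ft (LP (LK LD1_c20 LD2_c11 LD3_c44)) = (LP (LK LD1_c12 LD2_c3 LD3_c42)) :=
  Lgr Lrot48 (Lpr_ff (f913601 IH) (Lpn (LP (LK LD1_c12 LD2_c3 LD3_c42))))
theorem f713774 : Led Lsl_ct (LP (LK LD1_c12 LD2_c3 LD3_c42)) = (LP (LK LD1_c20 LD2_c5 LD3_c58)) :=
  Lgr Lrot59 (Lpr_cf (K53.f713758 IH) (Lpn (LP (LK LD1_c20 LD2_c5 LD3_c58))))
theorem f913609 : Led Lsl_ff (LP (LK LD1_c20 LD2_c0 LD3_c19)) = (LP (LK LD1_c20 LD2_c5 LD3_c58)) :=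
  Lgr Lrot23 (Lpe (K56.f653322 IH) (Lpr_ft (f913607 IH) (Lpr_ct (f713774 IH) (Lpn (LP (LK LD1_c20 LD2_c5 LD3_c58))))))
theorem f727515 : Led Lsl_bt (LP (LK LD1_c20 LD2_c0 LD3_c6)) = (LP (LK LD1_c20 LD2_c5 LD3_c58)) :=
  Lgr Lrot127 (Lpr_bf (K53.f727513 IH) (Lpn (LP (LK LD1_c20 LD2_c5 LD3_c58))))
theorem f913619 : Led Lsl_ft (LP (LK LD1_c11 LD2_c6 LD3_c59)) = (LP (LK LD1_c20 LD2_c0 LD3_c6)) :=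
  Lgr Lrot75 (Lpe (K56.f319519 IH) (Lpr_ff (f913609 IH) (Lpe (f727515 IH) (Lpn (LP (LK LD1_c20 LD2_c0 LD3_c6))))))
theorem f913623 : Led Lsl_af (LP (LK LD1_c11 LD2_c6 LD3_c58)) = (LP (LK LD1_c20 LD2_c0 LD3_c6)) :=
  Lgr Lrot31 (Lpe (K57.f319515 IH) (Lpe (K56.f319518 IH) (Lpr_ft (f913619 IH) (Lpn (LP (LK LD1_c20 LD2_c0 LD3_c6))))))
theorem f757838 : Led Lsl_bt (LP (LK LD1_c11 LD2_c6 LD3_c58)) = (LP (LK LD1_c20 LD2_c0 LD3_c16)) :=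
  Lre_b IH (LK LD1_c11 LD2_c6 LD3_c58) (LK LD1_c20 LD2_c0 LD3_c16) Lrfl Lrfl
theorem f913611 : Led Lsl_af (LP (LK LD1_c20 LD2_c11 LD3_c43)) = (LP (LK LD1_c12 LD2_c3 LD3_c42)) :=
  Lgr Lrot31 (Lpe (K53.f561796 IH) (Lpe (K56.f561797 IH) (Lpr_ft (f913607 IH) (Lpn (LP (LK LD1_c12 LD2_c3 LD3_c42))))))
theorem f586931 : Led Lsl_cf (LP (LK LD1_c20 LD2_c22 LD3_c15)) = (LP (LK LD1_c20 LD2_c11 LD3_c43)) :=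
  Lgr Lrot11 (Lpr_ct (K53.f586927 IH) (Lpn (LP (LK LD1_c20 LD2_c11 LD3_c43))))
theorem f913613 : Led Lsl_at (LP (LK LD1_c20 LD2_c22 LD3_c15)) = (LP (LK LD1_c20 LD2_c5 LD3_c58)) :=
  Lgr Lrot107 (Lpr_cf (f586931 IH) (Lpr_af (f913611 IH) (Lpr_cf (K53.f713758 IH) (Lpn (LP (LK LD1_c20 LD2_c5 LD3_c58))))))
theorem f913627 : Led Lsl_at (LP (LK LD1_c20 LD2_c0 LD3_c16)) = (LP (LK LD1_c11 LD2_c24 LD3_c31)) :=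
  Lgr Lrot67 (Lpe (f757838 IH) (Lpr_af (f913623 IH) (Lpr_bf (K53.f727513 IH) (Lpe (f913613 IH) (Lpe (K53.f586930 IH) (Lpn (LP (LK LD1_c11 LD2_c24 LD3_c31))))))))
theorem f61520 : Led Lsl_gt (LP (LK LD1_c11 LD2_c24 LD3_c32)) = (LP (LK LD1_c5 LD2_c47 LD3_c7)) :=
  Lre_g IH (LK LD1_c11 LD2_c24 LD3_c32) (LK LD1_c5 LD2_c47 LD3_c7) Lrfl Lrfl
theorem f913632 : Led Lsl_ff (LP (LK LD1_c20 LD2_c0 LD3_c16)) = (LP (LK LD1_c11 LD2_c24 LD3_c32)) :=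
  Lgr Lrot52 (Lpr_at (f913627 IH) (Lpe (K53.f61612 IH) (Lpe (f61520 IH) (Lpn (LP (LK LD1_c11 LD2_c24 LD3_c32))))))
theorem f913634 : Led Lsl_ft (LP (LK LD1_c20 LD2_c0 LD3_c16)) = (LP (LK LD1_c11 LD2_c24 LD3_c32)) :=
  Lgr Lrot48 (Lpr_ff (f913632 IH) (Lpn (LP (LK LD1_c11 LD2_c24 LD3_c32))))
theorem f913630 : Led Lsl_af (LP (LK LD1_c20 LD2_c0 LD3_c16)) = (LP (LK LD1_c11 LD2_c24 LD3_c31)) :=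
  Lgr Lrot0 (Lpr_at (f913627 IH) (Lpn (LP (LK LD1_c11 LD2_c24 LD3_c31))))
theorem f913581 : Led Lsl_ff (LP (LK LD1_c11 LD2_c24 LD3_c31)) = (LP (LK LD1_c18 LD2_c1 LD3_c40)) :=
  Lgr Lrot25 (Lpr_bt (K53.f586930 IH) (Lpr_ft (f913579 IH) (Lpr_bt (K52.f710004 IH) (Lpn (LP (LK LD1_c18 LD2_c1 LD3_c40))))))
theorem f913636 : Led Lsl_af (LP (LK LD1_c18 LD2_c1 LD3_c40)) = (LP (LK LD1_c11 LD2_c24 LD3_c32)) :=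
  Lgr Lrot45 (Lpe (f913581 IH) (Lpe (f913630 IH) (Lpr_ft (f913634 IH) (Lpn (LP (LK LD1_c11 LD2_c24 LD3_c32))))))
theorem f913638 : Led Lsl_gt (LP (LK LD1_c20 LD2_c0 LD3_c16)) = (LP (LK LD1_c11 LD2_c24 LD3_c33)) :=
  Lgr Lrot5 (Lpr_ft (f913634 IH) (Lpe (f913636 IH) (Lpe (K52.f139350 IH) (Lpn (LP (LK LD1_c11 LD2_c24 LD3_c33))))))
theorem f73662 : Led Lsl_at (LP (LK LD1_c20 LD2_c22 LD3_c3)) = (LP (LK LD1_c11 LD2_c24 LD3_c33)) :=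
  Lre_a IH (LK LD1_c20 LD2_c22 LD3_c3) (LK LD1_c11 LD2_c24 LD3_c33) Lrfl Lrfl
theorem f73976 : Led Lsl_ft (LP (LK LD1_c11 LD2_c24 LD3_c16)) = (LP (LK LD1_c20 LD2_c22 LD3_c3)) :=
  Lre_f IH (LK LD1_c11 LD2_c24 LD3_c16) (LK LD1_c20 LD2_c22 LD3_c3) Lrfl Lrfl
theorem f913640 : Led Lsl_gf (LP (LK LD1_c20 LD2_c0 LD3_c16)) = (LP (LK LD1_c11 LD2_c24 LD3_c16)) :=
  Lgr Lrot47 (Lpr_gt (f913638 IH) (Lpe (f73662 IH) (Lpe (f73976 IH) (Lpn (LP (LK LD1_c11 LD2_c24 LD3_c16))))))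
theorem f73139 : Led Lsl_et (LP (LK LD1_c5 LD2_c47 LD3_c2)) = (LP (LK LD1_c11 LD2_c24 LD3_c16)) :=
  Lre_e IH (LK LD1_c5 LD2_c47 LD3_c2) (LK LD1_c11 LD2_c24 LD3_c16) Lrfl Lrfl
theorem f72950 : Led Lsl_dt (LP (LK LD1_c5 LD2_c47 LD3_c2)) = (LP (LK LD1_c2 LD2_c49 LD3_c23)) :=
  Lre_d IH (LK LD1_c5 LD2_c47 LD3_c2) (LK LD1_c2 LD2_c49 LD3_c23) Lrfl Lrfl
theorem f622473 : Led Lsl_et (LP (LK LD1_c10 LD2_c7 LD3_c10)) = (LP (LK LD1_c5 LD2_c8 LD3_c21)) :=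
  Lre_e IH (LK LD1_c10 LD2_c7 LD3_c10) (LK LD1_c5 LD2_c8 LD3_c21) Lrfl Lrfl
theorem f495604 : Led Lsl_bt (LP (LK LD1_c11 LD2_c11 LD3_c13)) = (LP (LK LD1_c5 LD2_c40 LD3_c12)) :=
  Lre_b IH (LK LD1_c11 LD2_c11 LD3_c13) (LK LD1_c5 LD2_c40 LD3_c12) Lrfl Lrfl
theorem f622466 : Led Lsl_bt (LP (LK LD1_c5 LD2_c8 LD3_c22)) = (LP (LK LD1_c10 LD2_c7 LD3_c10)) :=
  Lre_b IH (LK LD1_c5 LD2_c8 LD3_c22) (LK LD1_c10 LD2_c7 LD3_c10) Lrfl Lrfl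
theorem f622467 : Led Lsl_df (LP (LK LD1_c11 LD2_c11 LD3_c13)) = (LP (LK LD1_c10 LD2_c7 LD3_c10)) :=
  Lgr Lrot12 (Lpr_bt (f495604 IH) (Lpr_dt (K50.f622456 IH) (Lpr_bt (f622466 IH) (Lpn (LP (LK LD1_c10 LD2_c7 LD3_c10))))))
theorem f387178 : Led Lsl_et (LP (LK LD1_c4 LD2_c58 LD3_c20)) = (LP (LK LD1_c9 LD2_c47 LD3_c22)) :=
  Lre_e IH (LK LD1_c4 LD2_c58 LD3_c20) (LK LD1_c9 LD2_c47 LD3_c22) Lrfl Lrfl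
theorem f386713 : Led Lsl_af (LP (LK LD1_c2 LD2_c55 LD3_c41)) = (LP (LK LD1_c5 LD2_c6 LD3_c33)) :=
  Lgr Lrot0 (Lpr_at (K27.f386711 IH) (Lpn (LP (LK LD1_c5 LD2_c6 LD3_c33))))
theorem f426242 : Led Lsl_gf (LP (LK LD1_c2 LD2_c33 LD3_c7)) = (LP (LK LD1_c2 LD2_c55 LD3_c6)) :=
  Lgr Lrot47 (Lpr_gt (K28.f426240 IH) (Lpr_af (f386713 IH) (Lpe (K38.f386756 IH) (Lpn (LP (LK LD1_c2 LD2_c55 LD3_c6))))))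
theorem f427799 : Led Lsl_gt (LP (LK LD1_c2 LD2_c33 LD3_c59)) = (LP (LK LD1_c2 LD2_c27 LD3_c0)) :=
  Lgr Lrot94 (Lpe (K32.f308055 IH) (Lpr_gt (K32.f427782 IH) (Lpr_dt (K28.f386740 IH) (Lpe (f426242 IH) (Lpr_dt (K27.f289416 IH) (Lpe (K27.f211994 IH) (Lpe (K36.f53223 IH) (Lpr_gf (K32.f427524 IH) (Lpe (K32.f139361 IH) (Lpn (LP (LK LD1_c2 LD2_c27 LD3_c0))))))))))))
theorem f719155 : Led Lsl_gt (LP (LK LD1_c11 LD2_c11 LD3_c13)) = (LP (LK LD1_c18 LD2_c23 LD3_c26)) :=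
  Lgr Lrot112 (Lpr_df (f622467 IH) (Lpr_et (f622473 IH) (Lpr_gf (K53.f719153 IH) (Lpe (f387178 IH) (Lpr_dt (K32.f161212 IH) (Lpe (f427799 IH) (Lpe (K40.f308073 IH) (Lpe (K39.f387292 IH) (Lpe (K50.f387294 IH) (Lpr_dt (K50.f387295 IH) (Lpn (LP (LK LD1_c18 LD2_c23 LD3_c26)))))))))))))
theorem f622334 : Led Lsl_et (LP (LK LD1_c12 LD2_c4 LD3_c24)) = (LP (LK LD1_c11 LD2_c11 LD3_c13)) :=
  Lgr Lrot74 (Lpe (K53.f413976 IH) (Lpr_ef (K55.f622332 IH) (Lpe (f495604 IH) (Lpn (LP (LK LD1_c11 LD2_c11 LD3_c13))))))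
theorem f417020 : Led Lsl_gt (LP (LK LD1_c12 LD2_c56 LD3_c46)) = (LP (LK LD1_c6 LD2_c46 LD3_c45)) :=
  Lre_g IH (LK LD1_c12 LD2_c56 LD3_c46) (LK LD1_c6 LD2_c46 LD3_c45) Lrfl Lrfl
theorem f913644 : Led Lsl_dt (LP (LK LD1_c20 LD2_c0 LD3_c16)) = (LP (LK LD1_c12 LD2_c56 LD3_c46)) :=
  Lgr Lrot171 (Lpr_gf (f913640 IH) (Lpe (f73139 IH) (Lpr_dt (f72950 IH) (Lpr_gf (K36.f541559 IH) (Lpe (K35.f383972 IH) (Lpe (K50.f541689 IH) (Lpe (f719155 IH) (Lpe (f622334 IH) (Lpe (K53.f417012 IH) (Lpe (f417020 IH) (Lpn (LP (LK LD1_c12 LD2_c56 LD3_c46)))))))))))))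
theorem f913648 : Led Lsl_df (LP (LK LD1_c20 LD2_c0 LD3_c16)) = (LP (LK LD1_c12 LD2_c56 LD3_c46)) :=
  Lgr Lrot38 (Lpr_dt (f913644 IH) (Lpn (LP (LK LD1_c12 LD2_c56 LD3_c46))))
def v17723 : LQ := Led Lsl_gf (LP (LK LD1_c6 LD2_c21 LD3_c39))
theorem f761875 : Led Lsl_gf (LP (LK LD1_c6 LD2_c21 LD3_c39)) = v17723 :=
  Lrfl
theorem f913652 : Led Lsl_ef v17723 = (LP (LK LD1_c12 LD2_c56 LD3_c46)) :=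
  Lgr Lrot114 (Lpe (f761875 IH) (Lpe (K46.f438665 IH) (Lpr_dt (K35.f438658 IH) (Lpr_gt (K52.f506167 IH) (Lpe (K52.f706108 IH) (Lpr_et (K52.f706106 IH) (Lpr_gt (K52.f76107 IH) (Lpr_dt (K52.f74169 IH) (Lpe (f913640 IH) (Lpr_df (f913648 IH) (Lpn (LP (LK LD1_c12 LD2_c56 LD3_c46)))))))))))))
theorem f913654 : Led Lsl_et v17723 = (LP (LK LD1_c12 LD2_c56 LD3_c46)) :=
  Lgr Lrot87 (Lpr_ef (f913652 IH) (Lpn (LP (LK LD1_c12 LD2_c56 LD3_c46))))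
theorem f642222 : Led Lsl_dt (LP (LK LD1_c4 LD2_c59 LD3_c3)) = (LP (LK LD1_c9 LD2_c48 LD3_c35)) :=
  Lre_d IH (LK LD1_c4 LD2_c59 LD3_c3) (LK LD1_c9 LD2_c48 LD3_c35) Lrfl Lrfl
def v25692 : LQ := Led Lsl_gf K65.v5762
theorem f830006 : Led Lsl_gf K65.v5762 = v25692 :=
  Lrfl
theorem f649248 : Led Lsl_df (LP (LK LD1_c3 LD2_c12 LD3_c61)) = K65.v5762 :=
  Lgr Lrot38 (Lpr_dt (K65.f649246 IH) (Lpn K65.v5762))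
theorem f767160 : Led Lsl_af K65.v5762 = K65.v18489 :=
  Lgr Lrot117 (Lpe (f649248 IH) (Lpr_at (K45.f505239 IH) (Lpr_dt (K65.f767159 IH) (Lpn K65.v18489))))
theorem f767166 : Led Lsl_ft (LP (LK LD1_c9 LD2_c48 LD3_c35)) = K65.v18489 :=
  Lgr Lrot48 (Lpr_ff (K65.f767163 IH) (Lpn K65.v18489))
theorem f830007 : Led Lsl_gt (LP (LK LD1_c9 LD2_c48 LD3_c35)) = v25692 :=
  Lgr Lrot5 (Lpr_ft (f767166 IH) (Lpe (f767160 IH) (Lpr_gf (f830006 IH) (Lpn v25692))))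
theorem f913656 : Led Lsl_dt v17723 = v25692 :=
  Lgr Lrot56 (Lpr_et (f913654 IH) (Lpr_gt (f417020 IH) (Lpr_ef (K53.f720535 IH) (Lpe (K53.f720531 IH) (Lpr_gt (K53.f719151 IH) (Lpe (K53.f642270 IH) (Lpr_et (K53.f642248 IH) (Lpr_gt (K50.f640883 IH) (Lpqs (K41.f642213 IH) (Lpr_dt (f642222 IH) (Lpr_gt (f830007 IH) (Lpn v25692))))))))))))
theorem f623455 : Led Lsl_gt (LP (LK LD1_c12 LD2_c25 LD3_c36)) = (LP (LK LD1_c12 LD2_c56 LD3_c46)) :=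
  Lgr Lrot5 (Lpr_ft (K53.f623443 IH) (Lpr_at (K53.f417023 IH) (Lpe (f417020 IH) (Lpn (LP (LK LD1_c12 LD2_c56 LD3_c46))))))
theorem f623200 : Led Lsl_et (LP (LK LD1_c6 LD2_c26 LD3_c56)) = (LP (LK LD1_c12 LD2_c25 LD3_c36)) :=
  Lre_e IH (LK LD1_c6 LD2_c26 LD3_c56) (LK LD1_c12 LD2_c25 LD3_c36) Lrfl Lrfl
theorem f623179 : Led Lsl_at (LP (LK LD1_c6 LD2_c26 LD3_c57)) = (LP (LK LD1_c12 LD2_c25 LD3_c35)) :=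
  Lre_a IH (LK LD1_c6 LD2_c26 LD3_c57) (LK LD1_c12 LD2_c25 LD3_c35) Lrfl Lrfl
theorem f623187 : Led Lsl_gt (LP (LK LD1_c5 LD2_c48 LD3_c50)) = (LP (LK LD1_c11 LD2_c27 LD3_c4)) :=
  Lre_g IH (LK LD1_c5 LD2_c48 LD3_c50) (LK LD1_c11 LD2_c27 LD3_c4) Lrfl Lrfl
theorem f623188 : Led Lsl_gf (LP (LK LD1_c12 LD2_c25 LD3_c35)) = (LP (LK LD1_c11 LD2_c27 LD3_c4)) :=
  Lgr Lrot76 (Lpe (f623179 IH) (Lpr_ff (K51.f623177 IH) (Lpr_gt (f623187 IH) (Lpn (LP (LK LD1_c11 LD2_c27 LD3_c4))))))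
theorem f79823 : Led Lsl_gt (LP (LK LD1_c6 LD2_c30 LD3_c4)) = (LP (LK LD1_c12 LD2_c29 LD3_c45)) :=
  Lre_g IH (LK LD1_c6 LD2_c30 LD3_c4) (LK LD1_c12 LD2_c29 LD3_c45) Lrfl Lrfl
theorem f913659 : Led Lsl_df (LP (LK LD1_c11 LD2_c27 LD3_c4)) = (LP (LK LD1_c12 LD2_c29 LD3_c45)) :=
  Lgr Lrot135 (Lpe (f623188 IH) (Lpe (K55.f623199 IH) (Lpr_et (f623200 IH) (Lpr_gt (f623455 IH) (Lpe (f913654 IH) (Lpr_dt (f913656 IH) (Lpe (f830006 IH) (Lpe (K65.f649246 IH) (Lpr_et (K45.f505745 IH) (Lpr_gt (f79823 IH) (Lpn (LP (LK LD1_c12 LD2_c29 LD3_c45)))))))))))))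
theorem f913660 : Led Lsl_dt (LP (LK LD1_c12 LD2_c29 LD3_c45)) = (LP (LK LD1_c11 LD2_c27 LD3_c4)) :=
  Leop (Lpr_df (f913659 IH) (Lpn (LP (LK LD1_c12 LD2_c29 LD3_c45))))
theorem seed_2379 : LEOK LG_d (LK LD1_c12 LD2_c29 LD3_c45) :=
  Leoe_d (LK LD1_c12 LD2_c29 LD3_c45) (f913660 IH)
def v40108 : LQ := Led Lsl_dt (LP (LK LD1_c9 LD2_c32 LD3_c13))
theorem f913806 : Led Lsl_dt (LP (LK LD1_c9 LD2_c32 LD3_c13)) = v40108 :=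
  Lrfl
theorem f77068 : Led Lsl_at (LP (LK LD1_c9 LD2_c31 LD3_c30)) = (LP (LK LD1_c4 LD2_c49 LD3_c23)) :=
  Lre_a IH (LK LD1_c9 LD2_c31 LD3_c30) (LK LD1_c4 LD2_c49 LD3_c23) Lrfl Lrfl
theorem f510211 : Led Lsl_ft (LP (LK LD1_c6 LD2_c45 LD3_c13)) = (LP (LK LD1_c9 LD2_c31 LD3_c30)) :=
  Lgr Lrot101 (Lpe (K49.f140992 IH) (Lpr_ff (K49.f510206 IH) (Lpe (f77068 IH) (Lpn (LP (LK LD1_c9 LD2_c31 LD3_c30))))))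
theorem f77067 : Led Lsl_gt (LP (LK LD1_c9 LD2_c31 LD3_c32)) = (LP (LK LD1_c4 LD2_c49 LD3_c23)) :=
  Lre_g IH (LK LD1_c9 LD2_c31 LD3_c32) (LK LD1_c4 LD2_c49 LD3_c23) Lrfl Lrfl
theorem f510268 : Led Lsl_gt (LP (LK LD1_c6 LD2_c45 LD3_c13)) = (LP (LK LD1_c9 LD2_c31 LD3_c32)) :=
  Lgr Lrot5 (Lpr_ft (f510211 IH) (Lpr_at (f77068 IH) (Lpe (f77067 IH) (Lpn (LP (LK LD1_c9 LD2_c31 LD3_c32))))))
theorem f781710 : Led Lsl_ct v6373 = v19703 :=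
  Lgr Lrot59 (Lpr_cf (f781709 IH) (Lpn v19703))
theorem f913810 : Led Lsl_ct (LP (LK LD1_c17 LD2_c33 LD3_c43)) = v40108 :=
  Lgr Lrot151 (Lpe (f913193 IH) (Lpe (f781710 IH) (Lpr_gf (f705698 IH) (Lpq (f752799 IH) (Lpe (K51.f699762 IH) (Lpq (K51.f707253 IH) (Lpe (K51.f634200 IH) (Lpr_ct (K49.f510200 IH) (Lpr_gt (f510268 IH) (Lpr_ct (K52.f454499 IH) (Lpr_dt (f913806 IH) (Lpn v40108))))))))))))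
theorem f741877 : Led Lsl_df (LP (LK LD1_c5 LD2_c48 LD3_c15)) = K55.v15823 :=
  Lgr Lrot38 (Lpr_dt (K55.f741875 IH) (Lpn K55.v15823))
theorem f913809 : Led Lsl_ff K55.v15823 = v40108 :=
  Lgr Lrot19 (Lpe (f741877 IH) (Lpe (K52.f710145 IH) (Lpr_dt (f913806 IH) (Lpn v40108))))
theorem f913812 : Led Lsl_ff (LP (LK LD1_c17 LD2_c33 LD3_c43)) = (LP (LK LD1_c12 LD2_c55 LD3_c38)) :=
  Lgr Lrot23 (Lpr_ct (f913810 IH) (Lpe (f913809 IH) (Lpe (K55.f741881 IH) (Lpn (LP (LK LD1_c12 LD2_c55 LD3_c38))))))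
theorem f913813 : Led Lsl_ft (LP (LK LD1_c12 LD2_c55 LD3_c38)) = (LP (LK LD1_c17 LD2_c33 LD3_c43)) :=
  Leop (Lpr_ff (f913812 IH) (Lpn (LP (LK LD1_c12 LD2_c55 LD3_c38))))
theorem seed_2380 : LEOK LG_f (LK LD1_c12 LD2_c55 LD3_c38) :=
  Leoe_f (LK LD1_c12 LD2_c55 LD3_c38) (f913813 IH)
theorem f913818 : Led Lsl_ft (LP (LK LD1_c17 LD2_c33 LD3_c43)) = (LP (LK LD1_c12 LD2_c55 LD3_c38)) :=
  Lgr Lrot48 (Lpr_ff (f913812 IH) (Lpn (LP (LK LD1_c12 LD2_c55 LD3_c38))))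
theorem f913196 : Led Lsl_dt (LP (LK LD1_c27 LD2_c22 LD3_c13)) = (LP (LK LD1_c17 LD2_c33 LD3_c43)) :=
  Lgr Lrot42 (Lpr_df (f913194 IH) (Lpn (LP (LK LD1_c17 LD2_c33 LD3_c43))))
theorem f913842 : Led Lsl_ff (LP (LK LD1_c27 LD2_c22 LD3_c13)) = (LP (LK LD1_c22 LD2_c4 LD3_c38)) :=
  Lgr Lrot19 (Lpr_dt (f913196 IH) (Lpr_ft (f913818 IH) (Lpr_dt (f913179 IH) (Lpn (LP (LK LD1_c22 LD2_c4 LD3_c38))))))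
theorem f510284 : Led Lsl_gt (LP (LK LD1_c12 LD2_c54 LD3_c55)) = (LP (LK LD1_c22 LD2_c4 LD3_c37)) :=
  Lre_g IH (LK LD1_c12 LD2_c54 LD3_c55) (LK LD1_c22 LD2_c4 LD3_c37) Lrfl Lrfl
theorem f913844 : Led Lsl_at (LP (LK LD1_c27 LD2_c22 LD3_c13)) = (LP (LK LD1_c22 LD2_c4 LD3_c37)) :=
  Lgr Lrot26 (Lpr_ff (f913842 IH) (Lpr_gt (f508567 IH) (Lpr_gt (f510284 IH) (Lpn (LP (LK LD1_c22 LD2_c4 LD3_c37))))))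
theorem f913184 : Led Lsl_df (LP (LK LD1_c12 LD2_c55 LD3_c38)) = (LP (LK LD1_c22 LD2_c4 LD3_c38)) :=
  Lgr Lrot38 (Lpr_dt (f913179 IH) (Lpn (LP (LK LD1_c22 LD2_c4 LD3_c38))))
theorem f741883 : Led Lsl_ct (LP (LK LD1_c12 LD2_c55 LD3_c38)) = K55.v15823 :=
  Lgr Lrot59 (Lpr_cf (K55.f741881 IH) (Lpn K55.v15823))
theorem f56798 : Led Lsl_ct (LP (LK LD1_c11 LD2_c48 LD3_c59)) = (LP (LK LD1_c20 LD2_c51 LD3_c28)) :=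
  Lre_c IH (LK LD1_c11 LD2_c48 LD3_c59) (LK LD1_c20 LD2_c51 LD3_c28) Lrfl Lrfl
theorem f56799 : Led Lsl_dt (LP (LK LD1_c20 LD2_c51 LD3_c28)) = (LP (LK LD1_c29 LD2_c42 LD3_c27)) :=
  Lre_d IH (LK LD1_c20 LD2_c51 LD3_c28) (LK LD1_c29 LD2_c42 LD3_c27) Lrfl Lrfl
theorem f913846 : Led Lsl_cf (LP (LK LD1_c22 LD2_c4 LD3_c37)) = (LP (LK LD1_c29 LD2_c42 LD3_c27)) :=
  Lgr Lrot102 (Lpe (f913844 IH) (Lpr_ff (f913842 IH) (Lpe (f913184 IH) (Lpr_ct (f741883 IH) (Lpe (f741877 IH) (Lpe (K52.f56786 IH) (Lpr_dt (K60.f56797 IH) (Lpr_ct (f56798 IH) (Lpr_dt (f56799 IH) (Lpn (LP (LK LD1_c29 LD2_c42 LD3_c27))))))))))))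
theorem f913847 : Led Lsl_ct (LP (LK LD1_c29 LD2_c42 LD3_c27)) = (LP (LK LD1_c22 LD2_c4 LD3_c37)) :=
  Leop (Lpr_cf (f913846 IH) (Lpn (LP (LK LD1_c29 LD2_c42 LD3_c27))))
theorem seed_2381 : LEOK LG_c (LK LD1_c29 LD2_c42 LD3_c27) :=
  Leoe_c (LK LD1_c29 LD2_c42 LD3_c27) (f913847 IH)
def v40110 : LQ := Led Lsl_at (LP (LK LD1_c9 LD2_c32 LD3_c16))
theorem f913869 : Led Lsl_at (LP (LK LD1_c9 LD2_c32 LD3_c16)) = v40110 :=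
  Lrfl
theorem f416764 : Led Lsl_ct (LP (LK LD1_c9 LD2_c32 LD3_c16)) = (LP (LK LD1_c4 LD2_c49 LD3_c50)) :=
  Lre_c IH (LK LD1_c9 LD2_c32 LD3_c16) (LK LD1_c4 LD2_c49 LD3_c50) Lrfl Lrfl
theorem f454301 : Led Lsl_ff (LP (LK LD1_c9 LD2_c32 LD3_c16)) = (LP (LK LD1_c6 LD2_c47 LD3_c22)) :=
  Lgr Lrot23 (Lpr_ct (f416764 IH) (Lpr_ft (K24.f454296 IH) (Lpr_ct (f414139 IH) (Lpn (LP (LK LD1_c6 LD2_c47 LD3_c22))))))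
theorem f414140 : Led Lsl_gt (LP (LK LD1_c6 LD2_c47 LD3_c22)) = (LP (LK LD1_c12 LD2_c57 LD3_c46)) :=
  Lre_g IH (LK LD1_c6 LD2_c47 LD3_c22) (LK LD1_c12 LD2_c57 LD3_c46) Lrfl Lrfl
theorem f913873 : Led Lsl_gt (LP (LK LD1_c12 LD2_c57 LD3_c46)) = v40110 :=
  Lgr Lrot46 (Lpe (f414140 IH) (Lpe (f454301 IH) (Lpr_at (f913869 IH) (Lpn v40110))))
theorem f705835 : Led Lsl_af (LP (LK LD1_c4 LD2_c49 LD3_c50)) = K51.v13909 :=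
  Lgr Lrot117 (Lpr_dt (K52.f415292 IH) (Lpr_at (K24.f416222 IH) (Lpr_dt (K51.f705834 IH) (Lpn K51.v13909))))
theorem f913871 : Led Lsl_cf K51.v13909 = v40110 :=
  Lgr Lrot1 (Lpe (f705835 IH) (Lpr_ct (f416755 IH) (Lpr_at (f913869 IH) (Lpn v40110))))
theorem f653398 : Led Lsl_gf (LP (LK LD1_c9 LD2_c32 LD3_c3)) = K54.v6433 :=
  Lgr Lrot76 (Lpe (K51.f416198 IH) (Lpr_ff (K32.f454322 IH) (Lpr_gt (K54.f653397 IH) (Lpn K54.v6433))))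
theorem f644057 : Led Lsl_gt (LP (LK LD1_c9 LD2_c30 LD3_c53)) = (LP (LK LD1_c17 LD2_c32 LD3_c19)) :=
  Lre_g IH (LK LD1_c9 LD2_c30 LD3_c53) (LK LD1_c17 LD2_c32 LD3_c19) Lrfl Lrfl
theorem f913875 : Led Lsl_cf (LP (LK LD1_c12 LD2_c57 LD3_c46)) = (LP (LK LD1_c17 LD2_c32 LD3_c19)) :=
  Lgr Lrot169 (Lpr_gt (f913873 IH) (Lpe (f913871 IH) (Lpe (K51.f705834 IH) (Lpe (K24.f416217 IH) (Lpr_gf (f653398 IH) (Lpq (K54.f739284 IH) (Lpr_cf (K54.f136265 IH) (Lpqs (K54.f739029 IH) (Lpe (K54.f705275 IH) (Lpe (K55.f644060 IH) (Lpr_gt (f644057 IH) (Lpn (LP (LK LD1_c17 LD2_c32 LD3_c19))))))))))))))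
theorem f913876 : Led Lsl_ct (LP (LK LD1_c17 LD2_c32 LD3_c19)) = (LP (LK LD1_c12 LD2_c57 LD3_c46)) :=
  Leop (Lpr_cf (f913875 IH) (Lpn (LP (LK LD1_c17 LD2_c32 LD3_c19))))
theorem seed_2382 : LEOK LG_c (LK LD1_c17 LD2_c32 LD3_c19) :=
  Leoe_c (LK LD1_c17 LD2_c32 LD3_c19) (f913876 IH)
def v40112 : LQ := Led Lsl_gt (LP (LK LD1_c9 LD2_c32 LD3_c19))
theorem f913907 : Led Lsl_gt (LP (LK LD1_c9 LD2_c32 LD3_c19)) = v40112 :=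
  Lrfl
theorem f627884 : Led Lsl_dt (LP (LK LD1_c4 LD2_c49 LD3_c51)) = K49.v3913 :=
  Lgr Lrot60 (Lpe (K57.f623046 IH) (Lpe (K24.f416523 IH) (Lpr_ff (K49.f627881 IH) (Lpn K49.v3913))))
theorem f57165 : Led Lsl_ct (LP (LK LD1_c3 LD2_c2 LD3_c52)) = (LP (LK LD1_c1 LD2_c27 LD3_c21)) :=
  Lre_c IH (LK LD1_c3 LD2_c2 LD3_c52) (LK LD1_c1 LD2_c27 LD3_c21) Lrfl Lrfl
theorem f622980 : Led Lsl_gf (LP (LK LD1_c5 LD2_c52 LD3_c0)) = (LP (LK LD1_c3 LD2_c2 LD3_c52)) :=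
  Lgr Lrot144 (Lpr_dt (K35.f622968 IH) (Lpr_gt (K24.f414795 IH) (Lpr_dt (K24.f413682 IH) (Lpe (K16.f413655 IH) (Lpe (K24.f68367 IH) (Lpe (K24.f416552 IH) (Lpr_df (K16.f415415 IH) (Lpe (K16.f59835 IH) (Lpe (f57165 IH) (Lpn (LP (LK LD1_c3 LD2_c2 LD3_c52))))))))))))
theorem f627886 : Led Lsl_gf (LP (LK LD1_c3 LD2_c2 LD3_c52)) = K49.v3913 :=
  Lgr Lrot47 (Lpe (f622980 IH) (Lpe (K35.f416673 IH) (Lpr_ff (K49.f627881 IH) (Lpn K49.v3913))))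
theorem f57160 : Led Lsl_ct (LP (LK LD1_c1 LD2_c27 LD3_c21)) = (LP (LK LD1_c3 LD2_c2 LD3_c52)) :=
  Lre_c IH (LK LD1_c1 LD2_c27 LD3_c21) (LK LD1_c3 LD2_c2 LD3_c52) Lrfl Lrfl
theorem f57161 : Led Lsl_et (LP (LK LD1_c3 LD2_c2 LD3_c52)) = (LP (LK LD1_c5 LD2_c52 LD3_c46)) :=
  Lgr Lrot158 (Lpe (f57160 IH) (Lpe (K29.f57159 IH) (Lpr_cf (K35.f57138 IH) (Lpn (LP (LK LD1_c5 LD2_c52 LD3_c46))))))
theorem f504020 : Led Lsl_af (LP (LK LD1_c3 LD2_c2 LD3_c52)) = (LP (LK LD1_c4 LD2_c41 LD3_c7)) :=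
  Lgr Lrot50 (Lpr_et (f57161 IH) (Lpe (K48.f503455 IH) (Lpr_et (K35.f504018 IH) (Lpn (LP (LK LD1_c4 LD2_c41 LD3_c7))))))
theorem f627887 : Led Lsl_gt (LP (LK LD1_c3 LD2_c3 LD3_c1)) = K49.v3913 :=
  Lgr Lrot5 (Lpr_ft (K50.f504026 IH) (Lpe (f504020 IH) (Lpr_gf (f627886 IH) (Lpn K49.v3913))))
theorem f40907 : Led Lsl_dt (LP (LK LD1_c9 LD2_c46 LD3_c46)) = (LP (LK LD1_c4 LD2_c57 LD3_c58)) :=
  Lre_d IH (LK LD1_c9 LD2_c46 LD3_c46) (LK LD1_c4 LD2_c57 LD3_c58) Lrfl Lrfl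
theorem f913911 : Led Lsl_et (LP (LK LD1_c9 LD2_c46 LD3_c46)) = v40112 :=
  Lgr Lrot122 (Lpr_dt (f40907 IH) (Lpe (K53.f40904 IH) (Lpe (K53.f413916 IH) (Lpr_et (K56.f413609 IH) (Lpr_gt (K16.f413614 IH) (Lpe (K16.f413617 IH) (Lpr_gt (f627887 IH) (Lpe (f627884 IH) (Lpr_et (K35.f417043 IH) (Lpr_gt (f913907 IH) (Lpn v40112)))))))))))
theorem f913912 : Led Lsl_ef (LP (LK LD1_c9 LD2_c46 LD3_c46)) = v40112 :=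
  Lgr Lrot88 (Lpr_et (f913911 IH) (Lpn v40112))
theorem f40908 : Led Lsl_dt (LP (LK LD1_c4 LD2_c57 LD3_c58)) = (LP (LK LD1_c9 LD2_c46 LD3_c46)) :=
  Lre_d IH (LK LD1_c4 LD2_c57 LD3_c58) (LK LD1_c9 LD2_c46 LD3_c46) Lrfl Lrfl
theorem f424457 : Led Lsl_gf (LP (LK LD1_c11 LD2_c12 LD3_c11)) = (LP (LK LD1_c9 LD2_c46 LD3_c46)) :=
  Lgr Lrot134 (Lpe (K67.f380657 IH) (Lpr_et (K64.f380656 IH) (Lpr_gt (K54.f172289 IH) (Lpe (K49.f172310 IH) (Lpr_dt (K12.f171267 IH) (Lpr_gt (K9.f172137 IH) (Lpe (K9.f20816 IH) (Lpr_et (K54.f140325 IH) (Lpr_gt (K53.f40903 IH) (Lpr_dt (f40908 IH) (Lpn (LP (LK LD1_c9 LD2_c46 LD3_c46)))))))))))))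
theorem f613552 : Led Lsl_af (LP (LK LD1_c11 LD2_c59 LD3_c28)) = (LP (LK LD1_c9 LD2_c0 LD3_c21)) :=
  Lgr Lrot0 (Lpr_at (K60.f613548 IH) (Lpn (LP (LK LD1_c9 LD2_c0 LD3_c21))))
theorem f613556 : Led Lsl_gf (LP (LK LD1_c11 LD2_c59 LD3_c28)) = (LP (LK LD1_c9 LD2_c0 LD3_c19)) :=
  Lgr Lrot76 (Lpr_af (f613552 IH) (Lpe (K39.f354379 IH) (Lpr_gt (K67.f418712 IH) (Lpn (LP (LK LD1_c9 LD2_c0 LD3_c19))))))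
theorem f334720 : Led Lsl_et (LP (LK LD1_c9 LD2_c51 LD3_c14)) = (LP (LK LD1_c11 LD2_c51 LD3_c58)) :=
  Lgr Lrot69 (Lpe (K56.f176741 IH) (Lpe (K56.f176521 IH) (Lpr_ff (K36.f334710 IH) (Lpe (K49.f186058 IH) (Lpe (K36.f186397 IH) (Lpn (LP (LK LD1_c11 LD2_c51 LD3_c58))))))))
theorem f334804 : Led Lsl_at (LP (LK LD1_c9 LD2_c51 LD3_c10)) = (LP (LK LD1_c11 LD2_c51 LD3_c58)) :=
  Lgr Lrot100 (Lpr_af (K36.f334802 IH) (Lpn (LP (LK LD1_c11 LD2_c51 LD3_c58))))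
theorem f176550 : Led Lsl_ft (LP (LK LD1_c5 LD2_c0 LD3_c24)) = (LP (LK LD1_c9 LD2_c51 LD3_c10)) :=
  Lre_f IH (LK LD1_c5 LD2_c0 LD3_c24) (LK LD1_c9 LD2_c51 LD3_c10) Lrfl Lrfl
theorem f334808 : Led Lsl_af (LP (LK LD1_c5 LD2_c0 LD3_c24)) = (LP (LK LD1_c6 LD2_c4 LD3_c12)) :=
  Lgr Lrot45 (Lpr_ft (f176550 IH) (Lpr_at (f334804 IH) (Lpr_ft (K36.f186397 IH) (Lpn (LP (LK LD1_c6 LD2_c4 LD3_c12))))))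
theorem f176546 : Led Lsl_gt (LP (LK LD1_c9 LD2_c51 LD3_c9)) = (LP (LK LD1_c5 LD2_c0 LD3_c24)) :=
  Lre_g IH (LK LD1_c9 LD2_c51 LD3_c9) (LK LD1_c5 LD2_c0 LD3_c24) Lrfl Lrfl
theorem f334815 : Led Lsl_gf (LP (LK LD1_c9 LD2_c51 LD3_c9)) = (LP (LK LD1_c11 LD2_c51 LD3_c58)) :=
  Lgr Lrot47 (Lpr_gt (f176546 IH) (Lpr_af (f334808 IH) (Lpe (K36.f186397 IH) (Lpn (LP (LK LD1_c11 LD2_c51 LD3_c58))))))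
theorem f164558 : Led Lsl_ft (LP (LK LD1_c2 LD2_c31 LD3_c26)) = (LP (LK LD1_c5 LD2_c8 LD3_c25)) :=
  Lre_f IH (LK LD1_c2 LD2_c31 LD3_c26) (LK LD1_c5 LD2_c8 LD3_c25) Lrfl Lrfl
theorem f164083 : Led Lsl_gt (LP (LK LD1_c2 LD2_c31 LD3_c26)) = (LP (LK LD1_c5 LD2_c8 LD3_c26)) :=
  Lre_g IH (LK LD1_c2 LD2_c31 LD3_c26) (LK LD1_c5 LD2_c8 LD3_c26) Lrfl Lrfl
theorem f164565 : Led Lsl_gt (LP (LK LD1_c5 LD2_c8 LD3_c26)) = (LP (LK LD1_c5 LD2_c14 LD3_c51)) :=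
  Lgr Lrot46 (Lpe (f164083 IH) (Lpr_ft (f164558 IH) (Lpr_at (K48.f164559 IH) (Lpn (LP (LK LD1_c5 LD2_c14 LD3_c51))))))
theorem f164084 : Led Lsl_et (LP (LK LD1_c10 LD2_c7 LD3_c16)) = (LP (LK LD1_c5 LD2_c8 LD3_c26)) :=
  Lre_e IH (LK LD1_c10 LD2_c7 LD3_c16) (LK LD1_c5 LD2_c8 LD3_c26) Lrfl Lrfl
theorem f414574 : Led Lsl_df (LP (LK LD1_c9 LD2_c51 LD3_c9)) = (LP (LK LD1_c10 LD2_c7 LD3_c16)) :=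
  Lgr Lrot132 (Lpr_gf (f334815 IH) (Lpr_df (K36.f334837 IH) (Lpe (K49.f334839 IH) (Lpe (K17.f22382 IH) (Lpr_dt (K17.f22243 IH) (Lpr_gf (K56.f414571 IH) (Lpr_df (K10.f164362 IH) (Lpr_et (K48.f163950 IH) (Lpe (f164565 IH) (Lpe (f164084 IH) (Lpn (LP (LK LD1_c10 LD2_c7 LD3_c16)))))))))))))
theorem f414577 : Led Lsl_dt (LP (LK LD1_c9 LD2_c51 LD3_c9)) = (LP (LK LD1_c10 LD2_c7 LD3_c16)) :=
  Lgr Lrot42 (Lpr_df (f414574 IH) (Lpn (LP (LK LD1_c10 LD2_c7 LD3_c16))))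
theorem f413627 : Led Lsl_et (LP (LK LD1_c5 LD2_c0 LD3_c22)) = (LP (LK LD1_c9 LD2_c51 LD3_c5)) :=
  Lre_e IH (LK LD1_c5 LD2_c0 LD3_c22) (LK LD1_c9 LD2_c51 LD3_c5) Lrfl Lrfl
def v35989 : LQ := Led Lsl_dt (LP (LK LD1_c8 LD2_c14 LD3_c56))
theorem f881541 : Led Lsl_dt (LP (LK LD1_c8 LD2_c14 LD3_c56)) = v35989 :=
  Lrfl
theorem f172069 : Led Lsl_gt (LP (LK LD1_c8 LD2_c14 LD3_c56)) = (LP (LK LD1_c4 LD2_c7 LD3_c22)) :=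
  Lre_g IH (LK LD1_c8 LD2_c14 LD3_c56) (LK LD1_c4 LD2_c7 LD3_c22) Lrfl Lrfl
theorem f334645 : Led Lsl_gt (LP (LK LD1_c6 LD2_c7 LD3_c25)) = (LP (LK LD1_c8 LD2_c14 LD3_c56)) :=
  Lgr Lrot5 (Lpr_ft (K49.f176596 IH) (Lpr_at (K35.f334639 IH) (Lpe (f172069 IH) (Lpn (LP (LK LD1_c8 LD2_c14 LD3_c56))))))
theorem f176586 : Led Lsl_ft (LP (LK LD1_c4 LD2_c39 LD3_c31)) = (LP (LK LD1_c9 LD2_c14 LD3_c41)) :=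
  Lre_f IH (LK LD1_c4 LD2_c39 LD3_c31) (LK LD1_c9 LD2_c14 LD3_c41) Lrfl Lrfl
theorem f172078 : Led Lsl_ft (LP (LK LD1_c6 LD2_c4 LD3_c8)) = (LP (LK LD1_c2 LD2_c58 LD3_c8)) :=
  Lre_f IH (LK LD1_c6 LD2_c4 LD3_c8) (LK LD1_c2 LD2_c58 LD3_c8) Lrfl Lrfl
theorem f334651 : Led Lsl_at (LP (LK LD1_c9 LD2_c14 LD3_c41)) = (LP (LK LD1_c6 LD2_c4 LD3_c8)) :=
  Lgr Lrot66 (Lpe (f176586 IH) (Lpr_af (K35.f334643 IH) (Lpe (f172078 IH) (Lpn (LP (LK LD1_c6 LD2_c4 LD3_c8))))))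
theorem f334653 : Led Lsl_af (LP (LK LD1_c9 LD2_c14 LD3_c41)) = (LP (LK LD1_c6 LD2_c4 LD3_c8)) :=
  Lgr Lrot0 (Lpr_at (f334651 IH) (Lpn (LP (LK LD1_c6 LD2_c4 LD3_c8))))
theorem f599778 : Led Lsl_ef (LP (LK LD1_c5 LD2_c52 LD3_c34)) = (LP (LK LD1_c9 LD2_c14 LD3_c41)) :=
  Lgr Lrot20 (Lpr_at (K49.f599774 IH) (Lpr_et (K52.f334918 IH) (Lpe (f334653 IH) (Lpn (LP (LK LD1_c9 LD2_c14 LD3_c41))))))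
theorem f176582 : Led Lsl_ft (LP (LK LD1_c9 LD2_c14 LD3_c41)) = (LP (LK LD1_c4 LD2_c39 LD3_c31)) :=
  Lre_f IH (LK LD1_c9 LD2_c14 LD3_c41) (LK LD1_c4 LD2_c39 LD3_c31) Lrfl Lrfl
theorem f176584 : Led Lsl_df (LP (LK LD1_c9 LD2_c14 LD3_c41)) = (LP (LK LD1_c6 LD2_c7 LD3_c25)) :=
  Lgr Lrot78 (Lpr_ft (f176582 IH) (Lpr_dt (K35.f176578 IH) (Lpr_ft (K49.f176583 IH) (Lpn (LP (LK LD1_c6 LD2_c7 LD3_c25))))))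
theorem f599787 : Led Lsl_et (LP (LK LD1_c5 LD2_c14 LD3_c30)) = (LP (LK LD1_c6 LD2_c7 LD3_c25)) :=
  Lgr Lrot71 (Lpe (K54.f164368 IH) (Lpr_ef (K7.f152037 IH) (Lpe (K55.f22723 IH) (Lpr_ef (f599778 IH) (Lpr_df (f176584 IH) (Lpn (LP (LK LD1_c6 LD2_c7 LD3_c25))))))))
theorem f164403 : Led Lsl_df (LP (LK LD1_c4 LD2_c34 LD3_c46)) = (LP (LK LD1_c5 LD2_c14 LD3_c30)) :=
  Lgr Lrot78 (Lpr_ft (K7.f152035 IH) (Lpr_dt (K38.f164389 IH) (Lpr_ft (K56.f164402 IH) (Lpn (LP (LK LD1_c5 LD2_c14 LD3_c30))))))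
def v15968 : LQ := Led Lsl_dt (LP (LK LD1_c5 LD2_c50 LD3_c38))
theorem f744457 : Led Lsl_dt (LP (LK LD1_c5 LD2_c50 LD3_c38)) = v15968 :=
  Lrfl
theorem f744459 : Led Lsl_df (LP (LK LD1_c5 LD2_c50 LD3_c38)) = v15968 :=
  Lgr Lrot38 (Lpr_dt (f744457 IH) (Lpn v15968))
theorem f59440 : Led Lsl_dt (LP (LK LD1_c5 LD2_c50 LD3_c39)) = (LP (LK LD1_c2 LD2_c51 LD3_c30)) :=
  Lre_d IH (LK LD1_c5 LD2_c50 LD3_c39) (LK LD1_c2 LD2_c51 LD3_c30) Lrfl Lrfl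
theorem f744460 : Led Lsl_ef (LP (LK LD1_c5 LD2_c50 LD3_c39)) = v15968 :=
  Lgr Lrot73 (Lpr_dt (f59440 IH) (Lpr_et (K32.f59436 IH) (Lpr_dt (K51.f139890 IH) (Lpr_et (K54.f438778 IH) (Lpr_dt (f744457 IH) (Lpn v15968))))))
def v15812 : LQ := Led Lsl_et (LP (LK LD1_c5 LD2_c47 LD3_c38))
theorem f741712 : Led Lsl_et (LP (LK LD1_c5 LD2_c47 LD3_c38)) = v15812 :=
  Lrfl
theorem f741714 : Led Lsl_ef (LP (LK LD1_c5 LD2_c47 LD3_c38)) = v15812 :=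
  Lgr Lrot88 (Lpr_et (f741712 IH) (Lpn v15812))
theorem f176575 : Led Lsl_et (LP (LK LD1_c9 LD2_c51 LD3_c5)) = (LP (LK LD1_c5 LD2_c0 LD3_c22)) :=
  Lre_e IH (LK LD1_c9 LD2_c51 LD3_c5) (LK LD1_c5 LD2_c0 LD3_c22) Lrfl Lrfl
theorem f741713 : Led Lsl_df (LP (LK LD1_c9 LD2_c51 LD3_c5)) = v15812 :=
  Lgr Lrot70 (Lpr_et (f176575 IH) (Lpe (K16.f413617 IH) (Lpr_et (K16.f413629 IH) (Lpr_dt (K32.f59433 IH) (Lpr_et (f741712 IH) (Lpn v15812))))))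
theorem f881543 : Led Lsl_gf (LP (LK LD1_c9 LD2_c51 LD3_c5)) = v35989 :=
  Lgr Lrot134 (Lpr_df (f741713 IH) (Lpe (f741714 IH) (Lpr_gt (K32.f59438 IH) (Lpr_ef (f744460 IH) (Lpe (f744459 IH) (Lpe (K54.f599814 IH) (Lpr_df (f164403 IH) (Lpr_et (f599787 IH) (Lpr_gt (f334645 IH) (Lpr_dt (f881541 IH) (Lpn v35989)))))))))))
theorem f881542 : Led Lsl_df (LP (LK LD1_c8 LD2_c14 LD3_c56)) = v35989 :=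
  Lgr Lrot38 (Lpr_dt (f881541 IH) (Lpn v35989))
theorem f22443 : Led Lsl_et (LP (LK LD1_c2 LD2_c58 LD3_c8)) = (LP (LK LD1_c1 LD2_c24 LD3_c44)) :=
  Lre_e IH (LK LD1_c2 LD2_c58 LD3_c8) (LK LD1_c1 LD2_c24 LD3_c44) Lrfl Lrfl
theorem f501216 : Led Lsl_df (LP (LK LD1_c1 LD2_c28 LD3_c57)) = K41.v1741 :=
  Lgr Lrot84 (Lpe (K16.f172128 IH) (Lpe (K10.f59133 IH) (Lpe (K9.f59116 IH) (Lpe (K9.f59117 IH) (Lpe (K9.f58971 IH) (Lpe (K9.f100644 IH) (Lpe (K9.f172121 IH) (Lpr_dt (K35.f22432 IH) (Lpr_gt (K41.f501214 IH) (Lpn K41.v1741))))))))))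
theorem f176543 : Led Lsl_gt (LP (LK LD1_c5 LD2_c0 LD3_c24)) = (LP (LK LD1_c9 LD2_c51 LD3_c8)) :=
  Lre_g IH (LK LD1_c5 LD2_c0 LD3_c24) (LK LD1_c9 LD2_c51 LD3_c8) Lrfl Lrfl
theorem f881545 : Led Lsl_ef (LP (LK LD1_c9 LD2_c51 LD3_c8)) = v35989 :=
  Lgr Lrot17 (Lpe (f176543 IH) (Lpe (K17.f176531 IH) (Lpr_dt (K10.f177683 IH) (Lpr_gf (K16.f186025 IH) (Lpr_df (f501216 IH) (Lpe (K41.f501214 IH) (Lpe (f22443 IH) (Lpr_dt (K35.f172066 IH) (Lpe (f172069 IH) (Lpr_df (f881542 IH) (Lpn v35989)))))))))))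
theorem f881547 : Led Lsl_et (LP (LK LD1_c9 LD2_c51 LD3_c8)) = v35989 :=
  Lgr Lrot87 (Lpr_ef (f881545 IH) (Lpn v35989))
theorem f176544 : Led Lsl_dt (LP (LK LD1_c9 LD2_c51 LD3_c8)) = (LP (LK LD1_c18 LD2_c2 LD3_c18)) :=
  Lre_d IH (LK LD1_c9 LD2_c51 LD3_c8) (LK LD1_c18 LD2_c2 LD3_c18) Lrfl Lrfl
theorem f225542 : Led Lsl_et (LP (LK LD1_c4 LD2_c57 LD3_c58)) = (LP (LK LD1_c9 LD2_c46 LD3_c47)) :=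
  Lre_e IH (LK LD1_c4 LD2_c57 LD3_c58) (LK LD1_c9 LD2_c46 LD3_c47) Lrfl Lrfl
theorem f896660 : Led Lsl_gf (LP (LK LD1_c9 LD2_c46 LD3_c47)) = (LP (LK LD1_c16 LD2_c49 LD3_c50)) :=
  Lgr Lrot141 (Lpe (f225542 IH) (Lpr_dt (f40908 IH) (Lpe (f424457 IH) (Lpe (K67.f380657 IH) (Lpr_et (K64.f380656 IH) (Lpr_gt (K54.f172289 IH) (Lpr_dt (K55.f225535 IH) (Lpr_gt (K69.f225536 IH) (Lpe (K69.f613578 IH) (Lpr_et (K69.f896656 IH) (Lpn (LP (LK LD1_c16 LD2_c49 LD3_c50)))))))))))))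
theorem f225539 : Led Lsl_dt (LP (LK LD1_c5 LD2_c14 LD3_c35)) = (LP (LK LD1_c9 LD2_c46 LD3_c47)) :=
  Lgr Lrot42 (Lpr_df (K54.f225537 IH) (Lpn (LP (LK LD1_c9 LD2_c46 LD3_c47))))
theorem f225541 : Led Lsl_et (LP (LK LD1_c5 LD2_c14 LD3_c35)) = (LP (LK LD1_c10 LD2_c18 LD3_c44)) :=
  Lre_e IH (LK LD1_c5 LD2_c14 LD3_c35) (LK LD1_c10 LD2_c18 LD3_c44) Lrfl Lrfl
theorem f165099 : Led Lsl_et (LP (LK LD1_c5 LD2_c7 LD3_c26)) = (LP (LK LD1_c10 LD2_c5 LD3_c17)) :=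
  Lre_e IH (LK LD1_c5 LD2_c7 LD3_c26) (LK LD1_c10 LD2_c5 LD3_c17) Lrfl Lrfl
def v14371 : LQ := Led Lsl_dt (LP (LK LD1_c5 LD2_c7 LD3_c26))
theorem f722231 : Led Lsl_dt (LP (LK LD1_c5 LD2_c7 LD3_c26)) = v14371 :=
  Lrfl
def v35990 : LQ := Led Lsl_et (LP (LK LD1_c8 LD2_c14 LD3_c56))
theorem f881548 : Led Lsl_et (LP (LK LD1_c8 LD2_c14 LD3_c56)) = v35990 :=
  Lrfl
theorem f881551 : Led Lsl_gt (LP (LK LD1_c8 LD2_c14 LD3_c58)) = v35990 :=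
  Lgr Lrot131 (Lpe (K51.f194077 IH) (Lpr_dt (K53.f633706 IH) (Lpe (K51.f633708 IH) (Lpe (f59440 IH) (Lpe (K32.f59438 IH) (Lpr_ef (f741714 IH) (Lpe (f741713 IH) (Lpr_gf (f881543 IH) (Lpe (f881541 IH) (Lpr_et (f881548 IH) (Lpn v35990)))))))))))
def v14580 : LQ := Led Lsl_dt (LP (LK LD1_c5 LD2_c14 LD3_c18))
theorem f723867 : Led Lsl_dt (LP (LK LD1_c5 LD2_c14 LD3_c18)) = v14580 :=
  Lrfl
theorem f723870 : Led Lsl_ff (LP (LK LD1_c8 LD2_c14 LD3_c58)) = v14580 :=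
  Lgr Lrot19 (Lpe (K51.f194071 IH) (Lpr_ft (K55.f633776 IH) (Lpr_dt (f723867 IH) (Lpn v14580))))
theorem f723872 : Led Lsl_ft (LP (LK LD1_c8 LD2_c14 LD3_c58)) = v14580 :=
  Lgr Lrot48 (Lpr_ff (f723870 IH) (Lpn v14580))
theorem f722232 : Led Lsl_df (LP (LK LD1_c5 LD2_c7 LD3_c26)) = v14371 :=
  Lgr Lrot38 (Lpr_dt (f722231 IH) (Lpn v14371))
theorem f723868 : Led Lsl_af v14371 = v14580 :=
  Lgr Lrot117 (Lpe (f722232 IH) (Lpr_at (K51.f633764 IH) (Lpr_dt (f723867 IH) (Lpn v14580))))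
theorem f881552 : Led Lsl_gf v14371 = v35990 :=
  Lgr Lrot76 (Lpr_af (f723868 IH) (Lpe (f723872 IH) (Lpr_gt (f881551 IH) (Lpn v35990))))
theorem f881550 : Led Lsl_ef (LP (LK LD1_c8 LD2_c14 LD3_c56)) = v35990 :=
  Lgr Lrot88 (Lpr_et (f881548 IH) (Lpn v35990))
theorem f177700 : Led Lsl_dt (LP (LK LD1_c18 LD2_c2 LD3_c18)) = (LP (LK LD1_c9 LD2_c51 LD3_c8)) :=
  Lre_d IH (LK LD1_c18 LD2_c2 LD3_c18) (LK LD1_c9 LD2_c51 LD3_c8) Lrfl Lrfl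
theorem f186673 : Led Lsl_gt (LP (LK LD1_c18 LD2_c26 LD3_c5)) = (LP (LK LD1_c10 LD2_c7 LD3_c0)) :=
  Lre_g IH (LK LD1_c18 LD2_c26 LD3_c5) (LK LD1_c10 LD2_c7 LD3_c0) Lrfl Lrfl
theorem f186674 : Led Lsl_et (LP (LK LD1_c18 LD2_c2 LD3_c18)) = (LP (LK LD1_c18 LD2_c26 LD3_c5)) :=
  Lgr Lrot121 (Lpr_dt (f177700 IH) (Lpe (f176543 IH) (Lpr_df (K36.f177692 IH) (Lpr_et (K17.f177194 IH) (Lpr_gf (K10.f186658 IH) (Lpe (K51.f186667 IH) (Lpr_dt (K51.f186668 IH) (Lpe (K51.f186669 IH) (Lpe (K51.f186670 IH) (Lpe (f186673 IH) (Lpn (LP (LK LD1_c18 LD2_c26 LD3_c5)))))))))))))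
theorem f881553 : Led Lsl_dt (LP (LK LD1_c18 LD2_c26 LD3_c5)) = v35990 :=
  Lgr Lrot77 (Lpe (f186674 IH) (Lpe (f176544 IH) (Lpr_ef (f881545 IH) (Lpe (f881541 IH) (Lpr_ef (f881550 IH) (Lpn v35990))))))
theorem f186676 : Led Lsl_ef (LP (LK LD1_c18 LD2_c2 LD3_c18)) = (LP (LK LD1_c18 LD2_c26 LD3_c5)) :=
  Lgr Lrot88 (Lpr_et (f186674 IH) (Lpn (LP (LK LD1_c18 LD2_c26 LD3_c5))))
theorem f896668 : Led Lsl_gt (LP (LK LD1_c10 LD2_c18 LD3_c44)) = (LP (LK LD1_c18 LD2_c2 LD3_c18)) :=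
  Lgr Lrot131 (Lpe (f225541 IH) (Lpr_dt (f225539 IH) (Lpr_gf (f896660 IH) (Lpe (K69.f896662 IH) (Lpr_gf (K69.f896666 IH) (Lpe (f165099 IH) (Lpr_dt (f722231 IH) (Lpr_gf (f881552 IH) (Lpe (f881553 IH) (Lpe (f186676 IH) (Lpn (LP (LK LD1_c18 LD2_c2 LD3_c18)))))))))))))
theorem f913909 : Led Lsl_df (LP (LK LD1_c10 LD2_c18 LD3_c44)) = v40112 :=
  Lgr Lrot135 (Lpr_gt (f896668 IH) (Lpe (f176544 IH) (Lpr_et (f881547 IH) (Lpe (f881543 IH) (Lpe (f413627 IH) (Lpe (K16.f413617 IH) (Lpr_gt (f627887 IH) (Lpe (f627884 IH) (Lpr_et (K35.f417043 IH) (Lpr_gt (f913907 IH) (Lpn v40112)))))))))))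
theorem f913913 : Led Lsl_gt (LP (LK LD1_c10 LD2_c7 LD3_c16)) = (LP (LK LD1_c10 LD2_c18 LD3_c44)) :=
  Lgr Lrot139 (Lpe (f414577 IH) (Lpr_gf (f334815 IH) (Lpe (f334720 IH) (Lpe (K56.f176742 IH) (Lpr_gf (f613556 IH) (Lpe (K67.f622358 IH) (Lpr_et (K67.f622360 IH) (Lpr_gf (f424457 IH) (Lpr_ef (f913912 IH) (Lpe (f913909 IH) (Lpn (LP (LK LD1_c10 LD2_c18 LD3_c44)))))))))))))
theorem f913914 : Led Lsl_gt (LP (LK LD1_c10 LD2_c7 LD3_c16)) = (LP (LK LD1_c10 LD2_c18 LD3_c44)) :=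
  Leop (Lpe (f913913 IH) (Lpn (LP (LK LD1_c10 LD2_c7 LD3_c16))))
theorem seed_2383 : LEOK LG_g (LK LD1_c10 LD2_c7 LD3_c16) :=
  Leoe_g (LK LD1_c10 LD2_c7 LD3_c16) (f913914 IH)
def v40114 : LQ := Led Lsl_at (LP (LK LD1_c9 LD2_c32 LD3_c21))
theorem f913917 : Led Lsl_at (LP (LK LD1_c9 LD2_c32 LD3_c21)) = v40114 :=
  Lrfl
theorem f414944 : Led Lsl_bt (LP (LK LD1_c9 LD2_c32 LD3_c21)) = (LP (LK LD1_c4 LD2_c49 LD3_c53)) :=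
  Lre_b IH (LK LD1_c9 LD2_c32 LD3_c21) (LK LD1_c4 LD2_c49 LD3_c53) Lrfl Lrfl
theorem f414060 : Led Lsl_bt (LP (LK LD1_c3 LD2_c21 LD3_c52)) = (LP (LK LD1_c6 LD2_c47 LD3_c28)) :=
  Lre_b IH (LK LD1_c3 LD2_c21 LD3_c52) (LK LD1_c6 LD2_c47 LD3_c28) Lrfl Lrfl
theorem f454251 : Led Lsl_ff (LP (LK LD1_c9 LD2_c32 LD3_c21)) = (LP (LK LD1_c6 LD2_c47 LD3_c28)) :=
  Lgr Lrot25 (Lpr_bt (f414944 IH) (Lpr_ft (K24.f454249 IH) (Lpr_bt (f414060 IH) (Lpn (LP (LK LD1_c6 LD2_c47 LD3_c28))))))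
theorem f417158 : Led Lsl_at (LP (LK LD1_c12 LD2_c57 LD3_c61)) = (LP (LK LD1_c6 LD2_c47 LD3_c28)) :=
  Lre_a IH (LK LD1_c12 LD2_c57 LD3_c61) (LK LD1_c6 LD2_c47 LD3_c28) Lrfl Lrfl
theorem f913921 : Led Lsl_ff (LP (LK LD1_c12 LD2_c57 LD3_c61)) = v40114 :=
  Lgr Lrot30 (Lpr_at (f417158 IH) (Lpe (f454251 IH) (Lpr_at (f913917 IH) (Lpn v40114))))
theorem f913924 : Led Lsl_ft (LP (LK LD1_c12 LD2_c57 LD3_c61)) = v40114 :=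
  Lgr Lrot48 (Lpr_ff (f913921 IH) (Lpn v40114))
theorem f913918 : Led Lsl_af (LP (LK LD1_c9 LD2_c32 LD3_c21)) = v40114 :=
  Lgr Lrot0 (Lpr_at (f913917 IH) (Lpn v40114))
theorem f414996 : Led Lsl_gt (LP (LK LD1_c17 LD2_c34 LD3_c41)) = (LP (LK LD1_c9 LD2_c32 LD3_c21)) :=
  Lre_g IH (LK LD1_c17 LD2_c34 LD3_c41) (LK LD1_c9 LD2_c32 LD3_c21) Lrfl Lrfl
theorem f913927 : Led Lsl_gt (LP (LK LD1_c12 LD2_c57 LD3_c61)) = (LP (LK LD1_c17 LD2_c34 LD3_c41)) :=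
  Lgr Lrot5 (Lpr_ft (f913924 IH) (Lpe (f913918 IH) (Lpe (f414996 IH) (Lpn (LP (LK LD1_c17 LD2_c34 LD3_c41))))))
theorem f913928 : Led Lsl_gt (LP (LK LD1_c12 LD2_c57 LD3_c61)) = (LP (LK LD1_c17 LD2_c34 LD3_c41)) :=
  Leop (Lpe (f913927 IH) (Lpn (LP (LK LD1_c12 LD2_c57 LD3_c61))))
theorem seed_2384 : LEOK LG_g (LK LD1_c12 LD2_c57 LD3_c61) :=
  Leoe_g (LK LD1_c12 LD2_c57 LD3_c61) (f913928 IH)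
def v40120 : LQ := Led Lsl_ct (LP (LK LD1_c9 LD2_c32 LD3_c23))
theorem f913958 : Led Lsl_ct (LP (LK LD1_c9 LD2_c32 LD3_c23)) = v40120 :=
  Lrfl
theorem f416318 : Led Lsl_et (LP (LK LD1_c16 LD2_c51 LD3_c31)) = (LP (LK LD1_c9 LD2_c1 LD3_c34)) :=
  Lre_e IH (LK LD1_c16 LD2_c51 LD3_c31) (LK LD1_c9 LD2_c1 LD3_c34) Lrfl Lrfl
def v15493 : LQ := Led Lsl_et (LP (LK LD1_c5 LD2_c40 LD3_c46))
theorem f737756 : Led Lsl_et (LP (LK LD1_c5 LD2_c40 LD3_c46)) = v15493 :=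
  Lrfl
theorem f823855 : Led Lsl_af (LP (LK LD1_c16 LD2_c51 LD3_c31)) = v15493 :=
  Lgr Lrot50 (Lpr_et (f416318 IH) (Lpq (K69.f823832 IH) (Lpe (K54.f737741 IH) (Lpr_et (f737756 IH) (Lpn v15493)))))
theorem f55558 : Led Lsl_dt (LP (LK LD1_c15 LD2_c27 LD3_c13)) = (LP (LK LD1_c8 LD2_c12 LD3_c57)) :=
  Lre_d IH (LK LD1_c15 LD2_c27 LD3_c13) (LK LD1_c8 LD2_c12 LD3_c57) Lrfl Lrfl
theorem f751707 : Led Lsl_af (LP (LK LD1_c15 LD2_c27 LD3_c13)) = (LP (LK LD1_c15 LD2_c30 LD3_c48)) :=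
  Lgr Lrot117 (Lpr_dt (f55558 IH) (Lpr_at (K57.f751703 IH) (Lpr_dt (K57.f55738 IH) (Lpn (LP (LK LD1_c15 LD2_c30 LD3_c48))))))
theorem f55559 : Led Lsl_dt (LP (LK LD1_c8 LD2_c12 LD3_c57)) = (LP (LK LD1_c15 LD2_c27 LD3_c13)) :=
  Lre_d IH (LK LD1_c8 LD2_c12 LD3_c57) (LK LD1_c15 LD2_c27 LD3_c13) Lrfl Lrfl
theorem f55727 : Led Lsl_dt (LP (LK LD1_c15 LD2_c30 LD3_c46)) = (LP (LK LD1_c8 LD2_c14 LD3_c61)) :=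
  Lre_d IH (LK LD1_c15 LD2_c30 LD3_c46) (LK LD1_c8 LD2_c14 LD3_c61) Lrfl Lrfl
theorem f751699 : Led Lsl_ft (LP (LK LD1_c15 LD2_c27 LD3_c13)) = (LP (LK LD1_c15 LD2_c30 LD3_c46)) :=
  Lgr Lrot54 (Lpe (f55559 IH) (Lpr_ff (K57.f751692 IH) (Lpe (f55727 IH) (Lpn (LP (LK LD1_c15 LD2_c30 LD3_c46))))))
theorem f751723 : Led Lsl_af (LP (LK LD1_c15 LD2_c27 LD3_c12)) = (LP (LK LD1_c15 LD2_c30 LD3_c46)) :=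
  Lgr Lrot45 (Lpr_ft (K57.f751721 IH) (Lpe (f751707 IH) (Lpr_ft (f751699 IH) (Lpn (LP (LK LD1_c15 LD2_c30 LD3_c46))))))
theorem f751756 : Led Lsl_at (LP (LK LD1_c15 LD2_c27 LD3_c12)) = (LP (LK LD1_c15 LD2_c30 LD3_c46)) :=
  Lgr Lrot100 (Lpr_af (f751723 IH) (Lpn (LP (LK LD1_c15 LD2_c30 LD3_c46))))
theorem f55784 : Led Lsl_dt (LP (LK LD1_c15 LD2_c27 LD3_c12)) = (LP (LK LD1_c8 LD2_c12 LD3_c56)) :=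
  Lre_d IH (LK LD1_c15 LD2_c27 LD3_c12) (LK LD1_c8 LD2_c12 LD3_c56) Lrfl Lrfl
theorem f751715 : Led Lsl_ff (LP (LK LD1_c15 LD2_c27 LD3_c12)) = (LP (LK LD1_c15 LD2_c30 LD3_c48)) :=
  Lgr Lrot19 (Lpr_dt (f55784 IH) (Lpr_ft (K57.f751711 IH) (Lpr_dt (K57.f55738 IH) (Lpn (LP (LK LD1_c15 LD2_c30 LD3_c48))))))
theorem f751709 : Led Lsl_at (LP (LK LD1_c15 LD2_c27 LD3_c13)) = (LP (LK LD1_c15 LD2_c30 LD3_c48)) :=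
  Lgr Lrot100 (Lpr_af (f751707 IH) (Lpn (LP (LK LD1_c15 LD2_c30 LD3_c48))))
theorem f751760 : Led Lsl_ff (LP (LK LD1_c15 LD2_c27 LD3_c13)) = (LP (LK LD1_c15 LD2_c30 LD3_c46)) :=
  Lgr Lrot30 (Lpr_at (f751709 IH) (Lpe (f751715 IH) (Lpr_at (f751756 IH) (Lpn (LP (LK LD1_c15 LD2_c30 LD3_c46))))))
theorem f495695 : Led Lsl_et (LP (LK LD1_c5 LD2_c39 LD3_c60)) = (LP (LK LD1_c2 LD2_c45 LD3_c57)) :=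
  Lre_e IH (LK LD1_c5 LD2_c39 LD3_c60) (LK LD1_c2 LD2_c45 LD3_c57) Lrfl Lrfl
theorem f380640 : Led Lsl_dt (LP (LK LD1_c9 LD2_c1 LD3_c34)) = (LP (LK LD1_c4 LD2_c31 LD3_c51)) :=
  Lre_d IH (LK LD1_c9 LD2_c1 LD3_c34) (LK LD1_c4 LD2_c31 LD3_c51) Lrfl Lrfl
theorem f380642 : Led Lsl_et (LP (LK LD1_c9 LD2_c1 LD3_c34)) = (LP (LK LD1_c16 LD2_c51 LD3_c31)) :=
  Lre_e IH (LK LD1_c9 LD2_c1 LD3_c34) (LK LD1_c16 LD2_c51 LD3_c31) Lrfl Lrfl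
theorem f613414 : Led Lsl_gf (LP (LK LD1_c15 LD2_c30 LD3_c48)) = (LP (LK LD1_c16 LD2_c51 LD3_c31)) :=
  Lgr Lrot138 (Lpr_dt (K57.f55741 IH) (Lpr_gt (K57.f55735 IH) (Lpr_df (K67.f553622 IH) (Lpr_et (f495695 IH) (Lpq (K40.f537930 IH) (Lpe (K40.f496019 IH) (Lpqs (K37.f537458 IH) (Lpe (K24.f379927 IH) (Lpr_dt (K57.f613353 IH) (Lpr_gt (K69.f168860 IH) (Lpe (f380640 IH) (Lpr_et (f380642 IH) (Lpn (LP (LK LD1_c16 LD2_c51 LD3_c31)))))))))))))))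
theorem f751764 : Led Lsl_gf (LP (LK LD1_c16 LD2_c51 LD3_c31)) = (LP (LK LD1_c15 LD2_c30 LD3_c46)) :=
  Lgr Lrot47 (Lpe (f613414 IH) (Lpe (f751709 IH) (Lpr_ff (f751760 IH) (Lpn (LP (LK LD1_c15 LD2_c30 LD3_c46))))))
theorem f414470 : Led Lsl_gt (LP (LK LD1_c4 LD2_c49 LD3_c54)) = (LP (LK LD1_c9 LD2_c32 LD3_c23)) :=
  Lre_g IH (LK LD1_c4 LD2_c49 LD3_c54) (LK LD1_c9 LD2_c32 LD3_c23) Lrfl Lrfl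
theorem f418714 : Led Lsl_gt (LP (LK LD1_c9 LD2_c0 LD3_c20)) = (LP (LK LD1_c4 LD2_c31 LD3_c9)) :=
  Lre_g IH (LK LD1_c9 LD2_c0 LD3_c20) (LK LD1_c4 LD2_c31 LD3_c9) Lrfl Lrfl
theorem f613560 : Led Lsl_dt (LP (LK LD1_c9 LD2_c32 LD3_c23)) = (LP (LK LD1_c9 LD2_c0 LD3_c20)) :=
  Lgr Lrot171 (Lpe (f414470 IH) (Lpe (K24.f414469 IH) (Lpr_dt (K24.f413682 IH) (Lpe (K17.f414445 IH) (Lpe (K2.f73703 IH) (Lpr_et (K56.f100726 IH) (Lpe (K11.f186148 IH) (Lpe (K60.f186155 IH) (Lpr_dt (K56.f613546 IH) (Lpe (f418714 IH) (Lpn (LP (LK LD1_c9 LD2_c0 LD3_c20)))))))))))))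
theorem f613563 : Led Lsl_df (LP (LK LD1_c9 LD2_c32 LD3_c23)) = (LP (LK LD1_c9 LD2_c0 LD3_c20)) :=
  Lgr Lrot38 (Lpr_dt (f613560 IH) (Lpn (LP (LK LD1_c9 LD2_c0 LD3_c20))))
theorem f613565 : Led Lsl_et (LP (LK LD1_c9 LD2_c0 LD3_c20)) = (LP (LK LD1_c16 LD2_c49 LD3_c47)) :=
  Lre_e IH (LK LD1_c9 LD2_c0 LD3_c20) (LK LD1_c16 LD2_c49 LD3_c47) Lrfl Lrfl
theorem f613570 : Led Lsl_gf (LP (LK LD1_c15 LD2_c30 LD3_c46)) = (LP (LK LD1_c16 LD2_c49 LD3_c47)) :=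
  Lgr Lrot138 (Lpr_dt (f55727 IH) (Lpe (K57.f55725 IH) (Lpr_df (K17.f172204 IH) (Lpe (K56.f172202 IH) (Lpe (K16.f413537 IH) (Lpe (K24.f415239 IH) (Lpe (K24.f415254 IH) (Lpr_gt (f414470 IH) (Lpr_df (f613563 IH) (Lpr_et (f613565 IH) (Lpn (LP (LK LD1_c16 LD2_c49 LD3_c47)))))))))))))
theorem f823858 : Led Lsl_ft (LP (LK LD1_c16 LD2_c49 LD3_c47)) = v15493 :=
  Lgr Lrot2 (Lpe (f613570 IH) (Lpe (f751764 IH) (Lpr_af (f823855 IH) (Lpn v15493))))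
theorem f823861 : Led Lsl_ff (LP (LK LD1_c16 LD2_c49 LD3_c47)) = v15493 :=
  Lgr Lrot3 (Lpr_ft (f823858 IH) (Lpn v15493))
theorem f172219 : Led Lsl_et (LP (LK LD1_c5 LD2_c40 LD3_c56)) = (LP (LK LD1_c2 LD2_c46 LD3_c24)) :=
  Lre_e IH (LK LD1_c5 LD2_c40 LD3_c56) (LK LD1_c2 LD2_c46 LD3_c24) Lrfl Lrfl
theorem f737758 : Led Lsl_gf (LP (LK LD1_c15 LD2_c27 LD3_c13)) = v15493 :=
  Lgr Lrot138 (Lpr_dt (f55558 IH) (Lpr_gt (K53.f55557 IH) (Lpr_df (K53.f172162 IH) (Lpr_et (f172219 IH) (Lpr_gt (K9.f22415 IH) (Lpe (K57.f172287 IH) (Lpr_dt (K54.f172288 IH) (Lpr_gt (K49.f172311 IH) (Lpe (K69.f380664 IH) (Lpr_et (f737756 IH) (Lpn v15493)))))))))))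
theorem f553641 : Led Lsl_ef (LP (LK LD1_c5 LD2_c47 LD3_c13)) = (LP (LK LD1_c11 LD2_c10 LD3_c54)) :=
  Lgr Lrot88 (Lpr_et (K53.f553635 IH) (Lpn (LP (LK LD1_c11 LD2_c10 LD3_c54))))
theorem f413650 : Led Lsl_gt (LP (LK LD1_c3 LD2_c21 LD3_c30)) = (LP (LK LD1_c6 LD2_c46 LD3_c41)) :=
  Lre_g IH (LK LD1_c3 LD2_c21 LD3_c30) (LK LD1_c6 LD2_c46 LD3_c41) Lrfl Lrfl
theorem f176738 : Led Lsl_df (LP (LK LD1_c6 LD2_c9 LD3_c10)) = (LP (LK LD1_c5 LD2_c0 LD3_c26)) :=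
  Lgr Lrot38 (Lpr_dt (K36.f176733 IH) (Lpn (LP (LK LD1_c5 LD2_c0 LD3_c26))))
theorem f414097 : Led Lsl_dt (LP (LK LD1_c6 LD2_c46 LD3_c41)) = (LP (LK LD1_c11 LD2_c59 LD3_c27)) :=
  Lgr Lrot171 (Lpe (f413650 IH) (Lpe (K54.f413938 IH) (Lpr_dt (K17.f413452 IH) (Lpr_gf (K17.f414081 IH) (Lpe (K17.f73771 IH) (Lpr_et (K17.f101468 IH) (Lpe (K9.f26578 IH) (Lpe (K36.f101581 IH) (Lpe (f176738 IH) (Lpe (K56.f176745 IH) (Lpn (LP (LK LD1_c11 LD2_c59 LD3_c27)))))))))))))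
theorem f414100 : Led Lsl_df (LP (LK LD1_c6 LD2_c46 LD3_c41)) = (LP (LK LD1_c11 LD2_c59 LD3_c27)) :=
  Lgr Lrot38 (Lpr_dt (f414097 IH) (Lpn (LP (LK LD1_c11 LD2_c59 LD3_c27))))
theorem f414102 : Led Lsl_et (LP (LK LD1_c11 LD2_c59 LD3_c27)) = (LP (LK LD1_c21 LD2_c4 LD3_c9)) :=
  Lre_e IH (LK LD1_c11 LD2_c59 LD3_c27) (LK LD1_c21 LD2_c4 LD3_c9) Lrfl Lrfl
theorem f553643 : Led Lsl_gt (LP (LK LD1_c21 LD2_c4 LD3_c9)) = (LP (LK LD1_c15 LD2_c27 LD3_c12)) :=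
  Lgr Lrot137 (Lpe (f414102 IH) (Lpe (f414100 IH) (Lpe (f413650 IH) (Lpe (K57.f413649 IH) (Lpr_et (K57.f413648 IH) (Lpr_gf (K16.f413636 IH) (Lpr_ef (f553641 IH) (Lpe (K53.f553625 IH) (Lpe (K53.f55782 IH) (Lpe (f55784 IH) (Lpn (LP (LK LD1_c15 LD2_c27 LD3_c12)))))))))))))
theorem f751758 : Led Lsl_gf (LP (LK LD1_c21 LD2_c4 LD3_c9)) = (LP (LK LD1_c15 LD2_c27 LD3_c13)) :=
  Lgr Lrot47 (Lpr_gt (f553643 IH) (Lpr_af (f751723 IH) (Lpe (f751699 IH) (Lpn (LP (LK LD1_c15 LD2_c27 LD3_c13))))))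
theorem f823864 : Led Lsl_at (LP (LK LD1_c16 LD2_c49 LD3_c47)) = (LP (LK LD1_c21 LD2_c4 LD3_c9)) :=
  Lgr Lrot26 (Lpr_ff (f823861 IH) (Lpe (f737758 IH) (Lpe (f751758 IH) (Lpn (LP (LK LD1_c21 LD2_c4 LD3_c9))))))
theorem f823856 : Led Lsl_at (LP (LK LD1_c16 LD2_c51 LD3_c31)) = v15493 :=
  Lgr Lrot100 (Lpr_af (f823855 IH) (Lpn v15493))
theorem f823870 : Led Lsl_ff (LP (LK LD1_c16 LD2_c51 LD3_c31)) = (LP (LK LD1_c21 LD2_c4 LD3_c9)) :=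
  Lgr Lrot30 (Lpr_at (f823856 IH) (Lpe (f823861 IH) (Lpr_at (f823864 IH) (Lpn (LP (LK LD1_c21 LD2_c4 LD3_c9))))))
theorem f823876 : Led Lsl_ft (LP (LK LD1_c16 LD2_c51 LD3_c31)) = (LP (LK LD1_c21 LD2_c4 LD3_c9)) :=
  Lgr Lrot48 (Lpr_ff (f823870 IH) (Lpn (LP (LK LD1_c21 LD2_c4 LD3_c9))))
theorem f622362 : Led Lsl_ef (LP (LK LD1_c5 LD2_c40 LD3_c48)) = (LP (LK LD1_c9 LD2_c0 LD3_c19)) :=
  Lgr Lrot17 (Lpe (K57.f413484 IH) (Lpe (K54.f413483 IH) (Lpr_dt (K24.f413482 IH) (Lpr_gf (K16.f413459 IH) (Lpe (K17.f61428 IH) (Lpr_gf (K24.f415244 IH) (Lpe (K24.f415239 IH) (Lpe (K24.f415254 IH) (Lpe (K67.f415269 IH) (Lpr_df (K67.f622353 IH) (Lpn (LP (LK LD1_c9 LD2_c0 LD3_c19)))))))))))))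
theorem f176749 : Led Lsl_et (LP (LK LD1_c21 LD2_c4 LD3_c9)) = (LP (LK LD1_c11 LD2_c59 LD3_c27)) :=
  Lre_e IH (LK LD1_c21 LD2_c4 LD3_c9) (LK LD1_c11 LD2_c59 LD3_c27) Lrfl Lrfl
theorem f823880 : Led Lsl_ff (LP (LK LD1_c9 LD2_c0 LD3_c19)) = (LP (LK LD1_c11 LD2_c59 LD3_c27)) :=
  Lgr Lrot72 (Lpe (f622362 IH) (Lpr_ft (K54.f737744 IH) (Lpqs (K69.f823832 IH) (Lpr_et (f380642 IH) (Lpr_ft (f823876 IH) (Lpr_et (f176749 IH) (Lpn (LP (LK LD1_c11 LD2_c59 LD3_c27)))))))))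
def v19794 : LQ := Led Lsl_ft (LP (LK LD1_c6 LD2_c46 LD3_c41))
theorem f782160 : Led Lsl_ft (LP (LK LD1_c6 LD2_c46 LD3_c41)) = v19794 :=
  Lrfl
theorem f782162 : Led Lsl_ff (LP (LK LD1_c6 LD2_c46 LD3_c41)) = v19794 :=
  Lgr Lrot3 (Lpr_ft (f782160 IH) (Lpn v19794))
theorem f823886 : (LP (LK LD1_c9 LD2_c32 LD3_c24)) = v19794 :=
  (Llr Lrot60 (Lpr_df (K67.f622353 IH) (Lpr_ff (f823880 IH) (Lpe (f414097 IH) (Lpr_ff (f782162 IH) (Lpn v19794)))))).symm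
def v19792 : LQ := Led Lsl_at (LP (LK LD1_c6 LD2_c46 LD3_c41))
theorem f782154 : Led Lsl_at (LP (LK LD1_c6 LD2_c46 LD3_c41)) = v19792 :=
  Lrfl
theorem f823906 : v19792 = (LP (LK LD1_c9 LD2_c32 LD3_c23)) :=
  (Llr Lrot26 (Lpe (f782154 IH) (Lpr_ff (f782162 IH) (Lpq (f823886 IH) (Lpr_gt (K67.f415269 IH) (Lpr_gt (f414470 IH) (Lpn (LP (LK LD1_c9 LD2_c32 LD3_c23))))))))).symm
theorem f782155 : Led Lsl_af (LP (LK LD1_c6 LD2_c46 LD3_c41)) = v19792 :=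
  Lgr Lrot0 (Lpr_at (f782154 IH) (Lpn v19792))
theorem f782156 : Led Lsl_ft (LP (LK LD1_c6 LD2_c46 LD3_c42)) = v19792 :=
  Lgr Lrot2 (Lpr_gt (K57.f413939 IH) (Lpr_gt (f413650 IH) (Lpr_af (f782155 IH) (Lpn v19792))))
theorem f416398 : Led Lsl_ct (LP (LK LD1_c12 LD2_c56 LD3_c42)) = (LP (LK LD1_c6 LD2_c46 LD3_c42)) :=
  Lre_c IH (LK LD1_c12 LD2_c56 LD3_c42) (LK LD1_c6 LD2_c46 LD3_c42) Lrfl Lrfl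
theorem f913962 : Led Lsl_ff (LP (LK LD1_c12 LD2_c56 LD3_c42)) = v40120 :=
  Lgr Lrot23 (Lpr_ct (f416398 IH) (Lpr_ft (f782156 IH) (Lpqs (f823906 IH) (Lpr_ct (f913958 IH) (Lpn v40120)))))
theorem f913963 : Led Lsl_ft (LP (LK LD1_c12 LD2_c56 LD3_c42)) = v40120 :=
  Lgr Lrot48 (Lpr_ff (f913962 IH) (Lpn v40120))
def v19793 : LQ := Led Lsl_ct (LP (LK LD1_c6 LD2_c46 LD3_c41))
theorem f782158 : Led Lsl_ct (LP (LK LD1_c6 LD2_c46 LD3_c41)) = v19793 :=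
  Lrfl
theorem f782159 : Led Lsl_cf (LP (LK LD1_c6 LD2_c46 LD3_c41)) = v19793 :=
  Lgr Lrot11 (Lpr_ct (f782158 IH) (Lpn v19793))
theorem f913959 : Led Lsl_af v19793 = v40120 :=
  Lgr Lrot68 (Lpe (f782159 IH) (Lpr_at (f782154 IH) (Lpqs (f823906 IH) (Lpr_ct (f913958 IH) (Lpn v40120)))))
def v40042 : LQ := Led Lsl_ft (LP (LK LD1_c9 LD2_c31 LD3_c25))
theorem f912995 : Led Lsl_ft (LP (LK LD1_c9 LD2_c31 LD3_c25)) = v40042 :=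
  Lrfl
def v40039 : LQ := Led Lsl_gt (LP (LK LD1_c9 LD2_c31 LD3_c25))
theorem f912986 : Led Lsl_gt (LP (LK LD1_c9 LD2_c31 LD3_c25)) = v40039 :=
  Lrfl
def v19661 : LQ := Led Lsl_ft (LP (LK LD1_c6 LD2_c45 LD3_c33))
theorem f781563 : Led Lsl_ft (LP (LK LD1_c6 LD2_c45 LD3_c33)) = v19661 :=
  Lrfl
theorem f781565 : Led Lsl_ff (LP (LK LD1_c6 LD2_c45 LD3_c33)) = v19661 :=
  Lgr Lrot3 (Lpr_ft (f781563 IH) (Lpn v19661))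
theorem f912996 : Led Lsl_af v19661 = v40042 :=
  Lgr Lrot45 (Lpe (f781565 IH) (Lpr_at (K35.f509970 IH) (Lpr_ft (f912995 IH) (Lpn v40042))))
def v38065 : LQ := Led Lsl_ct (LP (LK LD1_c9 LD2_c4 LD3_c37))
theorem f898979 : Led Lsl_ct (LP (LK LD1_c9 LD2_c4 LD3_c37)) = v38065 :=
  Lrfl
def v15683 : LQ := Led Lsl_ct (LP (LK LD1_c5 LD2_c45 LD3_c18))
theorem f740917 : Led Lsl_ct (LP (LK LD1_c5 LD2_c45 LD3_c18)) = v15683 :=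
  Lrfl
theorem f740918 : Led Lsl_cf (LP (LK LD1_c5 LD2_c45 LD3_c18)) = v15683 :=
  Lgr Lrot11 (Lpr_ct (f740917 IH) (Lpn v15683))
theorem f898982 : Led Lsl_ff v15683 = v38065 :=
  Lgr Lrot23 (Lpe (f740918 IH) (Lpr_ft (K69.f740921 IH) (Lpq (K69.f897656 IH) (Lpr_ct (f898979 IH) (Lpn v38065)))))
theorem f898984 : Led Lsl_ft v15683 = v38065 :=
  Lgr Lrot48 (Lpr_ff (f898982 IH) (Lpn v38065))
theorem f740914 : Led Lsl_ff (LP (LK LD1_c5 LD2_c45 LD3_c20)) = K69.v15682 :=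
  Lgr Lrot3 (Lpr_ft (K69.f740913 IH) (Lpn K69.v15682))
theorem f740925 : Led Lsl_at (LP (LK LD1_c5 LD2_c45 LD3_c20)) = K69.v15685 :=
  Lgr Lrot66 (Lpr_ff (f740914 IH) (Lpe (K69.f740909 IH) (Lpr_ff (K69.f740924 IH) (Lpn K69.v15685))))
def v15690 : LQ := Led Lsl_ct (LP (LK LD1_c5 LD2_c45 LD3_c20))
theorem f740953 : Led Lsl_ct (LP (LK LD1_c5 LD2_c45 LD3_c20)) = v15690 :=
  Lrfl
theorem f740954 : Led Lsl_cf (LP (LK LD1_c5 LD2_c45 LD3_c20)) = v15690 :=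
  Lgr Lrot11 (Lpr_ct (f740953 IH) (Lpn v15690))
theorem f898980 : Led Lsl_af v15690 = v38065 :=
  Lgr Lrot68 (Lpe (f740954 IH) (Lpr_at (f740925 IH) (Lpq (K69.f897656 IH) (Lpr_ct (f898979 IH) (Lpn v38065)))))
def v26225 : LQ := Led Lsl_ct K54.v6418
theorem f832673 : Led Lsl_ct K54.v6418 = v26225 :=
  Lrfl
theorem f718976 : Led Lsl_ff (LP (LK LD1_c4 LD2_c57 LD3_c56)) = K54.v14097 :=
  Lgr Lrot3 (Lpr_ft (K54.f718973 IH) (Lpn K54.v14097))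
theorem f718978 : Led Lsl_et (LP (LK LD1_c11 LD2_c31 LD3_c13)) = K54.v14097 :=
  Lgr Lrot69 (Lpe (K55.f640797 IH) (Lpe (K41.f416039 IH) (Lpe (K32.f503765 IH) (Lpe (K69.f168874 IH) (Lpr_ff (f718976 IH) (Lpn K54.v14097))))))
theorem f718979 : Led Lsl_gf (LP (LK LD1_c5 LD2_c38 LD3_c31)) = K54.v14097 :=
  Lgr Lrot138 (Lpe (K69.f613394 IH) (Lpr_gt (K69.f390231 IH) (Lpr_df (K69.f613392 IH) (Lpr_et (K24.f165001 IH) (Lpe (K20.f319448 IH) (Lpe (K41.f319455 IH) (Lpr_dt (K41.f615432 IH) (Lpr_gt (K41.f22788 IH) (Lpe (K55.f496493 IH) (Lpr_et (f718978 IH) (Lpn K54.v14097)))))))))))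
theorem f735978 : Led Lsl_gt (LP (LK LD1_c5 LD2_c38 LD3_c30)) = K54.v6418 :=
  Lgr Lrot112 (Lpe (K65.f319363 IH) (Lpr_et (K69.f613402 IH) (Lpr_gf (f718979 IH) (Lpe (f718978 IH) (Lpr_dt (K55.f496493 IH) (Lpe (K41.f22788 IH) (Lpe (K41.f615432 IH) (Lpe (K46.f319507 IH) (Lpr_ef (K54.f735974 IH) (Lpe (K54.f735973 IH) (Lpn K54.v6418)))))))))))
theorem f319362 : Led Lsl_dt (LP (LK LD1_c5 LD2_c38 LD3_c30)) = (LP (LK LD1_c2 LD2_c45 LD3_c6)) :=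
  Lre_d IH (LK LD1_c5 LD2_c38 LD3_c30) (LK LD1_c2 LD2_c45 LD3_c6) Lrfl Lrfl
theorem f698147 : Led Lsl_gf (LP (LK LD1_c5 LD2_c34 LD3_c43)) = K56.v12778 :=
  Lgr Lrot47 (Lpr_gt (K56.f179314 IH) (Lpe (K20.f319322 IH) (Lpr_ff (K56.f698142 IH) (Lpn K56.v12778))))
theorem f832676 : Led Lsl_gf v15690 = v26225 :=
  Lgr Lrot104 (Lpe (f740954 IH) (Lpe (K69.f193895 IH) (Lpq (K56.f750544 IH) (Lpe (K56.f733199 IH) (Lpr_gf (f698147 IH) (Lpe (K56.f698145 IH) (Lpr_gf (K69.f319360 IH) (Lpe (f319362 IH) (Lpr_gt (f735978 IH) (Lpr_ct (f832673 IH) (Lpn v26225)))))))))))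
theorem f898985 : Led Lsl_gt v15683 = v26225 :=
  Lgr Lrot5 (Lpr_ft (f898984 IH) (Lpe (f898980 IH) (Lpr_gf (f832676 IH) (Lpn v26225))))
theorem f897797 : Led Lsl_af (LP (LK LD1_c22 LD2_c4 LD3_c30)) = (LP (LK LD1_c12 LD2_c54 LD3_c57)) :=
  Lgr Lrot0 (Lpr_at (K69.f897795 IH) (Lpn (LP (LK LD1_c12 LD2_c54 LD3_c57))))
theorem f897834 : Led Lsl_gt (LP (LK LD1_c11 LD2_c21 LD3_c7)) = (LP (LK LD1_c12 LD2_c54 LD3_c47)) :=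
  Lgr Lrot5 (Lpr_ft (K69.f897826 IH) (Lpe (f897797 IH) (Lpe (K51.f634201 IH) (Lpn (LP (LK LD1_c12 LD2_c54 LD3_c47))))))
theorem f509969 : Led Lsl_at (LP (LK LD1_c6 LD2_c45 LD3_c20)) = (LP (LK LD1_c12 LD2_c54 LD3_c47)) :=
  Lre_a IH (LK LD1_c6 LD2_c45 LD3_c20) (LK LD1_c12 LD2_c54 LD3_c47) Lrfl Lrfl
theorem f510298 : Led Lsl_ft (LP (LK LD1_c12 LD2_c54 LD3_c60)) = (LP (LK LD1_c6 LD2_c45 LD3_c20)) :=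
  Lre_f IH (LK LD1_c12 LD2_c54 LD3_c60) (LK LD1_c6 LD2_c45 LD3_c20) Lrfl Lrfl
theorem f897836 : Led Lsl_gf (LP (LK LD1_c11 LD2_c21 LD3_c7)) = (LP (LK LD1_c12 LD2_c54 LD3_c60)) :=
  Lgr Lrot47 (Lpr_gt (f897834 IH) (Lpe (f509969 IH) (Lpe (f510298 IH) (Lpn (LP (LK LD1_c12 LD2_c54 LD3_c60))))))
theorem f509955 : Led Lsl_bt (LP (LK LD1_c6 LD2_c45 LD3_c37)) = (LP (LK LD1_c12 LD2_c54 LD3_c60)) :=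
  Lre_b IH (LK LD1_c6 LD2_c45 LD3_c37) (LK LD1_c12 LD2_c54 LD3_c60) Lrfl Lrfl
theorem f23987 : Led Lsl_ct (LP (LK LD1_c6 LD2_c45 LD3_c33)) = (LP (LK LD1_c3 LD2_c20 LD3_c50)) :=
  Lre_c IH (LK LD1_c6 LD2_c45 LD3_c33) (LK LD1_c3 LD2_c20 LD3_c50) Lrfl Lrfl
theorem f781566 : Led Lsl_ct (LP (LK LD1_c6 LD2_c45 LD3_c37)) = v19661 :=
  Lgr Lrot40 (Lpe (K35.f509405 IH) (Lpe (f23987 IH) (Lpr_ff (f781565 IH) (Lpn v19661))))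
theorem f898986 : Led Lsl_gf v19661 = v19793 :=
  Lgr Lrot129 (Lpe (f781566 IH) (Lpr_bt (f509955 IH) (Lpe (f897836 IH) (Lpe (K69.f740916 IH) (Lpr_ct (f740917 IH) (Lpr_gt (f898985 IH) (Lpe (f832673 IH) (Lpe (K65.f653269 IH) (Lpr_gt (f413650 IH) (Lpr_ct (f782158 IH) (Lpn v19793)))))))))))
theorem f913000 : v40039 = v19793 :=
  (Llr Lrot5 (Lpe (f912986 IH) (Lpr_ft (f912995 IH) (Lpe (f912996 IH) (Lpr_gf (f898986 IH) (Lpn v19793)))))).symm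
def v40040 : LQ := Led Lsl_gf (LP (LK LD1_c9 LD2_c31 LD3_c25))
theorem f912989 : Led Lsl_gf (LP (LK LD1_c9 LD2_c31 LD3_c25)) = v40040 :=
  Lrfl
theorem f913965 : (LP (LK LD1_c12 LD2_c56 LD3_c42)) = v40040 :=
  (Llr Lrot52 (Lpr_ft (f913963 IH) (Lpe (f913959 IH) (Lpq (f913000 IH) (Lpe (f912986 IH) (Lpr_gf (f912989 IH) (Lpn v40040))))))).symm
theorem f913966 : Led Lsl_gt (LP (LK LD1_c12 LD2_c56 LD3_c42)) = (LP (LK LD1_c9 LD2_c31 LD3_c25)) :=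
  Leop (Lpr_gf (f912989 IH) (Lpq (f913965 IH) (Lpn (LP (LK LD1_c12 LD2_c56 LD3_c42)))))
theorem seed_2385 : LEOK LG_g (LK LD1_c12 LD2_c56 LD3_c42) :=
  Leoe_g (LK LD1_c12 LD2_c56 LD3_c42) (f913966 IH)
def v40122 : LQ := Led Lsl_bt (LP (LK LD1_c9 LD2_c32 LD3_c26))
theorem f913977 : Led Lsl_bt (LP (LK LD1_c9 LD2_c32 LD3_c26)) = v40122 :=
  Lrfl
theorem f414546 : Led Lsl_bt (LP (LK LD1_c12 LD2_c58 LD3_c0)) = (LP (LK LD1_c6 LD2_c47 LD3_c32)) :=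
  Lre_b IH (LK LD1_c12 LD2_c58 LD3_c0) (LK LD1_c6 LD2_c47 LD3_c32) Lrfl Lrfl
theorem f913980 : Led Lsl_ff (LP (LK LD1_c12 LD2_c58 LD3_c0)) = v40122 :=
  Lgr Lrot25 (Lpr_bt (f414546 IH) (Lpq (K55.f742107 IH) (Lpr_ft (K55.f742087 IH) (Lpr_bt (f913977 IH) (Lpn v40122)))))
theorem f913983 : Led Lsl_ft (LP (LK LD1_c12 LD2_c58 LD3_c0)) = v40122 :=
  Lgr Lrot48 (Lpr_ff (f913980 IH) (Lpn v40122))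
theorem f414589 : Led Lsl_bt (LP (LK LD1_c6 LD2_c47 LD3_c32)) = (LP (LK LD1_c12 LD2_c58 LD3_c0)) :=
  Lre_b IH (LK LD1_c6 LD2_c47 LD3_c32) (LK LD1_c12 LD2_c58 LD3_c0) Lrfl Lrfl
theorem f743543 : Led Lsl_ef (LP (LK LD1_c11 LD2_c25 LD3_c55)) = (LP (LK LD1_c12 LD2_c58 LD3_c0)) :=
  Lgr Lrot29 (Lpr_bt (K52.f57187 IH) (Lpr_et (K55.f741866 IH) (Lpqs (K55.f742107 IH) (Lpr_bt (f414589 IH) (Lpn (LP (LK LD1_c12 LD2_c58 LD3_c0)))))))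
theorem f438832 : Led Lsl_et (LP (LK LD1_c9 LD2_c12 LD3_c59)) = (LP (LK LD1_c17 LD2_c7 LD3_c27)) :=
  Lre_e IH (LK LD1_c9 LD2_c12 LD3_c59) (LK LD1_c17 LD2_c7 LD3_c27) Lrfl Lrfl
theorem f743545 : Led Lsl_ct (LP (LK LD1_c17 LD2_c7 LD3_c27)) = (LP (LK LD1_c12 LD2_c58 LD3_c0)) :=
  Lgr Lrot15 (Lpe (f438832 IH) (Lpe (K52.f438798 IH) (Lpr_ef (f743543 IH) (Lpn (LP (LK LD1_c12 LD2_c58 LD3_c0))))))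
def v19651 : LQ := Led Lsl_gf (LP (LK LD1_c6 LD2_c45 LD3_c17))
theorem f781530 : Led Lsl_gf (LP (LK LD1_c6 LD2_c45 LD3_c17)) = v19651 :=
  Lrfl
theorem f509414 : Led Lsl_gt (LP (LK LD1_c6 LD2_c45 LD3_c17)) = (LP (LK LD1_c12 LD2_c54 LD3_c51)) :=
  Lre_g IH (LK LD1_c6 LD2_c45 LD3_c17) (LK LD1_c12 LD2_c54 LD3_c51) Lrfl Lrfl
theorem f499885 : Led Lsl_dt (LP (LK LD1_c21 LD2_c30 LD3_c31)) = (LP (LK LD1_c12 LD2_c23 LD3_c31)) :=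
  Lre_d IH (LK LD1_c21 LD2_c30 LD3_c31) (LK LD1_c12 LD2_c23 LD3_c31) Lrfl Lrfl
theorem f706316 : Led Lsl_dt (LP (LK LD1_c20 LD2_c37 LD3_c33)) = (LP (LK LD1_c11 LD2_c38 LD3_c23)) :=
  Lre_d IH (LK LD1_c20 LD2_c37 LD3_c33) (LK LD1_c11 LD2_c38 LD3_c23) Lrfl Lrfl
theorem f499884 : Led Lsl_dt (LP (LK LD1_c12 LD2_c23 LD3_c31)) = (LP (LK LD1_c21 LD2_c30 LD3_c31)) :=
  Lre_d IH (LK LD1_c12 LD2_c23 LD3_c31) (LK LD1_c21 LD2_c30 LD3_c31) Lrfl Lrfl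
theorem f706460 : Led Lsl_ff (LP (LK LD1_c20 LD2_c37 LD3_c33)) = (LP (LK LD1_c21 LD2_c30 LD3_c31)) :=
  Lgr Lrot19 (Lpr_dt (f706316 IH) (Lpr_ft (K52.f706456 IH) (Lpr_dt (f499884 IH) (Lpn (LP (LK LD1_c21 LD2_c30 LD3_c31))))))
theorem f140635 : Led Lsl_dt (LP (LK LD1_c6 LD2_c12 LD3_c1)) = (LP (LK LD1_c12 LD2_c3 LD3_c47)) :=
  Lre_d IH (LK LD1_c6 LD2_c12 LD3_c1) (LK LD1_c12 LD2_c3 LD3_c47) Lrfl Lrfl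
theorem f706435 : Led Lsl_at (LP (LK LD1_c12 LD2_c3 LD3_c47)) = (LP (LK LD1_c20 LD2_c37 LD3_c33)) :=
  Lgr Lrot51 (Lpe (f140635 IH) (Lpr_af (K52.f706430 IH) (Lpe (f706316 IH) (Lpn (LP (LK LD1_c20 LD2_c37 LD3_c33))))))
theorem f706441 : Led Lsl_af (LP (LK LD1_c12 LD2_c3 LD3_c47)) = (LP (LK LD1_c20 LD2_c37 LD3_c33)) :=
  Lgr Lrot0 (Lpr_at (f706435 IH) (Lpn (LP (LK LD1_c20 LD2_c37 LD3_c33))))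
theorem f639712 : Led Lsl_dt (LP (LK LD1_c17 LD2_c12 LD3_c30)) = (LP (LK LD1_c9 LD2_c17 LD3_c21)) :=
  Lre_d IH (LK LD1_c17 LD2_c12 LD3_c30) (LK LD1_c9 LD2_c17 LD3_c21) Lrfl Lrfl
theorem f639713 : Led Lsl_ft (LP (LK LD1_c12 LD2_c3 LD3_c47)) = (LP (LK LD1_c17 LD2_c12 LD3_c30)) :=
  Lgr Lrot54 (Lpe (f140635 IH) (Lpr_ff (K52.f639709 IH) (Lpe (f639712 IH) (Lpn (LP (LK LD1_c17 LD2_c12 LD3_c30))))))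
theorem f706462 : Led Lsl_at (LP (LK LD1_c17 LD2_c12 LD3_c30)) = (LP (LK LD1_c21 LD2_c30 LD3_c31)) :=
  Lgr Lrot66 (Lpe (f639713 IH) (Lpr_af (f706441 IH) (Lpr_ff (f706460 IH) (Lpn (LP (LK LD1_c21 LD2_c30 LD3_c31))))))
theorem f140644 : Led Lsl_gt (LP (LK LD1_c12 LD2_c3 LD3_c47)) = (LP (LK LD1_c21 LD2_c9 LD3_c23)) :=
  Lre_g IH (LK LD1_c12 LD2_c3 LD3_c47) (LK LD1_c21 LD2_c9 LD3_c23) Lrfl Lrfl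
theorem f706468 : Led Lsl_gt (LP (LK LD1_c21 LD2_c9 LD3_c23)) = (LP (LK LD1_c21 LD2_c30 LD3_c31)) :=
  Lgr Lrot46 (Lpe (f140644 IH) (Lpr_ft (f639713 IH) (Lpr_at (f706462 IH) (Lpn (LP (LK LD1_c21 LD2_c30 LD3_c31))))))
theorem f141041 : Led Lsl_ct (LP (LK LD1_c6 LD2_c45 LD3_c17)) = (LP (LK LD1_c3 LD2_c20 LD3_c46)) :=
  Lre_c IH (LK LD1_c6 LD2_c45 LD3_c17) (LK LD1_c3 LD2_c20 LD3_c46) Lrfl Lrfl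
theorem f780939 : Led Lsl_df (LP (LK LD1_c21 LD2_c9 LD3_c23)) = (LP (LK LD1_c12 LD2_c54 LD3_c51)) :=
  Lgr Lrot153 (Lpr_gt (f706468 IH) (Lpr_dt (f499885 IH) (Lpe (K52.f499883 IH) (Lpr_df (K52.f559989 IH) (Lpe (K60.f706389 IH) (Lpr_df (K60.f780933 IH) (Lpe (K60.f140991 IH) (Lpe (f141041 IH) (Lpr_gt (f509414 IH) (Lpn (LP (LK LD1_c12 LD2_c54 LD3_c51))))))))))))
theorem f64558 : Led Lsl_et (LP (LK LD1_c3 LD2_c16 LD3_c44)) = (LP (LK LD1_c6 LD2_c36 LD3_c47)) :=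
  Lre_e IH (LK LD1_c3 LD2_c16 LD3_c44) (LK LD1_c6 LD2_c36 LD3_c47) Lrfl Lrfl
theorem f161890 : Led Lsl_et (LP (LK LD1_c4 LD2_c38 LD3_c28)) = (LP (LK LD1_c9 LD2_c12 LD3_c48)) :=
  Lre_e IH (LK LD1_c4 LD2_c38 LD3_c28) (LK LD1_c9 LD2_c12 LD3_c48) Lrfl Lrfl
theorem f415451 : Led Lsl_gt (LP (LK LD1_c17 LD2_c7 LD3_c17)) = (LP (LK LD1_c9 LD2_c12 LD3_c48)) :=
  Lre_g IH (LK LD1_c17 LD2_c7 LD3_c17) (LK LD1_c9 LD2_c12 LD3_c48) Lrfl Lrfl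
theorem f781150 : Led Lsl_ef (LP (LK LD1_c17 LD2_c7 LD3_c17)) = (LP (LK LD1_c12 LD2_c54 LD3_c51)) :=
  Lgr Lrot114 (Lpr_gt (f415451 IH) (Lpe (f161890 IH) (Lpe (K32.f161887 IH) (Lpr_gt (K7.f64535 IH) (Lpe (K4.f64540 IH) (Lpr_et (f64558 IH) (Lpr_gt (K65.f710045 IH) (Lpr_dt (f140635 IH) (Lpr_gt (f140644 IH) (Lpr_df (f780939 IH) (Lpn (LP (LK LD1_c12 LD2_c54 LD3_c51)))))))))))))
theorem f781152 : Led Lsl_at (LP (LK LD1_c17 LD2_c7 LD3_c27)) = (LP (LK LD1_c12 LD2_c54 LD3_c51)) :=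
  Lgr Lrot80 (Lpe (f438832 IH) (Lpr_af (K67.f743694 IH) (Lpr_ef (f781150 IH) (Lpn (LP (LK LD1_c12 LD2_c54 LD3_c51))))))
theorem f781531 : Led Lsl_ff (LP (LK LD1_c17 LD2_c7 LD3_c27)) = v19651 :=
  Lgr Lrot52 (Lpr_at (f781152 IH) (Lpe (f509414 IH) (Lpr_gf (f781530 IH) (Lpn v19651))))
theorem f913984 : Led Lsl_cf v19651 = v40122 :=
  Lgr Lrot108 (Lpe (f781531 IH) (Lpr_ct (f743545 IH) (Lpr_ft (f913983 IH) (Lpn v40122))))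
def v19652 : LQ := Led Lsl_dt (LP (LK LD1_c6 LD2_c45 LD3_c17))
theorem f781533 : Led Lsl_dt (LP (LK LD1_c6 LD2_c45 LD3_c17)) = v19652 :=
  Lrfl
theorem f141003 : Led Lsl_et (LP (LK LD1_c6 LD2_c45 LD3_c17)) = (LP (LK LD1_c3 LD2_c20 LD3_c44)) :=
  Lre_e IH (LK LD1_c6 LD2_c45 LD3_c17) (LK LD1_c3 LD2_c20 LD3_c44) Lrfl Lrfl
theorem f83036 : Led Lsl_et (LP (LK LD1_c5 LD2_c56 LD3_c42)) = (LP (LK LD1_c2 LD2_c54 LD3_c39)) :=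
  Lre_e IH (LK LD1_c5 LD2_c56 LD3_c42) (LK LD1_c2 LD2_c54 LD3_c39) Lrfl Lrfl
theorem f781536 : Led Lsl_gf (LP (LK LD1_c11 LD2_c38 LD3_c42)) = v19652 :=
  Lgr Lrot145 (Lpe (K4.f83037 IH) (Lpr_et (f83036 IH) (Lpr_gt (K4.f83029 IH) (Lpr_dt (K7.f149569 IH) (Lpr_gt (K7.f65552 IH) (Lpr_df (K8.f149669 IH) (Lpr_et (K51.f56773 IH) (Lpq (K51.f707374 IH) (Lpe (K51.f652957 IH) (Lpe (f141003 IH) (Lpr_dt (f781533 IH) (Lpn v19652))))))))))))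
theorem f119901 : Led Lsl_dt (LP (LK LD1_c11 LD2_c38 LD3_c42)) = (LP (LK LD1_c5 LD2_c56 LD3_c42)) :=
  Lre_d IH (LK LD1_c11 LD2_c38 LD3_c42) (LK LD1_c5 LD2_c56 LD3_c42) Lrfl Lrfl
theorem f913985 : Led Lsl_gf (LP (LK LD1_c20 LD2_c23 LD3_c34)) = v40122 :=
  Lgr Lrot144 (Lpe (K60.f715007 IH) (Lpr_gt (K60.f714962 IH) (Lpr_dt (K51.f589404 IH) (Lpe (K4.f119942 IH) (Lpe (f119901 IH) (Lpr_gf (f781536 IH) (Lpe (f781533 IH) (Lpr_gf (f781530 IH) (Lpr_cf (f913984 IH) (Lpn v40122))))))))))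
theorem f781156 : Led Lsl_et (LP (LK LD1_c17 LD2_c7 LD3_c17)) = (LP (LK LD1_c12 LD2_c54 LD3_c51)) :=
  Lgr Lrot87 (Lpr_ef (f781150 IH) (Lpn (LP (LK LD1_c12 LD2_c54 LD3_c51))))
theorem f654420 : Led Lsl_ct (LP (LK LD1_c12 LD2_c54 LD3_c51)) = (LP (LK LD1_c22 LD2_c4 LD3_c32)) :=
  Lre_c IH (LK LD1_c12 LD2_c54 LD3_c51) (LK LD1_c22 LD2_c4 LD3_c32) Lrfl Lrfl
theorem f781160 : Led Lsl_ef (LP (LK LD1_c17 LD2_c59 LD3_c27)) = (LP (LK LD1_c22 LD2_c4 LD3_c32)) :=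
  Lgr Lrot28 (Lpe (K67.f698946 IH) (Lpr_et (f781156 IH) (Lpr_ct (f654420 IH) (Lpn (LP (LK LD1_c22 LD2_c4 LD3_c32))))))
theorem f743686 : Led Lsl_af K55.v15834 = (LP (LK LD1_c17 LD2_c59 LD3_c27)) :=
  Lgr Lrot45 (Lpe (K56.f741929 IH) (Lpr_at (K56.f640516 IH) (Lpr_ft (K67.f743684 IH) (Lpn (LP (LK LD1_c17 LD2_c59 LD3_c27))))))
theorem f743547 : Led Lsl_et (LP (LK LD1_c11 LD2_c25 LD3_c55)) = (LP (LK LD1_c12 LD2_c58 LD3_c0)) :=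
  Lgr Lrot87 (Lpr_ef (f743543 IH) (Lpn (LP (LK LD1_c12 LD2_c58 LD3_c0))))
theorem f781162 : Led Lsl_at (LP (LK LD1_c12 LD2_c58 LD3_c0)) = (LP (LK LD1_c22 LD2_c4 LD3_c32)) :=
  Lgr Lrot80 (Lpe (f743547 IH) (Lpq (K55.f742044 IH) (Lpr_af (f743686 IH) (Lpr_ef (f781160 IH) (Lpn (LP (LK LD1_c22 LD2_c4 LD3_c32)))))))
theorem f913986 : Led Lsl_gt (LP (LK LD1_c20 LD2_c23 LD3_c34)) = (LP (LK LD1_c22 LD2_c4 LD3_c32)) :=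
  Lgr Lrot46 (Lpr_gf (f913985 IH) (Lpe (f913980 IH) (Lpr_at (f781162 IH) (Lpn (LP (LK LD1_c22 LD2_c4 LD3_c32))))))
theorem f913987 : Led Lsl_gt (LP (LK LD1_c20 LD2_c23 LD3_c34)) = (LP (LK LD1_c22 LD2_c4 LD3_c32)) :=
  Leop (Lpe (f913986 IH) (Lpn (LP (LK LD1_c20 LD2_c23 LD3_c34))))
theorem seed_2386 : LEOK LG_g (LK LD1_c20 LD2_c23 LD3_c34) :=
  Leoe_g (LK LD1_c20 LD2_c23 LD3_c34) (f913987 IH)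
def v40196 : LQ := Led Lsl_et (LP (LK LD1_c9 LD2_c33 LD3_c5))
theorem f914396 : Led Lsl_et (LP (LK LD1_c9 LD2_c33 LD3_c5)) = v40196 :=
  Lrfl
theorem f24914 : Led Lsl_ft (LP (LK LD1_c12 LD2_c50 LD3_c53)) = (LP (LK LD1_c6 LD2_c43 LD3_c2)) :=
  Lre_f IH (LK LD1_c12 LD2_c50 LD3_c53) (LK LD1_c6 LD2_c43 LD3_c2) Lrfl Lrfl
theorem f24915 : Led Lsl_et (LP (LK LD1_c21 LD2_c59 LD3_c18)) = (LP (LK LD1_c12 LD2_c50 LD3_c53)) :=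
  Lre_e IH (LK LD1_c21 LD2_c59 LD3_c18) (LK LD1_c12 LD2_c50 LD3_c53) Lrfl Lrfl
theorem f914400 : Led Lsl_ff (LP (LK LD1_c21 LD2_c59 LD3_c18)) = v40196 :=
  Lgr Lrot72 (Lpr_et (f24915 IH) (Lpr_ft (f24914 IH) (Lpr_et (K6.f24733 IH) (Lpr_ft (K6.f145850 IH) (Lpr_et (f914396 IH) (Lpn v40196))))))
theorem f914402 : Led Lsl_ft (LP (LK LD1_c21 LD2_c59 LD3_c18)) = v40196 :=
  Lgr Lrot48 (Lpr_ff (f914400 IH) (Lpn v40196))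
theorem f86408 : Led Lsl_at (LP (LK LD1_c4 LD2_c50 LD3_c23)) = (LP (LK LD1_c9 LD2_c33 LD3_c5)) :=
  Lre_a IH (LK LD1_c4 LD2_c50 LD3_c23) (LK LD1_c9 LD2_c33 LD3_c5) Lrfl Lrfl
theorem f914397 : Led Lsl_af (LP (LK LD1_c9 LD2_c33 LD3_c6)) = v40196 :=
  Lgr Lrot50 (Lpr_et (K6.f86387 IH) (Lpr_at (f86408 IH) (Lpr_et (f914396 IH) (Lpn v40196))))
theorem f86391 : Led Lsl_gt (LP (LK LD1_c17 LD2_c35 LD3_c22)) = (LP (LK LD1_c9 LD2_c33 LD3_c6)) :=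
  Lre_g IH (LK LD1_c17 LD2_c35 LD3_c22) (LK LD1_c9 LD2_c33 LD3_c6) Lrfl Lrfl
theorem f914404 : Led Lsl_gt (LP (LK LD1_c21 LD2_c59 LD3_c18)) = (LP (LK LD1_c17 LD2_c35 LD3_c22)) :=
  Lgr Lrot5 (Lpr_ft (f914402 IH) (Lpe (f914397 IH) (Lpe (f86391 IH) (Lpn (LP (LK LD1_c17 LD2_c35 LD3_c22))))))
theorem f914405 : Led Lsl_gt (LP (LK LD1_c21 LD2_c59 LD3_c18)) = (LP (LK LD1_c17 LD2_c35 LD3_c22)) :=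
  Leop (Lpe (f914404 IH) (Lpn (LP (LK LD1_c21 LD2_c59 LD3_c18))))
theorem seed_2387 : LEOK LG_g (LK LD1_c21 LD2_c59 LD3_c18) :=
  Leoe_g (LK LD1_c21 LD2_c59 LD3_c18) (f914405 IH)
def v40207 : LQ := Led Lsl_ft (LP (LK LD1_c9 LD2_c33 LD3_c11))
theorem f914455 : Led Lsl_ft (LP (LK LD1_c9 LD2_c33 LD3_c11)) = v40207 :=
  Lrfl
theorem f914459 : Led Lsl_ff (LP (LK LD1_c9 LD2_c33 LD3_c11)) = v40207 :=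
  Lgr Lrot3 (Lpr_ft (f914455 IH) (Lpn v40207))
def v13952 : LQ := Led Lsl_at (LP (LK LD1_c4 LD2_c50 LD3_c27))
theorem f716426 : Led Lsl_at (LP (LK LD1_c4 LD2_c50 LD3_c27)) = v13952 :=
  Lrfl
theorem f716427 : Led Lsl_af (LP (LK LD1_c4 LD2_c50 LD3_c27)) = v13952 :=
  Lgr Lrot0 (Lpr_at (f716426 IH) (Lpn v13952))
theorem f716428 : Led Lsl_ft (LP (LK LD1_c4 LD2_c50 LD3_c28)) = v13952 :=
  Lgr Lrot2 (Lpr_gt (K60.f115193 IH) (Lpr_gt (K3.f57894 IH) (Lpr_af (f716427 IH) (Lpn v13952))))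
theorem f914461 : Led Lsl_bt v13952 = v40207 :=
  Lgr Lrot35 (Lpe (f716428 IH) (Lpe (K60.f135592 IH) (Lpr_ff (f914459 IH) (Lpn v40207))))
def v40199 : LQ := Led Lsl_at (LP (LK LD1_c9 LD2_c33 LD3_c8))
theorem f914429 : Led Lsl_at (LP (LK LD1_c9 LD2_c33 LD3_c8)) = v40199 :=
  Lrfl
theorem f914430 : Led Lsl_af (LP (LK LD1_c9 LD2_c33 LD3_c8)) = v40199 :=
  Lgr Lrot0 (Lpr_at (f914429 IH) (Lpn v40199))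
theorem f435207 : Led Lsl_at (LP (LK LD1_c17 LD2_c35 LD3_c31)) = (LP (LK LD1_c9 LD2_c33 LD3_c11)) :=
  Lre_a IH (LK LD1_c17 LD2_c35 LD3_c31) (LK LD1_c9 LD2_c33 LD3_c11) Lrfl Lrfl
theorem f783174 : Led Lsl_ff (LP (LK LD1_c17 LD2_c35 LD3_c31)) = (LP (LK LD1_c17 LD2_c14 LD3_c30)) :=
  Lgr Lrot52 (Lpr_at (f435207 IH) (Lpr_gf (K60.f783068 IH) (Lpe (K60.f82812 IH) (Lpn (LP (LK LD1_c17 LD2_c14 LD3_c30))))))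
theorem f914456 : Led Lsl_af (LP (LK LD1_c17 LD2_c14 LD3_c30)) = v40207 :=
  Lgr Lrot45 (Lpe (f783174 IH) (Lpr_at (f435207 IH) (Lpr_ft (f914455 IH) (Lpn v40207))))
theorem f914463 : v40199 = (LP (LK LD1_c12 LD2_c20 LD3_c25)) :=
  (Llr Lrot36 (Lpe (f914430 IH) (Lpr_bt (K3.f57906 IH) (Lpr_at (f716426 IH) (Lpr_bt (f914461 IH) (Lpe (f914456 IH) (Lpr_bt (K60.f762569 IH) (Lpn (LP (LK LD1_c12 LD2_c20 LD3_c25)))))))))).symm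
theorem f914464 : Led Lsl_at (LP (LK LD1_c12 LD2_c20 LD3_c25)) = (LP (LK LD1_c9 LD2_c33 LD3_c8)) :=
  Leop (Lpr_af (f914430 IH) (Lpqs (f914463 IH) (Lpn (LP (LK LD1_c12 LD2_c20 LD3_c25)))))
theorem seed_2388 : LEOK LG_a (LK LD1_c12 LD2_c20 LD3_c25) :=
  Leoe_a (LK LD1_c12 LD2_c20 LD3_c25) (f914464 IH)
def v40201 : LQ := Led Lsl_at (LP (LK LD1_c9 LD2_c33 LD3_c9))
theorem f914435 : Led Lsl_at (LP (LK LD1_c9 LD2_c33 LD3_c9)) = v40201 :=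
  Lrfl
theorem f914437 : Led Lsl_cf v13952 = v40201 :=
  Lgr Lrot1 (Lpe (f716427 IH) (Lpr_ct (K49.f57897 IH) (Lpr_at (f914435 IH) (Lpn v40201))))
theorem f914438 : Led Lsl_ct v13952 = v40201 :=
  Lgr Lrot59 (Lpr_cf (f914437 IH) (Lpn v40201))
theorem f57770 : Led Lsl_ct (LP (LK LD1_c6 LD2_c18 LD3_c0)) = (LP (LK LD1_c12 LD2_c12 LD3_c17)) :=
  Lre_c IH (LK LD1_c6 LD2_c18 LD3_c0) (LK LD1_c12 LD2_c12 LD3_c17) Lrfl Lrfl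
def v17938 : LQ := Led Lsl_at (LP (LK LD1_c6 LD2_c24 LD3_c12))
theorem f762877 : Led Lsl_at (LP (LK LD1_c6 LD2_c24 LD3_c12)) = v17938 :=
  Lrfl
theorem f432522 : Led Lsl_dt (LP (LK LD1_c4 LD2_c50 LD3_c27)) = (LP (LK LD1_c6 LD2_c24 LD3_c12)) :=
  Lgr Lrot42 (Lpr_df (K49.f432515 IH) (Lpn (LP (LK LD1_c6 LD2_c24 LD3_c12))))
theorem f762879 : Led Lsl_df v13952 = v17938 :=
  Lgr Lrot18 (Lpe (f716427 IH) (Lpr_dt (f432522 IH) (Lpr_at (f762877 IH) (Lpn v17938))))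
theorem f434930 : Led Lsl_df (LP (LK LD1_c6 LD2_c18 LD3_c0)) = (LP (LK LD1_c7 LD2_c11 LD3_c42)) :=
  Lgr Lrot38 (Lpr_dt (K57.f434924 IH) (Lpn (LP (LK LD1_c7 LD2_c11 LD3_c42))))
def v21116 : LQ := Led Lsl_ft (LP (LK LD1_c7 LD2_c11 LD3_c41))
theorem f792271 : Led Lsl_ft (LP (LK LD1_c7 LD2_c11 LD3_c41)) = v21116 :=
  Lrfl
def v21115 : LQ := Led Lsl_at (LP (LK LD1_c7 LD2_c11 LD3_c41))
theorem f792263 : Led Lsl_at (LP (LK LD1_c7 LD2_c11 LD3_c41)) = v21115 :=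
  Lrfl
theorem f792264 : Led Lsl_af (LP (LK LD1_c7 LD2_c11 LD3_c41)) = v21115 :=
  Lgr Lrot0 (Lpr_at (f792263 IH) (Lpn v21115))
theorem f432436 : Led Lsl_dt (LP (LK LD1_c6 LD2_c17 LD3_c61)) = (LP (LK LD1_c7 LD2_c11 LD3_c41)) :=
  Lgr Lrot42 (Lpr_df (K57.f432429 IH) (Lpn (LP (LK LD1_c7 LD2_c11 LD3_c41))))
theorem f792265 : Led Lsl_df K57.v17341 = v21115 :=
  Lgr Lrot18 (Lpe (K57.f758811 IH) (Lpr_dt (f432436 IH) (Lpr_at (f792263 IH) (Lpn v21115))))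
theorem f758847 : Led Lsl_ff (LP (LK LD1_c6 LD2_c18 LD3_c0)) = K57.v17341 :=
  Lgr Lrot3 (Lpr_ft (K57.f758812 IH) (Lpn K57.v17341))
theorem f792267 : Led Lsl_ft (LP (LK LD1_c7 LD2_c11 LD3_c42)) = v21115 :=
  Lgr Lrot54 (Lpe (K57.f434924 IH) (Lpr_ff (f758847 IH) (Lpr_df (f792265 IH) (Lpn v21115))))
theorem f792272 : Led Lsl_af (LP (LK LD1_c7 LD2_c11 LD3_c42)) = v21116 :=
  Lgr Lrot45 (Lpr_ft (f792267 IH) (Lpe (f792264 IH) (Lpr_ft (f792271 IH) (Lpn v21116))))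
theorem f85998 : Led Lsl_bt (LP (LK LD1_c4 LD2_c50 LD3_c27)) = (LP (LK LD1_c9 LD2_c33 LD3_c8)) :=
  Lre_b IH (LK LD1_c4 LD2_c50 LD3_c27) (LK LD1_c9 LD2_c33 LD3_c8) Lrfl Lrfl
theorem f432517 : Led Lsl_dt (LP (LK LD1_c9 LD2_c33 LD3_c8)) = (LP (LK LD1_c12 LD2_c21 LD3_c38)) :=
  Lgr Lrot79 (Lpe (f85998 IH) (Lpr_df (K49.f432515 IH) (Lpe (K49.f430334 IH) (Lpn (LP (LK LD1_c12 LD2_c21 LD3_c38))))))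
theorem f914466 : Led Lsl_af (LP (LK LD1_c21 LD2_c25 LD3_c17)) = (LP (LK LD1_c12 LD2_c21 LD3_c38)) :=
  Lgr Lrot117 (Lpe (f765874 IH) (Lpq (f914463 IH) (Lpe (f914430 IH) (Lpr_dt (f432517 IH) (Lpn (LP (LK LD1_c12 LD2_c21 LD3_c38)))))))
theorem f914472 : Led Lsl_ft (LP (LK LD1_c13 LD2_c37 LD3_c47)) = (LP (LK LD1_c12 LD2_c21 LD3_c38)) :=
  Lgr Lrot2 (Lpe (f907277 IH) (Lpe (f907103 IH) (Lpr_af (f914466 IH) (Lpn (LP (LK LD1_c12 LD2_c21 LD3_c38))))))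
theorem f432470 : Led Lsl_bt (LP (LK LD1_c7 LD2_c11 LD3_c41)) = (LP (LK LD1_c13 LD2_c37 LD3_c47)) :=
  Lre_b IH (LK LD1_c7 LD2_c11 LD3_c41) (LK LD1_c13 LD2_c37 LD3_c47) Lrfl Lrfl
theorem f792274 : Led Lsl_ff (LP (LK LD1_c7 LD2_c11 LD3_c41)) = v21116 :=
  Lgr Lrot3 (Lpr_ft (f792271 IH) (Lpn v21116))
theorem f914478 : v21116 = (LP (LK LD1_c6 LD2_c24 LD3_c12)) :=
  (Llr Lrot25 (Lpe (f792274 IH) (Lpr_bt (f432470 IH) (Lpr_ft (f914472 IH) (Lpr_bt (K49.f430334 IH) (Lpn (LP (LK LD1_c6 LD2_c24 LD3_c12)))))))).symm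
theorem f914482 : (LP (LK LD1_c7 LD2_c11 LD3_c42)) = v17938 :=
  Lefun (Lecon (Lfl_af (f792272 IH)) (f914478 IH)) (f762877 IH)
theorem f914492 : v13952 = (LP (LK LD1_c6 LD2_c18 LD3_c0)) :=
  Lefun (Lecon (Lfl_df (f762879 IH)) (f914482 IH).symm) (Lfl_df (f434930 IH))
theorem f914515 : v40201 = (LP (LK LD1_c12 LD2_c12 LD3_c17)) :=
  Lefun (Lecon (f914438 IH) (f914492 IH)) (f57770 IH)
theorem f716430 : Led Lsl_ff (LP (LK LD1_c4 LD2_c50 LD3_c28)) = v13952 :=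
  Lgr Lrot3 (Lpr_ft (f716428 IH) (Lpn v13952))
theorem f914439 : Led Lsl_ft (LP (LK LD1_c9 LD2_c33 LD3_c12)) = v40201 :=
  Lgr Lrot4 (Lpe (K60.f431106 IH) (Lpr_ff (f716430 IH) (Lpr_cf (f914437 IH) (Lpn v40201))))
theorem f435166 : Led Lsl_dt (LP (LK LD1_c17 LD2_c35 LD3_c34)) = (LP (LK LD1_c9 LD2_c33 LD3_c12)) :=
  Lre_d IH (LK LD1_c17 LD2_c35 LD3_c34) (LK LD1_c9 LD2_c33 LD3_c12) Lrfl Lrfl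
theorem f434946 : Led Lsl_dt (LP (LK LD1_c12 LD2_c12 LD3_c17)) = (LP (LK LD1_c21 LD2_c18 LD3_c2)) :=
  Lre_d IH (LK LD1_c12 LD2_c12 LD3_c17) (LK LD1_c21 LD2_c18 LD3_c2) Lrfl Lrfl
theorem f914548 : Led Lsl_ff (LP (LK LD1_c17 LD2_c35 LD3_c34)) = (LP (LK LD1_c21 LD2_c18 LD3_c2)) :=
  Lgr Lrot19 (Lpr_dt (f435166 IH) (Lpr_ft (f914439 IH) (Lpqs (f914515 IH) (Lpr_dt (f434946 IH) (Lpn (LP (LK LD1_c21 LD2_c18 LD3_c2)))))))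
theorem f434928 : Led Lsl_dt (LP (LK LD1_c21 LD2_c18 LD3_c2)) = (LP (LK LD1_c12 LD2_c12 LD3_c17)) :=
  Lre_d IH (LK LD1_c21 LD2_c18 LD3_c2) (LK LD1_c12 LD2_c12 LD3_c17) Lrfl Lrfl
theorem f914555 : Led Lsl_at (LP (LK LD1_c17 LD2_c35 LD3_c34)) = (LP (LK LD1_c21 LD2_c17 LD3_c59)) :=
  Lgr Lrot33 (Lpr_ff (f914548 IH) (Lpr_dt (f434928 IH) (Lpr_ct (f57767 IH) (Lpr_dt (K57.f434924 IH) (Lpr_ct (K57.f431121 IH) (Lpr_dt (K57.f433062 IH) (Lpe (K57.f434102 IH) (Lpe (K57.f758813 IH) (Lpr_ct (K57.f432473 IH) (Lpn (LP (LK LD1_c21 LD2_c17 LD3_c59))))))))))))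
theorem f435167 : Led Lsl_ct (LP (LK LD1_c27 LD2_c23 LD3_c39)) = (LP (LK LD1_c17 LD2_c35 LD3_c34)) :=
  Lre_c IH (LK LD1_c27 LD2_c23 LD3_c39) (LK LD1_c17 LD2_c35 LD3_c34) Lrfl Lrfl
theorem f432434 : Led Lsl_ct (LP (LK LD1_c21 LD2_c17 LD3_c59)) = (LP (LK LD1_c29 LD2_c57 LD3_c18)) :=
  Lre_c IH (LK LD1_c21 LD2_c17 LD3_c59) (LK LD1_c29 LD2_c57 LD3_c18) Lrfl Lrfl
theorem f914560 : Led Lsl_af (LP (LK LD1_c27 LD2_c23 LD3_c39)) = (LP (LK LD1_c29 LD2_c57 LD3_c18)) :=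
  Lgr Lrot68 (Lpr_ct (f435167 IH) (Lpr_at (f914555 IH) (Lpr_ct (f432434 IH) (Lpn (LP (LK LD1_c29 LD2_c57 LD3_c18))))))
theorem f435184 : Led Lsl_dt (LP (LK LD1_c9 LD2_c33 LD3_c12)) = (LP (LK LD1_c17 LD2_c35 LD3_c34)) :=
  Lre_d IH (LK LD1_c9 LD2_c33 LD3_c12) (LK LD1_c17 LD2_c35 LD3_c34) Lrfl Lrfl
theorem f57921 : Led Lsl_ft (LP (LK LD1_c4 LD2_c47 LD3_c41)) = (LP (LK LD1_c6 LD2_c17 LD3_c44)) :=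
  Lgr Lrot4 (Lpe (K3.f57920 IH) (Lpr_ff (K1.f57892 IH) (Lpe (K1.f57747 IH) (Lpn (LP (LK LD1_c6 LD2_c17 LD3_c44))))))
theorem f25012 : Led Lsl_gt (LP (LK LD1_c4 LD2_c47 LD3_c41)) = (LP (LK LD1_c9 LD2_c28 LD3_c20)) :=
  Lre_g IH (LK LD1_c4 LD2_c47 LD3_c41) (LK LD1_c9 LD2_c28 LD3_c20) Lrfl Lrfl
theorem f85893 : Led Lsl_at (LP (LK LD1_c6 LD2_c17 LD3_c44)) = (LP (LK LD1_c12 LD2_c11 LD3_c53)) :=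
  Lre_a IH (LK LD1_c6 LD2_c17 LD3_c44) (LK LD1_c12 LD2_c11 LD3_c53) Lrfl Lrfl
theorem f444347 : Led Lsl_gt (LP (LK LD1_c9 LD2_c28 LD3_c20)) = (LP (LK LD1_c12 LD2_c11 LD3_c53)) :=
  Lgr Lrot46 (Lpe (f25012 IH) (Lpr_ft (f57921 IH) (Lpr_at (f85893 IH) (Lpn (LP (LK LD1_c12 LD2_c11 LD3_c53))))))
theorem f433901 : Led Lsl_dt (LP (LK LD1_c17 LD2_c28 LD3_c8)) = (LP (LK LD1_c9 LD2_c28 LD3_c20)) :=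
  Lre_d IH (LK LD1_c17 LD2_c28 LD3_c8) (LK LD1_c9 LD2_c28 LD3_c20) Lrfl Lrfl
theorem f433872 : Led Lsl_df (LP (LK LD1_c6 LD2_c23 LD3_c61)) = (LP (LK LD1_c7 LD2_c11 LD3_c43)) :=
  Lgr Lrot38 (Lpr_dt (K60.f433870 IH) (Lpn (LP (LK LD1_c7 LD2_c11 LD3_c43))))
theorem f25013 : Led Lsl_dt (LP (LK LD1_c9 LD2_c28 LD3_c20)) = (LP (LK LD1_c17 LD2_c28 LD3_c8)) :=
  Lre_d IH (LK LD1_c9 LD2_c28 LD3_c20) (LK LD1_c17 LD2_c28 LD3_c8) Lrfl Lrfl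
theorem f433897 : Led Lsl_gf (LP (LK LD1_c21 LD2_c27 LD3_c13)) = (LP (LK LD1_c17 LD2_c28 LD3_c8)) :=
  Lgr Lrot143 (Lpr_dt (K60.f433821 IH) (Lpe (K49.f433644 IH) (Lpr_df (f433872 IH) (Lpe (K49.f433479 IH) (Lpe (f432522 IH) (Lpe (K3.f57894 IH) (Lpe (K49.f57860 IH) (Lpr_gt (f25012 IH) (Lpr_dt (f25013 IH) (Lpn (LP (LK LD1_c17 LD2_c28 LD3_c8))))))))))))
theorem f433826 : Led Lsl_ct (LP (LK LD1_c21 LD2_c27 LD3_c13)) = (LP (LK LD1_c30 LD2_c1 LD3_c31)) :=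
  Lre_c IH (LK LD1_c21 LD2_c27 LD3_c13) (LK LD1_c30 LD2_c1 LD3_c31) Lrfl Lrfl
theorem f444369 : Led Lsl_gf (LP (LK LD1_c27 LD2_c23 LD3_c39)) = (LP (LK LD1_c30 LD2_c1 LD3_c31)) :=
  Lgr Lrot104 (Lpr_ct (f435167 IH) (Lpe (f435184 IH) (Lpe (K60.f431106 IH) (Lpr_gf (K60.f444363 IH) (Lpe (K1.f57864 IH) (Lpe (f444347 IH) (Lpe (f433901 IH) (Lpe (f433897 IH) (Lpr_ct (f433826 IH) (Lpn (LP (LK LD1_c30 LD2_c1 LD3_c31))))))))))))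
theorem f435157 : Led Lsl_df (LP (LK LD1_c9 LD2_c33 LD3_c11)) = (LP (LK LD1_c12 LD2_c21 LD3_c41)) :=
  Lgr Lrot162 (Lpe (f135613 IH) (Lpe (f135594 IH) (Lpe (K60.f135591 IH) (Lpe (K60.f113259 IH) (Lpr_dt (f135446 IH) (Lpr_gt (f87605 IH) (Lpr_ct (f121458 IH) (Lpr_gt (f435153 IH) (Lpr_ct (f433886 IH) (Lpn (LP (LK LD1_c12 LD2_c21 LD3_c41))))))))))))
theorem f435160 : Led Lsl_bt (LP (LK LD1_c6 LD2_c24 LD3_c13)) = (LP (LK LD1_c12 LD2_c21 LD3_c41)) :=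
  Lre_b IH (LK LD1_c6 LD2_c24 LD3_c13) (LK LD1_c12 LD2_c21 LD3_c41) Lrfl Lrfl
theorem f435161 : Led Lsl_dt (LP (LK LD1_c4 LD2_c50 LD3_c28)) = (LP (LK LD1_c6 LD2_c24 LD3_c13)) :=
  Lgr Lrot79 (Lpe (K60.f135592 IH) (Lpr_df (f435157 IH) (Lpe (f435160 IH) (Lpn (LP (LK LD1_c6 LD2_c24 LD3_c13))))))
theorem f85900 : Led Lsl_dt (LP (LK LD1_c9 LD2_c28 LD3_c21)) = (LP (LK LD1_c17 LD2_c28 LD3_c11)) :=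
  Lre_d IH (LK LD1_c9 LD2_c28 LD3_c21) (LK LD1_c17 LD2_c28 LD3_c11) Lrfl Lrfl
theorem f444365 : Led Lsl_gf (LP (LK LD1_c17 LD2_c14 LD3_c46)) = (LP (LK LD1_c17 LD2_c28 LD3_c11)) :=
  Lgr Lrot143 (Lpr_dt (K11.f154408 IH) (Lpe (f153457 IH) (Lpr_df (K60.f433880 IH) (Lpe (f155255 IH) (Lpe (f435161 IH) (Lpr_gf (K60.f444363 IH) (Lpe (K1.f57864 IH) (Lpe (K3.f85898 IH) (Lpr_dt (f85900 IH) (Lpn (LP (LK LD1_c17 LD2_c28 LD3_c11))))))))))))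
theorem f431441 : Led Lsl_ct (LP (LK LD1_c17 LD2_c14 LD3_c46)) = (LP (LK LD1_c27 LD2_c4 LD3_c57)) :=
  Lre_c IH (LK LD1_c17 LD2_c14 LD3_c46) (LK LD1_c27 LD2_c4 LD3_c57) Lrfl Lrfl
theorem f432529 : Led Lsl_dt (LP (LK LD1_c17 LD2_c35 LD3_c27)) = (LP (LK LD1_c9 LD2_c33 LD3_c9)) :=
  Lre_d IH (LK LD1_c17 LD2_c35 LD3_c27) (LK LD1_c9 LD2_c33 LD3_c9) Lrfl Lrfl
theorem f432565 : Led Lsl_ct (LP (LK LD1_c27 LD2_c23 LD3_c34)) = (LP (LK LD1_c17 LD2_c35 LD3_c27)) :=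
  Lre_c IH (LK LD1_c27 LD2_c23 LD3_c34) (LK LD1_c17 LD2_c35 LD3_c27) Lrfl Lrfl
theorem f444374 : Led Lsl_gt (LP (LK LD1_c27 LD2_c4 LD3_c57)) = (LP (LK LD1_c27 LD2_c23 LD3_c34)) :=
  Lgr Lrot150 (Lpe (f431441 IH) (Lpr_gf (f444365 IH) (Lpe (f85900 IH) (Lpr_gt (K3.f79599 IH) (Lpr_ct (K49.f57860 IH) (Lpr_gt (K3.f57894 IH) (Lpr_ct (K49.f57897 IH) (Lpe (f432529 IH) (Lpe (f432565 IH) (Lpn (LP (LK LD1_c27 LD2_c23 LD3_c34))))))))))))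
theorem f152926 : Led Lsl_ct (LP (LK LD1_c21 LD2_c27 LD3_c15)) = (LP (LK LD1_c12 LD2_c21 LD3_c3)) :=
  Lre_c IH (LK LD1_c21 LD2_c27 LD3_c15) (LK LD1_c12 LD2_c21 LD3_c3) Lrfl Lrfl
theorem f433846 : Led Lsl_ff (LP (LK LD1_c21 LD2_c27 LD3_c15)) = (LP (LK LD1_c27 LD2_c4 LD3_c57)) :=
  Lgr Lrot23 (Lpr_ct (f152926 IH) (Lpr_ft (K11.f433838 IH) (Lpr_ct (f431441 IH) (Lpn (LP (LK LD1_c27 LD2_c4 LD3_c57))))))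
theorem f433896 : Led Lsl_at (LP (LK LD1_c21 LD2_c27 LD3_c15)) = (LP (LK LD1_c30 LD2_c1 LD3_c31)) :=
  Lre_a IH (LK LD1_c21 LD2_c27 LD3_c15) (LK LD1_c30 LD2_c1 LD3_c31) Lrfl Lrfl
theorem f444379 : Led Lsl_gf (LP (LK LD1_c30 LD2_c1 LD3_c31)) = (LP (LK LD1_c27 LD2_c23 LD3_c34)) :=
  Lgr Lrot76 (Lpe (f433896 IH) (Lpr_ff (f433846 IH) (Lpr_gt (f444374 IH) (Lpn (LP (LK LD1_c27 LD2_c23 LD3_c34))))))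
theorem f914568 : Led Lsl_ft (LP (LK LD1_c27 LD2_c23 LD3_c34)) = (LP (LK LD1_c29 LD2_c57 LD3_c18)) :=
  Lgr Lrot2 (Lpe (f444379 IH) (Lpe (f444369 IH) (Lpr_af (f914560 IH) (Lpn (LP (LK LD1_c29 LD2_c57 LD3_c18))))))
theorem f914576 : Led Lsl_ff (LP (LK LD1_c27 LD2_c23 LD3_c34)) = (LP (LK LD1_c29 LD2_c57 LD3_c18)) :=
  Lgr Lrot3 (Lpr_ft (f914568 IH) (Lpn (LP (LK LD1_c29 LD2_c57 LD3_c18))))
theorem f758817 : Led Lsl_dt (LP (LK LD1_c29 LD2_c57 LD3_c18)) = (LP (LK LD1_c21 LD2_c56 LD3_c44)) :=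
  Lgr Lrot42 (Lpr_df (K57.f758813 IH) (Lpn (LP (LK LD1_c21 LD2_c56 LD3_c44))))
theorem f434959 : Led Lsl_ct (LP (LK LD1_c21 LD2_c18 LD3_c2)) = (LP (LK LD1_c29 LD2_c57 LD3_c21)) :=
  Lre_c IH (LK LD1_c21 LD2_c18 LD3_c2) (LK LD1_c29 LD2_c57 LD3_c21) Lrfl Lrfl
theorem f914582 : Led Lsl_at (LP (LK LD1_c27 LD2_c23 LD3_c34)) = (LP (LK LD1_c29 LD2_c57 LD3_c21)) :=
  Lgr Lrot33 (Lpr_ff (f914576 IH) (Lpr_dt (f758817 IH) (Lpr_ct (K57.f434100 IH) (Lpr_dt (K57.f433059 IH) (Lpr_ct (f154932 IH) (Lpe (f434930 IH) (Lpr_ct (f57770 IH) (Lpr_dt (f434946 IH) (Lpr_ct (f434959 IH) (Lpn (LP (LK LD1_c29 LD2_c57 LD3_c21))))))))))))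
theorem f914564 : Led Lsl_at (LP (LK LD1_c27 LD2_c23 LD3_c39)) = (LP (LK LD1_c29 LD2_c57 LD3_c18)) :=
  Lgr Lrot100 (Lpr_af (f914560 IH) (Lpn (LP (LK LD1_c29 LD2_c57 LD3_c18))))
theorem f914588 : Led Lsl_ff (LP (LK LD1_c27 LD2_c23 LD3_c39)) = (LP (LK LD1_c29 LD2_c57 LD3_c21)) :=
  Lgr Lrot30 (Lpr_at (f914564 IH) (Lpe (f914576 IH) (Lpr_at (f914582 IH) (Lpn (LP (LK LD1_c29 LD2_c57 LD3_c21))))))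
theorem f431440 : Led Lsl_ct (LP (LK LD1_c27 LD2_c4 LD3_c57)) = (LP (LK LD1_c17 LD2_c14 LD3_c46)) :=
  Lre_c IH (LK LD1_c27 LD2_c4 LD3_c57) (LK LD1_c17 LD2_c14 LD3_c46) Lrfl Lrfl
theorem f433899 : Led Lsl_gt (LP (LK LD1_c17 LD2_c14 LD3_c46)) = (LP (LK LD1_c17 LD2_c28 LD3_c8)) :=
  Lgr Lrot5 (Lpe (K11.f433851 IH) (Lpr_at (K60.f433853 IH) (Lpr_gf (f433897 IH) (Lpn (LP (LK LD1_c17 LD2_c28 LD3_c8))))))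
theorem f57855 : Led Lsl_gt (LP (LK LD1_c29 LD2_c52 LD3_c18)) = (LP (LK LD1_c21 LD2_c8 LD3_c58)) :=
  Lre_g IH (LK LD1_c29 LD2_c52 LD3_c18) (LK LD1_c21 LD2_c8 LD3_c58) Lrfl Lrfl
theorem f444381 : Led Lsl_df (LP (LK LD1_c29 LD2_c52 LD3_c18)) = (LP (LK LD1_c27 LD2_c23 LD3_c34)) :=
  Lgr Lrot153 (Lpr_gt (f57855 IH) (Lpr_dt (K1.f57809 IH) (Lpr_cf (K1.f57826 IH) (Lpe (K60.f57844 IH) (Lpe (f444347 IH) (Lpe (f433901 IH) (Lpe (f433899 IH) (Lpe (f431440 IH) (Lpr_gt (f444374 IH) (Lpn (LP (LK LD1_c27 LD2_c23 LD3_c34))))))))))))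
theorem f154397 : Led Lsl_gt (LP (LK LD1_c6 LD2_c24 LD3_c6)) = (LP (LK LD1_c12 LD2_c21 LD3_c25)) :=
  Lre_g IH (LK LD1_c6 LD2_c24 LD3_c6) (LK LD1_c12 LD2_c21 LD3_c25) Lrfl Lrfl
theorem f434137 : Led Lsl_gt (LP (LK LD1_c12 LD2_c21 LD3_c25)) = (LP (LK LD1_c13 LD2_c37 LD3_c42)) :=
  Lgr Lrot46 (Lpe (f154397 IH) (Lpr_ft (K60.f433287 IH) (Lpr_at (K60.f433279 IH) (Lpn (LP (LK LD1_c13 LD2_c37 LD3_c42))))))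
theorem f57847 : Led Lsl_dt (LP (LK LD1_c12 LD2_c48 LD3_c42)) = (LP (LK LD1_c6 LD2_c41 LD3_c45)) :=
  Lre_d IH (LK LD1_c12 LD2_c48 LD3_c42) (LK LD1_c6 LD2_c41 LD3_c45) Lrfl Lrfl
theorem f57901 : Led Lsl_gt (LP (LK LD1_c21 LD2_c8 LD3_c56)) = (LP (LK LD1_c12 LD2_c48 LD3_c42)) :=
  Lre_g IH (LK LD1_c21 LD2_c8 LD3_c56) (LK LD1_c12 LD2_c48 LD3_c42) Lrfl Lrfl
theorem f432531 : Led Lsl_df (LP (LK LD1_c21 LD2_c8 LD3_c56)) = (LP (LK LD1_c12 LD2_c21 LD3_c25)) :=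
  Lgr Lrot153 (Lpr_gt (f57901 IH) (Lpr_dt (f57847 IH) (Lpe (K60.f57872 IH) (Lpr_df (K60.f57873 IH) (Lpe (K3.f57895 IH) (Lpr_df (K49.f432515 IH) (Lpe (K49.f154188 IH) (Lpe (K11.f155254 IH) (Lpr_gt (f154397 IH) (Lpn (LP (LK LD1_c12 LD2_c21 LD3_c25))))))))))))
theorem f85955 : Led Lsl_gt (LP (LK LD1_c21 LD2_c56 LD3_c37)) = (LP (LK LD1_c29 LD2_c52 LD3_c18)) :=
  Lre_g IH (LK LD1_c21 LD2_c56 LD3_c37) (LK LD1_c29 LD2_c52 LD3_c18) Lrfl Lrfl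
theorem f434130 : Led Lsl_gf (LP (LK LD1_c6 LD2_c24 LD3_c13)) = (LP (LK LD1_c7 LD2_c11 LD3_c43)) :=
  Lgr Lrot47 (Lpr_gt (f155255 IH) (Lpe (K60.f433469 IH) (Lpr_ff (K60.f433471 IH) (Lpn (LP (LK LD1_c7 LD2_c11 LD3_c43))))))
theorem f433884 : Led Lsl_ct (LP (LK LD1_c6 LD2_c24 LD3_c13)) = (LP (LK LD1_c12 LD2_c21 LD3_c42)) :=
  Lre_c IH (LK LD1_c6 LD2_c24 LD3_c13) (LK LD1_c12 LD2_c21 LD3_c42) Lrfl Lrfl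
theorem f434133 : Led Lsl_dt (LP (LK LD1_c21 LD2_c28 LD3_c24)) = (LP (LK LD1_c12 LD2_c21 LD3_c42)) :=
  Lre_d IH (LK LD1_c21 LD2_c28 LD3_c24) (LK LD1_c12 LD2_c21 LD3_c42) Lrfl Lrfl
theorem f434139 : Led Lsl_ct (LP (LK LD1_c29 LD2_c52 LD3_c18)) = (LP (LK LD1_c21 LD2_c28 LD3_c24)) :=
  Lgr Lrot110 (Lpe (f85955 IH) (Lpe (K60.f57870 IH) (Lpe (f57901 IH) (Lpr_df (f432531 IH) (Lpr_gt (f434137 IH) (Lpr_ct (K49.f433481 IH) (Lpe (f434130 IH) (Lpr_ct (f433884 IH) (Lpe (f434133 IH) (Lpn (LP (LK LD1_c21 LD2_c28 LD3_c24))))))))))))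
theorem f155256 : Led Lsl_ct (LP (LK LD1_c12 LD2_c21 LD3_c42)) = (LP (LK LD1_c6 LD2_c24 LD3_c13)) :=
  Lre_c IH (LK LD1_c12 LD2_c21 LD3_c42) (LK LD1_c6 LD2_c24 LD3_c13) Lrfl Lrfl
theorem f435168 : Led Lsl_df (LP (LK LD1_c4 LD2_c50 LD3_c28)) = (LP (LK LD1_c6 LD2_c24 LD3_c13)) :=
  Lgr Lrot38 (Lpr_dt (f435161 IH) (Lpn (LP (LK LD1_c6 LD2_c24 LD3_c13))))
theorem f435185 : Led Lsl_ct (LP (LK LD1_c17 LD2_c35 LD3_c34)) = (LP (LK LD1_c27 LD2_c23 LD3_c39)) :=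
  Lre_c IH (LK LD1_c17 LD2_c35 LD3_c34) (LK LD1_c27 LD2_c23 LD3_c39) Lrfl Lrfl
theorem f432520 : Led Lsl_ct (LP (LK LD1_c17 LD2_c35 LD3_c27)) = (LP (LK LD1_c27 LD2_c23 LD3_c34)) :=
  Lre_c IH (LK LD1_c17 LD2_c35 LD3_c27) (LK LD1_c27 LD2_c23 LD3_c34) Lrfl Lrfl
theorem f432519 : Led Lsl_dt (LP (LK LD1_c9 LD2_c33 LD3_c9)) = (LP (LK LD1_c17 LD2_c35 LD3_c27)) :=
  Lre_d IH (LK LD1_c9 LD2_c33 LD3_c9) (LK LD1_c17 LD2_c35 LD3_c27) Lrfl Lrfl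
theorem f155307 : Led Lsl_ct (LP (LK LD1_c12 LD2_c21 LD3_c39)) = (LP (LK LD1_c6 LD2_c24 LD3_c12)) :=
  Lre_c IH (LK LD1_c12 LD2_c21 LD3_c39) (LK LD1_c6 LD2_c24 LD3_c12) Lrfl Lrfl
theorem f432521 : Led Lsl_dt (LP (LK LD1_c21 LD2_c28 LD3_c19)) = (LP (LK LD1_c12 LD2_c21 LD3_c39)) :=
  Lre_d IH (LK LD1_c21 LD2_c28 LD3_c19) (LK LD1_c12 LD2_c21 LD3_c39) Lrfl Lrfl
theorem f57842 : Led Lsl_dt (LP (LK LD1_c12 LD2_c3 LD3_c29)) = (LP (LK LD1_c6 LD2_c11 LD3_c48)) :=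
  Lre_d IH (LK LD1_c12 LD2_c3 LD3_c29) (LK LD1_c6 LD2_c11 LD3_c48) Lrfl Lrfl
theorem f57857 : Led Lsl_gt (LP (LK LD1_c21 LD2_c8 LD3_c57)) = (LP (LK LD1_c12 LD2_c3 LD3_c29)) :=
  Lre_g IH (LK LD1_c21 LD2_c8 LD3_c57) (LK LD1_c12 LD2_c3 LD3_c29) Lrfl Lrfl
theorem f435186 : Led Lsl_df (LP (LK LD1_c21 LD2_c8 LD3_c57)) = (LP (LK LD1_c12 LD2_c21 LD3_c26)) :=
  Lgr Lrot153 (Lpr_gt (f57857 IH) (Lpr_dt (f57842 IH) (Lpe (K1.f57859 IH) (Lpr_df (K1.f7484 IH) (Lpe (K60.f115193 IH) (Lpr_df (f435168 IH) (Lpr_gf (f434130 IH) (Lpe (K49.f433481 IH) (Lpr_gt (K49.f433793 IH) (Lpn (LP (LK LD1_c12 LD2_c21 LD3_c26))))))))))))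
theorem f85974 : Led Lsl_gt (LP (LK LD1_c21 LD2_c8 LD3_c58)) = (LP (LK LD1_c29 LD2_c52 LD3_c17)) :=
  Lre_g IH (LK LD1_c21 LD2_c8 LD3_c58) (LK LD1_c29 LD2_c52 LD3_c17) Lrfl Lrfl
theorem f435192 : Led Lsl_ct (LP (LK LD1_c29 LD2_c52 LD3_c17)) = (LP (LK LD1_c21 LD2_c28 LD3_c19)) :=
  Lgr Lrot110 (Lpe (f85974 IH) (Lpe (K1.f57856 IH) (Lpe (f57857 IH) (Lpr_df (f435186 IH) (Lpr_gt (K49.f155297 IH) (Lpr_ct (K11.f155254 IH) (Lpr_gt (K49.f154188 IH) (Lpr_ct (K60.f155312 IH) (Lpe (f432521 IH) (Lpn (LP (LK LD1_c21 LD2_c28 LD3_c19))))))))))))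
theorem f444384 : Led Lsl_dt (LP (LK LD1_c27 LD2_c23 LD3_c39)) = (LP (LK LD1_c29 LD2_c52 LD3_c17)) :=
  Lgr Lrot173 (Lpe (f435185 IH) (Lpe (f435184 IH) (Lpe (K60.f431106 IH) (Lpr_df (f435168 IH) (Lpe (f155256 IH) (Lpe (f434133 IH) (Lpe (f434139 IH) (Lpr_df (f444381 IH) (Lpe (f432520 IH) (Lpe (f432519 IH) (Lpe (K49.f57897 IH) (Lpr_df (K49.f432515 IH) (Lpe (f155307 IH) (Lpe (f432521 IH) (Lpe (f435192 IH) (Lpn (LP (LK LD1_c29 LD2_c52 LD3_c17))))))))))))))))))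
theorem f432475 : Led Lsl_dt (LP (LK LD1_c13 LD2_c37 LD3_c48)) = (LP (LK LD1_c23 LD2_c2 LD3_c42)) :=
  Lre_d IH (LK LD1_c13 LD2_c37 LD3_c48) (LK LD1_c23 LD2_c2 LD3_c42) Lrfl Lrfl
theorem f57762 : Led Lsl_dt (LP (LK LD1_c6 LD2_c41 LD3_c46)) = (LP (LK LD1_c3 LD2_c18 LD3_c55)) :=
  Lre_d IH (LK LD1_c6 LD2_c41 LD3_c46) (LK LD1_c3 LD2_c18 LD3_c55) Lrfl Lrfl
theorem f57763 : Led Lsl_gt (LP (LK LD1_c12 LD2_c48 LD3_c44)) = (LP (LK LD1_c6 LD2_c41 LD3_c46)) :=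
  Lre_g IH (LK LD1_c12 LD2_c48 LD3_c44) (LK LD1_c6 LD2_c41 LD3_c46) Lrfl Lrfl
theorem f434960 : Led Lsl_df (LP (LK LD1_c12 LD2_c48 LD3_c44)) = (LP (LK LD1_c13 LD2_c37 LD3_c41)) :=
  Lgr Lrot153 (Lpr_gt (f57763 IH) (Lpr_dt (f57762 IH) (Lpe (K1.f25464 IH) (Lpr_df (K1.f57738 IH) (Lpe (K57.f25640 IH) (Lpr_df (f434930 IH) (Lpe (K57.f434098 IH) (Lpe (K57.f433465 IH) (Lpr_gt (K60.f434135 IH) (Lpn (LP (LK LD1_c13 LD2_c37 LD3_c41))))))))))))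
theorem f57832 : Led Lsl_gt (LP (LK LD1_c12 LD2_c48 LD3_c45)) = (LP (LK LD1_c21 LD2_c56 LD3_c43)) :=
  Lre_g IH (LK LD1_c12 LD2_c48 LD3_c45) (LK LD1_c21 LD2_c56 LD3_c43) Lrfl Lrfl
theorem f432435 : Led Lsl_dt (LP (LK LD1_c23 LD2_c2 LD3_c42)) = (LP (LK LD1_c13 LD2_c37 LD3_c48)) :=
  Lre_d IH (LK LD1_c23 LD2_c2 LD3_c42) (LK LD1_c13 LD2_c37 LD3_c48) Lrfl Lrfl
theorem f434967 : Led Lsl_ct (LP (LK LD1_c21 LD2_c56 LD3_c43)) = (LP (LK LD1_c23 LD2_c2 LD3_c42)) :=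
  Lgr Lrot110 (Lpe (f57832 IH) (Lpe (K1.f57745 IH) (Lpe (f57763 IH) (Lpr_df (f434960 IH) (Lpr_gt (K60.f154950 IH) (Lpr_ct (K57.f154917 IH) (Lpr_gt (K57.f154918 IH) (Lpr_ct (f432474 IH) (Lpe (f432435 IH) (Lpn (LP (LK LD1_c23 LD2_c2 LD3_c42))))))))))))
theorem f434974 : Led Lsl_cf (LP (LK LD1_c21 LD2_c56 LD3_c43)) = (LP (LK LD1_c23 LD2_c2 LD3_c42)) :=
  Lgr Lrot11 (Lpr_ct (f434967 IH) (Lpn (LP (LK LD1_c23 LD2_c2 LD3_c42))))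
theorem f434929 : Led Lsl_ct (LP (LK LD1_c29 LD2_c57 LD3_c21)) = (LP (LK LD1_c21 LD2_c18 LD3_c2)) :=
  Lre_c IH (LK LD1_c29 LD2_c57 LD3_c21) (LK LD1_c21 LD2_c18 LD3_c2) Lrfl Lrfl
theorem f758815 : Led Lsl_dt (LP (LK LD1_c21 LD2_c56 LD3_c43)) = (LP (LK LD1_c29 LD2_c57 LD3_c21)) :=
  Lgr Lrot173 (Lpr_cf (f434974 IH) (Lpe (f432475 IH) (Lpe (f432474 IH) (Lpe (f432436 IH) (Lpe (K57.f57702 IH) (Lpe (K57.f57704 IH) (Lpe (K57.f432473 IH) (Lpr_df (K57.f758813 IH) (Lpr_cf (K57.f434102 IH) (Lpe (K57.f433062 IH) (Lpe (K57.f431121 IH) (Lpe (K57.f434924 IH) (Lpe (f57767 IH) (Lpe (f434928 IH) (Lpe (f434929 IH) (Lpn (LP (LK LD1_c29 LD2_c57 LD3_c21))))))))))))))))))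
theorem f914590 : Led Lsl_ft (LP (LK LD1_c29 LD2_c52 LD3_c17)) = (LP (LK LD1_c21 LD2_c56 LD3_c43)) :=
  Lgr Lrot54 (Lpe (f444384 IH) (Lpr_ff (f914588 IH) (Lpe (f758815 IH) (Lpn (LP (LK LD1_c21 LD2_c56 LD3_c43))))))
theorem f914596 : Led Lsl_ff (LP (LK LD1_c29 LD2_c52 LD3_c17)) = (LP (LK LD1_c21 LD2_c56 LD3_c43)) :=
  Lgr Lrot3 (Lpr_ft (f914590 IH) (Lpn (LP (LK LD1_c21 LD2_c56 LD3_c43))))
theorem f914600 : Led Lsl_ft (LP (LK LD1_c21 LD2_c28 LD3_c19)) = (LP (LK LD1_c23 LD2_c2 LD3_c42)) :=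
  Lgr Lrot4 (Lpe (f435192 IH) (Lpr_ff (f914596 IH) (Lpr_cf (f434974 IH) (Lpn (LP (LK LD1_c23 LD2_c2 LD3_c42))))))
theorem f431105 : Led Lsl_dt (LP (LK LD1_c21 LD2_c27 LD3_c28)) = (LP (LK LD1_c12 LD2_c21 LD3_c9)) :=
  Lre_d IH (LK LD1_c21 LD2_c27 LD3_c28) (LK LD1_c12 LD2_c21 LD3_c9) Lrfl Lrfl
theorem f85940 : Led Lsl_gt (LP (LK LD1_c17 LD2_c28 LD3_c14)) = (LP (LK LD1_c9 LD2_c28 LD3_c23)) :=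
  Lre_g IH (LK LD1_c17 LD2_c28 LD3_c14) (LK LD1_c9 LD2_c28 LD3_c23) Lrfl Lrfl
theorem f436086 : Led Lsl_df (LP (LK LD1_c17 LD2_c28 LD3_c14)) = (LP (LK LD1_c12 LD2_c21 LD3_c1)) :=
  Lgr Lrot153 (Lpr_gt (f85940 IH) (Lpr_dt (K60.f57861 IH) (Lpe (K3.f57920 IH) (Lpr_df (K60.f57885 IH) (Lpe (K6.f86059 IH) (Lpr_df (K60.f436054 IH) (Lpr_gf (K60.f433830 IH) (Lpe (K60.f433748 IH) (Lpe (f433813 IH) (Lpn (LP (LK LD1_c12 LD2_c21 LD3_c1))))))))))))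
theorem f85813 : Led Lsl_gt (LP (LK LD1_c17 LD2_c28 LD3_c15)) = (LP (LK LD1_c27 LD2_c18 LD3_c29)) :=
  Lre_g IH (LK LD1_c17 LD2_c28 LD3_c15) (LK LD1_c27 LD2_c18 LD3_c29) Lrfl Lrfl
theorem f436093 : Led Lsl_ct (LP (LK LD1_c27 LD2_c18 LD3_c29)) = (LP (LK LD1_c21 LD2_c27 LD3_c28)) :=
  Lgr Lrot110 (Lpe (f85813 IH) (Lpe (K3.f57936 IH) (Lpe (f85940 IH) (Lpr_df (f436086 IH) (Lpr_gt (f152796 IH) (Lpr_ct (K60.f152793 IH) (Lpr_gt (K60.f152312 IH) (Lpr_ct (K60.f153021 IH) (Lpe (f431105 IH) (Lpn (LP (LK LD1_c21 LD2_c27 LD3_c28))))))))))))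
theorem f444420 : Led Lsl_dt (LP (LK LD1_c29 LD2_c52 LD3_c38)) = (LP (LK LD1_c27 LD2_c18 LD3_c29)) :=
  Lgr Lrot173 (Lpe (K60.f105683 IH) (Lpe (K60.f105686 IH) (Lpe (K60.f105674 IH) (Lpr_df (K60.f436054 IH) (Lpe (K60.f432350 IH) (Lpe (K60.f433834 IH) (Lpr_cf (K60.f444413 IH) (Lpe (K60.f436080 IH) (Lpe (K60.f431119 IH) (Lpe (K60.f135579 IH) (Lpe (K60.f84147 IH) (Lpe (K60.f431101 IH) (Lpe (K60.f153005 IH) (Lpe (f431105 IH) (Lpe (f436093 IH) (Lpn (LP (LK LD1_c27 LD2_c18 LD3_c29))))))))))))))))))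
theorem f444437 : Led Lsl_df (LP (LK LD1_c29 LD2_c52 LD3_c38)) = (LP (LK LD1_c27 LD2_c18 LD3_c29)) :=
  Lgr Lrot38 (Lpr_dt (f444420 IH) (Lpn (LP (LK LD1_c27 LD2_c18 LD3_c29))))
theorem f105685 : Led Lsl_ct (LP (LK LD1_c29 LD2_c52 LD3_c38)) = (LP (LK LD1_c21 LD2_c10 LD3_c20)) :=
  Lre_c IH (LK LD1_c29 LD2_c52 LD3_c38) (LK LD1_c21 LD2_c10 LD3_c20) Lrfl Lrfl
theorem f84140 : Led Lsl_ct (LP (LK LD1_c12 LD2_c4 LD3_c60)) = (LP (LK LD1_c6 LD2_c13 LD3_c1)) :=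
  Lre_c IH (LK LD1_c12 LD2_c4 LD3_c60) (LK LD1_c6 LD2_c13 LD3_c1) Lrfl Lrfl
theorem f135567 : Led Lsl_dt (LP (LK LD1_c21 LD2_c10 LD3_c13)) = (LP (LK LD1_c29 LD2_c52 LD3_c34)) :=
  Lre_d IH (LK LD1_c21 LD2_c10 LD3_c13) (LK LD1_c29 LD2_c52 LD3_c34) Lrfl Lrfl
theorem f444367 : Led Lsl_gf (LP (LK LD1_c21 LD2_c28 LD3_c24)) = (LP (LK LD1_c29 LD2_c52 LD3_c34)) :=
  Lgr Lrot143 (Lpr_dt (f434133 IH) (Lpe (f433884 IH) (Lpe (f435161 IH) (Lpr_gf (K60.f444363 IH) (Lpe (K60.f57742 IH) (Lpe (K60.f84134 IH) (Lpe (f84140 IH) (Lpr_gt (K60.f135491 IH) (Lpr_dt (f135567 IH) (Lpn (LP (LK LD1_c29 LD2_c52 LD3_c34))))))))))))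
theorem f434141 : Led Lsl_cf (LP (LK LD1_c29 LD2_c52 LD3_c18)) = (LP (LK LD1_c21 LD2_c28 LD3_c24)) :=
  Lgr Lrot11 (Lpr_ct (f434139 IH) (Lpn (LP (LK LD1_c21 LD2_c28 LD3_c24))))
theorem f57841 : Led Lsl_ct (LP (LK LD1_c21 LD2_c8 LD3_c58)) = (LP (LK LD1_c12 LD2_c3 LD3_c29)) :=
  Lre_c IH (LK LD1_c21 LD2_c8 LD3_c58) (LK LD1_c12 LD2_c3 LD3_c29) Lrfl Lrfl
theorem f444371 : Led Lsl_gf (LP (LK LD1_c12 LD2_c5 LD3_c1)) = (LP (LK LD1_c21 LD2_c10 LD3_c13)) :=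
  Lgr Lrot147 (Lpr_ct (K6.f90809 IH) (Lpr_gt (K6.f86059 IH) (Lpr_ct (K1.f57859 IH) (Lpe (f57842 IH) (Lpe (f57841 IH) (Lpe (f57855 IH) (Lpr_cf (f434141 IH) (Lpr_gf (f444367 IH) (Lpe (f135567 IH) (Lpn (LP (LK LD1_c21 LD2_c10 LD3_c13))))))))))))
theorem f135569 : Led Lsl_dt (LP (LK LD1_c29 LD2_c52 LD3_c34)) = (LP (LK LD1_c21 LD2_c10 LD3_c13)) :=
  Lre_d IH (LK LD1_c29 LD2_c52 LD3_c34) (LK LD1_c21 LD2_c10 LD3_c13) Lrfl Lrfl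
theorem f85954 : Led Lsl_gt (LP (LK LD1_c29 LD2_c52 LD3_c17)) = (LP (LK LD1_c21 LD2_c56 LD3_c37)) :=
  Lre_g IH (LK LD1_c29 LD2_c52 LD3_c17) (LK LD1_c21 LD2_c56 LD3_c37) Lrfl Lrfl
theorem f435198 : Led Lsl_cf (LP (LK LD1_c29 LD2_c52 LD3_c17)) = (LP (LK LD1_c21 LD2_c28 LD3_c19)) :=
  Lgr Lrot11 (Lpr_ct (f435192 IH) (Lpn (LP (LK LD1_c21 LD2_c28 LD3_c19))))
theorem f444439 : Led Lsl_gf (LP (LK LD1_c29 LD2_c52 LD3_c34)) = (LP (LK LD1_c21 LD2_c28 LD3_c19)) :=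
  Lgr Lrot144 (Lpr_dt (f135569 IH) (Lpe (f444371 IH) (Lpr_dt (K60.f105686 IH) (Lpe (f105685 IH) (Lpr_df (f444437 IH) (Lpe (f85813 IH) (Lpr_df (K60.f85943 IH) (Lpe (f85954 IH) (Lpr_cf (f435198 IH) (Lpn (LP (LK LD1_c21 LD2_c28 LD3_c19))))))))))))
theorem f914604 : Led Lsl_af (LP (LK LD1_c21 LD2_c28 LD3_c24)) = (LP (LK LD1_c23 LD2_c2 LD3_c42)) :=
  Lgr Lrot31 (Lpr_gf (f444367 IH) (Lpr_gf (f444439 IH) (Lpr_ft (f914600 IH) (Lpn (LP (LK LD1_c23 LD2_c2 LD3_c42))))))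
theorem f914608 : Led Lsl_at (LP (LK LD1_c12 LD2_c21 LD3_c42)) = (LP (LK LD1_c13 LD2_c37 LD3_c48)) :=
  Lgr Lrot51 (Lpe (f434133 IH) (Lpr_af (f914604 IH) (Lpe (f432475 IH) (Lpn (LP (LK LD1_c13 LD2_c37 LD3_c48))))))
theorem f914614 : Led Lsl_ff (LP (LK LD1_c12 LD2_c21 LD3_c42)) = (LP (LK LD1_c13 LD2_c37 LD3_c51)) :=
  Lgr Lrot103 (Lpr_at (f914608 IH) (Lpe (f432474 IH) (Lpe (f432436 IH) (Lpe (K57.f57702 IH) (Lpe (K57.f57704 IH) (Lpe (K57.f432473 IH) (Lpr_df (K57.f758813 IH) (Lpr_cf (K57.f434102 IH) (Lpe (K57.f433062 IH) (Lpn (LP (LK LD1_c13 LD2_c37 LD3_c51))))))))))))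
theorem f914622 : Led Lsl_ft (LP (LK LD1_c12 LD2_c21 LD3_c42)) = (LP (LK LD1_c13 LD2_c37 LD3_c51)) :=
  Lgr Lrot48 (Lpr_ff (f914614 IH) (Lpn (LP (LK LD1_c13 LD2_c37 LD3_c51))))
theorem f434149 : Led Lsl_bt (LP (LK LD1_c21 LD2_c28 LD3_c23)) = (LP (LK LD1_c12 LD2_c21 LD3_c42)) :=
  Lre_b IH (LK LD1_c21 LD2_c28 LD3_c23) (LK LD1_c12 LD2_c21 LD3_c42) Lrfl Lrfl
theorem f914624 : Led Lsl_ff (LP (LK LD1_c21 LD2_c28 LD3_c23)) = (LP (LK LD1_c21 LD2_c6 LD3_c29)) :=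
  Lgr Lrot25 (Lpr_bt (f434149 IH) (Lpr_ft (f914622 IH) (Lpr_bt (f433054 IH) (Lpn (LP (LK LD1_c21 LD2_c6 LD3_c29))))))
theorem f155260 : Led Lsl_ct (LP (LK LD1_c21 LD2_c28 LD3_c23)) = (LP (LK LD1_c30 LD2_c2 LD3_c27)) :=
  Lre_c IH (LK LD1_c21 LD2_c28 LD3_c23) (LK LD1_c30 LD2_c2 LD3_c27) Lrfl Lrfl
theorem f914675 : Led Lsl_ft (LP (LK LD1_c30 LD2_c2 LD3_c27)) = (LP (LK LD1_c29 LD2_c51 LD3_c30)) :=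
  Lgr Lrot4 (Lpe (f155260 IH) (Lpr_ff (f914624 IH) (Lpe (f433061 IH) (Lpn (LP (LK LD1_c29 LD2_c51 LD3_c30))))))
theorem f914695 : Led Lsl_ff (LP (LK LD1_c30 LD2_c2 LD3_c27)) = (LP (LK LD1_c29 LD2_c51 LD3_c30)) :=
  Lgr Lrot3 (Lpr_ft (f914675 IH) (Lpn (LP (LK LD1_c29 LD2_c51 LD3_c30))))
theorem f155269 : Led Lsl_bt (LP (LK LD1_c30 LD2_c2 LD3_c27)) = (LP (LK LD1_c21 LD2_c28 LD3_c21)) :=
  Lre_b IH (LK LD1_c30 LD2_c2 LD3_c27) (LK LD1_c21 LD2_c28 LD3_c21) Lrfl Lrfl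
theorem f433056 : Led Lsl_bf (LP (LK LD1_c13 LD2_c37 LD3_c51)) = (LP (LK LD1_c21 LD2_c6 LD3_c29)) :=
  Lgr Lrot24 (Lpr_bt (f433054 IH) (Lpn (LP (LK LD1_c21 LD2_c6 LD3_c29))))
theorem f434911 : Led Lsl_bt (LP (LK LD1_c22 LD2_c8 LD3_c56)) = (LP (LK LD1_c29 LD2_c51 LD3_c30)) :=
  Lgr Lrot128 (Lpr_cf (K57.f434888 IH) (Lpe (K57.f433060 IH) (Lpe (f154932 IH) (Lpr_bf (f433056 IH) (Lpe (f433061 IH) (Lpn (LP (LK LD1_c29 LD2_c51 LD3_c30))))))))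
theorem f914697 : Led Lsl_ft (LP (LK LD1_c21 LD2_c28 LD3_c21)) = (LP (LK LD1_c22 LD2_c8 LD3_c56)) :=
  Lgr Lrot75 (Lpe (f155269 IH) (Lpr_ff (f914695 IH) (Lpe (f434911 IH) (Lpn (LP (LK LD1_c22 LD2_c8 LD3_c56))))))
theorem f914699 : Led Lsl_ff (LP (LK LD1_c12 LD2_c21 LD3_c41)) = (LP (LK LD1_c13 LD2_c37 LD3_c50)) :=
  Lgr Lrot23 (Lpr_ct (f434134 IH) (Lpr_ft (f914697 IH) (Lpr_ct (K57.f434913 IH) (Lpn (LP (LK LD1_c13 LD2_c37 LD3_c50))))))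
theorem f914703 : Led Lsl_ft (LP (LK LD1_c12 LD2_c21 LD3_c41)) = (LP (LK LD1_c13 LD2_c37 LD3_c50)) :=
  Lgr Lrot48 (Lpr_ff (f914699 IH) (Lpn (LP (LK LD1_c13 LD2_c37 LD3_c50))))
theorem f434915 : Led Lsl_at (LP (LK LD1_c13 LD2_c37 LD3_c50)) = (LP (LK LD1_c23 LD2_c2 LD3_c45)) :=
  Lre_a IH (LK LD1_c13 LD2_c37 LD3_c50) (LK LD1_c23 LD2_c2 LD3_c45) Lrfl Lrfl
theorem f914707 : Led Lsl_gt (LP (LK LD1_c17 LD2_c16 LD3_c26)) = (LP (LK LD1_c23 LD2_c2 LD3_c45)) :=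
  Lgr Lrot46 (Lpe (f907030 IH) (Lpr_ft (f914703 IH) (Lpr_at (f434915 IH) (Lpn (LP (LK LD1_c23 LD2_c2 LD3_c45))))))
theorem f906938 : Led Lsl_ft (LP (LK LD1_c17 LD2_c16 LD3_c26)) = (LP (LK LD1_c23 LD2_c2 LD3_c44)) :=
  Lgr Lrot48 (Lpr_ff (f906936 IH) (Lpn (LP (LK LD1_c23 LD2_c2 LD3_c44))))
theorem f906933 : Led Lsl_af v39182 = (LP (LK LD1_c23 LD2_c2 LD3_c44)) :=
  Lgr Lrot0 (Lpr_at (f906932 IH) (Lpn (LP (LK LD1_c23 LD2_c2 LD3_c44))))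
theorem f914709 : Led Lsl_gf v39182 = (LP (LK LD1_c23 LD2_c2 LD3_c45)) :=
  Lgr Lrot76 (Lpr_af (f906933 IH) (Lpe (f906938 IH) (Lpr_gt (f914707 IH) (Lpn (LP (LK LD1_c23 LD2_c2 LD3_c45))))))
theorem f914712 : Led Lsl_df (LP (LK LD1_c17 LD2_c14 LD3_c30)) = (LP (LK LD1_c23 LD2_c2 LD3_c45)) :=
  Lgr Lrot155 (Lpr_gt (K60.f82812 IH) (Lpr_ct (K60.f438851 IH) (Lpr_gt (K60.f84543 IH) (Lpr_ct (K60.f84531 IH) (Lpr_dt (K6.f84517 IH) (Lpe (K6.f84372 IH) (Lpe (f84404 IH) (Lpe (f907368 IH) (Lpr_gf (f914709 IH) (Lpn (LP (LK LD1_c23 LD2_c2 LD3_c45))))))))))))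
theorem f434910 : Led Lsl_at (LP (LK LD1_c23 LD2_c2 LD3_c45)) = (LP (LK LD1_c13 LD2_c37 LD3_c50)) :=
  Lre_a IH (LK LD1_c23 LD2_c2 LD3_c45) (LK LD1_c13 LD2_c37 LD3_c50) Lrfl Lrfl
theorem f135474 : Led Lsl_gt (LP (LK LD1_c17 LD2_c16 LD3_c25)) = (LP (LK LD1_c9 LD2_c20 LD3_c32)) :=
  Lre_g IH (LK LD1_c17 LD2_c16 LD3_c25) (LK LD1_c9 LD2_c20 LD3_c32) Lrfl Lrfl
theorem f906928 : Led Lsl_ff (LP (LK LD1_c23 LD2_c2 LD3_c45)) = (LP (LK LD1_c17 LD2_c16 LD3_c25)) :=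
  Lgr Lrot52 (Lpr_at (f434910 IH) (Lpr_gf (f783771 IH) (Lpqs (f906901 IH) (Lpe (f135474 IH) (Lpn (LP (LK LD1_c17 LD2_c16 LD3_c25)))))))
theorem f914738 : Led Lsl_dt (LP (LK LD1_c17 LD2_c35 LD3_c31)) = (LP (LK LD1_c17 LD2_c16 LD3_c25)) :=
  Lgr Lrot60 (Lpr_ff (f783174 IH) (Lpr_df (f914712 IH) (Lpr_ff (f906928 IH) (Lpn (LP (LK LD1_c17 LD2_c16 LD3_c25))))))
theorem f121449 : Led Lsl_gt (LP (LK LD1_c14 LD2_c56 LD3_c40)) = (LP (LK LD1_c7 LD2_c55 LD3_c14)) :=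
  Lre_g IH (LK LD1_c14 LD2_c56 LD3_c40) (LK LD1_c7 LD2_c55 LD3_c14) Lrfl Lrfl
theorem f135472 : Led Lsl_ct (LP (LK LD1_c9 LD2_c20 LD3_c32)) = (LP (LK LD1_c14 LD2_c56 LD3_c40)) :=
  Lgr Lrot64 (Lpr_bt (f61264 IH) (Lpe (f61263 IH) (Lpe (K16.f61262 IH) (Lpr_ct (K7.f25747 IH) (Lpe (K6.f61256 IH) (Lpe (K6.f61259 IH) (Lpr_gf (K6.f135468 IH) (Lpe (f121407 IH) (Lpr_ct (f121439 IH) (Lpe (f121449 IH) (Lpn (LP (LK LD1_c14 LD2_c56 LD3_c40)))))))))))))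
theorem f121408 : Led Lsl_cf (LP (LK LD1_c4 LD2_c50 LD3_c19)) = (LP (LK LD1_c7 LD2_c55 LD3_c14)) :=
  Lgr Lrot97 (Lpr_bt (f121407 IH) (Lpr_ct (K7.f121406 IH) (Lpr_bt (K7.f121385 IH) (Lpr_ct (K7.f94390 IH) (Lpr_bt (f94392 IH) (Lpn (LP (LK LD1_c7 LD2_c55 LD3_c14))))))))
theorem f914742 : Led Lsl_gt (LP (LK LD1_c17 LD2_c35 LD3_c31)) = (LP (LK LD1_c12 LD2_c20 LD3_c14)) :=
  Lgr Lrot146 (Lpr_dt (f914738 IH) (Lpr_gt (f135474 IH) (Lpr_ct (f135472 IH) (Lpr_gt (f121449 IH) (Lpe (f121408 IH) (Lpe (f145943 IH) (Lpe (K6.f113205 IH) (Lpe (K60.f113212 IH) (Lpr_cf (K60.f782993 IH) (Lpn (LP (LK LD1_c12 LD2_c20 LD3_c14))))))))))))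
def v39046 : LQ := Led Lsl_at (LP (LK LD1_c9 LD2_c19 LD3_c6))
theorem f906147 : Led Lsl_at (LP (LK LD1_c9 LD2_c19 LD3_c6)) = v39046 :=
  Lrfl
theorem f783039 : Led Lsl_ft (LP (LK LD1_c12 LD2_c20 LD3_c14)) = (LP (LK LD1_c9 LD2_c19 LD3_c6)) :=
  Lgr Lrot4 (Lpe (K60.f783003 IH) (Lpr_ff (K60.f783035 IH) (Lpe (K60.f438851 IH) (Lpn (LP (LK LD1_c9 LD2_c19 LD3_c6))))))
theorem f906152 : Led Lsl_ff (LP (LK LD1_c17 LD2_c35 LD3_c30)) = v39046 :=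
  Lgr Lrot30 (Lpr_at (K60.f765821 IH) (Lpr_ft (f783039 IH) (Lpr_at (f906147 IH) (Lpn v39046))))
theorem f914744 : Led Lsl_gf (LP (LK LD1_c17 LD2_c35 LD3_c31)) = v39046 :=
  Lgr Lrot47 (Lpr_gt (f914742 IH) (Lpe (K60.f765821 IH) (Lpr_ff (f906152 IH) (Lpn v39046))))
theorem f906155 : Led Lsl_ct (LP (LK LD1_c13 LD2_c0 LD3_c36)) = v39046 :=
  Lgr Lrot40 (Lpr_ff (K60.f783027 IH) (Lpr_cf (K60.f444449 IH) (Lpr_ff (f906152 IH) (Lpn v39046))))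
theorem f134208 : Led Lsl_bt (LP (LK LD1_c3 LD2_c14 LD3_c48)) = (LP (LK LD1_c6 LD2_c33 LD3_c5)) :=
  Lre_b IH (LK LD1_c3 LD2_c14 LD3_c48) (LK LD1_c6 LD2_c33 LD3_c5) Lrfl Lrfl
theorem f134235 : Led Lsl_gt (LP (LK LD1_c12 LD2_c33 LD3_c28)) = (LP (LK LD1_c6 LD2_c33 LD3_c5)) :=
  Lre_g IH (LK LD1_c12 LD2_c33 LD3_c28) (LK LD1_c6 LD2_c33 LD3_c5) Lrfl Lrfl
theorem f134252 : Led Lsl_bt (LP (LK LD1_c21 LD2_c39 LD3_c41)) = (LP (LK LD1_c12 LD2_c33 LD3_c28)) :=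
  Lre_b IH (LK LD1_c21 LD2_c39 LD3_c41) (LK LD1_c12 LD2_c33 LD3_c28) Lrfl Lrfl
theorem f914746 : Led Lsl_cf (LP (LK LD1_c17 LD2_c35 LD3_c31)) = (LP (LK LD1_c21 LD2_c39 LD3_c41)) :=
  Lgr Lrot163 (Lpr_gf (f914744 IH) (Lpe (f906155 IH) (Lpe (K60.f113211 IH) (Lpe (K6.f113170 IH) (Lpr_ct (K6.f113161 IH) (Lpe (K6.f143745 IH) (Lpe (K5.f24355 IH) (Lpr_bt (f134208 IH) (Lpe (f134235 IH) (Lpe (f134252 IH) (Lpn (LP (LK LD1_c21 LD2_c39 LD3_c41)))))))))))))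
theorem f783176 : Led Lsl_ft (LP (LK LD1_c17 LD2_c35 LD3_c31)) = (LP (LK LD1_c17 LD2_c14 LD3_c30)) :=
  Lgr Lrot48 (Lpr_ff (f783174 IH) (Lpn (LP (LK LD1_c17 LD2_c14 LD3_c30))))
theorem f914752 : Led Lsl_ft (LP (LK LD1_c22 LD2_c10 LD3_c57)) = (LP (LK LD1_c21 LD2_c39 LD3_c41)) :=
  Lgr Lrot4 (Lpe (K60.f784080 IH) (Lpe (f783176 IH) (Lpr_cf (f914746 IH) (Lpn (LP (LK LD1_c21 LD2_c39 LD3_c41))))))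
theorem f914756 : Led Lsl_ff (LP (LK LD1_c22 LD2_c10 LD3_c57)) = (LP (LK LD1_c21 LD2_c39 LD3_c41)) :=
  Lgr Lrot3 (Lpr_ft (f914752 IH) (Lpn (LP (LK LD1_c21 LD2_c39 LD3_c41))))
theorem f762565 : Led Lsl_ct (LP (LK LD1_c12 LD2_c27 LD3_c11)) = (LP (LK LD1_c12 LD2_c20 LD3_c25)) :=
  Lgr Lrot59 (Lpr_cf (K57.f762563 IH) (Lpn (LP (LK LD1_c12 LD2_c20 LD3_c25))))
theorem f67604 : Led Lsl_bt (LP (LK LD1_c21 LD2_c34 LD3_c31)) = (LP (LK LD1_c12 LD2_c27 LD3_c11)) :=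
  Lre_b IH (LK LD1_c21 LD2_c34 LD3_c31) (LK LD1_c12 LD2_c27 LD3_c11) Lrfl Lrfl
theorem f134057 : Led Lsl_bt (LP (LK LD1_c21 LD2_c4 LD3_c54)) = (LP (LK LD1_c12 LD2_c0 LD3_c5)) :=
  Lre_b IH (LK LD1_c21 LD2_c4 LD3_c54) (LK LD1_c12 LD2_c0 LD3_c5) Lrfl Lrfl
theorem f127167 : Led Lsl_ct (LP (LK LD1_c21 LD2_c4 LD3_c54)) = (LP (LK LD1_c12 LD2_c0 LD3_c6)) :=
  Lre_c IH (LK LD1_c21 LD2_c4 LD3_c54) (LK LD1_c12 LD2_c0 LD3_c6) Lrfl Lrfl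
theorem f127158 : Led Lsl_gt (LP (LK LD1_c21 LD2_c4 LD3_c57)) = (LP (LK LD1_c12 LD2_c0 LD3_c6)) :=
  Lre_g IH (LK LD1_c21 LD2_c4 LD3_c57) (LK LD1_c12 LD2_c0 LD3_c6) Lrfl Lrfl
theorem f134536 : Led Lsl_cf (LP (LK LD1_c21 LD2_c4 LD3_c57)) = (LP (LK LD1_c21 LD2_c34 LD3_c31)) :=
  Lgr Lrot160 (Lpr_gt (f127158 IH) (Lpe (f127167 IH) (Lpr_bt (f134057 IH) (Lpr_gt (K5.f134055 IH) (Lpr_ct (K5.f67913 IH) (Lpr_gt (K5.f67906 IH) (Lpe (K2.f67635 IH) (Lpr_bt (K2.f67589 IH) (Lpr_gt (K57.f67598 IH) (Lpe (f67604 IH) (Lpn (LP (LK LD1_c21 LD2_c34 LD3_c31)))))))))))))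
theorem f438964 : Led Lsl_ct (LP (LK LD1_c21 LD2_c4 LD3_c57)) = (LP (LK LD1_c21 LD2_c34 LD3_c31)) :=
  Lgr Lrot59 (Lpr_cf (f134536 IH) (Lpn (LP (LK LD1_c21 LD2_c34 LD3_c31))))
theorem f784082 : Led Lsl_bf (LP (LK LD1_c21 LD2_c4 LD3_c57)) = (LP (LK LD1_c22 LD2_c10 LD3_c57)) :=
  Lgr Lrot90 (Lpr_ct (f438964 IH) (Lpr_bt (f67604 IH) (Lpr_ct (f762565 IH) (Lpe (K60.f762567 IH) (Lpr_ct (K60.f784080 IH) (Lpn (LP (LK LD1_c22 LD2_c10 LD3_c57))))))))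
theorem f134242 : Led Lsl_bt (LP (LK LD1_c12 LD2_c33 LD3_c28)) = (LP (LK LD1_c21 LD2_c39 LD3_c41)) :=
  Lre_b IH (LK LD1_c12 LD2_c33 LD3_c28) (LK LD1_c21 LD2_c39 LD3_c41) Lrfl Lrfl
theorem f914760 : Led Lsl_ft (LP (LK LD1_c21 LD2_c4 LD3_c57)) = (LP (LK LD1_c12 LD2_c33 LD3_c28)) :=
  Lgr Lrot75 (Lpr_bf (f784082 IH) (Lpr_ff (f914756 IH) (Lpe (f134242 IH) (Lpn (LP (LK LD1_c12 LD2_c33 LD3_c28))))))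
theorem f127160 : Led Lsl_gt (LP (LK LD1_c12 LD2_c0 LD3_c6)) = (LP (LK LD1_c21 LD2_c4 LD3_c56)) :=
  Lre_g IH (LK LD1_c12 LD2_c0 LD3_c6) (LK LD1_c21 LD2_c4 LD3_c56) Lrfl Lrfl
theorem f914764 : Led Lsl_af (LP (LK LD1_c21 LD2_c4 LD3_c56)) = (LP (LK LD1_c12 LD2_c33 LD3_c28)) :=
  Lgr Lrot31 (Lpe (f127160 IH) (Lpe (f127158 IH) (Lpr_ft (f914760 IH) (Lpn (LP (LK LD1_c12 LD2_c33 LD3_c28))))))
theorem f914767 : Led Lsl_at (LP (LK LD1_c21 LD2_c4 LD3_c56)) = (LP (LK LD1_c12 LD2_c33 LD3_c28)) :=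
  Lgr Lrot100 (Lpr_af (f914764 IH) (Lpn (LP (LK LD1_c12 LD2_c33 LD3_c28))))
theorem f127151 : Led Lsl_at (LP (LK LD1_c12 LD2_c0 LD3_c6)) = (LP (LK LD1_c21 LD2_c4 LD3_c58)) :=
  Lre_a IH (LK LD1_c12 LD2_c0 LD3_c6) (LK LD1_c21 LD2_c4 LD3_c58) Lrfl Lrfl
theorem f134205 : Led Lsl_at (LP (LK LD1_c12 LD2_c33 LD3_c29)) = (LP (LK LD1_c6 LD2_c33 LD3_c5)) :=
  Lre_a IH (LK LD1_c12 LD2_c33 LD3_c29) (LK LD1_c6 LD2_c33 LD3_c5) Lrfl Lrfl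
theorem f134206 : Led Lsl_ft (LP (LK LD1_c21 LD2_c4 LD3_c58)) = (LP (LK LD1_c12 LD2_c33 LD3_c29)) :=
  Lgr Lrot101 (Lpe (f127151 IH) (Lpr_ff (K6.f134193 IH) (Lpe (f134205 IH) (Lpn (LP (LK LD1_c12 LD2_c33 LD3_c29))))))
theorem f134322 : Led Lsl_gt (LP (LK LD1_c21 LD2_c4 LD3_c58)) = (LP (LK LD1_c12 LD2_c33 LD3_c28)) :=
  Lgr Lrot5 (Lpr_ft (f134206 IH) (Lpr_at (f134205 IH) (Lpe (f134235 IH) (Lpn (LP (LK LD1_c12 LD2_c33 LD3_c28))))))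
theorem f133537 : Led Lsl_gt (LP (LK LD1_c6 LD2_c33 LD3_c5)) = (LP (LK LD1_c12 LD2_c33 LD3_c27)) :=
  Lre_g IH (LK LD1_c6 LD2_c33 LD3_c5) (LK LD1_c12 LD2_c33 LD3_c27) Lrfl Lrfl
theorem f134212 : Led Lsl_gf (LP (LK LD1_c21 LD2_c4 LD3_c58)) = (LP (LK LD1_c12 LD2_c33 LD3_c27)) :=
  Lgr Lrot76 (Lpe (f127151 IH) (Lpr_ff (K6.f134193 IH) (Lpr_gt (f133537 IH) (Lpn (LP (LK LD1_c12 LD2_c33 LD3_c27))))))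
theorem f914779 : Led Lsl_ff (LP (LK LD1_c21 LD2_c4 LD3_c56)) = (LP (LK LD1_c12 LD2_c33 LD3_c27)) :=
  Lgr Lrot52 (Lpr_at (f914767 IH) (Lpe (f134322 IH) (Lpr_gf (f134212 IH) (Lpn (LP (LK LD1_c12 LD2_c33 LD3_c27))))))
theorem f914786 : Led Lsl_ft (LP (LK LD1_c21 LD2_c4 LD3_c56)) = (LP (LK LD1_c12 LD2_c33 LD3_c27)) :=
  Lgr Lrot48 (Lpr_ff (f914779 IH) (Lpn (LP (LK LD1_c12 LD2_c33 LD3_c27))))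
theorem f134058 : Led Lsl_ct (LP (LK LD1_c29 LD2_c50 LD3_c36)) = (LP (LK LD1_c21 LD2_c4 LD3_c56)) :=
  Lre_c IH (LK LD1_c29 LD2_c50 LD3_c36) (LK LD1_c21 LD2_c4 LD3_c56) Lrfl Lrfl
theorem f134216 : Led Lsl_ct (LP (LK LD1_c12 LD2_c33 LD3_c27)) = (LP (LK LD1_c21 LD2_c39 LD3_c38)) :=
  Lre_c IH (LK LD1_c12 LD2_c33 LD3_c27) (LK LD1_c21 LD2_c39 LD3_c38) Lrfl Lrfl
theorem f914790 : Led Lsl_ff (LP (LK LD1_c29 LD2_c50 LD3_c36)) = (LP (LK LD1_c21 LD2_c39 LD3_c38)) :=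
  Lgr Lrot23 (Lpr_ct (f134058 IH) (Lpr_ft (f914786 IH) (Lpr_ct (f134216 IH) (Lpn (LP (LK LD1_c21 LD2_c39 LD3_c38))))))
theorem f134199 : Led Lsl_ct (LP (LK LD1_c21 LD2_c4 LD3_c56)) = (LP (LK LD1_c29 LD2_c50 LD3_c36)) :=
  Lre_c IH (LK LD1_c21 LD2_c4 LD3_c56) (LK LD1_c29 LD2_c50 LD3_c36) Lrfl Lrfl
theorem f67571 : Led Lsl_gt (LP (LK LD1_c6 LD2_c18 LD3_c47)) = (LP (LK LD1_c12 LD2_c13 LD3_c23)) :=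
  Lre_g IH (LK LD1_c6 LD2_c18 LD3_c47) (LK LD1_c12 LD2_c13 LD3_c23) Lrfl Lrfl
theorem f67580 : Led Lsl_bt (LP (LK LD1_c21 LD2_c19 LD3_c19)) = (LP (LK LD1_c12 LD2_c13 LD3_c23)) :=
  Lre_b IH (LK LD1_c21 LD2_c19 LD3_c19) (LK LD1_c12 LD2_c13 LD3_c23) Lrfl Lrfl
theorem f134236 : Led Lsl_ct (LP (LK LD1_c21 LD2_c19 LD3_c19)) = (LP (LK LD1_c12 LD2_c33 LD3_c28)) :=
  Lgr Lrot64 (Lpr_bt (f67580 IH) (Lpe (f67571 IH) (Lpe (K7.f67560 IH) (Lpr_ct (K2.f25079 IH) (Lpr_gf (K5.f78164 IH) (Lpe (K5.f61731 IH) (Lpr_gf (K6.f134231 IH) (Lpe (K6.f133535 IH) (Lpr_ct (K6.f133536 IH) (Lpe (f134235 IH) (Lpn (LP (LK LD1_c12 LD2_c33 LD3_c28)))))))))))))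
theorem f914769 : Led Lsl_at (LP (LK LD1_c29 LD2_c50 LD3_c36)) = (LP (LK LD1_c21 LD2_c19 LD3_c19)) :=
  Lgr Lrot107 (Lpe (f134199 IH) (Lpr_af (f914764 IH) (Lpe (f134236 IH) (Lpn (LP (LK LD1_c21 LD2_c19 LD3_c19))))))
theorem f134243 : Led Lsl_cf (LP (LK LD1_c21 LD2_c19 LD3_c19)) = (LP (LK LD1_c12 LD2_c33 LD3_c28)) :=
  Lgr Lrot11 (Lpr_ct (f134236 IH) (Lpn (LP (LK LD1_c12 LD2_c33 LD3_c28))))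
theorem f914762 : Led Lsl_ff (LP (LK LD1_c21 LD2_c34 LD3_c31)) = (LP (LK LD1_c21 LD2_c19 LD3_c19)) :=
  Lgr Lrot23 (Lpe (f134536 IH) (Lpr_ft (f914760 IH) (Lpe (f134243 IH) (Lpn (LP (LK LD1_c21 LD2_c19 LD3_c19))))))
theorem f914794 : Led Lsl_at (LP (LK LD1_c21 LD2_c34 LD3_c31)) = (LP (LK LD1_c21 LD2_c39 LD3_c38)) :=
  Lgr Lrot66 (Lpr_ff (f914762 IH) (Lpe (f914769 IH) (Lpr_ff (f914790 IH) (Lpn (LP (LK LD1_c21 LD2_c39 LD3_c38))))))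
theorem f438966 : Led Lsl_dt (LP (LK LD1_c30 LD2_c4 LD3_c43)) = (LP (LK LD1_c21 LD2_c34 LD3_c31)) :=
  Lre_d IH (LK LD1_c30 LD2_c4 LD3_c43) (LK LD1_c21 LD2_c34 LD3_c31) Lrfl Lrfl
theorem f914802 : Led Lsl_dt (LP (LK LD1_c21 LD2_c39 LD3_c38)) = (LP (LK LD1_c30 LD2_c6 LD3_c37)) :=
  Lre_d IH (LK LD1_c21 LD2_c39 LD3_c38) (LK LD1_c30 LD2_c6 LD3_c37) Lrfl Lrfl
theorem f914810 : Led Lsl_af (LP (LK LD1_c30 LD2_c4 LD3_c43)) = (LP (LK LD1_c30 LD2_c6 LD3_c37)) :=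
  Lgr Lrot117 (Lpr_dt (f438966 IH) (Lpr_at (f914794 IH) (Lpr_dt (f914802 IH) (Lpn (LP (LK LD1_c30 LD2_c6 LD3_c37))))))
theorem f914778 : Led Lsl_dt (LP (LK LD1_c29 LD2_c50 LD3_c36)) = (LP (LK LD1_c32 LD2_c48 LD3_c18)) :=
  Lre_d IH (LK LD1_c29 LD2_c50 LD3_c36) (LK LD1_c32 LD2_c48 LD3_c18) Lrfl Lrfl
theorem f914796 : Led Lsl_dt (LP (LK LD1_c30 LD2_c6 LD3_c37)) = (LP (LK LD1_c21 LD2_c39 LD3_c38)) :=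
  Lre_d IH (LK LD1_c30 LD2_c6 LD3_c37) (LK LD1_c21 LD2_c39 LD3_c38) Lrfl Lrfl
theorem f914797 : Led Lsl_ft (LP (LK LD1_c32 LD2_c48 LD3_c18)) = (LP (LK LD1_c30 LD2_c6 LD3_c37)) :=
  Lgr Lrot54 (Lpe (f914778 IH) (Lpr_ff (f914790 IH) (Lpe (f914796 IH) (Lpn (LP (LK LD1_c30 LD2_c6 LD3_c37))))))
theorem f914766 : Led Lsl_dt (LP (LK LD1_c32 LD2_c48 LD3_c18)) = (LP (LK LD1_c29 LD2_c50 LD3_c36)) :=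
  Lre_d IH (LK LD1_c32 LD2_c48 LD3_c18) (LK LD1_c29 LD2_c50 LD3_c36) Lrfl Lrfl
theorem f134253 : Led Lsl_dt (LP (LK LD1_c21 LD2_c19 LD3_c19)) = (LP (LK LD1_c29 LD2_c58 LD3_c18)) :=
  Lre_d IH (LK LD1_c21 LD2_c19 LD3_c19) (LK LD1_c29 LD2_c58 LD3_c18) Lrfl Lrfl
theorem f914773 : Led Lsl_af (LP (LK LD1_c32 LD2_c48 LD3_c18)) = (LP (LK LD1_c29 LD2_c58 LD3_c18)) :=
  Lgr Lrot117 (Lpr_dt (f914766 IH) (Lpr_at (f914769 IH) (Lpr_dt (f134253 IH) (Lpn (LP (LK LD1_c29 LD2_c58 LD3_c18))))))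
theorem f914814 : Led Lsl_ft (LP (LK LD1_c30 LD2_c4 LD3_c43)) = (LP (LK LD1_c29 LD2_c58 LD3_c18)) :=
  Lgr Lrot101 (Lpr_af (f914810 IH) (Lpe (f914797 IH) (Lpr_af (f914773 IH) (Lpn (LP (LK LD1_c29 LD2_c58 LD3_c18))))))
theorem f914819 : Led Lsl_ff (LP (LK LD1_c30 LD2_c4 LD3_c43)) = (LP (LK LD1_c29 LD2_c58 LD3_c18)) :=
  Lgr Lrot3 (Lpr_ft (f914814 IH) (Lpn (LP (LK LD1_c29 LD2_c58 LD3_c18))))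
theorem f914823 : Led Lsl_ft (LP (LK LD1_c21 LD2_c34 LD3_c31)) = (LP (LK LD1_c21 LD2_c19 LD3_c19)) :=
  Lgr Lrot54 (Lpe (f438966 IH) (Lpr_ff (f914819 IH) (Lpe (f134253 IH) (Lpn (LP (LK LD1_c21 LD2_c19 LD3_c19))))))
theorem f134581 : Led Lsl_bt (LP (LK LD1_c12 LD2_c27 LD3_c11)) = (LP (LK LD1_c21 LD2_c34 LD3_c31)) :=
  Lre_b IH (LK LD1_c12 LD2_c27 LD3_c11) (LK LD1_c21 LD2_c34 LD3_c31) Lrfl Lrfl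
theorem f914825 : Led Lsl_ff (LP (LK LD1_c12 LD2_c27 LD3_c11)) = (LP (LK LD1_c12 LD2_c13 LD3_c23)) :=
  Lgr Lrot25 (Lpr_bt (f134581 IH) (Lpr_ft (f914823 IH) (Lpr_bt (f67580 IH) (Lpn (LP (LK LD1_c12 LD2_c13 LD3_c23))))))
theorem f67572 : Led Lsl_gt (LP (LK LD1_c12 LD2_c13 LD3_c23)) = (LP (LK LD1_c12 LD2_c27 LD3_c13)) :=
  Lgr Lrot46 (Lpe (f67571 IH) (Lpr_ft (K2.f67535 IH) (Lpr_at (K3.f67557 IH) (Lpn (LP (LK LD1_c12 LD2_c27 LD3_c13))))))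
theorem f914829 : Led Lsl_at (LP (LK LD1_c12 LD2_c27 LD3_c11)) = (LP (LK LD1_c12 LD2_c13 LD3_c24)) :=
  Lgr Lrot26 (Lpr_ff (f914825 IH) (Lpr_gt (f67572 IH) (Lpe (K3.f67967 IH) (Lpn (LP (LK LD1_c12 LD2_c13 LD3_c24))))))
theorem f914808 : Led Lsl_af (LP (LK LD1_c21 LD2_c34 LD3_c31)) = (LP (LK LD1_c21 LD2_c39 LD3_c38)) :=
  Lgr Lrot0 (Lpr_at (f914794 IH) (Lpn (LP (LK LD1_c21 LD2_c39 LD3_c38))))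
theorem f85997 : Led Lsl_bt (LP (LK LD1_c12 LD2_c13 LD3_c24)) = (LP (LK LD1_c21 LD2_c19 LD3_c21)) :=
  Lre_b IH (LK LD1_c12 LD2_c13 LD3_c24) (LK LD1_c21 LD2_c19 LD3_c21) Lrfl Lrfl
theorem f86448 : Led Lsl_at (LP (LK LD1_c21 LD2_c19 LD3_c21)) = (LP (LK LD1_c29 LD2_c58 LD3_c20)) :=
  Lre_a IH (LK LD1_c21 LD2_c19 LD3_c21) (LK LD1_c29 LD2_c58 LD3_c20) Lrfl Lrfl
theorem f914833 : Led Lsl_bf (LP (LK LD1_c21 LD2_c39 LD3_c38)) = (LP (LK LD1_c29 LD2_c58 LD3_c20)) :=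
  Lgr Lrot81 (Lpe (f914808 IH) (Lpr_bt (f67604 IH) (Lpr_at (f914829 IH) (Lpr_bt (f85997 IH) (Lpr_at (f86448 IH) (Lpn (LP (LK LD1_c29 LD2_c58 LD3_c20))))))))
theorem f133538 : Led Lsl_ct (LP (LK LD1_c21 LD2_c39 LD3_c38)) = (LP (LK LD1_c12 LD2_c33 LD3_c27)) :=
  Lre_c IH (LK LD1_c21 LD2_c39 LD3_c38) (LK LD1_c12 LD2_c33 LD3_c27) Lrfl Lrfl
theorem f143816 : Led Lsl_bt (LP (LK LD1_c12 LD2_c33 LD3_c27)) = (LP (LK LD1_c21 LD2_c39 LD3_c37)) :=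
  Lre_b IH (LK LD1_c12 LD2_c33 LD3_c27) (LK LD1_c21 LD2_c39 LD3_c37) Lrfl Lrfl
theorem f143755 : Led Lsl_bt (LP (LK LD1_c6 LD2_c49 LD3_c9)) = (LP (LK LD1_c13 LD2_c0 LD3_c35)) :=
  Lre_b IH (LK LD1_c6 LD2_c49 LD3_c9) (LK LD1_c13 LD2_c0 LD3_c35) Lrfl Lrfl
theorem f143805 : Led Lsl_ft (LP (LK LD1_c13 LD2_c0 LD3_c35)) = (LP (LK LD1_c12 LD2_c59 LD3_c31)) :=
  Lgr Lrot75 (Lpe (f143755 IH) (Lpr_ff (K46.f143801 IH) (Lpe (f134078 IH) (Lpn (LP (LK LD1_c12 LD2_c59 LD3_c31))))))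
theorem f143809 : Led Lsl_ff (LP (LK LD1_c13 LD2_c0 LD3_c35)) = (LP (LK LD1_c12 LD2_c59 LD3_c31)) :=
  Lgr Lrot3 (Lpr_ft (f143805 IH) (Lpn (LP (LK LD1_c12 LD2_c59 LD3_c31))))
theorem f134079 : Led Lsl_ct (LP (LK LD1_c17 LD2_c10 LD3_c12)) = (LP (LK LD1_c12 LD2_c59 LD3_c31)) :=
  Lgr Lrot83 (Lpe (f133316 IH) (Lpe (K11.f133818 IH) (Lpr_bf (K2.f23510 IH) (Lpr_cf (K6.f134073 IH) (Lpe (f134078 IH) (Lpn (LP (LK LD1_c12 LD2_c59 LD3_c31))))))))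
theorem f136088 : Led Lsl_at (LP (LK LD1_c17 LD2_c10 LD3_c14)) = (LP (LK LD1_c12 LD2_c16 LD3_c2)) :=
  Lgr Lrot107 (Lpe (f133823 IH) (Lpr_af (K52.f136082 IH) (Lpe (K51.f126994 IH) (Lpn (LP (LK LD1_c12 LD2_c16 LD3_c2))))))
theorem f84045 : Led Lsl_et (LP (LK LD1_c12 LD2_c16 LD3_c2)) = (LP (LK LD1_c6 LD2_c20 LD3_c59)) :=
  Lre_e IH (LK LD1_c12 LD2_c16 LD3_c2) (LK LD1_c6 LD2_c20 LD3_c59) Lrfl Lrfl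
theorem f136092 : Led Lsl_af (LP (LK LD1_c9 LD2_c15 LD3_c48)) = (LP (LK LD1_c6 LD2_c20 LD3_c59)) :=
  Lgr Lrot50 (Lpr_et (K51.f113628 IH) (Lpr_at (f136088 IH) (Lpr_et (f84045 IH) (Lpn (LP (LK LD1_c6 LD2_c20 LD3_c59))))))
theorem f136098 : Led Lsl_ft (LP (LK LD1_c9 LD2_c15 LD3_c47)) = (LP (LK LD1_c6 LD2_c20 LD3_c59)) :=
  Lgr Lrot2 (Lpe (K5.f113590 IH) (Lpr_gt (K5.f113616 IH) (Lpr_af (f136092 IH) (Lpn (LP (LK LD1_c6 LD2_c20 LD3_c59))))))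
theorem f136102 : Led Lsl_ff (LP (LK LD1_c9 LD2_c15 LD3_c47)) = (LP (LK LD1_c6 LD2_c20 LD3_c59)) :=
  Lgr Lrot3 (Lpr_ft (f136098 IH) (Lpn (LP (LK LD1_c6 LD2_c20 LD3_c59))))
theorem f99118 : Led Lsl_gt (LP (LK LD1_c6 LD2_c17 LD3_c19)) = (LP (LK LD1_c12 LD2_c11 LD3_c6)) :=
  Lre_g IH (LK LD1_c6 LD2_c17 LD3_c19) (LK LD1_c12 LD2_c11 LD3_c6) Lrfl Lrfl
theorem f136106 : Led Lsl_at (LP (LK LD1_c9 LD2_c15 LD3_c47)) = (LP (LK LD1_c12 LD2_c11 LD3_c6)) :=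
  Lgr Lrot26 (Lpr_ff (f136102 IH) (Lpr_gt (K5.f113485 IH) (Lpr_gt (f99118 IH) (Lpn (LP (LK LD1_c12 LD2_c11 LD3_c6))))))
theorem f136094 : Led Lsl_at (LP (LK LD1_c9 LD2_c15 LD3_c48)) = (LP (LK LD1_c6 LD2_c20 LD3_c59)) :=
  Lgr Lrot100 (Lpr_af (f136092 IH) (Lpn (LP (LK LD1_c6 LD2_c20 LD3_c59))))
theorem f136112 : Led Lsl_ff (LP (LK LD1_c9 LD2_c15 LD3_c48)) = (LP (LK LD1_c12 LD2_c11 LD3_c6)) :=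
  Lgr Lrot30 (Lpr_at (f136094 IH) (Lpe (f136102 IH) (Lpr_at (f136106 IH) (Lpn (LP (LK LD1_c12 LD2_c11 LD3_c6))))))
theorem f136118 : Led Lsl_ft (LP (LK LD1_c9 LD2_c15 LD3_c48)) = (LP (LK LD1_c12 LD2_c11 LD3_c6)) :=
  Lgr Lrot48 (Lpr_ff (f136112 IH) (Lpn (LP (LK LD1_c12 LD2_c11 LD3_c6))))
theorem f133326 : Led Lsl_bt (LP (LK LD1_c12 LD2_c11 LD3_c6)) = (LP (LK LD1_c21 LD2_c16 LD3_c20)) :=
  Lre_b IH (LK LD1_c12 LD2_c11 LD3_c6) (LK LD1_c21 LD2_c16 LD3_c20) Lrfl Lrfl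
theorem f136120 : Led Lsl_ff (LP (LK LD1_c17 LD2_c10 LD3_c12)) = (LP (LK LD1_c21 LD2_c16 LD3_c20)) :=
  Lgr Lrot25 (Lpr_bt (f79575 IH) (Lpr_ft (f136118 IH) (Lpr_bt (f133326 IH) (Lpn (LP (LK LD1_c21 LD2_c16 LD3_c20))))))
theorem f143811 : Led Lsl_ct (LP (LK LD1_c13 LD2_c0 LD3_c35)) = (LP (LK LD1_c21 LD2_c16 LD3_c20)) :=
  Lgr Lrot40 (Lpr_ff (f143809 IH) (Lpe (f134079 IH) (Lpr_ff (f136120 IH) (Lpn (LP (LK LD1_c21 LD2_c16 LD3_c20))))))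
theorem f143752 : Led Lsl_bt (LP (LK LD1_c13 LD2_c0 LD3_c35)) = (LP (LK LD1_c6 LD2_c49 LD3_c9)) :=
  Lre_b IH (LK LD1_c13 LD2_c0 LD3_c35) (LK LD1_c6 LD2_c49 LD3_c9) Lrfl Lrfl
theorem f134218 : Led Lsl_bt (LP (LK LD1_c21 LD2_c39 LD3_c37)) = (LP (LK LD1_c12 LD2_c33 LD3_c27)) :=
  Lre_b IH (LK LD1_c21 LD2_c39 LD3_c37) (LK LD1_c12 LD2_c33 LD3_c27) Lrfl Lrfl
theorem f133339 : Led Lsl_gt (LP (LK LD1_c29 LD2_c55 LD3_c59)) = (LP (LK LD1_c21 LD2_c16 LD3_c20)) :=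
  Lre_g IH (LK LD1_c29 LD2_c55 LD3_c59) (LK LD1_c21 LD2_c16 LD3_c20) Lrfl Lrfl
theorem f143813 : Led Lsl_ct (LP (LK LD1_c21 LD2_c39 LD3_c37)) = (LP (LK LD1_c29 LD2_c55 LD3_c59)) :=
  Lgr Lrot64 (Lpr_bt (f134218 IH) (Lpe (f133537 IH) (Lpe (f134208 IH) (Lpr_ct (K5.f24355 IH) (Lpe (K6.f24358 IH) (Lpe (K6.f126731 IH) (Lpe (K6.f143787 IH) (Lpe (f143752 IH) (Lpr_ct (f143811 IH) (Lpe (f133339 IH) (Lpn (LP (LK LD1_c29 LD2_c55 LD3_c59)))))))))))))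
theorem f67972 : Led Lsl_bt (LP (LK LD1_c21 LD2_c19 LD3_c21)) = (LP (LK LD1_c12 LD2_c13 LD3_c24)) :=
  Lre_b IH (LK LD1_c21 LD2_c19 LD3_c21) (LK LD1_c12 LD2_c13 LD3_c24) Lrfl Lrfl
theorem f86446 : Led Lsl_cf (LP (LK LD1_c21 LD2_c19 LD3_c21)) = (LP (LK LD1_c17 LD2_c35 LD3_c26)) :=
  Lgr Lrot97 (Lpr_bt (f67972 IH) (Lpr_ct (K60.f86002 IH) (Lpr_bt (K3.f57906 IH) (Lpr_ct (K49.f57897 IH) (Lpr_bt (K49.f57910 IH) (Lpn (LP (LK LD1_c17 LD2_c35 LD3_c26))))))))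
theorem f86449 : Led Lsl_at (LP (LK LD1_c27 LD2_c23 LD3_c29)) = (LP (LK LD1_c17 LD2_c35 LD3_c26)) :=
  Lre_a IH (LK LD1_c27 LD2_c23 LD3_c29) (LK LD1_c17 LD2_c35 LD3_c26) Lrfl Lrfl
theorem f86450 : Led Lsl_ct (LP (LK LD1_c29 LD2_c58 LD3_c20)) = (LP (LK LD1_c27 LD2_c23 LD3_c29)) :=
  Lgr Lrot111 (Lpe (f86448 IH) (Lpr_cf (f86446 IH) (Lpe (f86449 IH) (Lpn (LP (LK LD1_c27 LD2_c23 LD3_c29))))))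
theorem f86460 : Led Lsl_cf (LP (LK LD1_c29 LD2_c58 LD3_c20)) = (LP (LK LD1_c27 LD2_c23 LD3_c29)) :=
  Lgr Lrot11 (Lpr_ct (f86450 IH) (Lpn (LP (LK LD1_c27 LD2_c23 LD3_c29))))
theorem f914910 : Led Lsl_bt (LP (LK LD1_c29 LD2_c55 LD3_c59)) = (LP (LK LD1_c27 LD2_c23 LD3_c29)) :=
  Lgr Lrot128 (Lpe (f143813 IH) (Lpe (f143816 IH) (Lpe (f133538 IH) (Lpr_bf (f914833 IH) (Lpr_cf (f86460 IH) (Lpn (LP (LK LD1_c27 LD2_c23 LD3_c29))))))))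
theorem f914914 : Led Lsl_bf (LP (LK LD1_c29 LD2_c55 LD3_c59)) = (LP (LK LD1_c27 LD2_c23 LD3_c29)) :=
  Lgr Lrot24 (Lpr_bt (f914910 IH) (Lpn (LP (LK LD1_c27 LD2_c23 LD3_c29))))
theorem f86462 : Led Lsl_at (LP (LK LD1_c17 LD2_c35 LD3_c26)) = (LP (LK LD1_c27 LD2_c23 LD3_c29)) :=
  Lre_a IH (LK LD1_c17 LD2_c35 LD3_c26) (LK LD1_c27 LD2_c23 LD3_c29) Lrfl Lrfl
theorem f914436 : Led Lsl_af (LP (LK LD1_c9 LD2_c33 LD3_c9)) = v40201 :=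
  Lgr Lrot0 (Lpr_at (f914435 IH) (Lpn v40201))
theorem f436216 : Led Lsl_bt (LP (LK LD1_c21 LD2_c18 LD3_c1)) = (LP (LK LD1_c12 LD2_c12 LD3_c17)) :=
  Lre_b IH (LK LD1_c21 LD2_c18 LD3_c1) (LK LD1_c12 LD2_c12 LD3_c17) Lrfl Lrfl
theorem f914923 : Led Lsl_at (LP (LK LD1_c29 LD2_c55 LD3_c59)) = (LP (LK LD1_c21 LD2_c18 LD3_c1)) :=
  Lgr Lrot67 (Lpr_bf (f914914 IH) (Lpe (f86462 IH) (Lpe (K49.f57910 IH) (Lpr_af (f914436 IH) (Lpqs (f914515 IH) (Lpe (f436216 IH) (Lpn (LP (LK LD1_c21 LD2_c18 LD3_c1)))))))))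
theorem f153156 : Led Lsl_ct (LP (LK LD1_c21 LD2_c18 LD3_c1)) = (LP (LK LD1_c29 LD2_c57 LD3_c19)) :=
  Lre_c IH (LK LD1_c21 LD2_c18 LD3_c1) (LK LD1_c29 LD2_c57 LD3_c19) Lrfl Lrfl
theorem f914925 : Led Lsl_af (LP (LK LD1_c21 LD2_c39 LD3_c37)) = (LP (LK LD1_c29 LD2_c57 LD3_c19)) :=
  Lgr Lrot68 (Lpr_ct (f143813 IH) (Lpr_at (f914923 IH) (Lpr_ct (f153156 IH) (Lpn (LP (LK LD1_c29 LD2_c57 LD3_c19))))))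
theorem f914788 : Led Lsl_af (LP (LK LD1_c21 LD2_c4 LD3_c57)) = (LP (LK LD1_c12 LD2_c33 LD3_c27)) :=
  Lgr Lrot45 (Lpr_ft (f914760 IH) (Lpe (f914764 IH) (Lpr_ft (f914786 IH) (Lpn (LP (LK LD1_c12 LD2_c33 LD3_c27))))))
theorem f784084 : Led Lsl_cf (LP (LK LD1_c17 LD2_c14 LD3_c30)) = (LP (LK LD1_c22 LD2_c10 LD3_c57)) :=
  Lgr Lrot11 (Lpr_ct (K60.f784080 IH) (Lpn (LP (LK LD1_c22 LD2_c10 LD3_c57))))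
theorem f784090 : Led Lsl_bt (LP (LK LD1_c21 LD2_c4 LD3_c57)) = (LP (LK LD1_c22 LD2_c10 LD3_c57)) :=
  Lgr Lrot128 (Lpr_cf (f134536 IH) (Lpe (f134581 IH) (Lpr_cf (K57.f762563 IH) (Lpe (K60.f762569 IH) (Lpr_cf (f784084 IH) (Lpn (LP (LK LD1_c22 LD2_c10 LD3_c57))))))))
theorem f434927 : Led Lsl_bt (LP (LK LD1_c21 LD2_c17 LD3_c61)) = (LP (LK LD1_c29 LD2_c57 LD3_c19)) :=
  Lre_b IH (LK LD1_c21 LD2_c17 LD3_c61) (LK LD1_c29 LD2_c57 LD3_c19) Lrfl Lrfl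
theorem f914929 : Led Lsl_at (LP (LK LD1_c22 LD2_c10 LD3_c57)) = (LP (LK LD1_c21 LD2_c17 LD3_c61)) :=
  Lgr Lrot67 (Lpe (f784090 IH) (Lpr_af (f914788 IH) (Lpe (f134218 IH) (Lpr_af (f914925 IH) (Lpe (f434927 IH) (Lpn (LP (LK LD1_c21 LD2_c17 LD3_c61))))))))
theorem f914935 : Led Lsl_gt (LP (LK LD1_c21 LD2_c39 LD3_c41)) = (LP (LK LD1_c12 LD2_c59 LD3_c41)) :=
  Lgr Lrot5 (Lpe (f914756 IH) (Lpr_at (f914929 IH) (Lpr_gf (K57.f25644 IH) (Lpn (LP (LK LD1_c12 LD2_c59 LD3_c41))))))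
theorem f914750 : Led Lsl_ct (LP (LK LD1_c17 LD2_c35 LD3_c31)) = (LP (LK LD1_c21 LD2_c39 LD3_c41)) :=
  Lgr Lrot59 (Lpr_cf (f914746 IH) (Lpn (LP (LK LD1_c21 LD2_c39 LD3_c41))))
theorem f906153 : Led Lsl_gt (LP (LK LD1_c12 LD2_c12 LD3_c16)) = v39046 :=
  Lgr Lrot46 (Lpr_gf (f765902 IH) (Lpr_ft (f783039 IH) (Lpr_at (f906147 IH) (Lpn v39046))))
theorem f434958 : Led Lsl_bt (LP (LK LD1_c6 LD2_c18 LD3_c0)) = (LP (LK LD1_c12 LD2_c12 LD3_c16)) :=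
  Lre_b IH (LK LD1_c6 LD2_c18 LD3_c0) (LK LD1_c12 LD2_c12 LD3_c16) Lrfl Lrfl
theorem f57703 : Led Lsl_dt (LP (LK LD1_c21 LD2_c4 LD3_c48)) = (LP (LK LD1_c29 LD2_c50 LD3_c33)) :=
  Lre_d IH (LK LD1_c21 LD2_c4 LD3_c48) (LK LD1_c29 LD2_c50 LD3_c33) Lrfl Lrfl
theorem f84247 : Led Lsl_ct (LP (LK LD1_c13 LD2_c0 LD3_c23)) = (LP (LK LD1_c6 LD2_c48 LD3_c58)) :=
  Lre_c IH (LK LD1_c13 LD2_c0 LD3_c23) (LK LD1_c6 LD2_c48 LD3_c58) Lrfl Lrfl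
theorem f436178 : Led Lsl_dt (LP (LK LD1_c22 LD2_c10 LD3_c39)) = (LP (LK LD1_c13 LD2_c0 LD3_c23)) :=
  Lre_d IH (LK LD1_c22 LD2_c10 LD3_c39) (LK LD1_c13 LD2_c0 LD3_c23) Lrfl Lrfl
theorem f444334 : Led Lsl_gt (LP (LK LD1_c29 LD2_c50 LD3_c33)) = (LP (LK LD1_c22 LD2_c10 LD3_c39)) :=
  Lgr Lrot49 (Lpe (f57703 IH) (Lpe (K1.f57666 IH) (Lpe (K1.f57663 IH) (Lpe (K57.f57929 IH) (Lpr_dt (K57.f57943 IH) (Lpr_gt (K34.f86479 IH) (Lpr_dt (K60.f86480 IH) (Lpe (f84247 IH) (Lpe (f436178 IH) (Lpn (LP (LK LD1_c22 LD2_c10 LD3_c39))))))))))))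
theorem f57719 : Led Lsl_dt (LP (LK LD1_c29 LD2_c50 LD3_c33)) = (LP (LK LD1_c21 LD2_c4 LD3_c48)) :=
  Lre_d IH (LK LD1_c29 LD2_c50 LD3_c33) (LK LD1_c21 LD2_c4 LD3_c48) Lrfl Lrfl
theorem f436133 : Led Lsl_gf (LP (LK LD1_c6 LD2_c48 LD3_c58)) = (LP (LK LD1_c6 LD2_c23 LD3_c61)) :=
  Lgr Lrot47 (Lpr_gt (K60.f436105 IH) (Lpe (f433515 IH) (Lpe (f433806 IH) (Lpn (LP (LK LD1_c6 LD2_c23 LD3_c61))))))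
theorem f57782 : Led Lsl_dt (LP (LK LD1_c6 LD2_c48 LD3_c58)) = (LP (LK LD1_c3 LD2_c22 LD3_c33)) :=
  Lre_d IH (LK LD1_c6 LD2_c48 LD3_c58) (LK LD1_c3 LD2_c22 LD3_c33) Lrfl Lrfl
theorem f25653 : Led Lsl_ct (LP (LK LD1_c3 LD2_c6 LD3_c13)) = (LP (LK LD1_c6 LD2_c17 LD3_c44)) :=
  Lre_c IH (LK LD1_c3 LD2_c6 LD3_c13) (LK LD1_c6 LD2_c17 LD3_c44) Lrfl Lrfl
theorem f57802 : Led Lsl_gt (LP (LK LD1_c21 LD2_c17 LD3_c36)) = (LP (LK LD1_c12 LD2_c11 LD3_c54)) :=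
  Lre_g IH (LK LD1_c21 LD2_c17 LD3_c36) (LK LD1_c12 LD2_c11 LD3_c54) Lrfl Lrfl
theorem f436184 : Led Lsl_df (LP (LK LD1_c21 LD2_c17 LD3_c36)) = (LP (LK LD1_c17 LD2_c14 LD3_c44)) :=
  Lgr Lrot153 (Lpr_gt (f57802 IH) (Lpr_dt (K1.f57748 IH) (Lpe (f25653 IH) (Lpr_df (K1.f25689 IH) (Lpe (K60.f25424 IH) (Lpe (f57782 IH) (Lpr_gf (f436133 IH) (Lpe (K60.f433758 IH) (Lpr_gt (f433824 IH) (Lpn (LP (LK LD1_c17 LD2_c14 LD3_c44))))))))))))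
theorem f57795 : Led Lsl_gt (LP (LK LD1_c21 LD2_c17 LD3_c37)) = (LP (LK LD1_c29 LD2_c56 LD3_c56)) :=
  Lre_g IH (LK LD1_c21 LD2_c17 LD3_c37) (LK LD1_c29 LD2_c56 LD3_c56) Lrfl Lrfl
theorem f57766 : Led Lsl_dt (LP (LK LD1_c22 LD2_c10 LD3_c28)) = (LP (LK LD1_c13 LD2_c0 LD3_c10)) :=
  Lre_d IH (LK LD1_c22 LD2_c10 LD3_c28) (LK LD1_c13 LD2_c0 LD3_c10) Lrfl Lrfl
theorem f436189 : Led Lsl_ct (LP (LK LD1_c29 LD2_c56 LD3_c56)) = (LP (LK LD1_c22 LD2_c10 LD3_c28)) :=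
  Lgr Lrot110 (Lpe (f57795 IH) (Lpe (K5.f57796 IH) (Lpe (f57802 IH) (Lpr_df (f436184 IH) (Lpr_gt (f153443 IH) (Lpr_ct (K49.f153424 IH) (Lpr_gt (K49.f431523 IH) (Lpr_ct (K49.f57765 IH) (Lpe (f57766 IH) (Lpn (LP (LK LD1_c22 LD2_c10 LD3_c28))))))))))))
theorem f433439 : Led Lsl_at (LP (LK LD1_c21 LD2_c27 LD3_c57)) = (LP (LK LD1_c12 LD2_c21 LD3_c28)) :=
  Lre_a IH (LK LD1_c21 LD2_c27 LD3_c57) (LK LD1_c12 LD2_c21 LD3_c28) Lrfl Lrfl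
theorem f433808 : Led Lsl_dt (LP (LK LD1_c12 LD2_c21 LD3_c2)) = (LP (LK LD1_c21 LD2_c27 LD3_c13)) :=
  Lre_d IH (LK LD1_c12 LD2_c21 LD3_c2) (LK LD1_c21 LD2_c27 LD3_c13) Lrfl Lrfl
theorem f433866 : Led Lsl_dt (LP (LK LD1_c30 LD2_c1 LD3_c31)) = (LP (LK LD1_c21 LD2_c27 LD3_c59)) :=
  Lgr Lrot42 (Lpr_df (K60.f433863 IH) (Lpn (LP (LK LD1_c21 LD2_c27 LD3_c59))))
theorem f433080 : Led Lsl_ct (LP (LK LD1_c21 LD2_c27 LD3_c59)) = (LP (LK LD1_c12 LD2_c21 LD3_c28)) :=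
  Lre_c IH (LK LD1_c21 LD2_c27 LD3_c59) (LK LD1_c12 LD2_c21 LD3_c28) Lrfl Lrfl
theorem f433926 : Led Lsl_ff (LP (LK LD1_c21 LD2_c27 LD3_c57)) = (LP (LK LD1_c21 LD2_c56 LD3_c28)) :=
  Lgr Lrot103 (Lpr_at (f433439 IH) (Lpe (f433080 IH) (Lpe (f433866 IH) (Lpe (f433826 IH) (Lpe (f433808 IH) (Lpe (K49.f433644 IH) (Lpr_df (f433872 IH) (Lpe (K49.f433481 IH) (Lpr_df (K60.f433914 IH) (Lpn (LP (LK LD1_c21 LD2_c56 LD3_c28))))))))))))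
theorem f436147 : Led Lsl_gf (LP (LK LD1_c12 LD2_c48 LD3_c40)) = (LP (LK LD1_c21 LD2_c56 LD3_c28)) :=
  Lgr Lrot47 (Lpr_gt (K60.f436135 IH) (Lpe (f433439 IH) (Lpr_ff (f433926 IH) (Lpn (LP (LK LD1_c21 LD2_c56 LD3_c28))))))
theorem f57816 : Led Lsl_dt (LP (LK LD1_c21 LD2_c56 LD3_c46)) = (LP (LK LD1_c12 LD2_c48 LD3_c45)) :=
  Lre_d IH (LK LD1_c21 LD2_c56 LD3_c46) (LK LD1_c12 LD2_c48 LD3_c45) Lrfl Lrfl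
theorem f85745 : Led Lsl_bt (LP (LK LD1_c17 LD2_c28 LD3_c15)) = (LP (LK LD1_c27 LD2_c18 LD3_c31)) :=
  Lre_b IH (LK LD1_c17 LD2_c28 LD3_c15) (LK LD1_c27 LD2_c18 LD3_c31) Lrfl Lrfl
theorem f85719 : Led Lsl_bf (LP (LK LD1_c21 LD2_c17 LD3_c37)) = (LP (LK LD1_c27 LD2_c7 LD3_c54)) :=
  Lgr Lrot24 (Lpr_bt (K3.f85716 IH) (Lpn (LP (LK LD1_c27 LD2_c7 LD3_c54))))
theorem f85746 : Led Lsl_ff (LP (LK LD1_c17 LD2_c28 LD3_c15)) = (LP (LK LD1_c21 LD2_c17 LD3_c37)) :=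
  Lgr Lrot25 (Lpr_bt (f85745 IH) (Lpr_ft (K3.f85736 IH) (Lpe (f85719 IH) (Lpn (LP (LK LD1_c21 LD2_c17 LD3_c37))))))
theorem f57937 : Led Lsl_at (LP (LK LD1_c17 LD2_c28 LD3_c15)) = (LP (LK LD1_c21 LD2_c56 LD3_c46)) :=
  Lgr Lrot107 (Lpe (K3.f57936 IH) (Lpe (K60.f57935 IH) (Lpr_cf (K1.f57933 IH) (Lpn (LP (LK LD1_c21 LD2_c56 LD3_c46))))))
theorem f86577 : Led Lsl_gf (LP (LK LD1_c21 LD2_c56 LD3_c46)) = (LP (LK LD1_c29 LD2_c56 LD3_c56)) :=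
  Lgr Lrot76 (Lpe (f57937 IH) (Lpr_ff (f85746 IH) (Lpr_gt (f57795 IH) (Lpn (LP (LK LD1_c29 LD2_c56 LD3_c56))))))
theorem f436174 : Led Lsl_df (LP (LK LD1_c29 LD2_c56 LD3_c56)) = (LP (LK LD1_c22 LD2_c10 LD3_c37)) :=
  Lgr Lrot153 (Lpe (f86577 IH) (Lpr_dt (f57816 IH) (Lpe (K1.f57745 IH) (Lpe (K1.f57744 IH) (Lpe (K2.f57771 IH) (Lpe (K60.f84064 IH) (Lpr_gf (f436147 IH) (Lpe (K60.f433919 IH) (Lpr_gt (K60.f433951 IH) (Lpn (LP (LK LD1_c22 LD2_c10 LD3_c37))))))))))))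
theorem f134512 : Led Lsl_ct (LP (LK LD1_c13 LD2_c0 LD3_c21)) = (LP (LK LD1_c22 LD2_c10 LD3_c37)) :=
  Lre_c IH (LK LD1_c13 LD2_c0 LD3_c21) (LK LD1_c22 LD2_c10 LD3_c37) Lrfl Lrfl
theorem f134511 : Led Lsl_dt (LP (LK LD1_c6 LD2_c48 LD3_c57)) = (LP (LK LD1_c13 LD2_c0 LD3_c21)) :=
  Lre_d IH (LK LD1_c6 LD2_c48 LD3_c57) (LK LD1_c13 LD2_c0 LD3_c21) Lrfl Lrfl
theorem f436153 : Led Lsl_ct (LP (LK LD1_c13 LD2_c0 LD3_c8)) = (LP (LK LD1_c22 LD2_c10 LD3_c20)) :=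
  Lre_c IH (LK LD1_c13 LD2_c0 LD3_c8) (LK LD1_c22 LD2_c10 LD3_c20) Lrfl Lrfl
theorem f433450 : Led Lsl_dt (LP (LK LD1_c7 LD2_c11 LD3_c38)) = (LP (LK LD1_c13 LD2_c37 LD3_c43)) :=
  Lre_d IH (LK LD1_c7 LD2_c11 LD3_c38) (LK LD1_c13 LD2_c37 LD3_c43) Lrfl Lrfl
theorem f433917 : Led Lsl_at (LP (LK LD1_c13 LD2_c37 LD3_c43)) = (LP (LK LD1_c21 LD2_c56 LD3_c28)) :=
  Lgr Lrot51 (Lpe (f433450 IH) (Lpe (K60.f433455 IH) (Lpr_df (K60.f433914 IH) (Lpn (LP (LK LD1_c21 LD2_c56 LD3_c28))))))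
theorem f433957 : Led Lsl_gt (LP (LK LD1_c12 LD2_c21 LD3_c28)) = (LP (LK LD1_c12 LD2_c48 LD3_c37)) :=
  Lgr Lrot5 (Lpr_ft (K60.f433426 IH) (Lpr_at (f433917 IH) (Lpe (K60.f433913 IH) (Lpn (LP (LK LD1_c12 LD2_c48 LD3_c37))))))
theorem f25474 : Led Lsl_dt (LP (LK LD1_c12 LD2_c48 LD3_c37)) = (LP (LK LD1_c6 LD2_c41 LD3_c43)) :=
  Lre_d IH (LK LD1_c12 LD2_c48 LD3_c37) (LK LD1_c6 LD2_c41 LD3_c43) Lrfl Lrfl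
theorem f57812 : Led Lsl_ct (LP (LK LD1_c29 LD2_c52 LD3_c14)) = (LP (LK LD1_c21 LD2_c8 LD3_c55)) :=
  Lre_c IH (LK LD1_c29 LD2_c52 LD3_c14) (LK LD1_c21 LD2_c8 LD3_c55) Lrfl Lrfl
theorem f57806 : Led Lsl_gt (LP (LK LD1_c29 LD2_c56 LD3_c57)) = (LP (LK LD1_c21 LD2_c17 LD3_c37)) :=
  Lre_g IH (LK LD1_c29 LD2_c56 LD3_c57) (LK LD1_c21 LD2_c17 LD3_c37) Lrfl Lrfl
theorem f436160 : Led Lsl_dt (LP (LK LD1_c22 LD2_c10 LD3_c20)) = (LP (LK LD1_c29 LD2_c56 LD3_c57)) :=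
  Lgr Lrot57 (Lpr_gf (K60.f436150 IH) (Lpe (K60.f433081 IH) (Lpr_gt (f433957 IH) (Lpr_dt (f25474 IH) (Lpr_gt (K34.f25475 IH) (Lpr_dt (K1.f57756 IH) (Lpe (f57812 IH) (Lpr_df (K1.f57789 IH) (Lpe (f57806 IH) (Lpn (LP (LK LD1_c29 LD2_c56 LD3_c57))))))))))))
theorem f436197 : Led Lsl_cf (LP (LK LD1_c22 LD2_c10 LD3_c39)) = (LP (LK LD1_c29 LD2_c56 LD3_c57)) :=
  Lgr Lrot55 (Lpr_dt (f436178 IH) (Lpr_ct (f84247 IH) (Lpr_dt (f57782 IH) (Lpr_ct (K60.f86481 IH) (Lpr_dt (f134511 IH) (Lpr_ct (f134512 IH) (Lpe (f436174 IH) (Lpr_ct (f436189 IH) (Lpr_dt (f57766 IH) (Lpr_ct (K49.f57769 IH) (Lpr_dt (f57776 IH) (Lpr_ct (K1.f57710 IH) (Lpr_dt (K60.f434949 IH) (Lpr_ct (f436153 IH) (Lpr_dt (f436160 IH) (Lpn (LP (LK LD1_c29 LD2_c56 LD3_c57))))))))))))))))))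
theorem f436200 : Led Lsl_ct (LP (LK LD1_c22 LD2_c10 LD3_c39)) = (LP (LK LD1_c29 LD2_c56 LD3_c57)) :=
  Lgr Lrot59 (Lpr_cf (f436197 IH) (Lpn (LP (LK LD1_c29 LD2_c56 LD3_c57))))
theorem f57797 : Led Lsl_dt (LP (LK LD1_c6 LD2_c17 LD3_c44)) = (LP (LK LD1_c12 LD2_c11 LD3_c54)) :=
  Lre_d IH (LK LD1_c6 LD2_c17 LD3_c44) (LK LD1_c12 LD2_c11 LD3_c54) Lrfl Lrfl
theorem f444336 : Led Lsl_gt (LP (LK LD1_c21 LD2_c4 LD3_c48)) = (LP (LK LD1_c12 LD2_c12 LD3_c17)) :=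
  Lgr Lrot9 (Lpe (f57719 IH) (Lpr_gt (f444334 IH) (Lpr_ct (f436200 IH) (Lpr_gt (f57806 IH) (Lpr_ct (K1.f57749 IH) (Lpe (f57797 IH) (Lpe (f25653 IH) (Lpe (K57.f25640 IH) (Lpe (f57767 IH) (Lpn (LP (LK LD1_c12 LD2_c12 LD3_c17))))))))))))
theorem f444424 : Led Lsl_df (LP (LK LD1_c12 LD2_c21 LD3_c0)) = (LP (LK LD1_c17 LD2_c28 LD3_c13)) :=
  Lgr Lrot155 (Lpr_gt (K60.f434082 IH) (Lpr_ct (K60.f433748 IH) (Lpe (K60.f433830 IH) (Lpr_ct (K60.f433832 IH) (Lpr_dt (K60.f433833 IH) (Lpr_cf (K60.f444413 IH) (Lpr_gf (K60.f85972 IH) (Lpr_cf (K1.f57826 IH) (Lpe (K60.f444407 IH) (Lpn (LP (LK LD1_c17 LD2_c28 LD3_c13))))))))))))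
theorem f153129 : Led Lsl_ct (LP (LK LD1_c12 LD2_c21 LD3_c0)) = (LP (LK LD1_c21 LD2_c27 LD3_c12)) :=
  Lre_c IH (LK LD1_c12 LD2_c21 LD3_c0) (LK LD1_c21 LD2_c27 LD3_c12) Lrfl Lrfl
theorem f114003 : Led Lsl_ct (LP (LK LD1_c12 LD2_c3 LD3_c26)) = (LP (LK LD1_c21 LD2_c8 LD3_c50)) :=
  Lre_c IH (LK LD1_c12 LD2_c3 LD3_c26) (LK LD1_c21 LD2_c8 LD3_c50) Lrfl Lrfl
theorem f436061 : Led Lsl_df (LP (LK LD1_c21 LD2_c8 LD3_c50)) = (LP (LK LD1_c21 LD2_c27 LD3_c12)) :=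
  Lgr Lrot162 (Lpe (f114003 IH) (Lpe (K6.f64523 IH) (Lpe (K1.f57859 IH) (Lpe (K6.f86059 IH) (Lpr_dt (K60.f436050 IH) (Lpr_gt (K60.f432349 IH) (Lpr_ct (f152795 IH) (Lpr_gt (K60.f152867 IH) (Lpr_ct (f153129 IH) (Lpn (LP (LK LD1_c21 LD2_c27 LD3_c12))))))))))))
theorem f436065 : Led Lsl_dt (LP (LK LD1_c21 LD2_c8 LD3_c50)) = (LP (LK LD1_c21 LD2_c27 LD3_c12)) :=
  Lgr Lrot42 (Lpr_df (f436061 IH) (Lpn (LP (LK LD1_c21 LD2_c27 LD3_c12))))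
theorem f57831 : Led Lsl_gt (LP (LK LD1_c21 LD2_c56 LD3_c44)) = (LP (LK LD1_c12 LD2_c48 LD3_c45)) :=
  Lre_g IH (LK LD1_c21 LD2_c56 LD3_c44) (LK LD1_c12 LD2_c48 LD3_c45) Lrfl Lrfl
theorem f57815 : Led Lsl_ct (LP (LK LD1_c12 LD2_c48 LD3_c45)) = (LP (LK LD1_c6 LD2_c41 LD3_c46)) :=
  Lre_c IH (LK LD1_c12 LD2_c48 LD3_c45) (LK LD1_c6 LD2_c41 LD3_c46) Lrfl Lrfl
theorem f57727 : Led Lsl_dt (LP (LK LD1_c13 LD2_c0 LD3_c5)) = (LP (LK LD1_c22 LD2_c10 LD3_c12)) :=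
  Lre_d IH (LK LD1_c13 LD2_c0 LD3_c5) (LK LD1_c22 LD2_c10 LD3_c12) Lrfl Lrfl
theorem f434105 : Led Lsl_gt (LP (LK LD1_c22 LD2_c10 LD3_c12)) = (LP (LK LD1_c23 LD2_c2 LD3_c46)) :=
  Lgr Lrot9 (Lpe (f57727 IH) (Lpe (K60.f134509 IH) (Lpr_ct (K34.f89119 IH) (Lpr_gt (K60.f25424 IH) (Lpr_ct (K1.f25464 IH) (Lpe (f57762 IH) (Lpe (f57815 IH) (Lpe (f57831 IH) (Lpr_cf (K57.f434102 IH) (Lpn (LP (LK LD1_c23 LD2_c2 LD3_c46))))))))))))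
theorem f85989 : Led Lsl_bf (LP (LK LD1_c6 LD2_c13 LD3_c3)) = (LP (LK LD1_c6 LD2_c18 LD3_c1)) :=
  Lgr Lrot24 (Lpr_bt (K3.f85864 IH) (Lpn (LP (LK LD1_c6 LD2_c18 LD3_c1))))
theorem f57979 : Led Lsl_bt (LP (LK LD1_c4 LD2_c50 LD3_c29)) = (LP (LK LD1_c3 LD2_c22 LD3_c34)) :=
  Lre_b IH (LK LD1_c4 LD2_c50 LD3_c29) (LK LD1_c3 LD2_c22 LD3_c34) Lrfl Lrfl
theorem f86473 : Led Lsl_dt (LP (LK LD1_c6 LD2_c13 LD3_c3)) = (LP (LK LD1_c4 LD2_c50 LD3_c29)) :=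
  Lgr Lrot79 (Lpr_bf (f85989 IH) (Lpe (K60.f57742 IH) (Lpe (f57979 IH) (Lpn (LP (LK LD1_c4 LD2_c50 LD3_c29))))))
theorem f434936 : Led Lsl_gf (LP (LK LD1_c6 LD2_c18 LD3_c0)) = (LP (LK LD1_c4 LD2_c50 LD3_c29)) :=
  Lgr Lrot143 (Lpr_dt (K57.f434924 IH) (Lpe (f154932 IH) (Lpe (K57.f433059 IH) (Lpe (f434105 IH) (Lpe (f57727 IH) (Lpe (K1.f57711 IH) (Lpe (K1.f57710 IH) (Lpr_gt (K2.f84067 IH) (Lpr_dt (f86473 IH) (Lpn (LP (LK LD1_c4 LD2_c50 LD3_c29))))))))))))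
theorem f86039 : Led Lsl_ct (LP (LK LD1_c21 LD2_c8 LD3_c50)) = (LP (LK LD1_c12 LD2_c3 LD3_c26)) :=
  Lre_c IH (LK LD1_c21 LD2_c8 LD3_c50) (LK LD1_c12 LD2_c3 LD3_c26) Lrfl Lrfl
theorem f434947 : Led Lsl_gt (LP (LK LD1_c12 LD2_c59 LD3_c42)) = (LP (LK LD1_c21 LD2_c8 LD3_c50)) :=
  Lgr Lrot82 (Lpe (f57735 IH) (Lpr_ct (K60.f84538 IH) (Lpe (f153158 IH) (Lpe (K57.f25642 IH) (Lpr_bt (K57.f25641 IH) (Lpr_gf (f434936 IH) (Lpe (K60.f84121 IH) (Lpr_ct (K60.f57872 IH) (Lpe (K6.f85889 IH) (Lpe (f86039 IH) (Lpn (LP (LK LD1_c21 LD2_c8 LD3_c50)))))))))))))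
theorem f444426 : Led Lsl_gf (LP (LK LD1_c12 LD2_c0 LD3_c0)) = (LP (LK LD1_c12 LD2_c26 LD3_c49)) :=
  Lgr Lrot144 (Lpe (K1.f57713 IH) (Lpr_gt (f434947 IH) (Lpr_dt (f436065 IH) (Lpe (f153129 IH) (Lpr_df (f444424 IH) (Lpe (K60.f86015 IH) (Lpe (K60.f85953 IH) (Lpe (K3.f79599 IH) (Lpe (K3.f86010 IH) (Lpn (LP (LK LD1_c12 LD2_c26 LD3_c49))))))))))))
theorem f82840 : Led Lsl_gt (LP (LK LD1_c21 LD2_c34 LD3_c5)) = (LP (LK LD1_c12 LD2_c26 LD3_c50)) :=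
  Lre_g IH (LK LD1_c21 LD2_c34 LD3_c5) (LK LD1_c12 LD2_c26 LD3_c50) Lrfl Lrfl
theorem f783688 : Led Lsl_af (LP (LK LD1_c21 LD2_c4 LD3_c42)) = (LP (LK LD1_c21 LD2_c10 LD3_c18)) :=
  Lgr Lrot45 (Lpr_ft (K60.f25492 IH) (Lpr_at (K60.f25491 IH) (Lpr_ft (K60.f783686 IH) (Lpn (LP (LK LD1_c21 LD2_c10 LD3_c18))))))
theorem f783692 : Led Lsl_gt (LP (LK LD1_c12 LD2_c0 LD3_c1)) = (LP (LK LD1_c21 LD2_c4 LD3_c42)) :=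
  Lgr Lrot46 (Lpr_gf (f143575 IH) (Lpr_ft (K60.f783686 IH) (Lpe (f783688 IH) (Lpn (LP (LK LD1_c21 LD2_c4 LD3_c42))))))
theorem f84226 : Led Lsl_ct (LP (LK LD1_c6 LD2_c9 LD3_c29)) = (LP (LK LD1_c12 LD2_c0 LD3_c1)) :=
  Lre_c IH (LK LD1_c6 LD2_c9 LD3_c29) (LK LD1_c12 LD2_c0 LD3_c1) Lrfl Lrfl
theorem f765912 : Led Lsl_cf (LP (LK LD1_c21 LD2_c4 LD3_c42)) = (LP (LK LD1_c12 LD2_c20 LD3_c11)) :=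
  Lgr Lrot108 (Lpr_ft (K60.f25492 IH) (Lpr_ct (K60.f25503 IH) (Lpr_ft (K60.f765910 IH) (Lpn (LP (LK LD1_c12 LD2_c20 LD3_c11))))))
theorem f783344 : Led Lsl_gt (LP (LK LD1_c13 LD2_c0 LD3_c2)) = (LP (LK LD1_c21 LD2_c10 LD3_c10)) :=
  Lgr Lrot46 (Lpr_gf (K60.f783342 IH) (Lpr_ft (K60.f783095 IH) (Lpr_at (K60.f765861 IH) (Lpn (LP (LK LD1_c21 LD2_c10 LD3_c10))))))
theorem f783694 : Led Lsl_cf (LP (LK LD1_c21 LD2_c34 LD3_c5)) = (LP (LK LD1_c21 LD2_c10 LD3_c10)) :=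
  Lgr Lrot125 (Lpr_gt (f82840 IH) (Lpe (K3.f68081 IH) (Lpr_bt (K3.f82849 IH) (Lpe (f444426 IH) (Lpe (K60.f57723 IH) (Lpr_ct (f84226 IH) (Lpr_gt (f783692 IH) (Lpr_cf (f765912 IH) (Lpe (K60.f783324 IH) (Lpr_gt (f783344 IH) (Lpn (LP (LK LD1_c21 LD2_c10 LD3_c10)))))))))))))
theorem f906154 : Led Lsl_bt (LP (LK LD1_c21 LD2_c10 LD3_c10)) = v39046 :=
  Lgr Lrot92 (Lpe (f783694 IH) (Lpr_gt (f82840 IH) (Lpe (K3.f68081 IH) (Lpr_bt (K3.f82849 IH) (Lpe (f444426 IH) (Lpr_ct (K1.f57665 IH) (Lpr_gt (f444336 IH) (Lpe (f57770 IH) (Lpr_bt (f434958 IH) (Lpr_gt (f906153 IH) (Lpn v39046)))))))))))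
theorem f782945 : Led Lsl_dt (LP (LK LD1_c11 LD2_c59 LD3_c59)) = (LP (LK LD1_c12 LD2_c16 LD3_c7)) :=
  Lgr Lrot42 (Lpr_df (K60.f782943 IH) (Lpn (LP (LK LD1_c12 LD2_c16 LD3_c7))))
theorem f82814 : Led Lsl_dt (LP (LK LD1_c9 LD2_c19 LD3_c7)) = (LP (LK LD1_c17 LD2_c14 LD3_c34)) :=
  Lre_d IH (LK LD1_c9 LD2_c19 LD3_c7) (LK LD1_c17 LD2_c14 LD3_c34) Lrfl Lrfl
theorem f762527 : Led Lsl_dt (LP (LK LD1_c21 LD2_c26 LD3_c37)) = (LP (LK LD1_c12 LD2_c20 LD3_c20)) :=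
  Lre_d IH (LK LD1_c21 LD2_c26 LD3_c37) (LK LD1_c12 LD2_c20 LD3_c20) Lrfl Lrfl
theorem f783144 : Led Lsl_ft (LP (LK LD1_c17 LD2_c14 LD3_c34)) = (LP (LK LD1_c21 LD2_c26 LD3_c37)) :=
  Lgr Lrot54 (Lpe (f82814 IH) (Lpr_ff (K60.f783138 IH) (Lpe (f762527 IH) (Lpn (LP (LK LD1_c21 LD2_c26 LD3_c37))))))
theorem f154623 : Led Lsl_dt (LP (LK LD1_c9 LD2_c19 LD3_c10)) = (LP (LK LD1_c17 LD2_c14 LD3_c39)) :=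
  Lre_d IH (LK LD1_c9 LD2_c19 LD3_c10) (LK LD1_c17 LD2_c14 LD3_c39) Lrfl Lrfl
theorem f783130 : Led Lsl_at (LP (LK LD1_c17 LD2_c14 LD3_c39)) = (LP (LK LD1_c21 LD2_c26 LD3_c37)) :=
  Lgr Lrot51 (Lpe (f154623 IH) (Lpr_af (K60.f783126 IH) (Lpe (f762527 IH) (Lpn (LP (LK LD1_c21 LD2_c26 LD3_c37))))))
theorem f783132 : Led Lsl_af (LP (LK LD1_c17 LD2_c14 LD3_c39)) = (LP (LK LD1_c21 LD2_c26 LD3_c37)) :=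
  Lgr Lrot0 (Lpr_at (f783130 IH) (Lpn (LP (LK LD1_c21 LD2_c26 LD3_c37))))
theorem f154622 : Led Lsl_dt (LP (LK LD1_c17 LD2_c14 LD3_c39)) = (LP (LK LD1_c9 LD2_c19 LD3_c10)) :=
  Lre_d IH (LK LD1_c17 LD2_c14 LD3_c39) (LK LD1_c9 LD2_c19 LD3_c10) Lrfl Lrfl
def v17869 : LQ := Led Lsl_gf (LP (LK LD1_c6 LD2_c23 LD3_c26))
theorem f762515 : Led Lsl_gf (LP (LK LD1_c6 LD2_c23 LD3_c26)) = v17869 :=
  Lrfl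
def v5535 : LQ := Led Lsl_gf (LP (LK LD1_c3 LD2_c9 LD3_c24))
theorem f648132 : Led Lsl_gf (LP (LK LD1_c3 LD2_c9 LD3_c24)) = v5535 :=
  Lrfl
theorem f762516 : Led Lsl_ft (LP (LK LD1_c6 LD2_c23 LD3_c31)) = (LP (LK LD1_c3 LD2_c9 LD3_c22)) :=
  Lre_f IH (LK LD1_c6 LD2_c23 LD3_c31) (LK LD1_c3 LD2_c9 LD3_c22) Lrfl Lrfl
theorem f762517 : Led Lsl_gt (LP (LK LD1_c6 LD2_c23 LD3_c31)) = v17869 :=
  Lgr Lrot5 (Lpr_ft (f762516 IH) (Lpr_at (K57.f648122 IH) (Lpr_gf (f762515 IH) (Lpn v17869))))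
theorem f104693 : Led Lsl_ct (LP (LK LD1_c1 LD2_c30 LD3_c52)) = (LP (LK LD1_c0 LD2_c41 LD3_c56)) :=
  Lre_c IH (LK LD1_c1 LD2_c30 LD3_c52) (LK LD1_c0 LD2_c41 LD3_c56) Lrfl Lrfl
theorem f152778 : Led Lsl_bt (LP (LK LD1_c1 LD2_c30 LD3_c52)) = (LP (LK LD1_c3 LD2_c9 LD3_c26)) :=
  Lre_b IH (LK LD1_c1 LD2_c30 LD3_c52) (LK LD1_c3 LD2_c9 LD3_c26) Lrfl Lrfl
theorem f153859 : Led Lsl_ft (LP (LK LD1_c3 LD2_c9 LD3_c26)) = (LP (LK LD1_c1 LD2_c30 LD3_c50)) :=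
  Lre_f IH (LK LD1_c3 LD2_c9 LD3_c26) (LK LD1_c1 LD2_c30 LD3_c50) Lrfl Lrfl
theorem f648133 : Led Lsl_gt (LP (LK LD1_c3 LD2_c9 LD3_c26)) = v5535 :=
  Lgr Lrot5 (Lpr_ft (f153859 IH) (Lpr_at (K16.f153477 IH) (Lpr_gf (f648132 IH) (Lpn v5535))))
theorem f765930 : v5535 = (LP (LK LD1_c6 LD2_c23 LD3_c31)) :=
  (Llr Lrot164 (Lpe (f648133 IH) (Lpe (f152778 IH) (Lpr_ct (f104693 IH) (Lpr_gf (K7.f152766 IH) (Lpe (K2.f25817 IH) (Lpe (K2.f84105 IH) (Lpe (K5.f24700 IH) (Lpr_ct (K60.f24715 IH) (Lpe (K60.f24763 IH) (Lpr_cf (K60.f765922 IH) (Lpr_bt (K60.f762513 IH) (Lpn (LP (LK LD1_c6 LD2_c23 LD3_c31))))))))))))))).symm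
theorem f765931 : (LP (LK LD1_c3 LD2_c9 LD3_c24)) = v17869 :=
  Lefun (Lecon (Lfl_gf (f648132 IH)) (f765930 IH)) (f762517 IH)
theorem f25860 : Led Lsl_dt (LP (LK LD1_c12 LD2_c27 LD3_c23)) = (LP (LK LD1_c21 LD2_c34 LD3_c51)) :=
  Lre_d IH (LK LD1_c12 LD2_c27 LD3_c23) (LK LD1_c21 LD2_c34 LD3_c51) Lrfl Lrfl
theorem f783105 : Led Lsl_gf (LP (LK LD1_c17 LD2_c14 LD3_c39)) = (LP (LK LD1_c21 LD2_c34 LD3_c51)) :=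
  Lgr Lrot143 (Lpr_dt (f154622 IH) (Lpe (K60.f154621 IH) (Lpqs (K60.f783080 IH) (Lpe (K60.f762533 IH) (Lpr_gf (f762515 IH) (Lpq (f765931 IH) (Lpe (K16.f153851 IH) (Lpe (f435271 IH) (Lpe (f435273 IH) (Lpr_gt (f25838 IH) (Lpr_dt (f25860 IH) (Lpn (LP (LK LD1_c21 LD2_c34 LD3_c51))))))))))))))
theorem f783170 : Led Lsl_gt (LP (LK LD1_c17 LD2_c14 LD3_c34)) = (LP (LK LD1_c21 LD2_c34 LD3_c51)) :=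
  Lgr Lrot5 (Lpr_ft (f783144 IH) (Lpe (f783132 IH) (Lpr_gf (f783105 IH) (Lpn (LP (LK LD1_c21 LD2_c34 LD3_c51))))))
theorem f25865 : Led Lsl_dt (LP (LK LD1_c21 LD2_c34 LD3_c51)) = (LP (LK LD1_c12 LD2_c27 LD3_c23)) :=
  Lre_d IH (LK LD1_c21 LD2_c34 LD3_c51) (LK LD1_c12 LD2_c27 LD3_c23) Lrfl Lrfl
theorem f25858 : Led Lsl_cf (LP (LK LD1_c12 LD2_c18 LD3_c51)) = (LP (LK LD1_c12 LD2_c27 LD3_c23)) :=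
  Lgr Lrot11 (Lpr_ct (f25839 IH) (Lpn (LP (LK LD1_c12 LD2_c27 LD3_c23))))
theorem f765788 : Led Lsl_df (LP (LK LD1_c12 LD2_c18 LD3_c51)) = (LP (LK LD1_c12 LD2_c26 LD3_c52)) :=
  Lgr Lrot12 (Lpr_bt (f25836 IH) (Lpr_dt (K57.f762308 IH) (Lpqs (K57.f765774 IH) (Lpr_bt (K57.f432592 IH) (Lpn (LP (LK LD1_c12 LD2_c26 LD3_c52)))))))
theorem f783783 : Led Lsl_gt (LP (LK LD1_c12 LD2_c16 LD3_c7)) = (LP (LK LD1_c12 LD2_c26 LD3_c52)) :=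
  Lgr Lrot189 (Lpe (f782945 IH) (Lpe (K60.f25461 IH) (Lpr_ct (K60.f783776 IH) (Lpr_gt (K60.f154451 IH) (Lpr_dt (f82814 IH) (Lpr_gt (f783170 IH) (Lpr_dt (f25865 IH) (Lpe (f25858 IH) (Lpr_df (f765788 IH) (Lpn (LP (LK LD1_c12 LD2_c26 LD3_c52))))))))))))
theorem f914937 : Led Lsl_gf (LP (LK LD1_c21 LD2_c34 LD3_c5)) = (LP (LK LD1_c12 LD2_c26 LD3_c53)) :=
  Lgr Lrot126 (Lpr_cf (f783694 IH) (Lpr_bt (f906154 IH) (Lpe (f914744 IH) (Lpr_ct (f914750 IH) (Lpr_gt (f914935 IH) (Lpe (K57.f25643 IH) (Lpr_bt (K60.f84047 IH) (Lpr_gt (f783783 IH) (Lpe (K57.f432592 IH) (Lpr_ct (K57.f68079 IH) (Lpn (LP (LK LD1_c12 LD2_c26 LD3_c53)))))))))))))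
theorem f914938 : Led Lsl_gt (LP (LK LD1_c12 LD2_c26 LD3_c53)) = (LP (LK LD1_c21 LD2_c34 LD3_c5)) :=
  Leop (Lpr_gf (f914937 IH) (Lpn (LP (LK LD1_c12 LD2_c26 LD3_c53))))
theorem seed_2389 : LEOK LG_g (LK LD1_c12 LD2_c26 LD3_c53) :=
  Leoe_g (LK LD1_c12 LD2_c26 LD3_c53) (f914938 IH)
def v40220 : LQ := Led Lsl_gt (LP (LK LD1_c9 LD2_c33 LD3_c36))
theorem f915062 : Led Lsl_gt (LP (LK LD1_c9 LD2_c33 LD3_c36)) = v40220 :=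
  Lrfl
theorem f189303 : Led Lsl_gt (LP (LK LD1_c10 LD2_c33 LD3_c45)) = (LP (LK LD1_c19 LD2_c7 LD3_c45)) :=
  Lre_g IH (LK LD1_c10 LD2_c33 LD3_c45) (LK LD1_c19 LD2_c7 LD3_c45) Lrfl Lrfl
theorem f189318 : Led Lsl_gt (LP (LK LD1_c19 LD2_c7 LD3_c45)) = (LP (LK LD1_c17 LD2_c35 LD3_c49)) :=
  Lgr Lrot46 (Lpe (f189303 IH) (Lpr_ft (K10.f189310 IH) (Lpr_at (K12.f51183 IH) (Lpn (LP (LK LD1_c17 LD2_c35 LD3_c49))))))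
theorem f182756 : Led Lsl_bt (LP (LK LD1_c5 LD2_c20 LD3_c21)) = (LP (LK LD1_c2 LD2_c36 LD3_c49)) :=
  Lre_b IH (LK LD1_c5 LD2_c20 LD3_c21) (LK LD1_c2 LD2_c36 LD3_c49) Lrfl Lrfl
theorem f194997 : Led Lsl_gt (LP (LK LD1_c11 LD2_c52 LD3_c31)) = (LP (LK LD1_c6 LD2_c4 LD3_c30)) :=
  Lre_g IH (LK LD1_c11 LD2_c52 LD3_c31) (LK LD1_c6 LD2_c4 LD3_c30) Lrfl Lrfl
theorem f194998 : Led Lsl_ct (LP (LK LD1_c20 LD2_c55 LD3_c32)) = (LP (LK LD1_c11 LD2_c52 LD3_c31)) :=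
  Lre_c IH (LK LD1_c20 LD2_c55 LD3_c32) (LK LD1_c11 LD2_c52 LD3_c31) Lrfl Lrfl
theorem f195953 : Led Lsl_bt (LP (LK LD1_c20 LD2_c55 LD3_c32)) = (LP (LK LD1_c19 LD2_c7 LD3_c45)) :=
  Lgr Lrot92 (Lpr_ct (f194998 IH) (Lpr_gt (f194997 IH) (Lpr_cf (K10.f194961 IH) (Lpr_bt (f182756 IH) (Lpr_gt (K11.f42517 IH) (Lpr_ct (K16.f182608 IH) (Lpr_gt (K11.f195948 IH) (Lpe (K14.f189296 IH) (Lpr_bt (K10.f189292 IH) (Lpr_gt (f189303 IH) (Lpn (LP (LK LD1_c19 LD2_c7 LD3_c45)))))))))))))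
theorem f195359 : Led Lsl_gt (LP (LK LD1_c20 LD2_c55 LD3_c24)) = (LP (LK LD1_c11 LD2_c52 LD3_c31)) :=
  Lre_g IH (LK LD1_c20 LD2_c55 LD3_c24) (LK LD1_c11 LD2_c52 LD3_c31) Lrfl Lrfl
theorem f194952 : Led Lsl_at (LP (LK LD1_c20 LD2_c55 LD3_c24)) = (LP (LK LD1_c11 LD2_c52 LD3_c34)) :=
  Lre_a IH (LK LD1_c20 LD2_c55 LD3_c24) (LK LD1_c11 LD2_c52 LD3_c34) Lrfl Lrfl
theorem f194953 : Led Lsl_at (LP (LK LD1_c10 LD2_c30 LD3_c47)) = (LP (LK LD1_c19 LD2_c3 LD3_c1)) :=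
  Lre_a IH (LK LD1_c10 LD2_c30 LD3_c47) (LK LD1_c19 LD2_c3 LD3_c1) Lrfl Lrfl
theorem f194954 : Led Lsl_cf (LP (LK LD1_c20 LD2_c55 LD3_c24)) = (LP (LK LD1_c19 LD2_c3 LD3_c1)) :=
  Lgr Lrot1 (Lpr_at (f194952 IH) (Lpr_ct (K10.f194947 IH) (Lpr_at (f194953 IH) (Lpn (LP (LK LD1_c19 LD2_c3 LD3_c1))))))
theorem f195355 : Led Lsl_bt (LP (LK LD1_c19 LD2_c3 LD3_c1)) = (LP (LK LD1_c10 LD2_c34 LD3_c32)) :=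
  Lre_b IH (LK LD1_c19 LD2_c3 LD3_c1) (LK LD1_c10 LD2_c34 LD3_c32) Lrfl Lrfl
theorem f8950 : Led Lsl_gt (LP (LK LD1_c5 LD2_c22 LD3_c4)) = (LP (LK LD1_c10 LD2_c34 LD3_c32)) :=
  Lre_g IH (LK LD1_c5 LD2_c22 LD3_c4) (LK LD1_c10 LD2_c34 LD3_c32) Lrfl Lrfl
theorem f196024 : Led Lsl_bt (LP (LK LD1_c10 LD2_c34 LD3_c34)) = (LP (LK LD1_c5 LD2_c22 LD3_c4)) :=
  Lre_b IH (LK LD1_c10 LD2_c34 LD3_c34) (LK LD1_c5 LD2_c22 LD3_c4) Lrfl Lrfl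
theorem f915064 : Led Lsl_ct (LP (LK LD1_c10 LD2_c34 LD3_c34)) = v40220 :=
  Lgr Lrot63 (Lpr_bt (f196024 IH) (Lpr_gt (f8950 IH) (Lpe (f195355 IH) (Lpe (f194954 IH) (Lpr_gt (f195359 IH) (Lpe (f194998 IH) (Lpr_bt (f195953 IH) (Lpr_gt (f189318 IH) (Lpr_ct (K10.f51140 IH) (Lpr_gt (f915062 IH) (Lpn v40220)))))))))))
theorem f560052 : Led Lsl_gt (LP (LK LD1_c19 LD2_c9 LD3_c35)) = (LP (LK LD1_c10 LD2_c34 LD3_c34)) :=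
  Lre_g IH (LK LD1_c19 LD2_c9 LD3_c35) (LK LD1_c10 LD2_c34 LD3_c34) Lrfl Lrfl
theorem f915067 : Led Lsl_dt (LP (LK LD1_c19 LD2_c9 LD3_c35)) = (LP (LK LD1_c28 LD2_c35 LD3_c24)) :=
  Lre_d IH (LK LD1_c19 LD2_c9 LD3_c35) (LK LD1_c28 LD2_c35 LD3_c24) Lrfl Lrfl
theorem f51129 : Led Lsl_at (LP (LK LD1_c17 LD2_c36 LD3_c6)) = (LP (LK LD1_c9 LD2_c33 LD3_c38)) :=
  Lre_a IH (LK LD1_c17 LD2_c36 LD3_c6) (LK LD1_c9 LD2_c33 LD3_c38) Lrfl Lrfl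
theorem f915063 : Led Lsl_gf (LP (LK LD1_c9 LD2_c33 LD3_c38)) = v40220 :=
  Lgr Lrot76 (Lpe (f51129 IH) (Lpe (K19.f51152 IH) (Lpr_gt (f915062 IH) (Lpn v40220))))
theorem f189304 : Led Lsl_bt (LP (LK LD1_c10 LD2_c33 LD3_c45)) = (LP (LK LD1_c5 LD2_c21 LD3_c46)) :=
  Lre_b IH (LK LD1_c10 LD2_c33 LD3_c45) (LK LD1_c5 LD2_c21 LD3_c46) Lrfl Lrfl
theorem f215798 : Led Lsl_bt (LP (LK LD1_c10 LD2_c33 LD3_c28)) = (LP (LK LD1_c19 LD2_c7 LD3_c18)) :=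
  Lre_b IH (LK LD1_c10 LD2_c33 LD3_c28) (LK LD1_c19 LD2_c7 LD3_c18) Lrfl Lrfl
theorem f215811 : Led Lsl_df (LP (LK LD1_c10 LD2_c33 LD3_c45)) = (LP (LK LD1_c19 LD2_c7 LD3_c18)) :=
  Lgr Lrot12 (Lpr_bt (f189304 IH) (Lpr_dt (K16.f215808 IH) (Lpr_bt (f215798 IH) (Lpn (LP (LK LD1_c19 LD2_c7 LD3_c18))))))
theorem f215826 : Led Lsl_ct (LP (LK LD1_c28 LD2_c32 LD3_c49)) = (LP (LK LD1_c19 LD2_c7 LD3_c18)) :=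
  Lre_c IH (LK LD1_c28 LD2_c32 LD3_c49) (LK LD1_c19 LD2_c7 LD3_c18) Lrfl Lrfl
theorem f215825 : Led Lsl_bt (LP (LK LD1_c19 LD2_c7 LD3_c18)) = (LP (LK LD1_c10 LD2_c33 LD3_c28)) :=
  Lre_b IH (LK LD1_c19 LD2_c7 LD3_c18) (LK LD1_c10 LD2_c33 LD3_c28) Lrfl Lrfl
theorem f215799 : Led Lsl_ct (LP (LK LD1_c19 LD2_c7 LD3_c18)) = (LP (LK LD1_c28 LD2_c32 LD3_c49)) :=
  Lre_c IH (LK LD1_c19 LD2_c7 LD3_c18) (LK LD1_c28 LD2_c32 LD3_c49) Lrfl Lrfl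
theorem f190663 : Led Lsl_bt (LP (LK LD1_c2 LD2_c37 LD3_c35)) = (LP (LK LD1_c5 LD2_c22 LD3_c7)) :=
  Lre_b IH (LK LD1_c2 LD2_c37 LD3_c35) (LK LD1_c5 LD2_c22 LD3_c7) Lrfl Lrfl
theorem f190664 : Led Lsl_gt (LP (LK LD1_c5 LD2_c22 LD3_c7)) = (LP (LK LD1_c10 LD2_c34 LD3_c42)) :=
  Lre_g IH (LK LD1_c5 LD2_c22 LD3_c7) (LK LD1_c10 LD2_c34 LD3_c42) Lrfl Lrfl
theorem f283915 : Led Lsl_bt (LP (LK LD1_c19 LD2_c9 LD3_c52)) = (LP (LK LD1_c10 LD2_c34 LD3_c42)) :=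
  Lre_b IH (LK LD1_c19 LD2_c9 LD3_c52) (LK LD1_c10 LD2_c34 LD3_c42) Lrfl Lrfl
theorem f283916 : Led Lsl_ct (LP (LK LD1_c19 LD2_c9 LD3_c52)) = (LP (LK LD1_c28 LD2_c35 LD3_c42)) :=
  Lre_c IH (LK LD1_c19 LD2_c9 LD3_c52) (LK LD1_c28 LD2_c35 LD3_c42) Lrfl Lrfl
theorem f283917 : Led Lsl_gf (LP (LK LD1_c28 LD2_c32 LD3_c49)) = (LP (LK LD1_c28 LD2_c35 LD3_c42)) :=
  Lgr Lrot126 (Lpe (f215799 IH) (Lpr_bt (f215825 IH) (Lpe (K16.f215813 IH) (Lpe (K17.f283812 IH) (Lpr_gt (K17.f283894 IH) (Lpe (K14.f46472 IH) (Lpr_bt (f190663 IH) (Lpr_gt (f190664 IH) (Lpe (f283915 IH) (Lpr_ct (f283916 IH) (Lpn (LP (LK LD1_c28 LD2_c35 LD3_c42)))))))))))))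
theorem f915068 : Led Lsl_gt (LP (LK LD1_c28 LD2_c35 LD3_c24)) = (LP (LK LD1_c19 LD2_c9 LD3_c52)) :=
  Lgr Lrot9 (Lpe (f915067 IH) (Lpr_gt (f560052 IH) (Lpr_ct (f915064 IH) (Lpe (f915063 IH) (Lpe (K19.f189315 IH) (Lpr_df (f215811 IH) (Lpe (f215826 IH) (Lpr_gf (f283917 IH) (Lpe (f283916 IH) (Lpn (LP (LK LD1_c19 LD2_c9 LD3_c52))))))))))))
theorem f915069 : Led Lsl_gt (LP (LK LD1_c28 LD2_c35 LD3_c24)) = (LP (LK LD1_c19 LD2_c9 LD3_c52)) :=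
  Leop (Lpe (f915068 IH) (Lpn (LP (LK LD1_c28 LD2_c35 LD3_c24))))
theorem seed_2390 : LEOK LG_g (LK LD1_c28 LD2_c35 LD3_c24) :=
  Leoe_g (LK LD1_c28 LD2_c35 LD3_c24) (f915069 IH)
def v40291 : LQ := Led Lsl_ft (LP (LK LD1_c9 LD2_c36 LD3_c18))
theorem f915407 : Led Lsl_ft (LP (LK LD1_c9 LD2_c36 LD3_c18)) = v40291 :=
  Lrfl
theorem f232961 : Led Lsl_gt (LP (LK LD1_c9 LD2_c36 LD3_c18)) = (LP (LK LD1_c17 LD2_c41 LD3_c15)) :=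
  Lre_g IH (LK LD1_c9 LD2_c36 LD3_c18) (LK LD1_c17 LD2_c41 LD3_c15) Lrfl Lrfl
theorem f232932 : Led Lsl_et (LP (LK LD1_c9 LD2_c34 LD3_c33)) = (LP (LK LD1_c4 LD2_c51 LD3_c13)) :=
  Lre_e IH (LK LD1_c9 LD2_c34 LD3_c33) (LK LD1_c4 LD2_c51 LD3_c13) Lrfl Lrfl
theorem f233371 : Led Lsl_et (LP (LK LD1_c9 LD2_c33 LD3_c46)) = (LP (LK LD1_c17 LD2_c36 LD3_c31)) :=
  Lre_e IH (LK LD1_c9 LD2_c33 LD3_c46) (LK LD1_c17 LD2_c36 LD3_c31) Lrfl Lrfl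
theorem f327884 : Led Lsl_af (LP (LK LD1_c9 LD2_c34 LD3_c33)) = (LP (LK LD1_c17 LD2_c36 LD3_c31)) :=
  Lgr Lrot50 (Lpr_et (f232932 IH) (Lpr_at (K21.f327874 IH) (Lpr_et (f233371 IH) (Lpn (LP (LK LD1_c17 LD2_c36 LD3_c31))))))
theorem f232946 : Led Lsl_et (LP (LK LD1_c4 LD2_c51 LD3_c61)) = (LP (LK LD1_c9 LD2_c36 LD3_c18)) :=
  Lre_e IH (LK LD1_c4 LD2_c51 LD3_c61) (LK LD1_c9 LD2_c36 LD3_c18) Lrfl Lrfl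
theorem f232947 : Led Lsl_ct (LP (LK LD1_c9 LD2_c36 LD3_c18)) = (LP (LK LD1_c9 LD2_c34 LD3_c33)) :=
  Lgr Lrot15 (Lpe (f232946 IH) (Lpr_cf (K13.f232919 IH) (Lpe (f232932 IH) (Lpn (LP (LK LD1_c9 LD2_c34 LD3_c33))))))
theorem f232957 : Led Lsl_cf (LP (LK LD1_c9 LD2_c36 LD3_c18)) = (LP (LK LD1_c9 LD2_c34 LD3_c33)) :=
  Lgr Lrot11 (Lpr_ct (f232947 IH) (Lpn (LP (LK LD1_c9 LD2_c34 LD3_c33))))
theorem f184410 : Led Lsl_et (LP (LK LD1_c17 LD2_c36 LD3_c31)) = (LP (LK LD1_c9 LD2_c33 LD3_c46)) :=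
  Lre_e IH (LK LD1_c17 LD2_c36 LD3_c31) (LK LD1_c9 LD2_c33 LD3_c46) Lrfl Lrfl
theorem f199681 : Led Lsl_et (LP (LK LD1_c8 LD2_c40 LD3_c15)) = (LP (LK LD1_c16 LD2_c14 LD3_c23)) :=
  Lre_e IH (LK LD1_c8 LD2_c40 LD3_c15) (LK LD1_c16 LD2_c14 LD3_c23) Lrfl Lrfl
theorem f233335 : Led Lsl_cf (LP (LK LD1_c17 LD2_c36 LD3_c31)) = (LP (LK LD1_c16 LD2_c14 LD3_c23)) :=
  Lgr Lrot39 (Lpr_et (f184410 IH) (Lpr_ct (K13.f233324 IH) (Lpr_et (f199681 IH) (Lpn (LP (LK LD1_c16 LD2_c14 LD3_c23))))))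
theorem f327889 : Led Lsl_at (LP (LK LD1_c9 LD2_c36 LD3_c18)) = (LP (LK LD1_c16 LD2_c14 LD3_c23)) :=
  Lgr Lrot107 (Lpr_cf (f232957 IH) (Lpr_af (f327884 IH) (Lpr_cf (f233335 IH) (Lpn (LP (LK LD1_c16 LD2_c14 LD3_c23))))))
theorem f327905 : Led Lsl_af (LP (LK LD1_c9 LD2_c36 LD3_c18)) = (LP (LK LD1_c16 LD2_c14 LD3_c23)) :=
  Lgr Lrot0 (Lpr_at (f327889 IH) (Lpn (LP (LK LD1_c16 LD2_c14 LD3_c23))))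
theorem f233359 : Led Lsl_ft (LP (LK LD1_c26 LD2_c11 LD3_c31)) = (LP (LK LD1_c16 LD2_c14 LD3_c23)) :=
  Lre_f IH (LK LD1_c26 LD2_c11 LD3_c31) (LK LD1_c16 LD2_c14 LD3_c23) Lrfl Lrfl
theorem f915408 : Led Lsl_af (LP (LK LD1_c26 LD2_c11 LD3_c31)) = v40291 :=
  Lgr Lrot45 (Lpr_ft (f233359 IH) (Lpe (f327905 IH) (Lpr_ft (f915407 IH) (Lpn v40291))))
theorem f915412 : Led Lsl_gt (LP (LK LD1_c17 LD2_c41 LD3_c15)) = (LP (LK LD1_c26 LD2_c11 LD3_c31)) :=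
  Lgr Lrot46 (Lpe (f232961 IH) (Lpr_ft (f915407 IH) (Lpe (f915408 IH) (Lpn (LP (LK LD1_c26 LD2_c11 LD3_c31))))))
theorem f915413 : Led Lsl_gt (LP (LK LD1_c17 LD2_c41 LD3_c15)) = (LP (LK LD1_c26 LD2_c11 LD3_c31)) :=
  Leop (Lpe (f915412 IH) (Lpn (LP (LK LD1_c17 LD2_c41 LD3_c15))))
theorem seed_2391 : LEOK LG_g (LK LD1_c17 LD2_c41 LD3_c15) :=
  Leoe_g (LK LD1_c17 LD2_c41 LD3_c15) (f915413 IH)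
def v40298 : LQ := Led Lsl_at (LP (LK LD1_c9 LD2_c36 LD3_c34))
theorem f915445 : Led Lsl_at (LP (LK LD1_c9 LD2_c36 LD3_c34)) = v40298 :=
  Lrfl
theorem f276579 : Led Lsl_ff (LP (LK LD1_c4 LD2_c53 LD3_c20)) = (LP (LK LD1_c4 LD2_c52 LD3_c22)) :=
  Lgr Lrot3 (Lpr_ft (K16.f276547 IH) (Lpn (LP (LK LD1_c4 LD2_c52 LD3_c22))))
theorem f292745 : Led Lsl_af (LP (LK LD1_c8 LD2_c40 LD3_c3)) = (LP (LK LD1_c4 LD2_c53 LD3_c20)) :=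
  Lgr Lrot31 (Lpr_gf (K17.f292719 IH) (Lpr_gf (K16.f250507 IH) (Lpe (f276579 IH) (Lpn (LP (LK LD1_c4 LD2_c53 LD3_c20))))))
theorem f407703 : Led Lsl_at (LP (LK LD1_c4 LD2_c21 LD3_c13)) = (LP (LK LD1_c2 LD2_c24 LD3_c28)) :=
  Lgr Lrot51 (Lpe (K17.f292709 IH) (Lpr_af (f292745 IH) (Lpe (K15.f180083 IH) (Lpn (LP (LK LD1_c2 LD2_c24 LD3_c28))))))
theorem f292706 : Led Lsl_bt (LP (LK LD1_c8 LD2_c40 LD3_c2)) = (LP (LK LD1_c4 LD2_c21 LD3_c13)) :=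
  Lre_b IH (LK LD1_c8 LD2_c40 LD3_c2) (LK LD1_c4 LD2_c21 LD3_c13) Lrfl Lrfl
theorem f178386 : Led Lsl_bt (LP (LK LD1_c8 LD2_c23 LD3_c2)) = (LP (LK LD1_c15 LD2_c46 LD3_c22)) :=
  Lre_b IH (LK LD1_c8 LD2_c23 LD3_c2) (LK LD1_c15 LD2_c46 LD3_c22) Lrfl Lrfl
theorem f407705 : Led Lsl_af (LP (LK LD1_c8 LD2_c40 LD3_c2)) = (LP (LK LD1_c15 LD2_c46 LD3_c22)) :=
  Lgr Lrot36 (Lpr_bt (f292706 IH) (Lpr_at (f407703 IH) (Lpe (K41.f167030 IH) (Lpr_at (K41.f178385 IH) (Lpr_bt (f178386 IH) (Lpn (LP (LK LD1_c15 LD2_c46 LD3_c22))))))))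
theorem f915448 : Led Lsl_cf (LP (LK LD1_c15 LD2_c46 LD3_c22)) = v40298 :=
  Lgr Lrot1 (Lpe (f407705 IH) (Lpe (K67.f304523 IH) (Lpr_at (f915445 IH) (Lpn v40298))))
theorem f304851 : Led Lsl_bt (LP (LK LD1_c15 LD2_c46 LD3_c22)) = (LP (LK LD1_c8 LD2_c23 LD3_c2)) :=
  Lre_b IH (LK LD1_c15 LD2_c46 LD3_c22) (LK LD1_c8 LD2_c23 LD3_c2) Lrfl Lrfl
theorem f178377 : Led Lsl_ct (LP (LK LD1_c8 LD2_c23 LD3_c2)) = (LP (LK LD1_c4 LD2_c11 LD3_c44)) :=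
  Lre_c IH (LK LD1_c8 LD2_c23 LD3_c2) (LK LD1_c4 LD2_c11 LD3_c44) Lrfl Lrfl
theorem f406009 : Led Lsl_bf (LP (LK LD1_c4 LD2_c18 LD3_c17)) = (LP (LK LD1_c4 LD2_c11 LD3_c44)) :=
  Lgr Lrot24 (Lpr_bt (K68.f304889 IH) (Lpn (LP (LK LD1_c4 LD2_c11 LD3_c44))))
theorem f915452 : Led Lsl_bt K68.v12588 = v40298 :=
  Lgr Lrot128 (Lpe (K68.f693681 IH) (Lpr_bf (f406009 IH) (Lpe (f178377 IH) (Lpe (f304851 IH) (Lpr_cf (f915448 IH) (Lpn v40298))))))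
theorem f693683 : Led Lsl_cf (LP (LK LD1_c4 LD2_c18 LD3_c17)) = K68.v12588 :=
  Lgr Lrot11 (Lpr_ct (K68.f693681 IH) (Lpn K68.v12588))
theorem f668368 : Led Lsl_gf (LP (LK LD1_c4 LD2_c18 LD3_c17)) = K54.v7782 :=
  Lgr Lrot76 (Lpe (K68.f304888 IH) (Lpr_ff (K50.f493980 IH) (Lpr_gt (K54.f668367 IH) (Lpn K54.v7782))))
theorem f318924 : Led Lsl_cf (LP (LK LD1_c25 LD2_c16 LD3_c39)) = (LP (LK LD1_c17 LD2_c55 LD3_c51)) :=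
  Lgr Lrot97 (Lpr_bt (K53.f219579 IH) (Lpr_ct (K30.f318716 IH) (Lpr_bt (K20.f140376 IH) (Lpr_ct (K27.f318730 IH) (Lpr_bt (K67.f243874 IH) (Lpn (LP (LK LD1_c17 LD2_c55 LD3_c51))))))))
theorem f915449 : Led Lsl_gt (LP (LK LD1_c17 LD2_c45 LD3_c12)) = v40298 :=
  Lgr Lrot46 (Lpe (K53.f166646 IH) (Lpr_ft (K67.f290141 IH) (Lpr_at (f915445 IH) (Lpn v40298))))
theorem f243832 : Led Lsl_ft (LP (LK LD1_c11 LD2_c18 LD3_c10)) = (LP (LK LD1_c17 LD2_c55 LD3_c51)) :=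
  Lre_f IH (LK LD1_c11 LD2_c18 LD3_c10) (LK LD1_c17 LD2_c55 LD3_c51) Lrfl Lrfl
theorem f140395 : Led Lsl_ct (LP (LK LD1_c20 LD2_c14 LD3_c28)) = (LP (LK LD1_c11 LD2_c18 LD3_c10)) :=
  Lre_c IH (LK LD1_c20 LD2_c14 LD3_c28) (LK LD1_c11 LD2_c18 LD3_c10) Lrfl Lrfl
theorem f318926 : Led Lsl_ft (LP (LK LD1_c25 LD2_c16 LD3_c39)) = (LP (LK LD1_c20 LD2_c14 LD3_c28)) :=
  Lgr Lrot4 (Lpr_cf (f318924 IH) (Lpe (f243832 IH) (Lpe (f140395 IH) (Lpn (LP (LK LD1_c20 LD2_c14 LD3_c28))))))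
theorem f243831 : Led Lsl_at (LP (LK LD1_c20 LD2_c14 LD3_c25)) = (LP (LK LD1_c11 LD2_c18 LD3_c10)) :=
  Lre_a IH (LK LD1_c20 LD2_c14 LD3_c25) (LK LD1_c11 LD2_c18 LD3_c10) Lrfl Lrfl
theorem f140461 : Led Lsl_ct (LP (LK LD1_c11 LD2_c18 LD3_c10)) = (LP (LK LD1_c20 LD2_c14 LD3_c28)) :=
  Lre_c IH (LK LD1_c11 LD2_c18 LD3_c10) (LK LD1_c20 LD2_c14 LD3_c28) Lrfl Lrfl
theorem f318818 : Led Lsl_at (LP (LK LD1_c20 LD2_c14 LD3_c28)) = (LP (LK LD1_c28 LD2_c31 LD3_c17)) :=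
  Lgr Lrot107 (Lpe (f140461 IH) (Lpe (f243831 IH) (Lpr_cf (K53.f318811 IH) (Lpn (LP (LK LD1_c28 LD2_c31 LD3_c17))))))
theorem f318936 : Led Lsl_gt (LP (LK LD1_c25 LD2_c16 LD3_c39)) = (LP (LK LD1_c27 LD2_c31 LD3_c38)) :=
  Lgr Lrot5 (Lpr_ft (f318926 IH) (Lpr_at (f318818 IH) (Lpe (K53.f318815 IH) (Lpn (LP (LK LD1_c27 LD2_c31 LD3_c38))))))
theorem f915450 : Led Lsl_ct (LP (LK LD1_c15 LD2_c46 LD3_c22)) = v40298 :=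
  Lgr Lrot63 (Lpr_bt (f304851 IH) (Lpe (K41.f304878 IH) (Lpe (K41.f304861 IH) (Lpr_ct (K41.f403672 IH) (Lpr_gt (K20.f318722 IH) (Lpe (K30.f318716 IH) (Lpr_bt (K53.f318712 IH) (Lpr_gt (f318936 IH) (Lpr_ct (K53.f318817 IH) (Lpr_gt (f915449 IH) (Lpn v40298)))))))))))
theorem f372686 : Led Lsl_at (LP (LK LD1_c8 LD2_c18 LD3_c59)) = (LP (LK LD1_c15 LD2_c38 LD3_c32)) :=
  Lre_a IH (LK LD1_c8 LD2_c18 LD3_c59) (LK LD1_c15 LD2_c38 LD3_c32) Lrfl Lrfl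
theorem f372687 : Led Lsl_ft (LP (LK LD1_c15 LD2_c23 LD3_c61)) = (LP (LK LD1_c8 LD2_c18 LD3_c59)) :=
  Lgr Lrot101 (Lpe (K31.f270975 IH) (Lpr_ff (K38.f372679 IH) (Lpe (f372686 IH) (Lpn (LP (LK LD1_c8 LD2_c18 LD3_c59))))))
theorem f270939 : Led Lsl_gt (LP (LK LD1_c15 LD2_c23 LD3_c61)) = (LP (LK LD1_c25 LD2_c16 LD3_c32)) :=
  Lre_g IH (LK LD1_c15 LD2_c23 LD3_c61) (LK LD1_c25 LD2_c16 LD3_c32) Lrfl Lrfl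
theorem f372698 : Led Lsl_gt (LP (LK LD1_c25 LD2_c16 LD3_c32)) = (LP (LK LD1_c15 LD2_c38 LD3_c32)) :=
  Lgr Lrot46 (Lpe (f270939 IH) (Lpr_ft (f372687 IH) (Lpr_at (f372686 IH) (Lpn (LP (LK LD1_c15 LD2_c38 LD3_c32))))))
theorem f270938 : Led Lsl_bt (LP (LK LD1_c8 LD2_c10 LD3_c46)) = (LP (LK LD1_c15 LD2_c23 LD3_c61)) :=
  Lre_b IH (LK LD1_c8 LD2_c10 LD3_c46) (LK LD1_c15 LD2_c23 LD3_c61) Lrfl Lrfl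
theorem f318993 : Led Lsl_gt (LP (LK LD1_c17 LD2_c45 LD3_c13)) = (LP (LK LD1_c9 LD2_c38 LD3_c59)) :=
  Lre_g IH (LK LD1_c17 LD2_c45 LD3_c13) (LK LD1_c9 LD2_c38 LD3_c59) Lrfl Lrfl
theorem f398316 : Led Lsl_ct (LP (LK LD1_c27 LD2_c31 LD3_c39)) = (LP (LK LD1_c17 LD2_c45 LD3_c13)) :=
  Lre_c IH (LK LD1_c27 LD2_c31 LD3_c39) (LK LD1_c17 LD2_c45 LD3_c13) Lrfl Lrfl
theorem f398317 : Led Lsl_bf (LP (LK LD1_c25 LD2_c16 LD3_c32)) = (LP (LK LD1_c27 LD2_c31 LD3_c39)) :=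
  Lgr Lrot34 (Lpe (f270939 IH) (Lpe (f270938 IH) (Lpr_ct (K16.f270925 IH) (Lpr_gf (K15.f267160 IH) (Lpe (K15.f42005 IH) (Lpr_gf (K16.f276609 IH) (Lpe (K67.f276613 IH) (Lpr_ct (K67.f398312 IH) (Lpe (f318993 IH) (Lpe (f398316 IH) (Lpn (LP (LK LD1_c27 LD2_c31 LD3_c39)))))))))))))

end

end K70

end

end Cfsg.Agent.Helper28.S1692
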