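import Cfsg.Agent.Lib.Helper28.S1692.Seeds70

set_option autoImplicit false
set_option maxRecDepth 100000
set_option linter.all false

namespace Cfsg.Agent.Helper28.S1692

open Cfsg.Agent.Helper28
open Cfsg.Spor.ON (Gen)

noncomputable section

namespace K71
abbrev LD1_c0 := D1.c0
abbrev LD1_c1 := D1.c1
abbrev LD1_c2 := D1.c2
abbrev LD1_c3 := D1.c3
abbrev LD1_c4 := D1.c4
abbrev LD1_c5 := D1.c5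
abbrev LD1_c6 := D1.c6
abbrev LD1_c7 := D1.c7
abbrev LD1_c8 := D1.c8
abbrev LD1_c9 := D1.c9
abbrev LD1_c10 := D1.c10
abbrev LD1_c11 := D1.c11
abbrev LD1_c12 := D1.c12
abbrev LD1_c13 := D1.c13
abbrev LD1_c14 := D1.c14
abbrev LD1_c15 := D1.c15
abbrev LD1_c16 := D1.c16
abbrev LD1_c17 := D1.c17
abbrev LD1_c18 := D1.c18
abbrev LD1_c19 := D1.c19
abbrev LD1_c20 := D1.c20
abbrev LD1_c21 := D1.c21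
abbrev LD1_c22 := D1.c22
abbrev LD1_c23 := D1.c23
abbrev LD1_c24 := D1.c24
abbrev LD1_c25 := D1.c25
abbrev LD1_c26 := D1.c26
abbrev LD1_c27 := D1.c27
abbrev LD1_c28 := D1.c28
abbrev LD1_c29 := D1.c29
abbrev LD1_c30 := D1.c30
abbrev LD1_c31 := D1.c31
abbrev LD1_c32 := D1.c32
abbrev LD2_c0 := D2.c0
abbrev LD2_c1 := D2.c1
abbrev LD2_c2 := D2.c2
abbrev LD2_c3 := D2.c3
abbrev LD2_c4 := D2.c4
abbrev LD2_c5 := D2.c5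
abbrev LD2_c6 := D2.c6
abbrev LD2_c7 := D2.c7
abbrev LD2_c8 := D2.c8
abbrev LD2_c9 := D2.c9
abbrev LD2_c10 := D2.c10
abbrev LD2_c11 := D2.c11
abbrev LD2_c12 := D2.c12
abbrev LD2_c13 := D2.c13
abbrev LD2_c14 := D2.c14
abbrev LD2_c15 := D2.c15
abbrev LD2_c16 := D2.c16
abbrev LD2_c17 := D2.c17
abbrev LD2_c18 := D2.c18
abbrev LD2_c19 := D2.c19
abbrev LD2_c20 := D2.c20
abbrev LD2_c21 := D2.c21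
abbrev LD2_c22 := D2.c22
abbrev LD2_c23 := D2.c23
abbrev LD2_c24 := D2.c24
abbrev LD2_c25 := D2.c25
abbrev LD2_c26 := D2.c26
abbrev LD2_c27 := D2.c27
abbrev LD2_c28 := D2.c28
abbrev LD2_c29 := D2.c29
abbrev LD2_c30 := D2.c30
abbrev LD2_c31 := D2.c31
abbrev LD2_c32 := D2.c32
abbrev LD2_c33 := D2.c33
abbrev LD2_c34 := D2.c34
abbrev LD2_c35 := D2.c35
abbrev LD2_c36 := D2.c36
abbrev LD2_c37 := D2.c37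
abbrev LD2_c38 := D2.c38
abbrev LD2_c39 := D2.c39
abbrev LD2_c40 := D2.c40
abbrev LD2_c41 := D2.c41
abbrev LD2_c42 := D2.c42
abbrev LD2_c43 := D2.c43
abbrev LD2_c44 := D2.c44
abbrev LD2_c45 := D2.c45
abbrev LD2_c46 := D2.c46
abbrev LD2_c47 := D2.c47
abbrev LD2_c48 := D2.c48
abbrev LD2_c49 := D2.c49
abbrev LD2_c50 := D2.c50
abbrev LD2_c51 := D2.c51
abbrev LD2_c52 := D2.c52
abbrev LD2_c53 := D2.c53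
abbrev LD2_c54 := D2.c54
abbrev LD2_c55 := D2.c55
abbrev LD2_c56 := D2.c56
abbrev LD2_c57 := D2.c57
abbrev LD2_c58 := D2.c58
abbrev LD2_c59 := D2.c59
abbrev LD3_c0 := D3.c0
abbrev LD3_c1 := D3.c1
abbrev LD3_c2 := D3.c2
abbrev LD3_c3 := D3.c3
abbrev LD3_c4 := D3.c4
abbrev LD3_c5 := D3.c5
abbrev LD3_c6 := D3.c6
abbrev LD3_c7 := D3.c7
abbrev LD3_c8 := D3.c8
abbrev LD3_c9 := D3.c9
abbrev LD3_c10 := D3.c10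
abbrev LD3_c11 := D3.c11
abbrev LD3_c12 := D3.c12
abbrev LD3_c13 := D3.c13
abbrev LD3_c14 := D3.c14
abbrev LD3_c15 := D3.c15
abbrev LD3_c16 := D3.c16
abbrev LD3_c17 := D3.c17
abbrev LD3_c18 := D3.c18
abbrev LD3_c19 := D3.c19
abbrev LD3_c20 := D3.c20
abbrev LD3_c21 := D3.c21
abbrev LD3_c22 := D3.c22
abbrev LD3_c23 := D3.c23
abbrev LD3_c24 := D3.c24
abbrev LD3_c25 := D3.c25
abbrev LD3_c26 := D3.c26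
abbrev LD3_c27 := D3.c27
abbrev LD3_c28 := D3.c28
abbrev LD3_c29 := D3.c29
abbrev LD3_c30 := D3.c30
abbrev LD3_c31 := D3.c31
abbrev LD3_c32 := D3.c32
abbrev LD3_c33 := D3.c33
abbrev LD3_c34 := D3.c34
abbrev LD3_c35 := D3.c35
abbrev LD3_c36 := D3.c36
abbrev LD3_c37 := D3.c37
abbrev LD3_c38 := D3.c38
abbrev LD3_c39 := D3.c39
abbrev LD3_c40 := D3.c40
abbrev LD3_c41 := D3.c41
abbrev LD3_c42 := D3.c42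
abbrev LD3_c43 := D3.c43
abbrev LD3_c44 := D3.c44
abbrev LD3_c45 := D3.c45
abbrev LD3_c46 := D3.c46
abbrev LD3_c47 := D3.c47
abbrev LD3_c48 := D3.c48
abbrev LD3_c49 := D3.c49
abbrev LD3_c50 := D3.c50
abbrev LD3_c51 := D3.c51
abbrev LD3_c52 := D3.c52
abbrev LD3_c53 := D3.c53
abbrev LD3_c54 := D3.c54
abbrev LD3_c55 := D3.c55
abbrev LD3_c56 := D3.c56
abbrev LD3_c57 := D3.c57
abbrev LD3_c58 := D3.c58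
abbrev LD3_c59 := D3.c59
abbrev LD3_c60 := D3.c60
abbrev LD3_c61 := D3.c61
abbrev LG_g := Gen.g
abbrev Lsl_gt : Gen × Bool := sl_gt
alias Lfl_gt := fl_gt
alias Lpr_gt := pr_gt
abbrev Lsl_gf : Gen × Bool := sl_gf
alias Lfl_gf := fl_gf
alias Lpr_gf := pr_gf
alias Lre_g := re_g
alias Leoe_g := eoe_g
abbrev LG_a := Gen.a
abbrev Lsl_at : Gen × Bool := sl_at
alias Lfl_at := fl_at
alias Lpr_at := pr_at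
abbrev Lsl_af : Gen × Bool := sl_af
alias Lfl_af := fl_af
alias Lpr_af := pr_af
alias Lre_a := re_a
alias Leoe_a := eoe_a
abbrev LG_b := Gen.b
abbrev Lsl_bt : Gen × Bool := sl_bt
alias Lfl_bt := fl_bt
alias Lpr_bt := pr_bt
abbrev Lsl_bf : Gen × Bool := sl_bf
alias Lfl_bf := fl_bf
alias Lpr_bf := pr_bf
alias Lre_b := re_b
alias Leoe_b := eoe_b
abbrev LG_c := Gen.c
abbrev Lsl_ct : Gen × Bool := sl_ct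
alias Lfl_ct := fl_ct
alias Lpr_ct := pr_ct
abbrev Lsl_cf : Gen × Bool := sl_cf
alias Lfl_cf := fl_cf
alias Lpr_cf := pr_cf
alias Lre_c := re_c
alias Leoe_c := eoe_c
abbrev LG_d := Gen.d
abbrev Lsl_dt : Gen × Bool := sl_dt
alias Lfl_dt := fl_dt
alias Lpr_dt := pr_dt
abbrev Lsl_df : Gen × Bool := sl_df
alias Lfl_df := fl_df
alias Lpr_df := pr_df
alias Lre_d := re_d
alias Leoe_d := eoe_d
abbrev LG_e := Gen.e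
abbrev Lsl_et : Gen × Bool := sl_et
alias Lfl_et := fl_et
alias Lpr_et := pr_et
abbrev Lsl_ef : Gen × Bool := sl_ef
alias Lfl_ef := fl_ef
alias Lpr_ef := pr_ef
alias Lre_e := re_e
alias Leoe_e := eoe_e
abbrev LG_f := Gen.f
abbrev Lsl_ft : Gen × Bool := sl_ft
alias Lfl_ft := fl_ft
alias Lpr_ft := pr_ft
abbrev Lsl_ff : Gen × Bool := sl_ff
alias Lfl_ff := fl_ff
alias Lpr_ff := pr_ff
alias Lre_f := re_f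
alias Leoe_f := eoe_f
abbrev LK := Pt.mk
abbrev LQ : Type := Qt rels S
abbrev LP (p : Pt) : LQ := P p
abbrev Led (l : Gen × Bool) (c : LQ) : LQ := ed l c
abbrev LEOK (x : Gen) (p : Pt) : Prop := EntryOK rels S fwd inv o plet idx x p
alias Lpe := pe
alias Lpn := pn
alias Lgr := gr
alias Lpq := pq
alias Lpqs := pqs
alias Llr := lr
alias Leop := eop
alias Lefun := efun
alias Lecon := econ
theorem Lrfl {α : Sort _} {a : α} : a = a := rfl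
alias Lrot0 := rot0
alias Lrot1 := rot1
alias Lrot2 := rot2
alias Lrot3 := rot3
alias Lrot4 := rot4
alias Lrot5 := rot5
alias Lrot6 := rot6
alias Lrot7 := rot7
alias Lrot8 := rot8
alias Lrot9 := rot9
alias Lrot11 := rot11
alias Lrot12 := rot12
alias Lrot13 := rot13
alias Lrot15 := rot15
alias Lrot17 := rot17
alias Lrot18 := rot18
alias Lrot19 := rot19
alias Lrot20 := rot20
alias Lrot21 := rot21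
alias Lrot22 := rot22
alias Lrot23 := rot23
alias Lrot24 := rot24
alias Lrot25 := rot25
alias Lrot26 := rot26
alias Lrot27 := rot27
alias Lrot28 := rot28
alias Lrot29 := rot29
alias Lrot30 := rot30
alias Lrot31 := rot31
alias Lrot33 := rot33
alias Lrot34 := rot34
alias Lrot35 := rot35
alias Lrot36 := rot36
alias Lrot37 := rot37
alias Lrot38 := rot38
alias Lrot39 := rot39
alias Lrot40 := rot40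
alias Lrot42 := rot42
alias Lrot43 := rot43
alias Lrot44 := rot44
alias Lrot45 := rot45
alias Lrot46 := rot46
alias Lrot47 := rot47
alias Lrot48 := rot48
alias Lrot49 := rot49
alias Lrot50 := rot50
alias Lrot51 := rot51
alias Lrot52 := rot52
alias Lrot53 := rot53
alias Lrot54 := rot54
alias Lrot55 := rot55
alias Lrot57 := rot57
alias Lrot58 := rot58
alias Lrot59 := rot59
alias Lrot60 := rot60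
alias Lrot61 := rot61
alias Lrot62 := rot62
alias Lrot63 := rot63
alias Lrot64 := rot64
alias Lrot65 := rot65
alias Lrot66 := rot66
alias Lrot67 := rot67
alias Lrot68 := rot68
alias Lrot69 := rot69
alias Lrot70 := rot70
alias Lrot71 := rot71
alias Lrot72 := rot72
alias Lrot73 := rot73
alias Lrot74 := rot74
alias Lrot75 := rot75
alias Lrot76 := rot76
alias Lrot77 := rot77
alias Lrot78 := rot78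
alias Lrot79 := rot79
alias Lrot80 := rot80
alias Lrot81 := rot81
alias Lrot82 := rot82
alias Lrot83 := rot83
alias Lrot84 := rot84
alias Lrot86 := rot86
alias Lrot87 := rot87
alias Lrot88 := rot88
alias Lrot90 := rot90
alias Lrot91 := rot91
alias Lrot92 := rot92
alias Lrot93 := rot93
alias Lrot94 := rot94
alias Lrot95 := rot95
alias Lrot96 := rot96
alias Lrot97 := rot97
alias Lrot98 := rot98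
alias Lrot99 := rot99
alias Lrot100 := rot100
alias Lrot101 := rot101
alias Lrot102 := rot102
alias Lrot103 := rot103
alias Lrot104 := rot104
alias Lrot105 := rot105
alias Lrot106 := rot106
alias Lrot107 := rot107
alias Lrot108 := rot108
alias Lrot109 := rot109
alias Lrot110 := rot110
alias Lrot111 := rot111
alias Lrot112 := rot112
alias Lrot113 := rot113
alias Lrot114 := rot114
alias Lrot117 := rot117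
alias Lrot119 := rot119
alias Lrot120 := rot120
alias Lrot121 := rot121
alias Lrot122 := rot122
alias Lrot123 := rot123
alias Lrot124 := rot124
alias Lrot125 := rot125
alias Lrot126 := rot126
alias Lrot127 := rot127
alias Lrot128 := rot128
alias Lrot129 := rot129
alias Lrot130 := rot130
alias Lrot131 := rot131
alias Lrot132 := rot132
alias Lrot134 := rot134
alias Lrot135 := rot135
alias Lrot136 := rot136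
alias Lrot137 := rot137
alias Lrot138 := rot138
alias Lrot139 := rot139
alias Lrot140 := rot140
alias Lrot141 := rot141
alias Lrot142 := rot142
alias Lrot143 := rot143
alias Lrot144 := rot144
alias Lrot145 := rot145
alias Lrot147 := rot147
alias Lrot149 := rot149
alias Lrot150 := rot150
alias Lrot151 := rot151
alias Lrot152 := rot152
alias Lrot153 := rot153
alias Lrot155 := rot155
alias Lrot156 := rot156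
alias Lrot157 := rot157
alias Lrot158 := rot158
alias Lrot159 := rot159
alias Lrot160 := rot160
alias Lrot162 := rot162
alias Lrot163 := rot163
alias Lrot164 := rot164
alias Lrot165 := rot165
alias Lrot166 := rot166
alias Lrot167 := rot167
alias Lrot168 := rot168
alias Lrot169 := rot169
alias Lrot170 := rot170
alias Lrot171 := rot171
alias Lrot172 := rot172
alias Lrot173 := rot173
alias Lrot175 := rot175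
alias Lrot176 := rot176
alias Lrot177 := rot177
alias Lrot178 := rot178
alias Lrot179 := rot179
alias Lrot180 := rot180
alias Lrot181 := rot181
alias Lrot182 := rot182
alias Lrot183 := rot183
alias Lrot185 := rot185
alias Lrot187 := rot187
alias Lrot190 := rot190
alias Lrot191 := rot191

section
variable (IH : IHT)
include IH

theorem f915451 : Led Lsl_gf (LP (LK LD1_c17 LD2_c45 LD3_c13)) = K70.v40298 :=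
  Lgr Lrot126 (Lpe (K70.f398316 IH) (Lpe (K70.f398317 IH) (Lpr_gt (K70.f372698 IH) (Lpr_ct (K38.f372276 IH) (Lpe (K52.f372674 IH) (Lpe (K41.f304859 IH) (Lpr_bt (K41.f304850 IH) (Lpr_gt (K41.f304848 IH) (Lpe (K70.f304851 IH) (Lpr_ct (K70.f915450 IH) (Lpn K70.v40298)))))))))))
theorem f398321 : Led Lsl_ct (LP (LK LD1_c17 LD2_c45 LD3_c13)) = (LP (LK LD1_c27 LD2_c31 LD3_c39)) :=
  Lre_c IH (LK LD1_c17 LD2_c45 LD3_c13) (LK LD1_c27 LD2_c31 LD3_c39) Lrfl Lrfl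
theorem f915453 : Led Lsl_gf (LP (LK LD1_c25 LD2_c16 LD3_c39)) = (LP (LK LD1_c27 LD2_c31 LD3_c39)) :=
  Lgr Lrot129 (Lpr_cf (K70.f318924 IH) (Lpr_bt (K53.f243796 IH) (Lpr_gt (K27.f318731 IH) (Lpr_bf (K54.f738509 IH) (Lpe (K54.f738513 IH) (Lpqs (K54.f738515 IH) (Lpe (K70.f668368 IH) (Lpr_cf (K70.f693683 IH) (Lpr_bt (K70.f915452 IH) (Lpe (f915451 IH) (Lpr_ct (f398321 IH) (Lpn (LP (LK LD1_c27 LD2_c31 LD3_c39))))))))))))))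
theorem f915454 : Led Lsl_gt (LP (LK LD1_c27 LD2_c31 LD3_c39)) = (LP (LK LD1_c25 LD2_c16 LD3_c39)) :=
  Leop (Lpr_gf (f915453 IH) (Lpn (LP (LK LD1_c27 LD2_c31 LD3_c39))))
theorem seed_2392 : LEOK LG_g (LK LD1_c27 LD2_c31 LD3_c39) :=
  Leoe_g (LK LD1_c27 LD2_c31 LD3_c39) (f915454 IH)
def v40314 : LQ := Led Lsl_gf (LP (LK LD1_c9 LD2_c37 LD3_c4))
theorem f915544 : Led Lsl_gf (LP (LK LD1_c9 LD2_c37 LD3_c4)) = v40314 :=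
  Lrfl
theorem f405885 : Led Lsl_ct (LP (LK LD1_c9 LD2_c37 LD3_c4)) = (LP (LK LD1_c17 LD2_c42 LD3_c35)) :=
  Lre_c IH (LK LD1_c9 LD2_c37 LD3_c4) (LK LD1_c17 LD2_c42 LD3_c35) Lrfl Lrfl
theorem f890473 : Led Lsl_gt (LP (LK LD1_c17 LD2_c42 LD3_c35)) = (LP (LK LD1_c27 LD2_c29 LD3_c45)) :=
  Lre_g IH (LK LD1_c17 LD2_c42 LD3_c35) (LK LD1_c27 LD2_c29 LD3_c45) Lrfl Lrfl
theorem f307146 : Led Lsl_dt (LP (LK LD1_c9 LD2_c37 LD3_c4)) = (LP (LK LD1_c4 LD2_c52 LD3_c23)) :=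
  Lre_d IH (LK LD1_c9 LD2_c37 LD3_c4) (LK LD1_c4 LD2_c52 LD3_c23) Lrfl Lrfl
theorem f305930 : Led Lsl_ct (LP (LK LD1_c4 LD2_c18 LD3_c40)) = (LP (LK LD1_c8 LD2_c35 LD3_c61)) :=
  Lre_c IH (LK LD1_c4 LD2_c18 LD3_c40) (LK LD1_c8 LD2_c35 LD3_c61) Lrfl Lrfl
def v36661 : LQ := Led Lsl_ct (LP (LK LD1_c8 LD2_c33 LD3_c15))
theorem f889467 : Led Lsl_ct (LP (LK LD1_c8 LD2_c33 LD3_c15)) = v36661 :=
  Lrfl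
def v36643 : LQ := Led Lsl_ft (LP (LK LD1_c8 LD2_c32 LD3_c46))
theorem f889344 : Led Lsl_ft (LP (LK LD1_c8 LD2_c32 LD3_c46)) = v36643 :=
  Lrfl
theorem f889348 : Led Lsl_ff (LP (LK LD1_c8 LD2_c32 LD3_c46)) = v36643 :=
  Lgr Lrot3 (Lpr_ft (f889344 IH) (Lpn v36643))
theorem f889350 : Led Lsl_ct (LP (LK LD1_c8 LD2_c32 LD3_c49)) = v36643 :=
  Lgr Lrot40 (Lpe (K12.f230972 IH) (Lpe (K68.f169364 IH) (Lpr_ff (f889348 IH) (Lpn v36643))))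
theorem f169382 : Led Lsl_at (LP (LK LD1_c8 LD2_c32 LD3_c46)) = (LP (LK LD1_c4 LD2_c16 LD3_c55)) :=
  Lre_a IH (LK LD1_c8 LD2_c32 LD3_c46) (LK LD1_c4 LD2_c16 LD3_c55) Lrfl Lrfl
theorem f889352 : Led Lsl_gf (LP (LK LD1_c8 LD2_c33 LD3_c13)) = v36643 :=
  Lgr Lrot47 (Lpr_gt (K23.f169394 IH) (Lpe (f169382 IH) (Lpr_ff (f889348 IH) (Lpn v36643))))
theorem f355672 : Led Lsl_bf (LP (LK LD1_c8 LD2_c24 LD3_c7)) = (LP (LK LD1_c14 LD2_c58 LD3_c12)) :=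
  Lgr Lrot93 (Lpr_dt (K26.f305979 IH) (Lpr_bt (K25.f305961 IH) (Lpr_dt (K25.f355670 IH) (Lpn (LP (LK LD1_c14 LD2_c58 LD3_c12))))))
theorem f166842 : Led Lsl_at (LP (LK LD1_c5 LD2_c3 LD3_c43)) = (LP (LK LD1_c2 LD2_c29 LD3_c22)) :=
  Lre_a IH (LK LD1_c5 LD2_c3 LD3_c43) (LK LD1_c2 LD2_c29 LD3_c22) Lrfl Lrfl
theorem f166833 : Led Lsl_at (LP (LK LD1_c2 LD2_c3 LD3_c26)) = (LP (LK LD1_c4 LD2_c12 LD3_c15)) :=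
  Lre_a IH (LK LD1_c2 LD2_c3 LD3_c26) (LK LD1_c4 LD2_c12 LD3_c15) Lrfl Lrfl
theorem f166843 : Led Lsl_df (LP (LK LD1_c5 LD2_c3 LD3_c43)) = (LP (LK LD1_c4 LD2_c12 LD3_c15)) :=
  Lgr Lrot18 (Lpr_at (f166842 IH) (Lpr_dt (K10.f166827 IH) (Lpr_at (f166833 IH) (Lpn (LP (LK LD1_c4 LD2_c12 LD3_c15))))))
theorem f249650 : Led Lsl_bf (LP (LK LD1_c4 LD2_c12 LD3_c15)) = (LP (LK LD1_c4 LD2_c18 LD3_c40)) :=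
  Lgr Lrot93 (Lpe (f166843 IH) (Lpr_bt (K14.f249641 IH) (Lpe (K21.f246670 IH) (Lpn (LP (LK LD1_c4 LD2_c18 LD3_c40))))))
theorem f889473 : Led Lsl_gt (LP (LK LD1_c8 LD2_c35 LD3_c61)) = v36661 :=
  Lgr Lrot65 (Lpe (f305930 IH) (Lpe (f249650 IH) (Lpe (K21.f166938 IH) (Lpr_bf (f355672 IH) (Lpe (K23.f349853 IH) (Lpr_gf (f889352 IH) (Lpe (f889350 IH) (Lpe (K27.f230992 IH) (Lpe (K25.f230993 IH) (Lpr_ct (f889467 IH) (Lpn v36661)))))))))))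
theorem f915546 : Led Lsl_dt v36661 = v40314 :=
  Lgr Lrot57 (Lpe (f889473 IH) (Lpe (f305930 IH) (Lpr_gt (K21.f260930 IH) (Lpr_dt (K21.f307253 IH) (Lpr_gt (K23.f214987 IH) (Lpe (K21.f306967 IH) (Lpe (K26.f307145 IH) (Lpe (f307146 IH) (Lpr_gf (f915544 IH) (Lpn v40314))))))))))
def v12623 : LQ := Led Lsl_ft (LP (LK LD1_c4 LD2_c18 LD3_c51))
theorem f693836 : Led Lsl_ft (LP (LK LD1_c4 LD2_c18 LD3_c51)) = v12623 :=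
  Lrfl
theorem f171415 : Led Lsl_ft (LP (LK LD1_c4 LD2_c18 LD3_c54)) = (LP (LK LD1_c2 LD2_c6 LD3_c42)) :=
  Lre_f IH (LK LD1_c4 LD2_c18 LD3_c54) (LK LD1_c2 LD2_c6 LD3_c42) Lrfl Lrfl
theorem f693837 : Led Lsl_cf (LP (LK LD1_c4 LD2_c18 LD3_c54)) = v12623 :=
  Lgr Lrot108 (Lpr_ft (f171415 IH) (Lpr_ct (K26.f171428 IH) (Lpr_ft (f693836 IH) (Lpn v12623))))
theorem f889472 : Led Lsl_gf v12623 = v36661 :=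
  Lgr Lrot104 (Lpe (f693837 IH) (Lpr_df (K26.f171397 IH) (Lpe (K14.f171422 IH) (Lpr_gf (K26.f248576 IH) (Lpr_cf (K26.f354738 IH) (Lpe (K67.f371308 IH) (Lpr_df (K17.f229662 IH) (Lpe (K25.f355859 IH) (Lpr_ct (f889467 IH) (Lpn v36661))))))))))
theorem f305957 : Led Lsl_dt (LP (LK LD1_c26 LD2_c3 LD3_c61)) = (LP (LK LD1_c16 LD2_c7 LD3_c21)) :=
  Lre_d IH (LK LD1_c26 LD2_c3 LD3_c61) (LK LD1_c16 LD2_c7 LD3_c21) Lrfl Lrfl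
theorem f915547 : Led Lsl_ct (LP (LK LD1_c27 LD2_c29 LD3_c45)) = (LP (LK LD1_c26 LD2_c3 LD3_c61)) :=
  Lgr Lrot110 (Lpe (f890473 IH) (Lpe (f405885 IH) (Lpr_gf (f915544 IH) (Lpe (f915546 IH) (Lpe (f889472 IH) (Lpe (f693837 IH) (Lpr_gt (K19.f171424 IH) (Lpr_ct (K26.f171425 IH) (Lpe (f305957 IH) (Lpn (LP (LK LD1_c26 LD2_c3 LD3_c61))))))))))))
theorem f915548 : Led Lsl_ct (LP (LK LD1_c27 LD2_c29 LD3_c45)) = (LP (LK LD1_c26 LD2_c3 LD3_c61)) :=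
  Leop (Lpe (f915547 IH) (Lpn (LP (LK LD1_c27 LD2_c29 LD3_c45))))
theorem seed_2393 : LEOK LG_c (LK LD1_c27 LD2_c29 LD3_c45) :=
  Leoe_c (LK LD1_c27 LD2_c29 LD3_c45) (f915548 IH)
def v40325 : LQ := Led Lsl_gt (LP (LK LD1_c9 LD2_c37 LD3_c18))
theorem f915602 : Led Lsl_gt (LP (LK LD1_c9 LD2_c37 LD3_c18)) = v40325 :=
  Lrfl
theorem f819824 : Led Lsl_bf K50.v4136 = K68.v23722 :=
  Lgr Lrot24 (Lpr_bt (K68.f819823 IH) (Lpn K68.v23722))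
theorem f915605 : Led Lsl_ct K68.v23722 = v40325 :=
  Lgr Lrot63 (Lpe (f819824 IH) (Lpe (K50.f631390 IH) (Lpe (K19.f171196 IH) (Lpr_ct (K9.f171193 IH) (Lpr_gt (K9.f171190 IH) (Lpe (K9.f170075 IH) (Lpr_bt (K49.f170076 IH) (Lpr_gt (K49.f397222 IH) (Lpr_ct (K52.f30599 IH) (Lpr_gt (f915602 IH) (Lpn v40325)))))))))))
theorem f397710 : Led Lsl_gt (LP (LK LD1_c9 LD2_c39 LD3_c9)) = (LP (LK LD1_c17 LD2_c45 LD3_c23)) :=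
  Lre_g IH (LK LD1_c9 LD2_c39 LD3_c9) (LK LD1_c17 LD2_c45 LD3_c23) Lrfl Lrfl
theorem f915607 : Led Lsl_dt (LP (LK LD1_c17 LD2_c45 LD3_c23)) = v40325 :=
  Lgr Lrot113 (Lpe (f397710 IH) (Lpe (K30.f397675 IH) (Lpe (K66.f2291 IH) (Lpe (K66.f738754 IH) (Lpr_gt (K66.f170949 IH) (Lpr_dt (K53.f170966 IH) (Lpr_gt (K53.f718580 IH) (Lpr_dt (K68.f819828 IH) (Lpr_ct (f915605 IH) (Lpn v40325))))))))))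
theorem f397678 : Led Lsl_bt (LP (LK LD1_c17 LD2_c45 LD3_c21)) = (LP (LK LD1_c9 LD2_c39 LD3_c9)) :=
  Lre_b IH (LK LD1_c17 LD2_c45 LD3_c21) (LK LD1_c9 LD2_c39 LD3_c9) Lrfl Lrfl
theorem f915604 : Led Lsl_cf K68.v23722 = v40325 :=
  Lgr Lrot99 (Lpe (K68.f819828 IH) (Lpe (K49.f263821 IH) (Lpe (K49.f263802 IH) (Lpe (K27.f2855 IH) (Lpr_gf (K27.f263793 IH) (Lpr_df (K68.f178392 IH) (Lpr_gt (K49.f397222 IH) (Lpr_ct (K52.f30599 IH) (Lpr_gt (f915602 IH) (Lpn v40325))))))))))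
theorem f279182 : Led Lsl_bt (LP (LK LD1_c8 LD2_c40 LD3_c10)) = (LP (LK LD1_c16 LD2_c14 LD3_c11)) :=
  Lre_b IH (LK LD1_c8 LD2_c40 LD3_c10) (LK LD1_c16 LD2_c14 LD3_c11) Lrfl Lrfl
theorem f279199 : Led Lsl_gt (LP (LK LD1_c16 LD2_c14 LD3_c11)) = (LP (LK LD1_c26 LD2_c11 LD3_c11)) :=
  Lre_g IH (LK LD1_c16 LD2_c14 LD3_c11) (LK LD1_c26 LD2_c11 LD3_c11) Lrfl Lrfl
theorem f915609 : Led Lsl_df (LP (LK LD1_c16 LD2_c37 LD3_c13)) = (LP (LK LD1_c26 LD2_c11 LD3_c11)) :=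
  Lgr Lrot183 (Lpr_ct (K30.f289090 IH) (Lpr_bt (K30.f289092 IH) (Lpr_gt (K30.f224423 IH) (Lpr_dt (K38.f289106 IH) (Lpr_ct (K38.f550735 IH) (Lpr_bt (f397678 IH) (Lpr_gt (f397710 IH) (Lpr_dt (f915607 IH) (Lpe (f915604 IH) (Lpe (f819824 IH) (Lpe (K50.f631390 IH) (Lpr_dt (K19.f237787 IH) (Lpr_ct (K41.f53369 IH) (Lpe (K50.f237775 IH) (Lpr_gt (K16.f279180 IH) (Lpr_dt (K12.f219619 IH) (Lpr_ct (K12.f219618 IH) (Lpr_bt (f279182 IH) (Lpr_gt (f279199 IH) (Lpn (LP (LK LD1_c26 LD2_c11 LD3_c11))))))))))))))))))))))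
theorem f915610 : Led Lsl_dt (LP (LK LD1_c26 LD2_c11 LD3_c11)) = (LP (LK LD1_c16 LD2_c37 LD3_c13)) :=
  Leop (Lpr_df (f915609 IH) (Lpn (LP (LK LD1_c26 LD2_c11 LD3_c11))))
theorem seed_2394 : LEOK LG_d (LK LD1_c26 LD2_c11 LD3_c11) :=
  Leoe_d (LK LD1_c26 LD2_c11 LD3_c11) (f915610 IH)
def v40411 : LQ := Led Lsl_gf (LP (LK LD1_c9 LD2_c39 LD3_c5))
theorem f916014 : Led Lsl_gf (LP (LK LD1_c9 LD2_c39 LD3_c5)) = v40411 :=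
  Lrfl
theorem f359064 : Led Lsl_dt (LP (LK LD1_c25 LD2_c58 LD3_c40)) = (LP (LK LD1_c16 LD2_c1 LD3_c13)) :=
  Lre_d IH (LK LD1_c25 LD2_c58 LD3_c40) (LK LD1_c16 LD2_c1 LD3_c13) Lrfl Lrfl
theorem f399389 : Led Lsl_ct (LP (LK LD1_c31 LD2_c54 LD3_c39)) = (LP (LK LD1_c25 LD2_c58 LD3_c40)) :=
  Lgr Lrot110 (Lpr_gf (K38.f399385 IH) (Lpe (K49.f394430 IH) (Lpe (K38.f399273 IH) (Lpe (K38.f372985 IH) (Lpr_gt (K30.f170554 IH) (Lpr_ct (K30.f167281 IH) (Lpr_gt (K31.f170476 IH) (Lpr_ct (K49.f188738 IH) (Lpe (f359064 IH) (Lpn (LP (LK LD1_c25 LD2_c58 LD3_c40))))))))))))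
theorem f399391 : Led Lsl_cf (LP (LK LD1_c31 LD2_c54 LD3_c39)) = (LP (LK LD1_c25 LD2_c58 LD3_c40)) :=
  Lgr Lrot11 (Lpr_ct (f399389 IH) (Lpn (LP (LK LD1_c25 LD2_c58 LD3_c40))))
theorem f359072 : Led Lsl_dt (LP (LK LD1_c16 LD2_c1 LD3_c13)) = (LP (LK LD1_c25 LD2_c58 LD3_c40)) :=
  Lre_d IH (LK LD1_c16 LD2_c1 LD3_c13) (LK LD1_c25 LD2_c58 LD3_c40) Lrfl Lrfl
theorem f398049 : Led Lsl_dt (LP (LK LD1_c17 LD2_c40 LD3_c44)) = (LP (LK LD1_c9 LD2_c36 LD3_c6)) :=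
  Lre_d IH (LK LD1_c17 LD2_c40 LD3_c44) (LK LD1_c9 LD2_c36 LD3_c6) Lrfl Lrfl
theorem f620713 : Led Lsl_gt (LP (LK LD1_c27 LD2_c27 LD3_c42)) = (LP (LK LD1_c17 LD2_c40 LD3_c44)) :=
  Lgr Lrot94 (Lpr_cf (K50.f620709 IH) (Lpe (K49.f620453 IH) (Lpr_dt (K38.f263840 IH) (Lpe (K38.f399393 IH) (Lpr_dt (K38.f399376 IH) (Lpr_cf (f399391 IH) (Lpe (f359072 IH) (Lpr_gf (K49.f551083 IH) (Lpe (f398049 IH) (Lpn (LP (LK LD1_c17 LD2_c40 LD3_c44))))))))))))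
theorem f236066 : Led Lsl_ct (LP (LK LD1_c27 LD2_c26 LD3_c33)) = (LP (LK LD1_c17 LD2_c38 LD3_c28)) :=
  Lre_c IH (LK LD1_c27 LD2_c26 LD3_c33) (LK LD1_c17 LD2_c38 LD3_c28) Lrfl Lrfl
theorem f263829 : Led Lsl_gf (LP (LK LD1_c17 LD2_c45 LD3_c28)) = (LP (LK LD1_c15 LD2_c35 LD3_c29)) :=
  Lgr Lrot129 (Lpr_cf (K52.f263813 IH) (Lpr_bt (K49.f220334 IH) (Lpr_gt (K49.f220331 IH) (Lpe (K15.f220049 IH) (Lpr_ct (K12.f220042 IH) (Lpr_gt (K12.f1363 IH) (Lpe (K14.f220340 IH) (Lpr_bt (K38.f53158 IH) (Lpr_gt (K38.f53159 IH) (Lpr_ct (K49.f220445 IH) (Lpn (LP (LK LD1_c15 LD2_c35 LD3_c29)))))))))))))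
theorem f620717 : Led Lsl_gf (LP (LK LD1_c27 LD2_c26 LD3_c33)) = (LP (LK LD1_c25 LD2_c29 LD3_c18)) :=
  Lgr Lrot104 (Lpr_ct (f236066 IH) (Lpe (K68.f620447 IH) (Lpr_cf (K49.f620463 IH) (Lpe (f620713 IH) (Lpr_cf (K50.f620709 IH) (Lpe (K50.f620457 IH) (Lpe (K38.f263833 IH) (Lpe (f263829 IH) (Lpr_ct (K49.f263817 IH) (Lpn (LP (LK LD1_c25 LD2_c29 LD3_c18))))))))))))
theorem f394353 : Led Lsl_at (LP (LK LD1_c8 LD2_c18 LD3_c16)) = (LP (LK LD1_c4 LD2_c9 LD3_c7)) :=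
  Lre_a IH (LK LD1_c8 LD2_c18 LD3_c16) (LK LD1_c4 LD2_c9 LD3_c7) Lrfl Lrfl
theorem f220050 : Led Lsl_gt (LP (LK LD1_c8 LD2_c18 LD3_c15)) = (LP (LK LD1_c4 LD2_c9 LD3_c7)) :=
  Lre_g IH (LK LD1_c8 LD2_c18 LD3_c15) (LK LD1_c4 LD2_c9 LD3_c7) Lrfl Lrfl
theorem f394357 : Led Lsl_gf (LP (LK LD1_c8 LD2_c18 LD3_c15)) = (LP (LK LD1_c15 LD2_c33 LD3_c26)) :=
  Lgr Lrot47 (Lpr_gt (f220050 IH) (Lpe (f394353 IH) (Lpr_ff (K30.f394348 IH) (Lpn (LP (LK LD1_c15 LD2_c33 LD3_c26))))))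
theorem f220051 : Led Lsl_bt (LP (LK LD1_c15 LD2_c36 LD3_c59)) = (LP (LK LD1_c8 LD2_c18 LD3_c15)) :=
  Lre_b IH (LK LD1_c15 LD2_c36 LD3_c59) (LK LD1_c8 LD2_c18 LD3_c15) Lrfl Lrfl
theorem f916018 : Led Lsl_ct (LP (LK LD1_c15 LD2_c36 LD3_c59)) = v40411 :=
  Lgr Lrot64 (Lpr_bt (f220051 IH) (Lpr_gf (f394357 IH) (Lpe (K30.f394260 IH) (Lpr_ct (K49.f394265 IH) (Lpe (K68.f401667 IH) (Lpe (f236066 IH) (Lpr_gf (f620717 IH) (Lpe (K49.f263812 IH) (Lpe (K49.f263815 IH) (Lpr_gf (f916014 IH) (Lpn v40411)))))))))))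
theorem f916020 : Led Lsl_cf (LP (LK LD1_c15 LD2_c36 LD3_c59)) = v40411 :=
  Lgr Lrot11 (Lpr_ct (f916018 IH) (Lpn v40411))
def v36182 : LQ := Led Lsl_gt (LP (LK LD1_c8 LD2_c21 LD3_c42))
theorem f882619 : Led Lsl_gt (LP (LK LD1_c8 LD2_c21 LD3_c42)) = v36182 :=
  Lrfl
theorem f404622 : Led Lsl_bt (LP (LK LD1_c4 LD2_c10 LD3_c54)) = (LP (LK LD1_c8 LD2_c21 LD3_c42)) :=
  Lre_b IH (LK LD1_c4 LD2_c10 LD3_c54) (LK LD1_c8 LD2_c21 LD3_c42) Lrfl Lrfl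
theorem f260732 : Led Lsl_at (LP (LK LD1_c2 LD2_c41 LD3_c45)) = (LP (LK LD1_c5 LD2_c30 LD3_c59)) :=
  Lre_a IH (LK LD1_c2 LD2_c41 LD3_c45) (LK LD1_c5 LD2_c30 LD3_c59) Lrfl Lrfl
theorem f260733 : Led Lsl_bf (LP (LK LD1_c8 LD2_c33 LD3_c26)) = (LP (LK LD1_c5 LD2_c30 LD3_c59)) :=
  Lgr Lrot81 (Lpr_at (K52.f260712 IH) (Lpr_bt (K49.f237803 IH) (Lpr_at (K15.f260730 IH) (Lpr_bt (K38.f178513 IH) (Lpr_at (f260732 IH) (Lpn (LP (LK LD1_c5 LD2_c30 LD3_c59))))))))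
theorem f400608 : Led Lsl_bt (LP (LK LD1_c8 LD2_c21 LD3_c2)) = (LP (LK LD1_c8 LD2_c23 LD3_c21)) :=
  Lgr Lrot35 (Lpe (K49.f260720 IH) (Lpr_bf (f260733 IH) (Lpr_ff (K40.f400606 IH) (Lpn (LP (LK LD1_c8 LD2_c23 LD3_c21))))))
theorem f260696 : Led Lsl_at (LP (LK LD1_c16 LD2_c3 LD3_c41)) = (LP (LK LD1_c8 LD2_c33 LD3_c22)) :=
  Lre_a IH (LK LD1_c16 LD2_c3 LD3_c41) (LK LD1_c8 LD2_c33 LD3_c22) Lrfl Lrfl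
theorem f881930 : Led Lsl_ff (LP (LK LD1_c16 LD2_c3 LD3_c41)) = K67.v36041 :=
  Lgr Lrot30 (Lpr_at (f260696 IH) (Lpr_ft (K49.f260702 IH) (Lpr_at (K67.f881926 IH) (Lpn K67.v36041))))
theorem f881932 : Led Lsl_ct (LP (LK LD1_c8 LD2_c21 LD3_c2)) = K67.v36041 :=
  Lgr Lrot40 (Lpe (K49.f260720 IH) (Lpe (K52.f260695 IH) (Lpr_ff (f881930 IH) (Lpn K67.v36041))))
theorem f882620 : Led Lsl_cf (LP (LK LD1_c16 LD2_c3 LD3_c40)) = v36182 :=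
  Lgr Lrot125 (Lpr_gt (K67.f881931 IH) (Lpe (f881932 IH) (Lpr_bt (f400608 IH) (Lpr_gt (K40.f400617 IH) (Lpr_bf (K68.f692344 IH) (Lpr_ct (K68.f882590 IH) (Lpr_gt (K68.f882616 IH) (Lpe (K68.f170914 IH) (Lpr_bt (f404622 IH) (Lpr_gt (f882619 IH) (Lpn v36182)))))))))))
theorem f550407 : Led Lsl_dt (LP (LK LD1_c8 LD2_c35 LD3_c47)) = (LP (LK LD1_c16 LD2_c7 LD3_c6)) :=
  Lre_d IH (LK LD1_c8 LD2_c35 LD3_c47) (LK LD1_c16 LD2_c7 LD3_c6) Lrfl Lrfl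
theorem f882221 : Led Lsl_df (LP (LK LD1_c16 LD2_c3 LD3_c40)) = K67.v36099 :=
  Lgr Lrot155 (Lpr_gt (K67.f881931 IH) (Lpe (K67.f881928 IH) (Lpe (K67.f550395 IH) (Lpr_ct (K67.f52059 IH) (Lpr_dt (f550407 IH) (Lpe (K67.f882219 IH) (Lpe (K67.f51738 IH) (Lpe (K67.f51739 IH) (Lpr_gf (K67.f882215 IH) (Lpn K67.v36099))))))))))
theorem f51736 : Led Lsl_at (LP (LK LD1_c4 LD2_c9 LD3_c50)) = (LP (LK LD1_c8 LD2_c19 LD3_c47)) :=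
  Lre_a IH (LK LD1_c4 LD2_c9 LD3_c50) (LK LD1_c8 LD2_c19 LD3_c47) Lrfl Lrfl
theorem f51735 : Led Lsl_ft (LP (LK LD1_c8 LD2_c19 LD3_c52)) = (LP (LK LD1_c4 LD2_c9 LD3_c50)) :=
  Lre_f IH (LK LD1_c8 LD2_c19 LD3_c52) (LK LD1_c4 LD2_c9 LD3_c50) Lrfl Lrfl
theorem f882216 : Led Lsl_gt (LP (LK LD1_c8 LD2_c19 LD3_c52)) = K67.v36099 :=
  Lgr Lrot5 (Lpr_ft (f51735 IH) (Lpr_at (f51736 IH) (Lpr_gf (K67.f882215 IH) (Lpn K67.v36099))))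
theorem f50568 : Led Lsl_dt (LP (LK LD1_c4 LD2_c9 LD3_c51)) = (LP (LK LD1_c8 LD2_c19 LD3_c52)) :=
  Lre_d IH (LK LD1_c4 LD2_c9 LD3_c51) (LK LD1_c8 LD2_c19 LD3_c52) Lrfl Lrfl
def v13969 : LQ := Led Lsl_gt (LP (LK LD1_c4 LD2_c52 LD3_c31))
theorem f717518 : Led Lsl_gt (LP (LK LD1_c4 LD2_c52 LD3_c31)) = v13969 :=
  Lrfl
theorem f418182 : Led Lsl_bt (LP (LK LD1_c4 LD2_c18 LD3_c19)) = (LP (LK LD1_c8 LD2_c35 LD3_c23)) :=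
  Lre_b IH (LK LD1_c4 LD2_c18 LD3_c19) (LK LD1_c8 LD2_c35 LD3_c23) Lrfl Lrfl
theorem f167039 : Led Lsl_bt (LP (LK LD1_c8 LD2_c23 LD3_c0)) = (LP (LK LD1_c4 LD2_c11 LD3_c43)) :=
  Lre_b IH (LK LD1_c8 LD2_c23 LD3_c0) (LK LD1_c4 LD2_c11 LD3_c43) Lrfl Lrfl
theorem f170118 : Led Lsl_gt (LP (LK LD1_c8 LD2_c35 LD3_c32)) = (LP (LK LD1_c4 LD2_c18 LD3_c23)) :=
  Lre_g IH (LK LD1_c8 LD2_c35 LD3_c32) (LK LD1_c4 LD2_c18 LD3_c23) Lrfl Lrfl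
theorem f692194 : Led Lsl_bt (LP (LK LD1_c8 LD2_c23 LD3_c27)) = (LP (LK LD1_c8 LD2_c35 LD3_c32)) :=
  Lgr Lrot130 (Lpr_ct (K49.f692190 IH) (Lpe (K49.f170065 IH) (Lpe (K53.f170117 IH) (Lpr_bt (K53.f170116 IH) (Lpr_gf (K9.f170069 IH) (Lpe (K20.f2221 IH) (Lpr_ct (K30.f2284 IH) (Lpe (K30.f170114 IH) (Lpe (K30.f52134 IH) (Lpe (f170118 IH) (Lpn (LP (LK LD1_c8 LD2_c35 LD3_c32)))))))))))))
theorem f738637 : Led Lsl_af (LP (LK LD1_c8 LD2_c23 LD3_c0)) = (LP (LK LD1_c8 LD2_c35 LD3_c32)) :=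
  Lgr Lrot36 (Lpr_bt (f167039 IH) (Lpqs (K54.f738523 IH) (Lpe (K54.f693702 IH) (Lpr_bt (f418182 IH) (Lpr_at (K68.f738633 IH) (Lpr_bt (f692194 IH) (Lpn (LP (LK LD1_c8 LD2_c35 LD3_c32)))))))))
theorem f738692 : Led Lsl_ct (LP (LK LD1_c9 LD2_c37 LD3_c13)) = (LP (LK LD1_c8 LD2_c35 LD3_c32)) :=
  Lgr Lrot111 (Lpr_af (K68.f738547 IH) (Lpe (K68.f167040 IH) (Lpr_af (f738637 IH) (Lpn (LP (LK LD1_c8 LD2_c35 LD3_c32))))))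
theorem f738694 : Led Lsl_cf (LP (LK LD1_c9 LD2_c37 LD3_c13)) = (LP (LK LD1_c8 LD2_c35 LD3_c32)) :=
  Lgr Lrot11 (Lpr_ct (f738692 IH) (Lpn (LP (LK LD1_c8 LD2_c35 LD3_c32))))
theorem f30302 : Led Lsl_gt (LP (LK LD1_c9 LD2_c37 LD3_c13)) = (LP (LK LD1_c4 LD2_c52 LD3_c32)) :=
  Lre_g IH (LK LD1_c9 LD2_c37 LD3_c13) (LK LD1_c4 LD2_c52 LD3_c32) Lrfl Lrfl
theorem f692196 : Led Lsl_bf (LP (LK LD1_c8 LD2_c23 LD3_c27)) = (LP (LK LD1_c8 LD2_c35 LD3_c32)) :=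
  Lgr Lrot24 (Lpr_bt (f692194 IH) (Lpn (LP (LK LD1_c8 LD2_c35 LD3_c32))))
theorem f738696 : v13969 = K49.v12444 :=
  (Llr Lrot82 (Lpe (f717518 IH) (Lpe (K52.f279250 IH) (Lpr_ct (K49.f2360 IH) (Lpe (f30302 IH) (Lpr_cf (f738694 IH) (Lpe (f692196 IH) (Lpe (K49.f404792 IH) (Lpe (K49.f629447 IH) (Lpr_ct (K49.f51794 IH) (Lpe (K49.f692189 IH) (Lpr_cf (K49.f692183 IH) (Lpn K49.v12444))))))))))))).symm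
theorem f692184 : Led Lsl_df (LP (LK LD1_c8 LD2_c22 LD3_c23)) = K49.v12444 :=
  Lgr Lrot12 (Lpr_bt (K49.f51532 IH) (Lpr_dt (K67.f404705 IH) (Lpr_bt (K49.f692181 IH) (Lpn K49.v12444))))
theorem f882623 : Led Lsl_dt (LP (LK LD1_c8 LD2_c32 LD3_c12)) = v36182 :=
  Lgr Lrot105 (Lpe (K50.f404799 IH) (Lpr_df (f692184 IH) (Lpq (f738696 IH) (Lpe (f717518 IH) (Lpr_cf (K50.f620964 IH) (Lpe (K50.f620984 IH) (Lpr_dt (f50568 IH) (Lpr_gt (f882216 IH) (Lpe (f882221 IH) (Lpr_cf (f882620 IH) (Lpn v36182)))))))))))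
theorem f167057 : Led Lsl_dt (LP (LK LD1_c9 LD2_c39 LD3_c5)) = (LP (LK LD1_c4 LD2_c53 LD3_c37)) :=
  Lre_d IH (LK LD1_c9 LD2_c39 LD3_c5) (LK LD1_c4 LD2_c53 LD3_c37) Lrfl Lrfl
theorem f882624 : Led Lsl_af (LP (LK LD1_c9 LD2_c39 LD3_c5)) = v36182 :=
  Lgr Lrot117 (Lpr_dt (f167057 IH) (Lpr_at (K50.f397876 IH) (Lpr_dt (f882623 IH) (Lpn v36182))))
def v36674 : LQ := Led Lsl_gt (LP (LK LD1_c8 LD2_c33 LD3_c31))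
theorem f889553 : Led Lsl_gt (LP (LK LD1_c8 LD2_c33 LD3_c31)) = v36674 :=
  Lrfl
theorem f691951 : Led Lsl_bt (LP (LK LD1_c4 LD2_c17 LD3_c8)) = (LP (LK LD1_c8 LD2_c33 LD3_c31)) :=
  Lre_b IH (LK LD1_c4 LD2_c17 LD3_c8) (LK LD1_c8 LD2_c33 LD3_c31) Lrfl Lrfl
theorem f884448 : Led Lsl_cf (LP (LK LD1_c16 LD2_c3 LD3_c50)) = K68.v36274 :=
  Lgr Lrot11 (Lpr_ct (K68.f884447 IH) (Lpn K68.v36274))
theorem f692268 : Led Lsl_dt (LP (LK LD1_c8 LD2_c23 LD3_c9)) = (LP (LK LD1_c4 LD2_c11 LD3_c47)) :=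
  Lre_d IH (LK LD1_c8 LD2_c23 LD3_c9) (LK LD1_c4 LD2_c11 LD3_c47) Lrfl Lrfl
theorem f884443 : Led Lsl_bf (LP (LK LD1_c8 LD2_c23 LD3_c9)) = K68.v36274 :=
  Lgr Lrot93 (Lpr_dt (f692268 IH) (Lpr_bt (K67.f692298 IH) (Lpr_dt (K68.f884442 IH) (Lpn K68.v36274))))
theorem f883036 : (LP (LK LD1_c4 LD2_c11 LD3_c47)) = K50.v4104 :=
  Lefun (Lecon (Lfl_gf (K67.f692288 IH)) (K67.f883022 IH).symm) (K50.f629449 IH)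
theorem f883045 : K50.v12536 = (LP (LK LD1_c8 LD2_c23 LD3_c9)) :=
  Lefun (Lecon (K50.f693408 IH) (f883036 IH).symm) (K67.f692270 IH)
theorem f889556 : Led Lsl_cf K67.v36040 = v36674 :=
  Lgr Lrot125 (Lpe (K67.f881923 IH) (Lpe (K49.f260694 IH) (Lpe (K52.f400618 IH) (Lpr_gt (K50.f693407 IH) (Lpqs (f883045 IH) (Lpr_bf (f884443 IH) (Lpe (f884448 IH) (Lpe (K68.f889539 IH) (Lpe (K68.f170325 IH) (Lpr_bt (f691951 IH) (Lpr_gt (f889553 IH) (Lpn v36674))))))))))))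
def v36663 : LQ := Led Lsl_gf (LP (LK LD1_c8 LD2_c33 LD3_c22))
theorem f889479 : Led Lsl_gf (LP (LK LD1_c8 LD2_c33 LD3_c22)) = v36663 :=
  Lrfl
def v36183 : LQ := Led Lsl_gf (LP (LK LD1_c8 LD2_c21 LD3_c42))
theorem f882626 : Led Lsl_gf (LP (LK LD1_c8 LD2_c21 LD3_c42)) = v36183 :=
  Lrfl
theorem f220016 : Led Lsl_bt (LP (LK LD1_c15 LD2_c15 LD3_c1)) = (LP (LK LD1_c8 LD2_c6 LD3_c1)) :=
  Lre_b IH (LK LD1_c15 LD2_c15 LD3_c1) (LK LD1_c8 LD2_c6 LD3_c1) Lrfl Lrfl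
theorem f404963 : Led Lsl_gf (LP (LK LD1_c15 LD2_c43 LD3_c6)) = (LP (LK LD1_c15 LD2_c44 LD3_c11)) :=
  Lgr Lrot181 (Lpr_ct (K54.f220333 IH) (Lpr_gt (K49.f220332 IH) (Lpe (K15.f220060 IH) (Lpr_bt (K38.f220043 IH) (Lpr_gt (K12.f220039 IH) (Lpe (f220016 IH) (Lpe (K19.f309428 IH) (Lpr_gt (K52.f404956 IH) (Lpe (K52.f167233 IH) (Lpr_bt (K52.f167232 IH) (Lpn (LP (LK LD1_c15 LD2_c44 LD3_c11)))))))))))))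
theorem f373143 : Led Lsl_gf (LP (LK LD1_c8 LD2_c23 LD3_c37)) = (LP (LK LD1_c15 LD2_c45 LD3_c26)) :=
  Lgr Lrot181 (Lpr_ct (K30.f52110 IH) (Lpr_gt (K30.f1215 IH) (Lpe (K30.f51694 IH) (Lpr_bt (K30.f51548 IH) (Lpr_gt (K16.f49071 IH) (Lpe (K30.f52200 IH) (Lpr_ct (K49.f373130 IH) (Lpe (K49.f359466 IH) (Lpe (K49.f53357 IH) (Lpr_bt (K49.f53356 IH) (Lpn (LP (LK LD1_c15 LD2_c45 LD3_c26)))))))))))))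
theorem f882629 : Led Lsl_df K50.v12528 = v36183 :=
  Lgr Lrot155 (Lpe (K50.f692614 IH) (Lpr_ct (K49.f51533 IH) (Lpe (f373143 IH) (Lpr_ct (K30.f52110 IH) (Lpe (K49.f398274 IH) (Lpe (K54.f220333 IH) (Lpr_gf (f404963 IH) (Lpe (K52.f167223 IH) (Lpr_gf (f882626 IH) (Lpn v36183))))))))))
theorem f882631 : Led Lsl_ft (LP (LK LD1_c9 LD2_c39 LD3_c5)) = v36183 :=
  Lgr Lrot54 (Lpe (K49.f167060 IH) (Lpr_ff (K50.f692611 IH) (Lpr_df (f882629 IH) (Lpn v36183))))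
theorem f691863 : Led Lsl_ft (LP (LK LD1_c4 LD2_c53 LD3_c39)) = K67.v12387 :=
  Lgr Lrot54 (Lpe (K27.f2294 IH) (Lpe (K30.f397696 IH) (Lpr_df (K67.f691860 IH) (Lpn K67.v12387))))
theorem f691864 : Led Lsl_ff (LP (LK LD1_c4 LD2_c53 LD3_c39)) = K67.v12387 :=
  Lgr Lrot3 (Lpr_ft (f691863 IH) (Lpn K67.v12387))
theorem f882632 : Led Lsl_bf K67.v12387 = v36183 :=
  Lgr Lrot61 (Lpe (f691864 IH) (Lpr_bt (K52.f263810 IH) (Lpr_ft (f882631 IH) (Lpn v36183))))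
theorem f889482 : Led Lsl_ct v36183 = v36663 :=
  Lgr Lrot64 (Lpe (f882632 IH) (Lpe (K67.f691858 IH) (Lpe (K22.f260752 IH) (Lpe (K49.f260763 IH) (Lpe (K15.f260765 IH) (Lpe (K12.f179543 IH) (Lpr_gf (K12.f180239 IH) (Lpe (K49.f237803 IH) (Lpr_ct (K49.f237804 IH) (Lpr_gf (f889479 IH) (Lpn v36663)))))))))))
theorem f889483 : Led Lsl_cf v36183 = v36663 :=
  Lgr Lrot11 (Lpr_ct (f889482 IH) (Lpn v36663))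
theorem f882621 : Led Lsl_at (LP (LK LD1_c9 LD2_c39 LD3_c5)) = v36182 :=
  Lgr Lrot107 (Lpr_cf (K49.f263815 IH) (Lpe (K67.f882231 IH) (Lpr_cf (f882620 IH) (Lpn v36182))))
theorem f882627 : Led Lsl_ff (LP (LK LD1_c9 LD2_c39 LD3_c5)) = v36183 :=
  Lgr Lrot52 (Lpr_at (f882621 IH) (Lpe (f882619 IH) (Lpr_gf (f882626 IH) (Lpn v36183))))
theorem f889484 : Led Lsl_ft (LP (LK LD1_c15 LD2_c35 LD3_c16)) = v36663 :=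
  Lgr Lrot4 (Lpe (K49.f263807 IH) (Lpr_ff (f882627 IH) (Lpr_cf (f889483 IH) (Lpn v36663))))
theorem f889485 : Led Lsl_af K67.v36040 = v36663 :=
  Lgr Lrot45 (Lpe (K67.f882229 IH) (Lpr_at (K67.f882231 IH) (Lpr_ft (f889484 IH) (Lpn v36663))))
theorem f359057 : Led Lsl_ct (LP (LK LD1_c8 LD2_c19 LD3_c49)) = (LP (LK LD1_c15 LD2_c40 LD3_c35)) :=
  Lre_c IH (LK LD1_c8 LD2_c19 LD3_c49) (LK LD1_c15 LD2_c40 LD3_c35) Lrfl Lrfl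
theorem f398294 : Led Lsl_dt (LP (LK LD1_c15 LD2_c40 LD3_c35)) = (LP (LK LD1_c25 LD2_c36 LD3_c9)) :=
  Lre_d IH (LK LD1_c15 LD2_c40 LD3_c35) (LK LD1_c25 LD2_c36 LD3_c9) Lrfl Lrfl
theorem f398297 : Led Lsl_cf (LP (LK LD1_c15 LD2_c47 LD3_c6)) = (LP (LK LD1_c25 LD2_c36 LD3_c9)) :=
  Lgr Lrot102 (Lpr_af (K38.f398267 IH) (Lpe (K30.f397862 IH) (Lpr_dt (K50.f51862 IH) (Lpr_ct (K31.f167055 IH) (Lpr_dt (K49.f167060 IH) (Lpr_ct (K49.f263807 IH) (Lpr_dt (K49.f398290 IH) (Lpr_ct (f359057 IH) (Lpr_dt (f398294 IH) (Lpn (LP (LK LD1_c25 LD2_c36 LD3_c9))))))))))))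
def v36330 : LQ := Led Lsl_ct (LP (LK LD1_c8 LD2_c23 LD3_c39))
theorem f884959 : Led Lsl_ct (LP (LK LD1_c8 LD2_c23 LD3_c39)) = v36330 :=
  Lrfl
theorem f889559 : Led Lsl_dt v36330 = v36674 :=
  Lgr Lrot120 (Lpe (f884959 IH) (Lpe (K38.f52093 IH) (Lpr_cf (f398297 IH) (Lpe (f398294 IH) (Lpe (f359057 IH) (Lpe (K49.f398290 IH) (Lpr_ft (f889484 IH) (Lpe (f889485 IH) (Lpr_cf (f889556 IH) (Lpn v36674))))))))))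
theorem f884962 : Led Lsl_ff (LP (LK LD1_c8 LD2_c32 LD3_c12)) = v36330 :=
  Lgr Lrot23 (Lpr_ct (K50.f51848 IH) (Lpe (K30.f397887 IH) (Lpr_ct (f884959 IH) (Lpn v36330))))
theorem f884968 : Led Lsl_ft (LP (LK LD1_c8 LD2_c32 LD3_c12)) = v36330 :=
  Lgr Lrot48 (Lpr_ff (f884962 IH) (Lpn v36330))
theorem f882625 : Led Lsl_df (LP (LK LD1_c8 LD2_c32 LD3_c12)) = v36182 :=
  Lgr Lrot38 (Lpr_dt (f882623 IH) (Lpn v36182))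
theorem f889561 : Led Lsl_ff v36182 = v36674 :=
  Lgr Lrot19 (Lpe (f882625 IH) (Lpr_ft (f884968 IH) (Lpr_dt (f889559 IH) (Lpn v36674))))
theorem f916015 : Led Lsl_gt v36674 = v40411 :=
  Lgr Lrot5 (Lpe (f889561 IH) (Lpe (f882624 IH) (Lpr_gf (f916014 IH) (Lpn v40411))))
theorem f51893 : Led Lsl_bt (LP (LK LD1_c8 LD2_c30 LD3_c6)) = (LP (LK LD1_c4 LD2_c15 LD3_c35)) :=
  Lre_b IH (LK LD1_c8 LD2_c30 LD3_c6) (LK LD1_c4 LD2_c15 LD3_c35) Lrfl Lrfl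
theorem f51894 : Led Lsl_at (LP (LK LD1_c4 LD2_c15 LD3_c35)) = (LP (LK LD1_c2 LD2_c5 LD3_c35)) :=
  Lre_a IH (LK LD1_c4 LD2_c15 LD3_c35) (LK LD1_c2 LD2_c5 LD3_c35) Lrfl Lrfl
theorem f51895 : Led Lsl_bt (LP (LK LD1_c2 LD2_c5 LD3_c35)) = (LP (LK LD1_c4 LD2_c11 LD3_c60)) :=
  Lgr Lrot62 (Lpe (f51894 IH) (Lpe (f51893 IH) (Lpr_af (K30.f51890 IH) (Lpe (K30.f51854 IH) (Lpe (K30.f51703 IH) (Lpn (LP (LK LD1_c4 LD2_c11 LD3_c60))))))))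
theorem f884965 : Led Lsl_gf K52.v14005 = v36330 :=
  Lgr Lrot129 (Lpe (K52.f718535 IH) (Lpe (K52.f693747 IH) (Lpr_gt (K52.f52033 IH) (Lpe (K30.f52032 IH) (Lpr_ct (K16.f52030 IH) (Lpr_gt (K15.f27369 IH) (Lpe (K11.f49073 IH) (Lpr_bt (f51895 IH) (Lpr_gt (K30.f52028 IH) (Lpr_ct (f884959 IH) (Lpn v36330)))))))))))
theorem f718551 : Led Lsl_cf (LP (LK LD1_c8 LD2_c35 LD3_c37)) = K52.v14005 :=
  Lgr Lrot11 (Lpr_ct (K52.f718535 IH) (Lpn K52.v14005))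
def v36806 : LQ := Led Lsl_gf (LP (LK LD1_c8 LD2_c35 LD3_c39))
theorem f890309 : Led Lsl_gf (LP (LK LD1_c8 LD2_c35 LD3_c39)) = v36806 :=
  Lrfl
theorem f916021 : (LP (LK LD1_c15 LD2_c36 LD3_c59)) = v36806 :=
  (Llr Lrot152 (Lpr_cf (f916020 IH) (Lpe (f916015 IH) (Lpe (f889559 IH) (Lpe (f884965 IH) (Lpe (f718551 IH) (Lpr_gt (K50.f52128 IH) (Lpr_ct (K67.f52127 IH) (Lpe (K54.f51756 IH) (Lpe (K54.f51752 IH) (Lpr_gf (f890309 IH) (Lpn v36806)))))))))))).symm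
theorem f916022 : Led Lsl_gt (LP (LK LD1_c15 LD2_c36 LD3_c59)) = (LP (LK LD1_c8 LD2_c35 LD3_c39)) :=
  Leop (Lpr_gf (f890309 IH) (Lpq (f916021 IH) (Lpn (LP (LK LD1_c15 LD2_c36 LD3_c59)))))
theorem seed_2395 : LEOK LG_g (LK LD1_c15 LD2_c36 LD3_c59) :=
  Leoe_g (LK LD1_c15 LD2_c36 LD3_c59) (f916022 IH)
def v12415 : LQ := Led Lsl_ft (LP (LK LD1_c4 LD2_c10 LD3_c53))
theorem f692065 : Led Lsl_ft (LP (LK LD1_c4 LD2_c10 LD3_c53)) = v12415 :=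
  Lrfl
theorem f692067 : Led Lsl_ff (LP (LK LD1_c4 LD2_c10 LD3_c53)) = v12415 :=
  Lgr Lrot3 (Lpr_ft (f692065 IH) (Lpn v12415))
theorem f692068 : Led Lsl_at (LP (LK LD1_c4 LD2_c10 LD3_c54)) = v12415 :=
  Lgr Lrot66 (Lpr_ff (K68.f692048 IH) (Lpe (K68.f692045 IH) (Lpr_ff (f692067 IH) (Lpn v12415))))
theorem f716650 : Led Lsl_ff (LP (LK LD1_c25 LD2_c29 LD3_c37)) = (LP (LK LD1_c16 LD2_c7 LD3_c0)) :=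
  Lgr Lrot23 (Lpe (K52.f400961 IH) (Lpr_ft (K68.f716642 IH) (Lpe (K54.f400282 IH) (Lpn (LP (LK LD1_c16 LD2_c7 LD3_c0))))))
theorem f400272 : Led Lsl_gt (LP (LK LD1_c16 LD2_c7 LD3_c0)) = (LP (LK LD1_c16 LD2_c19 LD3_c8)) :=
  Lgr Lrot82 (Lpe (K54.f201115 IH) (Lpr_ct (K54.f51752 IH) (Lpr_gf (K54.f400265 IH) (Lpe (K15.f232291 IH) (Lpr_bt (K15.f232290 IH) (Lpe (K14.f232279 IH) (Lpe (K18.f232283 IH) (Lpr_ct (K19.f232285 IH) (Lpe (K38.f232286 IH) (Lpe (K38.f232287 IH) (Lpn (LP (LK LD1_c16 LD2_c19 LD3_c8)))))))))))))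
theorem f716656 : Led Lsl_at (LP (LK LD1_c25 LD2_c29 LD3_c37)) = (LP (LK LD1_c26 LD2_c16 LD3_c54)) :=
  Lgr Lrot26 (Lpr_ff (f716650 IH) (Lpr_gt (f400272 IH) (Lpr_gt (K54.f400971 IH) (Lpn (LP (LK LD1_c26 LD2_c16 LD3_c54))))))
theorem f716660 : Led Lsl_af (LP (LK LD1_c15 LD2_c43 LD3_c5)) = (LP (LK LD1_c8 LD2_c35 LD3_c47)) :=
  Lgr Lrot36 (Lpr_bt (K38.f220345 IH) (Lpr_at (f716656 IH) (Lpe (K54.f605828 IH) (Lpe (K54.f716588 IH) (Lpe (K54.f550401 IH) (Lpn (LP (LK LD1_c8 LD2_c35 LD3_c47))))))))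
theorem f716669 : Led Lsl_at (LP (LK LD1_c15 LD2_c43 LD3_c5)) = (LP (LK LD1_c8 LD2_c35 LD3_c47)) :=
  Lgr Lrot100 (Lpr_af (f716660 IH) (Lpn (LP (LK LD1_c8 LD2_c35 LD3_c47))))
theorem f605835 : Led Lsl_bt (LP (LK LD1_c19 LD2_c35 LD3_c47)) = (LP (LK LD1_c26 LD2_c16 LD3_c54)) :=
  Lgr Lrot127 (Lpr_bf (K54.f605828 IH) (Lpn (LP (LK LD1_c26 LD2_c16 LD3_c54))))
theorem f716594 : Led Lsl_ff (LP (LK LD1_c25 LD2_c29 LD3_c29)) = (LP (LK LD1_c26 LD2_c16 LD3_c54)) :=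
  Lgr Lrot25 (Lpr_bt (K54.f234564 IH) (Lpr_ft (K54.f716590 IH) (Lpr_bt (f605835 IH) (Lpn (LP (LK LD1_c26 LD2_c16 LD3_c54))))))
theorem f716662 : Led Lsl_af (LP (LK LD1_c16 LD2_c7 LD3_c0)) = (LP (LK LD1_c25 LD2_c29 LD3_c29)) :=
  Lgr Lrot45 (Lpe (f716650 IH) (Lpr_at (f716656 IH) (Lpe (f716594 IH) (Lpn (LP (LK LD1_c25 LD2_c29 LD3_c29))))))
theorem f418835 : Led Lsl_bt (LP (LK LD1_c19 LD2_c35 LD3_c46)) = (LP (LK LD1_c15 LD2_c43 LD3_c6)) :=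
  Lgr Lrot127 (Lpr_bf (K54.f220513 IH) (Lpn (LP (LK LD1_c15 LD2_c43 LD3_c6))))
theorem f716580 : Led Lsl_ft (LP (LK LD1_c15 LD2_c35 LD3_c23)) = (LP (LK LD1_c19 LD2_c35 LD3_c46)) :=
  Lgr Lrot75 (Lpe (K54.f550397 IH) (Lpr_ff (K54.f716578 IH) (Lpe (f418835 IH) (Lpn (LP (LK LD1_c19 LD2_c35 LD3_c46))))))
theorem f716592 : Led Lsl_af (LP (LK LD1_c15 LD2_c35 LD3_c24)) = (LP (LK LD1_c19 LD2_c35 LD3_c46)) :=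
  Lgr Lrot45 (Lpr_ft (K54.f716590 IH) (Lpe (K54.f716588 IH) (Lpr_ft (f716580 IH) (Lpn (LP (LK LD1_c19 LD2_c35 LD3_c46))))))
theorem f716664 : Led Lsl_at (LP (LK LD1_c8 LD2_c35 LD3_c39)) = (LP (LK LD1_c15 LD2_c43 LD3_c6)) :=
  Lgr Lrot67 (Lpe (K54.f400280 IH) (Lpr_af (f716662 IH) (Lpe (K54.f605866 IH) (Lpr_af (f716592 IH) (Lpr_bf (K54.f220513 IH) (Lpn (LP (LK LD1_c15 LD2_c43 LD3_c6))))))))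
theorem f716666 : Led Lsl_af (LP (LK LD1_c8 LD2_c35 LD3_c39)) = (LP (LK LD1_c15 LD2_c43 LD3_c6)) :=
  Lgr Lrot0 (Lpr_at (f716664 IH) (Lpn (LP (LK LD1_c15 LD2_c43 LD3_c6))))
theorem f716671 : Led Lsl_ff (LP (LK LD1_c15 LD2_c43 LD3_c5)) = (LP (LK LD1_c8 LD2_c35 LD3_c39)) :=
  Lgr Lrot30 (Lpr_at (f716669 IH) (Lpr_ft (K54.f716582 IH) (Lpe (f716666 IH) (Lpn (LP (LK LD1_c8 LD2_c35 LD3_c39))))))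
theorem f170327 : Led Lsl_bt (LP (LK LD1_c8 LD2_c33 LD3_c31)) = (LP (LK LD1_c4 LD2_c17 LD3_c8)) :=
  Lre_b IH (LK LD1_c8 LD2_c33 LD3_c31) (LK LD1_c4 LD2_c17 LD3_c8) Lrfl Lrfl
theorem f400269 : Led Lsl_ct (LP (LK LD1_c8 LD2_c33 LD3_c31)) = (LP (LK LD1_c16 LD2_c3 LD3_c53)) :=
  Lre_c IH (LK LD1_c8 LD2_c33 LD3_c31) (LK LD1_c16 LD2_c3 LD3_c53) Lrfl Lrfl
theorem f400270 : Led Lsl_gt (LP (LK LD1_c8 LD2_c35 LD3_c39)) = (LP (LK LD1_c16 LD2_c3 LD3_c53)) :=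
  Lgr Lrot149 (Lpe (K54.f51751 IH) (Lpr_gf (K54.f400265 IH) (Lpe (K15.f167649 IH) (Lpr_ct (K13.f167648 IH) (Lpe (K9.f500 IH) (Lpe (K9.f167306 IH) (Lpr_bt (K67.f170146 IH) (Lpe (K67.f170262 IH) (Lpe (f170327 IH) (Lpr_ct (f400269 IH) (Lpn (LP (LK LD1_c16 LD2_c3 LD3_c53)))))))))))))
theorem f716673 : Led Lsl_gt (LP (LK LD1_c16 LD2_c3 LD3_c53)) = (LP (LK LD1_c8 LD2_c35 LD3_c47)) :=
  Lgr Lrot46 (Lpe (f400270 IH) (Lpe (f716671 IH) (Lpr_at (f716669 IH) (Lpn (LP (LK LD1_c8 LD2_c35 LD3_c47))))))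
theorem f406182 : Led Lsl_bf (LP (LK LD1_c8 LD2_c35 LD3_c43)) = (LP (LK LD1_c8 LD2_c23 LD3_c11)) :=
  Lgr Lrot24 (Lpr_bt (K66.f406179 IH) (Lpn (LP (LK LD1_c8 LD2_c23 LD3_c11))))
def v14004 : LQ := Led Lsl_gt (LP (LK LD1_c4 LD2_c53 LD3_c37))
theorem f718533 : Led Lsl_gt (LP (LK LD1_c4 LD2_c53 LD3_c37)) = v14004 :=
  Lrfl
theorem f738756 : (LP (LK LD1_c8 LD2_c35 LD3_c12)) = v14004 :=
  (Llr Lrot125 (Lpr_ct (K66.f398158 IH) (Lpe (K52.f398169 IH) (Lpe (K50.f52062 IH) (Lpr_bt (K66.f398172 IH) (Lpr_gt (K66.f271516 IH) (Lpr_bf (f406182 IH) (Lpr_ct (K66.f738711 IH) (Lpr_gt (K66.f2291 IH) (Lpe (K27.f2289 IH) (Lpr_bt (K30.f167051 IH) (Lpr_gt (f718533 IH) (Lpn v14004))))))))))))).symm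
theorem f738816 : Led Lsl_gf (LP (LK LD1_c8 LD2_c33 LD3_c31)) = (LP (LK LD1_c9 LD2_c39 LD3_c5)) :=
  Lgr Lrot147 (Lpr_ct (f400269 IH) (Lpr_gt (f716673 IH) (Lpr_ct (K54.f52061 IH) (Lpe (K54.f52058 IH) (Lpe (K41.f52066 IH) (Lpr_gf (K52.f398169 IH) (Lpe (K66.f398158 IH) (Lpqs (f738756 IH) (Lpe (f718533 IH) (Lpe (f167057 IH) (Lpn (LP (LK LD1_c9 LD2_c39 LD3_c5)))))))))))))
def v36675 : LQ := Led Lsl_at (LP (LK LD1_c8 LD2_c33 LD3_c31))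
theorem f889562 : Led Lsl_at (LP (LK LD1_c8 LD2_c33 LD3_c31)) = v36675 :=
  Lrfl
theorem f889563 : Led Lsl_af (LP (LK LD1_c8 LD2_c33 LD3_c31)) = v36675 :=
  Lgr Lrot0 (Lpr_at (f889562 IH) (Lpn v36675))
theorem f916016 : Led Lsl_ff v36675 = v40411 :=
  Lgr Lrot52 (Lpe (f889563 IH) (Lpr_gf (f738816 IH) (Lpr_gf (f916014 IH) (Lpn v40411))))
theorem f916040 : Led Lsl_ft v36675 = v40411 :=
  Lgr Lrot48 (Lpr_ff (f916016 IH) (Lpn v40411))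
def v36677 : LQ := Led Lsl_ft (LP (LK LD1_c8 LD2_c33 LD3_c31))
theorem f889570 : Led Lsl_ft (LP (LK LD1_c8 LD2_c33 LD3_c31)) = v36677 :=
  Lrfl
theorem f889572 : Led Lsl_ff (LP (LK LD1_c8 LD2_c33 LD3_c31)) = v36677 :=
  Lgr Lrot3 (Lpr_ft (f889570 IH) (Lpn v36677))
theorem f916041 : Led Lsl_af v36677 = v40411 :=
  Lgr Lrot45 (Lpe (f889572 IH) (Lpr_at (f889562 IH) (Lpr_ft (f916040 IH) (Lpn v40411))))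
theorem f889571 : Led Lsl_bf K68.v12537 = v36677 :=
  Lgr Lrot61 (Lpe (K68.f693441 IH) (Lpr_bt (f691951 IH) (Lpr_ft (f889570 IH) (Lpn v36677))))
def v12538 : LQ := Led Lsl_bt (LP (LK LD1_c4 LD2_c17 LD3_c7))
theorem f693442 : Led Lsl_bt (LP (LK LD1_c4 LD2_c17 LD3_c7)) = v12538 :=
  Lrfl
theorem f304796 : Led Lsl_dt (LP (LK LD1_c4 LD2_c18 LD3_c22)) = (LP (LK LD1_c8 LD2_c35 LD3_c31)) :=
  Lre_d IH (LK LD1_c4 LD2_c18 LD3_c22) (LK LD1_c8 LD2_c35 LD3_c31) Lrfl Lrfl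
theorem f304857 : Led Lsl_bt (LP (LK LD1_c8 LD2_c35 LD3_c31)) = (LP (LK LD1_c4 LD2_c52 LD3_c22)) :=
  Lgr Lrot95 (Lpe (f304796 IH) (Lpr_bf (K41.f304844 IH) (Lpe (K16.f1708 IH) (Lpn (LP (LK LD1_c4 LD2_c52 LD3_c22))))))
theorem f304865 : Led Lsl_bf (LP (LK LD1_c8 LD2_c35 LD3_c31)) = (LP (LK LD1_c4 LD2_c52 LD3_c22)) :=
  Lgr Lrot24 (Lpr_bt (f304857 IH) (Lpn (LP (LK LD1_c4 LD2_c52 LD3_c22))))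
def v36367 : LQ := Led Lsl_dt (LP (LK LD1_c8 LD2_c24 LD3_c29))
theorem f885135 : Led Lsl_dt (LP (LK LD1_c8 LD2_c24 LD3_c29)) = v36367 :=
  Lrfl
theorem f167090 : Led Lsl_gt (LP (LK LD1_c4 LD2_c12 LD3_c26)) = (LP (LK LD1_c8 LD2_c24 LD3_c29)) :=
  Lre_g IH (LK LD1_c4 LD2_c12 LD3_c26) (LK LD1_c8 LD2_c24 LD3_c29) Lrfl Lrfl
theorem f166574 : Led Lsl_ct (LP (LK LD1_c4 LD2_c12 LD3_c26)) = (LP (LK LD1_c2 LD2_c3 LD3_c36)) :=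
  Lre_c IH (LK LD1_c4 LD2_c12 LD3_c26) (LK LD1_c2 LD2_c3 LD3_c36) Lrfl Lrfl
theorem f178355 : Led Lsl_df (LP (LK LD1_c4 LD2_c11 LD3_c44)) = (LP (LK LD1_c4 LD2_c13 LD3_c18)) :=
  Lgr Lrot18 (Lpr_at (K68.f178353 IH) (Lpr_dt (K19.f178340 IH) (Lpr_at (K50.f178354 IH) (Lpn (LP (LK LD1_c4 LD2_c13 LD3_c18))))))
theorem f178384 : Led Lsl_ct (LP (LK LD1_c4 LD2_c11 LD3_c44)) = (LP (LK LD1_c8 LD2_c23 LD3_c2)) :=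
  Lre_c IH (LK LD1_c4 LD2_c11 LD3_c44) (LK LD1_c8 LD2_c23 LD3_c2) Lrfl Lrfl
def v36264 : LQ := Led Lsl_dt (LP (LK LD1_c8 LD2_c23 LD3_c2))
theorem f884405 : Led Lsl_dt (LP (LK LD1_c8 LD2_c23 LD3_c2)) = v36264 :=
  Lrfl
theorem f884407 : Led Lsl_df (LP (LK LD1_c8 LD2_c23 LD3_c2)) = v36264 :=
  Lgr Lrot38 (Lpr_dt (f884405 IH) (Lpn v36264))
theorem f885137 : Led Lsl_gf v36264 = v36367 :=
  Lgr Lrot143 (Lpe (f884407 IH) (Lpe (f178384 IH) (Lpr_df (f178355 IH) (Lpe (K50.f304803 IH) (Lpq (K50.f694831 IH) (Lpe (K50.f692485 IH) (Lpe (K50.f166575 IH) (Lpe (f166574 IH) (Lpr_gt (f167090 IH) (Lpr_dt (f885135 IH) (Lpn v36367)))))))))))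
theorem f178372 : Led Lsl_at (LP (LK LD1_c8 LD2_c23 LD3_c2)) = (LP (LK LD1_c4 LD2_c11 LD3_c45)) :=
  Lre_a IH (LK LD1_c8 LD2_c23 LD3_c2) (LK LD1_c4 LD2_c11 LD3_c45) Lrfl Lrfl
theorem f178371 : Led Lsl_dt (LP (LK LD1_c4 LD2_c11 LD3_c45)) = (LP (LK LD1_c8 LD2_c23 LD3_c5)) :=
  Lre_d IH (LK LD1_c4 LD2_c11 LD3_c45) (LK LD1_c8 LD2_c23 LD3_c5) Lrfl Lrfl
theorem f884408 : Led Lsl_at (LP (LK LD1_c8 LD2_c23 LD3_c5)) = v36264 :=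
  Lgr Lrot51 (Lpe (f178371 IH) (Lpe (f178372 IH) (Lpr_df (f884407 IH) (Lpn v36264))))
theorem f304846 : Led Lsl_ff (LP (LK LD1_c8 LD2_c35 LD3_c31)) = (LP (LK LD1_c8 LD2_c23 LD3_c5)) :=
  Lgr Lrot19 (Lpr_dt (K50.f52233 IH) (Lpr_ft (K41.f304830 IH) (Lpr_dt (f178371 IH) (Lpn (LP (LK LD1_c8 LD2_c23 LD3_c5))))))
theorem f304853 : Led Lsl_ft (LP (LK LD1_c8 LD2_c35 LD3_c31)) = (LP (LK LD1_c8 LD2_c23 LD3_c5)) :=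
  Lgr Lrot48 (Lpr_ff (f304846 IH) (Lpn (LP (LK LD1_c8 LD2_c23 LD3_c5))))
theorem f885138 : Led Lsl_gt (LP (LK LD1_c8 LD2_c35 LD3_c31)) = v36367 :=
  Lgr Lrot5 (Lpr_ft (f304853 IH) (Lpr_at (f884408 IH) (Lpr_gf (f885137 IH) (Lpn v36367))))
theorem f885136 : Led Lsl_df (LP (LK LD1_c8 LD2_c24 LD3_c29)) = v36367 :=
  Lgr Lrot38 (Lpr_dt (f885135 IH) (Lpn v36367))
def v36366 : LQ := Led Lsl_ct (LP (LK LD1_c8 LD2_c24 LD3_c29))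
theorem f885132 : Led Lsl_ct (LP (LK LD1_c8 LD2_c24 LD3_c29)) = v36366 :=
  Lrfl
theorem f916017 : Led Lsl_bt v36366 = v40411 :=
  Lgr Lrot178 (Lpe (f885132 IH) (Lpr_df (f885136 IH) (Lpe (f885138 IH) (Lpr_bf (f304865 IH) (Lpr_cf (K16.f276427 IH) (Lpe (K16.f223376 IH) (Lpe (K12.f223204 IH) (Lpe (K31.f223489 IH) (Lpr_cf (K54.f398981 IH) (Lpr_df (K54.f222508 IH) (Lpr_gf (K54.f398976 IH) (Lpe (K54.f398970 IH) (Lpr_cf (K31.f398960 IH) (Lpe (K31.f397929 IH) (Lpr_gf (K31.f397926 IH) (Lpe (K30.f167050 IH) (Lpr_cf (K30.f167048 IH) (Lpe (f167057 IH) (Lpr_gf (f916014 IH) (Lpn v40411))))))))))))))))))))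
theorem f916042 : Led Lsl_at v12538 = v36366 :=
  Lgr Lrot67 (Lpe (f693442 IH) (Lpr_af (K68.f693437 IH) (Lpr_bf (f889571 IH) (Lpr_af (f916041 IH) (Lpe (f916017 IH) (Lpn v36366))))))
def v12629 : LQ := Led Lsl_gf (LP (LK LD1_c4 LD2_c19 LD3_c35))
theorem f694936 : Led Lsl_gf (LP (LK LD1_c4 LD2_c19 LD3_c35)) = v12629 :=
  Lrfl
theorem f179568 : Led Lsl_ct (LP (LK LD1_c2 LD2_c7 LD3_c17)) = (LP (LK LD1_c4 LD2_c19 LD3_c35)) :=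
  Lre_c IH (LK LD1_c2 LD2_c7 LD3_c17) (LK LD1_c4 LD2_c19 LD3_c35) Lrfl Lrfl
theorem f693443 : Led Lsl_bf (LP (LK LD1_c4 LD2_c17 LD3_c7)) = v12538 :=
  Lgr Lrot24 (Lpr_bt (f693442 IH) (Lpn v12538))
theorem f694937 : Led Lsl_ct v12538 = v12629 :=
  Lgr Lrot64 (Lpe (f693443 IH) (Lpe (K64.f170250 IH) (Lpe (K67.f170146 IH) (Lpr_ct (K9.f167306 IH) (Lpe (K9.f53385 IH) (Lpe (K9.f53386 IH) (Lpe (K9.f179558 IH) (Lpe (K50.f179565 IH) (Lpr_ct (f179568 IH) (Lpr_gf (f694936 IH) (Lpn v12629)))))))))))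
theorem f694938 : Led Lsl_cf v12538 = v12629 :=
  Lgr Lrot11 (Lpr_ct (f694937 IH) (Lpn v12629))
theorem f885133 : Led Lsl_cf (LP (LK LD1_c8 LD2_c24 LD3_c29)) = v36366 :=
  Lgr Lrot11 (Lpr_ct (f885132 IH) (Lpn v36366))
def v36365 : LQ := Led Lsl_at (LP (LK LD1_c8 LD2_c24 LD3_c29))
theorem f885128 : Led Lsl_at (LP (LK LD1_c8 LD2_c24 LD3_c29)) = v36365 :=
  Lrfl
theorem f916046 : v12629 = v36365 :=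
  (Llr Lrot1 (Lpe (f694938 IH) (Lpr_at (f916042 IH) (Lpe (f885133 IH) (Lpr_at (f885128 IH) (Lpn v36365)))))).symm
theorem f885129 : Led Lsl_af (LP (LK LD1_c8 LD2_c24 LD3_c29)) = v36365 :=
  Lgr Lrot0 (Lpr_at (f885128 IH) (Lpn v36365))
theorem f885130 : Led Lsl_ft (LP (LK LD1_c8 LD2_c24 LD3_c30)) = v36365 :=
  Lgr Lrot2 (Lpr_gt (K49.f178844 IH) (Lpr_gt (f167090 IH) (Lpr_af (f885129 IH) (Lpn v36365))))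
theorem f916047 : Led Lsl_ff K49.v12413 = v12538 :=
  Lgr Lrot23 (Lpe (K49.f692051 IH) (Lpr_ft (f885130 IH) (Lpq (f916046 IH) (Lpe (f694938 IH) (Lpn v12538)))))
theorem f916058 : v12415 = (LP (LK LD1_c4 LD2_c17 LD3_c7)) :=
  (Llr Lrot75 (Lpe (f692065 IH) (Lpr_bf (K49.f692050 IH) (Lpr_ff (f916047 IH) (Lpe (f693442 IH) (Lpn (LP (LK LD1_c4 LD2_c17 LD3_c7)))))))).symm
theorem f916060 : Led Lsl_at (LP (LK LD1_c4 LD2_c10 LD3_c54)) = (LP (LK LD1_c4 LD2_c17 LD3_c7)) :=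
  Leop (Lpq (f916058 IH) (Lpe (f692068 IH) (Lpn (LP (LK LD1_c4 LD2_c10 LD3_c54)))))
theorem seed_2396 : LEOK LG_a (LK LD1_c4 LD2_c10 LD3_c54) :=
  Leoe_a (LK LD1_c4 LD2_c10 LD3_c54) (f916060 IH)
theorem f882484 : Led Lsl_ff (LP (LK LD1_c8 LD2_c21 LD3_c8)) = K67.v36152 :=
  Lgr Lrot3 (Lpr_ft (K67.f882483 IH) (Lpn K67.v36152))
theorem f882482 : Led Lsl_ct K67.v12390 = K67.v36152 :=
  Lgr Lrot59 (Lpr_cf (K67.f882481 IH) (Lpn K67.v36152))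
theorem f692066 : Led Lsl_af (LP (LK LD1_c4 LD2_c10 LD3_c54)) = v12415 :=
  Lgr Lrot45 (Lpr_ft (K68.f692047 IH) (Lpe (K68.f692046 IH) (Lpr_ft (f692065 IH) (Lpn v12415))))
theorem f916059 : (LP (LK LD1_c4 LD2_c10 LD3_c54)) = K68.v12537 :=
  Lefun (Lecon (Lfl_af (f692066 IH)) (f916058 IH)) (K68.f693436 IH)
theorem f916071 : K67.v12390 = (LP (LK LD1_c4 LD2_c17 LD3_c31)) :=
  Lefun (Lecon (Lfl_df (K68.f693438 IH)) (f916059 IH).symm) (Lfl_df (K50.f404626 IH))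
theorem f916097 : K67.v36152 = (LP (LK LD1_c8 LD2_c34 LD3_c9)) :=
  Lefun (Lecon (f882482 IH) (f916071 IH)) (K68.f170226 IH)
theorem f391933 : Led Lsl_dt (LP (LK LD1_c8 LD2_c21 LD3_c8)) = (LP (LK LD1_c15 LD2_c43 LD3_c16)) :=
  Lre_d IH (LK LD1_c8 LD2_c21 LD3_c8) (LK LD1_c15 LD2_c43 LD3_c16) Lrfl Lrfl
theorem f916116 : Led Lsl_ff K68.v36714 = (LP (LK LD1_c15 LD2_c43 LD3_c16)) :=
  Lgr Lrot19 (Lpe (K68.f889791 IH) (Lpq (f916097 IH) (Lpe (f882484 IH) (Lpr_dt (f391933 IH) (Lpn (LP (LK LD1_c15 LD2_c43 LD3_c16)))))))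
theorem f916119 : Led Lsl_ft K68.v36714 = (LP (LK LD1_c15 LD2_c43 LD3_c16)) :=
  Lgr Lrot48 (Lpr_ff (f916116 IH) (Lpn (LP (LK LD1_c15 LD2_c43 LD3_c16))))
theorem f889793 : Led Lsl_ct (LP (LK LD1_c19 LD2_c51 LD3_c60)) = K68.v36714 :=
  Lgr Lrot59 (Lpr_cf (K68.f889792 IH) (Lpn K68.v36714))
theorem f391932 : Led Lsl_ct (LP (LK LD1_c15 LD2_c43 LD3_c16)) = (LP (LK LD1_c25 LD2_c39 LD3_c30)) :=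
  Lre_c IH (LK LD1_c15 LD2_c43 LD3_c16) (LK LD1_c25 LD2_c39 LD3_c30) Lrfl Lrfl
theorem f916120 : Led Lsl_ff (LP (LK LD1_c19 LD2_c51 LD3_c60)) = (LP (LK LD1_c25 LD2_c39 LD3_c30)) :=
  Lgr Lrot23 (Lpr_ct (f889793 IH) (Lpr_ft (f916119 IH) (Lpr_ct (f391932 IH) (Lpn (LP (LK LD1_c25 LD2_c39 LD3_c30))))))
theorem f885378 : Led Lsl_df (LP (LK LD1_c25 LD2_c39 LD3_c27)) = (LP (LK LD1_c15 LD2_c46 LD3_c25)) :=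
  Lgr Lrot38 (Lpr_dt (K68.f885376 IH) (Lpn (LP (LK LD1_c15 LD2_c46 LD3_c25))))
theorem f171031 : Led Lsl_ct (LP (LK LD1_c8 LD2_c21 LD3_c8)) = (LP (LK LD1_c4 LD2_c10 LD3_c28)) :=
  Lre_c IH (LK LD1_c8 LD2_c21 LD3_c8) (LK LD1_c4 LD2_c10 LD3_c28) Lrfl Lrfl
theorem f391936 : Led Lsl_dt (LP (LK LD1_c15 LD2_c43 LD3_c16)) = (LP (LK LD1_c8 LD2_c21 LD3_c8)) :=
  Lre_d IH (LK LD1_c15 LD2_c43 LD3_c16) (LK LD1_c8 LD2_c21 LD3_c8) Lrfl Lrfl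
theorem f885384 : Led Lsl_gt (LP (LK LD1_c25 LD2_c39 LD3_c27)) = (LP (LK LD1_c15 LD2_c43 LD3_c16)) :=
  Lgr Lrot49 (Lpr_df (f885378 IH) (Lpe (K68.f883951 IH) (Lpe (K27.f53382 IH) (Lpe (K68.f406077 IH) (Lpe (K68.f170900 IH) (Lpr_gt (K67.f406106 IH) (Lpr_dt (K67.f691952 IH) (Lpe (f171031 IH) (Lpe (f391936 IH) (Lpn (LP (LK LD1_c15 LD2_c43 LD3_c16))))))))))))
theorem f170245 : Led Lsl_ct (LP (LK LD1_c16 LD2_c6 LD3_c20)) = (LP (LK LD1_c8 LD2_c35 LD3_c0)) :=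
  Lre_c IH (LK LD1_c16 LD2_c6 LD3_c20) (LK LD1_c8 LD2_c35 LD3_c0) Lrfl Lrfl
theorem f885386 : Led Lsl_gt (LP (LK LD1_c25 LD2_c39 LD3_c30)) = (LP (LK LD1_c16 LD2_c6 LD3_c20)) :=
  Lgr Lrot150 (Lpe (f391932 IH) (Lpe (f885384 IH) (Lpr_df (f885378 IH) (Lpe (K68.f883949 IH) (Lpr_ct (K50.f170253 IH) (Lpr_gt (K50.f170248 IH) (Lpr_ct (K53.f170117 IH) (Lpe (K67.f170244 IH) (Lpe (f170245 IH) (Lpn (LP (LK LD1_c16 LD2_c6 LD3_c20))))))))))))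
theorem f916126 : Led Lsl_at (LP (LK LD1_c19 LD2_c51 LD3_c60)) = (LP (LK LD1_c25 LD2_c39 LD3_c28)) :=
  Lgr Lrot26 (Lpr_ff (f916120 IH) (Lpr_gt (f885386 IH) (Lpr_gt (K67.f691924 IH) (Lpn (LP (LK LD1_c25 LD2_c39 LD3_c28))))))
theorem f916130 : Led Lsl_af K68.v36714 = (LP (LK LD1_c15 LD2_c43 LD3_c14)) :=
  Lgr Lrot68 (Lpe (K68.f889792 IH) (Lpr_at (f916126 IH) (Lpr_ct (K67.f319572 IH) (Lpn (LP (LK LD1_c15 LD2_c43 LD3_c14))))))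
theorem f882606 : Led Lsl_dt (LP (LK LD1_c11 LD2_c0 LD3_c61)) = (LP (LK LD1_c19 LD2_c51 LD3_c60)) :=
  Lre_d IH (LK LD1_c11 LD2_c0 LD3_c61) (LK LD1_c19 LD2_c51 LD3_c60) Lrfl Lrfl
theorem f916132 : Led Lsl_ft (LP (LK LD1_c16 LD2_c4 LD3_c60)) = (LP (LK LD1_c15 LD2_c43 LD3_c14)) :=
  Lgr Lrot142 (Lpr_dt (K50.f380961 IH) (Lpr_ct (K27.f179707 IH) (Lpr_dt (K50.f382737 IH) (Lpr_ct (K50.f170888 IH) (Lpr_dt (K68.f882599 IH) (Lpe (K68.f882603 IH) (Lpr_dt (f882606 IH) (Lpr_ct (f889793 IH) (Lpr_af (f916130 IH) (Lpn (LP (LK LD1_c15 LD2_c43 LD3_c14))))))))))))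
theorem f916142 : Led Lsl_gt (LP (LK LD1_c16 LD2_c4 LD3_c60)) = (LP (LK LD1_c15 LD2_c46 LD3_c52)) :=
  Lgr Lrot5 (Lpr_ft (f916132 IH) (Lpe (f916130 IH) (Lpe (K68.f889795 IH) (Lpn (LP (LK LD1_c15 LD2_c46 LD3_c52))))))
theorem f916143 : Led Lsl_gt (LP (LK LD1_c16 LD2_c4 LD3_c60)) = (LP (LK LD1_c15 LD2_c46 LD3_c52)) :=
  Leop (Lpe (f916142 IH) (Lpn (LP (LK LD1_c16 LD2_c4 LD3_c60))))
theorem seed_2397 : LEOK LG_g (LK LD1_c16 LD2_c4 LD3_c60) :=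
  Leoe_g (LK LD1_c16 LD2_c4 LD3_c60) (f916143 IH)
def v36820 : LQ := Led Lsl_gt (LP (LK LD1_c8 LD2_c35 LD3_c46))
theorem f890368 : Led Lsl_gt (LP (LK LD1_c8 LD2_c35 LD3_c46)) = v36820 :=
  Lrfl
theorem f717436 : Led Lsl_at (LP (LK LD1_c15 LD2_c47 LD3_c4)) = K52.v12601 :=
  Lgr Lrot100 (Lpr_af (K52.f717435 IH) (Lpn K52.v12601))
theorem f890369 : Led Lsl_gf K52.v12601 = v36820 :=
  Lgr Lrot76 (Lpe (f717436 IH) (Lpe (K52.f717163 IH) (Lpr_gt (f890368 IH) (Lpn v36820))))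
theorem f693757 : Led Lsl_df (LP (LK LD1_c4 LD2_c18 LD3_c24)) = K52.v12601 :=
  Lgr Lrot38 (Lpr_dt (K52.f693756 IH) (Lpn K52.v12601))
theorem f51814 : Led Lsl_ct (LP (LK LD1_c4 LD2_c11 LD3_c55)) = (LP (LK LD1_c8 LD2_c23 LD3_c32)) :=
  Lre_c IH (LK LD1_c4 LD2_c11 LD3_c55) (LK LD1_c8 LD2_c23 LD3_c32) Lrfl Lrfl
def v36298 : LQ := Led Lsl_gf (LP (LK LD1_c8 LD2_c23 LD3_c22))
theorem f884804 : Led Lsl_gf (LP (LK LD1_c8 LD2_c23 LD3_c22)) = v36298 :=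
  Lrfl
theorem f883114 : Led Lsl_at (LP (LK LD1_c15 LD2_c46 LD3_c28)) = (LP (LK LD1_c8 LD2_c23 LD3_c22)) :=
  Lre_a IH (LK LD1_c15 LD2_c46 LD3_c28) (LK LD1_c8 LD2_c23 LD3_c22) Lrfl Lrfl
theorem f883050 : Led Lsl_ft (LP (LK LD1_c8 LD2_c23 LD3_c32)) = (LP (LK LD1_c15 LD2_c46 LD3_c28)) :=
  Lre_f IH (LK LD1_c8 LD2_c23 LD3_c32) (LK LD1_c15 LD2_c46 LD3_c28) Lrfl Lrfl
theorem f884805 : Led Lsl_gt (LP (LK LD1_c8 LD2_c23 LD3_c32)) = v36298 :=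
  Lgr Lrot5 (Lpr_ft (f883050 IH) (Lpr_at (f883114 IH) (Lpr_gf (f884804 IH) (Lpn v36298))))
theorem f890370 : Led Lsl_dt v36298 = v36820 :=
  Lgr Lrot57 (Lpe (f884805 IH) (Lpe (f51814 IH) (Lpe (K40.f400511 IH) (Lpr_dt (K38.f295661 IH) (Lpe (K54.f400265 IH) (Lpr_dt (K54.f51756 IH) (Lpe (K67.f52127 IH) (Lpr_df (f693757 IH) (Lpr_gf (f890369 IH) (Lpn v36820))))))))))
theorem f890371 : Led Lsl_df v36298 = v36820 :=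
  Lgr Lrot38 (Lpr_dt (f890370 IH) (Lpn v36820))
def v36427 : LQ := Led Lsl_ft (LP (LK LD1_c8 LD2_c25 LD3_c30))
theorem f885536 : Led Lsl_ft (LP (LK LD1_c8 LD2_c25 LD3_c30)) = v36427 :=
  Lrfl
theorem f885538 : Led Lsl_ff (LP (LK LD1_c8 LD2_c25 LD3_c30)) = v36427 :=
  Lgr Lrot3 (Lpr_ft (f885536 IH) (Lpn v36427))
def v36849 : LQ := Led Lsl_at (LP (LK LD1_c8 LD2_c36 LD3_c18))
theorem f890559 : Led Lsl_at (LP (LK LD1_c8 LD2_c36 LD3_c18)) = v36849 :=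
  Lrfl
theorem f890560 : Led Lsl_af (LP (LK LD1_c8 LD2_c36 LD3_c18)) = v36849 :=
  Lgr Lrot0 (Lpr_at (f890559 IH) (Lpn v36849))
def v36423 : LQ := Led Lsl_at (LP (LK LD1_c8 LD2_c25 LD3_c30))
theorem f885526 : Led Lsl_at (LP (LK LD1_c8 LD2_c25 LD3_c30)) = v36423 :=
  Lrfl
theorem f885527 : Led Lsl_af (LP (LK LD1_c8 LD2_c25 LD3_c30)) = v36423 :=
  Lgr Lrot0 (Lpr_at (f885526 IH) (Lpn v36423))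
theorem f178838 : Led Lsl_gt (LP (LK LD1_c4 LD2_c13 LD3_c8)) = (LP (LK LD1_c8 LD2_c25 LD3_c30)) :=
  Lre_g IH (LK LD1_c4 LD2_c13 LD3_c8) (LK LD1_c8 LD2_c25 LD3_c30) Lrfl Lrfl
theorem f885528 : Led Lsl_ft (LP (LK LD1_c8 LD2_c25 LD3_c31)) = v36423 :=
  Lgr Lrot2 (Lpr_gt (K49.f178349 IH) (Lpr_gt (f178838 IH) (Lpr_af (f885527 IH) (Lpn v36423))))
theorem f885529 : Led Lsl_ff (LP (LK LD1_c8 LD2_c25 LD3_c31)) = v36423 :=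
  Lgr Lrot3 (Lpr_ft (f885528 IH) (Lpn v36423))
theorem f885539 : Led Lsl_at (LP (LK LD1_c8 LD2_c25 LD3_c31)) = v36427 :=
  Lgr Lrot66 (Lpr_ff (f885529 IH) (Lpe (f885526 IH) (Lpr_ff (f885538 IH) (Lpn v36427))))
def v37720 : LQ := Led Lsl_at (LP (LK LD1_c8 LD2_c59 LD3_c21))
theorem f896159 : Led Lsl_at (LP (LK LD1_c8 LD2_c59 LD3_c21)) = v37720 :=
  Lrfl
def v12764 : LQ := Led Lsl_at (LP (LK LD1_c4 LD2_c30 LD3_c31))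
theorem f698085 : Led Lsl_at (LP (LK LD1_c4 LD2_c30 LD3_c31)) = v12764 :=
  Lrfl
theorem f698086 : Led Lsl_af (LP (LK LD1_c4 LD2_c30 LD3_c31)) = v12764 :=
  Lgr Lrot0 (Lpr_at (f698085 IH) (Lpn v12764))
theorem f896161 : Led Lsl_cf v12764 = v37720 :=
  Lgr Lrot1 (Lpe (f698086 IH) (Lpr_ct (K67.f255950 IH) (Lpr_at (f896159 IH) (Lpn v37720))))
theorem f698087 : Led Lsl_ft (LP (LK LD1_c4 LD2_c30 LD3_c32)) = v12764 :=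
  Lgr Lrot2 (Lpr_gt (K27.f173408 IH) (Lpr_gt (K30.f181780 IH) (Lpr_af (f698086 IH) (Lpn v12764))))
theorem f698088 : Led Lsl_ff (LP (LK LD1_c4 LD2_c30 LD3_c32)) = v12764 :=
  Lgr Lrot3 (Lpr_ft (f698087 IH) (Lpn v12764))
theorem f173495 : Led Lsl_ct (LP (LK LD1_c4 LD2_c30 LD3_c32)) = (LP (LK LD1_c8 LD2_c59 LD3_c23)) :=
  Lre_c IH (LK LD1_c4 LD2_c30 LD3_c32) (LK LD1_c8 LD2_c59 LD3_c23) Lrfl Lrfl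
theorem f896163 : Led Lsl_ft (LP (LK LD1_c8 LD2_c59 LD3_c23)) = v37720 :=
  Lgr Lrot4 (Lpe (f173495 IH) (Lpr_ff (f698088 IH) (Lpr_cf (f896161 IH) (Lpn v37720))))
theorem f896164 : Led Lsl_ff (LP (LK LD1_c8 LD2_c59 LD3_c23)) = v37720 :=
  Lgr Lrot3 (Lpr_ft (f896163 IH) (Lpn v37720))
theorem f896162 : Led Lsl_ct v12764 = v37720 :=
  Lgr Lrot59 (Lpr_cf (f896161 IH) (Lpn v37720))
def v37465 : LQ := Led Lsl_at (LP (LK LD1_c8 LD2_c56 LD3_c6))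
theorem f894786 : Led Lsl_at (LP (LK LD1_c8 LD2_c56 LD3_c6)) = v37465 :=
  Lrfl
theorem f894788 : Led Lsl_df v12764 = v37465 :=
  Lgr Lrot18 (Lpe (f698086 IH) (Lpr_dt (K30.f383113 IH) (Lpr_at (f894786 IH) (Lpn v37465))))
def v14950 : LQ := Led Lsl_ft (LP (LK LD1_c5 LD2_c28 LD3_c26))
theorem f727402 : Led Lsl_ft (LP (LK LD1_c5 LD2_c28 LD3_c26)) = v14950 :=
  Lrfl
def v14947 : LQ := Led Lsl_at (LP (LK LD1_c5 LD2_c28 LD3_c26))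
theorem f727388 : Led Lsl_at (LP (LK LD1_c5 LD2_c28 LD3_c26)) = v14947 :=
  Lrfl
theorem f727389 : Led Lsl_af (LP (LK LD1_c5 LD2_c28 LD3_c26)) = v14947 :=
  Lgr Lrot0 (Lpr_at (f727388 IH) (Lpn v14947))
def v4805 : LQ := Led Lsl_at (LP (LK LD1_c2 LD2_c48 LD3_c34))
theorem f639076 : Led Lsl_at (LP (LK LD1_c2 LD2_c48 LD3_c34)) = v4805 :=
  Lrfl
theorem f639077 : Led Lsl_af (LP (LK LD1_c2 LD2_c48 LD3_c34)) = v4805 :=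
  Lgr Lrot0 (Lpr_at (f639076 IH) (Lpn v4805))
theorem f727390 : Led Lsl_df v4805 = v14947 :=
  Lgr Lrot18 (Lpe (f639077 IH) (Lpr_dt (K27.f380940 IH) (Lpr_at (f727388 IH) (Lpn v14947))))
theorem f639078 : Led Lsl_ft (LP (LK LD1_c2 LD2_c48 LD3_c35)) = v4805 :=
  Lgr Lrot2 (Lpr_gt (K27.f175102 IH) (Lpr_gt (K27.f172878 IH) (Lpr_af (f639077 IH) (Lpn v4805))))
theorem f639079 : Led Lsl_ff (LP (LK LD1_c2 LD2_c48 LD3_c35)) = v4805 :=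
  Lgr Lrot3 (Lpr_ft (f639078 IH) (Lpn v4805))
theorem f727392 : Led Lsl_ft (LP (LK LD1_c5 LD2_c28 LD3_c27)) = v14947 :=
  Lgr Lrot54 (Lpe (K27.f179154 IH) (Lpr_ff (f639079 IH) (Lpr_df (f727390 IH) (Lpn v14947))))
theorem f727403 : Led Lsl_af (LP (LK LD1_c5 LD2_c28 LD3_c27)) = v14950 :=
  Lgr Lrot45 (Lpr_ft (f727392 IH) (Lpe (f727389 IH) (Lpr_ft (f727402 IH) (Lpn v14950))))
theorem f916140 : Led Lsl_ff (LP (LK LD1_c16 LD2_c4 LD3_c60)) = (LP (LK LD1_c15 LD2_c43 LD3_c14)) :=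
  Lgr Lrot3 (Lpr_ft (f916132 IH) (Lpn (LP (LK LD1_c15 LD2_c43 LD3_c14))))
theorem f178829 : Led Lsl_bt (LP (LK LD1_c8 LD2_c21 LD3_c7)) = (LP (LK LD1_c15 LD2_c43 LD3_c13)) :=
  Lre_b IH (LK LD1_c8 LD2_c21 LD3_c7) (LK LD1_c15 LD2_c43 LD3_c13) Lrfl Lrfl
theorem f319571 : Led Lsl_dt (LP (LK LD1_c15 LD2_c43 LD3_c14)) = (LP (LK LD1_c8 LD2_c21 LD3_c7)) :=
  Lre_d IH (LK LD1_c15 LD2_c43 LD3_c14) (LK LD1_c8 LD2_c21 LD3_c7) Lrfl Lrfl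
theorem f691918 : Led Lsl_bt (LP (LK LD1_c16 LD2_c41 LD3_c49)) = (LP (LK LD1_c15 LD2_c43 LD3_c14)) :=
  Lgr Lrot95 (Lpr_df (K67.f691902 IH) (Lpe (f178829 IH) (Lpe (f319571 IH) (Lpn (LP (LK LD1_c15 LD2_c43 LD3_c14))))))
theorem f916146 : Led Lsl_ft (LP (LK LD1_c26 LD2_c2 LD3_c7)) = (LP (LK LD1_c16 LD2_c41 LD3_c49)) :=
  Lgr Lrot75 (Lpe (K50.f380953 IH) (Lpr_ff (f916140 IH) (Lpe (f691918 IH) (Lpn (LP (LK LD1_c16 LD2_c41 LD3_c49))))))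
theorem f916158 : Led Lsl_af (LP (LK LD1_c26 LD2_c40 LD3_c16)) = (LP (LK LD1_c16 LD2_c41 LD3_c49)) :=
  Lgr Lrot31 (Lpe (K64.f267445 IH) (Lpr_gf (K27.f380929 IH) (Lpr_ft (f916146 IH) (Lpn (LP (LK LD1_c16 LD2_c41 LD3_c49))))))
theorem f916164 : Led Lsl_at (LP (LK LD1_c20 LD2_c19 LD3_c22)) = (LP (LK LD1_c15 LD2_c43 LD3_c13)) :=
  Lgr Lrot51 (Lpr_df (K68.f383218 IH) (Lpr_af (f916158 IH) (Lpr_df (K67.f691902 IH) (Lpn (LP (LK LD1_c15 LD2_c43 LD3_c13))))))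
theorem f383220 : Led Lsl_at (LP (LK LD1_c26 LD2_c2 LD3_c6)) = (LP (LK LD1_c16 LD2_c4 LD3_c59)) :=
  Lre_a IH (LK LD1_c26 LD2_c2 LD3_c6) (LK LD1_c16 LD2_c4 LD3_c59) Lrfl Lrfl
theorem f383221 : Led Lsl_ft (LP (LK LD1_c20 LD2_c19 LD3_c22)) = (LP (LK LD1_c26 LD2_c2 LD3_c6)) :=
  Lgr Lrot142 (Lpr_dt (K64.f383214 IH) (Lpe (K64.f341348 IH) (Lpr_dt (K64.f341347 IH) (Lpr_ct (K64.f178166 IH) (Lpe (K27.f380935 IH) (Lpr_ct (K54.f172881 IH) (Lpr_dt (K67.f172914 IH) (Lpe (K67.f383216 IH) (Lpe (f383220 IH) (Lpn (LP (LK LD1_c26 LD2_c2 LD3_c6))))))))))))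
theorem f383224 : Led Lsl_ff (LP (LK LD1_c20 LD2_c19 LD3_c22)) = (LP (LK LD1_c26 LD2_c2 LD3_c6)) :=
  Lgr Lrot3 (Lpr_ft (f383221 IH) (Lpn (LP (LK LD1_c26 LD2_c2 LD3_c6))))
theorem f691889 : Led Lsl_ct (LP (LK LD1_c8 LD2_c25 LD3_c31)) = K49.v12391 :=
  Lgr Lrot59 (Lpr_cf (K49.f691885 IH) (Lpn K49.v12391))
theorem f691892 : Led Lsl_cf (LP (LK LD1_c15 LD2_c49 LD3_c46)) = (LP (LK LD1_c15 LD2_c43 LD3_c13)) :=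
  Lgr Lrot97 (Lpr_bt (K50.f691891 IH) (Lpr_ct (f691889 IH) (Lpe (K49.f691883 IH) (Lpr_ct (K67.f171006 IH) (Lpr_bt (f178829 IH) (Lpn (LP (LK LD1_c15 LD2_c43 LD3_c13))))))))
theorem f691904 : Led Lsl_dt (LP (LK LD1_c8 LD2_c59 LD3_c21)) = (LP (LK LD1_c15 LD2_c49 LD3_c46)) :=
  Lgr Lrot27 (Lpe (K67.f255950 IH) (Lpe (K30.f181780 IH) (Lpe (K20.f225248 IH) (Lpe (K27.f255949 IH) (Lpr_df (K30.f255945 IH) (Lpr_gt (K27.f178810 IH) (Lpr_ct (K50.f691894 IH) (Lpr_gt (K50.f404644 IH) (Lpe (f691892 IH) (Lpn (LP (LK LD1_c15 LD2_c49 LD3_c46))))))))))))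
theorem f225896 : Led Lsl_ct (LP (LK LD1_c16 LD2_c43 LD3_c28)) = (LP (LK LD1_c8 LD2_c56 LD3_c6)) :=
  Lre_c IH (LK LD1_c16 LD2_c43 LD3_c28) (LK LD1_c8 LD2_c56 LD3_c6) Lrfl Lrfl
theorem f225827 : Led Lsl_ct (LP (LK LD1_c8 LD2_c56 LD3_c6)) = (LP (LK LD1_c16 LD2_c43 LD3_c28)) :=
  Lre_c IH (LK LD1_c8 LD2_c56 LD3_c6) (LK LD1_c16 LD2_c43 LD3_c28) Lrfl Lrfl
theorem f318769 : Led Lsl_gt (LP (LK LD1_c8 LD2_c55 LD3_c19)) = (LP (LK LD1_c16 LD2_c41 LD3_c48)) :=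
  Lre_g IH (LK LD1_c8 LD2_c55 LD3_c19) (LK LD1_c16 LD2_c41 LD3_c48) Lrfl Lrfl
theorem f341394 : Led Lsl_ct (LP (LK LD1_c16 LD2_c41 LD3_c48)) = (LP (LK LD1_c26 LD2_c40 LD3_c31)) :=
  Lre_c IH (LK LD1_c16 LD2_c41 LD3_c48) (LK LD1_c26 LD2_c40 LD3_c31) Lrfl Lrfl
theorem f341395 : Led Lsl_df (LP (LK LD1_c16 LD2_c43 LD3_c28)) = (LP (LK LD1_c26 LD2_c40 LD3_c31)) :=
  Lgr Lrot162 (Lpe (f225827 IH) (Lpe (K30.f225826 IH) (Lpr_cf (K30.f225886 IH) (Lpe (K30.f225895 IH) (Lpr_dt (K30.f341368 IH) (Lpr_gt (K27.f173504 IH) (Lpr_ct (K67.f219670 IH) (Lpr_gt (f318769 IH) (Lpr_ct (f341394 IH) (Lpn (LP (LK LD1_c26 LD2_c40 LD3_c31))))))))))))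
theorem f916174 : Led Lsl_dt (LP (LK LD1_c26 LD2_c2 LD3_c6)) = (LP (LK LD1_c16 LD2_c41 LD3_c48)) :=
  Lgr Lrot159 (Lpe (f383224 IH) (Lpr_at (f916164 IH) (Lpe (K49.f691887 IH) (Lpe (f691904 IH) (Lpe (K67.f255950 IH) (Lpr_df (K30.f383118 IH) (Lpe (f225896 IH) (Lpr_df (f341395 IH) (Lpe (f341394 IH) (Lpn (LP (LK LD1_c16 LD2_c41 LD3_c48))))))))))))
theorem f173532 : Led Lsl_ct (LP (LK LD1_c16 LD2_c41 LD3_c49)) = (LP (LK LD1_c26 LD2_c40 LD3_c33)) :=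
  Lre_c IH (LK LD1_c16 LD2_c41 LD3_c49) (LK LD1_c26 LD2_c40 LD3_c33) Lrfl Lrfl
theorem f173496 : Led Lsl_dt (LP (LK LD1_c8 LD2_c59 LD3_c23)) = (LP (LK LD1_c16 LD2_c48 LD3_c43)) :=
  Lre_d IH (LK LD1_c8 LD2_c59 LD3_c23) (LK LD1_c16 LD2_c48 LD3_c43) Lrfl Lrfl
theorem f916178 : Led Lsl_cf (LP (LK LD1_c26 LD2_c2 LD3_c6)) = (LP (LK LD1_c16 LD2_c48 LD3_c43)) :=
  Lgr Lrot55 (Lpr_dt (f916174 IH) (Lpr_ct (f341394 IH) (Lpe (f341395 IH) (Lpr_ct (f225896 IH) (Lpe (K30.f383118 IH) (Lpr_ct (K67.f255950 IH) (Lpr_dt (f691904 IH) (Lpr_ct (K49.f691887 IH) (Lpe (K67.f691902 IH) (Lpr_ct (f173532 IH) (Lpe (K69.f173522 IH) (Lpr_ct (K31.f173494 IH) (Lpr_dt (K27.f173488 IH) (Lpr_ct (f173495 IH) (Lpr_dt (f173496 IH) (Lpn (LP (LK LD1_c16 LD2_c48 LD3_c43))))))))))))))))))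
theorem f916154 : Led Lsl_ff (LP (LK LD1_c19 LD2_c32 LD3_c12)) = (LP (LK LD1_c26 LD2_c40 LD3_c33)) :=
  Lgr Lrot23 (Lpe (K67.f382746 IH) (Lpr_ft (f916146 IH) (Lpr_ct (f173532 IH) (Lpn (LP (LK LD1_c26 LD2_c40 LD3_c33))))))
theorem f916185 : Led Lsl_at (LP (LK LD1_c19 LD2_c32 LD3_c12)) = (LP (LK LD1_c26 LD2_c40 LD3_c31)) :=
  Lgr Lrot33 (Lpr_ff (f916154 IH) (Lpe (K69.f173522 IH) (Lpr_ct (K31.f173494 IH) (Lpr_dt (K27.f173488 IH) (Lpr_ct (f173495 IH) (Lpr_dt (f173496 IH) (Lpe (f916178 IH) (Lpr_dt (f916174 IH) (Lpr_ct (f341394 IH) (Lpn (LP (LK LD1_c26 LD2_c40 LD3_c31))))))))))))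
theorem f173535 : Led Lsl_ct (LP (LK LD1_c26 LD2_c40 LD3_c33)) = (LP (LK LD1_c16 LD2_c41 LD3_c49)) :=
  Lre_c IH (LK LD1_c26 LD2_c40 LD3_c33) (LK LD1_c16 LD2_c41 LD3_c49) Lrfl Lrfl
theorem f916162 : Led Lsl_at (LP (LK LD1_c19 LD2_c32 LD3_c11)) = (LP (LK LD1_c26 LD2_c40 LD3_c33)) :=
  Lgr Lrot107 (Lpr_cf (K64.f341348 IH) (Lpr_af (f916158 IH) (Lpe (f173535 IH) (Lpn (LP (LK LD1_c26 LD2_c40 LD3_c33))))))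
theorem f916191 : Led Lsl_ff (LP (LK LD1_c19 LD2_c32 LD3_c11)) = (LP (LK LD1_c26 LD2_c40 LD3_c31)) :=
  Lgr Lrot30 (Lpr_at (f916162 IH) (Lpe (f916154 IH) (Lpr_at (f916185 IH) (Lpn (LP (LK LD1_c26 LD2_c40 LD3_c31))))))
theorem f916199 : Led Lsl_ft (LP (LK LD1_c19 LD2_c32 LD3_c11)) = (LP (LK LD1_c26 LD2_c40 LD3_c31)) :=
  Lgr Lrot48 (Lpr_ff (f916191 IH) (Lpn (LP (LK LD1_c26 LD2_c40 LD3_c31))))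
theorem f916203 : Led Lsl_ff (LP (LK LD1_c10 LD2_c47 LD3_c60)) = (LP (LK LD1_c16 LD2_c43 LD3_c28)) :=
  Lgr Lrot19 (Lpr_dt (K67.f341361 IH) (Lpr_ft (f916199 IH) (Lpe (f341395 IH) (Lpn (LP (LK LD1_c16 LD2_c43 LD3_c28))))))
theorem f916211 : v14950 = (LP (LK LD1_c8 LD2_c56 LD3_c6)) :=
  (Llr Lrot4 (Lpe (f727402 IH) (Lpe (K64.f178166 IH) (Lpr_ff (f916203 IH) (Lpe (f225827 IH) (Lpn (LP (LK LD1_c8 LD2_c56 LD3_c6)))))))).symm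
theorem f916212 : (LP (LK LD1_c5 LD2_c28 LD3_c27)) = v37465 :=
  Lefun (Lecon (Lfl_af (f727403 IH)) (f916211 IH)) (f894786 IH)
theorem f916219 : v12764 = (LP (LK LD1_c2 LD2_c48 LD3_c35)) :=
  Lefun (Lecon (Lfl_df (f894788 IH)) (f916212 IH).symm) (Lfl_df (K30.f179160 IH))
theorem f916236 : v37720 = (LP (LK LD1_c5 LD2_c45 LD3_c37)) :=
  Lefun (Lecon (f896162 IH) (f916219 IH)) (K54.f179171 IH)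
theorem f916271 : Led Lsl_ff (LP (LK LD1_c11 LD2_c21 LD3_c41)) = (LP (LK LD1_c16 LD2_c48 LD3_c43)) :=
  Lgr Lrot19 (Lpr_dt (K54.f179157 IH) (Lpq (f916236 IH) (Lpe (f896164 IH) (Lpr_dt (f173496 IH) (Lpn (LP (LK LD1_c16 LD2_c48 LD3_c43)))))))
theorem f916273 : Led Lsl_ft (LP (LK LD1_c11 LD2_c21 LD3_c41)) = (LP (LK LD1_c16 LD2_c48 LD3_c43)) :=
  Lgr Lrot48 (Lpr_ff (f916271 IH) (Lpn (LP (LK LD1_c16 LD2_c48 LD3_c43))))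
theorem f916277 : Led Lsl_af (LP (LK LD1_c11 LD2_c21 LD3_c38)) = (LP (LK LD1_c16 LD2_c48 LD3_c43)) :=
  Lgr Lrot31 (Lpe (K67.f380942 IH) (Lpr_gf (K67.f422547 IH) (Lpr_ft (f916273 IH) (Lpn (LP (LK LD1_c16 LD2_c48 LD3_c43))))))
theorem f916170 : Led Lsl_af (LP (LK LD1_c11 LD2_c21 LD3_c41)) = (LP (LK LD1_c15 LD2_c49 LD3_c46)) :=
  Lgr Lrot68 (Lpr_ct (K54.f179173 IH) (Lpr_at (f916164 IH) (Lpe (f691892 IH) (Lpn (LP (LK LD1_c15 LD2_c49 LD3_c46))))))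
theorem f916281 : Led Lsl_ft (LP (LK LD1_c11 LD2_c21 LD3_c38)) = (LP (LK LD1_c15 LD2_c49 LD3_c46)) :=
  Lgr Lrot101 (Lpr_af (f916277 IH) (Lpe (f916273 IH) (Lpr_af (f916170 IH) (Lpn (LP (LK LD1_c15 LD2_c49 LD3_c46))))))
theorem f693818 : Led Lsl_bf (LP (LK LD1_c11 LD2_c21 LD3_c38)) = K50.v12620 :=
  Lgr Lrot90 (Lpe (K67.f383216 IH) (Lpr_bt (K68.f383229 IH) (Lpr_ct (K27.f179707 IH) (Lpr_bt (K50.f693477 IH) (Lpr_ct (K50.f693817 IH) (Lpn K50.v12620))))))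
theorem f179608 : Led Lsl_gt (LP (LK LD1_c4 LD2_c18 LD3_c49)) = (LP (LK LD1_c8 LD2_c36 LD3_c18)) :=
  Lre_g IH (LK LD1_c4 LD2_c18 LD3_c49) (LK LD1_c8 LD2_c36 LD3_c18) Lrfl Lrfl
theorem f890561 : Led Lsl_ft K50.v12620 = v36849 :=
  Lgr Lrot2 (Lpe (K50.f693816 IH) (Lpr_gt (f179608 IH) (Lpr_af (f890560 IH) (Lpn v36849))))
theorem f890562 : Led Lsl_ff K50.v12620 = v36849 :=
  Lgr Lrot3 (Lpr_ft (f890561 IH) (Lpn v36849))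
theorem f916285 : v36849 = (LP (LK LD1_c8 LD2_c25 LD3_c31)) :=
  (Llr Lrot25 (Lpe (f890562 IH) (Lpe (f693818 IH) (Lpr_ft (f916281 IH) (Lpr_bt (K50.f691891 IH) (Lpn (LP (LK LD1_c8 LD2_c25 LD3_c31)))))))).symm
theorem f916286 : (LP (LK LD1_c8 LD2_c36 LD3_c18)) = v36427 :=
  Lefun (Lecon (Lfl_af (f890560 IH)) (f916285 IH)) (f885539 IH)
theorem f179694 : Led Lsl_ct (LP (LK LD1_c8 LD2_c30 LD3_c48)) = (LP (LK LD1_c4 LD2_c15 LD3_c59)) :=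
  Lre_c IH (LK LD1_c8 LD2_c30 LD3_c48) (LK LD1_c4 LD2_c15 LD3_c59) Lrfl Lrfl
theorem f243283 : Led Lsl_gt (LP (LK LD1_c8 LD2_c30 LD3_c59)) = (LP (LK LD1_c4 LD2_c15 LD3_c59)) :=
  Lre_g IH (LK LD1_c8 LD2_c30 LD3_c59) (LK LD1_c4 LD2_c15 LD3_c59) Lrfl Lrfl
theorem f250842 : Led Lsl_ct (LP (LK LD1_c15 LD2_c59 LD3_c14)) = (LP (LK LD1_c8 LD2_c30 LD3_c59)) :=
  Lre_c IH (LK LD1_c15 LD2_c59 LD3_c14) (LK LD1_c8 LD2_c30 LD3_c59) Lrfl Lrfl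
theorem f232214 : Led Lsl_bt (LP (LK LD1_c2 LD2_c6 LD3_c41)) = (LP (LK LD1_c4 LD2_c18 LD3_c49)) :=
  Lre_b IH (LK LD1_c2 LD2_c6 LD3_c41) (LK LD1_c4 LD2_c18 LD3_c49) Lrfl Lrfl
theorem f250843 : Led Lsl_bt (LP (LK LD1_c15 LD2_c59 LD3_c14)) = (LP (LK LD1_c8 LD2_c36 LD3_c18)) :=
  Lgr Lrot92 (Lpr_ct (f250842 IH) (Lpr_gt (f243283 IH) (Lpe (f179694 IH) (Lpr_bt (K15.f179693 IH) (Lpr_gt (K17.f250818 IH) (Lpr_ct (K19.f250807 IH) (Lpr_gt (K14.f171508 IH) (Lpe (K19.f179753 IH) (Lpr_bt (f232214 IH) (Lpr_gt (f179608 IH) (Lpn (LP (LK LD1_c8 LD2_c36 LD3_c18)))))))))))))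
theorem f262692 : Led Lsl_bt (LP (LK LD1_c8 LD2_c25 LD3_c30)) = (LP (LK LD1_c15 LD2_c49 LD3_c45)) :=
  Lre_b IH (LK LD1_c8 LD2_c25 LD3_c30) (LK LD1_c15 LD2_c49 LD3_c45) Lrfl Lrfl
theorem f916293 : Led Lsl_ff (LP (LK LD1_c15 LD2_c59 LD3_c14)) = (LP (LK LD1_c15 LD2_c49 LD3_c45)) :=
  Lgr Lrot25 (Lpr_bt (f250843 IH) (Lpqs (f916286 IH) (Lpe (f885538 IH) (Lpr_bt (f262692 IH) (Lpn (LP (LK LD1_c15 LD2_c49 LD3_c45)))))))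
def v36561 : LQ := Led Lsl_at (LP (LK LD1_c8 LD2_c30 LD3_c58))
theorem f887552 : Led Lsl_at (LP (LK LD1_c8 LD2_c30 LD3_c58)) = v36561 :=
  Lrfl
theorem f887553 : Led Lsl_af (LP (LK LD1_c8 LD2_c30 LD3_c58)) = v36561 :=
  Lgr Lrot0 (Lpr_at (f887552 IH) (Lpn v36561))
theorem f53432 : Led Lsl_gt (LP (LK LD1_c4 LD2_c15 LD3_c59)) = (LP (LK LD1_c8 LD2_c30 LD3_c58)) :=
  Lre_g IH (LK LD1_c4 LD2_c15 LD3_c59) (LK LD1_c8 LD2_c30 LD3_c58) Lrfl Lrfl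
theorem f887555 : Led Lsl_ft (LP (LK LD1_c8 LD2_c30 LD3_c59)) = v36561 :=
  Lgr Lrot2 (Lpr_gt (f243283 IH) (Lpr_gt (f53432 IH) (Lpr_af (f887553 IH) (Lpn v36561))))
theorem f178816 : Led Lsl_bt (LP (LK LD1_c15 LD2_c49 LD3_c19)) = (LP (LK LD1_c8 LD2_c25 LD3_c14)) :=
  Lre_b IH (LK LD1_c15 LD2_c49 LD3_c19) (LK LD1_c8 LD2_c25 LD3_c14) Lrfl Lrfl
theorem f213861 : Led Lsl_bt (LP (LK LD1_c8 LD2_c25 LD3_c14)) = (LP (LK LD1_c15 LD2_c49 LD3_c19)) :=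
  Lre_b IH (LK LD1_c8 LD2_c25 LD3_c14) (LK LD1_c15 LD2_c49 LD3_c19) Lrfl Lrfl
theorem f213862 : Led Lsl_cf (LP (LK LD1_c8 LD2_c29 LD3_c36)) = (LP (LK LD1_c15 LD2_c49 LD3_c19)) :=
  Lgr Lrot97 (Lpr_bt (K31.f213860 IH) (Lpr_ct (K54.f213847 IH) (Lpr_bt (K19.f213859 IH) (Lpr_ct (K14.f213852 IH) (Lpr_bt (f213861 IH) (Lpn (LP (LK LD1_c15 LD2_c49 LD3_c19))))))))
theorem f213854 : Led Lsl_gt (LP (LK LD1_c15 LD2_c56 LD3_c50)) = (LP (LK LD1_c8 LD2_c29 LD3_c36)) :=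
  Lre_g IH (LK LD1_c15 LD2_c56 LD3_c50) (LK LD1_c8 LD2_c29 LD3_c36) Lrfl Lrfl
theorem f262688 : Led Lsl_bt (LP (LK LD1_c15 LD2_c49 LD3_c45)) = (LP (LK LD1_c8 LD2_c25 LD3_c30)) :=
  Lre_b IH (LK LD1_c15 LD2_c49 LD3_c45) (LK LD1_c8 LD2_c25 LD3_c30) Lrfl Lrfl
theorem f262689 : Led Lsl_cf (LP (LK LD1_c15 LD2_c56 LD3_c50)) = (LP (LK LD1_c15 LD2_c49 LD3_c45)) :=
  Lgr Lrot160 (Lpr_gt (f213854 IH) (Lpr_cf (f213862 IH) (Lpr_bt (f178816 IH) (Lpr_gt (K15.f262681 IH) (Lpr_ct (K15.f220088 IH) (Lpr_gt (K14.f178351 IH) (Lpe (K19.f178312 IH) (Lpr_bt (K50.f222463 IH) (Lpr_gt (f178838 IH) (Lpe (f262688 IH) (Lpn (LP (LK LD1_c15 LD2_c49 LD3_c45)))))))))))))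
theorem f262693 : Led Lsl_ct (LP (LK LD1_c15 LD2_c56 LD3_c50)) = (LP (LK LD1_c15 LD2_c49 LD3_c45)) :=
  Lgr Lrot59 (Lpr_cf (f262689 IH) (Lpn (LP (LK LD1_c15 LD2_c49 LD3_c45))))
theorem f916303 : v36561 = (LP (LK LD1_c15 LD2_c56 LD3_c50)) :=
  (Llr Lrot4 (Lpe (f887555 IH) (Lpe (f250842 IH) (Lpr_ff (f916293 IH) (Lpe (f262693 IH) (Lpn (LP (LK LD1_c15 LD2_c56 LD3_c50)))))))).symm
theorem f887557 : Led Lsl_ff (LP (LK LD1_c8 LD2_c30 LD3_c59)) = v36561 :=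
  Lgr Lrot3 (Lpr_ft (f887555 IH) (Lpn v36561))
def v36562 : LQ := Led Lsl_ft (LP (LK LD1_c8 LD2_c30 LD3_c58))
theorem f887559 : Led Lsl_ft (LP (LK LD1_c8 LD2_c30 LD3_c58)) = v36562 :=
  Lrfl
theorem f887561 : Led Lsl_ff (LP (LK LD1_c8 LD2_c30 LD3_c58)) = v36562 :=
  Lgr Lrot3 (Lpr_ft (f887559 IH) (Lpn v36562))
theorem f887562 : Led Lsl_at (LP (LK LD1_c8 LD2_c30 LD3_c59)) = v36562 :=
  Lgr Lrot66 (Lpr_ff (f887557 IH) (Lpe (f887552 IH) (Lpr_ff (f887561 IH) (Lpn v36562))))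
theorem f916308 : v36562 = (LP (LK LD1_c15 LD2_c56 LD3_c49)) :=
  (Llr Lrot26 (Lpe (f887562 IH) (Lpr_ff (f887557 IH) (Lpqs (f916303 IH) (Lpr_gt (f213854 IH) (Lpr_gt (K54.f51420 IH) (Lpn (LP (LK LD1_c15 LD2_c56 LD3_c49))))))))).symm
theorem f373878 : Led Lsl_dt (LP (LK LD1_c15 LD2_c59 LD3_c12)) = (LP (LK LD1_c8 LD2_c30 LD3_c58)) :=
  Lre_d IH (LK LD1_c15 LD2_c59 LD3_c12) (LK LD1_c8 LD2_c30 LD3_c58) Lrfl Lrfl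
theorem f271630 : Led Lsl_bt (LP (LK LD1_c4 LD2_c16 LD3_c15)) = (LP (LK LD1_c8 LD2_c31 LD3_c39)) :=
  Lre_b IH (LK LD1_c4 LD2_c16 LD3_c15) (LK LD1_c8 LD2_c31 LD3_c39) Lrfl Lrfl
theorem f271649 : Led Lsl_gt (LP (LK LD1_c8 LD2_c31 LD3_c39)) = (LP (LK LD1_c16 LD2_c0 LD3_c20)) :=
  Lre_g IH (LK LD1_c8 LD2_c31 LD3_c39) (LK LD1_c16 LD2_c0 LD3_c20) Lrfl Lrfl
theorem f727767 : Led Lsl_ct (LP (LK LD1_c16 LD2_c48 LD3_c14)) = (LP (LK LD1_c19 LD2_c43 LD3_c22)) :=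
  Lgr Lrot7 (Lpr_df (K67.f383232 IH) (Lpr_gf (K67.f422547 IH) (Lpe (K67.f179172 IH) (Lpr_gf (K67.f404901 IH) (Lpe (K54.f172883 IH) (Lpe (K50.f399549 IH) (Lpr_dt (K31.f392444 IH) (Lpr_gt (K67.f727759 IH) (Lpr_dt (K67.f392305 IH) (Lpn (LP (LK LD1_c19 LD2_c43 LD3_c22))))))))))))
theorem f727781 : Led Lsl_dt (LP (LK LD1_c16 LD2_c0 LD3_c20)) = (LP (LK LD1_c15 LD2_c56 LD3_c49)) :=
  Lgr Lrot182 (Lpe (f271649 IH) (Lpe (f271630 IH) (Lpe (K16.f271625 IH) (Lpe (K16.f220880 IH) (Lpe (K12.f220872 IH) (Lpe (K20.f218372 IH) (Lpe (K10.f52708 IH) (Lpe (K10.f52707 IH) (Lpe (K12.f52869 IH) (Lpe (K30.f52872 IH) (Lpr_cf (K30.f218362 IH) (Lpe (K22.f218370 IH) (Lpr_gf (K67.f332418 IH) (Lpr_bf (K67.f727777 IH) (Lpe (f727767 IH) (Lpr_df (K67.f383232 IH) (Lpr_gf (K67.f422547 IH) (Lpe (K54.f399595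 IH) (Lpr_cf (K54.f399601 IH) (Lpn (LP (LK LD1_c15 LD2_c56 LD3_c49))))))))))))))))))))))
theorem f727785 : Led Lsl_df (LP (LK LD1_c16 LD2_c0 LD3_c20)) = (LP (LK LD1_c15 LD2_c56 LD3_c49)) :=
  Lgr Lrot38 (Lpr_dt (f727781 IH) (Lpn (LP (LK LD1_c15 LD2_c56 LD3_c49))))
theorem f916317 : Led Lsl_ff (LP (LK LD1_c15 LD2_c59 LD3_c12)) = (LP (LK LD1_c16 LD2_c0 LD3_c20)) :=
  Lgr Lrot19 (Lpr_dt (f373878 IH) (Lpr_ft (f887559 IH) (Lpqs (f916308 IH) (Lpe (f727785 IH) (Lpn (LP (LK LD1_c16 LD2_c0 LD3_c20)))))))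
theorem f916322 : Led Lsl_ft (LP (LK LD1_c15 LD2_c59 LD3_c12)) = (LP (LK LD1_c16 LD2_c0 LD3_c20)) :=
  Lgr Lrot48 (Lpr_ff (f916317 IH) (Lpn (LP (LK LD1_c16 LD2_c0 LD3_c20))))
theorem f916328 : Led Lsl_bt (LP (LK LD1_c25 LD2_c56 LD3_c26)) = (LP (LK LD1_c15 LD2_c59 LD3_c12)) :=
  Lre_b IH (LK LD1_c25 LD2_c56 LD3_c26) (LK LD1_c15 LD2_c59 LD3_c12) Lrfl Lrfl
theorem f271676 : Led Lsl_bt (LP (LK LD1_c16 LD2_c0 LD3_c20)) = (LP (LK LD1_c25 LD2_c57 LD3_c36)) :=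
  Lre_b IH (LK LD1_c16 LD2_c0 LD3_c20) (LK LD1_c25 LD2_c57 LD3_c36) Lrfl Lrfl
theorem f916351 : Led Lsl_ff (LP (LK LD1_c25 LD2_c56 LD3_c26)) = (LP (LK LD1_c25 LD2_c57 LD3_c36)) :=
  Lgr Lrot25 (Lpr_bt (f916328 IH) (Lpr_ft (f916322 IH) (Lpr_bt (f271676 IH) (Lpn (LP (LK LD1_c25 LD2_c57 LD3_c36))))))
theorem f244723 : Led Lsl_dt (LP (LK LD1_c25 LD2_c56 LD3_c26)) = (LP (LK LD1_c15 LD2_c59 LD3_c10)) :=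
  Lre_d IH (LK LD1_c25 LD2_c56 LD3_c26) (LK LD1_c15 LD2_c59 LD3_c10) Lrfl Lrfl
theorem f271667 : Led Lsl_bt (LP (LK LD1_c25 LD2_c57 LD3_c36)) = (LP (LK LD1_c16 LD2_c0 LD3_c20)) :=
  Lre_b IH (LK LD1_c25 LD2_c57 LD3_c36) (LK LD1_c16 LD2_c0 LD3_c20) Lrfl Lrfl
theorem f349019 : Led Lsl_bt (LP (LK LD1_c15 LD2_c56 LD3_c49)) = (LP (LK LD1_c25 LD2_c53 LD3_c22)) :=
  Lre_b IH (LK LD1_c15 LD2_c56 LD3_c49) (LK LD1_c25 LD2_c53 LD3_c22) Lrfl Lrfl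
theorem f727783 : Led Lsl_df (LP (LK LD1_c25 LD2_c57 LD3_c36)) = (LP (LK LD1_c25 LD2_c53 LD3_c22)) :=
  Lgr Lrot12 (Lpr_bt (f271667 IH) (Lpr_dt (f727781 IH) (Lpr_bt (f349019 IH) (Lpn (LP (LK LD1_c25 LD2_c53 LD3_c22))))))
theorem f916353 : Led Lsl_ft (LP (LK LD1_c15 LD2_c59 LD3_c10)) = (LP (LK LD1_c25 LD2_c53 LD3_c22)) :=
  Lgr Lrot54 (Lpe (f244723 IH) (Lpr_ff (f916351 IH) (Lpr_df (f727783 IH) (Lpn (LP (LK LD1_c25 LD2_c53 LD3_c22))))))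
theorem f53431 : Led Lsl_bt (LP (LK LD1_c2 LD2_c5 LD3_c22)) = (LP (LK LD1_c4 LD2_c15 LD3_c59)) :=
  Lre_b IH (LK LD1_c2 LD2_c5 LD3_c22) (LK LD1_c4 LD2_c15 LD3_c59) Lrfl Lrfl
theorem f243382 : Led Lsl_bt (LP (LK LD1_c15 LD2_c59 LD3_c10)) = (LP (LK LD1_c8 LD2_c30 LD3_c58)) :=
  Lre_b IH (LK LD1_c15 LD2_c59 LD3_c10) (LK LD1_c8 LD2_c30 LD3_c58) Lrfl Lrfl
theorem f188687 : Led Lsl_gt (LP (LK LD1_c24 LD2_c49 LD3_c10)) = (LP (LK LD1_c15 LD2_c1 LD3_c17)) :=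
  Lre_g IH (LK LD1_c24 LD2_c49 LD3_c10) (LK LD1_c15 LD2_c1 LD3_c17) Lrfl Lrfl
theorem f244714 : Led Lsl_ct (LP (LK LD1_c15 LD2_c59 LD3_c10)) = (LP (LK LD1_c24 LD2_c49 LD3_c10)) :=
  Lgr Lrot64 (Lpr_bt (f243382 IH) (Lpe (f53432 IH) (Lpe (f53431 IH) (Lpr_ct (K16.f243276 IH) (Lpe (K15.f243355 IH) (Lpe (K15.f243354 IH) (Lpr_gf (K16.f244696 IH) (Lpe (K49.f188638 IH) (Lpe (K54.f188676 IH) (Lpe (f188687 IH) (Lpn (LP (LK LD1_c24 LD2_c49 LD3_c10)))))))))))))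
theorem f244721 : Led Lsl_cf (LP (LK LD1_c15 LD2_c59 LD3_c10)) = (LP (LK LD1_c24 LD2_c49 LD3_c10)) :=
  Lgr Lrot11 (Lpr_ct (f244714 IH) (Lpn (LP (LK LD1_c24 LD2_c49 LD3_c10))))
theorem f916355 : Led Lsl_ff (LP (LK LD1_c24 LD2_c49 LD3_c10)) = (LP (LK LD1_c26 LD2_c1 LD3_c22)) :=
  Lgr Lrot23 (Lpe (f244721 IH) (Lpr_ft (f916353 IH) (Lpr_ct (K54.f349017 IH) (Lpn (LP (LK LD1_c26 LD2_c1 LD3_c22))))))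
theorem f916361 : Led Lsl_ft (LP (LK LD1_c24 LD2_c49 LD3_c10)) = (LP (LK LD1_c26 LD2_c1 LD3_c22)) :=
  Lgr Lrot48 (Lpr_ff (f916355 IH) (Lpn (LP (LK LD1_c26 LD2_c1 LD3_c22))))
theorem f234621 : Led Lsl_bt (LP (LK LD1_c8 LD2_c34 LD3_c9)) = (LP (LK LD1_c16 LD2_c5 LD3_c0)) :=
  Lre_b IH (LK LD1_c8 LD2_c34 LD3_c9) (LK LD1_c16 LD2_c5 LD3_c0) Lrfl Lrfl
theorem f409866 : Led Lsl_gt (LP (LK LD1_c15 LD2_c1 LD3_c17)) = (LP (LK LD1_c16 LD2_c5 LD3_c0)) :=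
  Lgr Lrot164 (Lpe (K54.f188636 IH) (Lpr_ct (K22.f42756 IH) (Lpr_gf (K18.f278426 IH) (Lpe (K16.f234614 IH) (Lpe (K14.f167659 IH) (Lpe (K27.f170216 IH) (Lpr_ct (K27.f170183 IH) (Lpe (K50.f170218 IH) (Lpe (K68.f170227 IH) (Lpr_bt (f234621 IH) (Lpn (LP (LK LD1_c16 LD2_c5 LD3_c0)))))))))))))
theorem f916365 : Led Lsl_af (LP (LK LD1_c16 LD2_c5 LD3_c0)) = (LP (LK LD1_c26 LD2_c1 LD3_c22)) :=
  Lgr Lrot31 (Lpe (f409866 IH) (Lpe (f188687 IH) (Lpr_ft (f916361 IH) (Lpn (LP (LK LD1_c26 LD2_c1 LD3_c22))))))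
theorem f409870 : Led Lsl_ct (LP (LK LD1_c16 LD2_c5 LD3_c0)) = (LP (LK LD1_c26 LD2_c2 LD3_c8)) :=
  Lre_c IH (LK LD1_c16 LD2_c5 LD3_c0) (LK LD1_c26 LD2_c2 LD3_c8) Lrfl Lrfl
theorem f916367 : Led Lsl_at (LP (LK LD1_c26 LD2_c2 LD3_c8)) = (LP (LK LD1_c25 LD2_c53 LD3_c22)) :=
  Lgr Lrot107 (Lpe (f409870 IH) (Lpr_af (f916365 IH) (Lpe (K54.f349017 IH) (Lpn (LP (LK LD1_c25 LD2_c53 LD3_c22))))))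
theorem f404637 : Led Lsl_bt (LP (LK LD1_c16 LD2_c4 LD3_c61)) = (LP (LK LD1_c26 LD2_c2 LD3_c8)) :=
  Lre_b IH (LK LD1_c16 LD2_c4 LD3_c61) (LK LD1_c26 LD2_c2 LD3_c8) Lrfl Lrfl
theorem f887560 : Led Lsl_af (LP (LK LD1_c8 LD2_c30 LD3_c59)) = v36562 :=
  Lgr Lrot45 (Lpr_ft (f887555 IH) (Lpe (f887553 IH) (Lpr_ft (f887559 IH) (Lpn v36562))))
def v36563 : LQ := Led Lsl_bt (LP (LK LD1_c8 LD2_c30 LD3_c59))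
theorem f887563 : Led Lsl_bt (LP (LK LD1_c8 LD2_c30 LD3_c59)) = v36563 :=
  Lrfl
theorem f916372 : Led Lsl_af (LP (LK LD1_c16 LD2_c4 LD3_c61)) = v36563 :=
  Lgr Lrot36 (Lpr_bt (f404637 IH) (Lpr_at (f916367 IH) (Lpr_bt (K54.f349016 IH) (Lpq (f916308 IH) (Lpe (f887560 IH) (Lpr_bt (f887563 IH) (Lpn v36563)))))))
theorem f170229 : Led Lsl_ct (LP (LK LD1_c16 LD2_c4 LD3_c61)) = (LP (LK LD1_c8 LD2_c34 LD3_c8)) :=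
  Lre_c IH (LK LD1_c16 LD2_c4 LD3_c61) (LK LD1_c8 LD2_c34 LD3_c8) Lrfl Lrfl
def v36711 : LQ := Led Lsl_at (LP (LK LD1_c8 LD2_c34 LD3_c8))
theorem f889772 : Led Lsl_at (LP (LK LD1_c8 LD2_c34 LD3_c8)) = v36711 :=
  Lrfl
theorem f916374 : Led Lsl_ct v36711 = v36563 :=
  Lgr Lrot111 (Lpe (f889772 IH) (Lpe (f170229 IH) (Lpr_af (f916372 IH) (Lpn v36563))))
theorem f170228 : Led Lsl_bt (LP (LK LD1_c8 LD2_c34 LD3_c8)) = (LP (LK LD1_c4 LD2_c17 LD3_c31)) :=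
  Lre_b IH (LK LD1_c8 LD2_c34 LD3_c8) (LK LD1_c4 LD2_c17 LD3_c31) Lrfl Lrfl
theorem f404623 : Led Lsl_df (LP (LK LD1_c8 LD2_c34 LD3_c8)) = (LP (LK LD1_c8 LD2_c21 LD3_c42)) :=
  Lgr Lrot12 (Lpr_bt (f170228 IH) (Lpr_dt (K50.f404620 IH) (Lpr_bt (f404622 IH) (Lpn (LP (LK LD1_c8 LD2_c21 LD3_c42))))))
def v36184 : LQ := Led Lsl_at (LP (LK LD1_c8 LD2_c21 LD3_c42))
theorem f882633 : Led Lsl_at (LP (LK LD1_c8 LD2_c21 LD3_c42)) = v36184 :=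
  Lrfl
theorem f882634 : Led Lsl_af (LP (LK LD1_c8 LD2_c21 LD3_c42)) = v36184 :=
  Lgr Lrot0 (Lpr_at (f882633 IH) (Lpn v36184))
theorem f889774 : Led Lsl_df v36184 = v36711 :=
  Lgr Lrot18 (Lpe (f882634 IH) (Lpe (f404623 IH) (Lpr_at (f889772 IH) (Lpn v36711))))
theorem f889775 : Led Lsl_dt v36184 = v36711 :=
  Lgr Lrot42 (Lpr_df (f889774 IH) (Lpn v36711))
theorem f916039 : Led Lsl_at v36677 = v40411 :=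
  Lgr Lrot66 (Lpe (f889570 IH) (Lpr_af (f889563 IH) (Lpr_ff (f916016 IH) (Lpn v40411))))
theorem f889573 : Led Lsl_bt K68.v12537 = v36677 :=
  Lgr Lrot35 (Lpe (K68.f693440 IH) (Lpe (f170327 IH) (Lpr_ff (f889572 IH) (Lpn v36677))))
theorem f916067 : v36677 = (LP (LK LD1_c8 LD2_c21 LD3_c42)) :=
  Lefun (Lecon (f889573 IH) (f916059 IH).symm) (f404622 IH)
theorem f916088 : v40411 = v36184 :=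
  Lefun (Lecon (f916039 IH) (f916067 IH)) (f882633 IH)
theorem f374464 : Led Lsl_gt (LP (LK LD1_c15 LD2_c47 LD3_c5)) = (LP (LK LD1_c25 LD2_c43 LD3_c47)) :=
  Lre_g IH (LK LD1_c15 LD2_c47 LD3_c5) (LK LD1_c25 LD2_c43 LD3_c47) Lrfl Lrfl
theorem f398044 : Led Lsl_cf (LP (LK LD1_c17 LD2_c40 LD3_c43)) = (LP (LK LD1_c25 LD2_c43 LD3_c40)) :=
  Lgr Lrot1 (Lpr_at (K52.f398042 IH) (Lpr_ct (K49.f398034 IH) (Lpr_at (K68.f398043 IH) (Lpn (LP (LK LD1_c25 LD2_c43 LD3_c40))))))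
theorem f717221 : Led Lsl_gf (LP (LK LD1_c25 LD2_c43 LD3_c40)) = (LP (LK LD1_c15 LD2_c59 LD3_c40)) :=
  Lgr Lrot144 (Lpr_dt (K68.f717215 IH) (Lpe (K52.f372644 IH) (Lpr_dt (K38.f400797 IH) (Lpe (K38.f299311 IH) (Lpe (K38.f400566 IH) (Lpe (K49.f620449 IH) (Lpe (K38.f170140 IH) (Lpe (K30.f170554 IH) (Lpe (K30.f372986 IH) (Lpn (LP (LK LD1_c15 LD2_c59 LD3_c40))))))))))))
theorem f397897 : Led Lsl_gt (LP (LK LD1_c25 LD2_c43 LD3_c47)) = (LP (LK LD1_c16 LD2_c1 LD3_c41)) :=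
  Lgr Lrot46 (Lpe (f374464 IH) (Lpr_ft (K30.f397891 IH) (Lpr_at (K30.f397871 IH) (Lpn (LP (LK LD1_c16 LD2_c1 LD3_c41))))))
theorem f717231 : Led Lsl_bf (LP (LK LD1_c25 LD2_c43 LD3_c47)) = (LP (LK LD1_c15 LD2_c57 LD3_c30)) :=
  Lgr Lrot156 (Lpr_gt (f397897 IH) (Lpe (K30.f397878 IH) (Lpe (K31.f397613 IH) (Lpr_gt (K30.f397791 IH) (Lpe (K38.f260557 IH) (Lpr_bt (K30.f397029 IH) (Lpe (f717221 IH) (Lpe (f398044 IH) (Lpr_gt (K68.f717227 IH) (Lpe (K49.f233700 IH) (Lpn (LP (LK LD1_c15 LD2_c57 LD3_c30)))))))))))))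
theorem f51755 : Led Lsl_ct (LP (LK LD1_c8 LD2_c35 LD3_c36)) = (LP (LK LD1_c8 LD2_c35 LD3_c12)) :=
  Lre_c IH (LK LD1_c8 LD2_c35 LD3_c36) (LK LD1_c8 LD2_c35 LD3_c12) Lrfl Lrfl
theorem f884964 : Led Lsl_gt (LP (LK LD1_c8 LD2_c35 LD3_c12)) = v36330 :=
  Lgr Lrot149 (Lpe (f51755 IH) (Lpe (K50.f51754 IH) (Lpe (K50.f398153 IH) (Lpr_ct (K50.f170124 IH) (Lpe (K50.f398150 IH) (Lpe (K49.f233700 IH) (Lpe (f717231 IH) (Lpe (f374464 IH) (Lpe (K30.f374460 IH) (Lpr_ct (f884959 IH) (Lpn v36330)))))))))))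
theorem f52063 : Led Lsl_dt (LP (LK LD1_c4 LD2_c18 LD3_c28)) = (LP (LK LD1_c8 LD2_c35 LD3_c46)) :=
  Lre_d IH (LK LD1_c4 LD2_c18 LD3_c28) (LK LD1_c8 LD2_c35 LD3_c46) Lrfl Lrfl
theorem f916377 : v36298 = v36563 :=
  (Llr Lrot113 (Lpr_df (f890371 IH) (Lpe (f890368 IH) (Lpe (f52063 IH) (Lpr_gf (K52.f398169 IH) (Lpr_ct (f51755 IH) (Lpr_gt (f884964 IH) (Lpr_dt (f889559 IH) (Lpr_gt (f916015 IH) (Lpqs (f916088 IH) (Lpr_dt (f889775 IH) (Lpr_ct (f916374 IH) (Lpn v36563))))))))))))).symm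
theorem f243286 : Led Lsl_bt (LP (LK LD1_c8 LD2_c30 LD3_c17)) = (LP (LK LD1_c4 LD2_c15 LD3_c39)) :=
  Lre_b IH (LK LD1_c8 LD2_c30 LD3_c17) (LK LD1_c4 LD2_c15 LD3_c39) Lrfl Lrfl
theorem f409871 : Led Lsl_ct (LP (LK LD1_c26 LD2_c2 LD3_c8)) = (LP (LK LD1_c16 LD2_c5 LD3_c0)) :=
  Lre_c IH (LK LD1_c26 LD2_c2 LD3_c8) (LK LD1_c16 LD2_c5 LD3_c0) Lrfl Lrfl
theorem f409872 : Led Lsl_bt (LP (LK LD1_c26 LD2_c2 LD3_c8)) = (LP (LK LD1_c16 LD2_c4 LD3_c61)) :=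
  Lre_b IH (LK LD1_c26 LD2_c2 LD3_c8) (LK LD1_c16 LD2_c4 LD3_c61) Lrfl Lrfl
theorem f884350 : Led Lsl_gf (LP (LK LD1_c15 LD2_c46 LD3_c28)) = (LP (LK LD1_c16 LD2_c4 LD3_c61)) :=
  Lgr Lrot181 (Lpr_ct (K67.f692293 IH) (Lpq (f883045 IH) (Lpe (K50.f693406 IH) (Lpe (K38.f243267 IH) (Lpr_bt (f243286 IH) (Lpr_gt (K13.f243277 IH) (Lpe (K49.f188638 IH) (Lpe (K54.f188676 IH) (Lpr_gt (f409866 IH) (Lpe (f409871 IH) (Lpr_bt (f409872 IH) (Lpn (LP (LK LD1_c16 LD2_c4 LD3_c61))))))))))))))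
theorem f883055 : Led Lsl_at (LP (LK LD1_c8 LD2_c23 LD3_c22)) = (LP (LK LD1_c15 LD2_c46 LD3_c28)) :=
  Lre_a IH (LK LD1_c8 LD2_c23 LD3_c22) (LK LD1_c15 LD2_c46 LD3_c28) Lrfl Lrfl
theorem f883056 : Led Lsl_ft (LP (LK LD1_c15 LD2_c46 LD3_c50)) = (LP (LK LD1_c8 LD2_c23 LD3_c22)) :=
  Lre_f IH (LK LD1_c15 LD2_c46 LD3_c50) (LK LD1_c8 LD2_c23 LD3_c22) Lrfl Lrfl
theorem f884352 : Led Lsl_gt (LP (LK LD1_c15 LD2_c46 LD3_c50)) = (LP (LK LD1_c16 LD2_c4 LD3_c61)) :=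
  Lgr Lrot5 (Lpr_ft (f883056 IH) (Lpr_at (f883055 IH) (Lpr_gf (f884350 IH) (Lpn (LP (LK LD1_c16 LD2_c4 LD3_c61))))))
theorem f692279 : Led Lsl_ct (LP (LK LD1_c15 LD2_c46 LD3_c50)) = (LP (LK LD1_c8 LD2_c23 LD3_c24)) :=
  Lre_c IH (LK LD1_c15 LD2_c46 LD3_c50) (LK LD1_c8 LD2_c23 LD3_c24) Lrfl Lrfl
def v12535 : LQ := Led Lsl_gt (LP (LK LD1_c4 LD2_c17 LD3_c5))
theorem f693404 : Led Lsl_gt (LP (LK LD1_c4 LD2_c17 LD3_c5)) = v12535 :=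
  Lrfl
theorem f693405 : Led Lsl_gf (LP (LK LD1_c5 LD2_c30 LD3_c59)) = v12535 :=
  Lgr Lrot76 (Lpe (f260732 IH) (Lpr_ff (K38.f295658 IH) (Lpr_gt (f693404 IH) (Lpn v12535))))
theorem f717538 : Led Lsl_df v12535 = K67.v4105 :=
  Lgr Lrot155 (Lpe (f693405 IH) (Lpr_ct (K50.f295656 IH) (Lpr_gt (K50.f400749 IH) (Lpr_ct (K54.f717534 IH) (Lpe (K52.f717527 IH) (Lpr_cf (K50.f620964 IH) (Lpe (K50.f620986 IH) (Lpe (K67.f1141 IH) (Lpr_gf (K67.f629451 IH) (Lpn K67.v4105))))))))))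
theorem f692276 : Led Lsl_dt (LP (LK LD1_c4 LD2_c11 LD3_c52)) = (LP (LK LD1_c8 LD2_c23 LD3_c24)) :=
  Lre_d IH (LK LD1_c4 LD2_c11 LD3_c52) (LK LD1_c8 LD2_c23 LD3_c24) Lrfl Lrfl
theorem f883030 : v12535 = (LP (LK LD1_c8 LD2_c23 LD3_c24)) :=
  Lefun (Lecon (Lfl_df (f717538 IH)) (K67.f883021 IH)) (f692276 IH)
theorem f295673 : Led Lsl_dt (LP (LK LD1_c5 LD2_c30 LD3_c59)) = (LP (LK LD1_c8 LD2_c33 LD3_c26)) :=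
  Lgr Lrot42 (Lpr_df (K38.f295667 IH) (Lpn (LP (LK LD1_c8 LD2_c33 LD3_c26))))
theorem f884354 : Led Lsl_df (LP (LK LD1_c25 LD2_c43 LD3_c41)) = (LP (LK LD1_c16 LD2_c4 LD3_c61)) :=
  Lgr Lrot153 (Lpe (K52.f717438 IH) (Lpr_dt (K52.f52108 IH) (Lpe (K52.f52107 IH) (Lpe (K49.f398281 IH) (Lpe (K49.f260724 IH) (Lpe (f295673 IH) (Lpr_gf (f693405 IH) (Lpqs (f883030 IH) (Lpe (f692279 IH) (Lpr_gt (f884352 IH) (Lpn (LP (LK LD1_c16 LD2_c4 LD3_c61)))))))))))))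
theorem f916378 : Led Lsl_af v36820 = (LP (LK LD1_c25 LD2_c43 LD3_c41)) :=
  Lgr Lrot117 (Lpe (f890371 IH) (Lpqs (f916377 IH) (Lpe (f916372 IH) (Lpe (f884354 IH) (Lpn (LP (LK LD1_c25 LD2_c43 LD3_c41)))))))
def v36821 : LQ := Led Lsl_gf (LP (LK LD1_c8 LD2_c35 LD3_c46))
theorem f890372 : Led Lsl_gf (LP (LK LD1_c8 LD2_c35 LD3_c46)) = v36821 :=
  Lrfl
theorem f916383 : Led Lsl_ft v36821 = (LP (LK LD1_c25 LD2_c43 LD3_c41)) :=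
  Lgr Lrot2 (Lpe (f890372 IH) (Lpr_gt (f890368 IH) (Lpr_af (f916378 IH) (Lpn (LP (LK LD1_c25 LD2_c43 LD3_c41))))))
theorem f916385 : Led Lsl_ff v36821 = (LP (LK LD1_c25 LD2_c43 LD3_c41)) :=
  Lgr Lrot3 (Lpr_ft (f916383 IH) (Lpn (LP (LK LD1_c25 LD2_c43 LD3_c41))))
theorem f53351 : Led Lsl_gt (LP (LK LD1_c25 LD2_c43 LD3_c42)) = (LP (LK LD1_c15 LD2_c47 LD3_c2)) :=
  Lre_g IH (LK LD1_c25 LD2_c43 LD3_c42) (LK LD1_c15 LD2_c47 LD3_c2) Lrfl Lrfl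
theorem f717382 : Led Lsl_gf (LP (LK LD1_c25 LD2_c43 LD3_c42)) = (LP (LK LD1_c15 LD2_c47 LD3_c4)) :=
  Lgr Lrot47 (Lpr_gt (f53351 IH) (Lpr_af (K52.f717380 IH) (Lpr_ff (K52.f717159 IH) (Lpn (LP (LK LD1_c15 LD2_c47 LD3_c4))))))
theorem f916387 : Led Lsl_at v36821 = (LP (LK LD1_c25 LD2_c43 LD3_c42)) :=
  Lgr Lrot26 (Lpr_ff (f916385 IH) (Lpe (K52.f717438 IH) (Lpe (f717382 IH) (Lpn (LP (LK LD1_c25 LD2_c43 LD3_c42))))))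
theorem f916382 : Led Lsl_at v36820 = (LP (LK LD1_c25 LD2_c43 LD3_c41)) :=
  Lgr Lrot100 (Lpr_af (f916378 IH) (Lpn (LP (LK LD1_c25 LD2_c43 LD3_c41))))
theorem f916389 : Led Lsl_ff v36820 = (LP (LK LD1_c25 LD2_c43 LD3_c42)) :=
  Lgr Lrot30 (Lpr_at (f916382 IH) (Lpe (f916385 IH) (Lpr_at (f916387 IH) (Lpn (LP (LK LD1_c25 LD2_c43 LD3_c42))))))
theorem f887564 : Led Lsl_bf (LP (LK LD1_c8 LD2_c30 LD3_c59)) = v36563 :=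
  Lgr Lrot24 (Lpr_bt (f887563 IH) (Lpn v36563))
theorem f373906 : Led Lsl_dt (LP (LK LD1_c8 LD2_c30 LD3_c59)) = (LP (LK LD1_c15 LD2_c59 LD3_c15)) :=
  Lre_d IH (LK LD1_c8 LD2_c30 LD3_c59) (LK LD1_c15 LD2_c59 LD3_c15) Lrfl Lrfl
theorem f916379 : Led Lsl_bf v36820 = (LP (LK LD1_c15 LD2_c59 LD3_c15)) :=
  Lgr Lrot93 (Lpe (f890371 IH) (Lpqs (f916377 IH) (Lpe (f887564 IH) (Lpr_dt (f373906 IH) (Lpn (LP (LK LD1_c15 LD2_c59 LD3_c15)))))))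
theorem f916380 : Led Lsl_bt v36820 = (LP (LK LD1_c15 LD2_c59 LD3_c15)) :=
  Lgr Lrot127 (Lpr_bf (f916379 IH) (Lpn (LP (LK LD1_c15 LD2_c59 LD3_c15))))
theorem f243595 : Led Lsl_dt (LP (LK LD1_c4 LD2_c16 LD3_c14)) = (LP (LK LD1_c8 LD2_c31 LD3_c39)) :=
  Lre_d IH (LK LD1_c4 LD2_c16 LD3_c14) (LK LD1_c8 LD2_c31 LD3_c39) Lrfl Lrfl
theorem f222050 : Led Lsl_dt (LP (LK LD1_c15 LD2_c57 LD3_c12)) = (LP (LK LD1_c8 LD2_c29 LD3_c48)) :=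
  Lre_d IH (LK LD1_c15 LD2_c57 LD3_c12) (LK LD1_c8 LD2_c29 LD3_c48) Lrfl Lrfl
theorem f397477 : Led Lsl_ft (LP (LK LD1_c8 LD2_c31 LD3_c39)) = (LP (LK LD1_c15 LD2_c57 LD3_c12)) :=
  Lgr Lrot54 (Lpe (f243595 IH) (Lpr_ff (K52.f397469 IH) (Lpe (f222050 IH) (Lpn (LP (LK LD1_c15 LD2_c57 LD3_c12))))))
theorem f326257 : Led Lsl_at (LP (LK LD1_c15 LD2_c57 LD3_c12)) = (LP (LK LD1_c25 LD2_c53 LD3_c38)) :=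
  Lre_a IH (LK LD1_c15 LD2_c57 LD3_c12) (LK LD1_c25 LD2_c53 LD3_c38) Lrfl Lrfl
theorem f397518 : Led Lsl_gt (LP (LK LD1_c16 LD2_c0 LD3_c20)) = (LP (LK LD1_c25 LD2_c53 LD3_c38)) :=
  Lgr Lrot46 (Lpe (f271649 IH) (Lpr_ft (f397477 IH) (Lpr_at (f326257 IH) (Lpn (LP (LK LD1_c25 LD2_c53 LD3_c38))))))
theorem f397483 : Led Lsl_dt (LP (LK LD1_c8 LD2_c31 LD3_c38)) = (LP (LK LD1_c16 LD2_c0 LD3_c19)) :=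
  Lre_d IH (LK LD1_c8 LD2_c31 LD3_c38) (LK LD1_c16 LD2_c0 LD3_c19) Lrfl Lrfl
theorem f397496 : Led Lsl_bt (LP (LK LD1_c16 LD2_c0 LD3_c19)) = (LP (LK LD1_c25 LD2_c53 LD3_c41)) :=
  Lgr Lrot95 (Lpe (f397483 IH) (Lpr_bf (K52.f397489 IH) (Lpe (K38.f229851 IH) (Lpn (LP (LK LD1_c25 LD2_c53 LD3_c41))))))
theorem f270453 : Led Lsl_at (LP (LK LD1_c15 LD2_c59 LD3_c45)) = (LP (LK LD1_c8 LD2_c31 LD3_c15)) :=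
  Lre_a IH (LK LD1_c15 LD2_c59 LD3_c45) (LK LD1_c8 LD2_c31 LD3_c15) Lrfl Lrfl
theorem f270454 : Led Lsl_ft (LP (LK LD1_c25 LD2_c53 LD3_c41)) = (LP (LK LD1_c15 LD2_c59 LD3_c45)) :=
  Lgr Lrot101 (Lpe (K38.f270452 IH) (Lpr_ff (K16.f270450 IH) (Lpe (f270453 IH) (Lpn (LP (LK LD1_c15 LD2_c59 LD3_c45))))))
theorem f326169 : Led Lsl_ct (LP (LK LD1_c17 LD2_c43 LD3_c44)) = (LP (LK LD1_c9 LD2_c38 LD3_c1)) :=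
  Lre_c IH (LK LD1_c17 LD2_c43 LD3_c44) (LK LD1_c9 LD2_c38 LD3_c1) Lrfl Lrfl
theorem f326253 : Led Lsl_bt (LP (LK LD1_c8 LD2_c31 LD3_c14)) = (LP (LK LD1_c15 LD2_c57 LD3_c11)) :=
  Lgr Lrot128 (Lpr_cf (K16.f260518 IH) (Lpr_bf (K49.f326221 IH) (Lpe (f326169 IH) (Lpe (K30.f326200 IH) (Lpe (K52.f222057 IH) (Lpn (LP (LK LD1_c15 LD2_c57 LD3_c11))))))))
theorem f222059 : Led Lsl_dt (LP (LK LD1_c15 LD2_c57 LD3_c11)) = (LP (LK LD1_c25 LD2_c53 LD3_c38)) :=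
  Lre_d IH (LK LD1_c15 LD2_c57 LD3_c11) (LK LD1_c25 LD2_c53 LD3_c38) Lrfl Lrfl
theorem f326255 : Led Lsl_bf (LP (LK LD1_c15 LD2_c59 LD3_c45)) = (LP (LK LD1_c25 LD2_c53 LD3_c38)) :=
  Lgr Lrot93 (Lpr_dt (K16.f260535 IH) (Lpr_bt (f326253 IH) (Lpr_dt (f222059 IH) (Lpn (LP (LK LD1_c25 LD2_c53 LD3_c38))))))
theorem f326258 : Led Lsl_bt (LP (LK LD1_c15 LD2_c59 LD3_c45)) = (LP (LK LD1_c25 LD2_c53 LD3_c38)) :=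
  Lgr Lrot127 (Lpr_bf (f326255 IH) (Lpn (LP (LK LD1_c25 LD2_c53 LD3_c38))))
theorem f397502 : Led Lsl_ff (LP (LK LD1_c16 LD2_c0 LD3_c19)) = (LP (LK LD1_c25 LD2_c53 LD3_c38)) :=
  Lgr Lrot25 (Lpr_bt (f397496 IH) (Lpr_ft (f270454 IH) (Lpr_bt (f326258 IH) (Lpn (LP (LK LD1_c25 LD2_c53 LD3_c38))))))
theorem f397504 : Led Lsl_at (LP (LK LD1_c16 LD2_c0 LD3_c19)) = (LP (LK LD1_c8 LD2_c31 LD3_c39)) :=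
  Lre_a IH (LK LD1_c16 LD2_c0 LD3_c19) (LK LD1_c8 LD2_c31 LD3_c39) Lrfl Lrfl
theorem f221820 : Led Lsl_gt (LP (LK LD1_c16 LD2_c0 LD3_c21)) = (LP (LK LD1_c8 LD2_c31 LD3_c39)) :=
  Lre_g IH (LK LD1_c16 LD2_c0 LD3_c21) (LK LD1_c8 LD2_c31 LD3_c39) Lrfl Lrfl
theorem f397507 : Led Lsl_gf (LP (LK LD1_c16 LD2_c0 LD3_c21)) = (LP (LK LD1_c25 LD2_c53 LD3_c38)) :=
  Lgr Lrot47 (Lpr_gt (f221820 IH) (Lpe (f397504 IH) (Lpr_ff (f397502 IH) (Lpn (LP (LK LD1_c25 LD2_c53 LD3_c38))))))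
theorem f916324 : Led Lsl_at (LP (LK LD1_c15 LD2_c59 LD3_c12)) = (LP (LK LD1_c16 LD2_c0 LD3_c21)) :=
  Lgr Lrot26 (Lpr_ff (f916317 IH) (Lpr_gt (f397518 IH) (Lpe (f397507 IH) (Lpn (LP (LK LD1_c16 LD2_c0 LD3_c21))))))
theorem f53433 : Led Lsl_dt (LP (LK LD1_c8 LD2_c30 LD3_c58)) = (LP (LK LD1_c15 LD2_c59 LD3_c12)) :=
  Lre_d IH (LK LD1_c8 LD2_c30 LD3_c58) (LK LD1_c15 LD2_c59 LD3_c12) Lrfl Lrfl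
theorem f916330 : Led Lsl_df v36561 = (LP (LK LD1_c16 LD2_c0 LD3_c21)) :=
  Lgr Lrot18 (Lpe (f887553 IH) (Lpr_dt (f53433 IH) (Lpr_at (f916324 IH) (Lpn (LP (LK LD1_c16 LD2_c0 LD3_c21))))))
theorem f916335 : Led Lsl_ft (LP (LK LD1_c15 LD2_c59 LD3_c15)) = (LP (LK LD1_c16 LD2_c0 LD3_c21)) :=
  Lgr Lrot54 (Lpe (f373906 IH) (Lpr_ff (f887557 IH) (Lpr_df (f916330 IH) (Lpn (LP (LK LD1_c16 LD2_c0 LD3_c21))))))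
theorem f916390 : Led Lsl_bt (LP (LK LD1_c16 LD2_c0 LD3_c21)) = (LP (LK LD1_c25 LD2_c43 LD3_c42)) :=
  Lgr Lrot35 (Lpe (f916335 IH) (Lpe (f916380 IH) (Lpr_ff (f916389 IH) (Lpn (LP (LK LD1_c25 LD2_c43 LD3_c42))))))
theorem f916391 : Led Lsl_bt (LP (LK LD1_c16 LD2_c0 LD3_c21)) = (LP (LK LD1_c25 LD2_c43 LD3_c42)) :=
  Leop (Lpe (f916390 IH) (Lpn (LP (LK LD1_c16 LD2_c0 LD3_c21))))
theorem seed_2398 : LEOK LG_b (LK LD1_c16 LD2_c0 LD3_c21) :=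
  Leoe_b (LK LD1_c16 LD2_c0 LD3_c21) (f916391 IH)
def v40429 : LQ := Led Lsl_bt (LP (LK LD1_c9 LD2_c39 LD3_c22))
theorem f917297 : Led Lsl_bt (LP (LK LD1_c9 LD2_c39 LD3_c22)) = v40429 :=
  Lrfl
theorem f184220 : Led Lsl_bt (LP (LK LD1_c15 LD2_c32 LD3_c10)) = (LP (LK LD1_c8 LD2_c15 LD3_c47)) :=
  Lre_b IH (LK LD1_c15 LD2_c32 LD3_c10) (LK LD1_c8 LD2_c15 LD3_c47) Lrfl Lrfl
theorem f917299 : Led Lsl_cf (LP (LK LD1_c15 LD2_c32 LD3_c10)) = v40429 :=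
  Lgr Lrot97 (Lpr_bt (f184220 IH) (Lpr_ct (K15.f51339 IH) (Lpe (K15.f212267 IH) (Lpr_ct (K44.f51288 IH) (Lpr_bt (f917297 IH) (Lpn v40429))))))
theorem f184224 : Led Lsl_gt (LP (LK LD1_c25 LD2_c25 LD3_c33)) = (LP (LK LD1_c15 LD2_c32 LD3_c10)) :=
  Lre_g IH (LK LD1_c25 LD2_c25 LD3_c33) (LK LD1_c15 LD2_c32 LD3_c10) Lrfl Lrfl
theorem f917298 : Led Lsl_bf (LP (LK LD1_c9 LD2_c39 LD3_c22)) = v40429 :=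
  Lgr Lrot24 (Lpr_bt (f917297 IH) (Lpn v40429))
theorem f284683 : Led Lsl_gt (LP (LK LD1_c9 LD2_c39 LD3_c22)) = (LP (LK LD1_c5 LD2_c13 LD3_c4)) :=
  Lgr Lrot180 (Lpr_ct (K44.f51289 IH) (Lpr_gt (K16.f212273 IH) (Lpr_dt (K14.f251407 IH) (Lpr_gt (K14.f251574 IH) (Lpe (K14.f251576 IH) (Lpe (K15.f247718 IH) (Lpe (K17.f190748 IH) (Lpr_gf (K17.f284681 IH) (Lpe (K17.f238282 IH) (Lpn (LP (LK LD1_c5 LD2_c13 LD3_c4))))))))))))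
theorem f238285 : Led Lsl_bt (LP (LK LD1_c26 LD2_c32 LD3_c16)) = (LP (LK LD1_c16 LD2_c34 LD3_c48)) :=
  Lre_b IH (LK LD1_c26 LD2_c32 LD3_c16) (LK LD1_c16 LD2_c34 LD3_c48) Lrfl Lrfl
theorem f917304 : Led Lsl_cf (LP (LK LD1_c25 LD2_c25 LD3_c33)) = (LP (LK LD1_c26 LD2_c32 LD3_c16)) :=
  Lgr Lrot160 (Lpr_gt (f184224 IH) (Lpr_cf (f917299 IH) (Lpe (f917298 IH) (Lpr_gt (f284683 IH) (Lpr_ct (K14.f165538 IH) (Lpr_gt (K14.f238279 IH) (Lpe (K15.f182210 IH) (Lpr_bt (K53.f230509 IH) (Lpr_gt (K53.f230514 IH) (Lpe (f238285 IH) (Lpn (LP (LK LD1_c26 LD2_c32 LD3_c16)))))))))))))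
theorem f917305 : Led Lsl_ct (LP (LK LD1_c26 LD2_c32 LD3_c16)) = (LP (LK LD1_c25 LD2_c25 LD3_c33)) :=
  Leop (Lpr_cf (f917304 IH) (Lpn (LP (LK LD1_c26 LD2_c32 LD3_c16))))
theorem seed_2399 : LEOK LG_c (LK LD1_c26 LD2_c32 LD3_c16) :=
  Leoe_c (LK LD1_c26 LD2_c32 LD3_c16) (f917305 IH)
def v40520 : LQ := Led Lsl_dt (LP (LK LD1_c9 LD2_c43 LD3_c2))
theorem f917745 : Led Lsl_dt (LP (LK LD1_c9 LD2_c43 LD3_c2)) = v40520 :=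
  Lrfl
theorem f169318 : Led Lsl_dt (LP (LK LD1_c9 LD2_c43 LD3_c7)) = (LP (LK LD1_c4 LD2_c55 LD3_c42)) :=
  Lre_d IH (LK LD1_c9 LD2_c43 LD3_c7) (LK LD1_c4 LD2_c55 LD3_c42) Lrfl Lrfl
theorem f917749 : Led Lsl_ff (LP (LK LD1_c9 LD2_c43 LD3_c7)) = v40520 :=
  Lgr Lrot19 (Lpr_dt (f169318 IH) (Lpr_ft (K9.f41031 IH) (Lpr_dt (f917745 IH) (Lpn v40520))))
theorem f718656 : Led Lsl_at (LP (LK LD1_c9 LD2_c43 LD3_c7)) = (LP (LK LD1_c4 LD2_c55 LD3_c43)) :=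
  Lre_a IH (LK LD1_c9 LD2_c43 LD3_c7) (LK LD1_c4 LD2_c55 LD3_c43) Lrfl Lrfl
theorem f636034 : Led Lsl_ft (LP (LK LD1_c4 LD2_c55 LD3_c43)) = (LP (LK LD1_c9 LD2_c43 LD3_c10)) :=
  Lre_f IH (LK LD1_c4 LD2_c55 LD3_c43) (LK LD1_c9 LD2_c43 LD3_c10) Lrfl Lrfl
theorem f917750 : Led Lsl_at (LP (LK LD1_c9 LD2_c43 LD3_c10)) = v40520 :=
  Lgr Lrot66 (Lpe (f636034 IH) (Lpe (f718656 IH) (Lpr_ff (f917749 IH) (Lpn v40520))))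
theorem f263862 : Led Lsl_gt (LP (LK LD1_c4 LD2_c55 LD3_c43)) = (LP (LK LD1_c9 LD2_c43 LD3_c8)) :=
  Lre_g IH (LK LD1_c4 LD2_c55 LD3_c43) (LK LD1_c9 LD2_c43 LD3_c8) Lrfl Lrfl
theorem f917755 : Led Lsl_gt (LP (LK LD1_c9 LD2_c43 LD3_c8)) = v40520 :=
  Lgr Lrot46 (Lpe (f263862 IH) (Lpr_ft (f636034 IH) (Lpr_at (f917750 IH) (Lpn v40520))))
theorem f917748 : Led Lsl_df (LP (LK LD1_c9 LD2_c43 LD3_c2)) = v40520 :=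
  Lgr Lrot38 (Lpr_dt (f917745 IH) (Lpn v40520))
theorem f173803 : Led Lsl_ct (LP (LK LD1_c4 LD2_c56 LD3_c10)) = (LP (LK LD1_c9 LD2_c43 LD3_c2)) :=
  Lre_c IH (LK LD1_c4 LD2_c56 LD3_c10) (LK LD1_c9 LD2_c43 LD3_c2) Lrfl Lrfl
def v12280 : LQ := Led Lsl_at (LP (LK LD1_c3 LD2_c59 LD3_c11))
theorem f689141 : Led Lsl_at (LP (LK LD1_c3 LD2_c59 LD3_c11)) = v12280 :=
  Lrfl
theorem f41006 : Led Lsl_dt (LP (LK LD1_c2 LD2_c25 LD3_c58)) = (LP (LK LD1_c1 LD2_c10 LD3_c7)) :=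
  Lre_d IH (LK LD1_c2 LD2_c25 LD3_c58) (LK LD1_c1 LD2_c10 LD3_c7) Lrfl Lrfl
theorem f41007 : Led Lsl_ft (LP (LK LD1_c1 LD2_c10 LD3_c7)) = (LP (LK LD1_c2 LD2_c25 LD3_c59)) :=
  Lre_f IH (LK LD1_c1 LD2_c10 LD3_c7) (LK LD1_c2 LD2_c25 LD3_c59) Lrfl Lrfl
theorem f41008 : Led Lsl_df (LP (LK LD1_c3 LD2_c59 LD3_c11)) = (LP (LK LD1_c2 LD2_c25 LD3_c59)) :=
  Lgr Lrot78 (Lpr_ft (K1.f41000 IH) (Lpr_dt (f41006 IH) (Lpr_ft (f41007 IH) (Lpn (LP (LK LD1_c2 LD2_c25 LD3_c59))))))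
theorem f689144 : Led Lsl_df (LP (LK LD1_c4 LD2_c56 LD3_c10)) = v12280 :=
  Lgr Lrot18 (Lpr_at (K9.f173060 IH) (Lpe (f41008 IH) (Lpr_at (f689141 IH) (Lpn v12280))))
def v4540 : LQ := Led Lsl_gt (LP (LK LD1_c2 LD2_c25 LD3_c58))
theorem f636028 : Led Lsl_gt (LP (LK LD1_c2 LD2_c25 LD3_c58)) = v4540 :=
  Lrfl
theorem f689146 : Led Lsl_gt v4540 = v12280 :=
  Lgr Lrot46 (Lpe (f636028 IH) (Lpe (K1.f41012 IH) (Lpr_at (f689141 IH) (Lpn v12280))))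
def v15326 : LQ := Led Lsl_at (LP (LK LD1_c5 LD2_c36 LD3_c12))
theorem f735663 : Led Lsl_at (LP (LK LD1_c5 LD2_c36 LD3_c12)) = v15326 :=
  Lrfl
theorem f261252 : Led Lsl_ff (LP (LK LD1_c4 LD2_c30 LD3_c53)) = (LP (LK LD1_c2 LD2_c44 LD3_c0)) :=
  Lgr Lrot3 (Lpr_ft (K15.f261246 IH) (Lpn (LP (LK LD1_c2 LD2_c44 LD3_c0))))
theorem f173967 : Led Lsl_bt (LP (LK LD1_c2 LD2_c40 LD3_c46)) = (LP (LK LD1_c5 LD2_c28 LD3_c61)) :=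
  Lre_b IH (LK LD1_c2 LD2_c40 LD3_c46) (LK LD1_c5 LD2_c28 LD3_c61) Lrfl Lrfl
theorem f173970 : Led Lsl_ct (LP (LK LD1_c5 LD2_c28 LD3_c61)) = (LP (LK LD1_c10 LD2_c49 LD3_c5)) :=
  Lre_c IH (LK LD1_c5 LD2_c28 LD3_c61) (LK LD1_c10 LD2_c49 LD3_c5) Lrfl Lrfl
theorem f173971 : Led Lsl_bt (LP (LK LD1_c4 LD2_c30 LD3_c54)) = (LP (LK LD1_c2 LD2_c12 LD3_c22)) :=
  Lre_b IH (LK LD1_c4 LD2_c30 LD3_c54) (LK LD1_c2 LD2_c12 LD3_c22) Lrfl Lrfl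
theorem f173972 : Led Lsl_ct (LP (LK LD1_c8 LD2_c59 LD3_c57)) = (LP (LK LD1_c4 LD2_c30 LD3_c54)) :=
  Lre_c IH (LK LD1_c8 LD2_c59 LD3_c57) (LK LD1_c4 LD2_c30 LD3_c54) Lrfl Lrfl
theorem f173973 : Led Lsl_bt (LP (LK LD1_c10 LD2_c49 LD3_c5)) = (LP (LK LD1_c8 LD2_c59 LD3_c57)) :=
  Lgr Lrot128 (Lpe (f173970 IH) (Lpe (f173967 IH) (Lpr_cf (K14.f173963 IH) (Lpe (f173971 IH) (Lpe (f173972 IH) (Lpn (LP (LK LD1_c8 LD2_c59 LD3_c57))))))))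
theorem f173978 : Led Lsl_et (LP (LK LD1_c5 LD2_c28 LD3_c59)) = (LP (LK LD1_c10 LD2_c49 LD3_c5)) :=
  Lre_e IH (LK LD1_c5 LD2_c28 LD3_c59) (LK LD1_c10 LD2_c49 LD3_c5) Lrfl Lrfl
theorem f173979 : Led Lsl_et (LP (LK LD1_c8 LD2_c59 LD3_c57)) = (LP (LK LD1_c4 LD2_c30 LD3_c53)) :=
  Lre_e IH (LK LD1_c8 LD2_c59 LD3_c57) (LK LD1_c4 LD2_c30 LD3_c53) Lrfl Lrfl
theorem f173980 : Led Lsl_bf (LP (LK LD1_c5 LD2_c28 LD3_c59)) = (LP (LK LD1_c4 LD2_c30 LD3_c53)) :=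
  Lgr Lrot96 (Lpr_et (f173978 IH) (Lpr_bt (f173973 IH) (Lpr_et (f173979 IH) (Lpn (LP (LK LD1_c4 LD2_c30 LD3_c53))))))
theorem f228693 : Led Lsl_bt (LP (LK LD1_c5 LD2_c36 LD3_c12)) = (LP (LK LD1_c2 LD2_c44 LD3_c0)) :=
  Lre_b IH (LK LD1_c5 LD2_c36 LD3_c12) (LK LD1_c2 LD2_c44 LD3_c0) Lrfl Lrfl
theorem f413275 : Led Lsl_ft (LP (LK LD1_c5 LD2_c28 LD3_c59)) = (LP (LK LD1_c5 LD2_c36 LD3_c12)) :=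
  Lgr Lrot75 (Lpr_bf (f173980 IH) (Lpr_ff (f261252 IH) (Lpe (f228693 IH) (Lpn (LP (LK LD1_c5 LD2_c36 LD3_c12))))))
def v14971 : LQ := Led Lsl_ct (LP (LK LD1_c5 LD2_c28 LD3_c58))
theorem f727666 : Led Lsl_ct (LP (LK LD1_c5 LD2_c28 LD3_c58)) = v14971 :=
  Lrfl
theorem f288026 : Led Lsl_at (LP (LK LD1_c2 LD2_c40 LD3_c44)) = (LP (LK LD1_c5 LD2_c28 LD3_c58)) :=
  Lre_a IH (LK LD1_c2 LD2_c40 LD3_c44) (LK LD1_c5 LD2_c28 LD3_c58) Lrfl Lrfl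
theorem f727667 : Led Lsl_af (LP (LK LD1_c5 LD2_c28 LD3_c59)) = v14971 :=
  Lgr Lrot68 (Lpr_ct (K30.f172864 IH) (Lpr_at (f288026 IH) (Lpr_ct (f727666 IH) (Lpn v14971))))
theorem f735667 : Led Lsl_ff v14971 = v15326 :=
  Lgr Lrot30 (Lpe (f727667 IH) (Lpr_ft (f413275 IH) (Lpr_at (f735663 IH) (Lpn v15326))))
theorem f173987 : Led Lsl_gt (LP (LK LD1_c10 LD2_c49 LD3_c4)) = (LP (LK LD1_c5 LD2_c28 LD3_c59)) :=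
  Lre_g IH (LK LD1_c10 LD2_c49 LD3_c4) (LK LD1_c5 LD2_c28 LD3_c59) Lrfl Lrfl
theorem f735671 : Led Lsl_gf (LP (LK LD1_c10 LD2_c49 LD3_c4)) = v15326 :=
  Lgr Lrot47 (Lpr_gt (f173987 IH) (Lpr_af (f727667 IH) (Lpr_ff (f735667 IH) (Lpn v15326))))
theorem f591785 : Led Lsl_af (LP (LK LD1_c10 LD2_c31 LD3_c14)) = (LP (LK LD1_c5 LD2_c23 LD3_c0)) :=
  Lgr Lrot117 (Lpe (K41.f551538 IH) (Lpr_at (K47.f591505 IH) (Lpr_dt (K38.f228712 IH) (Lpn (LP (LK LD1_c5 LD2_c23 LD3_c0))))))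
theorem f591793 : Led Lsl_ft (LP (LK LD1_c10 LD2_c31 LD3_c15)) = (LP (LK LD1_c5 LD2_c23 LD3_c0)) :=
  Lgr Lrot2 (Lpr_gt (K45.f169235 IH) (Lpr_gt (K41.f169233 IH) (Lpr_af (f591785 IH) (Lpn (LP (LK LD1_c5 LD2_c23 LD3_c0))))))
theorem f591802 : Led Lsl_ff (LP (LK LD1_c10 LD2_c31 LD3_c15)) = (LP (LK LD1_c5 LD2_c23 LD3_c0)) :=
  Lgr Lrot3 (Lpr_ft (f591793 IH) (Lpn (LP (LK LD1_c5 LD2_c23 LD3_c0))))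
theorem f591809 : Led Lsl_at (LP (LK LD1_c10 LD2_c31 LD3_c15)) = (LP (LK LD1_c5 LD2_c22 LD3_c61)) :=
  Lgr Lrot26 (Lpr_ff (f591802 IH) (Lpr_gt (K38.f228689 IH) (Lpr_gt (K38.f197795 IH) (Lpn (LP (LK LD1_c5 LD2_c22 LD3_c61))))))
theorem f591787 : Led Lsl_at (LP (LK LD1_c10 LD2_c31 LD3_c14)) = (LP (LK LD1_c5 LD2_c23 LD3_c0)) :=
  Lgr Lrot100 (Lpr_af (f591785 IH) (Lpn (LP (LK LD1_c5 LD2_c23 LD3_c0))))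
theorem f591818 : Led Lsl_ff (LP (LK LD1_c10 LD2_c31 LD3_c14)) = (LP (LK LD1_c5 LD2_c22 LD3_c61)) :=
  Lgr Lrot30 (Lpr_at (f591787 IH) (Lpe (f591802 IH) (Lpr_at (f591809 IH) (Lpn (LP (LK LD1_c5 LD2_c22 LD3_c61))))))
theorem f224279 : Led Lsl_bt (LP (LK LD1_c10 LD2_c36 LD3_c21)) = (LP (LK LD1_c5 LD2_c22 LD3_c61)) :=
  Lre_b IH (LK LD1_c10 LD2_c36 LD3_c21) (LK LD1_c5 LD2_c22 LD3_c61) Lrfl Lrfl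
theorem f591820 : Led Lsl_ft (LP (LK LD1_c19 LD2_c4 LD3_c1)) = (LP (LK LD1_c10 LD2_c36 LD3_c21)) :=
  Lgr Lrot75 (Lpe (K47.f226922 IH) (Lpr_ff (f591818 IH) (Lpe (f224279 IH) (Lpn (LP (LK LD1_c10 LD2_c36 LD3_c21))))))
theorem f591830 : Led Lsl_ff (LP (LK LD1_c19 LD2_c4 LD3_c1)) = (LP (LK LD1_c10 LD2_c36 LD3_c21)) :=
  Lgr Lrot3 (Lpr_ft (f591820 IH) (Lpn (LP (LK LD1_c10 LD2_c36 LD3_c21))))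
theorem f224286 : Led Lsl_ct (LP (LK LD1_c19 LD2_c12 LD3_c36)) = (LP (LK LD1_c10 LD2_c36 LD3_c21)) :=
  Lre_c IH (LK LD1_c19 LD2_c12 LD3_c36) (LK LD1_c10 LD2_c36 LD3_c21) Lrfl Lrfl
theorem f591835 : Led Lsl_ft (LP (LK LD1_c15 LD2_c1 LD3_c34)) = (LP (LK LD1_c19 LD2_c12 LD3_c36)) :=
  Lgr Lrot4 (Lpr_cf (K47.f226916 IH) (Lpr_ff (f591830 IH) (Lpe (f224286 IH) (Lpn (LP (LK LD1_c19 LD2_c12 LD3_c36))))))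
theorem f181403 : Led Lsl_gt (LP (LK LD1_c7 LD2_c57 LD3_c58)) = (LP (LK LD1_c15 LD2_c1 LD3_c33)) :=
  Lre_g IH (LK LD1_c7 LD2_c57 LD3_c58) (LK LD1_c15 LD2_c1 LD3_c33) Lrfl Lrfl
theorem f591842 : Led Lsl_af (LP (LK LD1_c15 LD2_c1 LD3_c33)) = (LP (LK LD1_c19 LD2_c12 LD3_c36)) :=
  Lgr Lrot31 (Lpe (f181403 IH) (Lpe (K47.f221647 IH) (Lpr_ft (f591835 IH) (Lpn (LP (LK LD1_c19 LD2_c12 LD3_c36))))))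
theorem f591844 : Led Lsl_at (LP (LK LD1_c15 LD2_c1 LD3_c33)) = (LP (LK LD1_c19 LD2_c12 LD3_c36)) :=
  Lgr Lrot100 (Lpr_af (f591842 IH) (Lpn (LP (LK LD1_c19 LD2_c12 LD3_c36))))
theorem f224280 : Led Lsl_ct (LP (LK LD1_c10 LD2_c36 LD3_c21)) = (LP (LK LD1_c19 LD2_c12 LD3_c36)) :=
  Lre_c IH (LK LD1_c10 LD2_c36 LD3_c21) (LK LD1_c19 LD2_c12 LD3_c36) Lrfl Lrfl
theorem f351658 : Led Lsl_gt (LP (LK LD1_c15 LD2_c1 LD3_c35)) = (LP (LK LD1_c19 LD2_c12 LD3_c36)) :=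
  Lgr Lrot149 (Lpe (K38.f221659 IH) (Lpr_gf (K38.f351656 IH) (Lpe (K38.f252139 IH) (Lpr_ct (K38.f252140 IH) (Lpe (K38.f312864 IH) (Lpe (K38.f312755 IH) (Lpr_bt (K38.f312895 IH) (Lpe (K38.f312963 IH) (Lpe (f224279 IH) (Lpr_ct (f224280 IH) (Lpn (LP (LK LD1_c19 LD2_c12 LD3_c36)))))))))))))
theorem f221661 : Led Lsl_at (LP (LK LD1_c7 LD2_c57 LD3_c58)) = (LP (LK LD1_c15 LD2_c1 LD3_c35)) :=
  Lre_a IH (LK LD1_c7 LD2_c57 LD3_c58) (LK LD1_c15 LD2_c1 LD3_c35) Lrfl Lrfl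
theorem f171968 : Led Lsl_gt (LP (LK LD1_c15 LD2_c0 LD3_c57)) = (LP (LK LD1_c24 LD2_c48 LD3_c37)) :=
  Lre_g IH (LK LD1_c15 LD2_c0 LD3_c57) (LK LD1_c24 LD2_c48 LD3_c37) Lrfl Lrfl
theorem f351645 : Led Lsl_gf (LP (LK LD1_c15 LD2_c1 LD3_c35)) = (LP (LK LD1_c24 LD2_c48 LD3_c37)) :=
  Lgr Lrot76 (Lpe (f221661 IH) (Lpr_ff (K30.f351639 IH) (Lpr_gt (f171968 IH) (Lpn (LP (LK LD1_c24 LD2_c48 LD3_c37))))))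
theorem f591888 : Led Lsl_ff (LP (LK LD1_c15 LD2_c1 LD3_c33)) = (LP (LK LD1_c24 LD2_c48 LD3_c37)) :=
  Lgr Lrot52 (Lpr_at (f591844 IH) (Lpe (f351658 IH) (Lpr_gf (f351645 IH) (Lpn (LP (LK LD1_c24 LD2_c48 LD3_c37))))))
theorem f591896 : Led Lsl_ft (LP (LK LD1_c15 LD2_c1 LD3_c33)) = (LP (LK LD1_c24 LD2_c48 LD3_c37)) :=
  Lgr Lrot48 (Lpr_ff (f591888 IH) (Lpn (LP (LK LD1_c24 LD2_c48 LD3_c37))))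
theorem f591848 : Led Lsl_et (LP (LK LD1_c15 LD2_c1 LD3_c33)) = (LP (LK LD1_c24 LD2_c49 LD3_c40)) :=
  Lre_e IH (LK LD1_c15 LD2_c1 LD3_c33) (LK LD1_c24 LD2_c49 LD3_c40) Lrfl Lrfl
theorem f224293 : Led Lsl_et (LP (LK LD1_c28 LD2_c38 LD3_c48)) = (LP (LK LD1_c19 LD2_c12 LD3_c36)) :=
  Lre_e IH (LK LD1_c28 LD2_c38 LD3_c48) (LK LD1_c19 LD2_c12 LD3_c36) Lrfl Lrfl
theorem f591849 : Led Lsl_at (LP (LK LD1_c24 LD2_c49 LD3_c40)) = (LP (LK LD1_c28 LD2_c38 LD3_c48)) :=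
  Lgr Lrot80 (Lpe (f591848 IH) (Lpr_af (f591842 IH) (Lpe (f224293 IH) (Lpn (LP (LK LD1_c28 LD2_c38 LD3_c48))))))
theorem f591562 : Led Lsl_ct (LP (LK LD1_c28 LD2_c38 LD3_c48)) = (LP (LK LD1_c19 LD2_c12 LD3_c38)) :=
  Lre_c IH (LK LD1_c28 LD2_c38 LD3_c48) (LK LD1_c19 LD2_c12 LD3_c38) Lrfl Lrfl
theorem f591853 : Led Lsl_at (LP (LK LD1_c19 LD2_c12 LD3_c38)) = (LP (LK LD1_c28 LD2_c38 LD3_c46)) :=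
  Lre_a IH (LK LD1_c19 LD2_c12 LD3_c38) (LK LD1_c28 LD2_c38 LD3_c46) Lrfl Lrfl
theorem f591854 : Led Lsl_cf (LP (LK LD1_c24 LD2_c49 LD3_c40)) = (LP (LK LD1_c28 LD2_c38 LD3_c46)) :=
  Lgr Lrot1 (Lpr_at (f591849 IH) (Lpr_ct (f591562 IH) (Lpr_at (f591853 IH) (Lpn (LP (LK LD1_c28 LD2_c38 LD3_c46))))))
theorem f591870 : Led Lsl_ct (LP (LK LD1_c24 LD2_c49 LD3_c40)) = (LP (LK LD1_c28 LD2_c38 LD3_c46)) :=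
  Lgr Lrot59 (Lpr_cf (f591854 IH) (Lpn (LP (LK LD1_c28 LD2_c38 LD3_c46))))
theorem f591883 : Led Lsl_et (LP (LK LD1_c28 LD2_c38 LD3_c46)) = (LP (LK LD1_c19 LD2_c12 LD3_c35)) :=
  Lre_e IH (LK LD1_c28 LD2_c38 LD3_c46) (LK LD1_c19 LD2_c12 LD3_c35) Lrfl Lrfl
theorem f591884 : Led Lsl_cf (LP (LK LD1_c15 LD2_c1 LD3_c33)) = (LP (LK LD1_c19 LD2_c12 LD3_c35)) :=
  Lgr Lrot39 (Lpr_et (f591848 IH) (Lpr_ct (f591870 IH) (Lpr_et (f591883 IH) (Lpn (LP (LK LD1_c19 LD2_c12 LD3_c35))))))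
theorem f226933 : Led Lsl_at (LP (LK LD1_c19 LD2_c4 LD3_c1)) = (LP (LK LD1_c28 LD2_c30 LD3_c14)) :=
  Lre_a IH (LK LD1_c19 LD2_c4 LD3_c1) (LK LD1_c28 LD2_c30 LD3_c14) Lrfl Lrfl
theorem f591832 : Led Lsl_at (LP (LK LD1_c19 LD2_c12 LD3_c35)) = (LP (LK LD1_c10 LD2_c36 LD3_c21)) :=
  Lre_a IH (LK LD1_c19 LD2_c12 LD3_c35) (LK LD1_c10 LD2_c36 LD3_c21) Lrfl Lrfl
theorem f591833 : Led Lsl_ft (LP (LK LD1_c28 LD2_c30 LD3_c14)) = (LP (LK LD1_c19 LD2_c12 LD3_c35)) :=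
  Lgr Lrot101 (Lpe (f226933 IH) (Lpr_ff (f591830 IH) (Lpe (f591832 IH) (Lpn (LP (LK LD1_c19 LD2_c12 LD3_c35))))))
theorem f591902 : Led Lsl_cf (LP (LK LD1_c28 LD2_c30 LD3_c14)) = (LP (LK LD1_c24 LD2_c48 LD3_c37)) :=
  Lgr Lrot108 (Lpr_ft (f591833 IH) (Lpe (f591884 IH) (Lpr_ft (f591896 IH) (Lpn (LP (LK LD1_c24 LD2_c48 LD3_c37))))))
theorem f228704 : Led Lsl_bt (LP (LK LD1_c10 LD2_c36 LD3_c25)) = (LP (LK LD1_c5 LD2_c23 LD3_c0)) :=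
  Lre_b IH (LK LD1_c10 LD2_c36 LD3_c25) (LK LD1_c5 LD2_c23 LD3_c0) Lrfl Lrfl
theorem f409838 : Led Lsl_at (LP (LK LD1_c19 LD2_c12 LD3_c45)) = (LP (LK LD1_c10 LD2_c36 LD3_c25)) :=
  Lre_a IH (LK LD1_c19 LD2_c12 LD3_c45) (LK LD1_c10 LD2_c36 LD3_c25) Lrfl Lrfl
theorem f591789 : Led Lsl_bt (LP (LK LD1_c28 LD2_c30 LD3_c14)) = (LP (LK LD1_c19 LD2_c12 LD3_c45)) :=
  Lgr Lrot62 (Lpe (f226933 IH) (Lpe (K47.f226922 IH) (Lpr_af (f591785 IH) (Lpe (f228704 IH) (Lpe (f409838 IH) (Lpn (LP (LK LD1_c19 LD2_c12 LD3_c45))))))))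
theorem f171965 : Led Lsl_bt (LP (LK LD1_c7 LD2_c57 LD3_c39)) = (LP (LK LD1_c15 LD2_c0 LD3_c57)) :=
  Lre_b IH (LK LD1_c7 LD2_c57 LD3_c39) (LK LD1_c15 LD2_c0 LD3_c57) Lrfl Lrfl
theorem f278173 : Led Lsl_bt (LP (LK LD1_c16 LD2_c37 LD3_c54)) = (LP (LK LD1_c24 LD2_c48 LD3_c37)) :=
  Lgr Lrot92 (Lpr_ct (K69.f276247 IH) (Lpr_gt (K69.f276246 IH) (Lpe (K69.f276245 IH) (Lpr_bt (K69.f276240 IH) (Lpr_gt (K16.f276231 IH) (Lpr_ct (K14.f226761 IH) (Lpr_gt (K16.f278157 IH) (Lpe (K18.f171919 IH) (Lpr_bt (f171965 IH) (Lpr_gt (f171968 IH) (Lpn (LP (LK LD1_c24 LD2_c48 LD3_c37)))))))))))))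
theorem f276260 : Led Lsl_ct (LP (LK LD1_c8 LD2_c53 LD3_c37)) = (LP (LK LD1_c16 LD2_c37 LD3_c54)) :=
  Lre_c IH (LK LD1_c8 LD2_c53 LD3_c37) (LK LD1_c16 LD2_c37 LD3_c54) Lrfl Lrfl
theorem f389963 : Led Lsl_bt (LP (LK LD1_c16 LD2_c37 LD3_c53)) = (LP (LK LD1_c8 LD2_c53 LD3_c37)) :=
  Lre_b IH (LK LD1_c16 LD2_c37 LD3_c53) (LK LD1_c8 LD2_c53 LD3_c37) Lrfl Lrfl
theorem f591904 : Led Lsl_ct (LP (LK LD1_c19 LD2_c12 LD3_c45)) = (LP (LK LD1_c16 LD2_c37 LD3_c53)) :=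
  Lgr Lrot83 (Lpe (f591789 IH) (Lpr_cf (f591902 IH) (Lpe (f278173 IH) (Lpe (f276260 IH) (Lpe (f389963 IH) (Lpn (LP (LK LD1_c16 LD2_c37 LD3_c53))))))))
theorem f591911 : Led Lsl_cf (LP (LK LD1_c19 LD2_c12 LD3_c45)) = (LP (LK LD1_c16 LD2_c37 LD3_c53)) :=
  Lgr Lrot11 (Lpr_ct (f591904 IH) (Lpn (LP (LK LD1_c16 LD2_c37 LD3_c53))))
theorem f276261 : Led Lsl_bt (LP (LK LD1_c8 LD2_c53 LD3_c37)) = (LP (LK LD1_c16 LD2_c37 LD3_c53)) :=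
  Lre_b IH (LK LD1_c8 LD2_c53 LD3_c37) (LK LD1_c16 LD2_c37 LD3_c53) Lrfl Lrfl
theorem f409876 : Led Lsl_bf (LP (LK LD1_c16 LD2_c37 LD3_c54)) = (LP (LK LD1_c24 LD2_c48 LD3_c37)) :=
  Lgr Lrot24 (Lpr_bt (f278173 IH) (Lpn (LP (LK LD1_c24 LD2_c48 LD3_c37))))
theorem f591846 : Led Lsl_ct (LP (LK LD1_c15 LD2_c1 LD3_c33)) = (LP (LK LD1_c19 LD2_c12 LD3_c35)) :=
  Lgr Lrot111 (Lpr_af (f591842 IH) (Lpe (f224280 IH) (Lpe (f591832 IH) (Lpn (LP (LK LD1_c19 LD2_c12 LD3_c35))))))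
theorem f226920 : Led Lsl_at (LP (LK LD1_c28 LD2_c30 LD3_c14)) = (LP (LK LD1_c19 LD2_c4 LD3_c1)) :=
  Lre_a IH (LK LD1_c28 LD2_c30 LD3_c14) (LK LD1_c19 LD2_c4 LD3_c1) Lrfl Lrfl
theorem f591811 : Led Lsl_at (LP (LK LD1_c10 LD2_c36 LD3_c21)) = (LP (LK LD1_c19 LD2_c12 LD3_c35)) :=
  Lre_a IH (LK LD1_c10 LD2_c36 LD3_c21) (LK LD1_c19 LD2_c12 LD3_c35) Lrfl Lrfl
theorem f591822 : Led Lsl_ff (LP (LK LD1_c28 LD2_c30 LD3_c14)) = (LP (LK LD1_c19 LD2_c12 LD3_c35)) :=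
  Lgr Lrot30 (Lpr_at (f226920 IH) (Lpr_ft (f591820 IH) (Lpr_at (f591811 IH) (Lpn (LP (LK LD1_c19 LD2_c12 LD3_c35))))))
theorem f591894 : Led Lsl_ct (LP (LK LD1_c28 LD2_c30 LD3_c14)) = (LP (LK LD1_c24 LD2_c48 LD3_c37)) :=
  Lgr Lrot40 (Lpr_ff (f591822 IH) (Lpe (f591846 IH) (Lpr_ff (f591888 IH) (Lpn (LP (LK LD1_c24 LD2_c48 LD3_c37))))))
theorem f591918 : Led Lsl_bt (LP (LK LD1_c19 LD2_c12 LD3_c45)) = (LP (LK LD1_c28 LD2_c30 LD3_c14)) :=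
  Lgr Lrot128 (Lpr_cf (f591911 IH) (Lpe (f276261 IH) (Lpe (K69.f276247 IH) (Lpr_bf (f409876 IH) (Lpe (f591894 IH) (Lpn (LP (LK LD1_c28 LD2_c30 LD3_c14))))))))
theorem f276263 : Led Lsl_bt (LP (LK LD1_c19 LD2_c32 LD3_c60)) = (LP (LK LD1_c10 LD2_c48 LD3_c47)) :=
  Lre_b IH (LK LD1_c19 LD2_c32 LD3_c60) (LK LD1_c10 LD2_c48 LD3_c47) Lrfl Lrfl
theorem f171963 : Led Lsl_bt (LP (LK LD1_c9 LD2_c41 LD3_c49)) = (LP (LK LD1_c4 LD2_c55 LD3_c9)) :=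
  Lre_b IH (LK LD1_c9 LD2_c41 LD3_c49) (LK LD1_c4 LD2_c55 LD3_c9) Lrfl Lrfl
theorem f171921 : Led Lsl_ct (LP (LK LD1_c9 LD2_c41 LD3_c49)) = (LP (LK LD1_c15 LD2_c0 LD3_c57)) :=
  Lgr Lrot83 (Lpe (K38.f171918 IH) (Lpe (K15.f171917 IH) (Lpr_bf (K14.f171907 IH) (Lpe (K18.f171919 IH) (Lpe (K38.f171920 IH) (Lpn (LP (LK LD1_c15 LD2_c0 LD3_c57))))))))
theorem f197794 : Led Lsl_bt (LP (LK LD1_c1 LD2_c15 LD3_c59)) = (LP (LK LD1_c2 LD2_c38 LD3_c0)) :=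
  Lre_b IH (LK LD1_c1 LD2_c15 LD3_c59) (LK LD1_c2 LD2_c38 LD3_c0) Lrfl Lrfl
theorem f224281 : Led Lsl_gt (LP (LK LD1_c19 LD2_c12 LD3_c36)) = (LP (LK LD1_c15 LD2_c0 LD3_c57)) :=
  Lgr Lrot65 (Lpe (f224280 IH) (Lpr_bt (f224279 IH) (Lpe (K38.f197795 IH) (Lpe (f197794 IH) (Lpr_ct (K12.f196601 IH) (Lpe (K12.f217718 IH) (Lpe (K18.f217719 IH) (Lpr_gf (K18.f224272 IH) (Lpe (f171963 IH) (Lpr_ct (f171921 IH) (Lpn (LP (LK LD1_c15 LD2_c0 LD3_c57)))))))))))))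
theorem f224283 : Led Lsl_gt (LP (LK LD1_c19 LD2_c12 LD3_c34)) = (LP (LK LD1_c10 LD2_c36 LD3_c21)) :=
  Lre_g IH (LK LD1_c19 LD2_c12 LD3_c34) (LK LD1_c10 LD2_c36 LD3_c21) Lrfl Lrfl
theorem f418422 : Led Lsl_bt (LP (LK LD1_c10 LD2_c48 LD3_c23)) = (LP (LK LD1_c19 LD2_c12 LD3_c34)) :=
  Lgr Lrot130 (Lpr_ct (K30.f277326 IH) (Lpe (K30.f267733 IH) (Lpr_cf (K30.f228675 IH) (Lpr_bt (K30.f224147 IH) (Lpr_gf (K18.f224272 IH) (Lpe (f171963 IH) (Lpr_ct (f171921 IH) (Lpe (f224281 IH) (Lpe (f224280 IH) (Lpe (f224283 IH) (Lpn (LP (LK LD1_c19 LD2_c12 LD3_c34)))))))))))))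
theorem f390336 : Led Lsl_cf (LP (LK LD1_c10 LD2_c48 LD3_c22)) = (LP (LK LD1_c10 LD2_c48 LD3_c47)) :=
  Lgr Lrot166 (Lpr_gt (K31.f390321 IH) (Lpr_dt (K20.f178135 IH) (Lpe (K31.f390161 IH) (Lpr_dt (K30.f387596 IH) (Lpr_ct (K30.f387605 IH) (Lpe (K30.f173900 IH) (Lpr_gf (K30.f380888 IH) (Lpe (K19.f253813 IH) (Lpe (K31.f267740 IH) (Lpn (LP (LK LD1_c10 LD2_c48 LD3_c47))))))))))))
theorem f418426 : Led Lsl_cf (LP (LK LD1_c19 LD2_c32 LD3_c60)) = (LP (LK LD1_c19 LD2_c12 LD3_c34)) :=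
  Lgr Lrot97 (Lpr_bt (f276263 IH) (Lpe (f390336 IH) (Lpr_bt (K31.f267739 IH) (Lpr_ct (K30.f267734 IH) (Lpr_bt (f418422 IH) (Lpn (LP (LK LD1_c19 LD2_c12 LD3_c34))))))))
theorem f418436 : Led Lsl_ct (LP (LK LD1_c19 LD2_c32 LD3_c60)) = (LP (LK LD1_c19 LD2_c12 LD3_c34)) :=
  Lgr Lrot59 (Lpr_cf (f418426 IH) (Lpn (LP (LK LD1_c19 LD2_c12 LD3_c34))))
theorem f591906 : Led Lsl_gt (LP (LK LD1_c28 LD2_c30 LD3_c14)) = (LP (LK LD1_c19 LD2_c12 LD3_c34)) :=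
  Lgr Lrot149 (Lpr_cf (f591902 IH) (Lpe (f171968 IH) (Lpe (f171965 IH) (Lpr_ct (K18.f171919 IH) (Lpe (K16.f278157 IH) (Lpe (K14.f226761 IH) (Lpe (K19.f305124 IH) (Lpe (K31.f267740 IH) (Lpe (f276263 IH) (Lpr_ct (f418436 IH) (Lpn (LP (LK LD1_c19 LD2_c12 LD3_c34)))))))))))))
theorem f592063 : Led Lsl_gf (LP (LK LD1_c16 LD2_c37 LD3_c53)) = (LP (LK LD1_c26 LD2_c34 LD3_c54)) :=
  Lgr Lrot129 (Lpe (f591904 IH) (Lpr_bt (f591918 IH) (Lpr_gt (f591906 IH) (Lpe (f418422 IH) (Lpr_ct (K30.f277326 IH) (Lpr_gt (K31.f384442 IH) (Lpe (K30.f225406 IH) (Lpr_bt (K17.f276890 IH) (Lpr_gt (K54.f277424 IH) (Lpe (K54.f278675 IH) (Lpn (LP (LK LD1_c26 LD2_c34 LD3_c54)))))))))))))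
theorem f228730 : Led Lsl_ct (LP (LK LD1_c10 LD2_c36 LD3_c25)) = (LP (LK LD1_c19 LD2_c12 LD3_c46)) :=
  Lre_c IH (LK LD1_c10 LD2_c36 LD3_c25) (LK LD1_c19 LD2_c12 LD3_c46) Lrfl Lrfl
theorem f591916 : Led Lsl_at (LP (LK LD1_c19 LD2_c12 LD3_c46)) = (LP (LK LD1_c16 LD2_c37 LD3_c53)) :=
  Lgr Lrot107 (Lpe (f228730 IH) (Lpe (f409838 IH) (Lpr_cf (f591911 IH) (Lpn (LP (LK LD1_c16 LD2_c37 LD3_c53))))))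
theorem f223297 : Led Lsl_gt (LP (LK LD1_c4 LD2_c54 LD3_c58)) = (LP (LK LD1_c9 LD2_c41 LD3_c25)) :=
  Lre_g IH (LK LD1_c4 LD2_c54 LD3_c58) (LK LD1_c9 LD2_c41 LD3_c25) Lrfl Lrfl
theorem f223298 : Led Lsl_ct (LP (LK LD1_c17 LD2_c49 LD3_c23)) = (LP (LK LD1_c9 LD2_c41 LD3_c25)) :=
  Lre_c IH (LK LD1_c17 LD2_c49 LD3_c23) (LK LD1_c9 LD2_c41 LD3_c25) Lrfl Lrfl
theorem f223299 : Led Lsl_bt (LP (LK LD1_c17 LD2_c49 LD3_c23)) = (LP (LK LD1_c27 LD2_c36 LD3_c30)) :=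
  Lre_b IH (LK LD1_c17 LD2_c49 LD3_c23) (LK LD1_c27 LD2_c36 LD3_c30) Lrfl Lrfl
theorem f278677 : Led Lsl_gf (LP (LK LD1_c26 LD2_c34 LD3_c54)) = (LP (LK LD1_c27 LD2_c36 LD3_c30)) :=
  Lgr Lrot181 (Lpr_ct (K54.f278668 IH) (Lpr_gt (K54.f223312 IH) (Lpr_cf (K17.f223308 IH) (Lpr_bt (K17.f223290 IH) (Lpe (K12.f223288 IH) (Lpe (K23.f223284 IH) (Lpr_ct (K67.f223296 IH) (Lpr_gt (f223297 IH) (Lpe (f223298 IH) (Lpr_bt (f223299 IH) (Lpn (LP (LK LD1_c27 LD2_c36 LD3_c30)))))))))))))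
theorem f592065 : Led Lsl_ff (LP (LK LD1_c19 LD2_c12 LD3_c46)) = (LP (LK LD1_c27 LD2_c36 LD3_c30)) :=
  Lgr Lrot52 (Lpr_at (f591916 IH) (Lpr_gf (f592063 IH) (Lpr_gf (f278677 IH) (Lpn (LP (LK LD1_c27 LD2_c36 LD3_c30))))))
theorem f592071 : Led Lsl_ft (LP (LK LD1_c19 LD2_c12 LD3_c46)) = (LP (LK LD1_c27 LD2_c36 LD3_c30)) :=
  Lgr Lrot48 (Lpr_ff (f592065 IH) (Lpn (LP (LK LD1_c27 LD2_c36 LD3_c30))))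
theorem f228702 : Led Lsl_ct (LP (LK LD1_c17 LD2_c48 LD3_c8)) = (LP (LK LD1_c27 LD2_c35 LD3_c28)) :=
  Lre_c IH (LK LD1_c17 LD2_c48 LD3_c8) (LK LD1_c27 LD2_c35 LD3_c28) Lrfl Lrfl
theorem f228703 : Led Lsl_ct (LP (LK LD1_c5 LD2_c23 LD3_c0)) = (LP (LK LD1_c10 LD2_c36 LD3_c26)) :=
  Lre_c IH (LK LD1_c5 LD2_c23 LD3_c0) (LK LD1_c10 LD2_c36 LD3_c26) Lrfl Lrfl
theorem f228705 : Led Lsl_ct (LP (LK LD1_c19 LD2_c12 LD3_c46)) = (LP (LK LD1_c10 LD2_c36 LD3_c25)) :=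
  Lre_c IH (LK LD1_c19 LD2_c12 LD3_c46) (LK LD1_c10 LD2_c36 LD3_c25) Lrfl Lrfl
theorem f228706 : Led Lsl_bt (LP (LK LD1_c27 LD2_c35 LD3_c28)) = (LP (LK LD1_c19 LD2_c12 LD3_c46)) :=
  Lgr Lrot128 (Lpe (f228702 IH) (Lpr_bf (K68.f228691 IH) (Lpe (f228703 IH) (Lpe (f228704 IH) (Lpe (f228705 IH) (Lpn (LP (LK LD1_c19 LD2_c12 LD3_c46))))))))
theorem f403253 : Led Lsl_bt (LP (LK LD1_c27 LD2_c36 LD3_c30)) = (LP (LK LD1_c17 LD2_c49 LD3_c23)) :=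
  Lre_b IH (LK LD1_c27 LD2_c36 LD3_c30) (LK LD1_c17 LD2_c49 LD3_c23) Lrfl Lrfl
theorem f592073 : Led Lsl_ff (LP (LK LD1_c27 LD2_c35 LD3_c28)) = (LP (LK LD1_c17 LD2_c49 LD3_c23)) :=
  Lgr Lrot25 (Lpr_bt (f228706 IH) (Lpr_ft (f592071 IH) (Lpr_bt (f403253 IH) (Lpn (LP (LK LD1_c17 LD2_c49 LD3_c23))))))
theorem f228727 : Led Lsl_ct (LP (LK LD1_c27 LD2_c35 LD3_c28)) = (LP (LK LD1_c17 LD2_c48 LD3_c8)) :=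
  Lre_c IH (LK LD1_c27 LD2_c35 LD3_c28) (LK LD1_c17 LD2_c48 LD3_c8) Lrfl Lrfl
theorem f278679 : Led Lsl_ct (LP (LK LD1_c9 LD2_c41 LD3_c25)) = (LP (LK LD1_c17 LD2_c49 LD3_c23)) :=
  Lre_c IH (LK LD1_c9 LD2_c41 LD3_c25) (LK LD1_c17 LD2_c49 LD3_c23) Lrfl Lrfl
theorem f592075 : Led Lsl_ft (LP (LK LD1_c17 LD2_c48 LD3_c8)) = (LP (LK LD1_c9 LD2_c41 LD3_c25)) :=
  Lgr Lrot4 (Lpe (f228727 IH) (Lpr_ff (f592073 IH) (Lpe (f278679 IH) (Lpn (LP (LK LD1_c9 LD2_c41 LD3_c25))))))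
theorem f218896 : Led Lsl_gt (LP (LK LD1_c17 LD2_c48 LD3_c9)) = (LP (LK LD1_c9 LD2_c40 LD3_c39)) :=
  Lre_g IH (LK LD1_c17 LD2_c48 LD3_c9) (LK LD1_c9 LD2_c40 LD3_c39) Lrfl Lrfl
theorem f344064 : Led Lsl_gt (LP (LK LD1_c9 LD2_c41 LD3_c27)) = (LP (LK LD1_c17 LD2_c48 LD3_c9)) :=
  Lgr Lrot5 (Lpr_ft (K23.f344054 IH) (Lpr_at (K23.f254922 IH) (Lpe (f218896 IH) (Lpn (LP (LK LD1_c17 LD2_c48 LD3_c9))))))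
theorem f592080 : Led Lsl_af (LP (LK LD1_c17 LD2_c48 LD3_c9)) = (LP (LK LD1_c9 LD2_c41 LD3_c25)) :=
  Lgr Lrot31 (Lpe (f344064 IH) (Lpr_gf (K68.f395076 IH) (Lpr_ft (f592075 IH) (Lpn (LP (LK LD1_c9 LD2_c41 LD3_c25))))))
theorem f254937 : Led Lsl_bt (LP (LK LD1_c17 LD2_c48 LD3_c9)) = (LP (LK LD1_c27 LD2_c35 LD3_c30)) :=
  Lre_b IH (LK LD1_c17 LD2_c48 LD3_c9) (LK LD1_c27 LD2_c35 LD3_c30) Lrfl Lrfl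
theorem f395066 : Led Lsl_bt (LP (LK LD1_c17 LD2_c49 LD3_c22)) = (LP (LK LD1_c9 LD2_c41 LD3_c25)) :=
  Lre_b IH (LK LD1_c17 LD2_c49 LD3_c22) (LK LD1_c9 LD2_c41 LD3_c25) Lrfl Lrfl
theorem f403211 : Led Lsl_at (LP (LK LD1_c15 LD2_c51 LD3_c23)) = (LP (LK LD1_c17 LD2_c50 LD3_c5)) :=
  Lgr Lrot100 (Lpr_af (K38.f403209 IH) (Lpn (LP (LK LD1_c17 LD2_c50 LD3_c5))))
theorem f403242 : Led Lsl_ff (LP (LK LD1_c15 LD2_c51 LD3_c23)) = (LP (LK LD1_c17 LD2_c50 LD3_c4)) :=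
  Lgr Lrot30 (Lpr_at (f403211 IH) (Lpe (K38.f403207 IH) (Lpr_at (K38.f403236 IH) (Lpn (LP (LK LD1_c17 LD2_c50 LD3_c4))))))
theorem f403246 : Led Lsl_ft (LP (LK LD1_c15 LD2_c51 LD3_c23)) = (LP (LK LD1_c17 LD2_c50 LD3_c4)) :=
  Lgr Lrot48 (Lpr_ff (f403242 IH) (Lpn (LP (LK LD1_c17 LD2_c50 LD3_c4))))
theorem f403238 : Led Lsl_af (LP (LK LD1_c15 LD2_c51 LD3_c24)) = (LP (LK LD1_c17 LD2_c50 LD3_c4)) :=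
  Lgr Lrot0 (Lpr_at (K38.f403236 IH) (Lpn (LP (LK LD1_c17 LD2_c50 LD3_c4))))
theorem f403248 : Led Lsl_gt (LP (LK LD1_c17 LD2_c50 LD3_c6)) = (LP (LK LD1_c15 LD2_c51 LD3_c24)) :=
  Lgr Lrot46 (Lpe (K52.f349256 IH) (Lpr_ft (f403246 IH) (Lpe (f403238 IH) (Lpn (LP (LK LD1_c15 LD2_c51 LD3_c24))))))
theorem f349194 : Led Lsl_ct (LP (LK LD1_c9 LD2_c41 LD3_c55)) = (LP (LK LD1_c17 LD2_c50 LD3_c6)) :=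
  Lre_c IH (LK LD1_c9 LD2_c41 LD3_c55) (LK LD1_c17 LD2_c50 LD3_c6) Lrfl Lrfl
theorem f344173 : Led Lsl_ff (LP (LK LD1_c2 LD2_c25 LD3_c21)) = (LP (LK LD1_c4 LD2_c54 LD3_c32)) :=
  Lgr Lrot52 (Lpr_at (K68.f344168 IH) (Lpe (K15.f221550 IH) (Lpe (K13.f218392 IH) (Lpn (LP (LK LD1_c4 LD2_c54 LD3_c32))))))
theorem f349213 : Led Lsl_af (LP (LK LD1_c4 LD2_c54 LD3_c32)) = (LP (LK LD1_c2 LD2_c25 LD3_c30)) :=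
  Lgr Lrot45 (Lpe (f344173 IH) (Lpr_at (K68.f344168 IH) (Lpr_ft (K26.f349200 IH) (Lpn (LP (LK LD1_c2 LD2_c25 LD3_c30))))))
theorem f254933 : Led Lsl_at (LP (LK LD1_c9 LD2_c40 LD3_c39)) = (LP (LK LD1_c17 LD2_c48 LD3_c10)) :=
  Lre_a IH (LK LD1_c9 LD2_c40 LD3_c39) (LK LD1_c17 LD2_c48 LD3_c10) Lrfl Lrfl
theorem f349223 : Led Lsl_bt (LP (LK LD1_c17 LD2_c48 LD3_c10)) = (LP (LK LD1_c9 LD2_c41 LD3_c55)) :=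
  Lgr Lrot62 (Lpe (f254933 IH) (Lpe (K23.f101438 IH) (Lpr_af (f349213 IH) (Lpe (K38.f263730 IH) (Lpe (K38.f349197 IH) (Lpn (LP (LK LD1_c9 LD2_c41 LD3_c55))))))))
theorem f349225 : Led Lsl_bf (LP (LK LD1_c17 LD2_c48 LD3_c10)) = (LP (LK LD1_c9 LD2_c41 LD3_c55)) :=
  Lgr Lrot24 (Lpr_bt (f349223 IH) (Lpn (LP (LK LD1_c9 LD2_c41 LD3_c55))))
theorem f344066 : Led Lsl_ft (LP (LK LD1_c4 LD2_c54 LD3_c58)) = (LP (LK LD1_c9 LD2_c40 LD3_c39)) :=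
  Lgr Lrot101 (Lpe (K68.f223331 IH) (Lpr_ff (K23.f344062 IH) (Lpe (f254933 IH) (Lpn (LP (LK LD1_c9 LD2_c40 LD3_c39))))))
theorem f395063 : Led Lsl_gt (LP (LK LD1_c9 LD2_c41 LD3_c25)) = (LP (LK LD1_c17 LD2_c48 LD3_c10)) :=
  Lgr Lrot46 (Lpe (f223297 IH) (Lpr_ft (f344066 IH) (Lpr_at (f254933 IH) (Lpn (LP (LK LD1_c17 LD2_c48 LD3_c10))))))
theorem f403106 : Led Lsl_gf (LP (LK LD1_c10 LD2_c35 LD3_c5)) = (LP (LK LD1_c10 LD2_c37 LD3_c35)) :=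
  Lgr Lrot47 (Lpr_gt (K39.f312922 IH) (Lpr_af (K38.f403097 IH) (Lpe (K38.f403069 IH) (Lpn (LP (LK LD1_c10 LD2_c37 LD3_c35))))))
theorem f312985 : Led Lsl_gt (LP (LK LD1_c5 LD2_c23 LD3_c1)) = (LP (LK LD1_c10 LD2_c31 LD3_c15)) :=
  Lgr Lrot5 (Lpr_ft (K42.f312908 IH) (Lpr_at (K38.f169224 IH) (Lpe (K45.f169235 IH) (Lpn (LP (LK LD1_c10 LD2_c31 LD3_c15))))))
theorem f403250 : Led Lsl_ct (LP (LK LD1_c17 LD2_c49 LD3_c22)) = (LP (LK LD1_c10 LD2_c31 LD3_c15)) :=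
  Lgr Lrot63 (Lpr_bt (f395066 IH) (Lpr_gt (f395063 IH) (Lpr_bf (f349225 IH) (Lpr_ct (f349194 IH) (Lpr_gt (f403248 IH) (Lpe (K16.f221556 IH) (Lpr_bt (K16.f220761 IH) (Lpe (f403106 IH) (Lpr_ct (K42.f312712 IH) (Lpr_gt (f312985 IH) (Lpn (LP (LK LD1_c10 LD2_c31 LD3_c15)))))))))))))
theorem f312966 : Led Lsl_ct (LP (LK LD1_c5 LD2_c22 LD3_c61)) = (LP (LK LD1_c10 LD2_c36 LD3_c22)) :=
  Lre_c IH (LK LD1_c5 LD2_c22 LD3_c61) (LK LD1_c10 LD2_c36 LD3_c22) Lrfl Lrfl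
theorem f591812 : Led Lsl_af (LP (LK LD1_c17 LD2_c49 LD3_c22)) = (LP (LK LD1_c10 LD2_c36 LD3_c22)) :=
  Lgr Lrot68 (Lpr_ct (f403250 IH) (Lpr_at (f591809 IH) (Lpr_ct (f312966 IH) (Lpn (LP (LK LD1_c10 LD2_c36 LD3_c22))))))
theorem f591509 : Led Lsl_bt (LP (LK LD1_c19 LD2_c12 LD3_c40)) = (LP (LK LD1_c10 LD2_c36 LD3_c22)) :=
  Lre_b IH (LK LD1_c19 LD2_c12 LD3_c40) (LK LD1_c10 LD2_c36 LD3_c22) Lrfl Lrfl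
theorem f592084 : Led Lsl_at (LP (LK LD1_c27 LD2_c35 LD3_c30)) = (LP (LK LD1_c19 LD2_c12 LD3_c40)) :=
  Lgr Lrot67 (Lpe (f254937 IH) (Lpr_af (f592080 IH) (Lpe (f395066 IH) (Lpr_af (f591812 IH) (Lpe (f591509 IH) (Lpn (LP (LK LD1_c19 LD2_c12 LD3_c40))))))))
theorem f589027 : Led Lsl_ct (LP (LK LD1_c7 LD2_c13 LD3_c50)) = (LP (LK LD1_c10 LD2_c36 LD3_c27)) :=
  Lgr Lrot152 (Lpe (K39.f93098 IH) (Lpe (K39.f556198 IH) (Lpe (K42.f556192 IH) (Lpe (K43.f573521 IH) (Lpe (K45.f587308 IH) (Lpr_ct (K45.f588965 IH) (Lpe (K38.f550013 IH) (Lpr_cf (K39.f550003 IH) (Lpr_gf (K38.f549974 IH) (Lpn (LP (LK LD1_c10 LD2_c36 LD3_c27))))))))))))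
theorem f93091 : Led Lsl_ct (LP (LK LD1_c13 LD2_c41 LD3_c44)) = (LP (LK LD1_c7 LD2_c14 LD3_c14)) :=
  Lre_c IH (LK LD1_c13 LD2_c41 LD3_c44) (LK LD1_c7 LD2_c14 LD3_c14) Lrfl Lrfl
theorem f591507 : Led Lsl_df (LP (LK LD1_c13 LD2_c41 LD3_c44)) = (LP (LK LD1_c10 LD2_c36 LD3_c22)) :=
  Lgr Lrot106 (Lpr_ct (f93091 IH) (Lpr_dt (K8.f93090 IH) (Lpr_ct (K8.f93085 IH) (Lpr_dt (K39.f93092 IH) (Lpr_ct (f589027 IH) (Lpe (K47.f591505 IH) (Lpr_ff (K47.f591499 IH) (Lpr_dt (K42.f312967 IH) (Lpr_ct (f312966 IH) (Lpn (LP (LK LD1_c10 LD2_c36 LD3_c22))))))))))))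
theorem f160365 : Led Lsl_et (LP (LK LD1_c13 LD2_c41 LD3_c44)) = (LP (LK LD1_c7 LD2_c14 LD3_c18)) :=
  Lre_e IH (LK LD1_c13 LD2_c41 LD3_c44) (LK LD1_c7 LD2_c14 LD3_c18) Lrfl Lrfl
theorem f565976 : Led Lsl_et (LP (LK LD1_c13 LD2_c41 LD3_c50)) = (LP (LK LD1_c16 LD2_c31 LD3_c32)) :=
  Lgr Lrot158 (Lpe (K29.f439592 IH) (Lpr_ef (K41.f565972 IH) (Lpe (K4.f99286 IH) (Lpn (LP (LK LD1_c16 LD2_c31 LD3_c32))))))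
theorem f591514 : Led Lsl_et (LP (LK LD1_c19 LD2_c12 LD3_c41)) = (LP (LK LD1_c10 LD2_c36 LD3_c22)) :=
  Lre_e IH (LK LD1_c19 LD2_c12 LD3_c41) (LK LD1_c10 LD2_c36 LD3_c22) Lrfl Lrfl
theorem f591515 : Led Lsl_dt (LP (LK LD1_c16 LD2_c31 LD3_c32)) = (LP (LK LD1_c19 LD2_c12 LD3_c41)) :=
  Lgr Lrot77 (Lpe (f565976 IH) (Lpe (K28.f17486 IH) (Lpe (f160365 IH) (Lpr_df (f591507 IH) (Lpe (f591514 IH) (Lpn (LP (LK LD1_c19 LD2_c12 LD3_c41))))))))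
theorem f38163 : Led Lsl_ft (LP (LK LD1_c8 LD2_c50 LD3_c30)) = (LP (LK LD1_c16 LD2_c31 LD3_c32)) :=
  Lre_f IH (LK LD1_c8 LD2_c50 LD3_c30) (LK LD1_c16 LD2_c31 LD3_c32) Lrfl Lrfl
theorem f99273 : Led Lsl_dt (LP (LK LD1_c16 LD2_c31 LD3_c31)) = (LP (LK LD1_c8 LD2_c50 LD3_c30)) :=
  Lre_d IH (LK LD1_c16 LD2_c31 LD3_c31) (LK LD1_c8 LD2_c50 LD3_c30) Lrfl Lrfl
theorem f591523 : Led Lsl_ff (LP (LK LD1_c16 LD2_c31 LD3_c31)) = (LP (LK LD1_c19 LD2_c12 LD3_c41)) :=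
  Lgr Lrot19 (Lpr_dt (f99273 IH) (Lpr_ft (f38163 IH) (Lpr_dt (f591515 IH) (Lpn (LP (LK LD1_c19 LD2_c12 LD3_c41))))))
theorem f99272 : Led Lsl_dt (LP (LK LD1_c8 LD2_c45 LD3_c49)) = (LP (LK LD1_c16 LD2_c24 LD3_c0)) :=
  Lre_d IH (LK LD1_c8 LD2_c45 LD3_c49) (LK LD1_c16 LD2_c24 LD3_c0) Lrfl Lrfl
theorem f99274 : Led Lsl_bt (LP (LK LD1_c16 LD2_c24 LD3_c0)) = (LP (LK LD1_c16 LD2_c31 LD3_c31)) :=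
  Lgr Lrot95 (Lpe (f99272 IH) (Lpr_bf (K4.f99257 IH) (Lpe (f99273 IH) (Lpn (LP (LK LD1_c16 LD2_c31 LD3_c31))))))
theorem f101858 : Led Lsl_bf (LP (LK LD1_c16 LD2_c24 LD3_c0)) = (LP (LK LD1_c16 LD2_c31 LD3_c31)) :=
  Lgr Lrot24 (Lpr_bt (f99274 IH) (Lpn (LP (LK LD1_c16 LD2_c31 LD3_c31))))
theorem f101870 : Led Lsl_ft (LP (LK LD1_c16 LD2_c24 LD3_c0)) = (LP (LK LD1_c26 LD2_c21 LD3_c56)) :=
  Lre_f IH (LK LD1_c16 LD2_c24 LD3_c0) (LK LD1_c26 LD2_c21 LD3_c56) Lrfl Lrfl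
theorem f591529 : Led Lsl_bt (LP (LK LD1_c26 LD2_c21 LD3_c56)) = (LP (LK LD1_c19 LD2_c12 LD3_c41)) :=
  Lgr Lrot35 (Lpe (f101870 IH) (Lpr_bf (f101858 IH) (Lpr_ff (f591523 IH) (Lpn (LP (LK LD1_c19 LD2_c12 LD3_c41))))))
theorem f278297 : Led Lsl_bt (LP (LK LD1_c10 LD2_c36 LD3_c22)) = (LP (LK LD1_c19 LD2_c12 LD3_c40)) :=
  Lre_b IH (LK LD1_c10 LD2_c36 LD3_c22) (LK LD1_c19 LD2_c12 LD3_c40) Lrfl Lrfl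
theorem f591548 : Led Lsl_ef (LP (LK LD1_c26 LD2_c21 LD3_c56)) = (LP (LK LD1_c19 LD2_c12 LD3_c40)) :=
  Lgr Lrot29 (Lpr_bt (f591529 IH) (Lpr_et (f591514 IH) (Lpr_bt (f278297 IH) (Lpn (LP (LK LD1_c19 LD2_c12 LD3_c40))))))
theorem f101855 : Led Lsl_dt (LP (LK LD1_c16 LD2_c24 LD3_c1)) = (LP (LK LD1_c26 LD2_c21 LD3_c56)) :=
  Lre_d IH (LK LD1_c16 LD2_c24 LD3_c1) (LK LD1_c26 LD2_c21 LD3_c56) Lrfl Lrfl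
theorem f17933 : Led Lsl_dt (LP (LK LD1_c30 LD2_c52 LD3_c54)) = (LP (LK LD1_c23 LD2_c3 LD3_c58)) :=
  Lre_d IH (LK LD1_c30 LD2_c52 LD3_c54) (LK LD1_c23 LD2_c3 LD3_c58) Lrfl Lrfl
theorem f544295 : Led Lsl_at (LP (LK LD1_c26 LD2_c21 LD3_c56)) = (LP (LK LD1_c30 LD2_c52 LD3_c54)) :=
  Lgr Lrot51 (Lpe (f101855 IH) (Lpr_af (K37.f544289 IH) (Lpe (f17933 IH) (Lpn (LP (LK LD1_c30 LD2_c52 LD3_c54))))))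
theorem f592094 : Led Lsl_ef (LP (LK LD1_c27 LD2_c35 LD3_c30)) = (LP (LK LD1_c30 LD2_c52 LD3_c54)) :=
  Lgr Lrot20 (Lpr_at (f592084 IH) (Lpe (f591548 IH) (Lpr_at (f544295 IH) (Lpn (LP (LK LD1_c30 LD2_c52 LD3_c54))))))
theorem f592098 : Led Lsl_et (LP (LK LD1_c27 LD2_c35 LD3_c30)) = (LP (LK LD1_c30 LD2_c52 LD3_c54)) :=
  Lgr Lrot87 (Lpr_ef (f592094 IH) (Lpn (LP (LK LD1_c30 LD2_c52 LD3_c54))))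
theorem f254899 : Led Lsl_bt (LP (LK LD1_c2 LD2_c11 LD3_c5)) = (LP (LK LD1_c4 LD2_c27 LD3_c52)) :=
  Lre_b IH (LK LD1_c2 LD2_c11 LD3_c5) (LK LD1_c4 LD2_c27 LD3_c52) Lrfl Lrfl
theorem f254900 : Led Lsl_gt (LP (LK LD1_c4 LD2_c27 LD3_c52)) = (LP (LK LD1_c8 LD2_c53 LD3_c36)) :=
  Lre_g IH (LK LD1_c4 LD2_c27 LD3_c52) (LK LD1_c8 LD2_c53 LD3_c36) Lrfl Lrfl
theorem f254901 : Led Lsl_bt (LP (LK LD1_c16 LD2_c37 LD3_c49)) = (LP (LK LD1_c8 LD2_c53 LD3_c36)) :=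
  Lre_b IH (LK LD1_c16 LD2_c37 LD3_c49) (LK LD1_c8 LD2_c53 LD3_c36) Lrfl Lrfl
theorem f254935 : Led Lsl_cf (LP (LK LD1_c17 LD2_c48 LD3_c9)) = (LP (LK LD1_c16 LD2_c37 LD3_c49)) :=
  Lgr Lrot160 (Lpr_gt (f218896 IH) (Lpr_cf (K23.f254923 IH) (Lpr_bt (K23.f219727 IH) (Lpe (K14.f254891 IH) (Lpr_ct (K14.f191889 IH) (Lpr_gt (K14.f41731 IH) (Lpe (K15.f254898 IH) (Lpr_bt (f254899 IH) (Lpr_gt (f254900 IH) (Lpe (f254901 IH) (Lpn (LP (LK LD1_c16 LD2_c37 LD3_c49)))))))))))))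
theorem f254943 : Led Lsl_ct (LP (LK LD1_c17 LD2_c48 LD3_c9)) = (LP (LK LD1_c16 LD2_c37 LD3_c49)) :=
  Lgr Lrot59 (Lpr_cf (f254935 IH) (Lpn (LP (LK LD1_c16 LD2_c37 LD3_c49))))
theorem f218897 : Led Lsl_bt (LP (LK LD1_c27 LD2_c35 LD3_c30)) = (LP (LK LD1_c17 LD2_c48 LD3_c9)) :=
  Lre_b IH (LK LD1_c27 LD2_c35 LD3_c30) (LK LD1_c17 LD2_c48 LD3_c9) Lrfl Lrfl
theorem f254954 : Led Lsl_ct (LP (LK LD1_c8 LD2_c53 LD3_c36)) = (LP (LK LD1_c16 LD2_c37 LD3_c50)) :=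
  Lre_c IH (LK LD1_c8 LD2_c53 LD3_c36) (LK LD1_c16 LD2_c37 LD3_c50) Lrfl Lrfl
theorem f254955 : Led Lsl_bt (LP (LK LD1_c16 LD2_c37 LD3_c50)) = (LP (LK LD1_c26 LD2_c35 LD3_c19)) :=
  Lre_b IH (LK LD1_c16 LD2_c37 LD3_c50) (LK LD1_c26 LD2_c35 LD3_c19) Lrfl Lrfl
theorem f254956 : Led Lsl_cf (LP (LK LD1_c27 LD2_c35 LD3_c30)) = (LP (LK LD1_c26 LD2_c35 LD3_c19)) :=
  Lgr Lrot97 (Lpr_bt (f218897 IH) (Lpr_ct (f254943 IH) (Lpr_bt (f254901 IH) (Lpr_ct (f254954 IH) (Lpr_bt (f254955 IH) (Lpn (LP (LK LD1_c26 LD2_c35 LD3_c19))))))))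
theorem f254958 : Led Lsl_et (LP (LK LD1_c32 LD2_c11 LD3_c37)) = (LP (LK LD1_c26 LD2_c35 LD3_c19)) :=
  Lre_e IH (LK LD1_c32 LD2_c11 LD3_c37) (LK LD1_c26 LD2_c35 LD3_c19) Lrfl Lrfl
theorem f592100 : Led Lsl_cf (LP (LK LD1_c32 LD2_c11 LD3_c37)) = (LP (LK LD1_c30 LD2_c52 LD3_c54)) :=
  Lgr Lrot39 (Lpr_et (f254958 IH) (Lpe (f254956 IH) (Lpr_et (f592098 IH) (Lpn (LP (LK LD1_c30 LD2_c52 LD3_c54))))))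
theorem f17855 : Led Lsl_dt (LP (LK LD1_c23 LD2_c3 LD3_c58)) = (LP (LK LD1_c30 LD2_c52 LD3_c54)) :=
  Lre_d IH (LK LD1_c23 LD2_c3 LD3_c58) (LK LD1_c30 LD2_c52 LD3_c54) Lrfl Lrfl
theorem f17856 : Led Lsl_dt (LP (LK LD1_c22 LD2_c33 LD3_c19)) = (LP (LK LD1_c13 LD2_c17 LD3_c27)) :=
  Lre_d IH (LK LD1_c22 LD2_c33 LD3_c19) (LK LD1_c13 LD2_c17 LD3_c27) Lrfl Lrfl
theorem f592108 : Led Lsl_dt (LP (LK LD1_c32 LD2_c11 LD3_c37)) = (LP (LK LD1_c30 LD2_c21 LD3_c57)) :=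
  Lgr Lrot120 (Lpr_cf (f592100 IH) (Lpe (f17855 IH) (Lpe (K61.f17854 IH) (Lpe (K43.f17853 IH) (Lpr_cf (K4.f17845 IH) (Lpe (f17856 IH) (Lpr_ft (K4.f17861 IH) (Lpr_at (K41.f17862 IH) (Lpr_cf (K41.f472726 IH) (Lpn (LP (LK LD1_c30 LD2_c21 LD3_c57))))))))))))
theorem f17881 : Led Lsl_dt (LP (LK LD1_c22 LD2_c33 LD3_c18)) = (LP (LK LD1_c30 LD2_c34 LD3_c28)) :=
  Lre_d IH (LK LD1_c22 LD2_c33 LD3_c18) (LK LD1_c30 LD2_c34 LD3_c28) Lrfl Lrfl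
theorem f592110 : Led Lsl_af (LP (LK LD1_c32 LD2_c11 LD3_c37)) = (LP (LK LD1_c30 LD2_c34 LD3_c28)) :=
  Lgr Lrot117 (Lpr_dt (f592108 IH) (Lpe (K41.f472724 IH) (Lpr_dt (f17881 IH) (Lpn (LP (LK LD1_c30 LD2_c34 LD3_c28))))))
theorem f591555 : Led Lsl_et (LP (LK LD1_c26 LD2_c21 LD3_c56)) = (LP (LK LD1_c19 LD2_c12 LD3_c40)) :=
  Lgr Lrot87 (Lpr_ef (f591548 IH) (Lpn (LP (LK LD1_c19 LD2_c12 LD3_c40))))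
theorem f544309 : Led Lsl_cf (LP (LK LD1_c26 LD2_c21 LD3_c56)) = (LP (LK LD1_c30 LD2_c34 LD3_c28)) :=
  Lgr Lrot55 (Lpr_dt (K37.f99289 IH) (Lpr_ct (K37.f99291 IH) (Lpr_dt (K37.f544305 IH) (Lpr_ct (K37.f513205 IH) (Lpr_dt (K37.f17888 IH) (Lpe (K37.f492929 IH) (Lpr_dt (K37.f492937 IH) (Lpr_ct (K37.f17878 IH) (Lpr_dt (K37.f17877 IH) (Lpr_ct (K37.f17876 IH) (Lpr_dt (K37.f17875 IH) (Lpr_ct (K4.f17859 IH) (Lpr_dt (K4.f17879 IH) (Lpr_ct (K62.f17880 IH) (Lpr_dt (f17881 IH) (Lpn (LP (LK LD1_c30 LD2_c34 LD3_c28))))))))))))))))))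
theorem f224291 : Led Lsl_ct (LP (LK LD1_c19 LD2_c12 LD3_c40)) = (LP (LK LD1_c28 LD2_c38 LD3_c47)) :=
  Lre_c IH (LK LD1_c19 LD2_c12 LD3_c40) (LK LD1_c28 LD2_c38 LD3_c47) Lrfl Lrfl
theorem f591557 : Led Lsl_ef (LP (LK LD1_c30 LD2_c34 LD3_c28)) = (LP (LK LD1_c28 LD2_c38 LD3_c47)) :=
  Lgr Lrot28 (Lpe (f544309 IH) (Lpr_et (f591555 IH) (Lpr_ct (f224291 IH) (Lpn (LP (LK LD1_c28 LD2_c38 LD3_c47))))))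
theorem f592135 : Led Lsl_at (LP (LK LD1_c26 LD2_c35 LD3_c19)) = (LP (LK LD1_c28 LD2_c38 LD3_c47)) :=
  Lgr Lrot80 (Lpe (f254958 IH) (Lpr_af (f592110 IH) (Lpr_ef (f591557 IH) (Lpn (LP (LK LD1_c28 LD2_c38 LD3_c47))))))
theorem f224290 : Led Lsl_bt (LP (LK LD1_c28 LD2_c38 LD3_c47)) = (LP (LK LD1_c19 LD2_c12 LD3_c36)) :=
  Lre_b IH (LK LD1_c28 LD2_c38 LD3_c47) (LK LD1_c19 LD2_c12 LD3_c36) Lrfl Lrfl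
theorem f413283 : Led Lsl_bt (LP (LK LD1_c15 LD2_c1 LD3_c33)) = (LP (LK LD1_c24 LD2_c49 LD3_c39)) :=
  Lre_b IH (LK LD1_c15 LD2_c1 LD3_c33) (LK LD1_c24 LD2_c49 LD3_c39) Lrfl Lrfl
theorem f592137 : Led Lsl_af (LP (LK LD1_c16 LD2_c37 LD3_c50)) = (LP (LK LD1_c24 LD2_c49 LD3_c39)) :=
  Lgr Lrot36 (Lpr_bt (f254955 IH) (Lpr_at (f592135 IH) (Lpr_bt (f224290 IH) (Lpe (f591842 IH) (Lpr_bt (f413283 IH) (Lpn (LP (LK LD1_c24 LD2_c49 LD3_c39))))))))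
theorem f254959 : Led Lsl_gt (LP (LK LD1_c26 LD2_c35 LD3_c18)) = (LP (LK LD1_c16 LD2_c37 LD3_c50)) :=
  Lre_g IH (LK LD1_c26 LD2_c35 LD3_c18) (LK LD1_c16 LD2_c37 LD3_c50) Lrfl Lrfl
theorem f226941 : Led Lsl_bt (LP (LK LD1_c24 LD2_c49 LD3_c39)) = (LP (LK LD1_c15 LD2_c1 LD3_c33)) :=
  Lre_b IH (LK LD1_c24 LD2_c49 LD3_c39) (LK LD1_c15 LD2_c1 LD3_c33) Lrfl Lrfl
theorem f591900 : Led Lsl_ff (LP (LK LD1_c24 LD2_c49 LD3_c39)) = (LP (LK LD1_c16 LD2_c37 LD3_c54)) :=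
  Lgr Lrot25 (Lpr_bt (f226941 IH) (Lpr_ft (f591896 IH) (Lpe (f409876 IH) (Lpn (LP (LK LD1_c16 LD2_c37 LD3_c54))))))
theorem f592145 : Led Lsl_gf (LP (LK LD1_c26 LD2_c35 LD3_c18)) = (LP (LK LD1_c16 LD2_c37 LD3_c54)) :=
  Lgr Lrot47 (Lpr_gt (f254959 IH) (Lpr_af (f592137 IH) (Lpr_ff (f591900 IH) (Lpn (LP (LK LD1_c16 LD2_c37 LD3_c54))))))
theorem f278672 : Led Lsl_bt (LP (LK LD1_c16 LD2_c37 LD3_c34)) = (LP (LK LD1_c26 LD2_c34 LD3_c54)) :=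
  Lre_b IH (LK LD1_c16 LD2_c37 LD3_c34) (LK LD1_c26 LD2_c34 LD3_c54) Lrfl Lrfl
theorem f267227 : Led Lsl_et (LP (LK LD1_c4 LD2_c27 LD3_c32)) = (LP (LK LD1_c8 LD2_c52 LD3_c55)) :=
  Lre_e IH (LK LD1_c4 LD2_c27 LD3_c32) (LK LD1_c8 LD2_c52 LD3_c55) Lrfl Lrfl
theorem f321420 : Led Lsl_af (LP (LK LD1_c4 LD2_c27 LD3_c32)) = (LP (LK LD1_c2 LD2_c11 LD3_c10)) :=
  Lgr Lrot50 (Lpr_et (f267227 IH) (Lpr_at (K20.f321414 IH) (Lpr_et (K20.f292359 IH) (Lpn (LP (LK LD1_c2 LD2_c11 LD3_c10))))))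
theorem f402367 : Led Lsl_at (LP (LK LD1_c8 LD2_c52 LD3_c54)) = (LP (LK LD1_c16 LD2_c36 LD3_c15)) :=
  Lre_a IH (LK LD1_c8 LD2_c52 LD3_c54) (LK LD1_c16 LD2_c36 LD3_c15) Lrfl Lrfl
theorem f402368 : Led Lsl_bt (LP (LK LD1_c16 LD2_c36 LD3_c15)) = (LP (LK LD1_c8 LD2_c53 LD3_c59)) :=
  Lgr Lrot62 (Lpe (f402367 IH) (Lpe (K67.f174939 IH) (Lpr_af (f321420 IH) (Lpe (K30.f334190 IH) (Lpe (K38.f293011 IH) (Lpn (LP (LK LD1_c8 LD2_c53 LD3_c59))))))))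
theorem f200975 : Led Lsl_ct (LP (LK LD1_c15 LD2_c17 LD3_c37)) = (LP (LK LD1_c8 LD2_c7 LD3_c30)) :=
  Lre_c IH (LK LD1_c15 LD2_c17 LD3_c37) (LK LD1_c8 LD2_c7 LD3_c30) Lrfl Lrfl
theorem f292993 : Led Lsl_ft (LP (LK LD1_c8 LD2_c53 LD3_c59)) = (LP (LK LD1_c15 LD2_c17 LD3_c37)) :=
  Lgr Lrot4 (Lpe (K31.f292895 IH) (Lpr_ff (K17.f292988 IH) (Lpe (f200975 IH) (Lpn (LP (LK LD1_c15 LD2_c17 LD3_c37))))))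
theorem f402374 : Led Lsl_ff (LP (LK LD1_c16 LD2_c36 LD3_c15)) = (LP (LK LD1_c8 LD2_c53 LD3_c38)) :=
  Lgr Lrot25 (Lpr_bt (f402368 IH) (Lpr_ft (f292993 IH) (Lpe (K16.f276386 IH) (Lpn (LP (LK LD1_c8 LD2_c53 LD3_c38))))))
theorem f402382 : Led Lsl_ft (LP (LK LD1_c16 LD2_c36 LD3_c15)) = (LP (LK LD1_c8 LD2_c53 LD3_c38)) :=
  Lgr Lrot48 (Lpr_ff (f402374 IH) (Lpn (LP (LK LD1_c8 LD2_c53 LD3_c38))))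
theorem f276390 : Led Lsl_at (LP (LK LD1_c8 LD2_c53 LD3_c38)) = (LP (LK LD1_c4 LD2_c27 LD3_c52)) :=
  Lre_a IH (LK LD1_c8 LD2_c53 LD3_c38) (LK LD1_c4 LD2_c27 LD3_c52) Lrfl Lrfl
theorem f402390 : Led Lsl_gt (LP (LK LD1_c16 LD2_c36 LD3_c15)) = (LP (LK LD1_c8 LD2_c53 LD3_c37)) :=
  Lgr Lrot5 (Lpr_ft (f402382 IH) (Lpr_at (f276390 IH) (Lpe (K69.f276246 IH) (Lpn (LP (LK LD1_c8 LD2_c53 LD3_c37))))))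
theorem f402370 : Led Lsl_bf (LP (LK LD1_c16 LD2_c36 LD3_c15)) = (LP (LK LD1_c8 LD2_c53 LD3_c59)) :=
  Lgr Lrot24 (Lpr_bt (f402368 IH) (Lpn (LP (LK LD1_c8 LD2_c53 LD3_c59))))
theorem f228432 : Led Lsl_ct (LP (LK LD1_c25 LD2_c7 LD3_c54)) = (LP (LK LD1_c19 LD2_c11 LD3_c56)) :=
  Lgr Lrot59 (Lpr_cf (K31.f228427 IH) (Lpn (LP (LK LD1_c19 LD2_c11 LD3_c56))))
theorem f393813 : Led Lsl_bt (LP (LK LD1_c26 LD2_c4 LD3_c42)) = (LP (LK LD1_c25 LD2_c7 LD3_c54)) :=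
  Lgr Lrot128 (Lpr_cf (K67.f393809 IH) (Lpr_bf (K31.f388129 IH) (Lpe (K31.f228429 IH) (Lpe (K31.f228426 IH) (Lpe (f228432 IH) (Lpn (LP (LK LD1_c25 LD2_c7 LD3_c54))))))))
theorem f393837 : Led Lsl_bt (LP (LK LD1_c16 LD2_c37 LD3_c14)) = (LP (LK LD1_c25 LD2_c8 LD3_c46)) :=
  Lgr Lrot35 (Lpe (K31.f389926 IH) (Lpe (f393813 IH) (Lpr_ff (K67.f393833 IH) (Lpn (LP (LK LD1_c25 LD2_c8 LD3_c46))))))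
theorem f591921 : Led Lsl_gt (LP (LK LD1_c19 LD2_c12 LD3_c45)) = (LP (LK LD1_c26 LD2_c34 LD3_c27)) :=
  Lgr Lrot65 (Lpr_cf (f591911 IH) (Lpr_bt (f389963 IH) (Lpe (f402390 IH) (Lpr_bf (f402370 IH) (Lpe (K17.f292888 IH) (Lpr_gf (K67.f391470 IH) (Lpe (K30.f199508 IH) (Lpe (K67.f332590 IH) (Lpe (f393837 IH) (Lpr_ct (K31.f289100 IH) (Lpn (LP (LK LD1_c26 LD2_c34 LD3_c27)))))))))))))
theorem f592067 : Led Lsl_gt (LP (LK LD1_c25 LD2_c14 LD3_c40)) = (LP (LK LD1_c26 LD2_c34 LD3_c55)) :=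
  Lgr Lrot65 (Lpr_cf (K30.f332651 IH) (Lpr_bt (K30.f332580 IH) (Lpe (K67.f332590 IH) (Lpe (f393837 IH) (Lpr_ct (K31.f289100 IH) (Lpe (f591921 IH) (Lpr_cf (f591911 IH) (Lpr_gf (f592063 IH) (Lpe (f278672 IH) (Lpr_ct (K54.f278666 IH) (Lpn (LP (LK LD1_c26 LD2_c34 LD3_c55)))))))))))))
theorem f382820 : Led Lsl_at (LP (LK LD1_c16 LD2_c37 LD3_c25)) = (LP (LK LD1_c10 LD2_c47 LD3_c45)) :=
  Lgr Lrot26 (Lpr_ff (K30.f382816 IH) (Lpe (K30.f341416 IH) (Lpr_gt (K30.f341318 IH) (Lpn (LP (LK LD1_c10 LD2_c47 LD3_c45))))))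
theorem f178163 : Led Lsl_at (LP (LK LD1_c19 LD2_c31 LD3_c43)) = (LP (LK LD1_c28 LD2_c54 LD3_c12)) :=
  Lre_a IH (LK LD1_c19 LD2_c31 LD3_c43) (LK LD1_c28 LD2_c54 LD3_c12) Lrfl Lrfl
theorem f382841 : Led Lsl_bt (LP (LK LD1_c28 LD2_c54 LD3_c12)) = (LP (LK LD1_c19 LD2_c54 LD3_c59)) :=
  Lgr Lrot62 (Lpe (f178163 IH) (Lpe (K67.f178148 IH) (Lpe (f382820 IH) (Lpe (K30.f191922 IH) (Lpr_af (K30.f382832 IH) (Lpn (LP (LK LD1_c19 LD2_c54 LD3_c59))))))))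
theorem f592149 : Led Lsl_cf (LP (LK LD1_c26 LD2_c35 LD3_c18)) = (LP (LK LD1_c28 LD2_c54 LD3_c12)) :=
  Lgr Lrot58 (Lpr_gf (f592145 IH) (Lpe (f276260 IH) (Lpr_bt (f276261 IH) (Lpr_gf (f592063 IH) (Lpe (f278672 IH) (Lpr_ct (K54.f278666 IH) (Lpe (f592067 IH) (Lpr_cf (K30.f332651 IH) (Lpe (K31.f332654 IH) (Lpe (f382841 IH) (Lpn (LP (LK LD1_c28 LD2_c54 LD3_c12)))))))))))))
theorem f592155 : Led Lsl_ct (LP (LK LD1_c26 LD2_c35 LD3_c18)) = (LP (LK LD1_c28 LD2_c54 LD3_c12)) :=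
  Lgr Lrot59 (Lpr_cf (f592149 IH) (Lpn (LP (LK LD1_c28 LD2_c54 LD3_c12))))
theorem f592157 : Led Lsl_bf (LP (LK LD1_c26 LD2_c35 LD3_c18)) = (LP (LK LD1_c19 LD2_c55 LD3_c30)) :=
  Lgr Lrot90 (Lpr_ct (f592155 IH) (Lpr_bt (f382841 IH) (Lpr_ct (K30.f261085 IH) (Lpr_bt (K31.f332656 IH) (Lpr_ct (K31.f332660 IH) (Lpn (LP (LK LD1_c19 LD2_c55 LD3_c30))))))))
theorem f384395 : Led Lsl_at (LP (LK LD1_c19 LD2_c32 LD3_c46)) = (LP (LK LD1_c28 LD2_c55 LD3_c4)) :=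
  Lre_a IH (LK LD1_c19 LD2_c32 LD3_c46) (LK LD1_c28 LD2_c55 LD3_c4) Lrfl Lrfl
theorem f385037 : Led Lsl_bt (LP (LK LD1_c28 LD2_c55 LD3_c4)) = (LP (LK LD1_c24 LD2_c49 LD3_c33)) :=
  Lgr Lrot62 (Lpe (f384395 IH) (Lpe (K69.f276249 IH) (Lpe (K30.f384393 IH) (Lpr_bf (K68.f385031 IH) (Lpe (K31.f385017 IH) (Lpn (LP (LK LD1_c24 LD2_c49 LD3_c33))))))))
theorem f592159 : Led Lsl_ft (LP (LK LD1_c26 LD2_c35 LD3_c18)) = (LP (LK LD1_c28 LD2_c55 LD3_c4)) :=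
  Lgr Lrot75 (Lpr_bf (f592157 IH) (Lpe (K31.f385013 IH) (Lpe (f385037 IH) (Lpn (LP (LK LD1_c28 LD2_c55 LD3_c4))))))
theorem f592161 : Led Lsl_ff (LP (LK LD1_c26 LD2_c35 LD3_c18)) = (LP (LK LD1_c28 LD2_c55 LD3_c4)) :=
  Lgr Lrot3 (Lpr_ft (f592159 IH) (Lpn (LP (LK LD1_c28 LD2_c55 LD3_c4))))
theorem f178160 : Led Lsl_bt (LP (LK LD1_c11 LD2_c5 LD3_c21)) = (LP (LK LD1_c19 LD2_c58 LD3_c27)) :=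
  Lre_b IH (LK LD1_c11 LD2_c5 LD3_c21) (LK LD1_c19 LD2_c58 LD3_c27) Lrfl Lrfl
theorem f178161 : Led Lsl_cf (LP (LK LD1_c19 LD2_c31 LD3_c43)) = (LP (LK LD1_c19 LD2_c58 LD3_c27)) :=
  Lgr Lrot97 (Lpr_bt (K67.f178159 IH) (Lpr_ct (K30.f178151 IH) (Lpr_bt (K30.f178118 IH) (Lpr_ct (K20.f178125 IH) (Lpr_bt (f178160 IH) (Lpn (LP (LK LD1_c19 LD2_c58 LD3_c27))))))))
theorem f592151 : Led Lsl_at (LP (LK LD1_c26 LD2_c35 LD3_c18)) = (LP (LK LD1_c19 LD2_c58 LD3_c27)) :=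
  Lgr Lrot107 (Lpr_cf (f592149 IH) (Lpe (f178163 IH) (Lpr_cf (f178161 IH) (Lpn (LP (LK LD1_c19 LD2_c58 LD3_c27))))))
theorem f592168 : Led Lsl_gf (LP (LK LD1_c26 LD2_c33 LD3_c8)) = (LP (LK LD1_c28 LD2_c55 LD3_c4)) :=
  Lgr Lrot47 (Lpr_gt (K67.f261081 IH) (Lpe (f592151 IH) (Lpr_ff (f592161 IH) (Lpn (LP (LK LD1_c28 LD2_c55 LD3_c4))))))
theorem f223319 : Led Lsl_gt (LP (LK LD1_c16 LD2_c36 LD3_c14)) = (LP (LK LD1_c8 LD2_c52 LD3_c54)) :=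
  Lre_g IH (LK LD1_c16 LD2_c36 LD3_c14) (LK LD1_c8 LD2_c52 LD3_c54) Lrfl Lrfl
theorem f181402 : Led Lsl_bt (LP (LK LD1_c3 LD2_c58 LD3_c17)) = (LP (LK LD1_c7 LD2_c57 LD3_c58)) :=
  Lre_b IH (LK LD1_c3 LD2_c58 LD3_c17) (LK LD1_c7 LD2_c57 LD3_c58) Lrfl Lrfl
theorem f413280 : Led Lsl_cf (LP (LK LD1_c16 LD2_c36 LD3_c14)) = (LP (LK LD1_c24 LD2_c49 LD3_c39)) :=
  Lgr Lrot160 (Lpr_gt (f223319 IH) (Lpr_cf (K67.f261063 IH) (Lpr_bt (K67.f226940 IH) (Lpr_gt (K15.f226563 IH) (Lpr_ct (K18.f177854 IH) (Lpr_gt (K16.f226936 IH) (Lpe (K18.f190815 IH) (Lpr_bt (f181402 IH) (Lpr_gt (f181403 IH) (Lpe (f226941 IH) (Lpn (LP (LK LD1_c24 LD2_c49 LD3_c39)))))))))))))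
theorem f413290 : Led Lsl_gt (LP (LK LD1_c19 LD2_c58 LD3_c27)) = (LP (LK LD1_c24 LD2_c49 LD3_c39)) :=
  Lgr Lrot82 (Lpe (f178160 IH) (Lpr_ct (K30.f178132 IH) (Lpe (K20.f178117 IH) (Lpe (K20.f178099 IH) (Lpr_bt (K30.f178918 IH) (Lpe (K15.f226563 IH) (Lpe (K67.f226940 IH) (Lpe (K67.f261063 IH) (Lpe (f223319 IH) (Lpr_cf (f413280 IH) (Lpn (LP (LK LD1_c24 LD2_c49 LD3_c39)))))))))))))
theorem f384345 : Led Lsl_bt (LP (LK LD1_c19 LD2_c32 LD3_c46)) = (LP (LK LD1_c10 LD2_c48 LD3_c39)) :=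
  Lre_b IH (LK LD1_c19 LD2_c32 LD3_c46) (LK LD1_c10 LD2_c48 LD3_c39) Lrfl Lrfl
theorem f384405 : Led Lsl_ft (LP (LK LD1_c19 LD2_c58 LD3_c27)) = (LP (LK LD1_c19 LD2_c32 LD3_c46)) :=
  Lgr Lrot75 (Lpe (f178160 IH) (Lpr_ff (K30.f384403 IH) (Lpe (f384345 IH) (Lpn (LP (LK LD1_c19 LD2_c32 LD3_c46))))))
theorem f413292 : Led Lsl_gf (LP (LK LD1_c28 LD2_c55 LD3_c4)) = (LP (LK LD1_c24 LD2_c49 LD3_c39)) :=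
  Lgr Lrot76 (Lpe (f384395 IH) (Lpe (f384405 IH) (Lpr_gt (f413290 IH) (Lpn (LP (LK LD1_c24 LD2_c49 LD3_c39))))))
theorem f591892 : Led Lsl_ft (LP (LK LD1_c24 LD2_c49 LD3_c39)) = (LP (LK LD1_c16 LD2_c37 LD3_c54)) :=
  Lgr Lrot75 (Lpe (f413283 IH) (Lpr_ff (f591888 IH) (Lpe (f278173 IH) (Lpn (LP (LK LD1_c16 LD2_c37 LD3_c54))))))
theorem f592170 : Led Lsl_af (LP (LK LD1_c26 LD2_c33 LD3_c8)) = (LP (LK LD1_c16 LD2_c37 LD3_c54)) :=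
  Lgr Lrot31 (Lpr_gf (f592168 IH) (Lpr_gf (f413292 IH) (Lpr_ft (f591892 IH) (Lpn (LP (LK LD1_c16 LD2_c37 LD3_c54))))))
theorem f592139 : Led Lsl_at (LP (LK LD1_c16 LD2_c37 LD3_c50)) = (LP (LK LD1_c24 LD2_c49 LD3_c39)) :=
  Lgr Lrot100 (Lpr_af (f592137 IH) (Lpn (LP (LK LD1_c24 LD2_c49 LD3_c39))))
theorem f592178 : Led Lsl_ft (LP (LK LD1_c26 LD2_c33 LD3_c8)) = (LP (LK LD1_c16 LD2_c37 LD3_c50)) :=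
  Lgr Lrot101 (Lpr_af (f592170 IH) (Lpe (f591892 IH) (Lpe (f592139 IH) (Lpn (LP (LK LD1_c16 LD2_c37 LD3_c50))))))
theorem f592184 : Led Lsl_ff (LP (LK LD1_c26 LD2_c33 LD3_c8)) = (LP (LK LD1_c16 LD2_c37 LD3_c50)) :=
  Lgr Lrot3 (Lpr_ft (f592178 IH) (Lpn (LP (LK LD1_c16 LD2_c37 LD3_c50))))
theorem f592188 : Led Lsl_ft (LP (LK LD1_c16 LD2_c36 LD3_c13)) = (LP (LK LD1_c8 LD2_c53 LD3_c36)) :=
  Lgr Lrot4 (Lpe (K67.f261083 IH) (Lpr_ff (f592184 IH) (Lpe (f254954 IH) (Lpn (LP (LK LD1_c8 LD2_c53 LD3_c36))))))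
theorem f274883 : Led Lsl_bt (LP (LK LD1_c17 LD2_c49 LD3_c27)) = (LP (LK LD1_c16 LD2_c36 LD3_c13)) :=
  Lgr Lrot92 (Lpr_ct (K67.f223337 IH) (Lpr_gt (K67.f223336 IH) (Lpe (K67.f223296 IH) (Lpr_bt (K23.f223284 IH) (Lpr_gt (K16.f274879 IH) (Lpr_ct (K16.f7846 IH) (Lpe (K15.f261069 IH) (Lpe (K15.f220857 IH) (Lpr_bt (K67.f174939 IH) (Lpr_gt (K67.f174940 IH) (Lpn (LP (LK LD1_c16 LD2_c36 LD3_c13)))))))))))))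
theorem f254938 : Led Lsl_bt (LP (LK LD1_c8 LD2_c53 LD3_c36)) = (LP (LK LD1_c16 LD2_c37 LD3_c49)) :=
  Lre_b IH (LK LD1_c8 LD2_c53 LD3_c36) (LK LD1_c16 LD2_c37 LD3_c49) Lrfl Lrfl
theorem f592190 : Led Lsl_ff (LP (LK LD1_c17 LD2_c49 LD3_c27)) = (LP (LK LD1_c16 LD2_c37 LD3_c49)) :=
  Lgr Lrot25 (Lpr_bt (f274883 IH) (Lpr_ft (f592188 IH) (Lpr_bt (f254938 IH) (Lpn (LP (LK LD1_c16 LD2_c37 LD3_c49))))))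
theorem f592198 : Led Lsl_ft (LP (LK LD1_c17 LD2_c49 LD3_c27)) = (LP (LK LD1_c16 LD2_c37 LD3_c49)) :=
  Lgr Lrot48 (Lpr_ff (f592190 IH) (Lpn (LP (LK LD1_c16 LD2_c37 LD3_c49))))
theorem f592086 : Led Lsl_at (LP (LK LD1_c16 LD2_c37 LD3_c49)) = (LP (LK LD1_c17 LD2_c49 LD3_c23)) :=
  Lgr Lrot107 (Lpe (f254943 IH) (Lpr_af (f592080 IH) (Lpe (f223298 IH) (Lpn (LP (LK LD1_c17 LD2_c49 LD3_c23))))))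
theorem f592203 : Led Lsl_af (LP (LK LD1_c17 LD2_c49 LD3_c27)) = (LP (LK LD1_c27 LD2_c35 LD3_c28)) :=
  Lgr Lrot45 (Lpr_ft (f592198 IH) (Lpr_at (f592086 IH) (Lpe (f592073 IH) (Lpn (LP (LK LD1_c27 LD2_c35 LD3_c28))))))
theorem f592267 : Led Lsl_gf (LP (LK LD1_c19 LD2_c32 LD3_c10)) = (LP (LK LD1_c17 LD2_c49 LD3_c23)) :=
  Lgr Lrot47 (Lpe (K67.f274887 IH) (Lpr_af (f592203 IH) (Lpr_ff (f592073 IH) (Lpn (LP (LK LD1_c17 LD2_c49 LD3_c23))))))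
theorem f403252 : Led Lsl_bt (LP (LK LD1_c9 LD2_c41 LD3_c25)) = (LP (LK LD1_c17 LD2_c49 LD3_c22)) :=
  Lre_b IH (LK LD1_c9 LD2_c41 LD3_c25) (LK LD1_c17 LD2_c49 LD3_c22) Lrfl Lrfl
theorem f173993 : Led Lsl_ct (LP (LK LD1_c10 LD2_c48 LD3_c61)) = (LP (LK LD1_c5 LD2_c28 LD3_c56)) :=
  Lre_c IH (LK LD1_c10 LD2_c48 LD3_c61) (LK LD1_c5 LD2_c28 LD3_c56) Lrfl Lrfl
theorem f173994 : Led Lsl_bt (LP (LK LD1_c10 LD2_c48 LD3_c61)) = (LP (LK LD1_c19 LD2_c33 LD3_c20)) :=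
  Lre_b IH (LK LD1_c10 LD2_c48 LD3_c61) (LK LD1_c19 LD2_c33 LD3_c20) Lrfl Lrfl
theorem f403260 : Led Lsl_gf (LP (LK LD1_c17 LD2_c49 LD3_c22)) = (LP (LK LD1_c19 LD2_c33 LD3_c20)) :=
  Lgr Lrot181 (Lpr_ct (f403250 IH) (Lpr_gt (K45.f169235 IH) (Lpe (K41.f169165 IH) (Lpr_bt (K41.f169227 IH) (Lpe (K13.f226904 IH) (Lpe (K30.f173948 IH) (Lpr_ct (K30.f172864 IH) (Lpr_gt (K30.f173954 IH) (Lpe (f173993 IH) (Lpr_bt (f173994 IH) (Lpn (LP (LK LD1_c19 LD2_c33 LD3_c20)))))))))))))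
theorem f173988 : Led Lsl_bt (LP (LK LD1_c19 LD2_c33 LD3_c22)) = (LP (LK LD1_c10 LD2_c49 LD3_c4)) :=
  Lre_b IH (LK LD1_c19 LD2_c33 LD3_c22) (LK LD1_c10 LD2_c49 LD3_c4) Lrfl Lrfl
theorem f592271 : Led Lsl_cf (LP (LK LD1_c19 LD2_c32 LD3_c10)) = (LP (LK LD1_c19 LD2_c33 LD3_c22)) :=
  Lgr Lrot58 (Lpr_gf (f592267 IH) (Lpe (f278679 IH) (Lpr_bt (f403252 IH) (Lpr_gf (f403260 IH) (Lpe (f173994 IH) (Lpr_ct (f173993 IH) (Lpe (K30.f173954 IH) (Lpe (K30.f172864 IH) (Lpe (f173987 IH) (Lpe (f173988 IH) (Lpn (LP (LK LD1_c19 LD2_c33 LD3_c22)))))))))))))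
theorem f592274 : Led Lsl_ct (LP (LK LD1_c19 LD2_c32 LD3_c10)) = (LP (LK LD1_c19 LD2_c33 LD3_c22)) :=
  Lgr Lrot59 (Lpr_cf (f592271 IH) (Lpn (LP (LK LD1_c19 LD2_c33 LD3_c22))))
theorem f173042 : Led Lsl_ct (LP (LK LD1_c27 LD2_c38 LD3_c45)) = (LP (LK LD1_c17 LD2_c52 LD3_c17)) :=
  Lre_c IH (LK LD1_c27 LD2_c38 LD3_c45) (LK LD1_c17 LD2_c52 LD3_c17) Lrfl Lrfl
theorem f592278 : Led Lsl_df (LP (LK LD1_c17 LD2_c52 LD3_c17)) = (LP (LK LD1_c19 LD2_c33 LD3_c22)) :=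
  Lgr Lrot162 (Lpe (f173042 IH) (Lpe (K69.f591463 IH) (Lpr_cf (K69.f591424 IH) (Lpe (K69.f246462 IH) (Lpr_dt (K69.f223333 IH) (Lpr_gt (f223297 IH) (Lpr_ct (f278679 IH) (Lpe (f592267 IH) (Lpr_ct (f592274 IH) (Lpn (LP (LK LD1_c19 LD2_c33 LD3_c22))))))))))))
theorem f592273 : Led Lsl_bt (LP (LK LD1_c10 LD2_c49 LD3_c4)) = (LP (LK LD1_c19 LD2_c33 LD3_c22)) :=
  Lre_b IH (LK LD1_c10 LD2_c49 LD3_c4) (LK LD1_c19 LD2_c33 LD3_c22) Lrfl Lrfl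
theorem f592281 : Led Lsl_dt (LP (LK LD1_c9 LD2_c43 LD3_c9)) = (LP (LK LD1_c10 LD2_c49 LD3_c4)) :=
  Lgr Lrot79 (Lpe (K69.f173041 IH) (Lpr_df (f592278 IH) (Lpe (f592273 IH) (Lpn (LP (LK LD1_c10 LD2_c49 LD3_c4))))))
theorem f592283 : Led Lsl_df (LP (LK LD1_c9 LD2_c43 LD3_c9)) = (LP (LK LD1_c10 LD2_c49 LD3_c4)) :=
  Lgr Lrot38 (Lpr_dt (f592281 IH) (Lpn (LP (LK LD1_c10 LD2_c49 LD3_c4))))
theorem f173039 : Led Lsl_dt (LP (LK LD1_c4 LD2_c55 LD3_c43)) = (LP (LK LD1_c2 LD2_c25 LD3_c40)) :=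
  Lre_d IH (LK LD1_c4 LD2_c55 LD3_c43) (LK LD1_c2 LD2_c25 LD3_c40) Lrfl Lrfl
def v4541 : LQ := Led Lsl_gf (LP (LK LD1_c2 LD2_c25 LD3_c58))
theorem f636029 : Led Lsl_gf (LP (LK LD1_c2 LD2_c25 LD3_c58)) = v4541 :=
  Lrfl
theorem f727668 : Led Lsl_cf (LP (LK LD1_c5 LD2_c28 LD3_c58)) = v14971 :=
  Lgr Lrot11 (Lpr_ct (f727666 IH) (Lpn v14971))
theorem f735669 : Led Lsl_ct (LP (LK LD1_c5 LD2_c36 LD3_c20)) = v15326 :=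
  Lgr Lrot40 (Lpe (K31.f288022 IH) (Lpr_cf (f727668 IH) (Lpr_ff (f735667 IH) (Lpn v15326))))
def v14969 : LQ := Led Lsl_dt (LP (LK LD1_c5 LD2_c28 LD3_c57))
theorem f727662 : Led Lsl_dt (LP (LK LD1_c5 LD2_c28 LD3_c57)) = v14969 :=
  Lrfl
theorem f735672 : v4541 = v14969 :=
  (Llr Lrot143 (Lpe (f636029 IH) (Lpr_dt (f41006 IH) (Lpe (K20.f55371 IH) (Lpe (f173039 IH) (Lpe (K69.f173040 IH) (Lpr_df (f592283 IH) (Lpr_gf (f735671 IH) (Lpe (f735669 IH) (Lpe (K31.f288024 IH) (Lpr_dt (f727662 IH) (Lpn v14969)))))))))))).symm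
def v15242 : LQ := Led Lsl_ct (LP (LK LD1_c5 LD2_c34 LD3_c28))
theorem f733074 : Led Lsl_ct (LP (LK LD1_c5 LD2_c34 LD3_c28)) = v15242 :=
  Lrfl
theorem f733075 : Led Lsl_cf (LP (LK LD1_c5 LD2_c34 LD3_c28)) = v15242 :=
  Lgr Lrot11 (Lpr_ct (f733074 IH) (Lpn v15242))
theorem f172931 : Led Lsl_bt (LP (LK LD1_c1 LD2_c18 LD3_c1)) = (LP (LK LD1_c0 LD2_c35 LD3_c61)) :=
  Lre_b IH (LK LD1_c1 LD2_c18 LD3_c1) (LK LD1_c0 LD2_c35 LD3_c61) Lrfl Lrfl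
def v12278 : LQ := Led Lsl_gt (LP (LK LD1_c3 LD2_c59 LD3_c11))
theorem f689138 : Led Lsl_gt (LP (LK LD1_c3 LD2_c59 LD3_c11)) = v12278 :=
  Lrfl
theorem f733079 : Led Lsl_bf v12278 = v15242 :=
  Lgr Lrot34 (Lpe (f689138 IH) (Lpe (K1.f40979 IH) (Lpr_ct (K1.f40982 IH) (Lpe (K9.f172033 IH) (Lpe (K30.f179520 IH) (Lpe (K12.f168297 IH) (Lpe (f172931 IH) (Lpr_ct (K31.f172932 IH) (Lpe (K54.f173018 IH) (Lpr_cf (f733075 IH) (Lpn v15242)))))))))))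
theorem f382880 : Led Lsl_et (LP (LK LD1_c16 LD2_c43 LD3_c51)) = (LP (LK LD1_c8 LD2_c56 LD3_c15)) :=
  Lre_e IH (LK LD1_c16 LD2_c43 LD3_c51) (LK LD1_c8 LD2_c56 LD3_c15) Lrfl Lrfl
theorem f619816 : Led Lsl_et (LP (LK LD1_c5 LD2_c30 LD3_c22)) = (LP (LK LD1_c10 LD2_c52 LD3_c15)) :=
  Lre_e IH (LK LD1_c5 LD2_c30 LD3_c22) (LK LD1_c10 LD2_c52 LD3_c15) Lrfl Lrfl
theorem f619817 : Led Lsl_af (LP (LK LD1_c16 LD2_c43 LD3_c51)) = (LP (LK LD1_c10 LD2_c52 LD3_c15)) :=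
  Lgr Lrot50 (Lpr_et (f382880 IH) (Lpr_at (K54.f619806 IH) (Lpr_et (f619816 IH) (Lpn (LP (LK LD1_c10 LD2_c52 LD3_c15))))))
theorem f404867 : Led Lsl_ct (LP (LK LD1_c16 LD2_c43 LD3_c51)) = (LP (LK LD1_c8 LD2_c56 LD3_c16)) :=
  Lre_c IH (LK LD1_c16 LD2_c43 LD3_c51) (LK LD1_c8 LD2_c56 LD3_c16) Lrfl Lrfl
theorem f226628 : Led Lsl_ct (LP (LK LD1_c5 LD2_c30 LD3_c24)) = (LP (LK LD1_c10 LD2_c52 LD3_c15)) :=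
  Lre_c IH (LK LD1_c5 LD2_c30 LD3_c24) (LK LD1_c10 LD2_c52 LD3_c15) Lrfl Lrfl
theorem f619827 : Led Lsl_at (LP (LK LD1_c8 LD2_c56 LD3_c16)) = (LP (LK LD1_c5 LD2_c30 LD3_c24)) :=
  Lgr Lrot107 (Lpe (f404867 IH) (Lpr_af (f619817 IH) (Lpe (f226628 IH) (Lpn (LP (LK LD1_c5 LD2_c30 LD3_c24))))))
theorem f619838 : Led Lsl_af (LP (LK LD1_c8 LD2_c56 LD3_c16)) = (LP (LK LD1_c5 LD2_c30 LD3_c24)) :=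
  Lgr Lrot0 (Lpr_at (f619827 IH) (Lpn (LP (LK LD1_c5 LD2_c30 LD3_c24))))
theorem f226220 : Led Lsl_et (LP (LK LD1_c8 LD2_c56 LD3_c16)) = (LP (LK LD1_c4 LD2_c28 LD3_c58)) :=
  Lre_e IH (LK LD1_c8 LD2_c56 LD3_c16) (LK LD1_c4 LD2_c28 LD3_c58) Lrfl Lrfl
theorem f396777 : Led Lsl_et (LP (LK LD1_c2 LD2_c41 LD3_c27)) = (LP (LK LD1_c5 LD2_c30 LD3_c24)) :=
  Lre_e IH (LK LD1_c2 LD2_c41 LD3_c27) (LK LD1_c5 LD2_c30 LD3_c24) Lrfl Lrfl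
theorem f619841 : Led Lsl_at (LP (LK LD1_c4 LD2_c28 LD3_c58)) = (LP (LK LD1_c2 LD2_c41 LD3_c27)) :=
  Lgr Lrot80 (Lpe (f226220 IH) (Lpr_af (f619838 IH) (Lpe (f396777 IH) (Lpn (LP (LK LD1_c2 LD2_c41 LD3_c27))))))
theorem f619847 : Led Lsl_ff (LP (LK LD1_c4 LD2_c28 LD3_c58)) = (LP (LK LD1_c2 LD2_c41 LD3_c28)) :=
  Lgr Lrot52 (Lpr_at (f619841 IH) (Lpe (K27.f175116 IH) (Lpe (K30.f234786 IH) (Lpn (LP (LK LD1_c2 LD2_c41 LD3_c28))))))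
theorem f619856 : Led Lsl_ft (LP (LK LD1_c4 LD2_c28 LD3_c58)) = (LP (LK LD1_c2 LD2_c41 LD3_c28)) :=
  Lgr Lrot48 (Lpr_ff (f619847 IH) (Lpn (LP (LK LD1_c2 LD2_c41 LD3_c28))))
theorem f619860 : Led Lsl_ff (LP (LK LD1_c5 LD2_c32 LD3_c42)) = (LP (LK LD1_c5 LD2_c30 LD3_c27)) :=
  Lgr Lrot19 (Lpe (K54.f226218 IH) (Lpr_ft (f619856 IH) (Lpr_dt (K30.f384863 IH) (Lpn (LP (LK LD1_c5 LD2_c30 LD3_c27))))))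
theorem f280642 : Led Lsl_at (LP (LK LD1_c2 LD2_c42 LD3_c30)) = (LP (LK LD1_c5 LD2_c32 LD3_c39)) :=
  Lre_a IH (LK LD1_c2 LD2_c42 LD3_c30) (LK LD1_c5 LD2_c32 LD3_c39) Lrfl Lrfl
theorem f281292 : Led Lsl_ff (LP (LK LD1_c2 LD2_c42 LD3_c30)) = (LP (LK LD1_c4 LD2_c29 LD3_c36)) :=
  Lgr Lrot23 (Lpr_ct (K20.f174118 IH) (Lpr_ft (K20.f281186 IH) (Lpr_ct (K69.f226707 IH) (Lpn (LP (LK LD1_c4 LD2_c29 LD3_c36))))))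
theorem f396757 : Led Lsl_gf (LP (LK LD1_c5 LD2_c30 LD3_c23)) = (LP (LK LD1_c4 LD2_c29 LD3_c36)) :=
  Lgr Lrot47 (Lpr_gt (K54.f396750 IH) (Lpe (f280642 IH) (Lpr_ff (f281292 IH) (Lpn (LP (LK LD1_c4 LD2_c29 LD3_c36))))))
theorem f619867 : Led Lsl_at (LP (LK LD1_c5 LD2_c32 LD3_c42)) = (LP (LK LD1_c5 LD2_c30 LD3_c23)) :=
  Lgr Lrot26 (Lpr_ff (f619860 IH) (Lpr_gt (K31.f390788 IH) (Lpe (f396757 IH) (Lpn (LP (LK LD1_c5 LD2_c30 LD3_c23))))))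
theorem f619708 : Led Lsl_ft (LP (LK LD1_c5 LD2_c30 LD3_c23)) = (LP (LK LD1_c5 LD2_c32 LD3_c41)) :=
  Lgr Lrot75 (Lpe (K54.f396766 IH) (Lpr_ff (K54.f619704 IH) (Lpe (K50.f174168 IH) (Lpn (LP (LK LD1_c5 LD2_c32 LD3_c41))))))
theorem f619873 : Led Lsl_af (LP (LK LD1_c5 LD2_c30 LD3_c27)) = (LP (LK LD1_c5 LD2_c32 LD3_c41)) :=
  Lgr Lrot45 (Lpe (f619860 IH) (Lpr_at (f619867 IH) (Lpr_ft (f619708 IH) (Lpn (LP (LK LD1_c5 LD2_c32 LD3_c41))))))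
theorem f385180 : Led Lsl_et (LP (LK LD1_c5 LD2_c30 LD3_c27)) = (LP (LK LD1_c10 LD2_c52 LD3_c28)) :=
  Lre_e IH (LK LD1_c5 LD2_c30 LD3_c27) (LK LD1_c10 LD2_c52 LD3_c28) Lrfl Lrfl
theorem f281317 : Led Lsl_et (LP (LK LD1_c10 LD2_c57 LD3_c8)) = (LP (LK LD1_c5 LD2_c32 LD3_c41)) :=
  Lre_e IH (LK LD1_c10 LD2_c57 LD3_c8) (LK LD1_c5 LD2_c32 LD3_c41) Lrfl Lrfl
theorem f619879 : Led Lsl_at (LP (LK LD1_c10 LD2_c52 LD3_c28)) = (LP (LK LD1_c10 LD2_c57 LD3_c8)) :=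
  Lgr Lrot80 (Lpe (f385180 IH) (Lpr_af (f619873 IH) (Lpe (f281317 IH) (Lpn (LP (LK LD1_c10 LD2_c57 LD3_c8))))))
theorem f619886 : Led Lsl_dt (LP (LK LD1_c19 LD2_c39 LD3_c43)) = (LP (LK LD1_c10 LD2_c52 LD3_c28)) :=
  Lre_d IH (LK LD1_c19 LD2_c39 LD3_c43) (LK LD1_c10 LD2_c52 LD3_c28) Lrfl Lrfl
theorem f281318 : Led Lsl_dt (LP (LK LD1_c10 LD2_c57 LD3_c8)) = (LP (LK LD1_c19 LD2_c46 LD3_c58)) :=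
  Lre_d IH (LK LD1_c10 LD2_c57 LD3_c8) (LK LD1_c19 LD2_c46 LD3_c58) Lrfl Lrfl
theorem f619887 : Led Lsl_af (LP (LK LD1_c19 LD2_c39 LD3_c43)) = (LP (LK LD1_c19 LD2_c46 LD3_c58)) :=
  Lgr Lrot117 (Lpr_dt (f619886 IH) (Lpr_at (f619879 IH) (Lpr_dt (f281318 IH) (Lpn (LP (LK LD1_c19 LD2_c46 LD3_c58))))))
theorem f619891 : Led Lsl_et (LP (LK LD1_c19 LD2_c39 LD3_c43)) = (LP (LK LD1_c10 LD2_c52 LD3_c30)) :=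
  Lre_e IH (LK LD1_c19 LD2_c39 LD3_c43) (LK LD1_c10 LD2_c52 LD3_c30) Lrfl Lrfl
theorem f391429 : Led Lsl_et (LP (LK LD1_c8 LD2_c56 LD3_c13)) = (LP (LK LD1_c4 LD2_c28 LD3_c57)) :=
  Lre_e IH (LK LD1_c8 LD2_c56 LD3_c13) (LK LD1_c4 LD2_c28 LD3_c57) Lrfl Lrfl
theorem f391430 : Led Lsl_dt (LP (LK LD1_c16 LD2_c43 LD3_c44)) = (LP (LK LD1_c8 LD2_c56 LD3_c13)) :=
  Lre_d IH (LK LD1_c16 LD2_c43 LD3_c44) (LK LD1_c8 LD2_c56 LD3_c13) Lrfl Lrfl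
theorem f391431 : Led Lsl_et (LP (LK LD1_c5 LD2_c32 LD3_c41)) = (LP (LK LD1_c10 LD2_c57 LD3_c8)) :=
  Lre_e IH (LK LD1_c5 LD2_c32 LD3_c41) (LK LD1_c10 LD2_c57 LD3_c8) Lrfl Lrfl
theorem f391432 : Led Lsl_ef (LP (LK LD1_c16 LD2_c43 LD3_c44)) = (LP (LK LD1_c19 LD2_c46 LD3_c58)) :=
  Lgr Lrot73 (Lpr_dt (f391430 IH) (Lpr_et (f391429 IH) (Lpr_dt (K50.f391413 IH) (Lpr_et (f391431 IH) (Lpr_dt (f281318 IH) (Lpn (LP (LK LD1_c19 LD2_c46 LD3_c58))))))))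
theorem f391567 : Led Lsl_et (LP (LK LD1_c16 LD2_c43 LD3_c44)) = (LP (LK LD1_c19 LD2_c46 LD3_c58)) :=
  Lgr Lrot87 (Lpr_ef (f391432 IH) (Lpn (LP (LK LD1_c19 LD2_c46 LD3_c58))))
theorem f619892 : Led Lsl_at (LP (LK LD1_c10 LD2_c52 LD3_c30)) = (LP (LK LD1_c16 LD2_c43 LD3_c44)) :=
  Lgr Lrot80 (Lpe (f619891 IH) (Lpr_af (f619887 IH) (Lpe (f391567 IH) (Lpn (LP (LK LD1_c16 LD2_c43 LD3_c44))))))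
theorem f385182 : Led Lsl_dt (LP (LK LD1_c5 LD2_c30 LD3_c28)) = (LP (LK LD1_c10 LD2_c52 LD3_c30)) :=
  Lre_d IH (LK LD1_c5 LD2_c30 LD3_c28) (LK LD1_c10 LD2_c52 LD3_c30) Lrfl Lrfl
theorem f619897 : Led Lsl_af (LP (LK LD1_c5 LD2_c30 LD3_c28)) = (LP (LK LD1_c8 LD2_c56 LD3_c13)) :=
  Lgr Lrot117 (Lpr_dt (f385182 IH) (Lpr_at (f619892 IH) (Lpr_dt (f391430 IH) (Lpn (LP (LK LD1_c8 LD2_c56 LD3_c13))))))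
theorem f619905 : Led Lsl_bt (LP (LK LD1_c5 LD2_c30 LD3_c28)) = (LP (LK LD1_c10 LD2_c52 LD3_c23)) :=
  Lre_b IH (LK LD1_c5 LD2_c30 LD3_c28) (LK LD1_c10 LD2_c52 LD3_c23) Lrfl Lrfl
theorem f619906 : Led Lsl_at (LP (LK LD1_c10 LD2_c52 LD3_c23)) = (LP (LK LD1_c19 LD2_c39 LD3_c24)) :=
  Lre_a IH (LK LD1_c10 LD2_c52 LD3_c23) (LK LD1_c19 LD2_c39 LD3_c24) Lrfl Lrfl
theorem f391536 : Led Lsl_bt (LP (LK LD1_c16 LD2_c43 LD3_c37)) = (LP (LK LD1_c8 LD2_c56 LD3_c13)) :=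
  Lre_b IH (LK LD1_c16 LD2_c43 LD3_c37) (LK LD1_c8 LD2_c56 LD3_c13) Lrfl Lrfl
theorem f409921 : Led Lsl_ct (LP (LK LD1_c11 LD2_c3 LD3_c43)) = (LP (LK LD1_c19 LD2_c56 LD3_c4)) :=
  Lre_c IH (LK LD1_c11 LD2_c3 LD3_c43) (LK LD1_c19 LD2_c56 LD3_c4) Lrfl Lrfl
theorem f619625 : Led Lsl_at (LP (LK LD1_c19 LD2_c56 LD3_c4)) = (LP (LK LD1_c16 LD2_c43 LD3_c37)) :=
  Lgr Lrot107 (Lpe (f409921 IH) (Lpr_af (K54.f619621 IH) (Lpr_cf (K54.f391514 IH) (Lpn (LP (LK LD1_c16 LD2_c43 LD3_c37))))))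
theorem f619907 : Led Lsl_bt (LP (LK LD1_c19 LD2_c39 LD3_c24)) = (LP (LK LD1_c19 LD2_c56 LD3_c4)) :=
  Lgr Lrot62 (Lpe (f619906 IH) (Lpe (f619905 IH) (Lpr_af (f619897 IH) (Lpe (f391536 IH) (Lpe (f619625 IH) (Lpn (LP (LK LD1_c19 LD2_c56 LD3_c4))))))))
theorem f619960 : Led Lsl_et (LP (LK LD1_c10 LD2_c52 LD3_c20)) = (LP (LK LD1_c19 LD2_c39 LD3_c24)) :=
  Lre_e IH (LK LD1_c10 LD2_c52 LD3_c20) (LK LD1_c19 LD2_c39 LD3_c24) Lrfl Lrfl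
theorem f619961 : Led Lsl_bf (LP (LK LD1_c10 LD2_c52 LD3_c20)) = (LP (LK LD1_c11 LD2_c3 LD3_c41)) :=
  Lgr Lrot96 (Lpr_et (f619960 IH) (Lpr_bt (f619907 IH) (Lpr_et (K54.f354521 IH) (Lpn (LP (LK LD1_c11 LD2_c3 LD3_c41))))))
theorem f619969 : Led Lsl_gf (LP (LK LD1_c10 LD2_c52 LD3_c20)) = (LP (LK LD1_c16 LD2_c43 LD3_c46)) :=
  Lgr Lrot124 (Lpr_bf (f619961 IH) (Lpr_ct (K30.f277120 IH) (Lpr_gt (K22.f313032 IH) (Lpe (K30.f313034 IH) (Lpr_bt (K30.f354510 IH) (Lpe (K30.f354515 IH) (Lpr_ct (K31.f319216 IH) (Lpe (K67.f388455 IH) (Lpr_cf (K31.f387957 IH) (Lpe (K69.f382888 IH) (Lpn (LP (LK LD1_c16 LD2_c43 LD3_c46)))))))))))))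
theorem f387955 : Led Lsl_bf (LP (LK LD1_c15 LD2_c54 LD3_c38)) = (LP (LK LD1_c10 LD2_c35 LD3_c58)) :=
  Lgr Lrot24 (Lpr_bt (K30.f387948 IH) (Lpn (LP (LK LD1_c10 LD2_c35 LD3_c58))))
theorem f218599 : Led Lsl_bt (LP (LK LD1_c10 LD2_c37 LD3_c51)) = (LP (LK LD1_c5 LD2_c23 LD3_c41)) :=
  Lre_b IH (LK LD1_c10 LD2_c37 LD3_c51) (LK LD1_c5 LD2_c23 LD3_c41) Lrfl Lrfl
theorem f619972 : Led Lsl_cf (LP (LK LD1_c10 LD2_c52 LD3_c20)) = (LP (LK LD1_c10 LD2_c37 LD3_c51)) :=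
  Lgr Lrot58 (Lpr_gf (f619969 IH) (Lpr_cf (K31.f382882 IH) (Lpe (f387955 IH) (Lpr_gf (K30.f387930 IH) (Lpr_bf (K30.f332736 IH) (Lpr_ct (K30.f228435 IH) (Lpe (K22.f228434 IH) (Lpe (K22.f218427 IH) (Lpe (K22.f218598 IH) (Lpe (f218599 IH) (Lpn (LP (LK LD1_c10 LD2_c37 LD3_c51)))))))))))))
theorem f399914 : Led Lsl_dt (LP (LK LD1_c11 LD2_c0 LD3_c2)) = (LP (LK LD1_c10 LD2_c37 LD3_c51)) :=
  Lgr Lrot6 (Lpr_gt (K54.f226170 IH) (Lpr_ct (K14.f226303 IH) (Lpr_gt (K30.f226296 IH) (Lpr_ct (K30.f226295 IH) (Lpe (K31.f277069 IH) (Lpr_cf (K30.f277173 IH) (Lpr_gf (K30.f384812 IH) (Lpe (K31.f226926 IH) (Lpr_gf (K54.f399910 IH) (Lpn (LP (LK LD1_c10 LD2_c37 LD3_c51))))))))))))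
theorem f619983 : Led Lsl_df (LP (LK LD1_c10 LD2_c52 LD3_c20)) = (LP (LK LD1_c17 LD2_c53 LD3_c19)) :=
  Lgr Lrot84 (Lpr_cf (f619972 IH) (Lpe (f399914 IH) (Lpe (K54.f387703 IH) (Lpe (K30.f226307 IH) (Lpe (K31.f226195 IH) (Lpe (K31.f175180 IH) (Lpe (K31.f387695 IH) (Lpr_dt (K31.f332322 IH) (Lpr_gt (K54.f332398 IH) (Lpn (LP (LK LD1_c17 LD2_c53 LD3_c19))))))))))))
theorem f619967 : Led Lsl_gt (LP (LK LD1_c10 LD2_c52 LD3_c20)) = (LP (LK LD1_c11 LD2_c4 LD3_c53)) :=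
  Lgr Lrot82 (Lpr_bf (f619961 IH) (Lpr_ct (K30.f277120 IH) (Lpe (K22.f189132 IH) (Lpe (K30.f226560 IH) (Lpr_bt (K30.f226528 IH) (Lpr_gf (K20.f226533 IH) (Lpe (K21.f179310 IH) (Lpe (K21.f277106 IH) (Lpe (K30.f277119 IH) (Lpr_cf (K31.f277122 IH) (Lpn (LP (LK LD1_c11 LD2_c4 LD3_c53)))))))))))))
theorem f733078 : Led Lsl_dt (LP (LK LD1_c11 LD2_c4 LD3_c53)) = v15242 :=
  Lgr Lrot113 (Lpe (f619967 IH) (Lpr_df (f619983 IH) (Lpe (K54.f332398 IH) (Lpr_ct (K31.f387677 IH) (Lpe (K31.f277286 IH) (Lpe (K54.f384451 IH) (Lpr_gt (K42.f384464 IH) (Lpr_dt (K42.f173023 IH) (Lpr_ct (f733074 IH) (Lpn v15242))))))))))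
theorem f733081 : Led Lsl_dt v12278 = (LP (LK LD1_c5 LD2_c36 LD3_c18)) :=
  Lgr Lrot79 (Lpr_bf (f733079 IH) (Lpe (f733078 IH) (Lpe (K31.f277125 IH) (Lpn (LP (LK LD1_c5 LD2_c36 LD3_c18))))))
def v14967 : LQ := Led Lsl_dt (LP (LK LD1_c5 LD2_c28 LD3_c56))
theorem f727658 : Led Lsl_dt (LP (LK LD1_c5 LD2_c28 LD3_c56)) = v14967 :=
  Lrfl
theorem f733084 : Led Lsl_ff v12278 = v14967 :=
  Lgr Lrot19 (Lpr_dt (f733081 IH) (Lpr_ft (K31.f389209 IH) (Lpr_dt (f727658 IH) (Lpn v14967))))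
theorem f733085 : Led Lsl_ft v12278 = v14967 :=
  Lgr Lrot48 (Lpr_ff (f733084 IH) (Lpn v14967))
theorem f41005 : Led Lsl_at (LP (LK LD1_c2 LD2_c25 LD3_c58)) = (LP (LK LD1_c4 LD2_c56 LD3_c21)) :=
  Lre_a IH (LK LD1_c2 LD2_c25 LD3_c58) (LK LD1_c4 LD2_c56 LD3_c21) Lrfl Lrfl
theorem f689139 : Led Lsl_gf (LP (LK LD1_c4 LD2_c56 LD3_c21)) = v12278 :=
  Lgr Lrot76 (Lpe (f41005 IH) (Lpe (K1.f41000 IH) (Lpr_gt (f689138 IH) (Lpn v12278))))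
theorem f41014 : Led Lsl_at (LP (LK LD1_c4 LD2_c56 LD3_c21)) = (LP (LK LD1_c2 LD2_c25 LD3_c58)) :=
  Lre_a IH (LK LD1_c4 LD2_c56 LD3_c21) (LK LD1_c2 LD2_c25 LD3_c58) Lrfl Lrfl
theorem f689145 : Led Lsl_ff (LP (LK LD1_c4 LD2_c56 LD3_c21)) = v12280 :=
  Lgr Lrot30 (Lpr_at (f41014 IH) (Lpe (K1.f41012 IH) (Lpr_at (f689141 IH) (Lpn v12280))))
theorem f689149 : Led Lsl_ft (LP (LK LD1_c4 LD2_c56 LD3_c21)) = v12280 :=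
  Lgr Lrot48 (Lpr_ff (f689145 IH) (Lpn v12280))
theorem f689142 : Led Lsl_af (LP (LK LD1_c3 LD2_c59 LD3_c11)) = v12280 :=
  Lgr Lrot0 (Lpr_at (f689141 IH) (Lpn v12280))
def v12279 : LQ := Led Lsl_gf (LP (LK LD1_c3 LD2_c59 LD3_c11))
theorem f689140 : Led Lsl_gf (LP (LK LD1_c3 LD2_c59 LD3_c11)) = v12279 :=
  Lrfl
theorem f689151 : Led Lsl_gt (LP (LK LD1_c4 LD2_c56 LD3_c21)) = v12279 :=
  Lgr Lrot5 (Lpr_ft (f689149 IH) (Lpe (f689142 IH) (Lpr_gf (f689140 IH) (Lpn v12279))))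
theorem f733086 : Led Lsl_af v12279 = v14967 :=
  Lgr Lrot31 (Lpe (f689151 IH) (Lpr_gf (f689139 IH) (Lpr_ft (f733085 IH) (Lpn v14967))))
theorem f733082 : Led Lsl_af v12278 = v14969 :=
  Lgr Lrot117 (Lpr_dt (f733081 IH) (Lpr_at (K31.f389201 IH) (Lpr_dt (f727662 IH) (Lpn v14969))))
theorem f733089 : Led Lsl_ft v12279 = v14969 :=
  Lgr Lrot101 (Lpr_af (f733086 IH) (Lpe (f733085 IH) (Lpr_af (f733082 IH) (Lpn v14969))))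
theorem f733091 : Led Lsl_ff v12279 = v14969 :=
  Lgr Lrot3 (Lpr_ft (f733089 IH) (Lpn v14969))
theorem f733087 : Led Lsl_at v12279 = v14967 :=
  Lgr Lrot100 (Lpr_af (f733086 IH) (Lpn v14967))
theorem f735673 : v14967 = v4540 :=
  (Llr Lrot26 (Lpe (f733087 IH) (Lpr_ff (f733091 IH) (Lpq (f735672 IH) (Lpe (f636029 IH) (Lpr_gt (f636028 IH) (Lpn v4540))))))).symm
theorem f173985 : Led Lsl_gt (LP (LK LD1_c5 LD2_c28 LD3_c59)) = (LP (LK LD1_c10 LD2_c49 LD3_c3)) :=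
  Lre_g IH (LK LD1_c5 LD2_c28 LD3_c59) (LK LD1_c10 LD2_c49 LD3_c3) Lrfl Lrfl
theorem f917756 : Led Lsl_df (LP (LK LD1_c9 LD2_c43 LD3_c8)) = (LP (LK LD1_c10 LD2_c49 LD3_c3)) :=
  Lgr Lrot153 (Lpr_gt (f917755 IH) (Lpe (f917748 IH) (Lpe (f173803 IH) (Lpr_df (f689144 IH) (Lpe (f689146 IH) (Lpq (f735673 IH) (Lpe (f727658 IH) (Lpe (K30.f173954 IH) (Lpe (K30.f172864 IH) (Lpr_gt (f173985 IH) (Lpn (LP (LK LD1_c10 LD2_c49 LD3_c3)))))))))))))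
theorem f917757 : Led Lsl_dt (LP (LK LD1_c10 LD2_c49 LD3_c3)) = (LP (LK LD1_c9 LD2_c43 LD3_c8)) :=
  Leop (Lpr_df (f917756 IH) (Lpn (LP (LK LD1_c10 LD2_c49 LD3_c3))))
theorem seed_2400 : LEOK LG_d (LK LD1_c10 LD2_c49 LD3_c3) :=
  Leoe_d (LK LD1_c10 LD2_c49 LD3_c3) (f917757 IH)
def v40595 : LQ := Led Lsl_dt (LP (LK LD1_c9 LD2_c44 LD3_c2))
theorem f918099 : Led Lsl_dt (LP (LK LD1_c9 LD2_c44 LD3_c2)) = v40595 :=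
  Lrfl
theorem f918104 : Led Lsl_ct (LP (LK LD1_c11 LD2_c0 LD3_c60)) = v40595 :=
  Lgr Lrot151 (Lpe (K54.f733020 IH) (Lpe (K54.f172966 IH) (Lpe (K42.f172982 IH) (Lpr_dt (K30.f175239 IH) (Lpr_gt (K12.f218303 IH) (Lpr_ct (K30.f218314 IH) (Lpr_gt (K30.f277331 IH) (Lpe (K54.f387691 IH) (Lpr_dt (f918099 IH) (Lpn v40595))))))))))
theorem f918105 : Led Lsl_cf (LP (LK LD1_c11 LD2_c0 LD3_c60)) = v40595 :=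
  Lgr Lrot11 (Lpr_ct (f918104 IH) (Lpn v40595))
theorem f619965 : Led Lsl_ct (LP (LK LD1_c10 LD2_c52 LD3_c20)) = (LP (LK LD1_c10 LD2_c37 LD3_c51)) :=
  Lgr Lrot83 (Lpr_bf (f619961 IH) (Lpe (K30.f313035 IH) (Lpr_bf (K22.f278011 IH) (Lpe (K45.f312853 IH) (Lpe (f218599 IH) (Lpn (LP (LK LD1_c10 LD2_c37 LD3_c51))))))))
theorem f391892 : Led Lsl_df (LP (LK LD1_c28 LD2_c46 LD3_c11)) = (LP (LK LD1_c19 LD2_c50 LD3_c59)) :=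
  Lgr Lrot38 (Lpr_dt (K54.f391890 IH) (Lpn (LP (LK LD1_c19 LD2_c50 LD3_c59))))
theorem f396791 : Led Lsl_bt (LP (LK LD1_c5 LD2_c30 LD3_c23)) = (LP (LK LD1_c10 LD2_c52 LD3_c9)) :=
  Lre_b IH (LK LD1_c5 LD2_c30 LD3_c23) (LK LD1_c10 LD2_c52 LD3_c9) Lrfl Lrfl
theorem f412340 : Led Lsl_gt (LP (LK LD1_c5 LD2_c40 LD3_c58)) = (LP (LK LD1_c11 LD2_c12 LD3_c28)) :=
  Lre_g IH (LK LD1_c5 LD2_c40 LD3_c58) (LK LD1_c11 LD2_c12 LD3_c28) Lrfl Lrfl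
theorem f613467 : Led Lsl_gf (LP (LK LD1_c19 LD2_c47 LD3_c60)) = (LP (LK LD1_c11 LD2_c12 LD3_c28)) :=
  Lgr Lrot76 (Lpe (K68.f494043 IH) (Lpr_ff (K68.f613456 IH) (Lpr_gt (f412340 IH) (Lpn (LP (LK LD1_c11 LD2_c12 LD3_c28))))))
theorem f226612 : Led Lsl_ct (LP (LK LD1_c11 LD2_c1 LD3_c34)) = (LP (LK LD1_c5 LD2_c34 LD3_c37)) :=
  Lre_c IH (LK LD1_c11 LD2_c1 LD3_c34) (LK LD1_c5 LD2_c34 LD3_c37) Lrfl Lrfl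
theorem f613469 : Led Lsl_dt (LP (LK LD1_c10 LD2_c58 LD3_c12)) = (LP (LK LD1_c11 LD2_c12 LD3_c28)) :=
  Lgr Lrot57 (Lpe (K54.f225794 IH) (Lpe (K50.f174159 IH) (Lpr_gt (K27.f174217 IH) (Lpe (K54.f390252 IH) (Lpe (K30.f384940 IH) (Lpe (K30.f226615 IH) (Lpe (f226612 IH) (Lpr_df (K68.f494041 IH) (Lpr_gf (f613467 IH) (Lpn (LP (LK LD1_c11 LD2_c12 LD3_c28))))))))))))
theorem f613472 : Led Lsl_df (LP (LK LD1_c10 LD2_c58 LD3_c12)) = (LP (LK LD1_c11 LD2_c12 LD3_c28)) :=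
  Lgr Lrot38 (Lpr_dt (f613469 IH) (Lpn (LP (LK LD1_c11 LD2_c12 LD3_c28))))
theorem f194016 : Led Lsl_bt (LP (LK LD1_c2 LD2_c46 LD3_c23)) = (LP (LK LD1_c1 LD2_c19 LD3_c33)) :=
  Lre_b IH (LK LD1_c2 LD2_c46 LD3_c23) (LK LD1_c1 LD2_c19 LD3_c33) Lrfl Lrfl
theorem f226372 : Led Lsl_gt (LP (LK LD1_c19 LD2_c20 LD3_c59)) = (LP (LK LD1_c10 LD2_c41 LD3_c36)) :=
  Lre_g IH (LK LD1_c19 LD2_c20 LD3_c59) (LK LD1_c10 LD2_c41 LD3_c36) Lrfl Lrfl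
theorem f619676 : Led Lsl_bt (LP (LK LD1_c19 LD2_c39 LD3_c2)) = (LP (LK LD1_c19 LD2_c20 LD3_c59)) :=
  Lgr Lrot178 (Lpr_cf (K54.f619668 IH) (Lpr_df (f613472 IH) (Lpe (f412340 IH) (Lpe (K40.f172282 IH) (Lpe (K37.f172169 IH) (Lpe (K9.f172152 IH) (Lpe (K35.f172280 IH) (Lpe (f194016 IH) (Lpq (K38.f537430 IH) (Lpe (K36.f536078 IH) (Lpe (K31.f281802 IH) (Lpe (K31.f411741 IH) (Lpr_bf (K31.f411730 IH) (Lpe (K22.f201535 IH) (Lpr_df (K22.f331822 IH) (Lpe (K22.f331787 IH) (Lpe (K22.f331786 IH) (Lpe (K31.f169326 IH) (Lpe (K31.f226275 IH) (Lpe (f226372 IH) (Lpn (LP (LK LD1_c19 LD2_c20 LD3_c59)))))))))))))))))))))))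
theorem f619869 : Led Lsl_af (LP (LK LD1_c10 LD2_c57 LD3_c9)) = (LP (LK LD1_c19 LD2_c20 LD3_c59)) :=
  Lgr Lrot36 (Lpr_bt (K20.f174393 IH) (Lpr_at (f619867 IH) (Lpr_bt (f396791 IH) (Lpr_at (K54.f401183 IH) (Lpr_bt (f619676 IH) (Lpn (LP (LK LD1_c19 LD2_c20 LD3_c59))))))))
theorem f619991 : Led Lsl_ff (LP (LK LD1_c19 LD2_c20 LD3_c59)) = (LP (LK LD1_c17 LD2_c53 LD3_c19)) :=
  Lgr Lrot103 (Lpe (f619869 IH) (Lpe (K30.f226191 IH) (Lpe (K54.f226153 IH) (Lpe (K54.f391902 IH) (Lpr_df (f391892 IH) (Lpe (K54.f387713 IH) (Lpr_df (K54.f399916 IH) (Lpe (f619965 IH) (Lpr_df (f619983 IH) (Lpn (LP (LK LD1_c17 LD2_c53 LD3_c19))))))))))))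
theorem f619997 : Led Lsl_ft (LP (LK LD1_c19 LD2_c20 LD3_c59)) = (LP (LK LD1_c17 LD2_c53 LD3_c19)) :=
  Lgr Lrot48 (Lpr_ff (f619991 IH) (Lpn (LP (LK LD1_c17 LD2_c53 LD3_c19))))
theorem f620001 : Led Lsl_af (LP (LK LD1_c10 LD2_c52 LD3_c22)) = (LP (LK LD1_c17 LD2_c53 LD3_c19)) :=
  Lgr Lrot31 (Lpe (K50.f384848 IH) (Lpe (f226372 IH) (Lpr_ft (f619997 IH) (Lpn (LP (LK LD1_c17 LD2_c53 LD3_c19))))))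
theorem f392060 : Led Lsl_ct (LP (LK LD1_c11 LD2_c0 LD3_c14)) = (LP (LK LD1_c17 LD2_c53 LD3_c19)) :=
  Lgr Lrot59 (Lpr_cf (K54.f392049 IH) (Lpn (LP (LK LD1_c17 LD2_c53 LD3_c19))))
theorem f620003 : Led Lsl_at (LP (LK LD1_c19 LD2_c39 LD3_c28)) = (LP (LK LD1_c11 LD2_c0 LD3_c14)) :=
  Lgr Lrot107 (Lpe (K31.f384832 IH) (Lpr_af (f620001 IH) (Lpe (f392060 IH) (Lpn (LP (LK LD1_c11 LD2_c0 LD3_c14))))))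
theorem f620007 : Led Lsl_ff (LP (LK LD1_c19 LD2_c39 LD3_c28)) = (LP (LK LD1_c11 LD2_c0 LD3_c13)) :=
  Lgr Lrot52 (Lpr_at (f620003 IH) (Lpe (K54.f226147 IH) (Lpe (K31.f226151 IH) (Lpn (LP (LK LD1_c11 LD2_c0 LD3_c13))))))
theorem f620015 : Led Lsl_ft (LP (LK LD1_c19 LD2_c39 LD3_c28)) = (LP (LK LD1_c11 LD2_c0 LD3_c13)) :=
  Lgr Lrot48 (Lpr_ff (f620007 IH) (Lpn (LP (LK LD1_c11 LD2_c0 LD3_c13))))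
theorem f620005 : Led Lsl_af (LP (LK LD1_c19 LD2_c39 LD3_c28)) = (LP (LK LD1_c11 LD2_c0 LD3_c14)) :=
  Lgr Lrot0 (Lpr_at (f620003 IH) (Lpn (LP (LK LD1_c11 LD2_c0 LD3_c14))))
theorem f619995 : Led Lsl_ft (LP (LK LD1_c19 LD2_c50 LD3_c22)) = (LP (LK LD1_c11 LD2_c0 LD3_c14)) :=
  Lgr Lrot4 (Lpr_cf (K30.f387807 IH) (Lpr_ff (f619991 IH) (Lpe (f392060 IH) (Lpn (LP (LK LD1_c11 LD2_c0 LD3_c14))))))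
theorem f620017 : Led Lsl_af (LP (LK LD1_c19 LD2_c50 LD3_c22)) = (LP (LK LD1_c11 LD2_c0 LD3_c13)) :=
  Lgr Lrot45 (Lpr_ft (f619995 IH) (Lpe (f620005 IH) (Lpr_ft (f620015 IH) (Lpn (LP (LK LD1_c11 LD2_c0 LD3_c13))))))
theorem f387821 : Led Lsl_gt (LP (LK LD1_c10 LD2_c59 LD3_c35)) = (LP (LK LD1_c19 LD2_c50 LD3_c22)) :=
  Lre_g IH (LK LD1_c10 LD2_c59 LD3_c35) (LK LD1_c19 LD2_c50 LD3_c22) Lrfl Lrfl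
theorem f173022 : Led Lsl_dt (LP (LK LD1_c11 LD2_c1 LD3_c0)) = (LP (LK LD1_c5 LD2_c34 LD3_c24)) :=
  Lre_d IH (LK LD1_c11 LD2_c1 LD3_c0) (LK LD1_c5 LD2_c34 LD3_c24) Lrfl Lrfl
theorem f277359 : Led Lsl_gt (LP (LK LD1_c19 LD2_c52 LD3_c0)) = (LP (LK LD1_c11 LD2_c1 LD3_c0)) :=
  Lre_g IH (LK LD1_c19 LD2_c52 LD3_c0) (LK LD1_c11 LD2_c1 LD3_c0) Lrfl Lrfl
theorem f390772 : Led Lsl_dt (LP (LK LD1_c19 LD2_c50 LD3_c22)) = (LP (LK LD1_c19 LD2_c52 LD3_c0)) :=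
  Lgr Lrot57 (Lpe (f387821 IH) (Lpe (K31.f387822 IH) (Lpr_gt (K31.f390754 IH) (Lpr_dt (K30.f173013 IH) (Lpr_gt (K30.f267733 IH) (Lpr_dt (K30.f277345 IH) (Lpe (K68.f175228 IH) (Lpe (f173022 IH) (Lpe (f277359 IH) (Lpn (LP (LK LD1_c19 LD2_c52 LD3_c0))))))))))))
theorem f620031 : Led Lsl_at (LP (LK LD1_c19 LD2_c52 LD3_c0)) = (LP (LK LD1_c19 LD2_c51 LD3_c18)) :=
  Lgr Lrot51 (Lpe (f390772 IH) (Lpr_af (f620017 IH) (Lpe (K54.f226153 IH) (Lpn (LP (LK LD1_c19 LD2_c51 LD3_c18))))))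
theorem f620037 : Led Lsl_ff (LP (LK LD1_c19 LD2_c52 LD3_c0)) = (LP (LK LD1_c19 LD2_c51 LD3_c20)) :=
  Lgr Lrot52 (Lpr_at (f620031 IH) (Lpe (K54.f391911 IH) (Lpr_gf (K54.f391741 IH) (Lpn (LP (LK LD1_c19 LD2_c51 LD3_c20))))))
theorem f620039 : Led Lsl_ft (LP (LK LD1_c19 LD2_c52 LD3_c0)) = (LP (LK LD1_c19 LD2_c51 LD3_c20)) :=
  Lgr Lrot48 (Lpr_ff (f620037 IH) (Lpn (LP (LK LD1_c19 LD2_c51 LD3_c20))))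
theorem f175168 : Led Lsl_gt (LP (LK LD1_c11 LD2_c1 LD3_c0)) = (LP (LK LD1_c19 LD2_c51 LD3_c61)) :=
  Lre_g IH (LK LD1_c11 LD2_c1 LD3_c0) (LK LD1_c19 LD2_c51 LD3_c61) Lrfl Lrfl
theorem f620041 : Led Lsl_af (LP (LK LD1_c19 LD2_c51 LD3_c61)) = (LP (LK LD1_c19 LD2_c51 LD3_c20)) :=
  Lgr Lrot31 (Lpe (f175168 IH) (Lpe (f277359 IH) (Lpr_ft (f620039 IH) (Lpn (LP (LK LD1_c19 LD2_c51 LD3_c20))))))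
theorem f620033 : Led Lsl_af (LP (LK LD1_c19 LD2_c52 LD3_c0)) = (LP (LK LD1_c19 LD2_c51 LD3_c18)) :=
  Lgr Lrot0 (Lpr_at (f620031 IH) (Lpn (LP (LK LD1_c19 LD2_c51 LD3_c18))))
theorem f620048 : Led Lsl_ft (LP (LK LD1_c19 LD2_c51 LD3_c61)) = (LP (LK LD1_c19 LD2_c51 LD3_c18)) :=
  Lgr Lrot101 (Lpr_af (f620041 IH) (Lpe (f620039 IH) (Lpr_af (f620033 IH) (Lpn (LP (LK LD1_c19 LD2_c51 LD3_c18))))))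
theorem f620045 : Led Lsl_dt (LP (LK LD1_c19 LD2_c51 LD3_c61)) = (LP (LK LD1_c19 LD2_c39 LD3_c28)) :=
  Lgr Lrot44 (Lpr_af (f620041 IH) (Lpe (K54.f226148 IH) (Lpe (f620003 IH) (Lpn (LP (LK LD1_c19 LD2_c39 LD3_c28))))))
theorem f246539 : Led Lsl_dt (LP (LK LD1_c19 LD2_c21 LD3_c6)) = (LP (LK LD1_c28 LD2_c45 LD3_c48)) :=
  Lre_d IH (LK LD1_c19 LD2_c21 LD3_c6) (LK LD1_c28 LD2_c45 LD3_c48) Lrfl Lrfl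
theorem f620055 : Led Lsl_ct (LP (LK LD1_c28 LD2_c45 LD3_c48)) = (LP (LK LD1_c19 LD2_c52 LD3_c0)) :=
  Lgr Lrot98 (Lpe (f246539 IH) (Lpr_cf (K31.f384840 IH) (Lpe (K31.f277334 IH) (Lpe (K31.f267736 IH) (Lpe (K31.f382943 IH) (Lpe (K31.f384831 IH) (Lpe (f620045 IH) (Lpr_ft (f620048 IH) (Lpe (f620033 IH) (Lpn (LP (LK LD1_c19 LD2_c52 LD3_c0))))))))))))
theorem f620013 : Led Lsl_ft (LP (LK LD1_c10 LD2_c52 LD3_c22)) = (LP (LK LD1_c10 LD2_c57 LD3_c9)) :=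
  Lgr Lrot4 (Lpe (K31.f384831 IH) (Lpr_ff (f620007 IH) (Lpr_cf (K20.f226176 IH) (Lpn (LP (LK LD1_c10 LD2_c57 LD3_c9))))))
theorem f390777 : Led Lsl_df (LP (LK LD1_c19 LD2_c50 LD3_c22)) = (LP (LK LD1_c19 LD2_c52 LD3_c0)) :=
  Lgr Lrot38 (Lpr_dt (f390772 IH) (Lpn (LP (LK LD1_c19 LD2_c52 LD3_c0))))
theorem f387814 : Led Lsl_ct (LP (LK LD1_c19 LD2_c50 LD3_c22)) = (LP (LK LD1_c19 LD2_c20 LD3_c59)) :=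
  Lgr Lrot59 (Lpr_cf (K30.f387807 IH) (Lpn (LP (LK LD1_c19 LD2_c20 LD3_c59))))
theorem f620063 : Led Lsl_at (LP (LK LD1_c10 LD2_c57 LD3_c9)) = (LP (LK LD1_c19 LD2_c20 LD3_c59)) :=
  Lgr Lrot33 (Lpe (f620013 IH) (Lpr_dt (K31.f382943 IH) (Lpr_ct (K31.f267736 IH) (Lpr_dt (K31.f277334 IH) (Lpe (K31.f384840 IH) (Lpr_dt (f246539 IH) (Lpr_ct (f620055 IH) (Lpe (f390777 IH) (Lpr_ct (f387814 IH) (Lpn (LP (LK LD1_c19 LD2_c20 LD3_c59))))))))))))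
theorem f226231 : Led Lsl_at (LP (LK LD1_c16 LD2_c43 LD3_c47)) = (LP (LK LD1_c8 LD2_c56 LD3_c14)) :=
  Lre_a IH (LK LD1_c16 LD2_c43 LD3_c47) (LK LD1_c8 LD2_c56 LD3_c14) Lrfl Lrfl
theorem f620065 : Led Lsl_df (LP (LK LD1_c16 LD2_c43 LD3_c47)) = (LP (LK LD1_c19 LD2_c20 LD3_c59)) :=
  Lgr Lrot18 (Lpr_at (f226231 IH) (Lpr_dt (K31.f226205 IH) (Lpr_at (f620063 IH) (Lpn (LP (LK LD1_c19 LD2_c20 LD3_c59))))))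
theorem f620073 : Led Lsl_ct (LP (LK LD1_c16 LD2_c43 LD3_c47)) = (LP (LK LD1_c19 LD2_c3 LD3_c40)) :=
  Lgr Lrot7 (Lpr_df (f620065 IH) (Lpe (K30.f226133 IH) (Lpe (K30.f226136 IH) (Lpe (K50.f391374 IH) (Lpe (K50.f391319 IH) (Lpr_gt (K31.f390833 IH) (Lpr_dt (K54.f390757 IH) (Lpr_gt (K54.f417711 IH) (Lpe (K54.f417715 IH) (Lpn (LP (LK LD1_c19 LD2_c3 LD3_c40))))))))))))
theorem f620077 : Led Lsl_gt (LP (LK LD1_c16 LD2_c43 LD3_c47)) = (LP (LK LD1_c10 LD2_c48 LD3_c60)) :=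
  Lgr Lrot9 (Lpr_df (f620065 IH) (Lpr_gt (f226372 IH) (Lpr_ct (K22.f226241 IH) (Lpr_gt (K22.f226368 IH) (Lpr_ct (K30.f213415 IH) (Lpe (K30.f225346 IH) (Lpe (K21.f225400 IH) (Lpe (K30.f225402 IH) (Lpe (K30.f384814 IH) (Lpn (LP (LK LD1_c10 LD2_c48 LD3_c60))))))))))))
theorem f389247 : Led Lsl_at (LP (LK LD1_c16 LD2_c43 LD3_c46)) = (LP (LK LD1_c10 LD2_c48 LD3_c60)) :=
  Lgr Lrot100 (Lpr_af (K31.f389239 IH) (Lpn (LP (LK LD1_c10 LD2_c48 LD3_c60))))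
theorem f389231 : Led Lsl_ff (LP (LK LD1_c16 LD2_c43 LD3_c46)) = (LP (LK LD1_c10 LD2_c52 LD3_c19)) :=
  Lgr Lrot23 (Lpr_ct (K31.f382878 IH) (Lpr_ft (K31.f389227 IH) (Lpr_ct (K30.f384867 IH) (Lpn (LP (LK LD1_c10 LD2_c52 LD3_c19))))))
theorem f620079 : Led Lsl_gf (LP (LK LD1_c16 LD2_c43 LD3_c47)) = (LP (LK LD1_c10 LD2_c52 LD3_c19)) :=
  Lgr Lrot47 (Lpr_gt (f620077 IH) (Lpe (f389247 IH) (Lpr_ff (f389231 IH) (Lpn (LP (LK LD1_c10 LD2_c52 LD3_c19))))))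
def v38030 : LQ := Led Lsl_ct (LP (LK LD1_c9 LD2_c3 LD3_c61))
theorem f898705 : Led Lsl_ct (LP (LK LD1_c9 LD2_c3 LD3_c61)) = v38030 :=
  Lrfl
theorem f898711 : Led Lsl_dt (LP (LK LD1_c10 LD2_c52 LD3_c19)) = v38030 :=
  Lgr Lrot27 (Lpe (K30.f384867 IH) (Lpe (K30.f187030 IH) (Lpe (K14.f225398 IH) (Lpe (K31.f179769 IH) (Lpe (K42.f391789 IH) (Lpr_gt (K42.f218849 IH) (Lpr_ct (K42.f225176 IH) (Lpr_gt (K42.f391708 IH) (Lpr_ct (f898705 IH) (Lpn v38030))))))))))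
theorem f918107 : Led Lsl_gt v38030 = v40595 :=
  Lgr Lrot9 (Lpe (f898711 IH) (Lpe (f620079 IH) (Lpr_ct (f620073 IH) (Lpe (K54.f384448 IH) (Lpr_ct (K30.f277326 IH) (Lpr_df (K30.f277332 IH) (Lpe (K68.f175228 IH) (Lpe (K54.f277349 IH) (Lpr_cf (f918105 IH) (Lpn v40595))))))))))
theorem f494158 : Led Lsl_bt (LP (LK LD1_c2 LD2_c13 LD3_c35)) = (LP (LK LD1_c4 LD2_c33 LD3_c17)) :=
  Lre_b IH (LK LD1_c2 LD2_c13 LD3_c35) (LK LD1_c4 LD2_c33 LD3_c17) Lrfl Lrfl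
theorem f174602 : Led Lsl_ct (LP (LK LD1_c2 LD2_c13 LD3_c35)) = (LP (LK LD1_c1 LD2_c3 LD3_c48)) :=
  Lre_c IH (LK LD1_c2 LD2_c13 LD3_c35) (LK LD1_c1 LD2_c3 LD3_c48) Lrfl Lrfl
theorem f547175 : Led Lsl_bt (LP (LK LD1_c4 LD2_c33 LD3_c13)) = (LP (LK LD1_c9 LD2_c3 LD3_c48)) :=
  Lre_b IH (LK LD1_c4 LD2_c33 LD3_c13) (LK LD1_c9 LD2_c3 LD3_c48) Lrfl Lrfl
theorem f621279 : Led Lsl_gt (LP (LK LD1_c16 LD2_c55 LD3_c2)) = (LP (LK LD1_c9 LD2_c3 LD3_c48)) :=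
  Lre_g IH (LK LD1_c16 LD2_c55 LD3_c2) (LK LD1_c9 LD2_c3 LD3_c48) Lrfl Lrfl
theorem f918108 : Led Lsl_bf (LP (LK LD1_c16 LD2_c55 LD3_c2)) = (LP (LK LD1_c11 LD2_c0 LD3_c60)) :=
  Lgr Lrot156 (Lpr_gt (f621279 IH) (Lpe (f547175 IH) (Lpr_ct (K39.f547164 IH) (Lpr_gt (K38.f100416 IH) (Lpe (f174602 IH) (Lpr_bt (f494158 IH) (Lpr_gt (K42.f391708 IH) (Lpr_ct (f898705 IH) (Lpr_gt (f918107 IH) (Lpe (f918104 IH) (Lpn (LP (LK LD1_c11 LD2_c0 LD3_c60)))))))))))))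
theorem f918109 : Led Lsl_bt (LP (LK LD1_c11 LD2_c0 LD3_c60)) = (LP (LK LD1_c16 LD2_c55 LD3_c2)) :=
  Leop (Lpr_bf (f918108 IH) (Lpn (LP (LK LD1_c11 LD2_c0 LD3_c60))))
theorem seed_2401 : LEOK LG_b (LK LD1_c11 LD2_c0 LD3_c60) :=
  Leoe_b (LK LD1_c11 LD2_c0 LD3_c60) (f918109 IH)
def v40645 : LQ := Led Lsl_gt (LP (LK LD1_c9 LD2_c44 LD3_c24))
theorem f918276 : Led Lsl_gt (LP (LK LD1_c9 LD2_c44 LD3_c24)) = v40645 :=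
  Lrfl
def v40646 : LQ := Led Lsl_gf (LP (LK LD1_c9 LD2_c44 LD3_c24))
theorem f918277 : Led Lsl_gf (LP (LK LD1_c9 LD2_c44 LD3_c24)) = v40646 :=
  Lrfl
theorem f718818 : Led Lsl_et (LP (LK LD1_c4 LD2_c56 LD3_c24)) = (LP (LK LD1_c9 LD2_c44 LD3_c24)) :=
  Lre_e IH (LK LD1_c4 LD2_c56 LD3_c24) (LK LD1_c9 LD2_c44 LD3_c24) Lrfl Lrfl
theorem f753515 : Led Lsl_cf (LP (LK LD1_c9 LD2_c5 LD3_c17)) = (LP (LK LD1_c9 LD2_c44 LD3_c24)) :=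
  Lgr Lrot39 (Lpr_et (K50.f211872 IH) (Lpr_ct (K67.f698792 IH) (Lpqs (K67.f753509 IH) (Lpr_et (f718818 IH) (Lpn (LP (LK LD1_c9 LD2_c44 LD3_c24)))))))
theorem f408405 : Led Lsl_gt (LP (LK LD1_c10 LD2_c11 LD3_c27)) = (LP (LK LD1_c9 LD2_c57 LD3_c14)) :=
  Lgr Lrot5 (Lpr_ft (K54.f408402 IH) (Lpr_at (K54.f408396 IH) (Lpe (K54.f177259 IH) (Lpn (LP (LK LD1_c9 LD2_c57 LD3_c14))))))
theorem f299922 : Led Lsl_et (LP (LK LD1_c9 LD2_c57 LD3_c9)) = (LP (LK LD1_c5 LD2_c3 LD3_c7)) :=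
  Lre_e IH (LK LD1_c9 LD2_c57 LD3_c9) (LK LD1_c5 LD2_c3 LD3_c7) Lrfl Lrfl
theorem f299923 : Led Lsl_ft (LP (LK LD1_c18 LD2_c12 LD3_c57)) = (LP (LK LD1_c9 LD2_c57 LD3_c9)) :=
  Lre_f IH (LK LD1_c18 LD2_c12 LD3_c57) (LK LD1_c9 LD2_c57 LD3_c9) Lrfl Lrfl
theorem f299925 : Led Lsl_ft (LP (LK LD1_c10 LD2_c10 LD3_c43)) = (LP (LK LD1_c18 LD2_c32 LD3_c36)) :=
  Lre_f IH (LK LD1_c10 LD2_c10 LD3_c43) (LK LD1_c18 LD2_c32 LD3_c36) Lrfl Lrfl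
theorem f299926 : Led Lsl_ef (LP (LK LD1_c18 LD2_c12 LD3_c57)) = (LP (LK LD1_c18 LD2_c32 LD3_c36)) :=
  Lgr Lrot21 (Lpr_ft (f299923 IH) (Lpr_et (f299922 IH) (Lpr_ft (K53.f299916 IH) (Lpr_et (K69.f299924 IH) (Lpr_ft (f299925 IH) (Lpn (LP (LK LD1_c18 LD2_c32 LD3_c36))))))))
theorem f299934 : Led Lsl_et (LP (LK LD1_c18 LD2_c12 LD3_c57)) = (LP (LK LD1_c18 LD2_c32 LD3_c36)) :=
  Lgr Lrot87 (Lpr_ef (f299926 IH) (Lpn (LP (LK LD1_c18 LD2_c32 LD3_c36))))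
theorem f177264 : Led Lsl_bt (LP (LK LD1_c9 LD2_c57 LD3_c16)) = (LP (LK LD1_c18 LD2_c12 LD3_c57)) :=
  Lre_b IH (LK LD1_c9 LD2_c57 LD3_c16) (LK LD1_c18 LD2_c12 LD3_c57) Lrfl Lrfl
theorem f180720 : Led Lsl_bt (LP (LK LD1_c18 LD2_c32 LD3_c36)) = (LP (LK LD1_c10 LD2_c10 LD3_c47)) :=
  Lre_b IH (LK LD1_c18 LD2_c32 LD3_c36) (LK LD1_c10 LD2_c10 LD3_c47) Lrfl Lrfl
theorem f299936 : Led Lsl_ef (LP (LK LD1_c9 LD2_c57 LD3_c16)) = (LP (LK LD1_c10 LD2_c10 LD3_c47)) :=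
  Lgr Lrot29 (Lpr_bt (f177264 IH) (Lpr_et (f299934 IH) (Lpr_bt (f180720 IH) (Lpn (LP (LK LD1_c10 LD2_c10 LD3_c47))))))
theorem f408411 : Led Lsl_et (LP (LK LD1_c10 LD2_c11 LD3_c27)) = (LP (LK LD1_c9 LD2_c56 LD3_c15)) :=
  Lgr Lrot123 (Lpr_af (K54.f408403 IH) (Lpr_ef (f299936 IH) (Lpr_af (K17.f288203 IH) (Lpn (LP (LK LD1_c9 LD2_c56 LD3_c15))))))
theorem f408416 : Led Lsl_cf (LP (LK LD1_c10 LD2_c11 LD3_c27)) = (LP (LK LD1_c5 LD2_c14 LD3_c36)) :=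
  Lgr Lrot39 (Lpr_et (f408411 IH) (Lpr_ct (K70.f165769 IH) (Lpe (K17.f288133 IH) (Lpn (LP (LK LD1_c5 LD2_c14 LD3_c36))))))
theorem f896674 : Led Lsl_af (LP (LK LD1_c11 LD2_c8 LD3_c19)) = (LP (LK LD1_c16 LD2_c49 LD3_c50)) :=
  Lgr Lrot0 (Lpr_at (K69.f896672 IH) (Lpn (LP (LK LD1_c16 LD2_c49 LD3_c50))))
theorem f896795 : Led Lsl_gf (LP (LK LD1_c11 LD2_c8 LD3_c19)) = (LP (LK LD1_c10 LD2_c6 LD3_c49)) :=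
  Lgr Lrot76 (Lpr_af (f896674 IH) (Lpe (K69.f698265 IH) (Lpe (K65.f832663 IH) (Lpn (LP (LK LD1_c10 LD2_c6 LD3_c49))))))
theorem f918278 : Led Lsl_ct (LP (LK LD1_c11 LD2_c8 LD3_c19)) = v40646 :=
  Lgr Lrot152 (Lpr_gf (f896795 IH) (Lpe (K65.f53217 IH) (Lpe (K53.f288069 IH) (Lpe (f408416 IH) (Lpr_gt (f408405 IH) (Lpq (K54.f731554 IH) (Lpe (K54.f723086 IH) (Lpr_df (K50.f408195 IH) (Lpr_cf (f753515 IH) (Lpr_gf (f918277 IH) (Lpn v40646)))))))))))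
def v15411 : LQ := Led Lsl_ct (LP (LK LD1_c5 LD2_c38 LD3_c33))
theorem f736166 : Led Lsl_ct (LP (LK LD1_c5 LD2_c38 LD3_c33)) = v15411 :=
  Lrfl
theorem f736167 : Led Lsl_cf (LP (LK LD1_c5 LD2_c38 LD3_c33)) = v15411 :=
  Lgr Lrot11 (Lpr_ct (f736166 IH) (Lpn v15411))
theorem f918280 : Led Lsl_ff v15411 = v40646 :=
  Lgr Lrot23 (Lpe (f736167 IH) (Lpr_ft (K69.f638761 IH) (Lpr_ct (f918278 IH) (Lpn v40646))))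
theorem f736168 : Led Lsl_ef K69.v4737 = v15411 :=
  Lgr Lrot28 (Lpe (K69.f638771 IH) (Lpr_et (K54.f638760 IH) (Lpr_ct (f736166 IH) (Lpn v15411))))
def v24438 : LQ := Led Lsl_ft K69.v4734
theorem f823646 : Led Lsl_ft K69.v4734 = v24438 :=
  Lrfl
theorem f823649 : Led Lsl_ff K69.v4734 = v24438 :=
  Lgr Lrot3 (Lpr_ft (f823646 IH) (Lpn v24438))
theorem f823635 : Led Lsl_cf K65.v4733 = K69.v24433 :=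
  Lgr Lrot11 (Lpr_ct (K69.f823633 IH) (Lpn K69.v24433))
theorem f823638 : Led Lsl_at K69.v4734 = K69.v24433 :=
  Lgr Lrot107 (Lpe (K69.f638762 IH) (Lpr_af (K65.f638755 IH) (Lpr_cf (f823635 IH) (Lpn K69.v24433))))
theorem f823651 : Led Lsl_at K69.v4737 = v24438 :=
  Lgr Lrot66 (Lpr_ff (K69.f823636 IH) (Lpe (f823638 IH) (Lpr_ff (f823649 IH) (Lpn v24438))))
theorem f823652 : Led Lsl_ct K69.v4735 = v24438 :=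
  Lgr Lrot40 (Lpe (K69.f638764 IH) (Lpr_cf (K69.f638763 IH) (Lpr_ff (f823649 IH) (Lpn v24438))))
theorem f896688 : v24438 = K64.v12801 :=
  Lefun (Lecon (f823652 IH) (K69.f896679 IH)) (K64.f698274 IH)
theorem f729644 : Led Lsl_et (LP (LK LD1_c5 LD2_c30 LD3_c39)) = (LP (LK LD1_c10 LD2_c52 LD3_c58)) :=
  Lre_e IH (LK LD1_c5 LD2_c30 LD3_c39) (LK LD1_c10 LD2_c52 LD3_c58) Lrfl Lrfl
theorem f896791 : Led Lsl_af v15411 = (LP (LK LD1_c10 LD2_c52 LD3_c58)) :=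
  Lgr Lrot50 (Lpe (f736168 IH) (Lpr_at (f823651 IH) (Lpqs (f896688 IH) (Lpqs (K64.f823193 IH) (Lpr_et (f729644 IH) (Lpn (LP (LK LD1_c10 LD2_c52 LD3_c58))))))))
theorem f896792 : Led Lsl_at v15411 = (LP (LK LD1_c10 LD2_c52 LD3_c58)) :=
  Lgr Lrot100 (Lpr_af (f896791 IH) (Lpn (LP (LK LD1_c10 LD2_c52 LD3_c58))))
theorem f918282 : (LP (LK LD1_c10 LD2_c52 LD3_c58)) = v40645 :=
  (Llr Lrot26 (Lpe (f896792 IH) (Lpr_ff (f918280 IH) (Lpe (f918277 IH) (Lpr_gt (f918276 IH) (Lpn v40645)))))).symm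
theorem f918283 : Led Lsl_gt (LP (LK LD1_c9 LD2_c44 LD3_c24)) = (LP (LK LD1_c10 LD2_c52 LD3_c58)) :=
  Leop (Lpqs (f918282 IH) (Lpe (f918276 IH) (Lpn (LP (LK LD1_c9 LD2_c44 LD3_c24)))))
theorem seed_2402 : LEOK LG_g (LK LD1_c9 LD2_c44 LD3_c24) :=
  Leoe_g (LK LD1_c9 LD2_c44 LD3_c24) (f918283 IH)
def v40659 : LQ := Led Lsl_gt (LP (LK LD1_c9 LD2_c44 LD3_c54))
theorem f918322 : Led Lsl_gt (LP (LK LD1_c9 LD2_c44 LD3_c54)) = v40659 :=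
  Lrfl
theorem f236786 : Led Lsl_ct (LP (LK LD1_c17 LD2_c54 LD3_c11)) = (LP (LK LD1_c27 LD2_c39 LD3_c41)) :=
  Lre_c IH (LK LD1_c17 LD2_c54 LD3_c11) (LK LD1_c27 LD2_c39 LD3_c41) Lrfl Lrfl
theorem f236785 : Led Lsl_dt (LP (LK LD1_c9 LD2_c44 LD3_c54)) = (LP (LK LD1_c17 LD2_c54 LD3_c11)) :=
  Lre_d IH (LK LD1_c9 LD2_c44 LD3_c54) (LK LD1_c17 LD2_c54 LD3_c11) Lrfl Lrfl
theorem f298086 : Led Lsl_af (LP (LK LD1_c16 LD2_c18 LD3_c36)) = (LP (LK LD1_c17 LD2_c54 LD3_c12)) :=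
  Lgr Lrot109 (Lpr_cf (K19.f298067 IH) (Lpe (K61.f297193 IH) (Lpe (K61.f297308 IH) (Lpe (K61.f297307 IH) (Lpr_cf (K61.f297282 IH) (Lpe (K61.f236787 IH) (Lpe (f236786 IH) (Lpe (f236785 IH) (Lpr_ft (K18.f236789 IH) (Lpn (LP (LK LD1_c17 LD2_c54 LD3_c12))))))))))))
theorem f918323 : Led Lsl_gf (LP (LK LD1_c16 LD2_c18 LD3_c36)) = v40659 :=
  Lgr Lrot76 (Lpr_af (f298086 IH) (Lpe (K18.f236789 IH) (Lpr_gt (f918322 IH) (Lpn v40659))))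
theorem f298080 : Led Lsl_ct (LP (LK LD1_c16 LD2_c18 LD3_c36)) = (LP (LK LD1_c8 LD2_c43 LD3_c4)) :=
  Lgr Lrot59 (Lpr_cf (K19.f298067 IH) (Lpn (LP (LK LD1_c8 LD2_c43 LD3_c4))))
theorem f298033 : Led Lsl_at (LP (LK LD1_c16 LD2_c18 LD3_c35)) = (LP (LK LD1_c17 LD2_c54 LD3_c11)) :=
  Lgr Lrot100 (Lpr_af (K19.f298027 IH) (Lpn (LP (LK LD1_c17 LD2_c54 LD3_c11))))
theorem f298159 : Led Lsl_ft (LP (LK LD1_c26 LD2_c16 LD3_c24)) = (LP (LK LD1_c16 LD2_c18 LD3_c35)) :=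
  Lre_f IH (LK LD1_c26 LD2_c16 LD3_c24) (LK LD1_c16 LD2_c18 LD3_c35) Lrfl Lrfl
theorem f236795 : Led Lsl_gt (LP (LK LD1_c27 LD2_c39 LD3_c40)) = (LP (LK LD1_c17 LD2_c54 LD3_c11)) :=
  Lre_g IH (LK LD1_c27 LD2_c39 LD3_c40) (LK LD1_c17 LD2_c54 LD3_c11) Lrfl Lrfl
theorem f298366 : Led Lsl_gt (LP (LK LD1_c26 LD2_c16 LD3_c24)) = (LP (LK LD1_c27 LD2_c39 LD3_c40)) :=
  Lgr Lrot5 (Lpr_ft (f298159 IH) (Lpr_at (f298033 IH) (Lpe (f236795 IH) (Lpn (LP (LK LD1_c27 LD2_c39 LD3_c40))))))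
theorem f238867 : Led Lsl_et (LP (LK LD1_c4 LD2_c56 LD3_c59)) = (LP (LK LD1_c9 LD2_c45 LD3_c6)) :=
  Lre_e IH (LK LD1_c4 LD2_c56 LD3_c59) (LK LD1_c9 LD2_c45 LD3_c6) Lrfl Lrfl
theorem f238868 : Led Lsl_et (LP (LK LD1_c27 LD2_c40 LD3_c18)) = (LP (LK LD1_c17 LD2_c54 LD3_c39)) :=
  Lre_e IH (LK LD1_c27 LD2_c40 LD3_c18) (LK LD1_c17 LD2_c54 LD3_c39) Lrfl Lrfl
theorem f238869 : Led Lsl_df (LP (LK LD1_c27 LD2_c39 LD3_c40)) = (LP (LK LD1_c27 LD2_c40 LD3_c18)) :=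
  Lgr Lrot170 (Lpr_gt (f236795 IH) (Lpe (f236785 IH) (Lpr_et (K18.f236768 IH) (Lpe (K13.f236855 IH) (Lpr_dt (K12.f39031 IH) (Lpr_gt (K13.f43201 IH) (Lpr_df (K13.f238844 IH) (Lpr_et (f238867 IH) (Lpr_gt (K39.f172799 IH) (Lpe (f238868 IH) (Lpn (LP (LK LD1_c27 LD2_c40 LD3_c18)))))))))))))
theorem f238871 : Led Lsl_dt (LP (LK LD1_c27 LD2_c39 LD3_c40)) = (LP (LK LD1_c27 LD2_c40 LD3_c18)) :=
  Lgr Lrot42 (Lpr_df (f238869 IH) (Lpn (LP (LK LD1_c27 LD2_c40 LD3_c18))))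
theorem f238873 : Led Lsl_et (LP (LK LD1_c17 LD2_c54 LD3_c39)) = (LP (LK LD1_c27 LD2_c40 LD3_c18)) :=
  Lre_e IH (LK LD1_c17 LD2_c54 LD3_c39) (LK LD1_c27 LD2_c40 LD3_c18) Lrfl Lrfl
theorem f552899 : Led Lsl_cf (LP (LK LD1_c24 LD2_c46 LD3_c3)) = (LP (LK LD1_c27 LD2_c40 LD3_c18)) :=
  Lgr Lrot39 (Lpr_et (K64.f181330 IH) (Lpr_ct (K39.f552895 IH) (Lpr_et (f238873 IH) (Lpn (LP (LK LD1_c27 LD2_c40 LD3_c18))))))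
theorem f229421 : Led Lsl_df (LP (LK LD1_c24 LD2_c46 LD3_c3)) = (LP (LK LD1_c24 LD2_c46 LD3_c34)) :=
  Lgr Lrot38 (Lpr_dt (K64.f229419 IH) (Lpn (LP (LK LD1_c24 LD2_c46 LD3_c34))))
def v35556 : LQ := Led Lsl_gt (LP (LK LD1_c7 LD2_c56 LD3_c31))
theorem f875840 : Led Lsl_gt (LP (LK LD1_c7 LD2_c56 LD3_c31)) = v35556 :=
  Lrfl
theorem f875841 : Led Lsl_gf (LP (LK LD1_c8 LD2_c44 LD3_c58)) = v35556 :=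
  Lgr Lrot76 (Lpr_af (K15.f262252 IH) (Lpe (K15.f197756 IH) (Lpr_gt (f875840 IH) (Lpn v35556))))
theorem f918324 : Led Lsl_ct v35556 = v40659 :=
  Lgr Lrot8 (Lpe (f875841 IH) (Lpr_dt (K48.f216682 IH) (Lpe (K64.f385989 IH) (Lpe (f229421 IH) (Lpr_cf (f552899 IH) (Lpe (f238871 IH) (Lpe (f298366 IH) (Lpe (K61.f298082 IH) (Lpr_gf (f918323 IH) (Lpn v40659))))))))))
theorem f37797 : Led Lsl_ct (LP (LK LD1_c21 LD2_c4 LD3_c15)) = (LP (LK LD1_c29 LD2_c50 LD3_c22)) :=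
  Lre_c IH (LK LD1_c21 LD2_c4 LD3_c15) (LK LD1_c29 LD2_c50 LD3_c22) Lrfl Lrfl
theorem f918326 : Led Lsl_gf (LP (LK LD1_c26 LD2_c17 LD3_c57)) = (LP (LK LD1_c29 LD2_c50 LD3_c22)) :=
  Lgr Lrot104 (Lpr_ct (K61.f297308 IH) (Lpe (K18.f297128 IH) (Lpe (f298080 IH) (Lpr_gf (f918323 IH) (Lpe (f918324 IH) (Lpe (f875840 IH) (Lpe (K57.f197761 IH) (Lpe (K37.f227565 IH) (Lpr_ct (f37797 IH) (Lpn (LP (LK LD1_c29 LD2_c50 LD3_c22))))))))))))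
theorem f918327 : Led Lsl_gt (LP (LK LD1_c29 LD2_c50 LD3_c22)) = (LP (LK LD1_c26 LD2_c17 LD3_c57)) :=
  Leop (Lpr_gf (f918326 IH) (Lpn (LP (LK LD1_c29 LD2_c50 LD3_c22))))
theorem seed_2403 : LEOK LG_g (LK LD1_c29 LD2_c50 LD3_c22) :=
  Leoe_g (LK LD1_c29 LD2_c50 LD3_c22) (f918327 IH)
theorem f619204 : Led Lsl_ct (LP (LK LD1_c24 LD2_c46 LD3_c3)) = (LP (LK LD1_c27 LD2_c40 LD3_c18)) :=
  Lgr Lrot59 (Lpr_cf (f552899 IH) (Lpn (LP (LK LD1_c27 LD2_c40 LD3_c18))))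
theorem f918325 : Led Lsl_cf v35556 = v40659 :=
  Lgr Lrot166 (Lpe (f875841 IH) (Lpr_dt (K48.f216682 IH) (Lpe (K64.f385989 IH) (Lpe (f229421 IH) (Lpr_ct (f619204 IH) (Lpe (f238871 IH) (Lpe (f298366 IH) (Lpe (K61.f298082 IH) (Lpr_gf (f918323 IH) (Lpn v40659))))))))))
theorem f216673 : Led Lsl_dt (LP (LK LD1_c16 LD2_c15 LD3_c52)) = (LP (LK LD1_c26 LD2_c13 LD3_c34)) :=
  Lre_d IH (LK LD1_c16 LD2_c15 LD3_c52) (LK LD1_c26 LD2_c13 LD3_c34) Lrfl Lrfl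
theorem f216678 : Led Lsl_ct (LP (LK LD1_c32 LD2_c6 LD3_c8)) = (LP (LK LD1_c26 LD2_c13 LD3_c34)) :=
  Lre_c IH (LK LD1_c32 LD2_c6 LD3_c8) (LK LD1_c26 LD2_c13 LD3_c34) Lrfl Lrfl
theorem f299107 : Led Lsl_af (LP (LK LD1_c16 LD2_c15 LD3_c58)) = (LP (LK LD1_c24 LD2_c44 LD3_c56)) :=
  Lgr Lrot45 (Lpr_ft (K18.f262158 IH) (Lpr_at (K18.f299105 IH) (Lpr_ft (K18.f224980 IH) (Lpn (LP (LK LD1_c24 LD2_c44 LD3_c56))))))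
theorem f299142 : Led Lsl_et (LP (LK LD1_c16 LD2_c15 LD3_c58)) = (LP (LK LD1_c26 LD2_c13 LD3_c33)) :=
  Lre_e IH (LK LD1_c16 LD2_c15 LD3_c58) (LK LD1_c26 LD2_c13 LD3_c33) Lrfl Lrfl
theorem f197782 : Led Lsl_ct (LP (LK LD1_c17 LD2_c44 LD3_c40)) = (LP (LK LD1_c27 LD2_c31 LD3_c21)) :=
  Lre_c IH (LK LD1_c17 LD2_c44 LD3_c40) (LK LD1_c27 LD2_c31 LD3_c21) Lrfl Lrfl
theorem f224957 : Led Lsl_ef (LP (LK LD1_c24 LD2_c44 LD3_c56)) = (LP (LK LD1_c27 LD2_c31 LD3_c21)) :=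
  Lgr Lrot28 (Lpr_ct (K18.f224943 IH) (Lpr_et (K27.f224951 IH) (Lpr_ct (f197782 IH) (Lpn (LP (LK LD1_c27 LD2_c31 LD3_c21))))))
theorem f406856 : Led Lsl_at (LP (LK LD1_c26 LD2_c13 LD3_c33)) = (LP (LK LD1_c27 LD2_c31 LD3_c21)) :=
  Lgr Lrot80 (Lpe (f299142 IH) (Lpr_af (f299107 IH) (Lpr_ef (f224957 IH) (Lpn (LP (LK LD1_c27 LD2_c31 LD3_c21))))))
theorem f406860 : Led Lsl_ft (LP (LK LD1_c32 LD2_c6 LD3_c8)) = (LP (LK LD1_c26 LD2_c13 LD3_c33)) :=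
  Lre_f IH (LK LD1_c32 LD2_c6 LD3_c8) (LK LD1_c26 LD2_c13 LD3_c33) Lrfl Lrfl
theorem f224981 : Led Lsl_ft (LP (LK LD1_c27 LD2_c31 LD3_c21)) = (LP (LK LD1_c32 LD2_c25 LD3_c29)) :=
  Lre_f IH (LK LD1_c27 LD2_c31 LD3_c21) (LK LD1_c32 LD2_c25 LD3_c29) Lrfl Lrfl
theorem f406861 : Led Lsl_af (LP (LK LD1_c32 LD2_c6 LD3_c8)) = (LP (LK LD1_c32 LD2_c25 LD3_c29)) :=
  Lgr Lrot45 (Lpr_ft (f406860 IH) (Lpr_at (f406856 IH) (Lpr_ft (f224981 IH) (Lpn (LP (LK LD1_c32 LD2_c25 LD3_c29))))))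
theorem f224982 : Led Lsl_gt (LP (LK LD1_c27 LD2_c31 LD3_c21)) = (LP (LK LD1_c32 LD2_c25 LD3_c26)) :=
  Lre_g IH (LK LD1_c27 LD2_c31 LD3_c21) (LK LD1_c32 LD2_c25 LD3_c26) Lrfl Lrfl
theorem f406865 : Led Lsl_gf (LP (LK LD1_c32 LD2_c6 LD3_c8)) = (LP (LK LD1_c32 LD2_c25 LD3_c26)) :=
  Lgr Lrot76 (Lpr_af (f406861 IH) (Lpe (f224981 IH) (Lpr_gt (f224982 IH) (Lpn (LP (LK LD1_c32 LD2_c25 LD3_c26))))))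
theorem f236916 : Led Lsl_gt (LP (LK LD1_c17 LD2_c54 LD3_c11)) = (LP (LK LD1_c27 LD2_c39 LD3_c39)) :=
  Lre_g IH (LK LD1_c17 LD2_c54 LD3_c11) (LK LD1_c27 LD2_c39 LD3_c39) Lrfl Lrfl
theorem f918332 : Led Lsl_cf (LP (LK LD1_c32 LD2_c25 LD3_c26)) = (LP (LK LD1_c27 LD2_c39 LD3_c39)) :=
  Lgr Lrot169 (Lpe (f406865 IH) (Lpr_ct (f216678 IH) (Lpe (f216673 IH) (Lpr_cf (K15.f216661 IH) (Lpr_gf (f875841 IH) (Lpr_cf (f918325 IH) (Lpe (f918322 IH) (Lpe (K18.f236794 IH) (Lpr_gt (f236916 IH) (Lpn (LP (LK LD1_c27 LD2_c39 LD3_c39))))))))))))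
theorem f918333 : Led Lsl_ct (LP (LK LD1_c27 LD2_c39 LD3_c39)) = (LP (LK LD1_c32 LD2_c25 LD3_c26)) :=
  Leop (Lpr_cf (f918332 IH) (Lpn (LP (LK LD1_c27 LD2_c39 LD3_c39))))
theorem seed_2404 : LEOK LG_c (LK LD1_c27 LD2_c39 LD3_c39) :=
  Leoe_c (LK LD1_c27 LD2_c39 LD3_c39) (f918333 IH)
def v40672 : LQ := Led Lsl_ft (LP (LK LD1_c9 LD2_c45 LD3_c17))
theorem f918399 : Led Lsl_ft (LP (LK LD1_c9 LD2_c45 LD3_c17)) = v40672 :=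
  Lrfl
theorem f582511 : Led Lsl_gt (LP (LK LD1_c9 LD2_c45 LD3_c17)) = (LP (LK LD1_c17 LD2_c54 LD3_c55)) :=
  Lre_g IH (LK LD1_c9 LD2_c45 LD3_c17) (LK LD1_c17 LD2_c54 LD3_c55) Lrfl Lrfl
theorem f589251 : Led Lsl_dt (LP (LK LD1_c5 LD2_c37 LD3_c61)) = (LP (LK LD1_c11 LD2_c7 LD3_c17)) :=
  Lre_d IH (LK LD1_c5 LD2_c37 LD3_c61) (LK LD1_c11 LD2_c7 LD3_c17) Lrfl Lrfl
theorem f382033 : Led Lsl_dt (LP (LK LD1_c4 LD2_c23 LD3_c19)) = (LP (LK LD1_c8 LD2_c44 LD3_c20)) :=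
  Lre_d IH (LK LD1_c4 LD2_c23 LD3_c19) (LK LD1_c8 LD2_c44 LD3_c20) Lrfl Lrfl
theorem f589257 : Led Lsl_gf (LP (LK LD1_c11 LD2_c7 LD3_c17)) = (LP (LK LD1_c8 LD2_c44 LD3_c20)) :=
  Lgr Lrot134 (Lpe (f589251 IH) (Lpr_et (K51.f589252 IH) (Lpr_gt (K11.f119887 IH) (Lpr_ef (K42.f570758 IH) (Lpr_dt (K4.f79965 IH) (Lpr_gt (K6.f141960 IH) (Lpr_df (K6.f141951 IH) (Lpr_et (K42.f500188 IH) (Lpqs (K42.f541409 IH) (Lpr_gt (K39.f382006 IH) (Lpr_dt (f382033 IH) (Lpn (LP (LK LD1_c8 LD2_c44 LD3_c20))))))))))))))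
theorem f589241 : Led Lsl_bf (LP (LK LD1_c11 LD2_c7 LD3_c17)) = (LP (LK LD1_c11 LD2_c11 LD3_c25)) :=
  Lgr Lrot93 (Lpr_dt (K51.f557310 IH) (Lpr_bt (K51.f589195 IH) (Lpe (K51.f589175 IH) (Lpn (LP (LK LD1_c11 LD2_c11 LD3_c25))))))
theorem f411944 : Led Lsl_ct (LP (LK LD1_c5 LD2_c41 LD3_c23)) = (LP (LK LD1_c2 LD2_c46 LD3_c44)) :=
  Lre_c IH (LK LD1_c5 LD2_c41 LD3_c23) (LK LD1_c2 LD2_c46 LD3_c44) Lrfl Lrfl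
theorem f411964 : Led Lsl_gt (LP (LK LD1_c5 LD2_c41 LD3_c50)) = (LP (LK LD1_c11 LD2_c13 LD3_c43)) :=
  Lgr Lrot94 (Lpe (K39.f280575 IH) (Lpr_gt (K31.f174138 IH) (Lpr_dt (K30.f181503 IH) (Lpr_gt (K10.f174963 IH) (Lpr_dt (K31.f174964 IH) (Lpe (f411944 IH) (Lpe (K31.f411943 IH) (Lpe (K39.f411941 IH) (Lpr_df (K45.f411953 IH) (Lpn (LP (LK LD1_c11 LD2_c13 LD3_c43))))))))))))
theorem f589261 : Led Lsl_bt (LP (LK LD1_c6 LD2_c15 LD3_c32)) = (LP (LK LD1_c8 LD2_c44 LD3_c20)) :=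
  Lgr Lrot22 (Lpr_ct (K40.f561681 IH) (Lpe (f411964 IH) (Lpe (K39.f280575 IH) (Lpr_gf (K39.f280573 IH) (Lpe (K16.f268819 IH) (Lpr_ct (K16.f268844 IH) (Lpr_gf (K45.f281964 IH) (Lpe (K51.f589165 IH) (Lpe (f589241 IH) (Lpr_gf (f589257 IH) (Lpn (LP (LK LD1_c8 LD2_c44 LD3_c20)))))))))))))
theorem f589266 : Led Lsl_bf (LP (LK LD1_c6 LD2_c15 LD3_c32)) = (LP (LK LD1_c8 LD2_c44 LD3_c20)) :=
  Lgr Lrot24 (Lpr_bt (f589261 IH) (Lpn (LP (LK LD1_c8 LD2_c44 LD3_c20))))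
theorem f542211 : Led Lsl_at (LP (LK LD1_c3 LD2_c58 LD3_c61)) = (LP (LK LD1_c7 LD2_c59 LD3_c11)) :=
  Lre_a IH (LK LD1_c3 LD2_c58 LD3_c61) (LK LD1_c7 LD2_c59 LD3_c11) Lrfl Lrfl
theorem f579063 : Led Lsl_af (LP (LK LD1_c7 LD2_c59 LD3_c19)) = (LP (LK LD1_c6 LD2_c15 LD3_c32)) :=
  Lgr Lrot117 (Lpr_dt (K37.f157832 IH) (Lpr_at (f542211 IH) (Lpr_dt (K43.f579061 IH) (Lpn (LP (LK LD1_c6 LD2_c15 LD3_c32))))))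
theorem f579858 : Led Lsl_ft (LP (LK LD1_c4 LD2_c57 LD3_c3)) = (LP (LK LD1_c2 LD2_c26 LD3_c35)) :=
  Lre_f IH (LK LD1_c4 LD2_c57 LD3_c3) (LK LD1_c2 LD2_c26 LD3_c35) Lrfl Lrfl
theorem f580259 : Led Lsl_bt (LP (LK LD1_c7 LD2_c59 LD3_c19)) = (LP (LK LD1_c4 LD2_c57 LD3_c3)) :=
  Lgr Lrot35 (Lpr_ff (K44.f580257 IH) (Lpe (K36.f381433 IH) (Lpe (f579858 IH) (Lpn (LP (LK LD1_c4 LD2_c57 LD3_c3))))))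
theorem f589280 : Led Lsl_at (LP (LK LD1_c4 LD2_c57 LD3_c5)) = (LP (LK LD1_c8 LD2_c44 LD3_c20)) :=
  Lgr Lrot67 (Lpe (K41.f381434 IH) (Lpe (K27.f381387 IH) (Lpe (f580259 IH) (Lpr_af (f579063 IH) (Lpr_bf (f589266 IH) (Lpn (LP (LK LD1_c8 LD2_c44 LD3_c20))))))))
theorem f557322 : Led Lsl_et (LP (LK LD1_c9 LD2_c45 LD3_c17)) = (LP (LK LD1_c4 LD2_c57 LD3_c5)) :=
  Lre_e IH (LK LD1_c9 LD2_c45 LD3_c17) (LK LD1_c4 LD2_c57 LD3_c5) Lrfl Lrfl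
theorem f382042 : Led Lsl_et (LP (LK LD1_c8 LD2_c44 LD3_c20)) = (LP (LK LD1_c16 LD2_c21 LD3_c41)) :=
  Lre_e IH (LK LD1_c8 LD2_c44 LD3_c20) (LK LD1_c16 LD2_c21 LD3_c41) Lrfl Lrfl
theorem f589284 : Led Lsl_af (LP (LK LD1_c9 LD2_c45 LD3_c17)) = (LP (LK LD1_c16 LD2_c21 LD3_c41)) :=
  Lgr Lrot50 (Lpr_et (f557322 IH) (Lpr_at (f589280 IH) (Lpr_et (f382042 IH) (Lpn (LP (LK LD1_c16 LD2_c21 LD3_c41))))))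
theorem f589272 : Led Lsl_ft (LP (LK LD1_c26 LD2_c19 LD3_c44)) = (LP (LK LD1_c16 LD2_c21 LD3_c41)) :=
  Lre_f IH (LK LD1_c26 LD2_c19 LD3_c44) (LK LD1_c16 LD2_c21 LD3_c41) Lrfl Lrfl
theorem f918400 : Led Lsl_af (LP (LK LD1_c26 LD2_c19 LD3_c44)) = v40672 :=
  Lgr Lrot45 (Lpr_ft (f589272 IH) (Lpe (f589284 IH) (Lpr_ft (f918399 IH) (Lpn v40672))))
theorem f918403 : Led Lsl_gt (LP (LK LD1_c17 LD2_c54 LD3_c55)) = (LP (LK LD1_c26 LD2_c19 LD3_c44)) :=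
  Lgr Lrot46 (Lpe (f582511 IH) (Lpr_ft (f918399 IH) (Lpe (f918400 IH) (Lpn (LP (LK LD1_c26 LD2_c19 LD3_c44))))))
theorem f918404 : Led Lsl_gt (LP (LK LD1_c17 LD2_c54 LD3_c55)) = (LP (LK LD1_c26 LD2_c19 LD3_c44)) :=
  Leop (Lpe (f918403 IH) (Lpn (LP (LK LD1_c17 LD2_c54 LD3_c55))))
theorem seed_2405 : LEOK LG_g (LK LD1_c17 LD2_c54 LD3_c55) :=
  Leoe_g (LK LD1_c17 LD2_c54 LD3_c55) (f918404 IH)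
def v40679 : LQ := Led Lsl_dt (LP (LK LD1_c9 LD2_c45 LD3_c25))
theorem f918439 : Led Lsl_dt (LP (LK LD1_c9 LD2_c45 LD3_c25)) = v40679 :=
  Lrfl
theorem f211916 : Led Lsl_dt (LP (LK LD1_c5 LD2_c44 LD3_c31)) = (LP (LK LD1_c2 LD2_c48 LD3_c9)) :=
  Lre_d IH (LK LD1_c5 LD2_c44 LD3_c31) (LK LD1_c2 LD2_c48 LD3_c9) Lrfl Lrfl
theorem f384100 : Led Lsl_gf (LP (LK LD1_c9 LD2_c45 LD3_c58)) = (LP (LK LD1_c11 LD2_c11 LD3_c55)) :=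
  Lgr Lrot104 (Lpr_ct (K28.f383806 IH) (Lpe (K27.f381546 IH) (Lpe (K27.f381530 IH) (Lpe (K36.f381547 IH) (Lpe (K39.f381129 IH) (Lpe (K39.f211917 IH) (Lpe (f211916 IH) (Lpr_gt (K36.f383325 IH) (Lpe (K36.f383367 IH) (Lpn (LP (LK LD1_c11 LD2_c11 LD3_c55))))))))))))
theorem f918445 : Led Lsl_ct (LP (LK LD1_c11 LD2_c18 LD3_c36)) = v40679 :=
  Lgr Lrot151 (Lpr_gf (K52.f383691 IH) (Lpe (K28.f383806 IH) (Lpr_gf (f384100 IH) (Lpr_dt (K36.f289474 IH) (Lpr_gt (K27.f289501 IH) (Lpe (K39.f382132 IH) (Lpe (K36.f541726 IH) (Lpr_ct (K36.f541715 IH) (Lpr_dt (f918439 IH) (Lpn v40679))))))))))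
theorem f383275 : Led Lsl_bt (LP (LK LD1_c11 LD2_c18 LD3_c36)) = (LP (LK LD1_c20 LD2_c15 LD3_c6)) :=
  Lre_b IH (LK LD1_c11 LD2_c18 LD3_c36) (LK LD1_c20 LD2_c15 LD3_c6) Lrfl Lrfl
def v36655 : LQ := Led Lsl_bt (LP (LK LD1_c8 LD2_c33 LD3_c6))
theorem f889430 : Led Lsl_bt (LP (LK LD1_c8 LD2_c33 LD3_c6)) = v36655 :=
  Lrfl
theorem f319570 : Led Lsl_dt (LP (LK LD1_c8 LD2_c33 LD3_c30)) = (LP (LK LD1_c16 LD2_c3 LD3_c52)) :=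
  Lre_d IH (LK LD1_c8 LD2_c33 LD3_c30) (LK LD1_c16 LD2_c3 LD3_c52) Lrfl Lrfl
theorem f882880 : Led Lsl_df (LP (LK LD1_c8 LD2_c33 LD3_c6)) = K67.v36234 :=
  Lgr Lrot155 (Lpr_gt (K50.f170257 IH) (Lpr_ct (K27.f170251 IH) (Lpr_gt (K64.f170250 IH) (Lpr_ct (K64.f170254 IH) (Lpr_dt (f319570 IH) (Lpr_cf (K67.f404581 IH) (Lpe (K67.f882878 IH) (Lpe (K67.f171028 IH) (Lpr_gf (K67.f882876 IH) (Lpn K67.v36234))))))))))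
theorem f889433 : Led Lsl_df K67.v14077 = v36655 :=
  Lgr Lrot12 (Lpr_bt (K67.f882881 IH) (Lpe (f882880 IH) (Lpr_bt (f889430 IH) (Lpn v36655))))
theorem f918444 : Led Lsl_gf v36655 = v40679 :=
  Lgr Lrot143 (Lpe (f889433 IH) (Lpe (K67.f718890 IH) (Lpe (K32.f427517 IH) (Lpe (K32.f165144 IH) (Lpe (K20.f165124 IH) (Lpe (K27.f381384 IH) (Lpe (K31.f172455 IH) (Lpr_gt (K36.f381375 IH) (Lpr_dt (f918439 IH) (Lpn v40679))))))))))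
theorem f889434 : Led Lsl_ff (LP (LK LD1_c9 LD2_c45 LD3_c54)) = v36655 :=
  Lgr Lrot25 (Lpe (K50.f406119 IH) (Lpe (K68.f694865 IH) (Lpr_bt (f889430 IH) (Lpn v36655))))
theorem f889435 : Led Lsl_ct (LP (LK LD1_c11 LD2_c18 LD3_c2)) = v36655 :=
  Lgr Lrot40 (Lpr_ff (K50.f597918 IH) (Lpr_cf (K50.f406127 IH) (Lpr_ff (f889434 IH) (Lpn v36655))))
def v36451 : LQ := Led Lsl_gf (LP (LK LD1_c8 LD2_c25 LD3_c44))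
theorem f885635 : Led Lsl_gf (LP (LK LD1_c8 LD2_c25 LD3_c44)) = v36451 :=
  Lrfl
theorem f885636 : Led Lsl_gt K50.v12508 = v36451 :=
  Lgr Lrot5 (Lpr_ft (K50.f694839 IH) (Lpe (K68.f694853 IH) (Lpr_gf (f885635 IH) (Lpn v36451))))
theorem f178374 : Led Lsl_ct (LP (LK LD1_c4 LD2_c13 LD3_c17)) = (LP (LK LD1_c8 LD2_c25 LD3_c44)) :=
  Lre_c IH (LK LD1_c4 LD2_c13 LD3_c17) (LK LD1_c8 LD2_c25 LD3_c44) Lrfl Lrfl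
theorem f692519 : Led Lsl_bt (LP (LK LD1_c4 LD2_c13 LD3_c17)) = (LP (LK LD1_c8 LD2_c25 LD3_c43)) :=
  Lre_b IH (LK LD1_c4 LD2_c13 LD3_c17) (LK LD1_c8 LD2_c25 LD3_c43) Lrfl Lrfl
theorem f337187 : Led Lsl_af (LP (LK LD1_c2 LD2_c3 LD3_c34)) = (LP (LK LD1_c2 LD2_c2 LD3_c27)) :=
  Lgr Lrot0 (Lpr_at (K22.f337185 IH) (Lpn (LP (LK LD1_c2 LD2_c2 LD3_c27))))
theorem f692455 : Led Lsl_bf (LP (LK LD1_c8 LD2_c21 LD3_c4)) = K49.v12495 :=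
  Lgr Lrot81 (Lpr_at (K49.f337218 IH) (Lpr_bt (K38.f170981 IH) (Lpe (f337187 IH) (Lpr_bt (K49.f178316 IH) (Lpr_at (K49.f692453 IH) (Lpn K49.v12495))))))
def v14014 : LQ := Led Lsl_dt (LP (LK LD1_c4 LD2_c53 LD3_c41))
theorem f718589 : Led Lsl_dt (LP (LK LD1_c4 LD2_c53 LD3_c41)) = v14014 :=
  Lrfl
theorem f718590 : Led Lsl_bf (LP (LK LD1_c4 LD2_c53 LD3_c43)) = v14014 :=
  Lgr Lrot93 (Lpr_dt (K39.f2848 IH) (Lpr_bt (K53.f397687 IH) (Lpr_dt (f718589 IH) (Lpn v14014))))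
theorem f885637 : Led Lsl_ct v14014 = v36451 :=
  Lgr Lrot64 (Lpe (f718590 IH) (Lpe (K39.f550869 IH) (Lpr_bf (f692455 IH) (Lpr_ct (K68.f885306 IH) (Lpe (K68.f885305 IH) (Lpr_cf (K68.f885618 IH) (Lpe (K68.f885615 IH) (Lpe (f692519 IH) (Lpr_ct (f178374 IH) (Lpr_gf (f885635 IH) (Lpn v36451)))))))))))
theorem f885638 : Led Lsl_cf v14014 = v36451 :=
  Lgr Lrot11 (Lpr_ct (f885637 IH) (Lpn v36451))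
def v36850 : LQ := Led Lsl_ct (LP (LK LD1_c8 LD2_c36 LD3_c18))
theorem f890563 : Led Lsl_ct (LP (LK LD1_c8 LD2_c36 LD3_c18)) = v36850 :=
  Lrfl
theorem f890566 : Led Lsl_df v36366 = v36850 :=
  Lgr Lrot162 (Lpe (f885132 IH) (Lpe (f167090 IH) (Lpe (K49.f167089 IH) (Lpe (K49.f237201 IH) (Lpr_dt (K50.f692495 IH) (Lpqs (K50.f694836 IH) (Lpe (K50.f631390 IH) (Lpr_ct (K50.f179607 IH) (Lpr_gt (f179608 IH) (Lpr_ct (f890563 IH) (Lpn v36850)))))))))))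
theorem f890567 : Led Lsl_gt v14014 = v36850 :=
  Lgr Lrot49 (Lpe (f718589 IH) (Lpr_gf (K53.f693539 IH) (Lpe (K52.f693537 IH) (Lpr_gt (K41.f304839 IH) (Lpr_dt (f304796 IH) (Lpr_gt (f885138 IH) (Lpe (f885136 IH) (Lpr_cf (f885133 IH) (Lpr_df (f890566 IH) (Lpn v36850))))))))))
theorem f250848 : Led Lsl_bf (LP (LK LD1_c15 LD2_c59 LD3_c14)) = (LP (LK LD1_c8 LD2_c36 LD3_c18)) :=
  Lgr Lrot24 (Lpr_bt (f250843 IH) (Lpn (LP (LK LD1_c8 LD2_c36 LD3_c18))))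
theorem f918446 : Led Lsl_gf (LP (LK LD1_c20 LD2_c15 LD3_c6)) = (LP (LK LD1_c15 LD2_c59 LD3_c14)) :=
  Lgr Lrot124 (Lpe (f383275 IH) (Lpr_ct (f918445 IH) (Lpe (f918444 IH) (Lpe (f889435 IH) (Lpr_bt (K50.f692523 IH) (Lpr_gt (f885636 IH) (Lpe (f885638 IH) (Lpr_gt (f890567 IH) (Lpe (f890563 IH) (Lpe (f250848 IH) (Lpn (LP (LK LD1_c15 LD2_c59 LD3_c14)))))))))))))
theorem f918447 : Led Lsl_gt (LP (LK LD1_c15 LD2_c59 LD3_c14)) = (LP (LK LD1_c20 LD2_c15 LD3_c6)) :=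
  Leop (Lpr_gf (f918446 IH) (Lpn (LP (LK LD1_c15 LD2_c59 LD3_c14))))
theorem seed_2406 : LEOK LG_g (LK LD1_c15 LD2_c59 LD3_c14) :=
  Leoe_g (LK LD1_c15 LD2_c59 LD3_c14) (f918447 IH)
def v40689 : LQ := Led Lsl_et (LP (LK LD1_c9 LD2_c45 LD3_c31))
theorem f918488 : Led Lsl_et (LP (LK LD1_c9 LD2_c45 LD3_c31)) = v40689 :=
  Lrfl
theorem f918492 : Led Lsl_ef (LP (LK LD1_c9 LD2_c45 LD3_c31)) = v40689 :=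
  Lgr Lrot88 (Lpr_et (f918488 IH) (Lpn v40689))
theorem f918491 : Led Lsl_df K56.v14117 = v40689 :=
  Lgr Lrot70 (Lpe (K56.f719087 IH) (Lpr_dt (K42.f161321 IH) (Lpe (K42.f572384 IH) (Lpr_dt (K39.f411814 IH) (Lpr_et (f918488 IH) (Lpn v40689))))))
theorem f140808 : Led Lsl_dt (LP (LK LD1_c9 LD2_c50 LD3_c28)) = (LP (LK LD1_c4 LD2_c59 LD3_c58)) :=
  Lre_d IH (LK LD1_c9 LD2_c50 LD3_c28) (LK LD1_c4 LD2_c59 LD3_c58) Lrfl Lrfl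
theorem f720511 : Led Lsl_et (LP (LK LD1_c9 LD2_c50 LD3_c28)) = (LP (LK LD1_c18 LD2_c1 LD3_c33)) :=
  Lre_e IH (LK LD1_c9 LD2_c50 LD3_c28) (LK LD1_c18 LD2_c1 LD3_c33) Lrfl Lrfl
theorem f918497 : Led Lsl_gt (LP (LK LD1_c11 LD2_c12 LD3_c21)) = (LP (LK LD1_c18 LD2_c1 LD3_c33)) :=
  Lgr Lrot131 (Lpe (K37.f172224 IH) (Lpe (K39.f172156 IH) (Lpe (K39.f60759 IH) (Lpe (K39.f60812 IH) (Lpr_gf (K39.f556171 IH) (Lpr_ef (f918492 IH) (Lpe (f918491 IH) (Lpq (K56.f748826 IH) (Lpe (K56.f720508 IH) (Lpe (f140808 IH) (Lpr_et (f720511 IH) (Lpn (LP (LK LD1_c18 LD2_c1 LD3_c33))))))))))))))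
theorem f918498 : Led Lsl_gt (LP (LK LD1_c11 LD2_c12 LD3_c21)) = (LP (LK LD1_c18 LD2_c1 LD3_c33)) :=
  Leop (Lpe (f918497 IH) (Lpn (LP (LK LD1_c11 LD2_c12 LD3_c21))))
theorem seed_2407 : LEOK LG_g (LK LD1_c11 LD2_c12 LD3_c21) :=
  Leoe_g (LK LD1_c11 LD2_c12 LD3_c21) (f918498 IH)
theorem f918496 : Led Lsl_dt K56.v14117 = v40689 :=
  Lgr Lrot77 (Lpe (K56.f719084 IH) (Lpe (K8.f101750 IH) (Lpe (K42.f572399 IH) (Lpe (K50.f411810 IH) (Lpr_ef (f918492 IH) (Lpn v40689))))))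
theorem f719090 : Led Lsl_ct K56.v13062 = K56.v14117 :=
  Lgr Lrot15 (Lpe (K56.f700866 IH) (Lpr_cf (K11.f163268 IH) (Lpr_ef (K56.f719087 IH) (Lpn K56.v14117))))
def v13084 : LQ := Led Lsl_dt (LP (LK LD1_c4 LD2_c39 LD3_c8))
theorem f700998 : Led Lsl_dt (LP (LK LD1_c4 LD2_c39 LD3_c8)) = v13084 :=
  Lrfl
theorem f700999 : Led Lsl_df (LP (LK LD1_c4 LD2_c39 LD3_c8)) = v13084 :=
  Lgr Lrot38 (Lpr_dt (f700998 IH) (Lpn v13084))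
theorem f720645 : (LP (LK LD1_c9 LD2_c5 LD3_c7)) = v13084 :=
  Lefun (Lecon (K56.f715040 IH) (K53.f720637 IH)) (f700998 IH)
theorem f415681 : Led Lsl_ct (LP (LK LD1_c4 LD2_c33 LD3_c48)) = (LP (LK LD1_c9 LD2_c5 LD3_c9)) :=
  Lre_c IH (LK LD1_c4 LD2_c33 LD3_c48) (LK LD1_c9 LD2_c5 LD3_c9) Lrfl Lrfl
def v38111 : LQ := Led Lsl_gt (LP (LK LD1_c9 LD2_c5 LD3_c9))
theorem f899258 : Led Lsl_gt (LP (LK LD1_c9 LD2_c5 LD3_c9)) = v38111 :=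
  Lrfl
theorem f411819 : Led Lsl_et (LP (LK LD1_c9 LD2_c4 LD3_c41)) = (LP (LK LD1_c16 LD2_c56 LD3_c22)) :=
  Lre_e IH (LK LD1_c9 LD2_c4 LD3_c41) (LK LD1_c16 LD2_c56 LD3_c22) Lrfl Lrfl
theorem f918495 : Led Lsl_ct (LP (LK LD1_c16 LD2_c56 LD3_c22)) = v40689 :=
  Lgr Lrot15 (Lpe (f411819 IH) (Lpe (K39.f411817 IH) (Lpr_ef (f918492 IH) (Lpn v40689))))
theorem f918501 : v38111 = (LP (LK LD1_c16 LD2_c56 LD3_c22)) :=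
  (Llr Lrot187 (Lpe (f899258 IH) (Lpe (f415681 IH) (Lpe (K56.f23158 IH) (Lpqs (f720645 IH) (Lpe (f700999 IH) (Lpr_gt (K53.f454836 IH) (Lpr_ct (K56.f632068 IH) (Lpe (K56.f748828 IH) (Lpr_ct (f719090 IH) (Lpr_dt (f918496 IH) (Lpe (f918495 IH) (Lpn (LP (LK LD1_c16 LD2_c56 LD3_c22))))))))))))))).symm
theorem f899259 : Led Lsl_gf (LP (LK LD1_c11 LD2_c22 LD3_c2)) = v38111 :=
  Lgr Lrot76 (Lpe (K66.f640300 IH) (Lpe (K66.f640301 IH) (Lpr_gt (f899258 IH) (Lpn v38111))))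
theorem f918502 : Led Lsl_gt (LP (LK LD1_c16 LD2_c56 LD3_c22)) = (LP (LK LD1_c11 LD2_c22 LD3_c2)) :=
  Leop (Lpr_gf (f899259 IH) (Lpqs (f918501 IH) (Lpn (LP (LK LD1_c16 LD2_c56 LD3_c22)))))
theorem seed_2408 : LEOK LG_g (LK LD1_c16 LD2_c56 LD3_c22) :=
  Leoe_g (LK LD1_c16 LD2_c56 LD3_c22) (f918502 IH)
theorem f386174 : Led Lsl_et (LP (LK LD1_c16 LD2_c56 LD3_c22)) = (LP (LK LD1_c9 LD2_c4 LD3_c41)) :=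
  Lre_e IH (LK LD1_c16 LD2_c56 LD3_c22) (LK LD1_c9 LD2_c4 LD3_c41) Lrfl Lrfl
theorem f918490 : Led Lsl_cf (LP (LK LD1_c16 LD2_c56 LD3_c22)) = v40689 :=
  Lgr Lrot39 (Lpr_et (f386174 IH) (Lpe (K39.f411815 IH) (Lpr_et (f918488 IH) (Lpn v40689))))
theorem f506383 : Led Lsl_dt (LP (LK LD1_c6 LD2_c25 LD3_c36)) = (LP (LK LD1_c3 LD2_c10 LD3_c29)) :=
  Lre_d IH (LK LD1_c6 LD2_c25 LD3_c36) (LK LD1_c3 LD2_c10 LD3_c29) Lrfl Lrfl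
def v1919 : LQ := Led Lsl_dt (LP (LK LD1_c1 LD2_c31 LD3_c30))
theorem f506391 : Led Lsl_dt (LP (LK LD1_c1 LD2_c31 LD3_c30)) = v1919 :=
  Lrfl
theorem f506393 : Led Lsl_df (LP (LK LD1_c1 LD2_c31 LD3_c30)) = v1919 :=
  Lgr Lrot38 (Lpr_dt (f506391 IH) (Lpn v1919))
theorem f537680 : (LP (LK LD1_c2 LD2_c52 LD3_c20)) = v1919 :=
  Lefun (Lecon (K42.f496578 IH) (K36.f537279 IH)) (f506391 IH)
theorem f22800 : Led Lsl_et (LP (LK LD1_c2 LD2_c52 LD3_c20)) = (LP (LK LD1_c5 LD2_c52 LD3_c6)) :=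
  Lre_e IH (LK LD1_c2 LD2_c52 LD3_c20) (LK LD1_c5 LD2_c52 LD3_c6) Lrfl Lrfl
theorem f75468 : Led Lsl_bt (LP (LK LD1_c9 LD2_c46 LD3_c15)) = (LP (LK LD1_c17 LD2_c56 LD3_c9)) :=
  Lre_b IH (LK LD1_c9 LD2_c46 LD3_c15) (LK LD1_c17 LD2_c56 LD3_c9) Lrfl Lrfl
theorem f757824 : Led Lsl_et (LP (LK LD1_c17 LD2_c56 LD3_c9)) = (LP (LK LD1_c11 LD2_c31 LD3_c8)) :=
  Lgr Lrot74 (Lpe (f75468 IH) (Lpr_ef (K65.f75463 IH) (Lpr_bf (K57.f757818 IH) (Lpn (LP (LK LD1_c11 LD2_c31 LD3_c8))))))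
theorem f140600 : Led Lsl_dt (LP (LK LD1_c17 LD2_c56 LD3_c9)) = (LP (LK LD1_c9 LD2_c46 LD3_c13)) :=
  Lre_d IH (LK LD1_c17 LD2_c56 LD3_c9) (LK LD1_c9 LD2_c46 LD3_c13) Lrfl Lrfl
theorem f918500 : Led Lsl_gt (LP (LK LD1_c9 LD2_c46 LD3_c13)) = v40689 :=
  Lgr Lrot112 (Lpe (f140600 IH) (Lpr_et (f757824 IH) (Lpe (K57.f22786 IH) (Lpe (f22800 IH) (Lpqs (f537680 IH) (Lpe (f506393 IH) (Lpe (K42.f402566 IH) (Lpe (f506383 IH) (Lpr_gf (K42.f572382 IH) (Lpr_ef (K56.f719087 IH) (Lpr_dt (f918496 IH) (Lpn v40689))))))))))))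
theorem f718950 : Led Lsl_bt (LP (LK LD1_c4 LD2_c57 LD3_c40)) = (LP (LK LD1_c9 LD2_c46 LD3_c13)) :=
  Lre_b IH (LK LD1_c4 LD2_c57 LD3_c40) (LK LD1_c9 LD2_c46 LD3_c13) Lrfl Lrfl
theorem f40261 : Led Lsl_ct (LP (LK LD1_c4 LD2_c57 LD3_c40)) = (LP (LK LD1_c9 LD2_c46 LD3_c14)) :=
  Lre_c IH (LK LD1_c4 LD2_c57 LD3_c40) (LK LD1_c9 LD2_c46 LD3_c14) Lrfl Lrfl
theorem f640279 : Led Lsl_bf (LP (LK LD1_c9 LD2_c4 LD3_c61)) = (LP (LK LD1_c5 LD2_c45 LD3_c50)) :=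
  Lgr Lrot24 (Lpr_bt (K53.f640277 IH) (Lpn (LP (LK LD1_c5 LD2_c45 LD3_c50))))
theorem f645954 : Led Lsl_ct (LP (LK LD1_c9 LD2_c50 LD3_c18)) = K46.v5104 :=
  Lgr Lrot59 (Lpr_cf (K46.f645950 IH) (Lpn K46.v5104))
theorem f415868 : Led Lsl_ct (LP (LK LD1_c4 LD2_c57 LD3_c39)) = (LP (LK LD1_c9 LD2_c46 LD3_c11)) :=
  Lre_c IH (LK LD1_c4 LD2_c57 LD3_c39) (LK LD1_c9 LD2_c46 LD3_c11) Lrfl Lrfl
theorem f415869 : Led Lsl_gt (LP (LK LD1_c9 LD2_c46 LD3_c11)) = (LP (LK LD1_c17 LD2_c56 LD3_c1)) :=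
  Lre_g IH (LK LD1_c9 LD2_c46 LD3_c11) (LK LD1_c17 LD2_c56 LD3_c1) Lrfl Lrfl
theorem f714008 : Led Lsl_cf (LP (LK LD1_c11 LD2_c19 LD3_c55)) = (LP (LK LD1_c17 LD2_c56 LD3_c1)) :=
  Lgr Lrot175 (Lpr_dt (K55.f714000 IH) (Lpq (K52.f713990 IH) (Lpe (f645954 IH) (Lpe (K46.f415851 IH) (Lpe (K46.f415850 IH) (Lpe (K31.f77408 IH) (Lpr_dt (K52.f75452 IH) (Lpr_gt (K52.f415864 IH) (Lpr_ct (f415868 IH) (Lpr_gt (f415869 IH) (Lpn (LP (LK LD1_c17 LD2_c56 LD3_c1)))))))))))))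
theorem f714011 : Led Lsl_ct (LP (LK LD1_c11 LD2_c19 LD3_c55)) = (LP (LK LD1_c17 LD2_c56 LD3_c1)) :=
  Lgr Lrot59 (Lpr_cf (f714008 IH) (Lpn (LP (LK LD1_c17 LD2_c56 LD3_c1))))
theorem f415870 : Led Lsl_bt (LP (LK LD1_c4 LD2_c57 LD3_c39)) = (LP (LK LD1_c9 LD2_c46 LD3_c10)) :=
  Lre_b IH (LK LD1_c4 LD2_c57 LD3_c39) (LK LD1_c9 LD2_c46 LD3_c10) Lrfl Lrfl
theorem f714014 : Led Lsl_bt (LP (LK LD1_c11 LD2_c19 LD3_c55)) = (LP (LK LD1_c5 LD2_c46 LD3_c1)) :=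
  Lgr Lrot130 (Lpr_ct (f714011 IH) (Lpe (f415869 IH) (Lpe (f415868 IH) (Lpr_bt (f415870 IH) (Lpe (K52.f710552 IH) (Lpr_bf (K51.f172482 IH) (Lpe (K52.f424191 IH) (Lpr_gf (K52.f710548 IH) (Lpe (K51.f415879 IH) (Lpe (K51.f140618 IH) (Lpn (LP (LK LD1_c5 LD2_c46 LD3_c1)))))))))))))
theorem f918509 : Led Lsl_gf (LP (LK LD1_c9 LD2_c46 LD3_c14)) = (LP (LK LD1_c17 LD2_c56 LD3_c1)) :=
  Lgr Lrot126 (Lpe (f40261 IH) (Lpr_bt (f718950 IH) (Lpr_gt (f918500 IH) (Lpe (f918490 IH) (Lpq (f918501 IH) (Lpe (f899259 IH) (Lpe (K66.f640281 IH) (Lpe (f640279 IH) (Lpe (K51.f640240 IH) (Lpe (f714014 IH) (Lpr_ct (f714011 IH) (Lpn (LP (LK LD1_c17 LD2_c56 LD3_c1))))))))))))))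
theorem f918510 : Led Lsl_gt (LP (LK LD1_c17 LD2_c56 LD3_c1)) = (LP (LK LD1_c9 LD2_c46 LD3_c14)) :=
  Leop (Lpr_gf (f918509 IH) (Lpn (LP (LK LD1_c17 LD2_c56 LD3_c1))))
theorem seed_2409 : LEOK LG_g (LK LD1_c17 LD2_c56 LD3_c1) :=
  Leoe_g (LK LD1_c17 LD2_c56 LD3_c1) (f918510 IH)
def v40691 : LQ := Led Lsl_et (LP (LK LD1_c9 LD2_c45 LD3_c38))
theorem f918528 : Led Lsl_et (LP (LK LD1_c9 LD2_c45 LD3_c38)) = v40691 :=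
  Lrfl
theorem f918531 : Led Lsl_ef (LP (LK LD1_c9 LD2_c45 LD3_c38)) = v40691 :=
  Lgr Lrot88 (Lpr_et (f918528 IH) (Lpn v40691))
theorem f579883 : Led Lsl_ff (LP (LK LD1_c9 LD2_c45 LD3_c38)) = (LP (LK LD1_c11 LD2_c6 LD3_c27)) :=
  Lgr Lrot19 (Lpr_dt (K39.f318748 IH) (Lpr_ft (K44.f579880 IH) (Lpr_dt (K40.f382457 IH) (Lpn (LP (LK LD1_c11 LD2_c6 LD3_c27))))))
theorem f579902 : Led Lsl_at (LP (LK LD1_c9 LD2_c45 LD3_c38)) = (LP (LK LD1_c11 LD2_c6 LD3_c26)) :=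
  Lgr Lrot66 (Lpr_ff (f579883 IH) (Lpe (K44.f579892 IH) (Lpr_ff (K44.f579900 IH) (Lpn (LP (LK LD1_c11 LD2_c6 LD3_c26))))))
theorem f918536 : Led Lsl_at (LP (LK LD1_c19 LD2_c59 LD3_c55)) = v40691 :=
  Lgr Lrot80 (Lpe (K68.f386632 IH) (Lpe (f579902 IH) (Lpr_ef (f918531 IH) (Lpn v40691))))
theorem f383907 : Led Lsl_et (LP (LK LD1_c1 LD2_c20 LD3_c19)) = (LP (LK LD1_c2 LD2_c48 LD3_c13)) :=
  Lre_e IH (LK LD1_c1 LD2_c20 LD3_c19) (LK LD1_c2 LD2_c48 LD3_c13) Lrfl Lrfl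
theorem f641998 : Led Lsl_et (LP (LK LD1_c20 LD2_c13 LD3_c55)) = (LP (LK LD1_c11 LD2_c17 LD3_c44)) :=
  Lre_e IH (LK LD1_c20 LD2_c13 LD3_c55) (LK LD1_c11 LD2_c17 LD3_c44) Lrfl Lrfl
theorem f918532 : Led Lsl_gt (LP (LK LD1_c11 LD2_c17 LD3_c44)) = v40691 :=
  Lgr Lrot131 (Lpe (f641998 IH) (Lpr_dt (K41.f641991 IH) (Lpe (K41.f642001 IH) (Lpe (K54.f642076 IH) (Lpe (K54.f416015 IH) (Lpe (f383907 IH) (Lpr_dt (K50.f383812 IH) (Lpe (K44.f172562 IH) (Lpe (K39.f318748 IH) (Lpr_et (f918528 IH) (Lpn v40691)))))))))))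
theorem f507711 : Led Lsl_gt (LP (LK LD1_c11 LD2_c16 LD3_c24)) = (LP (LK LD1_c20 LD2_c12 LD3_c24)) :=
  Lre_g IH (LK LD1_c11 LD2_c16 LD3_c24) (LK LD1_c20 LD2_c12 LD3_c24) Lrfl Lrfl
theorem f644657 : Led Lsl_gt (LP (LK LD1_c20 LD2_c12 LD3_c24)) = (LP (LK LD1_c11 LD2_c17 LD3_c44)) :=
  Lgr Lrot46 (Lpe (f507711 IH) (Lpe (K55.f507707 IH) (Lpr_at (K55.f644644 IH) (Lpn (LP (LK LD1_c11 LD2_c17 LD3_c44))))))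
theorem f918537 : Led Lsl_ff (LP (LK LD1_c19 LD2_c59 LD3_c55)) = (LP (LK LD1_c20 LD2_c12 LD3_c24)) :=
  Lgr Lrot52 (Lpr_at (f918536 IH) (Lpe (f918532 IH) (Lpe (f644657 IH) (Lpn (LP (LK LD1_c20 LD2_c12 LD3_c24))))))
theorem f918538 : Led Lsl_ft (LP (LK LD1_c20 LD2_c12 LD3_c24)) = (LP (LK LD1_c19 LD2_c59 LD3_c55)) :=
  Leop (Lpr_ff (f918537 IH) (Lpn (LP (LK LD1_c20 LD2_c12 LD3_c24))))
theorem seed_2410 : LEOK LG_f (LK LD1_c20 LD2_c12 LD3_c24) :=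
  Leoe_f (LK LD1_c20 LD2_c12 LD3_c24) (f918538 IH)
def v40711 : LQ := Led Lsl_dt (LP (LK LD1_c9 LD2_c45 LD3_c52))
theorem f918660 : Led Lsl_dt (LP (LK LD1_c9 LD2_c45 LD3_c52)) = v40711 :=
  Lrfl
theorem f383318 : Led Lsl_et (LP (LK LD1_c4 LD2_c57 LD3_c30)) = (LP (LK LD1_c9 LD2_c45 LD3_c52)) :=
  Lre_e IH (LK LD1_c4 LD2_c57 LD3_c30) (LK LD1_c9 LD2_c45 LD3_c52) Lrfl Lrfl
theorem f918663 : Led Lsl_ef (LP (LK LD1_c11 LD2_c29 LD3_c27)) = v40711 :=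
  Lgr Lrot73 (Lpe (K44.f577794 IH) (Lpr_et (K43.f211974 IH) (Lpr_dt (K39.f383303 IH) (Lpr_et (f383318 IH) (Lpr_dt (f918660 IH) (Lpn v40711))))))
theorem f601012 : Led Lsl_gt (LP (LK LD1_c20 LD2_c26 LD3_c29)) = (LP (LK LD1_c29 LD2_c27 LD3_c14)) :=
  Lre_g IH (LK LD1_c20 LD2_c26 LD3_c29) (LK LD1_c29 LD2_c27 LD3_c14) Lrfl Lrfl
theorem f918662 : Led Lsl_df (LP (LK LD1_c9 LD2_c45 LD3_c52)) = v40711 :=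
  Lgr Lrot38 (Lpr_dt (f918660 IH) (Lpn v40711))
theorem f383319 : Led Lsl_gt (LP (LK LD1_c17 LD2_c55 LD3_c34)) = (LP (LK LD1_c9 LD2_c45 LD3_c52)) :=
  Lre_g IH (LK LD1_c17 LD2_c55 LD3_c34) (LK LD1_c9 LD2_c45 LD3_c52) Lrfl Lrfl
theorem f422828 : Led Lsl_dt (LP (LK LD1_c27 LD2_c40 LD3_c47)) = (LP (LK LD1_c17 LD2_c55 LD3_c34)) :=
  Lre_d IH (LK LD1_c27 LD2_c40 LD3_c47) (LK LD1_c17 LD2_c55 LD3_c34) Lrfl Lrfl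
theorem f918666 : Led Lsl_ef (LP (LK LD1_c29 LD2_c27 LD3_c14)) = (LP (LK LD1_c27 LD2_c40 LD3_c47)) :=
  Lgr Lrot17 (Lpe (f601012 IH) (Lpe (K56.f571946 IH) (Lpr_dt (K42.f571934 IH) (Lpe (K42.f149688 IH) (Lpe (K43.f112852 IH) (Lpe (K44.f112853 IH) (Lpr_ef (f918663 IH) (Lpe (f918662 IH) (Lpe (f383319 IH) (Lpe (f422828 IH) (Lpn (LP (LK LD1_c27 LD2_c40 LD3_c47)))))))))))))
theorem f918667 : Led Lsl_et (LP (LK LD1_c27 LD2_c40 LD3_c47)) = (LP (LK LD1_c29 LD2_c27 LD3_c14)) :=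
  Leop (Lpr_ef (f918666 IH) (Lpn (LP (LK LD1_c27 LD2_c40 LD3_c47))))
theorem seed_2411 : LEOK LG_e (LK LD1_c27 LD2_c40 LD3_c47) :=
  Leoe_e (LK LD1_c27 LD2_c40 LD3_c47) (f918667 IH)
theorem f710184 : Led Lsl_dt (LP (LK LD1_c20 LD2_c23 LD3_c33)) = (LP (LK LD1_c11 LD2_c26 LD3_c1)) :=
  Lre_d IH (LK LD1_c20 LD2_c23 LD3_c33) (LK LD1_c11 LD2_c26 LD3_c1) Lrfl Lrfl
theorem f710185 : Led Lsl_et (LP (LK LD1_c20 LD2_c23 LD3_c33)) = (LP (LK LD1_c29 LD2_c26 LD3_c0)) :=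
  Lre_e IH (LK LD1_c20 LD2_c23 LD3_c33) (LK LD1_c29 LD2_c26 LD3_c0) Lrfl Lrfl
theorem f918668 : Led Lsl_gt (LP (LK LD1_c29 LD2_c26 LD3_c0)) = (LP (LK LD1_c27 LD2_c40 LD3_c47)) :=
  Lgr Lrot137 (Lpe (f710185 IH) (Lpr_dt (f710184 IH) (Lpe (K60.f56792 IH) (Lpr_df (K70.f741877 IH) (Lpe (K55.f741878 IH) (Lpe (K44.f112853 IH) (Lpr_ef (f918663 IH) (Lpe (f918662 IH) (Lpe (f383319 IH) (Lpe (f422828 IH) (Lpn (LP (LK LD1_c27 LD2_c40 LD3_c47)))))))))))))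
theorem f918669 : Led Lsl_gt (LP (LK LD1_c29 LD2_c26 LD3_c0)) = (LP (LK LD1_c27 LD2_c40 LD3_c47)) :=
  Leop (Lpe (f918668 IH) (Lpn (LP (LK LD1_c29 LD2_c26 LD3_c0))))
theorem seed_2412 : LEOK LG_g (LK LD1_c29 LD2_c26 LD3_c0) :=
  Leoe_g (LK LD1_c29 LD2_c26 LD3_c0) (f918669 IH)
def v40741 : LQ := Led Lsl_ft (LP (LK LD1_c9 LD2_c46 LD3_c10))
theorem f918820 : Led Lsl_ft (LP (LK LD1_c9 LD2_c46 LD3_c10)) = v40741 :=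
  Lrfl
theorem f918823 : Led Lsl_ff (LP (LK LD1_c9 LD2_c46 LD3_c10)) = v40741 :=
  Lgr Lrot3 (Lpr_ft (f918820 IH) (Lpn v40741))
def v14092 : LQ := Led Lsl_ft (LP (LK LD1_c4 LD2_c57 LD3_c39))
theorem f718953 : Led Lsl_ft (LP (LK LD1_c4 LD2_c57 LD3_c39)) = v14092 :=
  Lrfl
theorem f918825 : Led Lsl_bt v14092 = v40741 :=
  Lgr Lrot35 (Lpe (f718953 IH) (Lpe (K52.f40258 IH) (Lpr_ff (f918823 IH) (Lpn v40741))))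
theorem f718955 : Led Lsl_ff (LP (LK LD1_c4 LD2_c57 LD3_c39)) = v14092 :=
  Lgr Lrot3 (Lpr_ft (f718953 IH) (Lpn v14092))
def v14090 : LQ := Led Lsl_at (LP (LK LD1_c4 LD2_c57 LD3_c39))
theorem f718946 : Led Lsl_at (LP (LK LD1_c4 LD2_c57 LD3_c39)) = v14090 :=
  Lrfl
theorem f718947 : Led Lsl_af (LP (LK LD1_c4 LD2_c57 LD3_c39)) = v14090 :=
  Lgr Lrot0 (Lpr_at (f718946 IH) (Lpn v14090))
theorem f718948 : Led Lsl_ft (LP (LK LD1_c4 LD2_c57 LD3_c40)) = v14090 :=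
  Lgr Lrot2 (Lpr_gt (K52.f75453 IH) (Lpr_gt (K52.f415864 IH) (Lpr_af (f718947 IH) (Lpn v14090))))
theorem f718949 : Led Lsl_ff (LP (LK LD1_c4 LD2_c57 LD3_c40)) = v14090 :=
  Lgr Lrot3 (Lpr_ft (f718948 IH) (Lpn v14090))
theorem f718956 : Led Lsl_at (LP (LK LD1_c4 LD2_c57 LD3_c40)) = v14092 :=
  Lgr Lrot66 (Lpr_ff (f718949 IH) (Lpe (f718946 IH) (Lpr_ff (f718955 IH) (Lpn v14092))))
theorem f40259 : Led Lsl_bt (LP (LK LD1_c9 LD2_c46 LD3_c13)) = (LP (LK LD1_c4 LD2_c57 LD3_c40)) :=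
  Lre_b IH (LK LD1_c9 LD2_c46 LD3_c13) (LK LD1_c4 LD2_c57 LD3_c40) Lrfl Lrfl
theorem f718957 : Led Lsl_at (LP (LK LD1_c17 LD2_c56 LD3_c7)) = (LP (LK LD1_c9 LD2_c46 LD3_c13)) :=
  Lre_a IH (LK LD1_c17 LD2_c56 LD3_c7) (LK LD1_c9 LD2_c46 LD3_c13) Lrfl Lrfl
def v40739 : LQ := Led Lsl_at (LP (LK LD1_c9 LD2_c46 LD3_c10))
theorem f918807 : Led Lsl_at (LP (LK LD1_c9 LD2_c46 LD3_c10)) = v40739 :=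
  Lrfl
theorem f918808 : Led Lsl_af (LP (LK LD1_c9 LD2_c46 LD3_c10)) = v40739 :=
  Lgr Lrot0 (Lpr_at (f918807 IH) (Lpn v40739))
theorem f918809 : Led Lsl_ft (LP (LK LD1_c26 LD2_c50 LD3_c47)) = v40739 :=
  Lgr Lrot2 (Lpr_gt (K54.f713783 IH) (Lpr_gt (K52.f710552 IH) (Lpr_af (f918808 IH) (Lpn v40739))))
theorem f918821 : Led Lsl_af (LP (LK LD1_c26 LD2_c50 LD3_c47)) = v40741 :=
  Lgr Lrot45 (Lpr_ft (f918809 IH) (Lpe (f918808 IH) (Lpr_ft (f918820 IH) (Lpn v40741))))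
theorem f918826 : Led Lsl_bf (LP (LK LD1_c17 LD2_c56 LD3_c7)) = (LP (LK LD1_c26 LD2_c50 LD3_c47)) :=
  Lgr Lrot81 (Lpr_at (f718957 IH) (Lpr_bt (f40259 IH) (Lpr_at (f718956 IH) (Lpr_bt (f918825 IH) (Lpe (f918821 IH) (Lpn (LP (LK LD1_c26 LD2_c50 LD3_c47))))))))
theorem f918827 : Led Lsl_bt (LP (LK LD1_c26 LD2_c50 LD3_c47)) = (LP (LK LD1_c17 LD2_c56 LD3_c7)) :=
  Leop (Lpr_bf (f918826 IH) (Lpn (LP (LK LD1_c26 LD2_c50 LD3_c47))))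
theorem seed_2413 : LEOK LG_b (LK LD1_c26 LD2_c50 LD3_c47) :=
  Leoe_b (LK LD1_c26 LD2_c50 LD3_c47) (f918827 IH)
def v40710 : LQ := Led Lsl_ft (LP (LK LD1_c9 LD2_c45 LD3_c49))
theorem f918656 : Led Lsl_ft (LP (LK LD1_c9 LD2_c45 LD3_c49)) = v40710 :=
  Lrfl
theorem f918658 : Led Lsl_ff (LP (LK LD1_c9 LD2_c45 LD3_c49)) = v40710 :=
  Lgr Lrot3 (Lpr_ft (f918656 IH) (Lpn v40710))
theorem f718954 : Led Lsl_af (LP (LK LD1_c4 LD2_c57 LD3_c40)) = v14092 :=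
  Lgr Lrot45 (Lpr_ft (f718948 IH) (Lpe (f718947 IH) (Lpr_ft (f718953 IH) (Lpn v14092))))
def v40708 : LQ := Led Lsl_at (LP (LK LD1_c9 LD2_c45 LD3_c49))
theorem f918647 : Led Lsl_at (LP (LK LD1_c9 LD2_c45 LD3_c49)) = v40708 :=
  Lrfl
theorem f918648 : Led Lsl_af (LP (LK LD1_c9 LD2_c45 LD3_c49)) = v40708 :=
  Lgr Lrot0 (Lpr_at (f918647 IH) (Lpn v40708))
theorem f918650 : Led Lsl_ft (LP (LK LD1_c9 LD2_c45 LD3_c50)) = v40708 :=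
  Lgr Lrot2 (Lpr_gt (K45.f104911 IH) (Lpr_gt (K52.f140554 IH) (Lpr_af (f918648 IH) (Lpn v40708))))
theorem f918651 : Led Lsl_ff (LP (LK LD1_c9 LD2_c45 LD3_c50)) = v40708 :=
  Lgr Lrot3 (Lpr_ft (f918650 IH) (Lpn v40708))
theorem f918659 : Led Lsl_at (LP (LK LD1_c9 LD2_c45 LD3_c50)) = v40710 :=
  Lgr Lrot66 (Lpr_ff (f918651 IH) (Lpe (f918647 IH) (Lpr_ff (f918658 IH) (Lpn v40710))))
theorem f918822 : Led Lsl_bf v14092 = v40741 :=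
  Lgr Lrot61 (Lpe (f718955 IH) (Lpr_bt (f415870 IH) (Lpr_ft (f918820 IH) (Lpn v40741))))
theorem f918833 : Led Lsl_gt (LP (LK LD1_c17 LD2_c56 LD3_c7)) = (LP (LK LD1_c11 LD2_c10 LD3_c57)) :=
  Lgr Lrot82 (Lpr_bf (f918826 IH) (Lpr_ct (K54.f640427 IH) (Lpe (K54.f116958 IH) (Lpe (K52.f116957 IH) (Lpr_bt (K52.f140701 IH) (Lpe (K17.f140577 IH) (Lpe (K53.f444611 IH) (Lpr_ct (K54.f444612 IH) (Lpe (K54.f706120 IH) (Lpe (K54.f424448 IH) (Lpn (LP (LK LD1_c11 LD2_c10 LD3_c57)))))))))))))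
theorem f918837 : Led Lsl_dt (LP (LK LD1_c27 LD2_c41 LD3_c7)) = (LP (LK LD1_c17 LD2_c56 LD3_c7)) :=
  Lre_d IH (LK LD1_c27 LD2_c41 LD3_c7) (LK LD1_c17 LD2_c56 LD3_c7) Lrfl Lrfl
theorem f606372 : Led Lsl_df (LP (LK LD1_c11 LD2_c10 LD3_c57)) = (LP (LK LD1_c5 LD2_c50 LD3_c10)) :=
  Lgr Lrot12 (Lpr_bt (K54.f424446 IH) (Lpr_dt (K50.f606370 IH) (Lpr_bt (K57.f203188 IH) (Lpn (LP (LK LD1_c5 LD2_c50 LD3_c10))))))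
theorem f918838 : Led Lsl_et (LP (LK LD1_c27 LD2_c41 LD3_c7)) = (LP (LK LD1_c17 LD2_c58 LD3_c26)) :=
  Lgr Lrot122 (Lpr_dt (f918837 IH) (Lpr_gt (f918833 IH) (Lpr_df (f606372 IH) (Lpr_et (K54.f26502 IH) (Lpr_gt (K8.f158856 IH) (Lpe (K4.f104803 IH) (Lpe (K8.f158851 IH) (Lpr_df (K8.f138827 IH) (Lpr_et (K32.f138848 IH) (Lpr_gt (K54.f138849 IH) (Lpn (LP (LK LD1_c17 LD2_c58 LD3_c26)))))))))))))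
theorem f918846 : Led Lsl_ef (LP (LK LD1_c27 LD2_c41 LD3_c7)) = (LP (LK LD1_c17 LD2_c58 LD3_c26)) :=
  Lgr Lrot88 (Lpr_et (f918838 IH) (Lpn (LP (LK LD1_c17 LD2_c58 LD3_c26))))
theorem f757826 : Led Lsl_at (LP (LK LD1_c27 LD2_c41 LD3_c7)) = (LP (LK LD1_c17 LD2_c56 LD3_c9)) :=
  Lre_a IH (LK LD1_c27 LD2_c41 LD3_c7) (LK LD1_c17 LD2_c56 LD3_c9) Lrfl Lrfl
theorem f918848 : Led Lsl_at (LP (LK LD1_c11 LD2_c31 LD3_c8)) = (LP (LK LD1_c17 LD2_c58 LD3_c26)) :=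
  Lgr Lrot80 (Lpe (f757824 IH) (Lpe (f757826 IH) (Lpr_ef (f918846 IH) (Lpn (LP (LK LD1_c17 LD2_c58 LD3_c26))))))
theorem f918853 : Led Lsl_ff (LP (LK LD1_c11 LD2_c31 LD3_c8)) = (LP (LK LD1_c11 LD2_c24 LD3_c27)) :=
  Lgr Lrot52 (Lpr_at (f918848 IH) (Lpe (K54.f138849 IH) (Lpr_gf (K65.f757849 IH) (Lpn (LP (LK LD1_c11 LD2_c24 LD3_c27))))))
def v15796 : LQ := Led Lsl_at (LP (LK LD1_c5 LD2_c47 LD3_c5))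
theorem f741591 : Led Lsl_at (LP (LK LD1_c5 LD2_c47 LD3_c5)) = v15796 :=
  Lrfl
theorem f741592 : Led Lsl_af (LP (LK LD1_c5 LD2_c47 LD3_c5)) = v15796 :=
  Lgr Lrot0 (Lpr_at (f741591 IH) (Lpn v15796))
theorem f741593 : Led Lsl_ft (LP (LK LD1_c5 LD2_c47 LD3_c6)) = v15796 :=
  Lgr Lrot2 (Lpr_gt (K57.f61437 IH) (Lpr_gt (K45.f61439 IH) (Lpr_af (f741592 IH) (Lpn v15796))))
theorem f741594 : Led Lsl_ff (LP (LK LD1_c5 LD2_c47 LD3_c6)) = v15796 :=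
  Lgr Lrot3 (Lpr_ft (f741593 IH) (Lpn v15796))
theorem f918859 : (LP (LK LD1_c11 LD2_c24 LD3_c14)) = v15796 :=
  (Llr Lrot35 (Lpr_bf (K57.f757818 IH) (Lpr_ff (f918853 IH) (Lpe (K65.f741595 IH) (Lpr_ff (f741594 IH) (Lpn v15796)))))).symm
theorem f558358 : Led Lsl_dt (LP (LK LD1_c11 LD2_c24 LD3_c29)) = (LP (LK LD1_c5 LD2_c47 LD3_c6)) :=
  Lre_d IH (LK LD1_c11 LD2_c24 LD3_c29) (LK LD1_c5 LD2_c47 LD3_c6) Lrfl Lrfl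
theorem f918866 : Led Lsl_ff (LP (LK LD1_c11 LD2_c24 LD3_c29)) = (LP (LK LD1_c20 LD2_c22 LD3_c2)) :=
  Lgr Lrot19 (Lpr_dt (f558358 IH) (Lpr_ft (f741593 IH) (Lpq (f918859 IH) (Lpr_dt (K65.f72854 IH) (Lpn (LP (LK LD1_c20 LD2_c22 LD3_c2)))))))
theorem f918871 : Led Lsl_at (LP (LK LD1_c11 LD2_c24 LD3_c29)) = (LP (LK LD1_c20 LD2_c16 LD3_c38)) :=
  Lgr Lrot26 (Lpr_ff (f918866 IH) (Lpe (K65.f698961 IH) (Lpr_gt (K52.f706099 IH) (Lpn (LP (LK LD1_c20 LD2_c16 LD3_c38))))))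
theorem f74431 : Led Lsl_dt (LP (LK LD1_c5 LD2_c47 LD3_c6)) = (LP (LK LD1_c11 LD2_c24 LD3_c29)) :=
  Lre_d IH (LK LD1_c5 LD2_c47 LD3_c6) (LK LD1_c11 LD2_c24 LD3_c29) Lrfl Lrfl
def v15797 : LQ := Led Lsl_ft (LP (LK LD1_c5 LD2_c47 LD3_c5))
theorem f741596 : Led Lsl_ft (LP (LK LD1_c5 LD2_c47 LD3_c5)) = v15797 :=
  Lrfl
theorem f741597 : Led Lsl_af (LP (LK LD1_c5 LD2_c47 LD3_c6)) = v15797 :=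
  Lgr Lrot45 (Lpr_ft (f741593 IH) (Lpe (f741592 IH) (Lpr_ft (f741596 IH) (Lpn v15797))))
theorem f918879 : v15797 = (LP (LK LD1_c11 LD2_c24 LD3_c15)) :=
  (Llr Lrot117 (Lpe (f741597 IH) (Lpr_dt (f74431 IH) (Lpr_at (f918871 IH) (Lpe (K52.f706092 IH) (Lpn (LP (LK LD1_c11 LD2_c24 LD3_c15)))))))).symm
theorem f104919 : Led Lsl_dt (LP (LK LD1_c11 LD2_c24 LD3_c25)) = (LP (LK LD1_c5 LD2_c47 LD3_c5)) :=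
  Lre_d IH (LK LD1_c11 LD2_c24 LD3_c25) (LK LD1_c5 LD2_c47 LD3_c5) Lrfl Lrfl
theorem f918886 : Led Lsl_ff (LP (LK LD1_c11 LD2_c24 LD3_c25)) = (LP (LK LD1_c20 LD2_c16 LD3_c38)) :=
  Lgr Lrot19 (Lpr_dt (f104919 IH) (Lpr_ft (f741596 IH) (Lpqs (f918879 IH) (Lpr_dt (K52.f706095 IH) (Lpn (LP (LK LD1_c20 LD2_c16 LD3_c38)))))))
theorem f918894 : Led Lsl_ft (LP (LK LD1_c11 LD2_c24 LD3_c25)) = (LP (LK LD1_c20 LD2_c16 LD3_c38)) :=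
  Lgr Lrot48 (Lpr_ff (f918886 IH) (Lpn (LP (LK LD1_c20 LD2_c16 LD3_c38))))
theorem f669388 : Led Lsl_bt (LP (LK LD1_c20 LD2_c22 LD3_c10)) = (LP (LK LD1_c11 LD2_c24 LD3_c25)) :=
  Lre_b IH (LK LD1_c20 LD2_c22 LD3_c10) (LK LD1_c11 LD2_c24 LD3_c25) Lrfl Lrfl
theorem f713068 : Led Lsl_bf (LP (LK LD1_c20 LD2_c27 LD3_c5)) = (LP (LK LD1_c20 LD2_c16 LD3_c38)) :=
  Lgr Lrot24 (Lpr_bt (K53.f713066 IH) (Lpn (LP (LK LD1_c20 LD2_c16 LD3_c38))))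
theorem f918898 : Led Lsl_ff (LP (LK LD1_c20 LD2_c22 LD3_c10)) = (LP (LK LD1_c20 LD2_c27 LD3_c5)) :=
  Lgr Lrot25 (Lpr_bt (f669388 IH) (Lpr_ft (f918894 IH) (Lpe (f713068 IH) (Lpn (LP (LK LD1_c20 LD2_c27 LD3_c5))))))
theorem f61449 : Led Lsl_dt (LP (LK LD1_c20 LD2_c22 LD3_c10)) = (LP (LK LD1_c11 LD2_c24 LD3_c23)) :=
  Lre_d IH (LK LD1_c20 LD2_c22 LD3_c10) (LK LD1_c11 LD2_c24 LD3_c23) Lrfl Lrfl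
theorem f918914 : Led Lsl_ft (LP (LK LD1_c11 LD2_c24 LD3_c23)) = (LP (LK LD1_c11 LD2_c29 LD3_c58)) :=
  Lgr Lrot54 (Lpe (f61449 IH) (Lpr_ff (f918898 IH) (Lpe (K52.f158125 IH) (Lpn (LP (LK LD1_c11 LD2_c29 LD3_c58))))))
def v17043 : LQ := Led Lsl_at (LP (LK LD1_c6 LD2_c10 LD3_c59))
theorem f754713 : Led Lsl_at (LP (LK LD1_c6 LD2_c10 LD3_c59)) = v17043 :=
  Lrfl
theorem f754714 : Led Lsl_af (LP (LK LD1_c6 LD2_c10 LD3_c59)) = v17043 :=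
  Lgr Lrot0 (Lpr_at (f754713 IH) (Lpn v17043))
theorem f754715 : Led Lsl_ft (LP (LK LD1_c6 LD2_c10 LD3_c60)) = v17043 :=
  Lgr Lrot2 (Lpr_gt (K52.f141014 IH) (Lpr_gt (K54.f100378 IH) (Lpr_af (f754714 IH) (Lpn v17043))))
theorem f918918 : (LP (LK LD1_c12 LD2_c2 LD3_c14)) = v17043 :=
  (Llr Lrot108 (Lpr_ct (K45.f61447 IH) (Lpr_ft (f918914 IH) (Lpr_ct (K52.f710033 IH) (Lpr_ft (f754715 IH) (Lpn v17043)))))).symm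
theorem f754716 : Led Lsl_ff (LP (LK LD1_c6 LD2_c10 LD3_c60)) = v17043 :=
  Lgr Lrot3 (Lpr_ft (f754715 IH) (Lpn v17043))
def v17045 : LQ := Led Lsl_ft (LP (LK LD1_c6 LD2_c10 LD3_c59))
theorem f754719 : Led Lsl_ft (LP (LK LD1_c6 LD2_c10 LD3_c59)) = v17045 :=
  Lrfl
theorem f754721 : Led Lsl_ff (LP (LK LD1_c6 LD2_c10 LD3_c59)) = v17045 :=
  Lgr Lrot3 (Lpr_ft (f754719 IH) (Lpn v17045))
theorem f754722 : Led Lsl_at (LP (LK LD1_c6 LD2_c10 LD3_c60)) = v17045 :=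
  Lgr Lrot66 (Lpr_ff (f754716 IH) (Lpe (f754713 IH) (Lpr_ff (f754721 IH) (Lpn v17045))))
theorem f918923 : v17045 = K56.v17042 :=
  (Llr Lrot26 (Lpe (f754722 IH) (Lpr_ff (f754716 IH) (Lpq (f918918 IH) (Lpr_gt (K45.f61050 IH) (Lpr_gt (K56.f754705 IH) (Lpn K56.v17042))))))).symm
theorem f918924 : Led Lsl_ff (LP (LK LD1_c11 LD2_c29 LD3_c57)) = (LP (LK LD1_c17 LD2_c57 LD3_c45)) :=
  Lgr Lrot23 (Lpe (K53.f713752 IH) (Lpr_ft (f754719 IH) (Lpqs (f918923 IH) (Lpe (K56.f754708 IH) (Lpn (LP (LK LD1_c17 LD2_c57 LD3_c45)))))))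
theorem f918932 : Led Lsl_ft (LP (LK LD1_c11 LD2_c29 LD3_c57)) = (LP (LK LD1_c17 LD2_c57 LD3_c45)) :=
  Lgr Lrot48 (Lpr_ff (f918924 IH) (Lpn (LP (LK LD1_c17 LD2_c57 LD3_c45))))
theorem f157901 : Led Lsl_at (LP (LK LD1_c11 LD2_c29 LD3_c59)) = (LP (LK LD1_c17 LD2_c57 LD3_c47)) :=
  Lgr Lrot80 (Lpr_ef (K8.f157899 IH) (Lpe (K56.f100314 IH) (Lpe (K51.f157132 IH) (Lpn (LP (LK LD1_c17 LD2_c57 LD3_c47))))))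
theorem f157913 : Led Lsl_ft (LP (LK LD1_c5 LD2_c51 LD3_c15)) = (LP (LK LD1_c11 LD2_c29 LD3_c59)) :=
  Lre_f IH (LK LD1_c5 LD2_c51 LD3_c15) (LK LD1_c11 LD2_c29 LD3_c59) Lrfl Lrfl
theorem f428849 : Led Lsl_gt (LP (LK LD1_c11 LD2_c29 LD3_c57)) = (LP (LK LD1_c17 LD2_c57 LD3_c47)) :=
  Lgr Lrot46 (Lpe (K53.f157214 IH) (Lpr_ft (f157913 IH) (Lpr_at (f157901 IH) (Lpn (LP (LK LD1_c17 LD2_c57 LD3_c47))))))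
theorem f918938 : Led Lsl_af (LP (LK LD1_c11 LD2_c29 LD3_c58)) = (LP (LK LD1_c17 LD2_c57 LD3_c45)) :=
  Lgr Lrot31 (Lpe (K52.f158123 IH) (Lpe (f428849 IH) (Lpr_ft (f918932 IH) (Lpn (LP (LK LD1_c17 LD2_c57 LD3_c45))))))
theorem f918884 : Led Lsl_ff (LP (LK LD1_c11 LD2_c24 LD3_c23)) = (LP (LK LD1_c11 LD2_c29 LD3_c58)) :=
  Lgr Lrot25 (Lpr_bt (K45.f61440 IH) (Lpr_ft (f741596 IH) (Lpqs (f918879 IH) (Lpe (K53.f713064 IH) (Lpn (LP (LK LD1_c11 LD2_c29 LD3_c58)))))))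
theorem f918946 : Led Lsl_at (LP (LK LD1_c11 LD2_c24 LD3_c23)) = (LP (LK LD1_c11 LD2_c29 LD3_c57)) :=
  Lgr Lrot66 (Lpr_ff (f918884 IH) (Lpr_af (f918938 IH) (Lpe (f918932 IH) (Lpn (LP (LK LD1_c11 LD2_c29 LD3_c57))))))
theorem f425835 : Led Lsl_et (LP (LK LD1_c11 LD2_c29 LD3_c57)) = (LP (LK LD1_c20 LD2_c27 LD3_c4)) :=
  Lre_e IH (LK LD1_c11 LD2_c29 LD3_c57) (LK LD1_c20 LD2_c27 LD3_c4) Lrfl Lrfl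
theorem f918950 : Led Lsl_af (LP (LK LD1_c20 LD2_c22 LD3_c11)) = (LP (LK LD1_c20 LD2_c27 LD3_c4)) :=
  Lgr Lrot50 (Lpr_et (K45.f61450 IH) (Lpr_at (f918946 IH) (Lpr_et (f425835 IH) (Lpn (LP (LK LD1_c20 LD2_c27 LD3_c4))))))
theorem f713779 : Led Lsl_dt (LP (LK LD1_c26 LD2_c50 LD3_c47)) = (LP (LK LD1_c20 LD2_c27 LD3_c4)) :=
  Lgr Lrot27 (Lpe (K54.f644782 IH) (Lpe (K54.f116958 IH) (Lpe (K52.f116957 IH) (Lpe (K51.f444610 IH) (Lpe (K51.f509244 IH) (Lpr_gt (K51.f644779 IH) (Lpr_ct (K45.f444643 IH) (Lpr_gt (K54.f644694 IH) (Lpr_ct (K54.f713756 IH) (Lpn (LP (LK LD1_c20 LD2_c27 LD3_c4))))))))))))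
theorem f918960 : (LP (LK LD1_c16 LD2_c55 LD3_c29)) = v40741 :=
  (Llr Lrot44 (Lpr_df (K45.f140525 IH) (Lpr_af (f918950 IH) (Lpe (f713779 IH) (Lpr_af (f918821 IH) (Lpn v40741)))))).symm
theorem f918965 : v14092 = (LP (LK LD1_c9 LD2_c45 LD3_c50)) :=
  Lefun (Lecon (Lfl_bf (f918822 IH)) (f918960 IH).symm) (K45.f140517 IH)
theorem f918966 : (LP (LK LD1_c4 LD2_c57 LD3_c40)) = v40710 :=
  Lefun (Lecon (Lfl_af (f718954 IH)) (f918965 IH)) (f918659 IH)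
theorem f918981 : Led Lsl_ff (LP (LK LD1_c9 LD2_c46 LD3_c15)) = (LP (LK LD1_c17 LD2_c55 LD3_c30)) :=
  Lgr Lrot19 (Lpr_dt (K52.f75454 IH) (Lpqs (f918966 IH) (Lpe (f918658 IH) (Lpr_dt (K52.f140555 IH) (Lpn (LP (LK LD1_c17 LD2_c55 LD3_c30)))))))
theorem f918989 : Led Lsl_at (LP (LK LD1_c9 LD2_c46 LD3_c15)) = (LP (LK LD1_c11 LD2_c24 LD3_c26)) :=
  Lgr Lrot26 (Lpr_ff (f918981 IH) (Lpr_gt (K52.f644395 IH) (Lpe (K45.f644380 IH) (Lpn (LP (LK LD1_c11 LD2_c24 LD3_c26))))))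
theorem f75458 : Led Lsl_ct (LP (LK LD1_c17 LD2_c56 LD3_c14)) = (LP (LK LD1_c9 LD2_c46 LD3_c15)) :=
  Lre_c IH (LK LD1_c17 LD2_c56 LD3_c14) (LK LD1_c9 LD2_c46 LD3_c15) Lrfl Lrfl
theorem f80089 : Led Lsl_ct (LP (LK LD1_c11 LD2_c24 LD3_c26)) = (LP (LK LD1_c20 LD2_c22 LD3_c13)) :=
  Lre_c IH (LK LD1_c11 LD2_c24 LD3_c26) (LK LD1_c20 LD2_c22 LD3_c13) Lrfl Lrfl
theorem f918991 : Led Lsl_af (LP (LK LD1_c17 LD2_c56 LD3_c14)) = (LP (LK LD1_c20 LD2_c22 LD3_c13)) :=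
  Lgr Lrot68 (Lpr_ct (f75458 IH) (Lpr_at (f918989 IH) (Lpr_ct (f80089 IH) (Lpn (LP (LK LD1_c20 LD2_c22 LD3_c13))))))
theorem f644924 : Led Lsl_ct (LP (LK LD1_c9 LD2_c46 LD3_c14)) = (LP (LK LD1_c4 LD2_c57 LD3_c40)) :=
  Lre_c IH (LK LD1_c9 LD2_c46 LD3_c14) (LK LD1_c4 LD2_c57 LD3_c40) Lrfl Lrfl
theorem f40255 : Led Lsl_dt (LP (LK LD1_c4 LD2_c57 LD3_c40)) = (LP (LK LD1_c9 LD2_c46 LD3_c15)) :=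
  Lre_d IH (LK LD1_c4 LD2_c57 LD3_c40) (LK LD1_c9 LD2_c46 LD3_c15) Lrfl Lrfl
theorem f644701 : Led Lsl_ct (LP (LK LD1_c9 LD2_c46 LD3_c12)) = (LP (LK LD1_c17 LD2_c56 LD3_c5)) :=
  Lre_c IH (LK LD1_c9 LD2_c46 LD3_c12) (LK LD1_c17 LD2_c56 LD3_c5) Lrfl Lrfl
theorem f644721 : Led Lsl_gt (LP (LK LD1_c17 LD2_c56 LD3_c5)) = (LP (LK LD1_c27 LD2_c41 LD3_c5)) :=
  Lre_g IH (LK LD1_c17 LD2_c56 LD3_c5) (LK LD1_c27 LD2_c41 LD3_c5) Lrfl Lrfl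
theorem f903502 : Led Lsl_ct (LP (LK LD1_c20 LD2_c17 LD3_c3)) = (LP (LK LD1_c27 LD2_c41 LD3_c5)) :=
  Lgr Lrot63 (Lpr_bt (K69.f903481 IH) (Lpr_gt (K52.f140621 IH) (Lpe (K38.f140604 IH) (Lpr_ct (K31.f140238 IH) (Lpr_gt (K49.f444133 IH) (Lpe (K46.f445596 IH) (Lpr_bt (K52.f445602 IH) (Lpr_gt (K52.f644713 IH) (Lpr_ct (f644701 IH) (Lpr_gt (f644721 IH) (Lpn (LP (LK LD1_c27 LD2_c41 LD3_c5)))))))))))))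
theorem f918513 : Led Lsl_gf (LP (LK LD1_c17 LD2_c56 LD3_c14)) = (LP (LK LD1_c27 LD2_c41 LD3_c5)) :=
  Lgr Lrot104 (Lpr_ct (f75458 IH) (Lpe (f40255 IH) (Lpe (f644924 IH) (Lpr_gf (f918509 IH) (Lpe (f714011 IH) (Lpe (K55.f140557 IH) (Lpe (K55.f140560 IH) (Lpr_gt (K69.f642130 IH) (Lpr_ct (f903502 IH) (Lpn (LP (LK LD1_c27 LD2_c41 LD3_c5))))))))))))
theorem f918997 : Led Lsl_ft (LP (LK LD1_c17 LD2_c56 LD3_c5)) = (LP (LK LD1_c20 LD2_c22 LD3_c13)) :=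
  Lgr Lrot2 (Lpr_gt (f644721 IH) (Lpe (f918513 IH) (Lpr_af (f918991 IH) (Lpn (LP (LK LD1_c20 LD2_c22 LD3_c13))))))
theorem f919003 : Led Lsl_ff (LP (LK LD1_c17 LD2_c56 LD3_c5)) = (LP (LK LD1_c20 LD2_c22 LD3_c13)) :=
  Lgr Lrot3 (Lpr_ft (f918997 IH) (Lpn (LP (LK LD1_c20 LD2_c22 LD3_c13))))
theorem f644711 : Led Lsl_ct (LP (LK LD1_c17 LD2_c56 LD3_c5)) = (LP (LK LD1_c9 LD2_c46 LD3_c12)) :=
  Lre_c IH (LK LD1_c17 LD2_c56 LD3_c5) (LK LD1_c9 LD2_c46 LD3_c12) Lrfl Lrfl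
theorem f919005 : Led Lsl_ft (LP (LK LD1_c9 LD2_c46 LD3_c12)) = (LP (LK LD1_c11 LD2_c24 LD3_c26)) :=
  Lgr Lrot4 (Lpe (f644711 IH) (Lpr_ff (f919003 IH) (Lpe (f80089 IH) (Lpn (LP (LK LD1_c11 LD2_c24 LD3_c26))))))
theorem f919011 : Led Lsl_ff (LP (LK LD1_c17 LD2_c56 LD3_c6)) = (LP (LK LD1_c11 LD2_c30 LD3_c58)) :=
  Lgr Lrot72 (Lpr_et (K57.f644723 IH) (Lpr_ft (f919005 IH) (Lpr_et (K45.f74433 IH) (Lpr_ft (f741596 IH) (Lpqs (f918879 IH) (Lpe (K52.f706104 IH) (Lpn (LP (LK LD1_c11 LD2_c30 LD3_c58)))))))))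
theorem f643192 : Led Lsl_gf (LP (LK LD1_c11 LD2_c30 LD3_c59)) = (LP (LK LD1_c17 LD2_c58 LD3_c12)) :=
  Lgr Lrot47 (Lpr_gt (K53.f535816 IH) (Lpr_af (K45.f643184 IH) (Lpe (K52.f643189 IH) (Lpn (LP (LK LD1_c17 LD2_c58 LD3_c12))))))
theorem f919019 : Led Lsl_at (LP (LK LD1_c17 LD2_c56 LD3_c6)) = (LP (LK LD1_c11 LD2_c30 LD3_c59)) :=
  Lgr Lrot26 (Lpr_ff (f919011 IH) (Lpr_gt (K52.f643202 IH) (Lpe (f643192 IH) (Lpn (LP (LK LD1_c11 LD2_c30 LD3_c59))))))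
theorem f765419 : Led Lsl_df (LP (LK LD1_c17 LD2_c56 LD3_c6)) = (LP (LK LD1_c11 LD2_c29 LD3_c2)) :=
  Lgr Lrot38 (Lpr_dt (K57.f765417 IH) (Lpn (LP (LK LD1_c11 LD2_c29 LD3_c2))))
theorem f919023 : Led Lsl_af (LP (LK LD1_c11 LD2_c29 LD3_c2)) = (LP (LK LD1_c12 LD2_c17 LD3_c8)) :=
  Lgr Lrot117 (Lpe (f765419 IH) (Lpr_at (f919019 IH) (Lpr_dt (K53.f719187 IH) (Lpn (LP (LK LD1_c12 LD2_c17 LD3_c8))))))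
theorem f919027 : Led Lsl_ft (LP (LK LD1_c11 LD2_c29 LD3_c3)) = (LP (LK LD1_c12 LD2_c17 LD3_c8)) :=
  Lgr Lrot2 (Lpr_gt (K53.f500120 IH) (Lpr_gt (K57.f506183 IH) (Lpr_af (f919023 IH) (Lpn (LP (LK LD1_c12 LD2_c17 LD3_c8))))))
theorem f919033 : Led Lsl_ff (LP (LK LD1_c11 LD2_c29 LD3_c3)) = (LP (LK LD1_c12 LD2_c17 LD3_c8)) :=
  Lgr Lrot3 (Lpr_ft (f919027 IH) (Lpn (LP (LK LD1_c12 LD2_c17 LD3_c8))))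
theorem f919035 : Led Lsl_at (LP (LK LD1_c11 LD2_c29 LD3_c3)) = (LP (LK LD1_c12 LD2_c17 LD3_c7)) :=
  Lgr Lrot26 (Lpr_ff (f919033 IH) (Lpr_gt (K53.f615260 IH) (Lpr_gt (K52.f506167 IH) (Lpn (LP (LK LD1_c12 LD2_c17 LD3_c7))))))
theorem f919025 : Led Lsl_at (LP (LK LD1_c11 LD2_c29 LD3_c2)) = (LP (LK LD1_c12 LD2_c17 LD3_c8)) :=
  Lgr Lrot100 (Lpr_af (f919023 IH) (Lpn (LP (LK LD1_c12 LD2_c17 LD3_c8))))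
theorem f919041 : Led Lsl_ff (LP (LK LD1_c11 LD2_c29 LD3_c2)) = (LP (LK LD1_c12 LD2_c17 LD3_c7)) :=
  Lgr Lrot30 (Lpr_at (f919025 IH) (Lpe (f919033 IH) (Lpr_at (f919035 IH) (Lpn (LP (LK LD1_c12 LD2_c17 LD3_c7))))))
theorem f614933 : Led Lsl_dt (LP (LK LD1_c11 LD2_c49 LD3_c7)) = (LP (LK LD1_c20 LD2_c51 LD3_c39)) :=
  Lre_d IH (LK LD1_c11 LD2_c49 LD3_c7) (LK LD1_c20 LD2_c51 LD3_c39) Lrfl Lrfl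
theorem f157858 : Led Lsl_et (LP (LK LD1_c3 LD2_c59 LD3_c44)) = (LP (LK LD1_c8 LD2_c0 LD3_c32)) :=
  Lre_e IH (LK LD1_c3 LD2_c59 LD3_c44) (LK LD1_c8 LD2_c0 LD3_c32) Lrfl Lrfl
theorem f66291 : Led Lsl_gt (LP (LK LD1_c11 LD2_c25 LD3_c16)) = (LP (LK LD1_c5 LD2_c47 LD3_c46)) :=
  Lre_g IH (LK LD1_c11 LD2_c25 LD3_c16) (LK LD1_c5 LD2_c47 LD3_c46) Lrfl Lrfl
theorem f119881 : Led Lsl_et (LP (LK LD1_c20 LD2_c22 LD3_c48)) = (LP (LK LD1_c11 LD2_c25 LD3_c16)) :=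
  Lre_e IH (LK LD1_c20 LD2_c22 LD3_c48) (LK LD1_c11 LD2_c25 LD3_c16) Lrfl Lrfl
theorem f905276 : Led Lsl_df (LP (LK LD1_c27 LD2_c41 LD3_c1)) = (LP (LK LD1_c20 LD2_c22 LD3_c48)) :=
  Lgr Lrot132 (Lpr_gf (K70.f905274 IH) (Lpe (f614933 IH) (Lpe (K53.f644161 IH) (Lpe (f157858 IH) (Lpr_dt (K8.f157822 IH) (Lpe (K8.f160877 IH) (Lpe (K4.f66264 IH) (Lpr_et (K4.f66266 IH) (Lpe (f66291 IH) (Lpe (f119881 IH) (Lpn (LP (LK LD1_c20 LD2_c22 LD3_c48)))))))))))))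
theorem f905278 : Led Lsl_bt (LP (LK LD1_c11 LD2_c29 LD3_c2)) = (LP (LK LD1_c20 LD2_c22 LD3_c48)) :=
  Lgr Lrot95 (Lpe (K57.f765417 IH) (Lpe (K70.f643115 IH) (Lpr_df (f905276 IH) (Lpn (LP (LK LD1_c20 LD2_c22 LD3_c48))))))
theorem f706114 : Led Lsl_bt (LP (LK LD1_c20 LD2_c16 LD3_c37)) = (LP (LK LD1_c29 LD2_c23 LD3_c7)) :=
  Lre_b IH (LK LD1_c20 LD2_c16 LD3_c37) (LK LD1_c29 LD2_c23 LD3_c7) Lrfl Lrfl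
theorem f713051 : Led Lsl_bt (LP (LK LD1_c20 LD2_c27 LD3_c30)) = (LP (LK LD1_c12 LD2_c17 LD3_c7)) :=
  Lgr Lrot119 (Lpr_ef (K52.f713049 IH) (Lpe (f706114 IH) (Lpr_ef (K52.f706112 IH) (Lpn (LP (LK LD1_c12 LD2_c17 LD3_c7))))))
theorem f919043 : Led Lsl_ft (LP (LK LD1_c20 LD2_c22 LD3_c48)) = (LP (LK LD1_c20 LD2_c27 LD3_c30)) :=
  Lgr Lrot75 (Lpe (f905278 IH) (Lpr_ff (f919041 IH) (Lpe (f713051 IH) (Lpn (LP (LK LD1_c20 LD2_c27 LD3_c30))))))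
theorem f905280 : Led Lsl_dt (LP (LK LD1_c27 LD2_c41 LD3_c1)) = (LP (LK LD1_c20 LD2_c22 LD3_c48)) :=
  Lgr Lrot42 (Lpr_df (f905276 IH) (Lpn (LP (LK LD1_c20 LD2_c22 LD3_c48))))
theorem f919045 : Led Lsl_ff (LP (LK LD1_c27 LD2_c41 LD3_c1)) = (LP (LK LD1_c20 LD2_c27 LD3_c6)) :=
  Lgr Lrot19 (Lpr_dt (f905280 IH) (Lpr_ft (f919043 IH) (Lpr_dt (K52.f713053 IH) (Lpn (LP (LK LD1_c20 LD2_c27 LD3_c6))))))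
theorem f643217 : Led Lsl_et (LP (LK LD1_c27 LD2_c41 LD3_c1)) = (LP (LK LD1_c17 LD2_c56 LD3_c0)) :=
  Lre_e IH (LK LD1_c27 LD2_c41 LD3_c1) (LK LD1_c17 LD2_c56 LD3_c0) Lrfl Lrfl
theorem f919055 : Led Lsl_ft (LP (LK LD1_c17 LD2_c56 LD3_c0)) = (LP (LK LD1_c20 LD2_c22 LD3_c11)) :=
  Lgr Lrot86 (Lpe (f643217 IH) (Lpr_ff (f919045 IH) (Lpe (K53.f713063 IH) (Lpe (f918914 IH) (Lpe (K45.f61450 IH) (Lpn (LP (LK LD1_c20 LD2_c22 LD3_c11))))))))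
theorem f919057 : Led Lsl_ff (LP (LK LD1_c26 LD2_c58 LD3_c26)) = (LP (LK LD1_c17 LD2_c6 LD3_c12)) :=
  Lgr Lrot23 (Lpr_ct (K52.f644698 IH) (Lpr_ft (f919055 IH) (Lpr_ct (K45.f80072 IH) (Lpn (LP (LK LD1_c17 LD2_c6 LD3_c12))))))
theorem f80074 : Led Lsl_dt (LP (LK LD1_c9 LD2_c12 LD3_c9)) = (LP (LK LD1_c17 LD2_c6 LD3_c12)) :=
  Lre_d IH (LK LD1_c9 LD2_c12 LD3_c9) (LK LD1_c17 LD2_c6 LD3_c12) Lrfl Lrfl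
def v38532 : LQ := Led Lsl_at (LP (LK LD1_c9 LD2_c12 LD3_c8))
theorem f902821 : Led Lsl_at (LP (LK LD1_c9 LD2_c12 LD3_c8)) = v38532 :=
  Lrfl
theorem f902822 : Led Lsl_af (LP (LK LD1_c9 LD2_c12 LD3_c8)) = v38532 :=
  Lgr Lrot0 (Lpr_at (f902821 IH) (Lpn v38532))
theorem f902824 : Led Lsl_ft (LP (LK LD1_c9 LD2_c12 LD3_c9)) = v38532 :=
  Lgr Lrot2 (Lpr_gt (K45.f80068 IH) (Lpr_gt (K54.f644847 IH) (Lpr_af (f902822 IH) (Lpn v38532))))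
theorem f902825 : Led Lsl_ff (LP (LK LD1_c9 LD2_c12 LD3_c9)) = v38532 :=
  Lgr Lrot3 (Lpr_ft (f902824 IH) (Lpn v38532))
theorem f919063 : (LP (LK LD1_c17 LD2_c4 LD3_c26)) = v38532 :=
  (Llr Lrot60 (Lpr_df (K51.f642870 IH) (Lpr_ff (f919057 IH) (Lpe (f80074 IH) (Lpr_ff (f902825 IH) (Lpn v38532)))))).symm
def v38535 : LQ := Led Lsl_ft (LP (LK LD1_c9 LD2_c12 LD3_c8))
theorem f902830 : Led Lsl_ft (LP (LK LD1_c9 LD2_c12 LD3_c8)) = v38535 :=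
  Lrfl
theorem f902832 : Led Lsl_ff (LP (LK LD1_c9 LD2_c12 LD3_c8)) = v38535 :=
  Lgr Lrot3 (Lpr_ft (f902830 IH) (Lpn v38535))
theorem f902833 : Led Lsl_at (LP (LK LD1_c9 LD2_c12 LD3_c9)) = v38535 :=
  Lgr Lrot66 (Lpr_ff (f902825 IH) (Lpe (f902821 IH) (Lpr_ff (f902832 IH) (Lpn v38535))))
theorem f100372 : Led Lsl_gt (LP (LK LD1_c9 LD2_c12 LD3_c11)) = (LP (LK LD1_c17 LD2_c4 LD3_c27)) :=
  Lre_g IH (LK LD1_c9 LD2_c12 LD3_c11) (LK LD1_c17 LD2_c4 LD3_c27) Lrfl Lrfl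
theorem f919068 : v38535 = (LP (LK LD1_c17 LD2_c4 LD3_c27)) :=
  (Llr Lrot26 (Lpe (f902833 IH) (Lpr_ff (f902825 IH) (Lpq (f919063 IH) (Lpr_gt (K51.f642869 IH) (Lpr_gt (f100372 IH) (Lpn (LP (LK LD1_c17 LD2_c4 LD3_c27))))))))).symm
theorem f116878 : Led Lsl_dt (LP (LK LD1_c17 LD2_c4 LD3_c27)) = (LP (LK LD1_c12 LD2_c2 LD3_c23)) :=
  Lgr Lrot42 (Lpr_df (K54.f116872 IH) (Lpn (LP (LK LD1_c12 LD2_c2 LD3_c23))))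
theorem f919073 : Led Lsl_ff (LP (LK LD1_c17 LD2_c6 LD3_c11)) = (LP (LK LD1_c12 LD2_c2 LD3_c23)) :=
  Lgr Lrot19 (Lpr_dt (K54.f644808 IH) (Lpr_ft (f902830 IH) (Lpqs (f919068 IH) (Lpr_dt (f116878 IH) (Lpn (LP (LK LD1_c12 LD2_c2 LD3_c23)))))))
theorem f919077 : Led Lsl_ft (LP (LK LD1_c17 LD2_c6 LD3_c11)) = (LP (LK LD1_c12 LD2_c2 LD3_c23)) :=
  Lgr Lrot48 (Lpr_ff (f919073 IH) (Lpn (LP (LK LD1_c12 LD2_c2 LD3_c23))))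
theorem f919081 : Led Lsl_ff (LP (LK LD1_c26 LD2_c51 LD3_c43)) = (LP (LK LD1_c20 LD2_c27 LD3_c4)) :=
  Lgr Lrot23 (Lpe (K54.f644843 IH) (Lpr_ft (f919077 IH) (Lpr_ct (K54.f713756 IH) (Lpn (LP (LK LD1_c20 LD2_c27 LD3_c4))))))
theorem f918810 : Led Lsl_ff (LP (LK LD1_c26 LD2_c50 LD3_c47)) = v40739 :=
  Lgr Lrot3 (Lpr_ft (f918809 IH) (Lpn v40739))
theorem f919085 : (LP (LK LD1_c16 LD2_c55 LD3_c27)) = v40739 :=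
  (Llr Lrot60 (Lpe (K54.f644436 IH) (Lpr_ff (f919081 IH) (Lpe (f713779 IH) (Lpr_ff (f918810 IH) (Lpn v40739)))))).symm
theorem f918828 : Led Lsl_bt (LP (LK LD1_c17 LD2_c56 LD3_c7)) = (LP (LK LD1_c26 LD2_c50 LD3_c47)) :=
  Lgr Lrot127 (Lpr_bf (f918826 IH) (Lpn (LP (LK LD1_c26 LD2_c50 LD3_c47))))
theorem f714971 : Led Lsl_gt (LP (LK LD1_c11 LD2_c30 LD3_c47)) = (LP (LK LD1_c11 LD2_c25 LD3_c13)) :=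
  Lgr Lrot46 (Lpr_gf (K54.f714964 IH) (Lpr_ft (K6.f66285 IH) (Lpr_at (K8.f66391 IH) (Lpn (LP (LK LD1_c11 LD2_c25 LD3_c13))))))
theorem f706448 : Led Lsl_dt (LP (LK LD1_c20 LD2_c27 LD3_c50)) = (LP (LK LD1_c11 LD2_c30 LD3_c47)) :=
  Lre_d IH (LK LD1_c20 LD2_c27 LD3_c50) (LK LD1_c11 LD2_c30 LD3_c47) Lrfl Lrfl
theorem f557314 : Led Lsl_ff (LP (LK LD1_c9 LD2_c45 LD3_c15)) = (LP (LK LD1_c11 LD2_c7 LD3_c17)) :=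
  Lgr Lrot3 (Lpr_ft (K39.f557220 IH) (Lpn (LP (LK LD1_c11 LD2_c7 LD3_c17))))
theorem f582487 : Led Lsl_gt (LP (LK LD1_c11 LD2_c7 LD3_c17)) = (LP (LK LD1_c8 LD2_c44 LD3_c27)) :=
  Lgr Lrot5 (Lpe (f557314 IH) (Lpe (K41.f566588 IH) (Lpr_gf (K44.f582480 IH) (Lpn (LP (LK LD1_c8 LD2_c44 LD3_c27))))))
theorem f423643 : Led Lsl_et (LP (LK LD1_c5 LD2_c38 LD3_c11)) = (LP (LK LD1_c11 LD2_c7 LD3_c40)) :=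
  Lre_e IH (LK LD1_c5 LD2_c38 LD3_c11) (LK LD1_c11 LD2_c7 LD3_c40) Lrfl Lrfl
theorem f714989 : Led Lsl_et (LP (LK LD1_c20 LD2_c27 LD3_c50)) = (LP (LK LD1_c16 LD2_c55 LD3_c27)) :=
  Lgr Lrot122 (Lpr_dt (f706448 IH) (Lpr_gt (f714971 IH) (Lpe (K51.f589404 IH) (Lpr_et (K51.f589254 IH) (Lpr_gt (f582487 IH) (Lpr_dt (K44.f424196 IH) (Lpe (K39.f424193 IH) (Lpr_df (K39.f423194 IH) (Lpr_et (f423643 IH) (Lpe (K54.f711672 IH) (Lpn (LP (LK LD1_c16 LD2_c55 LD3_c27)))))))))))))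
theorem f714991 : Led Lsl_bt (LP (LK LD1_c11 LD2_c30 LD3_c48)) = (LP (LK LD1_c20 LD2_c27 LD3_c50)) :=
  Lre_b IH (LK LD1_c11 LD2_c30 LD3_c48) (LK LD1_c20 LD2_c27 LD3_c50) Lrfl Lrfl
theorem f714992 : Led Lsl_et (LP (LK LD1_c20 LD2_c27 LD3_c51)) = (LP (LK LD1_c11 LD2_c30 LD3_c48)) :=
  Lre_e IH (LK LD1_c20 LD2_c27 LD3_c51) (LK LD1_c11 LD2_c30 LD3_c48) Lrfl Lrfl
theorem f714993 : Led Lsl_bf (LP (LK LD1_c20 LD2_c27 LD3_c51)) = (LP (LK LD1_c16 LD2_c55 LD3_c27)) :=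
  Lgr Lrot96 (Lpr_et (f714992 IH) (Lpr_bt (f714991 IH) (Lpr_et (f714989 IH) (Lpn (LP (LK LD1_c16 LD2_c55 LD3_c27))))))
theorem f919090 : Led Lsl_ff (LP (LK LD1_c17 LD2_c56 LD3_c7)) = (LP (LK LD1_c20 LD2_c27 LD3_c51)) :=
  Lgr Lrot25 (Lpr_bt (f918828 IH) (Lpr_ft (f918809 IH) (Lpq (f919085 IH) (Lpe (f714993 IH) (Lpn (LP (LK LD1_c20 LD2_c27 LD3_c51)))))))
theorem f919104 : Led Lsl_ft (LP (LK LD1_c17 LD2_c56 LD3_c7)) = (LP (LK LD1_c20 LD2_c27 LD3_c51)) :=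
  Lgr Lrot48 (Lpr_ff (f919090 IH) (Lpn (LP (LK LD1_c20 LD2_c27 LD3_c51))))
theorem f718958 : Led Lsl_at (LP (LK LD1_c9 LD2_c46 LD3_c13)) = (LP (LK LD1_c17 LD2_c56 LD3_c7)) :=
  Lre_a IH (LK LD1_c9 LD2_c46 LD3_c13) (LK LD1_c17 LD2_c56 LD3_c7) Lrfl Lrfl
theorem f918649 : Led Lsl_bt (LP (LK LD1_c9 LD2_c45 LD3_c49)) = (LP (LK LD1_c17 LD2_c55 LD3_c28)) :=
  Lre_b IH (LK LD1_c9 LD2_c45 LD3_c49) (LK LD1_c17 LD2_c55 LD3_c28) Lrfl Lrfl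
theorem f918977 : Led Lsl_ff (LP (LK LD1_c9 LD2_c46 LD3_c13)) = (LP (LK LD1_c17 LD2_c55 LD3_c28)) :=
  Lgr Lrot25 (Lpr_bt (f40259 IH) (Lpqs (f918966 IH) (Lpe (f918658 IH) (Lpr_bt (f918649 IH) (Lpn (LP (LK LD1_c17 LD2_c55 LD3_c28)))))))
theorem f919106 : Led Lsl_af (LP (LK LD1_c17 LD2_c55 LD3_c28)) = (LP (LK LD1_c20 LD2_c27 LD3_c51)) :=
  Lgr Lrot45 (Lpe (f918977 IH) (Lpr_at (f718958 IH) (Lpr_ft (f919104 IH) (Lpn (LP (LK LD1_c20 LD2_c27 LD3_c51))))))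
theorem f919108 : Led Lsl_gt (LP (LK LD1_c11 LD2_c10 LD3_c57)) = (LP (LK LD1_c17 LD2_c55 LD3_c28)) :=
  Lgr Lrot46 (Lpe (f918833 IH) (Lpr_ft (f919104 IH) (Lpe (f919106 IH) (Lpn (LP (LK LD1_c17 LD2_c55 LD3_c28))))))
theorem f158462 : Led Lsl_dt (LP (LK LD1_c2 LD2_c26 LD3_c60)) = (LP (LK LD1_c4 LD2_c58 LD3_c16)) :=
  Lre_d IH (LK LD1_c2 LD2_c26 LD3_c60) (LK LD1_c4 LD2_c58 LD3_c16) Lrfl Lrfl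
theorem f497455 : Led Lsl_gf (LP (LK LD1_c2 LD2_c51 LD3_c15)) = (LP (LK LD1_c4 LD2_c59 LD3_c30)) :=
  Lgr Lrot144 (Lpr_dt (K8.f163324 IH) (Lpe (K8.f163328 IH) (Lpr_dt (f158462 IH) (Lpe (K11.f161118 IH) (Lpr_df (K11.f161124 IH) (Lpe (K11.f107271 IH) (Lpe (K7.f149085 IH) (Lpe (K32.f149092 IH) (Lpr_cf (K44.f497447 IH) (Lpn (LP (LK LD1_c4 LD2_c59 LD3_c30))))))))))))
theorem f570823 : Led Lsl_ef (LP (LK LD1_c15 LD2_c5 LD3_c15)) = (LP (LK LD1_c9 LD2_c8 LD3_c1)) :=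
  Lgr Lrot88 (Lpr_et (K49.f570818 IH) (Lpn (LP (LK LD1_c9 LD2_c8 LD3_c1))))
theorem f570827 : Led Lsl_et (LP (LK LD1_c8 LD2_c0 LD3_c36)) = (LP (LK LD1_c4 LD2_c59 LD3_c30)) :=
  Lgr Lrot158 (Lpe (K49.f497257 IH) (Lpr_ef (f570823 IH) (Lpr_cf (K44.f497447 IH) (Lpn (LP (LK LD1_c4 LD2_c59 LD3_c30))))))
theorem f762102 : Led Lsl_df (LP (LK LD1_c6 LD2_c22 LD3_c2)) = K65.v17770 :=
  Lgr Lrot38 (Lpr_dt (K65.f762099 IH) (Lpn K65.v17770))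
theorem f647967 : Led Lsl_ft (LP (LK LD1_c5 LD2_c50 LD3_c30)) = K65.v5501 :=
  Lgr Lrot48 (Lpr_ff (K65.f647965 IH) (Lpn K65.v5501))
theorem f762104 : Led Lsl_at K65.v5501 = K65.v17770 :=
  Lgr Lrot66 (Lpe (f647967 IH) (Lpe (K66.f505046 IH) (Lpr_ff (K65.f762103 IH) (Lpn K65.v17770))))
theorem f615084 : Led Lsl_gt (LP (LK LD1_c5 LD2_c50 LD3_c30)) = (LP (LK LD1_c11 LD2_c28 LD3_c57)) :=
  Lre_g IH (LK LD1_c5 LD2_c50 LD3_c30) (LK LD1_c11 LD2_c28 LD3_c57) Lrfl Lrfl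
theorem f762108 : Led Lsl_gt (LP (LK LD1_c11 LD2_c28 LD3_c57)) = K65.v17770 :=
  Lgr Lrot46 (Lpe (f615084 IH) (Lpr_ft (f647967 IH) (Lpr_at (f762104 IH) (Lpn K65.v17770))))
theorem f744382 : Led Lsl_et (LP (LK LD1_c20 LD2_c26 LD3_c10)) = (LP (LK LD1_c11 LD2_c28 LD3_c57)) :=
  Lre_e IH (LK LD1_c20 LD2_c26 LD3_c10) (LK LD1_c11 LD2_c28 LD3_c57) Lrfl Lrfl
theorem f919110 : Led Lsl_dt (LP (LK LD1_c20 LD2_c26 LD3_c10)) = (LP (LK LD1_c17 LD2_c55 LD3_c28)) :=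
  Lgr Lrot37 (Lpr_et (f744382 IH) (Lpr_gt (f762108 IH) (Lpe (f762102 IH) (Lpr_gt (K42.f615082 IH) (Lpe (K65.f157811 IH) (Lpr_et (f570827 IH) (Lpe (f497455 IH) (Lpe (K54.f26502 IH) (Lpe (f606372 IH) (Lpr_gt (f919108 IH) (Lpn (LP (LK LD1_c17 LD2_c55 LD3_c28)))))))))))))
theorem f919111 : Led Lsl_dt (LP (LK LD1_c20 LD2_c26 LD3_c10)) = (LP (LK LD1_c17 LD2_c55 LD3_c28)) :=
  Leop (Lpe (f919110 IH) (Lpn (LP (LK LD1_c20 LD2_c26 LD3_c10))))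
theorem seed_2414 : LEOK LG_d (LK LD1_c20 LD2_c26 LD3_c10) :=
  Leoe_d (LK LD1_c20 LD2_c26 LD3_c10) (f919111 IH)
theorem f140602 : Led Lsl_dt (LP (LK LD1_c9 LD2_c46 LD3_c13)) = (LP (LK LD1_c17 LD2_c56 LD3_c9)) :=
  Lre_d IH (LK LD1_c9 LD2_c46 LD3_c13) (LK LD1_c17 LD2_c56 LD3_c9) Lrfl Lrfl
theorem f919117 : Led Lsl_ff (LP (LK LD1_c20 LD2_c26 LD3_c10)) = (LP (LK LD1_c17 LD2_c56 LD3_c9)) :=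
  Lgr Lrot19 (Lpr_dt (f919110 IH) (Lpe (f918977 IH) (Lpr_dt (f140602 IH) (Lpn (LP (LK LD1_c17 LD2_c56 LD3_c9))))))
theorem f919122 : Led Lsl_ft (LP (LK LD1_c20 LD2_c26 LD3_c10)) = (LP (LK LD1_c17 LD2_c56 LD3_c9)) :=
  Lgr Lrot48 (Lpr_ff (f919117 IH) (Lpn (LP (LK LD1_c17 LD2_c56 LD3_c9))))
theorem f919116 : Led Lsl_et (LP (LK LD1_c11 LD2_c28 LD3_c57)) = (LP (LK LD1_c20 LD2_c26 LD3_c10)) :=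
  Lre_e IH (LK LD1_c11 LD2_c28 LD3_c57) (LK LD1_c20 LD2_c26 LD3_c10) Lrfl Lrfl
theorem f918857 : Led Lsl_ft (LP (LK LD1_c11 LD2_c31 LD3_c8)) = (LP (LK LD1_c11 LD2_c24 LD3_c27)) :=
  Lgr Lrot48 (Lpr_ff (f918853 IH) (Lpn (LP (LK LD1_c11 LD2_c24 LD3_c27))))
theorem f919126 : Led Lsl_ff (LP (LK LD1_c11 LD2_c28 LD3_c57)) = K65.v25371 :=
  Lgr Lrot72 (Lpr_et (f919116 IH) (Lpr_ft (f919122 IH) (Lpr_et (f757824 IH) (Lpr_ft (f918857 IH) (Lpr_et (K65.f828247 IH) (Lpn K65.v25371))))))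
theorem f919129 : Led Lsl_at (LP (LK LD1_c11 LD2_c28 LD3_c57)) = K65.v25372 :=
  Lgr Lrot26 (Lpr_ff (f919126 IH) (Lpe (K65.f828242 IH) (Lpr_gt (K65.f828272 IH) (Lpn K65.v25372))))
theorem f919130 : Led Lsl_af (LP (LK LD1_c11 LD2_c28 LD3_c57)) = K65.v25372 :=
  Lgr Lrot0 (Lpr_at (f919129 IH) (Lpn K65.v25372))
theorem f919131 : Led Lsl_ft (LP (LK LD1_c11 LD2_c28 LD3_c58)) = K65.v25372 :=
  Lgr Lrot2 (Lpr_gt (K66.f436270 IH) (Lpr_gt (f615084 IH) (Lpr_af (f919130 IH) (Lpn K65.v25372))))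
theorem f919134 : Led Lsl_ff (LP (LK LD1_c11 LD2_c28 LD3_c58)) = K65.v25372 :=
  Lgr Lrot3 (Lpr_ft (f919131 IH) (Lpn K65.v25372))
theorem f871177 : Led Lsl_dt (LP (LK LD1_c11 LD2_c28 LD3_c58)) = K66.v34486 :=
  Lgr Lrot42 (Lpr_df (K66.f871175 IH) (Lpn K66.v34486))
theorem f919136 : Led Lsl_ft K66.v34486 = (LP (LK LD1_c11 LD2_c30 LD3_c49)) :=
  Lgr Lrot54 (Lpe (f871177 IH) (Lpr_ff (f919134 IH) (Lpe (K65.f828273 IH) (Lpn (LP (LK LD1_c11 LD2_c30 LD3_c49))))))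
def v34485 : LQ := Led Lsl_gt K49.v11815
theorem f871169 : Led Lsl_gt K49.v11815 = v34485 :=
  Lrfl
theorem f919137 : Led Lsl_af v34485 = (LP (LK LD1_c11 LD2_c30 LD3_c49)) :=
  Lgr Lrot31 (Lpe (f871169 IH) (Lpr_gf (K66.f871171 IH) (Lpr_ft (f919136 IH) (Lpn (LP (LK LD1_c11 LD2_c30 LD3_c49))))))
theorem f744885 : Led Lsl_et (LP (LK LD1_c5 LD2_c51 LD3_c46)) = (LP (LK LD1_c11 LD2_c30 LD3_c49)) :=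
  Lre_e IH (LK LD1_c5 LD2_c51 LD3_c46) (LK LD1_c11 LD2_c30 LD3_c49) Lrfl Lrfl
def v16026 : LQ := Led Lsl_ft (LP (LK LD1_c5 LD2_c51 LD3_c45))
theorem f744888 : Led Lsl_ft (LP (LK LD1_c5 LD2_c51 LD3_c45)) = v16026 :=
  Lrfl
def v16024 : LQ := Led Lsl_at (LP (LK LD1_c5 LD2_c51 LD3_c45))
theorem f744881 : Led Lsl_at (LP (LK LD1_c5 LD2_c51 LD3_c45)) = v16024 :=
  Lrfl
theorem f744882 : Led Lsl_af (LP (LK LD1_c5 LD2_c51 LD3_c45)) = v16024 :=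
  Lgr Lrot0 (Lpr_at (f744881 IH) (Lpn v16024))
theorem f744883 : Led Lsl_ft (LP (LK LD1_c5 LD2_c51 LD3_c46)) = v16024 :=
  Lgr Lrot2 (Lpr_gt (K54.f73840 IH) (Lpr_gt (K52.f73842 IH) (Lpr_af (f744882 IH) (Lpn v16024))))
theorem f744889 : Led Lsl_af (LP (LK LD1_c5 LD2_c51 LD3_c46)) = v16026 :=
  Lgr Lrot45 (Lpr_ft (f744883 IH) (Lpe (f744882 IH) (Lpr_ft (f744888 IH) (Lpn v16026))))
theorem f919140 : Led Lsl_et v34485 = v16026 :=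
  Lgr Lrot123 (Lpr_af (f919137 IH) (Lpe (f744885 IH) (Lpr_af (f744889 IH) (Lpn v16026))))
theorem f828349 : Led Lsl_df (LP (LK LD1_c11 LD2_c30 LD3_c49)) = K65.v25372 :=
  Lgr Lrot38 (Lpr_dt (K65.f828273 IH) (Lpn K65.v25372))
theorem f919139 : Led Lsl_dt v34485 = (LP (LK LD1_c11 LD2_c28 LD3_c57)) :=
  Lgr Lrot44 (Lpr_af (f919137 IH) (Lpr_df (f828349 IH) (Lpe (f919129 IH) (Lpn (LP (LK LD1_c11 LD2_c28 LD3_c57))))))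
theorem f157815 : Led Lsl_et (LP (LK LD1_c1 LD2_c56 LD3_c32)) = (LP (LK LD1_c3 LD2_c59 LD3_c46)) :=
  Lre_e IH (LK LD1_c1 LD2_c56 LD3_c32) (LK LD1_c3 LD2_c59 LD3_c46) Lrfl Lrfl
def v16020 : LQ := Led Lsl_gf (LP (LK LD1_c5 LD2_c51 LD3_c43))
theorem f744851 : Led Lsl_gf (LP (LK LD1_c5 LD2_c51 LD3_c43)) = v16020 :=
  Lrfl
theorem f919142 : v16020 = v16026 :=
  (Llr Lrot141 (Lpe (f744851 IH) (Lpe (K67.f73967 IH) (Lpe (K8.f73965 IH) (Lpr_gt (K8.f73470 IH) (Lpe (K8.f157800 IH) (Lpr_et (f157815 IH) (Lpe (K42.f615080 IH) (Lpr_dt (K66.f506195 IH) (Lpr_gt (f615084 IH) (Lpe (f919139 IH) (Lpr_et (f919140 IH) (Lpn v16026))))))))))))).symm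
theorem f22891 : Led Lsl_bt (LP (LK LD1_c4 LD2_c40 LD3_c53)) = (LP (LK LD1_c2 LD2_c17 LD3_c32)) :=
  Lre_b IH (LK LD1_c4 LD2_c40 LD3_c53) (LK LD1_c2 LD2_c17 LD3_c32) Lrfl Lrfl
theorem f22892 : Led Lsl_ct (LP (LK LD1_c4 LD2_c40 LD3_c53)) = (LP (LK LD1_c9 LD2_c17 LD3_c16)) :=
  Lre_c IH (LK LD1_c4 LD2_c40 LD3_c53) (LK LD1_c9 LD2_c17 LD3_c16) Lrfl Lrfl
theorem f141059 : Led Lsl_gt (LP (LK LD1_c17 LD2_c12 LD3_c24)) = (LP (LK LD1_c9 LD2_c17 LD3_c16)) :=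
  Lre_g IH (LK LD1_c17 LD2_c12 LD3_c24) (LK LD1_c9 LD2_c17 LD3_c16) Lrfl Lrfl
theorem f785058 : Led Lsl_ct (LP (LK LD1_c11 LD2_c11 LD3_c58)) = (LP (LK LD1_c17 LD2_c12 LD3_c24)) :=
  Lgr Lrot64 (Lpr_bt (K60.f785052 IH) (Lpr_gf (K52.f138003 IH) (Lpe (K52.f73663 IH) (Lpr_ct (K16.f73679 IH) (Lpe (K24.f141050 IH) (Lpe (K24.f141049 IH) (Lpe (K24.f22858 IH) (Lpe (f22891 IH) (Lpr_ct (f22892 IH) (Lpe (f141059 IH) (Lpn (LP (LK LD1_c17 LD2_c12 LD3_c24)))))))))))))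
theorem f383385 : Led Lsl_af (LP (LK LD1_c5 LD2_c40 LD3_c37)) = (LP (LK LD1_c9 LD2_c45 LD3_c23)) :=
  Lgr Lrot0 (Lpr_at (K36.f383383 IH) (Lpn (LP (LK LD1_c9 LD2_c45 LD3_c23))))
theorem f383424 : Led Lsl_gf (LP (LK LD1_c11 LD2_c11 LD3_c58)) = (LP (LK LD1_c17 LD2_c55 LD3_c1)) :=
  Lgr Lrot47 (Lpr_gt (K60.f289618 IH) (Lpr_af (f383385 IH) (Lpe (K41.f381383 IH) (Lpn (LP (LK LD1_c17 LD2_c55 LD3_c1))))))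
theorem f496330 : Led Lsl_gt (LP (LK LD1_c20 LD2_c25 LD3_c58)) = (LP (LK LD1_c11 LD2_c28 LD3_c34)) :=
  Lre_g IH (LK LD1_c20 LD2_c25 LD3_c58) (LK LD1_c11 LD2_c28 LD3_c34) Lrfl Lrfl
theorem f634197 : Led Lsl_ct (LP (LK LD1_c9 LD2_c17 LD3_c16)) = (LP (LK LD1_c4 LD2_c40 LD3_c53)) :=
  Lre_c IH (LK LD1_c9 LD2_c17 LD3_c16) (LK LD1_c4 LD2_c40 LD3_c53) Lrfl Lrfl
theorem f74595 : Led Lsl_ct (LP (LK LD1_c4 LD2_c40 LD3_c38)) = (LP (LK LD1_c2 LD2_c17 LD3_c29)) :=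
  Lre_c IH (LK LD1_c4 LD2_c40 LD3_c38) (LK LD1_c2 LD2_c17 LD3_c29) Lrfl Lrfl
theorem f104965 : Led Lsl_gt (LP (LK LD1_c9 LD2_c16 LD3_c37)) = (LP (LK LD1_c4 LD2_c40 LD3_c38)) :=
  Lre_g IH (LK LD1_c9 LD2_c16 LD3_c37) (LK LD1_c4 LD2_c40 LD3_c38) Lrfl Lrfl
theorem f785063 : Led Lsl_ct (LP (LK LD1_c11 LD2_c28 LD3_c34)) = (LP (LK LD1_c9 LD2_c16 LD3_c37)) :=
  Lgr Lrot152 (Lpe (f496330 IH) (Lpe (K41.f615412 IH) (Lpe (f383424 IH) (Lpr_ct (f785058 IH) (Lpr_gt (f141059 IH) (Lpr_ct (f634197 IH) (Lpe (K2.f74565 IH) (Lpe (f74595 IH) (Lpe (f104965 IH) (Lpn (LP (LK LD1_c9 LD2_c16 LD3_c37))))))))))))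
theorem f74933 : Led Lsl_gt (LP (LK LD1_c17 LD2_c11 LD3_c15)) = (LP (LK LD1_c9 LD2_c16 LD3_c37)) :=
  Lre_g IH (LK LD1_c17 LD2_c11 LD3_c15) (LK LD1_c9 LD2_c16 LD3_c37) Lrfl Lrfl
theorem f785067 : Led Lsl_bt (LP (LK LD1_c11 LD2_c28 LD3_c34)) = v16020 :=
  Lgr Lrot22 (Lpr_ct (f785063 IH) (Lpe (f74933 IH) (Lpe (K58.f74997 IH) (Lpe (K51.f74599 IH) (Lpe (K51.f414363 IH) (Lpr_ct (K51.f414364 IH) (Lpe (K52.f414367 IH) (Lpe (K55.f73984 IH) (Lpr_bt (K2.f73974 IH) (Lpr_gf (f744851 IH) (Lpn v16020)))))))))))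
theorem f785068 : Led Lsl_bf (LP (LK LD1_c11 LD2_c28 LD3_c34)) = v16020 :=
  Lgr Lrot24 (Lpr_bt (f785067 IH) (Lpn v16020))
theorem f919143 : Led Lsl_ff (LP (LK LD1_c11 LD2_c30 LD3_c44)) = (LP (LK LD1_c11 LD2_c28 LD3_c34)) :=
  Lgr Lrot25 (Lpr_bt (K52.f79837 IH) (Lpr_ft (f744888 IH) (Lpq (f919142 IH) (Lpe (f785068 IH) (Lpn (LP (LK LD1_c11 LD2_c28 LD3_c34)))))))
theorem f785065 : Led Lsl_cf (LP (LK LD1_c11 LD2_c28 LD3_c34)) = (LP (LK LD1_c9 LD2_c16 LD3_c37)) :=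
  Lgr Lrot11 (Lpr_ct (f785063 IH) (Lpn (LP (LK LD1_c9 LD2_c16 LD3_c37))))
def v38845 : LQ := Led Lsl_at (LP (LK LD1_c9 LD2_c16 LD3_c36))
theorem f904886 : Led Lsl_at (LP (LK LD1_c9 LD2_c16 LD3_c36)) = v38845 :=
  Lrfl
theorem f904887 : Led Lsl_af (LP (LK LD1_c9 LD2_c16 LD3_c36)) = v38845 :=
  Lgr Lrot0 (Lpr_at (f904886 IH) (Lpn v38845))
theorem f904888 : Led Lsl_ft (LP (LK LD1_c9 LD2_c16 LD3_c37)) = v38845 :=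
  Lgr Lrot2 (Lpr_gt (f104965 IH) (Lpr_gt (K58.f105068 IH) (Lpr_af (f904887 IH) (Lpn v38845))))
theorem f904889 : Led Lsl_ff (LP (LK LD1_c9 LD2_c16 LD3_c37)) = v38845 :=
  Lgr Lrot3 (Lpr_ft (f904888 IH) (Lpn v38845))
theorem f919151 : (LP (LK LD1_c17 LD2_c11 LD3_c13)) = v38845 :=
  (Llr Lrot40 (Lpe (K52.f414679 IH) (Lpr_ff (f919143 IH) (Lpr_cf (f785065 IH) (Lpr_ff (f904889 IH) (Lpn v38845)))))).symm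
theorem f105076 : Led Lsl_et (LP (LK LD1_c9 LD2_c16 LD3_c36)) = (LP (LK LD1_c17 LD2_c11 LD3_c22)) :=
  Lre_e IH (LK LD1_c9 LD2_c16 LD3_c36) (LK LD1_c17 LD2_c11 LD3_c22) Lrfl Lrfl
theorem f919157 : Led Lsl_af (LP (LK LD1_c11 LD2_c46 LD3_c31)) = (LP (LK LD1_c17 LD2_c11 LD3_c22)) :=
  Lgr Lrot50 (Lpe (K54.f75281 IH) (Lpqs (f919151 IH) (Lpe (f904887 IH) (Lpr_et (f105076 IH) (Lpn (LP (LK LD1_c17 LD2_c11 LD3_c22)))))))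
def v16453 : LQ := Led Lsl_ft (LP (LK LD1_c6 LD2_c0 LD3_c58))
theorem f749541 : Led Lsl_ft (LP (LK LD1_c6 LD2_c0 LD3_c58)) = v16453 :=
  Lrfl
theorem f749543 : Led Lsl_ff (LP (LK LD1_c6 LD2_c0 LD3_c58)) = v16453 :=
  Lgr Lrot3 (Lpr_ft (f749541 IH) (Lpn v16453))
def v16452 : LQ := Led Lsl_at (LP (LK LD1_c6 LD2_c0 LD3_c58))
theorem f749534 : Led Lsl_at (LP (LK LD1_c6 LD2_c0 LD3_c58)) = v16452 :=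
  Lrfl
theorem f749535 : Led Lsl_af (LP (LK LD1_c6 LD2_c0 LD3_c58)) = v16452 :=
  Lgr Lrot0 (Lpr_at (f749534 IH) (Lpn v16452))
theorem f641502 : Led Lsl_gt (LP (LK LD1_c2 LD2_c56 LD3_c44)) = (LP (LK LD1_c6 LD2_c0 LD3_c58)) :=
  Lre_g IH (LK LD1_c2 LD2_c56 LD3_c44) (LK LD1_c6 LD2_c0 LD3_c58) Lrfl Lrfl
theorem f749537 : Led Lsl_ft (LP (LK LD1_c6 LD2_c0 LD3_c59)) = v16452 :=
  Lgr Lrot2 (Lpr_gt (K54.f75279 IH) (Lpr_gt (f641502 IH) (Lpr_af (f749535 IH) (Lpn v16452))))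
theorem f749539 : Led Lsl_ff (LP (LK LD1_c6 LD2_c0 LD3_c59)) = v16452 :=
  Lgr Lrot3 (Lpr_ft (f749537 IH) (Lpn v16452))
theorem f749544 : Led Lsl_at (LP (LK LD1_c6 LD2_c0 LD3_c59)) = v16453 :=
  Lgr Lrot66 (Lpr_ff (f749539 IH) (Lpe (f749534 IH) (Lpr_ff (f749543 IH) (Lpn v16453))))
theorem f105066 : Led Lsl_et (LP (LK LD1_c2 LD2_c56 LD3_c4)) = (LP (LK LD1_c1 LD2_c23 LD3_c59)) :=
  Lre_e IH (LK LD1_c2 LD2_c56 LD3_c4) (LK LD1_c1 LD2_c23 LD3_c59) Lrfl Lrfl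
theorem f74624 : Led Lsl_gt (LP (LK LD1_c11 LD2_c43 LD3_c28)) = (LP (LK LD1_c5 LD2_c59 LD3_c25)) :=
  Lre_g IH (LK LD1_c11 LD2_c43 LD3_c28) (LK LD1_c5 LD2_c59 LD3_c25) Lrfl Lrfl
theorem f104964 : Led Lsl_et (LP (LK LD1_c2 LD2_c17 LD3_c22)) = (LP (LK LD1_c4 LD2_c40 LD3_c38)) :=
  Lre_e IH (LK LD1_c2 LD2_c17 LD3_c22) (LK LD1_c4 LD2_c40 LD3_c38) Lrfl Lrfl
theorem f74935 : Led Lsl_et (LP (LK LD1_c17 LD2_c11 LD3_c22)) = (LP (LK LD1_c9 LD2_c16 LD3_c36)) :=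
  Lre_e IH (LK LD1_c17 LD2_c11 LD3_c22) (LK LD1_c9 LD2_c16 LD3_c36) Lrfl Lrfl
theorem f105069 : Led Lsl_df (LP (LK LD1_c11 LD2_c43 LD3_c28)) = (LP (LK LD1_c17 LD2_c11 LD3_c22)) :=
  Lgr Lrot170 (Lpr_gt (f74624 IH) (Lpe (K56.f105067 IH) (Lpr_et (f105066 IH) (Lpr_gt (K7.f56844 IH) (Lpr_dt (K32.f105044 IH) (Lpr_gt (K8.f105030 IH) (Lpe (K2.f72820 IH) (Lpr_et (f104964 IH) (Lpr_gt (K58.f105068 IH) (Lpe (f74935 IH) (Lpn (LP (LK LD1_c17 LD2_c11 LD3_c22)))))))))))))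
theorem f105073 : Led Lsl_dt (LP (LK LD1_c11 LD2_c43 LD3_c28)) = (LP (LK LD1_c17 LD2_c11 LD3_c22)) :=
  Lgr Lrot42 (Lpr_df (f105069 IH) (Lpn (LP (LK LD1_c17 LD2_c11 LD3_c22))))
theorem f919165 : v16453 = (LP (LK LD1_c11 LD2_c43 LD3_c28)) :=
  (Llr Lrot51 (Lpe (f749544 IH) (Lpe (K54.f75280 IH) (Lpr_af (f919157 IH) (Lpe (f105073 IH) (Lpn (LP (LK LD1_c11 LD2_c43 LD3_c28)))))))).symm
theorem f641503 : Led Lsl_dt (LP (LK LD1_c11 LD2_c46 LD3_c27)) = (LP (LK LD1_c6 LD2_c0 LD3_c58)) :=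
  Lre_d IH (LK LD1_c11 LD2_c46 LD3_c27) (LK LD1_c6 LD2_c0 LD3_c58) Lrfl Lrfl
theorem f919172 : Led Lsl_ff (LP (LK LD1_c11 LD2_c46 LD3_c27)) = (LP (LK LD1_c17 LD2_c11 LD3_c22)) :=
  Lgr Lrot19 (Lpr_dt (f641503 IH) (Lpr_ft (f749541 IH) (Lpqs (f919165 IH) (Lpr_dt (f105073 IH) (Lpn (LP (LK LD1_c17 LD2_c11 LD3_c22)))))))
theorem f641635 : Led Lsl_dt (LP (LK LD1_c6 LD2_c0 LD3_c58)) = (LP (LK LD1_c11 LD2_c46 LD3_c27)) :=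
  Lre_d IH (LK LD1_c6 LD2_c0 LD3_c58) (LK LD1_c11 LD2_c46 LD3_c27) Lrfl Lrfl
theorem f645073 : Led Lsl_dt (LP (LK LD1_c11 LD2_c19 LD3_c40)) = (LP (LK LD1_c20 LD2_c16 LD3_c37)) :=
  Lre_d IH (LK LD1_c11 LD2_c19 LD3_c40) (LK LD1_c20 LD2_c16 LD3_c37) Lrfl Lrfl
theorem f749387 : Led Lsl_ct (LP (LK LD1_c11 LD2_c46 LD3_c27)) = (LP (LK LD1_c20 LD2_c16 LD3_c37)) :=
  Lgr Lrot7 (Lpe (f641635 IH) (Lpe (f641502 IH) (Lpe (K54.f75278 IH) (Lpe (K9.f140227 IH) (Lpe (K9.f140186 IH) (Lpr_gt (K56.f749383 IH) (Lpr_dt (K50.f555976 IH) (Lpr_gt (K52.f706079 IH) (Lpr_dt (f645073 IH) (Lpn (LP (LK LD1_c20 LD2_c16 LD3_c37))))))))))))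
theorem f496641 : Led Lsl_et (LP (LK LD1_c20 LD2_c25 LD3_c61)) = (LP (LK LD1_c11 LD2_c28 LD3_c33)) :=
  Lre_e IH (LK LD1_c20 LD2_c25 LD3_c61) (LK LD1_c11 LD2_c28 LD3_c33) Lrfl Lrfl
theorem f727536 : Led Lsl_ct (LP (LK LD1_c17 LD2_c11 LD3_c22)) = (LP (LK LD1_c20 LD2_c25 LD3_c61)) :=
  Lgr Lrot15 (Lpe (f105076 IH) (Lpr_cf (K58.f727532 IH) (Lpe (f496641 IH) (Lpn (LP (LK LD1_c20 LD2_c25 LD3_c61))))))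
theorem f727600 : Led Lsl_cf (LP (LK LD1_c17 LD2_c11 LD3_c22)) = (LP (LK LD1_c20 LD2_c25 LD3_c61)) :=
  Lgr Lrot11 (Lpr_ct (f727536 IH) (Lpn (LP (LK LD1_c20 LD2_c25 LD3_c61))))
theorem f919174 : Led Lsl_ft (LP (LK LD1_c20 LD2_c16 LD3_c37)) = (LP (LK LD1_c20 LD2_c25 LD3_c61)) :=
  Lgr Lrot4 (Lpe (f749387 IH) (Lpr_ff (f919172 IH) (Lpr_cf (f727600 IH) (Lpn (LP (LK LD1_c20 LD2_c25 LD3_c61))))))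
theorem f919182 : Led Lsl_af (LP (LK LD1_c20 LD2_c16 LD3_c46)) = (LP (LK LD1_c20 LD2_c25 LD3_c61)) :=
  Lgr Lrot109 (Lpr_cf (K54.f414683 IH) (Lpe (K54.f75285 IH) (Lpe (K54.f414690 IH) (Lpe (K54.f738888 IH) (Lpe (K54.f642016 IH) (Lpe (K54.f642076 IH) (Lpe (K52.f416014 IH) (Lpe (K52.f642075 IH) (Lpr_ft (f919174 IH) (Lpn (LP (LK LD1_c20 LD2_c25 LD3_c61))))))))))))
theorem f74623 : Led Lsl_dt (LP (LK LD1_c5 LD2_c59 LD3_c25)) = (LP (LK LD1_c2 LD2_c56 LD3_c4)) :=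
  Lre_d IH (LK LD1_c5 LD2_c59 LD3_c25) (LK LD1_c2 LD2_c56 LD3_c4) Lrfl Lrfl
theorem f749475 : Led Lsl_gf (LP (LK LD1_c17 LD2_c11 LD3_c22)) = (LP (LK LD1_c20 LD2_c48 LD3_c1)) :=
  Lgr Lrot144 (Lpe (f105069 IH) (Lpr_gt (f74624 IH) (Lpr_dt (f74623 IH) (Lpe (K24.f74627 IH) (Lpe (K51.f74621 IH) (Lpe (K52.f74620 IH) (Lpe (K51.f74605 IH) (Lpe (K52.f644911 IH) (Lpr_cf (K70.f749467 IH) (Lpn (LP (LK LD1_c20 LD2_c48 LD3_c1))))))))))))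
theorem f749465 : Led Lsl_ct (LP (LK LD1_c11 LD2_c46 LD3_c61)) = (LP (LK LD1_c20 LD2_c48 LD3_c1)) :=
  Lgr Lrot7 (Lpe (K41.f641652 IH) (Lpe (K41.f641650 IH) (Lpe (K41.f500850 IH) (Lpe (K41.f383346 IH) (Lpe (K52.f641482 IH) (Lpr_gt (K9.f140185 IH) (Lpr_dt (K41.f564044 IH) (Lpr_gt (K56.f749462 IH) (Lpr_dt (K70.f749464 IH) (Lpn (LP (LK LD1_c20 LD2_c48 LD3_c1))))))))))))
theorem f74650 : Led Lsl_ct (LP (LK LD1_c2 LD2_c48 LD3_c17)) = (LP (LK LD1_c5 LD2_c44 LD3_c50)) :=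
  Lre_c IH (LK LD1_c2 LD2_c48 LD3_c17) (LK LD1_c5 LD2_c44 LD3_c50) Lrfl Lrfl
theorem f74647 : Led Lsl_gt (LP (LK LD1_c5 LD2_c44 LD3_c50)) = (LP (LK LD1_c11 LD2_c18 LD3_c16)) :=
  Lre_g IH (LK LD1_c5 LD2_c44 LD3_c50) (LK LD1_c11 LD2_c18 LD3_c16) Lrfl Lrfl
theorem f645028 : Led Lsl_ct (LP (LK LD1_c11 LD2_c18 LD3_c16)) = (LP (LK LD1_c20 LD2_c14 LD3_c40)) :=
  Lre_c IH (LK LD1_c11 LD2_c18 LD3_c16) (LK LD1_c20 LD2_c14 LD3_c40) Lrfl Lrfl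
theorem f749480 : Led Lsl_df (LP (LK LD1_c20 LD2_c25 LD3_c61)) = (LP (LK LD1_c20 LD2_c14 LD3_c40)) :=
  Lgr Lrot162 (Lpe (f727536 IH) (Lpr_gf (f749475 IH) (Lpe (f749465 IH) (Lpe (K55.f740253 IH) (Lpr_dt (K55.f502741 IH) (Lpr_gt (K51.f384010 IH) (Lpr_ct (f74650 IH) (Lpr_gt (f74647 IH) (Lpr_ct (f645028 IH) (Lpn (LP (LK LD1_c20 LD2_c14 LD3_c40))))))))))))
theorem f919184 : Led Lsl_at (LP (LK LD1_c11 LD2_c19 LD3_c44)) = (LP (LK LD1_c20 LD2_c14 LD3_c40)) :=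
  Lgr Lrot51 (Lpe (K52.f140492 IH) (Lpr_af (f919182 IH) (Lpr_df (f749480 IH) (Lpn (LP (LK LD1_c20 LD2_c14 LD3_c40))))))
theorem f640423 : Led Lsl_ct (LP (LK LD1_c20 LD2_c14 LD3_c40)) = (LP (LK LD1_c11 LD2_c18 LD3_c16)) :=
  Lre_c IH (LK LD1_c20 LD2_c14 LD3_c40) (LK LD1_c11 LD2_c18 LD3_c16) Lrfl Lrfl
theorem f919192 : K54.v15663 = (LP (LK LD1_c11 LD2_c18 LD3_c16)) :=
  (Llr Lrot68 (Lpe (K54.f738885 IH) (Lpr_ct (K52.f140490 IH) (Lpr_at (f919184 IH) (Lpr_ct (f640423 IH) (Lpn (LP (LK LD1_c11 LD2_c18 LD3_c16)))))))).symm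
theorem f641628 : Led Lsl_dt (LP (LK LD1_c11 LD2_c19 LD3_c41)) = (LP (LK LD1_c5 LD2_c44 LD3_c47)) :=
  Lre_d IH (LK LD1_c11 LD2_c19 LD3_c41) (LK LD1_c5 LD2_c44 LD3_c47) Lrfl Lrfl
theorem f74648 : Led Lsl_dt (LP (LK LD1_c11 LD2_c18 LD3_c16)) = (LP (LK LD1_c20 LD2_c14 LD3_c41)) :=
  Lre_d IH (LK LD1_c11 LD2_c18 LD3_c16) (LK LD1_c20 LD2_c14 LD3_c41) Lrfl Lrfl
theorem f919199 : Led Lsl_ff (LP (LK LD1_c11 LD2_c19 LD3_c41)) = (LP (LK LD1_c20 LD2_c14 LD3_c41)) :=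
  Lgr Lrot19 (Lpr_dt (f641628 IH) (Lpr_ft (K54.f738884 IH) (Lpqs (f919192 IH) (Lpr_dt (f74648 IH) (Lpn (LP (LK LD1_c20 LD2_c14 LD3_c41)))))))
theorem f564033 : Led Lsl_dt (LP (LK LD1_c20 LD2_c49 LD3_c2)) = (LP (LK LD1_c11 LD2_c46 LD3_c58)) :=
  Lre_d IH (LK LD1_c20 LD2_c49 LD3_c2) (LK LD1_c11 LD2_c46 LD3_c58) Lrfl Lrfl
theorem f74646 : Led Lsl_ct (LP (LK LD1_c5 LD2_c44 LD3_c50)) = (LP (LK LD1_c2 LD2_c48 LD3_c17)) :=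
  Lre_c IH (LK LD1_c5 LD2_c44 LD3_c50) (LK LD1_c2 LD2_c48 LD3_c17) Lrfl Lrfl
theorem f645014 : Led Lsl_gf (LP (LK LD1_c20 LD2_c49 LD3_c2)) = (LP (LK LD1_c20 LD2_c14 LD3_c41)) :=
  Lgr Lrot143 (Lpr_dt (f564033 IH) (Lpe (K41.f564024 IH) (Lpe (K41.f564013 IH) (Lpr_gf (K53.f644913 IH) (Lpr_df (K51.f74616 IH) (Lpe (K51.f74604 IH) (Lpe (f74646 IH) (Lpr_gt (f74647 IH) (Lpr_dt (f74648 IH) (Lpn (LP (LK LD1_c20 LD2_c14 LD3_c41))))))))))))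
theorem f740375 : Led Lsl_gf (LP (LK LD1_c20 LD2_c14 LD3_c37)) = (LP (LK LD1_c20 LD2_c49 LD3_c2)) :=
  Lgr Lrot47 (Lpr_gt (K68.f740257 IH) (Lpe (K41.f641996 IH) (Lpr_ff (K41.f641988 IH) (Lpn (LP (LK LD1_c20 LD2_c49 LD3_c2))))))
theorem f919204 : Led Lsl_at (LP (LK LD1_c11 LD2_c19 LD3_c41)) = (LP (LK LD1_c20 LD2_c14 LD3_c37)) :=
  Lgr Lrot26 (Lpr_ff (f919199 IH) (Lpe (f645014 IH) (Lpe (f740375 IH) (Lpn (LP (LK LD1_c20 LD2_c14 LD3_c37))))))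
theorem f454853 : Led Lsl_dt (LP (LK LD1_c20 LD2_c14 LD3_c37)) = (LP (LK LD1_c11 LD2_c18 LD3_c15)) :=
  Lre_d IH (LK LD1_c20 LD2_c14 LD3_c37) (LK LD1_c11 LD2_c18 LD3_c15) Lrfl Lrfl
theorem f919208 : K54.v15662 = (LP (LK LD1_c11 LD2_c18 LD3_c15)) :=
  (Llr Lrot117 (Lpe (K54.f738875 IH) (Lpr_dt (K54.f642076 IH) (Lpr_at (f919204 IH) (Lpr_dt (f454853 IH) (Lpn (LP (LK LD1_c11 LD2_c18 LD3_c15)))))))).symm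
theorem f738882 : Led Lsl_ff (LP (LK LD1_c5 LD2_c44 LD3_c48)) = K54.v15662 :=
  Lgr Lrot3 (Lpr_ft (K54.f738880 IH) (Lpn K54.v15662))
theorem f141046 : Led Lsl_bt (LP (LK LD1_c2 LD2_c48 LD3_c17)) = (LP (LK LD1_c1 LD2_c20 LD3_c31)) :=
  Lre_b IH (LK LD1_c2 LD2_c48 LD3_c17) (LK LD1_c1 LD2_c20 LD3_c31) Lrfl Lrfl
theorem f415620 : Led Lsl_gt (LP (LK LD1_c11 LD2_c18 LD3_c15)) = (LP (LK LD1_c5 LD2_c44 LD3_c50)) :=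
  Lre_g IH (LK LD1_c11 LD2_c18 LD3_c15) (LK LD1_c5 LD2_c44 LD3_c50) Lrfl Lrfl
theorem f40933 : Led Lsl_bt (LP (LK LD1_c1 LD2_c56 LD3_c20)) = (LP (LK LD1_c3 LD2_c59 LD3_c9)) :=
  Lre_b IH (LK LD1_c1 LD2_c56 LD3_c20) (LK LD1_c3 LD2_c59 LD3_c9) Lrfl Lrfl
theorem f416031 : Led Lsl_gt (LP (LK LD1_c3 LD2_c59 LD3_c9)) = (LP (LK LD1_c7 LD2_c59 LD3_c42)) :=
  Lre_g IH (LK LD1_c3 LD2_c59 LD3_c9) (LK LD1_c7 LD2_c59 LD3_c42) Lrfl Lrfl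
theorem f444688 : Led Lsl_bt (LP (LK LD1_c15 LD2_c4 LD3_c25)) = (LP (LK LD1_c7 LD2_c59 LD3_c42)) :=
  Lre_b IH (LK LD1_c15 LD2_c4 LD3_c25) (LK LD1_c7 LD2_c59 LD3_c42) Lrfl Lrfl
theorem f454842 : Led Lsl_cf (LP (LK LD1_c11 LD2_c18 LD3_c15)) = (LP (LK LD1_c15 LD2_c4 LD3_c25)) :=
  Lgr Lrot160 (Lpr_gt (f415620 IH) (Lpe (f74650 IH) (Lpr_bt (f141046 IH) (Lpr_gt (K24.f22931 IH) (Lpr_ct (K24.f140941 IH) (Lpr_gt (K24.f454833 IH) (Lpe (K1.f40937 IH) (Lpr_bt (f40933 IH) (Lpr_gt (f416031 IH) (Lpe (f444688 IH) (Lpn (LP (LK LD1_c15 LD2_c4 LD3_c25)))))))))))))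
theorem f919225 : Led Lsl_ft (LP (LK LD1_c11 LD2_c19 LD3_c44)) = (LP (LK LD1_c15 LD2_c4 LD3_c25)) :=
  Lgr Lrot4 (Lpe (K52.f140490 IH) (Lpr_ff (f738882 IH) (Lpqs (f919208 IH) (Lpr_cf (f454842 IH) (Lpn (LP (LK LD1_c15 LD2_c4 LD3_c25)))))))
theorem f140488 : Led Lsl_bf (LP (LK LD1_c11 LD2_c19 LD3_c44)) = (LP (LK LD1_c15 LD2_c4 LD3_c11)) :=
  Lgr Lrot24 (Lpr_bt (K45.f140484 IH) (Lpn (LP (LK LD1_c15 LD2_c4 LD3_c11))))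
def v35626 : LQ := Led Lsl_ft (LP (LK LD1_c7 LD2_c59 LD3_c42))
theorem f876143 : Led Lsl_ft (LP (LK LD1_c7 LD2_c59 LD3_c42)) = v35626 :=
  Lrfl
theorem f919231 : (LP (LK LD1_c15 LD2_c4 LD3_c11)) = v35626 :=
  (Llr Lrot61 (Lpe (f140488 IH) (Lpr_ft (f919225 IH) (Lpr_bt (f444688 IH) (Lpr_ft (f876143 IH) (Lpn v35626)))))).symm
theorem f919238 : Led Lsl_ff (LP (LK LD1_c12 LD2_c30 LD3_c8)) = (LP (LK LD1_c11 LD2_c30 LD3_c46)) :=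
  Lgr Lrot19 (Lpe (K65.f741657 IH) (Lpr_ft (f876143 IH) (Lpq (f919231 IH) (Lpe (K52.f149248 IH) (Lpn (LP (LK LD1_c11 LD2_c30 LD3_c46)))))))
theorem f56715 : Led Lsl_at (LP (LK LD1_c11 LD2_c31 LD3_c54)) = (LP (LK LD1_c20 LD2_c28 LD3_c28)) :=
  Lre_a IH (LK LD1_c11 LD2_c31 LD3_c54) (LK LD1_c20 LD2_c28 LD3_c28) Lrfl Lrfl
theorem f442846 : Led Lsl_bt (LP (LK LD1_c11 LD2_c31 LD3_c54)) = (LP (LK LD1_c5 LD2_c52 LD3_c47)) :=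
  Lre_b IH (LK LD1_c11 LD2_c31 LD3_c54) (LK LD1_c5 LD2_c52 LD3_c47) Lrfl Lrfl
theorem f505151 : Led Lsl_dt (LP (LK LD1_c9 LD2_c5 LD3_c40)) = (LP (LK LD1_c11 LD2_c31 LD3_c54)) :=
  Lgr Lrot79 (Lpe (K57.f505150 IH) (Lpr_df (K32.f505146 IH) (Lpe (f442846 IH) (Lpn (LP (LK LD1_c11 LD2_c31 LD3_c54))))))
theorem f711449 : Led Lsl_af (LP (LK LD1_c9 LD2_c5 LD3_c40)) = (LP (LK LD1_c15 LD2_c5 LD3_c9)) :=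
  Lgr Lrot117 (Lpr_dt (f505151 IH) (Lpr_at (f56715 IH) (Lpr_dt (K65.f711447 IH) (Lpn (LP (LK LD1_c15 LD2_c5 LD3_c9))))))
theorem f56727 : Led Lsl_ct (LP (LK LD1_c20 LD2_c25 LD3_c22)) = (LP (LK LD1_c11 LD2_c27 LD3_c23)) :=
  Lre_c IH (LK LD1_c20 LD2_c25 LD3_c22) (LK LD1_c11 LD2_c27 LD3_c23) Lrfl Lrfl
theorem f711443 : Led Lsl_ft (LP (LK LD1_c11 LD2_c27 LD3_c23)) = (LP (LK LD1_c15 LD2_c5 LD3_c9)) :=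
  Lgr Lrot4 (Lpe (f56727 IH) (Lpr_ff (K57.f645262 IH) (Lpr_cf (K65.f711286 IH) (Lpn (LP (LK LD1_c15 LD2_c5 LD3_c9))))))
theorem f711457 : Led Lsl_gf (LP (LK LD1_c9 LD2_c5 LD3_c40)) = (LP (LK LD1_c6 LD2_c51 LD3_c4)) :=
  Lgr Lrot76 (Lpr_af (f711449 IH) (Lpe (f711443 IH) (Lpe (K69.f641803 IH) (Lpn (LP (LK LD1_c6 LD2_c51 LD3_c4))))))
theorem f711459 : Led Lsl_gt (LP (LK LD1_c12 LD2_c30 LD3_c10)) = (LP (LK LD1_c11 LD2_c30 LD3_c46)) :=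
  Lgr Lrot137 (Lpe (K41.f505657 IH) (Lpe (K66.f505165 IH) (Lpr_gf (f711457 IH) (Lpe (K8.f40673 IH) (Lpr_et (K69.f40672 IH) (Lpe (K8.f40335 IH) (Lpe (K52.f40330 IH) (Lpr_dt (K52.f40671 IH) (Lpe (K45.f40282 IH) (Lpe (K52.f149244 IH) (Lpn (LP (LK LD1_c11 LD2_c30 LD3_c46)))))))))))))
theorem f711461 : Led Lsl_gf (LP (LK LD1_c12 LD2_c30 LD3_c4)) = (LP (LK LD1_c11 LD2_c30 LD3_c46)) :=
  Lgr Lrot76 (Lpe (K41.f140794 IH) (Lpe (K41.f140801 IH) (Lpr_gt (f711459 IH) (Lpn (LP (LK LD1_c11 LD2_c30 LD3_c46))))))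
theorem f919243 : Led Lsl_at (LP (LK LD1_c12 LD2_c30 LD3_c8)) = (LP (LK LD1_c21 LD2_c36 LD3_c40)) :=
  Lgr Lrot26 (Lpr_ff (f919238 IH) (Lpe (f711461 IH) (Lpr_gt (K65.f642469 IH) (Lpn (LP (LK LD1_c21 LD2_c36 LD3_c40))))))
theorem f919247 : Led Lsl_af (LP (LK LD1_c20 LD2_c26 LD3_c4)) = K66.v34486 :=
  Lgr Lrot50 (Lpr_et (K65.f767326 IH) (Lpr_at (f919243 IH) (Lpr_et (K66.f871173 IH) (Lpn K66.v34486))))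
theorem f919133 : Led Lsl_ff K66.v34486 = (LP (LK LD1_c11 LD2_c30 LD3_c49)) :=
  Lgr Lrot19 (Lpe (K66.f871175 IH) (Lpr_ft (f919131 IH) (Lpe (f828349 IH) (Lpn (LP (LK LD1_c11 LD2_c30 LD3_c49))))))
theorem f919488 : Led Lsl_gf (LP (LK LD1_c11 LD2_c28 LD3_c47)) = (LP (LK LD1_c11 LD2_c30 LD3_c49)) :=
  Lgr Lrot47 (Lpr_gt (K65.f615349 IH) (Lpr_af (f919247 IH) (Lpr_ff (f919133 IH) (Lpn (LP (LK LD1_c11 LD2_c30 LD3_c49))))))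
theorem f919489 : Led Lsl_gt (LP (LK LD1_c11 LD2_c30 LD3_c49)) = (LP (LK LD1_c11 LD2_c28 LD3_c47)) :=
  Leop (Lpr_gf (f919488 IH) (Lpn (LP (LK LD1_c11 LD2_c30 LD3_c49))))
theorem seed_2415 : LEOK LG_g (LK LD1_c11 LD2_c30 LD3_c49) :=
  Leoe_g (LK LD1_c11 LD2_c30 LD3_c49) (f919489 IH)
theorem f918830 : Led Lsl_dt (LP (LK LD1_c17 LD2_c56 LD3_c7)) = (LP (LK LD1_c27 LD2_c41 LD3_c7)) :=
  Lre_d IH (LK LD1_c17 LD2_c56 LD3_c7) (LK LD1_c27 LD2_c41 LD3_c7) Lrfl Lrfl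
theorem f918831 : Led Lsl_bt (LP (LK LD1_c27 LD2_c41 LD3_c7)) = (LP (LK LD1_c20 LD2_c27 LD3_c4)) :=
  Lgr Lrot95 (Lpe (f918830 IH) (Lpr_bf (f918826 IH) (Lpr_df (K54.f713781 IH) (Lpn (LP (LK LD1_c20 LD2_c27 LD3_c4))))))
theorem f757830 : Led Lsl_at (LP (LK LD1_c17 LD2_c56 LD3_c9)) = (LP (LK LD1_c27 LD2_c41 LD3_c7)) :=
  Lre_a IH (LK LD1_c17 LD2_c56 LD3_c9) (LK LD1_c27 LD2_c41 LD3_c7) Lrfl Lrfl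
theorem f918954 : Led Lsl_at (LP (LK LD1_c11 LD2_c24 LD3_c26)) = (LP (LK LD1_c9 LD2_c46 LD3_c15)) :=
  Lgr Lrot67 (Lpe (K45.f80088 IH) (Lpr_af (f918950 IH) (Lpe (f918831 IH) (Lpe (f757830 IH) (Lpe (f75468 IH) (Lpn (LP (LK LD1_c9 LD2_c46 LD3_c15))))))))
theorem f918987 : Led Lsl_ft (LP (LK LD1_c9 LD2_c46 LD3_c15)) = (LP (LK LD1_c17 LD2_c55 LD3_c30)) :=
  Lgr Lrot48 (Lpr_ff (f918981 IH) (Lpn (LP (LK LD1_c17 LD2_c55 LD3_c30))))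
theorem f919007 : Led Lsl_af (LP (LK LD1_c9 LD2_c46 LD3_c12)) = (LP (LK LD1_c17 LD2_c55 LD3_c30)) :=
  Lgr Lrot45 (Lpr_ft (f919005 IH) (Lpr_at (f918954 IH) (Lpr_ft (f918987 IH) (Lpn (LP (LK LD1_c17 LD2_c55 LD3_c30))))))
theorem f643104 : Led Lsl_ct (LP (LK LD1_c27 LD2_c40 LD3_c46)) = (LP (LK LD1_c17 LD2_c55 LD3_c30)) :=
  Lre_c IH (LK LD1_c27 LD2_c40 LD3_c46) (LK LD1_c17 LD2_c55 LD3_c30) Lrfl Lrfl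
theorem f919616 : Led Lsl_at (LP (LK LD1_c17 LD2_c56 LD3_c5)) = (LP (LK LD1_c27 LD2_c40 LD3_c46)) :=
  Lgr Lrot107 (Lpe (f644701 IH) (Lpr_af (f919007 IH) (Lpe (f643104 IH) (Lpn (LP (LK LD1_c27 LD2_c40 LD3_c46))))))
theorem f642328 : Led Lsl_bt (LP (LK LD1_c11 LD2_c39 LD3_c3)) = (LP (LK LD1_c5 LD2_c56 LD3_c56)) :=
  Lre_b IH (LK LD1_c11 LD2_c39 LD3_c3) (LK LD1_c5 LD2_c56 LD3_c56) Lrfl Lrfl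
theorem f642323 : Led Lsl_et (LP (LK LD1_c9 LD2_c48 LD3_c31)) = (LP (LK LD1_c17 LD2_c58 LD3_c46)) :=
  Lre_e IH (LK LD1_c9 LD2_c48 LD3_c31) (LK LD1_c17 LD2_c58 LD3_c46) Lrfl Lrfl
theorem f642325 : Led Lsl_ct (LP (LK LD1_c17 LD2_c58 LD3_c46)) = (LP (LK LD1_c11 LD2_c39 LD3_c3)) :=
  Lgr Lrot15 (Lpe (f642323 IH) (Lpr_cf (K52.f642314 IH) (Lpe (K69.f642324 IH) (Lpn (LP (LK LD1_c11 LD2_c39 LD3_c3))))))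
theorem f642333 : Led Lsl_cf (LP (LK LD1_c17 LD2_c58 LD3_c46)) = (LP (LK LD1_c11 LD2_c39 LD3_c3)) :=
  Lgr Lrot11 (Lpr_ct (f642325 IH) (Lpn (LP (LK LD1_c11 LD2_c39 LD3_c3))))
theorem f714599 : Led Lsl_gt (LP (LK LD1_c20 LD2_c22 LD3_c13)) = (LP (LK LD1_c17 LD2_c58 LD3_c46)) :=
  Lgr Lrot65 (Lpe (f80089 IH) (Lpr_bt (K45.f80093 IH) (Lpr_gf (K57.f644403 IH) (Lpr_bf (K57.f714595 IH) (Lpr_ct (K57.f714589 IH) (Lpe (K57.f714587 IH) (Lpe (K55.f454863 IH) (Lpr_gf (K55.f714583 IH) (Lpe (f642328 IH) (Lpe (f642333 IH) (Lpn (LP (LK LD1_c17 LD2_c58 LD3_c46)))))))))))))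
theorem f919620 : Led Lsl_gt (LP (LK LD1_c17 LD2_c58 LD3_c46)) = (LP (LK LD1_c27 LD2_c40 LD3_c46)) :=
  Lgr Lrot46 (Lpe (f714599 IH) (Lpe (f919003 IH) (Lpr_at (f919616 IH) (Lpn (LP (LK LD1_c27 LD2_c40 LD3_c46))))))
theorem f642327 : Led Lsl_bt (LP (LK LD1_c27 LD2_c42 LD3_c28)) = (LP (LK LD1_c17 LD2_c58 LD3_c46)) :=
  Lre_b IH (LK LD1_c27 LD2_c42 LD3_c28) (LK LD1_c17 LD2_c58 LD3_c46) Lrfl Lrfl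
theorem f642335 : Led Lsl_bt (LP (LK LD1_c17 LD2_c58 LD3_c46)) = (LP (LK LD1_c27 LD2_c42 LD3_c28)) :=
  Lre_b IH (LK LD1_c17 LD2_c58 LD3_c46) (LK LD1_c27 LD2_c42 LD3_c28) Lrfl Lrfl
theorem f642336 : Led Lsl_bt (LP (LK LD1_c5 LD2_c56 LD3_c56)) = (LP (LK LD1_c11 LD2_c39 LD3_c3)) :=
  Lre_b IH (LK LD1_c5 LD2_c56 LD3_c56) (LK LD1_c11 LD2_c39 LD3_c3) Lrfl Lrfl
theorem f642338 : Led Lsl_bt (LP (LK LD1_c20 LD2_c38 LD3_c26)) = (LP (LK LD1_c11 LD2_c39 LD3_c6)) :=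
  Lre_b IH (LK LD1_c20 LD2_c38 LD3_c26) (LK LD1_c11 LD2_c39 LD3_c6) Lrfl Lrfl
theorem f642339 : Led Lsl_ct (LP (LK LD1_c27 LD2_c42 LD3_c28)) = (LP (LK LD1_c20 LD2_c38 LD3_c26)) :=
  Lgr Lrot83 (Lpe (f642335 IH) (Lpr_cf (f642333 IH) (Lpe (f642336 IH) (Lpe (K52.f642337 IH) (Lpe (f642338 IH) (Lpn (LP (LK LD1_c20 LD2_c38 LD3_c26))))))))
def v39205 : LQ := Led Lsl_ct (LP (LK LD1_c9 LD2_c20 LD3_c43))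
theorem f907518 : Led Lsl_ct (LP (LK LD1_c9 LD2_c20 LD3_c43)) = v39205 :=
  Lrfl
def v13421 : LQ := Led Lsl_ct (LP (LK LD1_c4 LD2_c43 LD3_c51))
theorem f702867 : Led Lsl_ct (LP (LK LD1_c4 LD2_c43 LD3_c51)) = v13421 :=
  Lrfl
theorem f702869 : Led Lsl_cf (LP (LK LD1_c4 LD2_c43 LD3_c51)) = v13421 :=
  Lgr Lrot11 (Lpr_ct (f702867 IH) (Lpn v13421))
theorem f907522 : Led Lsl_ff v13421 = v39205 :=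
  Lgr Lrot23 (Lpe (f702869 IH) (Lpr_ft (K58.f82626 IH) (Lpr_ct (f907518 IH) (Lpn v39205))))
theorem f445675 : Led Lsl_ct (LP (LK LD1_c11 LD2_c31 LD3_c57)) = (LP (LK LD1_c5 LD2_c52 LD3_c49)) :=
  Lre_c IH (LK LD1_c11 LD2_c31 LD3_c57) (LK LD1_c5 LD2_c52 LD3_c49) Lrfl Lrfl
theorem f702868 : Led Lsl_bf (LP (LK LD1_c11 LD2_c31 LD3_c57)) = v13421 :=
  Lgr Lrot90 (Lpr_ct (f445675 IH) (Lpr_bt (K41.f445674 IH) (Lpr_ct (K46.f445596 IH) (Lpr_bt (K32.f82615 IH) (Lpr_ct (f702867 IH) (Lpn v13421))))))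
theorem f505780 : Led Lsl_ft (LP (LK LD1_c11 LD2_c31 LD3_c57)) = (LP (LK LD1_c20 LD2_c28 LD3_c34)) :=
  Lre_f IH (LK LD1_c11 LD2_c31 LD3_c57) (LK LD1_c20 LD2_c28 LD3_c34) Lrfl Lrfl
theorem f907525 : Led Lsl_bt (LP (LK LD1_c20 LD2_c28 LD3_c34)) = v39205 :=
  Lgr Lrot35 (Lpe (f505780 IH) (Lpr_bf (f702868 IH) (Lpr_ff (f907522 IH) (Lpn v39205))))
theorem f649312 : Led Lsl_bf (LP (LK LD1_c3 LD2_c13 LD3_c15)) = K66.v5777 :=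
  Lgr Lrot24 (Lpr_bt (K66.f649311 IH) (Lpn K66.v5777))
def v25702 : LQ := Led Lsl_ct K66.v5777
theorem f830064 : Led Lsl_ct K66.v5777 = v25702 :=
  Lrfl
def v17147 : LQ := Led Lsl_bt (LP (LK LD1_c6 LD2_c12 LD3_c25))
theorem f756355 : Led Lsl_bt (LP (LK LD1_c6 LD2_c12 LD3_c25)) = v17147 :=
  Lrfl
theorem f756356 : Led Lsl_bf (LP (LK LD1_c6 LD2_c12 LD3_c25)) = v17147 :=
  Lgr Lrot24 (Lpr_bt (f756355 IH) (Lpn v17147))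
theorem f756357 : Led Lsl_ef K46.v5826 = v17147 :=
  Lgr Lrot29 (Lpe (K46.f649605 IH) (Lpr_et (K49.f649685 IH) (Lpqs (K49.f663542 IH) (Lpr_bt (f756355 IH) (Lpn v17147)))))
theorem f756359 : Led Lsl_et K46.v5826 = v17147 :=
  Lgr Lrot87 (Lpr_ef (f756357 IH) (Lpn v17147))
theorem f649607 : Led Lsl_ct K46.v1973 = K46.v5826 :=
  Lgr Lrot59 (Lpr_cf (K46.f649606 IH) (Lpn K46.v5826))
def v8306 : LQ := Led Lsl_et K46.v1973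
theorem f670737 : Led Lsl_et K46.v1973 = v8306 :=
  Lrfl
theorem f670738 : Led Lsl_ef K46.v1973 = v8306 :=
  Lgr Lrot88 (Lpr_et (f670737 IH) (Lpn v8306))
theorem f756360 : Led Lsl_cf v8306 = v17147 :=
  Lgr Lrot39 (Lpe (f670738 IH) (Lpr_ct (f649607 IH) (Lpr_et (f756359 IH) (Lpn v17147))))
theorem f830068 : Led Lsl_gt v8306 = v25702 :=
  Lgr Lrot65 (Lpr_cf (f756360 IH) (Lpe (f756356 IH) (Lpe (K49.f413504 IH) (Lpe (K48.f413503 IH) (Lpr_ct (K24.f413493 IH) (Lpe (K32.f505109 IH) (Lpr_cf (K32.f445612 IH) (Lpr_gf (K32.f505105 IH) (Lpr_bf (f649312 IH) (Lpr_ct (f830064 IH) (Lpn v25702)))))))))))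
theorem f830066 : Led Lsl_cf K66.v5777 = v25702 :=
  Lgr Lrot11 (Lpr_ct (f830064 IH) (Lpn v25702))
def v17641 : LQ := Led Lsl_ct (LP (LK LD1_c6 LD2_c20 LD3_c61))
theorem f761241 : Led Lsl_ct (LP (LK LD1_c6 LD2_c20 LD3_c61)) = v17641 :=
  Lrfl
theorem f761243 : Led Lsl_cf (LP (LK LD1_c6 LD2_c20 LD3_c61)) = v17641 :=
  Lgr Lrot11 (Lpr_ct (f761241 IH) (Lpn v17641))
theorem f648114 : Led Lsl_bf (LP (LK LD1_c3 LD2_c9 LD3_c19)) = K51.v5532 :=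
  Lgr Lrot24 (Lpr_bt (K51.f648113 IH) (Lpn K51.v5532))
theorem f95794 : Led Lsl_bf (LP (LK LD1_c3 LD2_c13 LD3_c39)) = (LP (LK LD1_c6 LD2_c26 LD3_c16)) :=
  Lgr Lrot24 (Lpr_bt (K66.f95792 IH) (Lpn (LP (LK LD1_c6 LD2_c26 LD3_c16))))
def v1867 : LQ := Led Lsl_gf (LP (LK LD1_c1 LD2_c30 LD3_c18))
def v8174 : LQ := Led Lsl_et v1867
theorem f670254 : Led Lsl_et v1867 = v8174 :=
  Lrfl
theorem f670256 : Led Lsl_ef v1867 = v8174 :=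
  Lgr Lrot88 (Lpr_et (f670254 IH) (Lpn v8174))
theorem f504634 : Led Lsl_gf (LP (LK LD1_c1 LD2_c30 LD3_c18)) = v1867 :=
  Lrfl
theorem f67091 : Led Lsl_ct (LP (LK LD1_c0 LD2_c41 LD3_c42)) = (LP (LK LD1_c1 LD2_c30 LD3_c18)) :=
  Lre_c IH (LK LD1_c0 LD2_c41 LD3_c42) (LK LD1_c1 LD2_c30 LD3_c18) Lrfl Lrfl
theorem f86361 : Led Lsl_bt (LP (LK LD1_c1 LD2_c8 LD3_c36)) = (LP (LK LD1_c2 LD2_c22 LD3_c59)) :=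
  Lre_b IH (LK LD1_c1 LD2_c8 LD3_c36) (LK LD1_c2 LD2_c22 LD3_c59) Lrfl Lrfl
theorem f95779 : Led Lsl_bf (LP (LK LD1_c1 LD2_c33 LD3_c24)) = (LP (LK LD1_c3 LD2_c10 LD3_c61)) :=
  Lgr Lrot93 (Lpr_dt (K7.f95778 IH) (Lpr_bt (K3.f95758 IH) (Lpr_dt (K65.f86335 IH) (Lpn (LP (LK LD1_c3 LD2_c10 LD3_c61))))))
theorem f504635 : Led Lsl_ct (LP (LK LD1_c3 LD2_c10 LD3_c61)) = v1867 :=
  Lgr Lrot64 (Lpe (f95779 IH) (Lpe (K5.f121397 IH) (Lpe (f86361 IH) (Lpr_ct (K3.f86028 IH) (Lpe (K3.f86008 IH) (Lpe (K2.f25062 IH) (Lpe (K1.f67079 IH) (Lpe (K60.f67089 IH) (Lpr_ct (f67091 IH) (Lpr_gf (f504634 IH) (Lpn v1867)))))))))))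
theorem f504637 : Led Lsl_cf (LP (LK LD1_c3 LD2_c10 LD3_c61)) = v1867 :=
  Lgr Lrot11 (Lpr_ct (f504635 IH) (Lpn v1867))
theorem f670257 : Led Lsl_ct (LP (LK LD1_c6 LD2_c26 LD3_c16)) = v8174 :=
  Lgr Lrot15 (Lpe (K66.f86342 IH) (Lpr_cf (f504637 IH) (Lpr_ef (f670256 IH) (Lpn v8174))))
theorem f761245 : Led Lsl_gt v8174 = v17641 :=
  Lgr Lrot65 (Lpe (f670257 IH) (Lpe (f95794 IH) (Lpr_gf (K58.f649535 IH) (Lpq (K58.f663556 IH) (Lpe (K48.f415311 IH) (Lpr_ct (K32.f415315 IH) (Lpe (K32.f444666 IH) (Lpe (K32.f77365 IH) (Lpr_gf (K24.f83921 IH) (Lpr_bf (f648114 IH) (Lpqs (K51.f707712 IH) (Lpr_ct (f761241 IH) (Lpn v17641)))))))))))))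
def v18083 : LQ := Led Lsl_gf (LP (LK LD1_c6 LD2_c26 LD3_c16))
theorem f764971 : Led Lsl_gf (LP (LK LD1_c6 LD2_c26 LD3_c16)) = v18083 :=
  Lrfl
theorem f764972 : Led Lsl_dt (LP (LK LD1_c12 LD2_c23 LD3_c54)) = v18083 :=
  Lgr Lrot136 (Lpr_et (K70.f124832 IH) (Lpe (K48.f124831 IH) (Lpe (K51.f124830 IH) (Lpr_dt (K5.f82402 IH) (Lpe (K5.f124821 IH) (Lpr_df (K1.f61937 IH) (Lpr_gf (K5.f124588 IH) (Lpe (K5.f23647 IH) (Lpr_dt (K66.f95786 IH) (Lpr_gf (f764971 IH) (Lpn v18083)))))))))))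
theorem f830069 : Led Lsl_gf v17147 = (LP (LK LD1_c12 LD2_c23 LD3_c54)) :=
  Lgr Lrot147 (Lpe (f756360 IH) (Lpr_gt (f830068 IH) (Lpe (f830066 IH) (Lpe (K66.f649315 IH) (Lpqs (K51.f707712 IH) (Lpr_cf (f761243 IH) (Lpe (f761245 IH) (Lpe (f670257 IH) (Lpr_gf (f764971 IH) (Lpe (f764972 IH) (Lpn (LP (LK LD1_c12 LD2_c23 LD3_c54)))))))))))))
def v17083 : LQ := Led Lsl_at (LP (LK LD1_c6 LD2_c11 LD3_c18))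
theorem f754996 : Led Lsl_at (LP (LK LD1_c6 LD2_c11 LD3_c18)) = v17083 :=
  Lrfl
theorem f441153 : Led Lsl_bt (LP (LK LD1_c12 LD2_c1 LD3_c21)) = (LP (LK LD1_c6 LD2_c10 LD3_c19)) :=
  Lre_b IH (LK LD1_c12 LD2_c1 LD3_c21) (LK LD1_c6 LD2_c10 LD3_c19) Lrfl Lrfl
theorem f754998 : Led Lsl_bf (LP (LK LD1_c12 LD2_c23 LD3_c54)) = v17083 :=
  Lgr Lrot81 (Lpe (K70.f663303 IH) (Lpr_bt (f441153 IH) (Lpq (K49.f663222 IH) (Lpe (K49.f646692 IH) (Lpr_bt (K65.f646695 IH) (Lpr_at (f754996 IH) (Lpn v17083)))))))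
theorem f414672 : Led Lsl_ct (LP (LK LD1_c12 LD2_c2 LD3_c52)) = (LP (LK LD1_c6 LD2_c11 LD3_c18)) :=
  Lre_c IH (LK LD1_c12 LD2_c2 LD3_c52) (LK LD1_c6 LD2_c11 LD3_c18) Lrfl Lrfl
theorem f663168 : Led Lsl_et (LP (LK LD1_c6 LD2_c29 LD3_c24)) = (LP (LK LD1_c12 LD2_c29 LD3_c0)) :=
  Lre_e IH (LK LD1_c6 LD2_c29 LD3_c24) (LK LD1_c12 LD2_c29 LD3_c0) Lrfl Lrfl
theorem f663176 : Led Lsl_at (LP (LK LD1_c12 LD2_c29 LD3_c0)) = (LP (LK LD1_c12 LD2_c2 LD3_c52)) :=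
  Lgr Lrot80 (Lpe (f663168 IH) (Lpr_af (K48.f663171 IH) (Lpe (K65.f414646 IH) (Lpn (LP (LK LD1_c12 LD2_c2 LD3_c52))))))
theorem f754999 : Led Lsl_cf (LP (LK LD1_c12 LD2_c29 LD3_c0)) = v17083 :=
  Lgr Lrot1 (Lpr_at (f663176 IH) (Lpr_ct (f414672 IH) (Lpr_at (f754996 IH) (Lpn v17083))))
theorem f907523 : Led Lsl_gf (LP (LK LD1_c12 LD2_c29 LD3_c0)) = v39205 :=
  Lgr Lrot126 (Lpr_cf (f754999 IH) (Lpe (f754998 IH) (Lpe (f830069 IH) (Lpe (f756360 IH) (Lpr_gt (f830068 IH) (Lpe (f830064 IH) (Lpe (f649312 IH) (Lpe (K32.f505105 IH) (Lpe (K32.f445616 IH) (Lpr_ct (f907518 IH) (Lpn v39205)))))))))))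
theorem f663498 : Led Lsl_bt (LP (LK LD1_c21 LD2_c35 LD3_c47)) = (LP (LK LD1_c12 LD2_c29 LD3_c0)) :=
  Lre_b IH (LK LD1_c21 LD2_c35 LD3_c47) (LK LD1_c12 LD2_c29 LD3_c0) Lrfl Lrfl
theorem f708670 : Led Lsl_cf (LP (LK LD1_c6 LD2_c25 LD3_c39)) = (LP (LK LD1_c6 LD2_c19 LD3_c30)) :=
  Lgr Lrot1 (Lpr_at (K48.f663155 IH) (Lpr_ct (K51.f708479 IH) (Lpr_at (K51.f708665 IH) (Lpn (LP (LK LD1_c6 LD2_c19 LD3_c30))))))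
theorem f110506 : Led Lsl_bt (LP (LK LD1_c12 LD2_c14 LD3_c13)) = (LP (LK LD1_c6 LD2_c19 LD3_c30)) :=
  Lre_b IH (LK LD1_c12 LD2_c14 LD3_c13) (LK LD1_c6 LD2_c19 LD3_c30) Lrfl Lrfl
theorem f708702 : Led Lsl_ct (LP (LK LD1_c12 LD2_c28 LD3_c60)) = (LP (LK LD1_c12 LD2_c14 LD3_c13)) :=
  Lgr Lrot83 (Lpe (K58.f663166 IH) (Lpr_cf (K48.f663159 IH) (Lpe (K51.f663158 IH) (Lpr_cf (f708670 IH) (Lpe (f110506 IH) (Lpn (LP (LK LD1_c12 LD2_c14 LD3_c13))))))))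
theorem f708704 : Led Lsl_et (LP (LK LD1_c21 LD2_c35 LD3_c47)) = (LP (LK LD1_c12 LD2_c28 LD3_c60)) :=
  Lre_e IH (LK LD1_c21 LD2_c35 LD3_c47) (LK LD1_c12 LD2_c28 LD3_c60) Lrfl Lrfl
theorem f708705 : Led Lsl_et (LP (LK LD1_c12 LD2_c14 LD3_c13)) = (LP (LK LD1_c21 LD2_c20 LD3_c14)) :=
  Lre_e IH (LK LD1_c12 LD2_c14 LD3_c13) (LK LD1_c21 LD2_c20 LD3_c14) Lrfl Lrfl
theorem f708706 : Led Lsl_cf (LP (LK LD1_c21 LD2_c35 LD3_c47)) = (LP (LK LD1_c21 LD2_c20 LD3_c14)) :=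
  Lgr Lrot39 (Lpr_et (f708704 IH) (Lpr_ct (f708702 IH) (Lpr_et (f708705 IH) (Lpn (LP (LK LD1_c21 LD2_c20 LD3_c14))))))
theorem f708708 : Led Lsl_ct (LP (LK LD1_c21 LD2_c35 LD3_c47)) = (LP (LK LD1_c21 LD2_c20 LD3_c14)) :=
  Lgr Lrot59 (Lpr_cf (f708706 IH) (Lpn (LP (LK LD1_c21 LD2_c20 LD3_c14))))
theorem f919622 : Led Lsl_gf (LP (LK LD1_c20 LD2_c38 LD3_c26)) = (LP (LK LD1_c21 LD2_c20 LD3_c14)) :=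
  Lgr Lrot126 (Lpe (f642339 IH) (Lpr_bt (f642327 IH) (Lpr_gt (f919620 IH) (Lpr_ct (f643104 IH) (Lpr_gt (K52.f644395 IH) (Lpe (K52.f445610 IH) (Lpr_bt (f907525 IH) (Lpe (f907523 IH) (Lpe (f663498 IH) (Lpr_ct (f708708 IH) (Lpn (LP (LK LD1_c21 LD2_c20 LD3_c14)))))))))))))
theorem f919623 : Led Lsl_gt (LP (LK LD1_c21 LD2_c20 LD3_c14)) = (LP (LK LD1_c20 LD2_c38 LD3_c26)) :=
  Leop (Lpr_gf (f919622 IH) (Lpn (LP (LK LD1_c21 LD2_c20 LD3_c14))))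
theorem seed_2416 : LEOK LG_g (LK LD1_c21 LD2_c20 LD3_c14) :=
  Leoe_g (LK LD1_c21 LD2_c20 LD3_c14) (f919623 IH)
def v40776 : LQ := Led Lsl_gt (LP (LK LD1_c9 LD2_c46 LD3_c42))
theorem f919828 : Led Lsl_gt (LP (LK LD1_c9 LD2_c46 LD3_c42)) = v40776 :=
  Lrfl
theorem f140594 : Led Lsl_ct (LP (LK LD1_c4 LD2_c57 LD3_c55)) = (LP (LK LD1_c9 LD2_c46 LD3_c42)) :=
  Lre_c IH (LK LD1_c4 LD2_c57 LD3_c55) (LK LD1_c9 LD2_c46 LD3_c42) Lrfl Lrfl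
theorem f719392 : Led Lsl_ft (LP (LK LD1_c11 LD2_c7 LD3_c40)) = (LP (LK LD1_c17 LD2_c55 LD3_c61)) :=
  Lgr Lrot48 (Lpr_ff (K54.f719384 IH) (Lpn (LP (LK LD1_c17 LD2_c55 LD3_c61))))
theorem f719398 : Led Lsl_bf (LP (LK LD1_c9 LD2_c46 LD3_c40)) = (LP (LK LD1_c17 LD2_c55 LD3_c61)) :=
  Lgr Lrot61 (Lpe (K54.f710365 IH) (Lpr_bt (K52.f423132 IH) (Lpr_ft (f719392 IH) (Lpn (LP (LK LD1_c17 LD2_c55 LD3_c61))))))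
theorem f719380 : Led Lsl_cf (LP (LK LD1_c16 LD2_c55 LD3_c41)) = (LP (LK LD1_c17 LD2_c55 LD3_c61)) :=
  Lgr Lrot1 (Lpe (K60.f713592 IH) (Lpe (K60.f719370 IH) (Lpr_at (K54.f719376 IH) (Lpn (LP (LK LD1_c17 LD2_c55 LD3_c61))))))
theorem f416278 : Led Lsl_ct (LP (LK LD1_c4 LD2_c33 LD3_c21)) = (LP (LK LD1_c9 LD2_c4 LD3_c12)) :=
  Lre_c IH (LK LD1_c4 LD2_c33 LD3_c21) (LK LD1_c9 LD2_c4 LD3_c12) Lrfl Lrfl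
theorem f698553 : Led Lsl_bt (LP (LK LD1_c4 LD2_c33 LD3_c21)) = (LP (LK LD1_c9 LD2_c4 LD3_c11)) :=
  Lre_b IH (LK LD1_c4 LD2_c33 LD3_c21) (LK LD1_c9 LD2_c4 LD3_c11) Lrfl Lrfl
theorem f919831 : Led Lsl_ct (LP (LK LD1_c11 LD2_c17 LD3_c17)) = v40776 :=
  Lgr Lrot63 (Lpr_bt (K38.f382063 IH) (Lpr_gt (K52.f715069 IH) (Lpe (f698553 IH) (Lpr_ct (f416278 IH) (Lpr_gt (K55.f416279 IH) (Lpr_cf (f719380 IH) (Lpe (f719398 IH) (Lpr_gt (K54.f416280 IH) (Lpr_ct (f140594 IH) (Lpr_gt (f919828 IH) (Lpn v40776)))))))))))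
theorem f919834 : Led Lsl_ff (LP (LK LD1_c24 LD2_c53 LD3_c19)) = v40776 :=
  Lgr Lrot23 (Lpr_ct (K66.f720711 IH) (Lpr_ft (K54.f382067 IH) (Lpr_ct (f919831 IH) (Lpn v40776))))
theorem f919835 : Led Lsl_ft (LP (LK LD1_c24 LD2_c53 LD3_c19)) = v40776 :=
  Lgr Lrot48 (Lpr_ff (f919834 IH) (Lpn v40776))
def v15377 : LQ := Led Lsl_gf (LP (LK LD1_c5 LD2_c38 LD3_c4))
theorem f736011 : Led Lsl_gf (LP (LK LD1_c5 LD2_c38 LD3_c4)) = v15377 :=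
  Lrfl
theorem f380407 : Led Lsl_dt (LP (LK LD1_c5 LD2_c38 LD3_c4)) = (LP (LK LD1_c11 LD2_c7 LD3_c25)) :=
  Lre_d IH (LK LD1_c5 LD2_c38 LD3_c4) (LK LD1_c11 LD2_c7 LD3_c25) Lrfl Lrfl
theorem f418758 : Led Lsl_at (LP (LK LD1_c11 LD2_c7 LD3_c25)) = (LP (LK LD1_c5 LD2_c38 LD3_c16)) :=
  Lre_a IH (LK LD1_c11 LD2_c7 LD3_c25) (LK LD1_c5 LD2_c38 LD3_c16) Lrfl Lrfl
theorem f595684 : Led Lsl_ff (LP (LK LD1_c11 LD2_c7 LD3_c25)) = (LP (LK LD1_c11 LD2_c7 LD3_c51)) :=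
  Lgr Lrot52 (Lpr_at (f418758 IH) (Lpe (K52.f171846 IH) (Lpr_gf (K52.f595630 IH) (Lpn (LP (LK LD1_c11 LD2_c7 LD3_c51))))))
theorem f595688 : Led Lsl_ft (LP (LK LD1_c11 LD2_c7 LD3_c25)) = (LP (LK LD1_c11 LD2_c7 LD3_c51)) :=
  Lgr Lrot48 (Lpr_ff (f595684 IH) (Lpn (LP (LK LD1_c11 LD2_c7 LD3_c51))))
theorem f595690 : Led Lsl_bf (LP (LK LD1_c11 LD2_c7 LD3_c25)) = (LP (LK LD1_c19 LD2_c47 LD3_c54)) :=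
  Lgr Lrot61 (Lpr_ft (f595688 IH) (Lpr_bt (K67.f418747 IH) (Lpr_ft (K68.f595638 IH) (Lpn (LP (LK LD1_c19 LD2_c47 LD3_c54))))))
theorem f379833 : Led Lsl_ct (LP (LK LD1_c10 LD2_c57 LD3_c49)) = (LP (LK LD1_c19 LD2_c47 LD3_c54)) :=
  Lre_c IH (LK LD1_c10 LD2_c57 LD3_c49) (LK LD1_c19 LD2_c47 LD3_c54) Lrfl Lrfl
theorem f235204 : Led Lsl_cf (LP (LK LD1_c16 LD2_c47 LD3_c52)) = (LP (LK LD1_c10 LD2_c31 LD3_c32)) :=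
  Lgr Lrot11 (Lpr_ct (K54.f235200 IH) (Lpn (LP (LK LD1_c10 LD2_c31 LD3_c32))))
theorem f392057 : Led Lsl_dt (LP (LK LD1_c19 LD2_c3 LD3_c43)) = (LP (LK LD1_c10 LD2_c31 LD3_c32)) :=
  Lgr Lrot42 (Lpr_df (K54.f392055 IH) (Lpn (LP (LK LD1_c10 LD2_c31 LD3_c32))))
theorem f312832 : Led Lsl_at (LP (LK LD1_c19 LD2_c3 LD3_c41)) = (LP (LK LD1_c10 LD2_c31 LD3_c2)) :=
  Lre_a IH (LK LD1_c19 LD2_c3 LD3_c41) (LK LD1_c10 LD2_c31 LD3_c2) Lrfl Lrfl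
theorem f312837 : Led Lsl_gt (LP (LK LD1_c10 LD2_c37 LD3_c55)) = (LP (LK LD1_c19 LD2_c3 LD3_c43)) :=
  Lgr Lrot5 (Lpr_ft (K54.f312791 IH) (Lpr_at (f312832 IH) (Lpe (K54.f224669 IH) (Lpn (LP (LK LD1_c19 LD2_c3 LD3_c43))))))
theorem f303203 : Led Lsl_bf (LP (LK LD1_c10 LD2_c36 LD3_c29)) = (LP (LK LD1_c19 LD2_c3 LD3_c41)) :=
  Lgr Lrot81 (Lpr_at (K41.f303201 IH) (Lpr_bt (K31.f217667 IH) (Lpr_at (K18.f303197 IH) (Lpr_bt (K54.f224658 IH) (Lpr_at (K54.f303202 IH) (Lpn (LP (LK LD1_c19 LD2_c3 LD3_c41))))))))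
theorem f400079 : Led Lsl_bf (LP (LK LD1_c10 LD2_c37 LD3_c55)) = (LP (LK LD1_c16 LD2_c21 LD3_c25)) :=
  Lgr Lrot61 (Lpr_ft (K54.f312791 IH) (Lpe (f303203 IH) (Lpr_ft (K41.f400075 IH) (Lpn (LP (LK LD1_c16 LD2_c21 LD3_c25))))))
theorem f572088 : Led Lsl_df (LP (LK LD1_c20 LD2_c18 LD3_c28)) = (LP (LK LD1_c16 LD2_c52 LD3_c61)) :=
  Lgr Lrot38 (Lpr_dt (K42.f572084 IH) (Lpn (LP (LK LD1_c16 LD2_c52 LD3_c61))))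
theorem f280561 : Led Lsl_dt (LP (LK LD1_c16 LD2_c53 LD3_c10)) = (LP (LK LD1_c9 LD2_c2 LD3_c41)) :=
  Lre_d IH (LK LD1_c16 LD2_c53 LD3_c10) (LK LD1_c9 LD2_c2 LD3_c41) Lrfl Lrfl
theorem f552055 : Led Lsl_af (LP (LK LD1_c4 LD2_c32 LD3_c36)) = (LP (LK LD1_c2 LD2_c46 LD3_c55)) :=
  Lgr Lrot117 (Lpe (K45.f551571 IH) (Lpr_at (K39.f552049 IH) (Lpr_dt (K39.f549809 IH) (Lpn (LP (LK LD1_c2 LD2_c46 LD3_c55))))))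
theorem f572096 : Led Lsl_ft (LP (LK LD1_c4 LD2_c32 LD3_c35)) = (LP (LK LD1_c2 LD2_c46 LD3_c55)) :=
  Lgr Lrot142 (Lpr_dt (K42.f553762 IH) (Lpr_ct (K39.f172619 IH) (Lpr_dt (K39.f547284 IH) (Lpr_ct (K42.f572092 IH) (Lpe (f572088 IH) (Lpr_ct (K42.f572078 IH) (Lpr_dt (f280561 IH) (Lpr_ct (K42.f280563 IH) (Lpr_af (f552055 IH) (Lpn (LP (LK LD1_c2 LD2_c46 LD3_c55))))))))))))
theorem f595549 : Led Lsl_bt (LP (LK LD1_c9 LD2_c1 LD3_c21)) = (LP (LK LD1_c4 LD2_c32 LD3_c35)) :=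
  Lgr Lrot35 (Lpr_ff (K52.f595545 IH) (Lpr_bf (K40.f563735 IH) (Lpe (f572096 IH) (Lpn (LP (LK LD1_c4 LD2_c32 LD3_c35))))))
theorem f595696 : Led Lsl_gt (LP (LK LD1_c11 LD2_c7 LD3_c25)) = (LP (LK LD1_c11 LD2_c11 LD3_c44)) :=
  Lgr Lrot190 (Lpr_bf (f595690 IH) (Lpe (f379833 IH) (Lpe (K67.f379810 IH) (Lpr_gf (K54.f393925 IH) (Lpe (K54.f235199 IH) (Lpr_cf (f235204 IH) (Lpe (f392057 IH) (Lpe (f312837 IH) (Lpr_bf (f400079 IH) (Lpe (K42.f400045 IH) (Lpe (K41.f400048 IH) (Lpe (K42.f550009 IH) (Lpe (K42.f181688 IH) (Lpe (K30.f269084 IH) (Lpe (K16.f269086 IH) (Lpr_gf (K39.f412020 IH) (Lpe (f595549 IH) (Lpe (K40.f561477 IH) (Lpe (K40.f380200 IH) (Lpn (LP (LK LD1_c11 LD2_c11 LD3_c44))))))))))))))))))))))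
theorem f561483 : Led Lsl_cf (LP (LK LD1_c5 LD2_c40 LD3_c30)) = (LP (LK LD1_c9 LD2_c1 LD3_c21)) :=
  Lgr Lrot11 (Lpr_ct (K40.f561477 IH) (Lpn (LP (LK LD1_c9 LD2_c1 LD3_c21))))
theorem f736015 : Led Lsl_cf (LP (LK LD1_c5 LD2_c43 LD3_c38)) = v15377 :=
  Lgr Lrot166 (Lpe (K31.f423279 IH) (Lpr_dt (K52.f579782 IH) (Lpe (K43.f579760 IH) (Lpr_dt (K43.f380279 IH) (Lpe (f561483 IH) (Lpe (K40.f380200 IH) (Lpe (f595696 IH) (Lpe (f380407 IH) (Lpr_gf (f736011 IH) (Lpn v15377))))))))))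
theorem f919833 : Led Lsl_ef v15377 = v40776 :=
  Lgr Lrot28 (Lpe (f736015 IH) (Lpr_et (K38.f382049 IH) (Lpr_ct (f919831 IH) (Lpn v40776))))
def v15376 : LQ := Led Lsl_gt (LP (LK LD1_c5 LD2_c38 LD3_c4))
theorem f736003 : Led Lsl_gt (LP (LK LD1_c5 LD2_c38 LD3_c4)) = v15376 :=
  Lrfl
theorem f380406 : Led Lsl_ct (LP (LK LD1_c2 LD2_c44 LD3_c58)) = (LP (LK LD1_c5 LD2_c38 LD3_c4)) :=
  Lre_c IH (LK LD1_c2 LD2_c44 LD3_c58) (LK LD1_c5 LD2_c38 LD3_c4) Lrfl Lrfl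
theorem f411980 : Led Lsl_bt (LP (LK LD1_c5 LD2_c41 LD3_c18)) = (LP (LK LD1_c2 LD2_c46 LD3_c44)) :=
  Lre_b IH (LK LD1_c5 LD2_c41 LD3_c18) (LK LD1_c2 LD2_c46 LD3_c44) Lrfl Lrfl
theorem f736006 : Led Lsl_ct (LP (LK LD1_c5 LD2_c41 LD3_c18)) = v15376 :=
  Lgr Lrot63 (Lpr_bt (f411980 IH) (Lpr_gt (K36.f411974 IH) (Lpr_bf (K18.f297008 IH) (Lpr_ct (K30.f168288 IH) (Lpe (K31.f385452 IH) (Lpe (K31.f174752 IH) (Lpr_bt (K31.f174749 IH) (Lpr_gt (K31.f380401 IH) (Lpr_ct (f380406 IH) (Lpr_gt (f736003 IH) (Lpn v15376)))))))))))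
theorem f423301 : Led Lsl_af (LP (LK LD1_c5 LD2_c41 LD3_c18)) = (LP (LK LD1_c5 LD2_c40 LD3_c18)) :=
  Lgr Lrot0 (Lpr_at (K31.f423299 IH) (Lpn (LP (LK LD1_c5 LD2_c40 LD3_c18))))
theorem f736007 : Led Lsl_af (LP (LK LD1_c5 LD2_c38 LD3_c14)) = v15376 :=
  Lgr Lrot68 (Lpe (K31.f423202 IH) (Lpe (f423301 IH) (Lpr_ct (f736006 IH) (Lpn v15376))))
theorem f736010 : Led Lsl_at (LP (LK LD1_c5 LD2_c38 LD3_c14)) = v15376 :=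
  Lgr Lrot100 (Lpr_af (f736007 IH) (Lpn v15376))
theorem f736013 : Led Lsl_ff (LP (LK LD1_c5 LD2_c38 LD3_c14)) = v15377 :=
  Lgr Lrot52 (Lpr_at (f736010 IH) (Lpe (f736003 IH) (Lpr_gf (f736011 IH) (Lpn v15377))))
theorem f423222 : Led Lsl_et (LP (LK LD1_c5 LD2_c38 LD3_c14)) = (LP (LK LD1_c11 LD2_c7 LD3_c46)) :=
  Lre_e IH (LK LD1_c5 LD2_c38 LD3_c14) (LK LD1_c11 LD2_c7 LD3_c46) Lrfl Lrfl
theorem f423216 : Led Lsl_ft (LP (LK LD1_c11 LD2_c7 LD3_c46)) = (LP (LK LD1_c20 LD2_c1 LD3_c20)) :=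
  Lre_f IH (LK LD1_c11 LD2_c7 LD3_c46) (LK LD1_c20 LD2_c1 LD3_c20) Lrfl Lrfl
theorem f919836 : Led Lsl_ef (LP (LK LD1_c24 LD2_c53 LD3_c19)) = (LP (LK LD1_c20 LD2_c1 LD3_c20)) :=
  Lgr Lrot21 (Lpr_ft (f919835 IH) (Lpe (f919833 IH) (Lpe (f736013 IH) (Lpr_et (f423222 IH) (Lpr_ft (f423216 IH) (Lpn (LP (LK LD1_c20 LD2_c1 LD3_c20))))))))
theorem f919837 : Led Lsl_et (LP (LK LD1_c20 LD2_c1 LD3_c20)) = (LP (LK LD1_c24 LD2_c53 LD3_c19)) :=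
  Leop (Lpr_ef (f919836 IH) (Lpn (LP (LK LD1_c20 LD2_c1 LD3_c20))))
theorem seed_2417 : LEOK LG_e (LK LD1_c20 LD2_c1 LD3_c20) :=
  Leoe_e (LK LD1_c20 LD2_c1 LD3_c20) (f919837 IH)
def v40780 : LQ := Led Lsl_ft (LP (LK LD1_c9 LD2_c46 LD3_c43))
theorem f919855 : Led Lsl_ft (LP (LK LD1_c9 LD2_c46 LD3_c43)) = v40780 :=
  Lrfl
theorem f919860 : Led Lsl_ff (LP (LK LD1_c9 LD2_c46 LD3_c43)) = v40780 :=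
  Lgr Lrot3 (Lpr_ft (f919855 IH) (Lpn v40780))
theorem f416333 : Led Lsl_et (LP (LK LD1_c9 LD2_c46 LD3_c43)) = (LP (LK LD1_c4 LD2_c57 LD3_c55)) :=
  Lre_e IH (LK LD1_c9 LD2_c46 LD3_c43) (LK LD1_c4 LD2_c57 LD3_c55) Lrfl Lrfl
theorem f919864 : Led Lsl_et (LP (LK LD1_c11 LD2_c25 LD3_c22)) = v40780 :=
  Lgr Lrot69 (Lpe (K55.f710402 IH) (Lpr_ef (K55.f710454 IH) (Lpr_ff (K51.f503813 IH) (Lpe (f416333 IH) (Lpr_ff (f919860 IH) (Lpn v40780))))))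
theorem f428762 : Led Lsl_dt (LP (LK LD1_c11 LD2_c25 LD3_c22)) = (LP (LK LD1_c5 LD2_c47 LD3_c49)) :=
  Lre_d IH (LK LD1_c11 LD2_c25 LD3_c22) (LK LD1_c5 LD2_c47 LD3_c49) Lrfl Lrfl
theorem f415297 : Led Lsl_et (LP (LK LD1_c12 LD2_c58 LD3_c7)) = (LP (LK LD1_c6 LD2_c47 LD3_c35)) :=
  Lre_e IH (LK LD1_c12 LD2_c58 LD3_c7) (LK LD1_c6 LD2_c47 LD3_c35) Lrfl Lrfl
theorem f415277 : Led Lsl_bt (LP (LK LD1_c9 LD2_c32 LD3_c25)) = (LP (LK LD1_c17 LD2_c34 LD3_c34)) :=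
  Lre_b IH (LK LD1_c9 LD2_c32 LD3_c25) (LK LD1_c17 LD2_c34 LD3_c34) Lrfl Lrfl
theorem f415278 : Led Lsl_bt (LP (LK LD1_c22 LD2_c8 LD3_c0)) = (LP (LK LD1_c12 LD2_c58 LD3_c9)) :=
  Lre_b IH (LK LD1_c22 LD2_c8 LD3_c0) (LK LD1_c12 LD2_c58 LD3_c9) Lrfl Lrfl
theorem f415279 : Led Lsl_dt (LP (LK LD1_c17 LD2_c34 LD3_c34)) = (LP (LK LD1_c22 LD2_c8 LD3_c0)) :=
  Lgr Lrot79 (Lpe (f415277 IH) (Lpr_df (K57.f415274 IH) (Lpe (f415278 IH) (Lpn (LP (LK LD1_c22 LD2_c8 LD3_c0))))))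
theorem f415282 : Led Lsl_ft (LP (LK LD1_c9 LD2_c32 LD3_c17)) = (LP (LK LD1_c17 LD2_c34 LD3_c34)) :=
  Lre_f IH (LK LD1_c9 LD2_c32 LD3_c17) (LK LD1_c17 LD2_c34 LD3_c34) Lrfl Lrfl
theorem f415283 : Led Lsl_ft (LP (LK LD1_c22 LD2_c8 LD3_c0)) = (LP (LK LD1_c12 LD2_c58 LD3_c7)) :=
  Lre_f IH (LK LD1_c22 LD2_c8 LD3_c0) (LK LD1_c12 LD2_c58 LD3_c7) Lrfl Lrfl
theorem f415284 : Led Lsl_df (LP (LK LD1_c9 LD2_c32 LD3_c17)) = (LP (LK LD1_c12 LD2_c58 LD3_c7)) :=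
  Lgr Lrot78 (Lpr_ft (f415282 IH) (Lpr_dt (f415279 IH) (Lpr_ft (f415283 IH) (Lpn (LP (LK LD1_c12 LD2_c58 LD3_c7))))))
theorem f380456 : Led Lsl_et (LP (LK LD1_c2 LD2_c44 LD3_c57)) = (LP (LK LD1_c5 LD2_c38 LD3_c3)) :=
  Lre_e IH (LK LD1_c2 LD2_c44 LD3_c57) (LK LD1_c5 LD2_c38 LD3_c3) Lrfl Lrfl
theorem f418723 : Led Lsl_gt (LP (LK LD1_c2 LD2_c45 LD3_c1)) = (LP (LK LD1_c5 LD2_c38 LD3_c18)) :=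
  Lre_g IH (LK LD1_c2 LD2_c45 LD3_c1) (LK LD1_c5 LD2_c38 LD3_c18) Lrfl Lrfl
theorem f424382 : Led Lsl_dt (LP (LK LD1_c5 LD2_c38 LD3_c18)) = (LP (LK LD1_c11 LD2_c7 LD3_c56)) :=
  Lre_d IH (LK LD1_c5 LD2_c38 LD3_c18) (LK LD1_c11 LD2_c7 LD3_c56) Lrfl Lrfl
theorem f710126 : Led Lsl_gt (LP (LK LD1_c11 LD2_c7 LD3_c56)) = (LP (LK LD1_c9 LD2_c32 LD3_c17)) :=
  Lgr Lrot139 (Lpe (f424382 IH) (Lpe (f418723 IH) (Lpe (K35.f380399 IH) (Lpr_dt (K31.f289594 IH) (Lpe (K38.f289411 IH) (Lpe (K52.f380455 IH) (Lpr_et (f380456 IH) (Lpr_gf (K52.f710055 IH) (Lpe (f415297 IH) (Lpe (f415284 IH) (Lpn (LP (LK LD1_c9 LD2_c32 LD3_c17)))))))))))))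
theorem f613329 : Led Lsl_et (LP (LK LD1_c5 LD2_c38 LD3_c18)) = (LP (LK LD1_c11 LD2_c7 LD3_c57)) :=
  Lre_e IH (LK LD1_c5 LD2_c38 LD3_c18) (LK LD1_c11 LD2_c7 LD3_c57) Lrfl Lrfl
theorem f919865 : Led Lsl_gf (LP (LK LD1_c11 LD2_c7 LD3_c57)) = v40780 :=
  Lgr Lrot141 (Lpe (f613329 IH) (Lpr_dt (f424382 IH) (Lpr_gt (f710126 IH) (Lpr_df (f415284 IH) (Lpr_et (f415297 IH) (Lpe (K52.f710055 IH) (Lpr_dt (K52.f589542 IH) (Lpr_gt (K51.f66293 IH) (Lpe (f428762 IH) (Lpr_et (f919864 IH) (Lpn v40780)))))))))))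
theorem f416338 : Led Lsl_at (LP (LK LD1_c9 LD2_c46 LD3_c43)) = (LP (LK LD1_c17 LD2_c56 LD3_c46)) :=
  Lre_a IH (LK LD1_c9 LD2_c46 LD3_c43) (LK LD1_c17 LD2_c56 LD3_c46) Lrfl Lrfl
theorem f919866 : Led Lsl_gt (LP (LK LD1_c11 LD2_c7 LD3_c57)) = (LP (LK LD1_c17 LD2_c56 LD3_c46)) :=
  Lgr Lrot46 (Lpr_gf (f919865 IH) (Lpe (f919860 IH) (Lpr_at (f416338 IH) (Lpn (LP (LK LD1_c17 LD2_c56 LD3_c46))))))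
theorem f919867 : Led Lsl_gt (LP (LK LD1_c11 LD2_c7 LD3_c57)) = (LP (LK LD1_c17 LD2_c56 LD3_c46)) :=
  Leop (Lpe (f919866 IH) (Lpn (LP (LK LD1_c11 LD2_c7 LD3_c57))))
theorem seed_2418 : LEOK LG_g (LK LD1_c11 LD2_c7 LD3_c57) :=
  Leoe_g (LK LD1_c11 LD2_c7 LD3_c57) (f919867 IH)
theorem f613317 : Led Lsl_et (LP (LK LD1_c11 LD2_c7 LD3_c57)) = (LP (LK LD1_c5 LD2_c38 LD3_c18)) :=
  Lre_e IH (LK LD1_c11 LD2_c7 LD3_c57) (LK LD1_c5 LD2_c38 LD3_c18) Lrfl Lrfl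
theorem f613318 : Led Lsl_dt (LP (LK LD1_c11 LD2_c7 LD3_c57)) = (LP (LK LD1_c5 LD2_c40 LD3_c34)) :=
  Lgr Lrot136 (Lpr_et (f613317 IH) (Lpe (f418723 IH) (Lpe (K35.f380399 IH) (Lpr_dt (K31.f289594 IH) (Lpe (K38.f289411 IH) (Lpe (K52.f380455 IH) (Lpr_gf (K52.f563733 IH) (Lpe (K50.f380236 IH) (Lpr_dt (K55.f613311 IH) (Lpe (K69.f380499 IH) (Lpn (LP (LK LD1_c5 LD2_c40 LD3_c34)))))))))))))
theorem f613327 : Led Lsl_df (LP (LK LD1_c11 LD2_c7 LD3_c57)) = (LP (LK LD1_c5 LD2_c40 LD3_c34)) :=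
  Lgr Lrot38 (Lpr_dt (f613318 IH) (Lpn (LP (LK LD1_c5 LD2_c40 LD3_c34))))
theorem f613331 : Led Lsl_et (LP (LK LD1_c5 LD2_c40 LD3_c34)) = (LP (LK LD1_c11 LD2_c11 LD3_c53)) :=
  Lre_e IH (LK LD1_c5 LD2_c40 LD3_c34) (LK LD1_c11 LD2_c11 LD3_c53) Lrfl Lrfl
theorem f706168 : Led Lsl_et (LP (LK LD1_c9 LD2_c46 LD3_c41)) = (LP (LK LD1_c17 LD2_c56 LD3_c46)) :=
  Lre_e IH (LK LD1_c9 LD2_c46 LD3_c41) (LK LD1_c17 LD2_c56 LD3_c46) Lrfl Lrfl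
theorem f706169 : Led Lsl_ft (LP (LK LD1_c17 LD2_c56 LD3_c46)) = (LP (LK LD1_c17 LD2_c12 LD3_c43)) :=
  Lgr Lrot86 (Lpe (f706168 IH) (Lpr_ff (K52.f706164 IH) (Lpe (K52.f504099 IH) (Lpr_ff (K50.f504094 IH) (Lpe (K51.f416325 IH) (Lpn (LP (LK LD1_c17 LD2_c12 LD3_c43))))))))
theorem f919858 : Led Lsl_df (LP (LK LD1_c17 LD2_c56 LD3_c46)) = v40780 :=
  Lgr Lrot78 (Lpr_ft (f706169 IH) (Lpr_dt (K55.f416307 IH) (Lpr_ft (f919855 IH) (Lpn v40780))))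
theorem f919859 : Led Lsl_ef (LP (LK LD1_c11 LD2_c25 LD3_c22)) = v40780 :=
  Lgr Lrot21 (Lpe (K55.f710400 IH) (Lpr_et (K52.f710428 IH) (Lpr_ft (K52.f503907 IH) (Lpr_et (K51.f416328 IH) (Lpr_ft (f919855 IH) (Lpn v40780))))))
theorem f454608 : Led Lsl_et (LP (LK LD1_c9 LD2_c32 LD3_c28)) = (LP (LK LD1_c17 LD2_c34 LD3_c46)) :=
  Lre_e IH (LK LD1_c9 LD2_c32 LD3_c28) (LK LD1_c17 LD2_c34 LD3_c46) Lrfl Lrfl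
theorem f919868 : Led Lsl_gf (LP (LK LD1_c11 LD2_c11 LD3_c53)) = (LP (LK LD1_c17 LD2_c34 LD3_c46)) :=
  Lgr Lrot141 (Lpe (f613331 IH) (Lpe (f613327 IH) (Lpr_gt (f919866 IH) (Lpr_df (f919858 IH) (Lpe (f919859 IH) (Lpr_gt (K52.f66323 IH) (Lpr_dt (K52.f66324 IH) (Lpq (K55.f741968 IH) (Lpe (K55.f705849 IH) (Lpe (K51.f454672 IH) (Lpr_et (f454608 IH) (Lpn (LP (LK LD1_c17 LD2_c34 LD3_c46))))))))))))))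
theorem f919869 : Led Lsl_gt (LP (LK LD1_c17 LD2_c34 LD3_c46)) = (LP (LK LD1_c11 LD2_c11 LD3_c53)) :=
  Leop (Lpr_gf (f919868 IH) (Lpn (LP (LK LD1_c17 LD2_c34 LD3_c46))))
theorem seed_2419 : LEOK LG_g (LK LD1_c17 LD2_c34 LD3_c46) :=
  Leoe_g (LK LD1_c17 LD2_c34 LD3_c46) (f919869 IH)
def v40789 : LQ := Led Lsl_gf (LP (LK LD1_c9 LD2_c46 LD3_c46))
theorem f919907 : Led Lsl_gf (LP (LK LD1_c9 LD2_c46 LD3_c46)) = v40789 :=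
  Lrfl
def v15408 : LQ := Led Lsl_gf (LP (LK LD1_c5 LD2_c38 LD3_c33))
theorem f736157 : Led Lsl_gf (LP (LK LD1_c5 LD2_c38 LD3_c33)) = v15408 :=
  Lrfl
theorem f896793 : (LP (LK LD1_c9 LD2_c46 LD3_c47)) = v15408 :=
  (Llr Lrot5 (Lpr_gf (K70.f896660 IH) (Lpr_ft (K69.f698261 IH) (Lpq (K69.f896676 IH) (Lpe (K69.f736159 IH) (Lpr_gf (f736157 IH) (Lpn v15408))))))).symm
theorem f171836 : Led Lsl_dt (LP (LK LD1_c5 LD2_c38 LD3_c33)) = (LP (LK LD1_c11 LD2_c8 LD3_c18)) :=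
  Lre_d IH (LK LD1_c5 LD2_c38 LD3_c33) (LK LD1_c11 LD2_c8 LD3_c18) Lrfl Lrfl
theorem f633807 : Led Lsl_ft (LP (LK LD1_c11 LD2_c6 LD3_c43)) = (LP (LK LD1_c10 LD2_c18 LD3_c21)) :=
  Lgr Lrot54 (Lpe (K48.f165092 IH) (Lpr_ff (K57.f633803 IH) (Lpe (K51.f225473 IH) (Lpn (LP (LK LD1_c10 LD2_c18 LD3_c21))))))
theorem f633809 : Led Lsl_gt (LP (LK LD1_c11 LD2_c8 LD3_c18)) = (LP (LK LD1_c10 LD2_c5 LD3_c17)) :=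
  Lgr Lrot46 (Lpe (K54.f171835 IH) (Lpr_ft (f633807 IH) (Lpe (K51.f633770 IH) (Lpn (LP (LK LD1_c10 LD2_c5 LD3_c17))))))
def v15371 : LQ := Led Lsl_et (LP (LK LD1_c5 LD2_c37 LD3_c34))
theorem f735955 : Led Lsl_et (LP (LK LD1_c5 LD2_c37 LD3_c34)) = v15371 :=
  Lrfl
def v24107 : LQ := Led Lsl_gf K53.v4555
theorem f822436 : Led Lsl_gf K53.v4555 = v24107 :=
  Lrfl
def v12303 : LQ := Led Lsl_et (LP (LK LD1_c3 LD2_c59 LD3_c54))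
theorem f689272 : Led Lsl_et (LP (LK LD1_c3 LD2_c59 LD3_c54)) = v12303 :=
  Lrfl
theorem f689273 : Led Lsl_af K53.v4555 = v12303 :=
  Lgr Lrot50 (Lpe (K53.f636106 IH) (Lpe (K51.f633827 IH) (Lpr_et (f689272 IH) (Lpn v12303))))
theorem f689274 : Led Lsl_ef (LP (LK LD1_c3 LD2_c59 LD3_c54)) = v12303 :=
  Lgr Lrot88 (Lpr_et (f689272 IH) (Lpn v12303))
theorem f735957 : Led Lsl_ff v12303 = v15371 :=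
  Lgr Lrot72 (Lpe (f689274 IH) (Lpr_ft (K51.f633833 IH) (Lpr_et (K51.f40964 IH) (Lpe (K51.f633786 IH) (Lpr_et (f735955 IH) (Lpn v15371))))))
theorem f822437 : Led Lsl_gt v15371 = v24107 :=
  Lgr Lrot5 (Lpe (f735957 IH) (Lpe (f689273 IH) (Lpr_gf (f822436 IH) (Lpn v24107))))
def v37886 : LQ := Led Lsl_ft (LP (LK LD1_c9 LD2_c1 LD3_c37))
theorem f897391 : Led Lsl_ft (LP (LK LD1_c9 LD2_c1 LD3_c37)) = v37886 :=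
  Lrfl
def v12813 : LQ := Led Lsl_at (LP (LK LD1_c4 LD2_c31 LD3_c51))
theorem f698350 : Led Lsl_at (LP (LK LD1_c4 LD2_c31 LD3_c51)) = v12813 :=
  Lrfl
theorem f698351 : Led Lsl_af (LP (LK LD1_c4 LD2_c31 LD3_c51)) = v12813 :=
  Lgr Lrot0 (Lpr_at (f698350 IH) (Lpn v12813))
theorem f698353 : Led Lsl_ft (LP (LK LD1_c4 LD2_c31 LD3_c52)) = v12813 :=
  Lgr Lrot2 (Lpr_gt (K57.f168838 IH) (Lpr_gt (K69.f168860 IH) (Lpr_af (f698351 IH) (Lpn v12813))))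
theorem f698354 : Led Lsl_ff (LP (LK LD1_c4 LD2_c31 LD3_c52)) = v12813 :=
  Lgr Lrot3 (Lpr_ft (f698353 IH) (Lpn v12813))
theorem f823818 : (LP (LK LD1_c2 LD2_c46 LD3_c18)) = v12813 :=
  Lefun (Lecon (Lfl_ff (K69.f638875 IH)) (K69.f823807 IH)) (f698353 IH)
def v12815 : LQ := Led Lsl_et (LP (LK LD1_c4 LD2_c31 LD3_c51))
theorem f698358 : Led Lsl_et (LP (LK LD1_c4 LD2_c31 LD3_c51)) = v12815 :=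
  Lrfl
theorem f698360 : Led Lsl_gt K53.v4555 = v12815 :=
  Lgr Lrot131 (Lpe (K53.f636105 IH) (Lpr_dt (K46.f73217 IH) (Lpe (K24.f73209 IH) (Lpe (K2.f67063 IH) (Lpe (K32.f67064 IH) (Lpe (K69.f168874 IH) (Lpe (K51.f416263 IH) (Lpr_gf (K69.f416312 IH) (Lpe (K69.f168875 IH) (Lpr_et (f698358 IH) (Lpn v12815)))))))))))
def v8073 : LQ := Led Lsl_gf K54.v1753
theorem f669869 : Led Lsl_gf K54.v1753 = v8073 :=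
  Lrfl
theorem f698361 : Led Lsl_df v8073 = v12815 :=
  Lgr Lrot135 (Lpe (f669869 IH) (Lpe (K54.f501296 IH) (Lpr_et (K53.f168852 IH) (Lpe (K9.f168848 IH) (Lpe (K51.f168861 IH) (Lpr_dt (K2.f67063 IH) (Lpr_gt (K24.f73209 IH) (Lpe (K46.f73217 IH) (Lpr_et (K53.f636105 IH) (Lpr_gt (f698360 IH) (Lpn v12815)))))))))))
theorem f823838 : K64.v24483 = v12815 :=
  Lefun (Lecon (K64.f823792 IH) (K69.f823821 IH)) (f698358 IH)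
theorem f823839 : K64.v24475 = v8073 :=
  Lefun (Lecon (Lfl_df (K64.f823796 IH)) (f823838 IH)) (Lfl_df (f698361 IH))
def v8072 : LQ := Led Lsl_gt K54.v1753
theorem f669868 : Led Lsl_gt K54.v1753 = v8072 :=
  Lrfl
theorem f823840 : K64.v24471 = v8072 :=
  (Llr Lrot26 (Lpe (K64.f823751 IH) (Lpr_ff (K64.f823766 IH) (Lpqs (f823839 IH) (Lpe (f669869 IH) (Lpr_gt (f669868 IH) (Lpn v8072))))))).symm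
theorem f691628 : Led Lsl_df K53.v4555 = K53.v12343 :=
  Lgr Lrot70 (Lpe (K53.f636106 IH) (Lpr_dt (K46.f73217 IH) (Lpr_et (K32.f73216 IH) (Lpe (K32.f73211 IH) (Lpr_et (K53.f691627 IH) (Lpn K53.v12343))))))
theorem f822438 : Led Lsl_dt v8072 = v24107 :=
  Lgr Lrot171 (Lpe (f669868 IH) (Lpe (K54.f501291 IH) (Lpr_dt (K54.f169092 IH) (Lpe (K9.f169087 IH) (Lpe (K1.f55381 IH) (Lpr_et (K51.f55796 IH) (Lpe (K32.f55703 IH) (Lpr_ef (K53.f691629 IH) (Lpe (f691628 IH) (Lpr_gf (f822436 IH) (Lpn v24107)))))))))))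
theorem f823841 : Led Lsl_ff K64.v4763 = v24107 :=
  Lgr Lrot19 (Lpe (K64.f638871 IH) (Lpr_ft (K64.f823753 IH) (Lpqs (f823840 IH) (Lpr_dt (f822438 IH) (Lpn v24107)))))
theorem f897393 : Led Lsl_ef v24107 = v37886 :=
  Lgr Lrot21 (Lpe (f823841 IH) (Lpe (K64.f638870 IH) (Lpqs (f823818 IH) (Lpe (f698354 IH) (Lpr_et (K57.f613418 IH) (Lpr_ft (f897391 IH) (Lpn v37886)))))))
theorem f919910 : Led Lsl_dt v37886 = v40789 :=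
  Lgr Lrot136 (Lpe (f897393 IH) (Lpe (f822437 IH) (Lpe (f735955 IH) (Lpr_dt (K69.f165097 IH) (Lpe (f633809 IH) (Lpe (f171836 IH) (Lpr_gf (f736157 IH) (Lpq (f896793 IH) (Lpe (K70.f225542 IH) (Lpr_dt (K70.f40908 IH) (Lpr_gf (f919907 IH) (Lpn v40789))))))))))))
theorem f897394 : Led Lsl_ff (LP (LK LD1_c9 LD2_c1 LD3_c37)) = v37886 :=
  Lgr Lrot3 (Lpr_ft (f897391 IH) (Lpn v37886))
theorem f897397 : Led Lsl_gf (LP (LK LD1_c11 LD2_c11 LD3_c60)) = v37886 :=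
  Lgr Lrot47 (Lpe (K54.f737748 IH) (Lpr_af (K64.f737777 IH) (Lpq (K64.f823804 IH) (Lpr_ff (f897394 IH) (Lpn v37886)))))
theorem f751672 : Led Lsl_ct (LP (LK LD1_c11 LD2_c11 LD3_c60)) = K56.v16801 :=
  Lgr Lrot15 (Lpe (K54.f615481 IH) (Lpr_cf (K50.f615479 IH) (Lpr_ef (K56.f751670 IH) (Lpn K56.v16801))))
def v15273 : LQ := Led Lsl_ft (LP (LK LD1_c5 LD2_c34 LD3_c46))
theorem f733240 : Led Lsl_ft (LP (LK LD1_c5 LD2_c34 LD3_c46)) = v15273 :=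
  Lrfl
def v15272 : LQ := Led Lsl_at (LP (LK LD1_c5 LD2_c34 LD3_c46))
theorem f733233 : Led Lsl_at (LP (LK LD1_c5 LD2_c34 LD3_c46)) = v15272 :=
  Lrfl
theorem f733234 : Led Lsl_af (LP (LK LD1_c5 LD2_c34 LD3_c46)) = v15272 :=
  Lgr Lrot0 (Lpr_at (f733233 IH) (Lpn v15272))
theorem f733235 : Led Lsl_df K67.v4709 = v15272 :=
  Lgr Lrot18 (Lpe (K67.f638600 IH) (Lpr_dt (K53.f638520 IH) (Lpr_at (f733233 IH) (Lpn v15272))))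
theorem f638607 : Led Lsl_ff (LP (LK LD1_c2 LD2_c43 LD3_c18)) = K67.v4709 :=
  Lgr Lrot3 (Lpr_ft (K67.f638605 IH) (Lpn K67.v4709))
theorem f733237 : Led Lsl_ft (LP (LK LD1_c5 LD2_c34 LD3_c49)) = v15272 :=
  Lgr Lrot54 (Lpe (K53.f9262 IH) (Lpr_ff (f638607 IH) (Lpr_df (f733235 IH) (Lpn v15272))))
theorem f733241 : Led Lsl_af (LP (LK LD1_c5 LD2_c34 LD3_c49)) = v15273 :=
  Lgr Lrot45 (Lpr_ft (f733237 IH) (Lpe (f733234 IH) (Lpr_ft (f733240 IH) (Lpn v15273))))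
theorem f733244 : Led Lsl_gt K54.v15270 = (LP (LK LD1_c5 LD2_c34 LD3_c49)) :=
  Lgr Lrot46 (Lpe (K54.f733231 IH) (Lpr_ft (f733240 IH) (Lpe (f733241 IH) (Lpn (LP (LK LD1_c5 LD2_c34 LD3_c49))))))
theorem f751676 : Led Lsl_gf K54.v15571 = K56.v16801 :=
  Lgr Lrot144 (Lpe (K54.f738099 IH) (Lpr_gt (f733244 IH) (Lpr_dt (K53.f9270 IH) (Lpr_cf (K67.f638628 IH) (Lpq (K53.f710850 IH) (Lpe (K53.f40893 IH) (Lpr_gf (K67.f622380 IH) (Lpe (K67.f380657 IH) (Lpr_gf (K54.f737748 IH) (Lpr_cf (K57.f751675 IH) (Lpn K56.v16801)))))))))))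
theorem f738093 : Led Lsl_cf (LP (LK LD1_c5 LD2_c42 LD3_c16)) = K54.v15571 :=
  Lgr Lrot11 (Lpr_ct (K54.f738092 IH) (Lpn K54.v15571))
theorem f68687 : Led Lsl_ct (LP (LK LD1_c20 LD2_c9 LD3_c48)) = (LP (LK LD1_c11 LD2_c14 LD3_c47)) :=
  Lre_c IH (LK LD1_c20 LD2_c9 LD3_c48) (LK LD1_c11 LD2_c14 LD3_c47) Lrfl Lrfl
theorem f424461 : Led Lsl_ct (LP (LK LD1_c9 LD2_c46 LD3_c46)) = (LP (LK LD1_c17 LD2_c56 LD3_c50)) :=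
  Lre_c IH (LK LD1_c9 LD2_c46 LD3_c46) (LK LD1_c17 LD2_c56 LD3_c50) Lrfl Lrfl
theorem f919914 : Led Lsl_gf (LP (LK LD1_c20 LD2_c9 LD3_c48)) = (LP (LK LD1_c17 LD2_c56 LD3_c50)) :=
  Lgr Lrot172 (Lpr_ct (f68687 IH) (Lpr_dt (K50.f68675 IH) (Lpr_cf (f738093 IH) (Lpr_gf (f751676 IH) (Lpe (f751672 IH) (Lpr_gf (f897397 IH) (Lpr_dt (f919910 IH) (Lpe (f919907 IH) (Lpr_ct (f424461 IH) (Lpn (LP (LK LD1_c17 LD2_c56 LD3_c50))))))))))))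
theorem f919915 : Led Lsl_gt (LP (LK LD1_c17 LD2_c56 LD3_c50)) = (LP (LK LD1_c20 LD2_c9 LD3_c48)) :=
  Leop (Lpr_gf (f919914 IH) (Lpn (LP (LK LD1_c17 LD2_c56 LD3_c50))))
theorem seed_2420 : LEOK LG_g (LK LD1_c17 LD2_c56 LD3_c50) :=
  Leoe_g (LK LD1_c17 LD2_c56 LD3_c50) (f919915 IH)
def v40801 : LQ := Led Lsl_at (LP (LK LD1_c9 LD2_c46 LD3_c50))
theorem f919971 : Led Lsl_at (LP (LK LD1_c9 LD2_c46 LD3_c50)) = v40801 :=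
  Lrfl
theorem f919972 : Led Lsl_af (LP (LK LD1_c9 LD2_c46 LD3_c50)) = v40801 :=
  Lgr Lrot0 (Lpr_at (f919971 IH) (Lpn v40801))
theorem f919977 : Led Lsl_ft K65.v15471 = v40801 :=
  Lgr Lrot2 (Lpe (K65.f737527 IH) (Lpr_gt (K54.f737526 IH) (Lpqs (K54.f737883 IH) (Lpr_af (f919972 IH) (Lpn v40801)))))
theorem f622382 : Led Lsl_et (LP (LK LD1_c4 LD2_c57 LD3_c59)) = (LP (LK LD1_c9 LD2_c46 LD3_c50)) :=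
  Lre_e IH (LK LD1_c4 LD2_c57 LD3_c59) (LK LD1_c9 LD2_c46 LD3_c50) Lrfl Lrfl
def v14099 : LQ := Led Lsl_ft (LP (LK LD1_c4 LD2_c57 LD3_c58))
theorem f718987 : Led Lsl_ft (LP (LK LD1_c4 LD2_c57 LD3_c58)) = v14099 :=
  Lrfl
def v14098 : LQ := Led Lsl_at (LP (LK LD1_c4 LD2_c57 LD3_c58))
theorem f718981 : Led Lsl_at (LP (LK LD1_c4 LD2_c57 LD3_c58)) = v14098 :=
  Lrfl
theorem f718982 : Led Lsl_af (LP (LK LD1_c4 LD2_c57 LD3_c58)) = v14098 :=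
  Lgr Lrot0 (Lpr_at (f718981 IH) (Lpn v14098))
theorem f718983 : Led Lsl_cf K67.v4709 = v14098 :=
  Lgr Lrot1 (Lpe (K67.f638600 IH) (Lpr_ct (K53.f638610 IH) (Lpq (K53.f710874 IH) (Lpr_at (f718981 IH) (Lpn v14098)))))
theorem f718985 : Led Lsl_ft K53.v4712 = v14098 :=
  Lgr Lrot4 (Lpe (K53.f638627 IH) (Lpr_ff (f638607 IH) (Lpr_cf (f718983 IH) (Lpn v14098))))
theorem f718988 : Led Lsl_af K53.v4712 = v14099 :=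
  Lgr Lrot45 (Lpr_ft (f718985 IH) (Lpe (f718982 IH) (Lpr_ft (f718987 IH) (Lpn v14099))))
theorem f919974 : Led Lsl_ef v14099 = v40801 :=
  Lgr Lrot20 (Lpe (f718988 IH) (Lpq (K53.f710850 IH) (Lpr_et (f622382 IH) (Lpr_at (f919971 IH) (Lpn v40801)))))
theorem f718990 : Led Lsl_ff (LP (LK LD1_c4 LD2_c57 LD3_c58)) = v14099 :=
  Lgr Lrot3 (Lpr_ft (f718987 IH) (Lpn v14099))
def v40793 : LQ := Led Lsl_ft (LP (LK LD1_c9 LD2_c46 LD3_c47))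
theorem f919942 : Led Lsl_ft (LP (LK LD1_c9 LD2_c46 LD3_c47)) = v40793 :=
  Lrfl
theorem f919979 : (LP (LK LD1_c10 LD2_c6 LD3_c49)) = v40793 :=
  (Llr Lrot21 (Lpr_et (K65.f737528 IH) (Lpr_ft (f919977 IH) (Lpe (f919974 IH) (Lpe (f718990 IH) (Lpr_et (K70.f225542 IH) (Lpr_ft (f919942 IH) (Lpn v40793)))))))).symm
def v40792 : LQ := Led Lsl_at (LP (LK LD1_c9 LD2_c46 LD3_c47))
theorem f919931 : Led Lsl_at (LP (LK LD1_c9 LD2_c46 LD3_c47)) = v40792 :=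
  Lrfl
theorem f919932 : Led Lsl_af (LP (LK LD1_c9 LD2_c46 LD3_c47)) = v40792 :=
  Lgr Lrot0 (Lpr_at (f919931 IH) (Lpn v40792))
def v14597 : LQ := Led Lsl_ft (LP (LK LD1_c5 LD2_c14 LD3_c34))
theorem f723955 : Led Lsl_ft (LP (LK LD1_c5 LD2_c14 LD3_c34)) = v14597 :=
  Lrfl
def v14595 : LQ := Led Lsl_at (LP (LK LD1_c5 LD2_c14 LD3_c34))
theorem f723947 : Led Lsl_at (LP (LK LD1_c5 LD2_c14 LD3_c34)) = v14595 :=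
  Lrfl
theorem f723948 : Led Lsl_af (LP (LK LD1_c5 LD2_c14 LD3_c34)) = v14595 :=
  Lgr Lrot0 (Lpr_at (f723947 IH) (Lpn v14595))
theorem f723951 : Led Lsl_ft (LP (LK LD1_c5 LD2_c14 LD3_c35)) = v14595 :=
  Lgr Lrot2 (Lpr_gt (K54.f194051 IH) (Lpr_gt (K53.f181107 IH) (Lpr_af (f723948 IH) (Lpn v14595))))
theorem f723956 : Led Lsl_af (LP (LK LD1_c5 LD2_c14 LD3_c35)) = v14597 :=
  Lgr Lrot45 (Lpr_ft (f723951 IH) (Lpe (f723948 IH) (Lpr_ft (f723955 IH) (Lpn v14597))))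
theorem f919934 : Led Lsl_df v14597 = v40792 :=
  Lgr Lrot18 (Lpe (f723956 IH) (Lpr_dt (K70.f225539 IH) (Lpr_at (f919931 IH) (Lpn v40792))))
theorem f723957 : Led Lsl_ff (LP (LK LD1_c5 LD2_c14 LD3_c34)) = v14597 :=
  Lgr Lrot3 (Lpr_ft (f723955 IH) (Lpn v14597))
theorem f919939 : Led Lsl_ft (LP (LK LD1_c10 LD2_c18 LD3_c42)) = v40792 :=
  Lgr Lrot54 (Lpe (K54.f181109 IH) (Lpr_ff (f723957 IH) (Lpr_df (f919934 IH) (Lpn v40792))))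
theorem f919943 : Led Lsl_af (LP (LK LD1_c10 LD2_c18 LD3_c42)) = v40793 :=
  Lgr Lrot45 (Lpr_ft (f919939 IH) (Lpe (f919932 IH) (Lpr_ft (f919942 IH) (Lpn v40793))))
theorem f919980 : Led Lsl_at (LP (LK LD1_c10 LD2_c6 LD3_c49)) = (LP (LK LD1_c10 LD2_c18 LD3_c42)) :=
  Leop (Lpr_af (f919943 IH) (Lpq (f919979 IH) (Lpn (LP (LK LD1_c10 LD2_c6 LD3_c49)))))
theorem seed_2421 : LEOK LG_a (LK LD1_c10 LD2_c6 LD3_c49) :=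
  Leoe_a (LK LD1_c10 LD2_c6 LD3_c49) (f919980 IH)
def v40790 : LQ := Led Lsl_at (LP (LK LD1_c9 LD2_c46 LD3_c46))
theorem f919919 : Led Lsl_at (LP (LK LD1_c9 LD2_c46 LD3_c46)) = v40790 :=
  Lrfl
theorem f919921 : Led Lsl_df v14098 = v40790 :=
  Lgr Lrot18 (Lpe (f718982 IH) (Lpr_dt (K70.f40908 IH) (Lpr_at (f919919 IH) (Lpn v40790))))
theorem f919922 : Led Lsl_dt v14098 = v40790 :=
  Lgr Lrot42 (Lpr_df (f919921 IH) (Lpn v40790))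
theorem f919935 : Led Lsl_ef v14098 = v40792 :=
  Lgr Lrot20 (Lpe (f718982 IH) (Lpr_et (K70.f225542 IH) (Lpr_at (f919931 IH) (Lpn v40792))))
theorem f919938 : Led Lsl_dt v14597 = v40792 :=
  Lgr Lrot42 (Lpr_df (f919934 IH) (Lpn v40792))
theorem f168843 : Led Lsl_dt (LP (LK LD1_c5 LD2_c8 LD3_c9)) = (LP (LK LD1_c10 LD2_c6 LD3_c51)) :=
  Lre_d IH (LK LD1_c5 LD2_c8 LD3_c9) (LK LD1_c10 LD2_c6 LD3_c51) Lrfl Lrfl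
def v14389 : LQ := Led Lsl_at (LP (LK LD1_c5 LD2_c8 LD3_c8))
theorem f722305 : Led Lsl_at (LP (LK LD1_c5 LD2_c8 LD3_c8)) = v14389 :=
  Lrfl
theorem f722306 : Led Lsl_af (LP (LK LD1_c5 LD2_c8 LD3_c8)) = v14389 :=
  Lgr Lrot0 (Lpr_at (f722305 IH) (Lpn v14389))
theorem f722307 : Led Lsl_ft (LP (LK LD1_c5 LD2_c8 LD3_c9)) = v14389 :=
  Lgr Lrot2 (Lpr_gt (K53.f53219 IH) (Lpr_gt (K53.f53216 IH) (Lpr_af (f722306 IH) (Lpn v14389))))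
theorem f722308 : Led Lsl_ff (LP (LK LD1_c5 LD2_c8 LD3_c9)) = v14389 :=
  Lgr Lrot3 (Lpr_ft (f722307 IH) (Lpn v14389))
theorem f723952 : Led Lsl_ff (LP (LK LD1_c5 LD2_c14 LD3_c35)) = v14595 :=
  Lgr Lrot3 (Lpr_ft (f723951 IH) (Lpn v14595))
theorem f919945 : Led Lsl_df v14595 = v40793 :=
  Lgr Lrot78 (Lpe (f723952 IH) (Lpr_dt (K70.f225539 IH) (Lpr_ft (f919942 IH) (Lpn v40793))))
theorem f919986 : v14595 = (LP (LK LD1_c5 LD2_c8 LD3_c8)) :=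
  Lefun (Lecon (Lfl_df (f919945 IH)) (f919979 IH).symm) (K65.f165157 IH)
theorem f919987 : (LP (LK LD1_c5 LD2_c14 LD3_c34)) = v14389 :=
  Lefun (Lecon (Lfl_af (f723948 IH)) (f919986 IH)) (f722305 IH)
theorem f919993 : (LP (LK LD1_c5 LD2_c8 LD3_c9)) = v14597 :=
  Lefun (Lecon (Lfl_ff (f722308 IH)) (f919987 IH).symm) (f723955 IH)
theorem f919998 : v40792 = (LP (LK LD1_c10 LD2_c6 LD3_c51)) :=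
  Lefun (Lecon (f919938 IH) (f919993 IH).symm) (f168843 IH)
theorem f920004 : v14098 = (LP (LK LD1_c7 LD2_c59 LD3_c51)) :=
  Lefun (Lecon (Lfl_ef (f919935 IH)) (f919998 IH)) (Lfl_ef (K57.f168840 IH))
theorem f920015 : v40790 = (LP (LK LD1_c15 LD2_c4 LD3_c36)) :=
  Lefun (Lecon (f919922 IH) (f920004 IH)) (K60.f100936 IH)
theorem f919920 : Led Lsl_af (LP (LK LD1_c9 LD2_c46 LD3_c46)) = v40790 :=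
  Lgr Lrot0 (Lpr_at (f919919 IH) (Lpn v40790))
theorem f920132 : Led Lsl_af (LP (LK LD1_c12 LD2_c56 LD3_c35)) = K70.v40112 :=
  Lgr Lrot50 (Lpr_et (K60.f414173 IH) (Lpq (f920015 IH) (Lpe (f919920 IH) (Lpr_et (K70.f913911 IH) (Lpn K70.v40112)))))
def v19786 : LQ := Led Lsl_gf (LP (LK LD1_c6 LD2_c46 LD3_c37))
theorem f782143 : Led Lsl_gf (LP (LK LD1_c6 LD2_c46 LD3_c37)) = v19786 :=
  Lrfl
theorem f920136 : Led Lsl_ft v19786 = K70.v40112 :=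
  Lgr Lrot2 (Lpe (f782143 IH) (Lpr_gt (K55.f414125 IH) (Lpr_af (f920132 IH) (Lpn K70.v40112))))
theorem f920138 : Led Lsl_ff v19786 = K70.v40112 :=
  Lgr Lrot3 (Lpr_ft (f920136 IH) (Lpn K70.v40112))
def v38728 : LQ := Led Lsl_et (LP (LK LD1_c9 LD2_c14 LD3_c44))
theorem f904115 : Led Lsl_et (LP (LK LD1_c9 LD2_c14 LD3_c44)) = v38728 :=
  Lrfl
theorem f622958 : Led Lsl_ft (LP (LK LD1_c5 LD2_c52 LD3_c32)) = (LP (LK LD1_c9 LD2_c14 LD3_c44)) :=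
  Lgr Lrot48 (Lpr_ff (K55.f622954 IH) (Lpn (LP (LK LD1_c9 LD2_c14 LD3_c44))))
theorem f904119 : Led Lsl_ff (LP (LK LD1_c9 LD2_c32 LD3_c19)) = v38728 :=
  Lgr Lrot72 (Lpr_et (K35.f416237 IH) (Lpe (K57.f623040 IH) (Lpr_et (K42.f622533 IH) (Lpr_ft (f622958 IH) (Lpr_et (f904115 IH) (Lpn v38728))))))
theorem f904123 : Led Lsl_ft (LP (LK LD1_c9 LD2_c32 LD3_c19)) = v38728 :=
  Lgr Lrot48 (Lpr_ff (f904119 IH) (Lpn v38728))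
theorem f904116 : Led Lsl_af (LP (LK LD1_c11 LD2_c31 LD3_c33)) = v38728 :=
  Lgr Lrot50 (Lpr_et (K49.f452793 IH) (Lpr_at (K55.f622949 IH) (Lpr_et (f904115 IH) (Lpn v38728))))
theorem f913908 : Led Lsl_gf (LP (LK LD1_c11 LD2_c31 LD3_c33)) = K70.v40112 :=
  Lgr Lrot76 (Lpr_af (f904116 IH) (Lpe (f904123 IH) (Lpr_gt (K70.f913907 IH) (Lpn K70.v40112))))
def v40113 : LQ := Led Lsl_gf (LP (LK LD1_c9 LD2_c32 LD3_c19))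
theorem f913915 : Led Lsl_gf (LP (LK LD1_c9 LD2_c32 LD3_c19)) = v40113 :=
  Lrfl
theorem f623001 : Led Lsl_at (LP (LK LD1_c6 LD2_c46 LD3_c37)) = (LP (LK LD1_c9 LD2_c32 LD3_c19)) :=
  Lgr Lrot100 (Lpr_af (K35.f622999 IH) (Lpn (LP (LK LD1_c9 LD2_c32 LD3_c19))))
theorem f913916 : Led Lsl_gt (LP (LK LD1_c11 LD2_c31 LD3_c33)) = v40113 :=
  Lgr Lrot5 (Lpr_ft (K49.f623134 IH) (Lpr_at (f623001 IH) (Lpr_gf (f913915 IH) (Lpn v40113))))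
theorem f920140 : Led Lsl_at v19786 = v40113 :=
  Lgr Lrot26 (Lpr_ff (f920138 IH) (Lpe (f913908 IH) (Lpr_gt (f913916 IH) (Lpn v40113))))
theorem f920133 : Led Lsl_at (LP (LK LD1_c12 LD2_c56 LD3_c35)) = K70.v40112 :=
  Lgr Lrot100 (Lpr_af (f920132 IH) (Lpn K70.v40112))
theorem f920143 : Led Lsl_ff (LP (LK LD1_c12 LD2_c56 LD3_c35)) = v40113 :=
  Lgr Lrot30 (Lpr_at (f920133 IH) (Lpe (f920138 IH) (Lpr_at (f920140 IH) (Lpn v40113))))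
theorem f920146 : Led Lsl_ft (LP (LK LD1_c12 LD2_c56 LD3_c35)) = v40113 :=
  Lgr Lrot48 (Lpr_ff (f920143 IH) (Lpn v40113))
theorem f414175 : Led Lsl_ft (LP (LK LD1_c18 LD2_c26 LD3_c1)) = (LP (LK LD1_c10 LD2_c6 LD3_c52)) :=
  Lre_f IH (LK LD1_c18 LD2_c26 LD3_c1) (LK LD1_c10 LD2_c6 LD3_c52) Lrfl Lrfl
theorem f920147 : Led Lsl_df (LP (LK LD1_c18 LD2_c26 LD3_c1)) = v40113 :=
  Lgr Lrot78 (Lpr_ft (f414175 IH) (Lpe (K55.f414169 IH) (Lpr_ft (f920146 IH) (Lpn v40113))))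
def v40791 : LQ := Led Lsl_ft (LP (LK LD1_c9 LD2_c46 LD3_c46))
theorem f919925 : Led Lsl_ft (LP (LK LD1_c9 LD2_c46 LD3_c46)) = v40791 :=
  Lrfl
theorem f919928 : Led Lsl_ff (LP (LK LD1_c9 LD2_c46 LD3_c46)) = v40791 :=
  Lgr Lrot3 (Lpr_ft (f919925 IH) (Lpn v40791))
theorem f919930 : Led Lsl_dt v14099 = v40791 :=
  Lgr Lrot60 (Lpe (f718987 IH) (Lpe (K70.f40907 IH) (Lpr_ff (f919928 IH) (Lpn v40791))))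
def v35636 : LQ := Led Lsl_dt (LP (LK LD1_c7 LD2_c59 LD3_c52))
theorem f876212 : Led Lsl_dt (LP (LK LD1_c7 LD2_c59 LD3_c52)) = v35636 :=
  Lrfl
def v35633 : LQ := Led Lsl_at (LP (LK LD1_c7 LD2_c59 LD3_c51))
theorem f876198 : Led Lsl_at (LP (LK LD1_c7 LD2_c59 LD3_c51)) = v35633 :=
  Lrfl
def v12779 : LQ := Led Lsl_at (LP (LK LD1_c4 LD2_c30 LD3_c39))
theorem f698149 : Led Lsl_at (LP (LK LD1_c4 LD2_c30 LD3_c39)) = v12779 :=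
  Lrfl
theorem f698150 : Led Lsl_af (LP (LK LD1_c4 LD2_c30 LD3_c39)) = v12779 :=
  Lgr Lrot0 (Lpr_at (f698149 IH) (Lpn v12779))
theorem f876200 : Led Lsl_cf v12779 = v35633 :=
  Lgr Lrot1 (Lpe (f698150 IH) (Lpr_ct (K57.f698157 IH) (Lpqs (K57.f739651 IH) (Lpr_at (f876198 IH) (Lpn v35633)))))
theorem f9224 : Led Lsl_gt (LP (LK LD1_c4 LD2_c30 LD3_c40)) = (LP (LK LD1_c2 LD2_c12 LD3_c17)) :=
  Lre_g IH (LK LD1_c4 LD2_c30 LD3_c40) (LK LD1_c2 LD2_c12 LD3_c17) Lrfl Lrfl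
theorem f698153 : Led Lsl_ft (LP (LK LD1_c4 LD2_c30 LD3_c40)) = v12779 :=
  Lgr Lrot2 (Lpr_gt (f9224 IH) (Lpr_gt (K57.f9227 IH) (Lpr_af (f698150 IH) (Lpn v12779))))
theorem f698154 : Led Lsl_ff (LP (LK LD1_c4 LD2_c30 LD3_c40)) = v12779 :=
  Lgr Lrot3 (Lpr_ft (f698153 IH) (Lpn v12779))
def v12783 : LQ := Led Lsl_ct (LP (LK LD1_c4 LD2_c30 LD3_c40))
theorem f698172 : Led Lsl_ct (LP (LK LD1_c4 LD2_c30 LD3_c40)) = v12783 :=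
  Lrfl
theorem f876202 : Led Lsl_ft v12783 = v35633 :=
  Lgr Lrot4 (Lpe (f698172 IH) (Lpr_ff (f698154 IH) (Lpr_cf (f876200 IH) (Lpn v35633))))
theorem f876203 : Led Lsl_ff v12783 = v35633 :=
  Lgr Lrot3 (Lpr_ft (f876202 IH) (Lpn v35633))
theorem f920009 : (LP (LK LD1_c4 LD2_c57 LD3_c58)) = v35633 :=
  Lefun (Lecon (Lfl_af (f718982 IH)) (f920004 IH)) (f876198 IH)
theorem f920033 : v12783 = v14099 :=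
  Lefun (Lecon (Lfl_ff (f876203 IH)) (f920009 IH).symm) (f718987 IH)
theorem f739635 : Led Lsl_ct (LP (LK LD1_c6 LD2_c6 LD3_c54)) = (LP (LK LD1_c8 LD2_c15 LD3_c0)) :=
  Lgr Lrot59 (Lpr_cf (K57.f739631 IH) (Lpn (LP (LK LD1_c8 LD2_c15 LD3_c0))))
theorem f8840 : Led Lsl_at (LP (LK LD1_c10 LD2_c45 LD3_c36)) = (LP (LK LD1_c5 LD2_c27 LD3_c18)) :=
  Lre_a IH (LK LD1_c10 LD2_c45 LD3_c36) (LK LD1_c5 LD2_c27 LD3_c18) Lrfl Lrfl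
theorem f8841 : Led Lsl_bt (LP (LK LD1_c5 LD2_c27 LD3_c18)) = (LP (LK LD1_c2 LD2_c40 LD3_c2)) :=
  Lre_b IH (LK LD1_c5 LD2_c27 LD3_c18) (LK LD1_c2 LD2_c40 LD3_c2) Lrfl Lrfl
theorem f8811 : Led Lsl_at (LP (LK LD1_c6 LD2_c6 LD3_c49)) = (LP (LK LD1_c11 LD2_c56 LD3_c34)) :=
  Lre_a IH (LK LD1_c6 LD2_c6 LD3_c49) (LK LD1_c11 LD2_c56 LD3_c34) Lrfl Lrfl
theorem f8842 : Led Lsl_bt (LP (LK LD1_c2 LD2_c59 LD3_c34)) = (LP (LK LD1_c6 LD2_c6 LD3_c49)) :=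
  Lre_b IH (LK LD1_c2 LD2_c59 LD3_c34) (LK LD1_c6 LD2_c6 LD3_c49) Lrfl Lrfl
theorem f8843 : Led Lsl_at (LP (LK LD1_c2 LD2_c40 LD3_c2)) = (LP (LK LD1_c2 LD2_c59 LD3_c34)) :=
  Lgr Lrot67 (Lpe (f8841 IH) (Lpe (f8840 IH) (Lpr_bf (K0.f8834 IH) (Lpe (f8811 IH) (Lpe (f8842 IH) (Lpn (LP (LK LD1_c2 LD2_c59 LD3_c34))))))))
theorem f9127 : Led Lsl_ft (LP (LK LD1_c5 LD2_c27 LD3_c23)) = (LP (LK LD1_c2 LD2_c40 LD3_c2)) :=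
  Lre_f IH (LK LD1_c5 LD2_c27 LD3_c23) (LK LD1_c2 LD2_c40 LD3_c2) Lrfl Lrfl
theorem f446666 : Led Lsl_gt (LP (LK LD1_c5 LD2_c27 LD3_c23)) = (LP (LK LD1_c6 LD2_c6 LD3_c54)) :=
  Lgr Lrot5 (Lpr_ft (f9127 IH) (Lpr_at (f8843 IH) (Lpe (K56.f9233 IH) (Lpn (LP (LK LD1_c6 LD2_c6 LD3_c54))))))
theorem f9116 : Led Lsl_gt (LP (LK LD1_c2 LD2_c43 LD3_c19)) = (LP (LK LD1_c4 LD2_c30 LD3_c40)) :=
  Lre_g IH (LK LD1_c2 LD2_c43 LD3_c19) (LK LD1_c4 LD2_c30 LD3_c40) Lrfl Lrfl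
theorem f55364 : Led Lsl_gt (LP (LK LD1_c7 LD2_c59 LD3_c52)) = (LP (LK LD1_c3 LD2_c59 LD3_c16)) :=
  Lre_g IH (LK LD1_c7 LD2_c59 LD3_c52) (LK LD1_c3 LD2_c59 LD3_c16) Lrfl Lrfl
theorem f739639 : v12783 = (LP (LK LD1_c7 LD2_c59 LD3_c52)) :=
  (Llr Lrot152 (Lpe (f698172 IH) (Lpe (f9116 IH) (Lpe (K69.f9115 IH) (Lpr_gt (f446666 IH) (Lpr_ct (f739635 IH) (Lpr_gt (K57.f55735 IH) (Lpe (K9.f55733 IH) (Lpr_df (K17.f55353 IH) (Lpe (K53.f40857 IH) (Lpe (f55364 IH) (Lpn (LP (LK LD1_c7 LD2_c59 LD3_c52)))))))))))))).symm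
theorem f920049 : v40791 = v35636 :=
  Lefun (Lecon (f919930 IH) ((f920033 IH).symm.trans (f739639 IH))) (f876212 IH)
theorem f876213 : Led Lsl_df (LP (LK LD1_c7 LD2_c59 LD3_c52)) = v35636 :=
  Lgr Lrot38 (Lpr_dt (f876212 IH) (Lpn v35636))
def v4906 : LQ := Led Lsl_et (LP (LK LD1_c2 LD2_c52 LD3_c35))
theorem f640848 : Led Lsl_et (LP (LK LD1_c2 LD2_c52 LD3_c35)) = v4906 :=
  Lrfl
def v24670 : LQ := Led Lsl_gt v4906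
theorem f825065 : Led Lsl_gt v4906 = v24670 :=
  Lrfl
theorem f876216 : Led Lsl_ef v24670 = v35636 :=
  Lgr Lrot17 (Lpe (f825065 IH) (Lpe (f640848 IH) (Lpq (K41.f537748 IH) (Lpe (K70.f501216 IH) (Lpe (K40.f186044 IH) (Lpr_df (K10.f176718 IH) (Lpr_gf (K9.f101577 IH) (Lpe (K10.f100623 IH) (Lpr_dt (K9.f100922 IH) (Lpe (f55364 IH) (Lpr_df (f876213 IH) (Lpn v35636))))))))))))
theorem f876217 : Led Lsl_et v24670 = v35636 :=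
  Lgr Lrot87 (Lpr_ef (f876216 IH) (Lpn v35636))
theorem f718986 : Led Lsl_ff K53.v4712 = v14098 :=
  Lgr Lrot3 (Lpr_ft (f718985 IH) (Lpn v14098))
theorem f919923 : Led Lsl_ft (LP (LK LD1_c9 LD2_c46 LD3_c49)) = v40790 :=
  Lgr Lrot54 (Lpe (K53.f40888 IH) (Lpqs (K53.f710850 IH) (Lpr_ff (f718986 IH) (Lpr_df (f919921 IH) (Lpn v40790)))))
theorem f919926 : Led Lsl_af (LP (LK LD1_c9 LD2_c46 LD3_c49)) = v40791 :=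
  Lgr Lrot45 (Lpr_ft (f919923 IH) (Lpe (f919920 IH) (Lpr_ft (f919925 IH) (Lpn v40791))))
def v4853 : LQ := Led Lsl_dt (LP (LK LD1_c2 LD2_c50 LD3_c44))
def v24601 : LQ := Led Lsl_gt v4853
theorem f824751 : Led Lsl_gt v4853 = v24601 :=
  Lrfl
theorem f640590 : Led Lsl_dt (LP (LK LD1_c2 LD2_c50 LD3_c44)) = v4853 :=
  Lrfl
theorem f450143 : Led Lsl_et (LP (LK LD1_c1 LD2_c21 LD3_c21)) = (LP (LK LD1_c2 LD2_c50 LD3_c44)) :=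
  Lre_e IH (LK LD1_c1 LD2_c21 LD3_c21) (LK LD1_c2 LD2_c50 LD3_c44) Lrfl Lrfl
theorem f640592 : Led Lsl_ef (LP (LK LD1_c2 LD2_c50 LD3_c45)) = v4853 :=
  Lgr Lrot73 (Lpr_dt (K10.f176590 IH) (Lpr_et (K10.f56688 IH) (Lpr_dt (K37.f176637 IH) (Lpr_et (f450143 IH) (Lpr_dt (f640590 IH) (Lpn v4853))))))
theorem f640593 : Led Lsl_et (LP (LK LD1_c2 LD2_c50 LD3_c45)) = v4853 :=
  Lgr Lrot87 (Lpr_ef (f640592 IH) (Lpn v4853))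
theorem f176868 : Led Lsl_gf (LP (LK LD1_c1 LD2_c21 LD3_c22)) = (LP (LK LD1_c1 LD2_c24 LD3_c47)) :=
  Lgr Lrot144 (Lpr_dt (K10.f56689 IH) (Lpe (K10.f176609 IH) (Lpr_dt (K10.f24450 IH) (Lpe (K9.f24449 IH) (Lpe (K9.f20236 IH) (Lpr_gf (K9.f24444 IH) (Lpe (K9.f176815 IH) (Lpr_gf (K11.f176847 IH) (Lpe (K11.f9454 IH) (Lpn (LP (LK LD1_c1 LD2_c24 LD3_c47))))))))))))
theorem f824752 : Led Lsl_et (LP (LK LD1_c9 LD2_c46 LD3_c49)) = v24601 :=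
  Lgr Lrot122 (Lpr_dt (K53.f40893 IH) (Lpr_gt (K53.f40885 IH) (Lpe (K53.f54848 IH) (Lpr_et (K17.f101556 IH) (Lpe (K36.f172132 IH) (Lpr_dt (K11.f9453 IH) (Lpe (f176868 IH) (Lpe (K10.f176590 IH) (Lpr_et (f640593 IH) (Lpr_gt (f824751 IH) (Lpn v24601)))))))))))
theorem f920089 : Led Lsl_af v24670 = v24601 :=
  Lgr Lrot50 (Lpr_et (f876217 IH) (Lpq (f920049 IH) (Lpe (f919926 IH) (Lpr_et (f824752 IH) (Lpn v24601)))))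
def v24671 : LQ := Led Lsl_gf v4906
theorem f825066 : Led Lsl_gf v4906 = v24671 :=
  Lrfl
theorem f920091 : Led Lsl_ft v24671 = v24601 :=
  Lgr Lrot2 (Lpe (f825066 IH) (Lpr_gt (f825065 IH) (Lpr_af (f920089 IH) (Lpn v24601))))
theorem f920092 : Led Lsl_ff v24671 = v24601 :=
  Lgr Lrot3 (Lpr_ft (f920091 IH) (Lpn v24601))
def v24672 : LQ := Led Lsl_ft v4906
theorem f825070 : Led Lsl_ft v4906 = v24672 :=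
  Lrfl
theorem f825074 : Led Lsl_ff v4906 = v24672 :=
  Lgr Lrot3 (Lpr_ft (f825070 IH) (Lpn v24672))
theorem f640849 : Led Lsl_af v4853 = v4906 :=
  Lgr Lrot50 (Lpe (f640592 IH) (Lpr_at (K41.f501221 IH) (Lpqs (K41.f537748 IH) (Lpr_et (f640848 IH) (Lpn v4906)))))
def v24603 : LQ := Led Lsl_ft v4853
theorem f824755 : Led Lsl_ft v4853 = v24603 :=
  Lrfl
theorem f825076 : Led Lsl_at v24603 = v24672 :=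
  Lgr Lrot66 (Lpe (f824755 IH) (Lpr_af (f640849 IH) (Lpr_ff (f825074 IH) (Lpn v24672))))
theorem f825080 : Led Lsl_gt v24601 = v24672 :=
  Lgr Lrot46 (Lpe (f824751 IH) (Lpr_ft (f824755 IH) (Lpr_at (f825076 IH) (Lpn v24672))))
def v24602 : LQ := Led Lsl_gf v4853
theorem f824754 : Led Lsl_gf v4853 = v24602 :=
  Lrfl
theorem f825079 : Led Lsl_gf v24602 = v24672 :=
  Lgr Lrot47 (Lpe (f824754 IH) (Lpr_af (f640849 IH) (Lpr_ff (f825074 IH) (Lpn v24672))))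
theorem f920093 : Led Lsl_at v24671 = v24602 :=
  Lgr Lrot26 (Lpr_ff (f920092 IH) (Lpr_gt (f825080 IH) (Lpe (f825079 IH) (Lpn v24602))))
theorem f920090 : Led Lsl_at v24670 = v24601 :=
  Lgr Lrot100 (Lpr_af (f920089 IH) (Lpn v24601))
theorem f920095 : Led Lsl_ff v24670 = v24602 :=
  Lgr Lrot30 (Lpr_at (f920090 IH) (Lpe (f920092 IH) (Lpr_at (f920093 IH) (Lpn v24602))))
theorem f920096 : Led Lsl_ft v24670 = v24602 :=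
  Lgr Lrot48 (Lpr_ff (f920095 IH) (Lpn v24602))
theorem f920137 : Led Lsl_ef v19786 = v24602 :=
  Lgr Lrot21 (Lpr_ft (f920136 IH) (Lpe (K70.f913912 IH) (Lpr_ft (f919925 IH) (Lpqs (f920049 IH) (Lpe (f876216 IH) (Lpr_ft (f920096 IH) (Lpn v24602)))))))
theorem f920142 : Led Lsl_ef v24671 = v40113 :=
  Lgr Lrot20 (Lpr_at (f920093 IH) (Lpe (f920137 IH) (Lpr_at (f920140 IH) (Lpn v40113))))
theorem f920150 : Led Lsl_gf (LP (LK LD1_c18 LD2_c26 LD3_c1)) = (LP (LK LD1_c18 LD2_c2 LD3_c18)) :=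
  Lgr Lrot134 (Lpr_df (f920147 IH) (Lpe (f920142 IH) (Lpe (f825066 IH) (Lpe (f640848 IH) (Lpq (K41.f537748 IH) (Lpe (K70.f501216 IH) (Lpe (K16.f186025 IH) (Lpe (K10.f177683 IH) (Lpr_et (K17.f176531 IH) (Lpr_gt (K70.f176543 IH) (Lpr_dt (K70.f176544 IH) (Lpn (LP (LK LD1_c18 LD2_c2 LD3_c18))))))))))))))
theorem f920151 : Led Lsl_gt (LP (LK LD1_c18 LD2_c2 LD3_c18)) = (LP (LK LD1_c18 LD2_c26 LD3_c1)) :=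
  Leop (Lpr_gf (f920150 IH) (Lpn (LP (LK LD1_c18 LD2_c2 LD3_c18))))
theorem seed_2422 : LEOK LG_g (LK LD1_c18 LD2_c2 LD3_c18) :=
  Leoe_g (LK LD1_c18 LD2_c2 LD3_c18) (f920151 IH)
def v40810 : LQ := Led Lsl_gt (LP (LK LD1_c9 LD2_c47 LD3_c6))
theorem f920260 : Led Lsl_gt (LP (LK LD1_c9 LD2_c47 LD3_c6)) = v40810 :=
  Lrfl
theorem f418587 : Led Lsl_df (LP (LK LD1_c6 LD2_c15 LD3_c8)) = (LP (LK LD1_c9 LD2_c47 LD3_c11)) :=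
  Lgr Lrot38 (Lpr_dt (K40.f227590 IH) (Lpn (LP (LK LD1_c9 LD2_c47 LD3_c11))))
theorem f478638 : Led Lsl_dt (LP (LK LD1_c13 LD2_c40 LD3_c4)) = (LP (LK LD1_c7 LD2_c13 LD3_c11)) :=
  Lre_d IH (LK LD1_c13 LD2_c40 LD3_c4) (LK LD1_c7 LD2_c13 LD3_c11) Lrfl Lrfl
theorem f920262 : Led Lsl_et (LP (LK LD1_c13 LD2_c40 LD3_c4)) = v40810 :=
  Lgr Lrot122 (Lpr_dt (f478638 IH) (Lpr_gt (K40.f540321 IH) (Lpr_df (f418587 IH) (Lpr_et (K40.f227589 IH) (Lpr_gt (K11.f37386 IH) (Lpr_dt (K1.f37682 IH) (Lpr_gt (K18.f56075 IH) (Lpe (K18.f70409 IH) (Lpr_et (K32.f70410 IH) (Lpr_gt (f920260 IH) (Lpn v40810)))))))))))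
theorem f486819 : Led Lsl_dt (LP (LK LD1_c3 LD2_c37 LD3_c19)) = (LP (LK LD1_c7 LD2_c15 LD3_c12)) :=
  Lre_d IH (LK LD1_c3 LD2_c37 LD3_c19) (LK LD1_c7 LD2_c15 LD3_c12) Lrfl Lrfl
theorem f519996 : Led Lsl_ft (LP (LK LD1_c7 LD2_c15 LD3_c12)) = (LP (LK LD1_c13 LD2_c40 LD3_c4)) :=
  Lgr Lrot54 (Lpe (f486819 IH) (Lpr_ff (K33.f519989 IH) (Lpe (f478638 IH) (Lpn (LP (LK LD1_c13 LD2_c40 LD3_c4))))))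
theorem f520000 : Led Lsl_et (LP (LK LD1_c13 LD2_c43 LD3_c38)) = (LP (LK LD1_c7 LD2_c15 LD3_c12)) :=
  Lre_e IH (LK LD1_c13 LD2_c43 LD3_c38) (LK LD1_c7 LD2_c15 LD3_c12) Lrfl Lrfl
theorem f520001 : Led Lsl_ft (LP (LK LD1_c23 LD2_c10 LD3_c10)) = (LP (LK LD1_c13 LD2_c43 LD3_c38)) :=
  Lre_f IH (LK LD1_c23 LD2_c10 LD3_c10) (LK LD1_c13 LD2_c43 LD3_c38) Lrfl Lrfl
theorem f794567 : Led Lsl_gf (LP (LK LD1_c23 LD2_c8 LD3_c53)) = (LP (LK LD1_c30 LD2_c53 LD3_c46)) :=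
  Lgr Lrot47 (Lpr_gt (K62.f794565 IH) (Lpr_af (K33.f519928 IH) (Lpe (K33.f519927 IH) (Lpn (LP (LK LD1_c30 LD2_c53 LD3_c46))))))
theorem f565855 : Led Lsl_et (LP (LK LD1_c23 LD2_c8 LD3_c53)) = (LP (LK LD1_c16 LD2_c28 LD3_c15)) :=
  Lgr Lrot158 (Lpe (K53.f528634 IH) (Lpr_ef (K41.f565852 IH) (Lpe (K42.f565611 IH) (Lpn (LP (LK LD1_c16 LD2_c28 LD3_c15))))))
theorem f607301 : Led Lsl_at (LP (LK LD1_c29 LD2_c54 LD3_c2)) = (LP (LK LD1_c23 LD2_c8 LD3_c53)) :=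
  Lgr Lrot80 (Lpr_ef (K53.f607299 IH) (Lpr_af (K50.f596859 IH) (Lpe (f565855 IH) (Lpn (LP (LK LD1_c23 LD2_c8 LD3_c53))))))
theorem f528644 : Led Lsl_ct (LP (LK LD1_c13 LD2_c42 LD3_c45)) = (LP (LK LD1_c23 LD2_c8 LD3_c51)) :=
  Lre_c IH (LK LD1_c13 LD2_c42 LD3_c45) (LK LD1_c23 LD2_c8 LD3_c51) Lrfl Lrfl
theorem f607336 : Led Lsl_ff (LP (LK LD1_c29 LD2_c54 LD3_c2)) = (LP (LK LD1_c23 LD2_c8 LD3_c51)) :=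
  Lgr Lrot23 (Lpr_ct (K53.f203374 IH) (Lpr_ft (K53.f607334 IH) (Lpr_ct (f528644 IH) (Lpn (LP (LK LD1_c23 LD2_c8 LD3_c51))))))
theorem f794569 : Led Lsl_gt (LP (LK LD1_c23 LD2_c8 LD3_c51)) = (LP (LK LD1_c30 LD2_c53 LD3_c46)) :=
  Lgr Lrot5 (Lpe (f607336 IH) (Lpr_at (f607301 IH) (Lpr_gf (f794567 IH) (Lpn (LP (LK LD1_c30 LD2_c53 LD3_c46))))))
theorem f528294 : Led Lsl_bt (LP (LK LD1_c3 LD2_c37 LD3_c11)) = (LP (LK LD1_c7 LD2_c14 LD3_c49)) :=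
  Lre_b IH (LK LD1_c3 LD2_c37 LD3_c11) (LK LD1_c7 LD2_c14 LD3_c49) Lrfl Lrfl
theorem f561040 : Led Lsl_bf (LP (LK LD1_c7 LD2_c14 LD3_c52)) = (LP (LK LD1_c8 LD2_c50 LD3_c57)) :=
  Lgr Lrot96 (Lpr_et (K47.f481306 IH) (Lpr_bt (f528294 IH) (Lpr_et (K40.f561036 IH) (Lpn (LP (LK LD1_c8 LD2_c50 LD3_c57))))))
theorem f794573 : Led Lsl_bf (LP (LK LD1_c16 LD2_c27 LD3_c2)) = (LP (LK LD1_c23 LD2_c5 LD3_c37)) :=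
  Lgr Lrot156 (Lpr_gt (K64.f227476 IH) (Lpe (K38.f549111 IH) (Lpr_ct (K40.f36783 IH) (Lpe (K40.f445228 IH) (Lpe (K40.f16358 IH) (Lpe (f561040 IH) (Lpr_gt (K53.f470701 IH) (Lpr_ct (f528644 IH) (Lpr_gt (f794569 IH) (Lpe (K33.f519908 IH) (Lpn (LP (LK LD1_c23 LD2_c5 LD3_c37)))))))))))))
theorem f481269 : Led Lsl_et (LP (LK LD1_c7 LD2_c15 LD3_c15)) = (LP (LK LD1_c13 LD2_c43 LD3_c46)) :=
  Lre_e IH (LK LD1_c7 LD2_c15 LD3_c15) (LK LD1_c13 LD2_c43 LD3_c46) Lrfl Lrfl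
theorem f519961 : Led Lsl_ft (LP (LK LD1_c13 LD2_c43 LD3_c46)) = (LP (LK LD1_c23 LD2_c10 LD3_c26)) :=
  Lre_f IH (LK LD1_c13 LD2_c43 LD3_c46) (LK LD1_c23 LD2_c10 LD3_c26) Lrfl Lrfl
theorem f519942 : Led Lsl_et (LP (LK LD1_c23 LD2_c5 LD3_c34)) = (LP (LK LD1_c13 LD2_c40 LD3_c5)) :=
  Lre_e IH (LK LD1_c23 LD2_c5 LD3_c34) (LK LD1_c13 LD2_c40 LD3_c5) Lrfl Lrfl
theorem f519962 : Led Lsl_et (LP (LK LD1_c23 LD2_c10 LD3_c26)) = (LP (LK LD1_c30 LD2_c53 LD3_c46)) :=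
  Lgr Lrot69 (Lpe (f519961 IH) (Lpe (f481269 IH) (Lpr_ff (K33.f519950 IH) (Lpe (f519942 IH) (Lpe (K33.f519927 IH) (Lpn (LP (LK LD1_c30 LD2_c53 LD3_c46))))))))
theorem f519964 : Led Lsl_ct (LP (LK LD1_c13 LD2_c43 LD3_c49)) = (LP (LK LD1_c23 LD2_c10 LD3_c26)) :=
  Lre_c IH (LK LD1_c13 LD2_c43 LD3_c49) (LK LD1_c23 LD2_c10 LD3_c26) Lrfl Lrfl
theorem f519907 : Led Lsl_ct (LP (LK LD1_c30 LD2_c53 LD3_c46)) = (LP (LK LD1_c23 LD2_c5 LD3_c37)) :=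
  Lre_c IH (LK LD1_c30 LD2_c53 LD3_c46) (LK LD1_c23 LD2_c5 LD3_c37) Lrfl Lrfl
theorem f519965 : Led Lsl_ef (LP (LK LD1_c13 LD2_c43 LD3_c49)) = (LP (LK LD1_c23 LD2_c5 LD3_c37)) :=
  Lgr Lrot28 (Lpr_ct (f519964 IH) (Lpr_et (f519962 IH) (Lpr_ct (f519907 IH) (Lpn (LP (LK LD1_c23 LD2_c5 LD3_c37))))))
theorem f519968 : Led Lsl_et (LP (LK LD1_c13 LD2_c43 LD3_c49)) = (LP (LK LD1_c23 LD2_c5 LD3_c37)) :=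
  Lgr Lrot87 (Lpr_ef (f519965 IH) (Lpn (LP (LK LD1_c23 LD2_c5 LD3_c37))))
theorem f519971 : Led Lsl_bt (LP (LK LD1_c23 LD2_c10 LD3_c10)) = (LP (LK LD1_c13 LD2_c43 LD3_c49)) :=
  Lre_b IH (LK LD1_c23 LD2_c10 LD3_c10) (LK LD1_c13 LD2_c43 LD3_c49) Lrfl Lrfl
theorem f794577 : Led Lsl_et (LP (LK LD1_c16 LD2_c27 LD3_c2)) = (LP (LK LD1_c23 LD2_c10 LD3_c10)) :=
  Lgr Lrot74 (Lpr_bf (f794573 IH) (Lpe (f519968 IH) (Lpe (f519971 IH) (Lpn (LP (LK LD1_c23 LD2_c10 LD3_c10))))))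
theorem f920265 : Led Lsl_ff (LP (LK LD1_c16 LD2_c27 LD3_c2)) = v40810 :=
  Lgr Lrot72 (Lpr_et (f794577 IH) (Lpr_ft (f520001 IH) (Lpr_et (f520000 IH) (Lpr_ft (f519996 IH) (Lpr_et (f920262 IH) (Lpn v40810))))))
theorem f920261 : Led Lsl_gf (LP (LK LD1_c16 LD2_c27 LD3_c3)) = v40810 :=
  Lgr Lrot76 (Lpe (K53.f453345 IH) (Lpe (K53.f453217 IH) (Lpr_gt (f920260 IH) (Lpn v40810))))
theorem f453249 : Led Lsl_ft (LP (LK LD1_c16 LD2_c27 LD3_c3)) = (LP (LK LD1_c8 LD2_c47 LD3_c27)) :=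
  Lre_f IH (LK LD1_c16 LD2_c27 LD3_c3) (LK LD1_c8 LD2_c47 LD3_c27) Lrfl Lrfl
theorem f272731 : Led Lsl_gt (LP (LK LD1_c17 LD2_c57 LD3_c22)) = (LP (LK LD1_c9 LD2_c47 LD3_c6)) :=
  Lre_g IH (LK LD1_c17 LD2_c57 LD3_c22) (LK LD1_c9 LD2_c47 LD3_c6) Lrfl Lrfl
theorem f453417 : Led Lsl_gt (LP (LK LD1_c16 LD2_c27 LD3_c3)) = (LP (LK LD1_c17 LD2_c57 LD3_c22)) :=
  Lgr Lrot5 (Lpr_ft (f453249 IH) (Lpr_at (K55.f453205 IH) (Lpe (f272731 IH) (Lpn (LP (LK LD1_c17 LD2_c57 LD3_c22))))))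
theorem f920268 : Led Lsl_at (LP (LK LD1_c16 LD2_c27 LD3_c2)) = (LP (LK LD1_c17 LD2_c57 LD3_c22)) :=
  Lgr Lrot26 (Lpr_ff (f920265 IH) (Lpe (f920261 IH) (Lpr_gt (f453417 IH) (Lpn (LP (LK LD1_c17 LD2_c57 LD3_c22))))))
theorem f920269 : Led Lsl_at (LP (LK LD1_c16 LD2_c27 LD3_c2)) = (LP (LK LD1_c17 LD2_c57 LD3_c22)) :=
  Leop (Lpe (f920268 IH) (Lpn (LP (LK LD1_c16 LD2_c27 LD3_c2))))
theorem seed_2423 : LEOK LG_a (LK LD1_c16 LD2_c27 LD3_c2) :=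
  Leoe_a (LK LD1_c16 LD2_c27 LD3_c2) (f920269 IH)
theorem f16442 : Led Lsl_ct (LP (LK LD1_c8 LD2_c51 LD3_c27)) = (LP (LK LD1_c16 LD2_c33 LD3_c32)) :=
  Lre_c IH (LK LD1_c8 LD2_c51 LD3_c27) (LK LD1_c16 LD2_c33 LD3_c32) Lrfl Lrfl
theorem f16437 : Led Lsl_bt (LP (LK LD1_c8 LD2_c51 LD3_c27)) = (LP (LK LD1_c4 LD2_c26 LD3_c52)) :=
  Lre_b IH (LK LD1_c8 LD2_c51 LD3_c27) (LK LD1_c4 LD2_c26 LD3_c52) Lrfl Lrfl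
theorem f70300 : Led Lsl_bt (LP (LK LD1_c6 LD2_c13 LD3_c35)) = (LP (LK LD1_c12 LD2_c5 LD3_c57)) :=
  Lre_b IH (LK LD1_c6 LD2_c13 LD3_c35) (LK LD1_c12 LD2_c5 LD3_c57) Lrfl Lrfl
theorem f794579 : Led Lsl_ef (LP (LK LD1_c16 LD2_c27 LD3_c2)) = (LP (LK LD1_c23 LD2_c10 LD3_c10)) :=
  Lgr Lrot88 (Lpr_et (f794577 IH) (Lpn (LP (LK LD1_c23 LD2_c10 LD3_c10))))
theorem f920274 : Led Lsl_et (LP (LK LD1_c17 LD2_c57 LD3_c22)) = (LP (LK LD1_c27 LD2_c42 LD3_c0)) :=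
  Lre_e IH (LK LD1_c17 LD2_c57 LD3_c22) (LK LD1_c27 LD2_c42 LD3_c0) Lrfl Lrfl
theorem f920275 : Led Lsl_af (LP (LK LD1_c23 LD2_c10 LD3_c10)) = (LP (LK LD1_c27 LD2_c42 LD3_c0)) :=
  Lgr Lrot50 (Lpe (f794579 IH) (Lpr_at (f920268 IH) (Lpr_et (f920274 IH) (Lpn (LP (LK LD1_c27 LD2_c42 LD3_c0))))))
theorem f522048 : Led Lsl_af (LP (LK LD1_c23 LD2_c5 LD3_c32)) = (LP (LK LD1_c13 LD2_c43 LD3_c49)) :=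
  Lgr Lrot50 (Lpr_et (K63.f522046 IH) (Lpr_at (K33.f519901 IH) (Lpe (f519965 IH) (Lpn (LP (LK LD1_c13 LD2_c43 LD3_c49))))))
theorem f522060 : Led Lsl_bt (LP (LK LD1_c23 LD2_c5 LD3_c32)) = (LP (LK LD1_c30 LD2_c53 LD3_c43)) :=
  Lre_b IH (LK LD1_c23 LD2_c5 LD3_c32) (LK LD1_c30 LD2_c53 LD3_c43) Lrfl Lrfl
theorem f467518 : Led Lsl_dt (LP (LK LD1_c7 LD2_c15 LD3_c20)) = (LP (LK LD1_c3 LD2_c37 LD3_c25)) :=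
  Lre_d IH (LK LD1_c7 LD2_c15 LD3_c20) (LK LD1_c3 LD2_c37 LD3_c25) Lrfl Lrfl
theorem f563314 : Led Lsl_et (LP (LK LD1_c11 LD2_c38 LD3_c12)) = (LP (LK LD1_c5 LD2_c56 LD3_c26)) :=
  Lre_e IH (LK LD1_c11 LD2_c38 LD3_c12) (LK LD1_c5 LD2_c56 LD3_c26) Lrfl Lrfl
theorem f599231 : Led Lsl_gf (LP (LK LD1_c13 LD2_c43 LD3_c56)) = (LP (LK LD1_c11 LD2_c38 LD3_c2)) :=
  Lgr Lrot141 (Lpe (K63.f480766 IH) (Lpr_dt (f467518 IH) (Lpe (K33.f480760 IH) (Lpr_df (K47.f599219 IH) (Lpr_et (f563314 IH) (Lpr_gt (K40.f82153 IH) (Lpr_dt (K2.f82145 IH) (Lpr_gt (K38.f24489 IH) (Lpe (K39.f545141 IH) (Lpr_et (K39.f545153 IH) (Lpn (LP (LK LD1_c11 LD2_c38 LD3_c2)))))))))))))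
theorem f577914 : Led Lsl_gt (LP (LK LD1_c13 LD2_c43 LD3_c56)) = (LP (LK LD1_c23 LD2_c10 LD3_c35)) :=
  Lre_g IH (LK LD1_c13 LD2_c43 LD3_c56) (LK LD1_c23 LD2_c10 LD3_c35) Lrfl Lrfl
theorem f545165 : Led Lsl_ft (LP (LK LD1_c11 LD2_c38 LD3_c2)) = (LP (LK LD1_c20 LD2_c36 LD3_c54)) :=
  Lre_f IH (LK LD1_c11 LD2_c38 LD3_c2) (LK LD1_c20 LD2_c36 LD3_c54) Lrfl Lrfl
theorem f599235 : Led Lsl_af (LP (LK LD1_c23 LD2_c10 LD3_c35)) = (LP (LK LD1_c20 LD2_c36 LD3_c54)) :=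
  Lgr Lrot31 (Lpe (f577914 IH) (Lpr_gf (f599231 IH) (Lpr_ft (f545165 IH) (Lpn (LP (LK LD1_c20 LD2_c36 LD3_c54))))))
theorem f72320 : Led Lsl_et (LP (LK LD1_c9 LD2_c9 LD3_c33)) = (LP (LK LD1_c4 LD2_c36 LD3_c51)) :=
  Lre_e IH (LK LD1_c9 LD2_c9 LD3_c33) (LK LD1_c4 LD2_c36 LD3_c51) Lrfl Lrfl
theorem f70473 : Led Lsl_et (LP (LK LD1_c8 LD2_c46 LD3_c16)) = (LP (LK LD1_c16 LD2_c24 LD3_c35)) :=
  Lre_e IH (LK LD1_c8 LD2_c46 LD3_c16) (LK LD1_c16 LD2_c24 LD3_c35) Lrfl Lrfl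
theorem f149914 : Led Lsl_af (LP (LK LD1_c9 LD2_c9 LD3_c33)) = (LP (LK LD1_c16 LD2_c24 LD3_c35)) :=
  Lgr Lrot50 (Lpr_et (f72320 IH) (Lpr_at (K7.f149908 IH) (Lpr_et (f70473 IH) (Lpn (LP (LK LD1_c16 LD2_c24 LD3_c35))))))
theorem f72305 : Led Lsl_dt (LP (LK LD1_c9 LD2_c9 LD3_c33)) = (LP (LK LD1_c17 LD2_c2 LD3_c30)) :=
  Lre_d IH (LK LD1_c9 LD2_c9 LD3_c33) (LK LD1_c17 LD2_c2 LD3_c30) Lrfl Lrfl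
theorem f545156 : Led Lsl_af (LP (LK LD1_c11 LD2_c38 LD3_c2)) = (LP (LK LD1_c17 LD2_c2 LD3_c30)) :=
  Lgr Lrot117 (Lpr_dt (K39.f545154 IH) (Lpe (f149914 IH) (Lpr_dt (f72305 IH) (Lpn (LP (LK LD1_c17 LD2_c2 LD3_c30))))))
theorem f599249 : Led Lsl_ft (LP (LK LD1_c23 LD2_c10 LD3_c35)) = (LP (LK LD1_c17 LD2_c2 LD3_c30)) :=
  Lgr Lrot101 (Lpr_af (f599235 IH) (Lpe (f545165 IH) (Lpr_af (f545156 IH) (Lpn (LP (LK LD1_c17 LD2_c2 LD3_c30))))))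
theorem f545166 : Led Lsl_gt (LP (LK LD1_c20 LD2_c36 LD3_c53)) = (LP (LK LD1_c11 LD2_c38 LD3_c2)) :=
  Lre_g IH (LK LD1_c20 LD2_c36 LD3_c53) (LK LD1_c11 LD2_c38 LD3_c2) Lrfl Lrfl
theorem f599263 : Led Lsl_gt (LP (LK LD1_c23 LD2_c10 LD3_c35)) = (LP (LK LD1_c20 LD2_c36 LD3_c53)) :=
  Lgr Lrot5 (Lpr_ft (f599249 IH) (Lpe (f545156 IH) (Lpe (f545166 IH) (Lpn (LP (LK LD1_c20 LD2_c36 LD3_c53))))))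
theorem f599265 : Led Lsl_at (LP (LK LD1_c23 LD2_c10 LD3_c36)) = (LP (LK LD1_c20 LD2_c36 LD3_c53)) :=
  Lgr Lrot26 (Lpe (K63.f522038 IH) (Lpr_gt (f577914 IH) (Lpr_gt (f599263 IH) (Lpn (LP (LK LD1_c20 LD2_c36 LD3_c53))))))
theorem f482394 : Led Lsl_et (LP (LK LD1_c13 LD2_c39 LD3_c61)) = (LP (LK LD1_c23 LD2_c5 LD3_c28)) :=
  Lre_e IH (LK LD1_c13 LD2_c39 LD3_c61) (LK LD1_c23 LD2_c5 LD3_c28) Lrfl Lrfl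
theorem f522027 : Led Lsl_ft (LP (LK LD1_c23 LD2_c5 LD3_c28)) = (LP (LK LD1_c30 LD2_c53 LD3_c43)) :=
  Lre_f IH (LK LD1_c23 LD2_c5 LD3_c28) (LK LD1_c30 LD2_c53 LD3_c43) Lrfl Lrfl
theorem f522028 : Led Lsl_et (LP (LK LD1_c13 LD2_c43 LD3_c56)) = (LP (LK LD1_c7 LD2_c15 LD3_c20)) :=
  Lre_e IH (LK LD1_c13 LD2_c43 LD3_c56) (LK LD1_c7 LD2_c15 LD3_c20) Lrfl Lrfl
theorem f522029 : Led Lsl_ft (LP (LK LD1_c23 LD2_c10 LD3_c36)) = (LP (LK LD1_c13 LD2_c43 LD3_c56)) :=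
  Lre_f IH (LK LD1_c23 LD2_c10 LD3_c36) (LK LD1_c13 LD2_c43 LD3_c56) Lrfl Lrfl
theorem f522030 : Led Lsl_et (LP (LK LD1_c30 LD2_c53 LD3_c43)) = (LP (LK LD1_c23 LD2_c10 LD3_c36)) :=
  Lgr Lrot69 (Lpe (f522027 IH) (Lpe (f482394 IH) (Lpr_ff (K63.f522021 IH) (Lpe (f522028 IH) (Lpe (f522029 IH) (Lpn (LP (LK LD1_c23 LD2_c10 LD3_c36))))))))
theorem f599269 : Led Lsl_et (LP (LK LD1_c20 LD2_c36 LD3_c53)) = (LP (LK LD1_c29 LD2_c32 LD3_c20)) :=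
  Lre_e IH (LK LD1_c20 LD2_c36 LD3_c53) (LK LD1_c29 LD2_c32 LD3_c20) Lrfl Lrfl
theorem f599270 : Led Lsl_af (LP (LK LD1_c30 LD2_c53 LD3_c43)) = (LP (LK LD1_c29 LD2_c32 LD3_c20)) :=
  Lgr Lrot50 (Lpr_et (f522030 IH) (Lpr_at (f599265 IH) (Lpr_et (f599269 IH) (Lpn (LP (LK LD1_c29 LD2_c32 LD3_c20))))))
theorem f599272 : Led Lsl_at (LP (LK LD1_c30 LD2_c53 LD3_c43)) = (LP (LK LD1_c29 LD2_c32 LD3_c20)) :=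
  Lgr Lrot100 (Lpr_af (f599270 IH) (Lpn (LP (LK LD1_c29 LD2_c32 LD3_c20))))
theorem f920279 : Led Lsl_bt (LP (LK LD1_c29 LD2_c32 LD3_c20)) = (LP (LK LD1_c27 LD2_c42 LD3_c0)) :=
  Lgr Lrot62 (Lpe (f599272 IH) (Lpe (f522060 IH) (Lpr_af (f522048 IH) (Lpe (f519971 IH) (Lpr_af (f920275 IH) (Lpn (LP (LK LD1_c27 LD2_c42 LD3_c0))))))))
theorem f920287 : Led Lsl_bf (LP (LK LD1_c29 LD2_c32 LD3_c20)) = (LP (LK LD1_c27 LD2_c42 LD3_c0)) :=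
  Lgr Lrot24 (Lpr_bt (f920279 IH) (Lpn (LP (LK LD1_c27 LD2_c42 LD3_c0))))
theorem f545169 : Led Lsl_et (LP (LK LD1_c29 LD2_c32 LD3_c20)) = (LP (LK LD1_c20 LD2_c36 LD3_c53)) :=
  Lre_e IH (LK LD1_c29 LD2_c32 LD3_c20) (LK LD1_c20 LD2_c36 LD3_c53) Lrfl Lrfl
theorem f920289 : Led Lsl_bt (LP (LK LD1_c20 LD2_c36 LD3_c53)) = (LP (LK LD1_c17 LD2_c57 LD3_c22)) :=
  Lgr Lrot119 (Lpe (f545169 IH) (Lpr_bf (f920287 IH) (Lpe (f920274 IH) (Lpn (LP (LK LD1_c17 LD2_c57 LD3_c22))))))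
theorem f549123 : Led Lsl_bt (LP (LK LD1_c12 LD2_c6 LD3_c1)) = (LP (LK LD1_c16 LD2_c27 LD3_c3)) :=
  Lgr Lrot127 (Lpr_bf (K38.f549119 IH) (Lpn (LP (LK LD1_c16 LD2_c27 LD3_c3))))
theorem f445133 : Led Lsl_ct (LP (LK LD1_c8 LD2_c50 LD3_c18)) = (LP (LK LD1_c16 LD2_c31 LD3_c12)) :=
  Lre_c IH (LK LD1_c8 LD2_c50 LD3_c18) (LK LD1_c16 LD2_c31 LD3_c12) Lrfl Lrfl
theorem f445134 : Led Lsl_gt (LP (LK LD1_c26 LD2_c27 LD3_c35)) = (LP (LK LD1_c16 LD2_c31 LD3_c12)) :=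
  Lre_g IH (LK LD1_c26 LD2_c27 LD3_c35) (LK LD1_c16 LD2_c31 LD3_c12) Lrfl Lrfl
theorem f920291 : Led Lsl_ct (LP (LK LD1_c20 LD2_c36 LD3_c53)) = (LP (LK LD1_c26 LD2_c27 LD3_c35)) :=
  Lgr Lrot64 (Lpr_bt (f920289 IH) (Lpe (f453417 IH) (Lpe (f549123 IH) (Lpr_ct (K1.f36844 IH) (Lpr_gf (K37.f445128 IH) (Lpe (K37.f16540 IH) (Lpe (K37.f16537 IH) (Lpe (K2.f16181 IH) (Lpr_ct (f445133 IH) (Lpe (f445134 IH) (Lpn (LP (LK LD1_c26 LD2_c27 LD3_c35)))))))))))))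
theorem f545162 : Led Lsl_ft (LP (LK LD1_c20 LD2_c36 LD3_c54)) = (LP (LK LD1_c11 LD2_c38 LD3_c2)) :=
  Lre_f IH (LK LD1_c20 LD2_c36 LD3_c54) (LK LD1_c11 LD2_c38 LD3_c2) Lrfl Lrfl
theorem f70467 : Led Lsl_ft (LP (LK LD1_c16 LD2_c24 LD3_c35)) = (LP (LK LD1_c26 LD2_c22 LD3_c12)) :=
  Lre_f IH (LK LD1_c16 LD2_c24 LD3_c35) (LK LD1_c26 LD2_c22 LD3_c12) Lrfl Lrfl
theorem f545163 : Led Lsl_df (LP (LK LD1_c20 LD2_c36 LD3_c54)) = (LP (LK LD1_c26 LD2_c22 LD3_c12)) :=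
  Lgr Lrot78 (Lpr_ft (f545162 IH) (Lpr_dt (K39.f545154 IH) (Lpr_ft (f70467 IH) (Lpn (LP (LK LD1_c26 LD2_c22 LD3_c12))))))
theorem f207940 : Led Lsl_et (LP (LK LD1_c12 LD2_c31 LD3_c32)) = (LP (LK LD1_c21 LD2_c37 LD3_c37)) :=
  Lre_e IH (LK LD1_c12 LD2_c31 LD3_c32) (LK LD1_c21 LD2_c37 LD3_c37) Lrfl Lrfl
theorem f207961 : Led Lsl_et (LP (LK LD1_c17 LD2_c2 LD3_c27)) = (LP (LK LD1_c9 LD2_c9 LD3_c32)) :=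
  Lre_e IH (LK LD1_c17 LD2_c2 LD3_c27) (LK LD1_c9 LD2_c9 LD3_c32) Lrfl Lrfl
theorem f207962 : Led Lsl_bt (LP (LK LD1_c21 LD2_c37 LD3_c37)) = (LP (LK LD1_c17 LD2_c2 LD3_c27)) :=
  Lgr Lrot119 (Lpe (f207940 IH) (Lpr_bf (K40.f207957 IH) (Lpe (f207961 IH) (Lpn (LP (LK LD1_c17 LD2_c2 LD3_c27))))))
theorem f72342 : Led Lsl_ct (LP (LK LD1_c17 LD2_c2 LD3_c27)) = (LP (LK LD1_c9 LD2_c9 LD3_c33)) :=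
  Lre_c IH (LK LD1_c17 LD2_c2 LD3_c27) (LK LD1_c9 LD2_c9 LD3_c33) Lrfl Lrfl
theorem f72295 : Led Lsl_et (LP (LK LD1_c9 LD2_c9 LD3_c34)) = (LP (LK LD1_c17 LD2_c2 LD3_c30)) :=
  Lre_e IH (LK LD1_c9 LD2_c9 LD3_c34) (LK LD1_c17 LD2_c2 LD3_c30) Lrfl Lrfl
theorem f72296 : Led Lsl_et (LP (LK LD1_c11 LD2_c33 LD3_c5)) = (LP (LK LD1_c5 LD2_c53 LD3_c33)) :=
  Lre_e IH (LK LD1_c11 LD2_c33 LD3_c5) (LK LD1_c5 LD2_c53 LD3_c33) Lrfl Lrfl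
theorem f72297 : Led Lsl_bt (LP (LK LD1_c17 LD2_c2 LD3_c30)) = (LP (LK LD1_c11 LD2_c33 LD3_c5)) :=
  Lgr Lrot119 (Lpe (f72295 IH) (Lpr_bf (K39.f72285 IH) (Lpe (f72296 IH) (Lpn (LP (LK LD1_c11 LD2_c33 LD3_c5))))))
theorem f72306 : Led Lsl_dt (LP (LK LD1_c11 LD2_c33 LD3_c5)) = (LP (LK LD1_c5 LD2_c53 LD3_c32)) :=
  Lre_d IH (LK LD1_c11 LD2_c33 LD3_c5) (LK LD1_c5 LD2_c53 LD3_c32) Lrfl Lrfl
theorem f72307 : Led Lsl_bf (LP (LK LD1_c9 LD2_c9 LD3_c33)) = (LP (LK LD1_c5 LD2_c53 LD3_c32)) :=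
  Lgr Lrot93 (Lpr_dt (f72305 IH) (Lpr_bt (f72297 IH) (Lpr_dt (f72306 IH) (Lpn (LP (LK LD1_c5 LD2_c53 LD3_c32))))))
theorem f72315 : Led Lsl_bt (LP (LK LD1_c9 LD2_c9 LD3_c33)) = (LP (LK LD1_c5 LD2_c53 LD3_c32)) :=
  Lgr Lrot127 (Lpr_bf (f72307 IH) (Lpn (LP (LK LD1_c5 LD2_c53 LD3_c32))))
theorem f72330 : Led Lsl_ct (LP (LK LD1_c5 LD2_c53 LD3_c32)) = (LP (LK LD1_c11 LD2_c33 LD3_c2)) :=
  Lre_c IH (LK LD1_c5 LD2_c53 LD3_c32) (LK LD1_c11 LD2_c33 LD3_c2) Lrfl Lrfl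
theorem f72343 : Led Lsl_bt (LP (LK LD1_c11 LD2_c33 LD3_c2)) = (LP (LK LD1_c20 LD2_c30 LD3_c7)) :=
  Lre_b IH (LK LD1_c11 LD2_c33 LD3_c2) (LK LD1_c20 LD2_c30 LD3_c7) Lrfl Lrfl
theorem f207968 : Led Lsl_cf (LP (LK LD1_c21 LD2_c37 LD3_c37)) = (LP (LK LD1_c20 LD2_c30 LD3_c7)) :=
  Lgr Lrot97 (Lpr_bt (f207962 IH) (Lpr_ct (f72342 IH) (Lpr_bt (f72315 IH) (Lpr_ct (f72330 IH) (Lpr_bt (f72343 IH) (Lpn (LP (LK LD1_c20 LD2_c30 LD3_c7))))))))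
theorem f207970 : Led Lsl_ct (LP (LK LD1_c21 LD2_c37 LD3_c37)) = (LP (LK LD1_c20 LD2_c30 LD3_c7)) :=
  Lgr Lrot59 (Lpr_cf (f207968 IH) (Lpn (LP (LK LD1_c20 LD2_c30 LD3_c7))))
theorem f150710 : Led Lsl_et (LP (LK LD1_c21 LD2_c57 LD3_c25)) = (LP (LK LD1_c12 LD2_c49 LD3_c12)) :=
  Lre_e IH (LK LD1_c21 LD2_c57 LD3_c25) (LK LD1_c12 LD2_c49 LD3_c12) Lrfl Lrfl
theorem f104517 : Led Lsl_et (LP (LK LD1_c9 LD2_c16 LD3_c17)) = (LP (LK LD1_c17 LD2_c10 LD3_c49)) :=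
  Lre_e IH (LK LD1_c9 LD2_c16 LD3_c17) (LK LD1_c17 LD2_c10 LD3_c49) Lrfl Lrfl
theorem f150711 : Led Lsl_cf (LP (LK LD1_c21 LD2_c57 LD3_c25)) = (LP (LK LD1_c17 LD2_c10 LD3_c49)) :=
  Lgr Lrot39 (Lpr_et (f150710 IH) (Lpr_ct (K7.f150704 IH) (Lpr_et (f104517 IH) (Lpn (LP (LK LD1_c17 LD2_c10 LD3_c49))))))
theorem f207973 : Led Lsl_af (LP (LK LD1_c21 LD2_c37 LD3_c37)) = (LP (LK LD1_c21 LD2_c57 LD3_c25)) :=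
  Lgr Lrot68 (Lpr_ct (f207970 IH) (Lpr_at (K24.f104513 IH) (Lpe (f150711 IH) (Lpn (LP (LK LD1_c21 LD2_c57 LD3_c25))))))
theorem f110884 : Led Lsl_et (LP (LK LD1_c17 LD2_c10 LD3_c61)) = (LP (LK LD1_c27 LD2_c2 LD3_c19)) :=
  Lre_e IH (LK LD1_c17 LD2_c10 LD3_c61) (LK LD1_c27 LD2_c2 LD3_c19) Lrfl Lrfl
theorem f150721 : Led Lsl_bf (LP (LK LD1_c21 LD2_c57 LD3_c25)) = (LP (LK LD1_c27 LD2_c2 LD3_c19)) :=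
  Lgr Lrot96 (Lpr_et (f150710 IH) (Lpr_bt (K7.f150715 IH) (Lpr_et (f110884 IH) (Lpn (LP (LK LD1_c27 LD2_c2 LD3_c19))))))
theorem f110887 : Led Lsl_et (LP (LK LD1_c27 LD2_c2 LD3_c19)) = (LP (LK LD1_c17 LD2_c10 LD3_c61)) :=
  Lre_e IH (LK LD1_c27 LD2_c2 LD3_c19) (LK LD1_c17 LD2_c10 LD3_c61) Lrfl Lrfl
theorem f70529 : Led Lsl_et (LP (LK LD1_c16 LD2_c30 LD3_c27)) = (LP (LK LD1_c26 LD2_c27 LD3_c5)) :=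
  Lre_e IH (LK LD1_c16 LD2_c30 LD3_c27) (LK LD1_c26 LD2_c27 LD3_c5) Lrfl Lrfl
theorem f139103 : Led Lsl_af (LP (LK LD1_c27 LD2_c2 LD3_c19)) = (LP (LK LD1_c26 LD2_c27 LD3_c5)) :=
  Lgr Lrot50 (Lpr_et (f110887 IH) (Lpr_at (K7.f139091 IH) (Lpr_et (f70529 IH) (Lpn (LP (LK LD1_c26 LD2_c27 LD3_c5))))))
theorem f70470 : Led Lsl_bt (LP (LK LD1_c16 LD2_c30 LD3_c28)) = (LP (LK LD1_c26 LD2_c27 LD3_c5)) :=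
  Lre_b IH (LK LD1_c16 LD2_c30 LD3_c28) (LK LD1_c26 LD2_c27 LD3_c5) Lrfl Lrfl
theorem f207976 : Led Lsl_at (LP (LK LD1_c17 LD2_c2 LD3_c27)) = (LP (LK LD1_c16 LD2_c30 LD3_c28)) :=
  Lgr Lrot67 (Lpe (f207962 IH) (Lpr_af (f207973 IH) (Lpr_bf (f150721 IH) (Lpr_af (f139103 IH) (Lpe (f70470 IH) (Lpn (LP (LK LD1_c16 LD2_c30 LD3_c28))))))))
theorem f207978 : Led Lsl_af (LP (LK LD1_c17 LD2_c2 LD3_c27)) = (LP (LK LD1_c16 LD2_c30 LD3_c28)) :=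
  Lgr Lrot0 (Lpr_at (f207976 IH) (Lpn (LP (LK LD1_c16 LD2_c30 LD3_c28))))
theorem f70456 : Led Lsl_et (LP (LK LD1_c8 LD2_c49 LD3_c45)) = (LP (LK LD1_c16 LD2_c30 LD3_c28)) :=
  Lre_e IH (LK LD1_c8 LD2_c49 LD3_c45) (LK LD1_c16 LD2_c30 LD3_c28) Lrfl Lrfl
theorem f70458 : Led Lsl_ct (LP (LK LD1_c16 LD2_c30 LD3_c28)) = (LP (LK LD1_c16 LD2_c24 LD3_c35)) :=
  Lgr Lrot15 (Lpe (f70456 IH) (Lpr_cf (K6.f70444 IH) (Lpe (K39.f70457 IH) (Lpn (LP (LK LD1_c16 LD2_c24 LD3_c35))))))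
theorem f70465 : Led Lsl_cf (LP (LK LD1_c16 LD2_c30 LD3_c28)) = (LP (LK LD1_c16 LD2_c24 LD3_c35)) :=
  Lgr Lrot11 (Lpr_ct (f70458 IH) (Lpn (LP (LK LD1_c16 LD2_c24 LD3_c35))))
theorem f207980 : Led Lsl_at (LP (LK LD1_c9 LD2_c9 LD3_c33)) = (LP (LK LD1_c16 LD2_c24 LD3_c35)) :=
  Lgr Lrot107 (Lpe (f72342 IH) (Lpr_af (f207978 IH) (Lpr_cf (f70465 IH) (Lpn (LP (LK LD1_c16 LD2_c24 LD3_c35))))))
theorem f72339 : Led Lsl_ft (LP (LK LD1_c17 LD2_c2 LD3_c31)) = (LP (LK LD1_c9 LD2_c9 LD3_c33)) :=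
  Lre_f IH (LK LD1_c17 LD2_c2 LD3_c31) (LK LD1_c9 LD2_c9 LD3_c33) Lrfl Lrfl
theorem f207984 : Led Lsl_af (LP (LK LD1_c17 LD2_c2 LD3_c31)) = (LP (LK LD1_c26 LD2_c22 LD3_c12)) :=
  Lgr Lrot45 (Lpr_ft (f72339 IH) (Lpr_at (f207980 IH) (Lpr_ft (f70467 IH) (Lpn (LP (LK LD1_c26 LD2_c22 LD3_c12))))))
theorem f207986 : Led Lsl_at (LP (LK LD1_c17 LD2_c2 LD3_c31)) = (LP (LK LD1_c26 LD2_c22 LD3_c12)) :=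
  Lgr Lrot100 (Lpr_af (f207984 IH) (Lpn (LP (LK LD1_c26 LD2_c22 LD3_c12))))
theorem f599247 : Led Lsl_dt (LP (LK LD1_c23 LD2_c10 LD3_c35)) = (LP (LK LD1_c17 LD2_c2 LD3_c31)) :=
  Lgr Lrot44 (Lpr_af (f599235 IH) (Lpr_df (f545163 IH) (Lpe (f207986 IH) (Lpn (LP (LK LD1_c17 LD2_c2 LD3_c31))))))
theorem f408122 : Led Lsl_ct (LP (LK LD1_c16 LD2_c31 LD3_c12)) = (LP (LK LD1_c8 LD2_c50 LD3_c18)) :=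
  Lre_c IH (LK LD1_c16 LD2_c31 LD3_c12) (LK LD1_c8 LD2_c50 LD3_c18) Lrfl Lrfl
theorem f206799 : Led Lsl_dt (LP (LK LD1_c4 LD2_c26 LD3_c25)) = (LP (LK LD1_c8 LD2_c50 LD3_c18)) :=
  Lre_d IH (LK LD1_c4 LD2_c26 LD3_c25) (LK LD1_c8 LD2_c50 LD3_c18) Lrfl Lrfl
theorem f920297 : Led Lsl_gt (LP (LK LD1_c17 LD2_c2 LD3_c31)) = (LP (LK LD1_c24 LD2_c36 LD3_c43)) :=
  Lgr Lrot9 (Lpe (f599247 IH) (Lpr_gt (f599263 IH) (Lpr_ct (f920291 IH) (Lpr_gt (f445134 IH) (Lpr_ct (f408122 IH) (Lpe (f206799 IH) (Lpe (K67.f38704 IH) (Lpr_gf (K67.f755562 IH) (Lpe (K67.f755548 IH) (Lpn (LP (LK LD1_c24 LD2_c36 LD3_c43))))))))))))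
theorem f72322 : Led Lsl_ft (LP (LK LD1_c9 LD2_c9 LD3_c33)) = (LP (LK LD1_c17 LD2_c2 LD3_c31)) :=
  Lre_f IH (LK LD1_c9 LD2_c9 LD3_c33) (LK LD1_c17 LD2_c2 LD3_c31) Lrfl Lrfl
theorem f72323 : Led Lsl_ft (LP (LK LD1_c11 LD2_c33 LD3_c6)) = (LP (LK LD1_c5 LD2_c53 LD3_c32)) :=
  Lre_f IH (LK LD1_c11 LD2_c33 LD3_c6) (LK LD1_c5 LD2_c53 LD3_c32) Lrfl Lrfl
theorem f72324 : Led Lsl_bt (LP (LK LD1_c17 LD2_c2 LD3_c31)) = (LP (LK LD1_c11 LD2_c33 LD3_c6)) :=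
  Lgr Lrot35 (Lpe (f72322 IH) (Lpr_bf (f72307 IH) (Lpe (f72323 IH) (Lpn (LP (LK LD1_c11 LD2_c33 LD3_c6))))))
theorem f72333 : Led Lsl_bf (LP (LK LD1_c17 LD2_c2 LD3_c31)) = (LP (LK LD1_c11 LD2_c33 LD3_c6)) :=
  Lgr Lrot24 (Lpr_bt (f72324 IH) (Lpn (LP (LK LD1_c11 LD2_c33 LD3_c6))))
theorem f72335 : Led Lsl_ct (LP (LK LD1_c11 LD2_c33 LD3_c6)) = (LP (LK LD1_c20 LD2_c30 LD3_c10)) :=
  Lre_c IH (LK LD1_c11 LD2_c33 LD3_c6) (LK LD1_c20 LD2_c30 LD3_c10) Lrfl Lrfl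
def v39320 : LQ := Led Lsl_gt (LP (LK LD1_c9 LD2_c22 LD3_c15))
theorem f908643 : Led Lsl_gt (LP (LK LD1_c9 LD2_c22 LD3_c15)) = v39320 :=
  Lrfl
theorem f908644 : Led Lsl_gf (LP (LK LD1_c20 LD2_c30 LD3_c10)) = v39320 :=
  Lgr Lrot76 (Lpr_af (K6.f104393 IH) (Lpe (K6.f104370 IH) (Lpr_gt (f908643 IH) (Lpn v39320))))
theorem f920301 : v39320 = (LP (LK LD1_c16 LD2_c33 LD3_c32)) :=
  (Llr Lrot126 (Lpe (f908644 IH) (Lpe (f72335 IH) (Lpe (f72333 IH) (Lpr_gt (f920297 IH) (Lpr_ct (K67.f755548 IH) (Lpe (K67.f755562 IH) (Lpe (K67.f445130 IH) (Lpr_bt (K67.f16543 IH) (Lpr_gt (K1.f16422 IH) (Lpe (f16437 IH) (Lpr_ct (f16442 IH) (Lpn (LP (LK LD1_c16 LD2_c33 LD3_c32))))))))))))))).symm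
theorem f37852 : Led Lsl_et (LP (LK LD1_c9 LD2_c8 LD3_c4)) = (LP (LK LD1_c17 LD2_c0 LD3_c27)) :=
  Lre_e IH (LK LD1_c9 LD2_c8 LD3_c4) (LK LD1_c17 LD2_c0 LD3_c27) Lrfl Lrfl
theorem f208632 : Led Lsl_at (LP (LK LD1_c17 LD2_c0 LD3_c27)) = (LP (LK LD1_c11 LD2_c33 LD3_c5)) :=
  Lgr Lrot80 (Lpe (f37852 IH) (Lpr_af (K39.f208626 IH) (Lpe (f72296 IH) (Lpn (LP (LK LD1_c11 LD2_c33 LD3_c5))))))
theorem f208641 : Led Lsl_ft (LP (LK LD1_c26 LD2_c55 LD3_c35)) = (LP (LK LD1_c17 LD2_c0 LD3_c27)) :=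
  Lre_f IH (LK LD1_c26 LD2_c55 LD3_c35) (LK LD1_c17 LD2_c0 LD3_c27) Lrfl Lrfl
theorem f72314 : Led Lsl_gt (LP (LK LD1_c20 LD2_c30 LD3_c17)) = (LP (LK LD1_c11 LD2_c33 LD3_c5)) :=
  Lre_g IH (LK LD1_c20 LD2_c30 LD3_c17) (LK LD1_c11 LD2_c33 LD3_c5) Lrfl Lrfl
theorem f208644 : Led Lsl_gt (LP (LK LD1_c26 LD2_c55 LD3_c35)) = (LP (LK LD1_c20 LD2_c30 LD3_c17)) :=
  Lgr Lrot5 (Lpr_ft (f208641 IH) (Lpr_at (f208632 IH) (Lpe (f72314 IH) (Lpn (LP (LK LD1_c20 LD2_c30 LD3_c17))))))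
theorem f208647 : Led Lsl_dt (LP (LK LD1_c17 LD2_c0 LD3_c28)) = (LP (LK LD1_c26 LD2_c55 LD3_c35)) :=
  Lre_d IH (LK LD1_c17 LD2_c0 LD3_c28) (LK LD1_c26 LD2_c55 LD3_c35) Lrfl Lrfl
theorem f80271 : Led Lsl_gt (LP (LK LD1_c6 LD2_c15 LD3_c60)) = (LP (LK LD1_c12 LD2_c9 LD3_c35)) :=
  Lre_g IH (LK LD1_c6 LD2_c15 LD3_c60) (LK LD1_c12 LD2_c9 LD3_c35) Lrfl Lrfl
theorem f80275 : Led Lsl_et (LP (LK LD1_c21 LD2_c15 LD3_c37)) = (LP (LK LD1_c12 LD2_c9 LD3_c35)) :=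
  Lre_e IH (LK LD1_c21 LD2_c15 LD3_c37) (LK LD1_c12 LD2_c9 LD3_c35) Lrfl Lrfl
theorem f72347 : Led Lsl_et (LP (LK LD1_c5 LD2_c53 LD3_c32)) = (LP (LK LD1_c2 LD2_c53 LD3_c5)) :=
  Lre_e IH (LK LD1_c5 LD2_c53 LD3_c32) (LK LD1_c2 LD2_c53 LD3_c5) Lrfl Lrfl
theorem f72345 : Led Lsl_dt (LP (LK LD1_c5 LD2_c53 LD3_c32)) = (LP (LK LD1_c11 LD2_c33 LD3_c5)) :=
  Lre_d IH (LK LD1_c5 LD2_c53 LD3_c32) (LK LD1_c11 LD2_c33 LD3_c5) Lrfl Lrfl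
theorem f149180 : Led Lsl_dt (LP (LK LD1_c21 LD2_c15 LD3_c37)) = (LP (LK LD1_c20 LD2_c30 LD3_c17)) :=
  Lgr Lrot136 (Lpr_et (f80275 IH) (Lpe (f80271 IH) (Lpe (K6.f80270 IH) (Lpr_dt (K6.f80269 IH) (Lpr_gf (K5.f80258 IH) (Lpr_df (K8.f149175 IH) (Lpe (K8.f72420 IH) (Lpe (f72347 IH) (Lpr_dt (f72345 IH) (Lpe (f72314 IH) (Lpn (LP (LK LD1_c20 LD2_c30 LD3_c17)))))))))))))
theorem f132658 : Led Lsl_gt (LP (LK LD1_c12 LD2_c9 LD3_c35)) = (LP (LK LD1_c17 LD2_c15 LD3_c36)) :=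
  Lgr Lrot46 (Lpe (f80271 IH) (Lpr_ft (K6.f81048 IH) (Lpr_at (K6.f132650 IH) (Lpn (LP (LK LD1_c17 LD2_c15 LD3_c36))))))
theorem f132635 : Led Lsl_af (LP (LK LD1_c12 LD2_c9 LD3_c37)) = (LP (LK LD1_c17 LD2_c15 LD3_c35)) :=
  Lgr Lrot0 (Lpr_at (K6.f132633 IH) (Lpn (LP (LK LD1_c17 LD2_c15 LD3_c35))))
theorem f81031 : Led Lsl_gt (LP (LK LD1_c21 LD2_c15 LD3_c40)) = (LP (LK LD1_c12 LD2_c9 LD3_c37)) :=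
  Lre_g IH (LK LD1_c21 LD2_c15 LD3_c40) (LK LD1_c12 LD2_c9 LD3_c37) Lrfl Lrfl
theorem f132751 : Led Lsl_ft (LP (LK LD1_c27 LD2_c5 LD3_c35)) = (LP (LK LD1_c17 LD2_c15 LD3_c35)) :=
  Lre_f IH (LK LD1_c27 LD2_c5 LD3_c35) (LK LD1_c17 LD2_c15 LD3_c35) Lrfl Lrfl
theorem f132770 : Led Lsl_gf (LP (LK LD1_c21 LD2_c15 LD3_c40)) = (LP (LK LD1_c27 LD2_c5 LD3_c35)) :=
  Lgr Lrot47 (Lpr_gt (f81031 IH) (Lpr_af (f132635 IH) (Lpe (f132751 IH) (Lpn (LP (LK LD1_c27 LD2_c5 LD3_c35))))))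
theorem f149062 : Led Lsl_gt (LP (LK LD1_c9 LD2_c7 LD3_c61)) = (LP (LK LD1_c17 LD2_c0 LD3_c20)) :=
  Lre_g IH (LK LD1_c9 LD2_c7 LD3_c61) (LK LD1_c17 LD2_c0 LD3_c20) Lrfl Lrfl
theorem f149067 : Led Lsl_et (LP (LK LD1_c26 LD2_c55 LD3_c27)) = (LP (LK LD1_c17 LD2_c0 LD3_c20)) :=
  Lre_e IH (LK LD1_c26 LD2_c55 LD3_c27) (LK LD1_c17 LD2_c0 LD3_c20) Lrfl Lrfl
theorem f81051 : Led Lsl_dt (LP (LK LD1_c6 LD2_c15 LD3_c60)) = (LP (LK LD1_c12 LD2_c9 LD3_c37)) :=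
  Lre_d IH (LK LD1_c6 LD2_c15 LD3_c60) (LK LD1_c12 LD2_c9 LD3_c37) Lrfl Lrfl
theorem f149417 : Led Lsl_dt (LP (LK LD1_c26 LD2_c55 LD3_c27)) = (LP (LK LD1_c21 LD2_c15 LD3_c40)) :=
  Lgr Lrot136 (Lpr_et (f149067 IH) (Lpe (f149062 IH) (Lpe (K7.f149039 IH) (Lpr_dt (K7.f104778 IH) (Lpr_gf (K7.f149406 IH) (Lpe (K7.f149410 IH) (Lpe (K7.f132872 IH) (Lpe (K6.f81053 IH) (Lpr_dt (f81051 IH) (Lpe (f81031 IH) (Lpn (LP (LK LD1_c21 LD2_c15 LD3_c40)))))))))))))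
theorem f149048 : Led Lsl_ft (LP (LK LD1_c17 LD2_c0 LD3_c21)) = (LP (LK LD1_c9 LD2_c7 LD3_c61)) :=
  Lre_f IH (LK LD1_c17 LD2_c0 LD3_c21) (LK LD1_c9 LD2_c7 LD3_c61) Lrfl Lrfl
theorem f137526 : Led Lsl_ft (LP (LK LD1_c5 LD2_c53 LD3_c45)) = (LP (LK LD1_c11 LD2_c33 LD3_c27)) :=
  Lre_f IH (LK LD1_c5 LD2_c53 LD3_c45) (LK LD1_c11 LD2_c33 LD3_c27) Lrfl Lrfl
theorem f149049 : Led Lsl_af (LP (LK LD1_c17 LD2_c0 LD3_c21)) = (LP (LK LD1_c11 LD2_c33 LD3_c27)) :=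
  Lgr Lrot45 (Lpr_ft (f149048 IH) (Lpr_at (K7.f149040 IH) (Lpr_ft (f137526 IH) (Lpn (LP (LK LD1_c11 LD2_c33 LD3_c27))))))
theorem f149055 : Led Lsl_at (LP (LK LD1_c17 LD2_c0 LD3_c21)) = (LP (LK LD1_c11 LD2_c33 LD3_c27)) :=
  Lgr Lrot100 (Lpr_af (f149049 IH) (Lpn (LP (LK LD1_c11 LD2_c33 LD3_c27))))
theorem f149060 : Led Lsl_ft (LP (LK LD1_c9 LD2_c7 LD3_c61)) = (LP (LK LD1_c17 LD2_c0 LD3_c21)) :=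
  Lre_f IH (LK LD1_c9 LD2_c7 LD3_c61) (LK LD1_c17 LD2_c0 LD3_c21) Lrfl Lrfl
theorem f149063 : Led Lsl_gt (LP (LK LD1_c17 LD2_c0 LD3_c20)) = (LP (LK LD1_c11 LD2_c33 LD3_c27)) :=
  Lgr Lrot46 (Lpe (f149062 IH) (Lpr_ft (f149060 IH) (Lpr_at (f149055 IH) (Lpn (LP (LK LD1_c11 LD2_c33 LD3_c27))))))
theorem f208648 : Led Lsl_et (LP (LK LD1_c17 LD2_c0 LD3_c28)) = (LP (LK LD1_c11 LD2_c33 LD3_c27)) :=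
  Lgr Lrot122 (Lpr_dt (f208647 IH) (Lpr_gt (f208644 IH) (Lpe (f149180 IH) (Lpr_et (f80275 IH) (Lpr_gt (f132658 IH) (Lpr_dt (K6.f132649 IH) (Lpe (f132770 IH) (Lpe (f149417 IH) (Lpr_et (f149067 IH) (Lpr_gt (f149063 IH) (Lpn (LP (LK LD1_c11 LD2_c33 LD3_c27)))))))))))))
theorem f104575 : Led Lsl_ct (LP (LK LD1_c11 LD2_c33 LD3_c27)) = (LP (LK LD1_c20 LD2_c30 LD3_c40)) :=
  Lre_c IH (LK LD1_c11 LD2_c33 LD3_c27) (LK LD1_c20 LD2_c30 LD3_c40) Lrfl Lrfl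
theorem f104360 : Led Lsl_et (LP (LK LD1_c5 LD2_c53 LD3_c44)) = (LP (LK LD1_c11 LD2_c33 LD3_c24)) :=
  Lre_e IH (LK LD1_c5 LD2_c53 LD3_c44) (LK LD1_c11 LD2_c33 LD3_c24) Lrfl Lrfl
theorem f104361 : Led Lsl_ft (LP (LK LD1_c11 LD2_c33 LD3_c24)) = (LP (LK LD1_c20 LD2_c30 LD3_c40)) :=
  Lre_f IH (LK LD1_c11 LD2_c33 LD3_c24) (LK LD1_c20 LD2_c30 LD3_c40) Lrfl Lrfl
theorem f104363 : Led Lsl_ft (LP (LK LD1_c17 LD2_c18 LD3_c35)) = (LP (LK LD1_c9 LD2_c22 LD3_c15)) :=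
  Lre_f IH (LK LD1_c17 LD2_c18 LD3_c35) (LK LD1_c9 LD2_c22 LD3_c15) Lrfl Lrfl
theorem f104364 : Led Lsl_et (LP (LK LD1_c20 LD2_c30 LD3_c40)) = (LP (LK LD1_c17 LD2_c18 LD3_c35)) :=
  Lgr Lrot69 (Lpe (f104361 IH) (Lpe (f104360 IH) (Lpr_ff (K6.f104356 IH) (Lpe (K6.f104362 IH) (Lpe (f104363 IH) (Lpn (LP (LK LD1_c17 LD2_c18 LD3_c35))))))))
theorem f208652 : Led Lsl_cf (LP (LK LD1_c17 LD2_c0 LD3_c28)) = (LP (LK LD1_c17 LD2_c18 LD3_c35)) :=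
  Lgr Lrot39 (Lpr_et (f208648 IH) (Lpr_ct (f104575 IH) (Lpr_et (f104364 IH) (Lpn (LP (LK LD1_c17 LD2_c18 LD3_c35))))))
theorem f208661 : Led Lsl_ft (LP (LK LD1_c17 LD2_c0 LD3_c28)) = (LP (LK LD1_c9 LD2_c8 LD3_c3)) :=
  Lre_f IH (LK LD1_c17 LD2_c0 LD3_c28) (LK LD1_c9 LD2_c8 LD3_c3) Lrfl Lrfl
theorem f208665 : Led Lsl_ct (LP (LK LD1_c9 LD2_c8 LD3_c3)) = (LP (LK LD1_c9 LD2_c22 LD3_c15)) :=
  Lgr Lrot40 (Lpe (f208661 IH) (Lpr_cf (f208652 IH) (Lpe (K6.f104370 IH) (Lpn (LP (LK LD1_c9 LD2_c22 LD3_c15))))))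
theorem f149338 : Led Lsl_et (LP (LK LD1_c9 LD2_c8 LD3_c3)) = (LP (LK LD1_c4 LD2_c35 LD3_c54)) :=
  Lre_e IH (LK LD1_c9 LD2_c8 LD3_c3) (LK LD1_c4 LD2_c35 LD3_c54) Lrfl Lrfl
theorem f150042 : Led Lsl_bf (LP (LK LD1_c9 LD2_c8 LD3_c3)) = (LP (LK LD1_c14 LD2_c59 LD3_c26)) :=
  Lgr Lrot96 (Lpr_et (f149338 IH) (Lpr_bt (K7.f150029 IH) (Lpr_et (K41.f150041 IH) (Lpn (LP (LK LD1_c14 LD2_c59 LD3_c26))))))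
theorem f103068 : Led Lsl_cf (LP (LK LD1_c4 LD2_c46 LD3_c53)) = (LP (LK LD1_c4 LD2_c44 LD3_c53)) :=
  Lgr Lrot11 (Lpr_ct (K7.f102998 IH) (Lpn (LP (LK LD1_c4 LD2_c44 LD3_c53))))
theorem f103087 : Led Lsl_bt (LP (LK LD1_c4 LD2_c46 LD3_c53)) = (LP (LK LD1_c9 LD2_c26 LD3_c30)) :=
  Lre_b IH (LK LD1_c4 LD2_c46 LD3_c53) (LK LD1_c9 LD2_c26 LD3_c30) Lrfl Lrfl
theorem f208667 : Led Lsl_cf (LP (LK LD1_c14 LD2_c59 LD3_c26)) = (LP (LK LD1_c9 LD2_c26 LD3_c30)) :=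
  Lgr Lrot97 (Lpe (f150042 IH) (Lpr_ct (f208665 IH) (Lpr_bt (K24.f103100 IH) (Lpe (f103068 IH) (Lpr_bt (f103087 IH) (Lpn (LP (LK LD1_c9 LD2_c26 LD3_c30))))))))
theorem f208675 : Led Lsl_ct (LP (LK LD1_c14 LD2_c59 LD3_c26)) = (LP (LK LD1_c9 LD2_c26 LD3_c30)) :=
  Lgr Lrot59 (Lpr_cf (f208667 IH) (Lpn (LP (LK LD1_c9 LD2_c26 LD3_c30))))
theorem f103066 : Led Lsl_bt (LP (LK LD1_c9 LD2_c26 LD3_c30)) = (LP (LK LD1_c4 LD2_c46 LD3_c53)) :=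
  Lre_b IH (LK LD1_c9 LD2_c26 LD3_c30) (LK LD1_c4 LD2_c46 LD3_c53) Lrfl Lrfl
theorem f103067 : Led Lsl_bt (LP (LK LD1_c4 LD2_c44 LD3_c53)) = (LP (LK LD1_c9 LD2_c22 LD3_c15)) :=
  Lre_b IH (LK LD1_c4 LD2_c44 LD3_c53) (LK LD1_c9 LD2_c22 LD3_c15) Lrfl Lrfl
theorem f104369 : Led Lsl_et (LP (LK LD1_c4 LD2_c44 LD3_c49)) = (LP (LK LD1_c9 LD2_c22 LD3_c15)) :=
  Lre_e IH (LK LD1_c4 LD2_c44 LD3_c49) (LK LD1_c9 LD2_c22 LD3_c15) Lrfl Lrfl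
theorem f149339 : Led Lsl_ct (LP (LK LD1_c9 LD2_c22 LD3_c15)) = (LP (LK LD1_c9 LD2_c8 LD3_c3)) :=
  Lgr Lrot15 (Lpe (f104369 IH) (Lpr_cf (K7.f149334 IH) (Lpe (f149338 IH) (Lpn (LP (LK LD1_c9 LD2_c8 LD3_c3))))))
theorem f208677 : Led Lsl_bf (LP (LK LD1_c14 LD2_c59 LD3_c26)) = (LP (LK LD1_c9 LD2_c8 LD3_c3)) :=
  Lgr Lrot90 (Lpr_ct (f208675 IH) (Lpr_bt (f103066 IH) (Lpr_ct (K7.f102998 IH) (Lpr_bt (f103067 IH) (Lpr_ct (f149339 IH) (Lpn (LP (LK LD1_c9 LD2_c8 LD3_c3))))))))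
theorem f920332 : Led Lsl_gt (LP (LK LD1_c12 LD2_c5 LD3_c57)) = (LP (LK LD1_c14 LD2_c59 LD3_c26)) :=
  Lgr Lrot164 (Lpe (f70300 IH) (Lpe (K40.f70303 IH) (Lpe (K37.f407849 IH) (Lpe (K1.f16229 IH) (Lpe (K37.f16423 IH) (Lpe (f16437 IH) (Lpr_ct (f16442 IH) (Lpq (f920301 IH) (Lpe (f908643 IH) (Lpe (f208665 IH) (Lpe (f208677 IH) (Lpn (LP (LK LD1_c14 LD2_c59 LD3_c26))))))))))))))
theorem f70313 : Led Lsl_ct (LP (LK LD1_c21 LD2_c11 LD3_c49)) = (LP (LK LD1_c12 LD2_c5 LD3_c57)) :=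
  Lre_c IH (LK LD1_c21 LD2_c11 LD3_c49) (LK LD1_c12 LD2_c5 LD3_c57) Lrfl Lrfl
theorem f70298 : Led Lsl_bt (LP (LK LD1_c7 LD2_c57 LD3_c28)) = (LP (LK LD1_c3 LD2_c58 LD3_c1)) :=
  Lre_b IH (LK LD1_c7 LD2_c57 LD3_c28) (LK LD1_c3 LD2_c58 LD3_c1) Lrfl Lrfl
theorem f70299 : Led Lsl_ct (LP (LK LD1_c15 LD2_c0 LD3_c30)) = (LP (LK LD1_c7 LD2_c57 LD3_c28)) :=
  Lre_c IH (LK LD1_c15 LD2_c0 LD3_c30) (LK LD1_c7 LD2_c57 LD3_c28) Lrfl Lrfl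
theorem f36833 : Led Lsl_ct (LP (LK LD1_c12 LD2_c5 LD3_c57)) = (LP (LK LD1_c21 LD2_c11 LD3_c49)) :=
  Lre_c IH (LK LD1_c12 LD2_c5 LD3_c57) (LK LD1_c21 LD2_c11 LD3_c49) Lrfl Lrfl
theorem f70301 : Led Lsl_bf (LP (LK LD1_c15 LD2_c0 LD3_c30)) = (LP (LK LD1_c21 LD2_c11 LD3_c49)) :=
  Lgr Lrot90 (Lpr_ct (f70299 IH) (Lpr_bt (f70298 IH) (Lpr_ct (K37.f70296 IH) (Lpr_bt (f70300 IH) (Lpr_ct (f36833 IH) (Lpn (LP (LK LD1_c21 LD2_c11 LD3_c49))))))))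
theorem f110599 : Led Lsl_at (LP (LK LD1_c9 LD2_c26 LD3_c29)) = (LP (LK LD1_c17 LD2_c11 LD3_c8)) :=
  Lgr Lrot100 (Lpr_af (K37.f110589 IH) (Lpn (LP (LK LD1_c17 LD2_c11 LD3_c8))))
theorem f99045 : Led Lsl_ft (LP (LK LD1_c4 LD2_c46 LD3_c51)) = (LP (LK LD1_c9 LD2_c26 LD3_c29)) :=
  Lre_f IH (LK LD1_c4 LD2_c46 LD3_c51) (LK LD1_c9 LD2_c26 LD3_c29) Lrfl Lrfl
theorem f110742 : Led Lsl_gt (LP (LK LD1_c9 LD2_c26 LD3_c26)) = (LP (LK LD1_c17 LD2_c11 LD3_c8)) :=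
  Lgr Lrot46 (Lpe (K70.f98923 IH) (Lpr_ft (f99045 IH) (Lpr_at (f110599 IH) (Lpn (LP (LK LD1_c17 LD2_c11 LD3_c8))))))
def v38822 : LQ := Led Lsl_ft (LP (LK LD1_c9 LD2_c16 LD3_c13))
theorem f904740 : Led Lsl_ft (LP (LK LD1_c9 LD2_c16 LD3_c13)) = v38822 :=
  Lrfl
theorem f102952 : Led Lsl_at (LP (LK LD1_c9 LD2_c16 LD3_c13)) = (LP (LK LD1_c4 LD2_c44 LD3_c60)) :=
  Lgr Lrot80 (Lpe (K6.f78656 IH) (Lpr_af (K3.f102947 IH) (Lpe (K7.f99009 IH) (Lpn (LP (LK LD1_c4 LD2_c44 LD3_c60))))))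
theorem f110585 : Led Lsl_cf (LP (LK LD1_c9 LD2_c16 LD3_c13)) = (LP (LK LD1_c9 LD2_c16 LD3_c29)) :=
  Lgr Lrot1 (Lpr_at (f102952 IH) (Lpr_ct (K11.f99022 IH) (Lpr_at (K37.f110580 IH) (Lpn (LP (LK LD1_c9 LD2_c16 LD3_c29))))))
theorem f110741 : Led Lsl_ft (LP (LK LD1_c17 LD2_c11 LD3_c8)) = (LP (LK LD1_c9 LD2_c16 LD3_c29)) :=
  Lre_f IH (LK LD1_c17 LD2_c11 LD3_c8) (LK LD1_c9 LD2_c16 LD3_c29) Lrfl Lrfl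
theorem f904743 : Led Lsl_cf (LP (LK LD1_c17 LD2_c11 LD3_c8)) = v38822 :=
  Lgr Lrot108 (Lpr_ft (f110741 IH) (Lpe (f110585 IH) (Lpr_ft (f904740 IH) (Lpn v38822))))
theorem f104368 : Led Lsl_ft (LP (LK LD1_c20 LD2_c30 LD3_c40)) = (LP (LK LD1_c11 LD2_c33 LD3_c24)) :=
  Lre_f IH (LK LD1_c20 LD2_c30 LD3_c40) (LK LD1_c11 LD2_c33 LD3_c24) Lrfl Lrfl
theorem f904742 : Led Lsl_bf (LP (LK LD1_c20 LD2_c30 LD3_c40)) = v38822 :=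
  Lgr Lrot61 (Lpr_ft (f104368 IH) (Lpr_bt (K6.f104577 IH) (Lpr_ft (f904740 IH) (Lpn v38822))))
theorem f920338 : Led Lsl_gf (LP (LK LD1_c15 LD2_c0 LD3_c30)) = (LP (LK LD1_c20 LD2_c30 LD3_c40)) :=
  Lgr Lrot124 (Lpr_bf (f70301 IH) (Lpr_ct (f70313 IH) (Lpr_gt (f920332 IH) (Lpr_cf (f208667 IH) (Lpr_bt (f103066 IH) (Lpr_gt (K70.f103076 IH) (Lpq (K70.f910710 IH) (Lpe (K70.f910685 IH) (Lpr_gt (f110742 IH) (Lpr_cf (f904743 IH) (Lpe (f904742 IH) (Lpn (LP (LK LD1_c20 LD2_c30 LD3_c40))))))))))))))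
theorem f920339 : Led Lsl_gt (LP (LK LD1_c20 LD2_c30 LD3_c40)) = (LP (LK LD1_c15 LD2_c0 LD3_c30)) :=
  Leop (Lpr_gf (f920338 IH) (Lpn (LP (LK LD1_c20 LD2_c30 LD3_c40))))
theorem seed_2424 : LEOK LG_g (LK LD1_c20 LD2_c30 LD3_c40) :=
  Leoe_g (LK LD1_c20 LD2_c30 LD3_c40) (f920339 IH)
theorem f150113 : Led Lsl_et (LP (LK LD1_c7 LD2_c56 LD3_c43)) = (LP (LK LD1_c14 LD2_c59 LD3_c28)) :=
  Lre_e IH (LK LD1_c7 LD2_c56 LD3_c43) (LK LD1_c14 LD2_c59 LD3_c28) Lrfl Lrfl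
theorem f70312 : Led Lsl_ct (LP (LK LD1_c7 LD2_c57 LD3_c28)) = (LP (LK LD1_c15 LD2_c0 LD3_c30)) :=
  Lre_c IH (LK LD1_c7 LD2_c57 LD3_c28) (LK LD1_c15 LD2_c0 LD3_c30) Lrfl Lrfl
theorem f444841 : Led Lsl_bt (LP (LK LD1_c4 LD2_c0 LD3_c55)) = (LP (LK LD1_c8 LD2_c2 LD3_c34)) :=
  Lre_b IH (LK LD1_c4 LD2_c0 LD3_c55) (LK LD1_c8 LD2_c2 LD3_c34) Lrfl Lrfl
theorem f81563 : Led Lsl_gt (LP (LK LD1_c8 LD2_c2 LD3_c34)) = (LP (LK LD1_c15 LD2_c8 LD3_c28)) :=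
  Lre_g IH (LK LD1_c8 LD2_c2 LD3_c34) (LK LD1_c15 LD2_c8 LD3_c28) Lrfl Lrfl
def v37139 : LQ := Led Lsl_ft (LP (LK LD1_c8 LD2_c46 LD3_c15))
theorem f893193 : Led Lsl_ft (LP (LK LD1_c8 LD2_c46 LD3_c15)) = v37139 :=
  Lrfl
theorem f893195 : Led Lsl_ff (LP (LK LD1_c8 LD2_c46 LD3_c15)) = v37139 :=
  Lgr Lrot3 (Lpr_ft (f893193 IH) (Lpn v37139))
theorem f893196 : Led Lsl_bt (LP (LK LD1_c11 LD2_c33 LD3_c27)) = v37139 :=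
  Lgr Lrot35 (Lpe (f137526 IH) (Lpr_bf (K6.f137519 IH) (Lpr_ff (f893195 IH) (Lpn v37139))))
theorem f920365 : (LP (LK LD1_c15 LD2_c8 LD3_c28)) = v37139 :=
  (Llr Lrot164 (Lpe (f81563 IH) (Lpe (f444841 IH) (Lpr_ct (K37.f444830 IH) (Lpe (K1.f16422 IH) (Lpr_cf (K1.f37884 IH) (Lpe (K37.f38734 IH) (Lpe (f70298 IH) (Lpr_ct (f70312 IH) (Lpr_gf (f920338 IH) (Lpe (f104575 IH) (Lpr_bt (f893196 IH) (Lpn v37139))))))))))))).symm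
theorem f150127 : Led Lsl_et (LP (LK LD1_c14 LD2_c59 LD3_c27)) = (LP (LK LD1_c24 LD2_c46 LD3_c58)) :=
  Lre_e IH (LK LD1_c14 LD2_c59 LD3_c27) (LK LD1_c24 LD2_c46 LD3_c58) Lrfl Lrfl
theorem f150128 : Led Lsl_bf (LP (LK LD1_c17 LD2_c24 LD3_c18)) = (LP (LK LD1_c24 LD2_c46 LD3_c58)) :=
  Lgr Lrot96 (Lpr_et (K37.f110730 IH) (Lpr_bt (K7.f150117 IH) (Lpr_et (f150127 IH) (Lpn (LP (LK LD1_c24 LD2_c46 LD3_c58))))))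
theorem f150132 : Led Lsl_bt (LP (LK LD1_c17 LD2_c24 LD3_c18)) = (LP (LK LD1_c24 LD2_c46 LD3_c58)) :=
  Lgr Lrot127 (Lpr_bf (f150128 IH) (Lpn (LP (LK LD1_c24 LD2_c46 LD3_c58))))
theorem f110748 : Led Lsl_at (LP (LK LD1_c9 LD2_c26 LD3_c25)) = (LP (LK LD1_c17 LD2_c24 LD3_c18)) :=
  Lre_a IH (LK LD1_c9 LD2_c26 LD3_c25) (LK LD1_c17 LD2_c24 LD3_c18) Lrfl Lrfl
theorem f110582 : Led Lsl_af (LP (LK LD1_c4 LD2_c46 LD3_c51)) = (LP (LK LD1_c9 LD2_c16 LD3_c29)) :=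
  Lgr Lrot0 (Lpr_at (K37.f110580 IH) (Lpn (LP (LK LD1_c9 LD2_c16 LD3_c29))))
theorem f150136 : Led Lsl_af (LP (LK LD1_c16 LD2_c24 LD3_c34)) = (LP (LK LD1_c24 LD2_c46 LD3_c58)) :=
  Lgr Lrot36 (Lpe (K6.f137530 IH) (Lpe (f110582 IH) (Lpr_bt (K11.f99034 IH) (Lpr_at (f110748 IH) (Lpr_bt (f150132 IH) (Lpn (LP (LK LD1_c24 LD2_c46 LD3_c58))))))))
theorem f150134 : Led Lsl_ct (LP (LK LD1_c14 LD2_c59 LD3_c28)) = (LP (LK LD1_c24 LD2_c46 LD3_c58)) :=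
  Lre_c IH (LK LD1_c14 LD2_c59 LD3_c28) (LK LD1_c24 LD2_c46 LD3_c58) Lrfl Lrfl
theorem f150138 : Led Lsl_at (LP (LK LD1_c8 LD2_c46 LD3_c15)) = (LP (LK LD1_c14 LD2_c59 LD3_c28)) :=
  Lgr Lrot107 (Lpe (K6.f137523 IH) (Lpr_af (f150136 IH) (Lpe (f150134 IH) (Lpn (LP (LK LD1_c14 LD2_c59 LD3_c28))))))
def v35721 : LQ := Led Lsl_ft (LP (LK LD1_c8 LD2_c2 LD3_c34))
theorem f877041 : Led Lsl_ft (LP (LK LD1_c8 LD2_c2 LD3_c34)) = v35721 :=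
  Lrfl
theorem f877043 : Led Lsl_ff (LP (LK LD1_c8 LD2_c2 LD3_c34)) = v35721 :=
  Lgr Lrot3 (Lpr_ft (f877041 IH) (Lpn v35721))
theorem f30634 : Led Lsl_bt (LP (LK LD1_c8 LD2_c2 LD3_c34)) = (LP (LK LD1_c4 LD2_c0 LD3_c55)) :=
  Lre_b IH (LK LD1_c8 LD2_c2 LD3_c34) (LK LD1_c4 LD2_c0 LD3_c55) Lrfl Lrfl
theorem f877044 : Led Lsl_bt K68.v12311 = v35721 :=
  Lgr Lrot35 (Lpe (K68.f689307 IH) (Lpe (f30634 IH) (Lpr_ff (f877043 IH) (Lpn v35721))))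
theorem f70619 : Led Lsl_bt (LP (LK LD1_c4 LD2_c0 LD3_c12)) = (LP (LK LD1_c8 LD2_c1 LD3_c24)) :=
  Lre_b IH (LK LD1_c4 LD2_c0 LD3_c12) (LK LD1_c8 LD2_c1 LD3_c24) Lrfl Lrfl
theorem f877109 : v35721 = (LP (LK LD1_c8 LD2_c1 LD3_c24)) :=
  Lefun (Lecon (f877044 IH) (K68.f877095 IH).symm) (f70619 IH)
theorem f689300 : Led Lsl_at (LP (LK LD1_c8 LD2_c1 LD3_c24)) = (LP (LK LD1_c15 LD2_c6 LD3_c30)) :=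
  Lre_a IH (LK LD1_c8 LD2_c1 LD3_c24) (LK LD1_c15 LD2_c6 LD3_c30) Lrfl Lrfl
theorem f877953 : Led Lsl_gf (LP (LK LD1_c15 LD2_c6 LD3_c30)) = (LP (LK LD1_c15 LD2_c8 LD3_c28)) :=
  Lgr Lrot76 (Lpe (f689300 IH) (Lpq (f877109 IH) (Lpe (f877041 IH) (Lpr_gt (f81563 IH) (Lpn (LP (LK LD1_c15 LD2_c8 LD3_c28)))))))
theorem f35728 : Led Lsl_bt (LP (LK LD1_c8 LD2_c51 LD3_c28)) = (LP (LK LD1_c16 LD2_c33 LD3_c33)) :=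
  Lre_b IH (LK LD1_c8 LD2_c51 LD3_c28) (LK LD1_c16 LD2_c33 LD3_c33) Lrfl Lrfl
theorem f444978 : Led Lsl_bt (LP (LK LD1_c16 LD2_c32 LD3_c21)) = (LP (LK LD1_c8 LD2_c50 LD3_c55)) :=
  Lre_b IH (LK LD1_c16 LD2_c32 LD3_c21) (LK LD1_c8 LD2_c50 LD3_c55) Lrfl Lrfl
theorem f877440 : Led Lsl_ft (LP (LK LD1_c16 LD2_c33 LD3_c33)) = (LP (LK LD1_c16 LD2_c32 LD3_c21)) :=
  Lgr Lrot75 (Lpe (f35728 IH) (Lpr_ff (K69.f877438 IH) (Lpe (f444978 IH) (Lpn (LP (LK LD1_c16 LD2_c32 LD3_c21))))))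
theorem f38674 : Led Lsl_dt (LP (LK LD1_c8 LD2_c51 LD3_c27)) = (LP (LK LD1_c16 LD2_c33 LD3_c33)) :=
  Lre_d IH (LK LD1_c8 LD2_c51 LD3_c27) (LK LD1_c16 LD2_c33 LD3_c33) Lrfl Lrfl
theorem f70687 : Led Lsl_dt (LP (LK LD1_c16 LD2_c32 LD3_c21)) = (LP (LK LD1_c8 LD2_c50 LD3_c54)) :=
  Lre_d IH (LK LD1_c16 LD2_c32 LD3_c21) (LK LD1_c8 LD2_c50 LD3_c54) Lrfl Lrfl
theorem f877744 : Led Lsl_ff (LP (LK LD1_c8 LD2_c51 LD3_c27)) = (LP (LK LD1_c8 LD2_c50 LD3_c54)) :=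
  Lgr Lrot19 (Lpr_dt (f38674 IH) (Lpr_ft (f877440 IH) (Lpr_dt (f70687 IH) (Lpn (LP (LK LD1_c8 LD2_c50 LD3_c54))))))
theorem f877753 : Led Lsl_ft (LP (LK LD1_c8 LD2_c51 LD3_c27)) = (LP (LK LD1_c8 LD2_c50 LD3_c54)) :=
  Lgr Lrot48 (Lpr_ff (f877744 IH) (Lpn (LP (LK LD1_c8 LD2_c50 LD3_c54))))
theorem f16438 : Led Lsl_ct (LP (LK LD1_c16 LD2_c33 LD3_c32)) = (LP (LK LD1_c8 LD2_c51 LD3_c27)) :=
  Lre_c IH (LK LD1_c16 LD2_c33 LD3_c32) (LK LD1_c8 LD2_c51 LD3_c27) Lrfl Lrfl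
theorem f16560 : Led Lsl_ct (LP (LK LD1_c8 LD2_c50 LD3_c54)) = (LP (LK LD1_c16 LD2_c32 LD3_c20)) :=
  Lre_c IH (LK LD1_c8 LD2_c50 LD3_c54) (LK LD1_c16 LD2_c32 LD3_c20) Lrfl Lrfl
theorem f877756 : Led Lsl_ff (LP (LK LD1_c16 LD2_c33 LD3_c32)) = (LP (LK LD1_c16 LD2_c32 LD3_c20)) :=
  Lgr Lrot23 (Lpr_ct (f16438 IH) (Lpr_ft (f877753 IH) (Lpr_ct (f16560 IH) (Lpn (LP (LK LD1_c16 LD2_c32 LD3_c20))))))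
theorem f445019 : Led Lsl_dt (LP (LK LD1_c16 LD2_c33 LD3_c32)) = (LP (LK LD1_c26 LD2_c30 LD3_c14)) :=
  Lre_d IH (LK LD1_c16 LD2_c33 LD3_c32) (LK LD1_c26 LD2_c30 LD3_c14) Lrfl Lrfl
theorem f70682 : Led Lsl_dt (LP (LK LD1_c26 LD2_c28 LD3_c59)) = (LP (LK LD1_c16 LD2_c32 LD3_c20)) :=
  Lre_d IH (LK LD1_c26 LD2_c28 LD3_c59) (LK LD1_c16 LD2_c32 LD3_c20) Lrfl Lrfl
theorem f877760 : Led Lsl_ft (LP (LK LD1_c26 LD2_c30 LD3_c14)) = (LP (LK LD1_c26 LD2_c28 LD3_c59)) :=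
  Lgr Lrot54 (Lpe (f445019 IH) (Lpr_ff (f877756 IH) (Lpe (f70682 IH) (Lpn (LP (LK LD1_c26 LD2_c28 LD3_c59))))))
theorem f877764 : Led Lsl_ff (LP (LK LD1_c26 LD2_c30 LD3_c14)) = (LP (LK LD1_c26 LD2_c28 LD3_c59)) :=
  Lgr Lrot3 (Lpr_ft (f877760 IH) (Lpn (LP (LK LD1_c26 LD2_c28 LD3_c59))))
theorem f38644 : Led Lsl_df (LP (LK LD1_c8 LD2_c51 LD3_c29)) = (LP (LK LD1_c12 LD2_c7 LD3_c10)) :=
  Lgr Lrot38 (Lpr_dt (K37.f38638 IH) (Lpn (LP (LK LD1_c12 LD2_c7 LD3_c10))))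
theorem f445007 : Led Lsl_ct (LP (LK LD1_c8 LD2_c2 LD3_c36)) = (LP (LK LD1_c8 LD2_c51 LD3_c29)) :=
  Lgr Lrot7 (Lpr_df (K61.f81516 IH) (Lpr_gf (K37.f34478 IH) (Lpe (K37.f81228 IH) (Lpr_gf (K46.f81352 IH) (Lpr_cf (K57.f445005 IH) (Lpr_gt (K37.f443764 IH) (Lpr_dt (K37.f60323 IH) (Lpe (K37.f443760 IH) (Lpe (f38644 IH) (Lpn (LP (LK LD1_c8 LD2_c51 LD3_c29))))))))))))
theorem f81512 : Led Lsl_bt (LP (LK LD1_c15 LD2_c8 LD3_c32)) = (LP (LK LD1_c8 LD2_c2 LD3_c36)) :=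
  Lre_b IH (LK LD1_c15 LD2_c8 LD3_c32) (LK LD1_c8 LD2_c2 LD3_c36) Lrfl Lrfl
theorem f81554 : Led Lsl_ct (LP (LK LD1_c24 LD2_c57 LD3_c25)) = (LP (LK LD1_c15 LD2_c8 LD3_c32)) :=
  Lre_c IH (LK LD1_c24 LD2_c57 LD3_c25) (LK LD1_c15 LD2_c8 LD3_c32) Lrfl Lrfl
theorem f38664 : Led Lsl_bt (LP (LK LD1_c8 LD2_c51 LD3_c29)) = (LP (LK LD1_c16 LD2_c33 LD3_c34)) :=
  Lre_b IH (LK LD1_c8 LD2_c51 LD3_c29) (LK LD1_c16 LD2_c33 LD3_c34) Lrfl Lrfl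
theorem f38673 : Led Lsl_ct (LP (LK LD1_c16 LD2_c33 LD3_c34)) = (LP (LK LD1_c26 LD2_c30 LD3_c15)) :=
  Lre_c IH (LK LD1_c16 LD2_c33 LD3_c34) (LK LD1_c26 LD2_c30 LD3_c15) Lrfl Lrfl
theorem f445009 : Led Lsl_bf (LP (LK LD1_c24 LD2_c57 LD3_c25)) = (LP (LK LD1_c26 LD2_c30 LD3_c15)) :=
  Lgr Lrot90 (Lpr_ct (f81554 IH) (Lpr_bt (f81512 IH) (Lpr_ct (f445007 IH) (Lpr_bt (f38664 IH) (Lpr_ct (f38673 IH) (Lpn (LP (LK LD1_c26 LD2_c30 LD3_c15))))))))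
theorem f445013 : Led Lsl_et (LP (LK LD1_c24 LD2_c57 LD3_c25)) = (LP (LK LD1_c15 LD2_c8 LD3_c30)) :=
  Lre_e IH (LK LD1_c24 LD2_c57 LD3_c25) (LK LD1_c15 LD2_c8 LD3_c30) Lrfl Lrfl
theorem f445014 : Led Lsl_et (LP (LK LD1_c16 LD2_c33 LD3_c32)) = (LP (LK LD1_c26 LD2_c30 LD3_c15)) :=
  Lre_e IH (LK LD1_c16 LD2_c33 LD3_c32) (LK LD1_c26 LD2_c30 LD3_c15) Lrfl Lrfl
theorem f445015 : Led Lsl_bt (LP (LK LD1_c15 LD2_c8 LD3_c30)) = (LP (LK LD1_c16 LD2_c33 LD3_c32)) :=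
  Lgr Lrot119 (Lpe (f445013 IH) (Lpr_bf (f445009 IH) (Lpe (f445014 IH) (Lpn (LP (LK LD1_c16 LD2_c33 LD3_c32))))))
theorem f30636 : Led Lsl_dt (LP (LK LD1_c24 LD2_c57 LD3_c24)) = (LP (LK LD1_c15 LD2_c8 LD3_c30)) :=
  Lre_d IH (LK LD1_c24 LD2_c57 LD3_c24) (LK LD1_c15 LD2_c8 LD3_c30) Lrfl Lrfl
theorem f445020 : Led Lsl_bf (LP (LK LD1_c24 LD2_c57 LD3_c24)) = (LP (LK LD1_c26 LD2_c30 LD3_c14)) :=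
  Lgr Lrot93 (Lpr_dt (f30636 IH) (Lpr_bt (f445015 IH) (Lpr_dt (f445019 IH) (Lpn (LP (LK LD1_c26 LD2_c30 LD3_c14))))))
theorem f70628 : Led Lsl_bt (LP (LK LD1_c4 LD2_c26 LD3_c40)) = (LP (LK LD1_c8 LD2_c50 LD3_c54)) :=
  Lre_b IH (LK LD1_c4 LD2_c26 LD3_c40) (LK LD1_c8 LD2_c50 LD3_c54) Lrfl Lrfl
theorem f30112 : Led Lsl_bt (LP (LK LD1_c8 LD2_c1 LD3_c24)) = (LP (LK LD1_c4 LD2_c0 LD3_c12)) :=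
  Lre_b IH (LK LD1_c8 LD2_c1 LD3_c24) (LK LD1_c4 LD2_c0 LD3_c12) Lrfl Lrfl
theorem f70644 : Led Lsl_ct (LP (LK LD1_c15 LD2_c6 LD3_c31)) = (LP (LK LD1_c8 LD2_c1 LD3_c24)) :=
  Lre_c IH (LK LD1_c15 LD2_c6 LD3_c31) (LK LD1_c8 LD2_c1 LD3_c24) Lrfl Lrfl
theorem f70645 : Led Lsl_bt (LP (LK LD1_c16 LD2_c32 LD3_c20)) = (LP (LK LD1_c15 LD2_c6 LD3_c31)) :=
  Lgr Lrot128 (Lpe (f16560 IH) (Lpe (f70628 IH) (Lpr_cf (K37.f70622 IH) (Lpe (f30112 IH) (Lpe (f70644 IH) (Lpn (LP (LK LD1_c15 LD2_c6 LD3_c31))))))))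
theorem f70683 : Led Lsl_dt (LP (LK LD1_c15 LD2_c6 LD3_c31)) = (LP (LK LD1_c24 LD2_c54 LD3_c39)) :=
  Lre_d IH (LK LD1_c15 LD2_c6 LD3_c31) (LK LD1_c24 LD2_c54 LD3_c39) Lrfl Lrfl
theorem f70684 : Led Lsl_bf (LP (LK LD1_c26 LD2_c28 LD3_c59)) = (LP (LK LD1_c24 LD2_c54 LD3_c39)) :=
  Lgr Lrot93 (Lpr_dt (f70682 IH) (Lpr_bt (f70645 IH) (Lpr_dt (f70683 IH) (Lpn (LP (LK LD1_c24 LD2_c54 LD3_c39))))))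
theorem f877766 : Led Lsl_ft (LP (LK LD1_c24 LD2_c57 LD3_c24)) = (LP (LK LD1_c24 LD2_c54 LD3_c39)) :=
  Lgr Lrot75 (Lpr_bf (f445020 IH) (Lpr_ff (f877764 IH) (Lpr_bf (f70684 IH) (Lpn (LP (LK LD1_c24 LD2_c54 LD3_c39))))))
theorem f445024 : Led Lsl_dt (LP (LK LD1_c15 LD2_c8 LD3_c30)) = (LP (LK LD1_c24 LD2_c57 LD3_c24)) :=
  Lre_d IH (LK LD1_c15 LD2_c8 LD3_c30) (LK LD1_c24 LD2_c57 LD3_c24) Lrfl Lrfl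
theorem f70694 : Led Lsl_dt (LP (LK LD1_c24 LD2_c54 LD3_c39)) = (LP (LK LD1_c15 LD2_c6 LD3_c31)) :=
  Lre_d IH (LK LD1_c24 LD2_c54 LD3_c39) (LK LD1_c15 LD2_c6 LD3_c31) Lrfl Lrfl
theorem f877768 : Led Lsl_ff (LP (LK LD1_c15 LD2_c8 LD3_c30)) = (LP (LK LD1_c15 LD2_c6 LD3_c31)) :=
  Lgr Lrot19 (Lpr_dt (f445024 IH) (Lpr_ft (f877766 IH) (Lpr_dt (f70694 IH) (Lpn (LP (LK LD1_c15 LD2_c6 LD3_c31))))))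
theorem f445471 : Led Lsl_at (LP (LK LD1_c15 LD2_c8 LD3_c30)) = (LP (LK LD1_c24 LD2_c57 LD3_c21)) :=
  Lre_a IH (LK LD1_c15 LD2_c8 LD3_c30) (LK LD1_c24 LD2_c57 LD3_c21) Lrfl Lrfl
theorem f70695 : Led Lsl_at (LP (LK LD1_c24 LD2_c54 LD3_c38)) = (LP (LK LD1_c15 LD2_c6 LD3_c31)) :=
  Lre_a IH (LK LD1_c24 LD2_c54 LD3_c38) (LK LD1_c15 LD2_c6 LD3_c31) Lrfl Lrfl
theorem f877770 : Led Lsl_ft (LP (LK LD1_c24 LD2_c57 LD3_c21)) = (LP (LK LD1_c24 LD2_c54 LD3_c38)) :=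
  Lgr Lrot101 (Lpe (f445471 IH) (Lpr_ff (f877768 IH) (Lpe (f70695 IH) (Lpn (LP (LK LD1_c24 LD2_c54 LD3_c38))))))
theorem f877774 : Led Lsl_ct (LP (LK LD1_c15 LD2_c8 LD3_c29)) = (LP (LK LD1_c24 LD2_c57 LD3_c21)) :=
  Lre_c IH (LK LD1_c15 LD2_c8 LD3_c29) (LK LD1_c24 LD2_c57 LD3_c21) Lrfl Lrfl
theorem f876995 : Led Lsl_ct (LP (LK LD1_c24 LD2_c54 LD3_c38)) = (LP (LK LD1_c15 LD2_c6 LD3_c30)) :=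
  Lre_c IH (LK LD1_c24 LD2_c54 LD3_c38) (LK LD1_c15 LD2_c6 LD3_c30) Lrfl Lrfl
theorem f877776 : Led Lsl_ff (LP (LK LD1_c15 LD2_c8 LD3_c29)) = (LP (LK LD1_c15 LD2_c6 LD3_c30)) :=
  Lgr Lrot23 (Lpr_ct (f877774 IH) (Lpr_ft (f877770 IH) (Lpr_ct (f876995 IH) (Lpn (LP (LK LD1_c15 LD2_c6 LD3_c30))))))
theorem f689303 : Led Lsl_at (LP (LK LD1_c15 LD2_c8 LD3_c29)) = (LP (LK LD1_c8 LD2_c2 LD3_c34)) :=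
  Lre_a IH (LK LD1_c15 LD2_c8 LD3_c29) (LK LD1_c8 LD2_c2 LD3_c34) Lrfl Lrfl
def v35720 : LQ := Led Lsl_gf (LP (LK LD1_c8 LD2_c2 LD3_c34))
theorem f877040 : Led Lsl_gf (LP (LK LD1_c8 LD2_c2 LD3_c34)) = v35720 :=
  Lrfl
theorem f877788 : Led Lsl_gf v35720 = (LP (LK LD1_c15 LD2_c6 LD3_c30)) :=
  Lgr Lrot47 (Lpe (f877040 IH) (Lpe (f689303 IH) (Lpr_ff (f877776 IH) (Lpn (LP (LK LD1_c15 LD2_c6 LD3_c30))))))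
theorem f920370 : (LP (LK LD1_c14 LD2_c59 LD3_c28)) = v35720 :=
  (Llr Lrot26 (Lpe (f150138 IH) (Lpr_ff (f893195 IH) (Lpq (f920365 IH) (Lpe (f877953 IH) (Lpe (f877788 IH) (Lpn v35720))))))).symm
theorem f81562 : Led Lsl_et (LP (LK LD1_c15 LD2_c8 LD3_c32)) = (LP (LK LD1_c8 LD2_c2 LD3_c34)) :=
  Lre_e IH (LK LD1_c15 LD2_c8 LD3_c32) (LK LD1_c8 LD2_c2 LD3_c34) Lrfl Lrfl
theorem f81547 : Led Lsl_bt (LP (LK LD1_c8 LD2_c2 LD3_c36)) = (LP (LK LD1_c15 LD2_c8 LD3_c32)) :=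
  Lre_b IH (LK LD1_c8 LD2_c2 LD3_c36) (LK LD1_c15 LD2_c8 LD3_c32) Lrfl Lrfl
theorem f34485 : Led Lsl_bt (LP (LK LD1_c15 LD2_c10 LD3_c56)) = (LP (LK LD1_c8 LD2_c3 LD3_c53)) :=
  Lre_b IH (LK LD1_c15 LD2_c10 LD3_c56) (LK LD1_c8 LD2_c3 LD3_c53) Lrfl Lrfl
theorem f81548 : Led Lsl_dt (LP (LK LD1_c15 LD2_c8 LD3_c32)) = (LP (LK LD1_c15 LD2_c10 LD3_c56)) :=
  Lgr Lrot79 (Lpe (f81547 IH) (Lpr_df (K61.f81516 IH) (Lpe (f34485 IH) (Lpn (LP (LK LD1_c15 LD2_c10 LD3_c56))))))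
theorem f920373 : Led Lsl_gf (LP (LK LD1_c16 LD2_c24 LD3_c20)) = (LP (LK LD1_c15 LD2_c10 LD3_c56)) :=
  Lgr Lrot145 (Lpe (K5.f81024 IH) (Lpr_et (K8.f81036 IH) (Lpe (K4.f112585 IH) (Lpr_dt (K2.f35963 IH) (Lpe (K6.f36019 IH) (Lpr_df (K28.f150110 IH) (Lpr_et (f150113 IH) (Lpqs (f920370 IH) (Lpe (f877040 IH) (Lpe (f81562 IH) (Lpr_dt (f81548 IH) (Lpn (LP (LK LD1_c15 LD2_c10 LD3_c56))))))))))))))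
theorem f81020 : Led Lsl_bf (LP (LK LD1_c16 LD2_c24 LD3_c20)) = (LP (LK LD1_c12 LD2_c9 LD3_c37)) :=
  Lgr Lrot24 (Lpr_bt (K5.f81016 IH) (Lpn (LP (LK LD1_c12 LD2_c9 LD3_c37))))
theorem f81023 : Led Lsl_ct (LP (LK LD1_c12 LD2_c9 LD3_c37)) = (LP (LK LD1_c21 LD2_c15 LD3_c41)) :=
  Lre_c IH (LK LD1_c12 LD2_c9 LD3_c37) (LK LD1_c21 LD2_c15 LD3_c41) Lrfl Lrfl
theorem f81513 : Led Lsl_bt (LP (LK LD1_c8 LD2_c3 LD3_c53)) = (LP (LK LD1_c15 LD2_c10 LD3_c56)) :=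
  Lre_b IH (LK LD1_c8 LD2_c3 LD3_c53) (LK LD1_c15 LD2_c10 LD3_c56) Lrfl Lrfl
theorem f34481 : Led Lsl_ct (LP (LK LD1_c8 LD2_c3 LD3_c53)) = (LP (LK LD1_c15 LD2_c10 LD3_c57)) :=
  Lre_c IH (LK LD1_c8 LD2_c3 LD3_c53) (LK LD1_c15 LD2_c10 LD3_c57) Lrfl Lrfl
def v35828 : LQ := Led Lsl_ft (LP (LK LD1_c8 LD2_c10 LD3_c41))
theorem f878685 : Led Lsl_ft (LP (LK LD1_c8 LD2_c10 LD3_c41)) = v35828 :=
  Lrfl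
theorem f878689 : Led Lsl_ff (LP (LK LD1_c8 LD2_c10 LD3_c41)) = v35828 :=
  Lgr Lrot3 (Lpr_ft (f878685 IH) (Lpn v35828))
theorem f69864 : Led Lsl_ct (LP (LK LD1_c29 LD2_c54 LD3_c9)) = (LP (LK LD1_c21 LD2_c12 LD3_c38)) :=
  Lre_c IH (LK LD1_c29 LD2_c54 LD3_c9) (LK LD1_c21 LD2_c12 LD3_c38) Lrfl Lrfl
theorem f69893 : Led Lsl_cf (LP (LK LD1_c29 LD2_c54 LD3_c16)) = (LP (LK LD1_c25 LD2_c3 LD3_c10)) :=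
  Lgr Lrot1 (Lpe (K10.f69860 IH) (Lpr_ct (f69864 IH) (Lpr_at (K2.f69882 IH) (Lpn (LP (LK LD1_c25 LD2_c3 LD3_c10))))))
theorem f69974 : Led Lsl_ef (LP (LK LD1_c25 LD2_c3 LD3_c10)) = (LP (LK LD1_c16 LD2_c23 LD3_c42)) :=
  Lgr Lrot28 (Lpe (f69893 IH) (Lpr_et (K2.f69969 IH) (Lpr_ct (K32.f69973 IH) (Lpn (LP (LK LD1_c16 LD2_c23 LD3_c42))))))
theorem f81357 : Led Lsl_df (LP (LK LD1_c6 LD2_c14 LD3_c14)) = (LP (LK LD1_c8 LD2_c5 LD3_c23)) :=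
  Lgr Lrot70 (Lpr_et (K32.f81350 IH) (Lpr_dt (K10.f69989 IH) (Lpe (f69974 IH) (Lpr_dt (K2.f34248 IH) (Lpr_et (K2.f34219 IH) (Lpn (LP (LK LD1_c8 LD2_c5 LD3_c23))))))))
theorem f607228 : Led Lsl_gf (LP (LK LD1_c8 LD2_c26 LD3_c3)) = (LP (LK LD1_c15 LD2_c10 LD3_c57)) :=
  Lgr Lrot104 (Lpr_ct (K1.f46699 IH) (Lpr_df (K1.f56082 IH) (Lpr_cf (K39.f69544 IH) (Lpe (K37.f69568 IH) (Lpr_cf (K64.f606962 IH) (Lpe (K46.f81503 IH) (Lpr_df (f81357 IH) (Lpe (K37.f34478 IH) (Lpr_ct (f34481 IH) (Lpn (LP (LK LD1_c15 LD2_c10 LD3_c57))))))))))))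
theorem f878693 : Led Lsl_gf (LP (LK LD1_c15 LD2_c10 LD3_c57)) = v35828 :=
  Lgr Lrot47 (Lpe (f607228 IH) (Lpr_af (K1.f46694 IH) (Lpr_ff (f878689 IH) (Lpn v35828))))
theorem f878691 : Led Lsl_ct (LP (LK LD1_c8 LD2_c10 LD3_c44)) = v35828 :=
  Lgr Lrot40 (Lpe (K1.f46716 IH) (Lpe (K57.f46722 IH) (Lpr_ff (f878689 IH) (Lpn v35828))))
theorem f46806 : Led Lsl_bt (LP (LK LD1_c15 LD2_c50 LD3_c33)) = (LP (LK LD1_c8 LD2_c26 LD3_c4)) :=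
  Lre_b IH (LK LD1_c15 LD2_c50 LD3_c33) (LK LD1_c8 LD2_c26 LD3_c4) Lrfl Lrfl
theorem f46808 : Led Lsl_ct (LP (LK LD1_c15 LD2_c50 LD3_c33)) = (LP (LK LD1_c25 LD2_c46 LD3_c38)) :=
  Lre_c IH (LK LD1_c15 LD2_c50 LD3_c33) (LK LD1_c25 LD2_c46 LD3_c38) Lrfl Lrfl
theorem f920393 : Led Lsl_gt (LP (LK LD1_c21 LD2_c15 LD3_c41)) = (LP (LK LD1_c25 LD2_c46 LD3_c38)) :=
  Lgr Lrot65 (Lpe (f81023 IH) (Lpe (f81020 IH) (Lpr_gf (f920373 IH) (Lpe (f81513 IH) (Lpr_ct (f34481 IH) (Lpr_gf (f878693 IH) (Lpe (f878691 IH) (Lpe (K57.f46804 IH) (Lpe (f46806 IH) (Lpr_ct (f46808 IH) (Lpn (LP (LK LD1_c25 LD2_c46 LD3_c38)))))))))))))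
theorem f920394 : Led Lsl_gt (LP (LK LD1_c21 LD2_c15 LD3_c41)) = (LP (LK LD1_c25 LD2_c46 LD3_c38)) :=
  Leop (Lpe (f920393 IH) (Lpn (LP (LK LD1_c21 LD2_c15 LD3_c41))))
theorem seed_2425 : LEOK LG_g (LK LD1_c21 LD2_c15 LD3_c41) :=
  Leoe_g (LK LD1_c21 LD2_c15 LD3_c41) (f920394 IH)
theorem f16146 : Led Lsl_bt (LP (LK LD1_c4 LD2_c25 LD3_c38)) = (LP (LK LD1_c4 LD2_c26 LD3_c37)) :=
  Lgr Lrot127 (Lpr_bf (K0.f16138 IH) (Lpn (LP (LK LD1_c4 LD2_c26 LD3_c37))))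
theorem f420303 : Led Lsl_bf (LP (LK LD1_c4 LD2_c36 LD3_c53)) = (LP (LK LD1_c7 LD2_c56 LD3_c43)) :=
  Lgr Lrot165 (Lpe (K7.f79959 IH) (Lpr_ct (K7.f80112 IH) (Lpr_gt (K7.f16124 IH) (Lpe (K0.f16136 IH) (Lpr_bt (f16146 IH) (Lpe (K38.f158984 IH) (Lpe (K36.f35529 IH) (Lpr_ct (K36.f420292 IH) (Lpe (K36.f420290 IH) (Lpe (K7.f138017 IH) (Lpn (LP (LK LD1_c7 LD2_c56 LD3_c43)))))))))))))
theorem f420305 : Led Lsl_et (LP (LK LD1_c4 LD2_c36 LD3_c53)) = (LP (LK LD1_c9 LD2_c9 LD3_c36)) :=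
  Lre_e IH (LK LD1_c4 LD2_c36 LD3_c53) (LK LD1_c9 LD2_c9 LD3_c36) Lrfl Lrfl
theorem f138717 : Led Lsl_et (LP (LK LD1_c14 LD2_c59 LD3_c28)) = (LP (LK LD1_c7 LD2_c56 LD3_c43)) :=
  Lre_e IH (LK LD1_c14 LD2_c59 LD3_c28) (LK LD1_c7 LD2_c56 LD3_c43) Lrfl Lrfl
theorem f420306 : Led Lsl_bt (LP (LK LD1_c9 LD2_c9 LD3_c36)) = (LP (LK LD1_c14 LD2_c59 LD3_c28)) :=
  Lgr Lrot119 (Lpe (f420305 IH) (Lpr_bf (f420303 IH) (Lpe (f138717 IH) (Lpn (LP (LK LD1_c14 LD2_c59 LD3_c28))))))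
def v38376 : LQ := Led Lsl_et (LP (LK LD1_c9 LD2_c9 LD3_c35))
theorem f901675 : Led Lsl_et (LP (LK LD1_c9 LD2_c9 LD3_c35)) = v38376 :=
  Lrfl
theorem f901678 : Led Lsl_ef (LP (LK LD1_c9 LD2_c9 LD3_c35)) = v38376 :=
  Lgr Lrot88 (Lpr_et (f901675 IH) (Lpn v38376))
theorem f901680 : Led Lsl_ct (LP (LK LD1_c9 LD2_c9 LD3_c36)) = v38376 :=
  Lgr Lrot15 (Lpe (f420305 IH) (Lpe (K7.f80107 IH) (Lpr_ef (f901678 IH) (Lpn v38376))))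
theorem f30084 : Led Lsl_bt (LP (LK LD1_c8 LD2_c2 LD3_c37)) = (LP (LK LD1_c4 LD2_c0 LD3_c56)) :=
  Lre_b IH (LK LD1_c8 LD2_c2 LD3_c37) (LK LD1_c4 LD2_c0 LD3_c56) Lrfl Lrfl
theorem f689311 : Led Lsl_at (LP (LK LD1_c15 LD2_c8 LD3_c40)) = (LP (LK LD1_c8 LD2_c2 LD3_c37)) :=
  Lre_a IH (LK LD1_c15 LD2_c8 LD3_c40) (LK LD1_c8 LD2_c2 LD3_c37) Lrfl Lrfl
theorem f877957 : Led Lsl_bf (LP (LK LD1_c15 LD2_c8 LD3_c40)) = (LP (LK LD1_c15 LD2_c6 LD3_c30)) :=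
  Lgr Lrot81 (Lpr_at (f689311 IH) (Lpr_bt (f30084 IH) (Lpq (K68.f877094 IH) (Lpe (K68.f689296 IH) (Lpr_bt (f70619 IH) (Lpr_at (f689300 IH) (Lpn (LP (LK LD1_c15 LD2_c6 LD3_c30)))))))))
theorem f877959 : Led Lsl_bt (LP (LK LD1_c15 LD2_c8 LD3_c40)) = (LP (LK LD1_c15 LD2_c6 LD3_c30)) :=
  Lgr Lrot127 (Lpr_bf (f877957 IH) (Lpn (LP (LK LD1_c15 LD2_c6 LD3_c30))))
theorem f877701 : Led Lsl_ct (LP (LK LD1_c15 LD2_c8 LD3_c40)) = (LP (LK LD1_c24 LD2_c57 LD3_c34)) :=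
  Lre_c IH (LK LD1_c15 LD2_c8 LD3_c40) (LK LD1_c24 LD2_c57 LD3_c34) Lrfl Lrfl
def v35702 : LQ := Led Lsl_ft (LP (LK LD1_c8 LD2_c1 LD3_c21))
theorem f876962 : Led Lsl_ft (LP (LK LD1_c8 LD2_c1 LD3_c21)) = v35702 :=
  Lrfl
theorem f876964 : Led Lsl_ff (LP (LK LD1_c8 LD2_c1 LD3_c21)) = v35702 :=
  Lgr Lrot3 (Lpr_ft (f876962 IH) (Lpn v35702))
theorem f876965 : Led Lsl_bt K68.v12309 = v35702 :=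
  Lgr Lrot35 (Lpe (K68.f689295 IH) (Lpe (K65.f30128 IH) (Lpr_ff (f876964 IH) (Lpn v35702))))
theorem f35712 : Led Lsl_bt (LP (LK LD1_c4 LD2_c0 LD3_c56)) = (LP (LK LD1_c8 LD2_c2 LD3_c37)) :=
  Lre_b IH (LK LD1_c4 LD2_c0 LD3_c56) (LK LD1_c8 LD2_c2 LD3_c37) Lrfl Lrfl
theorem f877098 : v35702 = (LP (LK LD1_c8 LD2_c2 LD3_c37)) :=
  Lefun (Lecon (f876965 IH) (K68.f877094 IH)) (f35712 IH)
theorem f30129 : Led Lsl_ct (LP (LK LD1_c15 LD2_c6 LD3_c22)) = (LP (LK LD1_c8 LD2_c1 LD3_c21)) :=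
  Lre_c IH (LK LD1_c15 LD2_c6 LD3_c22) (LK LD1_c8 LD2_c1 LD3_c21) Lrfl Lrfl
theorem f30085 : Led Lsl_ct (LP (LK LD1_c8 LD2_c2 LD3_c37)) = (LP (LK LD1_c15 LD2_c8 LD3_c41)) :=
  Lre_c IH (LK LD1_c8 LD2_c2 LD3_c37) (LK LD1_c15 LD2_c8 LD3_c41) Lrfl Lrfl
theorem f877967 : Led Lsl_ff (LP (LK LD1_c15 LD2_c6 LD3_c22)) = (LP (LK LD1_c15 LD2_c8 LD3_c41)) :=
  Lgr Lrot23 (Lpr_ct (f30129 IH) (Lpr_ft (f876962 IH) (Lpqs (f877098 IH) (Lpr_ct (f30085 IH) (Lpn (LP (LK LD1_c15 LD2_c8 LD3_c41)))))))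
theorem f877971 : Led Lsl_ft (LP (LK LD1_c15 LD2_c6 LD3_c22)) = (LP (LK LD1_c15 LD2_c8 LD3_c41)) :=
  Lgr Lrot48 (Lpr_ff (f877967 IH) (Lpn (LP (LK LD1_c15 LD2_c8 LD3_c41))))
theorem f449841 : Led Lsl_gf (LP (LK LD1_c17 LD2_c15 LD3_c27)) = (LP (LK LD1_c20 LD2_c25 LD3_c43)) :=
  Lgr Lrot47 (Lpr_gt (K64.f449840 IH) (Lpr_af (K65.f449834 IH) (Lpe (K36.f421080 IH) (Lpn (LP (LK LD1_c20 LD2_c25 LD3_c43))))))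
theorem f425791 : Led Lsl_ct (LP (LK LD1_c11 LD2_c36 LD3_c24)) = (LP (LK LD1_c20 LD2_c34 LD3_c34)) :=
  Lre_c IH (LK LD1_c11 LD2_c36 LD3_c24) (LK LD1_c20 LD2_c34 LD3_c34) Lrfl Lrfl
theorem f608220 : Led Lsl_gt (LP (LK LD1_c15 LD2_c6 LD3_c22)) = (LP (LK LD1_c20 LD2_c34 LD3_c34)) :=
  Lgr Lrot65 (Lpe (K65.f30130 IH) (Lpr_bt (K65.f30128 IH) (Lpe (K37.f30120 IH) (Lpe (K40.f30043 IH) (Lpr_ct (K64.f36812 IH) (Lpe (K64.f36510 IH) (Lpr_cf (K64.f608211 IH) (Lpr_gf (f449841 IH) (Lpr_bf (K36.f542098 IH) (Lpr_ct (f425791 IH) (Lpn (LP (LK LD1_c20 LD2_c34 LD3_c34)))))))))))))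
theorem f35732 : Led Lsl_at (LP (LK LD1_c15 LD2_c8 LD3_c41)) = (LP (LK LD1_c24 LD2_c57 LD3_c34)) :=
  Lre_a IH (LK LD1_c15 LD2_c8 LD3_c41) (LK LD1_c24 LD2_c57 LD3_c34) Lrfl Lrfl
theorem f877973 : Led Lsl_gt (LP (LK LD1_c20 LD2_c34 LD3_c34)) = (LP (LK LD1_c24 LD2_c57 LD3_c34)) :=
  Lgr Lrot46 (Lpe (f608220 IH) (Lpr_ft (f877971 IH) (Lpr_at (f35732 IH) (Lpn (LP (LK LD1_c24 LD2_c57 LD3_c34))))))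
def v37251 : LQ := Led Lsl_ct (LP (LK LD1_c8 LD2_c49 LD3_c41))
theorem f893725 : Led Lsl_ct (LP (LK LD1_c8 LD2_c49 LD3_c41)) = v37251 :=
  Lrfl
theorem f920401 : Led Lsl_gt v38376 = v37251 :=
  Lgr Lrot65 (Lpe (f901680 IH) (Lpr_bt (f420306 IH) (Lpqs (f920370 IH) (Lpr_gf (f877788 IH) (Lpe (f877959 IH) (Lpr_ct (f877701 IH) (Lpe (f877973 IH) (Lpe (f425791 IH) (Lpr_gf (K69.f826034 IH) (Lpe (K69.f825966 IH) (Lpr_ct (f893725 IH) (Lpn v37251))))))))))))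
def v38378 : LQ := Led Lsl_gf (LP (LK LD1_c9 LD2_c9 LD3_c36))
theorem f901682 : Led Lsl_gf (LP (LK LD1_c9 LD2_c9 LD3_c36)) = v38378 :=
  Lrfl
theorem f622237 : Led Lsl_bf (LP (LK LD1_c16 LD2_c30 LD3_c46)) = (LP (LK LD1_c12 LD2_c22 LD3_c59)) :=
  Lgr Lrot24 (Lpr_bt (K50.f622235 IH) (Lpn (LP (LK LD1_c12 LD2_c22 LD3_c59))))
theorem f920403 : v38378 = (LP (LK LD1_c16 LD2_c30 LD3_c46)) :=
  (Llr Lrot181 (Lpe (f901682 IH) (Lpr_ct (f901680 IH) (Lpr_gt (f920401 IH) (Lpe (f893725 IH) (Lpr_bt (K69.f825966 IH) (Lpe (K69.f826034 IH) (Lpe (K65.f542102 IH) (Lpr_ct (K65.f816081 IH) (Lpe (K65.f816079 IH) (Lpr_cf (K50.f704962 IH) (Lpe (f622237 IH) (Lpn (LP (LK LD1_c16 LD2_c30 LD3_c46))))))))))))))).symm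
theorem f920404 : Led Lsl_gt (LP (LK LD1_c16 LD2_c30 LD3_c46)) = (LP (LK LD1_c9 LD2_c9 LD3_c36)) :=
  Leop (Lpr_gf (f901682 IH) (Lpqs (f920403 IH) (Lpn (LP (LK LD1_c16 LD2_c30 LD3_c46)))))
theorem seed_2426 : LEOK LG_g (LK LD1_c16 LD2_c30 LD3_c46) :=
  Leoe_g (LK LD1_c16 LD2_c30 LD3_c46) (f920404 IH)
theorem f794575 : Led Lsl_bt (LP (LK LD1_c16 LD2_c27 LD3_c2)) = (LP (LK LD1_c23 LD2_c5 LD3_c37)) :=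
  Lgr Lrot127 (Lpr_bf (f794573 IH) (Lpn (LP (LK LD1_c23 LD2_c5 LD3_c37))))
theorem f920266 : Led Lsl_bt (LP (LK LD1_c13 LD2_c40 LD3_c6)) = v40810 :=
  Lgr Lrot35 (Lpe (K33.f480600 IH) (Lpe (f794575 IH) (Lpr_ff (f920265 IH) (Lpn v40810))))
theorem f479588 : Led Lsl_ct (LP (LK LD1_c13 LD2_c40 LD3_c6)) = (LP (LK LD1_c23 LD2_c5 LD3_c34)) :=
  Lre_c IH (LK LD1_c13 LD2_c40 LD3_c6) (LK LD1_c23 LD2_c5 LD3_c34) Lrfl Lrfl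
theorem f36784 : Led Lsl_at (LP (LK LD1_c12 LD2_c6 LD3_c0)) = (LP (LK LD1_c15 LD2_c8 LD3_c26)) :=
  Lgr Lrot107 (Lpe (K40.f36783 IH) (Lpr_af (K1.f36777 IH) (Lpe (K1.f30058 IH) (Lpn (LP (LK LD1_c15 LD2_c8 LD3_c26))))))
theorem f36852 : Led Lsl_ft (LP (LK LD1_c21 LD2_c11 LD3_c59)) = (LP (LK LD1_c12 LD2_c6 LD3_c0)) :=
  Lre_f IH (LK LD1_c21 LD2_c11 LD3_c59) (LK LD1_c12 LD2_c6 LD3_c0) Lrfl Lrfl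
theorem f445743 : Led Lsl_gt (LP (LK LD1_c21 LD2_c11 LD3_c59)) = (LP (LK LD1_c16 LD2_c33 LD3_c47)) :=
  Lgr Lrot5 (Lpr_ft (f36852 IH) (Lpr_at (f36784 IH) (Lpe (K40.f35718 IH) (Lpn (LP (LK LD1_c16 LD2_c33 LD3_c47))))))
theorem f561056 : Led Lsl_bt (LP (LK LD1_c7 LD2_c14 LD3_c52)) = (LP (LK LD1_c8 LD2_c50 LD3_c57)) :=
  Lgr Lrot119 (Lpe (K41.f528298 IH) (Lpe (K39.f6080 IH) (Lpr_ef (K40.f561046 IH) (Lpn (LP (LK LD1_c8 LD2_c50 LD3_c57))))))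
theorem f617288 : Led Lsl_bt (LP (LK LD1_c8 LD2_c51 LD3_c34)) = (LP (LK LD1_c13 LD2_c42 LD3_c48)) :=
  Lgr Lrot35 (Lpr_ff (K55.f617286 IH) (Lpe (f561056 IH) (Lpe (K47.f528310 IH) (Lpn (LP (LK LD1_c13 LD2_c42 LD3_c48))))))
theorem f203378 : Led Lsl_ct (LP (LK LD1_c21 LD2_c12 LD3_c21)) = (LP (LK LD1_c29 LD2_c54 LD3_c2)) :=
  Lre_c IH (LK LD1_c21 LD2_c12 LD3_c21) (LK LD1_c29 LD2_c54 LD3_c2) Lrfl Lrfl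
theorem f920448 : Led Lsl_gf (LP (LK LD1_c23 LD2_c5 LD3_c34)) = (LP (LK LD1_c29 LD2_c54 LD3_c2)) :=
  Lgr Lrot129 (Lpe (f479588 IH) (Lpr_bt (f920266 IH) (Lpe (f920261 IH) (Lpe (f549123 IH) (Lpr_ct (K1.f36844 IH) (Lpr_gt (f445743 IH) (Lpe (K40.f16473 IH) (Lpr_bt (f617288 IH) (Lpr_gt (K55.f614182 IH) (Lpr_ct (f203378 IH) (Lpn (LP (LK LD1_c29 LD2_c54 LD3_c2)))))))))))))
theorem f920449 : Led Lsl_gt (LP (LK LD1_c29 LD2_c54 LD3_c2)) = (LP (LK LD1_c23 LD2_c5 LD3_c34)) :=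
  Leop (Lpr_gf (f920448 IH) (Lpn (LP (LK LD1_c29 LD2_c54 LD3_c2))))
theorem seed_2427 : LEOK LG_g (LK LD1_c29 LD2_c54 LD3_c2) :=
  Leoe_g (LK LD1_c29 LD2_c54 LD3_c2) (f920449 IH)
def v15961 : LQ := Led Lsl_gt (LP (LK LD1_c5 LD2_c50 LD3_c36))
theorem f744427 : Led Lsl_gt (LP (LK LD1_c5 LD2_c50 LD3_c36)) = v15961 :=
  Lrfl
def v40837 : LQ := Led Lsl_dt (LP (LK LD1_c9 LD2_c47 LD3_c44))
theorem f920612 : Led Lsl_dt (LP (LK LD1_c9 LD2_c47 LD3_c44)) = v40837 :=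
  Lrfl
theorem f74224 : Led Lsl_ft (LP (LK LD1_c4 LD2_c58 LD3_c36)) = (LP (LK LD1_c9 LD2_c47 LD3_c44)) :=
  Lre_f IH (LK LD1_c4 LD2_c58 LD3_c36) (LK LD1_c9 LD2_c47 LD3_c44) Lrfl Lrfl
def v12359 : LQ := Led Lsl_et (LP (LK LD1_c4 LD2_c7 LD3_c15))
theorem f691711 : Led Lsl_et (LP (LK LD1_c4 LD2_c7 LD3_c15)) = v12359 :=
  Lrfl
theorem f55895 : Led Lsl_at (LP (LK LD1_c2 LD2_c0 LD3_c60)) = (LP (LK LD1_c0 LD2_c57 LD3_c33)) :=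
  Lre_a IH (LK LD1_c2 LD2_c0 LD3_c60) (LK LD1_c0 LD2_c57 LD3_c33) Lrfl Lrfl
theorem f56013 : Led Lsl_ef (LP (LK LD1_c2 LD2_c0 LD3_c60)) = (LP (LK LD1_c1 LD2_c24 LD3_c50)) :=
  Lgr Lrot20 (Lpr_at (f55895 IH) (Lpr_et (K1.f55976 IH) (Lpr_at (K2.f56012 IH) (Lpn (LP (LK LD1_c1 LD2_c24 LD3_c50))))))
theorem f74423 : Led Lsl_et (LP (LK LD1_c4 LD2_c58 LD3_c36)) = (LP (LK LD1_c2 LD2_c27 LD3_c9)) :=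
  Lre_e IH (LK LD1_c4 LD2_c58 LD3_c36) (LK LD1_c2 LD2_c27 LD3_c9) Lrfl Lrfl
theorem f691714 : Led Lsl_df (LP (LK LD1_c4 LD2_c58 LD3_c36)) = v12359 :=
  Lgr Lrot70 (Lpr_et (f74423 IH) (Lpe (K2.f74192 IH) (Lpe (f56013 IH) (Lpr_dt (K40.f55821 IH) (Lpr_et (f691711 IH) (Lpn v12359))))))
theorem f920616 : Led Lsl_ff v12359 = v40837 :=
  Lgr Lrot19 (Lpe (f691714 IH) (Lpr_ft (f74224 IH) (Lpr_dt (f920612 IH) (Lpn v40837))))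
theorem f56017 : Led Lsl_et (LP (LK LD1_c4 LD2_c7 LD3_c19)) = (LP (LK LD1_c2 LD2_c0 LD3_c61)) :=
  Lre_e IH (LK LD1_c4 LD2_c7 LD3_c19) (LK LD1_c2 LD2_c0 LD3_c61) Lrfl Lrfl
theorem f691712 : Led Lsl_af (LP (LK LD1_c4 LD2_c7 LD3_c19)) = v12359 :=
  Lgr Lrot50 (Lpr_et (f56017 IH) (Lpr_at (K10.f55808 IH) (Lpr_et (f691711 IH) (Lpn v12359))))
def v12369 : LQ := Led Lsl_ft (LP (LK LD1_c4 LD2_c7 LD3_c19))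
theorem f691747 : Led Lsl_ft (LP (LK LD1_c4 LD2_c7 LD3_c19)) = v12369 :=
  Lrfl
theorem f920618 : Led Lsl_at v12369 = v40837 :=
  Lgr Lrot66 (Lpe (f691747 IH) (Lpr_af (f691712 IH) (Lpr_ff (f920616 IH) (Lpn v40837))))
def v12367 : LQ := Led Lsl_gt (LP (LK LD1_c4 LD2_c7 LD3_c19))
theorem f691745 : Led Lsl_gt (LP (LK LD1_c4 LD2_c7 LD3_c19)) = v12367 :=
  Lrfl
theorem f920621 : Led Lsl_gt v12367 = v40837 :=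
  Lgr Lrot46 (Lpe (f691745 IH) (Lpr_ft (f691747 IH) (Lpr_at (f920618 IH) (Lpn v40837))))
theorem f74430 : Led Lsl_gt (LP (LK LD1_c11 LD2_c24 LD3_c17)) = (LP (LK LD1_c5 LD2_c47 LD3_c6)) :=
  Lre_g IH (LK LD1_c11 LD2_c24 LD3_c17) (LK LD1_c5 LD2_c47 LD3_c6) Lrfl Lrfl
theorem f920623 : Led Lsl_df v12367 = v15961 :=
  Lgr Lrot135 (Lpr_gt (f920621 IH) (Lpe (f920612 IH) (Lpe (K2.f74420 IH) (Lpr_gt (f74430 IH) (Lpe (K65.f74432 IH) (Lpr_dt (K65.f719173 IH) (Lpr_gt (K53.f500120 IH) (Lpe (K57.f500044 IH) (Lpr_et (K53.f500035 IH) (Lpr_gt (f744427 IH) (Lpn v15961)))))))))))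
theorem f74236 : Led Lsl_gt (LP (LK LD1_c5 LD2_c51 LD3_c36)) = (LP (LK LD1_c9 LD2_c47 LD3_c44)) :=
  Lgr Lrot46 (Lpe (K56.f74235 IH) (Lpr_ft (K2.f74232 IH) (Lpr_at (K2.f74221 IH) (Lpn (LP (LK LD1_c9 LD2_c47 LD3_c44))))))
def v16012 : LQ := Led Lsl_et (LP (LK LD1_c5 LD2_c51 LD3_c36))
theorem f744806 : Led Lsl_et (LP (LK LD1_c5 LD2_c51 LD3_c36)) = v16012 :=
  Lrfl
theorem f744807 : Led Lsl_ef (LP (LK LD1_c5 LD2_c51 LD3_c36)) = v16012 :=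
  Lgr Lrot88 (Lpr_et (f744806 IH) (Lpn v16012))
theorem f76097 : Led Lsl_et (LP (LK LD1_c4 LD2_c58 LD3_c14)) = (LP (LK LD1_c2 LD2_c26 LD3_c58)) :=
  Lre_e IH (LK LD1_c4 LD2_c58 LD3_c14) (LK LD1_c2 LD2_c26 LD3_c58) Lrfl Lrfl
theorem f76098 : Led Lsl_dt (LP (LK LD1_c4 LD2_c58 LD3_c14)) = (LP (LK LD1_c9 LD2_c47 LD3_c20)) :=
  Lre_d IH (LK LD1_c4 LD2_c58 LD3_c14) (LK LD1_c9 LD2_c47 LD3_c20) Lrfl Lrfl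
theorem f413737 : Led Lsl_bt (LP (LK LD1_c4 LD2_c49 LD3_c47)) = (LP (LK LD1_c9 LD2_c32 LD3_c11)) :=
  Lre_b IH (LK LD1_c4 LD2_c49 LD3_c47) (LK LD1_c9 LD2_c32 LD3_c11) Lrfl Lrfl
theorem f413738 : Led Lsl_bt (LP (LK LD1_c5 LD2_c0 LD3_c2)) = (LP (LK LD1_c2 LD2_c27 LD3_c55)) :=
  Lre_b IH (LK LD1_c5 LD2_c0 LD3_c2) (LK LD1_c2 LD2_c27 LD3_c55) Lrfl Lrfl
theorem f413739 : Led Lsl_ft (LP (LK LD1_c9 LD2_c32 LD3_c11)) = (LP (LK LD1_c5 LD2_c0 LD3_c2)) :=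
  Lgr Lrot75 (Lpe (f413737 IH) (Lpr_ff (K17.f413728 IH) (Lpe (f413738 IH) (Lpn (LP (LK LD1_c5 LD2_c0 LD3_c2))))))
theorem f413816 : Led Lsl_gt (LP (LK LD1_c9 LD2_c32 LD3_c11)) = (LP (LK LD1_c17 LD2_c34 LD3_c22)) :=
  Lre_g IH (LK LD1_c9 LD2_c32 LD3_c11) (LK LD1_c17 LD2_c34 LD3_c22) Lrfl Lrfl
theorem f415207 : Led Lsl_at (LP (LK LD1_c5 LD2_c0 LD3_c2)) = (LP (LK LD1_c9 LD2_c47 LD3_c20)) :=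
  Lre_a IH (LK LD1_c5 LD2_c0 LD3_c2) (LK LD1_c9 LD2_c47 LD3_c20) Lrfl Lrfl
theorem f415227 : Led Lsl_gt (LP (LK LD1_c17 LD2_c34 LD3_c22)) = (LP (LK LD1_c9 LD2_c47 LD3_c20)) :=
  Lgr Lrot46 (Lpe (f413816 IH) (Lpr_ft (f413739 IH) (Lpr_at (f415207 IH) (Lpn (LP (LK LD1_c9 LD2_c47 LD3_c20))))))
theorem f744808 : Led Lsl_df (LP (LK LD1_c17 LD2_c34 LD3_c22)) = v16012 :=
  Lgr Lrot170 (Lpr_gt (f415227 IH) (Lpe (f76098 IH) (Lpr_et (f76097 IH) (Lpr_gt (K4.f40382 IH) (Lpe (K4.f76077 IH) (Lpr_gt (K4.f56022 IH) (Lpr_df (K2.f74445 IH) (Lpr_et (K65.f74455 IH) (Lpr_gt (K56.f74235 IH) (Lpr_ef (f744807 IH) (Lpn v16012)))))))))))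
theorem f413815 : Led Lsl_dt (LP (LK LD1_c4 LD2_c49 LD3_c46)) = (LP (LK LD1_c9 LD2_c32 LD3_c11)) :=
  Lre_d IH (LK LD1_c4 LD2_c49 LD3_c46) (LK LD1_c9 LD2_c32 LD3_c11) Lrfl Lrfl
def v14123 : LQ := Led Lsl_et (LP (LK LD1_c4 LD2_c59 LD3_c18))
theorem f719125 : Led Lsl_et (LP (LK LD1_c4 LD2_c59 LD3_c18)) = v14123 :=
  Lrfl
theorem f719126 : Led Lsl_ef (LP (LK LD1_c4 LD2_c59 LD3_c18)) = v14123 :=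
  Lgr Lrot88 (Lpr_et (f719125 IH) (Lpn v14123))
theorem f40304 : Led Lsl_gt (LP (LK LD1_c2 LD2_c27 LD3_c32)) = (LP (LK LD1_c4 LD2_c59 LD3_c18)) :=
  Lre_g IH (LK LD1_c2 LD2_c27 LD3_c32) (LK LD1_c4 LD2_c59 LD3_c18) Lrfl Lrfl
theorem f40699 : Led Lsl_et (LP (LK LD1_c1 LD2_c10 LD3_c57)) = (LP (LK LD1_c2 LD2_c27 LD3_c32)) :=
  Lre_e IH (LK LD1_c1 LD2_c10 LD3_c57) (LK LD1_c2 LD2_c27 LD3_c32) Lrfl Lrfl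
def v12368 : LQ := Led Lsl_gf (LP (LK LD1_c4 LD2_c7 LD3_c19))
theorem f691746 : Led Lsl_gf (LP (LK LD1_c4 LD2_c7 LD3_c19)) = v12368 :=
  Lrfl
theorem f719127 : Led Lsl_df v12368 = v14123 :=
  Lgr Lrot170 (Lpe (f691746 IH) (Lpr_df (K32.f79669 IH) (Lpr_et (K2.f74243 IH) (Lpr_gt (K6.f139062 IH) (Lpr_dt (K6.f138891 IH) (Lpe (K8.f161274 IH) (Lpe (K1.f26397 IH) (Lpr_et (f40699 IH) (Lpr_gt (f40304 IH) (Lpr_ef (f719126 IH) (Lpn v14123)))))))))))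
theorem f920617 : Led Lsl_gf v12368 = v40837 :=
  Lgr Lrot134 (Lpr_df (f719127 IH) (Lpe (f719126 IH) (Lpr_gt (K54.f77384 IH) (Lpe (K17.f413764 IH) (Lpr_dt (f413815 IH) (Lpr_gt (f413816 IH) (Lpr_df (f744808 IH) (Lpe (f744807 IH) (Lpr_gt (f74236 IH) (Lpr_dt (f920612 IH) (Lpn v40837)))))))))))
theorem f719128 : Led Lsl_dt v12368 = v14123 :=
  Lgr Lrot42 (Lpr_df (f719127 IH) (Lpn v14123))
def v14143 : LQ := Led Lsl_at (LP (LK LD1_c4 LD2_c59 LD3_c57))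
theorem f720500 : Led Lsl_at (LP (LK LD1_c4 LD2_c59 LD3_c57)) = v14143 :=
  Lrfl
theorem f720502 : Led Lsl_ef K53.v4551 = v14143 :=
  Lgr Lrot20 (Lpe (K53.f636079 IH) (Lpr_et (K46.f636080 IH) (Lpr_at (f720500 IH) (Lpn v14143))))
theorem f720503 : Led Lsl_et K53.v4551 = v14143 :=
  Lgr Lrot87 (Lpr_ef (f720502 IH) (Lpn v14143))
def v24104 : LQ := Led Lsl_gf K53.v4551
theorem f822426 : Led Lsl_gf K53.v4551 = v24104 :=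
  Lrfl
theorem f822427 : Led Lsl_gt K53.v4552 = v24104 :=
  Lgr Lrot5 (Lpe (K53.f636090 IH) (Lpr_at (K53.f636078 IH) (Lpr_gf (f822426 IH) (Lpn v24104))))
theorem f843638 : v24104 = (LP (LK LD1_c2 LD2_c27 LD3_c32)) :=
  Lefun (Lecon (f822427 IH) (K66.f843637 IH)) (K9.f40306 IH)
theorem f843657 : K53.v4551 = (LP (LK LD1_c4 LD2_c59 LD3_c18)) :=
  Lefun (Lecon (Lfl_gf (f822426 IH)) (f843638 IH)) (f40304 IH)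
theorem f843672 : v14143 = v14123 :=
  Lefun (Lecon (f720503 IH) (f843657 IH)) (f719125 IH)
theorem f720501 : Led Lsl_af (LP (LK LD1_c4 LD2_c59 LD3_c57)) = v14143 :=
  Lgr Lrot0 (Lpr_at (f720500 IH) (Lpn v14143))
def v14144 : LQ := Led Lsl_dt (LP (LK LD1_c4 LD2_c59 LD3_c57))
theorem f720504 : Led Lsl_dt (LP (LK LD1_c4 LD2_c59 LD3_c57)) = v14144 :=
  Lrfl
theorem f843673 : Led Lsl_af v12368 = v14144 :=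
  Lgr Lrot117 (Lpr_dt (f719128 IH) (Lpq (f843672 IH) (Lpe (f720501 IH) (Lpr_dt (f720504 IH) (Lpn v14144)))))
theorem f920622 : Led Lsl_ft v12367 = v14144 :=
  Lgr Lrot2 (Lpr_gt (f920621 IH) (Lpe (f920617 IH) (Lpr_af (f843673 IH) (Lpn v14144))))
theorem f720505 : Led Lsl_df (LP (LK LD1_c4 LD2_c59 LD3_c57)) = v14144 :=
  Lgr Lrot38 (Lpr_dt (f720504 IH) (Lpn v14144))
theorem f636094 : Led Lsl_ft (LP (LK LD1_c4 LD2_c59 LD3_c57)) = (LP (LK LD1_c9 LD2_c50 LD3_c25)) :=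
  Lre_f IH (LK LD1_c4 LD2_c59 LD3_c57) (LK LD1_c9 LD2_c50 LD3_c25) Lrfl Lrfl
theorem f920625 : (LP (LK LD1_c9 LD2_c50 LD3_c25)) = v15961 :=
  (Llr Lrot54 (Lpe (f636094 IH) (Lpr_df (f720505 IH) (Lpe (f920622 IH) (Lpr_df (f920623 IH) (Lpn v15961)))))).symm
theorem f920626 : Led Lsl_gt (LP (LK LD1_c5 LD2_c50 LD3_c36)) = (LP (LK LD1_c9 LD2_c50 LD3_c25)) :=
  Leop (Lpqs (f920625 IH) (Lpe (f744427 IH) (Lpn (LP (LK LD1_c5 LD2_c50 LD3_c36)))))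
theorem seed_2428 : LEOK LG_g (LK LD1_c5 LD2_c50 LD3_c36) :=
  Leoe_g (LK LD1_c5 LD2_c50 LD3_c36) (f920626 IH)
def v40855 : LQ := Led Lsl_gf (LP (LK LD1_c9 LD2_c47 LD3_c60))
theorem f920730 : Led Lsl_gf (LP (LK LD1_c9 LD2_c47 LD3_c60)) = v40855 :=
  Lrfl
theorem f636062 : Led Lsl_ct (LP (LK LD1_c9 LD2_c47 LD3_c60)) = (LP (LK LD1_c4 LD2_c58 LD3_c44)) :=
  Lre_c IH (LK LD1_c9 LD2_c47 LD3_c60) (LK LD1_c4 LD2_c58 LD3_c44) Lrfl Lrfl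
theorem f209965 : Led Lsl_ct (LP (LK LD1_c4 LD2_c58 LD3_c41)) = (LP (LK LD1_c2 LD2_c27 LD3_c11)) :=
  Lre_c IH (LK LD1_c4 LD2_c58 LD3_c41) (LK LD1_c2 LD2_c27 LD3_c11) Lrfl Lrfl
theorem f426183 : Led Lsl_dt (LP (LK LD1_c5 LD2_c58 LD3_c0)) = (LP (LK LD1_c11 LD2_c40 LD3_c45)) :=
  Lre_d IH (LK LD1_c5 LD2_c58 LD3_c0) (LK LD1_c11 LD2_c40 LD3_c45) Lrfl Lrfl
theorem f920733 : Led Lsl_ct (LP (LK LD1_c11 LD2_c40 LD3_c23)) = v40855 :=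
  Lgr Lrot152 (Lpe (K56.f426181 IH) (Lpe (f426183 IH) (Lpr_gt (K56.f428125 IH) (Lpe (K66.f748495 IH) (Lpe (K66.f719052 IH) (Lpr_ct (f209965 IH) (Lpe (K66.f387081 IH) (Lpe (f636062 IH) (Lpr_gf (f920730 IH) (Lpn v40855))))))))))
theorem f748574 : Led Lsl_cf (LP (LK LD1_c6 LD2_c8 LD3_c8)) = (LP (LK LD1_c11 LD2_c58 LD3_c6)) :=
  Lgr Lrot108 (Lpr_ft (K56.f720269 IH) (Lpr_ct (K56.f748568 IH) (Lpr_ft (K70.f545560 IH) (Lpn (LP (LK LD1_c11 LD2_c58 LD3_c6))))))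
theorem f539588 : Led Lsl_et (LP (LK LD1_c20 LD2_c17 LD3_c54)) = (LP (LK LD1_c11 LD2_c20 LD3_c31)) :=
  Lre_e IH (LK LD1_c20 LD2_c17 LD3_c54) (LK LD1_c11 LD2_c20 LD3_c31) Lrfl Lrfl
theorem f545581 : Led Lsl_df (LP (LK LD1_c20 LD2_c17 LD3_c54)) = (LP (LK LD1_c11 LD2_c58 LD3_c3)) :=
  Lgr Lrot70 (Lpr_et (f539588 IH) (Lpr_dt (K36.f539576 IH) (Lpe (K36.f539599 IH) (Lpr_dt (K38.f545575 IH) (Lpr_et (K38.f545565 IH) (Lpn (LP (LK LD1_c11 LD2_c58 LD3_c3))))))))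
theorem f545549 : Led Lsl_bt (LP (LK LD1_c20 LD2_c17 LD3_c54)) = (LP (LK LD1_c11 LD2_c20 LD3_c33)) :=
  Lre_b IH (LK LD1_c20 LD2_c17 LD3_c54) (LK LD1_c11 LD2_c20 LD3_c33) Lrfl Lrfl
theorem f621414 : Led Lsl_dt (LP (LK LD1_c11 LD2_c20 LD3_c33)) = (LP (LK LD1_c6 LD2_c8 LD3_c1)) :=
  Lgr Lrot79 (Lpe (f545549 IH) (Lpr_df (f545581 IH) (Lpe (K38.f545556 IH) (Lpn (LP (LK LD1_c6 LD2_c8 LD3_c1))))))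
theorem f545529 : Led Lsl_ft (LP (LK LD1_c20 LD2_c17 LD3_c58)) = (LP (LK LD1_c11 LD2_c20 LD3_c33)) :=
  Lre_f IH (LK LD1_c20 LD2_c17 LD3_c58) (LK LD1_c11 LD2_c20 LD3_c33) Lrfl Lrfl
theorem f621416 : Led Lsl_df (LP (LK LD1_c20 LD2_c17 LD3_c58)) = (LP (LK LD1_c11 LD2_c58 LD3_c6)) :=
  Lgr Lrot78 (Lpr_ft (f545529 IH) (Lpr_dt (f621414 IH) (Lpr_ft (K70.f545560 IH) (Lpn (LP (LK LD1_c11 LD2_c58 LD3_c6))))))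
theorem f621421 : Led Lsl_et (LP (LK LD1_c11 LD2_c40 LD3_c45)) = (LP (LK LD1_c11 LD2_c58 LD3_c6)) :=
  Lgr Lrot71 (Lpe (f426183 IH) (Lpe (K24.f425982 IH) (Lpr_df (K40.f539470 IH) (Lpr_ef (K70.f545527 IH) (Lpr_df (f621416 IH) (Lpn (LP (LK LD1_c11 LD2_c58 LD3_c6))))))))
theorem f752177 : Led Lsl_cf (LP (LK LD1_c11 LD2_c40 LD3_c45)) = K56.v16870 :=
  Lgr Lrot39 (Lpr_et (f621421 IH) (Lpe (f748574 IH) (Lpr_et (K56.f752175 IH) (Lpn K56.v16870))))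
theorem f383749 : Led Lsl_ct (LP (LK LD1_c2 LD2_c48 LD3_c8)) = (LP (LK LD1_c5 LD2_c44 LD3_c25)) :=
  Lre_c IH (LK LD1_c2 LD2_c48 LD3_c8) (LK LD1_c5 LD2_c44 LD3_c25) Lrfl Lrfl
theorem f383800 : Led Lsl_gt (LP (LK LD1_c5 LD2_c44 LD3_c25)) = (LP (LK LD1_c11 LD2_c18 LD3_c55)) :=
  Lre_g IH (LK LD1_c5 LD2_c44 LD3_c25) (LK LD1_c11 LD2_c18 LD3_c55) Lrfl Lrfl
theorem f738443 : Led Lsl_ct (LP (LK LD1_c11 LD2_c18 LD3_c55)) = (LP (LK LD1_c20 LD2_c15 LD3_c37)) :=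
  Lre_c IH (LK LD1_c11 LD2_c18 LD3_c55) (LK LD1_c20 LD2_c15 LD3_c37) Lrfl Lrfl
theorem f920736 : Led Lsl_dt (LP (LK LD1_c20 LD2_c15 LD3_c37)) = v40855 :=
  Lgr Lrot27 (Lpe (f738443 IH) (Lpe (f383800 IH) (Lpe (f383749 IH) (Lpe (K55.f383757 IH) (Lpr_df (K55.f738455 IH) (Lpqs (K55.f748797 IH) (Lpr_gt (K56.f752184 IH) (Lpe (f752177 IH) (Lpr_gt (K56.f426181 IH) (Lpr_ct (f920733 IH) (Lpn v40855)))))))))))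
theorem f752268 : Led Lsl_ft (LP (LK LD1_c11 LD2_c40 LD3_c44)) = (LP (LK LD1_c11 LD2_c40 LD3_c22)) :=
  Lgr Lrot48 (Lpr_ff (K56.f752262 IH) (Lpn (LP (LK LD1_c11 LD2_c40 LD3_c22))))
theorem f622471 : Led Lsl_ft (LP (LK LD1_c10 LD2_c7 LD3_c10)) = (LP (LK LD1_c18 LD2_c26 LD3_c22)) :=
  Lre_f IH (LK LD1_c10 LD2_c7 LD3_c10) (LK LD1_c18 LD2_c26 LD3_c22) Lrfl Lrfl
theorem f752272 : Led Lsl_cf (LP (LK LD1_c11 LD2_c40 LD3_c44)) = (LP (LK LD1_c18 LD2_c26 LD3_c22)) :=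
  Lgr Lrot108 (Lpr_ft (f752268 IH) (Lpr_ct (K66.f748802 IH) (Lpr_ft (f622471 IH) (Lpn (LP (LK LD1_c18 LD2_c26 LD3_c22))))))
theorem f920734 : Led Lsl_af (LP (LK LD1_c18 LD2_c26 LD3_c22)) = v40855 :=
  Lgr Lrot68 (Lpe (f752272 IH) (Lpr_at (K56.f752260 IH) (Lpr_ct (f920733 IH) (Lpn v40855))))
theorem f724049 : Led Lsl_bt (LP (LK LD1_c11 LD2_c10 LD3_c56)) = (LP (LK LD1_c20 LD2_c5 LD3_c40)) :=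
  Lre_b IH (LK LD1_c11 LD2_c10 LD3_c56) (LK LD1_c20 LD2_c5 LD3_c40) Lrfl Lrfl
theorem f724062 : Led Lsl_ft (LP (LK LD1_c20 LD2_c5 LD3_c40)) = (LP (LK LD1_c11 LD2_c11 LD3_c13)) :=
  Lgr Lrot75 (Lpe (f724049 IH) (Lpr_ff (K53.f724058 IH) (Lpe (K70.f495604 IH) (Lpn (LP (LK LD1_c11 LD2_c11 LD3_c13))))))
theorem f622326 : Led Lsl_bt (LP (LK LD1_c5 LD2_c40 LD3_c12)) = (LP (LK LD1_c11 LD2_c11 LD3_c13)) :=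
  Lre_b IH (LK LD1_c5 LD2_c40 LD3_c12) (LK LD1_c11 LD2_c11 LD3_c13) Lrfl Lrfl
theorem f622453 : Led Lsl_bt (LP (LK LD1_c10 LD2_c7 LD3_c10)) = (LP (LK LD1_c5 LD2_c8 LD3_c22)) :=
  Lre_b IH (LK LD1_c10 LD2_c7 LD3_c10) (LK LD1_c5 LD2_c8 LD3_c22) Lrfl Lrfl
theorem f622454 : Led Lsl_dt (LP (LK LD1_c11 LD2_c11 LD3_c13)) = (LP (LK LD1_c10 LD2_c7 LD3_c10)) :=
  Lgr Lrot79 (Lpe (f622326 IH) (Lpr_df (K50.f622451 IH) (Lpe (f622453 IH) (Lpn (LP (LK LD1_c10 LD2_c7 LD3_c10))))))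
theorem f724095 : Led Lsl_df (LP (LK LD1_c20 LD2_c5 LD3_c40)) = (LP (LK LD1_c18 LD2_c26 LD3_c22)) :=
  Lgr Lrot78 (Lpr_ft (f724062 IH) (Lpr_dt (f622454 IH) (Lpr_ft (f622471 IH) (Lpn (LP (LK LD1_c18 LD2_c26 LD3_c22))))))
theorem f920738 : Led Lsl_af (LP (LK LD1_c20 LD2_c15 LD3_c37)) = (LP (LK LD1_c20 LD2_c5 LD3_c40)) :=
  Lgr Lrot117 (Lpr_dt (f920736 IH) (Lpe (f920734 IH) (Lpe (f724095 IH) (Lpn (LP (LK LD1_c20 LD2_c5 LD3_c40))))))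
theorem f920739 : Led Lsl_at (LP (LK LD1_c20 LD2_c5 LD3_c40)) = (LP (LK LD1_c20 LD2_c15 LD3_c37)) :=
  Leop (Lpr_af (f920738 IH) (Lpn (LP (LK LD1_c20 LD2_c5 LD3_c40))))
theorem seed_2429 : LEOK LG_a (LK LD1_c20 LD2_c5 LD3_c40) :=
  Leoe_a (LK LD1_c20 LD2_c5 LD3_c40) (f920739 IH)
def v40859 : LQ := Led Lsl_ft (LP (LK LD1_c9 LD2_c48 LD3_c2))
theorem f920773 : Led Lsl_ft (LP (LK LD1_c9 LD2_c48 LD3_c2)) = v40859 :=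
  Lrfl
theorem f387079 : Led Lsl_gt (LP (LK LD1_c9 LD2_c48 LD3_c2)) = (LP (LK LD1_c17 LD2_c58 LD3_c15)) :=
  Lre_g IH (LK LD1_c9 LD2_c48 LD3_c2) (LK LD1_c17 LD2_c58 LD3_c15) Lrfl Lrfl
theorem f61398 : Led Lsl_at (LP (LK LD1_c10 LD2_c17 LD3_c60)) = (LP (LK LD1_c5 LD2_c14 LD3_c4)) :=
  Lre_a IH (LK LD1_c10 LD2_c17 LD3_c60) (LK LD1_c5 LD2_c14 LD3_c4) Lrfl Lrfl
theorem f165681 : Led Lsl_bt (LP (LK LD1_c2 LD2_c30 LD3_c56)) = (LP (LK LD1_c5 LD2_c7 LD3_c6)) :=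
  Lre_b IH (LK LD1_c2 LD2_c30 LD3_c56) (LK LD1_c5 LD2_c7 LD3_c6) Lrfl Lrfl
theorem f387258 : Led Lsl_af (LP (LK LD1_c9 LD2_c48 LD3_c2)) = (LP (LK LD1_c5 LD2_c7 LD3_c6)) :=
  Lgr Lrot36 (Lpr_bt (K53.f387256 IH) (Lpr_at (f61398 IH) (Lpr_bt (K36.f61335 IH) (Lpr_at (K18.f301761 IH) (Lpr_bt (f165681 IH) (Lpn (LP (LK LD1_c5 LD2_c7 LD3_c6))))))))
theorem f387279 : Led Lsl_ft (LP (LK LD1_c10 LD2_c4 LD3_c52)) = (LP (LK LD1_c5 LD2_c7 LD3_c6)) :=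
  Lre_f IH (LK LD1_c10 LD2_c4 LD3_c52) (LK LD1_c5 LD2_c7 LD3_c6) Lrfl Lrfl
theorem f920774 : Led Lsl_af (LP (LK LD1_c10 LD2_c4 LD3_c52)) = v40859 :=
  Lgr Lrot45 (Lpr_ft (f387279 IH) (Lpe (f387258 IH) (Lpr_ft (f920773 IH) (Lpn v40859))))
theorem f920779 : Led Lsl_gt (LP (LK LD1_c17 LD2_c58 LD3_c15)) = (LP (LK LD1_c10 LD2_c4 LD3_c52)) :=
  Lgr Lrot46 (Lpe (f387079 IH) (Lpr_ft (f920773 IH) (Lpe (f920774 IH) (Lpn (LP (LK LD1_c10 LD2_c4 LD3_c52))))))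
theorem f920780 : Led Lsl_gt (LP (LK LD1_c17 LD2_c58 LD3_c15)) = (LP (LK LD1_c10 LD2_c4 LD3_c52)) :=
  Leop (Lpe (f920779 IH) (Lpn (LP (LK LD1_c17 LD2_c58 LD3_c15))))
theorem seed_2430 : LEOK LG_g (LK LD1_c17 LD2_c58 LD3_c15) :=
  Leoe_g (LK LD1_c17 LD2_c58 LD3_c15) (f920780 IH)
def v40871 : LQ := Led Lsl_gt (LP (LK LD1_c9 LD2_c48 LD3_c17))
theorem f920838 : Led Lsl_gt (LP (LK LD1_c9 LD2_c48 LD3_c17)) = v40871 :=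
  Lrfl
theorem f641873 : Led Lsl_bf (LP (LK LD1_c11 LD2_c42 LD3_c18)) = (LP (LK LD1_c11 LD2_c39 LD3_c49)) :=
  Lgr Lrot61 (Lpr_ft (K52.f428291 IH) (Lpe (K40.f428272 IH) (Lpr_ft (K46.f641867 IH) (Lpn (LP (LK LD1_c11 LD2_c39 LD3_c49))))))
theorem f920840 : Led Lsl_bt (LP (LK LD1_c20 LD2_c43 LD3_c23)) = v40871 :=
  Lgr Lrot92 (Lpr_ct (K55.f641939 IH) (Lpr_gt (K55.f641937 IH) (Lpe (K46.f442881 IH) (Lpe (f641873 IH) (Lpr_gt (K52.f710995 IH) (Lpe (K48.f669691 IH) (Lpr_gt (K48.f618546 IH) (Lpe (K69.f642241 IH) (Lpr_bt (K69.f139031 IH) (Lpr_gt (f920838 IH) (Lpn v40871)))))))))))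
theorem f622953 : Led Lsl_bt (LP (LK LD1_c9 LD2_c14 LD3_c44)) = (LP (LK LD1_c17 LD2_c9 LD3_c4)) :=
  Lre_b IH (LK LD1_c9 LD2_c14 LD3_c44) (LK LD1_c17 LD2_c9 LD3_c4) Lrfl Lrfl
theorem f920841 : Led Lsl_af (LP (LK LD1_c11 LD2_c31 LD3_c31)) = v40871 :=
  Lgr Lrot36 (Lpr_bt (K69.f500346 IH) (Lpr_at (K55.f622949 IH) (Lpr_bt (f622953 IH) (Lpr_at (K55.f643667 IH) (Lpr_bt (f920840 IH) (Lpn v40871))))))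
theorem f101590 : Led Lsl_gt (LP (LK LD1_c21 LD2_c11 LD3_c20)) = (LP (LK LD1_c12 LD2_c5 LD3_c37)) :=
  Lre_g IH (LK LD1_c21 LD2_c11 LD3_c20) (LK LD1_c12 LD2_c5 LD3_c37) Lrfl Lrfl
theorem f920844 : Led Lsl_ft (LP (LK LD1_c21 LD2_c11 LD3_c20)) = v40871 :=
  Lgr Lrot2 (Lpr_gt (f101590 IH) (Lpe (K69.f901354 IH) (Lpr_af (f920841 IH) (Lpn v40871))))
theorem f920842 : Led Lsl_bf (LP (LK LD1_c20 LD2_c43 LD3_c23)) = v40871 :=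
  Lgr Lrot24 (Lpr_bt (f920840 IH) (Lpn v40871))
theorem f920846 : Led Lsl_bf (LP (LK LD1_c21 LD2_c11 LD3_c20)) = (LP (LK LD1_c17 LD2_c58 LD3_c37)) :=
  Lgr Lrot61 (Lpr_ft (f920844 IH) (Lpe (f920842 IH) (Lpe (K55.f643853 IH) (Lpn (LP (LK LD1_c17 LD2_c58 LD3_c37))))))
theorem f920847 : Led Lsl_bt (LP (LK LD1_c17 LD2_c58 LD3_c37)) = (LP (LK LD1_c21 LD2_c11 LD3_c20)) :=
  Leop (Lpr_bf (f920846 IH) (Lpn (LP (LK LD1_c17 LD2_c58 LD3_c37))))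
theorem seed_2431 : LEOK LG_b (LK LD1_c17 LD2_c58 LD3_c37) :=
  Leoe_b (LK LD1_c17 LD2_c58 LD3_c37) (f920847 IH)
theorem f920848 : Led Lsl_ff (LP (LK LD1_c21 LD2_c11 LD3_c20)) = v40871 :=
  Lgr Lrot3 (Lpr_ft (f920844 IH) (Lpn v40871))
theorem f579381 : Led Lsl_gt (LP (LK LD1_c9 LD2_c8 LD3_c51)) = (LP (LK LD1_c17 LD2_c1 LD3_c36)) :=
  Lre_g IH (LK LD1_c9 LD2_c8 LD3_c51) (LK LD1_c17 LD2_c1 LD3_c36) Lrfl Lrfl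
theorem f904163 : Led Lsl_af (LP (LK LD1_c17 LD2_c1 LD3_c36)) = (LP (LK LD1_c20 LD2_c28 LD3_c10)) :=
  Lgr Lrot31 (Lpe (f579381 IH) (Lpe (K69.f579417 IH) (Lpr_ft (K69.f904159 IH) (Lpn (LP (LK LD1_c20 LD2_c28 LD3_c10))))))
theorem f920843 : Led Lsl_ct (LP (LK LD1_c17 LD2_c1 LD3_c36)) = v40871 :=
  Lgr Lrot111 (Lpr_af (f904163 IH) (Lpe (K69.f500347 IH) (Lpr_af (f920841 IH) (Lpn v40871))))
theorem f904165 : Led Lsl_at (LP (LK LD1_c17 LD2_c1 LD3_c36)) = (LP (LK LD1_c20 LD2_c28 LD3_c10)) :=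
  Lgr Lrot100 (Lpr_af (f904163 IH) (Lpn (LP (LK LD1_c20 LD2_c28 LD3_c10))))
theorem f72025 : Led Lsl_gt (LP (LK LD1_c26 LD2_c55 LD3_c47)) = (LP (LK LD1_c17 LD2_c0 LD3_c47)) :=
  Lre_g IH (LK LD1_c26 LD2_c55 LD3_c47) (LK LD1_c17 LD2_c0 LD3_c47) Lrfl Lrfl
theorem f904168 : Led Lsl_ff (LP (LK LD1_c17 LD2_c1 LD3_c36)) = (LP (LK LD1_c26 LD2_c55 LD3_c47)) :=
  Lgr Lrot52 (Lpr_at (f904165 IH) (Lpr_gf (K69.f900582 IH) (Lpe (f72025 IH) (Lpn (LP (LK LD1_c26 LD2_c55 LD3_c47))))))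
theorem f920852 : Led Lsl_ct (LP (LK LD1_c21 LD2_c11 LD3_c20)) = (LP (LK LD1_c26 LD2_c55 LD3_c47)) :=
  Lgr Lrot40 (Lpr_ff (f920848 IH) (Lpe (f920843 IH) (Lpr_ff (f904168 IH) (Lpn (LP (LK LD1_c26 LD2_c55 LD3_c47))))))
theorem f920853 : Led Lsl_ct (LP (LK LD1_c21 LD2_c11 LD3_c20)) = (LP (LK LD1_c26 LD2_c55 LD3_c47)) :=
  Leop (Lpe (f920852 IH) (Lpn (LP (LK LD1_c21 LD2_c11 LD3_c20))))
theorem seed_2432 : LEOK LG_c (LK LD1_c21 LD2_c11 LD3_c20) :=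
  Leoe_c (LK LD1_c21 LD2_c11 LD3_c20) (f920853 IH)
def v40895 : LQ := Led Lsl_ft (LP (LK LD1_c9 LD2_c48 LD3_c38))
theorem f920981 : Led Lsl_ft (LP (LK LD1_c9 LD2_c48 LD3_c38)) = v40895 :=
  Lrfl
theorem f920984 : Led Lsl_ff (LP (LK LD1_c9 LD2_c48 LD3_c38)) = v40895 :=
  Lgr Lrot3 (Lpr_ft (f920981 IH) (Lpn v40895))
theorem f642298 : Led Lsl_at (LP (LK LD1_c9 LD2_c48 LD3_c38)) = (LP (LK LD1_c17 LD2_c58 LD3_c13)) :=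
  Lre_a IH (LK LD1_c9 LD2_c48 LD3_c38) (LK LD1_c17 LD2_c58 LD3_c13) Lrfl Lrfl
theorem f920987 : Led Lsl_gf (LP (LK LD1_c20 LD2_c42 LD3_c31)) = v40895 :=
  Lgr Lrot47 (Lpe (K52.f700542 IH) (Lpe (f642298 IH) (Lpr_ff (f920984 IH) (Lpn v40895))))
theorem f494600 : Led Lsl_ct (LP (LK LD1_c9 LD2_c14 LD3_c13)) = (LP (LK LD1_c17 LD2_c8 LD3_c32)) :=
  Lre_c IH (LK LD1_c9 LD2_c14 LD3_c13) (LK LD1_c17 LD2_c8 LD3_c32) Lrfl Lrfl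
theorem f920986 : Led Lsl_ct (LP (LK LD1_c9 LD2_c48 LD3_c39)) = v40895 :=
  Lgr Lrot40 (Lpe (K48.f642279 IH) (Lpe (K52.f642290 IH) (Lpr_ff (f920984 IH) (Lpn v40895))))
theorem f504936 : Led Lsl_bf (LP (LK LD1_c16 LD2_c59 LD3_c3)) = (LP (LK LD1_c11 LD2_c31 LD3_c60)) :=
  Lgr Lrot24 (Lpr_bt (K65.f504934 IH) (Lpn (LP (LK LD1_c11 LD2_c31 LD3_c60))))
theorem f445662 : Led Lsl_ct (LP (LK LD1_c11 LD2_c31 LD3_c60)) = (LP (LK LD1_c20 LD2_c28 LD3_c35)) :=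
  Lre_c IH (LK LD1_c11 LD2_c31 LD3_c60) (LK LD1_c20 LD2_c28 LD3_c35) Lrfl Lrfl
theorem f920989 : Led Lsl_gt (LP (LK LD1_c17 LD2_c8 LD3_c32)) = (LP (LK LD1_c20 LD2_c28 LD3_c35)) :=
  Lgr Lrot65 (Lpe (f494600 IH) (Lpr_bt (K36.f268343 IH) (Lpe (K35.f268364 IH) (Lpe (K63.f643586 IH) (Lpr_ct (K52.f539465 IH) (Lpr_gf (f920987 IH) (Lpe (f920986 IH) (Lpe (K57.f642449 IH) (Lpr_bf (f504936 IH) (Lpr_ct (f445662 IH) (Lpn (LP (LK LD1_c20 LD2_c28 LD3_c35)))))))))))))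
theorem f920990 : Led Lsl_gt (LP (LK LD1_c17 LD2_c8 LD3_c32)) = (LP (LK LD1_c20 LD2_c28 LD3_c35)) :=
  Leop (Lpe (f920989 IH) (Lpn (LP (LK LD1_c17 LD2_c8 LD3_c32))))
theorem seed_2433 : LEOK LG_g (LK LD1_c17 LD2_c8 LD3_c32) :=
  Leoe_g (LK LD1_c17 LD2_c8 LD3_c32) (f920990 IH)
def v40900 : LQ := Led Lsl_ft (LP (LK LD1_c9 LD2_c48 LD3_c41))
theorem f921012 : Led Lsl_ft (LP (LK LD1_c9 LD2_c48 LD3_c41)) = v40900 :=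
  Lrfl
def v40898 : LQ := Led Lsl_gt (LP (LK LD1_c9 LD2_c48 LD3_c41))
theorem f921003 : Led Lsl_gt (LP (LK LD1_c9 LD2_c48 LD3_c41)) = v40898 :=
  Lrfl
def v16130 : LQ := Led Lsl_ft (LP (LK LD1_c5 LD2_c53 LD3_c3))
theorem f746673 : Led Lsl_ft (LP (LK LD1_c5 LD2_c53 LD3_c3)) = v16130 :=
  Lrfl
theorem f746675 : Led Lsl_ff (LP (LK LD1_c5 LD2_c53 LD3_c3)) = v16130 :=
  Lgr Lrot3 (Lpr_ft (f746673 IH) (Lpn v16130))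
theorem f921013 : Led Lsl_af v16130 = v40900 :=
  Lgr Lrot45 (Lpe (f746675 IH) (Lpe (K40.f539871 IH) (Lpr_ft (f921012 IH) (Lpn v40900))))
theorem f921015 : Led Lsl_gt v40898 = v16130 :=
  Lgr Lrot46 (Lpe (f921003 IH) (Lpr_ft (f921012 IH) (Lpe (f921013 IH) (Lpn v16130))))
def v40899 : LQ := Led Lsl_gf (LP (LK LD1_c9 LD2_c48 LD3_c41))
theorem f921004 : Led Lsl_gf (LP (LK LD1_c9 LD2_c48 LD3_c41)) = v40899 :=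
  Lrfl
theorem f921005 : Led Lsl_gt v16130 = v40899 :=
  Lgr Lrot5 (Lpe (f746675 IH) (Lpe (K40.f539871 IH) (Lpr_gf (f921004 IH) (Lpn v40899))))
theorem f495273 : Led Lsl_et (LP (LK LD1_c2 LD2_c27 LD3_c27)) = (LP (LK LD1_c4 LD2_c59 LD3_c4)) :=
  Lre_e IH (LK LD1_c2 LD2_c27 LD3_c27) (LK LD1_c4 LD2_c59 LD3_c4) Lrfl Lrfl
theorem f825128 : Led Lsl_df (LP (LK LD1_c12 LD2_c29 LD3_c48)) = K65.v24680 :=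
  Lgr Lrot38 (Lpr_dt (K65.f825127 IH) (Lpn K65.v24680))
theorem f921007 : Led Lsl_et K65.v24680 = v40899 :=
  Lgr Lrot185 (Lpe (f825128 IH) (Lpe (K65.f140785 IH) (Lpe (K46.f140768 IH) (Lpe (K46.f643553 IH) (Lpe (f495273 IH) (Lpr_dt (K40.f101720 IH) (Lpe (K36.f72493 IH) (Lpe (K37.f539833 IH) (Lpr_et (K40.f539885 IH) (Lpr_gf (f921004 IH) (Lpn v40899)))))))))))
theorem f921010 : Led Lsl_ef K65.v24680 = v40899 :=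
  Lgr Lrot88 (Lpr_et (f921007 IH) (Lpn v40899))
theorem f913658 : Led Lsl_df K70.v17723 = K70.v25692 :=
  Lgr Lrot38 (Lpr_dt (K70.f913656 IH) (Lpn K70.v25692))
theorem f913650 : Led Lsl_at (LP (LK LD1_c12 LD2_c25 LD3_c41)) = (LP (LK LD1_c12 LD2_c56 LD3_c46)) :=
  Lgr Lrot51 (Lpr_df (K70.f699046 IH) (Lpe (K70.f913627 IH) (Lpr_df (K70.f913648 IH) (Lpn (LP (LK LD1_c12 LD2_c56 LD3_c46))))))
theorem f913653 : Led Lsl_at K70.v17723 = (LP (LK LD1_c12 LD2_c29 LD3_c48)) :=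
  Lgr Lrot80 (Lpr_ef (K70.f913652 IH) (Lpe (f913650 IH) (Lpr_ef (K65.f699054 IH) (Lpn (LP (LK LD1_c12 LD2_c29 LD3_c48))))))
theorem f913682 : Led Lsl_at K65.v24680 = K70.v25692 :=
  Lgr Lrot51 (Lpe (K65.f825127 IH) (Lpe (f913653 IH) (Lpr_df (f913658 IH) (Lpn K70.v25692))))
theorem f761876 : Led Lsl_gt (LP (LK LD1_c12 LD2_c29 LD3_c49)) = K70.v17723 :=
  Lgr Lrot5 (Lpr_ft (K35.f504958 IH) (Lpr_at (K35.f438663 IH) (Lpr_gf (K70.f761875 IH) (Lpn K70.v17723))))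
theorem f211804 : Led Lsl_et (LP (LK LD1_c2 LD2_c52 LD3_c48)) = (LP (LK LD1_c5 LD2_c53 LD3_c3)) :=
  Lre_e IH (LK LD1_c2 LD2_c52 LD3_c48) (LK LD1_c5 LD2_c53 LD3_c3) Lrfl Lrfl
def v16129 : LQ := Led Lsl_gf (LP (LK LD1_c5 LD2_c53 LD3_c3))
theorem f746672 : Led Lsl_gf (LP (LK LD1_c5 LD2_c53 LD3_c3)) = v16129 :=
  Lrfl
theorem f913683 : Led Lsl_ef v16129 = K70.v25692 :=
  Lgr Lrot114 (Lpe (f746672 IH) (Lpe (f211804 IH) (Lpr_dt (K36.f211799 IH) (Lpr_gt (K39.f500360 IH) (Lpq (K39.f556053 IH) (Lpe (K39.f139010 IH) (Lpr_et (K39.f138999 IH) (Lpe (K57.f615216 IH) (Lpr_dt (K46.f140788 IH) (Lpr_gt (f761876 IH) (Lpr_df (f913658 IH) (Lpn K70.v25692))))))))))))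
theorem f921011 : Led Lsl_at v16129 = v40899 :=
  Lgr Lrot80 (Lpr_ef (f913683 IH) (Lpe (f913682 IH) (Lpr_ef (f921010 IH) (Lpn v40899))))
theorem f921016 : Led Lsl_ft v40898 = v16129 :=
  Lgr Lrot2 (Lpr_gt (f921015 IH) (Lpr_gt (f921005 IH) (Lpe (f921011 IH) (Lpn v16129))))
theorem f921017 : Led Lsl_ff v40898 = v16129 :=
  Lgr Lrot3 (Lpr_ft (f921016 IH) (Lpn v16129))
theorem f921018 : Led Lsl_at v40898 = (LP (LK LD1_c11 LD2_c32 LD3_c16)) :=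
  Lgr Lrot26 (Lpr_ff (f921017 IH) (Lpe (f746672 IH) (Lpr_gt (K69.f500363 IH) (Lpn (LP (LK LD1_c11 LD2_c32 LD3_c16))))))
theorem f913646 : Led Lsl_af (LP (LK LD1_c12 LD2_c25 LD3_c41)) = (LP (LK LD1_c12 LD2_c56 LD3_c46)) :=
  Lgr Lrot117 (Lpr_dt (K65.f699042 IH) (Lpe (K70.f913630 IH) (Lpr_dt (K70.f913644 IH) (Lpn (LP (LK LD1_c12 LD2_c56 LD3_c46))))))
theorem f913655 : Led Lsl_af K70.v17723 = (LP (LK LD1_c12 LD2_c29 LD3_c48)) :=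
  Lgr Lrot50 (Lpr_et (K70.f913654 IH) (Lpe (f913646 IH) (Lpr_et (K65.f699049 IH) (Lpn (LP (LK LD1_c12 LD2_c29 LD3_c48))))))
theorem f913657 : Led Lsl_af K65.v24680 = K70.v25692 :=
  Lgr Lrot117 (Lpe (f825128 IH) (Lpe (f913655 IH) (Lpr_dt (K70.f913656 IH) (Lpn K70.v25692))))
theorem f913684 : Led Lsl_et v16129 = K70.v25692 :=
  Lgr Lrot87 (Lpr_ef (f913683 IH) (Lpn K70.v25692))
theorem f921008 : Led Lsl_af v16129 = v40899 :=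
  Lgr Lrot50 (Lpr_et (f913684 IH) (Lpe (f913657 IH) (Lpr_et (f921007 IH) (Lpn v40899))))
theorem f921020 : Led Lsl_ff v40899 = (LP (LK LD1_c11 LD2_c32 LD3_c16)) :=
  Lgr Lrot30 (Lpe (f921008 IH) (Lpe (f921017 IH) (Lpr_at (f921018 IH) (Lpn (LP (LK LD1_c11 LD2_c32 LD3_c16))))))
theorem f559534 : Led Lsl_et (LP (LK LD1_c20 LD2_c22 LD3_c16)) = (LP (LK LD1_c11 LD2_c24 LD3_c31)) :=
  Lre_e IH (LK LD1_c20 LD2_c22 LD3_c16) (LK LD1_c11 LD2_c24 LD3_c31) Lrfl Lrfl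
theorem f921009 : Led Lsl_df (LP (LK LD1_c20 LD2_c22 LD3_c16)) = v40899 :=
  Lgr Lrot70 (Lpr_et (f559534 IH) (Lpe (K70.f699046 IH) (Lpr_et (K65.f699049 IH) (Lpr_dt (K65.f825127 IH) (Lpr_et (f921007 IH) (Lpn v40899))))))
theorem f559541 : Led Lsl_dt (LP (LK LD1_c20 LD2_c29 LD3_c0)) = (LP (LK LD1_c11 LD2_c32 LD3_c16)) :=
  Lre_d IH (LK LD1_c20 LD2_c29 LD3_c0) (LK LD1_c11 LD2_c32 LD3_c16) Lrfl Lrfl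
theorem f921021 : Led Lsl_ft (LP (LK LD1_c20 LD2_c22 LD3_c16)) = (LP (LK LD1_c20 LD2_c29 LD3_c0)) :=
  Lgr Lrot54 (Lpr_df (f921009 IH) (Lpr_ff (f921020 IH) (Lpe (f559541 IH) (Lpn (LP (LK LD1_c20 LD2_c29 LD3_c0))))))
theorem f921022 : Led Lsl_ft (LP (LK LD1_c20 LD2_c22 LD3_c16)) = (LP (LK LD1_c20 LD2_c29 LD3_c0)) :=
  Leop (Lpe (f921021 IH) (Lpn (LP (LK LD1_c20 LD2_c22 LD3_c16))))
theorem seed_2434 : LEOK LG_f (LK LD1_c20 LD2_c22 LD3_c16) :=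
  Leoe_f (LK LD1_c20 LD2_c22 LD3_c16) (f921022 IH)
def v20305 : LQ := Led Lsl_ct (LP (LK LD1_c6 LD2_c54 LD3_c4))
theorem f786237 : Led Lsl_ct (LP (LK LD1_c6 LD2_c54 LD3_c4)) = v20305 :=
  Lrfl
theorem f786234 : Led Lsl_bt (LP (LK LD1_c6 LD2_c54 LD3_c4)) = (LP (LK LD1_c13 LD2_c6 LD3_c51)) :=
  Lre_b IH (LK LD1_c6 LD2_c54 LD3_c4) (LK LD1_c13 LD2_c6 LD3_c51) Lrfl Lrfl
def v41006 : LQ := Led Lsl_bt (LP (LK LD1_c9 LD2_c50 LD3_c27))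
theorem f921541 : Led Lsl_bt (LP (LK LD1_c9 LD2_c50 LD3_c27)) = v41006 :=
  Lrfl
theorem f77426 : Led Lsl_ct (LP (LK LD1_c4 LD2_c59 LD3_c59)) = (LP (LK LD1_c2 LD2_c27 LD3_c45)) :=
  Lre_c IH (LK LD1_c4 LD2_c59 LD3_c59) (LK LD1_c2 LD2_c27 LD3_c45) Lrfl Lrfl
def v14149 : LQ := Led Lsl_bt (LP (LK LD1_c4 LD2_c59 LD3_c59))
theorem f720522 : Led Lsl_bt (LP (LK LD1_c4 LD2_c59 LD3_c59)) = v14149 :=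
  Lrfl
theorem f720523 : Led Lsl_bf (LP (LK LD1_c4 LD2_c59 LD3_c59)) = v14149 :=
  Lgr Lrot24 (Lpr_bt (f720522 IH) (Lpn v14149))
theorem f921543 : Led Lsl_cf v14149 = v41006 :=
  Lgr Lrot97 (Lpe (f720523 IH) (Lpr_ct (f77426 IH) (Lpr_bt (K56.f636085 IH) (Lpr_ct (K55.f140718 IH) (Lpr_bt (f921541 IH) (Lpn v41006))))))
def v40941 : LQ := Led Lsl_et (LP (LK LD1_c9 LD2_c49 LD3_c29))
theorem f921236 : Led Lsl_et (LP (LK LD1_c9 LD2_c49 LD3_c29)) = v40941 :=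
  Lrfl
theorem f921240 : Led Lsl_ef (LP (LK LD1_c9 LD2_c49 LD3_c29)) = v40941 :=
  Lgr Lrot88 (Lpr_et (f921236 IH) (Lpn v40941))
theorem f127638 : Led Lsl_et (LP (LK LD1_c7 LD2_c43 LD3_c3)) = (LP (LK LD1_c14 LD2_c32 LD3_c56)) :=
  Lre_e IH (LK LD1_c7 LD2_c43 LD3_c3) (LK LD1_c14 LD2_c32 LD3_c56) Lrfl Lrfl
theorem f921242 : Led Lsl_bt (LP (LK LD1_c14 LD2_c32 LD3_c56)) = v40941 :=
  Lgr Lrot119 (Lpe (f127638 IH) (Lpe (K32.f130346 IH) (Lpr_ef (f921240 IH) (Lpn v40941))))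
theorem f136441 : Led Lsl_ct (LP (LK LD1_c14 LD2_c32 LD3_c56)) = (LP (LK LD1_c7 LD2_c43 LD3_c4)) :=
  Lre_c IH (LK LD1_c14 LD2_c32 LD3_c56) (LK LD1_c7 LD2_c43 LD3_c4) Lrfl Lrfl
theorem f768422 : Led Lsl_ft (LP (LK LD1_c14 LD2_c32 LD3_c58)) = (LP (LK LD1_c12 LD2_c33 LD3_c10)) :=
  Lgr Lrot48 (Lpr_ff (K58.f768414 IH) (Lpn (LP (LK LD1_c12 LD2_c33 LD3_c10))))
theorem f768406 : Led Lsl_bf (LP (LK LD1_c14 LD2_c32 LD3_c58)) = (LP (LK LD1_c20 LD2_c49 LD3_c15)) :=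
  Lgr Lrot24 (Lpr_bt (K58.f768404 IH) (Lpn (LP (LK LD1_c20 LD2_c49 LD3_c15))))
theorem f768426 : Led Lsl_bt (LP (LK LD1_c12 LD2_c33 LD3_c10)) = (LP (LK LD1_c21 LD2_c39 LD3_c7)) :=
  Lre_b IH (LK LD1_c12 LD2_c33 LD3_c10) (LK LD1_c21 LD2_c39 LD3_c7) Lrfl Lrfl
theorem f768427 : Led Lsl_ff (LP (LK LD1_c20 LD2_c49 LD3_c15)) = (LP (LK LD1_c21 LD2_c39 LD3_c7)) :=
  Lgr Lrot25 (Lpe (f768406 IH) (Lpr_ft (f768422 IH) (Lpr_bt (f768426 IH) (Lpn (LP (LK LD1_c21 LD2_c39 LD3_c7))))))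
theorem f720224 : Led Lsl_ct (LP (LK LD1_c20 LD2_c49 LD3_c15)) = (LP (LK LD1_c11 LD2_c47 LD3_c20)) :=
  Lre_c IH (LK LD1_c20 LD2_c49 LD3_c15) (LK LD1_c11 LD2_c47 LD3_c20) Lrfl Lrfl
theorem f720021 : Led Lsl_bt (LP (LK LD1_c11 LD2_c47 LD3_c21)) = (LP (LK LD1_c6 LD2_c1 LD3_c22)) :=
  Lre_b IH (LK LD1_c11 LD2_c47 LD3_c21) (LK LD1_c6 LD2_c1 LD3_c22) Lrfl Lrfl
theorem f720380 : Led Lsl_bt (LP (LK LD1_c11 LD2_c43 LD3_c35)) = (LP (LK LD1_c20 LD2_c44 LD3_c45)) :=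
  Lre_b IH (LK LD1_c11 LD2_c43 LD3_c35) (LK LD1_c20 LD2_c44 LD3_c45) Lrfl Lrfl
theorem f720381 : Led Lsl_ff (LP (LK LD1_c11 LD2_c47 LD3_c21)) = (LP (LK LD1_c20 LD2_c44 LD3_c45)) :=
  Lgr Lrot25 (Lpr_bt (f720021 IH) (Lpr_ft (K55.f720376 IH) (Lpr_bt (f720380 IH) (Lpn (LP (LK LD1_c20 LD2_c44 LD3_c45))))))
theorem f711666 : Led Lsl_dt (LP (LK LD1_c11 LD2_c47 LD3_c21)) = (LP (LK LD1_c6 LD2_c1 LD3_c21)) :=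
  Lre_d IH (LK LD1_c11 LD2_c47 LD3_c21) (LK LD1_c6 LD2_c1 LD3_c21) Lrfl Lrfl
theorem f714699 : Led Lsl_dt (LP (LK LD1_c11 LD2_c43 LD3_c34)) = (LP (LK LD1_c20 LD2_c44 LD3_c45)) :=
  Lre_d IH (LK LD1_c11 LD2_c43 LD3_c34) (LK LD1_c20 LD2_c44 LD3_c45) Lrfl Lrfl
theorem f720388 : Led Lsl_ft (LP (LK LD1_c6 LD2_c1 LD3_c21)) = (LP (LK LD1_c11 LD2_c43 LD3_c34)) :=
  Lgr Lrot54 (Lpe (f711666 IH) (Lpr_ff (f720381 IH) (Lpe (f714699 IH) (Lpn (LP (LK LD1_c11 LD2_c43 LD3_c34))))))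
theorem f641641 : Led Lsl_at (LP (LK LD1_c11 LD2_c47 LD3_c20)) = (LP (LK LD1_c6 LD2_c1 LD3_c21)) :=
  Lre_a IH (LK LD1_c11 LD2_c47 LD3_c20) (LK LD1_c6 LD2_c1 LD3_c21) Lrfl Lrfl
theorem f720390 : Led Lsl_at (LP (LK LD1_c11 LD2_c43 LD3_c34)) = (LP (LK LD1_c20 LD2_c44 LD3_c44)) :=
  Lre_a IH (LK LD1_c11 LD2_c43 LD3_c34) (LK LD1_c20 LD2_c44 LD3_c44) Lrfl Lrfl
theorem f720391 : Led Lsl_ff (LP (LK LD1_c11 LD2_c47 LD3_c20)) = (LP (LK LD1_c20 LD2_c44 LD3_c44)) :=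
  Lgr Lrot30 (Lpr_at (f641641 IH) (Lpr_ft (f720388 IH) (Lpr_at (f720390 IH) (Lpn (LP (LK LD1_c20 LD2_c44 LD3_c44))))))
theorem f720397 : Led Lsl_ft (LP (LK LD1_c11 LD2_c47 LD3_c20)) = (LP (LK LD1_c20 LD2_c44 LD3_c44)) :=
  Lgr Lrot48 (Lpr_ff (f720391 IH) (Lpn (LP (LK LD1_c20 LD2_c44 LD3_c44))))
theorem f768433 : Led Lsl_ct (LP (LK LD1_c20 LD2_c44 LD3_c44)) = (LP (LK LD1_c21 LD2_c39 LD3_c7)) :=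
  Lgr Lrot40 (Lpe (f720397 IH) (Lpe (f720224 IH) (Lpr_ff (f768427 IH) (Lpn (LP (LK LD1_c21 LD2_c39 LD3_c7))))))
theorem f415629 : Led Lsl_bt (LP (LK LD1_c11 LD2_c43 LD3_c41)) = (LP (LK LD1_c5 LD2_c59 LD3_c32)) :=
  Lre_b IH (LK LD1_c11 LD2_c43 LD3_c41) (LK LD1_c5 LD2_c59 LD3_c32) Lrfl Lrfl
theorem f415779 : Led Lsl_at (LP (LK LD1_c20 LD2_c44 LD3_c53)) = (LP (LK LD1_c11 LD2_c43 LD3_c41)) :=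
  Lre_a IH (LK LD1_c20 LD2_c44 LD3_c53) (LK LD1_c11 LD2_c43 LD3_c41) Lrfl Lrfl
theorem f564026 : Led Lsl_bt (LP (LK LD1_c2 LD2_c56 LD3_c51)) = (LP (LK LD1_c6 LD2_c1 LD3_c21)) :=
  Lre_b IH (LK LD1_c2 LD2_c56 LD3_c51) (LK LD1_c6 LD2_c1 LD3_c21) Lrfl Lrfl
theorem f641642 : Led Lsl_at (LP (LK LD1_c6 LD2_c1 LD3_c21)) = (LP (LK LD1_c11 LD2_c47 LD3_c20)) :=
  Lre_a IH (LK LD1_c6 LD2_c1 LD3_c21) (LK LD1_c11 LD2_c47 LD3_c20) Lrfl Lrfl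
theorem f720220 : Led Lsl_bf (LP (LK LD1_c20 LD2_c44 LD3_c53)) = (LP (LK LD1_c11 LD2_c47 LD3_c20)) :=
  Lgr Lrot81 (Lpr_at (f415779 IH) (Lpr_bt (f415629 IH) (Lpq (K53.f719933 IH) (Lpe (K41.f641563 IH) (Lpr_bt (f564026 IH) (Lpr_at (f641642 IH) (Lpn (LP (LK LD1_c11 LD2_c47 LD3_c20)))))))))
theorem f715424 : Led Lsl_bt (LP (LK LD1_c11 LD2_c46 LD3_c50)) = (LP (LK LD1_c6 LD2_c1 LD3_c7)) :=
  Lre_b IH (LK LD1_c11 LD2_c46 LD3_c50) (LK LD1_c6 LD2_c1 LD3_c7) Lrfl Lrfl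
theorem f720010 : Led Lsl_bt (LP (LK LD1_c11 LD2_c43 LD3_c42)) = (LP (LK LD1_c20 LD2_c44 LD3_c54)) :=
  Lre_b IH (LK LD1_c11 LD2_c43 LD3_c42) (LK LD1_c20 LD2_c44 LD3_c54) Lrfl Lrfl
theorem f720011 : Led Lsl_ff (LP (LK LD1_c11 LD2_c46 LD3_c50)) = (LP (LK LD1_c20 LD2_c44 LD3_c54)) :=
  Lgr Lrot25 (Lpr_bt (f715424 IH) (Lpr_ft (K53.f720008 IH) (Lpr_bt (f720010 IH) (Lpn (LP (LK LD1_c20 LD2_c44 LD3_c54))))))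
theorem f140843 : Led Lsl_dt (LP (LK LD1_c11 LD2_c46 LD3_c50)) = (LP (LK LD1_c6 LD2_c1 LD3_c6)) :=
  Lre_d IH (LK LD1_c11 LD2_c46 LD3_c50) (LK LD1_c6 LD2_c1 LD3_c6) Lrfl Lrfl
theorem f415795 : Led Lsl_dt (LP (LK LD1_c11 LD2_c43 LD3_c41)) = (LP (LK LD1_c20 LD2_c44 LD3_c54)) :=
  Lre_d IH (LK LD1_c11 LD2_c43 LD3_c41) (LK LD1_c20 LD2_c44 LD3_c54) Lrfl Lrfl
theorem f720043 : Led Lsl_ft (LP (LK LD1_c6 LD2_c1 LD3_c6)) = (LP (LK LD1_c11 LD2_c43 LD3_c41)) :=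
  Lgr Lrot54 (Lpe (f140843 IH) (Lpr_ff (f720011 IH) (Lpe (f415795 IH) (Lpn (LP (LK LD1_c11 LD2_c43 LD3_c41))))))
theorem f641541 : Led Lsl_at (LP (LK LD1_c11 LD2_c46 LD3_c49)) = (LP (LK LD1_c6 LD2_c1 LD3_c6)) :=
  Lre_a IH (LK LD1_c11 LD2_c46 LD3_c49) (LK LD1_c6 LD2_c1 LD3_c6) Lrfl Lrfl
theorem f415793 : Led Lsl_at (LP (LK LD1_c11 LD2_c43 LD3_c41)) = (LP (LK LD1_c20 LD2_c44 LD3_c53)) :=
  Lre_a IH (LK LD1_c11 LD2_c43 LD3_c41) (LK LD1_c20 LD2_c44 LD3_c53) Lrfl Lrfl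
theorem f720046 : Led Lsl_ff (LP (LK LD1_c11 LD2_c46 LD3_c49)) = (LP (LK LD1_c20 LD2_c44 LD3_c53)) :=
  Lgr Lrot30 (Lpr_at (f641541 IH) (Lpr_ft (f720043 IH) (Lpr_at (f415793 IH) (Lpn (LP (LK LD1_c20 LD2_c44 LD3_c53))))))
theorem f720395 : Led Lsl_bt (LP (LK LD1_c11 LD2_c46 LD3_c49)) = (LP (LK LD1_c20 LD2_c44 LD3_c44)) :=
  Lgr Lrot35 (Lpr_ff (f720046 IH) (Lpr_bf (f720220 IH) (Lpr_ff (f720391 IH) (Lpn (LP (LK LD1_c20 LD2_c44 LD3_c44))))))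
theorem f720151 : Led Lsl_ct (LP (LK LD1_c20 LD2_c48 LD3_c36)) = (LP (LK LD1_c11 LD2_c46 LD3_c49)) :=
  Lre_c IH (LK LD1_c20 LD2_c48 LD3_c36) (LK LD1_c11 LD2_c46 LD3_c49) Lrfl Lrfl
theorem f140189 : Led Lsl_bt (LP (LK LD1_c11 LD2_c46 LD3_c39)) = (LP (LK LD1_c6 LD2_c1 LD3_c2)) :=
  Lre_b IH (LK LD1_c11 LD2_c46 LD3_c39) (LK LD1_c6 LD2_c1 LD3_c2) Lrfl Lrfl
theorem f720146 : Led Lsl_at (LP (LK LD1_c20 LD2_c48 LD3_c36)) = (LP (LK LD1_c11 LD2_c46 LD3_c39)) :=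
  Lre_a IH (LK LD1_c20 LD2_c48 LD3_c36) (LK LD1_c11 LD2_c46 LD3_c39) Lrfl Lrfl
theorem f140190 : Led Lsl_ct (LP (LK LD1_c11 LD2_c46 LD3_c39)) = (LP (LK LD1_c6 LD2_c1 LD3_c6)) :=
  Lre_c IH (LK LD1_c11 LD2_c46 LD3_c39) (LK LD1_c6 LD2_c1 LD3_c6) Lrfl Lrfl
theorem f415633 : Led Lsl_cf (LP (LK LD1_c5 LD2_c59 LD3_c31)) = (LP (LK LD1_c4 LD2_c59 LD3_c50)) :=
  Lgr Lrot11 (Lpr_ct (K32.f415625 IH) (Lpn (LP (LK LD1_c4 LD2_c59 LD3_c50))))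
theorem f415769 : Led Lsl_bt (LP (LK LD1_c5 LD2_c59 LD3_c32)) = (LP (LK LD1_c11 LD2_c43 LD3_c41)) :=
  Lre_b IH (LK LD1_c5 LD2_c59 LD3_c32) (LK LD1_c11 LD2_c43 LD3_c41) Lrfl Lrfl
theorem f77574 : Led Lsl_bt (LP (LK LD1_c9 LD2_c50 LD3_c6)) = (LP (LK LD1_c4 LD2_c59 LD3_c50)) :=
  Lre_b IH (LK LD1_c9 LD2_c50 LD3_c6) (LK LD1_c4 LD2_c59 LD3_c50) Lrfl Lrfl
theorem f415770 : Led Lsl_ct (LP (LK LD1_c11 LD2_c43 LD3_c41)) = (LP (LK LD1_c9 LD2_c50 LD3_c6)) :=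
  Lgr Lrot83 (Lpe (f415769 IH) (Lpe (K51.f415656 IH) (Lpe (K32.f415624 IH) (Lpr_cf (f415633 IH) (Lpe (f77574 IH) (Lpn (LP (LK LD1_c9 LD2_c50 LD3_c6))))))))
theorem f720048 : Led Lsl_ff (LP (LK LD1_c11 LD2_c46 LD3_c39)) = (LP (LK LD1_c9 LD2_c50 LD3_c6)) :=
  Lgr Lrot23 (Lpr_ct (f140190 IH) (Lpr_ft (f720043 IH) (Lpr_ct (f415770 IH) (Lpn (LP (LK LD1_c9 LD2_c50 LD3_c6))))))
theorem f415630 : Led Lsl_bt (LP (LK LD1_c4 LD2_c59 LD3_c50)) = (LP (LK LD1_c9 LD2_c50 LD3_c6)) :=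
  Lre_b IH (LK LD1_c4 LD2_c59 LD3_c50) (LK LD1_c9 LD2_c50 LD3_c6) Lrfl Lrfl
def v14130 : LQ := Led Lsl_at (LP (LK LD1_c4 LD2_c59 LD3_c49))
theorem f719294 : Led Lsl_at (LP (LK LD1_c4 LD2_c59 LD3_c49)) = v14130 :=
  Lrfl
theorem f719295 : Led Lsl_af (LP (LK LD1_c4 LD2_c59 LD3_c49)) = v14130 :=
  Lgr Lrot0 (Lpr_at (f719294 IH) (Lpn v14130))
theorem f719300 : Led Lsl_ft (LP (LK LD1_c4 LD2_c59 LD3_c50)) = v14130 :=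
  Lgr Lrot2 (Lpr_gt (K32.f72560 IH) (Lpr_gt (K55.f77569 IH) (Lpr_af (f719295 IH) (Lpn v14130))))
theorem f719301 : Led Lsl_ff (LP (LK LD1_c4 LD2_c59 LD3_c50)) = v14130 :=
  Lgr Lrot3 (Lpr_ft (f719300 IH) (Lpn v14130))
theorem f720065 : (LP (LK LD1_c6 LD2_c1 LD3_c2)) = v14130 :=
  (Llr Lrot35 (Lpe (f140189 IH) (Lpr_ff (f720048 IH) (Lpe (f415630 IH) (Lpr_ff (f719301 IH) (Lpn v14130)))))).symm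
theorem f719298 : Led Lsl_bt (LP (LK LD1_c4 LD2_c59 LD3_c49)) = (LP (LK LD1_c9 LD2_c50 LD3_c3)) :=
  Lre_b IH (LK LD1_c4 LD2_c59 LD3_c49) (LK LD1_c9 LD2_c50 LD3_c3) Lrfl Lrfl
theorem f719299 : Led Lsl_at (LP (LK LD1_c9 LD2_c50 LD3_c3)) = (LP (LK LD1_c18 LD2_c0 LD3_c50)) :=
  Lre_a IH (LK LD1_c9 LD2_c50 LD3_c3) (LK LD1_c18 LD2_c0 LD3_c50) Lrfl Lrfl
theorem f720147 : Led Lsl_bf (LP (LK LD1_c20 LD2_c48 LD3_c36)) = (LP (LK LD1_c18 LD2_c0 LD3_c50)) :=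
  Lgr Lrot81 (Lpr_at (f720146 IH) (Lpr_bt (f140189 IH) (Lpqs (f720065 IH) (Lpe (f719295 IH) (Lpr_bt (f719298 IH) (Lpr_at (f719299 IH) (Lpn (LP (LK LD1_c18 LD2_c0 LD3_c50)))))))))
theorem f507839 : Led Lsl_bt (LP (LK LD1_c21 LD2_c39 LD3_c7)) = (LP (LK LD1_c12 LD2_c33 LD3_c10)) :=
  Lre_b IH (LK LD1_c21 LD2_c39 LD3_c7) (LK LD1_c12 LD2_c33 LD3_c10) Lrfl Lrfl
theorem f768439 : Led Lsl_cf (LP (LK LD1_c18 LD2_c0 LD3_c50)) = (LP (LK LD1_c12 LD2_c33 LD3_c10)) :=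
  Lgr Lrot97 (Lpe (f720147 IH) (Lpr_ct (f720151 IH) (Lpr_bt (f720395 IH) (Lpr_ct (f768433 IH) (Lpr_bt (f507839 IH) (Lpn (LP (LK LD1_c12 LD2_c33 LD3_c10))))))))
theorem f719296 : Led Lsl_at (LP (LK LD1_c18 LD2_c0 LD3_c50)) = (LP (LK LD1_c9 LD2_c50 LD3_c3)) :=
  Lre_a IH (LK LD1_c18 LD2_c0 LD3_c50) (LK LD1_c9 LD2_c50 LD3_c3) Lrfl Lrfl
theorem f768401 : Led Lsl_ff (LP (LK LD1_c14 LD2_c32 LD3_c57)) = K58.v18770 :=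
  Lgr Lrot3 (Lpr_ft (K58.f768400 IH) (Lpn K58.v18770))
theorem f768416 : Led Lsl_at (LP (LK LD1_c14 LD2_c32 LD3_c57)) = (LP (LK LD1_c12 LD2_c33 LD3_c10)) :=
  Lgr Lrot66 (Lpr_ff (f768401 IH) (Lpe (K58.f768403 IH) (Lpr_ff (K58.f768414 IH) (Lpn (LP (LK LD1_c12 LD2_c33 LD3_c10))))))
theorem f768445 : Led Lsl_ct (LP (LK LD1_c9 LD2_c50 LD3_c3)) = (LP (LK LD1_c14 LD2_c32 LD3_c57)) :=
  Lgr Lrot111 (Lpe (f719296 IH) (Lpr_cf (f768439 IH) (Lpe (f768416 IH) (Lpn (LP (LK LD1_c14 LD2_c32 LD3_c57))))))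
theorem f77575 : Led Lsl_bt (LP (LK LD1_c9 LD2_c50 LD3_c3)) = (LP (LK LD1_c4 LD2_c59 LD3_c49)) :=
  Lre_b IH (LK LD1_c9 LD2_c50 LD3_c3) (LK LD1_c4 LD2_c59 LD3_c49) Lrfl Lrfl
theorem f921244 : Led Lsl_gt v14149 = v40941 :=
  Lgr Lrot164 (Lpe (f720522 IH) (Lpr_ct (f77426 IH) (Lpe (K53.f415086 IH) (Lpe (K55.f415095 IH) (Lpe (K55.f414388 IH) (Lpe (f77575 IH) (Lpr_ct (f768445 IH) (Lpe (K58.f95396 IH) (Lpe (f136441 IH) (Lpr_bt (f921242 IH) (Lpn v40941)))))))))))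
def v22053 : LQ := Led Lsl_et (LP (LK LD1_c7 LD2_c30 LD3_c39))
theorem f800956 : Led Lsl_et (LP (LK LD1_c7 LD2_c30 LD3_c39)) = v22053 :=
  Lrfl
theorem f921243 : Led Lsl_ct v22053 = v40941 :=
  Lgr Lrot15 (Lpe (f800956 IH) (Lpe (K32.f130348 IH) (Lpr_ef (f921240 IH) (Lpn v40941))))
def v7311 : LQ := Led Lsl_et (LP (LK LD1_c3 LD2_c44 LD3_c50))
theorem f664466 : Led Lsl_et (LP (LK LD1_c3 LD2_c44 LD3_c50)) = v7311 :=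
  Lrfl
theorem f664469 : Led Lsl_ef (LP (LK LD1_c3 LD2_c44 LD3_c50)) = v7311 :=
  Lgr Lrot88 (Lpr_et (f664466 IH) (Lpn v7311))
theorem f800958 : Led Lsl_bf v7311 = v22053 :=
  Lgr Lrot96 (Lpe (f664469 IH) (Lpr_bt (K8.f95282 IH) (Lpr_et (f800956 IH) (Lpn v22053))))
def v27213 : LQ := Led Lsl_gt v7311
theorem f838323 : Led Lsl_gt v7311 = v27213 :=
  Lrfl
theorem f921542 : Led Lsl_bf (LP (LK LD1_c9 LD2_c50 LD3_c27)) = v41006 :=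
  Lgr Lrot24 (Lpr_bt (f921541 IH) (Lpn v41006))
theorem f750396 : Led Lsl_bf (LP (LK LD1_c6 LD2_c2 LD3_c50)) = K60.v16555 :=
  Lgr Lrot24 (Lpr_bt (K60.f750395 IH) (Lpn K60.v16555))
def v20195 : LQ := Led Lsl_ft (LP (LK LD1_c6 LD2_c51 LD3_c43))
theorem f785434 : Led Lsl_ft (LP (LK LD1_c6 LD2_c51 LD3_c43)) = v20195 :=
  Lrfl
theorem f785439 : Led Lsl_ff (LP (LK LD1_c6 LD2_c51 LD3_c43)) = v20195 :=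
  Lgr Lrot3 (Lpr_ft (f785434 IH) (Lpn v20195))
theorem f785443 : Led Lsl_ct K60.v16555 = v20195 :=
  Lgr Lrot40 (Lpe (K63.f750400 IH) (Lpe (K4.f91857 IH) (Lpr_ff (f785439 IH) (Lpn v20195))))
theorem f94766 : Led Lsl_ft (LP (LK LD1_c3 LD2_c26 LD3_c6)) = (LP (LK LD1_c6 LD2_c54 LD3_c6)) :=
  Lre_f IH (LK LD1_c3 LD2_c26 LD3_c6) (LK LD1_c6 LD2_c54 LD3_c6) Lrfl Lrfl
theorem f785441 : Led Lsl_at (LP (LK LD1_c6 LD2_c54 LD3_c6)) = v20195 :=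
  Lgr Lrot66 (Lpe (f94766 IH) (Lpr_af (K4.f102406 IH) (Lpr_ff (f785439 IH) (Lpn v20195))))
theorem f94755 : Led Lsl_gt (LP (LK LD1_c3 LD2_c26 LD3_c6)) = (LP (LK LD1_c6 LD2_c54 LD3_c4)) :=
  Lre_g IH (LK LD1_c3 LD2_c26 LD3_c6) (LK LD1_c6 LD2_c54 LD3_c4) Lrfl Lrfl
theorem f785446 : Led Lsl_gt (LP (LK LD1_c6 LD2_c54 LD3_c4)) = v20195 :=
  Lgr Lrot46 (Lpe (f94755 IH) (Lpr_ft (f94766 IH) (Lpr_at (f785441 IH) (Lpn v20195))))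
theorem f786238 : Led Lsl_cf (LP (LK LD1_c6 LD2_c54 LD3_c4)) = v20305 :=
  Lgr Lrot11 (Lpr_ct (f786237 IH) (Lpn v20305))
theorem f921545 : v27213 = v20305 :=
  (Llr Lrot82 (Lpe (f838323 IH) (Lpr_bf (f800958 IH) (Lpr_ct (f921243 IH) (Lpe (f921244 IH) (Lpr_cf (f921543 IH) (Lpe (f921542 IH) (Lpe (K55.f140719 IH) (Lpr_bf (f750396 IH) (Lpr_ct (f785443 IH) (Lpe (f785446 IH) (Lpr_cf (f786238 IH) (Lpn v20305))))))))))))).symm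
theorem f664471 : Led Lsl_ct (LP (LK LD1_c3 LD2_c50 LD3_c59)) = v7311 :=
  Lgr Lrot15 (Lpe (K47.f95281 IH) (Lpe (K2.f95272 IH) (Lpr_ef (f664469 IH) (Lpn v7311))))
theorem f136901 : Led Lsl_bt (LP (LK LD1_c3 LD2_c50 LD3_c59)) = (LP (LK LD1_c7 LD2_c43 LD3_c4)) :=
  Lre_b IH (LK LD1_c3 LD2_c50 LD3_c59) (LK LD1_c7 LD2_c43 LD3_c4) Lrfl Lrfl
theorem f641545 : Led Lsl_bt (LP (LK LD1_c6 LD2_c1 LD3_c21)) = (LP (LK LD1_c2 LD2_c56 LD3_c51)) :=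
  Lre_b IH (LK LD1_c6 LD2_c1 LD3_c21) (LK LD1_c2 LD2_c56 LD3_c51) Lrfl Lrfl
theorem f641380 : Led Lsl_bt (LP (LK LD1_c5 LD2_c59 LD3_c28)) = (LP (LK LD1_c11 LD2_c43 LD3_c34)) :=
  Lre_b IH (LK LD1_c5 LD2_c59 LD3_c28) (LK LD1_c11 LD2_c43 LD3_c34) Lrfl Lrfl
theorem f720366 : Led Lsl_ff (LP (LK LD1_c6 LD2_c1 LD3_c21)) = (LP (LK LD1_c11 LD2_c43 LD3_c34)) :=
  Lgr Lrot25 (Lpr_bt (f641545 IH) (Lpr_ft (K41.f641544 IH) (Lpqs (K55.f719905 IH) (Lpr_bt (f641380 IH) (Lpn (LP (LK LD1_c11 LD2_c43 LD3_c34)))))))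
theorem f641381 : Led Lsl_gt (LP (LK LD1_c11 LD2_c43 LD3_c34)) = (LP (LK LD1_c20 LD2_c44 LD3_c43)) :=
  Lre_g IH (LK LD1_c11 LD2_c43 LD3_c34) (LK LD1_c20 LD2_c44 LD3_c43) Lrfl Lrfl
theorem f720439 : Led Lsl_gf (LP (LK LD1_c11 LD2_c47 LD3_c20)) = (LP (LK LD1_c20 LD2_c44 LD3_c43)) :=
  Lgr Lrot76 (Lpe (f641642 IH) (Lpr_ff (f720366 IH) (Lpr_gt (f641381 IH) (Lpn (LP (LK LD1_c20 LD2_c44 LD3_c43))))))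
theorem f714670 : Led Lsl_bt (LP (LK LD1_c20 LD2_c44 LD3_c37)) = (LP (LK LD1_c11 LD2_c43 LD3_c31)) :=
  Lre_b IH (LK LD1_c20 LD2_c44 LD3_c37) (LK LD1_c11 LD2_c43 LD3_c31) Lrfl Lrfl
theorem f714671 : Led Lsl_ct (LP (LK LD1_c20 LD2_c44 LD3_c37)) = (LP (LK LD1_c11 LD2_c43 LD3_c34)) :=
  Lre_c IH (LK LD1_c20 LD2_c44 LD3_c37) (LK LD1_c11 LD2_c43 LD3_c34) Lrfl Lrfl
theorem f65087 : Led Lsl_bt (LP (LK LD1_c13 LD2_c18 LD3_c20)) = (LP (LK LD1_c7 LD2_c0 LD3_c61)) :=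
  Lre_b IH (LK LD1_c13 LD2_c18 LD3_c20) (LK LD1_c7 LD2_c0 LD3_c61) Lrfl Lrfl
theorem f714672 : Led Lsl_cf (LP (LK LD1_c20 LD2_c44 LD3_c43)) = (LP (LK LD1_c13 LD2_c18 LD3_c20)) :=
  Lgr Lrot58 (Lpe (f641381 IH) (Lpe (f714671 IH) (Lpr_bt (f714670 IH) (Lpr_gf (K53.f713881 IH) (Lpe (K53.f109951 IH) (Lpe (K52.f130768 IH) (Lpr_gf (K63.f712979 IH) (Lpe (K63.f109748 IH) (Lpe (K57.f109742 IH) (Lpe (f65087 IH) (Lpn (LP (LK LD1_c13 LD2_c18 LD3_c20)))))))))))))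
theorem f921546 : Led Lsl_gt (LP (LK LD1_c13 LD2_c6 LD3_c51)) = (LP (LK LD1_c13 LD2_c18 LD3_c20)) :=
  Lgr Lrot82 (Lpe (f786234 IH) (Lpr_ct (f786237 IH) (Lpq (f921545 IH) (Lpe (f838323 IH) (Lpe (f664471 IH) (Lpr_bt (f136901 IH) (Lpe (K58.f95394 IH) (Lpr_bf (f768406 IH) (Lpr_ct (f720224 IH) (Lpr_gf (f720439 IH) (Lpr_cf (f714672 IH) (Lpn (LP (LK LD1_c13 LD2_c18 LD3_c20))))))))))))))
theorem f921547 : Led Lsl_gt (LP (LK LD1_c13 LD2_c6 LD3_c51)) = (LP (LK LD1_c13 LD2_c18 LD3_c20)) :=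
  Leop (Lpe (f921546 IH) (Lpn (LP (LK LD1_c13 LD2_c6 LD3_c51))))
theorem seed_2435 : LEOK LG_g (LK LD1_c13 LD2_c6 LD3_c51) :=
  Leoe_g (LK LD1_c13 LD2_c6 LD3_c51) (f921547 IH)
theorem f94747 : Led Lsl_bt (LP (LK LD1_c6 LD2_c54 LD3_c1)) = (LP (LK LD1_c3 LD2_c26 LD3_c6)) :=
  Lre_b IH (LK LD1_c6 LD2_c54 LD3_c1) (LK LD1_c3 LD2_c26 LD3_c6) Lrfl Lrfl
theorem f94762 : Led Lsl_ct (LP (LK LD1_c6 LD2_c54 LD3_c1)) = (LP (LK LD1_c13 LD2_c6 LD3_c43)) :=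
  Lre_c IH (LK LD1_c6 LD2_c54 LD3_c1) (LK LD1_c13 LD2_c6 LD3_c43) Lrfl Lrfl
def v22797 : LQ := Led Lsl_ct (LP (LK LD1_c7 LD2_c43 LD3_c7))
theorem f810760 : Led Lsl_ct (LP (LK LD1_c7 LD2_c43 LD3_c7)) = v22797 :=
  Lrfl
theorem f17144 : Led Lsl_et (LP (LK LD1_c3 LD2_c50 LD3_c59)) = (LP (LK LD1_c1 LD2_c52 LD3_c21)) :=
  Lre_e IH (LK LD1_c3 LD2_c50 LD3_c59) (LK LD1_c1 LD2_c52 LD3_c21) Lrfl Lrfl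
theorem f664468 : Led Lsl_cf (LP (LK LD1_c3 LD2_c50 LD3_c59)) = v7311 :=
  Lgr Lrot39 (Lpr_et (f17144 IH) (Lpe (K2.f95279 IH) (Lpr_et (f664466 IH) (Lpn v7311))))
theorem f810763 : Led Lsl_ff v7311 = v22797 :=
  Lgr Lrot23 (Lpe (f664468 IH) (Lpr_ft (K63.f95422 IH) (Lpr_ct (f810760 IH) (Lpn v22797))))
theorem f810765 : Led Lsl_ft v7311 = v22797 :=
  Lgr Lrot48 (Lpr_ff (f810763 IH) (Lpn v22797))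
def v25512 : LQ := Led Lsl_ft K60.v5601
theorem f829040 : Led Lsl_ft K60.v5601 = v25512 :=
  Lrfl
theorem f829045 : Led Lsl_ff K60.v5601 = v25512 :=
  Lgr Lrot3 (Lpr_ft (f829040 IH) (Lpn v25512))
theorem f130380 : Led Lsl_at (LP (LK LD1_c3 LD2_c44 LD3_c50)) = (LP (LK LD1_c3 LD2_c10 LD3_c48)) :=
  Lgr Lrot100 (Lpr_af (K60.f130378 IH) (Lpn (LP (LK LD1_c3 LD2_c10 LD3_c48))))
theorem f664470 : Led Lsl_at K60.v5601 = v7311 :=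
  Lgr Lrot80 (Lpe (K60.f648455 IH) (Lpe (f130380 IH) (Lpr_ef (f664469 IH) (Lpn v7311))))
theorem f829049 : Led Lsl_at v22797 = v25512 :=
  Lgr Lrot66 (Lpe (f810765 IH) (Lpe (f664470 IH) (Lpr_ff (f829045 IH) (Lpn v25512))))
theorem f838324 : Led Lsl_gf v25512 = v27213 :=
  Lgr Lrot76 (Lpe (f829049 IH) (Lpe (f810765 IH) (Lpr_gt (f838323 IH) (Lpn v27213))))
theorem f829051 : Led Lsl_ct K63.v6711 = v25512 :=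
  Lgr Lrot40 (Lpe (K63.f657939 IH) (Lpr_cf (K60.f648457 IH) (Lpr_ff (f829045 IH) (Lpn v25512))))
theorem f702957 : Led Lsl_bt K63.v6711 = K57.v13435 :=
  Lgr Lrot35 (Lpe (K63.f657939 IH) (Lpr_bf (K60.f91922 IH) (Lpr_ff (K57.f702953 IH) (Lpn K57.v13435))))
def v25812 : LQ := Led Lsl_bt K57.v5902
theorem f830562 : Led Lsl_bt K57.v5902 = v25812 :=
  Lrfl
theorem f830564 : Led Lsl_bf K57.v5902 = v25812 :=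
  Lgr Lrot24 (Lpr_bt (f830562 IH) (Lpn v25812))
theorem f40444 : Led Lsl_ct (LP (LK LD1_c6 LD2_c50 LD3_c55)) = (LP (LK LD1_c3 LD2_c23 LD3_c57)) :=
  Lre_c IH (LK LD1_c6 LD2_c50 LD3_c55) (LK LD1_c3 LD2_c23 LD3_c57) Lrfl Lrfl
theorem f654345 : Led Lsl_bt (LP (LK LD1_c13 LD2_c2 LD3_c2)) = (LP (LK LD1_c6 LD2_c50 LD3_c55)) :=
  Lre_b IH (LK LD1_c13 LD2_c2 LD3_c2) (LK LD1_c6 LD2_c50 LD3_c55) Lrfl Lrfl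
theorem f830565 : Led Lsl_cf (LP (LK LD1_c13 LD2_c2 LD3_c2)) = v25812 :=
  Lgr Lrot97 (Lpr_bt (f654345 IH) (Lpr_ct (f40444 IH) (Lpr_bt (K57.f654343 IH) (Lpr_ct (K57.f760181 IH) (Lpr_bt (f830562 IH) (Lpn v25812))))))
theorem f921548 : Led Lsl_gf (LP (LK LD1_c13 LD2_c6 LD3_c43)) = (LP (LK LD1_c13 LD2_c2 LD3_c2)) :=
  Lgr Lrot126 (Lpe (f94762 IH) (Lpr_bt (f94747 IH) (Lpr_gt (f94755 IH) (Lpr_ct (f786237 IH) (Lpq (f921545 IH) (Lpe (f838324 IH) (Lpe (f829051 IH) (Lpr_bt (f702957 IH) (Lpe (K57.f702960 IH) (Lpr_bf (f830564 IH) (Lpe (f830565 IH) (Lpn (LP (LK LD1_c13 LD2_c2 LD3_c2))))))))))))))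
theorem f921549 : Led Lsl_gt (LP (LK LD1_c13 LD2_c2 LD3_c2)) = (LP (LK LD1_c13 LD2_c6 LD3_c43)) :=
  Leop (Lpr_gf (f921548 IH) (Lpn (LP (LK LD1_c13 LD2_c2 LD3_c2))))
theorem seed_2436 : LEOK LG_g (LK LD1_c13 LD2_c2 LD3_c2) :=
  Leoe_g (LK LD1_c13 LD2_c2 LD3_c2) (f921549 IH)
def v41013 : LQ := Led Lsl_ct (LP (LK LD1_c9 LD2_c50 LD3_c31))
theorem f921577 : Led Lsl_ct (LP (LK LD1_c9 LD2_c50 LD3_c31)) = v41013 :=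
  Lrfl
theorem f752157 : Led Lsl_ct (LP (LK LD1_c10 LD2_c4 LD3_c46)) = (LP (LK LD1_c11 LD2_c30 LD3_c56)) :=
  Lgr Lrot15 (Lpe (K50.f541684 IH) (Lpe (K66.f165748 IH) (Lpr_ef (K66.f752155 IH) (Lpn (LP (LK LD1_c11 LD2_c30 LD3_c56))))))
theorem f921579 : Led Lsl_ff (LP (LK LD1_c10 LD2_c4 LD3_c46)) = v41013 :=
  Lgr Lrot23 (Lpr_ct (f752157 IH) (Lpr_ft (K66.f843701 IH) (Lpr_ct (f921577 IH) (Lpn v41013))))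
theorem f921581 : Led Lsl_ft (LP (LK LD1_c10 LD2_c4 LD3_c46)) = v41013 :=
  Lgr Lrot48 (Lpr_ff (f921579 IH) (Lpn v41013))
theorem f921582 : Led Lsl_ef (LP (LK LD1_c18 LD2_c43 LD3_c19)) = v41013 :=
  Lgr Lrot21 (Lpr_ft (K66.f597475 IH) (Lpr_et (K50.f387284 IH) (Lpr_ft (K50.f597871 IH) (Lpr_et (K50.f541684 IH) (Lpr_ft (f921581 IH) (Lpn v41013))))))
theorem f383317 : Led Lsl_et (LP (LK LD1_c18 LD2_c1 LD3_c36)) = (LP (LK LD1_c9 LD2_c50 LD3_c31)) :=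
  Lre_e IH (LK LD1_c18 LD2_c1 LD3_c36) (LK LD1_c9 LD2_c50 LD3_c31) Lrfl Lrfl
theorem f921583 : Led Lsl_ct (LP (LK LD1_c18 LD2_c43 LD3_c19)) = (LP (LK LD1_c18 LD2_c1 LD3_c36)) :=
  Lgr Lrot15 (Lpr_ef (f921582 IH) (Lpe (f921577 IH) (Lpe (f383317 IH) (Lpn (LP (LK LD1_c18 LD2_c1 LD3_c36))))))
theorem f921584 : Led Lsl_ct (LP (LK LD1_c18 LD2_c43 LD3_c19)) = (LP (LK LD1_c18 LD2_c1 LD3_c36)) :=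
  Leop (Lpe (f921583 IH) (Lpn (LP (LK LD1_c18 LD2_c43 LD3_c19))))
theorem seed_2437 : LEOK LG_c (LK LD1_c18 LD2_c43 LD3_c19) :=
  Leoe_c (LK LD1_c18 LD2_c43 LD3_c19) (f921584 IH)
def v41080 : LQ := Led Lsl_gf (LP (LK LD1_c9 LD2_c51 LD3_c25))
theorem f921882 : Led Lsl_gf (LP (LK LD1_c9 LD2_c51 LD3_c25)) = v41080 :=
  Lrfl
theorem f272219 : Led Lsl_af (LP (LK LD1_c9 LD2_c51 LD3_c25)) = (LP (LK LD1_c8 LD2_c51 LD3_c59)) :=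
  Lgr Lrot50 (Lpr_et (K16.f241215 IH) (Lpr_at (K16.f272211 IH) (Lpr_et (K16.f198442 IH) (Lpn (LP (LK LD1_c8 LD2_c51 LD3_c59))))))
theorem f272229 : Led Lsl_ft (LP (LK LD1_c16 LD2_c34 LD3_c39)) = (LP (LK LD1_c8 LD2_c51 LD3_c59)) :=
  Lre_f IH (LK LD1_c16 LD2_c34 LD3_c39) (LK LD1_c8 LD2_c51 LD3_c59) Lrfl Lrfl
theorem f921883 : Led Lsl_gt (LP (LK LD1_c16 LD2_c34 LD3_c39)) = v41080 :=
  Lgr Lrot5 (Lpr_ft (f272229 IH) (Lpe (f272219 IH) (Lpr_gf (f921882 IH) (Lpn v41080))))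
theorem f540906 : Led Lsl_dt (LP (LK LD1_c15 LD2_c6 LD3_c11)) = (LP (LK LD1_c16 LD2_c34 LD3_c39)) :=
  Lgr Lrot60 (Lpe (K61.f142188 IH) (Lpr_df (K61.f540904 IH) (Lpe (f272229 IH) (Lpn (LP (LK LD1_c16 LD2_c34 LD3_c39))))))
theorem f540908 : Led Lsl_df (LP (LK LD1_c15 LD2_c6 LD3_c11)) = (LP (LK LD1_c16 LD2_c34 LD3_c39)) :=
  Lgr Lrot38 (Lpr_dt (f540906 IH) (Lpn (LP (LK LD1_c16 LD2_c34 LD3_c39))))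
theorem f81774 : Led Lsl_ct (LP (LK LD1_c9 LD2_c46 LD3_c58)) = (LP (LK LD1_c17 LD2_c57 LD3_c1)) :=
  Lre_c IH (LK LD1_c9 LD2_c46 LD3_c58) (LK LD1_c17 LD2_c57 LD3_c1) Lrfl Lrfl
theorem f81773 : Led Lsl_bt (LP (LK LD1_c9 LD2_c46 LD3_c58)) = (LP (LK LD1_c4 LD2_c58 LD3_c1)) :=
  Lre_b IH (LK LD1_c9 LD2_c46 LD3_c58) (LK LD1_c4 LD2_c58 LD3_c1) Lrfl Lrfl
theorem f565907 : Led Lsl_gf (LP (LK LD1_c13 LD2_c52 LD3_c46)) = (LP (LK LD1_c17 LD2_c57 LD3_c1)) :=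
  Lgr Lrot126 (Lpe (K68.f554293 IH) (Lpr_bt (K42.f239050 IH) (Lpe (K48.f541070 IH) (Lpr_ct (K41.f510983 IH) (Lpr_gt (K41.f565903 IH) (Lpe (K4.f35935 IH) (Lpr_bt (K2.f35934 IH) (Lpr_gt (K41.f101825 IH) (Lpe (f81773 IH) (Lpr_ct (f81774 IH) (Lpn (LP (LK LD1_c17 LD2_c57 LD3_c1)))))))))))))
theorem f552152 : Led Lsl_cf (LP (LK LD1_c11 LD2_c29 LD3_c14)) = (LP (LK LD1_c13 LD2_c52 LD3_c46)) :=
  Lgr Lrot39 (Lpr_et (K37.f239014 IH) (Lpr_ct (K39.f552150 IH) (Lpr_et (K28.f159435 IH) (Lpn (LP (LK LD1_c13 LD2_c52 LD3_c46))))))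
theorem f239027 : Led Lsl_ct (LP (LK LD1_c16 LD2_c34 LD3_c2)) = (LP (LK LD1_c8 LD2_c51 LD3_c42)) :=
  Lre_c IH (LK LD1_c16 LD2_c34 LD3_c2) (LK LD1_c8 LD2_c51 LD3_c42) Lrfl Lrfl
theorem f198129 : Led Lsl_gt (LP (LK LD1_c26 LD2_c31 LD3_c4)) = (LP (LK LD1_c16 LD2_c34 LD3_c2)) :=
  Lre_g IH (LK LD1_c26 LD2_c31 LD3_c4) (LK LD1_c16 LD2_c34 LD3_c2) Lrfl Lrfl
theorem f921890 : Led Lsl_cf (LP (LK LD1_c26 LD2_c31 LD3_c4)) = v41080 :=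
  Lgr Lrot169 (Lpr_gt (f198129 IH) (Lpr_ct (f239027 IH) (Lpe (K36.f239009 IH) (Lpr_cf (f552152 IH) (Lpr_gf (f565907 IH) (Lpe (f81774 IH) (Lpr_gf (K61.f617924 IH) (Lpr_df (f540908 IH) (Lpr_gt (f921883 IH) (Lpn v41080))))))))))
theorem f792799 : Led Lsl_df (LP (LK LD1_c16 LD2_c25 LD3_c53)) = (LP (LK LD1_c21 LD2_c11 LD3_c46)) :=
  Lgr Lrot38 (Lpr_dt (K61.f792795 IH) (Lpn (LP (LK LD1_c21 LD2_c11 LD3_c46))))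
theorem f921885 : Led Lsl_et (LP (LK LD1_c21 LD2_c11 LD3_c46)) = v41080 :=
  Lgr Lrot121 (Lpe (f792799 IH) (Lpr_gf (K61.f792791 IH) (Lpe (K4.f99332 IH) (Lpe (K43.f576023 IH) (Lpe (K47.f456099 IH) (Lpr_ef (K61.f792687 IH) (Lpr_dt (K61.f608161 IH) (Lpe (K61.f792693 IH) (Lpr_df (K61.f540960 IH) (Lpr_gf (f921882 IH) (Lpn v41080)))))))))))
theorem f921887 : Led Lsl_ef (LP (LK LD1_c21 LD2_c11 LD3_c46)) = v41080 :=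
  Lgr Lrot88 (Lpr_et (f921885 IH) (Lpn v41080))
theorem f792797 : Led Lsl_af (LP (LK LD1_c16 LD2_c32 LD3_c56)) = (LP (LK LD1_c21 LD2_c11 LD3_c46)) :=
  Lgr Lrot117 (Lpe (K47.f445267 IH) (Lpr_at (K61.f445575 IH) (Lpr_dt (K61.f792795 IH) (Lpn (LP (LK LD1_c21 LD2_c11 LD3_c46))))))
theorem f921888 : Led Lsl_at (LP (LK LD1_c16 LD2_c34 LD3_c38)) = v41080 :=
  Lgr Lrot80 (Lpe (K47.f445558 IH) (Lpr_af (f792797 IH) (Lpr_ef (f921887 IH) (Lpn v41080))))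
theorem f411080 : Led Lsl_ct (LP (LK LD1_c26 LD2_c32 LD3_c4)) = (LP (LK LD1_c16 LD2_c34 LD3_c38)) :=
  Lre_c IH (LK LD1_c26 LD2_c32 LD3_c4) (LK LD1_c16 LD2_c34 LD3_c38) Lrfl Lrfl
theorem f921891 : Led Lsl_at (LP (LK LD1_c26 LD2_c31 LD3_c4)) = (LP (LK LD1_c26 LD2_c32 LD3_c4)) :=
  Lgr Lrot107 (Lpr_cf (f921890 IH) (Lpe (f921888 IH) (Lpe (f411080 IH) (Lpn (LP (LK LD1_c26 LD2_c32 LD3_c4))))))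
theorem f921892 : Led Lsl_at (LP (LK LD1_c26 LD2_c31 LD3_c4)) = (LP (LK LD1_c26 LD2_c32 LD3_c4)) :=
  Leop (Lpe (f921891 IH) (Lpn (LP (LK LD1_c26 LD2_c31 LD3_c4))))
theorem seed_2438 : LEOK LG_a (LK LD1_c26 LD2_c31 LD3_c4) :=
  Leoe_a (LK LD1_c26 LD2_c31 LD3_c4) (f921892 IH)
def v41085 : LQ := Led Lsl_dt (LP (LK LD1_c9 LD2_c51 LD3_c35))
theorem f921935 : Led Lsl_dt (LP (LK LD1_c9 LD2_c51 LD3_c35)) = v41085 :=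
  Lrfl
theorem f213473 : Led Lsl_dt (LP (LK LD1_c19 LD2_c53 LD3_c55)) = (LP (LK LD1_c11 LD2_c2 LD3_c35)) :=
  Lre_d IH (LK LD1_c19 LD2_c53 LD3_c55) (LK LD1_c11 LD2_c2 LD3_c35) Lrfl Lrfl
theorem f921938 : Led Lsl_ff (LP (LK LD1_c19 LD2_c53 LD3_c55)) = v41085 :=
  Lgr Lrot19 (Lpr_dt (f213473 IH) (Lpr_ft (K31.f389050 IH) (Lpr_dt (f921935 IH) (Lpn v41085))))
theorem f921939 : Led Lsl_ft (LP (LK LD1_c19 LD2_c53 LD3_c55)) = v41085 :=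
  Lgr Lrot48 (Lpr_ff (f921938 IH) (Lpn v41085))
theorem f550644 : Led Lsl_gt (LP (LK LD1_c26 LD2_c42 LD3_c50)) = (LP (LK LD1_c18 LD2_c44 LD3_c6)) :=
  Lgr Lrot5 (Lpr_ft (K52.f337524 IH) (Lpr_at (K52.f324436 IH) (Lpr_gf (K38.f550639 IH) (Lpn (LP (LK LD1_c18 LD2_c44 LD3_c6))))))
theorem f386477 : Led Lsl_gf (LP (LK LD1_c16 LD2_c44 LD3_c9)) = (LP (LK LD1_c10 LD2_c46 LD3_c17)) :=
  Lgr Lrot124 (Lpr_bf (K31.f386465 IH) (Lpr_ct (K30.f324369 IH) (Lpe (K67.f371457 IH) (Lpr_cf (K67.f371502 IH) (Lpr_bt (K67.f312032 IH) (Lpe (K67.f371506 IH) (Lpe (K67.f247313 IH) (Lpr_gt (K31.f332117 IH) (Lpe (K30.f179407 IH) (Lpr_bt (K30.f244670 IH) (Lpn (LP (LK LD1_c10 LD2_c46 LD3_c17)))))))))))))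
theorem f235859 : Led Lsl_dt (LP (LK LD1_c16 LD2_c50 LD3_c56)) = (LP (LK LD1_c26 LD2_c48 LD3_c23)) :=
  Lre_d IH (LK LD1_c16 LD2_c50 LD3_c56) (LK LD1_c26 LD2_c48 LD3_c23) Lrfl Lrfl
theorem f33533 : Led Lsl_dt (LP (LK LD1_c18 LD2_c44 LD3_c6)) = (LP (LK LD1_c10 LD2_c19 LD3_c13)) :=
  Lre_d IH (LK LD1_c18 LD2_c44 LD3_c6) (LK LD1_c10 LD2_c19 LD3_c13) Lrfl Lrfl
theorem f218158 : Led Lsl_dt (LP (LK LD1_c28 LD2_c14 LD3_c6)) = (LP (LK LD1_c18 LD2_c44 LD3_c5)) :=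
  Lre_d IH (LK LD1_c28 LD2_c14 LD3_c6) (LK LD1_c18 LD2_c44 LD3_c5) Lrfl Lrfl
theorem f621047 : Led Lsl_gt (LP (LK LD1_c26 LD2_c48 LD3_c23)) = (LP (LK LD1_c28 LD2_c14 LD3_c6)) :=
  Lgr Lrot49 (Lpe (f235859 IH) (Lpe (K30.f332025 IH) (Lpe (K30.f235839 IH) (Lpe (f386477 IH) (Lpr_dt (K31.f178042 IH) (Lpr_gt (f550644 IH) (Lpr_dt (f33533 IH) (Lpe (K30.f33532 IH) (Lpe (f218158 IH) (Lpn (LP (LK LD1_c28 LD2_c14 LD3_c6))))))))))))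
theorem f235857 : Led Lsl_dt (LP (LK LD1_c26 LD2_c48 LD3_c23)) = (LP (LK LD1_c16 LD2_c50 LD3_c56)) :=
  Lre_d IH (LK LD1_c26 LD2_c48 LD3_c23) (LK LD1_c16 LD2_c50 LD3_c56) Lrfl Lrfl
theorem f235821 : Led Lsl_ct (LP (LK LD1_c5 LD2_c27 LD3_c37)) = (LP (LK LD1_c9 LD2_c0 LD3_c44)) :=
  Lgr Lrot59 (Lpr_cf (K14.f235794 IH) (Lpn (LP (LK LD1_c9 LD2_c0 LD3_c44))))
theorem f235858 : Led Lsl_dt (LP (LK LD1_c9 LD2_c0 LD3_c44)) = (LP (LK LD1_c16 LD2_c50 LD3_c26)) :=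
  Lre_d IH (LK LD1_c9 LD2_c0 LD3_c44) (LK LD1_c16 LD2_c50 LD3_c26) Lrfl Lrfl
theorem f235827 : Led Lsl_ct (LP (LK LD1_c26 LD2_c47 LD3_c53)) = (LP (LK LD1_c16 LD2_c50 LD3_c26)) :=
  Lre_c IH (LK LD1_c26 LD2_c47 LD3_c53) (LK LD1_c16 LD2_c50 LD3_c26) Lrfl Lrfl
theorem f621051 : Led Lsl_gf (LP (LK LD1_c26 LD2_c47 LD3_c53)) = (LP (LK LD1_c20 LD2_c0 LD3_c61)) :=
  Lgr Lrot104 (Lpr_ct (f235827 IH) (Lpe (f235858 IH) (Lpe (f235821 IH) (Lpe (K30.f235842 IH) (Lpe (K30.f235843 IH) (Lpr_gf (K30.f235848 IH) (Lpe (f235857 IH) (Lpr_gt (f621047 IH) (Lpr_ct (K31.f423164 IH) (Lpn (LP (LK LD1_c20 LD2_c0 LD3_c61))))))))))))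
theorem f235992 : Led Lsl_ct (LP (LK LD1_c16 LD2_c50 LD3_c26)) = (LP (LK LD1_c26 LD2_c47 LD3_c53)) :=
  Lre_c IH (LK LD1_c16 LD2_c50 LD3_c26) (LK LD1_c26 LD2_c47 LD3_c53) Lrfl Lrfl
theorem f316889 : Led Lsl_bt (LP (LK LD1_c9 LD2_c0 LD3_c33)) = (LP (LK LD1_c16 LD2_c49 LD3_c59)) :=
  Lre_b IH (LK LD1_c9 LD2_c0 LD3_c33) (LK LD1_c16 LD2_c49 LD3_c59) Lrfl Lrfl
theorem f218160 : Led Lsl_bt (LP (LK LD1_c28 LD2_c14 LD3_c6)) = (LP (LK LD1_c19 LD2_c53 LD3_c55)) :=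
  Lgr Lrot95 (Lpe (K31.f218147 IH) (Lpr_bf (K31.f218155 IH) (Lpe (f213473 IH) (Lpn (LP (LK LD1_c19 LD2_c53 LD3_c55))))))
theorem f621053 : Led Lsl_gt (LP (LK LD1_c16 LD2_c49 LD3_c59)) = (LP (LK LD1_c19 LD2_c53 LD3_c55)) :=
  Lgr Lrot164 (Lpe (f316889 IH) (Lpe (K22.f316885 IH) (Lpr_gf (K20.f316839 IH) (Lpr_cf (K20.f314391 IH) (Lpe (K20.f316874 IH) (Lpe (K22.f316876 IH) (Lpr_ct (f235992 IH) (Lpr_gf (f621051 IH) (Lpe (K31.f423164 IH) (Lpr_bt (f218160 IH) (Lpn (LP (LK LD1_c19 LD2_c53 LD3_c55)))))))))))))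
theorem f279609 : Led Lsl_bt (LP (LK LD1_c11 LD2_c3 LD3_c0)) = (LP (LK LD1_c5 LD2_c35 LD3_c26)) :=
  Lre_b IH (LK LD1_c11 LD2_c3 LD3_c0) (LK LD1_c5 LD2_c35 LD3_c26) Lrfl Lrfl
theorem f337468 : Led Lsl_ff (LP (LK LD1_c11 LD2_c3 LD3_c0)) = (LP (LK LD1_c16 LD2_c49 LD3_c59)) :=
  Lgr Lrot25 (Lpr_bt (f279609 IH) (Lpr_ft (K22.f337466 IH) (Lpr_bt (f316889 IH) (Lpn (LP (LK LD1_c16 LD2_c49 LD3_c59))))))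
theorem f317158 : Led Lsl_at (LP (LK LD1_c11 LD2_c3 LD3_c0)) = (LP (LK LD1_c19 LD2_c54 LD3_c29)) :=
  Lre_a IH (LK LD1_c11 LD2_c3 LD3_c0) (LK LD1_c19 LD2_c54 LD3_c29) Lrfl Lrfl
theorem f621055 : Led Lsl_gf (LP (LK LD1_c19 LD2_c54 LD3_c29)) = (LP (LK LD1_c19 LD2_c53 LD3_c55)) :=
  Lgr Lrot76 (Lpe (f317158 IH) (Lpr_ff (f337468 IH) (Lpr_gt (f621053 IH) (Lpn (LP (LK LD1_c19 LD2_c53 LD3_c55))))))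
theorem f213123 : Led Lsl_dt (LP (LK LD1_c19 LD2_c53 LD3_c58)) = (LP (LK LD1_c11 LD2_c2 LD3_c36)) :=
  Lre_d IH (LK LD1_c19 LD2_c53 LD3_c58) (LK LD1_c11 LD2_c2 LD3_c36) Lrfl Lrfl
theorem f921936 : Led Lsl_af (LP (LK LD1_c19 LD2_c53 LD3_c58)) = v41085 :=
  Lgr Lrot117 (Lpr_dt (f213123 IH) (Lpr_at (K31.f389062 IH) (Lpr_dt (f921935 IH) (Lpn v41085))))
theorem f921940 : Led Lsl_gt (LP (LK LD1_c19 LD2_c54 LD3_c29)) = (LP (LK LD1_c19 LD2_c53 LD3_c58)) :=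
  Lgr Lrot46 (Lpr_gf (f621055 IH) (Lpr_ft (f921939 IH) (Lpe (f921936 IH) (Lpn (LP (LK LD1_c19 LD2_c53 LD3_c58))))))
theorem f921941 : Led Lsl_gt (LP (LK LD1_c19 LD2_c54 LD3_c29)) = (LP (LK LD1_c19 LD2_c53 LD3_c58)) :=
  Leop (Lpe (f921940 IH) (Lpn (LP (LK LD1_c19 LD2_c54 LD3_c29))))
theorem seed_2439 : LEOK LG_g (LK LD1_c19 LD2_c54 LD3_c29) :=
  Leoe_g (LK LD1_c19 LD2_c54 LD3_c29) (f921941 IH)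
def v41086 : LQ := Led Lsl_dt (LP (LK LD1_c9 LD2_c51 LD3_c36))
theorem f921943 : Led Lsl_dt (LP (LK LD1_c9 LD2_c51 LD3_c36)) = v41086 :=
  Lrfl
theorem f921946 : Led Lsl_ff (LP (LK LD1_c19 LD2_c53 LD3_c58)) = v41086 :=
  Lgr Lrot19 (Lpr_dt (f213123 IH) (Lpr_ft (K30.f388945 IH) (Lpr_dt (f921943 IH) (Lpn v41086))))
theorem f921948 : Led Lsl_ft (LP (LK LD1_c19 LD2_c53 LD3_c58)) = v41086 :=
  Lgr Lrot48 (Lpr_ff (f921946 IH) (Lpn v41086))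
theorem f921944 : Led Lsl_af (LP (LK LD1_c19 LD2_c53 LD3_c55)) = v41086 :=
  Lgr Lrot117 (Lpr_dt (f213473 IH) (Lpr_at (K31.f388952 IH) (Lpr_dt (f921943 IH) (Lpn v41086))))
theorem f921949 : Led Lsl_gt (LP (LK LD1_c19 LD2_c53 LD3_c58)) = (LP (LK LD1_c16 LD2_c49 LD3_c59)) :=
  Lgr Lrot5 (Lpr_ft (f921948 IH) (Lpe (f921944 IH) (Lpe (f621053 IH) (Lpn (LP (LK LD1_c16 LD2_c49 LD3_c59))))))
theorem f921950 : Led Lsl_gt (LP (LK LD1_c19 LD2_c53 LD3_c58)) = (LP (LK LD1_c16 LD2_c49 LD3_c59)) :=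
  Leop (Lpe (f921949 IH) (Lpn (LP (LK LD1_c19 LD2_c53 LD3_c58))))
theorem seed_2440 : LEOK LG_g (LK LD1_c19 LD2_c53 LD3_c58) :=
  Leoe_g (LK LD1_c19 LD2_c53 LD3_c58) (f921950 IH)
def v41095 : LQ := Led Lsl_ft (LP (LK LD1_c9 LD2_c51 LD3_c41))
theorem f922010 : Led Lsl_ft (LP (LK LD1_c9 LD2_c51 LD3_c41)) = v41095 :=
  Lrfl
theorem f54220 : Led Lsl_gt (LP (LK LD1_c9 LD2_c51 LD3_c41)) = (LP (LK LD1_c18 LD2_c2 LD3_c59)) :=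
  Lre_g IH (LK LD1_c9 LD2_c51 LD3_c41) (LK LD1_c18 LD2_c2 LD3_c59) Lrfl Lrfl
theorem f53686 : Led Lsl_et (LP (LK LD1_c5 LD2_c0 LD3_c40)) = (LP (LK LD1_c9 LD2_c51 LD3_c41)) :=
  Lre_e IH (LK LD1_c5 LD2_c0 LD3_c40) (LK LD1_c9 LD2_c51 LD3_c41) Lrfl Lrfl
theorem f53688 : Led Lsl_at (LP (LK LD1_c9 LD2_c51 LD3_c41)) = (LP (LK LD1_c9 LD2_c51 LD3_c51)) :=
  Lgr Lrot80 (Lpe (f53686 IH) (Lpr_af (K12.f53678 IH) (Lpe (K12.f53687 IH) (Lpn (LP (LK LD1_c9 LD2_c51 LD3_c51))))))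
theorem f53691 : Led Lsl_af (LP (LK LD1_c9 LD2_c51 LD3_c41)) = (LP (LK LD1_c9 LD2_c51 LD3_c51)) :=
  Lgr Lrot0 (Lpr_at (f53688 IH) (Lpn (LP (LK LD1_c9 LD2_c51 LD3_c51))))
theorem f53699 : Led Lsl_ft (LP (LK LD1_c18 LD2_c3 LD3_c17)) = (LP (LK LD1_c9 LD2_c51 LD3_c51)) :=
  Lre_f IH (LK LD1_c18 LD2_c3 LD3_c17) (LK LD1_c9 LD2_c51 LD3_c51) Lrfl Lrfl
theorem f922011 : Led Lsl_af (LP (LK LD1_c18 LD2_c3 LD3_c17)) = v41095 :=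
  Lgr Lrot45 (Lpr_ft (f53699 IH) (Lpe (f53691 IH) (Lpr_ft (f922010 IH) (Lpn v41095))))
theorem f922014 : Led Lsl_gt (LP (LK LD1_c18 LD2_c2 LD3_c59)) = (LP (LK LD1_c18 LD2_c3 LD3_c17)) :=
  Lgr Lrot46 (Lpe (f54220 IH) (Lpr_ft (f922010 IH) (Lpe (f922011 IH) (Lpn (LP (LK LD1_c18 LD2_c3 LD3_c17))))))
theorem f922015 : Led Lsl_gt (LP (LK LD1_c18 LD2_c2 LD3_c59)) = (LP (LK LD1_c18 LD2_c3 LD3_c17)) :=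
  Leop (Lpe (f922014 IH) (Lpn (LP (LK LD1_c18 LD2_c2 LD3_c59))))
theorem seed_2441 : LEOK LG_g (LK LD1_c18 LD2_c2 LD3_c59) :=
  Leoe_g (LK LD1_c18 LD2_c2 LD3_c59) (f922015 IH)
def v41104 : LQ := Led Lsl_bt (LP (LK LD1_c9 LD2_c52 LD3_c8))
theorem f922060 : Led Lsl_bt (LP (LK LD1_c9 LD2_c52 LD3_c8)) = v41104 :=
  Lrfl
theorem f922062 : Led Lsl_bf (LP (LK LD1_c9 LD2_c52 LD3_c8)) = v41104 :=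
  Lgr Lrot24 (Lpr_bt (f922060 IH) (Lpn v41104))
theorem f3634 : Led Lsl_gt (LP (LK LD1_c9 LD2_c52 LD3_c8)) = (LP (LK LD1_c18 LD2_c3 LD3_c56)) :=
  Lre_g IH (LK LD1_c9 LD2_c52 LD3_c8) (LK LD1_c18 LD2_c3 LD3_c56) Lrfl Lrfl
theorem f45908 : Led Lsl_ct (LP (LK LD1_c15 LD2_c14 LD3_c35)) = (LP (LK LD1_c10 LD2_c28 LD3_c11)) :=
  Lgr Lrot111 (Lpe (K44.f45907 IH) (Lpr_cf (K10.f45860 IH) (Lpe (K44.f44006 IH) (Lpn (LP (LK LD1_c10 LD2_c28 LD3_c11))))))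
theorem f582902 : Led Lsl_ft (LP (LK LD1_c10 LD2_c28 LD3_c11)) = (LP (LK LD1_c10 LD2_c30 LD3_c21)) :=
  Lgr Lrot4 (Lpe (f45908 IH) (Lpr_ff (K44.f582898 IH) (Lpe (K44.f233455 IH) (Lpn (LP (LK LD1_c10 LD2_c30 LD3_c21))))))
theorem f45979 : Led Lsl_bt (LP (LK LD1_c15 LD2_c14 LD3_c37)) = (LP (LK LD1_c8 LD2_c5 LD3_c46)) :=
  Lre_b IH (LK LD1_c15 LD2_c14 LD3_c37) (LK LD1_c8 LD2_c5 LD3_c46) Lrfl Lrfl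
theorem f233422 : Led Lsl_cf (LP (LK LD1_c15 LD2_c14 LD3_c37)) = (LP (LK LD1_c9 LD2_c57 LD3_c22)) :=
  Lgr Lrot97 (Lpr_bt (f45979 IH) (Lpr_ct (K9.f45893 IH) (Lpr_bt (K12.f45845 IH) (Lpr_ct (K14.f233415 IH) (Lpr_bt (K44.f233421 IH) (Lpn (LP (LK LD1_c9 LD2_c57 LD3_c22))))))))
theorem f582896 : Led Lsl_af (LP (LK LD1_c9 LD2_c57 LD3_c22)) = (LP (LK LD1_c10 LD2_c30 LD3_c21)) :=
  Lgr Lrot68 (Lpe (f233422 IH) (Lpr_at (K44.f582886 IH) (Lpr_ct (K44.f233454 IH) (Lpn (LP (LK LD1_c10 LD2_c30 LD3_c21))))))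
theorem f233675 : Led Lsl_gt (LP (LK LD1_c18 LD2_c13 LD3_c5)) = (LP (LK LD1_c9 LD2_c57 LD3_c22)) :=
  Lre_g IH (LK LD1_c18 LD2_c13 LD3_c5) (LK LD1_c9 LD2_c57 LD3_c22) Lrfl Lrfl
theorem f583416 : Led Lsl_gt (LP (LK LD1_c10 LD2_c28 LD3_c11)) = (LP (LK LD1_c18 LD2_c13 LD3_c5)) :=
  Lgr Lrot5 (Lpr_ft (f582902 IH) (Lpe (f582896 IH) (Lpe (f233675 IH) (Lpn (LP (LK LD1_c18 LD2_c13 LD3_c5))))))
theorem f922066 : Led Lsl_cf (LP (LK LD1_c18 LD2_c13 LD3_c5)) = v41104 :=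
  Lgr Lrot58 (Lpe (f583416 IH) (Lpe (f45908 IH) (Lpe (K44.f47037 IH) (Lpe (K44.f184591 IH) (Lpe (K44.f248077 IH) (Lpr_ct (K44.f165361 IH) (Lpe (K44.f34185 IH) (Lpe (K44.f163855 IH) (Lpe (f3634 IH) (Lpr_bf (f922062 IH) (Lpn v41104)))))))))))
theorem f922067 : Led Lsl_ct (LP (LK LD1_c18 LD2_c13 LD3_c5)) = v41104 :=
  Lgr Lrot59 (Lpr_cf (f922066 IH) (Lpn v41104))
theorem f3374 : Led Lsl_bt (LP (LK LD1_c5 LD2_c1 LD3_c60)) = (LP (LK LD1_c9 LD2_c54 LD3_c37)) :=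
  Lre_b IH (LK LD1_c5 LD2_c1 LD3_c60) (LK LD1_c9 LD2_c54 LD3_c37) Lrfl Lrfl
theorem f3567 : Led Lsl_bt (LP (LK LD1_c9 LD2_c52 LD3_c12)) = (LP (LK LD1_c5 LD2_c0 LD3_c55)) :=
  Lre_b IH (LK LD1_c9 LD2_c52 LD3_c12) (LK LD1_c5 LD2_c0 LD3_c55) Lrfl Lrfl
theorem f3568 : Led Lsl_dt (LP (LK LD1_c9 LD2_c54 LD3_c37)) = (LP (LK LD1_c9 LD2_c52 LD3_c12)) :=
  Lgr Lrot79 (Lpe (f3374 IH) (Lpr_df (K15.f3414 IH) (Lpe (f3567 IH) (Lpn (LP (LK LD1_c9 LD2_c52 LD3_c12))))))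
theorem f3592 : Led Lsl_at (LP (LK LD1_c18 LD2_c8 LD3_c23)) = (LP (LK LD1_c9 LD2_c54 LD3_c37)) :=
  Lre_a IH (LK LD1_c18 LD2_c8 LD3_c23) (LK LD1_c9 LD2_c54 LD3_c37) Lrfl Lrfl
theorem f3593 : Led Lsl_at (LP (LK LD1_c9 LD2_c52 LD3_c12)) = (LP (LK LD1_c18 LD2_c3 LD3_c56)) :=
  Lre_a IH (LK LD1_c9 LD2_c52 LD3_c12) (LK LD1_c18 LD2_c3 LD3_c56) Lrfl Lrfl
theorem f3594 : Led Lsl_df (LP (LK LD1_c18 LD2_c8 LD3_c23)) = (LP (LK LD1_c18 LD2_c3 LD3_c56)) :=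
  Lgr Lrot18 (Lpr_at (f3592 IH) (Lpr_dt (f3568 IH) (Lpr_at (f3593 IH) (Lpn (LP (LK LD1_c18 LD2_c3 LD3_c56))))))
theorem f3596 : Led Lsl_df (LP (LK LD1_c9 LD2_c54 LD3_c37)) = (LP (LK LD1_c9 LD2_c52 LD3_c12)) :=
  Lgr Lrot38 (Lpr_dt (f3568 IH) (Lpn (LP (LK LD1_c9 LD2_c52 LD3_c12))))
theorem f3609 : Led Lsl_at (LP (LK LD1_c9 LD2_c54 LD3_c37)) = (LP (LK LD1_c18 LD2_c8 LD3_c23)) :=
  Lre_a IH (LK LD1_c9 LD2_c54 LD3_c37) (LK LD1_c18 LD2_c8 LD3_c23) Lrfl Lrfl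
theorem f3610 : Led Lsl_at (LP (LK LD1_c18 LD2_c3 LD3_c56)) = (LP (LK LD1_c9 LD2_c52 LD3_c12)) :=
  Lre_a IH (LK LD1_c18 LD2_c3 LD3_c56) (LK LD1_c9 LD2_c52 LD3_c12) Lrfl Lrfl
theorem f3611 : Led Lsl_dt (LP (LK LD1_c18 LD2_c8 LD3_c23)) = (LP (LK LD1_c18 LD2_c3 LD3_c56)) :=
  Lgr Lrot44 (Lpe (f3609 IH) (Lpr_df (f3596 IH) (Lpe (f3610 IH) (Lpn (LP (LK LD1_c18 LD2_c3 LD3_c56))))))
theorem f3624 : Led Lsl_bf (LP (LK LD1_c18 LD2_c8 LD3_c23)) = (LP (LK LD1_c18 LD2_c7 LD3_c29)) :=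
  Lgr Lrot93 (Lpr_dt (f3611 IH) (Lpr_bt (K44.f3622 IH) (Lpr_dt (K45.f3623 IH) (Lpn (LP (LK LD1_c18 LD2_c7 LD3_c29))))))
theorem f265675 : Led Lsl_bt (LP (LK LD1_c6 LD2_c6 LD3_c60)) = (LP (LK LD1_c11 LD2_c56 LD3_c54)) :=
  Lre_b IH (LK LD1_c6 LD2_c6 LD3_c60) (LK LD1_c11 LD2_c56 LD3_c54) Lrfl Lrfl
theorem f50390 : Led Lsl_bt (LP (LK LD1_c15 LD2_c17 LD3_c24)) = (LP (LK LD1_c8 LD2_c7 LD3_c9)) :=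
  Lre_b IH (LK LD1_c15 LD2_c17 LD3_c24) (LK LD1_c8 LD2_c7 LD3_c9) Lrfl Lrfl
theorem f585051 : Led Lsl_ct (LP (LK LD1_c18 LD2_c8 LD3_c23)) = (LP (LK LD1_c15 LD2_c17 LD3_c24)) :=
  Lgr Lrot83 (Lpr_bf (f3624 IH) (Lpr_cf (K45.f585039 IH) (Lpe (f265675 IH) (Lpr_cf (K15.f261325 IH) (Lpe (f50390 IH) (Lpn (LP (LK LD1_c15 LD2_c17 LD3_c24))))))))
theorem f259648 : Led Lsl_cf (LP (LK LD1_c4 LD2_c15 LD3_c9)) = (LP (LK LD1_c2 LD2_c40 LD3_c10)) :=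
  Lgr Lrot169 (Lpr_gt (K15.f259642 IH) (Lpe (K15.f259646 IH) (Lpr_df (K23.f257868 IH) (Lpe (K15.f257816 IH) (Lpr_gf (K15.f257845 IH) (Lpe (K10.f49109 IH) (Lpe (K15.f259190 IH) (Lpe (K14.f175071 IH) (Lpr_gt (K14.f236157 IH) (Lpn (LP (LK LD1_c2 LD2_c40 LD3_c10))))))))))))
theorem f259636 : Led Lsl_bt (LP (LK LD1_c4 LD2_c15 LD3_c9)) = (LP (LK LD1_c5 LD2_c19 LD3_c3)) :=
  Lgr Lrot127 (Lpr_bf (K15.f259633 IH) (Lpn (LP (LK LD1_c5 LD2_c19 LD3_c3))))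
theorem f257050 : Led Lsl_bt (LP (LK LD1_c5 LD2_c10 LD3_c7)) = (LP (LK LD1_c10 LD2_c10 LD3_c59)) :=
  Lre_b IH (LK LD1_c5 LD2_c10 LD3_c7) (LK LD1_c10 LD2_c10 LD3_c59) Lrfl Lrfl
theorem f257424 : Led Lsl_gt (LP (LK LD1_c10 LD2_c10 LD3_c59)) = (LP (LK LD1_c18 LD2_c32 LD3_c57)) :=
  Lre_g IH (LK LD1_c10 LD2_c10 LD3_c59) (LK LD1_c18 LD2_c32 LD3_c57) Lrfl Lrfl
theorem f922069 : Led Lsl_df (LP (LK LD1_c18 LD2_c13 LD3_c5)) = (LP (LK LD1_c18 LD2_c32 LD3_c57)) :=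
  Lgr Lrot183 (Lpr_ct (f922067 IH) (Lpe (f922062 IH) (Lpr_gt (f3634 IH) (Lpe (f3594 IH) (Lpr_ct (f585051 IH) (Lpr_bt (f50390 IH) (Lpr_gt (K15.f50389 IH) (Lpr_dt (K20.f50388 IH) (Lpr_ct (K15.f50381 IH) (Lpr_bt (K9.f50379 IH) (Lpr_gt (K13.f49630 IH) (Lpe (K13.f236132 IH) (Lpe (f259648 IH) (Lpr_bt (f259636 IH) (Lpe (K15.f255881 IH) (Lpr_dt (K15.f257030 IH) (Lpe (K15.f257046 IH) (Lpr_bt (f257050 IH) (Lpr_gt (f257424 IH) (Lpn (LP (LK LD1_c18 LD2_c32 LD3_c57))))))))))))))))))))))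
theorem f922070 : Led Lsl_dt (LP (LK LD1_c18 LD2_c32 LD3_c57)) = (LP (LK LD1_c18 LD2_c13 LD3_c5)) :=
  Leop (Lpr_df (f922069 IH) (Lpn (LP (LK LD1_c18 LD2_c32 LD3_c57))))
theorem seed_2442 : LEOK LG_d (LK LD1_c18 LD2_c32 LD3_c57) :=
  Leoe_d (LK LD1_c18 LD2_c32 LD3_c57) (f922070 IH)
def v41106 : LQ := Led Lsl_gt (LP (LK LD1_c9 LD2_c52 LD3_c10))
theorem f922081 : Led Lsl_gt (LP (LK LD1_c9 LD2_c52 LD3_c10)) = v41106 :=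
  Lrfl
theorem f21638 : Led Lsl_ct (LP (LK LD1_c5 LD2_c1 LD3_c55)) = (LP (LK LD1_c2 LD2_c29 LD3_c37)) :=
  Lre_c IH (LK LD1_c5 LD2_c1 LD3_c55) (LK LD1_c2 LD2_c29 LD3_c37) Lrfl Lrfl
theorem f21618 : Led Lsl_bt (LP (LK LD1_c9 LD2_c52 LD3_c10)) = (LP (LK LD1_c5 LD2_c1 LD3_c55)) :=
  Lre_b IH (LK LD1_c9 LD2_c52 LD3_c10) (LK LD1_c5 LD2_c1 LD3_c55) Lrfl Lrfl
theorem f33835 : Led Lsl_at (LP (LK LD1_c8 LD2_c4 LD3_c29)) = (LP (LK LD1_c4 LD2_c1 LD3_c54)) :=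
  Lre_a IH (LK LD1_c8 LD2_c4 LD3_c29) (LK LD1_c4 LD2_c1 LD3_c54) Lrfl Lrfl
theorem f21732 : Led Lsl_bt (LP (LK LD1_c1 LD2_c12 LD3_c56)) = (LP (LK LD1_c2 LD2_c31 LD3_c46)) :=
  Lre_b IH (LK LD1_c1 LD2_c12 LD3_c56) (LK LD1_c2 LD2_c31 LD3_c46) Lrfl Lrfl
theorem f33836 : Led Lsl_bf (LP (LK LD1_c8 LD2_c4 LD3_c29)) = (LP (LK LD1_c5 LD2_c9 LD3_c17)) :=
  Lgr Lrot81 (Lpr_at (f33835 IH) (Lpr_bt (K15.f33834 IH) (Lpr_at (K0.f33818 IH) (Lpr_bt (f21732 IH) (Lpr_at (K2.f21634 IH) (Lpn (LP (LK LD1_c5 LD2_c9 LD3_c17))))))))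
theorem f163848 : Led Lsl_cf (LP (LK LD1_c9 LD2_c52 LD3_c10)) = (LP (LK LD1_c8 LD2_c4 LD3_c29)) :=
  Lgr Lrot97 (Lpr_bt (f21618 IH) (Lpr_ct (f21638 IH) (Lpr_bt (K8.f163846 IH) (Lpr_ct (K2.f21637 IH) (Lpe (f33836 IH) (Lpn (LP (LK LD1_c8 LD2_c4 LD3_c29))))))))
def v35741 : LQ := Led Lsl_gf (LP (LK LD1_c8 LD2_c4 LD3_c29))
theorem f878081 : Led Lsl_gf (LP (LK LD1_c8 LD2_c4 LD3_c29)) = v35741 :=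
  Lrfl
theorem f44014 : Led Lsl_gt (LP (LK LD1_c10 LD2_c33 LD3_c4)) = (LP (LK LD1_c5 LD2_c21 LD3_c23)) :=
  Lre_g IH (LK LD1_c10 LD2_c33 LD3_c4) (LK LD1_c5 LD2_c21 LD3_c23) Lrfl Lrfl
theorem f233512 : Led Lsl_gt (LP (LK LD1_c18 LD2_c34 LD3_c10)) = (LP (LK LD1_c10 LD2_c33 LD3_c4)) :=
  Lgr Lrot5 (Lpr_ft (K14.f233503 IH) (Lpr_at (K14.f43989 IH) (Lpe (f44014 IH) (Lpn (LP (LK LD1_c10 LD2_c33 LD3_c4))))))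
theorem f45948 : Led Lsl_ct (LP (LK LD1_c19 LD2_c6 LD3_c35)) = (LP (LK LD1_c10 LD2_c33 LD3_c4)) :=
  Lre_c IH (LK LD1_c19 LD2_c6 LD3_c35) (LK LD1_c10 LD2_c33 LD3_c4) Lrfl Lrfl
theorem f878083 : Led Lsl_bt (LP (LK LD1_c19 LD2_c6 LD3_c35)) = v35741 :=
  Lgr Lrot22 (Lpr_ct (f45948 IH) (Lpe (f233512 IH) (Lpr_cf (K14.f233510 IH) (Lpe (K53.f233518 IH) (Lpe (K53.f405597 IH) (Lpr_ct (K53.f405609 IH) (Lpr_gf (K53.f405612 IH) (Lpe (K0.f21595 IH) (Lpe (f33836 IH) (Lpr_gf (f878081 IH) (Lpn v35741)))))))))))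
theorem f233545 : Led Lsl_bf (LP (LK LD1_c15 LD2_c14 LD3_c12)) = (LP (LK LD1_c15 LD2_c14 LD3_c44)) :=
  Lgr Lrot24 (Lpr_bt (K53.f233523 IH) (Lpn (LP (LK LD1_c15 LD2_c14 LD3_c44))))
theorem f47169 : Led Lsl_gt (LP (LK LD1_c8 LD2_c5 LD3_c32)) = (LP (LK LD1_c15 LD2_c14 LD3_c12)) :=
  Lre_g IH (LK LD1_c8 LD2_c5 LD3_c32) (LK LD1_c15 LD2_c14 LD3_c12) Lrfl Lrfl
theorem f47174 : Led Lsl_bt (LP (LK LD1_c15 LD2_c14 LD3_c14)) = (LP (LK LD1_c8 LD2_c5 LD3_c32)) :=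
  Lre_b IH (LK LD1_c15 LD2_c14 LD3_c14) (LK LD1_c8 LD2_c5 LD3_c32) Lrfl Lrfl
theorem f922083 : Led Lsl_ct (LP (LK LD1_c15 LD2_c14 LD3_c14)) = v41106 :=
  Lgr Lrot63 (Lpr_bt (f47174 IH) (Lpr_gt (f47169 IH) (Lpr_bf (f233545 IH) (Lpe (K14.f233510 IH) (Lpr_gt (f233512 IH) (Lpe (f45948 IH) (Lpr_bt (f878083 IH) (Lpe (f878081 IH) (Lpe (f163848 IH) (Lpr_gt (f922081 IH) (Lpn v41106)))))))))))
theorem f922086 : Led Lsl_gt (LP (LK LD1_c25 LD2_c3 LD3_c16)) = (LP (LK LD1_c15 LD2_c14 LD3_c14)) :=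
  Lre_g IH (LK LD1_c25 LD2_c3 LD3_c16) (LK LD1_c15 LD2_c14 LD3_c14) Lrfl Lrfl
theorem f3649 : Led Lsl_ft (LP (LK LD1_c9 LD2_c52 LD3_c10)) = (LP (LK LD1_c18 LD2_c3 LD3_c56)) :=
  Lre_f IH (LK LD1_c9 LD2_c52 LD3_c10) (LK LD1_c18 LD2_c3 LD3_c56) Lrfl Lrfl
theorem f922082 : Led Lsl_gf (LP (LK LD1_c9 LD2_c52 LD3_c12)) = v41106 :=
  Lgr Lrot76 (Lpe (f3610 IH) (Lpe (f3649 IH) (Lpr_gt (f922081 IH) (Lpn v41106))))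
theorem f33829 : Led Lsl_bt (LP (LK LD1_c8 LD2_c4 LD3_c31)) = (LP (LK LD1_c4 LD2_c1 LD3_c56)) :=
  Lre_b IH (LK LD1_c8 LD2_c4 LD3_c31) (LK LD1_c4 LD2_c1 LD3_c56) Lrfl Lrfl
theorem f181071 : Led Lsl_gt (LP (LK LD1_c10 LD2_c13 LD3_c39)) = (LP (LK LD1_c18 LD2_c28 LD3_c0)) :=
  Lre_g IH (LK LD1_c10 LD2_c13 LD3_c39) (LK LD1_c18 LD2_c28 LD3_c0) Lrfl Lrfl
theorem f34568 : Led Lsl_bt (LP (LK LD1_c5 LD2_c11 LD3_c31)) = (LP (LK LD1_c10 LD2_c13 LD3_c39)) :=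
  Lre_b IH (LK LD1_c5 LD2_c11 LD3_c31) (LK LD1_c10 LD2_c13 LD3_c39) Lrfl Lrfl
theorem f34353 : Led Lsl_ct (LP (LK LD1_c5 LD2_c11 LD3_c31)) = (LP (LK LD1_c2 LD2_c32 LD3_c41)) :=
  Lre_c IH (LK LD1_c5 LD2_c11 LD3_c31) (LK LD1_c2 LD2_c32 LD3_c41) Lrfl Lrfl
theorem f21479 : Led Lsl_ct (LP (LK LD1_c2 LD2_c31 LD3_c46)) = (LP (LK LD1_c1 LD2_c13 LD3_c17)) :=
  Lre_c IH (LK LD1_c2 LD2_c31 LD3_c46) (LK LD1_c1 LD2_c13 LD3_c17) Lrfl Lrfl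
theorem f21835 : Led Lsl_bt (LP (LK LD1_c2 LD2_c31 LD3_c46)) = (LP (LK LD1_c1 LD2_c12 LD3_c56)) :=
  Lre_b IH (LK LD1_c2 LD2_c31 LD3_c46) (LK LD1_c1 LD2_c12 LD3_c56) Lrfl Lrfl
theorem f197147 : Led Lsl_cf (LP (LK LD1_c8 LD2_c30 LD3_c44)) = (LP (LK LD1_c5 LD2_c9 LD3_c12)) :=
  Lgr Lrot163 (Lpe (K37.f197104 IH) (Lpr_cf (K37.f197122 IH) (Lpe (f181071 IH) (Lpe (f34568 IH) (Lpr_ct (f34353 IH) (Lpe (K44.f21952 IH) (Lpe (f21479 IH) (Lpr_bt (f21835 IH) (Lpe (K10.f21749 IH) (Lpe (K37.f33793 IH) (Lpn (LP (LK LD1_c5 LD2_c9 LD3_c12)))))))))))))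
theorem f197037 : Led Lsl_gt (LP (LK LD1_c8 LD2_c30 LD3_c44)) = (LP (LK LD1_c15 LD2_c58 LD3_c61)) :=
  Lre_g IH (LK LD1_c8 LD2_c30 LD3_c44) (LK LD1_c15 LD2_c58 LD3_c61) Lrfl Lrfl
theorem f181057 : Led Lsl_bt (LP (LK LD1_c18 LD2_c36 LD3_c48)) = (LP (LK LD1_c10 LD2_c13 LD3_c33)) :=
  Lre_b IH (LK LD1_c18 LD2_c36 LD3_c48) (LK LD1_c10 LD2_c13 LD3_c33) Lrfl Lrfl
theorem f181060 : Led Lsl_ct (LP (LK LD1_c18 LD2_c36 LD3_c48)) = (LP (LK LD1_c10 LD2_c13 LD3_c39)) :=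
  Lre_c IH (LK LD1_c18 LD2_c36 LD3_c48) (LK LD1_c10 LD2_c13 LD3_c39) Lrfl Lrfl
theorem f34569 : Led Lsl_gt (LP (LK LD1_c18 LD2_c36 LD3_c58)) = (LP (LK LD1_c10 LD2_c13 LD3_c39)) :=
  Lre_g IH (LK LD1_c18 LD2_c36 LD3_c58) (LK LD1_c10 LD2_c13 LD3_c39) Lrfl Lrfl
theorem f197038 : Led Lsl_ct (LP (LK LD1_c15 LD2_c58 LD3_c61)) = (LP (LK LD1_c18 LD2_c36 LD3_c58)) :=
  Lgr Lrot91 (Lpe (f197037 IH) (Lpe (K37.f197036 IH) (Lpr_ct (K16.f197014 IH) (Lpr_gf (K10.f197022 IH) (Lpe (K9.f32855 IH) (Lpr_bt (K44.f181061 IH) (Lpr_gf (K44.f181047 IH) (Lpe (f181057 IH) (Lpr_ct (f181060 IH) (Lpe (f34569 IH) (Lpn (LP (LK LD1_c18 LD2_c36 LD3_c58)))))))))))))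
theorem f421138 : Led Lsl_cf (LP (LK LD1_c15 LD2_c58 LD3_c61)) = (LP (LK LD1_c18 LD2_c36 LD3_c58)) :=
  Lgr Lrot11 (Lpr_ct (f197038 IH) (Lpn (LP (LK LD1_c18 LD2_c36 LD3_c58))))
theorem f922087 : Led Lsl_bf (LP (LK LD1_c25 LD2_c3 LD3_c16)) = (LP (LK LD1_c18 LD2_c36 LD3_c58)) :=
  Lgr Lrot165 (Lpr_gt (f922086 IH) (Lpr_ct (f922083 IH) (Lpe (f922082 IH) (Lpr_cf (K10.f165350 IH) (Lpr_bt (f33829 IH) (Lpr_gt (K10.f33844 IH) (Lpe (K37.f33793 IH) (Lpe (f197147 IH) (Lpr_gt (f197037 IH) (Lpr_cf (f421138 IH) (Lpn (LP (LK LD1_c18 LD2_c36 LD3_c58)))))))))))))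
theorem f922088 : Led Lsl_bt (LP (LK LD1_c18 LD2_c36 LD3_c58)) = (LP (LK LD1_c25 LD2_c3 LD3_c16)) :=
  Leop (Lpr_bf (f922087 IH) (Lpn (LP (LK LD1_c18 LD2_c36 LD3_c58))))
theorem seed_2443 : LEOK LG_b (LK LD1_c18 LD2_c36 LD3_c58) :=
  Leoe_b (LK LD1_c18 LD2_c36 LD3_c58) (f922088 IH)
def v41110 : LQ := Led Lsl_bt (LP (LK LD1_c9 LD2_c52 LD3_c17))
theorem f922120 : Led Lsl_bt (LP (LK LD1_c9 LD2_c52 LD3_c17)) = v41110 :=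
  Lrfl
theorem f263452 : Led Lsl_bt (LP (LK LD1_c5 LD2_c26 LD3_c9)) = (LP (LK LD1_c2 LD2_c39 LD3_c31)) :=
  Lre_b IH (LK LD1_c5 LD2_c26 LD3_c9) (LK LD1_c2 LD2_c39 LD3_c31) Lrfl Lrfl
theorem f266771 : Led Lsl_ct (LP (LK LD1_c5 LD2_c26 LD3_c9)) = (LP (LK LD1_c2 LD2_c39 LD3_c33)) :=
  Lre_c IH (LK LD1_c5 LD2_c26 LD3_c9) (LK LD1_c2 LD2_c39 LD3_c33) Lrfl Lrfl
theorem f195704 : Led Lsl_gt (LP (LK LD1_c5 LD2_c26 LD3_c15)) = (LP (LK LD1_c2 LD2_c39 LD3_c33)) :=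
  Lre_g IH (LK LD1_c5 LD2_c26 LD3_c15) (LK LD1_c2 LD2_c39 LD3_c33) Lrfl Lrfl
theorem f266772 : Led Lsl_ct (LP (LK LD1_c10 LD2_c43 LD3_c48)) = (LP (LK LD1_c5 LD2_c26 LD3_c15)) :=
  Lre_c IH (LK LD1_c10 LD2_c43 LD3_c48) (LK LD1_c5 LD2_c26 LD3_c15) Lrfl Lrfl
theorem f266773 : Led Lsl_bt (LP (LK LD1_c10 LD2_c43 LD3_c48)) = (LP (LK LD1_c19 LD2_c24 LD3_c61)) :=
  Lre_b IH (LK LD1_c10 LD2_c43 LD3_c48) (LK LD1_c19 LD2_c24 LD3_c61) Lrfl Lrfl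
theorem f922125 : Led Lsl_gf (LP (LK LD1_c19 LD2_c24 LD3_c61)) = v41110 :=
  Lgr Lrot124 (Lpe (f266773 IH) (Lpr_ct (f266772 IH) (Lpr_gt (f195704 IH) (Lpe (f266771 IH) (Lpr_bt (f263452 IH) (Lpr_gt (K15.f198747 IH) (Lpe (K17.f264093 IH) (Lpe (K15.f266764 IH) (Lpe (K15.f165860 IH) (Lpr_bt (f922120 IH) (Lpn v41110)))))))))))
theorem f368079 : Led Lsl_ff (LP (LK LD1_c8 LD2_c13 LD3_c29)) = (LP (LK LD1_c5 LD2_c17 LD3_c15)) :=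
  Lgr Lrot3 (Lpr_ft (K27.f368075 IH) (Lpn (LP (LK LD1_c5 LD2_c17 LD3_c15))))
theorem f368083 : Led Lsl_at (LP (LK LD1_c9 LD2_c52 LD3_c17)) = (LP (LK LD1_c5 LD2_c17 LD3_c15)) :=
  Lgr Lrot100 (Lpr_af (K27.f368081 IH) (Lpn (LP (LK LD1_c5 LD2_c17 LD3_c15))))
theorem f368158 : Led Lsl_ft (LP (LK LD1_c5 LD2_c17 LD3_c19)) = (LP (LK LD1_c9 LD2_c52 LD3_c17)) :=
  Lgr Lrot101 (Lpr_af (K27.f368103 IH) (Lpr_ff (f368079 IH) (Lpe (f368083 IH) (Lpn (LP (LK LD1_c9 LD2_c52 LD3_c17))))))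
theorem f922124 : Led Lsl_ff (LP (LK LD1_c10 LD2_c24 LD3_c10)) = v41110 :=
  Lgr Lrot25 (Lpr_bt (K27.f191375 IH) (Lpr_ft (f368158 IH) (Lpr_bt (f922120 IH) (Lpn v41110))))
theorem f922126 : Led Lsl_gt (LP (LK LD1_c19 LD2_c24 LD3_c61)) = (LP (LK LD1_c18 LD2_c52 LD3_c34)) :=
  Lgr Lrot46 (Lpr_gf (f922125 IH) (Lpe (f922124 IH) (Lpr_at (K27.f191380 IH) (Lpn (LP (LK LD1_c18 LD2_c52 LD3_c34))))))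
theorem f922127 : Led Lsl_gt (LP (LK LD1_c19 LD2_c24 LD3_c61)) = (LP (LK LD1_c18 LD2_c52 LD3_c34)) :=
  Leop (Lpe (f922126 IH) (Lpn (LP (LK LD1_c19 LD2_c24 LD3_c61))))
theorem seed_2444 : LEOK LG_g (LK LD1_c19 LD2_c24 LD3_c61) :=
  Leoe_g (LK LD1_c19 LD2_c24 LD3_c61) (f922127 IH)
theorem f187871 : Led Lsl_bt (LP (LK LD1_c17 LD2_c35 LD3_c38)) = (LP (LK LD1_c9 LD2_c33 LD3_c14)) :=
  Lre_b IH (LK LD1_c17 LD2_c35 LD3_c38) (LK LD1_c9 LD2_c33 LD3_c14) Lrfl Lrfl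
theorem f922122 : Led Lsl_cf (LP (LK LD1_c17 LD2_c35 LD3_c38)) = v41110 :=
  Lgr Lrot97 (Lpr_bt (f187871 IH) (Lpr_ct (K14.f187870 IH) (Lpe (K14.f187865 IH) (Lpr_ct (K15.f165861 IH) (Lpr_bt (f922120 IH) (Lpn v41110))))))
theorem f215578 : Led Lsl_gt (LP (LK LD1_c27 LD2_c23 LD3_c42)) = (LP (LK LD1_c17 LD2_c35 LD3_c38)) :=
  Lre_g IH (LK LD1_c27 LD2_c23 LD3_c42) (LK LD1_c17 LD2_c35 LD3_c38) Lrfl Lrfl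
theorem f922121 : Led Lsl_bf (LP (LK LD1_c9 LD2_c52 LD3_c17)) = v41110 :=
  Lgr Lrot24 (Lpr_bt (f922120 IH) (Lpn v41110))
theorem f49606 : Led Lsl_bt (LP (LK LD1_c4 LD2_c7 LD3_c58)) = (LP (LK LD1_c8 LD2_c15 LD3_c56)) :=
  Lre_b IH (LK LD1_c4 LD2_c7 LD3_c58) (LK LD1_c8 LD2_c15 LD3_c56) Lrfl Lrfl
theorem f49607 : Led Lsl_gt (LP (LK LD1_c8 LD2_c15 LD3_c56)) = (LP (LK LD1_c15 LD2_c32 LD3_c20)) :=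
  Lre_g IH (LK LD1_c8 LD2_c15 LD3_c56) (LK LD1_c15 LD2_c32 LD3_c20) Lrfl Lrfl
theorem f259199 : Led Lsl_bt (LP (LK LD1_c25 LD2_c25 LD3_c42)) = (LP (LK LD1_c15 LD2_c32 LD3_c20)) :=
  Lre_b IH (LK LD1_c25 LD2_c25 LD3_c42) (LK LD1_c15 LD2_c32 LD3_c20) Lrfl Lrfl
theorem f922133 : Led Lsl_cf (LP (LK LD1_c27 LD2_c23 LD3_c42)) = (LP (LK LD1_c25 LD2_c25 LD3_c42)) :=
  Lgr Lrot160 (Lpr_gt (f215578 IH) (Lpr_cf (f922122 IH) (Lpe (f922121 IH) (Lpe (K15.f259197 IH) (Lpr_ct (K15.f191311 IH) (Lpr_gt (K15.f259190 IH) (Lpe (K15.f49105 IH) (Lpr_bt (f49606 IH) (Lpr_gt (f49607 IH) (Lpe (f259199 IH) (Lpn (LP (LK LD1_c25 LD2_c25 LD3_c42)))))))))))))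
theorem f922134 : Led Lsl_ct (LP (LK LD1_c25 LD2_c25 LD3_c42)) = (LP (LK LD1_c27 LD2_c23 LD3_c42)) :=
  Leop (Lpr_cf (f922133 IH) (Lpn (LP (LK LD1_c25 LD2_c25 LD3_c42))))
theorem seed_2445 : LEOK LG_c (LK LD1_c25 LD2_c25 LD3_c42) :=
  Leoe_c (LK LD1_c25 LD2_c25 LD3_c42) (f922134 IH)
def v41161 : LQ := Led Lsl_et (LP (LK LD1_c9 LD2_c53 LD3_c21))
theorem f922373 : Led Lsl_et (LP (LK LD1_c9 LD2_c53 LD3_c21)) = v41161 :=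
  Lrfl
def v14459 : LQ := Led Lsl_at (LP (LK LD1_c5 LD2_c10 LD3_c56))
theorem f722638 : Led Lsl_at (LP (LK LD1_c5 LD2_c10 LD3_c56)) = v14459 :=
  Lrfl
def v13964 : LQ := Led Lsl_at (LP (LK LD1_c4 LD2_c52 LD3_c24))
theorem f717489 : Led Lsl_at (LP (LK LD1_c4 LD2_c52 LD3_c24)) = v13964 :=
  Lrfl
theorem f717490 : Led Lsl_af (LP (LK LD1_c4 LD2_c52 LD3_c24)) = v13964 :=
  Lgr Lrot0 (Lpr_at (f717489 IH) (Lpn v13964))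
theorem f722640 : Led Lsl_df v13964 = v14459 :=
  Lgr Lrot18 (Lpe (f717490 IH) (Lpe (K21.f307352 IH) (Lpr_at (f722638 IH) (Lpn v14459))))
theorem f722641 : Led Lsl_dt v13964 = v14459 :=
  Lgr Lrot42 (Lpr_df (f722640 IH) (Lpn v14459))
def v14460 : LQ := Led Lsl_ft (LP (LK LD1_c5 LD2_c10 LD3_c56))
theorem f722644 : Led Lsl_ft (LP (LK LD1_c5 LD2_c10 LD3_c56)) = v14460 :=
  Lrfl
def v13965 : LQ := Led Lsl_ft (LP (LK LD1_c4 LD2_c52 LD3_c24))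
theorem f717493 : Led Lsl_ft (LP (LK LD1_c4 LD2_c52 LD3_c24)) = v13965 :=
  Lrfl
theorem f717495 : Led Lsl_ff (LP (LK LD1_c4 LD2_c52 LD3_c24)) = v13965 :=
  Lgr Lrot3 (Lpr_ft (f717493 IH) (Lpn v13965))
theorem f722646 : Led Lsl_df v13965 = v14460 :=
  Lgr Lrot78 (Lpe (f717495 IH) (Lpe (K21.f307352 IH) (Lpr_ft (f722644 IH) (Lpn v14460))))
def v35935 : LQ := Led Lsl_at (LP (LK LD1_c8 LD2_c14 LD3_c4))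
theorem f881224 : Led Lsl_at (LP (LK LD1_c8 LD2_c14 LD3_c4)) = v35935 :=
  Lrfl
theorem f881225 : Led Lsl_af (LP (LK LD1_c8 LD2_c14 LD3_c4)) = v35935 :=
  Lgr Lrot0 (Lpr_at (f881224 IH) (Lpn v35935))
theorem f881226 : Led Lsl_ft (LP (LK LD1_c8 LD2_c14 LD3_c5)) = v35935 :=
  Lgr Lrot2 (Lpr_gt (K19.f47887 IH) (Lpr_gt (K19.f47889 IH) (Lpr_af (f881225 IH) (Lpn v35935))))
theorem f881227 : Led Lsl_ff (LP (LK LD1_c8 LD2_c14 LD3_c5)) = v35935 :=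
  Lgr Lrot3 (Lpr_ft (f881226 IH) (Lpn v35935))
def v35579 : LQ := Led Lsl_ft (LP (LK LD1_c7 LD2_c58 LD3_c42))
theorem f875956 : Led Lsl_ft (LP (LK LD1_c7 LD2_c58 LD3_c42)) = v35579 :=
  Lrfl
def v35578 : LQ := Led Lsl_at (LP (LK LD1_c7 LD2_c58 LD3_c42))
theorem f875952 : Led Lsl_at (LP (LK LD1_c7 LD2_c58 LD3_c42)) = v35578 :=
  Lrfl
theorem f875953 : Led Lsl_af (LP (LK LD1_c7 LD2_c58 LD3_c42)) = v35578 :=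
  Lgr Lrot0 (Lpr_at (f875952 IH) (Lpn v35578))
theorem f875954 : Led Lsl_ft (LP (LK LD1_c7 LD2_c58 LD3_c43)) = v35578 :=
  Lgr Lrot2 (Lpr_gt (K23.f41342 IH) (Lpr_gt (K14.f41344 IH) (Lpr_af (f875953 IH) (Lpn v35578))))
theorem f875957 : Led Lsl_af (LP (LK LD1_c7 LD2_c58 LD3_c43)) = v35579 :=
  Lgr Lrot45 (Lpr_ft (f875954 IH) (Lpe (f875953 IH) (Lpr_ft (f875956 IH) (Lpn v35579))))
theorem f351391 : Led Lsl_ef (LP (LK LD1_c16 LD2_c1 LD3_c34)) = (LP (LK LD1_c15 LD2_c39 LD3_c34)) :=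
  Lgr Lrot88 (Lpr_et (K24.f351385 IH) (Lpn (LP (LK LD1_c15 LD2_c39 LD3_c34))))
theorem f365348 : Led Lsl_ct (LP (LK LD1_c15 LD2_c33 LD3_c52)) = (LP (LK LD1_c15 LD2_c39 LD3_c34)) :=
  Lgr Lrot59 (Lpr_cf (K26.f365342 IH) (Lpn (LP (LK LD1_c15 LD2_c39 LD3_c34))))
theorem f365512 : Led Lsl_et (LP (LK LD1_c15 LD2_c57 LD3_c25)) = (LP (LK LD1_c15 LD2_c33 LD3_c52)) :=
  Lgr Lrot158 (Lpr_cf (K27.f365508 IH) (Lpr_ef (f351391 IH) (Lpe (f365348 IH) (Lpn (LP (LK LD1_c15 LD2_c33 LD3_c52))))))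
theorem f887738 : Led Lsl_ff (LP (LK LD1_c15 LD2_c38 LD3_c17)) = (LP (LK LD1_c16 LD2_c0 LD3_c32)) :=
  Lgr Lrot3 (Lpr_ft (K68.f887732 IH) (Lpn (LP (LK LD1_c16 LD2_c0 LD3_c32))))
theorem f321614 : Led Lsl_cf (LP (LK LD1_c17 LD2_c43 LD3_c22)) = (LP (LK LD1_c15 LD2_c38 LD3_c17)) :=
  Lgr Lrot39 (Lpr_et (K19.f200573 IH) (Lpr_ct (K20.f321606 IH) (Lpr_et (K68.f321613 IH) (Lpn (LP (LK LD1_c15 LD2_c38 LD3_c17))))))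
theorem f887742 : Led Lsl_ft (LP (LK LD1_c17 LD2_c43 LD3_c22)) = (LP (LK LD1_c19 LD2_c54 LD3_c25)) :=
  Lgr Lrot4 (Lpr_cf (f321614 IH) (Lpr_ff (f887738 IH) (Lpe (K27.f361736 IH) (Lpn (LP (LK LD1_c19 LD2_c54 LD3_c25))))))
theorem f887748 : Led Lsl_af (LP (LK LD1_c25 LD2_c29 LD3_c0)) = (LP (LK LD1_c19 LD2_c54 LD3_c25)) :=
  Lgr Lrot31 (Lpe (K26.f359013 IH) (Lpr_gf (K26.f337748 IH) (Lpr_ft (f887742 IH) (Lpn (LP (LK LD1_c19 LD2_c54 LD3_c25))))))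
theorem f887754 : Led Lsl_at (LP (LK LD1_c16 LD2_c1 LD3_c33)) = (LP (LK LD1_c16 LD2_c0 LD3_c30)) :=
  Lgr Lrot80 (Lpr_ef (K26.f359005 IH) (Lpr_af (f887748 IH) (Lpr_ef (K26.f361704 IH) (Lpn (LP (LK LD1_c16 LD2_c0 LD3_c30))))))
theorem f887762 : (LP (LK LD1_c15 LD2_c57 LD3_c24)) = K68.v36599 :=
  (Llr Lrot1 (Lpr_ct (K46.f359030 IH) (Lpr_at (f887754 IH) (Lpr_ct (K24.f331362 IH) (Lpr_at (K68.f887722 IH) (Lpn K68.v36599)))))).symm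
theorem f887771 : Led Lsl_ff (LP (LK LD1_c16 LD2_c0 LD3_c34)) = (LP (LK LD1_c15 LD2_c35 LD3_c59)) :=
  Lgr Lrot19 (Lpr_dt (K24.f349917 IH) (Lpr_ft (K68.f887724 IH) (Lpq (f887762 IH) (Lpe (K26.f347638 IH) (Lpn (LP (LK LD1_c15 LD2_c35 LD3_c59)))))))
theorem f250909 : Led Lsl_gt (LP (LK LD1_c15 LD2_c35 LD3_c60)) = (LP (LK LD1_c8 LD2_c17 LD3_c42)) :=
  Lre_g IH (LK LD1_c15 LD2_c35 LD3_c60) (LK LD1_c8 LD2_c17 LD3_c42) Lrfl Lrfl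
theorem f347577 : Led Lsl_gf (LP (LK LD1_c15 LD2_c35 LD3_c60)) = (LP (LK LD1_c25 LD2_c27 LD3_c8)) :=
  Lgr Lrot47 (Lpr_gt (f250909 IH) (Lpr_af (K23.f347562 IH) (Lpe (K23.f47619 IH) (Lpn (LP (LK LD1_c25 LD2_c27 LD3_c8))))))
theorem f887777 : Led Lsl_at (LP (LK LD1_c16 LD2_c0 LD3_c34)) = (LP (LK LD1_c15 LD2_c35 LD3_c60)) :=
  Lgr Lrot26 (Lpr_ff (f887771 IH) (Lpr_gt (K26.f347635 IH) (Lpe (f347577 IH) (Lpn (LP (LK LD1_c15 LD2_c35 LD3_c60))))))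
theorem f887727 : Led Lsl_af (LP (LK LD1_c8 LD2_c31 LD3_c43)) = K68.v36600 :=
  Lgr Lrot45 (Lpr_ft (K68.f887724 IH) (Lpe (K68.f887723 IH) (Lpr_ft (K68.f887726 IH) (Lpn K68.v36600))))
theorem f351222 : Led Lsl_bt (LP (LK LD1_c16 LD2_c1 LD3_c34)) = (LP (LK LD1_c17 LD2_c43 LD3_c30)) :=
  Lgr Lrot95 (Lpr_df (K24.f351220 IH) (Lpe (K24.f350763 IH) (Lpr_df (K22.f336314 IH) (Lpn (LP (LK LD1_c17 LD2_c43 LD3_c30))))))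
theorem f365518 : Led Lsl_gf (LP (LK LD1_c15 LD2_c57 LD3_c25)) = (LP (LK LD1_c8 LD2_c31 LD3_c45)) :=
  Lgr Lrot129 (Lpr_cf (K27.f365508 IH) (Lpr_bt (f351222 IH) (Lpr_gt (K24.f270893 IH) (Lpr_bf (K17.f282095 IH) (Lpr_ct (K17.f273753 IH) (Lpr_gt (K23.f341726 IH) (Lpe (K23.f47701 IH) (Lpe (K23.f341720 IH) (Lpr_gt (K21.f285683 IH) (Lpr_ct (K23.f271420 IH) (Lpn (LP (LK LD1_c8 LD2_c31 LD3_c45)))))))))))))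
theorem f365521 : Led Lsl_dt (LP (LK LD1_c15 LD2_c57 LD3_c25)) = (LP (LK LD1_c15 LD2_c35 LD3_c60)) :=
  Lgr Lrot57 (Lpr_gf (f365518 IH) (Lpe (K23.f271420 IH) (Lpe (K26.f360893 IH) (Lpe (K26.f360911 IH) (Lpr_gt (K26.f360915 IH) (Lpr_dt (K23.f229029 IH) (Lpe (K23.f621 IH) (Lpe (K23.f347571 IH) (Lpe (f250909 IH) (Lpn (LP (LK LD1_c15 LD2_c35 LD3_c60))))))))))))
theorem f365527 : Led Lsl_df (LP (LK LD1_c15 LD2_c57 LD3_c25)) = (LP (LK LD1_c15 LD2_c35 LD3_c60)) :=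
  Lgr Lrot38 (Lpr_dt (f365521 IH) (Lpn (LP (LK LD1_c15 LD2_c35 LD3_c60))))
theorem f887783 : K68.v36600 = (LP (LK LD1_c15 LD2_c57 LD3_c25)) :=
  (Llr Lrot117 (Lpe (f887727 IH) (Lpr_dt (K24.f349920 IH) (Lpr_at (f887777 IH) (Lpe (f365527 IH) (Lpn (LP (LK LD1_c15 LD2_c57 LD3_c25)))))))).symm
theorem f887788 : K68.v36062 = (LP (LK LD1_c15 LD2_c33 LD3_c52)) :=
  Lefun (Lecon (Lfl_ef (K68.f887730 IH)) (f887783 IH)) (f365512 IH)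
theorem f887795 : Led Lsl_ff (LP (LK LD1_c9 LD2_c37 LD3_c43)) = (LP (LK LD1_c15 LD2_c39 LD3_c34)) :=
  Lgr Lrot23 (Lpr_ct (K20.f321606 IH) (Lpr_ft (K68.f882038 IH) (Lpqs (f887788 IH) (Lpr_ct (f365348 IH) (Lpn (LP (LK LD1_c15 LD2_c39 LD3_c34)))))))
theorem f887817 : Led Lsl_at (LP (LK LD1_c9 LD2_c37 LD3_c43)) = (LP (LK LD1_c9 LD2_c36 LD3_c50)) :=
  Lgr Lrot26 (Lpr_ff (f887795 IH) (Lpe (K24.f351393 IH) (Lpr_gt (K25.f344788 IH) (Lpn (LP (LK LD1_c9 LD2_c36 LD3_c50))))))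
def v36063 : LQ := Led Lsl_ft (LP (LK LD1_c8 LD2_c18 LD3_c48))
theorem f882040 : Led Lsl_ft (LP (LK LD1_c8 LD2_c18 LD3_c48)) = v36063 :=
  Lrfl
theorem f882041 : Led Lsl_af (LP (LK LD1_c8 LD2_c18 LD3_c49)) = v36063 :=
  Lgr Lrot45 (Lpr_ft (K68.f882038 IH) (Lpe (K68.f882037 IH) (Lpr_ft (f882040 IH) (Lpn v36063))))
theorem f236201 : Led Lsl_ct (LP (LK LD1_c8 LD2_c16 LD3_c40)) = (LP (LK LD1_c4 LD2_c8 LD3_c19)) :=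
  Lre_c IH (LK LD1_c8 LD2_c16 LD3_c40) (LK LD1_c4 LD2_c8 LD3_c19) Lrfl Lrfl
theorem f236217 : Led Lsl_gt (LP (LK LD1_c15 LD2_c33 LD3_c53)) = (LP (LK LD1_c8 LD2_c16 LD3_c40)) :=
  Lre_g IH (LK LD1_c15 LD2_c33 LD3_c53) (LK LD1_c8 LD2_c16 LD3_c40) Lrfl Lrfl
theorem f347308 : Led Lsl_cf (LP (LK LD1_c15 LD2_c33 LD3_c53)) = (LP (LK LD1_c9 LD2_c36 LD3_c50)) :=
  Lgr Lrot169 (Lpr_gt (f236217 IH) (Lpr_ct (f236201 IH) (Lpr_df (K23.f236186 IH) (Lpe (K26.f236192 IH) (Lpe (K23.f347293 IH) (Lpr_cf (K23.f347278 IH) (Lpr_gf (K23.f347303 IH) (Lpe (K35.f263582 IH) (Lpr_gt (K25.f344788 IH) (Lpn (LP (LK LD1_c9 LD2_c36 LD3_c50))))))))))))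
theorem f887825 : v36063 = (LP (LK LD1_c15 LD2_c33 LD3_c53)) :=
  (Llr Lrot68 (Lpe (f882041 IH) (Lpe (K26.f321609 IH) (Lpr_at (f887817 IH) (Lpe (f347308 IH) (Lpn (LP (LK LD1_c15 LD2_c33 LD3_c53)))))))).symm
theorem f371092 : Led Lsl_cf (LP (LK LD1_c9 LD2_c37 LD3_c8)) = (LP (LK LD1_c8 LD2_c31 LD3_c43)) :=
  Lgr Lrot166 (Lpr_gt (K27.f371086 IH) (Lpe (K24.f259720 IH) (Lpr_gt (K23.f44992 IH) (Lpr_dt (K23.f212514 IH) (Lpe (K23.f349775 IH) (Lpe (K27.f349777 IH) (Lpr_gf (K27.f355019 IH) (Lpe (K27.f726 IH) (Lpe (K24.f339052 IH) (Lpn (LP (LK LD1_c8 LD2_c31 LD3_c43))))))))))))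
theorem f371112 : Led Lsl_cf (LP (LK LD1_c8 LD2_c18 LD3_c48)) = (LP (LK LD1_c9 LD2_c37 LD3_c42)) :=
  Lgr Lrot39 (Lpr_et (K27.f349934 IH) (Lpe (f371092 IH) (Lpr_et (K54.f371108 IH) (Lpn (LP (LK LD1_c9 LD2_c37 LD3_c42))))))
theorem f347840 : Led Lsl_cf (LP (LK LD1_c9 LD2_c36 LD3_c50)) = (LP (LK LD1_c15 LD2_c33 LD3_c53)) :=
  Lgr Lrot166 (Lpe (K23.f344786 IH) (Lpe (K16.f251793 IH) (Lpr_gt (K16.f190833 IH) (Lpr_dt (K23.f229586 IH) (Lpr_ct (K21.f229597 IH) (Lpr_df (K27.f347811 IH) (Lpe (K26.f222920 IH) (Lpe (K26.f222261 IH) (Lpe (f236217 IH) (Lpn (LP (LK LD1_c15 LD2_c33 LD3_c53))))))))))))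
theorem f887830 : Led Lsl_ff (LP (LK LD1_c9 LD2_c37 LD3_c42)) = (LP (LK LD1_c9 LD2_c36 LD3_c50)) :=
  Lgr Lrot23 (Lpe (f371112 IH) (Lpr_ft (f882040 IH) (Lpqs (f887825 IH) (Lpe (f347840 IH) (Lpn (LP (LK LD1_c9 LD2_c36 LD3_c50)))))))
theorem f371110 : Led Lsl_bf (LP (LK LD1_c9 LD2_c36 LD3_c36)) = (LP (LK LD1_c9 LD2_c37 LD3_c42)) :=
  Lgr Lrot96 (Lpr_et (K25.f307192 IH) (Lpr_bt (K30.f307194 IH) (Lpr_et (K54.f371108 IH) (Lpn (LP (LK LD1_c9 LD2_c37 LD3_c42))))))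
theorem f344790 : Led Lsl_bt (LP (LK LD1_c4 LD2_c52 LD3_c13)) = (LP (LK LD1_c9 LD2_c36 LD3_c50)) :=
  Lre_b IH (LK LD1_c4 LD2_c52 LD3_c13) (LK LD1_c9 LD2_c36 LD3_c50) Lrfl Lrfl
def v13961 : LQ := Led Lsl_at (LP (LK LD1_c4 LD2_c52 LD3_c12))
theorem f717474 : Led Lsl_at (LP (LK LD1_c4 LD2_c52 LD3_c12)) = v13961 :=
  Lrfl
theorem f717475 : Led Lsl_af (LP (LK LD1_c4 LD2_c52 LD3_c12)) = v13961 :=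
  Lgr Lrot0 (Lpr_at (f717474 IH) (Lpn v13961))
theorem f717476 : Led Lsl_ft (LP (LK LD1_c4 LD2_c52 LD3_c13)) = v13961 :=
  Lgr Lrot2 (Lpr_gt (K18.f222111 IH) (Lpr_gt (K18.f222108 IH) (Lpr_af (f717475 IH) (Lpn v13961))))
theorem f717477 : Led Lsl_ff (LP (LK LD1_c4 LD2_c52 LD3_c13)) = v13961 :=
  Lgr Lrot3 (Lpr_ft (f717476 IH) (Lpn v13961))
theorem f887840 : (LP (LK LD1_c9 LD2_c36 LD3_c36)) = v13961 :=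
  (Llr Lrot35 (Lpr_bf (f371110 IH) (Lpr_ff (f887830 IH) (Lpe (f344790 IH) (Lpr_ff (f717477 IH) (Lpn v13961)))))).symm
theorem f887847 : Led Lsl_ff (LP (LK LD1_c9 LD2_c36 LD3_c52)) = (LP (LK LD1_c17 LD2_c41 LD3_c53)) :=
  Lgr Lrot19 (Lpr_dt (K23.f301656 IH) (Lpr_ft (f717476 IH) (Lpq (f887840 IH) (Lpr_dt (K21.f222120 IH) (Lpn (LP (LK LD1_c17 LD2_c41 LD3_c53)))))))
theorem f887855 : Led Lsl_at (LP (LK LD1_c9 LD2_c36 LD3_c52)) = (LP (LK LD1_c15 LD2_c29 LD3_c35)) :=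
  Lgr Lrot26 (Lpr_ff (f887847 IH) (Lpe (K54.f358506 IH) (Lpr_gt (K26.f358394 IH) (Lpn (LP (LK LD1_c15 LD2_c29 LD3_c35))))))
theorem f887866 : v35579 = (LP (LK LD1_c8 LD2_c14 LD3_c4)) :=
  (Llr Lrot50 (Lpe (f875957 IH) (Lpr_et (K25.f320334 IH) (Lpr_at (f887855 IH) (Lpr_et (K19.f55003 IH) (Lpn (LP (LK LD1_c8 LD2_c14 LD3_c4)))))))).symm
theorem f887867 : (LP (LK LD1_c7 LD2_c58 LD3_c43)) = v35935 :=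
  Lefun (Lecon (Lfl_af (f875957 IH)) (f887866 IH)) (f881224 IH)
theorem f307218 : Led Lsl_ef (LP (LK LD1_c17 LD2_c41 LD3_c53)) = (LP (LK LD1_c18 LD2_c34 LD3_c6)) :=
  Lgr Lrot73 (Lpr_dt (K21.f301233 IH) (Lpr_et (K25.f307192 IH) (Lpe (K21.f307173 IH) (Lpr_et (K21.f307214 IH) (Lpr_dt (K21.f256408 IH) (Lpn (LP (LK LD1_c18 LD2_c34 LD3_c6))))))))
theorem f887884 : Led Lsl_ff (LP (LK LD1_c18 LD2_c34 LD3_c6)) = (LP (LK LD1_c10 LD2_c11 LD3_c55)) :=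
  Lgr Lrot72 (Lpe (f307218 IH) (Lpe (f887847 IH) (Lpe (K23.f320327 IH) (Lpqs (f887867 IH) (Lpe (f881227 IH) (Lpe (K22.f305849 IH) (Lpn (LP (LK LD1_c10 LD2_c11 LD3_c55)))))))))
def v14449 : LQ := Led Lsl_at (LP (LK LD1_c5 LD2_c10 LD3_c34))
theorem f722588 : Led Lsl_at (LP (LK LD1_c5 LD2_c10 LD3_c34)) = v14449 :=
  Lrfl
theorem f722589 : Led Lsl_af (LP (LK LD1_c5 LD2_c10 LD3_c34)) = v14449 :=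
  Lgr Lrot0 (Lpr_at (f722588 IH) (Lpn v14449))
theorem f722590 : Led Lsl_ft (LP (LK LD1_c5 LD2_c10 LD3_c35)) = v14449 :=
  Lgr Lrot2 (Lpr_gt (K19.f253612 IH) (Lpr_gt (K19.f253634 IH) (Lpr_af (f722589 IH) (Lpn v14449))))
theorem f722591 : Led Lsl_ff (LP (LK LD1_c5 LD2_c10 LD3_c35)) = v14449 :=
  Lgr Lrot3 (Lpr_ft (f722590 IH) (Lpn v14449))
theorem f887894 : (LP (LK LD1_c10 LD2_c11 LD3_c35)) = v14449 :=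
  (Llr Lrot60 (Lpe (K21.f253666 IH) (Lpr_ff (f887884 IH) (Lpe (K19.f249052 IH) (Lpr_ff (f722591 IH) (Lpn v14449)))))).symm
theorem f887901 : Led Lsl_ff (LP (LK LD1_c10 LD2_c11 LD3_c54)) = (LP (LK LD1_c18 LD2_c34 LD3_c5)) :=
  Lgr Lrot23 (Lpr_ct (K67.f253633 IH) (Lpr_ft (f722590 IH) (Lpq (f887894 IH) (Lpr_ct (K27.f253680 IH) (Lpn (LP (LK LD1_c18 LD2_c34 LD3_c5)))))))
theorem f887909 : Led Lsl_at (LP (LK LD1_c10 LD2_c11 LD3_c54)) = (LP (LK LD1_c18 LD2_c34 LD3_c7)) :=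
  Lgr Lrot26 (Lpr_ff (f887901 IH) (Lpr_gt (K25.f355593 IH) (Lpr_gt (K67.f340679 IH) (Lpn (LP (LK LD1_c18 LD2_c34 LD3_c7))))))
def v14450 : LQ := Led Lsl_ft (LP (LK LD1_c5 LD2_c10 LD3_c34))
theorem f722592 : Led Lsl_ft (LP (LK LD1_c5 LD2_c10 LD3_c34)) = v14450 :=
  Lrfl
theorem f722593 : Led Lsl_af (LP (LK LD1_c5 LD2_c10 LD3_c35)) = v14450 :=
  Lgr Lrot45 (Lpr_ft (f722590 IH) (Lpe (f722589 IH) (Lpr_ft (f722592 IH) (Lpn v14450))))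
theorem f887915 : v14450 = (LP (LK LD1_c10 LD2_c11 LD3_c36)) :=
  (Llr Lrot68 (Lpe (f722593 IH) (Lpr_ct (K23.f249057 IH) (Lpr_at (f887909 IH) (Lpr_ct (K20.f254188 IH) (Lpn (LP (LK LD1_c10 LD2_c11 LD3_c36)))))))).symm
theorem f887924 : Led Lsl_ff (LP (LK LD1_c10 LD2_c11 LD3_c52)) = (LP (LK LD1_c15 LD2_c3 LD3_c12)) :=
  Lgr Lrot19 (Lpr_dt (K25.f312420 IH) (Lpr_ft (f722592 IH) (Lpqs (f887915 IH) (Lpr_dt (K23.f254184 IH) (Lpn (LP (LK LD1_c15 LD2_c3 LD3_c12)))))))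
theorem f887934 : Led Lsl_at (LP (LK LD1_c10 LD2_c11 LD3_c52)) = (LP (LK LD1_c18 LD2_c34 LD3_c6)) :=
  Lgr Lrot26 (Lpr_ff (f887924 IH) (Lpr_gt (K25.f307286 IH) (Lpr_gt (K21.f307226 IH) (Lpn (LP (LK LD1_c18 LD2_c34 LD3_c6))))))
theorem f887890 : Led Lsl_ft (LP (LK LD1_c18 LD2_c34 LD3_c6)) = (LP (LK LD1_c10 LD2_c11 LD3_c55)) :=
  Lgr Lrot48 (Lpr_ff (f887884 IH) (Lpn (LP (LK LD1_c10 LD2_c11 LD3_c55))))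
theorem f887940 : Led Lsl_af (LP (LK LD1_c15 LD2_c3 LD3_c12)) = (LP (LK LD1_c10 LD2_c11 LD3_c55)) :=
  Lgr Lrot45 (Lpe (f887924 IH) (Lpr_at (f887934 IH) (Lpr_ft (f887890 IH) (Lpn (LP (LK LD1_c10 LD2_c11 LD3_c55))))))
theorem f887944 : Led Lsl_at (LP (LK LD1_c24 LD2_c52 LD3_c20)) = (LP (LK LD1_c18 LD2_c34 LD3_c46)) :=
  Lgr Lrot107 (Lpe (K27.f254194 IH) (Lpr_af (f887940 IH) (Lpe (K67.f305858 IH) (Lpn (LP (LK LD1_c18 LD2_c34 LD3_c46))))))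
theorem f887928 : Led Lsl_ft (LP (LK LD1_c18 LD2_c34 LD3_c40)) = (LP (LK LD1_c24 LD2_c52 LD3_c20)) :=
  Lgr Lrot4 (Lpe (K67.f312425 IH) (Lpr_ff (f887924 IH) (Lpe (K27.f254183 IH) (Lpn (LP (LK LD1_c24 LD2_c52 LD3_c20))))))
theorem f312430 : Led Lsl_ct (LP (LK LD1_c18 LD2_c34 LD3_c40)) = (LP (LK LD1_c10 LD2_c11 LD3_c52)) :=
  Lre_c IH (LK LD1_c18 LD2_c34 LD3_c40) (LK LD1_c10 LD2_c11 LD3_c52) Lrfl Lrfl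
theorem f887936 : Led Lsl_af (LP (LK LD1_c18 LD2_c34 LD3_c40)) = (LP (LK LD1_c28 LD2_c8 LD3_c17)) :=
  Lgr Lrot68 (Lpr_ct (f312430 IH) (Lpr_at (f887934 IH) (Lpr_ct (K27.f307229 IH) (Lpn (LP (LK LD1_c28 LD2_c8 LD3_c17))))))
theorem f887950 : Led Lsl_ff (LP (LK LD1_c28 LD2_c8 LD3_c17)) = (LP (LK LD1_c18 LD2_c34 LD3_c46)) :=
  Lgr Lrot30 (Lpe (f887936 IH) (Lpr_ft (f887928 IH) (Lpr_at (f887944 IH) (Lpn (LP (LK LD1_c18 LD2_c34 LD3_c46))))))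
theorem f887952 : Led Lsl_ft (LP (LK LD1_c28 LD2_c51 LD3_c33)) = (LP (LK LD1_c28 LD2_c9 LD3_c7)) :=
  Lgr Lrot54 (Lpr_df (K25.f318008 IH) (Lpr_ff (f887950 IH) (Lpe (K22.f305854 IH) (Lpn (LP (LK LD1_c28 LD2_c9 LD3_c7))))))
theorem f887954 : Led Lsl_ff (LP (LK LD1_c28 LD2_c51 LD3_c33)) = (LP (LK LD1_c28 LD2_c9 LD3_c7)) :=
  Lgr Lrot3 (Lpr_ft (f887952 IH) (Lpn (LP (LK LD1_c28 LD2_c9 LD3_c7))))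
theorem f340001 : Led Lsl_ct (LP (LK LD1_c11 LD2_c5 LD3_c19)) = (LP (LK LD1_c5 LD2_c36 LD3_c35)) :=
  Lre_c IH (LK LD1_c11 LD2_c5 LD3_c19) (LK LD1_c5 LD2_c36 LD3_c35) Lrfl Lrfl
theorem f312427 : Led Lsl_dt (LP (LK LD1_c28 LD2_c9 LD3_c3)) = (LP (LK LD1_c18 LD2_c34 LD3_c40)) :=
  Lre_d IH (LK LD1_c28 LD2_c9 LD3_c3) (LK LD1_c18 LD2_c34 LD3_c40) Lrfl Lrfl
theorem f340002 : Led Lsl_gf (LP (LK LD1_c28 LD2_c9 LD3_c3)) = (LP (LK LD1_c24 LD2_c49 LD3_c38)) :=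
  Lgr Lrot143 (Lpr_dt (f312427 IH) (Lpe (K67.f312425 IH) (Lpe (K25.f254278 IH) (Lpe (K19.f253634 IH) (Lpr_df (K15.f253620 IH) (Lpe (K27.f183156 IH) (Lpe (f340001 IH) (Lpr_gt (K23.f339991 IH) (Lpr_dt (K22.f303299 IH) (Lpn (LP (LK LD1_c24 LD2_c49 LD3_c38))))))))))))
theorem f887956 : Led Lsl_at (LP (LK LD1_c28 LD2_c51 LD3_c33)) = (LP (LK LD1_c28 LD2_c9 LD3_c3)) :=
  Lgr Lrot26 (Lpr_ff (f887954 IH) (Lpe (K22.f323945 IH) (Lpe (f340002 IH) (Lpn (LP (LK LD1_c28 LD2_c9 LD3_c3))))))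
theorem f887960 : Led Lsl_af (LP (LK LD1_c28 LD2_c8 LD3_c17)) = (LP (LK LD1_c18 LD2_c34 LD3_c40)) :=
  Lgr Lrot117 (Lpe (K25.f318008 IH) (Lpr_at (f887956 IH) (Lpr_dt (f312427 IH) (Lpn (LP (LK LD1_c18 LD2_c34 LD3_c40))))))
theorem f266686 : Led Lsl_et (LP (LK LD1_c15 LD2_c27 LD3_c61)) = (LP (LK LD1_c8 LD2_c13 LD3_c21)) :=
  Lre_e IH (LK LD1_c15 LD2_c27 LD3_c61) (LK LD1_c8 LD2_c13 LD3_c21) Lrfl Lrfl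
theorem f266687 : Led Lsl_dt (LP (LK LD1_c15 LD2_c27 LD3_c61)) = (LP (LK LD1_c25 LD2_c19 LD3_c51)) :=
  Lre_d IH (LK LD1_c15 LD2_c27 LD3_c61) (LK LD1_c25 LD2_c19 LD3_c51) Lrfl Lrfl
theorem f347276 : Led Lsl_dt (LP (LK LD1_c27 LD2_c29 LD3_c33)) = (LP (LK LD1_c17 LD2_c42 LD3_c12)) :=
  Lre_d IH (LK LD1_c27 LD2_c29 LD3_c33) (LK LD1_c17 LD2_c42 LD3_c12) Lrfl Lrfl
theorem f347318 : Led Lsl_gf (LP (LK LD1_c27 LD2_c29 LD3_c33)) = (LP (LK LD1_c25 LD2_c19 LD3_c51)) :=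
  Lgr Lrot143 (Lpr_dt (f347276 IH) (Lpe (K27.f326858 IH) (Lpe (K26.f222109 IH) (Lpe (K18.f222108 IH) (Lpe (K18.f301635 IH) (Lpr_gf (K23.f347272 IH) (Lpe (K19.f301290 IH) (Lpr_gt (K23.f347312 IH) (Lpr_dt (f266687 IH) (Lpn (LP (LK LD1_c25 LD2_c19 LD3_c51))))))))))))
theorem f347323 : Led Lsl_dt (LP (LK LD1_c17 LD2_c42 LD3_c12)) = (LP (LK LD1_c27 LD2_c29 LD3_c33)) :=
  Lre_d IH (LK LD1_c17 LD2_c42 LD3_c12) (LK LD1_c27 LD2_c29 LD3_c33) Lrfl Lrfl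
theorem f379060 : Led Lsl_ef (LP (LK LD1_c18 LD2_c34 LD3_c40)) = (LP (LK LD1_c17 LD2_c42 LD3_c12)) :=
  Lgr Lrot167 (Lpr_gt (K67.f359129 IH) (Lpe (K67.f266682 IH) (Lpr_gt (K67.f248032 IH) (Lpe (K27.f248021 IH) (Lpr_et (K27.f266680 IH) (Lpr_gt (K15.f266671 IH) (Lpe (f266686 IH) (Lpr_dt (f266687 IH) (Lpe (f347318 IH) (Lpe (f347323 IH) (Lpn (LP (LK LD1_c17 LD2_c42 LD3_c12)))))))))))))
theorem f887962 : Led Lsl_at (LP (LK LD1_c27 LD2_c29 LD3_c16)) = (LP (LK LD1_c17 LD2_c42 LD3_c12)) :=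
  Lgr Lrot80 (Lpr_ef (K68.f307380 IH) (Lpr_af (f887960 IH) (Lpr_ef (f379060 IH) (Lpn (LP (LK LD1_c17 LD2_c42 LD3_c12))))))
theorem f887851 : Led Lsl_ft (LP (LK LD1_c17 LD2_c42 LD3_c17)) = (LP (LK LD1_c27 LD2_c29 LD3_c16)) :=
  Lgr Lrot4 (Lpe (K26.f320322 IH) (Lpr_ff (f887847 IH) (Lpe (K68.f301287 IH) (Lpn (LP (LK LD1_c27 LD2_c29 LD3_c16))))))
theorem f320320 : Led Lsl_ct (LP (LK LD1_c17 LD2_c42 LD3_c17)) = (LP (LK LD1_c9 LD2_c36 LD3_c52)) :=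
  Lre_c IH (LK LD1_c17 LD2_c42 LD3_c17) (LK LD1_c9 LD2_c36 LD3_c52) Lrfl Lrfl
theorem f301266 : Led Lsl_ct (LP (LK LD1_c15 LD2_c29 LD3_c35)) = (LP (LK LD1_c25 LD2_c22 LD3_c44)) :=
  Lre_c IH (LK LD1_c15 LD2_c29 LD3_c35) (LK LD1_c25 LD2_c22 LD3_c44) Lrfl Lrfl
theorem f887859 : Led Lsl_af (LP (LK LD1_c17 LD2_c42 LD3_c17)) = (LP (LK LD1_c25 LD2_c22 LD3_c44)) :=
  Lgr Lrot68 (Lpr_ct (f320320 IH) (Lpr_at (f887855 IH) (Lpr_ct (f301266 IH) (Lpn (LP (LK LD1_c25 LD2_c22 LD3_c44))))))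
theorem f887972 : Led Lsl_ff (LP (LK LD1_c25 LD2_c22 LD3_c44)) = (LP (LK LD1_c17 LD2_c42 LD3_c12)) :=
  Lgr Lrot30 (Lpe (f887859 IH) (Lpr_ft (f887851 IH) (Lpr_at (f887962 IH) (Lpn (LP (LK LD1_c17 LD2_c42 LD3_c12))))))
theorem f887980 : Led Lsl_ft (LP (LK LD1_c25 LD2_c22 LD3_c44)) = (LP (LK LD1_c17 LD2_c42 LD3_c12)) :=
  Lgr Lrot48 (Lpr_ff (f887972 IH) (Lpn (LP (LK LD1_c17 LD2_c42 LD3_c12))))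
theorem f345755 : Led Lsl_et (LP (LK LD1_c15 LD2_c29 LD3_c33)) = (LP (LK LD1_c25 LD2_c22 LD3_c44)) :=
  Lre_e IH (LK LD1_c15 LD2_c29 LD3_c33) (LK LD1_c25 LD2_c22 LD3_c44) Lrfl Lrfl
theorem f324017 : Led Lsl_et (LP (LK LD1_c24 LD2_c52 LD3_c20)) = (LP (LK LD1_c15 LD2_c3 LD3_c11)) :=
  Lre_e IH (LK LD1_c24 LD2_c52 LD3_c20) (LK LD1_c15 LD2_c3 LD3_c11) Lrfl Lrfl
theorem f887984 : Led Lsl_ff (LP (LK LD1_c15 LD2_c29 LD3_c33)) = (LP (LK LD1_c15 LD2_c3 LD3_c11)) :=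
  Lgr Lrot72 (Lpr_et (f345755 IH) (Lpr_ft (f887980 IH) (Lpe (f379060 IH) (Lpr_ft (f887928 IH) (Lpr_et (f324017 IH) (Lpn (LP (LK LD1_c15 LD2_c3 LD3_c11))))))))
theorem f309848 : Led Lsl_ct (LP (LK LD1_c5 LD2_c25 LD3_c40)) = (LP (LK LD1_c10 LD2_c42 LD3_c35)) :=
  Lre_c IH (LK LD1_c5 LD2_c25 LD3_c40) (LK LD1_c10 LD2_c42 LD3_c35) Lrfl Lrfl
theorem f309849 : Led Lsl_bt (LP (LK LD1_c10 LD2_c42 LD3_c34)) = (LP (LK LD1_c5 LD2_c25 LD3_c40)) :=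
  Lre_b IH (LK LD1_c10 LD2_c42 LD3_c34) (LK LD1_c5 LD2_c25 LD3_c40) Lrfl Lrfl
theorem f309850 : Led Lsl_ct (LP (LK LD1_c19 LD2_c23 LD3_c19)) = (LP (LK LD1_c10 LD2_c42 LD3_c34)) :=
  Lre_c IH (LK LD1_c19 LD2_c23 LD3_c19) (LK LD1_c10 LD2_c42 LD3_c34) Lrfl Lrfl
theorem f309851 : Led Lsl_bt (LP (LK LD1_c15 LD2_c29 LD3_c33)) = (LP (LK LD1_c19 LD2_c23 LD3_c19)) :=
  Lgr Lrot128 (Lpe (K21.f47896 IH) (Lpr_bf (K19.f309834 IH) (Lpe (f309848 IH) (Lpe (f309849 IH) (Lpe (f309850 IH) (Lpn (LP (LK LD1_c19 LD2_c23 LD3_c19))))))))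
theorem f320511 : Led Lsl_bt (LP (LK LD1_c24 LD2_c52 LD3_c19)) = (LP (LK LD1_c15 LD2_c3 LD3_c11)) :=
  Lre_b IH (LK LD1_c24 LD2_c52 LD3_c19) (LK LD1_c15 LD2_c3 LD3_c11) Lrfl Lrfl
theorem f887986 : Led Lsl_ft (LP (LK LD1_c19 LD2_c23 LD3_c19)) = (LP (LK LD1_c24 LD2_c52 LD3_c19)) :=
  Lgr Lrot75 (Lpe (f309851 IH) (Lpr_ff (f887984 IH) (Lpe (f320511 IH) (Lpn (LP (LK LD1_c24 LD2_c52 LD3_c19))))))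
theorem f888009 : Led Lsl_ff (LP (LK LD1_c19 LD2_c23 LD3_c19)) = (LP (LK LD1_c24 LD2_c52 LD3_c19)) :=
  Lgr Lrot3 (Lpr_ft (f887986 IH) (Lpn (LP (LK LD1_c24 LD2_c52 LD3_c19))))
theorem f54987 : Led Lsl_ct (LP (LK LD1_c15 LD2_c3 LD3_c11)) = (LP (LK LD1_c7 LD2_c58 LD3_c42)) :=
  Lre_c IH (LK LD1_c15 LD2_c3 LD3_c11) (LK LD1_c7 LD2_c58 LD3_c42) Lrfl Lrfl
theorem f320512 : Led Lsl_bt (LP (LK LD1_c10 LD2_c32 LD3_c23)) = (LP (LK LD1_c19 LD2_c5 LD3_c28)) :=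
  Lre_b IH (LK LD1_c10 LD2_c32 LD3_c23) (LK LD1_c19 LD2_c5 LD3_c28) Lrfl Lrfl
theorem f320513 : Led Lsl_cf (LP (LK LD1_c24 LD2_c52 LD3_c19)) = (LP (LK LD1_c19 LD2_c5 LD3_c28)) :=
  Lgr Lrot97 (Lpr_bt (f320511 IH) (Lpr_ct (f54987 IH) (Lpr_bt (K22.f320510 IH) (Lpr_ct (K20.f320508 IH) (Lpr_bt (f320512 IH) (Lpn (LP (LK LD1_c19 LD2_c5 LD3_c28))))))))
theorem f888011 : Led Lsl_ft (LP (LK LD1_c10 LD2_c42 LD3_c34)) = (LP (LK LD1_c19 LD2_c5 LD3_c28)) :=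
  Lgr Lrot4 (Lpe (f309850 IH) (Lpr_ff (f888009 IH) (Lpr_cf (f320513 IH) (Lpn (LP (LK LD1_c19 LD2_c5 LD3_c28))))))
theorem f310396 : Led Lsl_bt (LP (LK LD1_c5 LD2_c25 LD3_c40)) = (LP (LK LD1_c10 LD2_c42 LD3_c34)) :=
  Lre_b IH (LK LD1_c5 LD2_c25 LD3_c40) (LK LD1_c10 LD2_c42 LD3_c34) Lrfl Lrfl
def v14806 : LQ := Led Lsl_at (LP (LK LD1_c5 LD2_c25 LD3_c39))
theorem f726716 : Led Lsl_at (LP (LK LD1_c5 LD2_c25 LD3_c39)) = v14806 :=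
  Lrfl
theorem f726717 : Led Lsl_af (LP (LK LD1_c5 LD2_c25 LD3_c39)) = v14806 :=
  Lgr Lrot0 (Lpr_at (f726716 IH) (Lpn v14806))
theorem f726718 : Led Lsl_ft (LP (LK LD1_c5 LD2_c25 LD3_c40)) = v14806 :=
  Lgr Lrot2 (Lpr_gt (K19.f221770 IH) (Lpr_gt (K22.f221674 IH) (Lpr_af (f726717 IH) (Lpn v14806))))
theorem f726719 : Led Lsl_ff (LP (LK LD1_c5 LD2_c25 LD3_c40)) = v14806 :=
  Lgr Lrot3 (Lpr_ft (f726718 IH) (Lpn v14806))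
theorem f402517 : Led Lsl_bt (LP (LK LD1_c19 LD2_c5 LD3_c28)) = (LP (LK LD1_c10 LD2_c32 LD3_c23)) :=
  Lre_b IH (LK LD1_c19 LD2_c5 LD3_c28) (LK LD1_c10 LD2_c32 LD3_c23) Lrfl Lrfl
theorem f888014 : v14806 = (LP (LK LD1_c10 LD2_c32 LD3_c23)) :=
  (Llr Lrot25 (Lpe (f726719 IH) (Lpr_bt (f310396 IH) (Lpr_ft (f888011 IH) (Lpr_bt (f402517 IH) (Lpn (LP (LK LD1_c10 LD2_c32 LD3_c23)))))))).symm
theorem f320515 : Led Lsl_cf (LP (LK LD1_c15 LD2_c3 LD3_c10)) = (LP (LK LD1_c10 LD2_c32 LD3_c23)) :=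
  Lgr Lrot11 (Lpr_ct (K20.f320508 IH) (Lpn (LP (LK LD1_c10 LD2_c32 LD3_c23))))
theorem f888019 : Led Lsl_ff (LP (LK LD1_c10 LD2_c42 LD3_c35)) = (LP (LK LD1_c15 LD2_c3 LD3_c10)) :=
  Lgr Lrot23 (Lpr_ct (K19.f309833 IH) (Lpr_ft (f726718 IH) (Lpqs (f888014 IH) (Lpe (f320515 IH) (Lpn (LP (LK LD1_c15 LD2_c3 LD3_c10)))))))
theorem f888027 : Led Lsl_at (LP (LK LD1_c10 LD2_c42 LD3_c35)) = (LP (LK LD1_c17 LD2_c35 LD3_c52)) :=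
  Lgr Lrot26 (Lpr_ff (f888019 IH) (Lpr_gt (K22.f329866 IH) (Lpr_gt (K20.f27575 IH) (Lpn (LP (LK LD1_c17 LD2_c35 LD3_c52))))))
def v14807 : LQ := Led Lsl_ft (LP (LK LD1_c5 LD2_c25 LD3_c39))
theorem f726720 : Led Lsl_ft (LP (LK LD1_c5 LD2_c25 LD3_c39)) = v14807 :=
  Lrfl
theorem f726721 : Led Lsl_af (LP (LK LD1_c5 LD2_c25 LD3_c40)) = v14807 :=
  Lgr Lrot45 (Lpr_ft (f726718 IH) (Lpe (f726717 IH) (Lpr_ft (f726720 IH) (Lpn v14807))))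
theorem f888037 : v14807 = (LP (LK LD1_c10 LD2_c32 LD3_c24)) :=
  (Llr Lrot68 (Lpe (f726721 IH) (Lpr_ct (f309848 IH) (Lpr_at (f888027 IH) (Lpr_ct (K21.f310406 IH) (Lpn (LP (LK LD1_c10 LD2_c32 LD3_c24)))))))).symm
theorem f310409 : Led Lsl_cf (LP (LK LD1_c17 LD2_c35 LD3_c52)) = (LP (LK LD1_c10 LD2_c32 LD3_c24)) :=
  Lgr Lrot11 (Lpr_ct (K21.f310406 IH) (Lpn (LP (LK LD1_c10 LD2_c32 LD3_c24))))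
theorem f888044 : Led Lsl_ff (LP (LK LD1_c10 LD2_c42 LD3_c31)) = (LP (LK LD1_c17 LD2_c35 LD3_c52)) :=
  Lgr Lrot23 (Lpr_ct (K22.f41508 IH) (Lpr_ft (f726720 IH) (Lpqs (f888037 IH) (Lpe (f310409 IH) (Lpn (LP (LK LD1_c17 LD2_c35 LD3_c52)))))))
theorem f888052 : Led Lsl_ft (LP (LK LD1_c10 LD2_c42 LD3_c31)) = (LP (LK LD1_c17 LD2_c35 LD3_c52)) :=
  Lgr Lrot48 (Lpr_ff (f888044 IH) (Lpn (LP (LK LD1_c17 LD2_c35 LD3_c52))))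
theorem f888058 : Led Lsl_ff (LP (LK LD1_c19 LD2_c23 LD3_c16)) = (LP (LK LD1_c20 LD2_c2 LD3_c29)) :=
  Lgr Lrot19 (Lpr_dt (K25.f337697 IH) (Lpr_ft (f888052 IH) (Lpe (K26.f264050 IH) (Lpn (LP (LK LD1_c20 LD2_c2 LD3_c29))))))
theorem f337770 : Led Lsl_bt (LP (LK LD1_c19 LD2_c23 LD3_c16)) = (LP (LK LD1_c18 LD2_c52 LD3_c59)) :=
  Lgr Lrot127 (Lpr_bf (K25.f337698 IH) (Lpn (LP (LK LD1_c18 LD2_c52 LD3_c59))))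
theorem f888060 : Led Lsl_ft (LP (LK LD1_c18 LD2_c52 LD3_c59)) = (LP (LK LD1_c19 LD2_c53 LD3_c50)) :=
  Lgr Lrot75 (Lpe (f337770 IH) (Lpr_ff (f888058 IH) (Lpr_bf (K54.f340984 IH) (Lpn (LP (LK LD1_c19 LD2_c53 LD3_c50))))))
theorem f222478 : Led Lsl_cf (LP (LK LD1_c8 LD2_c17 LD3_c8)) = (LP (LK LD1_c8 LD2_c57 LD3_c0)) :=
  Lgr Lrot39 (Lpr_et (K15.f222456 IH) (Lpr_ct (K12.f222471 IH) (Lpr_et (K23.f222477 IH) (Lpn (LP (LK LD1_c8 LD2_c57 LD3_c0))))))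
theorem f324099 : Led Lsl_dt (LP (LK LD1_c16 LD2_c45 LD3_c26)) = (LP (LK LD1_c8 LD2_c57 LD3_c0)) :=
  Lre_d IH (LK LD1_c16 LD2_c45 LD3_c26) (LK LD1_c8 LD2_c57 LD3_c0) Lrfl Lrfl
theorem f181859 : Led Lsl_ct (LP (LK LD1_c5 LD2_c28 LD3_c36)) = (LP (LK LD1_c10 LD2_c48 LD3_c17)) :=
  Lre_c IH (LK LD1_c5 LD2_c28 LD3_c36) (LK LD1_c10 LD2_c48 LD3_c17) Lrfl Lrfl
theorem f340635 : Led Lsl_gt (LP (LK LD1_c5 LD2_c29 LD3_c59)) = (LP (LK LD1_c10 LD2_c48 LD3_c17)) :=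
  Lgr Lrot149 (Lpr_cf (K21.f222287 IH) (Lpe (K26.f189433 IH) (Lpr_bf (K27.f340628 IH) (Lpe (K19.f298406 IH) (Lpe (K19.f276903 IH) (Lpe (K16.f267671 IH) (Lpr_bt (K21.f267670 IH) (Lpe (K15.f267664 IH) (Lpe (K21.f167677 IH) (Lpr_ct (f181859 IH) (Lpn (LP (LK LD1_c10 LD2_c48 LD3_c17)))))))))))))
theorem f222484 : Led Lsl_et (LP (LK LD1_c8 LD2_c57 LD3_c0)) = (LP (LK LD1_c4 LD2_c29 LD3_c24)) :=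
  Lre_e IH (LK LD1_c8 LD2_c57 LD3_c0) (LK LD1_c4 LD2_c29 LD3_c24) Lrfl Lrfl
theorem f234325 : Led Lsl_dt (LP (LK LD1_c8 LD2_c57 LD3_c0)) = (LP (LK LD1_c16 LD2_c45 LD3_c26)) :=
  Lre_d IH (LK LD1_c8 LD2_c57 LD3_c0) (LK LD1_c16 LD2_c45 LD3_c26) Lrfl Lrfl
theorem f167675 : Led Lsl_bt (LP (LK LD1_c5 LD2_c28 LD3_c37)) = (LP (LK LD1_c10 LD2_c48 LD3_c18)) :=
  Lre_b IH (LK LD1_c5 LD2_c28 LD3_c37) (LK LD1_c10 LD2_c48 LD3_c18) Lrfl Lrfl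
theorem f181828 : Led Lsl_bt (LP (LK LD1_c11 LD2_c2 LD3_c30)) = (LP (LK LD1_c5 LD2_c35 LD3_c10)) :=
  Lre_b IH (LK LD1_c11 LD2_c2 LD3_c30) (LK LD1_c5 LD2_c35 LD3_c10) Lrfl Lrfl
theorem f181829 : Led Lsl_et (LP (LK LD1_c10 LD2_c48 LD3_c18)) = (LP (LK LD1_c11 LD2_c2 LD3_c30)) :=
  Lgr Lrot74 (Lpe (f167675 IH) (Lpr_ef (K19.f181818 IH) (Lpe (f181828 IH) (Lpn (LP (LK LD1_c11 LD2_c2 LD3_c30))))))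
theorem f181836 : Led Lsl_ef (LP (LK LD1_c10 LD2_c48 LD3_c18)) = (LP (LK LD1_c11 LD2_c2 LD3_c30)) :=
  Lgr Lrot88 (Lpr_et (f181829 IH) (Lpn (LP (LK LD1_c11 LD2_c2 LD3_c30))))
theorem f181840 : Led Lsl_ct (LP (LK LD1_c10 LD2_c48 LD3_c18)) = (LP (LK LD1_c19 LD2_c32 LD3_c27)) :=
  Lre_c IH (LK LD1_c10 LD2_c48 LD3_c18) (LK LD1_c19 LD2_c32 LD3_c27) Lrfl Lrfl
theorem f181841 : Led Lsl_ct (LP (LK LD1_c19 LD2_c53 LD3_c46)) = (LP (LK LD1_c11 LD2_c2 LD3_c30)) :=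
  Lre_c IH (LK LD1_c19 LD2_c53 LD3_c46) (LK LD1_c11 LD2_c2 LD3_c30) Lrfl Lrfl
theorem f181842 : Led Lsl_et (LP (LK LD1_c19 LD2_c32 LD3_c27)) = (LP (LK LD1_c19 LD2_c53 LD3_c46)) :=
  Lgr Lrot158 (Lpe (f181840 IH) (Lpr_ef (f181836 IH) (Lpe (f181841 IH) (Lpn (LP (LK LD1_c19 LD2_c53 LD3_c46))))))
theorem f181844 : Led Lsl_bt (LP (LK LD1_c10 LD2_c48 LD3_c17)) = (LP (LK LD1_c19 LD2_c32 LD3_c27)) :=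
  Lre_b IH (LK LD1_c10 LD2_c48 LD3_c17) (LK LD1_c19 LD2_c32 LD3_c27) Lrfl Lrfl
theorem f181845 : Led Lsl_bt (LP (LK LD1_c19 LD2_c53 LD3_c46)) = (LP (LK LD1_c11 LD2_c2 LD3_c27)) :=
  Lre_b IH (LK LD1_c19 LD2_c53 LD3_c46) (LK LD1_c11 LD2_c2 LD3_c27) Lrfl Lrfl
theorem f181846 : Led Lsl_ef (LP (LK LD1_c10 LD2_c48 LD3_c17)) = (LP (LK LD1_c11 LD2_c2 LD3_c27)) :=
  Lgr Lrot29 (Lpr_bt (f181844 IH) (Lpr_et (f181842 IH) (Lpr_bt (f181845 IH) (Lpn (LP (LK LD1_c11 LD2_c2 LD3_c27))))))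
theorem f181856 : Led Lsl_dt (LP (LK LD1_c11 LD2_c2 LD3_c27)) = (LP (LK LD1_c19 LD2_c53 LD3_c47)) :=
  Lre_d IH (LK LD1_c11 LD2_c2 LD3_c27) (LK LD1_c19 LD2_c53 LD3_c47) Lrfl Lrfl
theorem f340650 : Led Lsl_gf (LP (LK LD1_c16 LD2_c45 LD3_c26)) = (LP (LK LD1_c19 LD2_c53 LD3_c47)) :=
  Lgr Lrot145 (Lpe (f234325 IH) (Lpr_et (f222484 IH) (Lpe (K15.f258675 IH) (Lpr_dt (K15.f213161 IH) (Lpe (K45.f258608 IH) (Lpe (K14.f222279 IH) (Lpr_et (K21.f222280 IH) (Lpr_gt (f340635 IH) (Lpr_ef (f181846 IH) (Lpr_dt (f181856 IH) (Lpn (LP (LK LD1_c19 LD2_c53 LD3_c47)))))))))))))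
theorem f181862 : Led Lsl_gt (LP (LK LD1_c19 LD2_c53 LD3_c45)) = (LP (LK LD1_c11 LD2_c2 LD3_c27)) :=
  Lre_g IH (LK LD1_c19 LD2_c53 LD3_c45) (LK LD1_c11 LD2_c2 LD3_c27) Lrfl Lrfl
theorem f360516 : Led Lsl_cf (LP (LK LD1_c19 LD2_c53 LD3_c45)) = (LP (LK LD1_c18 LD2_c52 LD3_c29)) :=
  Lgr Lrot166 (Lpr_gt (f181862 IH) (Lpr_dt (f181856 IH) (Lpe (f340650 IH) (Lpr_dt (f324099 IH) (Lpe (f222478 IH) (Lpe (K15.f222454 IH) (Lpr_gf (K23.f222466 IH) (Lpe (K25.f32947 IH) (Lpr_gf (K26.f360512 IH) (Lpn (LP (LK LD1_c18 LD2_c52 LD3_c29))))))))))))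
theorem f181860 : Led Lsl_ct (LP (LK LD1_c11 LD2_c2 LD3_c27)) = (LP (LK LD1_c5 LD2_c35 LD3_c6)) :=
  Lre_c IH (LK LD1_c11 LD2_c2 LD3_c27) (LK LD1_c5 LD2_c35 LD3_c6) Lrfl Lrfl
theorem f7624 : Led Lsl_ct (LP (LK LD1_c5 LD2_c35 LD3_c5)) = (LP (LK LD1_c2 LD2_c43 LD3_c27)) :=
  Lre_c IH (LK LD1_c5 LD2_c35 LD3_c5) (LK LD1_c2 LD2_c43 LD3_c27) Lrfl Lrfl
theorem f360527 : Led Lsl_gt (LP (LK LD1_c18 LD2_c52 LD3_c59)) = (LP (LK LD1_c18 LD2_c52 LD3_c29)) :=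
  Lgr Lrot9 (Lpe (K23.f189684 IH) (Lpr_gt (K15.f32942 IH) (Lpr_ct (K16.f32939 IH) (Lpe (K23.f337704 IH) (Lpr_ct (f7624 IH) (Lpe (K21.f181866 IH) (Lpe (f181860 IH) (Lpe (f181862 IH) (Lpr_cf (f360516 IH) (Lpn (LP (LK LD1_c18 LD2_c52 LD3_c29))))))))))))
theorem f888070 : Led Lsl_af (LP (LK LD1_c18 LD2_c52 LD3_c58)) = (LP (LK LD1_c19 LD2_c53 LD3_c50)) :=
  Lgr Lrot31 (Lpr_gf (K26.f360512 IH) (Lpe (f360527 IH) (Lpr_ft (f888060 IH) (Lpn (LP (LK LD1_c19 LD2_c53 LD3_c50))))))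
theorem f888078 : Led Lsl_at (LP (LK LD1_c11 LD2_c2 LD3_c56)) = (LP (LK LD1_c15 LD2_c34 LD3_c55)) :=
  Lgr Lrot80 (Lpe (K25.f344800 IH) (Lpr_af (f888070 IH) (Lpr_ef (K20.f246716 IH) (Lpn (LP (LK LD1_c15 LD2_c34 LD3_c55))))))
theorem f888086 : Led Lsl_ff (LP (LK LD1_c11 LD2_c2 LD3_c56)) = (LP (LK LD1_c15 LD2_c34 LD3_c56)) :=
  Lgr Lrot52 (Lpr_at (f888078 IH) (Lpe (K19.f232197 IH) (Lpe (K24.f232195 IH) (Lpn (LP (LK LD1_c15 LD2_c34 LD3_c56))))))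
theorem f888094 : Led Lsl_ft (LP (LK LD1_c11 LD2_c2 LD3_c56)) = (LP (LK LD1_c15 LD2_c34 LD3_c56)) :=
  Lgr Lrot48 (Lpr_ff (f888086 IH) (Lpn (LP (LK LD1_c15 LD2_c34 LD3_c56))))
theorem f348282 : Led Lsl_cf (LP (LK LD1_c11 LD2_c2 LD3_c56)) = (LP (LK LD1_c16 LD2_c42 LD3_c50)) :=
  Lgr Lrot11 (Lpr_ct (K25.f348277 IH) (Lpn (LP (LK LD1_c16 LD2_c42 LD3_c50))))
theorem f888098 : Led Lsl_ff (LP (LK LD1_c16 LD2_c42 LD3_c50)) = (LP (LK LD1_c10 LD2_c50 LD3_c56)) :=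
  Lgr Lrot23 (Lpe (f348282 IH) (Lpr_ft (f888094 IH) (Lpr_ct (K24.f336689 IH) (Lpn (LP (LK LD1_c10 LD2_c50 LD3_c56))))))
theorem f888102 : Led Lsl_at (LP (LK LD1_c16 LD2_c42 LD3_c50)) = (LP (LK LD1_c10 LD2_c50 LD3_c55)) :=
  Lgr Lrot26 (Lpr_ff (f888098 IH) (Lpr_gt (K24.f220714 IH) (Lpr_gt (K20.f220720 IH) (Lpn (LP (LK LD1_c10 LD2_c50 LD3_c55))))))
theorem f262051 : Led Lsl_et (LP (LK LD1_c26 LD2_c41 LD3_c37)) = (LP (LK LD1_c16 LD2_c42 LD3_c50)) :=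
  Lre_e IH (LK LD1_c26 LD2_c41 LD3_c37) (LK LD1_c16 LD2_c42 LD3_c50) Lrfl Lrfl
theorem f888104 : Led Lsl_af (LP (LK LD1_c26 LD2_c41 LD3_c37)) = (LP (LK LD1_c19 LD2_c36 LD3_c39)) :=
  Lgr Lrot50 (Lpr_et (f262051 IH) (Lpr_at (f888102 IH) (Lpr_et (K20.f250924 IH) (Lpn (LP (LK LD1_c19 LD2_c36 LD3_c39))))))
theorem f888108 : Led Lsl_ft (LP (LK LD1_c26 LD2_c42 LD3_c15)) = (LP (LK LD1_c19 LD2_c36 LD3_c39)) :=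
  Lgr Lrot2 (Lpe (K25.f352280 IH) (Lpr_gt (K25.f348293 IH) (Lpr_af (f888104 IH) (Lpn (LP (LK LD1_c19 LD2_c36 LD3_c39))))))
theorem f888110 : Led Lsl_ff (LP (LK LD1_c19 LD2_c34 LD3_c59)) = (LP (LK LD1_c25 LD2_c5 LD3_c56)) :=
  Lgr Lrot19 (Lpr_dt (K26.f337817 IH) (Lpr_ft (f888108 IH) (Lpr_dt (K20.f250920 IH) (Lpn (LP (LK LD1_c25 LD2_c5 LD3_c56))))))
theorem f888114 : Led Lsl_at (LP (LK LD1_c19 LD2_c34 LD3_c59)) = (LP (LK LD1_c25 LD2_c5 LD3_c55)) :=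
  Lgr Lrot26 (Lpr_ff (f888110 IH) (Lpr_gt (K20.f28094 IH) (Lpr_gt (K23.f50237 IH) (Lpn (LP (LK LD1_c25 LD2_c5 LD3_c55))))))
theorem f888106 : Led Lsl_at (LP (LK LD1_c19 LD2_c34 LD3_c60)) = (LP (LK LD1_c25 LD2_c5 LD3_c56)) :=
  Lgr Lrot51 (Lpr_df (K25.f348291 IH) (Lpr_af (f888104 IH) (Lpr_df (K20.f250922 IH) (Lpn (LP (LK LD1_c25 LD2_c5 LD3_c56))))))
theorem f888120 : Led Lsl_ff (LP (LK LD1_c19 LD2_c34 LD3_c60)) = (LP (LK LD1_c25 LD2_c5 LD3_c55)) :=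
  Lgr Lrot30 (Lpr_at (f888106 IH) (Lpe (f888110 IH) (Lpr_at (f888114 IH) (Lpn (LP (LK LD1_c25 LD2_c5 LD3_c55))))))
theorem f888124 : Led Lsl_ft (LP (LK LD1_c19 LD2_c34 LD3_c60)) = (LP (LK LD1_c25 LD2_c5 LD3_c55)) :=
  Lgr Lrot48 (Lpr_ff (f888120 IH) (Lpn (LP (LK LD1_c25 LD2_c5 LD3_c55))))
theorem f888128 : Led Lsl_ff (LP (LK LD1_c26 LD2_c41 LD3_c37)) = (LP (LK LD1_c28 LD2_c53 LD3_c49)) :=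
  Lgr Lrot19 (Lpe (K25.f348291 IH) (Lpr_ft (f888124 IH) (Lpr_dt (K23.f340914 IH) (Lpn (LP (LK LD1_c28 LD2_c53 LD3_c49))))))
theorem f336692 : Led Lsl_cf (LP (LK LD1_c15 LD2_c34 LD3_c56)) = (LP (LK LD1_c10 LD2_c50 LD3_c56)) :=
  Lgr Lrot11 (Lpr_ct (K24.f336689 IH) (Lpn (LP (LK LD1_c10 LD2_c50 LD3_c56))))
theorem f888090 : Led Lsl_ft (LP (LK LD1_c16 LD2_c42 LD3_c50)) = (LP (LK LD1_c10 LD2_c50 LD3_c56)) :=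
  Lgr Lrot4 (Lpe (K25.f348277 IH) (Lpr_ff (f888086 IH) (Lpr_cf (f336692 IH) (Lpn (LP (LK LD1_c10 LD2_c50 LD3_c56))))))
theorem f359020 : Led Lsl_et (LP (LK LD1_c18 LD2_c46 LD3_c28)) = (LP (LK LD1_c10 LD2_c50 LD3_c56)) :=
  Lgr Lrot158 (Lpe (K26.f358781 IH) (Lpr_ef (K26.f359018 IH) (Lpr_cf (f336692 IH) (Lpn (LP (LK LD1_c10 LD2_c50 LD3_c56))))))
theorem f359038 : Led Lsl_ef (LP (LK LD1_c18 LD2_c46 LD3_c28)) = (LP (LK LD1_c10 LD2_c50 LD3_c56)) :=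
  Lgr Lrot88 (Lpr_et (f359020 IH) (Lpn (LP (LK LD1_c10 LD2_c50 LD3_c56))))
theorem f49346 : Led Lsl_et (LP (LK LD1_c8 LD2_c16 LD3_c21)) = (LP (LK LD1_c4 LD2_c8 LD3_c6)) :=
  Lre_e IH (LK LD1_c8 LD2_c16 LD3_c21) (LK LD1_c4 LD2_c8 LD3_c6) Lrfl Lrfl
theorem f340917 : Led Lsl_ef (LP (LK LD1_c19 LD2_c31 LD3_c28)) = (LP (LK LD1_c28 LD2_c53 LD3_c49)) :=
  Lgr Lrot17 (Lpe (K67.f191342 IH) (Lpe (K67.f191341 IH) (Lpr_dt (K67.f191340 IH) (Lpe (K67.f191313 IH) (Lpe (K26.f53483 IH) (Lpr_gf (K11.f53481 IH) (Lpe (f49346 IH) (Lpr_dt (K20.f50098 IH) (Lpe (K23.f50238 IH) (Lpr_df (K23.f340826 IH) (Lpn (LP (LK LD1_c28 LD2_c53 LD3_c49)))))))))))))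
theorem f340922 : Led Lsl_et (LP (LK LD1_c19 LD2_c31 LD3_c28)) = (LP (LK LD1_c28 LD2_c53 LD3_c49)) :=
  Lgr Lrot87 (Lpr_ef (f340917 IH) (Lpn (LP (LK LD1_c28 LD2_c53 LD3_c49))))
theorem f888134 : Led Lsl_ft (LP (LK LD1_c18 LD2_c46 LD3_c28)) = (LP (LK LD1_c19 LD2_c31 LD3_c28)) :=
  Lgr Lrot86 (Lpr_ef (f359038 IH) (Lpe (f888090 IH) (Lpe (f262051 IH) (Lpr_ff (f888128 IH) (Lpe (f340922 IH) (Lpn (LP (LK LD1_c19 LD2_c31 LD3_c28))))))))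
theorem f888142 : Led Lsl_af (LP (LK LD1_c18 LD2_c46 LD3_c27)) = (LP (LK LD1_c19 LD2_c31 LD3_c28)) :=
  Lgr Lrot31 (Lpe (K21.f260616 IH) (Lpe (K26.f285438 IH) (Lpr_ft (f888134 IH) (Lpn (LP (LK LD1_c19 LD2_c31 LD3_c28))))))
theorem f326704 : Led Lsl_ct (LP (LK LD1_c18 LD2_c46 LD3_c27)) = (LP (LK LD1_c18 LD2_c52 LD3_c21)) :=
  Lgr Lrot8 (Lpe (K21.f326639 IH) (Lpr_dt (K21.f326624 IH) (Lpr_gt (K21.f326702 IH) (Lpr_dt (K21.f233867 IH) (Lpe (K13.f233872 IH) (Lpr_df (K21.f246165 IH) (Lpr_gf (K15.f263557 IH) (Lpe (K15.f263559 IH) (Lpe (K15.f263561 IH) (Lpn (LP (LK LD1_c18 LD2_c52 LD3_c21))))))))))))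
theorem f306064 : Led Lsl_dt (LP (LK LD1_c10 LD2_c11 LD3_c53)) = (LP (LK LD1_c18 LD2_c34 LD3_c41)) :=
  Lre_d IH (LK LD1_c10 LD2_c11 LD3_c53) (LK LD1_c18 LD2_c34 LD3_c41) Lrfl Lrfl
theorem f324023 : Led Lsl_et (LP (LK LD1_c19 LD2_c53 LD3_c49)) = (LP (LK LD1_c20 LD2_c5 LD3_c21)) :=
  Lgr Lrot71 (Lpe (K23.f213070 IH) (Lpr_ef (K44.f323926 IH) (Lpe (f306064 IH) (Lpe (K44.f306063 IH) (Lpe (K44.f305833 IH) (Lpn (LP (LK LD1_c20 LD2_c5 LD3_c21))))))))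
theorem f340924 : Led Lsl_cf (LP (LK LD1_c19 LD2_c31 LD3_c28)) = (LP (LK LD1_c20 LD2_c5 LD3_c21)) :=
  Lgr Lrot39 (Lpr_et (f340922 IH) (Lpr_ct (K23.f324162 IH) (Lpr_et (f324023 IH) (Lpn (LP (LK LD1_c20 LD2_c5 LD3_c21))))))
theorem f888146 : Led Lsl_at (LP (LK LD1_c18 LD2_c52 LD3_c21)) = (LP (LK LD1_c20 LD2_c5 LD3_c21)) :=
  Lgr Lrot107 (Lpe (f326704 IH) (Lpr_af (f888142 IH) (Lpr_cf (f340924 IH) (Lpn (LP (LK LD1_c20 LD2_c5 LD3_c21))))))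
theorem f888156 : Led Lsl_ff (LP (LK LD1_c18 LD2_c52 LD3_c21)) = (LP (LK LD1_c19 LD2_c54 LD3_c26)) :=
  Lgr Lrot52 (Lpr_at (f888146 IH) (Lpe (K44.f324031 IH) (Lpe (K27.f361706 IH) (Lpn (LP (LK LD1_c19 LD2_c54 LD3_c26))))))
theorem f888164 : Led Lsl_ft (LP (LK LD1_c18 LD2_c52 LD3_c21)) = (LP (LK LD1_c19 LD2_c54 LD3_c26)) :=
  Lgr Lrot48 (Lpr_ff (f888156 IH) (Lpn (LP (LK LD1_c19 LD2_c54 LD3_c26))))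
theorem f888168 : Led Lsl_af (LP (LK LD1_c18 LD2_c33 LD3_c28)) = (LP (LK LD1_c19 LD2_c54 LD3_c26)) :=
  Lgr Lrot31 (Lpr_gf (K26.f358789 IH) (Lpe (K15.f263561 IH) (Lpr_ft (f888164 IH) (Lpn (LP (LK LD1_c19 LD2_c54 LD3_c26))))))
theorem f888152 : Led Lsl_af (LP (LK LD1_c18 LD2_c52 LD3_c21)) = (LP (LK LD1_c20 LD2_c5 LD3_c21)) :=
  Lgr Lrot0 (Lpr_at (f888146 IH) (Lpn (LP (LK LD1_c20 LD2_c5 LD3_c21))))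
theorem f888174 : Led Lsl_ft (LP (LK LD1_c18 LD2_c33 LD3_c28)) = (LP (LK LD1_c20 LD2_c5 LD3_c21)) :=
  Lgr Lrot101 (Lpr_af (f888168 IH) (Lpe (f888164 IH) (Lpr_af (f888152 IH) (Lpn (LP (LK LD1_c20 LD2_c5 LD3_c21))))))
theorem f888180 : Led Lsl_ff (LP (LK LD1_c18 LD2_c52 LD3_c58)) = (LP (LK LD1_c19 LD2_c53 LD3_c49)) :=
  Lgr Lrot72 (Lpr_et (K25.f344800 IH) (Lpr_ft (f888094 IH) (Lpe (K26.f359018 IH) (Lpr_ft (f888174 IH) (Lpe (K44.f324037 IH) (Lpn (LP (LK LD1_c19 LD2_c53 LD3_c49))))))))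
theorem f888186 : Led Lsl_ft (LP (LK LD1_c10 LD2_c24 LD3_c29)) = (LP (LK LD1_c11 LD2_c2 LD3_c31)) :=
  Lgr Lrot54 (Lpe (K25.f32947 IH) (Lpr_ff (f888180 IH) (Lpe (K23.f213070 IH) (Lpn (LP (LK LD1_c11 LD2_c2 LD3_c31))))))
theorem f888190 : Led Lsl_ff (LP (LK LD1_c10 LD2_c49 LD3_c60)) = (LP (LK LD1_c15 LD2_c16 LD3_c0)) :=
  Lgr Lrot23 (Lpr_ct (K26.f337832 IH) (Lpr_ft (f888186 IH) (Lpr_ct (K20.f322731 IH) (Lpn (LP (LK LD1_c15 LD2_c16 LD3_c0))))))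
theorem f888198 : Led Lsl_at (LP (LK LD1_c10 LD2_c49 LD3_c60)) = (LP (LK LD1_c15 LD2_c16 LD3_c1)) :=
  Lgr Lrot26 (Lpr_ff (f888190 IH) (Lpr_gt (K20.f50218 IH) (Lpe (K25.f340941 IH) (Lpn (LP (LK LD1_c15 LD2_c16 LD3_c1))))))
theorem f888204 : Led Lsl_af (LP (LK LD1_c19 LD2_c34 LD3_c58)) = (LP (LK LD1_c25 LD2_c5 LD3_c54)) :=
  Lgr Lrot50 (Lpr_et (K26.f326698 IH) (Lpr_at (f888198 IH) (Lpr_et (K26.f340934 IH) (Lpn (LP (LK LD1_c25 LD2_c5 LD3_c54))))))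
theorem f888208 : Led Lsl_ft (LP (LK LD1_c19 LD2_c46 LD3_c24)) = (LP (LK LD1_c25 LD2_c5 LD3_c54)) :=
  Lgr Lrot2 (Lpr_gt (K27.f330161 IH) (Lpr_gt (K26.f348315 IH) (Lpr_af (f888204 IH) (Lpn (LP (LK LD1_c25 LD2_c5 LD3_c54))))))
theorem f888210 : Led Lsl_ff (LP (LK LD1_c19 LD2_c46 LD3_c24)) = (LP (LK LD1_c25 LD2_c5 LD3_c54)) :=
  Lgr Lrot3 (Lpr_ft (f888208 IH) (Lpn (LP (LK LD1_c25 LD2_c5 LD3_c54))))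
theorem f238538 : Led Lsl_bt (LP (LK LD1_c15 LD2_c22 LD3_c5)) = (LP (LK LD1_c8 LD2_c9 LD3_c34)) :=
  Lre_b IH (LK LD1_c15 LD2_c22 LD3_c5) (LK LD1_c8 LD2_c9 LD3_c34) Lrfl Lrfl
theorem f371145 : Led Lsl_gt (LP (LK LD1_c19 LD2_c38 LD3_c39)) = (LP (LK LD1_c27 LD2_c30 LD3_c22)) :=
  Lgr Lrot65 (Lpe (K26.f236175 IH) (Lpr_bt (K53.f357224 IH) (Lpr_gf (K22.f328695 IH) (Lpe (f238538 IH) (Lpr_ct (K54.f310549 IH) (Lpe (K27.f358396 IH) (Lpe (K27.f353992 IH) (Lpr_gf (K54.f358506 IH) (Lpr_bf (K67.f371140 IH) (Lpr_ct (K54.f279437 IH) (Lpn (LP (LK LD1_c27 LD2_c30 LD3_c22)))))))))))))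
theorem f888214 : Led Lsl_at (LP (LK LD1_c19 LD2_c46 LD3_c24)) = (LP (LK LD1_c27 LD2_c30 LD3_c22)) :=
  Lgr Lrot26 (Lpr_ff (f888210 IH) (Lpr_gt (K26.f365272 IH) (Lpr_gt (f371145 IH) (Lpn (LP (LK LD1_c27 LD2_c30 LD3_c22))))))
theorem f317590 : Led Lsl_ct (LP (LK LD1_c27 LD2_c30 LD3_c22)) = (LP (LK LD1_c17 LD2_c43 LD3_c19)) :=
  Lre_c IH (LK LD1_c27 LD2_c30 LD3_c22) (LK LD1_c17 LD2_c43 LD3_c19) Lrfl Lrfl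
theorem f888218 : Led Lsl_af (LP (LK LD1_c25 LD2_c34 LD3_c60)) = (LP (LK LD1_c17 LD2_c43 LD3_c19)) :=
  Lgr Lrot68 (Lpr_ct (K27.f359312 IH) (Lpr_at (f888214 IH) (Lpr_ct (f317590 IH) (Lpn (LP (LK LD1_c17 LD2_c43 LD3_c19))))))
theorem f888212 : Led Lsl_ft (LP (LK LD1_c25 LD2_c34 LD3_c60)) = (LP (LK LD1_c17 LD2_c43 LD3_c21)) :=
  Lgr Lrot4 (Lpr_cf (K27.f359314 IH) (Lpr_ff (f888210 IH) (Lpr_cf (K26.f365270 IH) (Lpn (LP (LK LD1_c17 LD2_c43 LD3_c21))))))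
theorem f887849 : Led Lsl_ft (LP (LK LD1_c17 LD2_c42 LD3_c13)) = (LP (LK LD1_c17 LD2_c43 LD3_c19)) :=
  Lgr Lrot75 (Lpe (K26.f320336 IH) (Lpr_ff (f887847 IH) (Lpr_bf (K67.f371140 IH) (Lpn (LP (LK LD1_c17 LD2_c43 LD3_c19))))))
theorem f888244 : Led Lsl_at (LP (LK LD1_c17 LD2_c43 LD3_c21)) = (LP (LK LD1_c17 LD2_c42 LD3_c13)) :=
  Lgr Lrot66 (Lpe (f888212 IH) (Lpr_af (f888218 IH) (Lpe (f887849 IH) (Lpn (LP (LK LD1_c17 LD2_c42 LD3_c13))))))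
theorem f309857 : Led Lsl_bt (LP (LK LD1_c15 LD2_c29 LD3_c35)) = (LP (LK LD1_c19 LD2_c23 LD3_c22)) :=
  Lgr Lrot119 (Lpe (K19.f301239 IH) (Lpr_bf (K19.f309834 IH) (Lpe (K26.f309856 IH) (Lpn (LP (LK LD1_c19 LD2_c23 LD3_c22))))))
theorem f888246 : Led Lsl_af (LP (LK LD1_c27 LD2_c23 LD3_c59)) = (LP (LK LD1_c19 LD2_c23 LD3_c22)) :=
  Lgr Lrot36 (Lpr_bt (K27.f340980 IH) (Lpr_at (f888244 IH) (Lpr_bt (K23.f320331 IH) (Lpr_at (f887855 IH) (Lpr_bt (f309857 IH) (Lpn (LP (LK LD1_c19 LD2_c23 LD3_c22))))))))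
theorem f888252 : Led Lsl_ft (LP (LK LD1_c17 LD2_c42 LD3_c8)) = (LP (LK LD1_c19 LD2_c23 LD3_c22)) :=
  Lgr Lrot2 (Lpr_gt (K26.f361289 IH) (Lpe (K27.f357497 IH) (Lpr_af (f888246 IH) (Lpn (LP (LK LD1_c19 LD2_c23 LD3_c22))))))
theorem f888025 : Led Lsl_ft (LP (LK LD1_c10 LD2_c42 LD3_c35)) = (LP (LK LD1_c15 LD2_c3 LD3_c10)) :=
  Lgr Lrot48 (Lpr_ff (f888019 IH) (Lpn (LP (LK LD1_c15 LD2_c3 LD3_c10))))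
theorem f329918 : Led Lsl_et (LP (LK LD1_c15 LD2_c3 LD3_c10)) = (LP (LK LD1_c24 LD2_c52 LD3_c18)) :=
  Lre_e IH (LK LD1_c15 LD2_c3 LD3_c10) (LK LD1_c24 LD2_c52 LD3_c18) Lrfl Lrfl
theorem f888260 : Led Lsl_ff (LP (LK LD1_c18 LD2_c34 LD3_c36)) = (LP (LK LD1_c24 LD2_c52 LD3_c18)) :=
  Lgr Lrot72 (Lpr_et (K27.f359123 IH) (Lpr_ft (f888252 IH) (Lpr_et (K26.f309856 IH) (Lpr_ft (f888025 IH) (Lpr_et (f329918 IH) (Lpn (LP (LK LD1_c24 LD2_c52 LD3_c18))))))))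
theorem f888264 : Led Lsl_ft (LP (LK LD1_c10 LD2_c11 LD3_c50)) = (LP (LK LD1_c15 LD2_c11 LD3_c24)) :=
  Lgr Lrot54 (Lpe (K27.f336158 IH) (Lpr_ff (f888260 IH) (Lpr_df (K25.f329916 IH) (Lpn (LP (LK LD1_c15 LD2_c11 LD3_c24))))))
theorem f888266 : Led Lsl_ff (LP (LK LD1_c10 LD2_c28 LD3_c33)) = (LP (LK LD1_c10 LD2_c26 LD3_c29)) :=
  Lgr Lrot23 (Lpr_ct (K67.f336156 IH) (Lpr_ft (f888264 IH) (Lpe (K22.f333444 IH) (Lpn (LP (LK LD1_c10 LD2_c26 LD3_c29))))))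
theorem f888272 : Led Lsl_at (LP (LK LD1_c10 LD2_c28 LD3_c33)) = (LP (LK LD1_c10 LD2_c26 LD3_c28)) :=
  Lgr Lrot26 (Lpr_ff (f888266 IH) (Lpr_gt (K22.f185571 IH) (Lpr_gt (K22.f185567 IH) (Lpn (LP (LK LD1_c10 LD2_c26 LD3_c28))))))
theorem f888280 : Led Lsl_af (LP (LK LD1_c10 LD2_c26 LD3_c46)) = (LP (LK LD1_c16 LD2_c35 LD3_c40)) :=
  Lgr Lrot50 (Lpe (K67.f367721 IH) (Lpr_at (f888272 IH) (Lpr_et (K22.f325709 IH) (Lpn (LP (LK LD1_c16 LD2_c35 LD3_c40))))))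
theorem f888288 : Led Lsl_ft (LP (LK LD1_c10 LD2_c26 LD3_c45)) = (LP (LK LD1_c16 LD2_c35 LD3_c40)) :=
  Lgr Lrot2 (Lpe (K21.f248393 IH) (Lpe (K26.f361336 IH) (Lpr_af (f888280 IH) (Lpn (LP (LK LD1_c16 LD2_c35 LD3_c40))))))
theorem f888292 : Led Lsl_ff (LP (LK LD1_c10 LD2_c26 LD3_c45)) = (LP (LK LD1_c16 LD2_c35 LD3_c40)) :=
  Lgr Lrot3 (Lpr_ft (f888288 IH) (Lpn (LP (LK LD1_c16 LD2_c35 LD3_c40))))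
theorem f888296 : Led Lsl_at (LP (LK LD1_c10 LD2_c26 LD3_c45)) = (LP (LK LD1_c16 LD2_c35 LD3_c39)) :=
  Lgr Lrot26 (Lpr_ff (f888292 IH) (Lpr_gt (K22.f248373 IH) (Lpr_gt (K22.f248387 IH) (Lpn (LP (LK LD1_c16 LD2_c35 LD3_c39))))))
theorem f336465 : Led Lsl_ct (LP (LK LD1_c31 LD2_c56 LD3_c49)) = (LP (LK LD1_c25 LD2_c37 LD3_c16)) :=
  Lre_c IH (LK LD1_c31 LD2_c56 LD3_c49) (LK LD1_c25 LD2_c37 LD3_c16) Lrfl Lrfl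
theorem f182241 : Led Lsl_ct (LP (LK LD1_c18 LD2_c58 LD3_c51)) = (LP (LK LD1_c28 LD2_c26 LD3_c12)) :=
  Lre_c IH (LK LD1_c18 LD2_c58 LD3_c51) (LK LD1_c28 LD2_c26 LD3_c12) Lrfl Lrfl
theorem f888298 : Led Lsl_df (LP (LK LD1_c31 LD2_c56 LD3_c49)) = (LP (LK LD1_c28 LD2_c26 LD3_c12)) :=
  Lgr Lrot106 (Lpr_ct (f336465 IH) (Lpr_dt (K26.f336451 IH) (Lpe (K26.f336445 IH) (Lpe (K25.f307373 IH) (Lpe (K22.f331364 IH) (Lpe (f888296 IH) (Lpr_ff (f888292 IH) (Lpe (K22.f325700 IH) (Lpr_ct (f182241 IH) (Lpn (LP (LK LD1_c28 LD2_c26 LD3_c12))))))))))))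
theorem f888300 : Led Lsl_dt (LP (LK LD1_c31 LD2_c56 LD3_c49)) = (LP (LK LD1_c28 LD2_c26 LD3_c12)) :=
  Lgr Lrot42 (Lpr_df (f888298 IH) (Lpn (LP (LK LD1_c28 LD2_c26 LD3_c12))))
theorem f336429 : Led Lsl_ct (LP (LK LD1_c25 LD2_c37 LD3_c16)) = (LP (LK LD1_c31 LD2_c56 LD3_c49)) :=
  Lre_c IH (LK LD1_c25 LD2_c37 LD3_c16) (LK LD1_c31 LD2_c56 LD3_c49) Lrfl Lrfl
theorem f182242 : Led Lsl_ct (LP (LK LD1_c28 LD2_c26 LD3_c12)) = (LP (LK LD1_c18 LD2_c58 LD3_c51)) :=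
  Lre_c IH (LK LD1_c28 LD2_c26 LD3_c12) (LK LD1_c18 LD2_c58 LD3_c51) Lrfl Lrfl
theorem f325703 : Led Lsl_dt (LP (LK LD1_c18 LD2_c58 LD3_c51)) = (LP (LK LD1_c16 LD2_c35 LD3_c40)) :=
  Lgr Lrot42 (Lpr_df (K22.f325700 IH) (Lpn (LP (LK LD1_c16 LD2_c35 LD3_c40))))
theorem f888284 : Led Lsl_at (LP (LK LD1_c9 LD2_c53 LD3_c43)) = (LP (LK LD1_c17 LD2_c45 LD3_c38)) :=
  Lgr Lrot107 (Lpe (K26.f361332 IH) (Lpr_af (f888280 IH) (Lpe (K22.f336320 IH) (Lpn (LP (LK LD1_c17 LD2_c45 LD3_c38))))))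
theorem f888302 : Led Lsl_ft (LP (LK LD1_c10 LD2_c12 LD3_c31)) = (LP (LK LD1_c9 LD2_c53 LD3_c43)) :=
  Lgr Lrot142 (Lpr_dt (K22.f307357 IH) (Lpr_ct (K25.f336443 IH) (Lpe (K26.f336466 IH) (Lpr_ct (f336429 IH) (Lpr_dt (f888300 IH) (Lpr_ct (f182242 IH) (Lpr_dt (f325703 IH) (Lpe (K22.f336318 IH) (Lpe (f888284 IH) (Lpn (LP (LK LD1_c9 LD2_c53 LD3_c43))))))))))))
theorem f722647 : Led Lsl_ff (LP (LK LD1_c5 LD2_c10 LD3_c56)) = v14460 :=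
  Lgr Lrot3 (Lpr_ft (f722644 IH) (Lpn v14460))
theorem f888312 : v14460 = (LP (LK LD1_c9 LD2_c40 LD3_c16)) :=
  (Llr Lrot25 (Lpe (f722647 IH) (Lpr_bt (K22.f307356 IH) (Lpr_ft (f888302 IH) (Lpe (K26.f361321 IH) (Lpn (LP (LK LD1_c9 LD2_c40 LD3_c16)))))))).symm
theorem f888317 : v13965 = (LP (LK LD1_c9 LD2_c36 LD3_c49)) :=
  Lefun (Lecon (Lfl_df (f722646 IH)) (f888312 IH)) (K19.f305941 IH)
def v13962 : LQ := Led Lsl_ft (LP (LK LD1_c4 LD2_c52 LD3_c12))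
theorem f717478 : Led Lsl_ft (LP (LK LD1_c4 LD2_c52 LD3_c12)) = v13962 :=
  Lrfl
theorem f717479 : Led Lsl_af (LP (LK LD1_c4 LD2_c52 LD3_c13)) = v13962 :=
  Lgr Lrot45 (Lpr_ft (f717476 IH) (Lpe (f717475 IH) (Lpr_ft (f717478 IH) (Lpn v13962))))
theorem f887861 : v13962 = (LP (LK LD1_c9 LD2_c36 LD3_c37)) :=
  (Llr Lrot117 (Lpe (f717479 IH) (Lpr_dt (K26.f306053 IH) (Lpr_at (f887855 IH) (Lpe (K19.f301234 IH) (Lpn (LP (LK LD1_c9 LD2_c36 LD3_c37)))))))).symm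
theorem f888324 : Led Lsl_ff (LP (LK LD1_c9 LD2_c37 LD3_c7)) = (LP (LK LD1_c16 LD2_c9 LD3_c31)) :=
  Lgr Lrot72 (Lpr_et (K21.f307154 IH) (Lpr_ft (f717493 IH) (Lpqs (f888317 IH) (Lpr_et (K19.f222110 IH) (Lpr_ft (f717478 IH) (Lpqs (f887861 IH) (Lpe (K19.f301223 IH) (Lpn (LP (LK LD1_c16 LD2_c9 LD3_c31))))))))))
theorem f888334 : Led Lsl_at (LP (LK LD1_c9 LD2_c37 LD3_c7)) = (LP (LK LD1_c16 LD2_c9 LD3_c33)) :=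
  Lgr Lrot26 (Lpr_ff (f888324 IH) (Lpr_gt (K26.f358504 IH) (Lpr_gt (K26.f358769 IH) (Lpn (LP (LK LD1_c16 LD2_c9 LD3_c33))))))
theorem f888344 : v13964 = (LP (LK LD1_c9 LD2_c36 LD3_c59)) :=
  (Llr Lrot50 (Lpe (f717490 IH) (Lpr_et (K21.f307246 IH) (Lpr_at (f888334 IH) (Lpr_et (K21.f276680 IH) (Lpn (LP (LK LD1_c9 LD2_c36 LD3_c59)))))))).symm
theorem f888349 : v14459 = (LP (LK LD1_c9 LD2_c40 LD3_c15)) :=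
  Lefun (Lecon (f722641 IH) (f888344 IH)) (Lfl_df (K26.f358759 IH))
theorem f717491 : Led Lsl_ft (LP (LK LD1_c4 LD2_c52 LD3_c25)) = v13964 :=
  Lgr Lrot2 (Lpr_gt (K21.f305955 IH) (Lpr_gt (K21.f307239 IH) (Lpr_af (f717490 IH) (Lpn v13964))))
theorem f717492 : Led Lsl_ff (LP (LK LD1_c4 LD2_c52 LD3_c25)) = v13964 :=
  Lgr Lrot3 (Lpr_ft (f717491 IH) (Lpn v13964))
theorem f722642 : Led Lsl_ft (LP (LK LD1_c5 LD2_c10 LD3_c57)) = v14459 :=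
  Lgr Lrot54 (Lpr_df (K21.f307173 IH) (Lpr_ff (f717492 IH) (Lpr_df (f722640 IH) (Lpn v14459))))
theorem f251326 : Led Lsl_et (LP (LK LD1_c9 LD2_c40 LD3_c15)) = (LP (LK LD1_c17 LD2_c47 LD3_c20)) :=
  Lre_e IH (LK LD1_c9 LD2_c40 LD3_c15) (LK LD1_c17 LD2_c47 LD3_c20) Lrfl Lrfl
theorem f888358 : Led Lsl_ff (LP (LK LD1_c10 LD2_c11 LD3_c56)) = (LP (LK LD1_c17 LD2_c47 LD3_c20)) :=
  Lgr Lrot72 (Lpr_et (K19.f249668 IH) (Lpr_ft (f722590 IH) (Lpq (f887894 IH) (Lpe (K21.f307220 IH) (Lpr_ft (f722642 IH) (Lpqs (f888349 IH) (Lpr_et (f251326 IH) (Lpn (LP (LK LD1_c17 LD2_c47 LD3_c20))))))))))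
theorem f312506 : Led Lsl_et (LP (LK LD1_c5 LD2_c11 LD3_c54)) = (LP (LK LD1_c10 LD2_c14 LD3_c39)) :=
  Lre_e IH (LK LD1_c5 LD2_c11 LD3_c54) (LK LD1_c10 LD2_c14 LD3_c39) Lrfl Lrfl
theorem f312507 : Led Lsl_gt (LP (LK LD1_c10 LD2_c14 LD3_c39)) = (LP (LK LD1_c18 LD2_c33 LD3_c27)) :=
  Lgr Lrot137 (Lpe (f312506 IH) (Lpr_dt (K19.f312488 IH) (Lpr_gf (K46.f312501 IH) (Lpe (K21.f307272 IH) (Lpr_et (K21.f166666 IH) (Lpr_gf (K21.f306573 IH) (Lpe (K19.f289931 IH) (Lpe (K21.f306567 IH) (Lpr_gf (K21.f305741 IH) (Lpe (K14.f248039 IH) (Lpn (LP (LK LD1_c18 LD2_c33 LD3_c27)))))))))))))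
theorem f888364 : Led Lsl_at (LP (LK LD1_c10 LD2_c11 LD3_c56)) = (LP (LK LD1_c18 LD2_c33 LD3_c27)) :=
  Lgr Lrot26 (Lpr_ff (f888358 IH) (Lpe (K26.f359105 IH) (Lpr_gt (f312507 IH) (Lpn (LP (LK LD1_c18 LD2_c33 LD3_c27))))))
theorem f888368 : Led Lsl_af (LP (LK LD1_c11 LD2_c10 LD3_c35)) = (LP (LK LD1_c10 LD2_c11 LD3_c10)) :=
  Lgr Lrot117 (Lpr_dt (K19.f305836 IH) (Lpr_at (f888364 IH) (Lpr_dt (K14.f248039 IH) (Lpn (LP (LK LD1_c10 LD2_c11 LD3_c10))))))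
theorem f888374 : Led Lsl_ft (LP (LK LD1_c11 LD2_c10 LD3_c34)) = (LP (LK LD1_c10 LD2_c11 LD3_c10)) :=
  Lgr Lrot2 (Lpr_gt (K19.f305759 IH) (Lpe (K19.f305839 IH) (Lpr_af (f888368 IH) (Lpn (LP (LK LD1_c10 LD2_c11 LD3_c10))))))
theorem f888380 : Led Lsl_ff (LP (LK LD1_c11 LD2_c10 LD3_c34)) = (LP (LK LD1_c10 LD2_c11 LD3_c10)) :=
  Lgr Lrot3 (Lpr_ft (f888374 IH) (Lpn (LP (LK LD1_c10 LD2_c11 LD3_c10))))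
theorem f888386 : Led Lsl_at (LP (LK LD1_c11 LD2_c10 LD3_c34)) = (LP (LK LD1_c10 LD2_c11 LD3_c11)) :=
  Lgr Lrot26 (Lpr_ff (f888380 IH) (Lpe (K21.f305741 IH) (Lpe (K26.f358779 IH) (Lpn (LP (LK LD1_c10 LD2_c11 LD3_c11))))))
theorem f888388 : Led Lsl_af (LP (LK LD1_c10 LD2_c12 LD3_c33)) = (LP (LK LD1_c17 LD2_c47 LD3_c20)) :=
  Lgr Lrot117 (Lpe (K19.f305761 IH) (Lpr_at (f888386 IH) (Lpr_dt (K26.f251324 IH) (Lpn (LP (LK LD1_c17 LD2_c47 LD3_c20))))))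
theorem f305816 : Led Lsl_ct (LP (LK LD1_c10 LD2_c12 LD3_c33)) = (LP (LK LD1_c18 LD2_c35 LD3_c32)) :=
  Lre_c IH (LK LD1_c10 LD2_c12 LD3_c33) (LK LD1_c18 LD2_c35 LD3_c32) Lrfl Lrfl
theorem f251323 : Led Lsl_ct (LP (LK LD1_c27 LD2_c34 LD3_c20)) = (LP (LK LD1_c17 LD2_c47 LD3_c20)) :=
  Lre_c IH (LK LD1_c27 LD2_c34 LD3_c20) (LK LD1_c17 LD2_c47 LD3_c20) Lrfl Lrfl
theorem f888394 : Led Lsl_at (LP (LK LD1_c18 LD2_c35 LD3_c32)) = (LP (LK LD1_c27 LD2_c34 LD3_c20)) :=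
  Lgr Lrot107 (Lpe (f305816 IH) (Lpr_af (f888388 IH) (Lpe (f251323 IH) (Lpn (LP (LK LD1_c27 LD2_c34 LD3_c20))))))
theorem f307371 : Led Lsl_et (LP (LK LD1_c10 LD2_c12 LD3_c32)) = (LP (LK LD1_c18 LD2_c35 LD3_c32)) :=
  Lre_e IH (LK LD1_c10 LD2_c12 LD3_c32) (LK LD1_c18 LD2_c35 LD3_c32) Lrfl Lrfl
theorem f358811 : Led Lsl_et (LP (LK LD1_c27 LD2_c34 LD3_c20)) = (LP (LK LD1_c17 LD2_c47 LD3_c19)) :=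
  Lre_e IH (LK LD1_c27 LD2_c34 LD3_c20) (LK LD1_c17 LD2_c47 LD3_c19) Lrfl Lrfl
theorem f888398 : Led Lsl_af (LP (LK LD1_c10 LD2_c12 LD3_c32)) = (LP (LK LD1_c17 LD2_c47 LD3_c19)) :=
  Lgr Lrot50 (Lpr_et (f307371 IH) (Lpr_at (f888394 IH) (Lpr_et (f358811 IH) (Lpn (LP (LK LD1_c17 LD2_c47 LD3_c19))))))
theorem f888404 : Led Lsl_ft (LP (LK LD1_c10 LD2_c12 LD3_c35)) = (LP (LK LD1_c17 LD2_c47 LD3_c19)) :=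
  Lgr Lrot2 (Lpe (K26.f362856 IH) (Lpe (K67.f371656 IH) (Lpr_af (f888398 IH) (Lpn (LP (LK LD1_c17 LD2_c47 LD3_c19))))))
theorem f307384 : Led Lsl_bt (LP (LK LD1_c18 LD2_c35 LD3_c33)) = (LP (LK LD1_c10 LD2_c12 LD3_c35)) :=
  Lre_b IH (LK LD1_c18 LD2_c35 LD3_c33) (LK LD1_c10 LD2_c12 LD3_c35) Lrfl Lrfl
theorem f350477 : Led Lsl_bt (LP (LK LD1_c17 LD2_c47 LD3_c19)) = (LP (LK LD1_c27 LD2_c34 LD3_c18)) :=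
  Lre_b IH (LK LD1_c17 LD2_c47 LD3_c19) (LK LD1_c27 LD2_c34 LD3_c18) Lrfl Lrfl
theorem f888406 : Led Lsl_ff (LP (LK LD1_c18 LD2_c35 LD3_c33)) = (LP (LK LD1_c27 LD2_c34 LD3_c18)) :=
  Lgr Lrot25 (Lpr_bt (f307384 IH) (Lpr_ft (f888404 IH) (Lpr_bt (f350477 IH) (Lpn (LP (LK LD1_c27 LD2_c34 LD3_c18))))))
theorem f888454 : Led Lsl_ft (LP (LK LD1_c18 LD2_c35 LD3_c33)) = (LP (LK LD1_c27 LD2_c34 LD3_c18)) :=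
  Lgr Lrot48 (Lpr_ff (f888406 IH) (Lpn (LP (LK LD1_c27 LD2_c34 LD3_c18))))
theorem f362879 : Led Lsl_bt (LP (LK LD1_c10 LD2_c21 LD3_c16)) = (LP (LK LD1_c18 LD2_c47 LD3_c32)) :=
  Lre_b IH (LK LD1_c10 LD2_c21 LD3_c16) (LK LD1_c18 LD2_c47 LD3_c32) Lrfl Lrfl
theorem f362880 : Led Lsl_ct (LP (LK LD1_c18 LD2_c47 LD3_c32)) = (LP (LK LD1_c18 LD2_c35 LD3_c33)) :=
  Lgr Lrot83 (Lpe (f362879 IH) (Lpr_cf (K26.f362877 IH) (Lpe (K27.f307175 IH) (Lpe (K38.f171451 IH) (Lpe (f307384 IH) (Lpn (LP (LK LD1_c18 LD2_c35 LD3_c33))))))))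
theorem f252837 : Led Lsl_bt (LP (LK LD1_c25 LD2_c30 LD3_c51)) = (LP (LK LD1_c15 LD2_c36 LD3_c10)) :=
  Lre_b IH (LK LD1_c25 LD2_c30 LD3_c51) (LK LD1_c15 LD2_c36 LD3_c10) Lrfl Lrfl
theorem f360932 : Led Lsl_ct (LP (LK LD1_c27 LD2_c34 LD3_c18)) = (LP (LK LD1_c25 LD2_c30 LD3_c51)) :=
  Lgr Lrot83 (Lpe (f350477 IH) (Lpe (K26.f249657 IH) (Lpr_bf (K46.f358804 IH) (Lpr_cf (K46.f360921 IH) (Lpe (f252837 IH) (Lpn (LP (LK LD1_c25 LD2_c30 LD3_c51))))))))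
theorem f888456 : Led Lsl_ff (LP (LK LD1_c18 LD2_c47 LD3_c32)) = (LP (LK LD1_c25 LD2_c30 LD3_c51)) :=
  Lgr Lrot23 (Lpr_ct (f362880 IH) (Lpr_ft (f888454 IH) (Lpr_ct (f360932 IH) (Lpn (LP (LK LD1_c25 LD2_c30 LD3_c51))))))
theorem f328600 : Led Lsl_bt (LP (LK LD1_c18 LD2_c47 LD3_c32)) = (LP (LK LD1_c10 LD2_c21 LD3_c16)) :=
  Lre_b IH (LK LD1_c18 LD2_c47 LD3_c32) (LK LD1_c10 LD2_c21 LD3_c16) Lrfl Lrfl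
theorem f360939 : Led Lsl_bt (LP (LK LD1_c15 LD2_c36 LD3_c10)) = (LP (LK LD1_c25 LD2_c30 LD3_c51)) :=
  Lre_b IH (LK LD1_c15 LD2_c36 LD3_c10) (LK LD1_c25 LD2_c30 LD3_c51) Lrfl Lrfl
theorem f888458 : Led Lsl_ft (LP (LK LD1_c10 LD2_c21 LD3_c16)) = (LP (LK LD1_c15 LD2_c36 LD3_c10)) :=
  Lgr Lrot75 (Lpe (f328600 IH) (Lpr_ff (f888456 IH) (Lpe (f360939 IH) (Lpn (LP (LK LD1_c15 LD2_c36 LD3_c10))))))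
theorem f888462 : Led Lsl_af (LP (LK LD1_c10 LD2_c21 LD3_c15)) = (LP (LK LD1_c15 LD2_c36 LD3_c10)) :=
  Lgr Lrot31 (Lpe (K26.f257392 IH) (Lpe (K26.f47602 IH) (Lpr_ft (f888458 IH) (Lpn (LP (LK LD1_c15 LD2_c36 LD3_c10))))))
theorem f888464 : Led Lsl_at (LP (LK LD1_c10 LD2_c21 LD3_c15)) = (LP (LK LD1_c15 LD2_c36 LD3_c10)) :=
  Lgr Lrot100 (Lpr_af (f888462 IH) (Lpn (LP (LK LD1_c15 LD2_c36 LD3_c10))))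
theorem f888480 : Led Lsl_ff (LP (LK LD1_c10 LD2_c21 LD3_c15)) = (LP (LK LD1_c15 LD2_c36 LD3_c11)) :=
  Lgr Lrot52 (Lpr_at (f888464 IH) (Lpe (K46.f252835 IH) (Lpe (K24.f252838 IH) (Lpn (LP (LK LD1_c15 LD2_c36 LD3_c11))))))
theorem f888488 : Led Lsl_ft (LP (LK LD1_c10 LD2_c21 LD3_c15)) = (LP (LK LD1_c15 LD2_c36 LD3_c11)) :=
  Lgr Lrot48 (Lpr_ff (f888480 IH) (Lpn (LP (LK LD1_c15 LD2_c36 LD3_c11))))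
theorem f888494 : Led Lsl_ff (LP (LK LD1_c15 LD2_c50 LD3_c55)) = (LP (LK LD1_c15 LD2_c11 LD3_c39)) :=
  Lgr Lrot23 (Lpr_ct (K26.f347669 IH) (Lpr_ft (f888488 IH) (Lpr_ct (K24.f350748 IH) (Lpn (LP (LK LD1_c15 LD2_c11 LD3_c39))))))
theorem f887758 : Led Lsl_af (LP (LK LD1_c15 LD2_c11 LD3_c38)) = (LP (LK LD1_c15 LD2_c50 LD3_c55)) :=
  Lgr Lrot117 (Lpr_dt (K26.f359022 IH) (Lpr_at (f887754 IH) (Lpr_dt (K26.f348363 IH) (Lpn (LP (LK LD1_c15 LD2_c50 LD3_c55))))))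
theorem f888354 : Led Lsl_ff (LP (LK LD1_c10 LD2_c12 LD3_c34)) = (LP (LK LD1_c15 LD2_c11 LD3_c38)) :=
  Lgr Lrot25 (Lpr_bt (K26.f171461 IH) (Lpr_ft (f722642 IH) (Lpqs (f888349 IH) (Lpr_bt (K26.f358802 IH) (Lpn (LP (LK LD1_c15 LD2_c11 LD3_c38)))))))
theorem f888496 : Led Lsl_at (LP (LK LD1_c10 LD2_c12 LD3_c34)) = (LP (LK LD1_c15 LD2_c11 LD3_c39)) :=
  Lgr Lrot66 (Lpr_ff (f888354 IH) (Lpr_af (f887758 IH) (Lpr_ff (f888494 IH) (Lpn (LP (LK LD1_c15 LD2_c11 LD3_c39))))))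
theorem f192078 : Led Lsl_ct (LP (LK LD1_c2 LD2_c35 LD3_c40)) = (LP (LK LD1_c5 LD2_c17 LD3_c52)) :=
  Lre_c IH (LK LD1_c2 LD2_c35 LD3_c40) (LK LD1_c5 LD2_c17 LD3_c52) Lrfl Lrfl
theorem f192083 : Led Lsl_gt (LP (LK LD1_c5 LD2_c17 LD3_c52)) = (LP (LK LD1_c10 LD2_c25 LD3_c22)) :=
  Lre_g IH (LK LD1_c5 LD2_c17 LD3_c52) (LK LD1_c10 LD2_c25 LD3_c22) Lrfl Lrfl
theorem f371064 : Led Lsl_cf (LP (LK LD1_c10 LD2_c25 LD3_c22)) = (LP (LK LD1_c9 LD2_c53 LD3_c20)) :=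
  Lgr Lrot58 (Lpe (f192083 IH) (Lpe (f192078 IH) (Lpe (K18.f296436 IH) (Lpe (K19.f246103 IH) (Lpr_bf (K23.f340226 IH) (Lpe (K23.f340207 IH) (Lpe (K23.f248768 IH) (Lpe (K22.f248737 IH) (Lpe (K21.f248892 IH) (Lpr_bf (K27.f371060 IH) (Lpn (LP (LK LD1_c9 LD2_c53 LD3_c20)))))))))))))
theorem f362882 : Led Lsl_ct (LP (LK LD1_c10 LD2_c21 LD3_c16)) = (LP (LK LD1_c10 LD2_c12 LD3_c34)) :=
  Lgr Lrot59 (Lpr_cf (K26.f362877 IH) (Lpn (LP (LK LD1_c10 LD2_c12 LD3_c34))))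
theorem f371071 : Led Lsl_et (LP (LK LD1_c10 LD2_c25 LD3_c22)) = (LP (LK LD1_c10 LD2_c21 LD3_c16)) :=
  Lgr Lrot158 (Lpr_cf (f371064 IH) (Lpe (K27.f371062 IH) (Lpe (f362882 IH) (Lpn (LP (LK LD1_c10 LD2_c21 LD3_c16))))))
theorem f371075 : Led Lsl_ef (LP (LK LD1_c10 LD2_c25 LD3_c22)) = (LP (LK LD1_c10 LD2_c21 LD3_c16)) :=
  Lgr Lrot88 (Lpr_et (f371071 IH) (Lpn (LP (LK LD1_c10 LD2_c21 LD3_c16))))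
theorem f371069 : Led Lsl_ct (LP (LK LD1_c10 LD2_c25 LD3_c22)) = (LP (LK LD1_c9 LD2_c53 LD3_c20)) :=
  Lgr Lrot59 (Lpr_cf (f371064 IH) (Lpn (LP (LK LD1_c9 LD2_c53 LD3_c20))))
theorem f371079 : Led Lsl_et (LP (LK LD1_c9 LD2_c53 LD3_c20)) = (LP (LK LD1_c10 LD2_c12 LD3_c34)) :=
  Lgr Lrot158 (Lpe (f371069 IH) (Lpr_ef (f371075 IH) (Lpr_cf (K26.f362877 IH) (Lpn (LP (LK LD1_c10 LD2_c12 LD3_c34))))))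
theorem f888504 : Led Lsl_af (LP (LK LD1_c9 LD2_c53 LD3_c20)) = (LP (LK LD1_c15 LD2_c30 LD3_c58)) :=
  Lgr Lrot50 (Lpr_et (f371079 IH) (Lpr_at (f888496 IH) (Lpe (K24.f350768 IH) (Lpn (LP (LK LD1_c15 LD2_c30 LD3_c58))))))
theorem f888512 : Led Lsl_ft (LP (LK LD1_c9 LD2_c53 LD3_c21)) = (LP (LK LD1_c15 LD2_c30 LD3_c58)) :=
  Lgr Lrot2 (Lpr_gt (K20.f311512 IH) (Lpr_gt (K27.f293508 IH) (Lpr_af (f888504 IH) (Lpn (LP (LK LD1_c15 LD2_c30 LD3_c58))))))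
theorem f888518 : Led Lsl_ff (LP (LK LD1_c9 LD2_c53 LD3_c21)) = (LP (LK LD1_c15 LD2_c30 LD3_c58)) :=
  Lgr Lrot3 (Lpr_ft (f888512 IH) (Lpn (LP (LK LD1_c15 LD2_c30 LD3_c58))))
theorem f888486 : Led Lsl_ft (LP (LK LD1_c15 LD2_c50 LD3_c55)) = (LP (LK LD1_c15 LD2_c11 LD3_c39)) :=
  Lgr Lrot4 (Lpr_cf (K26.f347674 IH) (Lpr_ff (f888480 IH) (Lpr_cf (K24.f350750 IH) (Lpn (LP (LK LD1_c15 LD2_c11 LD3_c39))))))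
theorem f922378 : Led Lsl_ff (LP (LK LD1_c25 LD2_c46 LD3_c51)) = v41161 :=
  Lgr Lrot72 (Lpr_et (K27.f259635 IH) (Lpr_ft (f888486 IH) (Lpe (K24.f350768 IH) (Lpe (f888518 IH) (Lpr_et (f922373 IH) (Lpn v41161))))))
theorem f922381 : Led Lsl_ft (LP (LK LD1_c25 LD2_c46 LD3_c51)) = v41161 :=
  Lgr Lrot48 (Lpr_ff (f922378 IH) (Lpn v41161))
theorem f347676 : Led Lsl_et (LP (LK LD1_c10 LD2_c21 LD3_c15)) = (LP (LK LD1_c18 LD2_c47 LD3_c31)) :=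
  Lre_e IH (LK LD1_c10 LD2_c21 LD3_c15) (LK LD1_c18 LD2_c47 LD3_c31) Lrfl Lrfl
theorem f347677 : Led Lsl_cf (LP (LK LD1_c25 LD2_c46 LD3_c51)) = (LP (LK LD1_c18 LD2_c47 LD3_c31)) :=
  Lgr Lrot39 (Lpr_et (K27.f259635 IH) (Lpr_ct (K26.f347669 IH) (Lpr_et (f347676 IH) (Lpn (LP (LK LD1_c18 LD2_c47 LD3_c31))))))
theorem f367666 : Led Lsl_ct (LP (LK LD1_c10 LD2_c24 LD3_c14)) = (LP (LK LD1_c10 LD2_c50 LD3_c49)) :=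
  Lgr Lrot91 (Lpr_gf (K27.f367662 IH) (Lpe (K27.f322112 IH) (Lpe (K22.f333901 IH) (Lpe (K22.f244162 IH) (Lpe (K25.f244171 IH) (Lpr_bt (K21.f244138 IH) (Lpr_gf (K19.f296371 IH) (Lpe (K17.f220228 IH) (Lpr_ct (K27.f220238 IH) (Lpe (K27.f220240 IH) (Lpn (LP (LK LD1_c10 LD2_c50 LD3_c49)))))))))))))
theorem f192085 : Led Lsl_gt (LP (LK LD1_c10 LD2_c25 LD3_c23)) = (LP (LK LD1_c5 LD2_c17 LD3_c52)) :=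
  Lre_g IH (LK LD1_c10 LD2_c25 LD3_c23) (LK LD1_c5 LD2_c17 LD3_c52) Lrfl Lrfl
theorem f377012 : Led Lsl_ct (LP (LK LD1_c9 LD2_c53 LD3_c21)) = (LP (LK LD1_c10 LD2_c25 LD3_c23)) :=
  Lgr Lrot152 (Lpe (K20.f322106 IH) (Lpr_df (K20.f322108 IH) (Lpe (K27.f367662 IH) (Lpr_ct (f367666 IH) (Lpr_gt (K27.f220240 IH) (Lpr_ct (K18.f220232 IH) (Lpr_df (K15.f262119 IH) (Lpe (K18.f192086 IH) (Lpe (f192085 IH) (Lpn (LP (LK LD1_c10 LD2_c25 LD3_c23))))))))))))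
theorem f377014 : Led Lsl_cf (LP (LK LD1_c9 LD2_c53 LD3_c21)) = (LP (LK LD1_c10 LD2_c25 LD3_c23)) :=
  Lgr Lrot11 (Lpr_ct (f377012 IH) (Lpn (LP (LK LD1_c10 LD2_c25 LD3_c23))))
theorem f373415 : Led Lsl_et (LP (LK LD1_c18 LD2_c54 LD3_c36)) = (LP (LK LD1_c10 LD2_c25 LD3_c23)) :=
  Lre_e IH (LK LD1_c18 LD2_c54 LD3_c36) (LK LD1_c10 LD2_c25 LD3_c23) Lrfl Lrfl
theorem f922375 : Led Lsl_cf (LP (LK LD1_c18 LD2_c54 LD3_c36)) = v41161 :=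
  Lgr Lrot39 (Lpr_et (f373415 IH) (Lpe (f377014 IH) (Lpr_et (f922373 IH) (Lpn v41161))))
theorem f922382 : Led Lsl_ff (LP (LK LD1_c18 LD2_c47 LD3_c31)) = (LP (LK LD1_c18 LD2_c54 LD3_c36)) :=
  Lgr Lrot23 (Lpe (f347677 IH) (Lpr_ft (f922381 IH) (Lpe (f922375 IH) (Lpn (LP (LK LD1_c18 LD2_c54 LD3_c36))))))
theorem f922383 : Led Lsl_ft (LP (LK LD1_c18 LD2_c54 LD3_c36)) = (LP (LK LD1_c18 LD2_c47 LD3_c31)) :=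
  Leop (Lpr_ff (f922382 IH) (Lpn (LP (LK LD1_c18 LD2_c54 LD3_c36))))
theorem seed_2446 : LEOK LG_f (LK LD1_c18 LD2_c54 LD3_c36) :=
  Leoe_f (LK LD1_c18 LD2_c54 LD3_c36) (f922383 IH)
def v41213 : LQ := Led Lsl_gt (LP (LK LD1_c9 LD2_c54 LD3_c18))
theorem f922585 : Led Lsl_gt (LP (LK LD1_c9 LD2_c54 LD3_c18)) = v41213 :=
  Lrfl
theorem f233596 : Led Lsl_ct (LP (LK LD1_c5 LD2_c1 LD3_c53)) = (LP (LK LD1_c9 LD2_c54 LD3_c18)) :=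
  Lre_c IH (LK LD1_c5 LD2_c1 LD3_c53) (LK LD1_c9 LD2_c54 LD3_c18) Lrfl Lrfl
theorem f21883 : Led Lsl_gt (LP (LK LD1_c2 LD2_c28 LD3_c36)) = (LP (LK LD1_c5 LD2_c1 LD3_c53)) :=
  Lre_g IH (LK LD1_c2 LD2_c28 LD3_c36) (LK LD1_c5 LD2_c1 LD3_c53) Lrfl Lrfl
theorem f21836 : Led Lsl_bt (LP (LK LD1_c1 LD2_c11 LD3_c30)) = (LP (LK LD1_c2 LD2_c28 LD3_c36)) :=
  Lre_b IH (LK LD1_c1 LD2_c11 LD3_c30) (LK LD1_c2 LD2_c28 LD3_c36) Lrfl Lrfl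
theorem f33313 : Led Lsl_bt (LP (LK LD1_c2 LD2_c28 LD3_c32)) = (LP (LK LD1_c5 LD2_c1 LD3_c41)) :=
  Lre_b IH (LK LD1_c2 LD2_c28 LD3_c32) (LK LD1_c5 LD2_c1 LD3_c41) Lrfl Lrfl
theorem f291970 : Led Lsl_gt (LP (LK LD1_c9 LD2_c53 LD3_c46)) = (LP (LK LD1_c5 LD2_c1 LD3_c41)) :=
  Lre_g IH (LK LD1_c9 LD2_c53 LD3_c46) (LK LD1_c5 LD2_c1 LD3_c41) Lrfl Lrfl
theorem f291971 : Led Lsl_bt (LP (LK LD1_c18 LD2_c6 LD3_c24)) = (LP (LK LD1_c9 LD2_c53 LD3_c46)) :=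
  Lre_b IH (LK LD1_c18 LD2_c6 LD3_c24) (LK LD1_c9 LD2_c53 LD3_c46) Lrfl Lrfl
theorem f922586 : Led Lsl_ct (LP (LK LD1_c18 LD2_c6 LD3_c24)) = v41213 :=
  Lgr Lrot63 (Lpr_bt (f291971 IH) (Lpr_gt (f291970 IH) (Lpe (f33313 IH) (Lpr_ct (K14.f3692 IH) (Lpr_gt (K0.f3691 IH) (Lpe (K15.f3571 IH) (Lpr_bt (f21836 IH) (Lpr_gt (f21883 IH) (Lpr_ct (f233596 IH) (Lpr_gt (f922585 IH) (Lpn v41213)))))))))))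
theorem f922587 : Led Lsl_cf (LP (LK LD1_c18 LD2_c6 LD3_c24)) = v41213 :=
  Lgr Lrot11 (Lpr_ct (f922586 IH) (Lpn v41213))
theorem f21674 : Led Lsl_dt (LP (LK LD1_c5 LD2_c1 LD3_c56)) = (LP (LK LD1_c2 LD2_c28 LD3_c36)) :=
  Lre_d IH (LK LD1_c5 LD2_c1 LD3_c56) (LK LD1_c2 LD2_c28 LD3_c36) Lrfl Lrfl
theorem f3587 : Led Lsl_gt (LP (LK LD1_c5 LD2_c1 LD3_c56)) = (LP (LK LD1_c9 LD2_c54 LD3_c27)) :=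
  Lre_g IH (LK LD1_c5 LD2_c1 LD3_c56) (LK LD1_c9 LD2_c54 LD3_c27) Lrfl Lrfl
theorem f3697 : Led Lsl_ct (LP (LK LD1_c9 LD2_c54 LD3_c27)) = (LP (LK LD1_c18 LD2_c7 LD3_c55)) :=
  Lre_c IH (LK LD1_c9 LD2_c54 LD3_c27) (LK LD1_c18 LD2_c7 LD3_c55) Lrfl Lrfl
theorem f3698 : Led Lsl_gt (LP (LK LD1_c18 LD2_c7 LD3_c55)) = (LP (LK LD1_c27 LD2_c48 LD3_c17)) :=
  Lre_g IH (LK LD1_c18 LD2_c7 LD3_c55) (LK LD1_c27 LD2_c48 LD3_c17) Lrfl Lrfl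
theorem f3436 : Led Lsl_bt (LP (LK LD1_c2 LD2_c28 LD3_c37)) = (LP (LK LD1_c5 LD2_c1 LD3_c56)) :=
  Lre_b IH (LK LD1_c2 LD2_c28 LD3_c37) (LK LD1_c5 LD2_c1 LD3_c56) Lrfl Lrfl
theorem f247845 : Led Lsl_bt (LP (LK LD1_c5 LD2_c1 LD3_c25)) = (LP (LK LD1_c9 LD2_c53 LD3_c7)) :=
  Lre_b IH (LK LD1_c5 LD2_c1 LD3_c25) (LK LD1_c9 LD2_c53 LD3_c7) Lrfl Lrfl
theorem f247846 : Led Lsl_gt (LP (LK LD1_c18 LD2_c5 LD3_c28)) = (LP (LK LD1_c9 LD2_c53 LD3_c7)) :=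
  Lre_g IH (LK LD1_c18 LD2_c5 LD3_c28) (LK LD1_c9 LD2_c53 LD3_c7) Lrfl Lrfl
theorem f247847 : Led Lsl_bt (LP (LK LD1_c27 LD2_c46 LD3_c46)) = (LP (LK LD1_c18 LD2_c5 LD3_c28)) :=
  Lre_b IH (LK LD1_c27 LD2_c46 LD3_c46) (LK LD1_c18 LD2_c5 LD3_c28) Lrfl Lrfl
theorem f247848 : Led Lsl_cf (LP (LK LD1_c27 LD2_c48 LD3_c17)) = (LP (LK LD1_c27 LD2_c46 LD3_c46)) :=
  Lgr Lrot163 (Lpe (f3698 IH) (Lpe (f3697 IH) (Lpe (f3587 IH) (Lpe (f3436 IH) (Lpr_ct (K14.f3339 IH) (Lpr_gf (K14.f3683 IH) (Lpr_cf (K14.f247807 IH) (Lpr_bt (f247845 IH) (Lpe (f247846 IH) (Lpe (f247847 IH) (Lpn (LP (LK LD1_c27 LD2_c46 LD3_c46)))))))))))))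
theorem f247861 : Led Lsl_ct (LP (LK LD1_c27 LD2_c48 LD3_c17)) = (LP (LK LD1_c27 LD2_c46 LD3_c46)) :=
  Lgr Lrot59 (Lpr_cf (f247848 IH) (Lpn (LP (LK LD1_c27 LD2_c46 LD3_c46))))
theorem f922588 : Led Lsl_dt (LP (LK LD1_c18 LD2_c6 LD3_c24)) = (LP (LK LD1_c27 LD2_c46 LD3_c46)) :=
  Lgr Lrot27 (Lpr_cf (f922587 IH) (Lpe (f922585 IH) (Lpe (f233596 IH) (Lpe (f21883 IH) (Lpe (f21674 IH) (Lpr_gt (f3587 IH) (Lpr_ct (f3697 IH) (Lpr_gt (f3698 IH) (Lpr_ct (f247861 IH) (Lpn (LP (LK LD1_c27 LD2_c46 LD3_c46))))))))))))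
theorem f922589 : Led Lsl_dt (LP (LK LD1_c18 LD2_c6 LD3_c24)) = (LP (LK LD1_c27 LD2_c46 LD3_c46)) :=
  Leop (Lpe (f922588 IH) (Lpn (LP (LK LD1_c18 LD2_c6 LD3_c24))))
theorem seed_2447 : LEOK LG_d (LK LD1_c18 LD2_c6 LD3_c24) :=
  Leoe_d (LK LD1_c18 LD2_c6 LD3_c24) (f922589 IH)
theorem f214627 : Led Lsl_bt (LP (LK LD1_c5 LD2_c11 LD3_c11)) = (LP (LK LD1_c10 LD2_c12 LD3_c55)) :=
  Lre_b IH (LK LD1_c5 LD2_c11 LD3_c11) (LK LD1_c10 LD2_c12 LD3_c55) Lrfl Lrfl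
theorem f724216 : Led Lsl_cf (LP (LK LD1_c5 LD2_c16 LD3_c5)) = K53.v14640 :=
  Lgr Lrot11 (Lpr_ct (K53.f724215 IH) (Lpn K53.v14640))
theorem f48514 : Led Lsl_gt (LP (LK LD1_c5 LD2_c16 LD3_c5)) = (LP (LK LD1_c2 LD2_c34 LD3_c51)) :=
  Lre_g IH (LK LD1_c5 LD2_c16 LD3_c5) (LK LD1_c2 LD2_c34 LD3_c51) Lrfl Lrfl
theorem f35142 : Led Lsl_ct (LP (LK LD1_c1 LD2_c14 LD3_c31)) = (LP (LK LD1_c2 LD2_c34 LD3_c51)) :=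
  Lre_c IH (LK LD1_c1 LD2_c14 LD3_c31) (LK LD1_c2 LD2_c34 LD3_c51) Lrfl Lrfl
def v4566 : LQ := Led Lsl_gf (LP (LK LD1_c2 LD2_c29 LD3_c37))
theorem f636162 : Led Lsl_gf (LP (LK LD1_c2 LD2_c29 LD3_c37)) = v4566 :=
  Lrfl
theorem f21474 : Led Lsl_at (LP (LK LD1_c1 LD2_c11 LD3_c52)) = (LP (LK LD1_c2 LD2_c29 LD3_c37)) :=
  Lre_a IH (LK LD1_c1 LD2_c11 LD3_c52) (LK LD1_c2 LD2_c29 LD3_c37) Lrfl Lrfl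
theorem f21951 : Led Lsl_ft (LP (LK LD1_c2 LD2_c29 LD3_c39)) = (LP (LK LD1_c1 LD2_c11 LD3_c52)) :=
  Lre_f IH (LK LD1_c2 LD2_c29 LD3_c39) (LK LD1_c1 LD2_c11 LD3_c52) Lrfl Lrfl
theorem f636163 : Led Lsl_gt (LP (LK LD1_c2 LD2_c29 LD3_c39)) = v4566 :=
  Lgr Lrot5 (Lpr_ft (f21951 IH) (Lpr_at (f21474 IH) (Lpr_gf (f636162 IH) (Lpn v4566))))
theorem f724226 : Led Lsl_bf v4566 = K53.v14640 :=
  Lgr Lrot34 (Lpe (f636163 IH) (Lpe (K44.f163753 IH) (Lpr_ct (K8.f33389 IH) (Lpr_gf (K10.f163914 IH) (Lpe (K10.f163928 IH) (Lpe (K10.f171618 IH) (Lpe (K10.f32669 IH) (Lpr_ct (f35142 IH) (Lpe (f48514 IH) (Lpr_cf (f724216 IH) (Lpn K53.v14640)))))))))))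
theorem f724227 : Led Lsl_bt v4566 = K53.v14640 :=
  Lgr Lrot127 (Lpr_bf (f724226 IH) (Lpn K53.v14640))
def v14265 : LQ := Led Lsl_gt (LP (LK LD1_c5 LD2_c4 LD3_c22))
theorem f721570 : Led Lsl_gt (LP (LK LD1_c5 LD2_c4 LD3_c22)) = v14265 :=
  Lrfl
theorem f721571 : Led Lsl_ft (LP (LK LD1_c5 LD2_c4 LD3_c22)) = (LP (LK LD1_c2 LD2_c29 LD3_c36)) :=
  Lre_f IH (LK LD1_c5 LD2_c4 LD3_c22) (LK LD1_c2 LD2_c29 LD3_c36) Lrfl Lrfl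
theorem f721572 : Led Lsl_gf (LP (LK LD1_c5 LD2_c4 LD3_c27)) = v14265 :=
  Lgr Lrot76 (Lpe (K53.f585497 IH) (Lpe (f721571 IH) (Lpr_gt (f721570 IH) (Lpn v14265))))
def v4565 : LQ := Led Lsl_gt (LP (LK LD1_c2 LD2_c29 LD3_c37))
theorem f636160 : Led Lsl_gt (LP (LK LD1_c2 LD2_c29 LD3_c37)) = v4565 :=
  Lrfl
theorem f163852 : Led Lsl_at (LP (LK LD1_c5 LD2_c4 LD3_c21)) = (LP (LK LD1_c2 LD2_c29 LD3_c39)) :=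
  Lre_a IH (LK LD1_c5 LD2_c4 LD3_c21) (LK LD1_c2 LD2_c29 LD3_c39) Lrfl Lrfl
theorem f636161 : Led Lsl_gf (LP (LK LD1_c2 LD2_c29 LD3_c39)) = v4565 :=
  Lgr Lrot76 (Lpe (f163852 IH) (Lpe (K0.f21576 IH) (Lpr_gt (f636160 IH) (Lpn v4565))))
theorem f721646 : Led Lsl_ft (LP (LK LD1_c5 LD2_c4 LD3_c28)) = (LP (LK LD1_c9 LD2_c59 LD3_c35)) :=
  Lre_f IH (LK LD1_c5 LD2_c4 LD3_c28) (LK LD1_c9 LD2_c59 LD3_c35) Lrfl Lrfl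
theorem f724336 : Led Lsl_cf (LP (LK LD1_c17 LD2_c47 LD3_c48)) = (LP (LK LD1_c9 LD2_c59 LD3_c35)) :=
  Lgr Lrot108 (Lpr_ft (K53.f724269 IH) (Lpr_ct (K44.f247940 IH) (Lpr_ft (f721646 IH) (Lpn (LP (LK LD1_c9 LD2_c59 LD3_c35))))))
theorem f603811 : Led Lsl_ct (LP (LK LD1_c18 LD2_c29 LD3_c22)) = (LP (LK LD1_c10 LD2_c9 LD3_c8)) :=
  Lre_c IH (LK LD1_c18 LD2_c29 LD3_c22) (LK LD1_c10 LD2_c9 LD3_c8) Lrfl Lrfl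
theorem f21478 : Led Lsl_bt (LP (LK LD1_c1 LD2_c11 LD3_c52)) = (LP (LK LD1_c0 LD2_c33 LD3_c15)) :=
  Lre_b IH (LK LD1_c1 LD2_c11 LD3_c52) (LK LD1_c0 LD2_c33 LD3_c15) Lrfl Lrfl
theorem f21594 : Led Lsl_at (LP (LK LD1_c2 LD2_c29 LD3_c37)) = (LP (LK LD1_c1 LD2_c11 LD3_c52)) :=
  Lre_a IH (LK LD1_c2 LD2_c29 LD3_c37) (LK LD1_c1 LD2_c11 LD3_c52) Lrfl Lrfl
theorem f163784 : Led Lsl_bf (LP (LK LD1_c2 LD2_c29 LD3_c37)) = (LP (LK LD1_c2 LD2_c32 LD3_c43)) :=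
  Lgr Lrot81 (Lpr_at (f21594 IH) (Lpr_bt (f21478 IH) (Lpr_at (K8.f163765 IH) (Lpr_bt (K44.f21477 IH) (Lpr_at (K53.f21593 IH) (Lpn (LP (LK LD1_c2 LD2_c32 LD3_c43))))))))
theorem f721580 : Led Lsl_bt (LP (LK LD1_c9 LD2_c59 LD3_c35)) = (LP (LK LD1_c5 LD2_c4 LD3_c22)) :=
  Lre_b IH (LK LD1_c9 LD2_c59 LD3_c35) (LK LD1_c5 LD2_c4 LD3_c22) Lrfl Lrfl
theorem f724345 : v4565 = (LP (LK LD1_c5 LD2_c4 LD3_c22)) :=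
  (Llr Lrot164 (Lpe (f636160 IH) (Lpr_bf (f163784 IH) (Lpr_ct (K2.f21637 IH) (Lpr_gf (K53.f603807 IH) (Lpe (f603811 IH) (Lpe (K53.f603882 IH) (Lpe (K44.f260132 IH) (Lpr_ct (K53.f260141 IH) (Lpr_gf (K44.f582876 IH) (Lpr_cf (f724336 IH) (Lpr_bt (f721580 IH) (Lpn (LP (LK LD1_c5 LD2_c4 LD3_c22))))))))))))))).symm
theorem f724346 : (LP (LK LD1_c2 LD2_c29 LD3_c39)) = v14265 :=
  Lefun (Lecon (Lfl_gf (f636161 IH)) (f724345 IH)) (f721570 IH)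
theorem f724350 : (LP (LK LD1_c5 LD2_c4 LD3_c27)) = v4566 :=
  Lefun (Lecon (Lfl_gf (f721572 IH)) (f724346 IH).symm) (f636163 IH)
theorem f724353 : K53.v14640 = (LP (LK LD1_c9 LD2_c59 LD3_c44)) :=
  Lefun (Lecon (f724227 IH) (f724350 IH).symm) (K53.f585496 IH)
theorem f721584 : Led Lsl_ct (LP (LK LD1_c5 LD2_c4 LD3_c27)) = (LP (LK LD1_c9 LD2_c59 LD3_c50)) :=
  Lre_c IH (LK LD1_c5 LD2_c4 LD3_c27) (LK LD1_c9 LD2_c59 LD3_c50) Lrfl Lrfl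
theorem f922592 : Led Lsl_gt (LP (LK LD1_c18 LD2_c6 LD3_c24)) = (LP (LK LD1_c9 LD2_c59 LD3_c50)) :=
  Lgr Lrot149 (Lpr_cf (f922587 IH) (Lpe (f922585 IH) (Lpe (K44.f233598 IH) (Lpr_ct (K44.f405335 IH) (Lpe (K44.f584318 IH) (Lpe (K44.f214626 IH) (Lpr_bt (f214627 IH) (Lpr_gf (K53.f724218 IH) (Lpqs (f724353 IH) (Lpe (K53.f585496 IH) (Lpr_ct (f721584 IH) (Lpn (LP (LK LD1_c9 LD2_c59 LD3_c50))))))))))))))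
theorem f922593 : Led Lsl_gt (LP (LK LD1_c18 LD2_c6 LD3_c24)) = (LP (LK LD1_c9 LD2_c59 LD3_c50)) :=
  Leop (Lpe (f922592 IH) (Lpn (LP (LK LD1_c18 LD2_c6 LD3_c24))))
theorem seed_2448 : LEOK LG_g (LK LD1_c18 LD2_c6 LD3_c24) :=
  Leoe_g (LK LD1_c18 LD2_c6 LD3_c24) (f922593 IH)
def v41215 : LQ := Led Lsl_ft (LP (LK LD1_c9 LD2_c54 LD3_c18))
theorem f922609 : Led Lsl_ft (LP (LK LD1_c9 LD2_c54 LD3_c18)) = v41215 :=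
  Lrfl
theorem f585931 : Led Lsl_cf (LP (LK LD1_c5 LD2_c18 LD3_c40)) = (LP (LK LD1_c9 LD2_c54 LD3_c16)) :=
  Lgr Lrot11 (Lpr_ct (K44.f585922 IH) (Lpn (LP (LK LD1_c9 LD2_c54 LD3_c16))))
theorem f585937 : Led Lsl_at (LP (LK LD1_c5 LD2_c1 LD3_c53)) = (LP (LK LD1_c9 LD2_c54 LD3_c16)) :=
  Lre_a IH (LK LD1_c5 LD2_c1 LD3_c53) (LK LD1_c9 LD2_c54 LD3_c16) Lrfl Lrfl
theorem f604309 : Led Lsl_at (LP (LK LD1_c5 LD2_c18 LD3_c40)) = (LP (LK LD1_c9 LD2_c54 LD3_c18)) :=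
  Lgr Lrot107 (Lpr_cf (f585931 IH) (Lpe (f585937 IH) (Lpe (K44.f164042 IH) (Lpn (LP (LK LD1_c9 LD2_c54 LD3_c18))))))
theorem f165399 : Led Lsl_ct (LP (LK LD1_c5 LD2_c1 LD3_c54)) = (LP (LK LD1_c9 LD2_c54 LD3_c23)) :=
  Lre_c IH (LK LD1_c5 LD2_c1 LD3_c54) (LK LD1_c9 LD2_c54 LD3_c23) Lrfl Lrfl
theorem f585935 : Led Lsl_ff (LP (LK LD1_c5 LD2_c18 LD3_c40)) = (LP (LK LD1_c9 LD2_c54 LD3_c23)) :=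
  Lgr Lrot23 (Lpr_ct (K44.f585922 IH) (Lpr_ft (K44.f585934 IH) (Lpr_ct (f165399 IH) (Lpn (LP (LK LD1_c9 LD2_c54 LD3_c23))))))
theorem f922610 : Led Lsl_af (LP (LK LD1_c9 LD2_c54 LD3_c23)) = v41215 :=
  Lgr Lrot45 (Lpe (f585935 IH) (Lpr_at (f604309 IH) (Lpr_ft (f922609 IH) (Lpn v41215))))
theorem f922614 : Led Lsl_gt v41213 = (LP (LK LD1_c9 LD2_c54 LD3_c23)) :=
  Lgr Lrot46 (Lpe (f922585 IH) (Lpr_ft (f922609 IH) (Lpe (f922610 IH) (Lpn (LP (LK LD1_c9 LD2_c54 LD3_c23))))))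
theorem f333251 : Led Lsl_bt (LP (LK LD1_c18 LD2_c51 LD3_c49)) = (LP (LK LD1_c10 LD2_c25 LD3_c52)) :=
  Lgr Lrot127 (Lpr_bf (K22.f333243 IH) (Lpn (LP (LK LD1_c10 LD2_c25 LD3_c52))))
theorem f333253 : Led Lsl_bf (LP (LK LD1_c10 LD2_c25 LD3_c46)) = (LP (LK LD1_c18 LD2_c5 LD3_c49)) :=
  Lgr Lrot61 (Lpr_ft (K37.f322005 IH) (Lpr_bt (f333251 IH) (Lpe (K22.f333234 IH) (Lpn (LP (LK LD1_c18 LD2_c5 LD3_c49))))))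
theorem f284768 : Led Lsl_bt (LP (LK LD1_c8 LD2_c52 LD3_c15)) = (LP (LK LD1_c4 LD2_c27 LD3_c16)) :=
  Lre_b IH (LK LD1_c8 LD2_c52 LD3_c15) (LK LD1_c4 LD2_c27 LD3_c16) Lrfl Lrfl
theorem f317312 : Led Lsl_at (LP (LK LD1_c16 LD2_c35 LD3_c7)) = (LP (LK LD1_c8 LD2_c52 LD3_c15)) :=
  Lre_a IH (LK LD1_c16 LD2_c35 LD3_c7) (LK LD1_c8 LD2_c52 LD3_c15) Lrfl Lrfl
theorem f317313 : Led Lsl_bf (LP (LK LD1_c16 LD2_c35 LD3_c7)) = (LP (LK LD1_c16 LD2_c35 LD3_c45)) :=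
  Lgr Lrot81 (Lpr_at (f317312 IH) (Lpr_bt (f284768 IH) (Lpr_at (K20.f317308 IH) (Lpr_bt (K19.f215039 IH) (Lpr_at (K37.f215094 IH) (Lpn (LP (LK LD1_c16 LD2_c35 LD3_c45))))))))
theorem f333183 : Led Lsl_af (LP (LK LD1_c2 LD2_c28 LD3_c29)) = (LP (LK LD1_c5 LD2_c0 LD3_c49)) :=
  Lgr Lrot31 (Lpr_gf (K13.f184544 IH) (Lpr_gf (K14.f247722 IH) (Lpr_ft (K22.f333171 IH) (Lpn (LP (LK LD1_c5 LD2_c0 LD3_c49))))))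
theorem f252854 : Led Lsl_bt (LP (LK LD1_c2 LD2_c28 LD3_c29)) = (LP (LK LD1_c5 LD2_c1 LD3_c34)) :=
  Lre_b IH (LK LD1_c2 LD2_c28 LD3_c29) (LK LD1_c5 LD2_c1 LD3_c34) Lrfl Lrfl
theorem f186873 : Led Lsl_bt (LP (LK LD1_c9 LD2_c51 LD3_c59)) = (LP (LK LD1_c5 LD2_c0 LD3_c49)) :=
  Lre_b IH (LK LD1_c9 LD2_c51 LD3_c59) (LK LD1_c5 LD2_c0 LD3_c49) Lrfl Lrfl
theorem f333186 : Led Lsl_at (LP (LK LD1_c18 LD2_c3 LD3_c31)) = (LP (LK LD1_c9 LD2_c51 LD3_c59)) :=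
  Lre_a IH (LK LD1_c18 LD2_c3 LD3_c31) (LK LD1_c9 LD2_c51 LD3_c59) Lrfl Lrfl
theorem f333187 : Led Lsl_bt (LP (LK LD1_c9 LD2_c53 LD3_c27)) = (LP (LK LD1_c18 LD2_c3 LD3_c31)) :=
  Lgr Lrot62 (Lpe (K44.f333185 IH) (Lpe (f252854 IH) (Lpr_af (f333183 IH) (Lpe (f186873 IH) (Lpe (f333186 IH) (Lpn (LP (LK LD1_c18 LD2_c3 LD3_c31))))))))
theorem f333189 : Led Lsl_bf (LP (LK LD1_c9 LD2_c53 LD3_c27)) = (LP (LK LD1_c18 LD2_c3 LD3_c31)) :=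
  Lgr Lrot24 (Lpr_bt (f333187 IH) (Lpn (LP (LK LD1_c18 LD2_c3 LD3_c31))))
theorem f333255 : Led Lsl_ct (LP (LK LD1_c16 LD2_c35 LD3_c7)) = (LP (LK LD1_c18 LD2_c3 LD3_c31)) :=
  Lgr Lrot83 (Lpr_bf (f317313 IH) (Lpr_cf (K37.f215206 IH) (Lpr_bf (f333253 IH) (Lpe (K44.f333193 IH) (Lpr_bf (f333189 IH) (Lpn (LP (LK LD1_c18 LD2_c3 LD3_c31))))))))
theorem f333257 : Led Lsl_at (LP (LK LD1_c8 LD2_c52 LD3_c15)) = (LP (LK LD1_c16 LD2_c35 LD3_c7)) :=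
  Lre_a IH (LK LD1_c8 LD2_c52 LD3_c15) (LK LD1_c16 LD2_c35 LD3_c7) Lrfl Lrfl
theorem f333258 : Led Lsl_cf (LP (LK LD1_c8 LD2_c52 LD3_c15)) = (LP (LK LD1_c9 LD2_c51 LD3_c59)) :=
  Lgr Lrot1 (Lpr_at (f333257 IH) (Lpr_ct (f333255 IH) (Lpr_at (f333186 IH) (Lpn (LP (LK LD1_c9 LD2_c51 LD3_c59))))))
theorem f284771 : Led Lsl_bt (LP (LK LD1_c4 LD2_c27 LD3_c16)) = (LP (LK LD1_c8 LD2_c52 LD3_c15)) :=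
  Lre_b IH (LK LD1_c4 LD2_c27 LD3_c16) (LK LD1_c8 LD2_c52 LD3_c15) Lrfl Lrfl
theorem f47143 : Led Lsl_bt (LP (LK LD1_c8 LD2_c52 LD3_c41)) = (LP (LK LD1_c4 LD2_c27 LD3_c27)) :=
  Lre_b IH (LK LD1_c8 LD2_c52 LD3_c41) (LK LD1_c4 LD2_c27 LD3_c27) Lrfl Lrfl
theorem f317319 : Led Lsl_ft (LP (LK LD1_c8 LD2_c52 LD3_c15)) = (LP (LK LD1_c8 LD2_c52 LD3_c41)) :=
  Lgr Lrot75 (Lpe (f284771 IH) (Lpr_ff (K20.f317317 IH) (Lpe (f47143 IH) (Lpn (LP (LK LD1_c8 LD2_c52 LD3_c41))))))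
theorem f3783 : Led Lsl_bt (LP (LK LD1_c2 LD2_c28 LD3_c31)) = (LP (LK LD1_c1 LD2_c11 LD3_c29)) :=
  Lre_b IH (LK LD1_c2 LD2_c28 LD3_c31) (LK LD1_c1 LD2_c11 LD3_c29) Lrfl Lrfl
theorem f291944 : Led Lsl_cf (LP (LK LD1_c8 LD2_c52 LD3_c41)) = (LP (LK LD1_c5 LD2_c1 LD3_c41)) :=
  Lgr Lrot97 (Lpr_bt (f47143 IH) (Lpr_ct (K26.f291942 IH) (Lpr_bt (f3783 IH) (Lpr_ct (K14.f33303 IH) (Lpr_bt (f33313 IH) (Lpn (LP (LK LD1_c5 LD2_c1 LD3_c41))))))))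
theorem f291964 : Led Lsl_ct (LP (LK LD1_c8 LD2_c52 LD3_c41)) = (LP (LK LD1_c5 LD2_c1 LD3_c41)) :=
  Lgr Lrot59 (Lpr_cf (f291944 IH) (Lpn (LP (LK LD1_c5 LD2_c1 LD3_c41))))
theorem f333267 : Led Lsl_ft (LP (LK LD1_c5 LD2_c1 LD3_c41)) = (LP (LK LD1_c9 LD2_c51 LD3_c59)) :=
  Lgr Lrot4 (Lpe (f291964 IH) (Lpe (f317319 IH) (Lpr_cf (f333258 IH) (Lpn (LP (LK LD1_c9 LD2_c51 LD3_c59))))))
theorem f291963 : Led Lsl_at (LP (LK LD1_c9 LD2_c53 LD3_c47)) = (LP (LK LD1_c5 LD2_c1 LD3_c41)) :=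
  Lre_a IH (LK LD1_c9 LD2_c53 LD3_c47) (LK LD1_c5 LD2_c1 LD3_c41) Lrfl Lrfl
theorem f333195 : Led Lsl_at (LP (LK LD1_c9 LD2_c51 LD3_c59)) = (LP (LK LD1_c18 LD2_c3 LD3_c31)) :=
  Lre_a IH (LK LD1_c9 LD2_c51 LD3_c59) (LK LD1_c18 LD2_c3 LD3_c31) Lrfl Lrfl
theorem f333282 : Led Lsl_ff (LP (LK LD1_c9 LD2_c53 LD3_c47)) = (LP (LK LD1_c18 LD2_c3 LD3_c31)) :=
  Lgr Lrot30 (Lpr_at (f291963 IH) (Lpr_ft (f333267 IH) (Lpr_at (f333195 IH) (Lpn (LP (LK LD1_c18 LD2_c3 LD3_c31))))))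
theorem f333291 : Led Lsl_gf (LP (LK LD1_c9 LD2_c53 LD3_c46)) = (LP (LK LD1_c18 LD2_c3 LD3_c31)) :=
  Lgr Lrot47 (Lpr_gt (f291970 IH) (Lpe (f291963 IH) (Lpr_ff (f333282 IH) (Lpn (LP (LK LD1_c18 LD2_c3 LD3_c31))))))
theorem f585986 : Led Lsl_bt (LP (LK LD1_c5 LD2_c1 LD3_c54)) = (LP (LK LD1_c9 LD2_c54 LD3_c22)) :=
  Lre_b IH (LK LD1_c5 LD2_c1 LD3_c54) (LK LD1_c9 LD2_c54 LD3_c22) Lrfl Lrfl
theorem f604291 : Led Lsl_gt (LP (LK LD1_c9 LD2_c54 LD3_c22)) = (LP (LK LD1_c18 LD2_c7 LD3_c44)) :=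
  Lre_g IH (LK LD1_c9 LD2_c54 LD3_c22) (LK LD1_c18 LD2_c7 LD3_c44) Lrfl Lrfl
theorem f922615 : Led Lsl_cf (LP (LK LD1_c10 LD2_c25 LD3_c50)) = (LP (LK LD1_c18 LD2_c7 LD3_c44)) :=
  Lgr Lrot125 (Lpr_gt (K37.f402291 IH) (Lpe (K44.f333193 IH) (Lpr_bt (f333187 IH) (Lpe (f333291 IH) (Lpe (f291971 IH) (Lpr_ct (f922586 IH) (Lpr_gt (f922614 IH) (Lpe (f165399 IH) (Lpr_bt (f585986 IH) (Lpr_gt (f604291 IH) (Lpn (LP (LK LD1_c18 LD2_c7 LD3_c44)))))))))))))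
theorem f922616 : Led Lsl_ct (LP (LK LD1_c18 LD2_c7 LD3_c44)) = (LP (LK LD1_c10 LD2_c25 LD3_c50)) :=
  Leop (Lpr_cf (f922615 IH) (Lpn (LP (LK LD1_c18 LD2_c7 LD3_c44))))
theorem seed_2449 : LEOK LG_c (LK LD1_c18 LD2_c7 LD3_c44) :=
  Leoe_c (LK LD1_c18 LD2_c7 LD3_c44) (f922616 IH)
def v41220 : LQ := Led Lsl_ct (LP (LK LD1_c9 LD2_c54 LD3_c22))
theorem f922633 : Led Lsl_ct (LP (LK LD1_c9 LD2_c54 LD3_c22)) = v41220 :=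
  Lrfl
theorem f922635 : Led Lsl_cf (LP (LK LD1_c9 LD2_c54 LD3_c22)) = v41220 :=
  Lgr Lrot11 (Lpr_ct (f922633 IH) (Lpn v41220))
theorem f585984 : Led Lsl_at (LP (LK LD1_c19 LD2_c1 LD3_c61)) = (LP (LK LD1_c10 LD2_c30 LD3_c15)) :=
  Lre_a IH (LK LD1_c19 LD2_c1 LD3_c61) (LK LD1_c10 LD2_c30 LD3_c15) Lrfl Lrfl
theorem f586040 : Led Lsl_ft (LP (LK LD1_c10 LD2_c30 LD3_c10)) = (LP (LK LD1_c19 LD2_c1 LD3_c61)) :=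
  Lre_f IH (LK LD1_c10 LD2_c30 LD3_c10) (LK LD1_c19 LD2_c1 LD3_c61) Lrfl Lrfl
theorem f586041 : Led Lsl_af (LP (LK LD1_c10 LD2_c30 LD3_c10)) = (LP (LK LD1_c9 LD2_c54 LD3_c17)) :=
  Lgr Lrot45 (Lpr_ft (f586040 IH) (Lpr_at (f585984 IH) (Lpr_ft (K44.f586037 IH) (Lpn (LP (LK LD1_c9 LD2_c54 LD3_c17))))))
theorem f190561 : Led Lsl_bt (LP (LK LD1_c10 LD2_c30 LD3_c10)) = (LP (LK LD1_c19 LD2_c1 LD3_c59)) :=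
  Lre_b IH (LK LD1_c10 LD2_c30 LD3_c10) (LK LD1_c19 LD2_c1 LD3_c59) Lrfl Lrfl
theorem f585927 : Led Lsl_at (LP (LK LD1_c9 LD2_c54 LD3_c16)) = (LP (LK LD1_c5 LD2_c1 LD3_c53)) :=
  Lre_a IH (LK LD1_c9 LD2_c54 LD3_c16) (LK LD1_c5 LD2_c1 LD3_c53) Lrfl Lrfl
theorem f585948 : Led Lsl_bt (LP (LK LD1_c18 LD2_c7 LD3_c31)) = (LP (LK LD1_c9 LD2_c54 LD3_c16)) :=
  Lre_b IH (LK LD1_c18 LD2_c7 LD3_c31) (LK LD1_c9 LD2_c54 LD3_c16) Lrfl Lrfl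
theorem f604275 : Led Lsl_at (LP (LK LD1_c19 LD2_c1 LD3_c59)) = (LP (LK LD1_c18 LD2_c7 LD3_c31)) :=
  Lgr Lrot67 (Lpe (f190561 IH) (Lpr_af (f586041 IH) (Lpe (K44.f233597 IH) (Lpe (f585927 IH) (Lpe (f585948 IH) (Lpn (LP (LK LD1_c18 LD2_c7 LD3_c31))))))))
theorem f604279 : Led Lsl_ft (LP (LK LD1_c18 LD2_c7 LD3_c31)) = (LP (LK LD1_c9 LD2_c54 LD3_c22)) :=
  Lre_f IH (LK LD1_c18 LD2_c7 LD3_c31) (LK LD1_c9 LD2_c54 LD3_c22) Lrfl Lrfl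
theorem f585987 : Led Lsl_at (LP (LK LD1_c9 LD2_c54 LD3_c22)) = (LP (LK LD1_c18 LD2_c7 LD3_c45)) :=
  Lre_a IH (LK LD1_c9 LD2_c54 LD3_c22) (LK LD1_c18 LD2_c7 LD3_c45) Lrfl Lrfl
theorem f604280 : Led Lsl_ff (LP (LK LD1_c19 LD2_c1 LD3_c59)) = (LP (LK LD1_c18 LD2_c7 LD3_c45)) :=
  Lgr Lrot30 (Lpr_at (f604275 IH) (Lpr_ft (f604279 IH) (Lpr_at (f585987 IH) (Lpn (LP (LK LD1_c18 LD2_c7 LD3_c45))))))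
theorem f604285 : Led Lsl_ft (LP (LK LD1_c19 LD2_c1 LD3_c59)) = (LP (LK LD1_c18 LD2_c7 LD3_c45)) :=
  Lgr Lrot48 (Lpr_ff (f604280 IH) (Lpn (LP (LK LD1_c18 LD2_c7 LD3_c45))))
theorem f46994 : Led Lsl_bt (LP (LK LD1_c2 LD2_c36 LD3_c32)) = (LP (LK LD1_c5 LD2_c19 LD3_c45)) :=
  Lre_b IH (LK LD1_c2 LD2_c36 LD3_c32) (LK LD1_c5 LD2_c19 LD3_c45) Lrfl Lrfl
theorem f190547 : Led Lsl_bt (LP (LK LD1_c19 LD2_c0 LD3_c39)) = (LP (LK LD1_c10 LD2_c29 LD3_c21)) :=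
  Lre_b IH (LK LD1_c19 LD2_c0 LD3_c39) (LK LD1_c10 LD2_c29 LD3_c21) Lrfl Lrfl
theorem f190548 : Led Lsl_ct (LP (LK LD1_c9 LD2_c53 LD3_c58)) = (LP (LK LD1_c18 LD2_c6 LD3_c43)) :=
  Lre_c IH (LK LD1_c9 LD2_c53 LD3_c58) (LK LD1_c18 LD2_c6 LD3_c43) Lrfl Lrfl
theorem f190549 : Led Lsl_gt (LP (LK LD1_c18 LD2_c6 LD3_c43)) = (LP (LK LD1_c27 LD2_c47 LD3_c38)) :=
  Lre_g IH (LK LD1_c18 LD2_c6 LD3_c43) (LK LD1_c27 LD2_c47 LD3_c38) Lrfl Lrfl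
theorem f190550 : Led Lsl_ct (LP (LK LD1_c19 LD2_c0 LD3_c39)) = (LP (LK LD1_c27 LD2_c47 LD3_c38)) :=
  Lgr Lrot63 (Lpr_bt (f190547 IH) (Lpr_gt (K44.f190546 IH) (Lpe (f46994 IH) (Lpr_ct (K1.f45886 IH) (Lpr_gt (K10.f184756 IH) (Lpr_cf (K14.f190537 IH) (Lpr_bt (K10.f190483 IH) (Lpr_gt (K44.f190500 IH) (Lpr_ct (f190548 IH) (Lpr_gt (f190549 IH) (Lpn (LP (LK LD1_c27 LD2_c47 LD3_c38)))))))))))))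
theorem f190560 : Led Lsl_ct (LP (LK LD1_c10 LD2_c30 LD3_c10)) = (LP (LK LD1_c5 LD2_c20 LD3_c6)) :=
  Lre_c IH (LK LD1_c10 LD2_c30 LD3_c10) (LK LD1_c5 LD2_c20 LD3_c6) Lrfl Lrfl
theorem f190563 : Led Lsl_gt (LP (LK LD1_c19 LD2_c1 LD3_c59)) = (LP (LK LD1_c18 LD2_c6 LD3_c42)) :=
  Lgr Lrot164 (Lpe (f190561 IH) (Lpr_ct (f190560 IH) (Lpe (K44.f44893 IH) (Lpe (K44.f44866 IH) (Lpe (K44.f190546 IH) (Lpe (f190547 IH) (Lpr_ct (f190550 IH) (Lpe (f190549 IH) (Lpe (f190548 IH) (Lpr_bt (K44.f190562 IH) (Lpn (LP (LK LD1_c18 LD2_c6 LD3_c42)))))))))))))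
theorem f604288 : Led Lsl_at (LP (LK LD1_c18 LD2_c7 LD3_c45)) = (LP (LK LD1_c9 LD2_c54 LD3_c22)) :=
  Lre_a IH (LK LD1_c18 LD2_c7 LD3_c45) (LK LD1_c9 LD2_c54 LD3_c22) Lrfl Lrfl
theorem f604289 : Led Lsl_gt (LP (LK LD1_c18 LD2_c6 LD3_c42)) = (LP (LK LD1_c9 LD2_c54 LD3_c22)) :=
  Lgr Lrot46 (Lpe (f190563 IH) (Lpr_ft (f604285 IH) (Lpr_at (f604288 IH) (Lpn (LP (LK LD1_c9 LD2_c54 LD3_c22))))))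
theorem f402471 : Led Lsl_ct (LP (LK LD1_c10 LD2_c25 LD3_c51)) = (LP (LK LD1_c18 LD2_c6 LD3_c42)) :=
  Lgr Lrot59 (Lpr_cf (K44.f402465 IH) (Lpn (LP (LK LD1_c18 LD2_c6 LD3_c42))))
theorem f165438 : Led Lsl_ct (LP (LK LD1_c9 LD2_c54 LD3_c23)) = (LP (LK LD1_c5 LD2_c1 LD3_c54)) :=
  Lre_c IH (LK LD1_c9 LD2_c54 LD3_c23) (LK LD1_c5 LD2_c1 LD3_c54) Lrfl Lrfl
theorem f21882 : Led Lsl_gt (LP (LK LD1_c5 LD2_c1 LD3_c54)) = (LP (LK LD1_c2 LD2_c28 LD3_c36)) :=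
  Lre_g IH (LK LD1_c5 LD2_c1 LD3_c54) (LK LD1_c2 LD2_c28 LD3_c36) Lrfl Lrfl
theorem f604218 : Led Lsl_bt (LP (LK LD1_c9 LD2_c54 LD3_c23)) = (LP (LK LD1_c5 LD2_c18 LD3_c44)) :=
  Lgr Lrot92 (Lpr_ct (f165438 IH) (Lpr_gt (f21882 IH) (Lpe (K45.f21480 IH) (Lpr_bt (f21478 IH) (Lpr_gt (K9.f21393 IH) (Lpe (K9.f169570 IH) (Lpe (K9.f32807 IH) (Lpe (K10.f32240 IH) (Lpr_bt (K44.f32581 IH) (Lpr_gt (K53.f586109 IH) (Lpn (LP (LK LD1_c5 LD2_c18 LD3_c44)))))))))))))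
theorem f604223 : Led Lsl_bf (LP (LK LD1_c9 LD2_c54 LD3_c23)) = (LP (LK LD1_c5 LD2_c18 LD3_c44)) :=
  Lgr Lrot24 (Lpr_bt (f604218 IH) (Lpn (LP (LK LD1_c5 LD2_c18 LD3_c44))))
theorem f922634 : Led Lsl_bf (LP (LK LD1_c10 LD2_c27 LD3_c2)) = v41220 :=
  Lgr Lrot90 (Lpr_ct (K53.f586264 IH) (Lpe (f604223 IH) (Lpr_ct (f165438 IH) (Lpr_bt (f585986 IH) (Lpr_ct (f922633 IH) (Lpn v41220))))))
theorem f585833 : Led Lsl_bt (LP (LK LD1_c5 LD2_c18 LD3_c39)) = (LP (LK LD1_c10 LD2_c26 LD3_c53)) :=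
  Lre_b IH (LK LD1_c5 LD2_c18 LD3_c39) (LK LD1_c10 LD2_c26 LD3_c53) Lrfl Lrfl
theorem f586112 : Led Lsl_ct (LP (LK LD1_c5 LD2_c18 LD3_c39)) = (LP (LK LD1_c10 LD2_c26 LD3_c54)) :=
  Lre_c IH (LK LD1_c5 LD2_c18 LD3_c39) (LK LD1_c10 LD2_c26 LD3_c54) Lrfl Lrfl
theorem f170049 : Led Lsl_gt (LP (LK LD1_c5 LD2_c4 LD3_c2)) = (LP (LK LD1_c2 LD2_c29 LD3_c29)) :=
  Lre_g IH (LK LD1_c5 LD2_c4 LD3_c2) (LK LD1_c2 LD2_c29 LD3_c29) Lrfl Lrfl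
theorem f405260 : Led Lsl_gt (LP (LK LD1_c5 LD2_c11 LD3_c21)) = (LP (LK LD1_c5 LD2_c4 LD3_c2)) :=
  Lgr Lrot5 (Lpr_ft (K37.f307954 IH) (Lpr_at (K37.f267983 IH) (Lpe (f170049 IH) (Lpn (LP (LK LD1_c5 LD2_c4 LD3_c2))))))
theorem f170050 : Led Lsl_bt (LP (LK LD1_c9 LD2_c58 LD3_c57)) = (LP (LK LD1_c5 LD2_c4 LD3_c2)) :=
  Lre_b IH (LK LD1_c9 LD2_c58 LD3_c57) (LK LD1_c5 LD2_c4 LD3_c2) Lrfl Lrfl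
theorem f170051 : Led Lsl_ct (LP (LK LD1_c9 LD2_c58 LD3_c57)) = (LP (LK LD1_c18 LD2_c15 LD3_c25)) :=
  Lre_c IH (LK LD1_c9 LD2_c58 LD3_c57) (LK LD1_c18 LD2_c15 LD3_c25) Lrfl Lrfl
theorem f586279 : Led Lsl_gf (LP (LK LD1_c10 LD2_c26 LD3_c54)) = (LP (LK LD1_c18 LD2_c15 LD3_c25)) :=
  Lgr Lrot126 (Lpe (f586112 IH) (Lpr_bt (f585833 IH) (Lpr_gt (K45.f586274 IH) (Lpe (K44.f583772 IH) (Lpr_gt (K44.f307587 IH) (Lpe (K44.f307576 IH) (Lpe (K37.f351005 IH) (Lpr_gt (f405260 IH) (Lpe (f170050 IH) (Lpr_ct (f170051 IH) (Lpn (LP (LK LD1_c18 LD2_c15 LD3_c25)))))))))))))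
theorem f586118 : Led Lsl_at (LP (LK LD1_c5 LD2_c18 LD3_c41)) = (LP (LK LD1_c10 LD2_c26 LD3_c54)) :=
  Lre_a IH (LK LD1_c5 LD2_c18 LD3_c41) (LK LD1_c10 LD2_c26 LD3_c54) Lrfl Lrfl
theorem f586281 : Led Lsl_ft (LP (LK LD1_c10 LD2_c27 LD3_c2)) = (LP (LK LD1_c5 LD2_c18 LD3_c41)) :=
  Lre_f IH (LK LD1_c10 LD2_c27 LD3_c2) (LK LD1_c5 LD2_c18 LD3_c41) Lrfl Lrfl
theorem f586282 : Led Lsl_gt (LP (LK LD1_c10 LD2_c27 LD3_c2)) = (LP (LK LD1_c18 LD2_c15 LD3_c25)) :=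
  Lgr Lrot5 (Lpr_ft (f586281 IH) (Lpr_at (f586118 IH) (Lpr_gf (f586279 IH) (Lpn (LP (LK LD1_c18 LD2_c15 LD3_c25))))))
theorem f586287 : Led Lsl_ct (LP (LK LD1_c18 LD2_c15 LD3_c25)) = (LP (LK LD1_c9 LD2_c58 LD3_c57)) :=
  Lre_c IH (LK LD1_c18 LD2_c15 LD3_c25) (LK LD1_c9 LD2_c58 LD3_c57) Lrfl Lrfl
theorem f405736 : Led Lsl_at (LP (LK LD1_c5 LD2_c11 LD3_c36)) = (LP (LK LD1_c10 LD2_c13 LD3_c42)) :=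
  Lre_a IH (LK LD1_c5 LD2_c11 LD3_c36) (LK LD1_c10 LD2_c13 LD3_c42) Lrfl Lrfl
theorem f603694 : Led Lsl_gf (LP (LK LD1_c10 LD2_c13 LD3_c42)) = (LP (LK LD1_c18 LD2_c28 LD3_c36)) :=
  Lgr Lrot76 (Lpe (f405736 IH) (Lpe (K53.f405570 IH) (Lpr_gt (K53.f586289 IH) (Lpn (LP (LK LD1_c18 LD2_c28 LD3_c36))))))
theorem f405708 : Led Lsl_bt (LP (LK LD1_c5 LD2_c11 LD3_c34)) = (LP (LK LD1_c10 LD2_c13 LD3_c36)) :=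
  Lre_b IH (LK LD1_c5 LD2_c11 LD3_c34) (LK LD1_c10 LD2_c13 LD3_c36) Lrfl Lrfl
theorem f604167 : Led Lsl_gt (LP (LK LD1_c10 LD2_c13 LD3_c36)) = (LP (LK LD1_c9 LD2_c58 LD3_c57)) :=
  Lgr Lrot82 (Lpe (f405708 IH) (Lpr_ct (K53.f405687 IH) (Lpr_gf (f603694 IH) (Lpe (K53.f240076 IH) (Lpr_bt (K44.f583782 IH) (Lpe (K45.f586274 IH) (Lpe (f585833 IH) (Lpr_ct (f586112 IH) (Lpr_gf (f586279 IH) (Lpe (f170051 IH) (Lpn (LP (LK LD1_c9 LD2_c58 LD3_c57)))))))))))))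
theorem f405426 : Led Lsl_ft (LP (LK LD1_c10 LD2_c13 LD3_c36)) = (LP (LK LD1_c5 LD2_c11 LD3_c30)) :=
  Lre_f IH (LK LD1_c10 LD2_c13 LD3_c36) (LK LD1_c5 LD2_c11 LD3_c30) Lrfl Lrfl
theorem f604170 : Led Lsl_gf (LP (LK LD1_c10 LD2_c13 LD3_c32)) = (LP (LK LD1_c9 LD2_c58 LD3_c57)) :=
  Lgr Lrot76 (Lpe (K44.f405375 IH) (Lpe (f405426 IH) (Lpr_gt (f604167 IH) (Lpn (LP (LK LD1_c9 LD2_c58 LD3_c57))))))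
theorem f214590 : Led Lsl_bt (LP (LK LD1_c5 LD2_c18 LD3_c7)) = (LP (LK LD1_c10 LD2_c25 LD3_c54)) :=
  Lre_b IH (LK LD1_c5 LD2_c18 LD3_c7) (LK LD1_c10 LD2_c25 LD3_c54) Lrfl Lrfl
theorem f922641 : Led Lsl_gf (LP (LK LD1_c18 LD2_c55 LD3_c9)) = (LP (LK LD1_c10 LD2_c25 LD3_c54)) :=
  Lgr Lrot124 (Lpe (K44.f402468 IH) (Lpr_ct (f402471 IH) (Lpr_gt (f604289 IH) (Lpr_cf (f922635 IH) (Lpe (f922634 IH) (Lpr_gt (f586282 IH) (Lpr_ct (f586287 IH) (Lpe (f604170 IH) (Lpr_cf (K44.f405409 IH) (Lpr_bt (f214590 IH) (Lpn (LP (LK LD1_c10 LD2_c25 LD3_c54)))))))))))))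
theorem f922642 : Led Lsl_gt (LP (LK LD1_c10 LD2_c25 LD3_c54)) = (LP (LK LD1_c18 LD2_c55 LD3_c9)) :=
  Leop (Lpr_gf (f922641 IH) (Lpn (LP (LK LD1_c10 LD2_c25 LD3_c54))))
theorem seed_2450 : LEOK LG_g (LK LD1_c10 LD2_c25 LD3_c54) :=
  Leoe_g (LK LD1_c10 LD2_c25 LD3_c54) (f922642 IH)
def v41223 : LQ := Led Lsl_dt (LP (LK LD1_c9 LD2_c54 LD3_c23))
theorem f922657 : Led Lsl_dt (LP (LK LD1_c9 LD2_c54 LD3_c23)) = v41223 :=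
  Lrfl
theorem f586265 : Led Lsl_dt (LP (LK LD1_c10 LD2_c27 LD3_c6)) = (LP (LK LD1_c5 LD2_c18 LD3_c44)) :=
  Lre_d IH (LK LD1_c10 LD2_c27 LD3_c6) (LK LD1_c5 LD2_c18 LD3_c44) Lrfl Lrfl
theorem f922658 : Led Lsl_bf (LP (LK LD1_c10 LD2_c27 LD3_c6)) = v41223 :=
  Lgr Lrot93 (Lpr_dt (f586265 IH) (Lpe (f604223 IH) (Lpr_dt (f922657 IH) (Lpn v41223))))
theorem f370918 : Led Lsl_at (LP (LK LD1_c28 LD2_c20 LD3_c56)) = (LP (LK LD1_c18 LD2_c53 LD3_c12)) :=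
  Lre_a IH (LK LD1_c28 LD2_c20 LD3_c56) (LK LD1_c18 LD2_c53 LD3_c12) Lrfl Lrfl
theorem f285461 : Led Lsl_df (LP (LK LD1_c18 LD2_c30 LD3_c60)) = (LP (LK LD1_c18 LD2_c54 LD3_c31)) :=
  Lgr Lrot38 (Lpr_dt (K44.f285445 IH) (Lpn (LP (LK LD1_c18 LD2_c54 LD3_c31))))
theorem f285467 : Led Lsl_dt (LP (LK LD1_c28 LD2_c5 LD3_c10)) = (LP (LK LD1_c28 LD2_c22 LD3_c19)) :=
  Lgr Lrot44 (Lpe (K44.f285465 IH) (Lpr_df (f285461 IH) (Lpe (K44.f285466 IH) (Lpn (LP (LK LD1_c28 LD2_c22 LD3_c19))))))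
theorem f278402 : Led Lsl_dt (LP (LK LD1_c28 LD2_c20 LD3_c56)) = (LP (LK LD1_c18 LD2_c53 LD3_c11)) :=
  Lre_d IH (LK LD1_c28 LD2_c20 LD3_c56) (LK LD1_c18 LD2_c53 LD3_c11) Lrfl Lrfl
theorem f370902 : Led Lsl_ft (LP (LK LD1_c28 LD2_c22 LD3_c19)) = (LP (LK LD1_c28 LD2_c20 LD3_c56)) :=
  Lgr Lrot54 (Lpe (f285467 IH) (Lpr_ff (K44.f370895 IH) (Lpe (f278402 IH) (Lpn (LP (LK LD1_c28 LD2_c20 LD3_c56))))))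
theorem f583655 : Led Lsl_gt (LP (LK LD1_c28 LD2_c22 LD3_c19)) = (LP (LK LD1_c25 LD2_c24 LD3_c2)) :=
  Lgr Lrot5 (Lpr_ft (f370902 IH) (Lpr_at (f370918 IH) (Lpr_gf (K44.f583653 IH) (Lpn (LP (LK LD1_c25 LD2_c24 LD3_c2))))))
theorem f44216 : Led Lsl_gt (LP (LK LD1_c16 LD2_c34 LD3_c47)) = (LP (LK LD1_c26 LD2_c32 LD3_c14)) :=
  Lre_g IH (LK LD1_c16 LD2_c34 LD3_c47) (LK LD1_c26 LD2_c32 LD3_c14) Lrfl Lrfl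
theorem f46514 : Led Lsl_bt (LP (LK LD1_c32 LD2_c10 LD3_c25)) = (LP (LK LD1_c26 LD2_c32 LD3_c14)) :=
  Lre_b IH (LK LD1_c32 LD2_c10 LD3_c25) (LK LD1_c26 LD2_c32 LD3_c14) Lrfl Lrfl
theorem f604499 : Led Lsl_cf (LP (LK LD1_c28 LD2_c22 LD3_c19)) = (LP (LK LD1_c32 LD2_c10 LD3_c25)) :=
  Lgr Lrot160 (Lpr_gt (f583655 IH) (Lpr_cf (K44.f583636 IH) (Lpr_bt (K13.f214206 IH) (Lpr_gt (K14.f214334 IH) (Lpr_ct (K14.f215695 IH) (Lpr_gt (K14.f46434 IH) (Lpe (K10.f46418 IH) (Lpr_bt (K14.f46416 IH) (Lpr_gt (f44216 IH) (Lpe (f46514 IH) (Lpn (LP (LK LD1_c32 LD2_c10 LD3_c25)))))))))))))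
theorem f51313 : Led Lsl_dt (LP (LK LD1_c25 LD2_c24 LD3_c2)) = (LP (LK LD1_c15 LD2_c31 LD3_c1)) :=
  Lre_d IH (LK LD1_c25 LD2_c24 LD3_c2) (LK LD1_c15 LD2_c31 LD3_c1) Lrfl Lrfl
theorem f604508 : Led Lsl_gf (LP (LK LD1_c32 LD2_c29 LD3_c24)) = (LP (LK LD1_c32 LD2_c10 LD3_c25)) :=
  Lgr Lrot144 (Lpr_dt (K44.f585550 IH) (Lpe (K44.f585564 IH) (Lpr_dt (K44.f583702 IH) (Lpe (K44.f51328 IH) (Lpe (K13.f45038 IH) (Lpe (K44.f45046 IH) (Lpe (f51313 IH) (Lpe (f583655 IH) (Lpr_cf (f604499 IH) (Lpn (LP (LK LD1_c32 LD2_c10 LD3_c25))))))))))))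
theorem f604504 : Led Lsl_ct (LP (LK LD1_c28 LD2_c22 LD3_c19)) = (LP (LK LD1_c32 LD2_c10 LD3_c25)) :=
  Lgr Lrot59 (Lpr_cf (f604499 IH) (Lpn (LP (LK LD1_c32 LD2_c10 LD3_c25))))
theorem f405470 : Led Lsl_ct (LP (LK LD1_c15 LD2_c0 LD3_c49)) = (LP (LK LD1_c18 LD2_c55 LD3_c17)) :=
  Lgr Lrot59 (Lpr_cf (K44.f405465 IH) (Lpn (LP (LK LD1_c18 LD2_c55 LD3_c17))))
theorem f405472 : Led Lsl_dt (LP (LK LD1_c28 LD2_c23 LD3_c16)) = (LP (LK LD1_c18 LD2_c55 LD3_c17)) :=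
  Lre_d IH (LK LD1_c28 LD2_c23 LD3_c16) (LK LD1_c18 LD2_c55 LD3_c17) Lrfl Lrfl
theorem f604510 : Led Lsl_ct (LP (LK LD1_c32 LD2_c29 LD3_c24)) = (LP (LK LD1_c28 LD2_c23 LD3_c16)) :=
  Lgr Lrot110 (Lpr_gf (f604508 IH) (Lpe (f604504 IH) (Lpr_gf (K44.f583665 IH) (Lpe (K44.f45043 IH) (Lpe (K53.f188468 IH) (Lpe (K53.f214474 IH) (Lpr_gt (K44.f214480 IH) (Lpr_ct (f405470 IH) (Lpe (f405472 IH) (Lpn (LP (LK LD1_c28 LD2_c23 LD3_c16))))))))))))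
theorem f604515 : Led Lsl_cf (LP (LK LD1_c32 LD2_c29 LD3_c24)) = (LP (LK LD1_c28 LD2_c23 LD3_c16)) :=
  Lgr Lrot11 (Lpr_ct (f604510 IH) (Lpn (LP (LK LD1_c28 LD2_c23 LD3_c16))))
theorem f165782 : Led Lsl_dt (LP (LK LD1_c18 LD2_c10 LD3_c38)) = (LP (LK LD1_c9 LD2_c55 LD3_c58)) :=
  Lre_d IH (LK LD1_c18 LD2_c10 LD3_c38) (LK LD1_c9 LD2_c55 LD3_c58) Lrfl Lrfl
theorem f264202 : Led Lsl_dt (LP (LK LD1_c10 LD2_c2 LD3_c6)) = (LP (LK LD1_c18 LD2_c20 LD3_c17)) :=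
  Lre_d IH (LK LD1_c10 LD2_c2 LD3_c6) (LK LD1_c18 LD2_c20 LD3_c17) Lrfl Lrfl
theorem f264209 : Led Lsl_ff (LP (LK LD1_c18 LD2_c10 LD3_c38)) = (LP (LK LD1_c18 LD2_c20 LD3_c17)) :=
  Lgr Lrot19 (Lpr_dt (f165782 IH) (Lpr_ft (K15.f264200 IH) (Lpr_dt (f264202 IH) (Lpn (LP (LK LD1_c18 LD2_c20 LD3_c17))))))
theorem f264148 : Led Lsl_bt (LP (LK LD1_c10 LD2_c2 LD3_c7)) = (LP (LK LD1_c18 LD2_c20 LD3_c17)) :=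
  Lre_b IH (LK LD1_c10 LD2_c2 LD3_c7) (LK LD1_c18 LD2_c20 LD3_c17) Lrfl Lrfl
theorem f185031 : Led Lsl_dt (LP (LK LD1_c5 LD2_c12 LD3_c15)) = (LP (LK LD1_c10 LD2_c15 LD3_c9)) :=
  Lre_d IH (LK LD1_c5 LD2_c12 LD3_c15) (LK LD1_c10 LD2_c15 LD3_c9) Lrfl Lrfl
theorem f264184 : Led Lsl_ft (LP (LK LD1_c10 LD2_c15 LD3_c9)) = (LP (LK LD1_c10 LD2_c2 LD3_c7)) :=
  Lgr Lrot54 (Lpe (f185031 IH) (Lpr_ff (K17.f264182 IH) (Lpe (K15.f169542 IH) (Lpn (LP (LK LD1_c10 LD2_c2 LD3_c7))))))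
theorem f264222 : Led Lsl_bt (LP (LK LD1_c18 LD2_c10 LD3_c38)) = (LP (LK LD1_c10 LD2_c15 LD3_c9)) :=
  Lgr Lrot35 (Lpr_ff (f264209 IH) (Lpe (f264148 IH) (Lpe (f264184 IH) (Lpn (LP (LK LD1_c10 LD2_c15 LD3_c9))))))
theorem f264231 : Led Lsl_bf (LP (LK LD1_c18 LD2_c10 LD3_c38)) = (LP (LK LD1_c10 LD2_c15 LD3_c9)) :=
  Lgr Lrot24 (Lpr_bt (f264222 IH) (Lpn (LP (LK LD1_c10 LD2_c15 LD3_c9))))
theorem f604512 : Led Lsl_bt (LP (LK LD1_c28 LD2_c23 LD3_c16)) = (LP (LK LD1_c18 LD2_c55 LD3_c20)) :=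
  Lre_b IH (LK LD1_c28 LD2_c23 LD3_c16) (LK LD1_c18 LD2_c55 LD3_c20) Lrfl Lrfl
theorem f604519 : Led Lsl_gt (LP (LK LD1_c18 LD2_c10 LD3_c38)) = (LP (LK LD1_c18 LD2_c55 LD3_c20)) :=
  Lgr Lrot164 (Lpr_bf (f264231 IH) (Lpe (K17.f284891 IH) (Lpe (K17.f191182 IH) (Lpr_cf (K17.f251217 IH) (Lpe (K44.f285481 IH) (Lpe (K44.f284872 IH) (Lpr_ct (K44.f278338 IH) (Lpr_gf (K44.f585567 IH) (Lpr_cf (f604515 IH) (Lpr_bt (f604512 IH) (Lpn (LP (LK LD1_c18 LD2_c55 LD3_c20)))))))))))))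
theorem f405855 : Led Lsl_at (LP (LK LD1_c10 LD2_c25 LD3_c59)) = (LP (LK LD1_c18 LD2_c55 LD3_c20)) :=
  Lre_a IH (LK LD1_c10 LD2_c25 LD3_c59) (LK LD1_c18 LD2_c55 LD3_c20) Lrfl Lrfl
theorem f181056 : Led Lsl_dt (LP (LK LD1_c10 LD2_c13 LD3_c33)) = (LP (LK LD1_c18 LD2_c36 LD3_c49)) :=
  Lre_d IH (LK LD1_c10 LD2_c13 LD3_c33) (LK LD1_c18 LD2_c36 LD3_c49) Lrfl Lrfl
theorem f405443 : Led Lsl_dt (LP (LK LD1_c10 LD2_c25 LD3_c59)) = (LP (LK LD1_c5 LD2_c18 LD3_c8)) :=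
  Lre_d IH (LK LD1_c10 LD2_c25 LD3_c59) (LK LD1_c5 LD2_c18 LD3_c8) Lrfl Lrfl
theorem f405444 : Led Lsl_ft (LP (LK LD1_c18 LD2_c36 LD3_c49)) = (LP (LK LD1_c10 LD2_c25 LD3_c59)) :=
  Lgr Lrot54 (Lpe (f181056 IH) (Lpr_ff (K44.f405434 IH) (Lpe (f405443 IH) (Lpn (LP (LK LD1_c10 LD2_c25 LD3_c59))))))
theorem f604521 : Led Lsl_gf (LP (LK LD1_c18 LD2_c10 LD3_c38)) = (LP (LK LD1_c18 LD2_c36 LD3_c49)) :=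
  Lgr Lrot47 (Lpr_gt (f604519 IH) (Lpe (f405855 IH) (Lpe (f405444 IH) (Lpn (LP (LK LD1_c18 LD2_c36 LD3_c49))))))
theorem f250104 : Led Lsl_dt (LP (LK LD1_c9 LD2_c55 LD3_c59)) = (LP (LK LD1_c5 LD2_c2 LD3_c31)) :=
  Lre_d IH (LK LD1_c9 LD2_c55 LD3_c59) (LK LD1_c5 LD2_c2 LD3_c31) Lrfl Lrfl
theorem f586113 : Led Lsl_dt (LP (LK LD1_c5 LD2_c18 LD3_c39)) = (LP (LK LD1_c10 LD2_c26 LD3_c55)) :=
  Lre_d IH (LK LD1_c5 LD2_c18 LD3_c39) (LK LD1_c10 LD2_c26 LD3_c55) Lrfl Lrfl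
theorem f604547 : Led Lsl_gf (LP (LK LD1_c9 LD2_c55 LD3_c59)) = (LP (LK LD1_c10 LD2_c26 LD3_c55)) :=
  Lgr Lrot143 (Lpr_dt (f250104 IH) (Lpe (K44.f165781 IH) (Lpe (f165782 IH) (Lpr_gf (f604521 IH) (Lpe (f181056 IH) (Lpe (K44.f181051 IH) (Lpe (K17.f32682 IH) (Lpr_gt (K53.f586105 IH) (Lpr_dt (f586113 IH) (Lpn (LP (LK LD1_c10 LD2_c26 LD3_c55))))))))))))
theorem f604549 : Led Lsl_ft (LP (LK LD1_c10 LD2_c26 LD3_c55)) = (LP (LK LD1_c5 LD2_c18 LD3_c47)) :=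
  Lre_f IH (LK LD1_c10 LD2_c26 LD3_c55) (LK LD1_c5 LD2_c18 LD3_c47) Lrfl Lrfl
theorem f604550 : Led Lsl_at (LP (LK LD1_c5 LD2_c18 LD3_c47)) = (LP (LK LD1_c10 LD2_c27 LD3_c6)) :=
  Lre_a IH (LK LD1_c5 LD2_c18 LD3_c47) (LK LD1_c10 LD2_c27 LD3_c6) Lrfl Lrfl
theorem f604551 : Led Lsl_gt (LP (LK LD1_c9 LD2_c55 LD3_c59)) = (LP (LK LD1_c10 LD2_c27 LD3_c6)) :=
  Lgr Lrot46 (Lpr_gf (f604547 IH) (Lpr_ft (f604549 IH) (Lpr_at (f604550 IH) (Lpn (LP (LK LD1_c10 LD2_c27 LD3_c6))))))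
theorem f250041 : Led Lsl_bt (LP (LK LD1_c5 LD2_c2 LD3_c32)) = (LP (LK LD1_c9 LD2_c55 LD3_c59)) :=
  Lre_b IH (LK LD1_c5 LD2_c2 LD3_c32) (LK LD1_c9 LD2_c55 LD3_c59) Lrfl Lrfl
theorem f166284 : Led Lsl_bt (LP (LK LD1_c9 LD2_c59 LD3_c6)) = (LP (LK LD1_c5 LD2_c4 LD3_c8)) :=
  Lre_b IH (LK LD1_c9 LD2_c59 LD3_c6) (LK LD1_c5 LD2_c4 LD3_c8) Lrfl Lrfl
theorem f187628 : Led Lsl_gt (LP (LK LD1_c10 LD2_c45 LD3_c9)) = (LP (LK LD1_c5 LD2_c27 LD3_c2)) :=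
  Lre_g IH (LK LD1_c10 LD2_c45 LD3_c9) (LK LD1_c5 LD2_c27 LD3_c2) Lrfl Lrfl
theorem f922664 : Led Lsl_cf (LP (LK LD1_c10 LD2_c45 LD3_c9)) = v41223 :=
  Lgr Lrot160 (Lpr_gt (f187628 IH) (Lpr_cf (K45.f586562 IH) (Lpr_bt (f166284 IH) (Lpr_gt (K14.f165445 IH) (Lpr_ct (K14.f166254 IH) (Lpr_gt (K14.f186166 IH) (Lpe (K53.f250031 IH) (Lpr_bt (f250041 IH) (Lpr_gt (f604551 IH) (Lpr_bf (f922658 IH) (Lpn v41223)))))))))))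
theorem f922665 : Led Lsl_ct (LP (LK LD1_c10 LD2_c45 LD3_c9)) = v41223 :=
  Lgr Lrot59 (Lpr_cf (f922664 IH) (Lpn v41223))
def v16749 : LQ := Led Lsl_dt (LP (LK LD1_c6 LD2_c6 LD3_c32))
theorem f751396 : Led Lsl_dt (LP (LK LD1_c6 LD2_c6 LD3_c32)) = v16749 :=
  Lrfl
theorem f396399 : Led Lsl_at (LP (LK LD1_c6 LD2_c6 LD3_c32)) = (LP (LK LD1_c2 LD2_c59 LD3_c22)) :=
  Lre_a IH (LK LD1_c6 LD2_c6 LD3_c32) (LK LD1_c2 LD2_c59 LD3_c22) Lrfl Lrfl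
theorem f396400 : Led Lsl_ft (LP (LK LD1_c5 LD2_c27 LD3_c0)) = (LP (LK LD1_c6 LD2_c6 LD3_c32)) :=
  Lgr Lrot101 (Lpe (K56.f396395 IH) (Lpr_ff (K45.f396397 IH) (Lpe (f396399 IH) (Lpn (LP (LK LD1_c6 LD2_c6 LD3_c32))))))
def v14892 : LQ := Led Lsl_dt (LP (LK LD1_c5 LD2_c27 LD3_c0))
theorem f727132 : Led Lsl_dt (LP (LK LD1_c5 LD2_c27 LD3_c0)) = v14892 :=
  Lrfl
theorem f727134 : Led Lsl_df (LP (LK LD1_c5 LD2_c27 LD3_c0)) = v14892 :=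
  Lgr Lrot38 (Lpr_dt (f727132 IH) (Lpn v14892))
theorem f751400 : Led Lsl_ff v14892 = v16749 :=
  Lgr Lrot19 (Lpe (f727134 IH) (Lpr_ft (f396400 IH) (Lpr_dt (f751396 IH) (Lpn v16749))))
theorem f187627 : Led Lsl_dt (LP (LK LD1_c5 LD2_c27 LD3_c2)) = (LP (LK LD1_c2 LD2_c39 LD3_c56)) :=
  Lre_d IH (LK LD1_c5 LD2_c27 LD3_c2) (LK LD1_c2 LD2_c39 LD3_c56) Lrfl Lrfl
theorem f727133 : Led Lsl_af (LP (LK LD1_c5 LD2_c27 LD3_c2)) = v14892 :=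
  Lgr Lrot117 (Lpr_dt (f187627 IH) (Lpr_at (K56.f396395 IH) (Lpr_dt (f727132 IH) (Lpn v14892))))
theorem f751403 : Led Lsl_gf (LP (LK LD1_c10 LD2_c45 LD3_c9)) = v16749 :=
  Lgr Lrot47 (Lpr_gt (f187628 IH) (Lpr_af (f727133 IH) (Lpr_ff (f751400 IH) (Lpn v16749))))
theorem f21818 : Led Lsl_gt (LP (LK LD1_c9 LD2_c54 LD3_c15)) = (LP (LK LD1_c5 LD2_c1 LD3_c54)) :=
  Lre_g IH (LK LD1_c9 LD2_c54 LD3_c15) (LK LD1_c5 LD2_c1 LD3_c54) Lrfl Lrfl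
theorem f164040 : Led Lsl_dt (LP (LK LD1_c5 LD2_c4 LD3_c25)) = (LP (LK LD1_c2 LD2_c29 LD3_c35)) :=
  Lre_d IH (LK LD1_c5 LD2_c4 LD3_c25) (LK LD1_c2 LD2_c29 LD3_c35) Lrfl Lrfl
theorem f21500 : Led Lsl_gt (LP (LK LD1_c5 LD2_c4 LD3_c25)) = (LP (LK LD1_c9 LD2_c59 LD3_c51)) :=
  Lre_g IH (LK LD1_c5 LD2_c4 LD3_c25) (LK LD1_c9 LD2_c59 LD3_c51) Lrfl Lrfl
theorem f922667 : Led Lsl_cf v16749 = (LP (LK LD1_c9 LD2_c59 LD3_c51)) :=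
  Lgr Lrot169 (Lpe (f751403 IH) (Lpr_ct (f922665 IH) (Lpe (f922657 IH) (Lpe (f165399 IH) (Lpe (f21818 IH) (Lpe (K44.f163854 IH) (Lpe (K53.f21899 IH) (Lpe (f164040 IH) (Lpr_gt (f21500 IH) (Lpn (LP (LK LD1_c9 LD2_c59 LD3_c51))))))))))))
theorem f198835 : Led Lsl_dt (LP (LK LD1_c6 LD2_c6 LD3_c34)) = (LP (LK LD1_c2 LD2_c59 LD3_c22)) :=
  Lre_d IH (LK LD1_c6 LD2_c6 LD3_c34) (LK LD1_c2 LD2_c59 LD3_c22) Lrfl Lrfl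
theorem f751397 : Led Lsl_af (LP (LK LD1_c6 LD2_c6 LD3_c34)) = v16749 :=
  Lgr Lrot117 (Lpr_dt (f198835 IH) (Lpr_at (K45.f334408 IH) (Lpr_dt (f751396 IH) (Lpn v16749))))
theorem f922668 : Led Lsl_at (LP (LK LD1_c9 LD2_c55 LD3_c43)) = (LP (LK LD1_c9 LD2_c59 LD3_c51)) :=
  Lgr Lrot107 (Lpe (K45.f586565 IH) (Lpr_af (f751397 IH) (Lpr_cf (f922667 IH) (Lpn (LP (LK LD1_c9 LD2_c59 LD3_c51))))))
theorem f922669 : Led Lsl_at (LP (LK LD1_c9 LD2_c55 LD3_c43)) = (LP (LK LD1_c9 LD2_c59 LD3_c51)) :=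
  Leop (Lpe (f922668 IH) (Lpn (LP (LK LD1_c9 LD2_c55 LD3_c43))))
theorem seed_2451 : LEOK LG_a (LK LD1_c9 LD2_c55 LD3_c43) :=
  Leoe_a (LK LD1_c9 LD2_c55 LD3_c43) (f922669 IH)
theorem f247951 : Led Lsl_gt (LP (LK LD1_c9 LD2_c59 LD3_c51)) = (LP (LK LD1_c5 LD2_c4 LD3_c30)) :=
  Lre_g IH (LK LD1_c9 LD2_c59 LD3_c51) (LK LD1_c5 LD2_c4 LD3_c30) Lrfl Lrfl
theorem f164047 : Led Lsl_dt (LP (LK LD1_c5 LD2_c4 LD3_c30)) = (LP (LK LD1_c2 LD2_c29 LD3_c36)) :=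
  Lre_d IH (LK LD1_c5 LD2_c4 LD3_c30) (LK LD1_c2 LD2_c29 LD3_c36) Lrfl Lrfl
theorem f169074 : Led Lsl_gt (LP (LK LD1_c6 LD2_c7 LD3_c4)) = (LP (LK LD1_c2 LD2_c59 LD3_c38)) :=
  Lre_g IH (LK LD1_c6 LD2_c7 LD3_c4) (LK LD1_c2 LD2_c59 LD3_c38) Lrfl Lrfl
def v16806 : LQ := Led Lsl_dt (LP (LK LD1_c6 LD2_c7 LD3_c4))
theorem f751801 : Led Lsl_dt (LP (LK LD1_c6 LD2_c7 LD3_c4)) = v16806 :=
  Lrfl
theorem f751802 : Led Lsl_df (LP (LK LD1_c6 LD2_c7 LD3_c4)) = v16806 :=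
  Lgr Lrot38 (Lpr_dt (f751801 IH) (Lpn v16806))
theorem f922673 : (LP (LK LD1_c10 LD2_c45 LD3_c9)) = v16806 :=
  (Llr Lrot94 (Lpr_gf (f751403 IH) (Lpr_cf (f922667 IH) (Lpr_gt (f247951 IH) (Lpr_dt (f164047 IH) (Lpr_gt (K44.f21491 IH) (Lpr_dt (K0.f21455 IH) (Lpe (K45.f164008 IH) (Lpr_df (K45.f584999 IH) (Lpe (f169074 IH) (Lpr_df (f751802 IH) (Lpn v16806)))))))))))).symm
theorem f922674 : Led Lsl_dt (LP (LK LD1_c10 LD2_c45 LD3_c9)) = (LP (LK LD1_c6 LD2_c7 LD3_c4)) :=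
  Leop (Lpr_df (f751802 IH) (Lpq (f922673 IH) (Lpn (LP (LK LD1_c10 LD2_c45 LD3_c9)))))
theorem seed_2452 : LEOK LG_d (LK LD1_c10 LD2_c45 LD3_c9) :=
  Leoe_d (LK LD1_c10 LD2_c45 LD3_c9) (f922674 IH)
def v16802 : LQ := Led Lsl_at (LP (LK LD1_c6 LD2_c7 LD3_c3))
theorem f751781 : Led Lsl_at (LP (LK LD1_c6 LD2_c7 LD3_c3)) = v16802 :=
  Lrfl
theorem f751782 : Led Lsl_af (LP (LK LD1_c6 LD2_c7 LD3_c3)) = v16802 :=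
  Lgr Lrot0 (Lpr_at (f751781 IH) (Lpn v16802))
theorem f751784 : Led Lsl_ft (LP (LK LD1_c6 LD2_c7 LD3_c4)) = v16802 :=
  Lgr Lrot2 (Lpr_gt (f169074 IH) (Lpr_gt (K56.f169004 IH) (Lpr_af (f751782 IH) (Lpn v16802))))
theorem f350272 : Led Lsl_ct (LP (LK LD1_c11 LD2_c57 LD3_c4)) = (LP (LK LD1_c6 LD2_c7 LD3_c3)) :=
  Lre_c IH (LK LD1_c11 LD2_c57 LD3_c4) (LK LD1_c6 LD2_c7 LD3_c3) Lrfl Lrfl
theorem f922659 : Led Lsl_df (LP (LK LD1_c9 LD2_c54 LD3_c23)) = v41223 :=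
  Lgr Lrot38 (Lpr_dt (f922657 IH) (Lpn v41223))
theorem f21821 : Led Lsl_dt (LP (LK LD1_c5 LD2_c1 LD3_c54)) = (LP (LK LD1_c9 LD2_c54 LD3_c24)) :=
  Lre_d IH (LK LD1_c5 LD2_c1 LD3_c54) (LK LD1_c9 LD2_c54 LD3_c24) Lrfl Lrfl
theorem f165381 : Led Lsl_ct (LP (LK LD1_c9 LD2_c54 LD3_c24)) = (LP (LK LD1_c18 LD2_c7 LD3_c47)) :=
  Lre_c IH (LK LD1_c9 LD2_c54 LD3_c24) (LK LD1_c18 LD2_c7 LD3_c47) Lrfl Lrfl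
theorem f922676 : Led Lsl_df (LP (LK LD1_c11 LD2_c57 LD3_c4)) = (LP (LK LD1_c18 LD2_c7 LD3_c47)) :=
  Lgr Lrot177 (Lpr_ct (f350272 IH) (Lpr_af (f751782 IH) (Lpe (f751784 IH) (Lpr_dt (f751801 IH) (Lpq (f922673 IH) (Lpr_ct (f922665 IH) (Lpe (f922659 IH) (Lpr_ct (f165438 IH) (Lpr_dt (f21821 IH) (Lpr_ct (f165381 IH) (Lpn (LP (LK LD1_c18 LD2_c7 LD3_c47)))))))))))))
theorem f922677 : Led Lsl_dt (LP (LK LD1_c18 LD2_c7 LD3_c47)) = (LP (LK LD1_c11 LD2_c57 LD3_c4)) :=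
  Leop (Lpr_df (f922676 IH) (Lpn (LP (LK LD1_c18 LD2_c7 LD3_c47))))
theorem seed_2453 : LEOK LG_d (LK LD1_c18 LD2_c7 LD3_c47) :=
  Leoe_d (LK LD1_c18 LD2_c7 LD3_c47) (f922677 IH)
theorem f291262 : Led Lsl_ct (LP (LK LD1_c11 LD2_c57 LD3_c7)) = (LP (LK LD1_c6 LD2_c7 LD3_c4)) :=
  Lre_c IH (LK LD1_c11 LD2_c57 LD3_c7) (LK LD1_c6 LD2_c7 LD3_c4) Lrfl Lrfl
theorem f585985 : Led Lsl_at (LP (LK LD1_c9 LD2_c54 LD3_c21)) = (LP (LK LD1_c5 LD2_c1 LD3_c54)) :=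
  Lre_a IH (LK LD1_c9 LD2_c54 LD3_c21) (LK LD1_c5 LD2_c1 LD3_c54) Lrfl Lrfl
theorem f586043 : Led Lsl_ft (LP (LK LD1_c5 LD2_c1 LD3_c53)) = (LP (LK LD1_c9 LD2_c54 LD3_c21)) :=
  Lre_f IH (LK LD1_c5 LD2_c1 LD3_c53) (LK LD1_c9 LD2_c54 LD3_c21) Lrfl Lrfl
theorem f21885 : Led Lsl_dt (LP (LK LD1_c5 LD2_c1 LD3_c53)) = (LP (LK LD1_c9 LD2_c54 LD3_c19)) :=
  Lre_d IH (LK LD1_c5 LD2_c1 LD3_c53) (LK LD1_c9 LD2_c54 LD3_c19) Lrfl Lrfl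
theorem f230914 : Led Lsl_ct (LP (LK LD1_c9 LD2_c54 LD3_c19)) = (LP (LK LD1_c18 LD2_c7 LD3_c39)) :=
  Lre_c IH (LK LD1_c9 LD2_c54 LD3_c19) (LK LD1_c18 LD2_c7 LD3_c39) Lrfl Lrfl
theorem f922678 : Led Lsl_df (LP (LK LD1_c11 LD2_c57 LD3_c7)) = (LP (LK LD1_c18 LD2_c7 LD3_c39)) :=
  Lgr Lrot106 (Lpr_ct (f291262 IH) (Lpr_dt (f751801 IH) (Lpq (f922673 IH) (Lpr_ct (f922665 IH) (Lpe (f922659 IH) (Lpr_ct (f165438 IH) (Lpe (f585985 IH) (Lpe (f586043 IH) (Lpr_dt (f21885 IH) (Lpr_ct (f230914 IH) (Lpn (LP (LK LD1_c18 LD2_c7 LD3_c39)))))))))))))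
theorem f922679 : Led Lsl_dt (LP (LK LD1_c18 LD2_c7 LD3_c39)) = (LP (LK LD1_c11 LD2_c57 LD3_c7)) :=
  Leop (Lpr_df (f922678 IH) (Lpn (LP (LK LD1_c18 LD2_c7 LD3_c39))))
theorem seed_2454 : LEOK LG_d (LK LD1_c18 LD2_c7 LD3_c39) :=
  Leoe_d (LK LD1_c18 LD2_c7 LD3_c39) (f922679 IH)
def v16804 : LQ := Led Lsl_dt (LP (LK LD1_c6 LD2_c7 LD3_c3))
theorem f751795 : Led Lsl_dt (LP (LK LD1_c6 LD2_c7 LD3_c3)) = v16804 :=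
  Lrfl
def v41214 : LQ := Led Lsl_dt (LP (LK LD1_c9 LD2_c54 LD3_c18))
theorem f922603 : Led Lsl_dt (LP (LK LD1_c9 LD2_c54 LD3_c18)) = v41214 :=
  Lrfl
theorem f922605 : Led Lsl_df (LP (LK LD1_c9 LD2_c54 LD3_c18)) = v41214 :=
  Lgr Lrot38 (Lpr_dt (f922603 IH) (Lpn v41214))
theorem f922680 : Led Lsl_ct v16804 = v41214 :=
  Lgr Lrot176 (Lpe (f751795 IH) (Lpe (f350272 IH) (Lpr_df (f922676 IH) (Lpe (f165381 IH) (Lpe (f21821 IH) (Lpe (f165438 IH) (Lpr_df (f922659 IH) (Lpe (f922665 IH) (Lpqs (f922673 IH) (Lpe (f751801 IH) (Lpe (f291262 IH) (Lpr_df (f922678 IH) (Lpe (f230914 IH) (Lpe (f21885 IH) (Lpe (K44.f164042 IH) (Lpr_df (f922605 IH) (Lpn v41214)))))))))))))))))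
theorem f585003 : Led Lsl_dt (LP (LK LD1_c5 LD2_c4 LD3_c35)) = (LP (LK LD1_c2 LD2_c59 LD3_c38)) :=
  Lgr Lrot42 (Lpr_df (K45.f584999 IH) (Lpn (LP (LK LD1_c2 LD2_c59 LD3_c38))))
theorem f714505 : Led Lsl_dt (LP (LK LD1_c5 LD2_c10 LD3_c38)) = (LP (LK LD1_c10 LD2_c10 LD3_c41)) :=
  Lgr Lrot42 (Lpr_df (K53.f714501 IH) (Lpn (LP (LK LD1_c10 LD2_c10 LD3_c41))))
theorem f165252 : Led Lsl_bt (LP (LK LD1_c10 LD2_c11 LD3_c59)) = (LP (LK LD1_c5 LD2_c10 LD3_c38)) :=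
  Lre_b IH (LK LD1_c10 LD2_c11 LD3_c59) (LK LD1_c5 LD2_c10 LD3_c38) Lrfl Lrfl
theorem f180701 : Led Lsl_bt (LP (LK LD1_c10 LD2_c10 LD3_c41)) = (LP (LK LD1_c18 LD2_c32 LD3_c33)) :=
  Lre_b IH (LK LD1_c10 LD2_c10 LD3_c41) (LK LD1_c18 LD2_c32 LD3_c33) Lrfl Lrfl
theorem f714511 : Led Lsl_df (LP (LK LD1_c10 LD2_c11 LD3_c59)) = (LP (LK LD1_c18 LD2_c32 LD3_c33)) :=
  Lgr Lrot12 (Lpr_bt (f165252 IH) (Lpr_dt (f714505 IH) (Lpr_bt (f180701 IH) (Lpn (LP (LK LD1_c18 LD2_c32 LD3_c33))))))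
theorem f922684 : Led Lsl_gt (LP (LK LD1_c11 LD2_c36 LD3_c7)) = (LP (LK LD1_c18 LD2_c32 LD3_c33)) :=
  Lgr Lrot180 (Lpr_ct (K10.f169750 IH) (Lpr_gt (K10.f164059 IH) (Lpr_dt (f585003 IH) (Lpr_gt (K56.f169004 IH) (Lpr_dt (f751795 IH) (Lpr_ct (f922680 IH) (Lpe (f922603 IH) (Lpr_gf (K44.f233589 IH) (Lpr_df (f714511 IH) (Lpn (LP (LK LD1_c18 LD2_c32 LD3_c33))))))))))))
theorem f922685 : Led Lsl_gt (LP (LK LD1_c11 LD2_c36 LD3_c7)) = (LP (LK LD1_c18 LD2_c32 LD3_c33)) :=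
  Leop (Lpe (f922684 IH) (Lpn (LP (LK LD1_c11 LD2_c36 LD3_c7))))
theorem seed_2455 : LEOK LG_g (LK LD1_c11 LD2_c36 LD3_c7) :=
  Leoe_g (LK LD1_c11 LD2_c36 LD3_c7) (f922685 IH)
theorem f586560 : Led Lsl_ct (LP (LK LD1_c5 LD2_c27 LD3_c2)) = (LP (LK LD1_c9 LD2_c59 LD3_c6)) :=
  Lgr Lrot7 (Lpe (K45.f187606 IH) (Lpe (K39.f187580 IH) (Lpe (K45.f586549 IH) (Lpe (K44.f164017 IH) (Lpe (K10.f163844 IH) (Lpr_gt (K45.f164064 IH) (Lpr_dt (K45.f586551 IH) (Lpr_gt (K45.f185387 IH) (Lpr_dt (K45.f403046 IH) (Lpn (LP (LK LD1_c9 LD2_c59 LD3_c6))))))))))))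
def v14895 : LQ := Led Lsl_gt (LP (LK LD1_c5 LD2_c27 LD3_c2))
theorem f727146 : Led Lsl_gt (LP (LK LD1_c5 LD2_c27 LD3_c2)) = v14895 :=
  Lrfl
theorem f342321 : Led Lsl_ft (LP (LK LD1_c9 LD2_c52 LD3_c37)) = (LP (LK LD1_c9 LD2_c54 LD3_c3)) :=
  Lgr Lrot54 (Lpe (K15.f246825 IH) (Lpr_ff (K23.f342314 IH) (Lpe (K15.f266078 IH) (Lpn (LP (LK LD1_c9 LD2_c54 LD3_c3))))))
theorem f246837 : Led Lsl_bt (LP (LK LD1_c18 LD2_c4 LD3_c47)) = (LP (LK LD1_c9 LD2_c52 LD3_c37)) :=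
  Lre_b IH (LK LD1_c18 LD2_c4 LD3_c47) (LK LD1_c9 LD2_c52 LD3_c37) Lrfl Lrfl
theorem f266074 : Led Lsl_bt (LP (LK LD1_c9 LD2_c54 LD3_c3)) = (LP (LK LD1_c18 LD2_c7 LD3_c0)) :=
  Lre_b IH (LK LD1_c9 LD2_c54 LD3_c3) (LK LD1_c18 LD2_c7 LD3_c0) Lrfl Lrfl
theorem f395404 : Led Lsl_ff (LP (LK LD1_c18 LD2_c4 LD3_c47)) = (LP (LK LD1_c18 LD2_c7 LD3_c0)) :=
  Lgr Lrot25 (Lpr_bt (f246837 IH) (Lpr_ft (f342321 IH) (Lpr_bt (f266074 IH) (Lpn (LP (LK LD1_c18 LD2_c7 LD3_c0))))))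
theorem f395440 : Led Lsl_ft (LP (LK LD1_c18 LD2_c4 LD3_c47)) = (LP (LK LD1_c18 LD2_c7 LD3_c0)) :=
  Lgr Lrot48 (Lpr_ff (f395404 IH) (Lpn (LP (LK LD1_c18 LD2_c7 LD3_c0))))
theorem f251550 : Led Lsl_dt (LP (LK LD1_c9 LD2_c52 LD3_c36)) = (LP (LK LD1_c18 LD2_c4 LD3_c47)) :=
  Lre_d IH (LK LD1_c9 LD2_c52 LD3_c36) (LK LD1_c18 LD2_c4 LD3_c47) Lrfl Lrfl
theorem f395442 : Led Lsl_df (LP (LK LD1_c10 LD2_c10 LD3_c18)) = (LP (LK LD1_c18 LD2_c7 LD3_c0)) :=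
  Lgr Lrot78 (Lpe (K44.f342310 IH) (Lpr_dt (f251550 IH) (Lpr_ft (f395440 IH) (Lpn (LP (LK LD1_c18 LD2_c7 LD3_c0))))))
theorem f250177 : Led Lsl_dt (LP (LK LD1_c9 LD2_c59 LD3_c6)) = (LP (LK LD1_c5 LD2_c9 LD3_c48)) :=
  Lgr Lrot79 (Lpe (K45.f250176 IH) (Lpr_df (K14.f250057 IH) (Lpe (K44.f165517 IH) (Lpn (LP (LK LD1_c5 LD2_c9 LD3_c48))))))
theorem f586529 : Led Lsl_dt (LP (LK LD1_c10 LD2_c18 LD3_c29)) = (LP (LK LD1_c5 LD2_c26 LD3_c60)) :=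
  Lgr Lrot42 (Lpr_df (K45.f586526 IH) (Lpn (LP (LK LD1_c5 LD2_c26 LD3_c60))))
theorem f412820 : Led Lsl_bt (LP (LK LD1_c9 LD2_c55 LD3_c55)) = (LP (LK LD1_c18 LD2_c10 LD3_c30)) :=
  Lre_b IH (LK LD1_c9 LD2_c55 LD3_c55) (LK LD1_c18 LD2_c10 LD3_c30) Lrfl Lrfl
theorem f412823 : Led Lsl_dt (LP (LK LD1_c18 LD2_c10 LD3_c30)) = (LP (LK LD1_c10 LD2_c27 LD3_c26)) :=
  Lgr Lrot79 (Lpe (f412820 IH) (Lpr_df (K44.f412817 IH) (Lpe (K44.f186514 IH) (Lpn (LP (LK LD1_c10 LD2_c27 LD3_c26))))))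
theorem f412936 : Led Lsl_dt (LP (LK LD1_c5 LD2_c14 LD3_c43)) = (LP (LK LD1_c10 LD2_c10 LD3_c22)) :=
  Lgr Lrot6 (Lpe (K45.f163982 IH) (Lpr_ct (K10.f163844 IH) (Lpr_gt (K44.f164017 IH) (Lpe (K45.f186586 IH) (Lpe (f412823 IH) (Lpr_cf (K45.f412927 IH) (Lpr_gf (K45.f345154 IH) (Lpr_cf (K44.f251520 IH) (Lpr_gf (K45.f403055 IH) (Lpn (LP (LK LD1_c10 LD2_c10 LD3_c22))))))))))))
theorem f922671 : Led Lsl_dt (LP (LK LD1_c9 LD2_c55 LD3_c42)) = (LP (LK LD1_c9 LD2_c59 LD3_c51)) :=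
  Lgr Lrot105 (Lpr_gf (K45.f403055 IH) (Lpe (f412936 IH) (Lpe (K45.f163981 IH) (Lpe (K10.f163939 IH) (Lpr_gt (K45.f164009 IH) (Lpr_dt (f586529 IH) (Lpr_gt (K53.f396413 IH) (Lpr_dt (f751396 IH) (Lpr_cf (f922667 IH) (Lpn (LP (LK LD1_c9 LD2_c59 LD3_c51))))))))))))
theorem f922710 : Led Lsl_df (LP (LK LD1_c9 LD2_c55 LD3_c42)) = (LP (LK LD1_c9 LD2_c59 LD3_c51)) :=
  Lgr Lrot38 (Lpr_dt (f922671 IH) (Lpn (LP (LK LD1_c9 LD2_c59 LD3_c51))))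
theorem f21499 : Led Lsl_dt (LP (LK LD1_c2 LD2_c29 LD3_c35)) = (LP (LK LD1_c5 LD2_c4 LD3_c25)) :=
  Lre_d IH (LK LD1_c2 LD2_c29 LD3_c35) (LK LD1_c5 LD2_c4 LD3_c25) Lrfl Lrfl
theorem f21495 : Led Lsl_gt (LP (LK LD1_c1 LD2_c11 LD3_c52)) = (LP (LK LD1_c2 LD2_c29 LD3_c35)) :=
  Lre_g IH (LK LD1_c1 LD2_c11 LD3_c52) (LK LD1_c2 LD2_c29 LD3_c35) Lrfl Lrfl
theorem f21886 : Led Lsl_gt (LP (LK LD1_c9 LD2_c54 LD3_c19)) = (LP (LK LD1_c18 LD2_c7 LD3_c38)) :=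
  Lre_g IH (LK LD1_c9 LD2_c54 LD3_c19) (LK LD1_c18 LD2_c7 LD3_c38) Lrfl Lrfl
theorem f922714 : Led Lsl_df (LP (LK LD1_c18 LD2_c4 LD3_c46)) = (LP (LK LD1_c18 LD2_c7 LD3_c38)) :=
  Lgr Lrot84 (Lpr_cf (K44.f251520 IH) (Lpr_df (f922710 IH) (Lpe (f21500 IH) (Lpe (f21499 IH) (Lpe (f21495 IH) (Lpe (K44.f21881 IH) (Lpr_gt (f21883 IH) (Lpr_dt (f21885 IH) (Lpr_gt (f21886 IH) (Lpn (LP (LK LD1_c18 LD2_c7 LD3_c38))))))))))))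
theorem f187608 : Led Lsl_dt (LP (LK LD1_c5 LD2_c27 LD3_c1)) = (LP (LK LD1_c10 LD2_c45 LD3_c8)) :=
  Lre_d IH (LK LD1_c5 LD2_c27 LD3_c1) (LK LD1_c10 LD2_c45 LD3_c8) Lrfl Lrfl
theorem f922722 : Led Lsl_ct (LP (LK LD1_c10 LD2_c45 LD3_c8)) = (LP (LK LD1_c18 LD2_c7 LD3_c38)) :=
  Lgr Lrot53 (Lpe (f187608 IH) (Lpe (K39.f187516 IH) (Lpe (f187627 IH) (Lpr_cf (K45.f586562 IH) (Lpe (K45.f403046 IH) (Lpe (K45.f313883 IH) (Lpr_at (K44.f251519 IH) (Lpe (K45.f251548 IH) (Lpr_df (f922714 IH) (Lpn (LP (LK LD1_c18 LD2_c7 LD3_c38))))))))))))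
theorem f315508 : Led Lsl_ff (LP (LK LD1_c8 LD2_c6 LD3_c61)) = (LP (LK LD1_c5 LD2_c36 LD3_c11)) :=
  Lgr Lrot19 (Lpr_dt (K19.f51253 IH) (Lpr_ft (K20.f315502 IH) (Lpr_dt (K15.f187623 IH) (Lpn (LP (LK LD1_c5 LD2_c36 LD3_c11))))))
theorem f198818 : Led Lsl_dt (LP (LK LD1_c11 LD2_c56 LD3_c15)) = (LP (LK LD1_c6 LD2_c6 LD3_c33)) :=
  Lre_d IH (LK LD1_c11 LD2_c56 LD3_c15) (LK LD1_c6 LD2_c6 LD3_c33) Lrfl Lrfl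
theorem f256180 : Led Lsl_bf (LP (LK LD1_c11 LD2_c56 LD3_c15)) = (LP (LK LD1_c8 LD2_c6 LD3_c61)) :=
  Lgr Lrot93 (Lpr_dt (f198818 IH) (Lpr_bt (K45.f256177 IH) (Lpr_dt (K20.f51361 IH) (Lpn (LP (LK LD1_c8 LD2_c6 LD3_c61))))))
theorem f187609 : Led Lsl_bt (LP (LK LD1_c10 LD2_c45 LD3_c8)) = (LP (LK LD1_c5 LD2_c36 LD3_c11)) :=
  Lgr Lrot95 (Lpe (f187608 IH) (Lpr_bf (K45.f187577 IH) (Lpe (K15.f178250 IH) (Lpn (LP (LK LD1_c5 LD2_c36 LD3_c11))))))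
theorem f402935 : Led Lsl_ft (LP (LK LD1_c11 LD2_c56 LD3_c15)) = (LP (LK LD1_c10 LD2_c45 LD3_c8)) :=
  Lgr Lrot75 (Lpr_bf (f256180 IH) (Lpr_ff (f315508 IH) (Lpe (f187609 IH) (Lpn (LP (LK LD1_c10 LD2_c45 LD3_c8))))))
theorem f256208 : Led Lsl_ct (LP (LK LD1_c21 LD2_c1 LD3_c4)) = (LP (LK LD1_c11 LD2_c56 LD3_c15)) :=
  Lre_c IH (LK LD1_c21 LD2_c1 LD3_c4) (LK LD1_c11 LD2_c56 LD3_c15) Lrfl Lrfl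
theorem f922729 : Led Lsl_ff (LP (LK LD1_c21 LD2_c1 LD3_c4)) = (LP (LK LD1_c18 LD2_c7 LD3_c38)) :=
  Lgr Lrot23 (Lpr_ct (f256208 IH) (Lpr_ft (f402935 IH) (Lpr_ct (f922722 IH) (Lpn (LP (LK LD1_c18 LD2_c7 LD3_c38))))))
theorem f586591 : Led Lsl_df (LP (LK LD1_c21 LD2_c1 LD3_c4)) = (LP (LK LD1_c18 LD2_c31 LD3_c52)) :=
  Lgr Lrot157 (Lpr_ct (f256208 IH) (Lpr_dt (f198818 IH) (Lpr_ct (K45.f198817 IH) (Lpr_dt (K45.f198836 IH) (Lpr_ct (K45.f586565 IH) (Lpr_dt (K45.f169989 IH) (Lpe (K45.f251522 IH) (Lpe (K44.f251518 IH) (Lpe (K45.f345137 IH) (Lpn (LP (LK LD1_c18 LD2_c31 LD3_c52))))))))))))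
theorem f345145 : Led Lsl_at (LP (LK LD1_c10 LD2_c10 LD3_c18)) = (LP (LK LD1_c18 LD2_c31 LD3_c52)) :=
  Lre_a IH (LK LD1_c10 LD2_c10 LD3_c18) (LK LD1_c18 LD2_c31 LD3_c52) Lrfl Lrfl
theorem f603396 : Led Lsl_at (LP (LK LD1_c21 LD2_c1 LD3_c4)) = (LP (LK LD1_c18 LD2_c7 LD3_c0)) :=
  Lgr Lrot51 (Lpr_df (f586591 IH) (Lpe (f345145 IH) (Lpr_df (f395442 IH) (Lpn (LP (LK LD1_c18 LD2_c7 LD3_c0))))))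
theorem f585107 : Led Lsl_gt (LP (LK LD1_c18 LD2_c7 LD3_c38)) = (LP (LK LD1_c9 LD2_c54 LD3_c24)) :=
  Lre_g IH (LK LD1_c18 LD2_c7 LD3_c38) (LK LD1_c9 LD2_c54 LD3_c24) Lrfl Lrfl
def v41216 : LQ := Led Lsl_gf (LP (LK LD1_c9 LD2_c54 LD3_c19))
theorem f922624 : Led Lsl_gf (LP (LK LD1_c9 LD2_c54 LD3_c19)) = v41216 :=
  Lrfl
theorem f922579 : Led Lsl_at (LP (LK LD1_c18 LD2_c7 LD3_c32)) = (LP (LK LD1_c9 LD2_c54 LD3_c19)) :=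
  Lre_a IH (LK LD1_c18 LD2_c7 LD3_c32) (LK LD1_c9 LD2_c54 LD3_c19) Lrfl Lrfl
theorem f922625 : Led Lsl_ft (LP (LK LD1_c9 LD2_c54 LD3_c24)) = (LP (LK LD1_c18 LD2_c7 LD3_c32)) :=
  Lre_f IH (LK LD1_c9 LD2_c54 LD3_c24) (LK LD1_c18 LD2_c7 LD3_c32) Lrfl Lrfl
theorem f922626 : Led Lsl_gt (LP (LK LD1_c9 LD2_c54 LD3_c24)) = v41216 :=
  Lgr Lrot5 (Lpr_ft (f922625 IH) (Lpr_at (f922579 IH) (Lpr_gf (f922624 IH) (Lpn v41216))))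
theorem f922731 : (LP (LK LD1_c18 LD2_c7 LD3_c0)) = v41216 :=
  (Llr Lrot26 (Lpe (f603396 IH) (Lpr_ff (f922729 IH) (Lpr_gt (f585107 IH) (Lpr_gt (f922626 IH) (Lpn v41216)))))).symm
theorem f163859 : Led Lsl_gt (LP (LK LD1_c5 LD2_c4 LD3_c21)) = (LP (LK LD1_c2 LD2_c29 LD3_c36)) :=
  Lre_g IH (LK LD1_c5 LD2_c4 LD3_c21) (LK LD1_c2 LD2_c29 LD3_c36) Lrfl Lrfl
theorem f163860 : Led Lsl_dt (LP (LK LD1_c2 LD2_c29 LD3_c36)) = (LP (LK LD1_c5 LD2_c4 LD3_c30)) :=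
  Lre_d IH (LK LD1_c2 LD2_c29 LD3_c36) (LK LD1_c5 LD2_c4 LD3_c30) Lrfl Lrfl
def v14267 : LQ := Led Lsl_gf (LP (LK LD1_c5 LD2_c4 LD3_c25))
theorem f721603 : Led Lsl_gf (LP (LK LD1_c5 LD2_c4 LD3_c25)) = v14267 :=
  Lrfl
theorem f721604 : Led Lsl_at (LP (LK LD1_c9 LD2_c59 LD3_c37)) = (LP (LK LD1_c5 LD2_c4 LD3_c25)) :=
  Lre_a IH (LK LD1_c9 LD2_c59 LD3_c37) (LK LD1_c5 LD2_c4 LD3_c25) Lrfl Lrfl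
theorem f721605 : Led Lsl_ft (LP (LK LD1_c5 LD2_c4 LD3_c30)) = (LP (LK LD1_c9 LD2_c59 LD3_c37)) :=
  Lre_f IH (LK LD1_c5 LD2_c4 LD3_c30) (LK LD1_c9 LD2_c59 LD3_c37) Lrfl Lrfl
theorem f721606 : Led Lsl_gt (LP (LK LD1_c5 LD2_c4 LD3_c30)) = v14267 :=
  Lgr Lrot5 (Lpr_ft (f721605 IH) (Lpr_at (f721604 IH) (Lpr_gf (f721603 IH) (Lpn v14267))))
theorem f922736 : (LP (LK LD1_c9 LD2_c59 LD3_c6)) = v14267 :=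
  (Llr Lrot84 (Lpr_dt (f250177 IH) (Lpe (K45.f165518 IH) (Lpr_df (f395442 IH) (Lpqs (f922731 IH) (Lpe (f922626 IH) (Lpe (f21821 IH) (Lpe (f21818 IH) (Lpe (K44.f163854 IH) (Lpr_gt (f163859 IH) (Lpr_dt (f163860 IH) (Lpr_gt (f721606 IH) (Lpn v14267))))))))))))).symm
theorem f751796 : Led Lsl_df (LP (LK LD1_c6 LD2_c7 LD3_c3)) = v16804 :=
  Lgr Lrot38 (Lpr_dt (f751795 IH) (Lpn v16804))
theorem f922740 : v14895 = v16804 :=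
  (Llr Lrot180 (Lpe (f727146 IH) (Lpr_ct (f586560 IH) (Lpqs (f922736 IH) (Lpe (f721603 IH) (Lpr_dt (f164040 IH) (Lpr_gt (K53.f21899 IH) (Lpr_dt (K45.f164021 IH) (Lpr_ct (K10.f164001 IH) (Lpr_df (K45.f585023 IH) (Lpe (K56.f396243 IH) (Lpr_df (f751796 IH) (Lpn v16804))))))))))))).symm
theorem f751157 : Led Lsl_ct (LP (LK LD1_c11 LD2_c56 LD3_c52)) = K56.v16696 :=
  Lgr Lrot59 (Lpr_cf (K56.f751153 IH) (Lpn K56.v16696))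
theorem f751401 : Led Lsl_at (LP (LK LD1_c6 LD2_c6 LD3_c34)) = v16749 :=
  Lgr Lrot66 (Lpe (K45.f334441 IH) (Lpr_af (f727133 IH) (Lpr_ff (f751400 IH) (Lpn v16749))))
theorem f751404 : Led Lsl_gt v14895 = v16749 :=
  Lgr Lrot46 (Lpe (f727146 IH) (Lpr_ft (K45.f334441 IH) (Lpr_at (f751401 IH) (Lpn v16749))))
theorem f922670 : Led Lsl_ct v16749 = (LP (LK LD1_c9 LD2_c59 LD3_c51)) :=
  Lgr Lrot59 (Lpr_cf (f922667 IH) (Lpn (LP (LK LD1_c9 LD2_c59 LD3_c51))))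
def v14271 : LQ := Led Lsl_ct (LP (LK LD1_c5 LD2_c4 LD3_c30))
theorem f721651 : Led Lsl_ct (LP (LK LD1_c5 LD2_c4 LD3_c30)) = v14271 :=
  Lrfl
theorem f922741 : Led Lsl_df K56.v16696 = v14271 :=
  Lgr Lrot162 (Lpe (f751157 IH) (Lpe (K56.f338936 IH) (Lpe (K56.f338909 IH) (Lpe (K56.f396243 IH) (Lpr_dt (f751795 IH) (Lpq (f922740 IH) (Lpr_gt (f751404 IH) (Lpr_ct (f922670 IH) (Lpr_gt (f247951 IH) (Lpr_ct (f721651 IH) (Lpn v14271)))))))))))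
theorem f636159 : Led Lsl_ft (LP (LK LD1_c2 LD2_c29 LD3_c36)) = (LP (LK LD1_c5 LD2_c4 LD3_c22)) :=
  Lre_f IH (LK LD1_c2 LD2_c29 LD3_c36) (LK LD1_c5 LD2_c4 LD3_c22) Lrfl Lrfl
theorem f721596 : Led Lsl_at (LP (LK LD1_c5 LD2_c4 LD3_c22)) = (LP (LK LD1_c2 LD2_c29 LD3_c35)) :=
  Lre_a IH (LK LD1_c5 LD2_c4 LD3_c22) (LK LD1_c2 LD2_c29 LD3_c35) Lrfl Lrfl
theorem f164026 : Led Lsl_ct (LP (LK LD1_c5 LD2_c4 LD3_c24)) = (LP (LK LD1_c2 LD2_c29 LD3_c35)) :=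
  Lre_c IH (LK LD1_c5 LD2_c4 LD3_c24) (LK LD1_c2 LD2_c29 LD3_c35) Lrfl Lrfl
theorem f585478 : Led Lsl_dt (LP (LK LD1_c9 LD2_c59 LD3_c48)) = (LP (LK LD1_c5 LD2_c4 LD3_c24)) :=
  Lre_d IH (LK LD1_c9 LD2_c59 LD3_c48) (LK LD1_c5 LD2_c4 LD3_c24) Lrfl Lrfl
theorem f721621 : Led Lsl_ct (LP (LK LD1_c18 LD2_c16 LD3_c34)) = (LP (LK LD1_c9 LD2_c59 LD3_c48)) :=
  Lre_c IH (LK LD1_c18 LD2_c16 LD3_c34) (LK LD1_c9 LD2_c59 LD3_c48) Lrfl Lrfl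
theorem f922744 : Led Lsl_dt (LP (LK LD1_c11 LD2_c56 LD3_c52)) = (LP (LK LD1_c18 LD2_c16 LD3_c34)) :=
  Lgr Lrot140 (Lpr_cf (K56.f751153 IH) (Lpr_df (f922741 IH) (Lpe (f721651 IH) (Lpe (f163860 IH) (Lpr_ft (f636159 IH) (Lpr_at (f721596 IH) (Lpe (f164026 IH) (Lpe (f585478 IH) (Lpe (f721621 IH) (Lpn (LP (LK LD1_c18 LD2_c16 LD3_c34))))))))))))
theorem f922745 : Led Lsl_dt (LP (LK LD1_c11 LD2_c56 LD3_c52)) = (LP (LK LD1_c18 LD2_c16 LD3_c34)) :=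
  Leop (Lpe (f922744 IH) (Lpn (LP (LK LD1_c11 LD2_c56 LD3_c52))))
theorem seed_2456 : LEOK LG_d (LK LD1_c11 LD2_c56 LD3_c52) :=
  Leoe_d (LK LD1_c11 LD2_c56 LD3_c52) (f922745 IH)
def v41238 : LQ := Led Lsl_at (LP (LK LD1_c9 LD2_c54 LD3_c39))
theorem f922796 : Led Lsl_at (LP (LK LD1_c9 LD2_c54 LD3_c39)) = v41238 :=
  Lrfl
theorem f922797 : Led Lsl_af (LP (LK LD1_c9 LD2_c54 LD3_c39)) = v41238 :=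
  Lgr Lrot0 (Lpr_at (f922796 IH) (Lpn v41238))
theorem f3471 : Led Lsl_ct (LP (LK LD1_c18 LD2_c8 LD3_c29)) = (LP (LK LD1_c9 LD2_c54 LD3_c39)) :=
  Lre_c IH (LK LD1_c18 LD2_c8 LD3_c29) (LK LD1_c9 LD2_c54 LD3_c39) Lrfl Lrfl
theorem f743181 : Led Lsl_dt (LP (LK LD1_c27 LD2_c48 LD3_c46)) = (LP (LK LD1_c18 LD2_c8 LD3_c29)) :=
  Lre_d IH (LK LD1_c27 LD2_c48 LD3_c46) (LK LD1_c18 LD2_c8 LD3_c29) Lrfl Lrfl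
theorem f743182 : Led Lsl_ct (LP (LK LD1_c32 LD2_c28 LD3_c37)) = (LP (LK LD1_c27 LD2_c48 LD3_c46)) :=
  Lre_c IH (LK LD1_c32 LD2_c28 LD3_c37) (LK LD1_c27 LD2_c48 LD3_c46) Lrfl Lrfl
theorem f21713 : Led Lsl_gt (LP (LK LD1_c5 LD2_c1 LD3_c61)) = (LP (LK LD1_c9 LD2_c54 LD3_c39)) :=
  Lre_g IH (LK LD1_c5 LD2_c1 LD3_c61) (LK LD1_c9 LD2_c54 LD3_c39) Lrfl Lrfl
theorem f21723 : Led Lsl_gt (LP (LK LD1_c9 LD2_c54 LD3_c40)) = (LP (LK LD1_c5 LD2_c1 LD3_c61)) :=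
  Lre_g IH (LK LD1_c9 LD2_c54 LD3_c40) (LK LD1_c5 LD2_c1 LD3_c61) Lrfl Lrfl
theorem f922800 : Led Lsl_ft (LP (LK LD1_c9 LD2_c54 LD3_c40)) = v41238 :=
  Lgr Lrot2 (Lpr_gt (f21723 IH) (Lpr_gt (f21713 IH) (Lpr_af (f922797 IH) (Lpn v41238))))
theorem f3465 : Led Lsl_dt (LP (LK LD1_c9 LD2_c54 LD3_c40)) = (LP (LK LD1_c18 LD2_c8 LD3_c33)) :=
  Lre_d IH (LK LD1_c9 LD2_c54 LD3_c40) (LK LD1_c18 LD2_c8 LD3_c33) Lrfl Lrfl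
theorem f34547 : Led Lsl_ct (LP (LK LD1_c18 LD2_c8 LD3_c33)) = (LP (LK LD1_c27 LD2_c48 LD3_c51)) :=
  Lre_c IH (LK LD1_c18 LD2_c8 LD3_c33) (LK LD1_c27 LD2_c48 LD3_c51) Lrfl Lrfl
theorem f552100 : Led Lsl_ef (LP (LK LD1_c11 LD2_c13 LD3_c26)) = (LP (LK LD1_c17 LD2_c15 LD3_c28)) :=
  Lgr Lrot73 (Lpr_dt (K43.f552091 IH) (Lpr_et (K39.f552098 IH) (Lpqs (K39.f537824 IH) (Lpe (K39.f503177 IH) (Lpr_et (K65.f449833 IH) (Lpr_dt (K43.f255513 IH) (Lpn (LP (LK LD1_c17 LD2_c15 LD3_c28)))))))))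
theorem f211665 : Led Lsl_ef (LP (LK LD1_c1 LD2_c22 LD3_c11)) = (LP (LK LD1_c2 LD2_c26 LD3_c21)) :=
  Lgr Lrot88 (Lpr_et (K12.f211663 IH) (Lpn (LP (LK LD1_c2 LD2_c26 LD3_c21))))
theorem f452767 : Led Lsl_bf (LP (LK LD1_c2 LD2_c26 LD3_c21)) = K44.v424 :=
  Lgr Lrot96 (Lpe (f211665 IH) (Lpr_bt (K11.f24591 IH) (Lpr_et (K44.f452766 IH) (Lpn K44.v424))))
def v417 : LQ := Led Lsl_et (LP (LK LD1_c0 LD2_c38 LD3_c0))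
theorem f452735 : Led Lsl_et (LP (LK LD1_c0 LD2_c38 LD3_c0)) = v417 :=
  Lrfl
theorem f536718 : K44.v1224 = v417 :=
  Lefun (Lecon (K44.f494116 IH) (K36.f536652 IH)) (f452735 IH)
theorem f536661 : (LP (LK LD1_c0 LD2_c36 LD3_c49)) = v417 :=
  Lefun (Lecon (Lfl_ef (K36.f452527 IH)) (K36.f536627 IH)) (f452735 IH)
theorem f536822 : K44.v424 = (LP (LK LD1_c1 LD2_c18 LD3_c61)) :=
  Lefun (Lecon (Lfl_gt (K44.f494119 IH)) ((f536718 IH).trans (f536661 IH).symm)) (K10.f197412 IH)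
theorem f537020 : (LP (LK LD1_c2 LD2_c26 LD3_c21)) = K39.v1457 :=
  Lefun (Lecon (Lfl_bf (f452767 IH)) (f536822 IH)) (K39.f495665 IH)
theorem f552083 : Led Lsl_gt (LP (LK LD1_c11 LD2_c13 LD3_c26)) = (LP (LK LD1_c6 LD2_c14 LD3_c4)) :=
  Lgr Lrot49 (Lpe (K39.f552082 IH) (Lpr_gf (K39.f552076 IH) (Lpe (K10.f181597 IH) (Lpe (K35.f538870 IH) (Lpr_dt (K39.f495672 IH) (Lpq (f537020 IH) (Lpr_gt (K12.f197878 IH) (Lpr_dt (K10.f37202 IH) (Lpe (K10.f197837 IH) (Lpe (K10.f197838 IH) (Lpn (LP (LK LD1_c6 LD2_c14 LD3_c4)))))))))))))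
theorem f60304 : Led Lsl_gt (LP (LK LD1_c11 LD2_c23 LD3_c40)) = (LP (LK LD1_c20 LD2_c21 LD3_c29)) :=
  Lre_g IH (LK LD1_c11 LD2_c23 LD3_c40) (LK LD1_c20 LD2_c21 LD3_c29) Lrfl Lrfl
theorem f449847 : Led Lsl_dt (LP (LK LD1_c27 LD2_c5 LD3_c26)) = (LP (LK LD1_c17 LD2_c15 LD3_c27)) :=
  Lre_d IH (LK LD1_c27 LD2_c5 LD3_c26) (LK LD1_c17 LD2_c15 LD3_c27) Lrfl Lrfl
theorem f619368 : Led Lsl_ef (LP (LK LD1_c20 LD2_c21 LD3_c29)) = (LP (LK LD1_c27 LD2_c5 LD3_c26)) :=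
  Lgr Lrot17 (Lpe (f60304 IH) (Lpe (K1.f60294 IH) (Lpr_dt (K1.f60204 IH) (Lpr_gf (K39.f197907 IH) (Lpe (K10.f197838 IH) (Lpe (f552083 IH) (Lpr_ef (f552100 IH) (Lpr_dt (K43.f255520 IH) (Lpe (K64.f449840 IH) (Lpe (f449847 IH) (Lpn (LP (LK LD1_c27 LD2_c5 LD3_c26)))))))))))))
theorem f619376 : Led Lsl_et (LP (LK LD1_c20 LD2_c21 LD3_c29)) = (LP (LK LD1_c27 LD2_c5 LD3_c26)) :=
  Lgr Lrot87 (Lpr_ef (f619368 IH) (Lpn (LP (LK LD1_c27 LD2_c5 LD3_c26))))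
theorem f443833 : Led Lsl_ct (LP (LK LD1_c29 LD2_c25 LD3_c15)) = (LP (LK LD1_c20 LD2_c21 LD3_c29)) :=
  Lre_c IH (LK LD1_c29 LD2_c25 LD3_c15) (LK LD1_c20 LD2_c21 LD3_c29) Lrfl Lrfl
theorem f449844 : Led Lsl_ct (LP (LK LD1_c27 LD2_c5 LD3_c26)) = (LP (LK LD1_c32 LD2_c19 LD3_c58)) :=
  Lre_c IH (LK LD1_c27 LD2_c5 LD3_c26) (LK LD1_c32 LD2_c19 LD3_c58) Lrfl Lrfl
theorem f619380 : Led Lsl_ef (LP (LK LD1_c29 LD2_c25 LD3_c15)) = (LP (LK LD1_c32 LD2_c19 LD3_c58)) :=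
  Lgr Lrot28 (Lpr_ct (f443833 IH) (Lpr_et (f619376 IH) (Lpr_ct (f449844 IH) (Lpn (LP (LK LD1_c32 LD2_c19 LD3_c58))))))
theorem f608213 : Led Lsl_ct (LP (LK LD1_c15 LD2_c6 LD3_c13)) = (LP (LK LD1_c17 LD2_c15 LD3_c27)) :=
  Lgr Lrot59 (Lpr_cf (K64.f608211 IH) (Lpn (LP (LK LD1_c17 LD2_c15 LD3_c27))))
theorem f449843 : Led Lsl_dt (LP (LK LD1_c17 LD2_c15 LD3_c27)) = (LP (LK LD1_c27 LD2_c5 LD3_c26)) :=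
  Lre_d IH (LK LD1_c17 LD2_c15 LD3_c27) (LK LD1_c27 LD2_c5 LD3_c26) Lrfl Lrfl
theorem f449845 : Led Lsl_ct (LP (LK LD1_c32 LD2_c19 LD3_c58)) = (LP (LK LD1_c27 LD2_c5 LD3_c26)) :=
  Lre_c IH (LK LD1_c32 LD2_c19 LD3_c58) (LK LD1_c27 LD2_c5 LD3_c26) Lrfl Lrfl
theorem f538715 : Led Lsl_ct (LP (LK LD1_c24 LD2_c54 LD3_c22)) = (LP (LK LD1_c31 LD2_c42 LD3_c29)) :=
  Lre_c IH (LK LD1_c24 LD2_c54 LD3_c22) (LK LD1_c31 LD2_c42 LD3_c29) Lrfl Lrfl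
theorem f608228 : Led Lsl_gf (LP (LK LD1_c32 LD2_c19 LD3_c58)) = (LP (LK LD1_c31 LD2_c42 LD3_c29)) :=
  Lgr Lrot104 (Lpr_ct (f449845 IH) (Lpe (f449843 IH) (Lpe (f608213 IH) (Lpr_gf (K64.f608224 IH) (Lpe (K50.f538694 IH) (Lpe (K64.f538708 IH) (Lpe (K64.f538711 IH) (Lpr_gt (K61.f538714 IH) (Lpr_ct (f538715 IH) (Lpn (LP (LK LD1_c31 LD2_c42 LD3_c29))))))))))))
theorem f608125 : Led Lsl_gt (LP (LK LD1_c16 LD2_c26 LD3_c39)) = (LP (LK LD1_c15 LD2_c6 LD3_c10)) :=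
  Lgr Lrot5 (Lpr_ft (K61.f608112 IH) (Lpr_at (K8.f142178 IH) (Lpe (K61.f142189 IH) (Lpn (LP (LK LD1_c15 LD2_c6 LD3_c10))))))
theorem f100233 : Led Lsl_et (LP (LK LD1_c9 LD2_c10 LD3_c27)) = (LP (LK LD1_c4 LD2_c37 LD3_c25)) :=
  Lre_e IH (LK LD1_c9 LD2_c10 LD3_c27) (LK LD1_c4 LD2_c37 LD3_c25) Lrfl Lrfl
theorem f142261 : Led Lsl_ft (LP (LK LD1_c8 LD2_c1 LD3_c14)) = (LP (LK LD1_c15 LD2_c6 LD3_c7)) :=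
  Lre_f IH (LK LD1_c8 LD2_c1 LD3_c14) (LK LD1_c15 LD2_c6 LD3_c7) Lrfl Lrfl
theorem f608121 : Led Lsl_ef (LP (LK LD1_c16 LD2_c26 LD3_c39)) = (LP (LK LD1_c15 LD2_c6 LD3_c7)) :=
  Lgr Lrot21 (Lpr_ft (K61.f608112 IH) (Lpr_et (f100233 IH) (Lpr_ft (K8.f142157 IH) (Lpr_et (K35.f80878 IH) (Lpr_ft (f142261 IH) (Lpn (LP (LK LD1_c15 LD2_c6 LD3_c7))))))))
theorem f142246 : Led Lsl_ft (LP (LK LD1_c15 LD2_c6 LD3_c7)) = (LP (LK LD1_c8 LD2_c1 LD3_c14)) :=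
  Lre_f IH (LK LD1_c15 LD2_c6 LD3_c7) (LK LD1_c8 LD2_c1 LD3_c14) Lrfl Lrfl
theorem f538633 : Led Lsl_dt (LP (LK LD1_c15 LD2_c10 LD3_c41)) = (LP (LK LD1_c15 LD2_c6 LD3_c7)) :=
  Lgr Lrot60 (Lpe (K16.f197235 IH) (Lpr_df (K35.f538627 IH) (Lpe (f142246 IH) (Lpn (LP (LK LD1_c15 LD2_c6 LD3_c7))))))
theorem f538635 : Led Lsl_df (LP (LK LD1_c15 LD2_c10 LD3_c41)) = (LP (LK LD1_c15 LD2_c6 LD3_c7)) :=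
  Lgr Lrot38 (Lpr_dt (f538633 IH) (Lpn (LP (LK LD1_c15 LD2_c6 LD3_c7))))
theorem f607959 : Led Lsl_et (LP (LK LD1_c8 LD2_c1 LD3_c19)) = (LP (LK LD1_c15 LD2_c6 LD3_c21)) :=
  Lre_e IH (LK LD1_c8 LD2_c1 LD3_c19) (LK LD1_c15 LD2_c6 LD3_c21) Lrfl Lrfl
theorem f538689 : Led Lsl_dt (LP (LK LD1_c8 LD2_c1 LD3_c19)) = (LP (LK LD1_c15 LD2_c6 LD3_c20)) :=
  Lre_d IH (LK LD1_c8 LD2_c1 LD3_c19) (LK LD1_c15 LD2_c6 LD3_c20) Lrfl Lrfl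
theorem f608130 : Led Lsl_gf (LP (LK LD1_c15 LD2_c6 LD3_c20)) = (LP (LK LD1_c24 LD2_c54 LD3_c22)) :=
  Lgr Lrot145 (Lpe (f538689 IH) (Lpr_et (f607959 IH) (Lpr_gt (K64.f554026 IH) (Lpe (K64.f607952 IH) (Lpr_gt (K47.f411121 IH) (Lpr_df (f538635 IH) (Lpe (f608121 IH) (Lpr_gt (f608125 IH) (Lpe (K61.f540962 IH) (Lpr_dt (K61.f540963 IH) (Lpn (LP (LK LD1_c24 LD2_c54 LD3_c22)))))))))))))
theorem f538696 : Led Lsl_dt (LP (LK LD1_c15 LD2_c6 LD3_c20)) = (LP (LK LD1_c8 LD2_c1 LD3_c19)) :=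
  Lre_d IH (LK LD1_c15 LD2_c6 LD3_c20) (LK LD1_c8 LD2_c1 LD3_c19) Lrfl Lrfl
theorem f445441 : Led Lsl_gt (LP (LK LD1_c8 LD2_c1 LD3_c19)) = (LP (LK LD1_c4 LD2_c0 LD3_c10)) :=
  Lre_g IH (LK LD1_c8 LD2_c1 LD3_c19) (LK LD1_c4 LD2_c0 LD3_c10) Lrfl Lrfl
theorem f538678 : Led Lsl_dt (LP (LK LD1_c4 LD2_c0 LD3_c10)) = (LP (LK LD1_c8 LD2_c1 LD3_c6)) :=
  Lre_d IH (LK LD1_c4 LD2_c0 LD3_c10) (LK LD1_c8 LD2_c1 LD3_c6) Lrfl Lrfl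
theorem f70641 : Led Lsl_ct (LP (LK LD1_c15 LD2_c5 LD3_c47)) = (LP (LK LD1_c8 LD2_c1 LD3_c6)) :=
  Lre_c IH (LK LD1_c15 LD2_c5 LD3_c47) (LK LD1_c8 LD2_c1 LD3_c6) Lrfl Lrfl
theorem f30399 : Led Lsl_dt (LP (LK LD1_c24 LD2_c53 LD3_c52)) = (LP (LK LD1_c15 LD2_c5 LD3_c47)) :=
  Lre_d IH (LK LD1_c24 LD2_c53 LD3_c52) (LK LD1_c15 LD2_c5 LD3_c47) Lrfl Lrfl
theorem f70642 : Led Lsl_gt (LP (LK LD1_c31 LD2_c42 LD3_c14)) = (LP (LK LD1_c24 LD2_c53 LD3_c52)) :=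
  Lre_g IH (LK LD1_c31 LD2_c42 LD3_c14) (LK LD1_c24 LD2_c53 LD3_c52) Lrfl Lrfl
theorem f608230 : Led Lsl_dt (LP (LK LD1_c32 LD2_c19 LD3_c58)) = (LP (LK LD1_c31 LD2_c42 LD3_c14)) :=
  Lgr Lrot57 (Lpr_gf (f608228 IH) (Lpe (f538715 IH) (Lpe (f608130 IH) (Lpr_dt (f538696 IH) (Lpr_gt (f445441 IH) (Lpr_dt (f538678 IH) (Lpe (f70641 IH) (Lpe (f30399 IH) (Lpe (f70642 IH) (Lpn (LP (LK LD1_c31 LD2_c42 LD3_c14))))))))))))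
theorem f30395 : Led Lsl_dt (LP (LK LD1_c15 LD2_c5 LD3_c47)) = (LP (LK LD1_c24 LD2_c53 LD3_c52)) :=
  Lre_d IH (LK LD1_c15 LD2_c5 LD3_c47) (LK LD1_c24 LD2_c53 LD3_c52) Lrfl Lrfl
theorem f197869 : Led Lsl_df (LP (LK LD1_c8 LD2_c44 LD3_c4)) = (LP (LK LD1_c12 LD2_c6 LD3_c45)) :=
  Lgr Lrot43 (Lpr_ct (K10.f80608 IH) (Lpr_dt (K13.f80609 IH) (Lpe (K10.f181602 IH) (Lpr_dt (K10.f197805 IH) (Lpr_ct (K10.f37240 IH) (Lpr_dt (K10.f197809 IH) (Lpr_ct (K10.f197810 IH) (Lpr_dt (K12.f197863 IH) (Lpe (K10.f197852 IH) (Lpr_dt (K10.f197827 IH) (Lpr_ct (K10.f37241 IH) (Lpr_dt (K10.f37202 IH) (Lpr_ct (K10.f37183 IH) (Lpr_dt (K10.f197833 IH) (Lpr_ct (K10.f197834 IH) (Lpn (LP (LK LD1_c12 LD2_c6 LD3_c45))))))))))))))))))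
theorem f538852 : Led Lsl_gt (LP (LK LD1_c8 LD2_c1 LD3_c5)) = (LP (LK LD1_c12 LD2_c6 LD3_c45)) :=
  Lgr Lrot49 (Lpe (K35.f30382 IH) (Lpr_gf (K35.f538848 IH) (Lpe (K13.f60757 IH) (Lpr_gt (K37.f212025 IH) (Lpr_dt (K37.f80973 IH) (Lpr_gt (K10.f80968 IH) (Lpr_dt (K10.f39212 IH) (Lpe (K10.f80608 IH) (Lpr_df (f197869 IH) (Lpn (LP (LK LD1_c12 LD2_c6 LD3_c45))))))))))))
theorem f619384 : Led Lsl_gf (LP (LK LD1_c29 LD2_c25 LD3_c15)) = (LP (LK LD1_c21 LD2_c12 LD3_c45)) :=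
  Lgr Lrot141 (Lpr_ef (f619380 IH) (Lpr_dt (f608230 IH) (Lpr_gt (f70642 IH) (Lpe (f30395 IH) (Lpr_et (K35.f30398 IH) (Lpr_gt (f538852 IH) (Lpe (f197869 IH) (Lpr_gt (K10.f197840 IH) (Lpe (K2.f37233 IH) (Lpr_et (K2.f69824 IH) (Lpn (LP (LK LD1_c21 LD2_c12 LD3_c45)))))))))))))
theorem f619386 : Led Lsl_gt (LP (LK LD1_c29 LD2_c25 LD3_c15)) = (LP (LK LD1_c29 LD2_c54 LD3_c9)) :=
  Lgr Lrot46 (Lpr_gf (f619384 IH) (Lpr_ft (K2.f69867 IH) (Lpe (K10.f69860 IH) (Lpn (LP (LK LD1_c29 LD2_c54 LD3_c9))))))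
theorem f60305 : Led Lsl_ct (LP (LK LD1_c20 LD2_c21 LD3_c29)) = (LP (LK LD1_c29 LD2_c25 LD3_c15)) :=
  Lre_c IH (LK LD1_c20 LD2_c21 LD3_c29) (LK LD1_c29 LD2_c25 LD3_c15) Lrfl Lrfl
theorem f34413 : Led Lsl_af (LP (LK LD1_c15 LD2_c12 LD3_c27)) = (LP (LK LD1_c10 LD2_c9 LD3_c25)) :=
  Lgr Lrot0 (Lpr_at (K2.f34407 IH) (Lpn (LP (LK LD1_c10 LD2_c9 LD3_c25))))
theorem f21711 : Led Lsl_ft (LP (LK LD1_c5 LD2_c9 LD3_c22)) = (LP (LK LD1_c10 LD2_c9 LD3_c25)) :=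
  Lre_f IH (LK LD1_c5 LD2_c9 LD3_c22) (LK LD1_c10 LD2_c9 LD3_c25) Lrfl Lrfl
theorem f21717 : Led Lsl_gt (LP (LK LD1_c5 LD2_c9 LD3_c22)) = (LP (LK LD1_c10 LD2_c9 LD3_c23)) :=
  Lre_g IH (LK LD1_c5 LD2_c9 LD3_c22) (LK LD1_c10 LD2_c9 LD3_c23) Lrfl Lrfl
theorem f34553 : Led Lsl_gf (LP (LK LD1_c15 LD2_c12 LD3_c27)) = (LP (LK LD1_c10 LD2_c9 LD3_c23)) :=
  Lgr Lrot76 (Lpr_af (f34413 IH) (Lpe (f21711 IH) (Lpr_gt (f21717 IH) (Lpn (LP (LK LD1_c10 LD2_c9 LD3_c23))))))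
theorem f619389 : Led Lsl_ct (LP (LK LD1_c15 LD2_c50 LD3_c38)) = (LP (LK LD1_c10 LD2_c9 LD3_c23)) :=
  Lgr Lrot152 (Lpe (K57.f46749 IH) (Lpr_df (K1.f60285 IH) (Lpr_gt (f60304 IH) (Lpr_ct (f60305 IH) (Lpr_gt (f619386 IH) (Lpr_ct (f69864 IH) (Lpr_df (K2.f69895 IH) (Lpe (K2.f34123 IH) (Lpr_gf (f34553 IH) (Lpn (LP (LK LD1_c10 LD2_c9 LD3_c23))))))))))))
theorem f60288 : Led Lsl_at (LP (LK LD1_c12 LD2_c7 LD3_c15)) = (LP (LK LD1_c11 LD2_c23 LD3_c40)) :=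
  Lgr Lrot51 (Lpr_df (K37.f56454 IH) (Lpe (K1.f46757 IH) (Lpr_df (K1.f60285 IH) (Lpn (LP (LK LD1_c11 LD2_c23 LD3_c40))))))
theorem f60299 : Led Lsl_gt (LP (LK LD1_c20 LD2_c21 LD3_c30)) = (LP (LK LD1_c11 LD2_c23 LD3_c40)) :=
  Lre_g IH (LK LD1_c20 LD2_c21 LD3_c30) (LK LD1_c11 LD2_c23 LD3_c40) Lrfl Lrfl
theorem f443836 : Led Lsl_gt (LP (LK LD1_c21 LD2_c13 LD3_c23)) = (LP (LK LD1_c20 LD2_c21 LD3_c30)) :=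
  Lgr Lrot5 (Lpr_ft (K1.f56451 IH) (Lpr_at (f60288 IH) (Lpe (f60299 IH) (Lpn (LP (LK LD1_c20 LD2_c21 LD3_c30))))))
theorem f34541 : Led Lsl_dt (LP (LK LD1_c15 LD2_c12 LD3_c27)) = (LP (LK LD1_c18 LD2_c4 LD3_c13)) :=
  Lgr Lrot42 (Lpr_df (K2.f34417 IH) (Lpn (LP (LK LD1_c18 LD2_c4 LD3_c13))))
theorem f3464 : Led Lsl_gt (LP (LK LD1_c18 LD2_c4 LD3_c13)) = (LP (LK LD1_c9 LD2_c54 LD3_c40)) :=
  Lre_g IH (LK LD1_c18 LD2_c4 LD3_c13) (LK LD1_c9 LD2_c54 LD3_c40) Lrfl Lrfl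
theorem f619418 : Led Lsl_dt (LP (LK LD1_c20 LD2_c21 LD3_c30)) = (LP (LK LD1_c27 LD2_c48 LD3_c51)) :=
  Lgr Lrot113 (Lpe (f443836 IH) (Lpr_df (K1.f56446 IH) (Lpe (K57.f46750 IH) (Lpr_ct (f619389 IH) (Lpe (f34553 IH) (Lpr_dt (f34541 IH) (Lpr_gt (f3464 IH) (Lpr_dt (f3465 IH) (Lpr_ct (f34547 IH) (Lpn (LP (LK LD1_c27 LD2_c48 LD3_c51))))))))))))
theorem f619421 : Led Lsl_df (LP (LK LD1_c20 LD2_c21 LD3_c30)) = (LP (LK LD1_c27 LD2_c48 LD3_c51)) :=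
  Lgr Lrot38 (Lpr_dt (f619418 IH) (Lpn (LP (LK LD1_c27 LD2_c48 LD3_c51))))
theorem f60303 : Led Lsl_ct (LP (LK LD1_c20 LD2_c21 LD3_c30)) = (LP (LK LD1_c29 LD2_c25 LD3_c16)) :=
  Lre_c IH (LK LD1_c20 LD2_c21 LD3_c30) (LK LD1_c29 LD2_c25 LD3_c16) Lrfl Lrfl
theorem f922801 : Led Lsl_df (LP (LK LD1_c32 LD2_c28 LD3_c37)) = (LP (LK LD1_c29 LD2_c25 LD3_c16)) :=
  Lgr Lrot13 (Lpr_ct (f743182 IH) (Lpr_dt (f743181 IH) (Lpr_ct (f3471 IH) (Lpr_af (f922797 IH) (Lpe (f922800 IH) (Lpr_dt (f3465 IH) (Lpr_ct (f34547 IH) (Lpe (f619421 IH) (Lpr_ct (f60303 IH) (Lpn (LP (LK LD1_c29 LD2_c25 LD3_c16))))))))))))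
theorem f922802 : Led Lsl_dt (LP (LK LD1_c29 LD2_c25 LD3_c16)) = (LP (LK LD1_c32 LD2_c28 LD3_c37)) :=
  Leop (Lpr_df (f922801 IH) (Lpn (LP (LK LD1_c29 LD2_c25 LD3_c16))))
theorem seed_2457 : LEOK LG_d (LK LD1_c29 LD2_c25 LD3_c16) :=
  Leoe_d (LK LD1_c29 LD2_c25 LD3_c16) (f922802 IH)
def v41275 : LQ := Led Lsl_bt (LP (LK LD1_c9 LD2_c55 LD3_c41))
theorem f923015 : Led Lsl_bt (LP (LK LD1_c9 LD2_c55 LD3_c41)) = v41275 :=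
  Lrfl
theorem f923016 : Led Lsl_bf (LP (LK LD1_c9 LD2_c55 LD3_c41)) = v41275 :=
  Lgr Lrot24 (Lpr_bt (f923015 IH) (Lpn v41275))
theorem f251532 : Led Lsl_gt (LP (LK LD1_c9 LD2_c55 LD3_c41)) = (LP (LK LD1_c5 LD2_c2 LD3_c25)) :=
  Lre_g IH (LK LD1_c9 LD2_c55 LD3_c41) (LK LD1_c5 LD2_c2 LD3_c25) Lrfl Lrfl
theorem f300625 : Led Lsl_gt (LP (LK LD1_c9 LD2_c56 LD3_c0)) = (LP (LK LD1_c18 LD2_c10 LD3_c42)) :=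
  Lre_g IH (LK LD1_c9 LD2_c56 LD3_c0) (LK LD1_c18 LD2_c10 LD3_c42) Lrfl Lrfl
theorem f923018 : Led Lsl_cf (LP (LK LD1_c18 LD2_c10 LD3_c42)) = v41275 :=
  Lgr Lrot163 (Lpe (f300625 IH) (Lpe (K44.f169607 IH) (Lpe (K44.f3787 IH) (Lpe (K44.f3786 IH) (Lpr_ct (K9.f165607 IH) (Lpe (K9.f165276 IH) (Lpe (K9.f165278 IH) (Lpr_bt (K45.f169977 IH) (Lpe (f251532 IH) (Lpr_bf (f923016 IH) (Lpn v41275)))))))))))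
def v14638 : LQ := Led Lsl_at (LP (LK LD1_c5 LD2_c16 LD3_c4))
theorem f724185 : Led Lsl_at (LP (LK LD1_c5 LD2_c16 LD3_c4)) = v14638 :=
  Lrfl
theorem f724188 : Led Lsl_ft (LP (LK LD1_c10 LD2_c21 LD3_c43)) = (LP (LK LD1_c5 LD2_c16 LD3_c4)) :=
  Lre_f IH (LK LD1_c10 LD2_c21 LD3_c43) (LK LD1_c5 LD2_c16 LD3_c4) Lrfl Lrfl
theorem f724189 : Led Lsl_at (LP (LK LD1_c5 LD2_c16 LD3_c5)) = (LP (LK LD1_c10 LD2_c21 LD3_c43)) :=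
  Lre_a IH (LK LD1_c5 LD2_c16 LD3_c5) (LK LD1_c10 LD2_c21 LD3_c43) Lrfl Lrfl
theorem f724190 : Led Lsl_ff (LP (LK LD1_c5 LD2_c16 LD3_c5)) = v14638 :=
  Lgr Lrot30 (Lpr_at (f724189 IH) (Lpr_ft (f724188 IH) (Lpr_at (f724185 IH) (Lpn v14638))))
theorem f724194 : Led Lsl_ft (LP (LK LD1_c5 LD2_c16 LD3_c5)) = v14638 :=
  Lgr Lrot48 (Lpr_ff (f724190 IH) (Lpn v14638))
theorem f724359 : (LP (LK LD1_c9 LD2_c59 LD3_c41)) = v14638 :=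
  (Llr Lrot108 (Lpr_ct (K53.f164043 IH) (Lpr_ft (K53.f585475 IH) (Lpq (f724353 IH) (Lpe (f724216 IH) (Lpr_ft (f724194 IH) (Lpn v14638))))))).symm
theorem f32777 : Led Lsl_bt (LP (LK LD1_c10 LD2_c21 LD3_c44)) = (LP (LK LD1_c5 LD2_c16 LD3_c5)) :=
  Lre_b IH (LK LD1_c10 LD2_c21 LD3_c44) (LK LD1_c5 LD2_c16 LD3_c5) Lrfl Lrfl
theorem f724365 : Led Lsl_ff (LP (LK LD1_c10 LD2_c21 LD3_c44)) = (LP (LK LD1_c18 LD2_c16 LD3_c16)) :=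
  Lgr Lrot25 (Lpr_bt (f32777 IH) (Lpr_ft (f724194 IH) (Lpq (f724359 IH) (Lpr_bt (K53.f343429 IH) (Lpn (LP (LK LD1_c18 LD2_c16 LD3_c16)))))))
theorem f724384 : Led Lsl_at (LP (LK LD1_c10 LD2_c21 LD3_c44)) = (LP (LK LD1_c18 LD2_c48 LD3_c28)) :=
  Lre_a IH (LK LD1_c10 LD2_c21 LD3_c44) (LK LD1_c18 LD2_c48 LD3_c28) Lrfl Lrfl
theorem f343418 : Led Lsl_cf (LP (LK LD1_c9 LD2_c59 LD3_c39)) = (LP (LK LD1_c10 LD2_c22 LD3_c42)) :=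
  Lgr Lrot11 (Lpr_ct (K53.f343398 IH) (Lpn (LP (LK LD1_c10 LD2_c22 LD3_c42))))
theorem f180764 : Led Lsl_gt (LP (LK LD1_c9 LD2_c52 LD3_c2)) = (LP (LK LD1_c18 LD2_c3 LD3_c41)) :=
  Lre_g IH (LK LD1_c9 LD2_c52 LD3_c2) (LK LD1_c18 LD2_c3 LD3_c41) Lrfl Lrfl
theorem f343069 : Led Lsl_gf (LP (LK LD1_c9 LD2_c54 LD3_c9)) = (LP (LK LD1_c18 LD2_c3 LD3_c41)) :=
  Lgr Lrot76 (Lpe (K53.f252896 IH) (Lpr_ff (K23.f343063 IH) (Lpr_gt (f180764 IH) (Lpn (LP (LK LD1_c18 LD2_c3 LD3_c41))))))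
theorem f181007 : Led Lsl_ct (LP (LK LD1_c27 LD2_c45 LD3_c14)) = (LP (LK LD1_c18 LD2_c3 LD3_c41)) :=
  Lre_c IH (LK LD1_c27 LD2_c45 LD3_c14) (LK LD1_c18 LD2_c3 LD3_c41) Lrfl Lrfl
theorem f343430 : Led Lsl_gt (LP (LK LD1_c18 LD2_c16 LD3_c16)) = (LP (LK LD1_c27 LD2_c45 LD3_c14)) :=
  Lgr Lrot82 (Lpe (K53.f343429 IH) (Lpr_ct (K53.f164043 IH) (Lpe (K53.f343374 IH) (Lpr_cf (f343418 IH) (Lpr_bt (K53.f214885 IH) (Lpr_gf (K37.f343294 IH) (Lpe (K37.f328581 IH) (Lpr_ct (K37.f252842 IH) (Lpr_gf (f343069 IH) (Lpe (f181007 IH) (Lpn (LP (LK LD1_c27 LD2_c45 LD3_c14)))))))))))))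
theorem f724391 : Led Lsl_gf (LP (LK LD1_c18 LD2_c48 LD3_c28)) = (LP (LK LD1_c27 LD2_c45 LD3_c14)) :=
  Lgr Lrot76 (Lpe (f724384 IH) (Lpr_ff (f724365 IH) (Lpr_gt (f343430 IH) (Lpn (LP (LK LD1_c27 LD2_c45 LD3_c14))))))
theorem f181000 : Led Lsl_ct (LP (LK LD1_c18 LD2_c3 LD3_c41)) = (LP (LK LD1_c27 LD2_c45 LD3_c14)) :=
  Lre_c IH (LK LD1_c18 LD2_c3 LD3_c41) (LK LD1_c27 LD2_c45 LD3_c14) Lrfl Lrfl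
theorem f45923 : Led Lsl_gt (LP (LK LD1_c15 LD2_c14 LD3_c34)) = (LP (LK LD1_c8 LD2_c5 LD3_c44)) :=
  Lre_g IH (LK LD1_c15 LD2_c14 LD3_c34) (LK LD1_c8 LD2_c5 LD3_c44) Lrfl Lrfl
theorem f45978 : Led Lsl_bt (LP (LK LD1_c25 LD2_c3 LD3_c43)) = (LP (LK LD1_c15 LD2_c14 LD3_c34)) :=
  Lre_b IH (LK LD1_c25 LD2_c3 LD3_c43) (LK LD1_c15 LD2_c14 LD3_c34) Lrfl Lrfl
theorem f724393 : Led Lsl_cf (LP (LK LD1_c18 LD2_c48 LD3_c28)) = (LP (LK LD1_c25 LD2_c3 LD3_c43)) :=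
  Lgr Lrot163 (Lpr_gf (f724391 IH) (Lpe (f181000 IH) (Lpe (f180764 IH) (Lpe (K26.f180755 IH) (Lpe (K14.f180758 IH) (Lpe (K12.f212443 IH) (Lpe (K9.f45858 IH) (Lpr_bt (K44.f45977 IH) (Lpe (f45923 IH) (Lpe (f45978 IH) (Lpn (LP (LK LD1_c25 LD2_c3 LD3_c43)))))))))))))
theorem f724221 : Led Lsl_at (LP (LK LD1_c18 LD2_c48 LD3_c28)) = (LP (LK LD1_c10 LD2_c21 LD3_c44)) :=
  Lre_a IH (LK LD1_c18 LD2_c48 LD3_c28) (LK LD1_c10 LD2_c21 LD3_c44) Lrfl Lrfl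
theorem f724385 : Led Lsl_ft (LP (LK LD1_c18 LD2_c16 LD3_c33)) = (LP (LK LD1_c9 LD2_c59 LD3_c47)) :=
  Lre_f IH (LK LD1_c18 LD2_c16 LD3_c33) (LK LD1_c9 LD2_c59 LD3_c47) Lrfl Lrfl
theorem f724386 : Led Lsl_ct (LP (LK LD1_c10 LD2_c21 LD3_c44)) = (LP (LK LD1_c18 LD2_c16 LD3_c33)) :=
  Lgr Lrot40 (Lpr_ff (f724365 IH) (Lpe (K53.f252874 IH) (Lpe (f724385 IH) (Lpn (LP (LK LD1_c18 LD2_c16 LD3_c33))))))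
theorem f724396 : Led Lsl_at (LP (LK LD1_c18 LD2_c16 LD3_c33)) = (LP (LK LD1_c25 LD2_c3 LD3_c43)) :=
  Lgr Lrot107 (Lpe (f724386 IH) (Lpe (f724221 IH) (Lpr_cf (f724393 IH) (Lpn (LP (LK LD1_c25 LD2_c3 LD3_c43))))))
theorem f721589 : Led Lsl_bt (LP (LK LD1_c9 LD2_c59 LD3_c50)) = (LP (LK LD1_c18 LD2_c16 LD3_c33)) :=
  Lre_b IH (LK LD1_c9 LD2_c59 LD3_c50) (LK LD1_c18 LD2_c16 LD3_c33) Lrfl Lrfl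
theorem f721647 : Led Lsl_at (LP (LK LD1_c5 LD2_c4 LD3_c29)) = (LP (LK LD1_c9 LD2_c59 LD3_c50)) :=
  Lre_a IH (LK LD1_c5 LD2_c4 LD3_c29) (LK LD1_c9 LD2_c59 LD3_c50) Lrfl Lrfl
theorem f724404 : Led Lsl_af (LP (LK LD1_c10 LD2_c0 LD3_c1)) = (LP (LK LD1_c15 LD2_c14 LD3_c34)) :=
  Lgr Lrot36 (Lpr_bt (K53.f583276 IH) (Lpr_at (f721647 IH) (Lpr_bt (f721589 IH) (Lpr_at (f724396 IH) (Lpr_bt (f45978 IH) (Lpn (LP (LK LD1_c15 LD2_c14 LD3_c34))))))))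
theorem f724421 : Led Lsl_et (LP (LK LD1_c10 LD2_c0 LD3_c1)) = (LP (LK LD1_c18 LD2_c16 LD3_c55)) :=
  Lre_e IH (LK LD1_c10 LD2_c0 LD3_c1) (LK LD1_c18 LD2_c16 LD3_c55) Lrfl Lrfl
theorem f582909 : Led Lsl_et (LP (LK LD1_c25 LD2_c3 LD3_c45)) = (LP (LK LD1_c15 LD2_c14 LD3_c34)) :=
  Lre_e IH (LK LD1_c25 LD2_c3 LD3_c45) (LK LD1_c15 LD2_c14 LD3_c34) Lrfl Lrfl
theorem f724422 : Led Lsl_at (LP (LK LD1_c18 LD2_c16 LD3_c55)) = (LP (LK LD1_c25 LD2_c3 LD3_c45)) :=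
  Lgr Lrot80 (Lpe (f724421 IH) (Lpr_af (f724404 IH) (Lpe (f582909 IH) (Lpn (LP (LK LD1_c25 LD2_c3 LD3_c45))))))
theorem f724428 : Led Lsl_ct (LP (LK LD1_c27 LD2_c56 LD3_c8)) = (LP (LK LD1_c18 LD2_c16 LD3_c55)) :=
  Lre_c IH (LK LD1_c27 LD2_c56 LD3_c8) (LK LD1_c18 LD2_c16 LD3_c55) Lrfl Lrfl
theorem f724429 : Led Lsl_ct (LP (LK LD1_c25 LD2_c3 LD3_c45)) = (LP (LK LD1_c31 LD2_c45 LD3_c11)) :=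
  Lre_c IH (LK LD1_c25 LD2_c3 LD3_c45) (LK LD1_c31 LD2_c45 LD3_c11) Lrfl Lrfl
theorem f724430 : Led Lsl_af (LP (LK LD1_c27 LD2_c56 LD3_c8)) = (LP (LK LD1_c31 LD2_c45 LD3_c11)) :=
  Lgr Lrot68 (Lpr_ct (f724428 IH) (Lpr_at (f724422 IH) (Lpr_ct (f724429 IH) (Lpn (LP (LK LD1_c31 LD2_c45 LD3_c11))))))
theorem f724332 : Led Lsl_bt (LP (LK LD1_c27 LD2_c56 LD3_c8)) = (LP (LK LD1_c18 LD2_c16 LD3_c50)) :=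
  Lre_b IH (LK LD1_c27 LD2_c56 LD3_c8) (LK LD1_c18 LD2_c16 LD3_c50) Lrfl Lrfl
theorem f544826 : Led Lsl_dt (LP (LK LD1_c18 LD2_c13 LD3_c47)) = (LP (LK LD1_c18 LD2_c32 LD3_c50)) :=
  Lgr Lrot6 (Lpr_gt (K53.f405313 IH) (Lpr_ct (K38.f184513 IH) (Lpe (K38.f405309 IH) (Lpr_ct (K37.f343347 IH) (Lpe (K37.f343439 IH) (Lpr_cf (K37.f544822 IH) (Lpe (K37.f264950 IH) (Lpr_cf (K37.f264946 IH) (Lpe (K53.f376892 IH) (Lpn (LP (LK LD1_c18 LD2_c32 LD3_c50))))))))))))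
theorem f724279 : Led Lsl_ft (LP (LK LD1_c17 LD2_c47 LD3_c44)) = (LP (LK LD1_c18 LD2_c13 LD3_c47)) :=
  Lgr Lrot54 (Lpe (K53.f724254 IH) (Lpr_ff (K53.f724277 IH) (Lpe (f544826 IH) (Lpn (LP (LK LD1_c18 LD2_c13 LD3_c47))))))
theorem f724317 : Led Lsl_af (LP (LK LD1_c17 LD2_c47 LD3_c44)) = (LP (LK LD1_c9 LD2_c59 LD3_c60)) :=
  Lgr Lrot45 (Lpr_ft (f724279 IH) (Lpe (K53.f724275 IH) (Lpr_ft (K53.f724269 IH) (Lpn (LP (LK LD1_c9 LD2_c59 LD3_c60))))))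
theorem f724241 : Led Lsl_et (LP (LK LD1_c17 LD2_c47 LD3_c44)) = (LP (LK LD1_c27 LD2_c34 LD3_c55)) :=
  Lre_e IH (LK LD1_c17 LD2_c47 LD3_c44) (LK LD1_c27 LD2_c34 LD3_c55) Lrfl Lrfl
theorem f247947 : Led Lsl_et (LP (LK LD1_c18 LD2_c16 LD3_c50)) = (LP (LK LD1_c9 LD2_c59 LD3_c60)) :=
  Lre_e IH (LK LD1_c18 LD2_c16 LD3_c50) (LK LD1_c9 LD2_c59 LD3_c60) Lrfl Lrfl
theorem f724320 : Led Lsl_at (LP (LK LD1_c27 LD2_c34 LD3_c55)) = (LP (LK LD1_c18 LD2_c16 LD3_c50)) :=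
  Lgr Lrot80 (Lpe (f724241 IH) (Lpr_af (f724317 IH) (Lpe (f247947 IH) (Lpn (LP (LK LD1_c18 LD2_c16 LD3_c50))))))
theorem f724322 : Led Lsl_af (LP (LK LD1_c27 LD2_c34 LD3_c55)) = (LP (LK LD1_c18 LD2_c16 LD3_c50)) :=
  Lgr Lrot0 (Lpr_at (f724320 IH) (Lpn (LP (LK LD1_c18 LD2_c16 LD3_c50))))
theorem f724330 : Led Lsl_bt (LP (LK LD1_c27 LD2_c34 LD3_c55)) = (LP (LK LD1_c17 LD2_c47 LD3_c47)) :=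
  Lre_b IH (LK LD1_c27 LD2_c34 LD3_c55) (LK LD1_c17 LD2_c47 LD3_c47) Lrfl Lrfl
theorem f724331 : Led Lsl_at (LP (LK LD1_c17 LD2_c47 LD3_c47)) = (LP (LK LD1_c27 LD2_c34 LD3_c54)) :=
  Lre_a IH (LK LD1_c17 LD2_c47 LD3_c47) (LK LD1_c27 LD2_c34 LD3_c54) Lrfl Lrfl
theorem f724437 : Led Lsl_bt (LP (LK LD1_c27 LD2_c34 LD3_c54)) = (LP (LK LD1_c31 LD2_c45 LD3_c11)) :=
  Lgr Lrot62 (Lpe (f724331 IH) (Lpe (f724330 IH) (Lpr_af (f724322 IH) (Lpe (f724332 IH) (Lpr_af (f724430 IH) (Lpn (LP (LK LD1_c31 LD2_c45 LD3_c11))))))))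
theorem f724443 : Led Lsl_et (LP (LK LD1_c17 LD2_c47 LD3_c43)) = (LP (LK LD1_c27 LD2_c34 LD3_c54)) :=
  Lre_e IH (LK LD1_c17 LD2_c47 LD3_c43) (LK LD1_c27 LD2_c34 LD3_c54) Lrfl Lrfl
theorem f724444 : Led Lsl_et (LP (LK LD1_c31 LD2_c45 LD3_c11)) = (LP (LK LD1_c25 LD2_c3 LD3_c44)) :=
  Lre_e IH (LK LD1_c31 LD2_c45 LD3_c11) (LK LD1_c25 LD2_c3 LD3_c44) Lrfl Lrfl
theorem f724445 : Led Lsl_bf (LP (LK LD1_c17 LD2_c47 LD3_c43)) = (LP (LK LD1_c25 LD2_c3 LD3_c44)) :=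
  Lgr Lrot96 (Lpr_et (f724443 IH) (Lpr_bt (f724437 IH) (Lpr_et (f724444 IH) (Lpn (LP (LK LD1_c25 LD2_c3 LD3_c44))))))
theorem f45924 : Led Lsl_ct (LP (LK LD1_c25 LD2_c3 LD3_c44)) = (LP (LK LD1_c15 LD2_c14 LD3_c34)) :=
  Lre_c IH (LK LD1_c25 LD2_c3 LD3_c44) (LK LD1_c15 LD2_c14 LD3_c34) Lrfl Lrfl
theorem f724454 : Led Lsl_gf (LP (LK LD1_c17 LD2_c47 LD3_c43)) = (LP (LK LD1_c9 LD2_c40 LD3_c28)) :=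
  Lgr Lrot124 (Lpr_bf (f724445 IH) (Lpr_ct (f45924 IH) (Lpr_gt (f45923 IH) (Lpr_cf (K10.f45860 IH) (Lpr_bt (K10.f43968 IH) (Lpr_gt (K14.f248286 IH) (Lpr_ct (K12.f43797 IH) (Lpe (K12.f43795 IH) (Lpe (K14.f43454 IH) (Lpr_bt (K44.f43701 IH) (Lpn (LP (LK LD1_c9 LD2_c40 LD3_c28)))))))))))))
theorem f724319 : Led Lsl_at (LP (LK LD1_c9 LD2_c40 LD3_c25)) = (LP (LK LD1_c17 LD2_c47 LD3_c43)) :=
  Lre_a IH (LK LD1_c9 LD2_c40 LD3_c25) (LK LD1_c17 LD2_c47 LD3_c43) Lrfl Lrfl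
theorem f724309 : Led Lsl_ft (LP (LK LD1_c17 LD2_c47 LD3_c38)) = (LP (LK LD1_c9 LD2_c40 LD3_c25)) :=
  Lre_f IH (LK LD1_c17 LD2_c47 LD3_c38) (LK LD1_c9 LD2_c40 LD3_c25) Lrfl Lrfl
theorem f724456 : Led Lsl_gt (LP (LK LD1_c17 LD2_c47 LD3_c38)) = (LP (LK LD1_c9 LD2_c40 LD3_c28)) :=
  Lgr Lrot5 (Lpr_ft (f724309 IH) (Lpr_at (f724319 IH) (Lpr_gf (f724454 IH) (Lpn (LP (LK LD1_c9 LD2_c40 LD3_c28))))))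
theorem f299652 : Led Lsl_dt (LP (LK LD1_c10 LD2_c11 LD3_c2)) = (LP (LK LD1_c18 LD2_c33 LD3_c6)) :=
  Lre_d IH (LK LD1_c10 LD2_c11 LD3_c2) (LK LD1_c18 LD2_c33 LD3_c6) Lrfl Lrfl
theorem f300627 : Led Lsl_gt (LP (LK LD1_c18 LD2_c10 LD3_c43)) = (LP (LK LD1_c9 LD2_c56 LD3_c0)) :=
  Lre_g IH (LK LD1_c18 LD2_c10 LD3_c43) (LK LD1_c9 LD2_c56 LD3_c0) Lrfl Lrfl
theorem f724463 : Led Lsl_dt (LP (LK LD1_c17 LD2_c47 LD3_c38)) = (LP (LK LD1_c18 LD2_c10 LD3_c43)) :=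
  Lgr Lrot6 (Lpr_gt (f724456 IH) (Lpe (K44.f252484 IH) (Lpr_gt (K44.f212458 IH) (Lpe (K44.f584359 IH) (Lpe (f299652 IH) (Lpe (K18.f299649 IH) (Lpe (K44.f300622 IH) (Lpe (K44.f165341 IH) (Lpe (f300627 IH) (Lpn (LP (LK LD1_c18 LD2_c10 LD3_c43))))))))))))
theorem f724583 : Led Lsl_ff (LP (LK LD1_c17 LD2_c47 LD3_c46)) = (LP (LK LD1_c18 LD2_c10 LD3_c43)) :=
  Lgr Lrot19 (Lpr_dt (K45.f51307 IH) (Lpr_ft (K53.f724287 IH) (Lpr_dt (f724463 IH) (Lpn (LP (LK LD1_c18 LD2_c10 LD3_c43))))))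
theorem f724597 : Led Lsl_at (LP (LK LD1_c17 LD2_c47 LD3_c46)) = (LP (LK LD1_c18 LD2_c10 LD3_c42)) :=
  Lgr Lrot26 (Lpr_ff (f724583 IH) (Lpr_gt (f300627 IH) (Lpr_gt (f300625 IH) (Lpn (LP (LK LD1_c18 LD2_c10 LD3_c42))))))
theorem f586573 : Led Lsl_at (LP (LK LD1_c17 LD2_c47 LD3_c43)) = (LP (LK LD1_c9 LD2_c40 LD3_c25)) :=
  Lre_a IH (LK LD1_c17 LD2_c47 LD3_c43) (LK LD1_c9 LD2_c40 LD3_c25) Lrfl Lrfl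
theorem f724601 : Led Lsl_df (LP (LK LD1_c17 LD2_c47 LD3_c43)) = (LP (LK LD1_c18 LD2_c10 LD3_c42)) :=
  Lgr Lrot18 (Lpr_at (f586573 IH) (Lpr_dt (K45.f43691 IH) (Lpr_at (f724597 IH) (Lpn (LP (LK LD1_c18 LD2_c10 LD3_c42))))))
theorem f724449 : Led Lsl_ft (LP (LK LD1_c17 LD2_c47 LD3_c43)) = (LP (LK LD1_c9 LD2_c40 LD3_c24)) :=
  Lre_f IH (LK LD1_c17 LD2_c47 LD3_c43) (LK LD1_c9 LD2_c40 LD3_c24) Lrfl Lrfl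
theorem f44416 : Led Lsl_dt (LP (LK LD1_c9 LD2_c40 LD3_c24)) = (LP (LK LD1_c17 LD2_c47 LD3_c41)) :=
  Lre_d IH (LK LD1_c9 LD2_c40 LD3_c24) (LK LD1_c17 LD2_c47 LD3_c41) Lrfl Lrfl
theorem f724607 : Led Lsl_ft (LP (LK LD1_c17 LD2_c47 LD3_c41)) = (LP (LK LD1_c18 LD2_c10 LD3_c42)) :=
  Lgr Lrot54 (Lpe (f44416 IH) (Lpe (f724449 IH) (Lpr_df (f724601 IH) (Lpn (LP (LK LD1_c18 LD2_c10 LD3_c42))))))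
theorem f724609 : Led Lsl_ff (LP (LK LD1_c17 LD2_c47 LD3_c41)) = (LP (LK LD1_c18 LD2_c10 LD3_c42)) :=
  Lgr Lrot3 (Lpr_ft (f724607 IH) (Lpn (LP (LK LD1_c18 LD2_c10 LD3_c42))))
theorem f196052 : Led Lsl_bt (LP (LK LD1_c5 LD2_c27 LD3_c2)) = (LP (LK LD1_c2 LD2_c39 LD3_c57)) :=
  Lre_b IH (LK LD1_c5 LD2_c27 LD3_c2) (LK LD1_c2 LD2_c39 LD3_c57) Lrfl Lrfl
theorem f283968 : Led Lsl_ct (LP (LK LD1_c1 LD2_c15 LD3_c22)) = (LP (LK LD1_c1 LD2_c11 LD3_c38)) :=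
  Lgr Lrot8 (Lpr_gt (K9.f44319 IH) (Lpr_dt (K14.f41534 IH) (Lpr_gt (K13.f42133 IH) (Lpr_dt (K16.f254283 IH) (Lpr_cf (K14.f199159 IH) (Lpr_df (K14.f249601 IH) (Lpe (K12.f197034 IH) (Lpe (K9.f41381 IH) (Lpr_gf (K17.f283964 IH) (Lpn (LP (LK LD1_c1 LD2_c11 LD3_c38))))))))))))
theorem f166615 : Led Lsl_at (LP (LK LD1_c2 LD2_c3 LD3_c61)) = (LP (LK LD1_c0 LD2_c58 LD3_c60)) :=
  Lre_a IH (LK LD1_c2 LD2_c3 LD3_c61) (LK LD1_c0 LD2_c58 LD3_c60) Lrfl Lrfl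
theorem f290128 : Led Lsl_ff (LP (LK LD1_c2 LD2_c3 LD3_c61)) = (LP (LK LD1_c2 LD2_c6 LD3_c57)) :=
  Lgr Lrot103 (Lpr_at (f166615 IH) (Lpr_cf (K14.f200147 IH) (Lpe (K15.f170627 IH) (Lpe (K15.f170630 IH) (Lpe (K17.f170631 IH) (Lpe (K17.f170632 IH) (Lpr_df (K17.f290109 IH) (Lpe (K17.f222113 IH) (Lpr_df (K17.f222106 IH) (Lpn (LP (LK LD1_c2 LD2_c6 LD3_c57))))))))))))
theorem f304560 : Led Lsl_ff (LP (LK LD1_c1 LD2_c9 LD3_c46)) = (LP (LK LD1_c1 LD2_c9 LD3_c42)) :=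
  Lgr Lrot72 (Lpr_et (K14.f193138 IH) (Lpr_ft (K14.f256120 IH) (Lpr_et (K18.f200627 IH) (Lpe (f290128 IH) (Lpr_et (K19.f304554 IH) (Lpn (LP (LK LD1_c1 LD2_c9 LD3_c42))))))))
theorem f304562 : Led Lsl_ft (LP (LK LD1_c1 LD2_c9 LD3_c46)) = (LP (LK LD1_c1 LD2_c9 LD3_c42)) :=
  Lgr Lrot48 (Lpr_ff (f304560 IH) (Lpn (LP (LK LD1_c1 LD2_c9 LD3_c42))))
theorem f304564 : Led Lsl_bf (LP (LK LD1_c1 LD2_c9 LD3_c46)) = (LP (LK LD1_c1 LD2_c11 LD3_c38)) :=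
  Lgr Lrot61 (Lpr_ft (f304562 IH) (Lpe (K17.f283807 IH) (Lpr_ft (K17.f283938 IH) (Lpn (LP (LK LD1_c1 LD2_c11 LD3_c38))))))
theorem f44415 : Led Lsl_gt (LP (LK LD1_c4 LD2_c54 LD3_c26)) = (LP (LK LD1_c9 LD2_c40 LD3_c24)) :=
  Lre_g IH (LK LD1_c4 LD2_c54 LD3_c26) (LK LD1_c9 LD2_c40 LD3_c24) Lrfl Lrfl
theorem f185403 : Led Lsl_bt (LP (LK LD1_c18 LD2_c32 LD3_c0)) = (LP (LK LD1_c10 LD2_c10 LD3_c23)) :=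
  Lre_b IH (LK LD1_c18 LD2_c32 LD3_c0) (LK LD1_c10 LD2_c10 LD3_c23) Lrfl Lrfl
theorem f586567 : Led Lsl_ct (LP (LK LD1_c17 LD2_c47 LD3_c41)) = (LP (LK LD1_c18 LD2_c32 LD3_c0)) :=
  Lgr Lrot191 (Lpe (f44416 IH) (Lpe (f44415 IH) (Lpe (K21.f43697 IH) (Lpe (K9.f43465 IH) (Lpe (K10.f41393 IH) (Lpe (K12.f31527 IH) (Lpr_bf (f304564 IH) (Lpe (f283968 IH) (Lpe (K14.f179078 IH) (Lpr_gf (K14.f196047 IH) (Lpe (K15.f183936 IH) (Lpe (K10.f184905 IH) (Lpr_df (K10.f185078 IH) (Lpr_gf (K10.f195788 IH) (Lpe (f196052 IH) (Lpr_cf (K45.f586562 IH) (Lpe (K45.f403046 IH) (Lpe (K45.f185387 IH) (Lpe (f185403 IH) (Lpn (LP (LK LD1_c18 LD2_c32 LD3_c0))))))))))))))))))))))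
theorem f923019 : Led Lsl_ft (LP (LK LD1_c18 LD2_c32 LD3_c0)) = v41275 :=
  Lgr Lrot4 (Lpe (f586567 IH) (Lpr_ff (f724609 IH) (Lpr_cf (f923018 IH) (Lpn v41275))))
theorem f586553 : Led Lsl_bt (LP (LK LD1_c10 LD2_c10 LD3_c23)) = (LP (LK LD1_c18 LD2_c32 LD3_c0)) :=
  Lre_b IH (LK LD1_c10 LD2_c10 LD3_c23) (LK LD1_c18 LD2_c32 LD3_c0) Lrfl Lrfl
def v41271 : LQ := Led Lsl_at (LP (LK LD1_c9 LD2_c55 LD3_c40))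
theorem f923001 : Led Lsl_at (LP (LK LD1_c9 LD2_c55 LD3_c40)) = v41271 :=
  Lrfl
theorem f923002 : Led Lsl_af (LP (LK LD1_c9 LD2_c55 LD3_c40)) = v41271 :=
  Lgr Lrot0 (Lpr_at (f923001 IH) (Lpn v41271))
theorem f169978 : Led Lsl_gt (LP (LK LD1_c5 LD2_c2 LD3_c25)) = (LP (LK LD1_c9 LD2_c55 LD3_c40)) :=
  Lre_g IH (LK LD1_c5 LD2_c2 LD3_c25) (LK LD1_c9 LD2_c55 LD3_c40) Lrfl Lrfl
theorem f923004 : Led Lsl_ft (LP (LK LD1_c9 LD2_c55 LD3_c41)) = v41271 :=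
  Lgr Lrot2 (Lpr_gt (f251532 IH) (Lpr_gt (f169978 IH) (Lpr_af (f923002 IH) (Lpn v41271))))
theorem f923021 : (LP (LK LD1_c10 LD2_c10 LD3_c23)) = v41271 :=
  (Llr Lrot61 (Lpr_bt (f586553 IH) (Lpr_ft (f923019 IH) (Lpe (f923016 IH) (Lpr_ft (f923004 IH) (Lpn v41271)))))).symm
theorem f923022 : Led Lsl_at (LP (LK LD1_c10 LD2_c10 LD3_c23)) = (LP (LK LD1_c9 LD2_c55 LD3_c40)) :=
  Leop (Lpr_af (f923002 IH) (Lpq (f923021 IH) (Lpn (LP (LK LD1_c10 LD2_c10 LD3_c23)))))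
theorem seed_2458 : LEOK LG_a (LK LD1_c10 LD2_c10 LD3_c23) :=
  Leoe_a (LK LD1_c10 LD2_c10 LD3_c23) (f923022 IH)
def v41282 : LQ := Led Lsl_et (LP (LK LD1_c9 LD2_c55 LD3_c45))
theorem f923077 : Led Lsl_et (LP (LK LD1_c9 LD2_c55 LD3_c45)) = v41282 :=
  Lrfl
theorem f923080 : Led Lsl_ef (LP (LK LD1_c9 LD2_c55 LD3_c45)) = v41282 :=
  Lgr Lrot88 (Lpr_et (f923077 IH) (Lpn v41282))
theorem f171281 : Led Lsl_dt (LP (LK LD1_c9 LD2_c55 LD3_c45)) = (LP (LK LD1_c5 LD2_c2 LD3_c27)) :=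
  Lre_d IH (LK LD1_c9 LD2_c55 LD3_c45) (LK LD1_c5 LD2_c2 LD3_c27) Lrfl Lrfl
def v14187 : LQ := Led Lsl_et (LP (LK LD1_c5 LD2_c2 LD3_c26))
theorem f720904 : Led Lsl_et (LP (LK LD1_c5 LD2_c2 LD3_c26)) = v14187 :=
  Lrfl
theorem f923082 : Led Lsl_dt v14187 = v41282 :=
  Lgr Lrot77 (Lpe (f720904 IH) (Lpe (K9.f169588 IH) (Lpe (K20.f169599 IH) (Lpe (f171281 IH) (Lpr_ef (f923080 IH) (Lpn v41282))))))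
theorem f720907 : Led Lsl_ef (LP (LK LD1_c5 LD2_c2 LD3_c26)) = v14187 :=
  Lgr Lrot88 (Lpr_et (f720904 IH) (Lpn v14187))
theorem f21931 : Led Lsl_et (LP (LK LD1_c1 LD2_c13 LD3_c18)) = (LP (LK LD1_c2 LD2_c32 LD3_c48)) :=
  Lre_e IH (LK LD1_c1 LD2_c13 LD3_c18) (LK LD1_c2 LD2_c32 LD3_c48) Lrfl Lrfl
theorem f21412 : Led Lsl_gt (LP (LK LD1_c2 LD2_c32 LD3_c48)) = (LP (LK LD1_c5 LD2_c11 LD3_c49)) :=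
  Lre_g IH (LK LD1_c2 LD2_c32 LD3_c48) (LK LD1_c5 LD2_c11 LD3_c49) Lrfl Lrfl
theorem f163832 : Led Lsl_et (LP (LK LD1_c10 LD2_c14 LD3_c32)) = (LP (LK LD1_c5 LD2_c11 LD3_c49)) :=
  Lre_e IH (LK LD1_c10 LD2_c14 LD3_c32) (LK LD1_c5 LD2_c11 LD3_c49) Lrfl Lrfl
theorem f163833 : Led Lsl_dt (LP (LK LD1_c10 LD2_c14 LD3_c32)) = (LP (LK LD1_c18 LD2_c38 LD3_c26)) :=
  Lre_d IH (LK LD1_c10 LD2_c14 LD3_c32) (LK LD1_c18 LD2_c38 LD3_c26) Lrfl Lrfl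
theorem f923083 : Led Lsl_gt (LP (LK LD1_c18 LD2_c38 LD3_c26)) = v41282 :=
  Lgr Lrot112 (Lpe (f163833 IH) (Lpr_et (f163832 IH) (Lpe (f21412 IH) (Lpe (f21931 IH) (Lpr_dt (K0.f21381 IH) (Lpe (K10.f22000 IH) (Lpe (K10.f163741 IH) (Lpe (K10.f186608 IH) (Lpr_ef (f720907 IH) (Lpr_dt (f923082 IH) (Lpn v41282)))))))))))
theorem f923084 : Led Lsl_gt (LP (LK LD1_c18 LD2_c38 LD3_c25)) = (LP (LK LD1_c10 LD2_c14 LD3_c32)) :=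
  Lre_g IH (LK LD1_c18 LD2_c38 LD3_c25) (LK LD1_c10 LD2_c14 LD3_c32) Lrfl Lrfl
theorem f169600 : Led Lsl_dt (LP (LK LD1_c5 LD2_c2 LD3_c27)) = (LP (LK LD1_c9 LD2_c55 LD3_c45)) :=
  Lre_d IH (LK LD1_c5 LD2_c2 LD3_c27) (LK LD1_c9 LD2_c55 LD3_c45) Lrfl Lrfl
theorem f923079 : Led Lsl_df v14187 = v41282 :=
  Lgr Lrot70 (Lpe (f720907 IH) (Lpr_dt (K10.f169587 IH) (Lpr_et (K19.f186663 IH) (Lpr_dt (f169600 IH) (Lpr_et (f923077 IH) (Lpn v41282))))))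
theorem f720909 : Led Lsl_ct (LP (LK LD1_c5 LD2_c5 LD3_c51)) = v14187 :=
  Lgr Lrot15 (Lpe (K17.f164164 IH) (Lpr_cf (K9.f177184 IH) (Lpr_ef (f720907 IH) (Lpn v14187))))
theorem f920152 : Led Lsl_ef (LP (LK LD1_c18 LD2_c26 LD3_c1)) = (LP (LK LD1_c10 LD2_c7 LD3_c14)) :=
  Lgr Lrot17 (Lpr_gf (f920150 IH) (Lpr_ef (K70.f186676 IH) (Lpr_dt (K70.f881553 IH) (Lpe (K70.f881551 IH) (Lpe (K51.f194075 IH) (Lpe (K51.f301833 IH) (Lpr_ef (K53.f406584 IH) (Lpr_dt (K53.f722178 IH) (Lpe (K53.f722189 IH) (Lpr_df (K53.f722190 IH) (Lpn (LP (LK LD1_c10 LD2_c7 LD3_c14)))))))))))))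
theorem f920156 : Led Lsl_gt (LP (LK LD1_c18 LD2_c26 LD3_c1)) = (LP (LK LD1_c10 LD2_c7 LD3_c16)) :=
  Lgr Lrot137 (Lpr_ef (f920152 IH) (Lpe (K53.f722190 IH) (Lpe (K53.f61328 IH) (Lpe (K36.f61323 IH) (Lpr_et (K36.f61306 IH) (Lpe (K12.f186656 IH) (Lpe (K17.f177194 IH) (Lpe (K36.f177692 IH) (Lpe (K70.f176546 IH) (Lpr_df (K70.f414574 IH) (Lpn (LP (LK LD1_c10 LD2_c7 LD3_c16)))))))))))))
theorem f923085 : Led Lsl_ct (LP (LK LD1_c18 LD2_c38 LD3_c25)) = (LP (LK LD1_c18 LD2_c26 LD3_c1)) :=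
  Lgr Lrot8 (Lpr_gt (f923084 IH) (Lpr_dt (f163833 IH) (Lpr_gt (f923083 IH) (Lpe (f923079 IH) (Lpe (f720909 IH) (Lpe (K17.f177685 IH) (Lpe (K70.f176546 IH) (Lpr_df (K70.f414574 IH) (Lpe (f920156 IH) (Lpn (LP (LK LD1_c18 LD2_c26 LD3_c1))))))))))))
theorem f923086 : Led Lsl_ct (LP (LK LD1_c18 LD2_c38 LD3_c25)) = (LP (LK LD1_c18 LD2_c26 LD3_c1)) :=
  Leop (Lpe (f923085 IH) (Lpn (LP (LK LD1_c18 LD2_c38 LD3_c25))))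
theorem seed_2459 : LEOK LG_c (LK LD1_c18 LD2_c38 LD3_c25) :=
  Leoe_c (LK LD1_c18 LD2_c38 LD3_c25) (f923086 IH)
def v41289 : LQ := Led Lsl_ct (LP (LK LD1_c9 LD2_c55 LD3_c47))
theorem f923113 : Led Lsl_ct (LP (LK LD1_c9 LD2_c55 LD3_c47)) = v41289 :=
  Lrfl
theorem f923114 : Led Lsl_cf (LP (LK LD1_c9 LD2_c55 LD3_c47)) = v41289 :=
  Lgr Lrot11 (Lpr_ct (f923113 IH) (Lpn v41289))
theorem f252258 : Led Lsl_gt (LP (LK LD1_c9 LD2_c55 LD3_c47)) = (LP (LK LD1_c5 LD2_c2 LD3_c28)) :=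
  Lre_g IH (LK LD1_c9 LD2_c55 LD3_c47) (LK LD1_c5 LD2_c2 LD3_c28) Lrfl Lrfl
theorem f240451 : Led Lsl_ct (LP (LK LD1_c9 LD2_c55 LD3_c49)) = (LP (LK LD1_c5 LD2_c2 LD3_c28)) :=
  Lre_c IH (LK LD1_c9 LD2_c55 LD3_c49) (LK LD1_c5 LD2_c2 LD3_c28) Lrfl Lrfl
theorem f212218 : Led Lsl_ct (LP (LK LD1_c5 LD2_c2 LD3_c28)) = (LP (LK LD1_c9 LD2_c55 LD3_c49)) :=
  Lre_c IH (LK LD1_c5 LD2_c2 LD3_c28) (LK LD1_c9 LD2_c55 LD3_c49) Lrfl Lrfl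
theorem f212219 : Led Lsl_bt (LP (LK LD1_c9 LD2_c55 LD3_c49)) = (LP (LK LD1_c5 LD2_c12 LD3_c9)) :=
  Lgr Lrot128 (Lpe (f212218 IH) (Lpe (K44.f212106 IH) (Lpr_cf (K12.f212104 IH) (Lpe (K14.f185682 IH) (Lpe (K14.f185684 IH) (Lpn (LP (LK LD1_c5 LD2_c12 LD3_c9))))))))
theorem f252259 : Led Lsl_bt (LP (LK LD1_c5 LD2_c15 LD3_c24)) = (LP (LK LD1_c10 LD2_c20 LD3_c6)) :=
  Lre_b IH (LK LD1_c5 LD2_c15 LD3_c24) (LK LD1_c10 LD2_c20 LD3_c6) Lrfl Lrfl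
theorem f252267 : Led Lsl_gt (LP (LK LD1_c10 LD2_c20 LD3_c6)) = (LP (LK LD1_c18 LD2_c45 LD3_c38)) :=
  Lre_g IH (LK LD1_c10 LD2_c20 LD3_c6) (LK LD1_c18 LD2_c45 LD3_c38) Lrfl Lrfl
theorem f923115 : Led Lsl_bf (LP (LK LD1_c18 LD2_c45 LD3_c38)) = v41289 :=
  Lgr Lrot34 (Lpe (f252267 IH) (Lpe (f252259 IH) (Lpr_ct (K15.f252260 IH) (Lpe (K14.f252254 IH) (Lpe (K15.f49197 IH) (Lpe (K15.f191161 IH) (Lpe (f212219 IH) (Lpr_ct (f240451 IH) (Lpe (f252258 IH) (Lpr_cf (f923114 IH) (Lpn v41289)))))))))))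
def v41288 : LQ := Led Lsl_bt (LP (LK LD1_c9 LD2_c55 LD3_c47))
theorem f923107 : Led Lsl_bt (LP (LK LD1_c9 LD2_c55 LD3_c47)) = v41288 :=
  Lrfl
theorem f923108 : Led Lsl_bf (LP (LK LD1_c9 LD2_c55 LD3_c47)) = v41288 :=
  Lgr Lrot24 (Lpr_bt (f923107 IH) (Lpn v41288))
theorem f185261 : Led Lsl_bt (LP (LK LD1_c1 LD2_c13 LD3_c41)) = (LP (LK LD1_c2 LD2_c33 LD3_c29)) :=
  Lre_b IH (LK LD1_c1 LD2_c13 LD3_c41) (LK LD1_c2 LD2_c33 LD3_c29) Lrfl Lrfl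
theorem f185339 : Led Lsl_gt (LP (LK LD1_c2 LD2_c33 LD3_c29)) = (LP (LK LD1_c5 LD2_c13 LD3_c16)) :=
  Lre_g IH (LK LD1_c2 LD2_c33 LD3_c29) (LK LD1_c5 LD2_c13 LD3_c16) Lrfl Lrfl
theorem f185414 : Led Lsl_ct (LP (LK LD1_c5 LD2_c13 LD3_c16)) = (LP (LK LD1_c10 LD2_c16 LD3_c53)) :=
  Lre_c IH (LK LD1_c5 LD2_c13 LD3_c16) (LK LD1_c10 LD2_c16 LD3_c53) Lrfl Lrfl
theorem f185415 : Led Lsl_gt (LP (LK LD1_c10 LD2_c16 LD3_c53)) = (LP (LK LD1_c18 LD2_c41 LD3_c41)) :=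
  Lre_g IH (LK LD1_c10 LD2_c16 LD3_c53) (LK LD1_c18 LD2_c41 LD3_c41) Lrfl Lrfl
theorem f923109 : Led Lsl_cf (LP (LK LD1_c18 LD2_c41 LD3_c41)) = v41288 :=
  Lgr Lrot163 (Lpe (f185415 IH) (Lpe (f185414 IH) (Lpe (f185339 IH) (Lpe (f185261 IH) (Lpr_ct (K10.f165510 IH) (Lpr_gf (K14.f212102 IH) (Lpr_cf (K12.f185942 IH) (Lpr_bt (K44.f212106 IH) (Lpe (f252258 IH) (Lpr_bf (f923108 IH) (Lpn v41288)))))))))))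
theorem f923111 : Led Lsl_ct (LP (LK LD1_c18 LD2_c41 LD3_c41)) = v41288 :=
  Lgr Lrot59 (Lpr_cf (f923109 IH) (Lpn v41288))
theorem f923112 : Led Lsl_bt (LP (LK LD1_c28 LD2_c13 LD3_c0)) = (LP (LK LD1_c18 LD2_c41 LD3_c41)) :=
  Lre_b IH (LK LD1_c28 LD2_c13 LD3_c0) (LK LD1_c18 LD2_c41 LD3_c41) Lrfl Lrfl
theorem f923117 : Led Lsl_ct (LP (LK LD1_c18 LD2_c45 LD3_c38)) = (LP (LK LD1_c28 LD2_c13 LD3_c0)) :=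
  Lgr Lrot83 (Lpr_bf (f923115 IH) (Lpe (f923113 IH) (Lpr_bf (f923108 IH) (Lpe (f923111 IH) (Lpe (f923112 IH) (Lpn (LP (LK LD1_c28 LD2_c13 LD3_c0))))))))
theorem f923118 : Led Lsl_ct (LP (LK LD1_c18 LD2_c45 LD3_c38)) = (LP (LK LD1_c28 LD2_c13 LD3_c0)) :=
  Leop (Lpe (f923117 IH) (Lpn (LP (LK LD1_c18 LD2_c45 LD3_c38))))
theorem seed_2460 : LEOK LG_c (LK LD1_c18 LD2_c45 LD3_c38) :=
  Leoe_c (LK LD1_c18 LD2_c45 LD3_c38) (f923118 IH)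
def v41291 : LQ := Led Lsl_ct (LP (LK LD1_c9 LD2_c55 LD3_c48))
theorem f923128 : Led Lsl_ct (LP (LK LD1_c9 LD2_c55 LD3_c48)) = v41291 :=
  Lrfl
theorem f212196 : Led Lsl_ct (LP (LK LD1_c18 LD2_c20 LD3_c36)) = (LP (LK LD1_c10 LD2_c2 LD3_c23)) :=
  Lre_c IH (LK LD1_c18 LD2_c20 LD3_c36) (LK LD1_c10 LD2_c2 LD3_c23) Lrfl Lrfl
theorem f923132 : Led Lsl_ff (LP (LK LD1_c18 LD2_c20 LD3_c36)) = v41291 :=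
  Lgr Lrot23 (Lpr_ct (f212196 IH) (Lpr_ft (K44.f410235 IH) (Lpr_ct (f923128 IH) (Lpn v41291))))
theorem f212177 : Led Lsl_at (LP (LK LD1_c18 LD2_c20 LD3_c36)) = (LP (LK LD1_c10 LD2_c2 LD3_c21)) :=
  Lre_a IH (LK LD1_c18 LD2_c20 LD3_c36) (LK LD1_c10 LD2_c2 LD3_c21) Lrfl Lrfl
theorem f410237 : Led Lsl_ft (LP (LK LD1_c10 LD2_c2 LD3_c21)) = (LP (LK LD1_c9 LD2_c55 LD3_c49)) :=
  Lgr Lrot4 (Lpe (K27.f180574 IH) (Lpr_ff (K44.f276068 IH) (Lpe (f240451 IH) (Lpn (LP (LK LD1_c9 LD2_c55 LD3_c49))))))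
theorem f923133 : Led Lsl_at (LP (LK LD1_c9 LD2_c55 LD3_c49)) = v41291 :=
  Lgr Lrot66 (Lpe (f410237 IH) (Lpe (f212177 IH) (Lpr_ff (f923132 IH) (Lpn v41291))))
theorem f212205 : Led Lsl_gt (LP (LK LD1_c10 LD2_c2 LD3_c21)) = (LP (LK LD1_c18 LD2_c20 LD3_c35)) :=
  Lre_g IH (LK LD1_c10 LD2_c2 LD3_c21) (LK LD1_c18 LD2_c20 LD3_c35) Lrfl Lrfl
theorem f923136 : Led Lsl_gt (LP (LK LD1_c18 LD2_c20 LD3_c35)) = v41291 :=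
  Lgr Lrot46 (Lpe (f212205 IH) (Lpr_ft (f410237 IH) (Lpr_at (f923133 IH) (Lpn v41291))))
theorem f585410 : Led Lsl_bt (LP (LK LD1_c5 LD2_c12 LD3_c17)) = (LP (LK LD1_c10 LD2_c15 LD3_c13)) :=
  Lre_b IH (LK LD1_c5 LD2_c12 LD3_c17) (LK LD1_c10 LD2_c15 LD3_c13) Lrfl Lrfl
theorem f585416 : Led Lsl_gt (LP (LK LD1_c10 LD2_c15 LD3_c13)) = (LP (LK LD1_c18 LD2_c39 LD3_c15)) :=
  Lre_g IH (LK LD1_c10 LD2_c15 LD3_c13) (LK LD1_c18 LD2_c39 LD3_c15) Lrfl Lrfl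
theorem f923137 : Led Lsl_cf (LP (LK LD1_c18 LD2_c20 LD3_c35)) = (LP (LK LD1_c18 LD2_c39 LD3_c15)) :=
  Lgr Lrot125 (Lpr_gt (f923136 IH) (Lpe (f923128 IH) (Lpr_bt (K44.f264255 IH) (Lpe (K44.f410254 IH) (Lpe (K45.f410256 IH) (Lpr_ct (K45.f417516 IH) (Lpr_gt (K53.f586268 IH) (Lpe (K53.f406492 IH) (Lpr_bt (f585410 IH) (Lpr_gt (f585416 IH) (Lpn (LP (LK LD1_c18 LD2_c39 LD3_c15)))))))))))))
theorem f923138 : Led Lsl_ct (LP (LK LD1_c18 LD2_c39 LD3_c15)) = (LP (LK LD1_c18 LD2_c20 LD3_c35)) :=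
  Leop (Lpr_cf (f923137 IH) (Lpn (LP (LK LD1_c18 LD2_c39 LD3_c15))))
theorem seed_2461 : LEOK LG_c (LK LD1_c18 LD2_c39 LD3_c15) :=
  Leoe_c (LK LD1_c18 LD2_c39 LD3_c15) (f923138 IH)
def v41306 : LQ := Led Lsl_ct (LP (LK LD1_c9 LD2_c55 LD3_c57))
theorem f923194 : Led Lsl_ct (LP (LK LD1_c9 LD2_c55 LD3_c57)) = v41306 :=
  Lrfl
theorem f212107 : Led Lsl_gt (LP (LK LD1_c5 LD2_c2 LD3_c28)) = (LP (LK LD1_c9 LD2_c55 LD3_c46)) :=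
  Lre_g IH (LK LD1_c5 LD2_c2 LD3_c28) (LK LD1_c9 LD2_c55 LD3_c46) Lrfl Lrfl
theorem f410239 : Led Lsl_gf (LP (LK LD1_c10 LD2_c2 LD3_c23)) = (LP (LK LD1_c9 LD2_c55 LD3_c46)) :=
  Lgr Lrot76 (Lpe (K44.f212168 IH) (Lpr_ff (K44.f276068 IH) (Lpr_gt (f212107 IH) (Lpn (LP (LK LD1_c9 LD2_c55 LD3_c46))))))
theorem f240457 : Led Lsl_bt (LP (LK LD1_c18 LD2_c10 LD3_c23)) = (LP (LK LD1_c9 LD2_c55 LD3_c46)) :=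
  Lre_b IH (LK LD1_c18 LD2_c10 LD3_c23) (LK LD1_c9 LD2_c55 LD3_c46) Lrfl Lrfl
theorem f180629 : Led Lsl_bt (LP (LK LD1_c2 LD2_c31 LD3_c61)) = (LP (LK LD1_c5 LD2_c9 LD3_c53)) :=
  Lre_b IH (LK LD1_c2 LD2_c31 LD3_c61) (LK LD1_c5 LD2_c9 LD3_c53) Lrfl Lrfl
theorem f240245 : Led Lsl_bt (LP (LK LD1_c10 LD2_c7 LD3_c33)) = (LP (LK LD1_c5 LD2_c8 LD3_c34)) :=
  Lre_b IH (LK LD1_c10 LD2_c7 LD3_c33) (LK LD1_c5 LD2_c8 LD3_c34) Lrfl Lrfl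
theorem f240286 : Led Lsl_ct (LP (LK LD1_c5 LD2_c9 LD3_c53)) = (LP (LK LD1_c10 LD2_c7 LD3_c33)) :=
  Lgr Lrot83 (Lpe (f180629 IH) (Lpe (K13.f165485 IH) (Lpr_bf (K13.f240256 IH) (Lpe (K13.f196351 IH) (Lpe (f240245 IH) (Lpn (LP (LK LD1_c10 LD2_c7 LD3_c33))))))))
theorem f240330 : Led Lsl_gt (LP (LK LD1_c18 LD2_c26 LD3_c41)) = (LP (LK LD1_c10 LD2_c7 LD3_c33)) :=
  Lre_g IH (LK LD1_c18 LD2_c26 LD3_c41) (LK LD1_c10 LD2_c7 LD3_c33) Lrfl Lrfl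
theorem f240458 : Led Lsl_cf (LP (LK LD1_c18 LD2_c26 LD3_c41)) = (LP (LK LD1_c18 LD2_c10 LD3_c23)) :=
  Lgr Lrot160 (Lpr_gt (f240330 IH) (Lpe (f240286 IH) (Lpr_bt (K44.f181922 IH) (Lpr_gt (K20.f240361 IH) (Lpr_ct (K20.f185581 IH) (Lpr_gt (K12.f185578 IH) (Lpr_cf (K12.f185942 IH) (Lpr_bt (K44.f212106 IH) (Lpr_gt (f212107 IH) (Lpe (f240457 IH) (Lpn (LP (LK LD1_c18 LD2_c10 LD3_c23)))))))))))))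
theorem f314237 : Led Lsl_at (LP (LK LD1_c9 LD2_c55 LD3_c22)) = (LP (LK LD1_c18 LD2_c9 LD3_c59)) :=
  Lre_a IH (LK LD1_c9 LD2_c55 LD3_c22) (LK LD1_c18 LD2_c9 LD3_c59) Lrfl Lrfl
theorem f342070 : Led Lsl_ff (LP (LK LD1_c18 LD2_c26 LD3_c42)) = (LP (LK LD1_c18 LD2_c9 LD3_c59)) :=
  Lgr Lrot30 (Lpr_at (K44.f240320 IH) (Lpr_ft (K44.f342056 IH) (Lpr_at (f314237 IH) (Lpn (LP (LK LD1_c18 LD2_c9 LD3_c59))))))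
theorem f342097 : Led Lsl_gf (LP (LK LD1_c18 LD2_c26 LD3_c41)) = (LP (LK LD1_c18 LD2_c9 LD3_c59)) :=
  Lgr Lrot47 (Lpr_gt (f240330 IH) (Lpe (K44.f240320 IH) (Lpr_ff (f342070 IH) (Lpn (LP (LK LD1_c18 LD2_c9 LD3_c59))))))
theorem f342076 : Led Lsl_ct (LP (LK LD1_c9 LD2_c55 LD3_c29)) = (LP (LK LD1_c18 LD2_c9 LD3_c59)) :=
  Lre_c IH (LK LD1_c9 LD2_c55 LD3_c29) (LK LD1_c18 LD2_c9 LD3_c59) Lrfl Lrfl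
theorem f313918 : Led Lsl_ff (LP (LK LD1_c5 LD2_c2 LD3_c19)) = (LP (LK LD1_c5 LD2_c9 LD3_c53)) :=
  Lgr Lrot25 (Lpr_bt (K45.f165289 IH) (Lpr_ft (K19.f313916 IH) (Lpr_bt (f180629 IH) (Lpn (LP (LK LD1_c5 LD2_c9 LD3_c53))))))
theorem f180630 : Led Lsl_gt (LP (LK LD1_c5 LD2_c9 LD3_c53)) = (LP (LK LD1_c10 LD2_c10 LD3_c30)) :=
  Lre_g IH (LK LD1_c5 LD2_c9 LD3_c53) (LK LD1_c10 LD2_c10 LD3_c30) Lrfl Lrfl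
theorem f403031 : Led Lsl_gf (LP (LK LD1_c9 LD2_c55 LD3_c29)) = (LP (LK LD1_c10 LD2_c10 LD3_c30)) :=
  Lgr Lrot76 (Lpe (K44.f313873 IH) (Lpr_ff (f313918 IH) (Lpr_gt (f180630 IH) (Lpn (LP (LK LD1_c10 LD2_c10 LD3_c30))))))
theorem f242361 : Led Lsl_bt (LP (LK LD1_c18 LD2_c32 LD3_c10)) = (LP (LK LD1_c10 LD2_c10 LD3_c30)) :=
  Lre_b IH (LK LD1_c18 LD2_c32 LD3_c10) (LK LD1_c10 LD2_c10 LD3_c30) Lrfl Lrfl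
theorem f186727 : Led Lsl_gt (LP (LK LD1_c18 LD2_c20 LD3_c15)) = (LP (LK LD1_c10 LD2_c2 LD3_c6)) :=
  Lre_g IH (LK LD1_c18 LD2_c20 LD3_c15) (LK LD1_c10 LD2_c2 LD3_c6) Lrfl Lrfl
theorem f421608 : Led Lsl_cf (LP (LK LD1_c18 LD2_c20 LD3_c15)) = (LP (LK LD1_c18 LD2_c32 LD3_c10)) :=
  Lgr Lrot160 (Lpr_gt (f186727 IH) (Lpe (K45.f180611 IH) (Lpr_bt (K44.f180610 IH) (Lpr_gt (K10.f186721 IH) (Lpr_ct (K10.f185399 IH) (Lpr_gt (K13.f186838 IH) (Lpe (K13.f165484 IH) (Lpr_bt (f180629 IH) (Lpr_gt (f180630 IH) (Lpe (f242361 IH) (Lpn (LP (LK LD1_c18 LD2_c32 LD3_c10)))))))))))))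
theorem f923198 : Led Lsl_gf (LP (LK LD1_c18 LD2_c20 LD3_c15)) = v41306 :=
  Lgr Lrot126 (Lpr_cf (f421608 IH) (Lpr_bt (f242361 IH) (Lpe (f403031 IH) (Lpr_ct (f342076 IH) (Lpe (f342097 IH) (Lpr_cf (f240458 IH) (Lpr_bt (f240457 IH) (Lpe (f410239 IH) (Lpr_bf (K44.f276052 IH) (Lpr_ct (f923194 IH) (Lpn v41306)))))))))))
theorem f264235 : Led Lsl_ft (LP (LK LD1_c9 LD2_c55 LD3_c57)) = (LP (LK LD1_c10 LD2_c2 LD3_c14)) :=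
  Lgr Lrot101 (Lpe (K44.f264233 IH) (Lpr_ff (K15.f264207 IH) (Lpe (K44.f264234 IH) (Lpn (LP (LK LD1_c10 LD2_c2 LD3_c14))))))
theorem f412771 : Led Lsl_gt (LP (LK LD1_c9 LD2_c55 LD3_c57)) = (LP (LK LD1_c10 LD2_c2 LD3_c13)) :=
  Lgr Lrot5 (Lpr_ft (f264235 IH) (Lpr_at (K44.f264234 IH) (Lpe (K44.f285240 IH) (Lpn (LP (LK LD1_c10 LD2_c2 LD3_c13))))))
theorem f583622 : Led Lsl_df (LP (LK LD1_c5 LD2_c55 LD3_c25)) = (LP (LK LD1_c10 LD2_c2 LD3_c13)) :=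
  Lgr Lrot38 (Lpr_dt (K45.f583619 IH) (Lpn (LP (LK LD1_c10 LD2_c2 LD3_c13))))
theorem f71529 : Led Lsl_dt (LP (LK LD1_c2 LD2_c54 LD3_c3)) = (LP (LK LD1_c2 LD2_c36 LD3_c2)) :=
  Lgr Lrot79 (Lpe (K2.f71528 IH) (Lpr_df (K2.f71526 IH) (Lpe (K44.f32684 IH) (Lpn (LP (LK LD1_c2 LD2_c36 LD3_c2))))))
theorem f71712 : Led Lsl_gt (LP (LK LD1_c18 LD2_c55 LD3_c23)) = (LP (LK LD1_c10 LD2_c26 LD3_c4)) :=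
  Lre_g IH (LK LD1_c18 LD2_c55 LD3_c23) (LK LD1_c10 LD2_c26 LD3_c4) Lrfl Lrfl
theorem f923199 : Led Lsl_dt (LP (LK LD1_c18 LD2_c20 LD3_c15)) = (LP (LK LD1_c18 LD2_c55 LD3_c23)) :=
  Lgr Lrot57 (Lpr_gf (f923198 IH) (Lpe (f923194 IH) (Lpr_gt (f412771 IH) (Lpe (f583622 IH) (Lpr_gt (K44.f71602 IH) (Lpr_dt (f71529 IH) (Lpe (K2.f71579 IH) (Lpe (K2.f71580 IH) (Lpe (f71712 IH) (Lpn (LP (LK LD1_c18 LD2_c55 LD3_c23))))))))))))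
theorem f923200 : Led Lsl_dt (LP (LK LD1_c18 LD2_c20 LD3_c15)) = (LP (LK LD1_c18 LD2_c55 LD3_c23)) :=
  Leop (Lpe (f923199 IH) (Lpn (LP (LK LD1_c18 LD2_c20 LD3_c15))))
theorem seed_2462 : LEOK LG_d (LK LD1_c18 LD2_c20 LD3_c15) :=
  Leoe_d (LK LD1_c18 LD2_c20 LD3_c15) (f923200 IH)
def v38280 : LQ := Led Lsl_dt (LP (LK LD1_c9 LD2_c7 LD3_c57))
theorem f900431 : Led Lsl_dt (LP (LK LD1_c9 LD2_c7 LD3_c57)) = v38280 :=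
  Lrfl
def v38277 : LQ := Led Lsl_ft (LP (LK LD1_c9 LD2_c7 LD3_c56))
theorem f900421 : Led Lsl_ft (LP (LK LD1_c9 LD2_c7 LD3_c56)) = v38277 :=
  Lrfl
theorem f900424 : Led Lsl_ff (LP (LK LD1_c9 LD2_c7 LD3_c56)) = v38277 :=
  Lgr Lrot3 (Lpr_ft (f900421 IH) (Lpn v38277))
def v38276 : LQ := Led Lsl_dt (LP (LK LD1_c9 LD2_c7 LD3_c56))
theorem f900416 : Led Lsl_dt (LP (LK LD1_c9 LD2_c7 LD3_c56)) = v38276 :=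
  Lrfl
theorem f421617 : Led Lsl_ct (LP (LK LD1_c18 LD2_c20 LD3_c15)) = (LP (LK LD1_c18 LD2_c32 LD3_c10)) :=
  Lgr Lrot59 (Lpr_cf (f421608 IH) (Lpn (LP (LK LD1_c18 LD2_c32 LD3_c10))))
theorem f169459 : Led Lsl_gt (LP (LK LD1_c5 LD2_c5 LD3_c32)) = (LP (LK LD1_c10 LD2_c2 LD3_c12)) :=
  Lre_g IH (LK LD1_c5 LD2_c5 LD3_c32) (LK LD1_c10 LD2_c2 LD3_c12) Lrfl Lrfl
theorem f264241 : Led Lsl_gf (LP (LK LD1_c9 LD2_c55 LD3_c57)) = (LP (LK LD1_c10 LD2_c2 LD3_c12)) :=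
  Lgr Lrot76 (Lpe (K44.f264233 IH) (Lpr_ff (K15.f264207 IH) (Lpr_gt (f169459 IH) (Lpn (LP (LK LD1_c10 LD2_c2 LD3_c12))))))
theorem f586440 : Led Lsl_af (LP (LK LD1_c10 LD2_c2 LD3_c13)) = (LP (LK LD1_c9 LD2_c55 LD3_c55)) :=
  Lgr Lrot0 (Lpr_at (K45.f586438 IH) (Lpn (LP (LK LD1_c9 LD2_c55 LD3_c55))))
theorem f603647 : Led Lsl_ft (LP (LK LD1_c10 LD2_c2 LD3_c12)) = (LP (LK LD1_c9 LD2_c55 LD3_c55)) :=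
  Lgr Lrot2 (Lpe (f264241 IH) (Lpr_gt (f412771 IH) (Lpr_af (f586440 IH) (Lpn (LP (LK LD1_c9 LD2_c55 LD3_c55))))))
theorem f603655 : Led Lsl_ff (LP (LK LD1_c10 LD2_c2 LD3_c12)) = (LP (LK LD1_c9 LD2_c55 LD3_c55)) :=
  Lgr Lrot3 (Lpr_ft (f603647 IH) (Lpn (LP (LK LD1_c9 LD2_c55 LD3_c55))))
theorem f603661 : Led Lsl_dt (LP (LK LD1_c10 LD2_c2 LD3_c12)) = (LP (LK LD1_c5 LD2_c55 LD3_c24)) :=
  Lgr Lrot60 (Lpr_ff (f603655 IH) (Lpr_df (K44.f412817 IH) (Lpe (K45.f586456 IH) (Lpn (LP (LK LD1_c5 LD2_c55 LD3_c24))))))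
theorem f32655 : Led Lsl_ct (LP (LK LD1_c5 LD2_c18 LD3_c49)) = (LP (LK LD1_c10 LD2_c27 LD3_c24)) :=
  Lre_c IH (LK LD1_c5 LD2_c18 LD3_c49) (LK LD1_c10 LD2_c27 LD3_c24) Lrfl Lrfl
theorem f71539 : Led Lsl_bt (LP (LK LD1_c2 LD2_c54 LD3_c3)) = (LP (LK LD1_c1 LD2_c22 LD3_c61)) :=
  Lre_b IH (LK LD1_c2 LD2_c54 LD3_c3) (LK LD1_c1 LD2_c22 LD3_c61) Lrfl Lrfl
theorem f71598 : Led Lsl_gt (LP (LK LD1_c11 LD2_c35 LD3_c44)) = (LP (LK LD1_c5 LD2_c55 LD3_c7)) :=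
  Lre_g IH (LK LD1_c11 LD2_c35 LD3_c44) (LK LD1_c5 LD2_c55 LD3_c7) Lrfl Lrfl
theorem f163747 : Led Lsl_bt (LP (LK LD1_c1 LD2_c13 LD3_c18)) = (LP (LK LD1_c2 LD2_c32 LD3_c44)) :=
  Lre_b IH (LK LD1_c1 LD2_c13 LD3_c18) (LK LD1_c2 LD2_c32 LD3_c44) Lrfl Lrfl
theorem f21490 : Led Lsl_gt (LP (LK LD1_c2 LD2_c32 LD3_c44)) = (LP (LK LD1_c5 LD2_c11 LD3_c40)) :=
  Lre_g IH (LK LD1_c2 LD2_c32 LD3_c44) (LK LD1_c5 LD2_c11 LD3_c40) Lrfl Lrfl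
theorem f163749 : Led Lsl_bt (LP (LK LD1_c10 LD2_c14 LD3_c4)) = (LP (LK LD1_c5 LD2_c11 LD3_c40)) :=
  Lre_b IH (LK LD1_c10 LD2_c14 LD3_c4) (LK LD1_c5 LD2_c11 LD3_c40) Lrfl Lrfl
theorem f421636 : Led Lsl_cf (LP (LK LD1_c11 LD2_c35 LD3_c44)) = (LP (LK LD1_c10 LD2_c14 LD3_c4)) :=
  Lgr Lrot160 (Lpr_gt (f71598 IH) (Lpe (K2.f71576 IH) (Lpr_bt (f71539 IH) (Lpr_gt (K14.f186767 IH) (Lpe (K14.f186715 IH) (Lpe (K9.f165455 IH) (Lpr_cf (K8.f163718 IH) (Lpr_bt (f163747 IH) (Lpr_gt (f21490 IH) (Lpe (f163749 IH) (Lpn (LP (LK LD1_c10 LD2_c14 LD3_c4)))))))))))))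
theorem f34383 : Led Lsl_ct (LP (LK LD1_c5 LD2_c11 LD3_c42)) = (LP (LK LD1_c2 LD2_c32 LD3_c44)) :=
  Lre_c IH (LK LD1_c5 LD2_c11 LD3_c42) (LK LD1_c2 LD2_c32 LD3_c44) Lrfl Lrfl
theorem f164486 : Led Lsl_ff (LP (LK LD1_c2 LD2_c31 LD3_c21)) = (LP (LK LD1_c2 LD2_c32 LD3_c44)) :=
  Lgr Lrot23 (Lpr_ct (K44.f163809 IH) (Lpr_ft (K44.f164478 IH) (Lpr_ct (f34383 IH) (Lpn (LP (LK LD1_c2 LD2_c32 LD3_c44))))))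
theorem f164436 : Led Lsl_at (LP (LK LD1_c2 LD2_c31 LD3_c21)) = (LP (LK LD1_c5 LD2_c8 LD3_c19)) :=
  Lre_a IH (LK LD1_c2 LD2_c31 LD3_c21) (LK LD1_c5 LD2_c8 LD3_c19) Lrfl Lrfl
theorem f164525 : Led Lsl_gf (LP (LK LD1_c5 LD2_c8 LD3_c19)) = (LP (LK LD1_c5 LD2_c11 LD3_c40)) :=
  Lgr Lrot76 (Lpe (f164436 IH) (Lpr_ff (f164486 IH) (Lpr_gt (f21490 IH) (Lpn (LP (LK LD1_c5 LD2_c11 LD3_c40))))))
theorem f164437 : Led Lsl_bf (LP (LK LD1_c5 LD2_c8 LD3_c19)) = (LP (LK LD1_c5 LD2_c14 LD3_c45)) :=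
  Lgr Lrot24 (Lpr_bt (K10.f164434 IH) (Lpn (LP (LK LD1_c5 LD2_c14 LD3_c45))))
theorem f421644 : Led Lsl_gf (LP (LK LD1_c11 LD2_c35 LD3_c44)) = (LP (LK LD1_c10 LD2_c27 LD3_c24)) :=
  Lgr Lrot129 (Lpr_cf (f421636 IH) (Lpr_bt (f163749 IH) (Lpe (f164525 IH) (Lpr_bf (f164437 IH) (Lpr_ct (K10.f164001 IH) (Lpe (K10.f164060 IH) (Lpe (K10.f169750 IH) (Lpr_bt (K10.f71571 IH) (Lpr_gt (K10.f71561 IH) (Lpr_ct (f32655 IH) (Lpn (LP (LK LD1_c10 LD2_c27 LD3_c24)))))))))))))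
theorem f421640 : Led Lsl_ct (LP (LK LD1_c11 LD2_c35 LD3_c44)) = (LP (LK LD1_c10 LD2_c14 LD3_c4)) :=
  Lgr Lrot59 (Lpr_cf (f421636 IH) (Lpn (LP (LK LD1_c10 LD2_c14 LD3_c4))))
theorem f923203 : Led Lsl_df (LP (LK LD1_c18 LD2_c32 LD3_c10)) = (LP (LK LD1_c10 LD2_c14 LD3_c4)) :=
  Lgr Lrot162 (Lpe (f421617 IH) (Lpr_gf (f923198 IH) (Lpe (f923194 IH) (Lpr_gf (f264241 IH) (Lpr_dt (f603661 IH) (Lpr_gt (K10.f71561 IH) (Lpr_ct (f32655 IH) (Lpe (f421644 IH) (Lpr_ct (f421640 IH) (Lpn (LP (LK LD1_c10 LD2_c14 LD3_c4))))))))))))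
theorem f421639 : Led Lsl_bt (LP (LK LD1_c5 LD2_c11 LD3_c40)) = (LP (LK LD1_c10 LD2_c14 LD3_c4)) :=
  Lre_b IH (LK LD1_c5 LD2_c11 LD3_c40) (LK LD1_c10 LD2_c14 LD3_c4) Lrfl Lrfl
def v14502 : LQ := Led Lsl_dt (LP (LK LD1_c5 LD2_c11 LD3_c40))
theorem f722892 : Led Lsl_dt (LP (LK LD1_c5 LD2_c11 LD3_c40)) = v14502 :=
  Lrfl
theorem f722893 : Led Lsl_df (LP (LK LD1_c5 LD2_c11 LD3_c40)) = v14502 :=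
  Lgr Lrot38 (Lpr_dt (f722892 IH) (Lpn v14502))
theorem f923207 : (LP (LK LD1_c10 LD2_c10 LD3_c30)) = v14502 :=
  (Llr Lrot95 (Lpe (f242361 IH) (Lpr_df (f923203 IH) (Lpe (f421639 IH) (Lpr_df (f722893 IH) (Lpn v14502)))))).symm
theorem f177237 : Led Lsl_ct (LP (LK LD1_c10 LD2_c14 LD3_c11)) = (LP (LK LD1_c17 LD2_c0 LD3_c14)) :=
  Lgr Lrot59 (Lpr_cf (K10.f177232 IH) (Lpn (LP (LK LD1_c17 LD2_c0 LD3_c14))))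
theorem f240464 : Led Lsl_ct (LP (LK LD1_c18 LD2_c26 LD3_c41)) = (LP (LK LD1_c18 LD2_c10 LD3_c23)) :=
  Lgr Lrot59 (Lpr_cf (f240458 IH) (Lpn (LP (LK LD1_c18 LD2_c10 LD3_c23))))
theorem f923211 : Led Lsl_df (LP (LK LD1_c17 LD2_c0 LD3_c14)) = (LP (LK LD1_c18 LD2_c10 LD3_c23)) :=
  Lgr Lrot162 (Lpe (f177237 IH) (Lpe (K10.f164621 IH) (Lpe (K10.f164444 IH) (Lpr_gf (f164525 IH) (Lpr_dt (f722892 IH) (Lpq (f923207 IH) (Lpe (f403031 IH) (Lpr_ct (f342076 IH) (Lpe (f342097 IH) (Lpr_ct (f240464 IH) (Lpn (LP (LK LD1_c18 LD2_c10 LD3_c23)))))))))))))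
theorem f240463 : Led Lsl_bt (LP (LK LD1_c9 LD2_c55 LD3_c46)) = (LP (LK LD1_c18 LD2_c10 LD3_c23)) :=
  Lre_b IH (LK LD1_c9 LD2_c55 LD3_c46) (LK LD1_c18 LD2_c10 LD3_c23) Lrfl Lrfl
theorem f923215 : v38276 = (LP (LK LD1_c9 LD2_c55 LD3_c46)) :=
  (Llr Lrot79 (Lpe (f900416 IH) (Lpe (K10.f35113 IH) (Lpr_df (f923211 IH) (Lpe (f240463 IH) (Lpn (LP (LK LD1_c9 LD2_c55 LD3_c46)))))))).symm
def v41287 : LQ := Led Lsl_ft (LP (LK LD1_c9 LD2_c55 LD3_c46))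
theorem f923103 : Led Lsl_ft (LP (LK LD1_c9 LD2_c55 LD3_c46)) = v41287 :=
  Lrfl
theorem f923220 : Led Lsl_df v38277 = v41287 :=
  Lgr Lrot78 (Lpe (f900424 IH) (Lpr_dt (f900416 IH) (Lpqs (f923215 IH) (Lpr_ft (f923103 IH) (Lpn v41287)))))
def v38275 : LQ := Led Lsl_at (LP (LK LD1_c9 LD2_c7 LD3_c56))
theorem f900409 : Led Lsl_at (LP (LK LD1_c9 LD2_c7 LD3_c56)) = v38275 :=
  Lrfl
theorem f900410 : Led Lsl_af (LP (LK LD1_c9 LD2_c7 LD3_c56)) = v38275 :=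
  Lgr Lrot0 (Lpr_at (f900409 IH) (Lpn v38275))
theorem f35059 : Led Lsl_gt (LP (LK LD1_c9 LD2_c7 LD3_c57)) = (LP (LK LD1_c4 LD2_c35 LD3_c46)) :=
  Lre_g IH (LK LD1_c9 LD2_c7 LD3_c57) (LK LD1_c4 LD2_c35 LD3_c46) Lrfl Lrfl
theorem f900412 : Led Lsl_ft (LP (LK LD1_c9 LD2_c7 LD3_c57)) = v38275 :=
  Lgr Lrot2 (Lpr_gt (f35059 IH) (Lpr_gt (K10.f35051 IH) (Lpr_af (f900410 IH) (Lpn v38275))))
theorem f900422 : Led Lsl_af (LP (LK LD1_c9 LD2_c7 LD3_c57)) = v38277 :=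
  Lgr Lrot45 (Lpr_ft (f900412 IH) (Lpe (f900410 IH) (Lpr_ft (f900421 IH) (Lpn v38277))))
theorem f923105 : Led Lsl_ff (LP (LK LD1_c9 LD2_c55 LD3_c46)) = v41287 :=
  Lgr Lrot3 (Lpr_ft (f923103 IH) (Lpn v41287))
def v41283 : LQ := Led Lsl_at (LP (LK LD1_c9 LD2_c55 LD3_c46))
theorem f923090 : Led Lsl_at (LP (LK LD1_c9 LD2_c55 LD3_c46)) = v41283 :=
  Lrfl
theorem f923091 : Led Lsl_af (LP (LK LD1_c9 LD2_c55 LD3_c46)) = v41283 :=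
  Lgr Lrot0 (Lpr_at (f923090 IH) (Lpn v41283))
theorem f923092 : Led Lsl_ft (LP (LK LD1_c9 LD2_c55 LD3_c47)) = v41283 :=
  Lgr Lrot2 (Lpr_gt (f252258 IH) (Lpr_gt (f212107 IH) (Lpr_af (f923091 IH) (Lpn v41283))))
theorem f923093 : Led Lsl_ff (LP (LK LD1_c9 LD2_c55 LD3_c47)) = v41283 :=
  Lgr Lrot3 (Lpr_ft (f923092 IH) (Lpn v41283))
theorem f923106 : Led Lsl_at (LP (LK LD1_c9 LD2_c55 LD3_c47)) = v41287 :=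
  Lgr Lrot66 (Lpr_ff (f923093 IH) (Lpe (f923090 IH) (Lpr_ff (f923105 IH) (Lpn v41287))))
theorem f923222 : v38280 = (LP (LK LD1_c9 LD2_c55 LD3_c47)) :=
  (Llr Lrot44 (Lpe (f900431 IH) (Lpr_af (f900422 IH) (Lpr_df (f923220 IH) (Lpe (f923106 IH) (Lpn (LP (LK LD1_c9 LD2_c55 LD3_c47)))))))).symm
theorem f923224 : Led Lsl_dt (LP (LK LD1_c9 LD2_c7 LD3_c57)) = (LP (LK LD1_c9 LD2_c55 LD3_c47)) :=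
  Leop (Lpq (f923222 IH) (Lpe (f900431 IH) (Lpn (LP (LK LD1_c9 LD2_c7 LD3_c57)))))
theorem seed_2463 : LEOK LG_d (LK LD1_c9 LD2_c7 LD3_c57) :=
  Leoe_d (LK LD1_c9 LD2_c7 LD3_c57) (f923224 IH)
def v14610 : LQ := Led Lsl_ft (LP (LK LD1_c5 LD2_c14 LD3_c43))
theorem f724000 : Led Lsl_ft (LP (LK LD1_c5 LD2_c14 LD3_c43)) = v14610 :=
  Lrfl
theorem f724003 : Led Lsl_ff (LP (LK LD1_c5 LD2_c14 LD3_c43)) = v14610 :=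
  Lgr Lrot3 (Lpr_ft (f724000 IH) (Lpn v14610))
def v14609 : LQ := Led Lsl_at (LP (LK LD1_c5 LD2_c14 LD3_c43))
theorem f723996 : Led Lsl_at (LP (LK LD1_c5 LD2_c14 LD3_c43)) = v14609 :=
  Lrfl
theorem f723997 : Led Lsl_af (LP (LK LD1_c5 LD2_c14 LD3_c43)) = v14609 :=
  Lgr Lrot0 (Lpr_at (f723996 IH) (Lpn v14609))
theorem f723998 : Led Lsl_ft (LP (LK LD1_c5 LD2_c14 LD3_c44)) = v14609 :=
  Lgr Lrot2 (Lpr_gt (K45.f164051 IH) (Lpr_gt (K45.f163981 IH) (Lpr_af (f723997 IH) (Lpn v14609))))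
theorem f723999 : Led Lsl_ff (LP (LK LD1_c5 LD2_c14 LD3_c44)) = v14609 :=
  Lgr Lrot3 (Lpr_ft (f723998 IH) (Lpn v14609))
theorem f724004 : Led Lsl_at (LP (LK LD1_c5 LD2_c14 LD3_c44)) = v14610 :=
  Lgr Lrot66 (Lpr_ff (f723999 IH) (Lpe (f723996 IH) (Lpr_ff (f724003 IH) (Lpn v14610))))
theorem f586556 : Led Lsl_df (LP (LK LD1_c5 LD2_c14 LD3_c44)) = (LP (LK LD1_c10 LD2_c10 LD3_c23)) :=
  Lgr Lrot38 (Lpr_dt (K45.f586551 IH) (Lpn (LP (LK LD1_c10 LD2_c10 LD3_c23))))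
theorem f923028 : Led Lsl_df (LP (LK LD1_c9 LD2_c55 LD3_c41)) = v14609 :=
  Lgr Lrot78 (Lpr_ft (f923004 IH) (Lpq (f923021 IH) (Lpe (f586556 IH) (Lpr_ft (f723998 IH) (Lpn v14609)))))
def v41274 : LQ := Led Lsl_ft (LP (LK LD1_c9 LD2_c55 LD3_c40))
theorem f923011 : Led Lsl_ft (LP (LK LD1_c9 LD2_c55 LD3_c40)) = v41274 :=
  Lrfl
theorem f923013 : Led Lsl_ff (LP (LK LD1_c9 LD2_c55 LD3_c40)) = v41274 :=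
  Lgr Lrot3 (Lpr_ft (f923011 IH) (Lpn v41274))
theorem f923005 : Led Lsl_ff (LP (LK LD1_c9 LD2_c55 LD3_c41)) = v41271 :=
  Lgr Lrot3 (Lpr_ft (f923004 IH) (Lpn v41271))
theorem f923014 : Led Lsl_at (LP (LK LD1_c9 LD2_c55 LD3_c41)) = v41274 :=
  Lgr Lrot66 (Lpr_ff (f923005 IH) (Lpe (f923001 IH) (Lpr_ff (f923013 IH) (Lpn v41274))))
theorem f923030 : v41274 = (LP (LK LD1_c10 LD2_c10 LD3_c22)) :=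
  (Llr Lrot51 (Lpe (f923014 IH) (Lpr_df (f923028 IH) (Lpe (f723996 IH) (Lpr_df (K45.f412938 IH) (Lpn (LP (LK LD1_c10 LD2_c10 LD3_c22)))))))).symm
def v41273 : LQ := Led Lsl_dt (LP (LK LD1_c9 LD2_c55 LD3_c40))
theorem f923009 : Led Lsl_dt (LP (LK LD1_c9 LD2_c55 LD3_c40)) = v41273 :=
  Lrfl
theorem f923010 : Led Lsl_df (LP (LK LD1_c9 LD2_c55 LD3_c40)) = v41273 :=
  Lgr Lrot38 (Lpr_dt (f923009 IH) (Lpn v41273))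
theorem f923037 : v41273 = v14610 :=
  (Llr Lrot78 (Lpe (f923010 IH) (Lpr_ft (f923011 IH) (Lpqs (f923030 IH) (Lpe (K45.f412938 IH) (Lpr_ft (f724000 IH) (Lpn v14610))))))).symm
theorem f900417 : Led Lsl_df (LP (LK LD1_c9 LD2_c7 LD3_c56)) = v38276 :=
  Lgr Lrot38 (Lpr_dt (f900416 IH) (Lpn v38276))
theorem f212203 : Led Lsl_ct (LP (LK LD1_c10 LD2_c2 LD3_c23)) = (LP (LK LD1_c18 LD2_c20 LD3_c36)) :=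
  Lre_c IH (LK LD1_c10 LD2_c2 LD3_c23) (LK LD1_c18 LD2_c20 LD3_c36) Lrfl Lrfl
def v41294 : LQ := Led Lsl_gf (LP (LK LD1_c9 LD2_c55 LD3_c49))
theorem f923147 : Led Lsl_gf (LP (LK LD1_c9 LD2_c55 LD3_c49)) = v41294 :=
  Lrfl
theorem f923129 : Led Lsl_af (LP (LK LD1_c9 LD2_c55 LD3_c49)) = v41291 :=
  Lgr Lrot68 (Lpr_ct (f240451 IH) (Lpr_at (K44.f264254 IH) (Lpr_ct (f923128 IH) (Lpn v41291))))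
theorem f923135 : Led Lsl_ft (LP (LK LD1_c18 LD2_c20 LD3_c36)) = v41291 :=
  Lgr Lrot48 (Lpr_ff (f923132 IH) (Lpn v41291))
theorem f923148 : Led Lsl_gt (LP (LK LD1_c18 LD2_c20 LD3_c36)) = v41294 :=
  Lgr Lrot5 (Lpr_ft (f923135 IH) (Lpe (f923129 IH) (Lpr_gf (f923147 IH) (Lpn v41294))))
def v41272 : LQ := Led Lsl_bt (LP (LK LD1_c9 LD2_c55 LD3_c40))
theorem f923006 : Led Lsl_bt (LP (LK LD1_c9 LD2_c55 LD3_c40)) = v41272 :=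
  Lrfl
theorem f923007 : Led Lsl_bf (LP (LK LD1_c9 LD2_c55 LD3_c40)) = v41272 :=
  Lgr Lrot24 (Lpr_bt (f923006 IH) (Lpn v41272))
theorem f923149 : Led Lsl_ct v41272 = v41294 :=
  Lgr Lrot64 (Lpe (f923007 IH) (Lpe (f169978 IH) (Lpe (K45.f169977 IH) (Lpr_ct (K9.f165278 IH) (Lpe (K9.f169830 IH) (Lpe (K9.f28367 IH) (Lpe (K12.f212223 IH) (Lpe (K45.f264299 IH) (Lpr_ct (f212218 IH) (Lpr_gf (f923147 IH) (Lpn v41294)))))))))))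
theorem f923150 : Led Lsl_cf v41272 = v41294 :=
  Lgr Lrot11 (Lpr_ct (f923149 IH) (Lpn v41294))
theorem f177222 : Led Lsl_ct (LP (LK LD1_c17 LD2_c0 LD3_c4)) = (LP (LK LD1_c10 LD2_c0 LD3_c10)) :=
  Lgr Lrot59 (Lpr_cf (K10.f177217 IH) (Lpn (LP (LK LD1_c10 LD2_c0 LD3_c10))))
theorem f923234 : Led Lsl_df v41272 = (LP (LK LD1_c10 LD2_c0 LD3_c10)) :=
  Lgr Lrot162 (Lpr_cf (f923150 IH) (Lpe (f923148 IH) (Lpe (f212203 IH) (Lpr_gf (f410239 IH) (Lpq (f923215 IH) (Lpe (f900417 IH) (Lpr_gt (K10.f35109 IH) (Lpr_ct (K10.f32666 IH) (Lpe (K10.f177230 IH) (Lpr_ct (f177222 IH) (Lpn (LP (LK LD1_c10 LD2_c0 LD3_c10)))))))))))))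
theorem f177220 : Led Lsl_bt (LP (LK LD1_c5 LD2_c4 LD3_c33)) = (LP (LK LD1_c10 LD2_c0 LD3_c10)) :=
  Lre_b IH (LK LD1_c5 LD2_c4 LD3_c33) (LK LD1_c10 LD2_c0 LD3_c10) Lrfl Lrfl
theorem f923238 : v41273 = (LP (LK LD1_c5 LD2_c4 LD3_c33)) :=
  (Llr Lrot79 (Lpe (f923009 IH) (Lpr_bf (f923007 IH) (Lpr_df (f923234 IH) (Lpe (f177220 IH) (Lpn (LP (LK LD1_c5 LD2_c4 LD3_c33)))))))).symm
theorem f923240 : Led Lsl_at (LP (LK LD1_c5 LD2_c14 LD3_c44)) = (LP (LK LD1_c5 LD2_c4 LD3_c33)) :=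
  Leop (Lpq (f923238 IH) (Lpqs (f923037 IH) (Lpe (f724004 IH) (Lpn (LP (LK LD1_c5 LD2_c14 LD3_c44))))))
theorem seed_2464 : LEOK LG_a (LK LD1_c5 LD2_c14 LD3_c44) :=
  Leoe_a (LK LD1_c5 LD2_c14 LD3_c44) (f923240 IH)
def v16746 : LQ := Led Lsl_ft (LP (LK LD1_c6 LD2_c6 LD3_c30))
theorem f751388 : Led Lsl_ft (LP (LK LD1_c6 LD2_c6 LD3_c30)) = v16746 :=
  Lrfl
theorem f751390 : Led Lsl_ff (LP (LK LD1_c6 LD2_c6 LD3_c30)) = v16746 :=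
  Lgr Lrot3 (Lpr_ft (f751388 IH) (Lpn v16746))
def v14888 : LQ := Led Lsl_at (LP (LK LD1_c5 LD2_c26 LD3_c60))
theorem f727115 : Led Lsl_at (LP (LK LD1_c5 LD2_c26 LD3_c60)) = v14888 :=
  Lrfl
theorem f727116 : Led Lsl_af (LP (LK LD1_c5 LD2_c26 LD3_c60)) = v14888 :=
  Lgr Lrot0 (Lpr_at (f727115 IH) (Lpn v14888))
def v16742 : LQ := Led Lsl_at (LP (LK LD1_c6 LD2_c6 LD3_c30))
theorem f751361 : Led Lsl_at (LP (LK LD1_c6 LD2_c6 LD3_c30)) = v16742 :=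
  Lrfl
theorem f751362 : Led Lsl_af (LP (LK LD1_c6 LD2_c6 LD3_c30)) = v16742 :=
  Lgr Lrot0 (Lpr_at (f751361 IH) (Lpn v16742))
theorem f751363 : Led Lsl_ft (LP (LK LD1_c6 LD2_c6 LD3_c31)) = v16742 :=
  Lgr Lrot2 (Lpr_gt (K45.f256184 IH) (Lpr_gt (K56.f198841 IH) (Lpr_af (f751362 IH) (Lpn v16742))))
theorem f751364 : Led Lsl_ff (LP (LK LD1_c6 LD2_c6 LD3_c31)) = v16742 :=
  Lgr Lrot3 (Lpr_ft (f751363 IH) (Lpn v16742))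
theorem f751391 : Led Lsl_at (LP (LK LD1_c6 LD2_c6 LD3_c31)) = v16746 :=
  Lgr Lrot66 (Lpr_ff (f751364 IH) (Lpe (f751361 IH) (Lpr_ff (f751390 IH) (Lpn v16746))))
def v14273 : LQ := Led Lsl_at (LP (LK LD1_c5 LD2_c4 LD3_c33))
theorem f721671 : Led Lsl_at (LP (LK LD1_c5 LD2_c4 LD3_c33)) = v14273 :=
  Lrfl
theorem f721672 : Led Lsl_af (LP (LK LD1_c5 LD2_c4 LD3_c33)) = v14273 :=
  Lgr Lrot0 (Lpr_at (f721671 IH) (Lpn v14273))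
theorem f21469 : Led Lsl_gt (LP (LK LD1_c5 LD2_c4 LD3_c34)) = (LP (LK LD1_c2 LD2_c29 LD3_c38)) :=
  Lre_g IH (LK LD1_c5 LD2_c4 LD3_c34) (LK LD1_c2 LD2_c29 LD3_c38) Lrfl Lrfl
theorem f721674 : Led Lsl_ft (LP (LK LD1_c5 LD2_c4 LD3_c34)) = v14273 :=
  Lgr Lrot2 (Lpr_gt (f21469 IH) (Lpr_gt (K10.f21471 IH) (Lpr_af (f721672 IH) (Lpn v14273))))
theorem f721676 : Led Lsl_ff (LP (LK LD1_c5 LD2_c4 LD3_c34)) = v14273 :=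
  Lgr Lrot3 (Lpr_ft (f721674 IH) (Lpn v14273))
theorem f724001 : Led Lsl_af (LP (LK LD1_c5 LD2_c14 LD3_c44)) = v14610 :=
  Lgr Lrot45 (Lpr_ft (f723998 IH) (Lpe (f723997 IH) (Lpr_ft (f724000 IH) (Lpn v14610))))
theorem f923239 : (LP (LK LD1_c5 LD2_c14 LD3_c44)) = v14273 :=
  Lefun (Lecon (Lfl_af (f724001 IH)) ((f923037 IH).symm.trans (f923238 IH))) (f721671 IH)
theorem f923248 : (LP (LK LD1_c5 LD2_c4 LD3_c34)) = v14609 :=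
  Lefun (Lecon (Lfl_ff (f721676 IH)) (f923239 IH).symm) (f723998 IH)
theorem f164024 : Led Lsl_gf (LP (LK LD1_c5 LD2_c4 LD3_c34)) = (LP (LK LD1_c5 LD2_c14 LD3_c45)) :=
  Lgr Lrot47 (Lpr_gt (f21469 IH) (Lpe (K45.f163842 IH) (Lpr_ff (K10.f164015 IH) (Lpn (LP (LK LD1_c5 LD2_c14 LD3_c45))))))
theorem f727117 : Led Lsl_df (LP (LK LD1_c10 LD2_c0 LD3_c16)) = v14888 :=
  Lgr Lrot18 (Lpr_at (K45.f586499 IH) (Lpr_dt (f586529 IH) (Lpr_at (f727115 IH) (Lpn v14888))))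
theorem f727118 : Led Lsl_dt (LP (LK LD1_c10 LD2_c0 LD3_c16)) = v14888 :=
  Lgr Lrot42 (Lpr_df (f727117 IH) (Lpn v14888))
theorem f169990 : Led Lsl_dt (LP (LK LD1_c5 LD2_c2 LD3_c25)) = (LP (LK LD1_c9 LD2_c55 LD3_c43)) :=
  Lre_d IH (LK LD1_c5 LD2_c2 LD3_c25) (LK LD1_c9 LD2_c55 LD3_c43) Lrfl Lrfl
theorem f923258 : v14888 = (LP (LK LD1_c6 LD2_c6 LD3_c31)) :=
  (Llr Lrot57 (Lpe (f727118 IH) (Lpr_gf (K10.f164060 IH) (Lpe (K10.f164001 IH) (Lpe (f164024 IH) (Lpqs (f923248 IH) (Lpe (f923028 IH) (Lpr_gt (f251532 IH) (Lpr_dt (f169990 IH) (Lpe (K45.f586565 IH) (Lpe (K45.f198836 IH) (Lpe (K45.f256184 IH) (Lpn (LP (LK LD1_c6 LD2_c6 LD3_c31))))))))))))))).symm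
theorem f923259 : (LP (LK LD1_c5 LD2_c26 LD3_c60)) = v16746 :=
  Lefun (Lecon (Lfl_af (f727116 IH)) (f923258 IH)) (f751391 IH)
theorem f923291 : Led Lsl_ff K56.v14889 = K56.v16743 :=
  Lgr Lrot25 (Lpe (K56.f727122 IH) (Lpqs (f923259 IH) (Lpe (f751390 IH) (Lpr_bt (K56.f751365 IH) (Lpn K56.v16743)))))
theorem f923305 : Led Lsl_ft K56.v14889 = K56.v16743 :=
  Lgr Lrot48 (Lpr_ff (f923291 IH) (Lpn K56.v16743))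
theorem f751220 : Led Lsl_cf K56.v14889 = K56.v16709 :=
  Lgr Lrot11 (Lpr_ct (K56.f751219 IH) (Lpn K56.v16709))
theorem f923306 : Led Lsl_ff K56.v16709 = (LP (LK LD1_c10 LD2_c44 LD3_c33)) :=
  Lgr Lrot23 (Lpe (f751220 IH) (Lpr_ft (f923305 IH) (Lpe (K56.f751368 IH) (Lpn (LP (LK LD1_c10 LD2_c44 LD3_c33))))))
theorem f191316 : Led Lsl_gt (LP (LK LD1_c5 LD2_c26 LD3_c43)) = (LP (LK LD1_c10 LD2_c44 LD3_c32)) :=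
  Lre_g IH (LK LD1_c5 LD2_c26 LD3_c43) (LK LD1_c10 LD2_c44 LD3_c32) Lrfl Lrfl
theorem f923307 : Led Lsl_at K56.v16709 = (LP (LK LD1_c10 LD2_c44 LD3_c32)) :=
  Lgr Lrot26 (Lpr_ff (f923306 IH) (Lpr_gt (K56.f182548 IH) (Lpr_gt (f191316 IH) (Lpn (LP (LK LD1_c10 LD2_c44 LD3_c32))))))
def v5144 : LQ := Led Lsl_bt (LP (LK LD1_c2 LD2_c59 LD3_c28))
def v25000 : LQ := Led Lsl_gt v5144
theorem f826543 : Led Lsl_gt v5144 = v25000 :=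
  Lrfl
theorem f646213 : Led Lsl_bt (LP (LK LD1_c2 LD2_c59 LD3_c28)) = v5144 :=
  Lrfl
theorem f257338 : Led Lsl_ct (LP (LK LD1_c2 LD2_c59 LD3_c28)) = (LP (LK LD1_c6 LD2_c6 LD3_c44)) :=
  Lre_c IH (LK LD1_c2 LD2_c59 LD3_c28) (LK LD1_c6 LD2_c6 LD3_c44) Lrfl Lrfl
theorem f257241 : Led Lsl_ct (LP (LK LD1_c11 LD2_c56 LD3_c5)) = (LP (LK LD1_c11 LD2_c56 LD3_c26)) :=
  Lre_c IH (LK LD1_c11 LD2_c56 LD3_c5) (LK LD1_c11 LD2_c56 LD3_c26) Lrfl Lrfl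
theorem f257223 : Led Lsl_bt (LP (LK LD1_c11 LD2_c56 LD3_c5)) = (LP (LK LD1_c6 LD2_c6 LD3_c25)) :=
  Lre_b IH (LK LD1_c11 LD2_c56 LD3_c5) (LK LD1_c6 LD2_c6 LD3_c25) Lrfl Lrfl
theorem f183811 : Led Lsl_gt (LP (LK LD1_c6 LD2_c6 LD3_c25)) = (LP (LK LD1_c2 LD2_c59 LD3_c17)) :=
  Lre_g IH (LK LD1_c6 LD2_c6 LD3_c25) (LK LD1_c2 LD2_c59 LD3_c17) Lrfl Lrfl
theorem f409036 : Led Lsl_gt (LP (LK LD1_c5 LD2_c26 LD3_c32)) = (LP (LK LD1_c6 LD2_c6 LD3_c25)) :=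
  Lgr Lrot5 (Lpr_ft (K56.f285988 IH) (Lpr_at (K56.f285987 IH) (Lpe (f183811 IH) (Lpn (LP (LK LD1_c6 LD2_c6 LD3_c25))))))
theorem f191315 : Led Lsl_bt (LP (LK LD1_c2 LD2_c39 LD3_c46)) = (LP (LK LD1_c5 LD2_c26 LD3_c43)) :=
  Lre_b IH (LK LD1_c2 LD2_c39 LD3_c46) (LK LD1_c5 LD2_c26 LD3_c43) Lrfl Lrfl
theorem f187659 : Led Lsl_bt (LP (LK LD1_c6 LD2_c5 LD3_c60)) = (LP (LK LD1_c2 LD2_c59 LD3_c7)) :=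
  Lre_b IH (LK LD1_c6 LD2_c5 LD3_c60) (LK LD1_c2 LD2_c59 LD3_c7) Lrfl Lrfl
theorem f285517 : Led Lsl_ft (LP (LK LD1_c5 LD2_c26 LD3_c43)) = (LP (LK LD1_c6 LD2_c5 LD3_c60)) :=
  Lgr Lrot75 (Lpe (f191315 IH) (Lpr_ff (K17.f285513 IH) (Lpe (f187659 IH) (Lpn (LP (LK LD1_c6 LD2_c5 LD3_c60))))))
theorem f283032 : Led Lsl_at (LP (LK LD1_c6 LD2_c5 LD3_c60)) = (LP (LK LD1_c11 LD2_c55 LD3_c22)) :=
  Lre_a IH (LK LD1_c6 LD2_c5 LD3_c60) (LK LD1_c11 LD2_c55 LD3_c22) Lrfl Lrfl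
theorem f409101 : Led Lsl_gt (LP (LK LD1_c10 LD2_c44 LD3_c32)) = (LP (LK LD1_c11 LD2_c55 LD3_c22)) :=
  Lgr Lrot46 (Lpe (f191316 IH) (Lpr_ft (f285517 IH) (Lpr_at (f283032 IH) (Lpn (LP (LK LD1_c11 LD2_c55 LD3_c22))))))
theorem f826544 : Led Lsl_cf (LP (LK LD1_c10 LD2_c44 LD3_c32)) = v25000 :=
  Lgr Lrot125 (Lpr_gt (f409101 IH) (Lpe (K56.f285915 IH) (Lpe (K17.f285904 IH) (Lpr_gt (f409036 IH) (Lpe (f257223 IH) (Lpr_ct (f257241 IH) (Lpr_gt (K56.f751518 IH) (Lpe (f257338 IH) (Lpr_bt (f646213 IH) (Lpr_gt (f826543 IH) (Lpn v25000)))))))))))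
theorem f826545 : Led Lsl_ct (LP (LK LD1_c10 LD2_c44 LD3_c32)) = v25000 :=
  Lgr Lrot59 (Lpr_cf (f826544 IH) (Lpn v25000))
theorem f923309 : Led Lsl_af K56.v14889 = v25000 :=
  Lgr Lrot68 (Lpr_ct (K56.f751219 IH) (Lpr_at (f923307 IH) (Lpr_ct (f826545 IH) (Lpn v25000))))
theorem f256202 : Led Lsl_bt (LP (LK LD1_c6 LD2_c6 LD3_c31)) = (LP (LK LD1_c11 LD2_c56 LD3_c10)) :=
  Lre_b IH (LK LD1_c6 LD2_c6 LD3_c31) (LK LD1_c11 LD2_c56 LD3_c10) Lrfl Lrfl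
theorem f182547 : Led Lsl_ct (LP (LK LD1_c2 LD2_c39 LD3_c48)) = (LP (LK LD1_c5 LD2_c26 LD3_c43)) :=
  Lre_c IH (LK LD1_c2 LD2_c39 LD3_c48) (LK LD1_c5 LD2_c26 LD3_c43) Lrfl Lrfl
theorem f191189 : Led Lsl_gt (LP (LK LD1_c5 LD2_c26 LD3_c50)) = (LP (LK LD1_c2 LD2_c39 LD3_c48)) :=
  Lre_g IH (LK LD1_c5 LD2_c26 LD3_c50) (LK LD1_c2 LD2_c39 LD3_c48) Lrfl Lrfl
theorem f194846 : Led Lsl_bt (LP (LK LD1_c10 LD2_c44 LD3_c47)) = (LP (LK LD1_c5 LD2_c26 LD3_c50)) :=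
  Lre_b IH (LK LD1_c10 LD2_c44 LD3_c47) (LK LD1_c5 LD2_c26 LD3_c50) Lrfl Lrfl
theorem f194837 : Led Lsl_ct (LP (LK LD1_c10 LD2_c44 LD3_c47)) = (LP (LK LD1_c10 LD2_c45 LD3_c19)) :=
  Lre_c IH (LK LD1_c10 LD2_c44 LD3_c47) (LK LD1_c10 LD2_c45 LD3_c19) Lrfl Lrfl
theorem f8890 : Led Lsl_gt (LP (LK LD1_c5 LD2_c27 LD3_c6)) = (LP (LK LD1_c10 LD2_c45 LD3_c19)) :=
  Lre_g IH (LK LD1_c5 LD2_c27 LD3_c6) (LK LD1_c10 LD2_c45 LD3_c19) Lrfl Lrfl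
theorem f8893 : Led Lsl_ct (LP (LK LD1_c2 LD2_c39 LD3_c58)) = (LP (LK LD1_c5 LD2_c27 LD3_c6)) :=
  Lre_c IH (LK LD1_c2 LD2_c39 LD3_c58) (LK LD1_c5 LD2_c27 LD3_c6) Lrfl Lrfl
theorem f638288 : Led Lsl_bt (LP (LK LD1_c2 LD2_c39 LD3_c58)) = (LP (LK LD1_c5 LD2_c27 LD3_c5)) :=
  Lre_b IH (LK LD1_c2 LD2_c39 LD3_c58) (LK LD1_c5 LD2_c27 LD3_c5) Lrfl Lrfl
theorem f421707 : Led Lsl_gt (LP (LK LD1_c10 LD2_c45 LD3_c13)) = (LP (LK LD1_c5 LD2_c27 LD3_c5)) :=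
  Lre_g IH (LK LD1_c10 LD2_c45 LD3_c13) (LK LD1_c5 LD2_c27 LD3_c5) Lrfl Lrfl
theorem f826546 : Led Lsl_bf (LP (LK LD1_c10 LD2_c45 LD3_c13)) = v25000 :=
  Lgr Lrot156 (Lpr_gt (f421707 IH) (Lpe (f638288 IH) (Lpr_ct (f8893 IH) (Lpr_gt (f8890 IH) (Lpe (f194837 IH) (Lpr_bt (f194846 IH) (Lpr_gt (f191189 IH) (Lpr_ct (f182547 IH) (Lpr_gt (f191316 IH) (Lpr_cf (f826544 IH) (Lpn v25000)))))))))))
theorem f826547 : Led Lsl_bt (LP (LK LD1_c10 LD2_c45 LD3_c13)) = v25000 :=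
  Lgr Lrot127 (Lpr_bf (f826546 IH) (Lpn v25000))
theorem f923311 : Led Lsl_at (LP (LK LD1_c11 LD2_c56 LD3_c10)) = (LP (LK LD1_c10 LD2_c45 LD3_c13)) :=
  Lgr Lrot67 (Lpe (f256202 IH) (Lpq (f923258 IH) (Lpe (f727115 IH) (Lpr_bf (K56.f727122 IH) (Lpr_af (f923309 IH) (Lpe (f826547 IH) (Lpn (LP (LK LD1_c10 LD2_c45 LD3_c13)))))))))
theorem f923312 : Led Lsl_at (LP (LK LD1_c11 LD2_c56 LD3_c10)) = (LP (LK LD1_c10 LD2_c45 LD3_c13)) :=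
  Leop (Lpe (f923311 IH) (Lpn (LP (LK LD1_c11 LD2_c56 LD3_c10))))
theorem seed_2465 : LEOK LG_a (LK LD1_c11 LD2_c56 LD3_c10) :=
  Leoe_a (LK LD1_c11 LD2_c56 LD3_c10) (f923312 IH)
def v16733 : LQ := Led Lsl_ft (LP (LK LD1_c6 LD2_c6 LD3_c24))
theorem f751314 : Led Lsl_ft (LP (LK LD1_c6 LD2_c6 LD3_c24)) = v16733 :=
  Lrfl
theorem f751316 : Led Lsl_ff (LP (LK LD1_c6 LD2_c6 LD3_c24)) = v16733 :=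
  Lgr Lrot3 (Lpr_ft (f751314 IH) (Lpn v16733))
def v16730 : LQ := Led Lsl_at (LP (LK LD1_c6 LD2_c6 LD3_c24))
theorem f751303 : Led Lsl_at (LP (LK LD1_c6 LD2_c6 LD3_c24)) = v16730 :=
  Lrfl
theorem f751304 : Led Lsl_af (LP (LK LD1_c6 LD2_c6 LD3_c24)) = v16730 :=
  Lgr Lrot0 (Lpr_at (f751303 IH) (Lpn v16730))
theorem f751305 : Led Lsl_ft (LP (LK LD1_c6 LD2_c6 LD3_c25)) = v16730 :=
  Lgr Lrot2 (Lpr_gt (f183811 IH) (Lpr_gt (K53.f183351 IH) (Lpr_af (f751304 IH) (Lpn v16730))))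
theorem f751307 : Led Lsl_ff (LP (LK LD1_c6 LD2_c6 LD3_c25)) = v16730 :=
  Lgr Lrot3 (Lpr_ft (f751305 IH) (Lpn v16730))
theorem f751317 : Led Lsl_at (LP (LK LD1_c6 LD2_c6 LD3_c25)) = v16733 :=
  Lgr Lrot66 (Lpr_ff (f751307 IH) (Lpe (f751303 IH) (Lpr_ff (f751316 IH) (Lpn v16733))))
theorem f586497 : Led Lsl_ft (LP (LK LD1_c10 LD2_c0 LD3_c16)) = (LP (LK LD1_c10 LD2_c18 LD3_c30)) :=
  Lgr Lrot48 (Lpr_ff (K45.f586493 IH) (Lpn (LP (LK LD1_c10 LD2_c18 LD3_c30))))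
theorem f727119 : Led Lsl_ft (LP (LK LD1_c5 LD2_c26 LD3_c61)) = v14888 :=
  Lgr Lrot54 (Lpe (K45.f586549 IH) (Lpe (f586497 IH) (Lpr_df (f727117 IH) (Lpn v14888))))
theorem f727120 : Led Lsl_ff (LP (LK LD1_c5 LD2_c26 LD3_c61)) = v14888 :=
  Lgr Lrot3 (Lpr_ft (f727119 IH) (Lpn v14888))
theorem f923324 : Led Lsl_ff (LP (LK LD1_c11 LD2_c56 LD3_c11)) = (LP (LK LD1_c10 LD2_c45 LD3_c3)) :=
  Lgr Lrot23 (Lpr_ct (K45.f256185 IH) (Lpq (f923258 IH) (Lpe (f727120 IH) (Lpr_ct (K39.f187604 IH) (Lpn (LP (LK LD1_c10 LD2_c45 LD3_c3)))))))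
theorem f923332 : Led Lsl_ft (LP (LK LD1_c11 LD2_c56 LD3_c11)) = (LP (LK LD1_c10 LD2_c45 LD3_c3)) :=
  Lgr Lrot48 (Lpr_ff (f923324 IH) (Lpn (LP (LK LD1_c10 LD2_c45 LD3_c3))))
def v14891 : LQ := Led Lsl_ft (LP (LK LD1_c5 LD2_c26 LD3_c60))
theorem f727126 : Led Lsl_ft (LP (LK LD1_c5 LD2_c26 LD3_c60)) = v14891 :=
  Lrfl
theorem f586501 : Led Lsl_af (LP (LK LD1_c10 LD2_c0 LD3_c16)) = (LP (LK LD1_c10 LD2_c18 LD3_c29)) :=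
  Lgr Lrot0 (Lpr_at (K45.f586499 IH) (Lpn (LP (LK LD1_c10 LD2_c18 LD3_c29))))
theorem f163998 : Led Lsl_gt (LP (LK LD1_c5 LD2_c4 LD3_c35)) = (LP (LK LD1_c10 LD2_c0 LD3_c15)) :=
  Lre_g IH (LK LD1_c5 LD2_c4 LD3_c35) (LK LD1_c10 LD2_c0 LD3_c15) Lrfl Lrfl
theorem f163999 : Led Lsl_gt (LP (LK LD1_c10 LD2_c0 LD3_c15)) = (LP (LK LD1_c10 LD2_c18 LD3_c31)) :=
  Lgr Lrot46 (Lpe (f163998 IH) (Lpr_ft (K10.f163979 IH) (Lpr_at (K10.f163992 IH) (Lpn (LP (LK LD1_c10 LD2_c18 LD3_c31))))))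
theorem f603523 : Led Lsl_ft (LP (LK LD1_c10 LD2_c0 LD3_c15)) = (LP (LK LD1_c10 LD2_c18 LD3_c29)) :=
  Lgr Lrot2 (Lpr_gt (f163999 IH) (Lpe (K10.f164060 IH) (Lpr_af (f586501 IH) (Lpn (LP (LK LD1_c10 LD2_c18 LD3_c29))))))
theorem f727128 : Led Lsl_df (LP (LK LD1_c10 LD2_c0 LD3_c15)) = v14891 :=
  Lgr Lrot78 (Lpr_ft (f603523 IH) (Lpr_dt (f586529 IH) (Lpr_ft (f727126 IH) (Lpn v14891))))
theorem f923268 : (LP (LK LD1_c6 LD2_c6 LD3_c30)) = v14891 :=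
  Lefun (Lecon (Lfl_ff (f751390 IH)) (f923259 IH).symm) (f727126 IH)
theorem f256146 : Led Lsl_gt (LP (LK LD1_c6 LD2_c6 LD3_c33)) = (LP (LK LD1_c11 LD2_c56 LD3_c13)) :=
  Lre_g IH (LK LD1_c6 LD2_c6 LD3_c33) (LK LD1_c11 LD2_c56 LD3_c13) Lrfl Lrfl
theorem f3662 : Led Lsl_dt (LP (LK LD1_c18 LD2_c7 LD3_c29)) = (LP (LK LD1_c9 LD2_c54 LD3_c15)) :=
  Lre_d IH (LK LD1_c18 LD2_c7 LD3_c29) (LK LD1_c9 LD2_c54 LD3_c15) Lrfl Lrfl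
theorem f164034 : Led Lsl_ct (LP (LK LD1_c9 LD2_c54 LD3_c15)) = (LP (LK LD1_c5 LD2_c4 LD3_c21)) :=
  Lre_c IH (LK LD1_c9 LD2_c54 LD3_c15) (LK LD1_c5 LD2_c4 LD3_c21) Lrfl Lrfl
theorem f338910 : Led Lsl_dt (LP (LK LD1_c6 LD2_c6 LD3_c59)) = (LP (LK LD1_c11 LD2_c56 LD3_c54)) :=
  Lre_d IH (LK LD1_c6 LD2_c6 LD3_c59) (LK LD1_c11 LD2_c56 LD3_c54) Lrfl Lrfl
theorem f164038 : Led Lsl_ct (LP (LK LD1_c9 LD2_c54 LD3_c29)) = (LP (LK LD1_c5 LD2_c1 LD3_c56)) :=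
  Lre_c IH (LK LD1_c9 LD2_c54 LD3_c29) (LK LD1_c5 LD2_c1 LD3_c56) Lrfl Lrfl
theorem f585025 : Led Lsl_df (LP (LK LD1_c9 LD2_c54 LD3_c29)) = (LP (LK LD1_c15 LD2_c29 LD3_c50)) :=
  Lgr Lrot38 (Lpr_dt (K45.f585011 IH) (Lpn (LP (LK LD1_c15 LD2_c29 LD3_c50))))
theorem f585053 : Led Lsl_dt (LP (LK LD1_c10 LD2_c18 LD3_c31)) = (LP (LK LD1_c8 LD2_c14 LD3_c18)) :=
  Lgr Lrot173 (Lpe (K10.f164001 IH) (Lpe (K45.f164021 IH) (Lpe (f164034 IH) (Lpe (f3662 IH) (Lpr_cf (K45.f585039 IH) (Lpe (f338910 IH) (Lpe (K56.f179059 IH) (Lpe (f585003 IH) (Lpe (K10.f163645 IH) (Lpe (K0.f21455 IH) (Lpe (K44.f21881 IH) (Lpe (f21674 IH) (Lpe (f164038 IH) (Lpr_df (f585025 IH) (Lpe (K56.f338909 IH) (Lpn (LP (LK LD1_c8 LD2_c14 LD3_c18))))))))))))))))))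
theorem f247881 : Led Lsl_gt (LP (LK LD1_c18 LD2_c7 LD3_c61)) = (LP (LK LD1_c9 LD2_c54 LD3_c29)) :=
  Lre_g IH (LK LD1_c18 LD2_c7 LD3_c61) (LK LD1_c9 LD2_c54 LD3_c29) Lrfl Lrfl
theorem f923276 : Led Lsl_dt (LP (LK LD1_c11 LD2_c56 LD3_c13)) = (LP (LK LD1_c18 LD2_c7 LD3_c61)) :=
  Lgr Lrot57 (Lpe (f256146 IH) (Lpe (K53.f198820 IH) (Lpr_gt (K56.f198841 IH) (Lpqs (f923268 IH) (Lpe (f727128 IH) (Lpr_gt (f163999 IH) (Lpr_dt (f585053 IH) (Lpe (K25.f338911 IH) (Lpe (K45.f585011 IH) (Lpe (f247881 IH) (Lpn (LP (LK LD1_c18 LD2_c7 LD3_c61)))))))))))))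
theorem f256139 : Led Lsl_bf (LP (LK LD1_c6 LD2_c6 LD3_c33)) = (LP (LK LD1_c4 LD2_c3 LD3_c13)) :=
  Lgr Lrot90 (Lpr_ct (K45.f198817 IH) (Lpr_bt (K53.f198816 IH) (Lpe (K39.f198846 IH) (Lpr_bt (K11.f198824 IH) (Lpr_ct (K15.f256131 IH) (Lpn (LP (LK LD1_c4 LD2_c3 LD3_c13))))))))
theorem f315493 : Led Lsl_ft (LP (LK LD1_c6 LD2_c6 LD3_c33)) = (LP (LK LD1_c5 LD2_c27 LD3_c1)) :=
  Lgr Lrot75 (Lpr_bf (f256139 IH) (Lpr_ff (K20.f315491 IH) (Lpe (K39.f187517 IH) (Lpn (LP (LK LD1_c5 LD2_c27 LD3_c1))))))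
theorem f187607 : Led Lsl_at (LP (LK LD1_c5 LD2_c27 LD3_c1)) = (LP (LK LD1_c10 LD2_c45 LD3_c5)) :=
  Lre_a IH (LK LD1_c5 LD2_c27 LD3_c1) (LK LD1_c10 LD2_c45 LD3_c5) Lrfl Lrfl
theorem f402942 : Led Lsl_gt (LP (LK LD1_c11 LD2_c56 LD3_c13)) = (LP (LK LD1_c10 LD2_c45 LD3_c5)) :=
  Lgr Lrot46 (Lpe (f256146 IH) (Lpr_ft (f315493 IH) (Lpr_at (f187607 IH) (Lpn (LP (LK LD1_c10 LD2_c45 LD3_c5))))))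
theorem f396407 : Led Lsl_ct (LP (LK LD1_c10 LD2_c45 LD3_c5)) = (LP (LK LD1_c5 LD2_c27 LD3_c0)) :=
  Lre_c IH (LK LD1_c10 LD2_c45 LD3_c5) (LK LD1_c5 LD2_c27 LD3_c0) Lrfl Lrfl
theorem f396430 : Led Lsl_gt (LP (LK LD1_c5 LD2_c27 LD3_c0)) = (LP (LK LD1_c6 LD2_c6 LD3_c31)) :=
  Lgr Lrot5 (Lpr_ft (f396400 IH) (Lpr_at (f396399 IH) (Lpe (K45.f256184 IH) (Lpn (LP (LK LD1_c6 LD2_c6 LD3_c31))))))
theorem f923285 : Led Lsl_df (LP (LK LD1_c11 LD2_c56 LD3_c11)) = (LP (LK LD1_c18 LD2_c7 LD3_c55)) :=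
  Lgr Lrot162 (Lpe (K45.f256191 IH) (Lpe (f396430 IH) (Lpe (f396407 IH) (Lpe (f402942 IH) (Lpr_dt (f923276 IH) (Lpr_gt (f247881 IH) (Lpr_ct (f164038 IH) (Lpr_gt (f3587 IH) (Lpr_ct (f3697 IH) (Lpn (LP (LK LD1_c18 LD2_c7 LD3_c55))))))))))))
theorem f923342 : Led Lsl_ff (LP (LK LD1_c18 LD2_c7 LD3_c55)) = (LP (LK LD1_c19 LD2_c26 LD3_c45)) :=
  Lgr Lrot19 (Lpe (f923285 IH) (Lpr_ft (f923332 IH) (Lpr_dt (K45.f216274 IH) (Lpn (LP (LK LD1_c19 LD2_c26 LD3_c45))))))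
theorem f585058 : Led Lsl_ct (LP (LK LD1_c18 LD2_c7 LD3_c55)) = (LP (LK LD1_c9 LD2_c54 LD3_c27)) :=
  Lre_c IH (LK LD1_c18 LD2_c7 LD3_c55) (LK LD1_c9 LD2_c54 LD3_c27) Lrfl Lrfl
def v41228 : LQ := Led Lsl_ft (LP (LK LD1_c9 LD2_c54 LD3_c27))
theorem f922768 : Led Lsl_ft (LP (LK LD1_c9 LD2_c54 LD3_c27)) = v41228 :=
  Lrfl
theorem f923348 : v41228 = (LP (LK LD1_c18 LD2_c7 LD3_c52)) :=
  (Llr Lrot4 (Lpe (f922768 IH) (Lpe (f585058 IH) (Lpr_ff (f923342 IH) (Lpe (K45.f586535 IH) (Lpn (LP (LK LD1_c18 LD2_c7 LD3_c52)))))))).symm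
def v41227 : LQ := Led Lsl_dt (LP (LK LD1_c9 LD2_c54 LD3_c27))
theorem f922766 : Led Lsl_dt (LP (LK LD1_c9 LD2_c54 LD3_c27)) = v41227 :=
  Lrfl
theorem f922767 : Led Lsl_df (LP (LK LD1_c9 LD2_c54 LD3_c27)) = v41227 :=
  Lgr Lrot38 (Lpr_dt (f922766 IH) (Lpn v41227))
theorem f256205 : Led Lsl_bt (LP (LK LD1_c11 LD2_c56 LD3_c15)) = (LP (LK LD1_c8 LD2_c6 LD3_c61)) :=
  Lgr Lrot127 (Lpr_bf (f256180 IH) (Lpn (LP (LK LD1_c8 LD2_c6 LD3_c61))))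
theorem f184523 : Led Lsl_bt (LP (LK LD1_c2 LD2_c36 LD3_c45)) = (LP (LK LD1_c5 LD2_c20 LD3_c10)) :=
  Lre_b IH (LK LD1_c2 LD2_c36 LD3_c45) (LK LD1_c5 LD2_c20 LD3_c10) Lrfl Lrfl
theorem f586158 : Led Lsl_bt (LP (LK LD1_c19 LD2_c1 LD3_c57)) = (LP (LK LD1_c10 LD2_c30 LD3_c13)) :=
  Lre_b IH (LK LD1_c19 LD2_c1 LD3_c57) (LK LD1_c10 LD2_c30 LD3_c13) Lrfl Lrfl
theorem f586159 : Led Lsl_gt (LP (LK LD1_c5 LD2_c20 LD3_c10)) = (LP (LK LD1_c10 LD2_c30 LD3_c13)) :=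
  Lgr Lrot164 (Lpe (f184523 IH) (Lpr_ct (K15.f28291 IH) (Lpe (K14.f248083 IH) (Lpe (K12.f230222 IH) (Lpe (K12.f230414 IH) (Lpe (K44.f43538 IH) (Lpr_ct (K44.f50023 IH) (Lpe (K44.f49974 IH) (Lpr_cf (K44.f586148 IH) (Lpr_bt (f586158 IH) (Lpn (LP (LK LD1_c10 LD2_c30 LD3_c13)))))))))))))
theorem f342318 : Led Lsl_bt (LP (LK LD1_c10 LD2_c10 LD3_c18)) = (LP (LK LD1_c5 LD2_c9 LD3_c46)) :=
  Lre_b IH (LK LD1_c10 LD2_c10 LD3_c18) (LK LD1_c5 LD2_c9 LD3_c46) Lrfl Lrfl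
theorem f342319 : Led Lsl_ft (LP (LK LD1_c9 LD2_c52 LD3_c36)) = (LP (LK LD1_c10 LD2_c10 LD3_c18)) :=
  Lgr Lrot75 (Lpe (K44.f246834 IH) (Lpr_ff (K23.f342314 IH) (Lpe (f342318 IH) (Lpn (LP (LK LD1_c10 LD2_c10 LD3_c18))))))
theorem f246835 : Led Lsl_gt (LP (LK LD1_c9 LD2_c52 LD3_c36)) = (LP (LK LD1_c18 LD2_c4 LD3_c44)) :=
  Lre_g IH (LK LD1_c9 LD2_c52 LD3_c36) (LK LD1_c18 LD2_c4 LD3_c44) Lrfl Lrfl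
theorem f395444 : Led Lsl_gt (LP (LK LD1_c18 LD2_c4 LD3_c44)) = (LP (LK LD1_c18 LD2_c31 LD3_c52)) :=
  Lgr Lrot46 (Lpe (f246835 IH) (Lpr_ft (f342319 IH) (Lpr_at (f345145 IH) (Lpn (LP (LK LD1_c18 LD2_c31 LD3_c52))))))
theorem f252955 : Led Lsl_bt (LP (LK LD1_c27 LD2_c46 LD3_c12)) = (LP (LK LD1_c18 LD2_c4 LD3_c44)) :=
  Lre_b IH (LK LD1_c27 LD2_c46 LD3_c12) (LK LD1_c18 LD2_c4 LD3_c44) Lrfl Lrfl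
theorem f251504 : Led Lsl_bt (LP (LK LD1_c9 LD2_c52 LD3_c39)) = (LP (LK LD1_c5 LD2_c1 LD3_c7)) :=
  Lre_b IH (LK LD1_c9 LD2_c52 LD3_c39) (LK LD1_c5 LD2_c1 LD3_c7) Lrfl Lrfl
theorem f251464 : Led Lsl_ct (LP (LK LD1_c9 LD2_c52 LD3_c39)) = (LP (LK LD1_c10 LD2_c3 LD3_c8)) :=
  Lgr Lrot83 (Lpe (K23.f251461 IH) (Lpr_cf (K15.f251459 IH) (Lpe (K22.f251462 IH) (Lpe (K15.f184628 IH) (Lpe (K44.f251463 IH) (Lpn (LP (LK LD1_c10 LD2_c3 LD3_c8))))))))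
theorem f251507 : Led Lsl_gt (LP (LK LD1_c18 LD2_c21 LD3_c40)) = (LP (LK LD1_c10 LD2_c3 LD3_c8)) :=
  Lre_g IH (LK LD1_c18 LD2_c21 LD3_c40) (LK LD1_c10 LD2_c3 LD3_c8) Lrfl Lrfl
theorem f265906 : Led Lsl_cf (LP (LK LD1_c18 LD2_c21 LD3_c40)) = (LP (LK LD1_c27 LD2_c46 LD3_c12)) :=
  Lgr Lrot160 (Lpr_gt (f251507 IH) (Lpe (f251464 IH) (Lpr_bt (f251504 IH) (Lpr_gt (K15.f265897 IH) (Lpr_ct (K15.f192474 IH) (Lpr_gt (K15.f252950 IH) (Lpe (K15.f3690 IH) (Lpr_bt (K44.f246834 IH) (Lpr_gt (f246835 IH) (Lpe (f252955 IH) (Lpn (LP (LK LD1_c27 LD2_c46 LD3_c12)))))))))))))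
theorem f265920 : Led Lsl_ct (LP (LK LD1_c18 LD2_c21 LD3_c40)) = (LP (LK LD1_c27 LD2_c46 LD3_c12)) :=
  Lgr Lrot59 (Lpr_cf (f265906 IH) (Lpn (LP (LK LD1_c27 LD2_c46 LD3_c12))))
theorem f603400 : Led Lsl_dt (LP (LK LD1_c10 LD2_c30 LD3_c13)) = (LP (LK LD1_c18 LD2_c21 LD3_c40)) :=
  Lgr Lrot182 (Lpe (f586159 IH) (Lpe (f184523 IH) (Lpe (K14.f28288 IH) (Lpe (K12.f28287 IH) (Lpr_gf (K15.f230431 IH) (Lpe (K12.f230435 IH) (Lpe (K10.f187535 IH) (Lpe (K16.f187540 IH) (Lpe (K15.f265771 IH) (Lpe (K15.f256855 IH) (Lpr_cf (K15.f265714 IH) (Lpe (K25.f290978 IH) (Lpe (K25.f53077 IH) (Lpe (f256205 IH) (Lpe (f256208 IH) (Lpr_df (f586591 IH) (Lpe (f395444 IH) (Lpe (f252955 IH) (Lpe (f265920 IH) (Lpn (LP (LK LD1_c18 LD2_c21 LD3_c40))))))))))))))))))))))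
theorem f586301 : Led Lsl_ft (LP (LK LD1_c5 LD2_c20 LD3_c6)) = (LP (LK LD1_c10 LD2_c30 LD3_c13)) :=
  Lre_f IH (LK LD1_c5 LD2_c20 LD3_c6) (LK LD1_c10 LD2_c30 LD3_c13) Lrfl Lrfl
theorem f190566 : Led Lsl_dt (LP (LK LD1_c10 LD2_c30 LD3_c11)) = (LP (LK LD1_c5 LD2_c20 LD3_c6)) :=
  Lre_d IH (LK LD1_c10 LD2_c30 LD3_c11) (LK LD1_c5 LD2_c20 LD3_c6) Lrfl Lrfl
theorem f603408 : Led Lsl_ff (LP (LK LD1_c10 LD2_c30 LD3_c11)) = (LP (LK LD1_c18 LD2_c21 LD3_c40)) :=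
  Lgr Lrot19 (Lpr_dt (f190566 IH) (Lpr_ft (f586301 IH) (Lpr_dt (f603400 IH) (Lpn (LP (LK LD1_c18 LD2_c21 LD3_c40))))))
theorem f603413 : Led Lsl_ft (LP (LK LD1_c10 LD2_c30 LD3_c11)) = (LP (LK LD1_c18 LD2_c21 LD3_c40)) :=
  Lgr Lrot48 (Lpr_ff (f603408 IH) (Lpn (LP (LK LD1_c18 LD2_c21 LD3_c40))))
theorem f585261 : Led Lsl_ct (LP (LK LD1_c19 LD2_c2 LD3_c0)) = (LP (LK LD1_c10 LD2_c30 LD3_c11)) :=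
  Lre_c IH (LK LD1_c19 LD2_c2 LD3_c0) (LK LD1_c10 LD2_c30 LD3_c11) Lrfl Lrfl
theorem f603449 : Led Lsl_ff (LP (LK LD1_c19 LD2_c2 LD3_c0)) = (LP (LK LD1_c27 LD2_c46 LD3_c12)) :=
  Lgr Lrot23 (Lpr_ct (f585261 IH) (Lpr_ft (f603413 IH) (Lpr_ct (f265920 IH) (Lpn (LP (LK LD1_c27 LD2_c46 LD3_c12))))))
theorem f44894 : Led Lsl_dt (LP (LK LD1_c5 LD2_c20 LD3_c6)) = (LP (LK LD1_c10 LD2_c30 LD3_c11)) :=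
  Lre_d IH (LK LD1_c5 LD2_c20 LD3_c6) (LK LD1_c10 LD2_c30 LD3_c11) Lrfl Lrfl
theorem f585254 : Led Lsl_bt (LP (LK LD1_c10 LD2_c30 LD3_c11)) = (LP (LK LD1_c18 LD2_c22 LD3_c18)) :=
  Lgr Lrot95 (Lpe (f44894 IH) (Lpe (K44.f249531 IH) (Lpr_df (K44.f585251 IH) (Lpn (LP (LK LD1_c18 LD2_c22 LD3_c18))))))
theorem f585262 : Led Lsl_bf (LP (LK LD1_c19 LD2_c2 LD3_c0)) = (LP (LK LD1_c18 LD2_c31 LD3_c50)) :=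
  Lgr Lrot90 (Lpr_ct (f585261 IH) (Lpr_bt (f585254 IH) (Lpr_ct (K44.f407811 IH) (Lpe (K44.f395455 IH) (Lpr_ct (K44.f395449 IH) (Lpn (LP (LK LD1_c18 LD2_c31 LD3_c50))))))))
theorem f585267 : Led Lsl_bt (LP (LK LD1_c19 LD2_c2 LD3_c0)) = (LP (LK LD1_c18 LD2_c31 LD3_c50)) :=
  Lgr Lrot127 (Lpr_bf (f585262 IH) (Lpn (LP (LK LD1_c18 LD2_c31 LD3_c50))))
theorem f265919 : Led Lsl_bt (LP (LK LD1_c18 LD2_c4 LD3_c44)) = (LP (LK LD1_c27 LD2_c46 LD3_c12)) :=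
  Lre_b IH (LK LD1_c18 LD2_c4 LD3_c44) (LK LD1_c27 LD2_c46 LD3_c12) Lrfl Lrfl
theorem f603451 : Led Lsl_ft (LP (LK LD1_c18 LD2_c31 LD3_c50)) = (LP (LK LD1_c18 LD2_c4 LD3_c44)) :=
  Lgr Lrot75 (Lpe (f585267 IH) (Lpr_ff (f603449 IH) (Lpe (f265919 IH) (Lpn (LP (LK LD1_c18 LD2_c4 LD3_c44))))))
theorem f923353 : v41227 = (LP (LK LD1_c18 LD2_c4 LD3_c44)) :=
  (Llr Lrot78 (Lpe (f922767 IH) (Lpr_ft (f922768 IH) (Lpqs (f923348 IH) (Lpr_dt (K45.f412946 IH) (Lpr_ft (f603451 IH) (Lpn (LP (LK LD1_c18 LD2_c4 LD3_c44))))))))).symm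
def v41226 : LQ := Led Lsl_at (LP (LK LD1_c9 LD2_c54 LD3_c27))
theorem f922758 : Led Lsl_at (LP (LK LD1_c9 LD2_c54 LD3_c27)) = v41226 :=
  Lrfl
theorem f922759 : Led Lsl_af (LP (LK LD1_c9 LD2_c54 LD3_c27)) = v41226 :=
  Lgr Lrot0 (Lpr_at (f922758 IH) (Lpn v41226))
theorem f603456 : Led Lsl_af (LP (LK LD1_c18 LD2_c31 LD3_c51)) = (LP (LK LD1_c18 LD2_c4 LD3_c44)) :=
  Lgr Lrot31 (Lpr_gf (K45.f345154 IH) (Lpr_gf (K44.f395447 IH) (Lpr_ft (f603451 IH) (Lpn (LP (LK LD1_c18 LD2_c4 LD3_c44))))))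
theorem f603458 : Led Lsl_dt (LP (LK LD1_c5 LD2_c26 LD3_c61)) = (LP (LK LD1_c10 LD2_c18 LD3_c30)) :=
  Lgr Lrot140 (Lpe (K39.f187585 IH) (Lpe (K45.f216262 IH) (Lpe (K45.f586535 IH) (Lpr_df (K45.f412942 IH) (Lpr_ft (f603451 IH) (Lpe (f603456 IH) (Lpe (K45.f412925 IH) (Lpr_df (K45.f412833 IH) (Lpr_cf (K45.f186586 IH) (Lpn (LP (LK LD1_c10 LD2_c18 LD3_c30))))))))))))
theorem f396428 : Led Lsl_dt (LP (LK LD1_c10 LD2_c45 LD3_c7)) = (LP (LK LD1_c19 LD2_c26 LD3_c50)) :=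
  Lre_d IH (LK LD1_c10 LD2_c45 LD3_c7) (LK LD1_c19 LD2_c26 LD3_c50) Lrfl Lrfl
theorem f585005 : Led Lsl_dt (LP (LK LD1_c5 LD2_c14 LD3_c27)) = (LP (LK LD1_c4 LD2_c6 LD3_c52)) :=
  Lgr Lrot60 (Lpe (K10.f163979 IH) (Lpr_df (K45.f584999 IH) (Lpr_ff (K67.f334969 IH) (Lpn (LP (LK LD1_c4 LD2_c6 LD3_c52))))))
theorem f603462 : Led Lsl_gt (LP (LK LD1_c19 LD2_c26 LD3_c50)) = (LP (LK LD1_c15 LD2_c29 LD3_c51)) :=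
  Lgr Lrot49 (Lpe (f396428 IH) (Lpr_gf (K53.f396426 IH) (Lpe (K53.f396416 IH) (Lpe (K45.f396419 IH) (Lpr_dt (f603458 IH) (Lpr_gt (K44.f163941 IH) (Lpr_dt (f585005 IH) (Lpe (K45.f226076 IH) (Lpe (K45.f226077 IH) (Lpn (LP (LK LD1_c15 LD2_c29 LD3_c51))))))))))))
theorem f396429 : Led Lsl_dt (LP (LK LD1_c19 LD2_c26 LD3_c50)) = (LP (LK LD1_c10 LD2_c45 LD3_c7)) :=
  Lre_d IH (LK LD1_c19 LD2_c26 LD3_c50) (LK LD1_c10 LD2_c45 LD3_c7) Lrfl Lrfl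
theorem f187579 : Led Lsl_ct (LP (LK LD1_c5 LD2_c26 LD3_c60)) = (LP (LK LD1_c10 LD2_c45 LD3_c1)) :=
  Lre_c IH (LK LD1_c5 LD2_c26 LD3_c60) (LK LD1_c10 LD2_c45 LD3_c1) Lrfl Lrfl
theorem f586543 : Led Lsl_dt (LP (LK LD1_c10 LD2_c45 LD3_c1)) = (LP (LK LD1_c19 LD2_c26 LD3_c43)) :=
  Lre_d IH (LK LD1_c10 LD2_c45 LD3_c1) (LK LD1_c19 LD2_c26 LD3_c43) Lrfl Lrfl
theorem f585061 : Led Lsl_cf (LP (LK LD1_c9 LD2_c54 LD3_c26)) = (LP (LK LD1_c15 LD2_c29 LD3_c51)) :=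
  Lgr Lrot11 (Lpr_ct (K45.f585055 IH) (Lpn (LP (LK LD1_c15 LD2_c29 LD3_c51))))
theorem f21633 : Led Lsl_gt (LP (LK LD1_c9 LD2_c54 LD3_c26)) = (LP (LK LD1_c18 LD2_c7 LD3_c51)) :=
  Lre_g IH (LK LD1_c9 LD2_c54 LD3_c26) (LK LD1_c18 LD2_c7 LD3_c51) Lrfl Lrfl
theorem f603467 : Led Lsl_cf (LP (LK LD1_c19 LD2_c26 LD3_c43)) = (LP (LK LD1_c18 LD2_c7 LD3_c51)) :=
  Lgr Lrot99 (Lpe (f586543 IH) (Lpe (f187579 IH) (Lpe (K45.f187526 IH) (Lpe (K39.f187576 IH) (Lpe (K53.f187615 IH) (Lpe (f396429 IH) (Lpr_gt (f603462 IH) (Lpe (f585061 IH) (Lpr_gt (f21633 IH) (Lpn (LP (LK LD1_c18 LD2_c7 LD3_c51))))))))))))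
theorem f586528 : Led Lsl_dt (LP (LK LD1_c19 LD2_c26 LD3_c43)) = (LP (LK LD1_c10 LD2_c45 LD3_c1)) :=
  Lre_d IH (LK LD1_c19 LD2_c26 LD3_c43) (LK LD1_c10 LD2_c45 LD3_c1) Lrfl Lrfl
theorem f586547 : Led Lsl_dt (LP (LK LD1_c18 LD2_c43 LD3_c27)) = (LP (LK LD1_c18 LD2_c12 LD3_c42)) :=
  Lgr Lrot42 (Lpr_df (K45.f586545 IH) (Lpn (LP (LK LD1_c18 LD2_c12 LD3_c42))))
theorem f603471 : Led Lsl_dt (LP (LK LD1_c18 LD2_c31 LD3_c51)) = (LP (LK LD1_c18 LD2_c7 LD3_c51)) :=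
  Lgr Lrot173 (Lpe (K45.f412925 IH) (Lpr_df (K45.f412833 IH) (Lpr_cf (K45.f186586 IH) (Lpe (f603458 IH) (Lpe (K39.f187585 IH) (Lpe (K45.f216262 IH) (Lpe (K45.f586535 IH) (Lpr_df (K45.f412942 IH) (Lpe (K44.f395449 IH) (Lpe (f586547 IH) (Lpe (K45.f164013 IH) (Lpr_df (K45.f586526 IH) (Lpe (K67.f187629 IH) (Lpe (f586528 IH) (Lpr_cf (f603467 IH) (Lpn (LP (LK LD1_c18 LD2_c7 LD3_c51))))))))))))))))))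
theorem f923360 : v41226 = (LP (LK LD1_c18 LD2_c7 LD3_c51)) :=
  (Llr Lrot117 (Lpe (f922759 IH) (Lpr_dt (f922766 IH) (Lpqs (f923353 IH) (Lpe (f603456 IH) (Lpr_dt (f603471 IH) (Lpn (LP (LK LD1_c18 LD2_c7 LD3_c51))))))))).symm
theorem f3437 : Led Lsl_gt (LP (LK LD1_c9 LD2_c54 LD3_c28)) = (LP (LK LD1_c5 LD2_c1 LD3_c56)) :=
  Lre_g IH (LK LD1_c9 LD2_c54 LD3_c28) (LK LD1_c5 LD2_c1 LD3_c56) Lrfl Lrfl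
theorem f922761 : Led Lsl_ft (LP (LK LD1_c9 LD2_c54 LD3_c28)) = v41226 :=
  Lgr Lrot2 (Lpr_gt (f3437 IH) (Lpr_gt (f3587 IH) (Lpr_af (f922759 IH) (Lpn v41226))))
def v41229 : LQ := Led Lsl_dt (LP (LK LD1_c9 LD2_c54 LD3_c28))
theorem f922772 : Led Lsl_dt (LP (LK LD1_c9 LD2_c54 LD3_c28)) = v41229 :=
  Lrfl
theorem f922773 : Led Lsl_df (LP (LK LD1_c9 LD2_c54 LD3_c28)) = v41229 :=
  Lgr Lrot38 (Lpr_dt (f922772 IH) (Lpn v41229))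
theorem f603481 : Led Lsl_df (LP (LK LD1_c18 LD2_c31 LD3_c51)) = (LP (LK LD1_c18 LD2_c7 LD3_c51)) :=
  Lgr Lrot38 (Lpr_dt (f603471 IH) (Lpn (LP (LK LD1_c18 LD2_c7 LD3_c51))))
theorem f603499 : Led Lsl_at (LP (LK LD1_c18 LD2_c31 LD3_c51)) = (LP (LK LD1_c18 LD2_c4 LD3_c44)) :=
  Lgr Lrot100 (Lpr_af (f603456 IH) (Lpn (LP (LK LD1_c18 LD2_c4 LD3_c44))))
theorem f251530 : Led Lsl_gt (LP (LK LD1_c18 LD2_c4 LD3_c45)) = (LP (LK LD1_c9 LD2_c52 LD3_c36)) :=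
  Lre_g IH (LK LD1_c18 LD2_c4 LD3_c45) (LK LD1_c9 LD2_c52 LD3_c36) Lrfl Lrfl
theorem f603505 : Led Lsl_ff (LP (LK LD1_c18 LD2_c31 LD3_c51)) = (LP (LK LD1_c18 LD2_c4 LD3_c45)) :=
  Lgr Lrot52 (Lpr_at (f603499 IH) (Lpe (f246835 IH) (Lpe (f251530 IH) (Lpn (LP (LK LD1_c18 LD2_c4 LD3_c45))))))
theorem f603509 : Led Lsl_ft (LP (LK LD1_c18 LD2_c31 LD3_c51)) = (LP (LK LD1_c18 LD2_c4 LD3_c45)) :=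
  Lgr Lrot48 (Lpr_ff (f603505 IH) (Lpn (LP (LK LD1_c18 LD2_c4 LD3_c45))))
theorem f923369 : v41229 = (LP (LK LD1_c18 LD2_c4 LD3_c45)) :=
  (Llr Lrot78 (Lpe (f922773 IH) (Lpr_ft (f922761 IH) (Lpqs (f923360 IH) (Lpe (f603481 IH) (Lpr_ft (f603509 IH) (Lpn (LP (LK LD1_c18 LD2_c4 LD3_c45))))))))).symm
theorem f3620 : Led Lsl_gt (LP (LK LD1_c9 LD2_c54 LD3_c29)) = (LP (LK LD1_c18 LD2_c7 LD3_c60)) :=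
  Lre_g IH (LK LD1_c9 LD2_c54 LD3_c29) (LK LD1_c18 LD2_c7 LD3_c60) Lrfl Lrfl
theorem f585032 : Led Lsl_ct (LP (LK LD1_c18 LD2_c7 LD3_c60)) = (LP (LK LD1_c27 LD2_c48 LD3_c22)) :=
  Lre_c IH (LK LD1_c18 LD2_c7 LD3_c60) (LK LD1_c27 LD2_c48 LD3_c22) Lrfl Lrfl
theorem f169982 : Led Lsl_ct (LP (LK LD1_c9 LD2_c55 LD3_c40)) = (LP (LK LD1_c18 LD2_c10 LD3_c17)) :=
  Lre_c IH (LK LD1_c9 LD2_c55 LD3_c40) (LK LD1_c18 LD2_c10 LD3_c17) Lrfl Lrfl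
theorem f923374 : Led Lsl_df (LP (LK LD1_c27 LD2_c48 LD3_c22)) = (LP (LK LD1_c18 LD2_c10 LD3_c17)) :=
  Lgr Lrot162 (Lpe (f585032 IH) (Lpe (f3620 IH) (Lpe (K45.f164046 IH) (Lpe (f3437 IH) (Lpr_dt (f922772 IH) (Lpqs (f923369 IH) (Lpr_gt (f251530 IH) (Lpr_ct (K44.f251457 IH) (Lpr_gt (f169978 IH) (Lpr_ct (f169982 IH) (Lpn (LP (LK LD1_c18 LD2_c10 LD3_c17)))))))))))))
theorem f169986 : Led Lsl_ct (LP (LK LD1_c18 LD2_c10 LD3_c17)) = (LP (LK LD1_c9 LD2_c55 LD3_c40)) :=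
  Lre_c IH (LK LD1_c18 LD2_c10 LD3_c17) (LK LD1_c9 LD2_c55 LD3_c40) Lrfl Lrfl
theorem f403050 : Led Lsl_ct (LP (LK LD1_c10 LD2_c10 LD3_c22)) = (LP (LK LD1_c18 LD2_c31 LD3_c61)) :=
  Lre_c IH (LK LD1_c10 LD2_c10 LD3_c22) (LK LD1_c18 LD2_c31 LD3_c61) Lrfl Lrfl
theorem f923035 : Led Lsl_ff (LP (LK LD1_c18 LD2_c10 LD3_c17)) = (LP (LK LD1_c18 LD2_c31 LD3_c61)) :=
  Lgr Lrot23 (Lpr_ct (f169986 IH) (Lpr_ft (f923011 IH) (Lpqs (f923030 IH) (Lpr_ct (f403050 IH) (Lpn (LP (LK LD1_c18 LD2_c31 LD3_c61)))))))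
theorem f412940 : Led Lsl_dt (LP (LK LD1_c28 LD2_c6 LD3_c31)) = (LP (LK LD1_c18 LD2_c31 LD3_c61)) :=
  Lre_d IH (LK LD1_c28 LD2_c6 LD3_c31) (LK LD1_c18 LD2_c31 LD3_c61) Lrfl Lrfl
theorem f923380 : Led Lsl_ft (LP (LK LD1_c27 LD2_c48 LD3_c22)) = (LP (LK LD1_c28 LD2_c6 LD3_c31)) :=
  Lgr Lrot54 (Lpr_df (f923374 IH) (Lpr_ff (f923035 IH) (Lpe (f412940 IH) (Lpn (LP (LK LD1_c28 LD2_c6 LD3_c31))))))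
theorem f923384 : Led Lsl_ff (LP (LK LD1_c27 LD2_c48 LD3_c22)) = (LP (LK LD1_c28 LD2_c6 LD3_c31)) :=
  Lgr Lrot3 (Lpr_ft (f923380 IH) (Lpn (LP (LK LD1_c28 LD2_c6 LD3_c31))))
theorem f585043 : Led Lsl_ct (LP (LK LD1_c27 LD2_c48 LD3_c22)) = (LP (LK LD1_c18 LD2_c7 LD3_c60)) :=
  Lre_c IH (LK LD1_c27 LD2_c48 LD3_c22) (LK LD1_c18 LD2_c7 LD3_c60) Lrfl Lrfl
theorem f3372 : Led Lsl_gt (LP (LK LD1_c18 LD2_c7 LD3_c51)) = (LP (LK LD1_c9 LD2_c54 LD3_c31)) :=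
  Lre_g IH (LK LD1_c18 LD2_c7 LD3_c51) (LK LD1_c9 LD2_c54 LD3_c31) Lrfl Lrfl
theorem f3676 : Led Lsl_ft (LP (LK LD1_c18 LD2_c8 LD3_c2)) = (LP (LK LD1_c9 LD2_c54 LD3_c29)) :=
  Lre_f IH (LK LD1_c18 LD2_c8 LD3_c2) (LK LD1_c9 LD2_c54 LD3_c29) Lrfl Lrfl
theorem f585069 : Led Lsl_af (LP (LK LD1_c15 LD2_c29 LD3_c51)) = (LP (LK LD1_c9 LD2_c54 LD3_c29)) :=
  Lgr Lrot109 (Lpe (K45.f585055 IH) (Lpe (K0.f21631 IH) (Lpe (K0.f21596 IH) (Lpe (K8.f21929 IH) (Lpe (K45.f163984 IH) (Lpr_df (K45.f585065 IH) (Lpe (K45.f338921 IH) (Lpe (K45.f585067 IH) (Lpr_ft (f3676 IH) (Lpn (LP (LK LD1_c9 LD2_c54 LD3_c29))))))))))))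
theorem f603465 : Led Lsl_gf (LP (LK LD1_c19 LD2_c26 LD3_c50)) = (LP (LK LD1_c18 LD2_c8 LD3_c2)) :=
  Lgr Lrot47 (Lpr_gt (f603462 IH) (Lpr_af (f585069 IH) (Lpe (f3676 IH) (Lpn (LP (LK LD1_c18 LD2_c8 LD3_c2))))))
theorem f603483 : Led Lsl_cf (LP (LK LD1_c28 LD2_c6 LD3_c31)) = (LP (LK LD1_c19 LD2_c26 LD3_c50)) :=
  Lgr Lrot175 (Lpr_dt (f412940 IH) (Lpe (f403050 IH) (Lpe (K45.f22031 IH) (Lpe (K45.f165518 IH) (Lpe (K45.f165520 IH) (Lpr_dt (f603471 IH) (Lpr_gt (f3372 IH) (Lpr_ct (K45.f3401 IH) (Lpe (f603465 IH) (Lpn (LP (LK LD1_c19 LD2_c26 LD3_c50))))))))))))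
theorem f923386 : Led Lsl_ft (LP (LK LD1_c18 LD2_c7 LD3_c60)) = (LP (LK LD1_c19 LD2_c26 LD3_c50)) :=
  Lgr Lrot4 (Lpe (f585043 IH) (Lpr_ff (f923384 IH) (Lpr_cf (f603483 IH) (Lpn (LP (LK LD1_c19 LD2_c26 LD3_c50))))))
theorem f585041 : Led Lsl_gt (LP (LK LD1_c18 LD2_c7 LD3_c60)) = (LP (LK LD1_c11 LD2_c56 LD3_c54)) :=
  Lgr Lrot46 (Lpe (f3620 IH) (Lpr_ft (K45.f3679 IH) (Lpr_at (K45.f585030 IH) (Lpn (LP (LK LD1_c11 LD2_c56 LD3_c54))))))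
theorem f338883 : Led Lsl_ff (LP (LK LD1_c15 LD2_c29 LD3_c51)) = (LP (LK LD1_c11 LD2_c56 LD3_c54)) :=
  Lgr Lrot25 (Lpr_bt (K45.f233753 IH) (Lpr_ft (K25.f338881 IH) (Lpr_bt (f265675 IH) (Lpn (LP (LK LD1_c11 LD2_c56 LD3_c54))))))
theorem f585009 : Led Lsl_af (LP (LK LD1_c9 LD2_c54 LD3_c29)) = (LP (LK LD1_c15 LD2_c29 LD3_c51)) :=
  Lgr Lrot109 (Lpe (K45.f164046 IH) (Lpe (K45.f21873 IH) (Lpe (K45.f21480 IH) (Lpe (K45.f21942 IH) (Lpe (K45.f164008 IH) (Lpr_df (K45.f584999 IH) (Lpe (K45.f185055 IH) (Lpe (K45.f185056 IH) (Lpe (f338883 IH) (Lpn (LP (LK LD1_c15 LD2_c29 LD3_c51))))))))))))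
theorem f585108 : Led Lsl_gf (LP (LK LD1_c18 LD2_c7 LD3_c61)) = (LP (LK LD1_c11 LD2_c56 LD3_c54)) :=
  Lgr Lrot47 (Lpr_gt (f247881 IH) (Lpr_af (f585009 IH) (Lpr_ff (f338883 IH) (Lpn (LP (LK LD1_c11 LD2_c56 LD3_c54))))))
theorem f923390 : Led Lsl_af (LP (LK LD1_c18 LD2_c7 LD3_c61)) = (LP (LK LD1_c19 LD2_c26 LD3_c50)) :=
  Lgr Lrot31 (Lpr_gf (f585108 IH) (Lpe (f585041 IH) (Lpr_ft (f923386 IH) (Lpn (LP (LK LD1_c19 LD2_c26 LD3_c50))))))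
theorem f923283 : Led Lsl_df (LP (LK LD1_c11 LD2_c56 LD3_c13)) = (LP (LK LD1_c18 LD2_c7 LD3_c61)) :=
  Lgr Lrot38 (Lpr_dt (f923276 IH) (Lpn (LP (LK LD1_c18 LD2_c7 LD3_c61))))
theorem f923394 : Led Lsl_at (LP (LK LD1_c11 LD2_c56 LD3_c13)) = (LP (LK LD1_c10 LD2_c45 LD3_c7)) :=
  Lgr Lrot51 (Lpr_df (f923283 IH) (Lpr_af (f923390 IH) (Lpe (f396428 IH) (Lpn (LP (LK LD1_c10 LD2_c45 LD3_c7))))))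
theorem f923399 : Led Lsl_ff (LP (LK LD1_c11 LD2_c56 LD3_c13)) = (LP (LK LD1_c10 LD2_c45 LD3_c6)) :=
  Lgr Lrot52 (Lpr_at (f923394 IH) (Lpr_gf (K53.f396426 IH) (Lpr_gf (K45.f402939 IH) (Lpn (LP (LK LD1_c10 LD2_c45 LD3_c6))))))
theorem f923405 : Led Lsl_ft (LP (LK LD1_c11 LD2_c56 LD3_c13)) = (LP (LK LD1_c10 LD2_c45 LD3_c6)) :=
  Lgr Lrot48 (Lpr_ff (f923399 IH) (Lpn (LP (LK LD1_c10 LD2_c45 LD3_c6))))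
theorem f923411 : Led Lsl_af (LP (LK LD1_c11 LD2_c56 LD3_c14)) = (LP (LK LD1_c10 LD2_c45 LD3_c6)) :=
  Lgr Lrot31 (Lpe (K53.f396424 IH) (Lpe (f402942 IH) (Lpr_ft (f923405 IH) (Lpn (LP (LK LD1_c10 LD2_c45 LD3_c6))))))
theorem f923396 : Led Lsl_af (LP (LK LD1_c11 LD2_c56 LD3_c13)) = (LP (LK LD1_c10 LD2_c45 LD3_c7)) :=
  Lgr Lrot0 (Lpr_at (f923394 IH) (Lpn (LP (LK LD1_c10 LD2_c45 LD3_c7))))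
theorem f923415 : Led Lsl_ft (LP (LK LD1_c11 LD2_c56 LD3_c14)) = (LP (LK LD1_c10 LD2_c45 LD3_c7)) :=
  Lgr Lrot101 (Lpr_af (f923411 IH) (Lpe (f923405 IH) (Lpr_af (f923396 IH) (Lpn (LP (LK LD1_c10 LD2_c45 LD3_c7))))))
theorem f923420 : Led Lsl_ff (LP (LK LD1_c11 LD2_c56 LD3_c14)) = (LP (LK LD1_c10 LD2_c45 LD3_c7)) :=
  Lgr Lrot3 (Lpr_ft (f923415 IH) (Lpn (LP (LK LD1_c10 LD2_c45 LD3_c7))))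
theorem f198832 : Led Lsl_cf (LP (LK LD1_c11 LD2_c56 LD3_c3)) = (LP (LK LD1_c11 LD2_c56 LD3_c14)) :=
  Lgr Lrot11 (Lpr_ct (K53.f198822 IH) (Lpn (LP (LK LD1_c11 LD2_c56 LD3_c14))))
theorem f923424 : Led Lsl_ft (LP (LK LD1_c11 LD2_c56 LD3_c3)) = K53.v14845 :=
  Lgr Lrot4 (Lpr_cf (f198832 IH) (Lpr_ff (f923420 IH) (Lpr_cf (K53.f726905 IH) (Lpn K53.v14845))))
theorem f198827 : Led Lsl_bt (LP (LK LD1_c6 LD2_c6 LD3_c24)) = (LP (LK LD1_c11 LD2_c56 LD3_c3)) :=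
  Lre_b IH (LK LD1_c6 LD2_c6 LD3_c24) (LK LD1_c11 LD2_c56 LD3_c3) Lrfl Lrfl
theorem f923459 : v16733 = (LP (LK LD1_c5 LD2_c26 LD3_c30)) :=
  (Llr Lrot25 (Lpe (f751316 IH) (Lpr_bt (f198827 IH) (Lpr_ft (f923424 IH) (Lpe (K53.f726904 IH) (Lpn (LP (LK LD1_c5 LD2_c26 LD3_c30)))))))).symm
theorem f923461 : Led Lsl_at (LP (LK LD1_c6 LD2_c6 LD3_c25)) = (LP (LK LD1_c5 LD2_c26 LD3_c30)) :=
  Leop (Lpq (f923459 IH) (Lpe (f751317 IH) (Lpn (LP (LK LD1_c6 LD2_c6 LD3_c25)))))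
theorem seed_2466 : LEOK LG_a (LK LD1_c6 LD2_c6 LD3_c25) :=
  Leoe_a (LK LD1_c6 LD2_c6 LD3_c25) (f923461 IH)
def v16734 : LQ := Led Lsl_dt (LP (LK LD1_c6 LD2_c6 LD3_c25))
theorem f751318 : Led Lsl_dt (LP (LK LD1_c6 LD2_c6 LD3_c25)) = v16734 :=
  Lrfl
theorem f751315 : Led Lsl_af (LP (LK LD1_c6 LD2_c6 LD3_c25)) = v16733 :=
  Lgr Lrot45 (Lpr_ft (f751305 IH) (Lpe (f751304 IH) (Lpr_ft (f751314 IH) (Lpn v16733))))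
theorem f726912 : Led Lsl_dt (LP (LK LD1_c10 LD2_c43 LD3_c25)) = (LP (LK LD1_c5 LD2_c26 LD3_c30)) :=
  Lgr Lrot42 (Lpr_df (K53.f726910 IH) (Lpn (LP (LK LD1_c5 LD2_c26 LD3_c30))))
theorem f923512 : Led Lsl_af (LP (LK LD1_c10 LD2_c43 LD3_c25)) = v16734 :=
  Lgr Lrot117 (Lpr_dt (f726912 IH) (Lpq (f923459 IH) (Lpe (f751315 IH) (Lpr_dt (f751318 IH) (Lpn v16734)))))
theorem f183052 : Led Lsl_gt (LP (LK LD1_c10 LD2_c43 LD3_c26)) = (LP (LK LD1_c5 LD2_c26 LD3_c3)) :=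
  Lre_g IH (LK LD1_c10 LD2_c43 LD3_c26) (LK LD1_c5 LD2_c26 LD3_c3) Lrfl Lrfl
def v14844 : LQ := Led Lsl_at (LP (LK LD1_c5 LD2_c26 LD3_c30))
theorem f726897 : Led Lsl_at (LP (LK LD1_c5 LD2_c26 LD3_c30)) = v14844 :=
  Lrfl
theorem f726898 : Led Lsl_af (LP (LK LD1_c5 LD2_c26 LD3_c30)) = v14844 :=
  Lgr Lrot0 (Lpr_at (f726897 IH) (Lpn v14844))
theorem f8520 : Led Lsl_gt (LP (LK LD1_c5 LD2_c26 LD3_c31)) = (LP (LK LD1_c2 LD2_c39 LD3_c40)) :=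
  Lre_g IH (LK LD1_c5 LD2_c26 LD3_c31) (LK LD1_c2 LD2_c39 LD3_c40) Lrfl Lrfl
theorem f726900 : Led Lsl_ft (LP (LK LD1_c5 LD2_c26 LD3_c31)) = v14844 :=
  Lgr Lrot2 (Lpr_gt (f8520 IH) (Lpr_gt (K53.f195804 IH) (Lpr_af (f726898 IH) (Lpn v14844))))
theorem f726902 : Led Lsl_ff (LP (LK LD1_c5 LD2_c26 LD3_c31)) = v14844 :=
  Lgr Lrot3 (Lpr_ft (f726900 IH) (Lpn v14844))
theorem f923460 : (LP (LK LD1_c6 LD2_c6 LD3_c25)) = v14844 :=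
  Lefun (Lecon (Lfl_af (f751315 IH)) (f923459 IH)) (f726897 IH)
theorem f751319 : Led Lsl_df (LP (LK LD1_c6 LD2_c6 LD3_c25)) = v16734 :=
  Lgr Lrot38 (Lpr_dt (f751318 IH) (Lpn v16734))
def v14847 : LQ := Led Lsl_dt (LP (LK LD1_c5 LD2_c26 LD3_c31))
theorem f726921 : Led Lsl_dt (LP (LK LD1_c5 LD2_c26 LD3_c31)) = v14847 :=
  Lrfl
theorem f923475 : Led Lsl_ff v16734 = v14847 :=
  Lgr Lrot19 (Lpe (f751319 IH) (Lpqs (f923460 IH) (Lpe (f726902 IH) (Lpr_dt (f726921 IH) (Lpn v14847)))))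
theorem f923515 : (LP (LK LD1_c10 LD2_c43 LD3_c26)) = v14847 :=
  (Llr Lrot47 (Lpr_gt (f183052 IH) (Lpr_gt (K53.f183044 IH) (Lpr_af (f923512 IH) (Lpr_ff (f923475 IH) (Lpn v14847)))))).symm
theorem f726922 : Led Lsl_df (LP (LK LD1_c5 LD2_c26 LD3_c31)) = v14847 :=
  Lgr Lrot38 (Lpr_dt (f726921 IH) (Lpn v14847))
theorem f923516 : Led Lsl_dt (LP (LK LD1_c10 LD2_c43 LD3_c26)) = (LP (LK LD1_c5 LD2_c26 LD3_c31)) :=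
  Leop (Lpr_df (f726922 IH) (Lpq (f923515 IH) (Lpn (LP (LK LD1_c10 LD2_c43 LD3_c26)))))
theorem seed_2467 : LEOK LG_d (LK LD1_c10 LD2_c43 LD3_c26) :=
  Leoe_d (LK LD1_c10 LD2_c43 LD3_c26) (f923516 IH)
def v14846 : LQ := Led Lsl_ft (LP (LK LD1_c5 LD2_c26 LD3_c30))
theorem f726917 : Led Lsl_ft (LP (LK LD1_c5 LD2_c26 LD3_c30)) = v14846 :=
  Lrfl
theorem f726919 : Led Lsl_ff (LP (LK LD1_c5 LD2_c26 LD3_c30)) = v14846 :=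
  Lgr Lrot3 (Lpr_ft (f726917 IH) (Lpn v14846))
theorem f726920 : Led Lsl_at (LP (LK LD1_c5 LD2_c26 LD3_c31)) = v14846 :=
  Lgr Lrot66 (Lpr_ff (f726902 IH) (Lpe (f726897 IH) (Lpr_ff (f726919 IH) (Lpn v14846))))
theorem f923463 : (LP (LK LD1_c6 LD2_c6 LD3_c24)) = v14846 :=
  Lefun (Lecon (Lfl_ff (f751316 IH)) (f923459 IH)) (f726917 IH)
def v16731 : LQ := Led Lsl_dt (LP (LK LD1_c6 LD2_c6 LD3_c24))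
theorem f751309 : Led Lsl_dt (LP (LK LD1_c6 LD2_c6 LD3_c24)) = v16731 :=
  Lrfl
theorem f923509 : Led Lsl_af v14847 = v16731 :=
  Lgr Lrot117 (Lpe (f726922 IH) (Lpr_at (f726920 IH) (Lpq (f923463 IH) (Lpr_dt (f751309 IH) (Lpn v16731)))))
theorem f923514 : Led Lsl_ft (LP (LK LD1_c10 LD2_c43 LD3_c25)) = v16731 :=
  Lgr Lrot101 (Lpr_af (f923512 IH) (Lpr_ff (f923475 IH) (Lpr_af (f923509 IH) (Lpn v16731))))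
theorem f164030 : Led Lsl_ct (LP (LK LD1_c5 LD2_c4 LD3_c34)) = (LP (LK LD1_c10 LD2_c0 LD3_c13)) :=
  Lre_c IH (LK LD1_c5 LD2_c4 LD3_c34) (LK LD1_c10 LD2_c0 LD3_c13) Lrfl Lrfl
theorem f923278 : Led Lsl_df (LP (LK LD1_c11 LD2_c56 LD3_c3)) = (LP (LK LD1_c10 LD2_c0 LD3_c13)) :=
  Lgr Lrot162 (Lpr_cf (f198832 IH) (Lpe (K53.f396424 IH) (Lpe (K53.f396408 IH) (Lpr_gf (K56.f396405 IH) (Lpqs (f923268 IH) (Lpe (f727128 IH) (Lpr_gt (f163999 IH) (Lpr_ct (K10.f164002 IH) (Lpe (f164024 IH) (Lpr_ct (f164030 IH) (Lpn (LP (LK LD1_c10 LD2_c0 LD3_c13)))))))))))))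
def v5125 : LQ := Led Lsl_dt (LP (LK LD1_c2 LD2_c59 LD3_c2))
def v24954 : LQ := Led Lsl_gt v5125
theorem f826341 : Led Lsl_gt v5125 = v24954 :=
  Lrfl
theorem f646078 : Led Lsl_dt (LP (LK LD1_c2 LD2_c59 LD3_c2)) = v5125 :=
  Lrfl
theorem f409718 : Led Lsl_dt (LP (LK LD1_c5 LD2_c26 LD3_c3)) = (LP (LK LD1_c2 LD2_c39 LD3_c24)) :=
  Lre_d IH (LK LD1_c5 LD2_c26 LD3_c3) (LK LD1_c2 LD2_c39 LD3_c24) Lrfl Lrfl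
theorem f646081 : Led Lsl_ff (LP (LK LD1_c5 LD2_c26 LD3_c3)) = v5125 :=
  Lgr Lrot19 (Lpr_dt (f409718 IH) (Lpr_ft (K56.f409758 IH) (Lpr_dt (f646078 IH) (Lpn v5125))))
theorem f183028 : Led Lsl_bt (LP (LK LD1_c5 LD2_c26 LD3_c3)) = (LP (LK LD1_c2 LD2_c39 LD3_c25)) :=
  Lre_b IH (LK LD1_c5 LD2_c26 LD3_c3) (LK LD1_c2 LD2_c39 LD3_c25) Lrfl Lrfl
theorem f646083 : Led Lsl_bt (LP (LK LD1_c2 LD2_c59 LD3_c3)) = v5125 :=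
  Lgr Lrot35 (Lpe (K15.f268202 IH) (Lpe (f183028 IH) (Lpr_ff (f646081 IH) (Lpn v5125))))
theorem f164031 : Led Lsl_ct (LP (LK LD1_c10 LD2_c0 LD3_c13)) = (LP (LK LD1_c5 LD2_c4 LD3_c34)) :=
  Lre_c IH (LK LD1_c10 LD2_c0 LD3_c13) (LK LD1_c5 LD2_c4 LD3_c34) Lrfl Lrfl
theorem f826343 : Led Lsl_bt (LP (LK LD1_c10 LD2_c0 LD3_c13)) = v24954 :=
  Lgr Lrot92 (Lpr_ct (f164031 IH) (Lpr_gt (f21469 IH) (Lpe (K45.f164008 IH) (Lpr_bt (K45.f584993 IH) (Lpr_gt (K9.f9046 IH) (Lpr_ct (K9.f9029 IH) (Lpr_gt (K9.f9094 IH) (Lpr_cf (K11.f183426 IH) (Lpr_bt (f646083 IH) (Lpr_gt (f826341 IH) (Lpn v24954)))))))))))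
theorem f826344 : Led Lsl_bf (LP (LK LD1_c10 LD2_c0 LD3_c13)) = v24954 :=
  Lgr Lrot24 (Lpr_bt (f826343 IH) (Lpn v24954))
theorem f923282 : v16731 = v24954 :=
  (Llr Lrot79 (Lpe (f751309 IH) (Lpe (K53.f183359 IH) (Lpr_df (f923278 IH) (Lpr_bf (f826344 IH) (Lpn v24954)))))).symm
theorem f923540 : Led Lsl_ff (LP (LK LD1_c10 LD2_c18 LD3_c58)) = (LP (LK LD1_c10 LD2_c0 LD3_c13)) :=
  Lgr Lrot25 (Lpr_bt (K53.f622599 IH) (Lpr_ft (f923514 IH) (Lpqs (f923282 IH) (Lpe (f826344 IH) (Lpn (LP (LK LD1_c10 LD2_c0 LD3_c13)))))))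
theorem f923425 : Led Lsl_dt (LP (LK LD1_c11 LD2_c56 LD3_c14)) = (LP (LK LD1_c18 LD2_c7 LD3_c60)) :=
  Lgr Lrot60 (Lpr_ff (f923420 IH) (Lpe (f396429 IH) (Lpe (f923386 IH) (Lpn (LP (LK LD1_c18 LD2_c7 LD3_c60))))))
theorem f923378 : Led Lsl_dt (LP (LK LD1_c27 LD2_c48 LD3_c22)) = (LP (LK LD1_c18 LD2_c10 LD3_c17)) :=
  Lgr Lrot42 (Lpr_df (f923374 IH) (Lpn (LP (LK LD1_c18 LD2_c10 LD3_c17))))
theorem f164070 : Led Lsl_ct (LP (LK LD1_c5 LD2_c4 LD3_c33)) = (LP (LK LD1_c10 LD2_c0 LD3_c11)) :=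
  Lre_c IH (LK LD1_c5 LD2_c4 LD3_c33) (LK LD1_c10 LD2_c0 LD3_c11) Lrfl Lrfl
theorem f923542 : Led Lsl_at (LP (LK LD1_c10 LD2_c18 LD3_c58)) = (LP (LK LD1_c10 LD2_c0 LD3_c11)) :=
  Lgr Lrot33 (Lpr_ff (f923540 IH) (Lpe (f923278 IH) (Lpr_ct (K53.f198822 IH) (Lpr_dt (f923425 IH) (Lpr_ct (f585032 IH) (Lpr_dt (f923378 IH) (Lpr_ct (f169986 IH) (Lpr_dt (f923009 IH) (Lpqs (f923238 IH) (Lpr_ct (f164070 IH) (Lpn (LP (LK LD1_c10 LD2_c0 LD3_c11)))))))))))))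
theorem f923544 : Led Lsl_af (LP (LK LD1_c10 LD2_c18 LD3_c58)) = (LP (LK LD1_c10 LD2_c0 LD3_c11)) :=
  Lgr Lrot0 (Lpr_at (f923542 IH) (Lpn (LP (LK LD1_c10 LD2_c0 LD3_c11))))
theorem f55963 : Led Lsl_ct (LP (LK LD1_c6 LD2_c8 LD3_c6)) = (LP (LK LD1_c3 LD2_c0 LD3_c17)) :=
  Lre_c IH (LK LD1_c6 LD2_c8 LD3_c6) (LK LD1_c3 LD2_c0 LD3_c17) Lrfl Lrfl
theorem f68887 : Led Lsl_ct (LP (LK LD1_c6 LD2_c8 LD3_c10)) = (LP (LK LD1_c11 LD2_c58 LD3_c16)) :=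
  Lre_c IH (LK LD1_c6 LD2_c8 LD3_c10) (LK LD1_c11 LD2_c58 LD3_c16) Lrfl Lrfl
theorem f412147 : Led Lsl_ct (LP (LK LD1_c10 LD2_c45 LD3_c42)) = (LP (LK LD1_c5 LD2_c27 LD3_c18)) :=
  Lre_c IH (LK LD1_c10 LD2_c45 LD3_c42) (LK LD1_c5 LD2_c27 LD3_c18) Lrfl Lrfl
theorem f412148 : Led Lsl_bt (LP (LK LD1_c11 LD2_c58 LD3_c16)) = (LP (LK LD1_c10 LD2_c45 LD3_c42)) :=
  Lgr Lrot128 (Lpe (f68887 IH) (Lpe (K36.f68833 IH) (Lpr_cf (K53.f412140 IH) (Lpe (f8841 IH) (Lpe (f412147 IH) (Lpn (LP (LK LD1_c10 LD2_c45 LD3_c42))))))))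
theorem f412161 : Led Lsl_et (LP (LK LD1_c6 LD2_c8 LD3_c6)) = (LP (LK LD1_c11 LD2_c58 LD3_c16)) :=
  Lre_e IH (LK LD1_c6 LD2_c8 LD3_c6) (LK LD1_c11 LD2_c58 LD3_c16) Lrfl Lrfl
theorem f412162 : Led Lsl_et (LP (LK LD1_c10 LD2_c45 LD3_c42)) = (LP (LK LD1_c5 LD2_c27 LD3_c17)) :=
  Lre_e IH (LK LD1_c10 LD2_c45 LD3_c42) (LK LD1_c5 LD2_c27 LD3_c17) Lrfl Lrfl
theorem f412163 : Led Lsl_bf (LP (LK LD1_c6 LD2_c8 LD3_c6)) = (LP (LK LD1_c5 LD2_c27 LD3_c17)) :=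
  Lgr Lrot96 (Lpr_et (f412161 IH) (Lpr_bt (f412148 IH) (Lpr_et (f412162 IH) (Lpn (LP (LK LD1_c5 LD2_c27 LD3_c17))))))
theorem f412179 : Led Lsl_bt (LP (LK LD1_c6 LD2_c8 LD3_c6)) = (LP (LK LD1_c5 LD2_c27 LD3_c17)) :=
  Lgr Lrot127 (Lpr_bf (f412163 IH) (Lpn (LP (LK LD1_c5 LD2_c27 LD3_c17))))
theorem f412200 : Led Lsl_gt (LP (LK LD1_c5 LD2_c27 LD3_c17)) = (LP (LK LD1_c10 LD2_c45 LD3_c40)) :=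
  Lre_g IH (LK LD1_c5 LD2_c27 LD3_c17) (LK LD1_c10 LD2_c45 LD3_c40) Lrfl Lrfl
theorem f180668 : Led Lsl_bt (LP (LK LD1_c2 LD2_c32 LD3_c1)) = (LP (LK LD1_c5 LD2_c9 LD3_c57)) :=
  Lre_b IH (LK LD1_c2 LD2_c32 LD3_c1) (LK LD1_c5 LD2_c9 LD3_c57) Lrfl Lrfl
theorem f180730 : Led Lsl_bf (LP (LK LD1_c5 LD2_c14 LD3_c38)) = (LP (LK LD1_c10 LD2_c10 LD3_c42)) :=
  Lgr Lrot90 (Lpr_ct (K55.f180677 IH) (Lpr_bt (K28.f163942 IH) (Lpr_ct (K10.f180693 IH) (Lpr_bt (f180668 IH) (Lpr_ct (K53.f180589 IH) (Lpn (LP (LK LD1_c10 LD2_c10 LD3_c42))))))))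
theorem f180702 : Led Lsl_ct (LP (LK LD1_c18 LD2_c32 LD3_c34)) = (LP (LK LD1_c10 LD2_c10 LD3_c41)) :=
  Lre_c IH (LK LD1_c18 LD2_c32 LD3_c34) (LK LD1_c10 LD2_c10 LD3_c41) Lrfl Lrfl
theorem f618629 : Led Lsl_bf (LP (LK LD1_c10 LD2_c45 LD3_c40)) = (LP (LK LD1_c18 LD2_c32 LD3_c34)) :=
  Lgr Lrot34 (Lpe (f412200 IH) (Lpe (f412179 IH) (Lpr_ct (f55963 IH) (Lpr_gf (K43.f557483 IH) (Lpe (K38.f386765 IH) (Lpe (K38.f387166 IH) (Lpr_bf (f180730 IH) (Lpr_ct (K32.f180588 IH) (Lpe (K53.f180697 IH) (Lpe (f180702 IH) (Lpn (LP (LK LD1_c18 LD2_c32 LD3_c34)))))))))))))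
theorem f412204 : Led Lsl_ct (LP (LK LD1_c10 LD2_c45 LD3_c40)) = (LP (LK LD1_c19 LD2_c27 LD3_c40)) :=
  Lre_c IH (LK LD1_c10 LD2_c45 LD3_c40) (LK LD1_c19 LD2_c27 LD3_c40) Lrfl Lrfl
theorem f180705 : Led Lsl_ct (LP (LK LD1_c10 LD2_c10 LD3_c41)) = (LP (LK LD1_c18 LD2_c32 LD3_c34)) :=
  Lre_c IH (LK LD1_c10 LD2_c10 LD3_c41) (LK LD1_c18 LD2_c32 LD3_c34) Lrfl Lrfl
theorem f180698 : Led Lsl_bt (LP (LK LD1_c18 LD2_c32 LD3_c33)) = (LP (LK LD1_c10 LD2_c10 LD3_c41)) :=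
  Lre_b IH (LK LD1_c18 LD2_c32 LD3_c33) (LK LD1_c10 LD2_c10 LD3_c41) Lrfl Lrfl
theorem f163978 : Led Lsl_bt (LP (LK LD1_c1 LD2_c14 LD3_c3)) = (LP (LK LD1_c2 LD2_c34 LD3_c10)) :=
  Lre_b IH (LK LD1_c1 LD2_c14 LD3_c3) (LK LD1_c2 LD2_c34 LD3_c10) Lrfl Lrfl
theorem f163987 : Led Lsl_ct (LP (LK LD1_c5 LD2_c14 LD3_c43)) = (LP (LK LD1_c10 LD2_c18 LD3_c55)) :=
  Lre_c IH (LK LD1_c5 LD2_c14 LD3_c43) (LK LD1_c10 LD2_c18 LD3_c55) Lrfl Lrfl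
theorem f163986 : Led Lsl_gt (LP (LK LD1_c10 LD2_c18 LD3_c55)) = (LP (LK LD1_c18 LD2_c43 LD3_c46)) :=
  Lre_g IH (LK LD1_c10 LD2_c18 LD3_c55) (LK LD1_c18 LD2_c43 LD3_c46) Lrfl Lrfl
theorem f180699 : Led Lsl_cf (LP (LK LD1_c18 LD2_c43 LD3_c46)) = (LP (LK LD1_c18 LD2_c32 LD3_c33)) :=
  Lgr Lrot163 (Lpe (f163986 IH) (Lpe (f163987 IH) (Lpe (K45.f163981 IH) (Lpe (f163978 IH) (Lpr_ct (K9.f163658 IH) (Lpe (K10.f59574 IH) (Lpr_cf (K10.f180633 IH) (Lpr_bt (f180668 IH) (Lpe (K53.f180697 IH) (Lpe (f180698 IH) (Lpn (LP (LK LD1_c18 LD2_c32 LD3_c33)))))))))))))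
theorem f180703 : Led Lsl_ct (LP (LK LD1_c18 LD2_c43 LD3_c46)) = (LP (LK LD1_c18 LD2_c32 LD3_c33)) :=
  Lgr Lrot59 (Lpr_cf (f180699 IH) (Lpn (LP (LK LD1_c18 LD2_c32 LD3_c33))))
theorem f618633 : Led Lsl_bt (LP (LK LD1_c19 LD2_c27 LD3_c40)) = (LP (LK LD1_c18 LD2_c43 LD3_c46)) :=
  Lgr Lrot128 (Lpe (f412204 IH) (Lpr_bf (f618629 IH) (Lpe (f180705 IH) (Lpe (f180698 IH) (Lpe (f180703 IH) (Lpn (LP (LK LD1_c18 LD2_c43 LD3_c46))))))))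
theorem f412203 : Led Lsl_ct (LP (LK LD1_c19 LD2_c27 LD3_c40)) = (LP (LK LD1_c10 LD2_c45 LD3_c40)) :=
  Lre_c IH (LK LD1_c19 LD2_c27 LD3_c40) (LK LD1_c10 LD2_c45 LD3_c40) Lrfl Lrfl
theorem f195580 : Led Lsl_ct (LP (LK LD1_c2 LD2_c39 LD3_c61)) = (LP (LK LD1_c5 LD2_c27 LD3_c17)) :=
  Lre_c IH (LK LD1_c2 LD2_c39 LD3_c61) (LK LD1_c5 LD2_c27 LD3_c17) Lrfl Lrfl
theorem f187557 : Led Lsl_bt (LP (LK LD1_c2 LD2_c39 LD3_c61)) = (LP (LK LD1_c1 LD2_c16 LD3_c44)) :=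
  Lre_b IH (LK LD1_c2 LD2_c39 LD3_c61) (LK LD1_c1 LD2_c16 LD3_c44) Lrfl Lrfl
theorem f618639 : Led Lsl_gf (LP (LK LD1_c10 LD2_c18 LD3_c58)) = (LP (LK LD1_c18 LD2_c43 LD3_c46)) :=
  Lgr Lrot181 (Lpr_ct (K53.f164052 IH) (Lpr_gt (K45.f164051 IH) (Lpe (K10.f163939 IH) (Lpr_bt (K53.f163995 IH) (Lpq (K53.f537534 IH) (Lpe (K30.f495504 IH) (Lpe (f187557 IH) (Lpr_ct (f195580 IH) (Lpr_gt (f412200 IH) (Lpe (f412203 IH) (Lpr_bt (f618633 IH) (Lpn (LP (LK LD1_c18 LD2_c43 LD3_c46))))))))))))))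
theorem f923546 : Led Lsl_ft (LP (LK LD1_c10 LD2_c18 LD3_c55)) = (LP (LK LD1_c10 LD2_c0 LD3_c11)) :=
  Lgr Lrot2 (Lpr_gt (f163986 IH) (Lpe (f618639 IH) (Lpr_af (f923544 IH) (Lpn (LP (LK LD1_c10 LD2_c0 LD3_c11))))))
theorem f923553 : Led Lsl_ff (LP (LK LD1_c10 LD2_c18 LD3_c55)) = (LP (LK LD1_c10 LD2_c0 LD3_c11)) :=
  Lgr Lrot3 (Lpr_ft (f923546 IH) (Lpn (LP (LK LD1_c10 LD2_c0 LD3_c11))))
theorem f923555 : Led Lsl_at (LP (LK LD1_c10 LD2_c18 LD3_c55)) = (LP (LK LD1_c10 LD2_c0 LD3_c13)) :=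
  Lgr Lrot66 (Lpr_ff (f923553 IH) (Lpe (f923542 IH) (Lpr_ff (f923540 IH) (Lpn (LP (LK LD1_c10 LD2_c0 LD3_c13))))))
theorem f180647 : Led Lsl_bt (LP (LK LD1_c18 LD2_c43 LD3_c47)) = (LP (LK LD1_c10 LD2_c18 LD3_c55)) :=
  Lre_b IH (LK LD1_c18 LD2_c43 LD3_c47) (LK LD1_c10 LD2_c18 LD3_c55) Lrfl Lrfl
theorem f923518 : Led Lsl_bt (LP (LK LD1_c10 LD2_c43 LD3_c26)) = (LP (LK LD1_c19 LD2_c24 LD3_c23)) :=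
  Lre_b IH (LK LD1_c10 LD2_c43 LD3_c26) (LK LD1_c19 LD2_c24 LD3_c23) Lrfl Lrfl
theorem f923560 : Led Lsl_af (LP (LK LD1_c18 LD2_c43 LD3_c47)) = (LP (LK LD1_c19 LD2_c24 LD3_c23)) :=
  Lgr Lrot36 (Lpr_bt (f180647 IH) (Lpr_at (f923555 IH) (Lpr_bt (f826343 IH) (Lpq (f923282 IH) (Lpe (f923509 IH) (Lpq (f923515 IH) (Lpr_bt (f923518 IH) (Lpn (LP (LK LD1_c19 LD2_c24 LD3_c23))))))))))
theorem f923561 : Led Lsl_at (LP (LK LD1_c19 LD2_c24 LD3_c23)) = (LP (LK LD1_c18 LD2_c43 LD3_c47)) :=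
  Leop (Lpr_af (f923560 IH) (Lpn (LP (LK LD1_c19 LD2_c24 LD3_c23))))
theorem seed_2468 : LEOK LG_a (LK LD1_c19 LD2_c24 LD3_c23) :=
  Leoe_a (LK LD1_c19 LD2_c24 LD3_c23) (f923561 IH)
def v35951 : LQ := Led Lsl_gt (LP (LK LD1_c8 LD2_c14 LD3_c29))
theorem f881327 : Led Lsl_gt (LP (LK LD1_c8 LD2_c14 LD3_c29)) = v35951 :=
  Lrfl
theorem f256189 : Led Lsl_bf (LP (LK LD1_c11 LD2_c56 LD3_c11)) = (LP (LK LD1_c15 LD2_c16 LD3_c48)) :=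
  Lgr Lrot24 (Lpr_bt (K45.f256187 IH) (Lpn (LP (LK LD1_c15 LD2_c16 LD3_c48))))
theorem f923340 : Led Lsl_ff (LP (LK LD1_c15 LD2_c16 LD3_c48)) = (LP (LK LD1_c17 LD2_c35 LD3_c61)) :=
  Lgr Lrot25 (Lpe (f256189 IH) (Lpr_ft (f923332 IH) (Lpr_bt (K39.f216256 IH) (Lpn (LP (LK LD1_c17 LD2_c35 LD3_c61))))))
theorem f923636 : Led Lsl_at (LP (LK LD1_c15 LD2_c16 LD3_c48)) = (LP (LK LD1_c17 LD2_c36 LD3_c0)) :=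
  Lgr Lrot26 (Lpr_ff (f923340 IH) (Lpe (K39.f283697 IH) (Lpr_gt (K39.f409343 IH) (Lpn (LP (LK LD1_c17 LD2_c36 LD3_c0))))))
theorem f216245 : Led Lsl_cf (LP (LK LD1_c25 LD2_c21 LD3_c9)) = (LP (LK LD1_c17 LD2_c36 LD3_c0)) :=
  Lgr Lrot11 (Lpr_ct (K39.f216242 IH) (Lpn (LP (LK LD1_c17 LD2_c36 LD3_c0))))
theorem f923640 : Led Lsl_af (LP (LK LD1_c25 LD2_c6 LD3_c49)) = (LP (LK LD1_c25 LD2_c21 LD3_c9)) :=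
  Lgr Lrot68 (Lpr_ct (K45.f256130 IH) (Lpr_at (f923636 IH) (Lpe (f216245 IH) (Lpn (LP (LK LD1_c25 LD2_c21 LD3_c9))))))
theorem f256197 : Led Lsl_bt (LP (LK LD1_c21 LD2_c1 LD3_c0)) = (LP (LK LD1_c25 LD2_c6 LD3_c49)) :=
  Lgr Lrot127 (Lpr_bf (K45.f256195 IH) (Lpn (LP (LK LD1_c25 LD2_c6 LD3_c49))))
theorem f291378 : Led Lsl_bt (LP (LK LD1_c15 LD2_c16 LD3_c21)) = (LP (LK LD1_c8 LD2_c6 LD3_c40)) :=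
  Lre_b IH (LK LD1_c15 LD2_c16 LD3_c21) (LK LD1_c8 LD2_c6 LD3_c40) Lrfl Lrfl
theorem f290972 : Led Lsl_ct (LP (LK LD1_c15 LD2_c16 LD3_c21)) = (LP (LK LD1_c8 LD2_c6 LD3_c42)) :=
  Lre_c IH (LK LD1_c15 LD2_c16 LD3_c21) (LK LD1_c8 LD2_c6 LD3_c42) Lrfl Lrfl
theorem f291380 : Led Lsl_gt (LP (LK LD1_c15 LD2_c16 LD3_c26)) = (LP (LK LD1_c8 LD2_c6 LD3_c42)) :=
  Lre_g IH (LK LD1_c15 LD2_c16 LD3_c26) (LK LD1_c8 LD2_c6 LD3_c42) Lrfl Lrfl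
theorem f291381 : Led Lsl_ct (LP (LK LD1_c25 LD2_c6 LD3_c23)) = (LP (LK LD1_c15 LD2_c16 LD3_c26)) :=
  Lre_c IH (LK LD1_c25 LD2_c6 LD3_c23) (LK LD1_c15 LD2_c16 LD3_c26) Lrfl Lrfl
theorem f291382 : Led Lsl_bf (LP (LK LD1_c25 LD2_c19 LD3_c4)) = (LP (LK LD1_c25 LD2_c6 LD3_c23)) :=
  Lgr Lrot34 (Lpe (K45.f182214 IH) (Lpe (K45.f182213 IH) (Lpr_ct (K15.f182532 IH) (Lpe (K17.f182530 IH) (Lpe (K17.f265231 IH) (Lpr_gf (K17.f291371 IH) (Lpe (f291378 IH) (Lpr_ct (f290972 IH) (Lpe (f291380 IH) (Lpe (f291381 IH) (Lpn (LP (LK LD1_c25 LD2_c6 LD3_c23)))))))))))))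
theorem f586595 : Led Lsl_dt (LP (LK LD1_c25 LD2_c6 LD3_c49)) = (LP (LK LD1_c25 LD2_c6 LD3_c23)) :=
  Lgr Lrot79 (Lpe (f256197 IH) (Lpr_df (K45.f586593 IH) (Lpr_bf (f291382 IH) (Lpn (LP (LK LD1_c25 LD2_c6 LD3_c23))))))
theorem f603166 : Led Lsl_df (LP (LK LD1_c25 LD2_c20 LD3_c22)) = (LP (LK LD1_c15 LD2_c28 LD3_c48)) :=
  Lgr Lrot183 (Lpr_ct (K56.f603161 IH) (Lpr_bt (K56.f226116 IH) (Lpr_gt (K56.f226115 IH) (Lpe (K45.f585063 IH) (Lpr_ct (K10.f163939 IH) (Lpr_bt (K10.f163918 IH) (Lpe (K10.f163936 IH) (Lpr_dt (K10.f185192 IH) (Lpr_ct (K10.f165510 IH) (Lpr_bt (K13.f165524 IH) (Lpr_gt (K14.f165525 IH) (Lpr_dt (K17.f253458 IH) (Lpe (K17.f276644 IH) (Lpr_bt (K20.f284090 IH) (Lpe (K23.f284100 IH) (Lpr_dt (K12.f187305 IH) (Lpr_ct (K10.f187336 IH) (Lpr_bt (K39.f187338 IH) (Lpr_gt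 (K39.f187339 IH) (Lpn (LP (LK LD1_c15 LD2_c28 LD3_c48))))))))))))))))))))))
theorem f603159 : Led Lsl_bt (LP (LK LD1_c25 LD2_c20 LD3_c22)) = (LP (LK LD1_c31 LD2_c43 LD3_c37)) :=
  Lgr Lrot127 (Lpr_bf (K56.f603157 IH) (Lpn (LP (LK LD1_c31 LD2_c43 LD3_c37))))
theorem f603168 : Led Lsl_dt (LP (LK LD1_c31 LD2_c43 LD3_c37)) = (LP (LK LD1_c25 LD2_c21 LD3_c9)) :=
  Lgr Lrot79 (Lpe (f603159 IH) (Lpr_df (f603166 IH) (Lpe (K39.f216240 IH) (Lpn (LP (LK LD1_c25 LD2_c21 LD3_c9))))))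
theorem f923644 : Led Lsl_at (LP (LK LD1_c25 LD2_c6 LD3_c23)) = (LP (LK LD1_c31 LD2_c43 LD3_c37)) :=
  Lgr Lrot51 (Lpe (f586595 IH) (Lpr_af (f923640 IH) (Lpe (f603168 IH) (Lpn (LP (LK LD1_c31 LD2_c43 LD3_c37))))))
theorem f291387 : Led Lsl_ct (LP (LK LD1_c15 LD2_c16 LD3_c26)) = (LP (LK LD1_c25 LD2_c6 LD3_c23)) :=
  Lre_c IH (LK LD1_c15 LD2_c16 LD3_c26) (LK LD1_c25 LD2_c6 LD3_c23) Lrfl Lrfl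
theorem f923648 : Led Lsl_af (LP (LK LD1_c15 LD2_c16 LD3_c26)) = (LP (LK LD1_c24 LD2_c57 LD3_c53)) :=
  Lgr Lrot68 (Lpr_ct (f291387 IH) (Lpr_at (f923644 IH) (Lpr_ct (K56.f253030 IH) (Lpn (LP (LK LD1_c24 LD2_c57 LD3_c53))))))
theorem f923650 : Led Lsl_at (LP (LK LD1_c15 LD2_c16 LD3_c26)) = (LP (LK LD1_c24 LD2_c57 LD3_c53)) :=
  Lgr Lrot100 (Lpr_af (f923648 IH) (Lpn (LP (LK LD1_c24 LD2_c57 LD3_c53))))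
theorem f253027 : Led Lsl_gt (LP (LK LD1_c24 LD2_c57 LD3_c54)) = (LP (LK LD1_c15 LD2_c8 LD3_c61)) :=
  Lre_g IH (LK LD1_c24 LD2_c57 LD3_c54) (LK LD1_c15 LD2_c8 LD3_c61) Lrfl Lrfl
theorem f923662 : Led Lsl_ff (LP (LK LD1_c15 LD2_c16 LD3_c26)) = (LP (LK LD1_c24 LD2_c57 LD3_c54)) :=
  Lgr Lrot52 (Lpr_at (f923650 IH) (Lpe (K56.f31027 IH) (Lpe (f253027 IH) (Lpn (LP (LK LD1_c24 LD2_c57 LD3_c54))))))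
theorem f923666 : Led Lsl_ft (LP (LK LD1_c15 LD2_c16 LD3_c26)) = (LP (LK LD1_c24 LD2_c57 LD3_c54)) :=
  Lgr Lrot48 (Lpr_ff (f923662 IH) (Lpn (LP (LK LD1_c24 LD2_c57 LD3_c54))))
theorem f30995 : Led Lsl_gt (LP (LK LD1_c8 LD2_c6 LD3_c42)) = (LP (LK LD1_c15 LD2_c16 LD3_c25)) :=
  Lre_g IH (LK LD1_c8 LD2_c6 LD3_c42) (LK LD1_c15 LD2_c16 LD3_c25) Lrfl Lrfl
theorem f923670 : Led Lsl_af (LP (LK LD1_c15 LD2_c16 LD3_c25)) = (LP (LK LD1_c24 LD2_c57 LD3_c54)) :=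
  Lgr Lrot31 (Lpe (f30995 IH) (Lpe (f291380 IH) (Lpr_ft (f923666 IH) (Lpn (LP (LK LD1_c24 LD2_c57 LD3_c54))))))
theorem f923676 : Led Lsl_ft (LP (LK LD1_c15 LD2_c16 LD3_c25)) = (LP (LK LD1_c24 LD2_c57 LD3_c53)) :=
  Lgr Lrot101 (Lpr_af (f923670 IH) (Lpe (f923666 IH) (Lpr_af (f923648 IH) (Lpn (LP (LK LD1_c24 LD2_c57 LD3_c53))))))
theorem f923682 : Led Lsl_ff (LP (LK LD1_c15 LD2_c16 LD3_c25)) = (LP (LK LD1_c24 LD2_c57 LD3_c53)) :=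
  Lgr Lrot3 (Lpr_ft (f923676 IH) (Lpn (LP (LK LD1_c24 LD2_c57 LD3_c53))))
theorem f409328 : Led Lsl_ct (LP (LK LD1_c15 LD2_c16 LD3_c25)) = (LP (LK LD1_c25 LD2_c6 LD3_c21)) :=
  Lre_c IH (LK LD1_c15 LD2_c16 LD3_c25) (LK LD1_c25 LD2_c6 LD3_c21) Lrfl Lrfl
theorem f923686 : Led Lsl_ft (LP (LK LD1_c25 LD2_c6 LD3_c21)) = (LP (LK LD1_c31 LD2_c43 LD3_c37)) :=
  Lgr Lrot4 (Lpe (f409328 IH) (Lpr_ff (f923682 IH) (Lpe (K56.f253030 IH) (Lpn (LP (LK LD1_c31 LD2_c43 LD3_c37))))))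
theorem f284076 : Led Lsl_cf (LP (LK LD1_c2 LD2_c28 LD3_c59)) = (LP (LK LD1_c2 LD2_c2 LD3_c22)) :=
  Lgr Lrot11 (Lpr_ct (K17.f284070 IH) (Lpn (LP (LK LD1_c2 LD2_c2 LD3_c22))))
theorem f191439 : Led Lsl_bt (LP (LK LD1_c8 LD2_c13 LD3_c4)) = (LP (LK LD1_c15 LD2_c27 LD3_c30)) :=
  Lre_b IH (LK LD1_c8 LD2_c13 LD3_c4) (LK LD1_c15 LD2_c27 LD3_c30) Lrfl Lrfl
theorem f191441 : Led Lsl_gt (LP (LK LD1_c15 LD2_c27 LD3_c30)) = (LP (LK LD1_c25 LD2_c19 LD3_c12)) :=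
  Lre_g IH (LK LD1_c15 LD2_c27 LD3_c30) (LK LD1_c25 LD2_c19 LD3_c12) Lrfl Lrfl
theorem f169075 : Led Lsl_bt (LP (LK LD1_c11 LD2_c57 LD3_c6)) = (LP (LK LD1_c6 LD2_c7 LD3_c4)) :=
  Lre_b IH (LK LD1_c11 LD2_c57 LD3_c6) (LK LD1_c6 LD2_c7 LD3_c4) Lrfl Lrfl
theorem f409331 : Led Lsl_ct (LP (LK LD1_c21 LD2_c2 LD3_c8)) = (LP (LK LD1_c11 LD2_c57 LD3_c6)) :=
  Lre_c IH (LK LD1_c21 LD2_c2 LD3_c8) (LK LD1_c11 LD2_c57 LD3_c6) Lrfl Lrfl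
theorem f585013 : Led Lsl_dt (LP (LK LD1_c25 LD2_c19 LD3_c12)) = (LP (LK LD1_c21 LD2_c2 LD3_c8)) :=
  Lgr Lrot182 (Lpe (f191441 IH) (Lpe (f191439 IH) (Lpe (K10.f182537 IH) (Lpe (K14.f222000 IH) (Lpr_gf (K14.f251677 IH) (Lpe (K17.f284084 IH) (Lpr_cf (f284076 IH) (Lpe (K14.f230798 IH) (Lpe (K14.f165197 IH) (Lpe (K14.f169832 IH) (Lpe (K9.f166366 IH) (Lpe (K9.f169436 IH) (Lpe (K9.f21423 IH) (Lpe (K10.f163843 IH) (Lpe (K45.f164008 IH) (Lpr_df (K45.f584999 IH) (Lpe (f169074 IH) (Lpe (f169075 IH) (Lpe (f409331 IH) (Lpn (LP (LK LD1_c21 LD2_c2 LD3_c8))))))))))))))))))))))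
theorem f585017 : Led Lsl_df (LP (LK LD1_c25 LD2_c19 LD3_c12)) = (LP (LK LD1_c21 LD2_c2 LD3_c8)) :=
  Lgr Lrot38 (Lpr_dt (f585013 IH) (Lpn (LP (LK LD1_c21 LD2_c2 LD3_c8))))
theorem f283708 : Led Lsl_gt (LP (LK LD1_c15 LD2_c16 LD3_c49)) = (LP (LK LD1_c8 LD2_c6 LD3_c55)) :=
  Lre_g IH (LK LD1_c15 LD2_c16 LD3_c49) (LK LD1_c8 LD2_c6 LD3_c55) Lrfl Lrfl
theorem f283709 : Led Lsl_ct (LP (LK LD1_c25 LD2_c6 LD3_c51)) = (LP (LK LD1_c15 LD2_c16 LD3_c49)) :=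
  Lre_c IH (LK LD1_c25 LD2_c6 LD3_c51) (LK LD1_c15 LD2_c16 LD3_c49) Lrfl Lrfl
theorem f421146 : Led Lsl_bt (LP (LK LD1_c25 LD2_c6 LD3_c51)) = (LP (LK LD1_c25 LD2_c19 LD3_c12)) :=
  Lgr Lrot92 (Lpr_ct (f283709 IH) (Lpr_gt (f283708 IH) (Lpr_cf (K45.f194689 IH) (Lpr_bt (K39.f256128 IH) (Lpe (K15.f194633 IH) (Lpr_ct (K15.f54518 IH) (Lpr_gt (K10.f55007 IH) (Lpe (K15.f187986 IH) (Lpr_bt (f191439 IH) (Lpr_gt (f191441 IH) (Lpn (LP (LK LD1_c25 LD2_c19 LD3_c12)))))))))))))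
theorem f421148 : Led Lsl_bf (LP (LK LD1_c25 LD2_c6 LD3_c51)) = (LP (LK LD1_c25 LD2_c19 LD3_c12)) :=
  Lgr Lrot24 (Lpr_bt (f421146 IH) (Lpn (LP (LK LD1_c25 LD2_c19 LD3_c12))))
theorem f290939 : Led Lsl_bt (LP (LK LD1_c6 LD2_c6 LD3_c59)) = (LP (LK LD1_c2 LD2_c59 LD3_c36)) :=
  Lre_b IH (LK LD1_c6 LD2_c6 LD3_c59) (LK LD1_c2 LD2_c59 LD3_c36) Lrfl Lrfl
theorem f409326 : Led Lsl_bf (LP (LK LD1_c15 LD2_c16 LD3_c25)) = (LP (LK LD1_c11 LD2_c57 LD3_c7)) :=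
  Lgr Lrot34 (Lpe (f30995 IH) (Lpe (K56.f30994 IH) (Lpr_ct (K14.f187856 IH) (Lpe (K17.f283790 IH) (Lpr_cf (K19.f283792 IH) (Lpe (K19.f178453 IH) (Lpe (f290939 IH) (Lpr_ct (K45.f185055 IH) (Lpe (f169074 IH) (Lpe (f291262 IH) (Lpn (LP (LK LD1_c11 LD2_c57 LD3_c7)))))))))))))
theorem f338931 : Led Lsl_ct (LP (LK LD1_c6 LD2_c7 LD3_c4)) = (LP (LK LD1_c11 LD2_c57 LD3_c7)) :=
  Lre_c IH (LK LD1_c6 LD2_c7 LD3_c4) (LK LD1_c11 LD2_c57 LD3_c7) Lrfl Lrfl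
theorem f409332 : Led Lsl_bt (LP (LK LD1_c25 LD2_c6 LD3_c21)) = (LP (LK LD1_c21 LD2_c2 LD3_c8)) :=
  Lgr Lrot128 (Lpe (f409328 IH) (Lpr_bf (f409326 IH) (Lpe (f338931 IH) (Lpe (f169075 IH) (Lpe (f409331 IH) (Lpn (LP (LK LD1_c21 LD2_c2 LD3_c8))))))))
theorem f585019 : Led Lsl_dt (LP (LK LD1_c25 LD2_c6 LD3_c51)) = (LP (LK LD1_c25 LD2_c6 LD3_c21)) :=
  Lgr Lrot79 (Lpr_bf (f421148 IH) (Lpr_df (f585017 IH) (Lpe (f409332 IH) (Lpn (LP (LK LD1_c25 LD2_c6 LD3_c21))))))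
theorem f923692 : Led Lsl_ff (LP (LK LD1_c25 LD2_c6 LD3_c51)) = (LP (LK LD1_c25 LD2_c21 LD3_c9)) :=
  Lgr Lrot19 (Lpr_dt (f585019 IH) (Lpr_ft (f923686 IH) (Lpr_dt (f603168 IH) (Lpn (LP (LK LD1_c25 LD2_c21 LD3_c9))))))
theorem f923698 : Led Lsl_ft (LP (LK LD1_c25 LD2_c6 LD3_c51)) = (LP (LK LD1_c25 LD2_c21 LD3_c9)) :=
  Lgr Lrot48 (Lpr_ff (f923692 IH) (Lpn (LP (LK LD1_c25 LD2_c21 LD3_c9))))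
theorem f421150 : Led Lsl_ct (LP (LK LD1_c15 LD2_c16 LD3_c49)) = (LP (LK LD1_c25 LD2_c6 LD3_c51)) :=
  Lre_c IH (LK LD1_c15 LD2_c16 LD3_c49) (LK LD1_c25 LD2_c6 LD3_c51) Lrfl Lrfl
theorem f923704 : Led Lsl_ff (LP (LK LD1_c15 LD2_c16 LD3_c49)) = (LP (LK LD1_c17 LD2_c36 LD3_c0)) :=
  Lgr Lrot23 (Lpr_ct (f421150 IH) (Lpr_ft (f923698 IH) (Lpr_ct (K39.f216242 IH) (Lpn (LP (LK LD1_c17 LD2_c36 LD3_c0))))))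
theorem f923706 : Led Lsl_at (LP (LK LD1_c15 LD2_c16 LD3_c49)) = (LP (LK LD1_c17 LD2_c35 LD3_c61)) :=
  Lgr Lrot66 (Lpr_ff (f923704 IH) (Lpe (f923636 IH) (Lpr_ff (f923340 IH) (Lpn (LP (LK LD1_c17 LD2_c35 LD3_c61))))))
theorem f923709 : Led Lsl_af (LP (LK LD1_c15 LD2_c16 LD3_c49)) = (LP (LK LD1_c17 LD2_c35 LD3_c61)) :=
  Lgr Lrot0 (Lpr_at (f923706 IH) (Lpn (LP (LK LD1_c17 LD2_c35 LD3_c61))))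
theorem f923717 : Led Lsl_at (LP (LK LD1_c25 LD2_c6 LD3_c51)) = (LP (LK LD1_c25 LD2_c23 LD3_c31)) :=
  Lgr Lrot107 (Lpe (f421150 IH) (Lpr_af (f923709 IH) (Lpe (K39.f216264 IH) (Lpn (LP (LK LD1_c25 LD2_c23 LD3_c31))))))
theorem f923642 : Led Lsl_at (LP (LK LD1_c25 LD2_c6 LD3_c49)) = (LP (LK LD1_c25 LD2_c21 LD3_c9)) :=
  Lgr Lrot100 (Lpr_af (f923640 IH) (Lpn (LP (LK LD1_c25 LD2_c21 LD3_c9))))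
theorem f923719 : Led Lsl_ff (LP (LK LD1_c25 LD2_c6 LD3_c49)) = (LP (LK LD1_c25 LD2_c23 LD3_c31)) :=
  Lgr Lrot30 (Lpr_at (f923642 IH) (Lpe (f923692 IH) (Lpr_at (f923717 IH) (Lpn (LP (LK LD1_c25 LD2_c23 LD3_c31))))))
theorem f187586 : Led Lsl_bt (LP (LK LD1_c15 LD2_c30 LD3_c16)) = (LP (LK LD1_c25 LD2_c23 LD3_c31)) :=
  Lre_b IH (LK LD1_c15 LD2_c30 LD3_c16) (LK LD1_c25 LD2_c23 LD3_c31) Lrfl Lrfl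
theorem f923721 : Led Lsl_ft (LP (LK LD1_c21 LD2_c1 LD3_c0)) = (LP (LK LD1_c15 LD2_c30 LD3_c16)) :=
  Lgr Lrot75 (Lpr_bf (K45.f256195 IH) (Lpr_ff (f923719 IH) (Lpe (f187586 IH) (Lpn (LP (LK LD1_c15 LD2_c30 LD3_c16))))))
theorem f923727 : Led Lsl_ff (LP (LK LD1_c21 LD2_c1 LD3_c0)) = (LP (LK LD1_c15 LD2_c30 LD3_c16)) :=
  Lgr Lrot3 (Lpr_ft (f923721 IH) (Lpn (LP (LK LD1_c15 LD2_c30 LD3_c16))))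
theorem f216268 : Led Lsl_gt (LP (LK LD1_c15 LD2_c30 LD3_c16)) = (LP (LK LD1_c8 LD2_c14 LD3_c34)) :=
  Lgr Lrot82 (Lpe (K39.f187605 IH) (Lpr_ct (K39.f216264 IH) (Lpe (K39.f216133 IH) (Lpe (K39.f216228 IH) (Lpr_bt (K39.f194254 IH) (Lpe (K16.f54964 IH) (Lpe (K39.f54658 IH) (Lpr_ct (K39.f54789 IH) (Lpe (K56.f54889 IH) (Lpe (K68.f194281 IH) (Lpn (LP (LK LD1_c8 LD2_c14 LD3_c34)))))))))))))
theorem f923733 : Led Lsl_at (LP (LK LD1_c21 LD2_c1 LD3_c0)) = (LP (LK LD1_c15 LD2_c30 LD3_c17)) :=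
  Lgr Lrot26 (Lpr_ff (f923727 IH) (Lpr_gt (f216268 IH) (Lpr_gt (K56.f216271 IH) (Lpn (LP (LK LD1_c15 LD2_c30 LD3_c17))))))
theorem f256201 : Led Lsl_ct (LP (LK LD1_c11 LD2_c56 LD3_c10)) = (LP (LK LD1_c21 LD2_c1 LD3_c0)) :=
  Lre_c IH (LK LD1_c11 LD2_c56 LD3_c10) (LK LD1_c21 LD2_c1 LD3_c0) Lrfl Lrfl
theorem f923313 : Led Lsl_af (LP (LK LD1_c11 LD2_c56 LD3_c10)) = (LP (LK LD1_c10 LD2_c45 LD3_c13)) :=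
  Lgr Lrot0 (Lpr_at (f923311 IH) (Lpn (LP (LK LD1_c10 LD2_c45 LD3_c13))))
theorem f923737 : Led Lsl_cf (LP (LK LD1_c10 LD2_c45 LD3_c13)) = (LP (LK LD1_c15 LD2_c30 LD3_c17)) :=
  Lgr Lrot1 (Lpe (f923313 IH) (Lpr_ct (f256201 IH) (Lpr_at (f923733 IH) (Lpn (LP (LK LD1_c15 LD2_c30 LD3_c17))))))
theorem f923763 : Led Lsl_ct (LP (LK LD1_c10 LD2_c45 LD3_c13)) = (LP (LK LD1_c15 LD2_c30 LD3_c17)) :=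
  Lgr Lrot59 (Lpr_cf (f923737 IH) (Lpn (LP (LK LD1_c15 LD2_c30 LD3_c17))))
theorem f923767 : (LP (LK LD1_c11 LD2_c56 LD3_c5)) = v35951 :=
  (Llr Lrot125 (Lpr_ct (f257241 IH) (Lpr_gt (K56.f751518 IH) (Lpe (f257338 IH) (Lpr_bt (f646213 IH) (Lpr_gt (f826543 IH) (Lpe (f826547 IH) (Lpr_ct (f923763 IH) (Lpr_gt (K56.f554725 IH) (Lpe (K39.f178254 IH) (Lpr_bt (K39.f187594 IH) (Lpr_gt (f881327 IH) (Lpn v35951))))))))))))).symm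
theorem f923768 : Led Lsl_gt (LP (LK LD1_c8 LD2_c14 LD3_c29)) = (LP (LK LD1_c11 LD2_c56 LD3_c5)) :=
  Leop (Lpqs (f923767 IH) (Lpe (f881327 IH) (Lpn (LP (LK LD1_c8 LD2_c14 LD3_c29)))))
theorem seed_2469 : LEOK LG_g (LK LD1_c8 LD2_c14 LD3_c29) :=
  Leoe_g (LK LD1_c8 LD2_c14 LD3_c29) (f923768 IH)
theorem f923197 : Led Lsl_ff (LP (LK LD1_c18 LD2_c20 LD3_c16)) = v41306 :=
  Lgr Lrot23 (Lpr_ct (K44.f264218 IH) (Lpe (K44.f410245 IH) (Lpr_ct (f923194 IH) (Lpn v41306))))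
theorem f264167 : Led Lsl_at (LP (LK LD1_c18 LD2_c20 LD3_c16)) = (LP (LK LD1_c10 LD2_c2 LD3_c6)) :=
  Lre_a IH (LK LD1_c18 LD2_c20 LD3_c16) (LK LD1_c10 LD2_c2 LD3_c6) Lrfl Lrfl
theorem f923976 : Led Lsl_at (LP (LK LD1_c9 LD2_c55 LD3_c58)) = v41306 :=
  Lgr Lrot66 (Lpr_ff (K15.f264176 IH) (Lpe (f264167 IH) (Lpr_ff (f923197 IH) (Lpn v41306))))
theorem f169544 : Led Lsl_gt (LP (LK LD1_c10 LD2_c2 LD3_c6)) = (LP (LK LD1_c18 LD2_c20 LD3_c14)) :=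
  Lre_g IH (LK LD1_c10 LD2_c2 LD3_c6) (LK LD1_c18 LD2_c20 LD3_c14) Lrfl Lrfl
theorem f923978 : Led Lsl_gt (LP (LK LD1_c18 LD2_c20 LD3_c14)) = v41306 :=
  Lgr Lrot46 (Lpe (f169544 IH) (Lpe (K15.f264176 IH) (Lpr_at (f923976 IH) (Lpn v41306))))
theorem f410249 : Led Lsl_gt (LP (LK LD1_c10 LD2_c2 LD3_c23)) = (LP (LK LD1_c9 LD2_c55 LD3_c47)) :=
  Lgr Lrot5 (Lpr_ft (K44.f410235 IH) (Lpr_at (K44.f264298 IH) (Lpe (f252258 IH) (Lpn (LP (LK LD1_c9 LD2_c55 LD3_c47))))))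
theorem f923119 : Led Lsl_cf (LP (LK LD1_c18 LD2_c45 LD3_c38)) = (LP (LK LD1_c28 LD2_c13 LD3_c0)) :=
  Lgr Lrot11 (Lpr_ct (f923117 IH) (Lpn (LP (LK LD1_c28 LD2_c13 LD3_c0))))
theorem f323629 : Led Lsl_bt (LP (LK LD1_c18 LD2_c45 LD3_c41)) = (LP (LK LD1_c10 LD2_c20 LD3_c7)) :=
  Lre_b IH (LK LD1_c18 LD2_c45 LD3_c41) (LK LD1_c10 LD2_c20 LD3_c7) Lrfl Lrfl
theorem f323630 : Led Lsl_bt (LP (LK LD1_c10 LD2_c16 LD3_c34)) = (LP (LK LD1_c18 LD2_c41 LD3_c23)) :=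
  Lre_b IH (LK LD1_c10 LD2_c16 LD3_c34) (LK LD1_c18 LD2_c41 LD3_c23) Lrfl Lrfl
theorem f323631 : Led Lsl_cf (LP (LK LD1_c18 LD2_c45 LD3_c41)) = (LP (LK LD1_c18 LD2_c41 LD3_c23)) :=
  Lgr Lrot97 (Lpr_bt (f323629 IH) (Lpr_ct (K27.f252263 IH) (Lpr_bt (K27.f323627 IH) (Lpr_ct (K27.f265853 IH) (Lpr_bt (f323630 IH) (Lpn (LP (LK LD1_c18 LD2_c41 LD3_c23))))))))
theorem f323639 : Led Lsl_et (LP (LK LD1_c18 LD2_c45 LD3_c41)) = (LP (LK LD1_c10 LD2_c20 LD3_c6)) :=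
  Lre_e IH (LK LD1_c18 LD2_c45 LD3_c41) (LK LD1_c10 LD2_c20 LD3_c6) Lrfl Lrfl
theorem f323640 : Led Lsl_et (LP (LK LD1_c10 LD2_c16 LD3_c32)) = (LP (LK LD1_c18 LD2_c41 LD3_c23)) :=
  Lre_e IH (LK LD1_c10 LD2_c16 LD3_c32) (LK LD1_c18 LD2_c41 LD3_c23) Lrfl Lrfl
theorem f323641 : Led Lsl_ct (LP (LK LD1_c10 LD2_c20 LD3_c6)) = (LP (LK LD1_c10 LD2_c16 LD3_c32)) :=
  Lgr Lrot15 (Lpe (f323639 IH) (Lpr_cf (f323631 IH) (Lpe (f323640 IH) (Lpn (LP (LK LD1_c10 LD2_c16 LD3_c32))))))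
theorem f323650 : Led Lsl_cf (LP (LK LD1_c10 LD2_c20 LD3_c6)) = (LP (LK LD1_c10 LD2_c16 LD3_c32)) :=
  Lgr Lrot11 (Lpr_ct (f323641 IH) (Lpn (LP (LK LD1_c10 LD2_c16 LD3_c32))))
theorem f265848 : Led Lsl_bt (LP (LK LD1_c10 LD2_c16 LD3_c32)) = (LP (LK LD1_c5 LD2_c13 LD3_c7)) :=
  Lre_b IH (LK LD1_c10 LD2_c16 LD3_c32) (LK LD1_c5 LD2_c13 LD3_c7) Lrfl Lrfl
theorem f923121 : Led Lsl_gf (LP (LK LD1_c10 LD2_c16 LD3_c56)) = (LP (LK LD1_c18 LD2_c41 LD3_c41)) :=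
  Lgr Lrot181 (Lpr_ct (K45.f185425 IH) (Lpr_gt (K45.f185420 IH) (Lpe (K45.f185275 IH) (Lpr_bt (K18.f185416 IH) (Lpr_gt (K15.f185417 IH) (Lpe (f265848 IH) (Lpe (f323650 IH) (Lpr_gt (f252267 IH) (Lpr_cf (f923119 IH) (Lpr_bt (f923112 IH) (Lpn (LP (LK LD1_c18 LD2_c41 LD3_c41)))))))))))))
theorem f185426 : Led Lsl_ct (LP (LK LD1_c5 LD2_c13 LD3_c17)) = (LP (LK LD1_c10 LD2_c16 LD3_c56)) :=
  Lre_c IH (LK LD1_c5 LD2_c13 LD3_c17) (LK LD1_c10 LD2_c16 LD3_c56) Lrfl Lrfl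
theorem f723119 : Led Lsl_bt (LP (LK LD1_c5 LD2_c13 LD3_c17)) = (LP (LK LD1_c10 LD2_c16 LD3_c55)) :=
  Lre_b IH (LK LD1_c5 LD2_c13 LD3_c17) (LK LD1_c10 LD2_c16 LD3_c55) Lrfl Lrfl
theorem f409190 : Led Lsl_gt (LP (LK LD1_c10 LD2_c16 LD3_c55)) = (LP (LK LD1_c18 LD2_c41 LD3_c44)) :=
  Lre_g IH (LK LD1_c10 LD2_c16 LD3_c55) (LK LD1_c18 LD2_c41 LD3_c44) Lrfl Lrfl
theorem f923979 : Led Lsl_cf (LP (LK LD1_c18 LD2_c20 LD3_c14)) = (LP (LK LD1_c18 LD2_c41 LD3_c44)) :=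
  Lgr Lrot125 (Lpr_gt (f923978 IH) (Lpe (f923194 IH) (Lpe (K44.f276052 IH) (Lpr_gt (f410249 IH) (Lpr_bf (f923108 IH) (Lpe (f923109 IH) (Lpe (f923121 IH) (Lpe (f185426 IH) (Lpr_bt (f723119 IH) (Lpr_gt (f409190 IH) (Lpn (LP (LK LD1_c18 LD2_c41 LD3_c44)))))))))))))
theorem f923980 : Led Lsl_ct (LP (LK LD1_c18 LD2_c41 LD3_c44)) = (LP (LK LD1_c18 LD2_c20 LD3_c14)) :=
  Leop (Lpr_cf (f923979 IH) (Lpn (LP (LK LD1_c18 LD2_c41 LD3_c44))))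
theorem seed_2470 : LEOK LG_c (LK LD1_c18 LD2_c41 LD3_c44) :=
  Leoe_c (LK LD1_c18 LD2_c41 LD3_c44) (f923980 IH)
def v41310 : LQ := Led Lsl_dt (LP (LK LD1_c9 LD2_c55 LD3_c60))
theorem f924015 : Led Lsl_dt (LP (LK LD1_c9 LD2_c55 LD3_c60)) = v41310 :=
  Lrfl
theorem f250039 : Led Lsl_et (LP (LK LD1_c9 LD2_c55 LD3_c60)) = (LP (LK LD1_c5 LD2_c2 LD3_c32)) :=
  Lre_e IH (LK LD1_c9 LD2_c55 LD3_c60) (LK LD1_c5 LD2_c2 LD3_c32) Lrfl Lrfl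
theorem f180751 : Led Lsl_et (LP (LK LD1_c10 LD2_c23 LD3_c17)) = (LP (LK LD1_c5 LD2_c16 LD3_c51)) :=
  Lre_e IH (LK LD1_c10 LD2_c23 LD3_c17) (LK LD1_c5 LD2_c16 LD3_c51) Lrfl Lrfl
theorem f180752 : Led Lsl_dt (LP (LK LD1_c10 LD2_c23 LD3_c17)) = (LP (LK LD1_c18 LD2_c50 LD3_c53)) :=
  Lre_d IH (LK LD1_c10 LD2_c23 LD3_c17) (LK LD1_c18 LD2_c50 LD3_c53) Lrfl Lrfl
theorem f924019 : Led Lsl_gt (LP (LK LD1_c18 LD2_c50 LD3_c53)) = v41310 :=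
  Lgr Lrot112 (Lpe (f180752 IH) (Lpr_et (f180751 IH) (Lpe (K35.f35173 IH) (Lpe (K19.f32723 IH) (Lpr_dt (K9.f31690 IH) (Lpr_gf (K10.f180631 IH) (Lpe (K14.f165257 IH) (Lpe (K14.f250021 IH) (Lpe (f250039 IH) (Lpr_dt (f924015 IH) (Lpn v41310)))))))))))
theorem f924020 : Led Lsl_gt (LP (LK LD1_c18 LD2_c50 LD3_c52)) = (LP (LK LD1_c10 LD2_c23 LD3_c17)) :=
  Lre_g IH (LK LD1_c18 LD2_c50 LD3_c52) (LK LD1_c10 LD2_c23 LD3_c17) Lrfl Lrfl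
theorem f924017 : Led Lsl_df (LP (LK LD1_c9 LD2_c55 LD3_c60)) = v41310 :=
  Lgr Lrot38 (Lpr_dt (f924015 IH) (Lpn v41310))
theorem f285230 : Led Lsl_ff (LP (LK LD1_c5 LD2_c3 LD3_c30)) = (LP (LK LD1_c5 LD2_c2 LD3_c32)) :=
  Lgr Lrot23 (Lpe (K36.f198615 IH) (Lpr_ft (K39.f285226 IH) (Lpe (K14.f250035 IH) (Lpn (LP (LK LD1_c5 LD2_c2 LD3_c32))))))
theorem f264252 : Led Lsl_at (LP (LK LD1_c2 LD2_c28 LD3_c49)) = (LP (LK LD1_c2 LD2_c30 LD3_c0)) :=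
  Lgr Lrot100 (Lpr_af (K15.f264250 IH) (Lpn (LP (LK LD1_c2 LD2_c30 LD3_c0))))
theorem f285081 : Led Lsl_at (LP (LK LD1_c5 LD2_c3 LD3_c30)) = (LP (LK LD1_c5 LD2_c2 LD3_c29)) :=
  Lgr Lrot51 (Lpr_df (K36.f285079 IH) (Lpe (f264252 IH) (Lpe (K12.f165630 IH) (Lpn (LP (LK LD1_c5 LD2_c2 LD3_c29))))))
theorem f276070 : Led Lsl_ff (LP (LK LD1_c5 LD2_c3 LD3_c29)) = (LP (LK LD1_c5 LD2_c2 LD3_c29)) :=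
  Lgr Lrot19 (Lpe (K14.f249929 IH) (Lpr_ft (K16.f276066 IH) (Lpr_dt (K12.f165627 IH) (Lpn (LP (LK LD1_c5 LD2_c2 LD3_c29))))))
theorem f285232 : Led Lsl_at (LP (LK LD1_c5 LD2_c3 LD3_c29)) = (LP (LK LD1_c5 LD2_c2 LD3_c32)) :=
  Lgr Lrot66 (Lpr_ff (f276070 IH) (Lpe (f285081 IH) (Lpr_ff (f285230 IH) (Lpn (LP (LK LD1_c5 LD2_c2 LD3_c32))))))
theorem f249954 : Led Lsl_et (LP (LK LD1_c9 LD2_c57 LD3_c57)) = (LP (LK LD1_c5 LD2_c3 LD3_c29)) :=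
  Lre_e IH (LK LD1_c9 LD2_c57 LD3_c57) (LK LD1_c5 LD2_c3 LD3_c29) Lrfl Lrfl
theorem f250046 : Led Lsl_et (LP (LK LD1_c5 LD2_c2 LD3_c32)) = (LP (LK LD1_c9 LD2_c55 LD3_c60)) :=
  Lre_e IH (LK LD1_c5 LD2_c2 LD3_c32) (LK LD1_c9 LD2_c55 LD3_c60) Lrfl Lrfl
theorem f285246 : Led Lsl_af (LP (LK LD1_c9 LD2_c57 LD3_c57)) = (LP (LK LD1_c9 LD2_c55 LD3_c60)) :=
  Lgr Lrot50 (Lpr_et (f249954 IH) (Lpr_at (f285232 IH) (Lpr_et (f250046 IH) (Lpn (LP (LK LD1_c9 LD2_c55 LD3_c60))))))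
theorem f285248 : Led Lsl_at (LP (LK LD1_c9 LD2_c57 LD3_c57)) = (LP (LK LD1_c9 LD2_c55 LD3_c60)) :=
  Lgr Lrot100 (Lpr_af (f285246 IH) (Lpn (LP (LK LD1_c9 LD2_c55 LD3_c60))))
theorem f250047 : Led Lsl_ct (LP (LK LD1_c9 LD2_c55 LD3_c60)) = (LP (LK LD1_c5 LD2_c6 LD3_c54)) :=
  Lgr Lrot15 (Lpe (f250046 IH) (Lpr_cf (K14.f250035 IH) (Lpe (K39.f166404 IH) (Lpn (LP (LK LD1_c5 LD2_c6 LD3_c54))))))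
theorem f285250 : Led Lsl_cf (LP (LK LD1_c9 LD2_c57 LD3_c57)) = (LP (LK LD1_c5 LD2_c5 LD3_c54)) :=
  Lgr Lrot1 (Lpr_at (f285248 IH) (Lpr_ct (f250047 IH) (Lpe (K39.f285124 IH) (Lpn (LP (LK LD1_c5 LD2_c5 LD3_c54))))))
theorem f285252 : Led Lsl_ct (LP (LK LD1_c9 LD2_c57 LD3_c57)) = (LP (LK LD1_c5 LD2_c5 LD3_c54)) :=
  Lgr Lrot59 (Lpr_cf (f285250 IH) (Lpn (LP (LK LD1_c5 LD2_c5 LD3_c54))))
theorem f285254 : Led Lsl_cf (LP (LK LD1_c9 LD2_c55 LD3_c60)) = (LP (LK LD1_c5 LD2_c6 LD3_c54)) :=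
  Lgr Lrot1 (Lpe (f285246 IH) (Lpr_ct (f285252 IH) (Lpr_at (K39.f285126 IH) (Lpn (LP (LK LD1_c5 LD2_c6 LD3_c54))))))
theorem f750829 : Led Lsl_df (LP (LK LD1_c6 LD2_c3 LD3_c46)) = K69.v16642 :=
  Lgr Lrot38 (Lpr_dt (K69.f750828 IH) (Lpn K69.v16642))
theorem f824315 : Led Lsl_ft K50.v13203 = K64.v5304 :=
  Lgr Lrot48 (Lpr_ff (K64.f824312 IH) (Lpn K64.v5304))
theorem f701672 : Led Lsl_dt K64.v5304 = (LP (LK LD1_c11 LD2_c36 LD3_c3)) :=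
  Lgr Lrot42 (Lpr_df (K64.f701671 IH) (Lpn (LP (LK LD1_c11 LD2_c36 LD3_c3))))
theorem f824316 : Led Lsl_ff (LP (LK LD1_c10 LD2_c15 LD3_c30)) = (LP (LK LD1_c11 LD2_c36 LD3_c3)) :=
  Lgr Lrot19 (Lpr_dt (K50.f701653 IH) (Lpr_ft (f824315 IH) (Lpr_dt (f701672 IH) (Lpn (LP (LK LD1_c11 LD2_c36 LD3_c3))))))
def v14533 : LQ := Led Lsl_ft (LP (LK LD1_c5 LD2_c12 LD3_c31))
theorem f723081 : Led Lsl_ft (LP (LK LD1_c5 LD2_c12 LD3_c31)) = v14533 :=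
  Lrfl
theorem f723083 : Led Lsl_ff (LP (LK LD1_c5 LD2_c12 LD3_c31)) = v14533 :=
  Lgr Lrot3 (Lpr_ft (f723081 IH) (Lpn v14533))
theorem f723078 : Led Lsl_ff (LP (LK LD1_c5 LD2_c12 LD3_c32)) = K64.v14531 :=
  Lgr Lrot3 (Lpr_ft (K64.f723077 IH) (Lpn K64.v14531))
theorem f723084 : Led Lsl_at (LP (LK LD1_c5 LD2_c12 LD3_c32)) = v14533 :=
  Lgr Lrot66 (Lpr_ff (f723078 IH) (Lpe (K64.f723074 IH) (Lpr_ff (f723083 IH) (Lpn v14533))))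
theorem f824237 : (LP (LK LD1_c5 LD2_c6 LD3_c1)) = v14533 :=
  Lefun (Lecon (Lfl_af (K55.f721850 IH)) (K64.f824236 IH)) (f723084 IH)
theorem f180485 : Led Lsl_ft (LP (LK LD1_c10 LD2_c3 LD3_c5)) = (LP (LK LD1_c18 LD2_c21 LD3_c36)) :=
  Lre_f IH (LK LD1_c10 LD2_c3 LD3_c5) (LK LD1_c18 LD2_c21 LD3_c36) Lrfl Lrfl
theorem f824322 : Led Lsl_et (LP (LK LD1_c18 LD2_c21 LD3_c36)) = (LP (LK LD1_c11 LD2_c36 LD3_c3)) :=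
  Lgr Lrot69 (Lpe (f180485 IH) (Lpe (K17.f180470 IH) (Lpqs (f824237 IH) (Lpe (f723081 IH) (Lpe (K50.f387391 IH) (Lpr_ff (f824316 IH) (Lpn (LP (LK LD1_c11 LD2_c36 LD3_c3)))))))))
theorem f646031 : Led Lsl_gf K49.v4202 = K56.v5118 :=
  Lgr Lrot47 (Lpr_gt (K50.f646017 IH) (Lpe (K49.f646012 IH) (Lpr_ff (K56.f646027 IH) (Lpn K56.v5118))))
theorem f631847 : Led Lsl_df (LP (LK LD1_c2 LD2_c14 LD3_c61)) = K49.v4202 :=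
  Lgr Lrot38 (Lpr_dt (K49.f631845 IH) (Lpn K49.v4202))
theorem f500474 : Led Lsl_af (LP (LK LD1_c1 LD2_c22 LD3_c58)) = K35.v1636 :=
  Lgr Lrot0 (Lpr_at (K35.f500473 IH) (Lpn K35.v1636))
theorem f631850 : Led Lsl_at (LP (LK LD1_c2 LD2_c53 LD3_c57)) = K49.v4202 :=
  Lgr Lrot51 (Lpe (K49.f435602 IH) (Lpr_af (f500474 IH) (Lpqs (K35.f507958 IH) (Lpr_df (f631847 IH) (Lpn K49.v4202)))))
theorem f646032 : Led Lsl_gt K53.v4203 = K56.v5118 :=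
  Lgr Lrot5 (Lpe (K53.f631855 IH) (Lpr_at (f631850 IH) (Lpr_gf (f646031 IH) (Lpn K56.v5118))))
theorem f186192 : Led Lsl_et (LP (LK LD1_c10 LD2_c15 LD3_c32)) = (LP (LK LD1_c5 LD2_c12 LD3_c32)) :=
  Lre_e IH (LK LD1_c10 LD2_c15 LD3_c32) (LK LD1_c5 LD2_c12 LD3_c32) Lrfl Lrfl
theorem f23087 : Led Lsl_et (LP (LK LD1_c4 LD2_c49 LD3_c41)) = (LP (LK LD1_c2 LD2_c22 LD3_c35)) :=
  Lre_e IH (LK LD1_c4 LD2_c49 LD3_c41) (LK LD1_c2 LD2_c22 LD3_c35) Lrfl Lrfl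
theorem f23089 : Led Lsl_et (LP (LK LD1_c9 LD2_c5 LD3_c16)) = (LP (LK LD1_c16 LD2_c57 LD3_c16)) :=
  Lre_e IH (LK LD1_c9 LD2_c5 LD3_c16) (LK LD1_c16 LD2_c57 LD3_c16) Lrfl Lrfl
theorem f416633 : Led Lsl_gf (LP (LK LD1_c16 LD2_c57 LD3_c16)) = (LP (LK LD1_c9 LD2_c31 LD3_c22)) :=
  Lgr Lrot141 (Lpe (f23089 IH) (Lpr_dt (K56.f23088 IH) (Lpr_gt (K50.f9266 IH) (Lpe (K40.f9259 IH) (Lpr_et (f23087 IH) (Lpr_gt (K0.f22941 IH) (Lpe (K9.f22949 IH) (Lpr_gt (K35.f416631 IH) (Lpe (K24.f414938 IH) (Lpr_et (K53.f416531 IH) (Lpn (LP (LK LD1_c9 LD2_c31 LD3_c22)))))))))))))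
theorem f722004 : Led Lsl_df (LP (LK LD1_c9 LD2_c31 LD3_c22)) = K53.v14339 :=
  Lgr Lrot135 (Lpe (f416633 IH) (Lpe (K56.f408209 IH) (Lpr_et (f186192 IH) (Lpr_gt (K50.f186191 IH) (Lpe (K50.f185125 IH) (Lpr_dt (K10.f185085 IH) (Lpr_gt (K10.f185128 IH) (Lpr_df (K15.f186168 IH) (Lpr_et (K39.f185139 IH) (Lpr_gt (K53.f722001 IH) (Lpn K53.v14339)))))))))))
theorem f416532 : Led Lsl_gt (LP (LK LD1_c17 LD2_c33 LD3_c13)) = (LP (LK LD1_c9 LD2_c31 LD3_c22)) :=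
  Lre_g IH (LK LD1_c17 LD2_c33 LD3_c13) (LK LD1_c9 LD2_c31 LD3_c22) Lrfl Lrfl
theorem f824327 : Led Lsl_dt (LP (LK LD1_c18 LD2_c21 LD3_c36)) = (LP (LK LD1_c17 LD2_c33 LD3_c13)) :=
  Lgr Lrot136 (Lpr_et (f824322 IH) (Lpe (K64.f631983 IH) (Lpe (K64.f631982 IH) (Lpr_dt (K35.f631977 IH) (Lpe (K46.f645295 IH) (Lpr_df (K64.f646025 IH) (Lpe (f646032 IH) (Lpr_ef (K53.f722008 IH) (Lpe (f722004 IH) (Lpe (f416532 IH) (Lpn (LP (LK LD1_c17 LD2_c33 LD3_c13)))))))))))))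
theorem f824331 : Led Lsl_ff (LP (LK LD1_c11 LD2_c22 LD3_c46)) = (LP (LK LD1_c17 LD2_c33 LD3_c13)) :=
  Lgr Lrot19 (Lpe (K56.f180482 IH) (Lpr_ft (f180485 IH) (Lpr_dt (f824327 IH) (Lpn (LP (LK LD1_c17 LD2_c33 LD3_c13))))))
theorem f824335 : Led Lsl_at (LP (LK LD1_c11 LD2_c22 LD3_c46)) = (LP (LK LD1_c16 LD2_c57 LD3_c16)) :=
  Lgr Lrot26 (Lpr_ff (f824331 IH) (Lpr_gt (f416532 IH) (Lpe (f416633 IH) (Lpn (LP (LK LD1_c16 LD2_c57 LD3_c16))))))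
theorem f824339 : Led Lsl_af (LP (LK LD1_c10 LD2_c3 LD3_c5)) = (LP (LK LD1_c10 LD2_c15 LD3_c32)) :=
  Lgr Lrot117 (Lpr_dt (K17.f180473 IH) (Lpr_at (f824335 IH) (Lpe (K56.f408213 IH) (Lpn (LP (LK LD1_c10 LD2_c15 LD3_c32))))))
theorem f408215 : Led Lsl_ft (LP (LK LD1_c18 LD2_c39 LD3_c43)) = (LP (LK LD1_c10 LD2_c15 LD3_c32)) :=
  Lre_f IH (LK LD1_c18 LD2_c39 LD3_c43) (LK LD1_c10 LD2_c15 LD3_c32) Lrfl Lrfl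
theorem f824345 : Led Lsl_gf K69.v16642 = (LP (LK LD1_c18 LD2_c39 LD3_c43)) :=
  Lgr Lrot47 (Lpe (K69.f750830 IH) (Lpr_af (f824339 IH) (Lpe (f408215 IH) (Lpn (LP (LK LD1_c18 LD2_c39 LD3_c43))))))
theorem f924021 : Led Lsl_ct (LP (LK LD1_c18 LD2_c50 LD3_c52)) = (LP (LK LD1_c18 LD2_c39 LD3_c43)) :=
  Lgr Lrot8 (Lpr_gt (f924020 IH) (Lpr_dt (f180752 IH) (Lpr_gt (f924019 IH) (Lpe (f924017 IH) (Lpr_cf (f285254 IH) (Lpe (K39.f186188 IH) (Lpe (K69.f175808 IH) (Lpr_df (f750829 IH) (Lpr_gf (f824345 IH) (Lpn (LP (LK LD1_c18 LD2_c39 LD3_c43))))))))))))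
theorem f924022 : Led Lsl_ct (LP (LK LD1_c18 LD2_c50 LD3_c52)) = (LP (LK LD1_c18 LD2_c39 LD3_c43)) :=
  Leop (Lpe (f924021 IH) (Lpn (LP (LK LD1_c18 LD2_c50 LD3_c52))))
theorem seed_2471 : LEOK LG_c (LK LD1_c18 LD2_c50 LD3_c52) :=
  Leoe_c (LK LD1_c18 LD2_c50 LD3_c52) (f924022 IH)
theorem f924023 : Led Lsl_cf (LP (LK LD1_c18 LD2_c50 LD3_c52)) = (LP (LK LD1_c18 LD2_c39 LD3_c43)) :=
  Lgr Lrot166 (Lpr_gt (f924020 IH) (Lpr_dt (f180752 IH) (Lpr_gt (f924019 IH) (Lpe (f924017 IH) (Lpr_ct (f250047 IH) (Lpe (K39.f186188 IH) (Lpe (K69.f175808 IH) (Lpr_df (f750829 IH) (Lpr_gf (f824345 IH) (Lpn (LP (LK LD1_c18 LD2_c39 LD3_c43))))))))))))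
theorem f824343 : Led Lsl_at (LP (LK LD1_c18 LD2_c21 LD3_c36)) = (LP (LK LD1_c18 LD2_c39 LD3_c43)) :=
  Lgr Lrot66 (Lpe (f180485 IH) (Lpr_af (f824339 IH) (Lpe (f408215 IH) (Lpn (LP (LK LD1_c18 LD2_c39 LD3_c43))))))
theorem f824348 : Led Lsl_gt (LP (LK LD1_c11 LD2_c51 LD3_c4)) = (LP (LK LD1_c18 LD2_c39 LD3_c43)) :=
  Lgr Lrot46 (Lpe (K56.f699501 IH) (Lpr_ft (f180485 IH) (Lpr_at (f824343 IH) (Lpn (LP (LK LD1_c18 LD2_c39 LD3_c43))))))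
def v38691 : LQ := Led Lsl_ft (LP (LK LD1_c9 LD2_c14 LD3_c22))
theorem f903788 : Led Lsl_ft (LP (LK LD1_c9 LD2_c14 LD3_c22)) = v38691 :=
  Lrfl
theorem f903792 : Led Lsl_ff (LP (LK LD1_c9 LD2_c14 LD3_c22)) = v38691 :=
  Lgr Lrot3 (Lpr_ft (f903788 IH) (Lpn v38691))
theorem f285150 : Led Lsl_ct (LP (LK LD1_c9 LD2_c14 LD3_c22)) = (LP (LK LD1_c4 LD2_c39 LD3_c22)) :=
  Lre_c IH (LK LD1_c9 LD2_c14 LD3_c22) (LK LD1_c4 LD2_c39 LD3_c22) Lrfl Lrfl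
theorem f903795 : Led Lsl_ct (LP (LK LD1_c9 LD2_c14 LD3_c25)) = v38691 :=
  Lgr Lrot40 (Lpe (K39.f268432 IH) (Lpe (f285150 IH) (Lpr_ff (f903792 IH) (Lpn v38691))))
theorem f175695 : Led Lsl_et (LP (LK LD1_c6 LD2_c3 LD3_c44)) = (LP (LK LD1_c2 LD2_c57 LD3_c59)) :=
  Lre_e IH (LK LD1_c6 LD2_c3 LD3_c44) (LK LD1_c2 LD2_c57 LD3_c59) Lrfl Lrfl
theorem f176084 : Led Lsl_et (LP (LK LD1_c4 LD2_c39 LD3_c21)) = (LP (LK LD1_c9 LD2_c14 LD3_c22)) :=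
  Lre_e IH (LK LD1_c4 LD2_c39 LD3_c21) (LK LD1_c9 LD2_c14 LD3_c22) Lrfl Lrfl
theorem f268377 : Led Lsl_af (LP (LK LD1_c6 LD2_c3 LD3_c44)) = (LP (LK LD1_c9 LD2_c14 LD3_c22)) :=
  Lgr Lrot50 (Lpr_et (f175695 IH) (Lpr_at (K15.f268326 IH) (Lpr_et (f176084 IH) (Lpn (LP (LK LD1_c9 LD2_c14 LD3_c22))))))
def v16638 : LQ := Led Lsl_gf (LP (LK LD1_c6 LD2_c3 LD3_c44))
theorem f750817 : Led Lsl_gf (LP (LK LD1_c6 LD2_c3 LD3_c44)) = v16638 :=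
  Lrfl
theorem f903797 : Led Lsl_gf v16638 = v38691 :=
  Lgr Lrot47 (Lpe (f750817 IH) (Lpr_af (f268377 IH) (Lpr_ff (f903792 IH) (Lpn v38691))))
def v41309 : LQ := Led Lsl_gf (LP (LK LD1_c9 LD2_c55 LD3_c60))
theorem f924009 : Led Lsl_gf (LP (LK LD1_c9 LD2_c55 LD3_c60)) = v41309 :=
  Lrfl
def v4899 : LQ := Led Lsl_ct (LP (LK LD1_c2 LD2_c52 LD3_c14))
def v24666 : LQ := Led Lsl_dt v4899
theorem f825037 : Led Lsl_dt v4899 = v24666 :=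
  Lrfl
def v16046 : LQ := Led Lsl_ct (LP (LK LD1_c5 LD2_c51 LD3_c61))
theorem f744976 : Led Lsl_ct (LP (LK LD1_c5 LD2_c51 LD3_c61)) = v16046 :=
  Lrfl
theorem f640773 : Led Lsl_ct (LP (LK LD1_c2 LD2_c52 LD3_c14)) = v4899 :=
  Lrfl
theorem f640774 : Led Lsl_cf (LP (LK LD1_c2 LD2_c52 LD3_c14)) = v4899 :=
  Lgr Lrot11 (Lpr_ct (f640773 IH) (Lpn v4899))
theorem f744978 : Led Lsl_ef v4899 = v16046 :=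
  Lgr Lrot28 (Lpe (f640774 IH) (Lpr_et (K17.f22382 IH) (Lpr_ct (f744976 IH) (Lpn v16046))))
theorem f744979 : Led Lsl_et v4899 = v16046 :=
  Lgr Lrot87 (Lpr_ef (f744978 IH) (Lpn v16046))
def v4895 : LQ := Led Lsl_ct (LP (LK LD1_c2 LD2_c52 LD3_c11))
def v24652 : LQ := Led Lsl_gt v4895
theorem f824993 : Led Lsl_gt v4895 = v24652 :=
  Lrfl
def v11855 : LQ := Led Lsl_ct K35.v3912
theorem f686173 : Led Lsl_ct K35.v3912 = v11855 :=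
  Lrfl
theorem f640764 : Led Lsl_ct (LP (LK LD1_c2 LD2_c52 LD3_c11)) = v4895 :=
  Lrfl
theorem f640765 : Led Lsl_cf (LP (LK LD1_c2 LD2_c52 LD3_c11)) = v4895 :=
  Lgr Lrot11 (Lpr_ct (f640764 IH) (Lpn v4895))
theorem f686176 : Led Lsl_ff v4895 = v11855 :=
  Lgr Lrot23 (Lpe (f640765 IH) (Lpr_ft (K35.f627870 IH) (Lpr_ct (f686173 IH) (Lpn v11855))))
theorem f686178 : Led Lsl_ft v4895 = v11855 :=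
  Lgr Lrot48 (Lpr_ff (f686176 IH) (Lpn v11855))
theorem f627786 : Led Lsl_at (LP (LK LD1_c2 LD2_c52 LD3_c11)) = K35.v3897 :=
  Lgr Lrot51 (Lpe (K53.f22375 IH) (Lpr_af (K35.f500205 IH) (Lpqs (K35.f623414 IH) (Lpr_df (K53.f627781 IH) (Lpn K35.v3897)))))
theorem f627869 : Led Lsl_at (LP (LK LD1_c2 LD2_c52 LD3_c14)) = K35.v3912 :=
  Lgr Lrot66 (Lpr_ff (K35.f627782 IH) (Lpe (f627786 IH) (Lpr_ff (K35.f627868 IH) (Lpn K35.v3912))))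
theorem f686174 : Led Lsl_af v4899 = v11855 :=
  Lgr Lrot68 (Lpe (f640774 IH) (Lpr_at (f627869 IH) (Lpr_ct (f686173 IH) (Lpn v11855))))
theorem f824994 : Led Lsl_gf v4899 = v24652 :=
  Lgr Lrot76 (Lpr_af (f686174 IH) (Lpe (f686178 IH) (Lpr_gt (f824993 IH) (Lpn v24652))))
theorem f645687 : Led Lsl_ff (LP (LK LD1_c2 LD2_c57 LD3_c34)) = K49.v3215 :=
  Lgr Lrot3 (Lpr_ft (K65.f645684 IH) (Lpn K49.v3215))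
theorem f645688 : Led Lsl_at (LP (LK LD1_c2 LD2_c57 LD3_c34)) = (LP (LK LD1_c3 LD2_c24 LD3_c15)) :=
  Lgr Lrot66 (Lpr_ff (f645687 IH) (Lpe (K65.f645682 IH) (Lpr_ff (K65.f645676 IH) (Lpn (LP (LK LD1_c3 LD2_c24 LD3_c15))))))
theorem f649326 : Led Lsl_gt K49.v3215 = K52.v5778 :=
  Lgr Lrot5 (Lpe (f645687 IH) (Lpr_at (f645688 IH) (Lpr_gf (K52.f649325 IH) (Lpn K52.v5778))))
theorem f649327 : Led Lsl_gf K49.v3216 = K35.v1309 :=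
  Lgr Lrot141 (Lpe (K49.f624639 IH) (Lpr_dt (K49.f624634 IH) (Lpr_gt (f649326 IH) (Lpe (K52.f649323 IH) (Lpe (K41.f505481 IH) (Lpe (K48.f435506 IH) (Lpe (K32.f435494 IH) (Lpr_gt (K32.f435373 IH) (Lpe (K11.f26311 IH) (Lpr_et (K35.f494745 IH) (Lpn K35.v1309)))))))))))
theorem f624640 : Led Lsl_cf K46.v1280 = K49.v3216 :=
  Lgr Lrot39 (Lpe (K46.f494518 IH) (Lpr_ct (K24.f454829 IH) (Lpr_et (K49.f624639 IH) (Lpn K49.v3216))))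
theorem f824995 : Led Lsl_cf K49.v5116 = v24652 :=
  Lgr Lrot99 (Lpe (K49.f646015 IH) (Lpqs (K46.f645297 IH) (Lpr_cf (f624640 IH) (Lpr_gf (f649327 IH) (Lpr_cf (K53.f496137 IH) (Lpr_gf (K48.f669034 IH) (Lpe (K48.f669032 IH) (Lpr_gt (K35.f163613 IH) (Lpr_ct (f640764 IH) (Lpr_gt (f824993 IH) (Lpn v24652)))))))))))
theorem f631971 : Led Lsl_cf K35.v1362 = K35.v4216 :=
  Lgr Lrot39 (Lpe (K35.f495121 IH) (Lpr_ct (K32.f435484 IH) (Lpr_et (K35.f631969 IH) (Lpn K35.v4216))))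
theorem f495122 : Led Lsl_gf K35.v570 = K35.v1362 :=
  Lgr Lrot141 (Lpe (K35.f454809 IH) (Lpr_dt (K46.f25452 IH) (Lpe (K46.f438444 IH) (Lpe (K29.f415345 IH) (Lpr_et (K32.f415349 IH) (Lpr_gt (K46.f438442 IH) (Lpr_dt (K29.f438810 IH) (Lpr_gt (K29.f417083 IH) (Lpe (K32.f23281 IH) (Lpr_et (K35.f495120 IH) (Lpn K35.v1362)))))))))))
theorem f624629 : Led Lsl_gf K55.v1337 = K35.v3212 :=
  Lgr Lrot134 (Lpe (K55.f494911 IH) (Lpr_et (K35.f446184 IH) (Lpr_gt (K32.f446193 IH) (Lpe (K29.f57159 IH) (Lpr_dt (K29.f438810 IH) (Lpr_gt (K29.f417083 IH) (Lpe (K32.f23281 IH) (Lpr_et (K35.f495120 IH) (Lpe (f495122 IH) (Lpr_dt (K35.f624626 IH) (Lpn K35.v3212)))))))))))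
theorem f646016 : Led Lsl_gf K53.v4203 = K49.v5116 :=
  Lgr Lrot143 (Lpe (K53.f631854 IH) (Lpe (K35.f446201 IH) (Lpr_df (K55.f494912 IH) (Lpr_gf (f624629 IH) (Lpe (K35.f624626 IH) (Lpr_gf (f495122 IH) (Lpr_cf (f631971 IH) (Lpe (K46.f631974 IH) (Lpq (K46.f645297 IH) (Lpr_dt (K49.f646015 IH) (Lpn K49.v5116)))))))))))
def v23827 : LQ := Led Lsl_dt K56.v4205
theorem f820740 : Led Lsl_dt K56.v4205 = v23827 :=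
  Lrfl
theorem f820742 : Led Lsl_df K56.v4205 = v23827 :=
  Lgr Lrot38 (Lpr_dt (f820740 IH) (Lpn v23827))
theorem f825040 : Led Lsl_gf v23827 = v24666 :=
  Lgr Lrot143 (Lpe (f820742 IH) (Lpe (K56.f631864 IH) (Lpe (K35.f27165 IH) (Lpe (K50.f186190 IH) (Lpr_df (K53.f631854 IH) (Lpr_gf (f646016 IH) (Lpr_cf (f824995 IH) (Lpe (f824994 IH) (Lpr_dt (f825037 IH) (Lpn v24666))))))))))
theorem f185099 : Led Lsl_et (LP (LK LD1_c1 LD2_c4 LD3_c38)) = (LP (LK LD1_c2 LD2_c15 LD3_c1)) :=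
  Lre_e IH (LK LD1_c1 LD2_c4 LD3_c38) (LK LD1_c2 LD2_c15 LD3_c1) Lrfl Lrfl
theorem f631867 : Led Lsl_ef (LP (LK LD1_c2 LD2_c15 LD3_c3)) = K56.v4205 :=
  Lgr Lrot28 (Lpr_ct (K8.f35027 IH) (Lpr_et (f185099 IH) (Lpr_ct (K56.f631864 IH) (Lpn K56.v4205))))
theorem f825042 : Led Lsl_gf v16046 = (LP (LK LD1_c9 LD2_c55 LD3_c60)) :=
  Lgr Lrot141 (Lpe (f744979 IH) (Lpr_dt (f825037 IH) (Lpe (f825040 IH) (Lpe (f820740 IH) (Lpe (f631867 IH) (Lpr_gt (K10.f165826 IH) (Lpr_dt (K9.f28368 IH) (Lpe (K14.f250033 IH) (Lpe (K14.f165655 IH) (Lpr_et (f250046 IH) (Lpn (LP (LK LD1_c9 LD2_c55 LD3_c60)))))))))))))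
def v34537 : LQ := Led Lsl_et v11855
theorem f871527 : Led Lsl_et v11855 = v34537 :=
  Lrfl
def v11817 : LQ := Led Lsl_ct K35.v3897
theorem f686005 : Led Lsl_ct K35.v3897 = v11817 :=
  Lrfl
theorem f686007 : Led Lsl_cf K35.v3897 = v11817 :=
  Lgr Lrot11 (Lpr_ct (f686005 IH) (Lpn v11817))
theorem f686011 : Led Lsl_at v4895 = v11817 :=
  Lgr Lrot107 (Lpe (f640764 IH) (Lpr_af (K35.f627780 IH) (Lpr_cf (f686007 IH) (Lpn v11817))))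
theorem f686008 : Led Lsl_ff v4899 = v11817 :=
  Lgr Lrot23 (Lpe (f640774 IH) (Lpr_ft (K35.f627783 IH) (Lpr_ct (f686005 IH) (Lpn v11817))))
theorem f686177 : Led Lsl_at v4899 = v11855 :=
  Lgr Lrot66 (Lpr_ff (f686008 IH) (Lpe (f686011 IH) (Lpr_ff (f686176 IH) (Lpn v11855))))
theorem f871528 : Led Lsl_af v16046 = v34537 :=
  Lgr Lrot50 (Lpe (f744978 IH) (Lpr_at (f686177 IH) (Lpr_et (f871527 IH) (Lpn v34537))))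
theorem f924010 : Led Lsl_ff v34537 = v41309 :=
  Lgr Lrot52 (Lpe (f871528 IH) (Lpr_gf (f825042 IH) (Lpr_gf (f924009 IH) (Lpn v41309))))
theorem f686183 : Led Lsl_ef K35.v3912 = K49.v11856 :=
  Lgr Lrot88 (Lpr_et (K49.f686180 IH) (Lpn K49.v11856))
theorem f871529 : Led Lsl_cf K49.v11856 = v34537 :=
  Lgr Lrot39 (Lpe (f686183 IH) (Lpr_ct (f686173 IH) (Lpr_et (f871527 IH) (Lpn v34537))))
theorem f924011 : Led Lsl_ct (LP (LK LD1_c10 LD2_c2 LD3_c41)) = v41309 :=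
  Lgr Lrot40 (Lpr_ff (K49.f686186 IH) (Lpr_cf (f871529 IH) (Lpr_ff (f924010 IH) (Lpn v41309))))
def v41072 : LQ := Led Lsl_ct (LP (LK LD1_c9 LD2_c51 LD3_c9))
theorem f921837 : Led Lsl_ct (LP (LK LD1_c9 LD2_c51 LD3_c9)) = v41072 :=
  Lrfl
theorem f186197 : Led Lsl_ct (LP (LK LD1_c6 LD2_c3 LD3_c44)) = (LP (LK LD1_c2 LD2_c57 LD3_c60)) :=
  Lre_c IH (LK LD1_c6 LD2_c3 LD3_c44) (LK LD1_c2 LD2_c57 LD3_c60) Lrfl Lrfl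
theorem f924014 : v41072 = v16638 :=
  (Llr Lrot152 (Lpe (f921837 IH) (Lpr_gf (K70.f334815 IH) (Lpr_df (K36.f334837 IH) (Lpe (K49.f334833 IH) (Lpr_ct (f924011 IH) (Lpe (f924009 IH) (Lpr_ct (f250047 IH) (Lpe (K39.f186188 IH) (Lpe (f186197 IH) (Lpr_gf (f750817 IH) (Lpn v16638)))))))))))).symm
theorem f921838 : Led Lsl_cf (LP (LK LD1_c9 LD2_c51 LD3_c9)) = v41072 :=
  Lgr Lrot11 (Lpr_ct (f921837 IH) (Lpn v41072))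
theorem f924028 : Led Lsl_ct (LP (LK LD1_c10 LD2_c23 LD3_c17)) = (LP (LK LD1_c10 LD2_c7 LD3_c16)) :=
  Lgr Lrot110 (Lpe (f924020 IH) (Lpr_cf (f924023 IH) (Lpe (f824348 IH) (Lpe (K56.f175806 IH) (Lpe (K56.f285336 IH) (Lpr_ct (f903795 IH) (Lpe (f903797 IH) (Lpq (f924014 IH) (Lpe (f921838 IH) (Lpr_df (K70.f414574 IH) (Lpn (LP (LK LD1_c10 LD2_c7 LD3_c16)))))))))))))
theorem f924029 : Led Lsl_ct (LP (LK LD1_c10 LD2_c23 LD3_c17)) = (LP (LK LD1_c10 LD2_c7 LD3_c16)) :=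
  Leop (Lpe (f924028 IH) (Lpn (LP (LK LD1_c10 LD2_c23 LD3_c17))))
theorem seed_2472 : LEOK LG_c (LK LD1_c10 LD2_c23 LD3_c17) :=
  Leoe_c (LK LD1_c10 LD2_c23 LD3_c17) (f924029 IH)
def v14670 : LQ := Led Lsl_ct (LP (LK LD1_c5 LD2_c16 LD3_c52))
theorem f724878 : Led Lsl_ct (LP (LK LD1_c5 LD2_c16 LD3_c52)) = v14670 :=
  Lrfl
def v14668 : LQ := Led Lsl_ft (LP (LK LD1_c5 LD2_c16 LD3_c51))
theorem f724870 : Led Lsl_ft (LP (LK LD1_c5 LD2_c16 LD3_c51)) = v14668 :=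
  Lrfl
theorem f724873 : Led Lsl_ff (LP (LK LD1_c5 LD2_c16 LD3_c51)) = v14668 :=
  Lgr Lrot3 (Lpr_ft (f724870 IH) (Lpn v14668))
def v14667 : LQ := Led Lsl_ct (LP (LK LD1_c5 LD2_c16 LD3_c51))
theorem f724868 : Led Lsl_ct (LP (LK LD1_c5 LD2_c16 LD3_c51)) = v14667 :=
  Lrfl
theorem f724863 : Led Lsl_et (LP (LK LD1_c5 LD2_c16 LD3_c51)) = (LP (LK LD1_c10 LD2_c23 LD3_c17)) :=
  Lre_e IH (LK LD1_c5 LD2_c16 LD3_c51) (LK LD1_c10 LD2_c23 LD3_c17) Lrfl Lrfl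
theorem f724869 : Led Lsl_cf (LP (LK LD1_c5 LD2_c16 LD3_c51)) = v14667 :=
  Lgr Lrot11 (Lpr_ct (f724868 IH) (Lpn v14667))
theorem f924034 : v14667 = (LP (LK LD1_c5 LD2_c8 LD3_c26)) :=
  (Llr Lrot39 (Lpe (f724869 IH) (Lpr_et (f724863 IH) (Lpr_ct (f924028 IH) (Lpr_et (K70.f164084 IH) (Lpn (LP (LK LD1_c5 LD2_c8 LD3_c26)))))))).symm
def v14412 : LQ := Led Lsl_ft (LP (LK LD1_c5 LD2_c8 LD3_c26))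
theorem f722394 : Led Lsl_ft (LP (LK LD1_c5 LD2_c8 LD3_c26)) = v14412 :=
  Lrfl
theorem f924038 : Led Lsl_cf v14668 = v14412 :=
  Lgr Lrot108 (Lpe (f724873 IH) (Lpr_ct (f724868 IH) (Lpqs (f924034 IH) (Lpr_ft (f722394 IH) (Lpn v14412)))))
def v14666 : LQ := Led Lsl_at (LP (LK LD1_c5 LD2_c16 LD3_c51))
theorem f724860 : Led Lsl_at (LP (LK LD1_c5 LD2_c16 LD3_c51)) = v14666 :=
  Lrfl
theorem f724861 : Led Lsl_af (LP (LK LD1_c5 LD2_c16 LD3_c51)) = v14666 :=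
  Lgr Lrot0 (Lpr_at (f724860 IH) (Lpn v14666))
theorem f32623 : Led Lsl_gt (LP (LK LD1_c5 LD2_c16 LD3_c52)) = (LP (LK LD1_c2 LD2_c35 LD3_c8)) :=
  Lre_g IH (LK LD1_c5 LD2_c16 LD3_c52) (LK LD1_c2 LD2_c35 LD3_c8) Lrfl Lrfl
theorem f724864 : Led Lsl_ft (LP (LK LD1_c5 LD2_c16 LD3_c52)) = v14666 :=
  Lgr Lrot2 (Lpr_gt (f32623 IH) (Lpr_gt (K35.f35173 IH) (Lpr_af (f724861 IH) (Lpn v14666))))
theorem f724871 : Led Lsl_af (LP (LK LD1_c5 LD2_c16 LD3_c52)) = v14668 :=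
  Lgr Lrot45 (Lpr_ft (f724864 IH) (Lpe (f724861 IH) (Lpr_ft (f724870 IH) (Lpn v14668))))
theorem f722396 : Led Lsl_ff (LP (LK LD1_c5 LD2_c8 LD3_c26)) = v14412 :=
  Lgr Lrot3 (Lpr_ft (f722394 IH) (Lpn v14412))
def v14409 : LQ := Led Lsl_at (LP (LK LD1_c5 LD2_c8 LD3_c26))
theorem f722383 : Led Lsl_at (LP (LK LD1_c5 LD2_c8 LD3_c26)) = v14409 :=
  Lrfl
theorem f722384 : Led Lsl_af (LP (LK LD1_c5 LD2_c8 LD3_c26)) = v14409 :=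
  Lgr Lrot0 (Lpr_at (f722383 IH) (Lpn v14409))
theorem f722386 : Led Lsl_ft (LP (LK LD1_c5 LD2_c8 LD3_c27)) = v14409 :=
  Lgr Lrot2 (Lpr_gt (K67.f163968 IH) (Lpr_gt (K70.f164083 IH) (Lpr_af (f722384 IH) (Lpn v14409))))
theorem f722387 : Led Lsl_ff (LP (LK LD1_c5 LD2_c8 LD3_c27)) = v14409 :=
  Lgr Lrot3 (Lpr_ft (f722386 IH) (Lpn v14409))
theorem f722397 : Led Lsl_at (LP (LK LD1_c5 LD2_c8 LD3_c27)) = v14412 :=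
  Lgr Lrot66 (Lpr_ff (f722387 IH) (Lpe (f722383 IH) (Lpr_ff (f722396 IH) (Lpn v14412))))
theorem f924040 : v14670 = (LP (LK LD1_c5 LD2_c8 LD3_c27)) :=
  (Llr Lrot111 (Lpe (f724878 IH) (Lpr_af (f724871 IH) (Lpr_cf (f924038 IH) (Lpe (f722397 IH) (Lpn (LP (LK LD1_c5 LD2_c8 LD3_c27)))))))).symm
theorem f924042 : Led Lsl_ct (LP (LK LD1_c5 LD2_c16 LD3_c52)) = (LP (LK LD1_c5 LD2_c8 LD3_c27)) :=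
  Leop (Lpq (f924040 IH) (Lpe (f724878 IH) (Lpn (LP (LK LD1_c5 LD2_c16 LD3_c52)))))
theorem seed_2473 : LEOK LG_c (LK LD1_c5 LD2_c16 LD3_c52) :=
  Leoe_c (LK LD1_c5 LD2_c16 LD3_c52) (f924042 IH)
def v16627 : LQ := Led Lsl_ct (LP (LK LD1_c6 LD2_c3 LD3_c33))
theorem f750782 : Led Lsl_ct (LP (LK LD1_c6 LD2_c3 LD3_c33)) = v16627 :=
  Lrfl
theorem f72049 : Led Lsl_ft (LP (LK LD1_c11 LD2_c37 LD3_c3)) = (LP (LK LD1_c5 LD2_c55 LD3_c56)) :=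
  Lre_f IH (LK LD1_c11 LD2_c37 LD3_c3) (LK LD1_c5 LD2_c55 LD3_c56) Lrfl Lrfl
theorem f562990 : Led Lsl_ft (LP (LK LD1_c9 LD2_c12 LD3_c39)) = (LP (LK LD1_c17 LD2_c6 LD3_c57)) :=
  Lre_f IH (LK LD1_c9 LD2_c12 LD3_c39) (LK LD1_c17 LD2_c6 LD3_c57) Lrfl Lrfl
theorem f562991 : Led Lsl_ef (LP (LK LD1_c11 LD2_c37 LD3_c3)) = (LP (LK LD1_c17 LD2_c6 LD3_c57)) :=
  Lgr Lrot21 (Lpr_ft (f72049 IH) (Lpr_et (K64.f71996 IH) (Lpr_ft (K40.f562924 IH) (Lpr_et (K50.f509341 IH) (Lpr_ft (f562990 IH) (Lpn (LP (LK LD1_c17 LD2_c6 LD3_c57))))))))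
theorem f71373 : Led Lsl_at (LP (LK LD1_c11 LD2_c37 LD3_c3)) = (LP (LK LD1_c5 LD2_c56 LD3_c60)) :=
  Lre_a IH (LK LD1_c11 LD2_c37 LD3_c3) (LK LD1_c5 LD2_c56 LD3_c60) Lrfl Lrfl
theorem f442488 : Led Lsl_et (LP (LK LD1_c5 LD2_c56 LD3_c60)) = (LP (LK LD1_c11 LD2_c39 LD3_c17)) :=
  Lre_e IH (LK LD1_c5 LD2_c56 LD3_c60) (LK LD1_c11 LD2_c39 LD3_c17) Lrfl Lrfl
theorem f616401 : Led Lsl_at (LP (LK LD1_c11 LD2_c39 LD3_c17)) = (LP (LK LD1_c17 LD2_c6 LD3_c57)) :=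
  Lgr Lrot80 (Lpe (f442488 IH) (Lpe (f71373 IH) (Lpr_ef (f562991 IH) (Lpn (LP (LK LD1_c17 LD2_c6 LD3_c57))))))
theorem f442444 : Led Lsl_ft (LP (LK LD1_c5 LD2_c57 LD3_c13)) = (LP (LK LD1_c11 LD2_c39 LD3_c17)) :=
  Lre_f IH (LK LD1_c5 LD2_c57 LD3_c13) (LK LD1_c11 LD2_c39 LD3_c17) Lrfl Lrfl
theorem f616462 : Led Lsl_gt (LP (LK LD1_c11 LD2_c39 LD3_c47)) = (LP (LK LD1_c17 LD2_c6 LD3_c57)) :=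
  Lgr Lrot46 (Lpe (K69.f442448 IH) (Lpr_ft (f442444 IH) (Lpr_at (f616401 IH) (Lpn (LP (LK LD1_c17 LD2_c6 LD3_c57))))))
theorem f616420 : Led Lsl_ct (LP (LK LD1_c17 LD2_c6 LD3_c57)) = (LP (LK LD1_c27 LD2_c0 LD3_c8)) :=
  Lre_c IH (LK LD1_c17 LD2_c6 LD3_c57) (LK LD1_c27 LD2_c0 LD3_c8) Lrfl Lrfl
theorem f616404 : Led Lsl_ct (LP (LK LD1_c27 LD2_c0 LD3_c8)) = (LP (LK LD1_c17 LD2_c6 LD3_c57)) :=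
  Lre_c IH (LK LD1_c27 LD2_c0 LD3_c8) (LK LD1_c17 LD2_c6 LD3_c57) Lrfl Lrfl
theorem f616405 : Led Lsl_et (LP (LK LD1_c20 LD2_c35 LD3_c30)) = (LP (LK LD1_c27 LD2_c0 LD3_c8)) :=
  Lgr Lrot158 (Lpe (K69.f616403 IH) (Lpr_ef (f562991 IH) (Lpe (f616404 IH) (Lpn (LP (LK LD1_c27 LD2_c0 LD3_c8))))))
theorem f616411 : Led Lsl_ef (LP (LK LD1_c20 LD2_c35 LD3_c30)) = (LP (LK LD1_c27 LD2_c0 LD3_c8)) :=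
  Lgr Lrot88 (Lpr_et (f616405 IH) (Lpn (LP (LK LD1_c27 LD2_c0 LD3_c8))))
theorem f616415 : Led Lsl_at (LP (LK LD1_c20 LD2_c35 LD3_c30)) = (LP (LK LD1_c11 LD2_c39 LD3_c16)) :=
  Lre_a IH (LK LD1_c20 LD2_c35 LD3_c30) (LK LD1_c11 LD2_c39 LD3_c16) Lrfl Lrfl
theorem f616416 : Led Lsl_et (LP (LK LD1_c11 LD2_c39 LD3_c16)) = (LP (LK LD1_c20 LD2_c38 LD3_c48)) :=
  Lre_e IH (LK LD1_c11 LD2_c39 LD3_c16) (LK LD1_c20 LD2_c38 LD3_c48) Lrfl Lrfl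
theorem f616417 : Led Lsl_at (LP (LK LD1_c20 LD2_c38 LD3_c48)) = (LP (LK LD1_c27 LD2_c0 LD3_c8)) :=
  Lgr Lrot80 (Lpe (f616416 IH) (Lpe (f616415 IH) (Lpr_ef (f616411 IH) (Lpn (LP (LK LD1_c27 LD2_c0 LD3_c8))))))
theorem f616428 : Led Lsl_ft (LP (LK LD1_c11 LD2_c39 LD3_c46)) = (LP (LK LD1_c20 LD2_c38 LD3_c48)) :=
  Lre_f IH (LK LD1_c11 LD2_c39 LD3_c46) (LK LD1_c20 LD2_c38 LD3_c48) Lrfl Lrfl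
theorem f616414 : Led Lsl_ft (LP (LK LD1_c27 LD2_c0 LD3_c8)) = (LP (LK LD1_c17 LD2_c6 LD3_c55)) :=
  Lre_f IH (LK LD1_c27 LD2_c0 LD3_c8) (LK LD1_c17 LD2_c6 LD3_c55) Lrfl Lrfl
theorem f616429 : Led Lsl_af (LP (LK LD1_c11 LD2_c39 LD3_c46)) = (LP (LK LD1_c17 LD2_c6 LD3_c55)) :=
  Lgr Lrot45 (Lpr_ft (f616428 IH) (Lpr_at (f616417 IH) (Lpr_ft (f616414 IH) (Lpn (LP (LK LD1_c17 LD2_c6 LD3_c55))))))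
theorem f442450 : Led Lsl_gt (LP (LK LD1_c20 LD2_c39 LD3_c45)) = (LP (LK LD1_c11 LD2_c39 LD3_c46)) :=
  Lre_g IH (LK LD1_c20 LD2_c39 LD3_c45) (LK LD1_c11 LD2_c39 LD3_c46) Lrfl Lrfl
theorem f616439 : Led Lsl_gf (LP (LK LD1_c20 LD2_c39 LD3_c45)) = (LP (LK LD1_c27 LD2_c0 LD3_c8)) :=
  Lgr Lrot47 (Lpr_gt (f442450 IH) (Lpr_af (f616429 IH) (Lpe (f616414 IH) (Lpn (LP (LK LD1_c27 LD2_c0 LD3_c8))))))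
theorem f724879 : Led Lsl_cf (LP (LK LD1_c5 LD2_c16 LD3_c52)) = v14670 :=
  Lgr Lrot11 (Lpr_ct (f724878 IH) (Lpn v14670))
theorem f164360 : Led Lsl_df (LP (LK LD1_c5 LD2_c52 LD3_c54)) = (LP (LK LD1_c5 LD2_c14 LD3_c51)) :=
  Lgr Lrot38 (Lpr_dt (K10.f164357 IH) (Lpn (LP (LK LD1_c5 LD2_c14 LD3_c51))))
def v12946 : LQ := Led Lsl_gf (LP (LK LD1_c4 LD2_c35 LD3_c10))
theorem f699757 : Led Lsl_gf (LP (LK LD1_c4 LD2_c35 LD3_c10)) = v12946 :=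
  Lrfl
theorem f151861 : Led Lsl_af (LP (LK LD1_c4 LD2_c35 LD3_c10)) = (LP (LK LD1_c2 LD2_c52 LD3_c53)) :=
  Lgr Lrot0 (Lpr_at (K7.f151847 IH) (Lpn (LP (LK LD1_c2 LD2_c52 LD3_c53))))
theorem f164364 : Led Lsl_ft (LP (LK LD1_c5 LD2_c52 LD3_c54)) = (LP (LK LD1_c2 LD2_c52 LD3_c53)) :=
  Lre_f IH (LK LD1_c5 LD2_c52 LD3_c54) (LK LD1_c2 LD2_c52 LD3_c53) Lrfl Lrfl
theorem f699758 : Led Lsl_gt (LP (LK LD1_c5 LD2_c52 LD3_c54)) = v12946 :=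
  Lgr Lrot5 (Lpr_ft (f164364 IH) (Lpe (f151861 IH) (Lpr_gf (f699757 IH) (Lpn v12946))))
def v4992 : LQ := Led Lsl_ct (LP (LK LD1_c2 LD2_c55 LD3_c0))
theorem f641224 : Led Lsl_ct (LP (LK LD1_c2 LD2_c55 LD3_c0)) = v4992 :=
  Lrfl
theorem f641225 : Led Lsl_cf (LP (LK LD1_c2 LD2_c55 LD3_c0)) = v4992 :=
  Lgr Lrot11 (Lpr_ct (f641224 IH) (Lpn v4992))
def v24808 : LQ := Led Lsl_gf v4992
theorem f825704 : Led Lsl_gf v4992 = v24808 :=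
  Lrfl
theorem f924050 : Led Lsl_ct v12946 = v24808 :=
  Lgr Lrot152 (Lpe (f699758 IH) (Lpr_df (f164360 IH) (Lpe (K67.f165239 IH) (Lpq (f924040 IH) (Lpe (f724879 IH) (Lpr_gt (f32623 IH) (Lpe (K56.f35163 IH) (Lpr_df (K2.f82197 IH) (Lpr_cf (f641225 IH) (Lpr_gf (f825704 IH) (Lpn v24808)))))))))))
theorem f151870 : Led Lsl_bt (LP (LK LD1_c9 LD2_c6 LD3_c53)) = (LP (LK LD1_c16 LD2_c58 LD3_c41)) :=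
  Lre_b IH (LK LD1_c9 LD2_c6 LD3_c53) (LK LD1_c16 LD2_c58 LD3_c41) Lrfl Lrfl
theorem f334656 : Led Lsl_bt (LP (LK LD1_c11 LD2_c51 LD3_c48)) = (LP (LK LD1_c6 LD2_c4 LD3_c8)) :=
  Lre_b IH (LK LD1_c11 LD2_c51 LD3_c48) (LK LD1_c6 LD2_c4 LD3_c8) Lrfl Lrfl
theorem f548585 : Led Lsl_bf (LP (LK LD1_c5 LD2_c52 LD3_c54)) = (LP (LK LD1_c9 LD2_c14 LD3_c41)) :=
  Lgr Lrot81 (Lpe (K7.f151866 IH) (Lpr_bt (f151870 IH) (Lpr_at (K38.f548577 IH) (Lpr_bt (f334656 IH) (Lpe (K70.f334653 IH) (Lpn (LP (LK LD1_c9 LD2_c14 LD3_c41))))))))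
def v38723 : LQ := Led Lsl_ct (LP (LK LD1_c9 LD2_c14 LD3_c41))
theorem f904085 : Led Lsl_ct (LP (LK LD1_c9 LD2_c14 LD3_c41)) = v38723 :=
  Lrfl
def v13100 : LQ := Led Lsl_et (LP (LK LD1_c4 LD2_c39 LD3_c30))
theorem f701110 : Led Lsl_et (LP (LK LD1_c4 LD2_c39 LD3_c30)) = v13100 :=
  Lrfl
theorem f701112 : Led Lsl_cf (LP (LK LD1_c4 LD2_c39 LD3_c31)) = v13100 :=
  Lgr Lrot39 (Lpr_et (K35.f176589 IH) (Lpr_ct (K10.f26700 IH) (Lpr_et (f701110 IH) (Lpn v13100))))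
theorem f904089 : Led Lsl_ff v13100 = v38723 :=
  Lgr Lrot23 (Lpe (f701112 IH) (Lpr_ft (K70.f176586 IH) (Lpr_ct (f904085 IH) (Lpn v38723))))
theorem f186292 : Led Lsl_et (LP (LK LD1_c6 LD2_c4 LD3_c5)) = (LP (LK LD1_c2 LD2_c58 LD3_c7)) :=
  Lre_e IH (LK LD1_c6 LD2_c4 LD3_c5) (LK LD1_c2 LD2_c58 LD3_c7) Lrfl Lrfl
theorem f701111 : Led Lsl_af (LP (LK LD1_c6 LD2_c4 LD3_c5)) = v13100 :=
  Lgr Lrot50 (Lpr_et (f186292 IH) (Lpe (K35.f334661 IH) (Lpr_et (f701110 IH) (Lpn v13100))))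
def v16666 : LQ := Led Lsl_ft (LP (LK LD1_c6 LD2_c4 LD3_c5))
theorem f750899 : Led Lsl_ft (LP (LK LD1_c6 LD2_c4 LD3_c5)) = v16666 :=
  Lrfl
theorem f904090 : Led Lsl_at v16666 = v38723 :=
  Lgr Lrot66 (Lpe (f750899 IH) (Lpr_af (f701111 IH) (Lpr_ff (f904089 IH) (Lpn v38723))))
def v16663 : LQ := Led Lsl_gt (LP (LK LD1_c6 LD2_c4 LD3_c5))
theorem f750891 : Led Lsl_gt (LP (LK LD1_c6 LD2_c4 LD3_c5)) = v16663 :=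
  Lrfl
theorem f904094 : Led Lsl_gt v16663 = v38723 :=
  Lgr Lrot46 (Lpe (f750891 IH) (Lpr_ft (f750899 IH) (Lpr_at (f904090 IH) (Lpn v38723))))
theorem f442438 : Led Lsl_bt (LP (LK LD1_c2 LD2_c55 LD3_c0)) = (LP (LK LD1_c5 LD2_c57 LD3_c13)) :=
  Lre_b IH (LK LD1_c2 LD2_c55 LD3_c0) (LK LD1_c5 LD2_c57 LD3_c13) Lrfl Lrfl
theorem f924054 : v16663 = v16627 :=
  (Llr Lrot126 (Lpr_gt (f904094 IH) (Lpe (f904085 IH) (Lpe (f548585 IH) (Lpr_gt (f699758 IH) (Lpr_ct (f924050 IH) (Lpe (f825704 IH) (Lpe (f641224 IH) (Lpr_bt (f442438 IH) (Lpr_gt (K69.f442448 IH) (Lpqs (K69.f898906 IH) (Lpe (K69.f750778 IH) (Lpr_ct (f750782 IH) (Lpn v16627)))))))))))))).symm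
theorem f172088 : Led Lsl_ct (LP (LK LD1_c2 LD2_c58 LD3_c8)) = (LP (LK LD1_c6 LD2_c4 LD3_c5)) :=
  Lre_c IH (LK LD1_c2 LD2_c58 LD3_c8) (LK LD1_c6 LD2_c4 LD3_c5) Lrfl Lrfl
theorem f172101 : Led Lsl_gt (LP (LK LD1_c11 LD2_c51 LD3_c47)) = (LP (LK LD1_c6 LD2_c4 LD3_c3)) :=
  Lre_g IH (LK LD1_c11 LD2_c51 LD3_c47) (LK LD1_c6 LD2_c4 LD3_c3) Lrfl Lrfl
theorem f172111 : Led Lsl_bt (LP (LK LD1_c20 LD2_c54 LD3_c24)) = (LP (LK LD1_c11 LD2_c51 LD3_c47)) :=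
  Lre_b IH (LK LD1_c20 LD2_c54 LD3_c24) (LK LD1_c11 LD2_c51 LD3_c47) Lrfl Lrfl
theorem f924055 : Led Lsl_cf (LP (LK LD1_c20 LD2_c39 LD3_c45)) = (LP (LK LD1_c20 LD2_c54 LD3_c24)) :=
  Lgr Lrot163 (Lpr_gf (f616439 IH) (Lpe (f616420 IH) (Lpe (f616462 IH) (Lpqs (K69.f898906 IH) (Lpe (K69.f750778 IH) (Lpr_ct (f750782 IH) (Lpq (f924054 IH) (Lpe (f750891 IH) (Lpe (f172088 IH) (Lpr_bt (K38.f172084 IH) (Lpe (f172101 IH) (Lpe (f172111 IH) (Lpn (LP (LK LD1_c20 LD2_c54 LD3_c24)))))))))))))))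
theorem f924056 : Led Lsl_ct (LP (LK LD1_c20 LD2_c54 LD3_c24)) = (LP (LK LD1_c20 LD2_c39 LD3_c45)) :=
  Leop (Lpr_cf (f924055 IH) (Lpn (LP (LK LD1_c20 LD2_c54 LD3_c24))))
theorem seed_2474 : LEOK LG_c (LK LD1_c20 LD2_c54 LD3_c24) :=
  Leoe_c (LK LD1_c20 LD2_c54 LD3_c24) (f924056 IH)
def v38272 : LQ := Led Lsl_gt (LP (LK LD1_c9 LD2_c7 LD3_c51))
theorem f900377 : Led Lsl_gt (LP (LK LD1_c9 LD2_c7 LD3_c51)) = v38272 :=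
  Lrfl
def v35881 : LQ := Led Lsl_ct (LP (LK LD1_c8 LD2_c12 LD3_c8))
theorem f880907 : Led Lsl_ct (LP (LK LD1_c8 LD2_c12 LD3_c8)) = v35881 :=
  Lrfl
theorem f904087 : Led Lsl_cf (LP (LK LD1_c9 LD2_c14 LD3_c41)) = v38723 :=
  Lgr Lrot11 (Lpr_ct (f904085 IH) (Lpn v38723))
def v16833 : LQ := Led Lsl_ct (LP (LK LD1_c6 LD2_c7 LD3_c25))
theorem f751912 : Led Lsl_ct (LP (LK LD1_c6 LD2_c7 LD3_c25)) = v16833 :=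
  Lrfl
theorem f751913 : Led Lsl_cf (LP (LK LD1_c6 LD2_c7 LD3_c25)) = v16833 :=
  Lgr Lrot11 (Lpr_ct (f751912 IH) (Lpn v16833))
def v4643 : LQ := Led Lsl_et (LP (LK LD1_c2 LD2_c40 LD3_c1))
def v24260 : LQ := Led Lsl_ft v4643
theorem f823125 : Led Lsl_ft v4643 = v24260 :=
  Lrfl
def v24257 : LQ := Led Lsl_gt v4643
theorem f823118 : Led Lsl_gt v4643 = v24257 :=
  Lrfl
def v5149 : LQ := Led Lsl_et (LP (LK LD1_c2 LD2_c59 LD3_c32))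
theorem f646224 : Led Lsl_et (LP (LK LD1_c2 LD2_c59 LD3_c32)) = v5149 :=
  Lrfl
theorem f334925 : Led Lsl_af (LP (LK LD1_c2 LD2_c59 LD3_c32)) = (LP (LK LD1_c2 LD2_c40 LD3_c1)) :=
  Lgr Lrot0 (Lpr_at (K22.f334635 IH) (Lpn (LP (LK LD1_c2 LD2_c40 LD3_c1))))
theorem f638298 : Led Lsl_et (LP (LK LD1_c2 LD2_c40 LD3_c1)) = v4643 :=
  Lrfl
theorem f638300 : Led Lsl_ef (LP (LK LD1_c2 LD2_c40 LD3_c1)) = v4643 :=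
  Lgr Lrot88 (Lpr_et (f638298 IH) (Lpn v4643))
theorem f646225 : Led Lsl_af v4643 = v5149 :=
  Lgr Lrot50 (Lpe (f638300 IH) (Lpe (f334925 IH) (Lpr_et (f646224 IH) (Lpn v5149))))
theorem f646226 : Led Lsl_cf (LP (LK LD1_c2 LD2_c59 LD3_c52)) = v5149 :=
  Lgr Lrot39 (Lpr_et (K35.f169100 IH) (Lpr_ct (K9.f177448 IH) (Lpr_et (f646224 IH) (Lpn v5149))))
theorem f751915 : Led Lsl_ff v5149 = v16833 :=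
  Lgr Lrot23 (Lpe (f646226 IH) (Lpr_ft (K49.f176583 IH) (Lpr_ct (f751912 IH) (Lpn v16833))))
theorem f823126 : Led Lsl_af v16833 = v24260 :=
  Lgr Lrot45 (Lpe (f751915 IH) (Lpe (f646225 IH) (Lpr_ft (f823125 IH) (Lpn v24260))))
theorem f823130 : Led Lsl_gt v24257 = v16833 :=
  Lgr Lrot46 (Lpe (f823118 IH) (Lpr_ft (f823125 IH) (Lpe (f823126 IH) (Lpn v16833))))
theorem f924057 : v35881 = v24257 :=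
  (Llr Lrot152 (Lpe (f880907 IH) (Lpe (K49.f175351 IH) (Lpe (K50.f175329 IH) (Lpr_gt (K69.f175349 IH) (Lpr_ct (f750782 IH) (Lpq (f924054 IH) (Lpr_gt (f904094 IH) (Lpe (f904087 IH) (Lpr_df (K70.f176584 IH) (Lpr_cf (f751913 IH) (Lpe (f823130 IH) (Lpn v24257))))))))))))).symm
theorem f691531 : Led Lsl_bt (LP (LK LD1_c8 LD2_c12 LD3_c8)) = (LP (LK LD1_c15 LD2_c26 LD3_c11)) :=
  Lre_b IH (LK LD1_c8 LD2_c12 LD3_c8) (LK LD1_c15 LD2_c26 LD3_c11) Lrfl Lrfl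
theorem f599789 : Led Lsl_et (LP (LK LD1_c5 LD2_c52 LD3_c34)) = (LP (LK LD1_c9 LD2_c14 LD3_c41)) :=
  Lgr Lrot87 (Lpr_ef (K70.f599778 IH) (Lpn (LP (LK LD1_c9 LD2_c14 LD3_c41))))
theorem f176594 : Led Lsl_dt (LP (LK LD1_c9 LD2_c14 LD3_c41)) = (LP (LK LD1_c6 LD2_c7 LD3_c25)) :=
  Lgr Lrot42 (Lpr_df (K70.f176584 IH) (Lpn (LP (LK LD1_c6 LD2_c7 LD3_c25))))
theorem f599791 : Led Lsl_ef (LP (LK LD1_c5 LD2_c14 LD3_c30)) = (LP (LK LD1_c6 LD2_c7 LD3_c25)) :=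
  Lgr Lrot73 (Lpe (K70.f164403 IH) (Lpr_et (K7.f152046 IH) (Lpr_dt (K49.f152048 IH) (Lpr_et (f599789 IH) (Lpr_dt (f176594 IH) (Lpn (LP (LK LD1_c6 LD2_c7 LD3_c25))))))))
theorem f599793 : Led Lsl_bt (LP (LK LD1_c5 LD2_c14 LD3_c51)) = (LP (LK LD1_c6 LD2_c7 LD3_c25)) :=
  Lgr Lrot119 (Lpe (K48.f163950 IH) (Lpe (K54.f164367 IH) (Lpr_ef (f599791 IH) (Lpn (LP (LK LD1_c6 LD2_c7 LD3_c25))))))
theorem f599795 : Led Lsl_bf (LP (LK LD1_c5 LD2_c14 LD3_c51)) = (LP (LK LD1_c6 LD2_c7 LD3_c25)) :=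
  Lgr Lrot24 (Lpr_bt (f599793 IH) (Lpn (LP (LK LD1_c6 LD2_c7 LD3_c25))))
def v14413 : LQ := Led Lsl_ct (LP (LK LD1_c5 LD2_c8 LD3_c27))
theorem f722398 : Led Lsl_ct (LP (LK LD1_c5 LD2_c8 LD3_c27)) = v14413 :=
  Lrfl
theorem f924041 : (LP (LK LD1_c5 LD2_c16 LD3_c52)) = v14413 :=
  Lefun (Lecon (Lfl_cf (f724879 IH)) (f924040 IH)) (f722398 IH)
theorem f924060 : (LP (LK LD1_c15 LD2_c26 LD3_c11)) = v38272 :=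
  (Llr Lrot92 (Lpe (f691531 IH) (Lpr_ct (f880907 IH) (Lpqs (f924057 IH) (Lpr_gt (f823130 IH) (Lpe (f751912 IH) (Lpe (f599795 IH) (Lpe (K67.f165239 IH) (Lpr_ct (f722398 IH) (Lpq (f924041 IH) (Lpr_gt (f32623 IH) (Lpe (K2.f35006 IH) (Lpr_bt (K56.f35161 IH) (Lpr_gt (f900377 IH) (Lpn v38272))))))))))))))).symm
theorem f924061 : Led Lsl_gt (LP (LK LD1_c9 LD2_c7 LD3_c51)) = (LP (LK LD1_c15 LD2_c26 LD3_c11)) :=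
  Leop (Lpqs (f924060 IH) (Lpe (f900377 IH) (Lpn (LP (LK LD1_c9 LD2_c7 LD3_c51)))))
theorem seed_2475 : LEOK LG_g (LK LD1_c9 LD2_c7 LD3_c51) :=
  Leoe_g (LK LD1_c9 LD2_c7 LD3_c51) (f924061 IH)
theorem f442431 : Led Lsl_ft (LP (LK LD1_c9 LD2_c7 LD3_c51)) = (LP (LK LD1_c16 LD2_c59 LD3_c46)) :=
  Lre_f IH (LK LD1_c9 LD2_c7 LD3_c51) (LK LD1_c16 LD2_c59 LD3_c46) Lrfl Lrfl
theorem f781808 : Led Lsl_gt (LP (LK LD1_c15 LD2_c26 LD3_c11)) = (LP (LK LD1_c25 LD2_c18 LD3_c6)) :=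
  Lre_g IH (LK LD1_c15 LD2_c26 LD3_c11) (LK LD1_c25 LD2_c18 LD3_c6) Lrfl Lrfl
theorem f924062 : Led Lsl_at (LP (LK LD1_c16 LD2_c59 LD3_c46)) = (LP (LK LD1_c25 LD2_c18 LD3_c6)) :=
  Lgr Lrot26 (Lpe (f442431 IH) (Lpr_gt (f900377 IH) (Lpq (f924060 IH) (Lpr_gt (f781808 IH) (Lpn (LP (LK LD1_c25 LD2_c18 LD3_c6)))))))
theorem f442491 : Led Lsl_at (LP (LK LD1_c16 LD2_c59 LD3_c35)) = (LP (LK LD1_c9 LD2_c7 LD3_c51)) :=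
  Lre_a IH (LK LD1_c16 LD2_c59 LD3_c35) (LK LD1_c9 LD2_c7 LD3_c51) Lrfl Lrfl
theorem f924070 : Led Lsl_ff (LP (LK LD1_c16 LD2_c59 LD3_c35)) = (LP (LK LD1_c25 LD2_c18 LD3_c6)) :=
  Lgr Lrot30 (Lpr_at (f442491 IH) (Lpr_ft (f442431 IH) (Lpr_at (f924062 IH) (Lpn (LP (LK LD1_c25 LD2_c18 LD3_c6))))))
theorem f35170 : Led Lsl_gt (LP (LK LD1_c17 LD2_c0 LD3_c10)) = (LP (LK LD1_c9 LD2_c7 LD3_c51)) :=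
  Lre_g IH (LK LD1_c17 LD2_c0 LD3_c10) (LK LD1_c9 LD2_c7 LD3_c51) Lrfl Lrfl
theorem f924078 : Led Lsl_gf (LP (LK LD1_c17 LD2_c0 LD3_c10)) = (LP (LK LD1_c25 LD2_c18 LD3_c6)) :=
  Lgr Lrot47 (Lpr_gt (f35170 IH) (Lpe (f442491 IH) (Lpr_ff (f924070 IH) (Lpn (LP (LK LD1_c25 LD2_c18 LD3_c6))))))
theorem f442700 : Led Lsl_et (LP (LK LD1_c16 LD2_c59 LD3_c35)) = (LP (LK LD1_c9 LD2_c7 LD3_c23)) :=
  Lre_e IH (LK LD1_c16 LD2_c59 LD3_c35) (LK LD1_c9 LD2_c7 LD3_c23) Lrfl Lrfl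
theorem f924074 : Led Lsl_et (LP (LK LD1_c16 LD2_c59 LD3_c29)) = (LP (LK LD1_c25 LD2_c18 LD3_c6)) :=
  Lgr Lrot69 (Lpe (K69.f641019 IH) (Lpe (K69.f442794 IH) (Lpe (K2.f35205 IH) (Lpe (f442700 IH) (Lpr_ff (f924070 IH) (Lpn (LP (LK LD1_c25 LD2_c18 LD3_c6))))))))
theorem f547940 : Led Lsl_dt (LP (LK LD1_c9 LD2_c7 LD3_c30)) = (LP (LK LD1_c4 LD2_c35 LD3_c29)) :=
  Lre_d IH (LK LD1_c9 LD2_c7 LD3_c30) (LK LD1_c4 LD2_c35 LD3_c29) Lrfl Lrfl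
theorem f445860 : Led Lsl_dt (LP (LK LD1_c4 LD2_c35 LD3_c29)) = (LP (LK LD1_c9 LD2_c7 LD3_c30)) :=
  Lre_d IH (LK LD1_c4 LD2_c35 LD3_c29) (LK LD1_c9 LD2_c7 LD3_c30) Lrfl Lrfl
theorem f615307 : Led Lsl_ef (LP (LK LD1_c11 LD2_c49 LD3_c28)) = (LP (LK LD1_c9 LD2_c7 LD3_c30)) :=
  Lgr Lrot73 (Lpr_dt (K42.f505202 IH) (Lpr_et (K42.f505197 IH) (Lpr_dt (K51.f614663 IH) (Lpr_et (K52.f615301 IH) (Lpr_dt (f445860 IH) (Lpn (LP (LK LD1_c9 LD2_c7 LD3_c30))))))))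
def v8706 : LQ := Led Lsl_et K66.v2157
def v28944 : LQ := Led Lsl_dt v8706
theorem f846900 : Led Lsl_dt v8706 = v28944 :=
  Lrfl
theorem f672051 : Led Lsl_et K66.v2157 = v8706 :=
  Lrfl
theorem f100078 : Led Lsl_dt (LP (LK LD1_c17 LD2_c3 LD3_c6)) = (LP (LK LD1_c9 LD2_c9 LD3_c59)) :=
  Lre_d IH (LK LD1_c17 LD2_c3 LD3_c6) (LK LD1_c9 LD2_c9 LD3_c59) Lrfl Lrfl
theorem f846902 : Led Lsl_ef (LP (LK LD1_c17 LD2_c3 LD3_c6)) = v28944 :=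
  Lgr Lrot73 (Lpr_dt (f100078 IH) (Lpr_et (K66.f672050 IH) (Lpe (K66.f672048 IH) (Lpr_et (f672051 IH) (Lpr_dt (f846900 IH) (Lpn v28944))))))
theorem f846901 : Led Lsl_df v8706 = v28944 :=
  Lgr Lrot38 (Lpr_dt (f846900 IH) (Lpn v28944))
def v28943 : LQ := Led Lsl_gf v8706
theorem f846899 : Led Lsl_gf v8706 = v28943 :=
  Lrfl
theorem f924082 : Led Lsl_dt (LP (LK LD1_c17 LD2_c0 LD3_c10)) = v28943 :=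
  Lgr Lrot171 (Lpr_gf (f924078 IH) (Lpe (f924074 IH) (Lpr_dt (K69.f442453 IH) (Lpe (K52.f442682 IH) (Lpe (f547940 IH) (Lpe (f615307 IH) (Lpr_gf (K42.f615065 IH) (Lpr_ef (f846902 IH) (Lpe (f846901 IH) (Lpr_gf (f846899 IH) (Lpn v28943)))))))))))
theorem f719632 : Led Lsl_dt (LP (LK LD1_c9 LD2_c15 LD3_c11)) = (LP (LK LD1_c9 LD2_c12 LD3_c27)) :=
  Lgr Lrot42 (Lpr_df (K53.f719627 IH) (Lpn (LP (LK LD1_c9 LD2_c12 LD3_c27))))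
theorem f924085 : Led Lsl_et (LP (LK LD1_c17 LD2_c0 LD3_c10)) = (LP (LK LD1_c10 LD2_c10 LD3_c42)) :=
  Lgr Lrot122 (Lpr_dt (f924082 IH) (Lpe (f846899 IH) (Lpr_df (f846901 IH) (Lpe (f846902 IH) (Lpe (K42.f615065 IH) (Lpr_dt (K42.f505202 IH) (Lpr_gt (K53.f719625 IH) (Lpe (f719632 IH) (Lpr_et (K53.f562749 IH) (Lpr_gt (K53.f714497 IH) (Lpn (LP (LK LD1_c10 LD2_c10 LD3_c42)))))))))))))
theorem f924086 : Led Lsl_et (LP (LK LD1_c17 LD2_c0 LD3_c10)) = (LP (LK LD1_c10 LD2_c10 LD3_c42)) :=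
  Leop (Lpe (f924085 IH) (Lpn (LP (LK LD1_c17 LD2_c0 LD3_c10))))
theorem seed_2476 : LEOK LG_e (LK LD1_c17 LD2_c0 LD3_c10) :=
  Leoe_e (LK LD1_c17 LD2_c0 LD3_c10) (f924086 IH)
theorem f924093 : Led Lsl_ef (LP (LK LD1_c17 LD2_c0 LD3_c10)) = (LP (LK LD1_c10 LD2_c10 LD3_c42)) :=
  Lgr Lrot88 (Lpr_et (f924085 IH) (Lpn (LP (LK LD1_c10 LD2_c10 LD3_c42))))
theorem f299940 : Led Lsl_et (LP (LK LD1_c10 LD2_c10 LD3_c43)) = (LP (LK LD1_c5 LD2_c9 LD3_c57)) :=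
  Lre_e IH (LK LD1_c10 LD2_c10 LD3_c43) (LK LD1_c5 LD2_c9 LD3_c57) Lrfl Lrfl
theorem f924097 : Led Lsl_ct (LP (LK LD1_c17 LD2_c0 LD3_c10)) = (LP (LK LD1_c10 LD2_c10 LD3_c43)) :=
  Lgr Lrot15 (Lpr_ef (f924093 IH) (Lpe (K53.f180589 IH) (Lpe (f299940 IH) (Lpn (LP (LK LD1_c10 LD2_c10 LD3_c43))))))
def v35883 : LQ := Led Lsl_ft (LP (LK LD1_c8 LD2_c12 LD3_c8))
theorem f880914 : Led Lsl_ft (LP (LK LD1_c8 LD2_c12 LD3_c8)) = v35883 :=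
  Lrfl
theorem f880917 : Led Lsl_ff (LP (LK LD1_c8 LD2_c12 LD3_c8)) = v35883 :=
  Lgr Lrot3 (Lpr_ft (f880914 IH) (Lpn v35883))
theorem f691532 : Led Lsl_dt (LP (LK LD1_c8 LD2_c12 LD3_c8)) = (LP (LK LD1_c6 LD2_c46 LD3_c4)) :=
  Lgr Lrot42 (Lpr_df (K49.f691528 IH) (Lpn (LP (LK LD1_c6 LD2_c46 LD3_c4))))
theorem f880919 : Led Lsl_dt K69.v19725 = v35883 :=
  Lgr Lrot60 (Lpe (K69.f781811 IH) (Lpe (f691532 IH) (Lpr_ff (f880917 IH) (Lpn v35883))))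
theorem f903836 : (LP (LK LD1_c6 LD2_c3 LD3_c45)) = K69.v38692 :=
  Lefun (Lecon (Lfl_ff (K69.f750824 IH)) (K69.f903832 IH)) (K69.f903806 IH)
theorem f903844 : K69.v19725 = (LP (LK LD1_c9 LD2_c31 LD3_c51)) :=
  Lefun (Lecon (Lfl_ef (K69.f903804 IH)) (f903836 IH).symm) (Lfl_ef (K56.f699499 IH))
theorem f903849 : v35883 = (LP (LK LD1_c6 LD2_c8 LD3_c18)) :=
  Lefun (Lecon (f880919 IH) (f903844 IH)) (K56.f699491 IH)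
theorem f176042 : Led Lsl_bt (LP (LK LD1_c11 LD2_c58 LD3_c27)) = (LP (LK LD1_c6 LD2_c8 LD3_c18)) :=
  Lre_b IH (LK LD1_c11 LD2_c58 LD3_c27) (LK LD1_c6 LD2_c8 LD3_c18) Lrfl Lrfl
theorem f903882 : Led Lsl_ff (LP (LK LD1_c11 LD2_c58 LD3_c27)) = (LP (LK LD1_c15 LD2_c26 LD3_c11)) :=
  Lgr Lrot25 (Lpr_bt (f176042 IH) (Lpq (f903849 IH) (Lpe (f880917 IH) (Lpr_bt (f691531 IH) (Lpn (LP (LK LD1_c15 LD2_c26 LD3_c11)))))))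
theorem f924080 : Led Lsl_af (LP (LK LD1_c17 LD2_c0 LD3_c10)) = (LP (LK LD1_c11 LD2_c58 LD3_c27)) :=
  Lgr Lrot31 (Lpr_gf (f924078 IH) (Lpe (f781808 IH) (Lpe (f903882 IH) (Lpn (LP (LK LD1_c11 LD2_c58 LD3_c27))))))
theorem f288222 : Led Lsl_at (LP (LK LD1_c10 LD2_c10 LD3_c43)) = (LP (LK LD1_c18 LD2_c32 LD3_c32)) :=
  Lre_a IH (LK LD1_c10 LD2_c10 LD3_c43) (LK LD1_c18 LD2_c32 LD3_c32) Lrfl Lrfl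
theorem f924099 : Led Lsl_cf (LP (LK LD1_c11 LD2_c58 LD3_c27)) = (LP (LK LD1_c18 LD2_c32 LD3_c32)) :=
  Lgr Lrot1 (Lpe (f924080 IH) (Lpr_ct (f924097 IH) (Lpr_at (f288222 IH) (Lpn (LP (LK LD1_c18 LD2_c32 LD3_c32))))))
theorem f299892 : Led Lsl_et (LP (LK LD1_c10 LD2_c10 LD3_c39)) = (LP (LK LD1_c18 LD2_c32 LD3_c32)) :=
  Lre_e IH (LK LD1_c10 LD2_c10 LD3_c39) (LK LD1_c18 LD2_c32 LD3_c32) Lrfl Lrfl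
theorem f299911 : Led Lsl_ct (LP (LK LD1_c18 LD2_c32 LD3_c31)) = (LP (LK LD1_c10 LD2_c10 LD3_c39)) :=
  Lre_c IH (LK LD1_c18 LD2_c32 LD3_c31) (LK LD1_c10 LD2_c10 LD3_c39) Lrfl Lrfl
theorem f924103 : Led Lsl_et (LP (LK LD1_c11 LD2_c58 LD3_c27)) = (LP (LK LD1_c18 LD2_c32 LD3_c31)) :=
  Lgr Lrot158 (Lpr_cf (f924099 IH) (Lpe (f299892 IH) (Lpe (f299911 IH) (Lpn (LP (LK LD1_c18 LD2_c32 LD3_c31))))))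
def v40081 : LQ := Led Lsl_bt (LP (LK LD1_c9 LD2_c31 LD3_c51))
theorem f913250 : Led Lsl_bt (LP (LK LD1_c9 LD2_c31 LD3_c51)) = v40081 :=
  Lrfl
def v19723 : LQ := Led Lsl_bt (LP (LK LD1_c6 LD2_c46 LD3_c4))
theorem f781804 : Led Lsl_bt (LP (LK LD1_c6 LD2_c46 LD3_c4)) = v19723 :=
  Lrfl
theorem f781805 : Led Lsl_bf (LP (LK LD1_c6 LD2_c46 LD3_c4)) = v19723 :=
  Lgr Lrot24 (Lpr_bt (f781804 IH) (Lpn v19723))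
theorem f913254 : Led Lsl_ff v19723 = v40081 :=
  Lgr Lrot25 (Lpe (f781805 IH) (Lpr_ft (K69.f781811 IH) (Lpqs (f903844 IH) (Lpr_bt (f913250 IH) (Lpn v40081)))))
theorem f691525 : Led Lsl_bt (LP (LK LD1_c15 LD2_c26 LD3_c11)) = (LP (LK LD1_c8 LD2_c12 LD3_c8)) :=
  Lre_b IH (LK LD1_c15 LD2_c26 LD3_c11) (LK LD1_c8 LD2_c12 LD3_c8) Lrfl Lrfl
theorem f781806 : Led Lsl_df (LP (LK LD1_c15 LD2_c26 LD3_c11)) = v19723 :=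
  Lgr Lrot12 (Lpr_bt (f691525 IH) (Lpr_dt (f691532 IH) (Lpr_bt (f781804 IH) (Lpn v19723))))
theorem f913255 : Led Lsl_dt (LP (LK LD1_c11 LD2_c58 LD3_c27)) = v40081 :=
  Lgr Lrot60 (Lpr_ff (f903882 IH) (Lpr_df (f781806 IH) (Lpr_ff (f913254 IH) (Lpn v40081))))
theorem f719621 : Led Lsl_gf (LP (LK LD1_c17 LD2_c4 LD3_c34)) = (LP (LK LD1_c9 LD2_c11 LD3_c38)) :=
  Lgr Lrot76 (Lpr_af (K53.f719605 IH) (Lpe (K53.f631964 IH) (Lpr_gt (K59.f653040 IH) (Lpn (LP (LK LD1_c9 LD2_c11 LD3_c38))))))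
theorem f452291 : Led Lsl_et (LP (LK LD1_c17 LD2_c10 LD3_c3)) = (LP (LK LD1_c9 LD2_c15 LD3_c33)) :=
  Lre_e IH (LK LD1_c17 LD2_c10 LD3_c3) (LK LD1_c9 LD2_c15 LD3_c33) Lrfl Lrfl
def v8694 : LQ := Led Lsl_gf K65.v2153
def v28912 : LQ := Led Lsl_et v8694
theorem f846777 : Led Lsl_et v8694 = v28912 :=
  Lrfl
theorem f846779 : Led Lsl_ef v8694 = v28912 :=
  Lgr Lrot88 (Lpr_et (f846777 IH) (Lpn v28912))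
def v13107 : LQ := Led Lsl_et (LP (LK LD1_c4 LD2_c40 LD3_c0))
theorem f701151 : Led Lsl_et (LP (LK LD1_c4 LD2_c40 LD3_c0)) = v13107 :=
  Lrfl
theorem f701152 : Led Lsl_ef (LP (LK LD1_c4 LD2_c40 LD3_c0)) = v13107 :=
  Lgr Lrot88 (Lpr_et (f701151 IH) (Lpn v13107))
theorem f100099 : Led Lsl_ft (LP (LK LD1_c2 LD2_c17 LD3_c3)) = (LP (LK LD1_c4 LD2_c40 LD3_c2)) :=
  Lre_f IH (LK LD1_c2 LD2_c17 LD3_c3) (LK LD1_c4 LD2_c40 LD3_c2) Lrfl Lrfl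
theorem f100193 : Led Lsl_gf (LP (LK LD1_c9 LD2_c9 LD3_c61)) = (LP (LK LD1_c4 LD2_c40 LD3_c0)) :=
  Lgr Lrot76 (Lpr_af (K53.f100064 IH) (Lpe (f100099 IH) (Lpr_gt (K11.f100192 IH) (Lpn (LP (LK LD1_c4 LD2_c40 LD3_c0))))))
theorem f157184 : Led Lsl_et (LP (LK LD1_c1 LD2_c36 LD3_c41)) = (LP (LK LD1_c2 LD2_c16 LD3_c14)) :=
  Lre_e IH (LK LD1_c1 LD2_c36 LD3_c41) (LK LD1_c2 LD2_c16 LD3_c14) Lrfl Lrfl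
theorem f509349 : Led Lsl_ff (LP (LK LD1_c1 LD2_c36 LD3_c40)) = K66.v2158 :=
  Lgr Lrot3 (Lpr_ft (K66.f509343 IH) (Lpn K66.v2158))
theorem f453977 : Led Lsl_ft (LP (LK LD1_c0 LD2_c44 LD3_c47)) = (LP (LK LD1_c1 LD2_c36 LD3_c41)) :=
  Lre_f IH (LK LD1_c0 LD2_c44 LD3_c47) (LK LD1_c1 LD2_c36 LD3_c41) Lrfl Lrfl
theorem f509353 : Led Lsl_dt (LP (LK LD1_c1 LD2_c36 LD3_c41)) = K66.v2158 :=
  Lgr Lrot60 (Lpe (f453977 IH) (Lpe (K50.f509256 IH) (Lpr_ff (f509349 IH) (Lpn K66.v2158))))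
theorem f672021 : Led Lsl_gf K65.v2153 = v8694 :=
  Lrfl
theorem f509272 : Led Lsl_at (LP (LK LD1_c1 LD2_c36 LD3_c40)) = K65.v2153 :=
  Lgr Lrot80 (Lpe (K66.f494501 IH) (Lpe (K40.f509271 IH) (Lpr_ef (K65.f509261 IH) (Lpn K65.v2153))))
theorem f672022 : Led Lsl_gt K66.v2158 = v8694 :=
  Lgr Lrot5 (Lpe (f509349 IH) (Lpr_at (f509272 IH) (Lpr_gf (f672021 IH) (Lpn v8694))))
theorem f701153 : Led Lsl_df v8694 = v13107 :=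
  Lgr Lrot168 (Lpe (f672022 IH) (Lpe (f509353 IH) (Lpr_et (f157184 IH) (Lpe (K36.f116940 IH) (Lpe (K36.f116941 IH) (Lpr_dt (K36.f157172 IH) (Lpe (K36.f547918 IH) (Lpr_df (K36.f547920 IH) (Lpr_gf (f100193 IH) (Lpr_ef (f701152 IH) (Lpn v13107)))))))))))
theorem f701154 : Led Lsl_dt v8694 = v13107 :=
  Lgr Lrot42 (Lpr_df (f701153 IH) (Lpn v13107))
theorem f100201 : Led Lsl_et (LP (LK LD1_c9 LD2_c15 LD3_c33)) = (LP (LK LD1_c17 LD2_c10 LD3_c3)) :=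
  Lre_e IH (LK LD1_c9 LD2_c15 LD3_c33) (LK LD1_c17 LD2_c10 LD3_c3) Lrfl Lrfl
theorem f846780 : Led Lsl_dt (LP (LK LD1_c17 LD2_c10 LD3_c3)) = v28912 :=
  Lgr Lrot77 (Lpe (f100201 IH) (Lpe (K11.f100199 IH) (Lpr_ef (f701152 IH) (Lpe (f701154 IH) (Lpr_ef (f846779 IH) (Lpn v28912))))))
theorem f924118 : Led Lsl_gt v40081 = v28912 :=
  Lgr Lrot112 (Lpe (f913255 IH) (Lpr_et (f924103 IH) (Lpe (K53.f299956 IH) (Lpr_ef (K53.f723210 IH) (Lpe (K69.f723173 IH) (Lpr_gf (f719621 IH) (Lpe (K59.f452286 IH) (Lpe (K11.f452282 IH) (Lpe (f452291 IH) (Lpr_dt (f846780 IH) (Lpn v28912)))))))))))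
theorem f442487 : Led Lsl_dt (LP (LK LD1_c9 LD2_c7 LD3_c36)) = (LP (LK LD1_c4 LD2_c35 LD3_c32)) :=
  Lre_d IH (LK LD1_c9 LD2_c7 LD3_c36) (LK LD1_c4 LD2_c35 LD3_c32) Lrfl Lrfl
theorem f442423 : Led Lsl_et (LP (LK LD1_c9 LD2_c7 LD3_c36)) = (LP (LK LD1_c16 LD2_c59 LD3_c46)) :=
  Lre_e IH (LK LD1_c9 LD2_c7 LD3_c36) (LK LD1_c16 LD2_c59 LD3_c46) Lrfl Lrfl
theorem f924120 : Led Lsl_gf (LP (LK LD1_c11 LD2_c58 LD3_c27)) = (LP (LK LD1_c16 LD2_c59 LD3_c46)) :=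
  Lgr Lrot138 (Lpr_dt (f913255 IH) (Lpr_gt (f924118 IH) (Lpe (f846780 IH) (Lpr_et (f452291 IH) (Lpr_gt (K11.f452282 IH) (Lpe (K59.f710786 IH) (Lpr_dt (K59.f710784 IH) (Lpr_gt (K45.f442429 IH) (Lpe (f442487 IH) (Lpr_et (f442423 IH) (Lpn (LP (LK LD1_c16 LD2_c59 LD3_c46)))))))))))))
theorem f924121 : Led Lsl_gt (LP (LK LD1_c16 LD2_c59 LD3_c46)) = (LP (LK LD1_c11 LD2_c58 LD3_c27)) :=
  Leop (Lpr_gf (f924120 IH) (Lpn (LP (LK LD1_c16 LD2_c59 LD3_c46))))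
theorem seed_2477 : LEOK LG_g (LK LD1_c16 LD2_c59 LD3_c46) :=
  Leoe_g (LK LD1_c16 LD2_c59 LD3_c46) (f924121 IH)
theorem f442435 : Led Lsl_ft (LP (LK LD1_c16 LD2_c59 LD3_c46)) = (LP (LK LD1_c9 LD2_c7 LD3_c51)) :=
  Lre_f IH (LK LD1_c16 LD2_c59 LD3_c46) (LK LD1_c9 LD2_c7 LD3_c51) Lrfl Lrfl
theorem f71778 : Led Lsl_at (LP (LK LD1_c9 LD2_c7 LD3_c51)) = (LP (LK LD1_c16 LD2_c59 LD3_c35)) :=
  Lre_a IH (LK LD1_c9 LD2_c7 LD3_c51) (LK LD1_c16 LD2_c59 LD3_c35) Lrfl Lrfl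
theorem f924122 : Led Lsl_gt (LP (LK LD1_c11 LD2_c58 LD3_c27)) = (LP (LK LD1_c16 LD2_c59 LD3_c35)) :=
  Lgr Lrot46 (Lpr_gf (f924120 IH) (Lpr_ft (f442435 IH) (Lpr_at (f71778 IH) (Lpn (LP (LK LD1_c16 LD2_c59 LD3_c35))))))
theorem f699494 : Led Lsl_df (LP (LK LD1_c9 LD2_c31 LD3_c51)) = (LP (LK LD1_c6 LD2_c8 LD3_c18)) :=
  Lgr Lrot38 (Lpr_dt (K56.f699491 IH) (Lpn (LP (LK LD1_c6 LD2_c8 LD3_c18))))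
theorem f913252 : Led Lsl_df (LP (LK LD1_c11 LD2_c58 LD3_c27)) = v40081 :=
  Lgr Lrot12 (Lpr_bt (f176042 IH) (Lpe (f699494 IH) (Lpr_bt (f913250 IH) (Lpn v40081))))
theorem f285339 : Led Lsl_bt (LP (LK LD1_c11 LD2_c51 LD3_c2)) = (LP (LK LD1_c6 LD2_c3 LD3_c45)) :=
  Lre_b IH (LK LD1_c11 LD2_c51 LD3_c2) (LK LD1_c6 LD2_c3 LD3_c45) Lrfl Lrfl
theorem f913253 : Led Lsl_ef (LP (LK LD1_c11 LD2_c51 LD3_c2)) = v40081 :=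
  Lgr Lrot29 (Lpr_bt (f285339 IH) (Lpe (K56.f699499 IH) (Lpr_bt (f913250 IH) (Lpn v40081))))
theorem f442439 : Led Lsl_ct (LP (LK LD1_c11 LD2_c39 LD3_c46)) = (LP (LK LD1_c5 LD2_c57 LD3_c13)) :=
  Lre_c IH (LK LD1_c11 LD2_c39 LD3_c46) (LK LD1_c5 LD2_c57 LD3_c13) Lrfl Lrfl
theorem f616436 : Led Lsl_ct (LP (LK LD1_c9 LD2_c12 LD3_c39)) = (LP (LK LD1_c17 LD2_c6 LD3_c55)) :=
  Lre_c IH (LK LD1_c9 LD2_c12 LD3_c39) (LK LD1_c17 LD2_c6 LD3_c55) Lrfl Lrfl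
theorem f616437 : Led Lsl_at (LP (LK LD1_c5 LD2_c57 LD3_c13)) = (LP (LK LD1_c9 LD2_c12 LD3_c39)) :=
  Lgr Lrot107 (Lpe (f442439 IH) (Lpr_af (f616429 IH) (Lpe (f616436 IH) (Lpn (LP (LK LD1_c9 LD2_c12 LD3_c39))))))
theorem f71400 : Led Lsl_bt (LP (LK LD1_c5 LD2_c57 LD3_c13)) = (LP (LK LD1_c2 LD2_c55 LD3_c0)) :=
  Lre_b IH (LK LD1_c5 LD2_c57 LD3_c13) (LK LD1_c2 LD2_c55 LD3_c0) Lrfl Lrfl
theorem f82201 : Led Lsl_dt (LP (LK LD1_c9 LD2_c7 LD3_c51)) = (LP (LK LD1_c5 LD2_c57 LD3_c13)) :=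
  Lgr Lrot79 (Lpe (K56.f35161 IH) (Lpr_df (K2.f82197 IH) (Lpe (f71400 IH) (Lpn (LP (LK LD1_c5 LD2_c57 LD3_c13))))))
theorem f616444 : Led Lsl_df (LP (LK LD1_c16 LD2_c59 LD3_c35)) = (LP (LK LD1_c9 LD2_c12 LD3_c39)) :=
  Lgr Lrot18 (Lpr_at (f442491 IH) (Lpr_dt (f82201 IH) (Lpr_at (f616437 IH) (Lpn (LP (LK LD1_c9 LD2_c12 LD3_c39))))))
theorem f562886 : Led Lsl_et (LP (LK LD1_c9 LD2_c12 LD3_c39)) = (LP (LK LD1_c4 LD2_c38 LD3_c24)) :=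
  Lre_e IH (LK LD1_c9 LD2_c12 LD3_c39) (LK LD1_c4 LD2_c38 LD3_c24) Lrfl Lrfl
theorem f581374 : Led Lsl_gf (LP (LK LD1_c3 LD2_c0 LD3_c2)) = (LP (LK LD1_c5 LD2_c57 LD3_c8)) :=
  Lgr Lrot179 (Lpr_ct (K38.f193828 IH) (Lpr_gt (K44.f581358 IH) (Lpe (K43.f579558 IH) (Lpr_dt (K43.f572965 IH) (Lpe (K43.f562819 IH) (Lpe (K43.f452846 IH) (Lpe (K40.f452845 IH) (Lpe (K40.f82179 IH) (Lpr_dt (K40.f558523 IH) (Lpn (LP (LK LD1_c5 LD2_c57 LD3_c8))))))))))))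
theorem f541580 : Led Lsl_et (LP (LK LD1_c6 LD2_c7 LD3_c45)) = (LP (LK LD1_c11 LD2_c57 LD3_c53)) :=
  Lre_e IH (LK LD1_c6 LD2_c7 LD3_c45) (LK LD1_c11 LD2_c57 LD3_c53) Lrfl Lrfl
theorem f924124 : Led Lsl_gf (LP (LK LD1_c11 LD2_c51 LD3_c2)) = (LP (LK LD1_c11 LD2_c57 LD3_c53)) :=
  Lgr Lrot141 (Lpr_ef (f913253 IH) (Lpe (f913252 IH) (Lpr_gt (f924122 IH) (Lpr_df (f616444 IH) (Lpr_et (f562886 IH) (Lpe (K43.f562926 IH) (Lpr_dt (K40.f558523 IH) (Lpe (f581374 IH) (Lpe (K40.f193835 IH) (Lpr_et (f541580 IH) (Lpn (LP (LK LD1_c11 LD2_c57 LD3_c53)))))))))))))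
theorem f924125 : Led Lsl_gt (LP (LK LD1_c11 LD2_c57 LD3_c53)) = (LP (LK LD1_c11 LD2_c51 LD3_c2)) :=
  Leop (Lpr_gf (f924124 IH) (Lpn (LP (LK LD1_c11 LD2_c57 LD3_c53))))
theorem seed_2478 : LEOK LG_g (LK LD1_c11 LD2_c57 LD3_c53) :=
  Leoe_g (LK LD1_c11 LD2_c57 LD3_c53) (f924125 IH)
def v35885 : LQ := Led Lsl_et (LP (LK LD1_c8 LD2_c12 LD3_c9))
theorem f880922 : Led Lsl_et (LP (LK LD1_c8 LD2_c12 LD3_c9)) = v35885 :=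
  Lrfl
theorem f880923 : Led Lsl_ef (LP (LK LD1_c8 LD2_c12 LD3_c9)) = v35885 :=
  Lgr Lrot88 (Lpr_et (f880922 IH) (Lpn v35885))
def v35880 : LQ := Led Lsl_at (LP (LK LD1_c8 LD2_c12 LD3_c8))
theorem f880901 : Led Lsl_at (LP (LK LD1_c8 LD2_c12 LD3_c8)) = v35880 :=
  Lrfl
theorem f880903 : Led Lsl_df K69.v19722 = v35880 :=
  Lgr Lrot18 (Lpe (K69.f781801 IH) (Lpe (K49.f691528 IH) (Lpr_at (f880901 IH) (Lpn v35880))))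
theorem f781803 : Led Lsl_ff (LP (LK LD1_c6 LD2_c46 LD3_c5)) = K69.v19722 :=
  Lgr Lrot3 (Lpr_ft (K69.f781802 IH) (Lpn K69.v19722))
theorem f880905 : Led Lsl_ft (LP (LK LD1_c8 LD2_c12 LD3_c9)) = v35880 :=
  Lgr Lrot54 (Lpr_df (K50.f699503 IH) (Lpr_ff (f781803 IH) (Lpr_df (f880903 IH) (Lpn v35880))))
theorem f880906 : Led Lsl_ff (LP (LK LD1_c8 LD2_c12 LD3_c9)) = v35880 :=
  Lgr Lrot3 (Lpr_ft (f880905 IH) (Lpn v35880))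
theorem f880918 : Led Lsl_at (LP (LK LD1_c8 LD2_c12 LD3_c9)) = v35883 :=
  Lgr Lrot66 (Lpr_ff (f880906 IH) (Lpe (f880901 IH) (Lpr_ff (f880917 IH) (Lpn v35883))))
theorem f903890 : Led Lsl_af v35885 = K56.v16883 :=
  Lgr Lrot50 (Lpe (f880923 IH) (Lpr_at (f880918 IH) (Lpqs (f903849 IH) (Lpr_et (K56.f752306 IH) (Lpn K56.v16883)))))
theorem f903891 : Led Lsl_at v35885 = K56.v16883 :=
  Lgr Lrot100 (Lpr_af (f903890 IH) (Lpn K56.v16883))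
theorem f701181 : Led Lsl_df (LP (LK LD1_c4 LD2_c49 LD3_c35)) = K56.v13114 :=
  Lgr Lrot70 (Lpr_et (K50.f175464 IH) (Lpr_dt (K17.f27101 IH) (Lpr_et (K0.f27061 IH) (Lpr_dt (K35.f20111 IH) (Lpr_et (K56.f701179 IH) (Lpn K56.v13114))))))
theorem f752309 : Led Lsl_gt (LP (LK LD1_c6 LD2_c8 LD3_c27)) = K56.v16883 :=
  Lgr Lrot131 (Lpe (K46.f636311 IH) (Lpr_dt (K46.f645360 IH) (Lpe (K46.f645354 IH) (Lpe (K35.f27069 IH) (Lpr_gf (K35.f27067 IH) (Lpr_ef (K56.f701182 IH) (Lpe (f701181 IH) (Lpe (K56.f180502 IH) (Lpr_df (f699494 IH) (Lpr_et (K56.f752306 IH) (Lpn K56.v16883)))))))))))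
theorem f903892 : Led Lsl_ff v35885 = K56.v16899 :=
  Lgr Lrot52 (Lpr_at (f903891 IH) (Lpe (f752309 IH) (Lpr_gf (K56.f752367 IH) (Lpn K56.v16899))))
theorem f903893 : Led Lsl_ft v35885 = K56.v16899 :=
  Lgr Lrot48 (Lpr_ff (f903892 IH) (Lpn K56.v16899))
theorem f699493 : Led Lsl_bt (LP (LK LD1_c6 LD2_c8 LD3_c18)) = (LP (LK LD1_c11 LD2_c58 LD3_c27)) :=
  Lre_b IH (LK LD1_c6 LD2_c8 LD3_c18) (LK LD1_c11 LD2_c58 LD3_c27) Lrfl Lrfl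
theorem f924117 : Led Lsl_bf K56.v16883 = (LP (LK LD1_c18 LD2_c32 LD3_c31)) :=
  Lgr Lrot96 (Lpe (K56.f752308 IH) (Lpr_bt (f699493 IH) (Lpr_et (f924103 IH) (Lpn (LP (LK LD1_c18 LD2_c32 LD3_c31))))))
def v38757 : LQ := Led Lsl_gf (LP (LK LD1_c9 LD2_c15 LD3_c18))
theorem f904312 : Led Lsl_gf (LP (LK LD1_c9 LD2_c15 LD3_c18)) = v38757 :=
  Lrfl
theorem f699508 : Led Lsl_dt (LP (LK LD1_c8 LD2_c12 LD3_c9)) = (LP (LK LD1_c6 LD2_c46 LD3_c5)) :=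
  Lgr Lrot42 (Lpr_df (K50.f699503 IH) (Lpn (LP (LK LD1_c6 LD2_c46 LD3_c5))))
def v5178 : LQ := Led Lsl_et (LP (LK LD1_c3 LD2_c0 LD3_c47))
theorem f646368 : Led Lsl_et (LP (LK LD1_c3 LD2_c0 LD3_c47)) = v5178 :=
  Lrfl
theorem f646369 : Led Lsl_df (LP (LK LD1_c3 LD2_c21 LD3_c6)) = v5178 :=
  Lgr Lrot70 (Lpr_et (K50.f23080 IH) (Lpe (K9.f22949 IH) (Lpr_et (K0.f22939 IH) (Lpr_dt (K29.f23079 IH) (Lpr_et (f646368 IH) (Lpn v5178))))))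
theorem f646370 : Led Lsl_ef (LP (LK LD1_c3 LD2_c0 LD3_c47)) = v5178 :=
  Lgr Lrot88 (Lpr_et (f646368 IH) (Lpn v5178))
theorem f645288 : Led Lsl_dt (LP (LK LD1_c4 LD2_c39 LD3_c53)) = K46.v5085 :=
  Lgr Lrot105 (Lpe (K46.f22478 IH) (Lpe (K0.f22477 IH) (Lpe (K11.f198670 IH) (Lpe (K29.f445910 IH) (Lpr_gt (K11.f59482 IH) (Lpr_dt (K2.f68248 IH) (Lpr_gt (K32.f25844 IH) (Lpr_dt (K46.f504798 IH) (Lpr_cf (K46.f645284 IH) (Lpn K46.v5085))))))))))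
theorem f193908 : Led Lsl_et (LP (LK LD1_c4 LD2_c39 LD3_c53)) = (LP (LK LD1_c9 LD2_c15 LD3_c18)) :=
  Lre_e IH (LK LD1_c4 LD2_c39 LD3_c53) (LK LD1_c9 LD2_c15 LD3_c18) Lrfl Lrfl
theorem f880924 : Led Lsl_gt (LP (LK LD1_c9 LD2_c15 LD3_c18)) = v35885 :=
  Lgr Lrot131 (Lpe (f193908 IH) (Lpr_dt (f645288 IH) (Lpe (K46.f645280 IH) (Lpe (K29.f411196 IH) (Lpe (K29.f443717 IH) (Lpr_ef (f646370 IH) (Lpe (f646369 IH) (Lpe (K50.f23090 IH) (Lpe (f699508 IH) (Lpr_et (f880922 IH) (Lpn v35885)))))))))))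
theorem f904314 : Led Lsl_ff K56.v16883 = v38757 :=
  Lgr Lrot52 (Lpe (f903890 IH) (Lpe (f880924 IH) (Lpr_gf (f904312 IH) (Lpn v38757))))
theorem f904316 : Led Lsl_ft K56.v16883 = v38757 :=
  Lgr Lrot48 (Lpr_ff (f904314 IH) (Lpn v38757))
theorem f924128 : Led Lsl_bt v38757 = (LP (LK LD1_c18 LD2_c12 LD3_c49)) :=
  Lgr Lrot35 (Lpe (f904316 IH) (Lpr_bf (f924117 IH) (Lpe (K32.f299907 IH) (Lpn (LP (LK LD1_c18 LD2_c12 LD3_c49))))))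
theorem f904315 : Led Lsl_at K56.v16899 = v38757 :=
  Lgr Lrot66 (Lpe (f903893 IH) (Lpr_af (f903890 IH) (Lpr_ff (f904314 IH) (Lpn v38757))))
def v40860 : LQ := Led Lsl_bt (LP (LK LD1_c9 LD2_c48 LD3_c3))
theorem f920787 : Led Lsl_bt (LP (LK LD1_c9 LD2_c48 LD3_c3)) = v40860 :=
  Lrfl
theorem f924130 : K56.v16899 = v40860 :=
  (Llr Lrot36 (Lpr_at (f904315 IH) (Lpr_bt (f924128 IH) (Lpr_at (K53.f177280 IH) (Lpr_bt (K32.f177275 IH) (Lpe (K32.f386894 IH) (Lpr_bt (f920787 IH) (Lpn v40860)))))))).symm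
theorem f920788 : Led Lsl_bf (LP (LK LD1_c9 LD2_c48 LD3_c3)) = v40860 :=
  Lgr Lrot24 (Lpr_bt (f920787 IH) (Lpn v40860))
theorem f924131 : Led Lsl_bf v35885 = (LP (LK LD1_c10 LD2_c18 LD3_c45)) :=
  Lgr Lrot61 (Lpr_ft (f903893 IH) (Lpqs (f924130 IH) (Lpe (f920788 IH) (Lpr_ft (K28.f386891 IH) (Lpn (LP (LK LD1_c10 LD2_c18 LD3_c45)))))))
def v14563 : LQ := Led Lsl_dt (LP (LK LD1_c5 LD2_c13 LD3_c49))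
theorem f723765 : Led Lsl_dt (LP (LK LD1_c5 LD2_c13 LD3_c49)) = v14563 :=
  Lrfl
theorem f723768 : Led Lsl_ff (LP (LK LD1_c9 LD2_c15 LD3_c18)) = v14563 :=
  Lgr Lrot19 (Lpr_dt (K46.f193900 IH) (Lpe (K53.f645411 IH) (Lpr_dt (f723765 IH) (Lpn v14563))))
theorem f723770 : Led Lsl_ft (LP (LK LD1_c9 LD2_c15 LD3_c18)) = v14563 :=
  Lgr Lrot48 (Lpr_ff (f723768 IH) (Lpn v14563))
theorem f723766 : Led Lsl_af K55.v14348 = v14563 :=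
  Lgr Lrot117 (Lpe (K55.f722086 IH) (Lpe (K53.f645418 IH) (Lpr_dt (f723765 IH) (Lpn v14563))))
theorem f880925 : Led Lsl_gf K55.v14348 = v35885 :=
  Lgr Lrot76 (Lpr_af (f723766 IH) (Lpe (f723770 IH) (Lpr_gt (f880924 IH) (Lpn v35885))))
def v14116 : LQ := Led Lsl_ft (LP (LK LD1_c4 LD2_c58 LD3_c49))
theorem f719076 : Led Lsl_ft (LP (LK LD1_c4 LD2_c58 LD3_c49)) = v14116 :=
  Lrfl
theorem f719078 : Led Lsl_cf (LP (LK LD1_c4 LD2_c58 LD3_c50)) = v14116 :=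
  Lgr Lrot108 (Lpr_ft (K32.f387183 IH) (Lpr_ct (K44.f387073 IH) (Lpr_ft (f719076 IH) (Lpn v14116))))
theorem f719079 : Led Lsl_ff (LP (LK LD1_c4 LD2_c58 LD3_c49)) = v14116 :=
  Lgr Lrot3 (Lpr_ft (f719076 IH) (Lpn v14116))
theorem f161211 : Led Lsl_at (LP (LK LD1_c4 LD2_c58 LD3_c49)) = (LP (LK LD1_c9 LD2_c47 LD3_c23)) :=
  Lre_a IH (LK LD1_c4 LD2_c58 LD3_c49) (LK LD1_c9 LD2_c47 LD3_c23) Lrfl Lrfl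

end

end K71

end

end Cfsg.Agent.Helper28.S1692
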