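import Cfsg.Agent.Lib.Helper28.S1692.Seeds71

set_option autoImplicit false
set_option maxRecDepth 100000
set_option linter.all false

namespace Cfsg.Agent.Helper28.S1692

open Cfsg.Agent.Helper28
open Cfsg.Spor.ON (Gen)

noncomputable section

namespace K72
abbrev LD1_c0 := D1.c0
abbrev LD1_c1 := D1.c1
abbrev LD1_c2 := D1.c2
abbrev LD1_c3 := D1.c3
abbrev LD1_c4 := D1.c4
abbrev LD1_c5 := D1.c5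
abbrev LD1_c6 := D1.c6
abbrev LD1_c7 := D1.c7
abbrev LD1_c8 := D1.c8
abbrev LD1_c9 := D1.c9
abbrev LD1_c10 := D1.c10
abbrev LD1_c11 := D1.c11
abbrev LD1_c12 := D1.c12
abbrev LD1_c13 := D1.c13
abbrev LD1_c14 := D1.c14
abbrev LD1_c15 := D1.c15
abbrev LD1_c16 := D1.c16
abbrev LD1_c17 := D1.c17
abbrev LD1_c18 := D1.c18
abbrev LD1_c19 := D1.c19
abbrev LD1_c20 := D1.c20
abbrev LD1_c21 := D1.c21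
abbrev LD1_c22 := D1.c22
abbrev LD1_c23 := D1.c23
abbrev LD1_c24 := D1.c24
abbrev LD1_c25 := D1.c25
abbrev LD1_c26 := D1.c26
abbrev LD1_c27 := D1.c27
abbrev LD1_c28 := D1.c28
abbrev LD1_c29 := D1.c29
abbrev LD1_c30 := D1.c30
abbrev LD1_c31 := D1.c31
abbrev LD1_c32 := D1.c32
abbrev LD2_c0 := D2.c0
abbrev LD2_c1 := D2.c1
abbrev LD2_c2 := D2.c2
abbrev LD2_c3 := D2.c3
abbrev LD2_c4 := D2.c4
abbrev LD2_c5 := D2.c5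
abbrev LD2_c6 := D2.c6
abbrev LD2_c7 := D2.c7
abbrev LD2_c8 := D2.c8
abbrev LD2_c9 := D2.c9
abbrev LD2_c10 := D2.c10
abbrev LD2_c11 := D2.c11
abbrev LD2_c12 := D2.c12
abbrev LD2_c13 := D2.c13
abbrev LD2_c14 := D2.c14
abbrev LD2_c15 := D2.c15
abbrev LD2_c16 := D2.c16
abbrev LD2_c17 := D2.c17
abbrev LD2_c18 := D2.c18
abbrev LD2_c19 := D2.c19
abbrev LD2_c20 := D2.c20
abbrev LD2_c21 := D2.c21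
abbrev LD2_c22 := D2.c22
abbrev LD2_c23 := D2.c23
abbrev LD2_c24 := D2.c24
abbrev LD2_c25 := D2.c25
abbrev LD2_c26 := D2.c26
abbrev LD2_c27 := D2.c27
abbrev LD2_c28 := D2.c28
abbrev LD2_c29 := D2.c29
abbrev LD2_c30 := D2.c30
abbrev LD2_c31 := D2.c31
abbrev LD2_c32 := D2.c32
abbrev LD2_c33 := D2.c33
abbrev LD2_c34 := D2.c34
abbrev LD2_c35 := D2.c35
abbrev LD2_c36 := D2.c36
abbrev LD2_c37 := D2.c37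
abbrev LD2_c38 := D2.c38
abbrev LD2_c39 := D2.c39
abbrev LD2_c40 := D2.c40
abbrev LD2_c41 := D2.c41
abbrev LD2_c42 := D2.c42
abbrev LD2_c43 := D2.c43
abbrev LD2_c44 := D2.c44
abbrev LD2_c45 := D2.c45
abbrev LD2_c46 := D2.c46
abbrev LD2_c47 := D2.c47
abbrev LD2_c48 := D2.c48
abbrev LD2_c49 := D2.c49
abbrev LD2_c50 := D2.c50
abbrev LD2_c51 := D2.c51
abbrev LD2_c52 := D2.c52
abbrev LD2_c53 := D2.c53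
abbrev LD2_c54 := D2.c54
abbrev LD2_c55 := D2.c55
abbrev LD2_c56 := D2.c56
abbrev LD2_c57 := D2.c57
abbrev LD2_c58 := D2.c58
abbrev LD2_c59 := D2.c59
abbrev LD3_c0 := D3.c0
abbrev LD3_c1 := D3.c1
abbrev LD3_c2 := D3.c2
abbrev LD3_c3 := D3.c3
abbrev LD3_c4 := D3.c4
abbrev LD3_c5 := D3.c5
abbrev LD3_c6 := D3.c6
abbrev LD3_c7 := D3.c7
abbrev LD3_c8 := D3.c8
abbrev LD3_c9 := D3.c9
abbrev LD3_c10 := D3.c10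
abbrev LD3_c11 := D3.c11
abbrev LD3_c12 := D3.c12
abbrev LD3_c13 := D3.c13
abbrev LD3_c14 := D3.c14
abbrev LD3_c15 := D3.c15
abbrev LD3_c16 := D3.c16
abbrev LD3_c17 := D3.c17
abbrev LD3_c18 := D3.c18
abbrev LD3_c19 := D3.c19
abbrev LD3_c20 := D3.c20
abbrev LD3_c21 := D3.c21
abbrev LD3_c22 := D3.c22
abbrev LD3_c23 := D3.c23
abbrev LD3_c24 := D3.c24
abbrev LD3_c25 := D3.c25
abbrev LD3_c26 := D3.c26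
abbrev LD3_c27 := D3.c27
abbrev LD3_c28 := D3.c28
abbrev LD3_c29 := D3.c29
abbrev LD3_c30 := D3.c30
abbrev LD3_c31 := D3.c31
abbrev LD3_c32 := D3.c32
abbrev LD3_c33 := D3.c33
abbrev LD3_c34 := D3.c34
abbrev LD3_c35 := D3.c35
abbrev LD3_c36 := D3.c36
abbrev LD3_c37 := D3.c37
abbrev LD3_c38 := D3.c38
abbrev LD3_c39 := D3.c39
abbrev LD3_c40 := D3.c40
abbrev LD3_c41 := D3.c41
abbrev LD3_c42 := D3.c42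
abbrev LD3_c43 := D3.c43
abbrev LD3_c44 := D3.c44
abbrev LD3_c45 := D3.c45
abbrev LD3_c46 := D3.c46
abbrev LD3_c47 := D3.c47
abbrev LD3_c48 := D3.c48
abbrev LD3_c49 := D3.c49
abbrev LD3_c50 := D3.c50
abbrev LD3_c51 := D3.c51
abbrev LD3_c52 := D3.c52
abbrev LD3_c53 := D3.c53
abbrev LD3_c54 := D3.c54
abbrev LD3_c55 := D3.c55
abbrev LD3_c56 := D3.c56
abbrev LD3_c57 := D3.c57
abbrev LD3_c58 := D3.c58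
abbrev LD3_c59 := D3.c59
abbrev LD3_c60 := D3.c60
abbrev LD3_c61 := D3.c61
abbrev LG_g := Gen.g
abbrev Lsl_gt : Gen × Bool := sl_gt
alias Lfl_gt := fl_gt
alias Lpr_gt := pr_gt
abbrev Lsl_gf : Gen × Bool := sl_gf
alias Lfl_gf := fl_gf
alias Lpr_gf := pr_gf
alias Lre_g := re_g
alias Leoe_g := eoe_g
abbrev LG_a := Gen.a
abbrev Lsl_at : Gen × Bool := sl_at
alias Lfl_at := fl_at
alias Lpr_at := pr_at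
abbrev Lsl_af : Gen × Bool := sl_af
alias Lfl_af := fl_af
alias Lpr_af := pr_af
alias Lre_a := re_a
alias Leoe_a := eoe_a
abbrev LG_b := Gen.b
abbrev Lsl_bt : Gen × Bool := sl_bt
alias Lfl_bt := fl_bt
alias Lpr_bt := pr_bt
abbrev Lsl_bf : Gen × Bool := sl_bf
alias Lfl_bf := fl_bf
alias Lpr_bf := pr_bf
alias Lre_b := re_b
alias Leoe_b := eoe_b
abbrev LG_c := Gen.c
abbrev Lsl_ct : Gen × Bool := sl_ct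
alias Lfl_ct := fl_ct
alias Lpr_ct := pr_ct
abbrev Lsl_cf : Gen × Bool := sl_cf
alias Lfl_cf := fl_cf
alias Lpr_cf := pr_cf
alias Lre_c := re_c
alias Leoe_c := eoe_c
abbrev LG_d := Gen.d
abbrev Lsl_dt : Gen × Bool := sl_dt
alias Lfl_dt := fl_dt
alias Lpr_dt := pr_dt
abbrev Lsl_df : Gen × Bool := sl_df
alias Lfl_df := fl_df
alias Lpr_df := pr_df
alias Lre_d := re_d
alias Leoe_d := eoe_d
abbrev LG_e := Gen.e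
abbrev Lsl_et : Gen × Bool := sl_et
alias Lfl_et := fl_et
alias Lpr_et := pr_et
abbrev Lsl_ef : Gen × Bool := sl_ef
alias Lfl_ef := fl_ef
alias Lpr_ef := pr_ef
alias Lre_e := re_e
alias Leoe_e := eoe_e
abbrev LG_f := Gen.f
abbrev Lsl_ft : Gen × Bool := sl_ft
alias Lfl_ft := fl_ft
alias Lpr_ft := pr_ft
abbrev Lsl_ff : Gen × Bool := sl_ff
alias Lfl_ff := fl_ff
alias Lpr_ff := pr_ff
alias Lre_f := re_f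
alias Leoe_f := eoe_f
abbrev LK := Pt.mk
abbrev LQ : Type := Qt rels S
abbrev LP (p : Pt) : LQ := P p
abbrev Led (l : Gen × Bool) (c : LQ) : LQ := ed l c
abbrev LEOK (x : Gen) (p : Pt) : Prop := EntryOK rels S fwd inv o plet idx x p
alias Lpe := pe
alias Lpn := pn
alias Lgr := gr
alias Lpq := pq
alias Lpqs := pqs
alias Llr := lr
alias Leop := eop
alias Lefun := efun
alias Lecon := econ
theorem Lrfl {α : Sort _} {a : α} : a = a := rfl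
alias Lrot0 := rot0
alias Lrot1 := rot1
alias Lrot2 := rot2
alias Lrot3 := rot3
alias Lrot4 := rot4
alias Lrot5 := rot5
alias Lrot6 := rot6
alias Lrot8 := rot8
alias Lrot9 := rot9
alias Lrot10 := rot10
alias Lrot11 := rot11
alias Lrot12 := rot12
alias Lrot13 := rot13
alias Lrot14 := rot14
alias Lrot15 := rot15
alias Lrot17 := rot17
alias Lrot18 := rot18
alias Lrot19 := rot19
alias Lrot20 := rot20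
alias Lrot21 := rot21
alias Lrot22 := rot22
alias Lrot23 := rot23
alias Lrot24 := rot24
alias Lrot25 := rot25
alias Lrot26 := rot26
alias Lrot27 := rot27
alias Lrot28 := rot28
alias Lrot29 := rot29
alias Lrot30 := rot30
alias Lrot31 := rot31
alias Lrot33 := rot33
alias Lrot34 := rot34
alias Lrot35 := rot35
alias Lrot36 := rot36
alias Lrot37 := rot37
alias Lrot38 := rot38
alias Lrot39 := rot39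
alias Lrot40 := rot40
alias Lrot41 := rot41
alias Lrot42 := rot42
alias Lrot43 := rot43
alias Lrot44 := rot44
alias Lrot45 := rot45
alias Lrot46 := rot46
alias Lrot47 := rot47
alias Lrot48 := rot48
alias Lrot49 := rot49
alias Lrot50 := rot50
alias Lrot51 := rot51
alias Lrot52 := rot52
alias Lrot54 := rot54
alias Lrot56 := rot56
alias Lrot57 := rot57
alias Lrot58 := rot58
alias Lrot59 := rot59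
alias Lrot60 := rot60
alias Lrot61 := rot61
alias Lrot62 := rot62
alias Lrot63 := rot63
alias Lrot64 := rot64
alias Lrot65 := rot65
alias Lrot66 := rot66
alias Lrot67 := rot67
alias Lrot68 := rot68
alias Lrot69 := rot69
alias Lrot70 := rot70
alias Lrot71 := rot71
alias Lrot72 := rot72
alias Lrot73 := rot73
alias Lrot74 := rot74
alias Lrot75 := rot75
alias Lrot76 := rot76
alias Lrot77 := rot77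
alias Lrot78 := rot78
alias Lrot79 := rot79
alias Lrot80 := rot80
alias Lrot81 := rot81
alias Lrot82 := rot82
alias Lrot83 := rot83
alias Lrot84 := rot84
alias Lrot85 := rot85
alias Lrot86 := rot86
alias Lrot87 := rot87
alias Lrot88 := rot88
alias Lrot89 := rot89
alias Lrot90 := rot90
alias Lrot91 := rot91
alias Lrot92 := rot92
alias Lrot93 := rot93
alias Lrot94 := rot94
alias Lrot95 := rot95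
alias Lrot96 := rot96
alias Lrot97 := rot97
alias Lrot98 := rot98
alias Lrot99 := rot99
alias Lrot100 := rot100
alias Lrot101 := rot101
alias Lrot104 := rot104
alias Lrot105 := rot105
alias Lrot106 := rot106
alias Lrot107 := rot107
alias Lrot108 := rot108
alias Lrot109 := rot109
alias Lrot110 := rot110
alias Lrot111 := rot111
alias Lrot112 := rot112
alias Lrot114 := rot114
alias Lrot116 := rot116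
alias Lrot117 := rot117
alias Lrot118 := rot118
alias Lrot119 := rot119
alias Lrot120 := rot120
alias Lrot121 := rot121
alias Lrot122 := rot122
alias Lrot123 := rot123
alias Lrot124 := rot124
alias Lrot125 := rot125
alias Lrot126 := rot126
alias Lrot127 := rot127
alias Lrot128 := rot128
alias Lrot129 := rot129
alias Lrot130 := rot130
alias Lrot131 := rot131
alias Lrot132 := rot132
alias Lrot134 := rot134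
alias Lrot135 := rot135
alias Lrot136 := rot136
alias Lrot137 := rot137
alias Lrot139 := rot139
alias Lrot140 := rot140
alias Lrot141 := rot141
alias Lrot143 := rot143
alias Lrot144 := rot144
alias Lrot145 := rot145
alias Lrot147 := rot147
alias Lrot148 := rot148
alias Lrot149 := rot149
alias Lrot150 := rot150
alias Lrot151 := rot151
alias Lrot152 := rot152
alias Lrot153 := rot153
alias Lrot155 := rot155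
alias Lrot156 := rot156
alias Lrot158 := rot158
alias Lrot159 := rot159
alias Lrot160 := rot160
alias Lrot162 := rot162
alias Lrot163 := rot163
alias Lrot164 := rot164
alias Lrot165 := rot165
alias Lrot166 := rot166
alias Lrot167 := rot167
alias Lrot168 := rot168
alias Lrot169 := rot169
alias Lrot170 := rot170
alias Lrot173 := rot173
alias Lrot178 := rot178
alias Lrot179 := rot179
alias Lrot181 := rot181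
alias Lrot182 := rot182
alias Lrot183 := rot183
alias Lrot185 := rot185
alias Lrot187 := rot187
alias Lrot189 := rot189
alias Lrot190 := rot190

section
variable (IH : IHT)
include IH

theorem f547944 : Led Lsl_ft (LP (LK LD1_c4 LD2_c35 LD3_c38)) = (LP (LK LD1_c9 LD2_c7 LD3_c21)) :=
  Lgr Lrot54 (Lpr_df (K36.f547930 IH) (Lpe (K28.f56237 IH) (Lpe (K43.f546519 IH) (Lpn (LP (LK LD1_c9 LD2_c7 LD3_c21))))))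
theorem f559470 : Led Lsl_ff (LP (LK LD1_c3 LD2_c0 LD3_c13)) = (LP (LK LD1_c5 LD2_c57 LD3_c46)) :=
  Lgr Lrot52 (Lpr_at (K5.f75953 IH) (Lpe (K36.f9095 IH) (Lpr_gf (K40.f559468 IH) (Lpn (LP (LK LD1_c5 LD2_c57 LD3_c46))))))
theorem f618437 : Led Lsl_bf (LP (LK LD1_c4 LD2_c35 LD3_c38)) = (LP (LK LD1_c3 LD2_c0 LD3_c13)) :=
  Lgr Lrot61 (Lpr_ft (f547944 IH) (Lpr_bt (K56.f559484 IH) (Lpe (f559470 IH) (Lpn (LP (LK LD1_c3 LD2_c0 LD3_c13))))))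
theorem f581878 : Led Lsl_ft (LP (LK LD1_c4 LD2_c7 LD3_c7)) = (LP (LK LD1_c2 LD2_c0 LD3_c59)) :=
  Lre_f IH (LK LD1_c4 LD2_c7 LD3_c7) (LK LD1_c2 LD2_c0 LD3_c59) Lrfl Lrfl
theorem f581879 : Led Lsl_cf (LP (LK LD1_c4 LD2_c7 LD3_c7)) = (LP (LK LD1_c4 LD2_c5 LD3_c49)) :=
  Lgr Lrot108 (Lpr_ft (f581878 IH) (Lpr_ct (K56.f55873 IH) (Lpr_ft (K44.f581849 IH) (Lpn (LP (LK LD1_c4 LD2_c5 LD3_c49))))))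
theorem f55947 : Led Lsl_cf (LP (LK LD1_c2 LD2_c1 LD3_c0)) = (LP (LK LD1_c1 LD2_c25 LD3_c54)) :=
  Lgr Lrot11 (Lpr_ct (K1.f55936 IH) (Lpn (LP (LK LD1_c1 LD2_c25 LD3_c54))))
theorem f581980 : Led Lsl_gt (LP (LK LD1_c4 LD2_c7 LD3_c7)) = (LP (LK LD1_c2 LD2_c1 LD3_c0)) :=
  Lgr Lrot149 (Lpr_cf (f581879 IH) (Lpr_gf (K44.f581978 IH) (Lpr_bf (K36.f386941 IH) (Lpe (K56.f541259 IH) (Lpr_gf (K42.f563667 IH) (Lpe (K42.f182431 IH) (Lpr_bt (K30.f182427 IH) (Lpe (K9.f182470 IH) (Lpe (K1.f55935 IH) (Lpe (f55947 IH) (Lpn (LP (LK LD1_c2 LD2_c1 LD3_c0)))))))))))))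
theorem f161207 : Led Lsl_ct (LP (LK LD1_c4 LD2_c58 LD3_c20)) = (LP (LK LD1_c9 LD2_c47 LD3_c23)) :=
  Lre_c IH (LK LD1_c4 LD2_c58 LD3_c20) (LK LD1_c9 LD2_c47 LD3_c23) Lrfl Lrfl
theorem f55962 : Led Lsl_dt (LP (LK LD1_c3 LD2_c0 LD3_c17)) = (LP (LK LD1_c1 LD2_c25 LD3_c54)) :=
  Lre_d IH (LK LD1_c3 LD2_c0 LD3_c17) (LK LD1_c1 LD2_c25 LD3_c54) Lrfl Lrfl
theorem f605035 : Led Lsl_gt (LP (LK LD1_c9 LD2_c47 LD3_c23)) = (LP (LK LD1_c6 LD2_c8 LD3_c6)) :=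
  Lgr Lrot150 (Lpe (f161207 IH) (Lpe (K36.f427589 IH) (Lpe (K36.f180680 IH) (Lpe (K44.f581978 IH) (Lpe (f581879 IH) (Lpr_gt (f581980 IH) (Lpr_ct (K1.f55936 IH) (Lpe (f55962 IH) (Lpe (K71.f55963 IH) (Lpn (LP (LK LD1_c6 LD2_c8 LD3_c6))))))))))))
theorem f55951 : Led Lsl_ct (LP (LK LD1_c3 LD2_c0 LD3_c17)) = (LP (LK LD1_c6 LD2_c8 LD3_c6)) :=
  Lre_c IH (LK LD1_c3 LD2_c0 LD3_c17) (LK LD1_c6 LD2_c8 LD3_c6) Lrfl Lrfl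
theorem f175315 : Led Lsl_bt (LP (LK LD1_c3 LD2_c0 LD3_c17)) = (LP (LK LD1_c1 LD2_c25 LD3_c59)) :=
  Lre_b IH (LK LD1_c3 LD2_c0 LD3_c17) (LK LD1_c1 LD2_c25 LD3_c59) Lrfl Lrfl
theorem f55411 : Led Lsl_ct (LP (LK LD1_c0 LD2_c57 LD3_c7)) = (LP (LK LD1_c2 LD2_c0 LD3_c18)) :=
  Lre_c IH (LK LD1_c0 LD2_c57 LD3_c7) (LK LD1_c2 LD2_c0 LD3_c18) Lrfl Lrfl
theorem f55412 : Led Lsl_bt (LP (LK LD1_c0 LD2_c57 LD3_c7)) = (LP (LK LD1_c2 LD2_c0 LD3_c16)) :=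
  Lre_b IH (LK LD1_c0 LD2_c57 LD3_c7) (LK LD1_c2 LD2_c0 LD3_c16) Lrfl Lrfl
theorem f605038 : Led Lsl_bt (LP (LK LD1_c4 LD2_c58 LD3_c20)) = (LP (LK LD1_c4 LD2_c5 LD3_c59)) :=
  Lgr Lrot92 (Lpr_ct (f161207 IH) (Lpr_gt (f605035 IH) (Lpe (f55951 IH) (Lpr_bt (f175315 IH) (Lpr_gt (K9.f175306 IH) (Lpe (K9.f183033 IH) (Lpr_gt (K9.f183024 IH) (Lpe (f55411 IH) (Lpr_bt (f55412 IH) (Lpr_gt (K42.f55413 IH) (Lpn (LP (LK LD1_c4 LD2_c5 LD3_c59)))))))))))))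
theorem f55960 : Led Lsl_ct (LP (LK LD1_c3 LD2_c0 LD3_c13)) = (LP (LK LD1_c6 LD2_c7 LD3_c60)) :=
  Lre_c IH (LK LD1_c3 LD2_c0 LD3_c13) (LK LD1_c6 LD2_c7 LD3_c60) Lrfl Lrfl
theorem f618441 : Led Lsl_gf (LP (LK LD1_c9 LD2_c47 LD3_c23)) = (LP (LK LD1_c6 LD2_c7 LD3_c60)) :=
  Lgr Lrot126 (Lpe (f161207 IH) (Lpr_bt (f605038 IH) (Lpr_gt (K43.f46866 IH) (Lpe (K43.f548052 IH) (Lpr_gt (K38.f548038 IH) (Lpe (K38.f548010 IH) (Lpr_bt (K2.f71786 IH) (Lpr_gt (K36.f71796 IH) (Lpr_bf (f618437 IH) (Lpr_ct (f55960 IH) (Lpn (LP (LK LD1_c6 LD2_c7 LD3_c60)))))))))))))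
theorem f719082 : Led Lsl_gf (LP (LK LD1_c6 LD2_c7 LD3_c60)) = K71.v14116 :=
  Lgr Lrot47 (Lpe (f618441 IH) (Lpe (K71.f161211 IH) (Lpr_ff (K71.f719079 IH) (Lpn K71.v14116))))
theorem f444462 : Led Lsl_at (LP (LK LD1_c3 LD2_c0 LD3_c15)) = (LP (LK LD1_c6 LD2_c7 LD3_c60)) :=
  Lre_a IH (LK LD1_c3 LD2_c0 LD3_c15) (LK LD1_c6 LD2_c7 LD3_c60) Lrfl Lrfl
theorem f412181 : Led Lsl_ft (LP (LK LD1_c6 LD2_c8 LD3_c6)) = (LP (LK LD1_c3 LD2_c0 LD3_c15)) :=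
  Lre_f IH (LK LD1_c6 LD2_c8 LD3_c6) (LK LD1_c3 LD2_c0 LD3_c15) Lrfl Lrfl
theorem f719083 : Led Lsl_gt (LP (LK LD1_c6 LD2_c8 LD3_c6)) = K71.v14116 :=
  Lgr Lrot5 (Lpr_ft (f412181 IH) (Lpr_at (f444462 IH) (Lpr_gf (f719082 IH) (Lpn K71.v14116))))
theorem f8886 : Led Lsl_ct (LP (LK LD1_c5 LD2_c27 LD3_c17)) = (LP (LK LD1_c2 LD2_c39 LD3_c61)) :=
  Lre_c IH (LK LD1_c5 LD2_c27 LD3_c17) (LK LD1_c2 LD2_c39 LD3_c61) Lrfl Lrfl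
theorem f8883 : Led Lsl_gt (LP (LK LD1_c5 LD2_c27 LD3_c16)) = (LP (LK LD1_c2 LD2_c39 LD3_c61)) :=
  Lre_g IH (LK LD1_c5 LD2_c27 LD3_c16) (LK LD1_c2 LD2_c39 LD3_c61) Lrfl Lrfl
theorem f8903 : Led Lsl_ct (LP (LK LD1_c10 LD2_c45 LD3_c39)) = (LP (LK LD1_c5 LD2_c27 LD3_c16)) :=
  Lre_c IH (LK LD1_c10 LD2_c45 LD3_c39) (LK LD1_c5 LD2_c27 LD3_c16) Lrfl Lrfl
theorem f924134 : Led Lsl_bf K55.v14348 = (LP (LK LD1_c10 LD2_c45 LD3_c39)) :=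
  Lgr Lrot34 (Lpr_gf (K71.f880925 IH) (Lpr_bf (K71.f924131 IH) (Lpr_ct (K28.f180689 IH) (Lpr_gf (K32.f427595 IH) (Lpr_cf (K71.f719078 IH) (Lpe (f719083 IH) (Lpr_bf (K71.f412163 IH) (Lpr_ct (f8886 IH) (Lpe (f8883 IH) (Lpe (f8903 IH) (Lpn (LP (LK LD1_c10 LD2_c45 LD3_c39)))))))))))))
theorem f645420 : Led Lsl_bt (LP (LK LD1_c5 LD2_c6 LD3_c60)) = (LP (LK LD1_c10 LD2_c4 LD3_c37)) :=
  Lre_b IH (LK LD1_c5 LD2_c6 LD3_c60) (LK LD1_c10 LD2_c4 LD3_c37) Lrfl Lrfl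
theorem f924136 : Led Lsl_dt (LP (LK LD1_c10 LD2_c4 LD3_c37)) = (LP (LK LD1_c10 LD2_c45 LD3_c39)) :=
  Lgr Lrot79 (Lpe (f645420 IH) (Lpr_df (K55.f722086 IH) (Lpr_bf (f924134 IH) (Lpn (LP (LK LD1_c10 LD2_c45 LD3_c39))))))
theorem f924137 : Led Lsl_dt (LP (LK LD1_c10 LD2_c4 LD3_c37)) = (LP (LK LD1_c10 LD2_c45 LD3_c39)) :=
  Leop (Lpe (f924136 IH) (Lpn (LP (LK LD1_c10 LD2_c4 LD3_c37))))
theorem seed_2479 : LEOK LG_d (LK LD1_c10 LD2_c4 LD3_c37) :=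
  Leoe_d (LK LD1_c10 LD2_c4 LD3_c37) (f924137 IH)
def v14917 : LQ := Led Lsl_at (LP (LK LD1_c5 LD2_c27 LD3_c15))
theorem f727273 : Led Lsl_at (LP (LK LD1_c5 LD2_c27 LD3_c15)) = v14917 :=
  Lrfl
theorem f752366 : Led Lsl_bt (LP (LK LD1_c6 LD2_c8 LD3_c27)) = K64.v16898 :=
  Lgr Lrot119 (Lpe (K46.f636311 IH) (Lpe (K64.f645363 IH) (Lpr_ef (K64.f752365 IH) (Lpn K64.v16898))))
theorem f924138 : Led Lsl_ft K64.v16898 = (LP (LK LD1_c10 LD2_c45 LD3_c39)) :=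
  Lgr Lrot75 (Lpe (f752366 IH) (Lpr_ff (K55.f722087 IH) (Lpr_bf (f924134 IH) (Lpn (LP (LK LD1_c10 LD2_c45 LD3_c39))))))
theorem f924142 : Led Lsl_ff K64.v16898 = (LP (LK LD1_c10 LD2_c45 LD3_c39)) :=
  Lgr Lrot3 (Lpr_ft (f924138 IH) (Lpn (LP (LK LD1_c10 LD2_c45 LD3_c39))))
theorem f8895 : Led Lsl_ct (LP (LK LD1_c5 LD2_c27 LD3_c16)) = (LP (LK LD1_c10 LD2_c45 LD3_c39)) :=
  Lre_c IH (LK LD1_c5 LD2_c27 LD3_c16) (LK LD1_c10 LD2_c45 LD3_c39) Lrfl Lrfl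
theorem f727274 : Led Lsl_af (LP (LK LD1_c5 LD2_c27 LD3_c15)) = v14917 :=
  Lgr Lrot0 (Lpr_at (f727273 IH) (Lpn v14917))
theorem f168218 : Led Lsl_gt (LP (LK LD1_c2 LD2_c39 LD3_c61)) = (LP (LK LD1_c5 LD2_c27 LD3_c15)) :=
  Lre_g IH (LK LD1_c2 LD2_c39 LD3_c61) (LK LD1_c5 LD2_c27 LD3_c15) Lrfl Lrfl
theorem f727275 : Led Lsl_ft (LP (LK LD1_c5 LD2_c27 LD3_c16)) = v14917 :=
  Lgr Lrot2 (Lpr_gt (f8883 IH) (Lpr_gt (f168218 IH) (Lpr_af (f727274 IH) (Lpn v14917))))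
theorem f727276 : Led Lsl_ff (LP (LK LD1_c5 LD2_c27 LD3_c16)) = v14917 :=
  Lgr Lrot3 (Lpr_ft (f727275 IH) (Lpn v14917))
theorem f924143 : Led Lsl_ct K64.v16898 = v14917 :=
  Lgr Lrot40 (Lpr_ff (f924142 IH) (Lpe (f8895 IH) (Lpr_ff (f727276 IH) (Lpn v14917))))
theorem f8987 : Led Lsl_bt (LP (LK LD1_c6 LD2_c8 LD3_c3)) = (LP (LK LD1_c3 LD2_c0 LD3_c15)) :=
  Lre_b IH (LK LD1_c6 LD2_c8 LD3_c3) (LK LD1_c3 LD2_c0 LD3_c15) Lrfl Lrfl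
theorem f8926 : Led Lsl_ct (LP (LK LD1_c6 LD2_c8 LD3_c3)) = (LP (LK LD1_c3 LD2_c0 LD3_c23)) :=
  Lre_c IH (LK LD1_c6 LD2_c8 LD3_c3) (LK LD1_c3 LD2_c0 LD3_c23) Lrfl Lrfl
theorem f8920 : Led Lsl_gt (LP (LK LD1_c6 LD2_c8 LD3_c20)) = (LP (LK LD1_c3 LD2_c0 LD3_c23)) :=
  Lre_g IH (LK LD1_c6 LD2_c8 LD3_c20) (LK LD1_c3 LD2_c0 LD3_c23) Lrfl Lrfl
theorem f924146 : (LP (LK LD1_c6 LD2_c8 LD3_c20)) = v14917 :=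
  (Llr Lrot126 (Lpr_gt (f8920 IH) (Lpe (f8926 IH) (Lpr_bt (f8987 IH) (Lpe (K44.f539624 IH) (Lpr_ct (K44.f161225 IH) (Lpr_gt (K28.f384181 IH) (Lpe (K32.f386880 IH) (Lpr_bt (K71.f920787 IH) (Lpq (K71.f924130 IH) (Lpe (K56.f752367 IH) (Lpr_bf (K64.f752364 IH) (Lpr_ct (f924143 IH) (Lpn v14917)))))))))))))).symm
theorem f924148 : Led Lsl_at (LP (LK LD1_c5 LD2_c27 LD3_c15)) = (LP (LK LD1_c6 LD2_c8 LD3_c20)) :=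
  Leop (Lpqs (f924146 IH) (Lpe (f727273 IH) (Lpn (LP (LK LD1_c5 LD2_c27 LD3_c15)))))
theorem seed_2480 : LEOK LG_a (LK LD1_c5 LD2_c27 LD3_c15) :=
  Leoe_a (LK LD1_c5 LD2_c27 LD3_c15) (f924148 IH)
theorem f924139 : Led Lsl_cf K64.v16898 = v14917 :=
  Lgr Lrot108 (Lpr_ft (f924138 IH) (Lpr_ct (f8903 IH) (Lpr_ft (f727275 IH) (Lpn v14917))))
theorem f8928 : Led Lsl_ct (LP (LK LD1_c6 LD2_c8 LD3_c20)) = (LP (LK LD1_c11 LD2_c58 LD3_c30)) :=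
  Lre_c IH (LK LD1_c6 LD2_c8 LD3_c20) (LK LD1_c11 LD2_c58 LD3_c30) Lrfl Lrfl
theorem f924150 : K64.v16898 = (LP (LK LD1_c11 LD2_c58 LD3_c30)) :=
  Lefun (Lecon (Lfl_cf (f924139 IH)) (f924146 IH).symm) (f8928 IH)
theorem f924152 : Led Lsl_bt (LP (LK LD1_c11 LD2_c58 LD3_c30)) = (LP (LK LD1_c6 LD2_c8 LD3_c27)) :=
  Leop (Lpr_bf (K64.f752364 IH) (Lpqs (f924150 IH) (Lpn (LP (LK LD1_c11 LD2_c58 LD3_c30)))))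
theorem seed_2481 : LEOK LG_b (LK LD1_c11 LD2_c58 LD3_c30) :=
  Leoe_b (LK LD1_c11 LD2_c58 LD3_c30) (f924152 IH)
def v16897 : LQ := Led Lsl_ct (LP (LK LD1_c6 LD2_c8 LD3_c26))
theorem f752358 : Led Lsl_ct (LP (LK LD1_c6 LD2_c8 LD3_c26)) = v16897 :=
  Lrfl
theorem f165774 : Led Lsl_bt (LP (LK LD1_c5 LD2_c8 LD3_c13)) = (LP (LK LD1_c2 LD2_c31 LD3_c20)) :=
  Lre_b IH (LK LD1_c5 LD2_c8 LD3_c13) (LK LD1_c2 LD2_c31 LD3_c20) Lrfl Lrfl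
theorem f165751 : Led Lsl_ct (LP (LK LD1_c5 LD2_c8 LD3_c13)) = (LP (LK LD1_c10 LD2_c6 LD3_c57)) :=
  Lre_c IH (LK LD1_c5 LD2_c8 LD3_c13) (LK LD1_c10 LD2_c6 LD3_c57) Lrfl Lrfl
theorem f752361 : Led Lsl_gt (LP (LK LD1_c10 LD2_c6 LD3_c57)) = v16897 :=
  Lgr Lrot65 (Lpe (f165751 IH) (Lpr_bt (f165774 IH) (Lpe (K51.f165765 IH) (Lpqs (K51.f707151 IH) (Lpe (K51.f691622 IH) (Lpr_ct (K53.f646327 IH) (Lpr_gf (K53.f701143 IH) (Lpe (K53.f701141 IH) (Lpe (K46.f25582 IH) (Lpe (K64.f645363 IH) (Lpr_ct (f752358 IH) (Lpn v16897))))))))))))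
theorem f752359 : Led Lsl_cf (LP (LK LD1_c6 LD2_c8 LD3_c26)) = v16897 :=
  Lgr Lrot11 (Lpr_ct (f752358 IH) (Lpn v16897))
theorem f924145 : Led Lsl_ef v16897 = v14917 :=
  Lgr Lrot28 (Lpe (f752359 IH) (Lpr_et (K64.f752363 IH) (Lpr_ct (f924143 IH) (Lpn v14917))))
theorem f752316 : Led Lsl_et (LP (LK LD1_c6 LD2_c8 LD3_c20)) = (LP (LK LD1_c11 LD2_c58 LD3_c31)) :=
  Lre_e IH (LK LD1_c6 LD2_c8 LD3_c20) (LK LD1_c11 LD2_c58 LD3_c31) Lrfl Lrfl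
theorem f924158 : v16897 = (LP (LK LD1_c11 LD2_c58 LD3_c31)) :=
  Lefun (Lecon (Lfl_ef (f924145 IH)) (f924146 IH).symm) (f752316 IH)
theorem f924159 : Led Lsl_gt (LP (LK LD1_c10 LD2_c6 LD3_c57)) = (LP (LK LD1_c11 LD2_c58 LD3_c31)) :=
  Leop (Lpq (f924158 IH) (Lpe (f752361 IH) (Lpn (LP (LK LD1_c10 LD2_c6 LD3_c57)))))
theorem seed_2482 : LEOK LG_g (LK LD1_c10 LD2_c6 LD3_c57) :=
  Leoe_g (LK LD1_c10 LD2_c6 LD3_c57) (f924159 IH)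
def v16887 : LQ := Led Lsl_ft (LP (LK LD1_c6 LD2_c8 LD3_c19))
theorem f752326 : Led Lsl_ft (LP (LK LD1_c6 LD2_c8 LD3_c19)) = v16887 :=
  Lrfl
theorem f752328 : Led Lsl_ff (LP (LK LD1_c6 LD2_c8 LD3_c19)) = v16887 :=
  Lgr Lrot3 (Lpr_ft (f752326 IH) (Lpn v16887))
def v16884 : LQ := Led Lsl_at (LP (LK LD1_c6 LD2_c8 LD3_c19))
theorem f752312 : Led Lsl_at (LP (LK LD1_c6 LD2_c8 LD3_c19)) = v16884 :=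
  Lrfl
theorem f752313 : Led Lsl_af (LP (LK LD1_c6 LD2_c8 LD3_c19)) = v16884 :=
  Lgr Lrot0 (Lpr_at (f752312 IH) (Lpn v16884))
theorem f752314 : Led Lsl_ft (LP (LK LD1_c6 LD2_c8 LD3_c20)) = v16884 :=
  Lgr Lrot2 (Lpr_gt (f8920 IH) (Lpr_gt (K56.f8984 IH) (Lpr_af (f752313 IH) (Lpn v16884))))
theorem f752315 : Led Lsl_ff (LP (LK LD1_c6 LD2_c8 LD3_c20)) = v16884 :=
  Lgr Lrot3 (Lpr_ft (f752314 IH) (Lpn v16884))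
theorem f752329 : Led Lsl_at (LP (LK LD1_c6 LD2_c8 LD3_c20)) = v16887 :=
  Lgr Lrot66 (Lpr_ff (f752315 IH) (Lpe (f752312 IH) (Lpr_ff (f752328 IH) (Lpn v16887))))
theorem f924147 : (LP (LK LD1_c5 LD2_c27 LD3_c15)) = v16887 :=
  Lefun (Lecon (Lfl_af (f727274 IH)) (f924146 IH).symm) (f752329 IH)
theorem f198655 : Led Lsl_ct (LP (LK LD1_c10 LD2_c45 LD3_c38)) = (LP (LK LD1_c5 LD2_c27 LD3_c15)) :=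
  Lre_c IH (LK LD1_c10 LD2_c45 LD3_c38) (LK LD1_c5 LD2_c27 LD3_c15) Lrfl Lrfl
theorem f8985 : Led Lsl_ct (LP (LK LD1_c6 LD2_c8 LD3_c19)) = (LP (LK LD1_c11 LD2_c58 LD3_c29)) :=
  Lre_c IH (LK LD1_c6 LD2_c8 LD3_c19) (LK LD1_c11 LD2_c58 LD3_c29) Lrfl Lrfl
theorem f924172 : Led Lsl_ff (LP (LK LD1_c10 LD2_c45 LD3_c38)) = (LP (LK LD1_c11 LD2_c58 LD3_c29)) :=
  Lgr Lrot23 (Lpr_ct (f198655 IH) (Lpqs (f924147 IH) (Lpe (f752328 IH) (Lpr_ct (f8985 IH) (Lpn (LP (LK LD1_c11 LD2_c58 LD3_c29)))))))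
theorem f198647 : Led Lsl_ct (LP (LK LD1_c5 LD2_c27 LD3_c15)) = (LP (LK LD1_c10 LD2_c45 LD3_c38)) :=
  Lre_c IH (LK LD1_c5 LD2_c27 LD3_c15) (LK LD1_c10 LD2_c45 LD3_c38) Lrfl Lrfl
theorem f924144 : Led Lsl_af K64.v16898 = (LP (LK LD1_c10 LD2_c45 LD3_c38)) :=
  Lgr Lrot68 (Lpr_ct (f924143 IH) (Lpe (f727274 IH) (Lpr_ct (f198647 IH) (Lpn (LP (LK LD1_c10 LD2_c45 LD3_c38))))))
theorem f924176 : Led Lsl_at (LP (LK LD1_c10 LD2_c45 LD3_c39)) = (LP (LK LD1_c11 LD2_c58 LD3_c29)) :=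
  Lgr Lrot66 (Lpe (f924138 IH) (Lpr_af (f924144 IH) (Lpr_ff (f924172 IH) (Lpn (LP (LK LD1_c11 LD2_c58 LD3_c29))))))
theorem f924180 : Led Lsl_af (LP (LK LD1_c10 LD2_c45 LD3_c39)) = (LP (LK LD1_c11 LD2_c58 LD3_c29)) :=
  Lgr Lrot0 (Lpr_at (f924176 IH) (Lpn (LP (LK LD1_c11 LD2_c58 LD3_c29))))
theorem f924178 : Led Lsl_ft (LP (LK LD1_c10 LD2_c45 LD3_c38)) = (LP (LK LD1_c11 LD2_c58 LD3_c29)) :=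
  Lgr Lrot48 (Lpr_ff (f924172 IH) (Lpn (LP (LK LD1_c11 LD2_c58 LD3_c29))))
theorem f924182 : Led Lsl_at K64.v16898 = (LP (LK LD1_c10 LD2_c45 LD3_c38)) :=
  Lgr Lrot66 (Lpr_ff (f924142 IH) (Lpr_af (f924180 IH) (Lpe (f924178 IH) (Lpn (LP (LK LD1_c10 LD2_c45 LD3_c38))))))
theorem f924188 : Led Lsl_ef (LP (LK LD1_c11 LD2_c34 LD3_c51)) = (LP (LK LD1_c10 LD2_c45 LD3_c38)) :=
  Lgr Lrot20 (Lpe (K64.f739692 IH) (Lpr_et (K64.f752363 IH) (Lpr_at (f924182 IH) (Lpn (LP (LK LD1_c10 LD2_c45 LD3_c38))))))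
def v16202 : LQ := Led Lsl_et (LP (LK LD1_c5 LD2_c54 LD3_c58))
theorem f747009 : Led Lsl_et (LP (LK LD1_c5 LD2_c54 LD3_c58)) = v16202 :=
  Lrfl
theorem f747013 : Led Lsl_ef (LP (LK LD1_c5 LD2_c54 LD3_c58)) = v16202 :=
  Lgr Lrot88 (Lpr_et (f747009 IH) (Lpn v16202))
theorem f500458 : Led Lsl_et (LP (LK LD1_c5 LD2_c55 LD3_c0)) = (LP (LK LD1_c2 LD2_c53 LD3_c51)) :=
  Lre_e IH (LK LD1_c5 LD2_c55 LD3_c0) (LK LD1_c2 LD2_c53 LD3_c51) Lrfl Lrfl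
theorem f747012 : Led Lsl_df (LP (LK LD1_c5 LD2_c55 LD3_c0)) = v16202 :=
  Lgr Lrot70 (Lpr_et (f500458 IH) (Lpr_dt (K41.f239275 IH) (Lpr_et (K41.f500457 IH) (Lpq (K41.f567063 IH) (Lpr_dt (K45.f171707 IH) (Lpr_et (f747009 IH) (Lpn v16202)))))))
theorem f500467 : Led Lsl_gt (LP (LK LD1_c11 LD2_c35 LD3_c27)) = (LP (LK LD1_c5 LD2_c55 LD3_c0)) :=
  Lre_g IH (LK LD1_c11 LD2_c35 LD3_c27) (LK LD1_c5 LD2_c55 LD3_c0) Lrfl Lrfl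
theorem f924197 : Led Lsl_df (LP (LK LD1_c11 LD2_c35 LD3_c27)) = (LP (LK LD1_c10 LD2_c45 LD3_c38)) :=
  Lgr Lrot170 (Lpr_gt (f500467 IH) (Lpr_df (f747012 IH) (Lpe (f747013 IH) (Lpe (K45.f595189 IH) (Lpr_dt (K40.f182438 IH) (Lpe (K38.f547952 IH) (Lpe (K8.f132626 IH) (Lpr_et (K8.f138441 IH) (Lpr_gt (K64.f138438 IH) (Lpr_ef (f924188 IH) (Lpn (LP (LK LD1_c10 LD2_c45 LD3_c38)))))))))))))
theorem f924198 : Led Lsl_dt (LP (LK LD1_c10 LD2_c45 LD3_c38)) = (LP (LK LD1_c11 LD2_c35 LD3_c27)) :=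
  Leop (Lpr_df (f924197 IH) (Lpn (LP (LK LD1_c10 LD2_c45 LD3_c38))))
theorem seed_2483 : LEOK LG_d (LK LD1_c10 LD2_c45 LD3_c38) :=
  Leoe_d (LK LD1_c10 LD2_c45 LD3_c38) (f924198 IH)
def v16889 : LQ := Led Lsl_dt (LP (LK LD1_c6 LD2_c8 LD3_c20))
theorem f752332 : Led Lsl_dt (LP (LK LD1_c6 LD2_c8 LD3_c20)) = v16889 :=
  Lrfl
theorem f288179 : Led Lsl_et (LP (LK LD1_c5 LD2_c8 LD3_c12)) = (LP (LK LD1_c10 LD2_c6 LD3_c57)) :=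
  Lre_e IH (LK LD1_c5 LD2_c8 LD3_c12) (LK LD1_c10 LD2_c6 LD3_c57) Lrfl Lrfl
theorem f177293 : Led Lsl_dt (LP (LK LD1_c5 LD2_c8 LD3_c12)) = (LP (LK LD1_c10 LD2_c6 LD3_c56)) :=
  Lre_d IH (LK LD1_c5 LD2_c8 LD3_c12) (LK LD1_c10 LD2_c6 LD3_c56) Lrfl Lrfl
theorem f3768 : Led Lsl_gt (LP (LK LD1_c18 LD2_c26 LD3_c3)) = (LP (LK LD1_c10 LD2_c6 LD3_c56)) :=
  Lre_g IH (LK LD1_c18 LD2_c26 LD3_c3) (LK LD1_c10 LD2_c6 LD3_c56) Lrfl Lrfl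
theorem f183425 : Led Lsl_ct (LP (LK LD1_c6 LD2_c7 LD3_c38)) = (LP (LK LD1_c2 LD2_c59 LD3_c60)) :=
  Lre_c IH (LK LD1_c6 LD2_c7 LD3_c38) (LK LD1_c2 LD2_c59 LD3_c60) Lrfl Lrfl
theorem f574678 : Led Lsl_gt (LP (LK LD1_c5 LD2_c14 LD3_c3)) = (LP (LK LD1_c6 LD2_c7 LD3_c38)) :=
  Lgr Lrot150 (Lpe (K32.f181072 IH) (Lpe (K43.f61416 IH) (Lpe (K43.f572340 IH) (Lpr_gt (K39.f177297 IH) (Lpqs (K36.f537605 IH) (Lpe (K39.f496269 IH) (Lpr_gt (K43.f574672 IH) (Lpr_ct (K43.f176032 IH) (Lpe (K39.f176018 IH) (Lpe (f183425 IH) (Lpn (LP (LK LD1_c6 LD2_c7 LD3_c38)))))))))))))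
theorem f574680 : Led Lsl_df (LP (LK LD1_c4 LD2_c53 LD3_c54)) = (LP (LK LD1_c5 LD2_c14 LD3_c2)) :=
  Lgr Lrot155 (Lpr_gt (K39.f177297 IH) (Lpqs (K36.f537605 IH) (Lpe (K39.f496269 IH) (Lpr_gt (K43.f574672 IH) (Lpr_ct (K43.f176032 IH) (Lpr_dt (K18.f175972 IH) (Lpe (f183425 IH) (Lpe (f574678 IH) (Lpe (K32.f181072 IH) (Lpe (K43.f61416 IH) (Lpn (LP (LK LD1_c5 LD2_c14 LD3_c2)))))))))))))
theorem f163815 : Led Lsl_ct (LP (LK LD1_c2 LD2_c31 LD3_c19)) = (LP (LK LD1_c5 LD2_c8 LD3_c12)) :=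
  Lre_c IH (LK LD1_c2 LD2_c31 LD3_c19) (LK LD1_c5 LD2_c8 LD3_c12) Lrfl Lrfl
theorem f3767 : Led Lsl_dt (LP (LK LD1_c10 LD2_c6 LD3_c56)) = (LP (LK LD1_c5 LD2_c8 LD3_c12)) :=
  Lre_d IH (LK LD1_c10 LD2_c6 LD3_c56) (LK LD1_c5 LD2_c8 LD3_c12) Lrfl Lrfl
theorem f308533 : Led Lsl_at (LP (LK LD1_c5 LD2_c13 LD3_c59)) = (LP (LK LD1_c2 LD2_c33 LD3_c55)) :=
  Lre_a IH (LK LD1_c5 LD2_c13 LD3_c59) (LK LD1_c2 LD2_c33 LD3_c55) Lrfl Lrfl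
theorem f308536 : Led Lsl_gf (LP (LK LD1_c5 LD2_c14 LD3_c2)) = (LP (LK LD1_c5 LD2_c7 LD3_c16)) :=
  Lgr Lrot47 (Lpr_gt (K43.f61416 IH) (Lpe (f308533 IH) (Lpr_ff (K36.f308525 IH) (Lpn (LP (LK LD1_c5 LD2_c7 LD3_c16))))))
theorem f612296 : Led Lsl_df (LP (LK LD1_c18 LD2_c26 LD3_c3)) = (LP (LK LD1_c10 LD2_c18 LD3_c5)) :=
  Lgr Lrot153 (Lpr_gt (f3768 IH) (Lpr_dt (f3767 IH) (Lpe (f163815 IH) (Lpe (K36.f177204 IH) (Lpe (K39.f177297 IH) (Lpr_df (f574680 IH) (Lpr_gf (f308536 IH) (Lpe (K53.f308441 IH) (Lpe (K50.f308614 IH) (Lpn (LP (LK LD1_c10 LD2_c18 LD3_c5))))))))))))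
theorem f184928 : Led Lsl_bt (LP (LK LD1_c5 LD2_c13 LD3_c26)) = (LP (LK LD1_c2 LD2_c33 LD3_c34)) :=
  Lre_b IH (LK LD1_c5 LD2_c13 LD3_c26) (LK LD1_c2 LD2_c33 LD3_c34) Lrfl Lrfl
theorem f722113 : Led Lsl_df (LP (LK LD1_c5 LD2_c13 LD3_c26)) = K53.v14352 :=
  Lgr Lrot12 (Lpr_bt (f184928 IH) (Lpr_dt (K10.f185050 IH) (Lpr_bt (K53.f722111 IH) (Lpn K53.v14352))))
theorem f184965 : Led Lsl_gt (LP (LK LD1_c10 LD2_c17 LD3_c8)) = (LP (LK LD1_c5 LD2_c13 LD3_c26)) :=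
  Lre_g IH (LK LD1_c10 LD2_c17 LD3_c8) (LK LD1_c5 LD2_c13 LD3_c26) Lrfl Lrfl
theorem f924250 : v16889 = (LP (LK LD1_c10 LD2_c17 LD3_c8)) :=
  (Llr Lrot136 (Lpe (f752332 IH) (Lpr_et (f752316 IH) (Lpq (f924158 IH) (Lpe (f752361 IH) (Lpe (f288179 IH) (Lpr_dt (f177293 IH) (Lpe (f3768 IH) (Lpr_df (f612296 IH) (Lpr_gf (K50.f308614 IH) (Lpr_ef (K53.f722114 IH) (Lpe (f722113 IH) (Lpe (f184965 IH) (Lpn (LP (LK LD1_c10 LD2_c17 LD3_c8)))))))))))))))).symm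
theorem f752333 : Led Lsl_df (LP (LK LD1_c6 LD2_c8 LD3_c20)) = v16889 :=
  Lgr Lrot38 (Lpr_dt (f752332 IH) (Lpn v16889))
theorem f924251 : Led Lsl_dt (LP (LK LD1_c10 LD2_c17 LD3_c8)) = (LP (LK LD1_c6 LD2_c8 LD3_c20)) :=
  Leop (Lpr_df (f752333 IH) (Lpqs (f924250 IH) (Lpn (LP (LK LD1_c10 LD2_c17 LD3_c8)))))
theorem seed_2484 : LEOK LG_d (LK LD1_c10 LD2_c17 LD3_c8) :=
  Leoe_d (LK LD1_c10 LD2_c17 LD3_c8) (f924251 IH)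
def v14922 : LQ := Led Lsl_dt (LP (LK LD1_c5 LD2_c27 LD3_c16))
theorem f727289 : Led Lsl_dt (LP (LK LD1_c5 LD2_c27 LD3_c16)) = v14922 :=
  Lrfl
theorem f924245 : Led Lsl_ff v16889 = v14922 :=
  Lgr Lrot19 (Lpe (f752333 IH) (Lpqs (f924146 IH) (Lpe (f727276 IH) (Lpr_dt (f727289 IH) (Lpn v14922)))))
theorem f924247 : Led Lsl_ft v16889 = v14922 :=
  Lgr Lrot48 (Lpr_ff (f924245 IH) (Lpn v14922))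
theorem f924162 : (LP (LK LD1_c5 LD2_c27 LD3_c16)) = v16884 :=
  Lefun (Lecon (Lfl_ff (f727276 IH)) (f924146 IH).symm) (f752314 IH)
theorem f924242 : Led Lsl_af K56.v16885 = v14922 :=
  Lgr Lrot117 (Lpe (K56.f752318 IH) (Lpr_at (f752312 IH) (Lpq (f924162 IH) (Lpr_dt (f727289 IH) (Lpn v14922)))))
theorem f184907 : Led Lsl_gt (LP (LK LD1_c5 LD2_c13 LD3_c26)) = (LP (LK LD1_c10 LD2_c17 LD3_c7)) :=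
  Lre_g IH (LK LD1_c5 LD2_c13 LD3_c26) (LK LD1_c10 LD2_c17 LD3_c7) Lrfl Lrfl
theorem f924253 : K56.v16885 = (LP (LK LD1_c10 LD2_c17 LD3_c7)) :=
  (Llr Lrot26 (Lpr_af (f924242 IH) (Lpe (f924247 IH) (Lpqs (f924250 IH) (Lpr_gt (f184965 IH) (Lpr_gt (f184907 IH) (Lpn (LP (LK LD1_c10 LD2_c17 LD3_c7))))))))).symm
theorem f924254 : Led Lsl_dt (LP (LK LD1_c10 LD2_c17 LD3_c7)) = (LP (LK LD1_c6 LD2_c8 LD3_c19)) :=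
  Leop (Lpr_df (K56.f752318 IH) (Lpqs (f924253 IH) (Lpn (LP (LK LD1_c10 LD2_c17 LD3_c7)))))
theorem seed_2485 : LEOK LG_d (LK LD1_c10 LD2_c17 LD3_c7) :=
  Leoe_d (LK LD1_c10 LD2_c17 LD3_c7) (f924254 IH)
def v15247 : LQ := Led Lsl_dt (LP (LK LD1_c5 LD2_c34 LD3_c32))
theorem f733127 : Led Lsl_dt (LP (LK LD1_c5 LD2_c34 LD3_c32)) = v15247 :=
  Lrfl
def v15244 : LQ := Led Lsl_at (LP (LK LD1_c5 LD2_c34 LD3_c31))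
theorem f733101 : Led Lsl_at (LP (LK LD1_c5 LD2_c34 LD3_c31)) = v15244 :=
  Lrfl
theorem f733102 : Led Lsl_af (LP (LK LD1_c5 LD2_c34 LD3_c31)) = v15244 :=
  Lgr Lrot0 (Lpr_at (f733101 IH) (Lpn v15244))
theorem f638583 : Led Lsl_gt (LP (LK LD1_c2 LD2_c43 LD3_c12)) = (LP (LK LD1_c5 LD2_c34 LD3_c31)) :=
  Lre_g IH (LK LD1_c2 LD2_c43 LD3_c12) (LK LD1_c5 LD2_c34 LD3_c31) Lrfl Lrfl
theorem f412213 : Led Lsl_gt (LP (LK LD1_c5 LD2_c34 LD3_c32)) = (LP (LK LD1_c2 LD2_c43 LD3_c12)) :=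
  Lre_g IH (LK LD1_c5 LD2_c34 LD3_c32) (LK LD1_c2 LD2_c43 LD3_c12) Lrfl Lrfl
theorem f733108 : Led Lsl_ft (LP (LK LD1_c5 LD2_c34 LD3_c32)) = v15244 :=
  Lgr Lrot2 (Lpr_gt (f412213 IH) (Lpr_gt (f638583 IH) (Lpr_af (f733102 IH) (Lpn v15244))))
theorem f733103 : Led Lsl_ct (LP (LK LD1_c11 LD2_c1 LD3_c18)) = (LP (LK LD1_c5 LD2_c34 LD3_c31)) :=
  Lre_c IH (LK LD1_c11 LD2_c1 LD3_c18) (LK LD1_c5 LD2_c34 LD3_c31) Lrfl Lrfl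
theorem f733109 : Led Lsl_dt (LP (LK LD1_c19 LD2_c52 LD3_c33)) = (LP (LK LD1_c11 LD2_c1 LD3_c18)) :=
  Lre_d IH (LK LD1_c19 LD2_c52 LD3_c33) (LK LD1_c11 LD2_c1 LD3_c18) Lrfl Lrfl
theorem f733110 : Led Lsl_ct (LP (LK LD1_c29 LD2_c8 LD3_c53)) = (LP (LK LD1_c19 LD2_c52 LD3_c33)) :=
  Lre_c IH (LK LD1_c29 LD2_c8 LD3_c53) (LK LD1_c19 LD2_c52 LD3_c33) Lrfl Lrfl
theorem f391707 : Led Lsl_et (LP (LK LD1_c8 LD2_c21 LD3_c52)) = (LP (LK LD1_c15 LD2_c44 LD3_c24)) :=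
  Lre_e IH (LK LD1_c8 LD2_c21 LD3_c52) (LK LD1_c15 LD2_c44 LD3_c24) Lrfl Lrfl
theorem f391745 : Led Lsl_et (LP (LK LD1_c1 LD2_c18 LD3_c2)) = (LP (LK LD1_c2 LD2_c43 LD3_c13)) :=
  Lre_e IH (LK LD1_c1 LD2_c18 LD3_c2) (LK LD1_c2 LD2_c43 LD3_c13) Lrfl Lrfl
theorem f391746 : Led Lsl_et (LP (LK LD1_c11 LD2_c1 LD3_c30)) = (LP (LK LD1_c5 LD2_c34 LD3_c35)) :=
  Lre_e IH (LK LD1_c11 LD2_c1 LD3_c30) (LK LD1_c5 LD2_c34 LD3_c35) Lrfl Lrfl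
theorem f391747 : Led Lsl_dt (LP (LK LD1_c11 LD2_c1 LD3_c30)) = (LP (LK LD1_c19 LD2_c52 LD3_c50)) :=
  Lre_d IH (LK LD1_c11 LD2_c1 LD3_c30) (LK LD1_c19 LD2_c52 LD3_c50) Lrfl Lrfl
theorem f184949 : Led Lsl_bt (LP (LK LD1_c16 LD2_c47 LD3_c36)) = (LP (LK LD1_c8 LD2_c58 LD3_c31)) :=
  Lre_b IH (LK LD1_c16 LD2_c47 LD3_c36) (LK LD1_c8 LD2_c58 LD3_c31) Lrfl Lrfl
theorem f320178 : Led Lsl_bt (LP (LK LD1_c5 LD2_c33 LD3_c22)) = (LP (LK LD1_c10 LD2_c58 LD3_c40)) :=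
  Lre_b IH (LK LD1_c5 LD2_c33 LD3_c22) (LK LD1_c10 LD2_c58 LD3_c40) Lrfl Lrfl
theorem f320179 : Led Lsl_ff (LP (LK LD1_c16 LD2_c47 LD3_c36)) = (LP (LK LD1_c10 LD2_c58 LD3_c40)) :=
  Lgr Lrot25 (Lpr_bt (f184949 IH) (Lpr_ft (K20.f320174 IH) (Lpr_bt (f320178 IH) (Lpn (LP (LK LD1_c10 LD2_c58 LD3_c40))))))
theorem f172981 : Led Lsl_et (LP (LK LD1_c5 LD2_c28 LD3_c40)) = (LP (LK LD1_c10 LD2_c48 LD3_c26)) :=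
  Lre_e IH (LK LD1_c5 LD2_c28 LD3_c40) (LK LD1_c10 LD2_c48 LD3_c26) Lrfl Lrfl
theorem f172987 : Led Lsl_et (LP (LK LD1_c2 LD2_c43 LD3_c2)) = (LP (LK LD1_c1 LD2_c17 LD3_c60)) :=
  Lre_e IH (LK LD1_c2 LD2_c43 LD3_c2) (LK LD1_c1 LD2_c17 LD3_c60) Lrfl Lrfl
theorem f172988 : Led Lsl_dt (LP (LK LD1_c2 LD2_c43 LD3_c2)) = (LP (LK LD1_c5 LD2_c34 LD3_c5)) :=
  Lre_d IH (LK LD1_c2 LD2_c43 LD3_c2) (LK LD1_c5 LD2_c34 LD3_c5) Lrfl Lrfl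
def v15214 : LQ := Led Lsl_gf (LP (LK LD1_c5 LD2_c34 LD3_c5))
theorem f732917 : Led Lsl_gf (LP (LK LD1_c5 LD2_c34 LD3_c5)) = v15214 :=
  Lrfl
theorem f7658 : Led Lsl_gt (LP (LK LD1_c5 LD2_c27 LD3_c19)) = (LP (LK LD1_c10 LD2_c45 LD3_c46)) :=
  Lre_g IH (LK LD1_c5 LD2_c27 LD3_c19) (LK LD1_c10 LD2_c45 LD3_c46) Lrfl Lrfl
theorem f8989 : Led Lsl_et (LP (LK LD1_c19 LD2_c27 LD3_c50)) = (LP (LK LD1_c10 LD2_c45 LD3_c46)) :=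
  Lre_e IH (LK LD1_c19 LD2_c27 LD3_c50) (LK LD1_c10 LD2_c45 LD3_c46) Lrfl Lrfl
theorem f216569 : Led Lsl_bt (LP (LK LD1_c11 LD2_c4 LD3_c35)) = (LP (LK LD1_c5 LD2_c36 LD3_c10)) :=
  Lre_b IH (LK LD1_c11 LD2_c4 LD3_c35) (LK LD1_c5 LD2_c36 LD3_c10) Lrfl Lrfl
theorem f265580 : Led Lsl_bt (LP (LK LD1_c10 LD2_c9 LD3_c46)) = (LP (LK LD1_c18 LD2_c30 LD3_c47)) :=
  Lre_b IH (LK LD1_c10 LD2_c9 LD3_c46) (LK LD1_c18 LD2_c30 LD3_c47) Lrfl Lrfl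
theorem f265581 : Led Lsl_cf (LP (LK LD1_c11 LD2_c4 LD3_c35)) = (LP (LK LD1_c18 LD2_c30 LD3_c47)) :=
  Lgr Lrot97 (Lpr_bt (f216569 IH) (Lpr_ct (K15.f216466 IH) (Lpr_bt (K15.f216455 IH) (Lpr_ct (K15.f265578 IH) (Lpr_bt (f265580 IH) (Lpn (LP (LK LD1_c18 LD2_c30 LD3_c47))))))))
theorem f216573 : Led Lsl_gt (LP (LK LD1_c19 LD2_c57 LD3_c16)) = (LP (LK LD1_c11 LD2_c4 LD3_c35)) :=
  Lre_g IH (LK LD1_c19 LD2_c57 LD3_c16) (LK LD1_c11 LD2_c4 LD3_c35) Lrfl Lrfl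
theorem f183931 : Led Lsl_bt (LP (LK LD1_c18 LD2_c30 LD3_c47)) = (LP (LK LD1_c10 LD2_c9 LD3_c46)) :=
  Lre_b IH (LK LD1_c18 LD2_c30 LD3_c47) (LK LD1_c10 LD2_c9 LD3_c46) Lrfl Lrfl
theorem f183934 : Led Lsl_gt (LP (LK LD1_c10 LD2_c16 LD3_c50)) = (LP (LK LD1_c18 LD2_c41 LD3_c36)) :=
  Lre_g IH (LK LD1_c10 LD2_c16 LD3_c50) (LK LD1_c18 LD2_c41 LD3_c36) Lrfl Lrfl
theorem f183935 : Led Lsl_bt (LP (LK LD1_c28 LD2_c12 LD3_c61)) = (LP (LK LD1_c18 LD2_c41 LD3_c36)) :=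
  Lre_b IH (LK LD1_c28 LD2_c12 LD3_c61) (LK LD1_c18 LD2_c41 LD3_c36) Lrfl Lrfl
theorem f412690 : Led Lsl_cf (LP (LK LD1_c19 LD2_c57 LD3_c16)) = (LP (LK LD1_c28 LD2_c12 LD3_c61)) :=
  Lgr Lrot160 (Lpr_gt (f216573 IH) (Lpr_cf (f265581 IH) (Lpr_bt (f183931 IH) (Lpr_gt (K15.f183927 IH) (Lpr_ct (K15.f183923 IH) (Lpr_gt (K9.f183913 IH) (Lpe (K14.f183932 IH) (Lpr_bt (K18.f183933 IH) (Lpr_gt (f183934 IH) (Lpe (f183935 IH) (Lpn (LP (LK LD1_c28 LD2_c12 LD3_c61)))))))))))))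
theorem f366921 : Led Lsl_at (LP (LK LD1_c9 LD2_c53 LD3_c16)) = (LP (LK LD1_c18 LD2_c5 LD3_c44)) :=
  Lre_a IH (LK LD1_c9 LD2_c53 LD3_c16) (LK LD1_c18 LD2_c5 LD3_c44) Lrfl Lrfl
theorem f216555 : Led Lsl_at (LP (LK LD1_c19 LD2_c57 LD3_c17)) = (LP (LK LD1_c11 LD2_c4 LD3_c35)) :=
  Lre_a IH (LK LD1_c19 LD2_c57 LD3_c17) (LK LD1_c11 LD2_c4 LD3_c35) Lrfl Lrfl
theorem f366922 : Led Lsl_ft (LP (LK LD1_c18 LD2_c5 LD3_c44)) = (LP (LK LD1_c19 LD2_c57 LD3_c17)) :=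
  Lgr Lrot101 (Lpe (f366921 IH) (Lpr_ff (K27.f366919 IH) (Lpe (f216555 IH) (Lpn (LP (LK LD1_c19 LD2_c57 LD3_c17))))))
theorem f377388 : Led Lsl_gt (LP (LK LD1_c18 LD2_c5 LD3_c44)) = (LP (LK LD1_c19 LD2_c57 LD3_c16)) :=
  Lgr Lrot5 (Lpr_ft (f366922 IH) (Lpr_at (f216555 IH) (Lpe (f216573 IH) (Lpn (LP (LK LD1_c19 LD2_c57 LD3_c16))))))
theorem f191789 : Led Lsl_dt (LP (LK LD1_c15 LD2_c0 LD3_c39)) = (LP (LK LD1_c7 LD2_c57 LD3_c32)) :=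
  Lre_d IH (LK LD1_c15 LD2_c0 LD3_c39) (LK LD1_c7 LD2_c57 LD3_c32) Lrfl Lrfl
theorem f283862 : Led Lsl_gf (LP (LK LD1_c15 LD2_c0 LD3_c39)) = (LP (LK LD1_c10 LD2_c9 LD3_c57)) :=
  Lgr Lrot144 (Lpr_dt (f191789 IH) (Lpr_gt (K14.f31499 IH) (Lpr_dt (K14.f43899 IH) (Lpr_cf (K14.f215802 IH) (Lpe (K16.f215808 IH) (Lpe (K10.f187528 IH) (Lpe (K14.f189364 IH) (Lpe (K15.f215815 IH) (Lpr_cf (K17.f283853 IH) (Lpn (LP (LK LD1_c10 LD2_c9 LD3_c57))))))))))))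
theorem f370563 : Led Lsl_af (LP (LK LD1_c10 LD2_c9 LD3_c49)) = (LP (LK LD1_c9 LD2_c56 LD3_c33)) :=
  Lgr Lrot31 (Lpe (K23.f342675 IH) (Lpr_gf (f283862 IH) (Lpr_ft (K44.f370553 IH) (Lpn (LP (LK LD1_c9 LD2_c56 LD3_c33))))))
theorem f369901 : Led Lsl_ff (LP (LK LD1_c9 LD2_c56 LD3_c30)) = (LP (LK LD1_c10 LD2_c9 LD3_c49)) :=
  Lgr Lrot19 (Lpr_dt (K14.f215692 IH) (Lpr_ft (K27.f369895 IH) (Lpr_dt (K17.f256549 IH) (Lpn (LP (LK LD1_c10 LD2_c9 LD3_c49))))))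
theorem f370573 : Led Lsl_at (LP (LK LD1_c9 LD2_c56 LD3_c30)) = (LP (LK LD1_c10 LD2_c9 LD3_c57)) :=
  Lgr Lrot66 (Lpr_ff (f369901 IH) (Lpr_af (f370563 IH) (Lpe (K44.f370553 IH) (Lpn (LP (LK LD1_c10 LD2_c9 LD3_c57))))))
theorem f370576 : Led Lsl_af (LP (LK LD1_c10 LD2_c33 LD3_c21)) = (LP (LK LD1_c10 LD2_c33 LD3_c54)) :=
  Lgr Lrot68 (Lpe (K16.f254453 IH) (Lpr_at (f370573 IH) (Lpe (K17.f283853 IH) (Lpn (LP (LK LD1_c10 LD2_c33 LD3_c54))))))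
theorem f370557 : Led Lsl_ff (LP (LK LD1_c10 LD2_c33 LD3_c54)) = (LP (LK LD1_c10 LD2_c33 LD3_c24)) :=
  Lgr Lrot23 (Lpr_ct (K17.f283851 IH) (Lpr_ft (K44.f370553 IH) (Lpe (K16.f275168 IH) (Lpn (LP (LK LD1_c10 LD2_c33 LD3_c24))))))
theorem f370569 : Led Lsl_at (LP (LK LD1_c10 LD2_c33 LD3_c53)) = (LP (LK LD1_c10 LD2_c33 LD3_c24)) :=
  Lgr Lrot107 (Lpe (K22.f288473 IH) (Lpr_af (f370563 IH) (Lpe (K16.f275178 IH) (Lpn (LP (LK LD1_c10 LD2_c33 LD3_c24))))))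
theorem f370610 : Led Lsl_ft (LP (LK LD1_c10 LD2_c33 LD3_c21)) = (LP (LK LD1_c10 LD2_c33 LD3_c53)) :=
  Lgr Lrot101 (Lpr_af (f370576 IH) (Lpr_ff (f370557 IH) (Lpe (f370569 IH) (Lpn (LP (LK LD1_c10 LD2_c33 LD3_c53))))))
theorem f370615 : Led Lsl_ff (LP (LK LD1_c10 LD2_c33 LD3_c21)) = (LP (LK LD1_c10 LD2_c33 LD3_c53)) :=
  Lgr Lrot3 (Lpr_ft (f370610 IH) (Lpn (LP (LK LD1_c10 LD2_c33 LD3_c53))))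
theorem f370621 : Led Lsl_ft (LP (LK LD1_c5 LD2_c21 LD3_c31)) = (LP (LK LD1_c10 LD2_c9 LD3_c46)) :=
  Lgr Lrot54 (Lpe (K14.f217873 IH) (Lpr_ff (f370615 IH) (Lpe (K17.f288475 IH) (Lpn (LP (LK LD1_c10 LD2_c9 LD3_c46))))))
theorem f370624 : Led Lsl_bt (LP (LK LD1_c10 LD2_c33 LD3_c20)) = (LP (LK LD1_c5 LD2_c21 LD3_c31)) :=
  Lre_b IH (LK LD1_c10 LD2_c33 LD3_c20) (LK LD1_c5 LD2_c21 LD3_c31) Lrfl Lrfl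
theorem f370625 : Led Lsl_ff (LP (LK LD1_c10 LD2_c33 LD3_c20)) = (LP (LK LD1_c18 LD2_c30 LD3_c47)) :=
  Lgr Lrot25 (Lpr_bt (f370624 IH) (Lpr_ft (f370621 IH) (Lpr_bt (f265580 IH) (Lpn (LP (LK LD1_c18 LD2_c30 LD3_c47))))))
theorem f370637 : Led Lsl_ft (LP (LK LD1_c10 LD2_c33 LD3_c20)) = (LP (LK LD1_c18 LD2_c30 LD3_c47)) :=
  Lgr Lrot48 (Lpr_ff (f370625 IH) (Lpn (LP (LK LD1_c18 LD2_c30 LD3_c47))))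
theorem f370640 : Led Lsl_cf (LP (LK LD1_c10 LD2_c33 LD3_c20)) = (LP (LK LD1_c9 LD2_c53 LD3_c16)) :=
  Lgr Lrot108 (Lpr_ft (f370637 IH) (Lpe (f265581 IH) (Lpe (K27.f366919 IH) (Lpn (LP (LK LD1_c9 LD2_c53 LD3_c16))))))
theorem f370630 : Led Lsl_at (LP (LK LD1_c10 LD2_c33 LD3_c20)) = (LP (LK LD1_c19 LD2_c6 LD3_c60)) :=
  Lre_a IH (LK LD1_c10 LD2_c33 LD3_c20) (LK LD1_c19 LD2_c6 LD3_c60) Lrfl Lrfl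
theorem f370647 : Led Lsl_at (LP (LK LD1_c18 LD2_c5 LD3_c44)) = (LP (LK LD1_c9 LD2_c53 LD3_c16)) :=
  Lre_a IH (LK LD1_c18 LD2_c5 LD3_c44) (LK LD1_c9 LD2_c53 LD3_c16) Lrfl Lrfl
theorem f370648 : Led Lsl_ct (LP (LK LD1_c19 LD2_c6 LD3_c60)) = (LP (LK LD1_c18 LD2_c5 LD3_c44)) :=
  Lgr Lrot111 (Lpe (f370630 IH) (Lpr_cf (f370640 IH) (Lpe (f370647 IH) (Lpn (LP (LK LD1_c18 LD2_c5 LD3_c44))))))
theorem f370606 : Led Lsl_at (LP (LK LD1_c5 LD2_c21 LD3_c31)) = (LP (LK LD1_c10 LD2_c9 LD3_c45)) :=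
  Lgr Lrot51 (Lpe (K14.f217873 IH) (Lpr_af (f370576 IH) (Lpe (K15.f256311 IH) (Lpn (LP (LK LD1_c10 LD2_c9 LD3_c45))))))
theorem f370639 : Led Lsl_at (LP (LK LD1_c19 LD2_c6 LD3_c60)) = (LP (LK LD1_c10 LD2_c33 LD3_c20)) :=
  Lre_a IH (LK LD1_c19 LD2_c6 LD3_c60) (LK LD1_c10 LD2_c33 LD3_c20) Lrfl Lrfl
theorem f256347 : Led Lsl_bt (LP (LK LD1_c10 LD2_c9 LD3_c45)) = (LP (LK LD1_c18 LD2_c30 LD3_c46)) :=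
  Lre_b IH (LK LD1_c10 LD2_c9 LD3_c45) (LK LD1_c18 LD2_c30 LD3_c46) Lrfl Lrfl
theorem f256362 : Led Lsl_at (LP (LK LD1_c18 LD2_c30 LD3_c46)) = (LP (LK LD1_c28 LD2_c4 LD3_c56)) :=
  Lre_a IH (LK LD1_c18 LD2_c30 LD3_c46) (LK LD1_c28 LD2_c4 LD3_c56) Lrfl Lrfl
theorem f370806 : Led Lsl_bf (LP (LK LD1_c19 LD2_c6 LD3_c60)) = (LP (LK LD1_c28 LD2_c4 LD3_c56)) :=
  Lgr Lrot81 (Lpr_at (f370639 IH) (Lpr_bt (f370624 IH) (Lpr_at (f370606 IH) (Lpr_bt (f256347 IH) (Lpr_at (f256362 IH) (Lpn (LP (LK LD1_c28 LD2_c4 LD3_c56))))))))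
theorem f370872 : Led Lsl_bt (LP (LK LD1_c19 LD2_c6 LD3_c60)) = (LP (LK LD1_c28 LD2_c4 LD3_c56)) :=
  Lgr Lrot127 (Lpr_bf (f370806 IH) (Lpn (LP (LK LD1_c28 LD2_c4 LD3_c56))))
theorem f275250 : Led Lsl_ct (LP (LK LD1_c5 LD2_c21 LD3_c31)) = (LP (LK LD1_c5 LD2_c1 LD3_c20)) :=
  Lgr Lrot151 (Lpe (K14.f44630 IH) (Lpe (K12.f8399 IH) (Lpe (K14.f44732 IH) (Lpr_dt (K16.f275192 IH) (Lpr_gt (K16.f253423 IH) (Lpe (K14.f253408 IH) (Lpr_gt (K16.f254272 IH) (Lpe (K14.f252671 IH) (Lpr_dt (K14.f192492 IH) (Lpn (LP (LK LD1_c5 LD2_c1 LD3_c20))))))))))))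
theorem f367082 : Led Lsl_ft (LP (LK LD1_c10 LD2_c9 LD3_c46)) = (LP (LK LD1_c5 LD2_c21 LD3_c31)) :=
  Lgr Lrot4 (Lpe (K15.f265578 IH) (Lpr_ff (K27.f367078 IH) (Lpe (f275250 IH) (Lpn (LP (LK LD1_c5 LD2_c21 LD3_c31))))))
theorem f367074 : Led Lsl_af (LP (LK LD1_c10 LD2_c9 LD3_c46)) = (LP (LK LD1_c5 LD2_c21 LD3_c32)) :=
  Lgr Lrot68 (Lpe (K22.f265576 IH) (Lpr_at (K27.f367072 IH) (Lpr_ct (K16.f215875 IH) (Lpn (LP (LK LD1_c5 LD2_c21 LD3_c32))))))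
theorem f370808 : Led Lsl_ff (LP (LK LD1_c5 LD2_c21 LD3_c32)) = (LP (LK LD1_c10 LD2_c9 LD3_c45)) :=
  Lgr Lrot30 (Lpe (f367074 IH) (Lpr_ft (f367082 IH) (Lpr_at (f370606 IH) (Lpn (LP (LK LD1_c10 LD2_c9 LD3_c45))))))
theorem f215890 : Led Lsl_bt (LP (LK LD1_c5 LD2_c21 LD3_c32)) = (LP (LK LD1_c10 LD2_c33 LD3_c23)) :=
  Lre_b IH (LK LD1_c5 LD2_c21 LD3_c32) (LK LD1_c10 LD2_c33 LD3_c23) Lrfl Lrfl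
theorem f256366 : Led Lsl_bt (LP (LK LD1_c18 LD2_c30 LD3_c46)) = (LP (LK LD1_c10 LD2_c9 LD3_c45)) :=
  Lre_b IH (LK LD1_c18 LD2_c30 LD3_c46) (LK LD1_c10 LD2_c9 LD3_c45) Lrfl Lrfl
theorem f370810 : Led Lsl_ft (LP (LK LD1_c10 LD2_c33 LD3_c23)) = (LP (LK LD1_c18 LD2_c30 LD3_c46)) :=
  Lgr Lrot75 (Lpe (f215890 IH) (Lpr_ff (f370808 IH) (Lpe (f256366 IH) (Lpn (LP (LK LD1_c18 LD2_c30 LD3_c46))))))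
theorem f215893 : Led Lsl_gt (LP (LK LD1_c10 LD2_c33 LD3_c23)) = (LP (LK LD1_c19 LD2_c7 LD3_c2)) :=
  Lre_g IH (LK LD1_c10 LD2_c33 LD3_c23) (LK LD1_c19 LD2_c7 LD3_c2) Lrfl Lrfl
theorem f370870 : Led Lsl_gt (LP (LK LD1_c19 LD2_c7 LD3_c2)) = (LP (LK LD1_c28 LD2_c4 LD3_c56)) :=
  Lgr Lrot46 (Lpe (f215893 IH) (Lpr_ft (f370810 IH) (Lpr_at (f256362 IH) (Lpn (LP (LK LD1_c28 LD2_c4 LD3_c56))))))
theorem f192869 : Led Lsl_bt (LP (LK LD1_c10 LD2_c16 LD3_c50)) = (LP (LK LD1_c5 LD2_c13 LD3_c15)) :=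
  Lre_b IH (LK LD1_c10 LD2_c16 LD3_c50) (LK LD1_c5 LD2_c13 LD3_c15) Lrfl Lrfl
theorem f192870 : Led Lsl_ct (LP (LK LD1_c18 LD2_c41 LD3_c61)) = (LP (LK LD1_c10 LD2_c17 LD3_c8)) :=
  Lre_c IH (LK LD1_c18 LD2_c41 LD3_c61) (LK LD1_c10 LD2_c17 LD3_c8) Lrfl Lrfl
theorem f275170 : Led Lsl_bf (LP (LK LD1_c19 LD2_c7 LD3_c2)) = (LP (LK LD1_c18 LD2_c41 LD3_c61)) :=
  Lgr Lrot34 (Lpe (f215893 IH) (Lpe (f215890 IH) (Lpe (K16.f215877 IH) (Lpr_gf (K16.f275162 IH) (Lpr_cf (K14.f192859 IH) (Lpe (K14.f183926 IH) (Lpe (f192869 IH) (Lpr_ct (K20.f184929 IH) (Lpe (f184965 IH) (Lpe (f192870 IH) (Lpn (LP (LK LD1_c18 LD2_c41 LD3_c61)))))))))))))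
theorem f215564 : Led Lsl_at (LP (LK LD1_c10 LD2_c33 LD3_c18)) = (LP (LK LD1_c19 LD2_c6 LD3_c56)) :=
  Lre_a IH (LK LD1_c10 LD2_c33 LD3_c18) (LK LD1_c19 LD2_c6 LD3_c56) Lrfl Lrfl
theorem f302964 : Led Lsl_gt (LP (LK LD1_c18 LD2_c41 LD3_c36)) = (LP (LK LD1_c19 LD2_c6 LD3_c56)) :=
  Lgr Lrot46 (Lpe (f183934 IH) (Lpr_ft (K18.f302957 IH) (Lpr_at (f215564 IH) (Lpn (LP (LK LD1_c19 LD2_c6 LD3_c56))))))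
theorem f215559 : Led Lsl_at (LP (LK LD1_c19 LD2_c6 LD3_c56)) = (LP (LK LD1_c10 LD2_c33 LD3_c18)) :=
  Lre_a IH (LK LD1_c19 LD2_c6 LD3_c56) (LK LD1_c10 LD2_c33 LD3_c18) Lrfl Lrfl
theorem f195737 : Led Lsl_at (LP (LK LD1_c5 LD2_c25 LD3_c61)) = (LP (LK LD1_c10 LD2_c43 LD3_c15)) :=
  Lre_a IH (LK LD1_c5 LD2_c25 LD3_c61) (LK LD1_c10 LD2_c43 LD3_c15) Lrfl Lrfl
theorem f215569 : Led Lsl_cf (LP (LK LD1_c19 LD2_c6 LD3_c56)) = (LP (LK LD1_c10 LD2_c43 LD3_c15)) :=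
  Lgr Lrot1 (Lpr_at (f215559 IH) (Lpr_ct (K18.f215566 IH) (Lpr_at (f195737 IH) (Lpn (LP (LK LD1_c10 LD2_c43 LD3_c15))))))
theorem f215571 : Led Lsl_ct (LP (LK LD1_c19 LD2_c6 LD3_c56)) = (LP (LK LD1_c10 LD2_c43 LD3_c15)) :=
  Lgr Lrot59 (Lpr_cf (f215569 IH) (Lpn (LP (LK LD1_c10 LD2_c43 LD3_c15))))
theorem f412696 : Led Lsl_gf (LP (LK LD1_c10 LD2_c17 LD3_c8)) = (LP (LK LD1_c10 LD2_c43 LD3_c15)) :=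
  Lgr Lrot129 (Lpe (f192870 IH) (Lpe (f275170 IH) (Lpr_gt (f370870 IH) (Lpe (f370872 IH) (Lpr_ct (f370648 IH) (Lpr_gt (f377388 IH) (Lpr_cf (f412690 IH) (Lpr_bt (f183935 IH) (Lpr_gt (f302964 IH) (Lpr_ct (f215571 IH) (Lpn (LP (LK LD1_c10 LD2_c43 LD3_c15)))))))))))))
theorem f195729 : Led Lsl_at (LP (LK LD1_c10 LD2_c43 LD3_c15)) = (LP (LK LD1_c5 LD2_c25 LD3_c61)) :=
  Lre_a IH (LK LD1_c10 LD2_c43 LD3_c15) (LK LD1_c5 LD2_c25 LD3_c61) Lrfl Lrfl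
theorem f195730 : Led Lsl_at (LP (LK LD1_c8 LD2_c22 LD3_c29)) = (LP (LK LD1_c15 LD2_c45 LD3_c31)) :=
  Lre_a IH (LK LD1_c8 LD2_c22 LD3_c29) (LK LD1_c15 LD2_c45 LD3_c31) Lrfl Lrfl
theorem f195731 : Led Lsl_ef (LP (LK LD1_c10 LD2_c43 LD3_c15)) = (LP (LK LD1_c15 LD2_c45 LD3_c31)) :=
  Lgr Lrot20 (Lpr_at (f195729 IH) (Lpr_et (K18.f195725 IH) (Lpr_at (f195730 IH) (Lpn (LP (LK LD1_c15 LD2_c45 LD3_c31))))))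
theorem f195744 : Led Lsl_dt (LP (LK LD1_c15 LD2_c45 LD3_c31)) = (LP (LK LD1_c25 LD2_c42 LD3_c11)) :=
  Lre_d IH (LK LD1_c15 LD2_c45 LD3_c31) (LK LD1_c25 LD2_c42 LD3_c11) Lrfl Lrfl
theorem f320219 : Led Lsl_dt (LP (LK LD1_c5 LD2_c30 LD3_c48)) = (LP (LK LD1_c2 LD2_c41 LD3_c37)) :=
  Lre_d IH (LK LD1_c5 LD2_c30 LD3_c48) (LK LD1_c2 LD2_c41 LD3_c37) Lrfl Lrfl
theorem f320220 : Led Lsl_ft (LP (LK LD1_c8 LD2_c22 LD3_c30)) = (LP (LK LD1_c5 LD2_c30 LD3_c48)) :=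
  Lgr Lrot54 (Lpe (K21.f195728 IH) (Lpr_ff (K20.f320214 IH) (Lpe (f320219 IH) (Lpn (LP (LK LD1_c5 LD2_c30 LD3_c48))))))
theorem f310347 : Led Lsl_bt (LP (LK LD1_c15 LD2_c45 LD3_c32)) = (LP (LK LD1_c8 LD2_c22 LD3_c30)) :=
  Lre_b IH (LK LD1_c15 LD2_c45 LD3_c32) (LK LD1_c8 LD2_c22 LD3_c30) Lrfl Lrfl
theorem f320223 : Led Lsl_bt (LP (LK LD1_c5 LD2_c30 LD3_c48)) = (LP (LK LD1_c10 LD2_c53 LD3_c7)) :=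
  Lre_b IH (LK LD1_c5 LD2_c30 LD3_c48) (LK LD1_c10 LD2_c53 LD3_c7) Lrfl Lrfl
theorem f320224 : Led Lsl_ff (LP (LK LD1_c15 LD2_c45 LD3_c32)) = (LP (LK LD1_c10 LD2_c53 LD3_c7)) :=
  Lgr Lrot25 (Lpr_bt (f310347 IH) (Lpr_ft (f320220 IH) (Lpr_bt (f320223 IH) (Lpn (LP (LK LD1_c10 LD2_c53 LD3_c7))))))
theorem f320226 : Led Lsl_at (LP (LK LD1_c15 LD2_c45 LD3_c32)) = (LP (LK LD1_c25 LD2_c42 LD3_c11)) :=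
  Lre_a IH (LK LD1_c15 LD2_c45 LD3_c32) (LK LD1_c25 LD2_c42 LD3_c11) Lrfl Lrfl
theorem f320234 : Led Lsl_gt (LP (LK LD1_c10 LD2_c53 LD3_c7)) = (LP (LK LD1_c19 LD2_c40 LD3_c35)) :=
  Lre_g IH (LK LD1_c10 LD2_c53 LD3_c7) (LK LD1_c19 LD2_c40 LD3_c35) Lrfl Lrfl
theorem f320235 : Led Lsl_gf (LP (LK LD1_c25 LD2_c42 LD3_c11)) = (LP (LK LD1_c19 LD2_c40 LD3_c35)) :=
  Lgr Lrot76 (Lpe (f320226 IH) (Lpr_ff (f320224 IH) (Lpr_gt (f320234 IH) (Lpn (LP (LK LD1_c19 LD2_c40 LD3_c35))))))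
theorem f924303 : Led Lsl_dt (LP (LK LD1_c19 LD2_c27 LD3_c50)) = (LP (LK LD1_c19 LD2_c40 LD3_c35)) :=
  Lgr Lrot136 (Lpr_et (f8989 IH) (Lpe (f7658 IH) (Lpe (K56.f8988 IH) (Lpr_dt (K0.f8935 IH) (Lpe (f8920 IH) (Lpr_df (f752333 IH) (Lpqs (f924250 IH) (Lpr_gf (f412696 IH) (Lpr_ef (f195731 IH) (Lpr_dt (f195744 IH) (Lpr_gf (f320235 IH) (Lpn (LP (LK LD1_c19 LD2_c40 LD3_c35))))))))))))))
theorem f172985 : Led Lsl_gt (LP (LK LD1_c10 LD2_c45 LD3_c46)) = (LP (LK LD1_c5 LD2_c33 LD3_c45)) :=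
  Lre_g IH (LK LD1_c10 LD2_c45 LD3_c46) (LK LD1_c5 LD2_c33 LD3_c45) Lrfl Lrfl
theorem f320231 : Led Lsl_dt (LP (LK LD1_c5 LD2_c30 LD3_c47)) = (LP (LK LD1_c10 LD2_c53 LD3_c7)) :=
  Lre_d IH (LK LD1_c5 LD2_c30 LD3_c47) (LK LD1_c10 LD2_c53 LD3_c7) Lrfl Lrfl
def v15038 : LQ := Led Lsl_gf (LP (LK LD1_c5 LD2_c30 LD3_c47))
theorem f729723 : Led Lsl_gf (LP (LK LD1_c5 LD2_c30 LD3_c47)) = v15038 :=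
  Lrfl
theorem f924313 : (LP (LK LD1_c10 LD2_c48 LD3_c26)) = v15038 :=
  (Llr Lrot121 (Lpe (f172981 IH) (Lpr_dt (K30.f172958 IH) (Lpe (K42.f172982 IH) (Lpe (K30.f172983 IH) (Lpr_et (K56.f172984 IH) (Lpe (f172985 IH) (Lpe (f8989 IH) (Lpr_dt (f924303 IH) (Lpe (f320234 IH) (Lpe (f320231 IH) (Lpr_gf (f729723 IH) (Lpn v15038))))))))))))).symm
theorem f320280 : Led Lsl_et (LP (LK LD1_c10 LD2_c53 LD3_c8)) = (LP (LK LD1_c5 LD2_c30 LD3_c47)) :=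
  Lre_e IH (LK LD1_c10 LD2_c53 LD3_c8) (LK LD1_c5 LD2_c30 LD3_c47) Lrfl Lrfl
theorem f184948 : Led Lsl_bt (LP (LK LD1_c5 LD2_c13 LD3_c25)) = (LP (LK LD1_c10 LD2_c17 LD3_c6)) :=
  Lre_b IH (LK LD1_c5 LD2_c13 LD3_c25) (LK LD1_c10 LD2_c17 LD3_c6) Lrfl Lrfl
theorem f184950 : Led Lsl_dt (LP (LK LD1_c10 LD2_c17 LD3_c6)) = (LP (LK LD1_c16 LD2_c47 LD3_c36)) :=
  Lgr Lrot79 (Lpe (f184948 IH) (Lpr_df (K20.f184943 IH) (Lpe (f184949 IH) (Lpn (LP (LK LD1_c16 LD2_c47 LD3_c36))))))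
theorem f184936 : Led Lsl_bt (LP (LK LD1_c8 LD2_c58 LD3_c31)) = (LP (LK LD1_c16 LD2_c47 LD3_c36)) :=
  Lre_b IH (LK LD1_c8 LD2_c58 LD3_c31) (LK LD1_c16 LD2_c47 LD3_c36) Lrfl Lrfl
theorem f213637 : Led Lsl_bt (LP (LK LD1_c10 LD2_c58 LD3_c40)) = (LP (LK LD1_c5 LD2_c33 LD3_c22)) :=
  Lre_b IH (LK LD1_c10 LD2_c58 LD3_c40) (LK LD1_c5 LD2_c33 LD3_c22) Lrfl Lrfl
theorem f320169 : Led Lsl_ft (LP (LK LD1_c16 LD2_c47 LD3_c36)) = (LP (LK LD1_c10 LD2_c58 LD3_c40)) :=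
  Lgr Lrot75 (Lpe (f184936 IH) (Lpr_ff (K20.f320165 IH) (Lpe (f213637 IH) (Lpn (LP (LK LD1_c10 LD2_c58 LD3_c40))))))
theorem f320274 : Led Lsl_dt (LP (LK LD1_c10 LD2_c58 LD3_c40)) = (LP (LK LD1_c10 LD2_c53 LD3_c8)) :=
  Lgr Lrot60 (Lpe (f320169 IH) (Lpe (f184950 IH) (Lpr_ff (K20.f320269 IH) (Lpn (LP (LK LD1_c10 LD2_c53 LD3_c8))))))
theorem f320278 : Led Lsl_df (LP (LK LD1_c10 LD2_c58 LD3_c40)) = (LP (LK LD1_c10 LD2_c53 LD3_c8)) :=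
  Lgr Lrot38 (Lpr_dt (f320274 IH) (Lpn (LP (LK LD1_c10 LD2_c53 LD3_c8))))
theorem f924317 : v15214 = (LP (LK LD1_c10 LD2_c58 LD3_c40)) :=
  (Llr Lrot145 (Lpe (f732917 IH) (Lpe (f172988 IH) (Lpr_et (f172987 IH) (Lpr_gt (K9.f172986 IH) (Lpr_dt (K30.f172983 IH) (Lpr_gt (K42.f172982 IH) (Lpe (K30.f172958 IH) (Lpr_et (f172981 IH) (Lpqs (f924313 IH) (Lpe (f729723 IH) (Lpe (f320280 IH) (Lpe (f320278 IH) (Lpn (LP (LK LD1_c10 LD2_c58 LD3_c40)))))))))))))))).symm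
theorem f638539 : Led Lsl_gt (LP (LK LD1_c5 LD2_c34 LD3_c5)) = (LP (LK LD1_c11 LD2_c0 LD3_c22)) :=
  Lre_g IH (LK LD1_c5 LD2_c34 LD3_c5) (LK LD1_c11 LD2_c0 LD3_c22) Lrfl Lrfl
theorem f924319 : Led Lsl_at (LP (LK LD1_c16 LD2_c47 LD3_c36)) = (LP (LK LD1_c11 LD2_c0 LD3_c22)) :=
  Lgr Lrot26 (Lpr_ff (f320179 IH) (Lpq (f924317 IH) (Lpe (f732917 IH) (Lpr_gt (f638539 IH) (Lpn (LP (LK LD1_c11 LD2_c0 LD3_c22)))))))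
theorem f320182 : Led Lsl_at (LP (LK LD1_c19 LD2_c49 LD3_c6)) = (LP (LK LD1_c10 LD2_c58 LD3_c40)) :=
  Lre_a IH (LK LD1_c19 LD2_c49 LD3_c6) (LK LD1_c10 LD2_c58 LD3_c40) Lrfl Lrfl
theorem f924327 : Led Lsl_ff (LP (LK LD1_c19 LD2_c49 LD3_c6)) = (LP (LK LD1_c11 LD2_c0 LD3_c22)) :=
  Lgr Lrot30 (Lpr_at (f320182 IH) (Lpe (f320179 IH) (Lpr_at (f924319 IH) (Lpn (LP (LK LD1_c11 LD2_c0 LD3_c22))))))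
theorem f924331 : Led Lsl_ft (LP (LK LD1_c19 LD2_c49 LD3_c6)) = (LP (LK LD1_c11 LD2_c0 LD3_c22)) :=
  Lgr Lrot48 (Lpr_ff (f924327 IH) (Lpn (LP (LK LD1_c11 LD2_c0 LD3_c22))))
theorem f924322 : Led Lsl_af (LP (LK LD1_c16 LD2_c47 LD3_c36)) = (LP (LK LD1_c11 LD2_c0 LD3_c22)) :=
  Lgr Lrot0 (Lpr_at (f924319 IH) (Lpn (LP (LK LD1_c11 LD2_c0 LD3_c22))))
theorem f390764 : Led Lsl_et (LP (LK LD1_c5 LD2_c33 LD3_c49)) = (LP (LK LD1_c2 LD2_c42 LD3_c60)) :=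
  Lre_e IH (LK LD1_c5 LD2_c33 LD3_c49) (LK LD1_c2 LD2_c42 LD3_c60) Lrfl Lrfl
theorem f390765 : Led Lsl_dt (LP (LK LD1_c5 LD2_c33 LD3_c49)) = (LP (LK LD1_c10 LD2_c59 LD3_c37)) :=
  Lre_d IH (LK LD1_c5 LD2_c33 LD3_c49) (LK LD1_c10 LD2_c59 LD3_c37) Lrfl Lrfl
theorem f924277 : Led Lsl_gt (LP (LK LD1_c10 LD2_c59 LD3_c37)) = (LP (LK LD1_c16 LD2_c47 LD3_c36)) :=
  Lgr Lrot112 (Lpe (f390765 IH) (Lpr_et (f390764 IH) (Lpr_gf (K31.f390744 IH) (Lpe (K56.f8794 IH) (Lpr_dt (K0.f8862 IH) (Lpr_gf (K56.f446652 IH) (Lpr_df (K56.f752318 IH) (Lpqs (f924253 IH) (Lpe (f184907 IH) (Lpe (K20.f184964 IH) (Lpr_dt (f184950 IH) (Lpn (LP (LK LD1_c16 LD2_c47 LD3_c36))))))))))))))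
theorem f924335 : Led Lsl_gt (LP (LK LD1_c19 LD2_c49 LD3_c6)) = (LP (LK LD1_c10 LD2_c59 LD3_c37)) :=
  Lgr Lrot5 (Lpr_ft (f924331 IH) (Lpe (f924322 IH) (Lpe (f924277 IH) (Lpn (LP (LK LD1_c10 LD2_c59 LD3_c37))))))
theorem f320193 : Led Lsl_at (LP (LK LD1_c10 LD2_c53 LD3_c8)) = (LP (LK LD1_c19 LD2_c40 LD3_c34)) :=
  Lre_a IH (LK LD1_c10 LD2_c53 LD3_c8) (LK LD1_c19 LD2_c40 LD3_c34) Lrfl Lrfl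
theorem f320276 : Led Lsl_df (LP (LK LD1_c19 LD2_c49 LD3_c6)) = (LP (LK LD1_c19 LD2_c40 LD3_c34)) :=
  Lgr Lrot18 (Lpr_at (f320182 IH) (Lpr_dt (f320274 IH) (Lpr_at (f320193 IH) (Lpn (LP (LK LD1_c19 LD2_c40 LD3_c34))))))
theorem f320257 : Led Lsl_et (LP (LK LD1_c19 LD2_c40 LD3_c34)) = (LP (LK LD1_c10 LD2_c53 LD3_c6)) :=
  Lre_e IH (LK LD1_c19 LD2_c40 LD3_c34) (LK LD1_c10 LD2_c53 LD3_c6) Lrfl Lrfl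
def v36226 : LQ := Led Lsl_gt (LP (LK LD1_c8 LD2_c22 LD3_c29))
theorem f882832 : Led Lsl_gt (LP (LK LD1_c8 LD2_c22 LD3_c29)) = v36226 :=
  Lrfl
theorem f320256 : Led Lsl_at (LP (LK LD1_c5 LD2_c30 LD3_c47)) = (LP (LK LD1_c10 LD2_c53 LD3_c6)) :=
  Lre_a IH (LK LD1_c5 LD2_c30 LD3_c47) (LK LD1_c10 LD2_c53 LD3_c6) Lrfl Lrfl
theorem f882833 : Led Lsl_gf (LP (LK LD1_c10 LD2_c53 LD3_c6)) = v36226 :=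
  Lgr Lrot76 (Lpe (f320256 IH) (Lpe (K20.f320217 IH) (Lpr_gt (f882832 IH) (Lpn v36226))))
theorem f924339 : v36226 = (LP (LK LD1_c15 LD2_c44 LD3_c24)) :=
  (Llr Lrot141 (Lpe (f882833 IH) (Lpe (f320257 IH) (Lpe (f320276 IH) (Lpr_gt (f924335 IH) (Lpe (f390765 IH) (Lpr_et (f390764 IH) (Lpr_gt (K31.f390630 IH) (Lpr_dt (K31.f173438 IH) (Lpr_gt (K31.f173421 IH) (Lpr_df (K31.f391705 IH) (Lpr_et (f391707 IH) (Lpn (LP (LK LD1_c15 LD2_c44 LD3_c24))))))))))))))).symm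
theorem f320248 : Led Lsl_dt (LP (LK LD1_c10 LD2_c53 LD3_c6)) = (LP (LK LD1_c19 LD2_c40 LD3_c33)) :=
  Lre_d IH (LK LD1_c10 LD2_c53 LD3_c6) (LK LD1_c19 LD2_c40 LD3_c33) Lrfl Lrfl
theorem f924343 : Led Lsl_gf (LP (LK LD1_c19 LD2_c52 LD3_c50)) = (LP (LK LD1_c19 LD2_c40 LD3_c33)) :=
  Lgr Lrot134 (Lpe (f391747 IH) (Lpr_et (f391746 IH) (Lpr_gt (K22.f337779 IH) (Lpe (f391745 IH) (Lpr_dt (K31.f173438 IH) (Lpr_gt (K31.f173421 IH) (Lpr_df (K31.f391705 IH) (Lpr_et (f391707 IH) (Lpq (f924339 IH) (Lpe (f882833 IH) (Lpr_dt (f320248 IH) (Lpn (LP (LK LD1_c19 LD2_c40 LD3_c33))))))))))))))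
theorem f320232 : Led Lsl_ft (LP (LK LD1_c15 LD2_c45 LD3_c32)) = (LP (LK LD1_c10 LD2_c53 LD3_c7)) :=
  Lgr Lrot48 (Lpr_ff (f320224 IH) (Lpn (LP (LK LD1_c10 LD2_c53 LD3_c7))))
theorem f320241 : Led Lsl_at (LP (LK LD1_c25 LD2_c42 LD3_c11)) = (LP (LK LD1_c15 LD2_c45 LD3_c32)) :=
  Lre_a IH (LK LD1_c25 LD2_c42 LD3_c11) (LK LD1_c15 LD2_c45 LD3_c32) Lrfl Lrfl
theorem f320242 : Led Lsl_at (LP (LK LD1_c10 LD2_c53 LD3_c7)) = (LP (LK LD1_c19 LD2_c40 LD3_c33)) :=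
  Lre_a IH (LK LD1_c10 LD2_c53 LD3_c7) (LK LD1_c19 LD2_c40 LD3_c33) Lrfl Lrfl
theorem f320243 : Led Lsl_ff (LP (LK LD1_c25 LD2_c42 LD3_c11)) = (LP (LK LD1_c19 LD2_c40 LD3_c33)) :=
  Lgr Lrot30 (Lpr_at (f320241 IH) (Lpr_ft (f320232 IH) (Lpr_at (f320242 IH) (Lpn (LP (LK LD1_c19 LD2_c40 LD3_c33))))))
theorem f924345 : Led Lsl_gt (LP (LK LD1_c19 LD2_c52 LD3_c50)) = (LP (LK LD1_c15 LD2_c45 LD3_c32)) :=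
  Lgr Lrot46 (Lpr_gf (f924343 IH) (Lpe (f320243 IH) (Lpr_at (f320241 IH) (Lpn (LP (LK LD1_c15 LD2_c45 LD3_c32))))))
theorem f8904 : Led Lsl_et (LP (LK LD1_c5 LD2_c27 LD3_c3)) = (LP (LK LD1_c10 LD2_c45 LD3_c10)) :=
  Lre_e IH (LK LD1_c5 LD2_c27 LD3_c3) (LK LD1_c10 LD2_c45 LD3_c10) Lrfl Lrfl
theorem f8876 : Led Lsl_dt (LP (LK LD1_c5 LD2_c27 LD3_c14)) = (LP (LK LD1_c2 LD2_c39 LD3_c60)) :=
  Lre_d IH (LK LD1_c5 LD2_c27 LD3_c14) (LK LD1_c2 LD2_c39 LD3_c60) Lrfl Lrfl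
theorem f8877 : Led Lsl_ft (LP (LK LD1_c2 LD2_c39 LD3_c60)) = (LP (LK LD1_c5 LD2_c27 LD3_c3)) :=
  Lre_f IH (LK LD1_c2 LD2_c39 LD3_c60) (LK LD1_c5 LD2_c27 LD3_c3) Lrfl Lrfl
theorem f8878 : Led Lsl_dt (LP (LK LD1_c5 LD2_c27 LD3_c3)) = (LP (LK LD1_c6 LD2_c8 LD3_c21)) :=
  Lgr Lrot60 (Lpe (f8877 IH) (Lpe (f8876 IH) (Lpr_ff (K0.f8865 IH) (Lpn (LP (LK LD1_c6 LD2_c8 LD3_c21))))))
theorem f8869 : Led Lsl_at (LP (LK LD1_c5 LD2_c27 LD3_c14)) = (LP (LK LD1_c2 LD2_c39 LD3_c61)) :=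
  Lre_a IH (LK LD1_c5 LD2_c27 LD3_c14) (LK LD1_c2 LD2_c39 LD3_c61) Lrfl Lrfl
theorem f8871 : Led Lsl_ft (LP (LK LD1_c2 LD2_c39 LD3_c61)) = (LP (LK LD1_c3 LD2_c0 LD3_c23)) :=
  Lgr Lrot101 (Lpe (f8869 IH) (Lpr_ff (K0.f8865 IH) (Lpe (K0.f8870 IH) (Lpn (LP (LK LD1_c3 LD2_c0 LD3_c23))))))
theorem f446661 : Led Lsl_gt (LP (LK LD1_c5 LD2_c27 LD3_c15)) = (LP (LK LD1_c6 LD2_c8 LD3_c21)) :=
  Lgr Lrot46 (Lpe (f168218 IH) (Lpr_ft (f8871 IH) (Lpr_at (K0.f8870 IH) (Lpn (LP (LK LD1_c6 LD2_c8 LD3_c21))))))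
def v14918 : LQ := Led Lsl_dt (LP (LK LD1_c5 LD2_c27 LD3_c15))
theorem f727277 : Led Lsl_dt (LP (LK LD1_c5 LD2_c27 LD3_c15)) = v14918 :=
  Lrfl
theorem f727278 : Led Lsl_df (LP (LK LD1_c5 LD2_c27 LD3_c15)) = v14918 :=
  Lgr Lrot38 (Lpr_dt (f727277 IH) (Lpn v14918))
theorem f195734 : Led Lsl_dt (LP (LK LD1_c8 LD2_c22 LD3_c29)) = (LP (LK LD1_c15 LD2_c45 LD3_c32)) :=
  Lre_d IH (LK LD1_c8 LD2_c22 LD3_c29) (LK LD1_c15 LD2_c45 LD3_c32) Lrfl Lrfl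
theorem f195735 : Led Lsl_ef (LP (LK LD1_c5 LD2_c25 LD3_c61)) = (LP (LK LD1_c8 LD2_c22 LD3_c29)) :=
  Lgr Lrot88 (Lpr_et (K18.f195725 IH) (Lpn (LP (LK LD1_c8 LD2_c22 LD3_c29))))
theorem f195703 : Led Lsl_gt (LP (LK LD1_c5 LD2_c25 LD3_c61)) = (LP (LK LD1_c10 LD2_c43 LD3_c13)) :=
  Lre_g IH (LK LD1_c5 LD2_c25 LD3_c61) (LK LD1_c10 LD2_c43 LD3_c13) Lrfl Lrfl
theorem f924352 : v14918 = (LP (LK LD1_c10 LD2_c43 LD3_c13)) :=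
  (Llr Lrot135 (Lpe (f727278 IH) (Lpr_gt (f446661 IH) (Lpe (f8878 IH) (Lpr_et (f8904 IH) (Lpr_gt (K22.f8726 IH) (Lpe (f391746 IH) (Lpr_dt (f391747 IH) (Lpr_gt (f924345 IH) (Lpe (f195734 IH) (Lpe (f195735 IH) (Lpr_gt (f195703 IH) (Lpn (LP (LK LD1_c10 LD2_c43 LD3_c13))))))))))))))).symm
theorem f446647 : Led Lsl_et (LP (LK LD1_c5 LD2_c27 LD3_c18)) = (LP (LK LD1_c2 LD2_c39 LD3_c61)) :=
  Lre_e IH (LK LD1_c5 LD2_c27 LD3_c18) (LK LD1_c2 LD2_c39 LD3_c61) Lrfl Lrfl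
theorem f727280 : Led Lsl_dt (LP (LK LD1_c5 LD2_c27 LD3_c18)) = (LP (LK LD1_c2 LD2_c43 LD3_c12)) :=
  Lre_d IH (LK LD1_c5 LD2_c27 LD3_c18) (LK LD1_c2 LD2_c43 LD3_c12) Lrfl Lrfl
theorem f733128 : Led Lsl_df (LP (LK LD1_c5 LD2_c34 LD3_c32)) = v15247 :=
  Lgr Lrot38 (Lpr_dt (f733127 IH) (Lpn v15247))
def v14549 : LQ := Led Lsl_at (LP (LK LD1_c5 LD2_c13 LD3_c26))
theorem f723146 : Led Lsl_at (LP (LK LD1_c5 LD2_c13 LD3_c26)) = v14549 :=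
  Lrfl
theorem f723151 : Led Lsl_gt (LP (LK LD1_c10 LD2_c43 LD3_c13)) = v14549 :=
  Lgr Lrot46 (Lpe (f195703 IH) (Lpe (K18.f302953 IH) (Lpr_at (f723146 IH) (Lpn v14549))))
def v14366 : LQ := Led Lsl_et (LP (LK LD1_c5 LD2_c7 LD3_c22))
theorem f722214 : Led Lsl_et (LP (LK LD1_c5 LD2_c7 LD3_c22)) = v14366 :=
  Lrfl
theorem f308486 : Led Lsl_at (LP (LK LD1_c10 LD2_c5 LD3_c4)) = (LP (LK LD1_c5 LD2_c7 LD3_c22)) :=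
  Lre_a IH (LK LD1_c10 LD2_c5 LD3_c4) (LK LD1_c5 LD2_c7 LD3_c22) Lrfl Lrfl
theorem f722215 : Led Lsl_af K53.v14352 = v14366 :=
  Lgr Lrot50 (Lpe (K53.f722114 IH) (Lpr_at (f308486 IH) (Lpr_et (f722214 IH) (Lpn v14366))))
theorem f723149 : Led Lsl_df v14366 = v14549 :=
  Lgr Lrot18 (Lpe (f722215 IH) (Lpe (f722113 IH) (Lpr_at (f723146 IH) (Lpn v14549))))
theorem f723154 : Led Lsl_dt v14366 = v14549 :=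
  Lgr Lrot42 (Lpr_df (f723149 IH) (Lpn v14549))
theorem f722217 : Led Lsl_ef (LP (LK LD1_c5 LD2_c7 LD3_c22)) = v14366 :=
  Lgr Lrot88 (Lpr_et (f722214 IH) (Lpn v14366))
def v35888 : LQ := Led Lsl_et (LP (LK LD1_c8 LD2_c12 LD3_c12))
theorem f880941 : Led Lsl_et (LP (LK LD1_c8 LD2_c12 LD3_c12)) = v35888 :=
  Lrfl
theorem f880943 : Led Lsl_ef (LP (LK LD1_c8 LD2_c12 LD3_c12)) = v35888 :=
  Lgr Lrot88 (Lpr_et (f880941 IH) (Lpn v35888))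
theorem f924437 : v15247 = v35888 :=
  (Llr Lrot170 (Lpe (f733128 IH) (Lpr_gt (f412213 IH) (Lpe (f727280 IH) (Lpr_et (f446647 IH) (Lpr_gt (f168218 IH) (Lpr_dt (f727277 IH) (Lpqs (f924352 IH) (Lpr_gt (f723151 IH) (Lpe (f723154 IH) (Lpe (f722217 IH) (Lpe (K50.f596464 IH) (Lpr_ef (f880943 IH) (Lpn v35888)))))))))))))).symm
theorem f182434 : Led Lsl_ct (LP (LK LD1_c4 LD2_c5 LD3_c44)) = (LP (LK LD1_c8 LD2_c12 LD3_c12)) :=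
  Lre_c IH (LK LD1_c4 LD2_c5 LD3_c44) (LK LD1_c8 LD2_c12 LD3_c12) Lrfl Lrfl
theorem f880942 : Led Lsl_cf (LP (LK LD1_c8 LD2_c12 LD3_c13)) = v35888 :=
  Lgr Lrot39 (Lpr_et (K40.f198548 IH) (Lpr_ct (f182434 IH) (Lpr_et (f880941 IH) (Lpn v35888))))
theorem f198535 : Led Lsl_bt (LP (LK LD1_c11 LD2_c32 LD3_c32)) = (LP (LK LD1_c5 LD2_c53 LD3_c14)) :=
  Lre_b IH (LK LD1_c11 LD2_c32 LD3_c32) (LK LD1_c5 LD2_c53 LD3_c14) Lrfl Lrfl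
theorem f198536 : Led Lsl_bt (LP (LK LD1_c4 LD2_c5 LD3_c46)) = (LP (LK LD1_c8 LD2_c12 LD3_c13)) :=
  Lre_b IH (LK LD1_c4 LD2_c5 LD3_c46) (LK LD1_c8 LD2_c12 LD3_c13) Lrfl Lrfl
theorem f198537 : Led Lsl_df (LP (LK LD1_c11 LD2_c32 LD3_c32)) = (LP (LK LD1_c8 LD2_c12 LD3_c13)) :=
  Lgr Lrot12 (Lpr_bt (f198535 IH) (Lpr_dt (K40.f198525 IH) (Lpr_bt (f198536 IH) (Lpn (LP (LK LD1_c8 LD2_c12 LD3_c13))))))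
theorem f198555 : Led Lsl_ct (LP (LK LD1_c11 LD2_c32 LD3_c32)) = (LP (LK LD1_c20 LD2_c29 LD3_c22)) :=
  Lre_c IH (LK LD1_c11 LD2_c32 LD3_c32) (LK LD1_c20 LD2_c29 LD3_c22) Lrfl Lrfl
theorem f924441 : Led Lsl_df (LP (LK LD1_c29 LD2_c8 LD3_c53)) = (LP (LK LD1_c20 LD2_c29 LD3_c22)) :=
  Lgr Lrot13 (Lpr_ct (f733110 IH) (Lpr_dt (f733109 IH) (Lpr_ct (f733103 IH) (Lpr_af (f733102 IH) (Lpe (f733108 IH) (Lpr_dt (f733127 IH) (Lpqs (f924437 IH) (Lpe (f880942 IH) (Lpe (f198537 IH) (Lpr_ct (f198555 IH) (Lpn (LP (LK LD1_c20 LD2_c29 LD3_c22)))))))))))))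
theorem f924442 : Led Lsl_dt (LP (LK LD1_c20 LD2_c29 LD3_c22)) = (LP (LK LD1_c29 LD2_c8 LD3_c53)) :=
  Leop (Lpr_df (f924441 IH) (Lpn (LP (LK LD1_c20 LD2_c29 LD3_c22))))
theorem seed_2486 : LEOK LG_d (LK LD1_c20 LD2_c29 LD3_c22) :=
  Leoe_d (LK LD1_c20 LD2_c29 LD3_c22) (f924442 IH)
def v15174 : LQ := Led Lsl_ct (LP (LK LD1_c5 LD2_c33 LD3_c22))
theorem f732692 : Led Lsl_ct (LP (LK LD1_c5 LD2_c33 LD3_c22)) = v15174 :=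
  Lrfl
def v37550 : LQ := Led Lsl_ft (LP (LK LD1_c8 LD2_c57 LD3_c36))
theorem f895198 : Led Lsl_ft (LP (LK LD1_c8 LD2_c57 LD3_c36)) = v37550 :=
  Lrfl
theorem f895202 : Led Lsl_ff (LP (LK LD1_c8 LD2_c57 LD3_c36)) = v37550 :=
  Lgr Lrot3 (Lpr_ft (f895198 IH) (Lpn v37550))
def v4669 : LQ := Led Lsl_ct (LP (LK LD1_c2 LD2_c42 LD3_c8))
theorem f638420 : Led Lsl_ct (LP (LK LD1_c2 LD2_c42 LD3_c8)) = v4669 :=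
  Lrfl
theorem f638422 : Led Lsl_cf (LP (LK LD1_c2 LD2_c42 LD3_c8)) = v4669 :=
  Lgr Lrot11 (Lpr_ct (f638420 IH) (Lpn v4669))
theorem f281347 : Led Lsl_bt (LP (LK LD1_c10 LD2_c55 LD3_c2)) = (LP (LK LD1_c16 LD2_c46 LD3_c8)) :=
  Lgr Lrot127 (Lpr_bf (K21.f281338 IH) (Lpn (LP (LK LD1_c16 LD2_c46 LD3_c8))))
theorem f281354 : Led Lsl_at (LP (LK LD1_c5 LD2_c31 LD3_c47)) = (LP (LK LD1_c10 LD2_c55 LD3_c2)) :=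
  Lre_a IH (LK LD1_c5 LD2_c31 LD3_c47) (LK LD1_c10 LD2_c55 LD3_c2) Lrfl Lrfl
theorem f264332 : Led Lsl_bt (LP (LK LD1_c2 LD2_c42 LD3_c9)) = (LP (LK LD1_c5 LD2_c31 LD3_c47)) :=
  Lre_b IH (LK LD1_c2 LD2_c42 LD3_c9) (LK LD1_c5 LD2_c31 LD3_c47) Lrfl Lrfl
theorem f281037 : Led Lsl_at (LP (LK LD1_c16 LD2_c46 LD3_c8)) = (LP (LK LD1_c8 LD2_c57 LD3_c31)) :=
  Lre_a IH (LK LD1_c16 LD2_c46 LD3_c8) (LK LD1_c8 LD2_c57 LD3_c31) Lrfl Lrfl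
theorem f281051 : Led Lsl_bt (LP (LK LD1_c8 LD2_c57 LD3_c31)) = (LP (LK LD1_c4 LD2_c29 LD3_c42)) :=
  Lre_b IH (LK LD1_c8 LD2_c57 LD3_c31) (LK LD1_c4 LD2_c29 LD3_c42) Lrfl Lrfl
theorem f281355 : Led Lsl_af (LP (LK LD1_c2 LD2_c42 LD3_c9)) = (LP (LK LD1_c4 LD2_c29 LD3_c42)) :=
  Lgr Lrot36 (Lpr_bt (f264332 IH) (Lpr_at (f281354 IH) (Lpr_bt (f281347 IH) (Lpr_at (f281037 IH) (Lpr_bt (f281051 IH) (Lpn (LP (LK LD1_c4 LD2_c29 LD3_c42))))))))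
theorem f261826 : Led Lsl_dt (LP (LK LD1_c2 LD2_c42 LD3_c9)) = (LP (LK LD1_c5 LD2_c31 LD3_c60)) :=
  Lre_d IH (LK LD1_c2 LD2_c42 LD3_c9) (LK LD1_c5 LD2_c31 LD3_c60) Lrfl Lrfl
theorem f261795 : Led Lsl_dt (LP (LK LD1_c8 LD2_c57 LD3_c37)) = (LP (LK LD1_c4 LD2_c29 LD3_c42)) :=
  Lre_d IH (LK LD1_c8 LD2_c57 LD3_c37) (LK LD1_c4 LD2_c29 LD3_c42) Lrfl Lrfl
theorem f281366 : Led Lsl_at (LP (LK LD1_c5 LD2_c31 LD3_c60)) = (LP (LK LD1_c8 LD2_c57 LD3_c37)) :=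
  Lgr Lrot51 (Lpe (f261826 IH) (Lpr_af (f281355 IH) (Lpe (f261795 IH) (Lpn (LP (LK LD1_c8 LD2_c57 LD3_c37))))))
theorem f281385 : Led Lsl_ft (LP (LK LD1_c2 LD2_c42 LD3_c8)) = (LP (LK LD1_c5 LD2_c31 LD3_c60)) :=
  Lre_f IH (LK LD1_c2 LD2_c42 LD3_c8) (LK LD1_c5 LD2_c31 LD3_c60) Lrfl Lrfl
theorem f281386 : Led Lsl_ft (LP (LK LD1_c8 LD2_c57 LD3_c37)) = (LP (LK LD1_c4 LD2_c29 LD3_c41)) :=
  Lre_f IH (LK LD1_c8 LD2_c57 LD3_c37) (LK LD1_c4 LD2_c29 LD3_c41) Lrfl Lrfl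
theorem f281387 : Led Lsl_af (LP (LK LD1_c2 LD2_c42 LD3_c8)) = (LP (LK LD1_c4 LD2_c29 LD3_c41)) :=
  Lgr Lrot45 (Lpr_ft (f281385 IH) (Lpr_at (f281366 IH) (Lpr_ft (f281386 IH) (Lpn (LP (LK LD1_c4 LD2_c29 LD3_c41))))))
theorem f281392 : Led Lsl_at (LP (LK LD1_c2 LD2_c42 LD3_c8)) = (LP (LK LD1_c4 LD2_c29 LD3_c41)) :=
  Lgr Lrot100 (Lpr_af (f281387 IH) (Lpn (LP (LK LD1_c4 LD2_c29 LD3_c41))))
theorem f261806 : Led Lsl_ct (LP (LK LD1_c4 LD2_c29 LD3_c41)) = (LP (LK LD1_c8 LD2_c57 LD3_c36)) :=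
  Lre_c IH (LK LD1_c4 LD2_c29 LD3_c41) (LK LD1_c8 LD2_c57 LD3_c36) Lrfl Lrfl
theorem f638424 : Led Lsl_at (LP (LK LD1_c8 LD2_c57 LD3_c36)) = v4669 :=
  Lgr Lrot107 (Lpe (f261806 IH) (Lpe (f281392 IH) (Lpr_cf (f638422 IH) (Lpn v4669))))
theorem f320202 : Led Lsl_dt (LP (LK LD1_c5 LD2_c33 LD3_c22)) = (LP (LK LD1_c5 LD2_c30 LD3_c49)) :=
  Lgr Lrot60 (Lpe (K20.f320174 IH) (Lpe (K20.f184933 IH) (Lpr_ff (K20.f320197 IH) (Lpn (LP (LK LD1_c5 LD2_c30 LD3_c49))))))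
theorem f345966 : Led Lsl_ct (LP (LK LD1_c2 LD2_c42 LD3_c11)) = (LP (LK LD1_c1 LD2_c17 LD3_c41)) :=
  Lre_c IH (LK LD1_c2 LD2_c42 LD3_c11) (LK LD1_c1 LD2_c17 LD3_c41) Lrfl Lrfl
theorem f373578 : Led Lsl_gf (LP (LK LD1_c5 LD2_c33 LD3_c22)) = (LP (LK LD1_c8 LD2_c58 LD3_c34)) :=
  Lgr Lrot143 (Lpr_dt (f320202 IH) (Lpe (K53.f304423 IH) (Lpe (K18.f304441 IH) (Lpe (K18.f304407 IH) (Lpe (K22.f261791 IH) (Lpr_gf (K56.f373576 IH) (Lpe (f345966 IH) (Lpr_gt (K27.f314150 IH) (Lpr_dt (K20.f168778 IH) (Lpn (LP (LK LD1_c8 LD2_c58 LD3_c34))))))))))))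
theorem f168779 : Led Lsl_dt (LP (LK LD1_c8 LD2_c58 LD3_c34)) = (LP (LK LD1_c4 LD2_c30 LD3_c11)) :=
  Lre_d IH (LK LD1_c8 LD2_c58 LD3_c34) (LK LD1_c4 LD2_c30 LD3_c11) Lrfl Lrfl
theorem f732694 : Led Lsl_gf v4669 = v15174 :=
  Lgr Lrot104 (Lpe (f638422 IH) (Lpe (K19.f173056 IH) (Lpe (K19.f175268 IH) (Lpe (K14.f198751 IH) (Lpe (K20.f198766 IH) (Lpr_gf (K22.f320110 IH) (Lpe (f168779 IH) (Lpe (f373578 IH) (Lpr_ct (f732692 IH) (Lpn v15174))))))))))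
theorem f895206 : Led Lsl_gf v15174 = v37550 :=
  Lgr Lrot47 (Lpe (f732694 IH) (Lpe (f638424 IH) (Lpr_ff (f895202 IH) (Lpn v37550))))
theorem f275998 : Led Lsl_ct (LP (LK LD1_c8 LD2_c57 LD3_c36)) = (LP (LK LD1_c4 LD2_c29 LD3_c41)) :=
  Lre_c IH (LK LD1_c8 LD2_c57 LD3_c36) (LK LD1_c4 LD2_c29 LD3_c41) Lrfl Lrfl
theorem f281406 : Led Lsl_ft (LP (LK LD1_c4 LD2_c29 LD3_c41)) = (LP (LK LD1_c8 LD2_c57 LD3_c37)) :=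
  Lre_f IH (LK LD1_c4 LD2_c29 LD3_c41) (LK LD1_c8 LD2_c57 LD3_c37) Lrfl Lrfl
theorem f895204 : Led Lsl_ct (LP (LK LD1_c8 LD2_c57 LD3_c37)) = v37550 :=
  Lgr Lrot40 (Lpe (f281406 IH) (Lpe (f275998 IH) (Lpr_ff (f895202 IH) (Lpn v37550))))
theorem f281389 : Led Lsl_gt (LP (LK LD1_c5 LD2_c31 LD3_c58)) = (LP (LK LD1_c8 LD2_c57 LD3_c37)) :=
  Lgr Lrot46 (Lpe (K19.f173057 IH) (Lpr_ft (f281385 IH) (Lpr_at (f281366 IH) (Lpn (LP (LK LD1_c8 LD2_c57 LD3_c37))))))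
theorem f183106 : Led Lsl_bt (LP (LK LD1_c10 LD2_c55 LD3_c33)) = (LP (LK LD1_c5 LD2_c31 LD3_c58)) :=
  Lre_b IH (LK LD1_c10 LD2_c55 LD3_c33) (LK LD1_c5 LD2_c31 LD3_c58) Lrfl Lrfl
theorem f183116 : Led Lsl_ct (LP (LK LD1_c10 LD2_c55 LD3_c33)) = (LP (LK LD1_c19 LD2_c43 LD3_c61)) :=
  Lre_c IH (LK LD1_c10 LD2_c55 LD3_c33) (LK LD1_c19 LD2_c43 LD3_c61) Lrfl Lrfl
theorem f732897 : Led Lsl_bt (LP (LK LD1_c10 LD2_c59 LD3_c51)) = (LP (LK LD1_c5 LD2_c34 LD3_c5)) :=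
  Lre_b IH (LK LD1_c10 LD2_c59 LD3_c51) (LK LD1_c5 LD2_c34 LD3_c5) Lrfl Lrfl
theorem f732921 : Led Lsl_ct (LP (LK LD1_c10 LD2_c59 LD3_c51)) = (LP (LK LD1_c19 LD2_c50 LD3_c42)) :=
  Lre_c IH (LK LD1_c10 LD2_c59 LD3_c51) (LK LD1_c19 LD2_c50 LD3_c42) Lrfl Lrfl
theorem f924497 : Led Lsl_gf (LP (LK LD1_c19 LD2_c43 LD3_c61)) = (LP (LK LD1_c19 LD2_c50 LD3_c42)) :=
  Lgr Lrot126 (Lpe (f183116 IH) (Lpr_bt (f183106 IH) (Lpr_gt (f281389 IH) (Lpr_ct (f895204 IH) (Lpe (f895206 IH) (Lpe (f732692 IH) (Lpr_bt (f320178 IH) (Lpq (f924317 IH) (Lpe (f732917 IH) (Lpe (f732897 IH) (Lpr_ct (f732921 IH) (Lpn (LP (LK LD1_c19 LD2_c50 LD3_c42))))))))))))))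
theorem f924498 : Led Lsl_gt (LP (LK LD1_c19 LD2_c50 LD3_c42)) = (LP (LK LD1_c19 LD2_c43 LD3_c61)) :=
  Leop (Lpr_gf (f924497 IH) (Lpn (LP (LK LD1_c19 LD2_c50 LD3_c42))))
theorem seed_2487 : LEOK LG_g (LK LD1_c19 LD2_c50 LD3_c42) :=
  Leoe_g (LK LD1_c19 LD2_c50 LD3_c42) (f924498 IH)
theorem f172990 : Led Lsl_et (LP (LK LD1_c0 LD2_c35 LD3_c60)) = (LP (LK LD1_c1 LD2_c16 LD3_c43)) :=
  Lre_e IH (LK LD1_c0 LD2_c35 LD3_c60) (LK LD1_c1 LD2_c16 LD3_c43) Lrfl Lrfl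
theorem f172993 : Led Lsl_dt (LP (LK LD1_c2 LD2_c39 LD3_c58)) = (LP (LK LD1_c5 LD2_c27 LD3_c7)) :=
  Lre_d IH (LK LD1_c2 LD2_c39 LD3_c58) (LK LD1_c5 LD2_c27 LD3_c7) Lrfl Lrfl
def v14902 : LQ := Led Lsl_gt (LP (LK LD1_c5 LD2_c27 LD3_c7))
theorem f727204 : Led Lsl_gt (LP (LK LD1_c5 LD2_c27 LD3_c7)) = v14902 :=
  Lrfl
theorem f320252 : Led Lsl_at (LP (LK LD1_c10 LD2_c53 LD3_c6)) = (LP (LK LD1_c5 LD2_c30 LD3_c47)) :=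
  Lre_a IH (LK LD1_c10 LD2_c53 LD3_c6) (LK LD1_c5 LD2_c30 LD3_c47) Lrfl Lrfl
theorem f195745 : Led Lsl_dt (LP (LK LD1_c25 LD2_c42 LD3_c11)) = (LP (LK LD1_c15 LD2_c45 LD3_c31)) :=
  Lre_d IH (LK LD1_c25 LD2_c42 LD3_c11) (LK LD1_c15 LD2_c45 LD3_c31) Lrfl Lrfl
theorem f320249 : Led Lsl_ft (LP (LK LD1_c15 LD2_c45 LD3_c31)) = (LP (LK LD1_c10 LD2_c53 LD3_c6)) :=
  Lgr Lrot54 (Lpe (f195745 IH) (Lpr_ff (f320243 IH) (Lpe (f320248 IH) (Lpn (LP (LK LD1_c10 LD2_c53 LD3_c6))))))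
theorem f729724 : Led Lsl_gt (LP (LK LD1_c15 LD2_c45 LD3_c31)) = v15038 :=
  Lgr Lrot5 (Lpr_ft (f320249 IH) (Lpr_at (f320252 IH) (Lpr_gf (f729723 IH) (Lpn v15038))))
theorem f195738 : Led Lsl_at (LP (LK LD1_c15 LD2_c45 LD3_c31)) = (LP (LK LD1_c8 LD2_c22 LD3_c29)) :=
  Lre_a IH (LK LD1_c15 LD2_c45 LD3_c31) (LK LD1_c8 LD2_c22 LD3_c29) Lrfl Lrfl
theorem f195739 : Led Lsl_et (LP (LK LD1_c10 LD2_c43 LD3_c15)) = (LP (LK LD1_c15 LD2_c45 LD3_c31)) :=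
  Lgr Lrot123 (Lpe (f195737 IH) (Lpr_ef (f195735 IH) (Lpe (f195738 IH) (Lpn (LP (LK LD1_c15 LD2_c45 LD3_c31))))))
theorem f924316 : Led Lsl_df v14902 = (LP (LK LD1_c10 LD2_c43 LD3_c15)) :=
  Lgr Lrot132 (Lpe (f727204 IH) (Lpe (f172993 IH) (Lpe (K39.f172991 IH) (Lpe (f172990 IH) (Lpr_dt (K30.f172989 IH) (Lpe (K30.f172867 IH) (Lpe (K30.f172958 IH) (Lpr_et (f172981 IH) (Lpqs (f924313 IH) (Lpe (f729724 IH) (Lpe (f195739 IH) (Lpn (LP (LK LD1_c10 LD2_c43 LD3_c15))))))))))))))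
def v14904 : LQ := Led Lsl_ft (LP (LK LD1_c5 LD2_c27 LD3_c7))
theorem f727210 : Led Lsl_ft (LP (LK LD1_c5 LD2_c27 LD3_c7)) = v14904 :=
  Lrfl
def v14900 : LQ := Led Lsl_dt (LP (LK LD1_c5 LD2_c27 LD3_c4))
theorem f727177 : Led Lsl_dt (LP (LK LD1_c5 LD2_c27 LD3_c4)) = v14900 :=
  Lrfl
theorem f638287 : Led Lsl_at (LP (LK LD1_c2 LD2_c39 LD3_c58)) = (LP (LK LD1_c5 LD2_c27 LD3_c4)) :=
  Lre_a IH (LK LD1_c2 LD2_c39 LD3_c58) (LK LD1_c5 LD2_c27 LD3_c4) Lrfl Lrfl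
theorem f8955 : Led Lsl_dt (LP (LK LD1_c5 LD2_c27 LD3_c7)) = (LP (LK LD1_c2 LD2_c39 LD3_c58)) :=
  Lre_d IH (LK LD1_c5 LD2_c27 LD3_c7) (LK LD1_c2 LD2_c39 LD3_c58) Lrfl Lrfl
theorem f727178 : Led Lsl_af (LP (LK LD1_c5 LD2_c27 LD3_c7)) = v14900 :=
  Lgr Lrot117 (Lpr_dt (f8955 IH) (Lpr_at (f638287 IH) (Lpr_dt (f727177 IH) (Lpn v14900))))
theorem f638293 : Led Lsl_ft (LP (LK LD1_c2 LD2_c39 LD3_c59)) = (LP (LK LD1_c5 LD2_c27 LD3_c4)) :=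
  Lre_f IH (LK LD1_c2 LD2_c39 LD3_c59) (LK LD1_c5 LD2_c27 LD3_c4) Lrfl Lrfl
theorem f8954 : Led Lsl_dt (LP (LK LD1_c5 LD2_c27 LD3_c12)) = (LP (LK LD1_c2 LD2_c39 LD3_c59)) :=
  Lre_d IH (LK LD1_c5 LD2_c27 LD3_c12) (LK LD1_c2 LD2_c39 LD3_c59) Lrfl Lrfl
theorem f727181 : Led Lsl_ff (LP (LK LD1_c5 LD2_c27 LD3_c12)) = v14900 :=
  Lgr Lrot19 (Lpr_dt (f8954 IH) (Lpr_ft (f638293 IH) (Lpr_dt (f727177 IH) (Lpn v14900))))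
theorem f727184 : Led Lsl_ft (LP (LK LD1_c5 LD2_c27 LD3_c12)) = v14900 :=
  Lgr Lrot48 (Lpr_ff (f727181 IH) (Lpn v14900))
theorem f727211 : Led Lsl_af (LP (LK LD1_c5 LD2_c27 LD3_c12)) = v14904 :=
  Lgr Lrot45 (Lpr_ft (f727184 IH) (Lpe (f727178 IH) (Lpr_ft (f727210 IH) (Lpn v14904))))
theorem f727214 : Led Lsl_gt v14902 = (LP (LK LD1_c5 LD2_c27 LD3_c12)) :=
  Lgr Lrot46 (Lpe (f727204 IH) (Lpr_ft (f727210 IH) (Lpe (f727211 IH) (Lpn (LP (LK LD1_c5 LD2_c27 LD3_c12))))))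
theorem f8897 : Led Lsl_ct (LP (LK LD1_c2 LD2_c39 LD3_c59)) = (LP (LK LD1_c5 LD2_c27 LD3_c11)) :=
  Lre_c IH (LK LD1_c2 LD2_c39 LD3_c59) (LK LD1_c5 LD2_c27 LD3_c11) Lrfl Lrfl
theorem f727215 : Led Lsl_dt (LP (LK LD1_c10 LD2_c45 LD3_c32)) = (LP (LK LD1_c5 LD2_c27 LD3_c11)) :=
  Lre_d IH (LK LD1_c10 LD2_c45 LD3_c32) (LK LD1_c5 LD2_c27 LD3_c11) Lrfl Lrfl
theorem f727216 : Led Lsl_gt (LP (LK LD1_c19 LD2_c27 LD3_c11)) = (LP (LK LD1_c10 LD2_c45 LD3_c32)) :=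
  Lre_g IH (LK LD1_c19 LD2_c27 LD3_c11) (LK LD1_c10 LD2_c45 LD3_c32) Lrfl Lrfl
theorem f302955 : Led Lsl_gt (LP (LK LD1_c10 LD2_c17 LD3_c7)) = (LP (LK LD1_c10 LD2_c43 LD3_c15)) :=
  Lgr Lrot46 (Lpe (f184907 IH) (Lpr_ft (K18.f302949 IH) (Lpr_at (f195737 IH) (Lpn (LP (LK LD1_c10 LD2_c43 LD3_c15))))))
theorem f184920 : Led Lsl_ct (LP (LK LD1_c18 LD2_c41 LD3_c60)) = (LP (LK LD1_c10 LD2_c17 LD3_c7)) :=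
  Lre_c IH (LK LD1_c18 LD2_c41 LD3_c60) (LK LD1_c10 LD2_c17 LD3_c7) Lrfl Lrfl
theorem f184908 : Led Lsl_ct (LP (LK LD1_c10 LD2_c17 LD3_c7)) = (LP (LK LD1_c18 LD2_c41 LD3_c60)) :=
  Lre_c IH (LK LD1_c10 LD2_c17 LD3_c7) (LK LD1_c18 LD2_c41 LD3_c60) Lrfl Lrfl
theorem f184909 : Led Lsl_gt (LP (LK LD1_c6 LD2_c5 LD3_c38)) = (LP (LK LD1_c2 LD2_c58 LD3_c54)) :=
  Lre_g IH (LK LD1_c6 LD2_c5 LD3_c38) (LK LD1_c2 LD2_c58 LD3_c54) Lrfl Lrfl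
theorem f184910 : Led Lsl_bt (LP (LK LD1_c11 LD2_c54 LD3_c49)) = (LP (LK LD1_c6 LD2_c5 LD3_c38)) :=
  Lre_b IH (LK LD1_c11 LD2_c54 LD3_c49) (LK LD1_c6 LD2_c5 LD3_c38) Lrfl Lrfl
theorem f184911 : Led Lsl_ct (LP (LK LD1_c11 LD2_c54 LD3_c49)) = (LP (LK LD1_c20 LD2_c59 LD3_c29)) :=
  Lre_c IH (LK LD1_c11 LD2_c54 LD3_c49) (LK LD1_c20 LD2_c59 LD3_c29) Lrfl Lrfl
theorem f184912 : Led Lsl_gt (LP (LK LD1_c18 LD2_c41 LD3_c60)) = (LP (LK LD1_c20 LD2_c59 LD3_c29)) :=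
  Lgr Lrot149 (Lpe (f184908 IH) (Lpe (f184907 IH) (Lpe (K18.f184906 IH) (Lpr_ct (K10.f184905 IH) (Lpr_gf (K10.f184894 IH) (Lpe (K10.f181176 IH) (Lpr_bt (K67.f181199 IH) (Lpe (f184909 IH) (Lpe (f184910 IH) (Lpr_ct (f184911 IH) (Lpn (LP (LK LD1_c20 LD2_c59 LD3_c29)))))))))))))
theorem f924504 : Led Lsl_df (LP (LK LD1_c19 LD2_c27 LD3_c11)) = (LP (LK LD1_c20 LD2_c59 LD3_c29)) :=
  Lgr Lrot153 (Lpr_gt (f727216 IH) (Lpr_dt (f727215 IH) (Lpe (f8897 IH) (Lpe (f8954 IH) (Lpe (f727214 IH) (Lpr_df (f924316 IH) (Lpe (f302955 IH) (Lpe (f184920 IH) (Lpr_gt (f184912 IH) (Lpn (LP (LK LD1_c20 LD2_c59 LD3_c29))))))))))))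
theorem f924505 : Led Lsl_dt (LP (LK LD1_c20 LD2_c59 LD3_c29)) = (LP (LK LD1_c19 LD2_c27 LD3_c11)) :=
  Leop (Lpr_df (f924504 IH) (Lpn (LP (LK LD1_c20 LD2_c59 LD3_c29))))
theorem seed_2488 : LEOK LG_d (LK LD1_c20 LD2_c59 LD3_c29) :=
  Leoe_d (LK LD1_c20 LD2_c59 LD3_c29) (f924505 IH)
theorem f184930 : Led Lsl_dt (LP (LK LD1_c18 LD2_c41 LD3_c37)) = (LP (LK LD1_c10 LD2_c16 LD3_c50)) :=
  Lre_d IH (LK LD1_c18 LD2_c41 LD3_c37) (LK LD1_c10 LD2_c16 LD3_c50) Lrfl Lrfl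
theorem f723150 : Led Lsl_ff (LP (LK LD1_c10 LD2_c43 LD3_c15)) = v14549 :=
  Lgr Lrot30 (Lpr_at (f195729 IH) (Lpe (K18.f302953 IH) (Lpr_at (f723146 IH) (Lpn v14549))))
theorem f924503 : Led Lsl_ft v14902 = v14366 :=
  Lgr Lrot54 (Lpr_df (f924316 IH) (Lpr_ff (f723150 IH) (Lpe (f723154 IH) (Lpn v14366))))
def v14903 : LQ := Led Lsl_gf (LP (LK LD1_c5 LD2_c27 LD3_c7))
theorem f727206 : Led Lsl_gf (LP (LK LD1_c5 LD2_c27 LD3_c7)) = v14903 :=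
  Lrfl
theorem f727207 : Led Lsl_gt (LP (LK LD1_c5 LD2_c27 LD3_c12)) = v14903 :=
  Lgr Lrot5 (Lpr_ft (f727184 IH) (Lpe (f727178 IH) (Lpr_gf (f727206 IH) (Lpn v14903))))
theorem f924517 : v14903 = K53.v14352 :=
  (Llr Lrot46 (Lpe (f727207 IH) (Lpe (f727214 IH) (Lpr_ft (f924503 IH) (Lpe (f722215 IH) (Lpn K53.v14352)))))).symm
theorem f8946 : Led Lsl_dt (LP (LK LD1_c2 LD2_c39 LD3_c59)) = (LP (LK LD1_c5 LD2_c27 LD3_c12)) :=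
  Lre_d IH (LK LD1_c2 LD2_c39 LD3_c59) (LK LD1_c5 LD2_c27 LD3_c12) Lrfl Lrfl
theorem f8896 : Led Lsl_gt (LP (LK LD1_c5 LD2_c27 LD3_c3)) = (LP (LK LD1_c2 LD2_c39 LD3_c59)) :=
  Lre_g IH (LK LD1_c5 LD2_c27 LD3_c3) (LK LD1_c2 LD2_c39 LD3_c59) Lrfl Lrfl
theorem f8948 : Led Lsl_ct (LP (LK LD1_c10 LD2_c34 LD3_c32)) = (LP (LK LD1_c5 LD2_c27 LD3_c3)) :=
  Lre_c IH (LK LD1_c10 LD2_c34 LD3_c32) (LK LD1_c5 LD2_c27 LD3_c3) Lrfl Lrfl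
theorem f195363 : Led Lsl_gt (LP (LK LD1_c10 LD2_c34 LD3_c32)) = (LP (LK LD1_c5 LD2_c22 LD3_c5)) :=
  Lre_g IH (LK LD1_c10 LD2_c34 LD3_c32) (LK LD1_c5 LD2_c22 LD3_c5) Lrfl Lrfl
theorem f195364 : Led Lsl_dt (LP (LK LD1_c5 LD2_c22 LD3_c5)) = (LP (LK LD1_c10 LD2_c34 LD3_c40)) :=
  Lre_d IH (LK LD1_c5 LD2_c22 LD3_c5) (LK LD1_c10 LD2_c34 LD3_c40) Lrfl Lrfl
theorem f924518 : Led Lsl_gf (LP (LK LD1_c18 LD2_c41 LD3_c37)) = (LP (LK LD1_c10 LD2_c34 LD3_c40)) :=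
  Lgr Lrot143 (Lpr_dt (f184930 IH) (Lpe (K18.f184931 IH) (Lpr_df (f722113 IH) (Lpq (f924517 IH) (Lpe (f727207 IH) (Lpe (f8946 IH) (Lpe (f8896 IH) (Lpe (f8948 IH) (Lpr_gt (f195363 IH) (Lpr_dt (f195364 IH) (Lpn (LP (LK LD1_c10 LD2_c34 LD3_c40)))))))))))))
theorem f924519 : Led Lsl_gt (LP (LK LD1_c10 LD2_c34 LD3_c40)) = (LP (LK LD1_c18 LD2_c41 LD3_c37)) :=
  Leop (Lpr_gf (f924518 IH) (Lpn (LP (LK LD1_c10 LD2_c34 LD3_c40))))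
theorem seed_2489 : LEOK LG_g (LK LD1_c10 LD2_c34 LD3_c40) :=
  Leoe_g (LK LD1_c10 LD2_c34 LD3_c40) (f924519 IH)
def v14362 : LQ := Led Lsl_et (LP (LK LD1_c5 LD2_c7 LD3_c16))
theorem f722194 : Led Lsl_et (LP (LK LD1_c5 LD2_c7 LD3_c16)) = v14362 :=
  Lrfl
theorem f722197 : Led Lsl_cf K53.v14352 = v14362 :=
  Lgr Lrot39 (Lpe (K53.f722114 IH) (Lpr_ct (K53.f308441 IH) (Lpr_et (f722194 IH) (Lpn v14362))))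
theorem f722066 : Led Lsl_ef (LP (LK LD1_c5 LD2_c14 LD3_c12)) = K64.v14346 :=
  Lgr Lrot20 (Lpr_at (K40.f308438 IH) (Lpr_et (K56.f387102 IH) (Lpr_at (K64.f722065 IH) (Lpn K64.v14346))))
theorem f722196 : Led Lsl_bf K64.v14346 = v14362 :=
  Lgr Lrot96 (Lpe (f722066 IH) (Lpe (K53.f308439 IH) (Lpr_et (f722194 IH) (Lpn v14362))))
def v14576 : LQ := Led Lsl_ct (LP (LK LD1_c5 LD2_c14 LD3_c14))
theorem f723829 : Led Lsl_ct (LP (LK LD1_c5 LD2_c14 LD3_c14)) = v14576 :=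
  Lrfl
theorem f563789 : Led Lsl_bt (LP (LK LD1_c5 LD2_c14 LD3_c14)) = (LP (LK LD1_c10 LD2_c18 LD3_c16)) :=
  Lre_b IH (LK LD1_c5 LD2_c14 LD3_c14) (LK LD1_c10 LD2_c18 LD3_c16) Lrfl Lrfl
theorem f597866 : Led Lsl_df (LP (LK LD1_c10 LD2_c18 LD3_c16)) = (LP (LK LD1_c8 LD2_c12 LD3_c26)) :=
  Lgr Lrot78 (Lpr_ft (K50.f597862 IH) (Lpr_dt (K43.f541680 IH) (Lpe (K43.f574867 IH) (Lpn (LP (LK LD1_c8 LD2_c12 LD3_c26))))))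
theorem f168204 : Led Lsl_ct (LP (LK LD1_c8 LD2_c12 LD3_c10)) = (LP (LK LD1_c4 LD2_c5 LD3_c43)) :=
  Lre_c IH (LK LD1_c8 LD2_c12 LD3_c10) (LK LD1_c4 LD2_c5 LD3_c43) Lrfl Lrfl
theorem f594659 : Led Lsl_ct (LP (LK LD1_c9 LD2_c47 LD3_c30)) = (LP (LK LD1_c15 LD2_c26 LD3_c14)) :=
  Lgr Lrot59 (Lpr_cf (K45.f594655 IH) (Lpn (LP (LK LD1_c15 LD2_c26 LD3_c14))))
theorem f598182 : Led Lsl_gt (LP (LK LD1_c10 LD2_c18 LD3_c16)) = (LP (LK LD1_c9 LD2_c47 LD3_c30)) :=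
  Lgr Lrot9 (Lpr_df (f597866 IH) (Lpr_gt (K68.f598174 IH) (Lpr_ct (K8.f36548 IH) (Lpr_gt (K42.f545110 IH) (Lpr_ct (K30.f197344 IH) (Lpe (K18.f56547 IH) (Lpe (f168204 IH) (Lpe (K45.f168207 IH) (Lpe (f594659 IH) (Lpn (LP (LK LD1_c9 LD2_c47 LD3_c30))))))))))))
theorem f723833 : Led Lsl_gt K64.v14346 = v14576 :=
  Lgr Lrot65 (Lpe (K64.f722059 IH) (Lpr_bt (K40.f168208 IH) (Lpe (K9.f168201 IH) (Lpe (K18.f168203 IH) (Lpr_ct (K38.f168206 IH) (Lpe (K45.f168207 IH) (Lpe (f594659 IH) (Lpe (f598182 IH) (Lpe (f563789 IH) (Lpr_ct (f723829 IH) (Lpn v14576)))))))))))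
theorem f723831 : Led Lsl_cf (LP (LK LD1_c5 LD2_c14 LD3_c14)) = v14576 :=
  Lgr Lrot11 (Lpr_ct (f723829 IH) (Lpn v14576))
theorem f553511 : Led Lsl_et (LP (LK LD1_c9 LD2_c7 LD3_c38)) = (LP (LK LD1_c4 LD2_c35 LD3_c34)) :=
  Lre_e IH (LK LD1_c9 LD2_c7 LD3_c38) (LK LD1_c4 LD2_c35 LD3_c34) Lrfl Lrfl
theorem f562708 : Led Lsl_ft (LP (LK LD1_c16 LD2_c59 LD3_c50)) = (LP (LK LD1_c9 LD2_c7 LD3_c38)) :=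
  Lre_f IH (LK LD1_c16 LD2_c59 LD3_c50) (LK LD1_c9 LD2_c7 LD3_c38) Lrfl Lrfl
theorem f699334 : Led Lsl_et (LP (LK LD1_c18 LD2_c15 LD3_c11)) = (LP (LK LD1_c16 LD2_c59 LD3_c50)) :=
  Lgr Lrot69 (Lpr_ff (K53.f699326 IH) (Lpe (K53.f542411 IH) (Lpr_ff (K40.f562704 IH) (Lpe (f553511 IH) (Lpe (f562708 IH) (Lpn (LP (LK LD1_c16 LD2_c59 LD3_c50))))))))
theorem f198795 : Led Lsl_bt (LP (LK LD1_c2 LD2_c30 LD3_c37)) = (LP (LK LD1_c5 LD2_c6 LD3_c39)) :=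
  Lre_b IH (LK LD1_c2 LD2_c30 LD3_c37) (LK LD1_c5 LD2_c6 LD3_c39) Lrfl Lrfl
theorem f616512 : Led Lsl_bf (LP (LK LD1_c2 LD2_c33 LD3_c38)) = (LP (LK LD1_c4 LD2_c35 LD3_c34)) :=
  Lgr Lrot81 (Lpr_at (K64.f302585 IH) (Lpr_bt (f198795 IH) (Lpe (K36.f539649 IH) (Lpe (K40.f427788 IH) (Lpr_at (K40.f562738 IH) (Lpn (LP (LK LD1_c4 LD2_c35 LD3_c34))))))))
theorem f616514 : Led Lsl_bt (LP (LK LD1_c5 LD2_c13 LD3_c33)) = (LP (LK LD1_c9 LD2_c7 LD3_c38)) :=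
  Lgr Lrot119 (Lpe (K50.f186366 IH) (Lpr_bf (f616512 IH) (Lpe (f553511 IH) (Lpn (LP (LK LD1_c9 LD2_c7 LD3_c38))))))
theorem f616520 : Led Lsl_ft (LP (LK LD1_c9 LD2_c7 LD3_c38)) = (LP (LK LD1_c16 LD2_c59 LD3_c50)) :=
  Lre_f IH (LK LD1_c9 LD2_c7 LD3_c38) (LK LD1_c16 LD2_c59 LD3_c50) Lrfl Lrfl
theorem f616521 : Led Lsl_bf (LP (LK LD1_c10 LD2_c17 LD3_c23)) = (LP (LK LD1_c16 LD2_c59 LD3_c50)) :=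
  Lgr Lrot61 (Lpr_ft (K50.f186371 IH) (Lpr_bt (f616514 IH) (Lpr_ft (f616520 IH) (Lpn (LP (LK LD1_c16 LD2_c59 LD3_c50))))))
theorem f699370 : Led Lsl_bf (LP (LK LD1_c18 LD2_c15 LD3_c11)) = (LP (LK LD1_c10 LD2_c17 LD3_c53)) :=
  Lgr Lrot96 (Lpr_et (f699334 IH) (Lpe (f616521 IH) (Lpr_et (K64.f302591 IH) (Lpn (LP (LK LD1_c10 LD2_c17 LD3_c53))))))
theorem f387275 : Led Lsl_af (LP (LK LD1_c9 LD2_c48 LD3_c1)) = (LP (LK LD1_c5 LD2_c7 LD3_c5)) :=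
  Lgr Lrot0 (Lpr_at (K55.f387273 IH) (Lpn (LP (LK LD1_c5 LD2_c7 LD3_c5))))
theorem f405204 : Led Lsl_af (LP (LK LD1_c10 LD2_c17 LD3_c53)) = (LP (LK LD1_c10 LD2_c4 LD3_c43)) :=
  Lgr Lrot0 (Lpr_at (K40.f405199 IH) (Lpn (LP (LK LD1_c10 LD2_c4 LD3_c43))))
theorem f699378 : Led Lsl_bt (LP (LK LD1_c9 LD2_c48 LD3_c1)) = (LP (LK LD1_c10 LD2_c4 LD3_c43)) :=
  Lgr Lrot62 (Lpr_af (f387275 IH) (Lpe (K64.f165693 IH) (Lpe (K53.f165735 IH) (Lpr_bf (f699370 IH) (Lpr_af (f405204 IH) (Lpn (LP (LK LD1_c10 LD2_c4 LD3_c43))))))))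
theorem f8949 : Led Lsl_ct (LP (LK LD1_c10 LD2_c45 LD3_c34)) = (LP (LK LD1_c5 LD2_c27 LD3_c12)) :=
  Lre_c IH (LK LD1_c10 LD2_c45 LD3_c34) (LK LD1_c5 LD2_c27 LD3_c12) Lrfl Lrfl
theorem f924530 : Led Lsl_bf (LP (LK LD1_c10 LD2_c17 LD3_c52)) = (LP (LK LD1_c10 LD2_c45 LD3_c34)) :=
  Lgr Lrot34 (Lpr_gf (K53.f405216 IH) (Lpe (f699378 IH) (Lpr_ct (K53.f387072 IH) (Lpr_gf (K40.f387282 IH) (Lpr_cf (f723831 IH) (Lpe (f723833 IH) (Lpr_bf (f722196 IH) (Lpe (f722197 IH) (Lpq (f924517 IH) (Lpe (f727207 IH) (Lpe (f8949 IH) (Lpn (LP (LK LD1_c10 LD2_c45 LD3_c34))))))))))))))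
theorem f924531 : Led Lsl_bt (LP (LK LD1_c10 LD2_c45 LD3_c34)) = (LP (LK LD1_c10 LD2_c17 LD3_c52)) :=
  Leop (Lpr_bf (f924530 IH) (Lpn (LP (LK LD1_c10 LD2_c45 LD3_c34))))
theorem seed_2490 : LEOK LG_b (LK LD1_c10 LD2_c45 LD3_c34) :=
  Leoe_b (LK LD1_c10 LD2_c45 LD3_c34) (f924531 IH)
theorem f308610 : Led Lsl_et (LP (LK LD1_c5 LD2_c7 LD3_c23)) = (LP (LK LD1_c2 LD2_c30 LD3_c60)) :=
  Lre_e IH (LK LD1_c5 LD2_c7 LD3_c23) (LK LD1_c2 LD2_c30 LD3_c60) Lrfl Lrfl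
theorem f722216 : Led Lsl_cf (LP (LK LD1_c5 LD2_c7 LD3_c23)) = v14366 :=
  Lgr Lrot39 (Lpr_et (f308610 IH) (Lpr_ct (K43.f194055 IH) (Lpr_et (f722214 IH) (Lpn v14366))))
def v14369 : LQ := Led Lsl_ft (LP (LK LD1_c5 LD2_c7 LD3_c23))
theorem f722222 : Led Lsl_ft (LP (LK LD1_c5 LD2_c7 LD3_c23)) = v14369 :=
  Lrfl
theorem f924515 : Led Lsl_cf v14902 = v14369 :=
  Lgr Lrot108 (Lpr_ft (f924503 IH) (Lpe (f722216 IH) (Lpr_ft (f722222 IH) (Lpn v14369))))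
theorem f727185 : Led Lsl_ct (LP (LK LD1_c10 LD2_c45 LD3_c25)) = (LP (LK LD1_c5 LD2_c27 LD3_c7)) :=
  Lre_c IH (LK LD1_c10 LD2_c45 LD3_c25) (LK LD1_c5 LD2_c27 LD3_c7) Lrfl Lrfl
theorem f301830 : Led Lsl_bt (LP (LK LD1_c2 LD2_c31 LD3_c0)) = (LP (LK LD1_c5 LD2_c7 LD3_c23)) :=
  Lre_b IH (LK LD1_c2 LD2_c31 LD3_c0) (LK LD1_c5 LD2_c7 LD3_c23) Lrfl Lrfl
theorem f722223 : Led Lsl_bf (LP (LK LD1_c5 LD2_c7 LD3_c29)) = v14369 :=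
  Lgr Lrot61 (Lpr_ft (K18.f301807 IH) (Lpr_bt (f301830 IH) (Lpr_ft (f722222 IH) (Lpn v14369))))
theorem f406574 : Led Lsl_gf (LP (LK LD1_c5 LD2_c14 LD3_c19)) = (LP (LK LD1_c5 LD2_c7 LD3_c29)) :=
  Lgr Lrot47 (Lpr_gt (K48.f193930 IH) (Lpr_af (K53.f301827 IH) (Lpe (K18.f301807 IH) (Lpn (LP (LK LD1_c5 LD2_c7 LD3_c29))))))
def v14581 : LQ := Led Lsl_ct (LP (LK LD1_c5 LD2_c14 LD3_c19))
theorem f723873 : Led Lsl_ct (LP (LK LD1_c5 LD2_c14 LD3_c19)) = v14581 :=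
  Lrfl
def v16856 : LQ := Led Lsl_bt (LP (LK LD1_c6 LD2_c7 LD3_c51))
theorem f752033 : Led Lsl_bt (LP (LK LD1_c6 LD2_c7 LD3_c51)) = v16856 :=
  Lrfl
theorem f182027 : Led Lsl_ct (LP (LK LD1_c3 LD2_c0 LD3_c7)) = (LP (LK LD1_c6 LD2_c7 LD3_c51)) :=
  Lre_c IH (LK LD1_c3 LD2_c0 LD3_c7) (LK LD1_c6 LD2_c7 LD3_c51) Lrfl Lrfl
theorem f186661 : Led Lsl_bt (LP (LK LD1_c2 LD2_c33 LD3_c60)) = (LP (LK LD1_c1 LD2_c13 LD3_c59)) :=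
  Lre_b IH (LK LD1_c2 LD2_c33 LD3_c60) (LK LD1_c1 LD2_c13 LD3_c59) Lrfl Lrfl
theorem f752036 : Led Lsl_gf K55.v14345 = v16856 :=
  Lgr Lrot85 (Lpe (K55.f722054 IH) (Lpr_ct (K64.f186666 IH) (Lpr_bt (f186661 IH) (Lpe (K10.f186658 IH) (Lpr_dt (K9.f164161 IH) (Lpr_ct (K9.f164162 IH) (Lpr_bt (K10.f164158 IH) (Lpe (K35.f198456 IH) (Lpr_dt (K19.f37323 IH) (Lpe (K10.f182017 IH) (Lpr_bt (K9.f45993 IH) (Lpr_gt (K0.f20566 IH) (Lpr_dt (K9.f6884 IH) (Lpr_ct (K9.f9074 IH) (Lpr_bt (K40.f55967 IH) (Lpr_gt (K32.f55980 IH) (Lpr_dt (K36.f55981 IH) (Lpr_ct (f182027 IH) (Lpr_bt (f752033 IH) (Lpn v16856))))))))))))))))))))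
theorem f722055 : Led Lsl_ef (LP (LK LD1_c5 LD2_c6 LD3_c58)) = K55.v14345 :=
  Lgr Lrot88 (Lpr_et (K55.f722051 IH) (Lpn K55.v14345))
theorem f722056 : Led Lsl_at K55.v4576 = K55.v14345 :=
  Lgr Lrot80 (Lpe (K55.f636216 IH) (Lpe (K38.f308079 IH) (Lpr_ef (f722055 IH) (Lpn K55.v14345))))
theorem f752037 : Led Lsl_gt K55.v14351 = v16856 :=
  Lgr Lrot5 (Lpe (K55.f722107 IH) (Lpr_at (f722056 IH) (Lpr_gf (f752036 IH) (Lpn v16856))))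
def v14250 : LQ := Led Lsl_ft (LP (LK LD1_c5 LD2_c4 LD3_c9))
theorem f721185 : Led Lsl_ft (LP (LK LD1_c5 LD2_c4 LD3_c9)) = v14250 :=
  Lrfl
theorem f721187 : Led Lsl_ff (LP (LK LD1_c5 LD2_c4 LD3_c9)) = v14250 :=
  Lgr Lrot3 (Lpr_ft (f721185 IH) (Lpn v14250))
theorem f721188 : Led Lsl_ct (LP (LK LD1_c5 LD2_c7 LD3_c1)) = v14250 :=
  Lgr Lrot40 (Lpe (K55.f166265 IH) (Lpe (K55.f166257 IH) (Lpr_ff (f721187 IH) (Lpn v14250))))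
def v14482 : LQ := Led Lsl_ft (LP (LK LD1_c5 LD2_c11 LD3_c16))
theorem f722768 : Led Lsl_ft (LP (LK LD1_c5 LD2_c11 LD3_c16)) = v14482 :=
  Lrfl
def v14480 : LQ := Led Lsl_gt (LP (LK LD1_c5 LD2_c11 LD3_c16))
theorem f722765 : Led Lsl_gt (LP (LK LD1_c5 LD2_c11 LD3_c16)) = v14480 :=
  Lrfl
theorem f722769 : Led Lsl_af v14250 = v14482 :=
  Lgr Lrot45 (Lpe (f721187 IH) (Lpr_at (K15.f267920 IH) (Lpr_ft (f722768 IH) (Lpn v14482))))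
theorem f722773 : Led Lsl_gt v14480 = v14250 :=
  Lgr Lrot46 (Lpe (f722765 IH) (Lpr_ft (f722768 IH) (Lpe (f722769 IH) (Lpn v14250))))
theorem f501330 : Led Lsl_ct (LP (LK LD1_c6 LD2_c7 LD3_c51)) = (LP (LK LD1_c3 LD2_c0 LD3_c7)) :=
  Lre_c IH (LK LD1_c6 LD2_c7 LD3_c51) (LK LD1_c3 LD2_c0 LD3_c7) Lrfl Lrfl
theorem f752043 : v14480 = K55.v14579 :=
  (Llr Lrot129 (Lpr_gt (f722773 IH) (Lpe (f721188 IH) (Lpr_bt (K55.f722103 IH) (Lpr_gt (f752037 IH) (Lpe (f752033 IH) (Lpr_ct (f501330 IH) (Lpr_gt (K56.f539707 IH) (Lpe (K53.f699268 IH) (Lpr_bt (K64.f301829 IH) (Lpr_gt (K51.f169131 IH) (Lpr_ct (K55.f723861 IH) (Lpn K55.v14579))))))))))))).symm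
theorem f723876 : Led Lsl_ff K55.v14370 = v14581 :=
  Lgr Lrot23 (Lpe (K55.f722230 IH) (Lpr_ft (K51.f633755 IH) (Lpr_ct (f723873 IH) (Lpn v14581))))
theorem f723863 : Led Lsl_cf (LP (LK LD1_c5 LD2_c14 LD3_c18)) = K55.v14579 :=
  Lgr Lrot11 (Lpr_ct (K55.f723861 IH) (Lpn K55.v14579))
theorem f633766 : Led Lsl_af (LP (LK LD1_c5 LD2_c7 LD3_c26)) = (LP (LK LD1_c5 LD2_c14 LD3_c18)) :=
  Lgr Lrot0 (Lpr_at (K51.f633764 IH) (Lpn (LP (LK LD1_c5 LD2_c14 LD3_c18))))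
theorem f723866 : Led Lsl_at K55.v14370 = K55.v14579 :=
  Lgr Lrot107 (Lpe (K55.f722229 IH) (Lpr_af (f633766 IH) (Lpr_cf (f723863 IH) (Lpn K55.v14579))))
theorem f723877 : Led Lsl_at K55.v14372 = v14581 :=
  Lgr Lrot66 (Lpr_ff (K55.f723864 IH) (Lpe (f723866 IH) (Lpr_ff (f723876 IH) (Lpn v14581))))
def v14481 : LQ := Led Lsl_gf (LP (LK LD1_c5 LD2_c11 LD3_c16))
theorem f722766 : Led Lsl_gf (LP (LK LD1_c5 LD2_c11 LD3_c16)) = v14481 :=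
  Lrfl
theorem f722767 : Led Lsl_gt v14250 = v14481 :=
  Lgr Lrot5 (Lpe (f721187 IH) (Lpr_at (K15.f267920 IH) (Lpr_gf (f722766 IH) (Lpn v14481))))
theorem f752044 : v14581 = v14481 :=
  (Llr Lrot26 (Lpe (f723877 IH) (Lpr_ff (K55.f723864 IH) (Lpq (f752043 IH) (Lpr_gt (f722773 IH) (Lpr_gt (f722767 IH) (Lpn v14481))))))).symm
theorem f186541 : Led Lsl_ct (LP (LK LD1_c2 LD2_c33 LD3_c49)) = (LP (LK LD1_c5 LD2_c11 LD3_c16)) :=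
  Lgr Lrot15 (Lpe (K19.f185102 IH) (Lpr_cf (K10.f186510 IH) (Lpe (K15.f186540 IH) (Lpn (LP (LK LD1_c5 LD2_c11 LD3_c16))))))
theorem f186553 : Led Lsl_bt (LP (LK LD1_c2 LD2_c33 LD3_c49)) = (LP (LK LD1_c5 LD2_c13 LD3_c47)) :=
  Lre_b IH (LK LD1_c2 LD2_c33 LD3_c49) (LK LD1_c5 LD2_c13 LD3_c47) Lrfl Lrfl
theorem f186554 : Led Lsl_gt (LP (LK LD1_c5 LD2_c13 LD3_c47)) = (LP (LK LD1_c10 LD2_c17 LD3_c44)) :=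
  Lre_g IH (LK LD1_c5 LD2_c13 LD3_c47) (LK LD1_c10 LD2_c17 LD3_c44) Lrfl Lrfl
theorem f924547 : Led Lsl_bt (LP (LK LD1_c10 LD2_c45 LD3_c25)) = (LP (LK LD1_c10 LD2_c17 LD3_c44)) :=
  Lgr Lrot92 (Lpr_ct (f727185 IH) (Lpr_gt (f727204 IH) (Lpr_cf (f924515 IH) (Lpe (f722223 IH) (Lpe (f406574 IH) (Lpr_ct (f723873 IH) (Lpqs (f752044 IH) (Lpe (f722766 IH) (Lpe (f186541 IH) (Lpr_bt (f186553 IH) (Lpr_gt (f186554 IH) (Lpn (LP (LK LD1_c10 LD2_c17 LD3_c44))))))))))))))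
theorem f924548 : Led Lsl_bt (LP (LK LD1_c10 LD2_c45 LD3_c25)) = (LP (LK LD1_c10 LD2_c17 LD3_c44)) :=
  Leop (Lpe (f924547 IH) (Lpn (LP (LK LD1_c10 LD2_c45 LD3_c25))))
theorem seed_2491 : LEOK LG_b (LK LD1_c10 LD2_c45 LD3_c25) :=
  Leoe_b (LK LD1_c10 LD2_c45 LD3_c25) (f924548 IH)
theorem f699505 : Led Lsl_bt (LP (LK LD1_c8 LD2_c12 LD3_c9)) = (LP (LK LD1_c15 LD2_c26 LD3_c12)) :=
  Lre_b IH (LK LD1_c8 LD2_c12 LD3_c9) (LK LD1_c15 LD2_c26 LD3_c12) Lrfl Lrfl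
theorem f924132 : Led Lsl_et (LP (LK LD1_c15 LD2_c26 LD3_c12)) = (LP (LK LD1_c10 LD2_c18 LD3_c45)) :=
  Lgr Lrot74 (Lpe (f699505 IH) (Lpr_ef (K71.f880923 IH) (Lpr_bf (K71.f924131 IH) (Lpn (LP (LK LD1_c10 LD2_c18 LD3_c45))))))
theorem f639956 : Led Lsl_bt (LP (LK LD1_c12 LD2_c55 LD3_c58)) = (LP (LK LD1_c6 LD2_c46 LD3_c5)) :=
  Lre_b IH (LK LD1_c12 LD2_c55 LD3_c58) (LK LD1_c6 LD2_c46 LD3_c5) Lrfl Lrfl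
theorem f699506 : Led Lsl_dt (LP (LK LD1_c15 LD2_c26 LD3_c12)) = (LP (LK LD1_c12 LD2_c55 LD3_c58)) :=
  Lgr Lrot79 (Lpe (f699505 IH) (Lpr_df (K50.f699503 IH) (Lpe (f639956 IH) (Lpn (LP (LK LD1_c12 LD2_c55 LD3_c58))))))
theorem f76044 : Led Lsl_et (LP (LK LD1_c11 LD2_c59 LD3_c5)) = (LP (LK LD1_c6 LD2_c8 LD3_c49)) :=
  Lre_e IH (LK LD1_c11 LD2_c59 LD3_c5) (LK LD1_c6 LD2_c8 LD3_c49) Lrfl Lrfl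
theorem f76249 : Led Lsl_ct (LP (LK LD1_c6 LD2_c8 LD3_c49)) = (LP (LK LD1_c11 LD2_c59 LD3_c4)) :=
  Lre_c IH (LK LD1_c6 LD2_c8 LD3_c49) (LK LD1_c11 LD2_c59 LD3_c4) Lrfl Lrfl
theorem f899654 : Led Lsl_et (LP (LK LD1_c11 LD2_c59 LD3_c4)) = (LP (LK LD1_c18 LD2_c22 LD3_c40)) :=
  Lgr Lrot158 (Lpe (f76249 IH) (Lpe (f76044 IH) (Lpr_cf (K69.f899650 IH) (Lpn (LP (LK LD1_c18 LD2_c22 LD3_c40))))))
theorem f924578 : Led Lsl_gf (LP (LK LD1_c12 LD2_c55 LD3_c58)) = (LP (LK LD1_c17 LD2_c32 LD3_c49)) :=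
  Lgr Lrot145 (Lpe (f699506 IH) (Lpr_et (f924132 IH) (Lpr_gt (K32.f387064 IH) (Lpr_dt (K55.f748657 IH) (Lpe (K55.f748660 IH) (Lpe (K55.f722145 IH) (Lpr_et (K55.f165736 IH) (Lpr_gt (K69.f699252 IH) (Lpe (f899654 IH) (Lpr_dt (K70.f912811 IH) (Lpn (LP (LK LD1_c17 LD2_c32 LD3_c49)))))))))))))
theorem f924579 : Led Lsl_gt (LP (LK LD1_c17 LD2_c32 LD3_c49)) = (LP (LK LD1_c12 LD2_c55 LD3_c58)) :=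
  Leop (Lpr_gf (f924578 IH) (Lpn (LP (LK LD1_c17 LD2_c32 LD3_c49))))
theorem seed_2492 : LEOK LG_g (LK LD1_c17 LD2_c32 LD3_c49) :=
  Leoe_g (LK LD1_c17 LD2_c32 LD3_c49) (f924579 IH)
def v16881 : LQ := Led Lsl_ft (LP (LK LD1_c6 LD2_c8 LD3_c17))
theorem f752300 : Led Lsl_ft (LP (LK LD1_c6 LD2_c8 LD3_c17)) = v16881 :=
  Lrfl
theorem f752302 : Led Lsl_ff (LP (LK LD1_c6 LD2_c8 LD3_c17)) = v16881 :=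
  Lgr Lrot3 (Lpr_ft (f752300 IH) (Lpn v16881))
theorem f880902 : Led Lsl_af (LP (LK LD1_c8 LD2_c12 LD3_c8)) = K71.v35880 :=
  Lgr Lrot0 (Lpr_at (K71.f880901 IH) (Lpn K71.v35880))
theorem f880915 : Led Lsl_af (LP (LK LD1_c8 LD2_c12 LD3_c9)) = K71.v35883 :=
  Lgr Lrot45 (Lpr_ft (K71.f880905 IH) (Lpe (f880902 IH) (Lpr_ft (K71.f880914 IH) (Lpn K71.v35883))))
def v16878 : LQ := Led Lsl_at (LP (LK LD1_c6 LD2_c8 LD3_c17))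
theorem f752292 : Led Lsl_at (LP (LK LD1_c6 LD2_c8 LD3_c17)) = v16878 :=
  Lrfl
theorem f752293 : Led Lsl_af (LP (LK LD1_c6 LD2_c8 LD3_c17)) = v16878 :=
  Lgr Lrot0 (Lpr_at (f752292 IH) (Lpn v16878))
theorem f752294 : Led Lsl_ft (LP (LK LD1_c6 LD2_c8 LD3_c18)) = v16878 :=
  Lgr Lrot2 (Lpr_gt (K56.f176040 IH) (Lpr_gt (K49.f176041 IH) (Lpr_af (f752293 IH) (Lpn v16878))))
theorem f752295 : Led Lsl_ff (LP (LK LD1_c6 LD2_c8 LD3_c18)) = v16878 :=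
  Lgr Lrot3 (Lpr_ft (f752294 IH) (Lpn v16878))
theorem f752303 : Led Lsl_at (LP (LK LD1_c6 LD2_c8 LD3_c18)) = v16881 :=
  Lgr Lrot66 (Lpr_ff (f752295 IH) (Lpe (f752292 IH) (Lpr_ff (f752302 IH) (Lpn v16881))))
theorem f903850 : (LP (LK LD1_c8 LD2_c12 LD3_c9)) = v16881 :=
  Lefun (Lecon (Lfl_af (f880915 IH)) (K71.f903849 IH)) (f752303 IH)
theorem f175353 : Led Lsl_bt (LP (LK LD1_c15 LD2_c26 LD3_c12)) = (LP (LK LD1_c8 LD2_c12 LD3_c9)) :=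
  Lre_b IH (LK LD1_c15 LD2_c26 LD3_c12) (LK LD1_c8 LD2_c12 LD3_c9) Lrfl Lrfl
def v16879 : LQ := Led Lsl_bt (LP (LK LD1_c6 LD2_c8 LD3_c17))
theorem f752296 : Led Lsl_bt (LP (LK LD1_c6 LD2_c8 LD3_c17)) = v16879 :=
  Lrfl
theorem f903866 : Led Lsl_ff (LP (LK LD1_c15 LD2_c26 LD3_c12)) = v16879 :=
  Lgr Lrot25 (Lpr_bt (f175353 IH) (Lpqs (f903850 IH) (Lpe (f752302 IH) (Lpr_bt (f752296 IH) (Lpn v16879)))))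
theorem f299942 : Led Lsl_ft (LP (LK LD1_c10 LD2_c18 LD3_c48)) = (LP (LK LD1_c18 LD2_c43 LD3_c43)) :=
  Lre_f IH (LK LD1_c10 LD2_c18 LD3_c48) (LK LD1_c18 LD2_c43 LD3_c43) Lrfl Lrfl
theorem f748525 : Led Lsl_at (LP (LK LD1_c18 LD2_c43 LD3_c43)) = (LP (LK LD1_c11 LD2_c58 LD3_c5)) :=
  Lgr Lrot26 (Lpe (f299942 IH) (Lpr_gt (K55.f748521 IH) (Lpr_gt (K70.f539658 IH) (Lpn (LP (LK LD1_c11 LD2_c58 LD3_c5))))))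
theorem f748529 : Led Lsl_et (LP (LK LD1_c11 LD2_c58 LD3_c5)) = (LP (LK LD1_c21 LD2_c3 LD3_c8)) :=
  Lre_e IH (LK LD1_c11 LD2_c58 LD3_c5) (LK LD1_c21 LD2_c3 LD3_c8) Lrfl Lrfl
theorem f748530 : Led Lsl_af (LP (LK LD1_c18 LD2_c25 LD3_c54)) = (LP (LK LD1_c21 LD2_c3 LD3_c8)) :=
  Lgr Lrot50 (Lpr_et (K41.f299948 IH) (Lpr_at (f748525 IH) (Lpr_et (f748529 IH) (Lpn (LP (LK LD1_c21 LD2_c3 LD3_c8))))))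
theorem f177277 : Led Lsl_ft (LP (LK LD1_c18 LD2_c25 LD3_c54)) = (LP (LK LD1_c10 LD2_c6 LD3_c45)) :=
  Lre_f IH (LK LD1_c18 LD2_c25 LD3_c54) (LK LD1_c10 LD2_c6 LD3_c45) Lrfl Lrfl
theorem f386907 : Led Lsl_af (LP (LK LD1_c17 LD2_c58 LD3_c17)) = (LP (LK LD1_c10 LD2_c6 LD3_c45)) :=
  Lgr Lrot0 (Lpr_at (K36.f386905 IH) (Lpn (LP (LK LD1_c10 LD2_c6 LD3_c45))))
theorem f748536 : Led Lsl_ft (LP (LK LD1_c17 LD2_c58 LD3_c17)) = (LP (LK LD1_c21 LD2_c3 LD3_c8)) :=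
  Lgr Lrot101 (Lpr_af (f386907 IH) (Lpe (f177277 IH) (Lpr_af (f748530 IH) (Lpn (LP (LK LD1_c21 LD2_c3 LD3_c8))))))
theorem f539659 : Led Lsl_et (LP (LK LD1_c21 LD2_c3 LD3_c8)) = (LP (LK LD1_c11 LD2_c58 LD3_c5)) :=
  Lre_e IH (LK LD1_c21 LD2_c3 LD3_c8) (LK LD1_c11 LD2_c58 LD3_c5) Lrfl Lrfl
theorem f924580 : v16879 = (LP (LK LD1_c11 LD2_c58 LD3_c5)) :=
  (Llr Lrot72 (Lpe (f903866 IH) (Lpr_et (f924132 IH) (Lpe (K32.f386883 IH) (Lpr_et (K36.f386904 IH) (Lpr_ft (f748536 IH) (Lpr_et (f539659 IH) (Lpn (LP (LK LD1_c11 LD2_c58 LD3_c5)))))))))).symm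
theorem f903869 : Led Lsl_ft (LP (LK LD1_c15 LD2_c26 LD3_c12)) = v16879 :=
  Lgr Lrot48 (Lpr_ff (f903866 IH) (Lpn v16879))
theorem f748527 : Led Lsl_af (LP (LK LD1_c18 LD2_c43 LD3_c43)) = (LP (LK LD1_c11 LD2_c58 LD3_c5)) :=
  Lgr Lrot0 (Lpr_at (f748525 IH) (Lpn (LP (LK LD1_c11 LD2_c58 LD3_c5))))
theorem f748555 : Led Lsl_ct (LP (LK LD1_c6 LD2_c8 LD3_c7)) = (LP (LK LD1_c11 LD2_c40 LD3_c26)) :=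
  Lgr Lrot40 (Lpr_ff (K56.f720257 IH) (Lpe (K70.f75944 IH) (Lpr_ff (K56.f748551 IH) (Lpn (LP (LK LD1_c11 LD2_c40 LD3_c26))))))
theorem f180724 : Led Lsl_bt (LP (LK LD1_c10 LD2_c18 LD3_c50)) = (LP (LK LD1_c5 LD2_c14 LD3_c42)) :=
  Lre_b IH (LK LD1_c10 LD2_c18 LD3_c50) (LK LD1_c5 LD2_c14 LD3_c42) Lrfl Lrfl
theorem f615385 : Led Lsl_df (LP (LK LD1_c10 LD2_c18 LD3_c50)) = (LP (LK LD1_c11 LD2_c31 LD3_c17)) :=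
  Lgr Lrot12 (Lpr_bt (f180724 IH) (Lpr_dt (K41.f615381 IH) (Lpr_bt (K64.f74746 IH) (Lpn (LP (LK LD1_c11 LD2_c31 LD3_c17))))))
theorem f748633 : Led Lsl_gf (LP (LK LD1_c18 LD2_c43 LD3_c43)) = (LP (LK LD1_c11 LD2_c40 LD3_c26)) :=
  Lgr Lrot104 (Lpr_ct (K41.f180725 IH) (Lpr_df (f615385 IH) (Lpr_cf (K64.f74747 IH) (Lpe (K55.f720175 IH) (Lpe (K55.f58499 IH) (Lpe (K2.f58498 IH) (Lpe (K55.f58614 IH) (Lpr_gt (K53.f76014 IH) (Lpr_ct (f748555 IH) (Lpn (LP (LK LD1_c11 LD2_c40 LD3_c26))))))))))))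
theorem f924591 : Led Lsl_gt (LP (LK LD1_c15 LD2_c26 LD3_c12)) = (LP (LK LD1_c11 LD2_c40 LD3_c26)) :=
  Lgr Lrot5 (Lpr_ft (f903869 IH) (Lpqs (f924580 IH) (Lpe (f748527 IH) (Lpr_gf (f748633 IH) (Lpn (LP (LK LD1_c11 LD2_c40 LD3_c26)))))))
def v35884 : LQ := Led Lsl_ct (LP (LK LD1_c8 LD2_c12 LD3_c9))
theorem f880920 : Led Lsl_ct (LP (LK LD1_c8 LD2_c12 LD3_c9)) = v35884 :=
  Lrfl
def v16882 : LQ := Led Lsl_ct (LP (LK LD1_c6 LD2_c8 LD3_c18))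
theorem f752304 : Led Lsl_ct (LP (LK LD1_c6 LD2_c8 LD3_c18)) = v16882 :=
  Lrfl
theorem f752305 : Led Lsl_cf (LP (LK LD1_c6 LD2_c8 LD3_c18)) = v16882 :=
  Lgr Lrot11 (Lpr_ct (f752304 IH) (Lpn v16882))
theorem f903884 : Led Lsl_ff v16882 = K71.v35881 :=
  Lgr Lrot23 (Lpe (f752305 IH) (Lpq (K71.f903849 IH) (Lpe (K71.f880917 IH) (Lpr_ct (K71.f880907 IH) (Lpn K71.v35881)))))
def v16880 : LQ := Led Lsl_ct (LP (LK LD1_c6 LD2_c8 LD3_c17))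
theorem f752298 : Led Lsl_ct (LP (LK LD1_c6 LD2_c8 LD3_c17)) = v16880 :=
  Lrfl
theorem f752299 : Led Lsl_cf (LP (LK LD1_c6 LD2_c8 LD3_c17)) = v16880 :=
  Lgr Lrot11 (Lpr_ct (f752298 IH) (Lpn v16880))
theorem f903853 : (LP (LK LD1_c8 LD2_c12 LD3_c8)) = v16878 :=
  Lefun (Lecon (Lfl_ff (K71.f880917 IH)) (K71.f903849 IH)) (f752294 IH)
theorem f903880 : Led Lsl_af v16880 = K71.v35881 :=
  Lgr Lrot68 (Lpe (f752299 IH) (Lpr_at (f752292 IH) (Lpq (f903853 IH) (Lpr_ct (K71.f880907 IH) (Lpn K71.v35881)))))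
theorem f903881 : Led Lsl_at v16880 = K71.v35881 :=
  Lgr Lrot100 (Lpr_af (f903880 IH) (Lpn K71.v35881))
theorem f880921 : Led Lsl_cf (LP (LK LD1_c8 LD2_c12 LD3_c9)) = v35884 :=
  Lgr Lrot11 (Lpr_ct (f880920 IH) (Lpn v35884))
theorem f903867 : Led Lsl_ff v35884 = v16880 :=
  Lgr Lrot23 (Lpe (f880921 IH) (Lpqs (f903850 IH) (Lpe (f752302 IH) (Lpr_ct (f752298 IH) (Lpn v16880)))))
theorem f903868 : Led Lsl_ft v35884 = v16880 :=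
  Lgr Lrot48 (Lpr_ff (f903867 IH) (Lpn v16880))
theorem f903885 : Led Lsl_at v16882 = v35884 :=
  Lgr Lrot66 (Lpr_ff (f903884 IH) (Lpe (f903881 IH) (Lpe (f903868 IH) (Lpn v35884))))
def v24258 : LQ := Led Lsl_gf K71.v4643
theorem f823119 : Led Lsl_gf K71.v4643 = v24258 :=
  Lrfl
theorem f823120 : Led Lsl_gt K71.v16833 = v24258 :=
  Lgr Lrot5 (Lpe (K71.f751915 IH) (Lpe (K71.f646225 IH) (Lpr_gf (f823119 IH) (Lpn v24258))))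
theorem f924058 : v35884 = v24258 :=
  (Llr Lrot26 (Lpe (f903885 IH) (Lpr_ff (f903884 IH) (Lpqs (K71.f924057 IH) (Lpr_gt (K71.f823130 IH) (Lpr_gt (f823120 IH) (Lpn v24258))))))).symm
theorem f164567 : Led Lsl_bt (LP (LK LD1_c10 LD2_c7 LD3_c15)) = (LP (LK LD1_c5 LD2_c8 LD3_c26)) :=
  Lre_b IH (LK LD1_c10 LD2_c7 LD3_c15) (LK LD1_c5 LD2_c8 LD3_c26) Lrfl Lrfl
theorem f748546 : Led Lsl_cf (LP (LK LD1_c6 LD2_c8 LD3_c7)) = (LP (LK LD1_c11 LD2_c40 LD3_c26)) :=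
  Lgr Lrot108 (Lpr_ft (K53.f720255 IH) (Lpr_ct (K54.f75941 IH) (Lpr_ft (K56.f748523 IH) (Lpn (LP (LK LD1_c11 LD2_c40 LD3_c26))))))
theorem f924595 : Led Lsl_ct (LP (LK LD1_c10 LD2_c7 LD3_c15)) = (LP (LK LD1_c11 LD2_c40 LD3_c61)) :=
  Lgr Lrot63 (Lpr_bt (f164567 IH) (Lpr_gt (K70.f164565 IH) (Lpr_bf (K71.f599795 IH) (Lpr_ct (K71.f751912 IH) (Lpr_gt (f823120 IH) (Lpq (f924058 IH) (Lpe (f880920 IH) (Lpr_bt (f699505 IH) (Lpr_gt (f924591 IH) (Lpe (f748546 IH) (Lpe (K53.f76015 IH) (Lpn (LP (LK LD1_c11 LD2_c40 LD3_c61))))))))))))))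
theorem f180716 : Led Lsl_bt (LP (LK LD1_c2 LD2_c34 LD3_c9)) = (LP (LK LD1_c5 LD2_c14 LD3_c39)) :=
  Lre_b IH (LK LD1_c2 LD2_c34 LD3_c9) (LK LD1_c5 LD2_c14 LD3_c39) Lrfl Lrfl
theorem f615393 : Led Lsl_dt (LP (LK LD1_c5 LD2_c14 LD3_c39)) = (LP (LK LD1_c5 LD2_c52 LD3_c11)) :=
  Lgr Lrot79 (Lpe (f180716 IH) (Lpr_df (K41.f615389 IH) (Lpe (K55.f74731 IH) (Lpn (LP (LK LD1_c5 LD2_c52 LD3_c11))))))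
def v14601 : LQ := Led Lsl_gt (LP (LK LD1_c5 LD2_c14 LD3_c39))
theorem f723967 : Led Lsl_gt (LP (LK LD1_c5 LD2_c14 LD3_c39)) = v14601 :=
  Lrfl
theorem f876808 : Led Lsl_dt (LP (LK LD1_c10 LD2_c18 LD3_c49)) = K67.v35677 :=
  Lgr Lrot42 (Lpr_df (K67.f876807 IH) (Lpn K67.v35677))
theorem f876802 : Led Lsl_cf K56.v16393 = K67.v35677 :=
  Lgr Lrot39 (Lpe (K56.f749119 IH) (Lpr_ct (K53.f415612 IH) (Lpr_et (K67.f876799 IH) (Lpn K67.v35677))))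
theorem f749123 : Led Lsl_ct (LP (LK LD1_c11 LD2_c58 LD3_c55)) = (LP (LK LD1_c21 LD2_c3 LD3_c42)) :=
  Lre_c IH (LK LD1_c11 LD2_c58 LD3_c55) (LK LD1_c21 LD2_c3 LD3_c42) Lrfl Lrfl
theorem f876825 : Led Lsl_dt (LP (LK LD1_c21 LD2_c3 LD3_c42)) = (LP (LK LD1_c17 LD2_c59 LD3_c7)) :=
  Lgr Lrot42 (Lpr_df (K67.f876823 IH) (Lpn (LP (LK LD1_c17 LD2_c59 LD3_c7))))
theorem f387219 : Led Lsl_ct (LP (LK LD1_c17 LD2_c59 LD3_c7)) = (LP (LK LD1_c9 LD2_c48 LD3_c48)) :=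
  Lre_c IH (LK LD1_c17 LD2_c59 LD3_c7) (LK LD1_c9 LD2_c48 LD3_c48) Lrfl Lrfl
theorem f387205 : Led Lsl_et (LP (LK LD1_c4 LD2_c59 LD3_c9)) = (LP (LK LD1_c9 LD2_c48 LD3_c48)) :=
  Lre_e IH (LK LD1_c4 LD2_c59 LD3_c9) (LK LD1_c9 LD2_c48 LD3_c48) Lrfl Lrfl
theorem f387206 : Led Lsl_dt (LP (LK LD1_c9 LD2_c48 LD3_c48)) = (LP (LK LD1_c10 LD2_c18 LD3_c15)) :=
  Lgr Lrot77 (Lpe (f387205 IH) (Lpe (K40.f387204 IH) (Lpr_ef (K38.f387201 IH) (Lpe (K38.f308062 IH) (Lpe (K56.f387169 IH) (Lpn (LP (LK LD1_c10 LD2_c18 LD3_c15))))))))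
def v16864 : LQ := Led Lsl_et (LP (LK LD1_c6 LD2_c8 LD3_c2))
theorem f752086 : Led Lsl_et (LP (LK LD1_c6 LD2_c8 LD3_c2)) = v16864 :=
  Lrfl
theorem f752088 : Led Lsl_ef (LP (LK LD1_c6 LD2_c8 LD3_c2)) = v16864 :=
  Lgr Lrot88 (Lpr_et (f752086 IH) (Lpn v16864))
theorem f752089 : Led Lsl_ct (LP (LK LD1_c10 LD2_c18 LD3_c15)) = v16864 :=
  Lgr Lrot15 (Lpe (K56.f387160 IH) (Lpe (K56.f614309 IH) (Lpr_ef (f752088 IH) (Lpn v16864))))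
theorem f881081 : Led Lsl_af v14601 = K67.v35911 :=
  Lgr Lrot31 (Lpe (f723967 IH) (Lpe (K67.f180685 IH) (Lpr_ft (K67.f881079 IH) (Lpn K67.v35911))))
theorem f881082 : v16864 = v14601 :=
  (Llr Lrot98 (Lpe (f752089 IH) (Lpe (f387206 IH) (Lpe (f387219 IH) (Lpe (f876825 IH) (Lpe (f749123 IH) (Lpr_df (K56.f749121 IH) (Lpr_cf (f876802 IH) (Lpe (f876808 IH) (Lpr_ft (K67.f881079 IH) (Lpe (f881081 IH) (Lpn v14601)))))))))))).symm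
theorem f752087 : Led Lsl_cf (LP (LK LD1_c10 LD2_c18 LD3_c15)) = v16864 :=
  Lgr Lrot39 (Lpr_et (K56.f387169 IH) (Lpe (K56.f614306 IH) (Lpr_et (f752086 IH) (Lpn v16864))))
theorem f924607 : Led Lsl_gf (LP (LK LD1_c10 LD2_c7 LD3_c15)) = (LP (LK LD1_c10 LD2_c18 LD3_c15)) :=
  Lgr Lrot104 (Lpr_ct (f924595 IH) (Lpe (K53.f74920 IH) (Lpe (K56.f74897 IH) (Lpe (K56.f74915 IH) (Lpr_cf (K56.f752428 IH) (Lpqs (K56.f753306 IH) (Lpe (K56.f74741 IH) (Lpe (f615393 IH) (Lpr_gt (f723967 IH) (Lpq (f881082 IH) (Lpe (f752087 IH) (Lpn (LP (LK LD1_c10 LD2_c18 LD3_c15))))))))))))))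
theorem f921835 : Led Lsl_et (LP (LK LD1_c18 LD2_c26 LD3_c23)) = (LP (LK LD1_c10 LD2_c7 LD3_c15)) :=
  Lre_e IH (LK LD1_c18 LD2_c26 LD3_c23) (LK LD1_c10 LD2_c7 LD3_c15) Lrfl Lrfl
def v41071 : LQ := Led Lsl_bt (LP (LK LD1_c9 LD2_c51 LD3_c9))
theorem f921831 : Led Lsl_bt (LP (LK LD1_c9 LD2_c51 LD3_c9)) = v41071 :=
  Lrfl
theorem f414576 : Led Lsl_bt (LP (LK LD1_c18 LD2_c26 LD3_c23)) = (LP (LK LD1_c10 LD2_c7 LD3_c16)) :=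
  Lre_b IH (LK LD1_c18 LD2_c26 LD3_c23) (LK LD1_c10 LD2_c7 LD3_c16) Lrfl Lrfl
theorem f921833 : Led Lsl_df (LP (LK LD1_c18 LD2_c26 LD3_c23)) = v41071 :=
  Lgr Lrot12 (Lpr_bt (f414576 IH) (Lpe (K70.f414574 IH) (Lpr_bt (f921831 IH) (Lpn v41071))))
theorem f921834 : Led Lsl_dt (LP (LK LD1_c18 LD2_c26 LD3_c23)) = v41071 :=
  Lgr Lrot42 (Lpr_df (f921833 IH) (Lpn v41071))
theorem f598172 : Led Lsl_et (LP (LK LD1_c8 LD2_c12 LD3_c26)) = (LP (LK LD1_c12 LD2_c11 LD3_c4)) :=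
  Lgr Lrot87 (Lpr_ef (K68.f598164 IH) (Lpn (LP (LK LD1_c12 LD2_c11 LD3_c4))))
theorem f597868 : Led Lsl_et (LP (LK LD1_c18 LD2_c43 LD3_c18)) = (LP (LK LD1_c10 LD2_c18 LD3_c16)) :=
  Lre_e IH (LK LD1_c18 LD2_c43 LD3_c18) (LK LD1_c10 LD2_c18 LD3_c16) Lrfl Lrfl
theorem f175638 : Led Lsl_et (LP (LK LD1_c9 LD2_c50 LD3_c43)) = (LP (LK LD1_c18 LD2_c1 LD3_c46)) :=
  Lre_e IH (LK LD1_c9 LD2_c50 LD3_c43) (LK LD1_c18 LD2_c1 LD3_c46) Lrfl Lrfl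
theorem f598248 : Led Lsl_df (LP (LK LD1_c18 LD2_c43 LD3_c18)) = (LP (LK LD1_c18 LD2_c1 LD3_c46)) :=
  Lgr Lrot70 (Lpr_et (f597868 IH) (Lpr_dt (K68.f597857 IH) (Lpr_et (f598172 IH) (Lpe (K43.f578855 IH) (Lpr_et (f175638 IH) (Lpn (LP (LK LD1_c18 LD2_c1 LD3_c46))))))))
theorem f597472 : Led Lsl_bt (LP (LK LD1_c18 LD2_c43 LD3_c18)) = (LP (LK LD1_c10 LD2_c18 LD3_c17)) :=
  Lre_b IH (LK LD1_c18 LD2_c43 LD3_c18) (LK LD1_c10 LD2_c18 LD3_c17) Lrfl Lrfl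
theorem f175631 : Led Lsl_bt (LP (LK LD1_c9 LD2_c50 LD3_c45)) = (LP (LK LD1_c18 LD2_c1 LD3_c46)) :=
  Lre_b IH (LK LD1_c9 LD2_c50 LD3_c45) (LK LD1_c18 LD2_c1 LD3_c46) Lrfl Lrfl
theorem f598250 : Led Lsl_dt (LP (LK LD1_c10 LD2_c18 LD3_c17)) = (LP (LK LD1_c9 LD2_c50 LD3_c45)) :=
  Lgr Lrot79 (Lpe (f597472 IH) (Lpr_df (f598248 IH) (Lpe (f175631 IH) (Lpn (LP (LK LD1_c9 LD2_c50 LD3_c45))))))
theorem f175639 : Led Lsl_gt (LP (LK LD1_c18 LD2_c1 LD3_c51)) = (LP (LK LD1_c9 LD2_c50 LD3_c45)) :=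
  Lre_g IH (LK LD1_c18 LD2_c1 LD3_c51) (LK LD1_c9 LD2_c50 LD3_c45) Lrfl Lrfl
theorem f924615 : v41071 = (LP (LK LD1_c18 LD2_c1 LD3_c51)) :=
  (Llr Lrot136 (Lpe (f921834 IH) (Lpr_et (f921835 IH) (Lpr_gf (f924607 IH) (Lpe (K56.f387160 IH) (Lpr_dt (K38.f308062 IH) (Lpe (K32.f387153 IH) (Lpe (K39.f387077 IH) (Lpr_gf (K40.f387282 IH) (Lpe (K50.f387284 IH) (Lpr_dt (f598250 IH) (Lpe (f175639 IH) (Lpn (LP (LK LD1_c18 LD2_c1 LD3_c51))))))))))))))).symm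
theorem f285342 : Led Lsl_ct (LP (LK LD1_c11 LD2_c51 LD3_c2)) = (LP (LK LD1_c20 LD2_c53 LD3_c19)) :=
  Lre_c IH (LK LD1_c11 LD2_c51 LD3_c2) (LK LD1_c20 LD2_c53 LD3_c19) Lrfl Lrfl
theorem f175619 : Led Lsl_bt (LP (LK LD1_c18 LD2_c1 LD3_c46)) = (LP (LK LD1_c9 LD2_c50 LD3_c45)) :=
  Lre_b IH (LK LD1_c18 LD2_c1 LD3_c46) (LK LD1_c9 LD2_c50 LD3_c45) Lrfl Lrfl
theorem f175611 : Led Lsl_et (LP (LK LD1_c16 LD2_c55 LD3_c59)) = (LP (LK LD1_c26 LD2_c52 LD3_c25)) :=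
  Lre_e IH (LK LD1_c16 LD2_c55 LD3_c59) (LK LD1_c26 LD2_c52 LD3_c25) Lrfl Lrfl
theorem f175612 : Led Lsl_et (LP (LK LD1_c18 LD2_c1 LD3_c46)) = (LP (LK LD1_c9 LD2_c50 LD3_c43)) :=
  Lre_e IH (LK LD1_c18 LD2_c1 LD3_c46) (LK LD1_c9 LD2_c50 LD3_c43) Lrfl Lrfl
theorem f175613 : Led Lsl_ct (LP (LK LD1_c26 LD2_c52 LD3_c25)) = (LP (LK LD1_c18 LD2_c1 LD3_c46)) :=
  Lgr Lrot15 (Lpe (f175611 IH) (Lpr_cf (K38.f175598 IH) (Lpe (f175612 IH) (Lpn (LP (LK LD1_c18 LD2_c1 LD3_c46))))))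
theorem f175624 : Led Lsl_cf (LP (LK LD1_c26 LD2_c52 LD3_c25)) = (LP (LK LD1_c18 LD2_c1 LD3_c46)) :=
  Lgr Lrot11 (Lpr_ct (f175613 IH) (Lpn (LP (LK LD1_c18 LD2_c1 LD3_c46))))
theorem f924620 : Led Lsl_gf (LP (LK LD1_c20 LD2_c53 LD3_c19)) = (LP (LK LD1_c26 LD2_c52 LD3_c25)) :=
  Lgr Lrot126 (Lpe (f285342 IH) (Lpr_bt (K71.f285339 IH) (Lpe (K56.f285336 IH) (Lpr_ct (K71.f903795 IH) (Lpe (K71.f903797 IH) (Lpq (K71.f924014 IH) (Lpe (K71.f921837 IH) (Lpr_bt (f921831 IH) (Lpqs (f924615 IH) (Lpr_gt (f175639 IH) (Lpe (f175619 IH) (Lpe (f175624 IH) (Lpn (LP (LK LD1_c26 LD2_c52 LD3_c25)))))))))))))))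
theorem f924621 : Led Lsl_gt (LP (LK LD1_c26 LD2_c52 LD3_c25)) = (LP (LK LD1_c20 LD2_c53 LD3_c19)) :=
  Leop (Lpr_gf (f924620 IH) (Lpn (LP (LK LD1_c26 LD2_c52 LD3_c25))))
theorem seed_2493 : LEOK LG_g (LK LD1_c26 LD2_c52 LD3_c25) :=
  Leoe_g (LK LD1_c26 LD2_c52 LD3_c25) (f924621 IH)
theorem f924613 : Led Lsl_gt (LP (LK LD1_c10 LD2_c7 LD3_c15)) = (LP (LK LD1_c11 LD2_c58 LD3_c13)) :=
  Lgr Lrot46 (Lpr_gf (f924607 IH) (Lpr_ft (K67.f387187 IH) (Lpe (K67.f752105 IH) (Lpn (LP (LK LD1_c11 LD2_c58 LD3_c13))))))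
def v16348 : LQ := Led Lsl_ct (LP (LK LD1_c5 LD2_c58 LD3_c9))
theorem f748911 : Led Lsl_ct (LP (LK LD1_c5 LD2_c58 LD3_c9)) = v16348 :=
  Lrfl
theorem f74892 : Led Lsl_ct (LP (LK LD1_c6 LD2_c8 LD3_c5)) = (LP (LK LD1_c3 LD2_c0 LD3_c16)) :=
  Lre_c IH (LK LD1_c6 LD2_c8 LD3_c5) (LK LD1_c3 LD2_c0 LD3_c16) Lrfl Lrfl
theorem f748912 : Led Lsl_af (LP (LK LD1_c6 LD2_c8 LD3_c5)) = v16348 :=
  Lgr Lrot68 (Lpr_ct (f74892 IH) (Lpe (K5.f75933 IH) (Lpr_ct (f748911 IH) (Lpn v16348))))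
theorem f924622 : Led Lsl_ft (LP (LK LD1_c10 LD2_c7 LD3_c15)) = v16348 :=
  Lgr Lrot2 (Lpr_gt (f924613 IH) (Lpr_gt (K56.f646333 IH) (Lpr_af (f748912 IH) (Lpn v16348))))
theorem f722385 : Led Lsl_bt (LP (LK LD1_c5 LD2_c8 LD3_c26)) = (LP (LK LD1_c10 LD2_c7 LD3_c15)) :=
  Lre_b IH (LK LD1_c5 LD2_c8 LD3_c26) (LK LD1_c10 LD2_c7 LD3_c15) Lrfl Lrfl
theorem f924623 : Led Lsl_bf K71.v14412 = v16348 :=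
  Lgr Lrot61 (Lpe (K71.f722396 IH) (Lpr_bt (f722385 IH) (Lpr_ft (f924622 IH) (Lpn v16348))))
theorem f56284 : Led Lsl_ct (LP (LK LD1_c6 LD2_c7 LD3_c60)) = (LP (LK LD1_c3 LD2_c0 LD3_c13)) :=
  Lre_c IH (LK LD1_c6 LD2_c7 LD3_c60) (LK LD1_c3 LD2_c0 LD3_c13) Lrfl Lrfl
theorem f748914 : Led Lsl_ef (LP (LK LD1_c6 LD2_c7 LD3_c60)) = v16348 :=
  Lgr Lrot28 (Lpr_ct (f56284 IH) (Lpe (K56.f75961 IH) (Lpr_ct (f748911 IH) (Lpn v16348))))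
theorem f748916 : Led Lsl_et (LP (LK LD1_c6 LD2_c7 LD3_c60)) = v16348 :=
  Lgr Lrot87 (Lpr_ef (f748914 IH) (Lpn v16348))
def v16860 : LQ := Led Lsl_bt (LP (LK LD1_c6 LD2_c7 LD3_c60))
theorem f752067 : Led Lsl_bt (LP (LK LD1_c6 LD2_c7 LD3_c60)) = v16860 :=
  Lrfl
theorem f752068 : Led Lsl_bf (LP (LK LD1_c6 LD2_c7 LD3_c60)) = v16860 :=
  Lgr Lrot24 (Lpr_bt (f752067 IH) (Lpn v16860))
theorem f924627 : Led Lsl_et K71.v14412 = v16860 :=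
  Lgr Lrot74 (Lpr_bf (f924623 IH) (Lpe (f748916 IH) (Lpr_bf (f752068 IH) (Lpn v16860))))
theorem f924630 : Led Lsl_ef K71.v14412 = v16860 :=
  Lgr Lrot88 (Lpr_et (f924627 IH) (Lpn v16860))
def v38267 : LQ := Led Lsl_bt (LP (LK LD1_c9 LD2_c7 LD3_c44))
theorem f900347 : Led Lsl_bt (LP (LK LD1_c9 LD2_c7 LD3_c44)) = v38267 :=
  Lrfl
theorem f900349 : Led Lsl_cf v16860 = v38267 :=
  Lgr Lrot97 (Lpe (f752068 IH) (Lpr_ct (f56284 IH) (Lpe (f618437 IH) (Lpr_ct (K43.f71797 IH) (Lpr_bt (f900347 IH) (Lpn v38267))))))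
theorem f924632 : Led Lsl_et K71.v14668 = v38267 :=
  Lgr Lrot158 (Lpr_cf (K71.f924038 IH) (Lpr_ef (f924630 IH) (Lpr_cf (f900349 IH) (Lpn v38267))))
theorem f900348 : Led Lsl_bf (LP (LK LD1_c9 LD2_c7 LD3_c44)) = v38267 :=
  Lgr Lrot24 (Lpr_bt (f900347 IH) (Lpn v38267))
def v38268 : LQ := Led Lsl_et (LP (LK LD1_c9 LD2_c7 LD3_c44))
theorem f900352 : Led Lsl_et (LP (LK LD1_c9 LD2_c7 LD3_c44)) = v38268 :=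
  Lrfl
theorem f924634 : Led Lsl_bf K71.v14668 = v38268 :=
  Lgr Lrot96 (Lpr_et (f924632 IH) (Lpe (f900348 IH) (Lpr_et (f900352 IH) (Lpn v38268))))
def v14669 : LQ := Led Lsl_bt (LP (LK LD1_c5 LD2_c16 LD3_c52))
theorem f724876 : Led Lsl_bt (LP (LK LD1_c5 LD2_c16 LD3_c52)) = v14669 :=
  Lrfl
theorem f900355 : Led Lsl_ef (LP (LK LD1_c9 LD2_c7 LD3_c44)) = v38268 :=
  Lgr Lrot88 (Lpr_et (f900352 IH) (Lpn v38268))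
theorem f900356 : Led Lsl_at (LP (LK LD1_c9 LD2_c15 LD3_c10)) = v38268 :=
  Lgr Lrot80 (Lpe (K69.f590286 IH) (Lpe (K45.f547902 IH) (Lpr_ef (f900355 IH) (Lpn v38268))))
def v38742 : LQ := Led Lsl_et (LP (LK LD1_c9 LD2_c15 LD3_c8))
theorem f904234 : Led Lsl_et (LP (LK LD1_c9 LD2_c15 LD3_c8)) = v38742 :=
  Lrfl
theorem f542348 : Led Lsl_bt (LP (LK LD1_c4 LD2_c39 LD3_c49)) = (LP (LK LD1_c9 LD2_c15 LD3_c8)) :=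
  Lre_b IH (LK LD1_c4 LD2_c39 LD3_c49) (LK LD1_c9 LD2_c15 LD3_c8) Lrfl Lrfl
theorem f590313 : Led Lsl_et (LP (LK LD1_c9 LD2_c15 LD3_c10)) = (LP (LK LD1_c4 LD2_c39 LD3_c49)) :=
  Lre_e IH (LK LD1_c9 LD2_c15 LD3_c10) (LK LD1_c4 LD2_c39 LD3_c49) Lrfl Lrfl
theorem f904235 : Led Lsl_bf (LP (LK LD1_c9 LD2_c15 LD3_c10)) = v38742 :=
  Lgr Lrot96 (Lpr_et (f590313 IH) (Lpr_bt (f542348 IH) (Lpr_et (f904234 IH) (Lpn v38742))))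
theorem f924635 : Led Lsl_at v14669 = v38742 :=
  Lgr Lrot67 (Lpe (f724876 IH) (Lpr_af (K71.f724871 IH) (Lpr_bf (f924634 IH) (Lpe (f900356 IH) (Lpr_bf (f904235 IH) (Lpn v38742))))))
theorem f904237 : Led Lsl_ef (LP (LK LD1_c9 LD2_c15 LD3_c8)) = v38742 :=
  Lgr Lrot88 (Lpr_et (f904234 IH) (Lpn v38742))
theorem f603304 : Led Lsl_at (LP (LK LD1_c9 LD2_c15 LD3_c8)) = (LP (LK LD1_c17 LD2_c9 LD3_c38)) :=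
  Lre_a IH (LK LD1_c9 LD2_c15 LD3_c8) (LK LD1_c17 LD2_c9 LD3_c38) Lrfl Lrfl
theorem f924663 : Led Lsl_ef v14669 = (LP (LK LD1_c17 LD2_c9 LD3_c38)) :=
  Lgr Lrot20 (Lpr_at (f924635 IH) (Lpe (f904237 IH) (Lpr_at (f603304 IH) (Lpn (LP (LK LD1_c17 LD2_c9 LD3_c38))))))
theorem f724877 : Led Lsl_bf (LP (LK LD1_c5 LD2_c16 LD3_c52)) = v14669 :=
  Lgr Lrot24 (Lpr_bt (f724876 IH) (Lpn v14669))
theorem f165638 : Led Lsl_et (LP (LK LD1_c5 LD2_c16 LD3_c52)) = (LP (LK LD1_c10 LD2_c23 LD3_c19)) :=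
  Lre_e IH (LK LD1_c5 LD2_c16 LD3_c52) (LK LD1_c10 LD2_c23 LD3_c19) Lrfl Lrfl
theorem f924664 : Led Lsl_bt (LP (LK LD1_c10 LD2_c23 LD3_c19)) = (LP (LK LD1_c17 LD2_c9 LD3_c38)) :=
  Lgr Lrot119 (Lpe (f165638 IH) (Lpr_bf (f724877 IH) (Lpr_ef (f924663 IH) (Lpn (LP (LK LD1_c17 LD2_c9 LD3_c38))))))
theorem f924665 : Led Lsl_bt (LP (LK LD1_c10 LD2_c23 LD3_c19)) = (LP (LK LD1_c17 LD2_c9 LD3_c38)) :=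
  Leop (Lpe (f924664 IH) (Lpn (LP (LK LD1_c10 LD2_c23 LD3_c19))))
theorem seed_2494 : LEOK LG_b (LK LD1_c10 LD2_c23 LD3_c19) :=
  Leoe_b (LK LD1_c10 LD2_c23 LD3_c19) (f924665 IH)
theorem f924667 : Led Lsl_et v14669 = (LP (LK LD1_c17 LD2_c9 LD3_c38)) :=
  Lgr Lrot87 (Lpr_ef (f924663 IH) (Lpn (LP (LK LD1_c17 LD2_c9 LD3_c38))))
theorem f32629 : Led Lsl_et (LP (LK LD1_c10 LD2_c23 LD3_c19)) = (LP (LK LD1_c5 LD2_c16 LD3_c52)) :=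
  Lre_e IH (LK LD1_c10 LD2_c23 LD3_c19) (LK LD1_c5 LD2_c16 LD3_c52) Lrfl Lrfl
theorem f924669 : Led Lsl_bf (LP (LK LD1_c10 LD2_c23 LD3_c19)) = (LP (LK LD1_c17 LD2_c9 LD3_c38)) :=
  Lgr Lrot96 (Lpr_et (f32629 IH) (Lpr_bt (f724876 IH) (Lpr_et (f924667 IH) (Lpn (LP (LK LD1_c17 LD2_c9 LD3_c38))))))
theorem f924673 : Led Lsl_at (LP (LK LD1_c10 LD2_c23 LD3_c19)) = v38267 :=
  Lgr Lrot67 (Lpr_bf (f924669 IH) (Lpe (f603304 IH) (Lpe (f542348 IH) (Lpe (K45.f547902 IH) (Lpr_bf (f900348 IH) (Lpn v38267))))))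
theorem f724865 : Led Lsl_ft (LP (LK LD1_c18 LD2_c50 LD3_c55)) = (LP (LK LD1_c10 LD2_c23 LD3_c19)) :=
  Lre_f IH (LK LD1_c18 LD2_c50 LD3_c55) (LK LD1_c10 LD2_c23 LD3_c19) Lrfl Lrfl
theorem f900350 : Led Lsl_ct v16860 = v38267 :=
  Lgr Lrot59 (Lpr_cf (f900349 IH) (Lpn v38267))
theorem f161213 : Led Lsl_ct (LP (LK LD1_c9 LD2_c47 LD3_c23)) = (LP (LK LD1_c4 LD2_c58 LD3_c20)) :=
  Lre_c IH (LK LD1_c9 LD2_c47 LD3_c23) (LK LD1_c4 LD2_c58 LD3_c20) Lrfl Lrfl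
theorem f53226 : Led Lsl_ct (LP (LK LD1_c5 LD2_c8 LD3_c6)) = (LP (LK LD1_c2 LD2_c31 LD3_c17)) :=
  Lre_c IH (LK LD1_c5 LD2_c8 LD3_c6) (LK LD1_c2 LD2_c31 LD3_c17) Lrfl Lrfl
theorem f177211 : Led Lsl_bf (LP (LK LD1_c9 LD2_c57 LD3_c8)) = (LP (LK LD1_c5 LD2_c8 LD3_c6)) :=
  Lgr Lrot90 (Lpr_ct (K53.f177210 IH) (Lpr_bt (K53.f177209 IH) (Lpr_ct (K10.f177206 IH) (Lpr_bt (K32.f53221 IH) (Lpr_ct (K32.f53235 IH) (Lpn (LP (LK LD1_c5 LD2_c8 LD3_c6))))))))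
theorem f723206 : Led Lsl_bf (LP (LK LD1_c18 LD2_c12 LD3_c52)) = (LP (LK LD1_c10 LD2_c17 LD3_c18)) :=
  Lgr Lrot96 (Lpr_et (K53.f723200 IH) (Lpr_bt (K53.f302719 IH) (Lpr_et (K56.f186179 IH) (Lpn (LP (LK LD1_c10 LD2_c17 LD3_c18))))))
theorem f900351 : Led Lsl_gt (LP (LK LD1_c18 LD2_c11 LD3_c2)) = v38267 :=
  Lgr Lrot65 (Lpr_cf (K56.f723190 IH) (Lpe (f723206 IH) (Lpe (K53.f177229 IH) (Lpr_bf (f177211 IH) (Lpr_ct (f53226 IH) (Lpr_gf (K32.f427524 IH) (Lpe (f161213 IH) (Lpr_gf (f618441 IH) (Lpr_bf (f752068 IH) (Lpr_ct (f900350 IH) (Lpn v38267)))))))))))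
theorem f924690 : Led Lsl_gt (LP (LK LD1_c18 LD2_c50 LD3_c55)) = (LP (LK LD1_c18 LD2_c11 LD3_c2)) :=
  Lgr Lrot5 (Lpr_ft (f724865 IH) (Lpr_at (f924673 IH) (Lpe (f900351 IH) (Lpn (LP (LK LD1_c18 LD2_c11 LD3_c2))))))
theorem f924691 : Led Lsl_gt (LP (LK LD1_c18 LD2_c50 LD3_c55)) = (LP (LK LD1_c18 LD2_c11 LD3_c2)) :=
  Leop (Lpe (f924690 IH) (Lpn (LP (LK LD1_c18 LD2_c50 LD3_c55))))
theorem seed_2495 : LEOK LG_g (LK LD1_c18 LD2_c50 LD3_c55) :=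
  Leoe_g (LK LD1_c18 LD2_c50 LD3_c55) (f924691 IH)
theorem f924606 : Led Lsl_ff (LP (LK LD1_c10 LD2_c7 LD3_c15)) = v16348 :=
  Lgr Lrot23 (Lpr_ct (f924595 IH) (Lpr_ft (K53.f75963 IH) (Lpr_ct (f748911 IH) (Lpn v16348))))
theorem f444460 : Led Lsl_at (LP (LK LD1_c6 LD2_c7 LD3_c60)) = (LP (LK LD1_c3 LD2_c0 LD3_c15)) :=
  Lre_a IH (LK LD1_c6 LD2_c7 LD3_c60) (LK LD1_c3 LD2_c0 LD3_c15) Lrfl Lrfl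
theorem f748915 : Led Lsl_at (LP (LK LD1_c6 LD2_c8 LD3_c5)) = v16348 :=
  Lgr Lrot80 (Lpe (K56.f646306 IH) (Lpe (f444460 IH) (Lpr_ef (f748914 IH) (Lpn v16348))))
theorem f748917 : Led Lsl_ft (LP (LK LD1_c11 LD2_c58 LD3_c15)) = (LP (LK LD1_c6 LD2_c8 LD3_c5)) :=
  Lre_f IH (LK LD1_c11 LD2_c58 LD3_c15) (LK LD1_c6 LD2_c8 LD3_c5) Lrfl Lrfl
theorem f924692 : Led Lsl_at (LP (LK LD1_c10 LD2_c7 LD3_c15)) = (LP (LK LD1_c11 LD2_c58 LD3_c15)) :=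
  Lgr Lrot66 (Lpr_ff (f924606 IH) (Lpe (f748915 IH) (Lpe (f748917 IH) (Lpn (LP (LK LD1_c11 LD2_c58 LD3_c15))))))
theorem f446632 : Led Lsl_et (LP (LK LD1_c11 LD2_c58 LD3_c15)) = (LP (LK LD1_c21 LD2_c3 LD3_c15)) :=
  Lre_e IH (LK LD1_c11 LD2_c58 LD3_c15) (LK LD1_c21 LD2_c3 LD3_c15) Lrfl Lrfl
theorem f924694 : Led Lsl_af (LP (LK LD1_c18 LD2_c26 LD3_c23)) = (LP (LK LD1_c21 LD2_c3 LD3_c15)) :=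
  Lgr Lrot50 (Lpr_et (f921835 IH) (Lpr_at (f924692 IH) (Lpr_et (f446632 IH) (Lpn (LP (LK LD1_c21 LD2_c3 LD3_c15))))))
theorem f387189 : Led Lsl_dt (LP (LK LD1_c4 LD2_c58 LD3_c50)) = (LP (LK LD1_c2 LD2_c27 LD3_c15)) :=
  Lre_d IH (LK LD1_c4 LD2_c58 LD3_c50) (LK LD1_c2 LD2_c27 LD3_c15) Lrfl Lrfl
theorem f579433 : Led Lsl_gt (LP (LK LD1_c27 LD2_c41 LD3_c17)) = (LP (LK LD1_c17 LD2_c56 LD3_c23)) :=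
  Lre_g IH (LK LD1_c27 LD2_c41 LD3_c17) (LK LD1_c17 LD2_c56 LD3_c23) Lrfl Lrfl
theorem f412175 : Led Lsl_et (LP (LK LD1_c21 LD2_c3 LD3_c15)) = (LP (LK LD1_c11 LD2_c58 LD3_c15)) :=
  Lre_e IH (LK LD1_c21 LD2_c3 LD3_c15) (LK LD1_c11 LD2_c58 LD3_c15) Lrfl Lrfl
theorem f881091 : Led Lsl_df (LP (LK LD1_c27 LD2_c41 LD3_c17)) = (LP (LK LD1_c21 LD2_c3 LD3_c15)) :=
  Lgr Lrot170 (Lpr_gt (f579433 IH) (Lpr_df (K50.f558487 IH) (Lpr_et (K50.f387289 IH) (Lpr_gt (K40.f165699 IH) (Lpr_dt (K39.f68561 IH) (Lpr_gt (K32.f427803 IH) (Lpe (f387189 IH) (Lpr_et (K56.f387190 IH) (Lpr_gt (K67.f881086 IH) (Lpe (f412175 IH) (Lpn (LP (LK LD1_c21 LD2_c3 LD3_c15)))))))))))))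
theorem f881093 : Led Lsl_dt (LP (LK LD1_c27 LD2_c41 LD3_c17)) = (LP (LK LD1_c21 LD2_c3 LD3_c15)) :=
  Lgr Lrot42 (Lpr_df (f881091 IH) (Lpn (LP (LK LD1_c21 LD2_c3 LD3_c15))))
theorem f924700 : Led Lsl_at v41071 = (LP (LK LD1_c27 LD2_c41 LD3_c17)) :=
  Lgr Lrot51 (Lpe (f921834 IH) (Lpr_af (f924694 IH) (Lpe (f881093 IH) (Lpn (LP (LK LD1_c27 LD2_c41 LD3_c17))))))
theorem f924702 : Led Lsl_af v41071 = (LP (LK LD1_c27 LD2_c41 LD3_c17)) :=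
  Lgr Lrot0 (Lpr_at (f924700 IH) (Lpn (LP (LK LD1_c27 LD2_c41 LD3_c17))))
theorem f579434 : Led Lsl_ft (LP (LK LD1_c27 LD2_c41 LD3_c18)) = (LP (LK LD1_c17 LD2_c56 LD3_c23)) :=
  Lre_f IH (LK LD1_c27 LD2_c41 LD3_c18) (LK LD1_c17 LD2_c56 LD3_c23) Lrfl Lrfl
theorem f597462 : Led Lsl_gf (LP (LK LD1_c18 LD2_c1 LD3_c51)) = (LP (LK LD1_c27 LD2_c41 LD3_c18)) :=
  Lgr Lrot47 (Lpr_gt (f175639 IH) (Lpr_af (K50.f597453 IH) (Lpe (f579434 IH) (Lpn (LP (LK LD1_c27 LD2_c41 LD3_c18))))))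
theorem f597459 : Led Lsl_ft (LP (LK LD1_c9 LD2_c50 LD3_c45)) = (LP (LK LD1_c18 LD2_c1 LD3_c52)) :=
  Lre_f IH (LK LD1_c9 LD2_c50 LD3_c45) (LK LD1_c18 LD2_c1 LD3_c52) Lrfl Lrfl
theorem f597460 : Led Lsl_at (LP (LK LD1_c18 LD2_c1 LD3_c52)) = (LP (LK LD1_c27 LD2_c41 LD3_c18)) :=
  Lgr Lrot66 (Lpe (f597459 IH) (Lpr_af (K50.f597453 IH) (Lpe (f579434 IH) (Lpn (LP (LK LD1_c27 LD2_c41 LD3_c18))))))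
theorem f175628 : Led Lsl_gt (LP (LK LD1_c9 LD2_c50 LD3_c45)) = (LP (LK LD1_c18 LD2_c1 LD3_c50)) :=
  Lre_g IH (LK LD1_c9 LD2_c50 LD3_c45) (LK LD1_c18 LD2_c1 LD3_c50) Lrfl Lrfl
theorem f597466 : Led Lsl_gt (LP (LK LD1_c18 LD2_c1 LD3_c50)) = (LP (LK LD1_c27 LD2_c41 LD3_c18)) :=
  Lgr Lrot46 (Lpe (f175628 IH) (Lpr_ft (f597459 IH) (Lpr_at (f597460 IH) (Lpn (LP (LK LD1_c27 LD2_c41 LD3_c18))))))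
theorem f924704 : Led Lsl_ft (LP (LK LD1_c18 LD2_c1 LD3_c50)) = (LP (LK LD1_c27 LD2_c41 LD3_c17)) :=
  Lgr Lrot2 (Lpr_gt (f597466 IH) (Lpe (f597462 IH) (Lpq (f924615 IH) (Lpr_af (f924702 IH) (Lpn (LP (LK LD1_c27 LD2_c41 LD3_c17)))))))
theorem f412165 : Led Lsl_ft (LP (LK LD1_c21 LD2_c3 LD3_c15)) = (LP (LK LD1_c11 LD2_c58 LD3_c16)) :=
  Lre_f IH (LK LD1_c21 LD2_c3 LD3_c15) (LK LD1_c11 LD2_c58 LD3_c16) Lrfl Lrfl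
theorem f924706 : Led Lsl_df (LP (LK LD1_c18 LD2_c1 LD3_c50)) = (LP (LK LD1_c11 LD2_c58 LD3_c16)) :=
  Lgr Lrot78 (Lpr_ft (f924704 IH) (Lpr_dt (f881093 IH) (Lpr_ft (f412165 IH) (Lpn (LP (LK LD1_c11 LD2_c58 LD3_c16))))))
theorem f598254 : Led Lsl_df (LP (LK LD1_c18 LD2_c43 LD3_c19)) = (LP (LK LD1_c18 LD2_c1 LD3_c52)) :=
  Lgr Lrot78 (Lpr_ft (K66.f597475 IH) (Lpr_dt (f598250 IH) (Lpr_ft (f597459 IH) (Lpn (LP (LK LD1_c18 LD2_c1 LD3_c52))))))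
theorem f598258 : Led Lsl_dt (LP (LK LD1_c18 LD2_c43 LD3_c19)) = (LP (LK LD1_c18 LD2_c1 LD3_c52)) :=
  Lgr Lrot42 (Lpr_df (f598254 IH) (Lpn (LP (LK LD1_c18 LD2_c1 LD3_c52))))
theorem f598260 : Led Lsl_df (LP (LK LD1_c18 LD2_c23 LD3_c28)) = (LP (LK LD1_c27 LD2_c41 LD3_c18)) :=
  Lgr Lrot18 (Lpe (K66.f597476 IH) (Lpr_dt (f598258 IH) (Lpr_at (f597460 IH) (Lpn (LP (LK LD1_c27 LD2_c41 LD3_c18))))))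
theorem f921587 : Led Lsl_cf (LP (LK LD1_c18 LD2_c43 LD3_c19)) = (LP (LK LD1_c18 LD2_c1 LD3_c36)) :=
  Lgr Lrot11 (Lpr_ct (K71.f921583 IH) (Lpn (LP (LK LD1_c18 LD2_c1 LD3_c36))))
theorem f597480 : Led Lsl_at (LP (LK LD1_c18 LD2_c43 LD3_c19)) = (LP (LK LD1_c18 LD2_c23 LD3_c28)) :=
  Lgr Lrot100 (Lpr_af (K66.f597476 IH) (Lpn (LP (LK LD1_c18 LD2_c23 LD3_c28))))
theorem f843699 : Led Lsl_at (LP (LK LD1_c20 LD2_c0 LD3_c3)) = (LP (LK LD1_c18 LD2_c1 LD3_c36)) :=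
  Lgr Lrot80 (Lpe (K53.f719137 IH) (Lpr_af (K66.f843695 IH) (Lpe (K71.f383317 IH) (Lpn (LP (LK LD1_c18 LD2_c1 LD3_c36))))))
theorem f921589 : Led Lsl_ct (LP (LK LD1_c18 LD2_c23 LD3_c28)) = (LP (LK LD1_c20 LD2_c0 LD3_c3)) :=
  Lgr Lrot111 (Lpe (f597480 IH) (Lpr_cf (f921587 IH) (Lpe (f843699 IH) (Lpn (LP (LK LD1_c20 LD2_c0 LD3_c3))))))
theorem f165128 : Led Lsl_dt (LP (LK LD1_c11 LD2_c6 LD3_c40)) = (LP (LK LD1_c20 LD2_c0 LD3_c3)) :=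
  Lre_d IH (LK LD1_c11 LD2_c6 LD3_c40) (LK LD1_c20 LD2_c0 LD3_c3) Lrfl Lrfl
theorem f165113 : Led Lsl_ft (LP (LK LD1_c10 LD2_c6 LD3_c48)) = (LP (LK LD1_c5 LD2_c8 LD3_c7)) :=
  Lre_f IH (LK LD1_c10 LD2_c6 LD3_c48) (LK LD1_c5 LD2_c8 LD3_c7) Lrfl Lrfl
theorem f165114 : Led Lsl_df (LP (LK LD1_c5 LD2_c37 LD3_c32)) = (LP (LK LD1_c5 LD2_c8 LD3_c7)) :=
  Lgr Lrot78 (Lpr_ft (K41.f165112 IH) (Lpr_dt (K41.f165109 IH) (Lpr_ft (f165113 IH) (Lpn (LP (LK LD1_c5 LD2_c8 LD3_c7))))))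
theorem f53232 : Led Lsl_gt (LP (LK LD1_c10 LD2_c6 LD3_c47)) = (LP (LK LD1_c5 LD2_c8 LD3_c7)) :=
  Lre_g IH (LK LD1_c10 LD2_c6 LD3_c47) (LK LD1_c5 LD2_c8 LD3_c7) Lrfl Lrfl
theorem f165130 : Led Lsl_ct (LP (LK LD1_c10 LD2_c6 LD3_c47)) = (LP (LK LD1_c18 LD2_c25 LD3_c59)) :=
  Lre_c IH (LK LD1_c10 LD2_c6 LD3_c47) (LK LD1_c18 LD2_c25 LD3_c59) Lrfl Lrfl
theorem f924716 : Led Lsl_gt (LP (LK LD1_c18 LD2_c25 LD3_c59)) = (LP (LK LD1_c11 LD2_c58 LD3_c16)) :=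
  Lgr Lrot94 (Lpe (f165130 IH) (Lpr_gt (f53232 IH) (Lpe (f165114 IH) (Lpr_gt (K53.f165127 IH) (Lpr_dt (f165128 IH) (Lpe (f921589 IH) (Lpr_df (f598260 IH) (Lpe (f597466 IH) (Lpr_df (f924706 IH) (Lpn (LP (LK LD1_c11 LD2_c58 LD3_c16))))))))))))
theorem f924719 : Led Lsl_bt (LP (LK LD1_c10 LD2_c6 LD3_c47)) = (LP (LK LD1_c18 LD2_c25 LD3_c58)) :=
  Lre_b IH (LK LD1_c10 LD2_c6 LD3_c47) (LK LD1_c18 LD2_c25 LD3_c58) Lrfl Lrfl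
theorem f68886 : Led Lsl_bt (LP (LK LD1_c6 LD2_c8 LD3_c10)) = (LP (LK LD1_c3 LD2_c0 LD3_c28)) :=
  Lre_b IH (LK LD1_c6 LD2_c8 LD3_c10) (LK LD1_c3 LD2_c0 LD3_c28) Lrfl Lrfl
def v16904 : LQ := Led Lsl_ct (LP (LK LD1_c6 LD2_c8 LD3_c30))
theorem f752396 : Led Lsl_ct (LP (LK LD1_c6 LD2_c8 LD3_c30)) = v16904 :=
  Lrfl
def v12326 : LQ := Led Lsl_gt (LP (LK LD1_c4 LD2_c5 LD3_c33))
theorem f691487 : Led Lsl_gt (LP (LK LD1_c4 LD2_c5 LD3_c33)) = v12326 :=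
  Lrfl
theorem f752397 : Led Lsl_cf (LP (LK LD1_c6 LD2_c8 LD3_c30)) = v16904 :=
  Lgr Lrot11 (Lpr_ct (f752396 IH) (Lpn v16904))
theorem f753524 : v12326 = v16904 :=
  (Llr Lrot9 (Lpe (f691487 IH) (Lpr_df (K17.f55353 IH) (Lpr_gt (K67.f55363 IH) (Lpq (K67.f753509 IH) (Lpe (K67.f698794 IH) (Lpr_gt (K50.f9266 IH) (Lpr_ct (K40.f9264 IH) (Lpr_df (K0.f9218 IH) (Lpe (K0.f9131 IH) (Lpe (K70.f9267 IH) (Lpr_cf (f752397 IH) (Lpn v16904))))))))))))).symm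
theorem f691488 : Led Lsl_gf (LP (LK LD1_c8 LD2_c14 LD3_c43)) = v12326 :=
  Lgr Lrot76 (Lpe (K9.f55751 IH) (Lpe (K9.f55358 IH) (Lpr_gt (f691487 IH) (Lpn v12326))))
theorem f55564 : Led Lsl_bt (LP (LK LD1_c8 LD2_c12 LD3_c55)) = (LP (LK LD1_c15 LD2_c27 LD3_c6)) :=
  Lre_b IH (LK LD1_c8 LD2_c12 LD3_c55) (LK LD1_c15 LD2_c27 LD3_c6) Lrfl Lrfl
theorem f924720 : Led Lsl_gf (LP (LK LD1_c18 LD2_c25 LD3_c58)) = (LP (LK LD1_c15 LD2_c27 LD3_c6)) :=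
  Lgr Lrot124 (Lpe (f924719 IH) (Lpr_ct (f165130 IH) (Lpr_gt (f924716 IH) (Lpe (K71.f68887 IH) (Lpr_bt (f68886 IH) (Lpr_gt (K70.f68841 IH) (Lpr_ct (f752396 IH) (Lpq (f753524 IH) (Lpe (f691488 IH) (Lpr_cf (K17.f55566 IH) (Lpr_bt (f55564 IH) (Lpn (LP (LK LD1_c15 LD2_c27 LD3_c6))))))))))))))
theorem f924721 : Led Lsl_gt (LP (LK LD1_c15 LD2_c27 LD3_c6)) = (LP (LK LD1_c18 LD2_c25 LD3_c58)) :=
  Leop (Lpr_gf (f924720 IH) (Lpn (LP (LK LD1_c15 LD2_c27 LD3_c6))))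
theorem seed_2496 : LEOK LG_g (LK LD1_c15 LD2_c27 LD3_c6) :=
  Leoe_g (LK LD1_c15 LD2_c27 LD3_c6) (f924721 IH)
theorem f924728 : Led Lsl_at (LP (LK LD1_c15 LD2_c26 LD3_c12)) = (LP (LK LD1_c10 LD2_c18 LD3_c48)) :=
  Lgr Lrot66 (Lpr_ff (f903866 IH) (Lpqs (f924580 IH) (Lpe (f748525 IH) (Lpe (f299942 IH) (Lpn (LP (LK LD1_c10 LD2_c18 LD3_c48)))))))
theorem f699514 : Led Lsl_bt (LP (LK LD1_c6 LD2_c46 LD3_c5)) = (LP (LK LD1_c12 LD2_c55 LD3_c58)) :=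
  Lre_b IH (LK LD1_c6 LD2_c46 LD3_c5) (LK LD1_c12 LD2_c55 LD3_c58) Lrfl Lrfl
theorem f699517 : Led Lsl_df (LP (LK LD1_c15 LD2_c26 LD3_c12)) = (LP (LK LD1_c12 LD2_c55 LD3_c58)) :=
  Lgr Lrot12 (Lpr_bt (f175353 IH) (Lpr_dt (K71.f699508 IH) (Lpr_bt (f699514 IH) (Lpn (LP (LK LD1_c12 LD2_c55 LD3_c58))))))
theorem f924730 : Led Lsl_af (LP (LK LD1_c12 LD2_c55 LD3_c58)) = (LP (LK LD1_c17 LD2_c32 LD3_c48)) :=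
  Lgr Lrot117 (Lpe (f699517 IH) (Lpr_at (f924728 IH) (Lpr_dt (K70.f912803 IH) (Lpn (LP (LK LD1_c17 LD2_c32 LD3_c48))))))
def v38693 : LQ := Led Lsl_bt (LP (LK LD1_c9 LD2_c14 LD3_c23))
theorem f903808 : Led Lsl_bt (LP (LK LD1_c9 LD2_c14 LD3_c23)) = v38693 :=
  Lrfl
theorem f903810 : Led Lsl_ef (LP (LK LD1_c12 LD2_c55 LD3_c58)) = v38693 :=
  Lgr Lrot29 (Lpr_bt (f639956 IH) (Lpe (K69.f699510 IH) (Lpr_bt (f903808 IH) (Lpn v38693))))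
theorem f903811 : Led Lsl_et (LP (LK LD1_c12 LD2_c55 LD3_c58)) = v38693 :=
  Lgr Lrot87 (Lpr_ef (f903810 IH) (Lpn v38693))
theorem f912805 : Led Lsl_df (LP (LK LD1_c10 LD2_c18 LD3_c48)) = (LP (LK LD1_c17 LD2_c32 LD3_c48)) :=
  Lgr Lrot38 (Lpr_dt (K70.f912803 IH) (Lpn (LP (LK LD1_c17 LD2_c32 LD3_c48))))
theorem f387460 : Led Lsl_gt (LP (LK LD1_c6 LD2_c1 LD3_c32)) = (LP (LK LD1_c11 LD2_c47 LD3_c42)) :=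
  Lre_g IH (LK LD1_c6 LD2_c1 LD3_c32) (LK LD1_c11 LD2_c47 LD3_c42) Lrfl Lrfl
theorem f912815 : Led Lsl_ef (LP (LK LD1_c11 LD2_c47 LD3_c42)) = (LP (LK LD1_c17 LD2_c32 LD3_c48)) :=
  Lgr Lrot17 (Lpe (f387460 IH) (Lpe (K44.f387446 IH) (Lpr_dt (K40.f387444 IH) (Lpr_gf (K44.f580860 IH) (Lpe (K40.f421052 IH) (Lpe (K40.f562403 IH) (Lpe (K38.f539615 IH) (Lpr_dt (K71.f621414 IH) (Lpe (K55.f748521 IH) (Lpr_df (f912805 IH) (Lpn (LP (LK LD1_c17 LD2_c32 LD3_c48)))))))))))))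
theorem f912817 : Led Lsl_et (LP (LK LD1_c11 LD2_c47 LD3_c42)) = (LP (LK LD1_c17 LD2_c32 LD3_c48)) :=
  Lgr Lrot87 (Lpr_ef (f912815 IH) (Lpn (LP (LK LD1_c17 LD2_c32 LD3_c48))))
theorem f924734 : Led Lsl_at v38693 = (LP (LK LD1_c11 LD2_c47 LD3_c42)) :=
  Lgr Lrot80 (Lpe (f903811 IH) (Lpr_af (f924730 IH) (Lpe (f912817 IH) (Lpn (LP (LK LD1_c11 LD2_c47 LD3_c42))))))
def v38694 : LQ := Led Lsl_ft (LP (LK LD1_c9 LD2_c14 LD3_c23))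
theorem f903812 : Led Lsl_ft (LP (LK LD1_c9 LD2_c14 LD3_c23)) = v38694 :=
  Lrfl
theorem f903814 : Led Lsl_ff (LP (LK LD1_c9 LD2_c14 LD3_c23)) = v38694 :=
  Lgr Lrot3 (Lpr_ft (f903812 IH) (Lpn v38694))
theorem f750823 : Led Lsl_af (LP (LK LD1_c6 LD2_c3 LD3_c46)) = K69.v16640 :=
  Lgr Lrot45 (Lpr_ft (K69.f750820 IH) (Lpe (K69.f750819 IH) (Lpr_ft (K69.f750822 IH) (Lpn K69.v16640))))
theorem f903815 : Led Lsl_at (LP (LK LD1_c9 LD2_c14 LD3_c24)) = v38694 :=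
  Lgr Lrot66 (Lpr_ff (K69.f903807 IH) (Lpe (K69.f903802 IH) (Lpr_ff (f903814 IH) (Lpn v38694))))
theorem f903833 : (LP (LK LD1_c6 LD2_c3 LD3_c46)) = v38694 :=
  Lefun (Lecon (Lfl_af (f750823 IH)) (K69.f903832 IH)) (f903815 IH)
def v16641 : LQ := Led Lsl_bt (LP (LK LD1_c6 LD2_c3 LD3_c46))
theorem f750826 : Led Lsl_bt (LP (LK LD1_c6 LD2_c3 LD3_c46)) = v16641 :=
  Lrfl
theorem f750827 : Led Lsl_bf (LP (LK LD1_c6 LD2_c3 LD3_c46)) = v16641 :=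
  Lgr Lrot24 (Lpr_bt (f750826 IH) (Lpn v16641))
theorem f903894 : Led Lsl_ff v16641 = v38693 :=
  Lgr Lrot25 (Lpe (f750827 IH) (Lpqs (f903833 IH) (Lpe (f903814 IH) (Lpr_bt (f903808 IH) (Lpn v38693)))))
theorem f903922 : Led Lsl_ft v16641 = v38693 :=
  Lgr Lrot48 (Lpr_ff (f903894 IH) (Lpn v38693))
theorem f387466 : Led Lsl_gt (LP (LK LD1_c11 LD2_c47 LD3_c43)) = (LP (LK LD1_c6 LD2_c1 LD3_c32)) :=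
  Lre_g IH (LK LD1_c11 LD2_c47 LD3_c43) (LK LD1_c6 LD2_c1 LD3_c32) Lrfl Lrfl
theorem f924736 : v16641 = (LP (LK LD1_c11 LD2_c47 LD3_c43)) :=
  (Llr Lrot52 (Lpr_ft (f903922 IH) (Lpr_at (f924734 IH) (Lpe (f387460 IH) (Lpe (f387466 IH) (Lpn (LP (LK LD1_c11 LD2_c47 LD3_c43)))))))).symm
theorem f924737 : Led Lsl_bt (LP (LK LD1_c11 LD2_c47 LD3_c43)) = (LP (LK LD1_c6 LD2_c3 LD3_c46)) :=
  Leop (Lpr_bf (f750827 IH) (Lpqs (f924736 IH) (Lpn (LP (LK LD1_c11 LD2_c47 LD3_c43)))))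
theorem seed_2497 : LEOK LG_b (LK LD1_c11 LD2_c47 LD3_c43) :=
  Leoe_b (LK LD1_c11 LD2_c47 LD3_c43) (f924737 IH)
def v14514 : LQ := Led Lsl_ct (LP (LK LD1_c5 LD2_c11 LD3_c50))
theorem f722955 : Led Lsl_ct (LP (LK LD1_c5 LD2_c11 LD3_c50)) = v14514 :=
  Lrfl
theorem f21421 : Led Lsl_gt (LP (LK LD1_c5 LD2_c11 LD3_c50)) = (LP (LK LD1_c2 LD2_c32 LD3_c48)) :=
  Lre_g IH (LK LD1_c5 LD2_c11 LD3_c50) (LK LD1_c2 LD2_c32 LD3_c48) Lrfl Lrfl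
theorem f163824 : Led Lsl_gt (LP (LK LD1_c5 LD2_c4 LD3_c43)) = (LP (LK LD1_c5 LD2_c11 LD3_c50)) :=
  Lgr Lrot5 (Lpr_ft (K0.f21406 IH) (Lpr_at (K8.f163802 IH) (Lpe (f21421 IH) (Lpn (LP (LK LD1_c5 LD2_c11 LD3_c50))))))
theorem f722956 : Led Lsl_cf (LP (LK LD1_c5 LD2_c11 LD3_c50)) = v14514 :=
  Lgr Lrot11 (Lpr_ct (f722955 IH) (Lpn v14514))
def v16376 : LQ := Led Lsl_gf (LP (LK LD1_c5 LD2_c58 LD3_c34))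
theorem f749016 : Led Lsl_gf (LP (LK LD1_c5 LD2_c58 LD3_c34)) = v16376 :=
  Lrfl
theorem f924610 : Led Lsl_bt v14514 = v16376 :=
  Lgr Lrot22 (Lpe (f722956 IH) (Lpe (f163824 IH) (Lpr_cf (K48.f163951 IH) (Lpe (K70.f164565 IH) (Lpe (f164567 IH) (Lpr_ct (f924595 IH) (Lpr_gf (K53.f76015 IH) (Lpr_cf (f748546 IH) (Lpr_bt (K38.f386728 IH) (Lpr_gf (f749016 IH) (Lpn v16376)))))))))))
theorem f924611 : Led Lsl_bf v14514 = v16376 :=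
  Lgr Lrot24 (Lpr_bt (f924610 IH) (Lpn v16376))
def v16242 : LQ := Led Lsl_bt (LP (LK LD1_c5 LD2_c55 LD3_c28))
theorem f747298 : Led Lsl_bt (LP (LK LD1_c5 LD2_c55 LD3_c28)) = v16242 :=
  Lrfl
theorem f747299 : Led Lsl_bf (LP (LK LD1_c5 LD2_c55 LD3_c28)) = v16242 :=
  Lgr Lrot24 (Lpr_bt (f747298 IH) (Lpn v16242))
def v40861 : LQ := Led Lsl_dt (LP (LK LD1_c9 LD2_c48 LD3_c3))
theorem f920789 : Led Lsl_dt (LP (LK LD1_c9 LD2_c48 LD3_c3)) = v40861 :=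
  Lrfl
theorem f924746 : Led Lsl_bf (LP (LK LD1_c11 LD2_c36 LD3_c15)) = v40861 :=
  Lgr Lrot93 (Lpr_dt (K56.f752369 IH) (Lpqs (K71.f924130 IH) (Lpe (K71.f920788 IH) (Lpr_dt (f920789 IH) (Lpn v40861)))))
theorem f920792 : Led Lsl_df (LP (LK LD1_c9 LD2_c48 LD3_c3)) = v40861 :=
  Lgr Lrot38 (Lpr_dt (f920789 IH) (Lpn v40861))
def v16343 : LQ := Led Lsl_dt (LP (LK LD1_c5 LD2_c58 LD3_c3))
theorem f748881 : Led Lsl_dt (LP (LK LD1_c5 LD2_c58 LD3_c3)) = v16343 :=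
  Lrfl
theorem f748883 : Led Lsl_df (LP (LK LD1_c5 LD2_c58 LD3_c3)) = v16343 :=
  Lgr Lrot38 (Lpr_dt (f748881 IH) (Lpn v16343))
theorem f387071 : Led Lsl_ct (LP (LK LD1_c4 LD2_c58 LD3_c47)) = (LP (LK LD1_c9 LD2_c48 LD3_c1)) :=
  Lre_c IH (LK LD1_c4 LD2_c58 LD3_c47) (LK LD1_c9 LD2_c48 LD3_c1) Lrfl Lrfl
theorem f722105 : Led Lsl_df (LP (LK LD1_c9 LD2_c48 LD3_c1)) = K55.v14351 :=
  Lgr Lrot12 (Lpr_bt (f699378 IH) (Lpr_dt (K40.f405198 IH) (Lpr_bt (K55.f722103 IH) (Lpn K55.v14351))))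
theorem f748884 : Led Lsl_gf K55.v14351 = v16343 :=
  Lgr Lrot143 (Lpe (f722105 IH) (Lpe (f387071 IH) (Lpe (K39.f387070 IH) (Lpe (K28.f386899 IH) (Lpe (K44.f161224 IH) (Lpr_gf (K32.f387067 IH) (Lpe (K55.f180677 IH) (Lpr_gt (K38.f387166 IH) (Lpr_dt (f748881 IH) (Lpn v16343))))))))))
theorem f722146 : Led Lsl_af K55.v14351 = K55.v14355 :=
  Lgr Lrot117 (Lpe (f722105 IH) (Lpr_at (K55.f387273 IH) (Lpr_dt (K55.f722145 IH) (Lpn K55.v14355))))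
theorem f722150 : Led Lsl_ft K55.v14345 = K55.v14355 :=
  Lgr Lrot48 (Lpr_ff (K55.f722148 IH) (Lpn K55.v14355))
theorem f748885 : Led Lsl_gt K55.v14345 = v16343 :=
  Lgr Lrot5 (Lpr_ft (f722150 IH) (Lpe (f722146 IH) (Lpr_gf (f748884 IH) (Lpn v16343))))
theorem f386730 : Led Lsl_et (LP (LK LD1_c2 LD2_c55 LD3_c41)) = (LP (LK LD1_c5 LD2_c58 LD3_c34)) :=
  Lre_e IH (LK LD1_c2 LD2_c55 LD3_c41) (LK LD1_c5 LD2_c58 LD3_c34) Lrfl Lrfl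
theorem f920796 : Led Lsl_ef v16376 = v40861 :=
  Lgr Lrot114 (Lpe (f749016 IH) (Lpe (f386730 IH) (Lpr_dt (K40.f386858 IH) (Lpe (K32.f427780 IH) (Lpe (K19.f308070 IH) (Lpr_et (K55.f722051 IH) (Lpr_gt (f748885 IH) (Lpe (f748883 IH) (Lpe (K43.f387170 IH) (Lpr_df (f920792 IH) (Lpn v40861)))))))))))
theorem f920797 : Led Lsl_et v16376 = v40861 :=
  Lgr Lrot87 (Lpr_ef (f920796 IH) (Lpn v40861))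
theorem f924748 : v16242 = v16376 :=
  (Llr Lrot119 (Lpe (f747298 IH) (Lpe (K56.f71287 IH) (Lpr_bf (f924746 IH) (Lpe (f920797 IH) (Lpn v16376)))))).symm
theorem f924749 : v14514 = (LP (LK LD1_c5 LD2_c55 LD3_c28)) :=
  Lefun (Lecon (Lfl_bf (f924611 IH)) (f924748 IH).symm) (Lfl_bf (f747299 IH))
theorem f924751 : Led Lsl_ct (LP (LK LD1_c5 LD2_c11 LD3_c50)) = (LP (LK LD1_c5 LD2_c55 LD3_c28)) :=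
  Leop (Lpq (f924749 IH) (Lpe (f722955 IH) (Lpn (LP (LK LD1_c5 LD2_c11 LD3_c50)))))
theorem seed_2498 : LEOK LG_c (LK LD1_c5 LD2_c11 LD3_c50) :=
  Leoe_c (LK LD1_c5 LD2_c11 LD3_c50) (f924751 IH)
def v14512 : LQ := Led Lsl_ct (LP (LK LD1_c5 LD2_c11 LD3_c49))
theorem f722947 : Led Lsl_ct (LP (LK LD1_c5 LD2_c11 LD3_c49)) = v14512 :=
  Lrfl
theorem f285161 : Led Lsl_dt (LP (LK LD1_c9 LD2_c14 LD3_c23)) = (LP (LK LD1_c17 LD2_c8 LD3_c44)) :=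
  Lre_d IH (LK LD1_c9 LD2_c14 LD3_c23) (LK LD1_c17 LD2_c8 LD3_c44) Lrfl Lrfl
theorem f903897 : Led Lsl_ff K69.v16642 = (LP (LK LD1_c17 LD2_c8 LD3_c44)) :=
  Lgr Lrot19 (Lpe (K71.f750829 IH) (Lpqs (f903833 IH) (Lpe (f903814 IH) (Lpr_dt (f285161 IH) (Lpn (LP (LK LD1_c17 LD2_c8 LD3_c44)))))))
theorem f752311 : Led Lsl_dt (LP (LK LD1_c18 LD2_c42 LD3_c13)) = K56.v16883 :=
  Lgr Lrot77 (Lpr_ef (K56.f186174 IH) (Lpe (K56.f175806 IH) (Lpe (K56.f699496 IH) (Lpr_df (K71.f699494 IH) (Lpr_ef (K56.f752308 IH) (Lpn K56.v16883))))))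
def v19656 : LQ := Led Lsl_gf (LP (LK LD1_c6 LD2_c45 LD3_c27))
theorem f781553 : Led Lsl_gf (LP (LK LD1_c6 LD2_c45 LD3_c27)) = v19656 :=
  Lrfl
theorem f824350 : Led Lsl_df v19656 = (LP (LK LD1_c18 LD2_c39 LD3_c43)) :=
  Lgr Lrot135 (Lpe (f781553 IH) (Lpe (K17.f166193 IH) (Lpr_et (K17.f180317 IH) (Lpr_gt (K49.f641034 IH) (Lpe (K56.f646034 IH) (Lpe (K46.f636310 IH) (Lpr_gt (K71.f752309 IH) (Lpe (f752311 IH) (Lpr_et (K56.f186177 IH) (Lpr_gt (K71.f824348 IH) (Lpn (LP (LK LD1_c18 LD2_c39 LD3_c43)))))))))))))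
theorem f824352 : Led Lsl_dt v19656 = (LP (LK LD1_c18 LD2_c39 LD3_c43)) :=
  Lgr Lrot42 (Lpr_df (f824350 IH) (Lpn (LP (LK LD1_c18 LD2_c39 LD3_c43))))
def v15917 : LQ := Led Lsl_gf (LP (LK LD1_c5 LD2_c49 LD3_c57))
theorem f744197 : Led Lsl_gf (LP (LK LD1_c5 LD2_c49 LD3_c57)) = v15917 :=
  Lrfl
theorem f824356 : Led Lsl_et v19656 = v15917 :=
  Lgr Lrot121 (Lpr_dt (f824352 IH) (Lpe (K71.f824348 IH) (Lpe (K56.f175806 IH) (Lpe (K56.f699499 IH) (Lpr_gf (K56.f639960 IH) (Lpr_ef (K50.f639537 IH) (Lpr_dt (K56.f699488 IH) (Lpe (K50.f186324 IH) (Lpe (K37.f186122 IH) (Lpr_gf (f744197 IH) (Lpn v15917)))))))))))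
theorem f408216 : Led Lsl_ft (LP (LK LD1_c10 LD2_c15 LD3_c32)) = (LP (LK LD1_c18 LD2_c39 LD3_c43)) :=
  Lre_f IH (LK LD1_c10 LD2_c15 LD3_c32) (LK LD1_c18 LD2_c39 LD3_c43) Lrfl Lrfl
theorem f824353 : Led Lsl_ft v19656 = (LP (LK LD1_c16 LD2_c57 LD3_c16)) :=
  Lgr Lrot54 (Lpr_df (f824350 IH) (Lpe (f408216 IH) (Lpr_df (K56.f408213 IH) (Lpn (LP (LK LD1_c16 LD2_c57 LD3_c16))))))
theorem f824355 : Led Lsl_ff v19656 = (LP (LK LD1_c16 LD2_c57 LD3_c16)) :=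
  Lgr Lrot3 (Lpr_ft (f824353 IH) (Lpn (LP (LK LD1_c16 LD2_c57 LD3_c16))))
def v15788 : LQ := Led Lsl_et (LP (LK LD1_c5 LD2_c46 LD3_c16))
theorem f741552 : Led Lsl_et (LP (LK LD1_c5 LD2_c46 LD3_c16)) = v15788 :=
  Lrfl
theorem f741553 : Led Lsl_ef (LP (LK LD1_c5 LD2_c46 LD3_c16)) = v15788 :=
  Lgr Lrot88 (Lpr_et (f741552 IH) (Lpn v15788))
theorem f824358 : Led Lsl_ff v15788 = v15917 :=
  Lgr Lrot72 (Lpe (f741553 IH) (Lpr_ft (K55.f741496 IH) (Lpqs (K67.f824226 IH) (Lpr_et (K71.f23089 IH) (Lpe (f824355 IH) (Lpr_et (f824356 IH) (Lpn v15917)))))))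
def v15916 : LQ := Led Lsl_gt (LP (LK LD1_c5 LD2_c49 LD3_c57))
theorem f744193 : Led Lsl_gt (LP (LK LD1_c5 LD2_c49 LD3_c57)) = v15916 :=
  Lrfl
theorem f824360 : Led Lsl_at v15788 = v15916 :=
  Lgr Lrot26 (Lpr_ff (f824358 IH) (Lpe (f744197 IH) (Lpr_gt (f744193 IH) (Lpn v15916))))
theorem f824361 : Led Lsl_af v15788 = v15916 :=
  Lgr Lrot0 (Lpr_at (f824360 IH) (Lpn v15916))
theorem f741554 : Led Lsl_gt (LP (LK LD1_c6 LD2_c3 LD3_c29)) = v15788 :=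
  Lgr Lrot131 (Lpe (K37.f177690 IH) (Lpr_dt (K41.f26667 IH) (Lpe (K10.f177687 IH) (Lpe (K9.f23939 IH) (Lpe (K9.f23956 IH) (Lpe (K50.f23983 IH) (Lpr_dt (K0.f9152 IH) (Lpe (K55.f9190 IH) (Lpe (K55.f9191 IH) (Lpr_et (f741552 IH) (Lpn v15788)))))))))))
def v16617 : LQ := Led Lsl_gf (LP (LK LD1_c6 LD2_c3 LD3_c29))
theorem f750745 : Led Lsl_gf (LP (LK LD1_c6 LD2_c3 LD3_c29)) = v16617 :=
  Lrfl
theorem f824362 : Led Lsl_ft v16617 = v15916 :=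
  Lgr Lrot2 (Lpe (f750745 IH) (Lpr_gt (f741554 IH) (Lpr_af (f824361 IH) (Lpn v15916))))
theorem f176853 : Led Lsl_et (LP (LK LD1_c2 LD2_c51 LD3_c5)) = (LP (LK LD1_c5 LD2_c49 LD3_c57)) :=
  Lre_e IH (LK LD1_c2 LD2_c51 LD3_c5) (LK LD1_c5 LD2_c49 LD3_c57) Lrfl Lrfl
theorem f744194 : Led Lsl_et (LP (LK LD1_c9 LD2_c5 LD3_c19)) = v15916 :=
  Lgr Lrot122 (Lpr_dt (K53.f175407 IH) (Lpr_gt (K53.f175406 IH) (Lpe (K53.f175405 IH) (Lpr_et (K53.f175404 IH) (Lpr_gt (K9.f9416 IH) (Lpr_dt (K9.f175386 IH) (Lpe (K11.f186104 IH) (Lpe (K11.f176818 IH) (Lpr_et (f176853 IH) (Lpr_gt (f744193 IH) (Lpn v15916)))))))))))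
theorem f744195 : Led Lsl_ef (LP (LK LD1_c9 LD2_c5 LD3_c19)) = v15916 :=
  Lgr Lrot88 (Lpr_et (f744194 IH) (Lpn v15916))
def v15778 : LQ := Led Lsl_ft (LP (LK LD1_c5 LD2_c46 LD3_c12))
theorem f741501 : Led Lsl_ft (LP (LK LD1_c5 LD2_c46 LD3_c12)) = v15778 :=
  Lrfl
theorem f741504 : Led Lsl_ff (LP (LK LD1_c5 LD2_c46 LD3_c12)) = v15778 :=
  Lgr Lrot3 (Lpr_ft (f741501 IH) (Lpn v15778))
theorem f741506 : Led Lsl_dt K64.v4825 = v15778 :=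
  Lgr Lrot60 (Lpe (K64.f640487 IH) (Lpe (K17.f180472 IH) (Lpr_ff (f741504 IH) (Lpn v15778))))
theorem f175449 : Led Lsl_dt (LP (LK LD1_c4 LD2_c33 LD3_c54)) = (LP (LK LD1_c9 LD2_c5 LD3_c19)) :=
  Lre_d IH (LK LD1_c4 LD2_c33 LD3_c54) (LK LD1_c9 LD2_c5 LD3_c19) Lrfl Lrfl
theorem f824199 : v15778 = (LP (LK LD1_c9 LD2_c5 LD3_c19)) :=
  Lefun (Lecon (f741506 IH) (K64.f824191 IH)) (f175449 IH)
theorem f824333 : Led Lsl_ft (LP (LK LD1_c11 LD2_c22 LD3_c46)) = (LP (LK LD1_c17 LD2_c33 LD3_c13)) :=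
  Lgr Lrot48 (Lpr_ff (K71.f824331 IH) (Lpn (LP (LK LD1_c17 LD2_c33 LD3_c13))))
theorem f824364 : Led Lsl_ef v16617 = (LP (LK LD1_c17 LD2_c33 LD3_c13)) :=
  Lgr Lrot21 (Lpr_ft (f824362 IH) (Lpe (f744195 IH) (Lpq (f824199 IH) (Lpe (f741504 IH) (Lpr_et (K17.f180492 IH) (Lpr_ft (f824333 IH) (Lpn (LP (LK LD1_c17 LD2_c33 LD3_c13)))))))))
theorem f699512 : Led Lsl_et (LP (LK LD1_c9 LD2_c14 LD3_c23)) = (LP (LK LD1_c6 LD2_c46 LD3_c5)) :=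
  Lgr Lrot87 (Lpr_ef (K69.f699510 IH) (Lpn (LP (LK LD1_c6 LD2_c46 LD3_c5))))
theorem f824329 : Led Lsl_df (LP (LK LD1_c18 LD2_c21 LD3_c36)) = (LP (LK LD1_c17 LD2_c33 LD3_c13)) :=
  Lgr Lrot38 (Lpr_dt (K71.f824327 IH) (Lpn (LP (LK LD1_c17 LD2_c33 LD3_c13))))
theorem f824368 : Led Lsl_gt (LP (LK LD1_c17 LD2_c8 LD3_c44)) = (LP (LK LD1_c18 LD2_c21 LD3_c36)) :=
  Lgr Lrot112 (Lpe (f285161 IH) (Lpr_et (f699512 IH) (Lpe (K50.f639954 IH) (Lpr_ef (K50.f639937 IH) (Lpe (K50.f699478 IH) (Lpe (K50.f699457 IH) (Lpe (K50.f421674 IH) (Lpr_gf (f750745 IH) (Lpr_ef (f824364 IH) (Lpe (f824329 IH) (Lpn (LP (LK LD1_c18 LD2_c21 LD3_c36)))))))))))))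
theorem f824341 : Led Lsl_at (LP (LK LD1_c10 LD2_c3 LD3_c5)) = (LP (LK LD1_c10 LD2_c15 LD3_c32)) :=
  Lgr Lrot100 (Lpr_af (K71.f824339 IH) (Lpn (LP (LK LD1_c10 LD2_c15 LD3_c32))))
theorem f180484 : Led Lsl_ft (LP (LK LD1_c18 LD2_c21 LD3_c36)) = (LP (LK LD1_c10 LD2_c3 LD3_c5)) :=
  Lre_f IH (LK LD1_c18 LD2_c21 LD3_c36) (LK LD1_c10 LD2_c3 LD3_c5) Lrfl Lrfl
theorem f824371 : Led Lsl_gt (LP (LK LD1_c18 LD2_c21 LD3_c36)) = (LP (LK LD1_c11 LD2_c36 LD3_c14)) :=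
  Lgr Lrot5 (Lpr_ft (f180484 IH) (Lpr_at (f824341 IH) (Lpr_gf (K56.f753745 IH) (Lpn (LP (LK LD1_c11 LD2_c36 LD3_c14))))))
theorem f903899 : Led Lsl_at K69.v16642 = (LP (LK LD1_c11 LD2_c36 LD3_c14)) :=
  Lgr Lrot26 (Lpr_ff (f903897 IH) (Lpr_gt (f824368 IH) (Lpr_gt (f824371 IH) (Lpn (LP (LK LD1_c11 LD2_c36 LD3_c14))))))
def v12970 : LQ := Led Lsl_gt (LP (LK LD1_c4 LD2_c35 LD3_c47))
theorem f699946 : Led Lsl_gt (LP (LK LD1_c4 LD2_c35 LD3_c47)) = v12970 :=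
  Lrfl
theorem f750831 : Led Lsl_ef v12970 = K69.v16642 :=
  Lgr Lrot17 (Lpe (f699946 IH) (Lpe (K2.f35005 IH) (Lpr_dt (K2.f34994 IH) (Lpe (K9.f166370 IH) (Lpe (K14.f166379 IH) (Lpe (K14.f166403 IH) (Lpe (K39.f166404 IH) (Lpr_dt (K39.f185140 IH) (Lpe (K69.f175808 IH) (Lpr_df (K71.f750829 IH) (Lpn K69.v16642)))))))))))
theorem f750832 : Led Lsl_et v12970 = K69.v16642 :=
  Lgr Lrot87 (Lpr_ef (f750831 IH) (Lpn K69.v16642))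
def v16238 : LQ := Led Lsl_at (LP (LK LD1_c5 LD2_c55 LD3_c27))
theorem f747284 : Led Lsl_at (LP (LK LD1_c5 LD2_c55 LD3_c27)) = v16238 :=
  Lrfl
theorem f903901 : v12970 = v16238 :=
  (Llr Lrot20 (Lpr_et (f750832 IH) (Lpr_at (f903899 IH) (Lpr_et (K56.f185757 IH) (Lpr_at (f747284 IH) (Lpn v16238)))))).symm
def v14511 : LQ := Led Lsl_at (LP (LK LD1_c5 LD2_c11 LD3_c49))
theorem f722937 : Led Lsl_at (LP (LK LD1_c5 LD2_c11 LD3_c49)) = v14511 :=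
  Lrfl
theorem f722938 : Led Lsl_af (LP (LK LD1_c5 LD2_c11 LD3_c49)) = v14511 :=
  Lgr Lrot0 (Lpr_at (f722937 IH) (Lpn v14511))
theorem f722941 : Led Lsl_ft (LP (LK LD1_c5 LD2_c11 LD3_c50)) = v14511 :=
  Lgr Lrot2 (Lpr_gt (f21421 IH) (Lpr_gt (K71.f21412 IH) (Lpr_af (f722938 IH) (Lpn v14511))))
theorem f722943 : Led Lsl_ff (LP (LK LD1_c5 LD2_c11 LD3_c50)) = v14511 :=
  Lgr Lrot3 (Lpr_ft (f722941 IH) (Lpn v14511))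
theorem f747285 : Led Lsl_af (LP (LK LD1_c5 LD2_c55 LD3_c27)) = v16238 :=
  Lgr Lrot0 (Lpr_at (f747284 IH) (Lpn v16238))
theorem f747287 : Led Lsl_ft (LP (LK LD1_c5 LD2_c55 LD3_c28)) = v16238 :=
  Lgr Lrot2 (Lpr_gt (K56.f71284 IH) (Lpr_gt (K56.f71286 IH) (Lpr_af (f747285 IH) (Lpn v16238))))
theorem f924753 : Led Lsl_cf v14511 = v16238 :=
  Lgr Lrot108 (Lpe (f722943 IH) (Lpr_ct (f722955 IH) (Lpqs (f924749 IH) (Lpr_ft (f747287 IH) (Lpn v16238)))))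
theorem f924755 : v14512 = (LP (LK LD1_c5 LD2_c55 LD3_c27)) :=
  (Llr Lrot111 (Lpe (f722947 IH) (Lpr_af (f722938 IH) (Lpr_cf (f924753 IH) (Lpq (f903901 IH) (Lpqs (f903901 IH) (Lpe (f747284 IH) (Lpn (LP (LK LD1_c5 LD2_c55 LD3_c27)))))))))).symm
theorem f924757 : Led Lsl_ct (LP (LK LD1_c5 LD2_c11 LD3_c49)) = (LP (LK LD1_c5 LD2_c55 LD3_c27)) :=
  Leop (Lpq (f924755 IH) (Lpe (f722947 IH) (Lpn (LP (LK LD1_c5 LD2_c11 LD3_c49)))))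
theorem seed_2499 : LEOK LG_c (LK LD1_c5 LD2_c11 LD3_c49) :=
  Leoe_c (LK LD1_c5 LD2_c11 LD3_c49) (f924757 IH)
def v14513 : LQ := Led Lsl_ft (LP (LK LD1_c5 LD2_c11 LD3_c49))
theorem f722949 : Led Lsl_ft (LP (LK LD1_c5 LD2_c11 LD3_c49)) = v14513 :=
  Lrfl
theorem f722952 : Led Lsl_ff (LP (LK LD1_c5 LD2_c11 LD3_c49)) = v14513 :=
  Lgr Lrot3 (Lpr_ft (f722949 IH) (Lpn v14513))
theorem f722953 : Led Lsl_at (LP (LK LD1_c5 LD2_c11 LD3_c50)) = v14513 :=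
  Lgr Lrot66 (Lpr_ff (f722943 IH) (Lpe (f722937 IH) (Lpr_ff (f722952 IH) (Lpn v14513))))
theorem f747288 : Led Lsl_ff (LP (LK LD1_c5 LD2_c55 LD3_c28)) = v16238 :=
  Lgr Lrot3 (Lpr_ft (f747287 IH) (Lpn v16238))
def v16241 : LQ := Led Lsl_ft (LP (LK LD1_c5 LD2_c55 LD3_c27))
theorem f747294 : Led Lsl_ft (LP (LK LD1_c5 LD2_c55 LD3_c27)) = v16241 :=
  Lrfl
theorem f747296 : Led Lsl_ff (LP (LK LD1_c5 LD2_c55 LD3_c27)) = v16241 :=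
  Lgr Lrot3 (Lpr_ft (f747294 IH) (Lpn v16241))
theorem f747297 : Led Lsl_at (LP (LK LD1_c5 LD2_c55 LD3_c28)) = v16241 :=
  Lgr Lrot66 (Lpr_ff (f747288 IH) (Lpe (f747284 IH) (Lpr_ff (f747296 IH) (Lpn v16241))))
def v4962 : LQ := Led Lsl_ft (LP (LK LD1_c2 LD2_c54 LD3_c4))
theorem f641079 : Led Lsl_ft (LP (LK LD1_c2 LD2_c54 LD3_c4)) = v4962 :=
  Lrfl
theorem f641084 : Led Lsl_ff (LP (LK LD1_c2 LD2_c54 LD3_c4)) = v4962 :=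
  Lgr Lrot3 (Lpr_ft (f641079 IH) (Lpn v4962))
theorem f641085 : Led Lsl_at (LP (LK LD1_c9 LD2_c7 LD3_c55)) = v4962 :=
  Lgr Lrot66 (Lpe (K2.f35172 IH) (Lpe (K2.f71774 IH) (Lpr_ff (f641084 IH) (Lpn v4962))))
theorem f699947 : Led Lsl_gf v4962 = v12970 :=
  Lgr Lrot76 (Lpe (f641085 IH) (Lpe (K2.f35172 IH) (Lpr_gt (f699946 IH) (Lpn v12970))))
def v12971 : LQ := Led Lsl_gf (LP (LK LD1_c4 LD2_c35 LD3_c47))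
theorem f699948 : Led Lsl_gf (LP (LK LD1_c4 LD2_c35 LD3_c47)) = v12971 :=
  Lrfl
theorem f699949 : Led Lsl_gt v4962 = v12971 :=
  Lgr Lrot5 (Lpe (f641084 IH) (Lpr_at (K2.f71774 IH) (Lpr_gf (f699948 IH) (Lpn v12971))))
theorem f903902 : v16241 = v12971 :=
  (Llr Lrot26 (Lpe (f747297 IH) (Lpr_ff (f747288 IH) (Lpq (f903901 IH) (Lpe (f699947 IH) (Lpr_gt (f699949 IH) (Lpn v12971))))))).symm
theorem f924759 : Led Lsl_cf v14513 = v16241 :=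
  Lgr Lrot108 (Lpe (f722952 IH) (Lpr_ct (f722947 IH) (Lpqs (f924755 IH) (Lpr_ft (f747294 IH) (Lpn v16241)))))
theorem f924760 : Led Lsl_ct v14513 = v12971 :=
  Lgr Lrot59 (Lpr_cf (f924759 IH) (Lpqs (f903902 IH) (Lpn v12971)))
theorem f48591 : Led Lsl_df (LP (LK LD1_c2 LD2_c35 LD3_c8)) = (LP (LK LD1_c2 LD2_c36 LD3_c3)) :=
  Lgr Lrot12 (Lpr_bt (K10.f32618 IH) (Lpr_dt (K19.f48578 IH) (Lpr_bt (K10.f32616 IH) (Lpn (LP (LK LD1_c2 LD2_c36 LD3_c3))))))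
def v16243 : LQ := Led Lsl_ct (LP (LK LD1_c5 LD2_c55 LD3_c28))
theorem f747300 : Led Lsl_ct (LP (LK LD1_c5 LD2_c55 LD3_c28)) = v16243 :=
  Lrfl
theorem f747301 : Led Lsl_cf (LP (LK LD1_c5 LD2_c55 LD3_c28)) = v16243 :=
  Lgr Lrot11 (Lpr_ct (f747300 IH) (Lpn v16243))
theorem f924750 : (LP (LK LD1_c5 LD2_c11 LD3_c50)) = v16243 :=
  Lefun (Lecon (Lfl_cf (f722956 IH)) (f924749 IH)) (f747300 IH)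
theorem f163818 : Led Lsl_af (LP (LK LD1_c2 LD2_c29 LD3_c42)) = (LP (LK LD1_c2 LD2_c32 LD3_c48)) :=
  Lgr Lrot0 (Lpr_at (K8.f163802 IH) (Lpn (LP (LK LD1_c2 LD2_c32 LD3_c48))))
theorem f21410 : Led Lsl_gt (LP (LK LD1_c5 LD2_c4 LD3_c42)) = (LP (LK LD1_c2 LD2_c29 LD3_c42)) :=
  Lre_g IH (LK LD1_c5 LD2_c4 LD3_c42) (LK LD1_c2 LD2_c29 LD3_c42) Lrfl Lrfl
theorem f21431 : Led Lsl_ft (LP (LK LD1_c5 LD2_c11 LD3_c51)) = (LP (LK LD1_c2 LD2_c32 LD3_c48)) :=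
  Lre_f IH (LK LD1_c5 LD2_c11 LD3_c51) (LK LD1_c2 LD2_c32 LD3_c48) Lrfl Lrfl
theorem f165402 : Led Lsl_gf (LP (LK LD1_c5 LD2_c4 LD3_c42)) = (LP (LK LD1_c5 LD2_c11 LD3_c51)) :=
  Lgr Lrot47 (Lpr_gt (f21410 IH) (Lpr_af (f163818 IH) (Lpe (f21431 IH) (Lpn (LP (LK LD1_c5 LD2_c11 LD3_c51))))))
theorem f924761 : v14513 = (LP (LK LD1_c5 LD2_c4 LD3_c42)) :=
  (Llr Lrot169 (Lpr_ct (f924760 IH) (Lpe (f699948 IH) (Lpr_ct (K2.f35006 IH) (Lpr_df (f48591 IH) (Lpe (K2.f71757 IH) (Lpe (K56.f71284 IH) (Lpr_cf (f747301 IH) (Lpq (f924750 IH) (Lpe (f163824 IH) (Lpe (K0.f21407 IH) (Lpe (f165402 IH) (Lpn (LP (LK LD1_c5 LD2_c4 LD3_c42))))))))))))))).symm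
theorem f924763 : Led Lsl_at (LP (LK LD1_c5 LD2_c11 LD3_c50)) = (LP (LK LD1_c5 LD2_c4 LD3_c42)) :=
  Leop (Lpq (f924761 IH) (Lpe (f722953 IH) (Lpn (LP (LK LD1_c5 LD2_c11 LD3_c50)))))
theorem seed_2500 : LEOK LG_a (LK LD1_c5 LD2_c11 LD3_c50) :=
  Leoe_a (LK LD1_c5 LD2_c11 LD3_c50) (f924763 IH)
def v16317 : LQ := Led Lsl_ct (LP (LK LD1_c5 LD2_c57 LD3_c29))
theorem f748430 : Led Lsl_ct (LP (LK LD1_c5 LD2_c57 LD3_c29)) = v16317 :=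
  Lrfl
theorem f748431 : Led Lsl_cf (LP (LK LD1_c5 LD2_c57 LD3_c29)) = v16317 :=
  Lgr Lrot11 (Lpr_ct (f748430 IH) (Lpn v16317))
theorem f82206 : Led Lsl_gt (LP (LK LD1_c5 LD2_c57 LD3_c29)) = (LP (LK LD1_c2 LD2_c55 LD3_c0)) :=
  Lre_g IH (LK LD1_c5 LD2_c57 LD3_c29) (LK LD1_c2 LD2_c55 LD3_c0) Lrfl Lrfl
def v16308 : LQ := Led Lsl_ct (LP (LK LD1_c5 LD2_c57 LD3_c25))
theorem f748383 : Led Lsl_ct (LP (LK LD1_c5 LD2_c57 LD3_c25)) = v16308 :=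
  Lrfl
theorem f748387 : Led Lsl_df K71.v4992 = v16308 :=
  Lgr Lrot106 (Lpe (K71.f641225 IH) (Lpe (K2.f82197 IH) (Lpr_ct (K2.f35006 IH) (Lpr_dt (K19.f48609 IH) (Lpe (K2.f71771 IH) (Lpr_af (K56.f71769 IH) (Lpe (K56.f35197 IH) (Lpr_dt (K2.f82203 IH) (Lpr_ct (f748383 IH) (Lpn v16308))))))))))
theorem f748388 : Led Lsl_dt K71.v4992 = v16308 :=
  Lgr Lrot42 (Lpr_df (f748387 IH) (Lpn v16308))
theorem f71393 : Led Lsl_gt (LP (LK LD1_c9 LD2_c9 LD3_c16)) = (LP (LK LD1_c5 LD2_c57 LD3_c25)) :=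
  Lgr Lrot46 (Lpe (K35.f71285 IH) (Lpr_ft (K2.f71283 IH) (Lpr_at (K2.f71376 IH) (Lpn (LP (LK LD1_c5 LD2_c57 LD3_c25))))))
def v38356 : LQ := Led Lsl_ct (LP (LK LD1_c9 LD2_c9 LD3_c16))
theorem f901530 : Led Lsl_ct (LP (LK LD1_c9 LD2_c9 LD3_c16)) = v38356 :=
  Lrfl
theorem f901532 : Led Lsl_cf (LP (LK LD1_c9 LD2_c9 LD3_c16)) = v38356 :=
  Lgr Lrot11 (Lpr_ct (f901530 IH) (Lpn v38356))
def v38359 : LQ := Led Lsl_ct (LP (LK LD1_c9 LD2_c9 LD3_c17))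
theorem f901552 : Led Lsl_ct (LP (LK LD1_c9 LD2_c9 LD3_c17)) = v38359 :=
  Lrfl
def v16313 : LQ := Led Lsl_at (LP (LK LD1_c5 LD2_c57 LD3_c28))
theorem f748411 : Led Lsl_at (LP (LK LD1_c5 LD2_c57 LD3_c28)) = v16313 :=
  Lrfl
theorem f82207 : Led Lsl_gt (LP (LK LD1_c2 LD2_c55 LD3_c0)) = (LP (LK LD1_c5 LD2_c57 LD3_c28)) :=
  Lre_g IH (LK LD1_c2 LD2_c55 LD3_c0) (LK LD1_c5 LD2_c57 LD3_c28) Lrfl Lrfl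
theorem f172587 : Led Lsl_dt (LP (LK LD1_c5 LD2_c45 LD3_c20)) = (LP (LK LD1_c2 LD2_c48 LD3_c25)) :=
  Lre_d IH (LK LD1_c5 LD2_c45 LD3_c20) (LK LD1_c2 LD2_c48 LD3_c25) Lrfl Lrfl
theorem f193892 : Led Lsl_ef (LP (LK LD1_c5 LD2_c57 LD3_c28)) = (LP (LK LD1_c5 LD2_c45 LD3_c20)) :=
  Lgr Lrot17 (Lpe (f82207 IH) (Lpe (K2.f71401 IH) (Lpr_dt (K10.f71412 IH) (Lpr_gf (K12.f193808 IH) (Lpe (K30.f26628 IH) (Lpr_gf (K30.f185978 IH) (Lpr_ef (K30.f172578 IH) (Lpr_dt (K30.f172552 IH) (Lpe (K50.f172568 IH) (Lpe (f172587 IH) (Lpn (LP (LK LD1_c5 LD2_c45 LD3_c20)))))))))))))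
theorem f748413 : Led Lsl_ef K69.v15685 = v16313 :=
  Lgr Lrot20 (Lpe (K69.f740922 IH) (Lpe (f193892 IH) (Lpr_at (f748411 IH) (Lpn v16313))))
theorem f748414 : Led Lsl_et K69.v15685 = v16313 :=
  Lgr Lrot87 (Lpr_ef (f748413 IH) (Lpn v16313))
theorem f897662 : v16313 = (LP (LK LD1_c9 LD2_c9 LD3_c16)) :=
  Lefun (Lecon (f748414 IH) (K69.f897656 IH).symm) (Lfl_ef (K35.f631672 IH))
theorem f748412 : Led Lsl_af (LP (LK LD1_c5 LD2_c57 LD3_c28)) = v16313 :=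
  Lgr Lrot0 (Lpr_at (f748411 IH) (Lpn v16313))
theorem f748415 : Led Lsl_ft (LP (LK LD1_c5 LD2_c57 LD3_c29)) = v16313 :=
  Lgr Lrot2 (Lpr_gt (f82206 IH) (Lpr_gt (f82207 IH) (Lpr_af (f748412 IH) (Lpn v16313))))
theorem f748416 : Led Lsl_ff (LP (LK LD1_c5 LD2_c57 LD3_c29)) = v16313 :=
  Lgr Lrot3 (Lpr_ft (f748415 IH) (Lpn v16313))
def v16316 : LQ := Led Lsl_ft (LP (LK LD1_c5 LD2_c57 LD3_c28))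
theorem f748426 : Led Lsl_ft (LP (LK LD1_c5 LD2_c57 LD3_c28)) = v16316 :=
  Lrfl
theorem f748428 : Led Lsl_ff (LP (LK LD1_c5 LD2_c57 LD3_c28)) = v16316 :=
  Lgr Lrot3 (Lpr_ft (f748426 IH) (Lpn v16316))
theorem f748429 : Led Lsl_at (LP (LK LD1_c5 LD2_c57 LD3_c29)) = v16316 :=
  Lgr Lrot66 (Lpr_ff (f748416 IH) (Lpe (f748411 IH) (Lpr_ff (f748428 IH) (Lpn v16316))))
theorem f71289 : Led Lsl_gt (LP (LK LD1_c9 LD2_c9 LD3_c17)) = (LP (LK LD1_c4 LD2_c36 LD3_c36)) :=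
  Lre_g IH (LK LD1_c9 LD2_c9 LD3_c17) (LK LD1_c4 LD2_c36 LD3_c36) Lrfl Lrfl
theorem f71404 : Led Lsl_gf (LP (LK LD1_c9 LD2_c9 LD3_c17)) = (LP (LK LD1_c5 LD2_c57 LD3_c25)) :=
  Lgr Lrot47 (Lpr_gt (f71289 IH) (Lpr_af (K2.f71391 IH) (Lpe (K2.f71390 IH) (Lpn (LP (LK LD1_c5 LD2_c57 LD3_c25))))))
theorem f897923 : v16316 = (LP (LK LD1_c9 LD2_c9 LD3_c17)) :=
  (Llr Lrot26 (Lpe (f748429 IH) (Lpr_ff (f748416 IH) (Lpqs (f897662 IH) (Lpr_gt (f71393 IH) (Lpe (f71404 IH) (Lpn (LP (LK LD1_c9 LD2_c9 LD3_c17))))))))).symm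
def v16314 : LQ := Led Lsl_ct (LP (LK LD1_c5 LD2_c57 LD3_c28))
theorem f748418 : Led Lsl_ct (LP (LK LD1_c5 LD2_c57 LD3_c28)) = v16314 :=
  Lrfl
theorem f748419 : Led Lsl_cf (LP (LK LD1_c5 LD2_c57 LD3_c28)) = v16314 :=
  Lgr Lrot11 (Lpr_ct (f748418 IH) (Lpn v16314))
theorem f901555 : Led Lsl_ff v16314 = v38359 :=
  Lgr Lrot23 (Lpe (f748419 IH) (Lpr_ft (f748426 IH) (Lpqs (f897923 IH) (Lpr_ct (f901552 IH) (Lpn v38359)))))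
theorem f901557 : Led Lsl_ft v16314 = v38359 :=
  Lgr Lrot48 (Lpr_ff (f901555 IH) (Lpn v38359))
theorem f901553 : Led Lsl_af v16317 = v38359 :=
  Lgr Lrot68 (Lpe (f748431 IH) (Lpr_at (f748429 IH) (Lpqs (f897923 IH) (Lpr_ct (f901552 IH) (Lpn v38359)))))
def v14286 : LQ := Led Lsl_ft (LP (LK LD1_c5 LD2_c4 LD3_c41))
theorem f721734 : Led Lsl_ft (LP (LK LD1_c5 LD2_c4 LD3_c41)) = v14286 :=
  Lrfl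
theorem f721737 : Led Lsl_ff (LP (LK LD1_c5 LD2_c4 LD3_c41)) = v14286 :=
  Lgr Lrot3 (Lpr_ft (f721734 IH) (Lpn v14286))
theorem f722950 : Led Lsl_af (LP (LK LD1_c5 LD2_c11 LD3_c50)) = v14513 :=
  Lgr Lrot45 (Lpr_ft (f722941 IH) (Lpe (f722938 IH) (Lpr_ft (f722949 IH) (Lpn v14513))))
def v14283 : LQ := Led Lsl_at (LP (LK LD1_c5 LD2_c4 LD3_c41))
theorem f721721 : Led Lsl_at (LP (LK LD1_c5 LD2_c4 LD3_c41)) = v14283 :=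
  Lrfl
theorem f721722 : Led Lsl_af (LP (LK LD1_c5 LD2_c4 LD3_c41)) = v14283 :=
  Lgr Lrot0 (Lpr_at (f721721 IH) (Lpn v14283))
theorem f21414 : Led Lsl_gt (LP (LK LD1_c2 LD2_c29 LD3_c42)) = (LP (LK LD1_c5 LD2_c4 LD3_c41)) :=
  Lre_g IH (LK LD1_c2 LD2_c29 LD3_c42) (LK LD1_c5 LD2_c4 LD3_c41) Lrfl Lrfl
theorem f721724 : Led Lsl_ft (LP (LK LD1_c5 LD2_c4 LD3_c42)) = v14283 :=
  Lgr Lrot2 (Lpr_gt (f21410 IH) (Lpr_gt (f21414 IH) (Lpr_af (f721722 IH) (Lpn v14283))))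
theorem f721726 : Led Lsl_ff (LP (LK LD1_c5 LD2_c4 LD3_c42)) = v14283 :=
  Lgr Lrot3 (Lpr_ft (f721724 IH) (Lpn v14283))
theorem f721738 : Led Lsl_at (LP (LK LD1_c5 LD2_c4 LD3_c42)) = v14286 :=
  Lgr Lrot66 (Lpr_ff (f721726 IH) (Lpe (f721721 IH) (Lpr_ff (f721737 IH) (Lpn v14286))))
theorem f924762 : (LP (LK LD1_c5 LD2_c11 LD3_c50)) = v14286 :=
  Lefun (Lecon (Lfl_af (f722950 IH)) (f924761 IH)) (f721738 IH)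
theorem f924769 : (LP (LK LD1_c5 LD2_c4 LD3_c41)) = v14511 :=
  Lefun (Lecon (Lfl_ff (f721737 IH)) (f924762 IH).symm) (f722941 IH)
theorem f163834 : Led Lsl_gt (LP (LK LD1_c5 LD2_c4 LD3_c41)) = (LP (LK LD1_c5 LD2_c11 LD3_c51)) :=
  Lgr Lrot46 (Lpe (f21414 IH) (Lpr_ft (K10.f21409 IH) (Lpr_at (K48.f163827 IH) (Lpn (LP (LK LD1_c5 LD2_c11 LD3_c51))))))
theorem f151868 : Led Lsl_at (LP (LK LD1_c9 LD2_c6 LD3_c53)) = (LP (LK LD1_c5 LD2_c52 LD3_c54)) :=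
  Lgr Lrot100 (Lpr_af (K7.f151866 IH) (Lpn (LP (LK LD1_c5 LD2_c52 LD3_c54))))
theorem f164572 : Led Lsl_dt (LP (LK LD1_c5 LD2_c8 LD3_c25)) = (LP (LK LD1_c9 LD2_c6 LD3_c53)) :=
  Lgr Lrot44 (Lpr_af (K49.f164554 IH) (Lpe (K10.f164357 IH) (Lpe (f151868 IH) (Lpn (LP (LK LD1_c9 LD2_c6 LD3_c53))))))
def v28181 : LQ := Led Lsl_et K48.v7996
theorem f843151 : Led Lsl_et K48.v7996 = v28181 :=
  Lrfl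
theorem f843153 : Led Lsl_cf (LP (LK LD1_c9 LD2_c6 LD3_c53)) = v28181 :=
  Lgr Lrot39 (Lpr_et (K7.f151871 IH) (Lpr_ct (K48.f669555 IH) (Lpr_et (f843151 IH) (Lpn v28181))))
theorem f669554 : Led Lsl_cf (LP (LK LD1_c4 LD2_c35 LD3_c3)) = K48.v7996 :=
  Lgr Lrot116 (Lpr_dt (K24.f25241 IH) (Lpe (K48.f25238 IH) (Lpe (K24.f144060 IH) (Lpr_ct (K7.f25224 IH) (Lpr_af (K32.f151880 IH) (Lpe (K7.f22568 IH) (Lpr_dt (K7.f22726 IH) (Lpr_ct (K42.f500339 IH) (Lpr_dt (K48.f669550 IH) (Lpn K48.v7996))))))))))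
theorem f669594 : Led Lsl_ft K64.v4193 = K48.v7996 :=
  Lgr Lrot4 (Lpe (K64.f631783 IH) (Lpe (K32.f25247 IH) (Lpr_cf (f669554 IH) (Lpn K48.v7996))))
def v1262 : LQ := Led Lsl_ct (LP (LK LD1_c1 LD2_c4 LD3_c28))
theorem f494379 : Led Lsl_ct (LP (LK LD1_c1 LD2_c4 LD3_c28)) = v1262 :=
  Lrfl
theorem f494381 : Led Lsl_cf (LP (LK LD1_c1 LD2_c4 LD3_c28)) = v1262 :=
  Lgr Lrot11 (Lpr_ct (f494379 IH) (Lpn v1262))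
theorem f631786 : Led Lsl_ef v1262 = K64.v4193 :=
  Lgr Lrot28 (Lpe (f494381 IH) (Lpr_et (K54.f140763 IH) (Lpr_ct (K64.f631783 IH) (Lpn K64.v4193))))
theorem f631789 : Led Lsl_et v1262 = K64.v4193 :=
  Lgr Lrot87 (Lpr_ef (f631786 IH) (Lpn K64.v4193))
def v1618 : LQ := Led Lsl_ct (LP (LK LD1_c1 LD2_c22 LD3_c31))
theorem f500389 : Led Lsl_ct (LP (LK LD1_c1 LD2_c22 LD3_c31)) = v1618 :=
  Lrfl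
theorem f500391 : Led Lsl_ff K35.v434 = v1618 :=
  Lgr Lrot23 (Lpe (K35.f452806 IH) (Lpr_ft (K12.f24426 IH) (Lpr_ct (f500389 IH) (Lpn v1618))))
theorem f500392 : Led Lsl_df v1262 = v1618 :=
  Lgr Lrot106 (Lpe (f494381 IH) (Lpr_dt (K54.f20320 IH) (Lpr_ct (K12.f20310 IH) (Lpe (K9.f164259 IH) (Lpr_ct (K12.f20312 IH) (Lpr_af (K7.f151818 IH) (Lpe (K7.f151827 IH) (Lpr_dt (K7.f24577 IH) (Lpr_ct (f500389 IH) (Lpn v1618))))))))))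
theorem f500390 : Led Lsl_cf (LP (LK LD1_c1 LD2_c22 LD3_c31)) = v1618 :=
  Lgr Lrot11 (Lpr_ct (f500389 IH) (Lpn v1618))
theorem f500393 : Led Lsl_dt v1262 = v1618 :=
  Lgr Lrot173 (Lpe (f494379 IH) (Lpe (K40.f69330 IH) (Lpe (K12.f20312 IH) (Lpr_df (K9.f164259 IH) (Lpe (K12.f20310 IH) (Lpe (K54.f20320 IH) (Lpr_cf (f494381 IH) (Lpr_df (f500392 IH) (Lpe (f500389 IH) (Lpe (K7.f24577 IH) (Lpe (K12.f24576 IH) (Lpr_df (K9.f24424 IH) (Lpe (K9.f24578 IH) (Lpe (K10.f24579 IH) (Lpr_cf (f500390 IH) (Lpn v1618))))))))))))))))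
theorem f536456 : Led Lsl_ff v1262 = K42.v3000 :=
  Lgr Lrot19 (Lpr_dt (f500393 IH) (Lpe (f500391 IH) (Lpr_dt (K42.f536453 IH) (Lpn K42.v3000))))
def v9673 : LQ := Led Lsl_et K42.v3000
theorem f677132 : Led Lsl_et K42.v3000 = v9673 :=
  Lrfl
theorem f677135 : Led Lsl_ef K42.v3000 = v9673 :=
  Lgr Lrot88 (Lpr_et (f677132 IH) (Lpn v9673))
theorem f843156 : Led Lsl_ff v9673 = v28181 :=
  Lgr Lrot72 (Lpe (f677135 IH) (Lpe (f536456 IH) (Lpr_et (f631789 IH) (Lpr_ft (f669594 IH) (Lpr_et (f843151 IH) (Lpn v28181))))))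
theorem f164261 : Led Lsl_ft (LP (LK LD1_c0 LD2_c17 LD3_c1)) = (LP (LK LD1_c0 LD2_c38 LD3_c14)) :=
  Lre_f IH (LK LD1_c0 LD2_c17 LD3_c1) (LK LD1_c0 LD2_c38 LD3_c14) Lrfl Lrfl
theorem f151834 : Led Lsl_af (LP (LK LD1_c1 LD2_c4 LD3_c29)) = (LP (LK LD1_c0 LD2_c38 LD3_c14)) :=
  Lgr Lrot0 (Lpr_at (K7.f151828 IH) (Lpn (LP (LK LD1_c0 LD2_c38 LD3_c14))))
theorem f536457 : Led Lsl_cf (LP (LK LD1_c2 LD2_c14 LD3_c44)) = K42.v3000 :=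
  Lgr Lrot116 (Lpr_dt (K7.f20332 IH) (Lpr_ct (K7.f20328 IH) (Lpr_dt (K9.f164255 IH) (Lpr_ct (K7.f20326 IH) (Lpr_af (f151834 IH) (Lpe (f164261 IH) (Lpr_dt (K12.f24421 IH) (Lpr_ct (K35.f452805 IH) (Lpr_dt (K42.f536453 IH) (Lpn K42.v3000))))))))))
theorem f500394 : Led Lsl_ft K35.v434 = v1618 :=
  Lgr Lrot48 (Lpr_ff (f500391 IH) (Lpn v1618))
theorem f536460 : Led Lsl_at v1618 = K42.v3000 :=
  Lgr Lrot33 (Lpe (f500394 IH) (Lpr_dt (K42.f536453 IH) (Lpe (f536457 IH) (Lpr_dt (K7.f20332 IH) (Lpr_ct (K7.f20328 IH) (Lpr_dt (K9.f164255 IH) (Lpr_ct (K7.f20326 IH) (Lpr_dt (K35.f151859 IH) (Lpr_ct (K42.f536459 IH) (Lpn K42.v3000))))))))))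
def v4932 : LQ := Led Lsl_ct (LP (LK LD1_c2 LD2_c52 LD3_c53))
theorem f640958 : Led Lsl_ct (LP (LK LD1_c2 LD2_c52 LD3_c53)) = v4932 :=
  Lrfl
theorem f151833 : Led Lsl_et (LP (LK LD1_c1 LD2_c22 LD3_c31)) = (LP (LK LD1_c2 LD2_c52 LD3_c53)) :=
  Lre_e IH (LK LD1_c1 LD2_c22 LD3_c31) (LK LD1_c2 LD2_c52 LD3_c53) Lrfl Lrfl
theorem f640960 : Led Lsl_ef v1618 = v4932 :=
  Lgr Lrot28 (Lpe (f500390 IH) (Lpr_et (f151833 IH) (Lpr_ct (f640958 IH) (Lpn v4932))))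
theorem f677133 : Led Lsl_af v4932 = v9673 :=
  Lgr Lrot50 (Lpe (f640960 IH) (Lpr_at (f536460 IH) (Lpr_et (f677132 IH) (Lpn v9673))))
def v16122 : LQ := Led Lsl_ct (LP (LK LD1_c5 LD2_c52 LD3_c54))
theorem f746640 : Led Lsl_ct (LP (LK LD1_c5 LD2_c52 LD3_c54)) = v16122 :=
  Lrfl
theorem f640959 : Led Lsl_cf (LP (LK LD1_c2 LD2_c52 LD3_c53)) = v4932 :=
  Lgr Lrot11 (Lpr_ct (f640958 IH) (Lpn v4932))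
theorem f746643 : Led Lsl_ff v4932 = v16122 :=
  Lgr Lrot23 (Lpe (f640959 IH) (Lpr_ft (K7.f151865 IH) (Lpr_ct (f746640 IH) (Lpn v16122))))
theorem f746647 : Led Lsl_ft v4932 = v16122 :=
  Lgr Lrot48 (Lpr_ff (f746643 IH) (Lpn v16122))
theorem f843157 : Led Lsl_at v16122 = v28181 :=
  Lgr Lrot66 (Lpe (f746647 IH) (Lpr_af (f677133 IH) (Lpr_ff (f843156 IH) (Lpn v28181))))
def v24727 : LQ := Led Lsl_gt v4932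
theorem f825352 : Led Lsl_gt v4932 = v24727 :=
  Lrfl
theorem f843162 : Led Lsl_gt v24727 = v28181 :=
  Lgr Lrot46 (Lpe (f825352 IH) (Lpr_ft (f746647 IH) (Lpr_at (f843157 IH) (Lpn v28181))))
theorem f924785 : v24727 = v16314 :=
  (Llr Lrot104 (Lpr_gt (f843162 IH) (Lpe (f843153 IH) (Lpe (f164572 IH) (Lpr_cf (K48.f164556 IH) (Lpe (f163834 IH) (Lpqs (f924769 IH) (Lpr_cf (f924753 IH) (Lpq (f903901 IH) (Lpe (f699946 IH) (Lpr_df (K2.f82197 IH) (Lpr_gt (f82207 IH) (Lpr_ct (f748418 IH) (Lpn v16314)))))))))))))).symm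
def v24728 : LQ := Led Lsl_gf v4932
theorem f825353 : Led Lsl_gf v4932 = v24728 :=
  Lrfl
theorem f843160 : Led Lsl_gf v24728 = v28181 :=
  Lgr Lrot47 (Lpe (f825353 IH) (Lpr_af (f677133 IH) (Lpr_ff (f843156 IH) (Lpn v28181))))
theorem f924786 : v16317 = v24728 :=
  (Llr Lrot26 (Lpr_af (f901553 IH) (Lpe (f901557 IH) (Lpq (f924785 IH) (Lpr_gt (f843162 IH) (Lpe (f843160 IH) (Lpn v24728))))))).symm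
theorem f843159 : Led Lsl_ft v9673 = v28181 :=
  Lgr Lrot48 (Lpr_ff (f843156 IH) (Lpn v28181))
theorem f640913 : Led Lsl_ff K42.v1606 = K69.v4918 :=
  Lgr Lrot23 (Lpe (K69.f500340 IH) (Lpr_ft (K24.f22519 IH) (Lpr_ct (K69.f640911 IH) (Lpn K69.v4918))))
theorem f640916 : Led Lsl_ft K42.v1606 = K69.v4918 :=
  Lgr Lrot48 (Lpr_ff (f640913 IH) (Lpn K69.v4918))
theorem f669556 : Led Lsl_at K69.v4918 = K48.v7996 :=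
  Lgr Lrot33 (Lpe (f640916 IH) (Lpr_dt (K48.f669550 IH) (Lpe (f669554 IH) (Lpr_dt (K24.f25241 IH) (Lpe (K48.f25238 IH) (Lpe (K24.f144060 IH) (Lpr_ct (K7.f25224 IH) (Lpr_dt (K32.f25240 IH) (Lpr_ct (K48.f669555 IH) (Lpn K48.v7996))))))))))
theorem f746642 : Led Lsl_ef K69.v4918 = v16122 :=
  Lgr Lrot28 (Lpe (K69.f640912 IH) (Lpr_et (K7.f151872 IH) (Lpr_ct (f746640 IH) (Lpn v16122))))
theorem f843152 : Led Lsl_af v16122 = v28181 :=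
  Lgr Lrot50 (Lpe (f746642 IH) (Lpr_at (f669556 IH) (Lpr_et (f843151 IH) (Lpn v28181))))
theorem f151751 : Led Lsl_bt (LP (LK LD1_c16 LD2_c58 LD3_c41)) = (LP (LK LD1_c9 LD2_c6 LD3_c53)) :=
  Lre_b IH (LK LD1_c16 LD2_c58 LD3_c41) (LK LD1_c9 LD2_c6 LD3_c53) Lrfl Lrfl
theorem f151752 : Led Lsl_bt (LP (LK LD1_c5 LD2_c8 LD3_c25)) = (LP (LK LD1_c10 LD2_c6 LD3_c42)) :=
  Lre_b IH (LK LD1_c5 LD2_c8 LD3_c25) (LK LD1_c10 LD2_c6 LD3_c42) Lrfl Lrfl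
theorem f151753 : Led Lsl_dt (LP (LK LD1_c9 LD2_c6 LD3_c53)) = (LP (LK LD1_c5 LD2_c8 LD3_c25)) :=
  Lgr Lrot79 (Lpe (f151751 IH) (Lpr_df (K7.f151747 IH) (Lpe (f151752 IH) (Lpn (LP (LK LD1_c5 LD2_c8 LD3_c25))))))
theorem f843161 : Led Lsl_dt v9673 = v28181 :=
  Lgr Lrot159 (Lpr_ft (f843159 IH) (Lpe (f843152 IH) (Lpe (f746640 IH) (Lpr_df (K71.f164360 IH) (Lpe (K49.f163960 IH) (Lpe (K0.f21407 IH) (Lpe (K48.f164551 IH) (Lpe (f151753 IH) (Lpr_cf (f843153 IH) (Lpn v28181))))))))))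
def v30224 : LQ := Led Lsl_gt v9673
theorem f853196 : Led Lsl_gt v9673 = v30224 :=
  Lrfl
theorem f924814 : v38356 = v30224 :=
  (Llr Lrot169 (Lpe (f901532 IH) (Lpr_gt (f71393 IH) (Lpr_ct (f748383 IH) (Lpe (f748388 IH) (Lpe (K71.f641224 IH) (Lpe (f82206 IH) (Lpr_cf (f748431 IH) (Lpqs (f924786 IH) (Lpr_gf (f843160 IH) (Lpe (f843161 IH) (Lpr_gt (f853196 IH) (Lpn v30224))))))))))))).symm
theorem f71244 : Led Lsl_bt (LP (LK LD1_c9 LD2_c9 LD3_c4)) = (LP (LK LD1_c4 LD2_c36 LD3_c36)) :=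
  Lre_b IH (LK LD1_c9 LD2_c9 LD3_c4) (LK LD1_c4 LD2_c36 LD3_c36) Lrfl Lrfl
theorem f71248 : Led Lsl_ct (LP (LK LD1_c9 LD2_c9 LD3_c4)) = (LP (LK LD1_c17 LD2_c2 LD3_c6)) :=
  Lre_c IH (LK LD1_c9 LD2_c9 LD3_c4) (LK LD1_c17 LD2_c2 LD3_c6) Lrfl Lrfl
theorem f853197 : Led Lsl_gf v16122 = v30224 :=
  Lgr Lrot76 (Lpr_af (f843152 IH) (Lpe (f843159 IH) (Lpr_gt (f853196 IH) (Lpn v30224))))
theorem f599785 : Led Lsl_bt (LP (LK LD1_c5 LD2_c52 LD3_c54)) = (LP (LK LD1_c9 LD2_c14 LD3_c41)) :=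
  Lgr Lrot119 (Lpe (K7.f151872 IH) (Lpe (K52.f151886 IH) (Lpr_ef (K70.f599778 IH) (Lpn (LP (LK LD1_c9 LD2_c14 LD3_c41))))))
theorem f334647 : Led Lsl_at (LP (LK LD1_c4 LD2_c39 LD3_c31)) = (LP (LK LD1_c2 LD2_c58 LD3_c8)) :=
  Lgr Lrot100 (Lpr_af (K35.f334643 IH) (Lpn (LP (LK LD1_c2 LD2_c58 LD3_c8))))
theorem f172080 : Led Lsl_gt (LP (LK LD1_c6 LD2_c4 LD3_c7)) = (LP (LK LD1_c2 LD2_c58 LD3_c8)) :=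
  Lre_g IH (LK LD1_c6 LD2_c4 LD3_c7) (LK LD1_c2 LD2_c58 LD3_c8) Lrfl Lrfl
theorem f334922 : Led Lsl_gt (LP (LK LD1_c9 LD2_c14 LD3_c41)) = (LP (LK LD1_c6 LD2_c4 LD3_c7)) :=
  Lgr Lrot5 (Lpr_ft (K70.f176582 IH) (Lpr_at (f334647 IH) (Lpe (f172080 IH) (Lpn (LP (LK LD1_c6 LD2_c4 LD3_c7))))))
theorem f172082 : Led Lsl_bt (LP (LK LD1_c11 LD2_c51 LD3_c52)) = (LP (LK LD1_c6 LD2_c4 LD3_c7)) :=
  Lre_b IH (LK LD1_c11 LD2_c51 LD3_c52) (LK LD1_c6 LD2_c4 LD3_c7) Lrfl Lrfl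
theorem f334924 : Led Lsl_ct (LP (LK LD1_c11 LD2_c51 LD3_c52)) = (LP (LK LD1_c20 LD2_c54 LD3_c31)) :=
  Lre_c IH (LK LD1_c11 LD2_c51 LD3_c52) (LK LD1_c20 LD2_c54 LD3_c31) Lrfl Lrfl
theorem f924816 : Led Lsl_gf (LP (LK LD1_c17 LD2_c2 LD3_c6)) = (LP (LK LD1_c20 LD2_c54 LD3_c31)) :=
  Lgr Lrot126 (Lpe (f71248 IH) (Lpr_bt (f71244 IH) (Lpr_gt (K35.f71285 IH) (Lpr_ct (f901530 IH) (Lpqs (f924814 IH) (Lpe (f853197 IH) (Lpe (f746640 IH) (Lpr_bt (f599785 IH) (Lpr_gt (f334922 IH) (Lpe (f172082 IH) (Lpr_ct (f334924 IH) (Lpn (LP (LK LD1_c20 LD2_c54 LD3_c31))))))))))))))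
theorem f924817 : Led Lsl_gt (LP (LK LD1_c20 LD2_c54 LD3_c31)) = (LP (LK LD1_c17 LD2_c2 LD3_c6)) :=
  Leop (Lpr_gf (f924816 IH) (Lpn (LP (LK LD1_c20 LD2_c54 LD3_c31))))
theorem seed_2501 : LEOK LG_g (LK LD1_c20 LD2_c54 LD3_c31) :=
  Leoe_g (LK LD1_c20 LD2_c54 LD3_c31) (f924817 IH)
def v16876 : LQ := Led Lsl_gt (LP (LK LD1_c6 LD2_c8 LD3_c16))
theorem f752285 : Led Lsl_gt (LP (LK LD1_c6 LD2_c8 LD3_c16)) = v16876 :=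
  Lrfl
theorem f599493 : Led Lsl_bf (LP (LK LD1_c9 LD2_c10 LD3_c56)) = (LP (LK LD1_c4 LD2_c39 LD3_c15)) :=
  Lgr Lrot24 (Lpr_bt (K55.f599489 IH) (Lpn (LP (LK LD1_c4 LD2_c39 LD3_c15))))
def v13095 : LQ := Led Lsl_et (LP (LK LD1_c4 LD2_c39 LD3_c14))
theorem f701081 : Led Lsl_et (LP (LK LD1_c4 LD2_c39 LD3_c14)) = v13095 :=
  Lrfl
theorem f701084 : Led Lsl_ef (LP (LK LD1_c4 LD2_c39 LD3_c14)) = v13095 :=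
  Lgr Lrot88 (Lpr_et (f701081 IH) (Lpn v13095))
theorem f23976 : Led Lsl_et (LP (LK LD1_c2 LD2_c16 LD3_c36)) = (LP (LK LD1_c4 LD2_c39 LD3_c15)) :=
  Lre_e IH (LK LD1_c2 LD2_c16 LD3_c36) (LK LD1_c4 LD2_c39 LD3_c15) Lrfl Lrfl
theorem f701086 : Led Lsl_ct (LP (LK LD1_c4 LD2_c39 LD3_c15)) = v13095 :=
  Lgr Lrot15 (Lpe (f23976 IH) (Lpe (K36.f175904 IH) (Lpr_ef (f701084 IH) (Lpn v13095))))
def v16672 : LQ := Led Lsl_ct (LP (LK LD1_c6 LD2_c4 LD3_c7))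
theorem f750920 : Led Lsl_ct (LP (LK LD1_c6 LD2_c4 LD3_c7)) = v16672 :=
  Lrfl
theorem f924818 : Led Lsl_gf v13095 = v16672 :=
  Lgr Lrot129 (Lpe (f701086 IH) (Lpe (f599493 IH) (Lpe (K69.f897849 IH) (Lpe (K69.f631674 IH) (Lpr_ct (f901530 IH) (Lpqs (f924814 IH) (Lpe (f853197 IH) (Lpe (f746640 IH) (Lpr_bt (f599785 IH) (Lpr_gt (f334922 IH) (Lpr_ct (f750920 IH) (Lpn v16672))))))))))))
theorem f701083 : Led Lsl_cf (LP (LK LD1_c4 LD2_c39 LD3_c15)) = v13095 :=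
  Lgr Lrot39 (Lpr_et (K36.f175912 IH) (Lpr_ct (K10.f175898 IH) (Lpr_et (f701081 IH) (Lpn v13095))))
def v5121 : LQ := Led Lsl_et (LP (LK LD1_c2 LD2_c58 LD3_c55))
theorem f646045 : Led Lsl_et (LP (LK LD1_c2 LD2_c58 LD3_c55)) = v5121 :=
  Lrfl
theorem f59953 : Led Lsl_et (LP (LK LD1_c3 LD2_c0 LD3_c22)) = (LP (LK LD1_c1 LD2_c25 LD3_c56)) :=
  Lre_e IH (LK LD1_c3 LD2_c0 LD3_c22) (LK LD1_c1 LD2_c25 LD3_c56) Lrfl Lrfl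
theorem f646047 : Led Lsl_cf (LP (LK LD1_c3 LD2_c0 LD3_c22)) = v5121 :=
  Lgr Lrot39 (Lpr_et (f59953 IH) (Lpe (K10.f183373 IH) (Lpr_et (f646045 IH) (Lpn v5121))))
def v24948 : LQ := Led Lsl_gf v5121
theorem f826304 : Led Lsl_gf v5121 = v24948 :=
  Lrfl
def v35988 : LQ := Led Lsl_ct (LP (LK LD1_c8 LD2_c14 LD3_c56))
theorem f881539 : Led Lsl_ct (LP (LK LD1_c8 LD2_c14 LD3_c56)) = v35988 :=
  Lrfl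
theorem f924821 : v24948 = v35988 :=
  (Llr Lrot104 (Lpe (f826304 IH) (Lpe (f646047 IH) (Lpr_df (K36.f176037 IH) (Lpr_cf (f701083 IH) (Lpr_gf (f924818 IH) (Lpe (f750920 IH) (Lpe (f334922 IH) (Lpr_df (K70.f176584 IH) (Lpr_gt (K70.f334645 IH) (Lpr_ct (f881539 IH) (Lpn v35988)))))))))))).symm
theorem f163829 : Led Lsl_gf (LP (LK LD1_c5 LD2_c4 LD3_c43)) = (LP (LK LD1_c5 LD2_c11 LD3_c49)) :=
  Lgr Lrot76 (Lpr_af (K48.f163822 IH) (Lpe (K0.f21405 IH) (Lpr_gt (K71.f21412 IH) (Lpn (LP (LK LD1_c5 LD2_c11 LD3_c49))))))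
theorem f722948 : Led Lsl_cf (LP (LK LD1_c5 LD2_c11 LD3_c49)) = v14512 :=
  Lgr Lrot11 (Lpr_ct (f722947 IH) (Lpn v14512))
theorem f747286 : Led Lsl_bt (LP (LK LD1_c5 LD2_c55 LD3_c27)) = (LP (LK LD1_c11 LD2_c36 LD3_c13)) :=
  Lre_b IH (LK LD1_c5 LD2_c55 LD3_c27) (LK LD1_c11 LD2_c36 LD3_c13) Lrfl Lrfl
theorem f646048 : Led Lsl_ef (LP (LK LD1_c2 LD2_c58 LD3_c55)) = v5121 :=
  Lgr Lrot88 (Lpr_et (f646045 IH) (Lpn v5121))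
theorem f646050 : Led Lsl_ct (LP (LK LD1_c3 LD2_c0 LD3_c22)) = v5121 :=
  Lgr Lrot15 (Lpe (K36.f175924 IH) (Lpe (K39.f183376 IH) (Lpr_ef (f646048 IH) (Lpn v5121))))
theorem f176044 : Led Lsl_bt (LP (LK LD1_c3 LD2_c0 LD3_c22)) = (LP (LK LD1_c6 LD2_c8 LD3_c16)) :=
  Lre_b IH (LK LD1_c3 LD2_c0 LD3_c22) (LK LD1_c6 LD2_c8 LD3_c16) Lrfl Lrfl
theorem f924822 : (LP (LK LD1_c11 LD2_c36 LD3_c13)) = v16876 :=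
  (Llr Lrot92 (Lpe (f747286 IH) (Lpq (f924755 IH) (Lpe (f722948 IH) (Lpe (f163829 IH) (Lpr_cf (K48.f163951 IH) (Lpr_bt (K71.f599793 IH) (Lpr_gt (K70.f334645 IH) (Lpr_ct (f881539 IH) (Lpq (f924821 IH) (Lpe (f826304 IH) (Lpe (f646050 IH) (Lpr_bt (f176044 IH) (Lpr_gt (f752285 IH) (Lpn v16876))))))))))))))).symm
theorem f924823 : Led Lsl_gt (LP (LK LD1_c6 LD2_c8 LD3_c16)) = (LP (LK LD1_c11 LD2_c36 LD3_c13)) :=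
  Leop (Lpqs (f924822 IH) (Lpe (f752285 IH) (Lpn (LP (LK LD1_c6 LD2_c8 LD3_c16)))))
theorem seed_2502 : LEOK LG_g (LK LD1_c6 LD2_c8 LD3_c16) :=
  Leoe_g (LK LD1_c6 LD2_c8 LD3_c16) (f924823 IH)
theorem f903820 : Led Lsl_et (LP (LK LD1_c20 LD2_c34 LD3_c27)) = (LP (LK LD1_c11 LD2_c36 LD3_c13)) :=
  Lre_e IH (LK LD1_c20 LD2_c34 LD3_c27) (LK LD1_c11 LD2_c36 LD3_c13) Lrfl Lrfl
def v38695 : LQ := Led Lsl_bt (LP (LK LD1_c9 LD2_c14 LD3_c24))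
theorem f903816 : Led Lsl_bt (LP (LK LD1_c9 LD2_c14 LD3_c24)) = v38695 :=
  Lrfl
theorem f285171 : Led Lsl_bt (LP (LK LD1_c20 LD2_c34 LD3_c27)) = (LP (LK LD1_c11 LD2_c36 LD3_c14)) :=
  Lre_b IH (LK LD1_c20 LD2_c34 LD3_c27) (LK LD1_c11 LD2_c36 LD3_c14) Lrfl Lrfl
theorem f903818 : Led Lsl_df (LP (LK LD1_c20 LD2_c34 LD3_c27)) = v38695 :=
  Lgr Lrot12 (Lpr_bt (f285171 IH) (Lpe (K56.f285169 IH) (Lpr_bt (f903816 IH) (Lpn v38695))))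
theorem f903819 : Led Lsl_dt (LP (LK LD1_c20 LD2_c34 LD3_c27)) = v38695 :=
  Lgr Lrot42 (Lpr_df (f903818 IH) (Lpn v38695))
theorem f176051 : Led Lsl_et (LP (LK LD1_c3 LD2_c0 LD3_c21)) = (LP (LK LD1_c6 LD2_c8 LD3_c16)) :=
  Lre_e IH (LK LD1_c3 LD2_c0 LD3_c21) (LK LD1_c6 LD2_c8 LD3_c16) Lrfl Lrfl
theorem f175920 : Led Lsl_dt (LP (LK LD1_c3 LD2_c0 LD3_c21)) = (LP (LK LD1_c2 LD2_c0 LD3_c57)) :=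
  Lgr Lrot79 (Lpe (K39.f175919 IH) (Lpr_df (K9.f175917 IH) (Lpe (K16.f175915 IH) (Lpn (LP (LK LD1_c2 LD2_c0 LD3_c57))))))
theorem f546677 : Led Lsl_et (LP (LK LD1_c10 LD2_c2 LD3_c54)) = (LP (LK LD1_c5 LD2_c5 LD3_c58)) :=
  Lre_e IH (LK LD1_c10 LD2_c2 LD3_c54) (LK LD1_c5 LD2_c5 LD3_c58) Lrfl Lrfl
theorem f385350 : Led Lsl_ft (LP (LK LD1_c4 LD2_c5 LD3_c43)) = (LP (LK LD1_c3 LD2_c0 LD3_c1)) :=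
  Lgr Lrot54 (Lpe (K38.f56550 IH) (Lpr_ff (K30.f385346 IH) (Lpe (K42.f56006 IH) (Lpn (LP (LK LD1_c3 LD2_c0 LD3_c1))))))
theorem f547646 : Led Lsl_at (LP (LK LD1_c3 LD2_c0 LD3_c1)) = (LP (LK LD1_c5 LD2_c5 LD3_c58)) :=
  Lgr Lrot33 (Lpe (f385350 IH) (Lpr_dt (K18.f56547 IH) (Lpe (K38.f197242 IH) (Lpr_dt (K38.f197341 IH) (Lpr_ct (K38.f240080 IH) (Lpr_dt (K38.f240072 IH) (Lpr_ct (K38.f547634 IH) (Lpr_dt (K38.f546502 IH) (Lpr_ct (K38.f546501 IH) (Lpn (LP (LK LD1_c5 LD2_c5 LD3_c58))))))))))))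
theorem f385904 : Led Lsl_et (LP (LK LD1_c6 LD2_c7 LD3_c44)) = (LP (LK LD1_c3 LD2_c0 LD3_c1)) :=
  Lre_e IH (LK LD1_c6 LD2_c7 LD3_c44) (LK LD1_c3 LD2_c0 LD3_c1) Lrfl Lrfl
theorem f495427 : Led Lsl_et (LP (LK LD1_c5 LD2_c5 LD3_c58)) = (LP (LK LD1_c10 LD2_c2 LD3_c54)) :=
  Lre_e IH (LK LD1_c5 LD2_c5 LD3_c58) (LK LD1_c10 LD2_c2 LD3_c54) Lrfl Lrfl
theorem f547648 : Led Lsl_af (LP (LK LD1_c6 LD2_c7 LD3_c44)) = (LP (LK LD1_c10 LD2_c2 LD3_c54)) :=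
  Lgr Lrot50 (Lpr_et (f385904 IH) (Lpr_at (f547646 IH) (Lpr_et (f495427 IH) (Lpn (LP (LK LD1_c10 LD2_c2 LD3_c54))))))
theorem f547650 : Led Lsl_at (LP (LK LD1_c6 LD2_c7 LD3_c44)) = (LP (LK LD1_c10 LD2_c2 LD3_c54)) :=
  Lgr Lrot100 (Lpr_af (f547648 IH) (Lpn (LP (LK LD1_c10 LD2_c2 LD3_c54))))
theorem f541613 : Led Lsl_dt (LP (LK LD1_c11 LD2_c57 LD3_c53)) = (LP (LK LD1_c6 LD2_c7 LD3_c44)) :=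
  Lre_d IH (LK LD1_c11 LD2_c57 LD3_c53) (LK LD1_c6 LD2_c7 LD3_c44) Lrfl Lrfl
theorem f547666 : Led Lsl_df (LP (LK LD1_c9 LD2_c12 LD3_c41)) = (LP (LK LD1_c10 LD2_c2 LD3_c54)) :=
  Lgr Lrot18 (Lpr_at (K40.f541605 IH) (Lpr_dt (f541613 IH) (Lpr_at (f547650 IH) (Lpn (LP (LK LD1_c10 LD2_c2 LD3_c54))))))
theorem f541647 : Led Lsl_gt (LP (LK LD1_c17 LD2_c7 LD3_c2)) = (LP (LK LD1_c9 LD2_c12 LD3_c41)) :=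
  Lre_g IH (LK LD1_c17 LD2_c7 LD3_c2) (LK LD1_c9 LD2_c12 LD3_c41) Lrfl Lrfl
theorem f924828 : v38695 = (LP (LK LD1_c17 LD2_c7 LD3_c2)) :=
  (Llr Lrot136 (Lpe (f903819 IH) (Lpr_et (f903820 IH) (Lpqs (f924822 IH) (Lpe (f752285 IH) (Lpe (f176051 IH) (Lpr_dt (f175920 IH) (Lpe (K37.f542390 IH) (Lpe (K38.f542392 IH) (Lpe (K43.f579645 IH) (Lpe (f546677 IH) (Lpe (f547666 IH) (Lpe (f541647 IH) (Lpn (LP (LK LD1_c17 LD2_c7 LD3_c2)))))))))))))))).symm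
theorem f903900 : Led Lsl_af K69.v16642 = (LP (LK LD1_c11 LD2_c36 LD3_c14)) :=
  Lgr Lrot0 (Lpr_at (f903899 IH) (Lpn (LP (LK LD1_c11 LD2_c36 LD3_c14))))
theorem f903903 : Led Lsl_ft (LP (LK LD1_c11 LD2_c51 LD3_c4)) = (LP (LK LD1_c11 LD2_c36 LD3_c14)) :=
  Lgr Lrot2 (Lpr_gt (K71.f824348 IH) (Lpe (K71.f824345 IH) (Lpr_af (f903900 IH) (Lpn (LP (LK LD1_c11 LD2_c36 LD3_c14))))))
theorem f903909 : Led Lsl_ff (LP (LK LD1_c11 LD2_c51 LD3_c4)) = (LP (LK LD1_c11 LD2_c36 LD3_c14)) :=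
  Lgr Lrot3 (Lpr_ft (f903903 IH) (Lpn (LP (LK LD1_c11 LD2_c36 LD3_c14))))
theorem f186181 : Led Lsl_bt (LP (LK LD1_c11 LD2_c51 LD3_c4)) = (LP (LK LD1_c20 LD2_c53 LD3_c20)) :=
  Lre_b IH (LK LD1_c11 LD2_c51 LD3_c4) (LK LD1_c20 LD2_c53 LD3_c20) Lrfl Lrfl
theorem f903913 : Led Lsl_ft (LP (LK LD1_c20 LD2_c53 LD3_c20)) = (LP (LK LD1_c20 LD2_c34 LD3_c27)) :=
  Lgr Lrot75 (Lpe (f186181 IH) (Lpr_ff (f903909 IH) (Lpe (f285171 IH) (Lpn (LP (LK LD1_c20 LD2_c34 LD3_c27))))))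
theorem f903915 : Led Lsl_dt (LP (LK LD1_c11 LD2_c51 LD3_c2)) = (LP (LK LD1_c20 LD2_c53 LD3_c20)) :=
  Lre_d IH (LK LD1_c11 LD2_c51 LD3_c2) (LK LD1_c20 LD2_c53 LD3_c20) Lrfl Lrfl
theorem f903916 : Led Lsl_ff (LP (LK LD1_c11 LD2_c51 LD3_c2)) = v38695 :=
  Lgr Lrot19 (Lpr_dt (f903915 IH) (Lpr_ft (f903913 IH) (Lpr_dt (f903819 IH) (Lpn v38695))))
theorem f547672 : Led Lsl_gt (LP (LK LD1_c9 LD2_c12 LD3_c41)) = (LP (LK LD1_c17 LD2_c7 LD3_c1)) :=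
  Lre_g IH (LK LD1_c9 LD2_c12 LD3_c41) (LK LD1_c17 LD2_c7 LD3_c1) Lrfl Lrfl
theorem f924839 : Led Lsl_at (LP (LK LD1_c11 LD2_c51 LD3_c2)) = (LP (LK LD1_c17 LD2_c7 LD3_c1)) :=
  Lgr Lrot26 (Lpr_ff (f903916 IH) (Lpqs (f924828 IH) (Lpr_gt (f541647 IH) (Lpr_gt (f547672 IH) (Lpn (LP (LK LD1_c17 LD2_c7 LD3_c1)))))))
theorem f699498 : Led Lsl_bt (LP (LK LD1_c6 LD2_c3 LD3_c45)) = (LP (LK LD1_c11 LD2_c51 LD3_c2)) :=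
  Lre_b IH (LK LD1_c6 LD2_c3 LD3_c45) (LK LD1_c11 LD2_c51 LD3_c2) Lrfl Lrfl
theorem f903839 : (LP (LK LD1_c9 LD2_c14 LD3_c23)) = K69.v16639 :=
  Lefun (Lecon (Lfl_ff (f903814 IH)) (f903833 IH).symm) (K69.f750820 IH)
theorem f903809 : Led Lsl_bf (LP (LK LD1_c9 LD2_c14 LD3_c23)) = v38693 :=
  Lgr Lrot24 (Lpr_bt (f903808 IH) (Lpn v38693))
theorem f924735 : Led Lsl_af v38693 = (LP (LK LD1_c11 LD2_c47 LD3_c42)) :=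
  Lgr Lrot0 (Lpr_at (f924734 IH) (Lpn (LP (LK LD1_c11 LD2_c47 LD3_c42))))
theorem f924845 : Led Lsl_bf (LP (LK LD1_c11 LD2_c47 LD3_c42)) = (LP (LK LD1_c17 LD2_c7 LD3_c1)) :=
  Lgr Lrot81 (Lpe (f924735 IH) (Lpe (f903809 IH) (Lpqs (f903839 IH) (Lpe (K69.f750819 IH) (Lpr_bt (f699498 IH) (Lpr_at (f924839 IH) (Lpn (LP (LK LD1_c17 LD2_c7 LD3_c1)))))))))
theorem f924846 : Led Lsl_bt (LP (LK LD1_c17 LD2_c7 LD3_c1)) = (LP (LK LD1_c11 LD2_c47 LD3_c42)) :=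
  Leop (Lpr_bf (f924845 IH) (Lpn (LP (LK LD1_c17 LD2_c7 LD3_c1))))
theorem seed_2503 : LEOK LG_b (LK LD1_c17 LD2_c7 LD3_c1) :=
  Leoe_b (LK LD1_c17 LD2_c7 LD3_c1) (f924846 IH)
def v38696 : LQ := Led Lsl_ct (LP (LK LD1_c9 LD2_c14 LD3_c24))
theorem f903822 : Led Lsl_ct (LP (LK LD1_c9 LD2_c14 LD3_c24)) = v38696 :=
  Lrfl
theorem f903823 : Led Lsl_cf (LP (LK LD1_c9 LD2_c14 LD3_c24)) = v38696 :=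
  Lgr Lrot11 (Lpr_ct (f903822 IH) (Lpn v38696))
theorem f186205 : Led Lsl_ct (LP (LK LD1_c6 LD2_c3 LD3_c45)) = (LP (LK LD1_c11 LD2_c51 LD3_c3)) :=
  Lre_c IH (LK LD1_c6 LD2_c3 LD3_c45) (LK LD1_c11 LD2_c51 LD3_c3) Lrfl Lrfl
theorem f903928 : Led Lsl_ff v38696 = (LP (LK LD1_c11 LD2_c51 LD3_c3)) :=
  Lgr Lrot23 (Lpe (f903823 IH) (Lpq (K69.f903832 IH) (Lpe (K69.f750824 IH) (Lpr_ct (f186205 IH) (Lpn (LP (LK LD1_c11 LD2_c51 LD3_c3)))))))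
theorem f903930 : Led Lsl_ft v38696 = (LP (LK LD1_c11 LD2_c51 LD3_c3)) :=
  Lgr Lrot48 (Lpr_ff (f903928 IH) (Lpn (LP (LK LD1_c11 LD2_c51 LD3_c3))))
theorem f285160 : Led Lsl_ct (LP (LK LD1_c17 LD2_c8 LD3_c43)) = (LP (LK LD1_c9 LD2_c14 LD3_c23)) :=
  Lre_c IH (LK LD1_c17 LD2_c8 LD3_c43) (LK LD1_c9 LD2_c14 LD3_c23) Lrfl Lrfl
theorem f903923 : Led Lsl_af (LP (LK LD1_c17 LD2_c8 LD3_c43)) = (LP (LK LD1_c11 LD2_c51 LD3_c3)) :=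
  Lgr Lrot68 (Lpr_ct (f285160 IH) (Lpr_at (K69.f903802 IH) (Lpq (K71.f903836 IH) (Lpr_ct (f186205 IH) (Lpn (LP (LK LD1_c11 LD2_c51 LD3_c3)))))))
theorem f163836 : Led Lsl_et (LP (LK LD1_c10 LD2_c0 LD3_c32)) = (LP (LK LD1_c5 LD2_c4 LD3_c41)) :=
  Lre_e IH (LK LD1_c10 LD2_c0 LD3_c32) (LK LD1_c5 LD2_c4 LD3_c41) Lrfl Lrfl
theorem f924766 : (LP (LK LD1_c5 LD2_c11 LD3_c49)) = v14283 :=
  Lefun (Lecon (Lfl_ff (f722952 IH)) (f924761 IH)) (f721724 IH)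
theorem f722940 : Led Lsl_et (LP (LK LD1_c5 LD2_c11 LD3_c49)) = (LP (LK LD1_c10 LD2_c14 LD3_c32)) :=
  Lre_e IH (LK LD1_c5 LD2_c11 LD3_c49) (LK LD1_c10 LD2_c14 LD3_c32) Lrfl Lrfl
theorem f924886 : Led Lsl_af (LP (LK LD1_c10 LD2_c0 LD3_c32)) = (LP (LK LD1_c10 LD2_c14 LD3_c32)) :=
  Lgr Lrot50 (Lpr_et (f163836 IH) (Lpr_at (f721721 IH) (Lpq (f924766 IH) (Lpr_et (f722940 IH) (Lpn (LP (LK LD1_c10 LD2_c14 LD3_c32)))))))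
theorem f721739 : Led Lsl_ft (LP (LK LD1_c10 LD2_c0 LD3_c32)) = (LP (LK LD1_c18 LD2_c17 LD3_c30)) :=
  Lre_f IH (LK LD1_c10 LD2_c0 LD3_c32) (LK LD1_c18 LD2_c17 LD3_c30) Lrfl Lrfl
theorem f722951 : Led Lsl_ft (LP (LK LD1_c18 LD2_c38 LD3_c27)) = (LP (LK LD1_c10 LD2_c14 LD3_c32)) :=
  Lre_f IH (LK LD1_c18 LD2_c38 LD3_c27) (LK LD1_c10 LD2_c14 LD3_c32) Lrfl Lrfl
theorem f924895 : Led Lsl_at (LP (LK LD1_c18 LD2_c17 LD3_c30)) = (LP (LK LD1_c18 LD2_c38 LD3_c27)) :=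
  Lgr Lrot66 (Lpe (f721739 IH) (Lpr_af (f924886 IH) (Lpe (f722951 IH) (Lpn (LP (LK LD1_c18 LD2_c38 LD3_c27))))))
theorem f721723 : Led Lsl_et (LP (LK LD1_c5 LD2_c4 LD3_c41)) = (LP (LK LD1_c10 LD2_c0 LD3_c32)) :=
  Lre_e IH (LK LD1_c5 LD2_c4 LD3_c41) (LK LD1_c10 LD2_c0 LD3_c32) Lrfl Lrfl
theorem f924775 : Led Lsl_cf K69.v16642 = (LP (LK LD1_c10 LD2_c0 LD3_c32)) :=
  Lgr Lrot39 (Lpe (f750831 IH) (Lpqs (f903901 IH) (Lpe (f924753 IH) (Lpq (f924769 IH) (Lpr_et (f721723 IH) (Lpn (LP (LK LD1_c10 LD2_c0 LD3_c32))))))))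
theorem f903898 : Led Lsl_ft K69.v16642 = (LP (LK LD1_c17 LD2_c8 LD3_c44)) :=
  Lgr Lrot48 (Lpr_ff (f903897 IH) (Lpn (LP (LK LD1_c17 LD2_c8 LD3_c44))))
theorem f721736 : Led Lsl_ft (LP (LK LD1_c18 LD2_c17 LD3_c30)) = (LP (LK LD1_c10 LD2_c0 LD3_c32)) :=
  Lre_f IH (LK LD1_c18 LD2_c17 LD3_c30) (LK LD1_c10 LD2_c0 LD3_c32) Lrfl Lrfl
theorem f924777 : Led Lsl_ct (LP (LK LD1_c17 LD2_c8 LD3_c44)) = (LP (LK LD1_c18 LD2_c17 LD3_c30)) :=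
  Lgr Lrot40 (Lpe (f903898 IH) (Lpr_cf (f924775 IH) (Lpe (f721736 IH) (Lpn (LP (LK LD1_c18 LD2_c17 LD3_c30))))))
theorem f903911 : Led Lsl_at (LP (LK LD1_c11 LD2_c51 LD3_c4)) = (LP (LK LD1_c17 LD2_c8 LD3_c44)) :=
  Lgr Lrot66 (Lpr_ff (f903909 IH) (Lpe (f903899 IH) (Lpr_ff (f903897 IH) (Lpn (LP (LK LD1_c17 LD2_c8 LD3_c44))))))
theorem f924903 : Led Lsl_cf (LP (LK LD1_c11 LD2_c51 LD3_c4)) = (LP (LK LD1_c18 LD2_c38 LD3_c27)) :=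
  Lgr Lrot1 (Lpr_at (f903911 IH) (Lpr_ct (f924777 IH) (Lpr_at (f924895 IH) (Lpn (LP (LK LD1_c18 LD2_c38 LD3_c27))))))
theorem f924905 : Led Lsl_ct (LP (LK LD1_c11 LD2_c51 LD3_c4)) = (LP (LK LD1_c18 LD2_c38 LD3_c27)) :=
  Lgr Lrot59 (Lpr_cf (f924903 IH) (Lpn (LP (LK LD1_c18 LD2_c38 LD3_c27))))
theorem f924907 : Led Lsl_cf (LP (LK LD1_c11 LD2_c36 LD3_c14)) = (LP (LK LD1_c10 LD2_c14 LD3_c32)) :=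
  Lgr Lrot108 (Lpe (f903909 IH) (Lpr_ct (f924905 IH) (Lpr_ft (f722951 IH) (Lpn (LP (LK LD1_c10 LD2_c14 LD3_c32))))))
theorem f720906 : Led Lsl_cf (LP (LK LD1_c5 LD2_c5 LD3_c51)) = K71.v14187 :=
  Lgr Lrot39 (Lpr_et (K17.f177194 IH) (Lpr_ct (K10.f177182 IH) (Lpr_et (K71.f720904 IH) (Lpn K71.v14187))))
theorem f923087 : Led Lsl_cf (LP (LK LD1_c18 LD2_c38 LD3_c25)) = (LP (LK LD1_c18 LD2_c26 LD3_c1)) :=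
  Lgr Lrot166 (Lpr_gt (K71.f923084 IH) (Lpr_dt (K71.f163833 IH) (Lpr_gt (K71.f923083 IH) (Lpe (K71.f923079 IH) (Lpe (f720906 IH) (Lpe (K17.f177685 IH) (Lpe (K70.f176546 IH) (Lpr_df (K70.f414574 IH) (Lpe (K71.f920156 IH) (Lpn (LP (LK LD1_c18 LD2_c26 LD3_c1))))))))))))
theorem f334810 : Led Lsl_gt (LP (LK LD1_c9 LD2_c51 LD3_c8)) = (LP (LK LD1_c11 LD2_c51 LD3_c58)) :=
  Lgr Lrot46 (Lpe (K70.f176543 IH) (Lpr_ft (K70.f176550 IH) (Lpr_at (K70.f334804 IH) (Lpn (LP (LK LD1_c11 LD2_c51 LD3_c58))))))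
theorem f186411 : Led Lsl_ct (LP (LK LD1_c11 LD2_c51 LD3_c58)) = (LP (LK LD1_c11 LD2_c51 LD3_c25)) :=
  Lgr Lrot59 (Lpr_cf (K36.f186399 IH) (Lpn (LP (LK LD1_c11 LD2_c51 LD3_c25))))
def v38712 : LQ := Led Lsl_gf (LP (LK LD1_c9 LD2_c14 LD3_c34))
theorem f904041 : Led Lsl_gf (LP (LK LD1_c9 LD2_c14 LD3_c34)) = v38712 :=
  Lrfl
theorem f904042 : Led Lsl_gt (LP (LK LD1_c11 LD2_c51 LD3_c25)) = v38712 :=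
  Lgr Lrot5 (Lpr_ft (K36.f186416 IH) (Lpe (K36.f334786 IH) (Lpr_gf (f904041 IH) (Lpn v38712))))
theorem f924911 : v38696 = v38712 :=
  (Llr Lrot99 (Lpe (f903823 IH) (Lpr_df (K56.f285169 IH) (Lpr_cf (f924907 IH) (Lpe (K71.f923084 IH) (Lpr_cf (f923087 IH) (Lpr_gf (K71.f920150 IH) (Lpe (K70.f176544 IH) (Lpr_gt (f334810 IH) (Lpr_ct (f186411 IH) (Lpr_gt (f904042 IH) (Lpn v38712)))))))))))).symm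
def v38711 : LQ := Led Lsl_gt (LP (LK LD1_c9 LD2_c14 LD3_c34))
theorem f904039 : Led Lsl_gt (LP (LK LD1_c9 LD2_c14 LD3_c34)) = v38711 :=
  Lrfl
theorem f924912 : (LP (LK LD1_c17 LD2_c8 LD3_c43)) = v38711 :=
  (Llr Lrot26 (Lpr_af (f903923 IH) (Lpe (f903930 IH) (Lpqs (f924911 IH) (Lpe (f904041 IH) (Lpr_gt (f904039 IH) (Lpn v38711))))))).symm
theorem f904040 : Led Lsl_gf (LP (LK LD1_c11 LD2_c51 LD3_c25)) = v38711 :=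
  Lgr Lrot76 (Lpe (K36.f334798 IH) (Lpe (K36.f176539 IH) (Lpr_gt (f904039 IH) (Lpn v38711))))
theorem f924913 : Led Lsl_gt (LP (LK LD1_c17 LD2_c8 LD3_c43)) = (LP (LK LD1_c11 LD2_c51 LD3_c25)) :=
  Leop (Lpr_gf (f904040 IH) (Lpq (f924912 IH) (Lpn (LP (LK LD1_c17 LD2_c8 LD3_c43)))))
theorem seed_2504 : LEOK LG_g (LK LD1_c17 LD2_c8 LD3_c43) :=
  Leoe_g (LK LD1_c17 LD2_c8 LD3_c43) (f924913 IH)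
theorem f138512 : Led Lsl_et (LP (LK LD1_c6 LD2_c16 LD3_c8)) = (LP (LK LD1_c12 LD2_c9 LD3_c50)) :=
  Lre_e IH (LK LD1_c6 LD2_c16 LD3_c8) (LK LD1_c12 LD2_c9 LD3_c50) Lrfl Lrfl
theorem f596442 : Led Lsl_af (LP (LK LD1_c8 LD2_c12 LD3_c13)) = (LP (LK LD1_c12 LD2_c9 LD3_c50)) :=
  Lgr Lrot50 (Lpr_et (K40.f198548 IH) (Lpr_at (K50.f596436 IH) (Lpr_et (f138512 IH) (Lpn (LP (LK LD1_c12 LD2_c9 LD3_c50))))))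
theorem f138498 : Led Lsl_et (LP (LK LD1_c12 LD2_c9 LD3_c50)) = (LP (LK LD1_c6 LD2_c16 LD3_c8)) :=
  Lre_e IH (LK LD1_c12 LD2_c9 LD3_c50) (LK LD1_c6 LD2_c16 LD3_c8) Lrfl Lrfl
theorem f138499 : Led Lsl_et (LP (LK LD1_c9 LD2_c8 LD3_c53)) = (LP (LK LD1_c17 LD2_c1 LD3_c43)) :=
  Lre_e IH (LK LD1_c9 LD2_c8 LD3_c53) (LK LD1_c17 LD2_c1 LD3_c43) Lrfl Lrfl
theorem f138500 : Led Lsl_df (LP (LK LD1_c12 LD2_c9 LD3_c50)) = (LP (LK LD1_c17 LD2_c1 LD3_c43)) :=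
  Lgr Lrot70 (Lpr_et (f138498 IH) (Lpr_dt (K50.f138497 IH) (Lpr_et (K42.f138496 IH) (Lpr_dt (K35.f138490 IH) (Lpr_et (f138499 IH) (Lpn (LP (LK LD1_c17 LD2_c1 LD3_c43))))))))
theorem f596448 : Led Lsl_at (LP (LK LD1_c11 LD2_c32 LD3_c32)) = (LP (LK LD1_c17 LD2_c1 LD3_c43)) :=
  Lgr Lrot51 (Lpr_df (f198537 IH) (Lpr_af (f596442 IH) (Lpr_df (f138500 IH) (Lpn (LP (LK LD1_c17 LD2_c1 LD3_c43))))))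
theorem f385311 : Led Lsl_bt (LP (LK LD1_c11 LD2_c57 LD3_c53)) = (LP (LK LD1_c6 LD2_c7 LD3_c48)) :=
  Lre_b IH (LK LD1_c11 LD2_c57 LD3_c53) (LK LD1_c6 LD2_c7 LD3_c48) Lrfl Lrfl
theorem f596452 : Led Lsl_bf (LP (LK LD1_c9 LD2_c12 LD3_c41)) = (LP (LK LD1_c17 LD2_c1 LD3_c43)) :=
  Lgr Lrot81 (Lpr_at (K40.f541605 IH) (Lpr_bt (f385311 IH) (Lpe (K49.f385307 IH) (Lpr_bt (K40.f198541 IH) (Lpr_at (f596448 IH) (Lpn (LP (LK LD1_c17 LD2_c1 LD3_c43))))))))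
theorem f138510 : Led Lsl_ct (LP (LK LD1_c17 LD2_c1 LD3_c43)) = (LP (LK LD1_c26 LD2_c56 LD3_c46)) :=
  Lre_c IH (LK LD1_c17 LD2_c1 LD3_c43) (LK LD1_c26 LD2_c56 LD3_c46) Lrfl Lrfl
theorem f334812 : Led Lsl_bt (LP (LK LD1_c18 LD2_c2 LD3_c17)) = (LP (LK LD1_c9 LD2_c51 LD3_c8)) :=
  Lre_b IH (LK LD1_c18 LD2_c2 LD3_c17) (LK LD1_c9 LD2_c51 LD3_c8) Lrfl Lrfl
theorem f334814 : Led Lsl_ct (LP (LK LD1_c18 LD2_c2 LD3_c17)) = (LP (LK LD1_c27 LD2_c44 LD3_c14)) :=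
  Lre_c IH (LK LD1_c18 LD2_c2 LD3_c17) (LK LD1_c27 LD2_c44 LD3_c14) Lrfl Lrfl
theorem f924915 : Led Lsl_gt (LP (LK LD1_c26 LD2_c56 LD3_c46)) = (LP (LK LD1_c27 LD2_c44 LD3_c14)) :=
  Lgr Lrot65 (Lpe (f138510 IH) (Lpe (f596452 IH) (Lpe (f541647 IH) (Lpq (f924828 IH) (Lpe (f903816 IH) (Lpr_ct (f903822 IH) (Lpqs (f924911 IH) (Lpe (f904042 IH) (Lpe (f186411 IH) (Lpe (f334810 IH) (Lpe (f334812 IH) (Lpr_ct (f334814 IH) (Lpn (LP (LK LD1_c27 LD2_c44 LD3_c14)))))))))))))))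
theorem f924916 : Led Lsl_gt (LP (LK LD1_c26 LD2_c56 LD3_c46)) = (LP (LK LD1_c27 LD2_c44 LD3_c14)) :=
  Leop (Lpe (f924915 IH) (Lpn (LP (LK LD1_c26 LD2_c56 LD3_c46))))
theorem seed_2505 : LEOK LG_g (LK LD1_c26 LD2_c56 LD3_c46) :=
  Leoe_g (LK LD1_c26 LD2_c56 LD3_c46) (f924916 IH)
def v14625 : LQ := Led Lsl_ct (LP (LK LD1_c5 LD2_c14 LD3_c53))
theorem f724113 : Led Lsl_ct (LP (LK LD1_c5 LD2_c14 LD3_c53)) = v14625 :=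
  Lrfl
def v14624 : LQ := Led Lsl_ft (LP (LK LD1_c5 LD2_c14 LD3_c52))
theorem f724109 : Led Lsl_ft (LP (LK LD1_c5 LD2_c14 LD3_c52)) = v14624 :=
  Lrfl
theorem f724111 : Led Lsl_ff (LP (LK LD1_c5 LD2_c14 LD3_c52)) = v14624 :=
  Lgr Lrot3 (Lpr_ft (f724109 IH) (Lpn v14624))
def v14622 : LQ := Led Lsl_ct (LP (LK LD1_c5 LD2_c14 LD3_c52))
theorem f724105 : Led Lsl_ct (LP (LK LD1_c5 LD2_c14 LD3_c52)) = v14622 :=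
  Lrfl
def v4930 : LQ := Led Lsl_gt (LP (LK LD1_c2 LD2_c52 LD3_c53))
def v24720 : LQ := Led Lsl_ct v4930
theorem f825324 : Led Lsl_ct v4930 = v24720 :=
  Lrfl
theorem f640952 : Led Lsl_gt (LP (LK LD1_c2 LD2_c52 LD3_c53)) = v4930 :=
  Lrfl
theorem f163654 : Led Lsl_et (LP (LK LD1_c2 LD2_c34 LD3_c15)) = (LP (LK LD1_c1 LD2_c14 LD3_c5)) :=
  Lre_e IH (LK LD1_c2 LD2_c34 LD3_c15) (LK LD1_c1 LD2_c14 LD3_c5) Lrfl Lrfl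
theorem f164351 : Led Lsl_dt (LP (LK LD1_c2 LD2_c52 LD3_c53)) = (LP (LK LD1_c2 LD2_c34 LD3_c15)) :=
  Lgr Lrot77 (Lpe (f151833 IH) (Lpe (K7.f24577 IH) (Lpr_ef (K9.f164311 IH) (Lpe (K8.f163702 IH) (Lpe (f163654 IH) (Lpn (LP (LK LD1_c2 LD2_c34 LD3_c15))))))))
def v24718 : LQ := Led Lsl_at v4930
theorem f825314 : Led Lsl_at v4930 = v24718 :=
  Lrfl
theorem f640954 : Led Lsl_et (LP (LK LD1_c5 LD2_c38 LD3_c32)) = v4930 :=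
  Lgr Lrot122 (Lpr_dt (K54.f319374 IH) (Lpr_gt (K54.f171838 IH) (Lpr_df (K54.f495655 IH) (Lpe (K54.f495656 IH) (Lpe (K12.f211709 IH) (Lpr_dt (K12.f26638 IH) (Lpr_gt (K12.f151840 IH) (Lpe (K10.f24579 IH) (Lpr_et (f151833 IH) (Lpr_gt (f640952 IH) (Lpn v4930)))))))))))
def v15402 : LQ := Led Lsl_ft (LP (LK LD1_c5 LD2_c38 LD3_c30))
theorem f736135 : Led Lsl_ft (LP (LK LD1_c5 LD2_c38 LD3_c30)) = v15402 :=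
  Lrfl
theorem f736136 : Led Lsl_af (LP (LK LD1_c5 LD2_c38 LD3_c32)) = v15402 :=
  Lgr Lrot45 (Lpr_ft (K65.f736127 IH) (Lpe (K65.f736124 IH) (Lpr_ft (f736135 IH) (Lpn v15402))))
theorem f825316 : Led Lsl_ef v15402 = v24718 :=
  Lgr Lrot20 (Lpe (f736136 IH) (Lpr_et (f640954 IH) (Lpr_at (f825314 IH) (Lpn v24718))))
theorem f825317 : Led Lsl_et v15402 = v24718 :=
  Lgr Lrot87 (Lpr_ef (f825316 IH) (Lpn v24718))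
def v12945 : LQ := Led Lsl_gt (LP (LK LD1_c4 LD2_c35 LD3_c10))
theorem f699751 : Led Lsl_gt (LP (LK LD1_c4 LD2_c35 LD3_c10)) = v12945 :=
  Lrfl
theorem f699753 : Led Lsl_et (LP (LK LD1_c9 LD2_c0 LD3_c25)) = v12945 :=
  Lgr Lrot122 (Lpr_dt (K65.f319349 IH) (Lpr_gt (K64.f211784 IH) (Lpr_df (K53.f631626 IH) (Lpe (K53.f631627 IH) (Lpr_gt (K35.f211680 IH) (Lpr_dt (K35.f210671 IH) (Lpr_gt (K38.f210675 IH) (Lpe (K7.f20332 IH) (Lpr_et (K7.f151845 IH) (Lpr_gt (f699751 IH) (Lpn v12945)))))))))))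
theorem f736138 : Led Lsl_ff (LP (LK LD1_c5 LD2_c38 LD3_c30)) = v15402 :=
  Lgr Lrot3 (Lpr_ft (f736135 IH) (Lpn v15402))
theorem f736140 : Led Lsl_dt K69.v4735 = v15402 :=
  Lgr Lrot60 (Lpe (K69.f638764 IH) (Lpe (K70.f319362 IH) (Lpr_ff (f736138 IH) (Lpn v15402))))
theorem f896689 : v15402 = (LP (LK LD1_c9 LD2_c0 LD3_c25)) :=
  Lefun (Lecon (f736140 IH) (K69.f896679 IH)) (K65.f319346 IH)
theorem f896703 : v24718 = v12945 :=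
  Lefun (Lecon (f825317 IH) (f896689 IH)) (f699753 IH)
theorem f825315 : Led Lsl_af v4930 = v24718 :=
  Lgr Lrot0 (Lpr_at (f825314 IH) (Lpn v24718))
def v4931 : LQ := Led Lsl_gf (LP (LK LD1_c2 LD2_c52 LD3_c53))
theorem f640956 : Led Lsl_gf (LP (LK LD1_c2 LD2_c52 LD3_c53)) = v4931 :=
  Lrfl
theorem f825318 : Led Lsl_ft v4931 = v24718 :=
  Lgr Lrot2 (Lpe (f640956 IH) (Lpr_gt (f640952 IH) (Lpr_af (f825315 IH) (Lpn v24718))))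
theorem f825319 : Led Lsl_ff v4931 = v24718 :=
  Lgr Lrot3 (Lpr_ft (f825318 IH) (Lpn v24718))
def v24722 : LQ := Led Lsl_ft v4930
theorem f825333 : Led Lsl_ft v4930 = v24722 :=
  Lrfl
theorem f825335 : Led Lsl_ff v4930 = v24722 :=
  Lgr Lrot3 (Lpr_ft (f825333 IH) (Lpn v24722))
theorem f825336 : Led Lsl_at v4931 = v24722 :=
  Lgr Lrot66 (Lpr_ff (f825319 IH) (Lpe (f825314 IH) (Lpr_ff (f825335 IH) (Lpn v24722))))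
theorem f164584 : Led Lsl_ft (LP (LK LD1_c4 LD2_c35 LD3_c10)) = (LP (LK LD1_c9 LD2_c6 LD3_c53)) :=
  Lre_f IH (LK LD1_c4 LD2_c35 LD3_c10) (LK LD1_c9 LD2_c6 LD3_c53) Lrfl Lrfl
theorem f699752 : Led Lsl_gf (LP (LK LD1_c5 LD2_c52 LD3_c54)) = v12945 :=
  Lgr Lrot76 (Lpe (f151868 IH) (Lpe (f164584 IH) (Lpr_gt (f699751 IH) (Lpn v12945))))
theorem f896784 : v24722 = K71.v12946 :=
  (Llr Lrot26 (Lpe (f825336 IH) (Lpr_ff (f825319 IH) (Lpqs (f896703 IH) (Lpe (f699752 IH) (Lpr_gt (K71.f699758 IH) (Lpn K71.v12946))))))).symm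
theorem f825325 : Led Lsl_cf v4930 = v24720 :=
  Lgr Lrot11 (Lpr_ct (f825324 IH) (Lpn v24720))
theorem f924053 : Led Lsl_ff v24720 = K71.v24808 :=
  Lgr Lrot23 (Lpe (f825325 IH) (Lpr_ft (f825333 IH) (Lpqs (f896784 IH) (Lpr_ct (K71.f924050 IH) (Lpn K71.v24808)))))
def v24807 : LQ := Led Lsl_gt K71.v4992
theorem f825703 : Led Lsl_gt K71.v4992 = v24807 :=
  Lrfl
theorem f924987 : Led Lsl_at v24720 = v24807 :=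
  Lgr Lrot26 (Lpr_ff (f924053 IH) (Lpe (K71.f825704 IH) (Lpr_gt (f825703 IH) (Lpn v24807))))
def v15407 : LQ := Led Lsl_ct (LP (LK LD1_c5 LD2_c38 LD3_c32))
theorem f736155 : Led Lsl_ct (LP (LK LD1_c5 LD2_c38 LD3_c32)) = v15407 :=
  Lrfl
theorem f736156 : Led Lsl_cf (LP (LK LD1_c5 LD2_c38 LD3_c32)) = v15407 :=
  Lgr Lrot11 (Lpr_ct (f736155 IH) (Lpn v15407))
theorem f825326 : Led Lsl_ef v15407 = v24720 :=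
  Lgr Lrot28 (Lpe (f736156 IH) (Lpr_et (f640954 IH) (Lpr_ct (f825324 IH) (Lpn v24720))))
theorem f825327 : Led Lsl_et v15407 = v24720 :=
  Lgr Lrot87 (Lpr_ef (f825326 IH) (Lpn v24720))
def v37823 : LQ := Led Lsl_ct (LP (LK LD1_c9 LD2_c0 LD3_c25))
theorem f896833 : Led Lsl_ct (LP (LK LD1_c9 LD2_c0 LD3_c25)) = v37823 :=
  Lrfl
def v37815 : LQ := Led Lsl_ft (LP (LK LD1_c9 LD2_c0 LD3_c22))
theorem f896640 : Led Lsl_ft (LP (LK LD1_c9 LD2_c0 LD3_c22)) = v37815 :=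
  Lrfl
def v37811 : LQ := Led Lsl_at (LP (LK LD1_c9 LD2_c0 LD3_c22))
theorem f896624 : Led Lsl_at (LP (LK LD1_c9 LD2_c0 LD3_c22)) = v37811 :=
  Lrfl
theorem f896625 : Led Lsl_af (LP (LK LD1_c9 LD2_c0 LD3_c22)) = v37811 :=
  Lgr Lrot0 (Lpr_at (f896624 IH) (Lpn v37811))
theorem f896626 : Led Lsl_df K69.v12797 = v37811 :=
  Lgr Lrot18 (Lpe (K69.f698259 IH) (Lpr_dt (K65.f289455 IH) (Lpr_at (f896624 IH) (Lpn v37811))))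
theorem f896628 : Led Lsl_ft (LP (LK LD1_c9 LD2_c0 LD3_c25)) = v37811 :=
  Lgr Lrot54 (Lpe (K65.f319346 IH) (Lpr_ff (K69.f698262 IH) (Lpr_df (f896626 IH) (Lpn v37811))))
theorem f896641 : Led Lsl_af (LP (LK LD1_c9 LD2_c0 LD3_c25)) = v37815 :=
  Lgr Lrot45 (Lpr_ft (f896628 IH) (Lpe (f896625 IH) (Lpr_ft (f896640 IH) (Lpn v37815))))
theorem f896643 : Led Lsl_ff (LP (LK LD1_c9 LD2_c0 LD3_c22)) = v37815 :=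
  Lgr Lrot3 (Lpr_ft (f896640 IH) (Lpn v37815))
theorem f289461 : Led Lsl_dt (LP (LK LD1_c9 LD2_c0 LD3_c22)) = (LP (LK LD1_c4 LD2_c31 LD3_c10)) :=
  Lre_d IH (LK LD1_c9 LD2_c0 LD3_c22) (LK LD1_c4 LD2_c31 LD3_c10) Lrfl Lrfl
theorem f896645 : Led Lsl_dt K69.v12800 = v37815 :=
  Lgr Lrot60 (Lpe (K69.f698270 IH) (Lpe (f289461 IH) (Lpr_ff (f896643 IH) (Lpn v37815))))
theorem f896699 : v37815 = (LP (LK LD1_c5 LD2_c38 LD3_c32)) :=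
  Lefun (Lecon (f896645 IH) (K69.f896682 IH).symm) (K54.f319373 IH)
theorem f896834 : Led Lsl_af v15407 = v37823 :=
  Lgr Lrot68 (Lpe (f736156 IH) (Lpq (f896699 IH) (Lpe (f896641 IH) (Lpr_ct (f896833 IH) (Lpn v37823)))))
theorem f924990 : Led Lsl_ef v37823 = v24807 :=
  Lgr Lrot20 (Lpe (f896834 IH) (Lpr_et (f825327 IH) (Lpr_at (f924987 IH) (Lpn v24807))))
theorem f896835 : Led Lsl_cf (LP (LK LD1_c9 LD2_c0 LD3_c25)) = v37823 :=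
  Lgr Lrot11 (Lpr_ct (f896833 IH) (Lpn v37823))
theorem f924991 : Led Lsl_ct v12945 = v24807 :=
  Lgr Lrot15 (Lpe (f699753 IH) (Lpr_cf (f896835 IH) (Lpr_ef (f924990 IH) (Lpn v24807))))
def v24724 : LQ := Led Lsl_ct v4931
theorem f825339 : Led Lsl_ct v4931 = v24724 :=
  Lrfl
theorem f825340 : Led Lsl_cf v4931 = v24724 :=
  Lgr Lrot11 (Lpr_ct (f825339 IH) (Lpn v24724))
theorem f924993 : Led Lsl_ff v24724 = v24807 :=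
  Lgr Lrot23 (Lpe (f825340 IH) (Lpr_ft (f825318 IH) (Lpqs (f896703 IH) (Lpr_ct (f924991 IH) (Lpn v24807)))))
theorem f924995 : Led Lsl_ft v24724 = v24807 :=
  Lgr Lrot48 (Lpr_ff (f924993 IH) (Lpn v24807))
theorem f924988 : Led Lsl_af v24720 = v24807 :=
  Lgr Lrot0 (Lpr_at (f924987 IH) (Lpn v24807))
theorem f924989 : Led Lsl_cf v24718 = v24807 :=
  Lgr Lrot1 (Lpe (f825315 IH) (Lpr_ct (f825324 IH) (Lpr_at (f924987 IH) (Lpn v24807))))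
theorem f151768 : Led Lsl_ct (LP (LK LD1_c5 LD2_c8 LD3_c5)) = (LP (LK LD1_c10 LD2_c6 LD3_c38)) :=
  Lre_c IH (LK LD1_c5 LD2_c8 LD3_c5) (LK LD1_c10 LD2_c6 LD3_c38) Lrfl Lrfl
theorem f164542 : Led Lsl_bt (LP (LK LD1_c2 LD2_c31 LD3_c26)) = (LP (LK LD1_c5 LD2_c8 LD3_c5)) :=
  Lre_b IH (LK LD1_c2 LD2_c31 LD3_c26) (LK LD1_c5 LD2_c8 LD3_c5) Lrfl Lrfl
theorem f21464 : Led Lsl_ct (LP (LK LD1_c10 LD2_c14 LD3_c13)) = (LP (LK LD1_c5 LD2_c11 LD3_c43)) :=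
  Lre_c IH (LK LD1_c10 LD2_c14 LD3_c13) (LK LD1_c5 LD2_c11 LD3_c43) Lrfl Lrfl
theorem f21448 : Led Lsl_bt (LP (LK LD1_c5 LD2_c11 LD3_c43)) = (LP (LK LD1_c2 LD2_c32 LD3_c48)) :=
  Lre_b IH (LK LD1_c5 LD2_c11 LD3_c43) (LK LD1_c2 LD2_c32 LD3_c48) Lrfl Lrfl
theorem f164543 : Led Lsl_cf (LP (LK LD1_c2 LD2_c31 LD3_c26)) = (LP (LK LD1_c2 LD2_c32 LD3_c48)) :=
  Lgr Lrot97 (Lpr_bt (f164542 IH) (Lpr_ct (f151768 IH) (Lpr_bt (K48.f164534 IH) (Lpr_ct (f21464 IH) (Lpr_bt (f21448 IH) (Lpn (LP (LK LD1_c2 LD2_c32 LD3_c48))))))))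
theorem f163964 : Led Lsl_cf (LP (LK LD1_c2 LD2_c29 LD3_c42)) = (LP (LK LD1_c2 LD2_c34 LD3_c15)) :=
  Lgr Lrot108 (Lpr_ft (K10.f21409 IH) (Lpr_ct (K49.f163960 IH) (Lpr_ft (K10.f163963 IH) (Lpn (LP (LK LD1_c2 LD2_c34 LD3_c15))))))
theorem f746644 : Led Lsl_df v4932 = v16122 :=
  Lgr Lrot106 (Lpe (f640959 IH) (Lpr_dt (f164351 IH) (Lpe (f163964 IH) (Lpe (K0.f21385 IH) (Lpe (f164543 IH) (Lpr_af (K67.f164086 IH) (Lpe (K10.f163963 IH) (Lpe (K71.f164360 IH) (Lpr_ct (f746640 IH) (Lpn v16122))))))))))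
def v9697 : LQ := Led Lsl_et K65.v3022
def v30299 : LQ := Led Lsl_gf v9697
theorem f853759 : Led Lsl_gf v9697 = v30299 :=
  Lrfl
theorem f677213 : Led Lsl_et K65.v3022 = v9697 :=
  Lrfl
theorem f677216 : Led Lsl_ef K65.v3022 = v9697 :=
  Lgr Lrot88 (Lpr_et (f677213 IH) (Lpn v9697))
theorem f494417 : Led Lsl_af K40.v442 = K38.v1268 :=
  Lgr Lrot68 (Lpe (K65.f452852 IH) (Lpe (K2.f71417 IH) (Lpr_ct (K38.f494416 IH) (Lpn K38.v1268))))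
theorem f536523 : Led Lsl_af K40.v1661 = K65.v3022 :=
  Lgr Lrot117 (Lpe (K40.f500615 IH) (Lpe (f494417 IH) (Lpr_dt (K65.f536522 IH) (Lpn K65.v3022))))
theorem f500613 : Led Lsl_cf (LP (LK LD1_c1 LD2_c23 LD3_c26)) = K40.v1661 :=
  Lgr Lrot11 (Lpr_ct (K40.f500612 IH) (Lpn K40.v1661))
theorem f641226 : Led Lsl_ef K40.v1661 = K71.v4992 :=
  Lgr Lrot28 (Lpe (f500613 IH) (Lpr_et (K2.f71401 IH) (Lpr_ct (K71.f641224 IH) (Lpn K71.v4992))))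
theorem f641227 : Led Lsl_et K40.v1661 = K71.v4992 :=
  Lgr Lrot87 (Lpr_ef (f641226 IH) (Lpn K71.v4992))
theorem f677217 : Led Lsl_at K71.v4992 = v9697 :=
  Lgr Lrot80 (Lpe (f641227 IH) (Lpr_af (f536523 IH) (Lpr_ef (f677216 IH) (Lpn v9697))))
theorem f82205 : Led Lsl_ft (LP (LK LD1_c2 LD2_c55 LD3_c0)) = (LP (LK LD1_c5 LD2_c57 LD3_c25)) :=
  Lre_f IH (LK LD1_c2 LD2_c55 LD3_c0) (LK LD1_c5 LD2_c57 LD3_c25) Lrfl Lrfl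
theorem f748386 : Led Lsl_ff K71.v4992 = v16308 :=
  Lgr Lrot23 (Lpe (K71.f641225 IH) (Lpr_ft (f82205 IH) (Lpr_ct (f748383 IH) (Lpn v16308))))
theorem f853760 : Led Lsl_gt v16308 = v30299 :=
  Lgr Lrot5 (Lpe (f748386 IH) (Lpr_at (f677217 IH) (Lpr_gf (f853759 IH) (Lpn v30299))))
theorem f924996 : v24724 = v30299 :=
  (Llr Lrot169 (Lpe (f825340 IH) (Lpe (f640956 IH) (Lpr_ct (f640958 IH) (Lpr_df (f746644 IH) (Lpe (f746640 IH) (Lpr_gf (f699752 IH) (Lpq (f896703 IH) (Lpr_cf (f924989 IH) (Lpe (f825703 IH) (Lpr_df (f748387 IH) (Lpr_gt (f853760 IH) (Lpn v30299))))))))))))).symm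
def v30298 : LQ := Led Lsl_gt v9697
theorem f853757 : Led Lsl_gt v9697 = v30298 :=
  Lrfl
theorem f924997 : v24720 = v30298 :=
  (Llr Lrot26 (Lpr_af (f924988 IH) (Lpe (f924995 IH) (Lpqs (f924996 IH) (Lpe (f853759 IH) (Lpr_gt (f853757 IH) (Lpn v30298))))))).symm
def v28273 : LQ := Led Lsl_et K69.v8030
theorem f843456 : Led Lsl_et K69.v8030 = v28273 :=
  Lrfl
theorem f669721 : Led Lsl_ft K41.v4210 = K69.v8030 :=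
  Lgr Lrot4 (Lpe (K41.f631903 IH) (Lpe (K32.f71378 IH) (Lpr_cf (K69.f669716 IH) (Lpn K69.v8030))))
theorem f536525 : Led Lsl_ff K38.v1268 = K65.v3022 :=
  Lgr Lrot19 (Lpr_dt (K42.f500617 IH) (Lpe (K65.f500614 IH) (Lpr_dt (K65.f536522 IH) (Lpn K65.v3022))))
theorem f843461 : Led Lsl_ff v9697 = v28273 :=
  Lgr Lrot72 (Lpe (f677216 IH) (Lpe (f536525 IH) (Lpr_et (K65.f631909 IH) (Lpr_ft (f669721 IH) (Lpr_et (f843456 IH) (Lpn v28273))))))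
theorem f843464 : Led Lsl_ft v9697 = v28273 :=
  Lgr Lrot48 (Lpr_ff (f843461 IH) (Lpn v28273))
theorem f71351 : Led Lsl_et (LP (LK LD1_c2 LD2_c54 LD3_c60)) = (LP (LK LD1_c5 LD2_c57 LD3_c25)) :=
  Lre_e IH (LK LD1_c2 LD2_c54 LD3_c60) (LK LD1_c5 LD2_c57 LD3_c25) Lrfl Lrfl
theorem f748385 : Led Lsl_ef K48.v4989 = v16308 :=
  Lgr Lrot28 (Lpe (K48.f641203 IH) (Lpr_et (f71351 IH) (Lpr_ct (f748383 IH) (Lpn v16308))))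
theorem f843457 : Led Lsl_af v16308 = v28273 :=
  Lgr Lrot50 (Lpe (f748385 IH) (Lpr_at (K69.f669719 IH) (Lpr_et (f843456 IH) (Lpn v28273))))
theorem f853758 : Led Lsl_gf v16308 = v30298 :=
  Lgr Lrot76 (Lpr_af (f843457 IH) (Lpe (f843464 IH) (Lpr_gt (f853757 IH) (Lpn v30298))))
theorem f748384 : Led Lsl_cf (LP (LK LD1_c5 LD2_c57 LD3_c25)) = v16308 :=
  Lgr Lrot11 (Lpr_ct (f748383 IH) (Lpn v16308))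
theorem f636387 : Led Lsl_cf (LP (LK LD1_c9 LD2_c7 LD3_c55)) = K35.v4605 :=
  Lgr Lrot108 (Lpr_ft (K56.f35197 IH) (Lpr_ct (K2.f35006 IH) (Lpr_ft (K35.f636385 IH) (Lpn K35.v4605))))
theorem f636389 : Led Lsl_ff (LP (LK LD1_c2 LD2_c35 LD3_c8)) = K35.v4605 :=
  Lgr Lrot3 (Lpr_ft (K35.f636385 IH) (Lpn K35.v4605))
theorem f32724 : Led Lsl_ft (LP (LK LD1_c2 LD2_c36 LD3_c3)) = (LP (LK LD1_c5 LD2_c18 LD3_c57)) :=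
  Lre_f IH (LK LD1_c2 LD2_c36 LD3_c3) (LK LD1_c5 LD2_c18 LD3_c57) Lrfl Lrfl
theorem f636393 : Led Lsl_at (LP (LK LD1_c5 LD2_c18 LD3_c57)) = K35.v4605 :=
  Lgr Lrot66 (Lpe (f32724 IH) (Lpr_af (K2.f32614 IH) (Lpr_ff (f636389 IH) (Lpn K35.v4605))))
theorem f48622 : Led Lsl_gt (LP (LK LD1_c2 LD2_c36 LD3_c3)) = (LP (LK LD1_c5 LD2_c18 LD3_c55)) :=
  Lre_g IH (LK LD1_c2 LD2_c36 LD3_c3) (LK LD1_c5 LD2_c18 LD3_c55) Lrfl Lrfl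
theorem f636397 : Led Lsl_gt (LP (LK LD1_c5 LD2_c18 LD3_c55)) = K35.v4605 :=
  Lgr Lrot46 (Lpe (f48622 IH) (Lpr_ft (f32724 IH) (Lpr_at (f636393 IH) (Lpn K35.v4605))))
theorem f924998 : v14622 = (LP (LK LD1_c5 LD2_c18 LD3_c55)) :=
  (Llr Lrot152 (Lpe (f724105 IH) (Lpe (K49.f163967 IH) (Lpe (f164351 IH) (Lpr_gt (f640952 IH) (Lpr_ct (f825324 IH) (Lpqs (f924997 IH) (Lpe (f853758 IH) (Lpe (f748384 IH) (Lpe (K2.f82203 IH) (Lpr_cf (f636387 IH) (Lpe (f636397 IH) (Lpn (LP (LK LD1_c5 LD2_c18 LD3_c55))))))))))))))).symm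
def v14703 : LQ := Led Lsl_ft (LP (LK LD1_c5 LD2_c18 LD3_c55))
theorem f725057 : Led Lsl_ft (LP (LK LD1_c5 LD2_c18 LD3_c55)) = v14703 :=
  Lrfl
theorem f925002 : Led Lsl_cf v14624 = v14703 :=
  Lgr Lrot108 (Lpe (f724111 IH) (Lpr_ct (f724105 IH) (Lpqs (f924998 IH) (Lpr_ft (f725057 IH) (Lpn v14703)))))
def v14621 : LQ := Led Lsl_at (LP (LK LD1_c5 LD2_c14 LD3_c52))
theorem f724098 : Led Lsl_at (LP (LK LD1_c5 LD2_c14 LD3_c52)) = v14621 :=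
  Lrfl
theorem f724099 : Led Lsl_af (LP (LK LD1_c5 LD2_c14 LD3_c52)) = v14621 :=
  Lgr Lrot0 (Lpr_at (f724098 IH) (Lpn v14621))
theorem f724101 : Led Lsl_ft (LP (LK LD1_c5 LD2_c14 LD3_c53)) = v14621 :=
  Lgr Lrot2 (Lpr_gt (K67.f163969 IH) (Lpr_gt (K49.f163967 IH) (Lpr_af (f724099 IH) (Lpn v14621))))
theorem f724110 : Led Lsl_af (LP (LK LD1_c5 LD2_c14 LD3_c53)) = v14624 :=
  Lgr Lrot45 (Lpr_ft (f724101 IH) (Lpe (f724099 IH) (Lpr_ft (f724109 IH) (Lpn v14624))))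
theorem f725060 : Led Lsl_ff (LP (LK LD1_c5 LD2_c18 LD3_c55)) = v14703 :=
  Lgr Lrot3 (Lpr_ft (f725057 IH) (Lpn v14703))
def v14701 : LQ := Led Lsl_at (LP (LK LD1_c5 LD2_c18 LD3_c55))
theorem f725046 : Led Lsl_at (LP (LK LD1_c5 LD2_c18 LD3_c55)) = v14701 :=
  Lrfl
theorem f725047 : Led Lsl_af (LP (LK LD1_c5 LD2_c18 LD3_c55)) = v14701 :=
  Lgr Lrot0 (Lpr_at (f725046 IH) (Lpn v14701))
theorem f32725 : Led Lsl_gt (LP (LK LD1_c5 LD2_c18 LD3_c56)) = (LP (LK LD1_c2 LD2_c36 LD3_c3)) :=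
  Lre_g IH (LK LD1_c5 LD2_c18 LD3_c56) (LK LD1_c2 LD2_c36 LD3_c3) Lrfl Lrfl
theorem f725050 : Led Lsl_ft (LP (LK LD1_c5 LD2_c18 LD3_c56)) = v14701 :=
  Lgr Lrot2 (Lpr_gt (f32725 IH) (Lpr_gt (f48622 IH) (Lpr_af (f725047 IH) (Lpn v14701))))
theorem f725052 : Led Lsl_ff (LP (LK LD1_c5 LD2_c18 LD3_c56)) = v14701 :=
  Lgr Lrot3 (Lpr_ft (f725050 IH) (Lpn v14701))
theorem f725061 : Led Lsl_at (LP (LK LD1_c5 LD2_c18 LD3_c56)) = v14703 :=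
  Lgr Lrot66 (Lpr_ff (f725052 IH) (Lpe (f725046 IH) (Lpr_ff (f725060 IH) (Lpn v14703))))
theorem f925004 : v14625 = (LP (LK LD1_c5 LD2_c18 LD3_c56)) :=
  (Llr Lrot111 (Lpe (f724113 IH) (Lpr_af (f724110 IH) (Lpr_cf (f925002 IH) (Lpe (f725061 IH) (Lpn (LP (LK LD1_c5 LD2_c18 LD3_c56)))))))).symm
theorem f925006 : Led Lsl_ct (LP (LK LD1_c5 LD2_c14 LD3_c53)) = (LP (LK LD1_c5 LD2_c18 LD3_c56)) :=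
  Leop (Lpq (f925004 IH) (Lpe (f724113 IH) (Lpn (LP (LK LD1_c5 LD2_c14 LD3_c53)))))
theorem seed_2506 : LEOK LG_c (LK LD1_c5 LD2_c14 LD3_c53) :=
  Leoe_c (LK LD1_c5 LD2_c14 LD3_c53) (f925006 IH)
theorem f724106 : Led Lsl_cf (LP (LK LD1_c5 LD2_c14 LD3_c52)) = v14622 :=
  Lgr Lrot11 (Lpr_ct (f724105 IH) (Lpn v14622))
theorem f636388 : Led Lsl_df (LP (LK LD1_c5 LD2_c18 LD3_c57)) = K35.v4605 :=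
  Lgr Lrot78 (Lpr_ft (K35.f32622 IH) (Lpe (f48591 IH) (Lpr_ft (K35.f636385 IH) (Lpn K35.v4605))))
theorem f32624 : Led Lsl_gt (LP (LK LD1_c5 LD2_c18 LD3_c57)) = (LP (LK LD1_c5 LD2_c16 LD3_c52)) :=
  Lgr Lrot5 (Lpr_ft (K35.f32622 IH) (Lpr_at (K2.f32612 IH) (Lpe (K71.f32623 IH) (Lpn (LP (LK LD1_c5 LD2_c16 LD3_c52))))))
theorem f32626 : Led Lsl_dt (LP (LK LD1_c5 LD2_c16 LD3_c52)) = (LP (LK LD1_c10 LD2_c23 LD3_c18)) :=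
  Lre_d IH (LK LD1_c5 LD2_c16 LD3_c52) (LK LD1_c10 LD2_c23 LD3_c18) Lrfl Lrfl
theorem f640957 : Led Lsl_gt (LP (LK LD1_c9 LD2_c6 LD3_c53)) = v4931 :=
  Lgr Lrot5 (Lpr_ft (K7.f151864 IH) (Lpr_at (K7.f151847 IH) (Lpr_gf (f640956 IH) (Lpn v4931))))
def v24725 : LQ := Led Lsl_dt v4931
theorem f825341 : Led Lsl_dt v4931 = v24725 :=
  Lrfl
theorem f925027 : Led Lsl_cf (LP (LK LD1_c10 LD2_c23 LD3_c18)) = v24725 :=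
  Lgr Lrot14 (Lpe (f32626 IH) (Lpe (f32624 IH) (Lpr_df (f636388 IH) (Lpe (f636397 IH) (Lpq (f924998 IH) (Lpe (f724106 IH) (Lpe (K49.f164576 IH) (Lpr_dt (f164572 IH) (Lpr_gt (f640957 IH) (Lpr_dt (f825341 IH) (Lpn v24725)))))))))))
theorem f165631 : Led Lsl_et (LP (LK LD1_c5 LD2_c2 LD3_c29)) = (LP (LK LD1_c9 LD2_c55 LD3_c52)) :=
  Lre_e IH (LK LD1_c5 LD2_c2 LD3_c29) (LK LD1_c9 LD2_c55 LD3_c52) Lrfl Lrfl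
theorem f165632 : Led Lsl_gt (LP (LK LD1_c9 LD2_c55 LD3_c52)) = (LP (LK LD1_c18 LD2_c10 LD3_c29)) :=
  Lre_g IH (LK LD1_c9 LD2_c55 LD3_c52) (LK LD1_c18 LD2_c10 LD3_c29) Lrfl Lrfl
theorem f32628 : Led Lsl_dt (LP (LK LD1_c10 LD2_c23 LD3_c18)) = (LP (LK LD1_c5 LD2_c16 LD3_c52)) :=
  Lre_d IH (LK LD1_c10 LD2_c23 LD3_c18) (LK LD1_c5 LD2_c16 LD3_c52) Lrfl Lrfl
theorem f165633 : Led Lsl_ef (LP (LK LD1_c18 LD2_c10 LD3_c29)) = (LP (LK LD1_c10 LD2_c23 LD3_c18)) :=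
  Lgr Lrot17 (Lpe (f165632 IH) (Lpe (f165631 IH) (Lpr_dt (K12.f165630 IH) (Lpe (K12.f165626 IH) (Lpe (K8.f165604 IH) (Lpr_gf (K8.f165605 IH) (Lpe (K19.f32722 IH) (Lpe (f48591 IH) (Lpe (K71.f32623 IH) (Lpe (f32628 IH) (Lpn (LP (LK LD1_c10 LD2_c23 LD3_c18)))))))))))))
theorem f825342 : Led Lsl_df v4931 = v24725 :=
  Lgr Lrot38 (Lpr_dt (f825341 IH) (Lpn v24725))
theorem f177203 : Led Lsl_gt (LP (LK LD1_c5 LD2_c5 LD3_c53)) = (LP (LK LD1_c10 LD2_c2 LD3_c43)) :=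
  Lre_g IH (LK LD1_c5 LD2_c5 LD3_c53) (LK LD1_c10 LD2_c2 LD3_c43) Lrfl Lrfl
theorem f825343 : Led Lsl_ef (LP (LK LD1_c10 LD2_c2 LD3_c43)) = v24725 :=
  Lgr Lrot17 (Lpe (f177203 IH) (Lpe (K50.f164101 IH) (Lpr_dt (K9.f164098 IH) (Lpe (K9.f177201 IH) (Lpr_df (K9.f177199 IH) (Lpr_gf (K9.f164109 IH) (Lpe (f163654 IH) (Lpe (K10.f164355 IH) (Lpr_gf (f640956 IH) (Lpr_df (f825342 IH) (Lpn v24725)))))))))))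
theorem f825345 : Led Lsl_et (LP (LK LD1_c10 LD2_c2 LD3_c43)) = v24725 :=
  Lgr Lrot87 (Lpr_ef (f825343 IH) (Lpn v24725))
theorem f925029 : Led Lsl_ct (LP (LK LD1_c18 LD2_c10 LD3_c29)) = (LP (LK LD1_c10 LD2_c2 LD3_c43)) :=
  Lgr Lrot15 (Lpr_ef (f165633 IH) (Lpr_cf (f925027 IH) (Lpe (f825345 IH) (Lpn (LP (LK LD1_c10 LD2_c2 LD3_c43))))))
theorem f925030 : Led Lsl_ct (LP (LK LD1_c18 LD2_c10 LD3_c29)) = (LP (LK LD1_c10 LD2_c2 LD3_c43)) :=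
  Leop (Lpe (f925029 IH) (Lpn (LP (LK LD1_c18 LD2_c10 LD3_c29))))
theorem seed_2507 : LEOK LG_c (LK LD1_c18 LD2_c10 LD3_c29) :=
  Leoe_c (LK LD1_c18 LD2_c10 LD3_c29) (f925030 IH)
theorem f748913 : Led Lsl_cf (LP (LK LD1_c5 LD2_c58 LD3_c9)) = v16348 :=
  Lgr Lrot11 (Lpr_ct (f748911 IH) (Lpn v16348))
theorem f903886 : Led Lsl_ft v16882 = K71.v35881 :=
  Lgr Lrot48 (Lpr_ff (f903884 IH) (Lpn K71.v35881))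
theorem f636394 : Led Lsl_ct (LP (LK LD1_c9 LD2_c7 LD3_c55)) = K35.v4605 :=
  Lgr Lrot40 (Lpe (K2.f35172 IH) (Lpr_cf (K56.f35163 IH) (Lpr_ff (f636389 IH) (Lpn K35.v4605))))
theorem f442430 : Led Lsl_bt (LP (LK LD1_c9 LD2_c7 LD3_c55)) = (LP (LK LD1_c16 LD2_c59 LD3_c46)) :=
  Lre_b IH (LK LD1_c9 LD2_c7 LD3_c55) (LK LD1_c16 LD2_c59 LD3_c46) Lrfl Lrfl
theorem f548563 : Led Lsl_bf (LP (LK LD1_c2 LD2_c34 LD3_c15)) = (LP (LK LD1_c2 LD2_c59 LD3_c52)) :=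
  Lgr Lrot81 (Lpe (K67.f164086 IH) (Lpr_bt (f164542 IH) (Lpr_at (K38.f548559 IH) (Lpr_bt (K38.f172085 IH) (Lpe (K49.f334641 IH) (Lpn (LP (LK LD1_c2 LD2_c59 LD3_c52))))))))
theorem f646227 : Led Lsl_ef (LP (LK LD1_c2 LD2_c59 LD3_c32)) = K71.v5149 :=
  Lgr Lrot88 (Lpr_et (K71.f646224 IH) (Lpn K71.v5149))
theorem f646229 : Led Lsl_ct (LP (LK LD1_c2 LD2_c59 LD3_c52)) = K71.v5149 :=
  Lgr Lrot15 (Lpe (K35.f176597 IH) (Lpr_cf (K9.f177450 IH) (Lpr_ef (f646227 IH) (Lpn K71.v5149))))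
def v25023 : LQ := Led Lsl_gf K71.v5149
theorem f826604 : Led Lsl_gf K71.v5149 = v25023 :=
  Lrfl
theorem f925033 : v16882 = v25023 :=
  (Llr Lrot64 (Lpe (f752304 IH) (Lpr_bt (K71.f699493 IH) (Lpr_gf (K71.f924120 IH) (Lpe (f442430 IH) (Lpr_ct (f636394 IH) (Lpe (f636397 IH) (Lpq (f924998 IH) (Lpe (f724105 IH) (Lpe (K49.f163967 IH) (Lpr_bf (f548563 IH) (Lpr_ct (f646229 IH) (Lpr_gf (f826604 IH) (Lpn v25023)))))))))))))).symm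
def v25022 : LQ := Led Lsl_gt K71.v5149
theorem f826602 : Led Lsl_gt K71.v5149 = v25022 :=
  Lrfl
theorem f925034 : v16880 = v25022 :=
  (Llr Lrot26 (Lpr_af (f903880 IH) (Lpe (f903886 IH) (Lpqs (f925033 IH) (Lpe (f826604 IH) (Lpr_gt (f826602 IH) (Lpn v25022))))))).symm
theorem f925035 : K71.v14412 = (LP (LK LD1_c5 LD2_c14 LD3_c53)) :=
  (Llr Lrot22 (Lpr_bf (f924623 IH) (Lpe (f748913 IH) (Lpe (K5.f75931 IH) (Lpe (K70.f75944 IH) (Lpr_gf (K70.f748653 IH) (Lpq (f924580 IH) (Lpe (f752296 IH) (Lpr_ct (f752298 IH) (Lpqs (f925034 IH) (Lpe (f826602 IH) (Lpe (f646229 IH) (Lpe (f548563 IH) (Lpe (K67.f163969 IH) (Lpn (LP (LK LD1_c5 LD2_c14 LD3_c53))))))))))))))))).symm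
theorem f925037 : Led Lsl_at (LP (LK LD1_c5 LD2_c8 LD3_c27)) = (LP (LK LD1_c5 LD2_c14 LD3_c53)) :=
  Leop (Lpq (f925035 IH) (Lpe (K71.f722397 IH) (Lpn (LP (LK LD1_c5 LD2_c8 LD3_c27)))))
theorem seed_2508 : LEOK LG_a (LK LD1_c5 LD2_c8 LD3_c27) :=
  Leoe_a (LK LD1_c5 LD2_c8 LD3_c27) (f925037 IH)
def v16829 : LQ := Led Lsl_ft (LP (LK LD1_c6 LD2_c7 LD3_c23))
theorem f751900 : Led Lsl_ft (LP (LK LD1_c6 LD2_c7 LD3_c23)) = v16829 :=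
  Lrfl
theorem f751902 : Led Lsl_ff (LP (LK LD1_c6 LD2_c7 LD3_c23)) = v16829 :=
  Lgr Lrot3 (Lpr_ft (f751900 IH) (Lpn v16829))
def v16826 : LQ := Led Lsl_at (LP (LK LD1_c6 LD2_c7 LD3_c23))
theorem f751889 : Led Lsl_at (LP (LK LD1_c6 LD2_c7 LD3_c23)) = v16826 :=
  Lrfl
theorem f751890 : Led Lsl_af (LP (LK LD1_c6 LD2_c7 LD3_c23)) = v16826 :=
  Lgr Lrot0 (Lpr_at (f751889 IH) (Lpn v16826))
theorem f751892 : Led Lsl_ft (LP (LK LD1_c6 LD2_c7 LD3_c24)) = v16826 :=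
  Lgr Lrot2 (Lpr_gt (K55.f176591 IH) (Lpr_gt (K49.f176587 IH) (Lpr_af (f751890 IH) (Lpn v16826))))
theorem f751893 : Led Lsl_ff (LP (LK LD1_c6 LD2_c7 LD3_c24)) = v16826 :=
  Lgr Lrot3 (Lpr_ft (f751892 IH) (Lpn v16826))
theorem f751903 : Led Lsl_at (LP (LK LD1_c6 LD2_c7 LD3_c24)) = v16829 :=
  Lgr Lrot66 (Lpr_ff (f751893 IH) (Lpe (f751889 IH) (Lpr_ff (f751902 IH) (Lpn v16829))))
theorem f165621 : Led Lsl_et (LP (LK LD1_c10 LD2_c27 LD3_c43)) = (LP (LK LD1_c5 LD2_c18 LD3_c55)) :=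
  Lre_e IH (LK LD1_c10 LD2_c27 LD3_c43) (LK LD1_c5 LD2_c18 LD3_c55) Lrfl Lrfl
theorem f925050 : K71.v14668 = v14625 :=
  Lefun (Lecon (Lfl_cf (K71.f924038 IH)) (f925035 IH)) (f724113 IH)
theorem f925082 : (LP (LK LD1_c5 LD2_c16 LD3_c51)) = v14701 :=
  Lefun (Lecon (Lfl_ff (K71.f724873 IH)) ((f925050 IH).trans (f925004 IH))) (f725050 IH)
theorem f925114 : Led Lsl_af (LP (LK LD1_c10 LD2_c27 LD3_c43)) = (LP (LK LD1_c10 LD2_c23 LD3_c17)) :=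
  Lgr Lrot50 (Lpr_et (f165621 IH) (Lpr_at (f725046 IH) (Lpq (f925082 IH) (Lpr_et (K71.f724863 IH) (Lpn (LP (LK LD1_c10 LD2_c23 LD3_c17)))))))
theorem f725049 : Led Lsl_et (LP (LK LD1_c5 LD2_c18 LD3_c55)) = (LP (LK LD1_c10 LD2_c27 LD3_c43)) :=
  Lre_e IH (LK LD1_c5 LD2_c18 LD3_c55) (LK LD1_c10 LD2_c27 LD3_c43) Lrfl Lrfl
theorem f925018 : Led Lsl_cf (LP (LK LD1_c10 LD2_c19 LD3_c7)) = (LP (LK LD1_c10 LD2_c27 LD3_c43)) :=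
  Lgr Lrot39 (Lpr_et (K49.f164579 IH) (Lpr_ct (f724105 IH) (Lpqs (f924998 IH) (Lpr_et (f725049 IH) (Lpn (LP (LK LD1_c10 LD2_c27 LD3_c43)))))))
theorem f924031 : Led Lsl_cf (LP (LK LD1_c10 LD2_c23 LD3_c17)) = (LP (LK LD1_c10 LD2_c7 LD3_c16)) :=
  Lgr Lrot11 (Lpr_ct (K71.f924028 IH) (Lpn (LP (LK LD1_c10 LD2_c7 LD3_c16))))
theorem f925118 : Led Lsl_at (LP (LK LD1_c10 LD2_c19 LD3_c7)) = (LP (LK LD1_c10 LD2_c7 LD3_c16)) :=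
  Lgr Lrot107 (Lpr_cf (f925018 IH) (Lpr_af (f925114 IH) (Lpr_cf (f924031 IH) (Lpn (LP (LK LD1_c10 LD2_c7 LD3_c16))))))
def v41070 : LQ := Led Lsl_ft (LP (LK LD1_c9 LD2_c51 LD3_c8))
theorem f921827 : Led Lsl_ft (LP (LK LD1_c9 LD2_c51 LD3_c8)) = v41070 :=
  Lrfl
theorem f921829 : Led Lsl_ff (LP (LK LD1_c9 LD2_c51 LD3_c8)) = v41070 :=
  Lgr Lrot3 (Lpr_ft (f921827 IH) (Lpn v41070))
def v41068 : LQ := Led Lsl_at (LP (LK LD1_c9 LD2_c51 LD3_c8))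
theorem f921821 : Led Lsl_at (LP (LK LD1_c9 LD2_c51 LD3_c8)) = v41068 :=
  Lrfl
theorem f921822 : Led Lsl_af (LP (LK LD1_c9 LD2_c51 LD3_c8)) = v41068 :=
  Lgr Lrot0 (Lpr_at (f921821 IH) (Lpn v41068))
theorem f921823 : Led Lsl_ft (LP (LK LD1_c9 LD2_c51 LD3_c9)) = v41068 :=
  Lgr Lrot2 (Lpr_gt (K70.f176546 IH) (Lpr_gt (K70.f176543 IH) (Lpr_af (f921822 IH) (Lpn v41068))))
theorem f921824 : Led Lsl_ff (LP (LK LD1_c9 LD2_c51 LD3_c9)) = v41068 :=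
  Lgr Lrot3 (Lpr_ft (f921823 IH) (Lpn v41068))
theorem f921830 : Led Lsl_at (LP (LK LD1_c9 LD2_c51 LD3_c9)) = v41070 :=
  Lgr Lrot66 (Lpr_ff (f921824 IH) (Lpe (f921821 IH) (Lpr_ff (f921829 IH) (Lpn v41070))))
theorem f925136 : (LP (LK LD1_c11 LD2_c51 LD3_c57)) = v41070 :=
  (Llr Lrot18 (Lpr_dt (K60.f334850 IH) (Lpr_at (f925118 IH) (Lpe (K70.f414574 IH) (Lpr_at (f921830 IH) (Lpn v41070)))))).symm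
theorem f925142 : Led Lsl_ff (LP (LK LD1_c18 LD2_c2 LD3_c18)) = (LP (LK LD1_c10 LD2_c19 LD3_c7)) :=
  Lgr Lrot19 (Lpr_dt (K70.f177700 IH) (Lpr_ft (f921827 IH) (Lpq (f925136 IH) (Lpr_dt (K60.f334850 IH) (Lpn (LP (LK LD1_c10 LD2_c19 LD3_c7)))))))
theorem f925148 : Led Lsl_at (LP (LK LD1_c18 LD2_c2 LD3_c18)) = (LP (LK LD1_c18 LD2_c26 LD3_c0)) :=
  Lgr Lrot26 (Lpr_ff (f925142 IH) (Lpe (K60.f782171 IH) (Lpr_gt (K55.f414177 IH) (Lpn (LP (LK LD1_c18 LD2_c26 LD3_c0))))))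
theorem f744843 : Led Lsl_df (LP (LK LD1_c11 LD2_c51 LD3_c56)) = (LP (LK LD1_c18 LD2_c26 LD3_c0)) :=
  Lgr Lrot38 (Lpr_dt (K55.f744841 IH) (Lpn (LP (LK LD1_c18 LD2_c26 LD3_c0))))
theorem f925154 : v41068 = (LP (LK LD1_c11 LD2_c51 LD3_c56)) :=
  (Llr Lrot117 (Lpe (f921822 IH) (Lpr_dt (K70.f176544 IH) (Lpr_at (f925148 IH) (Lpe (f744843 IH) (Lpn (LP (LK LD1_c11 LD2_c51 LD3_c56)))))))).symm
theorem f921832 : Led Lsl_bf (LP (LK LD1_c9 LD2_c51 LD3_c9)) = v41071 :=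
  Lgr Lrot24 (Lpr_bt (f921831 IH) (Lpn v41071))
theorem f185992 : Led Lsl_bt (LP (LK LD1_c11 LD2_c51 LD3_c56)) = (LP (LK LD1_c20 LD2_c54 LD3_c36)) :=
  Lre_b IH (LK LD1_c11 LD2_c51 LD3_c56) (LK LD1_c20 LD2_c54 LD3_c36) Lrfl Lrfl
theorem f925159 : Led Lsl_ff v41071 = (LP (LK LD1_c20 LD2_c54 LD3_c36)) :=
  Lgr Lrot25 (Lpe (f921832 IH) (Lpr_ft (f921823 IH) (Lpqs (f925154 IH) (Lpr_bt (f185992 IH) (Lpn (LP (LK LD1_c20 LD2_c54 LD3_c36)))))))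
theorem f925163 : Led Lsl_ft v41071 = (LP (LK LD1_c20 LD2_c54 LD3_c36)) :=
  Lgr Lrot48 (Lpr_ff (f925159 IH) (Lpn (LP (LK LD1_c20 LD2_c54 LD3_c36))))
theorem f925169 : Led Lsl_af (LP (LK LD1_c18 LD2_c1 LD3_c50)) = (LP (LK LD1_c20 LD2_c54 LD3_c36)) :=
  Lgr Lrot45 (Lpr_ft (f924704 IH) (Lpe (f924702 IH) (Lpr_ft (f925163 IH) (Lpn (LP (LK LD1_c20 LD2_c54 LD3_c36))))))
theorem f924708 : Led Lsl_ff (LP (LK LD1_c18 LD2_c1 LD3_c50)) = (LP (LK LD1_c27 LD2_c41 LD3_c17)) :=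
  Lgr Lrot3 (Lpr_ft (f924704 IH) (Lpn (LP (LK LD1_c27 LD2_c41 LD3_c17))))
theorem f412212 : Led Lsl_ft (LP (LK LD1_c11 LD2_c58 LD3_c16)) = (LP (LK LD1_c21 LD2_c3 LD3_c15)) :=
  Lre_f IH (LK LD1_c11 LD2_c58 LD3_c16) (LK LD1_c21 LD2_c3 LD3_c15) Lrfl Lrfl
theorem f924710 : Led Lsl_dt (LP (LK LD1_c18 LD2_c1 LD3_c50)) = (LP (LK LD1_c11 LD2_c58 LD3_c16)) :=
  Lgr Lrot60 (Lpr_ff (f924708 IH) (Lpr_df (f881091 IH) (Lpe (f412212 IH) (Lpn (LP (LK LD1_c11 LD2_c58 LD3_c16))))))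
theorem f412160 : Led Lsl_dt (LP (LK LD1_c10 LD2_c45 LD3_c42)) = (LP (LK LD1_c19 LD2_c27 LD3_c43)) :=
  Lre_d IH (LK LD1_c10 LD2_c45 LD3_c42) (LK LD1_c19 LD2_c27 LD3_c43) Lrfl Lrfl
theorem f924712 : Led Lsl_bf (LP (LK LD1_c18 LD2_c1 LD3_c50)) = (LP (LK LD1_c19 LD2_c27 LD3_c43)) :=
  Lgr Lrot93 (Lpr_dt (f924710 IH) (Lpr_bt (K71.f412148 IH) (Lpr_dt (f412160 IH) (Lpn (LP (LK LD1_c19 LD2_c27 LD3_c43))))))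
theorem f924714 : Led Lsl_bt (LP (LK LD1_c18 LD2_c1 LD3_c50)) = (LP (LK LD1_c19 LD2_c27 LD3_c43)) :=
  Lgr Lrot127 (Lpr_bf (f924712 IH) (Lpn (LP (LK LD1_c19 LD2_c27 LD3_c43))))
theorem f925171 : Led Lsl_at (LP (LK LD1_c19 LD2_c27 LD3_c43)) = (LP (LK LD1_c18 LD2_c2 LD3_c17)) :=
  Lgr Lrot67 (Lpe (f924714 IH) (Lpr_af (f925169 IH) (Lpe (f185992 IH) (Lpq (f925154 IH) (Lpe (f921821 IH) (Lpe (f334812 IH) (Lpn (LP (LK LD1_c18 LD2_c2 LD3_c17)))))))))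
theorem f412209 : Led Lsl_at (LP (LK LD1_c19 LD2_c27 LD3_c33)) = (LP (LK LD1_c10 LD2_c45 LD3_c42)) :=
  Lre_a IH (LK LD1_c19 LD2_c27 LD3_c33) (LK LD1_c10 LD2_c45 LD3_c42) Lrfl Lrfl
theorem f925175 : Led Lsl_df (LP (LK LD1_c19 LD2_c27 LD3_c33)) = (LP (LK LD1_c18 LD2_c2 LD3_c17)) :=
  Lgr Lrot18 (Lpr_at (f412209 IH) (Lpr_dt (f412160 IH) (Lpr_at (f925171 IH) (Lpn (LP (LK LD1_c18 LD2_c2 LD3_c17))))))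
theorem f925179 : Led Lsl_dt (LP (LK LD1_c19 LD2_c27 LD3_c33)) = (LP (LK LD1_c18 LD2_c2 LD3_c17)) :=
  Lgr Lrot42 (Lpr_df (f925175 IH) (Lpn (LP (LK LD1_c18 LD2_c2 LD3_c17))))
theorem f925183 : Led Lsl_bf (LP (LK LD1_c19 LD2_c27 LD3_c33)) = (LP (LK LD1_c18 LD2_c2 LD3_c18)) :=
  Lgr Lrot93 (Lpr_dt (f925179 IH) (Lpr_bt (f334812 IH) (Lpr_dt (K70.f176544 IH) (Lpn (LP (LK LD1_c18 LD2_c2 LD3_c18))))))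
theorem f412194 : Led Lsl_et (LP (LK LD1_c19 LD2_c27 LD3_c33)) = (LP (LK LD1_c10 LD2_c45 LD3_c35)) :=
  Lre_e IH (LK LD1_c19 LD2_c27 LD3_c33) (LK LD1_c10 LD2_c45 LD3_c35) Lrfl Lrfl
theorem f925189 : Led Lsl_bt (LP (LK LD1_c10 LD2_c45 LD3_c35)) = (LP (LK LD1_c18 LD2_c26 LD3_c5)) :=
  Lgr Lrot119 (Lpe (f412194 IH) (Lpr_bf (f925183 IH) (Lpr_ef (K70.f186676 IH) (Lpn (LP (LK LD1_c18 LD2_c26 LD3_c5))))))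
theorem f8867 : Led Lsl_ct (LP (LK LD1_c5 LD2_c27 LD3_c14)) = (LP (LK LD1_c10 LD2_c45 LD3_c35)) :=
  Lre_c IH (LK LD1_c5 LD2_c27 LD3_c14) (LK LD1_c10 LD2_c45 LD3_c35) Lrfl Lrfl
theorem f8858 : Led Lsl_bf (LP (LK LD1_c5 LD2_c27 LD3_c14)) = (LP (LK LD1_c6 LD2_c6 LD3_c45)) :=
  Lgr Lrot24 (Lpr_bt (K0.f8847 IH) (Lpn (LP (LK LD1_c6 LD2_c6 LD3_c45))))
theorem f8929 : Led Lsl_ct (LP (LK LD1_c11 LD2_c56 LD3_c33)) = (LP (LK LD1_c6 LD2_c6 LD3_c45)) :=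
  Lre_c IH (LK LD1_c11 LD2_c56 LD3_c33) (LK LD1_c6 LD2_c6 LD3_c45) Lrfl Lrfl
theorem f724867 : Led Lsl_ft (LP (LK LD1_c10 LD2_c23 LD3_c19)) = (LP (LK LD1_c18 LD2_c50 LD3_c55)) :=
  Lre_f IH (LK LD1_c10 LD2_c23 LD3_c19) (LK LD1_c18 LD2_c50 LD3_c55) Lrfl Lrfl
theorem f924668 : Led Lsl_ft (LP (LK LD1_c11 LD2_c56 LD3_c33)) = (LP (LK LD1_c17 LD2_c9 LD3_c38)) :=
  Lre_f IH (LK LD1_c11 LD2_c56 LD3_c33) (LK LD1_c17 LD2_c9 LD3_c38) Lrfl Lrfl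
theorem f924676 : Led Lsl_bt (LP (LK LD1_c18 LD2_c50 LD3_c55)) = (LP (LK LD1_c11 LD2_c56 LD3_c33)) :=
  Lgr Lrot35 (Lpe (f724867 IH) (Lpr_bf (f924669 IH) (Lpe (f924668 IH) (Lpn (LP (LK LD1_c11 LD2_c56 LD3_c33))))))
theorem f925219 : Led Lsl_cf (LP (LK LD1_c18 LD2_c50 LD3_c55)) = (LP (LK LD1_c18 LD2_c26 LD3_c5)) :=
  Lgr Lrot97 (Lpr_bt (f924676 IH) (Lpr_ct (f8929 IH) (Lpe (f8858 IH) (Lpr_ct (f8867 IH) (Lpr_bt (f925189 IH) (Lpn (LP (LK LD1_c18 LD2_c26 LD3_c5))))))))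
theorem f722389 : Led Lsl_et (LP (LK LD1_c5 LD2_c8 LD3_c27)) = (LP (LK LD1_c10 LD2_c7 LD3_c18)) :=
  Lre_e IH (LK LD1_c5 LD2_c8 LD3_c27) (LK LD1_c10 LD2_c7 LD3_c18) Lrfl Lrfl
theorem f924046 : Led Lsl_cf (LP (LK LD1_c10 LD2_c23 LD3_c19)) = (LP (LK LD1_c10 LD2_c7 LD3_c18)) :=
  Lgr Lrot39 (Lpr_et (f32629 IH) (Lpr_ct (K71.f724878 IH) (Lpqs (K71.f924040 IH) (Lpr_et (f722389 IH) (Lpn (LP (LK LD1_c10 LD2_c7 LD3_c18)))))))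
theorem f924048 : Led Lsl_ct (LP (LK LD1_c10 LD2_c23 LD3_c19)) = (LP (LK LD1_c10 LD2_c7 LD3_c18)) :=
  Lgr Lrot59 (Lpr_cf (f924046 IH) (Lpn (LP (LK LD1_c10 LD2_c7 LD3_c18))))
theorem f925223 : Led Lsl_ft (LP (LK LD1_c10 LD2_c7 LD3_c18)) = (LP (LK LD1_c18 LD2_c26 LD3_c5)) :=
  Lgr Lrot4 (Lpe (f924048 IH) (Lpe (f724865 IH) (Lpr_cf (f925219 IH) (Lpn (LP (LK LD1_c18 LD2_c26 LD3_c5))))))
theorem f881160 : Led Lsl_df (LP (LK LD1_c10 LD2_c7 LD3_c18)) = K67.v35924 :=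
  Lgr Lrot38 (Lpr_dt (K67.f881157 IH) (Lpn K67.v35924))
theorem f925225 : Led Lsl_ff K67.v35924 = K70.v35990 :=
  Lgr Lrot19 (Lpe (f881160 IH) (Lpr_ft (f925223 IH) (Lpr_dt (K70.f881553 IH) (Lpn K70.v35990))))
theorem f633749 : Led Lsl_af (LP (LK LD1_c8 LD2_c14 LD3_c58)) = (LP (LK LD1_c8 LD2_c12 LD3_c54)) :=
  Lgr Lrot0 (Lpr_at (K51.f633747 IH) (Lpn (LP (LK LD1_c8 LD2_c12 LD3_c54))))
theorem f722233 : Led Lsl_ff (LP (LK LD1_c8 LD2_c12 LD3_c54)) = K70.v14371 :=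
  Lgr Lrot19 (Lpr_dt (K51.f193931 IH) (Lpe (K51.f633759 IH) (Lpr_dt (K70.f722231 IH) (Lpn K70.v14371))))
theorem f881561 : Led Lsl_gt K70.v14371 = K67.v35992 :=
  Lgr Lrot5 (Lpe (f722233 IH) (Lpe (f633749 IH) (Lpr_gf (K67.f881560 IH) (Lpn K67.v35992))))
theorem f925227 : Led Lsl_at K67.v35924 = K67.v35992 :=
  Lgr Lrot26 (Lpr_ff (f925225 IH) (Lpe (K70.f881552 IH) (Lpr_gt (f881561 IH) (Lpn K67.v35992))))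
theorem f925228 : Led Lsl_af K67.v35924 = K67.v35992 :=
  Lgr Lrot0 (Lpr_at (f925227 IH) (Lpn K67.v35992))
theorem f881156 : Led Lsl_gt K70.v14580 = K67.v35924 :=
  Lgr Lrot5 (Lpe (K70.f723870 IH) (Lpr_at (K51.f633747 IH) (Lpr_gf (K67.f881155 IH) (Lpn K67.v35924))))
def v16832 : LQ := Led Lsl_et (LP (LK LD1_c6 LD2_c7 LD3_c24))
theorem f751908 : Led Lsl_et (LP (LK LD1_c6 LD2_c7 LD3_c24)) = v16832 :=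
  Lrfl
theorem f193939 : Led Lsl_et (LP (LK LD1_c4 LD2_c6 LD3_c4)) = (LP (LK LD1_c8 LD2_c12 LD3_c54)) :=
  Lre_e IH (LK LD1_c4 LD2_c6 LD3_c4) (LK LD1_c8 LD2_c12 LD3_c54) Lrfl Lrfl
theorem f751910 : Led Lsl_gt (LP (LK LD1_c8 LD2_c12 LD3_c54)) = v16832 :=
  Lgr Lrot131 (Lpe (f193939 IH) (Lpr_dt (K51.f504805 IH) (Lpe (K32.f79843 IH) (Lpe (K31.f79840 IH) (Lpe (K31.f79841 IH) (Lpr_ef (K55.f744836 IH) (Lpe (K55.f744835 IH) (Lpe (K55.f744839 IH) (Lpe (K55.f185993 IH) (Lpr_et (f751908 IH) (Lpn v16832)))))))))))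
theorem f722234 : Led Lsl_ft (LP (LK LD1_c8 LD2_c12 LD3_c54)) = K70.v14371 :=
  Lgr Lrot48 (Lpr_ff (f722233 IH) (Lpn K70.v14371))
theorem f723871 : Led Lsl_at K70.v14371 = K70.v14580 :=
  Lgr Lrot66 (Lpe (f722234 IH) (Lpe (K51.f633747 IH) (Lpr_ff (K70.f723870 IH) (Lpn K70.v14580))))
theorem f751911 : Led Lsl_gf K70.v14580 = v16832 :=
  Lgr Lrot76 (Lpe (f723871 IH) (Lpe (f722234 IH) (Lpr_gt (f751910 IH) (Lpn v16832))))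
theorem f925229 : Led Lsl_ft v16832 = K67.v35992 :=
  Lgr Lrot2 (Lpe (f751911 IH) (Lpr_gt (f881156 IH) (Lpr_af (f925228 IH) (Lpn K67.v35992))))
theorem f925231 : Led Lsl_ff v16832 = K67.v35992 :=
  Lgr Lrot3 (Lpr_ft (f925229 IH) (Lpn K67.v35992))
theorem f925232 : Led Lsl_at v16832 = K70.v35990 :=
  Lgr Lrot66 (Lpr_ff (f925231 IH) (Lpe (f925227 IH) (Lpr_ff (f925225 IH) (Lpn K70.v35990))))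
theorem f751901 : Led Lsl_af (LP (LK LD1_c6 LD2_c7 LD3_c24)) = v16829 :=
  Lgr Lrot45 (Lpr_ft (f751892 IH) (Lpe (f751890 IH) (Lpr_ft (f751900 IH) (Lpn v16829))))
theorem f925233 : v16829 = (LP (LK LD1_c8 LD2_c14 LD3_c56)) :=
  (Llr Lrot50 (Lpe (f751901 IH) (Lpr_et (f751908 IH) (Lpr_at (f925232 IH) (Lpe (K70.f881550 IH) (Lpn (LP (LK LD1_c8 LD2_c14 LD3_c56)))))))).symm
theorem f925235 : Led Lsl_at (LP (LK LD1_c6 LD2_c7 LD3_c24)) = (LP (LK LD1_c8 LD2_c14 LD3_c56)) :=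
  Leop (Lpq (f925233 IH) (Lpe (f751903 IH) (Lpn (LP (LK LD1_c6 LD2_c7 LD3_c24)))))
theorem seed_2509 : LEOK LG_a (LK LD1_c6 LD2_c7 LD3_c24) :=
  Leoe_a (LK LD1_c6 LD2_c7 LD3_c24) (f925235 IH)
def v41069 : LQ := Led Lsl_ct (LP (LK LD1_c9 LD2_c51 LD3_c8))
theorem f921825 : Led Lsl_ct (LP (LK LD1_c9 LD2_c51 LD3_c8)) = v41069 :=
  Lrfl
theorem f921826 : Led Lsl_cf (LP (LK LD1_c9 LD2_c51 LD3_c8)) = v41069 :=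
  Lgr Lrot11 (Lpr_ct (f921825 IH) (Lpn v41069))
theorem f417535 : Led Lsl_gt (LP (LK LD1_c18 LD2_c58 LD3_c0)) = (LP (LK LD1_c10 LD2_c27 LD3_c43)) :=
  Lre_g IH (LK LD1_c18 LD2_c58 LD3_c0) (LK LD1_c10 LD2_c27 LD3_c43) Lrfl Lrfl
theorem f212153 : Led Lsl_dt (LP (LK LD1_c2 LD2_c42 LD3_c16)) = (LP (LK LD1_c5 LD2_c32 LD3_c7)) :=
  Lre_d IH (LK LD1_c2 LD2_c42 LD3_c16) (LK LD1_c5 LD2_c32 LD3_c7) Lrfl Lrfl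
theorem f212214 : Led Lsl_et (LP (LK LD1_c5 LD2_c32 LD3_c7)) = (LP (LK LD1_c10 LD2_c55 LD3_c54)) :=
  Lre_e IH (LK LD1_c5 LD2_c32 LD3_c7) (LK LD1_c10 LD2_c55 LD3_c54) Lrfl Lrfl
theorem f249955 : Led Lsl_dt (LP (LK LD1_c10 LD2_c55 LD3_c54)) = (LP (LK LD1_c9 LD2_c57 LD3_c57)) :=
  Lgr Lrot77 (Lpe (f212214 IH) (Lpe (f212153 IH) (Lpe (K21.f212138 IH) (Lpr_df (K14.f249929 IH) (Lpe (K71.f249954 IH) (Lpn (LP (LK LD1_c9 LD2_c57 LD3_c57))))))))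
theorem f165622 : Led Lsl_dt (LP (LK LD1_c10 LD2_c27 LD3_c43)) = (LP (LK LD1_c18 LD2_c58 LD3_c1)) :=
  Lre_d IH (LK LD1_c10 LD2_c27 LD3_c43) (LK LD1_c18 LD2_c58 LD3_c1) Lrfl Lrfl
theorem f249962 : Led Lsl_df (LP (LK LD1_c10 LD2_c55 LD3_c54)) = (LP (LK LD1_c9 LD2_c57 LD3_c57)) :=
  Lgr Lrot38 (Lpr_dt (f249955 IH) (Lpn (LP (LK LD1_c9 LD2_c57 LD3_c57))))
theorem f417533 : Led Lsl_gt (LP (LK LD1_c18 LD2_c58 LD3_c1)) = (LP (LK LD1_c10 LD2_c55 LD3_c54)) :=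
  Lgr Lrot112 (Lpe (f165622 IH) (Lpr_et (f165621 IH) (Lpe (f48622 IH) (Lpe (K2.f32610 IH) (Lpr_dt (K2.f31619 IH) (Lpe (K8.f165584 IH) (Lpe (K10.f165587 IH) (Lpr_gf (K14.f249975 IH) (Lpe (K71.f249954 IH) (Lpe (f249962 IH) (Lpn (LP (LK LD1_c10 LD2_c55 LD3_c54)))))))))))))
theorem f824373 : Led Lsl_ct (LP (LK LD1_c18 LD2_c21 LD3_c36)) = (LP (LK LD1_c18 LD2_c58 LD3_c0)) :=
  Lgr Lrot8 (Lpr_gt (f824371 IH) (Lpe (K56.f285169 IH) (Lpr_gt (K56.f185971 IH) (Lpe (K36.f177751 IH) (Lpe (K71.f285252 IH) (Lpe (f249955 IH) (Lpe (f417533 IH) (Lpe (f165622 IH) (Lpe (f417535 IH) (Lpn (LP (LK LD1_c18 LD2_c58 LD3_c0))))))))))))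
theorem f285156 : Led Lsl_gt (LP (LK LD1_c9 LD2_c14 LD3_c23)) = (LP (LK LD1_c6 LD2_c3 LD3_c47)) :=
  Lgr Lrot46 (Lpe (K69.f285155 IH) (Lpr_ft (K39.f268432 IH) (Lpr_at (K39.f285146 IH) (Lpn (LP (LK LD1_c6 LD2_c3 LD3_c47))))))
theorem f186223 : Led Lsl_ct (LP (LK LD1_c6 LD2_c3 LD3_c47)) = (LP (LK LD1_c11 LD2_c51 LD3_c1)) :=
  Lre_c IH (LK LD1_c6 LD2_c3 LD3_c47) (LK LD1_c11 LD2_c51 LD3_c1) Lrfl Lrfl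
def v38690 : LQ := Led Lsl_gf (LP (LK LD1_c9 LD2_c14 LD3_c22))
theorem f903785 : Led Lsl_gf (LP (LK LD1_c9 LD2_c14 LD3_c22)) = v38690 :=
  Lrfl
theorem f186214 : Led Lsl_ct (LP (LK LD1_c2 LD2_c57 LD3_c60)) = (LP (LK LD1_c6 LD2_c3 LD3_c44)) :=
  Lre_c IH (LK LD1_c2 LD2_c57 LD3_c60) (LK LD1_c6 LD2_c3 LD3_c44) Lrfl Lrfl
theorem f285345 : Led Lsl_af (LP (LK LD1_c9 LD2_c14 LD3_c22)) = (LP (LK LD1_c6 LD2_c3 LD3_c44)) :=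
  Lgr Lrot68 (Lpr_ct (K71.f285150 IH) (Lpr_at (K69.f285142 IH) (Lpr_ct (f186214 IH) (Lpn (LP (LK LD1_c6 LD2_c3 LD3_c44))))))
theorem f268398 : Led Lsl_ft (LP (LK LD1_c11 LD2_c51 LD3_c1)) = (LP (LK LD1_c6 LD2_c3 LD3_c44)) :=
  Lre_f IH (LK LD1_c11 LD2_c51 LD3_c1) (LK LD1_c6 LD2_c3 LD3_c44) Lrfl Lrfl
theorem f903786 : Led Lsl_gt (LP (LK LD1_c11 LD2_c51 LD3_c1)) = v38690 :=
  Lgr Lrot5 (Lpr_ft (f268398 IH) (Lpe (f285345 IH) (Lpr_gf (f903785 IH) (Lpn v38690))))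
theorem f925023 : Led Lsl_cf (LP (LK LD1_c11 LD2_c51 LD3_c57)) = v38690 :=
  Lgr Lrot99 (Lpr_df (K49.f334847 IH) (Lpr_cf (f925018 IH) (Lpe (f417535 IH) (Lpe (f824373 IH) (Lpe (f824368 IH) (Lpe (f285161 IH) (Lpr_gt (f285156 IH) (Lpr_ct (f186223 IH) (Lpr_gt (f903786 IH) (Lpn v38690))))))))))
theorem f925025 : Led Lsl_ct (LP (LK LD1_c11 LD2_c51 LD3_c57)) = v38690 :=
  Lgr Lrot59 (Lpr_cf (f925023 IH) (Lpn v38690))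
theorem f925141 : Led Lsl_ff v41069 = v38690 :=
  Lgr Lrot23 (Lpe (f921826 IH) (Lpr_ft (f921827 IH) (Lpq (f925136 IH) (Lpr_ct (f925025 IH) (Lpn v38690)))))
def v38689 : LQ := Led Lsl_gt (LP (LK LD1_c9 LD2_c14 LD3_c22))
theorem f903784 : Led Lsl_gt (LP (LK LD1_c9 LD2_c14 LD3_c22)) = v38689 :=
  Lrfl
theorem f925290 : Led Lsl_at v41069 = v38689 :=
  Lgr Lrot26 (Lpr_ff (f925141 IH) (Lpe (f903785 IH) (Lpr_gt (f903784 IH) (Lpn v38689))))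
theorem f925292 : Led Lsl_cf v41068 = v38689 :=
  Lgr Lrot1 (Lpe (f921822 IH) (Lpr_ct (f921825 IH) (Lpr_at (f925290 IH) (Lpn v38689))))
theorem f925295 : Led Lsl_ft K71.v41072 = v38689 :=
  Lgr Lrot4 (Lpe (K71.f921837 IH) (Lpr_ff (f921824 IH) (Lpr_cf (f925292 IH) (Lpn v38689))))
theorem f175697 : Led Lsl_gt (LP (LK LD1_c6 LD2_c3 LD3_c44)) = (LP (LK LD1_c11 LD2_c50 LD3_c61)) :=
  Lre_g IH (LK LD1_c6 LD2_c3 LD3_c44) (LK LD1_c11 LD2_c50 LD3_c61) Lrfl Lrfl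
theorem f925291 : Led Lsl_af v41069 = v38689 :=
  Lgr Lrot0 (Lpr_at (f925290 IH) (Lpn v38689))
theorem f925298 : (LP (LK LD1_c11 LD2_c50 LD3_c61)) = v41069 :=
  (Llr Lrot46 (Lpe (f175697 IH) (Lpr_gf (K71.f750817 IH) (Lpq (K71.f924014 IH) (Lpr_ft (f925295 IH) (Lpe (f925291 IH) (Lpn v41069))))))).symm
theorem f925299 : Led Lsl_ct (LP (LK LD1_c11 LD2_c50 LD3_c61)) = (LP (LK LD1_c9 LD2_c51 LD3_c8)) :=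
  Leop (Lpr_cf (f921826 IH) (Lpq (f925298 IH) (Lpn (LP (LK LD1_c11 LD2_c50 LD3_c61)))))
theorem seed_2510 : LEOK LG_c (LK LD1_c11 LD2_c50 LD3_c61) :=
  Leoe_c (LK LD1_c11 LD2_c50 LD3_c61) (f925299 IH)
theorem f285373 : Led Lsl_et (LP (LK LD1_c5 LD2_c18 LD3_c56)) = (LP (LK LD1_c10 LD2_c27 LD3_c46)) :=
  Lre_e IH (LK LD1_c5 LD2_c18 LD3_c56) (LK LD1_c10 LD2_c27 LD3_c46) Lrfl Lrfl
theorem f925010 : Led Lsl_cf (LP (LK LD1_c10 LD2_c19 LD3_c9)) = (LP (LK LD1_c10 LD2_c27 LD3_c46)) :=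
  Lgr Lrot39 (Lpr_et (K67.f164359 IH) (Lpr_ct (f724113 IH) (Lpqs (f925004 IH) (Lpr_et (f285373 IH) (Lpn (LP (LK LD1_c10 LD2_c27 LD3_c46)))))))
theorem f714445 : Led Lsl_et (LP (LK LD1_c10 LD2_c0 LD3_c23)) = (LP (LK LD1_c18 LD2_c17 LD3_c22)) :=
  Lre_e IH (LK LD1_c10 LD2_c0 LD3_c23) (LK LD1_c18 LD2_c17 LD3_c22) Lrfl Lrfl
theorem f714456 : Led Lsl_ct (LP (LK LD1_c18 LD2_c17 LD3_c22)) = (LP (LK LD1_c10 LD2_c7 LD3_c0)) :=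
  Lgr Lrot15 (Lpe (f714445 IH) (Lpr_cf (K52.f714446 IH) (Lpe (K51.f177208 IH) (Lpn (LP (LK LD1_c10 LD2_c7 LD3_c0))))))
theorem f714452 : Led Lsl_bt (LP (LK LD1_c18 LD2_c17 LD3_c22)) = (LP (LK LD1_c27 LD2_c56 LD3_c22)) :=
  Lre_b IH (LK LD1_c18 LD2_c17 LD3_c22) (LK LD1_c27 LD2_c56 LD3_c22) Lrfl Lrfl
theorem f925076 : v38267 = (LP (LK LD1_c10 LD2_c27 LD3_c46)) :=
  Lefun (Lecon (f924632 IH) ((f925050 IH).trans (f925004 IH))) (f285373 IH)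
def v35976 : LQ := Led Lsl_ct (LP (LK LD1_c8 LD2_c14 LD3_c51))
theorem f881480 : Led Lsl_ct (LP (LK LD1_c8 LD2_c14 LD3_c51)) = v35976 :=
  Lrfl
theorem f55842 : Led Lsl_bt (LP (LK LD1_c8 LD2_c14 LD3_c51)) = (LP (LK LD1_c4 LD2_c7 LD3_c16)) :=
  Lre_b IH (LK LD1_c8 LD2_c14 LD3_c51) (LK LD1_c4 LD2_c7 LD3_c16) Lrfl Lrfl
def v16371 : LQ := Led Lsl_ft (LP (LK LD1_c5 LD2_c58 LD3_c32))
theorem f748992 : Led Lsl_ft (LP (LK LD1_c5 LD2_c58 LD3_c32)) = v16371 :=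
  Lrfl
theorem f748995 : Led Lsl_ff (LP (LK LD1_c5 LD2_c58 LD3_c32)) = v16371 :=
  Lgr Lrot3 (Lpr_ft (f748992 IH) (Lpn v16371))
theorem f386676 : Led Lsl_ct (LP (LK LD1_c2 LD2_c55 LD3_c40)) = (LP (LK LD1_c1 LD2_c23 LD3_c45)) :=
  Lre_c IH (LK LD1_c2 LD2_c55 LD3_c40) (LK LD1_c1 LD2_c23 LD3_c45) Lrfl Lrfl
theorem f539727 : Led Lsl_gt (LP (LK LD1_c5 LD2_c58 LD3_c32)) = (LP (LK LD1_c2 LD2_c55 LD3_c40)) :=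
  Lre_g IH (LK LD1_c5 LD2_c58 LD3_c32) (LK LD1_c2 LD2_c55 LD3_c40) Lrfl Lrfl
theorem f557703 : Led Lsl_ct (LP (LK LD1_c4 LD2_c7 LD3_c15)) = (LP (LK LD1_c5 LD2_c58 LD3_c32)) :=
  Lgr Lrot152 (Lpe (K40.f55902 IH) (Lpr_df (K40.f557699 IH) (Lpe (K41.f557697 IH) (Lpe (K36.f539725 IH) (Lpr_gt (K36.f387298 IH) (Lpr_ct (K36.f386673 IH) (Lpe (K43.f386670 IH) (Lpe (f386676 IH) (Lpe (f539727 IH) (Lpn (LP (LK LD1_c5 LD2_c58 LD3_c32))))))))))))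
theorem f618610 : Led Lsl_cf (LP (LK LD1_c4 LD2_c7 LD3_c15)) = (LP (LK LD1_c5 LD2_c58 LD3_c32)) :=
  Lgr Lrot11 (Lpr_ct (f557703 IH) (Lpn (LP (LK LD1_c5 LD2_c58 LD3_c32))))
theorem f55888 : Led Lsl_ft (LP (LK LD1_c4 LD2_c7 LD3_c15)) = (LP (LK LD1_c8 LD2_c14 LD3_c46)) :=
  Lre_f IH (LK LD1_c4 LD2_c7 LD3_c15) (LK LD1_c8 LD2_c14 LD3_c46) Lrfl Lrfl
theorem f748997 : Led Lsl_ct (LP (LK LD1_c8 LD2_c14 LD3_c46)) = v16371 :=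
  Lgr Lrot40 (Lpe (f55888 IH) (Lpr_cf (f618610 IH) (Lpr_ff (f748995 IH) (Lpn v16371))))
theorem f55984 : Led Lsl_ct (LP (LK LD1_c4 LD2_c7 LD3_c18)) = (LP (LK LD1_c2 LD2_c0 LD3_c61)) :=
  Lre_c IH (LK LD1_c4 LD2_c7 LD3_c18) (LK LD1_c2 LD2_c0 LD3_c61) Lrfl Lrfl
theorem f618608 : Led Lsl_af (LP (LK LD1_c4 LD2_c7 LD3_c18)) = (LP (LK LD1_c5 LD2_c58 LD3_c32)) :=
  Lgr Lrot68 (Lpr_ct (f55984 IH) (Lpr_at (K10.f55808 IH) (Lpr_ct (f557703 IH) (Lpn (LP (LK LD1_c5 LD2_c58 LD3_c32))))))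
def v1422 : LQ := Led Lsl_gf (LP (LK LD1_c1 LD2_c14 LD3_c0))
theorem f495471 : Led Lsl_gf (LP (LK LD1_c1 LD2_c14 LD3_c0)) = v1422 :=
  Lrfl
theorem f537532 : (LP (LK LD1_c0 LD2_c57 LD3_c34)) = v1422 :=
  Lefun (Lecon (Lfl_gt (K30.f493969 IH)) (K53.f537221 IH)) (f495471 IH)
theorem f55897 : Led Lsl_bt (LP (LK LD1_c2 LD2_c0 LD3_c61)) = (LP (LK LD1_c0 LD2_c57 LD3_c34)) :=
  Lre_b IH (LK LD1_c2 LD2_c0 LD3_c61) (LK LD1_c0 LD2_c57 LD3_c34) Lrfl Lrfl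
theorem f55971 : Led Lsl_ct (LP (LK LD1_c2 LD2_c0 LD3_c61)) = (LP (LK LD1_c4 LD2_c7 LD3_c18)) :=
  Lre_c IH (LK LD1_c2 LD2_c0 LD3_c61) (LK LD1_c4 LD2_c7 LD3_c18) Lrfl Lrfl
theorem f386859 : Led Lsl_bt (LP (LK LD1_c2 LD2_c55 LD3_c41)) = (LP (LK LD1_c5 LD2_c57 LD3_c48)) :=
  Lre_b IH (LK LD1_c2 LD2_c55 LD3_c41) (LK LD1_c5 LD2_c57 LD3_c48) Lrfl Lrfl
theorem f386860 : Led Lsl_ct (LP (LK LD1_c2 LD2_c55 LD3_c41)) = (LP (LK LD1_c5 LD2_c58 LD3_c33)) :=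
  Lre_c IH (LK LD1_c2 LD2_c55 LD3_c41) (LK LD1_c5 LD2_c58 LD3_c33) Lrfl Lrfl
theorem f557489 : Led Lsl_gf (LP (LK LD1_c4 LD2_c7 LD3_c18)) = (LP (LK LD1_c5 LD2_c58 LD3_c33)) :=
  Lgr Lrot126 (Lpe (f55971 IH) (Lpr_bt (f55897 IH) (Lpqs (f537532 IH) (Lpe (f495471 IH) (Lpr_ct (K53.f186776 IH) (Lpq (K53.f537534 IH) (Lpe (K30.f495504 IH) (Lpe (K11.f8456 IH) (Lpr_bt (K43.f195587 IH) (Lpr_gt (K40.f557481 IH) (Lpe (f386859 IH) (Lpr_ct (f386860 IH) (Lpn (LP (LK LD1_c5 LD2_c58 LD3_c33)))))))))))))))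
theorem f748998 : Led Lsl_gf (LP (LK LD1_c5 LD2_c58 LD3_c33)) = v16371 :=
  Lgr Lrot47 (Lpe (f557489 IH) (Lpr_af (f618608 IH) (Lpr_ff (f748995 IH) (Lpn v16371))))
theorem f881485 : Led Lsl_gt (LP (LK LD1_c9 LD2_c7 LD3_c44)) = v35976 :=
  Lgr Lrot65 (Lpe (K43.f71797 IH) (Lpr_bt (K43.f547900 IH) (Lpr_gf (K40.f557485 IH) (Lpe (f386859 IH) (Lpr_ct (f386860 IH) (Lpr_gf (f748998 IH) (Lpe (f748997 IH) (Lpe (K40.f55841 IH) (Lpe (f55842 IH) (Lpr_ct (f881480 IH) (Lpn v35976)))))))))))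
theorem f881482 : Led Lsl_cf (LP (LK LD1_c8 LD2_c14 LD3_c51)) = v35976 :=
  Lgr Lrot11 (Lpr_ct (f881480 IH) (Lpn v35976))
theorem f574466 : Led Lsl_bt (LP (LK LD1_c10 LD2_c6 LD3_c2)) = (LP (LK LD1_c18 LD2_c24 LD3_c53)) :=
  Lre_b IH (LK LD1_c10 LD2_c6 LD3_c2) (LK LD1_c18 LD2_c24 LD3_c53) Lrfl Lrfl
theorem f925361 : Led Lsl_gf (LP (LK LD1_c27 LD2_c56 LD3_c22)) = (LP (LK LD1_c18 LD2_c24 LD3_c53)) :=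
  Lgr Lrot124 (Lpe (f714452 IH) (Lpr_ct (f714456 IH) (Lpr_gt (K67.f881563 IH) (Lpr_cf (f925010 IH) (Lpq (f925076 IH) (Lpe (f900348 IH) (Lpr_gt (f881485 IH) (Lpe (f881482 IH) (Lpr_gt (K45.f594566 IH) (Lpe (K43.f169722 IH) (Lpr_bt (f574466 IH) (Lpn (LP (LK LD1_c18 LD2_c24 LD3_c53))))))))))))))
theorem f925362 : Led Lsl_gt (LP (LK LD1_c18 LD2_c24 LD3_c53)) = (LP (LK LD1_c27 LD2_c56 LD3_c22)) :=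
  Leop (Lpr_gf (f925361 IH) (Lpn (LP (LK LD1_c18 LD2_c24 LD3_c53))))
theorem seed_2511 : LEOK LG_g (LK LD1_c18 LD2_c24 LD3_c53) :=
  Leoe_g (LK LD1_c18 LD2_c24 LD3_c53) (f925362 IH)
theorem f881565 : Led Lsl_df (LP (LK LD1_c10 LD2_c19 LD3_c9)) = K67.v35992 :=
  Lgr Lrot38 (Lpr_dt (K67.f881562 IH) (Lpn K67.v35992))
theorem f724104 : Led Lsl_et (LP (LK LD1_c5 LD2_c14 LD3_c53)) = (LP (LK LD1_c10 LD2_c19 LD3_c9)) :=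
  Lre_e IH (LK LD1_c5 LD2_c14 LD3_c53) (LK LD1_c10 LD2_c19 LD3_c9) Lrfl Lrfl
theorem f925051 : v16860 = (LP (LK LD1_c10 LD2_c19 LD3_c9)) :=
  Lefun (Lecon (f924627 IH) (f925035 IH)) (f724104 IH)
def v16861 : LQ := Led Lsl_dt (LP (LK LD1_c6 LD2_c7 LD3_c60))
theorem f752069 : Led Lsl_dt (LP (LK LD1_c6 LD2_c7 LD3_c60)) = v16861 :=
  Lrfl
theorem f925371 : Led Lsl_bf K67.v35992 = v16861 :=
  Lgr Lrot93 (Lpe (f881565 IH) (Lpq (f925051 IH) (Lpe (f752068 IH) (Lpr_dt (f752069 IH) (Lpn v16861)))))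
theorem f240461 : Led Lsl_et (LP (LK LD1_c18 LD2_c38 LD3_c18)) = (LP (LK LD1_c10 LD2_c14 LD3_c22)) :=
  Lre_e IH (LK LD1_c18 LD2_c38 LD3_c18) (LK LD1_c10 LD2_c14 LD3_c22) Lrfl Lrfl
theorem f739386 : Led Lsl_cf (LP (LK LD1_c18 LD2_c38 LD3_c18)) = (LP (LK LD1_c10 LD2_c18 LD3_c51)) :=
  Lgr Lrot39 (Lpr_et (f240461 IH) (Lpe (K52.f714426 IH) (Lpq (K54.f739371 IH) (Lpr_et (K67.f722240 IH) (Lpn (LP (LK LD1_c10 LD2_c18 LD3_c51)))))))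
theorem f739390 : Led Lsl_ct (LP (LK LD1_c18 LD2_c38 LD3_c18)) = (LP (LK LD1_c10 LD2_c18 LD3_c51)) :=
  Lgr Lrot59 (Lpr_cf (f739386 IH) (Lpn (LP (LK LD1_c10 LD2_c18 LD3_c51))))
theorem f169840 : Led Lsl_et (LP (LK LD1_c18 LD2_c17 LD3_c22)) = (LP (LK LD1_c10 LD2_c0 LD3_c23)) :=
  Lre_e IH (LK LD1_c18 LD2_c17 LD3_c22) (LK LD1_c10 LD2_c0 LD3_c23) Lrfl Lrfl
theorem f714427 : Led Lsl_et (LP (LK LD1_c10 LD2_c14 LD3_c22)) = (LP (LK LD1_c18 LD2_c38 LD3_c18)) :=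
  Lre_e IH (LK LD1_c10 LD2_c14 LD3_c22) (LK LD1_c18 LD2_c38 LD3_c18) Lrfl Lrfl
theorem f714448 : Led Lsl_af (LP (LK LD1_c18 LD2_c17 LD3_c22)) = (LP (LK LD1_c18 LD2_c38 LD3_c18)) :=
  Lgr Lrot50 (Lpr_et (f169840 IH) (Lpr_at (K52.f714442 IH) (Lpr_et (f714427 IH) (Lpn (LP (LK LD1_c18 LD2_c38 LD3_c18))))))
theorem f714450 : Led Lsl_at (LP (LK LD1_c18 LD2_c17 LD3_c22)) = (LP (LK LD1_c18 LD2_c38 LD3_c18)) :=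
  Lgr Lrot100 (Lpr_af (f714448 IH) (Lpn (LP (LK LD1_c18 LD2_c38 LD3_c18))))
theorem f714458 : Led Lsl_cf (LP (LK LD1_c18 LD2_c17 LD3_c22)) = (LP (LK LD1_c10 LD2_c7 LD3_c0)) :=
  Lgr Lrot11 (Lpr_ct (f714456 IH) (Lpn (LP (LK LD1_c10 LD2_c7 LD3_c0))))
theorem f739392 : Led Lsl_af (LP (LK LD1_c10 LD2_c7 LD3_c0)) = (LP (LK LD1_c10 LD2_c18 LD3_c51)) :=
  Lgr Lrot68 (Lpe (f714458 IH) (Lpr_at (f714450 IH) (Lpr_ct (f739390 IH) (Lpn (LP (LK LD1_c10 LD2_c18 LD3_c51))))))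
def v12898 : LQ := Led Lsl_ft (LP (LK LD1_c4 LD2_c34 LD3_c9))
theorem f699209 : Led Lsl_ft (LP (LK LD1_c4 LD2_c34 LD3_c9)) = v12898 :=
  Lrfl
theorem f699213 : Led Lsl_ff (LP (LK LD1_c4 LD2_c34 LD3_c9)) = v12898 :=
  Lgr Lrot3 (Lpr_ft (f699209 IH) (Lpn v12898))
theorem f176670 : Led Lsl_et (LP (LK LD1_c5 LD2_c49 LD3_c21)) = (LP (LK LD1_c11 LD2_c27 LD3_c44)) :=
  Lre_e IH (LK LD1_c5 LD2_c49 LD3_c21) (LK LD1_c11 LD2_c27 LD3_c44) Lrfl Lrfl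
theorem f301996 : Led Lsl_et (LP (LK LD1_c16 LD2_c57 LD3_c32)) = (LP (LK LD1_c9 LD2_c5 LD3_c41)) :=
  Lre_e IH (LK LD1_c16 LD2_c57 LD3_c32) (LK LD1_c9 LD2_c5 LD3_c41) Lrfl Lrfl
theorem f302014 : Led Lsl_bt (LP (LK LD1_c11 LD2_c27 LD3_c44)) = (LP (LK LD1_c16 LD2_c57 LD3_c32)) :=
  Lgr Lrot119 (Lpe (f176670 IH) (Lpr_bf (K40.f302012 IH) (Lpe (f301996 IH) (Lpn (LP (LK LD1_c16 LD2_c57 LD3_c32))))))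
theorem f302016 : Led Lsl_at (LP (LK LD1_c5 LD2_c49 LD3_c23)) = (LP (LK LD1_c11 LD2_c27 LD3_c44)) :=
  Lre_a IH (LK LD1_c5 LD2_c49 LD3_c23) (LK LD1_c11 LD2_c27 LD3_c44) Lrfl Lrfl
theorem f210519 : Led Lsl_bt (LP (LK LD1_c2 LD2_c50 LD3_c48)) = (LP (LK LD1_c5 LD2_c49 LD3_c23)) :=
  Lre_b IH (LK LD1_c2 LD2_c50 LD3_c48) (LK LD1_c5 LD2_c49 LD3_c23) Lrfl Lrfl
theorem f302017 : Led Lsl_at (LP (LK LD1_c16 LD2_c57 LD3_c32)) = (LP (LK LD1_c9 LD2_c5 LD3_c42)) :=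
  Lre_a IH (LK LD1_c16 LD2_c57 LD3_c32) (LK LD1_c9 LD2_c5 LD3_c42) Lrfl Lrfl
theorem f302019 : Led Lsl_af (LP (LK LD1_c2 LD2_c50 LD3_c48)) = (LP (LK LD1_c4 LD2_c34 LD3_c9)) :=
  Lgr Lrot36 (Lpr_bt (f210519 IH) (Lpr_at (f302016 IH) (Lpr_bt (f302014 IH) (Lpr_at (f302017 IH) (Lpr_bt (K53.f302018 IH) (Lpn (LP (LK LD1_c4 LD2_c34 LD3_c9))))))))
theorem f699218 : Led Lsl_gf (LP (LK LD1_c5 LD2_c49 LD3_c25)) = v12898 :=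
  Lgr Lrot47 (Lpr_gt (K67.f176653 IH) (Lpr_af (f302019 IH) (Lpr_ff (f699213 IH) (Lpn v12898))))
theorem f699216 : Led Lsl_dt (LP (LK LD1_c10 LD2_c18 LD3_c28)) = v12898 :=
  Lgr Lrot60 (Lpe (K53.f616068 IH) (Lpr_df (K53.f616062 IH) (Lpr_ff (f699213 IH) (Lpn v12898))))
def v1752 : LQ := Led Lsl_gf (LP (LK LD1_c1 LD2_c25 LD3_c41))
theorem f501283 : Led Lsl_gf (LP (LK LD1_c1 LD2_c25 LD3_c41)) = v1752 :=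
  Lrfl
theorem f313270 : Led Lsl_dt (LP (LK LD1_c0 LD2_c16 LD3_c13)) = (LP (LK LD1_c0 LD2_c17 LD3_c45)) :=
  Lgr Lrot6 (Lpr_gt (K19.f313252 IH) (Lpr_ct (K13.f183347 IH) (Lpr_gt (K9.f173196 IH) (Lpe (K14.f173189 IH) (Lpe (K11.f53172 IH) (Lpr_cf (K10.f177793 IH) (Lpe (K9.f20756 IH) (Lpe (K9.f9066 IH) (Lpe (K0.f9082 IH) (Lpn (LP (LK LD1_c0 LD2_c17 LD3_c45))))))))))))
theorem f302092 : Led Lsl_af (LP (LK LD1_c0 LD2_c28 LD3_c53)) = (LP (LK LD1_c0 LD2_c16 LD3_c11)) :=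
  Lgr Lrot0 (Lpr_at (K18.f302090 IH) (Lpn (LP (LK LD1_c0 LD2_c16 LD3_c11))))
theorem f184388 : Led Lsl_bf (LP (LK LD1_c0 LD2_c35 LD3_c40)) = (LP (LK LD1_c1 LD2_c15 LD3_c61)) :=
  Lgr Lrot96 (Lpr_et (K0.f7938 IH) (Lpr_bt (K14.f6918 IH) (Lpr_et (K14.f184385 IH) (Lpn (LP (LK LD1_c1 LD2_c15 LD3_c61))))))
theorem f200618 : Led Lsl_bt (LP (LK LD1_c0 LD2_c16 LD3_c11)) = (LP (LK LD1_c0 LD2_c27 LD3_c28)) :=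
  Lgr Lrot128 (Lpe (K0.f7935 IH) (Lpr_bf (f184388 IH) (Lpr_cf (K15.f200615 IH) (Lpe (K17.f179887 IH) (Lpe (K9.f179867 IH) (Lpn (LP (LK LD1_c0 LD2_c27 LD3_c28))))))))
theorem f289754 : Led Lsl_ft (LP (LK LD1_c0 LD2_c15 LD3_c1)) = (LP (LK LD1_c0 LD2_c16 LD3_c11)) :=
  Lgr Lrot75 (Lpe (K12.f189578 IH) (Lpr_ff (K17.f289752 IH) (Lpe (f200618 IH) (Lpn (LP (LK LD1_c0 LD2_c16 LD3_c11))))))
theorem f313264 : Led Lsl_gf (LP (LK LD1_c0 LD2_c16 LD3_c13)) = (LP (LK LD1_c0 LD2_c15 LD3_c1)) :=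
  Lgr Lrot47 (Lpr_gt (K19.f313252 IH) (Lpr_af (f302092 IH) (Lpe (f289754 IH) (Lpn (LP (LK LD1_c0 LD2_c15 LD3_c1))))))
theorem f501286 : Led Lsl_dt K37.v1208 = v1752 :=
  Lgr Lrot57 (Lpe (K37.f493965 IH) (Lpe (K36.f452269 IH) (Lpr_gt (K9.f166126 IH) (Lpr_dt (K9.f22128 IH) (Lpe (f313264 IH) (Lpr_dt (f313270 IH) (Lpe (K10.f169093 IH) (Lpe (K54.f169092 IH) (Lpr_gf (f501283 IH) (Lpn v1752))))))))))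
theorem f537509 : v1752 = (LP (LK LD1_c2 LD2_c34 LD3_c3)) :=
  Lefun (Lecon (f501286 IH) (K37.f537216 IH)) (K56.f164419 IH)
theorem f493964 : Led Lsl_gf (LP (LK LD1_c1 LD2_c5 LD3_c22)) = K37.v1208 :=
  Lgr Lrot148 (Lpr_dt (K9.f172064 IH) (Lpr_gt (K9.f55458 IH) (Lpr_dt (K10.f55579 IH) (Lpr_ct (K10.f55578 IH) (Lpe (K1.f8080 IH) (Lpe (K9.f8257 IH) (Lpe (K9.f58968 IH) (Lpe (K9.f59118 IH) (Lpr_ct (K37.f493959 IH) (Lpn K37.v1208))))))))))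
theorem f501287 : Led Lsl_df K37.v1208 = v1752 :=
  Lgr Lrot155 (Lpe (f493964 IH) (Lpr_ct (K22.f22386 IH) (Lpe (K10.f178989 IH) (Lpr_ct (K11.f20710 IH) (Lpr_dt (K10.f20711 IH) (Lpe (K11.f198705 IH) (Lpr_gf (K11.f198674 IH) (Lpe (K22.f177547 IH) (Lpr_gf (f501283 IH) (Lpn v1752))))))))))
theorem f493963 : Led Lsl_ff (LP (LK LD1_c1 LD2_c12 LD3_c32)) = K37.v1208 :=
  Lgr Lrot23 (Lpe (K43.f183219 IH) (Lpr_ft (K17.f289720 IH) (Lpr_ct (K37.f493959 IH) (Lpn K37.v1208))))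
theorem f501289 : Led Lsl_ft (LP (LK LD1_c2 LD2_c31 LD3_c1)) = v1752 :=
  Lgr Lrot54 (Lpe (K9.f22222 IH) (Lpr_ff (f493963 IH) (Lpr_df (f501287 IH) (Lpn v1752))))
theorem f622604 : Led Lsl_ef (LP (LK LD1_c10 LD2_c5 LD3_c20)) = (LP (LK LD1_c10 LD2_c18 LD3_c28)) :=
  Lgr Lrot21 (Lpr_ft (K51.f301841 IH) (Lpr_et (K51.f172053 IH) (Lpr_ft (f501289 IH) (Lpqs (f537509 IH) (Lpr_et (K56.f495449 IH) (Lpr_ft (K53.f616068 IH) (Lpn (LP (LK LD1_c10 LD2_c18 LD3_c28)))))))))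
theorem f710920 : Led Lsl_gf (LP (LK LD1_c10 LD2_c5 LD3_c20)) = (LP (LK LD1_c10 LD2_c18 LD3_c20)) :=
  Lgr Lrot141 (Lpr_ef (f622604 IH) (Lpr_dt (f699216 IH) (Lpe (f699218 IH) (Lpe (K67.f210513 IH) (Lpr_et (K67.f210520 IH) (Lpr_gt (K53.f55782 IH) (Lpr_dt (K53.f553633 IH) (Lpr_gt (K53.f707149 IH) (Lpe (K53.f710896 IH) (Lpr_et (K53.f710911 IH) (Lpn (LP (LK LD1_c10 LD2_c18 LD3_c20)))))))))))))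
theorem f194078 : Led Lsl_bt (LP (LK LD1_c10 LD2_c5 LD3_c18)) = (LP (LK LD1_c5 LD2_c7 LD3_c27)) :=
  Lre_b IH (LK LD1_c10 LD2_c5 LD3_c18) (LK LD1_c5 LD2_c7 LD3_c27) Lrfl Lrfl
theorem f633769 : Led Lsl_bt (LP (LK LD1_c5 LD2_c14 LD3_c18)) = (LP (LK LD1_c10 LD2_c18 LD3_c20)) :=
  Lre_b IH (LK LD1_c5 LD2_c14 LD3_c18) (LK LD1_c10 LD2_c18 LD3_c20) Lrfl Lrfl
theorem f633778 : Led Lsl_ff (LP (LK LD1_c10 LD2_c5 LD3_c18)) = (LP (LK LD1_c10 LD2_c18 LD3_c20)) :=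
  Lgr Lrot25 (Lpr_bt (f194078 IH) (Lpr_ft (K55.f633776 IH) (Lpr_bt (f633769 IH) (Lpn (LP (LK LD1_c10 LD2_c18 LD3_c20))))))
theorem f710922 : Led Lsl_af (LP (LK LD1_c10 LD2_c18 LD3_c23)) = (LP (LK LD1_c10 LD2_c5 LD3_c18)) :=
  Lgr Lrot31 (Lpr_gf (K51.f301842 IH) (Lpr_gf (f710920 IH) (Lpe (f633778 IH) (Lpn (LP (LK LD1_c10 LD2_c5 LD3_c18))))))
theorem f710924 : Led Lsl_at (LP (LK LD1_c10 LD2_c18 LD3_c23)) = (LP (LK LD1_c10 LD2_c5 LD3_c18)) :=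
  Lgr Lrot100 (Lpr_af (f710922 IH) (Lpn (LP (LK LD1_c10 LD2_c5 LD3_c18))))
def v14373 : LQ := Led Lsl_gf (LP (LK LD1_c5 LD2_c7 LD3_c28))
theorem f722237 : Led Lsl_gf (LP (LK LD1_c5 LD2_c7 LD3_c28)) = v14373 :=
  Lrfl
theorem f180667 : Led Lsl_et (LP (LK LD1_c10 LD2_c18 LD3_c51)) = (LP (LK LD1_c5 LD2_c14 LD3_c40)) :=
  Lre_e IH (LK LD1_c10 LD2_c18 LD3_c51) (LK LD1_c5 LD2_c14 LD3_c40) Lrfl Lrfl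
theorem f722238 : Led Lsl_dt (LP (LK LD1_c10 LD2_c18 LD3_c51)) = v14373 :=
  Lgr Lrot136 (Lpr_et (f180667 IH) (Lpe (K54.f180666 IH) (Lpe (K17.f180663 IH) (Lpe (K10.f180637 IH) (Lpr_gf (K10.f186831 IH) (Lpr_df (K10.f194035 IH) (Lpe (K10.f194044 IH) (Lpe (K18.f194049 IH) (Lpr_dt (K18.f194050 IH) (Lpr_gf (f722237 IH) (Lpn v14373)))))))))))
theorem f722239 : Led Lsl_df (LP (LK LD1_c10 LD2_c18 LD3_c51)) = v14373 :=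
  Lgr Lrot38 (Lpr_dt (f722238 IH) (Lpn v14373))
theorem f739396 : (LP (LK LD1_c10 LD2_c5 LD3_c18)) = v14373 :=
  (Llr Lrot51 (Lpe (f710924 IH) (Lpe (K51.f186670 IH) (Lpr_af (f739392 IH) (Lpr_df (f722239 IH) (Lpn v14373)))))).symm
theorem f194074 : Led Lsl_bt (LP (LK LD1_c5 LD2_c7 LD3_c27)) = (LP (LK LD1_c10 LD2_c5 LD3_c18)) :=
  Lre_b IH (LK LD1_c5 LD2_c7 LD3_c27) (LK LD1_c10 LD2_c5 LD3_c18) Lrfl Lrfl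
theorem f739426 : Led Lsl_bt (LP (LK LD1_c10 LD2_c18 LD3_c51)) = (LP (LK LD1_c8 LD2_c14 LD3_c58)) :=
  Lgr Lrot95 (Lpr_df (f722239 IH) (Lpq (f739396 IH) (Lpe (f194074 IH) (Lpr_df (K51.f194071 IH) (Lpn (LP (LK LD1_c8 LD2_c14 LD3_c58)))))))
def v5017 : LQ := Led Lsl_gt (LP (LK LD1_c2 LD2_c55 LD3_c40))
def v24841 : LQ := Led Lsl_dt v5017
theorem f825843 : Led Lsl_dt v5017 = v24841 :=
  Lrfl
theorem f641341 : Led Lsl_gt (LP (LK LD1_c2 LD2_c55 LD3_c40)) = v5017 :=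
  Lrfl
theorem f386674 : Led Lsl_ct (LP (LK LD1_c1 LD2_c23 LD3_c45)) = (LP (LK LD1_c2 LD2_c55 LD3_c40)) :=
  Lre_c IH (LK LD1_c1 LD2_c23 LD3_c45) (LK LD1_c2 LD2_c55 LD3_c40) Lrfl Lrfl
def v1424 : LQ := Led Lsl_ft (LP (LK LD1_c1 LD2_c14 LD3_c0))
theorem f495481 : Led Lsl_ft (LP (LK LD1_c1 LD2_c14 LD3_c0)) = v1424 :=
  Lrfl
theorem f495484 : Led Lsl_ff (LP (LK LD1_c1 LD2_c14 LD3_c0)) = v1424 :=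
  Lgr Lrot3 (Lpr_ft (f495481 IH) (Lpn v1424))
theorem f164103 : Led Lsl_bt (LP (LK LD1_c1 LD2_c14 LD3_c0)) = (LP (LK LD1_c0 LD2_c34 LD3_c19)) :=
  Lre_b IH (LK LD1_c1 LD2_c14 LD3_c0) (LK LD1_c0 LD2_c34 LD3_c19) Lrfl Lrfl
theorem f495485 : Led Lsl_bt (LP (LK LD1_c1 LD2_c14 LD3_c5)) = v1424 :=
  Lgr Lrot35 (Lpe (K9.f163657 IH) (Lpe (f164103 IH) (Lpr_ff (f495484 IH) (Lpn v1424))))
theorem f495486 : Led Lsl_dt K38.v370 = v1424 :=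
  Lgr Lrot60 (Lpe (K38.f452465 IH) (Lpe (K38.f164399 IH) (Lpr_ff (f495484 IH) (Lpn v1424))))
theorem f537207 : v1424 = (LP (LK LD1_c1 LD2_c25 LD3_c39)) :=
  Lefun (Lecon (f495486 IH) (K38.f537071 IH)) (K9.f169096 IH)
theorem f55630 : Led Lsl_bt (LP (LK LD1_c4 LD2_c7 LD3_c20)) = (LP (LK LD1_c2 LD2_c1 LD3_c4)) :=
  Lre_b IH (LK LD1_c4 LD2_c7 LD3_c20) (LK LD1_c2 LD2_c1 LD3_c4) Lrfl Lrfl
theorem f641343 : Led Lsl_ct (LP (LK LD1_c4 LD2_c7 LD3_c20)) = v5017 :=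
  Lgr Lrot63 (Lpr_bt (f55630 IH) (Lpr_gt (K9.f169090 IH) (Lpq (f537207 IH) (Lpe (f495485 IH) (Lpe (K8.f163642 IH) (Lpr_gt (K9.f21423 IH) (Lpe (K9.f169580 IH) (Lpr_bt (K27.f169684 IH) (Lpe (K27.f386663 IH) (Lpr_ct (f386674 IH) (Lpr_gt (f641341 IH) (Lpn v5017))))))))))))
theorem f444459 : Led Lsl_ft (LP (LK LD1_c2 LD2_c0 LD3_c61)) = (LP (LK LD1_c4 LD2_c7 LD3_c20)) :=
  Lre_f IH (LK LD1_c2 LD2_c0 LD3_c61) (LK LD1_c4 LD2_c7 LD3_c20) Lrfl Lrfl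
theorem f641344 : Led Lsl_ff (LP (LK LD1_c4 LD2_c7 LD3_c18)) = v5017 :=
  Lgr Lrot23 (Lpr_ct (f55984 IH) (Lpr_ft (f444459 IH) (Lpr_ct (f641343 IH) (Lpn v5017))))
theorem f641345 : Led Lsl_ft (LP (LK LD1_c4 LD2_c7 LD3_c18)) = v5017 :=
  Lgr Lrot48 (Lpr_ff (f641344 IH) (Lpn v5017))
def v12365 : LQ := Led Lsl_dt (LP (LK LD1_c4 LD2_c7 LD3_c18))
theorem f691739 : Led Lsl_dt (LP (LK LD1_c4 LD2_c7 LD3_c18)) = v12365 :=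
  Lrfl
theorem f691740 : Led Lsl_df (LP (LK LD1_c4 LD2_c7 LD3_c18)) = v12365 :=
  Lgr Lrot38 (Lpr_dt (f691739 IH) (Lpn v12365))
theorem f825847 : Led Lsl_ff v12365 = v24841 :=
  Lgr Lrot19 (Lpe (f691740 IH) (Lpr_ft (f641345 IH) (Lpr_dt (f825843 IH) (Lpn v24841))))
def v16369 : LQ := Led Lsl_dt (LP (LK LD1_c5 LD2_c58 LD3_c32))
theorem f748981 : Led Lsl_dt (LP (LK LD1_c5 LD2_c58 LD3_c32)) = v16369 :=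
  Lrfl
theorem f748983 : Led Lsl_df (LP (LK LD1_c5 LD2_c58 LD3_c32)) = v16369 :=
  Lgr Lrot38 (Lpr_dt (f748981 IH) (Lpn v16369))
theorem f748985 : Led Lsl_at v12365 = v16369 :=
  Lgr Lrot51 (Lpe (f691739 IH) (Lpr_af (f618608 IH) (Lpr_df (f748983 IH) (Lpn v16369))))
def v16868 : LQ := Led Lsl_ct (LP (LK LD1_c6 LD2_c8 LD3_c4))
theorem f752160 : Led Lsl_ct (LP (LK LD1_c6 LD2_c8 LD3_c4)) = v16868 :=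
  Lrfl
theorem f752159 : Led Lsl_df K56.v14353 = K56.v16867 :=
  Lgr Lrot38 (Lpr_dt (K56.f752100 IH) (Lpn K56.v16867))
theorem f161220 : Led Lsl_ft (LP (LK LD1_c4 LD2_c58 LD3_c34)) = (LP (LK LD1_c2 LD2_c27 LD3_c7)) :=
  Lre_f IH (LK LD1_c4 LD2_c58 LD3_c34) (LK LD1_c2 LD2_c27 LD3_c7) Lrfl Lrfl
theorem f421189 : Led Lsl_at (LP (LK LD1_c5 LD2_c13 LD3_c52)) = (LP (LK LD1_c4 LD2_c58 LD3_c34)) :=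
  Lgr Lrot66 (Lpr_ff (K32.f421187 IH) (Lpr_af (K41.f161205 IH) (Lpe (f161220 IH) (Lpn (LP (LK LD1_c4 LD2_c58 LD3_c34))))))
theorem f557695 : Led Lsl_gf (LP (LK LD1_c2 LD2_c59 LD3_c43)) = (LP (LK LD1_c3 LD2_c59 LD3_c18)) :=
  Lgr Lrot47 (Lpr_gt (K40.f557679 IH) (Lpe (f421189 IH) (Lpr_ff (K32.f421187 IH) (Lpn (LP (LK LD1_c3 LD2_c59 LD3_c18))))))
def v14334 : LQ := Led Lsl_ct (LP (LK LD1_c5 LD2_c6 LD3_c39))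
theorem f721971 : Led Lsl_ct (LP (LK LD1_c5 LD2_c6 LD3_c39)) = v14334 :=
  Lrfl
theorem f721972 : Led Lsl_cf (LP (LK LD1_c5 LD2_c6 LD3_c39)) = v14334 :=
  Lgr Lrot11 (Lpr_ct (f721971 IH) (Lpn v14334))
theorem f722134 : Led Lsl_gf v14334 = K56.v14353 :=
  Lgr Lrot104 (Lpe (f721972 IH) (Lpe (K18.f176977 IH) (Lpe (K27.f205200 IH) (Lpr_gf (f557695 IH) (Lpr_cf (K32.f139378 IH) (Lpe (K70.f427799 IH) (Lpe (K40.f308073 IH) (Lpe (K40.f387287 IH) (Lpr_ct (K56.f722131 IH) (Lpn K56.v14353))))))))))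
def v16857 : LQ := Led Lsl_dt (LP (LK LD1_c6 LD2_c7 LD3_c51))
theorem f752045 : Led Lsl_dt (LP (LK LD1_c6 LD2_c7 LD3_c51)) = v16857 :=
  Lrfl
theorem f302673 : Led Lsl_gf (LP (LK LD1_c2 LD2_c33 LD3_c5)) = (LP (LK LD1_c2 LD2_c30 LD3_c33)) :=
  Lgr Lrot47 (Lpr_gt (K40.f289417 IH) (Lpe (K18.f289413 IH) (Lpr_ff (K27.f302641 IH) (Lpn (LP (LK LD1_c2 LD2_c30 LD3_c33))))))
theorem f427512 : Led Lsl_dt (LP (LK LD1_c3 LD2_c0 LD3_c7)) = (LP (LK LD1_c1 LD2_c25 LD3_c50)) :=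
  Lre_d IH (LK LD1_c3 LD2_c0 LD3_c7) (LK LD1_c1 LD2_c25 LD3_c50) Lrfl Lrfl
theorem f563793 : Led Lsl_gt (LP (LK LD1_c9 LD2_c48 LD3_c1)) = (LP (LK LD1_c6 LD2_c7 LD3_c51)) :=
  Lgr Lrot150 (Lpe (f387071 IH) (Lpr_gf (K40.f387282 IH) (Lpr_df (K40.f563787 IH) (Lpr_gt (K44.f302667 IH) (Lpe (K27.f205136 IH) (Lpe (f302673 IH) (Lpq (K40.f558412 IH) (Lpe (K40.f501329 IH) (Lpe (f427512 IH) (Lpe (f501330 IH) (Lpn (LP (LK LD1_c6 LD2_c7 LD3_c51)))))))))))))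
def v14388 : LQ := Led Lsl_dt (LP (LK LD1_c5 LD2_c8 LD3_c6))
theorem f722303 : Led Lsl_dt (LP (LK LD1_c5 LD2_c8 LD3_c6)) = v14388 :=
  Lrfl
theorem f722304 : Led Lsl_df (LP (LK LD1_c5 LD2_c8 LD3_c6)) = v14388 :=
  Lgr Lrot38 (Lpr_dt (f722303 IH) (Lpn v14388))
theorem f752049 : Led Lsl_gf v14388 = v16857 :=
  Lgr Lrot143 (Lpe (f722304 IH) (Lpe (K32.f53235 IH) (Lpr_df (K32.f53208 IH) (Lpe (K40.f559619 IH) (Lpe (K50.f597881 IH) (Lpe (K40.f387252 IH) (Lpe (K53.f387072 IH) (Lpr_gt (f563793 IH) (Lpr_dt (f752045 IH) (Lpn v16857))))))))))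
theorem f752050 : Led Lsl_bt (LP (LK LD1_c10 LD2_c18 LD3_c47)) = v16857 :=
  Lgr Lrot178 (Lpr_cf (K28.f426228 IH) (Lpe (K40.f426223 IH) (Lpr_gf (K36.f500655 IH) (Lpq (K36.f539678 IH) (Lpe (K18.f166159 IH) (Lpe (K9.f166153 IH) (Lpe (K12.f22136 IH) (Lpr_gf (K14.f226056 IH) (Lpe (K11.f20655 IH) (Lpe (K11.f200646 IH) (Lpr_df (K20.f200661 IH) (Lpe (K10.f165230 IH) (Lpe (K10.f163712 IH) (Lpe (K8.f163701 IH) (Lpe (K8.f163702 IH) (Lpe (K9.f164091 IH) (Lpe (K32.f53207 IH) (Lpe (f53226 IH) (Lpr_df (f722304 IH) (Lpr_gf (f752049 IH) (Lpn v16857)))))))))))))))))))))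
theorem f386716 : Led Lsl_ct (LP (LK LD1_c5 LD2_c58 LD3_c33)) = (LP (LK LD1_c2 LD2_c55 LD3_c41)) :=
  Lre_c IH (LK LD1_c5 LD2_c58 LD3_c33) (LK LD1_c2 LD2_c55 LD3_c41) Lrfl Lrfl
def v16372 : LQ := Led Lsl_bt (LP (LK LD1_c5 LD2_c58 LD3_c33))
theorem f749000 : Led Lsl_bt (LP (LK LD1_c5 LD2_c58 LD3_c33)) = v16372 :=
  Lrfl
theorem f749001 : Led Lsl_bf (LP (LK LD1_c5 LD2_c58 LD3_c33)) = v16372 :=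
  Lgr Lrot24 (Lpr_bt (f749000 IH) (Lpn v16372))
theorem f752051 : Led Lsl_cf v16372 = v16857 :=
  Lgr Lrot97 (Lpe (f749001 IH) (Lpr_ct (f386716 IH) (Lpr_bt (f386859 IH) (Lpe (K28.f426228 IH) (Lpr_bt (f752050 IH) (Lpn v16857))))))
theorem f752054 : Led Lsl_ct v16372 = v16857 :=
  Lgr Lrot59 (Lpr_cf (f752051 IH) (Lpn v16857))
theorem f752163 : Led Lsl_gf v16372 = v16868 :=
  Lgr Lrot104 (Lpr_ct (f752054 IH) (Lpe (f752045 IH) (Lpe (f182027 IH) (Lpe (K36.f539672 IH) (Lpr_cf (f721972 IH) (Lpr_gf (f722134 IH) (Lpr_df (f752159 IH) (Lpe (K56.f752099 IH) (Lpr_ct (f752160 IH) (Lpn v16868))))))))))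
theorem f267781 : Led Lsl_dt (LP (LK LD1_c0 LD2_c31 LD3_c59)) = (LP (LK LD1_c0 LD2_c15 LD3_c21)) :=
  Lgr Lrot77 (Lpr_ef (K15.f267773 IH) (Lpr_df (K31.f267730 IH) (Lpe (K17.f242659 IH) (Lpe (K13.f186344 IH) (Lpe (K15.f185838 IH) (Lpn (LP (LK LD1_c0 LD2_c15 LD3_c21))))))))
theorem f749003 : Led Lsl_gf v12365 = v16372 :=
  Lgr Lrot85 (Lpe (f691740 IH) (Lpr_ct (f55984 IH) (Lpr_bt (f55897 IH) (Lpqs (f537532 IH) (Lpe (f495471 IH) (Lpr_dt (K38.f164399 IH) (Lpqs (K37.f537077 IH) (Lpe (K36.f452271 IH) (Lpqs (K37.f536866 IH) (Lpe (K38.f452443 IH) (Lpqs (K37.f536744 IH) (Lpe (K35.f452265 IH) (Lpr_dt (K35.f182024 IH) (Lpe (K16.f182020 IH) (Lpr_bt (K10.f177634 IH) (Lpe (K15.f267787 IH) (Lpr_dt (f267781 IH) (Lpr_ct (K10.f165464 IH) (Lpr_bt (K27.f165468 IH) (Lpr_gt (K36.f427778 IH) (Lpr_dt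 (K27.f386717 IH) (Lpr_ct (f386860 IH) (Lpr_bt (f749000 IH) (Lpn v16372))))))))))))))))))))))))
theorem f55898 : Led Lsl_at (LP (LK LD1_c4 LD2_c7 LD3_c15)) = (LP (LK LD1_c2 LD2_c0 LD3_c61)) :=
  Lre_a IH (LK LD1_c4 LD2_c7 LD3_c15) (LK LD1_c2 LD2_c0 LD3_c61) Lrfl Lrfl
theorem f618612 : Led Lsl_at (LP (LK LD1_c4 LD2_c7 LD3_c18)) = (LP (LK LD1_c5 LD2_c58 LD3_c32)) :=
  Lgr Lrot107 (Lpe (f55971 IH) (Lpe (f55898 IH) (Lpr_cf (f618610 IH) (Lpn (LP (LK LD1_c5 LD2_c58 LD3_c32))))))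
theorem f748982 : Led Lsl_af v12365 = v16369 :=
  Lgr Lrot117 (Lpe (f691740 IH) (Lpr_at (f618612 IH) (Lpr_dt (f748981 IH) (Lpn v16369))))
theorem f752164 : Led Lsl_ff v16369 = v16868 :=
  Lgr Lrot52 (Lpe (f748982 IH) (Lpr_gf (f749003 IH) (Lpr_gf (f752163 IH) (Lpn v16868))))
theorem f752166 : Led Lsl_ft v16369 = v16868 :=
  Lgr Lrot48 (Lpr_ff (f752164 IH) (Lpn v16868))
theorem f825848 : Led Lsl_at v16868 = v24841 :=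
  Lgr Lrot66 (Lpe (f752166 IH) (Lpe (f748985 IH) (Lpr_ff (f825847 IH) (Lpn v24841))))
theorem f55964 : Led Lsl_at (LP (LK LD1_c1 LD2_c25 LD3_c52)) = (LP (LK LD1_c0 LD2_c39 LD3_c40)) :=
  Lre_a IH (LK LD1_c1 LD2_c25 LD3_c52) (LK LD1_c0 LD2_c39 LD3_c40) Lrfl Lrfl
theorem f55965 : Led Lsl_ct (LP (LK LD1_c2 LD2_c0 LD3_c60)) = (LP (LK LD1_c1 LD2_c25 LD3_c52)) :=
  Lgr Lrot111 (Lpe (K10.f55876 IH) (Lpr_cf (K1.f55955 IH) (Lpe (f55964 IH) (Lpn (LP (LK LD1_c1 LD2_c25 LD3_c52))))))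
theorem f825851 : Led Lsl_ct v16861 = v24841 :=
  Lgr Lrot98 (Lpe (f752069 IH) (Lpe (f55960 IH) (Lpe (K43.f55959 IH) (Lpe (f55965 IH) (Lpe (K40.f55882 IH) (Lpr_cf (f618610 IH) (Lpr_df (f748983 IH) (Lpr_ft (f752166 IH) (Lpr_at (f825848 IH) (Lpn v24841))))))))))
theorem f386693 : Led Lsl_ct (LP (LK LD1_c2 LD2_c55 LD3_c39)) = (LP (LK LD1_c5 LD2_c58 LD3_c30)) :=
  Lre_c IH (LK LD1_c2 LD2_c55 LD3_c39) (LK LD1_c5 LD2_c58 LD3_c30) Lrfl Lrfl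
def v16365 : LQ := Led Lsl_dt (LP (LK LD1_c5 LD2_c58 LD3_c30))
theorem f748967 : Led Lsl_dt (LP (LK LD1_c5 LD2_c58 LD3_c30)) = v16365 :=
  Lrfl
theorem f748968 : Led Lsl_df (LP (LK LD1_c5 LD2_c58 LD3_c30)) = v16365 :=
  Lgr Lrot38 (Lpr_dt (f748967 IH) (Lpn v16365))
def v14322 : LQ := Led Lsl_ct (LP (LK LD1_c5 LD2_c6 LD3_c32))
theorem f721918 : Led Lsl_ct (LP (LK LD1_c5 LD2_c6 LD3_c32)) = v14322 :=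
  Lrfl
theorem f386701 : Led Lsl_ct (LP (LK LD1_c5 LD2_c58 LD3_c30)) = (LP (LK LD1_c2 LD2_c55 LD3_c39)) :=
  Lre_c IH (LK LD1_c5 LD2_c58 LD3_c30) (LK LD1_c2 LD2_c55 LD3_c39) Lrfl Lrfl
theorem f721921 : Led Lsl_ff (LP (LK LD1_c5 LD2_c58 LD3_c30)) = v14322 :=
  Lgr Lrot23 (Lpr_ct (f386701 IH) (Lpr_ft (K27.f386699 IH) (Lpr_ct (f721918 IH) (Lpn v14322))))
theorem f721923 : Led Lsl_ft (LP (LK LD1_c5 LD2_c58 LD3_c30)) = v14322 :=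
  Lgr Lrot48 (Lpr_ff (f721921 IH) (Lpn v14322))
theorem f169677 : Led Lsl_ct (LP (LK LD1_c5 LD2_c6 LD3_c34)) = (LP (LK LD1_c2 LD2_c30 LD3_c34)) :=
  Lre_c IH (LK LD1_c5 LD2_c6 LD3_c34) (LK LD1_c2 LD2_c30 LD3_c34) Lrfl Lrfl
theorem f721919 : Led Lsl_af (LP (LK LD1_c5 LD2_c6 LD3_c34)) = v14322 :=
  Lgr Lrot68 (Lpr_ct (f169677 IH) (Lpr_at (K28.f302658 IH) (Lpr_ct (f721918 IH) (Lpn v14322))))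
theorem f169694 : Led Lsl_ct (LP (LK LD1_c2 LD2_c30 LD3_c34)) = (LP (LK LD1_c5 LD2_c6 LD3_c34)) :=
  Lre_c IH (LK LD1_c2 LD2_c30 LD3_c34) (LK LD1_c5 LD2_c6 LD3_c34) Lrfl Lrfl
theorem f748969 : Led Lsl_cf K55.v14600 = v16365 :=
  Lgr Lrot118 (Lpe (K55.f723964 IH) (Lpr_ct (K55.f180677 IH) (Lpe (K32.f180673 IH) (Lpr_ct (K11.f204891 IH) (Lpr_dt (K27.f22200 IH) (Lpr_ct (f169694 IH) (Lpr_af (f721919 IH) (Lpe (f721923 IH) (Lpr_dt (f748967 IH) (Lpn v16365))))))))))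
theorem f748970 : Led Lsl_ct K55.v14600 = v16365 :=
  Lgr Lrot59 (Lpr_cf (f748969 IH) (Lpn v16365))
def v5018 : LQ := Led Lsl_bt (LP (LK LD1_c2 LD2_c55 LD3_c40))
theorem f641346 : Led Lsl_bt (LP (LK LD1_c2 LD2_c55 LD3_c40)) = v5018 :=
  Lrfl
theorem f641347 : Led Lsl_bf (LP (LK LD1_c2 LD2_c55 LD3_c40)) = v5018 :=
  Lgr Lrot24 (Lpr_bt (f641346 IH) (Lpn v5018))
theorem f748518 : Led Lsl_cf v5018 = K55.v16331 :=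
  Lgr Lrot97 (Lpe (f641347 IH) (Lpr_ct (f386676 IH) (Lpr_bt (K38.f426187 IH) (Lpr_ct (K32.f386678 IH) (Lpr_bt (K55.f748516 IH) (Lpn K55.v16331))))))
theorem f748656 : Led Lsl_ct v5018 = K55.v16331 :=
  Lgr Lrot59 (Lpr_cf (f748518 IH) (Lpn K55.v16331))
theorem f748984 : Led Lsl_gf v5018 = v16369 :=
  Lgr Lrot179 (Lpr_ct (f748656 IH) (Lpe (K55.f748519 IH) (Lpr_ct (f748970 IH) (Lpe (f748968 IH) (Lpe (f386693 IH) (Lpe (K27.f384042 IH) (Lpe (f386676 IH) (Lpe (f539727 IH) (Lpr_dt (f748981 IH) (Lpn v16369))))))))))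
theorem f825850 : Led Lsl_gt v5018 = v24841 :=
  Lgr Lrot46 (Lpr_gf (f748984 IH) (Lpr_ft (f752166 IH) (Lpr_at (f825848 IH) (Lpn v24841))))
theorem f748655 : Led Lsl_df K55.v14354 = K55.v16331 :=
  Lgr Lrot38 (Lpr_dt (K55.f748520 IH) (Lpn K55.v16331))
theorem f920793 : Led Lsl_gf K55.v16331 = v40861 :=
  Lgr Lrot143 (Lpe (f748655 IH) (Lpe (K55.f722140 IH) (Lpe (K40.f427753 IH) (Lpr_gf (K40.f427756 IH) (Lpe (f55962 IH) (Lpr_gf (K43.f557483 IH) (Lpe (K38.f386765 IH) (Lpe (K43.f387170 IH) (Lpr_dt (f920789 IH) (Lpn v40861))))))))))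
theorem f924747 : Led Lsl_bt (LP (LK LD1_c11 LD2_c36 LD3_c15)) = v40861 :=
  Lgr Lrot127 (Lpr_bf (f924746 IH) (Lpn v40861))
theorem f21936 : Led Lsl_et (LP (LK LD1_c10 LD2_c14 LD3_c35)) = (LP (LK LD1_c5 LD2_c11 LD3_c50)) :=
  Lre_e IH (LK LD1_c10 LD2_c14 LD3_c35) (LK LD1_c5 LD2_c11 LD3_c50) Lrfl Lrfl
theorem f747289 : Led Lsl_et (LP (LK LD1_c5 LD2_c55 LD3_c28)) = (LP (LK LD1_c11 LD2_c36 LD3_c15)) :=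
  Lre_e IH (LK LD1_c5 LD2_c55 LD3_c28) (LK LD1_c11 LD2_c36 LD3_c15) Lrfl Lrfl
theorem f924968 : Led Lsl_cf (LP (LK LD1_c10 LD2_c14 LD3_c35)) = (LP (LK LD1_c11 LD2_c36 LD3_c15)) :=
  Lgr Lrot39 (Lpr_et (f21936 IH) (Lpr_ct (f722955 IH) (Lpqs (f924749 IH) (Lpr_et (f747289 IH) (Lpn (LP (LK LD1_c11 LD2_c36 LD3_c15)))))))
theorem f925373 : Led Lsl_gt (LP (LK LD1_c18 LD2_c38 LD3_c18)) = (LP (LK LD1_c10 LD2_c14 LD3_c35)) :=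
  Lgr Lrot65 (Lpr_cf (f739386 IH) (Lpr_bt (f739426 IH) (Lpr_gf (K67.f881560 IH) (Lpr_bf (f925371 IH) (Lpr_ct (f825851 IH) (Lpe (f825850 IH) (Lpr_cf (f748518 IH) (Lpr_gf (f920793 IH) (Lpe (f924747 IH) (Lpe (f924968 IH) (Lpn (LP (LK LD1_c10 LD2_c14 LD3_c35)))))))))))))
theorem f925374 : Led Lsl_gt (LP (LK LD1_c18 LD2_c38 LD3_c18)) = (LP (LK LD1_c10 LD2_c14 LD3_c35)) :=
  Leop (Lpe (f925373 IH) (Lpn (LP (LK LD1_c18 LD2_c38 LD3_c18))))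
theorem seed_2512 : LEOK LG_g (LK LD1_c18 LD2_c38 LD3_c18) :=
  Leoe_g (LK LD1_c18 LD2_c38 LD3_c18) (f925374 IH)
theorem f442706 : Led Lsl_ct (LP (LK LD1_c16 LD2_c59 LD3_c35)) = (LP (LK LD1_c26 LD2_c55 LD3_c7)) :=
  Lre_c IH (LK LD1_c16 LD2_c59 LD3_c35) (LK LD1_c26 LD2_c55 LD3_c7) Lrfl Lrfl
theorem f646228 : Led Lsl_at K71.v4643 = K71.v5149 :=
  Lgr Lrot80 (Lpe (K71.f638298 IH) (Lpe (K22.f334635 IH) (Lpr_ef (f646227 IH) (Lpn K71.v5149))))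
theorem f823129 : Led Lsl_ff K71.v4643 = K71.v24260 :=
  Lgr Lrot3 (Lpr_ft (K71.f823125 IH) (Lpn K71.v24260))
theorem f826605 : Led Lsl_gt K71.v24260 = v25023 :=
  Lgr Lrot5 (Lpe (f823129 IH) (Lpr_at (f646228 IH) (Lpr_gf (f826604 IH) (Lpn v25023))))
theorem f638299 : Led Lsl_cf (LP (LK LD1_c4 LD2_c7 LD3_c22)) = K71.v4643 :=
  Lgr Lrot39 (Lpr_et (K35.f55816 IH) (Lpr_ct (K10.f195578 IH) (Lpr_et (K71.f638298 IH) (Lpn K71.v4643))))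
theorem f823132 : Led Lsl_ct K49.v12370 = K71.v24260 :=
  Lgr Lrot40 (Lpe (K49.f691753 IH) (Lpr_cf (f638299 IH) (Lpr_ff (f823129 IH) (Lpn K71.v24260))))
theorem f881507 : Led Lsl_ff (LP (LK LD1_c8 LD2_c14 LD3_c54)) = K67.v35981 :=
  Lgr Lrot3 (Lpr_ft (K67.f881502 IH) (Lpn K67.v35981))
theorem f881511 : Led Lsl_bt K49.v12370 = K67.v35981 :=
  Lgr Lrot35 (Lpe (K49.f691753 IH) (Lpe (K38.f172085 IH) (Lpr_ff (f881507 IH) (Lpn K67.v35981))))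
theorem f548561 : Led Lsl_af (LP (LK LD1_c5 LD2_c8 LD3_c5)) = (LP (LK LD1_c8 LD2_c14 LD3_c54)) :=
  Lgr Lrot0 (Lpr_at (K38.f548559 IH) (Lpn (LP (LK LD1_c8 LD2_c14 LD3_c54))))
theorem f881510 : Led Lsl_at (LP (LK LD1_c10 LD2_c6 LD3_c42)) = K67.v35981 :=
  Lgr Lrot66 (Lpe (K7.f151758 IH) (Lpr_af (f548561 IH) (Lpr_ff (f881507 IH) (Lpn K67.v35981))))
theorem f151778 : Led Lsl_gt (LP (LK LD1_c5 LD2_c8 LD3_c5)) = (LP (LK LD1_c10 LD2_c6 LD3_c43)) :=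
  Lre_g IH (LK LD1_c5 LD2_c8 LD3_c5) (LK LD1_c10 LD2_c6 LD3_c43) Lrfl Lrfl
theorem f881516 : Led Lsl_gt (LP (LK LD1_c10 LD2_c6 LD3_c43)) = K67.v35981 :=
  Lgr Lrot46 (Lpe (f151778 IH) (Lpr_ft (K7.f151758 IH) (Lpr_at (f881510 IH) (Lpn K67.v35981))))
theorem f165461 : Led Lsl_bt (LP (LK LD1_c18 LD2_c25 LD3_c48)) = (LP (LK LD1_c10 LD2_c6 LD3_c43)) :=
  Lre_b IH (LK LD1_c18 LD2_c25 LD3_c48) (LK LD1_c10 LD2_c6 LD3_c43) Lrfl Lrfl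
theorem f165462 : Led Lsl_ct (LP (LK LD1_c18 LD2_c25 LD3_c48)) = (LP (LK LD1_c28 LD2_c1 LD3_c34)) :=
  Lre_c IH (LK LD1_c18 LD2_c25 LD3_c48) (LK LD1_c28 LD2_c1 LD3_c34) Lrfl Lrfl
theorem f925385 : Led Lsl_gt (LP (LK LD1_c26 LD2_c55 LD3_c7)) = (LP (LK LD1_c28 LD2_c1 LD3_c34)) :=
  Lgr Lrot149 (Lpe (f442706 IH) (Lpe (K71.f924122 IH) (Lpe (K71.f699493 IH) (Lpr_ct (f752304 IH) (Lpqs (f925033 IH) (Lpe (f826605 IH) (Lpe (f823132 IH) (Lpr_bt (f881511 IH) (Lpe (f881516 IH) (Lpe (f165461 IH) (Lpr_ct (f165462 IH) (Lpn (LP (LK LD1_c28 LD2_c1 LD3_c34))))))))))))))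
theorem f925386 : Led Lsl_gt (LP (LK LD1_c26 LD2_c55 LD3_c7)) = (LP (LK LD1_c28 LD2_c1 LD3_c34)) :=
  Leop (Lpe (f925385 IH) (Lpn (LP (LK LD1_c26 LD2_c55 LD3_c7))))
theorem seed_2513 : LEOK LG_g (LK LD1_c26 LD2_c55 LD3_c7) :=
  Leoe_g (LK LD1_c26 LD2_c55 LD3_c7) (f925386 IH)
theorem f151755 : Led Lsl_ct (LP (LK LD1_c16 LD2_c58 LD3_c41)) = (LP (LK LD1_c26 LD2_c54 LD3_c22)) :=
  Lre_c IH (LK LD1_c16 LD2_c58 LD3_c41) (LK LD1_c26 LD2_c54 LD3_c22) Lrfl Lrfl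
theorem f151762 : Led Lsl_ct (LP (LK LD1_c26 LD2_c54 LD3_c22)) = (LP (LK LD1_c16 LD2_c58 LD3_c41)) :=
  Lre_c IH (LK LD1_c26 LD2_c54 LD3_c22) (LK LD1_c16 LD2_c58 LD3_c41) Lrfl Lrfl
theorem f548582 : Led Lsl_ct (LP (LK LD1_c11 LD2_c51 LD3_c48)) = (LP (LK LD1_c20 LD2_c54 LD3_c20)) :=
  Lre_c IH (LK LD1_c11 LD2_c51 LD3_c48) (LK LD1_c20 LD2_c54 LD3_c20) Lrfl Lrfl
theorem f548587 : Led Lsl_af (LP (LK LD1_c26 LD2_c54 LD3_c22)) = (LP (LK LD1_c20 LD2_c54 LD3_c20)) :=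
  Lgr Lrot68 (Lpr_ct (f151762 IH) (Lpr_at (K38.f548577 IH) (Lpr_ct (f548582 IH) (Lpn (LP (LK LD1_c20 LD2_c54 LD3_c20))))))
theorem f548627 : Led Lsl_ft (LP (LK LD1_c11 LD2_c51 LD3_c45)) = (LP (LK LD1_c20 LD2_c54 LD3_c20)) :=
  Lre_f IH (LK LD1_c11 LD2_c51 LD3_c45) (LK LD1_c20 LD2_c54 LD3_c20) Lrfl Lrfl
theorem f599692 : Led Lsl_gt (LP (LK LD1_c11 LD2_c51 LD3_c45)) = (LP (LK LD1_c20 LD2_c54 LD3_c17)) :=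
  Lre_g IH (LK LD1_c11 LD2_c51 LD3_c45) (LK LD1_c20 LD2_c54 LD3_c17) Lrfl Lrfl
theorem f621167 : Led Lsl_gf (LP (LK LD1_c26 LD2_c54 LD3_c22)) = (LP (LK LD1_c20 LD2_c54 LD3_c17)) :=
  Lgr Lrot76 (Lpr_af (f548587 IH) (Lpe (f548627 IH) (Lpr_gt (f599692 IH) (Lpn (LP (LK LD1_c20 LD2_c54 LD3_c17))))))
theorem f677218 : Led Lsl_ct (LP (LK LD1_c4 LD2_c36 LD3_c36)) = v9697 :=
  Lgr Lrot15 (Lpe (K35.f71295 IH) (Lpr_cf (K65.f536526 IH) (Lpr_ef (f677216 IH) (Lpn v9697))))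
theorem f71255 : Led Lsl_gt (LP (LK LD1_c9 LD2_c9 LD3_c4)) = (LP (LK LD1_c17 LD2_c2 LD3_c7)) :=
  Lre_g IH (LK LD1_c9 LD2_c9 LD3_c4) (LK LD1_c17 LD2_c2 LD3_c7) Lrfl Lrfl
theorem f677219 : Led Lsl_bt (LP (LK LD1_c26 LD2_c57 LD3_c25)) = (LP (LK LD1_c17 LD2_c2 LD3_c7)) :=
  Lre_b IH (LK LD1_c26 LD2_c57 LD3_c25) (LK LD1_c17 LD2_c2 LD3_c7) Lrfl Lrfl
theorem f925388 : Led Lsl_cf (LP (LK LD1_c20 LD2_c54 LD3_c17)) = (LP (LK LD1_c26 LD2_c57 LD3_c25)) :=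
  Lgr Lrot160 (Lpe (f621167 IH) (Lpe (f151755 IH) (Lpr_bt (f151751 IH) (Lpr_gt (f640957 IH) (Lpr_ct (f825339 IH) (Lpqs (f924996 IH) (Lpe (f853759 IH) (Lpe (f677218 IH) (Lpr_bt (K11.f71269 IH) (Lpr_gt (f71255 IH) (Lpe (f677219 IH) (Lpn (LP (LK LD1_c26 LD2_c57 LD3_c25))))))))))))))
theorem f925389 : Led Lsl_ct (LP (LK LD1_c26 LD2_c57 LD3_c25)) = (LP (LK LD1_c20 LD2_c54 LD3_c17)) :=
  Leop (Lpr_cf (f925388 IH) (Lpn (LP (LK LD1_c26 LD2_c57 LD3_c25))))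
theorem seed_2514 : LEOK LG_c (LK LD1_c26 LD2_c57 LD3_c25) :=
  Leoe_c (LK LD1_c26 LD2_c57 LD3_c25) (f925389 IH)
theorem f264246 : Led Lsl_et (LP (LK LD1_c2 LD2_c30 LD3_c0)) = (LP (LK LD1_c5 LD2_c5 LD3_c33)) :=
  Lre_e IH (LK LD1_c2 LD2_c30 LD3_c0) (LK LD1_c5 LD2_c5 LD3_c33) Lrfl Lrfl
theorem f276117 : Led Lsl_et (LP (LK LD1_c4 LD2_c29 LD3_c48)) = (LP (LK LD1_c2 LD2_c28 LD3_c50)) :=
  Lgr Lrot69 (Lpr_ff (K16.f261799 IH) (Lpr_ef (K16.f276099 IH) (Lpe (K16.f264247 IH) (Lpe (f264246 IH) (Lpe (K15.f264237 IH) (Lpn (LP (LK LD1_c2 LD2_c28 LD3_c50))))))))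
def v12730 : LQ := Led Lsl_dt (LP (LK LD1_c4 LD2_c29 LD3_c48))
theorem f697882 : Led Lsl_dt (LP (LK LD1_c4 LD2_c29 LD3_c48)) = v12730 :=
  Lrfl
theorem f697884 : Led Lsl_df (LP (LK LD1_c4 LD2_c29 LD3_c48)) = v12730 :=
  Lgr Lrot38 (Lpr_dt (f697882 IH) (Lpn v12730))
theorem f924018 : Led Lsl_ef v12730 = K71.v41310 :=
  Lgr Lrot73 (Lpe (f697884 IH) (Lpr_et (f276117 IH) (Lpr_dt (K14.f177356 IH) (Lpr_et (K71.f250046 IH) (Lpr_dt (K71.f924015 IH) (Lpn K71.v41310))))))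
theorem f212151 : Led Lsl_dt (LP (LK LD1_c5 LD2_c32 LD3_c7)) = (LP (LK LD1_c2 LD2_c42 LD3_c16)) :=
  Lre_d IH (LK LD1_c5 LD2_c32 LD3_c7) (LK LD1_c2 LD2_c42 LD3_c16) Lrfl Lrfl
theorem f697883 : Led Lsl_af (LP (LK LD1_c5 LD2_c32 LD3_c7)) = v12730 :=
  Lgr Lrot117 (Lpr_dt (f212151 IH) (Lpr_at (K18.f276045 IH) (Lpr_dt (f697882 IH) (Lpn v12730))))
theorem f925397 : Led Lsl_at (LP (LK LD1_c10 LD2_c55 LD3_c54)) = K71.v41310 :=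
  Lgr Lrot80 (Lpe (f212214 IH) (Lpr_af (f697883 IH) (Lpr_ef (f924018 IH) (Lpn K71.v41310))))
theorem f249964 : Led Lsl_ft (LP (LK LD1_c19 LD2_c44 LD3_c19)) = (LP (LK LD1_c10 LD2_c55 LD3_c54)) :=
  Lre_f IH (LK LD1_c19 LD2_c44 LD3_c19) (LK LD1_c10 LD2_c55 LD3_c54) Lrfl Lrfl
theorem f925399 : Led Lsl_gt (LP (LK LD1_c19 LD2_c44 LD3_c19)) = (LP (LK LD1_c18 LD2_c50 LD3_c53)) :=
  Lgr Lrot5 (Lpr_ft (f249964 IH) (Lpr_at (f925397 IH) (Lpe (K71.f924019 IH) (Lpn (LP (LK LD1_c18 LD2_c50 LD3_c53))))))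
theorem f925400 : Led Lsl_gt (LP (LK LD1_c19 LD2_c44 LD3_c19)) = (LP (LK LD1_c18 LD2_c50 LD3_c53)) :=
  Leop (Lpe (f925399 IH) (Lpn (LP (LK LD1_c19 LD2_c44 LD3_c19))))
theorem seed_2515 : LEOK LG_g (LK LD1_c19 LD2_c44 LD3_c19) :=
  Leoe_g (LK LD1_c19 LD2_c44 LD3_c19) (f925400 IH)
def v41318 : LQ := Led Lsl_ft (LP (LK LD1_c9 LD2_c56 LD3_c2))
theorem f925427 : Led Lsl_ft (LP (LK LD1_c9 LD2_c56 LD3_c2)) = v41318 :=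
  Lrfl
theorem f583329 : Led Lsl_gt (LP (LK LD1_c9 LD2_c56 LD3_c2)) = (LP (LK LD1_c18 LD2_c10 LD3_c45)) :=
  Lre_g IH (LK LD1_c9 LD2_c56 LD3_c2) (LK LD1_c18 LD2_c10 LD3_c45) Lrfl Lrfl
theorem f584540 : Led Lsl_ft (LP (LK LD1_c18 LD2_c33 LD3_c45)) = (LP (LK LD1_c10 LD2_c11 LD3_c20)) :=
  Lre_f IH (LK LD1_c18 LD2_c33 LD3_c45) (LK LD1_c10 LD2_c11 LD3_c20) Lrfl Lrfl
theorem f925428 : Led Lsl_af (LP (LK LD1_c18 LD2_c33 LD3_c45)) = v41318 :=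
  Lgr Lrot45 (Lpr_ft (f584540 IH) (Lpr_at (K44.f584530 IH) (Lpr_ft (f925427 IH) (Lpn v41318))))
theorem f925430 : Led Lsl_gt (LP (LK LD1_c18 LD2_c10 LD3_c45)) = (LP (LK LD1_c18 LD2_c33 LD3_c45)) :=
  Lgr Lrot46 (Lpe (f583329 IH) (Lpr_ft (f925427 IH) (Lpe (f925428 IH) (Lpn (LP (LK LD1_c18 LD2_c33 LD3_c45))))))
theorem f925431 : Led Lsl_gt (LP (LK LD1_c18 LD2_c10 LD3_c45)) = (LP (LK LD1_c18 LD2_c33 LD3_c45)) :=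
  Leop (Lpe (f925430 IH) (Lpn (LP (LK LD1_c18 LD2_c10 LD3_c45))))
theorem seed_2516 : LEOK LG_g (LK LD1_c18 LD2_c10 LD3_c45) :=
  Leoe_g (LK LD1_c18 LD2_c10 LD3_c45) (f925431 IH)
def v41319 : LQ := Led Lsl_gt (LP (LK LD1_c9 LD2_c56 LD3_c3))
theorem f925436 : Led Lsl_gt (LP (LK LD1_c9 LD2_c56 LD3_c3)) = v41319 :=
  Lrfl
theorem f584564 : Led Lsl_bt (LP (LK LD1_c5 LD2_c2 LD3_c34)) = (LP (LK LD1_c9 LD2_c56 LD3_c3)) :=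
  Lre_b IH (LK LD1_c5 LD2_c2 LD3_c34) (LK LD1_c9 LD2_c56 LD3_c3) Lrfl Lrfl
theorem f263355 : Led Lsl_dt (LP (LK LD1_c18 LD2_c9 LD3_c6)) = (LP (LK LD1_c27 LD2_c49 LD3_c30)) :=
  Lre_d IH (LK LD1_c18 LD2_c9 LD3_c6) (LK LD1_c27 LD2_c49 LD3_c30) Lrfl Lrfl
theorem f263368 : Led Lsl_et (LP (LK LD1_c9 LD2_c54 LD3_c58)) = (LP (LK LD1_c18 LD2_c9 LD3_c6)) :=
  Lre_e IH (LK LD1_c9 LD2_c54 LD3_c58) (LK LD1_c18 LD2_c9 LD3_c6) Lrfl Lrfl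
theorem f583401 : Led Lsl_df (LP (LK LD1_c9 LD2_c54 LD3_c58)) = (LP (LK LD1_c9 LD2_c56 LD3_c0)) :=
  Lgr Lrot70 (Lpr_et (f263368 IH) (Lpr_dt (f263355 IH) (Lpr_et (K44.f583398 IH) (Lpr_dt (K44.f583400 IH) (Lpr_et (K44.f583321 IH) (Lpn (LP (LK LD1_c9 LD2_c56 LD3_c0))))))))
theorem f584502 : Led Lsl_at (LP (LK LD1_c10 LD2_c11 LD3_c19)) = (LP (LK LD1_c9 LD2_c56 LD3_c0)) :=
  Lgr Lrot51 (Lpr_df (K44.f584497 IH) (Lpe (K45.f376952 IH) (Lpr_df (f583401 IH) (Lpn (LP (LK LD1_c9 LD2_c56 LD3_c0))))))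
theorem f364378 : Led Lsl_ft (LP (LK LD1_c10 LD2_c10 LD3_c55)) = (LP (LK LD1_c9 LD2_c54 LD3_c59)) :=
  Lgr Lrot54 (Lpe (K14.f247992 IH) (Lpr_ff (K26.f364374 IH) (Lpe (K15.f249486 IH) (Lpn (LP (LK LD1_c9 LD2_c54 LD3_c59))))))
theorem f583315 : Led Lsl_bt (LP (LK LD1_c9 LD2_c54 LD3_c59)) = (LP (LK LD1_c9 LD2_c56 LD3_c0)) :=
  Lgr Lrot127 (Lpr_bf (K44.f583313 IH) (Lpn (LP (LK LD1_c9 LD2_c56 LD3_c0))))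
theorem f584476 : Led Lsl_ff (LP (LK LD1_c10 LD2_c11 LD3_c16)) = (LP (LK LD1_c9 LD2_c56 LD3_c0)) :=
  Lgr Lrot25 (Lpr_bt (K44.f584468 IH) (Lpr_ft (f364378 IH) (Lpr_bt (f583315 IH) (Lpn (LP (LK LD1_c9 LD2_c56 LD3_c0))))))
theorem f584607 : Led Lsl_at (LP (LK LD1_c10 LD2_c11 LD3_c16)) = (LP (LK LD1_c9 LD2_c56 LD3_c4)) :=
  Lgr Lrot66 (Lpr_ff (f584476 IH) (Lpe (f584502 IH) (Lpr_ff (K44.f584587 IH) (Lpn (LP (LK LD1_c9 LD2_c56 LD3_c4))))))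
theorem f585123 : Led Lsl_gt (LP (LK LD1_c18 LD2_c10 LD3_c42)) = (LP (LK LD1_c9 LD2_c56 LD3_c4)) :=
  Lgr Lrot46 (Lpe (K71.f300625 IH) (Lpe (f584476 IH) (Lpr_at (f584607 IH) (Lpn (LP (LK LD1_c9 LD2_c56 LD3_c4))))))
theorem f345180 : Led Lsl_gt (LP (LK LD1_c10 LD2_c10 LD3_c24)) = (LP (LK LD1_c9 LD2_c55 LD3_c41)) :=
  Lgr Lrot5 (Lpr_ft (K44.f345125 IH) (Lpr_at (K45.f251529 IH) (Lpe (K71.f251532 IH) (Lpn (LP (LK LD1_c9 LD2_c55 LD3_c41))))))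
theorem f240305 : Led Lsl_gt (LP (LK LD1_c10 LD2_c7 LD3_c33)) = (LP (LK LD1_c18 LD2_c26 LD3_c40)) :=
  Lre_g IH (LK LD1_c10 LD2_c7 LD3_c33) (LK LD1_c18 LD2_c26 LD3_c40) Lrfl Lrfl
theorem f342074 : Led Lsl_gt (LP (LK LD1_c18 LD2_c26 LD3_c40)) = (LP (LK LD1_c18 LD2_c9 LD3_c59)) :=
  Lgr Lrot46 (Lpe (f240305 IH) (Lpr_ft (K44.f342056 IH) (Lpr_at (K71.f314237 IH) (Lpn (LP (LK LD1_c18 LD2_c9 LD3_c59))))))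
theorem f925438 : Led Lsl_cf (LP (LK LD1_c18 LD2_c26 LD3_c40)) = v41319 :=
  Lgr Lrot125 (Lpr_gt (f342074 IH) (Lpe (K71.f342076 IH) (Lpr_bt (K44.f313875 IH) (Lpr_gt (f345180 IH) (Lpr_bf (K71.f923016 IH) (Lpe (K71.f923018 IH) (Lpr_gt (f585123 IH) (Lpe (K44.f299731 IH) (Lpr_bt (f584564 IH) (Lpr_gt (f925436 IH) (Lpn v41319)))))))))))
theorem f925439 : Led Lsl_ct (LP (LK LD1_c18 LD2_c26 LD3_c40)) = v41319 :=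
  Lgr Lrot59 (Lpr_cf (f925438 IH) (Lpn v41319))
theorem f190345 : Led Lsl_bt (LP (LK LD1_c2 LD2_c31 LD3_c35)) = (LP (LK LD1_c5 LD2_c8 LD3_c48)) :=
  Lre_b IH (LK LD1_c2 LD2_c31 LD3_c35) (LK LD1_c5 LD2_c8 LD3_c48) Lrfl Lrfl
theorem f240514 : Led Lsl_gt (LP (LK LD1_c10 LD2_c7 LD3_c59)) = (LP (LK LD1_c5 LD2_c8 LD3_c48)) :=
  Lre_g IH (LK LD1_c10 LD2_c7 LD3_c59) (LK LD1_c5 LD2_c8 LD3_c48) Lrfl Lrfl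
theorem f240515 : Led Lsl_bt (LP (LK LD1_c18 LD2_c27 LD3_c22)) = (LP (LK LD1_c10 LD2_c7 LD3_c59)) :=
  Lre_b IH (LK LD1_c18 LD2_c27 LD3_c22) (LK LD1_c10 LD2_c7 LD3_c59) Lrfl Lrfl
theorem f299722 : Led Lsl_bt (LP (LK LD1_c10 LD2_c11 LD3_c18)) = (LP (LK LD1_c5 LD2_c10 LD3_c17)) :=
  Lre_b IH (LK LD1_c10 LD2_c11 LD3_c18) (LK LD1_c5 LD2_c10 LD3_c17) Lrfl Lrfl
theorem f584585 : Led Lsl_ff (LP (LK LD1_c10 LD2_c11 LD3_c18)) = (LP (LK LD1_c9 LD2_c56 LD3_c3)) :=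
  Lgr Lrot25 (Lpr_bt (f299722 IH) (Lpr_ft (K44.f584583 IH) (Lpr_bt (f584564 IH) (Lpn (LP (LK LD1_c9 LD2_c56 LD3_c3))))))
theorem f584543 : Led Lsl_at (LP (LK LD1_c10 LD2_c11 LD3_c18)) = (LP (LK LD1_c18 LD2_c33 LD3_c39)) :=
  Lre_a IH (LK LD1_c10 LD2_c11 LD3_c18) (LK LD1_c18 LD2_c33 LD3_c39) Lrfl Lrfl
theorem f925437 : Led Lsl_gf (LP (LK LD1_c18 LD2_c33 LD3_c39)) = v41319 :=
  Lgr Lrot76 (Lpe (f584543 IH) (Lpr_ff (f584585 IH) (Lpr_gt (f925436 IH) (Lpn v41319))))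
theorem f925440 : Led Lsl_ct (LP (LK LD1_c18 LD2_c27 LD3_c22)) = (LP (LK LD1_c18 LD2_c33 LD3_c39)) :=
  Lgr Lrot63 (Lpr_bt (f240515 IH) (Lpr_gt (f240514 IH) (Lpe (f190345 IH) (Lpr_ct (K10.f190277 IH) (Lpe (K13.f240248 IH) (Lpe (K13.f196351 IH) (Lpr_bt (K44.f240304 IH) (Lpr_gt (f240305 IH) (Lpr_ct (f925439 IH) (Lpe (f925437 IH) (Lpn (LP (LK LD1_c18 LD2_c33 LD3_c39)))))))))))))
theorem f925441 : Led Lsl_ct (LP (LK LD1_c18 LD2_c27 LD3_c22)) = (LP (LK LD1_c18 LD2_c33 LD3_c39)) :=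
  Leop (Lpe (f925440 IH) (Lpn (LP (LK LD1_c18 LD2_c27 LD3_c22))))
theorem seed_2517 : LEOK LG_c (LK LD1_c18 LD2_c27 LD3_c22) :=
  Leoe_c (LK LD1_c18 LD2_c27 LD3_c22) (f925441 IH)
def v41320 : LQ := Led Lsl_dt (LP (LK LD1_c9 LD2_c56 LD3_c3))
theorem f925460 : Led Lsl_dt (LP (LK LD1_c9 LD2_c56 LD3_c3)) = v41320 :=
  Lrfl
theorem f585151 : Led Lsl_ct (LP (LK LD1_c18 LD2_c10 LD3_c47)) = (LP (LK LD1_c9 LD2_c56 LD3_c3)) :=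
  Lre_c IH (LK LD1_c18 LD2_c10 LD3_c47) (LK LD1_c9 LD2_c56 LD3_c3) Lrfl Lrfl
theorem f403037 : Led Lsl_gt (LP (LK LD1_c18 LD2_c10 LD3_c4)) = (LP (LK LD1_c18 LD2_c10 LD3_c47)) :=
  Lre_g IH (LK LD1_c18 LD2_c10 LD3_c4) (LK LD1_c18 LD2_c10 LD3_c47) Lrfl Lrfl
theorem f242867 : Led Lsl_ct (LP (LK LD1_c9 LD2_c55 LD3_c27)) = (LP (LK LD1_c18 LD2_c10 LD3_c4)) :=
  Lre_c IH (LK LD1_c9 LD2_c55 LD3_c27) (LK LD1_c18 LD2_c10 LD3_c4) Lrfl Lrfl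
theorem f180569 : Led Lsl_dt (LP (LK LD1_c9 LD2_c55 LD3_c30)) = (LP (LK LD1_c5 LD2_c2 LD3_c19)) :=
  Lre_d IH (LK LD1_c9 LD2_c55 LD3_c30) (LK LD1_c5 LD2_c2 LD3_c19) Lrfl Lrfl
theorem f229129 : Led Lsl_bt (LP (LK LD1_c8 LD2_c4 LD3_c32)) = (LP (LK LD1_c15 LD2_c12 LD3_c21)) :=
  Lre_b IH (LK LD1_c8 LD2_c4 LD3_c32) (LK LD1_c15 LD2_c12 LD3_c21) Lrfl Lrfl
theorem f34588 : Led Lsl_ct (LP (LK LD1_c15 LD2_c12 LD3_c21)) = (LP (LK LD1_c25 LD2_c1 LD3_c19)) :=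
  Lre_c IH (LK LD1_c15 LD2_c12 LD3_c21) (LK LD1_c25 LD2_c1 LD3_c19) Lrfl Lrfl
theorem f242060 : Led Lsl_bf (LP (LK LD1_c15 LD2_c12 LD3_c51)) = (LP (LK LD1_c25 LD2_c1 LD3_c19)) :=
  Lgr Lrot90 (Lpr_ct (K45.f190301 IH) (Lpr_bt (K43.f193503 IH) (Lpr_ct (K13.f242058 IH) (Lpr_bt (f229129 IH) (Lpr_ct (f34588 IH) (Lpn (LP (LK LD1_c25 LD2_c1 LD3_c19))))))))
theorem f34585 : Led Lsl_bt (LP (LK LD1_c15 LD2_c12 LD3_c21)) = (LP (LK LD1_c8 LD2_c4 LD3_c32)) :=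
  Lre_b IH (LK LD1_c15 LD2_c12 LD3_c21) (LK LD1_c8 LD2_c4 LD3_c32) Lrfl Lrfl
theorem f229119 : Led Lsl_dt (LP (LK LD1_c8 LD2_c4 LD3_c37)) = (LP (LK LD1_c15 LD2_c12 LD3_c21)) :=
  Lgr Lrot79 (Lpe (K44.f229118 IH) (Lpr_df (K12.f229099 IH) (Lpe (f34585 IH) (Lpn (LP (LK LD1_c15 LD2_c12 LD3_c21))))))
theorem f410344 : Led Lsl_ft (LP (LK LD1_c15 LD2_c12 LD3_c21)) = (LP (LK LD1_c10 LD2_c9 LD3_c21)) :=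
  Lgr Lrot54 (Lpe (f229119 IH) (Lpr_ff (K16.f273316 IH) (Lpr_df (K44.f410335 IH) (Lpn (LP (LK LD1_c10 LD2_c9 LD3_c21))))))
theorem f34586 : Led Lsl_ct (LP (LK LD1_c25 LD2_c1 LD3_c19)) = (LP (LK LD1_c15 LD2_c12 LD3_c21)) :=
  Lre_c IH (LK LD1_c25 LD2_c1 LD3_c19) (LK LD1_c15 LD2_c12 LD3_c21) Lrfl Lrfl
theorem f33795 : Led Lsl_ct (LP (LK LD1_c10 LD2_c9 LD3_c21)) = (LP (LK LD1_c18 LD2_c30 LD3_c0)) :=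
  Lre_c IH (LK LD1_c10 LD2_c9 LD3_c21) (LK LD1_c18 LD2_c30 LD3_c0) Lrfl Lrfl
theorem f410346 : Led Lsl_ff (LP (LK LD1_c25 LD2_c1 LD3_c19)) = (LP (LK LD1_c18 LD2_c30 LD3_c0)) :=
  Lgr Lrot23 (Lpr_ct (f34586 IH) (Lpr_ft (f410344 IH) (Lpr_ct (f33795 IH) (Lpn (LP (LK LD1_c18 LD2_c30 LD3_c0))))))
theorem f612346 : Led Lsl_bt (LP (LK LD1_c13 LD2_c50 LD3_c49)) = (LP (LK LD1_c18 LD2_c30 LD3_c0)) :=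
  Lgr Lrot35 (Lpr_ff (K45.f574203 IH) (Lpr_bf (f242060 IH) (Lpr_ff (f410346 IH) (Lpn (LP (LK LD1_c18 LD2_c30 LD3_c0))))))
theorem f33796 : Led Lsl_gt (LP (LK LD1_c28 LD2_c4 LD3_c11)) = (LP (LK LD1_c18 LD2_c30 LD3_c0)) :=
  Lre_g IH (LK LD1_c28 LD2_c4 LD3_c11) (LK LD1_c18 LD2_c30 LD3_c0) Lrfl Lrfl
theorem f612350 : Led Lsl_bt (LP (LK LD1_c23 LD2_c52 LD3_c34)) = (LP (LK LD1_c28 LD2_c4 LD3_c11)) :=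
  Lgr Lrot22 (Lpr_ct (K45.f587624 IH) (Lpe (K45.f573825 IH) (Lpr_cf (K43.f573817 IH) (Lpe (K45.f587628 IH) (Lpe (K45.f574154 IH) (Lpr_ct (K43.f5675 IH) (Lpe (K43.f574205 IH) (Lpe (K45.f5688 IH) (Lpr_bt (f612346 IH) (Lpe (f33796 IH) (Lpn (LP (LK LD1_c28 LD2_c4 LD3_c11)))))))))))))
theorem f227921 : Led Lsl_bt (LP (LK LD1_c5 LD2_c8 LD3_c38)) = (LP (LK LD1_c10 LD2_c7 LD3_c44)) :=
  Lre_b IH (LK LD1_c5 LD2_c8 LD3_c38) (LK LD1_c10 LD2_c7 LD3_c44) Lrfl Lrfl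
theorem f227922 : Led Lsl_gt (LP (LK LD1_c10 LD2_c7 LD3_c44)) = (LP (LK LD1_c18 LD2_c27 LD3_c3)) :=
  Lre_g IH (LK LD1_c10 LD2_c7 LD3_c44) (LK LD1_c18 LD2_c27 LD3_c3) Lrfl Lrfl
theorem f239742 : Led Lsl_bt (LP (LK LD1_c28 LD2_c2 LD3_c7)) = (LP (LK LD1_c18 LD2_c27 LD3_c3)) :=
  Lre_b IH (LK LD1_c28 LD2_c2 LD3_c7) (LK LD1_c18 LD2_c27 LD3_c3) Lrfl Lrfl
theorem f239743 : Led Lsl_ct (LP (LK LD1_c28 LD2_c2 LD3_c7)) = (LP (LK LD1_c28 LD2_c4 LD3_c11)) :=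
  Lgr Lrot64 (Lpr_bt (f239742 IH) (Lpe (f227922 IH) (Lpe (f227921 IH) (Lpr_ct (K13.f239729 IH) (Lpe (K13.f227923 IH) (Lpr_cf (K0.f33765 IH) (Lpe (K13.f21728 IH) (Lpe (K44.f33794 IH) (Lpr_ct (f33795 IH) (Lpe (f33796 IH) (Lpn (LP (LK LD1_c28 LD2_c4 LD3_c11)))))))))))))
theorem f239749 : Led Lsl_cf (LP (LK LD1_c28 LD2_c2 LD3_c7)) = (LP (LK LD1_c28 LD2_c4 LD3_c11)) :=
  Lgr Lrot11 (Lpr_ct (f239743 IH) (Lpn (LP (LK LD1_c28 LD2_c4 LD3_c11))))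
theorem f239739 : Led Lsl_ct (LP (LK LD1_c18 LD2_c27 LD3_c3)) = (LP (LK LD1_c28 LD2_c2 LD3_c8)) :=
  Lre_c IH (LK LD1_c18 LD2_c27 LD3_c3) (LK LD1_c28 LD2_c2 LD3_c8) Lrfl Lrfl
theorem f612354 : Led Lsl_bf (LP (LK LD1_c30 LD2_c57 LD3_c54)) = (LP (LK LD1_c28 LD2_c2 LD3_c8)) :=
  Lgr Lrot90 (Lpe (K45.f587622 IH) (Lpr_bt (f612350 IH) (Lpe (f239749 IH) (Lpr_bt (f239742 IH) (Lpr_ct (f239739 IH) (Lpn (LP (LK LD1_c28 LD2_c2 LD3_c8))))))))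
theorem f569921 : Led Lsl_dt (LP (LK LD1_c23 LD2_c15 LD3_c10)) = (LP (LK LD1_c13 LD2_c47 LD3_c37)) :=
  Lre_d IH (LK LD1_c23 LD2_c15 LD3_c10) (LK LD1_c13 LD2_c47 LD3_c37) Lrfl Lrfl
theorem f587626 : Led Lsl_gf (LP (LK LD1_c23 LD2_c15 LD3_c10)) = (LP (LK LD1_c30 LD2_c57 LD3_c54)) :=
  Lgr Lrot144 (Lpr_dt (f569921 IH) (Lpe (K45.f587478 IH) (Lpr_dt (K45.f587480 IH) (Lpr_cf (K45.f587485 IH) (Lpe (K45.f540803 IH) (Lpr_gf (K45.f574213 IH) (Lpe (K43.f572739 IH) (Lpe (K45.f587618 IH) (Lpr_cf (K45.f587622 IH) (Lpn (LP (LK LD1_c30 LD2_c57 LD3_c54))))))))))))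
theorem f177618 : Led Lsl_bt (LP (LK LD1_c0 LD2_c39 LD3_c32)) = (LP (LK LD1_c1 LD2_c25 LD3_c36)) :=
  Lre_b IH (LK LD1_c0 LD2_c39 LD3_c32) (LK LD1_c1 LD2_c25 LD3_c36) Lrfl Lrfl
theorem f612369 : Led Lsl_dt (LP (LK LD1_c10 LD2_c8 LD3_c20)) = (LP (LK LD1_c18 LD2_c27 LD3_c3)) :=
  Lgr Lrot182 (Lpe (K37.f197068 IH) (Lpe (K37.f33995 IH) (Lpe (K10.f33989 IH) (Lpr_df (K17.f287205 IH) (Lpr_gf (K19.f285819 IH) (Lpe (f177618 IH) (Lpe (K9.f177192 IH) (Lpe (K9.f177171 IH) (Lpe (K9.f163705 IH) (Lpe (K12.f164156 IH) (Lpe (K11.f31647 IH) (Lpe (K11.f164953 IH) (Lpr_gf (K11.f201347 IH) (Lpr_bf (K43.f573801 IH) (Lpe (K43.f569924 IH) (Lpe (f569921 IH) (Lpr_gf (f587626 IH) (Lpr_bf (f612354 IH) (Lpe (f239739 IH) (Lpn (LP (LK LD1_c18 LD2_c27 LD3_c3))))))))))))))))))))))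
theorem f612373 : Led Lsl_df (LP (LK LD1_c10 LD2_c8 LD3_c20)) = (LP (LK LD1_c18 LD2_c27 LD3_c3)) :=
  Lgr Lrot38 (Lpr_dt (f612369 IH) (Lpn (LP (LK LD1_c18 LD2_c27 LD3_c3))))
theorem f612378 : Led Lsl_dt (LP (LK LD1_c18 LD2_c28 LD3_c0)) = (LP (LK LD1_c28 LD2_c2 LD3_c7)) :=
  Lgr Lrot79 (Lpe (K37.f197121 IH) (Lpr_df (f612373 IH) (Lpe (f239742 IH) (Lpn (LP (LK LD1_c28 LD2_c2 LD3_c7))))))
theorem f164617 : Led Lsl_dt (LP (LK LD1_c5 LD2_c11 LD3_c32)) = (LP (LK LD1_c2 LD2_c32 LD3_c41)) :=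
  Lre_d IH (LK LD1_c5 LD2_c11 LD3_c32) (LK LD1_c2 LD2_c32 LD3_c41) Lrfl Lrfl
theorem f612352 : Led Lsl_bf (LP (LK LD1_c23 LD2_c52 LD3_c34)) = (LP (LK LD1_c28 LD2_c4 LD3_c11)) :=
  Lgr Lrot24 (Lpr_bt (f612350 IH) (Lpn (LP (LK LD1_c28 LD2_c4 LD3_c11))))
theorem f177351 : Led Lsl_bt (LP (LK LD1_c5 LD2_c2 LD3_c20)) = (LP (LK LD1_c9 LD2_c55 LD3_c30)) :=
  Lre_b IH (LK LD1_c5 LD2_c2 LD3_c20) (LK LD1_c9 LD2_c55 LD3_c30) Lrfl Lrfl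
theorem f612380 : Led Lsl_gf (LP (LK LD1_c5 LD2_c11 LD3_c32)) = (LP (LK LD1_c9 LD2_c55 LD3_c30)) :=
  Lgr Lrot85 (Lpr_dt (f164617 IH) (Lpr_ct (K44.f164611 IH) (Lpr_bt (K71.f34568 IH) (Lpr_gt (K71.f181071 IH) (Lpr_dt (f612378 IH) (Lpr_ct (f239743 IH) (Lpe (f612352 IH) (Lpr_gt (K45.f587618 IH) (Lpr_dt (K43.f572739 IH) (Lpr_ct (K43.f569576 IH) (Lpe (K42.f572753 IH) (Lpe (K42.f546559 IH) (Lpr_dt (K36.f496273 IH) (Lpr_ct (K39.f496272 IH) (Lpq (K36.f537605 IH) (Lpr_bt (K36.f164155 IH) (Lpr_gt (K9.f177201 IH) (Lpr_dt (K9.f164099 IH) (Lpe (K10.f177313 IH) (Lpr_bt (f177351 IH) (Lpn (LP (LK LD1_c9 LD2_c55 LD3_c30)))))))))))))))))))))))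
theorem f251511 : Led Lsl_ct (LP (LK LD1_c5 LD2_c11 LD3_c32)) = (LP (LK LD1_c10 LD2_c13 LD3_c44)) :=
  Lre_c IH (LK LD1_c5 LD2_c11 LD3_c32) (LK LD1_c10 LD2_c13 LD3_c44) Lrfl Lrfl
theorem f612389 : Led Lsl_gt (LP (LK LD1_c10 LD2_c13 LD3_c44)) = (LP (LK LD1_c18 LD2_c37 LD3_c7)) :=
  Lre_g IH (LK LD1_c10 LD2_c13 LD3_c44) (LK LD1_c18 LD2_c37 LD3_c7) Lrfl Lrfl
theorem f925463 : Led Lsl_ct (LP (LK LD1_c18 LD2_c37 LD3_c7)) = v41320 :=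
  Lgr Lrot151 (Lpe (f612389 IH) (Lpe (f251511 IH) (Lpr_gf (f612380 IH) (Lpr_dt (f180569 IH) (Lpr_gt (K45.f177375 IH) (Lpr_ct (f242867 IH) (Lpr_gt (f403037 IH) (Lpr_ct (f585151 IH) (Lpr_dt (f925460 IH) (Lpn v41320))))))))))
theorem f925464 : Led Lsl_cf (LP (LK LD1_c18 LD2_c37 LD3_c7)) = v41320 :=
  Lgr Lrot11 (Lpr_ct (f925463 IH) (Lpn v41320))
theorem f925461 : Led Lsl_bf (LP (LK LD1_c9 LD2_c56 LD3_c5)) = v41320 :=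
  Lgr Lrot93 (Lpr_dt (K44.f299739 IH) (Lpr_bt (f584564 IH) (Lpr_dt (f925460 IH) (Lpn v41320))))
theorem f343589 : Led Lsl_at (LP (LK LD1_c10 LD2_c12 LD3_c40)) = (LP (LK LD1_c5 LD2_c11 LD3_c0)) :=
  Lre_a IH (LK LD1_c10 LD2_c12 LD3_c40) (LK LD1_c5 LD2_c11 LD3_c0) Lrfl Lrfl
theorem f343337 : Led Lsl_dt (LP (LK LD1_c5 LD2_c3 LD3_c26)) = (LP (LK LD1_c9 LD2_c57 LD3_c48)) :=
  Lre_d IH (LK LD1_c5 LD2_c3 LD3_c26) (LK LD1_c9 LD2_c57 LD3_c48) Lrfl Lrfl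
theorem f343339 : Led Lsl_ft (LP (LK LD1_c9 LD2_c57 LD3_c48)) = (LP (LK LD1_c10 LD2_c12 LD3_c40)) :=
  Lgr Lrot54 (Lpe (f343337 IH) (Lpr_ff (K37.f343330 IH) (Lpe (K44.f343338 IH) (Lpn (LP (LK LD1_c10 LD2_c12 LD3_c40))))))
theorem f584704 : Led Lsl_gt (LP (LK LD1_c9 LD2_c57 LD3_c48)) = (LP (LK LD1_c9 LD2_c56 LD3_c5)) :=
  Lgr Lrot5 (Lpr_ft (f343339 IH) (Lpr_at (f343589 IH) (Lpr_gf (K44.f584702 IH) (Lpn (LP (LK LD1_c9 LD2_c56 LD3_c5))))))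
theorem f248837 : Led Lsl_bf (LP (LK LD1_c9 LD2_c57 LD3_c48)) = (LP (LK LD1_c10 LD2_c11 LD3_c61)) :=
  Lgr Lrot81 (Lpr_at (K45.f248834 IH) (Lpr_bt (K44.f248833 IH) (Lpr_at (K14.f248828 IH) (Lpr_bt (K14.f248835 IH) (Lpr_at (K69.f248836 IH) (Lpn (LP (LK LD1_c10 LD2_c11 LD3_c61))))))))
theorem f193916 : Led Lsl_ct (LP (LK LD1_c18 LD2_c23 LD3_c24)) = (LP (LK LD1_c10 LD2_c4 LD3_c39)) :=
  Lre_c IH (LK LD1_c18 LD2_c23 LD3_c24) (LK LD1_c10 LD2_c4 LD3_c39) Lrfl Lrfl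
theorem f699288 : Led Lsl_cf (LP (LK LD1_c10 LD2_c11 LD3_c61)) = (LP (LK LD1_c10 LD2_c17 LD3_c46)) :=
  Lgr Lrot1 (Lpr_at (K53.f249902 IH) (Lpr_ct (K53.f699285 IH) (Lpe (K53.f562721 IH) (Lpn (LP (LK LD1_c10 LD2_c17 LD3_c46))))))
theorem f260018 : Led Lsl_dt (LP (LK LD1_c10 LD2_c13 LD3_c54)) = (LP (LK LD1_c5 LD2_c11 LD3_c35)) :=
  Lre_d IH (LK LD1_c10 LD2_c13 LD3_c54) (LK LD1_c5 LD2_c11 LD3_c35) Lrfl Lrfl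
theorem f710754 : Led Lsl_gf (LP (LK LD1_c18 LD2_c23 LD3_c24)) = (LP (LK LD1_c10 LD2_c13 LD3_c54)) :=
  Lgr Lrot147 (Lpr_ct (f193916 IH) (Lpr_gt (K53.f710748 IH) (Lpe (f699288 IH) (Lpe (K53.f248964 IH) (Lpe (K37.f248984 IH) (Lpe (K37.f249870 IH) (Lpr_cf (K53.f343364 IH) (Lpe (K53.f233582 IH) (Lpe (f260018 IH) (Lpn (LP (LK LD1_c10 LD2_c13 LD3_c54))))))))))))
theorem f710756 : Led Lsl_bt (LP (LK LD1_c5 LD2_c11 LD3_c37)) = (LP (LK LD1_c10 LD2_c13 LD3_c54)) :=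
  Lre_b IH (LK LD1_c5 LD2_c11 LD3_c37) (LK LD1_c10 LD2_c13 LD3_c54) Lrfl Lrfl
theorem f164527 : Led Lsl_ct (LP (LK LD1_c5 LD2_c11 LD3_c37)) = (LP (LK LD1_c10 LD2_c13 LD3_c59)) :=
  Lre_c IH (LK LD1_c5 LD2_c11 LD3_c37) (LK LD1_c10 LD2_c13 LD3_c59) Lrfl Lrfl
theorem f925465 : Led Lsl_gt (LP (LK LD1_c18 LD2_c37 LD3_c7)) = (LP (LK LD1_c10 LD2_c13 LD3_c59)) :=
  Lgr Lrot65 (Lpr_cf (f925464 IH) (Lpe (f925461 IH) (Lpe (f584704 IH) (Lpr_bf (f248837 IH) (Lpr_ct (K53.f699330 IH) (Lpe (K53.f710748 IH) (Lpe (f193916 IH) (Lpr_gf (f710754 IH) (Lpe (f710756 IH) (Lpr_ct (f164527 IH) (Lpn (LP (LK LD1_c10 LD2_c13 LD3_c59)))))))))))))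
theorem f925466 : Led Lsl_gt (LP (LK LD1_c18 LD2_c37 LD3_c7)) = (LP (LK LD1_c10 LD2_c13 LD3_c59)) :=
  Leop (Lpe (f925465 IH) (Lpn (LP (LK LD1_c18 LD2_c37 LD3_c7))))
theorem seed_2518 : LEOK LG_g (LK LD1_c18 LD2_c37 LD3_c7) :=
  Leoe_g (LK LD1_c18 LD2_c37 LD3_c7) (f925466 IH)
def v41330 : LQ := Led Lsl_bt (LP (LK LD1_c9 LD2_c56 LD3_c9))
theorem f925498 : Led Lsl_bt (LP (LK LD1_c9 LD2_c56 LD3_c9)) = v41330 :=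
  Lrfl
theorem f299644 : Led Lsl_dt (LP (LK LD1_c9 LD2_c55 LD3_c10)) = (LP (LK LD1_c5 LD2_c2 LD3_c11)) :=
  Lre_d IH (LK LD1_c9 LD2_c55 LD3_c10) (LK LD1_c5 LD2_c2 LD3_c11) Lrfl Lrfl
theorem f299700 : Led Lsl_dt (LP (LK LD1_c5 LD2_c2 LD3_c36)) = (LP (LK LD1_c2 LD2_c28 LD3_c51)) :=
  Lre_d IH (LK LD1_c5 LD2_c2 LD3_c36) (LK LD1_c2 LD2_c28 LD3_c51) Lrfl Lrfl
theorem f165786 : Led Lsl_gt (LP (LK LD1_c9 LD2_c56 LD3_c9)) = (LP (LK LD1_c5 LD2_c2 LD3_c36)) :=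
  Lre_g IH (LK LD1_c9 LD2_c56 LD3_c9) (LK LD1_c5 LD2_c2 LD3_c36) Lrfl Lrfl
theorem f582786 : Led Lsl_df (LP (LK LD1_c9 LD2_c56 LD3_c9)) = (LP (LK LD1_c5 LD2_c3 LD3_c25)) :=
  Lgr Lrot153 (Lpr_gt (f165786 IH) (Lpr_dt (f299700 IH) (Lpe (K44.f165340 IH) (Lpe (f299644 IH) (Lpe (K44.f249428 IH) (Lpr_df (K44.f582724 IH) (Lpr_gf (K38.f343443 IH) (Lpe (K37.f343347 IH) (Lpe (K37.f343344 IH) (Lpn (LP (LK LD1_c5 LD2_c3 LD3_c25))))))))))))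
theorem f925501 : Led Lsl_df (LP (LK LD1_c9 LD2_c57 LD3_c46)) = v41330 :=
  Lgr Lrot12 (Lpr_bt (K53.f165436 IH) (Lpe (f582786 IH) (Lpr_bt (f925498 IH) (Lpn v41330))))
theorem f233696 : Led Lsl_ct (LP (LK LD1_c18 LD2_c13 LD3_c50)) = (LP (LK LD1_c9 LD2_c57 LD3_c46)) :=
  Lre_c IH (LK LD1_c18 LD2_c13 LD3_c50) (LK LD1_c9 LD2_c57 LD3_c46) Lrfl Lrfl
theorem f34321 : Led Lsl_dt (LP (LK LD1_c10 LD2_c14 LD3_c2)) = (LP (LK LD1_c18 LD2_c37 LD3_c42)) :=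
  Lre_d IH (LK LD1_c10 LD2_c14 LD3_c2) (LK LD1_c18 LD2_c37 LD3_c42) Lrfl Lrfl
theorem f34315 : Led Lsl_ct (LP (LK LD1_c18 LD2_c37 LD3_c42)) = (LP (LK LD1_c25 LD2_c2 LD3_c38)) :=
  Lgr Lrot59 (Lpr_cf (K2.f34308 IH) (Lpn (LP (LK LD1_c25 LD2_c2 LD3_c38))))
theorem f34298 : Led Lsl_dt (LP (LK LD1_c25 LD2_c2 LD3_c38)) = (LP (LK LD1_c15 LD2_c13 LD3_c34)) :=
  Lre_d IH (LK LD1_c25 LD2_c2 LD3_c38) (LK LD1_c15 LD2_c13 LD3_c34) Lrfl Lrfl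
theorem f34335 : Led Lsl_ct (LP (LK LD1_c15 LD2_c13 LD3_c34)) = (LP (LK LD1_c8 LD2_c5 LD3_c19)) :=
  Lre_c IH (LK LD1_c15 LD2_c13 LD3_c34) (LK LD1_c8 LD2_c5 LD3_c19) Lrfl Lrfl
theorem f164473 : Led Lsl_df (LP (LK LD1_c2 LD2_c31 LD3_c21)) = (LP (LK LD1_c2 LD2_c32 LD3_c45)) :=
  Lgr Lrot43 (Lpr_ct (K44.f163809 IH) (Lpr_dt (K44.f164465 IH) (Lpr_ct (K44.f164468 IH) (Lpr_dt (K44.f164463 IH) (Lpr_ct (K44.f34363 IH) (Lpr_dt (K0.f21639 IH) (Lpr_ct (K0.f21595 IH) (Lpr_dt (K8.f21605 IH) (Lpr_ct (K44.f34322 IH) (Lpr_dt (f34321 IH) (Lpr_ct (f34315 IH) (Lpr_dt (f34298 IH) (Lpr_ct (f34335 IH) (Lpr_dt (K53.f34025 IH) (Lpr_ct (K53.f34594 IH) (Lpn (LP (LK LD1_c2 LD2_c32 LD3_c45))))))))))))))))))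
theorem f164598 : Led Lsl_ct (LP (LK LD1_c5 LD2_c8 LD3_c17)) = (LP (LK LD1_c10 LD2_c7 LD3_c2)) :=
  Lre_c IH (LK LD1_c5 LD2_c8 LD3_c17) (LK LD1_c10 LD2_c7 LD3_c2) Lrfl Lrfl
theorem f164599 : Led Lsl_gt (LP (LK LD1_c10 LD2_c7 LD3_c2)) = (LP (LK LD1_c18 LD2_c26 LD3_c7)) :=
  Lre_g IH (LK LD1_c10 LD2_c7 LD3_c2) (LK LD1_c18 LD2_c26 LD3_c7) Lrfl Lrfl
theorem f925504 : Led Lsl_ct (LP (LK LD1_c18 LD2_c26 LD3_c7)) = v41330 :=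
  Lgr Lrot110 (Lpe (f164599 IH) (Lpe (f164598 IH) (Lpe (K44.f164597 IH) (Lpr_df (f164473 IH) (Lpe (K53.f405616 IH) (Lpr_ct (K53.f405687 IH) (Lpr_gt (K53.f405690 IH) (Lpr_ct (f233696 IH) (Lpr_df (f925501 IH) (Lpn v41330))))))))))
theorem f925505 : Led Lsl_cf (LP (LK LD1_c18 LD2_c26 LD3_c7)) = v41330 :=
  Lgr Lrot11 (Lpr_ct (f925504 IH) (Lpn v41330))
theorem f925500 : Led Lsl_bf (LP (LK LD1_c9 LD2_c56 LD3_c9)) = v41330 :=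
  Lgr Lrot24 (Lpr_bt (f925498 IH) (Lpn v41330))
theorem f585169 : Led Lsl_df (LP (LK LD1_c10 LD2_c11 LD3_c23)) = (LP (LK LD1_c5 LD2_c10 LD3_c59)) :=
  Lgr Lrot38 (Lpr_dt (K45.f585163 IH) (Lpn (LP (LK LD1_c5 LD2_c10 LD3_c59))))
theorem f583446 : Led Lsl_af (LP (LK LD1_c5 LD2_c10 LD3_c59)) = (LP (LK LD1_c5 LD2_c3 LD3_c25)) :=
  Lgr Lrot0 (Lpr_at (K44.f583444 IH) (Lpn (LP (LK LD1_c5 LD2_c3 LD3_c25))))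
theorem f582788 : Led Lsl_dt (LP (LK LD1_c9 LD2_c56 LD3_c9)) = (LP (LK LD1_c5 LD2_c3 LD3_c25)) :=
  Lgr Lrot42 (Lpr_df (f582786 IH) (Lpn (LP (LK LD1_c5 LD2_c3 LD3_c25))))
theorem f585185 : Led Lsl_at (LP (LK LD1_c10 LD2_c11 LD3_c23)) = (LP (LK LD1_c9 LD2_c56 LD3_c9)) :=
  Lgr Lrot51 (Lpr_df (f585169 IH) (Lpr_af (f583446 IH) (Lpe (f582788 IH) (Lpn (LP (LK LD1_c9 LD2_c56 LD3_c9))))))
theorem f585187 : Led Lsl_gt (LP (LK LD1_c10 LD2_c11 LD3_c21)) = (LP (LK LD1_c9 LD2_c56 LD3_c9)) :=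
  Lgr Lrot46 (Lpr_gf (K45.f408431 IH) (Lpe (K45.f585171 IH) (Lpr_at (f585185 IH) (Lpn (LP (LK LD1_c9 LD2_c56 LD3_c9))))))
theorem f299849 : Led Lsl_bt (LP (LK LD1_c9 LD2_c57 LD3_c4)) = (LP (LK LD1_c10 LD2_c11 LD3_c21)) :=
  Lgr Lrot95 (Lpe (K32.f299848 IH) (Lpr_bf (K18.f299844 IH) (Lpe (K45.f299648 IH) (Lpn (LP (LK LD1_c10 LD2_c11 LD3_c21))))))
theorem f164499 : Led Lsl_ct (LP (LK LD1_c5 LD2_c8 LD3_c18)) = (LP (LK LD1_c10 LD2_c7 LD3_c5)) :=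
  Lre_c IH (LK LD1_c5 LD2_c8 LD3_c18) (LK LD1_c10 LD2_c7 LD3_c5) Lrfl Lrfl
theorem f925507 : Led Lsl_gt (LP (LK LD1_c18 LD2_c26 LD3_c7)) = (LP (LK LD1_c10 LD2_c7 LD3_c5)) :=
  Lgr Lrot65 (Lpr_cf (f925505 IH) (Lpe (f925500 IH) (Lpe (f585187 IH) (Lpe (f299849 IH) (Lpr_ct (K53.f299866 IH) (Lpr_gf (K53.f299918 IH) (Lpr_cf (K53.f721282 IH) (Lpe (K53.f603909 IH) (Lpe (K53.f603897 IH) (Lpr_ct (f164499 IH) (Lpn (LP (LK LD1_c10 LD2_c7 LD3_c5)))))))))))))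
theorem f925508 : Led Lsl_gt (LP (LK LD1_c18 LD2_c26 LD3_c7)) = (LP (LK LD1_c10 LD2_c7 LD3_c5)) :=
  Leop (Lpe (f925507 IH) (Lpn (LP (LK LD1_c18 LD2_c26 LD3_c7))))
theorem seed_2519 : LEOK LG_g (LK LD1_c18 LD2_c26 LD3_c7) :=
  Leoe_g (LK LD1_c18 LD2_c26 LD3_c7) (f925508 IH)
def v41369 : LQ := Led Lsl_at (LP (LK LD1_c9 LD2_c56 LD3_c59))
theorem f925667 : Led Lsl_at (LP (LK LD1_c9 LD2_c56 LD3_c59)) = v41369 :=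
  Lrfl
def v14199 : LQ := Led Lsl_at (LP (LK LD1_c5 LD2_c3 LD3_c4))
theorem f720962 : Led Lsl_at (LP (LK LD1_c5 LD2_c3 LD3_c4)) = v14199 :=
  Lrfl
theorem f720963 : Led Lsl_af (LP (LK LD1_c5 LD2_c3 LD3_c4)) = v14199 :=
  Lgr Lrot0 (Lpr_at (f720962 IH) (Lpn v14199))
theorem f925669 : Led Lsl_cf v14199 = v41369 :=
  Lgr Lrot1 (Lpe (f720963 IH) (Lpr_ct (K44.f169637 IH) (Lpr_at (f925667 IH) (Lpn v41369))))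
theorem f720964 : Led Lsl_ft (LP (LK LD1_c5 LD2_c3 LD3_c5)) = v14199 :=
  Lgr Lrot2 (Lpr_gt (K44.f169979 IH) (Lpr_gt (K44.f164128 IH) (Lpr_af (f720963 IH) (Lpn v14199))))
theorem f720966 : Led Lsl_ff (LP (LK LD1_c5 LD2_c3 LD3_c5)) = v14199 :=
  Lgr Lrot3 (Lpr_ft (f720964 IH) (Lpn v14199))
theorem f925671 : Led Lsl_ft (LP (LK LD1_c9 LD2_c57 LD3_c1)) = v41369 :=
  Lgr Lrot4 (Lpe (K44.f299885 IH) (Lpr_ff (f720966 IH) (Lpr_cf (f925669 IH) (Lpn v41369))))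
theorem f925668 : Led Lsl_af (LP (LK LD1_c9 LD2_c56 LD3_c59)) = v41369 :=
  Lgr Lrot0 (Lpr_at (f925667 IH) (Lpn v41369))
theorem f177347 : Led Lsl_gt (LP (LK LD1_c18 LD2_c12 LD3_c37)) = (LP (LK LD1_c9 LD2_c56 LD3_c59)) :=
  Lre_g IH (LK LD1_c18 LD2_c12 LD3_c37) (LK LD1_c9 LD2_c56 LD3_c59) Lrfl Lrfl
theorem f925674 : Led Lsl_gt (LP (LK LD1_c9 LD2_c57 LD3_c1)) = (LP (LK LD1_c18 LD2_c12 LD3_c37)) :=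
  Lgr Lrot5 (Lpr_ft (f925671 IH) (Lpe (f925668 IH) (Lpe (f177347 IH) (Lpn (LP (LK LD1_c18 LD2_c12 LD3_c37))))))
theorem f925675 : Led Lsl_gt (LP (LK LD1_c9 LD2_c57 LD3_c1)) = (LP (LK LD1_c18 LD2_c12 LD3_c37)) :=
  Leop (Lpe (f925674 IH) (Lpn (LP (LK LD1_c9 LD2_c57 LD3_c1))))
theorem seed_2520 : LEOK LG_g (LK LD1_c9 LD2_c57 LD3_c1) :=
  Leoe_g (LK LD1_c9 LD2_c57 LD3_c1) (f925675 IH)
def v41381 : LQ := Led Lsl_dt (LP (LK LD1_c9 LD2_c57 LD3_c0))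
theorem f925715 : Led Lsl_dt (LP (LK LD1_c9 LD2_c57 LD3_c0)) = v41381 :=
  Lrfl
theorem f922683 : Led Lsl_cf K71.v16804 = K71.v41214 :=
  Lgr Lrot11 (Lpr_ct (K71.f922680 IH) (Lpn K71.v41214))
theorem f925718 : Led Lsl_gf K71.v41214 = v41381 :=
  Lgr Lrot179 (Lpe (f922683 IH) (Lpq (K71.f922740 IH) (Lpr_gt (K71.f751404 IH) (Lpr_ct (K71.f922670 IH) (Lpe (K71.f922710 IH) (Lpe (K45.f251548 IH) (Lpr_gf (K44.f395447 IH) (Lpe (K44.f395449 IH) (Lpe (K44.f169988 IH) (Lpr_dt (f925715 IH) (Lpn v41381)))))))))))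
theorem f233595 : Led Lsl_dt (LP (LK LD1_c9 LD2_c54 LD3_c19)) = (LP (LK LD1_c5 LD2_c1 LD3_c53)) :=
  Lre_d IH (LK LD1_c9 LD2_c54 LD3_c19) (LK LD1_c5 LD2_c1 LD3_c53) Lrfl Lrfl
theorem f190541 : Led Lsl_bt (LP (LK LD1_c18 LD2_c7 LD3_c0)) = (LP (LK LD1_c9 LD2_c54 LD3_c3)) :=
  Lre_b IH (LK LD1_c18 LD2_c7 LD3_c0) (LK LD1_c9 LD2_c54 LD3_c3) Lrfl Lrfl
theorem f266081 : Led Lsl_df (LP (LK LD1_c18 LD2_c7 LD3_c0)) = (LP (LK LD1_c10 LD2_c10 LD3_c18)) :=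
  Lgr Lrot12 (Lpr_bt (f190541 IH) (Lpr_dt (K15.f266078 IH) (Lpr_bt (K44.f22088 IH) (Lpn (LP (LK LD1_c10 LD2_c10 LD3_c18))))))
def v41379 : LQ := Led Lsl_gf (LP (LK LD1_c9 LD2_c57 LD3_c0))
theorem f925712 : Led Lsl_gf (LP (LK LD1_c9 LD2_c57 LD3_c0)) = v41379 :=
  Lrfl
theorem f925720 : (LP (LK LD1_c18 LD2_c10 LD3_c30)) = v41379 :=
  (Llr Lrot8 (Lpr_cf (K45.f412927 IH) (Lpr_gt (K45.f165520 IH) (Lpe (f266081 IH) (Lpqs (K71.f922731 IH) (Lpe (K71.f922624 IH) (Lpr_dt (f233595 IH) (Lpe (K44.f164042 IH) (Lpr_df (K71.f922605 IH) (Lpr_gf (f925718 IH) (Lpe (f925715 IH) (Lpr_gf (f925712 IH) (Lpn v41379))))))))))))).symm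
theorem f925721 : Led Lsl_gt (LP (LK LD1_c18 LD2_c10 LD3_c30)) = (LP (LK LD1_c9 LD2_c57 LD3_c0)) :=
  Leop (Lpr_gf (f925712 IH) (Lpq (f925720 IH) (Lpn (LP (LK LD1_c18 LD2_c10 LD3_c30)))))
theorem seed_2521 : LEOK LG_g (LK LD1_c18 LD2_c10 LD3_c30) :=
  Leoe_g (LK LD1_c18 LD2_c10 LD3_c30) (f925721 IH)
def v41441 : LQ := Led Lsl_ct (LP (LK LD1_c9 LD2_c57 LD3_c50))
theorem f925964 : Led Lsl_ct (LP (LK LD1_c9 LD2_c57 LD3_c50)) = v41441 :=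
  Lrfl
theorem f721612 : Led Lsl_ct (LP (LK LD1_c18 LD2_c16 LD3_c52)) = (LP (LK LD1_c9 LD2_c59 LD3_c61)) :=
  Lre_c IH (LK LD1_c18 LD2_c16 LD3_c52) (LK LD1_c9 LD2_c59 LD3_c61) Lrfl Lrfl
theorem f925968 : Led Lsl_gf (LP (LK LD1_c18 LD2_c16 LD3_c52)) = v41441 :=
  Lgr Lrot104 (Lpr_ct (f721612 IH) (Lpe (K53.f343483 IH) (Lpe (K44.f247940 IH) (Lpe (K45.f247939 IH) (Lpe (K44.f405312 IH) (Lpe (K38.f184512 IH) (Lpe (K44.f186628 IH) (Lpr_gt (K44.f249933 IH) (Lpr_ct (f925964 IH) (Lpn v41441))))))))))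
theorem f584550 : Led Lsl_ff (LP (LK LD1_c9 LD2_c57 LD3_c50)) = (LP (LK LD1_c9 LD2_c56 LD3_c1)) :=
  Lgr Lrot19 (Lpe (K44.f584478 IH) (Lpr_ft (K44.f584546 IH) (Lpr_dt (K44.f3788 IH) (Lpn (LP (LK LD1_c9 LD2_c56 LD3_c1))))))
def v41314 : LQ := Led Lsl_ct (LP (LK LD1_c9 LD2_c56 LD3_c1))
theorem f925416 : Led Lsl_ct (LP (LK LD1_c9 LD2_c56 LD3_c1)) = v41314 :=
  Lrfl
theorem f925418 : Led Lsl_cf (LP (LK LD1_c9 LD2_c56 LD3_c1)) = v41314 :=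
  Lgr Lrot11 (Lpr_ct (f925416 IH) (Lpn v41314))
theorem f925967 : Led Lsl_ff v41314 = v41441 :=
  Lgr Lrot23 (Lpe (f925418 IH) (Lpe (f584550 IH) (Lpr_ct (f925964 IH) (Lpn v41441))))
theorem f343437 : Led Lsl_ct (LP (LK LD1_c18 LD2_c13 LD3_c56)) = (LP (LK LD1_c9 LD2_c57 LD3_c51)) :=
  Lre_c IH (LK LD1_c18 LD2_c13 LD3_c56) (LK LD1_c9 LD2_c57 LD3_c51) Lrfl Lrfl
theorem f925417 : Led Lsl_af (LP (LK LD1_c18 LD2_c13 LD3_c56)) = v41314 :=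
  Lgr Lrot68 (Lpr_ct (f343437 IH) (Lpr_at (K44.f584689 IH) (Lpr_ct (f925416 IH) (Lpn v41314))))
theorem f925969 : Led Lsl_gt (LP (LK LD1_c18 LD2_c16 LD3_c52)) = (LP (LK LD1_c18 LD2_c13 LD3_c56)) :=
  Lgr Lrot46 (Lpr_gf (f925968 IH) (Lpe (f925967 IH) (Lpe (f925417 IH) (Lpn (LP (LK LD1_c18 LD2_c13 LD3_c56))))))
theorem f925970 : Led Lsl_gt (LP (LK LD1_c18 LD2_c16 LD3_c52)) = (LP (LK LD1_c18 LD2_c13 LD3_c56)) :=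
  Leop (Lpe (f925969 IH) (Lpn (LP (LK LD1_c18 LD2_c16 LD3_c52))))
theorem seed_2522 : LEOK LG_g (LK LD1_c18 LD2_c16 LD3_c52) :=
  Leoe_g (LK LD1_c18 LD2_c16 LD3_c52) (f925970 IH)
def v41498 : LQ := Led Lsl_at (LP (LK LD1_c9 LD2_c58 LD3_c38))
theorem f926234 : Led Lsl_at (LP (LK LD1_c9 LD2_c58 LD3_c38)) = v41498 :=
  Lrfl
def v14224 : LQ := Led Lsl_at (LP (LK LD1_c5 LD2_c3 LD3_c51))
theorem f721086 : Led Lsl_at (LP (LK LD1_c5 LD2_c3 LD3_c51)) = v14224 :=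
  Lrfl
theorem f721087 : Led Lsl_af (LP (LK LD1_c5 LD2_c3 LD3_c51)) = v14224 :=
  Lgr Lrot0 (Lpr_at (f721086 IH) (Lpn v14224))
theorem f926236 : Led Lsl_cf v14224 = v41498 :=
  Lgr Lrot1 (Lpe (f721087 IH) (Lpr_ct (K53.f165590 IH) (Lpr_at (f926234 IH) (Lpn v41498))))
theorem f721088 : Led Lsl_ft (LP (LK LD1_c5 LD2_c3 LD3_c52)) = v14224 :=
  Lgr Lrot2 (Lpr_gt (K10.f165738 IH) (Lpr_gt (K53.f165589 IH) (Lpr_af (f721087 IH) (Lpn v14224))))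
theorem f721089 : Led Lsl_ff (LP (LK LD1_c5 LD2_c3 LD3_c52)) = v14224 :=
  Lgr Lrot3 (Lpr_ft (f721088 IH) (Lpn v14224))
theorem f343013 : Led Lsl_ct (LP (LK LD1_c5 LD2_c3 LD3_c52)) = (LP (LK LD1_c9 LD2_c58 LD3_c40)) :=
  Lre_c IH (LK LD1_c5 LD2_c3 LD3_c52) (LK LD1_c9 LD2_c58 LD3_c40) Lrfl Lrfl
theorem f926238 : Led Lsl_ft (LP (LK LD1_c9 LD2_c58 LD3_c40)) = v41498 :=
  Lgr Lrot4 (Lpe (f343013 IH) (Lpr_ff (f721089 IH) (Lpr_cf (f926236 IH) (Lpn v41498))))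
theorem f926235 : Led Lsl_af (LP (LK LD1_c9 LD2_c58 LD3_c38)) = v41498 :=
  Lgr Lrot0 (Lpr_at (f926234 IH) (Lpn v41498))
theorem f405329 : Led Lsl_gt (LP (LK LD1_c18 LD2_c15 LD3_c6)) = (LP (LK LD1_c9 LD2_c58 LD3_c38)) :=
  Lre_g IH (LK LD1_c18 LD2_c15 LD3_c6) (LK LD1_c9 LD2_c58 LD3_c38) Lrfl Lrfl
theorem f926240 : Led Lsl_gt (LP (LK LD1_c9 LD2_c58 LD3_c40)) = (LP (LK LD1_c18 LD2_c15 LD3_c6)) :=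
  Lgr Lrot5 (Lpr_ft (f926238 IH) (Lpe (f926235 IH) (Lpe (f405329 IH) (Lpn (LP (LK LD1_c18 LD2_c15 LD3_c6))))))
theorem f926241 : Led Lsl_gt (LP (LK LD1_c9 LD2_c58 LD3_c40)) = (LP (LK LD1_c18 LD2_c15 LD3_c6)) :=
  Leop (Lpe (f926240 IH) (Lpn (LP (LK LD1_c9 LD2_c58 LD3_c40))))
theorem seed_2523 : LEOK LG_g (LK LD1_c9 LD2_c58 LD3_c40) :=
  Leoe_g (LK LD1_c9 LD2_c58 LD3_c40) (f926241 IH)
def v41503 : LQ := Led Lsl_ft (LP (LK LD1_c9 LD2_c58 LD3_c39))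
theorem f926334 : Led Lsl_ft (LP (LK LD1_c9 LD2_c58 LD3_c39)) = v41503 :=
  Lrfl
theorem f926337 : Led Lsl_ff (LP (LK LD1_c9 LD2_c58 LD3_c39)) = v41503 :=
  Lgr Lrot3 (Lpr_ft (f926334 IH) (Lpn v41503))
theorem f926339 : Led Lsl_bt v14224 = v41503 :=
  Lgr Lrot35 (Lpe (f721088 IH) (Lpe (K44.f165739 IH) (Lpr_ff (f926337 IH) (Lpn v41503))))
def v41495 : LQ := Led Lsl_at (LP (LK LD1_c9 LD2_c58 LD3_c37))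
theorem f926224 : Led Lsl_at (LP (LK LD1_c9 LD2_c58 LD3_c37)) = v41495 :=
  Lrfl
theorem f926225 : Led Lsl_af (LP (LK LD1_c9 LD2_c58 LD3_c37)) = v41495 :=
  Lgr Lrot0 (Lpr_at (f926224 IH) (Lpn v41495))
def v41502 : LQ := Led Lsl_at (LP (LK LD1_c9 LD2_c58 LD3_c39))
theorem f926330 : Led Lsl_at (LP (LK LD1_c9 LD2_c58 LD3_c39)) = v41502 :=
  Lrfl
theorem f926331 : Led Lsl_af (LP (LK LD1_c9 LD2_c58 LD3_c39)) = v41502 :=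
  Lgr Lrot0 (Lpr_at (f926330 IH) (Lpn v41502))
theorem f230035 : Led Lsl_cf (LP (LK LD1_c18 LD2_c35 LD3_c16)) = (LP (LK LD1_c18 LD2_c51 LD3_c43)) :=
  Lgr Lrot11 (Lpr_ct (K44.f230032 IH) (Lpn (LP (LK LD1_c18 LD2_c51 LD3_c43))))
theorem f32762 : Led Lsl_gt (LP (LK LD1_c18 LD2_c51 LD3_c52)) = (LP (LK LD1_c10 LD2_c23 LD3_c53)) :=
  Lre_g IH (LK LD1_c18 LD2_c51 LD3_c52) (LK LD1_c10 LD2_c23 LD3_c53) Lrfl Lrfl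
theorem f583284 : Led Lsl_bt (LP (LK LD1_c18 LD2_c51 LD3_c43)) = (LP (LK LD1_c10 LD2_c26 LD3_c60)) :=
  Lgr Lrot130 (Lpe (f230035 IH) (Lpr_gf (K44.f583280 IH) (Lpe (K37.f544732 IH) (Lpr_bt (K37.f32497 IH) (Lpe (f32762 IH) (Lpe (K44.f32688 IH) (Lpr_ct (K13.f32755 IH) (Lpe (K44.f32705 IH) (Lpe (K44.f71662 IH) (Lpe (K44.f412809 IH) (Lpn (LP (LK LD1_c10 LD2_c26 LD3_c60)))))))))))))
theorem f181049 : Led Lsl_gt (LP (LK LD1_c10 LD2_c13 LD3_c31)) = (LP (LK LD1_c5 LD2_c11 LD3_c30)) :=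
  Lre_g IH (LK LD1_c10 LD2_c13 LD3_c31) (LK LD1_c5 LD2_c11 LD3_c30) Lrfl Lrfl
theorem f343486 : Led Lsl_bt (LP (LK LD1_c9 LD2_c59 LD3_c58)) = (LP (LK LD1_c10 LD2_c13 LD3_c31)) :=
  Lgr Lrot130 (Lpr_ct (K44.f343479 IH) (Lpe (K44.f171480 IH) (Lpe (K44.f180744 IH) (Lpr_bt (K37.f180741 IH) (Lpe (K12.f180739 IH) (Lpe (K44.f32684 IH) (Lpr_ct (K44.f71563 IH) (Lpr_gf (K44.f181047 IH) (Lpe (K44.f165439 IH) (Lpe (f181049 IH) (Lpn (LP (LK LD1_c10 LD2_c13 LD3_c31)))))))))))))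
theorem f343489 : Led Lsl_bf (LP (LK LD1_c9 LD2_c59 LD3_c58)) = (LP (LK LD1_c10 LD2_c13 LD3_c31)) :=
  Lgr Lrot24 (Lpr_bt (f343486 IH) (Lpn (LP (LK LD1_c10 LD2_c13 LD3_c31))))
theorem f583288 : Led Lsl_cf (LP (LK LD1_c10 LD2_c13 LD3_c31)) = (LP (LK LD1_c10 LD2_c26 LD3_c60)) :=
  Lgr Lrot97 (Lpe (f343489 IH) (Lpr_ct (K44.f343479 IH) (Lpr_bt (K44.f230034 IH) (Lpr_ct (K44.f230032 IH) (Lpr_bt (f583284 IH) (Lpn (LP (LK LD1_c10 LD2_c26 LD3_c60))))))))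
theorem f583291 : Led Lsl_ct (LP (LK LD1_c10 LD2_c13 LD3_c31)) = (LP (LK LD1_c10 LD2_c26 LD3_c60)) :=
  Lgr Lrot59 (Lpr_cf (f583288 IH) (Lpn (LP (LK LD1_c10 LD2_c26 LD3_c60))))
theorem f583307 : Led Lsl_gf (LP (LK LD1_c9 LD2_c58 LD3_c39)) = (LP (LK LD1_c5 LD2_c18 LD3_c40)) :=
  Lgr Lrot181 (Lpr_ct (K44.f343303 IH) (Lpr_gt (K44.f343304 IH) (Lpe (K44.f163861 IH) (Lpr_bt (K44.f343305 IH) (Lpr_gt (K44.f247941 IH) (Lpr_bf (f343489 IH) (Lpr_ct (f583291 IH) (Lpr_gt (K44.f412809 IH) (Lpe (K19.f71666 IH) (Lpr_bt (K44.f186643 IH) (Lpn (LP (LK LD1_c5 LD2_c18 LD3_c40)))))))))))))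
theorem f926332 : Led Lsl_ft (LP (LK LD1_c10 LD2_c26 LD3_c57)) = v41502 :=
  Lgr Lrot2 (Lpr_gt (K44.f186644 IH) (Lpe (f583307 IH) (Lpr_af (f926331 IH) (Lpn v41502))))
theorem f926335 : Led Lsl_af (LP (LK LD1_c10 LD2_c26 LD3_c57)) = v41503 :=
  Lgr Lrot45 (Lpr_ft (f926332 IH) (Lpe (f926331 IH) (Lpr_ft (f926334 IH) (Lpn v41503))))
theorem f405258 : Led Lsl_bt (LP (LK LD1_c10 LD2_c26 LD3_c57)) = (LP (LK LD1_c10 LD2_c22 LD3_c53)) :=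
  Lgr Lrot127 (Lpr_bf (K44.f405256 IH) (Lpn (LP (LK LD1_c10 LD2_c22 LD3_c53))))
theorem f926340 : v41495 = (LP (LK LD1_c10 LD2_c22 LD3_c53)) :=
  (Llr Lrot36 (Lpe (f926225 IH) (Lpr_bt (K53.f165593 IH) (Lpr_at (f721086 IH) (Lpr_bt (f926339 IH) (Lpe (f926335 IH) (Lpr_bt (f405258 IH) (Lpn (LP (LK LD1_c10 LD2_c22 LD3_c53)))))))))).symm
theorem f926341 : Led Lsl_at (LP (LK LD1_c10 LD2_c22 LD3_c53)) = (LP (LK LD1_c9 LD2_c58 LD3_c37)) :=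
  Leop (Lpr_af (f926225 IH) (Lpqs (f926340 IH) (Lpn (LP (LK LD1_c10 LD2_c22 LD3_c53)))))
theorem seed_2524 : LEOK LG_a (LK LD1_c10 LD2_c22 LD3_c53) :=
  Leoe_a (LK LD1_c10 LD2_c22 LD3_c53) (f926341 IH)
def v14226 : LQ := Led Lsl_ft (LP (LK LD1_c5 LD2_c3 LD3_c51))
theorem f721092 : Led Lsl_ft (LP (LK LD1_c5 LD2_c3 LD3_c51)) = v14226 :=
  Lrfl
theorem f721094 : Led Lsl_ff (LP (LK LD1_c5 LD2_c3 LD3_c51)) = v14226 :=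
  Lgr Lrot3 (Lpr_ft (f721092 IH) (Lpn v14226))
theorem f721095 : Led Lsl_at (LP (LK LD1_c5 LD2_c3 LD3_c52)) = v14226 :=
  Lgr Lrot66 (Lpr_ff (f721089 IH) (Lpe (f721086 IH) (Lpr_ff (f721094 IH) (Lpn v14226))))
def v41497 : LQ := Led Lsl_ft (LP (LK LD1_c9 LD2_c58 LD3_c37))
theorem f926230 : Led Lsl_ft (LP (LK LD1_c9 LD2_c58 LD3_c37)) = v41497 :=
  Lrfl
theorem f165596 : Led Lsl_bt (LP (LK LD1_c5 LD2_c3 LD3_c51)) = (LP (LK LD1_c9 LD2_c58 LD3_c37)) :=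
  Lre_b IH (LK LD1_c5 LD2_c3 LD3_c51) (LK LD1_c9 LD2_c58 LD3_c37) Lrfl Lrfl
theorem f926231 : Led Lsl_bf v14226 = v41497 :=
  Lgr Lrot61 (Lpe (f721094 IH) (Lpr_bt (f165596 IH) (Lpr_ft (f926230 IH) (Lpn v41497))))
def v14452 : LQ := Led Lsl_bt (LP (LK LD1_c5 LD2_c10 LD3_c37))
theorem f722600 : Led Lsl_bt (LP (LK LD1_c5 LD2_c10 LD3_c37)) = v14452 :=
  Lrfl
theorem f722601 : Led Lsl_bf (LP (LK LD1_c5 LD2_c10 LD3_c37)) = v14452 :=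
  Lgr Lrot24 (Lpr_bt (f722600 IH) (Lpn v14452))
theorem f405254 : Led Lsl_ct (LP (LK LD1_c10 LD2_c13 LD3_c17)) = (LP (LK LD1_c10 LD2_c22 LD3_c53)) :=
  Lgr Lrot59 (Lpr_cf (K44.f405251 IH) (Lpn (LP (LK LD1_c10 LD2_c22 LD3_c53))))
theorem f926343 : Led Lsl_af (LP (LK LD1_c10 LD2_c13 LD3_c17)) = (LP (LK LD1_c9 LD2_c58 LD3_c61)) :=
  Lgr Lrot68 (Lpr_ct (f405254 IH) (Lpq (f926340 IH) (Lpe (f926225 IH) (Lpr_ct (K53.f165594 IH) (Lpn (LP (LK LD1_c9 LD2_c58 LD3_c61)))))))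
theorem f351103 : Led Lsl_gt (LP (LK LD1_c10 LD2_c13 LD3_c18)) = (LP (LK LD1_c5 LD2_c11 LD3_c22)) :=
  Lre_g IH (LK LD1_c10 LD2_c13 LD3_c18) (LK LD1_c5 LD2_c11 LD3_c22) Lrfl Lrfl
theorem f926347 : Led Lsl_ft (LP (LK LD1_c10 LD2_c13 LD3_c18)) = (LP (LK LD1_c9 LD2_c58 LD3_c61)) :=
  Lgr Lrot2 (Lpr_gt (f351103 IH) (Lpr_gt (K44.f163794 IH) (Lpr_af (f926343 IH) (Lpn (LP (LK LD1_c9 LD2_c58 LD3_c61))))))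
theorem f351097 : Led Lsl_ft (LP (LK LD1_c9 LD2_c58 LD3_c58)) = (LP (LK LD1_c10 LD2_c13 LD3_c15)) :=
  Lgr Lrot48 (Lpr_ff (K53.f351095 IH) (Lpn (LP (LK LD1_c10 LD2_c13 LD3_c15))))
theorem f215132 : Led Lsl_at (LP (LK LD1_c10 LD2_c13 LD3_c15)) = (LP (LK LD1_c5 LD2_c11 LD3_c22)) :=
  Lre_a IH (LK LD1_c10 LD2_c13 LD3_c15) (LK LD1_c5 LD2_c11 LD3_c22) Lrfl Lrfl
theorem f351104 : Led Lsl_gt (LP (LK LD1_c9 LD2_c58 LD3_c58)) = (LP (LK LD1_c10 LD2_c13 LD3_c18)) :=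
  Lgr Lrot5 (Lpr_ft (f351097 IH) (Lpr_at (f215132 IH) (Lpe (f351103 IH) (Lpn (LP (LK LD1_c10 LD2_c13 LD3_c18))))))
theorem f722602 : Led Lsl_cf (LP (LK LD1_c10 LD2_c13 LD3_c18)) = v14452 :=
  Lgr Lrot58 (Lpe (f351104 IH) (Lpe (K15.f267982 IH) (Lpr_bt (K15.f267972 IH) (Lpe (K44.f412516 IH) (Lpe (K53.f166083 IH) (Lpr_ct (K53.f171627 IH) (Lpr_gf (K53.f412519 IH) (Lpe (K44.f249763 IH) (Lpr_gf (K53.f249884 IH) (Lpr_bf (f722601 IH) (Lpn v14452)))))))))))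
theorem f165598 : Led Lsl_cf (LP (LK LD1_c9 LD2_c58 LD3_c37)) = (LP (LK LD1_c9 LD2_c58 LD3_c61)) :=
  Lgr Lrot11 (Lpr_ct (K53.f165594 IH) (Lpn (LP (LK LD1_c9 LD2_c58 LD3_c61))))
theorem f926351 : v14452 = v41497 :=
  (Llr Lrot108 (Lpe (f722602 IH) (Lpr_ft (f926347 IH) (Lpe (f165598 IH) (Lpr_ft (f926230 IH) (Lpn v41497)))))).symm
theorem f926352 : v14226 = (LP (LK LD1_c5 LD2_c10 LD3_c37)) :=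
  Lefun (Lecon (Lfl_bf (f926231 IH)) (f926351 IH).symm) (Lfl_bf (f722601 IH))
theorem f926354 : Led Lsl_at (LP (LK LD1_c5 LD2_c3 LD3_c52)) = (LP (LK LD1_c5 LD2_c10 LD3_c37)) :=
  Leop (Lpq (f926352 IH) (Lpe (f721095 IH) (Lpn (LP (LK LD1_c5 LD2_c3 LD3_c52)))))
theorem seed_2525 : LEOK LG_a (LK LD1_c5 LD2_c3 LD3_c52) :=
  Leoe_a (LK LD1_c5 LD2_c3 LD3_c52) (f926354 IH)
def v41392 : LQ := Led Lsl_at (LP (LK LD1_c9 LD2_c57 LD3_c6))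
theorem f925762 : Led Lsl_at (LP (LK LD1_c9 LD2_c57 LD3_c6)) = v41392 :=
  Lrfl
theorem f185213 : Led Lsl_dt (LP (LK LD1_c18 LD2_c35 LD3_c46)) = (LP (LK LD1_c10 LD2_c12 LD3_c51)) :=
  Lre_d IH (LK LD1_c18 LD2_c35 LD3_c46) (LK LD1_c10 LD2_c12 LD3_c51) Lrfl Lrfl
theorem f604185 : Led Lsl_dt (LP (LK LD1_c5 LD2_c3 LD3_c51)) = (LP (LK LD1_c9 LD2_c57 LD3_c6)) :=
  Lgr Lrot6 (Lpe (K53.f405325 IH) (Lpr_ct (K14.f248959 IH) (Lpr_gt (K44.f405319 IH) (Lpe (K44.f185211 IH) (Lpe (f185213 IH) (Lpr_cf (K53.f604183 IH) (Lpr_gf (K53.f299909 IH) (Lpe (K32.f299883 IH) (Lpe (K53.f299928 IH) (Lpn (LP (LK LD1_c9 LD2_c57 LD3_c6))))))))))))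
theorem f925764 : Led Lsl_df v14224 = v41392 :=
  Lgr Lrot18 (Lpe (f721087 IH) (Lpr_dt (f604185 IH) (Lpr_at (f925762 IH) (Lpn v41392))))
theorem f925765 : Led Lsl_dt v14224 = v41392 :=
  Lgr Lrot42 (Lpr_df (f925764 IH) (Lpn v41392))
def v14451 : LQ := Led Lsl_at (LP (LK LD1_c5 LD2_c10 LD3_c37))
theorem f722596 : Led Lsl_at (LP (LK LD1_c5 LD2_c10 LD3_c37)) = v14451 :=
  Lrfl
theorem f722597 : Led Lsl_af (LP (LK LD1_c5 LD2_c10 LD3_c37)) = v14451 :=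
  Lgr Lrot0 (Lpr_at (f722596 IH) (Lpn v14451))
theorem f722598 : Led Lsl_ft (LP (LK LD1_c5 LD2_c10 LD3_c38)) = v14451 :=
  Lgr Lrot2 (Lpr_gt (K44.f165251 IH) (Lpr_gt (K53.f192934 IH) (Lpr_af (f722597 IH) (Lpn v14451))))
theorem f722599 : Led Lsl_ff (LP (LK LD1_c5 LD2_c10 LD3_c38)) = v14451 :=
  Lgr Lrot3 (Lpr_ft (f722598 IH) (Lpn v14451))
theorem f721093 : Led Lsl_af (LP (LK LD1_c5 LD2_c3 LD3_c52)) = v14226 :=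
  Lgr Lrot45 (Lpr_ft (f721088 IH) (Lpe (f721087 IH) (Lpr_ft (f721092 IH) (Lpn v14226))))
theorem f926353 : (LP (LK LD1_c5 LD2_c3 LD3_c52)) = v14451 :=
  Lefun (Lecon (Lfl_af (f721093 IH)) (f926352 IH)) (f722596 IH)
theorem f926366 : (LP (LK LD1_c5 LD2_c10 LD3_c38)) = v14224 :=
  Lefun (Lecon (Lfl_ff (f722599 IH)) (f926353 IH).symm) (f721088 IH)
theorem f926381 : v41392 = (LP (LK LD1_c10 LD2_c10 LD3_c41)) :=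
  Lefun (Lecon (f925765 IH) (f926366 IH).symm) (K71.f714505 IH)
theorem f343406 : Led Lsl_ct (LP (LK LD1_c18 LD2_c12 LD3_c52)) = (LP (LK LD1_c18 LD2_c37 LD3_c16)) :=
  Lgr Lrot59 (Lpr_cf (K53.f343404 IH) (Lpn (LP (LK LD1_c18 LD2_c37 LD3_c16))))
theorem f177219 : Led Lsl_gt (LP (LK LD1_c9 LD2_c57 LD3_c7)) = (LP (LK LD1_c5 LD2_c3 LD3_c7)) :=
  Lre_g IH (LK LD1_c9 LD2_c57 LD3_c7) (LK LD1_c5 LD2_c3 LD3_c7) Lrfl Lrfl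
theorem f343412 : Led Lsl_df (LP (LK LD1_c9 LD2_c57 LD3_c7)) = (LP (LK LD1_c5 LD2_c3 LD3_c52)) :=
  Lgr Lrot155 (Lpr_gt (f177219 IH) (Lpr_ct (K53.f177228 IH) (Lpr_gt (K53.f177229 IH) (Lpr_ct (f343406 IH) (Lpr_dt (K53.f343369 IH) (Lpe (K53.f343367 IH) (Lpe (K37.f166894 IH) (Lpe (K14.f165612 IH) (Lpe (K10.f165738 IH) (Lpn (LP (LK LD1_c5 LD2_c3 LD3_c52))))))))))))
theorem f925766 : Led Lsl_ft (LP (LK LD1_c9 LD2_c57 LD3_c7)) = v41392 :=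
  Lgr Lrot54 (Lpr_df (f343412 IH) (Lpr_ff (f721089 IH) (Lpr_df (f925764 IH) (Lpn v41392))))
def v41398 : LQ := Led Lsl_ct (LP (LK LD1_c9 LD2_c57 LD3_c7))
theorem f925792 : Led Lsl_ct (LP (LK LD1_c9 LD2_c57 LD3_c7)) = v41398 :=
  Lrfl
theorem f925793 : Led Lsl_cf (LP (LK LD1_c9 LD2_c57 LD3_c7)) = v41398 :=
  Lgr Lrot11 (Lpr_ct (f925792 IH) (Lpn v41398))
theorem f926387 : Led Lsl_ff v41398 = (LP (LK LD1_c18 LD2_c32 LD3_c34)) :=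
  Lgr Lrot23 (Lpe (f925793 IH) (Lpr_ft (f925766 IH) (Lpqs (f926381 IH) (Lpr_ct (K71.f180705 IH) (Lpn (LP (LK LD1_c18 LD2_c32 LD3_c34)))))))
theorem f539623 : Led Lsl_ct (LP (LK LD1_c6 LD2_c8 LD3_c0)) = (LP (LK LD1_c3 LD2_c0 LD3_c14)) :=
  Lre_c IH (LK LD1_c6 LD2_c8 LD3_c0) (LK LD1_c3 LD2_c0 LD3_c14) Lrfl Lrfl
theorem f539626 : Led Lsl_gt (LP (LK LD1_c5 LD2_c8 LD3_c6)) = (LP (LK LD1_c6 LD2_c8 LD3_c0)) :=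
  Lgr Lrot187 (Lpe (K32.f53235 IH) (Lpr_gf (K32.f427524 IH) (Lpr_dt (K32.f161212 IH) (Lpe (K32.f427805 IH) (Lpr_ct (K36.f242754 IH) (Lpr_gt (K36.f427778 IH) (Lpr_ct (K36.f386734 IH) (Lpr_dt (K36.f539605 IH) (Lpe (f539623 IH) (Lpn (LP (LK LD1_c6 LD2_c8 LD3_c0))))))))))))
theorem f412182 : Led Lsl_bt (LP (LK LD1_c3 LD2_c0 LD3_c15)) = (LP (LK LD1_c6 LD2_c8 LD3_c3)) :=
  Lre_b IH (LK LD1_c3 LD2_c0 LD3_c15) (LK LD1_c6 LD2_c8 LD3_c3) Lrfl Lrfl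
theorem f387133 : Led Lsl_gt (LP (LK LD1_c6 LD2_c8 LD3_c3)) = (LP (LK LD1_c11 LD2_c58 LD3_c8)) :=
  Lre_g IH (LK LD1_c6 LD2_c8 LD3_c3) (LK LD1_c11 LD2_c58 LD3_c8) Lrfl Lrfl
theorem f925795 : Led Lsl_bf (LP (LK LD1_c11 LD2_c58 LD3_c8)) = v41398 :=
  Lgr Lrot34 (Lpe (f387133 IH) (Lpe (f412182 IH) (Lpr_ct (K56.f55973 IH) (Lpe (K36.f9095 IH) (Lpe (f539623 IH) (Lpe (f539626 IH) (Lpe (K32.f177275 IH) (Lpr_ct (K53.f177210 IH) (Lpe (f177219 IH) (Lpr_cf (f925793 IH) (Lpn v41398)))))))))))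
theorem f618631 : Led Lsl_bt (LP (LK LD1_c10 LD2_c45 LD3_c40)) = (LP (LK LD1_c18 LD2_c32 LD3_c34)) :=
  Lgr Lrot127 (Lpr_bf (K71.f618629 IH) (Lpn (LP (LK LD1_c18 LD2_c32 LD3_c34))))
theorem f926388 : Led Lsl_ft (LP (LK LD1_c11 LD2_c58 LD3_c8)) = (LP (LK LD1_c10 LD2_c45 LD3_c40)) :=
  Lgr Lrot75 (Lpr_bf (f925795 IH) (Lpr_ff (f926387 IH) (Lpe (f618631 IH) (Lpn (LP (LK LD1_c10 LD2_c45 LD3_c40))))))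
theorem f926389 : Led Lsl_ft (LP (LK LD1_c11 LD2_c58 LD3_c8)) = (LP (LK LD1_c10 LD2_c45 LD3_c40)) :=
  Leop (Lpe (f926388 IH) (Lpn (LP (LK LD1_c11 LD2_c58 LD3_c8))))
theorem seed_2526 : LEOK LG_f (LK LD1_c11 LD2_c58 LD3_c8) :=
  Leoe_f (LK LD1_c11 LD2_c58 LD3_c8) (f926389 IH)
def v41579 : LQ := Led Lsl_gf (LP (LK LD1_c9 LD2_c59 LD3_c5))
theorem f926856 : Led Lsl_gf (LP (LK LD1_c9 LD2_c59 LD3_c5)) = v41579 :=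
  Lrfl
def v41578 : LQ := Led Lsl_gt (LP (LK LD1_c9 LD2_c59 LD3_c5))
theorem f926849 : Led Lsl_gt (LP (LK LD1_c9 LD2_c59 LD3_c5)) = v41578 :=
  Lrfl
theorem f165725 : Led Lsl_et (LP (LK LD1_c5 LD2_c4 LD3_c7)) = (LP (LK LD1_c9 LD2_c59 LD3_c5)) :=
  Lre_e IH (LK LD1_c5 LD2_c4 LD3_c7) (LK LD1_c9 LD2_c59 LD3_c5) Lrfl Lrfl
theorem f186570 : Led Lsl_dt (LP (LK LD1_c1 LD2_c13 LD3_c24)) = (LP (LK LD1_c2 LD2_c32 LD3_c46)) :=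
  Lgr Lrot173 (Lpe (K10.f185013 IH) (Lpe (K10.f185014 IH) (Lpe (K10.f165185 IH) (Lpe (K9.f20471 IH) (Lpe (K10.f185088 IH) (Lpe (K10.f185085 IH) (Lpr_cf (K10.f186565 IH) (Lpr_df (K10.f185264 IH) (Lpe (K10.f165523 IH) (Lpe (K10.f165513 IH) (Lpe (K10.f165508 IH) (Lpe (K9.f20475 IH) (Lpe (K10.f20481 IH) (Lpe (K10.f20498 IH) (Lpe (K10.f185165 IH) (Lpn (LP (LK LD1_c2 LD2_c32 LD3_c46))))))))))))))))))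
theorem f240453 : Led Lsl_df (LP (LK LD1_c2 LD2_c31 LD3_c61)) = (LP (LK LD1_c5 LD2_c4 LD3_c7)) :=
  Lgr Lrot153 (Lpr_gt (K20.f240361 IH) (Lpr_dt (f186570 IH) (Lpr_cf (K10.f185177 IH) (Lpe (K10.f20504 IH) (Lpe (K10.f185149 IH) (Lpr_df (K15.f186168 IH) (Lpe (K14.f186166 IH) (Lpe (K14.f166254 IH) (Lpr_gt (K10.f21398 IH) (Lpn (LP (LK LD1_c5 LD2_c4 LD3_c7))))))))))))
def v4600 : LQ := Led Lsl_dt (LP (LK LD1_c2 LD2_c34 LD3_c11))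
theorem f636342 : Led Lsl_dt (LP (LK LD1_c2 LD2_c34 LD3_c11)) = v4600 :=
  Lrfl
def v24182 : LQ := Led Lsl_gf v4600
theorem f822833 : Led Lsl_gf v4600 = v24182 :=
  Lrfl
def v24181 : LQ := Led Lsl_gt v4600
theorem f822825 : Led Lsl_gt v4600 = v24181 :=
  Lrfl
def v4599 : LQ := Led Lsl_gf (LP (LK LD1_c2 LD2_c34 LD3_c11))
theorem f636334 : Led Lsl_gf (LP (LK LD1_c2 LD2_c34 LD3_c11)) = v4599 :=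
  Lrfl
theorem f636337 : Led Lsl_ct (LP (LK LD1_c4 LD2_c35 LD3_c44)) = v4599 :=
  Lgr Lrot152 (Lpr_gf (K35.f500491 IH) (Lpe (K35.f500490 IH) (Lpe (K59.f452825 IH) (Lpe (K35.f446191 IH) (Lpr_gt (K32.f206523 IH) (Lpe (K24.f206513 IH) (Lpr_df (K38.f164382 IH) (Lpe (K10.f164385 IH) (Lpr_gf (f636334 IH) (Lpn v4599))))))))))
theorem f636339 : Led Lsl_cf (LP (LK LD1_c4 LD2_c35 LD3_c44)) = v4599 :=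
  Lgr Lrot11 (Lpr_ct (f636337 IH) (Lpn v4599))
def v23824 : LQ := Led Lsl_ct K49.v4202
theorem f820716 : Led Lsl_ct K49.v4202 = v23824 :=
  Lrfl
theorem f822827 : Led Lsl_df v23824 = v24181 :=
  Lgr Lrot84 (Lpe (f820716 IH) (Lpe (K49.f631845 IH) (Lpe (K50.f185170 IH) (Lpe (K53.f185169 IH) (Lpe (K35.f185771 IH) (Lpr_cf (f636339 IH) (Lpe (f636334 IH) (Lpr_dt (f636342 IH) (Lpr_gt (f822825 IH) (Lpn v24181))))))))))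
def v4952 : LQ := Led Lsl_ct (LP (LK LD1_c2 LD2_c53 LD3_c57))
theorem f641035 : Led Lsl_ct (LP (LK LD1_c2 LD2_c53 LD3_c57)) = v4952 :=
  Lrfl
theorem f641036 : Led Lsl_cf (LP (LK LD1_c2 LD2_c53 LD3_c57)) = v4952 :=
  Lgr Lrot11 (Lpr_ct (f641035 IH) (Lpn v4952))
theorem f820717 : Led Lsl_af v4952 = v23824 :=
  Lgr Lrot68 (Lpe (f641036 IH) (Lpr_at (K71.f631850 IH) (Lpr_ct (f820716 IH) (Lpn v23824))))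
def v4581 : LQ := Led Lsl_dt (LP (LK LD1_c2 LD2_c31 LD3_c22))
def v24148 : LQ := Led Lsl_gt v4581
theorem f822640 : Led Lsl_gt v4581 = v24148 :=
  Lrfl
theorem f636235 : Led Lsl_dt (LP (LK LD1_c2 LD2_c31 LD3_c22)) = v4581 :=
  Lrfl
theorem f636236 : Led Lsl_df (LP (LK LD1_c2 LD2_c31 LD3_c22)) = v4581 :=
  Lgr Lrot38 (Lpr_dt (f636235 IH) (Lpn v4581))
def v4579 : LQ := Led Lsl_gt (LP (LK LD1_c2 LD2_c31 LD3_c22))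
theorem f636230 : Led Lsl_gt (LP (LK LD1_c2 LD2_c31 LD3_c22)) = v4579 :=
  Lrfl
def v4582 : LQ := Led Lsl_ft (LP (LK LD1_c2 LD2_c31 LD3_c22))
theorem f636239 : Led Lsl_ft (LP (LK LD1_c2 LD2_c31 LD3_c22)) = v4582 :=
  Lrfl
theorem f636240 : Led Lsl_af (LP (LK LD1_c5 LD2_c14 LD3_c47)) = v4582 :=
  Lgr Lrot45 (Lpr_ft (K10.f163933 IH) (Lpe (K55.f164424 IH) (Lpr_ft (f636239 IH) (Lpn v4582))))
theorem f636244 : Led Lsl_gt v4579 = (LP (LK LD1_c5 LD2_c14 LD3_c47)) :=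
  Lgr Lrot46 (Lpe (f636230 IH) (Lpr_ft (f636239 IH) (Lpe (f636240 IH) (Lpn (LP (LK LD1_c5 LD2_c14 LD3_c47))))))
theorem f636245 : Led Lsl_cf v4579 = (LP (LK LD1_c2 LD2_c54 LD3_c0)) :=
  Lgr Lrot169 (Lpr_gt (f636244 IH) (Lpr_ct (K48.f163949 IH) (Lpe (K50.f164370 IH) (Lpr_cf (K24.f206528 IH) (Lpe (K35.f206534 IH) (Lpr_cf (K35.f435600 IH) (Lpe (K24.f169775 IH) (Lpe (K17.f166183 IH) (Lpr_gt (K35.f22852 IH) (Lpn (LP (LK LD1_c2 LD2_c54 LD3_c0))))))))))))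
theorem f636246 : Led Lsl_ct v4579 = (LP (LK LD1_c2 LD2_c54 LD3_c0)) :=
  Lgr Lrot59 (Lpr_cf (f636245 IH) (Lpn (LP (LK LD1_c2 LD2_c54 LD3_c0))))
def v1123 : LQ := Led Lsl_ct K35.v268
theorem f491595 : Led Lsl_ct K35.v268 = v1123 :=
  Lrfl
theorem f491596 : Led Lsl_cf K35.v268 = v1123 :=
  Lgr Lrot11 (Lpr_ct (f491595 IH) (Lpn v1123))
def v3922 : LQ := Led Lsl_dt v1123
theorem f627922 : Led Lsl_dt v1123 = v3922 :=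
  Lrfl
theorem f627923 : Led Lsl_df v1123 = v3922 :=
  Lgr Lrot38 (Lpr_dt (f627922 IH) (Lpn v3922))
def v11878 : LQ := Led Lsl_ct v3922
theorem f686263 : Led Lsl_ct v3922 = v11878 :=
  Lrfl
theorem f686264 : Led Lsl_cf v3922 = v11878 :=
  Lgr Lrot11 (Lpr_ct (f686263 IH) (Lpn v11878))
theorem f699935 : Led Lsl_df v11878 = K67.v12968 :=
  Lgr Lrot106 (Lpe (f686264 IH) (Lpe (f627923 IH) (Lpe (f491596 IH) (Lpe (K35.f451468 IH) (Lpe (K49.f446809 IH) (Lpe (K24.f442461 IH) (Lpe (K2.f82225 IH) (Lpr_dt (K2.f82216 IH) (Lpr_ct (K67.f699930 IH) (Lpn K67.v12968))))))))))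
def v523 : LQ := Led Lsl_dt (LP (LK LD1_c0 LD2_c43 LD3_c42))
def v3128 : LQ := Led Lsl_ct v523
def v9952 : LQ := Led Lsl_dt v3128
theorem f678154 : Led Lsl_dt v3128 = v9952 :=
  Lrfl
def v3121 : LQ := Led Lsl_ct K35.v520
def v9928 : LQ := Led Lsl_gt v3121
theorem f678095 : Led Lsl_gt v3121 = v9928 :=
  Lrfl
def v7860 : LQ := Led Lsl_ct K55.v1337
theorem f668770 : Led Lsl_ct K55.v1337 = v7860 :=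
  Lrfl
theorem f623945 : Led Lsl_ct K35.v520 = v3121 :=
  Lrfl
theorem f623946 : Led Lsl_cf K35.v520 = v3121 :=
  Lgr Lrot11 (Lpr_ct (f623945 IH) (Lpn v3121))
theorem f668774 : Led Lsl_ff v3121 = v7860 :=
  Lgr Lrot23 (Lpe (f623946 IH) (Lpe (K58.f508526 IH) (Lpr_ct (f668770 IH) (Lpn v7860))))
theorem f668776 : Led Lsl_ft v3121 = v7860 :=
  Lgr Lrot48 (Lpr_ff (f668774 IH) (Lpn v7860))
theorem f453766 : Led Lsl_dt (LP (LK LD1_c0 LD2_c43 LD3_c42)) = v523 :=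
  Lrfl
theorem f453767 : Led Lsl_df (LP (LK LD1_c0 LD2_c43 LD3_c42)) = v523 :=
  Lgr Lrot38 (Lpr_dt (f453766 IH) (Lpn v523))
def v1335 : LQ := Led Lsl_dt (LP (LK LD1_c1 LD2_c7 LD3_c24))
theorem f494905 : Led Lsl_dt (LP (LK LD1_c1 LD2_c7 LD3_c24)) = v1335 :=
  Lrfl
theorem f508556 : Led Lsl_ff v523 = v1335 :=
  Lgr Lrot19 (Lpe (f453767 IH) (Lpq (K32.f507936 IH) (Lpe (K32.f494909 IH) (Lpr_dt (f494905 IH) (Lpn v1335)))))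
theorem f508528 : Led Lsl_af K35.v520 = v1335 :=
  Lgr Lrot117 (Lpe (K58.f453759 IH) (Lpr_at (K32.f453754 IH) (Lpq (K32.f507940 IH) (Lpr_dt (f494905 IH) (Lpn v1335)))))
theorem f508529 : Led Lsl_at K35.v520 = v1335 :=
  Lgr Lrot100 (Lpr_af (f508528 IH) (Lpn v1335))
theorem f508527 : Led Lsl_ft K55.v1337 = K35.v520 :=
  Lgr Lrot48 (Lpr_ff (K58.f508526 IH) (Lpn K35.v520))
theorem f508557 : Led Lsl_at v523 = K55.v1337 :=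
  Lgr Lrot66 (Lpr_ff (f508556 IH) (Lpe (f508529 IH) (Lpe (f508527 IH) (Lpn K55.v1337))))
theorem f623961 : Led Lsl_ct v523 = v3128 :=
  Lrfl
theorem f623962 : Led Lsl_cf v523 = v3128 :=
  Lgr Lrot11 (Lpr_ct (f623961 IH) (Lpn v3128))
theorem f668771 : Led Lsl_af v3128 = v7860 :=
  Lgr Lrot68 (Lpe (f623962 IH) (Lpr_at (f508557 IH) (Lpr_ct (f668770 IH) (Lpn v7860))))
theorem f678096 : Led Lsl_gf v3128 = v9928 :=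
  Lgr Lrot76 (Lpr_af (f668771 IH) (Lpe (f668776 IH) (Lpr_gt (f678095 IH) (Lpn v9928))))
theorem f500951 : Led Lsl_ct K35.v555 = K35.v1705 :=
  Lgr Lrot15 (Lpe (K35.f453966 IH) (Lpr_cf (K32.f435300 IH) (Lpr_ef (K35.f500950 IH) (Lpn K35.v1705))))
theorem f627801 : Led Lsl_dt K49.v1729 = K49.v3899 :=
  Lgr Lrot56 (Lpe (K49.f501178 IH) (Lpr_gt (K31.f415839 IH) (Lpe (K24.f58924 IH) (Lpe (K24.f58922 IH) (Lpr_gt (K0.f23346 IH) (Lpe (K1.f23380 IH) (Lpr_et (K29.f446807 IH) (Lpr_gt (K29.f451465 IH) (Lpr_dt (K49.f491572 IH) (Lpr_gt (K49.f627798 IH) (Lpn K49.v3899)))))))))))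
theorem f678097 : Led Lsl_cf K49.v3899 = v9928 :=
  Lgr Lrot99 (Lpe (f627801 IH) (Lpe (K49.f501179 IH) (Lpr_gf (K50.f501189 IH) (Lpqs (K50.f507535 IH) (Lpe (f500951 IH) (Lpr_gf (K35.f624582 IH) (Lpe (K70.f624585 IH) (Lpe (K35.f623943 IH) (Lpr_ct (f623945 IH) (Lpr_gt (f678095 IH) (Lpn v9928)))))))))))
theorem f627799 : Led Lsl_gf K35.v1119 = K49.v3899 :=
  Lgr Lrot76 (Lpr_af (K49.f623428 IH) (Lpr_ff (K49.f623417 IH) (Lpr_gt (K49.f627798 IH) (Lpn K49.v3899))))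
theorem f678156 : Led Lsl_gf v3922 = v9952 :=
  Lgr Lrot143 (Lpe (f627923 IH) (Lpe (f491595 IH) (Lpe (K35.f451467 IH) (Lpr_gf (K32.f451466 IH) (Lpr_df (K35.f491590 IH) (Lpr_gf (f627799 IH) (Lpr_cf (f678097 IH) (Lpe (f678096 IH) (Lpr_dt (f678154 IH) (Lpn v9952))))))))))
theorem f822642 : Led Lsl_cf v9952 = v24148 :=
  Lgr Lrot169 (Lpe (f678156 IH) (Lpr_ct (f686263 IH) (Lpr_df (f699935 IH) (Lpe (K67.f699930 IH) (Lpr_gf (K67.f442470 IH) (Lpe (f636246 IH) (Lpe (f636230 IH) (Lpr_df (f636236 IH) (Lpr_gt (f822640 IH) (Lpn v24148))))))))))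
theorem f678155 : Led Lsl_df v3128 = v9952 :=
  Lgr Lrot38 (Lpr_dt (f678154 IH) (Lpn v9952))
theorem f508558 : Led Lsl_ft v523 = v1335 :=
  Lgr Lrot48 (Lpr_ff (f508556 IH) (Lpn v1335))
theorem f508559 : Led Lsl_af v523 = K55.v1337 :=
  Lgr Lrot45 (Lpr_ft (f508558 IH) (Lpe (f508528 IH) (Lpe (K58.f508526 IH) (Lpn K55.v1337))))
theorem f822644 : Led Lsl_dt v4952 = v24148 :=
  Lgr Lrot140 (Lpe (f641035 IH) (Lpe (K49.f435602 IH) (Lpe (K35.f435590 IH) (Lpr_df (K58.f453759 IH) (Lpe (K58.f508526 IH) (Lpe (f508559 IH) (Lpr_cf (f623962 IH) (Lpr_df (f678155 IH) (Lpr_cf (f822642 IH) (Lpn v24148))))))))))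
theorem f822828 : Led Lsl_at v24148 = v24181 :=
  Lgr Lrot51 (Lpe (f822644 IH) (Lpr_af (f820717 IH) (Lpr_df (f822827 IH) (Lpn v24181))))
theorem f822835 : Led Lsl_ff v24148 = v24182 :=
  Lgr Lrot52 (Lpr_at (f822828 IH) (Lpe (f822825 IH) (Lpr_gf (f822833 IH) (Lpn v24182))))
theorem f636234 : Led Lsl_cf (LP (LK LD1_c2 LD2_c54 LD3_c1)) = K55.v4580 :=
  Lgr Lrot11 (Lpr_ct (K55.f636233 IH) (Lpn K55.v4580))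
theorem f822641 : Led Lsl_df v4952 = v24148 :=
  Lgr Lrot84 (Lpe (f641035 IH) (Lpe (K49.f435602 IH) (Lpe (K24.f169775 IH) (Lpe (K17.f166183 IH) (Lpe (K35.f22473 IH) (Lpr_cf (f636234 IH) (Lpe (K55.f636231 IH) (Lpr_dt (f636235 IH) (Lpr_gt (f822640 IH) (Lpn v24148))))))))))
def v23825 : LQ := Led Lsl_ct K53.v4203
theorem f820722 : Led Lsl_ct K53.v4203 = v23825 :=
  Lrfl
theorem f820725 : Led Lsl_ff v4952 = v23825 :=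
  Lgr Lrot23 (Lpe (f641036 IH) (Lpr_ft (K53.f631857 IH) (Lpr_ct (f820722 IH) (Lpn v23825))))
theorem f820727 : Led Lsl_ft v4952 = v23825 :=
  Lgr Lrot48 (Lpr_ff (f820725 IH) (Lpn v23825))
theorem f822837 : Led Lsl_dt v23825 = v24182 :=
  Lgr Lrot60 (Lpe (f820727 IH) (Lpr_df (f822641 IH) (Lpr_ff (f822835 IH) (Lpn v24182))))
theorem f926850 : Led Lsl_et v23825 = v41578 :=
  Lgr Lrot122 (Lpr_dt (f822837 IH) (Lpe (f822833 IH) (Lpe (f636342 IH) (Lpr_et (K10.f163921 IH) (Lpe (K10.f163936 IH) (Lpr_dt (K10.f185192 IH) (Lpe (K13.f185270 IH) (Lpr_df (f240453 IH) (Lpr_et (f165725 IH) (Lpr_gt (f926849 IH) (Lpn v41578)))))))))))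
theorem f926853 : Led Lsl_ef v23825 = v41578 :=
  Lgr Lrot88 (Lpr_et (f926850 IH) (Lpn v41578))
theorem f631856 : Led Lsl_at (LP (LK LD1_c2 LD2_c53 LD3_c60)) = K53.v4203 :=
  Lgr Lrot66 (Lpr_ff (K49.f631848 IH) (Lpe (K71.f631850 IH) (Lpr_ff (K53.f631855 IH) (Lpn K53.v4203))))
def v4957 : LQ := Led Lsl_ct (LP (LK LD1_c2 LD2_c53 LD3_c60))
theorem f641052 : Led Lsl_ct (LP (LK LD1_c2 LD2_c53 LD3_c60)) = v4957 :=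
  Lrfl
theorem f641053 : Led Lsl_cf (LP (LK LD1_c2 LD2_c53 LD3_c60)) = v4957 :=
  Lgr Lrot11 (Lpr_ct (f641052 IH) (Lpn v4957))
theorem f820723 : Led Lsl_af v4957 = v23825 :=
  Lgr Lrot68 (Lpe (f641053 IH) (Lpr_at (f631856 IH) (Lpr_ct (f820722 IH) (Lpn v23825))))
def v16226 : LQ := Led Lsl_ct (LP (LK LD1_c5 LD2_c55 LD3_c18))
theorem f747132 : Led Lsl_ct (LP (LK LD1_c5 LD2_c55 LD3_c18)) = v16226 :=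
  Lrfl
theorem f747134 : Led Lsl_ef v4957 = v16226 :=
  Lgr Lrot28 (Lpe (f641053 IH) (Lpr_et (K67.f166186 IH) (Lpr_ct (f747132 IH) (Lpn v16226))))
theorem f747135 : Led Lsl_et v4957 = v16226 :=
  Lgr Lrot87 (Lpr_ef (f747134 IH) (Lpn v16226))
theorem f926854 : Led Lsl_at v16226 = v41578 :=
  Lgr Lrot80 (Lpe (f747135 IH) (Lpr_af (f820723 IH) (Lpr_ef (f926853 IH) (Lpn v41578))))
theorem f926857 : Led Lsl_ff v16226 = v41579 :=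
  Lgr Lrot52 (Lpr_at (f926854 IH) (Lpe (f926849 IH) (Lpr_gf (f926856 IH) (Lpn v41579))))
theorem f747133 : Led Lsl_cf (LP (LK LD1_c5 LD2_c55 LD3_c18)) = v16226 :=
  Lgr Lrot11 (Lpr_ct (f747132 IH) (Lpn v16226))
theorem f508205 : Led Lsl_ft (LP (LK LD1_c11 LD2_c50 LD3_c51)) = (LP (LK LD1_c6 LD2_c45 LD3_c27)) :=
  Lgr Lrot48 (Lpr_ff (K69.f508199 IH) (Lpn (LP (LK LD1_c6 LD2_c45 LD3_c27))))
theorem f186217 : Led Lsl_df (LP (LK LD1_c11 LD2_c50 LD3_c51)) = (LP (LK LD1_c10 LD2_c4 LD3_c33)) :=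
  Lgr Lrot38 (Lpr_dt (K55.f186209 IH) (Lpn (LP (LK LD1_c10 LD2_c4 LD3_c33))))
theorem f508208 : Led Lsl_ff (LP (LK LD1_c10 LD2_c4 LD3_c33)) = (LP (LK LD1_c5 LD2_c55 LD3_c18)) :=
  Lgr Lrot19 (Lpe (f186217 IH) (Lpr_ft (f508205 IH) (Lpr_dt (K67.f166197 IH) (Lpn (LP (LK LD1_c5 LD2_c55 LD3_c18))))))
theorem f926858 : Led Lsl_ct (LP (LK LD1_c10 LD2_c4 LD3_c33)) = v41579 :=
  Lgr Lrot40 (Lpr_ff (f508208 IH) (Lpr_cf (f747133 IH) (Lpr_ff (f926857 IH) (Lpn v41579))))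
theorem f186203 : Led Lsl_ct (LP (LK LD1_c6 LD2_c3 LD3_c46)) = (LP (LK LD1_c11 LD2_c51 LD3_c5)) :=
  Lre_c IH (LK LD1_c6 LD2_c3 LD3_c46) (LK LD1_c11 LD2_c51 LD3_c5) Lrfl Lrfl
theorem f165709 : Led Lsl_et (LP (LK LD1_c9 LD2_c59 LD3_c5)) = (LP (LK LD1_c5 LD2_c4 LD3_c7)) :=
  Lre_e IH (LK LD1_c9 LD2_c59 LD3_c5) (LK LD1_c5 LD2_c4 LD3_c7) Lrfl Lrfl
theorem f165710 : Led Lsl_et (LP (LK LD1_c2 LD2_c30 LD3_c55)) = (LP (LK LD1_c5 LD2_c7 LD3_c9)) :=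
  Lre_e IH (LK LD1_c2 LD2_c30 LD3_c55) (LK LD1_c5 LD2_c7 LD3_c9) Lrfl Lrfl
theorem f165711 : Led Lsl_cf (LP (LK LD1_c9 LD2_c59 LD3_c5)) = (LP (LK LD1_c5 LD2_c7 LD3_c9)) :=
  Lgr Lrot39 (Lpr_et (f165709 IH) (Lpr_ct (K10.f165695 IH) (Lpr_et (f165710 IH) (Lpn (LP (LK LD1_c5 LD2_c7 LD3_c9))))))
theorem f165717 : Led Lsl_ct (LP (LK LD1_c9 LD2_c59 LD3_c5)) = (LP (LK LD1_c5 LD2_c7 LD3_c9)) :=
  Lgr Lrot59 (Lpr_cf (f165711 IH) (Lpn (LP (LK LD1_c5 LD2_c7 LD3_c9))))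
def v16653 : LQ := Led Lsl_gf (LP (LK LD1_c6 LD2_c3 LD3_c56))
theorem f750854 : Led Lsl_gf (LP (LK LD1_c6 LD2_c3 LD3_c56)) = v16653 :=
  Lrfl
theorem f926861 : (LP (LK LD1_c11 LD2_c51 LD3_c5)) = v16653 :=
  (Llr Lrot152 (Lpe (f186203 IH) (Lpe (K69.f285347 IH) (Lpr_df (K39.f285153 IH) (Lpr_gt (K55.f285140 IH) (Lpr_ct (f926858 IH) (Lpe (f926856 IH) (Lpr_ct (f165717 IH) (Lpe (K36.f194042 IH) (Lpr_cf (K36.f186394 IH) (Lpr_gf (f750854 IH) (Lpn v16653)))))))))))).symm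
theorem f926862 : Led Lsl_gt (LP (LK LD1_c11 LD2_c51 LD3_c5)) = (LP (LK LD1_c6 LD2_c3 LD3_c56)) :=
  Leop (Lpr_gf (f750854 IH) (Lpq (f926861 IH) (Lpn (LP (LK LD1_c11 LD2_c51 LD3_c5)))))
theorem seed_2527 : LEOK LG_g (LK LD1_c11 LD2_c51 LD3_c5) :=
  Leoe_g (LK LD1_c11 LD2_c51 LD3_c5) (f926862 IH)
def v41591 : LQ := Led Lsl_bt (LP (LK LD1_c9 LD2_c59 LD3_c12))
theorem f926936 : Led Lsl_bt (LP (LK LD1_c9 LD2_c59 LD3_c12)) = v41591 :=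
  Lrfl
def v41260 : LQ := Led Lsl_dt (LP (LK LD1_c9 LD2_c55 LD3_c31))
theorem f922952 : Led Lsl_dt (LP (LK LD1_c9 LD2_c55 LD3_c31)) = v41260 :=
  Lrfl
theorem f177589 : Led Lsl_bt (LP (LK LD1_c5 LD2_c2 LD3_c21)) = (LP (LK LD1_c9 LD2_c55 LD3_c31)) :=
  Lre_b IH (LK LD1_c5 LD2_c2 LD3_c21) (LK LD1_c9 LD2_c55 LD3_c31) Lrfl Lrfl
theorem f922953 : Led Lsl_bf (LP (LK LD1_c9 LD2_c55 LD3_c35)) = v41260 :=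
  Lgr Lrot93 (Lpr_dt (K21.f169615 IH) (Lpr_bt (f177589 IH) (Lpr_dt (f922952 IH) (Lpn v41260))))
theorem f926939 : Led Lsl_ff v41260 = v41591 :=
  Lgr Lrot25 (Lpe (f922953 IH) (Lpr_ft (K22.f335089 IH) (Lpr_bt (f926936 IH) (Lpn v41591))))
theorem f922954 : Led Lsl_df (LP (LK LD1_c9 LD2_c55 LD3_c31)) = v41260 :=
  Lgr Lrot38 (Lpr_dt (f922952 IH) (Lpn v41260))
theorem f371648 : Led Lsl_ft (LP (LK LD1_c9 LD2_c55 LD3_c31)) = (LP (LK LD1_c18 LD2_c10 LD3_c12)) :=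
  Lre_f IH (LK LD1_c9 LD2_c55 LD3_c31) (LK LD1_c18 LD2_c10 LD3_c12) Lrfl Lrfl
theorem f926940 : Led Lsl_dt (LP (LK LD1_c18 LD2_c10 LD3_c12)) = v41591 :=
  Lgr Lrot60 (Lpe (f371648 IH) (Lpr_df (f922954 IH) (Lpr_ff (f926939 IH) (Lpn v41591))))
theorem f266190 : Led Lsl_et (LP (LK LD1_c17 LD2_c47 LD3_c15)) = (LP (LK LD1_c27 LD2_c34 LD3_c15)) :=
  Lre_e IH (LK LD1_c17 LD2_c47 LD3_c15) (LK LD1_c27 LD2_c34 LD3_c15) Lrfl Lrfl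
theorem f354755 : Led Lsl_ct (LP (LK LD1_c27 LD2_c34 LD3_c15)) = (LP (LK LD1_c18 LD2_c49 LD3_c42)) :=
  Lgr Lrot15 (Lpe (f266190 IH) (Lpr_cf (K26.f354738 IH) (Lpe (K30.f302900 IH) (Lpn (LP (LK LD1_c18 LD2_c49 LD3_c42))))))
theorem f371323 : Led Lsl_gf (LP (LK LD1_c18 LD2_c38 LD3_c34)) = (LP (LK LD1_c27 LD2_c34 LD3_c15)) :=
  Lgr Lrot144 (Lpe (K22.f335160 IH) (Lpr_gt (K22.f283925 IH) (Lpr_dt (K18.f294141 IH) (Lpe (K20.f294212 IH) (Lpr_df (K18.f294216 IH) (Lpe (K30.f339978 IH) (Lpe (K30.f339983 IH) (Lpr_gf (K30.f371321 IH) (Lpe (f354755 IH) (Lpn (LP (LK LD1_c27 LD2_c34 LD3_c15))))))))))))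
theorem f250239 : Led Lsl_ct (LP (LK LD1_c5 LD2_c3 LD3_c41)) = (LP (LK LD1_c9 LD2_c58 LD3_c12)) :=
  Lre_c IH (LK LD1_c5 LD2_c3 LD3_c41) (LK LD1_c9 LD2_c58 LD3_c12) Lrfl Lrfl
theorem f354757 : Led Lsl_cf (LP (LK LD1_c27 LD2_c34 LD3_c15)) = (LP (LK LD1_c18 LD2_c49 LD3_c42)) :=
  Lgr Lrot11 (Lpr_ct (f354755 IH) (Lpn (LP (LK LD1_c18 LD2_c49 LD3_c42))))
theorem f258083 : Led Lsl_bt (LP (LK LD1_c18 LD2_c49 LD3_c42)) = (LP (LK LD1_c10 LD2_c22 LD3_c33)) :=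
  Lre_b IH (LK LD1_c18 LD2_c49 LD3_c42) (LK LD1_c10 LD2_c22 LD3_c33) Lrfl Lrfl
theorem f345975 : Led Lsl_bt (LP (LK LD1_c2 LD2_c42 LD3_c12)) = (LP (LK LD1_c5 LD2_c32 LD3_c0)) :=
  Lre_b IH (LK LD1_c2 LD2_c42 LD3_c12) (LK LD1_c5 LD2_c32 LD3_c0) Lrfl Lrfl
theorem f304411 : Led Lsl_ct (LP (LK LD1_c2 LD2_c42 LD3_c12)) = (LP (LK LD1_c5 LD2_c32 LD3_c2)) :=
  Lre_c IH (LK LD1_c2 LD2_c42 LD3_c12) (LK LD1_c5 LD2_c32 LD3_c2) Lrfl Lrfl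
theorem f371625 : Led Lsl_gt (LP (LK LD1_c9 LD2_c58 LD3_c12)) = (LP (LK LD1_c5 LD2_c32 LD3_c2)) :=
  Lgr Lrot149 (Lpe (f250239 IH) (Lpe (K19.f307003 IH) (Lpe (K19.f171290 IH) (Lpr_ct (K46.f307006 IH) (Lpr_gf (f371323 IH) (Lpr_cf (f354757 IH) (Lpr_bt (f258083 IH) (Lpr_gf (K35.f345982 IH) (Lpe (f345975 IH) (Lpr_ct (f304411 IH) (Lpn (LP (LK LD1_c5 LD2_c32 LD3_c2)))))))))))))
theorem f250235 : Led Lsl_ct (LP (LK LD1_c9 LD2_c58 LD3_c12)) = (LP (LK LD1_c5 LD2_c3 LD3_c41)) :=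
  Lre_c IH (LK LD1_c9 LD2_c58 LD3_c12) (LK LD1_c5 LD2_c3 LD3_c41) Lrfl Lrfl
theorem f237030 : Led Lsl_ct (LP (LK LD1_c8 LD2_c8 LD3_c28)) = (LP (LK LD1_c15 LD2_c19 LD3_c49)) :=
  Lre_c IH (LK LD1_c8 LD2_c8 LD3_c28) (LK LD1_c15 LD2_c19 LD3_c49) Lrfl Lrfl
theorem f323766 : Led Lsl_ct (LP (LK LD1_c18 LD2_c28 LD3_c34)) = (LP (LK LD1_c10 LD2_c8 LD3_c35)) :=
  Lre_c IH (LK LD1_c18 LD2_c28 LD3_c34) (LK LD1_c10 LD2_c8 LD3_c35) Lrfl Lrfl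
theorem f341983 : Led Lsl_gf (LP (LK LD1_c18 LD2_c28 LD3_c34)) = (LP (LK LD1_c15 LD2_c19 LD3_c49)) :=
  Lgr Lrot104 (Lpr_ct (f323766 IH) (Lpe (K21.f323767 IH) (Lpe (K23.f323760 IH) (Lpe (K23.f328718 IH) (Lpe (K26.f314295 IH) (Lpe (K23.f341907 IH) (Lpe (K23.f341935 IH) (Lpr_gt (K26.f341981 IH) (Lpr_ct (f237030 IH) (Lpn (LP (LK LD1_c15 LD2_c19 LD3_c49))))))))))))
theorem f323769 : Led Lsl_ct (LP (LK LD1_c10 LD2_c8 LD3_c35)) = (LP (LK LD1_c18 LD2_c28 LD3_c34)) :=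
  Lre_c IH (LK LD1_c10 LD2_c8 LD3_c35) (LK LD1_c18 LD2_c28 LD3_c34) Lrfl Lrfl
theorem f326908 : Led Lsl_bt (LP (LK LD1_c10 LD2_c8 LD3_c35)) = (LP (LK LD1_c5 LD2_c10 LD3_c51)) :=
  Lgr Lrot127 (Lpr_bf (K21.f326906 IH) (Lpn (LP (LK LD1_c5 LD2_c10 LD3_c51))))
theorem f362917 : Led Lsl_gt (LP (LK LD1_c5 LD2_c10 LD3_c51)) = (LP (LK LD1_c4 LD2_c55 LD3_c58)) :=
  Lgr Lrot164 (Lpe (f326908 IH) (Lpr_ct (f323769 IH) (Lpr_gf (f341983 IH) (Lpe (f237030 IH) (Lpe (K26.f341981 IH) (Lpr_bf (K24.f341947 IH) (Lpr_ct (K26.f362915 IH) (Lpe (K54.f362911 IH) (Lpe (K49.f330523 IH) (Lpr_bt (K49.f355140 IH) (Lpn (LP (LK LD1_c4 LD2_c55 LD3_c58)))))))))))))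
theorem f370963 : Led Lsl_gf (LP (LK LD1_c4 LD2_c56 LD3_c30)) = (LP (LK LD1_c8 LD2_c11 LD3_c59)) :=
  Lgr Lrot145 (Lpr_df (K49.f326903 IH) (Lpr_et (K21.f326905 IH) (Lpr_gt (f362917 IH) (Lpr_dt (K46.f181897 IH) (Lpe (K49.f363069 IH) (Lpe (K26.f314351 IH) (Lpr_et (K49.f335011 IH) (Lpr_gt (K44.f370519 IH) (Lpe (K23.f342427 IH) (Lpr_dt (K23.f226072 IH) (Lpn (LP (LK LD1_c8 LD2_c11 LD3_c59)))))))))))))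
theorem f314319 : Led Lsl_ef (LP (LK LD1_c5 LD2_c2 LD3_c24)) = (LP (LK LD1_c2 LD2_c29 LD3_c8)) :=
  Lgr Lrot29 (Lpe (K22.f314171 IH) (Lpr_et (K19.f311553 IH) (Lpr_bt (K19.f314277 IH) (Lpn (LP (LK LD1_c2 LD2_c29 LD3_c8))))))
theorem f370967 : Led Lsl_gt (LP (LK LD1_c3 LD2_c58 LD3_c38)) = (LP (LK LD1_c2 LD2_c25 LD3_c48)) :=
  Lgr Lrot112 (Lpe (K46.f171287 IH) (Lpr_et (K46.f355141 IH) (Lpe (f362917 IH) (Lpe (K21.f326905 IH) (Lpe (K49.f326903 IH) (Lpr_gf (f370963 IH) (Lpe (K23.f226072 IH) (Lpe (K23.f334995 IH) (Lpr_ef (f314319 IH) (Lpe (K20.f314317 IH) (Lpn (LP (LK LD1_c2 LD2_c25 LD3_c48)))))))))))))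
theorem f314325 : Led Lsl_dt (LP (LK LD1_c2 LD2_c25 LD3_c48)) = (LP (LK LD1_c2 LD2_c29 LD3_c8)) :=
  Lgr Lrot60 (Lpe (K20.f168755 IH) (Lpe (K13.f168762 IH) (Lpr_ff (K19.f314321 IH) (Lpn (LP (LK LD1_c2 LD2_c29 LD3_c8))))))
theorem f319992 : Led Lsl_dt (LP (LK LD1_c5 LD2_c32 LD3_c2)) = (LP (LK LD1_c10 LD2_c55 LD3_c42)) :=
  Lre_d IH (LK LD1_c5 LD2_c32 LD3_c2) (LK LD1_c10 LD2_c55 LD3_c42) Lrfl Lrfl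
theorem f371627 : Led Lsl_gf (LP (LK LD1_c9 LD2_c57 LD3_c20)) = (LP (LK LD1_c10 LD2_c55 LD3_c42)) :=
  Lgr Lrot143 (Lpr_dt (K20.f276109 IH) (Lpe (K20.f276107 IH) (Lpe (f314325 IH) (Lpe (f370967 IH) (Lpe (K46.f171287 IH) (Lpr_gf (K49.f370961 IH) (Lpe (f250235 IH) (Lpr_gt (f371625 IH) (Lpr_dt (f319992 IH) (Lpn (LP (LK LD1_c10 LD2_c55 LD3_c42))))))))))))
theorem f304412 : Led Lsl_dt (LP (LK LD1_c10 LD2_c55 LD3_c42)) = (LP (LK LD1_c5 LD2_c32 LD3_c2)) :=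
  Lre_d IH (LK LD1_c10 LD2_c55 LD3_c42) (LK LD1_c5 LD2_c32 LD3_c2) Lrfl Lrfl
theorem f319986 : Led Lsl_gf (LP (LK LD1_c10 LD2_c55 LD3_c42)) = (LP (LK LD1_c9 LD2_c55 LD3_c45)) :=
  Lgr Lrot143 (Lpr_dt (f304412 IH) (Lpe (f304411 IH) (Lpe (K35.f178875 IH) (Lpe (K27.f178874 IH) (Lpe (K15.f175266 IH) (Lpr_gf (K18.f304409 IH) (Lpe (K18.f288627 IH) (Lpr_gt (K20.f319984 IH) (Lpr_dt (K71.f169600 IH) (Lpn (LP (LK LD1_c9 LD2_c55 LD3_c45))))))))))))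
theorem f249993 : Led Lsl_dt (LP (LK LD1_c10 LD2_c11 LD3_c29)) = (LP (LK LD1_c5 LD2_c10 LD3_c23)) :=
  Lre_d IH (LK LD1_c10 LD2_c11 LD3_c29) (LK LD1_c5 LD2_c10 LD3_c23) Lrfl Lrfl
theorem f335057 : Led Lsl_ff (LP (LK LD1_c10 LD2_c11 LD3_c29)) = (LP (LK LD1_c9 LD2_c55 LD3_c45)) :=
  Lgr Lrot19 (Lpr_dt (f249993 IH) (Lpr_ft (K22.f335051 IH) (Lpr_dt (K71.f169600 IH) (Lpn (LP (LK LD1_c9 LD2_c55 LD3_c45))))))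
theorem f371630 : Led Lsl_af (LP (LK LD1_c9 LD2_c57 LD3_c20)) = (LP (LK LD1_c10 LD2_c11 LD3_c29)) :=
  Lgr Lrot31 (Lpr_gf (f371627 IH) (Lpr_gf (f319986 IH) (Lpe (f335057 IH) (Lpn (LP (LK LD1_c10 LD2_c11 LD3_c29))))))
theorem f371632 : Led Lsl_at (LP (LK LD1_c9 LD2_c57 LD3_c20)) = (LP (LK LD1_c10 LD2_c11 LD3_c29)) :=
  Lgr Lrot100 (Lpr_af (f371630 IH) (Lpn (LP (LK LD1_c10 LD2_c11 LD3_c29))))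
theorem f371634 : Led Lsl_af (LP (LK LD1_c5 LD2_c3 LD3_c13)) = (LP (LK LD1_c5 LD2_c10 LD3_c23)) :=
  Lgr Lrot117 (Lpr_dt (K20.f276108 IH) (Lpr_at (f371632 IH) (Lpr_dt (f249993 IH) (Lpn (LP (LK LD1_c5 LD2_c10 LD3_c23))))))
theorem f334999 : Led Lsl_ct (LP (LK LD1_c10 LD2_c10 LD3_c28)) = (LP (LK LD1_c5 LD2_c9 LD3_c52)) :=
  Lre_c IH (LK LD1_c10 LD2_c10 LD3_c28) (LK LD1_c5 LD2_c9 LD3_c52) Lrfl Lrfl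
theorem f335000 : Led Lsl_at (LP (LK LD1_c9 LD2_c55 LD3_c36)) = (LP (LK LD1_c10 LD2_c10 LD3_c28)) :=
  Lgr Lrot107 (Lpe (K22.f177575 IH) (Lpr_af (K22.f334993 IH) (Lpe (f334999 IH) (Lpn (LP (LK LD1_c10 LD2_c10 LD3_c28))))))
theorem f371642 : Led Lsl_et (LP (LK LD1_c5 LD2_c3 LD3_c13)) = (LP (LK LD1_c9 LD2_c55 LD3_c36)) :=
  Lgr Lrot123 (Lpr_af (f371634 IH) (Lpr_ef (K22.f335059 IH) (Lpe (f335000 IH) (Lpn (LP (LK LD1_c9 LD2_c55 LD3_c36))))))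
theorem f306427 : Led Lsl_bt (LP (LK LD1_c9 LD2_c57 LD3_c19)) = (LP (LK LD1_c5 LD2_c3 LD3_c13)) :=
  Lre_b IH (LK LD1_c9 LD2_c57 LD3_c19) (LK LD1_c5 LD2_c3 LD3_c13) Lrfl Lrfl
theorem f177581 : Led Lsl_bt (LP (LK LD1_c9 LD2_c55 LD3_c36)) = (LP (LK LD1_c18 LD2_c10 LD3_c12)) :=
  Lre_b IH (LK LD1_c9 LD2_c55 LD3_c36) (LK LD1_c18 LD2_c10 LD3_c12) Lrfl Lrfl
theorem f371644 : Led Lsl_ef (LP (LK LD1_c9 LD2_c57 LD3_c19)) = (LP (LK LD1_c18 LD2_c10 LD3_c12)) :=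
  Lgr Lrot29 (Lpr_bt (f306427 IH) (Lpr_et (f371642 IH) (Lpr_bt (f177581 IH) (Lpn (LP (LK LD1_c18 LD2_c10 LD3_c12))))))
def v41424 : LQ := Led Lsl_gf (LP (LK LD1_c9 LD2_c57 LD3_c19))
theorem f925892 : Led Lsl_gf (LP (LK LD1_c9 LD2_c57 LD3_c19)) = v41424 :=
  Lrfl
def v41425 : LQ := Led Lsl_at (LP (LK LD1_c9 LD2_c57 LD3_c19))
theorem f925893 : Led Lsl_at (LP (LK LD1_c9 LD2_c57 LD3_c19)) = v41425 :=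
  Lrfl
theorem f319978 : Led Lsl_ff (LP (LK LD1_c9 LD2_c57 LD3_c19)) = (LP (LK LD1_c9 LD2_c43 LD3_c39)) :=
  Lgr Lrot25 (Lpr_bt (f306427 IH) (Lpr_ft (K20.f319976 IH) (Lpr_bt (K44.f181921 IH) (Lpn (LP (LK LD1_c9 LD2_c43 LD3_c39))))))
def v40573 : LQ := Led Lsl_at (LP (LK LD1_c9 LD2_c43 LD3_c39))
theorem f917988 : Led Lsl_at (LP (LK LD1_c9 LD2_c43 LD3_c39)) = v40573 :=
  Lrfl
theorem f917989 : Led Lsl_af (LP (LK LD1_c9 LD2_c43 LD3_c39)) = v40573 :=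
  Lgr Lrot0 (Lpr_at (f917988 IH) (Lpn v40573))
theorem f925896 : Led Lsl_ff v40573 = v41425 :=
  Lgr Lrot30 (Lpe (f917989 IH) (Lpe (f319978 IH) (Lpr_at (f925893 IH) (Lpn v41425))))
theorem f925899 : Led Lsl_ft v40573 = v41425 :=
  Lgr Lrot48 (Lpr_ff (f925896 IH) (Lpn v41425))
def v41276 : LQ := Led Lsl_et (LP (LK LD1_c9 LD2_c55 LD3_c41))
theorem f923057 : Led Lsl_et (LP (LK LD1_c9 LD2_c55 LD3_c41)) = v41276 :=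
  Lrfl
theorem f923029 : Led Lsl_dt (LP (LK LD1_c9 LD2_c55 LD3_c41)) = K71.v14609 :=
  Lgr Lrot42 (Lpr_df (K71.f923028 IH) (Lpn K71.v14609))
theorem f21376 : Led Lsl_bt (LP (LK LD1_c0 LD2_c33 LD3_c15)) = (LP (LK LD1_c1 LD2_c11 LD3_c52)) :=
  Lre_b IH (LK LD1_c0 LD2_c33 LD3_c15) (LK LD1_c1 LD2_c11 LD3_c52) Lrfl Lrfl
theorem f21377 : Led Lsl_ef (LP (LK LD1_c1 LD2_c13 LD3_c17)) = (LP (LK LD1_c1 LD2_c11 LD3_c52)) :=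
  Lgr Lrot29 (Lpr_bt (K44.f21375 IH) (Lpr_et (K0.f21371 IH) (Lpr_bt (f21376 IH) (Lpn (LP (LK LD1_c1 LD2_c11 LD3_c52))))))
theorem f21953 : Led Lsl_dt (LP (LK LD1_c2 LD2_c32 LD3_c41)) = (LP (LK LD1_c5 LD2_c11 LD3_c32)) :=
  Lre_d IH (LK LD1_c2 LD2_c32 LD3_c41) (LK LD1_c5 LD2_c11 LD3_c32) Lrfl Lrfl
theorem f21954 : Led Lsl_gt (LP (LK LD1_c5 LD2_c11 LD3_c32)) = (LP (LK LD1_c10 LD2_c13 LD3_c43)) :=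
  Lre_g IH (LK LD1_c5 LD2_c11 LD3_c32) (LK LD1_c10 LD2_c13 LD3_c43) Lrfl Lrfl
theorem f169660 : Led Lsl_dt (LP (LK LD1_c5 LD2_c2 LD3_c19)) = (LP (LK LD1_c9 LD2_c55 LD3_c30)) :=
  Lre_d IH (LK LD1_c5 LD2_c2 LD3_c19) (LK LD1_c9 LD2_c55 LD3_c30) Lrfl Lrfl
theorem f165713 : Led Lsl_bt (LP (LK LD1_c5 LD2_c4 LD3_c7)) = (LP (LK LD1_c9 LD2_c59 LD3_c4)) :=
  Lre_b IH (LK LD1_c5 LD2_c4 LD3_c7) (LK LD1_c9 LD2_c59 LD3_c4) Lrfl Lrfl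
theorem f240466 : Led Lsl_df (LP (LK LD1_c5 LD2_c9 LD3_c53)) = (LP (LK LD1_c9 LD2_c59 LD3_c4)) :=
  Lgr Lrot12 (Lpr_bt (K44.f181922 IH) (Lpr_dt (K20.f240455 IH) (Lpr_bt (f165713 IH) (Lpn (LP (LK LD1_c9 LD2_c59 LD3_c4))))))
theorem f403029 : Led Lsl_ft (LP (LK LD1_c9 LD2_c55 LD3_c30)) = (LP (LK LD1_c9 LD2_c59 LD3_c4)) :=
  Lgr Lrot54 (Lpe (f169660 IH) (Lpr_ff (K71.f313918 IH) (Lpr_df (f240466 IH) (Lpn (LP (LK LD1_c9 LD2_c59 LD3_c4))))))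
theorem f612387 : Led Lsl_af (LP (LK LD1_c10 LD2_c13 LD3_c43)) = (LP (LK LD1_c9 LD2_c59 LD3_c4)) :=
  Lgr Lrot31 (Lpe (f21954 IH) (Lpr_gf (f612380 IH) (Lpr_ft (f403029 IH) (Lpn (LP (LK LD1_c9 LD2_c59 LD3_c4))))))
theorem f240481 : Led Lsl_dt (LP (LK LD1_c5 LD2_c9 LD3_c53)) = (LP (LK LD1_c9 LD2_c59 LD3_c4)) :=
  Lgr Lrot42 (Lpr_df (f240466 IH) (Lpn (LP (LK LD1_c9 LD2_c59 LD3_c4))))
theorem f181933 : Led Lsl_at (LP (LK LD1_c10 LD2_c10 LD3_c32)) = (LP (LK LD1_c5 LD2_c9 LD3_c53)) :=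
  Lre_a IH (LK LD1_c10 LD2_c10 LD3_c32) (LK LD1_c5 LD2_c9 LD3_c53) Lrfl Lrfl
theorem f612402 : Led Lsl_dt (LP (LK LD1_c10 LD2_c13 LD3_c43)) = (LP (LK LD1_c10 LD2_c10 LD3_c32)) :=
  Lgr Lrot44 (Lpr_af (f612387 IH) (Lpe (f240481 IH) (Lpe (f181933 IH) (Lpn (LP (LK LD1_c10 LD2_c10 LD3_c32))))))
theorem f612404 : Led Lsl_df (LP (LK LD1_c10 LD2_c13 LD3_c43)) = (LP (LK LD1_c10 LD2_c10 LD3_c32)) :=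
  Lgr Lrot38 (Lpr_dt (f612402 IH) (Lpn (LP (LK LD1_c10 LD2_c10 LD3_c32))))
theorem f917991 : Led Lsl_ef (LP (LK LD1_c10 LD2_c10 LD3_c32)) = v40573 :=
  Lgr Lrot20 (Lpr_at (f181933 IH) (Lpe (K44.f181928 IH) (Lpr_at (f917988 IH) (Lpn v40573))))
theorem f917993 : Led Lsl_et (LP (LK LD1_c10 LD2_c10 LD3_c32)) = v40573 :=
  Lgr Lrot87 (Lpr_ef (f917991 IH) (Lpn v40573))
theorem f923256 : Led Lsl_gf v41276 = v40573 :=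
  Lgr Lrot141 (Lpe (f923057 IH) (Lpr_dt (f923029 IH) (Lpq (K71.f923248 IH) (Lpr_gt (K71.f21469 IH) (Lpe (K0.f21455 IH) (Lpe (f21377 IH) (Lpr_gt (K44.f21952 IH) (Lpr_dt (f21953 IH) (Lpr_gt (f21954 IH) (Lpr_df (f612404 IH) (Lpr_et (f917993 IH) (Lpn v40573))))))))))))
theorem f925894 : Led Lsl_af (LP (LK LD1_c9 LD2_c57 LD3_c19)) = v41425 :=
  Lgr Lrot0 (Lpr_at (f925893 IH) (Lpn v41425))
theorem f925901 : v41276 = v41424 :=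
  (Llr Lrot5 (Lpr_gf (f923256 IH) (Lpr_ft (f925899 IH) (Lpe (f925894 IH) (Lpr_gf (f925892 IH) (Lpn v41424)))))).symm
theorem f21496 : Led Lsl_et (LP (LK LD1_c5 LD2_c4 LD3_c26)) = (LP (LK LD1_c2 LD2_c29 LD3_c35)) :=
  Lre_e IH (LK LD1_c5 LD2_c4 LD3_c26) (LK LD1_c2 LD2_c29 LD3_c35) Lrfl Lrfl
theorem f21497 : Led Lsl_dt (LP (LK LD1_c5 LD2_c4 LD3_c26)) = (LP (LK LD1_c9 LD2_c59 LD3_c55)) :=
  Lre_d IH (LK LD1_c5 LD2_c4 LD3_c26) (LK LD1_c9 LD2_c59 LD3_c55) Lrfl Lrfl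
theorem f926942 : Led Lsl_gf (LP (LK LD1_c9 LD2_c59 LD3_c55)) = v41591 :=
  Lgr Lrot145 (Lpe (f21497 IH) (Lpr_et (f21496 IH) (Lpr_gt (K53.f21899 IH) (Lpr_dt (K45.f164021 IH) (Lpe (K71.f164024 IH) (Lpqs (K71.f923248 IH) (Lpe (f923029 IH) (Lpr_et (f923057 IH) (Lpqs (f925901 IH) (Lpe (f925892 IH) (Lpr_ef (f371644 IH) (Lpr_dt (f926940 IH) (Lpn v41591)))))))))))))
theorem f21498 : Led Lsl_gt (LP (LK LD1_c9 LD2_c59 LD3_c55)) = (LP (LK LD1_c18 LD2_c16 LD3_c45)) :=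
  Lre_g IH (LK LD1_c9 LD2_c59 LD3_c55) (LK LD1_c18 LD2_c16 LD3_c45) Lrfl Lrfl
theorem f926944 : Led Lsl_af (LP (LK LD1_c18 LD2_c16 LD3_c45)) = v41260 :=
  Lgr Lrot31 (Lpe (f21498 IH) (Lpr_gf (f926942 IH) (Lpe (f926939 IH) (Lpn v41260))))
theorem f345168 : Led Lsl_at (LP (LK LD1_c18 LD2_c10 LD3_c9)) = (LP (LK LD1_c9 LD2_c55 LD3_c31)) :=
  Lre_a IH (LK LD1_c18 LD2_c10 LD3_c9) (LK LD1_c9 LD2_c55 LD3_c31) Lrfl Lrfl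
theorem f926949 : Led Lsl_dt (LP (LK LD1_c18 LD2_c16 LD3_c45)) = (LP (LK LD1_c18 LD2_c10 LD3_c9)) :=
  Lgr Lrot44 (Lpr_af (f926944 IH) (Lpe (f922952 IH) (Lpe (f345168 IH) (Lpn (LP (LK LD1_c18 LD2_c10 LD3_c9))))))
theorem f926950 : Led Lsl_dt (LP (LK LD1_c18 LD2_c16 LD3_c45)) = (LP (LK LD1_c18 LD2_c10 LD3_c9)) :=
  Leop (Lpe (f926949 IH) (Lpn (LP (LK LD1_c18 LD2_c16 LD3_c45))))
theorem seed_2528 : LEOK LG_d (LK LD1_c18 LD2_c16 LD3_c45) :=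
  Leoe_d (LK LD1_c18 LD2_c16 LD3_c45) (f926950 IH)
theorem f926951 : Led Lsl_df (LP (LK LD1_c18 LD2_c16 LD3_c45)) = (LP (LK LD1_c18 LD2_c10 LD3_c9)) :=
  Lgr Lrot38 (Lpr_dt (f926949 IH) (Lpn (LP (LK LD1_c18 LD2_c10 LD3_c9))))
theorem f21489 : Led Lsl_dt (LP (LK LD1_c1 LD2_c13 LD3_c17)) = (LP (LK LD1_c2 LD2_c32 LD3_c44)) :=
  Lre_d IH (LK LD1_c1 LD2_c13 LD3_c17) (LK LD1_c2 LD2_c32 LD3_c44) Lrfl Lrfl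
theorem f21494 : Led Lsl_gt (LP (LK LD1_c5 LD2_c11 LD3_c41)) = (LP (LK LD1_c2 LD2_c32 LD3_c44)) :=
  Lre_g IH (LK LD1_c5 LD2_c11 LD3_c41) (LK LD1_c2 LD2_c32 LD3_c44) Lrfl Lrfl
def v14504 : LQ := Led Lsl_dt (LP (LK LD1_c5 LD2_c11 LD3_c41))
theorem f722905 : Led Lsl_dt (LP (LK LD1_c5 LD2_c11 LD3_c41)) = v14504 :=
  Lrfl
theorem f722906 : Led Lsl_df (LP (LK LD1_c5 LD2_c11 LD3_c41)) = v14504 :=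
  Lgr Lrot38 (Lpr_dt (f722905 IH) (Lpn v14504))
theorem f342092 : Led Lsl_et (LP (LK LD1_c18 LD2_c10 LD3_c9)) = (LP (LK LD1_c9 LD2_c55 LD3_c29)) :=
  Lre_e IH (LK LD1_c18 LD2_c10 LD3_c9) (LK LD1_c9 LD2_c55 LD3_c29) Lrfl Lrfl
theorem f342090 : Led Lsl_ff (LP (LK LD1_c10 LD2_c10 LD3_c32)) = (LP (LK LD1_c9 LD2_c55 LD3_c29)) :=
  Lgr Lrot3 (Lpr_ft (K44.f342086 IH) (Lpn (LP (LK LD1_c9 LD2_c55 LD3_c29))))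
theorem f181930 : Led Lsl_gt (LP (LK LD1_c10 LD2_c10 LD3_c31)) = (LP (LK LD1_c5 LD2_c9 LD3_c53)) :=
  Lre_g IH (LK LD1_c10 LD2_c10 LD3_c31) (LK LD1_c5 LD2_c9 LD3_c53) Lrfl Lrfl
theorem f342093 : Led Lsl_gf (LP (LK LD1_c10 LD2_c10 LD3_c31)) = (LP (LK LD1_c9 LD2_c55 LD3_c29)) :=
  Lgr Lrot47 (Lpr_gt (f181930 IH) (Lpe (f181933 IH) (Lpr_ff (f342090 IH) (Lpn (LP (LK LD1_c9 LD2_c55 LD3_c29))))))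
theorem f926953 : v14504 = (LP (LK LD1_c10 LD2_c10 LD3_c31)) :=
  (Llr Lrot135 (Lpe (f722906 IH) (Lpr_gt (f21494 IH) (Lpe (f21489 IH) (Lpr_et (K0.f21456 IH) (Lpr_gt (K71.f21495 IH) (Lpe (f21496 IH) (Lpr_dt (f21497 IH) (Lpr_gt (f21498 IH) (Lpr_df (f926951 IH) (Lpr_et (f342092 IH) (Lpe (f342093 IH) (Lpn (LP (LK LD1_c10 LD2_c10 LD3_c31))))))))))))))).symm
theorem f164453 : Led Lsl_ft (LP (LK LD1_c5 LD2_c8 LD3_c19)) = (LP (LK LD1_c5 LD2_c11 LD3_c39)) :=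
  Lgr Lrot48 (Lpr_ff (K10.f164442 IH) (Lpn (LP (LK LD1_c5 LD2_c11 LD3_c39))))
theorem f164609 : Led Lsl_gt (LP (LK LD1_c5 LD2_c8 LD3_c19)) = (LP (LK LD1_c5 LD2_c11 LD3_c41)) :=
  Lgr Lrot5 (Lpr_ft (f164453 IH) (Lpr_at (K10.f163799 IH) (Lpe (f21494 IH) (Lpn (LP (LK LD1_c5 LD2_c11 LD3_c41))))))
theorem f164440 : Led Lsl_df (LP (LK LD1_c5 LD2_c8 LD3_c19)) = (LP (LK LD1_c5 LD2_c11 LD3_c28)) :=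
  Lgr Lrot12 (Lpr_bt (K10.f164434 IH) (Lpe (K45.f164035 IH) (Lpr_bt (K44.f163756 IH) (Lpn (LP (LK LD1_c5 LD2_c11 LD3_c28))))))
theorem f21566 : Led Lsl_gt (LP (LK LD1_c2 LD2_c32 LD3_c41)) = (LP (LK LD1_c5 LD2_c11 LD3_c28)) :=
  Lre_g IH (LK LD1_c2 LD2_c32 LD3_c41) (LK LD1_c5 LD2_c11 LD3_c28) Lrfl Lrfl
theorem f164612 : Led Lsl_gt (LP (LK LD1_c5 LD2_c11 LD3_c31)) = (LP (LK LD1_c10 LD2_c13 LD3_c37)) :=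
  Lre_g IH (LK LD1_c5 LD2_c11 LD3_c31) (LK LD1_c10 LD2_c13 LD3_c37) Lrfl Lrfl
theorem f164613 : Led Lsl_dt (LP (LK LD1_c10 LD2_c13 LD3_c37)) = (LP (LK LD1_c18 LD2_c36 LD3_c55)) :=
  Lre_d IH (LK LD1_c10 LD2_c13 LD3_c37) (LK LD1_c18 LD2_c36 LD3_c55) Lrfl Lrfl
theorem f46690 : Led Lsl_bt (LP (LK LD1_c4 LD2_c4 LD3_c57)) = (LP (LK LD1_c8 LD2_c10 LD3_c40)) :=
  Lre_b IH (LK LD1_c4 LD2_c4 LD3_c57) (LK LD1_c8 LD2_c10 LD3_c40) Lrfl Lrfl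
theorem f182462 : Led Lsl_gt (LP (LK LD1_c8 LD2_c10 LD3_c40)) = (LP (LK LD1_c15 LD2_c23 LD3_c53)) :=
  Lre_g IH (LK LD1_c8 LD2_c10 LD3_c40) (LK LD1_c15 LD2_c23 LD3_c53) Lrfl Lrfl
theorem f196133 : Led Lsl_bt (LP (LK LD1_c25 LD2_c16 LD3_c18)) = (LP (LK LD1_c15 LD2_c23 LD3_c53)) :=
  Lre_b IH (LK LD1_c25 LD2_c16 LD3_c18) (LK LD1_c15 LD2_c23 LD3_c53) Lrfl Lrfl
theorem f33770 : Led Lsl_bt (LP (LK LD1_c5 LD2_c9 LD3_c18)) = (LP (LK LD1_c2 LD2_c31 LD3_c47)) :=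
  Lre_b IH (LK LD1_c5 LD2_c9 LD3_c18) (LK LD1_c2 LD2_c31 LD3_c47) Lrfl Lrfl
theorem f34281 : Led Lsl_ct (LP (LK LD1_c5 LD2_c9 LD3_c18)) = (LP (LK LD1_c10 LD2_c9 LD3_c16)) :=
  Lre_c IH (LK LD1_c5 LD2_c9 LD3_c18) (LK LD1_c10 LD2_c9 LD3_c16) Lrfl Lrfl
theorem f196212 : Led Lsl_gt (LP (LK LD1_c18 LD2_c29 LD3_c49)) = (LP (LK LD1_c10 LD2_c9 LD3_c16)) :=
  Lre_g IH (LK LD1_c18 LD2_c29 LD3_c49) (LK LD1_c10 LD2_c9 LD3_c16) Lrfl Lrfl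
theorem f196213 : Led Lsl_ct (LP (LK LD1_c25 LD2_c16 LD3_c18)) = (LP (LK LD1_c18 LD2_c29 LD3_c49)) :=
  Lgr Lrot64 (Lpr_bt (f196133 IH) (Lpe (f182462 IH) (Lpe (f46690 IH) (Lpr_ct (K1.f46691 IH) (Lpe (K10.f196101 IH) (Lpr_cf (K12.f196159 IH) (Lpe (K12.f21722 IH) (Lpe (f33770 IH) (Lpr_ct (f34281 IH) (Lpe (f196212 IH) (Lpn (LP (LK LD1_c18 LD2_c29 LD3_c49)))))))))))))
theorem f33771 : Led Lsl_ct (LP (LK LD1_c10 LD2_c9 LD3_c16)) = (LP (LK LD1_c5 LD2_c9 LD3_c18)) :=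
  Lre_c IH (LK LD1_c10 LD2_c9 LD3_c16) (LK LD1_c5 LD2_c9 LD3_c18) Lrfl Lrfl
theorem f21673 : Led Lsl_dt (LP (LK LD1_c2 LD2_c31 LD3_c46)) = (LP (LK LD1_c5 LD2_c9 LD3_c18)) :=
  Lre_d IH (LK LD1_c2 LD2_c31 LD3_c46) (LK LD1_c5 LD2_c9 LD3_c18) Lrfl Lrfl
theorem f21955 : Led Lsl_gt (LP (LK LD1_c2 LD2_c32 LD3_c42)) = (LP (LK LD1_c1 LD2_c13 LD3_c17)) :=
  Lre_g IH (LK LD1_c2 LD2_c32 LD3_c42) (LK LD1_c1 LD2_c13 LD3_c17) Lrfl Lrfl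
theorem f196219 : Led Lsl_dt (LP (LK LD1_c18 LD2_c36 LD3_c55)) = (LP (LK LD1_c10 LD2_c13 LD3_c37)) :=
  Lre_d IH (LK LD1_c18 LD2_c36 LD3_c55) (LK LD1_c10 LD2_c13 LD3_c37) Lrfl Lrfl
theorem f196220 : Led Lsl_gf (LP (LK LD1_c25 LD2_c16 LD3_c18)) = (LP (LK LD1_c18 LD2_c36 LD3_c55)) :=
  Lgr Lrot147 (Lpr_ct (f196213 IH) (Lpr_gt (f196212 IH) (Lpr_ct (f33771 IH) (Lpe (f21673 IH) (Lpe (K44.f21880 IH) (Lpe (f21955 IH) (Lpe (K44.f34571 IH) (Lpe (K44.f196218 IH) (Lpe (f196219 IH) (Lpn (LP (LK LD1_c18 LD2_c36 LD3_c55))))))))))))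
theorem f240337 : Led Lsl_ct (LP (LK LD1_c18 LD2_c32 LD3_c14)) = (LP (LK LD1_c10 LD2_c10 LD3_c31)) :=
  Lre_c IH (LK LD1_c18 LD2_c32 LD3_c14) (LK LD1_c10 LD2_c10 LD3_c31) Lrfl Lrfl
theorem f926968 : Led Lsl_dt (LP (LK LD1_c25 LD2_c16 LD3_c18)) = (LP (LK LD1_c18 LD2_c32 LD3_c14)) :=
  Lgr Lrot105 (Lpr_gf (f196220 IH) (Lpe (f164613 IH) (Lpe (f164612 IH) (Lpe (K44.f164611 IH) (Lpr_gt (f21566 IH) (Lpe (f164440 IH) (Lpr_gt (f164609 IH) (Lpr_dt (f722905 IH) (Lpqs (f926953 IH) (Lpe (f240337 IH) (Lpn (LP (LK LD1_c18 LD2_c32 LD3_c14)))))))))))))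
theorem f196215 : Led Lsl_bt (LP (LK LD1_c15 LD2_c23 LD3_c53)) = (LP (LK LD1_c25 LD2_c16 LD3_c18)) :=
  Lre_b IH (LK LD1_c15 LD2_c23 LD3_c53) (LK LD1_c25 LD2_c16 LD3_c18) Lrfl Lrfl
theorem f196117 : Led Lsl_gt (LP (LK LD1_c10 LD2_c16 LD3_c4)) = (LP (LK LD1_c18 LD2_c40 LD3_c31)) :=
  Lre_g IH (LK LD1_c10 LD2_c16 LD3_c4) (LK LD1_c18 LD2_c40 LD3_c31) Lrfl Lrfl
theorem f240338 : Led Lsl_bt (LP (LK LD1_c18 LD2_c32 LD3_c14)) = (LP (LK LD1_c18 LD2_c40 LD3_c31)) :=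
  Lgr Lrot92 (Lpr_ct (f240337 IH) (Lpr_gt (f181930 IH) (Lpr_cf (K44.f240328 IH) (Lpr_bt (K71.f240245 IH) (Lpr_gt (K13.f240242 IH) (Lpr_ct (K13.f34620 IH) (Lpr_gt (K13.f196110 IH) (Lpe (K13.f196115 IH) (Lpr_bt (K18.f196116 IH) (Lpr_gt (f196117 IH) (Lpn (LP (LK LD1_c18 LD2_c40 LD3_c31)))))))))))))
theorem f926970 : Led Lsl_df (LP (LK LD1_c15 LD2_c23 LD3_c53)) = (LP (LK LD1_c18 LD2_c40 LD3_c31)) :=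
  Lgr Lrot12 (Lpr_bt (f196215 IH) (Lpr_dt (f926968 IH) (Lpr_bt (f240338 IH) (Lpn (LP (LK LD1_c18 LD2_c40 LD3_c31))))))
theorem f46651 : Led Lsl_bt (LP (LK LD1_c8 LD2_c5 LD3_c57)) = (LP (LK LD1_c4 LD2_c2 LD3_c40)) :=
  Lre_b IH (LK LD1_c8 LD2_c5 LD3_c57) (LK LD1_c4 LD2_c2 LD3_c40) Lrfl Lrfl
theorem f444517 : Led Lsl_ft (LP (LK LD1_c8 LD2_c10 LD3_c40)) = (LP (LK LD1_c8 LD2_c5 LD3_c57)) :=
  Lgr Lrot75 (Lpe (f46690 IH) (Lpr_ff (K1.f46674 IH) (Lpe (f46651 IH) (Lpn (LP (LK LD1_c8 LD2_c5 LD3_c57))))))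
theorem f444487 : Led Lsl_at (LP (LK LD1_c8 LD2_c5 LD3_c57)) = (LP (LK LD1_c15 LD2_c14 LD3_c53)) :=
  Lre_a IH (LK LD1_c8 LD2_c5 LD3_c57) (LK LD1_c15 LD2_c14 LD3_c53) Lrfl Lrfl
theorem f444522 : Led Lsl_gt (LP (LK LD1_c15 LD2_c23 LD3_c53)) = (LP (LK LD1_c15 LD2_c14 LD3_c53)) :=
  Lgr Lrot46 (Lpe (f182462 IH) (Lpr_ft (f444517 IH) (Lpr_at (f444487 IH) (Lpn (LP (LK LD1_c15 LD2_c14 LD3_c53))))))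
theorem f242375 : Led Lsl_gt (LP (LK LD1_c10 LD2_c9 LD3_c59)) = (LP (LK LD1_c18 LD2_c31 LD3_c7)) :=
  Lre_g IH (LK LD1_c10 LD2_c9 LD3_c59) (LK LD1_c18 LD2_c31 LD3_c7) Lrfl Lrfl
theorem f242376 : Led Lsl_dt (LP (LK LD1_c18 LD2_c31 LD3_c7)) = (LP (LK LD1_c28 LD2_c5 LD3_c20)) :=
  Lre_d IH (LK LD1_c18 LD2_c31 LD3_c7) (LK LD1_c28 LD2_c5 LD3_c20) Lrfl Lrfl
theorem f926977 : Led Lsl_gf (LP (LK LD1_c19 LD2_c6 LD3_c38)) = (LP (LK LD1_c28 LD2_c5 LD3_c20)) :=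
  Lgr Lrot143 (Lpr_dt (K44.f44017 IH) (Lpe (K44.f45952 IH) (Lpe (K67.f45969 IH) (Lpe (f444522 IH) (Lpr_df (f926970 IH) (Lpe (f196117 IH) (Lpr_cf (K44.f242367 IH) (Lpr_gt (f242375 IH) (Lpr_dt (f242376 IH) (Lpn (LP (LK LD1_c28 LD2_c5 LD3_c20))))))))))))
theorem f922071 : Led Lsl_dt (LP (LK LD1_c18 LD2_c13 LD3_c5)) = (LP (LK LD1_c18 LD2_c32 LD3_c57)) :=
  Lgr Lrot42 (Lpr_df (K71.f922069 IH) (Lpn (LP (LK LD1_c18 LD2_c32 LD3_c57))))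
def v41244 : LQ := Led Lsl_at (LP (LK LD1_c9 LD2_c55 LD3_c1))
theorem f922837 : Led Lsl_at (LP (LK LD1_c9 LD2_c55 LD3_c1)) = v41244 :=
  Lrfl
theorem f345862 : Led Lsl_bt (LP (LK LD1_c9 LD2_c55 LD3_c1)) = (LP (LK LD1_c5 LD2_c2 LD3_c9)) :=
  Lre_b IH (LK LD1_c9 LD2_c55 LD3_c1) (LK LD1_c5 LD2_c2 LD3_c9) Lrfl Lrfl
theorem f345863 : Led Lsl_ft (LP (LK LD1_c10 LD2_c10 LD3_c59)) = (LP (LK LD1_c9 LD2_c55 LD3_c1)) :=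
  Lgr Lrot75 (Lpe (K71.f257050 IH) (Lpr_ff (K23.f345859 IH) (Lpe (f345862 IH) (Lpn (LP (LK LD1_c9 LD2_c55 LD3_c1))))))
theorem f922840 : Led Lsl_gt (LP (LK LD1_c18 LD2_c32 LD3_c57)) = v41244 :=
  Lgr Lrot46 (Lpe (K71.f257424 IH) (Lpr_ft (f345863 IH) (Lpr_at (f922837 IH) (Lpn v41244))))
theorem f259069 : Led Lsl_bt (LP (LK LD1_c5 LD2_c2 LD3_c9)) = (LP (LK LD1_c9 LD2_c55 LD3_c1)) :=
  Lre_b IH (LK LD1_c5 LD2_c2 LD3_c9) (LK LD1_c9 LD2_c55 LD3_c1) Lrfl Lrfl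
theorem f335831 : Led Lsl_af (LP (LK LD1_c5 LD2_c2 LD3_c9)) = (LP (LK LD1_c5 LD2_c10 LD3_c8)) :=
  Lgr Lrot50 (Lpr_et (K19.f251663 IH) (Lpr_at (K22.f335824 IH) (Lpr_et (K23.f240511 IH) (Lpn (LP (LK LD1_c5 LD2_c10 LD3_c8))))))
theorem f584728 : Led Lsl_bt (LP (LK LD1_c9 LD2_c55 LD3_c5)) = (LP (LK LD1_c5 LD2_c10 LD3_c8)) :=
  Lgr Lrot127 (Lpr_bf (K44.f584726 IH) (Lpn (LP (LK LD1_c5 LD2_c10 LD3_c8))))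
theorem f345881 : Led Lsl_af (LP (LK LD1_c9 LD2_c55 LD3_c5)) = (LP (LK LD1_c9 LD2_c57 LD3_c29)) :=
  Lgr Lrot117 (Lpr_dt (K19.f165323 IH) (Lpr_at (K23.f345879 IH) (Lpr_dt (K15.f257426 IH) (Lpn (LP (LK LD1_c9 LD2_c57 LD3_c29))))))
theorem f922839 : Led Lsl_bf (LP (LK LD1_c9 LD2_c57 LD3_c29)) = v41244 :=
  Lgr Lrot81 (Lpe (f345881 IH) (Lpr_bt (f584728 IH) (Lpe (f335831 IH) (Lpr_bt (f259069 IH) (Lpr_at (f922837 IH) (Lpn v41244))))))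
theorem f922842 : Led Lsl_dt (LP (LK LD1_c10 LD2_c10 LD3_c59)) = v41244 :=
  Lgr Lrot79 (Lpe (K71.f257050 IH) (Lpr_df (K15.f257422 IH) (Lpr_bf (f922839 IH) (Lpn v41244))))
theorem f266003 : Led Lsl_et (LP (LK LD1_c10 LD2_c10 LD3_c59)) = (LP (LK LD1_c18 LD2_c32 LD3_c59)) :=
  Lre_e IH (LK LD1_c10 LD2_c10 LD3_c59) (LK LD1_c18 LD2_c32 LD3_c59) Lrfl Lrfl
theorem f926981 : Led Lsl_et (LP (LK LD1_c18 LD2_c31 LD3_c7)) = (LP (LK LD1_c28 LD2_c5 LD3_c21)) :=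
  Lre_e IH (LK LD1_c18 LD2_c31 LD3_c7) (LK LD1_c28 LD2_c5 LD3_c21) Lrfl Lrfl
theorem f926982 : Led Lsl_gt (LP (LK LD1_c18 LD2_c32 LD3_c59)) = (LP (LK LD1_c28 LD2_c5 LD3_c21)) :=
  Lgr Lrot131 (Lpe (f266003 IH) (Lpr_dt (f922842 IH) (Lpe (f922840 IH) (Lpe (f922071 IH) (Lpe (K71.f583416 IH) (Lpe (K44.f44007 IH) (Lpr_dt (K44.f44018 IH) (Lpr_gf (f926977 IH) (Lpe (f242376 IH) (Lpr_et (f926981 IH) (Lpn (LP (LK LD1_c28 LD2_c5 LD3_c21)))))))))))))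
theorem f926983 : Led Lsl_gt (LP (LK LD1_c18 LD2_c32 LD3_c59)) = (LP (LK LD1_c28 LD2_c5 LD3_c21)) :=
  Leop (Lpe (f926982 IH) (Lpn (LP (LK LD1_c18 LD2_c32 LD3_c59))))
theorem seed_2529 : LEOK LG_g (LK LD1_c18 LD2_c32 LD3_c59) :=
  Leoe_g (LK LD1_c18 LD2_c32 LD3_c59) (f926983 IH)
def v41600 : LQ := Led Lsl_dt (LP (LK LD1_c9 LD2_c59 LD3_c18))
theorem f927075 : Led Lsl_dt (LP (LK LD1_c9 LD2_c59 LD3_c18)) = v41600 :=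
  Lrfl
theorem f32727 : Led Lsl_dt (LP (LK LD1_c5 LD2_c16 LD3_c45)) = (LP (LK LD1_c2 LD2_c35 LD3_c5)) :=
  Lre_d IH (LK LD1_c5 LD2_c16 LD3_c45) (LK LD1_c2 LD2_c35 LD3_c5) Lrfl Lrfl
theorem f32657 : Led Lsl_ct (LP (LK LD1_c10 LD2_c23 LD3_c2)) = (LP (LK LD1_c5 LD2_c16 LD3_c45)) :=
  Lre_c IH (LK LD1_c10 LD2_c23 LD3_c2) (LK LD1_c5 LD2_c16 LD3_c45) Lrfl Lrfl
theorem f35132 : Led Lsl_gt (LP (LK LD1_c9 LD2_c7 LD3_c48)) = (LP (LK LD1_c17 LD2_c0 LD3_c3)) :=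
  Lre_g IH (LK LD1_c9 LD2_c7 LD3_c48) (LK LD1_c17 LD2_c0 LD3_c3) Lrfl Lrfl
theorem f35124 : Led Lsl_at (LP (LK LD1_c5 LD2_c16 LD3_c48)) = (LP (LK LD1_c10 LD2_c23 LD3_c2)) :=
  Lre_a IH (LK LD1_c5 LD2_c16 LD3_c48) (LK LD1_c10 LD2_c23 LD3_c2) Lrfl Lrfl
theorem f35133 : Led Lsl_gt (LP (LK LD1_c17 LD2_c0 LD3_c3)) = (LP (LK LD1_c10 LD2_c23 LD3_c2)) :=
  Lgr Lrot46 (Lpe (f35132 IH) (Lpr_ft (K56.f35119 IH) (Lpr_at (f35124 IH) (Lpn (LP (LK LD1_c10 LD2_c23 LD3_c2))))))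
theorem f180646 : Led Lsl_bt (LP (LK LD1_c5 LD2_c14 LD3_c43)) = (LP (LK LD1_c10 LD2_c18 LD3_c54)) :=
  Lre_b IH (LK LD1_c5 LD2_c14 LD3_c43) (LK LD1_c10 LD2_c18 LD3_c54) Lrfl Lrfl
theorem f923930 : Led Lsl_ff (LP (LK LD1_c10 LD2_c0 LD3_c10)) = (LP (LK LD1_c10 LD2_c18 LD3_c54)) :=
  Lgr Lrot25 (Lpr_bt (K10.f164072 IH) (Lpq (K71.f923238 IH) (Lpqs (K71.f923037 IH) (Lpe (K71.f724003 IH) (Lpr_bt (f180646 IH) (Lpn (LP (LK LD1_c10 LD2_c18 LD3_c54))))))))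
theorem f923934 : Led Lsl_ft (LP (LK LD1_c10 LD2_c0 LD3_c10)) = (LP (LK LD1_c10 LD2_c18 LD3_c54)) :=
  Lgr Lrot48 (Lpr_ff (f923930 IH) (Lpn (LP (LK LD1_c10 LD2_c18 LD3_c54))))
theorem f35199 : Led Lsl_gt (LP (LK LD1_c10 LD2_c23 LD3_c9)) = (LP (LK LD1_c5 LD2_c16 LD3_c48)) :=
  Lre_g IH (LK LD1_c10 LD2_c23 LD3_c9) (LK LD1_c5 LD2_c16 LD3_c48) Lrfl Lrfl
theorem f163988 : Led Lsl_bt (LP (LK LD1_c10 LD2_c18 LD3_c54)) = (LP (LK LD1_c5 LD2_c14 LD3_c43)) :=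
  Lre_b IH (LK LD1_c10 LD2_c18 LD3_c54) (LK LD1_c5 LD2_c14 LD3_c43) Lrfl Lrfl
theorem f180639 : Led Lsl_cf (LP (LK LD1_c10 LD2_c23 LD3_c9)) = (LP (LK LD1_c10 LD2_c18 LD3_c54)) :=
  Lgr Lrot160 (Lpr_gt (f35199 IH) (Lpe (K56.f35105 IH) (Lpr_bt (K10.f32606 IH) (Lpr_gt (K10.f180583 IH) (Lpe (K10.f180633 IH) (Lpr_gt (K10.f59574 IH) (Lpe (K9.f163658 IH) (Lpr_bt (K71.f163978 IH) (Lpr_gt (K45.f163981 IH) (Lpe (f163988 IH) (Lpn (LP (LK LD1_c10 LD2_c18 LD3_c54)))))))))))))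
theorem f923936 : Led Lsl_ff (LP (LK LD1_c17 LD2_c0 LD3_c4)) = (LP (LK LD1_c10 LD2_c23 LD3_c9)) :=
  Lgr Lrot23 (Lpr_ct (K71.f177222 IH) (Lpr_ft (f923934 IH) (Lpe (f180639 IH) (Lpn (LP (LK LD1_c10 LD2_c23 LD3_c9))))))
theorem f35121 : Led Lsl_gt (LP (LK LD1_c5 LD2_c16 LD3_c48)) = (LP (LK LD1_c10 LD2_c23 LD3_c8)) :=
  Lre_g IH (LK LD1_c5 LD2_c16 LD3_c48) (LK LD1_c10 LD2_c23 LD3_c8) Lrfl Lrfl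
theorem f923938 : Led Lsl_at (LP (LK LD1_c17 LD2_c0 LD3_c4)) = (LP (LK LD1_c10 LD2_c23 LD3_c8)) :=
  Lgr Lrot26 (Lpr_ff (f923936 IH) (Lpr_gt (f35199 IH) (Lpr_gt (f35121 IH) (Lpn (LP (LK LD1_c10 LD2_c23 LD3_c8))))))
theorem f923940 : Led Lsl_af (LP (LK LD1_c17 LD2_c0 LD3_c4)) = (LP (LK LD1_c10 LD2_c23 LD3_c8)) :=
  Lgr Lrot0 (Lpr_at (f923938 IH) (Lpn (LP (LK LD1_c10 LD2_c23 LD3_c8))))
theorem f923948 : Led Lsl_ft (LP (LK LD1_c17 LD2_c0 LD3_c3)) = (LP (LK LD1_c10 LD2_c23 LD3_c8)) :=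
  Lgr Lrot2 (Lpr_gt (f35133 IH) (Lpe (K10.f177230 IH) (Lpr_af (f923940 IH) (Lpn (LP (LK LD1_c10 LD2_c23 LD3_c8))))))
theorem f923952 : Led Lsl_ff (LP (LK LD1_c17 LD2_c0 LD3_c3)) = (LP (LK LD1_c10 LD2_c23 LD3_c8)) :=
  Lgr Lrot3 (Lpr_ft (f923948 IH) (Lpn (LP (LK LD1_c10 LD2_c23 LD3_c8))))
theorem f923954 : Led Lsl_at (LP (LK LD1_c17 LD2_c0 LD3_c3)) = (LP (LK LD1_c10 LD2_c23 LD3_c9)) :=
  Lgr Lrot66 (Lpr_ff (f923952 IH) (Lpe (f923938 IH) (Lpr_ff (f923936 IH) (Lpn (LP (LK LD1_c10 LD2_c23 LD3_c9))))))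
theorem f180650 : Led Lsl_ct (LP (LK LD1_c10 LD2_c23 LD3_c9)) = (LP (LK LD1_c10 LD2_c18 LD3_c54)) :=
  Lgr Lrot59 (Lpr_cf (f180639 IH) (Lpn (LP (LK LD1_c10 LD2_c18 LD3_c54))))
theorem f180654 : Led Lsl_at (LP (LK LD1_c10 LD2_c18 LD3_c54)) = (LP (LK LD1_c18 LD2_c43 LD3_c45)) :=
  Lre_a IH (LK LD1_c10 LD2_c18 LD3_c54) (LK LD1_c18 LD2_c43 LD3_c45) Lrfl Lrfl
theorem f923957 : Led Lsl_cf (LP (LK LD1_c17 LD2_c0 LD3_c3)) = (LP (LK LD1_c18 LD2_c43 LD3_c45)) :=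
  Lgr Lrot1 (Lpr_at (f923954 IH) (Lpr_ct (f180650 IH) (Lpr_at (f180654 IH) (Lpn (LP (LK LD1_c18 LD2_c43 LD3_c45))))))
theorem f927080 : Led Lsl_gf (LP (LK LD1_c18 LD2_c43 LD3_c45)) = v41600 :=
  Lgr Lrot179 (Lpe (f923957 IH) (Lpr_gt (f35133 IH) (Lpr_ct (f32657 IH) (Lpr_dt (f32727 IH) (Lpe (K17.f32730 IH) (Lpr_gf (K53.f724228 IH) (Lpe (K53.f724231 IH) (Lpe (K53.f166096 IH) (Lpr_dt (f927075 IH) (Lpn v41600))))))))))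
theorem f927079 : Led Lsl_ff (LP (LK LD1_c18 LD2_c35 LD3_c55)) = v41600 :=
  Lgr Lrot19 (Lpr_dt (K53.f230221 IH) (Lpr_ft (K53.f723341 IH) (Lpr_dt (f927075 IH) (Lpn v41600))))
theorem f723309 : Led Lsl_at (LP (LK LD1_c18 LD2_c35 LD3_c55)) = (LP (LK LD1_c18 LD2_c16 LD3_c13)) :=
  Lgr Lrot100 (Lpr_af (K53.f723295 IH) (Lpn (LP (LK LD1_c18 LD2_c16 LD3_c13))))
theorem f927084 : Led Lsl_gt (LP (LK LD1_c18 LD2_c43 LD3_c45)) = (LP (LK LD1_c18 LD2_c16 LD3_c13)) :=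
  Lgr Lrot46 (Lpr_gf (f927080 IH) (Lpe (f927079 IH) (Lpr_at (f723309 IH) (Lpn (LP (LK LD1_c18 LD2_c16 LD3_c13))))))
theorem f927085 : Led Lsl_gt (LP (LK LD1_c18 LD2_c43 LD3_c45)) = (LP (LK LD1_c18 LD2_c16 LD3_c13)) :=
  Leop (Lpe (f927084 IH) (Lpn (LP (LK LD1_c18 LD2_c43 LD3_c45))))
theorem seed_2530 : LEOK LG_g (LK LD1_c18 LD2_c43 LD3_c45) :=
  Leoe_g (LK LD1_c18 LD2_c43 LD3_c45) (f927085 IH)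
def v41608 : LQ := Led Lsl_gt (LP (LK LD1_c9 LD2_c59 LD3_c25))
theorem f927107 : Led Lsl_gt (LP (LK LD1_c9 LD2_c59 LD3_c25)) = v41608 :=
  Lrfl
theorem f212373 : Led Lsl_bt (LP (LK LD1_c10 LD2_c28 LD3_c47)) = (LP (LK LD1_c5 LD2_c19 LD3_c29)) :=
  Lre_b IH (LK LD1_c10 LD2_c28 LD3_c47) (LK LD1_c5 LD2_c19 LD3_c29) Lrfl Lrfl
theorem f300060 : Led Lsl_dt (LP (LK LD1_c17 LD2_c45 LD3_c54)) = (LP (LK LD1_c9 LD2_c39 LD3_c35)) :=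
  Lre_d IH (LK LD1_c17 LD2_c45 LD3_c54) (LK LD1_c9 LD2_c39 LD3_c35) Lrfl Lrfl
theorem f300021 : Led Lsl_dt (LP (LK LD1_c18 LD2_c30 LD3_c39)) = (LP (LK LD1_c10 LD2_c9 LD3_c40)) :=
  Lre_d IH (LK LD1_c18 LD2_c30 LD3_c39) (LK LD1_c10 LD2_c9 LD3_c40) Lrfl Lrfl
theorem f283944 : Led Lsl_gt (LP (LK LD1_c28 LD2_c4 LD3_c46)) = (LP (LK LD1_c18 LD2_c30 LD3_c39)) :=
  Lre_g IH (LK LD1_c28 LD2_c4 LD3_c46) (LK LD1_c18 LD2_c30 LD3_c39) Lrfl Lrfl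
theorem f584220 : Led Lsl_df (LP (LK LD1_c28 LD2_c4 LD3_c46)) = (LP (LK LD1_c18 LD2_c33 LD3_c58)) :=
  Lgr Lrot153 (Lpr_gt (f283944 IH) (Lpr_dt (f300021 IH) (Lpe (K18.f300018 IH) (Lpe (f300060 IH) (Lpe (K44.f583277 IH) (Lpr_df (K44.f584191 IH) (Lpe (K37.f343533 IH) (Lpr_cf (K44.f343505 IH) (Lpr_gt (K37.f249761 IH) (Lpn (LP (LK LD1_c18 LD2_c33 LD3_c58))))))))))))
theorem f584222 : Led Lsl_dt (LP (LK LD1_c28 LD2_c4 LD3_c46)) = (LP (LK LD1_c18 LD2_c33 LD3_c58)) :=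
  Lgr Lrot42 (Lpr_df (f584220 IH) (Lpn (LP (LK LD1_c18 LD2_c33 LD3_c58))))
theorem f299975 : Led Lsl_bt (LP (LK LD1_c18 LD2_c12 LD3_c7)) = (LP (LK LD1_c27 LD2_c51 LD3_c44)) :=
  Lre_b IH (LK LD1_c18 LD2_c12 LD3_c7) (LK LD1_c27 LD2_c51 LD3_c44) Lrfl Lrfl
theorem f299976 : Led Lsl_bt (LP (LK LD1_c28 LD2_c4 LD3_c44)) = (LP (LK LD1_c18 LD2_c31 LD3_c22)) :=
  Lre_b IH (LK LD1_c28 LD2_c4 LD3_c44) (LK LD1_c18 LD2_c31 LD3_c22) Lrfl Lrfl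
theorem f299977 : Led Lsl_ft (LP (LK LD1_c27 LD2_c51 LD3_c44)) = (LP (LK LD1_c28 LD2_c4 LD3_c44)) :=
  Lgr Lrot75 (Lpe (f299975 IH) (Lpr_ff (K18.f299965 IH) (Lpe (f299976 IH) (Lpn (LP (LK LD1_c28 LD2_c4 LD3_c44))))))
theorem f300044 : Led Lsl_at (LP (LK LD1_c28 LD2_c4 LD3_c44)) = (LP (LK LD1_c18 LD2_c30 LD3_c39)) :=
  Lre_a IH (LK LD1_c28 LD2_c4 LD3_c44) (LK LD1_c18 LD2_c30 LD3_c39) Lrfl Lrfl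
theorem f406728 : Led Lsl_gt (LP (LK LD1_c27 LD2_c51 LD3_c44)) = (LP (LK LD1_c28 LD2_c4 LD3_c46)) :=
  Lgr Lrot5 (Lpr_ft (f299977 IH) (Lpr_at (f300044 IH) (Lpe (f283944 IH) (Lpn (LP (LK LD1_c28 LD2_c4 LD3_c46))))))
theorem f299812 : Led Lsl_dt (LP (LK LD1_c18 LD2_c11 LD3_c23)) = (LP (LK LD1_c27 LD2_c51 LD3_c44)) :=
  Lre_d IH (LK LD1_c18 LD2_c11 LD3_c23) (LK LD1_c27 LD2_c51 LD3_c44) Lrfl Lrfl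
theorem f300025 : Led Lsl_gt (LP (LK LD1_c10 LD2_c9 LD3_c40)) = (LP (LK LD1_c18 LD2_c30 LD3_c36)) :=
  Lre_g IH (LK LD1_c10 LD2_c9 LD3_c40) (LK LD1_c18 LD2_c30 LD3_c36) Lrfl Lrfl
theorem f300026 : Led Lsl_gf (LP (LK LD1_c18 LD2_c11 LD3_c23)) = (LP (LK LD1_c18 LD2_c30 LD3_c36)) :=
  Lgr Lrot76 (Lpe (K18.f299818 IH) (Lpr_ff (K18.f300013 IH) (Lpr_gt (f300025 IH) (Lpn (LP (LK LD1_c18 LD2_c30 LD3_c36))))))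
theorem f584166 : Led Lsl_dt (LP (LK LD1_c17 LD2_c47 LD3_c29)) = (LP (LK LD1_c27 LD2_c34 LD3_c30)) :=
  Lgr Lrot42 (Lpr_df (K44.f584134 IH) (Lpn (LP (LK LD1_c27 LD2_c34 LD3_c30))))
theorem f294367 : Led Lsl_dt (LP (LK LD1_c17 LD2_c47 LD3_c32)) = (LP (LK LD1_c9 LD2_c40 LD3_c21)) :=
  Lre_d IH (LK LD1_c17 LD2_c47 LD3_c32) (LK LD1_c9 LD2_c40 LD3_c21) Lrfl Lrfl
theorem f212413 : Led Lsl_gt (LP (LK LD1_c27 LD2_c34 LD3_c37)) = (LP (LK LD1_c17 LD2_c47 LD3_c32)) :=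
  Lre_g IH (LK LD1_c27 LD2_c34 LD3_c37) (LK LD1_c17 LD2_c47 LD3_c32) Lrfl Lrfl
theorem f584224 : Led Lsl_ct (LP (LK LD1_c18 LD2_c30 LD3_c36)) = (LP (LK LD1_c27 LD2_c34 LD3_c37)) :=
  Lgr Lrot8 (Lpe (f300026 IH) (Lpr_dt (f299812 IH) (Lpr_gt (f406728 IH) (Lpr_dt (f584222 IH) (Lpr_cf (K37.f407428 IH) (Lpe (f584166 IH) (Lpe (K37.f184061 IH) (Lpe (f294367 IH) (Lpe (f212413 IH) (Lpn (LP (LK LD1_c27 LD2_c34 LD3_c37))))))))))))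
theorem f169963 : Led Lsl_bt (LP (LK LD1_c5 LD2_c2 LD3_c51)) = (LP (LK LD1_c9 LD2_c56 LD3_c29)) :=
  Lre_b IH (LK LD1_c5 LD2_c2 LD3_c51) (LK LD1_c9 LD2_c56 LD3_c29) Lrfl Lrfl
theorem f370941 : Led Lsl_gt (LP (LK LD1_c18 LD2_c11 LD3_c29)) = (LP (LK LD1_c9 LD2_c56 LD3_c29)) :=
  Lre_g IH (LK LD1_c18 LD2_c11 LD3_c29) (LK LD1_c9 LD2_c56 LD3_c29) Lrfl Lrfl
theorem f212411 : Led Lsl_ct (LP (LK LD1_c27 LD2_c34 LD3_c38)) = (LP (LK LD1_c17 LD2_c47 LD3_c32)) :=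
  Lre_c IH (LK LD1_c27 LD2_c34 LD3_c38) (LK LD1_c17 LD2_c47 LD3_c32) Lrfl Lrfl
theorem f584232 : Led Lsl_bf (LP (LK LD1_c18 LD2_c11 LD3_c29)) = (LP (LK LD1_c27 LD2_c34 LD3_c38)) :=
  Lgr Lrot156 (Lpr_gt (f370941 IH) (Lpe (f169963 IH) (Lpr_ct (K16.f169962 IH) (Lpr_gt (K16.f275265 IH) (Lpe (K17.f278617 IH) (Lpr_bt (K44.f278601 IH) (Lpr_gt (f300025 IH) (Lpr_ct (f584224 IH) (Lpr_gt (f212413 IH) (Lpe (f212411 IH) (Lpn (LP (LK LD1_c27 LD2_c34 LD3_c38)))))))))))))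
theorem f212371 : Led Lsl_bt (LP (LK LD1_c9 LD2_c40 LD3_c22)) = (LP (LK LD1_c17 LD2_c47 LD3_c32)) :=
  Lre_b IH (LK LD1_c9 LD2_c40 LD3_c22) (LK LD1_c17 LD2_c47 LD3_c32) Lrfl Lrfl
theorem f584236 : Led Lsl_ct (LP (LK LD1_c18 LD2_c11 LD3_c29)) = (LP (LK LD1_c10 LD2_c28 LD3_c47)) :=
  Lgr Lrot83 (Lpr_bf (f584232 IH) (Lpe (K44.f212372 IH) (Lpe (f212371 IH) (Lpr_cf (K15.f212350 IH) (Lpe (f212373 IH) (Lpn (LP (LK LD1_c10 LD2_c28 LD3_c47))))))))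
theorem f584261 : Led Lsl_cf (LP (LK LD1_c18 LD2_c11 LD3_c29)) = (LP (LK LD1_c10 LD2_c28 LD3_c47)) :=
  Lgr Lrot11 (Lpr_ct (f584236 IH) (Lpn (LP (LK LD1_c10 LD2_c28 LD3_c47))))
theorem f285470 : Led Lsl_at (LP (LK LD1_c18 LD2_c31 LD3_c1)) = (LP (LK LD1_c10 LD2_c9 LD3_c56)) :=
  Lre_a IH (LK LD1_c18 LD2_c31 LD3_c1) (LK LD1_c10 LD2_c9 LD3_c56) Lrfl Lrfl
theorem f370886 : Led Lsl_ff (LP (LK LD1_c18 LD2_c31 LD3_c1)) = (LP (LK LD1_c18 LD2_c11 LD3_c37)) :=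
  Lgr Lrot30 (Lpr_at (f285470 IH) (Lpr_ft (K44.f370882 IH) (Lpr_at (K44.f278364 IH) (Lpn (LP (LK LD1_c18 LD2_c11 LD3_c37))))))
theorem f215776 : Led Lsl_bt (LP (LK LD1_c9 LD2_c56 LD3_c29)) = (LP (LK LD1_c5 LD2_c2 LD3_c51)) :=
  Lre_b IH (LK LD1_c9 LD2_c56 LD3_c29) (LK LD1_c5 LD2_c2 LD3_c51) Lrfl Lrfl
theorem f369914 : Led Lsl_at (LP (LK LD1_c18 LD2_c11 LD3_c30)) = (LP (LK LD1_c9 LD2_c56 LD3_c29)) :=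
  Lre_a IH (LK LD1_c18 LD2_c11 LD3_c30) (LK LD1_c9 LD2_c56 LD3_c29) Lrfl Lrfl
theorem f285476 : Led Lsl_at (LP (LK LD1_c10 LD2_c9 LD3_c56)) = (LP (LK LD1_c18 LD2_c31 LD3_c1)) :=
  Lre_a IH (LK LD1_c10 LD2_c9 LD3_c56) (LK LD1_c18 LD2_c31 LD3_c1) Lrfl Lrfl
theorem f369915 : Led Lsl_bf (LP (LK LD1_c18 LD2_c11 LD3_c30)) = (LP (LK LD1_c18 LD2_c31 LD3_c1)) :=
  Lgr Lrot81 (Lpr_at (f369914 IH) (Lpr_bt (f215776 IH) (Lpr_at (K27.f369912 IH) (Lpr_bt (K44.f246194 IH) (Lpr_at (f285476 IH) (Lpn (LP (LK LD1_c18 LD2_c31 LD3_c1))))))))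
theorem f282180 : Led Lsl_at (LP (LK LD1_c10 LD2_c9 LD3_c48)) = (LP (LK LD1_c18 LD2_c30 LD3_c50)) :=
  Lre_a IH (LK LD1_c10 LD2_c9 LD3_c48) (LK LD1_c18 LD2_c30 LD3_c50) Lrfl Lrfl
theorem f370535 : Led Lsl_bt (LP (LK LD1_c18 LD2_c30 LD3_c50)) = (LP (LK LD1_c18 LD2_c11 LD3_c37)) :=
  Lgr Lrot62 (Lpe (f282180 IH) (Lpe (K25.f165574 IH) (Lpr_af (K44.f370532 IH) (Lpe (K44.f214945 IH) (Lpe (K44.f278332 IH) (Lpn (LP (LK LD1_c18 LD2_c11 LD3_c37))))))))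
theorem f370928 : Led Lsl_ft (LP (LK LD1_c18 LD2_c11 LD3_c30)) = (LP (LK LD1_c18 LD2_c30 LD3_c50)) :=
  Lgr Lrot75 (Lpr_bf (f369915 IH) (Lpr_ff (f370886 IH) (Lpe (f370535 IH) (Lpn (LP (LK LD1_c18 LD2_c30 LD3_c50))))))
theorem f370934 : Led Lsl_ff (LP (LK LD1_c18 LD2_c11 LD3_c30)) = (LP (LK LD1_c18 LD2_c30 LD3_c50)) :=
  Lgr Lrot3 (Lpr_ft (f370928 IH) (Lpn (LP (LK LD1_c18 LD2_c30 LD3_c50))))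
theorem f370942 : Led Lsl_gf (LP (LK LD1_c18 LD2_c11 LD3_c29)) = (LP (LK LD1_c18 LD2_c30 LD3_c50)) :=
  Lgr Lrot47 (Lpr_gt (f370941 IH) (Lpe (f369914 IH) (Lpr_ff (f370934 IH) (Lpn (LP (LK LD1_c18 LD2_c30 LD3_c50))))))
theorem f282147 : Led Lsl_at (LP (LK LD1_c18 LD2_c30 LD3_c50)) = (LP (LK LD1_c10 LD2_c9 LD3_c48)) :=
  Lre_a IH (LK LD1_c18 LD2_c30 LD3_c50) (LK LD1_c10 LD2_c9 LD3_c48) Lrfl Lrfl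
theorem f282148 : Led Lsl_at (LP (LK LD1_c10 LD2_c3 LD3_c15)) = (LP (LK LD1_c18 LD2_c21 LD3_c49)) :=
  Lre_a IH (LK LD1_c10 LD2_c3 LD3_c15) (LK LD1_c18 LD2_c21 LD3_c49) Lrfl Lrfl
theorem f282149 : Led Lsl_cf (LP (LK LD1_c18 LD2_c30 LD3_c50)) = (LP (LK LD1_c18 LD2_c21 LD3_c49)) :=
  Lgr Lrot1 (Lpr_at (f282147 IH) (Lpr_ct (K25.f282136 IH) (Lpr_at (f282148 IH) (Lpn (LP (LK LD1_c18 LD2_c21 LD3_c49))))))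
theorem f927110 : Led Lsl_bt (LP (LK LD1_c18 LD2_c21 LD3_c49)) = v41608 :=
  Lgr Lrot92 (Lpe (f282149 IH) (Lpe (f370942 IH) (Lpr_cf (f584261 IH) (Lpr_bt (f212373 IH) (Lpe (K15.f258072 IH) (Lpr_ct (K15.f259055 IH) (Lpr_gt (K15.f251629 IH) (Lpr_cf (K12.f230240 IH) (Lpr_bt (K44.f166004 IH) (Lpr_gt (f927107 IH) (Lpn v41608)))))))))))
theorem f282134 : Led Lsl_bt (LP (LK LD1_c5 LD2_c6 LD3_c9)) = (LP (LK LD1_c10 LD2_c3 LD3_c15)) :=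
  Lre_b IH (LK LD1_c5 LD2_c6 LD3_c9) (LK LD1_c10 LD2_c3 LD3_c15) Lrfl Lrfl
theorem f927111 : Led Lsl_af (LP (LK LD1_c10 LD2_c14 LD3_c50)) = v41608 :=
  Lgr Lrot36 (Lpr_bt (K44.f258046 IH) (Lpe (K26.f364477 IH) (Lpr_bt (f282134 IH) (Lpr_at (f282148 IH) (Lpr_bt (f927110 IH) (Lpn v41608))))))
theorem f927114 : Led Lsl_ft (LP (LK LD1_c18 LD2_c21 LD3_c46)) = v41608 :=
  Lgr Lrot101 (Lpe (K44.f375439 IH) (Lpr_ff (K44.f364473 IH) (Lpr_af (f927111 IH) (Lpn v41608))))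
theorem f927115 : Led Lsl_df (LP (LK LD1_c10 LD2_c14 LD3_c53)) = v41608 :=
  Lgr Lrot78 (Lpr_ft (K44.f585237 IH) (Lpe (K44.f585286 IH) (Lpr_ft (f927114 IH) (Lpn v41608))))
theorem f300583 : Led Lsl_ct (LP (LK LD1_c10 LD2_c3 LD3_c20)) = (LP (LK LD1_c5 LD2_c6 LD3_c19)) :=
  Lre_c IH (LK LD1_c10 LD2_c3 LD3_c20) (LK LD1_c5 LD2_c6 LD3_c19) Lrfl Lrfl
theorem f300585 : Led Lsl_ff (LP (LK LD1_c5 LD2_c12 LD3_c18)) = (LP (LK LD1_c5 LD2_c6 LD3_c19)) :=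
  Lgr Lrot23 (Lpr_ct (K44.f300584 IH) (Lpr_ft (K18.f300581 IH) (Lpr_ct (f300583 IH) (Lpn (LP (LK LD1_c5 LD2_c6 LD3_c19))))))
theorem f406642 : Led Lsl_gf (LP (LK LD1_c5 LD2_c12 LD3_c17)) = (LP (LK LD1_c5 LD2_c6 LD3_c19)) :=
  Lgr Lrot47 (Lpr_gt (K53.f258064 IH) (Lpe (K44.f300629 IH) (Lpr_ff (f300585 IH) (Lpn (LP (LK LD1_c5 LD2_c6 LD3_c19))))))
theorem f406644 : Led Lsl_dt (LP (LK LD1_c10 LD2_c15 LD3_c14)) = (LP (LK LD1_c18 LD2_c39 LD3_c19)) :=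
  Lre_d IH (LK LD1_c10 LD2_c15 LD3_c14) (LK LD1_c18 LD2_c39 LD3_c19) Lrfl Lrfl
theorem f584880 : Led Lsl_at (LP (LK LD1_c10 LD2_c13 LD3_c0)) = (LP (LK LD1_c18 LD2_c21 LD3_c45)) :=
  Lgr Lrot66 (Lpr_ff (K19.f307572 IH) (Lpe (K44.f166003 IH) (Lpr_ff (K44.f584752 IH) (Lpn (LP (LK LD1_c18 LD2_c21 LD3_c45))))))
theorem f927109 : Led Lsl_gf (LP (LK LD1_c18 LD2_c21 LD3_c45)) = v41608 :=
  Lgr Lrot76 (Lpe (f584880 IH) (Lpr_ff (K19.f307572 IH) (Lpr_gt (f927107 IH) (Lpn v41608))))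
theorem f377992 : Led Lsl_ct (LP (LK LD1_c18 LD2_c21 LD3_c45)) = (LP (LK LD1_c27 LD2_c59 LD3_c61)) :=
  Lre_c IH (LK LD1_c18 LD2_c21 LD3_c45) (LK LD1_c27 LD2_c59 LD3_c61) Lrfl Lrfl
theorem f288976 : Led Lsl_ct (LP (LK LD1_c27 LD2_c55 LD3_c43)) = (LP (LK LD1_c18 LD2_c15 LD3_c47)) :=
  Lre_c IH (LK LD1_c27 LD2_c55 LD3_c43) (LK LD1_c18 LD2_c15 LD3_c47) Lrfl Lrfl
theorem f584895 : Led Lsl_ff (LP (LK LD1_c27 LD2_c55 LD3_c43)) = (LP (LK LD1_c27 LD2_c59 LD3_c61)) :=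
  Lgr Lrot23 (Lpr_ct (f288976 IH) (Lpr_ft (K44.f584889 IH) (Lpr_ct (f377992 IH) (Lpn (LP (LK LD1_c27 LD2_c59 LD3_c61))))))
theorem f230267 : Led Lsl_at (LP (LK LD1_c27 LD2_c55 LD3_c43)) = (LP (LK LD1_c18 LD2_c15 LD3_c55)) :=
  Lre_a IH (LK LD1_c27 LD2_c55 LD3_c43) (LK LD1_c18 LD2_c15 LD3_c55) Lrfl Lrfl
theorem f166012 : Led Lsl_gt (LP (LK LD1_c27 LD2_c55 LD3_c46)) = (LP (LK LD1_c18 LD2_c15 LD3_c55)) :=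
  Lre_g IH (LK LD1_c27 LD2_c55 LD3_c46) (LK LD1_c18 LD2_c15 LD3_c55) Lrfl Lrfl
theorem f584904 : Led Lsl_gf (LP (LK LD1_c27 LD2_c55 LD3_c46)) = (LP (LK LD1_c27 LD2_c59 LD3_c61)) :=
  Lgr Lrot47 (Lpr_gt (f166012 IH) (Lpe (f230267 IH) (Lpr_ff (f584895 IH) (Lpn (LP (LK LD1_c27 LD2_c59 LD3_c61))))))
theorem f927117 : Led Lsl_cf (LP (LK LD1_c18 LD2_c39 LD3_c19)) = (LP (LK LD1_c27 LD2_c55 LD3_c46)) :=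
  Lgr Lrot99 (Lpe (f406644 IH) (Lpe (K53.f406492 IH) (Lpr_gf (f406642 IH) (Lpe (f300583 IH) (Lpr_gf (K44.f406705 IH) (Lpr_df (f927115 IH) (Lpe (f927109 IH) (Lpr_ct (f377992 IH) (Lpe (f584904 IH) (Lpn (LP (LK LD1_c27 LD2_c55 LD3_c46))))))))))))
theorem f927118 : Led Lsl_ct (LP (LK LD1_c27 LD2_c55 LD3_c46)) = (LP (LK LD1_c18 LD2_c39 LD3_c19)) :=
  Leop (Lpr_cf (f927117 IH) (Lpn (LP (LK LD1_c27 LD2_c55 LD3_c46))))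
theorem seed_2531 : LEOK LG_c (LK LD1_c27 LD2_c55 LD3_c46) :=
  Leoe_c (LK LD1_c27 LD2_c55 LD3_c46) (f927118 IH)
def v41626 : LQ := Led Lsl_at (LP (LK LD1_c9 LD2_c59 LD3_c35))
theorem f927183 : Led Lsl_at (LP (LK LD1_c9 LD2_c59 LD3_c35)) = v41626 :=
  Lrfl
theorem f927188 : Led Lsl_gt (LP (LK LD1_c9 LD2_c59 LD3_c58)) = v41626 :=
  Lgr Lrot46 (Lpe (K44.f247941 IH) (Lpr_ft (K71.f721646 IH) (Lpr_at (f927183 IH) (Lpn v41626))))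
theorem f32701 : Led Lsl_ct (LP (LK LD1_c5 LD2_c16 LD3_c34)) = (LP (LK LD1_c10 LD2_c21 LD3_c39)) :=
  Lre_c IH (LK LD1_c5 LD2_c16 LD3_c34) (LK LD1_c10 LD2_c21 LD3_c39) Lrfl Lrfl
theorem f32702 : Led Lsl_gt (LP (LK LD1_c5 LD2_c16 LD3_c4)) = (LP (LK LD1_c10 LD2_c21 LD3_c39)) :=
  Lre_g IH (LK LD1_c5 LD2_c16 LD3_c4) (LK LD1_c10 LD2_c21 LD3_c39) Lrfl Lrfl
theorem f724201 : Led Lsl_cf (LP (LK LD1_c5 LD2_c16 LD3_c4)) = K53.v14639 :=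
  Lgr Lrot11 (Lpr_ct (K53.f724200 IH) (Lpn K53.v14639))
theorem f927190 : Led Lsl_bt K53.v14639 = v41626 :=
  Lgr Lrot92 (Lpe (f724201 IH) (Lpr_gt (f32702 IH) (Lpe (f32701 IH) (Lpe (K44.f32677 IH) (Lpr_gt (K13.f32695 IH) (Lpr_ct (K44.f32699 IH) (Lpr_gt (K44.f32700 IH) (Lpe (f583291 IH) (Lpe (f343489 IH) (Lpr_gt (f927188 IH) (Lpn v41626)))))))))))
theorem f32792 : Led Lsl_bt (LP (LK LD1_c5 LD2_c16 LD3_c41)) = (LP (LK LD1_c2 LD2_c35 LD3_c4)) :=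
  Lre_b IH (LK LD1_c5 LD2_c16 LD3_c41) (LK LD1_c2 LD2_c35 LD3_c4) Lrfl Lrfl
theorem f32793 : Led Lsl_ct (LP (LK LD1_c5 LD2_c16 LD3_c41)) = (LP (LK LD1_c10 LD2_c22 LD3_c55)) :=
  Lre_c IH (LK LD1_c5 LD2_c16 LD3_c41) (LK LD1_c10 LD2_c22 LD3_c55) Lrfl Lrfl
def v4564 : LQ := Led Lsl_gt (LP (LK LD1_c2 LD2_c29 LD3_c29))
def v24118 : LQ := Led Lsl_ct v4564
theorem f822486 : Led Lsl_ct v4564 = v24118 :=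
  Lrfl
theorem f636152 : Led Lsl_gt (LP (LK LD1_c2 LD2_c29 LD3_c29)) = v4564 :=
  Lrfl
theorem f169567 : Led Lsl_bt (LP (LK LD1_c1 LD2_c11 LD3_c50)) = (LP (LK LD1_c2 LD2_c29 LD3_c29)) :=
  Lre_b IH (LK LD1_c1 LD2_c11 LD3_c50) (LK LD1_c2 LD2_c29 LD3_c29) Lrfl Lrfl
theorem f822488 : Led Lsl_gf (LP (LK LD1_c10 LD2_c22 LD3_c55)) = v24118 :=
  Lgr Lrot129 (Lpe (f32793 IH) (Lpr_bt (f32792 IH) (Lpr_gt (K53.f35152 IH) (Lpe (K44.f32596 IH) (Lpr_ct (K44.f31689 IH) (Lpr_gt (K9.f32806 IH) (Lpr_cf (K9.f169570 IH) (Lpr_bt (f169567 IH) (Lpr_gt (f636152 IH) (Lpr_ct (f822486 IH) (Lpn v24118)))))))))))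
theorem f724731 : Led Lsl_ct K53.v14270 = (LP (LK LD1_c10 LD2_c12 LD3_c22)) :=
  Lgr Lrot59 (Lpr_cf (K53.f724730 IH) (Lpn (LP (LK LD1_c10 LD2_c12 LD3_c22))))
theorem f636153 : Led Lsl_gf (LP (LK LD1_c5 LD2_c11 LD3_c21)) = v4564 :=
  Lgr Lrot76 (Lpe (K37.f307953 IH) (Lpr_ff (K19.f307949 IH) (Lpr_gt (f636152 IH) (Lpn v4564))))
theorem f724738 : Led Lsl_bt K53.v14270 = v4564 :=
  Lgr Lrot130 (Lpr_ct (f724731 IH) (Lpe (K53.f343610 IH) (Lpe (K37.f248966 IH) (Lpr_bt (K14.f248946 IH) (Lpr_gf (K53.f405325 IH) (Lpe (K53.f165593 IH) (Lpr_ct (K53.f165594 IH) (Lpr_gf (K53.f351099 IH) (Lpe (K37.f351014 IH) (Lpr_gf (f636153 IH) (Lpn v4564)))))))))))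
theorem f724739 : Led Lsl_bf K53.v14270 = v4564 :=
  Lgr Lrot24 (Lpr_bt (f724738 IH) (Lpn v4564))
theorem f927191 : Led Lsl_gf K53.v14270 = v41626 :=
  Lgr Lrot124 (Lpr_bf (f724739 IH) (Lpr_ct (f822486 IH) (Lpe (f822488 IH) (Lpe (f32793 IH) (Lpr_bt (f32792 IH) (Lpr_gt (K53.f35152 IH) (Lpr_ct (K71.f35142 IH) (Lpr_gt (K53.f48506 IH) (Lpr_cf (f724201 IH) (Lpr_bt (f927190 IH) (Lpn v41626)))))))))))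
theorem f604582 : Led Lsl_bt (LP (LK LD1_c10 LD2_c12 LD3_c22)) = (LP (LK LD1_c18 LD2_c35 LD3_c17)) :=
  Lre_b IH (LK LD1_c10 LD2_c12 LD3_c22) (LK LD1_c18 LD2_c35 LD3_c17) Lrfl Lrfl
theorem f604594 : Led Lsl_gt (LP (LK LD1_c18 LD2_c35 LD3_c17)) = (LP (LK LD1_c28 LD2_c9 LD3_c23)) :=
  Lre_g IH (LK LD1_c18 LD2_c35 LD3_c17) (LK LD1_c28 LD2_c9 LD3_c23) Lrfl Lrfl
theorem f724293 : Led Lsl_bf (LP (LK LD1_c17 LD2_c47 LD3_c38)) = (LP (LK LD1_c18 LD2_c13 LD3_c47)) :=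
  Lgr Lrot24 (Lpr_bt (K53.f724288 IH) (Lpn (LP (LK LD1_c18 LD2_c13 LD3_c47))))
theorem f927189 : Led Lsl_ct (LP (LK LD1_c18 LD2_c13 LD3_c47)) = v41626 :=
  Lgr Lrot63 (Lpe (f724293 IH) (Lpr_gt (K71.f724456 IH) (Lpe (K44.f43701 IH) (Lpr_ct (K14.f43454 IH) (Lpr_gt (K12.f212435 IH) (Lpe (K14.f171474 IH) (Lpr_bt (K37.f171479 IH) (Lpr_gt (K44.f171480 IH) (Lpe (K44.f343481 IH) (Lpr_gt (f927188 IH) (Lpn v41626)))))))))))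
theorem f724459 : Led Lsl_gf (LP (LK LD1_c17 LD2_c47 LD3_c38)) = (LP (LK LD1_c9 LD2_c40 LD3_c26)) :=
  Lgr Lrot47 (Lpr_gt (K71.f724456 IH) (Lpe (K44.f43681 IH) (Lpe (K44.f43706 IH) (Lpn (LP (LK LD1_c9 LD2_c40 LD3_c26))))))
def v40431 : LQ := Led Lsl_at (LP (LK LD1_c9 LD2_c39 LD3_c26))
theorem f917318 : Led Lsl_at (LP (LK LD1_c9 LD2_c39 LD3_c26)) = v40431 :=
  Lrfl
theorem f917322 : Led Lsl_ef (LP (LK LD1_c17 LD2_c46 LD3_c59)) = v40431 :=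
  Lgr Lrot20 (Lpr_at (K44.f31491 IH) (Lpe (K12.f44386 IH) (Lpr_at (f917318 IH) (Lpn v40431))))
theorem f917325 : Led Lsl_ct (LP (LK LD1_c9 LD2_c39 LD3_c53)) = v40431 :=
  Lgr Lrot15 (Lpr_ef (K13.f44403 IH) (Lpe (K44.f31485 IH) (Lpr_ef (f917322 IH) (Lpn v40431))))
theorem f184022 : Led Lsl_bt (LP (LK LD1_c5 LD2_c18 LD3_c30)) = (LP (LK LD1_c10 LD2_c26 LD3_c41)) :=
  Lre_b IH (LK LD1_c5 LD2_c18 LD3_c30) (LK LD1_c10 LD2_c26 LD3_c41) Lrfl Lrfl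
theorem f184023 : Led Lsl_ff (LP (LK LD1_c9 LD2_c39 LD3_c26)) = (LP (LK LD1_c10 LD2_c26 LD3_c41)) :=
  Lgr Lrot25 (Lpr_bt (K12.f44389 IH) (Lpr_ft (K10.f184020 IH) (Lpr_bt (f184022 IH) (Lpn (LP (LK LD1_c10 LD2_c26 LD3_c41))))))
theorem f184032 : Led Lsl_gt (LP (LK LD1_c10 LD2_c26 LD3_c41)) = (LP (LK LD1_c18 LD2_c56 LD3_c30)) :=
  Lre_g IH (LK LD1_c10 LD2_c26 LD3_c41) (LK LD1_c18 LD2_c56 LD3_c30) Lrfl Lrfl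
theorem f917323 : Led Lsl_gt (LP (LK LD1_c18 LD2_c56 LD3_c30)) = v40431 :=
  Lgr Lrot46 (Lpe (f184032 IH) (Lpe (f184023 IH) (Lpr_at (f917318 IH) (Lpn v40431))))
theorem f927192 : Led Lsl_ct (LP (LK LD1_c28 LD2_c9 LD3_c23)) = (LP (LK LD1_c18 LD2_c56 LD3_c30)) :=
  Lgr Lrot91 (Lpe (f604594 IH) (Lpe (f604582 IH) (Lpe (K53.f724730 IH) (Lpr_gf (f927191 IH) (Lpe (f927189 IH) (Lpe (f724293 IH) (Lpr_gf (f724459 IH) (Lpr_bf (K13.f43487 IH) (Lpr_ct (f917325 IH) (Lpe (f917323 IH) (Lpn (LP (LK LD1_c18 LD2_c56 LD3_c30)))))))))))))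
theorem f927193 : Led Lsl_ct (LP (LK LD1_c28 LD2_c9 LD3_c23)) = (LP (LK LD1_c18 LD2_c56 LD3_c30)) :=
  Leop (Lpe (f927192 IH) (Lpn (LP (LK LD1_c28 LD2_c9 LD3_c23))))
theorem seed_2532 : LEOK LG_c (LK LD1_c28 LD2_c9 LD3_c23) :=
  Leoe_c (LK LD1_c28 LD2_c9 LD3_c23) (f927193 IH)
def v41661 : LQ := Led Lsl_at (LP (LK LD1_c9 LD2_c59 LD3_c58))
theorem f927370 : Led Lsl_at (LP (LK LD1_c9 LD2_c59 LD3_c58)) = v41661 :=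
  Lrfl
theorem f927371 : Led Lsl_af (LP (LK LD1_c9 LD2_c59 LD3_c58)) = v41661 :=
  Lgr Lrot0 (Lpr_at (f927370 IH) (Lpn v41661))
theorem f927372 : Led Lsl_ft K53.v14270 = v41661 :=
  Lgr Lrot2 (Lpe (K53.f721642 IH) (Lpr_gt (K44.f247941 IH) (Lpr_af (f927371 IH) (Lpn v41661))))
theorem f927374 : Led Lsl_ff K53.v14270 = v41661 :=
  Lgr Lrot3 (Lpr_ft (f927372 IH) (Lpn v41661))
def v14238 : LQ := Led Lsl_at (LP (LK LD1_c5 LD2_c4 LD3_c2))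
theorem f721141 : Led Lsl_at (LP (LK LD1_c5 LD2_c4 LD3_c2)) = v14238 :=
  Lrfl
theorem f721142 : Led Lsl_af (LP (LK LD1_c5 LD2_c4 LD3_c2)) = v14238 :=
  Lgr Lrot0 (Lpr_at (f721141 IH) (Lpn v14238))
theorem f721143 : Led Lsl_ft v4564 = v14238 :=
  Lgr Lrot2 (Lpe (f636153 IH) (Lpr_gt (K71.f405260 IH) (Lpr_af (f721142 IH) (Lpn v14238))))
theorem f927375 : Led Lsl_bt v14238 = v41661 :=
  Lgr Lrot35 (Lpe (f721143 IH) (Lpe (f724738 IH) (Lpr_ff (f927374 IH) (Lpn v41661))))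
def v41547 : LQ := Led Lsl_at (LP (LK LD1_c9 LD2_c58 LD3_c57))
theorem f926736 : Led Lsl_at (LP (LK LD1_c9 LD2_c58 LD3_c57)) = v41547 :=
  Lrfl
theorem f926737 : Led Lsl_af (LP (LK LD1_c9 LD2_c58 LD3_c57)) = v41547 :=
  Lgr Lrot0 (Lpr_at (f926736 IH) (Lpn v41547))
theorem f927376 : v41547 = (LP (LK LD1_c10 LD2_c13 LD3_c31)) :=
  (Llr Lrot36 (Lpe (f926737 IH) (Lpr_bt (K71.f170050 IH) (Lpr_at (f721141 IH) (Lpr_bt (f927375 IH) (Lpe (f927371 IH) (Lpr_bt (f343486 IH) (Lpn (LP (LK LD1_c10 LD2_c13 LD3_c31)))))))))).symm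
theorem f927377 : Led Lsl_at (LP (LK LD1_c10 LD2_c13 LD3_c31)) = (LP (LK LD1_c9 LD2_c58 LD3_c57)) :=
  Leop (Lpr_af (f926737 IH) (Lpqs (f927376 IH) (Lpn (LP (LK LD1_c10 LD2_c13 LD3_c31)))))
theorem seed_2533 : LEOK LG_a (LK LD1_c10 LD2_c13 LD3_c31) :=
  Leoe_a (LK LD1_c10 LD2_c13 LD3_c31) (f927377 IH)
def v41683 : LQ := Led Lsl_ft (LP (LK LD1_c10 LD2_c0 LD3_c9))
theorem f927875 : Led Lsl_ft (LP (LK LD1_c10 LD2_c0 LD3_c9)) = v41683 :=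
  Lrfl
theorem f21612 : Led Lsl_gt (LP (LK LD1_c10 LD2_c0 LD3_c9)) = (LP (LK LD1_c18 LD2_c17 LD3_c2)) :=
  Lre_g IH (LK LD1_c10 LD2_c0 LD3_c9) (LK LD1_c18 LD2_c17 LD3_c2) Lrfl Lrfl
theorem f21607 : Led Lsl_at (LP (LK LD1_c5 LD2_c4 LD3_c36)) = (LP (LK LD1_c10 LD2_c0 LD3_c9)) :=
  Lre_a IH (LK LD1_c5 LD2_c4 LD3_c36) (LK LD1_c10 LD2_c0 LD3_c9) Lrfl Lrfl
theorem f927876 : Led Lsl_af (LP (LK LD1_c10 LD2_c0 LD3_c19)) = v41683 :=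
  Lgr Lrot45 (Lpr_ft (K0.f21438 IH) (Lpr_at (f21607 IH) (Lpr_ft (f927875 IH) (Lpn v41683))))
theorem f927878 : Led Lsl_gt (LP (LK LD1_c18 LD2_c17 LD3_c2)) = (LP (LK LD1_c10 LD2_c0 LD3_c19)) :=
  Lgr Lrot46 (Lpe (f21612 IH) (Lpr_ft (f927875 IH) (Lpe (f927876 IH) (Lpn (LP (LK LD1_c10 LD2_c0 LD3_c19))))))
theorem f927879 : Led Lsl_gt (LP (LK LD1_c18 LD2_c17 LD3_c2)) = (LP (LK LD1_c10 LD2_c0 LD3_c19)) :=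
  Leop (Lpe (f927878 IH) (Lpn (LP (LK LD1_c18 LD2_c17 LD3_c2))))
theorem seed_2534 : LEOK LG_g (LK LD1_c18 LD2_c17 LD3_c2) :=
  Leoe_g (LK LD1_c18 LD2_c17 LD3_c2) (f927879 IH)
def v41729 : LQ := Led Lsl_et (LP (LK LD1_c10 LD2_c0 LD3_c29))
theorem f928058 : Led Lsl_et (LP (LK LD1_c10 LD2_c0 LD3_c29)) = v41729 :=
  Lrfl
theorem f928060 : Led Lsl_ef (LP (LK LD1_c10 LD2_c0 LD3_c29)) = v41729 :=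
  Lgr Lrot88 (Lpr_et (f928058 IH) (Lpn v41729))
theorem f928061 : Led Lsl_ct (LP (LK LD1_c10 LD2_c6 LD3_c52)) = v41729 :=
  Lgr Lrot15 (Lpe (K60.f168847 IH) (Lpr_cf (K53.f722320 IH) (Lpqs (K53.f727490 IH) (Lpr_ef (f928060 IH) (Lpn v41729)))))
def v16652 : LQ := Led Lsl_gt (LP (LK LD1_c6 LD2_c3 LD3_c56))
theorem f750852 : Led Lsl_gt (LP (LK LD1_c6 LD2_c3 LD3_c56)) = v16652 :=
  Lrfl
theorem f186204 : Led Lsl_ct (LP (LK LD1_c11 LD2_c51 LD3_c5)) = (LP (LK LD1_c6 LD2_c3 LD3_c46)) :=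
  Lre_c IH (LK LD1_c11 LD2_c51 LD3_c5) (LK LD1_c6 LD2_c3 LD3_c46) Lrfl Lrfl
theorem f285158 : Led Lsl_ct (LP (LK LD1_c9 LD2_c14 LD3_c23)) = (LP (LK LD1_c17 LD2_c8 LD3_c43)) :=
  Lre_c IH (LK LD1_c9 LD2_c14 LD3_c23) (LK LD1_c17 LD2_c8 LD3_c43) Lrfl Lrfl
theorem f903895 : Led Lsl_ff (LP (LK LD1_c11 LD2_c51 LD3_c5)) = (LP (LK LD1_c17 LD2_c8 LD3_c43)) :=
  Lgr Lrot23 (Lpr_ct (f186204 IH) (Lpqs (f903833 IH) (Lpe (f903814 IH) (Lpr_ct (f285158 IH) (Lpn (LP (LK LD1_c17 LD2_c8 LD3_c43)))))))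
theorem f903920 : Led Lsl_ft (LP (LK LD1_c11 LD2_c51 LD3_c5)) = (LP (LK LD1_c17 LD2_c8 LD3_c43)) :=
  Lgr Lrot48 (Lpr_ff (f903895 IH) (Lpn (LP (LK LD1_c17 LD2_c8 LD3_c43))))
theorem f903925 : Led Lsl_at (LP (LK LD1_c17 LD2_c8 LD3_c43)) = (LP (LK LD1_c11 LD2_c51 LD3_c3)) :=
  Lgr Lrot100 (Lpr_af (f903923 IH) (Lpn (LP (LK LD1_c11 LD2_c51 LD3_c3))))
theorem f926864 : (LP (LK LD1_c11 LD2_c51 LD3_c3)) = v16652 :=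
  (Llr Lrot26 (Lpe (f903925 IH) (Lpe (f903920 IH) (Lpqs (f926861 IH) (Lpe (f750854 IH) (Lpr_gt (f750852 IH) (Lpn v16652))))))).symm
theorem f285338 : Led Lsl_ct (LP (LK LD1_c11 LD2_c51 LD3_c3)) = (LP (LK LD1_c6 LD2_c3 LD3_c45)) :=
  Lre_c IH (LK LD1_c11 LD2_c51 LD3_c3) (LK LD1_c6 LD2_c3 LD3_c45) Lrfl Lrfl
theorem f928063 : Led Lsl_gf (LP (LK LD1_c18 LD2_c38 LD3_c27)) = v41729 :=
  Lgr Lrot104 (Lpe (f924903 IH) (Lpe (K56.f175806 IH) (Lpe (f285338 IH) (Lpqs (f926864 IH) (Lpe (f750852 IH) (Lpe (K36.f186102 IH) (Lpe (K49.f26708 IH) (Lpr_df (K49.f334847 IH) (Lpe (K60.f782171 IH) (Lpr_ct (f928061 IH) (Lpn v41729)))))))))))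
theorem f240479 : Led Lsl_gt (LP (LK LD1_c18 LD2_c17 LD3_c28)) = (LP (LK LD1_c10 LD2_c0 LD3_c32)) :=
  Lre_g IH (LK LD1_c18 LD2_c17 LD3_c28) (LK LD1_c10 LD2_c0 LD3_c32) Lrfl Lrfl
theorem f924897 : Led Lsl_gf (LP (LK LD1_c18 LD2_c17 LD3_c28)) = (LP (LK LD1_c18 LD2_c38 LD3_c27)) :=
  Lgr Lrot47 (Lpr_gt (f240479 IH) (Lpr_af (f924886 IH) (Lpe (f722951 IH) (Lpn (LP (LK LD1_c18 LD2_c38 LD3_c27))))))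
theorem f928062 : Led Lsl_ff (LP (LK LD1_c18 LD2_c38 LD3_c25)) = v41729 :=
  Lgr Lrot23 (Lpr_ct (K71.f923085 IH) (Lpr_ft (K71.f414175 IH) (Lpr_ct (f928061 IH) (Lpn v41729))))
theorem f928065 : Led Lsl_af (LP (LK LD1_c18 LD2_c17 LD3_c28)) = (LP (LK LD1_c18 LD2_c38 LD3_c25)) :=
  Lgr Lrot31 (Lpr_gf (f924897 IH) (Lpr_gf (f928063 IH) (Lpe (f928062 IH) (Lpn (LP (LK LD1_c18 LD2_c38 LD3_c25))))))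
theorem f928066 : Led Lsl_at (LP (LK LD1_c18 LD2_c38 LD3_c25)) = (LP (LK LD1_c18 LD2_c17 LD3_c28)) :=
  Leop (Lpr_af (f928065 IH) (Lpn (LP (LK LD1_c18 LD2_c38 LD3_c25))))
theorem seed_2535 : LEOK LG_a (LK LD1_c18 LD2_c38 LD3_c25) :=
  Leoe_a (LK LD1_c18 LD2_c38 LD3_c25) (f928066 IH)
def v41743 : LQ := Led Lsl_dt (LP (LK LD1_c10 LD2_c0 LD3_c35))
theorem f928123 : Led Lsl_dt (LP (LK LD1_c10 LD2_c0 LD3_c35)) = v41743 :=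
  Lrfl
theorem f21417 : Led Lsl_et (LP (LK LD1_c10 LD2_c0 LD3_c35)) = (LP (LK LD1_c5 LD2_c4 LD3_c42)) :=
  Lre_e IH (LK LD1_c10 LD2_c0 LD3_c35) (LK LD1_c5 LD2_c4 LD3_c42) Lrfl Lrfl
theorem f164116 : Led Lsl_et (LP (LK LD1_c1 LD2_c12 LD3_c40)) = (LP (LK LD1_c2 LD2_c31 LD3_c22)) :=
  Lre_e IH (LK LD1_c1 LD2_c12 LD3_c40) (LK LD1_c2 LD2_c31 LD3_c22) Lrfl Lrfl
theorem f636242 : Led Lsl_ef (LP (LK LD1_c5 LD2_c11 LD3_c51)) = v4582 :=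
  Lgr Lrot21 (Lpr_ft (f21431 IH) (Lpr_et (K0.f21382 IH) (Lpe (K10.f164625 IH) (Lpr_et (f164116 IH) (Lpr_ft (f636239 IH) (Lpn v4582))))))
def v24151 : LQ := Led Lsl_ft v4581
theorem f822665 : Led Lsl_ft v4581 = v24151 :=
  Lrfl
theorem f822670 : Led Lsl_ff v4581 = v24151 :=
  Lgr Lrot3 (Lpr_ft (f822665 IH) (Lpn v24151))
theorem f822673 : Led Lsl_dt v4582 = v24151 :=
  Lgr Lrot60 (Lpe (f636239 IH) (Lpr_df (f636236 IH) (Lpr_ff (f822670 IH) (Lpn v24151))))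
def v3142 : LQ := Led Lsl_dt K53.v529
def v9996 : LQ := Led Lsl_ct v3142
theorem f678297 : Led Lsl_ct v3142 = v9996 :=
  Lrfl
theorem f624013 : Led Lsl_dt K53.v529 = v3142 :=
  Lrfl
def v525 : LQ := Led Lsl_dt (LP (LK LD1_c0 LD2_c43 LD3_c43))
def v3130 : LQ := Led Lsl_ct v525
theorem f623970 : Led Lsl_ct v525 = v3130 :=
  Lrfl
theorem f453772 : Led Lsl_dt (LP (LK LD1_c0 LD2_c43 LD3_c43)) = v525 :=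
  Lrfl
theorem f453775 : Led Lsl_ff K35.v133 = v525 :=
  Lgr Lrot19 (Lpe (K35.f450643 IH) (Lpr_ft (K24.f24037 IH) (Lpr_dt (f453772 IH) (Lpn v525))))
theorem f156434 : Led Lsl_af (LP (LK LD1_c0 LD2_c19 LD3_c31)) = (LP (LK LD1_c0 LD2_c30 LD3_c56)) :=
  Lgr Lrot117 (Lpr_dt (K7.f24282 IH) (Lpr_at (K7.f156423 IH) (Lpr_dt (K55.f23189 IH) (Lpn (LP (LK LD1_c0 LD2_c30 LD3_c56))))))
theorem f156430 : Led Lsl_af (LP (LK LD1_c0 LD2_c8 LD3_c47)) = (LP (LK LD1_c0 LD2_c13 LD3_c45)) :=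
  Lgr Lrot0 (Lpr_at (K7.f156423 IH) (Lpn (LP (LK LD1_c0 LD2_c13 LD3_c45))))
theorem f156438 : Led Lsl_ff (LP (LK LD1_c0 LD2_c13 LD3_c45)) = (LP (LK LD1_c0 LD2_c13 LD3_c45)) :=
  Lgr Lrot30 (Lpe (f156430 IH) (Lpr_ft (K7.f152111 IH) (Lpr_at (K7.f156423 IH) (Lpn (LP (LK LD1_c0 LD2_c13 LD3_c45))))))
theorem f156440 : Led Lsl_ft (LP (LK LD1_c0 LD2_c30 LD3_c56)) = (LP (LK LD1_c0 LD2_c30 LD3_c56)) :=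
  Lgr Lrot54 (Lpe (K55.f23189 IH) (Lpr_ff (f156438 IH) (Lpe (K55.f124161 IH) (Lpn (LP (LK LD1_c0 LD2_c30 LD3_c56))))))
theorem f429006 : Led Lsl_at (LP (LK LD1_c0 LD2_c19 LD3_c31)) = (LP (LK LD1_c0 LD2_c30 LD3_c56)) :=
  Lgr Lrot100 (Lpr_af (f156434 IH) (Lpn (LP (LK LD1_c0 LD2_c30 LD3_c56))))
theorem f429008 : Led Lsl_ft (LP (LK LD1_c0 LD2_c19 LD3_c31)) = (LP (LK LD1_c0 LD2_c19 LD3_c31)) :=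
  Lgr Lrot101 (Lpr_af (f156434 IH) (Lpe (f156440 IH) (Lpe (f429006 IH) (Lpn (LP (LK LD1_c0 LD2_c19 LD3_c31))))))
theorem f152105 : Led Lsl_ef (LP (LK LD1_c1 LD2_c7 LD3_c23)) = (LP (LK LD1_c0 LD2_c43 LD3_c43)) :=
  Lgr Lrot21 (Lpr_ft (K24.f25245 IH) (Lpr_et (K7.f25198 IH) (Lpr_ft (K7.f152095 IH) (Lpr_et (K32.f24051 IH) (Lpr_ft (K24.f24037 IH) (Lpn (LP (LK LD1_c0 LD2_c43 LD3_c43))))))))
theorem f453773 : Led Lsl_df (LP (LK LD1_c0 LD2_c43 LD3_c43)) = v525 :=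
  Lgr Lrot38 (Lpr_dt (f453772 IH) (Lpn v525))
theorem f453774 : Led Lsl_ef v525 = v525 :=
  Lgr Lrot73 (Lpe (f453773 IH) (Lpe (f152105 IH) (Lpe (K24.f144060 IH) (Lpr_et (K32.f152093 IH) (Lpr_dt (f453772 IH) (Lpn v525))))))
theorem f453776 : Led Lsl_ft K35.v133 = v525 :=
  Lgr Lrot86 (Lpe (K55.f450645 IH) (Lpe (f429008 IH) (Lpr_ef (K53.f450644 IH) (Lpr_ff (f453775 IH) (Lpr_ef (f453774 IH) (Lpn v525))))))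
theorem f623973 : Led Lsl_ff K53.v529 = v3130 :=
  Lgr Lrot23 (Lpe (K53.f453795 IH) (Lpr_ft (f453776 IH) (Lpr_ct (f623970 IH) (Lpn v3130))))
theorem f453796 : Led Lsl_ef (LP (LK LD1_c0 LD2_c43 LD3_c44)) = K53.v529 :=
  Lgr Lrot88 (Lpr_et (K53.f453794 IH) (Lpn K53.v529))
theorem f24604 : Led Lsl_ct (LP (LK LD1_c0 LD2_c43 LD3_c44)) = (LP (LK LD1_c0 LD2_c19 LD3_c31)) :=
  Lre_c IH (LK LD1_c0 LD2_c43 LD3_c44) (LK LD1_c0 LD2_c19 LD3_c31) Lrfl Lrfl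
theorem f429010 : Led Lsl_ff (LP (LK LD1_c0 LD2_c43 LD3_c44)) = (LP (LK LD1_c0 LD2_c43 LD3_c44)) :=
  Lgr Lrot23 (Lpr_ct (f24604 IH) (Lpr_ft (f429008 IH) (Lpr_ct (K53.f152163 IH) (Lpn (LP (LK LD1_c0 LD2_c43 LD3_c44))))))
theorem f623971 : Led Lsl_cf v525 = v3130 :=
  Lgr Lrot11 (Lpr_ct (f623970 IH) (Lpn v3130))
theorem f623972 : Led Lsl_ef v3130 = v3130 :=
  Lgr Lrot28 (Lpe (f623971 IH) (Lpe (f453774 IH) (Lpr_ct (f623970 IH) (Lpn v3130))))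
theorem f623974 : Led Lsl_ft K53.v529 = v3130 :=
  Lgr Lrot86 (Lpe (K53.f453794 IH) (Lpr_ff (f429010 IH) (Lpr_ef (f453796 IH) (Lpr_ff (f623973 IH) (Lpr_ef (f623972 IH) (Lpn v3130))))))
def v7861 : LQ := Led Lsl_ct K35.v1338
theorem f668778 : Led Lsl_ct K35.v1338 = v7861 :=
  Lrfl
theorem f452364 : Led Lsl_et (LP (LK LD1_c0 LD2_c30 LD3_c56)) = K35.v351 :=
  Lgr Lrot87 (Lpr_ef (K55.f452362 IH) (Lpn K35.v351))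
theorem f494917 : Led Lsl_df (LP (LK LD1_c1 LD2_c7 LD3_c26)) = K35.v1338 :=
  Lgr Lrot38 (Lpr_dt (K35.f494915 IH) (Lpn K35.v1338))
theorem f494918 : Led Lsl_ef K35.v1338 = K35.v1338 :=
  Lgr Lrot73 (Lpe (f494917 IH) (Lpr_et (K35.f152072 IH) (Lpe (K24.f23780 IH) (Lpr_et (K24.f206532 IH) (Lpr_dt (K35.f494915 IH) (Lpn K35.v1338))))))
theorem f494921 : Led Lsl_ft K35.v351 = K35.v1338 :=
  Lgr Lrot86 (Lpe (f452364 IH) (Lpe (f156440 IH) (Lpr_ef (K55.f452362 IH) (Lpr_ff (K35.f494919 IH) (Lpr_ef (f494918 IH) (Lpn K35.v1338))))))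
theorem f668782 : Led Lsl_ff K53.v2832 = v7861 :=
  Lgr Lrot23 (Lpe (K53.f535872 IH) (Lpr_ft (f494921 IH) (Lpr_ct (f668778 IH) (Lpn v7861))))
theorem f452363 : Led Lsl_at K35.v133 = K35.v351 :=
  Lgr Lrot80 (Lpe (K55.f450645 IH) (Lpr_af (f156434 IH) (Lpr_ef (K55.f452362 IH) (Lpn K35.v351))))
theorem f535871 : Led Lsl_af K53.v529 = K53.v2832 :=
  Lgr Lrot68 (Lpe (K53.f453795 IH) (Lpr_at (f452363 IH) (Lpr_ct (K53.f535870 IH) (Lpn K53.v2832))))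
theorem f668783 : Led Lsl_at v3130 = v7861 :=
  Lgr Lrot66 (Lpe (f623974 IH) (Lpr_af (f535871 IH) (Lpr_ff (f668782 IH) (Lpn v7861))))
theorem f678300 : Led Lsl_df (LP (LK LD1_c5 LD2_c14 LD3_c47)) = v9996 :=
  Lgr Lrot106 (Lpr_ct (K48.f163949 IH) (Lpe (K10.f164362 IH) (Lpr_ct (K24.f206520 IH) (Lpr_dt (K35.f494915 IH) (Lpr_ct (f668778 IH) (Lpe (f668783 IH) (Lpe (f623974 IH) (Lpr_dt (f624013 IH) (Lpr_ct (f678297 IH) (Lpn v9996))))))))))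
theorem f678302 : Led Lsl_ft v4600 = v9996 :=
  Lgr Lrot54 (Lpe (f636342 IH) (Lpe (K10.f163933 IH) (Lpr_df (f678300 IH) (Lpn v9996))))
theorem f163929 : Led Lsl_et (LP (LK LD1_c1 LD2_c14 LD3_c3)) = (LP (LK LD1_c2 LD2_c34 LD3_c11)) :=
  Lre_e IH (LK LD1_c1 LD2_c14 LD3_c3) (LK LD1_c2 LD2_c34 LD3_c11) Lrfl Lrfl
theorem f21969 : Led Lsl_et (LP (LK LD1_c2 LD2_c29 LD3_c43)) = (LP (LK LD1_c1 LD2_c11 LD3_c54)) :=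
  Lre_e IH (LK LD1_c2 LD2_c29 LD3_c43) (LK LD1_c1 LD2_c11 LD3_c54) Lrfl Lrfl
theorem f21364 : Led Lsl_dt (LP (LK LD1_c5 LD2_c4 LD3_c45)) = (LP (LK LD1_c2 LD2_c29 LD3_c43)) :=
  Lre_d IH (LK LD1_c5 LD2_c4 LD3_c45) (LK LD1_c2 LD2_c29 LD3_c43) Lrfl Lrfl
theorem f636345 : Led Lsl_ef (LP (LK LD1_c5 LD2_c4 LD3_c45)) = v4600 :=
  Lgr Lrot73 (Lpr_dt (f21364 IH) (Lpr_et (f21969 IH) (Lpr_dt (K9.f163727 IH) (Lpr_et (f163929 IH) (Lpr_dt (f636342 IH) (Lpn v4600))))))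
theorem f163872 : Led Lsl_bf (LP (LK LD1_c18 LD2_c16 LD3_c8)) = (LP (LK LD1_c18 LD2_c36 LD3_c38)) :=
  Lgr Lrot93 (Lpr_dt (K0.f21559 IH) (Lpr_bt (K8.f163857 IH) (Lpr_dt (K0.f21520 IH) (Lpn (LP (LK LD1_c18 LD2_c36 LD3_c38))))))
theorem f21535 : Led Lsl_bt (LP (LK LD1_c10 LD2_c0 LD3_c22)) = (LP (LK LD1_c5 LD2_c4 LD3_c45)) :=
  Lre_b IH (LK LD1_c10 LD2_c0 LD3_c22) (LK LD1_c5 LD2_c4 LD3_c45) Lrfl Lrfl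
theorem f21534 : Led Lsl_bt (LP (LK LD1_c5 LD2_c11 LD3_c53)) = (LP (LK LD1_c10 LD2_c14 LD3_c18)) :=
  Lre_b IH (LK LD1_c5 LD2_c11 LD3_c53) (LK LD1_c10 LD2_c14 LD3_c18) Lrfl Lrfl
theorem f163874 : Led Lsl_at (LP (LK LD1_c5 LD2_c4 LD3_c45)) = (LP (LK LD1_c5 LD2_c11 LD3_c53)) :=
  Lgr Lrot67 (Lpe (f21535 IH) (Lpe (K0.f21543 IH) (Lpr_bf (f163872 IH) (Lpe (K0.f21542 IH) (Lpe (f21534 IH) (Lpn (LP (LK LD1_c5 LD2_c11 LD3_c53))))))))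
theorem f21894 : Led Lsl_dt (LP (LK LD1_c5 LD2_c11 LD3_c53)) = (LP (LK LD1_c2 LD2_c32 LD3_c49)) :=
  Lre_d IH (LK LD1_c5 LD2_c11 LD3_c53) (LK LD1_c2 LD2_c32 LD3_c49) Lrfl Lrfl
theorem f636237 : Led Lsl_ef (LP (LK LD1_c5 LD2_c11 LD3_c53)) = v4581 :=
  Lgr Lrot73 (Lpr_dt (f21894 IH) (Lpr_et (K0.f21367 IH) (Lpe (K8.f164111 IH) (Lpr_et (f164116 IH) (Lpr_dt (f636235 IH) (Lpn v4581))))))
theorem f636238 : Led Lsl_et (LP (LK LD1_c5 LD2_c11 LD3_c53)) = v4581 :=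
  Lgr Lrot87 (Lpr_ef (f636237 IH) (Lpn v4581))
theorem f636346 : Led Lsl_at v4581 = v4600 :=
  Lgr Lrot80 (Lpe (f636238 IH) (Lpe (f163874 IH) (Lpr_ef (f636345 IH) (Lpn v4600))))
theorem f822671 : Led Lsl_at v9996 = v24151 :=
  Lgr Lrot66 (Lpe (f678302 IH) (Lpe (f636346 IH) (Lpr_ff (f822670 IH) (Lpn v24151))))
theorem f822826 : Led Lsl_gf v24151 = v24181 :=
  Lgr Lrot76 (Lpe (f822671 IH) (Lpe (f678302 IH) (Lpr_gt (f822825 IH) (Lpn v24181))))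
theorem f822829 : Led Lsl_dt v23824 = v24181 :=
  Lgr Lrot42 (Lpr_df (f822827 IH) (Lpn v24181))
def v34488 : LQ := Led Lsl_ct K53.v11816
theorem f871220 : Led Lsl_ct K53.v11816 = v34488 :=
  Lrfl
theorem f636241 : Led Lsl_cf (LP (LK LD1_c2 LD2_c31 LD3_c25)) = v4582 :=
  Lgr Lrot108 (Lpr_ft (K35.f22258 IH) (Lpr_ct (K10.f22236 IH) (Lpr_ft (f636239 IH) (Lpn v4582))))
theorem f636243 : Led Lsl_ff (LP (LK LD1_c2 LD2_c31 LD3_c22)) = v4582 :=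
  Lgr Lrot3 (Lpr_ft (f636239 IH) (Lpn v4582))
theorem f822668 : Led Lsl_df v4582 = v24151 :=
  Lgr Lrot78 (Lpe (f636243 IH) (Lpr_dt (f636235 IH) (Lpr_ft (f822665 IH) (Lpn v24151))))
theorem f871225 : Led Lsl_gf v23824 = v34488 :=
  Lgr Lrot148 (Lpr_dt (f822829 IH) (Lpe (f822826 IH) (Lpe (f822668 IH) (Lpe (f636241 IH) (Lpe (K7.f22255 IH) (Lpr_gf (K49.f494347 IH) (Lpqs (K49.f535846 IH) (Lpr_df (K53.f627781 IH) (Lpr_gf (K53.f685995 IH) (Lpr_ct (f871220 IH) (Lpn v34488)))))))))))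
theorem f871223 : Led Lsl_ef K55.v14372 = v34488 :=
  Lgr Lrot28 (Lpe (K55.f722236 IH) (Lpr_et (K67.f686003 IH) (Lpr_ct (f871220 IH) (Lpn v34488))))
theorem f871229 : Led Lsl_et K55.v14372 = v34488 :=
  Lgr Lrot87 (Lpr_ef (f871223 IH) (Lpn v34488))
theorem f166270 : Led Lsl_dt (LP (LK LD1_c9 LD2_c59 LD3_c9)) = (LP (LK LD1_c18 LD2_c15 LD3_c35)) :=
  Lre_d IH (LK LD1_c9 LD2_c59 LD3_c9) (LK LD1_c18 LD2_c15 LD3_c35) Lrfl Lrfl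
theorem f928126 : Led Lsl_gf (LP (LK LD1_c18 LD2_c15 LD3_c35)) = v41743 :=
  Lgr Lrot145 (Lpe (f166270 IH) (Lpq (K55.f748663 IH) (Lpr_et (f871229 IH) (Lpe (f871225 IH) (Lpr_dt (f822829 IH) (Lpe (f822826 IH) (Lpe (f822673 IH) (Lpe (f636242 IH) (Lpe (f165402 IH) (Lpe (f21417 IH) (Lpr_dt (f928123 IH) (Lpn v41743))))))))))))
theorem f166274 : Led Lsl_dt (LP (LK LD1_c18 LD2_c15 LD3_c35)) = (LP (LK LD1_c9 LD2_c59 LD3_c9)) :=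
  Lre_d IH (LK LD1_c18 LD2_c15 LD3_c35) (LK LD1_c9 LD2_c59 LD3_c9) Lrfl Lrfl
def v41741 : LQ := Led Lsl_gf (LP (LK LD1_c10 LD2_c0 LD3_c35))
theorem f928109 : Led Lsl_gf (LP (LK LD1_c10 LD2_c0 LD3_c35)) = v41741 :=
  Lrfl
theorem f928127 : (LP (LK LD1_c18 LD2_c17 LD3_c22)) = v41741 :=
  (Llr Lrot8 (Lpr_cf (f714458 IH) (Lpr_gt (K67.f881563 IH) (Lpr_dt (K67.f881562 IH) (Lpe (K67.f881560 IH) (Lpe (K51.f194071 IH) (Lpr_cf (K55.f722236 IH) (Lpqs (K55.f748663 IH) (Lpe (f166274 IH) (Lpr_gf (f928126 IH) (Lpe (f928123 IH) (Lpr_gf (f928109 IH) (Lpn v41741))))))))))))).symm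
theorem f928128 : Led Lsl_gt (LP (LK LD1_c18 LD2_c17 LD3_c22)) = (LP (LK LD1_c10 LD2_c0 LD3_c35)) :=
  Leop (Lpr_gf (f928109 IH) (Lpq (f928127 IH) (Lpn (LP (LK LD1_c18 LD2_c17 LD3_c22)))))
theorem seed_2536 : LEOK LG_g (LK LD1_c18 LD2_c17 LD3_c22) :=
  Leoe_g (LK LD1_c18 LD2_c17 LD3_c22) (f928128 IH)
def v41774 : LQ := Led Lsl_ct (LP (LK LD1_c10 LD2_c1 LD3_c54))
theorem f928250 : Led Lsl_ct (LP (LK LD1_c10 LD2_c1 LD3_c54)) = v41774 :=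
  Lrfl
theorem f928252 : Led Lsl_cf (LP (LK LD1_c10 LD2_c1 LD3_c54)) = v41774 :=
  Lgr Lrot11 (Lpr_ct (f928250 IH) (Lpn v41774))
def v41773 : LQ := Led Lsl_at (LP (LK LD1_c10 LD2_c1 LD3_c54))
theorem f928244 : Led Lsl_at (LP (LK LD1_c10 LD2_c1 LD3_c54)) = v41773 :=
  Lrfl
theorem f928245 : Led Lsl_af (LP (LK LD1_c10 LD2_c1 LD3_c54)) = v41773 :=
  Lgr Lrot0 (Lpr_at (f928244 IH) (Lpn v41773))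
theorem f169835 : Led Lsl_gt (LP (LK LD1_c5 LD2_c5 LD3_c24)) = (LP (LK LD1_c10 LD2_c1 LD3_c54)) :=
  Lre_g IH (LK LD1_c5 LD2_c5 LD3_c24) (LK LD1_c10 LD2_c1 LD3_c54) Lrfl Lrfl
theorem f928246 : Led Lsl_ft (LP (LK LD1_c10 LD2_c1 LD3_c55)) = v41773 :=
  Lgr Lrot2 (Lpr_gt (K44.f177317 IH) (Lpr_gt (f169835 IH) (Lpr_af (f928245 IH) (Lpn v41773))))
def v41368 : LQ := Led Lsl_ft (LP (LK LD1_c9 LD2_c56 LD3_c58))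
theorem f925663 : Led Lsl_ft (LP (LK LD1_c9 LD2_c56 LD3_c58)) = v41368 :=
  Lrfl
theorem f925665 : Led Lsl_ff (LP (LK LD1_c9 LD2_c56 LD3_c58)) = v41368 :=
  Lgr Lrot3 (Lpr_ft (f925663 IH) (Lpn v41368))
theorem f928247 : Led Lsl_cf v41368 = v41773 :=
  Lgr Lrot108 (Lpe (f925665 IH) (Lpr_ct (K44.f177318 IH) (Lpr_ft (f928246 IH) (Lpn v41773))))
theorem f928253 : Led Lsl_at v41368 = v41774 :=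
  Lgr Lrot107 (Lpr_cf (f928247 IH) (Lpe (f928244 IH) (Lpr_cf (f928252 IH) (Lpn v41774))))
def v14200 : LQ := Led Lsl_ft (LP (LK LD1_c5 LD2_c3 LD3_c4))
theorem f720968 : Led Lsl_ft (LP (LK LD1_c5 LD2_c3 LD3_c4)) = v14200 :=
  Lrfl
theorem f925666 : Led Lsl_bt v14200 = v41368 :=
  Lgr Lrot35 (Lpe (f720968 IH) (Lpe (K44.f169630 IH) (Lpr_ff (f925665 IH) (Lpn v41368))))
theorem f720970 : Led Lsl_ff (LP (LK LD1_c5 LD2_c3 LD3_c4)) = v14200 :=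
  Lgr Lrot3 (Lpr_ft (f720968 IH) (Lpn v14200))
theorem f720971 : Led Lsl_at (LP (LK LD1_c5 LD2_c3 LD3_c5)) = v14200 :=
  Lgr Lrot66 (Lpr_ff (f720966 IH) (Lpe (f720962 IH) (Lpr_ff (f720970 IH) (Lpn v14200))))
theorem f169980 : Led Lsl_bt (LP (LK LD1_c9 LD2_c57 LD3_c0)) = (LP (LK LD1_c5 LD2_c3 LD3_c5)) :=
  Lre_b IH (LK LD1_c9 LD2_c57 LD3_c0) (LK LD1_c5 LD2_c3 LD3_c5) Lrfl Lrfl
def v41380 : LQ := Led Lsl_at (LP (LK LD1_c9 LD2_c57 LD3_c0))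
theorem f925713 : Led Lsl_at (LP (LK LD1_c9 LD2_c57 LD3_c0)) = v41380 :=
  Lrfl
theorem f925714 : Led Lsl_af (LP (LK LD1_c9 LD2_c57 LD3_c0)) = v41380 :=
  Lgr Lrot0 (Lpr_at (f925713 IH) (Lpn v41380))
theorem f928254 : Led Lsl_bf v41380 = v41774 :=
  Lgr Lrot81 (Lpe (f925714 IH) (Lpr_bt (f169980 IH) (Lpr_at (f720971 IH) (Lpr_bt (f925666 IH) (Lpr_at (f928253 IH) (Lpn v41774))))))
def v41149 : LQ := Led Lsl_ct (LP (LK LD1_c9 LD2_c53 LD3_c5))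
theorem f922316 : Led Lsl_ct (LP (LK LD1_c9 LD2_c53 LD3_c5)) = v41149 :=
  Lrfl
theorem f922317 : Led Lsl_cf (LP (LK LD1_c9 LD2_c53 LD3_c5)) = v41149 :=
  Lgr Lrot11 (Lpr_ct (f922316 IH) (Lpn v41149))
theorem f247885 : Led Lsl_gt (LP (LK LD1_c9 LD2_c53 LD3_c5)) = (LP (LK LD1_c5 LD2_c1 LD3_c24)) :=
  Lre_g IH (LK LD1_c9 LD2_c53 LD3_c5) (LK LD1_c5 LD2_c1 LD3_c24) Lrfl Lrfl
def v14178 : LQ := Led Lsl_bt (LP (LK LD1_c5 LD2_c1 LD3_c17))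
theorem f720855 : Led Lsl_bt (LP (LK LD1_c5 LD2_c1 LD3_c17)) = v14178 :=
  Lrfl
theorem f265908 : Led Lsl_bt (LP (LK LD1_c5 LD2_c1 LD3_c24)) = (LP (LK LD1_c2 LD2_c28 LD3_c25)) :=
  Lre_b IH (LK LD1_c5 LD2_c1 LD3_c24) (LK LD1_c2 LD2_c28 LD3_c25) Lrfl Lrfl
theorem f720857 : Led Lsl_cf (LP (LK LD1_c5 LD2_c1 LD3_c24)) = v14178 :=
  Lgr Lrot97 (Lpr_bt (f265908 IH) (Lpr_ct (K15.f192474 IH) (Lpr_bt (K15.f247890 IH) (Lpr_ct (K14.f192974 IH) (Lpr_bt (f720855 IH) (Lpn v14178))))))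
theorem f720856 : Led Lsl_bf (LP (LK LD1_c5 LD2_c1 LD3_c17)) = v14178 :=
  Lgr Lrot24 (Lpr_bt (f720855 IH) (Lpn v14178))
theorem f177349 : Led Lsl_bt (LP (LK LD1_c2 LD2_c29 LD3_c59)) = (LP (LK LD1_c5 LD2_c5 LD3_c24)) :=
  Lre_b IH (LK LD1_c2 LD2_c29 LD3_c59) (LK LD1_c5 LD2_c5 LD3_c24) Lrfl Lrfl
theorem f922318 : Led Lsl_bf (LP (LK LD1_c10 LD2_c1 LD3_c54)) = v41149 :=
  Lgr Lrot34 (Lpe (f169835 IH) (Lpe (f177349 IH) (Lpr_ct (K14.f169563 IH) (Lpe (K14.f31637 IH) (Lpe (K14.f242977 IH) (Lpe (K14.f253979 IH) (Lpr_bf (f720856 IH) (Lpe (f720857 IH) (Lpe (f247885 IH) (Lpr_cf (f922317 IH) (Lpn v41149)))))))))))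
def v41148 : LQ := Led Lsl_bt (LP (LK LD1_c9 LD2_c53 LD3_c5))
theorem f922314 : Led Lsl_bt (LP (LK LD1_c9 LD2_c53 LD3_c5)) = v41148 :=
  Lrfl
theorem f922315 : Led Lsl_bf (LP (LK LD1_c9 LD2_c53 LD3_c5)) = v41148 :=
  Lgr Lrot24 (Lpr_bt (f922314 IH) (Lpn v41148))
theorem f928261 : Led Lsl_ct v41380 = v41148 :=
  Lgr Lrot83 (Lpr_bf (f928254 IH) (Lpe (f928250 IH) (Lpr_bf (f922318 IH) (Lpe (f922316 IH) (Lpr_bf (f922315 IH) (Lpn v41148))))))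
theorem f928263 : Led Lsl_cf v41380 = v41148 :=
  Lgr Lrot11 (Lpr_ct (f928261 IH) (Lpn v41148))
theorem f169981 : Led Lsl_ct (LP (LK LD1_c9 LD2_c57 LD3_c0)) = (LP (LK LD1_c18 LD2_c12 LD3_c43)) :=
  Lre_c IH (LK LD1_c9 LD2_c57 LD3_c0) (LK LD1_c18 LD2_c12 LD3_c43) Lrfl Lrfl
theorem f928270 : Led Lsl_at (LP (LK LD1_c18 LD2_c12 LD3_c43)) = v41148 :=
  Lgr Lrot107 (Lpe (f169981 IH) (Lpr_af (f925714 IH) (Lpr_cf (f928263 IH) (Lpn v41148))))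
theorem f928260 : Led Lsl_bt v41380 = v41774 :=
  Lgr Lrot127 (Lpr_bf (f928254 IH) (Lpn v41774))
def v41366 : LQ := Led Lsl_at (LP (LK LD1_c9 LD2_c56 LD3_c58))
theorem f925657 : Led Lsl_at (LP (LK LD1_c9 LD2_c56 LD3_c58)) = v41366 :=
  Lrfl
theorem f925658 : Led Lsl_af (LP (LK LD1_c9 LD2_c56 LD3_c58)) = v41366 :=
  Lgr Lrot0 (Lpr_at (f925657 IH) (Lpn v41366))
theorem f928255 : Led Lsl_ff v41366 = v41774 :=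
  Lgr Lrot30 (Lpe (f925658 IH) (Lpr_ft (f925663 IH) (Lpr_at (f928253 IH) (Lpn v41774))))
def v41365 : LQ := Led Lsl_gf (LP (LK LD1_c9 LD2_c56 LD3_c58))
theorem f925654 : Led Lsl_gf (LP (LK LD1_c9 LD2_c56 LD3_c58)) = v41365 :=
  Lrfl
theorem f928259 : Led Lsl_gf v41365 = v41774 :=
  Lgr Lrot47 (Lpe (f925654 IH) (Lpr_af (f925658 IH) (Lpr_ff (f928255 IH) (Lpn v41774))))
theorem f586569 : Led Lsl_cf (LP (LK LD1_c17 LD2_c47 LD3_c41)) = (LP (LK LD1_c18 LD2_c32 LD3_c0)) :=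
  Lgr Lrot11 (Lpr_ct (K71.f586567 IH) (Lpn (LP (LK LD1_c18 LD2_c32 LD3_c0))))
theorem f586574 : Led Lsl_gf (LP (LK LD1_c17 LD2_c47 LD3_c41)) = (LP (LK LD1_c10 LD2_c11 LD3_c16)) :=
  Lgr Lrot129 (Lpr_cf (f586569 IH) (Lpr_bt (K71.f185403 IH) (Lpr_gt (K45.f185387 IH) (Lpe (K45.f22030 IH) (Lpr_ct (K10.f22029 IH) (Lpe (K10.f185354 IH) (Lpe (K10.f185399 IH) (Lpr_bt (K44.f185400 IH) (Lpr_gt (K44.f185401 IH) (Lpr_ct (K44.f185402 IH) (Lpn (LP (LK LD1_c10 LD2_c11 LD3_c16)))))))))))))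
theorem f584556 : Led Lsl_ft (LP (LK LD1_c10 LD2_c11 LD3_c16)) = (LP (LK LD1_c9 LD2_c56 LD3_c0)) :=
  Lgr Lrot4 (Lpe (K44.f185402 IH) (Lpr_ff (K44.f584552 IH) (Lpe (K44.f165341 IH) (Lpn (LP (LK LD1_c9 LD2_c56 LD3_c0))))))
theorem f584630 : Led Lsl_bt (LP (LK LD1_c18 LD2_c8 LD3_c54)) = (LP (LK LD1_c18 LD2_c10 LD3_c50)) :=
  Lgr Lrot35 (Lpr_ff (K44.f376917 IH) (Lpe (K44.f376950 IH) (Lpr_ff (K44.f584624 IH) (Lpn (LP (LK LD1_c18 LD2_c10 LD3_c50))))))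
theorem f584638 : Led Lsl_df (LP (LK LD1_c18 LD2_c8 LD3_c54)) = (LP (LK LD1_c18 LD2_c10 LD3_c49)) :=
  Lgr Lrot12 (Lpr_bt (f584630 IH) (Lpr_dt (K44.f299732 IH) (Lpr_bt (K44.f266128 IH) (Lpn (LP (LK LD1_c18 LD2_c10 LD3_c49))))))
theorem f376930 : Led Lsl_ft (LP (LK LD1_c18 LD2_c8 LD3_c54)) = (LP (LK LD1_c18 LD2_c32 LD3_c47)) :=
  Lgr Lrot48 (Lpr_ff (K44.f376917 IH) (Lpn (LP (LK LD1_c18 LD2_c32 LD3_c47))))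
theorem f257056 : Led Lsl_bt (LP (LK LD1_c10 LD2_c11 LD3_c19)) = (LP (LK LD1_c18 LD2_c33 LD3_c42)) :=
  Lre_b IH (LK LD1_c10 LD2_c11 LD3_c19) (LK LD1_c18 LD2_c33 LD3_c42) Lrfl Lrfl
theorem f584609 : Led Lsl_bt (LP (LK LD1_c18 LD2_c10 LD3_c49)) = (LP (LK LD1_c9 LD2_c56 LD3_c4)) :=
  Lre_b IH (LK LD1_c18 LD2_c10 LD3_c49) (LK LD1_c9 LD2_c56 LD3_c4) Lrfl Lrfl
theorem f584610 : Led Lsl_ft (LP (LK LD1_c18 LD2_c33 LD3_c42)) = (LP (LK LD1_c18 LD2_c10 LD3_c49)) :=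
  Lgr Lrot75 (Lpe (f257056 IH) (Lpr_ff (K44.f584587 IH) (Lpe (f584609 IH) (Lpn (LP (LK LD1_c18 LD2_c10 LD3_c49))))))
theorem f584654 : Led Lsl_dt (LP (LK LD1_c18 LD2_c32 LD3_c47)) = (LP (LK LD1_c18 LD2_c33 LD3_c42)) :=
  Lgr Lrot60 (Lpe (f376930 IH) (Lpr_df (f584638 IH) (Lpe (f584610 IH) (Lpn (LP (LK LD1_c18 LD2_c33 LD3_c42))))))
theorem f186761 : Led Lsl_dt (LP (LK LD1_c18 LD2_c32 LD3_c48)) = (LP (LK LD1_c10 LD2_c10 LD3_c52)) :=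
  Lre_d IH (LK LD1_c18 LD2_c32 LD3_c48) (LK LD1_c10 LD2_c10 LD3_c52) Lrfl Lrfl
theorem f584656 : Led Lsl_af (LP (LK LD1_c18 LD2_c32 LD3_c48)) = (LP (LK LD1_c18 LD2_c33 LD3_c42)) :=
  Lgr Lrot117 (Lpr_dt (f186761 IH) (Lpr_at (K44.f186763 IH) (Lpr_dt (f584654 IH) (Lpn (LP (LK LD1_c18 LD2_c33 LD3_c42))))))
theorem f251412 : Led Lsl_bt (LP (LK LD1_c18 LD2_c32 LD3_c48)) = (LP (LK LD1_c10 LD2_c10 LD3_c53)) :=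
  Lre_b IH (LK LD1_c18 LD2_c32 LD3_c48) (LK LD1_c10 LD2_c10 LD3_c53) Lrfl Lrfl
theorem f584661 : Led Lsl_at (LP (LK LD1_c9 LD2_c56 LD3_c0)) = (LP (LK LD1_c10 LD2_c11 LD3_c19)) :=
  Lgr Lrot67 (Lpe (f583315 IH) (Lpe (K26.f364435 IH) (Lpe (f251412 IH) (Lpr_af (f584656 IH) (Lpe (f257056 IH) (Lpn (LP (LK LD1_c10 LD2_c11 LD3_c19))))))))
theorem f586576 : Led Lsl_gt (LP (LK LD1_c17 LD2_c47 LD3_c41)) = (LP (LK LD1_c10 LD2_c11 LD3_c19)) :=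
  Lgr Lrot46 (Lpr_gf (f586574 IH) (Lpr_ft (f584556 IH) (Lpr_at (f584661 IH) (Lpn (LP (LK LD1_c10 LD2_c11 LD3_c19))))))
theorem f345139 : Led Lsl_gf (LP (LK LD1_c10 LD2_c10 LD3_c23)) = (LP (LK LD1_c9 LD2_c55 LD3_c42)) :=
  Lgr Lrot47 (Lpr_gt (K45.f185387 IH) (Lpe (K44.f313874 IH) (Lpr_ff (K45.f345129 IH) (Lpn (LP (LK LD1_c9 LD2_c55 LD3_c42))))))
theorem f313901 : Led Lsl_bf (LP (LK LD1_c9 LD2_c55 LD3_c42)) = (LP (LK LD1_c10 LD2_c10 LD3_c32)) :=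
  Lgr Lrot81 (Lpr_at (K45.f251529 IH) (Lpr_bt (K44.f169596 IH) (Lpr_at (K19.f313897 IH) (Lpr_bt (K71.f180629 IH) (Lpr_at (K44.f181926 IH) (Lpn (LP (LK LD1_c10 LD2_c10 LD3_c32))))))))
theorem f584512 : Led Lsl_bt (LP (LK LD1_c5 LD2_c10 LD3_c17)) = (LP (LK LD1_c10 LD2_c11 LD3_c18)) :=
  Lre_b IH (LK LD1_c5 LD2_c10 LD3_c17) (LK LD1_c10 LD2_c11 LD3_c18) Lrfl Lrfl
theorem f421613 : Led Lsl_gt (LP (LK LD1_c10 LD2_c11 LD3_c18)) = (LP (LK LD1_c18 LD2_c33 LD3_c38)) :=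
  Lre_g IH (LK LD1_c10 LD2_c11 LD3_c18) (LK LD1_c18 LD2_c33 LD3_c38) Lrfl Lrfl
theorem f586585 : Led Lsl_cf (LP (LK LD1_c18 LD2_c9 LD3_c57)) = (LP (LK LD1_c18 LD2_c33 LD3_c38)) :=
  Lgr Lrot125 (Lpe (K44.f342081 IH) (Lpe (K44.f240332 IH) (Lpe (f313901 IH) (Lpe (f345139 IH) (Lpe (K71.f185403 IH) (Lpe (f586569 IH) (Lpr_gt (f586576 IH) (Lpe (K44.f299718 IH) (Lpr_bt (f584512 IH) (Lpr_gt (f421613 IH) (Lpn (LP (LK LD1_c18 LD2_c33 LD3_c38)))))))))))))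
theorem f925655 : Led Lsl_bt (LP (LK LD1_c18 LD2_c33 LD3_c38)) = v41365 :=
  Lgr Lrot130 (Lpe (f586585 IH) (Lpe (K44.f169651 IH) (Lpe (K45.f165291 IH) (Lpr_bt (K45.f165289 IH) (Lpr_gf (K9.f177309 IH) (Lpe (K44.f169825 IH) (Lpr_ct (K44.f169834 IH) (Lpe (K44.f177317 IH) (Lpe (K44.f177318 IH) (Lpr_gf (f925654 IH) (Lpn v41365)))))))))))
theorem f345141 : Led Lsl_ct (LP (LK LD1_c10 LD2_c10 LD3_c23)) = (LP (LK LD1_c18 LD2_c32 LD3_c1)) :=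
  Lre_c IH (LK LD1_c10 LD2_c10 LD3_c23) (LK LD1_c18 LD2_c32 LD3_c1) Lrfl Lrfl
theorem f928264 : Led Lsl_gt (LP (LK LD1_c18 LD2_c32 LD3_c1)) = v41148 :=
  Lgr Lrot149 (Lpe (f345141 IH) (Lpr_gf (f345139 IH) (Lpr_bf (f313901 IH) (Lpr_ct (K44.f240332 IH) (Lpr_gf (K44.f342081 IH) (Lpr_cf (f586585 IH) (Lpr_bt (f925655 IH) (Lpr_gf (f928259 IH) (Lpe (f928260 IH) (Lpr_ct (f928261 IH) (Lpn v41148)))))))))))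
theorem f584470 : Led Lsl_bf (LP (LK LD1_c10 LD2_c11 LD3_c16)) = (LP (LK LD1_c10 LD2_c10 LD3_c55)) :=
  Lgr Lrot24 (Lpr_bt (K44.f584468 IH) (Lpn (LP (LK LD1_c10 LD2_c10 LD3_c55))))
theorem f583380 : Led Lsl_dt (LP (LK LD1_c27 LD2_c32 LD3_c54)) = (LP (LK LD1_c18 LD2_c53 LD3_c45)) :=
  Lgr Lrot42 (Lpr_df (K44.f583378 IH) (Lpn (LP (LK LD1_c18 LD2_c53 LD3_c45))))
theorem f584764 : Led Lsl_df (LP (LK LD1_c17 LD2_c47 LD3_c0)) = (LP (LK LD1_c18 LD2_c33 LD3_c1)) :=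
  Lgr Lrot155 (Lpr_gt (K44.f249527 IH) (Lpr_ct (K44.f288400 IH) (Lpr_gt (K44.f300037 IH) (Lpr_ct (K44.f584758 IH) (Lpr_dt (f583380 IH) (Lpr_cf (K44.f257787 IH) (Lpe (K44.f584756 IH) (Lpe (K19.f230261 IH) (Lpr_gf (K44.f544834 IH) (Lpn (LP (LK LD1_c18 LD2_c33 LD3_c1))))))))))))
theorem f254600 : Led Lsl_ct (LP (LK LD1_c18 LD2_c51 LD3_c32)) = (LP (LK LD1_c18 LD2_c33 LD3_c1)) :=
  Lgr Lrot59 (Lpr_cf (K37.f254597 IH) (Lpn (LP (LK LD1_c18 LD2_c33 LD3_c1))))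
theorem f254581 : Led Lsl_at (LP (LK LD1_c18 LD2_c51 LD3_c33)) = (LP (LK LD1_c10 LD2_c23 LD3_c40)) :=
  Lre_a IH (LK LD1_c18 LD2_c51 LD3_c33) (LK LD1_c10 LD2_c23 LD3_c40) Lrfl Lrfl
theorem f409558 : Led Lsl_gt (LP (LK LD1_c10 LD2_c25 LD3_c0)) = (LP (LK LD1_c18 LD2_c51 LD3_c32)) :=
  Lgr Lrot5 (Lpr_ft (K44.f409549 IH) (Lpr_at (f254581 IH) (Lpe (K37.f183699 IH) (Lpn (LP (LK LD1_c18 LD2_c51 LD3_c32))))))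
theorem f271351 : Led Lsl_ft (LP (LK LD1_c10 LD2_c27 LD3_c51)) = (LP (LK LD1_c10 LD2_c24 LD3_c55)) :=
  Lgr Lrot75 (Lpe (K44.f248229 IH) (Lpr_ff (K16.f271349 IH) (Lpe (K44.f193126 IH) (Lpn (LP (LK LD1_c10 LD2_c24 LD3_c55))))))
theorem f193140 : Led Lsl_at (LP (LK LD1_c10 LD2_c24 LD3_c55)) = (LP (LK LD1_c18 LD2_c53 LD3_c46)) :=
  Lre_a IH (LK LD1_c10 LD2_c24 LD3_c55) (LK LD1_c18 LD2_c53 LD3_c46) Lrfl Lrfl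
theorem f411397 : Led Lsl_gt (LP (LK LD1_c18 LD2_c58 LD3_c8)) = (LP (LK LD1_c18 LD2_c53 LD3_c46)) :=
  Lgr Lrot46 (Lpe (K44.f248221 IH) (Lpr_ft (f271351 IH) (Lpr_at (f193140 IH) (Lpn (LP (LK LD1_c18 LD2_c53 LD3_c46))))))
theorem f584821 : Led Lsl_dt (LP (LK LD1_c27 LD2_c34 LD3_c36)) = (LP (LK LD1_c18 LD2_c58 LD3_c8)) :=
  Lgr Lrot6 (Lpe (K44.f407422 IH) (Lpr_ct (K44.f230061 IH) (Lpr_gt (K44.f544717 IH) (Lpr_ct (K44.f300227 IH) (Lpr_df (f584764 IH) (Lpe (f254600 IH) (Lpe (f409558 IH) (Lpe (K44.f409525 IH) (Lpe (f411397 IH) (Lpn (LP (LK LD1_c18 LD2_c58 LD3_c8))))))))))))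
theorem f584823 : Led Lsl_df (LP (LK LD1_c27 LD2_c34 LD3_c36)) = (LP (LK LD1_c18 LD2_c58 LD3_c8)) :=
  Lgr Lrot38 (Lpr_dt (f584821 IH) (Lpn (LP (LK LD1_c18 LD2_c58 LD3_c8))))
theorem f230059 : Led Lsl_dt (LP (LK LD1_c28 LD2_c19 LD3_c60)) = (LP (LK LD1_c18 LD2_c51 LD3_c44)) :=
  Lre_d IH (LK LD1_c28 LD2_c19 LD3_c60) (LK LD1_c18 LD2_c51 LD3_c44) Lrfl Lrfl
theorem f188385 : Led Lsl_dt (LP (LK LD1_c5 LD2_c17 LD3_c57)) = (LP (LK LD1_c10 LD2_c25 LD3_c34)) :=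
  Lre_d IH (LK LD1_c5 LD2_c17 LD3_c57) (LK LD1_c10 LD2_c25 LD3_c34) Lrfl Lrfl
theorem f294389 : Led Lsl_ff (LP (LK LD1_c18 LD2_c51 LD3_c45)) = (LP (LK LD1_c10 LD2_c25 LD3_c34)) :=
  Lgr Lrot19 (Lpr_dt (K44.f230026 IH) (Lpr_ft (K37.f294365 IH) (Lpr_dt (f188385 IH) (Lpn (LP (LK LD1_c10 LD2_c25 LD3_c34))))))
theorem f188355 : Led Lsl_gt (LP (LK LD1_c10 LD2_c25 LD3_c34)) = (LP (LK LD1_c18 LD2_c54 LD3_c44)) :=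
  Lre_g IH (LK LD1_c10 LD2_c25 LD3_c34) (LK LD1_c18 LD2_c54 LD3_c44) Lrfl Lrfl
theorem f294501 : Led Lsl_gf (LP (LK LD1_c28 LD2_c19 LD3_c60)) = (LP (LK LD1_c18 LD2_c54 LD3_c44)) :=
  Lgr Lrot76 (Lpe (K37.f285485 IH) (Lpr_ff (f294389 IH) (Lpr_gt (f188355 IH) (Lpn (LP (LK LD1_c18 LD2_c54 LD3_c44))))))
theorem f584830 : Led Lsl_df (LP (LK LD1_c18 LD2_c54 LD3_c44)) = (LP (LK LD1_c18 LD2_c51 LD3_c31)) :=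
  Lgr Lrot153 (Lpe (f294501 IH) (Lpr_dt (f230059 IH) (Lpe (K37.f230039 IH) (Lpe (K44.f230055 IH) (Lpr_gf (K44.f407422 IH) (Lpr_df (f584823 IH) (Lpe (K44.f248221 IH) (Lpe (K38.f189535 IH) (Lpr_gt (K44.f32920 IH) (Lpn (LP (LK LD1_c18 LD2_c51 LD3_c31))))))))))))
theorem f584842 : Led Lsl_dt (LP (LK LD1_c18 LD2_c54 LD3_c44)) = (LP (LK LD1_c18 LD2_c51 LD3_c31)) :=
  Lgr Lrot42 (Lpr_df (f584830 IH) (Lpn (LP (LK LD1_c18 LD2_c51 LD3_c31))))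
theorem f584848 : Led Lsl_dt (LP (LK LD1_c17 LD2_c46 LD3_c61)) = (LP (LK LD1_c27 LD2_c32 LD3_c24)) :=
  Lgr Lrot105 (Lpe (K44.f43838 IH) (Lpe (K44.f288408 IH) (Lpr_gf (K44.f584283 IH) (Lpr_cf (K44.f417625 IH) (Lpr_gt (K44.f188386 IH) (Lpr_dt (f188385 IH) (Lpr_gt (f188355 IH) (Lpr_dt (f584842 IH) (Lpe (K44.f544598 IH) (Lpn (LP (LK LD1_c27 LD2_c32 LD3_c24))))))))))))
theorem f257073 : Led Lsl_ct (LP (LK LD1_c27 LD2_c33 LD3_c46)) = (LP (LK LD1_c17 LD2_c46 LD3_c61)) :=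
  Lre_c IH (LK LD1_c27 LD2_c33 LD3_c46) (LK LD1_c17 LD2_c46 LD3_c61) Lrfl Lrfl
theorem f230063 : Led Lsl_at (LP (LK LD1_c27 LD2_c32 LD3_c55)) = (LP (LK LD1_c32 LD2_c25 LD3_c61)) :=
  Lre_a IH (LK LD1_c27 LD2_c32 LD3_c55) (LK LD1_c32 LD2_c25 LD3_c61) Lrfl Lrfl
theorem f407413 : Led Lsl_ff (LP (LK LD1_c27 LD2_c32 LD3_c55)) = (LP (LK LD1_c27 LD2_c34 LD3_c38)) :=
  Lgr Lrot23 (Lpr_ct (K44.f230019 IH) (Lpr_ft (K44.f407411 IH) (Lpr_ct (K44.f212372 IH) (Lpn (LP (LK LD1_c27 LD2_c34 LD3_c38))))))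
theorem f584448 : Led Lsl_gt (LP (LK LD1_c27 LD2_c34 LD3_c38)) = (LP (LK LD1_c27 LD2_c33 LD3_c46)) :=
  Lgr Lrot5 (Lpe (f407413 IH) (Lpr_at (f230063 IH) (Lpr_gf (K44.f584446 IH) (Lpn (LP (LK LD1_c27 LD2_c33 LD3_c46))))))
theorem f248226 : Led Lsl_gt (LP (LK LD1_c18 LD2_c58 LD3_c9)) = (LP (LK LD1_c10 LD2_c27 LD3_c51)) :=
  Lre_g IH (LK LD1_c18 LD2_c58 LD3_c9) (LK LD1_c10 LD2_c27 LD3_c51) Lrfl Lrfl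
theorem f584856 : Led Lsl_df (LP (LK LD1_c27 LD2_c34 LD3_c37)) = (LP (LK LD1_c18 LD2_c58 LD3_c9)) :=
  Lgr Lrot155 (Lpr_gt (f212413 IH) (Lpr_ct (K44.f212372 IH) (Lpr_gt (f584448 IH) (Lpr_ct (f257073 IH) (Lpr_dt (f584848 IH) (Lpr_cf (K44.f544601 IH) (Lpe (K44.f32920 IH) (Lpr_cf (K37.f254585 IH) (Lpe (f248226 IH) (Lpn (LP (LK LD1_c18 LD2_c58 LD3_c9))))))))))))
theorem f248232 : Led Lsl_ct (LP (LK LD1_c28 LD2_c25 LD3_c36)) = (LP (LK LD1_c18 LD2_c58 LD3_c9)) :=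
  Lre_c IH (LK LD1_c28 LD2_c25 LD3_c36) (LK LD1_c18 LD2_c58 LD3_c9) Lrfl Lrfl
theorem f377972 : Led Lsl_ft (LP (LK LD1_c10 LD2_c24 LD3_c40)) = (LP (LK LD1_c18 LD2_c38 LD3_c44)) :=
  Lgr Lrot48 (Lpr_ff (K44.f377968 IH) (Lpn (LP (LK LD1_c18 LD2_c38 LD3_c44))))
theorem f364559 : Led Lsl_ff (LP (LK LD1_c5 LD2_c17 LD3_c32)) = (LP (LK LD1_c10 LD2_c20 LD3_c29)) :=
  Lgr Lrot19 (Lpr_dt (K16.f188421 IH) (Lpr_ft (K26.f364551 IH) (Lpr_dt (K18.f284928 IH) (Lpn (LP (LK LD1_c10 LD2_c20 LD3_c29))))))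
theorem f377974 : Led Lsl_bf (LP (LK LD1_c10 LD2_c20 LD3_c29)) = (LP (LK LD1_c18 LD2_c38 LD3_c44)) :=
  Lgr Lrot61 (Lpe (f364559 IH) (Lpr_bt (K44.f188413 IH) (Lpr_ft (f377972 IH) (Lpn (LP (LK LD1_c18 LD2_c38 LD3_c44))))))
theorem f583756 : Led Lsl_gt (LP (LK LD1_c27 LD2_c34 LD3_c7)) = (LP (LK LD1_c28 LD2_c25 LD3_c36)) :=
  Lgr Lrot82 (Lpr_bf (K19.f248454 IH) (Lpr_ct (K44.f185527 IH) (Lpr_gf (K44.f583744 IH) (Lpe (K44.f258047 IH) (Lpe (f377974 IH) (Lpr_gf (K26.f264931 IH) (Lpe (K44.f254568 IH) (Lpr_ct (K38.f189535 IH) (Lpe (f248226 IH) (Lpe (f248232 IH) (Lpn (LP (LK LD1_c28 LD2_c25 LD3_c36)))))))))))))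
theorem f584863 : Led Lsl_gt (LP (LK LD1_c18 LD2_c9 LD3_c21)) = (LP (LK LD1_c17 LD2_c47 LD3_c12)) :=
  Lgr Lrot9 (Lpe (K44.f583365 IH) (Lpr_gt (K44.f248049 IH) (Lpr_ct (K18.f300018 IH) (Lpr_gt (f300025 IH) (Lpr_ct (f584224 IH) (Lpr_df (f584856 IH) (Lpe (f248232 IH) (Lpe (f583756 IH) (Lpe (K19.f248978 IH) (Lpn (LP (LK LD1_c17 LD2_c47 LD3_c12))))))))))))
theorem f249491 : Led Lsl_bt (LP (LK LD1_c9 LD2_c55 LD3_c7)) = (LP (LK LD1_c18 LD2_c9 LD3_c21)) :=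
  Lre_b IH (LK LD1_c9 LD2_c55 LD3_c7) (LK LD1_c18 LD2_c9 LD3_c21) Lrfl Lrfl
theorem f249520 : Led Lsl_ct (LP (LK LD1_c9 LD2_c55 LD3_c7)) = (LP (LK LD1_c18 LD2_c9 LD3_c22)) :=
  Lre_c IH (LK LD1_c9 LD2_c55 LD3_c7) (LK LD1_c18 LD2_c9 LD3_c22) Lrfl Lrfl
theorem f586578 : Led Lsl_gt (LP (LK LD1_c18 LD2_c32 LD3_c0)) = (LP (LK LD1_c18 LD2_c9 LD3_c22)) :=
  Lgr Lrot149 (Lpe (K71.f586567 IH) (Lpr_gf (f586574 IH) (Lpr_bf (f584470 IH) (Lpe (K14.f248239 IH) (Lpr_gf (K15.f266179 IH) (Lpe (K14.f248450 IH) (Lpr_bt (K19.f248463 IH) (Lpe (f584863 IH) (Lpe (f249491 IH) (Lpr_ct (f249520 IH) (Lpn (LP (LK LD1_c18 LD2_c9 LD3_c22)))))))))))))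
theorem f299853 : Led Lsl_at (LP (LK LD1_c5 LD2_c9 LD3_c56)) = (LP (LK LD1_c2 LD2_c32 LD3_c0)) :=
  Lre_a IH (LK LD1_c5 LD2_c9 LD3_c56) (LK LD1_c2 LD2_c32 LD3_c0) Lrfl Lrfl
theorem f299864 : Led Lsl_gt (LP (LK LD1_c5 LD2_c3 LD3_c6)) = (LP (LK LD1_c5 LD2_c9 LD3_c55)) :=
  Lgr Lrot5 (Lpr_ft (K18.f299851 IH) (Lpr_at (f299853 IH) (Lpe (K69.f180734 IH) (Lpn (LP (LK LD1_c5 LD2_c9 LD3_c55))))))
theorem f180735 : Led Lsl_bt (LP (LK LD1_c10 LD2_c10 LD3_c36)) = (LP (LK LD1_c5 LD2_c9 LD3_c55)) :=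
  Lre_b IH (LK LD1_c10 LD2_c10 LD3_c36) (LK LD1_c5 LD2_c9 LD3_c55) Lrfl Lrfl
theorem f299867 : Led Lsl_ct (LP (LK LD1_c10 LD2_c10 LD3_c36)) = (LP (LK LD1_c18 LD2_c32 LD3_c24)) :=
  Lre_c IH (LK LD1_c10 LD2_c10 LD3_c36) (LK LD1_c18 LD2_c32 LD3_c24) Lrfl Lrfl
theorem f586582 : Led Lsl_gf (LP (LK LD1_c18 LD2_c32 LD3_c1)) = (LP (LK LD1_c18 LD2_c32 LD3_c24)) :=
  Lgr Lrot126 (Lpe (f345141 IH) (Lpr_bt (K71.f586553 IH) (Lpr_gt (f586578 IH) (Lpr_ct (K53.f249492 IH) (Lpe (K44.f299684 IH) (Lpe (K18.f299649 IH) (Lpe (K18.f299844 IH) (Lpr_gt (f299864 IH) (Lpe (f180735 IH) (Lpr_ct (f299867 IH) (Lpn (LP (LK LD1_c18 LD2_c32 LD3_c24)))))))))))))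
theorem f928271 : Led Lsl_ff (LP (LK LD1_c18 LD2_c12 LD3_c43)) = (LP (LK LD1_c18 LD2_c32 LD3_c24)) :=
  Lgr Lrot52 (Lpr_at (f928270 IH) (Lpe (f928264 IH) (Lpr_gf (f586582 IH) (Lpn (LP (LK LD1_c18 LD2_c32 LD3_c24))))))
theorem f928272 : Led Lsl_ft (LP (LK LD1_c18 LD2_c32 LD3_c24)) = (LP (LK LD1_c18 LD2_c12 LD3_c43)) :=
  Leop (Lpr_ff (f928271 IH) (Lpn (LP (LK LD1_c18 LD2_c32 LD3_c24))))
theorem seed_2537 : LEOK LG_f (LK LD1_c18 LD2_c32 LD3_c24) :=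
  Leoe_f (LK LD1_c18 LD2_c32 LD3_c24) (f928272 IH)
def v41370 : LQ := Led Lsl_ft (LP (LK LD1_c9 LD2_c56 LD3_c59))
theorem f925677 : Led Lsl_ft (LP (LK LD1_c9 LD2_c56 LD3_c59)) = v41370 :=
  Lrfl
theorem f925680 : Led Lsl_ff (LP (LK LD1_c9 LD2_c56 LD3_c59)) = v41370 :=
  Lgr Lrot3 (Lpr_ft (f925677 IH) (Lpn v41370))
theorem f169959 : Led Lsl_ct (LP (LK LD1_c9 LD2_c56 LD3_c59)) = (LP (LK LD1_c5 LD2_c3 LD3_c4)) :=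
  Lre_c IH (LK LD1_c9 LD2_c56 LD3_c59) (LK LD1_c5 LD2_c3 LD3_c4) Lrfl Lrfl
theorem f925682 : Led Lsl_ct v14200 = v41370 :=
  Lgr Lrot40 (Lpe (f720968 IH) (Lpe (f169959 IH) (Lpr_ff (f925680 IH) (Lpn v41370))))
theorem f185323 : Led Lsl_ct (LP (LK LD1_c5 LD2_c9 LD3_c54)) = (LP (LK LD1_c10 LD2_c10 LD3_c34)) :=
  Lre_c IH (LK LD1_c5 LD2_c9 LD3_c54) (LK LD1_c10 LD2_c10 LD3_c34) Lrfl Lrfl
def v14427 : LQ := Led Lsl_ft (LP (LK LD1_c5 LD2_c9 LD3_c54))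
theorem f722465 : Led Lsl_ft (LP (LK LD1_c5 LD2_c9 LD3_c54)) = v14427 :=
  Lrfl
theorem f722468 : Led Lsl_ff (LP (LK LD1_c5 LD2_c9 LD3_c54)) = v14427 :=
  Lgr Lrot3 (Lpr_ft (f722465 IH) (Lpn v14427))
def v14426 : LQ := Led Lsl_at (LP (LK LD1_c5 LD2_c9 LD3_c54))
theorem f722459 : Led Lsl_at (LP (LK LD1_c5 LD2_c9 LD3_c54)) = v14426 :=
  Lrfl
theorem f722460 : Led Lsl_af (LP (LK LD1_c5 LD2_c9 LD3_c54)) = v14426 :=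
  Lgr Lrot0 (Lpr_at (f722459 IH) (Lpn v14426))
theorem f722461 : Led Lsl_ft (LP (LK LD1_c5 LD2_c9 LD3_c55)) = v14426 :=
  Lgr Lrot2 (Lpr_gt (K69.f180734 IH) (Lpr_gt (K44.f165578 IH) (Lpr_af (f722460 IH) (Lpn v14426))))
theorem f722463 : Led Lsl_ff (LP (LK LD1_c5 LD2_c9 LD3_c55)) = v14426 :=
  Lgr Lrot3 (Lpr_ft (f722461 IH) (Lpn v14426))
theorem f722469 : Led Lsl_at (LP (LK LD1_c5 LD2_c9 LD3_c55)) = v14427 :=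
  Lgr Lrot66 (Lpr_ff (f722463 IH) (Lpe (f722459 IH) (Lpr_ff (f722468 IH) (Lpn v14427))))
def v41383 : LQ := Led Lsl_ft (LP (LK LD1_c9 LD2_c57 LD3_c0))
theorem f925730 : Led Lsl_ft (LP (LK LD1_c9 LD2_c57 LD3_c0)) = v41383 :=
  Lrfl
theorem f925731 : Led Lsl_bf v14199 = v41383 :=
  Lgr Lrot61 (Lpe (f720966 IH) (Lpr_bt (K44.f306341 IH) (Lpr_ft (f925730 IH) (Lpn v41383))))
theorem f169987 : Led Lsl_ct (LP (LK LD1_c18 LD2_c12 LD3_c43)) = (LP (LK LD1_c9 LD2_c57 LD3_c0)) :=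
  Lre_c IH (LK LD1_c18 LD2_c12 LD3_c43) (LK LD1_c9 LD2_c57 LD3_c0) Lrfl Lrfl
theorem f928275 : v41383 = (LP (LK LD1_c10 LD2_c10 LD3_c36)) :=
  (Llr Lrot4 (Lpe (f925730 IH) (Lpe (f169987 IH) (Lpr_ff (f928271 IH) (Lpe (f299867 IH) (Lpn (LP (LK LD1_c10 LD2_c10 LD3_c36)))))))).symm
theorem f928278 : v14199 = (LP (LK LD1_c5 LD2_c9 LD3_c55)) :=
  Lefun (Lecon (Lfl_bf (f925731 IH)) (f928275 IH)) (f180735 IH)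
theorem f928279 : (LP (LK LD1_c5 LD2_c3 LD3_c4)) = v14427 :=
  Lefun (Lecon (Lfl_af (f720963 IH)) (f928278 IH)) (f722469 IH)
theorem f928299 : (LP (LK LD1_c5 LD2_c9 LD3_c54)) = v14200 :=
  Lefun (Lecon (Lfl_ff (f722468 IH)) (f928279 IH).symm) (f720968 IH)
theorem f928315 : v41370 = (LP (LK LD1_c10 LD2_c10 LD3_c34)) :=
  Lefun (Lecon (f925682 IH) (f928299 IH).symm) (f185323 IH)
theorem f925673 : Led Lsl_ff (LP (LK LD1_c9 LD2_c57 LD3_c1)) = v41369 :=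
  Lgr Lrot3 (Lpr_ft (f925671 IH) (Lpn v41369))
theorem f925681 : Led Lsl_at (LP (LK LD1_c9 LD2_c57 LD3_c1)) = v41370 :=
  Lgr Lrot66 (Lpr_ff (f925673 IH) (Lpe (f925667 IH) (Lpr_ff (f925680 IH) (Lpn v41370))))
theorem f185330 : Led Lsl_gt (LP (LK LD1_c18 LD2_c32 LD3_c18)) = (LP (LK LD1_c10 LD2_c10 LD3_c34)) :=
  Lre_g IH (LK LD1_c18 LD2_c32 LD3_c18) (LK LD1_c10 LD2_c10 LD3_c34) Lrfl Lrfl
theorem f928424 : Led Lsl_gt v41369 = (LP (LK LD1_c18 LD2_c32 LD3_c18)) :=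
  Lgr Lrot5 (Lpe (f925673 IH) (Lpr_at (f925681 IH) (Lpqs (f928315 IH) (Lpe (f185330 IH) (Lpn (LP (LK LD1_c18 LD2_c32 LD3_c18)))))))
theorem f925670 : Led Lsl_ct v14199 = v41369 :=
  Lgr Lrot59 (Lpr_cf (f925669 IH) (Lpn v41369))
theorem f242467 : Led Lsl_ct (LP (LK LD1_c5 LD2_c9 LD3_c55)) = (LP (LK LD1_c10 LD2_c10 LD3_c37)) :=
  Lre_c IH (LK LD1_c5 LD2_c9 LD3_c55) (LK LD1_c10 LD2_c10 LD3_c37) Lrfl Lrfl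
theorem f928282 : v41369 = (LP (LK LD1_c10 LD2_c10 LD3_c37)) :=
  Lefun (Lecon (f925670 IH) (f928278 IH)) (f242467 IH)
theorem f242460 : Led Lsl_ct (LP (LK LD1_c10 LD2_c10 LD3_c37)) = (LP (LK LD1_c5 LD2_c9 LD3_c55)) :=
  Lre_c IH (LK LD1_c10 LD2_c10 LD3_c37) (LK LD1_c5 LD2_c9 LD3_c55) Lrfl Lrfl
theorem f180624 : Led Lsl_dt (LP (LK LD1_c2 LD2_c32 LD3_c0)) = (LP (LK LD1_c5 LD2_c9 LD3_c57)) :=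
  Lre_d IH (LK LD1_c2 LD2_c32 LD3_c0) (LK LD1_c5 LD2_c9 LD3_c57) Lrfl Lrfl
theorem f249886 : Led Lsl_ct (LP (LK LD1_c5 LD2_c10 LD3_c37)) = (LP (LK LD1_c10 LD2_c11 LD3_c57)) :=
  Lre_c IH (LK LD1_c5 LD2_c10 LD3_c37) (LK LD1_c10 LD2_c11 LD3_c57) Lrfl Lrfl
theorem f343370 : Led Lsl_dt (LP (LK LD1_c18 LD2_c34 LD3_c48)) = (LP (LK LD1_c10 LD2_c11 LD3_c57)) :=
  Lre_d IH (LK LD1_c18 LD2_c34 LD3_c48) (LK LD1_c10 LD2_c11 LD3_c57) Lrfl Lrfl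
theorem f406506 : Led Lsl_dt (LP (LK LD1_c18 LD2_c32 LD3_c18)) = (LP (LK LD1_c28 LD2_c6 LD3_c50)) :=
  Lre_d IH (LK LD1_c18 LD2_c32 LD3_c18) (LK LD1_c28 LD2_c6 LD3_c50) Lrfl Lrfl
theorem f928426 : Led Lsl_gf (LP (LK LD1_c18 LD2_c34 LD3_c48)) = (LP (LK LD1_c28 LD2_c6 LD3_c50)) :=
  Lgr Lrot143 (Lpr_dt (f343370 IH) (Lpe (f249886 IH) (Lpr_df (K53.f722474 IH) (Lpe (K53.f722471 IH) (Lpe (f180624 IH) (Lpe (K69.f180734 IH) (Lpe (f242460 IH) (Lpq (f928282 IH) (Lpr_gt (f928424 IH) (Lpr_dt (f406506 IH) (Lpn (LP (LK LD1_c28 LD2_c6 LD3_c50)))))))))))))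
theorem f928427 : Led Lsl_gt (LP (LK LD1_c28 LD2_c6 LD3_c50)) = (LP (LK LD1_c18 LD2_c34 LD3_c48)) :=
  Leop (Lpr_gf (f928426 IH) (Lpn (LP (LK LD1_c28 LD2_c6 LD3_c50))))
theorem seed_2538 : LEOK LG_g (LK LD1_c28 LD2_c6 LD3_c50) :=
  Leoe_g (LK LD1_c28 LD2_c6 LD3_c50) (f928427 IH)
def v41792 : LQ := Led Lsl_dt (LP (LK LD1_c10 LD2_c2 LD3_c15))
theorem f928651 : Led Lsl_dt (LP (LK LD1_c10 LD2_c2 LD3_c15)) = v41792 :=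
  Lrfl
theorem f928654 : Led Lsl_df (LP (LK LD1_c10 LD2_c2 LD3_c15)) = v41792 :=
  Lgr Lrot38 (Lpr_dt (f928651 IH) (Lpn v41792))
theorem f264292 : Led Lsl_bt (LP (LK LD1_c10 LD2_c2 LD3_c15)) = (LP (LK LD1_c5 LD2_c5 LD3_c33)) :=
  Lre_b IH (LK LD1_c10 LD2_c2 LD3_c15) (LK LD1_c5 LD2_c5 LD3_c33) Lrfl Lrfl
def v14221 : LQ := Led Lsl_gt (LP (LK LD1_c5 LD2_c3 LD3_c34))
theorem f721062 : Led Lsl_gt (LP (LK LD1_c5 LD2_c3 LD3_c34)) = v14221 :=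
  Lrfl
theorem f721070 : Led Lsl_dt (LP (LK LD1_c5 LD2_c5 LD3_c33)) = v14221 :=
  Lgr Lrot37 (Lpr_et (K15.f180613 IH) (Lpr_gt (K10.f186721 IH) (Lpr_dt (K10.f185397 IH) (Lpe (K10.f186723 IH) (Lpe (K2.f32286 IH) (Lpr_et (K10.f48573 IH) (Lpr_gt (K9.f165778 IH) (Lpe (K14.f165824 IH) (Lpr_dt (K22.f165825 IH) (Lpr_gt (f721062 IH) (Lpn v14221)))))))))))
theorem f928656 : Led Lsl_bt v14221 = v41792 :=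
  Lgr Lrot95 (Lpe (f721070 IH) (Lpe (f264292 IH) (Lpr_df (f928654 IH) (Lpn v41792))))
theorem f276124 : Led Lsl_dt (LP (LK LD1_c10 LD2_c12 LD3_c9)) = (LP (LK LD1_c10 LD2_c2 LD3_c18)) :=
  Lgr Lrot42 (Lpr_df (K23.f276119 IH) (Lpn (LP (LK LD1_c10 LD2_c2 LD3_c18))))
theorem f721072 : Led Lsl_ff (LP (LK LD1_c10 LD2_c12 LD3_c9)) = v14221 :=
  Lgr Lrot19 (Lpr_dt (f276124 IH) (Lpr_ft (K18.f264285 IH) (Lpr_dt (f721070 IH) (Lpn v14221))))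
theorem f721073 : Led Lsl_ft (LP (LK LD1_c10 LD2_c12 LD3_c9)) = v14221 :=
  Lgr Lrot48 (Lpr_ff (f721072 IH) (Lpn v14221))
theorem f276128 : Led Lsl_bt (LP (LK LD1_c18 LD2_c35 LD3_c4)) = (LP (LK LD1_c10 LD2_c12 LD3_c9)) :=
  Lre_b IH (LK LD1_c18 LD2_c35 LD3_c4) (LK LD1_c10 LD2_c12 LD3_c9) Lrfl Lrfl
theorem f928657 : Led Lsl_ff (LP (LK LD1_c18 LD2_c35 LD3_c4)) = v41792 :=
  Lgr Lrot25 (Lpr_bt (f276128 IH) (Lpr_ft (f721073 IH) (Lpr_bt (f928656 IH) (Lpn v41792))))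
theorem f928658 : Led Lsl_ft (LP (LK LD1_c18 LD2_c35 LD3_c4)) = v41792 :=
  Lgr Lrot48 (Lpr_ff (f928657 IH) (Lpn v41792))
theorem f264293 : Led Lsl_at (LP (LK LD1_c18 LD2_c20 LD3_c29)) = (LP (LK LD1_c10 LD2_c2 LD3_c15)) :=
  Lre_a IH (LK LD1_c18 LD2_c20 LD3_c29) (LK LD1_c10 LD2_c2 LD3_c15) Lrfl Lrfl
theorem f412791 : Led Lsl_dt (LP (LK LD1_c9 LD2_c55 LD3_c56)) = (LP (LK LD1_c5 LD2_c18 LD3_c51)) :=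
  Lgr Lrot57 (Lpr_gf (K44.f410254 IH) (Lpe (K44.f264218 IH) (Lpe (K45.f410263 IH) (Lpr_dt (K44.f412784 IH) (Lpr_gt (K44.f48510 IH) (Lpr_dt (K10.f48481 IH) (Lpe (K44.f48498 IH) (Lpe (K2.f48576 IH) (Lpe (K45.f48584 IH) (Lpn (LP (LK LD1_c5 LD2_c18 LD3_c51))))))))))))
theorem f35084 : Led Lsl_et (LP (LK LD1_c5 LD2_c16 LD3_c39)) = (LP (LK LD1_c2 LD2_c35 LD3_c3)) :=
  Lre_e IH (LK LD1_c5 LD2_c16 LD3_c39) (LK LD1_c2 LD2_c35 LD3_c3) Lrfl Lrfl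
theorem f35085 : Led Lsl_dt (LP (LK LD1_c5 LD2_c16 LD3_c39)) = (LP (LK LD1_c10 LD2_c22 LD3_c50)) :=
  Lre_d IH (LK LD1_c5 LD2_c16 LD3_c39) (LK LD1_c10 LD2_c22 LD3_c50) Lrfl Lrfl
theorem f48585 : Led Lsl_gt (LP (LK LD1_c10 LD2_c22 LD3_c50)) = (LP (LK LD1_c18 LD2_c50 LD3_c8)) :=
  Lre_g IH (LK LD1_c10 LD2_c22 LD3_c50) (LK LD1_c18 LD2_c50 LD3_c8) Lrfl Lrfl
theorem f412907 : Led Lsl_dt (LP (LK LD1_c18 LD2_c20 LD3_c29)) = (LP (LK LD1_c18 LD2_c50 LD3_c8)) :=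
  Lgr Lrot37 (Lpr_et (K45.f264295 IH) (Lpe (K44.f410254 IH) (Lpr_dt (f412791 IH) (Lpr_gt (K45.f48584 IH) (Lpe (K44.f48583 IH) (Lpe (K10.f48563 IH) (Lpr_gt (K44.f48580 IH) (Lpe (f35084 IH) (Lpr_dt (f35085 IH) (Lpr_gt (f48585 IH) (Lpn (LP (LK LD1_c18 LD2_c50 LD3_c8)))))))))))))
theorem f412909 : Led Lsl_df (LP (LK LD1_c18 LD2_c20 LD3_c29)) = (LP (LK LD1_c18 LD2_c50 LD3_c8)) :=
  Lgr Lrot38 (Lpr_dt (f412907 IH) (Lpn (LP (LK LD1_c18 LD2_c50 LD3_c8))))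
theorem f928652 : Led Lsl_af (LP (LK LD1_c18 LD2_c50 LD3_c8)) = v41792 :=
  Lgr Lrot117 (Lpe (f412909 IH) (Lpr_at (f264293 IH) (Lpr_dt (f928651 IH) (Lpn v41792))))
theorem f928659 : Led Lsl_gt (LP (LK LD1_c18 LD2_c35 LD3_c4)) = (LP (LK LD1_c10 LD2_c22 LD3_c50)) :=
  Lgr Lrot5 (Lpr_ft (f928658 IH) (Lpe (f928652 IH) (Lpe (f48585 IH) (Lpn (LP (LK LD1_c10 LD2_c22 LD3_c50))))))
theorem f928660 : Led Lsl_gt (LP (LK LD1_c18 LD2_c35 LD3_c4)) = (LP (LK LD1_c10 LD2_c22 LD3_c50)) :=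
  Leop (Lpe (f928659 IH) (Lpn (LP (LK LD1_c18 LD2_c35 LD3_c4))))
theorem seed_2539 : LEOK LG_g (LK LD1_c18 LD2_c35 LD3_c4) :=
  Leoe_g (LK LD1_c18 LD2_c35 LD3_c4) (f928660 IH)
def v41799 : LQ := Led Lsl_at (LP (LK LD1_c10 LD2_c2 LD3_c22))
theorem f928699 : Led Lsl_at (LP (LK LD1_c10 LD2_c2 LD3_c22)) = v41799 :=
  Lrfl
theorem f180565 : Led Lsl_bt (LP (LK LD1_c10 LD2_c2 LD3_c22)) = (LP (LK LD1_c18 LD2_c20 LD3_c37)) :=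
  Lre_b IH (LK LD1_c10 LD2_c2 LD3_c22) (LK LD1_c18 LD2_c20 LD3_c37) Lrfl Lrfl
theorem f412965 : Led Lsl_dt (LP (LK LD1_c5 LD2_c16 LD3_c46)) = (LP (LK LD1_c10 LD2_c2 LD3_c22)) :=
  Lgr Lrot79 (Lpe (K44.f35014 IH) (Lpr_df (K53.f412962 IH) (Lpe (f180565 IH) (Lpn (LP (LK LD1_c10 LD2_c2 LD3_c22))))))
def v14658 : LQ := Led Lsl_at (LP (LK LD1_c5 LD2_c16 LD3_c46))
theorem f724832 : Led Lsl_at (LP (LK LD1_c5 LD2_c16 LD3_c46)) = v14658 :=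
  Lrfl
theorem f724833 : Led Lsl_af (LP (LK LD1_c5 LD2_c16 LD3_c46)) = v14658 :=
  Lgr Lrot0 (Lpr_at (f724832 IH) (Lpn v14658))
theorem f928701 : Led Lsl_df v14658 = v41799 :=
  Lgr Lrot18 (Lpe (f724833 IH) (Lpr_dt (f412965 IH) (Lpr_at (f928699 IH) (Lpn v41799))))
theorem f35012 : Led Lsl_gt (LP (LK LD1_c5 LD2_c16 LD3_c47)) = (LP (LK LD1_c2 LD2_c35 LD3_c6)) :=
  Lre_g IH (LK LD1_c5 LD2_c16 LD3_c47) (LK LD1_c2 LD2_c35 LD3_c6) Lrfl Lrfl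
theorem f724834 : Led Lsl_ft (LP (LK LD1_c5 LD2_c16 LD3_c47)) = v14658 :=
  Lgr Lrot2 (Lpr_gt (f35012 IH) (Lpr_gt (K44.f35013 IH) (Lpr_af (f724833 IH) (Lpn v14658))))
theorem f724835 : Led Lsl_ff (LP (LK LD1_c5 LD2_c16 LD3_c47)) = v14658 :=
  Lgr Lrot3 (Lpr_ft (f724834 IH) (Lpn v14658))
def v14661 : LQ := Led Lsl_dt (LP (LK LD1_c5 LD2_c16 LD3_c47))
theorem f724844 : Led Lsl_dt (LP (LK LD1_c5 LD2_c16 LD3_c47)) = v14661 :=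
  Lrfl
theorem f928703 : Led Lsl_ft v14661 = v41799 :=
  Lgr Lrot54 (Lpe (f724844 IH) (Lpr_ff (f724835 IH) (Lpr_df (f928701 IH) (Lpn v41799))))
theorem f928700 : Led Lsl_af (LP (LK LD1_c10 LD2_c2 LD3_c22)) = v41799 :=
  Lgr Lrot0 (Lpr_at (f928699 IH) (Lpn v41799))
def v14294 : LQ := Led Lsl_gf (LP (LK LD1_c5 LD2_c5 LD3_c39))
theorem f721771 : Led Lsl_gf (LP (LK LD1_c5 LD2_c5 LD3_c39)) = v14294 :=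
  Lrfl
theorem f928705 : v14661 = v14294 :=
  (Llr Lrot52 (Lpr_ft (f928703 IH) (Lpe (f928700 IH) (Lpe (K45.f180547 IH) (Lpr_gf (f721771 IH) (Lpn v14294)))))).symm
def v41684 : LQ := Led Lsl_at (LP (LK LD1_c10 LD2_c0 LD3_c10))
theorem f927883 : Led Lsl_at (LP (LK LD1_c10 LD2_c0 LD3_c10)) = v41684 :=
  Lrfl
theorem f180644 : Led Lsl_at (LP (LK LD1_c18 LD2_c43 LD3_c45)) = (LP (LK LD1_c10 LD2_c18 LD3_c54)) :=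
  Lre_a IH (LK LD1_c18 LD2_c43 LD3_c45) (LK LD1_c10 LD2_c18 LD3_c54) Lrfl Lrfl
theorem f927886 : Led Lsl_ff (LP (LK LD1_c18 LD2_c43 LD3_c45)) = v41684 :=
  Lgr Lrot30 (Lpr_at (f180644 IH) (Lpe (f923930 IH) (Lpr_at (f927883 IH) (Lpn v41684))))
theorem f927889 : Led Lsl_ct (LP (LK LD1_c10 LD2_c23 LD3_c8)) = v41684 :=
  Lgr Lrot40 (Lpe (f923948 IH) (Lpr_cf (f923957 IH) (Lpr_ff (f927886 IH) (Lpn v41684))))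
theorem f923139 : Led Lsl_ct (LP (LK LD1_c18 LD2_c20 LD3_c35)) = (LP (LK LD1_c18 LD2_c39 LD3_c15)) :=
  Lgr Lrot59 (Lpr_cf (K71.f923137 IH) (Lpn (LP (LK LD1_c18 LD2_c39 LD3_c15))))
theorem f928706 : Led Lsl_df v41684 = (LP (LK LD1_c18 LD2_c39 LD3_c15)) :=
  Lgr Lrot162 (Lpe (f927889 IH) (Lpe (f35121 IH) (Lpe (K56.f35105 IH) (Lpe (f35012 IH) (Lpr_dt (f724844 IH) (Lpqs (f928705 IH) (Lpe (f721771 IH) (Lpr_ct (K27.f180574 IH) (Lpr_gt (K71.f212205 IH) (Lpr_ct (f923139 IH) (Lpn (LP (LK LD1_c18 LD2_c39 LD3_c15)))))))))))))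
theorem f928708 : Led Lsl_dt v41684 = (LP (LK LD1_c18 LD2_c39 LD3_c15)) :=
  Lgr Lrot42 (Lpr_df (f928706 IH) (Lpn (LP (LK LD1_c18 LD2_c39 LD3_c15))))
theorem f723575 : Led Lsl_ft (LP (LK LD1_c10 LD2_c13 LD3_c51)) = (LP (LK LD1_c18 LD2_c34 LD3_c13)) :=
  Lgr Lrot4 (Lpe (K53.f343367 IH) (Lpr_ff (K69.f723571 IH) (Lpe (K53.f171645 IH) (Lpn (LP (LK LD1_c18 LD2_c34 LD3_c13))))))
theorem f723268 : Led Lsl_ft (LP (LK LD1_c10 LD2_c12 LD3_c51)) = (LP (LK LD1_c9 LD2_c59 LD3_c15)) :=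
  Lgr Lrot48 (Lpr_ff (K53.f723264 IH) (Lpn (LP (LK LD1_c9 LD2_c59 LD3_c15))))
theorem f723648 : Led Lsl_at (LP (LK LD1_c18 LD2_c34 LD3_c13)) = (LP (LK LD1_c10 LD2_c12 LD3_c51)) :=
  Lgr Lrot66 (Lpe (f723575 IH) (Lpr_af (K69.f723583 IH) (Lpe (f723268 IH) (Lpn (LP (LK LD1_c10 LD2_c12 LD3_c51))))))
theorem f723279 : (LP (LK LD1_c5 LD2_c4 LD3_c13)) = K53.v14475 :=
  Lefun (Lecon (Lfl_ff (K53.f721192 IH)) (K53.f723273 IH).symm) (K53.f722743 IH)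
theorem f723650 : Led Lsl_bf (LP (LK LD1_c18 LD2_c34 LD3_c13)) = (LP (LK LD1_c18 LD2_c15 LD3_c44)) :=
  Lgr Lrot81 (Lpr_at (f723648 IH) (Lpr_bt (K44.f185199 IH) (Lpr_at (K53.f722741 IH) (Lpq (f723279 IH) (Lpr_bt (K53.f166088 IH) (Lpr_at (K53.f166102 IH) (Lpn (LP (LK LD1_c18 LD2_c15 LD3_c44)))))))))
theorem f180641 : Led Lsl_gt (LP (LK LD1_c18 LD2_c43 LD3_c44)) = (LP (LK LD1_c10 LD2_c18 LD3_c54)) :=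
  Lre_g IH (LK LD1_c18 LD2_c43 LD3_c44) (LK LD1_c10 LD2_c18 LD3_c54) Lrfl Lrfl
theorem f721288 : Led Lsl_bf (LP (LK LD1_c18 LD2_c43 LD3_c44)) = (LP (LK LD1_c18 LD2_c26 LD3_c13)) :=
  Lgr Lrot156 (Lpr_gt (f180641 IH) (Lpe (f180646 IH) (Lpr_ct (K71.f163987 IH) (Lpr_gt (K71.f163986 IH) (Lpr_cf (K71.f180699 IH) (Lpr_bt (K71.f180698 IH) (Lpr_gt (K53.f180697 IH) (Lpr_ct (K53.f180589 IH) (Lpr_gt (K53.f180642 IH) (Lpr_cf (K53.f721282 IH) (Lpn (LP (LK LD1_c18 LD2_c26 LD3_c13)))))))))))))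
theorem f723666 : Led Lsl_dt (LP (LK LD1_c18 LD2_c43 LD3_c44)) = (LP (LK LD1_c18 LD2_c15 LD3_c44)) :=
  Lgr Lrot79 (Lpr_bf (f721288 IH) (Lpe (K53.f721292 IH) (Lpr_bf (f723650 IH) (Lpn (LP (LK LD1_c18 LD2_c15 LD3_c44))))))
theorem f723670 : Led Lsl_ff (LP (LK LD1_c18 LD2_c43 LD3_c44)) = (LP (LK LD1_c18 LD2_c16 LD3_c13)) :=
  Lgr Lrot19 (Lpr_dt (f723666 IH) (Lpr_ft (K53.f585527 IH) (Lpr_dt (K53.f343384 IH) (Lpn (LP (LK LD1_c18 LD2_c16 LD3_c13))))))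
theorem f723672 : Led Lsl_ft (LP (LK LD1_c18 LD2_c43 LD3_c44)) = (LP (LK LD1_c18 LD2_c16 LD3_c13)) :=
  Lgr Lrot48 (Lpr_ff (f723670 IH) (Lpn (LP (LK LD1_c18 LD2_c16 LD3_c13))))
theorem f723674 : Led Lsl_gt (LP (LK LD1_c10 LD2_c18 LD3_c54)) = (LP (LK LD1_c18 LD2_c35 LD3_c55)) :=
  Lgr Lrot46 (Lpe (f180641 IH) (Lpr_ft (f723672 IH) (Lpe (K53.f723295 IH) (Lpn (LP (LK LD1_c18 LD2_c35 LD3_c55))))))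
theorem f927887 : Led Lsl_gt (LP (LK LD1_c18 LD2_c35 LD3_c55)) = v41684 :=
  Lgr Lrot46 (Lpe (f723674 IH) (Lpe (f923930 IH) (Lpr_at (f927883 IH) (Lpn v41684))))
theorem f603956 : Led Lsl_dt (LP (LK LD1_c10 LD2_c12 LD3_c55)) = (LP (LK LD1_c18 LD2_c35 LD3_c55)) :=
  Lre_d IH (LK LD1_c10 LD2_c12 LD3_c55) (LK LD1_c18 LD2_c35 LD3_c55) Lrfl Lrfl
theorem f45522 : Led Lsl_gt (LP (LK LD1_c5 LD2_c16 LD3_c7)) = (LP (LK LD1_c10 LD2_c21 LD3_c48)) :=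
  Lre_g IH (LK LD1_c5 LD2_c16 LD3_c7) (LK LD1_c10 LD2_c21 LD3_c48) Lrfl Lrfl
theorem f928710 : Led Lsl_dt (LP (LK LD1_c10 LD2_c21 LD3_c48)) = (LP (LK LD1_c18 LD2_c20 LD3_c35)) :=
  Lgr Lrot105 (Lpe (f45522 IH) (Lpe (K10.f35100 IH) (Lpe (K71.f48514 IH) (Lpr_cf (K71.f724216 IH) (Lpe (K53.f724218 IH) (Lpr_dt (f603956 IH) (Lpr_gt (f927887 IH) (Lpr_dt (f928708 IH) (Lpe (f923139 IH) (Lpn (LP (LK LD1_c18 LD2_c20 LD3_c35))))))))))))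
theorem f928711 : Led Lsl_dt (LP (LK LD1_c10 LD2_c21 LD3_c48)) = (LP (LK LD1_c18 LD2_c20 LD3_c35)) :=
  Leop (Lpe (f928710 IH) (Lpn (LP (LK LD1_c10 LD2_c21 LD3_c48))))
theorem seed_2540 : LEOK LG_d (LK LD1_c10 LD2_c21 LD3_c48) :=
  Leoe_d (LK LD1_c10 LD2_c21 LD3_c48) (f928711 IH)
theorem f724845 : Led Lsl_df (LP (LK LD1_c5 LD2_c16 LD3_c47)) = v14661 :=
  Lgr Lrot38 (Lpr_dt (f724844 IH) (Lpn v14661))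
theorem f48499 : Led Lsl_et (LP (LK LD1_c1 LD2_c14 LD3_c31)) = (LP (LK LD1_c1 LD2_c14 LD3_c61)) :=
  Lgr Lrot158 (Lpe (K53.f35076 IH) (Lpr_ef (K10.f48482 IH) (Lpe (K44.f48498 IH) (Lpn (LP (LK LD1_c1 LD2_c14 LD3_c61))))))
theorem f48807 : Led Lsl_et (LP (LK LD1_c5 LD2_c18 LD3_c43)) = (LP (LK LD1_c2 LD2_c35 LD3_c60)) :=
  Lre_e IH (LK LD1_c5 LD2_c18 LD3_c43) (LK LD1_c2 LD2_c35 LD3_c60) Lrfl Lrfl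
theorem f48808 : Led Lsl_dt (LP (LK LD1_c5 LD2_c18 LD3_c43)) = (LP (LK LD1_c10 LD2_c27 LD3_c8)) :=
  Lre_d IH (LK LD1_c5 LD2_c18 LD3_c43) (LK LD1_c10 LD2_c27 LD3_c8) Lrfl Lrfl
theorem f48809 : Led Lsl_gt (LP (LK LD1_c10 LD2_c27 LD3_c8)) = (LP (LK LD1_c18 LD2_c57 LD3_c2)) :=
  Lre_g IH (LK LD1_c10 LD2_c27 LD3_c8) (LK LD1_c18 LD2_c57 LD3_c2) Lrfl Lrfl
theorem f410247 : Led Lsl_ff (LP (LK LD1_c10 LD2_c2 LD3_c23)) = (LP (LK LD1_c9 LD2_c55 LD3_c48)) :=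
  Lgr Lrot3 (Lpr_ft (K44.f410235 IH) (Lpn (LP (LK LD1_c9 LD2_c55 LD3_c48))))
theorem f721772 : Led Lsl_gt (LP (LK LD1_c9 LD2_c55 LD3_c48)) = v14294 :=
  Lgr Lrot5 (Lpe (f410247 IH) (Lpr_at (K44.f212156 IH) (Lpr_gf (f721771 IH) (Lpn v14294))))
theorem f264288 : Led Lsl_et (LP (LK LD1_c18 LD2_c10 LD3_c25)) = (LP (LK LD1_c9 LD2_c55 LD3_c48)) :=
  Lre_e IH (LK LD1_c18 LD2_c10 LD3_c25) (LK LD1_c9 LD2_c55 LD3_c48) Lrfl Lrfl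
theorem f928723 : Led Lsl_df (LP (LK LD1_c18 LD2_c57 LD3_c2)) = (LP (LK LD1_c18 LD2_c10 LD3_c25)) :=
  Lgr Lrot168 (Lpe (f48809 IH) (Lpe (f48808 IH) (Lpr_et (f48807 IH) (Lpe (K19.f48806 IH) (Lpe (f48499 IH) (Lpr_dt (K19.f35066 IH) (Lpe (f35012 IH) (Lpr_df (f724845 IH) (Lpqs (f928705 IH) (Lpe (f721772 IH) (Lpe (f264288 IH) (Lpn (LP (LK LD1_c18 LD2_c10 LD3_c25))))))))))))))
theorem f928724 : Led Lsl_dt (LP (LK LD1_c18 LD2_c10 LD3_c25)) = (LP (LK LD1_c18 LD2_c57 LD3_c2)) :=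
  Leop (Lpr_df (f928723 IH) (Lpn (LP (LK LD1_c18 LD2_c10 LD3_c25))))
theorem seed_2541 : LEOK LG_d (LK LD1_c18 LD2_c10 LD3_c25) :=
  Leoe_d (LK LD1_c18 LD2_c10 LD3_c25) (f928724 IH)
theorem f928728 : Led Lsl_dt (LP (LK LD1_c18 LD2_c57 LD3_c2)) = (LP (LK LD1_c18 LD2_c10 LD3_c25)) :=
  Lgr Lrot42 (Lpr_df (f928723 IH) (Lpn (LP (LK LD1_c18 LD2_c10 LD3_c25))))
def v41301 : LQ := Led Lsl_dt (LP (LK LD1_c9 LD2_c55 LD3_c51))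
theorem f923174 : Led Lsl_dt (LP (LK LD1_c9 LD2_c55 LD3_c51)) = v41301 :=
  Lrfl
theorem f928730 : Led Lsl_af (LP (LK LD1_c18 LD2_c57 LD3_c2)) = v41301 :=
  Lgr Lrot117 (Lpr_dt (f928728 IH) (Lpr_at (K45.f264264 IH) (Lpr_dt (f923174 IH) (Lpn v41301))))
theorem f276092 : Led Lsl_ft (LP (LK LD1_c18 LD2_c10 LD3_c28)) = (LP (LK LD1_c9 LD2_c55 LD3_c51)) :=
  Lre_f IH (LK LD1_c18 LD2_c10 LD3_c28) (LK LD1_c9 LD2_c55 LD3_c51) Lrfl Lrfl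
theorem f276080 : Led Lsl_bt (LP (LK LD1_c9 LD2_c58 LD3_c2)) = (LP (LK LD1_c18 LD2_c14 LD3_c9)) :=
  Lre_b IH (LK LD1_c9 LD2_c58 LD3_c2) (LK LD1_c18 LD2_c14 LD3_c9) Lrfl Lrfl
theorem f264273 : Led Lsl_bt (LP (LK LD1_c18 LD2_c10 LD3_c28)) = (LP (LK LD1_c9 LD2_c55 LD3_c54)) :=
  Lre_b IH (LK LD1_c18 LD2_c10 LD3_c28) (LK LD1_c9 LD2_c55 LD3_c54) Lrfl Lrfl
theorem f276081 : Led Lsl_dt (LP (LK LD1_c18 LD2_c14 LD3_c9)) = (LP (LK LD1_c18 LD2_c10 LD3_c28)) :=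
  Lgr Lrot79 (Lpe (f276080 IH) (Lpr_df (K22.f276078 IH) (Lpe (f264273 IH) (Lpn (LP (LK LD1_c18 LD2_c10 LD3_c28))))))
theorem f923177 : Led Lsl_ff (LP (LK LD1_c18 LD2_c14 LD3_c9)) = v41301 :=
  Lgr Lrot19 (Lpr_dt (f276081 IH) (Lpr_ft (f276092 IH) (Lpr_dt (f923174 IH) (Lpn v41301))))
theorem f923179 : Led Lsl_ft (LP (LK LD1_c18 LD2_c14 LD3_c9)) = v41301 :=
  Lgr Lrot48 (Lpr_ff (f923177 IH) (Lpn v41301))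
theorem f928736 : Led Lsl_gf (LP (LK LD1_c10 LD2_c27 LD3_c8)) = (LP (LK LD1_c18 LD2_c14 LD3_c9)) :=
  Lgr Lrot47 (Lpr_gt (f48809 IH) (Lpr_af (f928730 IH) (Lpe (f923179 IH) (Lpn (LP (LK LD1_c18 LD2_c14 LD3_c9))))))
theorem f928737 : Led Lsl_gt (LP (LK LD1_c18 LD2_c14 LD3_c9)) = (LP (LK LD1_c10 LD2_c27 LD3_c8)) :=
  Leop (Lpr_gf (f928736 IH) (Lpn (LP (LK LD1_c18 LD2_c14 LD3_c9))))
theorem seed_2542 : LEOK LG_g (LK LD1_c18 LD2_c14 LD3_c9) :=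
  Leoe_g (LK LD1_c18 LD2_c14 LD3_c9) (f928737 IH)
def v41418 : LQ := Led Lsl_at (LP (LK LD1_c9 LD2_c57 LD3_c17))
theorem f925858 : Led Lsl_at (LP (LK LD1_c9 LD2_c57 LD3_c17)) = v41418 :=
  Lrfl
theorem f198777 : Led Lsl_bt (LP (LK LD1_c2 LD2_c42 LD3_c16)) = (LP (LK LD1_c5 LD2_c32 LD3_c6)) :=
  Lre_b IH (LK LD1_c2 LD2_c42 LD3_c16) (LK LD1_c5 LD2_c32 LD3_c6) Lrfl Lrfl
theorem f276002 : Led Lsl_bt (LP (LK LD1_c9 LD2_c57 LD3_c17)) = (LP (LK LD1_c5 LD2_c3 LD3_c10)) :=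
  Lre_b IH (LK LD1_c9 LD2_c57 LD3_c17) (LK LD1_c5 LD2_c3 LD3_c10) Lrfl Lrfl
theorem f276003 : Led Lsl_ft (LP (LK LD1_c5 LD2_c32 LD3_c6)) = (LP (LK LD1_c9 LD2_c57 LD3_c17)) :=
  Lgr Lrot75 (Lpe (f198777 IH) (Lpr_ff (K16.f275995 IH) (Lpe (f276002 IH) (Lpn (LP (LK LD1_c9 LD2_c57 LD3_c17))))))
theorem f212169 : Led Lsl_at (LP (LK LD1_c10 LD2_c55 LD3_c50)) = (LP (LK LD1_c5 LD2_c32 LD3_c6)) :=
  Lre_a IH (LK LD1_c10 LD2_c55 LD3_c50) (LK LD1_c5 LD2_c32 LD3_c6) Lrfl Lrfl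
theorem f925860 : Led Lsl_ff (LP (LK LD1_c10 LD2_c55 LD3_c50)) = v41418 :=
  Lgr Lrot30 (Lpr_at (f212169 IH) (Lpr_ft (f276003 IH) (Lpr_at (f925858 IH) (Lpn v41418))))
theorem f925862 : Led Lsl_ft (LP (LK LD1_c10 LD2_c55 LD3_c50)) = v41418 :=
  Lgr Lrot48 (Lpr_ff (f925860 IH) (Lpn v41418))
theorem f925859 : Led Lsl_af (LP (LK LD1_c9 LD2_c57 LD3_c17)) = v41418 :=
  Lgr Lrot0 (Lpr_at (f925858 IH) (Lpn v41418))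
def v41417 : LQ := Led Lsl_gf (LP (LK LD1_c9 LD2_c57 LD3_c17))
theorem f925857 : Led Lsl_gf (LP (LK LD1_c9 LD2_c57 LD3_c17)) = v41417 :=
  Lrfl
theorem f925865 : Led Lsl_gt (LP (LK LD1_c10 LD2_c55 LD3_c50)) = v41417 :=
  Lgr Lrot5 (Lpr_ft (f925862 IH) (Lpe (f925859 IH) (Lpr_gf (f925857 IH) (Lpn v41417))))
theorem f412880 : Led Lsl_et (LP (LK LD1_c9 LD2_c55 LD3_c56)) = (LP (LK LD1_c18 LD2_c10 LD3_c35)) :=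
  Lre_e IH (LK LD1_c9 LD2_c55 LD3_c56) (LK LD1_c18 LD2_c10 LD3_c35) Lrfl Lrfl
theorem f276083 : Led Lsl_dt (LP (LK LD1_c9 LD2_c58 LD3_c2)) = (LP (LK LD1_c9 LD2_c55 LD3_c54)) :=
  Lgr Lrot42 (Lpr_df (K22.f276078 IH) (Lpn (LP (LK LD1_c9 LD2_c55 LD3_c54))))
theorem f248818 : Led Lsl_bt (LP (LK LD1_c18 LD2_c14 LD3_c9)) = (LP (LK LD1_c9 LD2_c58 LD3_c2)) :=
  Lre_b IH (LK LD1_c18 LD2_c14 LD3_c9) (LK LD1_c9 LD2_c58 LD3_c2) Lrfl Lrfl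
theorem f264278 : Led Lsl_bt (LP (LK LD1_c9 LD2_c55 LD3_c54)) = (LP (LK LD1_c18 LD2_c10 LD3_c28)) :=
  Lre_b IH (LK LD1_c9 LD2_c55 LD3_c54) (LK LD1_c18 LD2_c10 LD3_c28) Lrfl Lrfl
theorem f276089 : Led Lsl_df (LP (LK LD1_c18 LD2_c14 LD3_c9)) = (LP (LK LD1_c18 LD2_c10 LD3_c28)) :=
  Lgr Lrot12 (Lpr_bt (f248818 IH) (Lpr_dt (f276083 IH) (Lpr_bt (f264278 IH) (Lpn (LP (LK LD1_c18 LD2_c10 LD3_c28))))))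
theorem f276076 : Led Lsl_et (LP (LK LD1_c9 LD2_c57 LD3_c17)) = (LP (LK LD1_c18 LD2_c10 LD3_c28)) :=
  Lgr Lrot74 (Lpe (K27.f275987 IH) (Lpr_ef (K16.f276072 IH) (Lpe (f264273 IH) (Lpn (LP (LK LD1_c18 LD2_c10 LD3_c28))))))
theorem f276093 : Led Lsl_ef (LP (LK LD1_c9 LD2_c57 LD3_c17)) = (LP (LK LD1_c18 LD2_c10 LD3_c28)) :=
  Lgr Lrot88 (Lpr_et (f276076 IH) (Lpn (LP (LK LD1_c18 LD2_c10 LD3_c28))))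
theorem f928741 : (LP (LK LD1_c18 LD2_c10 LD3_c35)) = v41417 :=
  (Llr Lrot185 (Lpe (f412880 IH) (Lpr_dt (f412791 IH) (Lpe (K45.f71670 IH) (Lpr_df (K44.f71647 IH) (Lpe (K44.f32705 IH) (Lpe (f48807 IH) (Lpr_dt (f48808 IH) (Lpr_gf (f928736 IH) (Lpr_df (f276089 IH) (Lpe (f276093 IH) (Lpr_gf (f925857 IH) (Lpn v41417))))))))))))).symm
theorem f928743 : Led Lsl_gt (LP (LK LD1_c10 LD2_c55 LD3_c50)) = (LP (LK LD1_c18 LD2_c10 LD3_c35)) :=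
  Leop (Lpqs (f928741 IH) (Lpe (f925865 IH) (Lpn (LP (LK LD1_c10 LD2_c55 LD3_c50)))))
theorem seed_2543 : LEOK LG_g (LK LD1_c10 LD2_c55 LD3_c50) :=
  Leoe_g (LK LD1_c10 LD2_c55 LD3_c50) (f928743 IH)
def v41451 : LQ := Led Lsl_at (LP (LK LD1_c9 LD2_c57 LD3_c56))
theorem f926020 : Led Lsl_at (LP (LK LD1_c9 LD2_c57 LD3_c56)) = v41451 :=
  Lrfl
theorem f249973 : Led Lsl_bt (LP (LK LD1_c5 LD2_c3 LD3_c29)) = (LP (LK LD1_c9 LD2_c57 LD3_c56)) :=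
  Lre_b IH (LK LD1_c5 LD2_c3 LD3_c29) (LK LD1_c9 LD2_c57 LD3_c56) Lrfl Lrfl
theorem f212098 : Led Lsl_bt (LP (LK LD1_c9 LD2_c55 LD3_c50)) = (LP (LK LD1_c5 LD2_c2 LD3_c29)) :=
  Lre_b IH (LK LD1_c9 LD2_c55 LD3_c50) (LK LD1_c5 LD2_c2 LD3_c29) Lrfl Lrfl
theorem f410230 : Led Lsl_ft (LP (LK LD1_c9 LD2_c57 LD3_c56)) = (LP (LK LD1_c9 LD2_c55 LD3_c50)) :=
  Lgr Lrot75 (Lpe (f249973 IH) (Lpr_ff (K71.f276070 IH) (Lpe (f212098 IH) (Lpn (LP (LK LD1_c9 LD2_c55 LD3_c50))))))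
theorem f410232 : Led Lsl_ff (LP (LK LD1_c9 LD2_c57 LD3_c56)) = (LP (LK LD1_c9 LD2_c55 LD3_c50)) :=
  Lgr Lrot3 (Lpr_ft (f410230 IH) (Lpn (LP (LK LD1_c9 LD2_c55 LD3_c50))))
def v41292 : LQ := Led Lsl_dt (LP (LK LD1_c9 LD2_c55 LD3_c48))
theorem f923141 : Led Lsl_dt (LP (LK LD1_c9 LD2_c55 LD3_c48)) = v41292 :=
  Lrfl
theorem f263652 : Led Lsl_dt (LP (LK LD1_c9 LD2_c55 LD3_c50)) = (LP (LK LD1_c5 LD2_c2 LD3_c28)) :=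
  Lre_d IH (LK LD1_c9 LD2_c55 LD3_c50) (LK LD1_c5 LD2_c2 LD3_c28) Lrfl Lrfl
theorem f923142 : Led Lsl_af (LP (LK LD1_c9 LD2_c55 LD3_c50)) = v41292 :=
  Lgr Lrot117 (Lpr_dt (f263652 IH) (Lpr_at (K44.f264254 IH) (Lpr_dt (f923141 IH) (Lpn v41292))))
theorem f926024 : Led Lsl_ff v41292 = v41451 :=
  Lgr Lrot30 (Lpe (f923142 IH) (Lpe (f410232 IH) (Lpr_at (f926020 IH) (Lpn v41451))))
def v41298 : LQ := Led Lsl_gf (LP (LK LD1_c9 LD2_c55 LD3_c50))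
theorem f923163 : Led Lsl_gf (LP (LK LD1_c9 LD2_c55 LD3_c50)) = v41298 :=
  Lrfl
theorem f926028 : Led Lsl_gf v41298 = v41451 :=
  Lgr Lrot47 (Lpe (f923163 IH) (Lpr_af (f923142 IH) (Lpr_ff (f926024 IH) (Lpn v41451))))
theorem f252533 : Led Lsl_gt (LP (LK LD1_c10 LD2_c22 LD3_c47)) = (LP (LK LD1_c5 LD2_c16 LD3_c43)) :=
  Lre_g IH (LK LD1_c10 LD2_c22 LD3_c47) (LK LD1_c5 LD2_c16 LD3_c43) Lrfl Lrfl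
theorem f48581 : Led Lsl_dt (LP (LK LD1_c2 LD2_c35 LD3_c3)) = (LP (LK LD1_c5 LD2_c16 LD3_c38)) :=
  Lre_d IH (LK LD1_c2 LD2_c35 LD3_c3) (LK LD1_c5 LD2_c16 LD3_c38) Lrfl Lrfl
theorem f48582 : Led Lsl_gt (LP (LK LD1_c5 LD2_c16 LD3_c38)) = (LP (LK LD1_c10 LD2_c22 LD3_c47)) :=
  Lre_g IH (LK LD1_c5 LD2_c16 LD3_c38) (LK LD1_c10 LD2_c22 LD3_c47) Lrfl Lrfl
theorem f212170 : Led Lsl_et (LP (LK LD1_c10 LD2_c2 LD3_c23)) = (LP (LK LD1_c10 LD2_c55 LD3_c50)) :=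
  Lgr Lrot123 (Lpe (K44.f212168 IH) (Lpr_ef (K27.f212165 IH) (Lpe (f212169 IH) (Lpn (LP (LK LD1_c10 LD2_c55 LD3_c50))))))
theorem f923143 : Led Lsl_df (LP (LK LD1_c9 LD2_c55 LD3_c48)) = v41292 :=
  Lgr Lrot38 (Lpr_dt (f923141 IH) (Lpn v41292))
theorem f926026 : Led Lsl_dt (LP (LK LD1_c10 LD2_c2 LD3_c23)) = v41451 :=
  Lgr Lrot60 (Lpr_ff (f410247 IH) (Lpr_df (f923143 IH) (Lpr_ff (f926024 IH) (Lpn v41451))))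
theorem f928744 : (LP (LK LD1_c10 LD2_c22 LD3_c47)) = v41451 :=
  (Llr Lrot139 (Lpe (f48582 IH) (Lpe (f48581 IH) (Lpe (K44.f48580 IH) (Lpr_ef (K10.f48563 IH) (Lpr_dt (K44.f48583 IH) (Lpe (K45.f48584 IH) (Lpe (f412791 IH) (Lpr_et (f412880 IH) (Lpqs (f928741 IH) (Lpe (f925865 IH) (Lpe (f212170 IH) (Lpr_dt (f926026 IH) (Lpn v41451)))))))))))))).symm
theorem f928749 : v41298 = (LP (LK LD1_c5 LD2_c16 LD3_c43)) :=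
  Lefun (Lecon (Lfl_gf (f926028 IH)) (f928744 IH).symm) (f252533 IH)
theorem f928753 : Led Lsl_gt (LP (LK LD1_c5 LD2_c16 LD3_c43)) = (LP (LK LD1_c9 LD2_c55 LD3_c50)) :=
  Leop (Lpr_gf (f923163 IH) (Lpqs (f928749 IH) (Lpn (LP (LK LD1_c5 LD2_c16 LD3_c43)))))
theorem seed_2544 : LEOK LG_g (LK LD1_c5 LD2_c16 LD3_c43) :=
  Leoe_g (LK LD1_c5 LD2_c16 LD3_c43) (f928753 IH)
theorem f35103 : Led Lsl_dt (LP (LK LD1_c5 LD2_c16 LD3_c43)) = (LP (LK LD1_c2 LD2_c35 LD3_c4)) :=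
  Lre_d IH (LK LD1_c5 LD2_c16 LD3_c43) (LK LD1_c2 LD2_c35 LD3_c4) Lrfl Lrfl
theorem f343428 : Led Lsl_dt (LP (LK LD1_c10 LD2_c22 LD3_c58)) = (LP (LK LD1_c5 LD2_c16 LD3_c42)) :=
  Lre_d IH (LK LD1_c10 LD2_c22 LD3_c58) (LK LD1_c5 LD2_c16 LD3_c42) Lrfl Lrfl
theorem f926565 : Led Lsl_gt (LP (LK LD1_c18 LD2_c49 LD3_c60)) = (LP (LK LD1_c10 LD2_c22 LD3_c58)) :=
  Lre_g IH (LK LD1_c18 LD2_c49 LD3_c60) (LK LD1_c10 LD2_c22 LD3_c58) Lrfl Lrfl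
def v41284 : LQ := Led Lsl_ct (LP (LK LD1_c9 LD2_c55 LD3_c46))
theorem f923095 : Led Lsl_ct (LP (LK LD1_c9 LD2_c55 LD3_c46)) = v41284 :=
  Lrfl
theorem f923096 : Led Lsl_cf (LP (LK LD1_c9 LD2_c55 LD3_c46)) = v41284 :=
  Lgr Lrot11 (Lpr_ct (f923095 IH) (Lpn v41284))
theorem f406493 : Led Lsl_bt (LP (LK LD1_c10 LD2_c15 LD3_c13)) = (LP (LK LD1_c5 LD2_c12 LD3_c17)) :=
  Lre_b IH (LK LD1_c10 LD2_c15 LD3_c13) (LK LD1_c5 LD2_c12 LD3_c17) Lrfl Lrfl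
theorem f406646 : Led Lsl_ct (LP (LK LD1_c10 LD2_c15 LD3_c13)) = (LP (LK LD1_c18 LD2_c39 LD3_c17)) :=
  Lre_c IH (LK LD1_c10 LD2_c15 LD3_c13) (LK LD1_c18 LD2_c39 LD3_c17) Lrfl Lrfl
theorem f923097 : Led Lsl_gf (LP (LK LD1_c18 LD2_c39 LD3_c17)) = v41284 :=
  Lgr Lrot129 (Lpe (f406646 IH) (Lpr_bt (f406493 IH) (Lpr_gt (K53.f258064 IH) (Lpe (K45.f185582 IH) (Lpr_ct (K20.f185581 IH) (Lpr_gt (K12.f185578 IH) (Lpr_cf (K12.f185942 IH) (Lpr_bt (K44.f212106 IH) (Lpr_gt (K71.f212107 IH) (Lpr_ct (f923095 IH) (Lpn v41284)))))))))))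
theorem f928785 : Led Lsl_df (LP (LK LD1_c18 LD2_c49 LD3_c60)) = (LP (LK LD1_c18 LD2_c39 LD3_c17)) :=
  Lgr Lrot153 (Lpr_gt (f926565 IH) (Lpr_dt (f343428 IH) (Lpe (K44.f32794 IH) (Lpe (f35103 IH) (Lpe (f252533 IH) (Lpqs (f928744 IH) (Lpe (f926026 IH) (Lpr_gf (K71.f410239 IH) (Lpr_cf (f923096 IH) (Lpe (f923097 IH) (Lpn (LP (LK LD1_c18 LD2_c39 LD3_c17)))))))))))))
theorem f928786 : Led Lsl_dt (LP (LK LD1_c18 LD2_c39 LD3_c17)) = (LP (LK LD1_c18 LD2_c49 LD3_c60)) :=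
  Leop (Lpr_df (f928785 IH) (Lpn (LP (LK LD1_c18 LD2_c39 LD3_c17))))
theorem seed_2545 : LEOK LG_d (LK LD1_c18 LD2_c39 LD3_c17) :=
  Leoe_d (LK LD1_c18 LD2_c39 LD3_c17) (f928786 IH)
def v41816 : LQ := Led Lsl_at (LP (LK LD1_c10 LD2_c2 LD3_c27))
theorem f928866 : Led Lsl_at (LP (LK LD1_c10 LD2_c2 LD3_c27)) = v41816 :=
  Lrfl
theorem f721778 : Led Lsl_bt (LP (LK LD1_c5 LD2_c5 LD3_c41)) = (LP (LK LD1_c10 LD2_c2 LD3_c27)) :=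
  Lre_b IH (LK LD1_c5 LD2_c5 LD3_c41) (LK LD1_c10 LD2_c2 LD3_c27) Lrfl Lrfl
def v14297 : LQ := Led Lsl_ft (LP (LK LD1_c5 LD2_c5 LD3_c40))
theorem f721782 : Led Lsl_ft (LP (LK LD1_c5 LD2_c5 LD3_c40)) = v14297 :=
  Lrfl
def v14295 : LQ := Led Lsl_at (LP (LK LD1_c5 LD2_c5 LD3_c40))
theorem f721773 : Led Lsl_at (LP (LK LD1_c5 LD2_c5 LD3_c40)) = v14295 :=
  Lrfl
theorem f721774 : Led Lsl_af (LP (LK LD1_c5 LD2_c5 LD3_c40)) = v14295 :=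
  Lgr Lrot0 (Lpr_at (f721773 IH) (Lpn v14295))
theorem f274848 : Led Lsl_gt (LP (LK LD1_c5 LD2_c5 LD3_c41)) = (LP (LK LD1_c2 LD2_c30 LD3_c4)) :=
  Lre_g IH (LK LD1_c5 LD2_c5 LD3_c41) (LK LD1_c2 LD2_c30 LD3_c4) Lrfl Lrfl
theorem f721776 : Led Lsl_ft (LP (LK LD1_c5 LD2_c5 LD3_c41)) = v14295 :=
  Lgr Lrot2 (Lpr_gt (f274848 IH) (Lpr_gt (K44.f169441 IH) (Lpr_af (f721774 IH) (Lpn v14295))))
theorem f721783 : Led Lsl_af (LP (LK LD1_c5 LD2_c5 LD3_c41)) = v14297 :=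
  Lgr Lrot45 (Lpr_ft (f721776 IH) (Lpe (f721774 IH) (Lpr_ft (f721782 IH) (Lpn v14297))))
def v41805 : LQ := Led Lsl_ft (LP (LK LD1_c10 LD2_c2 LD3_c24))
theorem f928824 : Led Lsl_ft (LP (LK LD1_c10 LD2_c2 LD3_c24)) = v41805 :=
  Lrfl
theorem f408334 : Led Lsl_bt (LP (LK LD1_c5 LD2_c5 LD3_c40)) = (LP (LK LD1_c10 LD2_c2 LD3_c24)) :=
  Lre_b IH (LK LD1_c5 LD2_c5 LD3_c40) (LK LD1_c10 LD2_c2 LD3_c24) Lrfl Lrfl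
theorem f721785 : Led Lsl_ff (LP (LK LD1_c5 LD2_c5 LD3_c40)) = v14297 :=
  Lgr Lrot3 (Lpr_ft (f721782 IH) (Lpn v14297))
theorem f928826 : Led Lsl_bf v14297 = v41805 :=
  Lgr Lrot61 (Lpe (f721785 IH) (Lpr_bt (f408334 IH) (Lpr_ft (f928824 IH) (Lpn v41805))))
theorem f928827 : Led Lsl_ff (LP (LK LD1_c10 LD2_c2 LD3_c24)) = v41805 :=
  Lgr Lrot3 (Lpr_ft (f928824 IH) (Lpn v41805))
def v41803 : LQ := Led Lsl_at (LP (LK LD1_c10 LD2_c2 LD3_c24))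
theorem f928814 : Led Lsl_at (LP (LK LD1_c10 LD2_c2 LD3_c24)) = v41803 :=
  Lrfl
theorem f928815 : Led Lsl_af (LP (LK LD1_c10 LD2_c2 LD3_c24)) = v41803 :=
  Lgr Lrot0 (Lpr_at (f928814 IH) (Lpn v41803))
def v41802 : LQ := Led Lsl_gf (LP (LK LD1_c10 LD2_c2 LD3_c24))
theorem f928806 : Led Lsl_gf (LP (LK LD1_c10 LD2_c2 LD3_c24)) = v41802 :=
  Lrfl
theorem f928807 : Led Lsl_bt (LP (LK LD1_c18 LD2_c39 LD3_c15)) = v41802 :=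
  Lgr Lrot130 (Lpe (K71.f923137 IH) (Lpe (K71.f212205 IH) (Lpe (K27.f180574 IH) (Lpr_bt (K44.f180572 IH) (Lpr_gf (K14.f186771 IH) (Lpe (K18.f186735 IH) (Lpr_ct (K44.f186736 IH) (Lpe (K44.f406783 IH) (Lpr_cf (K44.f408329 IH) (Lpr_gf (f928806 IH) (Lpn v41802)))))))))))
theorem f928809 : Led Lsl_bf (LP (LK LD1_c18 LD2_c39 LD3_c15)) = v41802 :=
  Lgr Lrot24 (Lpr_bt (f928807 IH) (Lpn v41802))
theorem f928811 : Led Lsl_cf (LP (LK LD1_c18 LD2_c10 LD3_c43)) = v41802 :=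
  Lgr Lrot160 (Lpr_gt (K71.f300627 IH) (Lpe (K44.f169607 IH) (Lpr_bt (K45.f169602 IH) (Lpr_gt (K45.f585229 IH) (Lpr_ct (K45.f417516 IH) (Lpr_gt (K53.f586268 IH) (Lpe (K53.f406492 IH) (Lpr_bt (K71.f585410 IH) (Lpr_gt (K71.f585416 IH) (Lpr_bf (f928809 IH) (Lpn v41802)))))))))))
theorem f928812 : Led Lsl_ct (LP (LK LD1_c18 LD2_c10 LD3_c43)) = v41802 :=
  Lgr Lrot59 (Lpr_cf (f928811 IH) (Lpn v41802))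
theorem f724581 : Led Lsl_bf (LP (LK LD1_c18 LD2_c32 LD3_c50)) = (LP (LK LD1_c18 LD2_c10 LD3_c43)) :=
  Lgr Lrot93 (Lpe (K53.f544828 IH) (Lpe (f724293 IH) (Lpr_dt (K71.f724463 IH) (Lpn (LP (LK LD1_c18 LD2_c10 LD3_c43))))))
theorem f254599 : Led Lsl_bt (LP (LK LD1_c10 LD2_c11 LD3_c0)) = (LP (LK LD1_c18 LD2_c33 LD3_c1)) :=
  Lre_b IH (LK LD1_c10 LD2_c11 LD3_c0) (LK LD1_c18 LD2_c33 LD3_c1) Lrfl Lrfl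
theorem f254602 : Led Lsl_ct (LP (LK LD1_c10 LD2_c11 LD3_c0)) = (LP (LK LD1_c18 LD2_c33 LD3_c2)) :=
  Lre_c IH (LK LD1_c10 LD2_c11 LD3_c0) (LK LD1_c18 LD2_c33 LD3_c2) Lrfl Lrfl
theorem f928813 : Led Lsl_gt (LP (LK LD1_c18 LD2_c33 LD3_c2)) = v41802 :=
  Lgr Lrot65 (Lpe (f254602 IH) (Lpr_bt (f254599 IH) (Lpe (K37.f544832 IH) (Lpr_bf (K37.f343449 IH) (Lpr_ct (K37.f544824 IH) (Lpe (K37.f264950 IH) (Lpr_cf (K37.f264946 IH) (Lpe (K53.f376892 IH) (Lpr_bf (f724581 IH) (Lpr_ct (f928812 IH) (Lpn v41802)))))))))))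
theorem f928816 : Led Lsl_ft (LP (LK LD1_c18 LD2_c33 LD3_c2)) = v41803 :=
  Lgr Lrot2 (Lpr_gt (f928813 IH) (Lpe (f928806 IH) (Lpr_af (f928815 IH) (Lpn v41803))))
theorem f928817 : Led Lsl_ff (LP (LK LD1_c18 LD2_c33 LD3_c2)) = v41803 :=
  Lgr Lrot3 (Lpr_ft (f928816 IH) (Lpn v41803))
theorem f928828 : Led Lsl_at (LP (LK LD1_c18 LD2_c33 LD3_c2)) = v41805 :=
  Lgr Lrot66 (Lpr_ff (f928817 IH) (Lpe (f928814 IH) (Lpr_ff (f928827 IH) (Lpn v41805))))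
theorem f928868 : Led Lsl_bf (LP (LK LD1_c18 LD2_c33 LD3_c2)) = v41816 :=
  Lgr Lrot81 (Lpr_at (f928828 IH) (Lpe (f928826 IH) (Lpe (f721783 IH) (Lpr_bt (f721778 IH) (Lpr_at (f928866 IH) (Lpn v41816))))))
theorem f928869 : Led Lsl_bt (LP (LK LD1_c18 LD2_c33 LD3_c2)) = v41816 :=
  Lgr Lrot127 (Lpr_bf (f928868 IH) (Lpn v41816))
theorem f186738 : Led Lsl_ct (LP (LK LD1_c18 LD2_c33 LD3_c2)) = (LP (LK LD1_c10 LD2_c11 LD3_c0)) :=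
  Lre_c IH (LK LD1_c18 LD2_c33 LD3_c2) (LK LD1_c10 LD2_c11 LD3_c0) Lrfl Lrfl
theorem f299846 : Led Lsl_at (LP (LK LD1_c5 LD2_c3 LD3_c6)) = (LP (LK LD1_c2 LD2_c29 LD3_c5)) :=
  Lre_a IH (LK LD1_c5 LD2_c3 LD3_c6) (LK LD1_c2 LD2_c29 LD3_c5) Lrfl Lrfl
theorem f299880 : Led Lsl_gf (LP (LK LD1_c5 LD2_c3 LD3_c5)) = (LP (LK LD1_c5 LD2_c9 LD3_c56)) :=
  Lgr Lrot47 (Lpr_gt (K44.f169979 IH) (Lpe (f299846 IH) (Lpr_ff (K18.f299862 IH) (Lpn (LP (LK LD1_c5 LD2_c9 LD3_c56))))))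
theorem f721330 : Led Lsl_dt (LP (LK LD1_c5 LD2_c9 LD3_c55)) = (LP (LK LD1_c9 LD2_c58 LD3_c45)) :=
  Lgr Lrot42 (Lpr_df (K69.f721328 IH) (Lpn (LP (LK LD1_c9 LD2_c58 LD3_c45))))
theorem f185221 : Led Lsl_dt (LP (LK LD1_c5 LD2_c3 LD3_c54)) = (LP (LK LD1_c2 LD2_c29 LD3_c23)) :=
  Lre_d IH (LK LD1_c5 LD2_c3 LD3_c54) (LK LD1_c2 LD2_c29 LD3_c23) Lrfl Lrfl
theorem f165611 : Led Lsl_gt (LP (LK LD1_c18 LD2_c14 LD3_c39)) = (LP (LK LD1_c9 LD2_c58 LD3_c23)) :=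
  Lre_g IH (LK LD1_c18 LD2_c14 LD3_c39) (LK LD1_c9 LD2_c58 LD3_c23) Lrfl Lrfl
theorem f721338 : Led Lsl_dt (LP (LK LD1_c10 LD2_c10 LD3_c2)) = (LP (LK LD1_c18 LD2_c14 LD3_c39)) :=
  Lgr Lrot57 (Lpe (K44.f299968 IH) (Lpe (K18.f299736 IH) (Lpr_gt (f299864 IH) (Lpr_dt (f721330 IH) (Lpr_gt (K69.f165672 IH) (Lpr_dt (f185221 IH) (Lpe (K10.f165609 IH) (Lpe (K53.f165610 IH) (Lpe (f165611 IH) (Lpn (LP (LK LD1_c18 LD2_c14 LD3_c39))))))))))))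
theorem f721252 : Led Lsl_ff (LP (LK LD1_c10 LD2_c10 LD3_c2)) = (LP (LK LD1_c9 LD2_c56 LD3_c44)) :=
  Lgr Lrot3 (Lpr_ft (K53.f721248 IH) (Lpn (LP (LK LD1_c9 LD2_c56 LD3_c44))))
theorem f406754 : Led Lsl_dt (LP (LK LD1_c18 LD2_c12 LD3_c5)) = (LP (LK LD1_c9 LD2_c56 LD3_c44)) :=
  Lre_d IH (LK LD1_c18 LD2_c12 LD3_c5) (LK LD1_c9 LD2_c56 LD3_c44) Lrfl Lrfl
theorem f721345 : Led Lsl_ff (LP (LK LD1_c18 LD2_c12 LD3_c5)) = (LP (LK LD1_c18 LD2_c14 LD3_c39)) :=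
  Lgr Lrot19 (Lpr_dt (f406754 IH) (Lpe (f721252 IH) (Lpr_dt (f721338 IH) (Lpn (LP (LK LD1_c18 LD2_c14 LD3_c39))))))
theorem f185219 : Led Lsl_gt (LP (LK LD1_c9 LD2_c58 LD3_c23)) = (LP (LK LD1_c18 LD2_c14 LD3_c38)) :=
  Lre_g IH (LK LD1_c9 LD2_c58 LD3_c23) (LK LD1_c18 LD2_c14 LD3_c38) Lrfl Lrfl
theorem f721356 : Led Lsl_at (LP (LK LD1_c18 LD2_c12 LD3_c5)) = (LP (LK LD1_c18 LD2_c14 LD3_c38)) :=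
  Lgr Lrot26 (Lpr_ff (f721345 IH) (Lpr_gt (f165611 IH) (Lpr_gt (f185219 IH) (Lpn (LP (LK LD1_c18 LD2_c14 LD3_c38))))))
theorem f721358 : Led Lsl_af (LP (LK LD1_c18 LD2_c12 LD3_c5)) = (LP (LK LD1_c18 LD2_c14 LD3_c38)) :=
  Lgr Lrot0 (Lpr_at (f721356 IH) (Lpn (LP (LK LD1_c18 LD2_c14 LD3_c38))))
theorem f405361 : Led Lsl_dt (LP (LK LD1_c10 LD2_c13 LD3_c52)) = (LP (LK LD1_c18 LD2_c37 LD3_c17)) :=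
  Lre_d IH (LK LD1_c10 LD2_c13 LD3_c52) (LK LD1_c18 LD2_c37 LD3_c17) Lrfl Lrfl
theorem f405714 : Led Lsl_gf (LP (LK LD1_c10 LD2_c13 LD3_c52)) = (LP (LK LD1_c18 LD2_c34 LD3_c13)) :=
  Lgr Lrot76 (Lpe (K44.f405366 IH) (Lpe (K44.f405367 IH) (Lpr_gt (K53.f405712 IH) (Lpn (LP (LK LD1_c18 LD2_c34 LD3_c13))))))
theorem f249781 : Led Lsl_dt (LP (LK LD1_c9 LD2_c58 LD3_c22)) = (LP (LK LD1_c18 LD2_c14 LD3_c36)) :=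
  Lre_d IH (LK LD1_c9 LD2_c58 LD3_c22) (LK LD1_c18 LD2_c14 LD3_c36) Lrfl Lrfl
theorem f699298 : Led Lsl_gf (LP (LK LD1_c18 LD2_c12 LD3_c5)) = (LP (LK LD1_c18 LD2_c14 LD3_c36)) :=
  Lgr Lrot143 (Lpr_dt (f406754 IH) (Lpr_cf (K53.f408327 IH) (Lpr_df (K53.f585448 IH) (Lpr_gf (K53.f699296 IH) (Lpe (f405361 IH) (Lpr_gf (f405714 IH) (Lpe (K53.f215251 IH) (Lpe (K53.f249857 IH) (Lpr_dt (f249781 IH) (Lpn (LP (LK LD1_c18 LD2_c14 LD3_c36))))))))))))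
theorem f169973 : Led Lsl_dt (LP (LK LD1_c9 LD2_c56 LD3_c60)) = (LP (LK LD1_c5 LD2_c3 LD3_c4)) :=
  Lre_d IH (LK LD1_c9 LD2_c56 LD3_c60) (LK LD1_c5 LD2_c3 LD3_c4) Lrfl Lrfl
theorem f699396 : Led Lsl_gf (LP (LK LD1_c9 LD2_c58 LD3_c42)) = (LP (LK LD1_c9 LD2_c56 LD3_c60)) :=
  Lgr Lrot147 (Lpr_ct (K53.f249789 IH) (Lpr_gt (K53.f699394 IH) (Lpe (K53.f699294 IH) (Lpe (K53.f585442 IH) (Lpe (K53.f408374 IH) (Lpr_gf (K53.f406751 IH) (Lpe (K53.f299721 IH) (Lpr_gf (K44.f408323 IH) (Lpe (f169973 IH) (Lpn (LP (LK LD1_c9 LD2_c56 LD3_c60))))))))))))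
theorem f249787 : Led Lsl_dt (LP (LK LD1_c18 LD2_c14 LD3_c36)) = (LP (LK LD1_c9 LD2_c58 LD3_c22)) :=
  Lre_d IH (LK LD1_c18 LD2_c14 LD3_c36) (LK LD1_c9 LD2_c58 LD3_c22) Lrfl Lrfl
theorem f164129 : Led Lsl_dt (LP (LK LD1_c5 LD2_c3 LD3_c4)) = (LP (LK LD1_c9 LD2_c56 LD3_c60)) :=
  Lre_d IH (LK LD1_c5 LD2_c3 LD3_c4) (LK LD1_c9 LD2_c56 LD3_c60) Lrfl Lrfl
theorem f169992 : Led Lsl_gt (LP (LK LD1_c5 LD2_c2 LD3_c57)) = (LP (LK LD1_c9 LD2_c56 LD3_c43)) :=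
  Lre_g IH (LK LD1_c5 LD2_c2 LD3_c57) (LK LD1_c9 LD2_c56 LD3_c43) Lrfl Lrfl
theorem f192552 : Led Lsl_dt (LP (LK LD1_c9 LD2_c56 LD3_c43)) = (LP (LK LD1_c18 LD2_c12 LD3_c2)) :=
  Lre_d IH (LK LD1_c9 LD2_c56 LD3_c43) (LK LD1_c18 LD2_c12 LD3_c2) Lrfl Lrfl
theorem f699400 : Led Lsl_gf (LP (LK LD1_c18 LD2_c14 LD3_c36)) = (LP (LK LD1_c18 LD2_c12 LD3_c2)) :=
  Lgr Lrot143 (Lpr_dt (f249787 IH) (Lpe (K44.f249763 IH) (Lpe (K53.f249764 IH) (Lpr_gf (f699396 IH) (Lpe (f164129 IH) (Lpe (K44.f164128 IH) (Lpe (K44.f169958 IH) (Lpr_gt (f169992 IH) (Lpr_dt (f192552 IH) (Lpn (LP (LK LD1_c18 LD2_c12 LD3_c2))))))))))))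
theorem f721381 : Led Lsl_ft (LP (LK LD1_c18 LD2_c12 LD3_c2)) = (LP (LK LD1_c18 LD2_c14 LD3_c38)) :=
  Lgr Lrot2 (Lpe (f699400 IH) (Lpe (f699298 IH) (Lpr_af (f721358 IH) (Lpn (LP (LK LD1_c18 LD2_c14 LD3_c38))))))
theorem f721387 : Led Lsl_ff (LP (LK LD1_c18 LD2_c12 LD3_c2)) = (LP (LK LD1_c18 LD2_c14 LD3_c38)) :=
  Lgr Lrot3 (Lpr_ft (f721381 IH) (Lpn (LP (LK LD1_c18 LD2_c14 LD3_c38))))
theorem f408298 : Led Lsl_dt (LP (LK LD1_c18 LD2_c12 LD3_c2)) = (LP (LK LD1_c9 LD2_c56 LD3_c43)) :=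
  Lre_d IH (LK LD1_c18 LD2_c12 LD3_c2) (LK LD1_c9 LD2_c56 LD3_c43) Lrfl Lrfl
theorem f406753 : Led Lsl_dt (LP (LK LD1_c9 LD2_c56 LD3_c44)) = (LP (LK LD1_c18 LD2_c12 LD3_c5)) :=
  Lre_d IH (LK LD1_c9 LD2_c56 LD3_c44) (LK LD1_c18 LD2_c12 LD3_c5) Lrfl Lrfl
theorem f721256 : Led Lsl_at (LP (LK LD1_c10 LD2_c10 LD3_c1)) = (LP (LK LD1_c9 LD2_c56 LD3_c44)) :=
  Lgr Lrot100 (Lpr_af (K53.f721254 IH) (Lpn (LP (LK LD1_c9 LD2_c56 LD3_c44))))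
theorem f721361 : Led Lsl_df (LP (LK LD1_c10 LD2_c10 LD3_c1)) = (LP (LK LD1_c18 LD2_c14 LD3_c38)) :=
  Lgr Lrot18 (Lpr_at (f721256 IH) (Lpr_dt (f406753 IH) (Lpr_at (f721356 IH) (Lpn (LP (LK LD1_c18 LD2_c14 LD3_c38))))))
theorem f721370 : Led Lsl_dt (LP (LK LD1_c10 LD2_c10 LD3_c1)) = (LP (LK LD1_c18 LD2_c14 LD3_c38)) :=
  Lgr Lrot42 (Lpr_df (f721361 IH) (Lpn (LP (LK LD1_c18 LD2_c14 LD3_c38))))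
theorem f721391 : Led Lsl_ft (LP (LK LD1_c9 LD2_c56 LD3_c43)) = (LP (LK LD1_c10 LD2_c10 LD3_c1)) :=
  Lgr Lrot54 (Lpe (f408298 IH) (Lpr_ff (f721387 IH) (Lpe (f721370 IH) (Lpn (LP (LK LD1_c10 LD2_c10 LD3_c1))))))
theorem f169993 : Led Lsl_ct (LP (LK LD1_c18 LD2_c12 LD3_c1)) = (LP (LK LD1_c9 LD2_c56 LD3_c43)) :=
  Lre_c IH (LK LD1_c18 LD2_c12 LD3_c1) (LK LD1_c9 LD2_c56 LD3_c43) Lrfl Lrfl
theorem f721397 : Led Lsl_ff (LP (LK LD1_c18 LD2_c12 LD3_c1)) = (LP (LK LD1_c18 LD2_c31 LD3_c18)) :=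
  Lgr Lrot23 (Lpr_ct (f169993 IH) (Lpr_ft (f721391 IH) (Lpr_ct (K69.f259749 IH) (Lpn (LP (LK LD1_c18 LD2_c31 LD3_c18))))))
theorem f721400 : Led Lsl_at (LP (LK LD1_c18 LD2_c12 LD3_c1)) = (LP (LK LD1_c10 LD2_c3 LD3_c35)) :=
  Lgr Lrot66 (Lpr_ff (f721397 IH) (Lpr_af (K53.f721276 IH) (Lpe (K53.f721232 IH) (Lpn (LP (LK LD1_c10 LD2_c3 LD3_c35))))))
theorem f180612 : Led Lsl_gt (LP (LK LD1_c18 LD2_c22 LD3_c15)) = (LP (LK LD1_c10 LD2_c3 LD3_c35)) :=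
  Lre_g IH (LK LD1_c18 LD2_c22 LD3_c15) (LK LD1_c10 LD2_c3 LD3_c35) Lrfl Lrfl
theorem f721402 : Led Lsl_gf (LP (LK LD1_c18 LD2_c22 LD3_c15)) = (LP (LK LD1_c18 LD2_c31 LD3_c18)) :=
  Lgr Lrot47 (Lpr_gt (f180612 IH) (Lpe (f721400 IH) (Lpr_ff (f721397 IH) (Lpn (LP (LK LD1_c18 LD2_c31 LD3_c18))))))
theorem f259744 : Led Lsl_bt (LP (LK LD1_c10 LD2_c10 LD3_c1)) = (LP (LK LD1_c18 LD2_c31 LD3_c17)) :=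
  Lre_b IH (LK LD1_c10 LD2_c10 LD3_c1) (LK LD1_c18 LD2_c31 LD3_c17) Lrfl Lrfl
theorem f259740 : Led Lsl_gt (LP (LK LD1_c28 LD2_c5 LD3_c35)) = (LP (LK LD1_c18 LD2_c31 LD3_c17)) :=
  Lre_g IH (LK LD1_c28 LD2_c5 LD3_c35) (LK LD1_c18 LD2_c31 LD3_c17) Lrfl Lrfl
theorem f288471 : Led Lsl_bt (LP (LK LD1_c10 LD2_c9 LD3_c49)) = (LP (LK LD1_c18 LD2_c30 LD3_c51)) :=
  Lre_b IH (LK LD1_c10 LD2_c9 LD3_c49) (LK LD1_c18 LD2_c30 LD3_c51) Lrfl Lrfl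
theorem f370565 : Led Lsl_at (LP (LK LD1_c18 LD2_c30 LD3_c51)) = (LP (LK LD1_c28 LD2_c4 LD3_c58)) :=
  Lre_a IH (LK LD1_c18 LD2_c30 LD3_c51) (LK LD1_c28 LD2_c4 LD3_c58) Lrfl Lrfl
theorem f370566 : Led Lsl_at (LP (LK LD1_c27 LD2_c52 LD3_c9)) = (LP (LK LD1_c18 LD2_c11 LD3_c38)) :=
  Lre_a IH (LK LD1_c27 LD2_c52 LD3_c9) (LK LD1_c18 LD2_c11 LD3_c38) Lrfl Lrfl
theorem f370567 : Led Lsl_bt (LP (LK LD1_c28 LD2_c4 LD3_c58)) = (LP (LK LD1_c27 LD2_c52 LD3_c9)) :=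
  Lgr Lrot62 (Lpe (f370565 IH) (Lpe (f288471 IH) (Lpr_af (f370563 IH) (Lpe (K44.f275177 IH) (Lpe (f370566 IH) (Lpn (LP (LK LD1_c27 LD2_c52 LD3_c9))))))))
theorem f282185 : Led Lsl_dt (LP (LK LD1_c18 LD2_c30 LD3_c50)) = (LP (LK LD1_c28 LD2_c4 LD3_c58)) :=
  Lre_d IH (LK LD1_c18 LD2_c30 LD3_c50) (LK LD1_c28 LD2_c4 LD3_c58) Lrfl Lrfl
theorem f278400 : Led Lsl_dt (LP (LK LD1_c27 LD2_c52 LD3_c9)) = (LP (LK LD1_c18 LD2_c11 LD3_c37)) :=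
  Lre_d IH (LK LD1_c27 LD2_c52 LD3_c9) (LK LD1_c18 LD2_c11 LD3_c37) Lrfl Lrfl
theorem f370878 : Led Lsl_bf (LP (LK LD1_c18 LD2_c30 LD3_c50)) = (LP (LK LD1_c18 LD2_c11 LD3_c37)) :=
  Lgr Lrot93 (Lpr_dt (f282185 IH) (Lpr_bt (f370567 IH) (Lpr_dt (f278400 IH) (Lpn (LP (LK LD1_c18 LD2_c11 LD3_c37))))))
theorem f364521 : Led Lsl_ff (LP (LK LD1_c10 LD2_c24 LD3_c37)) = (LP (LK LD1_c18 LD2_c30 LD3_c60)) :=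
  Lgr Lrot25 (Lpr_bt (K23.f229231 IH) (Lpr_ft (K26.f364517 IH) (Lpr_bt (K44.f246192 IH) (Lpn (LP (LK LD1_c18 LD2_c30 LD3_c60))))))
theorem f278331 : Led Lsl_at (LP (LK LD1_c10 LD2_c24 LD3_c37)) = (LP (LK LD1_c18 LD2_c53 LD3_c11)) :=
  Lre_a IH (LK LD1_c10 LD2_c24 LD3_c37) (LK LD1_c18 LD2_c53 LD3_c11) Lrfl Lrfl
theorem f246193 : Led Lsl_gt (LP (LK LD1_c18 LD2_c30 LD3_c60)) = (LP (LK LD1_c28 LD2_c5 LD3_c8)) :=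
  Lre_g IH (LK LD1_c18 LD2_c30 LD3_c60) (LK LD1_c28 LD2_c5 LD3_c8) Lrfl Lrfl
theorem f377966 : Led Lsl_gf (LP (LK LD1_c18 LD2_c53 LD3_c11)) = (LP (LK LD1_c28 LD2_c5 LD3_c8)) :=
  Lgr Lrot76 (Lpe (f278331 IH) (Lpr_ff (f364521 IH) (Lpr_gt (f246193 IH) (Lpn (LP (LK LD1_c28 LD2_c5 LD3_c8))))))
theorem f544704 : Led Lsl_bt (LP (LK LD1_c18 LD2_c30 LD3_c37)) = (LP (LK LD1_c28 LD2_c4 LD3_c43)) :=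
  Lre_b IH (LK LD1_c18 LD2_c30 LD3_c37) (LK LD1_c28 LD2_c4 LD3_c43) Lrfl Lrfl
theorem f544707 : Led Lsl_gt (LP (LK LD1_c28 LD2_c4 LD3_c43)) = (LP (LK LD1_c32 LD2_c31 LD3_c37)) :=
  Lre_g IH (LK LD1_c28 LD2_c4 LD3_c43) (LK LD1_c32 LD2_c31 LD3_c37) Lrfl Lrfl
theorem f584239 : Led Lsl_cf (LP (LK LD1_c28 LD2_c5 LD3_c8)) = (LP (LK LD1_c32 LD2_c31 LD3_c37)) :=
  Lgr Lrot125 (Lpe (f377966 IH) (Lpr_cf (K44.f278365 IH) (Lpe (f370878 IH) (Lpe (f370942 IH) (Lpr_bf (f584232 IH) (Lpr_ct (f212411 IH) (Lpr_gt (K44.f212379 IH) (Lpr_cf (K44.f544705 IH) (Lpr_bt (f544704 IH) (Lpr_gt (f544707 IH) (Lpn (LP (LK LD1_c32 LD2_c31 LD3_c37)))))))))))))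
theorem f584243 : Led Lsl_bf (LP (LK LD1_c28 LD2_c5 LD3_c35)) = (LP (LK LD1_c32 LD2_c31 LD3_c37)) :=
  Lgr Lrot165 (Lpr_gt (f259740 IH) (Lpe (K53.f259738 IH) (Lpr_gt (K53.f259736 IH) (Lpe (K53.f259463 IH) (Lpr_bt (K53.f259735 IH) (Lpr_gt (K15.f259707 IH) (Lpe (K44.f215590 IH) (Lpr_ct (K44.f215592 IH) (Lpr_gt (f246193 IH) (Lpr_cf (f584239 IH) (Lpn (LP (LK LD1_c32 LD2_c31 LD3_c37)))))))))))))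
theorem f285464 : Led Lsl_gt (LP (LK LD1_c18 LD2_c31 LD3_c0)) = (LP (LK LD1_c10 LD2_c9 LD3_c56)) :=
  Lre_g IH (LK LD1_c18 LD2_c31 LD3_c0) (LK LD1_c10 LD2_c9 LD3_c56) Lrfl Lrfl
theorem f410458 : Led Lsl_ct (LP (LK LD1_c28 LD2_c25 LD3_c34)) = (LP (LK LD1_c18 LD2_c58 LD3_c8)) :=
  Lre_c IH (LK LD1_c28 LD2_c25 LD3_c34) (LK LD1_c18 LD2_c58 LD3_c8) Lrfl Lrfl
theorem f215591 : Led Lsl_ct (LP (LK LD1_c18 LD2_c30 LD3_c60)) = (LP (LK LD1_c10 LD2_c9 LD3_c56)) :=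
  Lre_c IH (LK LD1_c18 LD2_c30 LD3_c60) (LK LD1_c10 LD2_c9 LD3_c56) Lrfl Lrfl
theorem f183700 : Led Lsl_bt (LP (LK LD1_c27 LD2_c58 LD3_c57)) = (LP (LK LD1_c18 LD2_c20 LD3_c14)) :=
  Lre_b IH (LK LD1_c27 LD2_c58 LD3_c57) (LK LD1_c18 LD2_c20 LD3_c14) Lrfl Lrfl
theorem f410456 : Led Lsl_ct (LP (LK LD1_c27 LD2_c58 LD3_c57)) = (LP (LK LD1_c18 LD2_c31 LD3_c0)) :=
  Lgr Lrot64 (Lpr_bt (f183700 IH) (Lpe (K71.f169544 IH) (Lpe (K15.f169543 IH) (Lpr_ct (K14.f169541 IH) (Lpr_gf (K9.f183694 IH) (Lpe (K19.f183696 IH) (Lpr_gf (K19.f273635 IH) (Lpe (K44.f242356 IH) (Lpr_ct (f215591 IH) (Lpe (f285464 IH) (Lpn (LP (LK LD1_c18 LD2_c31 LD3_c0)))))))))))))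
theorem f585595 : Led Lsl_gf (LP (LK LD1_c27 LD2_c58 LD3_c57)) = (LP (LK LD1_c32 LD2_c29 LD3_c20)) :=
  Lgr Lrot181 (Lpr_ct (f410456 IH) (Lpr_gt (f285464 IH) (Lpe (f215591 IH) (Lpr_bt (K44.f242356 IH) (Lpe (K19.f273635 IH) (Lpe (K44.f254568 IH) (Lpr_ct (K38.f189535 IH) (Lpr_gt (K44.f248221 IH) (Lpe (f410458 IH) (Lpr_bt (K44.f585591 IH) (Lpn (LP (LK LD1_c32 LD2_c29 LD3_c20)))))))))))))
theorem f410460 : Led Lsl_cf (LP (LK LD1_c27 LD2_c58 LD3_c57)) = (LP (LK LD1_c18 LD2_c31 LD3_c0)) :=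
  Lgr Lrot11 (Lpr_ct (f410456 IH) (Lpn (LP (LK LD1_c18 LD2_c31 LD3_c0))))
theorem f406741 : Led Lsl_ct (LP (LK LD1_c27 LD2_c51 LD3_c41)) = (LP (LK LD1_c32 LD2_c29 LD3_c20)) :=
  Lre_c IH (LK LD1_c27 LD2_c51 LD3_c41) (LK LD1_c32 LD2_c29 LD3_c20) Lrfl Lrfl
theorem f585597 : Led Lsl_bt (LP (LK LD1_c18 LD2_c31 LD3_c0)) = (LP (LK LD1_c18 LD2_c12 LD3_c37)) :=
  Lgr Lrot130 (Lpe (f410460 IH) (Lpr_gf (f585595 IH) (Lpe (f406741 IH) (Lpr_bt (K44.f406740 IH) (Lpr_gf (K44.f406737 IH) (Lpe (K44.f299890 IH) (Lpr_ct (K18.f299719 IH) (Lpr_gf (K44.f408323 IH) (Lpe (f169959 IH) (Lpe (f177347 IH) (Lpn (LP (LK LD1_c18 LD2_c12 LD3_c37)))))))))))))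
theorem f585599 : Led Lsl_bf (LP (LK LD1_c18 LD2_c31 LD3_c0)) = (LP (LK LD1_c18 LD2_c12 LD3_c37)) :=
  Lgr Lrot24 (Lpr_bt (f585597 IH) (Lpn (LP (LK LD1_c18 LD2_c12 LD3_c37))))
theorem f721404 : Led Lsl_cf (LP (LK LD1_c18 LD2_c22 LD3_c15)) = (LP (LK LD1_c18 LD2_c12 LD3_c37)) :=
  Lgr Lrot58 (Lpr_gf (f721402 IH) (Lpe (K69.f259749 IH) (Lpr_bt (f259744 IH) (Lpe (f259740 IH) (Lpr_bf (f584243 IH) (Lpe (f584239 IH) (Lpe (f246193 IH) (Lpe (K44.f215592 IH) (Lpe (f285464 IH) (Lpr_bf (f585599 IH) (Lpn (LP (LK LD1_c18 LD2_c12 LD3_c37)))))))))))))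
theorem f721406 : Led Lsl_ct (LP (LK LD1_c18 LD2_c22 LD3_c15)) = (LP (LK LD1_c18 LD2_c12 LD3_c37)) :=
  Lgr Lrot59 (Lpr_cf (f721404 IH) (Lpn (LP (LK LD1_c18 LD2_c12 LD3_c37))))
theorem f410459 : Led Lsl_bt (LP (LK LD1_c18 LD2_c20 LD3_c14)) = (LP (LK LD1_c27 LD2_c58 LD3_c57)) :=
  Lre_b IH (LK LD1_c18 LD2_c20 LD3_c14) (LK LD1_c27 LD2_c58 LD3_c57) Lrfl Lrfl
theorem f923981 : Led Lsl_bt (LP (LK LD1_c18 LD2_c22 LD3_c15)) = (LP (LK LD1_c18 LD2_c41 LD3_c44)) :=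
  Lgr Lrot128 (Lpr_cf (f721404 IH) (Lpe (f585597 IH) (Lpe (f410456 IH) (Lpe (f410459 IH) (Lpr_cf (K71.f923979 IH) (Lpn (LP (LK LD1_c18 LD2_c41 LD3_c44))))))))
theorem f928870 : Led Lsl_gt (LP (LK LD1_c18 LD2_c41 LD3_c44)) = v41816 :=
  Lgr Lrot164 (Lpe (f923981 IH) (Lpr_ct (f721406 IH) (Lpe (f925674 IH) (Lpe (K44.f299885 IH) (Lpr_gf (f299880 IH) (Lpe (K44.f299872 IH) (Lpr_ct (K44.f299668 IH) (Lpe (K44.f299665 IH) (Lpe (f186738 IH) (Lpr_bt (f928869 IH) (Lpn v41816)))))))))))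
theorem f928872 : Led Lsl_ft (LP (LK LD1_c10 LD2_c16 LD3_c55)) = (LP (LK LD1_c10 LD2_c2 LD3_c27)) :=
  Lgr Lrot2 (Lpr_gt (K71.f409190 IH) (Lpr_gt (f928870 IH) (Lpe (f928866 IH) (Lpn (LP (LK LD1_c10 LD2_c2 LD3_c27))))))
theorem f928873 : Led Lsl_ft (LP (LK LD1_c10 LD2_c16 LD3_c55)) = (LP (LK LD1_c10 LD2_c2 LD3_c27)) :=
  Leop (Lpe (f928872 IH) (Lpn (LP (LK LD1_c10 LD2_c16 LD3_c55))))
theorem seed_2546 : LEOK LG_f (LK LD1_c10 LD2_c16 LD3_c55) :=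
  Leoe_f (LK LD1_c10 LD2_c16 LD3_c55) (f928873 IH)
def v41808 : LQ := Led Lsl_at (LP (LK LD1_c10 LD2_c2 LD3_c25))
theorem f928833 : Led Lsl_at (LP (LK LD1_c10 LD2_c2 LD3_c25)) = v41808 :=
  Lrfl
theorem f302217 : Led Lsl_ct (LP (LK LD1_c5 LD2_c5 LD3_c40)) = (LP (LK LD1_c10 LD2_c2 LD3_c25)) :=
  Lre_c IH (LK LD1_c5 LD2_c5 LD3_c40) (LK LD1_c10 LD2_c2 LD3_c25) Lrfl Lrfl
theorem f928835 : Led Lsl_cf v14295 = v41808 :=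
  Lgr Lrot1 (Lpe (f721774 IH) (Lpr_ct (f302217 IH) (Lpr_at (f928833 IH) (Lpn v41808))))
theorem f928836 : Led Lsl_ct v14295 = v41808 :=
  Lgr Lrot59 (Lpr_cf (f928835 IH) (Lpn v41808))
def v14541 : LQ := Led Lsl_at (LP (LK LD1_c5 LD2_c13 LD3_c16))
theorem f723113 : Led Lsl_at (LP (LK LD1_c5 LD2_c13 LD3_c16)) = v14541 :=
  Lrfl
theorem f723114 : Led Lsl_af (LP (LK LD1_c5 LD2_c13 LD3_c16)) = v14541 :=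
  Lgr Lrot0 (Lpr_at (f723113 IH) (Lpn v14541))
theorem f723116 : Led Lsl_ft (LP (LK LD1_c5 LD2_c13 LD3_c17)) = v14541 :=
  Lgr Lrot2 (Lpr_gt (K45.f185420 IH) (Lpr_gt (K71.f185339 IH) (Lpr_af (f723114 IH) (Lpn v14541))))
theorem f723118 : Led Lsl_ff (LP (LK LD1_c5 LD2_c13 LD3_c17)) = v14541 :=
  Lgr Lrot3 (Lpr_ft (f723116 IH) (Lpn v14541))
theorem f302231 : Led Lsl_bt (LP (LK LD1_c10 LD2_c2 LD3_c27)) = (LP (LK LD1_c5 LD2_c5 LD3_c41)) :=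
  Lre_b IH (LK LD1_c10 LD2_c2 LD3_c27) (LK LD1_c5 LD2_c5 LD3_c41) Lrfl Lrfl
theorem f928878 : v14541 = (LP (LK LD1_c5 LD2_c5 LD3_c41)) :=
  (Llr Lrot25 (Lpe (f723118 IH) (Lpr_bt (K71.f723119 IH) (Lpr_ft (f928872 IH) (Lpr_bt (f302231 IH) (Lpn (LP (LK LD1_c5 LD2_c5 LD3_c41)))))))).symm
theorem f928882 : (LP (LK LD1_c5 LD2_c13 LD3_c17)) = v14295 :=
  Lefun (Lecon (Lfl_ff (f723118 IH)) (f928878 IH)) (f721776 IH)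
theorem f928902 : v41808 = (LP (LK LD1_c10 LD2_c16 LD3_c56)) :=
  Lefun (Lecon (f928836 IH) (f928882 IH).symm) (K71.f185426 IH)
theorem f721777 : Led Lsl_ff (LP (LK LD1_c5 LD2_c5 LD3_c41)) = v14295 :=
  Lgr Lrot3 (Lpr_ft (f721776 IH) (Lpn v14295))
theorem f302228 : Led Lsl_ct (LP (LK LD1_c5 LD2_c5 LD3_c41)) = (LP (LK LD1_c10 LD2_c2 LD3_c28)) :=
  Lre_c IH (LK LD1_c5 LD2_c5 LD3_c41) (LK LD1_c10 LD2_c2 LD3_c28) Lrfl Lrfl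
theorem f928837 : Led Lsl_ft (LP (LK LD1_c10 LD2_c2 LD3_c28)) = v41808 :=
  Lgr Lrot4 (Lpe (f302228 IH) (Lpr_ff (f721777 IH) (Lpr_cf (f928835 IH) (Lpn v41808))))
theorem f928840 : Led Lsl_ff (LP (LK LD1_c10 LD2_c2 LD3_c28)) = v41808 :=
  Lgr Lrot3 (Lpr_ft (f928837 IH) (Lpn v41808))
def v41811 : LQ := Led Lsl_ft (LP (LK LD1_c10 LD2_c2 LD3_c25))
theorem f928850 : Led Lsl_ft (LP (LK LD1_c10 LD2_c2 LD3_c25)) = v41811 :=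
  Lrfl
theorem f928853 : Led Lsl_ff (LP (LK LD1_c10 LD2_c2 LD3_c25)) = v41811 :=
  Lgr Lrot3 (Lpr_ft (f928850 IH) (Lpn v41811))
theorem f928856 : Led Lsl_at (LP (LK LD1_c10 LD2_c2 LD3_c28)) = v41811 :=
  Lgr Lrot66 (Lpr_ff (f928840 IH) (Lpe (f928833 IH) (Lpr_ff (f928853 IH) (Lpn v41811))))
theorem f177350 : Led Lsl_ct (LP (LK LD1_c10 LD2_c2 LD3_c25)) = (LP (LK LD1_c5 LD2_c5 LD3_c40)) :=
  Lre_c IH (LK LD1_c10 LD2_c2 LD3_c25) (LK LD1_c5 LD2_c5 LD3_c40) Lrfl Lrfl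
theorem f928857 : Led Lsl_ct v14297 = v41811 :=
  Lgr Lrot40 (Lpe (f721782 IH) (Lpe (f177350 IH) (Lpr_ff (f928853 IH) (Lpn v41811))))
theorem f721786 : Led Lsl_at (LP (LK LD1_c5 LD2_c5 LD3_c41)) = v14297 :=
  Lgr Lrot66 (Lpr_ff (f721777 IH) (Lpe (f721773 IH) (Lpr_ff (f721785 IH) (Lpn v14297))))
theorem f928879 : (LP (LK LD1_c5 LD2_c13 LD3_c16)) = v14297 :=
  Lefun (Lecon (Lfl_af (f723114 IH)) (f928878 IH)) (f721786 IH)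
theorem f928890 : v41811 = (LP (LK LD1_c10 LD2_c16 LD3_c53)) :=
  Lefun (Lecon (f928857 IH) (f928879 IH).symm) (K71.f185414 IH)
theorem f302204 : Led Lsl_gt (LP (LK LD1_c18 LD2_c41 LD3_c42)) = (LP (LK LD1_c10 LD2_c16 LD3_c53)) :=
  Lre_g IH (LK LD1_c18 LD2_c41 LD3_c42) (LK LD1_c10 LD2_c16 LD3_c53) Lrfl Lrfl
theorem f928937 : Led Lsl_gf (LP (LK LD1_c18 LD2_c41 LD3_c42)) = (LP (LK LD1_c10 LD2_c16 LD3_c56)) :=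
  Lgr Lrot47 (Lpr_gt (f302204 IH) (Lpq (f928890 IH) (Lpe (f928856 IH) (Lpr_ff (f928840 IH) (Lpqs (f928902 IH) (Lpn (LP (LK LD1_c10 LD2_c16 LD3_c56))))))))
theorem f584544 : Led Lsl_bt (LP (LK LD1_c18 LD2_c33 LD3_c39)) = (LP (LK LD1_c18 LD2_c10 LD3_c41)) :=
  Lgr Lrot62 (Lpe (f584543 IH) (Lpe (f584512 IH) (Lpr_af (K44.f584538 IH) (Lpe (K44.f169592 IH) (Lpe (K44.f169601 IH) (Lpn (LP (LK LD1_c18 LD2_c10 LD3_c41))))))))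
theorem f585148 : Led Lsl_at (LP (LK LD1_c18 LD2_c10 LD3_c46)) = (LP (LK LD1_c9 LD2_c56 LD3_c3)) :=
  Lre_a IH (LK LD1_c18 LD2_c10 LD3_c46) (LK LD1_c9 LD2_c56 LD3_c3) Lrfl Lrfl
theorem f585149 : Led Lsl_ft (LP (LK LD1_c18 LD2_c33 LD3_c39)) = (LP (LK LD1_c18 LD2_c10 LD3_c46)) :=
  Lgr Lrot101 (Lpe (f584543 IH) (Lpr_ff (f584585 IH) (Lpe (f585148 IH) (Lpn (LP (LK LD1_c18 LD2_c10 LD3_c46))))))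
theorem f585158 : Led Lsl_ff (LP (LK LD1_c18 LD2_c33 LD3_c39)) = (LP (LK LD1_c18 LD2_c10 LD3_c46)) :=
  Lgr Lrot3 (Lpr_ft (f585149 IH) (Lpn (LP (LK LD1_c18 LD2_c10 LD3_c46))))
theorem f585216 : Led Lsl_bf (LP (LK LD1_c18 LD2_c10 LD3_c46)) = (LP (LK LD1_c18 LD2_c21 LD3_c51)) :=
  Lgr Lrot61 (Lpe (f585158 IH) (Lpr_bt (f584544 IH) (Lpr_ft (K44.f585212 IH) (Lpn (LP (LK LD1_c18 LD2_c21 LD3_c51))))))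
theorem f299737 : Led Lsl_bt (LP (LK LD1_c9 LD2_c56 LD3_c3)) = (LP (LK LD1_c5 LD2_c2 LD3_c34)) :=
  Lre_b IH (LK LD1_c9 LD2_c56 LD3_c3) (LK LD1_c5 LD2_c2 LD3_c34) Lrfl Lrfl
theorem f584575 : Led Lsl_ft (LP (LK LD1_c10 LD2_c11 LD3_c18)) = (LP (LK LD1_c9 LD2_c56 LD3_c3)) :=
  Lgr Lrot75 (Lpe (f584512 IH) (Lpr_ff (K44.f584573 IH) (Lpe (f299737 IH) (Lpn (LP (LK LD1_c9 LD2_c56 LD3_c3))))))
theorem f584565 : Led Lsl_at (LP (LK LD1_c9 LD2_c56 LD3_c3)) = (LP (LK LD1_c18 LD2_c10 LD3_c46)) :=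
  Lre_a IH (LK LD1_c9 LD2_c56 LD3_c3) (LK LD1_c18 LD2_c10 LD3_c46) Lrfl Lrfl
theorem f585191 : Led Lsl_gt (LP (LK LD1_c18 LD2_c33 LD3_c38)) = (LP (LK LD1_c18 LD2_c10 LD3_c46)) :=
  Lgr Lrot46 (Lpe (f421613 IH) (Lpr_ft (f584575 IH) (Lpr_at (f584565 IH) (Lpn (LP (LK LD1_c18 LD2_c10 LD3_c46))))))
theorem f925656 : Led Lsl_bf (LP (LK LD1_c18 LD2_c33 LD3_c38)) = v41365 :=
  Lgr Lrot24 (Lpr_bt (f925655 IH) (Lpn v41365))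
theorem f928939 : Led Lsl_cf (LP (LK LD1_c18 LD2_c41 LD3_c42)) = v41365 :=
  Lgr Lrot163 (Lpr_gf (f928937 IH) (Lpe (K71.f185426 IH) (Lpr_gf (K45.f406553 IH) (Lpe (K45.f302245 IH) (Lpr_ct (K44.f300584 IH) (Lpe (K45.f406702 IH) (Lpe (K44.f165305 IH) (Lpe (f585216 IH) (Lpe (f585191 IH) (Lpr_bf (f925656 IH) (Lpn v41365)))))))))))
theorem f586587 : Led Lsl_ct (LP (LK LD1_c18 LD2_c9 LD3_c57)) = (LP (LK LD1_c18 LD2_c33 LD3_c38)) :=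
  Lgr Lrot59 (Lpr_cf (f586585 IH) (Lpn (LP (LK LD1_c18 LD2_c33 LD3_c38))))
theorem f242988 : Led Lsl_ct (LP (LK LD1_c18 LD2_c19 LD3_c40)) = (LP (LK LD1_c27 LD2_c50 LD3_c28)) :=
  Lgr Lrot59 (Lpr_cf (K44.f242985 IH) (Lpn (LP (LK LD1_c27 LD2_c50 LD3_c28))))
theorem f928940 : Led Lsl_bt (LP (LK LD1_c18 LD2_c41 LD3_c42)) = (LP (LK LD1_c18 LD2_c19 LD3_c40)) :=
  Lgr Lrot128 (Lpr_cf (f928939 IH) (Lpe (f925655 IH) (Lpe (f586587 IH) (Lpe (K44.f182053 IH) (Lpe (f242988 IH) (Lpn (LP (LK LD1_c18 LD2_c19 LD3_c40))))))))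
theorem f928941 : Led Lsl_bt (LP (LK LD1_c18 LD2_c41 LD3_c42)) = (LP (LK LD1_c18 LD2_c19 LD3_c40)) :=
  Leop (Lpe (f928940 IH) (Lpn (LP (LK LD1_c18 LD2_c41 LD3_c42))))
theorem seed_2547 : LEOK LG_b (LK LD1_c18 LD2_c41 LD3_c42) :=
  Leoe_b (LK LD1_c18 LD2_c41 LD3_c42) (f928941 IH)
theorem f32696 : Led Lsl_dt (LP (LK LD1_c2 LD2_c35 LD3_c61)) = (LP (LK LD1_c5 LD2_c18 LD3_c47)) :=
  Lre_d IH (LK LD1_c2 LD2_c35 LD3_c61) (LK LD1_c5 LD2_c18 LD3_c47) Lrfl Lrfl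
theorem f32770 : Led Lsl_dt (LP (LK LD1_c5 LD2_c18 LD3_c8)) = (LP (LK LD1_c10 LD2_c25 LD3_c59)) :=
  Lre_d IH (LK LD1_c5 LD2_c18 LD3_c8) (LK LD1_c10 LD2_c25 LD3_c59) Lrfl Lrfl
def v14697 : LQ := Led Lsl_gf (LP (LK LD1_c5 LD2_c18 LD3_c42))
theorem f725017 : Led Lsl_gf (LP (LK LD1_c5 LD2_c18 LD3_c42)) = v14697 :=
  Lrfl
theorem f725010 : Led Lsl_at (LP (LK LD1_c10 LD2_c26 LD3_c55)) = (LP (LK LD1_c5 LD2_c18 LD3_c42)) :=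
  Lre_a IH (LK LD1_c10 LD2_c26 LD3_c55) (LK LD1_c5 LD2_c18 LD3_c42) Lrfl Lrfl
theorem f725018 : Led Lsl_ft (LP (LK LD1_c5 LD2_c18 LD3_c47)) = (LP (LK LD1_c10 LD2_c26 LD3_c55)) :=
  Lre_f IH (LK LD1_c5 LD2_c18 LD3_c47) (LK LD1_c10 LD2_c26 LD3_c55) Lrfl Lrfl
theorem f725019 : Led Lsl_gt (LP (LK LD1_c5 LD2_c18 LD3_c47)) = v14697 :=
  Lgr Lrot5 (Lpr_ft (f725018 IH) (Lpr_at (f725010 IH) (Lpr_gf (f725017 IH) (Lpn v14697))))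
def v41454 : LQ := Led Lsl_gt (LP (LK LD1_c9 LD2_c57 LD3_c58))
theorem f926060 : Led Lsl_gt (LP (LK LD1_c9 LD2_c57 LD3_c58)) = v41454 :=
  Lrfl
theorem f406511 : Led Lsl_bt (LP (LK LD1_c5 LD2_c13 LD3_c16)) = (LP (LK LD1_c10 LD2_c16 LD3_c52)) :=
  Lre_b IH (LK LD1_c5 LD2_c13 LD3_c16) (LK LD1_c10 LD2_c16 LD3_c52) Lrfl Lrfl
theorem f928943 : Led Lsl_gt (LP (LK LD1_c10 LD2_c16 LD3_c52)) = (LP (LK LD1_c18 LD2_c32 LD3_c0)) :=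
  Lgr Lrot164 (Lpe (f406511 IH) (Lpr_ct (K71.f185414 IH) (Lpe (f302204 IH) (Lpr_cf (f928939 IH) (Lpr_gf (f928259 IH) (Lpe (f928260 IH) (Lpr_ct (f928261 IH) (Lpe (f928264 IH) (Lpe (f345141 IH) (Lpr_bt (K71.f586553 IH) (Lpn (LP (LK LD1_c18 LD2_c32 LD3_c0)))))))))))))
theorem f928829 : Led Lsl_bt v14297 = v41805 :=
  Lgr Lrot35 (Lpe (f721782 IH) (Lpe (K44.f302218 IH) (Lpr_ff (f928827 IH) (Lpn v41805))))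
theorem f928885 : v41805 = (LP (LK LD1_c10 LD2_c16 LD3_c52)) :=
  Lefun (Lecon (f928829 IH) (f928879 IH).symm) (f406511 IH)
theorem f928948 : v41803 = (LP (LK LD1_c18 LD2_c9 LD3_c22)) :=
  (Llr Lrot26 (Lpe (f928814 IH) (Lpr_ff (f928827 IH) (Lpqs (f928885 IH) (Lpr_gt (f928943 IH) (Lpr_gt (f586578 IH) (Lpn (LP (LK LD1_c18 LD2_c9 LD3_c22))))))))).symm
theorem f723128 : Led Lsl_at (LP (LK LD1_c18 LD2_c41 LD3_c45)) = (LP (LK LD1_c10 LD2_c16 LD3_c55)) :=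
  Lre_a IH (LK LD1_c18 LD2_c41 LD3_c45) (LK LD1_c10 LD2_c16 LD3_c55) Lrfl Lrfl
theorem f928874 : Led Lsl_ff (LP (LK LD1_c18 LD2_c41 LD3_c45)) = v41816 :=
  Lgr Lrot30 (Lpr_at (f723128 IH) (Lpr_ft (f928872 IH) (Lpr_at (f928866 IH) (Lpn v41816))))
theorem f929234 : Led Lsl_bt (LP (LK LD1_c18 LD2_c41 LD3_c45)) = (LP (LK LD1_c18 LD2_c9 LD3_c22)) :=
  Lgr Lrot35 (Lpr_ff (f928874 IH) (Lpe (f928869 IH) (Lpr_ff (f928817 IH) (Lpqs (f928948 IH) (Lpn (LP (LK LD1_c18 LD2_c9 LD3_c22)))))))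
theorem f249493 : Led Lsl_bt (LP (LK LD1_c10 LD2_c24 LD3_c61)) = (LP (LK LD1_c18 LD2_c53 LD3_c55)) :=
  Lre_b IH (LK LD1_c10 LD2_c24 LD3_c61) (LK LD1_c18 LD2_c53 LD3_c55) Lrfl Lrfl
theorem f929247 : Led Lsl_cf (LP (LK LD1_c18 LD2_c41 LD3_c45)) = (LP (LK LD1_c18 LD2_c53 LD3_c55)) :=
  Lgr Lrot97 (Lpr_bt (f929234 IH) (Lpr_ct (K53.f249492 IH) (Lpr_bt (f249491 IH) (Lpr_ct (K44.f249481 IH) (Lpr_bt (f249493 IH) (Lpn (LP (LK LD1_c18 LD2_c53 LD3_c55))))))))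
theorem f929251 : Led Lsl_ct (LP (LK LD1_c18 LD2_c41 LD3_c45)) = (LP (LK LD1_c18 LD2_c53 LD3_c55)) :=
  Lgr Lrot59 (Lpr_cf (f929247 IH) (Lpn (LP (LK LD1_c18 LD2_c53 LD3_c55))))
theorem f406518 : Led Lsl_gt (LP (LK LD1_c18 LD2_c41 LD3_c39)) = (LP (LK LD1_c10 LD2_c16 LD3_c52)) :=
  Lre_g IH (LK LD1_c18 LD2_c41 LD3_c39) (LK LD1_c10 LD2_c16 LD3_c52) Lrfl Lrfl
theorem f929236 : Led Lsl_gf (LP (LK LD1_c18 LD2_c41 LD3_c39)) = (LP (LK LD1_c18 LD2_c9 LD3_c22)) :=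
  Lgr Lrot47 (Lpr_gt (f406518 IH) (Lpq (f928885 IH) (Lpe (f928828 IH) (Lpr_ff (f928817 IH) (Lpqs (f928948 IH) (Lpn (LP (LK LD1_c18 LD2_c9 LD3_c22))))))))
theorem f724258 : Led Lsl_bf (LP (LK LD1_c18 LD2_c9 LD3_c4)) = (LP (LK LD1_c17 LD2_c47 LD3_c46)) :=
  Lgr Lrot93 (Lpr_dt (K53.f724254 IH) (Lpr_bt (K53.f43693 IH) (Lpr_dt (K45.f43691 IH) (Lpn (LP (LK LD1_c17 LD2_c47 LD3_c46))))))
theorem f929239 : Led Lsl_cf (LP (LK LD1_c18 LD2_c41 LD3_c39)) = (LP (LK LD1_c17 LD2_c47 LD3_c46)) :=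
  Lgr Lrot163 (Lpr_gf (f929236 IH) (Lpe (f249520 IH) (Lpe (K44.f216148 IH) (Lpe (K44.f216147 IH) (Lpr_ct (K11.f165324 IH) (Lpe (K15.f166628 IH) (Lpe (K15.f184879 IH) (Lpr_bt (K44.f257416 IH) (Lpe (K53.f257097 IH) (Lpr_bf (f724258 IH) (Lpn (LP (LK LD1_c17 LD2_c47 LD3_c46)))))))))))))
theorem f929242 : Led Lsl_ct (LP (LK LD1_c18 LD2_c41 LD3_c39)) = (LP (LK LD1_c17 LD2_c47 LD3_c46)) :=
  Lgr Lrot59 (Lpr_cf (f929239 IH) (Lpn (LP (LK LD1_c17 LD2_c47 LD3_c46))))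
theorem f929255 : Led Lsl_gt (LP (LK LD1_c18 LD2_c20 LD3_c27)) = (LP (LK LD1_c18 LD2_c53 LD3_c55)) :=
  Lgr Lrot65 (Lpe (K45.f285242 IH) (Lpr_bt (K45.f417496 IH) (Lpe (K44.f585875 IH) (Lpe (K44.f186802 IH) (Lpr_ct (K44.f185402 IH) (Lpe (K45.f584336 IH) (Lpe (f929242 IH) (Lpr_gf (f929236 IH) (Lpe (f929234 IH) (Lpr_ct (f929251 IH) (Lpn (LP (LK LD1_c18 LD2_c53 LD3_c55)))))))))))))
theorem f198621 : Led Lsl_bt (LP (LK LD1_c5 LD2_c3 LD3_c30)) = (LP (LK LD1_c9 LD2_c57 LD3_c58)) :=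
  Lre_b IH (LK LD1_c5 LD2_c3 LD3_c30) (LK LD1_c9 LD2_c57 LD3_c58) Lrfl Lrfl
theorem f250024 : Led Lsl_bt (LP (LK LD1_c9 LD2_c55 LD3_c59)) = (LP (LK LD1_c5 LD2_c2 LD3_c32)) :=
  Lre_b IH (LK LD1_c9 LD2_c55 LD3_c59) (LK LD1_c5 LD2_c2 LD3_c32) Lrfl Lrfl
theorem f285234 : Led Lsl_ft (LP (LK LD1_c9 LD2_c57 LD3_c58)) = (LP (LK LD1_c9 LD2_c55 LD3_c59)) :=
  Lgr Lrot75 (Lpe (f198621 IH) (Lpr_ff (K71.f285230 IH) (Lpe (f250024 IH) (Lpn (LP (LK LD1_c9 LD2_c55 LD3_c59))))))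
theorem f285236 : Led Lsl_df (LP (LK LD1_c9 LD2_c57 LD3_c58)) = (LP (LK LD1_c5 LD2_c5 LD3_c32)) :=
  Lgr Lrot78 (Lpr_ft (f285234 IH) (Lpr_dt (K71.f250104 IH) (Lpr_ft (K45.f264194 IH) (Lpn (LP (LK LD1_c5 LD2_c5 LD3_c32))))))
theorem f405463 : Led Lsl_ct (LP (LK LD1_c18 LD2_c55 LD3_c20)) = (LP (LK LD1_c28 LD2_c23 LD3_c21)) :=
  Lre_c IH (LK LD1_c18 LD2_c55 LD3_c20) (LK LD1_c28 LD2_c23 LD3_c21) Lrfl Lrfl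
theorem f181065 : Led Lsl_ct (LP (LK LD1_c28 LD2_c10 LD3_c2)) = (LP (LK LD1_c18 LD2_c36 LD3_c49)) :=
  Lre_c IH (LK LD1_c28 LD2_c10 LD3_c2) (LK LD1_c18 LD2_c36 LD3_c49) Lrfl Lrfl
theorem f412807 : Led Lsl_dt (LP (LK LD1_c10 LD2_c27 LD3_c17)) = (LP (LK LD1_c5 LD2_c18 LD3_c46)) :=
  Lre_d IH (LK LD1_c10 LD2_c27 LD3_c17) (LK LD1_c5 LD2_c18 LD3_c46) Lrfl Lrfl
theorem f186638 : Led Lsl_gt (LP (LK LD1_c10 LD2_c27 LD3_c17)) = (LP (LK LD1_c18 LD2_c56 LD3_c56)) :=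
  Lre_g IH (LK LD1_c10 LD2_c27 LD3_c17) (LK LD1_c18 LD2_c56 LD3_c56) Lrfl Lrfl
theorem f583295 : Led Lsl_ct (LP (LK LD1_c18 LD2_c56 LD3_c56)) = (LP (LK LD1_c28 LD2_c24 LD3_c55)) :=
  Lre_c IH (LK LD1_c18 LD2_c56 LD3_c56) (LK LD1_c28 LD2_c24 LD3_c55) Lrfl Lrfl
theorem f583296 : Led Lsl_gf (LP (LK LD1_c28 LD2_c10 LD3_c2)) = (LP (LK LD1_c28 LD2_c24 LD3_c55)) :=
  Lgr Lrot104 (Lpr_ct (f181065 IH) (Lpe (K71.f181056 IH) (Lpe (K44.f165439 IH) (Lpe (f181049 IH) (Lpr_cf (f583288 IH) (Lpe (K44.f32700 IH) (Lpe (f412807 IH) (Lpr_gt (f186638 IH) (Lpr_ct (f583295 IH) (Lpn (LP (LK LD1_c28 LD2_c24 LD3_c55))))))))))))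
theorem f164644 : Led Lsl_dt (LP (LK LD1_c18 LD2_c36 LD3_c49)) = (LP (LK LD1_c10 LD2_c13 LD3_c33)) :=
  Lre_d IH (LK LD1_c18 LD2_c36 LD3_c49) (LK LD1_c10 LD2_c13 LD3_c33) Lrfl Lrfl
theorem f405454 : Led Lsl_ff (LP (LK LD1_c18 LD2_c36 LD3_c49)) = (LP (LK LD1_c10 LD2_c25 LD3_c59)) :=
  Lgr Lrot19 (Lpr_dt (f164644 IH) (Lpr_ft (K44.f405446 IH) (Lpr_dt (f32770 IH) (Lpn (LP (LK LD1_c10 LD2_c25 LD3_c59))))))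
theorem f181067 : Led Lsl_ct (LP (LK LD1_c18 LD2_c36 LD3_c49)) = (LP (LK LD1_c28 LD2_c10 LD3_c2)) :=
  Lre_c IH (LK LD1_c18 LD2_c36 LD3_c49) (LK LD1_c28 LD2_c10 LD3_c2) Lrfl Lrfl
theorem f405429 : Led Lsl_ct (LP (LK LD1_c18 LD2_c55 LD3_c22)) = (LP (LK LD1_c10 LD2_c25 LD3_c59)) :=
  Lre_c IH (LK LD1_c18 LD2_c55 LD3_c22) (LK LD1_c10 LD2_c25 LD3_c59) Lrfl Lrfl
theorem f405813 : Led Lsl_ft (LP (LK LD1_c28 LD2_c10 LD3_c2)) = (LP (LK LD1_c18 LD2_c55 LD3_c22)) :=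
  Lgr Lrot4 (Lpe (f181067 IH) (Lpr_ff (f405454 IH) (Lpe (f405429 IH) (Lpn (LP (LK LD1_c18 LD2_c55 LD3_c22))))))
theorem f405815 : Led Lsl_at (LP (LK LD1_c18 LD2_c55 LD3_c22)) = (LP (LK LD1_c28 LD2_c23 LD3_c21)) :=
  Lre_a IH (LK LD1_c18 LD2_c55 LD3_c22) (LK LD1_c28 LD2_c23 LD3_c21) Lrfl Lrfl
theorem f405816 : Led Lsl_ft (LP (LK LD1_c28 LD2_c23 LD3_c21)) = (LP (LK LD1_c18 LD2_c55 LD3_c19)) :=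
  Lre_f IH (LK LD1_c28 LD2_c23 LD3_c21) (LK LD1_c18 LD2_c55 LD3_c19) Lrfl Lrfl
theorem f405817 : Led Lsl_af (LP (LK LD1_c28 LD2_c10 LD3_c2)) = (LP (LK LD1_c18 LD2_c55 LD3_c19)) :=
  Lgr Lrot45 (Lpr_ft (f405813 IH) (Lpr_at (f405815 IH) (Lpr_ft (f405816 IH) (Lpn (LP (LK LD1_c18 LD2_c55 LD3_c19))))))
theorem f583298 : Led Lsl_gt (LP (LK LD1_c28 LD2_c23 LD3_c21)) = (LP (LK LD1_c28 LD2_c24 LD3_c55)) :=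
  Lgr Lrot5 (Lpr_ft (f405816 IH) (Lpe (f405817 IH) (Lpr_gf (f583296 IH) (Lpn (LP (LK LD1_c28 LD2_c24 LD3_c55))))))
theorem f604525 : Led Lsl_bf (LP (LK LD1_c18 LD2_c53 LD3_c56)) = (LP (LK LD1_c18 LD2_c56 LD3_c56)) :=
  Lgr Lrot156 (Lpe (K44.f583374 IH) (Lpe (K37.f251214 IH) (Lpe (K17.f251217 IH) (Lpr_gt (K17.f191182 IH) (Lpr_cf (K17.f284891 IH) (Lpe (K71.f264231 IH) (Lpr_gt (K71.f604519 IH) (Lpr_ct (f405463 IH) (Lpr_gt (f583298 IH) (Lpe (f583295 IH) (Lpn (LP (LK LD1_c18 LD2_c56 LD3_c56)))))))))))))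
theorem f604529 : Led Lsl_dt (LP (LK LD1_c18 LD2_c53 LD3_c55)) = (LP (LK LD1_c18 LD2_c56 LD3_c56)) :=
  Lgr Lrot79 (Lpe (f249493 IH) (Lpe (K44.f249501 IH) (Lpr_bf (f604525 IH) (Lpn (LP (LK LD1_c18 LD2_c56 LD3_c56))))))
theorem f583300 : Led Lsl_gt (LP (LK LD1_c18 LD2_c56 LD3_c56)) = (LP (LK LD1_c10 LD2_c27 LD3_c0)) :=
  Lre_g IH (LK LD1_c18 LD2_c56 LD3_c56) (LK LD1_c10 LD2_c27 LD3_c0) Lrfl Lrfl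
theorem f186653 : Led Lsl_dt (LP (LK LD1_c10 LD2_c27 LD3_c0)) = (LP (LK LD1_c5 LD2_c18 LD3_c41)) :=
  Lre_d IH (LK LD1_c10 LD2_c27 LD3_c0) (LK LD1_c5 LD2_c18 LD3_c41) Lrfl Lrfl
theorem f71661 : Led Lsl_dt (LP (LK LD1_c5 LD2_c18 LD3_c42)) = (LP (LK LD1_c2 LD2_c35 LD3_c60)) :=
  Lre_d IH (LK LD1_c5 LD2_c18 LD3_c42) (LK LD1_c2 LD2_c35 LD3_c60) Lrfl Lrfl
theorem f929261 : v41454 = (LP (LK LD1_c5 LD2_c18 LD3_c42)) :=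
  (Llr Lrot49 (Lpe (f926060 IH) (Lpr_df (f285236 IH) (Lpe (K44.f285240 IH) (Lpe (K44.f285241 IH) (Lpr_gt (f929255 IH) (Lpr_dt (f604529 IH) (Lpr_gt (f583300 IH) (Lpr_dt (f186653 IH) (Lpe (K19.f71666 IH) (Lpe (f71661 IH) (Lpn (LP (LK LD1_c5 LD2_c18 LD3_c42)))))))))))))).symm
theorem f929269 : (LP (LK LD1_c9 LD2_c57 LD3_c58)) = v14697 :=
  Lefun (Lecon (Lfl_gt (f926060 IH)) (f929261 IH)) (f725017 IH)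
theorem f285083 : Led Lsl_dt (LP (LK LD1_c9 LD2_c57 LD3_c58)) = (LP (LK LD1_c5 LD2_c5 LD3_c32)) :=
  Lgr Lrot79 (Lpe (f198621 IH) (Lpr_df (K36.f285079 IH) (Lpe (K44.f180610 IH) (Lpn (LP (LK LD1_c5 LD2_c5 LD3_c32))))))
theorem f186726 : Led Lsl_dt (LP (LK LD1_c18 LD2_c20 LD3_c17)) = (LP (LK LD1_c10 LD2_c2 LD3_c6)) :=
  Lre_d IH (LK LD1_c18 LD2_c20 LD3_c17) (LK LD1_c10 LD2_c2 LD3_c6) Lrfl Lrfl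
theorem f929288 : Led Lsl_gt (LP (LK LD1_c10 LD2_c25 LD3_c59)) = (LP (LK LD1_c18 LD2_c20 LD3_c17)) :=
  Lgr Lrot49 (Lpe (f32770 IH) (Lpe (K53.f32769 IH) (Lpe (K44.f32687 IH) (Lpr_gt (K13.f32695 IH) (Lpr_dt (f32696 IH) (Lpr_gt (f725019 IH) (Lpq (f929269 IH) (Lpr_dt (f285083 IH) (Lpe (K15.f186725 IH) (Lpe (f186726 IH) (Lpn (LP (LK LD1_c18 LD2_c20 LD3_c17)))))))))))))
theorem f48857 : Led Lsl_gt (LP (LK LD1_c5 LD2_c18 LD3_c8)) = (LP (LK LD1_c2 LD2_c35 LD3_c46)) :=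
  Lre_g IH (LK LD1_c5 LD2_c18 LD3_c8) (LK LD1_c2 LD2_c35 LD3_c46) Lrfl Lrfl
theorem f186650 : Led Lsl_dt (LP (LK LD1_c5 LD2_c18 LD3_c41)) = (LP (LK LD1_c10 LD2_c27 LD3_c0)) :=
  Lre_d IH (LK LD1_c5 LD2_c18 LD3_c41) (LK LD1_c10 LD2_c27 LD3_c0) Lrfl Lrfl
theorem f583303 : Led Lsl_ct (LP (LK LD1_c18 LD2_c56 LD3_c57)) = (LP (LK LD1_c10 LD2_c27 LD3_c0)) :=
  Lre_c IH (LK LD1_c18 LD2_c56 LD3_c57) (LK LD1_c10 LD2_c27 LD3_c0) Lrfl Lrfl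
theorem f264203 : Led Lsl_ct (LP (LK LD1_c18 LD2_c20 LD3_c17)) = (LP (LK LD1_c27 LD2_c58 LD3_c61)) :=
  Lre_c IH (LK LD1_c18 LD2_c20 LD3_c17) (LK LD1_c27 LD2_c58 LD3_c61) Lrfl Lrfl
theorem f929294 : Led Lsl_gf (LP (LK LD1_c18 LD2_c56 LD3_c57)) = (LP (LK LD1_c27 LD2_c58 LD3_c61)) :=
  Lgr Lrot104 (Lpr_ct (f583303 IH) (Lpe (f186650 IH) (Lpe (K19.f71666 IH) (Lpe (K19.f48806 IH) (Lpe (K13.f48575 IH) (Lpe (f48857 IH) (Lpe (K71.f405443 IH) (Lpr_gt (f929288 IH) (Lpr_ct (f264203 IH) (Lpn (LP (LK LD1_c27 LD2_c58 LD3_c61))))))))))))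
theorem f929297 : Led Lsl_at (LP (LK LD1_c28 LD2_c24 LD3_c47)) = (LP (LK LD1_c18 LD2_c56 LD3_c57)) :=
  Lre_a IH (LK LD1_c28 LD2_c24 LD3_c47) (LK LD1_c18 LD2_c56 LD3_c57) Lrfl Lrfl
theorem f929298 : Led Lsl_ft (LP (LK LD1_c18 LD2_c57 LD3_c17)) = (LP (LK LD1_c28 LD2_c24 LD3_c47)) :=
  Lre_f IH (LK LD1_c18 LD2_c57 LD3_c17) (LK LD1_c28 LD2_c24 LD3_c47) Lrfl Lrfl
theorem f929299 : Led Lsl_gt (LP (LK LD1_c18 LD2_c57 LD3_c17)) = (LP (LK LD1_c27 LD2_c58 LD3_c61)) :=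
  Lgr Lrot5 (Lpr_ft (f929298 IH) (Lpr_at (f929297 IH) (Lpr_gf (f929294 IH) (Lpn (LP (LK LD1_c27 LD2_c58 LD3_c61))))))
theorem f71688 : Led Lsl_ct (LP (LK LD1_c10 LD2_c27 LD3_c17)) = (LP (LK LD1_c18 LD2_c57 LD3_c17)) :=
  Lre_c IH (LK LD1_c10 LD2_c27 LD3_c17) (LK LD1_c18 LD2_c57 LD3_c17) Lrfl Lrfl
theorem f71694 : Led Lsl_bt (LP (LK LD1_c10 LD2_c27 LD3_c17)) = (LP (LK LD1_c18 LD2_c57 LD3_c15)) :=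
  Lre_b IH (LK LD1_c10 LD2_c27 LD3_c17) (LK LD1_c18 LD2_c57 LD3_c15) Lrfl Lrfl
theorem f264193 : Led Lsl_bt (LP (LK LD1_c18 LD2_c20 LD3_c17)) = (LP (LK LD1_c10 LD2_c2 LD3_c7)) :=
  Lre_b IH (LK LD1_c18 LD2_c20 LD3_c17) (LK LD1_c10 LD2_c2 LD3_c7) Lrfl Lrfl
theorem f285406 : Led Lsl_gf (LP (LK LD1_c5 LD2_c18 LD3_c2)) = (LP (LK LD1_c10 LD2_c2 LD3_c7)) :=
  Lgr Lrot144 (Lpr_dt (K17.f50788 IH) (Lpr_gt (K13.f32823 IH) (Lpr_dt (K10.f48391 IH) (Lpe (K10.f50787 IH) (Lpe (K10.f50786 IH) (Lpr_gf (K10.f50775 IH) (Lpe (K17.f50777 IH) (Lpr_gf (K17.f285404 IH) (Lpr_cf (K15.f251437 IH) (Lpn (LP (LK LD1_c10 LD2_c2 LD3_c7))))))))))))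
theorem f284857 : Led Lsl_bt (LP (LK LD1_c10 LD2_c24 LD3_c41)) = (LP (LK LD1_c18 LD2_c53 LD3_c19)) :=
  Lre_b IH (LK LD1_c10 LD2_c24 LD3_c41) (LK LD1_c18 LD2_c53 LD3_c19) Lrfl Lrfl
theorem f929302 : Led Lsl_gf (LP (LK LD1_c18 LD2_c57 LD3_c15)) = (LP (LK LD1_c18 LD2_c53 LD3_c19)) :=
  Lgr Lrot124 (Lpe (f71694 IH) (Lpr_ct (f71688 IH) (Lpr_gt (f929299 IH) (Lpe (f264203 IH) (Lpr_bt (f264193 IH) (Lpe (f285406 IH) (Lpe (K26.f191490 IH) (Lpr_gt (K67.f191313 IH) (Lpe (K17.f284847 IH) (Lpr_bt (f284857 IH) (Lpn (LP (LK LD1_c18 LD2_c53 LD3_c19)))))))))))))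
theorem f214610 : Led Lsl_dt (LP (LK LD1_c18 LD2_c57 LD3_c15)) = (LP (LK LD1_c10 LD2_c27 LD3_c16)) :=
  Lre_d IH (LK LD1_c18 LD2_c57 LD3_c15) (LK LD1_c10 LD2_c27 LD3_c16) Lrfl Lrfl
theorem f321991 : Led Lsl_dt (LP (LK LD1_c10 LD2_c23 LD3_c49)) = (LP (LK LD1_c18 LD2_c51 LD3_c50)) :=
  Lre_d IH (LK LD1_c10 LD2_c23 LD3_c49) (LK LD1_c18 LD2_c51 LD3_c50) Lrfl Lrfl
theorem f188506 : Led Lsl_ct (LP (LK LD1_c18 LD2_c51 LD3_c50)) = (LP (LK LD1_c28 LD2_c20 LD3_c4)) :=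
  Lre_c IH (LK LD1_c18 LD2_c51 LD3_c50) (LK LD1_c28 LD2_c20 LD3_c4) Lrfl Lrfl
theorem f274558 : Led Lsl_bf (LP (LK LD1_c4 LD2_c2 LD3_c58)) = (LP (LK LD1_c2 LD2_c39 LD3_c30)) :=
  Lgr Lrot24 (Lpr_bt (K16.f274556 IH) (Lpn (LP (LK LD1_c2 LD2_c39 LD3_c30))))
theorem f216048 : Led Lsl_cf (LP (LK LD1_c10 LD2_c34 LD3_c26)) = (LP (LK LD1_c17 LD2_c50 LD3_c2)) :=
  Lgr Lrot11 (Lpr_ct (K25.f216007 IH) (Lpn (LP (LK LD1_c17 LD2_c50 LD3_c2))))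
theorem f187709 : Led Lsl_bt (LP (LK LD1_c10 LD2_c30 LD3_c40)) = (LP (LK LD1_c5 LD2_c20 LD3_c20)) :=
  Lre_b IH (LK LD1_c10 LD2_c30 LD3_c40) (LK LD1_c5 LD2_c20 LD3_c20) Lrfl Lrfl
theorem f328894 : Led Lsl_bf (LP (LK LD1_c19 LD2_c2 LD3_c57)) = (LP (LK LD1_c10 LD2_c34 LD3_c26)) :=
  Lgr Lrot81 (Lpr_at (K25.f328893 IH) (Lpr_bt (f187709 IH) (Lpr_at (K21.f328891 IH) (Lpr_bt (K25.f214084 IH) (Lpr_at (K25.f216005 IH) (Lpn (LP (LK LD1_c10 LD2_c34 LD3_c26))))))))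
theorem f194804 : Led Lsl_gt (LP (LK LD1_c10 LD2_c34 LD3_c16)) = (LP (LK LD1_c5 LD2_c21 LD3_c60)) :=
  Lre_g IH (LK LD1_c10 LD2_c34 LD3_c16) (LK LD1_c5 LD2_c21 LD3_c60) Lrfl Lrfl
theorem f396068 : Led Lsl_gf (LP (LK LD1_c10 LD2_c34 LD3_c16)) = (LP (LK LD1_c19 LD2_c2 LD3_c57)) :=
  Lgr Lrot47 (Lpr_gt (f194804 IH) (Lpe (K25.f194787 IH) (Lpr_ff (K25.f336755 IH) (Lpn (LP (LK LD1_c19 LD2_c2 LD3_c57))))))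
theorem f194807 : Led Lsl_dt (LP (LK LD1_c10 LD2_c34 LD3_c16)) = (LP (LK LD1_c19 LD2_c8 LD3_c53)) :=
  Lre_d IH (LK LD1_c10 LD2_c34 LD3_c16) (LK LD1_c19 LD2_c8 LD3_c53) Lrfl Lrfl
theorem f554698 : Led Lsl_cf (LP (LK LD1_c15 LD2_c32 LD3_c41)) = (LP (LK LD1_c19 LD2_c8 LD3_c53)) :=
  Lgr Lrot89 (Lpr_bt (K25.f188504 IH) (Lpe (K26.f251273 IH) (Lpr_dt (K17.f191168 IH) (Lpr_ct (K18.f191167 IH) (Lpe (f274558 IH) (Lpr_gt (K15.f51251 IH) (Lpr_dt (K15.f51250 IH) (Lpe (K10.f194390 IH) (Lpr_bt (K22.f192508 IH) (Lpr_gt (K9.f182089 IH) (Lpr_dt (K9.f28693 IH) (Lpr_ct (K10.f28694 IH) (Lpr_bt (K68.f54291 IH) (Lpe (K68.f194283 IH) (Lpr_dt (K39.f554696 IH) (Lpe (f216048 IH) (Lpe (f328894 IH) (Lpe (f396068 IH) (Lpr_dt (f194807 IH) (Lpn (LP (LK LD1_c19 LD2_c8 LD3_c53))))))))))))))))))))))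
theorem f188505 : Led Lsl_bt (LP (LK LD1_c10 LD2_c23 LD3_c50)) = (LP (LK LD1_c18 LD2_c51 LD3_c50)) :=
  Lre_b IH (LK LD1_c10 LD2_c23 LD3_c50) (LK LD1_c18 LD2_c51 LD3_c50) Lrfl Lrfl
theorem f554700 : Led Lsl_bt (LP (LK LD1_c28 LD2_c20 LD3_c4)) = (LP (LK LD1_c19 LD2_c8 LD3_c53)) :=
  Lgr Lrot128 (Lpe (f188506 IH) (Lpe (f188505 IH) (Lpe (K17.f188500 IH) (Lpe (K25.f188504 IH) (Lpr_cf (f554698 IH) (Lpn (LP (LK LD1_c19 LD2_c8 LD3_c53))))))))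
theorem f273647 : Led Lsl_ct (LP (LK LD1_c10 LD2_c47 LD3_c37)) = (LP (LK LD1_c10 LD2_c24 LD3_c41)) :=
  Lgr Lrot152 (Lpe (K67.f191313 IH) (Lpe (K26.f53483 IH) (Lpr_gt (K10.f51363 IH) (Lpr_ct (K9.f49646 IH) (Lpr_gt (K13.f49630 IH) (Lpr_ct (K13.f50391 IH) (Lpe (K20.f191336 IH) (Lpr_cf (K16.f273637 IH) (Lpe (K16.f259662 IH) (Lpn (LP (LK LD1_c10 LD2_c24 LD3_c41))))))))))))
theorem f192863 : Led Lsl_bt (LP (LK LD1_c5 LD2_c17 LD3_c17)) = (LP (LK LD1_c2 LD2_c35 LD3_c25)) :=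
  Lre_b IH (LK LD1_c5 LD2_c17 LD3_c17) (LK LD1_c2 LD2_c35 LD3_c25) Lrfl Lrfl
theorem f192865 : Led Lsl_ct (LP (LK LD1_c10 LD2_c24 LD3_c10)) = (LP (LK LD1_c18 LD2_c41 LD3_c35)) :=
  Lgr Lrot83 (Lpe (K27.f183666 IH) (Lpe (K13.f183665 IH) (Lpe (f192863 IH) (Lpr_cf (K14.f192859 IH) (Lpe (K27.f192864 IH) (Lpn (LP (LK LD1_c18 LD2_c41 LD3_c35))))))))
theorem f364170 : Led Lsl_ft (LP (LK LD1_c18 LD2_c41 LD3_c35)) = (LP (LK LD1_c17 LD2_c35 LD3_c38)) :=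
  Lgr Lrot75 (Lpe (K27.f192871 IH) (Lpr_ff (K26.f364168 IH) (Lpe (K71.f187871 IH) (Lpn (LP (LK LD1_c17 LD2_c35 LD3_c38))))))
theorem f922129 : Led Lsl_ct (LP (LK LD1_c17 LD2_c35 LD3_c38)) = K71.v41110 :=
  Lgr Lrot40 (Lpe (f364170 IH) (Lpe (f192865 IH) (Lpr_ff (K71.f922124 IH) (Lpn K71.v41110))))
theorem f215330 : Led Lsl_bt (LP (LK LD1_c5 LD2_c22 LD3_c9)) = (LP (LK LD1_c10 LD2_c34 LD3_c48)) :=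
  Lre_b IH (LK LD1_c5 LD2_c22 LD3_c9) (LK LD1_c10 LD2_c34 LD3_c48) Lrfl Lrfl
theorem f215428 : Led Lsl_dt (LP (LK LD1_c10 LD2_c34 LD3_c48)) = (LP (LK LD1_c17 LD2_c35 LD3_c38)) :=
  Lgr Lrot79 (Lpe (f215330 IH) (Lpr_df (K14.f215426 IH) (Lpe (K71.f187871 IH) (Lpn (LP (LK LD1_c17 LD2_c35 LD3_c38))))))
theorem f929306 : Led Lsl_gt (LP (LK LD1_c19 LD2_c8 LD3_c53)) = (LP (LK LD1_c10 LD2_c34 LD3_c48)) :=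
  Lgr Lrot190 (Lpe (f554700 IH) (Lpe (f188506 IH) (Lpe (f321991 IH) (Lpe (K45.f184193 IH) (Lpr_bf (K45.f583826 IH) (Lpe (K44.f214621 IH) (Lpe (K45.f214619 IH) (Lpr_gf (K45.f214617 IH) (Lpe (K45.f185246 IH) (Lpe (K44.f214611 IH) (Lpe (f214610 IH) (Lpr_gf (f929302 IH) (Lpe (f284857 IH) (Lpe (f273647 IH) (Lpe (K67.f191340 IH) (Lpr_gf (K15.f259197 IH) (Lpr_bf (K71.f922121 IH) (Lpe (f922129 IH) (Lpe (f215428 IH) (Lpn (LP (LK LD1_c10 LD2_c34 LD3_c48))))))))))))))))))))))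
theorem f929307 : Led Lsl_gt (LP (LK LD1_c19 LD2_c8 LD3_c53)) = (LP (LK LD1_c10 LD2_c34 LD3_c48)) :=
  Leop (Lpe (f929306 IH) (Lpn (LP (LK LD1_c19 LD2_c8 LD3_c53))))
theorem seed_2548 : LEOK LG_g (LK LD1_c19 LD2_c8 LD3_c53) :=
  Leoe_g (LK LD1_c19 LD2_c8 LD3_c53) (f929307 IH)
theorem f353049 : Led Lsl_ff (LP (LK LD1_c15 LD2_c32 LD3_c40)) = (LP (LK LD1_c15 LD2_c31 LD3_c35)) :=
  Lgr Lrot3 (Lpr_ft (K25.f353039 IH) (Lpn (LP (LK LD1_c15 LD2_c31 LD3_c35))))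
theorem f194788 : Led Lsl_ct (LP (LK LD1_c15 LD2_c32 LD3_c40)) = (LP (LK LD1_c10 LD2_c34 LD3_c17)) :=
  Lgr Lrot111 (Lpe (K39.f194786 IH) (Lpr_cf (K14.f194777 IH) (Lpe (K25.f194787 IH) (Lpn (LP (LK LD1_c10 LD2_c34 LD3_c17))))))
theorem f194925 : Led Lsl_dt (LP (LK LD1_c19 LD2_c8 LD3_c54)) = (LP (LK LD1_c10 LD2_c34 LD3_c17)) :=
  Lre_d IH (LK LD1_c19 LD2_c8 LD3_c54) (LK LD1_c10 LD2_c34 LD3_c17) Lrfl Lrfl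
theorem f336762 : Led Lsl_dt (LP (LK LD1_c19 LD2_c2 LD3_c57)) = (LP (LK LD1_c28 LD2_c29 LD3_c15)) :=
  Lre_d IH (LK LD1_c19 LD2_c2 LD3_c57) (LK LD1_c28 LD2_c29 LD3_c15) Lrfl Lrfl
theorem f336787 : Led Lsl_ft (LP (LK LD1_c10 LD2_c34 LD3_c17)) = (LP (LK LD1_c19 LD2_c2 LD3_c57)) :=
  Lgr Lrot54 (Lpe (f194925 IH) (Lpr_ff (K25.f336781 IH) (Lpe (f336762 IH) (Lpn (LP (LK LD1_c19 LD2_c2 LD3_c57))))))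
theorem f353060 : Led Lsl_ct (LP (LK LD1_c19 LD2_c2 LD3_c57)) = (LP (LK LD1_c15 LD2_c31 LD3_c35)) :=
  Lgr Lrot40 (Lpe (f336787 IH) (Lpe (f194788 IH) (Lpr_ff (f353049 IH) (Lpn (LP (LK LD1_c15 LD2_c31 LD3_c35))))))
theorem f194799 : Led Lsl_at (LP (LK LD1_c15 LD2_c32 LD3_c40)) = (LP (LK LD1_c8 LD2_c16 LD3_c5)) :=
  Lre_a IH (LK LD1_c15 LD2_c32 LD3_c40) (LK LD1_c8 LD2_c16 LD3_c5) Lrfl Lrfl
theorem f184158 : Led Lsl_gt (LP (LK LD1_c15 LD2_c32 LD3_c39)) = (LP (LK LD1_c8 LD2_c16 LD3_c5)) :=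
  Lre_g IH (LK LD1_c15 LD2_c32 LD3_c39) (LK LD1_c8 LD2_c16 LD3_c5) Lrfl Lrfl
theorem f353062 : Led Lsl_gf (LP (LK LD1_c15 LD2_c32 LD3_c39)) = (LP (LK LD1_c15 LD2_c31 LD3_c35)) :=
  Lgr Lrot47 (Lpr_gt (f184158 IH) (Lpe (f194799 IH) (Lpr_ff (f353049 IH) (Lpn (LP (LK LD1_c15 LD2_c31 LD3_c35))))))
theorem f194831 : Led Lsl_dt (LP (LK LD1_c15 LD2_c32 LD3_c39)) = (LP (LK LD1_c25 LD2_c25 LD3_c59)) :=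
  Lre_d IH (LK LD1_c15 LD2_c32 LD3_c39) (LK LD1_c25 LD2_c25 LD3_c59) Lrfl Lrfl
theorem f49697 : Led Lsl_bt (LP (LK LD1_c15 LD2_c31 LD3_c53)) = (LP (LK LD1_c8 LD2_c15 LD3_c34)) :=
  Lre_b IH (LK LD1_c15 LD2_c31 LD3_c53) (LK LD1_c8 LD2_c15 LD3_c34) Lrfl Lrfl
theorem f191365 : Led Lsl_df (LP (LK LD1_c15 LD2_c31 LD3_c53)) = (LP (LK LD1_c10 LD2_c24 LD3_c10)) :=
  Lgr Lrot12 (Lpr_bt (f49697 IH) (Lpr_dt (K13.f191361 IH) (Lpr_bt (K27.f183666 IH) (Lpn (LP (LK LD1_c10 LD2_c24 LD3_c10))))))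
theorem f368045 : Led Lsl_ft (LP (LK LD1_c8 LD2_c16 LD3_c16)) = (LP (LK LD1_c8 LD2_c15 LD3_c34)) :=
  Lgr Lrot4 (Lpe (K10.f184164 IH) (Lpr_ff (K27.f368041 IH) (Lpe (K13.f214672 IH) (Lpn (LP (LK LD1_c8 LD2_c15 LD3_c34))))))
theorem f53569 : Led Lsl_bt (LP (LK LD1_c15 LD2_c33 LD3_c4)) = (LP (LK LD1_c8 LD2_c16 LD3_c16)) :=
  Lre_b IH (LK LD1_c15 LD2_c33 LD3_c4) (LK LD1_c8 LD2_c16 LD3_c16) Lrfl Lrfl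
theorem f191374 : Led Lsl_bt (LP (LK LD1_c8 LD2_c15 LD3_c34)) = (LP (LK LD1_c15 LD2_c31 LD3_c53)) :=
  Lre_b IH (LK LD1_c8 LD2_c15 LD3_c34) (LK LD1_c15 LD2_c31 LD3_c53) Lrfl Lrfl
theorem f376793 : Led Lsl_ff (LP (LK LD1_c15 LD2_c33 LD3_c4)) = (LP (LK LD1_c15 LD2_c31 LD3_c53)) :=
  Lgr Lrot25 (Lpr_bt (f53569 IH) (Lpr_ft (f368045 IH) (Lpr_bt (f191374 IH) (Lpn (LP (LK LD1_c15 LD2_c31 LD3_c53))))))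
theorem f922130 : Led Lsl_dt (LP (LK LD1_c15 LD2_c33 LD3_c4)) = K71.v41110 :=
  Lgr Lrot60 (Lpr_ff (f376793 IH) (Lpr_df (f191365 IH) (Lpr_ff (K71.f922124 IH) (Lpn K71.v41110))))
theorem f929308 : Led Lsl_gt (LP (LK LD1_c25 LD2_c25 LD3_c59)) = (LP (LK LD1_c15 LD2_c33 LD3_c4)) :=
  Lgr Lrot49 (Lpe (f194831 IH) (Lpr_gf (f353062 IH) (Lpe (f353060 IH) (Lpe (f396068 IH) (Lpr_dt (f194807 IH) (Lpr_gt (f929306 IH) (Lpr_dt (f215428 IH) (Lpr_cf (K71.f922122 IH) (Lpe (f922130 IH) (Lpn (LP (LK LD1_c15 LD2_c33 LD3_c4))))))))))))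
theorem f929309 : Led Lsl_gt (LP (LK LD1_c25 LD2_c25 LD3_c59)) = (LP (LK LD1_c15 LD2_c33 LD3_c4)) :=
  Leop (Lpe (f929308 IH) (Lpn (LP (LK LD1_c25 LD2_c25 LD3_c59))))
theorem seed_2549 : LEOK LG_g (LK LD1_c25 LD2_c25 LD3_c59) :=
  Leoe_g (LK LD1_c25 LD2_c25 LD3_c59) (f929309 IH)
theorem f586589 : Led Lsl_cf (LP (LK LD1_c6 LD2_c6 LD3_c34)) = (LP (LK LD1_c9 LD2_c55 LD3_c43)) :=
  Lgr Lrot11 (Lpr_ct (K45.f586565 IH) (Lpn (LP (LK LD1_c9 LD2_c55 LD3_c43))))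
def v16752 : LQ := Led Lsl_gf (LP (LK LD1_c6 LD2_c6 LD3_c34))
theorem f751415 : Led Lsl_gf (LP (LK LD1_c6 LD2_c6 LD3_c34)) = v16752 :=
  Lrfl
def v14696 : LQ := Led Lsl_dt (LP (LK LD1_c5 LD2_c18 LD3_c40))
theorem f725006 : Led Lsl_dt (LP (LK LD1_c5 LD2_c18 LD3_c40)) = v14696 :=
  Lrfl
theorem f725007 : Led Lsl_bf (LP (LK LD1_c5 LD2_c18 LD3_c42)) = v14696 :=
  Lgr Lrot93 (Lpr_dt (f71661 IH) (Lpr_bt (K44.f186643 IH) (Lpr_dt (f725006 IH) (Lpn v14696))))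
def v35943 : LQ := Led Lsl_ft (LP (LK LD1_c8 LD2_c14 LD3_c16))
theorem f881278 : Led Lsl_ft (LP (LK LD1_c8 LD2_c14 LD3_c16)) = v35943 :=
  Lrfl
theorem f881280 : Led Lsl_ff (LP (LK LD1_c8 LD2_c14 LD3_c16)) = v35943 :=
  Lgr Lrot3 (Lpr_ft (f881278 IH) (Lpn v35943))
def v35939 : LQ := Led Lsl_at (LP (LK LD1_c8 LD2_c14 LD3_c16))
theorem f881251 : Led Lsl_at (LP (LK LD1_c8 LD2_c14 LD3_c16)) = v35939 :=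
  Lrfl
theorem f881252 : Led Lsl_af (LP (LK LD1_c8 LD2_c14 LD3_c16)) = v35939 :=
  Lgr Lrot0 (Lpr_at (f881251 IH) (Lpn v35939))
theorem f881253 : Led Lsl_ft (LP (LK LD1_c8 LD2_c14 LD3_c17)) = v35939 :=
  Lgr Lrot2 (Lpr_gt (K56.f226115 IH) (Lpr_gt (K67.f187534 IH) (Lpr_af (f881252 IH) (Lpn v35939))))
theorem f881255 : Led Lsl_ff (LP (LK LD1_c8 LD2_c14 LD3_c17)) = v35939 :=
  Lgr Lrot3 (Lpr_ft (f881253 IH) (Lpn v35939))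
theorem f881281 : Led Lsl_at (LP (LK LD1_c8 LD2_c14 LD3_c17)) = v35943 :=
  Lgr Lrot66 (Lpr_ff (f881255 IH) (Lpe (f881251 IH) (Lpr_ff (f881280 IH) (Lpn v35943))))
theorem f923702 : Led Lsl_ff (LP (LK LD1_c25 LD2_c19 LD3_c12)) = (LP (LK LD1_c15 LD2_c28 LD3_c48)) :=
  Lgr Lrot25 (Lpe (K71.f421148 IH) (Lpr_ft (K71.f923698 IH) (Lpr_bt (K39.f216240 IH) (Lpn (LP (LK LD1_c15 LD2_c28 LD3_c48))))))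
theorem f603170 : Led Lsl_dt (LP (LK LD1_c25 LD2_c20 LD3_c22)) = (LP (LK LD1_c15 LD2_c28 LD3_c48)) :=
  Lgr Lrot42 (Lpr_df (K71.f603166 IH) (Lpn (LP (LK LD1_c15 LD2_c28 LD3_c48))))
theorem f923803 : Led Lsl_ft (LP (LK LD1_c21 LD2_c2 LD3_c8)) = (LP (LK LD1_c25 LD2_c20 LD3_c22)) :=
  Lgr Lrot54 (Lpe (K71.f585013 IH) (Lpr_ff (f923702 IH) (Lpe (f603170 IH) (Lpn (LP (LK LD1_c25 LD2_c20 LD3_c22))))))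
theorem f169076 : Led Lsl_ct (LP (LK LD1_c11 LD2_c57 LD3_c6)) = (LP (LK LD1_c21 LD2_c2 LD3_c8)) :=
  Lre_c IH (LK LD1_c11 LD2_c57 LD3_c6) (LK LD1_c21 LD2_c2 LD3_c8) Lrfl Lrfl
theorem f923805 : Led Lsl_ff (LP (LK LD1_c11 LD2_c57 LD3_c6)) = (LP (LK LD1_c15 LD2_c29 LD3_c56)) :=
  Lgr Lrot23 (Lpr_ct (f169076 IH) (Lpr_ft (f923803 IH) (Lpr_ct (K56.f603161 IH) (Lpn (LP (LK LD1_c15 LD2_c29 LD3_c56))))))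
theorem f265748 : Led Lsl_bt (LP (LK LD1_c8 LD2_c14 LD3_c17)) = (LP (LK LD1_c15 LD2_c29 LD3_c56)) :=
  Lre_b IH (LK LD1_c8 LD2_c14 LD3_c17) (LK LD1_c15 LD2_c29 LD3_c56) Lrfl Lrfl
theorem f923809 : K71.v16802 = (LP (LK LD1_c8 LD2_c14 LD3_c17)) :=
  (Llr Lrot75 (Lpe (K71.f751784 IH) (Lpe (K71.f169075 IH) (Lpr_ff (f923805 IH) (Lpe (f265748 IH) (Lpn (LP (LK LD1_c8 LD2_c14 LD3_c17)))))))).symm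
theorem f923810 : (LP (LK LD1_c6 LD2_c7 LD3_c3)) = v35943 :=
  Lefun (Lecon (Lfl_af (K71.f751782 IH)) (f923809 IH)) (f881281 IH)
theorem f250339 : Led Lsl_ct (LP (LK LD1_c8 LD2_c14 LD3_c16)) = (LP (LK LD1_c15 LD2_c29 LD3_c55)) :=
  Lre_c IH (LK LD1_c8 LD2_c14 LD3_c16) (LK LD1_c15 LD2_c29 LD3_c55) Lrfl Lrfl
theorem f923822 : Led Lsl_ff (LP (LK LD1_c11 LD2_c57 LD3_c4)) = (LP (LK LD1_c15 LD2_c29 LD3_c55)) :=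
  Lgr Lrot23 (Lpr_ct (K71.f350272 IH) (Lpqs (f923810 IH) (Lpe (f881280 IH) (Lpr_ct (f250339 IH) (Lpn (LP (LK LD1_c15 LD2_c29 LD3_c55)))))))
theorem f923832 : Led Lsl_ft (LP (LK LD1_c11 LD2_c57 LD3_c4)) = (LP (LK LD1_c15 LD2_c29 LD3_c55)) :=
  Lgr Lrot48 (Lpr_ff (f923822 IH) (Lpn (LP (LK LD1_c15 LD2_c29 LD3_c55))))
theorem f178454 : Led Lsl_ct (LP (LK LD1_c6 LD2_c7 LD3_c3)) = (LP (LK LD1_c11 LD2_c57 LD3_c4)) :=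
  Lre_c IH (LK LD1_c6 LD2_c7 LD3_c3) (LK LD1_c11 LD2_c57 LD3_c4) Lrfl Lrfl
theorem f233594 : Led Lsl_ct (LP (LK LD1_c18 LD2_c7 LD3_c39)) = (LP (LK LD1_c9 LD2_c54 LD3_c19)) :=
  Lre_c IH (LK LD1_c18 LD2_c7 LD3_c39) (LK LD1_c9 LD2_c54 LD3_c19) Lrfl Lrfl
theorem f922681 : Led Lsl_dt (LP (LK LD1_c11 LD2_c57 LD3_c7)) = (LP (LK LD1_c18 LD2_c7 LD3_c39)) :=
  Lgr Lrot42 (Lpr_df (K71.f922678 IH) (Lpn (LP (LK LD1_c18 LD2_c7 LD3_c39))))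
theorem f585106 : Led Lsl_dt (LP (LK LD1_c9 LD2_c54 LD3_c24)) = (LP (LK LD1_c5 LD2_c1 LD3_c54)) :=
  Lre_d IH (LK LD1_c9 LD2_c54 LD3_c24) (LK LD1_c5 LD2_c1 LD3_c54) Lrfl Lrfl
theorem f922607 : Led Lsl_ct (LP (LK LD1_c18 LD2_c7 LD3_c47)) = (LP (LK LD1_c9 LD2_c54 LD3_c24)) :=
  Lre_c IH (LK LD1_c18 LD2_c7 LD3_c47) (LK LD1_c9 LD2_c54 LD3_c24) Lrfl Lrfl
theorem f922686 : Led Lsl_dt (LP (LK LD1_c11 LD2_c57 LD3_c4)) = (LP (LK LD1_c18 LD2_c7 LD3_c47)) :=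
  Lgr Lrot173 (Lpe (f178454 IH) (Lpr_df (K71.f751796 IH) (Lpr_cf (f922683 IH) (Lpe (K71.f922603 IH) (Lpe (K71.f233596 IH) (Lpe (f233595 IH) (Lpe (f233594 IH) (Lpe (f922681 IH) (Lpe (K71.f338931 IH) (Lpr_df (K71.f751802 IH) (Lpq (K71.f922673 IH) (Lpr_cf (K71.f922664 IH) (Lpe (K71.f922657 IH) (Lpe (K71.f165399 IH) (Lpe (f585106 IH) (Lpe (f922607 IH) (Lpn (LP (LK LD1_c18 LD2_c7 LD3_c47)))))))))))))))))))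
theorem f923838 : Led Lsl_af (LP (LK LD1_c11 LD2_c57 LD3_c7)) = (LP (LK LD1_c15 LD2_c29 LD3_c55)) :=
  Lgr Lrot109 (Lpe (K71.f338931 IH) (Lpr_df (K71.f751802 IH) (Lpq (K71.f922673 IH) (Lpr_cf (K71.f922664 IH) (Lpe (K71.f922657 IH) (Lpe (K71.f165399 IH) (Lpe (f585106 IH) (Lpe (f922607 IH) (Lpe (f922686 IH) (Lpr_ft (f923832 IH) (Lpn (LP (LK LD1_c15 LD2_c29 LD3_c55)))))))))))))
theorem f409329 : Led Lsl_bt (LP (LK LD1_c15 LD2_c16 LD3_c25)) = (LP (LK LD1_c11 LD2_c57 LD3_c7)) :=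
  Lgr Lrot127 (Lpr_bf (K71.f409326 IH) (Lpn (LP (LK LD1_c11 LD2_c57 LD3_c7))))
theorem f923684 : Led Lsl_ft (LP (LK LD1_c11 LD2_c57 LD3_c7)) = (LP (LK LD1_c15 LD2_c29 LD3_c57)) :=
  Lgr Lrot75 (Lpe (f409329 IH) (Lpr_ff (K71.f923682 IH) (Lpr_bf (K56.f265727 IH) (Lpn (LP (LK LD1_c15 LD2_c29 LD3_c57))))))
theorem f923844 : Led Lsl_at (LP (LK LD1_c15 LD2_c29 LD3_c57)) = (LP (LK LD1_c11 LD2_c57 LD3_c4)) :=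
  Lgr Lrot66 (Lpe (f923684 IH) (Lpr_af (f923838 IH) (Lpe (f923832 IH) (Lpn (LP (LK LD1_c11 LD2_c57 LD3_c4))))))
theorem f265735 : Led Lsl_dt (LP (LK LD1_c25 LD2_c23 LD3_c8)) = (LP (LK LD1_c15 LD2_c29 LD3_c57)) :=
  Lre_d IH (LK LD1_c25 LD2_c23 LD3_c8) (LK LD1_c15 LD2_c29 LD3_c57) Lrfl Lrfl
theorem f923850 : Led Lsl_af (LP (LK LD1_c25 LD2_c23 LD3_c8)) = (LP (LK LD1_c18 LD2_c7 LD3_c47)) :=
  Lgr Lrot117 (Lpr_dt (f265735 IH) (Lpr_at (f923844 IH) (Lpr_dt (f922686 IH) (Lpn (LP (LK LD1_c18 LD2_c7 LD3_c47))))))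
theorem f881275 : Led Lsl_dt (LP (LK LD1_c15 LD2_c29 LD3_c55)) = (LP (LK LD1_c25 LD2_c23 LD3_c6)) :=
  Lre_d IH (LK LD1_c15 LD2_c29 LD3_c55) (LK LD1_c25 LD2_c23 LD3_c6) Lrfl Lrfl
theorem f923836 : Led Lsl_ff (LP (LK LD1_c18 LD2_c7 LD3_c47)) = (LP (LK LD1_c25 LD2_c23 LD3_c6)) :=
  Lgr Lrot19 (Lpe (K71.f922676 IH) (Lpr_ft (f923832 IH) (Lpr_dt (f881275 IH) (Lpn (LP (LK LD1_c25 LD2_c23 LD3_c6))))))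
theorem f881254 : Led Lsl_dt (LP (LK LD1_c25 LD2_c23 LD3_c6)) = (LP (LK LD1_c15 LD2_c29 LD3_c55)) :=
  Lre_d IH (LK LD1_c25 LD2_c23 LD3_c6) (LK LD1_c15 LD2_c29 LD3_c55) Lrfl Lrfl
theorem f923842 : Led Lsl_at (LP (LK LD1_c18 LD2_c7 LD3_c39)) = (LP (LK LD1_c25 LD2_c23 LD3_c6)) :=
  Lgr Lrot51 (Lpe (f922681 IH) (Lpr_af (f923838 IH) (Lpe (f881254 IH) (Lpn (LP (LK LD1_c25 LD2_c23 LD3_c6))))))
theorem f923876 : Led Lsl_ft (LP (LK LD1_c25 LD2_c23 LD3_c8)) = (LP (LK LD1_c18 LD2_c7 LD3_c39)) :=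
  Lgr Lrot101 (Lpr_af (f923850 IH) (Lpr_ff (f923836 IH) (Lpe (f923842 IH) (Lpn (LP (LK LD1_c18 LD2_c7 LD3_c39))))))
theorem f923880 : Led Lsl_ff (LP (LK LD1_c25 LD2_c23 LD3_c8)) = (LP (LK LD1_c18 LD2_c7 LD3_c39)) :=
  Lgr Lrot3 (Lpr_ft (f923876 IH) (Lpn (LP (LK LD1_c18 LD2_c7 LD3_c39))))
theorem f923872 : Led Lsl_at (LP (LK LD1_c25 LD2_c23 LD3_c8)) = (LP (LK LD1_c18 LD2_c7 LD3_c47)) :=
  Lgr Lrot100 (Lpr_af (f923850 IH) (Lpn (LP (LK LD1_c18 LD2_c7 LD3_c47))))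
theorem f923830 : Led Lsl_ft (LP (LK LD1_c18 LD2_c7 LD3_c47)) = (LP (LK LD1_c25 LD2_c23 LD3_c6)) :=
  Lgr Lrot54 (Lpe (f922686 IH) (Lpr_ff (f923822 IH) (Lpe (f881254 IH) (Lpn (LP (LK LD1_c25 LD2_c23 LD3_c6))))))
theorem f923882 : Led Lsl_at (LP (LK LD1_c25 LD2_c23 LD3_c6)) = (LP (LK LD1_c18 LD2_c7 LD3_c39)) :=
  Lgr Lrot66 (Lpe (f923830 IH) (Lpe (f923872 IH) (Lpr_ff (f923880 IH) (Lpn (LP (LK LD1_c18 LD2_c7 LD3_c39))))))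
theorem f922582 : Led Lsl_at (LP (LK LD1_c9 LD2_c54 LD3_c19)) = (LP (LK LD1_c18 LD2_c7 LD3_c32)) :=
  Lre_a IH (LK LD1_c9 LD2_c54 LD3_c19) (LK LD1_c18 LD2_c7 LD3_c32) Lrfl Lrfl
theorem f923884 : Led Lsl_cf (LP (LK LD1_c25 LD2_c23 LD3_c6)) = (LP (LK LD1_c18 LD2_c7 LD3_c32)) :=
  Lgr Lrot1 (Lpr_at (f923882 IH) (Lpr_ct (f233594 IH) (Lpr_at (f922582 IH) (Lpn (LP (LK LD1_c18 LD2_c7 LD3_c32))))))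
def v35944 : LQ := Led Lsl_dt (LP (LK LD1_c8 LD2_c14 LD3_c17))
theorem f881282 : Led Lsl_dt (LP (LK LD1_c8 LD2_c14 LD3_c17)) = v35944 :=
  Lrfl
theorem f585933 : Led Lsl_dt (LP (LK LD1_c9 LD2_c54 LD3_c16)) = (LP (LK LD1_c18 LD2_c7 LD3_c32)) :=
  Lre_d IH (LK LD1_c9 LD2_c54 LD3_c16) (LK LD1_c18 LD2_c7 LD3_c32) Lrfl Lrfl
theorem f725008 : Led Lsl_df (LP (LK LD1_c5 LD2_c18 LD3_c40)) = v14696 :=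
  Lgr Lrot38 (Lpr_dt (f725006 IH) (Lpn v14696))
theorem f923888 : Led Lsl_ct v35944 = v14696 :=
  Lgr Lrot41 (Lpe (f881282 IH) (Lpe (K56.f265726 IH) (Lpe (f265735 IH) (Lpr_ft (f923876 IH) (Lpr_at (f923842 IH) (Lpr_cf (f923884 IH) (Lpe (f585933 IH) (Lpe (K44.f585922 IH) (Lpr_df (f725008 IH) (Lpn v14696))))))))))
theorem f923890 : Led Lsl_cf v35944 = v14696 :=
  Lgr Lrot11 (Lpr_ct (f923888 IH) (Lpn v14696))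
theorem f929359 : v16752 = v35944 :=
  (Llr Lrot126 (Lpe (f751415 IH) (Lpr_cf (f586589 IH) (Lpr_bt (K45.f177191 IH) (Lpr_gt (K10.f186608 IH) (Lpr_ct (K10.f185758 IH) (Lpe (K10.f185765 IH) (Lpr_cf (K36.f198615 IH) (Lpr_bt (f198621 IH) (Lpr_gt (f926060 IH) (Lpqs (f929261 IH) (Lpr_bf (f725007 IH) (Lpe (f923890 IH) (Lpn v35944)))))))))))))).symm
theorem f604229 : Led Lsl_ft (LP (LK LD1_c5 LD2_c18 LD3_c44)) = (LP (LK LD1_c2 LD2_c35 LD3_c60)) :=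
  Lre_f IH (LK LD1_c5 LD2_c18 LD3_c44) (LK LD1_c2 LD2_c35 LD3_c60) Lrfl Lrfl
theorem f604230 : Led Lsl_ff (LP (LK LD1_c9 LD2_c54 LD3_c23)) = (LP (LK LD1_c5 LD2_c18 LD3_c40)) :=
  Lgr Lrot25 (Lpr_bt (K71.f604218 IH) (Lpr_ft (f604229 IH) (Lpr_bt (K44.f186643 IH) (Lpn (LP (LK LD1_c5 LD2_c18 LD3_c40))))))
theorem f922660 : Led Lsl_ff v14696 = K71.v41223 :=
  Lgr Lrot19 (Lpe (f725008 IH) (Lpe (f604230 IH) (Lpr_dt (K71.f922657 IH) (Lpn K71.v41223))))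
theorem f922662 : Led Lsl_ft v14696 = K71.v41223 :=
  Lgr Lrot48 (Lpr_ff (f922660 IH) (Lpn K71.v41223))
theorem f923891 : Led Lsl_ff v35944 = (LP (LK LD1_c10 LD2_c45 LD3_c9)) :=
  Lgr Lrot23 (Lpr_ct (f923888 IH) (Lpr_ft (f922662 IH) (Lpe (K71.f922664 IH) (Lpn (LP (LK LD1_c10 LD2_c45 LD3_c9))))))
theorem f923893 : Led Lsl_ft v35944 = (LP (LK LD1_c10 LD2_c45 LD3_c9)) :=
  Lgr Lrot48 (Lpr_ff (f923891 IH) (Lpn (LP (LK LD1_c10 LD2_c45 LD3_c9))))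
def v35941 : LQ := Led Lsl_dt (LP (LK LD1_c8 LD2_c14 LD3_c16))
theorem f881273 : Led Lsl_dt (LP (LK LD1_c8 LD2_c14 LD3_c16)) = v35941 :=
  Lrfl
theorem f923824 : Led Lsl_ff K71.v16804 = v35941 :=
  Lgr Lrot19 (Lpe (K71.f751796 IH) (Lpqs (f923810 IH) (Lpe (f881280 IH) (Lpr_dt (f881273 IH) (Lpn v35941)))))
theorem f923825 : Led Lsl_ft K71.v16804 = v35941 :=
  Lgr Lrot48 (Lpr_ff (f923824 IH) (Lpn v35941))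
theorem f923826 : Led Lsl_af (LP (LK LD1_c10 LD2_c45 LD3_c9)) = v35941 :=
  Lgr Lrot31 (Lpr_gf (K71.f751403 IH) (Lpe (K71.f751404 IH) (Lpqs (K71.f922740 IH) (Lpr_ft (f923825 IH) (Lpn v35941)))))
theorem f923827 : Led Lsl_at (LP (LK LD1_c10 LD2_c45 LD3_c9)) = v35941 :=
  Lgr Lrot100 (Lpr_af (f923826 IH) (Lpn v35941))
def v16751 : LQ := Led Lsl_gt (LP (LK LD1_c6 LD2_c6 LD3_c34))
theorem f751413 : Led Lsl_gt (LP (LK LD1_c6 LD2_c6 LD3_c34)) = v16751 :=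
  Lrfl
theorem f929360 : v35941 = v16751 :=
  (Llr Lrot26 (Lpe (f923827 IH) (Lpe (f923893 IH) (Lpq (f929359 IH) (Lpe (f751415 IH) (Lpr_gt (f751413 IH) (Lpn v16751))))))).symm
theorem f881274 : Led Lsl_df (LP (LK LD1_c8 LD2_c14 LD3_c16)) = v35941 :=
  Lgr Lrot38 (Lpr_dt (f881273 IH) (Lpn v35941))
theorem f21601 : Led Lsl_dt (LP (LK LD1_c2 LD2_c29 LD3_c37)) = (LP (LK LD1_c5 LD2_c4 LD3_c32)) :=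
  Lre_d IH (LK LD1_c2 LD2_c29 LD3_c37) (LK LD1_c5 LD2_c4 LD3_c32) Lrfl Lrfl
theorem f721590 : Led Lsl_dt (LP (LK LD1_c9 LD2_c59 LD3_c53)) = (LP (LK LD1_c5 LD2_c4 LD3_c27)) :=
  Lre_d IH (LK LD1_c9 LD2_c59 LD3_c53) (LK LD1_c5 LD2_c4 LD3_c27) Lrfl Lrfl
def v41629 : LQ := Led Lsl_gt (LP (LK LD1_c9 LD2_c59 LD3_c37))
theorem f927233 : Led Lsl_gt (LP (LK LD1_c9 LD2_c59 LD3_c37)) = v41629 :=
  Lrfl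
theorem f721654 : Led Lsl_ft (LP (LK LD1_c9 LD2_c59 LD3_c37)) = (LP (LK LD1_c5 LD2_c4 LD3_c30)) :=
  Lre_f IH (LK LD1_c9 LD2_c59 LD3_c37) (LK LD1_c5 LD2_c4 LD3_c30) Lrfl Lrfl
theorem f721649 : Led Lsl_at (LP (LK LD1_c5 LD2_c4 LD3_c30)) = (LP (LK LD1_c9 LD2_c59 LD3_c53)) :=
  Lre_a IH (LK LD1_c5 LD2_c4 LD3_c30) (LK LD1_c9 LD2_c59 LD3_c53) Lrfl Lrfl
theorem f927234 : Led Lsl_gf (LP (LK LD1_c9 LD2_c59 LD3_c53)) = v41629 :=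
  Lgr Lrot76 (Lpe (f721649 IH) (Lpe (f721654 IH) (Lpr_gt (f927233 IH) (Lpn v41629))))
theorem f929361 : v41629 = (LP (LK LD1_c9 LD2_c55 LD3_c43)) :=
  (Llr Lrot144 (Lpe (f927234 IH) (Lpr_dt (f721590 IH) (Lpqs (K71.f724350 IH) (Lpe (K71.f636162 IH) (Lpr_dt (f21601 IH) (Lpe (K45.f163984 IH) (Lpr_df (K45.f585065 IH) (Lpr_gf (K67.f396240 IH) (Lpr_df (f881274 IH) (Lpqs (f929360 IH) (Lpe (f751413 IH) (Lpr_cf (f586589 IH) (Lpn (LP (LK LD1_c9 LD2_c55 LD3_c43)))))))))))))))).symm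
theorem f929363 : Led Lsl_gt (LP (LK LD1_c9 LD2_c55 LD3_c43)) = (LP (LK LD1_c9 LD2_c59 LD3_c53)) :=
  Leop (Lpr_gf (f927234 IH) (Lpqs (f929361 IH) (Lpn (LP (LK LD1_c9 LD2_c55 LD3_c43)))))
theorem seed_2550 : LEOK LG_g (LK LD1_c9 LD2_c55 LD3_c43) :=
  Leoe_g (LK LD1_c9 LD2_c55 LD3_c43) (f929363 IH)
def v14816 : LQ := Led Lsl_ft (LP (LK LD1_c5 LD2_c26 LD3_c0))
theorem f726769 : Led Lsl_ft (LP (LK LD1_c5 LD2_c26 LD3_c0)) = v14816 :=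
  Lrfl
theorem f726771 : Led Lsl_ff (LP (LK LD1_c5 LD2_c26 LD3_c0)) = v14816 :=
  Lgr Lrot3 (Lpr_ft (f726769 IH) (Lpn v14816))
def v41581 : LQ := Led Lsl_at (LP (LK LD1_c9 LD2_c59 LD3_c6))
theorem f926874 : Led Lsl_at (LP (LK LD1_c9 LD2_c59 LD3_c6)) = v41581 :=
  Lrfl
theorem f926878 : Led Lsl_df (LP (LK LD1_c10 LD2_c10 LD3_c24)) = v41581 :=
  Lgr Lrot18 (Lpr_at (K44.f313874 IH) (Lpr_dt (K45.f403046 IH) (Lpr_at (f926874 IH) (Lpn v41581))))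
theorem f603398 : Led Lsl_dt (LP (LK LD1_c21 LD2_c1 LD3_c4)) = (LP (LK LD1_c18 LD2_c31 LD3_c52)) :=
  Lgr Lrot42 (Lpr_df (K71.f586591 IH) (Lpn (LP (LK LD1_c18 LD2_c31 LD3_c52))))
def v41277 : LQ := Led Lsl_gt (LP (LK LD1_c9 LD2_c55 LD3_c43))
theorem f923059 : Led Lsl_gt (LP (LK LD1_c9 LD2_c55 LD3_c43)) = v41277 :=
  Lrfl
theorem f926880 : Led Lsl_gt v41277 = v41581 :=
  Lgr Lrot46 (Lpe (f923059 IH) (Lpr_ft (K45.f403048 IH) (Lpr_at (f926874 IH) (Lpn v41581))))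
theorem f929362 : (LP (LK LD1_c9 LD2_c59 LD3_c53)) = v41277 :=
  Lefun (Lecon (Lfl_gf (f927234 IH)) (f929361 IH)) (f923059 IH)
theorem f721583 : Led Lsl_dt (LP (LK LD1_c5 LD2_c4 LD3_c27)) = (LP (LK LD1_c9 LD2_c59 LD3_c53)) :=
  Lre_d IH (LK LD1_c5 LD2_c4 LD3_c27) (LK LD1_c9 LD2_c59 LD3_c53) Lrfl Lrfl
theorem f163791 : Led Lsl_ct (LP (LK LD1_c5 LD2_c1 LD3_c57)) = (LP (LK LD1_c2 LD2_c29 LD3_c39)) :=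
  Lre_c IH (LK LD1_c5 LD2_c1 LD3_c57) (LK LD1_c2 LD2_c29 LD3_c39) Lrfl Lrfl
theorem f585939 : Led Lsl_dt (LP (LK LD1_c9 LD2_c54 LD3_c21)) = (LP (LK LD1_c18 LD2_c7 LD3_c41)) :=
  Lre_d IH (LK LD1_c9 LD2_c54 LD3_c21) (LK LD1_c18 LD2_c7 LD3_c41) Lrfl Lrfl
theorem f929367 : Led Lsl_gf (LP (LK LD1_c21 LD2_c1 LD3_c4)) = (LP (LK LD1_c18 LD2_c7 LD3_c41)) :=
  Lgr Lrot143 (Lpr_dt (f603398 IH) (Lpe (K45.f345136 IH) (Lpr_df (f926878 IH) (Lpe (f926880 IH) (Lpq (f929362 IH) (Lpe (f721583 IH) (Lpr_gf (K71.f721572 IH) (Lpq (K71.f724346 IH) (Lpe (f163791 IH) (Lpr_gt (K44.f585946 IH) (Lpr_dt (f585939 IH) (Lpn (LP (LK LD1_c18 LD2_c7 LD3_c41))))))))))))))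
theorem f922581 : Led Lsl_ft (LP (LK LD1_c18 LD2_c7 LD3_c41)) = (LP (LK LD1_c9 LD2_c54 LD3_c19)) :=
  Lre_f IH (LK LD1_c18 LD2_c7 LD3_c41) (LK LD1_c9 LD2_c54 LD3_c19) Lrfl Lrfl
theorem f929371 : Led Lsl_gt (LP (LK LD1_c21 LD2_c1 LD3_c4)) = (LP (LK LD1_c18 LD2_c7 LD3_c32)) :=
  Lgr Lrot46 (Lpr_gf (f929367 IH) (Lpr_ft (f922581 IH) (Lpr_at (f922582 IH) (Lpn (LP (LK LD1_c18 LD2_c7 LD3_c32))))))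
theorem f198840 : Led Lsl_ct (LP (LK LD1_c11 LD2_c56 LD3_c15)) = (LP (LK LD1_c21 LD2_c1 LD3_c4)) :=
  Lre_c IH (LK LD1_c11 LD2_c56 LD3_c15) (LK LD1_c21 LD2_c1 LD3_c4) Lrfl Lrfl
theorem f198819 : Led Lsl_gt (LP (LK LD1_c21 LD2_c1 LD3_c3)) = (LP (LK LD1_c11 LD2_c56 LD3_c15)) :=
  Lre_g IH (LK LD1_c21 LD2_c1 LD3_c3) (LK LD1_c11 LD2_c56 LD3_c15) Lrfl Lrfl
theorem f929377 : Led Lsl_df (LP (LK LD1_c21 LD2_c1 LD3_c3)) = (LP (LK LD1_c15 LD2_c29 LD3_c49)) :=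
  Lgr Lrot155 (Lpr_gt (f198819 IH) (Lpr_ct (f198840 IH) (Lpr_gt (f929371 IH) (Lpe (f923884 IH) (Lpr_dt (f881254 IH) (Lpe (f250339 IH) (Lpe (K67.f187534 IH) (Lpe (K45.f226076 IH) (Lpe (K56.f226079 IH) (Lpn (LP (LK LD1_c15 LD2_c29 LD3_c49))))))))))))
theorem f585035 : Led Lsl_af (LP (LK LD1_c18 LD2_c8 LD3_c2)) = (LP (LK LD1_c11 LD2_c56 LD3_c54)) :=
  Lgr Lrot0 (Lpr_at (K45.f585030 IH) (Lpn (LP (LK LD1_c11 LD2_c56 LD3_c54))))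
theorem f586533 : Led Lsl_gt (LP (LK LD1_c15 LD2_c29 LD3_c51)) = (LP (LK LD1_c19 LD2_c26 LD3_c48)) :=
  Lgr Lrot5 (Lpr_ft (K45.f338891 IH) (Lpe (f585035 IH) (Lpr_gf (K45.f586531 IH) (Lpn (LP (LK LD1_c19 LD2_c26 LD3_c48))))))
theorem f345142 : Led Lsl_dt (LP (LK LD1_c18 LD2_c32 LD3_c1)) = (LP (LK LD1_c28 LD2_c6 LD3_c32)) :=
  Lre_d IH (LK LD1_c18 LD2_c32 LD3_c1) (LK LD1_c28 LD2_c6 LD3_c32) Lrfl Lrfl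
theorem f586539 : Led Lsl_cf (LP (LK LD1_c28 LD2_c6 LD3_c32)) = (LP (LK LD1_c19 LD2_c26 LD3_c48)) :=
  Lgr Lrot99 (Lpe (f345142 IH) (Lpe (f345141 IH) (Lpr_gf (f345139 IH) (Lpe (K45.f251548 IH) (Lpr_gf (K44.f395447 IH) (Lpe (K45.f412946 IH) (Lpr_gt (K45.f21632 IH) (Lpr_ct (K45.f585055 IH) (Lpr_gt (f586533 IH) (Lpn (LP (LK LD1_c19 LD2_c26 LD3_c48))))))))))))
theorem f926237 : Led Lsl_ct v14224 = v41498 :=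
  Lgr Lrot59 (Lpr_cf (f926236 IH) (Lpn v41498))
theorem f926376 : v41498 = (LP (LK LD1_c10 LD2_c11 LD3_c60)) :=
  Lefun (Lecon (f926237 IH) (f926366 IH).symm) (K44.f233587 IH)
theorem f405662 : Led Lsl_bt (LP (LK LD1_c18 LD2_c6 LD3_c52)) = (LP (LK LD1_c9 LD2_c58 LD3_c40)) :=
  Lre_b IH (LK LD1_c18 LD2_c6 LD3_c52) (LK LD1_c9 LD2_c58 LD3_c40) Lrfl Lrfl
theorem f417542 : Led Lsl_bt (LP (LK LD1_c10 LD2_c11 LD3_c60)) = (LP (LK LD1_c18 LD2_c34 LD3_c51)) :=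
  Lre_b IH (LK LD1_c10 LD2_c11 LD3_c60) (LK LD1_c18 LD2_c34 LD3_c51) Lrfl Lrfl
theorem f926408 : Led Lsl_ff (LP (LK LD1_c18 LD2_c6 LD3_c52)) = (LP (LK LD1_c18 LD2_c34 LD3_c51)) :=
  Lgr Lrot25 (Lpr_bt (f405662 IH) (Lpr_ft (f926238 IH) (Lpqs (f926376 IH) (Lpr_bt (f417542 IH) (Lpn (LP (LK LD1_c18 LD2_c34 LD3_c51)))))))
theorem f417540 : Led Lsl_gt (LP (LK LD1_c5 LD2_c3 LD3_c53)) = (LP (LK LD1_c5 LD2_c10 LD3_c38)) :=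
  Lgr Lrot5 (Lpr_ft (K44.f249875 IH) (Lpr_at (K44.f248957 IH) (Lpe (K44.f165251 IH) (Lpn (LP (LK LD1_c5 LD2_c10 LD3_c38))))))
theorem f417543 : Led Lsl_gf (LP (LK LD1_c18 LD2_c6 LD3_c49)) = (LP (LK LD1_c18 LD2_c34 LD3_c51)) :=
  Lgr Lrot124 (Lpe (K44.f343207 IH) (Lpe (K26.f214969 IH) (Lpr_gt (K53.f343238 IH) (Lpr_cf (K53.f215033 IH) (Lpr_bt (K53.f215032 IH) (Lpe (K53.f249857 IH) (Lpr_ct (K53.f249765 IH) (Lpr_gt (f417540 IH) (Lpe (K44.f233578 IH) (Lpr_bt (f417542 IH) (Lpn (LP (LK LD1_c18 LD2_c34 LD3_c51)))))))))))))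
theorem f190614 : Led Lsl_at (LP (LK LD1_c9 LD2_c53 LD3_c61)) = (LP (LK LD1_c18 LD2_c6 LD3_c49)) :=
  Lre_a IH (LK LD1_c9 LD2_c53 LD3_c61) (LK LD1_c18 LD2_c6 LD3_c49) Lrfl Lrfl
theorem f343018 : Led Lsl_ff (LP (LK LD1_c24 LD2_c48 LD3_c2)) = (LP (LK LD1_c18 LD2_c6 LD3_c49)) :=
  Lgr Lrot30 (Lpr_at (K44.f342941 IH) (Lpr_ft (K23.f343007 IH) (Lpr_at (f190614 IH) (Lpn (LP (LK LD1_c18 LD2_c6 LD3_c49))))))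
theorem f191826 : Led Lsl_gt (LP (LK LD1_c24 LD2_c48 LD3_c1)) = (LP (LK LD1_c15 LD2_c0 LD3_c38)) :=
  Lre_g IH (LK LD1_c24 LD2_c48 LD3_c1) (LK LD1_c15 LD2_c0 LD3_c38) Lrfl Lrfl
theorem f395143 : Led Lsl_gf (LP (LK LD1_c24 LD2_c48 LD3_c1)) = (LP (LK LD1_c18 LD2_c6 LD3_c49)) :=
  Lgr Lrot47 (Lpr_gt (f191826 IH) (Lpe (K44.f342941 IH) (Lpr_ff (f343018 IH) (Lpn (LP (LK LD1_c18 LD2_c6 LD3_c49))))))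
theorem f926418 : Led Lsl_at (LP (LK LD1_c18 LD2_c6 LD3_c52)) = (LP (LK LD1_c24 LD2_c48 LD3_c1)) :=
  Lgr Lrot26 (Lpr_ff (f926408 IH) (Lpe (f417543 IH) (Lpe (f395143 IH) (Lpn (LP (LK LD1_c24 LD2_c48 LD3_c1))))))
theorem f926420 : Led Lsl_af (LP (LK LD1_c18 LD2_c6 LD3_c52)) = (LP (LK LD1_c24 LD2_c48 LD3_c1)) :=
  Lgr Lrot0 (Lpr_at (f926418 IH) (Lpn (LP (LK LD1_c24 LD2_c48 LD3_c1))))
def v41199 : LQ := Led Lsl_gf (LP (LK LD1_c9 LD2_c53 LD3_c61))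
theorem f922541 : Led Lsl_gf (LP (LK LD1_c9 LD2_c53 LD3_c61)) = v41199 :=
  Lrfl
theorem f926422 : Led Lsl_ft v41199 = (LP (LK LD1_c24 LD2_c48 LD3_c1)) :=
  Lgr Lrot2 (Lpe (f922541 IH) (Lpr_gt (K10.f190615 IH) (Lpr_af (f926420 IH) (Lpn (LP (LK LD1_c24 LD2_c48 LD3_c1))))))
theorem f926424 : Led Lsl_ff v41199 = (LP (LK LD1_c24 LD2_c48 LD3_c1)) :=
  Lgr Lrot3 (Lpr_ft (f926422 IH) (Lpn (LP (LK LD1_c24 LD2_c48 LD3_c1))))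
theorem f926425 : Led Lsl_at v41199 = (LP (LK LD1_c18 LD2_c34 LD3_c51)) :=
  Lgr Lrot66 (Lpr_ff (f926424 IH) (Lpe (f926418 IH) (Lpr_ff (f926408 IH) (Lpn (LP (LK LD1_c18 LD2_c34 LD3_c51))))))
theorem f33314 : Led Lsl_gt (LP (LK LD1_c5 LD2_c1 LD3_c41)) = (LP (LK LD1_c9 LD2_c53 LD3_c45)) :=
  Lre_g IH (LK LD1_c5 LD2_c1 LD3_c41) (LK LD1_c9 LD2_c53 LD3_c45) Lrfl Lrfl
theorem f333287 : Led Lsl_bt (LP (LK LD1_c18 LD2_c6 LD3_c22)) = (LP (LK LD1_c9 LD2_c53 LD3_c45)) :=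
  Lre_b IH (LK LD1_c18 LD2_c6 LD3_c22) (LK LD1_c9 LD2_c53 LD3_c45) Lrfl Lrfl
theorem f922543 : Led Lsl_ct (LP (LK LD1_c18 LD2_c6 LD3_c22)) = v41199 :=
  Lgr Lrot64 (Lpr_bt (f333287 IH) (Lpe (f33314 IH) (Lpe (K71.f33313 IH) (Lpr_ct (K14.f3692 IH) (Lpe (K0.f33315 IH) (Lpe (K10.f3424 IH) (Lpe (K10.f3429 IH) (Lpe (K26.f3588 IH) (Lpr_ct (K10.f165385 IH) (Lpr_gf (f922541 IH) (Lpn v41199)))))))))))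
theorem f922473 : Led Lsl_at (LP (LK LD1_c27 LD2_c47 LD3_c25)) = (LP (LK LD1_c18 LD2_c6 LD3_c22)) :=
  Lre_a IH (LK LD1_c27 LD2_c47 LD3_c25) (LK LD1_c18 LD2_c6 LD3_c22) Lrfl Lrfl
theorem f926426 : Led Lsl_cf (LP (LK LD1_c27 LD2_c47 LD3_c25)) = (LP (LK LD1_c18 LD2_c34 LD3_c51)) :=
  Lgr Lrot1 (Lpr_at (f922473 IH) (Lpr_ct (f922543 IH) (Lpr_at (f926425 IH) (Lpn (LP (LK LD1_c18 LD2_c34 LD3_c51))))))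
theorem f233581 : Led Lsl_bt (LP (LK LD1_c18 LD2_c34 LD3_c51)) = (LP (LK LD1_c10 LD2_c11 LD3_c60)) :=
  Lre_b IH (LK LD1_c18 LD2_c34 LD3_c51) (LK LD1_c10 LD2_c11 LD3_c60) Lrfl Lrfl
theorem f186639 : Led Lsl_gt (LP (LK LD1_c10 LD2_c13 LD3_c12)) = (LP (LK LD1_c18 LD2_c36 LD3_c21)) :=
  Lre_g IH (LK LD1_c10 LD2_c13 LD3_c12) (LK LD1_c18 LD2_c36 LD3_c21) Lrfl Lrfl
theorem f585803 : Led Lsl_af (LP (LK LD1_c18 LD2_c36 LD3_c21)) = (LP (LK LD1_c10 LD2_c13 LD3_c36)) :=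
  Lgr Lrot31 (Lpe (f186639 IH) (Lpr_gf (K44.f585799 IH) (Lpr_ft (K53.f405440 IH) (Lpn (LP (LK LD1_c10 LD2_c13 LD3_c36))))))
theorem f604335 : Led Lsl_ft (LP (LK LD1_c18 LD2_c36 LD3_c21)) = (LP (LK LD1_c10 LD2_c13 LD3_c32)) :=
  Lgr Lrot101 (Lpr_af (f585803 IH) (Lpe (K53.f405440 IH) (Lpe (K44.f405401 IH) (Lpn (LP (LK LD1_c10 LD2_c13 LD3_c32))))))
theorem f604344 : Led Lsl_gt (LP (LK LD1_c18 LD2_c36 LD3_c21)) = (LP (LK LD1_c10 LD2_c13 LD3_c31)) :=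
  Lgr Lrot5 (Lpr_ft (f604335 IH) (Lpr_at (K44.f405401 IH) (Lpe (f181049 IH) (Lpn (LP (LK LD1_c10 LD2_c13 LD3_c31))))))
theorem f604337 : Led Lsl_bf (LP (LK LD1_c18 LD2_c36 LD3_c21)) = (LP (LK LD1_c10 LD2_c13 LD3_c52)) :=
  Lgr Lrot61 (Lpr_ft (f604335 IH) (Lpr_bt (K44.f405376 IH) (Lpe (K44.f405331 IH) (Lpn (LP (LK LD1_c10 LD2_c13 LD3_c52))))))
theorem f926245 : Led Lsl_ct (LP (LK LD1_c10 LD2_c13 LD3_c52)) = (LP (LK LD1_c18 LD2_c15 LD3_c6)) :=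
  Lgr Lrot63 (Lpe (f604337 IH) (Lpr_gt (f604344 IH) (Lpe (f343486 IH) (Lpr_ct (K44.f343479 IH) (Lpe (K44.f343475 IH) (Lpe (K37.f248966 IH) (Lpr_bt (K14.f248946 IH) (Lpr_gt (K37.f343296 IH) (Lpr_ct (f343013 IH) (Lpr_gt (f926240 IH) (Lpn (LP (LK LD1_c18 LD2_c15 LD3_c6)))))))))))))
theorem f926248 : Led Lsl_af (LP (LK LD1_c10 LD2_c13 LD3_c53)) = (LP (LK LD1_c18 LD2_c15 LD3_c6)) :=
  Lgr Lrot68 (Lpr_ct (K44.f164537 IH) (Lpr_at (K44.f405366 IH) (Lpr_ct (f926245 IH) (Lpn (LP (LK LD1_c18 LD2_c15 LD3_c6))))))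
theorem f233572 : Led Lsl_gt (LP (LK LD1_c10 LD2_c11 LD3_c57)) = (LP (LK LD1_c10 LD2_c13 LD3_c53)) :=
  Lre_g IH (LK LD1_c10 LD2_c11 LD3_c57) (LK LD1_c10 LD2_c13 LD3_c53) Lrfl Lrfl
theorem f249887 : Led Lsl_gt (LP (LK LD1_c18 LD2_c34 LD3_c47)) = (LP (LK LD1_c10 LD2_c11 LD3_c57)) :=
  Lre_g IH (LK LD1_c18 LD2_c34 LD3_c47) (LK LD1_c10 LD2_c11 LD3_c57) Lrfl Lrfl
theorem f926270 : Led Lsl_ft (LP (LK LD1_c18 LD2_c34 LD3_c47)) = (LP (LK LD1_c18 LD2_c15 LD3_c6)) :=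
  Lgr Lrot2 (Lpr_gt (f249887 IH) (Lpr_gt (f233572 IH) (Lpr_af (f926248 IH) (Lpn (LP (LK LD1_c18 LD2_c15 LD3_c6))))))
theorem f405358 : Led Lsl_ft (LP (LK LD1_c5 LD2_c11 LD3_c35)) = (LP (LK LD1_c10 LD2_c13 LD3_c27)) :=
  Lre_f IH (LK LD1_c5 LD2_c11 LD3_c35) (LK LD1_c10 LD2_c13 LD3_c27) Lrfl Lrfl
theorem f405632 : Led Lsl_ff (LP (LK LD1_c10 LD2_c13 LD3_c53)) = (LP (LK LD1_c18 LD2_c15 LD3_c5)) :=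
  Lgr Lrot23 (Lpr_ct (K44.f164537 IH) (Lpr_ft (f405358 IH) (Lpr_ct (K53.f405619 IH) (Lpn (LP (LK LD1_c18 LD2_c15 LD3_c5))))))
theorem f405644 : Led Lsl_ft (LP (LK LD1_c10 LD2_c13 LD3_c53)) = (LP (LK LD1_c18 LD2_c15 LD3_c5)) :=
  Lgr Lrot48 (Lpr_ff (f405632 IH) (Lpn (LP (LK LD1_c18 LD2_c15 LD3_c5))))
theorem f926272 : Led Lsl_af (LP (LK LD1_c18 LD2_c34 LD3_c47)) = (LP (LK LD1_c18 LD2_c15 LD3_c5)) :=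
  Lgr Lrot45 (Lpr_ft (f926270 IH) (Lpe (f926248 IH) (Lpr_ft (f405644 IH) (Lpn (LP (LK LD1_c18 LD2_c15 LD3_c5))))))
theorem f926301 : Led Lsl_gf (LP (LK LD1_c18 LD2_c34 LD3_c47)) = (LP (LK LD1_c10 LD2_c11 LD3_c60)) :=
  Lgr Lrot76 (Lpr_af (f926272 IH) (Lpe (f405644 IH) (Lpr_gt (K44.f233579 IH) (Lpn (LP (LK LD1_c10 LD2_c11 LD3_c60))))))
theorem f604328 : Led Lsl_bt (LP (LK LD1_c18 LD2_c36 LD3_c21)) = (LP (LK LD1_c10 LD2_c13 LD3_c52)) :=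
  Lgr Lrot62 (Lpr_af (f585803 IH) (Lpe (K71.f405708 IH) (Lpe (K53.f405615 IH) (Lpe (K44.f164536 IH) (Lpe (K44.f405330 IH) (Lpn (LP (LK LD1_c10 LD2_c13 LD3_c52))))))))
theorem f604339 : Led Lsl_cf (LP (LK LD1_c18 LD2_c36 LD3_c21)) = (LP (LK LD1_c10 LD2_c25 LD3_c57)) :=
  Lgr Lrot108 (Lpr_ft (f604335 IH) (Lpr_ct (K44.f405405 IH) (Lpr_ft (K44.f405414 IH) (Lpn (LP (LK LD1_c10 LD2_c25 LD3_c57))))))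
theorem f926250 : Led Lsl_bf (LP (LK LD1_c15 LD2_c0 LD3_c49)) = (LP (LK LD1_c18 LD2_c15 LD3_c6)) :=
  Lgr Lrot90 (Lpr_ct (K71.f405470 IH) (Lpr_bt (K44.f405464 IH) (Lpe (f604339 IH) (Lpr_bt (f604328 IH) (Lpr_ct (f926245 IH) (Lpn (LP (LK LD1_c18 LD2_c15 LD3_c6))))))))
theorem f926274 : Led Lsl_bf (LP (LK LD1_c18 LD2_c34 LD3_c47)) = (LP (LK LD1_c18 LD2_c11 LD3_c15)) :=
  Lgr Lrot61 (Lpr_ft (f926270 IH) (Lpe (f926250 IH) (Lpr_ft (K44.f405473 IH) (Lpn (LP (LK LD1_c18 LD2_c11 LD3_c15))))))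
theorem f402473 : Led Lsl_et (LP (LK LD1_c10 LD2_c25 LD3_c51)) = (LP (LK LD1_c18 LD2_c55 LD3_c11)) :=
  Lre_e IH (LK LD1_c10 LD2_c25 LD3_c51) (LK LD1_c18 LD2_c55 LD3_c11) Lrfl Lrfl
theorem f190567 : Led Lsl_et (LP (LK LD1_c27 LD2_c47 LD3_c37)) = (LP (LK LD1_c18 LD2_c6 LD3_c42)) :=
  Lre_e IH (LK LD1_c27 LD2_c47 LD3_c37) (LK LD1_c18 LD2_c6 LD3_c42) Lrfl Lrfl
theorem f402474 : Led Lsl_ct (LP (LK LD1_c18 LD2_c55 LD3_c11)) = (LP (LK LD1_c27 LD2_c47 LD3_c37)) :=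
  Lgr Lrot15 (Lpe (f402473 IH) (Lpr_cf (K44.f402465 IH) (Lpe (f190567 IH) (Lpn (LP (LK LD1_c27 LD2_c47 LD3_c37))))))
theorem f402482 : Led Lsl_cf (LP (LK LD1_c18 LD2_c55 LD3_c11)) = (LP (LK LD1_c27 LD2_c47 LD3_c37)) :=
  Lgr Lrot11 (Lpr_ct (f402474 IH) (Lpn (LP (LK LD1_c27 LD2_c47 LD3_c37))))
theorem f402487 : Led Lsl_bt (LP (LK LD1_c18 LD2_c55 LD3_c11)) = (LP (LK LD1_c28 LD2_c23 LD3_c10)) :=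
  Lre_b IH (LK LD1_c18 LD2_c55 LD3_c11) (LK LD1_c28 LD2_c23 LD3_c10) Lrfl Lrfl
theorem f402488 : Led Lsl_bt (LP (LK LD1_c18 LD2_c6 LD3_c45)) = (LP (LK LD1_c27 LD2_c47 LD3_c37)) :=
  Lre_b IH (LK LD1_c18 LD2_c6 LD3_c45) (LK LD1_c27 LD2_c47 LD3_c37) Lrfl Lrfl
theorem f402489 : Led Lsl_ct (LP (LK LD1_c27 LD2_c47 LD3_c41)) = (LP (LK LD1_c18 LD2_c6 LD3_c45)) :=
  Lre_c IH (LK LD1_c27 LD2_c47 LD3_c41) (LK LD1_c18 LD2_c6 LD3_c45) Lrfl Lrfl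
theorem f402490 : Led Lsl_bt (LP (LK LD1_c32 LD2_c28 LD3_c33)) = (LP (LK LD1_c27 LD2_c47 LD3_c41)) :=
  Lre_b IH (LK LD1_c32 LD2_c28 LD3_c33) (LK LD1_c27 LD2_c47 LD3_c41) Lrfl Lrfl
theorem f402491 : Led Lsl_ct (LP (LK LD1_c28 LD2_c23 LD3_c10)) = (LP (LK LD1_c32 LD2_c28 LD3_c33)) :=
  Lgr Lrot83 (Lpe (f402487 IH) (Lpr_cf (f402482 IH) (Lpe (f402488 IH) (Lpe (f402489 IH) (Lpe (f402490 IH) (Lpn (LP (LK LD1_c32 LD2_c28 LD3_c33))))))))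
theorem f402496 : Led Lsl_et (LP (LK LD1_c18 LD2_c55 LD3_c9)) = (LP (LK LD1_c28 LD2_c23 LD3_c10)) :=
  Lre_e IH (LK LD1_c18 LD2_c55 LD3_c9) (LK LD1_c28 LD2_c23 LD3_c10) Lrfl Lrfl
theorem f214358 : Led Lsl_et (LP (LK LD1_c32 LD2_c28 LD3_c33)) = (LP (LK LD1_c27 LD2_c47 LD3_c40)) :=
  Lre_e IH (LK LD1_c32 LD2_c28 LD3_c33) (LK LD1_c27 LD2_c47 LD3_c40) Lrfl Lrfl
theorem f402497 : Led Lsl_cf (LP (LK LD1_c18 LD2_c55 LD3_c9)) = (LP (LK LD1_c27 LD2_c47 LD3_c40)) :=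
  Lgr Lrot39 (Lpr_et (f402496 IH) (Lpr_ct (f402491 IH) (Lpr_et (f214358 IH) (Lpn (LP (LK LD1_c27 LD2_c47 LD3_c40))))))
theorem f190554 : Led Lsl_cf (LP (LK LD1_c19 LD2_c0 LD3_c39)) = (LP (LK LD1_c27 LD2_c47 LD3_c38)) :=
  Lgr Lrot11 (Lpr_ct (K71.f190550 IH) (Lpn (LP (LK LD1_c27 LD2_c47 LD3_c38))))
theorem f926436 : Led Lsl_gf (LP (LK LD1_c27 LD2_c47 LD3_c25)) = (LP (LK LD1_c19 LD2_c0 LD3_c39)) :=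
  Lgr Lrot129 (Lpr_cf (f926426 IH) (Lpr_bt (f233581 IH) (Lpe (f926301 IH) (Lpr_bf (f926274 IH) (Lpr_ct (K44.f214591 IH) (Lpe (K71.f922641 IH) (Lpr_cf (f402497 IH) (Lpr_bt (K44.f190579 IH) (Lpr_gt (K71.f190549 IH) (Lpe (f190554 IH) (Lpn (LP (LK LD1_c19 LD2_c0 LD3_c39)))))))))))))
theorem f190552 : Led Lsl_bt (LP (LK LD1_c10 LD2_c29 LD3_c21)) = (LP (LK LD1_c19 LD2_c0 LD3_c39)) :=
  Lre_b IH (LK LD1_c10 LD2_c29 LD3_c21) (LK LD1_c19 LD2_c0 LD3_c39) Lrfl Lrfl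
theorem f190576 : Led Lsl_ct (LP (LK LD1_c10 LD2_c29 LD3_c21)) = (LP (LK LD1_c19 LD2_c0 LD3_c40)) :=
  Lre_c IH (LK LD1_c10 LD2_c29 LD3_c21) (LK LD1_c19 LD2_c0 LD3_c40) Lrfl Lrfl
theorem f252794 : Led Lsl_ct (LP (LK LD1_c18 LD2_c7 LD3_c13)) = (LP (LK LD1_c27 LD2_c47 LD3_c60)) :=
  Lre_c IH (LK LD1_c18 LD2_c7 LD3_c13) (LK LD1_c27 LD2_c47 LD3_c60) Lrfl Lrfl
theorem f586032 : Led Lsl_ft (LP (LK LD1_c5 LD2_c20 LD3_c7)) = (LP (LK LD1_c10 LD2_c30 LD3_c8)) :=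
  Lre_f IH (LK LD1_c5 LD2_c20 LD3_c7) (LK LD1_c10 LD2_c30 LD3_c8) Lrfl Lrfl
theorem f586033 : Led Lsl_ct (LP (LK LD1_c10 LD2_c30 LD3_c8)) = (LP (LK LD1_c9 LD2_c54 LD3_c17)) :=
  Lgr Lrot40 (Lpe (f586032 IH) (Lpe (K44.f186885 IH) (Lpr_ff (K44.f585996 IH) (Lpn (LP (LK LD1_c9 LD2_c54 LD3_c17))))))
theorem f252923 : Led Lsl_bf (LP (LK LD1_c18 LD2_c47 LD3_c38)) = (LP (LK LD1_c27 LD2_c47 LD3_c60)) :=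
  Lgr Lrot24 (Lpr_bt (K44.f252911 IH) (Lpn (LP (LK LD1_c27 LD2_c47 LD3_c60))))
theorem f586063 : Led Lsl_gt (LP (LK LD1_c9 LD2_c54 LD3_c17)) = (LP (LK LD1_c18 LD2_c7 LD3_c13)) :=
  Lgr Lrot149 (Lpe (f586033 IH) (Lpr_gf (K44.f586059 IH) (Lpr_bf (K44.f47311 IH) (Lpe (K44.f582798 IH) (Lpr_gf (K22.f257775 IH) (Lpe (K14.f248106 IH) (Lpr_bt (K18.f248181 IH) (Lpe (K44.f584301 IH) (Lpr_bf (f252923 IH) (Lpr_ct (K44.f252801 IH) (Lpn (LP (LK LD1_c18 LD2_c7 LD3_c13)))))))))))))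
theorem f724402 : Led Lsl_af (LP (LK LD1_c18 LD2_c16 LD3_c33)) = (LP (LK LD1_c25 LD2_c3 LD3_c43)) :=
  Lgr Lrot0 (Lpr_at (K71.f724396 IH) (Lpn (LP (LK LD1_c25 LD2_c3 LD3_c43))))
theorem f724399 : Led Lsl_ct (LP (LK LD1_c18 LD2_c48 LD3_c28)) = (LP (LK LD1_c25 LD2_c3 LD3_c43)) :=
  Lgr Lrot59 (Lpr_cf (K71.f724393 IH) (Lpn (LP (LK LD1_c25 LD2_c3 LD3_c43))))
theorem f724670 : Led Lsl_ct (LP (LK LD1_c18 LD2_c16 LD3_c33)) = (LP (LK LD1_c10 LD2_c21 LD3_c44)) :=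
  Lgr Lrot111 (Lpr_af (f724402 IH) (Lpe (f724399 IH) (Lpe (K71.f724384 IH) (Lpn (LP (LK LD1_c10 LD2_c21 LD3_c44))))))
theorem f724669 : Led Lsl_bt (LP (LK LD1_c18 LD2_c16 LD3_c33)) = (LP (LK LD1_c9 LD2_c59 LD3_c50)) :=
  Lre_b IH (LK LD1_c18 LD2_c16 LD3_c33) (LK LD1_c9 LD2_c59 LD3_c50) Lrfl Lrfl
theorem f721585 : Led Lsl_gt (LP (LK LD1_c9 LD2_c59 LD3_c50)) = (LP (LK LD1_c18 LD2_c16 LD3_c10)) :=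
  Lre_g IH (LK LD1_c9 LD2_c59 LD3_c50) (LK LD1_c18 LD2_c16 LD3_c10) Lrfl Lrfl
theorem f252932 : Led Lsl_bt (LP (LK LD1_c9 LD2_c54 LD3_c8)) = (LP (LK LD1_c18 LD2_c7 LD3_c13)) :=
  Lre_b IH (LK LD1_c9 LD2_c54 LD3_c8) (LK LD1_c18 LD2_c7 LD3_c13) Lrfl Lrfl
theorem f724675 : Led Lsl_ct (LP (LK LD1_c18 LD2_c16 LD3_c10)) = (LP (LK LD1_c10 LD2_c11 LD3_c59)) :=
  Lgr Lrot91 (Lpe (f721585 IH) (Lpe (f724669 IH) (Lpr_ct (f724670 IH) (Lpr_gf (K53.f724219 IH) (Lpe (K44.f252910 IH) (Lpr_bt (f252932 IH) (Lpe (f586063 IH) (Lpe (K44.f233597 IH) (Lpr_ct (K71.f233596 IH) (Lpr_gf (K44.f233589 IH) (Lpn (LP (LK LD1_c10 LD2_c11 LD3_c59)))))))))))))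
theorem f926438 : Led Lsl_bf (LP (LK LD1_c27 LD2_c47 LD3_c25)) = (LP (LK LD1_c18 LD2_c16 LD3_c10)) :=
  Lgr Lrot34 (Lpr_gf (f926436 IH) (Lpe (f190552 IH) (Lpr_ct (f190576 IH) (Lpr_gf (K44.f252928 IH) (Lpe (f252794 IH) (Lpe (f586063 IH) (Lpe (K44.f233597 IH) (Lpr_ct (K71.f233596 IH) (Lpr_gf (K44.f233589 IH) (Lpe (f724675 IH) (Lpn (LP (LK LD1_c18 LD2_c16 LD3_c10)))))))))))))
theorem f926416 : Led Lsl_ft (LP (LK LD1_c18 LD2_c6 LD3_c52)) = (LP (LK LD1_c18 LD2_c34 LD3_c51)) :=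
  Lgr Lrot48 (Lpr_ff (f926408 IH) (Lpn (LP (LK LD1_c18 LD2_c34 LD3_c51))))
theorem f926432 : Led Lsl_ft (LP (LK LD1_c27 LD2_c47 LD3_c25)) = (LP (LK LD1_c18 LD2_c16 LD3_c25)) :=
  Lgr Lrot4 (Lpr_cf (f926426 IH) (Lpe (f926416 IH) (Lpe (K53.f343011 IH) (Lpn (LP (LK LD1_c18 LD2_c16 LD3_c25))))))
theorem f926440 : Led Lsl_ft (LP (LK LD1_c9 LD2_c59 LD3_c45)) = (LP (LK LD1_c18 LD2_c16 LD3_c10)) :=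
  Lgr Lrot75 (Lpe (K53.f343014 IH) (Lpe (f926432 IH) (Lpr_bf (f926438 IH) (Lpn (LP (LK LD1_c18 LD2_c16 LD3_c10))))))
theorem f163862 : Led Lsl_gt (LP (LK LD1_c5 LD2_c4 LD3_c29)) = (LP (LK LD1_c9 LD2_c59 LD3_c46)) :=
  Lre_g IH (LK LD1_c5 LD2_c4 LD3_c29) (LK LD1_c9 LD2_c59 LD3_c46) Lrfl Lrfl
theorem f926447 : Led Lsl_af (LP (LK LD1_c9 LD2_c59 LD3_c46)) = (LP (LK LD1_c18 LD2_c16 LD3_c10)) :=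
  Lgr Lrot31 (Lpe (f163862 IH) (Lpe (K44.f343304 IH) (Lpr_ft (f926440 IH) (Lpn (LP (LK LD1_c18 LD2_c16 LD3_c10))))))
theorem f343432 : Led Lsl_gt (LP (LK LD1_c9 LD2_c59 LD3_c46)) = (LP (LK LD1_c5 LD2_c4 LD3_c24)) :=
  Lre_g IH (LK LD1_c9 LD2_c59 LD3_c46) (LK LD1_c5 LD2_c4 LD3_c24) Lrfl Lrfl
theorem f585479 : Led Lsl_ct (LP (LK LD1_c10 LD2_c26 LD3_c57)) = (LP (LK LD1_c9 LD2_c59 LD3_c46)) :=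
  Lgr Lrot64 (Lpr_bt (f405258 IH) (Lpe (K44.f166099 IH) (Lpe (K44.f166098 IH) (Lpr_ct (K44.f32794 IH) (Lpe (K44.f166093 IH) (Lpr_cf (K44.f166081 IH) (Lpr_gf (K53.f585471 IH) (Lpe (K53.f343373 IH) (Lpr_ct (K53.f164029 IH) (Lpe (f343432 IH) (Lpn (LP (LK LD1_c9 LD2_c59 LD3_c46)))))))))))))
theorem f284769 : Led Lsl_bt (LP (LK LD1_c18 LD2_c36 LD3_c27)) = (LP (LK LD1_c10 LD2_c13 LD3_c17)) :=
  Lre_b IH (LK LD1_c18 LD2_c36 LD3_c27) (LK LD1_c10 LD2_c13 LD3_c17) Lrfl Lrfl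
theorem f284772 : Led Lsl_ct (LP (LK LD1_c8 LD2_c52 LD3_c15)) = (LP (LK LD1_c9 LD2_c51 LD3_c59)) :=
  Lgr Lrot83 (Lpe (K71.f284771 IH) (Lpr_cf (K17.f284766 IH) (Lpr_bf (K12.f229042 IH) (Lpe (K14.f3727 IH) (Lpe (K71.f186873 IH) (Lpn (LP (LK LD1_c9 LD2_c51 LD3_c59))))))))
theorem f333272 : Led Lsl_gt (LP (LK LD1_c18 LD2_c3 LD3_c30)) = (LP (LK LD1_c9 LD2_c51 LD3_c59)) :=
  Lre_g IH (LK LD1_c18 LD2_c3 LD3_c30) (LK LD1_c9 LD2_c51 LD3_c59) Lrfl Lrfl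
theorem f409199 : Led Lsl_ct (LP (LK LD1_c18 LD2_c36 LD3_c27)) = (LP (LK LD1_c18 LD2_c3 LD3_c30)) :=
  Lgr Lrot64 (Lpr_bt (f284769 IH) (Lpe (K44.f163794 IH) (Lpe (K37.f186600 IH) (Lpr_ct (K12.f32067 IH) (Lpe (K9.f182206 IH) (Lpe (K13.f46166 IH) (Lpe (K17.f284756 IH) (Lpe (K71.f284768 IH) (Lpr_ct (f284772 IH) (Lpe (f333272 IH) (Lpn (LP (LK LD1_c18 LD2_c3 LD3_c30)))))))))))))
theorem f409201 : Led Lsl_cf (LP (LK LD1_c18 LD2_c36 LD3_c27)) = (LP (LK LD1_c18 LD2_c3 LD3_c30)) :=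
  Lgr Lrot11 (Lpr_ct (f409199 IH) (Lpn (LP (LK LD1_c18 LD2_c3 LD3_c30))))
theorem f585484 : Led Lsl_bf (LP (LK LD1_c18 LD2_c3 LD3_c30)) = (LP (LK LD1_c9 LD2_c59 LD3_c46)) :=
  Lgr Lrot90 (Lpe (f409201 IH) (Lpr_bt (f284769 IH) (Lpr_ct (f405254 IH) (Lpe (K44.f405256 IH) (Lpr_ct (f585479 IH) (Lpn (LP (LK LD1_c9 LD2_c59 LD3_c46))))))))
theorem f926428 : Led Lsl_bt (LP (LK LD1_c27 LD2_c47 LD3_c25)) = (LP (LK LD1_c18 LD2_c16 LD3_c10)) :=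
  Lgr Lrot128 (Lpr_cf (f926426 IH) (Lpe (f417542 IH) (Lpe (K44.f233587 IH) (Lpe (K71.f165252 IH) (Lpe (f724675 IH) (Lpn (LP (LK LD1_c18 LD2_c16 LD3_c10))))))))
theorem f922475 : Led Lsl_at (LP (LK LD1_c18 LD2_c6 LD3_c22)) = (LP (LK LD1_c27 LD2_c47 LD3_c25)) :=
  Lre_a IH (LK LD1_c18 LD2_c6 LD3_c22) (LK LD1_c27 LD2_c47 LD3_c25) Lrfl Lrfl
theorem f922474 : Led Lsl_bt (LP (LK LD1_c9 LD2_c53 LD3_c45)) = (LP (LK LD1_c18 LD2_c6 LD3_c22)) :=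
  Lre_b IH (LK LD1_c9 LD2_c53 LD3_c45) (LK LD1_c18 LD2_c6 LD3_c22) Lrfl Lrfl
def v41178 : LQ := Led Lsl_at (LP (LK LD1_c9 LD2_c53 LD3_c45))
theorem f922471 : Led Lsl_at (LP (LK LD1_c9 LD2_c53 LD3_c45)) = v41178 :=
  Lrfl
theorem f922472 : Led Lsl_af (LP (LK LD1_c9 LD2_c53 LD3_c45)) = v41178 :=
  Lgr Lrot0 (Lpr_at (f922471 IH) (Lpn v41178))
theorem f926453 : (LP (LK LD1_c18 LD2_c3 LD3_c30)) = v41178 :=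
  (Llr Lrot62 (Lpr_bf (f585484 IH) (Lpr_af (f926447 IH) (Lpe (f926428 IH) (Lpe (f922475 IH) (Lpe (f922474 IH) (Lpr_af (f922472 IH) (Lpn v41178)))))))).symm
theorem f922476 : Led Lsl_ft (LP (LK LD1_c9 LD2_c53 LD3_c46)) = v41178 :=
  Lgr Lrot2 (Lpr_gt (K71.f291970 IH) (Lpr_gt (f33314 IH) (Lpr_af (f922472 IH) (Lpn v41178))))
theorem f585486 : Led Lsl_cf (LP (LK LD1_c10 LD2_c26 LD3_c57)) = (LP (LK LD1_c9 LD2_c59 LD3_c46)) :=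
  Lgr Lrot11 (Lpr_ct (f585479 IH) (Lpn (LP (LK LD1_c9 LD2_c59 LD3_c46))))
theorem f405253 : Led Lsl_bt (LP (LK LD1_c10 LD2_c13 LD3_c17)) = (LP (LK LD1_c18 LD2_c36 LD3_c27)) :=
  Lre_b IH (LK LD1_c10 LD2_c13 LD3_c17) (LK LD1_c18 LD2_c36 LD3_c27) Lrfl Lrfl
theorem f585489 : Led Lsl_bt (LP (LK LD1_c18 LD2_c3 LD3_c30)) = (LP (LK LD1_c9 LD2_c59 LD3_c46)) :=
  Lgr Lrot128 (Lpe (f409199 IH) (Lpe (f405253 IH) (Lpr_cf (K44.f405251 IH) (Lpe (f405258 IH) (Lpr_cf (f585486 IH) (Lpn (LP (LK LD1_c9 LD2_c59 LD3_c46))))))))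
theorem f926458 : Led Lsl_ff (LP (LK LD1_c18 LD2_c6 LD3_c24)) = (LP (LK LD1_c9 LD2_c59 LD3_c46)) :=
  Lgr Lrot25 (Lpr_bt (K71.f291971 IH) (Lpr_ft (f922476 IH) (Lpq (f926453 IH) (Lpr_bt (f585489 IH) (Lpn (LP (LK LD1_c9 LD2_c59 LD3_c46)))))))
theorem f926333 : Led Lsl_ff (LP (LK LD1_c10 LD2_c26 LD3_c57)) = v41502 :=
  Lgr Lrot3 (Lpr_ft (f926332 IH) (Lpn v41502))
theorem f926476 : K71.v41213 = v41502 :=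
  (Llr Lrot40 (Lpe (K71.f922586 IH) (Lpr_ff (f926458 IH) (Lpe (f585479 IH) (Lpr_ff (f926333 IH) (Lpn v41502)))))).symm
theorem f926477 : Led Lsl_af (LP (LK LD1_c18 LD2_c6 LD3_c24)) = (LP (LK LD1_c9 LD2_c59 LD3_c45)) :=
  Lgr Lrot68 (Lpr_ct (K71.f922586 IH) (Lpqs (f926476 IH) (Lpe (f926331 IH) (Lpr_ct (K44.f343303 IH) (Lpn (LP (LK LD1_c9 LD2_c59 LD3_c45)))))))
theorem f165741 : Led Lsl_dt (LP (LK LD1_c18 LD2_c16 LD3_c26)) = (LP (LK LD1_c9 LD2_c59 LD3_c45)) :=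
  Lre_d IH (LK LD1_c18 LD2_c16 LD3_c26) (LK LD1_c9 LD2_c59 LD3_c45) Lrfl Lrfl
theorem f926479 : Led Lsl_at (LP (LK LD1_c27 LD2_c46 LD3_c46)) = (LP (LK LD1_c18 LD2_c16 LD3_c26)) :=
  Lgr Lrot51 (Lpe (K71.f922588 IH) (Lpr_af (f926477 IH) (Lpe (f165741 IH) (Lpn (LP (LK LD1_c18 LD2_c16 LD3_c26))))))
theorem f926481 : Led Lsl_af (LP (LK LD1_c27 LD2_c46 LD3_c46)) = (LP (LK LD1_c18 LD2_c16 LD3_c26)) :=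
  Lgr Lrot0 (Lpr_at (f926479 IH) (Lpn (LP (LK LD1_c18 LD2_c16 LD3_c26))))
theorem f721578 : Led Lsl_dt (LP (LK LD1_c18 LD2_c16 LD3_c10)) = (LP (LK LD1_c27 LD2_c55 LD3_c58)) :=
  Lre_d IH (LK LD1_c18 LD2_c16 LD3_c10) (LK LD1_c27 LD2_c55 LD3_c58) Lrfl Lrfl
theorem f926442 : Led Lsl_ff (LP (LK LD1_c18 LD2_c16 LD3_c26)) = (LP (LK LD1_c27 LD2_c55 LD3_c58)) :=
  Lgr Lrot19 (Lpr_dt (f165741 IH) (Lpr_ft (f926440 IH) (Lpr_dt (f721578 IH) (Lpn (LP (LK LD1_c27 LD2_c55 LD3_c58))))))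
theorem f721588 : Led Lsl_ct (LP (LK LD1_c9 LD2_c59 LD3_c50)) = (LP (LK LD1_c5 LD2_c4 LD3_c27)) :=
  Lre_c IH (LK LD1_c9 LD2_c59 LD3_c50) (LK LD1_c5 LD2_c4 LD3_c27) Lrfl Lrfl
def v14266 : LQ := Led Lsl_gf (LP (LK LD1_c5 LD2_c4 LD3_c22))
theorem f721593 : Led Lsl_gf (LP (LK LD1_c5 LD2_c4 LD3_c22)) = v14266 :=
  Lrfl
theorem f636155 : Led Lsl_at (LP (LK LD1_c2 LD2_c29 LD3_c35)) = (LP (LK LD1_c5 LD2_c4 LD3_c22)) :=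
  Lre_a IH (LK LD1_c2 LD2_c29 LD3_c35) (LK LD1_c5 LD2_c4 LD3_c22) Lrfl Lrfl
theorem f721594 : Led Lsl_ft (LP (LK LD1_c5 LD2_c4 LD3_c27)) = (LP (LK LD1_c2 LD2_c29 LD3_c35)) :=
  Lre_f IH (LK LD1_c5 LD2_c4 LD3_c27) (LK LD1_c2 LD2_c29 LD3_c35) Lrfl Lrfl
theorem f721595 : Led Lsl_gt (LP (LK LD1_c5 LD2_c4 LD3_c27)) = v14266 :=
  Lgr Lrot5 (Lpr_ft (f721594 IH) (Lpr_at (f636155 IH) (Lpr_gf (f721593 IH) (Lpn v14266))))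
theorem f724348 : (LP (LK LD1_c2 LD2_c29 LD3_c37)) = v14266 :=
  Lefun (Lecon (Lfl_gt (K71.f636160 IH)) (K71.f724345 IH)) (f721593 IH)
theorem f345143 : Led Lsl_dt (LP (LK LD1_c28 LD2_c6 LD3_c32)) = (LP (LK LD1_c18 LD2_c32 LD3_c1)) :=
  Lre_d IH (LK LD1_c28 LD2_c6 LD3_c32) (LK LD1_c18 LD2_c32 LD3_c1) Lrfl Lrfl
theorem f724711 : Led Lsl_gt (LP (LK LD1_c27 LD2_c55 LD3_c58)) = (LP (LK LD1_c28 LD2_c6 LD3_c32)) :=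
  Lgr Lrot189 (Lpe (f721578 IH) (Lpe (f721585 IH) (Lpr_ct (f721588 IH) (Lpr_gt (f721595 IH) (Lpq (f724348 IH) (Lpr_dt (f21601 IH) (Lpr_gt (K45.f164064 IH) (Lpr_dt (K45.f586551 IH) (Lpr_ct (f345141 IH) (Lpe (f345143 IH) (Lpn (LP (LK LD1_c28 LD2_c6 LD3_c32)))))))))))))
theorem f926485 : Led Lsl_gf (LP (LK LD1_c27 LD2_c46 LD3_c46)) = (LP (LK LD1_c28 LD2_c6 LD3_c32)) :=
  Lgr Lrot76 (Lpr_af (f926481 IH) (Lpr_ff (f926442 IH) (Lpr_gt (f724711 IH) (Lpn (LP (LK LD1_c28 LD2_c6 LD3_c32))))))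
theorem f922590 : Led Lsl_df (LP (LK LD1_c18 LD2_c6 LD3_c24)) = (LP (LK LD1_c27 LD2_c46 LD3_c46)) :=
  Lgr Lrot162 (Lpr_cf (K71.f922587 IH) (Lpe (K71.f922585 IH) (Lpe (K71.f233596 IH) (Lpe (K71.f21883 IH) (Lpr_dt (K45.f21873 IH) (Lpr_gt (K71.f3587 IH) (Lpr_ct (K71.f3697 IH) (Lpr_gt (K71.f3698 IH) (Lpr_ct (K71.f247861 IH) (Lpn (LP (LK LD1_c27 LD2_c46 LD3_c46))))))))))))
theorem f721586 : Led Lsl_dt (LP (LK LD1_c9 LD2_c59 LD3_c50)) = (LP (LK LD1_c18 LD2_c16 LD3_c36)) :=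
  Lre_d IH (LK LD1_c9 LD2_c59 LD3_c50) (LK LD1_c18 LD2_c16 LD3_c36) Lrfl Lrfl
theorem f929382 : Led Lsl_cf (LP (LK LD1_c21 LD2_c1 LD3_c3)) = (LP (LK LD1_c18 LD2_c16 LD3_c36)) :=
  Lgr Lrot14 (Lpr_df (f929377 IH) (Lpr_gf (K56.f338924 IH) (Lpe (K45.f585067 IH) (Lpr_gf (K45.f586531 IH) (Lpe (f586539 IH) (Lpe (f926485 IH) (Lpe (f922590 IH) (Lpr_gt (K71.f922592 IH) (Lpr_dt (f721586 IH) (Lpn (LP (LK LD1_c18 LD2_c16 LD3_c36))))))))))))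
theorem f929375 : Led Lsl_dt (LP (LK LD1_c21 LD2_c1 LD3_c3)) = (LP (LK LD1_c15 LD2_c29 LD3_c49)) :=
  Lgr Lrot6 (Lpr_gt (f198819 IH) (Lpr_ct (f198840 IH) (Lpr_gt (f929371 IH) (Lpe (f923884 IH) (Lpe (f881275 IH) (Lpe (f250339 IH) (Lpe (K67.f187534 IH) (Lpe (K45.f226076 IH) (Lpe (K56.f226079 IH) (Lpn (LP (LK LD1_c15 LD2_c29 LD3_c49))))))))))))
theorem f226091 : Led Lsl_ct (LP (LK LD1_c15 LD2_c29 LD3_c49)) = (LP (LK LD1_c10 LD2_c43 LD3_c16)) :=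
  Lgr Lrot59 (Lpr_cf (K56.f226081 IH) (Lpn (LP (LK LD1_c10 LD2_c43 LD3_c16))))
theorem f721622 : Led Lsl_ft (LP (LK LD1_c9 LD2_c59 LD3_c53)) = (LP (LK LD1_c5 LD2_c4 LD3_c25)) :=
  Lre_f IH (LK LD1_c9 LD2_c59 LD3_c53) (LK LD1_c5 LD2_c4 LD3_c25) Lrfl Lrfl
theorem f721617 : Led Lsl_at (LP (LK LD1_c5 LD2_c4 LD3_c25)) = (LP (LK LD1_c9 LD2_c59 LD3_c37)) :=
  Lre_a IH (LK LD1_c5 LD2_c4 LD3_c25) (LK LD1_c9 LD2_c59 LD3_c37) Lrfl Lrfl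
def v41631 : LQ := Led Lsl_ct (LP (LK LD1_c9 LD2_c59 LD3_c37))
theorem f927237 : Led Lsl_ct (LP (LK LD1_c9 LD2_c59 LD3_c37)) = v41631 :=
  Lrfl
theorem f927239 : Led Lsl_cf (LP (LK LD1_c9 LD2_c59 LD3_c37)) = v41631 :=
  Lgr Lrot11 (Lpr_ct (f927237 IH) (Lpn v41631))
theorem f929390 : Led Lsl_dt (LP (LK LD1_c10 LD2_c43 LD3_c16)) = v41631 :=
  Lgr Lrot120 (Lpe (f226091 IH) (Lpe (f929375 IH) (Lpr_cf (f929382 IH) (Lpe (f721586 IH) (Lpe (K71.f721584 IH) (Lpe (f721590 IH) (Lpr_ft (f721622 IH) (Lpr_at (f721617 IH) (Lpr_cf (f927239 IH) (Lpn v41631))))))))))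
theorem f721653 : Led Lsl_cf (LP (LK LD1_c5 LD2_c4 LD3_c30)) = K71.v14271 :=
  Lgr Lrot11 (Lpr_ct (K71.f721651 IH) (Lpn K71.v14271))
theorem f927240 : Led Lsl_ff K71.v14271 = v41631 :=
  Lgr Lrot23 (Lpe (f721653 IH) (Lpr_ft (K71.f721605 IH) (Lpr_ct (f927237 IH) (Lpn v41631))))
theorem f929393 : Led Lsl_ff (LP (LK LD1_c10 LD2_c43 LD3_c16)) = K56.v16696 :=
  Lgr Lrot19 (Lpr_dt (f929390 IH) (Lpe (f927240 IH) (Lpe (K71.f922741 IH) (Lpn K56.v16696))))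
theorem f929397 : v14816 = (LP (LK LD1_c6 LD2_c5 LD3_c53)) :=
  (Llr Lrot75 (Lpe (f726769 IH) (Lpe (K56.f226080 IH) (Lpr_ff (f929393 IH) (Lpe (K56.f751150 IH) (Lpn (LP (LK LD1_c6 LD2_c5 LD3_c53)))))))).symm
def v16697 : LQ := Led Lsl_dt (LP (LK LD1_c6 LD2_c5 LD3_c53))
theorem f751162 : Led Lsl_dt (LP (LK LD1_c6 LD2_c5 LD3_c53)) = v16697 :=
  Lrfl
theorem f751163 : Led Lsl_df (LP (LK LD1_c6 LD2_c5 LD3_c53)) = v16697 :=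
  Lgr Lrot38 (Lpr_dt (f751162 IH) (Lpn v16697))
theorem f212478 : Led Lsl_dt (LP (LK LD1_c5 LD2_c26 LD3_c0)) = (LP (LK LD1_c10 LD2_c43 LD3_c18)) :=
  Lre_d IH (LK LD1_c5 LD2_c26 LD3_c0) (LK LD1_c10 LD2_c43 LD3_c18) Lrfl Lrfl
theorem f929473 : Led Lsl_ff v16697 = (LP (LK LD1_c10 LD2_c43 LD3_c18)) :=
  Lgr Lrot19 (Lpe (f751163 IH) (Lpq (f929397 IH) (Lpe (f726771 IH) (Lpr_dt (f212478 IH) (Lpn (LP (LK LD1_c10 LD2_c43 LD3_c18)))))))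
theorem f929475 : Led Lsl_ft v16697 = (LP (LK LD1_c10 LD2_c43 LD3_c18)) :=
  Lgr Lrot48 (Lpr_ff (f929473 IH) (Lpn (LP (LK LD1_c10 LD2_c43 LD3_c18))))
theorem f922743 : Led Lsl_dt K56.v16696 = K71.v14271 :=
  Lgr Lrot42 (Lpr_df (K71.f922741 IH) (Lpn K71.v14271))
def v14849 : LQ := Led Lsl_gt (LP (LK LD1_c5 LD2_c26 LD3_c33))
theorem f726925 : Led Lsl_gt (LP (LK LD1_c5 LD2_c26 LD3_c33)) = v14849 :=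
  Lrfl
theorem f922739 : Led Lsl_bf v14849 = K71.v14271 :=
  Lgr Lrot34 (Lpe (f726925 IH) (Lpe (K17.f285917 IH) (Lpe (K64.f198643 IH) (Lpr_gf (K22.f193797 IH) (Lpe (K10.f21261 IH) (Lpr_gf (K10.f195788 IH) (Lpe (K71.f196052 IH) (Lpr_ct (K71.f586560 IH) (Lpqs (K71.f922736 IH) (Lpe (K71.f721606 IH) (Lpr_cf (f721653 IH) (Lpn K71.v14271))))))))))))
theorem f922753 : v16697 = v14849 :=
  (Llr Lrot12 (Lpe (f751163 IH) (Lpr_bt (K56.f751150 IH) (Lpr_dt (f922743 IH) (Lpe (f922739 IH) (Lpn v14849)))))).symm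
def v16735 : LQ := Led Lsl_dt (LP (LK LD1_c6 LD2_c6 LD3_c26))
theorem f751320 : Led Lsl_dt (LP (LK LD1_c6 LD2_c6 LD3_c26)) = v16735 :=
  Lrfl
theorem f285926 : Led Lsl_dt (LP (LK LD1_c10 LD2_c44 LD3_c16)) = (LP (LK LD1_c5 LD2_c26 LD3_c32)) :=
  Lre_d IH (LK LD1_c10 LD2_c44 LD3_c16) (LK LD1_c5 LD2_c26 LD3_c32) Lrfl Lrfl
theorem f751324 : Led Lsl_ff (LP (LK LD1_c10 LD2_c44 LD3_c16)) = v16735 :=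
  Lgr Lrot19 (Lpr_dt (f285926 IH) (Lpr_ft (K56.f285988 IH) (Lpr_dt (f751320 IH) (Lpn v16735))))
theorem f285923 : Led Lsl_at (LP (LK LD1_c10 LD2_c44 LD3_c16)) = (LP (LK LD1_c5 LD2_c26 LD3_c33)) :=
  Lre_a IH (LK LD1_c10 LD2_c44 LD3_c16) (LK LD1_c5 LD2_c26 LD3_c33) Lrfl Lrfl
theorem f183418 : Led Lsl_bt (LP (LK LD1_c6 LD2_c6 LD3_c27)) = (LP (LK LD1_c2 LD2_c59 LD3_c18)) :=
  Lre_b IH (LK LD1_c6 LD2_c6 LD3_c27) (LK LD1_c2 LD2_c59 LD3_c18) Lrfl Lrfl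
theorem f285952 : Led Lsl_ft (LP (LK LD1_c5 LD2_c26 LD3_c33)) = (LP (LK LD1_c6 LD2_c6 LD3_c27)) :=
  Lgr Lrot75 (Lpe (K17.f285917 IH) (Lpr_ff (K17.f285950 IH) (Lpe (f183418 IH) (Lpn (LP (LK LD1_c6 LD2_c6 LD3_c27))))))
theorem f751325 : Led Lsl_at (LP (LK LD1_c6 LD2_c6 LD3_c27)) = v16735 :=
  Lgr Lrot66 (Lpe (f285952 IH) (Lpe (f285923 IH) (Lpr_ff (f751324 IH) (Lpn v16735))))
theorem f751329 : Led Lsl_gt v14849 = v16735 :=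
  Lgr Lrot46 (Lpe (f726925 IH) (Lpr_ft (f285952 IH) (Lpr_at (f751325 IH) (Lpn v16735))))
theorem f257385 : Led Lsl_gt (LP (LK LD1_c10 LD2_c44 LD3_c18)) = (LP (LK LD1_c5 LD2_c26 LD3_c33)) :=
  Lre_g IH (LK LD1_c10 LD2_c44 LD3_c18) (LK LD1_c5 LD2_c26 LD3_c33) Lrfl Lrfl
theorem f751328 : Led Lsl_gf (LP (LK LD1_c10 LD2_c44 LD3_c18)) = v16735 :=
  Lgr Lrot47 (Lpr_gt (f257385 IH) (Lpe (f285923 IH) (Lpr_ff (f751324 IH) (Lpn v16735))))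
def v16700 : LQ := Led Lsl_dt (LP (LK LD1_c6 LD2_c5 LD3_c54))
theorem f751170 : Led Lsl_dt (LP (LK LD1_c6 LD2_c5 LD3_c54)) = v16700 :=
  Lrfl
theorem f751171 : Led Lsl_df (LP (LK LD1_c6 LD2_c5 LD3_c54)) = v16700 :=
  Lgr Lrot38 (Lpr_dt (f751170 IH) (Lpn v16700))
def v16699 : LQ := Led Lsl_ft (LP (LK LD1_c6 LD2_c5 LD3_c53))
theorem f751166 : Led Lsl_ft (LP (LK LD1_c6 LD2_c5 LD3_c53)) = v16699 :=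
  Lrfl
theorem f751168 : Led Lsl_ff (LP (LK LD1_c6 LD2_c5 LD3_c53)) = v16699 :=
  Lgr Lrot3 (Lpr_ft (f751166 IH) (Lpn v16699))
def v16695 : LQ := Led Lsl_at (LP (LK LD1_c6 LD2_c5 LD3_c53))
theorem f751144 : Led Lsl_at (LP (LK LD1_c6 LD2_c5 LD3_c53)) = v16695 :=
  Lrfl
theorem f751145 : Led Lsl_af (LP (LK LD1_c6 LD2_c5 LD3_c53)) = v16695 :=
  Lgr Lrot0 (Lpr_at (f751144 IH) (Lpn v16695))
theorem f179048 : Led Lsl_gt (LP (LK LD1_c6 LD2_c5 LD3_c54)) = (LP (LK LD1_c2 LD2_c59 LD3_c2)) :=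
  Lre_g IH (LK LD1_c6 LD2_c5 LD3_c54) (LK LD1_c2 LD2_c59 LD3_c2) Lrfl Lrfl
theorem f751146 : Led Lsl_ft (LP (LK LD1_c6 LD2_c5 LD3_c54)) = v16695 :=
  Lgr Lrot2 (Lpr_gt (f179048 IH) (Lpr_gt (K56.f179062 IH) (Lpr_af (f751145 IH) (Lpn v16695))))
theorem f751147 : Led Lsl_ff (LP (LK LD1_c6 LD2_c5 LD3_c54)) = v16695 :=
  Lgr Lrot3 (Lpr_ft (f751146 IH) (Lpn v16695))
theorem f751169 : Led Lsl_at (LP (LK LD1_c6 LD2_c5 LD3_c54)) = v16699 :=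
  Lgr Lrot66 (Lpr_ff (f751147 IH) (Lpe (f751144 IH) (Lpr_ff (f751168 IH) (Lpn v16699))))
theorem f929401 : (LP (LK LD1_c5 LD2_c26 LD3_c0)) = v16699 :=
  Lefun (Lecon (Lfl_ff (f726771 IH)) (f929397 IH)) (f751166 IH)
theorem f929454 : Led Lsl_af v16700 = (LP (LK LD1_c10 LD2_c43 LD3_c18)) :=
  Lgr Lrot117 (Lpe (f751171 IH) (Lpr_at (f751169 IH) (Lpq (f929401 IH) (Lpr_dt (f212478 IH) (Lpn (LP (LK LD1_c10 LD2_c43 LD3_c18)))))))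
theorem f929478 : (LP (LK LD1_c10 LD2_c44 LD3_c18)) = v16700 :=
  (Llr Lrot46 (Lpr_gf (f751328 IH) (Lpe (f751329 IH) (Lpq (f922753 IH) (Lpr_ft (f929475 IH) (Lpe (f929454 IH) (Lpn v16700))))))).symm
theorem f929455 : Led Lsl_at v16700 = (LP (LK LD1_c10 LD2_c43 LD3_c18)) :=
  Lgr Lrot100 (Lpr_af (f929454 IH) (Lpn (LP (LK LD1_c10 LD2_c43 LD3_c18))))
theorem f929479 : Led Lsl_at (LP (LK LD1_c10 LD2_c44 LD3_c18)) = (LP (LK LD1_c10 LD2_c43 LD3_c18)) :=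
  Leop (Lpe (f929455 IH) (Lpq (f929478 IH) (Lpn (LP (LK LD1_c10 LD2_c44 LD3_c18)))))
theorem seed_2551 : LEOK LG_a (LK LD1_c10 LD2_c44 LD3_c18) :=
  Leoe_a (LK LD1_c10 LD2_c44 LD3_c18) (f929479 IH)
theorem f409752 : Led Lsl_ct (LP (LK LD1_c6 LD2_c5 LD3_c54)) = (LP (LK LD1_c11 LD2_c55 LD3_c14)) :=
  Lre_c IH (LK LD1_c6 LD2_c5 LD3_c54) (LK LD1_c11 LD2_c55 LD3_c14) Lrfl Lrfl
theorem f409753 : Led Lsl_dt (LP (LK LD1_c21 LD2_c0 LD3_c8)) = (LP (LK LD1_c11 LD2_c55 LD3_c14)) :=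
  Lre_d IH (LK LD1_c21 LD2_c0 LD3_c8) (LK LD1_c11 LD2_c55 LD3_c14) Lrfl Lrfl
theorem f285970 : Led Lsl_at (LP (LK LD1_c2 LD2_c59 LD3_c17)) = (LP (LK LD1_c6 LD2_c6 LD3_c26)) :=
  Lre_a IH (LK LD1_c2 LD2_c59 LD3_c17) (LK LD1_c6 LD2_c6 LD3_c26) Lrfl Lrfl
theorem f285979 : Led Lsl_gt (LP (LK LD1_c5 LD2_c26 LD3_c30)) = (LP (LK LD1_c6 LD2_c6 LD3_c26)) :=
  Lgr Lrot46 (Lpe (K53.f195804 IH) (Lpr_ft (K17.f285968 IH) (Lpr_at (f285970 IH) (Lpn (LP (LK LD1_c6 LD2_c6 LD3_c26))))))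
theorem f195805 : Led Lsl_ct (LP (LK LD1_c10 LD2_c44 LD3_c12)) = (LP (LK LD1_c5 LD2_c26 LD3_c30)) :=
  Lre_c IH (LK LD1_c10 LD2_c44 LD3_c12) (LK LD1_c5 LD2_c26 LD3_c30) Lrfl Lrfl
theorem f198921 : Led Lsl_gt (LP (LK LD1_c10 LD2_c44 LD3_c12)) = (LP (LK LD1_c10 LD2_c45 LD3_c30)) :=
  Lre_g IH (LK LD1_c10 LD2_c44 LD3_c12) (LK LD1_c10 LD2_c45 LD3_c30) Lrfl Lrfl
theorem f285984 : Led Lsl_dt (LP (LK LD1_c10 LD2_c45 LD3_c30)) = (LP (LK LD1_c19 LD2_c27 LD3_c26)) :=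
  Lre_d IH (LK LD1_c10 LD2_c45 LD3_c30) (LK LD1_c19 LD2_c27 LD3_c26) Lrfl Lrfl
theorem f929498 : Led Lsl_gf (LP (LK LD1_c21 LD2_c0 LD3_c8)) = (LP (LK LD1_c19 LD2_c27 LD3_c26)) :=
  Lgr Lrot143 (Lpr_dt (f409753 IH) (Lpe (f409752 IH) (Lpr_df (f751171 IH) (Lpq (f929478 IH) (Lpr_gf (f751328 IH) (Lpe (f751320 IH) (Lpe (f285979 IH) (Lpe (f195805 IH) (Lpr_gt (f198921 IH) (Lpr_dt (f285984 IH) (Lpn (LP (LK LD1_c19 LD2_c27 LD3_c26)))))))))))))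
theorem f929499 : Led Lsl_gt (LP (LK LD1_c19 LD2_c27 LD3_c26)) = (LP (LK LD1_c21 LD2_c0 LD3_c8)) :=
  Leop (Lpr_gf (f929498 IH) (Lpn (LP (LK LD1_c19 LD2_c27 LD3_c26))))
theorem seed_2552 : LEOK LG_g (LK LD1_c19 LD2_c27 LD3_c26) :=
  Leoe_g (LK LD1_c19 LD2_c27 LD3_c26) (f929499 IH)
theorem f226086 : Led Lsl_bt (LP (LK LD1_c5 LD2_c26 LD3_c0)) = (LP (LK LD1_c10 LD2_c43 LD3_c16)) :=
  Lre_b IH (LK LD1_c5 LD2_c26 LD3_c0) (LK LD1_c10 LD2_c43 LD3_c16) Lrfl Lrfl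
theorem f291024 : Led Lsl_dt (LP (LK LD1_c10 LD2_c43 LD3_c18)) = (LP (LK LD1_c5 LD2_c26 LD3_c0)) :=
  Lre_d IH (LK LD1_c10 LD2_c43 LD3_c18) (LK LD1_c5 LD2_c26 LD3_c0) Lrfl Lrfl
theorem f929391 : Led Lsl_bf (LP (LK LD1_c10 LD2_c43 LD3_c18)) = v41631 :=
  Lgr Lrot93 (Lpr_dt (f291024 IH) (Lpr_bt (f226086 IH) (Lpr_dt (f929390 IH) (Lpn v41631))))
theorem f183423 : Led Lsl_bt (LP (LK LD1_c2 LD2_c59 LD3_c18)) = (LP (LK LD1_c6 LD2_c6 LD3_c27)) :=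
  Lre_b IH (LK LD1_c2 LD2_c59 LD3_c18) (LK LD1_c6 LD2_c6 LD3_c27) Lrfl Lrfl
def v16737 : LQ := Led Lsl_gt (LP (LK LD1_c6 LD2_c6 LD3_c27))
theorem f751336 : Led Lsl_gt (LP (LK LD1_c6 LD2_c6 LD3_c27)) = v16737 :=
  Lrfl
theorem f929543 : (LP (LK LD1_c10 LD2_c43 LD3_c18)) = v16737 :=
  (Llr Lrot92 (Lpr_bf (f929391 IH) (Lpe (f927239 IH) (Lpr_gt (f927233 IH) (Lpqs (f929361 IH) (Lpe (K45.f586565 IH) (Lpr_bt (K45.f177413 IH) (Lpe (K18.f226040 IH) (Lpr_ct (K14.f166155 IH) (Lpr_gt (K13.f226036 IH) (Lpe (K13.f183380 IH) (Lpr_bt (f183423 IH) (Lpr_gt (f751336 IH) (Lpn v16737)))))))))))))).symm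
theorem f285924 : Led Lsl_bt (LP (LK LD1_c5 LD2_c26 LD3_c33)) = (LP (LK LD1_c2 LD2_c39 LD3_c41)) :=
  Lre_b IH (LK LD1_c5 LD2_c26 LD3_c33) (LK LD1_c2 LD2_c39 LD3_c41) Lrfl Lrfl
theorem f285960 : Led Lsl_ff (LP (LK LD1_c5 LD2_c26 LD3_c33)) = (LP (LK LD1_c6 LD2_c6 LD3_c27)) :=
  Lgr Lrot25 (Lpr_bt (f285924 IH) (Lpr_ft (K17.f285958 IH) (Lpr_bt (f183423 IH) (Lpn (LP (LK LD1_c6 LD2_c6 LD3_c27))))))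
theorem f751337 : Led Lsl_gf (LP (LK LD1_c10 LD2_c44 LD3_c16)) = v16737 :=
  Lgr Lrot76 (Lpe (K17.f285916 IH) (Lpr_ff (f285960 IH) (Lpr_gt (f751336 IH) (Lpn v16737))))
theorem f929544 : Led Lsl_gt (LP (LK LD1_c10 LD2_c43 LD3_c18)) = (LP (LK LD1_c10 LD2_c44 LD3_c16)) :=
  Leop (Lpr_gf (f751337 IH) (Lpq (f929543 IH) (Lpn (LP (LK LD1_c10 LD2_c43 LD3_c18)))))
theorem seed_2553 : LEOK LG_g (LK LD1_c10 LD2_c43 LD3_c18) :=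
  Leoe_g (LK LD1_c10 LD2_c43 LD3_c18) (f929544 IH)
def v16738 : LQ := Led Lsl_gf (LP (LK LD1_c6 LD2_c6 LD3_c27))
theorem f751338 : Led Lsl_gf (LP (LK LD1_c6 LD2_c6 LD3_c27)) = v16738 :=
  Lrfl
theorem f285992 : Led Lsl_dt (LP (LK LD1_c6 LD2_c6 LD3_c27)) = (LP (LK LD1_c2 LD2_c59 LD3_c17)) :=
  Lre_d IH (LK LD1_c6 LD2_c6 LD3_c27) (LK LD1_c2 LD2_c59 LD3_c17) Lrfl Lrfl
theorem f751321 : Led Lsl_af (LP (LK LD1_c6 LD2_c6 LD3_c27)) = v16735 :=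
  Lgr Lrot117 (Lpr_dt (f285992 IH) (Lpr_at (f285970 IH) (Lpr_dt (f751320 IH) (Lpn v16735))))
theorem f751327 : Led Lsl_ft (LP (LK LD1_c10 LD2_c44 LD3_c16)) = v16735 :=
  Lgr Lrot48 (Lpr_ff (f751324 IH) (Lpn v16735))
theorem f751339 : Led Lsl_gt (LP (LK LD1_c10 LD2_c44 LD3_c16)) = v16738 :=
  Lgr Lrot5 (Lpr_ft (f751327 IH) (Lpe (f751321 IH) (Lpr_gf (f751338 IH) (Lpn v16738))))
def v14815 : LQ := Led Lsl_at (LP (LK LD1_c5 LD2_c26 LD3_c0))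
theorem f726763 : Led Lsl_at (LP (LK LD1_c5 LD2_c26 LD3_c0)) = v14815 :=
  Lrfl
theorem f726764 : Led Lsl_af (LP (LK LD1_c5 LD2_c26 LD3_c0)) = v14815 :=
  Lgr Lrot0 (Lpr_at (f726763 IH) (Lpn v14815))
theorem f166146 : Led Lsl_gt (LP (LK LD1_c5 LD2_c26 LD3_c1)) = (LP (LK LD1_c2 LD2_c39 LD3_c24)) :=
  Lre_g IH (LK LD1_c5 LD2_c26 LD3_c1) (LK LD1_c2 LD2_c39 LD3_c24) Lrfl Lrfl
theorem f726766 : Led Lsl_ft (LP (LK LD1_c5 LD2_c26 LD3_c1)) = v14815 :=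
  Lgr Lrot2 (Lpr_gt (f166146 IH) (Lpr_gt (K56.f212477 IH) (Lpr_af (f726764 IH) (Lpn v14815))))
theorem f726770 : Led Lsl_af (LP (LK LD1_c5 LD2_c26 LD3_c1)) = v14816 :=
  Lgr Lrot45 (Lpr_ft (f726766 IH) (Lpe (f726764 IH) (Lpr_ft (f726769 IH) (Lpn v14816))))
theorem f929398 : (LP (LK LD1_c5 LD2_c26 LD3_c1)) = v16695 :=
  Lefun (Lecon (Lfl_af (f726770 IH)) (f929397 IH)) (f751144 IH)
theorem f264977 : Led Lsl_dt (LP (LK LD1_c10 LD2_c43 LD3_c22)) = (LP (LK LD1_c5 LD2_c26 LD3_c1)) :=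
  Lre_d IH (LK LD1_c10 LD2_c43 LD3_c22) (LK LD1_c5 LD2_c26 LD3_c1) Lrfl Lrfl
theorem f929413 : Led Lsl_ff (LP (LK LD1_c10 LD2_c43 LD3_c22)) = v16700 :=
  Lgr Lrot19 (Lpr_dt (f264977 IH) (Lpqs (f929398 IH) (Lpe (f751147 IH) (Lpr_dt (f751170 IH) (Lpn v16700)))))
theorem f929414 : Led Lsl_ft (LP (LK LD1_c10 LD2_c43 LD3_c22)) = v16700 :=
  Lgr Lrot48 (Lpr_ff (f929413 IH) (Lpn v16700))
theorem f929474 : Led Lsl_at v16697 = (LP (LK LD1_c10 LD2_c43 LD3_c22)) :=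
  Lgr Lrot66 (Lpr_ff (f929473 IH) (Lpe (f929455 IH) (Lpe (f929414 IH) (Lpn (LP (LK LD1_c10 LD2_c43 LD3_c22))))))
theorem f929546 : (LP (LK LD1_c10 LD2_c43 LD3_c22)) = v16738 :=
  (Llr Lrot26 (Lpe (f929474 IH) (Lpr_ff (f929473 IH) (Lpqs (f929543 IH) (Lpe (f751337 IH) (Lpr_gt (f751339 IH) (Lpn v16738))))))).symm
theorem f929548 : Led Lsl_gt (LP (LK LD1_c10 LD2_c44 LD3_c16)) = (LP (LK LD1_c10 LD2_c43 LD3_c22)) :=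
  Leop (Lpqs (f929546 IH) (Lpe (f751339 IH) (Lpn (LP (LK LD1_c10 LD2_c44 LD3_c16)))))
theorem seed_2554 : LEOK LG_g (LK LD1_c10 LD2_c44 LD3_c16) :=
  Leoe_g (LK LD1_c10 LD2_c44 LD3_c16) (f929548 IH)
theorem f929245 : Led Lsl_bf (LP (LK LD1_c18 LD2_c41 LD3_c45)) = (LP (LK LD1_c18 LD2_c9 LD3_c22)) :=
  Lgr Lrot24 (Lpr_bt (f929234 IH) (Lpn (LP (LK LD1_c18 LD2_c9 LD3_c22))))
theorem f929576 : Led Lsl_ft (LP (LK LD1_c18 LD2_c41 LD3_c45)) = v41816 :=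
  Lgr Lrot75 (Lpr_bf (f929245 IH) (Lpq (f928948 IH) (Lpe (f928816 IH) (Lpr_bf (f928868 IH) (Lpn v41816)))))
theorem f412774 : Led Lsl_dt (LP (LK LD1_c18 LD2_c20 LD3_c27)) = (LP (LK LD1_c27 LD2_c59 LD3_c11)) :=
  Lre_d IH (LK LD1_c18 LD2_c20 LD3_c27) (LK LD1_c27 LD2_c59 LD3_c11) Lrfl Lrfl
theorem f186621 : Led Lsl_bt (LP (LK LD1_c5 LD2_c11 LD3_c19)) = (LP (LK LD1_c10 LD2_c13 LD3_c10)) :=
  Lre_b IH (LK LD1_c5 LD2_c11 LD3_c19) (LK LD1_c10 LD2_c13 LD3_c10) Lrfl Lrfl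
def v14487 : LQ := Led Lsl_ft (LP (LK LD1_c5 LD2_c11 LD3_c19))
theorem f722795 : Led Lsl_ft (LP (LK LD1_c5 LD2_c11 LD3_c19)) = v14487 :=
  Lrfl
theorem f722797 : Led Lsl_ff (LP (LK LD1_c5 LD2_c11 LD3_c19)) = v14487 :=
  Lgr Lrot3 (Lpr_ft (f722795 IH) (Lpn v14487))
def v14242 : LQ := Led Lsl_ft (LP (LK LD1_c5 LD2_c4 LD3_c2))
theorem f721152 : Led Lsl_ft (LP (LK LD1_c5 LD2_c4 LD3_c2)) = v14242 :=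
  Lrfl
theorem f721153 : Led Lsl_af v4564 = v14242 :=
  Lgr Lrot45 (Lpr_ft (f721143 IH) (Lpe (f721142 IH) (Lpr_ft (f721152 IH) (Lpn v14242))))
def v14484 : LQ := Led Lsl_at (LP (LK LD1_c5 LD2_c11 LD3_c19))
theorem f722785 : Led Lsl_at (LP (LK LD1_c5 LD2_c11 LD3_c19)) = v14484 :=
  Lrfl
theorem f722786 : Led Lsl_af (LP (LK LD1_c5 LD2_c11 LD3_c19)) = v14484 :=
  Lgr Lrot0 (Lpr_at (f722785 IH) (Lpn v14484))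
theorem f722787 : Led Lsl_ft (LP (LK LD1_c5 LD2_c11 LD3_c20)) = v14484 :=
  Lgr Lrot2 (Lpr_gt (K19.f186611 IH) (Lpr_gt (K38.f186615 IH) (Lpr_af (f722786 IH) (Lpn v14484))))
theorem f722788 : Led Lsl_ff (LP (LK LD1_c5 LD2_c11 LD3_c20)) = v14484 :=
  Lgr Lrot3 (Lpr_ft (f722787 IH) (Lpn v14484))
theorem f722798 : Led Lsl_at (LP (LK LD1_c5 LD2_c11 LD3_c20)) = v14487 :=
  Lgr Lrot66 (Lpr_ff (f722788 IH) (Lpe (f722785 IH) (Lpr_ff (f722797 IH) (Lpn v14487))))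
def v41550 : LQ := Led Lsl_ft (LP (LK LD1_c9 LD2_c58 LD3_c57))
theorem f926746 : Led Lsl_ft (LP (LK LD1_c9 LD2_c58 LD3_c57)) = v41550 :=
  Lrfl
theorem f604169 : Led Lsl_bt (LP (LK LD1_c5 LD2_c4 LD3_c2)) = (LP (LK LD1_c9 LD2_c58 LD3_c57)) :=
  Lre_b IH (LK LD1_c5 LD2_c4 LD3_c2) (LK LD1_c9 LD2_c58 LD3_c57) Lrfl Lrfl
theorem f721154 : Led Lsl_ff (LP (LK LD1_c5 LD2_c4 LD3_c2)) = v14242 :=
  Lgr Lrot3 (Lpr_ft (f721152 IH) (Lpn v14242))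
theorem f926747 : Led Lsl_bf v14242 = v41550 :=
  Lgr Lrot61 (Lpe (f721154 IH) (Lpr_bt (f604169 IH) (Lpr_ft (f926746 IH) (Lpn v41550))))
theorem f186629 : Led Lsl_at (LP (LK LD1_c18 LD2_c36 LD3_c22)) = (LP (LK LD1_c10 LD2_c13 LD3_c12)) :=
  Lre_a IH (LK LD1_c18 LD2_c36 LD3_c22) (LK LD1_c10 LD2_c13 LD3_c12) Lrfl Lrfl
theorem f585801 : Led Lsl_ff (LP (LK LD1_c18 LD2_c36 LD3_c22)) = (LP (LK LD1_c10 LD2_c13 LD3_c31)) :=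
  Lgr Lrot52 (Lpr_at (f186629 IH) (Lpr_gf (K44.f585799 IH) (Lpe (f181049 IH) (Lpn (LP (LK LD1_c10 LD2_c13 LD3_c31))))))
theorem f604376 : Led Lsl_ft (LP (LK LD1_c18 LD2_c36 LD3_c22)) = (LP (LK LD1_c10 LD2_c13 LD3_c31)) :=
  Lgr Lrot48 (Lpr_ff (f585801 IH) (Lpn (LP (LK LD1_c10 LD2_c13 LD3_c31))))
theorem f186645 : Led Lsl_at (LP (LK LD1_c10 LD2_c13 LD3_c12)) = (LP (LK LD1_c18 LD2_c36 LD3_c22)) :=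
  Lre_a IH (LK LD1_c10 LD2_c13 LD3_c12) (LK LD1_c18 LD2_c36 LD3_c22) Lrfl Lrfl
theorem f927381 : (LP (LK LD1_c10 LD2_c13 LD3_c12)) = v41550 :=
  (Llr Lrot45 (Lpr_at (f186645 IH) (Lpr_ft (f604376 IH) (Lpq (f927376 IH) (Lpe (f926737 IH) (Lpr_ft (f926746 IH) (Lpn v41550))))))).symm
theorem f927384 : v14242 = (LP (LK LD1_c5 LD2_c11 LD3_c20)) :=
  Lefun (Lecon (Lfl_bf (f926747 IH)) (f927381 IH).symm) (K19.f186612 IH)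
theorem f927385 : v4564 = v14487 :=
  Lefun (Lecon (Lfl_af (f721153 IH)) (f927384 IH)) (f722798 IH)
theorem f927389 : (LP (LK LD1_c5 LD2_c11 LD3_c19)) = v14238 :=
  Lefun (Lecon (Lfl_ff (f722797 IH)) (f927385 IH).symm) (f721143 IH)
theorem f927392 : v41661 = (LP (LK LD1_c10 LD2_c13 LD3_c10)) :=
  Lefun (Lecon (f927375 IH) (f927389 IH).symm) (f186621 IH)
def v41428 : LQ := Led Lsl_at (LP (LK LD1_c9 LD2_c57 LD3_c24))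
theorem f925912 : Led Lsl_at (LP (LK LD1_c9 LD2_c57 LD3_c24)) = v41428 :=
  Lrfl
theorem f925913 : Led Lsl_af (LP (LK LD1_c9 LD2_c57 LD3_c24)) = v41428 :=
  Lgr Lrot0 (Lpr_at (f925912 IH) (Lpn v41428))
theorem f925914 : Led Lsl_ft (LP (LK LD1_c9 LD2_c57 LD3_c25)) = v41428 :=
  Lgr Lrot2 (Lpr_gt (K38.f165834 IH) (Lpr_gt (K44.f165821 IH) (Lpr_af (f925913 IH) (Lpn v41428))))
theorem f927395 : (LP (LK LD1_c10 LD2_c12 LD3_c22)) = v41428 :=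
  (Llr Lrot108 (Lpe (K53.f724730 IH) (Lpr_ft (f927372 IH) (Lpqs (f927392 IH) (Lpe (K38.f186617 IH) (Lpr_ft (f925914 IH) (Lpn v41428))))))).symm
theorem f604578 : Led Lsl_dt (LP (LK LD1_c10 LD2_c12 LD3_c22)) = (LP (LK LD1_c18 LD2_c33 LD3_c9)) :=
  Lgr Lrot6 (Lpr_gt (K53.f180745 IH) (Lpr_ct (K44.f180742 IH) (Lpr_gt (K44.f165261 IH) (Lpr_ct (K45.f583442 IH) (Lpe (K45.f44409 IH) (Lpr_cf (K13.f50827 IH) (Lpe (K44.f45055 IH) (Lpr_cf (K44.f582820 IH) (Lpe (K44.f248278 IH) (Lpn (LP (LK LD1_c18 LD2_c33 LD3_c9))))))))))))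
theorem f927402 : Led Lsl_ff (LP (LK LD1_c18 LD2_c9 LD3_c31)) = (LP (LK LD1_c18 LD2_c33 LD3_c9)) :=
  Lgr Lrot19 (Lpe (K44.f582747 IH) (Lpr_ft (f925914 IH) (Lpq (f927395 IH) (Lpr_dt (f604578 IH) (Lpn (LP (LK LD1_c18 LD2_c33 LD3_c9)))))))
theorem f248180 : Led Lsl_gt (LP (LK LD1_c10 LD2_c11 LD3_c3)) = (LP (LK LD1_c18 LD2_c33 LD3_c8)) :=
  Lre_g IH (LK LD1_c10 LD2_c11 LD3_c3) (LK LD1_c18 LD2_c33 LD3_c8) Lrfl Lrfl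
theorem f927408 : Led Lsl_at (LP (LK LD1_c18 LD2_c9 LD3_c31)) = (LP (LK LD1_c18 LD2_c33 LD3_c8)) :=
  Lgr Lrot26 (Lpr_ff (f927402 IH) (Lpr_gt (K44.f248278 IH) (Lpr_gt (f248180 IH) (Lpn (LP (LK LD1_c18 LD2_c33 LD3_c8))))))
def v41430 : LQ := Led Lsl_ft (LP (LK LD1_c9 LD2_c57 LD3_c24))
theorem f925920 : Led Lsl_ft (LP (LK LD1_c9 LD2_c57 LD3_c24)) = v41430 :=
  Lrfl
theorem f925921 : Led Lsl_af (LP (LK LD1_c9 LD2_c57 LD3_c25)) = v41430 :=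
  Lgr Lrot45 (Lpr_ft (f925914 IH) (Lpe (f925913 IH) (Lpr_ft (f925920 IH) (Lpn v41430))))
theorem f299618 : Led Lsl_ft (LP (LK LD1_c10 LD2_c11 LD3_c3)) = (LP (LK LD1_c9 LD2_c55 LD3_c10)) :=
  Lgr Lrot75 (Lpe (K44.f248170 IH) (Lpr_ff (K18.f299614 IH) (Lpe (K44.f249413 IH) (Lpn (LP (LK LD1_c9 LD2_c55 LD3_c10))))))
theorem f299705 : Led Lsl_at (LP (LK LD1_c9 LD2_c55 LD3_c10)) = (LP (LK LD1_c18 LD2_c9 LD3_c28)) :=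
  Lre_a IH (LK LD1_c9 LD2_c55 LD3_c10) (LK LD1_c18 LD2_c9 LD3_c28) Lrfl Lrfl
theorem f406796 : Led Lsl_gt (LP (LK LD1_c18 LD2_c33 LD3_c8)) = (LP (LK LD1_c18 LD2_c9 LD3_c28)) :=
  Lgr Lrot46 (Lpe (f248180 IH) (Lpr_ft (f299618 IH) (Lpr_at (f299705 IH) (Lpn (LP (LK LD1_c18 LD2_c9 LD3_c28))))))
theorem f585530 : Led Lsl_df (LP (LK LD1_c10 LD2_c12 LD3_c21)) = (LP (LK LD1_c18 LD2_c33 LD3_c8)) :=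
  Lgr Lrot155 (Lpe (K44.f343475 IH) (Lpr_ct (K14.f248958 IH) (Lpr_gt (K44.f343361 IH) (Lpr_ct (K53.f260141 IH) (Lpr_dt (K44.f582865 IH) (Lpe (K53.f252468 IH) (Lpr_gf (K53.f418902 IH) (Lpr_cf (K44.f584330 IH) (Lpe (f406796 IH) (Lpn (LP (LK LD1_c18 LD2_c33 LD3_c8))))))))))))
theorem f927414 : v41430 = (LP (LK LD1_c10 LD2_c12 LD3_c21)) :=
  (Llr Lrot117 (Lpe (f925921 IH) (Lpe (K44.f582724 IH) (Lpr_at (f927408 IH) (Lpe (f585530 IH) (Lpn (LP (LK LD1_c10 LD2_c12 LD3_c21)))))))).symm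
theorem f544840 : Led Lsl_bt (LP (LK LD1_c17 LD2_c46 LD3_c0)) = (LP (LK LD1_c18 LD2_c33 LD3_c8)) :=
  Lgr Lrot92 (Lpr_ct (K38.f249540 IH) (Lpr_gt (K38.f544836 IH) (Lpe (K38.f43583 IH) (Lpr_bt (K38.f43581 IH) (Lpe (K14.f43578 IH) (Lpr_ct (K9.f43502 IH) (Lpr_gt (K9.f183983 IH) (Lpr_cf (K14.f248171 IH) (Lpr_bt (K44.f248170 IH) (Lpr_gt (f248180 IH) (Lpn (LP (LK LD1_c18 LD2_c33 LD3_c8)))))))))))))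
theorem f544843 : Led Lsl_bf (LP (LK LD1_c17 LD2_c46 LD3_c0)) = (LP (LK LD1_c18 LD2_c33 LD3_c8)) :=
  Lgr Lrot24 (Lpr_bt (f544840 IH) (Lpn (LP (LK LD1_c18 LD2_c33 LD3_c8))))
theorem f584216 : Led Lsl_dt (LP (LK LD1_c10 LD2_c12 LD3_c21)) = (LP (LK LD1_c18 LD2_c33 LD3_c8)) :=
  Lgr Lrot79 (Lpe (K44.f230030 IH) (Lpr_df (K44.f584191 IH) (Lpr_bf (f544843 IH) (Lpn (LP (LK LD1_c18 LD2_c33 LD3_c8))))))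
theorem f927422 : Led Lsl_ff (LP (LK LD1_c18 LD2_c9 LD3_c30)) = (LP (LK LD1_c18 LD2_c33 LD3_c8)) :=
  Lgr Lrot19 (Lpr_dt (K44.f583476 IH) (Lpr_ft (f925920 IH) (Lpqs (f927414 IH) (Lpr_dt (f584216 IH) (Lpn (LP (LK LD1_c18 LD2_c33 LD3_c8)))))))
theorem f927428 : Led Lsl_ft (LP (LK LD1_c18 LD2_c9 LD3_c30)) = (LP (LK LD1_c18 LD2_c33 LD3_c8)) :=
  Lgr Lrot48 (Lpr_ff (f927422 IH) (Lpn (LP (LK LD1_c18 LD2_c33 LD3_c8))))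
theorem f927432 : Led Lsl_ff (LP (LK LD1_c17 LD2_c47 LD3_c10)) = (LP (LK LD1_c17 LD2_c46 LD3_c0)) :=
  Lgr Lrot25 (Lpr_bt (K44.f584115 IH) (Lpr_ft (f927428 IH) (Lpe (f544843 IH) (Lpn (LP (LK LD1_c17 LD2_c46 LD3_c0))))))
theorem f927438 : Led Lsl_at (LP (LK LD1_c17 LD2_c47 LD3_c10)) = (LP (LK LD1_c17 LD2_c45 LD3_c61)) :=
  Lgr Lrot26 (Lpr_ff (f927432 IH) (Lpr_gt (K37.f43800 IH) (Lpr_gt (K37.f229936 IH) (Lpn (LP (LK LD1_c17 LD2_c45 LD3_c61))))))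
theorem f927446 : Led Lsl_af (LP (LK LD1_c18 LD2_c13 LD3_c8)) = (LP (LK LD1_c27 LD2_c32 LD3_c10)) :=
  Lgr Lrot117 (Lpe (K44.f584119 IH) (Lpr_at (f927438 IH) (Lpe (K44.f584170 IH) (Lpn (LP (LK LD1_c27 LD2_c32 LD3_c10))))))
theorem f927458 : Led Lsl_ft (LP (LK LD1_c18 LD2_c54 LD3_c40)) = (LP (LK LD1_c27 LD2_c32 LD3_c10)) :=
  Lgr Lrot2 (Lpr_gt (K44.f584442 IH) (Lpr_gt (K53.f584285 IH) (Lpr_af (f927446 IH) (Lpn (LP (LK LD1_c27 LD2_c32 LD3_c10))))))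
theorem f927466 : Led Lsl_ff (LP (LK LD1_c18 LD2_c54 LD3_c40)) = (LP (LK LD1_c27 LD2_c32 LD3_c10)) :=
  Lgr Lrot3 (Lpr_ft (f927458 IH) (Lpn (LP (LK LD1_c27 LD2_c32 LD3_c10))))
theorem f927470 : Led Lsl_ft (LP (LK LD1_c10 LD2_c25 LD3_c31)) = (LP (LK LD1_c18 LD2_c51 LD3_c42)) :=
  Lgr Lrot4 (Lpe (K44.f215113 IH) (Lpr_ff (f927466 IH) (Lpe (K37.f544739 IH) (Lpn (LP (LK LD1_c18 LD2_c51 LD3_c42))))))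
theorem f927627 : Led Lsl_af (LP (LK LD1_c10 LD2_c25 LD3_c32)) = (LP (LK LD1_c18 LD2_c51 LD3_c42)) :=
  Lgr Lrot31 (Lpe (K44.f294496 IH) (Lpr_gf (K37.f294406 IH) (Lpr_ft (f927470 IH) (Lpn (LP (LK LD1_c18 LD2_c51 LD3_c42))))))
theorem f254589 : Led Lsl_dt (LP (LK LD1_c10 LD2_c23 LD3_c40)) = (LP (LK LD1_c18 LD2_c51 LD3_c34)) :=
  Lre_d IH (LK LD1_c10 LD2_c23 LD3_c40) (LK LD1_c18 LD2_c51 LD3_c34) Lrfl Lrfl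
theorem f254590 : Led Lsl_gt (LP (LK LD1_c18 LD2_c51 LD3_c34)) = (LP (LK LD1_c28 LD2_c19 LD3_c50)) :=
  Lre_g IH (LK LD1_c18 LD2_c51 LD3_c34) (LK LD1_c28 LD2_c19 LD3_c50) Lrfl Lrfl
theorem f584172 : Led Lsl_df (LP (LK LD1_c18 LD2_c51 LD3_c42)) = (LP (LK LD1_c28 LD2_c19 LD3_c50)) :=
  Lgr Lrot84 (Lpr_cf (K37.f544741 IH) (Lpr_df (K44.f584170 IH) (Lpe (K37.f229936 IH) (Lpe (K44.f249094 IH) (Lpr_gf (K44.f544834 IH) (Lpe (f254600 IH) (Lpr_gt (K37.f183699 IH) (Lpr_dt (f254589 IH) (Lpr_gt (f254590 IH) (Lpn (LP (LK LD1_c28 LD2_c19 LD3_c50))))))))))))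
theorem f927629 : Led Lsl_at (LP (LK LD1_c18 LD2_c53 LD3_c61)) = (LP (LK LD1_c28 LD2_c19 LD3_c50)) :=
  Lgr Lrot51 (Lpe (K44.f584197 IH) (Lpr_af (f927627 IH) (Lpr_df (f584172 IH) (Lpn (LP (LK LD1_c28 LD2_c19 LD3_c50))))))
theorem f927639 : Led Lsl_ff (LP (LK LD1_c18 LD2_c53 LD3_c61)) = (LP (LK LD1_c28 LD2_c19 LD3_c51)) :=
  Lgr Lrot52 (Lpr_at (f927629 IH) (Lpe (f254590 IH) (Lpe (K44.f248223 IH) (Lpn (LP (LK LD1_c28 LD2_c19 LD3_c51))))))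
theorem f927647 : Led Lsl_ft (LP (LK LD1_c18 LD2_c53 LD3_c61)) = (LP (LK LD1_c28 LD2_c19 LD3_c51)) :=
  Lgr Lrot48 (Lpr_ff (f927639 IH) (Lpn (LP (LK LD1_c28 LD2_c19 LD3_c51))))
theorem f188241 : Led Lsl_gt (LP (LK LD1_c10 LD2_c25 LD3_c1)) = (LP (LK LD1_c18 LD2_c53 LD3_c60)) :=
  Lre_g IH (LK LD1_c10 LD2_c25 LD3_c1) (LK LD1_c18 LD2_c53 LD3_c60) Lrfl Lrfl
theorem f927653 : Led Lsl_af (LP (LK LD1_c18 LD2_c53 LD3_c60)) = (LP (LK LD1_c28 LD2_c19 LD3_c51)) :=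
  Lgr Lrot31 (Lpe (f188241 IH) (Lpe (K44.f188274 IH) (Lpr_ft (f927647 IH) (Lpn (LP (LK LD1_c28 LD2_c19 LD3_c51))))))
theorem f927637 : Led Lsl_af (LP (LK LD1_c18 LD2_c53 LD3_c61)) = (LP (LK LD1_c28 LD2_c19 LD3_c50)) :=
  Lgr Lrot0 (Lpr_at (f927629 IH) (Lpn (LP (LK LD1_c28 LD2_c19 LD3_c50))))
theorem f927657 : Led Lsl_ft (LP (LK LD1_c18 LD2_c53 LD3_c60)) = (LP (LK LD1_c28 LD2_c19 LD3_c50)) :=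
  Lgr Lrot101 (Lpr_af (f927653 IH) (Lpe (f927647 IH) (Lpr_af (f927637 IH) (Lpn (LP (LK LD1_c28 LD2_c19 LD3_c50))))))
theorem f188273 : Led Lsl_bt (LP (LK LD1_c28 LD2_c21 LD3_c45)) = (LP (LK LD1_c18 LD2_c53 LD3_c60)) :=
  Lre_b IH (LK LD1_c28 LD2_c21 LD3_c45) (LK LD1_c18 LD2_c53 LD3_c60) Lrfl Lrfl
theorem f343553 : Led Lsl_gt (LP (LK LD1_c17 LD2_c46 LD3_c13)) = (LP (LK LD1_c17 LD2_c47 LD3_c31)) :=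
  Lgr Lrot82 (Lpe (K44.f229959 IH) (Lpr_ct (K44.f343543 IH) (Lpr_gf (K44.f249748 IH) (Lpe (K14.f248971 IH) (Lpe (K14.f248661 IH) (Lpr_gf (K44.f343475 IH) (Lpe (K44.f230030 IH) (Lpr_ct (K44.f230032 IH) (Lpr_gf (K44.f294506 IH) (Lpe (K37.f294361 IH) (Lpn (LP (LK LD1_c17 LD2_c47 LD3_c31)))))))))))))
theorem f43711 : Led Lsl_bt (LP (LK LD1_c17 LD2_c46 LD3_c32)) = (LP (LK LD1_c9 LD2_c39 LD3_c52)) :=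
  Lre_b IH (LK LD1_c17 LD2_c46 LD3_c32) (LK LD1_c9 LD2_c39 LD3_c52) Lrfl Lrfl
theorem f43712 : Led Lsl_ct (LP (LK LD1_c17 LD2_c46 LD3_c32)) = (LP (LK LD1_c27 LD2_c33 LD3_c13)) :=
  Lre_c IH (LK LD1_c17 LD2_c46 LD3_c32) (LK LD1_c27 LD2_c33 LD3_c13) Lrfl Lrfl
theorem f585532 : Led Lsl_gt (LP (LK LD1_c27 LD2_c33 LD3_c13)) = (LP (LK LD1_c27 LD2_c32 LD3_c21)) :=
  Lgr Lrot65 (Lpe (f43712 IH) (Lpr_bt (f43711 IH) (Lpe (K44.f43708 IH) (Lpe (K44.f43684 IH) (Lpe (K44.f252465 IH) (Lpr_gf (K53.f418902 IH) (Lpr_cf (K44.f584330 IH) (Lpe (f406796 IH) (Lpe (f544840 IH) (Lpr_ct (K38.f249540 IH) (Lpn (LP (LK LD1_c27 LD2_c32 LD3_c21)))))))))))))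
theorem f585562 : Led Lsl_gf (LP (LK LD1_c17 LD2_c46 LD3_c32)) = (LP (LK LD1_c27 LD2_c32 LD3_c46)) :=
  Lgr Lrot179 (Lpr_ct (f43712 IH) (Lpr_gt (f585532 IH) (Lpr_ct (K44.f249095 IH) (Lpe (K44.f584191 IH) (Lpr_cf (f230035 IH) (Lpr_gf (K44.f294506 IH) (Lpe (K37.f294361 IH) (Lpe (f343553 IH) (Lpr_dt (K44.f585557 IH) (Lpn (LP (LK LD1_c27 LD2_c32 LD3_c46))))))))))))
theorem f409535 : Led Lsl_gf (LP (LK LD1_c18 LD2_c53 LD3_c58)) = (LP (LK LD1_c28 LD2_c19 LD3_c50)) :=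
  Lgr Lrot76 (Lpe (K44.f409530 IH) (Lpr_ff (K44.f409528 IH) (Lpr_gt (f254590 IH) (Lpn (LP (LK LD1_c28 LD2_c19 LD3_c50))))))
theorem f604479 : Led Lsl_df (LP (LK LD1_c28 LD2_c19 LD3_c50)) = (LP (LK LD1_c18 LD2_c51 LD3_c42)) :=
  Lgr Lrot153 (Lpe (f409535 IH) (Lpr_dt (K44.f409538 IH) (Lpe (K44.f409525 IH) (Lpe (K44.f544594 IH) (Lpr_gf (f585562 IH) (Lpe (K44.f585557 IH) (Lpe (K44.f229958 IH) (Lpr_cf (K37.f230016 IH) (Lpr_gt (K37.f230024 IH) (Lpn (LP (LK LD1_c18 LD2_c51 LD3_c42))))))))))))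
theorem f321988 : Led Lsl_dt (LP (LK LD1_c32 LD2_c10 LD3_c28)) = (LP (LK LD1_c26 LD2_c32 LD3_c30)) :=
  Lre_d IH (LK LD1_c32 LD2_c10 LD3_c28) (LK LD1_c26 LD2_c32 LD3_c30) Lrfl Lrfl
theorem f604481 : Led Lsl_bt (LP (LK LD1_c28 LD2_c19 LD3_c50)) = (LP (LK LD1_c32 LD2_c10 LD3_c28)) :=
  Lgr Lrot95 (Lpr_df (f604479 IH) (Lpe (K37.f321983 IH) (Lpe (f321988 IH) (Lpn (LP (LK LD1_c32 LD2_c10 LD3_c28))))))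
theorem f927659 : Led Lsl_ff (LP (LK LD1_c28 LD2_c21 LD3_c45)) = (LP (LK LD1_c32 LD2_c10 LD3_c28)) :=
  Lgr Lrot25 (Lpr_bt (f188273 IH) (Lpr_ft (f927657 IH) (Lpr_bt (f604481 IH) (Lpn (LP (LK LD1_c32 LD2_c10 LD3_c28))))))
theorem f585746 : Led Lsl_at (LP (LK LD1_c18 LD2_c45 LD3_c5)) = (LP (LK LD1_c10 LD2_c19 LD3_c43)) :=
  Lre_a IH (LK LD1_c18 LD2_c45 LD3_c5) (LK LD1_c10 LD2_c19 LD3_c43) Lrfl Lrfl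
theorem f32489 : Led Lsl_ct (LP (LK LD1_c10 LD2_c19 LD3_c43)) = (LP (LK LD1_c18 LD2_c45 LD3_c7)) :=
  Lre_c IH (LK LD1_c10 LD2_c19 LD3_c43) (LK LD1_c18 LD2_c45 LD3_c7) Lrfl Lrfl
theorem f585747 : Led Lsl_af (LP (LK LD1_c25 LD2_c23 LD3_c58)) = (LP (LK LD1_c18 LD2_c45 LD3_c7)) :=
  Lgr Lrot68 (Lpr_ct (K44.f585744 IH) (Lpr_at (f585746 IH) (Lpr_ct (f32489 IH) (Lpn (LP (LK LD1_c18 LD2_c45 LD3_c7))))))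
theorem f583728 : Led Lsl_at (LP (LK LD1_c15 LD2_c31 LD3_c0)) = (LP (LK LD1_c18 LD2_c54 LD3_c18)) :=
  Lgr Lrot51 (Lpe (K44.f188470 IH) (Lpe (K44.f583670 IH) (Lpr_df (K44.f583726 IH) (Lpn (LP (LK LD1_c18 LD2_c54 LD3_c18))))))
theorem f215735 : Led Lsl_bt (LP (LK LD1_c18 LD2_c54 LD3_c18)) = (LP (LK LD1_c28 LD2_c22 LD3_c4)) :=
  Lre_b IH (LK LD1_c18 LD2_c54 LD3_c18) (LK LD1_c28 LD2_c22 LD3_c4) Lrfl Lrfl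
theorem f165931 : Led Lsl_bt (LP (LK LD1_c28 LD2_c14 LD3_c60)) = (LP (LK LD1_c18 LD2_c45 LD3_c7)) :=
  Lre_b IH (LK LD1_c28 LD2_c14 LD3_c60) (LK LD1_c18 LD2_c45 LD3_c7) Lrfl Lrfl
theorem f604405 : Led Lsl_at (LP (LK LD1_c28 LD2_c22 LD3_c4)) = (LP (LK LD1_c28 LD2_c14 LD3_c60)) :=
  Lgr Lrot67 (Lpe (f215735 IH) (Lpe (f583728 IH) (Lpe (K44.f188471 IH) (Lpr_af (f585747 IH) (Lpe (f165931 IH) (Lpn (LP (LK LD1_c28 LD2_c14 LD3_c60))))))))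
theorem f604407 : Led Lsl_af (LP (LK LD1_c28 LD2_c22 LD3_c4)) = (LP (LK LD1_c28 LD2_c14 LD3_c60)) :=
  Lgr Lrot0 (Lpr_at (f604405 IH) (Lpn (LP (LK LD1_c28 LD2_c14 LD3_c60))))
theorem f585785 : Led Lsl_bt (LP (LK LD1_c18 LD2_c56 LD3_c28)) = (LP (LK LD1_c28 LD2_c24 LD3_c34)) :=
  Lre_b IH (LK LD1_c18 LD2_c56 LD3_c28) (LK LD1_c28 LD2_c24 LD3_c34) Lrfl Lrfl
theorem f585786 : Led Lsl_bt (LP (LK LD1_c18 LD2_c45 LD3_c9)) = (LP (LK LD1_c28 LD2_c14 LD3_c59)) :=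
  Lre_b IH (LK LD1_c18 LD2_c45 LD3_c9) (LK LD1_c28 LD2_c14 LD3_c59) Lrfl Lrfl
theorem f585795 : Led Lsl_bf (LP (LK LD1_c28 LD2_c14 LD3_c61)) = (LP (LK LD1_c28 LD2_c22 LD3_c30)) :=
  Lgr Lrot90 (Lpr_ct (K44.f585779 IH) (Lpr_bt (f585786 IH) (Lpe (K44.f585783 IH) (Lpr_bt (f585785 IH) (Lpr_ct (K44.f585793 IH) (Lpn (LP (LK LD1_c28 LD2_c22 LD3_c30))))))))
theorem f585963 : Led Lsl_ft (LP (LK LD1_c28 LD2_c14 LD3_c61)) = (LP (LK LD1_c18 LD2_c45 LD3_c7)) :=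
  Lre_f IH (LK LD1_c28 LD2_c14 LD3_c61) (LK LD1_c18 LD2_c45 LD3_c7) Lrfl Lrfl
theorem f604384 : Led Lsl_ft (LP (LK LD1_c28 LD2_c14 LD3_c60)) = (LP (LK LD1_c28 LD2_c22 LD3_c30)) :=
  Lgr Lrot75 (Lpe (K37.f32499 IH) (Lpe (f585963 IH) (Lpr_bf (f585795 IH) (Lpn (LP (LK LD1_c28 LD2_c22 LD3_c30))))))
theorem f604386 : Led Lsl_ff (LP (LK LD1_c28 LD2_c14 LD3_c60)) = (LP (LK LD1_c28 LD2_c22 LD3_c30)) :=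
  Lgr Lrot3 (Lpr_ft (f604384 IH) (Lpn (LP (LK LD1_c28 LD2_c22 LD3_c30))))
theorem f604419 : Led Lsl_gf (LP (LK LD1_c28 LD2_c22 LD3_c4)) = (LP (LK LD1_c18 LD2_c54 LD3_c39)) :=
  Lgr Lrot76 (Lpr_af (f604407 IH) (Lpr_ff (f604386 IH) (Lpr_gt (K44.f215117 IH) (Lpn (LP (LK LD1_c18 LD2_c54 LD3_c39))))))
theorem f583646 : Led Lsl_dt (LP (LK LD1_c25 LD2_c24 LD3_c0)) = (LP (LK LD1_c28 LD2_c32 LD3_c51)) :=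
  Lgr Lrot42 (Lpr_df (K44.f583644 IH) (Lpn (LP (LK LD1_c28 LD2_c32 LD3_c51))))
theorem f584176 : Led Lsl_gt (LP (LK LD1_c26 LD2_c32 LD3_c30)) = (LP (LK LD1_c25 LD2_c24 LD3_c0)) :=
  Lgr Lrot190 (Lpr_bf (K37.f321985 IH) (Lpr_cf (K37.f544741 IH) (Lpr_df (K44.f584170 IH) (Lpe (K37.f229936 IH) (Lpe (K14.f43799 IH) (Lpe (K12.f43798 IH) (Lpr_df (K12.f229921 IH) (Lpe (K12.f229932 IH) (Lpe (K14.f169335 IH) (Lpe (K16.f254258 IH) (Lpr_df (K20.f291671 IH) (Lpe (K18.f291676 IH) (Lpe (K18.f215903 IH) (Lpe (K18.f44633 IH) (Lpe (K12.f198868 IH) (Lpe (K12.f198869 IH) (Lpe (K12.f215619 IH) (Lpe (K44.f215620 IH) (Lpe (f583646 IH) (Lpn (LP (LK LD1_c25 LD2_c24 LD3_c0))))))))))))))))))))))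
theorem f604388 : Led Lsl_af (LP (LK LD1_c25 LD2_c24 LD3_c0)) = (LP (LK LD1_c28 LD2_c22 LD3_c30)) :=
  Lgr Lrot31 (Lpe (f584176 IH) (Lpr_gf (K37.f321981 IH) (Lpr_ft (f604384 IH) (Lpn (LP (LK LD1_c28 LD2_c22 LD3_c30))))))
theorem f604409 : Led Lsl_ff (LP (LK LD1_c28 LD2_c22 LD3_c4)) = (LP (LK LD1_c25 LD2_c24 LD3_c0)) :=
  Lgr Lrot30 (Lpr_at (f604405 IH) (Lpr_ft (f604384 IH) (Lpe (f604388 IH) (Lpn (LP (LK LD1_c25 LD2_c24 LD3_c0))))))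
theorem f215634 : Led Lsl_ct (LP (LK LD1_c24 LD2_c48 LD3_c29)) = (LP (LK LD1_c31 LD2_c39 LD3_c32)) :=
  Lre_c IH (LK LD1_c24 LD2_c48 LD3_c29) (LK LD1_c31 LD2_c39 LD3_c32) Lrfl Lrfl
theorem f215635 : Led Lsl_ft (LP (LK LD1_c31 LD2_c39 LD3_c32)) = (LP (LK LD1_c28 LD2_c32 LD3_c51)) :=
  Lgr Lrot4 (Lpe (f215634 IH) (Lpr_ff (K44.f215627 IH) (Lpe (K44.f215620 IH) (Lpn (LP (LK LD1_c28 LD2_c32 LD3_c51))))))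
theorem f604411 : Led Lsl_dt (LP (LK LD1_c28 LD2_c22 LD3_c4)) = (LP (LK LD1_c31 LD2_c39 LD3_c32)) :=
  Lgr Lrot60 (Lpr_ff (f604409 IH) (Lpr_df (K44.f583644 IH) (Lpe (f215635 IH) (Lpn (LP (LK LD1_c31 LD2_c39 LD3_c32))))))
theorem f604421 : Led Lsl_dt (LP (LK LD1_c17 LD2_c47 LD3_c9)) = (LP (LK LD1_c18 LD2_c54 LD3_c40)) :=
  Lgr Lrot182 (Lpe (K44.f43477 IH) (Lpe (K44.f43476 IH) (Lpe (K12.f43471 IH) (Lpe (K14.f246663 IH) (Lpr_gf (K14.f246659 IH) (Lpr_bf (K14.f251293 IH) (Lpe (K14.f175057 IH) (Lpr_df (K17.f259584 IH) (Lpr_gf (K15.f261343 IH) (Lpe (K15.f230875 IH) (Lpe (K15.f192889 IH) (Lpr_df (K15.f259752 IH) (Lpe (K15.f259733 IH) (Lpe (K44.f215626 IH) (Lpe (K44.f215644 IH) (Lpe (f604411 IH) (Lpr_gf (f604419 IH) (Lpe (K44.f215112 IH) (Lpe (K44.f215113 IH) (Lpn (LP (LK LD1_c18 LD2_c54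 LD3_c40))))))))))))))))))))))
theorem f188285 : Led Lsl_dt (LP (LK LD1_c5 LD2_c17 LD3_c42)) = (LP (LK LD1_c10 LD2_c25 LD3_c1)) :=
  Lre_d IH (LK LD1_c5 LD2_c17 LD3_c42) (LK LD1_c10 LD2_c25 LD3_c1) Lrfl Lrfl
theorem f604427 : Led Lsl_dt (LP (LK LD1_c18 LD2_c53 LD3_c60)) = (LP (LK LD1_c10 LD2_c25 LD3_c31)) :=
  Lgr Lrot105 (Lpe (f188241 IH) (Lpe (f188285 IH) (Lpe (K44.f188286 IH) (Lpe (K44.f249481 IH) (Lpr_gt (f584863 IH) (Lpr_dt (K44.f307549 IH) (Lpr_gt (K44.f43477 IH) (Lpr_dt (f604421 IH) (Lpe (K44.f215119 IH) (Lpn (LP (LK LD1_c10 LD2_c25 LD3_c31))))))))))))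
theorem f604442 : Led Lsl_df (LP (LK LD1_c18 LD2_c53 LD3_c60)) = (LP (LK LD1_c10 LD2_c25 LD3_c31)) :=
  Lgr Lrot38 (Lpr_dt (f604427 IH) (Lpn (LP (LK LD1_c10 LD2_c25 LD3_c31))))
theorem f604445 : Led Lsl_bt (LP (LK LD1_c18 LD2_c53 LD3_c60)) = (LP (LK LD1_c28 LD2_c21 LD3_c45)) :=
  Lre_b IH (LK LD1_c18 LD2_c53 LD3_c60) (LK LD1_c28 LD2_c21 LD3_c45) Lrfl Lrfl
theorem f604446 : Led Lsl_dt (LP (LK LD1_c28 LD2_c21 LD3_c45)) = (LP (LK LD1_c18 LD2_c54 LD3_c39)) :=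
  Lgr Lrot79 (Lpe (f604445 IH) (Lpr_df (f604442 IH) (Lpe (K37.f215109 IH) (Lpn (LP (LK LD1_c18 LD2_c54 LD3_c39))))))
theorem f321990 : Led Lsl_dt (LP (LK LD1_c26 LD2_c32 LD3_c30)) = (LP (LK LD1_c32 LD2_c10 LD3_c28)) :=
  Lre_d IH (LK LD1_c26 LD2_c32 LD3_c30) (LK LD1_c32 LD2_c10 LD3_c28) Lrfl Lrfl
theorem f927661 : Led Lsl_ft (LP (LK LD1_c18 LD2_c54 LD3_c39)) = (LP (LK LD1_c26 LD2_c32 LD3_c30)) :=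
  Lgr Lrot54 (Lpe (f604446 IH) (Lpr_ff (f927659 IH) (Lpe (f321990 IH) (Lpn (LP (LK LD1_c26 LD2_c32 LD3_c30))))))
theorem f604413 : Led Lsl_ft (LP (LK LD1_c28 LD2_c22 LD3_c4)) = (LP (LK LD1_c25 LD2_c24 LD3_c0)) :=
  Lgr Lrot48 (Lpr_ff (f604409 IH) (Lpn (LP (LK LD1_c25 LD2_c24 LD3_c0))))
theorem f165923 : Led Lsl_at (LP (LK LD1_c28 LD2_c14 LD3_c61)) = (LP (LK LD1_c18 LD2_c45 LD3_c11)) :=
  Lre_a IH (LK LD1_c28 LD2_c14 LD3_c61) (LK LD1_c18 LD2_c45 LD3_c11) Lrfl Lrfl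
theorem f583720 : Led Lsl_at (LP (LK LD1_c18 LD2_c54 LD3_c17)) = (LP (LK LD1_c15 LD2_c31 LD3_c1)) :=
  Lgr Lrot100 (Lpr_af (K44.f583718 IH) (Lpn (LP (LK LD1_c15 LD2_c31 LD3_c1))))
theorem f214357 : Led Lsl_bt (LP (LK LD1_c15 LD2_c31 LD3_c1)) = (LP (LK LD1_c25 LD2_c24 LD3_c0)) :=
  Lre_b IH (LK LD1_c15 LD2_c31 LD3_c1) (LK LD1_c25 LD2_c24 LD3_c0) Lrfl Lrfl
theorem f604382 : Led Lsl_at (LP (LK LD1_c25 LD2_c24 LD3_c0)) = (LP (LK LD1_c28 LD2_c22 LD3_c30)) :=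
  Lgr Lrot67 (Lpe (f214357 IH) (Lpe (f583720 IH) (Lpr_bf (K44.f214603 IH) (Lpe (f165923 IH) (Lpr_bf (f585795 IH) (Lpn (LP (LK LD1_c28 LD2_c22 LD3_c30))))))))
theorem f604415 : Led Lsl_gt (LP (LK LD1_c28 LD2_c22 LD3_c4)) = (LP (LK LD1_c18 LD2_c56 LD3_c51)) :=
  Lgr Lrot5 (Lpr_ft (f604413 IH) (Lpr_at (f604382 IH) (Lpe (K44.f585797 IH) (Lpn (LP (LK LD1_c18 LD2_c56 LD3_c51))))))
theorem f927667 : Led Lsl_af (LP (LK LD1_c18 LD2_c56 LD3_c51)) = (LP (LK LD1_c26 LD2_c32 LD3_c30)) :=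
  Lgr Lrot31 (Lpe (f604415 IH) (Lpr_gf (f604419 IH) (Lpr_ft (f927661 IH) (Lpn (LP (LK LD1_c26 LD2_c32 LD3_c30))))))
theorem f215128 : Led Lsl_dt (LP (LK LD1_c18 LD2_c56 LD3_c51)) = (LP (LK LD1_c28 LD2_c24 LD3_c48)) :=
  Lre_d IH (LK LD1_c18 LD2_c56 LD3_c51) (LK LD1_c28 LD2_c24 LD3_c48) Lrfl Lrfl
theorem f927675 : Led Lsl_at (LP (LK LD1_c28 LD2_c24 LD3_c48)) = (LP (LK LD1_c32 LD2_c10 LD3_c28)) :=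
  Lgr Lrot51 (Lpe (f215128 IH) (Lpr_af (f927667 IH) (Lpe (f321988 IH) (Lpn (LP (LK LD1_c32 LD2_c10 LD3_c28))))))
theorem f412866 : Led Lsl_bt (LP (LK LD1_c18 LD2_c56 LD3_c52)) = (LP (LK LD1_c28 LD2_c24 LD3_c48)) :=
  Lre_b IH (LK LD1_c18 LD2_c56 LD3_c52) (LK LD1_c28 LD2_c24 LD3_c48) Lrfl Lrfl
theorem f604483 : Led Lsl_bf (LP (LK LD1_c28 LD2_c19 LD3_c50)) = (LP (LK LD1_c32 LD2_c10 LD3_c28)) :=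
  Lgr Lrot24 (Lpr_bt (f604481 IH) (Lpn (LP (LK LD1_c32 LD2_c10 LD3_c28))))
theorem f257830 : Led Lsl_bt (LP (LK LD1_c18 LD2_c53 LD3_c61)) = (LP (LK LD1_c28 LD2_c21 LD3_c47)) :=
  Lre_b IH (LK LD1_c18 LD2_c53 LD3_c61) (LK LD1_c28 LD2_c21 LD3_c47) Lrfl Lrfl
theorem f927679 : Led Lsl_af (LP (LK LD1_c18 LD2_c56 LD3_c52)) = (LP (LK LD1_c28 LD2_c21 LD3_c47)) :=
  Lgr Lrot36 (Lpr_bt (f412866 IH) (Lpr_at (f927675 IH) (Lpe (f604483 IH) (Lpe (f927637 IH) (Lpr_bt (f257830 IH) (Lpn (LP (LK LD1_c28 LD2_c21 LD3_c47))))))))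
theorem f927681 : Led Lsl_at (LP (LK LD1_c18 LD2_c56 LD3_c52)) = (LP (LK LD1_c28 LD2_c21 LD3_c47)) :=
  Lgr Lrot100 (Lpr_af (f927679 IH) (Lpn (LP (LK LD1_c28 LD2_c21 LD3_c47))))
theorem f188387 : Led Lsl_bt (LP (LK LD1_c18 LD2_c54 LD3_c41)) = (LP (LK LD1_c10 LD2_c25 LD3_c32)) :=
  Lre_b IH (LK LD1_c18 LD2_c54 LD3_c41) (LK LD1_c10 LD2_c25 LD3_c32) Lrfl Lrfl
theorem f584202 : Led Lsl_df (LP (LK LD1_c18 LD2_c54 LD3_c41)) = (LP (LK LD1_c28 LD2_c21 LD3_c47)) :=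
  Lgr Lrot12 (Lpr_bt (f188387 IH) (Lpr_dt (K44.f584197 IH) (Lpr_bt (f257830 IH) (Lpn (LP (LK LD1_c28 LD2_c21 LD3_c47))))))
theorem f927702 : Led Lsl_af (LP (LK LD1_c10 LD2_c26 LD3_c59)) = (LP (LK LD1_c18 LD2_c54 LD3_c41)) :=
  Lgr Lrot117 (Lpr_dt (K45.f71664 IH) (Lpr_at (f927681 IH) (Lpe (f584202 IH) (Lpn (LP (LK LD1_c18 LD2_c54 LD3_c41))))))
theorem f927706 : Led Lsl_ft (LP (LK LD1_c10 LD2_c26 LD3_c60)) = (LP (LK LD1_c18 LD2_c54 LD3_c41)) :=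
  Lgr Lrot2 (Lpr_gt (K44.f412809 IH) (Lpr_gt (K19.f71663 IH) (Lpr_af (f927702 IH) (Lpn (LP (LK LD1_c18 LD2_c54 LD3_c41))))))
theorem f927710 : Led Lsl_ff (LP (LK LD1_c10 LD2_c26 LD3_c60)) = (LP (LK LD1_c18 LD2_c54 LD3_c41)) :=
  Lgr Lrot3 (Lpr_ft (f927706 IH) (Lpn (LP (LK LD1_c18 LD2_c54 LD3_c41))))
theorem f927712 : Led Lsl_at (LP (LK LD1_c10 LD2_c26 LD3_c60)) = (LP (LK LD1_c18 LD2_c15 LD3_c25)) :=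
  Lgr Lrot26 (Lpr_ff (f927710 IH) (Lpr_gt (K53.f586261 IH) (Lpr_gt (K71.f586282 IH) (Lpn (LP (LK LD1_c18 LD2_c15 LD3_c25))))))
theorem f927454 : Led Lsl_at (LP (LK LD1_c10 LD2_c25 LD3_c32)) = (LP (LK LD1_c18 LD2_c51 LD3_c42)) :=
  Lgr Lrot107 (Lpe (K44.f417619 IH) (Lpr_af (f927446 IH) (Lpe (K37.f544739 IH) (Lpn (LP (LK LD1_c18 LD2_c51 LD3_c42))))))
theorem f927671 : Led Lsl_at (LP (LK LD1_c10 LD2_c26 LD3_c59)) = (LP (LK LD1_c18 LD2_c54 LD3_c41)) :=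
  Lgr Lrot67 (Lpe (K19.f186646 IH) (Lpr_af (f927667 IH) (Lpr_bf (K37.f321985 IH) (Lpe (f927454 IH) (Lpe (f188387 IH) (Lpn (LP (LK LD1_c18 LD2_c54 LD3_c41))))))))
theorem f927718 : Led Lsl_ff (LP (LK LD1_c10 LD2_c26 LD3_c59)) = (LP (LK LD1_c18 LD2_c15 LD3_c25)) :=
  Lgr Lrot30 (Lpr_at (f927671 IH) (Lpe (f927710 IH) (Lpr_at (f927712 IH) (Lpn (LP (LK LD1_c18 LD2_c15 LD3_c25))))))
theorem f927722 : Led Lsl_ft (LP (LK LD1_c10 LD2_c26 LD3_c59)) = (LP (LK LD1_c18 LD2_c15 LD3_c25)) :=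
  Lgr Lrot48 (Lpr_ff (f927718 IH) (Lpn (LP (LK LD1_c18 LD2_c15 LD3_c25))))
theorem f586288 : Led Lsl_dt (LP (LK LD1_c18 LD2_c15 LD3_c25)) = (LP (LK LD1_c27 LD2_c55 LD3_c37)) :=
  Lre_d IH (LK LD1_c18 LD2_c15 LD3_c25) (LK LD1_c27 LD2_c55 LD3_c37) Lrfl Lrfl
theorem f927724 : Led Lsl_ff (LP (LK LD1_c18 LD2_c56 LD3_c52)) = (LP (LK LD1_c27 LD2_c55 LD3_c37)) :=
  Lgr Lrot19 (Lpr_dt (K45.f71686 IH) (Lpr_ft (f927722 IH) (Lpr_dt (f586288 IH) (Lpn (LP (LK LD1_c27 LD2_c55 LD3_c37))))))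
theorem f32726 : Led Lsl_dt (LP (LK LD1_c2 LD2_c36 LD3_c0)) = (LP (LK LD1_c5 LD2_c18 LD3_c49)) :=
  Lre_d IH (LK LD1_c2 LD2_c36 LD3_c0) (LK LD1_c5 LD2_c18 LD3_c49) Lrfl Lrfl
theorem f412773 : Led Lsl_dt (LP (LK LD1_c27 LD2_c59 LD3_c11)) = (LP (LK LD1_c18 LD2_c20 LD3_c27)) :=
  Lre_d IH (LK LD1_c27 LD2_c59 LD3_c11) (LK LD1_c18 LD2_c20 LD3_c27) Lrfl Lrfl
theorem f604246 : Led Lsl_gf (LP (LK LD1_c27 LD2_c59 LD3_c11)) = (LP (LK LD1_c27 LD2_c55 LD3_c37)) :=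
  Lgr Lrot143 (Lpr_dt (f412773 IH) (Lpe (K45.f285242 IH) (Lpe (K45.f583619 IH) (Lpr_gf (K45.f442779 IH) (Lpe (f32726 IH) (Lpr_gf (K53.f604216 IH) (Lpe (K53.f586264 IH) (Lpr_gt (K71.f586282 IH) (Lpr_dt (f586288 IH) (Lpn (LP (LK LD1_c27 LD2_c55 LD3_c37))))))))))))
theorem f927731 : Led Lsl_gf (LP (LK LD1_c28 LD2_c21 LD3_c47)) = (LP (LK LD1_c27 LD2_c59 LD3_c11)) :=
  Lgr Lrot76 (Lpe (f927681 IH) (Lpr_ff (f927724 IH) (Lpe (f604246 IH) (Lpn (LP (LK LD1_c27 LD2_c59 LD3_c11))))))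
theorem f188275 : Led Lsl_bt (LP (LK LD1_c28 LD2_c21 LD3_c47)) = (LP (LK LD1_c18 LD2_c53 LD3_c61)) :=
  Lre_b IH (LK LD1_c28 LD2_c21 LD3_c47) (LK LD1_c18 LD2_c53 LD3_c61) Lrfl Lrfl
theorem f257825 : Led Lsl_ct (LP (LK LD1_c10 LD2_c26 LD3_c0)) = (LP (LK LD1_c18 LD2_c55 LD3_c28)) :=
  Lre_c IH (LK LD1_c10 LD2_c26 LD3_c0) (LK LD1_c18 LD2_c55 LD3_c28) Lrfl Lrfl
theorem f257826 : Led Lsl_gt (LP (LK LD1_c18 LD2_c55 LD3_c28)) = (LP (LK LD1_c28 LD2_c23 LD3_c33)) :=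
  Lre_g IH (LK LD1_c18 LD2_c55 LD3_c28) (LK LD1_c28 LD2_c23 LD3_c33) Lrfl Lrfl
theorem f257827 : Led Lsl_ct (LP (LK LD1_c28 LD2_c21 LD3_c47)) = (LP (LK LD1_c28 LD2_c23 LD3_c33)) :=
  Lgr Lrot63 (Lpr_bt (f188275 IH) (Lpr_gt (K44.f188274 IH) (Lpe (K44.f188229 IH) (Lpr_ct (K15.f188235 IH) (Lpr_gt (K15.f257810 IH) (Lpe (K10.f187650 IH) (Lpr_bt (K44.f187763 IH) (Lpr_gt (K44.f48517 IH) (Lpr_ct (f257825 IH) (Lpr_gt (f257826 IH) (Lpn (LP (LK LD1_c28 LD2_c23 LD3_c33)))))))))))))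
theorem f186635 : Led Lsl_ct (LP (LK LD1_c18 LD2_c56 LD3_c52)) = (LP (LK LD1_c28 LD2_c24 LD3_c49)) :=
  Lre_c IH (LK LD1_c18 LD2_c56 LD3_c52) (LK LD1_c28 LD2_c24 LD3_c49) Lrfl Lrfl
theorem f257831 : Led Lsl_cf (LP (LK LD1_c28 LD2_c21 LD3_c47)) = (LP (LK LD1_c28 LD2_c23 LD3_c33)) :=
  Lgr Lrot11 (Lpr_ct (f257827 IH) (Lpn (LP (LK LD1_c28 LD2_c23 LD3_c33))))
theorem f927683 : Led Lsl_at (LP (LK LD1_c28 LD2_c24 LD3_c49)) = (LP (LK LD1_c28 LD2_c23 LD3_c33)) :=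
  Lgr Lrot107 (Lpe (f186635 IH) (Lpr_af (f927679 IH) (Lpr_cf (f257831 IH) (Lpn (LP (LK LD1_c28 LD2_c23 LD3_c33))))))
theorem f412846 : Led Lsl_gt (LP (LK LD1_c28 LD2_c23 LD3_c34)) = (LP (LK LD1_c18 LD2_c55 LD3_c28)) :=
  Lre_g IH (LK LD1_c28 LD2_c23 LD3_c34) (LK LD1_c18 LD2_c55 LD3_c28) Lrfl Lrfl
theorem f927688 : Led Lsl_ff (LP (LK LD1_c28 LD2_c24 LD3_c49)) = (LP (LK LD1_c28 LD2_c23 LD3_c34)) :=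
  Lgr Lrot52 (Lpr_at (f927683 IH) (Lpe (f257826 IH) (Lpe (f412846 IH) (Lpn (LP (LK LD1_c28 LD2_c23 LD3_c34))))))
theorem f927690 : Led Lsl_ft (LP (LK LD1_c28 LD2_c24 LD3_c49)) = (LP (LK LD1_c28 LD2_c23 LD3_c34)) :=
  Lgr Lrot48 (Lpr_ff (f927688 IH) (Lpn (LP (LK LD1_c28 LD2_c23 LD3_c34))))
theorem f927728 : Led Lsl_ct (LP (LK LD1_c28 LD2_c23 LD3_c34)) = (LP (LK LD1_c27 LD2_c55 LD3_c37)) :=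
  Lgr Lrot40 (Lpe (f927690 IH) (Lpe (f186635 IH) (Lpr_ff (f927724 IH) (Lpn (LP (LK LD1_c27 LD2_c55 LD3_c37))))))
theorem f405452 : Led Lsl_cf (LP (LK LD1_c10 LD2_c13 LD3_c36)) = (LP (LK LD1_c5 LD2_c18 LD3_c8)) :=
  Lgr Lrot108 (Lpr_ft (K71.f405426 IH) (Lpr_ct (K44.f165439 IH) (Lpr_ft (K44.f405446 IH) (Lpn (LP (LK LD1_c5 LD2_c18 LD3_c8))))))
theorem f405415 : Led Lsl_gt (LP (LK LD1_c18 LD2_c55 LD3_c12)) = (LP (LK LD1_c10 LD2_c26 LD3_c1)) :=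
  Lre_g IH (LK LD1_c18 LD2_c55 LD3_c12) (LK LD1_c10 LD2_c26 LD3_c1) Lrfl Lrfl
theorem f405836 : Led Lsl_ct (LP (LK LD1_c10 LD2_c26 LD3_c1)) = (LP (LK LD1_c18 LD2_c55 LD3_c31)) :=
  Lre_c IH (LK LD1_c10 LD2_c26 LD3_c1) (LK LD1_c18 LD2_c55 LD3_c31) Lrfl Lrfl
theorem f927735 : Led Lsl_gf (LP (LK LD1_c28 LD2_c23 LD3_c34)) = (LP (LK LD1_c18 LD2_c55 LD3_c31)) :=
  Lgr Lrot104 (Lpr_ct (f927728 IH) (Lpe (f586288 IH) (Lpe (K71.f170051 IH) (Lpe (K71.f604167 IH) (Lpr_cf (f405452 IH) (Lpe (K53.f32769 IH) (Lpe (K44.f32783 IH) (Lpr_gt (f405415 IH) (Lpr_ct (f405836 IH) (Lpn (LP (LK LD1_c18 LD2_c55 LD3_c31))))))))))))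
theorem f32679 : Led Lsl_dt (LP (LK LD1_c10 LD2_c25 LD3_c61)) = (LP (LK LD1_c5 LD2_c18 LD3_c9)) :=
  Lre_d IH (LK LD1_c10 LD2_c25 LD3_c61) (LK LD1_c5 LD2_c18 LD3_c9) Lrfl Lrfl
theorem f32680 : Led Lsl_gt (LP (LK LD1_c18 LD2_c55 LD3_c24)) = (LP (LK LD1_c10 LD2_c25 LD3_c61)) :=
  Lre_g IH (LK LD1_c18 LD2_c55 LD3_c24) (LK LD1_c10 LD2_c25 LD3_c61) Lrfl Lrfl
theorem f603663 : Led Lsl_dt (LP (LK LD1_c18 LD2_c20 LD3_c14)) = (LP (LK LD1_c18 LD2_c55 LD3_c24)) :=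
  Lgr Lrot57 (Lpe (K71.f169544 IH) (Lpe (K45.f180611 IH) (Lpr_gt (K71.f169459 IH) (Lpr_dt (K71.f603661 IH) (Lpr_gt (K10.f71561 IH) (Lpr_dt (K44.f32661 IH) (Lpe (K53.f32671 IH) (Lpe (f32679 IH) (Lpe (f32680 IH) (Lpn (LP (LK LD1_c18 LD2_c55 LD3_c24))))))))))))
theorem f181066 : Led Lsl_ct (LP (LK LD1_c28 LD2_c23 LD3_c27)) = (LP (LK LD1_c18 LD2_c55 LD3_c24)) :=
  Lre_c IH (LK LD1_c28 LD2_c23 LD3_c27) (LK LD1_c18 LD2_c55 LD3_c24) Lrfl Lrfl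
theorem f185428 : Led Lsl_ct (LP (LK LD1_c18 LD2_c41 LD3_c46)) = (LP (LK LD1_c10 LD2_c16 LD3_c55)) :=
  Lre_c IH (LK LD1_c18 LD2_c41 LD3_c46) (LK LD1_c10 LD2_c16 LD3_c55) Lrfl Lrfl
theorem f417514 : Led Lsl_gt (LP (LK LD1_c18 LD2_c10 LD3_c31)) = (LP (LK LD1_c18 LD2_c41 LD3_c46)) :=
  Lgr Lrot149 (Lpe (K44.f412795 IH) (Lpe (K44.f250059 IH) (Lpe (K15.f250051 IH) (Lpr_ct (K45.f250044 IH) (Lpe (K14.f212004 IH) (Lpe (K10.f165510 IH) (Lpr_bt (K71.f185261 IH) (Lpe (K45.f185420 IH) (Lpe (K45.f185427 IH) (Lpr_ct (K45.f406555 IH) (Lpn (LP (LK LD1_c18 LD2_c41 LD3_c46)))))))))))))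
theorem f71639 : Led Lsl_dt (LP (LK LD1_c28 LD2_c23 LD3_c12)) = (LP (LK LD1_c18 LD2_c57 LD3_c47)) :=
  Lre_d IH (LK LD1_c28 LD2_c23 LD3_c12) (LK LD1_c18 LD2_c57 LD3_c47) Lrfl Lrfl
theorem f71641 : Led Lsl_gt (LP (LK LD1_c28 LD2_c23 LD3_c46)) = (LP (LK LD1_c18 LD2_c55 LD3_c35)) :=
  Lre_g IH (LK LD1_c28 LD2_c23 LD3_c46) (LK LD1_c18 LD2_c55 LD3_c35) Lrfl Lrfl
theorem f71642 : Led Lsl_gf (LP (LK LD1_c28 LD2_c23 LD3_c46)) = (LP (LK LD1_c18 LD2_c57 LD3_c47)) :=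
  Lgr Lrot47 (Lpr_gt (f71641 IH) (Lpe (K44.f71603 IH) (Lpr_ff (K2.f71624 IH) (Lpn (LP (LK LD1_c18 LD2_c57 LD3_c47))))))
theorem f71681 : Led Lsl_dt (LP (LK LD1_c28 LD2_c23 LD3_c46)) = (LP (LK LD1_c18 LD2_c57 LD3_c17)) :=
  Lre_d IH (LK LD1_c28 LD2_c23 LD3_c46) (LK LD1_c18 LD2_c57 LD3_c17) Lrfl Lrfl
theorem f71684 : Led Lsl_dt (LP (LK LD1_c5 LD2_c18 LD3_c46)) = (LP (LK LD1_c10 LD2_c27 LD3_c17)) :=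
  Lre_d IH (LK LD1_c5 LD2_c18 LD3_c46) (LK LD1_c10 LD2_c27 LD3_c17) Lrfl Lrfl
theorem f412803 : Led Lsl_gt (LP (LK LD1_c27 LD2_c50 LD3_c44)) = (LP (LK LD1_c18 LD2_c56 LD3_c52)) :=
  Lgr Lrot94 (Lpr_cf (K44.f412797 IH) (Lpr_gt (K44.f71687 IH) (Lpr_dt (f71639 IH) (Lpe (f71642 IH) (Lpr_dt (f71681 IH) (Lpe (f71688 IH) (Lpe (f71684 IH) (Lpe (K19.f71685 IH) (Lpe (K45.f71686 IH) (Lpn (LP (LK LD1_c18 LD2_c56 LD3_c52))))))))))))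
theorem f923985 : Led Lsl_gf (LP (LK LD1_c28 LD2_c23 LD3_c27)) = (LP (LK LD1_c28 LD2_c24 LD3_c49)) :=
  Lgr Lrot104 (Lpr_ct (f181066 IH) (Lpe (f603663 IH) (Lpr_cf (K71.f923979 IH) (Lpe (K71.f409190 IH) (Lpe (f185428 IH) (Lpe (f417514 IH) (Lpe (K44.f412796 IH) (Lpr_gt (f412803 IH) (Lpr_ct (f186635 IH) (Lpn (LP (LK LD1_c28 LD2_c24 LD3_c49))))))))))))
theorem f71564 : Led Lsl_dt (LP (LK LD1_c5 LD2_c18 LD3_c11)) = (LP (LK LD1_c10 LD2_c26 LD3_c4)) :=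
  Lre_d IH (LK LD1_c5 LD2_c18 LD3_c11) (LK LD1_c10 LD2_c26 LD3_c4) Lrfl Lrfl
theorem f181053 : Led Lsl_gt (LP (LK LD1_c10 LD2_c26 LD3_c4)) = (LP (LK LD1_c18 LD2_c55 LD3_c24)) :=
  Lre_g IH (LK LD1_c10 LD2_c26 LD3_c4) (LK LD1_c18 LD2_c55 LD3_c24) Lrfl Lrfl
theorem f181064 : Led Lsl_ct (LP (LK LD1_c18 LD2_c55 LD3_c24)) = (LP (LK LD1_c28 LD2_c23 LD3_c27)) :=
  Lre_c IH (LK LD1_c18 LD2_c55 LD3_c24) (LK LD1_c28 LD2_c23 LD3_c27) Lrfl Lrfl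
theorem f412813 : Led Lsl_ct (LP (LK LD1_c28 LD2_c24 LD3_c51)) = (LP (LK LD1_c18 LD2_c56 LD3_c53)) :=
  Lre_c IH (LK LD1_c28 LD2_c24 LD3_c51) (LK LD1_c18 LD2_c56 LD3_c53) Lrfl Lrfl
theorem f604346 : Led Lsl_gt (LP (LK LD1_c28 LD2_c23 LD3_c27)) = (LP (LK LD1_c28 LD2_c24 LD3_c51)) :=
  Lgr Lrot150 (Lpe (f181064 IH) (Lpe (f181053 IH) (Lpe (f71564 IH) (Lpr_gt (K44.f405457 IH) (Lpe (f604339 IH) (Lpr_gt (f604344 IH) (Lpr_ct (f583291 IH) (Lpe (K44.f412810 IH) (Lpe (f412813 IH) (Lpn (LP (LK LD1_c28 LD2_c24 LD3_c51))))))))))))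
theorem f927692 : Led Lsl_af (LP (LK LD1_c28 LD2_c24 LD3_c51)) = (LP (LK LD1_c28 LD2_c23 LD3_c34)) :=
  Lgr Lrot31 (Lpe (f604346 IH) (Lpr_gf (f923985 IH) (Lpr_ft (f927690 IH) (Lpn (LP (LK LD1_c28 LD2_c23 LD3_c34))))))
theorem f927694 : Led Lsl_at (LP (LK LD1_c28 LD2_c24 LD3_c51)) = (LP (LK LD1_c28 LD2_c23 LD3_c34)) :=
  Lgr Lrot100 (Lpr_af (f927692 IH) (Lpn (LP (LK LD1_c28 LD2_c23 LD3_c34))))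
theorem f927686 : Led Lsl_af (LP (LK LD1_c28 LD2_c24 LD3_c49)) = (LP (LK LD1_c28 LD2_c23 LD3_c33)) :=
  Lgr Lrot0 (Lpr_at (f927683 IH) (Lpn (LP (LK LD1_c28 LD2_c23 LD3_c33))))
theorem f927696 : Led Lsl_ft (LP (LK LD1_c28 LD2_c24 LD3_c51)) = (LP (LK LD1_c28 LD2_c23 LD3_c33)) :=
  Lgr Lrot101 (Lpr_af (f927692 IH) (Lpe (f927690 IH) (Lpr_af (f927686 IH) (Lpn (LP (LK LD1_c28 LD2_c23 LD3_c33))))))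
theorem f927698 : Led Lsl_ff (LP (LK LD1_c28 LD2_c24 LD3_c51)) = (LP (LK LD1_c28 LD2_c23 LD3_c33)) :=
  Lgr Lrot3 (Lpr_ft (f927696 IH) (Lpn (LP (LK LD1_c28 LD2_c23 LD3_c33))))
theorem f927738 : Led Lsl_gt (LP (LK LD1_c28 LD2_c23 LD3_c33)) = (LP (LK LD1_c18 LD2_c55 LD3_c31)) :=
  Lgr Lrot5 (Lpe (f927698 IH) (Lpr_at (f927694 IH) (Lpr_gf (f927735 IH) (Lpn (LP (LK LD1_c18 LD2_c55 LD3_c31))))))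
theorem f412793 : Led Lsl_ct (LP (LK LD1_c18 LD2_c55 LD3_c31)) = (LP (LK LD1_c10 LD2_c26 LD3_c1)) :=
  Lre_c IH (LK LD1_c18 LD2_c55 LD3_c31) (LK LD1_c10 LD2_c26 LD3_c1) Lrfl Lrfl
theorem f412788 : Led Lsl_df (LP (LK LD1_c18 LD2_c10 LD3_c37)) = (LP (LK LD1_c10 LD2_c26 LD3_c1)) :=
  Lgr Lrot38 (Lpr_dt (K44.f412784 IH) (Lpn (LP (LK LD1_c10 LD2_c26 LD3_c1))))
theorem f929259 : Led Lsl_gf (LP (LK LD1_c18 LD2_c10 LD3_c3)) = (LP (LK LD1_c18 LD2_c41 LD3_c45)) :=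
  Lgr Lrot104 (Lpr_ct (K45.f403040 IH) (Lpr_df (f412788 IH) (Lpe (f412793 IH) (Lpe (f927738 IH) (Lpe (f257827 IH) (Lpr_gf (f927731 IH) (Lpe (f412774 IH) (Lpr_gt (f929255 IH) (Lpe (f929247 IH) (Lpn (LP (LK LD1_c18 LD2_c41 LD3_c45))))))))))))
theorem f928867 : Led Lsl_af (LP (LK LD1_c10 LD2_c2 LD3_c27)) = v41816 :=
  Lgr Lrot0 (Lpr_at (f928866 IH) (Lpn v41816))
def v41815 : LQ := Led Lsl_gf (LP (LK LD1_c10 LD2_c2 LD3_c27))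
theorem f928865 : Led Lsl_gf (LP (LK LD1_c10 LD2_c2 LD3_c27)) = v41815 :=
  Lrfl
theorem f929577 : (LP (LK LD1_c18 LD2_c10 LD3_c3)) = v41815 :=
  (Llr Lrot5 (Lpr_gf (f929259 IH) (Lpr_ft (f929576 IH) (Lpe (f928867 IH) (Lpr_gf (f928865 IH) (Lpn v41815)))))).symm
theorem f929578 : Led Lsl_gt (LP (LK LD1_c18 LD2_c10 LD3_c3)) = (LP (LK LD1_c10 LD2_c2 LD3_c27)) :=
  Leop (Lpr_gf (f928865 IH) (Lpq (f929577 IH) (Lpn (LP (LK LD1_c18 LD2_c10 LD3_c3)))))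
theorem seed_2555 : LEOK LG_g (LK LD1_c18 LD2_c10 LD3_c3) :=
  Leoe_g (LK LD1_c18 LD2_c10 LD3_c3) (f929578 IH)
theorem f299723 : Led Lsl_ct (LP (LK LD1_c10 LD2_c11 LD3_c18)) = (LP (LK LD1_c18 LD2_c33 LD3_c40)) :=
  Lre_c IH (LK LD1_c10 LD2_c11 LD3_c18) (LK LD1_c18 LD2_c33 LD3_c40) Lrfl Lrfl
theorem f240334 : Led Lsl_ct (LP (LK LD1_c10 LD2_c10 LD3_c30)) = (LP (LK LD1_c18 LD2_c32 LD3_c11)) :=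
  Lre_c IH (LK LD1_c10 LD2_c10 LD3_c30) (LK LD1_c18 LD2_c32 LD3_c11) Lrfl Lrfl
theorem f421610 : Led Lsl_gf (LP (LK LD1_c18 LD2_c33 LD3_c40)) = (LP (LK LD1_c18 LD2_c32 LD3_c11)) :=
  Lgr Lrot129 (Lpe (f299723 IH) (Lpr_bt (f299722 IH) (Lpr_gt (K44.f257054 IH) (Lpe (K44.f185400 IH) (Lpr_ct (K10.f185399 IH) (Lpr_gt (K13.f186838 IH) (Lpe (K13.f165484 IH) (Lpr_bt (K71.f180629 IH) (Lpr_gt (K71.f180630 IH) (Lpr_ct (f240334 IH) (Lpn (LP (LK LD1_c18 LD2_c32 LD3_c11)))))))))))))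
theorem f242364 : Led Lsl_bt (LP (LK LD1_c10 LD2_c10 LD3_c30)) = (LP (LK LD1_c18 LD2_c32 LD3_c10)) :=
  Lre_b IH (LK LD1_c10 LD2_c10 LD3_c30) (LK LD1_c18 LD2_c32 LD3_c10) Lrfl Lrfl
theorem f928871 : Led Lsl_gf (LP (LK LD1_c18 LD2_c32 LD3_c10)) = v41816 :=
  Lgr Lrot124 (Lpe (f242364 IH) (Lpr_ct (f240334 IH) (Lpe (f421610 IH) (Lpe (f299723 IH) (Lpr_bt (f299722 IH) (Lpr_gt (K44.f257054 IH) (Lpr_ct (K44.f186736 IH) (Lpr_gt (K37.f186737 IH) (Lpe (f186738 IH) (Lpr_bt (f928869 IH) (Lpn v41816)))))))))))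
theorem f929618 : Led Lsl_gf (LP (LK LD1_c10 LD2_c16 LD3_c55)) = (LP (LK LD1_c18 LD2_c32 LD3_c10)) :=
  Lgr Lrot76 (Lpe (f723128 IH) (Lpr_ff (f928874 IH) (Lpe (f928871 IH) (Lpn (LP (LK LD1_c18 LD2_c32 LD3_c10))))))
theorem f929619 : Led Lsl_gt (LP (LK LD1_c18 LD2_c32 LD3_c10)) = (LP (LK LD1_c10 LD2_c16 LD3_c55)) :=
  Leop (Lpr_gf (f929618 IH) (Lpn (LP (LK LD1_c18 LD2_c32 LD3_c10))))
theorem seed_2556 : LEOK LG_g (LK LD1_c18 LD2_c32 LD3_c10) :=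
  Leoe_g (LK LD1_c18 LD2_c32 LD3_c10) (f929619 IH)
def v41817 : LQ := Led Lsl_ct (LP (LK LD1_c10 LD2_c2 LD3_c27))
theorem f929620 : Led Lsl_ct (LP (LK LD1_c10 LD2_c2 LD3_c27)) = v41817 :=
  Lrfl
theorem f302226 : Led Lsl_gt (LP (LK LD1_c5 LD2_c13 LD3_c18)) = (LP (LK LD1_c5 LD2_c5 LD3_c41)) :=
  Lgr Lrot5 (Lpr_ft (K18.f302210 IH) (Lpr_at (K18.f302209 IH) (Lpe (f274848 IH) (Lpn (LP (LK LD1_c5 LD2_c5 LD3_c41))))))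
theorem f585241 : Led Lsl_cf (LP (LK LD1_c10 LD2_c14 LD3_c53)) = (LP (LK LD1_c18 LD2_c10 LD3_c41)) :=
  Lgr Lrot108 (Lpr_ft (K44.f585237 IH) (Lpr_ct (K44.f406704 IH) (Lpe (K44.f585218 IH) (Lpn (LP (LK LD1_c18 LD2_c10 LD3_c41))))))
theorem f585877 : Led Lsl_gf (LP (LK LD1_c18 LD2_c10 LD3_c41)) = (LP (LK LD1_c18 LD2_c20 LD3_c26)) :=
  Lgr Lrot76 (Lpe (K44.f169606 IH) (Lpe (K44.f584554 IH) (Lpr_gt (K44.f585875 IH) (Lpn (LP (LK LD1_c18 LD2_c20 LD3_c26))))))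
theorem f929626 : Led Lsl_gf (LP (LK LD1_c18 LD2_c20 LD3_c27)) = v41817 :=
  Lgr Lrot126 (Lpe (K45.f285242 IH) (Lpr_bt (K45.f417496 IH) (Lpe (f585877 IH) (Lpe (f585241 IH) (Lpe (K44.f406705 IH) (Lpe (K18.f300577 IH) (Lpr_bt (K44.f304397 IH) (Lpr_gt (f302226 IH) (Lpe (f302231 IH) (Lpr_ct (f929620 IH) (Lpn v41817)))))))))))
theorem f264224 : Led Lsl_ct (LP (LK LD1_c27 LD2_c58 LD3_c61)) = (LP (LK LD1_c18 LD2_c20 LD3_c17)) :=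
  Lre_c IH (LK LD1_c27 LD2_c58 LD3_c61) (LK LD1_c18 LD2_c20 LD3_c17) Lrfl Lrfl
theorem f264217 : Led Lsl_dt (LP (LK LD1_c18 LD2_c20 LD3_c16)) = (LP (LK LD1_c27 LD2_c58 LD3_c60)) :=
  Lre_d IH (LK LD1_c18 LD2_c20 LD3_c16) (LK LD1_c27 LD2_c58 LD3_c60) Lrfl Lrfl
theorem f264196 : Led Lsl_dt (LP (LK LD1_c9 LD2_c55 LD3_c58)) = (LP (LK LD1_c18 LD2_c10 LD3_c38)) :=
  Lre_d IH (LK LD1_c9 LD2_c55 LD3_c58) (LK LD1_c18 LD2_c10 LD3_c38) Lrfl Lrfl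
theorem f264197 : Led Lsl_ft (LP (LK LD1_c18 LD2_c10 LD3_c38)) = (LP (LK LD1_c18 LD2_c20 LD3_c17)) :=
  Lgr Lrot54 (Lpe (f264196 IH) (Lpr_ff (K15.f264176 IH) (Lpe (f186726 IH) (Lpn (LP (LK LD1_c18 LD2_c20 LD3_c17))))))
theorem f264149 : Led Lsl_at (LP (LK LD1_c18 LD2_c20 LD3_c17)) = (LP (LK LD1_c27 LD2_c58 LD3_c60)) :=
  Lre_a IH (LK LD1_c18 LD2_c20 LD3_c17) (LK LD1_c27 LD2_c58 LD3_c60) Lrfl Lrfl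
theorem f604523 : Led Lsl_gf (LP (LK LD1_c27 LD2_c58 LD3_c60)) = (LP (LK LD1_c18 LD2_c55 LD3_c20)) :=
  Lgr Lrot76 (Lpe (f264149 IH) (Lpe (f264197 IH) (Lpr_gt (K71.f604519 IH) (Lpn (LP (LK LD1_c18 LD2_c55 LD3_c20))))))
theorem f405854 : Led Lsl_ft (LP (LK LD1_c18 LD2_c55 LD3_c20)) = (LP (LK LD1_c10 LD2_c25 LD3_c55)) :=
  Lre_f IH (LK LD1_c18 LD2_c55 LD3_c20) (LK LD1_c10 LD2_c25 LD3_c55) Lrfl Lrfl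
theorem f48861 : Led Lsl_dt (LP (LK LD1_c5 LD2_c18 LD3_c7)) = (LP (LK LD1_c10 LD2_c25 LD3_c55)) :=
  Lre_d IH (LK LD1_c5 LD2_c18 LD3_c7) (LK LD1_c10 LD2_c25 LD3_c55) Lrfl Lrfl
theorem f405431 : Led Lsl_af (LP (LK LD1_c18 LD2_c36 LD3_c49)) = (LP (LK LD1_c10 LD2_c25 LD3_c55)) :=
  Lgr Lrot117 (Lpr_dt (f164644 IH) (Lpr_at (K44.f405423 IH) (Lpr_dt (f48861 IH) (Lpn (LP (LK LD1_c10 LD2_c25 LD3_c55))))))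
theorem f604545 : Led Lsl_gt (LP (LK LD1_c27 LD2_c58 LD3_c60)) = (LP (LK LD1_c18 LD2_c36 LD3_c49)) :=
  Lgr Lrot46 (Lpr_gf (f604523 IH) (Lpr_ft (f405854 IH) (Lpe (f405431 IH) (Lpn (LP (LK LD1_c18 LD2_c36 LD3_c49))))))
theorem f604330 : Led Lsl_ct (LP (LK LD1_c18 LD2_c36 LD3_c21)) = (LP (LK LD1_c10 LD2_c25 LD3_c57)) :=
  Lgr Lrot111 (Lpr_af (f585803 IH) (Lpr_cf (f405452 IH) (Lpe (K44.f405433 IH) (Lpn (LP (LK LD1_c10 LD2_c25 LD3_c57))))))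
theorem f186651 : Led Lsl_gt (LP (LK LD1_c10 LD2_c27 LD3_c0)) = (LP (LK LD1_c18 LD2_c56 LD3_c55)) :=
  Lre_g IH (LK LD1_c10 LD2_c27 LD3_c0) (LK LD1_c18 LD2_c56 LD3_c55) Lrfl Lrfl
theorem f186652 : Led Lsl_ct (LP (LK LD1_c18 LD2_c56 LD3_c55)) = (LP (LK LD1_c28 LD2_c24 LD3_c54)) :=
  Lre_c IH (LK LD1_c18 LD2_c56 LD3_c55) (LK LD1_c28 LD2_c24 LD3_c54) Lrfl Lrfl
theorem f405467 : Led Lsl_dt (LP (LK LD1_c18 LD2_c55 LD3_c20)) = (LP (LK LD1_c10 LD2_c25 LD3_c57)) :=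
  Lre_d IH (LK LD1_c18 LD2_c55 LD3_c20) (LK LD1_c10 LD2_c25 LD3_c57) Lrfl Lrfl
theorem f405462 : Led Lsl_ct (LP (LK LD1_c28 LD2_c23 LD3_c21)) = (LP (LK LD1_c18 LD2_c55 LD3_c20)) :=
  Lre_c IH (LK LD1_c28 LD2_c23 LD3_c21) (LK LD1_c18 LD2_c55 LD3_c20) Lrfl Lrfl
theorem f604370 : Led Lsl_gt (LP (LK LD1_c28 LD2_c24 LD3_c54)) = (LP (LK LD1_c28 LD2_c23 LD3_c21)) :=
  Lgr Lrot150 (Lpe (f186652 IH) (Lpe (f186651 IH) (Lpe (f186650 IH) (Lpr_gt (K19.f71663 IH) (Lpr_ct (K19.f186633 IH) (Lpr_gt (f186639 IH) (Lpr_ct (f604330 IH) (Lpe (f405467 IH) (Lpe (f405462 IH) (Lpn (LP (LK LD1_c28 LD2_c23 LD3_c21))))))))))))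
theorem f604372 : Led Lsl_gf (LP (LK LD1_c28 LD2_c24 LD3_c54)) = (LP (LK LD1_c28 LD2_c10 LD3_c2)) :=
  Lgr Lrot47 (Lpr_gt (f604370 IH) (Lpe (f405815 IH) (Lpe (f405813 IH) (Lpn (LP (LK LD1_c28 LD2_c10 LD3_c2))))))
theorem f604374 : Led Lsl_ct (LP (LK LD1_c28 LD2_c24 LD3_c54)) = (LP (LK LD1_c18 LD2_c56 LD3_c55)) :=
  Lre_c IH (LK LD1_c28 LD2_c24 LD3_c54) (LK LD1_c18 LD2_c56 LD3_c55) Lrfl Lrfl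
theorem f929623 : Led Lsl_dt (LP (LK LD1_c18 LD2_c56 LD3_c55)) = v41817 :=
  Lgr Lrot27 (Lpe (f604374 IH) (Lpr_gf (f604372 IH) (Lpe (f181067 IH) (Lpe (f604545 IH) (Lpe (f264217 IH) (Lpe (K45.f410263 IH) (Lpr_ct (K53.f403039 IH) (Lpqs (f929577 IH) (Lpe (f928865 IH) (Lpr_ct (f929620 IH) (Lpn v41817)))))))))))
theorem f929627 : Led Lsl_gf (LP (LK LD1_c10 LD2_c27 LD3_c17)) = (LP (LK LD1_c18 LD2_c56 LD3_c55)) :=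
  Lgr Lrot147 (Lpr_ct (f71688 IH) (Lpr_gt (f929299 IH) (Lpr_ct (f264224 IH) (Lpe (K71.f264202 IH) (Lpe (K45.f180611 IH) (Lpe (K44.f285240 IH) (Lpe (K44.f285241 IH) (Lpr_gf (f929626 IH) (Lpe (f929623 IH) (Lpn (LP (LK LD1_c18 LD2_c56 LD3_c55))))))))))))
theorem f929628 : Led Lsl_gt (LP (LK LD1_c18 LD2_c56 LD3_c55)) = (LP (LK LD1_c10 LD2_c27 LD3_c17)) :=
  Leop (Lpr_gf (f929627 IH) (Lpn (LP (LK LD1_c18 LD2_c56 LD3_c55))))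
theorem seed_2557 : LEOK LG_g (LK LD1_c18 LD2_c56 LD3_c55) :=
  Leoe_g (LK LD1_c18 LD2_c56 LD3_c55) (f929628 IH)
theorem f925445 : Led Lsl_cf (LP (LK LD1_c18 LD2_c27 LD3_c22)) = (LP (LK LD1_c18 LD2_c33 LD3_c39)) :=
  Lgr Lrot11 (Lpr_ct (f925440 IH) (Lpn (LP (LK LD1_c18 LD2_c33 LD3_c39))))
theorem f929629 : Led Lsl_gt (LP (LK LD1_c18 LD2_c27 LD3_c22)) = (LP (LK LD1_c18 LD2_c10 LD3_c4)) :=
  Lgr Lrot65 (Lpr_cf (f925445 IH) (Lpr_bt (f584544 IH) (Lpr_gf (f585877 IH) (Lpe (K45.f417496 IH) (Lpr_ct (K45.f285242 IH) (Lpr_gf (f929626 IH) (Lpe (f929620 IH) (Lpr_gf (f928865 IH) (Lpq (f929577 IH) (Lpe (K53.f412951 IH) (Lpr_ct (f242867 IH) (Lpn (LP (LK LD1_c18 LD2_c10 LD3_c4))))))))))))))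
theorem f929630 : Led Lsl_gt (LP (LK LD1_c18 LD2_c27 LD3_c22)) = (LP (LK LD1_c18 LD2_c10 LD3_c4)) :=
  Leop (Lpe (f929629 IH) (Lpn (LP (LK LD1_c18 LD2_c27 LD3_c22))))
theorem seed_2558 : LEOK LG_g (LK LD1_c18 LD2_c27 LD3_c22) :=
  Leoe_g (LK LD1_c18 LD2_c27 LD3_c22) (f929630 IH)
def v41832 : LQ := Led Lsl_gt (LP (LK LD1_c10 LD2_c2 LD3_c35))
theorem f929693 : Led Lsl_gt (LP (LK LD1_c10 LD2_c2 LD3_c35)) = v41832 :=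
  Lrfl
theorem f191078 : Led Lsl_bf (LP (LK LD1_c15 LD2_c30 LD3_c52)) = (LP (LK LD1_c15 LD2_c24 LD3_c38)) :=
  Lgr Lrot61 (Lpr_ft (K27.f191076 IH) (Lpr_bt (K25.f191069 IH) (Lpr_ft (K26.f191077 IH) (Lpn (LP (LK LD1_c15 LD2_c24 LD3_c38))))))
theorem f259725 : Led Lsl_dt (LP (LK LD1_c15 LD2_c30 LD3_c52)) = (LP (LK LD1_c18 LD2_c44 LD3_c18)) :=
  Lgr Lrot42 (Lpr_df (K27.f259723 IH) (Lpn (LP (LK LD1_c18 LD2_c44 LD3_c18))))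
theorem f361108 : Led Lsl_bt (LP (LK LD1_c18 LD2_c44 LD3_c18)) = (LP (LK LD1_c17 LD2_c39 LD3_c35)) :=
  Lgr Lrot95 (Lpe (f259725 IH) (Lpr_bf (f191078 IH) (Lpr_df (K26.f361098 IH) (Lpn (LP (LK LD1_c17 LD2_c39 LD3_c35))))))
theorem f369397 : Led Lsl_gt (LP (LK LD1_c8 LD2_c31 LD3_c46)) = (LP (LK LD1_c15 LD2_c57 LD3_c41)) :=
  Lgr Lrot65 (Lpe (K23.f273537 IH) (Lpe (K26.f348429 IH) (Lpe (K20.f167430 IH) (Lpe (K24.f167492 IH) (Lpr_ct (K25.f167494 IH) (Lpe (K26.f167520 IH) (Lpr_cf (K26.f359214 IH) (Lpe (K26.f359213 IH) (Lpe (f361108 IH) (Lpr_ct (K27.f369387 IH) (Lpn (LP (LK LD1_c15 LD2_c57 LD3_c41)))))))))))))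
theorem f369391 : Led Lsl_cf (LP (LK LD1_c18 LD2_c44 LD3_c18)) = (LP (LK LD1_c15 LD2_c57 LD3_c41)) :=
  Lgr Lrot11 (Lpr_ct (K27.f369387 IH) (Lpn (LP (LK LD1_c15 LD2_c57 LD3_c41))))
theorem f929696 : Led Lsl_cf (LP (LK LD1_c15 LD2_c30 LD3_c52)) = v41832 :=
  Lgr Lrot99 (Lpr_df (K27.f259723 IH) (Lpr_cf (f369391 IH) (Lpe (f369397 IH) (Lpe (K23.f273537 IH) (Lpe (K23.f612 IH) (Lpe (K23.f611 IH) (Lpe (K26.f361205 IH) (Lpr_ct (K26.f185615 IH) (Lpr_gt (f929693 IH) (Lpn v41832))))))))))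
theorem f212472 : Led Lsl_gt (LP (LK LD1_c10 LD2_c21 LD3_c17)) = (LP (LK LD1_c18 LD2_c47 LD3_c33)) :=
  Lre_g IH (LK LD1_c10 LD2_c21 LD3_c17) (LK LD1_c18 LD2_c47 LD3_c33) Lrfl Lrfl
theorem f371104 : Led Lsl_dt (LP (LK LD1_c18 LD2_c47 LD3_c33)) = (LP (LK LD1_c10 LD2_c24 LD3_c50)) :=
  Lgr Lrot105 (Lpe (f212472 IH) (Lpe (K10.f47661 IH) (Lpe (K26.f47602 IH) (Lpr_cf (K26.f362877 IH) (Lpr_gt (K30.f371094 IH) (Lpr_dt (K26.f219941 IH) (Lpr_gt (K22.f219955 IH) (Lpe (K22.f219958 IH) (Lpr_cf (K26.f331442 IH) (Lpn (LP (LK LD1_c10 LD2_c24 LD3_c50))))))))))))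
theorem f372431 : Led Lsl_df (LP (LK LD1_c18 LD2_c47 LD3_c33)) = (LP (LK LD1_c10 LD2_c24 LD3_c50)) :=
  Lgr Lrot38 (Lpr_dt (f371104 IH) (Lpn (LP (LK LD1_c10 LD2_c24 LD3_c50))))
theorem f358898 : Led Lsl_ct (LP (LK LD1_c28 LD2_c17 LD3_c16)) = (LP (LK LD1_c18 LD2_c47 LD3_c33)) :=
  Lre_c IH (LK LD1_c28 LD2_c17 LD3_c16) (LK LD1_c18 LD2_c47 LD3_c33) Lrfl Lrfl
theorem f929697 : Led Lsl_gt (LP (LK LD1_c28 LD2_c14 LD3_c55)) = (LP (LK LD1_c28 LD2_c17 LD3_c16)) :=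
  Lgr Lrot187 (Lpe (K26.f49513 IH) (Lpr_gf (K26.f362510 IH) (Lpr_dt (K26.f333357 IH) (Lpr_gt (f929693 IH) (Lpe (f929696 IH) (Lpe (K27.f365502 IH) (Lpr_ct (K26.f331437 IH) (Lpe (f372431 IH) (Lpe (f358898 IH) (Lpn (LP (LK LD1_c28 LD2_c17 LD3_c16))))))))))))
theorem f929698 : Led Lsl_gt (LP (LK LD1_c28 LD2_c14 LD3_c55)) = (LP (LK LD1_c28 LD2_c17 LD3_c16)) :=
  Leop (Lpe (f929697 IH) (Lpn (LP (LK LD1_c28 LD2_c14 LD3_c55))))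
theorem seed_2559 : LEOK LG_g (LK LD1_c28 LD2_c14 LD3_c55) :=
  Leoe_g (LK LD1_c28 LD2_c14 LD3_c55) (f929698 IH)
def v41848 : LQ := Led Lsl_gt (LP (LK LD1_c10 LD2_c2 LD3_c48))
theorem f929797 : Led Lsl_gt (LP (LK LD1_c10 LD2_c2 LD3_c48)) = v41848 :=
  Lrfl
def v41457 : LQ := Led Lsl_ct (LP (LK LD1_c9 LD2_c57 LD3_c58))
theorem f926074 : Led Lsl_ct (LP (LK LD1_c9 LD2_c57 LD3_c58)) = v41457 :=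
  Lrfl
theorem f926075 : Led Lsl_bf (LP (LK LD1_c10 LD2_c2 LD3_c48)) = v41457 :=
  Lgr Lrot90 (Lpr_ct (K45.f198619 IH) (Lpr_bt (K39.f185821 IH) (Lpr_ct (K42.f198611 IH) (Lpr_bt (f198621 IH) (Lpr_ct (f926074 IH) (Lpn v41457))))))
theorem f926076 : Led Lsl_cf (LP (LK LD1_c9 LD2_c57 LD3_c58)) = v41457 :=
  Lgr Lrot11 (Lpr_ct (f926074 IH) (Lpn v41457))
def v41455 : LQ := Led Lsl_gf (LP (LK LD1_c9 LD2_c57 LD3_c58))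
theorem f926062 : Led Lsl_gf (LP (LK LD1_c9 LD2_c57 LD3_c58)) = v41455 :=
  Lrfl
def v41456 : LQ := Led Lsl_at (LP (LK LD1_c9 LD2_c57 LD3_c58))
theorem f926063 : Led Lsl_at (LP (LK LD1_c9 LD2_c57 LD3_c58)) = v41456 :=
  Lrfl
theorem f285238 : Led Lsl_ff (LP (LK LD1_c9 LD2_c57 LD3_c58)) = (LP (LK LD1_c9 LD2_c55 LD3_c59)) :=
  Lgr Lrot3 (Lpr_ft (f285234 IH) (Lpn (LP (LK LD1_c9 LD2_c55 LD3_c59))))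
def v41307 : LQ := Led Lsl_dt (LP (LK LD1_c9 LD2_c55 LD3_c57))
theorem f924001 : Led Lsl_dt (LP (LK LD1_c9 LD2_c55 LD3_c57)) = v41307 :=
  Lrfl
theorem f924002 : Led Lsl_af (LP (LK LD1_c9 LD2_c55 LD3_c59)) = v41307 :=
  Lgr Lrot117 (Lpr_dt (K71.f250104 IH) (Lpr_at (K44.f264233 IH) (Lpr_dt (f924001 IH) (Lpn v41307))))
theorem f926067 : Led Lsl_ff v41307 = v41456 :=
  Lgr Lrot30 (Lpe (f924002 IH) (Lpe (f285238 IH) (Lpr_at (f926063 IH) (Lpn v41456))))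
theorem f926072 : Led Lsl_ft v41307 = v41456 :=
  Lgr Lrot48 (Lpr_ff (f926067 IH) (Lpn v41456))
theorem f926064 : Led Lsl_af (LP (LK LD1_c9 LD2_c57 LD3_c58)) = v41456 :=
  Lgr Lrot0 (Lpr_at (f926063 IH) (Lpn v41456))
theorem f926073 : Led Lsl_gt v41307 = v41455 :=
  Lgr Lrot5 (Lpr_ft (f926072 IH) (Lpe (f926064 IH) (Lpr_gf (f926062 IH) (Lpn v41455))))
theorem f214613 : Led Lsl_gt (LP (LK LD1_c10 LD2_c27 LD3_c3)) = (LP (LK LD1_c5 LD2_c18 LD3_c47)) :=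
  Lre_g IH (LK LD1_c10 LD2_c27 LD3_c3) (LK LD1_c5 LD2_c18 LD3_c47) Lrfl Lrfl
theorem f924003 : Led Lsl_df (LP (LK LD1_c9 LD2_c55 LD3_c57)) = v41307 :=
  Lgr Lrot38 (Lpr_dt (f924001 IH) (Lpn v41307))
theorem f264239 : Led Lsl_dt (LP (LK LD1_c5 LD2_c2 LD3_c31)) = (LP (LK LD1_c9 LD2_c55 LD3_c59)) :=
  Lre_d IH (LK LD1_c5 LD2_c2 LD3_c31) (LK LD1_c9 LD2_c55 LD3_c59) Lrfl Lrfl
theorem f924004 : Led Lsl_at (LP (LK LD1_c9 LD2_c55 LD3_c59)) = v41307 :=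
  Lgr Lrot51 (Lpe (f264239 IH) (Lpe (K44.f276134 IH) (Lpr_df (f924003 IH) (Lpn v41307))))
theorem f926061 : Led Lsl_gf v41307 = v41454 :=
  Lgr Lrot76 (Lpe (f924004 IH) (Lpe (f285234 IH) (Lpr_gt (f926060 IH) (Lpn v41454))))
theorem f48811 : Led Lsl_gt (LP (LK LD1_c5 LD2_c18 LD3_c42)) = (LP (LK LD1_c10 LD2_c27 LD3_c3)) :=
  Lre_g IH (LK LD1_c5 LD2_c18 LD3_c42) (LK LD1_c10 LD2_c27 LD3_c3) Lrfl Lrfl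
theorem f929262 : v41307 = (LP (LK LD1_c10 LD2_c27 LD3_c3)) :=
  Lefun (Lecon (Lfl_gf (f926061 IH)) (f929261 IH)) (f48811 IH)
theorem f929271 : v41455 = (LP (LK LD1_c5 LD2_c18 LD3_c47)) :=
  Lefun (Lecon (f926073 IH) (f929262 IH)) (f214613 IH)
theorem f186590 : Led Lsl_ct (LP (LK LD1_c10 LD2_c27 LD3_c19)) = (LP (LK LD1_c5 LD2_c18 LD3_c47)) :=
  Lre_c IH (LK LD1_c10 LD2_c27 LD3_c19) (LK LD1_c5 LD2_c18 LD3_c47) Lrfl Lrfl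
theorem f32698 : Led Lsl_bt (LP (LK LD1_c10 LD2_c27 LD3_c19)) = (LP (LK LD1_c18 LD2_c57 LD3_c18)) :=
  Lre_b IH (LK LD1_c10 LD2_c27 LD3_c19) (LK LD1_c18 LD2_c57 LD3_c18) Lrfl Lrfl
theorem f548068 : Led Lsl_gt (LP (LK LD1_c15 LD2_c23 LD3_c48)) = (LP (LK LD1_c25 LD2_c16 LD3_c12)) :=
  Lre_g IH (LK LD1_c15 LD2_c23 LD3_c48) (LK LD1_c25 LD2_c16 LD3_c12) Lrfl Lrfl
theorem f55852 : Led Lsl_ct (LP (LK LD1_c4 LD2_c5 LD3_c56)) = (LP (LK LD1_c8 LD2_c12 LD3_c31)) :=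
  Lre_c IH (LK LD1_c4 LD2_c5 LD3_c56) (LK LD1_c8 LD2_c12 LD3_c31) Lrfl Lrfl
def v12334 : LQ := Led Lsl_gt (LP (LK LD1_c4 LD2_c5 LD3_c51))
theorem f691574 : Led Lsl_gt (LP (LK LD1_c4 LD2_c5 LD3_c51)) = v12334 :=
  Lrfl
theorem f590795 : Led Lsl_ft (LP (LK LD1_c4 LD2_c5 LD3_c51)) = (LP (LK LD1_c8 LD2_c12 LD3_c25)) :=
  Lre_f IH (LK LD1_c4 LD2_c5 LD3_c51) (LK LD1_c8 LD2_c12 LD3_c25) Lrfl Lrfl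
theorem f691576 : Led Lsl_gf (LP (LK LD1_c4 LD2_c5 LD3_c56)) = v12334 :=
  Lgr Lrot76 (Lpe (K50.f590796 IH) (Lpe (f590795 IH) (Lpr_gt (f691574 IH) (Lpn v12334))))
theorem f929799 : Led Lsl_cf v12334 = v41848 :=
  Lgr Lrot169 (Lpe (f691576 IH) (Lpr_ct (f55852 IH) (Lpe (K45.f572439 IH) (Lpr_cf (K45.f590793 IH) (Lpe (f548068 IH) (Lpe (K38.f548060 IH) (Lpe (K45.f586683 IH) (Lpr_df (K45.f586668 IH) (Lpr_gt (f929797 IH) (Lpn v41848))))))))))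
theorem f55853 : Led Lsl_bt (LP (LK LD1_c8 LD2_c12 LD3_c31)) = (LP (LK LD1_c15 LD2_c26 LD3_c37)) :=
  Lre_b IH (LK LD1_c8 LD2_c12 LD3_c31) (LK LD1_c15 LD2_c26 LD3_c37) Lrfl Lrfl
theorem f929800 : Led Lsl_gf (LP (LK LD1_c18 LD2_c57 LD3_c18)) = (LP (LK LD1_c15 LD2_c26 LD3_c37)) :=
  Lgr Lrot124 (Lpe (f32698 IH) (Lpr_ct (f186590 IH) (Lpq (f929271 IH) (Lpe (f926062 IH) (Lpr_cf (f926076 IH) (Lpe (f926075 IH) (Lpr_gt (f929797 IH) (Lpe (f929799 IH) (Lpe (f691576 IH) (Lpe (K45.f544439 IH) (Lpr_bt (f55853 IH) (Lpn (LP (LK LD1_c15 LD2_c26 LD3_c37))))))))))))))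
theorem f929801 : Led Lsl_gt (LP (LK LD1_c15 LD2_c26 LD3_c37)) = (LP (LK LD1_c18 LD2_c57 LD3_c18)) :=
  Leop (Lpr_gf (f929800 IH) (Lpn (LP (LK LD1_c15 LD2_c26 LD3_c37))))
theorem seed_2560 : LEOK LG_g (LK LD1_c15 LD2_c26 LD3_c37) :=
  Leoe_g (LK LD1_c15 LD2_c26 LD3_c37) (f929801 IH)
def v41852 : LQ := Led Lsl_gt (LP (LK LD1_c10 LD2_c2 LD3_c54))
theorem f929820 : Led Lsl_gt (LP (LK LD1_c10 LD2_c2 LD3_c54)) = v41852 :=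
  Lrfl
theorem f546678 : Led Lsl_df (LP (LK LD1_c10 LD2_c2 LD3_c54)) = (LP (LK LD1_c9 LD2_c12 LD3_c41)) :=
  Lgr Lrot70 (Lpr_et (f546677 IH) (Lpr_dt (K38.f495426 IH) (Lpr_et (K42.f546670 IH) (Lpr_dt (K37.f546673 IH) (Lpr_et (K40.f541603 IH) (Lpn (LP (LK LD1_c9 LD2_c12 LD3_c41))))))))
theorem f541645 : Led Lsl_et (LP (LK LD1_c9 LD2_c12 LD3_c41)) = (LP (LK LD1_c4 LD2_c38 LD3_c25)) :=
  Lre_e IH (LK LD1_c9 LD2_c12 LD3_c41) (LK LD1_c4 LD2_c38 LD3_c25) Lrfl Lrfl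
theorem f509307 : Led Lsl_dt (LP (LK LD1_c3 LD2_c20 LD3_c39)) = (LP (LK LD1_c1 LD2_c36 LD3_c39)) :=
  Lre_d IH (LK LD1_c3 LD2_c20 LD3_c39) (LK LD1_c1 LD2_c36 LD3_c39) Lrfl Lrfl
theorem f652865 : Led Lsl_et (LP (LK LD1_c12 LD2_c54 LD3_c10)) = (LP (LK LD1_c6 LD2_c44 LD3_c56)) :=
  Lre_e IH (LK LD1_c12 LD2_c54 LD3_c10) (LK LD1_c6 LD2_c44 LD3_c56) Lrfl Lrfl
theorem f929823 : Led Lsl_dt (LP (LK LD1_c12 LD2_c54 LD3_c10)) = v41852 :=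
  Lgr Lrot37 (Lpr_et (f652865 IH) (Lpr_gt (K46.f652859 IH) (Lpr_dt (f509307 IH) (Lpr_gt (K46.f438065 IH) (Lpe (K50.f509256 IH) (Lpr_et (K50.f509276 IH) (Lpr_gt (K37.f142146 IH) (Lpe (f541645 IH) (Lpe (f546678 IH) (Lpr_gt (f929820 IH) (Lpn v41852)))))))))))
theorem f929825 : Led Lsl_df (LP (LK LD1_c12 LD2_c54 LD3_c10)) = v41852 :=
  Lgr Lrot38 (Lpr_dt (f929823 IH) (Lpn v41852))
theorem f652877 : Led Lsl_ct (LP (LK LD1_c12 LD2_c54 LD3_c10)) = (LP (LK LD1_c22 LD2_c3 LD3_c53)) :=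
  Lre_c IH (LK LD1_c12 LD2_c54 LD3_c10) (LK LD1_c22 LD2_c3 LD3_c53) Lrfl Lrfl
theorem f652875 : Led Lsl_dt (LP (LK LD1_c30 LD2_c17 LD3_c16)) = (LP (LK LD1_c22 LD2_c3 LD3_c53)) :=
  Lre_d IH (LK LD1_c30 LD2_c17 LD3_c16) (LK LD1_c22 LD2_c3 LD3_c53) Lrfl Lrfl
theorem f413713 : Led Lsl_ct (LP (LK LD1_c6 LD2_c44 LD3_c56)) = (LP (LK LD1_c12 LD2_c54 LD3_c9)) :=
  Lre_c IH (LK LD1_c6 LD2_c44 LD3_c56) (LK LD1_c12 LD2_c54 LD3_c9) Lrfl Lrfl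
theorem f413712 : Led Lsl_gt (LP (LK LD1_c12 LD2_c54 LD3_c9)) = (LP (LK LD1_c21 LD2_c51 LD3_c56)) :=
  Lre_g IH (LK LD1_c12 LD2_c54 LD3_c9) (LK LD1_c21 LD2_c51 LD3_c56) Lrfl Lrfl
theorem f414600 : Led Lsl_ct (LP (LK LD1_c3 LD2_c20 LD3_c41)) = (LP (LK LD1_c1 LD2_c36 LD3_c40)) :=
  Lre_c IH (LK LD1_c3 LD2_c20 LD3_c41) (LK LD1_c1 LD2_c36 LD3_c40) Lrfl Lrfl
theorem f414601 : Led Lsl_dt (LP (LK LD1_c6 LD2_c45 LD3_c11)) = (LP (LK LD1_c3 LD2_c20 LD3_c41)) :=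
  Lre_d IH (LK LD1_c6 LD2_c45 LD3_c11) (LK LD1_c3 LD2_c20 LD3_c41) Lrfl Lrfl
theorem f414602 : Led Lsl_gt (LP (LK LD1_c12 LD2_c54 LD3_c41)) = (LP (LK LD1_c6 LD2_c45 LD3_c11)) :=
  Lre_g IH (LK LD1_c12 LD2_c54 LD3_c41) (LK LD1_c6 LD2_c45 LD3_c11) Lrfl Lrfl
theorem f652861 : Led Lsl_dt (LP (LK LD1_c21 LD2_c51 LD3_c56)) = (LP (LK LD1_c12 LD2_c54 LD3_c41)) :=
  Lgr Lrot57 (Lpe (f413712 IH) (Lpe (f413713 IH) (Lpr_gt (K46.f652859 IH) (Lpr_dt (f509307 IH) (Lpr_gt (K46.f438065 IH) (Lpr_dt (K66.f206819 IH) (Lpe (f414600 IH) (Lpe (f414601 IH) (Lpe (f414602 IH) (Lpn (LP (LK LD1_c12 LD2_c54 LD3_c41))))))))))))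
theorem f652871 : Led Lsl_et (LP (LK LD1_c22 LD2_c3 LD3_c53)) = (LP (LK LD1_c12 LD2_c54 LD3_c9)) :=
  Lre_e IH (LK LD1_c22 LD2_c3 LD3_c53) (LK LD1_c12 LD2_c54 LD3_c9) Lrfl Lrfl
theorem f652872 : Led Lsl_dt (LP (LK LD1_c22 LD2_c3 LD3_c53)) = (LP (LK LD1_c30 LD2_c17 LD3_c16)) :=
  Lre_d IH (LK LD1_c22 LD2_c3 LD3_c53) (LK LD1_c30 LD2_c17 LD3_c16) Lrfl Lrfl
theorem f612959 : Led Lsl_et (LP (LK LD1_c3 LD2_c20 LD3_c41)) = (LP (LK LD1_c4 LD2_c38 LD3_c27)) :=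
  Lre_e IH (LK LD1_c3 LD2_c20 LD3_c41) (LK LD1_c4 LD2_c38 LD3_c27) Lrfl Lrfl
theorem f565312 : Led Lsl_et (LP (LK LD1_c17 LD2_c7 LD3_c7)) = (LP (LK LD1_c9 LD2_c12 LD3_c43)) :=
  Lre_e IH (LK LD1_c17 LD2_c7 LD3_c7) (LK LD1_c9 LD2_c12 LD3_c43) Lrfl Lrfl
theorem f565309 : Led Lsl_dt (LP (LK LD1_c17 LD2_c7 LD3_c7)) = (LP (LK LD1_c27 LD2_c0 LD3_c27)) :=
  Lre_d IH (LK LD1_c17 LD2_c7 LD3_c7) (LK LD1_c27 LD2_c0 LD3_c27) Lrfl Lrfl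
theorem f652873 : Led Lsl_gf (LP (LK LD1_c30 LD2_c17 LD3_c16)) = (LP (LK LD1_c27 LD2_c0 LD3_c27)) :=
  Lgr Lrot145 (Lpe (f652872 IH) (Lpr_et (f652871 IH) (Lpr_gt (f413712 IH) (Lpr_dt (f652861 IH) (Lpr_gt (f414602 IH) (Lpe (K65.f509337 IH) (Lpr_et (f612959 IH) (Lpr_gt (K43.f176469 IH) (Lpe (f565312 IH) (Lpr_dt (f565309 IH) (Lpn (LP (LK LD1_c27 LD2_c0 LD3_c27)))))))))))))
theorem f621360 : Led Lsl_ct (LP (LK LD1_c27 LD2_c0 LD3_c21)) = (LP (LK LD1_c17 LD2_c7 LD3_c2)) :=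
  Lre_c IH (LK LD1_c27 LD2_c0 LD3_c21) (LK LD1_c17 LD2_c7 LD3_c2) Lrfl Lrfl
theorem f929826 : Led Lsl_gf (LP (LK LD1_c17 LD2_c7 LD3_c7)) = (LP (LK LD1_c27 LD2_c0 LD3_c21)) :=
  Lgr Lrot144 (Lpr_dt (f565309 IH) (Lpe (f652873 IH) (Lpr_dt (f652875 IH) (Lpe (f652877 IH) (Lpr_df (f929825 IH) (Lpe (f929820 IH) (Lpr_df (f546678 IH) (Lpe (f541647 IH) (Lpe (f621360 IH) (Lpn (LP (LK LD1_c27 LD2_c0 LD3_c21))))))))))))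
theorem f929827 : Led Lsl_gt (LP (LK LD1_c27 LD2_c0 LD3_c21)) = (LP (LK LD1_c17 LD2_c7 LD3_c7)) :=
  Leop (Lpr_gf (f929826 IH) (Lpn (LP (LK LD1_c27 LD2_c0 LD3_c21))))
theorem seed_2561 : LEOK LG_g (LK LD1_c27 LD2_c0 LD3_c21) :=
  Leoe_g (LK LD1_c27 LD2_c0 LD3_c21) (f929827 IH)
def v41871 : LQ := Led Lsl_ft (LP (LK LD1_c10 LD2_c3 LD3_c10))
theorem f929930 : Led Lsl_ft (LP (LK LD1_c10 LD2_c3 LD3_c10)) = v41871 :=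
  Lrfl
theorem f929933 : Led Lsl_ff (LP (LK LD1_c10 LD2_c3 LD3_c10)) = v41871 :=
  Lgr Lrot3 (Lpr_ft (f929930 IH) (Lpn v41871))
theorem f346182 : Led Lsl_ft (LP (LK LD1_c5 LD2_c6 LD3_c4)) = (LP (LK LD1_c5 LD2_c11 LD3_c59)) :=
  Lgr Lrot48 (Lpr_ff (K44.f346178 IH) (Lpn (LP (LK LD1_c5 LD2_c11 LD3_c59))))
theorem f346184 : Led Lsl_af (LP (LK LD1_c5 LD2_c6 LD3_c6)) = (LP (LK LD1_c5 LD2_c11 LD3_c59)) :=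
  Lgr Lrot45 (Lpr_ft (K44.f345839 IH) (Lpe (K44.f346174 IH) (Lpr_ft (f346182 IH) (Lpn (LP (LK LD1_c5 LD2_c11 LD3_c59))))))
theorem f257565 : Led Lsl_et (LP (LK LD1_c5 LD2_c6 LD3_c6)) = (LP (LK LD1_c10 LD2_c3 LD3_c10)) :=
  Lre_e IH (LK LD1_c5 LD2_c6 LD3_c6) (LK LD1_c10 LD2_c3 LD3_c10) Lrfl Lrfl
theorem f190326 : Led Lsl_et (LP (LK LD1_c10 LD2_c14 LD3_c44)) = (LP (LK LD1_c5 LD2_c11 LD3_c59)) :=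
  Lre_e IH (LK LD1_c10 LD2_c14 LD3_c44) (LK LD1_c5 LD2_c11 LD3_c59) Lrfl Lrfl
theorem f346190 : Led Lsl_at (LP (LK LD1_c10 LD2_c3 LD3_c10)) = (LP (LK LD1_c10 LD2_c14 LD3_c44)) :=
  Lgr Lrot80 (Lpe (f257565 IH) (Lpr_af (f346184 IH) (Lpe (f190326 IH) (Lpn (LP (LK LD1_c10 LD2_c14 LD3_c44))))))
theorem f274424 : Led Lsl_gt (LP (LK LD1_c18 LD2_c38 LD3_c42)) = (LP (LK LD1_c10 LD2_c14 LD3_c44)) :=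
  Lre_g IH (LK LD1_c18 LD2_c38 LD3_c42) (LK LD1_c10 LD2_c14 LD3_c44) Lrfl Lrfl
theorem f929936 : Led Lsl_gf (LP (LK LD1_c18 LD2_c38 LD3_c42)) = v41871 :=
  Lgr Lrot47 (Lpr_gt (f274424 IH) (Lpe (f346190 IH) (Lpr_ff (f929933 IH) (Lpn v41871))))
theorem f584964 : Led Lsl_dt (LP (LK LD1_c18 LD2_c38 LD3_c42)) = (LP (LK LD1_c28 LD2_c10 LD3_c38)) :=
  Lre_d IH (LK LD1_c18 LD2_c38 LD3_c42) (LK LD1_c28 LD2_c10 LD3_c38) Lrfl Lrfl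
theorem f929934 : Led Lsl_ct (LP (LK LD1_c10 LD2_c3 LD3_c12)) = v41871 :=
  Lgr Lrot40 (Lpe (K21.f329739 IH) (Lpe (K23.f251489 IH) (Lpr_ff (f929933 IH) (Lpn v41871))))
theorem f247583 : Led Lsl_dt (LP (LK LD1_c26 LD2_c32 LD3_c29)) = (LP (LK LD1_c16 LD2_c35 LD3_c4)) :=
  Lre_d IH (LK LD1_c26 LD2_c32 LD3_c29) (LK LD1_c16 LD2_c35 LD3_c4) Lrfl Lrfl
theorem f929938 : Led Lsl_gt (LP (LK LD1_c28 LD2_c10 LD3_c38)) = (LP (LK LD1_c26 LD2_c32 LD3_c29)) :=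
  Lgr Lrot49 (Lpe (f584964 IH) (Lpr_gf (f929936 IH) (Lpe (f929934 IH) (Lpe (K22.f335289 IH) (Lpr_dt (K20.f290048 IH) (Lpr_gt (K25.f316546 IH) (Lpr_dt (K22.f337672 IH) (Lpe (K27.f247585 IH) (Lpe (f247583 IH) (Lpn (LP (LK LD1_c26 LD2_c32 LD3_c29))))))))))))
theorem f929939 : Led Lsl_gt (LP (LK LD1_c28 LD2_c10 LD3_c38)) = (LP (LK LD1_c26 LD2_c32 LD3_c29)) :=
  Leop (Lpe (f929938 IH) (Lpn (LP (LK LD1_c28 LD2_c10 LD3_c38))))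
theorem seed_2562 : LEOK LG_g (LK LD1_c28 LD2_c10 LD3_c38) :=
  Leoe_g (LK LD1_c28 LD2_c10 LD3_c38) (f929939 IH)
def v41875 : LQ := Led Lsl_dt (LP (LK LD1_c10 LD2_c3 LD3_c15))
theorem f929951 : Led Lsl_dt (LP (LK LD1_c10 LD2_c3 LD3_c15)) = v41875 :=
  Lrfl
theorem f929952 : Led Lsl_bf (LP (LK LD1_c10 LD2_c3 LD3_c16)) = v41875 :=
  Lgr Lrot93 (Lpr_dt (K15.f248113 IH) (Lpr_bt (f282134 IH) (Lpr_dt (f929951 IH) (Lpn v41875))))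
theorem f248534 : Led Lsl_ff (LP (LK LD1_c9 LD2_c39 LD3_c40)) = (LP (LK LD1_c9 LD2_c40 LD3_c13)) :=
  Lgr Lrot19 (Lpr_dt (K12.f229931 IH) (Lpr_ft (K14.f248530 IH) (Lpr_dt (K14.f43472 IH) (Lpn (LP (LK LD1_c9 LD2_c40 LD3_c13))))))
theorem f544789 : Led Lsl_gt (LP (LK LD1_c9 LD2_c40 LD3_c13)) = (LP (LK LD1_c9 LD2_c55 LD3_c4)) :=
  Lgr Lrot5 (Lpe (f248534 IH) (Lpe (K15.f248663 IH) (Lpr_gf (K37.f544787 IH) (Lpn (LP (LK LD1_c9 LD2_c55 LD3_c4))))))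
def v35733 : LQ := Led Lsl_bt (LP (LK LD1_c8 LD2_c3 LD3_c57))
theorem f878032 : Led Lsl_bt (LP (LK LD1_c8 LD2_c3 LD3_c57)) = v35733 :=
  Lrfl
theorem f878033 : Led Lsl_bf (LP (LK LD1_c8 LD2_c3 LD3_c57)) = v35733 :=
  Lgr Lrot24 (Lpr_bt (f878032 IH) (Lpn v35733))
theorem f237105 : Led Lsl_bt (LP (LK LD1_c8 LD2_c3 LD3_c60)) = (LP (LK LD1_c4 LD2_c1 LD3_c41)) :=
  Lre_b IH (LK LD1_c8 LD2_c3 LD3_c60) (LK LD1_c4 LD2_c1 LD3_c41) Lrfl Lrfl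
theorem f878034 : Led Lsl_cf (LP (LK LD1_c8 LD2_c3 LD3_c60)) = v35733 :=
  Lgr Lrot97 (Lpr_bt (f237105 IH) (Lpr_ct (K13.f182045 IH) (Lpr_bt (K14.f237073 IH) (Lpr_ct (K10.f182050 IH) (Lpr_bt (f878032 IH) (Lpn v35733))))))
theorem f33590 : Led Lsl_gt (LP (LK LD1_c8 LD2_c3 LD3_c60)) = (LP (LK LD1_c15 LD2_c11 LD3_c6)) :=
  Lre_g IH (LK LD1_c8 LD2_c3 LD3_c60) (LK LD1_c15 LD2_c11 LD3_c6) Lrfl Lrfl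
theorem f929956 : Led Lsl_cf (LP (LK LD1_c15 LD2_c11 LD3_c6)) = v41875 :=
  Lgr Lrot58 (Lpe (f33590 IH) (Lpr_cf (f878034 IH) (Lpe (f878033 IH) (Lpe (K10.f182051 IH) (Lpe (K21.f165315 IH) (Lpe (K37.f165331 IH) (Lpe (f544789 IH) (Lpr_cf (K14.f248456 IH) (Lpr_gf (K15.f257529 IH) (Lpr_bf (f929952 IH) (Lpn v41875)))))))))))
theorem f929957 : Led Lsl_ct (LP (LK LD1_c15 LD2_c11 LD3_c6)) = v41875 :=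
  Lgr Lrot59 (Lpr_cf (f929956 IH) (Lpn v41875))
def v1404 : LQ := Led Lsl_ct (LP (LK LD1_c1 LD2_c12 LD3_c44))
theorem f495381 : Led Lsl_ct (LP (LK LD1_c1 LD2_c12 LD3_c44)) = v1404 :=
  Lrfl
theorem f198458 : Led Lsl_bt (LP (LK LD1_c1 LD2_c12 LD3_c44)) = (LP (LK LD1_c0 LD2_c33 LD3_c41)) :=
  Lre_b IH (LK LD1_c1 LD2_c12 LD3_c44) (LK LD1_c0 LD2_c33 LD3_c41) Lrfl Lrfl
theorem f313565 : Led Lsl_ft (LP (LK LD1_c1 LD2_c9 LD3_c30)) = (LP (LK LD1_c1 LD2_c12 LD3_c44)) :=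
  Lgr Lrot75 (Lpr_bf (K19.f190258 IH) (Lpr_ff (K19.f313563 IH) (Lpe (f198458 IH) (Lpn (LP (LK LD1_c1 LD2_c12 LD3_c44))))))
theorem f495385 : Led Lsl_ff (LP (LK LD1_c2 LD2_c24 LD3_c44)) = v1404 :=
  Lgr Lrot23 (Lpr_ct (K13.f190229 IH) (Lpr_ft (f313565 IH) (Lpr_ct (f495381 IH) (Lpn v1404))))
theorem f346770 : Led Lsl_af (LP (LK LD1_c0 LD2_c56 LD3_c33)) = (LP (LK LD1_c1 LD2_c10 LD3_c11)) :=
  Lgr Lrot68 (Lpr_ct (K11.f30819 IH) (Lpr_at (K23.f346768 IH) (Lpr_ct (K13.f182332 IH) (Lpn (LP (LK LD1_c1 LD2_c10 LD3_c11))))))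
theorem f346764 : Led Lsl_ft (LP (LK LD1_c0 LD2_c56 LD3_c33)) = (LP (LK LD1_c1 LD2_c10 LD3_c12)) :=
  Lgr Lrot4 (Lpe (K12.f53106 IH) (Lpr_ff (K23.f346760 IH) (Lpe (K11.f182325 IH) (Lpn (LP (LK LD1_c1 LD2_c10 LD3_c12))))))
theorem f315096 : Led Lsl_ft (LP (LK LD1_c1 LD2_c19 LD3_c1)) = (LP (LK LD1_c1 LD2_c10 LD3_c11)) :=
  Lgr Lrot54 (Lpr_df (K19.f315092 IH) (Lpe (K19.f196985 IH) (Lpe (K11.f196958 IH) (Lpn (LP (LK LD1_c1 LD2_c10 LD3_c11))))))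
theorem f394644 : Led Lsl_at (LP (LK LD1_c1 LD2_c10 LD3_c12)) = (LP (LK LD1_c1 LD2_c19 LD3_c1)) :=
  Lgr Lrot66 (Lpe (f346764 IH) (Lpr_af (f346770 IH) (Lpe (f315096 IH) (Lpn (LP (LK LD1_c1 LD2_c19 LD3_c1))))))
theorem f394650 : Led Lsl_af (LP (LK LD1_c2 LD2_c26 LD3_c3)) = (LP (LK LD1_c2 LD2_c8 LD3_c41)) :=
  Lgr Lrot68 (Lpr_ct (K11.f182326 IH) (Lpr_at (f394644 IH) (Lpr_ct (K13.f173283 IH) (Lpn (LP (LK LD1_c2 LD2_c8 LD3_c41))))))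
theorem f394652 : Led Lsl_ft (LP (LK LD1_c2 LD2_c26 LD3_c2)) = (LP (LK LD1_c2 LD2_c8 LD3_c41)) :=
  Lgr Lrot101 (Lpe (K23.f346768 IH) (Lpr_ff (K23.f346760 IH) (Lpr_af (f394650 IH) (Lpn (LP (LK LD1_c2 LD2_c8 LD3_c41))))))
theorem f493997 : Led Lsl_ft K35.v472 = K32.v1212 :=
  Lgr Lrot48 (Lpr_ff (K35.f493996 IH) (Lpn K32.v1212))
theorem f495389 : Led Lsl_et K32.v1212 = v1404 :=
  Lgr Lrot69 (Lpe (f493997 IH) (Lpe (K35.f453524 IH) (Lpe (f394652 IH) (Lpe (K13.f211234 IH) (Lpr_ff (f495385 IH) (Lpn v1404))))))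
theorem f537040 : v1404 = (LP (LK LD1_c1 LD2_c57 LD3_c44)) :=
  Lefun (Lecon (f495389 IH) (K35.f536830 IH).symm) (K10.f81195 IH)
theorem f240042 : Led Lsl_bt (LP (LK LD1_c5 LD2_c9 LD3_c4)) = (LP (LK LD1_c10 LD2_c8 LD3_c42)) :=
  Lre_b IH (LK LD1_c5 LD2_c9 LD3_c4) (LK LD1_c10 LD2_c8 LD3_c42) Lrfl Lrfl
theorem f240051 : Led Lsl_gt (LP (LK LD1_c10 LD2_c8 LD3_c42)) = (LP (LK LD1_c18 LD2_c28 LD3_c39)) :=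
  Lre_g IH (LK LD1_c10 LD2_c8 LD3_c42) (LK LD1_c18 LD2_c28 LD3_c39) Lrfl Lrfl
theorem f929958 : Led Lsl_df (LP (LK LD1_c15 LD2_c11 LD3_c6)) = (LP (LK LD1_c18 LD2_c28 LD3_c39)) :=
  Lgr Lrot183 (Lpr_ct (f929957 IH) (Lpe (f929952 IH) (Lpe (K15.f257529 IH) (Lpr_dt (K14.f32890 IH) (Lpr_ct (K14.f32889 IH) (Lpr_bt (K10.f32888 IH) (Lpr_gt (K10.f32886 IH) (Lpr_dt (K2.f32280 IH) (Lpe (K1.f32290 IH) (Lpr_bt (K0.f31541 IH) (Lpe (K10.f192345 IH) (Lpr_dt (K15.f182030 IH) (Lpr_ct (f495381 IH) (Lpqs (f537040 IH) (Lpr_bt (K10.f33710 IH) (Lpr_gt (K10.f69754 IH) (Lpr_dt (K13.f80331 IH) (Lpe (K13.f239961 IH) (Lpr_bt (f240042 IH) (Lpr_gt (f240051 IH) (Lpn (LP (LK LD1_c18 LD2_c28 LD3_c39)))))))))))))))))))))))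
theorem f929959 : Led Lsl_dt (LP (LK LD1_c18 LD2_c28 LD3_c39)) = (LP (LK LD1_c15 LD2_c11 LD3_c6)) :=
  Leop (Lpr_df (f929958 IH) (Lpn (LP (LK LD1_c18 LD2_c28 LD3_c39))))
theorem seed_2563 : LEOK LG_d (LK LD1_c18 LD2_c28 LD3_c39) :=
  Leoe_d (LK LD1_c18 LD2_c28 LD3_c39) (f929959 IH)
def v41899 : LQ := Led Lsl_at (LP (LK LD1_c10 LD2_c3 LD3_c39))
theorem f930048 : Led Lsl_at (LP (LK LD1_c10 LD2_c3 LD3_c39)) = v41899 :=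
  Lrfl
theorem f721246 : Led Lsl_ft (LP (LK LD1_c5 LD2_c6 LD3_c17)) = (LP (LK LD1_c5 LD2_c12 LD3_c16)) :=
  Lgr Lrot75 (Lpe (K44.f180603 IH) (Lpr_ff (K53.f721240 IH) (Lpe (K53.f408370 IH) (Lpn (LP (LK LD1_c5 LD2_c12 LD3_c16))))))
theorem f169674 : Led Lsl_gt (LP (LK LD1_c5 LD2_c6 LD3_c18)) = (LP (LK LD1_c2 LD2_c30 LD3_c25)) :=
  Lre_g IH (LK LD1_c5 LD2_c6 LD3_c18) (LK LD1_c2 LD2_c30 LD3_c25) Lrfl Lrfl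
theorem f300605 : Led Lsl_gt (LP (LK LD1_c5 LD2_c12 LD3_c18)) = (LP (LK LD1_c5 LD2_c6 LD3_c18)) :=
  Lgr Lrot5 (Lpr_ft (K18.f300594 IH) (Lpr_at (K18.f169994 IH) (Lpe (f169674 IH) (Lpn (LP (LK LD1_c5 LD2_c6 LD3_c18))))))
theorem f721474 : Led Lsl_af (LP (LK LD1_c5 LD2_c6 LD3_c18)) = (LP (LK LD1_c5 LD2_c12 LD3_c16)) :=
  Lgr Lrot31 (Lpe (f300605 IH) (Lpr_gf (K44.f300619 IH) (Lpr_ft (f721246 IH) (Lpn (LP (LK LD1_c5 LD2_c12 LD3_c16))))))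
theorem f300607 : Led Lsl_dt (LP (LK LD1_c5 LD2_c6 LD3_c18)) = (LP (LK LD1_c10 LD2_c3 LD3_c41)) :=
  Lre_d IH (LK LD1_c5 LD2_c6 LD3_c18) (LK LD1_c10 LD2_c3 LD3_c41) Lrfl Lrfl
theorem f721480 : Led Lsl_at (LP (LK LD1_c10 LD2_c3 LD3_c41)) = (LP (LK LD1_c9 LD2_c59 LD3_c27)) :=
  Lgr Lrot51 (Lpe (f300607 IH) (Lpr_af (f721474 IH) (Lpr_df (K53.f585440 IH) (Lpn (LP (LK LD1_c9 LD2_c59 LD3_c27))))))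
theorem f166113 : Led Lsl_gt (LP (LK LD1_c9 LD2_c59 LD3_c28)) = (LP (LK LD1_c5 LD2_c4 LD3_c16)) :=
  Lre_g IH (LK LD1_c9 LD2_c59 LD3_c28) (LK LD1_c5 LD2_c4 LD3_c16) Lrfl Lrfl
theorem f721488 : Led Lsl_ff (LP (LK LD1_c10 LD2_c3 LD3_c41)) = (LP (LK LD1_c9 LD2_c59 LD3_c28)) :=
  Lgr Lrot52 (Lpr_at (f721480 IH) (Lpe (K53.f169802 IH) (Lpe (f166113 IH) (Lpn (LP (LK LD1_c9 LD2_c59 LD3_c28))))))
theorem f721494 : Led Lsl_ft (LP (LK LD1_c10 LD2_c3 LD3_c41)) = (LP (LK LD1_c9 LD2_c59 LD3_c28)) :=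
  Lgr Lrot48 (Lpr_ff (f721488 IH) (Lpn (LP (LK LD1_c9 LD2_c59 LD3_c28))))
theorem f166112 : Led Lsl_dt (LP (LK LD1_c5 LD2_c4 LD3_c16)) = (LP (LK LD1_c2 LD2_c29 LD3_c32)) :=
  Lre_d IH (LK LD1_c5 LD2_c4 LD3_c16) (LK LD1_c2 LD2_c29 LD3_c32) Lrfl Lrfl
theorem f585395 : Led Lsl_dt (LP (LK LD1_c5 LD2_c12 LD3_c17)) = (LP (LK LD1_c9 LD2_c59 LD3_c28)) :=
  Lgr Lrot57 (Lpr_gf (f406642 IH) (Lpe (f300583 IH) (Lpe (K44.f300597 IH) (Lpr_dt (K44.f585198 IH) (Lpe (K44.f584750 IH) (Lpr_dt (K44.f166058 IH) (Lpe (K44.f165410 IH) (Lpe (f166112 IH) (Lpe (f166113 IH) (Lpn (LP (LK LD1_c9 LD2_c59 LD3_c28))))))))))))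
theorem f585402 : Led Lsl_df (LP (LK LD1_c5 LD2_c12 LD3_c17)) = (LP (LK LD1_c9 LD2_c59 LD3_c28)) :=
  Lgr Lrot38 (Lpr_dt (f585395 IH) (Lpn (LP (LK LD1_c9 LD2_c59 LD3_c28))))
theorem f721498 : Led Lsl_ff (LP (LK LD1_c5 LD2_c6 LD3_c18)) = (LP (LK LD1_c5 LD2_c12 LD3_c17)) :=
  Lgr Lrot19 (Lpr_dt (f300607 IH) (Lpr_ft (f721494 IH) (Lpe (f585402 IH) (Lpn (LP (LK LD1_c5 LD2_c12 LD3_c17))))))
theorem f585883 : Led Lsl_bt (LP (LK LD1_c5 LD2_c6 LD3_c18)) = (LP (LK LD1_c10 LD2_c3 LD3_c39)) :=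
  Lre_b IH (LK LD1_c5 LD2_c6 LD3_c18) (LK LD1_c10 LD2_c3 LD3_c39) Lrfl Lrfl
theorem f721502 : Led Lsl_ft (LP (LK LD1_c10 LD2_c3 LD3_c39)) = (LP (LK LD1_c10 LD2_c15 LD3_c13)) :=
  Lgr Lrot75 (Lpe (f585883 IH) (Lpr_ff (f721498 IH) (Lpe (f406493 IH) (Lpn (LP (LK LD1_c10 LD2_c15 LD3_c13))))))
theorem f721524 : Led Lsl_ff (LP (LK LD1_c10 LD2_c3 LD3_c39)) = (LP (LK LD1_c10 LD2_c15 LD3_c13)) :=
  Lgr Lrot3 (Lpr_ft (f721502 IH) (Lpn (LP (LK LD1_c10 LD2_c15 LD3_c13))))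
theorem f930052 : Led Lsl_gt (LP (LK LD1_c18 LD2_c39 LD3_c15)) = v41899 :=
  Lgr Lrot46 (Lpe (K71.f585416 IH) (Lpe (f721524 IH) (Lpr_at (f930048 IH) (Lpn v41899))))
theorem f584614 : Led Lsl_gf (LP (LK LD1_c18 LD2_c10 LD3_c43)) = (LP (LK LD1_c9 LD2_c56 LD3_c4)) :=
  Lgr Lrot47 (Lpr_gt (K71.f300627 IH) (Lpe (f584502 IH) (Lpr_ff (K44.f584587 IH) (Lpn (LP (LK LD1_c9 LD2_c56 LD3_c4))))))
theorem f585210 : Led Lsl_bt (LP (LK LD1_c18 LD2_c10 LD3_c46)) = (LP (LK LD1_c18 LD2_c21 LD3_c51)) :=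
  Lgr Lrot62 (Lpe (f584565 IH) (Lpe (f584564 IH) (Lpe (K44.f584560 IH) (Lpe (K44.f185407 IH) (Lpr_af (K44.f585206 IH) (Lpn (LP (LK LD1_c18 LD2_c21 LD3_c51))))))))
theorem f585220 : Led Lsl_bt (LP (LK LD1_c18 LD2_c10 LD3_c41)) = (LP (LK LD1_c18 LD2_c33 LD3_c39)) :=
  Lgr Lrot35 (Lpr_ff (K44.f585218 IH) (Lpe (f585210 IH) (Lpe (f585149 IH) (Lpn (LP (LK LD1_c18 LD2_c33 LD3_c39))))))
theorem f585282 : Led Lsl_gf (LP (LK LD1_c18 LD2_c10 LD3_c23)) = (LP (LK LD1_c18 LD2_c33 LD3_c39)) :=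
  Lgr Lrot181 (Lpe (K71.f240458 IH) (Lpr_gt (K71.f240330 IH) (Lpe (K71.f240286 IH) (Lpr_bt (K44.f181922 IH) (Lpr_gt (K20.f240361 IH) (Lpe (K44.f186790 IH) (Lpr_ct (K44.f186793 IH) (Lpr_gt (K44.f240460 IH) (Lpr_cf (f585241 IH) (Lpr_bt (f585220 IH) (Lpn (LP (LK LD1_c18 LD2_c33 LD3_c39)))))))))))))
theorem f585284 : Led Lsl_gt (LP (LK LD1_c18 LD2_c10 LD3_c23)) = (LP (LK LD1_c9 LD2_c56 LD3_c3)) :=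
  Lgr Lrot46 (Lpr_gf (f585282 IH) (Lpr_ft (f585149 IH) (Lpr_at (f585148 IH) (Lpn (LP (LK LD1_c9 LD2_c56 LD3_c3))))))
theorem f212195 : Led Lsl_bt (LP (LK LD1_c18 LD2_c20 LD3_c36)) = (LP (LK LD1_c27 LD2_c59 LD3_c15)) :=
  Lre_b IH (LK LD1_c18 LD2_c20 LD3_c36) (LK LD1_c27 LD2_c59 LD3_c15) Lrfl Lrfl
theorem f285015 : Led Lsl_ft (LP (LK LD1_c5 LD2_c17 LD3_c29)) = (LP (LK LD1_c9 LD2_c52 LD3_c20)) :=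
  Lgr Lrot4 (Lpe (K15.f48195 IH) (Lpr_ff (K26.f285013 IH) (Lpe (K17.f284979 IH) (Lpn (LP (LK LD1_c9 LD2_c52 LD3_c20))))))
theorem f189794 : Led Lsl_bt (LP (LK LD1_c10 LD2_c24 LD3_c31)) = (LP (LK LD1_c5 LD2_c17 LD3_c29)) :=
  Lre_b IH (LK LD1_c10 LD2_c24 LD3_c31) (LK LD1_c5 LD2_c17 LD3_c29) Lrfl Lrfl
theorem f284974 : Led Lsl_bt (LP (LK LD1_c9 LD2_c52 LD3_c20)) = (LP (LK LD1_c18 LD2_c4 LD3_c18)) :=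
  Lre_b IH (LK LD1_c9 LD2_c52 LD3_c20) (LK LD1_c18 LD2_c4 LD3_c18) Lrfl Lrfl
theorem f285017 : Led Lsl_ff (LP (LK LD1_c10 LD2_c24 LD3_c31)) = (LP (LK LD1_c18 LD2_c4 LD3_c18)) :=
  Lgr Lrot25 (Lpr_bt (f189794 IH) (Lpr_ft (f285015 IH) (Lpr_bt (f284974 IH) (Lpn (LP (LK LD1_c18 LD2_c4 LD3_c18))))))
theorem f285021 : Led Lsl_ft (LP (LK LD1_c10 LD2_c24 LD3_c31)) = (LP (LK LD1_c18 LD2_c4 LD3_c18)) :=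
  Lgr Lrot48 (Lpr_ff (f285017 IH) (Lpn (LP (LK LD1_c18 LD2_c4 LD3_c18))))
theorem f47761 : Led Lsl_bt (LP (LK LD1_c5 LD2_c15 LD3_c21)) = (LP (LK LD1_c10 LD2_c20 LD3_c1)) :=
  Lre_b IH (LK LD1_c5 LD2_c15 LD3_c21) (LK LD1_c10 LD2_c20 LD3_c1) Lrfl Lrfl
theorem f189795 : Led Lsl_cf (LP (LK LD1_c10 LD2_c24 LD3_c31)) = (LP (LK LD1_c10 LD2_c20 LD3_c1)) :=
  Lgr Lrot97 (Lpr_bt (f189794 IH) (Lpr_ct (K15.f48206 IH) (Lpr_bt (K10.f189786 IH) (Lpr_ct (K14.f47748 IH) (Lpr_bt (f47761 IH) (Lpn (LP (LK LD1_c10 LD2_c20 LD3_c1))))))))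
theorem f263071 : Led Lsl_bt (LP (LK LD1_c10 LD2_c2 LD3_c20)) = (LP (LK LD1_c18 LD2_c20 LD3_c34)) :=
  Lre_b IH (LK LD1_c10 LD2_c2 LD3_c20) (LK LD1_c18 LD2_c20 LD3_c34) Lrfl Lrfl
theorem f188502 : Led Lsl_bt (LP (LK LD1_c18 LD2_c4 LD3_c18)) = (LP (LK LD1_c9 LD2_c52 LD3_c20)) :=
  Lre_b IH (LK LD1_c18 LD2_c4 LD3_c18) (LK LD1_c9 LD2_c52 LD3_c20) Lrfl Lrfl
theorem f285007 : Led Lsl_ct (LP (LK LD1_c18 LD2_c20 LD3_c34)) = (LP (LK LD1_c18 LD2_c4 LD3_c18)) :=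
  Lgr Lrot83 (Lpe (f263071 IH) (Lpe (K20.f263068 IH) (Lpr_bf (K26.f284998 IH) (Lpe (K17.f284979 IH) (Lpe (f188502 IH) (Lpn (LP (LK LD1_c18 LD2_c4 LD3_c18))))))))
theorem f285009 : Led Lsl_cf (LP (LK LD1_c18 LD2_c20 LD3_c34)) = (LP (LK LD1_c18 LD2_c4 LD3_c18)) :=
  Lgr Lrot11 (Lpr_ct (f285007 IH) (Lpn (LP (LK LD1_c18 LD2_c4 LD3_c18))))
theorem f285027 : Led Lsl_ff (LP (LK LD1_c10 LD2_c20 LD3_c1)) = (LP (LK LD1_c18 LD2_c20 LD3_c34)) :=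
  Lgr Lrot23 (Lpe (f189795 IH) (Lpr_ft (f285021 IH) (Lpe (f285009 IH) (Lpn (LP (LK LD1_c18 LD2_c20 LD3_c34))))))
theorem f285044 : Led Lsl_ft (LP (LK LD1_c10 LD2_c20 LD3_c1)) = (LP (LK LD1_c18 LD2_c20 LD3_c34)) :=
  Lgr Lrot48 (Lpr_ff (f285027 IH) (Lpn (LP (LK LD1_c18 LD2_c20 LD3_c34))))
theorem f285046 : Led Lsl_at (LP (LK LD1_c18 LD2_c45 LD3_c35)) = (LP (LK LD1_c10 LD2_c20 LD3_c1)) :=
  Lre_a IH (LK LD1_c18 LD2_c45 LD3_c35) (LK LD1_c10 LD2_c20 LD3_c1) Lrfl Lrfl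
theorem f263107 : Led Lsl_at (LP (LK LD1_c18 LD2_c20 LD3_c34)) = (LP (LK LD1_c27 LD2_c59 LD3_c15)) :=
  Lre_a IH (LK LD1_c18 LD2_c20 LD3_c34) (LK LD1_c27 LD2_c59 LD3_c15) Lrfl Lrfl
theorem f285047 : Led Lsl_ff (LP (LK LD1_c18 LD2_c45 LD3_c35)) = (LP (LK LD1_c27 LD2_c59 LD3_c15)) :=
  Lgr Lrot30 (Lpr_at (f285046 IH) (Lpr_ft (f285044 IH) (Lpr_at (f263107 IH) (Lpn (LP (LK LD1_c27 LD2_c59 LD3_c15))))))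
theorem f231949 : Led Lsl_gt (LP (LK LD1_c18 LD2_c45 LD3_c34)) = (LP (LK LD1_c10 LD2_c20 LD3_c1)) :=
  Lre_g IH (LK LD1_c18 LD2_c45 LD3_c34) (LK LD1_c10 LD2_c20 LD3_c1) Lrfl Lrfl
theorem f285067 : Led Lsl_gf (LP (LK LD1_c18 LD2_c45 LD3_c34)) = (LP (LK LD1_c27 LD2_c59 LD3_c15)) :=
  Lgr Lrot47 (Lpr_gt (f231949 IH) (Lpe (f285046 IH) (Lpr_ff (f285047 IH) (Lpn (LP (LK LD1_c27 LD2_c59 LD3_c15))))))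
theorem f231950 : Led Lsl_bt (LP (LK LD1_c28 LD2_c15 LD3_c15)) = (LP (LK LD1_c18 LD2_c45 LD3_c34)) :=
  Lre_b IH (LK LD1_c28 LD2_c15 LD3_c15) (LK LD1_c18 LD2_c45 LD3_c34) Lrfl Lrfl
theorem f584241 : Led Lsl_ct (LP (LK LD1_c28 LD2_c5 LD3_c8)) = (LP (LK LD1_c32 LD2_c31 LD3_c37)) :=
  Lgr Lrot59 (Lpr_cf (f584239 IH) (Lpn (LP (LK LD1_c32 LD2_c31 LD3_c37))))
theorem f285051 : Led Lsl_cf (LP (LK LD1_c10 LD2_c20 LD3_c1)) = (LP (LK LD1_c10 LD2_c24 LD3_c31)) :=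
  Lgr Lrot108 (Lpr_ft (f285044 IH) (Lpr_ct (f285007 IH) (Lpe (f285017 IH) (Lpn (LP (LK LD1_c10 LD2_c24 LD3_c31))))))
theorem f285059 : Led Lsl_ct (LP (LK LD1_c28 LD2_c15 LD3_c16)) = (LP (LK LD1_c18 LD2_c45 LD3_c34)) :=
  Lre_c IH (LK LD1_c28 LD2_c15 LD3_c16) (LK LD1_c18 LD2_c45 LD3_c34) Lrfl Lrfl
theorem f285452 : Led Lsl_bf (LP (LK LD1_c28 LD2_c5 LD3_c8)) = (LP (LK LD1_c28 LD2_c15 LD3_c16)) :=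
  Lgr Lrot34 (Lpe (f246193 IH) (Lpe (K44.f246192 IH) (Lpr_ct (K19.f190997 IH) (Lpr_gf (K26.f285447 IH) (Lpe (K13.f53599 IH) (Lpr_gf (K26.f259382 IH) (Lpe (f189794 IH) (Lpe (f285051 IH) (Lpe (f231949 IH) (Lpe (f285059 IH) (Lpn (LP (LK LD1_c28 LD2_c15 LD3_c16)))))))))))))
theorem f285069 : Led Lsl_ct (LP (LK LD1_c18 LD2_c45 LD3_c34)) = (LP (LK LD1_c28 LD2_c15 LD3_c16)) :=
  Lre_c IH (LK LD1_c18 LD2_c45 LD3_c34) (LK LD1_c28 LD2_c15 LD3_c16) Lrfl Lrfl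
theorem f584247 : Led Lsl_ct (LP (LK LD1_c28 LD2_c5 LD3_c35)) = (LP (LK LD1_c28 LD2_c15 LD3_c15)) :=
  Lgr Lrot83 (Lpr_bf (f584243 IH) (Lpe (f584241 IH) (Lpr_bf (f285452 IH) (Lpe (f285069 IH) (Lpe (f231950 IH) (Lpn (LP (LK LD1_c28 LD2_c15 LD3_c15))))))))
theorem f584249 : Led Lsl_cf (LP (LK LD1_c28 LD2_c5 LD3_c35)) = (LP (LK LD1_c28 LD2_c15 LD3_c15)) :=
  Lgr Lrot11 (Lpr_ct (f584247 IH) (Lpn (LP (LK LD1_c28 LD2_c15 LD3_c15))))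
theorem f259745 : Led Lsl_ct (LP (LK LD1_c10 LD2_c20 LD3_c31)) = (LP (LK LD1_c18 LD2_c31 LD3_c17)) :=
  Lgr Lrot59 (Lpr_cf (K53.f259738 IH) (Lpn (LP (LK LD1_c18 LD2_c31 LD3_c17))))
theorem f259743 : Led Lsl_bt (LP (LK LD1_c10 LD2_c20 LD3_c31)) = (LP (LK LD1_c18 LD2_c46 LD3_c12)) :=
  Lre_b IH (LK LD1_c10 LD2_c20 LD3_c31) (LK LD1_c18 LD2_c46 LD3_c12) Lrfl Lrfl
theorem f923098 : Led Lsl_gt (LP (LK LD1_c18 LD2_c46 LD3_c12)) = v41284 :=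
  Lgr Lrot82 (Lpe (f259743 IH) (Lpr_ct (f259745 IH) (Lpe (f259740 IH) (Lpr_cf (f584249 IH) (Lpr_bt (f231950 IH) (Lpr_gf (f285067 IH) (Lpe (f212195 IH) (Lpr_ct (K71.f212196 IH) (Lpr_gf (K71.f410239 IH) (Lpr_cf (f923096 IH) (Lpn v41284)))))))))))
theorem f930053 : Led Lsl_cf (LP (LK LD1_c18 LD2_c46 LD3_c12)) = v41899 :=
  Lgr Lrot125 (Lpr_gt (f923098 IH) (Lpe (f923095 IH) (Lpr_bt (K71.f240463 IH) (Lpr_gt (f585284 IH) (Lpe (f584564 IH) (Lpr_ct (K44.f299731 IH) (Lpe (f584614 IH) (Lpr_cf (f928811 IH) (Lpe (f928809 IH) (Lpr_gt (f930052 IH) (Lpn v41899)))))))))))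
theorem f721258 : Led Lsl_at (LP (LK LD1_c18 LD2_c31 LD3_c18)) = (LP (LK LD1_c10 LD2_c15 LD3_c10)) :=
  Lgr Lrot107 (Lpe (K69.f259749 IH) (Lpr_af (K53.f721254 IH) (Lpr_cf (K53.f408327 IH) (Lpn (LP (LK LD1_c10 LD2_c15 LD3_c10))))))
theorem f930050 : Led Lsl_bf (LP (LK LD1_c18 LD2_c31 LD3_c18)) = v41899 :=
  Lgr Lrot81 (Lpr_at (f721258 IH) (Lpr_bt (K53.f300643 IH) (Lpe (f721474 IH) (Lpr_bt (f585883 IH) (Lpr_at (f930048 IH) (Lpn v41899))))))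
theorem f923987 : Led Lsl_bf (LP (LK LD1_c18 LD2_c22 LD3_c15)) = (LP (LK LD1_c18 LD2_c41 LD3_c44)) :=
  Lgr Lrot156 (Lpr_gt (f180612 IH) (Lpe (K44.f180614 IH) (Lpr_ct (K44.f169667 IH) (Lpr_gt (K44.f169668 IH) (Lpe (K44.f422703 IH) (Lpr_bt (K44.f285243 IH) (Lpr_gt (K44.f285240 IH) (Lpr_ct (K45.f180611 IH) (Lpr_gt (K71.f169544 IH) (Lpr_cf (K71.f923979 IH) (Lpn (LP (LK LD1_c18 LD2_c41 LD3_c44)))))))))))))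
theorem f930058 : Led Lsl_gf (LP (LK LD1_c18 LD2_c46 LD3_c12)) = K71.v41289 :=
  Lgr Lrot129 (Lpr_cf (f930053 IH) (Lpe (f930050 IH) (Lpe (f721402 IH) (Lpr_bf (f923987 IH) (Lpe (K71.f923979 IH) (Lpr_gt (K71.f923978 IH) (Lpe (K71.f923194 IH) (Lpe (K44.f276052 IH) (Lpr_gt (K71.f410249 IH) (Lpr_ct (K71.f923113 IH) (Lpn K71.v41289)))))))))))
theorem f410234 : Led Lsl_dt (LP (LK LD1_c5 LD2_c2 LD3_c28)) = (LP (LK LD1_c9 LD2_c55 LD3_c50)) :=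
  Lre_d IH (LK LD1_c5 LD2_c2 LD3_c28) (LK LD1_c9 LD2_c55 LD3_c50) Lrfl Lrfl
def v41297 : LQ := Led Lsl_gt (LP (LK LD1_c9 LD2_c55 LD3_c50))
theorem f923162 : Led Lsl_gt (LP (LK LD1_c9 LD2_c55 LD3_c50)) = v41297 :=
  Lrfl
theorem f926025 : Led Lsl_gt v41297 = v41451 :=
  Lgr Lrot46 (Lpe (f923162 IH) (Lpe (f410232 IH) (Lpr_at (f926020 IH) (Lpn v41451))))
theorem f928750 : v41297 = (LP (LK LD1_c5 LD2_c16 LD3_c38)) :=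
  Lefun (Lecon (Lfl_gt (f926025 IH)) (f928744 IH).symm) (Lfl_gt (f48582 IH))
theorem f35080 : Led Lsl_dt (LP (LK LD1_c5 LD2_c16 LD3_c38)) = (LP (LK LD1_c2 LD2_c35 LD3_c3)) :=
  Lre_d IH (LK LD1_c5 LD2_c16 LD3_c38) (LK LD1_c2 LD2_c35 LD3_c3) Lrfl Lrfl
theorem f166108 : Led Lsl_dt (LP (LK LD1_c10 LD2_c22 LD3_c44)) = (LP (LK LD1_c5 LD2_c16 LD3_c37)) :=
  Lre_d IH (LK LD1_c10 LD2_c22 LD3_c44) (LK LD1_c5 LD2_c16 LD3_c37) Lrfl Lrfl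
theorem f343425 : Led Lsl_gt (LP (LK LD1_c18 LD2_c49 LD3_c61)) = (LP (LK LD1_c10 LD2_c22 LD3_c44)) :=
  Lre_g IH (LK LD1_c18 LD2_c49 LD3_c61) (LK LD1_c10 LD2_c22 LD3_c44) Lrfl Lrfl
theorem f930059 : Led Lsl_dt (LP (LK LD1_c18 LD2_c46 LD3_c12)) = (LP (LK LD1_c18 LD2_c49 LD3_c61)) :=
  Lgr Lrot57 (Lpr_gf (f930058 IH) (Lpe (K71.f923113 IH) (Lpr_gt (K71.f252258 IH) (Lpr_dt (f410234 IH) (Lpr_gt (f923162 IH) (Lpqs (f928750 IH) (Lpr_dt (f35080 IH) (Lpe (K53.f35081 IH) (Lpe (f166108 IH) (Lpe (f343425 IH) (Lpn (LP (LK LD1_c18 LD2_c49 LD3_c61)))))))))))))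
theorem f930060 : Led Lsl_dt (LP (LK LD1_c18 LD2_c46 LD3_c12)) = (LP (LK LD1_c18 LD2_c49 LD3_c61)) :=
  Leop (Lpe (f930059 IH) (Lpn (LP (LK LD1_c18 LD2_c46 LD3_c12))))
theorem seed_2564 : LEOK LG_d (LK LD1_c18 LD2_c46 LD3_c12) :=
  Leoe_d (LK LD1_c18 LD2_c46 LD3_c12) (f930060 IH)
def v41903 : LQ := Led Lsl_dt (LP (LK LD1_c10 LD2_c3 LD3_c40))
theorem f930090 : Led Lsl_dt (LP (LK LD1_c10 LD2_c3 LD3_c40)) = v41903 :=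
  Lrfl
theorem f930091 : Led Lsl_df (LP (LK LD1_c10 LD2_c3 LD3_c40)) = v41903 :=
  Lgr Lrot38 (Lpr_dt (f930090 IH) (Lpn v41903))
theorem f169998 : Led Lsl_ct (LP (LK LD1_c10 LD2_c3 LD3_c40)) = (LP (LK LD1_c5 LD2_c6 LD3_c18)) :=
  Lre_c IH (LK LD1_c10 LD2_c3 LD3_c40) (LK LD1_c5 LD2_c6 LD3_c18) Lrfl Lrfl
theorem f169675 : Led Lsl_dt (LP (LK LD1_c10 LD2_c3 LD3_c41)) = (LP (LK LD1_c5 LD2_c6 LD3_c18)) :=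
  Lre_d IH (LK LD1_c10 LD2_c3 LD3_c41) (LK LD1_c5 LD2_c6 LD3_c18) Lrfl Lrfl
theorem f721486 : Led Lsl_af (LP (LK LD1_c10 LD2_c3 LD3_c41)) = (LP (LK LD1_c9 LD2_c59 LD3_c27)) :=
  Lgr Lrot0 (Lpr_at (f721480 IH) (Lpn (LP (LK LD1_c9 LD2_c59 LD3_c27))))
theorem f721230 : Led Lsl_ft (LP (LK LD1_c10 LD2_c3 LD3_c37)) = (LP (LK LD1_c9 LD2_c59 LD3_c27)) :=
  Lgr Lrot75 (Lpe (K53.f721214 IH) (Lpr_ff (K53.f721226 IH) (Lpe (K53.f585447 IH) (Lpn (LP (LK LD1_c9 LD2_c59 LD3_c27))))))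
theorem f721526 : Led Lsl_gf (LP (LK LD1_c10 LD2_c3 LD3_c41)) = K53.v14255 :=
  Lgr Lrot76 (Lpr_af (f721486 IH) (Lpe (f721230 IH) (Lpr_gt (K53.f721213 IH) (Lpn K53.v14255))))
theorem f930094 : Led Lsl_gt (LP (LK LD1_c18 LD2_c57 LD3_c7)) = v41903 :=
  Lgr Lrot49 (Lpe (K44.f185250 IH) (Lpe (K44.f185197 IH) (Lpe (K44.f185196 IH) (Lpr_gt (K44.f405288 IH) (Lpr_dt (K53.f721209 IH) (Lpe (f721526 IH) (Lpr_dt (f169675 IH) (Lpe (f169998 IH) (Lpr_df (f930091 IH) (Lpn v41903))))))))))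
theorem f930095 : Led Lsl_bt (LP (LK LD1_c18 LD2_c59 LD3_c51)) = v41903 :=
  Lgr Lrot92 (Lpe (K53.f585433 IH) (Lpr_gt (K53.f406828 IH) (Lpr_cf (K53.f249295 IH) (Lpe (K53.f300310 IH) (Lpe (K44.f300597 IH) (Lpr_ct (K44.f186804 IH) (Lpr_gt (K44.f585875 IH) (Lpr_cf (K44.f422705 IH) (Lpe (K44.f585869 IH) (Lpr_gt (f930094 IH) (Lpn v41903)))))))))))
theorem f300608 : Led Lsl_bt (LP (LK LD1_c10 LD2_c3 LD3_c40)) = (LP (LK LD1_c18 LD2_c22 LD3_c19)) :=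
  Lre_b IH (LK LD1_c10 LD2_c3 LD3_c40) (LK LD1_c18 LD2_c22 LD3_c19) Lrfl Lrfl
theorem f930097 : Led Lsl_df (LP (LK LD1_c18 LD2_c59 LD3_c51)) = (LP (LK LD1_c18 LD2_c22 LD3_c19)) :=
  Lgr Lrot12 (Lpr_bt (f930095 IH) (Lpe (f930091 IH) (Lpr_bt (f300608 IH) (Lpn (LP (LK LD1_c18 LD2_c22 LD3_c19))))))
theorem f930098 : Led Lsl_dt (LP (LK LD1_c18 LD2_c22 LD3_c19)) = (LP (LK LD1_c18 LD2_c59 LD3_c51)) :=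
  Leop (Lpr_df (f930097 IH) (Lpn (LP (LK LD1_c18 LD2_c22 LD3_c19))))
theorem seed_2565 : LEOK LG_d (LK LD1_c18 LD2_c22 LD3_c19) :=
  Leoe_d (LK LD1_c18 LD2_c22 LD3_c19) (f930098 IH)
def v41905 : LQ := Led Lsl_ct (LP (LK LD1_c10 LD2_c3 LD3_c41))
theorem f930107 : Led Lsl_ct (LP (LK LD1_c10 LD2_c3 LD3_c41)) = v41905 :=
  Lrfl
theorem f585406 : Led Lsl_ct (LP (LK LD1_c18 LD2_c16 LD3_c0)) = (LP (LK LD1_c9 LD2_c59 LD3_c28)) :=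
  Lre_c IH (LK LD1_c18 LD2_c16 LD3_c0) (LK LD1_c9 LD2_c59 LD3_c28) Lrfl Lrfl
theorem f930110 : Led Lsl_ff (LP (LK LD1_c18 LD2_c16 LD3_c0)) = v41905 :=
  Lgr Lrot23 (Lpr_ct (f585406 IH) (Lpe (f721488 IH) (Lpr_ct (f930107 IH) (Lpn v41905))))
def v41891 : LQ := Led Lsl_ct (LP (LK LD1_c10 LD2_c3 LD3_c37))
theorem f930017 : Led Lsl_ct (LP (LK LD1_c10 LD2_c3 LD3_c37)) = v41891 :=
  Lrfl
theorem f930019 : Led Lsl_cf (LP (LK LD1_c10 LD2_c3 LD3_c37)) = v41891 :=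
  Lgr Lrot11 (Lpr_ct (f930017 IH) (Lpn v41891))
theorem f721223 : Led Lsl_bt (LP (LK LD1_c10 LD2_c3 LD3_c37)) = (LP (LK LD1_c18 LD2_c22 LD3_c16)) :=
  Lre_b IH (LK LD1_c10 LD2_c3 LD3_c37) (LK LD1_c18 LD2_c22 LD3_c16) Lrfl Lrfl
theorem f721238 : Led Lsl_ff (LP (LK LD1_c10 LD2_c3 LD3_c37)) = (LP (LK LD1_c9 LD2_c59 LD3_c27)) :=
  Lgr Lrot25 (Lpr_bt (f721223 IH) (Lpr_ft (K53.f721234 IH) (Lpr_bt (K53.f169824 IH) (Lpn (LP (LK LD1_c9 LD2_c59 LD3_c27))))))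
theorem f721490 : Led Lsl_at (LP (LK LD1_c10 LD2_c3 LD3_c37)) = (LP (LK LD1_c9 LD2_c59 LD3_c28)) :=
  Lgr Lrot66 (Lpr_ff (f721238 IH) (Lpe (f721480 IH) (Lpr_ff (f721488 IH) (Lpn (LP (LK LD1_c9 LD2_c59 LD3_c28))))))
theorem f585400 : Led Lsl_ct (LP (LK LD1_c9 LD2_c59 LD3_c28)) = (LP (LK LD1_c18 LD2_c16 LD3_c0)) :=
  Lre_c IH (LK LD1_c9 LD2_c59 LD3_c28) (LK LD1_c18 LD2_c16 LD3_c0) Lrfl Lrfl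
theorem f930024 : Led Lsl_at (LP (LK LD1_c18 LD2_c16 LD3_c0)) = v41891 :=
  Lgr Lrot107 (Lpe (f585400 IH) (Lpe (f721490 IH) (Lpr_cf (f930019 IH) (Lpn v41891))))
def v41610 : LQ := Led Lsl_ct (LP (LK LD1_c9 LD2_c59 LD3_c27))
theorem f927123 : Led Lsl_ct (LP (LK LD1_c9 LD2_c59 LD3_c27)) = v41610 :=
  Lrfl
theorem f927124 : Led Lsl_cf (LP (LK LD1_c9 LD2_c59 LD3_c27)) = v41610 :=
  Lgr Lrot11 (Lpr_ct (f927123 IH) (Lpn v41610))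
theorem f930020 : Led Lsl_ff v41610 = v41891 :=
  Lgr Lrot23 (Lpe (f927124 IH) (Lpe (f721238 IH) (Lpr_ct (f930017 IH) (Lpn v41891))))
theorem f930111 : Led Lsl_at v41610 = v41905 :=
  Lgr Lrot66 (Lpr_ff (f930020 IH) (Lpe (f930024 IH) (Lpr_ff (f930110 IH) (Lpn v41905))))
theorem f165273 : Led Lsl_dt (LP (LK LD1_c5 LD2_c11 LD3_c14)) = (LP (LK LD1_c2 LD2_c32 LD3_c35)) :=
  Lre_d IH (LK LD1_c5 LD2_c11 LD3_c14) (LK LD1_c2 LD2_c32 LD3_c35) Lrfl Lrfl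
theorem f185255 : Led Lsl_dt (LP (LK LD1_c5 LD2_c18 LD3_c45)) = (LP (LK LD1_c10 LD2_c27 LD3_c14)) :=
  Lre_d IH (LK LD1_c5 LD2_c18 LD3_c45) (LK LD1_c10 LD2_c27 LD3_c14) Lrfl Lrfl
theorem f185254 : Led Lsl_ct (LP (LK LD1_c18 LD2_c57 LD3_c9)) = (LP (LK LD1_c10 LD2_c27 LD3_c14)) :=
  Lre_c IH (LK LD1_c18 LD2_c57 LD3_c9) (LK LD1_c10 LD2_c27 LD3_c14) Lrfl Lrfl
theorem f930021 : Led Lsl_gf (LP (LK LD1_c18 LD2_c57 LD3_c9)) = v41891 :=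
  Lgr Lrot104 (Lpr_ct (f185254 IH) (Lpe (f185255 IH) (Lpe (K53.f185244 IH) (Lpe (K44.f185197 IH) (Lpe (K44.f185196 IH) (Lpe (K44.f185195 IH) (Lpe (f165273 IH) (Lpe (K53.f721215 IH) (Lpr_ct (f930017 IH) (Lpn v41891))))))))))
theorem f930113 : Led Lsl_gt (LP (LK LD1_c18 LD2_c57 LD3_c9)) = v41905 :=
  Lgr Lrot46 (Lpr_gf (f930021 IH) (Lpe (f930020 IH) (Lpr_at (f930111 IH) (Lpn v41905))))
theorem f585844 : Led Lsl_ct (LP (LK LD1_c10 LD2_c27 LD3_c14)) = (LP (LK LD1_c18 LD2_c57 LD3_c9)) :=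
  Lre_c IH (LK LD1_c10 LD2_c27 LD3_c14) (LK LD1_c18 LD2_c57 LD3_c9) Lrfl Lrfl
theorem f930109 : Led Lsl_cf (LP (LK LD1_c10 LD2_c3 LD3_c41)) = v41905 :=
  Lgr Lrot11 (Lpr_ct (f930107 IH) (Lpn v41905))
theorem f585858 : Led Lsl_ct (LP (LK LD1_c18 LD2_c57 LD3_c7)) = (LP (LK LD1_c18 LD2_c53 LD3_c16)) :=
  Lgr Lrot59 (Lpr_cf (K44.f585851 IH) (Lpn (LP (LK LD1_c18 LD2_c53 LD3_c16))))
theorem f585856 : Led Lsl_bt (LP (LK LD1_c18 LD2_c57 LD3_c7)) = (LP (LK LD1_c18 LD2_c22 LD3_c17)) :=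
  Lgr Lrot128 (Lpr_cf (K44.f585851 IH) (Lpe (K44.f417480 IH) (Lpe (K45.f285242 IH) (Lpe (K44.f285243 IH) (Lpr_cf (K44.f422705 IH) (Lpn (LP (LK LD1_c18 LD2_c22 LD3_c17))))))))
theorem f585880 : Led Lsl_gt (LP (LK LD1_c18 LD2_c22 LD3_c17)) = (LP (LK LD1_c10 LD2_c3 LD3_c40)) :=
  Lgr Lrot82 (Lpe (f585856 IH) (Lpr_ct (f585858 IH) (Lpe (K44.f188416 IH) (Lpr_cf (K44.f251554 IH) (Lpr_bt (K44.f257553 IH) (Lpe (K14.f169670 IH) (Lpe (K53.f169669 IH) (Lpr_ct (K53.f169589 IH) (Lpe (f169674 IH) (Lpe (f169998 IH) (Lpn (LP (LK LD1_c10 LD2_c3 LD3_c40)))))))))))))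
theorem f584485 : Led Lsl_bt (LP (LK LD1_c9 LD2_c57 LD3_c50)) = (LP (LK LD1_c18 LD2_c13 LD3_c55)) :=
  Lre_b IH (LK LD1_c9 LD2_c57 LD3_c50) (LK LD1_c18 LD2_c13 LD3_c55) Lrfl Lrfl
theorem f584486 : Led Lsl_df (LP (LK LD1_c10 LD2_c11 LD3_c15)) = (LP (LK LD1_c18 LD2_c13 LD3_c55)) :=
  Lgr Lrot12 (Lpr_bt (K44.f185407 IH) (Lpr_dt (K44.f584482 IH) (Lpr_bt (f584485 IH) (Lpn (LP (LK LD1_c18 LD2_c13 LD3_c55))))))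
theorem f930114 : Led Lsl_gf (LP (LK LD1_c10 LD2_c27 LD3_c14)) = (LP (LK LD1_c18 LD2_c13 LD3_c55)) :=
  Lgr Lrot147 (Lpr_ct (f585844 IH) (Lpr_gt (f930113 IH) (Lpe (f930109 IH) (Lpe (f300607 IH) (Lpe (f169998 IH) (Lpe (f585880 IH) (Lpe (K44.f422703 IH) (Lpe (K44.f585875 IH) (Lpr_df (f584486 IH) (Lpn (LP (LK LD1_c18 LD2_c13 LD3_c55))))))))))))
theorem f930115 : Led Lsl_gt (LP (LK LD1_c18 LD2_c13 LD3_c55)) = (LP (LK LD1_c10 LD2_c27 LD3_c14)) :=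
  Leop (Lpr_gf (f930114 IH) (Lpn (LP (LK LD1_c18 LD2_c13 LD3_c55))))
theorem seed_2566 : LEOK LG_g (LK LD1_c18 LD2_c13 LD3_c55) :=
  Leoe_g (LK LD1_c18 LD2_c13 LD3_c55) (f930115 IH)
def v41923 : LQ := Led Lsl_at (LP (LK LD1_c10 LD2_c3 LD3_c52))
theorem f930183 : Led Lsl_at (LP (LK LD1_c10 LD2_c3 LD3_c52)) = v41923 :=
  Lrfl
theorem f930184 : Led Lsl_af (LP (LK LD1_c10 LD2_c3 LD3_c52)) = v41923 :=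
  Lgr Lrot0 (Lpr_at (f930183 IH) (Lpn v41923))
def v14319 : LQ := Led Lsl_at (LP (LK LD1_c5 LD2_c6 LD3_c27))
theorem f721902 : Led Lsl_at (LP (LK LD1_c5 LD2_c6 LD3_c27)) = v14319 :=
  Lrfl
theorem f721903 : Led Lsl_af (LP (LK LD1_c5 LD2_c6 LD3_c27)) = v14319 :=
  Lgr Lrot0 (Lpr_at (f721902 IH) (Lpn v14319))
theorem f823175 : Led Lsl_ff v14319 = K65.v24273 :=
  Lgr Lrot30 (Lpe (f721903 IH) (Lpr_ft (K65.f638349 IH) (Lpr_at (K65.f823171 IH) (Lpn K65.v24273))))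
theorem f198748 : Led Lsl_gt (LP (LK LD1_c10 LD2_c3 LD3_c52)) = (LP (LK LD1_c5 LD2_c6 LD3_c27)) :=
  Lre_g IH (LK LD1_c10 LD2_c3 LD3_c52) (LK LD1_c5 LD2_c6 LD3_c27) Lrfl Lrfl
theorem f823179 : Led Lsl_gf (LP (LK LD1_c10 LD2_c3 LD3_c52)) = K65.v24273 :=
  Lgr Lrot47 (Lpr_gt (f198748 IH) (Lpr_af (f721903 IH) (Lpr_ff (f823175 IH) (Lpn K65.v24273))))
theorem f823176 : Led Lsl_gt K68.v14318 = K65.v24273 :=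
  Lgr Lrot46 (Lpe (K68.f721899 IH) (Lpr_ft (K65.f638349 IH) (Lpr_at (K65.f823171 IH) (Lpn K65.v24273))))
theorem f930185 : Led Lsl_ft K68.v14318 = v41923 :=
  Lgr Lrot2 (Lpr_gt (f823176 IH) (Lpe (f823179 IH) (Lpr_af (f930184 IH) (Lpn v41923))))
theorem f930187 : Led Lsl_ff K68.v14318 = v41923 :=
  Lgr Lrot3 (Lpr_ft (f930185 IH) (Lpn v41923))
def v38748 : LQ := Led Lsl_at (LP (LK LD1_c9 LD2_c15 LD3_c14))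
theorem f904266 : Led Lsl_at (LP (LK LD1_c9 LD2_c15 LD3_c14)) = v38748 :=
  Lrfl
theorem f904267 : Led Lsl_af (LP (LK LD1_c9 LD2_c15 LD3_c14)) = v38748 :=
  Lgr Lrot0 (Lpr_at (f904266 IH) (Lpn v38748))
theorem f8827 : Led Lsl_gt (LP (LK LD1_c6 LD2_c6 LD3_c45)) = (LP (LK LD1_c9 LD2_c15 LD3_c14)) :=
  Lre_g IH (LK LD1_c6 LD2_c6 LD3_c45) (LK LD1_c9 LD2_c15 LD3_c14) Lrfl Lrfl
theorem f904268 : Led Lsl_ft K68.v13103 = v38748 :=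
  Lgr Lrot2 (Lpe (K68.f701127 IH) (Lpr_gt (f8827 IH) (Lpr_af (f904267 IH) (Lpn v38748))))
theorem f930188 : Led Lsl_dt v38748 = v41923 :=
  Lgr Lrot60 (Lpe (f904268 IH) (Lpr_df (K68.f721900 IH) (Lpr_ff (f930187 IH) (Lpn v41923))))
def v38750 : LQ := Led Lsl_dt (LP (LK LD1_c9 LD2_c15 LD3_c14))
theorem f904272 : Led Lsl_dt (LP (LK LD1_c9 LD2_c15 LD3_c14)) = v38750 :=
  Lrfl
theorem f904273 : Led Lsl_df (LP (LK LD1_c9 LD2_c15 LD3_c14)) = v38750 :=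
  Lgr Lrot38 (Lpr_dt (f904272 IH) (Lpn v38750))
theorem f930189 : v38750 = (LP (LK LD1_c10 LD2_c3 LD3_c52)) :=
  (Llr Lrot18 (Lpe (f904273 IH) (Lpr_at (f904266 IH) (Lpr_dt (f930188 IH) (Lpe (f930184 IH) (Lpn (LP (LK LD1_c10 LD2_c3 LD3_c52)))))))).symm
theorem f930190 : Led Lsl_dt (LP (LK LD1_c10 LD2_c3 LD3_c52)) = (LP (LK LD1_c9 LD2_c15 LD3_c14)) :=
  Leop (Lpr_df (f904273 IH) (Lpqs (f930189 IH) (Lpn (LP (LK LD1_c10 LD2_c3 LD3_c52)))))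
theorem seed_2567 : LEOK LG_d (LK LD1_c10 LD2_c3 LD3_c52) :=
  Leoe_d (LK LD1_c10 LD2_c3 LD3_c52) (f930190 IH)
def v41924 : LQ := Led Lsl_bt (LP (LK LD1_c10 LD2_c3 LD3_c52))
theorem f930192 : Led Lsl_bt (LP (LK LD1_c10 LD2_c3 LD3_c52)) = v41924 :=
  Lrfl
theorem f930193 : Led Lsl_bf (LP (LK LD1_c10 LD2_c3 LD3_c52)) = v41924 :=
  Lgr Lrot24 (Lpr_bt (f930192 IH) (Lpn v41924))
theorem f198740 : Led Lsl_ct (LP (LK LD1_c5 LD2_c26 LD3_c14)) = (LP (LK LD1_c10 LD2_c43 LD3_c45)) :=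
  Lre_c IH (LK LD1_c5 LD2_c26 LD3_c14) (LK LD1_c10 LD2_c43 LD3_c45) Lrfl Lrfl
theorem f198745 : Led Lsl_gt (LP (LK LD1_c10 LD2_c43 LD3_c45)) = (LP (LK LD1_c19 LD2_c24 LD3_c55)) :=
  Lre_g IH (LK LD1_c10 LD2_c43 LD3_c45) (LK LD1_c19 LD2_c24 LD3_c55) Lrfl Lrfl
theorem f930196 : Led Lsl_cf (LP (LK LD1_c19 LD2_c24 LD3_c55)) = v41924 :=
  Lgr Lrot163 (Lpe (f198745 IH) (Lpe (f198740 IH) (Lpe (K56.f191464 IH) (Lpe (K56.f191463 IH) (Lpr_ct (K9.f182493 IH) (Lpe (K14.f198718 IH) (Lpe (K14.f166140 IH) (Lpr_bt (K65.f166141 IH) (Lpe (f198748 IH) (Lpr_bf (f930193 IH) (Lpn v41924)))))))))))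
theorem f930197 : Led Lsl_bt (LP (LK LD1_c19 LD2_c24 LD3_c55)) = (LP (LK LD1_c28 LD2_c48 LD3_c32)) :=
  Lre_b IH (LK LD1_c19 LD2_c24 LD3_c55) (LK LD1_c28 LD2_c48 LD3_c32) Lrfl Lrfl
theorem f412757 : Led Lsl_ct (LP (LK LD1_c18 LD2_c22 LD3_c29)) = (LP (LK LD1_c10 LD2_c3 LD3_c52)) :=
  Lre_c IH (LK LD1_c18 LD2_c22 LD3_c29) (LK LD1_c10 LD2_c3 LD3_c52) Lrfl Lrfl
theorem f264075 : Led Lsl_gt (LP (LK LD1_c11 LD2_c52 LD3_c50)) = (LP (LK LD1_c20 LD2_c55 LD3_c61)) :=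
  Lre_g IH (LK LD1_c11 LD2_c52 LD3_c50) (LK LD1_c20 LD2_c55 LD3_c61) Lrfl Lrfl
theorem f264878 : Led Lsl_bt (LP (LK LD1_c10 LD2_c3 LD3_c33)) = (LP (LK LD1_c5 LD2_c6 LD3_c16)) :=
  Lre_b IH (LK LD1_c10 LD2_c3 LD3_c33) (LK LD1_c5 LD2_c6 LD3_c16) Lrfl Lrfl
theorem f290995 : Led Lsl_ct (LP (LK LD1_c10 LD2_c3 LD3_c33)) = (LP (LK LD1_c5 LD2_c6 LD3_c27)) :=
  Lre_c IH (LK LD1_c10 LD2_c3 LD3_c33) (LK LD1_c5 LD2_c6 LD3_c27) Lrfl Lrfl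
theorem f412758 : Led Lsl_bf (LP (LK LD1_c20 LD2_c55 LD3_c61)) = (LP (LK LD1_c18 LD2_c22 LD3_c29)) :=
  Lgr Lrot34 (Lpe (f264075 IH) (Lpe (K17.f264069 IH) (Lpr_ct (K16.f264070 IH) (Lpe (K15.f264063 IH) (Lpr_cf (K15.f264862 IH) (Lpe (K15.f166144 IH) (Lpe (f264878 IH) (Lpr_ct (f290995 IH) (Lpe (f198748 IH) (Lpe (f412757 IH) (Lpn (LP (LK LD1_c18 LD2_c22 LD3_c29)))))))))))))
theorem f412760 : Led Lsl_bt (LP (LK LD1_c20 LD2_c55 LD3_c61)) = (LP (LK LD1_c18 LD2_c22 LD3_c29)) :=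
  Lgr Lrot127 (Lpr_bf (f412758 IH) (Lpn (LP (LK LD1_c18 LD2_c22 LD3_c29))))
theorem f930198 : Led Lsl_ct (LP (LK LD1_c28 LD2_c48 LD3_c32)) = (LP (LK LD1_c20 LD2_c55 LD3_c61)) :=
  Lgr Lrot83 (Lpe (f930197 IH) (Lpr_cf (f930196 IH) (Lpe (f930192 IH) (Lpe (f412757 IH) (Lpe (f412760 IH) (Lpn (LP (LK LD1_c20 LD2_c55 LD3_c61))))))))
theorem f930199 : Led Lsl_ct (LP (LK LD1_c28 LD2_c48 LD3_c32)) = (LP (LK LD1_c20 LD2_c55 LD3_c61)) :=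
  Leop (Lpe (f930198 IH) (Lpn (LP (LK LD1_c28 LD2_c48 LD3_c32))))
theorem seed_2568 : LEOK LG_c (LK LD1_c28 LD2_c48 LD3_c32) :=
  Leoe_c (LK LD1_c28 LD2_c48 LD3_c32) (f930199 IH)
def v41939 : LQ := Led Lsl_gt (LP (LK LD1_c10 LD2_c4 LD3_c1))
theorem f930298 : Led Lsl_gt (LP (LK LD1_c10 LD2_c4 LD3_c1)) = v41939 :=
  Lrfl
theorem f285130 : Led Lsl_gf (LP (LK LD1_c10 LD2_c2 LD3_c46)) = (LP (LK LD1_c10 LD2_c4 LD3_c34)) :=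
  Lgr Lrot47 (Lpr_gt (K50.f166191 IH) (Lpr_af (K39.f285124 IH) (Lpe (K39.f186226 IH) (Lpn (LP (LK LD1_c10 LD2_c4 LD3_c34))))))
theorem f60139 : Led Lsl_gt (LP (LK LD1_c6 LD2_c9 LD3_c7)) = (LP (LK LD1_c11 LD2_c59 LD3_c19)) :=
  Lre_g IH (LK LD1_c6 LD2_c9 LD3_c7) (LK LD1_c11 LD2_c59 LD3_c19) Lrfl Lrfl
theorem f285206 : Led Lsl_gf (LP (LK LD1_c11 LD2_c23 LD3_c60)) = (LP (LK LD1_c11 LD2_c59 LD3_c19)) :=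
  Lgr Lrot76 (Lpr_af (K67.f285200 IH) (Lpe (K39.f268493 IH) (Lpr_gt (f60139 IH) (Lpn (LP (LK LD1_c11 LD2_c59 LD3_c19))))))
theorem f930300 : Led Lsl_df (LP (LK LD1_c11 LD2_c59 LD3_c19)) = v41939 :=
  Lgr Lrot135 (Lpe (f285206 IH) (Lpe (K56.f180372 IH) (Lpr_et (K39.f285216 IH) (Lpe (f285130 IH) (Lpr_ef (K53.f722013 IH) (Lpr_dt (K56.f750340 IH) (Lpe (K56.f750342 IH) (Lpe (K55.f169745 IH) (Lpr_et (K55.f702239 IH) (Lpr_gt (f930298 IH) (Lpn v41939)))))))))))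
theorem f781554 : Led Lsl_gt (LP (LK LD1_c17 LD2_c8 LD3_c36)) = v19656 :=
  Lgr Lrot5 (Lpe (K53.f508183 IH) (Lpr_at (K69.f508111 IH) (Lpr_gf (f781553 IH) (Lpn v19656))))
def v41865 : LQ := Led Lsl_ft (LP (LK LD1_c10 LD2_c3 LD3_c2))
theorem f929887 : Led Lsl_ft (LP (LK LD1_c10 LD2_c3 LD3_c2)) = v41865 :=
  Lrfl
theorem f929891 : Led Lsl_ff (LP (LK LD1_c10 LD2_c3 LD3_c2)) = v41865 :=
  Lgr Lrot3 (Lpr_ft (f929887 IH) (Lpn v41865))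
theorem f929894 : Led Lsl_et (LP (LK LD1_c18 LD2_c39 LD3_c43)) = v41865 :=
  Lgr Lrot69 (Lpe (f408216 IH) (Lpe (K56.f408207 IH) (Lpq (K64.f824236 IH) (Lpe (K55.f721849 IH) (Lpe (K64.f185797 IH) (Lpr_ff (f929891 IH) (Lpn v41865)))))))
def v16235 : LQ := Led Lsl_ft (LP (LK LD1_c5 LD2_c55 LD3_c22))
theorem f747269 : Led Lsl_ft (LP (LK LD1_c5 LD2_c55 LD3_c22)) = v16235 :=
  Lrfl
theorem f747270 : Led Lsl_ff (LP (LK LD1_c5 LD2_c55 LD3_c22)) = v16235 :=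
  Lgr Lrot3 (Lpr_ft (f747269 IH) (Lpn v16235))
theorem f699928 : Led Lsl_at (LP (LK LD1_c5 LD2_c55 LD3_c22)) = K50.v12967 :=
  Lgr Lrot80 (Lpe (K64.f631982 IH) (Lpr_af (K35.f631978 IH) (Lpr_ef (K50.f699927 IH) (Lpn K50.v12967))))
theorem f747271 : Led Lsl_gf (LP (LK LD1_c10 LD2_c15 LD3_c30)) = v16235 :=
  Lgr Lrot47 (Lpr_gt (K50.f701656 IH) (Lpe (f699928 IH) (Lpr_ff (f747270 IH) (Lpn v16235))))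
theorem f929895 : Led Lsl_gf v16235 = v41865 :=
  Lgr Lrot47 (Lpe (f747271 IH) (Lpr_af (K64.f824306 IH) (Lpr_ff (f929891 IH) (Lpn v41865))))
theorem f930303 : Led Lsl_ef v16235 = v41939 :=
  Lgr Lrot17 (Lpr_gf (f929895 IH) (Lpe (f929894 IH) (Lpe (f824350 IH) (Lpe (f781554 IH) (Lpe (K53.f422761 IH) (Lpr_gf (f285130 IH) (Lpe (K39.f285216 IH) (Lpr_dt (K56.f180372 IH) (Lpr_gf (f285206 IH) (Lpr_df (f930300 IH) (Lpn v41939)))))))))))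
theorem f930304 : Led Lsl_et v16235 = v41939 :=
  Lgr Lrot87 (Lpr_ef (f930303 IH) (Lpn v41939))
def v41864 : LQ := Led Lsl_gf (LP (LK LD1_c10 LD2_c3 LD3_c2))
theorem f929877 : Led Lsl_gf (LP (LK LD1_c10 LD2_c3 LD3_c2)) = v41864 :=
  Lrfl
theorem f396297 : Led Lsl_ef (LP (LK LD1_c11 LD2_c28 LD3_c11)) = (LP (LK LD1_c9 LD2_c2 LD3_c56)) :=
  Lgr Lrot88 (Lpr_et (K39.f396290 IH) (Lpn (LP (LK LD1_c9 LD2_c2 LD3_c56))))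
def v15601 : LQ := Led Lsl_gf (LP (LK LD1_c5 LD2_c43 LD3_c9))
theorem f738221 : Led Lsl_gf (LP (LK LD1_c5 LD2_c43 LD3_c9)) = v15601 :=
  Lrfl
theorem f738222 : Led Lsl_gt (LP (LK LD1_c11 LD2_c28 LD3_c11)) = v15601 :=
  Lgr Lrot5 (Lpr_ft (K32.f396282 IH) (Lpr_at (K24.f396275 IH) (Lpr_gf (f738221 IH) (Lpn v15601))))
def v24906 : LQ := Led Lsl_ft K50.v5078
theorem f826163 : Led Lsl_ft K50.v5078 = v24906 :=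
  Lrfl
theorem f210133 : Led Lsl_ct (LP (LK LD1_c9 LD2_c13 LD3_c10)) = (LP (LK LD1_c4 LD2_c38 LD3_c40)) :=
  Lre_c IH (LK LD1_c9 LD2_c13 LD3_c10) (LK LD1_c4 LD2_c38 LD3_c40) Lrfl Lrfl
theorem f508502 : Led Lsl_ff (LP (LK LD1_c2 LD2_c57 LD3_c7)) = (LP (LK LD1_c4 LD2_c38 LD3_c40)) :=
  Lgr Lrot23 (Lpr_ct (K69.f435302 IH) (Lpr_ft (K69.f508500 IH) (Lpr_ct (f210133 IH) (Lpn (LP (LK LD1_c4 LD2_c38 LD3_c40))))))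
theorem f738223 : Led Lsl_ff (LP (LK LD1_c9 LD2_c13 LD3_c11)) = v15601 :=
  Lgr Lrot52 (Lpe (K32.f508025 IH) (Lpe (K16.f413425 IH) (Lpr_gf (f738221 IH) (Lpn v15601))))
theorem f826164 : Led Lsl_ef v15601 = v24906 :=
  Lgr Lrot21 (Lpe (f738223 IH) (Lpr_et (K24.f416704 IH) (Lpe (f508502 IH) (Lpr_et (K50.f645210 IH) (Lpr_ft (f826163 IH) (Lpn v24906))))))
theorem f929881 : Led Lsl_dt v24906 = v41864 :=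
  Lgr Lrot136 (Lpe (f826164 IH) (Lpe (f738222 IH) (Lpr_ef (f396297 IH) (Lpr_dt (K16.f268756 IH) (Lpe (K51.f412038 IH) (Lpr_df (K64.f638931 IH) (Lpr_gf (K64.f824458 IH) (Lpe (K64.f824464 IH) (Lpe (K64.f646968 IH) (Lpr_gf (f929877 IH) (Lpn v41864)))))))))))
theorem f929882 : Led Lsl_df v24906 = v41864 :=
  Lgr Lrot38 (Lpr_dt (f929881 IH) (Lpn v41864))
theorem f826165 : Led Lsl_ff K50.v5078 = v24906 :=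
  Lgr Lrot3 (Lpr_ft (f826163 IH) (Lpn v24906))
theorem f929883 : Led Lsl_ft K50.v12967 = v41864 :=
  Lgr Lrot54 (Lpe (K50.f699929 IH) (Lpr_ff (f826165 IH) (Lpr_df (f929882 IH) (Lpn v41864))))
theorem f929884 : Led Lsl_af v16235 = v41864 :=
  Lgr Lrot45 (Lpe (f747270 IH) (Lpr_at (f699928 IH) (Lpr_ft (f929883 IH) (Lpn v41864))))
def v15795 : LQ := Led Lsl_gt (LP (LK LD1_c5 LD2_c46 LD3_c55))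
theorem f741583 : Led Lsl_gt (LP (LK LD1_c5 LD2_c46 LD3_c55)) = v15795 :=
  Lrfl
theorem f741585 : Led Lsl_gf (LP (LK LD1_c11 LD2_c59 LD3_c20)) = v15795 :=
  Lgr Lrot76 (Lpe (K67.f285204 IH) (Lpe (K56.f180374 IH) (Lpr_gt (f741583 IH) (Lpn v15795))))
theorem f508051 : Led Lsl_af (LP (LK LD1_c6 LD2_c12 LD3_c3)) = (LP (LK LD1_c6 LD2_c46 LD3_c48)) :=
  Lgr Lrot0 (Lpr_at (K32.f508049 IH) (Lpn (LP (LK LD1_c6 LD2_c46 LD3_c48))))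
theorem f509805 : Led Lsl_et (LP (LK LD1_c11 LD2_c23 LD3_c59)) = (LP (LK LD1_c6 LD2_c46 LD3_c48)) :=
  Lgr Lrot87 (Lpr_ef (K32.f509798 IH) (Lpn (LP (LK LD1_c6 LD2_c46 LD3_c48))))
theorem f634178 : Led Lsl_af (LP (LK LD1_c11 LD2_c23 LD3_c59)) = (LP (LK LD1_c11 LD2_c36 LD3_c1)) :=
  Lgr Lrot50 (Lpr_et (f509805 IH) (Lpe (f508051 IH) (Lpr_et (K35.f634176 IH) (Lpn (LP (LK LD1_c11 LD2_c36 LD3_c1))))))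
theorem f741586 : Led Lsl_ff (LP (LK LD1_c11 LD2_c36 LD3_c1)) = v15795 :=
  Lgr Lrot52 (Lpe (f634178 IH) (Lpr_gf (K67.f285212 IH) (Lpr_gf (f741585 IH) (Lpn v15795))))
theorem f741587 : Led Lsl_dt (LP (LK LD1_c11 LD2_c36 LD3_c2)) = v15795 :=
  Lgr Lrot60 (Lpe (K55.f631997 IH) (Lpe (K56.f421545 IH) (Lpr_ff (f741586 IH) (Lpn v15795))))
theorem f929880 : Led Lsl_et (LP (LK LD1_c11 LD2_c36 LD3_c2)) = v41864 :=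
  Lgr Lrot121 (Lpr_dt (f741587 IH) (Lpe (f741583 IH) (Lpe (K39.f180358 IH) (Lpr_et (K32.f180364 IH) (Lpr_gf (K10.f185765 IH) (Lpe (K36.f185781 IH) (Lpe (K36.f185789 IH) (Lpr_gf (K64.f646965 IH) (Lpe (K64.f646966 IH) (Lpr_gf (f929877 IH) (Lpn v41864)))))))))))
theorem f930305 : Led Lsl_af (LP (LK LD1_c11 LD2_c36 LD3_c2)) = v41939 :=
  Lgr Lrot50 (Lpr_et (f929880 IH) (Lpe (f929884 IH) (Lpr_et (f930304 IH) (Lpn v41939))))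
theorem f634184 : Led Lsl_at (LP (LK LD1_c11 LD2_c23 LD3_c59)) = (LP (LK LD1_c11 LD2_c36 LD3_c1)) :=
  Lgr Lrot80 (Lpr_ef (K32.f509798 IH) (Lpe (K32.f508049 IH) (Lpr_ef (K56.f634182 IH) (Lpn (LP (LK LD1_c11 LD2_c36 LD3_c1))))))
theorem f634193 : Led Lsl_ff (LP (LK LD1_c11 LD2_c23 LD3_c59)) = (LP (LK LD1_c11 LD2_c59 LD3_c19)) :=
  Lgr Lrot52 (Lpr_at (f634184 IH) (Lpr_gf (K67.f421543 IH) (Lpr_gf (f285206 IH) (Lpn (LP (LK LD1_c11 LD2_c59 LD3_c19))))))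
def v16230 : LQ := Led Lsl_at (LP (LK LD1_c5 LD2_c55 LD3_c21))
theorem f747249 : Led Lsl_at (LP (LK LD1_c5 LD2_c55 LD3_c21)) = v16230 :=
  Lrfl
theorem f747252 : Led Lsl_ef K50.v4204 = v16230 :=
  Lgr Lrot20 (Lpe (K55.f631988 IH) (Lpr_et (K55.f631991 IH) (Lpr_at (f747249 IH) (Lpn v16230))))
def v2830 : LQ := Led Lsl_gt K35.v351
theorem f535852 : Led Lsl_gt K35.v351 = v2830 :=
  Lrfl
theorem f535855 : Led Lsl_et v523 = v2830 :=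
  Lgr Lrot122 (Lpe (f453767 IH) (Lpr_gt (K24.f24043 IH) (Lpr_df (K35.f450643 IH) (Lpe (K53.f450644 IH) (Lpe (K7.f154144 IH) (Lpr_dt (K7.f86078 IH) (Lpe (K7.f156408 IH) (Lpe (K55.f124161 IH) (Lpr_et (f452364 IH) (Lpr_gt (f535852 IH) (Lpn v2830)))))))))))
theorem f535857 : Led Lsl_df K35.v2185 = v2830 :=
  Lgr Lrot70 (Lpe (K35.f509515 IH) (Lpr_dt (K24.f180331 IH) (Lpr_et (K24.f206544 IH) (Lpr_dt (f453766 IH) (Lpr_et (f535855 IH) (Lpn v2830))))))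
theorem f509514 : Led Lsl_cf K35.v1730 = K35.v2185 :=
  Lgr Lrot39 (Lpe (K35.f501188 IH) (Lpr_ct (K24.f180500 IH) (Lpr_et (K35.f509513 IH) (Lpn K35.v2185))))
theorem f631861 : Led Lsl_df K35.v1730 = K50.v4204 :=
  Lgr Lrot84 (Lpr_cf (f509514 IH) (Lpr_df (f535857 IH) (Lpe (f535852 IH) (Lpe (K35.f452359 IH) (Lpe (K32.f206523 IH) (Lpr_cf (K35.f446191 IH) (Lpr_gt (K50.f186190 IH) (Lpr_dt (K35.f27165 IH) (Lpr_gt (K50.f631859 IH) (Lpn K50.v4204))))))))))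
theorem f747253 : Led Lsl_dt (LP (LK LD1_c11 LD2_c23 LD3_c59)) = v16230 :=
  Lgr Lrot77 (Lpr_ef (K32.f509798 IH) (Lpe (K32.f414525 IH) (Lpr_ef (K35.f501188 IH) (Lpr_df (f631861 IH) (Lpr_ef (f747252 IH) (Lpn v16230))))))
theorem f930302 : Led Lsl_ft v16230 = v41939 :=
  Lgr Lrot54 (Lpe (f747253 IH) (Lpr_ff (f634193 IH) (Lpr_df (f930300 IH) (Lpn v41939))))
theorem f747254 : Led Lsl_et K50.v4204 = v16230 :=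
  Lgr Lrot87 (Lpr_ef (f747252 IH) (Lpn v16230))
theorem f185706 : Led Lsl_dt (LP (LK LD1_c5 LD2_c13 LD3_c31)) = (LP (LK LD1_c10 LD2_c17 LD3_c20)) :=
  Lre_d IH (LK LD1_c5 LD2_c13 LD3_c31) (LK LD1_c10 LD2_c17 LD3_c20) Lrfl Lrfl
theorem f387377 : Led Lsl_gf (LP (LK LD1_c6 LD2_c2 LD3_c43)) = (LP (LK LD1_c10 LD2_c17 LD3_c20)) :=
  Lgr Lrot134 (Lpe (K56.f169792 IH) (Lpr_et (K53.f289285 IH) (Lpr_gt (K49.f180304 IH) (Lpe (K17.f180301 IH) (Lpr_dt (K17.f180300 IH) (Lpe (K17.f289278 IH) (Lpe (K54.f387336 IH) (Lpr_et (K54.f387363 IH) (Lpe (K69.f302726 IH) (Lpr_dt (f185706 IH) (Lpn (LP (LK LD1_c10 LD2_c17 LD3_c20)))))))))))))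
theorem f747255 : Led Lsl_gf (LP (LK LD1_c10 LD2_c17 LD3_c21)) = v16230 :=
  Lgr Lrot141 (Lpe (K56.f387379 IH) (Lpr_dt (f185706 IH) (Lpe (f387377 IH) (Lpe (K56.f169792 IH) (Lpr_et (K53.f289285 IH) (Lpr_gt (K49.f180304 IH) (Lpr_dt (K49.f180309 IH) (Lpr_gt (K35.f501186 IH) (Lpr_df (f631861 IH) (Lpr_et (f747254 IH) (Lpn v16230)))))))))))
theorem f930308 : Led Lsl_gf (LP (LK LD1_c11 LD2_c36 LD3_c2)) = (LP (LK LD1_c10 LD2_c17 LD3_c21)) :=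
  Lgr Lrot76 (Lpr_af (f930305 IH) (Lpe (f930302 IH) (Lpe (f747255 IH) (Lpn (LP (LK LD1_c10 LD2_c17 LD3_c21))))))
theorem f930309 : Led Lsl_gt (LP (LK LD1_c10 LD2_c17 LD3_c21)) = (LP (LK LD1_c11 LD2_c36 LD3_c2)) :=
  Leop (Lpr_gf (f930308 IH) (Lpn (LP (LK LD1_c10 LD2_c17 LD3_c21))))
theorem seed_2569 : LEOK LG_g (LK LD1_c10 LD2_c17 LD3_c21) :=
  Leoe_g (LK LD1_c10 LD2_c17 LD3_c21) (f930309 IH)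
def v41940 : LQ := Led Lsl_dt (LP (LK LD1_c10 LD2_c4 LD3_c1))
theorem f930310 : Led Lsl_dt (LP (LK LD1_c10 LD2_c4 LD3_c1)) = v41940 :=
  Lrfl
theorem f22185 : Led Lsl_et (LP (LK LD1_c10 LD2_c4 LD3_c1)) = (LP (LK LD1_c5 LD2_c6 LD3_c37)) :=
  Lre_e IH (LK LD1_c10 LD2_c4 LD3_c1) (LK LD1_c5 LD2_c6 LD3_c37) Lrfl Lrfl
theorem f180377 : Led Lsl_dt (LP (LK LD1_c10 LD2_c2 LD3_c49)) = (LP (LK LD1_c18 LD2_c21 LD3_c6)) :=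
  Lre_d IH (LK LD1_c10 LD2_c2 LD3_c49) (LK LD1_c18 LD2_c21 LD3_c6) Lrfl Lrfl
theorem f930315 : Led Lsl_gt (LP (LK LD1_c18 LD2_c21 LD3_c6)) = v41940 :=
  Lgr Lrot139 (Lpe (f180377 IH) (Lpe (K32.f180376 IH) (Lpe (K39.f180356 IH) (Lpr_dt (K10.f166251 IH) (Lpr_gf (K11.f198613 IH) (Lpe (K9.f22143 IH) (Lpr_et (K53.f22182 IH) (Lpe (K55.f22165 IH) (Lpe (f22185 IH) (Lpr_dt (f930310 IH) (Lpn v41940)))))))))))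
theorem f897964 : Led Lsl_ff (LP (LK LD1_c10 LD2_c2 LD3_c49)) = (LP (LK LD1_c10 LD2_c4 LD3_c28)) :=
  Lgr Lrot3 (Lpr_ft (K69.f897960 IH) (Lpn (LP (LK LD1_c10 LD2_c4 LD3_c28))))
theorem f897966 : Led Lsl_ft (LP (LK LD1_c18 LD2_c21 LD3_c6)) = (LP (LK LD1_c11 LD2_c14 LD3_c48)) :=
  Lgr Lrot54 (Lpe (f180377 IH) (Lpr_ff (f897964 IH) (Lpe (K56.f285185 IH) (Lpn (LP (LK LD1_c11 LD2_c14 LD3_c48))))))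
theorem f897959 : Led Lsl_at K69.v14307 = (LP (LK LD1_c10 LD2_c4 LD3_c28)) :=
  Lgr Lrot100 (Lpr_af (K69.f897957 IH) (Lpn (LP (LK LD1_c10 LD2_c4 LD3_c28))))
theorem f897958 : Led Lsl_df K69.v14307 = K69.v37932 :=
  Lgr Lrot38 (Lpr_dt (K69.f897956 IH) (Lpn K69.v37932))
theorem f285187 : Led Lsl_df (LP (LK LD1_c11 LD2_c14 LD3_c48)) = (LP (LK LD1_c10 LD2_c4 LD3_c28)) :=
  Lgr Lrot38 (Lpr_dt (K56.f285185 IH) (Lpn (LP (LK LD1_c10 LD2_c4 LD3_c28))))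
theorem f897972 : Led Lsl_af K69.v37932 = (LP (LK LD1_c11 LD2_c14 LD3_c48)) :=
  Lgr Lrot117 (Lpe (f897958 IH) (Lpr_at (f897959 IH) (Lpe (f285187 IH) (Lpn (LP (LK LD1_c11 LD2_c14 LD3_c48))))))
theorem f930316 : Led Lsl_gf K69.v37932 = v41940 :=
  Lgr Lrot76 (Lpr_af (f897972 IH) (Lpe (f897966 IH) (Lpr_gt (f930315 IH) (Lpn v41940))))
theorem f753396 : Led Lsl_ft (LP (LK LD1_c18 LD2_c42 LD3_c15)) = (LP (LK LD1_c20 LD2_c21 LD3_c60)) :=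
  Lgr Lrot54 (Lpe (K56.f20521 IH) (Lpr_ff (K56.f753394 IH) (Lpe (K56.f634188 IH) (Lpn (LP (LK LD1_c20 LD2_c21 LD3_c60))))))
theorem f536568 : Led Lsl_ef (LP (LK LD1_c18 LD2_c42 LD3_c15)) = (LP (LK LD1_c12 LD2_c23 LD3_c37)) :=
  Lgr Lrot73 (Lpr_dt (K56.f536567 IH) (Lpr_et (K56.f20520 IH) (Lpr_dt (f185706 IH) (Lpr_et (K35.f536565 IH) (Lpr_dt (K56.f68645 IH) (Lpn (LP (LK LD1_c12 LD2_c23 LD3_c37))))))))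
theorem f536574 : Led Lsl_gt (LP (LK LD1_c18 LD2_c42 LD3_c15)) = (LP (LK LD1_c11 LD2_c14 LD3_c48)) :=
  Lgr Lrot137 (Lpr_ef (f536568 IH) (Lpr_dt (K56.f68646 IH) (Lpe (K35.f68638 IH) (Lpe (K51.f68635 IH) (Lpr_et (K32.f60182 IH) (Lpe (K10.f60213 IH) (Lpe (K35.f60217 IH) (Lpr_dt (K39.f285179 IH) (Lpe (K56.f285184 IH) (Lpe (K56.f285185 IH) (Lpn (LP (LK LD1_c11 LD2_c14 LD3_c48)))))))))))))
theorem f285191 : Led Lsl_gt (LP (LK LD1_c11 LD2_c14 LD3_c48)) = (LP (LK LD1_c20 LD2_c9 LD3_c49)) :=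
  Lre_g IH (LK LD1_c11 LD2_c14 LD3_c48) (LK LD1_c20 LD2_c9 LD3_c49) Lrfl Lrfl
theorem f753406 : Led Lsl_af (LP (LK LD1_c20 LD2_c9 LD3_c49)) = (LP (LK LD1_c20 LD2_c21 LD3_c60)) :=
  Lgr Lrot31 (Lpe (f285191 IH) (Lpe (f536574 IH) (Lpr_ft (f753396 IH) (Lpn (LP (LK LD1_c20 LD2_c21 LD3_c60))))))
theorem f753408 : Led Lsl_at (LP (LK LD1_c20 LD2_c9 LD3_c49)) = (LP (LK LD1_c20 LD2_c21 LD3_c60)) :=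
  Lgr Lrot100 (Lpr_af (f753406 IH) (Lpn (LP (LK LD1_c20 LD2_c21 LD3_c60))))
theorem f930317 : Led Lsl_ff (LP (LK LD1_c20 LD2_c9 LD3_c49)) = v41940 :=
  Lgr Lrot52 (Lpr_at (f753408 IH) (Lpr_gf (K69.f897955 IH) (Lpr_gf (f930316 IH) (Lpn v41940))))
theorem f930319 : Led Lsl_at (LP (LK LD1_c18 LD2_c42 LD3_c15)) = v41940 :=
  Lgr Lrot66 (Lpr_ff (K56.f753404 IH) (Lpe (f753408 IH) (Lpr_ff (f930317 IH) (Lpn v41940))))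
theorem f930321 : Led Lsl_gt (LP (LK LD1_c20 LD2_c21 LD3_c60)) = (LP (LK LD1_c18 LD2_c21 LD3_c6)) :=
  Lgr Lrot5 (Lpe (K56.f753404 IH) (Lpr_at (f930319 IH) (Lpe (f930315 IH) (Lpn (LP (LK LD1_c18 LD2_c21 LD3_c6))))))
theorem f930322 : Led Lsl_gt (LP (LK LD1_c20 LD2_c21 LD3_c60)) = (LP (LK LD1_c18 LD2_c21 LD3_c6)) :=
  Leop (Lpe (f930321 IH) (Lpn (LP (LK LD1_c20 LD2_c21 LD3_c60))))
theorem seed_2570 : LEOK LG_g (LK LD1_c20 LD2_c21 LD3_c60) :=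
  Leoe_g (LK LD1_c20 LD2_c21 LD3_c60) (f930322 IH)
def v41956 : LQ := Led Lsl_dt (LP (LK LD1_c10 LD2_c4 LD3_c19))
theorem f930408 : Led Lsl_dt (LP (LK LD1_c10 LD2_c4 LD3_c19)) = v41956 :=
  Lrfl
theorem f611415 : Led Lsl_df (LP (LK LD1_c22 LD2_c29 LD3_c20)) = (LP (LK LD1_c23 LD2_c14 LD3_c3)) :=
  Lgr Lrot38 (Lpr_dt (K62.f611413 IH) (Lpn (LP (LK LD1_c23 LD2_c14 LD3_c3))))
theorem f930413 : Led Lsl_gt (LP (LK LD1_c22 LD2_c29 LD3_c20)) = v41956 :=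
  Lgr Lrot139 (Lpr_df (f611415 IH) (Lpe (K62.f92615 IH) (Lpr_ef (K47.f92607 IH) (Lpr_dt (K47.f92606 IH) (Lpe (K64.f92616 IH) (Lpr_df (K64.f609825 IH) (Lpe (K64.f795864 IH) (Lpr_gf (K64.f795860 IH) (Lpe (K37.f204976 IH) (Lpr_dt (f930408 IH) (Lpn v41956)))))))))))
theorem f567367 : Led Lsl_ef (LP (LK LD1_c16 LD2_c25 LD3_c17)) = (LP (LK LD1_c22 LD2_c42 LD3_c41)) :=
  Lgr Lrot88 (Lpr_et (K43.f567356 IH) (Lpn (LP (LK LD1_c22 LD2_c42 LD3_c41))))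
theorem f798551 : Led Lsl_ef (LP (LK LD1_c13 LD2_c32 LD3_c10)) = K63.v21665 :=
  Lgr Lrot73 (Lpr_dt (K63.f526908 IH) (Lpe (f567367 IH) (Lpr_dt (K43.f567317 IH) (Lpr_et (K37.f526794 IH) (Lpr_dt (K63.f798549 IH) (Lpn K63.v21665))))))
theorem f798555 : Led Lsl_ft (LP (LK LD1_c13 LD2_c14 LD3_c48)) = K63.v21665 :=
  Lgr Lrot86 (Lpe (K37.f482690 IH) (Lpe (K34.f524053 IH) (Lpe (K39.f515992 IH) (Lpe (K63.f524058 IH) (Lpr_ef (f798551 IH) (Lpn K63.v21665))))))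
theorem f930414 : Led Lsl_at K63.v21665 = v41956 :=
  Lgr Lrot26 (Lpe (f798555 IH) (Lpe (K62.f757678 IH) (Lpr_gt (f930413 IH) (Lpn v41956))))
theorem f526930 : Led Lsl_at (LP (LK LD1_c14 LD2_c0 LD3_c51)) = (LP (LK LD1_c7 LD2_c24 LD3_c27)) :=
  Lre_a IH (LK LD1_c14 LD2_c0 LD3_c51) (LK LD1_c7 LD2_c24 LD3_c27) Lrfl Lrfl
theorem f930417 : Led Lsl_cf (LP (LK LD1_c14 LD2_c0 LD3_c51)) = v41956 :=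
  Lgr Lrot1 (Lpr_at (f526930 IH) (Lpr_ct (K63.f798545 IH) (Lpr_at (f930414 IH) (Lpn v41956))))
theorem f524160 : Led Lsl_bt (LP (LK LD1_c7 LD2_c24 LD3_c27)) = (LP (LK LD1_c3 LD2_c41 LD3_c51)) :=
  Lre_b IH (LK LD1_c7 LD2_c24 LD3_c27) (LK LD1_c3 LD2_c41 LD3_c51) Lrfl Lrfl
theorem f524161 : Led Lsl_ff (LP (LK LD1_c7 LD2_c24 LD3_c27)) = (LP (LK LD1_c7 LD2_c50 LD3_c45)) :=
  Lgr Lrot25 (Lpr_bt (f524160 IH) (Lpr_ft (K34.f524158 IH) (Lpr_bt (K43.f148261 IH) (Lpn (LP (LK LD1_c7 LD2_c50 LD3_c45))))))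
theorem f526922 : Led Lsl_at (LP (LK LD1_c7 LD2_c24 LD3_c27)) = (LP (LK LD1_c14 LD2_c0 LD3_c51)) :=
  Lre_a IH (LK LD1_c7 LD2_c24 LD3_c27) (LK LD1_c14 LD2_c0 LD3_c51) Lrfl Lrfl
theorem f482772 : Led Lsl_at (LP (LK LD1_c14 LD2_c48 LD3_c2)) = (LP (LK LD1_c7 LD2_c50 LD3_c45)) :=
  Lre_a IH (LK LD1_c14 LD2_c48 LD3_c2) (LK LD1_c7 LD2_c50 LD3_c45) Lrfl Lrfl
theorem f526923 : Led Lsl_ft (LP (LK LD1_c14 LD2_c0 LD3_c51)) = (LP (LK LD1_c14 LD2_c48 LD3_c2)) :=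
  Lgr Lrot101 (Lpe (f526922 IH) (Lpr_ff (f524161 IH) (Lpe (f482772 IH) (Lpn (LP (LK LD1_c14 LD2_c48 LD3_c2))))))
theorem f930419 : Led Lsl_ft (LP (LK LD1_c20 LD2_c25 LD3_c41)) = v41956 :=
  Lgr Lrot4 (Lpe (K43.f567424 IH) (Lpe (f526923 IH) (Lpr_cf (f930417 IH) (Lpn v41956))))
theorem f798550 : Led Lsl_df (LP (LK LD1_c13 LD2_c46 LD3_c51)) = K63.v21665 :=
  Lgr Lrot38 (Lpr_dt (K63.f798549 IH) (Lpn K63.v21665))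
theorem f930409 : Led Lsl_af K63.v21665 = v41956 :=
  Lgr Lrot117 (Lpe (f798550 IH) (Lpe (K37.f543213 IH) (Lpr_dt (f930408 IH) (Lpn v41956))))
theorem f930420 : Led Lsl_gt (LP (LK LD1_c20 LD2_c25 LD3_c41)) = (LP (LK LD1_c13 LD2_c30 LD3_c53)) :=
  Lgr Lrot5 (Lpr_ft (f930419 IH) (Lpe (f930409 IH) (Lpe (K63.f798552 IH) (Lpn (LP (LK LD1_c13 LD2_c30 LD3_c53))))))
theorem f930421 : Led Lsl_gt (LP (LK LD1_c20 LD2_c25 LD3_c41)) = (LP (LK LD1_c13 LD2_c30 LD3_c53)) :=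
  Leop (Lpe (f930420 IH) (Lpn (LP (LK LD1_c20 LD2_c25 LD3_c41))))
theorem seed_2571 : LEOK LG_g (LK LD1_c20 LD2_c25 LD3_c41) :=
  Leoe_g (LK LD1_c20 LD2_c25 LD3_c41) (f930421 IH)
def v41966 : LQ := Led Lsl_bt (LP (LK LD1_c10 LD2_c4 LD3_c28))
theorem f930473 : Led Lsl_bt (LP (LK LD1_c10 LD2_c4 LD3_c28)) = v41966 :=
  Lrfl
theorem f180342 : Led Lsl_gt (LP (LK LD1_c11 LD2_c50 LD3_c30)) = (LP (LK LD1_c6 LD2_c3 LD3_c23)) :=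
  Lre_g IH (LK LD1_c11 LD2_c50 LD3_c30) (LK LD1_c6 LD2_c3 LD3_c23) Lrfl Lrfl
theorem f536576 : Led Lsl_ef (LP (LK LD1_c11 LD2_c50 LD3_c30)) = (LP (LK LD1_c10 LD2_c4 LD3_c28)) :=
  Lgr Lrot167 (Lpr_gt (f180342 IH) (Lpr_dt (K17.f180300 IH) (Lpe (K17.f289278 IH) (Lpe (K54.f387336 IH) (Lpr_et (K54.f387363 IH) (Lpe (K69.f302726 IH) (Lpe (K56.f20520 IH) (Lpr_dt (K56.f20521 IH) (Lpr_gt (f536574 IH) (Lpr_df (f285187 IH) (Lpn (LP (LK LD1_c10 LD2_c4 LD3_c28)))))))))))))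
theorem f536579 : Led Lsl_et (LP (LK LD1_c11 LD2_c50 LD3_c30)) = (LP (LK LD1_c10 LD2_c4 LD3_c28)) :=
  Lgr Lrot87 (Lpr_ef (f536576 IH) (Lpn (LP (LK LD1_c10 LD2_c4 LD3_c28))))
theorem f536581 : Led Lsl_bt (LP (LK LD1_c20 LD2_c52 LD3_c46)) = (LP (LK LD1_c11 LD2_c50 LD3_c30)) :=
  Lre_b IH (LK LD1_c20 LD2_c52 LD3_c46) (LK LD1_c11 LD2_c50 LD3_c30) Lrfl Lrfl
theorem f930476 : Led Lsl_ef (LP (LK LD1_c20 LD2_c52 LD3_c46)) = v41966 :=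
  Lgr Lrot29 (Lpr_bt (f536581 IH) (Lpr_et (f536579 IH) (Lpr_bt (f930473 IH) (Lpn v41966))))
theorem f930482 : Led Lsl_et (LP (LK LD1_c20 LD2_c52 LD3_c46)) = v41966 :=
  Lgr Lrot87 (Lpr_ef (f930476 IH) (Lpn v41966))
theorem f408205 : Led Lsl_dt (LP (LK LD1_c5 LD2_c12 LD3_c32)) = (LP (LK LD1_c9 LD2_c5 LD3_c17)) :=
  Lgr Lrot42 (Lpr_df (K50.f408195 IH) (Lpn (LP (LK LD1_c9 LD2_c5 LD3_c17))))
theorem f699515 : Led Lsl_gf (LP (LK LD1_c17 LD2_c8 LD3_c44)) = (LP (LK LD1_c10 LD2_c15 LD3_c32)) :=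
  Lgr Lrot134 (Lpe (f285161 IH) (Lpr_et (f699512 IH) (Lpr_gt (K50.f23090 IH) (Lpe (K49.f22953 IH) (Lpe (K9.f22949 IH) (Lpr_gt (K35.f416631 IH) (Lpe (K24.f414938 IH) (Lpr_et (K53.f416531 IH) (Lpe (K71.f416633 IH) (Lpe (K56.f408213 IH) (Lpn (LP (LK LD1_c10 LD2_c15 LD3_c32)))))))))))))
theorem f285159 : Led Lsl_dt (LP (LK LD1_c17 LD2_c8 LD3_c44)) = (LP (LK LD1_c9 LD2_c14 LD3_c23)) :=
  Lre_d IH (LK LD1_c17 LD2_c8 LD3_c44) (LK LD1_c9 LD2_c14 LD3_c23) Lrfl Lrfl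
theorem f285218 : Led Lsl_ef (LP (LK LD1_c10 LD2_c2 LD3_c50)) = (LP (LK LD1_c10 LD2_c4 LD3_c34)) :=
  Lgr Lrot88 (Lpr_et (K39.f285216 IH) (Lpn (LP (LK LD1_c10 LD2_c4 LD3_c34))))
theorem f897751 : Led Lsl_df (LP (LK LD1_c16 LD2_c56 LD3_c20)) = (LP (LK LD1_c11 LD2_c50 LD3_c30)) :=
  Lgr Lrot170 (Lpr_gt (K69.f897743 IH) (Lpe (f408205 IH) (Lpr_et (K56.f408207 IH) (Lpe (f699515 IH) (Lpr_dt (f285159 IH) (Lpr_gt (f285156 IH) (Lpr_df (K39.f186200 IH) (Lpe (f285218 IH) (Lpr_gt (K56.f285334 IH) (Lpe (f536579 IH) (Lpn (LP (LK LD1_c11 LD2_c50 LD3_c30)))))))))))))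
theorem f644567 : Led Lsl_et (LP (LK LD1_c26 LD2_c49 LD3_c30)) = (LP (LK LD1_c16 LD2_c52 LD3_c23)) :=
  Lre_e IH (LK LD1_c26 LD2_c49 LD3_c30) (LK LD1_c16 LD2_c52 LD3_c23) Lrfl Lrfl
theorem f897737 : Led Lsl_bt (LP (LK LD1_c16 LD2_c56 LD3_c20)) = (LP (LK LD1_c26 LD2_c49 LD3_c30)) :=
  Lgr Lrot119 (Lpr_ef (K69.f897733 IH) (Lpe (K69.f897096 IH) (Lpe (f644567 IH) (Lpn (LP (LK LD1_c26 LD2_c49 LD3_c30))))))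
theorem f897753 : Led Lsl_dt (LP (LK LD1_c26 LD2_c49 LD3_c30)) = (LP (LK LD1_c20 LD2_c52 LD3_c46)) :=
  Lgr Lrot79 (Lpe (f897737 IH) (Lpr_df (f897751 IH) (Lpe (f536581 IH) (Lpn (LP (LK LD1_c20 LD2_c52 LD3_c46))))))
theorem f897755 : Led Lsl_df (LP (LK LD1_c26 LD2_c49 LD3_c30)) = (LP (LK LD1_c20 LD2_c52 LD3_c46)) :=
  Lgr Lrot38 (Lpr_dt (f897753 IH) (Lpn (LP (LK LD1_c20 LD2_c52 LD3_c46))))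
def v41584 : LQ := Led Lsl_gf (LP (LK LD1_c9 LD2_c59 LD3_c7))
theorem f926901 : Led Lsl_gf (LP (LK LD1_c9 LD2_c59 LD3_c7)) = v41584 :=
  Lrfl
theorem f495600 : Led Lsl_ct (LP (LK LD1_c5 LD2_c40 LD3_c10)) = (LP (LK LD1_c2 LD2_c46 LD3_c0)) :=
  Lre_c IH (LK LD1_c5 LD2_c40 LD3_c10) (LK LD1_c2 LD2_c46 LD3_c0) Lrfl Lrfl
theorem f553750 : Led Lsl_gt (LP (LK LD1_c11 LD2_c11 LD3_c7)) = (LP (LK LD1_c5 LD2_c40 LD3_c10)) :=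
  Lre_g IH (LK LD1_c11 LD2_c11 LD3_c7) (LK LD1_c5 LD2_c40 LD3_c10) Lrfl Lrfl
theorem f59995 : Led Lsl_et (LP (LK LD1_c3 LD2_c0 LD3_c57)) = (LP (LK LD1_c4 LD2_c40 LD3_c61)) :=
  Lre_e IH (LK LD1_c3 LD2_c0 LD3_c57) (LK LD1_c4 LD2_c40 LD3_c61) Lrfl Lrfl
theorem f354391 : Led Lsl_et (LP (LK LD1_c2 LD2_c45 LD3_c61)) = (LP (LK LD1_c5 LD2_c40 LD3_c10)) :=
  Lre_e IH (LK LD1_c2 LD2_c45 LD3_c61) (LK LD1_c5 LD2_c40 LD3_c10) Lrfl Lrfl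
theorem f553751 : Led Lsl_et (LP (LK LD1_c12 LD2_c3 LD3_c51)) = (LP (LK LD1_c11 LD2_c11 LD3_c7)) :=
  Lgr Lrot185 (Lpe (K24.f416778 IH) (Lpe (K35.f414923 IH) (Lpr_df (K24.f414810 IH) (Lpe (K24.f22870 IH) (Lpe (f59995 IH) (Lpr_dt (K9.f60073 IH) (Lpr_gf (K39.f553743 IH) (Lpe (K30.f354390 IH) (Lpr_et (f354391 IH) (Lpe (f553750 IH) (Lpn (LP (LK LD1_c11 LD2_c11 LD3_c7)))))))))))))
theorem f553755 : Led Lsl_ef (LP (LK LD1_c12 LD2_c3 LD3_c51)) = (LP (LK LD1_c11 LD2_c11 LD3_c7)) :=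
  Lgr Lrot88 (Lpr_et (f553751 IH) (Lpn (LP (LK LD1_c11 LD2_c11 LD3_c7))))
theorem f634180 : Led Lsl_cf (LP (LK LD1_c11 LD2_c11 LD3_c7)) = (LP (LK LD1_c11 LD2_c36 LD3_c1)) :=
  Lgr Lrot39 (Lpe (f553755 IH) (Lpr_ct (K24.f414741 IH) (Lpr_et (K35.f634176 IH) (Lpn (LP (LK LD1_c11 LD2_c36 LD3_c1))))))
theorem f926904 : Led Lsl_ct (LP (LK LD1_c10 LD2_c4 LD3_c28)) = v41584 :=
  Lgr Lrot152 (Lpe (K56.f285334 IH) (Lpr_df (K56.f180379 IH) (Lpe (K67.f421543 IH) (Lpe (f634180 IH) (Lpr_gt (f553750 IH) (Lpr_ct (f495600 IH) (Lpr_df (K50.f622440 IH) (Lpr_cf (K19.f250196 IH) (Lpr_gf (f926901 IH) (Lpn v41584))))))))))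
theorem f354434 : Led Lsl_bt (LP (LK LD1_c2 LD2_c46 LD3_c0)) = (LP (LK LD1_c1 LD2_c19 LD3_c23)) :=
  Lre_b IH (LK LD1_c2 LD2_c46 LD3_c0) (LK LD1_c1 LD2_c19 LD3_c23) Lrfl Lrfl
theorem f622447 : Led Lsl_bt (LP (LK LD1_c2 LD2_c46 LD3_c3)) = (LP (LK LD1_c5 LD2_c7 LD3_c7)) :=
  Lgr Lrot95 (Lpe (K64.f172150 IH) (Lpe (f354434 IH) (Lpr_df (K50.f622440 IH) (Lpn (LP (LK LD1_c5 LD2_c7 LD3_c7))))))
theorem f622474 : Led Lsl_bf (LP (LK LD1_c2 LD2_c46 LD3_c3)) = (LP (LK LD1_c5 LD2_c7 LD3_c7)) :=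
  Lgr Lrot24 (Lpr_bt (f622447 IH) (Lpn (LP (LK LD1_c5 LD2_c7 LD3_c7))))
def v24473 : LQ := Led Lsl_ct K64.v4756
theorem f823757 : Led Lsl_ct K64.v4756 = v24473 :=
  Lrfl
def v4750 : LQ := Led Lsl_ct (LP (LK LD1_c2 LD2_c46 LD3_c1))
theorem f638836 : Led Lsl_ct (LP (LK LD1_c2 LD2_c46 LD3_c1)) = v4750 :=
  Lrfl
theorem f747152 : Led Lsl_ff (LP (LK LD1_c11 LD2_c21 LD3_c28)) = K55.v16229 :=
  Lgr Lrot3 (Lpr_ft (K55.f747149 IH) (Lpn K55.v16229))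
theorem f747144 : Led Lsl_bt (LP (LK LD1_c5 LD2_c55 LD3_c21)) = K55.v16229 :=
  Lgr Lrot119 (Lpe (K55.f631991 IH) (Lpe (K55.f442475 IH) (Lpr_ef (K55.f747142 IH) (Lpn K55.v16229))))
theorem f631994 : Led Lsl_ft (LP (LK LD1_c11 LD2_c36 LD3_c2)) = (LP (LK LD1_c5 LD2_c55 LD3_c21)) :=
  Lre_f IH (LK LD1_c11 LD2_c36 LD3_c2) (LK LD1_c5 LD2_c55 LD3_c21) Lrfl Lrfl
theorem f747153 : Led Lsl_bt (LP (LK LD1_c11 LD2_c21 LD3_c28)) = (LP (LK LD1_c11 LD2_c36 LD3_c2)) :=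
  Lgr Lrot35 (Lpr_ff (f747152 IH) (Lpe (f747144 IH) (Lpe (f631994 IH) (Lpn (LP (LK LD1_c11 LD2_c36 LD3_c2))))))
theorem f495532 : Led Lsl_bt (LP (LK LD1_c11 LD2_c21 LD3_c26)) = (LP (LK LD1_c5 LD2_c45 LD3_c28)) :=
  Lre_b IH (LK LD1_c11 LD2_c21 LD3_c26) (LK LD1_c5 LD2_c45 LD3_c28) Lrfl Lrfl
theorem f747155 : (LP (LK LD1_c11 LD2_c21 LD3_c26)) = v15795 :=
  (Llr Lrot93 (Lpr_bt (f495532 IH) (Lpr_dt (K55.f168313 IH) (Lpr_bt (f747153 IH) (Lpr_dt (f741587 IH) (Lpn v15795)))))).symm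
theorem f740980 : Led Lsl_bt (LP (LK LD1_c5 LD2_c45 LD3_c28)) = (LP (LK LD1_c11 LD2_c21 LD3_c26)) :=
  Lre_b IH (LK LD1_c5 LD2_c45 LD3_c28) (LK LD1_c11 LD2_c21 LD3_c26) Lrfl Lrfl
theorem f747164 : Led Lsl_bt (LP (LK LD1_c11 LD2_c36 LD3_c1)) = K55.v15699 :=
  Lgr Lrot35 (Lpr_ff (f741586 IH) (Lpq (f747155 IH) (Lpe (f740980 IH) (Lpr_ff (K55.f740988 IH) (Lpn K55.v15699)))))
theorem f495605 : Led Lsl_ct (LP (LK LD1_c2 LD2_c46 LD3_c0)) = (LP (LK LD1_c5 LD2_c40 LD3_c10)) :=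
  Lre_c IH (LK LD1_c2 LD2_c46 LD3_c0) (LK LD1_c5 LD2_c40 LD3_c10) Lrfl Lrfl
theorem f385543 : Led Lsl_bt (LP (LK LD1_c2 LD2_c48 LD3_c33)) = (LP (LK LD1_c5 LD2_c45 LD3_c31)) :=
  Lre_b IH (LK LD1_c2 LD2_c48 LD3_c33) (LK LD1_c5 LD2_c45 LD3_c31) Lrfl Lrfl
def v4804 : LQ := Led Lsl_ct (LP (LK LD1_c2 LD2_c48 LD3_c33))
theorem f639071 : Led Lsl_ct (LP (LK LD1_c2 LD2_c48 LD3_c33)) = v4804 :=
  Lrfl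
theorem f747246 : Led Lsl_gt v4750 = v4804 :=
  Lgr Lrot149 (Lpe (f638836 IH) (Lpe (K54.f172040 IH) (Lpe (f354434 IH) (Lpr_ct (f495605 IH) (Lpe (f553750 IH) (Lpr_cf (f634180 IH) (Lpr_bt (f747164 IH) (Lpqs (K55.f747211 IH) (Lpe (K55.f385539 IH) (Lpe (f385543 IH) (Lpr_ct (f639071 IH) (Lpn v4804))))))))))))
theorem f639072 : Led Lsl_cf (LP (LK LD1_c2 LD2_c48 LD3_c33)) = v4804 :=
  Lgr Lrot11 (Lpr_ct (f639071 IH) (Lpn v4804))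
theorem f639068 : Led Lsl_ff (LP (LK LD1_c2 LD2_c48 LD3_c32)) = K69.v4803 :=
  Lgr Lrot3 (Lpr_ft (K69.f639065 IH) (Lpn K69.v4803))
theorem f639069 : Led Lsl_dt (LP (LK LD1_c2 LD2_c48 LD3_c33)) = K69.v4803 :=
  Lgr Lrot60 (Lpe (K55.f385542 IH) (Lpe (K18.f168237 IH) (Lpr_ff (f639068 IH) (Lpn K69.v4803))))
def v4632 : LQ := Led Lsl_et (LP (LK LD1_c2 LD2_c39 LD3_c49))
def v24230 : LQ := Led Lsl_ft v4632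
theorem f823037 : Led Lsl_ft v4632 = v24230 :=
  Lrfl
theorem f638250 : Led Lsl_et (LP (LK LD1_c2 LD2_c39 LD3_c49)) = v4632 :=
  Lrfl
theorem f638252 : Led Lsl_ef (LP (LK LD1_c2 LD2_c39 LD3_c49)) = v4632 :=
  Lgr Lrot88 (Lpr_et (f638250 IH) (Lpn v4632))
theorem f638253 : Led Lsl_ct (LP (LK LD1_c2 LD2_c48 LD3_c32)) = v4632 :=
  Lgr Lrot15 (Lpe (K18.f168235 IH) (Lpe (K17.f183041 IH) (Lpr_ef (f638252 IH) (Lpn v4632))))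
theorem f823038 : Led Lsl_cf K69.v4803 = v24230 :=
  Lgr Lrot108 (Lpe (f639068 IH) (Lpr_ct (f638253 IH) (Lpr_ft (f823037 IH) (Lpn v24230))))
theorem f823759 : Led Lsl_gf v24230 = v24473 :=
  Lgr Lrot104 (Lpe (f823038 IH) (Lpe (f639069 IH) (Lpr_cf (f639072 IH) (Lpe (f747246 IH) (Lpe (f638836 IH) (Lpe (K54.f172040 IH) (Lpe (K54.f172049 IH) (Lpr_gt (K64.f638850 IH) (Lpr_ct (f823757 IH) (Lpn v24473))))))))))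
theorem f823040 : Led Lsl_ff v4632 = v24230 :=
  Lgr Lrot3 (Lpr_ft (f823037 IH) (Lpn v24230))
theorem f183046 : Led Lsl_cf (LP (LK LD1_c2 LD2_c39 LD3_c49)) = (LP (LK LD1_c2 LD2_c0 LD3_c9)) :=
  Lgr Lrot11 (Lpr_ct (K17.f183041 IH) (Lpn (LP (LK LD1_c2 LD2_c0 LD3_c9))))
theorem f638251 : Led Lsl_cf (LP (LK LD1_c2 LD2_c48 LD3_c32)) = v4632 :=
  Lgr Lrot39 (Lpe (K18.f168227 IH) (Lpe (f183046 IH) (Lpr_et (f638250 IH) (Lpn v4632))))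
theorem f823041 : Led Lsl_ct K69.v4803 = v24230 :=
  Lgr Lrot40 (Lpe (K69.f639065 IH) (Lpr_cf (f638251 IH) (Lpr_ff (f823040 IH) (Lpn v24230))))
def v15705 : LQ := Led Lsl_ft (LP (LK LD1_c5 LD2_c45 LD3_c30))
theorem f741002 : Led Lsl_ft (LP (LK LD1_c5 LD2_c45 LD3_c30)) = v15705 :=
  Lrfl
theorem f741006 : Led Lsl_ff (LP (LK LD1_c5 LD2_c45 LD3_c30)) = v15705 :=
  Lgr Lrot3 (Lpr_ft (f741002 IH) (Lpn v15705))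
theorem f168232 : Led Lsl_bt (LP (LK LD1_c5 LD2_c45 LD3_c30)) = (LP (LK LD1_c2 LD2_c48 LD3_c32)) :=
  Lre_b IH (LK LD1_c5 LD2_c45 LD3_c30) (LK LD1_c2 LD2_c48 LD3_c32) Lrfl Lrfl
theorem f741007 : Led Lsl_bt K69.v4803 = v15705 :=
  Lgr Lrot35 (Lpe (K69.f639065 IH) (Lpe (f168232 IH) (Lpr_ff (f741006 IH) (Lpn v15705))))
theorem f930478 : Led Lsl_gt v15705 = v41966 :=
  Lgr Lrot164 (Lpe (f741007 IH) (Lpr_ct (f823041 IH) (Lpr_gf (f823759 IH) (Lpe (f823757 IH) (Lpe (K64.f638850 IH) (Lpr_bf (f622474 IH) (Lpr_ct (K19.f250194 IH) (Lpr_gf (f926901 IH) (Lpe (f926904 IH) (Lpr_bt (f930473 IH) (Lpn v41966)))))))))))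
theorem f168231 : Led Lsl_bt (LP (LK LD1_c2 LD2_c0 LD3_c9)) = (LP (LK LD1_c4 LD2_c5 LD3_c43)) :=
  Lre_b IH (LK LD1_c2 LD2_c0 LD3_c9) (LK LD1_c4 LD2_c5 LD3_c43) Lrfl Lrfl
theorem f168233 : Led Lsl_et (LP (LK LD1_c4 LD2_c5 LD3_c43)) = (LP (LK LD1_c5 LD2_c45 LD3_c30)) :=
  Lgr Lrot74 (Lpe (f168231 IH) (Lpr_ef (K18.f168227 IH) (Lpe (f168232 IH) (Lpn (LP (LK LD1_c5 LD2_c45 LD3_c30))))))
theorem f721979 : Led Lsl_at (LP (LK LD1_c5 LD2_c45 LD3_c30)) = K55.v14335 :=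
  Lgr Lrot80 (Lpe (f168233 IH) (Lpe (K43.f579647 IH) (Lpr_ef (K55.f721978 IH) (Lpn K55.v14335))))
theorem f930479 : Led Lsl_gf K55.v14335 = v41966 :=
  Lgr Lrot76 (Lpe (f721979 IH) (Lpr_ff (f741006 IH) (Lpr_gt (f930478 IH) (Lpn v41966))))
theorem f579655 : Led Lsl_dt (LP (LK LD1_c5 LD2_c6 LD3_c48)) = (LP (LK LD1_c2 LD2_c33 LD3_c35)) :=
  Lgr Lrot79 (Lpr_bf (K43.f579651 IH) (Lpe (K39.f176006 IH) (Lpr_bf (K42.f551759 IH) (Lpn (LP (LK LD1_c2 LD2_c33 LD3_c35))))))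
theorem f546431 : Led Lsl_et (LP (LK LD1_c4 LD2_c37 LD3_c19)) = (LP (LK LD1_c9 LD2_c10 LD3_c16)) :=
  Lre_e IH (LK LD1_c4 LD2_c37 LD3_c19) (LK LD1_c9 LD2_c10 LD3_c16) Lrfl Lrfl
theorem f546434 : Led Lsl_gt (LP (LK LD1_c9 LD2_c10 LD3_c16)) = (LP (LK LD1_c17 LD2_c3 LD3_c24)) :=
  Lre_g IH (LK LD1_c9 LD2_c10 LD3_c16) (LK LD1_c17 LD2_c3 LD3_c24) Lrfl Lrfl
theorem f546435 : Led Lsl_dt (LP (LK LD1_c17 LD2_c3 LD3_c24)) = (LP (LK LD1_c26 LD2_c57 LD3_c61)) :=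
  Lre_d IH (LK LD1_c17 LD2_c3 LD3_c24) (LK LD1_c26 LD2_c57 LD3_c61) Lrfl Lrfl
theorem f930483 : Led Lsl_gf (LP (LK LD1_c26 LD2_c49 LD3_c30)) = (LP (LK LD1_c26 LD2_c57 LD3_c61)) :=
  Lgr Lrot134 (Lpr_df (f897755 IH) (Lpr_et (f930482 IH) (Lpe (f930479 IH) (Lpe (K55.f721974 IH) (Lpr_dt (f579655 IH) (Lpr_gt (K43.f406468 IH) (Lpr_df (K38.f546412 IH) (Lpr_et (f546431 IH) (Lpr_gt (f546434 IH) (Lpr_dt (f546435 IH) (Lpn (LP (LK LD1_c26 LD2_c57 LD3_c61)))))))))))))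
theorem f930484 : Led Lsl_gt (LP (LK LD1_c26 LD2_c57 LD3_c61)) = (LP (LK LD1_c26 LD2_c49 LD3_c30)) :=
  Leop (Lpr_gf (f930483 IH) (Lpn (LP (LK LD1_c26 LD2_c57 LD3_c61))))
theorem seed_2572 : LEOK LG_g (LK LD1_c26 LD2_c57 LD3_c61) :=
  Leoe_g (LK LD1_c26 LD2_c57 LD3_c61) (f930484 IH)
def v16204 : LQ := Led Lsl_gt (LP (LK LD1_c5 LD2_c55 LD3_c0))
theorem f747019 : Led Lsl_gt (LP (LK LD1_c5 LD2_c55 LD3_c0)) = v16204 :=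
  Lrfl
def v41976 : LQ := Led Lsl_gt (LP (LK LD1_c10 LD2_c4 LD3_c37))
theorem f930555 : Led Lsl_gt (LP (LK LD1_c10 LD2_c4 LD3_c37)) = v41976 :=
  Lrfl
theorem f405203 : Led Lsl_bt (LP (LK LD1_c10 LD2_c4 LD3_c37)) = (LP (LK LD1_c5 LD2_c6 LD3_c60)) :=
  Lre_b IH (LK LD1_c10 LD2_c4 LD3_c37) (LK LD1_c5 LD2_c6 LD3_c60) Lrfl Lrfl
theorem f822760 : Led Lsl_ff (LP (LK LD1_c10 LD2_c4 LD3_c37)) = K64.v24169 :=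
  Lgr Lrot25 (Lpr_bt (f405203 IH) (Lpe (K55.f645421 IH) (Lpr_bt (K64.f822757 IH) (Lpn K64.v24169))))
theorem f822761 : Led Lsl_ft (LP (LK LD1_c10 LD2_c4 LD3_c37)) = K64.v24169 :=
  Lgr Lrot48 (Lpr_ff (f822760 IH) (Lpn K64.v24169))
theorem f924202 : Led Lsl_dt (LP (LK LD1_c11 LD2_c35 LD3_c27)) = (LP (LK LD1_c10 LD2_c45 LD3_c38)) :=
  Lgr Lrot42 (Lpr_df (f924197 IH) (Lpn (LP (LK LD1_c10 LD2_c45 LD3_c38))))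
theorem f924204 : Led Lsl_af (LP (LK LD1_c11 LD2_c35 LD3_c27)) = K64.v24169 :=
  Lgr Lrot117 (Lpr_dt (f924202 IH) (Lpe (f924144 IH) (Lpr_dt (K64.f822762 IH) (Lpn K64.v24169))))
theorem f930556 : Led Lsl_gf (LP (LK LD1_c11 LD2_c35 LD3_c27)) = v41976 :=
  Lgr Lrot76 (Lpr_af (f924204 IH) (Lpe (f822761 IH) (Lpr_gt (f930555 IH) (Lpn v41976))))
theorem f570852 : Led Lsl_et (LP (LK LD1_c5 LD2_c54 LD3_c61)) = (LP (LK LD1_c11 LD2_c35 LD3_c26)) :=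
  Lre_e IH (LK LD1_c5 LD2_c54 LD3_c61) (LK LD1_c11 LD2_c35 LD3_c26) Lrfl Lrfl
theorem f575551 : Led Lsl_et (LP (LK LD1_c20 LD2_c31 LD3_c9)) = (LP (LK LD1_c11 LD2_c33 LD3_c46)) :=
  Lre_e IH (LK LD1_c20 LD2_c31 LD3_c9) (LK LD1_c11 LD2_c33 LD3_c46) Lrfl Lrfl
theorem f575552 : Led Lsl_at (LP (LK LD1_c11 LD2_c35 LD3_c26)) = (LP (LK LD1_c20 LD2_c31 LD3_c9)) :=
  Lgr Lrot80 (Lpe (f570852 IH) (Lpr_af (K45.f575544 IH) (Lpe (f575551 IH) (Lpn (LP (LK LD1_c20 LD2_c31 LD3_c9))))))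
theorem f575657 : Led Lsl_ct (LP (LK LD1_c5 LD2_c55 LD3_c0)) = (LP (LK LD1_c11 LD2_c35 LD3_c26)) :=
  Lre_c IH (LK LD1_c5 LD2_c55 LD3_c0) (LK LD1_c11 LD2_c35 LD3_c26) Lrfl Lrfl
theorem f421497 : Led Lsl_ct (LP (LK LD1_c20 LD2_c31 LD3_c9)) = (LP (LK LD1_c11 LD2_c33 LD3_c47)) :=
  Lre_c IH (LK LD1_c20 LD2_c31 LD3_c9) (LK LD1_c11 LD2_c33 LD3_c47) Lrfl Lrfl
theorem f575658 : Led Lsl_af (LP (LK LD1_c5 LD2_c55 LD3_c0)) = (LP (LK LD1_c11 LD2_c33 LD3_c47)) :=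
  Lgr Lrot68 (Lpr_ct (f575657 IH) (Lpr_at (f575552 IH) (Lpr_ct (f421497 IH) (Lpn (LP (LK LD1_c11 LD2_c33 LD3_c47))))))
theorem f930557 : Led Lsl_ff (LP (LK LD1_c11 LD2_c33 LD3_c47)) = v41976 :=
  Lgr Lrot52 (Lpe (f575658 IH) (Lpe (f500467 IH) (Lpr_gf (f930556 IH) (Lpn v41976))))
theorem f566977 : Led Lsl_ft (LP (LK LD1_c5 LD2_c55 LD3_c0)) = (LP (LK LD1_c11 LD2_c35 LD3_c28)) :=
  Lre_f IH (LK LD1_c5 LD2_c55 LD3_c0) (LK LD1_c11 LD2_c35 LD3_c28) Lrfl Lrfl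
theorem f930558 : Led Lsl_at (LP (LK LD1_c11 LD2_c35 LD3_c28)) = v41976 :=
  Lgr Lrot66 (Lpe (f566977 IH) (Lpr_af (f575658 IH) (Lpr_ff (f930557 IH) (Lpn v41976))))
theorem f930565 : v16204 = (LP (LK LD1_c10 LD2_c4 LD3_c37)) :=
  (Llr Lrot5 (Lpe (f747019 IH) (Lpr_ft (f566977 IH) (Lpr_at (f930558 IH) (Lpe (f930555 IH) (Lpn (LP (LK LD1_c10 LD2_c4 LD3_c37)))))))).symm
theorem f930566 : Led Lsl_gt (LP (LK LD1_c5 LD2_c55 LD3_c0)) = (LP (LK LD1_c10 LD2_c4 LD3_c37)) :=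
  Leop (Lpq (f930565 IH) (Lpe (f747019 IH) (Lpn (LP (LK LD1_c5 LD2_c55 LD3_c0)))))
theorem seed_2573 : LEOK LG_g (LK LD1_c5 LD2_c55 LD3_c0) :=
  Leoe_g (LK LD1_c5 LD2_c55 LD3_c0) (f930566 IH)
def v41977 : LQ := Led Lsl_at (LP (LK LD1_c10 LD2_c4 LD3_c37))
theorem f930567 : Led Lsl_at (LP (LK LD1_c10 LD2_c4 LD3_c37)) = v41977 :=
  Lrfl
theorem f930572 : Led Lsl_gt (LP (LK LD1_c11 LD2_c33 LD3_c47)) = v41977 :=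
  Lgr Lrot46 (Lpr_gf (K64.f822763 IH) (Lpe (f822760 IH) (Lpr_at (f930567 IH) (Lpn v41977))))
theorem f553848 : Led Lsl_et (LP (LK LD1_c2 LD2_c46 LD3_c56)) = (LP (LK LD1_c5 LD2_c41 LD3_c51)) :=
  Lre_e IH (LK LD1_c2 LD2_c46 LD3_c56) (LK LD1_c5 LD2_c41 LD3_c51) Lrfl Lrfl
theorem f280581 : Led Lsl_dt (LP (LK LD1_c5 LD2_c41 LD3_c51)) = (LP (LK LD1_c11 LD2_c13 LD3_c55)) :=
  Lre_d IH (LK LD1_c5 LD2_c41 LD3_c51) (LK LD1_c11 LD2_c13 LD3_c55) Lrfl Lrfl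
theorem f553849 : Led Lsl_et (LP (LK LD1_c11 LD2_c13 LD3_c55)) = (LP (LK LD1_c5 LD2_c53 LD3_c61)) :=
  Lgr Lrot71 (Lpe (f280581 IH) (Lpe (f553848 IH) (Lpr_df (K39.f552041 IH) (Lpr_ef (K39.f553844 IH) (Lpe (K42.f553837 IH) (Lpn (LP (LK LD1_c5 LD2_c53 LD3_c61))))))))
theorem f561609 : Led Lsl_gt (LP (LK LD1_c11 LD2_c13 LD3_c54)) = (LP (LK LD1_c5 LD2_c41 LD3_c51)) :=
  Lre_g IH (LK LD1_c11 LD2_c13 LD3_c54) (LK LD1_c5 LD2_c41 LD3_c51) Lrfl Lrfl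
theorem f614094 : Led Lsl_dt (LP (LK LD1_c20 LD2_c8 LD3_c38)) = (LP (LK LD1_c11 LD2_c13 LD3_c54)) :=
  Lre_d IH (LK LD1_c20 LD2_c8 LD3_c38) (LK LD1_c11 LD2_c13 LD3_c54) Lrfl Lrfl
theorem f930574 : Led Lsl_et (LP (LK LD1_c20 LD2_c8 LD3_c38)) = v41977 :=
  Lgr Lrot122 (Lpr_dt (f614094 IH) (Lpr_gt (f561609 IH) (Lpe (K42.f561598 IH) (Lpr_et (f553849 IH) (Lpr_gt (K38.f71263 IH) (Lpr_dt (K39.f71276 IH) (Lpr_gt (K36.f71238 IH) (Lpe (K45.f421503 IH) (Lpr_et (K64.f421498 IH) (Lpr_gt (f930572 IH) (Lpn v41977)))))))))))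
theorem f930575 : Led Lsl_ef (LP (LK LD1_c20 LD2_c8 LD3_c38)) = v41977 :=
  Lgr Lrot88 (Lpr_et (f930574 IH) (Lpn v41977))
theorem f553770 : Led Lsl_et (LP (LK LD1_c4 LD2_c32 LD3_c35)) = (LP (LK LD1_c9 LD2_c2 LD3_c40)) :=
  Lre_e IH (LK LD1_c4 LD2_c32 LD3_c35) (LK LD1_c9 LD2_c2 LD3_c40) Lrfl Lrfl
theorem f595798 : Led Lsl_gt (LP (LK LD1_c9 LD2_c2 LD3_c40)) = (LP (LK LD1_c16 LD2_c53 LD3_c8)) :=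
  Lre_g IH (LK LD1_c9 LD2_c2 LD3_c40) (LK LD1_c16 LD2_c53 LD3_c8) Lrfl Lrfl
def v4942 : LQ := Led Lsl_gf (LP (LK LD1_c2 LD2_c53 LD3_c15))
theorem f640993 : Led Lsl_gf (LP (LK LD1_c2 LD2_c53 LD3_c15)) = v4942 :=
  Lrfl
theorem f645783 : Led Lsl_gt (LP (LK LD1_c4 LD2_c39 LD3_c9)) = K54.v1714 :=
  Lgr Lrot5 (Lpr_ft (K53.f645775 IH) (Lpr_at (K56.f452890 IH) (Lpr_gf (K54.f500996 IH) (Lpn K54.v1714))))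
theorem f739229 : (LP (LK LD1_c4 LD2_c39 LD3_c9)) = v4942 :=
  Lefun (Lecon (Lfl_gt (f645783 IH)) (K54.f739226 IH)) (f640993 IH)
theorem f740647 : Led Lsl_ef (LP (LK LD1_c16 LD2_c53 LD3_c8)) = (LP (LK LD1_c9 LD2_c14 LD3_c1)) :=
  Lgr Lrot17 (Lpe (f595798 IH) (Lpe (f553770 IH) (Lpr_dt (K42.f553762 IH) (Lpe (K35.f172615 IH) (Lpr_df (K30.f172598 IH) (Lpe (K31.f172613 IH) (Lpe (K38.f172625 IH) (Lpe (K56.f614368 IH) (Lpr_gf (f640993 IH) (Lpq (f739229 IH) (Lpe (K53.f645755 IH) (Lpn (LP (LK LD1_c9 LD2_c14 LD3_c1))))))))))))))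
theorem f632074 : Led Lsl_et (LP (LK LD1_c9 LD2_c14 LD3_c5)) = (LP (LK LD1_c4 LD2_c39 LD3_c10)) :=
  Lre_e IH (LK LD1_c9 LD2_c14 LD3_c5) (LK LD1_c4 LD2_c39 LD3_c10) Lrfl Lrfl
theorem f740649 : Led Lsl_at (LP (LK LD1_c16 LD2_c53 LD3_c8)) = (LP (LK LD1_c9 LD2_c14 LD3_c5)) :=
  Lgr Lrot80 (Lpr_ef (f740647 IH) (Lpe (K56.f632056 IH) (Lpe (f632074 IH) (Lpn (LP (LK LD1_c9 LD2_c14 LD3_c5))))))
theorem f632062 : Led Lsl_dt (LP (LK LD1_c4 LD2_c39 LD3_c10)) = (LP (LK LD1_c2 LD2_c16 LD3_c34)) :=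
  Lre_d IH (LK LD1_c4 LD2_c39 LD3_c10) (LK LD1_c2 LD2_c16 LD3_c34) Lrfl Lrfl
theorem f632067 : Led Lsl_et (LP (LK LD1_c4 LD2_c39 LD3_c10)) = (LP (LK LD1_c9 LD2_c14 LD3_c5)) :=
  Lre_e IH (LK LD1_c4 LD2_c39 LD3_c10) (LK LD1_c9 LD2_c14 LD3_c5) Lrfl Lrfl
theorem f720669 : Led Lsl_gf (LP (LK LD1_c9 LD2_c14 LD3_c5)) = (LP (LK LD1_c5 LD2_c41 LD3_c51)) :=
  Lgr Lrot141 (Lpe (f632067 IH) (Lpr_dt (f632062 IH) (Lpr_gt (K53.f632061 IH) (Lpqs (K53.f720630 IH) (Lpr_df (K54.f614364 IH) (Lpr_et (K38.f181278 IH) (Lpe (K30.f411831 IH) (Lpe (K30.f172637 IH) (Lpe (K38.f386172 IH) (Lpe (K40.f561594 IH) (Lpr_et (f553848 IH) (Lpn (LP (LK LD1_c5 LD2_c41 LD3_c51))))))))))))))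
theorem f740663 : Led Lsl_ff (LP (LK LD1_c16 LD2_c53 LD3_c8)) = (LP (LK LD1_c11 LD2_c13 LD3_c54)) :=
  Lgr Lrot52 (Lpr_at (f740649 IH) (Lpr_gf (f720669 IH) (Lpe (f561609 IH) (Lpn (LP (LK LD1_c11 LD2_c13 LD3_c54))))))
theorem f740670 : Led Lsl_ft (LP (LK LD1_c16 LD2_c53 LD3_c8)) = (LP (LK LD1_c11 LD2_c13 LD3_c54)) :=
  Lgr Lrot48 (Lpr_ff (f740663 IH) (Lpn (LP (LK LD1_c11 LD2_c13 LD3_c54))))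
theorem f740653 : Led Lsl_et (LP (LK LD1_c16 LD2_c53 LD3_c8)) = (LP (LK LD1_c9 LD2_c14 LD3_c1)) :=
  Lgr Lrot87 (Lpr_ef (f740647 IH) (Lpn (LP (LK LD1_c9 LD2_c14 LD3_c1))))
theorem f645465 : Led Lsl_bf (LP (LK LD1_c9 LD2_c13 LD3_c47)) = (LP (LK LD1_c6 LD2_c2 LD3_c51)) :=
  Lgr Lrot93 (Lpr_dt (K52.f645463 IH) (Lpr_bt (K53.f645459 IH) (Lpr_dt (K53.f645464 IH) (Lpn (LP (LK LD1_c6 LD2_c2 LD3_c51))))))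
theorem f645468 : Led Lsl_bt (LP (LK LD1_c9 LD2_c13 LD3_c47)) = (LP (LK LD1_c6 LD2_c2 LD3_c51)) :=
  Lgr Lrot127 (Lpr_bf (f645465 IH) (Lpn (LP (LK LD1_c6 LD2_c2 LD3_c51))))
theorem f645773 : Led Lsl_bt (LP (LK LD1_c9 LD2_c14 LD3_c1)) = (LP (LK LD1_c6 LD2_c3 LD3_c10)) :=
  Lgr Lrot35 (Lpr_ff (K53.f645758 IH) (Lpe (f645468 IH) (Lpe (K52.f645487 IH) (Lpn (LP (LK LD1_c6 LD2_c3 LD3_c10))))))
theorem f714616 : Led Lsl_et (LP (LK LD1_c6 LD2_c3 LD3_c10)) = (LP (LK LD1_c11 LD2_c15 LD3_c53)) :=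
  Lgr Lrot87 (Lpr_ef (K56.f714539 IH) (Lpn (LP (LK LD1_c11 LD2_c15 LD3_c53))))
theorem f740657 : Led Lsl_bf (LP (LK LD1_c16 LD2_c53 LD3_c8)) = (LP (LK LD1_c11 LD2_c15 LD3_c53)) :=
  Lgr Lrot96 (Lpr_et (f740653 IH) (Lpr_bt (f645773 IH) (Lpr_et (f714616 IH) (Lpn (LP (LK LD1_c11 LD2_c15 LD3_c53))))))
theorem f714546 : Led Lsl_ft (LP (LK LD1_c16 LD2_c52 LD3_c10)) = (LP (LK LD1_c11 LD2_c15 LD3_c53)) :=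
  Lgr Lrot48 (Lpr_ff (K55.f714541 IH) (Lpn (LP (LK LD1_c11 LD2_c15 LD3_c53))))
theorem f740674 : Led Lsl_bf (LP (LK LD1_c16 LD2_c52 LD3_c10)) = (LP (LK LD1_c11 LD2_c13 LD3_c54)) :=
  Lgr Lrot61 (Lpr_ft (f714546 IH) (Lpe (f740657 IH) (Lpr_ft (f740670 IH) (Lpn (LP (LK LD1_c11 LD2_c13 LD3_c54))))))
theorem f740678 : Led Lsl_bt (LP (LK LD1_c26 LD2_c49 LD3_c15)) = (LP (LK LD1_c20 LD2_c8 LD3_c38)) :=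
  Lgr Lrot95 (Lpe (K53.f602470 IH) (Lpr_bf (f740674 IH) (Lpe (f614094 IH) (Lpn (LP (LK LD1_c20 LD2_c8 LD3_c38))))))
theorem f740680 : Led Lsl_bf (LP (LK LD1_c26 LD2_c49 LD3_c15)) = (LP (LK LD1_c20 LD2_c8 LD3_c38)) :=
  Lgr Lrot24 (Lpr_bt (f740678 IH) (Lpn (LP (LK LD1_c20 LD2_c8 LD3_c38))))
theorem f930576 : Led Lsl_bt (LP (LK LD1_c18 LD2_c15 LD3_c14)) = v41977 :=
  Lgr Lrot119 (Lpr_ef (K53.f699366 IH) (Lpr_bf (f740680 IH) (Lpr_ef (f930575 IH) (Lpn v41977))))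
theorem f721224 : Led Lsl_cf (LP (LK LD1_c18 LD2_c22 LD3_c16)) = (LP (LK LD1_c18 LD2_c15 LD3_c14)) :=
  Lgr Lrot11 (Lpr_ct (K53.f721218 IH) (Lpn (LP (LK LD1_c18 LD2_c15 LD3_c14))))
theorem f714472 : Led Lsl_af (LP (LK LD1_c18 LD2_c23 LD3_c24)) = (LP (LK LD1_c18 LD2_c15 LD3_c60)) :=
  Lgr Lrot68 (Lpr_ct (f193916 IH) (Lpr_at (K53.f714468 IH) (Lpe (K53.f699294 IH) (Lpn (LP (LK LD1_c18 LD2_c15 LD3_c60))))))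
theorem f721242 : Led Lsl_gt (LP (LK LD1_c18 LD2_c22 LD3_c16)) = (LP (LK LD1_c10 LD2_c13 LD3_c54)) :=
  Lgr Lrot5 (Lpr_ft (K53.f721234 IH) (Lpe (f714472 IH) (Lpr_gf (f710754 IH) (Lpn (LP (LK LD1_c10 LD2_c13 LD3_c54))))))
theorem f405334 : Led Lsl_ct (LP (LK LD1_c18 LD2_c37 LD3_c22)) = (LP (LK LD1_c10 LD2_c13 LD3_c54)) :=
  Lre_c IH (LK LD1_c18 LD2_c37 LD3_c22) (LK LD1_c10 LD2_c13 LD3_c54) Lrfl Lrfl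
theorem f633761 : Led Lsl_bt (LP (LK LD1_c5 LD2_c7 LD3_c26)) = (LP (LK LD1_c10 LD2_c5 LD3_c16)) :=
  Lre_b IH (LK LD1_c5 LD2_c7 LD3_c26) (LK LD1_c10 LD2_c5 LD3_c16) Lrfl Lrfl
theorem f633924 : Led Lsl_gt (LP (LK LD1_c10 LD2_c5 LD3_c16)) = (LP (LK LD1_c18 LD2_c23 LD3_c59)) :=
  Lre_g IH (LK LD1_c10 LD2_c5 LD3_c16) (LK LD1_c18 LD2_c23 LD3_c59) Lrfl Lrfl
theorem f748679 : Led Lsl_bf (LP (LK LD1_c18 LD2_c23 LD3_c59)) = (LP (LK LD1_c18 LD2_c37 LD3_c22)) :=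
  Lgr Lrot34 (Lpe (f633924 IH) (Lpe (f633761 IH) (Lpr_ct (K55.f722229 IH) (Lpqs (K55.f748666 IH) (Lpe (K55.f166266 IH) (Lpr_cf (K55.f166260 IH) (Lpe (K46.f166168 IH) (Lpe (K53.f166282 IH) (Lpr_ct (K53.f166283 IH) (Lpr_gf (f710754 IH) (Lpe (f405334 IH) (Lpn (LP (LK LD1_c18 LD2_c37 LD3_c22))))))))))))))
theorem f570354 : Led Lsl_et (LP (LK LD1_c10 LD2_c5 LD3_c42)) = (LP (LK LD1_c5 LD2_c7 LD3_c42)) :=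
  Lre_e IH (LK LD1_c10 LD2_c5 LD3_c42) (LK LD1_c5 LD2_c7 LD3_c42) Lrfl Lrfl
theorem f3287 : Led Lsl_dt (LP (LK LD1_c2 LD2_c31 LD3_c10)) = (LP (LK LD1_c1 LD2_c12 LD3_c34)) :=
  Lre_d IH (LK LD1_c2 LD2_c31 LD3_c10) (LK LD1_c1 LD2_c12 LD3_c34) Lrfl Lrfl
theorem f495358 : Led Lsl_et (LP (LK LD1_c5 LD2_c7 LD3_c48)) = (LP (LK LD1_c2 LD2_c31 LD3_c10)) :=
  Lre_e IH (LK LD1_c5 LD2_c7 LD3_c48) (LK LD1_c2 LD2_c31 LD3_c10) Lrfl Lrfl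
theorem f568575 : Led Lsl_et (LP (LK LD1_c5 LD2_c7 LD3_c42)) = (LP (LK LD1_c10 LD2_c5 LD3_c42)) :=
  Lre_e IH (LK LD1_c5 LD2_c7 LD3_c42) (LK LD1_c10 LD2_c5 LD3_c42) Lrfl Lrfl
theorem f568576 : Led Lsl_df (LP (LK LD1_c5 LD2_c7 LD3_c48)) = (LP (LK LD1_c10 LD2_c5 LD3_c42)) :=
  Lgr Lrot70 (Lpr_et (f495358 IH) (Lpr_dt (f3287 IH) (Lpr_et (K42.f495357 IH) (Lpqs (K42.f568550 IH) (Lpr_dt (K42.f568557 IH) (Lpr_et (f568575 IH) (Lpn (LP (LK LD1_c10 LD2_c5 LD3_c42)))))))))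
theorem f570355 : Led Lsl_gt (LP (LK LD1_c10 LD2_c5 LD3_c51)) = (LP (LK LD1_c5 LD2_c7 LD3_c48)) :=
  Lre_g IH (LK LD1_c10 LD2_c5 LD3_c51) (LK LD1_c5 LD2_c7 LD3_c48) Lrfl Lrfl
theorem f570356 : Led Lsl_dt (LP (LK LD1_c18 LD2_c24 LD3_c38)) = (LP (LK LD1_c10 LD2_c5 LD3_c51)) :=
  Lre_d IH (LK LD1_c18 LD2_c24 LD3_c38) (LK LD1_c10 LD2_c5 LD3_c51) Lrfl Lrfl
theorem f570357 : Led Lsl_et (LP (LK LD1_c18 LD2_c24 LD3_c38)) = (LP (LK LD1_c10 LD2_c6 LD3_c16)) :=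
  Lgr Lrot122 (Lpr_dt (f570356 IH) (Lpr_gt (f570355 IH) (Lpr_df (f568576 IH) (Lpr_et (f570354 IH) (Lpr_gt (K42.f570342 IH) (Lpr_dt (K55.f380301 IH) (Lpr_gt (K38.f495658 IH) (Lpq (K38.f544988 IH) (Lpr_df (K38.f545047 IH) (Lpr_et (K38.f544992 IH) (Lpr_gt (K55.f545010 IH) (Lpn (LP (LK LD1_c10 LD2_c6 LD3_c16))))))))))))))
theorem f570360 : Led Lsl_ef (LP (LK LD1_c18 LD2_c24 LD3_c38)) = (LP (LK LD1_c10 LD2_c6 LD3_c16)) :=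
  Lgr Lrot88 (Lpr_et (f570357 IH) (Lpn (LP (LK LD1_c10 LD2_c6 LD3_c16))))
theorem f713430 : Led Lsl_bf (LP (LK LD1_c10 LD2_c7 LD3_c0)) = (LP (LK LD1_c18 LD2_c24 LD3_c38)) :=
  Lgr Lrot96 (Lpr_et (K51.f177208 IH) (Lpr_bt (K55.f713424 IH) (Lpe (f570360 IH) (Lpn (LP (LK LD1_c18 LD2_c24 LD3_c38))))))
theorem f570359 : Led Lsl_dt (LP (LK LD1_c10 LD2_c5 LD3_c51)) = (LP (LK LD1_c18 LD2_c24 LD3_c38)) :=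
  Lre_d IH (LK LD1_c10 LD2_c5 LD3_c51) (LK LD1_c18 LD2_c24 LD3_c38) Lrfl Lrfl
theorem f713434 : Led Lsl_bt (LP (LK LD1_c10 LD2_c18 LD3_c23)) = (LP (LK LD1_c10 LD2_c5 LD3_c51)) :=
  Lgr Lrot95 (Lpe (K51.f186670 IH) (Lpr_bf (f713430 IH) (Lpe (f570359 IH) (Lpn (LP (LK LD1_c10 LD2_c5 LD3_c51))))))
theorem f713438 : Led Lsl_bf (LP (LK LD1_c10 LD2_c18 LD3_c23)) = (LP (LK LD1_c10 LD2_c5 LD3_c51)) :=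
  Lgr Lrot24 (Lpr_bt (f713434 IH) (Lpn (LP (LK LD1_c10 LD2_c5 LD3_c51))))
theorem f193934 : Led Lsl_bt (LP (LK LD1_c5 LD2_c14 LD3_c19)) = (LP (LK LD1_c10 LD2_c18 LD3_c22)) :=
  Lre_b IH (LK LD1_c5 LD2_c14 LD3_c19) (LK LD1_c10 LD2_c18 LD3_c22) Lrfl Lrfl
theorem f713440 : Led Lsl_at (LP (LK LD1_c10 LD2_c18 LD3_c22)) = (LP (LK LD1_c10 LD2_c5 LD3_c51)) :=
  Lgr Lrot67 (Lpe (f193934 IH) (Lpe (K55.f633753 IH) (Lpe (f194078 IH) (Lpe (f710924 IH) (Lpr_bf (f713438 IH) (Lpn (LP (LK LD1_c10 LD2_c5 LD3_c51))))))))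
theorem f193941 : Led Lsl_bt (LP (LK LD1_c10 LD2_c18 LD3_c22)) = (LP (LK LD1_c5 LD2_c14 LD3_c19)) :=
  Lre_b IH (LK LD1_c10 LD2_c18 LD3_c22) (LK LD1_c5 LD2_c14 LD3_c19) Lrfl Lrfl
theorem f633762 : Led Lsl_ft (LP (LK LD1_c10 LD2_c5 LD3_c16)) = (LP (LK LD1_c10 LD2_c18 LD3_c22)) :=
  Lgr Lrot75 (Lpe (f633761 IH) (Lpr_ff (K51.f633759 IH) (Lpe (f193941 IH) (Lpn (LP (LK LD1_c10 LD2_c18 LD3_c22))))))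
theorem f713448 : Led Lsl_gt (LP (LK LD1_c18 LD2_c23 LD3_c59)) = (LP (LK LD1_c10 LD2_c5 LD3_c51)) :=
  Lgr Lrot46 (Lpe (f633924 IH) (Lpr_ft (f633762 IH) (Lpr_at (f713440 IH) (Lpn (LP (LK LD1_c10 LD2_c5 LD3_c51))))))
theorem f614498 : Led Lsl_ct (LP (LK LD1_c10 LD2_c5 LD3_c51)) = (LP (LK LD1_c18 LD2_c24 LD3_c37)) :=
  Lre_c IH (LK LD1_c10 LD2_c5 LD3_c51) (LK LD1_c18 LD2_c24 LD3_c37) Lrfl Lrfl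
theorem f930577 : Led Lsl_gt (LP (LK LD1_c18 LD2_c24 LD3_c37)) = (LP (LK LD1_c18 LD2_c24 LD3_c34)) :=
  Lgr Lrot149 (Lpe (f614498 IH) (Lpe (f713448 IH) (Lpr_bf (f748679 IH) (Lpr_ct (f405334 IH) (Lpe (f721242 IH) (Lpr_cf (f721224 IH) (Lpr_bt (f930576 IH) (Lpe (f930572 IH) (Lpr_bf (K64.f421485 IH) (Lpr_ct (K42.f421495 IH) (Lpn (LP (LK LD1_c18 LD2_c24 LD3_c34)))))))))))))
theorem f930578 : Led Lsl_gt (LP (LK LD1_c18 LD2_c24 LD3_c37)) = (LP (LK LD1_c18 LD2_c24 LD3_c34)) :=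
  Leop (Lpe (f930577 IH) (Lpn (LP (LK LD1_c18 LD2_c24 LD3_c37))))
theorem seed_2574 : LEOK LG_g (LK LD1_c18 LD2_c24 LD3_c37) :=
  Leoe_g (LK LD1_c18 LD2_c24 LD3_c37) (f930578 IH)
theorem f594612 : Led Lsl_at (LP (LK LD1_c10 LD2_c5 LD3_c42)) = (LP (LK LD1_c5 LD2_c7 LD3_c48)) :=
  Lre_a IH (LK LD1_c10 LD2_c5 LD3_c42) (LK LD1_c5 LD2_c7 LD3_c48) Lrfl Lrfl
theorem f713450 : Led Lsl_ft (LP (LK LD1_c18 LD2_c23 LD3_c59)) = (LP (LK LD1_c10 LD2_c5 LD3_c42)) :=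
  Lgr Lrot2 (Lpr_gt (f713448 IH) (Lpr_gt (f570355 IH) (Lpe (f594612 IH) (Lpn (LP (LK LD1_c10 LD2_c5 LD3_c42))))))
theorem f713459 : Led Lsl_ff (LP (LK LD1_c18 LD2_c23 LD3_c59)) = (LP (LK LD1_c10 LD2_c5 LD3_c42)) :=
  Lgr Lrot3 (Lpr_ft (f713450 IH) (Lpn (LP (LK LD1_c10 LD2_c5 LD3_c42))))
theorem f614490 : Led Lsl_dt (LP (LK LD1_c5 LD2_c7 LD3_c48)) = (LP (LK LD1_c10 LD2_c5 LD3_c42)) :=
  Lgr Lrot42 (Lpr_df (f568576 IH) (Lpn (LP (LK LD1_c10 LD2_c5 LD3_c42))))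
theorem f614496 : Led Lsl_ft (LP (LK LD1_c10 LD2_c5 LD3_c52)) = (LP (LK LD1_c5 LD2_c7 LD3_c48)) :=
  Lre_f IH (LK LD1_c10 LD2_c5 LD3_c52) (LK LD1_c5 LD2_c7 LD3_c48) Lrfl Lrfl
theorem f713463 : Led Lsl_dt (LP (LK LD1_c18 LD2_c23 LD3_c59)) = (LP (LK LD1_c10 LD2_c5 LD3_c52)) :=
  Lgr Lrot60 (Lpr_ff (f713459 IH) (Lpe (f614490 IH) (Lpe (f614496 IH) (Lpn (LP (LK LD1_c10 LD2_c5 LD3_c52))))))
theorem f193947 : Led Lsl_et (LP (LK LD1_c15 LD2_c27 LD3_c11)) = (LP (LK LD1_c8 LD2_c12 LD3_c53)) :=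
  Lre_e IH (LK LD1_c15 LD2_c27 LD3_c11) (LK LD1_c8 LD2_c12 LD3_c53) Lrfl Lrfl
theorem f193940 : Led Lsl_bt (LP (LK LD1_c8 LD2_c12 LD3_c54)) = (LP (LK LD1_c15 LD2_c27 LD3_c11)) :=
  Lre_b IH (LK LD1_c8 LD2_c12 LD3_c54) (LK LD1_c15 LD2_c27 LD3_c11) Lrfl Lrfl
theorem f193942 : Led Lsl_dt (LP (LK LD1_c15 LD2_c27 LD3_c11)) = (LP (LK LD1_c10 LD2_c18 LD3_c22)) :=
  Lgr Lrot79 (Lpe (f193940 IH) (Lpr_df (K67.f193937 IH) (Lpe (f193941 IH) (Lpn (LP (LK LD1_c10 LD2_c18 LD3_c22))))))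
theorem f739597 : Led Lsl_gt (LP (LK LD1_c10 LD2_c18 LD3_c22)) = (LP (LK LD1_c10 LD2_c5 LD3_c42)) :=
  Lgr Lrot112 (Lpe (f193942 IH) (Lpr_et (f193947 IH) (Lpr_gf (K55.f739595 IH) (Lpe (K55.f496043 IH) (Lpr_dt (K38.f132346 IH) (Lpr_gf (K35.f496044 IH) (Lpqs (K38.f547956 IH) (Lpr_df (K36.f334858 IH) (Lpr_gf (K40.f557652 IH) (Lpe (f495358 IH) (Lpr_dt (f614490 IH) (Lpn (LP (LK LD1_c10 LD2_c5 LD3_c42))))))))))))))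
theorem f594615 : Led Lsl_at (LP (LK LD1_c5 LD2_c7 LD3_c48)) = (LP (LK LD1_c10 LD2_c5 LD3_c42)) :=
  Lre_a IH (LK LD1_c5 LD2_c7 LD3_c48) (LK LD1_c10 LD2_c5 LD3_c42) Lrfl Lrfl
theorem f739599 : Led Lsl_gf (LP (LK LD1_c10 LD2_c18 LD3_c22)) = (LP (LK LD1_c10 LD2_c5 LD3_c52)) :=
  Lgr Lrot47 (Lpr_gt (f739597 IH) (Lpe (f594615 IH) (Lpe (f614496 IH) (Lpn (LP (LK LD1_c10 LD2_c5 LD3_c52))))))
theorem f193944 : Led Lsl_ct (LP (LK LD1_c10 LD2_c18 LD3_c22)) = (LP (LK LD1_c18 LD2_c43 LD3_c20)) :=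
  Lre_c IH (LK LD1_c10 LD2_c18 LD3_c22) (LK LD1_c18 LD2_c43 LD3_c20) Lrfl Lrfl
theorem f421493 : Led Lsl_ct (LP (LK LD1_c18 LD2_c24 LD3_c34)) = (LP (LK LD1_c10 LD2_c5 LD3_c48)) :=
  Lre_c IH (LK LD1_c18 LD2_c24 LD3_c34) (LK LD1_c10 LD2_c5 LD3_c48) Lrfl Lrfl
theorem f568535 : Led Lsl_dt (LP (LK LD1_c5 LD2_c7 LD3_c39)) = (LP (LK LD1_c10 LD2_c5 LD3_c33)) :=
  Lre_d IH (LK LD1_c5 LD2_c7 LD3_c39) (LK LD1_c10 LD2_c5 LD3_c33) Lrfl Lrfl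
theorem f421499 : Led Lsl_et (LP (LK LD1_c10 LD2_c5 LD3_c48)) = (LP (LK LD1_c5 LD2_c7 LD3_c46)) :=
  Lre_e IH (LK LD1_c10 LD2_c5 LD3_c48) (LK LD1_c5 LD2_c7 LD3_c46) Lrfl Lrfl
theorem f579686 : Led Lsl_dt (LP (LK LD1_c18 LD2_c24 LD3_c13)) = (LP (LK LD1_c10 LD2_c5 LD3_c48)) :=
  Lgr Lrot77 (Lpe (K42.f570415 IH) (Lpe (f568535 IH) (Lpr_ef (K43.f579684 IH) (Lpe (K42.f421474 IH) (Lpe (f421499 IH) (Lpn (LP (LK LD1_c10 LD2_c5 LD3_c48))))))))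
theorem f930579 : Led Lsl_gt (LP (LK LD1_c18 LD2_c43 LD3_c20)) = (LP (LK LD1_c20 LD2_c2 LD3_c2)) :=
  Lgr Lrot150 (Lpe (f193944 IH) (Lpr_gf (f739599 IH) (Lpe (f713463 IH) (Lpr_gt (f713448 IH) (Lpr_ct (f614498 IH) (Lpr_gt (f930577 IH) (Lpr_ct (f421493 IH) (Lpe (f579686 IH) (Lpr_cf (K42.f570422 IH) (Lpn (LP (LK LD1_c20 LD2_c2 LD3_c2))))))))))))
theorem f596431 : Led Lsl_ff (LP (LK LD1_c6 LD2_c7 LD3_c36)) = (LP (LK LD1_c8 LD2_c12 LD3_c11)) :=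
  Lgr Lrot19 (Lpr_dt (K50.f596421 IH) (Lpr_ft (K41.f567076 IH) (Lpe (K39.f541363 IH) (Lpn (LP (LK LD1_c8 LD2_c12 LD3_c11))))))
theorem f599041 : Led Lsl_bt (LP (LK LD1_c6 LD2_c7 LD3_c36)) = (LP (LK LD1_c10 LD2_c5 LD3_c33)) :=
  Lgr Lrot35 (Lpr_ff (f596431 IH) (Lpe (K43.f579667 IH) (Lpe (K42.f570407 IH) (Lpn (LP (LK LD1_c10 LD2_c5 LD3_c33))))))
theorem f599043 : Led Lsl_bf (LP (LK LD1_c11 LD2_c57 LD3_c42)) = (LP (LK LD1_c18 LD2_c24 LD3_c13)) :=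
  Lgr Lrot96 (Lpr_et (K64.f175978 IH) (Lpr_bt (f599041 IH) (Lpr_et (K42.f570415 IH) (Lpn (LP (LK LD1_c18 LD2_c24 LD3_c13))))))
theorem f930581 : Led Lsl_gf (LP (LK LD1_c10 LD2_c45 LD3_c25)) = (LP (LK LD1_c11 LD2_c57 LD3_c42)) :=
  Lgr Lrot181 (Lpr_ct (f727185 IH) (Lpr_gt (f727204 IH) (Lpr_cf (f924515 IH) (Lpe (f722223 IH) (Lpe (f406574 IH) (Lpe (f193941 IH) (Lpr_ct (f193944 IH) (Lpr_gt (f930579 IH) (Lpe (K42.f570416 IH) (Lpe (f599043 IH) (Lpn (LP (LK LD1_c11 LD2_c57 LD3_c42)))))))))))))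
theorem f930582 : Led Lsl_gt (LP (LK LD1_c11 LD2_c57 LD3_c42)) = (LP (LK LD1_c10 LD2_c45 LD3_c25)) :=
  Leop (Lpr_gf (f930581 IH) (Lpn (LP (LK LD1_c11 LD2_c57 LD3_c42))))
theorem seed_2575 : LEOK LG_g (LK LD1_c11 LD2_c57 LD3_c42) :=
  Leoe_g (LK LD1_c11 LD2_c57 LD3_c42) (f930582 IH)
def v4641 : LQ := Led Lsl_gt (LP (LK LD1_c2 LD2_c39 LD3_c60))
def v24250 : LQ := Led Lsl_dt v4641
theorem f823096 : Led Lsl_dt v4641 = v24250 :=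
  Lrfl
theorem f823097 : Led Lsl_df v4641 = v24250 :=
  Lgr Lrot38 (Lpr_dt (f823096 IH) (Lpn v24250))
theorem f727179 : Led Lsl_df (LP (LK LD1_c5 LD2_c27 LD3_c4)) = v14900 :=
  Lgr Lrot38 (Lpr_dt (f727177 IH) (Lpn v14900))
def v41981 : LQ := Led Lsl_bt (LP (LK LD1_c10 LD2_c4 LD3_c40))
theorem f930605 : Led Lsl_bt (LP (LK LD1_c10 LD2_c4 LD3_c40)) = v41981 :=
  Lrfl
theorem f753366 : Led Lsl_ft (LP (LK LD1_c10 LD2_c17 LD3_c52)) = (LP (LK LD1_c10 LD2_c4 LD3_c40)) :=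
  Lgr Lrot54 (Lpe (K53.f198583 IH) (Lpe (K56.f198591 IH) (Lpr_df (K56.f753362 IH) (Lpn (LP (LK LD1_c10 LD2_c4 LD3_c40))))))
theorem f930608 : Led Lsl_ff (LP (LK LD1_c10 LD2_c45 LD3_c34)) = v41981 :=
  Lgr Lrot25 (Lpe (f924530 IH) (Lpr_ft (f753366 IH) (Lpr_bt (f930605 IH) (Lpn v41981))))
theorem f930610 : Led Lsl_ft (LP (LK LD1_c10 LD2_c45 LD3_c34)) = v41981 :=
  Lgr Lrot48 (Lpr_ff (f930608 IH) (Lpn v41981))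
theorem f8947 : Led Lsl_ct (LP (LK LD1_c5 LD2_c27 LD3_c12)) = (LP (LK LD1_c10 LD2_c45 LD3_c34)) :=
  Lre_c IH (LK LD1_c5 LD2_c27 LD3_c12) (LK LD1_c10 LD2_c45 LD3_c34) Lrfl Lrfl
theorem f930611 : Led Lsl_cf v14900 = v41981 :=
  Lgr Lrot108 (Lpe (f727181 IH) (Lpr_ct (f8947 IH) (Lpr_ft (f930610 IH) (Lpn v41981))))
theorem f930607 : Led Lsl_bf (LP (LK LD1_c10 LD2_c4 LD3_c40)) = v41981 :=
  Lgr Lrot24 (Lpr_bt (f930605 IH) (Lpn v41981))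
theorem f722067 : Led Lsl_et (LP (LK LD1_c5 LD2_c14 LD3_c12)) = K64.v14346 :=
  Lgr Lrot87 (Lpr_ef (f722066 IH) (Lpn K64.v14346))
theorem f722071 : Led Lsl_cf (LP (LK LD1_c5 LD2_c14 LD3_c12)) = K53.v14347 :=
  Lgr Lrot39 (Lpr_et (f722067 IH) (Lpe (K64.f722061 IH) (Lpr_et (K53.f722068 IH) (Lpn K53.v14347))))
theorem f721973 : Led Lsl_gf (LP (LK LD1_c10 LD2_c4 LD3_c45)) = v14334 :=
  Lgr Lrot104 (Lpr_ct (K66.f165748 IH) (Lpr_df (K39.f541678 IH) (Lpe (K39.f55986 IH) (Lpe (K36.f55979 IH) (Lpr_cf (K1.f55955 IH) (Lpe (K56.f55985 IH) (Lpe (K56.f55987 IH) (Lpe (K56.f539674 IH) (Lpr_ct (f721971 IH) (Lpn v14334))))))))))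
def v41943 : LQ := Led Lsl_ct (LP (LK LD1_c10 LD2_c4 LD3_c3))
theorem f930338 : Led Lsl_ct (LP (LK LD1_c10 LD2_c4 LD3_c3)) = v41943 :=
  Lrfl
theorem f198664 : Led Lsl_bt (LP (LK LD1_c5 LD2_c6 LD3_c40)) = (LP (LK LD1_c10 LD2_c4 LD3_c3)) :=
  Lre_b IH (LK LD1_c5 LD2_c6 LD3_c40) (LK LD1_c10 LD2_c4 LD3_c3) Lrfl Lrfl
theorem f226042 : Led Lsl_bt (LP (LK LD1_c5 LD2_c6 LD3_c39)) = (LP (LK LD1_c2 LD2_c30 LD3_c37)) :=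
  Lre_b IH (LK LD1_c5 LD2_c6 LD3_c39) (LK LD1_c2 LD2_c30 LD3_c37) Lrfl Lrfl
theorem f930340 : Led Lsl_bf v14334 = v41943 :=
  Lgr Lrot90 (Lpe (f721972 IH) (Lpr_bt (f226042 IH) (Lpr_ct (K14.f198661 IH) (Lpr_bt (f198664 IH) (Lpr_ct (f930338 IH) (Lpn v41943))))))
theorem f930341 : Led Lsl_cf (LP (LK LD1_c10 LD2_c4 LD3_c3)) = v41943 :=
  Lgr Lrot11 (Lpr_ct (f930338 IH) (Lpn v41943))
theorem f195404 : Led Lsl_et (LP (LK LD1_c1 LD2_c18 LD3_c0)) = (LP (LK LD1_c2 LD2_c39 LD3_c60)) :=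
  Lre_e IH (LK LD1_c1 LD2_c18 LD3_c0) (LK LD1_c2 LD2_c39 LD3_c60) Lrfl Lrfl
theorem f638294 : Led Lsl_gt (LP (LK LD1_c2 LD2_c39 LD3_c60)) = v4641 :=
  Lrfl
theorem f198801 : Led Lsl_df (LP (LK LD1_c10 LD2_c4 LD3_c3)) = (LP (LK LD1_c5 LD2_c25 LD3_c61)) :=
  Lgr Lrot12 (Lpr_bt (K53.f198800 IH) (Lpr_dt (K18.f198790 IH) (Lpr_bt (K18.f195702 IH) (Lpn (LP (LK LD1_c5 LD2_c25 LD3_c61))))))
theorem f924342 : Led Lsl_gt v24250 = (LP (LK LD1_c10 LD2_c4 LD3_c3)) :=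
  Lgr Lrot139 (Lpe (f823096 IH) (Lpe (f638294 IH) (Lpe (f195404 IH) (Lpr_dt (K31.f332336 IH) (Lpe (K42.f173451 IH) (Lpr_df (K31.f391705 IH) (Lpr_et (f391707 IH) (Lpq (f924339 IH) (Lpe (f882832 IH) (Lpe (K18.f195725 IH) (Lpe (f198801 IH) (Lpn (LP (LK LD1_c10 LD2_c4 LD3_c3))))))))))))))
theorem f930613 : v14900 = v24250 :=
  (Llr Lrot64 (Lpr_cf (f930611 IH) (Lpe (f930607 IH) (Lpe (K56.f177442 IH) (Lpr_bf (K53.f722070 IH) (Lpe (f722071 IH) (Lpe (K39.f387292 IH) (Lpe (K66.f165748 IH) (Lpr_gf (f721973 IH) (Lpr_bf (f930340 IH) (Lpe (f930341 IH) (Lpe (f924342 IH) (Lpn v24250))))))))))))).symm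
theorem f930614 : v4641 = (LP (LK LD1_c5 LD2_c27 LD3_c4)) :=
  Lefun (Lecon (Lfl_df (f823097 IH)) (f930613 IH).symm) (Lfl_df (f727179 IH))
theorem f638295 : Led Lsl_gf (LP (LK LD1_c2 LD2_c40 LD3_c0)) = v4641 :=
  Lgr Lrot76 (Lpe (K0.f8934 IH) (Lpe (f8877 IH) (Lpr_gt (f638294 IH) (Lpn v4641))))
theorem f930616 : Led Lsl_gt (LP (LK LD1_c5 LD2_c27 LD3_c4)) = (LP (LK LD1_c2 LD2_c40 LD3_c0)) :=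
  Leop (Lpr_gf (f638295 IH) (Lpqs (f930614 IH) (Lpn (LP (LK LD1_c5 LD2_c27 LD3_c4)))))
theorem seed_2576 : LEOK LG_g (LK LD1_c5 LD2_c27 LD3_c4) :=
  Leoe_g (LK LD1_c5 LD2_c27 LD3_c4) (f930616 IH)
theorem f823111 : Led Lsl_ft (LP (LK LD1_c8 LD2_c13 LD3_c55)) = (LP (LK LD1_c15 LD2_c29 LD3_c12)) :=
  Lre_f IH (LK LD1_c8 LD2_c13 LD3_c55) (LK LD1_c15 LD2_c29 LD3_c12) Lrfl Lrfl
theorem f194293 : Led Lsl_bt (LP (LK LD1_c15 LD2_c29 LD3_c9)) = (LP (LK LD1_c8 LD2_c13 LD3_c55)) :=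
  Lre_b IH (LK LD1_c15 LD2_c29 LD3_c9) (LK LD1_c8 LD2_c13 LD3_c55) Lrfl Lrfl
theorem f891489 : Led Lsl_ft (LP (LK LD1_c16 LD2_c13 LD3_c5)) = (LP (LK LD1_c8 LD2_c39 LD3_c37)) :=
  Lre_f IH (LK LD1_c16 LD2_c13 LD3_c5) (LK LD1_c8 LD2_c39 LD3_c37) Lrfl Lrfl
theorem f891485 : Led Lsl_at (LP (LK LD1_c8 LD2_c39 LD3_c37)) = (LP (LK LD1_c16 LD2_c13 LD3_c10)) :=
  Lre_a IH (LK LD1_c8 LD2_c39 LD3_c37) (LK LD1_c16 LD2_c13 LD3_c10) Lrfl Lrfl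
theorem f727158 : Led Lsl_ct (LP (LK LD1_c5 LD2_c27 LD3_c9)) = (LP (LK LD1_c10 LD2_c45 LD3_c24)) :=
  Lre_c IH (LK LD1_c5 LD2_c27 LD3_c9) (LK LD1_c10 LD2_c45 LD3_c24) Lrfl Lrfl
theorem f727163 : Led Lsl_bt (LP (LK LD1_c10 LD2_c45 LD3_c18)) = (LP (LK LD1_c5 LD2_c27 LD3_c9)) :=
  Lre_b IH (LK LD1_c10 LD2_c45 LD3_c18) (LK LD1_c5 LD2_c27 LD3_c9) Lrfl Lrfl
def v4642 : LQ := Led Lsl_gf (LP (LK LD1_c2 LD2_c39 LD3_c60))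
def v24253 : LQ := Led Lsl_bt v4642
theorem f823104 : Led Lsl_bt v4642 = v24253 :=
  Lrfl
theorem f727222 : Led Lsl_bt (LP (LK LD1_c5 LD2_c27 LD3_c9)) = (LP (LK LD1_c10 LD2_c45 LD3_c18)) :=
  Lre_b IH (LK LD1_c5 LD2_c27 LD3_c9) (LK LD1_c10 LD2_c45 LD3_c18) Lrfl Lrfl
def v14897 : LQ := Led Lsl_gt (LP (LK LD1_c5 LD2_c27 LD3_c4))
theorem f727151 : Led Lsl_gt (LP (LK LD1_c5 LD2_c27 LD3_c4)) = v14897 :=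
  Lrfl
theorem f727152 : Led Lsl_ft (LP (LK LD1_c5 LD2_c27 LD3_c4)) = (LP (LK LD1_c2 LD2_c39 LD3_c59)) :=
  Lre_f IH (LK LD1_c5 LD2_c27 LD3_c4) (LK LD1_c2 LD2_c39 LD3_c59) Lrfl Lrfl
theorem f638291 : Led Lsl_at (LP (LK LD1_c2 LD2_c39 LD3_c59)) = (LP (LK LD1_c5 LD2_c27 LD3_c9)) :=
  Lre_a IH (LK LD1_c2 LD2_c39 LD3_c59) (LK LD1_c5 LD2_c27 LD3_c9) Lrfl Lrfl
theorem f727153 : Led Lsl_gf (LP (LK LD1_c5 LD2_c27 LD3_c9)) = v14897 :=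
  Lgr Lrot76 (Lpe (f638291 IH) (Lpe (f727152 IH) (Lpr_gt (f727151 IH) (Lpn v14897))))
theorem f638296 : Led Lsl_gf (LP (LK LD1_c2 LD2_c39 LD3_c60)) = v4642 :=
  Lrfl
theorem f8976 : Led Lsl_ft (LP (LK LD1_c2 LD2_c40 LD3_c0)) = (LP (LK LD1_c1 LD2_c16 LD3_c43)) :=
  Lre_f IH (LK LD1_c2 LD2_c40 LD3_c0) (LK LD1_c1 LD2_c16 LD3_c43) Lrfl Lrfl
theorem f638297 : Led Lsl_gt (LP (LK LD1_c2 LD2_c40 LD3_c0)) = v4642 :=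
  Lgr Lrot5 (Lpr_ft (f8976 IH) (Lpr_at (K10.f8977 IH) (Lpr_gf (f638296 IH) (Lpn v4642))))
theorem f930615 : (LP (LK LD1_c2 LD2_c40 LD3_c0)) = v14897 :=
  Lefun (Lecon (Lfl_gf (f638295 IH)) (f930614 IH)) (f727151 IH)
theorem f930631 : (LP (LK LD1_c5 LD2_c27 LD3_c9)) = v4642 :=
  Lefun (Lecon (Lfl_gf (f727153 IH)) (f930615 IH).symm) (f638297 IH)
theorem f930634 : v24253 = (LP (LK LD1_c10 LD2_c45 LD3_c18)) :=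
  Lefun (Lecon (f823104 IH) (f930631 IH).symm) (f727222 IH)
theorem f823105 : Led Lsl_bf v4642 = v24253 :=
  Lgr Lrot24 (Lpr_bt (f823104 IH) (Lpn v24253))
theorem f8923 : Led Lsl_ct (LP (LK LD1_c2 LD2_c39 LD3_c60)) = (LP (LK LD1_c5 LD2_c22 LD3_c6)) :=
  Lre_c IH (LK LD1_c2 LD2_c39 LD3_c60) (LK LD1_c5 LD2_c22 LD3_c6) Lrfl Lrfl
def v14738 : LQ := Led Lsl_gt (LP (LK LD1_c5 LD2_c22 LD3_c6))
theorem f726406 : Led Lsl_gt (LP (LK LD1_c5 LD2_c22 LD3_c6)) = v14738 :=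
  Lrfl
def v4076 : LQ := Led Lsl_gt (LP (LK LD1_c1 LD2_c59 LD3_c58))
def v23616 : LQ := Led Lsl_bt v4076
theorem f819396 : Led Lsl_bt v4076 = v23616 :=
  Lrfl
theorem f819397 : Led Lsl_bf v4076 = v23616 :=
  Lgr Lrot24 (Lpr_bt (f819396 IH) (Lpn v23616))
theorem f629318 : Led Lsl_gt (LP (LK LD1_c1 LD2_c59 LD3_c58)) = v4076 :=
  Lrfl
theorem f55332 : Led Lsl_bt (LP (LK LD1_c0 LD2_c56 LD3_c54)) = (LP (LK LD1_c1 LD2_c59 LD3_c58)) :=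
  Lre_b IH (LK LD1_c0 LD2_c56 LD3_c54) (LK LD1_c1 LD2_c59 LD3_c58) Lrfl Lrfl
theorem f9010 : Led Lsl_ct (LP (LK LD1_c2 LD2_c40 LD3_c0)) = (LP (LK LD1_c5 LD2_c22 LD3_c8)) :=
  Lre_c IH (LK LD1_c2 LD2_c40 LD3_c0) (LK LD1_c5 LD2_c22 LD3_c8) Lrfl Lrfl
theorem f9015 : Led Lsl_ft (LP (LK LD1_c5 LD2_c22 LD3_c6)) = (LP (LK LD1_c10 LD2_c34 LD3_c32)) :=
  Lre_f IH (LK LD1_c5 LD2_c22 LD3_c6) (LK LD1_c10 LD2_c34 LD3_c32) Lrfl Lrfl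
theorem f9014 : Led Lsl_at (LP (LK LD1_c10 LD2_c34 LD3_c32)) = (LP (LK LD1_c5 LD2_c22 LD3_c8)) :=
  Lre_a IH (LK LD1_c10 LD2_c34 LD3_c32) (LK LD1_c5 LD2_c22 LD3_c8) Lrfl Lrfl
theorem f726407 : Led Lsl_gf (LP (LK LD1_c5 LD2_c22 LD3_c8)) = v14738 :=
  Lgr Lrot76 (Lpe (f9014 IH) (Lpe (f9015 IH) (Lpr_gt (f726406 IH) (Lpn v14738))))
theorem f819398 : Led Lsl_cf v14738 = v23616 :=
  Lgr Lrot160 (Lpe (f726407 IH) (Lpe (f9010 IH) (Lpr_bt (K0.f9006 IH) (Lpr_gt (K11.f177544 IH) (Lpe (K11.f177465 IH) (Lpr_gt (K9.f28226 IH) (Lpe (K1.f55326 IH) (Lpr_bt (f55332 IH) (Lpr_gt (f629318 IH) (Lpr_bf (f819397 IH) (Lpn v23616)))))))))))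
def v23614 : LQ := Led Lsl_gt v4076
theorem f819382 : Led Lsl_gt v4076 = v23614 :=
  Lrfl
def v4080 : LQ := Led Lsl_ft (LP (LK LD1_c1 LD2_c59 LD3_c58))
theorem f629332 : Led Lsl_ft (LP (LK LD1_c1 LD2_c59 LD3_c58)) = v4080 :=
  Lrfl
theorem f819383 : Led Lsl_at v4080 = v23614 :=
  Lgr Lrot26 (Lpe (f629332 IH) (Lpr_gt (f629318 IH) (Lpr_gt (f819382 IH) (Lpn v23614))))
def v4078 : LQ := Led Lsl_at (LP (LK LD1_c1 LD2_c59 LD3_c58))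
theorem f629320 : Led Lsl_at (LP (LK LD1_c1 LD2_c59 LD3_c58)) = v4078 :=
  Lrfl
theorem f629321 : Led Lsl_af (LP (LK LD1_c1 LD2_c59 LD3_c58)) = v4078 :=
  Lgr Lrot0 (Lpr_at (f629320 IH) (Lpn v4078))
theorem f819387 : Led Lsl_ff v4078 = v23614 :=
  Lgr Lrot30 (Lpe (f629321 IH) (Lpr_ft (f629332 IH) (Lpr_at (f819383 IH) (Lpn v23614))))
theorem f54842 : Led Lsl_bt (LP (LK LD1_c2 LD2_c0 LD3_c51)) = (LP (LK LD1_c0 LD2_c57 LD3_c24)) :=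
  Lre_b IH (LK LD1_c2 LD2_c0 LD3_c51) (LK LD1_c0 LD2_c57 LD3_c24) Lrfl Lrfl
theorem f629322 : Led Lsl_bf (LP (LK LD1_c4 LD2_c6 LD3_c61)) = v4078 :=
  Lgr Lrot81 (Lpr_at (K1.f54776 IH) (Lpr_bt (f54842 IH) (Lpe (K1.f55343 IH) (Lpr_bt (f55332 IH) (Lpr_at (f629320 IH) (Lpn v4078))))))
theorem f819388 : Led Lsl_bt (LP (LK LD1_c8 LD2_c14 LD3_c27)) = v23614 :=
  Lgr Lrot35 (Lpe (K67.f54782 IH) (Lpr_bf (f629322 IH) (Lpr_ff (f819387 IH) (Lpn v23614))))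
theorem f554906 : Led Lsl_gt (LP (LK LD1_c15 LD2_c29 LD3_c8)) = (LP (LK LD1_c8 LD2_c13 LD3_c56)) :=
  Lre_g IH (LK LD1_c15 LD2_c29 LD3_c8) (LK LD1_c8 LD2_c13 LD3_c56) Lrfl Lrfl
theorem f823106 : Led Lsl_cf (LP (LK LD1_c8 LD2_c13 LD3_c56)) = v24253 :=
  Lgr Lrot58 (Lpe (f554906 IH) (Lpe (K56.f554905 IH) (Lpr_bt (f819388 IH) (Lpe (f819382 IH) (Lpr_bf (f819397 IH) (Lpe (f819398 IH) (Lpe (f726406 IH) (Lpe (f8923 IH) (Lpr_gf (f638296 IH) (Lpr_bf (f823105 IH) (Lpn v24253)))))))))))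
theorem f823109 : Led Lsl_ct (LP (LK LD1_c8 LD2_c13 LD3_c56)) = v24253 :=
  Lgr Lrot59 (Lpr_cf (f823106 IH) (Lpn v24253))
theorem f554653 : Led Lsl_bt (LP (LK LD1_c15 LD2_c29 LD3_c13)) = (LP (LK LD1_c8 LD2_c13 LD3_c56)) :=
  Lre_b IH (LK LD1_c15 LD2_c29 LD3_c13) (LK LD1_c8 LD2_c13 LD3_c56) Lrfl Lrfl
theorem f727162 : Led Lsl_bt (LP (LK LD1_c10 LD2_c45 LD3_c24)) = (LP (LK LD1_c19 LD2_c27 LD3_c10)) :=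
  Lre_b IH (LK LD1_c10 LD2_c45 LD3_c24) (LK LD1_c19 LD2_c27 LD3_c10) Lrfl Lrfl
theorem f930652 : Led Lsl_cf (LP (LK LD1_c15 LD2_c29 LD3_c13)) = (LP (LK LD1_c19 LD2_c27 LD3_c10)) :=
  Lgr Lrot97 (Lpr_bt (f554653 IH) (Lpr_ct (f823109 IH) (Lpqs (f930634 IH) (Lpr_bt (f727163 IH) (Lpr_ct (f727158 IH) (Lpr_bt (f727162 IH) (Lpn (LP (LK LD1_c19 LD2_c27 LD3_c10)))))))))
theorem f891511 : Led Lsl_dt (LP (LK LD1_c15 LD2_c29 LD3_c13)) = (LP (LK LD1_c25 LD2_c21 LD3_c60)) :=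
  Lre_d IH (LK LD1_c15 LD2_c29 LD3_c13) (LK LD1_c25 LD2_c21 LD3_c60) Lrfl Lrfl
theorem f891510 : Led Lsl_cf (LP (LK LD1_c25 LD2_c21 LD3_c60)) = K68.v36935 :=
  Lgr Lrot11 (Lpr_ct (K68.f891506 IH) (Lpn K68.v36935))
theorem f182701 : Led Lsl_dt (LP (LK LD1_c15 LD2_c28 LD3_c33)) = (LP (LK LD1_c8 LD2_c13 LD3_c38)) :=
  Lre_d IH (LK LD1_c15 LD2_c28 LD3_c33) (LK LD1_c8 LD2_c13 LD3_c38) Lrfl Lrfl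
theorem f182759 : Led Lsl_ct (LP (LK LD1_c15 LD2_c28 LD3_c30)) = (LP (LK LD1_c25 LD2_c20 LD3_c43)) :=
  Lre_c IH (LK LD1_c15 LD2_c28 LD3_c30) (LK LD1_c25 LD2_c20 LD3_c43) Lrfl Lrfl
theorem f930662 : Led Lsl_gt (LP (LK LD1_c25 LD2_c20 LD3_c43)) = (LP (LK LD1_c19 LD2_c27 LD3_c10)) :=
  Lgr Lrot150 (Lpe (f182759 IH) (Lpe (K39.f182703 IH) (Lpe (f182701 IH) (Lpe (K68.f555747 IH) (Lpr_ct (K68.f187989 IH) (Lpr_gt (K68.f891502 IH) (Lpe (f891510 IH) (Lpe (f891511 IH) (Lpr_cf (f930652 IH) (Lpn (LP (LK LD1_c19 LD2_c27 LD3_c10))))))))))))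
theorem f216101 : Led Lsl_bt (LP (LK LD1_c19 LD2_c26 LD3_c58)) = (LP (LK LD1_c10 LD2_c45 LD3_c15)) :=
  Lre_b IH (LK LD1_c19 LD2_c26 LD3_c58) (LK LD1_c10 LD2_c45 LD3_c15) Lrfl Lrfl
theorem f216097 : Led Lsl_ct (LP (LK LD1_c19 LD2_c26 LD3_c58)) = (LP (LK LD1_c10 LD2_c45 LD3_c21)) :=
  Lre_c IH (LK LD1_c19 LD2_c26 LD3_c58) (LK LD1_c10 LD2_c45 LD3_c21) Lrfl Lrfl
theorem f216094 : Led Lsl_gt (LP (LK LD1_c19 LD2_c27 LD3_c6)) = (LP (LK LD1_c10 LD2_c45 LD3_c21)) :=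
  Lre_g IH (LK LD1_c19 LD2_c27 LD3_c6) (LK LD1_c10 LD2_c45 LD3_c21) Lrfl Lrfl
theorem f187999 : Led Lsl_bt (LP (LK LD1_c4 LD2_c6 LD3_c42)) = (LP (LK LD1_c8 LD2_c13 LD3_c59)) :=
  Lre_b IH (LK LD1_c4 LD2_c6 LD3_c42) (LK LD1_c8 LD2_c13 LD3_c59) Lrfl Lrfl
theorem f421718 : Led Lsl_cf (LP (LK LD1_c19 LD2_c27 LD3_c6)) = (LP (LK LD1_c17 LD2_c50 LD3_c0)) :=
  Lgr Lrot125 (Lpr_gt (f216094 IH) (Lpe (f216097 IH) (Lpr_bt (f216101 IH) (Lpr_gt (K39.f421705 IH) (Lpe (f187999 IH) (Lpr_ct (K10.f169132 IH) (Lpr_gt (K12.f214072 IH) (Lpe (K25.f213974 IH) (Lpr_bt (K39.f213991 IH) (Lpr_gt (K39.f214080 IH) (Lpn (LP (LK LD1_c17 LD2_c50 LD3_c0)))))))))))))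
theorem f421725 : Led Lsl_ct (LP (LK LD1_c19 LD2_c27 LD3_c6)) = (LP (LK LD1_c17 LD2_c50 LD3_c0)) :=
  Lgr Lrot59 (Lpr_cf (f421718 IH) (Lpn (LP (LK LD1_c17 LD2_c50 LD3_c0))))
theorem f555332 : Led Lsl_ft (LP (LK LD1_c25 LD2_c20 LD3_c43)) = (LP (LK LD1_c19 LD2_c27 LD3_c6)) :=
  Lgr Lrot4 (Lpe (f182759 IH) (Lpr_ff (K39.f555330 IH) (Lpe (f421725 IH) (Lpn (LP (LK LD1_c19 LD2_c27 LD3_c6))))))
theorem f555338 : Led Lsl_af (LP (LK LD1_c15 LD2_c28 LD3_c30)) = (LP (LK LD1_c17 LD2_c50 LD3_c1)) :=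
  Lgr Lrot0 (Lpr_at (K39.f555336 IH) (Lpn (LP (LK LD1_c17 LD2_c50 LD3_c1))))
theorem f182707 : Led Lsl_gt (LP (LK LD1_c15 LD2_c28 LD3_c31)) = (LP (LK LD1_c8 LD2_c13 LD3_c38)) :=
  Lre_g IH (LK LD1_c15 LD2_c28 LD3_c31) (LK LD1_c8 LD2_c13 LD3_c38) Lrfl Lrfl
theorem f555388 : Led Lsl_ft (LP (LK LD1_c15 LD2_c28 LD3_c31)) = (LP (LK LD1_c17 LD2_c50 LD3_c1)) :=
  Lgr Lrot2 (Lpr_gt (f182707 IH) (Lpr_gt (K39.f182703 IH) (Lpr_af (f555338 IH) (Lpn (LP (LK LD1_c17 LD2_c50 LD3_c1))))))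
theorem f555396 : Led Lsl_ff (LP (LK LD1_c15 LD2_c28 LD3_c31)) = (LP (LK LD1_c17 LD2_c50 LD3_c1)) :=
  Lgr Lrot3 (Lpr_ft (f555388 IH) (Lpn (LP (LK LD1_c17 LD2_c50 LD3_c1))))
theorem f342779 : Led Lsl_ct (LP (LK LD1_c15 LD2_c28 LD3_c31)) = (LP (LK LD1_c25 LD2_c20 LD3_c46)) :=
  Lre_c IH (LK LD1_c15 LD2_c28 LD3_c31) (LK LD1_c25 LD2_c20 LD3_c46) Lrfl Lrfl
theorem f216009 : Led Lsl_bt (LP (LK LD1_c5 LD2_c22 LD3_c1)) = (LP (LK LD1_c2 LD2_c37 LD3_c33)) :=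
  Lre_b IH (LK LD1_c5 LD2_c22 LD3_c1) (LK LD1_c2 LD2_c37 LD3_c33) Lrfl Lrfl
theorem f216087 : Led Lsl_bt (LP (LK LD1_c2 LD2_c37 LD3_c28)) = (LP (LK LD1_c5 LD2_c21 LD3_c48)) :=
  Lre_b IH (LK LD1_c2 LD2_c37 LD3_c28) (LK LD1_c5 LD2_c21 LD3_c48) Lrfl Lrfl
theorem f187505 : Led Lsl_gt (LP (LK LD1_c5 LD2_c21 LD3_c48)) = (LP (LK LD1_c10 LD2_c33 LD3_c48)) :=
  Lre_g IH (LK LD1_c5 LD2_c21 LD3_c48) (LK LD1_c10 LD2_c33 LD3_c48) Lrfl Lrfl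
theorem f216088 : Led Lsl_bt (LP (LK LD1_c19 LD2_c7 LD3_c52)) = (LP (LK LD1_c10 LD2_c33 LD3_c48)) :=
  Lre_b IH (LK LD1_c19 LD2_c7 LD3_c52) (LK LD1_c10 LD2_c33 LD3_c48) Lrfl Lrfl
theorem f216089 : Led Lsl_ct (LP (LK LD1_c19 LD2_c7 LD3_c52)) = (LP (LK LD1_c17 LD2_c50 LD3_c1)) :=
  Lgr Lrot64 (Lpr_bt (f216088 IH) (Lpe (f187505 IH) (Lpe (f216087 IH) (Lpr_ct (K15.f198902 IH) (Lpe (K10.f187512 IH) (Lpe (K12.f46458 IH) (Lpe (K12.f183071 IH) (Lpe (f216009 IH) (Lpr_ct (K25.f214085 IH) (Lpe (K39.f216012 IH) (Lpn (LP (LK LD1_c17 LD2_c50 LD3_c1)))))))))))))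
theorem f555402 : Led Lsl_ft (LP (LK LD1_c25 LD2_c20 LD3_c46)) = (LP (LK LD1_c19 LD2_c7 LD3_c52)) :=
  Lgr Lrot4 (Lpe (f342779 IH) (Lpr_ff (f555396 IH) (Lpe (f216089 IH) (Lpn (LP (LK LD1_c19 LD2_c7 LD3_c52))))))
theorem f182761 : Led Lsl_ct (LP (LK LD1_c25 LD2_c20 LD3_c43)) = (LP (LK LD1_c15 LD2_c28 LD3_c30)) :=
  Lre_c IH (LK LD1_c25 LD2_c20 LD3_c43) (LK LD1_c15 LD2_c28 LD3_c30) Lrfl Lrfl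
theorem f216105 : Led Lsl_cf (LP (LK LD1_c19 LD2_c7 LD3_c52)) = (LP (LK LD1_c17 LD2_c50 LD3_c1)) :=
  Lgr Lrot11 (Lpr_ct (f216089 IH) (Lpn (LP (LK LD1_c17 LD2_c50 LD3_c1))))
theorem f555342 : Led Lsl_af (LP (LK LD1_c25 LD2_c20 LD3_c43)) = (LP (LK LD1_c19 LD2_c7 LD3_c52)) :=
  Lgr Lrot68 (Lpr_ct (f182761 IH) (Lpr_at (K39.f555336 IH) (Lpe (f216105 IH) (Lpn (LP (LK LD1_c19 LD2_c7 LD3_c52))))))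
theorem f555404 : Led Lsl_af (LP (LK LD1_c25 LD2_c20 LD3_c46)) = (LP (LK LD1_c19 LD2_c27 LD3_c6)) :=
  Lgr Lrot45 (Lpr_ft (f555402 IH) (Lpe (f555342 IH) (Lpr_ft (f555332 IH) (Lpn (LP (LK LD1_c19 LD2_c27 LD3_c6))))))
theorem f930664 : Led Lsl_gf (LP (LK LD1_c25 LD2_c20 LD3_c46)) = (LP (LK LD1_c19 LD2_c27 LD3_c10)) :=
  Lgr Lrot76 (Lpr_af (f555404 IH) (Lpe (f555332 IH) (Lpr_gt (f930662 IH) (Lpn (LP (LK LD1_c19 LD2_c27 LD3_c10))))))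
theorem f930643 : Led Lsl_ft (LP (LK LD1_c19 LD2_c27 LD3_c10)) = (LP (LK LD1_c10 LD2_c45 LD3_c21)) :=
  Lre_f IH (LK LD1_c19 LD2_c27 LD3_c10) (LK LD1_c10 LD2_c45 LD3_c21) Lrfl Lrfl
theorem f930680 : Led Lsl_at (LP (LK LD1_c10 LD2_c45 LD3_c21)) = (LP (LK LD1_c19 LD2_c27 LD3_c7)) :=
  Lre_a IH (LK LD1_c10 LD2_c45 LD3_c21) (LK LD1_c19 LD2_c27 LD3_c7) Lrfl Lrfl
theorem f930681 : Led Lsl_gt (LP (LK LD1_c25 LD2_c20 LD3_c46)) = (LP (LK LD1_c19 LD2_c27 LD3_c7)) :=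
  Lgr Lrot46 (Lpr_gf (f930664 IH) (Lpr_ft (f930643 IH) (Lpr_at (f930680 IH) (Lpn (LP (LK LD1_c19 LD2_c27 LD3_c7))))))
theorem f930683 : Led Lsl_gf (LP (LK LD1_c25 LD2_c20 LD3_c43)) = (LP (LK LD1_c19 LD2_c27 LD3_c7)) :=
  Lgr Lrot76 (Lpr_af (f555342 IH) (Lpe (f555402 IH) (Lpr_gt (f930681 IH) (Lpn (LP (LK LD1_c19 LD2_c27 LD3_c7))))))
theorem f256242 : Led Lsl_bt (LP (LK LD1_c15 LD2_c27 LD3_c53)) = (LP (LK LD1_c25 LD2_c19 LD3_c41)) :=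
  Lre_b IH (LK LD1_c15 LD2_c27 LD3_c53) (LK LD1_c25 LD2_c19 LD3_c41) Lrfl Lrfl
theorem f602823 : Led Lsl_bf (LP (LK LD1_c16 LD2_c12 LD3_c57)) = (LP (LK LD1_c25 LD2_c19 LD3_c8)) :=
  Lgr Lrot24 (Lpr_bt (K56.f602821 IH) (Lpn (LP (LK LD1_c25 LD2_c19 LD3_c8))))
theorem f193411 : Led Lsl_bt (LP (LK LD1_c4 LD2_c6 LD3_c24)) = (LP (LK LD1_c8 LD2_c13 LD3_c22)) :=
  Lre_b IH (LK LD1_c4 LD2_c6 LD3_c24) (LK LD1_c8 LD2_c13 LD3_c22) Lrfl Lrfl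
theorem f363780 : Led Lsl_ff (LP (LK LD1_c15 LD2_c27 LD3_c28)) = (LP (LK LD1_c8 LD2_c13 LD3_c22)) :=
  Lgr Lrot25 (Lpr_bt (K27.f265589 IH) (Lpr_ft (K26.f363778 IH) (Lpr_bt (f193411 IH) (Lpn (LP (LK LD1_c8 LD2_c13 LD3_c22))))))
theorem f192887 : Led Lsl_gt (LP (LK LD1_c8 LD2_c13 LD3_c22)) = (LP (LK LD1_c15 LD2_c28 LD3_c0)) :=
  Lre_g IH (LK LD1_c8 LD2_c13 LD3_c22) (LK LD1_c15 LD2_c28 LD3_c0) Lrfl Lrfl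
theorem f378074 : Led Lsl_gf (LP (LK LD1_c25 LD2_c19 LD3_c10)) = (LP (LK LD1_c15 LD2_c28 LD3_c0)) :=
  Lgr Lrot76 (Lpe (K27.f336235 IH) (Lpr_ff (f363780 IH) (Lpr_gt (f192887 IH) (Lpn (LP (LK LD1_c15 LD2_c28 LD3_c0))))))
theorem f602528 : Led Lsl_bt (LP (LK LD1_c8 LD2_c39 LD3_c27)) = (LP (LK LD1_c15 LD2_c28 LD3_c0)) :=
  Lgr Lrot22 (Lpe (K16.f190125 IH) (Lpr_gf (K16.f274084 IH) (Lpr_cf (K56.f291397 IH) (Lpe (K22.f291373 IH) (Lpe (K56.f265235 IH) (Lpr_ct (K56.f586603 IH) (Lpe (K45.f375022 IH) (Lpe (K45.f287888 IH) (Lpe (K27.f363761 IH) (Lpr_gf (f378074 IH) (Lpn (LP (LK LD1_c15 LD2_c28 LD3_c0)))))))))))))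
theorem f603057 : Led Lsl_ft (LP (LK LD1_c15 LD2_c28 LD3_c0)) = (LP (LK LD1_c25 LD2_c19 LD3_c8)) :=
  Lgr Lrot75 (Lpe (f602528 IH) (Lpe (K15.f28687 IH) (Lpr_bf (f602823 IH) (Lpn (LP (LK LD1_c25 LD2_c19 LD3_c8))))))
theorem f378018 : Led Lsl_bt (LP (LK LD1_c28 LD2_c12 LD3_c60)) = (LP (LK LD1_c27 LD2_c23 LD3_c45)) :=
  Lgr Lrot127 (Lpr_bf (K27.f364164 IH) (Lpn (LP (LK LD1_c27 LD2_c23 LD3_c45))))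
theorem f368168 : Led Lsl_bf (LP (LK LD1_c18 LD2_c52 LD3_c34)) = (LP (LK LD1_c25 LD2_c20 LD3_c13)) :=
  Lgr Lrot24 (Lpr_bt (K27.f368154 IH) (Lpn (LP (LK LD1_c25 LD2_c20 LD3_c13))))
theorem f368174 : Led Lsl_ct (LP (LK LD1_c27 LD2_c23 LD3_c45)) = (LP (LK LD1_c25 LD2_c19 LD3_c10)) :=
  Lgr Lrot59 (Lpr_cf (K27.f368170 IH) (Lpn (LP (LK LD1_c25 LD2_c19 LD3_c10))))
theorem f378020 : Led Lsl_bf (LP (LK LD1_c15 LD2_c28 LD3_c19)) = (LP (LK LD1_c25 LD2_c19 LD3_c10)) :=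
  Lgr Lrot90 (Lpr_ct (K45.f287888 IH) (Lpe (f368168 IH) (Lpr_ct (K27.f192877 IH) (Lpr_bt (f378018 IH) (Lpr_ct (f368174 IH) (Lpn (LP (LK LD1_c25 LD2_c19 LD3_c10))))))))
theorem f217593 : Led Lsl_at (LP (LK LD1_c25 LD2_c19 LD3_c6)) = (LP (LK LD1_c15 LD2_c27 LD3_c26)) :=
  Lre_a IH (LK LD1_c25 LD2_c19 LD3_c6) (LK LD1_c15 LD2_c27 LD3_c26) Lrfl Lrfl
theorem f375006 : Led Lsl_ft (LP (LK LD1_c15 LD2_c28 LD3_c19)) = (LP (LK LD1_c25 LD2_c19 LD3_c6)) :=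
  Lgr Lrot101 (Lpe (K27.f363760 IH) (Lpr_ff (K45.f375001 IH) (Lpe (f217593 IH) (Lpn (LP (LK LD1_c25 LD2_c19 LD3_c6))))))
theorem f378024 : Led Lsl_ft (LP (LK LD1_c15 LD2_c28 LD3_c2)) = (LP (LK LD1_c25 LD2_c19 LD3_c10)) :=
  Lgr Lrot75 (Lpe (K56.f363789 IH) (Lpe (f375006 IH) (Lpr_bf (f378020 IH) (Lpn (LP (LK LD1_c25 LD2_c19 LD3_c10))))))
theorem f378027 : Led Lsl_ff (LP (LK LD1_c15 LD2_c28 LD3_c2)) = (LP (LK LD1_c25 LD2_c19 LD3_c10)) :=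
  Lgr Lrot3 (Lpr_ft (f378024 IH) (Lpn (LP (LK LD1_c25 LD2_c19 LD3_c10))))
theorem f191959 : Led Lsl_gt (LP (LK LD1_c15 LD2_c28 LD3_c1)) = (LP (LK LD1_c8 LD2_c13 LD3_c22)) :=
  Lre_g IH (LK LD1_c15 LD2_c28 LD3_c1) (LK LD1_c8 LD2_c13 LD3_c22) Lrfl Lrfl
theorem f378033 : Led Lsl_gf (LP (LK LD1_c15 LD2_c28 LD3_c1)) = (LP (LK LD1_c25 LD2_c19 LD3_c10)) :=
  Lgr Lrot47 (Lpr_gt (f191959 IH) (Lpe (K56.f191956 IH) (Lpr_ff (f378027 IH) (Lpn (LP (LK LD1_c25 LD2_c19 LD3_c10))))))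
theorem f603064 : Led Lsl_af (LP (LK LD1_c15 LD2_c28 LD3_c1)) = (LP (LK LD1_c25 LD2_c19 LD3_c8)) :=
  Lgr Lrot31 (Lpr_gf (f378033 IH) (Lpr_gf (f378074 IH) (Lpr_ft (f603057 IH) (Lpn (LP (LK LD1_c25 LD2_c19 LD3_c8))))))
theorem f378035 : Led Lsl_dt (LP (LK LD1_c15 LD2_c28 LD3_c1)) = (LP (LK LD1_c25 LD2_c19 LD3_c55)) :=
  Lre_d IH (LK LD1_c15 LD2_c28 LD3_c1) (LK LD1_c25 LD2_c19 LD3_c55) Lrfl Lrfl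
theorem f183590 : Led Lsl_bt (LP (LK LD1_c16 LD2_c12 LD3_c55)) = (LP (LK LD1_c8 LD2_c39 LD3_c28)) :=
  Lre_b IH (LK LD1_c16 LD2_c12 LD3_c55) (LK LD1_c8 LD2_c39 LD3_c28) Lrfl Lrfl
theorem f602825 : Led Lsl_df (LP (LK LD1_c16 LD2_c12 LD3_c55)) = (LP (LK LD1_c25 LD2_c19 LD3_c8)) :=
  Lgr Lrot12 (Lpr_bt (f183590 IH) (Lpr_dt (K15.f28695 IH) (Lpr_bt (K56.f602821 IH) (Lpn (LP (LK LD1_c25 LD2_c19 LD3_c8))))))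
theorem f603051 : Led Lsl_dt (LP (LK LD1_c16 LD2_c12 LD3_c55)) = (LP (LK LD1_c25 LD2_c19 LD3_c8)) :=
  Lgr Lrot42 (Lpr_df (f602825 IH) (Lpn (LP (LK LD1_c25 LD2_c19 LD3_c8))))
theorem f603071 : Led Lsl_at (LP (LK LD1_c25 LD2_c19 LD3_c55)) = (LP (LK LD1_c16 LD2_c12 LD3_c55)) :=
  Lgr Lrot51 (Lpe (f378035 IH) (Lpr_af (f603064 IH) (Lpe (f603051 IH) (Lpn (LP (LK LD1_c16 LD2_c12 LD3_c55))))))
theorem f603080 : Led Lsl_ff (LP (LK LD1_c25 LD2_c19 LD3_c55)) = (LP (LK LD1_c16 LD2_c12 LD3_c54)) :=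
  Lgr Lrot30 (Lpr_at (f603071 IH) (Lpr_ft (K68.f48152 IH) (Lpr_at (K10.f48101 IH) (Lpn (LP (LK LD1_c16 LD2_c12 LD3_c54))))))
theorem f603088 : Led Lsl_ft (LP (LK LD1_c25 LD2_c19 LD3_c55)) = (LP (LK LD1_c16 LD2_c12 LD3_c54)) :=
  Lgr Lrot48 (Lpr_ff (f603080 IH) (Lpn (LP (LK LD1_c16 LD2_c12 LD3_c54))))
theorem f603092 : Led Lsl_gt (LP (LK LD1_c25 LD2_c19 LD3_c55)) = (LP (LK LD1_c16 LD2_c12 LD3_c53)) :=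
  Lgr Lrot5 (Lpr_ft (f603088 IH) (Lpr_at (K12.f48096 IH) (Lpe (K39.f48115 IH) (Lpn (LP (LK LD1_c16 LD2_c12 LD3_c53))))))
theorem f183534 : Led Lsl_at (LP (LK LD1_c15 LD2_c28 LD3_c28)) = (LP (LK LD1_c25 LD2_c20 LD3_c40)) :=
  Lre_a IH (LK LD1_c15 LD2_c28 LD3_c28) (LK LD1_c25 LD2_c20 LD3_c40) Lrfl Lrfl
theorem f603076 : Led Lsl_bf (LP (LK LD1_c25 LD2_c19 LD3_c55)) = (LP (LK LD1_c25 LD2_c20 LD3_c40)) :=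
  Lgr Lrot81 (Lpr_at (f603071 IH) (Lpr_bt (f183590 IH) (Lpe (K11.f183517 IH) (Lpr_bt (K22.f183506 IH) (Lpr_at (f183534 IH) (Lpn (LP (LK LD1_c25 LD2_c20 LD3_c40))))))))
theorem f45628 : Led Lsl_at (LP (LK LD1_c15 LD2_c56 LD3_c29)) = (LP (LK LD1_c8 LD2_c29 LD3_c29)) :=
  Lre_a IH (LK LD1_c15 LD2_c56 LD3_c29) (LK LD1_c8 LD2_c29 LD3_c29) Lrfl Lrfl
theorem f183535 : Led Lsl_ct (LP (LK LD1_c25 LD2_c20 LD3_c40)) = (LP (LK LD1_c15 LD2_c56 LD3_c29)) :=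
  Lgr Lrot111 (Lpe (f183534 IH) (Lpr_cf (K22.f183529 IH) (Lpe (f45628 IH) (Lpn (LP (LK LD1_c15 LD2_c56 LD3_c29))))))
theorem f45636 : Led Lsl_gt (LP (LK LD1_c8 LD2_c29 LD3_c25)) = (LP (LK LD1_c15 LD2_c56 LD3_c29)) :=
  Lre_g IH (LK LD1_c8 LD2_c29 LD3_c25) (LK LD1_c15 LD2_c56 LD3_c29) Lrfl Lrfl
theorem f45666 : Led Lsl_ct (LP (LK LD1_c15 LD2_c56 LD3_c32)) = (LP (LK LD1_c8 LD2_c29 LD3_c25)) :=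
  Lre_c IH (LK LD1_c15 LD2_c56 LD3_c32) (LK LD1_c8 LD2_c29 LD3_c25) Lrfl Lrfl
theorem f603096 : Led Lsl_gf (LP (LK LD1_c15 LD2_c56 LD3_c32)) = (LP (LK LD1_c25 LD2_c19 LD3_c41)) :=
  Lgr Lrot181 (Lpr_ct (f45666 IH) (Lpr_gt (f45636 IH) (Lpe (f183535 IH) (Lpe (f603076 IH) (Lpr_gt (f603092 IH) (Lpr_bf (K39.f554797 IH) (Lpr_ct (K15.f265109 IH) (Lpr_gt (K15.f266694 IH) (Lpe (K14.f256233 IH) (Lpr_bt (f256242 IH) (Lpn (LP (LK LD1_c25 LD2_c19 LD3_c41)))))))))))))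
theorem f603100 : Led Lsl_bt (LP (LK LD1_c25 LD2_c53 LD3_c2)) = (LP (LK LD1_c15 LD2_c56 LD3_c32)) :=
  Lre_b IH (LK LD1_c25 LD2_c53 LD3_c2) (LK LD1_c15 LD2_c56 LD3_c32) Lrfl Lrfl
theorem f930686 : Led Lsl_ct (LP (LK LD1_c25 LD2_c53 LD3_c2)) = (LP (LK LD1_c19 LD2_c27 LD3_c7)) :=
  Lgr Lrot64 (Lpr_bt (f603100 IH) (Lpr_gf (f603096 IH) (Lpe (f256242 IH) (Lpr_ct (K14.f256233 IH) (Lpe (K15.f266694 IH) (Lpe (K15.f265109 IH) (Lpr_gf (K15.f266675 IH) (Lpe (K39.f554613 IH) (Lpr_ct (f182759 IH) (Lpr_gf (f930683 IH) (Lpn (LP (LK LD1_c19 LD2_c27 LD3_c7)))))))))))))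
theorem f216046 : Led Lsl_et (LP (LK LD1_c32 LD2_c1 LD3_c4)) = (LP (LK LD1_c25 LD2_c53 LD3_c2)) :=
  Lre_e IH (LK LD1_c32 LD2_c1 LD3_c4) (LK LD1_c25 LD2_c53 LD3_c2) Lrfl Lrfl
theorem f930679 : Led Lsl_et (LP (LK LD1_c19 LD2_c27 LD3_c7)) = (LP (LK LD1_c28 LD2_c49 LD3_c58)) :=
  Lre_e IH (LK LD1_c19 LD2_c27 LD3_c7) (LK LD1_c28 LD2_c49 LD3_c58) Lrfl Lrfl
theorem f930694 : Led Lsl_cf (LP (LK LD1_c32 LD2_c1 LD3_c4)) = (LP (LK LD1_c28 LD2_c49 LD3_c58)) :=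
  Lgr Lrot39 (Lpr_et (f216046 IH) (Lpr_ct (f930686 IH) (Lpr_et (f930679 IH) (Lpn (LP (LK LD1_c28 LD2_c49 LD3_c58))))))
theorem f930706 : Led Lsl_ct (LP (LK LD1_c32 LD2_c1 LD3_c4)) = (LP (LK LD1_c28 LD2_c49 LD3_c58)) :=
  Lgr Lrot59 (Lpr_cf (f930694 IH) (Lpn (LP (LK LD1_c28 LD2_c49 LD3_c58))))
theorem f930713 : Led Lsl_bt (LP (LK LD1_c25 LD2_c53 LD3_c3)) = (LP (LK LD1_c32 LD2_c1 LD3_c4)) :=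
  Lre_b IH (LK LD1_c25 LD2_c53 LD3_c3) (LK LD1_c32 LD2_c1 LD3_c4) Lrfl Lrfl
theorem f930714 : Led Lsl_ct (LP (LK LD1_c15 LD2_c56 LD3_c34)) = (LP (LK LD1_c25 LD2_c53 LD3_c3)) :=
  Lre_c IH (LK LD1_c15 LD2_c56 LD3_c34) (LK LD1_c25 LD2_c53 LD3_c3) Lrfl Lrfl
theorem f930715 : Led Lsl_bt (LP (LK LD1_c25 LD2_c53 LD3_c1)) = (LP (LK LD1_c15 LD2_c56 LD3_c34)) :=
  Lre_b IH (LK LD1_c25 LD2_c53 LD3_c1) (LK LD1_c15 LD2_c56 LD3_c34) Lrfl Lrfl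
theorem f930716 : Led Lsl_ct (LP (LK LD1_c32 LD2_c1 LD3_c3)) = (LP (LK LD1_c25 LD2_c53 LD3_c1)) :=
  Lre_c IH (LK LD1_c32 LD2_c1 LD3_c3) (LK LD1_c25 LD2_c53 LD3_c1) Lrfl Lrfl
theorem f930717 : Led Lsl_bf (LP (LK LD1_c32 LD2_c1 LD3_c3)) = (LP (LK LD1_c28 LD2_c49 LD3_c58)) :=
  Lgr Lrot90 (Lpr_ct (f930716 IH) (Lpr_bt (f930715 IH) (Lpr_ct (f930714 IH) (Lpr_bt (f930713 IH) (Lpr_ct (f930706 IH) (Lpn (LP (LK LD1_c28 LD2_c49 LD3_c58))))))))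
theorem f259451 : Led Lsl_et (LP (LK LD1_c32 LD2_c1 LD3_c3)) = (LP (LK LD1_c25 LD2_c53 LD3_c0)) :=
  Lre_e IH (LK LD1_c32 LD2_c1 LD3_c3) (LK LD1_c25 LD2_c53 LD3_c0) Lrfl Lrfl
theorem f930723 : Led Lsl_bt (LP (LK LD1_c25 LD2_c53 LD3_c0)) = (LP (LK LD1_c19 LD2_c27 LD3_c7)) :=
  Lgr Lrot119 (Lpe (f259451 IH) (Lpr_bf (f930717 IH) (Lpe (f930679 IH) (Lpn (LP (LK LD1_c19 LD2_c27 LD3_c7))))))
theorem f619064 : Led Lsl_at (LP (LK LD1_c19 LD2_c27 LD3_c7)) = (LP (LK LD1_c10 LD2_c45 LD3_c21)) :=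
  Lre_a IH (LK LD1_c19 LD2_c27 LD3_c7) (LK LD1_c10 LD2_c45 LD3_c21) Lrfl Lrfl
theorem f194841 : Led Lsl_bt (LP (LK LD1_c10 LD2_c45 LD3_c21)) = (LP (LK LD1_c5 LD2_c27 LD3_c6)) :=
  Lre_b IH (LK LD1_c10 LD2_c45 LD3_c21) (LK LD1_c5 LD2_c27 LD3_c6) Lrfl Lrfl
theorem f727188 : Led Lsl_at (LP (LK LD1_c5 LD2_c27 LD3_c6)) = (LP (LK LD1_c10 LD2_c45 LD3_c11)) :=
  Lre_a IH (LK LD1_c5 LD2_c27 LD3_c6) (LK LD1_c10 LD2_c45 LD3_c11) Lrfl Lrfl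
def v24249 : LQ := Led Lsl_ct v4641
theorem f823091 : Led Lsl_ct v4641 = v24249 :=
  Lrfl
theorem f727154 : Led Lsl_ct (LP (LK LD1_c5 LD2_c27 LD3_c4)) = (LP (LK LD1_c10 LD2_c45 LD3_c11)) :=
  Lre_c IH (LK LD1_c5 LD2_c27 LD3_c4) (LK LD1_c10 LD2_c45 LD3_c11) Lrfl Lrfl
theorem f930621 : v24249 = (LP (LK LD1_c10 LD2_c45 LD3_c11)) :=
  Lefun (Lecon (f823091 IH) (f930614 IH)) (f727154 IH)
theorem f823092 : Led Lsl_cf v4641 = v24249 :=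
  Lgr Lrot11 (Lpr_ct (f823091 IH) (Lpn v24249))
theorem f8961 : Led Lsl_ct (LP (LK LD1_c5 LD2_c22 LD3_c8)) = (LP (LK LD1_c2 LD2_c40 LD3_c0)) :=
  Lre_c IH (LK LD1_c5 LD2_c22 LD3_c8) (LK LD1_c2 LD2_c40 LD3_c0) Lrfl Lrfl
theorem f9017 : Led Lsl_bt (LP (LK LD1_c5 LD2_c22 LD3_c8)) = (LP (LK LD1_c2 LD2_c37 LD3_c36)) :=
  Lre_b IH (LK LD1_c5 LD2_c22 LD3_c8) (LK LD1_c2 LD2_c37 LD3_c36) Lrfl Lrfl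
theorem f198893 : Led Lsl_gt (LP (LK LD1_c10 LD2_c33 LD3_c47)) = (LP (LK LD1_c19 LD2_c7 LD3_c49)) :=
  Lre_g IH (LK LD1_c10 LD2_c33 LD3_c47) (LK LD1_c19 LD2_c7 LD3_c49) Lrfl Lrfl
theorem f823093 : Led Lsl_bf (LP (LK LD1_c19 LD2_c7 LD3_c49)) = v24249 :=
  Lgr Lrot34 (Lpe (f198893 IH) (Lpe (K12.f198890 IH) (Lpe (K11.f198874 IH) (Lpe (K11.f191755 IH) (Lpe (K14.f187672 IH) (Lpe (K10.f9018 IH) (Lpe (f9017 IH) (Lpr_ct (f8961 IH) (Lpr_gf (f638295 IH) (Lpr_cf (f823092 IH) (Lpn v24249)))))))))))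
theorem f930725 : Led Lsl_af (LP (LK LD1_c25 LD2_c53 LD3_c0)) = (LP (LK LD1_c19 LD2_c7 LD3_c49)) :=
  Lgr Lrot36 (Lpr_bt (f930723 IH) (Lpr_at (f619064 IH) (Lpr_bt (f194841 IH) (Lpr_at (f727188 IH) (Lpq (f930621 IH) (Lpe (f823093 IH) (Lpn (LP (LK LD1_c19 LD2_c7 LD3_c49)))))))))
theorem f54320 : Led Lsl_cf (LP (LK LD1_c4 LD2_c20 LD3_c49)) = (LP (LK LD1_c4 LD2_c14 LD3_c61)) :=
  Lgr Lrot11 (Lpr_ct (K11.f54313 IH) (Lpn (LP (LK LD1_c4 LD2_c14 LD3_c61))))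
theorem f54332 : Led Lsl_gt (LP (LK LD1_c8 LD2_c39 LD3_c19)) = (LP (LK LD1_c4 LD2_c20 LD3_c49)) :=
  Lre_g IH (LK LD1_c8 LD2_c39 LD3_c19) (LK LD1_c4 LD2_c20 LD3_c49) Lrfl Lrfl
theorem f54336 : Led Lsl_ct (LP (LK LD1_c16 LD2_c12 LD3_c39)) = (LP (LK LD1_c8 LD2_c39 LD3_c19)) :=
  Lre_c IH (LK LD1_c16 LD2_c12 LD3_c39) (LK LD1_c8 LD2_c39 LD3_c19) Lrfl Lrfl
theorem f195813 : Led Lsl_bt (LP (LK LD1_c5 LD2_c26 LD3_c23)) = (LP (LK LD1_c10 LD2_c43 LD3_c57)) :=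
  Lre_b IH (LK LD1_c5 LD2_c26 LD3_c23) (LK LD1_c10 LD2_c43 LD3_c57) Lrfl Lrfl
theorem f196061 : Led Lsl_gt (LP (LK LD1_c10 LD2_c43 LD3_c57)) = (LP (LK LD1_c19 LD2_c25 LD3_c12)) :=
  Lre_g IH (LK LD1_c10 LD2_c43 LD3_c57) (LK LD1_c19 LD2_c25 LD3_c12) Lrfl Lrfl
theorem f259439 : Led Lsl_bt (LP (LK LD1_c16 LD2_c12 LD3_c39)) = (LP (LK LD1_c19 LD2_c25 LD3_c12)) :=
  Lgr Lrot92 (Lpr_ct (f54336 IH) (Lpr_gt (f54332 IH) (Lpr_cf (f54320 IH) (Lpr_bt (K11.f45261 IH) (Lpr_gt (K10.f45516 IH) (Lpr_ct (K15.f259425 IH) (Lpr_gt (K15.f189716 IH) (Lpe (K14.f195815 IH) (Lpr_bt (f195813 IH) (Lpr_gt (f196061 IH) (Lpn (LP (LK LD1_c19 LD2_c25 LD3_c12)))))))))))))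
theorem f31328 : Led Lsl_gt (LP (LK LD1_c16 LD2_c12 LD3_c31)) = (LP (LK LD1_c8 LD2_c39 LD3_c19)) :=
  Lre_g IH (LK LD1_c16 LD2_c12 LD3_c31) (LK LD1_c8 LD2_c39 LD3_c19) Lrfl Lrfl
theorem f31277 : Led Lsl_bt (LP (LK LD1_c4 LD2_c20 LD3_c49)) = (LP (LK LD1_c2 LD2_c7 LD3_c54)) :=
  Lre_b IH (LK LD1_c4 LD2_c20 LD3_c49) (LK LD1_c2 LD2_c7 LD3_c54) Lrfl Lrfl
theorem f31278 : Led Lsl_at (LP (LK LD1_c8 LD2_c39 LD3_c20)) = (LP (LK LD1_c4 LD2_c20 LD3_c49)) :=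
  Lre_a IH (LK LD1_c8 LD2_c39 LD3_c20) (LK LD1_c4 LD2_c20 LD3_c49) Lrfl Lrfl
theorem f28967 : Led Lsl_bt (LP (LK LD1_c2 LD2_c7 LD3_c60)) = (LP (LK LD1_c4 LD2_c20 LD3_c58)) :=
  Lre_b IH (LK LD1_c2 LD2_c7 LD3_c60) (LK LD1_c4 LD2_c20 LD3_c58) Lrfl Lrfl
theorem f31280 : Led Lsl_bf (LP (LK LD1_c8 LD2_c39 LD3_c20)) = (LP (LK LD1_c8 LD2_c39 LD3_c38)) :=
  Lgr Lrot81 (Lpr_at (f31278 IH) (Lpr_bt (f31277 IH) (Lpr_at (K10.f31275 IH) (Lpr_bt (f28967 IH) (Lpr_at (K68.f31279 IH) (Lpn (LP (LK LD1_c8 LD2_c39 LD3_c38))))))))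
theorem f45201 : Led Lsl_bt (LP (LK LD1_c4 LD2_c15 LD3_c17)) = (LP (LK LD1_c8 LD2_c29 LD3_c29)) :=
  Lre_b IH (LK LD1_c4 LD2_c15 LD3_c17) (LK LD1_c8 LD2_c29 LD3_c29) Lrfl Lrfl
theorem f45508 : Led Lsl_at (LP (LK LD1_c8 LD2_c29 LD3_c29)) = (LP (LK LD1_c15 LD2_c56 LD3_c29)) :=
  Lre_a IH (LK LD1_c8 LD2_c29 LD3_c29) (LK LD1_c15 LD2_c56 LD3_c29) Lrfl Lrfl
theorem f45510 : Led Lsl_bt (LP (LK LD1_c15 LD2_c56 LD3_c29)) = (LP (LK LD1_c15 LD2_c55 LD3_c43)) :=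
  Lgr Lrot62 (Lpe (f45508 IH) (Lpe (f45201 IH) (Lpr_af (K10.f45502 IH) (Lpe (K13.f45275 IH) (Lpe (K68.f45509 IH) (Lpn (LP (LK LD1_c15 LD2_c55 LD3_c43))))))))
theorem f45677 : Led Lsl_bf (LP (LK LD1_c8 LD2_c29 LD3_c27)) = (LP (LK LD1_c8 LD2_c28 LD3_c60)) :=
  Lgr Lrot61 (Lpr_ft (K15.f45662 IH) (Lpr_bt (f45510 IH) (Lpr_ft (K31.f45676 IH) (Lpn (LP (LK LD1_c8 LD2_c28 LD3_c60))))))
theorem f54413 : Led Lsl_ct (LP (LK LD1_c8 LD2_c39 LD3_c20)) = (LP (LK LD1_c8 LD2_c28 LD3_c60)) :=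
  Lgr Lrot83 (Lpr_bf (f31280 IH) (Lpe (K10.f31399 IH) (Lpr_bf (K12.f54409 IH) (Lpe (K12.f45687 IH) (Lpr_bf (f45677 IH) (Lpn (LP (LK LD1_c8 LD2_c28 LD3_c60))))))))
theorem f54475 : Led Lsl_cf (LP (LK LD1_c16 LD2_c12 LD3_c31)) = (LP (LK LD1_c15 LD2_c55 LD3_c43)) :=
  Lgr Lrot108 (Lpr_ft (K43.f31320 IH) (Lpr_ct (f54413 IH) (Lpr_ft (K68.f45632 IH) (Lpn (LP (LK LD1_c15 LD2_c55 LD3_c43))))))
theorem f45532 : Led Lsl_at (LP (LK LD1_c25 LD2_c52 LD3_c59)) = (LP (LK LD1_c15 LD2_c56 LD3_c39)) :=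
  Lre_a IH (LK LD1_c25 LD2_c52 LD3_c59) (LK LD1_c15 LD2_c56 LD3_c39) Lrfl Lrfl
theorem f45174 : Led Lsl_bt (LP (LK LD1_c8 LD2_c29 LD3_c5)) = (LP (LK LD1_c15 LD2_c55 LD3_c57)) :=
  Lre_b IH (LK LD1_c8 LD2_c29 LD3_c5) (LK LD1_c15 LD2_c55 LD3_c57) Lrfl Lrfl
theorem f45533 : Led Lsl_at (LP (LK LD1_c15 LD2_c55 LD3_c57)) = (LP (LK LD1_c25 LD2_c51 LD3_c54)) :=
  Lre_a IH (LK LD1_c15 LD2_c55 LD3_c57) (LK LD1_c25 LD2_c51 LD3_c54) Lrfl Lrfl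
theorem f45534 : Led Lsl_bf (LP (LK LD1_c25 LD2_c52 LD3_c59)) = (LP (LK LD1_c25 LD2_c51 LD3_c54)) :=
  Lgr Lrot81 (Lpr_at (f45532 IH) (Lpr_bt (K22.f45531 IH) (Lpr_at (K10.f45514 IH) (Lpr_bt (f45174 IH) (Lpr_at (f45533 IH) (Lpn (LP (LK LD1_c25 LD2_c51 LD3_c54))))))))
theorem f45617 : Led Lsl_bt (LP (LK LD1_c25 LD2_c52 LD3_c59)) = (LP (LK LD1_c25 LD2_c51 LD3_c54)) :=
  Lgr Lrot127 (Lpr_bf (f45534 IH) (Lpn (LP (LK LD1_c25 LD2_c51 LD3_c54))))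
theorem f45626 : Led Lsl_bf (LP (LK LD1_c15 LD2_c56 LD3_c29)) = (LP (LK LD1_c15 LD2_c55 LD3_c43)) :=
  Lgr Lrot96 (Lpr_et (K15.f45624 IH) (Lpr_bt (f45617 IH) (Lpr_et (K31.f45625 IH) (Lpn (LP (LK LD1_c15 LD2_c55 LD3_c43))))))
theorem f45637 : Led Lsl_bt (LP (LK LD1_c15 LD2_c56 LD3_c31)) = (LP (LK LD1_c8 LD2_c29 LD3_c25)) :=
  Lre_b IH (LK LD1_c15 LD2_c56 LD3_c31) (LK LD1_c8 LD2_c29 LD3_c25) Lrfl Lrfl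
theorem f45638 : Led Lsl_ct (LP (LK LD1_c15 LD2_c56 LD3_c31)) = (LP (LK LD1_c25 LD2_c53 LD3_c0)) :=
  Lre_c IH (LK LD1_c15 LD2_c56 LD3_c31) (LK LD1_c25 LD2_c53 LD3_c0) Lrfl Lrfl
theorem f196055 : Led Lsl_ft (LP (LK LD1_c10 LD2_c43 LD3_c57)) = (LP (LK LD1_c11 LD2_c55 LD3_c53)) :=
  Lgr Lrot75 (Lpe (f195813 IH) (Lpr_ff (K13.f195828 IH) (Lpe (K22.f183730 IH) (Lpn (LP (LK LD1_c11 LD2_c55 LD3_c53))))))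
theorem f196062 : Led Lsl_gt (LP (LK LD1_c19 LD2_c25 LD3_c12)) = (LP (LK LD1_c21 LD2_c0 LD3_c46)) :=
  Lgr Lrot46 (Lpe (f196061 IH) (Lpr_ft (f196055 IH) (Lpr_at (K12.f183759 IH) (Lpn (LP (LK LD1_c21 LD2_c0 LD3_c46))))))
theorem f259449 : Led Lsl_gf (LP (LK LD1_c25 LD2_c53 LD3_c0)) = (LP (LK LD1_c19 LD2_c7 LD3_c51)) :=
  Lgr Lrot129 (Lpe (f45638 IH) (Lpr_bt (f45637 IH) (Lpr_gt (f45636 IH) (Lpr_bf (f45626 IH) (Lpe (f54475 IH) (Lpr_gt (f31328 IH) (Lpe (f54336 IH) (Lpr_bt (f259439 IH) (Lpr_gt (f196062 IH) (Lpr_ct (K12.f198900 IH) (Lpn (LP (LK LD1_c19 LD2_c7 LD3_c51)))))))))))))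
theorem f195368 : Led Lsl_gt (LP (LK LD1_c10 LD2_c30 LD3_c43)) = (LP (LK LD1_c19 LD2_c3 LD3_c1)) :=
  Lre_g IH (LK LD1_c10 LD2_c30 LD3_c43) (LK LD1_c19 LD2_c3 LD3_c1) Lrfl Lrfl
theorem f196023 : Led Lsl_bt (LP (LK LD1_c19 LD2_c3 LD3_c3)) = (LP (LK LD1_c10 LD2_c30 LD3_c43)) :=
  Lre_b IH (LK LD1_c19 LD2_c3 LD3_c3) (LK LD1_c10 LD2_c30 LD3_c43) Lrfl Lrfl
theorem f196057 : Led Lsl_at (LP (LK LD1_c19 LD2_c25 LD3_c14)) = (LP (LK LD1_c10 LD2_c43 LD3_c57)) :=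
  Lre_a IH (LK LD1_c19 LD2_c25 LD3_c14) (LK LD1_c10 LD2_c43 LD3_c57) Lrfl Lrfl
theorem f196058 : Led Lsl_ff (LP (LK LD1_c19 LD2_c25 LD3_c14)) = (LP (LK LD1_c21 LD2_c0 LD3_c46)) :=
  Lgr Lrot30 (Lpr_at (f196057 IH) (Lpr_ft (f196055 IH) (Lpr_at (K12.f183759 IH) (Lpn (LP (LK LD1_c21 LD2_c0 LD3_c46))))))
theorem f196069 : Led Lsl_gt (LP (LK LD1_c19 LD2_c25 LD3_c13)) = (LP (LK LD1_c10 LD2_c43 LD3_c57)) :=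
  Lre_g IH (LK LD1_c19 LD2_c25 LD3_c13) (LK LD1_c10 LD2_c43 LD3_c57) Lrfl Lrfl
theorem f196070 : Led Lsl_gf (LP (LK LD1_c19 LD2_c25 LD3_c13)) = (LP (LK LD1_c21 LD2_c0 LD3_c46)) :=
  Lgr Lrot47 (Lpr_gt (f196069 IH) (Lpe (f196057 IH) (Lpr_ff (f196058 IH) (Lpn (LP (LK LD1_c21 LD2_c0 LD3_c46))))))
theorem f198907 : Led Lsl_ct (LP (LK LD1_c19 LD2_c3 LD3_c3)) = (LP (LK LD1_c19 LD2_c25 LD3_c13)) :=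
  Lgr Lrot10 (Lpr_bt (f196023 IH) (Lpr_gt (f195368 IH) (Lpe (K70.f194954 IH) (Lpr_gt (K70.f195359 IH) (Lpe (K70.f194998 IH) (Lpr_bt (K70.f195953 IH) (Lpr_gt (K70.f189318 IH) (Lpr_bf (K12.f198903 IH) (Lpe (K31.f198895 IH) (Lpe (f196070 IH) (Lpn (LP (LK LD1_c19 LD2_c25 LD3_c13)))))))))))))
theorem f8952 : Led Lsl_bt (LP (LK LD1_c10 LD2_c34 LD3_c32)) = (LP (LK LD1_c19 LD2_c3 LD3_c1)) :=
  Lre_b IH (LK LD1_c10 LD2_c34 LD3_c32) (LK LD1_c19 LD2_c3 LD3_c1) Lrfl Lrfl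
theorem f194814 : Led Lsl_ct (LP (LK LD1_c5 LD2_c27 LD3_c11)) = (LP (LK LD1_c2 LD2_c39 LD3_c59)) :=
  Lre_c IH (LK LD1_c5 LD2_c27 LD3_c11) (LK LD1_c2 LD2_c39 LD3_c59) Lrfl Lrfl
theorem f194901 : Led Lsl_bt (LP (LK LD1_c5 LD2_c27 LD3_c11)) = (LP (LK LD1_c10 LD2_c45 LD3_c31)) :=
  Lre_b IH (LK LD1_c5 LD2_c27 LD3_c11) (LK LD1_c10 LD2_c45 LD3_c31) Lrfl Lrfl
theorem f198915 : Led Lsl_gt (LP (LK LD1_c10 LD2_c45 LD3_c31)) = (LP (LK LD1_c19 LD2_c7 LD3_c51)) :=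
  Lgr Lrot82 (Lpe (f194901 IH) (Lpr_ct (f194814 IH) (Lpe (f8896 IH) (Lpe (f8948 IH) (Lpr_bt (f8952 IH) (Lpe (f195368 IH) (Lpe (f196023 IH) (Lpr_ct (f198907 IH) (Lpr_gf (f196070 IH) (Lpr_cf (K31.f198895 IH) (Lpn (LP (LK LD1_c19 LD2_c7 LD3_c51)))))))))))))
theorem f930738 : Led Lsl_ft (LP (LK LD1_c10 LD2_c45 LD3_c31)) = (LP (LK LD1_c19 LD2_c7 LD3_c49)) :=
  Lgr Lrot2 (Lpr_gt (f198915 IH) (Lpe (f259449 IH) (Lpr_af (f930725 IH) (Lpn (LP (LK LD1_c19 LD2_c7 LD3_c49))))))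
theorem f930740 : Led Lsl_ff (LP (LK LD1_c10 LD2_c45 LD3_c31)) = (LP (LK LD1_c19 LD2_c7 LD3_c49)) :=
  Lgr Lrot3 (Lpr_ft (f930738 IH) (Lpn (LP (LK LD1_c19 LD2_c7 LD3_c49))))
theorem f337843 : Led Lsl_et (LP (LK LD1_c16 LD2_c38 LD3_c32)) = (LP (LK LD1_c26 LD2_c36 LD3_c47)) :=
  Lre_e IH (LK LD1_c16 LD2_c38 LD3_c32) (LK LD1_c26 LD2_c36 LD3_c47) Lrfl Lrfl
theorem f337848 : Led Lsl_ft (LP (LK LD1_c10 LD2_c33 LD3_c47)) = (LP (LK LD1_c16 LD2_c38 LD3_c32)) :=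
  Lgr Lrot86 (Lpr_ef (K12.f217910 IH) (Lpr_ff (K12.f224465 IH) (Lpe (K22.f224452 IH) (Lpr_ff (K22.f337841 IH) (Lpe (f337843 IH) (Lpn (LP (LK LD1_c16 LD2_c38 LD3_c32))))))))
theorem f337884 : Led Lsl_at (LP (LK LD1_c16 LD2_c38 LD3_c32)) = (LP (LK LD1_c26 LD2_c36 LD3_c46)) :=
  Lre_a IH (LK LD1_c16 LD2_c38 LD3_c32) (LK LD1_c26 LD2_c36 LD3_c46) Lrfl Lrfl
theorem f395904 : Led Lsl_gt (LP (LK LD1_c19 LD2_c7 LD3_c49)) = (LP (LK LD1_c26 LD2_c36 LD3_c46)) :=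
  Lgr Lrot46 (Lpe (f198893 IH) (Lpr_ft (f337848 IH) (Lpr_at (f337884 IH) (Lpn (LP (LK LD1_c26 LD2_c36 LD3_c46))))))
theorem f224464 : Led Lsl_et (LP (LK LD1_c10 LD2_c31 LD3_c29)) = (LP (LK LD1_c19 LD2_c4 LD3_c25)) :=
  Lre_e IH (LK LD1_c10 LD2_c31 LD3_c29) (LK LD1_c19 LD2_c4 LD3_c25) Lrfl Lrfl
theorem f337857 : Led Lsl_et (LP (LK LD1_c26 LD2_c36 LD3_c47)) = (LP (LK LD1_c16 LD2_c38 LD3_c32)) :=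
  Lre_e IH (LK LD1_c26 LD2_c36 LD3_c47) (LK LD1_c16 LD2_c38 LD3_c32) Lrfl Lrfl
theorem f337858 : Led Lsl_ff (LP (LK LD1_c10 LD2_c33 LD3_c47)) = (LP (LK LD1_c16 LD2_c38 LD3_c32)) :=
  Lgr Lrot72 (Lpe (K12.f217639 IH) (Lpr_ft (K12.f224455 IH) (Lpr_et (f224464 IH) (Lpr_ft (K22.f337850 IH) (Lpr_et (f337857 IH) (Lpn (LP (LK LD1_c16 LD2_c38 LD3_c32))))))))
theorem f337867 : Led Lsl_dt (LP (LK LD1_c24 LD2_c48 LD3_c29)) = (LP (LK LD1_c16 LD2_c38 LD3_c32)) :=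
  Lgr Lrot60 (Lpr_ff (K44.f215627 IH) (Lpe (K12.f215676 IH) (Lpr_ff (f337858 IH) (Lpn (LP (LK LD1_c16 LD2_c38 LD3_c32))))))
theorem f337887 : Led Lsl_df (LP (LK LD1_c24 LD2_c48 LD3_c29)) = (LP (LK LD1_c16 LD2_c38 LD3_c32)) :=
  Lgr Lrot38 (Lpr_dt (f337867 IH) (Lpn (LP (LK LD1_c16 LD2_c38 LD3_c32))))
theorem f215630 : Led Lsl_at (LP (LK LD1_c24 LD2_c48 LD3_c29)) = (LP (LK LD1_c31 LD2_c39 LD3_c34)) :=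
  Lre_a IH (LK LD1_c24 LD2_c48 LD3_c29) (LK LD1_c31 LD2_c39 LD3_c34) Lrfl Lrfl
theorem f337860 : Led Lsl_at (LP (LK LD1_c26 LD2_c36 LD3_c46)) = (LP (LK LD1_c16 LD2_c38 LD3_c32)) :=
  Lre_a IH (LK LD1_c26 LD2_c36 LD3_c46) (LK LD1_c16 LD2_c38 LD3_c32) Lrfl Lrfl
theorem f337889 : Led Lsl_dt (LP (LK LD1_c31 LD2_c39 LD3_c34)) = (LP (LK LD1_c26 LD2_c36 LD3_c46)) :=
  Lgr Lrot44 (Lpe (f215630 IH) (Lpr_df (f337887 IH) (Lpe (f337860 IH) (Lpn (LP (LK LD1_c26 LD2_c36 LD3_c46))))))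
theorem f215640 : Led Lsl_at (LP (LK LD1_c31 LD2_c39 LD3_c34)) = (LP (LK LD1_c24 LD2_c48 LD3_c29)) :=
  Lre_a IH (LK LD1_c31 LD2_c39 LD3_c34) (LK LD1_c24 LD2_c48 LD3_c29) Lrfl Lrfl
theorem f215641 : Led Lsl_at (LP (LK LD1_c19 LD2_c7 LD3_c19)) = (LP (LK LD1_c28 LD2_c32 LD3_c50)) :=
  Lre_a IH (LK LD1_c19 LD2_c7 LD3_c19) (LK LD1_c28 LD2_c32 LD3_c50) Lrfl Lrfl
theorem f215642 : Led Lsl_ff (LP (LK LD1_c31 LD2_c39 LD3_c34)) = (LP (LK LD1_c28 LD2_c32 LD3_c50)) :=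
  Lgr Lrot30 (Lpr_at (f215640 IH) (Lpr_ft (K44.f215638 IH) (Lpr_at (f215641 IH) (Lpn (LP (LK LD1_c28 LD2_c32 LD3_c50))))))
theorem f215631 : Led Lsl_at (LP (LK LD1_c28 LD2_c32 LD3_c50)) = (LP (LK LD1_c19 LD2_c7 LD3_c19)) :=
  Lre_a IH (LK LD1_c28 LD2_c32 LD3_c50) (LK LD1_c19 LD2_c7 LD3_c19) Lrfl Lrfl
theorem f215781 : Led Lsl_dt (LP (LK LD1_c19 LD2_c7 LD3_c51)) = (LP (LK LD1_c28 LD2_c32 LD3_c50)) :=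
  Lgr Lrot44 (Lpe (K12.f198894 IH) (Lpr_df (K12.f215779 IH) (Lpe (f215631 IH) (Lpn (LP (LK LD1_c28 LD2_c32 LD3_c50))))))
theorem f337893 : Led Lsl_ff (LP (LK LD1_c19 LD2_c7 LD3_c51)) = (LP (LK LD1_c26 LD2_c36 LD3_c46)) :=
  Lgr Lrot19 (Lpr_dt (f215781 IH) (Lpe (f215642 IH) (Lpr_dt (f337889 IH) (Lpn (LP (LK LD1_c26 LD2_c36 LD3_c46))))))
theorem f198891 : Led Lsl_gt (LP (LK LD1_c19 LD2_c7 LD3_c50)) = (LP (LK LD1_c10 LD2_c33 LD3_c47)) :=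
  Lre_g IH (LK LD1_c19 LD2_c7 LD3_c50) (LK LD1_c10 LD2_c33 LD3_c47) Lrfl Lrfl
theorem f337899 : Led Lsl_gf (LP (LK LD1_c19 LD2_c7 LD3_c50)) = (LP (LK LD1_c26 LD2_c36 LD3_c46)) :=
  Lgr Lrot47 (Lpr_gt (f198891 IH) (Lpe (K12.f198899 IH) (Lpr_ff (f337893 IH) (Lpn (LP (LK LD1_c26 LD2_c36 LD3_c46))))))
theorem f930743 : Led Lsl_at (LP (LK LD1_c10 LD2_c45 LD3_c31)) = (LP (LK LD1_c19 LD2_c7 LD3_c50)) :=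
  Lgr Lrot26 (Lpr_ff (f930740 IH) (Lpr_gt (f395904 IH) (Lpe (f337899 IH) (Lpn (LP (LK LD1_c19 LD2_c7 LD3_c50))))))
theorem f930733 : Led Lsl_at (LP (LK LD1_c25 LD2_c53 LD3_c0)) = (LP (LK LD1_c19 LD2_c7 LD3_c49)) :=
  Lgr Lrot100 (Lpr_af (f930725 IH) (Lpn (LP (LK LD1_c19 LD2_c7 LD3_c49))))
theorem f930750 : Led Lsl_ff (LP (LK LD1_c25 LD2_c53 LD3_c0)) = (LP (LK LD1_c19 LD2_c7 LD3_c50)) :=
  Lgr Lrot30 (Lpr_at (f930733 IH) (Lpe (f930740 IH) (Lpr_at (f930743 IH) (Lpn (LP (LK LD1_c19 LD2_c7 LD3_c50))))))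
theorem f930754 : Led Lsl_ft (LP (LK LD1_c25 LD2_c53 LD3_c0)) = (LP (LK LD1_c19 LD2_c7 LD3_c50)) :=
  Lgr Lrot48 (Lpr_ff (f930750 IH) (Lpn (LP (LK LD1_c19 LD2_c7 LD3_c50))))
theorem f183581 : Led Lsl_bt (LP (LK LD1_c15 LD2_c56 LD3_c32)) = (LP (LK LD1_c25 LD2_c53 LD3_c2)) :=
  Lre_b IH (LK LD1_c15 LD2_c56 LD3_c32) (LK LD1_c25 LD2_c53 LD3_c2) Lrfl Lrfl
theorem f45667 : Led Lsl_ct (LP (LK LD1_c8 LD2_c29 LD3_c25)) = (LP (LK LD1_c15 LD2_c56 LD3_c32)) :=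
  Lre_c IH (LK LD1_c8 LD2_c29 LD3_c25) (LK LD1_c15 LD2_c56 LD3_c32) Lrfl Lrfl
theorem f45668 : Led Lsl_ct (LP (LK LD1_c25 LD2_c53 LD3_c0)) = (LP (LK LD1_c15 LD2_c56 LD3_c31)) :=
  Lre_c IH (LK LD1_c25 LD2_c53 LD3_c0) (LK LD1_c15 LD2_c56 LD3_c31) Lrfl Lrfl
theorem f930690 : Led Lsl_bf (LP (LK LD1_c25 LD2_c53 LD3_c0)) = (LP (LK LD1_c19 LD2_c27 LD3_c7)) :=
  Lgr Lrot90 (Lpr_ct (f45668 IH) (Lpr_bt (f45637 IH) (Lpr_ct (f45667 IH) (Lpr_bt (f183581 IH) (Lpr_ct (f930686 IH) (Lpn (LP (LK LD1_c19 LD2_c27 LD3_c7))))))))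
theorem f930747 : Led Lsl_bt (LP (LK LD1_c19 LD2_c7 LD3_c50)) = (LP (LK LD1_c28 LD2_c33 LD3_c24)) :=
  Lre_b IH (LK LD1_c19 LD2_c7 LD3_c50) (LK LD1_c28 LD2_c33 LD3_c24) Lrfl Lrfl
theorem f930756 : Led Lsl_ff (LP (LK LD1_c19 LD2_c27 LD3_c7)) = (LP (LK LD1_c28 LD2_c33 LD3_c24)) :=
  Lgr Lrot25 (Lpe (f930690 IH) (Lpr_ft (f930754 IH) (Lpr_bt (f930747 IH) (Lpn (LP (LK LD1_c28 LD2_c33 LD3_c24))))))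
theorem f216095 : Led Lsl_ft (LP (LK LD1_c10 LD2_c45 LD3_c21)) = (LP (LK LD1_c19 LD2_c27 LD3_c10)) :=
  Lre_f IH (LK LD1_c10 LD2_c45 LD3_c21) (LK LD1_c19 LD2_c27 LD3_c10) Lrfl Lrfl
theorem f930758 : Led Lsl_at (LP (LK LD1_c19 LD2_c27 LD3_c10)) = (LP (LK LD1_c28 LD2_c33 LD3_c24)) :=
  Lgr Lrot66 (Lpe (f216095 IH) (Lpe (f619064 IH) (Lpr_ff (f930756 IH) (Lpn (LP (LK LD1_c28 LD2_c33 LD3_c24))))))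
theorem f930655 : Led Lsl_ct (LP (LK LD1_c15 LD2_c29 LD3_c13)) = (LP (LK LD1_c19 LD2_c27 LD3_c10)) :=
  Lgr Lrot59 (Lpr_cf (f930652 IH) (Lpn (LP (LK LD1_c19 LD2_c27 LD3_c10))))
theorem f930659 : Led Lsl_at (LP (LK LD1_c25 LD2_c21 LD3_c59)) = (LP (LK LD1_c15 LD2_c29 LD3_c13)) :=
  Lre_a IH (LK LD1_c25 LD2_c21 LD3_c59) (LK LD1_c15 LD2_c29 LD3_c13) Lrfl Lrfl
theorem f930764 : Led Lsl_cf (LP (LK LD1_c25 LD2_c21 LD3_c59)) = (LP (LK LD1_c28 LD2_c33 LD3_c24)) :=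
  Lgr Lrot1 (Lpr_at (f930659 IH) (Lpr_ct (f930655 IH) (Lpr_at (f930758 IH) (Lpn (LP (LK LD1_c28 LD2_c33 LD3_c24))))))
theorem f198892 : Led Lsl_bt (LP (LK LD1_c28 LD2_c33 LD3_c24)) = (LP (LK LD1_c19 LD2_c7 LD3_c50)) :=
  Lre_b IH (LK LD1_c28 LD2_c33 LD3_c24) (LK LD1_c19 LD2_c7 LD3_c50) Lrfl Lrfl
theorem f182602 : Led Lsl_bt (LP (LK LD1_c5 LD2_c20 LD3_c19)) = (LP (LK LD1_c10 LD2_c30 LD3_c37)) :=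
  Lre_b IH (LK LD1_c5 LD2_c20 LD3_c19) (LK LD1_c10 LD2_c30 LD3_c37) Lrfl Lrfl
theorem f182615 : Led Lsl_gt (LP (LK LD1_c10 LD2_c30 LD3_c37)) = (LP (LK LD1_c19 LD2_c2 LD3_c47)) :=
  Lre_g IH (LK LD1_c10 LD2_c30 LD3_c37) (LK LD1_c19 LD2_c2 LD3_c47) Lrfl Lrfl
theorem f182709 : Led Lsl_ct (LP (LK LD1_c19 LD2_c2 LD3_c47)) = (LP (LK LD1_c28 LD2_c29 LD3_c0)) :=
  Lre_c IH (LK LD1_c19 LD2_c2 LD3_c47) (LK LD1_c28 LD2_c29 LD3_c0) Lrfl Lrfl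
theorem f930774 : Led Lsl_gf (LP (LK LD1_c25 LD2_c21 LD3_c59)) = (LP (LK LD1_c28 LD2_c29 LD3_c0)) :=
  Lgr Lrot129 (Lpr_cf (f930764 IH) (Lpr_bt (f198892 IH) (Lpr_gt (f198891 IH) (Lpe (K12.f198890 IH) (Lpe (K11.f198874 IH) (Lpe (K11.f183714 IH) (Lpe (K16.f182608 IH) (Lpr_bt (f182602 IH) (Lpr_gt (f182615 IH) (Lpr_ct (f182709 IH) (Lpn (LP (LK LD1_c28 LD2_c29 LD3_c0)))))))))))))
theorem f930654 : Led Lsl_at (LP (LK LD1_c15 LD2_c29 LD3_c13)) = (LP (LK LD1_c25 LD2_c21 LD3_c59)) :=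
  Lre_a IH (LK LD1_c15 LD2_c29 LD3_c13) (LK LD1_c25 LD2_c21 LD3_c59) Lrfl Lrfl
theorem f191317 : Led Lsl_bt (LP (LK LD1_c19 LD2_c25 LD3_c57)) = (LP (LK LD1_c10 LD2_c44 LD3_c32)) :=
  Lre_b IH (LK LD1_c19 LD2_c25 LD3_c57) (LK LD1_c10 LD2_c44 LD3_c32) Lrfl Lrfl
theorem f231594 : Led Lsl_bt (LP (LK LD1_c4 LD2_c14 LD3_c57)) = (LP (LK LD1_c8 LD2_c28 LD3_c46)) :=
  Lre_b IH (LK LD1_c4 LD2_c14 LD3_c57) (LK LD1_c8 LD2_c28 LD3_c46) Lrfl Lrfl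
theorem f50895 : Led Lsl_bt (LP (LK LD1_c8 LD2_c29 LD3_c14)) = (LP (LK LD1_c4 LD2_c15 LD3_c11)) :=
  Lre_b IH (LK LD1_c8 LD2_c29 LD3_c14) (LK LD1_c4 LD2_c15 LD3_c11) Lrfl Lrfl
theorem f294892 : Led Lsl_ft (LP (LK LD1_c8 LD2_c28 LD3_c46)) = (LP (LK LD1_c8 LD2_c29 LD3_c14)) :=
  Lgr Lrot75 (Lpe (f231594 IH) (Lpr_ff (K18.f294888 IH) (Lpe (f50895 IH) (Lpn (LP (LK LD1_c8 LD2_c29 LD3_c14))))))
theorem f231603 : Led Lsl_bt (LP (LK LD1_c15 LD2_c55 LD3_c18)) = (LP (LK LD1_c8 LD2_c28 LD3_c48)) :=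
  Lre_b IH (LK LD1_c15 LD2_c55 LD3_c18) (LK LD1_c8 LD2_c28 LD3_c48) Lrfl Lrfl
theorem f231605 : Led Lsl_bt (LP (LK LD1_c8 LD2_c15 LD3_c19)) = (LP (LK LD1_c15 LD2_c31 LD3_c23)) :=
  Lre_b IH (LK LD1_c8 LD2_c15 LD3_c19) (LK LD1_c15 LD2_c31 LD3_c23) Lrfl Lrfl
theorem f231606 : Led Lsl_cf (LP (LK LD1_c15 LD2_c55 LD3_c18)) = (LP (LK LD1_c15 LD2_c31 LD3_c23)) :=
  Lgr Lrot97 (Lpr_bt (f231603 IH) (Lpr_ct (K18.f231602 IH) (Lpr_bt (K18.f231598 IH) (Lpr_ct (K23.f231604 IH) (Lpr_bt (f231605 IH) (Lpn (LP (LK LD1_c15 LD2_c31 LD3_c23))))))))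
theorem f231626 : Led Lsl_ct (LP (LK LD1_c15 LD2_c55 LD3_c18)) = (LP (LK LD1_c15 LD2_c31 LD3_c23)) :=
  Lgr Lrot59 (Lpr_cf (f231606 IH) (Lpn (LP (LK LD1_c15 LD2_c31 LD3_c23))))
theorem f231639 : Led Lsl_et (LP (LK LD1_c8 LD2_c28 LD3_c46)) = (LP (LK LD1_c15 LD2_c55 LD3_c18)) :=
  Lre_e IH (LK LD1_c8 LD2_c28 LD3_c46) (LK LD1_c15 LD2_c55 LD3_c18) Lrfl Lrfl
theorem f231640 : Led Lsl_et (LP (LK LD1_c15 LD2_c31 LD3_c23)) = (LP (LK LD1_c8 LD2_c15 LD3_c17)) :=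
  Lre_e IH (LK LD1_c15 LD2_c31 LD3_c23) (LK LD1_c8 LD2_c15 LD3_c17) Lrfl Lrfl
theorem f231641 : Led Lsl_cf (LP (LK LD1_c8 LD2_c28 LD3_c46)) = (LP (LK LD1_c8 LD2_c15 LD3_c17)) :=
  Lgr Lrot39 (Lpr_et (f231639 IH) (Lpr_ct (f231626 IH) (Lpr_et (f231640 IH) (Lpn (LP (LK LD1_c8 LD2_c15 LD3_c17))))))
theorem f50782 : Led Lsl_bt (LP (LK LD1_c4 LD2_c8 LD3_c0)) = (LP (LK LD1_c8 LD2_c15 LD3_c61)) :=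
  Lre_b IH (LK LD1_c4 LD2_c8 LD3_c0) (LK LD1_c8 LD2_c15 LD3_c61) Lrfl Lrfl
theorem f190050 : Led Lsl_cf (LP (LK LD1_c8 LD2_c29 LD3_c14)) = (LP (LK LD1_c8 LD2_c15 LD3_c61)) :=
  Lgr Lrot97 (Lpr_bt (f50895 IH) (Lpr_ct (K18.f45365 IH) (Lpr_bt (K10.f189984 IH) (Lpr_ct (K10.f50774 IH) (Lpr_bt (f50782 IH) (Lpn (LP (LK LD1_c8 LD2_c15 LD3_c61))))))))
theorem f190080 : Led Lsl_ct (LP (LK LD1_c8 LD2_c29 LD3_c14)) = (LP (LK LD1_c8 LD2_c15 LD3_c61)) :=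
  Lgr Lrot59 (Lpr_cf (f190050 IH) (Lpn (LP (LK LD1_c8 LD2_c15 LD3_c61))))
theorem f294895 : Led Lsl_ff (LP (LK LD1_c8 LD2_c15 LD3_c17)) = (LP (LK LD1_c8 LD2_c15 LD3_c61)) :=
  Lgr Lrot23 (Lpe (f231641 IH) (Lpr_ft (f294892 IH) (Lpr_ct (f190080 IH) (Lpn (LP (LK LD1_c8 LD2_c15 LD3_c61))))))
theorem f231668 : Led Lsl_dt (LP (LK LD1_c8 LD2_c15 LD3_c17)) = (LP (LK LD1_c15 LD2_c31 LD3_c22)) :=
  Lre_d IH (LK LD1_c8 LD2_c15 LD3_c17) (LK LD1_c15 LD2_c31 LD3_c22) Lrfl Lrfl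
theorem f190082 : Led Lsl_dt (LP (LK LD1_c15 LD2_c32 LD3_c30)) = (LP (LK LD1_c8 LD2_c15 LD3_c61)) :=
  Lre_d IH (LK LD1_c15 LD2_c32 LD3_c30) (LK LD1_c8 LD2_c15 LD3_c61) Lrfl Lrfl
theorem f294899 : Led Lsl_ft (LP (LK LD1_c15 LD2_c31 LD3_c22)) = (LP (LK LD1_c15 LD2_c32 LD3_c30)) :=
  Lgr Lrot54 (Lpe (f231668 IH) (Lpr_ff (f294895 IH) (Lpe (f190082 IH) (Lpn (LP (LK LD1_c15 LD2_c32 LD3_c30))))))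
theorem f294908 : Led Lsl_ff (LP (LK LD1_c15 LD2_c31 LD3_c22)) = (LP (LK LD1_c15 LD2_c32 LD3_c30)) :=
  Lgr Lrot3 (Lpr_ft (f294899 IH) (Lpn (LP (LK LD1_c15 LD2_c32 LD3_c30))))
theorem f294914 : Led Lsl_at (LP (LK LD1_c15 LD2_c31 LD3_c22)) = (LP (LK LD1_c25 LD2_c24 LD3_c25)) :=
  Lre_a IH (LK LD1_c15 LD2_c31 LD3_c22) (LK LD1_c25 LD2_c24 LD3_c25) Lrfl Lrfl
theorem f294915 : Led Lsl_at (LP (LK LD1_c25 LD2_c25 LD3_c51)) = (LP (LK LD1_c15 LD2_c32 LD3_c30)) :=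
  Lre_a IH (LK LD1_c25 LD2_c25 LD3_c51) (LK LD1_c15 LD2_c32 LD3_c30) Lrfl Lrfl
theorem f294916 : Led Lsl_ft (LP (LK LD1_c25 LD2_c24 LD3_c25)) = (LP (LK LD1_c25 LD2_c25 LD3_c51)) :=
  Lgr Lrot101 (Lpe (f294914 IH) (Lpr_ff (f294908 IH) (Lpe (f294915 IH) (Lpn (LP (LK LD1_c25 LD2_c25 LD3_c51))))))
theorem f285493 : Led Lsl_at (LP (LK LD1_c19 LD2_c25 LD3_c60)) = (LP (LK LD1_c10 LD2_c44 LD3_c35)) :=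
  Lre_a IH (LK LD1_c19 LD2_c25 LD3_c60) (LK LD1_c10 LD2_c44 LD3_c35) Lrfl Lrfl
theorem f285494 : Led Lsl_bt (LP (LK LD1_c8 LD2_c16 LD3_c0)) = (LP (LK LD1_c15 LD2_c32 LD3_c30)) :=
  Lre_b IH (LK LD1_c8 LD2_c16 LD3_c0) (LK LD1_c15 LD2_c32 LD3_c30) Lrfl Lrfl
theorem f285495 : Led Lsl_at (LP (LK LD1_c15 LD2_c32 LD3_c30)) = (LP (LK LD1_c25 LD2_c25 LD3_c51)) :=
  Lre_a IH (LK LD1_c15 LD2_c32 LD3_c30) (LK LD1_c25 LD2_c25 LD3_c51) Lrfl Lrfl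
theorem f285496 : Led Lsl_bf (LP (LK LD1_c19 LD2_c25 LD3_c60)) = (LP (LK LD1_c25 LD2_c25 LD3_c51)) :=
  Lgr Lrot81 (Lpr_at (f285493 IH) (Lpr_bt (K56.f251212 IH) (Lpr_at (K17.f285489 IH) (Lpr_bt (f285494 IH) (Lpr_at (f285495 IH) (Lpn (LP (LK LD1_c25 LD2_c25 LD3_c51))))))))
theorem f294919 : Led Lsl_bf (LP (LK LD1_c25 LD2_c24 LD3_c25)) = (LP (LK LD1_c21 LD2_c0 LD3_c15)) :=
  Lgr Lrot61 (Lpr_ft (f294916 IH) (Lpe (f285496 IH) (Lpr_ft (K56.f294426 IH) (Lpn (LP (LK LD1_c21 LD2_c0 LD3_c15))))))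
theorem f231674 : Led Lsl_dt (LP (LK LD1_c25 LD2_c24 LD3_c25)) = (LP (LK LD1_c15 LD2_c31 LD3_c21)) :=
  Lre_d IH (LK LD1_c25 LD2_c24 LD3_c25) (LK LD1_c15 LD2_c31 LD3_c21) Lrfl Lrfl
theorem f294928 : Led Lsl_bt (LP (LK LD1_c15 LD2_c31 LD3_c21)) = (LP (LK LD1_c11 LD2_c55 LD3_c22)) :=
  Lgr Lrot95 (Lpe (f231674 IH) (Lpr_bf (f294919 IH) (Lpe (K56.f294440 IH) (Lpn (LP (LK LD1_c11 LD2_c55 LD3_c22))))))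
theorem f231645 : Led Lsl_at (LP (LK LD1_c8 LD2_c28 LD3_c46)) = (LP (LK LD1_c15 LD2_c55 LD3_c16)) :=
  Lre_a IH (LK LD1_c8 LD2_c28 LD3_c46) (LK LD1_c15 LD2_c55 LD3_c16) Lrfl Lrfl
theorem f231646 : Led Lsl_at (LP (LK LD1_c15 LD2_c31 LD3_c21)) = (LP (LK LD1_c8 LD2_c15 LD3_c17)) :=
  Lre_a IH (LK LD1_c15 LD2_c31 LD3_c21) (LK LD1_c8 LD2_c15 LD3_c17) Lrfl Lrfl
theorem f231647 : Led Lsl_ct (LP (LK LD1_c15 LD2_c55 LD3_c16)) = (LP (LK LD1_c15 LD2_c31 LD3_c21)) :=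
  Lgr Lrot111 (Lpe (f231645 IH) (Lpr_cf (f231641 IH) (Lpe (f231646 IH) (Lpn (LP (LK LD1_c15 LD2_c31 LD3_c21))))))
theorem f231669 : Led Lsl_cf (LP (LK LD1_c15 LD2_c55 LD3_c16)) = (LP (LK LD1_c15 LD2_c31 LD3_c21)) :=
  Lgr Lrot11 (Lpr_ct (f231647 IH) (Lpn (LP (LK LD1_c15 LD2_c31 LD3_c21))))
theorem f53593 : Led Lsl_bt (LP (LK LD1_c8 LD2_c16 LD3_c8)) = (LP (LK LD1_c4 LD2_c8 LD3_c3)) :=
  Lre_b IH (LK LD1_c8 LD2_c16 LD3_c8) (LK LD1_c4 LD2_c8 LD3_c3) Lrfl Lrfl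
theorem f325192 : Led Lsl_ft (LP (LK LD1_c8 LD2_c15 LD3_c22)) = (LP (LK LD1_c8 LD2_c16 LD3_c8)) :=
  Lgr Lrot75 (Lpe (K68.f191352 IH) (Lpr_ff (K21.f325190 IH) (Lpe (f53593 IH) (Lpn (LP (LK LD1_c8 LD2_c16 LD3_c8))))))
theorem f191363 : Led Lsl_gt (LP (LK LD1_c8 LD2_c15 LD3_c22)) = (LP (LK LD1_c15 LD2_c31 LD3_c29)) :=
  Lre_g IH (LK LD1_c8 LD2_c15 LD3_c22) (LK LD1_c15 LD2_c31 LD3_c29) Lrfl Lrfl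
theorem f401822 : Led Lsl_gt (LP (LK LD1_c15 LD2_c31 LD3_c29)) = (LP (LK LD1_c15 LD2_c32 LD3_c48)) :=
  Lgr Lrot46 (Lpe (f191363 IH) (Lpr_ft (f325192 IH) (Lpr_at (K39.f188167 IH) (Lpn (LP (LK LD1_c15 LD2_c32 LD3_c48))))))
theorem f191466 : Led Lsl_bt (LP (LK LD1_c25 LD2_c24 LD3_c33)) = (LP (LK LD1_c15 LD2_c31 LD3_c29)) :=
  Lre_b IH (LK LD1_c25 LD2_c24 LD3_c33) (LK LD1_c15 LD2_c31 LD3_c29) Lrfl Lrfl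
theorem f50792 : Led Lsl_bt (LP (LK LD1_c8 LD2_c15 LD3_c61)) = (LP (LK LD1_c4 LD2_c8 LD3_c0)) :=
  Lre_b IH (LK LD1_c8 LD2_c15 LD3_c61) (LK LD1_c4 LD2_c8 LD3_c0) Lrfl Lrfl
theorem f190084 : Led Lsl_gt (LP (LK LD1_c15 LD2_c56 LD3_c17)) = (LP (LK LD1_c8 LD2_c29 LD3_c14)) :=
  Lre_g IH (LK LD1_c15 LD2_c56 LD3_c17) (LK LD1_c8 LD2_c29 LD3_c14) Lrfl Lrfl
theorem f191467 : Led Lsl_ct (LP (LK LD1_c25 LD2_c24 LD3_c33)) = (LP (LK LD1_c15 LD2_c56 LD3_c17)) :=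
  Lgr Lrot64 (Lpr_bt (f191466 IH) (Lpe (f191363 IH) (Lpe (K68.f191352 IH) (Lpr_ct (K10.f191355 IH) (Lpe (K11.f33048 IH) (Lpe (K10.f32995 IH) (Lpr_gf (K10.f50775 IH) (Lpe (f50792 IH) (Lpe (f190050 IH) (Lpe (f190084 IH) (Lpn (LP (LK LD1_c15 LD2_c56 LD3_c17)))))))))))))
theorem f194923 : Led Lsl_at (LP (LK LD1_c5 LD2_c21 LD3_c60)) = (LP (LK LD1_c10 LD2_c34 LD3_c17)) :=
  Lre_a IH (LK LD1_c5 LD2_c21 LD3_c60) (LK LD1_c10 LD2_c34 LD3_c17) Lrfl Lrfl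
theorem f46435 : Led Lsl_bt (LP (LK LD1_c10 LD2_c30 LD3_c37)) = (LP (LK LD1_c5 LD2_c20 LD3_c19)) :=
  Lre_b IH (LK LD1_c10 LD2_c30 LD3_c37) (LK LD1_c5 LD2_c20 LD3_c19) Lrfl Lrfl
theorem f182702 : Led Lsl_at (LP (LK LD1_c19 LD2_c2 LD3_c49)) = (LP (LK LD1_c10 LD2_c30 LD3_c37)) :=
  Lre_a IH (LK LD1_c19 LD2_c2 LD3_c49) (LK LD1_c10 LD2_c30 LD3_c37) Lrfl Lrfl
theorem f328902 : Led Lsl_bt (LP (LK LD1_c10 LD2_c34 LD3_c17)) = (LP (LK LD1_c19 LD2_c2 LD3_c49)) :=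
  Lgr Lrot62 (Lpe (f194923 IH) (Lpe (K14.f194776 IH) (Lpr_af (K21.f328900 IH) (Lpe (f46435 IH) (Lpe (f182702 IH) (Lpn (LP (LK LD1_c19 LD2_c2 LD3_c49))))))))
theorem f342901 : Led Lsl_bf (LP (LK LD1_c15 LD2_c32 LD3_c40)) = (LP (LK LD1_c15 LD2_c31 LD3_c31)) :=
  Lgr Lrot90 (Lpr_ct (f194788 IH) (Lpr_bt (f328902 IH) (Lpr_ct (K25.f182695 IH) (Lpr_bt (K39.f342868 IH) (Lpe (K39.f191444 IH) (Lpn (LP (LK LD1_c15 LD2_c31 LD3_c31))))))))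
theorem f353045 : Led Lsl_bf (LP (LK LD1_c15 LD2_c32 LD3_c48)) = (LP (LK LD1_c15 LD2_c31 LD3_c35)) :=
  Lgr Lrot61 (Lpr_ft (K68.f342882 IH) (Lpe (f342901 IH) (Lpr_ft (K25.f353039 IH) (Lpn (LP (LK LD1_c15 LD2_c31 LD3_c35))))))
theorem f194805 : Led Lsl_ct (LP (LK LD1_c19 LD2_c8 LD3_c52)) = (LP (LK LD1_c10 LD2_c34 LD3_c16)) :=
  Lre_c IH (LK LD1_c19 LD2_c8 LD3_c52) (LK LD1_c10 LD2_c34 LD3_c16) Lrfl Lrfl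
theorem f194790 : Led Lsl_ct (LP (LK LD1_c8 LD2_c16 LD3_c5)) = (LP (LK LD1_c5 LD2_c21 LD3_c60)) :=
  Lgr Lrot59 (Lpr_cf (K14.f194777 IH) (Lpn (LP (LK LD1_c5 LD2_c21 LD3_c60))))
theorem f50783 : Led Lsl_gt (LP (LK LD1_c8 LD2_c15 LD3_c61)) = (LP (LK LD1_c15 LD2_c32 LD3_c27)) :=
  Lre_g IH (LK LD1_c8 LD2_c15 LD3_c61) (LK LD1_c15 LD2_c32 LD3_c27) Lrfl Lrfl
theorem f194935 : Led Lsl_bf (LP (LK LD1_c15 LD2_c32 LD3_c27)) = (LP (LK LD1_c19 LD2_c8 LD3_c52)) :=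
  Lgr Lrot34 (Lpe (f50783 IH) (Lpe (f50782 IH) (Lpr_ct (K10.f50781 IH) (Lpe (K10.f50772 IH) (Lpe (K10.f49621 IH) (Lpr_gf (K10.f53578 IH) (Lpe (K14.f53581 IH) (Lpr_ct (f194790 IH) (Lpe (f194804 IH) (Lpe (f194805 IH) (Lpn (LP (LK LD1_c19 LD2_c8 LD3_c52)))))))))))))
theorem f231673 : Led Lsl_at (LP (LK LD1_c8 LD2_c15 LD3_c17)) = (LP (LK LD1_c15 LD2_c31 LD3_c21)) :=
  Lre_a IH (LK LD1_c8 LD2_c15 LD3_c17) (LK LD1_c15 LD2_c31 LD3_c21) Lrfl Lrfl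
theorem f294901 : Led Lsl_gf (LP (LK LD1_c15 LD2_c31 LD3_c21)) = (LP (LK LD1_c15 LD2_c32 LD3_c27)) :=
  Lgr Lrot76 (Lpe (f231673 IH) (Lpr_ff (f294895 IH) (Lpr_gt (f50783 IH) (Lpn (LP (LK LD1_c15 LD2_c32 LD3_c27))))))
theorem f401825 : Led Lsl_gf (LP (LK LD1_c15 LD2_c56 LD3_c17)) = (LP (LK LD1_c15 LD2_c55 LD3_c16)) :=
  Lgr Lrot129 (Lpe (f191467 IH) (Lpr_bt (f191466 IH) (Lpr_gt (f401822 IH) (Lpr_bf (f353045 IH) (Lpe (K25.f353047 IH) (Lpe (f396068 IH) (Lpe (f194805 IH) (Lpe (f194935 IH) (Lpe (f294901 IH) (Lpe (f231669 IH) (Lpn (LP (LK LD1_c15 LD2_c55 LD3_c16)))))))))))))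
theorem f191442 : Led Lsl_gt (LP (LK LD1_c25 LD2_c19 LD3_c13)) = (LP (LK LD1_c15 LD2_c27 LD3_c30)) :=
  Lre_g IH (LK LD1_c25 LD2_c19 LD3_c13) (LK LD1_c15 LD2_c27 LD3_c30) Lrfl Lrfl
theorem f342878 : Led Lsl_gt (LP (LK LD1_c15 LD2_c28 LD3_c50)) = (LP (LK LD1_c25 LD2_c19 LD3_c13)) :=
  Lgr Lrot5 (Lpr_ft (K39.f342870 IH) (Lpr_at (K39.f191436 IH) (Lpe (f191442 IH) (Lpn (LP (LK LD1_c25 LD2_c19 LD3_c13))))))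
theorem f409103 : Led Lsl_ct (LP (LK LD1_c19 LD2_c25 LD3_c57)) = (LP (LK LD1_c25 LD2_c19 LD3_c13)) :=
  Lgr Lrot63 (Lpr_bt (f191317 IH) (Lpr_gt (K71.f409101 IH) (Lpe (f294928 IH) (Lpe (f231669 IH) (Lpe (f401825 IH) (Lpe (f191467 IH) (Lpr_bt (f191466 IH) (Lpr_gt (f401822 IH) (Lpr_ct (K39.f188169 IH) (Lpr_gt (f342878 IH) (Lpn (LP (LK LD1_c25 LD2_c19 LD3_c13)))))))))))))
theorem f409106 : Led Lsl_cf (LP (LK LD1_c19 LD2_c25 LD3_c57)) = (LP (LK LD1_c25 LD2_c19 LD3_c13)) :=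
  Lgr Lrot11 (Lpr_ct (f409103 IH) (Lpn (LP (LK LD1_c25 LD2_c19 LD3_c13))))
theorem f923765 : Led Lsl_bf (LP (LK LD1_c25 LD2_c19 LD3_c13)) = (LP (LK LD1_c15 LD2_c30 LD3_c17)) :=
  Lgr Lrot90 (Lpe (f409106 IH) (Lpr_bt (f191317 IH) (Lpr_ct (K71.f826545 IH) (Lpe (K71.f826546 IH) (Lpr_ct (K71.f923763 IH) (Lpn (LP (LK LD1_c15 LD2_c30 LD3_c17))))))))
theorem f342794 : Led Lsl_gt (LP (LK LD1_c19 LD2_c2 LD3_c47)) = (LP (LK LD1_c10 LD2_c34 LD3_c26)) :=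
  Lgr Lrot46 (Lpe (f182615 IH) (Lpr_ft (K25.f342788 IH) (Lpr_at (K25.f216005 IH) (Lpn (LP (LK LD1_c10 LD2_c34 LD3_c26))))))
theorem f182710 : Led Lsl_ct (LP (LK LD1_c28 LD2_c29 LD3_c0)) = (LP (LK LD1_c19 LD2_c2 LD3_c47)) :=
  Lre_c IH (LK LD1_c28 LD2_c29 LD3_c0) (LK LD1_c19 LD2_c2 LD3_c47) Lrfl Lrfl
theorem f421711 : Led Lsl_ct (LP (LK LD1_c10 LD2_c45 LD3_c15)) = (LP (LK LD1_c5 LD2_c27 LD3_c5)) :=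
  Lre_c IH (LK LD1_c10 LD2_c45 LD3_c15) (LK LD1_c5 LD2_c27 LD3_c5) Lrfl Lrfl
theorem f555866 : Led Lsl_bt (LP (LK LD1_c10 LD2_c45 LD3_c15)) = (LP (LK LD1_c19 LD2_c26 LD3_c58)) :=
  Lre_b IH (LK LD1_c10 LD2_c45 LD3_c15) (LK LD1_c19 LD2_c26 LD3_c58) Lrfl Lrfl
theorem f923782 : Led Lsl_gf (LP (LK LD1_c28 LD2_c29 LD3_c0)) = (LP (LK LD1_c19 LD2_c26 LD3_c58)) :=
  Lgr Lrot181 (Lpr_ct (f182710 IH) (Lpr_gt (f342794 IH) (Lpr_cf (f216048 IH) (Lpe (K39.f325136 IH) (Lpr_gt (f342878 IH) (Lpr_bf (f923765 IH) (Lpe (K71.f923737 IH) (Lpr_gt (K71.f421707 IH) (Lpe (f421711 IH) (Lpr_bt (f555866 IH) (Lpn (LP (LK LD1_c19 LD2_c26 LD3_c58)))))))))))))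
theorem f930776 : Led Lsl_ff (LP (LK LD1_c15 LD2_c29 LD3_c13)) = (LP (LK LD1_c19 LD2_c26 LD3_c58)) :=
  Lgr Lrot52 (Lpr_at (f930654 IH) (Lpr_gf (f930774 IH) (Lpr_gf (f923782 IH) (Lpn (LP (LK LD1_c19 LD2_c26 LD3_c58))))))
def v35931 : LQ := Led Lsl_at (LP (LK LD1_c8 LD2_c13 LD3_c55))
theorem f881204 : Led Lsl_at (LP (LK LD1_c8 LD2_c13 LD3_c55)) = v35931 :=
  Lrfl
theorem f881206 : Led Lsl_ft (LP (LK LD1_c15 LD2_c29 LD3_c12)) = (LP (LK LD1_c8 LD2_c13 LD3_c55)) :=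
  Lre_f IH (LK LD1_c15 LD2_c29 LD3_c12) (LK LD1_c8 LD2_c13 LD3_c55) Lrfl Lrfl
theorem f823107 : Led Lsl_at (LP (LK LD1_c8 LD2_c13 LD3_c56)) = (LP (LK LD1_c15 LD2_c29 LD3_c12)) :=
  Lre_a IH (LK LD1_c8 LD2_c13 LD3_c56) (LK LD1_c15 LD2_c29 LD3_c12) Lrfl Lrfl
theorem f881207 : Led Lsl_ff (LP (LK LD1_c8 LD2_c13 LD3_c56)) = v35931 :=
  Lgr Lrot30 (Lpr_at (f823107 IH) (Lpr_ft (f881206 IH) (Lpr_at (f881204 IH) (Lpn v35931))))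
theorem f881208 : Led Lsl_ft (LP (LK LD1_c8 LD2_c13 LD3_c56)) = v35931 :=
  Lgr Lrot48 (Lpr_ff (f881207 IH) (Lpn v35931))
theorem f930782 : v35931 = (LP (LK LD1_c10 LD2_c45 LD3_c15)) :=
  (Llr Lrot75 (Lpe (f881208 IH) (Lpe (f554653 IH) (Lpr_ff (f930776 IH) (Lpe (f555866 IH) (Lpn (LP (LK LD1_c10 LD2_c45 LD3_c15)))))))).symm
theorem f930787 : Led Lsl_ff (LP (LK LD1_c15 LD2_c29 LD3_c14)) = (LP (LK LD1_c19 LD2_c26 LD3_c59)) :=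
  Lgr Lrot19 (Lpr_dt (K68.f554726 IH) (Lpr_ft (f881208 IH) (Lpqs (f930782 IH) (Lpr_dt (K39.f421713 IH) (Lpn (LP (LK LD1_c19 LD2_c26 LD3_c59)))))))
theorem f930791 : Led Lsl_ft (LP (LK LD1_c15 LD2_c29 LD3_c14)) = (LP (LK LD1_c19 LD2_c26 LD3_c59)) :=
  Lgr Lrot48 (Lpr_ff (f930787 IH) (Lpn (LP (LK LD1_c19 LD2_c26 LD3_c59))))
theorem f891518 : Led Lsl_ft (LP (LK LD1_c28 LD2_c20 LD3_c35)) = (LP (LK LD1_c18 LD2_c52 LD3_c48)) :=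
  Lre_f IH (LK LD1_c28 LD2_c20 LD3_c35) (LK LD1_c18 LD2_c52 LD3_c48) Lrfl Lrfl
theorem f930795 : Led Lsl_cf (LP (LK LD1_c28 LD2_c20 LD3_c35)) = (LP (LK LD1_c19 LD2_c26 LD3_c59)) :=
  Lgr Lrot108 (Lpr_ft (f891518 IH) (Lpe (K68.f891508 IH) (Lpr_ft (f930791 IH) (Lpn (LP (LK LD1_c19 LD2_c26 LD3_c59))))))
theorem f930800 : Led Lsl_et (LP (LK LD1_c28 LD2_c20 LD3_c35)) = (LP (LK LD1_c32 LD2_c33 LD3_c50)) :=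
  Lre_e IH (LK LD1_c28 LD2_c20 LD3_c35) (LK LD1_c32 LD2_c33 LD3_c50) Lrfl Lrfl
theorem f555858 : Led Lsl_et (LP (LK LD1_c28 LD2_c49 LD3_c51)) = (LP (LK LD1_c19 LD2_c26 LD3_c59)) :=
  Lre_e IH (LK LD1_c28 LD2_c49 LD3_c51) (LK LD1_c19 LD2_c26 LD3_c59) Lrfl Lrfl
theorem f930801 : Led Lsl_ct (LP (LK LD1_c32 LD2_c33 LD3_c50)) = (LP (LK LD1_c28 LD2_c49 LD3_c51)) :=
  Lgr Lrot15 (Lpe (f930800 IH) (Lpr_cf (f930795 IH) (Lpe (f555858 IH) (Lpn (LP (LK LD1_c28 LD2_c49 LD3_c51))))))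
theorem f930806 : Led Lsl_cf (LP (LK LD1_c32 LD2_c33 LD3_c50)) = (LP (LK LD1_c28 LD2_c49 LD3_c51)) :=
  Lgr Lrot11 (Lpr_ct (f930801 IH) (Lpn (LP (LK LD1_c28 LD2_c49 LD3_c51))))
theorem f930808 : Led Lsl_bt (LP (LK LD1_c32 LD2_c33 LD3_c50)) = (LP (LK LD1_c28 LD2_c20 LD3_c37)) :=
  Lre_b IH (LK LD1_c32 LD2_c33 LD3_c50) (LK LD1_c28 LD2_c20 LD3_c37) Lrfl Lrfl
theorem f421724 : Led Lsl_et (LP (LK LD1_c19 LD2_c26 LD3_c59)) = (LP (LK LD1_c28 LD2_c49 LD3_c51)) :=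
  Lre_e IH (LK LD1_c19 LD2_c26 LD3_c59) (LK LD1_c28 LD2_c49 LD3_c51) Lrfl Lrfl
theorem f555869 : Led Lsl_et (LP (LK LD1_c26 LD2_c9 LD3_c59)) = (LP (LK LD1_c16 LD2_c13 LD3_c7)) :=
  Lre_e IH (LK LD1_c26 LD2_c9 LD3_c59) (LK LD1_c16 LD2_c13 LD3_c7) Lrfl Lrfl
theorem f555870 : Led Lsl_bt (LP (LK LD1_c28 LD2_c49 LD3_c51)) = (LP (LK LD1_c26 LD2_c9 LD3_c59)) :=
  Lgr Lrot119 (Lpe (f421724 IH) (Lpr_bf (K39.f555856 IH) (Lpe (f555869 IH) (Lpn (LP (LK LD1_c26 LD2_c9 LD3_c59))))))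
theorem f619027 : Led Lsl_bf (LP (LK LD1_c28 LD2_c49 LD3_c51)) = (LP (LK LD1_c26 LD2_c9 LD3_c59)) :=
  Lgr Lrot24 (Lpr_bt (f555870 IH) (Lpn (LP (LK LD1_c26 LD2_c9 LD3_c59))))
theorem f619033 : Led Lsl_ct (LP (LK LD1_c16 LD2_c13 LD3_c9)) = (LP (LK LD1_c26 LD2_c9 LD3_c59)) :=
  Lre_c IH (LK LD1_c16 LD2_c13 LD3_c9) (LK LD1_c26 LD2_c9 LD3_c59) Lrfl Lrfl
theorem f619034 : Led Lsl_bt (LP (LK LD1_c26 LD2_c9 LD3_c57)) = (LP (LK LD1_c16 LD2_c13 LD3_c9)) :=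
  Lre_b IH (LK LD1_c26 LD2_c9 LD3_c57) (LK LD1_c16 LD2_c13 LD3_c9) Lrfl Lrfl
theorem f930809 : Led Lsl_ct (LP (LK LD1_c28 LD2_c20 LD3_c37)) = (LP (LK LD1_c26 LD2_c9 LD3_c57)) :=
  Lgr Lrot83 (Lpe (f930808 IH) (Lpr_cf (f930806 IH) (Lpr_bf (f619027 IH) (Lpe (f619033 IH) (Lpe (f619034 IH) (Lpn (LP (LK LD1_c26 LD2_c9 LD3_c57))))))))
theorem f930814 : Led Lsl_et (LP (LK LD1_c18 LD2_c52 LD3_c42)) = (LP (LK LD1_c28 LD2_c20 LD3_c37)) :=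
  Lre_e IH (LK LD1_c18 LD2_c52 LD3_c42) (LK LD1_c28 LD2_c20 LD3_c37) Lrfl Lrfl
theorem f930815 : Led Lsl_et (LP (LK LD1_c26 LD2_c9 LD3_c57)) = (LP (LK LD1_c16 LD2_c13 LD3_c6)) :=
  Lre_e IH (LK LD1_c26 LD2_c9 LD3_c57) (LK LD1_c16 LD2_c13 LD3_c6) Lrfl Lrfl
theorem f930816 : Led Lsl_cf (LP (LK LD1_c18 LD2_c52 LD3_c42)) = (LP (LK LD1_c16 LD2_c13 LD3_c6)) :=
  Lgr Lrot39 (Lpr_et (f930814 IH) (Lpr_ct (f930809 IH) (Lpr_et (f930815 IH) (Lpn (LP (LK LD1_c16 LD2_c13 LD3_c6))))))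
theorem f28977 : Led Lsl_bt (LP (LK LD1_c16 LD2_c13 LD3_c6)) = (LP (LK LD1_c8 LD2_c39 LD3_c36)) :=
  Lre_b IH (LK LD1_c16 LD2_c13 LD3_c6) (LK LD1_c8 LD2_c39 LD3_c36) Lrfl Lrfl
theorem f31405 : Led Lsl_gt (LP (LK LD1_c8 LD2_c39 LD3_c36)) = (LP (LK LD1_c16 LD2_c13 LD3_c4)) :=
  Lre_g IH (LK LD1_c8 LD2_c39 LD3_c36) (LK LD1_c16 LD2_c13 LD3_c4) Lrfl Lrfl
theorem f31268 : Led Lsl_at (LP (LK LD1_c8 LD2_c39 LD3_c22)) = (LP (LK LD1_c16 LD2_c12 LD3_c31)) :=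
  Lre_a IH (LK LD1_c8 LD2_c39 LD3_c22) (LK LD1_c16 LD2_c12 LD3_c31) Lrfl Lrfl
theorem f31270 : Led Lsl_at (LP (LK LD1_c16 LD2_c13 LD3_c4)) = (LP (LK LD1_c8 LD2_c39 LD3_c40)) :=
  Lre_a IH (LK LD1_c16 LD2_c13 LD3_c4) (LK LD1_c8 LD2_c39 LD3_c40) Lrfl Lrfl
theorem f31271 : Led Lsl_bt (LP (LK LD1_c16 LD2_c12 LD3_c31)) = (LP (LK LD1_c16 LD2_c13 LD3_c4)) :=
  Lgr Lrot62 (Lpe (f31268 IH) (Lpe (K13.f31194 IH) (Lpr_af (K10.f31266 IH) (Lpe (K68.f31269 IH) (Lpe (f31270 IH) (Lpn (LP (LK LD1_c16 LD2_c13 LD3_c4))))))))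
theorem f54307 : Led Lsl_ct (LP (LK LD1_c16 LD2_c12 LD3_c31)) = (LP (LK LD1_c15 LD2_c55 LD3_c43)) :=
  Lgr Lrot111 (Lpe (f31268 IH) (Lpr_cf (K11.f54304 IH) (Lpe (K68.f45509 IH) (Lpn (LP (LK LD1_c15 LD2_c55 LD3_c43))))))
theorem f45679 : Led Lsl_gt (LP (LK LD1_c15 LD2_c55 LD3_c43)) = (LP (LK LD1_c8 LD2_c28 LD3_c59)) :=
  Lre_g IH (LK LD1_c15 LD2_c55 LD3_c43) (LK LD1_c8 LD2_c28 LD3_c59) Lrfl Lrfl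
theorem f54341 : Led Lsl_ct (LP (LK LD1_c15 LD2_c55 LD3_c50)) = (LP (LK LD1_c8 LD2_c28 LD3_c59)) :=
  Lre_c IH (LK LD1_c15 LD2_c55 LD3_c50) (LK LD1_c8 LD2_c28 LD3_c59) Lrfl Lrfl
def v36903 : LQ := Led Lsl_gf (LP (LK LD1_c8 LD2_c37 LD3_c58))
theorem f891276 : Led Lsl_gf (LP (LK LD1_c8 LD2_c37 LD3_c58)) = v36903 :=
  Lrfl
theorem f33023 : Led Lsl_at (LP (LK LD1_c4 LD2_c19 LD3_c60)) = (LP (LK LD1_c8 LD2_c37 LD3_c58)) :=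
  Lre_a IH (LK LD1_c4 LD2_c19 LD3_c60) (LK LD1_c8 LD2_c37 LD3_c58) Lrfl Lrfl
theorem f891277 : Led Lsl_gt (LP (LK LD1_c8 LD2_c37 LD3_c60)) = v36903 :=
  Lgr Lrot5 (Lpr_ft (K11.f32982 IH) (Lpr_at (f33023 IH) (Lpr_gf (f891276 IH) (Lpn v36903))))
theorem f54340 : Led Lsl_gt (LP (LK LD1_c8 LD2_c28 LD3_c59)) = (LP (LK LD1_c4 LD2_c14 LD3_c61)) :=
  Lre_g IH (LK LD1_c8 LD2_c28 LD3_c59) (LK LD1_c4 LD2_c14 LD3_c61) Lrfl Lrfl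
theorem f891278 : Led Lsl_bt (LP (LK LD1_c15 LD2_c55 LD3_c50)) = v36903 :=
  Lgr Lrot92 (Lpr_ct (f54341 IH) (Lpr_gt (f54340 IH) (Lpe (K11.f54313 IH) (Lpr_bt (f31277 IH) (Lpr_gt (K9.f182591 IH) (Lpr_ct (K13.f182594 IH) (Lpr_gt (K13.f190220 IH) (Lpe (K10.f31828 IH) (Lpr_bt (K68.f31822 IH) (Lpr_gt (f891277 IH) (Lpn v36903)))))))))))
theorem f33002 : Led Lsl_at (LP (LK LD1_c10 LD2_c24 LD3_c24)) = (LP (LK LD1_c5 LD2_c17 LD3_c25)) :=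
  Lre_a IH (LK LD1_c10 LD2_c24 LD3_c24) (LK LD1_c5 LD2_c17 LD3_c25) Lrfl Lrfl
theorem f33024 : Led Lsl_cf (LP (LK LD1_c10 LD2_c24 LD3_c24)) = (LP (LK LD1_c8 LD2_c37 LD3_c58)) :=
  Lgr Lrot1 (Lpr_at (f33002 IH) (Lpr_ct (K11.f32997 IH) (Lpr_at (f33023 IH) (Lpn (LP (LK LD1_c8 LD2_c37 LD3_c58))))))
theorem f930834 : Led Lsl_gf (LP (LK LD1_c18 LD2_c52 LD3_c42)) = (LP (LK LD1_c10 LD2_c24 LD3_c24)) :=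
  Lgr Lrot129 (Lpr_cf (f930816 IH) (Lpr_bt (f28977 IH) (Lpr_gt (f31405 IH) (Lpe (f31271 IH) (Lpr_ct (f54307 IH) (Lpr_gt (f45679 IH) (Lpe (f54341 IH) (Lpr_bt (f891278 IH) (Lpe (f891276 IH) (Lpe (f33024 IH) (Lpn (LP (LK LD1_c10 LD2_c24 LD3_c24)))))))))))))
theorem f930828 : Led Lsl_at (LP (LK LD1_c10 LD2_c24 LD3_c22)) = (LP (LK LD1_c18 LD2_c52 LD3_c42)) :=
  Lre_a IH (LK LD1_c10 LD2_c24 LD3_c22) (LK LD1_c18 LD2_c52 LD3_c42) Lrfl Lrfl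
theorem f930829 : Led Lsl_ft (LP (LK LD1_c18 LD2_c52 LD3_c47)) = (LP (LK LD1_c10 LD2_c24 LD3_c22)) :=
  Lre_f IH (LK LD1_c18 LD2_c52 LD3_c47) (LK LD1_c10 LD2_c24 LD3_c22) Lrfl Lrfl
theorem f930836 : Led Lsl_gt (LP (LK LD1_c18 LD2_c52 LD3_c47)) = (LP (LK LD1_c10 LD2_c24 LD3_c24)) :=
  Lgr Lrot5 (Lpr_ft (f930829 IH) (Lpr_at (f930828 IH) (Lpr_gf (f930834 IH) (Lpn (LP (LK LD1_c10 LD2_c24 LD3_c24))))))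
theorem f31857 : Led Lsl_at (LP (LK LD1_c8 LD2_c37 LD3_c58)) = (LP (LK LD1_c4 LD2_c19 LD3_c60)) :=
  Lre_a IH (LK LD1_c8 LD2_c37 LD3_c58) (LK LD1_c4 LD2_c19 LD3_c60) Lrfl Lrfl
theorem f32992 : Led Lsl_ct (LP (LK LD1_c10 LD2_c24 LD3_c24)) = (LP (LK LD1_c8 LD2_c37 LD3_c58)) :=
  Lgr Lrot111 (Lpe (K16.f32991 IH) (Lpr_cf (K11.f32983 IH) (Lpe (f31857 IH) (Lpn (LP (LK LD1_c8 LD2_c37 LD3_c58))))))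
def v36902 : LQ := Led Lsl_gt (LP (LK LD1_c8 LD2_c37 LD3_c58))
theorem f891270 : Led Lsl_gt (LP (LK LD1_c8 LD2_c37 LD3_c58)) = v36902 :=
  Lrfl
theorem f33051 : Led Lsl_bt (LP (LK LD1_c10 LD2_c24 LD3_c24)) = (LP (LK LD1_c18 LD2_c51 LD3_c29)) :=
  Lre_b IH (LK LD1_c10 LD2_c24 LD3_c24) (LK LD1_c18 LD2_c51 LD3_c29) Lrfl Lrfl
theorem f187633 : Led Lsl_bt (LP (LK LD1_c6 LD2_c5 LD3_c59)) = (LP (LK LD1_c11 LD2_c55 LD3_c20)) :=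
  Lre_b IH (LK LD1_c6 LD2_c5 LD3_c59) (LK LD1_c11 LD2_c55 LD3_c20) Lrfl Lrfl
theorem f54509 : Led Lsl_bt (LP (LK LD1_c10 LD2_c23 LD3_c37)) = (LP (LK LD1_c5 LD2_c16 LD3_c61)) :=
  Lre_b IH (LK LD1_c10 LD2_c23 LD3_c37) (LK LD1_c5 LD2_c16 LD3_c61) Lrfl Lrfl
theorem f187740 : Led Lsl_ft (LP (LK LD1_c11 LD2_c55 LD3_c20)) = (LP (LK LD1_c10 LD2_c23 LD3_c37)) :=
  Lgr Lrot75 (Lpe (f187633 IH) (Lpr_ff (K16.f187732 IH) (Lpe (f54509 IH) (Lpn (LP (LK LD1_c10 LD2_c23 LD3_c37))))))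
theorem f187651 : Led Lsl_gt (LP (LK LD1_c11 LD2_c55 LD3_c20)) = (LP (LK LD1_c21 LD2_c0 LD3_c13)) :=
  Lre_g IH (LK LD1_c11 LD2_c55 LD3_c20) (LK LD1_c21 LD2_c0 LD3_c13) Lrfl Lrfl
theorem f187743 : Led Lsl_at (LP (LK LD1_c10 LD2_c23 LD3_c37)) = (LP (LK LD1_c18 LD2_c51 LD3_c29)) :=
  Lre_a IH (LK LD1_c10 LD2_c23 LD3_c37) (LK LD1_c18 LD2_c51 LD3_c29) Lrfl Lrfl
theorem f187744 : Led Lsl_gt (LP (LK LD1_c21 LD2_c0 LD3_c13)) = (LP (LK LD1_c18 LD2_c51 LD3_c29)) :=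
  Lgr Lrot46 (Lpe (f187651 IH) (Lpr_ft (f187740 IH) (Lpr_at (f187743 IH) (Lpn (LP (LK LD1_c18 LD2_c51 LD3_c29))))))
theorem f50302 : Led Lsl_cf (LP (LK LD1_c4 LD2_c3 LD3_c15)) = (LP (LK LD1_c4 LD2_c7 LD3_c43)) :=
  Lgr Lrot11 (Lpr_ct (K9.f50283 IH) (Lpn (LP (LK LD1_c4 LD2_c7 LD3_c43))))
theorem f50315 : Led Lsl_gt (LP (LK LD1_c8 LD2_c7 LD3_c5)) = (LP (LK LD1_c4 LD2_c3 LD3_c15)) :=
  Lre_g IH (LK LD1_c8 LD2_c7 LD3_c5) (LK LD1_c4 LD2_c3 LD3_c15) Lrfl Lrfl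
theorem f50318 : Led Lsl_ct (LP (LK LD1_c15 LD2_c17 LD3_c16)) = (LP (LK LD1_c8 LD2_c7 LD3_c5)) :=
  Lre_c IH (LK LD1_c15 LD2_c17 LD3_c16) (LK LD1_c8 LD2_c7 LD3_c5) Lrfl Lrfl
theorem f191469 : Led Lsl_bt (LP (LK LD1_c15 LD2_c17 LD3_c16)) = (LP (LK LD1_c21 LD2_c0 LD3_c13)) :=
  Lgr Lrot92 (Lpr_ct (f50318 IH) (Lpr_gt (f50315 IH) (Lpr_cf (f50302 IH) (Lpr_bt (K10.f50183 IH) (Lpr_gt (K10.f49787 IH) (Lpr_ct (K10.f191355 IH) (Lpr_gt (K10.f32899 IH) (Lpe (K15.f187634 IH) (Lpr_bt (f187633 IH) (Lpr_gt (f187651 IH) (Lpn (LP (LK LD1_c21 LD2_c0 LD3_c13)))))))))))))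
theorem f50715 : Led Lsl_gt (LP (LK LD1_c15 LD2_c17 LD3_c8)) = (LP (LK LD1_c8 LD2_c7 LD3_c5)) :=
  Lre_g IH (LK LD1_c15 LD2_c17 LD3_c8) (LK LD1_c8 LD2_c7 LD3_c5) Lrfl Lrfl
theorem f30921 : Led Lsl_at (LP (LK LD1_c16 LD2_c13 LD3_c27)) = (LP (LK LD1_c8 LD2_c39 LD3_c45)) :=
  Lre_a IH (LK LD1_c16 LD2_c13 LD3_c27) (LK LD1_c8 LD2_c39 LD3_c45) Lrfl Lrfl
theorem f30922 : Led Lsl_et (LP (LK LD1_c15 LD2_c8 LD3_c58)) = (LP (LK LD1_c16 LD2_c13 LD3_c27)) :=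
  Lgr Lrot123 (Lpe (K22.f30920 IH) (Lpr_ef (K9.f30915 IH) (Lpe (f30921 IH) (Lpn (LP (LK LD1_c16 LD2_c13 LD3_c27))))))
theorem f49275 : Led Lsl_at (LP (LK LD1_c8 LD2_c15 LD3_c44)) = (LP (LK LD1_c15 LD2_c32 LD3_c7)) :=
  Lre_a IH (LK LD1_c8 LD2_c15 LD3_c44) (LK LD1_c15 LD2_c32 LD3_c7) Lrfl Lrfl
theorem f49277 : Led Lsl_et (LP (LK LD1_c15 LD2_c32 LD3_c7)) = (LP (LK LD1_c18 LD2_c50 LD3_c59)) :=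
  Lgr Lrot123 (Lpe (f49275 IH) (Lpr_ef (K9.f49268 IH) (Lpe (K22.f49276 IH) (Lpn (LP (LK LD1_c18 LD2_c50 LD3_c59))))))
theorem f50663 : Led Lsl_bt (LP (LK LD1_c16 LD2_c13 LD3_c27)) = (LP (LK LD1_c15 LD2_c32 LD3_c7)) :=
  Lgr Lrot119 (Lpe (f30922 IH) (Lpr_bf (K22.f50655 IH) (Lpe (f49277 IH) (Lpn (LP (LK LD1_c15 LD2_c32 LD3_c7))))))
theorem f30933 : Led Lsl_at (LP (LK LD1_c15 LD2_c9 LD3_c6)) = (LP (LK LD1_c8 LD2_c2 LD3_c49)) :=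
  Lre_a IH (LK LD1_c15 LD2_c9 LD3_c6) (LK LD1_c8 LD2_c2 LD3_c49) Lrfl Lrfl
theorem f30907 : Led Lsl_at (LP (LK LD1_c8 LD2_c39 LD3_c45)) = (LP (LK LD1_c16 LD2_c13 LD3_c27)) :=
  Lre_a IH (LK LD1_c8 LD2_c39 LD3_c45) (LK LD1_c16 LD2_c13 LD3_c27) Lrfl Lrfl
theorem f30934 : Led Lsl_cf (LP (LK LD1_c15 LD2_c9 LD3_c6)) = (LP (LK LD1_c16 LD2_c13 LD3_c27)) :=
  Lgr Lrot1 (Lpr_at (f30933 IH) (Lpr_ct (K9.f30928 IH) (Lpr_at (f30907 IH) (Lpn (LP (LK LD1_c16 LD2_c13 LD3_c27))))))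
theorem f31002 : Led Lsl_ct (LP (LK LD1_c15 LD2_c9 LD3_c6)) = (LP (LK LD1_c16 LD2_c13 LD3_c27)) :=
  Lgr Lrot59 (Lpr_cf (f30934 IH) (Lpn (LP (LK LD1_c16 LD2_c13 LD3_c27))))
theorem f31008 : Led Lsl_bt (LP (LK LD1_c8 LD2_c7 LD3_c6)) = (LP (LK LD1_c15 LD2_c9 LD3_c6)) :=
  Lre_b IH (LK LD1_c8 LD2_c7 LD3_c6) (LK LD1_c15 LD2_c9 LD3_c6) Lrfl Lrfl
theorem f50294 : Led Lsl_at (LP (LK LD1_c8 LD2_c7 LD3_c6)) = (LP (LK LD1_c4 LD2_c3 LD3_c15)) :=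
  Lre_a IH (LK LD1_c8 LD2_c7 LD3_c6) (LK LD1_c4 LD2_c3 LD3_c15) Lrfl Lrfl
theorem f50295 : Led Lsl_at (LP (LK LD1_c4 LD2_c7 LD3_c43)) = (LP (LK LD1_c8 LD2_c15 LD3_c30)) :=
  Lre_a IH (LK LD1_c4 LD2_c7 LD3_c43) (LK LD1_c8 LD2_c15 LD3_c30) Lrfl Lrfl
theorem f50296 : Led Lsl_cf (LP (LK LD1_c8 LD2_c7 LD3_c6)) = (LP (LK LD1_c8 LD2_c15 LD3_c30)) :=
  Lgr Lrot1 (Lpr_at (f50294 IH) (Lpr_ct (K9.f50283 IH) (Lpr_at (f50295 IH) (Lpn (LP (LK LD1_c8 LD2_c15 LD3_c30))))))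
theorem f49399 : Led Lsl_ct (LP (LK LD1_c15 LD2_c32 LD3_c7)) = (LP (LK LD1_c8 LD2_c16 LD3_c13)) :=
  Lre_c IH (LK LD1_c15 LD2_c32 LD3_c7) (LK LD1_c8 LD2_c16 LD3_c13) Lrfl Lrfl
theorem f50665 : Led Lsl_bf (LP (LK LD1_c8 LD2_c15 LD3_c30)) = (LP (LK LD1_c8 LD2_c16 LD3_c13)) :=
  Lgr Lrot90 (Lpe (f50296 IH) (Lpr_bt (f31008 IH) (Lpr_ct (f31002 IH) (Lpr_bt (f50663 IH) (Lpr_ct (f49399 IH) (Lpn (LP (LK LD1_c8 LD2_c16 LD3_c13))))))))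
theorem f50669 : Led Lsl_et (LP (LK LD1_c8 LD2_c15 LD3_c30)) = (LP (LK LD1_c8 LD2_c6 LD3_c22)) :=
  Lgr Lrot74 (Lpr_bf (f50665 IH) (Lpr_ef (K12.f49293 IH) (Lpe (K69.f50661 IH) (Lpn (LP (LK LD1_c8 LD2_c6 LD3_c22))))))
theorem f50687 : Led Lsl_et (LP (LK LD1_c4 LD2_c4 LD3_c13)) = (LP (LK LD1_c8 LD2_c7 LD3_c6)) :=
  Lre_e IH (LK LD1_c4 LD2_c4 LD3_c13) (LK LD1_c8 LD2_c7 LD3_c6) Lrfl Lrfl
theorem f50688 : Led Lsl_cf (LP (LK LD1_c8 LD2_c15 LD3_c30)) = (LP (LK LD1_c8 LD2_c7 LD3_c6)) :=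
  Lgr Lrot39 (Lpr_et (f50669 IH) (Lpr_ct (K31.f50658 IH) (Lpr_et (f50687 IH) (Lpn (LP (LK LD1_c8 LD2_c7 LD3_c6))))))
theorem f50704 : Led Lsl_ft (LP (LK LD1_c15 LD2_c17 LD3_c8)) = (LP (LK LD1_c8 LD2_c7 LD3_c6)) :=
  Lre_f IH (LK LD1_c15 LD2_c17 LD3_c8) (LK LD1_c8 LD2_c7 LD3_c6) Lrfl Lrfl
theorem f50705 : Led Lsl_ct (LP (LK LD1_c15 LD2_c31 LD3_c40)) = (LP (LK LD1_c15 LD2_c17 LD3_c8)) :=
  Lgr Lrot40 (Lpe (K67.f50671 IH) (Lpr_cf (f50688 IH) (Lpe (f50704 IH) (Lpn (LP (LK LD1_c15 LD2_c17 LD3_c8))))))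
theorem f50716 : Led Lsl_gt (LP (LK LD1_c8 LD2_c15 LD3_c28)) = (LP (LK LD1_c15 LD2_c31 LD3_c40)) :=
  Lre_g IH (LK LD1_c8 LD2_c15 LD3_c28) (LK LD1_c15 LD2_c31 LD3_c40) Lrfl Lrfl
theorem f50722 : Led Lsl_bt (LP (LK LD1_c15 LD2_c31 LD3_c42)) = (LP (LK LD1_c8 LD2_c15 LD3_c28)) :=
  Lre_b IH (LK LD1_c15 LD2_c31 LD3_c42) (LK LD1_c8 LD2_c15 LD3_c28) Lrfl Lrfl
theorem f891272 : Led Lsl_ct (LP (LK LD1_c15 LD2_c31 LD3_c42)) = v36902 :=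
  Lgr Lrot10 (Lpr_bt (f50722 IH) (Lpr_gt (f50716 IH) (Lpr_ct (f50705 IH) (Lpr_gt (f50715 IH) (Lpe (f50318 IH) (Lpr_bt (f191469 IH) (Lpr_gt (f187744 IH) (Lpe (f33051 IH) (Lpr_ct (f32992 IH) (Lpr_gt (f891270 IH) (Lpn v36902)))))))))))
theorem f49777 : Led Lsl_bt (LP (LK LD1_c8 LD2_c15 LD3_c32)) = (LP (LK LD1_c4 LD2_c7 LD3_c45)) :=
  Lre_b IH (LK LD1_c8 LD2_c15 LD3_c32) (LK LD1_c4 LD2_c7 LD3_c45) Lrfl Lrfl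
theorem f49779 : Led Lsl_bt (LP (LK LD1_c4 LD2_c8 LD3_c6)) = (LP (LK LD1_c8 LD2_c16 LD3_c15)) :=
  Lre_b IH (LK LD1_c4 LD2_c8 LD3_c6) (LK LD1_c8 LD2_c16 LD3_c15) Lrfl Lrfl
theorem f49780 : Led Lsl_at (LP (LK LD1_c8 LD2_c16 LD3_c15)) = (LP (LK LD1_c15 LD2_c32 LD3_c53)) :=
  Lre_a IH (LK LD1_c8 LD2_c16 LD3_c15) (LK LD1_c15 LD2_c32 LD3_c53) Lrfl Lrfl
theorem f49781 : Led Lsl_bf (LP (LK LD1_c15 LD2_c31 LD3_c40)) = (LP (LK LD1_c15 LD2_c32 LD3_c53)) :=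
  Lgr Lrot81 (Lpr_at (K67.f49778 IH) (Lpr_bt (f49777 IH) (Lpr_at (K9.f49774 IH) (Lpr_bt (f49779 IH) (Lpr_at (f49780 IH) (Lpn (LP (LK LD1_c15 LD2_c32 LD3_c53))))))))
theorem f191229 : Led Lsl_at (LP (LK LD1_c15 LD2_c25 LD3_c9)) = (LP (LK LD1_c25 LD2_c17 LD3_c24)) :=
  Lre_a IH (LK LD1_c15 LD2_c25 LD3_c9) (LK LD1_c25 LD2_c17 LD3_c24) Lrfl Lrfl
theorem f50676 : Led Lsl_at (LP (LK LD1_c15 LD2_c32 LD3_c53)) = (LP (LK LD1_c8 LD2_c16 LD3_c15)) :=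
  Lre_a IH (LK LD1_c15 LD2_c32 LD3_c53) (LK LD1_c8 LD2_c16 LD3_c15) Lrfl Lrfl
theorem f191230 : Led Lsl_ct (LP (LK LD1_c25 LD2_c17 LD3_c24)) = (LP (LK LD1_c15 LD2_c32 LD3_c53)) :=
  Lgr Lrot111 (Lpe (f191229 IH) (Lpr_cf (K21.f191224 IH) (Lpe (f50676 IH) (Lpn (LP (LK LD1_c15 LD2_c32 LD3_c53))))))
theorem f191251 : Led Lsl_cf (LP (LK LD1_c25 LD2_c17 LD3_c24)) = (LP (LK LD1_c15 LD2_c32 LD3_c53)) :=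
  Lgr Lrot11 (Lpr_ct (f191230 IH) (Lpn (LP (LK LD1_c15 LD2_c32 LD3_c53))))
theorem f191254 : Led Lsl_ft (LP (LK LD1_c25 LD2_c17 LD3_c24)) = (LP (LK LD1_c15 LD2_c32 LD3_c7)) :=
  Lgr Lrot4 (Lpr_cf (f191251 IH) (Lpe (K27.f49394 IH) (Lpe (f49399 IH) (Lpn (LP (LK LD1_c15 LD2_c32 LD3_c7))))))
theorem f49257 : Led Lsl_at (LP (LK LD1_c15 LD2_c32 LD3_c7)) = (LP (LK LD1_c8 LD2_c15 LD3_c44)) :=
  Lre_a IH (LK LD1_c15 LD2_c32 LD3_c7) (LK LD1_c8 LD2_c15 LD3_c44) Lrfl Lrfl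

end

end K72

end

end Cfsg.Agent.Helper28.S1692
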