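import Cfsg.Agent.Lib.Helper28.S1692.Seeds72

set_option autoImplicit false
set_option maxRecDepth 100000
set_option linter.all false

namespace Cfsg.Agent.Helper28.S1692

open Cfsg.Agent.Helper28
open Cfsg.Spor.ON (Gen)

noncomputable section

namespace K73
abbrev LD1_c0 := D1.c0
abbrev LD1_c1 := D1.c1
abbrev LD1_c2 := D1.c2
abbrev LD1_c3 := D1.c3
abbrev LD1_c4 := D1.c4
abbrev LD1_c5 := D1.c5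
abbrev LD1_c6 := D1.c6
abbrev LD1_c7 := D1.c7
abbrev LD1_c8 := D1.c8
abbrev LD1_c9 := D1.c9
abbrev LD1_c10 := D1.c10
abbrev LD1_c11 := D1.c11
abbrev LD1_c12 := D1.c12
abbrev LD1_c13 := D1.c13
abbrev LD1_c14 := D1.c14
abbrev LD1_c15 := D1.c15
abbrev LD1_c16 := D1.c16
abbrev LD1_c17 := D1.c17
abbrev LD1_c18 := D1.c18
abbrev LD1_c19 := D1.c19
abbrev LD1_c20 := D1.c20
abbrev LD1_c21 := D1.c21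
abbrev LD1_c22 := D1.c22
abbrev LD1_c23 := D1.c23
abbrev LD1_c24 := D1.c24
abbrev LD1_c25 := D1.c25
abbrev LD1_c26 := D1.c26
abbrev LD1_c27 := D1.c27
abbrev LD1_c28 := D1.c28
abbrev LD1_c29 := D1.c29
abbrev LD1_c30 := D1.c30
abbrev LD1_c31 := D1.c31
abbrev LD1_c32 := D1.c32
abbrev LD2_c0 := D2.c0
abbrev LD2_c1 := D2.c1
abbrev LD2_c2 := D2.c2
abbrev LD2_c3 := D2.c3
abbrev LD2_c4 := D2.c4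
abbrev LD2_c5 := D2.c5
abbrev LD2_c6 := D2.c6
abbrev LD2_c7 := D2.c7
abbrev LD2_c8 := D2.c8
abbrev LD2_c9 := D2.c9
abbrev LD2_c10 := D2.c10
abbrev LD2_c11 := D2.c11
abbrev LD2_c12 := D2.c12
abbrev LD2_c13 := D2.c13
abbrev LD2_c14 := D2.c14
abbrev LD2_c15 := D2.c15
abbrev LD2_c16 := D2.c16
abbrev LD2_c17 := D2.c17
abbrev LD2_c18 := D2.c18
abbrev LD2_c19 := D2.c19
abbrev LD2_c20 := D2.c20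
abbrev LD2_c21 := D2.c21
abbrev LD2_c22 := D2.c22
abbrev LD2_c23 := D2.c23
abbrev LD2_c24 := D2.c24
abbrev LD2_c25 := D2.c25
abbrev LD2_c26 := D2.c26
abbrev LD2_c27 := D2.c27
abbrev LD2_c28 := D2.c28
abbrev LD2_c29 := D2.c29
abbrev LD2_c30 := D2.c30
abbrev LD2_c31 := D2.c31
abbrev LD2_c32 := D2.c32
abbrev LD2_c33 := D2.c33
abbrev LD2_c34 := D2.c34
abbrev LD2_c35 := D2.c35
abbrev LD2_c36 := D2.c36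
abbrev LD2_c37 := D2.c37
abbrev LD2_c38 := D2.c38
abbrev LD2_c39 := D2.c39
abbrev LD2_c40 := D2.c40
abbrev LD2_c41 := D2.c41
abbrev LD2_c42 := D2.c42
abbrev LD2_c43 := D2.c43
abbrev LD2_c44 := D2.c44
abbrev LD2_c45 := D2.c45
abbrev LD2_c46 := D2.c46
abbrev LD2_c47 := D2.c47
abbrev LD2_c48 := D2.c48
abbrev LD2_c49 := D2.c49
abbrev LD2_c50 := D2.c50
abbrev LD2_c51 := D2.c51
abbrev LD2_c52 := D2.c52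
abbrev LD2_c53 := D2.c53
abbrev LD2_c54 := D2.c54
abbrev LD2_c55 := D2.c55
abbrev LD2_c56 := D2.c56
abbrev LD2_c57 := D2.c57
abbrev LD2_c58 := D2.c58
abbrev LD2_c59 := D2.c59
abbrev LD3_c0 := D3.c0
abbrev LD3_c1 := D3.c1
abbrev LD3_c2 := D3.c2
abbrev LD3_c3 := D3.c3
abbrev LD3_c4 := D3.c4
abbrev LD3_c5 := D3.c5
abbrev LD3_c6 := D3.c6
abbrev LD3_c7 := D3.c7
abbrev LD3_c8 := D3.c8
abbrev LD3_c9 := D3.c9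
abbrev LD3_c10 := D3.c10
abbrev LD3_c11 := D3.c11
abbrev LD3_c12 := D3.c12
abbrev LD3_c13 := D3.c13
abbrev LD3_c14 := D3.c14
abbrev LD3_c15 := D3.c15
abbrev LD3_c16 := D3.c16
abbrev LD3_c17 := D3.c17
abbrev LD3_c18 := D3.c18
abbrev LD3_c19 := D3.c19
abbrev LD3_c20 := D3.c20
abbrev LD3_c21 := D3.c21
abbrev LD3_c22 := D3.c22
abbrev LD3_c23 := D3.c23
abbrev LD3_c24 := D3.c24
abbrev LD3_c25 := D3.c25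
abbrev LD3_c26 := D3.c26
abbrev LD3_c27 := D3.c27
abbrev LD3_c28 := D3.c28
abbrev LD3_c29 := D3.c29
abbrev LD3_c30 := D3.c30
abbrev LD3_c31 := D3.c31
abbrev LD3_c32 := D3.c32
abbrev LD3_c33 := D3.c33
abbrev LD3_c34 := D3.c34
abbrev LD3_c35 := D3.c35
abbrev LD3_c36 := D3.c36
abbrev LD3_c37 := D3.c37
abbrev LD3_c38 := D3.c38
abbrev LD3_c39 := D3.c39
abbrev LD3_c40 := D3.c40
abbrev LD3_c41 := D3.c41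
abbrev LD3_c42 := D3.c42
abbrev LD3_c43 := D3.c43
abbrev LD3_c44 := D3.c44
abbrev LD3_c45 := D3.c45
abbrev LD3_c46 := D3.c46
abbrev LD3_c47 := D3.c47
abbrev LD3_c48 := D3.c48
abbrev LD3_c49 := D3.c49
abbrev LD3_c50 := D3.c50
abbrev LD3_c51 := D3.c51
abbrev LD3_c52 := D3.c52
abbrev LD3_c53 := D3.c53
abbrev LD3_c54 := D3.c54
abbrev LD3_c55 := D3.c55
abbrev LD3_c56 := D3.c56
abbrev LD3_c57 := D3.c57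
abbrev LD3_c58 := D3.c58
abbrev LD3_c59 := D3.c59
abbrev LD3_c60 := D3.c60
abbrev LD3_c61 := D3.c61
abbrev LG_g := Gen.g
abbrev Lsl_gt : Gen × Bool := sl_gt
alias Lfl_gt := fl_gt
alias Lpr_gt := pr_gt
abbrev Lsl_gf : Gen × Bool := sl_gf
alias Lfl_gf := fl_gf
alias Lpr_gf := pr_gf
alias Lre_g := re_g
alias Leoe_g := eoe_g
abbrev LG_a := Gen.a
abbrev Lsl_at : Gen × Bool := sl_at
alias Lfl_at := fl_at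
alias Lpr_at := pr_at
abbrev Lsl_af : Gen × Bool := sl_af
alias Lfl_af := fl_af
alias Lpr_af := pr_af
alias Lre_a := re_a
alias Leoe_a := eoe_a
abbrev LG_b := Gen.b
abbrev Lsl_bt : Gen × Bool := sl_bt
alias Lfl_bt := fl_bt
alias Lpr_bt := pr_bt
abbrev Lsl_bf : Gen × Bool := sl_bf
alias Lfl_bf := fl_bf
alias Lpr_bf := pr_bf
alias Lre_b := re_b
alias Leoe_b := eoe_b
abbrev LG_c := Gen.c
abbrev Lsl_ct : Gen × Bool := sl_ct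
alias Lfl_ct := fl_ct
alias Lpr_ct := pr_ct
abbrev Lsl_cf : Gen × Bool := sl_cf
alias Lfl_cf := fl_cf
alias Lpr_cf := pr_cf
alias Lre_c := re_c
alias Leoe_c := eoe_c
abbrev LG_d := Gen.d
abbrev Lsl_dt : Gen × Bool := sl_dt
alias Lfl_dt := fl_dt
alias Lpr_dt := pr_dt
abbrev Lsl_df : Gen × Bool := sl_df
alias Lfl_df := fl_df
alias Lpr_df := pr_df
alias Lre_d := re_d
alias Leoe_d := eoe_d
abbrev LG_e := Gen.e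
abbrev Lsl_et : Gen × Bool := sl_et
alias Lfl_et := fl_et
alias Lpr_et := pr_et
abbrev Lsl_ef : Gen × Bool := sl_ef
alias Lfl_ef := fl_ef
alias Lpr_ef := pr_ef
alias Lre_e := re_e
alias Leoe_e := eoe_e
abbrev LG_f := Gen.f
abbrev Lsl_ft : Gen × Bool := sl_ft
alias Lfl_ft := fl_ft
alias Lpr_ft := pr_ft
abbrev Lsl_ff : Gen × Bool := sl_ff
alias Lfl_ff := fl_ff
alias Lpr_ff := pr_ff
alias Lre_f := re_f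
alias Leoe_f := eoe_f
abbrev LK := Pt.mk
abbrev LQ : Type := Qt rels S
abbrev LP (p : Pt) : LQ := P p
abbrev Led (l : Gen × Bool) (c : LQ) : LQ := ed l c
abbrev LEOK (x : Gen) (p : Pt) : Prop := EntryOK rels S fwd inv o plet idx x p
alias Lpe := pe
alias Lpn := pn
alias Lgr := gr
alias Lpq := pq
alias Lpqs := pqs
alias Llr := lr
alias Leop := eop
alias Lefun := efun
alias Lecon := econ
theorem Lrfl {α : Sort _} {a : α} : a = a := rfl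
alias Lrot0 := rot0
alias Lrot1 := rot1
alias Lrot2 := rot2
alias Lrot3 := rot3
alias Lrot4 := rot4
alias Lrot5 := rot5
alias Lrot6 := rot6
alias Lrot7 := rot7
alias Lrot8 := rot8
alias Lrot9 := rot9
alias Lrot10 := rot10
alias Lrot11 := rot11
alias Lrot12 := rot12
alias Lrot14 := rot14
alias Lrot15 := rot15
alias Lrot16 := rot16
alias Lrot17 := rot17
alias Lrot18 := rot18
alias Lrot19 := rot19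
alias Lrot20 := rot20
alias Lrot21 := rot21
alias Lrot22 := rot22
alias Lrot23 := rot23
alias Lrot24 := rot24
alias Lrot25 := rot25
alias Lrot26 := rot26
alias Lrot27 := rot27
alias Lrot28 := rot28
alias Lrot29 := rot29
alias Lrot30 := rot30
alias Lrot31 := rot31
alias Lrot32 := rot32
alias Lrot33 := rot33
alias Lrot34 := rot34
alias Lrot35 := rot35
alias Lrot36 := rot36
alias Lrot37 := rot37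
alias Lrot38 := rot38
alias Lrot39 := rot39
alias Lrot40 := rot40
alias Lrot42 := rot42
alias Lrot43 := rot43
alias Lrot44 := rot44
alias Lrot45 := rot45
alias Lrot46 := rot46
alias Lrot47 := rot47
alias Lrot48 := rot48
alias Lrot49 := rot49
alias Lrot50 := rot50
alias Lrot51 := rot51
alias Lrot52 := rot52
alias Lrot53 := rot53
alias Lrot54 := rot54
alias Lrot55 := rot55
alias Lrot56 := rot56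
alias Lrot57 := rot57
alias Lrot58 := rot58
alias Lrot59 := rot59
alias Lrot60 := rot60
alias Lrot61 := rot61
alias Lrot62 := rot62
alias Lrot63 := rot63
alias Lrot64 := rot64
alias Lrot65 := rot65
alias Lrot66 := rot66
alias Lrot67 := rot67
alias Lrot68 := rot68
alias Lrot69 := rot69
alias Lrot70 := rot70
alias Lrot71 := rot71
alias Lrot72 := rot72
alias Lrot73 := rot73
alias Lrot74 := rot74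
alias Lrot75 := rot75
alias Lrot76 := rot76
alias Lrot77 := rot77
alias Lrot78 := rot78
alias Lrot79 := rot79
alias Lrot80 := rot80
alias Lrot81 := rot81
alias Lrot82 := rot82
alias Lrot83 := rot83
alias Lrot84 := rot84
alias Lrot85 := rot85
alias Lrot86 := rot86
alias Lrot87 := rot87
alias Lrot88 := rot88
alias Lrot90 := rot90
alias Lrot91 := rot91
alias Lrot92 := rot92
alias Lrot93 := rot93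
alias Lrot94 := rot94
alias Lrot95 := rot95
alias Lrot96 := rot96
alias Lrot97 := rot97
alias Lrot98 := rot98
alias Lrot99 := rot99
alias Lrot100 := rot100
alias Lrot101 := rot101
alias Lrot102 := rot102
alias Lrot104 := rot104
alias Lrot105 := rot105
alias Lrot106 := rot106
alias Lrot107 := rot107
alias Lrot108 := rot108
alias Lrot109 := rot109
alias Lrot110 := rot110
alias Lrot111 := rot111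
alias Lrot112 := rot112
alias Lrot113 := rot113
alias Lrot114 := rot114
alias Lrot116 := rot116
alias Lrot117 := rot117
alias Lrot118 := rot118
alias Lrot119 := rot119
alias Lrot120 := rot120
alias Lrot121 := rot121
alias Lrot122 := rot122
alias Lrot123 := rot123
alias Lrot124 := rot124
alias Lrot125 := rot125
alias Lrot126 := rot126
alias Lrot127 := rot127
alias Lrot128 := rot128
alias Lrot129 := rot129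
alias Lrot130 := rot130
alias Lrot131 := rot131
alias Lrot132 := rot132
alias Lrot133 := rot133
alias Lrot134 := rot134
alias Lrot135 := rot135
alias Lrot136 := rot136
alias Lrot137 := rot137
alias Lrot138 := rot138
alias Lrot139 := rot139
alias Lrot140 := rot140
alias Lrot141 := rot141
alias Lrot143 := rot143
alias Lrot144 := rot144
alias Lrot145 := rot145
alias Lrot146 := rot146
alias Lrot147 := rot147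
alias Lrot149 := rot149
alias Lrot150 := rot150
alias Lrot151 := rot151
alias Lrot152 := rot152
alias Lrot153 := rot153
alias Lrot154 := rot154
alias Lrot155 := rot155
alias Lrot156 := rot156
alias Lrot158 := rot158
alias Lrot160 := rot160
alias Lrot161 := rot161
alias Lrot162 := rot162
alias Lrot163 := rot163
alias Lrot164 := rot164
alias Lrot165 := rot165
alias Lrot166 := rot166
alias Lrot168 := rot168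
alias Lrot169 := rot169
alias Lrot170 := rot170
alias Lrot171 := rot171
alias Lrot173 := rot173
alias Lrot174 := rot174
alias Lrot175 := rot175
alias Lrot176 := rot176
alias Lrot177 := rot177
alias Lrot178 := rot178
alias Lrot179 := rot179
alias Lrot181 := rot181
alias Lrot182 := rot182
alias Lrot183 := rot183
alias Lrot184 := rot184
alias Lrot185 := rot185
alias Lrot190 := rot190

section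
variable (IH : IHT)
include IH

theorem f49290 : Led Lsl_gt (LP (LK LD1_c15 LD2_c32 LD3_c6)) = (LP (LK LD1_c8 LD2_c15 LD3_c44)) :=
  Lre_g IH (LK LD1_c15 LD2_c32 LD3_c6) (LK LD1_c8 LD2_c15 LD3_c44) Lrfl Lrfl
theorem f191259 : Led Lsl_gt (LP (LK LD1_c25 LD2_c17 LD3_c24)) = (LP (LK LD1_c15 LD2_c32 LD3_c6)) :=
  Lgr Lrot5 (Lpr_ft (K72.f191254 IH) (Lpr_at (K72.f49257 IH) (Lpe (f49290 IH) (Lpn (LP (LK LD1_c15 LD2_c32 LD3_c6))))))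
theorem f184157 : Led Lsl_ct (LP (LK LD1_c25 LD2_c25 LD3_c24)) = (LP (LK LD1_c15 LD2_c32 LD3_c6)) :=
  Lre_c IH (LK LD1_c25 LD2_c25 LD3_c24) (LK LD1_c15 LD2_c32 LD3_c6) Lrfl Lrfl
theorem f930842 : Led Lsl_bf (LP (LK LD1_c18 LD2_c52 LD3_c47)) = (LP (LK LD1_c25 LD2_c25 LD3_c24)) :=
  Lgr Lrot165 (Lpr_gt (K72.f930836 IH) (Lpr_ct (K72.f32992 IH) (Lpr_gt (K72.f891270 IH) (Lpe (K72.f891272 IH) (Lpr_bt (K72.f50722 IH) (Lpr_gt (K72.f50716 IH) (Lpr_bf (K72.f49781 IH) (Lpe (K72.f191251 IH) (Lpr_gt (f191259 IH) (Lpe (f184157 IH) (Lpn (LP (LK LD1_c25 LD2_c25 LD3_c24)))))))))))))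
theorem f421170 : Led Lsl_bt (LP (LK LD1_c10 LD2_c24 LD3_c22)) = (LP (LK LD1_c18 LD2_c52 LD3_c43)) :=
  Lre_b IH (LK LD1_c10 LD2_c24 LD3_c22) (LK LD1_c18 LD2_c52 LD3_c43) Lrfl Lrfl
theorem f930849 : Led Lsl_ft (LP (LK LD1_c18 LD2_c52 LD3_c43)) = (LP (LK LD1_c25 LD2_c25 LD3_c24)) :=
  Lgr Lrot75 (Lpe (f421170 IH) (Lpe (K72.f930829 IH) (Lpr_bf (f930842 IH) (Lpn (LP (LK LD1_c25 LD2_c25 LD3_c24))))))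
theorem f930855 : Led Lsl_ff (LP (LK LD1_c18 LD2_c52 LD3_c43)) = (LP (LK LD1_c25 LD2_c25 LD3_c24)) :=
  Lgr Lrot3 (Lpr_ft (f930849 IH) (Lpn (LP (LK LD1_c25 LD2_c25 LD3_c24))))
theorem f33004 : Led Lsl_gt (LP (LK LD1_c5 LD2_c17 LD3_c25)) = (LP (LK LD1_c10 LD2_c24 LD3_c22)) :=
  Lre_g IH (LK LD1_c5 LD2_c17 LD3_c25) (LK LD1_c10 LD2_c24 LD3_c22) Lrfl Lrfl
theorem f33070 : Led Lsl_bt (LP (LK LD1_c18 LD2_c52 LD3_c43)) = (LP (LK LD1_c10 LD2_c24 LD3_c22)) :=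
  Lre_b IH (LK LD1_c18 LD2_c52 LD3_c43) (LK LD1_c10 LD2_c24 LD3_c22) Lrfl Lrfl
theorem f191237 : Led Lsl_gt (LP (LK LD1_c25 LD2_c17 LD3_c23)) = (LP (LK LD1_c15 LD2_c25 LD3_c9)) :=
  Lre_g IH (LK LD1_c25 LD2_c17 LD3_c23) (LK LD1_c15 LD2_c25 LD3_c9) Lrfl Lrfl
theorem f421153 : Led Lsl_ct (LP (LK LD1_c18 LD2_c52 LD3_c43)) = (LP (LK LD1_c25 LD2_c17 LD3_c23)) :=
  Lgr Lrot64 (Lpr_bt (f33070 IH) (Lpe (f33004 IH) (Lpe (K11.f33026 IH) (Lpr_ct (K10.f32995 IH) (Lpe (K10.f33049 IH) (Lpr_cf (K13.f194373 IH) (Lpr_gf (K11.f53481 IH) (Lpe (K44.f50675 IH) (Lpe (K21.f191224 IH) (Lpe (f191237 IH) (Lpn (LP (LK LD1_c25 LD2_c17 LD3_c23)))))))))))))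
theorem f191263 : Led Lsl_ct (LP (LK LD1_c15 LD2_c32 LD3_c6)) = (LP (LK LD1_c25 LD2_c25 LD3_c24)) :=
  Lre_c IH (LK LD1_c15 LD2_c32 LD3_c6) (LK LD1_c25 LD2_c25 LD3_c24) Lrfl Lrfl
theorem f930858 : Led Lsl_ft (LP (LK LD1_c25 LD2_c17 LD3_c23)) = (LP (LK LD1_c15 LD2_c32 LD3_c6)) :=
  Lgr Lrot4 (Lpe (f421153 IH) (Lpr_ff (f930855 IH) (Lpe (f191263 IH) (Lpn (LP (LK LD1_c15 LD2_c32 LD3_c6))))))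
theorem f191210 : Led Lsl_gt (LP (LK LD1_c15 LD2_c25 LD3_c9)) = (LP (LK LD1_c25 LD2_c17 LD3_c22)) :=
  Lre_g IH (LK LD1_c15 LD2_c25 LD3_c9) (LK LD1_c25 LD2_c17 LD3_c22) Lrfl Lrfl
theorem f930877 : Led Lsl_af (LP (LK LD1_c25 LD2_c17 LD3_c22)) = (LP (LK LD1_c15 LD2_c32 LD3_c6)) :=
  Lgr Lrot31 (Lpe (f191210 IH) (Lpe (f191237 IH) (Lpr_ft (f930858 IH) (Lpn (LP (LK LD1_c15 LD2_c32 LD3_c6))))))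
theorem f930879 : Led Lsl_at (LP (LK LD1_c25 LD2_c17 LD3_c22)) = (LP (LK LD1_c15 LD2_c32 LD3_c6)) :=
  Lgr Lrot100 (Lpr_af (f930877 IH) (Lpn (LP (LK LD1_c15 LD2_c32 LD3_c6))))
theorem f182995 : Led Lsl_bt (LP (LK LD1_c15 LD2_c25 LD3_c9)) = (LP (LK LD1_c8 LD2_c11 LD3_c25)) :=
  Lre_b IH (LK LD1_c15 LD2_c25 LD3_c9) (LK LD1_c8 LD2_c11 LD3_c25) Lrfl Lrfl
theorem f191214 : Led Lsl_ff (LP (LK LD1_c15 LD2_c25 LD3_c9)) = (LP (LK LD1_c8 LD2_c15 LD3_c44)) :=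
  Lgr Lrot25 (Lpr_bt (f182995 IH) (Lpr_ft (K11.f191208 IH) (Lpr_bt (K9.f49249 IH) (Lpn (LP (LK LD1_c8 LD2_c15 LD3_c44))))))
theorem f49287 : Led Lsl_gt (LP (LK LD1_c8 LD2_c15 LD3_c44)) = (LP (LK LD1_c15 LD2_c32 LD3_c5)) :=
  Lre_g IH (LK LD1_c8 LD2_c15 LD3_c44) (LK LD1_c15 LD2_c32 LD3_c5) Lrfl Lrfl
theorem f191268 : Led Lsl_gf (LP (LK LD1_c25 LD2_c17 LD3_c24)) = (LP (LK LD1_c15 LD2_c32 LD3_c5)) :=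
  Lgr Lrot76 (Lpe (K72.f191229 IH) (Lpr_ff (f191214 IH) (Lpr_gt (f49287 IH) (Lpn (LP (LK LD1_c15 LD2_c32 LD3_c5))))))
theorem f930881 : Led Lsl_ff (LP (LK LD1_c25 LD2_c17 LD3_c22)) = (LP (LK LD1_c15 LD2_c32 LD3_c5)) :=
  Lgr Lrot52 (Lpr_at (f930879 IH) (Lpe (f191259 IH) (Lpr_gf (f191268 IH) (Lpn (LP (LK LD1_c15 LD2_c32 LD3_c5))))))
theorem f930887 : Led Lsl_ft (LP (LK LD1_c25 LD2_c17 LD3_c22)) = (LP (LK LD1_c15 LD2_c32 LD3_c5)) :=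
  Lgr Lrot48 (Lpr_ff (f930881 IH) (Lpn (LP (LK LD1_c15 LD2_c32 LD3_c5))))
theorem f55111 : Led Lsl_bt (LP (LK LD1_c8 LD2_c10 LD3_c58)) = (LP (LK LD1_c4 LD2_c5 LD3_c5)) :=
  Lre_b IH (LK LD1_c8 LD2_c10 LD3_c58) (LK LD1_c4 LD2_c5 LD3_c5) Lrfl Lrfl
theorem f55160 : Led Lsl_et (LP (LK LD1_c8 LD2_c11 LD3_c48)) = (LP (LK LD1_c4 LD2_c5 LD3_c25)) :=
  Lre_e IH (LK LD1_c8 LD2_c11 LD3_c48) (LK LD1_c4 LD2_c5 LD3_c25) Lrfl Lrfl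
theorem f55162 : Led Lsl_et (LP (LK LD1_c2 LD2_c25 LD3_c41)) = (LP (LK LD1_c4 LD2_c55 LD3_c48)) :=
  Lre_e IH (LK LD1_c2 LD2_c25 LD3_c41) (LK LD1_c4 LD2_c55 LD3_c48) Lrfl Lrfl
theorem f55163 : Led Lsl_df (LP (LK LD1_c8 LD2_c11 LD3_c48)) = (LP (LK LD1_c4 LD2_c55 LD3_c48)) :=
  Lgr Lrot70 (Lpr_et (f55160 IH) (Lpr_dt (K14.f47266 IH) (Lpr_et (K23.f55149 IH) (Lpr_dt (K13.f55161 IH) (Lpr_et (f55162 IH) (Lpn (LP (LK LD1_c4 LD2_c55 LD3_c48))))))))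
theorem f47241 : Led Lsl_at (LP (LK LD1_c8 LD2_c11 LD3_c48)) = (LP (LK LD1_c15 LD2_c24 LD3_c27)) :=
  Lre_a IH (LK LD1_c8 LD2_c11 LD3_c48) (LK LD1_c15 LD2_c24 LD3_c27) Lrfl Lrfl
theorem f55174 : Led Lsl_at (LP (LK LD1_c9 LD2_c40 LD3_c60)) = (LP (LK LD1_c4 LD2_c55 LD3_c48)) :=
  Lre_a IH (LK LD1_c9 LD2_c40 LD3_c60) (LK LD1_c4 LD2_c55 LD3_c48) Lrfl Lrfl
theorem f55175 : Led Lsl_dt (LP (LK LD1_c15 LD2_c24 LD3_c27)) = (LP (LK LD1_c9 LD2_c40 LD3_c60)) :=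
  Lgr Lrot44 (Lpe (f47241 IH) (Lpr_df (f55163 IH) (Lpe (f55174 IH) (Lpn (LP (LK LD1_c9 LD2_c40 LD3_c60))))))
theorem f47246 : Led Lsl_bt (LP (LK LD1_c25 LD2_c16 LD3_c50)) = (LP (LK LD1_c15 LD2_c24 LD3_c27)) :=
  Lre_b IH (LK LD1_c25 LD2_c16 LD3_c50) (LK LD1_c15 LD2_c24 LD3_c27) Lrfl Lrfl
theorem f55221 : Led Lsl_bt (LP (LK LD1_c9 LD2_c40 LD3_c60)) = (LP (LK LD1_c17 LD2_c48 LD3_c43)) :=
  Lre_b IH (LK LD1_c9 LD2_c40 LD3_c60) (LK LD1_c17 LD2_c48 LD3_c43) Lrfl Lrfl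
theorem f55222 : Led Lsl_df (LP (LK LD1_c25 LD2_c16 LD3_c50)) = (LP (LK LD1_c17 LD2_c48 LD3_c43)) :=
  Lgr Lrot12 (Lpr_bt (f47246 IH) (Lpr_dt (f55175 IH) (Lpr_bt (f55221 IH) (Lpn (LP (LK LD1_c17 LD2_c48 LD3_c43))))))
theorem f47293 : Led Lsl_et (LP (LK LD1_c25 LD2_c16 LD3_c50)) = (LP (LK LD1_c15 LD2_c24 LD3_c26)) :=
  Lre_e IH (LK LD1_c25 LD2_c16 LD3_c50) (LK LD1_c15 LD2_c24 LD3_c26) Lrfl Lrfl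
theorem f47296 : Led Lsl_dt (LP (LK LD1_c15 LD2_c24 LD3_c26)) = (LP (LK LD1_c8 LD2_c10 LD3_c58)) :=
  Lre_d IH (LK LD1_c15 LD2_c24 LD3_c26) (LK LD1_c8 LD2_c10 LD3_c58) Lrfl Lrfl
theorem f55238 : Led Lsl_et (LP (LK LD1_c9 LD2_c40 LD3_c57)) = (LP (LK LD1_c17 LD2_c48 LD3_c43)) :=
  Lre_e IH (LK LD1_c9 LD2_c40 LD3_c57) (LK LD1_c17 LD2_c48 LD3_c43) Lrfl Lrfl
theorem f41171 : Led Lsl_dt (LP (LK LD1_c4 LD2_c54 LD3_c39)) = (LP (LK LD1_c9 LD2_c40 LD3_c57)) :=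
  Lre_d IH (LK LD1_c4 LD2_c54 LD3_c39) (LK LD1_c9 LD2_c40 LD3_c57) Lrfl Lrfl
theorem f55239 : Led Lsl_et (LP (LK LD1_c8 LD2_c10 LD3_c58)) = (LP (LK LD1_c4 LD2_c54 LD3_c39)) :=
  Lgr Lrot71 (Lpe (f47296 IH) (Lpe (f47293 IH) (Lpr_df (f55222 IH) (Lpe (f55238 IH) (Lpe (f41171 IH) (Lpn (LP (LK LD1_c4 LD2_c54 LD3_c39))))))))
theorem f54573 : Led Lsl_bt (LP (LK LD1_c8 LD2_c13 LD3_c6)) = (LP (LK LD1_c4 LD2_c6 LD3_c15)) :=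
  Lre_b IH (LK LD1_c8 LD2_c13 LD3_c6) (LK LD1_c4 LD2_c6 LD3_c15) Lrfl Lrfl
theorem f54574 : Led Lsl_et (LP (LK LD1_c7 LD2_c57 LD3_c45)) = (LP (LK LD1_c8 LD2_c13 LD3_c6)) :=
  Lgr Lrot74 (Lpe (K69.f41163 IH) (Lpr_ef (K1.f54562 IH) (Lpe (f54573 IH) (Lpn (LP (LK LD1_c8 LD2_c13 LD3_c6))))))
theorem f55242 : Led Lsl_cf (LP (LK LD1_c8 LD2_c10 LD3_c58)) = (LP (LK LD1_c8 LD2_c13 LD3_c6)) :=
  Lgr Lrot39 (Lpr_et (f55239 IH) (Lpe (K1.f41167 IH) (Lpr_et (f54574 IH) (Lpn (LP (LK LD1_c8 LD2_c13 LD3_c6))))))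
theorem f55247 : Led Lsl_ct (LP (LK LD1_c8 LD2_c10 LD3_c58)) = (LP (LK LD1_c8 LD2_c13 LD3_c6)) :=
  Lgr Lrot59 (Lpr_cf (f55242 IH) (Lpn (LP (LK LD1_c8 LD2_c13 LD3_c6))))
theorem f54951 : Led Lsl_gt (LP (LK LD1_c15 LD2_c27 LD3_c36)) = (LP (LK LD1_c8 LD2_c13 LD3_c6)) :=
  Lre_g IH (LK LD1_c15 LD2_c27 LD3_c36) (LK LD1_c8 LD2_c13 LD3_c6) Lrfl Lrfl
theorem f55250 : Led Lsl_ct (LP (LK LD1_c25 LD2_c19 LD3_c25)) = (LP (LK LD1_c15 LD2_c27 LD3_c36)) :=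
  Lre_c IH (LK LD1_c25 LD2_c19 LD3_c25) (LK LD1_c15 LD2_c27 LD3_c36) Lrfl Lrfl
theorem f191303 : Led Lsl_bf (LP (LK LD1_c25 LD2_c17 LD3_c22)) = (LP (LK LD1_c25 LD2_c19 LD3_c25)) :=
  Lgr Lrot34 (Lpe (f191210 IH) (Lpe (K21.f191200 IH) (Lpr_ct (K17.f191203 IH) (Lpr_gf (K11.f188025 IH) (Lpe (K17.f46465 IH) (Lpr_gf (K10.f187498 IH) (Lpe (f55111 IH) (Lpr_ct (f55247 IH) (Lpe (f54951 IH) (Lpe (f55250 IH) (Lpn (LP (LK LD1_c25 LD2_c19 LD3_c25)))))))))))))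
theorem f930891 : Led Lsl_bt (LP (LK LD1_c15 LD2_c32 LD3_c5)) = (LP (LK LD1_c25 LD2_c25 LD3_c20)) :=
  Lre_b IH (LK LD1_c15 LD2_c32 LD3_c5) (LK LD1_c25 LD2_c25 LD3_c20) Lrfl Lrfl
theorem f930892 : Led Lsl_ff (LP (LK LD1_c25 LD2_c19 LD3_c25)) = (LP (LK LD1_c25 LD2_c25 LD3_c20)) :=
  Lgr Lrot25 (Lpe (f191303 IH) (Lpr_ft (f930887 IH) (Lpr_bt (f930891 IH) (Lpn (LP (LK LD1_c25 LD2_c25 LD3_c20))))))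
theorem f930895 : Led Lsl_ft (LP (LK LD1_c15 LD2_c27 LD3_c36)) = (LP (LK LD1_c25 LD2_c19 LD3_c20)) :=
  Lre_f IH (LK LD1_c15 LD2_c27 LD3_c36) (LK LD1_c25 LD2_c19 LD3_c20) Lrfl Lrfl
theorem f930896 : Led Lsl_ct (LP (LK LD1_c25 LD2_c19 LD3_c20)) = (LP (LK LD1_c25 LD2_c25 LD3_c20)) :=
  Lgr Lrot40 (Lpe (f930895 IH) (Lpe (f55250 IH) (Lpr_ff (f930892 IH) (Lpn (LP (LK LD1_c25 LD2_c25 LD3_c20))))))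
theorem f930899 : Led Lsl_cf (LP (LK LD1_c25 LD2_c19 LD3_c20)) = (LP (LK LD1_c25 LD2_c25 LD3_c20)) :=
  Lgr Lrot11 (Lpr_ct (f930896 IH) (Lpn (LP (LK LD1_c25 LD2_c25 LD3_c20))))
theorem f191272 : Led Lsl_bt (LP (LK LD1_c25 LD2_c25 LD3_c20)) = (LP (LK LD1_c15 LD2_c32 LD3_c5)) :=
  Lre_b IH (LK LD1_c25 LD2_c25 LD3_c20) (LK LD1_c15 LD2_c32 LD3_c5) Lrfl Lrfl
def v35836 : LQ := Led Lsl_ft (LP (LK LD1_c8 LD2_c10 LD3_c58))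
theorem f878736 : Led Lsl_ft (LP (LK LD1_c8 LD2_c10 LD3_c58)) = v35836 :=
  Lrfl
theorem f47967 : Led Lsl_bt (LP (LK LD1_c4 LD2_c5 LD3_c5)) = (LP (LK LD1_c8 LD2_c10 LD3_c58)) :=
  Lre_b IH (LK LD1_c4 LD2_c5 LD3_c5) (LK LD1_c8 LD2_c10 LD3_c58) Lrfl Lrfl
theorem f878737 : Led Lsl_bf (LP (LK LD1_c8 LD2_c10 LD3_c60)) = v35836 :=
  Lgr Lrot61 (Lpr_ft (K1.f47269 IH) (Lpr_bt (f47967 IH) (Lpr_ft (f878736 IH) (Lpn v35836))))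
theorem f878738 : Led Lsl_cf (LP (LK LD1_c15 LD2_c27 LD3_c39)) = v35836 :=
  Lgr Lrot108 (Lpr_ft (K1.f54715 IH) (Lpe (f55242 IH) (Lpr_ft (f878736 IH) (Lpn v35836))))
theorem f930906 : Led Lsl_gt (LP (LK LD1_c25 LD2_c19 LD3_c20)) = (LP (LK LD1_c15 LD2_c27 LD3_c39)) :=
  Lgr Lrot65 (Lpr_cf (f930899 IH) (Lpr_bt (f191272 IH) (Lpe (f49287 IH) (Lpe (K9.f49249 IH) (Lpr_ct (K9.f49241 IH) (Lpe (K12.f47813 IH) (Lpe (K17.f247623 IH) (Lpe (K15.f47276 IH) (Lpr_bf (f878737 IH) (Lpe (f878738 IH) (Lpn (LP (LK LD1_c15 LD2_c27 LD3_c39)))))))))))))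
theorem f930904 : Led Lsl_ft (LP (LK LD1_c25 LD2_c19 LD3_c20)) = (LP (LK LD1_c15 LD2_c27 LD3_c36)) :=
  Lre_f IH (LK LD1_c25 LD2_c19 LD3_c20) (LK LD1_c15 LD2_c27 LD3_c36) Lrfl Lrfl
theorem f930908 : Led Lsl_at (LP (LK LD1_c15 LD2_c27 LD3_c36)) = (LP (LK LD1_c25 LD2_c19 LD3_c23)) :=
  Lre_a IH (LK LD1_c15 LD2_c27 LD3_c36) (LK LD1_c25 LD2_c19 LD3_c23) Lrfl Lrfl
theorem f930909 : Led Lsl_gf (LP (LK LD1_c25 LD2_c19 LD3_c23)) = (LP (LK LD1_c15 LD2_c27 LD3_c39)) :=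
  Lgr Lrot76 (Lpe (f930908 IH) (Lpe (f930904 IH) (Lpr_gt (f930906 IH) (Lpn (LP (LK LD1_c15 LD2_c27 LD3_c39))))))
theorem f179079 : Led Lsl_bt (LP (LK LD1_c8 LD2_c13 LD3_c8)) = (LP (LK LD1_c15 LD2_c27 LD3_c39)) :=
  Lre_b IH (LK LD1_c8 LD2_c13 LD3_c8) (LK LD1_c15 LD2_c27 LD3_c39) Lrfl Lrfl
theorem f183596 : Led Lsl_gt (LP (LK LD1_c8 LD2_c39 LD3_c37)) = (LP (LK LD1_c4 LD2_c20 LD3_c58)) :=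
  Lre_g IH (LK LD1_c8 LD2_c39 LD3_c37) (LK LD1_c4 LD2_c20 LD3_c58) Lrfl Lrfl
theorem f183597 : Led Lsl_ct (LP (LK LD1_c16 LD2_c13 LD3_c11)) = (LP (LK LD1_c8 LD2_c39 LD3_c37)) :=
  Lre_c IH (LK LD1_c16 LD2_c13 LD3_c11) (LK LD1_c8 LD2_c39 LD3_c37) Lrfl Lrfl
theorem f930913 : Led Lsl_bf (LP (LK LD1_c25 LD2_c19 LD3_c23)) = (LP (LK LD1_c16 LD2_c13 LD3_c11)) :=
  Lgr Lrot34 (Lpr_gf (f930909 IH) (Lpe (f179079 IH) (Lpr_ct (K16.f55040 IH) (Lpe (K11.f47858 IH) (Lpe (K16.f182604 IH) (Lpr_gf (K11.f183591 IH) (Lpe (K11.f48104 IH) (Lpr_ct (K10.f48107 IH) (Lpe (f183596 IH) (Lpe (f183597 IH) (Lpn (LP (LK LD1_c16 LD2_c13 LD3_c11)))))))))))))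
theorem f930905 : Led Lsl_ft (LP (LK LD1_c25 LD2_c19 LD3_c23)) = (LP (LK LD1_c15 LD2_c27 LD3_c35)) :=
  Lre_f IH (LK LD1_c25 LD2_c19 LD3_c23) (LK LD1_c15 LD2_c27 LD3_c35) Lrfl Lrfl
theorem f891497 : Led Lsl_bt (LP (LK LD1_c15 LD2_c27 LD3_c35)) = (LP (LK LD1_c25 LD2_c19 LD3_c21)) :=
  Lre_b IH (LK LD1_c15 LD2_c27 LD3_c35) (LK LD1_c25 LD2_c19 LD3_c21) Lrfl Lrfl
theorem f930918 : Led Lsl_ft (LP (LK LD1_c25 LD2_c19 LD3_c21)) = (LP (LK LD1_c16 LD2_c13 LD3_c11)) :=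
  Lgr Lrot75 (Lpe (f891497 IH) (Lpe (f930905 IH) (Lpr_bf (f930913 IH) (Lpn (LP (LK LD1_c16 LD2_c13 LD3_c11))))))
def v36934 : LQ := Led Lsl_gt (LP (LK LD1_c8 LD2_c39 LD3_c38))
theorem f891494 : Led Lsl_gt (LP (LK LD1_c8 LD2_c39 LD3_c38)) = v36934 :=
  Lrfl
theorem f891495 : Led Lsl_gf (LP (LK LD1_c8 LD2_c39 LD3_c40)) = v36934 :=
  Lgr Lrot76 (Lpe (K72.f31270 IH) (Lpe (K43.f31321 IH) (Lpr_gt (f891494 IH) (Lpn v36934))))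
theorem f54721 : Led Lsl_bt (LP (LK LD1_c4 LD2_c6 LD3_c15)) = (LP (LK LD1_c8 LD2_c13 LD3_c6)) :=
  Lre_b IH (LK LD1_c4 LD2_c6 LD3_c15) (LK LD1_c8 LD2_c13 LD3_c6) Lrfl Lrfl
theorem f54953 : Led Lsl_gt (LP (LK LD1_c8 LD2_c13 LD3_c6)) = (LP (LK LD1_c15 LD2_c27 LD3_c35)) :=
  Lre_g IH (LK LD1_c8 LD2_c13 LD3_c6) (LK LD1_c15 LD2_c27 LD3_c35) Lrfl Lrfl
theorem f216119 : Led Lsl_bt (LP (LK LD1_c25 LD2_c19 LD3_c21)) = (LP (LK LD1_c15 LD2_c27 LD3_c35)) :=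
  Lre_b IH (LK LD1_c25 LD2_c19 LD3_c21) (LK LD1_c15 LD2_c27 LD3_c35) Lrfl Lrfl
theorem f891496 : Led Lsl_ct (LP (LK LD1_c25 LD2_c19 LD3_c21)) = v36934 :=
  Lgr Lrot64 (Lpr_bt (f216119 IH) (Lpe (f54953 IH) (Lpe (f54721 IH) (Lpr_ct (K15.f54518 IH) (Lpr_gf (K14.f214075 IH) (Lpe (K25.f213974 IH) (Lpe (K13.f216109 IH) (Lpe (K72.f183590 IH) (Lpr_ct (K68.f187989 IH) (Lpr_gf (f891495 IH) (Lpn v36934)))))))))))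
theorem f891498 : Led Lsl_cf (LP (LK LD1_c25 LD2_c19 LD3_c21)) = v36934 :=
  Lgr Lrot11 (Lpr_ct (f891496 IH) (Lpn v36934))
theorem f619048 : Led Lsl_ft (LP (LK LD1_c8 LD2_c39 LD3_c37)) = (LP (LK LD1_c16 LD2_c13 LD3_c5)) :=
  Lre_f IH (LK LD1_c8 LD2_c39 LD3_c37) (LK LD1_c16 LD2_c13 LD3_c5) Lrfl Lrfl
theorem f930924 : v36934 = (LP (LK LD1_c16 LD2_c13 LD3_c5)) :=
  (Llr Lrot108 (Lpe (f891498 IH) (Lpr_ft (f930918 IH) (Lpr_ct (f183597 IH) (Lpr_ft (f619048 IH) (Lpn (LP (LK LD1_c16 LD2_c13 LD3_c5)))))))).symm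
theorem f930933 : (LP (LK LD1_c16 LD2_c13 LD3_c10)) = K68.v36935 :=
  (Llr Lrot26 (Lpe (K72.f891485 IH) (Lpe (K72.f891489 IH) (Lpq (f930924 IH) (Lpe (f891495 IH) (Lpr_gt (K68.f891502 IH) (Lpn K68.v36935))))))).symm
theorem f891487 : Led Lsl_at (LP (LK LD1_c16 LD2_c13 LD3_c10)) = (LP (LK LD1_c8 LD2_c39 LD3_c37)) :=
  Lre_a IH (LK LD1_c16 LD2_c13 LD3_c10) (LK LD1_c8 LD2_c39 LD3_c37) Lrfl Lrfl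
theorem f31406 : Led Lsl_ct (LP (LK LD1_c8 LD2_c39 LD3_c37)) = (LP (LK LD1_c16 LD2_c13 LD3_c11)) :=
  Lre_c IH (LK LD1_c8 LD2_c39 LD3_c37) (LK LD1_c16 LD2_c13 LD3_c11) Lrfl Lrfl
theorem f930958 : Led Lsl_af (LP (LK LD1_c25 LD2_c21 LD3_c60)) = (LP (LK LD1_c16 LD2_c13 LD3_c11)) :=
  Lgr Lrot68 (Lpr_ct (K68.f891506 IH) (Lpq (f930933 IH) (Lpr_at (f891487 IH) (Lpr_ct (f31406 IH) (Lpn (LP (LK LD1_c16 LD2_c13 LD3_c11)))))))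
theorem f421712 : Led Lsl_dt (LP (LK LD1_c19 LD2_c26 LD3_c59)) = (LP (LK LD1_c10 LD2_c45 LD3_c15)) :=
  Lre_d IH (LK LD1_c19 LD2_c26 LD3_c59) (LK LD1_c10 LD2_c45 LD3_c15) Lrfl Lrfl
theorem f555867 : Led Lsl_dt (LP (LK LD1_c19 LD2_c26 LD3_c58)) = (LP (LK LD1_c16 LD2_c13 LD3_c7)) :=
  Lgr Lrot79 (Lpe (K72.f555866 IH) (Lpe (f421712 IH) (Lpr_bf (K39.f555856 IH) (Lpn (LP (LK LD1_c16 LD2_c13 LD3_c7))))))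
theorem f619040 : Led Lsl_df (LP (LK LD1_c19 LD2_c26 LD3_c58)) = (LP (LK LD1_c16 LD2_c13 LD3_c7)) :=
  Lgr Lrot38 (Lpr_dt (f555867 IH) (Lpn (LP (LK LD1_c16 LD2_c13 LD3_c7))))
theorem f930780 : Led Lsl_ft (LP (LK LD1_c25 LD2_c21 LD3_c60)) = (LP (LK LD1_c16 LD2_c13 LD3_c7)) :=
  Lgr Lrot54 (Lpe (K72.f891511 IH) (Lpr_ff (K72.f930776 IH) (Lpr_df (f619040 IH) (Lpn (LP (LK LD1_c16 LD2_c13 LD3_c7))))))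
theorem f930964 : Led Lsl_at (LP (LK LD1_c16 LD2_c13 LD3_c7)) = (LP (LK LD1_c25 LD2_c19 LD3_c21)) :=
  Lgr Lrot66 (Lpe (f930780 IH) (Lpr_af (f930958 IH) (Lpe (f930918 IH) (Lpn (LP (LK LD1_c25 LD2_c19 LD3_c21))))))
theorem f930752 : Led Lsl_ft (LP (LK LD1_c19 LD2_c27 LD3_c7)) = (LP (LK LD1_c28 LD2_c33 LD3_c24)) :=
  Lgr Lrot75 (Lpe (K72.f930723 IH) (Lpr_ff (K72.f930750 IH) (Lpe (K72.f198892 IH) (Lpn (LP (LK LD1_c28 LD2_c33 LD3_c24))))))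
theorem f930768 : Led Lsl_ft (LP (LK LD1_c25 LD2_c21 LD3_c59)) = (LP (LK LD1_c25 LD2_c53 LD3_c2)) :=
  Lgr Lrot4 (Lpr_cf (K72.f930764 IH) (Lpe (f930752 IH) (Lpe (K72.f930686 IH) (Lpn (LP (LK LD1_c25 LD2_c53 LD3_c2))))))
theorem f930778 : Led Lsl_at (LP (LK LD1_c25 LD2_c53 LD3_c2)) = (LP (LK LD1_c19 LD2_c26 LD3_c58)) :=
  Lgr Lrot66 (Lpe (f930768 IH) (Lpe (K72.f930654 IH) (Lpr_ff (K72.f930776 IH) (Lpn (LP (LK LD1_c19 LD2_c26 LD3_c58))))))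
theorem f930968 : Led Lsl_df (LP (LK LD1_c25 LD2_c53 LD3_c2)) = (LP (LK LD1_c25 LD2_c19 LD3_c21)) :=
  Lgr Lrot18 (Lpr_at (f930778 IH) (Lpr_dt (f555867 IH) (Lpr_at (f930964 IH) (Lpn (LP (LK LD1_c25 LD2_c19 LD3_c21))))))
theorem f930922 : Led Lsl_ff (LP (LK LD1_c25 LD2_c19 LD3_c21)) = (LP (LK LD1_c16 LD2_c13 LD3_c11)) :=
  Lgr Lrot3 (Lpr_ft (f930918 IH) (Lpn (LP (LK LD1_c16 LD2_c13 LD3_c11))))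
theorem f930760 : Led Lsl_gf (LP (LK LD1_c19 LD2_c27 LD3_c6)) = (LP (LK LD1_c28 LD2_c33 LD3_c24)) :=
  Lgr Lrot47 (Lpr_gt (K72.f216094 IH) (Lpe (K72.f619064 IH) (Lpr_ff (K72.f930756 IH) (Lpn (LP (LK LD1_c28 LD2_c33 LD3_c24))))))
theorem f555424 : Led Lsl_at (LP (LK LD1_c25 LD2_c20 LD3_c46)) = (LP (LK LD1_c19 LD2_c27 LD3_c6)) :=
  Lgr Lrot100 (Lpr_af (K72.f555404 IH) (Lpn (LP (LK LD1_c19 LD2_c27 LD3_c6))))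
theorem f182708 : Led Lsl_ct (LP (LK LD1_c25 LD2_c20 LD3_c46)) = (LP (LK LD1_c15 LD2_c28 LD3_c31)) :=
  Lre_c IH (LK LD1_c25 LD2_c20 LD3_c46) (LK LD1_c15 LD2_c28 LD3_c31) Lrfl Lrfl
theorem f555394 : Led Lsl_ff (LP (LK LD1_c25 LD2_c20 LD3_c46)) = (LP (LK LD1_c19 LD2_c7 LD3_c52)) :=
  Lgr Lrot23 (Lpr_ct (f182708 IH) (Lpr_ft (K72.f555388 IH) (Lpe (K72.f216105 IH) (Lpn (LP (LK LD1_c19 LD2_c7 LD3_c52))))))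
theorem f930762 : Led Lsl_gt (LP (LK LD1_c19 LD2_c7 LD3_c52)) = (LP (LK LD1_c28 LD2_c33 LD3_c24)) :=
  Lgr Lrot5 (Lpe (f555394 IH) (Lpr_at (f555424 IH) (Lpr_gf (f930760 IH) (Lpn (LP (LK LD1_c28 LD2_c33 LD3_c24))))))
theorem f554846 : Led Lsl_af (LP (LK LD1_c16 LD2_c12 LD3_c53)) = (LP (LK LD1_c15 LD2_c30 LD3_c24)) :=
  Lgr Lrot45 (Lpr_ft (K39.f554805 IH) (Lpe (K39.f554811 IH) (Lpr_ft (K39.f554844 IH) (Lpn (LP (LK LD1_c15 LD2_c30 LD3_c24))))))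
theorem f603094 : Led Lsl_gf (LP (LK LD1_c25 LD2_c19 LD3_c55)) = (LP (LK LD1_c16 LD2_c12 LD3_c52)) :=
  Lgr Lrot47 (Lpr_gt (K72.f603092 IH) (Lpr_af (f554846 IH) (Lpe (K39.f554844 IH) (Lpn (LP (LK LD1_c16 LD2_c12 LD3_c52))))))
theorem f603084 : Led Lsl_ct (LP (LK LD1_c25 LD2_c19 LD3_c55)) = (LP (LK LD1_c16 LD2_c13 LD3_c4)) :=
  Lgr Lrot40 (Lpr_ff (K72.f603080 IH) (Lpe (K68.f31315 IH) (Lpe (K43.f31401 IH) (Lpn (LP (LK LD1_c16 LD2_c13 LD3_c4))))))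
theorem f31402 : Led Lsl_gt (LP (LK LD1_c16 LD2_c13 LD3_c4)) = (LP (LK LD1_c8 LD2_c39 LD3_c37)) :=
  Lre_g IH (LK LD1_c16 LD2_c13 LD3_c4) (LK LD1_c8 LD2_c39 LD3_c37) Lrfl Lrfl
theorem f930770 : Led Lsl_dt (LP (LK LD1_c25 LD2_c21 LD3_c59)) = (LP (LK LD1_c16 LD2_c13 LD3_c11)) :=
  Lgr Lrot27 (Lpr_cf (K72.f930764 IH) (Lpe (f930762 IH) (Lpr_cf (K72.f216105 IH) (Lpe (K39.f342784 IH) (Lpe (K39.f554817 IH) (Lpe (f603094 IH) (Lpr_ct (f603084 IH) (Lpr_gt (f31402 IH) (Lpr_ct (f31406 IH) (Lpn (LP (LK LD1_c16 LD2_c13 LD3_c11))))))))))))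
theorem f930986 : Led Lsl_ft (LP (LK LD1_c25 LD2_c53 LD3_c2)) = (LP (LK LD1_c25 LD2_c21 LD3_c59)) :=
  Lgr Lrot54 (Lpr_df (f930968 IH) (Lpr_ff (f930922 IH) (Lpe (f930770 IH) (Lpn (LP (LK LD1_c25 LD2_c21 LD3_c59))))))
theorem f930988 : Led Lsl_ft (LP (LK LD1_c25 LD2_c53 LD3_c4)) = (LP (LK LD1_c15 LD2_c56 LD3_c32)) :=
  Lre_f IH (LK LD1_c25 LD2_c53 LD3_c4) (LK LD1_c15 LD2_c56 LD3_c32) Lrfl Lrfl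
theorem f930989 : Led Lsl_bf (LP (LK LD1_c25 LD2_c53 LD3_c4)) = (LP (LK LD1_c25 LD2_c21 LD3_c59)) :=
  Lgr Lrot61 (Lpr_ft (f930988 IH) (Lpr_bt (K72.f183581 IH) (Lpr_ft (f930986 IH) (Lpn (LP (LK LD1_c25 LD2_c21 LD3_c59))))))
theorem f881221 : Led Lsl_at (LP (LK LD1_c25 LD2_c53 LD3_c4)) = (LP (LK LD1_c15 LD2_c56 LD3_c36)) :=
  Lre_a IH (LK LD1_c25 LD2_c53 LD3_c4) (LK LD1_c15 LD2_c56 LD3_c36) Lrfl Lrfl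
def v35934 : LQ := Led Lsl_gf (LP (LK LD1_c8 LD2_c13 LD3_c57))
theorem f881218 : Led Lsl_gf (LP (LK LD1_c8 LD2_c13 LD3_c57)) = v35934 :=
  Lrfl
theorem f45633 : Led Lsl_gt (LP (LK LD1_c15 LD2_c56 LD3_c29)) = (LP (LK LD1_c8 LD2_c29 LD3_c26)) :=
  Lre_g IH (LK LD1_c15 LD2_c56 LD3_c29) (LK LD1_c8 LD2_c29 LD3_c26) Lrfl Lrfl
theorem f183582 : Led Lsl_ct (LP (LK LD1_c15 LD2_c56 LD3_c36)) = (LP (LK LD1_c8 LD2_c29 LD3_c26)) :=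
  Lre_c IH (LK LD1_c15 LD2_c56 LD3_c36) (LK LD1_c8 LD2_c29 LD3_c26) Lrfl Lrfl
theorem f881220 : Led Lsl_bt (LP (LK LD1_c15 LD2_c56 LD3_c36)) = v35934 :=
  Lgr Lrot130 (Lpr_ct (f183582 IH) (Lpe (f45633 IH) (Lpe (K72.f183535 IH) (Lpe (K72.f603076 IH) (Lpr_gf (f603094 IH) (Lpr_bf (K39.f554848 IH) (Lpr_ct (K39.f554687 IH) (Lpe (K67.f554859 IH) (Lpe (K1.f54756 IH) (Lpr_gf (f881218 IH) (Lpn v35934)))))))))))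
theorem f823108 : Led Lsl_bt (LP (LK LD1_c8 LD2_c13 LD3_c56)) = (LP (LK LD1_c15 LD2_c29 LD3_c13)) :=
  Lre_b IH (LK LD1_c8 LD2_c13 LD3_c56) (LK LD1_c15 LD2_c29 LD3_c13) Lrfl Lrfl
theorem f823110 : Led Lsl_at (LP (LK LD1_c15 LD2_c29 LD3_c12)) = (LP (LK LD1_c8 LD2_c13 LD3_c56)) :=
  Lre_a IH (LK LD1_c15 LD2_c29 LD3_c12) (LK LD1_c8 LD2_c13 LD3_c56) Lrfl Lrfl
theorem f931000 : v35934 = (LP (LK LD1_c15 LD2_c29 LD3_c12)) :=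
  (Llr Lrot62 (Lpe (f881220 IH) (Lpe (f881221 IH) (Lpr_bf (f930989 IH) (Lpe (K72.f930654 IH) (Lpe (f823108 IH) (Lpe (f823110 IH) (Lpn (LP (LK LD1_c15 LD2_c29 LD3_c12)))))))))).symm
theorem f881222 : Led Lsl_bf (LP (LK LD1_c15 LD2_c56 LD3_c36)) = v35934 :=
  Lgr Lrot24 (Lpr_bt (f881220 IH) (Lpn v35934))
theorem f931005 : Led Lsl_ff (LP (LK LD1_c15 LD2_c29 LD3_c9)) = (LP (LK LD1_c15 LD2_c56 LD3_c36)) :=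
  Lgr Lrot25 (Lpr_bt (K72.f194293 IH) (Lpr_ft (K72.f823111 IH) (Lpq (f931000 IH) (Lpe (f881222 IH) (Lpn (LP (LK LD1_c15 LD2_c56 LD3_c36)))))))
theorem f931011 : Led Lsl_ft (LP (LK LD1_c15 LD2_c29 LD3_c9)) = (LP (LK LD1_c15 LD2_c56 LD3_c36)) :=
  Lgr Lrot48 (Lpr_ff (f931005 IH) (Lpn (LP (LK LD1_c15 LD2_c56 LD3_c36))))
theorem f881223 : Led Lsl_at (LP (LK LD1_c15 LD2_c56 LD3_c36)) = (LP (LK LD1_c25 LD2_c53 LD3_c4)) :=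
  Lre_a IH (LK LD1_c15 LD2_c56 LD3_c36) (LK LD1_c25 LD2_c53 LD3_c4) Lrfl Lrfl
theorem f930766 : Led Lsl_ct (LP (LK LD1_c25 LD2_c21 LD3_c59)) = (LP (LK LD1_c28 LD2_c33 LD3_c24)) :=
  Lgr Lrot59 (Lpr_cf (K72.f930764 IH) (Lpn (LP (LK LD1_c28 LD2_c33 LD3_c24))))
theorem f554672 : Led Lsl_cf (LP (LK LD1_c8 LD2_c14 LD3_c32)) = (LP (LK LD1_c15 LD2_c28 LD3_c51)) :=
  Lgr Lrot108 (Lpr_ft (K39.f554671 IH) (Lpr_ct (K39.f178254 IH) (Lpr_ft (K39.f554665 IH) (Lpn (LP (LK LD1_c15 LD2_c28 LD3_c51))))))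
theorem f274248 : Led Lsl_bt (LP (LK LD1_c15 LD2_c28 LD3_c51)) = (LP (LK LD1_c8 LD2_c13 LD3_c46)) :=
  Lre_b IH (LK LD1_c15 LD2_c28 LD3_c51) (LK LD1_c8 LD2_c13 LD3_c46) Lrfl Lrfl
theorem f554872 : Led Lsl_bt (LP (LK LD1_c17 LD2_c50 LD3_c0)) = (LP (LK LD1_c15 LD2_c28 LD3_c36)) :=
  Lgr Lrot92 (Lpe (K72.f421718 IH) (Lpr_gt (K72.f216094 IH) (Lpe (K72.f216097 IH) (Lpr_bt (K72.f216101 IH) (Lpr_gt (K39.f421705 IH) (Lpr_ct (K39.f177486 IH) (Lpr_gt (K39.f554861 IH) (Lpr_cf (f554672 IH) (Lpr_bt (f274248 IH) (Lpr_gt (K17.f274245 IH) (Lpn (LP (LK LD1_c15 LD2_c28 LD3_c36)))))))))))))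
theorem f274257 : Led Lsl_bt (LP (LK LD1_c15 LD2_c29 LD3_c1)) = (LP (LK LD1_c25 LD2_c21 LD3_c35)) :=
  Lre_b IH (LK LD1_c15 LD2_c29 LD3_c1) (LK LD1_c25 LD2_c21 LD3_c35) Lrfl Lrfl
theorem f930998 : Led Lsl_gf (LP (LK LD1_c25 LD2_c53 LD3_c4)) = (LP (LK LD1_c25 LD2_c21 LD3_c35)) :=
  Lgr Lrot124 (Lpr_bf (f930989 IH) (Lpr_ct (f930766 IH) (Lpe (f930760 IH) (Lpr_cf (K72.f421718 IH) (Lpr_bt (f554872 IH) (Lpr_gt (K16.f195952 IH) (Lpe (K17.f274183 IH) (Lpr_gt (K17.f264906 IH) (Lpe (K17.f274255 IH) (Lpr_bt (f274257 IH) (Lpn (LP (LK LD1_c25 LD2_c21 LD3_c35)))))))))))))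
theorem f931120 : Led Lsl_gt (LP (LK LD1_c15 LD2_c29 LD3_c9)) = (LP (LK LD1_c25 LD2_c21 LD3_c35)) :=
  Lgr Lrot5 (Lpr_ft (f931011 IH) (Lpr_at (f881223 IH) (Lpr_gf (f930998 IH) (Lpn (LP (LK LD1_c25 LD2_c21 LD3_c35))))))
theorem f881209 : Led Lsl_bt (LP (LK LD1_c8 LD2_c13 LD3_c55)) = (LP (LK LD1_c15 LD2_c29 LD3_c9)) :=
  Lre_b IH (LK LD1_c8 LD2_c13 LD3_c55) (LK LD1_c15 LD2_c29 LD3_c9) Lrfl Lrfl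
def v35932 : LQ := Led Lsl_ct (LP (LK LD1_c8 LD2_c13 LD3_c55))
theorem f881211 : Led Lsl_ct (LP (LK LD1_c8 LD2_c13 LD3_c55)) = v35932 :=
  Lrfl
theorem f554654 : Led Lsl_at (LP (LK LD1_c8 LD2_c14 LD3_c30)) = (LP (LK LD1_c15 LD2_c30 LD3_c12)) :=
  Lre_a IH (LK LD1_c8 LD2_c14 LD3_c30) (LK LD1_c15 LD2_c30 LD3_c12) Lrfl Lrfl
theorem f554866 : Led Lsl_gf (LP (LK LD1_c21 LD2_c1 LD3_c0)) = (LP (LK LD1_c15 LD2_c28 LD3_c51)) :=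
  Lgr Lrot47 (Lpr_gt (K45.f554863 IH) (Lpe (f554654 IH) (Lpr_ff (K39.f554650 IH) (Lpn (LP (LK LD1_c15 LD2_c28 LD3_c51))))))
theorem f931122 : Led Lsl_gf v35932 = (LP (LK LD1_c11 LD2_c56 LD3_c10)) :=
  Lgr Lrot129 (Lpe (f881211 IH) (Lpr_bt (f881209 IH) (Lpr_gt (f931120 IH) (Lpe (f274257 IH) (Lpr_ct (K17.f274255 IH) (Lpe (K17.f274252 IH) (Lpr_cf (K17.f274327 IH) (Lpr_bt (K39.f274339 IH) (Lpe (f554866 IH) (Lpr_ct (K45.f256193 IH) (Lpn (LP (LK LD1_c11 LD2_c56 LD3_c10)))))))))))))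
theorem f881212 : Led Lsl_cf (LP (LK LD1_c8 LD2_c13 LD3_c55)) = v35932 :=
  Lgr Lrot11 (Lpr_ct (f881211 IH) (Lpn v35932))
theorem f194292 : Led Lsl_gt (LP (LK LD1_c8 LD2_c13 LD3_c55)) = (LP (LK LD1_c15 LD2_c29 LD3_c8)) :=
  Lre_g IH (LK LD1_c8 LD2_c13 LD3_c55) (LK LD1_c15 LD2_c29 LD3_c8) Lrfl Lrfl
theorem f194291 : Led Lsl_ct (LP (LK LD1_c15 LD2_c29 LD3_c8)) = (LP (LK LD1_c8 LD2_c14 LD3_c27)) :=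
  Lre_c IH (LK LD1_c15 LD2_c29 LD3_c8) (LK LD1_c8 LD2_c14 LD3_c27) Lrfl Lrfl
theorem f54770 : Led Lsl_dt (LP (LK LD1_c8 LD2_c14 LD3_c35)) = (LP (LK LD1_c4 LD2_c6 LD3_c61)) :=
  Lre_d IH (LK LD1_c8 LD2_c14 LD3_c35) (LK LD1_c4 LD2_c6 LD3_c61) Lrfl Lrfl
theorem f691597 : Led Lsl_dt (LP (LK LD1_c8 LD2_c14 LD3_c27)) = K49.v12338 :=
  Lgr Lrot60 (Lpe (K67.f54782 IH) (Lpe (f54770 IH) (Lpr_ff (K49.f691595 IH) (Lpn K49.v12338))))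
theorem f881058 : Led Lsl_cf K49.v12338 = K67.v35908 :=
  Lgr Lrot1 (Lpe (K49.f691593 IH) (Lpr_ct (K1.f55482 IH) (Lpr_at (K67.f881056 IH) (Lpn K67.v35908))))
theorem f55529 : Led Lsl_gt (LP (LK LD1_c8 LD2_c14 LD3_c38)) = (LP (LK LD1_c15 LD2_c30 LD3_c29)) :=
  Lre_g IH (LK LD1_c8 LD2_c14 LD3_c38) (LK LD1_c15 LD2_c30 LD3_c29) Lrfl Lrfl
theorem f881060 : Led Lsl_gt (LP (LK LD1_c15 LD2_c30 LD3_c29)) = K67.v35908 :=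
  Lgr Lrot46 (Lpe (f55529 IH) (Lpr_ft (K67.f55469 IH) (Lpr_at (K67.f881056 IH) (Lpn K67.v35908))))
theorem f198650 : Led Lsl_bt (LP (LK LD1_c10 LD2_c45 LD3_c37)) = (LP (LK LD1_c5 LD2_c27 LD3_c15)) :=
  Lre_b IH (LK LD1_c10 LD2_c45 LD3_c37) (LK LD1_c5 LD2_c27 LD3_c15) Lrfl Lrfl
theorem f183485 : Led Lsl_bt (LP (LK LD1_c6 LD2_c8 LD3_c19)) = (LP (LK LD1_c11 LD2_c58 LD3_c28)) :=
  Lre_b IH (LK LD1_c6 LD2_c8 LD3_c19) (LK LD1_c11 LD2_c58 LD3_c28) Lrfl Lrfl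
theorem f924170 : Led Lsl_ff (LP (LK LD1_c10 LD2_c45 LD3_c37)) = (LP (LK LD1_c11 LD2_c58 LD3_c28)) :=
  Lgr Lrot25 (Lpr_bt (f198650 IH) (Lpqs (K72.f924147 IH) (Lpe (K72.f752328 IH) (Lpr_bt (f183485 IH) (Lpn (LP (LK LD1_c11 LD2_c58 LD3_c28)))))))
theorem f924224 : Led Lsl_ft (LP (LK LD1_c10 LD2_c45 LD3_c37)) = (LP (LK LD1_c11 LD2_c58 LD3_c28)) :=
  Lgr Lrot48 (Lpr_ff (f924170 IH) (Lpn (LP (LK LD1_c11 LD2_c58 LD3_c28))))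
theorem f55480 : Led Lsl_bt (LP (LK LD1_c4 LD2_c6 LD3_c2)) = (LP (LK LD1_c2 LD2_c0 LD3_c18)) :=
  Lre_b IH (LK LD1_c4 LD2_c6 LD3_c2) (LK LD1_c2 LD2_c0 LD3_c18) Lrfl Lrfl
theorem f198651 : Led Lsl_ct (LP (LK LD1_c10 LD2_c45 LD3_c37)) = (LP (LK LD1_c15 LD2_c26 LD3_c56)) :=
  Lgr Lrot64 (Lpr_bt (f198650 IH) (Lpe (K72.f168218 IH) (Lpe (K30.f8853 IH) (Lpr_ct (K53.f9053 IH) (Lpr_gf (K11.f198637 IH) (Lpr_cf (K17.f183187 IH) (Lpe (K9.f183063 IH) (Lpe (f55480 IH) (Lpr_ct (K1.f55482 IH) (Lpe (K67.f183076 IH) (Lpn (LP (LK LD1_c15 LD2_c26 LD3_c56)))))))))))))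
theorem f198657 : Led Lsl_cf (LP (LK LD1_c10 LD2_c45 LD3_c37)) = (LP (LK LD1_c15 LD2_c26 LD3_c56)) :=
  Lgr Lrot11 (Lpr_ct (f198651 IH) (Lpn (LP (LK LD1_c15 LD2_c26 LD3_c56))))
theorem f55533 : Led Lsl_gt (LP (LK LD1_c15 LD2_c30 LD3_c30)) = (LP (LK LD1_c8 LD2_c14 LD3_c38)) :=
  Lre_g IH (LK LD1_c15 LD2_c30 LD3_c30) (LK LD1_c8 LD2_c14 LD3_c38) Lrfl Lrfl
theorem f183481 : Led Lsl_bt (LP (LK LD1_c11 LD2_c58 LD3_c28)) = (LP (LK LD1_c6 LD2_c8 LD3_c19)) :=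
  Lre_b IH (LK LD1_c11 LD2_c58 LD3_c28) (LK LD1_c6 LD2_c8 LD3_c19) Lrfl Lrfl
theorem f183482 : Led Lsl_cf (LP (LK LD1_c15 LD2_c30 LD3_c30)) = (LP (LK LD1_c11 LD2_c58 LD3_c28)) :=
  Lgr Lrot160 (Lpr_gt (f55533 IH) (Lpe (K67.f55467 IH) (Lpr_bt (K1.f55462 IH) (Lpe (K10.f183362 IH) (Lpr_ct (K39.f183376 IH) (Lpr_gt (K9.f9044 IH) (Lpe (K9.f9029 IH) (Lpr_bt (K0.f9007 IH) (Lpr_gt (K56.f8984 IH) (Lpe (f183481 IH) (Lpn (LP (LK LD1_c11 LD2_c58 LD3_c28)))))))))))))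
theorem f924226 : Led Lsl_ff (LP (LK LD1_c15 LD2_c26 LD3_c56)) = (LP (LK LD1_c15 LD2_c30 LD3_c30)) :=
  Lgr Lrot23 (Lpe (f198657 IH) (Lpr_ft (f924224 IH) (Lpe (f183482 IH) (Lpn (LP (LK LD1_c15 LD2_c30 LD3_c30))))))
theorem f924228 : Led Lsl_at (LP (LK LD1_c15 LD2_c26 LD3_c56)) = (LP (LK LD1_c15 LD2_c30 LD3_c29)) :=
  Lgr Lrot26 (Lpr_ff (f924226 IH) (Lpr_gt (f55533 IH) (Lpr_gt (f55529 IH) (Lpn (LP (LK LD1_c15 LD2_c30 LD3_c29))))))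
theorem f198653 : Led Lsl_at (LP (LK LD1_c19 LD2_c27 LD3_c37)) = (LP (LK LD1_c10 LD2_c45 LD3_c37)) :=
  Lre_a IH (LK LD1_c19 LD2_c27 LD3_c37) (LK LD1_c10 LD2_c45 LD3_c37) Lrfl Lrfl
theorem f924232 : Led Lsl_cf (LP (LK LD1_c19 LD2_c27 LD3_c37)) = (LP (LK LD1_c15 LD2_c30 LD3_c29)) :=
  Lgr Lrot1 (Lpr_at (f198653 IH) (Lpr_ct (f198651 IH) (Lpr_at (f924228 IH) (Lpn (LP (LK LD1_c15 LD2_c30 LD3_c29))))))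
theorem f924234 : Led Lsl_ct (LP (LK LD1_c19 LD2_c27 LD3_c37)) = (LP (LK LD1_c15 LD2_c30 LD3_c29)) :=
  Lgr Lrot59 (Lpr_cf (f924232 IH) (Lpn (LP (LK LD1_c15 LD2_c30 LD3_c29))))
theorem f923729 : Led Lsl_ft (LP (LK LD1_c11 LD2_c56 LD3_c10)) = (LP (LK LD1_c10 LD2_c45 LD3_c2)) :=
  Lgr Lrot4 (Lpe (K45.f256193 IH) (Lpr_ff (K71.f923727 IH) (Lpe (K39.f187582 IH) (Lpn (LP (LK LD1_c10 LD2_c45 LD3_c2))))))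
theorem f186583 : Led Lsl_bt (LP (LK LD1_c10 LD2_c18 LD3_c30)) = (LP (LK LD1_c18 LD2_c43 LD3_c29)) :=
  Lre_b IH (LK LD1_c10 LD2_c18 LD3_c30) (LK LD1_c18 LD2_c43 LD3_c29) Lrfl Lrfl
theorem f603460 : Led Lsl_df (LP (LK LD1_c10 LD2_c45 LD3_c2)) = (LP (LK LD1_c18 LD2_c43 LD3_c29)) :=
  Lgr Lrot12 (Lpr_bt (K39.f187581 IH) (Lpr_dt (K71.f603458 IH) (Lpr_bt (f186583 IH) (Lpn (LP (LK LD1_c18 LD2_c43 LD3_c29))))))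
theorem f603487 : Led Lsl_dt (LP (LK LD1_c10 LD2_c45 LD3_c2)) = (LP (LK LD1_c18 LD2_c43 LD3_c29)) :=
  Lgr Lrot42 (Lpr_df (f603460 IH) (Lpn (LP (LK LD1_c18 LD2_c43 LD3_c29))))
theorem f164062 : Led Lsl_bt (LP (LK LD1_c18 LD2_c17 LD3_c8)) = (LP (LK LD1_c10 LD2_c0 LD3_c16)) :=
  Lre_b IH (LK LD1_c18 LD2_c17 LD3_c8) (LK LD1_c10 LD2_c0 LD3_c16) Lrfl Lrfl
theorem f603531 : Led Lsl_ff (LP (LK LD1_c18 LD2_c17 LD3_c8)) = (LP (LK LD1_c18 LD2_c43 LD3_c29)) :=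
  Lgr Lrot25 (Lpr_bt (f164062 IH) (Lpr_ft (K71.f586497 IH) (Lpr_bt (f186583 IH) (Lpn (LP (LK LD1_c18 LD2_c43 LD3_c29))))))
theorem f923795 : Led Lsl_df (LP (LK LD1_c11 LD2_c56 LD3_c10)) = (LP (LK LD1_c18 LD2_c17 LD3_c8)) :=
  Lgr Lrot78 (Lpr_ft (f923729 IH) (Lpr_dt (f603487 IH) (Lpe (f603531 IH) (Lpn (LP (LK LD1_c18 LD2_c17 LD3_c8))))))
theorem f931126 : Led Lsl_gf (LP (LK LD1_c19 LD2_c27 LD3_c37)) = (LP (LK LD1_c18 LD2_c17 LD3_c8)) :=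
  Lgr Lrot147 (Lpr_ct (f924234 IH) (Lpr_gt (f881060 IH) (Lpe (f881058 IH) (Lpe (f691597 IH) (Lpe (f194291 IH) (Lpe (f194292 IH) (Lpr_cf (f881212 IH) (Lpr_gf (f931122 IH) (Lpr_df (f923795 IH) (Lpn (LP (LK LD1_c18 LD2_c17 LD3_c8))))))))))))
theorem f931127 : Led Lsl_gt (LP (LK LD1_c18 LD2_c17 LD3_c8)) = (LP (LK LD1_c19 LD2_c27 LD3_c37)) :=
  Leop (Lpr_gf (f931126 IH) (Lpn (LP (LK LD1_c18 LD2_c17 LD3_c8))))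
theorem seed_2577 : LEOK LG_g (LK LD1_c18 LD2_c17 LD3_c8) :=
  Leoe_g (LK LD1_c18 LD2_c17 LD3_c8) (f931127 IH)
def v41988 : LQ := Led Lsl_ft (LP (LK LD1_c10 LD2_c4 LD3_c42))
theorem f931324 : Led Lsl_ft (LP (LK LD1_c10 LD2_c4 LD3_c42)) = v41988 :=
  Lrfl
theorem f931329 : Led Lsl_ff (LP (LK LD1_c10 LD2_c4 LD3_c42)) = v41988 :=
  Lgr Lrot3 (Lpr_ft (f931324 IH) (Lpn v41988))
theorem f198785 : Led Lsl_ct (LP (LK LD1_c10 LD2_c3 LD3_c53)) = (LP (LK LD1_c5 LD2_c13 LD3_c50)) :=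
  Lgr Lrot59 (Lpr_cf (K53.f198714 IH) (Lpn (LP (LK LD1_c5 LD2_c13 LD3_c50))))
theorem f405218 : Led Lsl_af (LP (LK LD1_c10 LD2_c3 LD3_c53)) = (LP (LK LD1_c10 LD2_c4 LD3_c42)) :=
  Lgr Lrot68 (Lpr_ct (f198785 IH) (Lpr_at (K40.f405214 IH) (Lpr_ct (K53.f166264 IH) (Lpn (LP (LK LD1_c10 LD2_c4 LD3_c42))))))
def v41927 : LQ := Led Lsl_gf (LP (LK LD1_c10 LD2_c3 LD3_c53))
theorem f930214 : Led Lsl_gf (LP (LK LD1_c10 LD2_c3 LD3_c53)) = v41927 :=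
  Lrfl
theorem f931334 : Led Lsl_gf v41927 = v41988 :=
  Lgr Lrot47 (Lpe (f930214 IH) (Lpr_af (f405218 IH) (Lpr_ff (f931329 IH) (Lpn v41988))))
theorem f186547 : Led Lsl_cf (LP (LK LD1_c2 LD2_c33 LD3_c49)) = (LP (LK LD1_c5 LD2_c11 LD3_c16)) :=
  Lgr Lrot11 (Lpr_ct (K72.f186541 IH) (Lpn (LP (LK LD1_c5 LD2_c11 LD3_c16))))
theorem f930215 : Led Lsl_ct (LP (LK LD1_c10 LD2_c18 LD3_c23)) = v41927 :=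
  Lgr Lrot152 (Lpr_gf (K51.f301842 IH) (Lpe (K51.f301812 IH) (Lpe (K72.f406574 IH) (Lpr_ct (K72.f723873 IH) (Lpqs (K72.f752044 IH) (Lpe (K72.f722766 IH) (Lpe (f186547 IH) (Lpe (K46.f185112 IH) (Lpe (f198785 IH) (Lpr_gf (f930214 IH) (Lpn v41927)))))))))))
theorem f614488 : Led Lsl_ct (LP (LK LD1_c5 LD2_c7 LD3_c48)) = (LP (LK LD1_c10 LD2_c5 LD3_c50)) :=
  Lre_c IH (LK LD1_c5 LD2_c7 LD3_c48) (LK LD1_c10 LD2_c5 LD3_c50) Lrfl Lrfl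
theorem f166273 : Led Lsl_ct (LP (LK LD1_c10 LD2_c4 LD3_c42)) = (LP (LK LD1_c5 LD2_c7 LD3_c0)) :=
  Lre_c IH (LK LD1_c10 LD2_c4 LD3_c42) (LK LD1_c5 LD2_c7 LD3_c0) Lrfl Lrfl
theorem f166281 : Led Lsl_ft (LP (LK LD1_c5 LD2_c7 LD3_c0)) = (LP (LK LD1_c10 LD2_c4 LD3_c43)) :=
  Lre_f IH (LK LD1_c5 LD2_c7 LD3_c0) (LK LD1_c10 LD2_c4 LD3_c43) Lrfl Lrfl
theorem f931332 : Led Lsl_ct (LP (LK LD1_c10 LD2_c4 LD3_c43)) = v41988 :=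
  Lgr Lrot40 (Lpe (f166281 IH) (Lpe (f166273 IH) (Lpr_ff (f931329 IH) (Lpn v41988))))
theorem f699380 : Led Lsl_bf (LP (LK LD1_c9 LD2_c48 LD3_c1)) = (LP (LK LD1_c10 LD2_c4 LD3_c43)) :=
  Lgr Lrot24 (Lpr_bt (K72.f699378 IH) (Lpn (LP (LK LD1_c10 LD2_c4 LD3_c43))))
theorem f56251 : Led Lsl_ct (LP (LK LD1_c3 LD2_c0 LD3_c11)) = (LP (LK LD1_c6 LD2_c7 LD3_c56)) :=
  Lre_c IH (LK LD1_c3 LD2_c0 LD3_c11) (LK LD1_c6 LD2_c7 LD3_c56) Lrfl Lrfl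
theorem f539709 : Led Lsl_gt (LP (LK LD1_c6 LD2_c7 LD3_c56)) = (LP (LK LD1_c9 LD2_c48 LD3_c1)) :=
  Lgr Lrot150 (Lpe (f56251 IH) (Lpr_gf (K56.f539705 IH) (Lpe (K40.f387300 IH) (Lpr_gt (K36.f387298 IH) (Lpr_ct (K36.f386673 IH) (Lpr_gt (K27.f74574 IH) (Lpe (K37.f387147 IH) (Lpe (K39.f387077 IH) (Lpe (K53.f387072 IH) (Lpn (LP (LK LD1_c9 LD2_c48 LD3_c1))))))))))))
theorem f539715 : Led Lsl_bt (LP (LK LD1_c11 LD2_c57 LD3_c60)) = (LP (LK LD1_c6 LD2_c7 LD3_c56)) :=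
  Lre_b IH (LK LD1_c11 LD2_c57 LD3_c60) (LK LD1_c6 LD2_c7 LD3_c56) Lrfl Lrfl
theorem f568555 : Led Lsl_ct (LP (LK LD1_c2 LD2_c31 LD3_c7)) = (LP (LK LD1_c5 LD2_c7 LD3_c39)) :=
  Lre_c IH (LK LD1_c2 LD2_c31 LD3_c7) (LK LD1_c5 LD2_c7 LD3_c39) Lrfl Lrfl
theorem f568573 : Led Lsl_ef (LP (LK LD1_c2 LD2_c31 LD3_c9)) = (LP (LK LD1_c5 LD2_c7 LD3_c39)) :=
  Lgr Lrot28 (Lpr_ct (K36.f3282 IH) (Lpr_et (K42.f495357 IH) (Lpqs (K42.f568550 IH) (Lpr_ct (f568555 IH) (Lpn (LP (LK LD1_c5 LD2_c7 LD3_c39)))))))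
theorem f557530 : Led Lsl_dt (LP (LK LD1_c3 LD2_c0 LD3_c10)) = (LP (LK LD1_c6 LD2_c7 LD3_c54)) :=
  Lre_d IH (LK LD1_c3 LD2_c0 LD3_c10) (LK LD1_c6 LD2_c7 LD3_c54) Lrfl Lrfl
theorem f594983 : Led Lsl_gt (LP (LK LD1_c10 LD2_c5 LD3_c33)) = (LP (LK LD1_c6 LD2_c7 LD3_c54)) :=
  Lgr Lrot112 (Lpe (K72.f568535 IH) (Lpe (f568573 IH) (Lpe (K36.f3283 IH) (Lpr_ef (K36.f539599 IH) (Lpr_dt (K40.f539585 IH) (Lpr_gf (K45.f594975 IH) (Lpe (K45.f573411 IH) (Lpe (K43.f579041 IH) (Lpe (K42.f557531 IH) (Lpr_dt (f557530 IH) (Lpn (LP (LK LD1_c6 LD2_c7 LD3_c54)))))))))))))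
theorem f570414 : Led Lsl_dt (LP (LK LD1_c10 LD2_c5 LD3_c33)) = (LP (LK LD1_c5 LD2_c7 LD3_c39)) :=
  Lre_d IH (LK LD1_c10 LD2_c5 LD3_c33) (LK LD1_c5 LD2_c7 LD3_c39) Lrfl Lrfl
theorem f594987 : Led Lsl_cf (LP (LK LD1_c10 LD2_c5 LD3_c34)) = (LP (LK LD1_c6 LD2_c7 LD3_c54)) :=
  Lgr Lrot169 (Lpr_gt (K40.f427497 IH) (Lpr_ct (K40.f427496 IH) (Lpe (K40.f3279 IH) (Lpe (K38.f3295 IH) (Lpe (K38.f427491 IH) (Lpe (K36.f427471 IH) (Lpr_gf (K43.f568533 IH) (Lpe (f570414 IH) (Lpr_gt (f594983 IH) (Lpn (LP (LK LD1_c6 LD2_c7 LD3_c54))))))))))))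
theorem f594999 : Led Lsl_ct (LP (LK LD1_c10 LD2_c5 LD3_c34)) = (LP (LK LD1_c6 LD2_c7 LD3_c54)) :=
  Lgr Lrot59 (Lpr_cf (f594987 IH) (Lpn (LP (LK LD1_c6 LD2_c7 LD3_c54))))
theorem f595011 : Led Lsl_bt (LP (LK LD1_c18 LD2_c24 LD3_c14)) = (LP (LK LD1_c10 LD2_c5 LD3_c34)) :=
  Lre_b IH (LK LD1_c18 LD2_c24 LD3_c14) (LK LD1_c10 LD2_c5 LD3_c34) Lrfl Lrfl
theorem f539711 : Led Lsl_bt (LP (LK LD1_c6 LD2_c7 LD3_c54)) = (LP (LK LD1_c3 LD2_c0 LD3_c11)) :=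
  Lre_b IH (LK LD1_c6 LD2_c7 LD3_c54) (LK LD1_c3 LD2_c0 LD3_c11) Lrfl Lrfl
theorem f56252 : Led Lsl_bt (LP (LK LD1_c6 LD2_c7 LD3_c56)) = (LP (LK LD1_c11 LD2_c57 LD3_c60)) :=
  Lre_b IH (LK LD1_c6 LD2_c7 LD3_c56) (LK LD1_c11 LD2_c57 LD3_c60) Lrfl Lrfl
theorem f595012 : Led Lsl_cf (LP (LK LD1_c18 LD2_c24 LD3_c14)) = (LP (LK LD1_c11 LD2_c57 LD3_c60)) :=
  Lgr Lrot97 (Lpr_bt (f595011 IH) (Lpr_ct (f594999 IH) (Lpr_bt (f539711 IH) (Lpr_ct (f56251 IH) (Lpr_bt (f56252 IH) (Lpn (LP (LK LD1_c11 LD2_c57 LD3_c60))))))))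
theorem f931336 : Led Lsl_gt (LP (LK LD1_c10 LD2_c5 LD3_c50)) = (LP (LK LD1_c18 LD2_c24 LD3_c14)) :=
  Lgr Lrot149 (Lpe (f614488 IH) (Lpe (K72.f570355 IH) (Lpe (K72.f713434 IH) (Lpr_ct (f930215 IH) (Lpr_gf (f931334 IH) (Lpe (f931332 IH) (Lpe (f699380 IH) (Lpe (f539709 IH) (Lpe (f539715 IH) (Lpe (f595012 IH) (Lpn (LP (LK LD1_c18 LD2_c24 LD3_c14)))))))))))))
theorem f931337 : Led Lsl_gt (LP (LK LD1_c10 LD2_c5 LD3_c50)) = (LP (LK LD1_c18 LD2_c24 LD3_c14)) :=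
  Leop (Lpe (f931336 IH) (Lpn (LP (LK LD1_c10 LD2_c5 LD3_c50))))
theorem seed_2578 : LEOK LG_g (LK LD1_c10 LD2_c5 LD3_c50) :=
  Leoe_g (LK LD1_c10 LD2_c5 LD3_c50) (f931337 IH)
def v41992 : LQ := Led Lsl_ct (LP (LK LD1_c10 LD2_c4 LD3_c47))
theorem f931355 : Led Lsl_ct (LP (LK LD1_c10 LD2_c4 LD3_c47)) = v41992 :=
  Lrfl
def v35896 : LQ := Led Lsl_et (LP (LK LD1_c8 LD2_c12 LD3_c25))
theorem f880981 : Led Lsl_et (LP (LK LD1_c8 LD2_c12 LD3_c25)) = v35896 :=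
  Lrfl
theorem f880985 : Led Lsl_ef (LP (LK LD1_c8 LD2_c12 LD3_c25)) = v35896 :=
  Lgr Lrot88 (Lpr_et (f880981 IH) (Lpn v35896))
theorem f880987 : Led Lsl_bt (LP (LK LD1_c10 LD2_c4 LD3_c47)) = v35896 :=
  Lgr Lrot119 (Lpe (K50.f558486 IH) (Lpr_bf (K50.f597848 IH) (Lpr_ef (f880985 IH) (Lpn v35896))))
theorem f596058 : Led Lsl_dt (LP (LK LD1_c8 LD2_c12 LD3_c25)) = (LP (LK LD1_c4 LD2_c5 LD3_c53)) :=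
  Lre_d IH (LK LD1_c8 LD2_c12 LD3_c25) (LK LD1_c4 LD2_c5 LD3_c53) Lrfl Lrfl
theorem f880988 : Led Lsl_dt (LP (LK LD1_c11 LD2_c32 LD3_c9)) = v35896 :=
  Lgr Lrot77 (Lpe (K50.f597693 IH) (Lpe (K50.f597728 IH) (Lpr_ef (K50.f597835 IH) (Lpe (f596058 IH) (Lpr_ef (f880985 IH) (Lpn v35896))))))
theorem f597738 : Led Lsl_et (LP (LK LD1_c11 LD2_c32 LD3_c9)) = (LP (LK LD1_c5 LD2_c52 LD3_c59)) :=
  Lre_e IH (LK LD1_c11 LD2_c32 LD3_c9) (LK LD1_c5 LD2_c52 LD3_c59) Lrfl Lrfl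
theorem f549839 : Led Lsl_dt (LP (LK LD1_c8 LD2_c0 LD3_c18)) = (LP (LK LD1_c3 LD2_c59 LD3_c36)) :=
  Lre_d IH (LK LD1_c8 LD2_c0 LD3_c18) (LK LD1_c3 LD2_c59 LD3_c36) Lrfl Lrfl
def v16120 : LQ := Led Lsl_et (LP (LK LD1_c5 LD2_c52 LD3_c52))
theorem f746630 : Led Lsl_et (LP (LK LD1_c5 LD2_c52 LD3_c52)) = v16120 :=
  Lrfl
theorem f746632 : Led Lsl_ef (LP (LK LD1_c5 LD2_c52 LD3_c52)) = v16120 :=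
  Lgr Lrot88 (Lpr_et (f746630 IH) (Lpn v16120))
def v4915 : LQ := Led Lsl_et (LP (LK LD1_c2 LD2_c52 LD3_c41))
theorem f640896 : Led Lsl_et (LP (LK LD1_c2 LD2_c52 LD3_c41)) = v4915 :=
  Lrfl
theorem f746633 : Led Lsl_bt v4915 = v16120 :=
  Lgr Lrot119 (Lpe (f640896 IH) (Lpe (K48.f436295 IH) (Lpr_ef (f746632 IH) (Lpn v16120))))
theorem f640897 : Led Lsl_ef (LP (LK LD1_c2 LD2_c52 LD3_c41)) = v4915 :=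
  Lgr Lrot88 (Lpr_et (f640896 IH) (Lpn v4915))
theorem f151896 : Led Lsl_et (LP (LK LD1_c0 LD2_c38 LD3_c13)) = (LP (LK LD1_c1 LD2_c22 LD3_c23)) :=
  Lre_e IH (LK LD1_c0 LD2_c38 LD3_c13) (LK LD1_c1 LD2_c22 LD3_c23) Lrfl Lrfl
theorem f211705 : Led Lsl_et (LP (LK LD1_c5 LD2_c38 LD3_c40)) = (LP (LK LD1_c2 LD2_c45 LD3_c13)) :=
  Lre_e IH (LK LD1_c5 LD2_c38 LD3_c40) (LK LD1_c2 LD2_c45 LD3_c13) Lrfl Lrfl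
theorem f177829 : Led Lsl_gt (LP (LK LD1_c5 LD2_c38 LD3_c49)) = (LP (LK LD1_c2 LD2_c45 LD3_c20)) :=
  Lre_g IH (LK LD1_c5 LD2_c38 LD3_c49) (LK LD1_c2 LD2_c45 LD3_c20) Lrfl Lrfl
theorem f640898 : Led Lsl_df (LP (LK LD1_c5 LD2_c38 LD3_c49)) = v4915 :=
  Lgr Lrot170 (Lpr_gt (f177829 IH) (Lpr_df (K40.f380326 IH) (Lpr_et (f211705 IH) (Lpe (K36.f380373 IH) (Lpr_dt (K36.f211764 IH) (Lpr_gt (K12.f24430 IH) (Lpe (K35.f24420 IH) (Lpr_et (f151896 IH) (Lpr_gt (K24.f79887 IH) (Lpr_ef (f640897 IH) (Lpn v4915)))))))))))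
theorem f640900 : Led Lsl_dt (LP (LK LD1_c5 LD2_c38 LD3_c49)) = v4915 :=
  Lgr Lrot42 (Lpr_df (f640898 IH) (Lpn v4915))
theorem f195777 : Led Lsl_bt (LP (LK LD1_c11 LD2_c8 LD3_c36)) = (LP (LK LD1_c5 LD2_c38 LD3_c49)) :=
  Lre_b IH (LK LD1_c11 LD2_c8 LD3_c36) (LK LD1_c5 LD2_c38 LD3_c49) Lrfl Lrfl
theorem f746634 : Led Lsl_df (LP (LK LD1_c11 LD2_c8 LD3_c36)) = v16120 :=
  Lgr Lrot12 (Lpr_bt (f195777 IH) (Lpr_dt (f640900 IH) (Lpr_bt (f746633 IH) (Lpn v16120))))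
theorem f880989 : Led Lsl_gt (LP (LK LD1_c11 LD2_c8 LD3_c36)) = v35896 :=
  Lgr Lrot112 (Lpr_df (f746634 IH) (Lpe (f746632 IH) (Lpr_gf (K57.f711178 IH) (Lpe (K65.f565530 IH) (Lpr_dt (K38.f158373 IH) (Lpe (K38.f112531 IH) (Lpe (f549839 IH) (Lpr_gf (K50.f597743 IH) (Lpe (f597738 IH) (Lpr_dt (f880988 IH) (Lpn v35896)))))))))))
theorem f640899 : Led Lsl_bt (LP (LK LD1_c5 LD2_c38 LD3_c49)) = (LP (LK LD1_c11 LD2_c8 LD3_c36)) :=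
  Lre_b IH (LK LD1_c5 LD2_c38 LD3_c49) (LK LD1_c11 LD2_c8 LD3_c36) Lrfl Lrfl
def v15425 : LQ := Led Lsl_ct (LP (LK LD1_c5 LD2_c38 LD3_c49))
theorem f736223 : Led Lsl_ct (LP (LK LD1_c5 LD2_c38 LD3_c49)) = v15425 :=
  Lrfl
def v41842 : LQ := Led Lsl_ct (LP (LK LD1_c10 LD2_c2 LD3_c42))
theorem f929748 : Led Lsl_ct (LP (LK LD1_c10 LD2_c2 LD3_c42)) = v41842 :=
  Lrfl
theorem f929752 : Led Lsl_ff K71.v14187 = v41842 :=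
  Lgr Lrot23 (Lpe (K72.f720906 IH) (Lpr_ft (K36.f177190 IH) (Lpr_ct (f929748 IH) (Lpn v41842))))
theorem f313905 : Led Lsl_af (LP (LK LD1_c5 LD2_c2 LD3_c26)) = (LP (LK LD1_c5 LD2_c4 LD3_c7)) :=
  Lgr Lrot117 (Lpr_dt (K10.f169587 IH) (Lpr_at (K19.f313897 IH) (Lpr_dt (K20.f240455 IH) (Lpn (LP (LK LD1_c5 LD2_c4 LD3_c7))))))
theorem f720905 : Led Lsl_af (LP (LK LD1_c9 LD2_c59 LD3_c5)) = K71.v14187 :=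
  Lgr Lrot50 (Lpr_et (K72.f165709 IH) (Lpe (f313905 IH) (Lpr_et (K71.f720904 IH) (Lpn K71.v14187))))
def v41580 : LQ := Led Lsl_ft (LP (LK LD1_c9 LD2_c59 LD3_c5))
theorem f926867 : Led Lsl_ft (LP (LK LD1_c9 LD2_c59 LD3_c5)) = v41580 :=
  Lrfl
theorem f929753 : Led Lsl_at v41580 = v41842 :=
  Lgr Lrot66 (Lpe (f926867 IH) (Lpr_af (f720905 IH) (Lpr_ff (f929752 IH) (Lpn v41842))))
theorem f929757 : Led Lsl_gt K72.v41578 = v41842 :=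
  Lgr Lrot46 (Lpe (K72.f926849 IH) (Lpr_ft (f926867 IH) (Lpr_at (f929753 IH) (Lpn v41842))))
theorem f820724 : Led Lsl_cf K53.v4203 = K72.v23825 :=
  Lgr Lrot11 (Lpr_ct (K72.f820722 IH) (Lpn K72.v23825))
theorem f926855 : Led Lsl_ct K53.v14339 = K72.v41578 :=
  Lgr Lrot15 (Lpe (K53.f722005 IH) (Lpr_cf (f820724 IH) (Lpr_ef (K72.f926853 IH) (Lpn K72.v41578))))
theorem f285132 : Led Lsl_bt (LP (LK LD1_c18 LD2_c21 LD3_c5)) = (LP (LK LD1_c10 LD2_c2 LD3_c46)) :=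
  Lre_b IH (LK LD1_c18 LD2_c21 LD3_c5) (LK LD1_c10 LD2_c2 LD3_c46) Lrfl Lrfl
theorem f722021 : Led Lsl_bt K53.v14339 = (LP (LK LD1_c11 LD2_c57 LD3_c51)) :=
  Lgr Lrot35 (Lpe (K53.f722012 IH) (Lpe (f285132 IH) (Lpr_ff (K53.f722019 IH) (Lpn (LP (LK LD1_c11 LD2_c57 LD3_c51))))))
theorem f183445 : Led Lsl_bt (LP (LK LD1_c3 LD2_c0 LD3_c3)) = (LP (LK LD1_c6 LD2_c7 LD3_c44)) :=
  Lre_b IH (LK LD1_c3 LD2_c0 LD3_c3) (LK LD1_c6 LD2_c7 LD3_c44) Lrfl Lrfl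
theorem f181245 : Led Lsl_et (LP (LK LD1_c2 LD2_c59 LD3_c10)) = (LP (LK LD1_c6 LD2_c6 LD3_c9)) :=
  Lre_e IH (LK LD1_c2 LD2_c59 LD3_c10) (LK LD1_c6 LD2_c6 LD3_c9) Lrfl Lrfl
theorem f183441 : Led Lsl_et (LP (LK LD1_c3 LD2_c0 LD3_c3)) = (LP (LK LD1_c1 LD2_c25 LD3_c48)) :=
  Lre_e IH (LK LD1_c3 LD2_c0 LD3_c3) (LK LD1_c1 LD2_c25 LD3_c48) Lrfl Lrfl
theorem f183442 : Led Lsl_ct (LP (LK LD1_c6 LD2_c6 LD3_c9)) = (LP (LK LD1_c3 LD2_c0 LD3_c3)) :=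
  Lgr Lrot15 (Lpe (f181245 IH) (Lpr_cf (K11.f183436 IH) (Lpe (f183441 IH) (Lpn (LP (LK LD1_c3 LD2_c0 LD3_c3))))))
theorem f183446 : Led Lsl_cf (LP (LK LD1_c6 LD2_c6 LD3_c9)) = (LP (LK LD1_c3 LD2_c0 LD3_c3)) :=
  Lgr Lrot11 (Lpr_ct (f183442 IH) (Lpn (LP (LK LD1_c3 LD2_c0 LD3_c3))))
def v16722 : LQ := Led Lsl_gf (LP (LK LD1_c6 LD2_c6 LD3_c9))
theorem f751264 : Led Lsl_gf (LP (LK LD1_c6 LD2_c6 LD3_c9)) = v16722 :=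
  Lrfl
def v5157 : LQ := Led Lsl_ft (LP (LK LD1_c2 LD2_c59 LD3_c55))
theorem f646257 : Led Lsl_ft (LP (LK LD1_c2 LD2_c59 LD3_c55)) = v5157 :=
  Lrfl
theorem f646261 : Led Lsl_ff (LP (LK LD1_c2 LD2_c59 LD3_c55)) = v5157 :=
  Lgr Lrot3 (Lpr_ft (f646257 IH) (Lpn v5157))
theorem f646264 : Led Lsl_bt (LP (LK LD1_c10 LD2_c2 LD3_c42)) = v5157 :=
  Lgr Lrot35 (Lpe (K36.f177190 IH) (Lpr_bf (K40.f539293 IH) (Lpr_ff (f646261 IH) (Lpn v5157))))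
theorem f380342 : Led Lsl_dt (LP (LK LD1_c2 LD2_c45 LD3_c20)) = (LP (LK LD1_c5 LD2_c38 LD3_c40)) :=
  Lgr Lrot42 (Lpr_df (K40.f380326 IH) (Lpn (LP (LK LD1_c5 LD2_c38 LD3_c40))))
theorem f380344 : Led Lsl_af (LP (LK LD1_c2 LD2_c45 LD3_c20)) = (LP (LK LD1_c2 LD2_c59 LD3_c55)) :=
  Lgr Lrot117 (Lpr_dt (f380342 IH) (Lpe (K40.f211698 IH) (Lpr_dt (K54.f26645 IH) (Lpn (LP (LK LD1_c2 LD2_c59 LD3_c55))))))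
theorem f646266 : Led Lsl_gf (LP (LK LD1_c5 LD2_c38 LD3_c49)) = v5157 :=
  Lgr Lrot47 (Lpr_gt (f177829 IH) (Lpr_af (f380344 IH) (Lpr_ff (f646261 IH) (Lpn v5157))))
theorem f929758 : v16722 = v15425 :=
  (Llr Lrot129 (Lpe (f751264 IH) (Lpr_cf (f183446 IH) (Lpr_bt (f183445 IH) (Lpr_gt (K53.f183452 IH) (Lpe (f722021 IH) (Lpr_ct (f926855 IH) (Lpr_gt (f929757 IH) (Lpe (f929748 IH) (Lpr_bt (f646264 IH) (Lpe (f646266 IH) (Lpr_ct (f736223 IH) (Lpn v15425))))))))))))).symm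
def v4629 : LQ := Led Lsl_et (LP (LK LD1_c2 LD2_c39 LD3_c41))
def v24222 : LQ := Led Lsl_ft v4629
theorem f823010 : Led Lsl_ft v4629 = v24222 :=
  Lrfl
theorem f823013 : Led Lsl_ff v4629 = v24222 :=
  Lgr Lrot3 (Lpr_ft (f823010 IH) (Lpn v24222))
theorem f638234 : Led Lsl_et (LP (LK LD1_c2 LD2_c39 LD3_c41)) = v4629 :=
  Lrfl
theorem f183456 : Led Lsl_et (LP (LK LD1_c6 LD2_c6 LD3_c9)) = (LP (LK LD1_c2 LD2_c59 LD3_c10)) :=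
  Lre_e IH (LK LD1_c6 LD2_c6 LD3_c9) (LK LD1_c2 LD2_c59 LD3_c10) Lrfl Lrfl
theorem f638235 : Led Lsl_af (LP (LK LD1_c6 LD2_c6 LD3_c9)) = v4629 :=
  Lgr Lrot50 (Lpr_et (f183456 IH) (Lpe (K17.f285919 IH) (Lpr_et (f638234 IH) (Lpn v4629))))
theorem f823017 : Led Lsl_gf v16722 = v24222 :=
  Lgr Lrot47 (Lpe (f751264 IH) (Lpr_af (f638235 IH) (Lpr_ff (f823013 IH) (Lpn v24222))))
theorem f638236 : Led Lsl_cf (LP (LK LD1_c4 LD2_c5 LD3_c46)) = v4629 :=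
  Lgr Lrot39 (Lpr_et (K40.f185068 IH) (Lpr_ct (K17.f198641 IH) (Lpr_et (f638234 IH) (Lpn v4629))))
theorem f823016 : Led Lsl_ct K49.v12333 = v24222 :=
  Lgr Lrot40 (Lpe (K49.f691548 IH) (Lpr_cf (f638236 IH) (Lpr_ff (f823013 IH) (Lpn v24222))))
theorem f691572 : Led Lsl_gt (LP (LK LD1_c6 LD2_c7 LD3_c46)) = K49.v12333 :=
  Lgr Lrot5 (Lpe (K49.f691558 IH) (Lpe (K49.f645387 IH) (Lpr_gf (K64.f691571 IH) (Lpn K49.v12333))))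
theorem f691568 : Led Lsl_ct (LP (LK LD1_c11 LD2_c57 LD3_c56)) = (LP (LK LD1_c21 LD2_c3 LD3_c1)) :=
  Lre_c IH (LK LD1_c11 LD2_c57 LD3_c56) (LK LD1_c21 LD2_c3 LD3_c1) Lrfl Lrfl
theorem f931359 : Led Lsl_gf (LP (LK LD1_c21 LD2_c3 LD3_c1)) = v41992 :=
  Lgr Lrot126 (Lpe (f691568 IH) (Lpr_bt (K56.f691560 IH) (Lpr_gt (f691572 IH) (Lpr_ct (f823016 IH) (Lpe (f823017 IH) (Lpqs (f929758 IH) (Lpe (f736223 IH) (Lpr_bt (f640899 IH) (Lpr_gt (f880989 IH) (Lpe (f880987 IH) (Lpr_ct (f931355 IH) (Lpn v41992))))))))))))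
theorem f597483 : Led Lsl_ft (LP (LK LD1_c18 LD2_c23 LD3_c28)) = (LP (LK LD1_c10 LD2_c4 LD3_c47)) :=
  Lre_f IH (LK LD1_c18 LD2_c23 LD3_c28) (LK LD1_c10 LD2_c4 LD3_c47) Lrfl Lrfl
theorem f843707 : Led Lsl_af (LP (LK LD1_c20 LD2_c0 LD3_c3)) = (LP (LK LD1_c18 LD2_c1 LD3_c36)) :=
  Lgr Lrot0 (Lpr_at (K72.f843699 IH) (Lpn (LP (LK LD1_c18 LD2_c1 LD3_c36))))
theorem f921585 : Led Lsl_cf (LP (LK LD1_c18 LD2_c23 LD3_c28)) = (LP (LK LD1_c20 LD2_c0 LD3_c3)) :=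
  Lgr Lrot1 (Lpe (K66.f597476 IH) (Lpr_ct (K71.f921583 IH) (Lpe (f843707 IH) (Lpn (LP (LK LD1_c20 LD2_c0 LD3_c3))))))
theorem f931358 : Led Lsl_ff (LP (LK LD1_c20 LD2_c0 LD3_c3)) = v41992 :=
  Lgr Lrot23 (Lpe (f921585 IH) (Lpr_ft (f597483 IH) (Lpr_ct (f931355 IH) (Lpn v41992))))
theorem f931360 : Led Lsl_gt (LP (LK LD1_c21 LD2_c3 LD3_c1)) = (LP (LK LD1_c18 LD2_c1 LD3_c36)) :=
  Lgr Lrot46 (Lpr_gf (f931359 IH) (Lpe (f931358 IH) (Lpr_at (K72.f843699 IH) (Lpn (LP (LK LD1_c18 LD2_c1 LD3_c36))))))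
theorem f931361 : Led Lsl_gt (LP (LK LD1_c21 LD2_c3 LD3_c1)) = (LP (LK LD1_c18 LD2_c1 LD3_c36)) :=
  Leop (Lpe (f931360 IH) (Lpn (LP (LK LD1_c21 LD2_c3 LD3_c1))))
theorem seed_2579 : LEOK LG_g (LK LD1_c21 LD2_c3 LD3_c1) :=
  Leoe_g (LK LD1_c21 LD2_c3 LD3_c1) (f931361 IH)
def v39077 : LQ := Led Lsl_gt (LP (LK LD1_c9 LD2_c19 LD3_c35))
theorem f906309 : Led Lsl_gt (LP (LK LD1_c9 LD2_c19 LD3_c35)) = v39077 :=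
  Lrfl
def v42001 : LQ := Led Lsl_dt (LP (LK LD1_c10 LD2_c4 LD3_c52))
theorem f931393 : Led Lsl_dt (LP (LK LD1_c10 LD2_c4 LD3_c52)) = v42001 :=
  Lrfl
theorem f699246 : Led Lsl_cf (LP (LK LD1_c10 LD2_c4 LD3_c52)) = (LP (LK LD1_c11 LD2_c40 LD3_c24)) :=
  Lgr Lrot108 (Lpr_ft (K71.f387279 IH) (Lpr_ct (K53.f165687 IH) (Lpr_ft (K53.f699242 IH) (Lpn (LP (LK LD1_c11 LD2_c40 LD3_c24))))))
theorem f899643 : Led Lsl_cf (LP (LK LD1_c15 LD2_c8 LD3_c3)) = K69.v38160 :=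
  Lgr Lrot39 (Lpr_et (K44.f37057 IH) (Lpr_ct (K36.f541822 IH) (Lpr_et (K69.f899640 IH) (Lpn K69.v38160))))
theorem f405206 : Led Lsl_ef (LP (LK LD1_c10 LD2_c4 LD3_c6)) = (LP (LK LD1_c10 LD2_c4 LD3_c43)) :=
  Lgr Lrot20 (Lpe (K64.f302577 IH) (Lpr_et (K64.f302591 IH) (Lpr_at (K40.f405199 IH) (Lpn (LP (LK LD1_c10 LD2_c4 LD3_c43))))))
theorem f699382 : Led Lsl_bf (LP (LK LD1_c17 LD2_c58 LD3_c14)) = (LP (LK LD1_c10 LD2_c4 LD3_c6)) :=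
  Lgr Lrot96 (Lpr_et (K55.f387272 IH) (Lpr_bt (K72.f699378 IH) (Lpe (f405206 IH) (Lpn (LP (LK LD1_c10 LD2_c4 LD3_c6))))))
theorem f176965 : Led Lsl_bt (LP (LK LD1_c17 LD2_c13 LD3_c7)) = (LP (LK LD1_c9 LD2_c17 LD3_c61)) :=
  Lre_b IH (LK LD1_c17 LD2_c13 LD3_c7) (LK LD1_c9 LD2_c17 LD3_c61) Lrfl Lrfl
theorem f699386 : Led Lsl_dt (LP (LK LD1_c17 LD2_c58 LD3_c14)) = (LP (LK LD1_c17 LD2_c13 LD3_c7)) :=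
  Lgr Lrot79 (Lpr_bf (f699382 IH) (Lpr_df (K50.f176961 IH) (Lpe (f176965 IH) (Lpn (LP (LK LD1_c17 LD2_c13 LD3_c7))))))
theorem f699388 : Led Lsl_df (LP (LK LD1_c17 LD2_c58 LD3_c14)) = (LP (LK LD1_c17 LD2_c13 LD3_c7)) :=
  Lgr Lrot38 (Lpr_dt (f699386 IH) (Lpn (LP (LK LD1_c17 LD2_c13 LD3_c7))))
theorem f176980 : Led Lsl_ft (LP (LK LD1_c9 LD2_c17 LD3_c59)) = (LP (LK LD1_c17 LD2_c13 LD3_c7)) :=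
  Lre_f IH (LK LD1_c9 LD2_c17 LD3_c59) (LK LD1_c17 LD2_c13 LD3_c7) Lrfl Lrfl
theorem f604835 : Led Lsl_cf (LP (LK LD1_c16 LD2_c30 LD3_c26)) = (LP (LK LD1_c17 LD2_c13 LD3_c7)) :=
  Lgr Lrot108 (Lpr_ft (K55.f590075 IH) (Lpr_ct (K50.f604831 IH) (Lpr_ft (f176980 IH) (Lpn (LP (LK LD1_c17 LD2_c13 LD3_c7))))))
theorem f604838 : Led Lsl_ct (LP (LK LD1_c16 LD2_c30 LD3_c26)) = (LP (LK LD1_c17 LD2_c13 LD3_c7)) :=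
  Lgr Lrot59 (Lpr_cf (f604835 IH) (Lpn (LP (LK LD1_c17 LD2_c13 LD3_c7))))
theorem f931395 : Led Lsl_cf (LP (LK LD1_c15 LD2_c8 LD3_c8)) = v42001 :=
  Lgr Lrot55 (Lpe (K69.f590071 IH) (Lpr_ct (K41.f489466 IH) (Lpe (K55.f604851 IH) (Lpr_ct (f604838 IH) (Lpe (f699388 IH) (Lpr_ct (K53.f387262 IH) (Lpr_dt (K69.f899649 IH) (Lpe (f899643 IH) (Lpr_dt (K44.f570652 IH) (Lpr_ct (K7.f94467 IH) (Lpr_dt (K43.f5635 IH) (Lpr_ct (K50.f604825 IH) (Lpe (K36.f539643 IH) (Lpe (f699246 IH) (Lpr_dt (f931393 IH) (Lpn v42001))))))))))))))))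
theorem f763902 : Led Lsl_gf (LP (LK LD1_c15 LD2_c8 LD3_c8)) = (LP (LK LD1_c8 LD2_c45 LD3_c54)) :=
  Lgr Lrot76 (Lpe (K69.f590067 IH) (Lpr_ff (K69.f590063 IH) (Lpr_gt (K68.f763900 IH) (Lpn (LP (LK LD1_c8 LD2_c45 LD3_c54))))))
def v37133 : LQ := Led Lsl_ct (LP (LK LD1_c8 LD2_c45 LD3_c54))
theorem f893158 : Led Lsl_ct (LP (LK LD1_c8 LD2_c45 LD3_c54)) = v37133 :=
  Lrfl
theorem f893160 : Led Lsl_cf (LP (LK LD1_c8 LD2_c45 LD3_c54)) = v37133 :=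
  Lgr Lrot11 (Lpr_ct (f893158 IH) (Lpn v37133))
theorem f607052 : Led Lsl_bt (LP (LK LD1_c4 LD2_c24 LD3_c4)) = (LP (LK LD1_c8 LD2_c45 LD3_c54)) :=
  Lre_b IH (LK LD1_c4 LD2_c24 LD3_c4) (LK LD1_c8 LD2_c45 LD3_c54) Lrfl Lrfl
theorem f205681 : Led Lsl_bt (LP (LK LD1_c6 LD2_c24 LD3_c47)) = (LP (LK LD1_c3 LD2_c10 LD3_c0)) :=
  Lre_b IH (LK LD1_c6 LD2_c24 LD3_c47) (LK LD1_c3 LD2_c10 LD3_c0) Lrfl Lrfl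
def v17960 : LQ := Led Lsl_ct (LP (LK LD1_c6 LD2_c24 LD3_c47))
theorem f762994 : Led Lsl_ct (LP (LK LD1_c6 LD2_c24 LD3_c47)) = v17960 :=
  Lrfl
theorem f762995 : Led Lsl_cf (LP (LK LD1_c6 LD2_c24 LD3_c47)) = v17960 :=
  Lgr Lrot11 (Lpr_ct (f762994 IH) (Lpn v17960))
theorem f893159 : Led Lsl_bf v17960 = v37133 :=
  Lgr Lrot90 (Lpe (f762995 IH) (Lpr_bt (f205681 IH) (Lpr_ct (K46.f607050 IH) (Lpr_bt (f607052 IH) (Lpr_ct (f893158 IH) (Lpn v37133))))))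
theorem f301771 : Led Lsl_bt (LP (LK LD1_c5 LD2_c7 LD3_c11)) = (LP (LK LD1_c10 LD2_c4 LD3_c52)) :=
  Lre_b IH (LK LD1_c5 LD2_c7 LD3_c11) (LK LD1_c10 LD2_c4 LD3_c52) Lrfl Lrfl
theorem f722180 : Led Lsl_df (LP (LK LD1_c5 LD2_c7 LD3_c11)) = K53.v14361 :=
  Lgr Lrot38 (Lpr_dt (K53.f722178 IH) (Lpn K53.v14361))
theorem f931394 : Led Lsl_bf K53.v14361 = v42001 :=
  Lgr Lrot93 (Lpe (f722180 IH) (Lpr_bt (f301771 IH) (Lpr_dt (f931393 IH) (Lpn v42001))))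
def v15895 : LQ := Led Lsl_ct (LP (LK LD1_c5 LD2_c49 LD3_c32))
theorem f744109 : Led Lsl_ct (LP (LK LD1_c5 LD2_c49 LD3_c32)) = v15895 :=
  Lrfl
theorem f301765 : Led Lsl_gf (LP (LK LD1_c5 LD2_c14 LD3_c8)) = (LP (LK LD1_c5 LD2_c7 LD3_c11)) :=
  Lgr Lrot47 (Lpr_gt (K56.f61330 IH) (Lpr_af (K18.f301759 IH) (Lpe (K18.f165678 IH) (Lpn (LP (LK LD1_c5 LD2_c7 LD3_c11))))))
theorem f405242 : Led Lsl_cf (LP (LK LD1_c5 LD2_c11 LD3_c25)) = (LP (LK LD1_c2 LD2_c33 LD3_c41)) :=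
  Lgr Lrot1 (Lpr_at (K56.f405238 IH) (Lpr_ct (K56.f169800 IH) (Lpe (K38.f307987 IH) (Lpn (LP (LK LD1_c2 LD2_c33 LD3_c41))))))
theorem f405244 : Led Lsl_ct (LP (LK LD1_c5 LD2_c11 LD3_c25)) = (LP (LK LD1_c2 LD2_c33 LD3_c41)) :=
  Lgr Lrot59 (Lpr_cf (f405242 IH) (Lpn (LP (LK LD1_c2 LD2_c33 LD3_c41))))
def v4860 : LQ := Led Lsl_et (LP (LK LD1_c2 LD2_c50 LD3_c53))
theorem f640613 : Led Lsl_et (LP (LK LD1_c2 LD2_c50 LD3_c53)) = v4860 :=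
  Lrfl
theorem f640614 : Led Lsl_cf (LP (LK LD1_c3 LD2_c5 LD3_c30)) = v4860 :=
  Lgr Lrot39 (Lpr_et (K50.f179944 IH) (Lpe (K38.f210294 IH) (Lpr_et (f640613 IH) (Lpn v4860))))
theorem f753708 : Led Lsl_gt v15895 = v4860 :=
  Lgr Lrot150 (Lpe (f744109 IH) (Lpr_gf (K53.f722182 IH) (Lpe (K53.f722178 IH) (Lpe (f301765 IH) (Lpr_ct (K56.f723820 IH) (Lpq (K56.f753700 IH) (Lpr_gt (K56.f405246 IH) (Lpr_ct (f405244 IH) (Lpe (K36.f185782 IH) (Lpr_cf (f640614 IH) (Lpn v4860)))))))))))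
theorem f640615 : Led Lsl_ef (LP (LK LD1_c2 LD2_c50 LD3_c53)) = v4860 :=
  Lgr Lrot88 (Lpr_et (f640613 IH) (Lpn v4860))
theorem f640616 : Led Lsl_ct (LP (LK LD1_c3 LD2_c5 LD3_c30)) = v4860 :=
  Lgr Lrot15 (Lpe (K36.f185779 IH) (Lpe (K38.f210530 IH) (Lpr_ef (f640615 IH) (Lpn v4860))))
def v17255 : LQ := Led Lsl_gt (LP (LK LD1_c6 LD2_c16 LD3_c49))
theorem f757967 : Led Lsl_gt (LP (LK LD1_c6 LD2_c16 LD3_c49)) = v17255 :=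
  Lrfl
theorem f931403 : v17960 = v17255 :=
  (Llr Lrot92 (Lpr_bf (f893159 IH) (Lpe (f893160 IH) (Lpe (f763902 IH) (Lpr_cf (f931395 IH) (Lpe (f931394 IH) (Lpe (K53.f722182 IH) (Lpr_ct (f744109 IH) (Lpr_gt (f753708 IH) (Lpe (f640616 IH) (Lpr_bt (K36.f185792 IH) (Lpr_gt (f757967 IH) (Lpn v17255))))))))))))).symm
theorem f607687 : Led Lsl_bt (LP (LK LD1_c4 LD2_c42 LD3_c40)) = (LP (LK LD1_c9 LD2_c19 LD3_c35)) :=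
  Lre_b IH (LK LD1_c4 LD2_c42 LD3_c40) (LK LD1_c9 LD2_c19 LD3_c35) Lrfl Lrfl
theorem f185798 : Led Lsl_ct (LP (LK LD1_c12 LD2_c10 LD3_c34)) = (LP (LK LD1_c6 LD2_c16 LD3_c49)) :=
  Lre_c IH (LK LD1_c12 LD2_c10 LD3_c34) (LK LD1_c6 LD2_c16 LD3_c49) Lrfl Lrfl
theorem f931404 : v39077 = (LP (LK LD1_c8 LD2_c49 LD3_c37)) :=
  (Llr Lrot164 (Lpe (f906309 IH) (Lpe (f607687 IH) (Lpr_ct (K57.f607683 IH) (Lpe (K46.f75731 IH) (Lpe (K11.f75720 IH) (Lpr_gf (K68.f205679 IH) (Lpe (f205681 IH) (Lpr_ct (f762994 IH) (Lpqs (f931403 IH) (Lpe (f757967 IH) (Lpe (f185798 IH) (Lpe (K42.f559260 IH) (Lpn (LP (LK LD1_c8 LD2_c49 LD3_c37)))))))))))))))).symm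
theorem f931406 : Led Lsl_gt (LP (LK LD1_c9 LD2_c19 LD3_c35)) = (LP (LK LD1_c8 LD2_c49 LD3_c37)) :=
  Leop (Lpq (f931404 IH) (Lpe (f906309 IH) (Lpn (LP (LK LD1_c9 LD2_c19 LD3_c35)))))
theorem seed_2580 : LEOK LG_g (LK LD1_c9 LD2_c19 LD3_c35) :=
  Leoe_g (LK LD1_c9 LD2_c19 LD3_c35) (f931406 IH)
def v41998 : LQ := Led Lsl_ct (LP (LK LD1_c10 LD2_c4 LD3_c51))
theorem f931386 : Led Lsl_ct (LP (LK LD1_c10 LD2_c4 LD3_c51)) = v41998 :=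
  Lrfl
def v42009 : LQ := Led Lsl_ct (LP (LK LD1_c10 LD2_c4 LD3_c59))
theorem f931466 : Led Lsl_ct (LP (LK LD1_c10 LD2_c4 LD3_c59)) = v42009 :=
  Lrfl
theorem f931469 : Led Lsl_ef (LP (LK LD1_c11 LD2_c25 LD3_c9)) = v42009 :=
  Lgr Lrot28 (Lpr_ct (K48.f57645 IH) (Lpe (K56.f720199 IH) (Lpr_ct (f931466 IH) (Lpn v42009))))
theorem f931471 : Led Lsl_et (LP (LK LD1_c11 LD2_c25 LD3_c9)) = v42009 :=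
  Lgr Lrot87 (Lpr_ef (f931469 IH) (Lpn v42009))
theorem f9030 : Led Lsl_dt (LP (LK LD1_c3 LD2_c0 LD3_c24)) = (LP (LK LD1_c6 LD2_c8 LD3_c24)) :=
  Lre_d IH (LK LD1_c3 LD2_c0 LD3_c24) (LK LD1_c6 LD2_c8 LD3_c24) Lrfl Lrfl
theorem f636294 : Led Lsl_df (LP (LK LD1_c2 LD2_c40 LD3_c54)) = K65.v4591 :=
  Lgr Lrot43 (Lpr_ct (K15.f7944 IH) (Lpr_dt (K9.f7942 IH) (Lpr_ct (K0.f7935 IH) (Lpr_dt (K9.f21262 IH) (Lpr_ct (K9.f21268 IH) (Lpr_dt (K9.f21269 IH) (Lpr_ct (K22.f21270 IH) (Lpe (K10.f185078 IH) (Lpr_ct (K10.f184905 IH) (Lpr_dt (K10.f184897 IH) (Lpr_ct (K10.f184898 IH) (Lpr_dt (K10.f20496 IH) (Lpr_ct (K10.f181124 IH) (Lpr_dt (K18.f183386 IH) (Lpr_ct (K65.f636291 IH) (Lpn K65.v4591))))))))))))))))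
def v14554 : LQ := Led Lsl_ct (LP (LK LD1_c5 LD2_c13 LD3_c33))
theorem f723721 : Led Lsl_ct (LP (LK LD1_c5 LD2_c13 LD3_c33)) = v14554 :=
  Lrfl
theorem f636293 : Led Lsl_cf (LP (LK LD1_c2 LD2_c33 LD3_c38)) = K65.v4591 :=
  Lgr Lrot11 (Lpr_ct (K65.f636291 IH) (Lpn K65.v4591))
theorem f723724 : Led Lsl_ef K65.v4591 = v14554 :=
  Lgr Lrot28 (Lpe (f636293 IH) (Lpr_et (K50.f186366 IH) (Lpr_ct (f723721 IH) (Lpn v14554))))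
theorem f723727 : Led Lsl_et K65.v4591 = v14554 :=
  Lgr Lrot87 (Lpr_ef (f723724 IH) (Lpn v14554))
theorem f931472 : Led Lsl_gt v14554 = v42009 :=
  Lgr Lrot131 (Lpe (f723727 IH) (Lpe (f636294 IH) (Lpr_gf (K15.f183383 IH) (Lpe (K15.f177492 IH) (Lpr_gf (K10.f9062 IH) (Lpe (K0.f9057 IH) (Lpr_dt (f9030 IH) (Lpe (K32.f9100 IH) (Lpr_df (K32.f503400 IH) (Lpr_et (f931471 IH) (Lpn v42009)))))))))))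
def v38259 : LQ := Led Lsl_gf (LP (LK LD1_c9 LD2_c7 LD3_c38))
theorem f900296 : Led Lsl_gf (LP (LK LD1_c9 LD2_c7 LD3_c38)) = v38259 :=
  Lrfl
def v8702 : LQ := Led Lsl_ft K66.v2156
def v28937 : LQ := Led Lsl_et v8702
theorem f846882 : Led Lsl_et v8702 = v28937 :=
  Lrfl
theorem f672039 : Led Lsl_ft K66.v2156 = v8702 :=
  Lrfl
theorem f672041 : Led Lsl_ff K66.v2156 = v8702 :=
  Lgr Lrot3 (Lpr_ft (f672039 IH) (Lpn v8702))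
theorem f846872 : Led Lsl_df v8702 = K69.v28933 :=
  Lgr Lrot78 (Lpe (f672041 IH) (Lpr_dt (K66.f672035 IH) (Lpr_ft (K69.f846870 IH) (Lpn K69.v28933))))
theorem f901763 : K69.v28933 = K71.v13107 :=
  Lefun (Lecon (Lfl_ef (K69.f901742 IH)) (K69.f901755 IH).symm) (K71.f701151 IH)
theorem f901765 : v8702 = K71.v8694 :=
  Lefun (Lecon (Lfl_df (f846872 IH)) (f901763 IH)) (Lfl_df (K71.f701153 IH))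
theorem f901771 : v28937 = K71.v28912 :=
  Lefun (Lecon (f846882 IH) (f901765 IH)) (K71.f846777 IH)
theorem f672030 : Led Lsl_ff K66.v2157 = K66.v8697 :=
  Lgr Lrot3 (Lpr_ft (K66.f672029 IH) (Lpn K66.v8697))
theorem f672042 : Led Lsl_at K66.v2157 = v8702 :=
  Lgr Lrot66 (Lpr_ff (f672030 IH) (Lpe (K66.f672027 IH) (Lpr_ff (f672041 IH) (Lpn v8702))))
theorem f672052 : Led Lsl_ef K66.v2157 = K71.v8706 :=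
  Lgr Lrot88 (Lpr_et (K71.f672051 IH) (Lpn K71.v8706))
theorem f846883 : Led Lsl_af K71.v8706 = v28937 :=
  Lgr Lrot50 (Lpe (f672052 IH) (Lpr_at (f672042 IH) (Lpr_et (f846882 IH) (Lpn v28937))))
theorem f901804 : Led Lsl_af (LP (LK LD1_c17 LD2_c10 LD3_c3)) = K71.v28944 :=
  Lgr Lrot117 (Lpr_dt (K71.f846780 IH) (Lpq (f901771 IH) (Lpe (f846883 IH) (Lpr_dt (K71.f846900 IH) (Lpn K71.v28944)))))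
theorem f846903 : Led Lsl_et (LP (LK LD1_c17 LD2_c3 LD3_c6)) = K71.v28944 :=
  Lgr Lrot87 (Lpr_ef (K71.f846902 IH) (Lpn K71.v28944))
theorem f901806 : Led Lsl_at (LP (LK LD1_c9 LD2_c15 LD3_c33)) = (LP (LK LD1_c17 LD2_c3 LD3_c6)) :=
  Lgr Lrot80 (Lpe (K71.f452291 IH) (Lpr_af (f901804 IH) (Lpe (f846903 IH) (Lpn (LP (LK LD1_c17 LD2_c3 LD3_c6))))))
theorem f901808 : Led Lsl_af (LP (LK LD1_c9 LD2_c15 LD3_c33)) = (LP (LK LD1_c17 LD2_c3 LD3_c6)) :=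
  Lgr Lrot0 (Lpr_at (f901806 IH) (Lpn (LP (LK LD1_c17 LD2_c3 LD3_c6))))
theorem f614684 : Led Lsl_at (LP (LK LD1_c11 LD2_c49 LD3_c28)) = (LP (LK LD1_c17 LD2_c5 LD3_c18)) :=
  Lgr Lrot51 (Lpe (K42.f505200 IH) (Lpr_af (K59.f614678 IH) (Lpe (K59.f452286 IH) (Lpn (LP (LK LD1_c17 LD2_c5 LD3_c18))))))
theorem f653050 : Led Lsl_gt (LP (LK LD1_c17 LD2_c6 LD3_c39)) = (LP (LK LD1_c9 LD2_c15 LD3_c33)) :=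
  Lgr Lrot5 (Lpr_ft (K69.f653046 IH) (Lpr_at (f614684 IH) (Lpe (K11.f452282 IH) (Lpn (LP (LK LD1_c9 LD2_c15 LD3_c33))))))
theorem f653029 : Led Lsl_et (LP (LK LD1_c9 LD2_c12 LD3_c25)) = K46.v6369 :=
  Lgr Lrot87 (Lpr_ef (K46.f653026 IH) (Lpn K46.v6369))
theorem f99644 : Led Lsl_ft (LP (LK LD1_c3 LD2_c2 LD3_c29)) = (LP (LK LD1_c6 LD2_c11 LD3_c52)) :=
  Lre_f IH (LK LD1_c3 LD2_c2 LD3_c29) (LK LD1_c6 LD2_c11 LD3_c52) Lrfl Lrfl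
theorem f99647 : Led Lsl_et (LP (LK LD1_c6 LD2_c11 LD3_c52)) = (LP (LK LD1_c9 LD2_c9 LD3_c61)) :=
  Lgr Lrot69 (Lpe (f99644 IH) (Lpe (K51.f73000 IH) (Lpr_ff (K4.f99629 IH) (Lpe (K36.f99645 IH) (Lpe (K56.f99646 IH) (Lpn (LP (LK LD1_c9 LD2_c9 LD3_c61))))))))
theorem f706564 : Led Lsl_gf (LP (LK LD1_c17 LD2_c6 LD3_c39)) = (LP (LK LD1_c9 LD2_c15 LD3_c35)) :=
  Lgr Lrot134 (Lpe (K69.f621239 IH) (Lpr_et (f653029 IH) (Lpe (K51.f653025 IH) (Lpe (K51.f706550 IH) (Lpr_dt (K51.f706555 IH) (Lpe (K51.f617082 IH) (Lpr_df (K40.f561810 IH) (Lpr_et (f99647 IH) (Lpr_gt (K56.f100100 IH) (Lpr_dt (K59.f100103 IH) (Lpn (LP (LK LD1_c9 LD2_c15 LD3_c35)))))))))))))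
theorem f901815 : Led Lsl_ft (LP (LK LD1_c9 LD2_c15 LD3_c35)) = (LP (LK LD1_c17 LD2_c3 LD3_c6)) :=
  Lgr Lrot2 (Lpe (f706564 IH) (Lpr_gt (f653050 IH) (Lpr_af (f901808 IH) (Lpn (LP (LK LD1_c17 LD2_c3 LD3_c6))))))
theorem f901819 : Led Lsl_ff (LP (LK LD1_c9 LD2_c15 LD3_c35)) = (LP (LK LD1_c17 LD2_c3 LD3_c6)) :=
  Lgr Lrot3 (Lpr_ft (f901815 IH) (Lpn (LP (LK LD1_c17 LD2_c3 LD3_c6))))
theorem f547934 : Led Lsl_et (LP (LK LD1_c9 LD2_c7 LD3_c45)) = (LP (LK LD1_c4 LD2_c35 LD3_c38)) :=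
  Lre_e IH (LK LD1_c9 LD2_c7 LD3_c45) (LK LD1_c4 LD2_c35 LD3_c38) Lrfl Lrfl
theorem f100091 : Led Lsl_dt (LP (LK LD1_c17 LD2_c3 LD3_c7)) = (LP (LK LD1_c9 LD2_c9 LD3_c60)) :=
  Lre_d IH (LK LD1_c17 LD2_c3 LD3_c7) (LK LD1_c9 LD2_c9 LD3_c60) Lrfl Lrfl
theorem f615334 : Led Lsl_gt (LP (LK LD1_c11 LD2_c49 LD3_c28)) = (LP (LK LD1_c17 LD2_c3 LD3_c7)) :=
  Lgr Lrot137 (Lpr_ef (K71.f615307 IH) (Lpr_dt (K71.f547940 IH) (Lpe (K52.f160865 IH) (Lpe (K56.f435441 IH) (Lpr_et (K56.f547939 IH) (Lpe (K36.f34907 IH) (Lpe (f547934 IH) (Lpr_dt (K36.f547928 IH) (Lpe (K69.f100087 IH) (Lpe (f100091 IH) (Lpn (LP (LK LD1_c17 LD2_c3 LD3_c7)))))))))))))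
theorem f901823 : Led Lsl_at (LP (LK LD1_c9 LD2_c15 LD3_c35)) = (LP (LK LD1_c17 LD2_c3 LD3_c7)) :=
  Lgr Lrot26 (Lpr_ff (f901819 IH) (Lpe (K42.f615065 IH) (Lpr_gt (f615334 IH) (Lpn (LP (LK LD1_c17 LD2_c3 LD3_c7))))))
theorem f753283 : Led Lsl_bf (LP (LK LD1_c10 LD2_c4 LD3_c36)) = (LP (LK LD1_c9 LD2_c15 LD3_c35)) :=
  Lgr Lrot93 (Lpe (K69.f169772 IH) (Lpr_bt (K56.f744510 IH) (Lpqs (K56.f753275 IH) (Lpr_dt (K59.f100103 IH) (Lpn (LP (LK LD1_c9 LD2_c15 LD3_c35)))))))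
theorem f722032 : Led Lsl_bt (LP (LK LD1_c5 LD2_c6 LD3_c55)) = (LP (LK LD1_c10 LD2_c4 LD3_c35)) :=
  Lre_b IH (LK LD1_c5 LD2_c6 LD3_c55) (LK LD1_c10 LD2_c4 LD3_c35) Lrfl Lrfl
theorem f753287 : Led Lsl_et (LP (LK LD1_c10 LD2_c4 LD3_c35)) = (LP (LK LD1_c9 LD2_c15 LD3_c35)) :=
  Lgr Lrot74 (Lpe (f722032 IH) (Lpe (K69.f166386 IH) (Lpr_bf (f753283 IH) (Lpn (LP (LK LD1_c9 LD2_c15 LD3_c35))))))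
theorem f547935 : Led Lsl_et (LP (LK LD1_c4 LD2_c35 LD3_c34)) = (LP (LK LD1_c9 LD2_c7 LD3_c38)) :=
  Lre_e IH (LK LD1_c4 LD2_c35 LD3_c34) (LK LD1_c9 LD2_c7 LD3_c38) Lrfl Lrfl
theorem f547936 : Led Lsl_gt (LP (LK LD1_c9 LD2_c7 LD3_c38)) = (LP (LK LD1_c16 LD2_c59 LD3_c49)) :=
  Lre_g IH (LK LD1_c9 LD2_c7 LD3_c38) (LK LD1_c16 LD2_c59 LD3_c49) Lrfl Lrfl
theorem f547937 : Led Lsl_ef (LP (LK LD1_c16 LD2_c59 LD3_c49)) = (LP (LK LD1_c17 LD2_c3 LD3_c7)) :=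
  Lgr Lrot17 (Lpe (f547936 IH) (Lpe (f547935 IH) (Lpr_dt (K44.f35207 IH) (Lpe (K39.f34903 IH) (Lpe (K36.f34889 IH) (Lpe (K36.f34907 IH) (Lpe (f547934 IH) (Lpr_dt (K36.f547928 IH) (Lpe (K69.f100087 IH) (Lpe (f100091 IH) (Lpn (LP (LK LD1_c17 LD2_c3 LD3_c7)))))))))))))
theorem f901827 : Led Lsl_af (LP (LK LD1_c10 LD2_c4 LD3_c35)) = (LP (LK LD1_c16 LD2_c59 LD3_c49)) :=
  Lgr Lrot50 (Lpr_et (f753287 IH) (Lpr_at (f901823 IH) (Lpe (f547937 IH) (Lpn (LP (LK LD1_c16 LD2_c59 LD3_c49))))))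
theorem f901833 : Led Lsl_at (LP (LK LD1_c10 LD2_c4 LD3_c35)) = (LP (LK LD1_c16 LD2_c59 LD3_c49)) :=
  Lgr Lrot100 (Lpr_af (f901827 IH) (Lpn (LP (LK LD1_c16 LD2_c59 LD3_c49))))
theorem f901835 : Led Lsl_ff (LP (LK LD1_c10 LD2_c4 LD3_c35)) = v38259 :=
  Lgr Lrot52 (Lpr_at (f901833 IH) (Lpe (f547936 IH) (Lpr_gf (f900296 IH) (Lpn v38259))))
theorem f308009 : Led Lsl_bt (LP (LK LD1_c10 LD2_c4 LD3_c35)) = (LP (LK LD1_c5 LD2_c6 LD3_c55)) :=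
  Lre_b IH (LK LD1_c10 LD2_c4 LD3_c35) (LK LD1_c5 LD2_c6 LD3_c55) Lrfl Lrfl
def v14343 : LQ := Led Lsl_ft (LP (LK LD1_c5 LD2_c6 LD3_c55))
theorem f722040 : Led Lsl_ft (LP (LK LD1_c5 LD2_c6 LD3_c55)) = v14343 :=
  Lrfl
theorem f901836 : Led Lsl_bt v14343 = v38259 :=
  Lgr Lrot35 (Lpe (f722040 IH) (Lpe (f308009 IH) (Lpr_ff (f901835 IH) (Lpn v38259))))
def v4593 : LQ := Led Lsl_gf (LP (LK LD1_c2 LD2_c33 LD3_c41))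
def v24165 : LQ := Led Lsl_bt v4593
theorem f822745 : Led Lsl_bt v4593 = v24165 :=
  Lrfl
def v14557 : LQ := Led Lsl_at (LP (LK LD1_c5 LD2_c13 LD3_c35))
theorem f723734 : Led Lsl_at (LP (LK LD1_c5 LD2_c13 LD3_c35)) = v14557 :=
  Lrfl
theorem f723735 : Led Lsl_af (LP (LK LD1_c5 LD2_c13 LD3_c35)) = v14557 :=
  Lgr Lrot0 (Lpr_at (f723734 IH) (Lpn v14557))
theorem f636305 : Led Lsl_gf (LP (LK LD1_c2 LD2_c33 LD3_c41)) = v4593 :=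
  Lrfl
theorem f723737 : Led Lsl_ft v4593 = v14557 :=
  Lgr Lrot2 (Lpe (f636305 IH) (Lpr_gt (K56.f185767 IH) (Lpr_af (f723735 IH) (Lpn v14557))))
theorem f723738 : Led Lsl_ff v4593 = v14557 :=
  Lgr Lrot3 (Lpr_ft (f723737 IH) (Lpn v14557))
def v14340 : LQ := Led Lsl_at (LP (LK LD1_c5 LD2_c6 LD3_c55))
theorem f722030 : Led Lsl_at (LP (LK LD1_c5 LD2_c6 LD3_c55)) = v14340 :=
  Lrfl
theorem f722031 : Led Lsl_af (LP (LK LD1_c5 LD2_c6 LD3_c55)) = v14340 :=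
  Lgr Lrot0 (Lpr_at (f722030 IH) (Lpn v14340))
theorem f699624 : Led Lsl_et (LP (LK LD1_c5 LD2_c13 LD3_c35)) = (LP (LK LD1_c10 LD2_c17 LD3_c27)) :=
  Lre_e IH (LK LD1_c5 LD2_c13 LD3_c35) (LK LD1_c10 LD2_c17 LD3_c27) Lrfl Lrfl
theorem f901857 : v14340 = (LP (LK LD1_c5 LD2_c13 LD3_c35)) :=
  (Llr Lrot80 (Lpe (f722030 IH) (Lpe (K69.f166386 IH) (Lpr_af (K69.f901853 IH) (Lpe (f699624 IH) (Lpn (LP (LK LD1_c5 LD2_c13 LD3_c35)))))))).symm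
theorem f901858 : (LP (LK LD1_c5 LD2_c6 LD3_c55)) = v14557 :=
  Lefun (Lecon (Lfl_af (f722031 IH)) (f901857 IH)) (f723734 IH)
theorem f901862 : v4593 = v14343 :=
  Lefun (Lecon (Lfl_ff (f723738 IH)) (f901858 IH).symm) (f722040 IH)
theorem f901863 : v38259 = v24165 :=
  Lefun (Lecon (f901836 IH) (f901862 IH).symm) (f822745 IH)
def v24166 : LQ := Led Lsl_ct v4593
theorem f822747 : Led Lsl_ct v4593 = v24166 :=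
  Lrfl
theorem f301779 : Led Lsl_gf (LP (LK LD1_c5 LD2_c14 LD3_c9)) = (LP (LK LD1_c5 LD2_c7 LD3_c10)) :=
  Lgr Lrot76 (Lpr_af (K18.f301768 IH) (Lpe (K53.f165688 IH) (Lpr_gt (K41.f165679 IH) (Lpn (LP (LK LD1_c5 LD2_c7 LD3_c10))))))
def v14467 : LQ := Led Lsl_ft (LP (LK LD1_c5 LD2_c11 LD3_c2))
theorem f722674 : Led Lsl_ft (LP (LK LD1_c5 LD2_c11 LD3_c2)) = v14467 :=
  Lrfl
theorem f722678 : Led Lsl_ff (LP (LK LD1_c5 LD2_c11 LD3_c2)) = v14467 :=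
  Lgr Lrot3 (Lpr_ft (f722674 IH) (Lpn v14467))
theorem f181079 : Led Lsl_cf (LP (LK LD1_c2 LD2_c33 LD3_c57)) = (LP (LK LD1_c5 LD2_c11 LD3_c2)) :=
  Lgr Lrot11 (Lpr_ct (K18.f181075 IH) (Lpn (LP (LK LD1_c5 LD2_c11 LD3_c2))))
theorem f722681 : Led Lsl_ct (LP (LK LD1_c5 LD2_c14 LD3_c9)) = v14467 :=
  Lgr Lrot40 (Lpe (K18.f61325 IH) (Lpr_cf (f181079 IH) (Lpr_ff (f722678 IH) (Lpn v14467))))
def v14230 : LQ := Led Lsl_gf (LP (LK LD1_c5 LD2_c3 LD3_c56))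
theorem f721112 : Led Lsl_gf (LP (LK LD1_c5 LD2_c3 LD3_c56)) = v14230 :=
  Lrfl
theorem f722683 : Led Lsl_gf v14230 = v14467 :=
  Lgr Lrot47 (Lpe (f721112 IH) (Lpe (K18.f301754 IH) (Lpr_ff (f722678 IH) (Lpn v14467))))
theorem f931473 : v24166 = v14230 :=
  (Llr Lrot63 (Lpe (f822747 IH) (Lpr_bt (f822745 IH) (Lpq (f901863 IH) (Lpe (f900296 IH) (Lpe (K72.f616514 IH) (Lpr_ct (f723721 IH) (Lpr_gt (f931472 IH) (Lpe (f931466 IH) (Lpr_bt (K56.f301781 IH) (Lpe (f301779 IH) (Lpr_ct (f722681 IH) (Lpe (f722683 IH) (Lpn v14230)))))))))))))).symm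
def v41520 : LQ := Led Lsl_et (LP (LK LD1_c9 LD2_c58 LD3_c46))
theorem f926631 : Led Lsl_et (LP (LK LD1_c9 LD2_c58 LD3_c46)) = v41520 :=
  Lrfl
def v38236 : LQ := Led Lsl_et (LP (LK LD1_c9 LD2_c7 LD3_c20))
theorem f900194 : Led Lsl_et (LP (LK LD1_c9 LD2_c7 LD3_c20)) = v38236 :=
  Lrfl
theorem f900198 : Led Lsl_ef (LP (LK LD1_c9 LD2_c7 LD3_c20)) = v38236 :=
  Lgr Lrot88 (Lpr_et (f900194 IH) (Lpn v38236))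
theorem f926636 : Led Lsl_ff v38236 = v41520 :=
  Lgr Lrot72 (Lpe (f900198 IH) (Lpr_ft (K40.f562730 IH) (Lpr_et (K53.f551781 IH) (Lpe (K53.f699290 IH) (Lpr_et (f926631 IH) (Lpn v41520))))))
theorem f562715 : Led Lsl_af (LP (LK LD1_c5 LD2_c13 LD3_c48)) = (LP (LK LD1_c4 LD2_c35 LD3_c36)) :=
  Lgr Lrot0 (Lpr_at (K40.f562711 IH) (Lpn (LP (LK LD1_c4 LD2_c35 LD3_c36))))
theorem f562709 : Led Lsl_ft (LP (LK LD1_c5 LD2_c13 LD3_c48)) = (LP (LK LD1_c4 LD2_c35 LD3_c34)) :=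
  Lgr Lrot48 (Lpr_ff (K40.f562704 IH) (Lpn (LP (LK LD1_c4 LD2_c35 LD3_c34))))
theorem f562732 : Led Lsl_af (LP (LK LD1_c9 LD2_c7 LD3_c20)) = (LP (LK LD1_c4 LD2_c35 LD3_c34)) :=
  Lgr Lrot45 (Lpr_ft (K40.f562730 IH) (Lpe (f562715 IH) (Lpr_ft (f562709 IH) (Lpn (LP (LK LD1_c4 LD2_c35 LD3_c34))))))
theorem f900195 : Led Lsl_af (LP (LK LD1_c9 LD2_c7 LD3_c38)) = v38236 :=
  Lgr Lrot50 (Lpr_et (K72.f553511 IH) (Lpe (f562732 IH) (Lpr_et (f900194 IH) (Lpn v38236))))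
theorem f926643 : Led Lsl_gf v38259 = v41520 :=
  Lgr Lrot47 (Lpe (f900296 IH) (Lpr_af (f900195 IH) (Lpr_ff (f926636 IH) (Lpn v41520))))
def v41519 : LQ := Led Lsl_dt (LP (LK LD1_c9 LD2_c58 LD3_c46))
theorem f926619 : Led Lsl_dt (LP (LK LD1_c9 LD2_c58 LD3_c46)) = v41519 :=
  Lrfl
theorem f699392 : Led Lsl_df (LP (LK LD1_c18 LD2_c12 LD3_c52)) = (LP (LK LD1_c10 LD2_c17 LD3_c45)) :=
  Lgr Lrot38 (Lpr_dt (K53.f699390 IH) (Lpn (LP (LK LD1_c10 LD2_c17 LD3_c45))))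
theorem f926624 : Led Lsl_gf (LP (LK LD1_c10 LD2_c17 LD3_c45)) = v41519 :=
  Lgr Lrot143 (Lpe (f699392 IH) (Lpr_cf (K53.f343404 IH) (Lpe (K69.f233583 IH) (Lpe (K53.f233582 IH) (Lpe (K72.f260018 IH) (Lpe (K72.f721242 IH) (Lpr_cf (K72.f721224 IH) (Lpr_gt (K53.f165747 IH) (Lpr_dt (f926619 IH) (Lpn v41519))))))))))
theorem f926637 : Led Lsl_gt (LP (LK LD1_c16 LD2_c59 LD3_c49)) = v41520 :=
  Lgr Lrot131 (Lpr_ef (f547937 IH) (Lpr_dt (f100091 IH) (Lpr_gf (K69.f100088 IH) (Lpe (K53.f80006 IH) (Lpr_gf (K53.f723181 IH) (Lpe (K53.f723200 IH) (Lpr_dt (K53.f699390 IH) (Lpr_gf (f926624 IH) (Lpe (f926619 IH) (Lpr_et (f926631 IH) (Lpn v41520)))))))))))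
theorem f926638 : Led Lsl_at (LP (LK LD1_c16 LD2_c59 LD3_c50)) = v41520 :=
  Lgr Lrot26 (Lpe (K72.f616520 IH) (Lpr_gt (f547936 IH) (Lpr_gt (f926637 IH) (Lpn v41520))))
theorem f186381 : Led Lsl_bt (LP (LK LD1_c6 LD2_c16 LD3_c47)) = (LP (LK LD1_c12 LD2_c10 LD3_c33)) :=
  Lre_b IH (LK LD1_c6 LD2_c16 LD3_c47) (LK LD1_c12 LD2_c10 LD3_c33) Lrfl Lrfl
theorem f616525 : Led Lsl_dt (LP (LK LD1_c12 LD2_c10 LD3_c33)) = (LP (LK LD1_c16 LD2_c59 LD3_c50)) :=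
  Lgr Lrot79 (Lpe (f186381 IH) (Lpr_df (K69.f186378 IH) (Lpr_bf (K72.f616521 IH) (Lpn (LP (LK LD1_c16 LD2_c59 LD3_c50))))))
theorem f582215 : Led Lsl_ft (LP (LK LD1_c12 LD2_c10 LD3_c33)) = (LP (LK LD1_c6 LD2_c16 LD3_c45)) :=
  Lre_f IH (LK LD1_c12 LD2_c10 LD3_c33) (LK LD1_c6 LD2_c16 LD3_c45) Lrfl Lrfl
theorem f582204 : Led Lsl_ft (LP (LK LD1_c9 LD2_c17 LD3_c54)) = (LP (LK LD1_c17 LD2_c12 LD3_c60)) :=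
  Lre_f IH (LK LD1_c9 LD2_c17 LD3_c54) (LK LD1_c17 LD2_c12 LD3_c60) Lrfl Lrfl
theorem f582216 : Led Lsl_af (LP (LK LD1_c12 LD2_c10 LD3_c33)) = (LP (LK LD1_c17 LD2_c12 LD3_c60)) :=
  Lgr Lrot45 (Lpr_ft (f582215 IH) (Lpr_at (K44.f582206 IH) (Lpr_ft (f582204 IH) (Lpn (LP (LK LD1_c17 LD2_c12 LD3_c60))))))
theorem f926639 : Led Lsl_df (LP (LK LD1_c17 LD2_c12 LD3_c60)) = v41520 :=
  Lgr Lrot18 (Lpe (f582216 IH) (Lpr_dt (f616525 IH) (Lpr_at (f926638 IH) (Lpn v41520))))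
theorem f582209 : Led Lsl_ft (LP (LK LD1_c17 LD2_c12 LD3_c60)) = (LP (LK LD1_c9 LD2_c17 LD3_c54)) :=
  Lre_f IH (LK LD1_c17 LD2_c12 LD3_c60) (LK LD1_c9 LD2_c17 LD3_c54) Lrfl Lrfl
theorem f699240 : Led Lsl_bt (LP (LK LD1_c18 LD2_c23 LD3_c30)) = (LP (LK LD1_c17 LD2_c12 LD3_c60)) :=
  Lgr Lrot35 (Lpr_ff (K53.f699238 IH) (Lpr_bf (K44.f582201 IH) (Lpe (f582209 IH) (Lpn (LP (LK LD1_c17 LD2_c12 LD3_c60))))))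
theorem f699420 : Led Lsl_bf (LP (LK LD1_c18 LD2_c23 LD3_c30)) = (LP (LK LD1_c17 LD2_c12 LD3_c60)) :=
  Lgr Lrot24 (Lpr_bt (f699240 IH) (Lpn (LP (LK LD1_c17 LD2_c12 LD3_c60))))
theorem f926640 : Led Lsl_bt (LP (LK LD1_c10 LD2_c4 LD3_c49)) = v41520 :=
  Lgr Lrot95 (Lpe (K50.f387269 IH) (Lpr_bf (f699420 IH) (Lpr_df (f926639 IH) (Lpn v41520))))
theorem f165682 : Led Lsl_gt (LP (LK LD1_c10 LD2_c4 LD3_c51)) = (LP (LK LD1_c5 LD2_c7 LD3_c6)) :=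
  Lre_g IH (LK LD1_c10 LD2_c4 LD3_c51) (LK LD1_c5 LD2_c7 LD3_c6) Lrfl Lrfl
theorem f931387 : Led Lsl_cf (LP (LK LD1_c10 LD2_c4 LD3_c51)) = v41998 :=
  Lgr Lrot11 (Lpr_ct (f931386 IH) (Lpn v41998))
theorem f165684 : Led Lsl_gt (LP (LK LD1_c5 LD2_c7 LD3_c6)) = (LP (LK LD1_c10 LD2_c4 LD3_c50)) :=
  Lre_g IH (LK LD1_c5 LD2_c7 LD3_c6) (LK LD1_c10 LD2_c4 LD3_c50) Lrfl Lrfl
theorem f931477 : v41998 = (LP (LK LD1_c10 LD2_c4 LD3_c50)) :=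
  (Llr Lrot125 (Lpe (f931387 IH) (Lpr_gt (f165682 IH) (Lpe (K50.f165675 IH) (Lpr_bt (f926640 IH) (Lpe (f926643 IH) (Lpqs (f901863 IH) (Lpe (f822745 IH) (Lpr_ct (f822747 IH) (Lpqs (f931473 IH) (Lpe (f721112 IH) (Lpr_cf (K18.f165666 IH) (Lpr_bt (K71.f165681 IH) (Lpr_gt (f165684 IH) (Lpn (LP (LK LD1_c10 LD2_c4 LD3_c50))))))))))))))))).symm
theorem f931479 : Led Lsl_ct (LP (LK LD1_c10 LD2_c4 LD3_c51)) = (LP (LK LD1_c10 LD2_c4 LD3_c50)) :=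
  Leop (Lpq (f931477 IH) (Lpe (f931386 IH) (Lpn (LP (LK LD1_c10 LD2_c4 LD3_c51)))))
theorem seed_2581 : LEOK LG_c (LK LD1_c10 LD2_c4 LD3_c51) :=
  Leoe_c (LK LD1_c10 LD2_c4 LD3_c51) (f931479 IH)
theorem f720197 : Led Lsl_af (LP (LK LD1_c10 LD2_c4 LD3_c59)) = (LP (LK LD1_c10 LD2_c18 LD3_c27)) :=
  Lgr Lrot50 (Lpr_et (K56.f720195 IH) (Lpr_at (K32.f503425 IH) (Lpe (K56.f616075 IH) (Lpn (LP (LK LD1_c10 LD2_c18 LD3_c27))))))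
def v41944 : LQ := Led Lsl_gt (LP (LK LD1_c10 LD2_c4 LD3_c4))
theorem f930350 : Led Lsl_gt (LP (LK LD1_c10 LD2_c4 LD3_c4)) = v41944 :=
  Lrfl
theorem f198792 : Led Lsl_et (LP (LK LD1_c5 LD2_c6 LD3_c40)) = (LP (LK LD1_c10 LD2_c4 LD3_c4)) :=
  Lre_e IH (LK LD1_c5 LD2_c6 LD3_c40) (LK LD1_c10 LD2_c4 LD3_c4) Lrfl Lrfl
theorem f495510 : Led Lsl_df (LP (LK LD1_c2 LD2_c0 LD3_c47)) = K30.v1427 :=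
  Lgr Lrot155 (Lpr_gt (K14.f226067 IH) (Lpr_ct (K18.f183043 IH) (Lpr_gt (K12.f166122 IH) (Lpr_ct (K9.f166123 IH) (Lpr_dt (K15.f182555 IH) (Lpr_cf (K9.f183033 IH) (Lpe (K9.f175306 IH) (Lpe (K53.f9053 IH) (Lpr_gf (K30.f495504 IH) (Lpn K30.v1427))))))))))
theorem f195600 : Led Lsl_et (LP (LK LD1_c4 LD2_c39 LD3_c52)) = (LP (LK LD1_c2 LD2_c16 LD3_c58)) :=
  Lre_e IH (LK LD1_c4 LD2_c39 LD3_c52) (LK LD1_c2 LD2_c16 LD3_c58) Lrfl Lrfl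
theorem f23883 : Led Lsl_dt (LP (LK LD1_c4 LD2_c39 LD3_c52)) = (LP (LK LD1_c9 LD2_c15 LD3_c16)) :=
  Lre_d IH (LK LD1_c4 LD2_c39 LD3_c52) (LK LD1_c9 LD2_c15 LD3_c16) Lrfl Lrfl
def v38755 : LQ := Led Lsl_gf (LP (LK LD1_c9 LD2_c15 LD3_c16))
theorem f904296 : Led Lsl_gf (LP (LK LD1_c9 LD2_c15 LD3_c16)) = v38755 :=
  Lrfl
def v38632 : LQ := Led Lsl_ct (LP (LK LD1_c9 LD2_c13 LD3_c38))
theorem f903368 : Led Lsl_ct (LP (LK LD1_c9 LD2_c13 LD3_c38)) = v38632 :=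
  Lrfl
theorem f73624 : Led Lsl_ct (LP (LK LD1_c11 LD2_c30 LD3_c40)) = (LP (LK LD1_c5 LD2_c51 LD3_c40)) :=
  Lre_c IH (LK LD1_c11 LD2_c30 LD3_c40) (LK LD1_c5 LD2_c51 LD3_c40) Lrfl Lrfl
theorem f903372 : Led Lsl_gf (LP (LK LD1_c11 LD2_c30 LD3_c40)) = v38632 :=
  Lgr Lrot104 (Lpr_ct (f73624 IH) (Lpe (K35.f73622 IH) (Lpe (K32.f438589 IH) (Lpr_gf (K32.f437962 IH) (Lpe (K1.f58565 IH) (Lpe (K0.f27074 IH) (Lpe (K56.f23894 IH) (Lpe (K35.f27067 IH) (Lpr_ct (f903368 IH) (Lpn v38632))))))))))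
theorem f904299 : Led Lsl_dt (LP (LK LD1_c11 LD2_c30 LD3_c40)) = v38755 :=
  Lgr Lrot57 (Lpr_gf (f903372 IH) (Lpe (f903368 IH) (Lpr_gt (K16.f421000 IH) (Lpr_dt (K16.f193909 IH) (Lpr_gt (K11.f198670 IH) (Lpr_dt (K0.f22477 IH) (Lpe (K1.f23890 IH) (Lpe (K1.f8712 IH) (Lpr_gf (f904296 IH) (Lpn v38755))))))))))
theorem f930351 : Led Lsl_et (LP (LK LD1_c11 LD2_c30 LD3_c40)) = v41944 :=
  Lgr Lrot122 (Lpr_dt (f904299 IH) (Lpe (f904296 IH) (Lpe (f23883 IH) (Lpr_et (f195600 IH) (Lpr_gt (K30.f495505 IH) (Lpe (f495510 IH) (Lpr_gt (K14.f226067 IH) (Lpe (K18.f198790 IH) (Lpr_et (f198792 IH) (Lpr_gt (f930350 IH) (Lpn v41944)))))))))))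
theorem f73623 : Led Lsl_ct (LP (LK LD1_c5 LD2_c51 LD3_c40)) = (LP (LK LD1_c11 LD2_c30 LD3_c40)) :=
  Lre_c IH (LK LD1_c5 LD2_c51 LD3_c40) (LK LD1_c11 LD2_c30 LD3_c40) Lrfl Lrfl
theorem f930352 : Led Lsl_cf (LP (LK LD1_c10 LD2_c18 LD3_c27)) = v41944 :=
  Lgr Lrot39 (Lpr_et (K56.f616073 IH) (Lpr_ct (f73623 IH) (Lpr_et (f930351 IH) (Lpn v41944))))
theorem f931467 : Led Lsl_af v41944 = v42009 :=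
  Lgr Lrot68 (Lpe (f930352 IH) (Lpe (f720197 IH) (Lpr_ct (f931466 IH) (Lpn v42009))))
def v41945 : LQ := Led Lsl_gf (LP (LK LD1_c10 LD2_c4 LD3_c4))
theorem f930355 : Led Lsl_gf (LP (LK LD1_c10 LD2_c4 LD3_c4)) = v41945 :=
  Lrfl
theorem f931485 : Led Lsl_ft v41945 = v42009 :=
  Lgr Lrot2 (Lpe (f930355 IH) (Lpr_gt (f930350 IH) (Lpr_af (f931467 IH) (Lpn v42009))))
theorem f931468 : Led Lsl_cf (LP (LK LD1_c10 LD2_c4 LD3_c59)) = v42009 :=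
  Lgr Lrot11 (Lpr_ct (f931466 IH) (Lpn v42009))
theorem f723910 : Led Lsl_ft (LP (LK LD1_c10 LD2_c4 LD3_c59)) = K56.v14585 :=
  Lgr Lrot48 (Lpr_ff (K56.f723907 IH) (Lpn K56.v14585))
theorem f931486 : Led Lsl_cf v41945 = K56.v14585 :=
  Lgr Lrot108 (Lpr_ft (f931485 IH) (Lpe (f931468 IH) (Lpr_ft (f723910 IH) (Lpn K56.v14585))))
theorem f176956 : Led Lsl_ct (LP (LK LD1_c10 LD2_c4 LD3_c4)) = (LP (LK LD1_c5 LD2_c6 LD3_c41)) :=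
  Lre_c IH (LK LD1_c10 LD2_c4 LD3_c4) (LK LD1_c5 LD2_c6 LD3_c41) Lrfl Lrfl
def v12900 : LQ := Led Lsl_et (LP (LK LD1_c4 LD2_c34 LD3_c11))
theorem f699424 : Led Lsl_et (LP (LK LD1_c4 LD2_c34 LD3_c11)) = v12900 :=
  Lrfl
theorem f699427 : Led Lsl_cf (LP (LK LD1_c4 LD2_c41 LD3_c33)) = v12900 :=
  Lgr Lrot39 (Lpr_et (K18.f26817 IH) (Lpr_ct (K18.f225443 IH) (Lpr_et (f699424 IH) (Lpn v12900))))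
theorem f616077 : Led Lsl_af (LP (LK LD1_c5 LD2_c14 LD3_c26)) = (LP (LK LD1_c5 LD2_c38 LD3_c48)) :=
  Lgr Lrot0 (Lpr_at (K53.f616066 IH) (Lpn (LP (LK LD1_c5 LD2_c38 LD3_c48))))
theorem f210517 : Led Lsl_ft (LP (LK LD1_c11 LD2_c8 LD3_c35)) = (LP (LK LD1_c5 LD2_c38 LD3_c48)) :=
  Lre_f IH (LK LD1_c11 LD2_c8 LD3_c35) (LK LD1_c5 LD2_c38 LD3_c48) Lrfl Lrfl
theorem f723906 : Led Lsl_gt (LP (LK LD1_c11 LD2_c8 LD3_c35)) = K56.v14585 :=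
  Lgr Lrot5 (Lpr_ft (f210517 IH) (Lpe (f616077 IH) (Lpr_gf (K56.f723905 IH) (Lpn K56.v14585))))
def v38158 : LQ := Led Lsl_ct (LP (LK LD1_c9 LD2_c5 LD3_c43))
theorem f899630 : Led Lsl_ct (LP (LK LD1_c9 LD2_c5 LD3_c43)) = v38158 :=
  Lrfl
theorem f931489 : Led Lsl_gf v12900 = v38158 :=
  Lgr Lrot104 (Lpe (f699427 IH) (Lpe (K18.f176950 IH) (Lpe (f176956 IH) (Lpr_gf (f930355 IH) (Lpr_cf (f931486 IH) (Lpqs (K56.f739535 IH) (Lpq (K56.f739535 IH) (Lpe (f723906 IH) (Lpe (K53.f210515 IH) (Lpr_gt (K67.f406564 IH) (Lpr_ct (f899630 IH) (Lpn v38158))))))))))))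
theorem f699428 : Led Lsl_ef (LP (LK LD1_c4 LD2_c34 LD3_c11)) = v12900 :=
  Lgr Lrot88 (Lpr_et (f699424 IH) (Lpn v12900))
theorem f699431 : Led Lsl_ct (LP (LK LD1_c4 LD2_c41 LD3_c33)) = v12900 :=
  Lgr Lrot15 (Lpe (K50.f176924 IH) (Lpr_cf (K18.f225436 IH) (Lpr_ef (f699428 IH) (Lpn v12900))))
theorem f176953 : Led Lsl_bt (LP (LK LD1_c4 LD2_c41 LD3_c33)) = (LP (LK LD1_c9 LD2_c17 LD3_c59)) :=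
  Lre_b IH (LK LD1_c4 LD2_c41 LD3_c33) (LK LD1_c9 LD2_c17 LD3_c59) Lrfl Lrfl
theorem f578254 : Led Lsl_gt (LP (LK LD1_c6 LD2_c14 LD3_c52)) = (LP (LK LD1_c4 LD2_c26 LD3_c12)) :=
  Lgr Lrot46 (Lpe (K43.f80504 IH) (Lpr_ft (K43.f578244 IH) (Lpe (K57.f499030 IH) (Lpn (LP (LK LD1_c4 LD2_c26 LD3_c12))))))
theorem f893162 : Led Lsl_gt (LP (LK LD1_c9 LD2_c17 LD3_c59)) = v37133 :=
  Lgr Lrot65 (Lpe (K50.f604831 IH) (Lpr_bt (K50.f499032 IH) (Lpe (f578254 IH) (Lpe (K43.f80503 IH) (Lpr_ct (K39.f80480 IH) (Lpe (K37.f420669 IH) (Lpr_cf (K37.f210841 IH) (Lpe (K46.f210853 IH) (Lpe (K68.f210856 IH) (Lpr_ct (f893158 IH) (Lpn v37133)))))))))))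
theorem f607056 : Led Lsl_bt (LP (LK LD1_c3 LD2_c10 LD3_c0)) = (LP (LK LD1_c6 LD2_c24 LD3_c47)) :=
  Lre_b IH (LK LD1_c3 LD2_c10 LD3_c0) (LK LD1_c6 LD2_c24 LD3_c47) Lrfl Lrfl
theorem f893163 : Led Lsl_bt v17960 = v37133 :=
  Lgr Lrot128 (Lpe (f762994 IH) (Lpe (f607056 IH) (Lpe (K68.f576823 IH) (Lpe (K68.f210856 IH) (Lpr_cf (f893160 IH) (Lpn v37133))))))
theorem f607057 : Led Lsl_gt (LP (LK LD1_c6 LD2_c24 LD3_c47)) = (LP (LK LD1_c12 LD2_c22 LD3_c27)) :=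
  Lre_g IH (LK LD1_c6 LD2_c24 LD3_c47) (LK LD1_c12 LD2_c22 LD3_c27) Lrfl Lrfl
theorem f210518 : Led Lsl_bt (LP (LK LD1_c11 LD2_c27 LD3_c46)) = (LP (LK LD1_c5 LD2_c49 LD3_c26)) :=
  Lre_b IH (LK LD1_c11 LD2_c27 LD3_c46) (LK LD1_c5 LD2_c49 LD3_c26) Lrfl Lrfl
theorem f931491 : Led Lsl_cf (LP (LK LD1_c12 LD2_c22 LD3_c27)) = (LP (LK LD1_c11 LD2_c27 LD3_c46)) :=
  Lgr Lrot58 (Lpe (f607057 IH) (Lpr_cf (f762995 IH) (Lpr_bt (f893163 IH) (Lpe (f893162 IH) (Lpe (f176953 IH) (Lpr_ct (f699431 IH) (Lpr_gf (f931489 IH) (Lpe (f899630 IH) (Lpe (K67.f406564 IH) (Lpe (f210518 IH) (Lpn (LP (LK LD1_c11 LD2_c27 LD3_c46)))))))))))))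
theorem f931492 : Led Lsl_ct (LP (LK LD1_c11 LD2_c27 LD3_c46)) = (LP (LK LD1_c12 LD2_c22 LD3_c27)) :=
  Leop (Lpr_cf (f931491 IH) (Lpn (LP (LK LD1_c11 LD2_c27 LD3_c46))))
theorem seed_2582 : LEOK LG_c (LK LD1_c11 LD2_c27 LD3_c46) :=
  Leoe_c (LK LD1_c11 LD2_c27 LD3_c46) (f931492 IH)
def v15894 : LQ := Led Lsl_bt (LP (LK LD1_c5 LD2_c49 LD3_c32))
theorem f744107 : Led Lsl_bt (LP (LK LD1_c5 LD2_c49 LD3_c32)) = v15894 :=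
  Lrfl
theorem f744108 : Led Lsl_bf (LP (LK LD1_c5 LD2_c49 LD3_c32)) = v15894 :=
  Lgr Lrot24 (Lpr_bt (f744107 IH) (Lpn v15894))
theorem f931493 : v15894 = (LP (LK LD1_c9 LD2_c5 LD3_c43)) :=
  (Llr Lrot34 (Lpe (f744108 IH) (Lpr_gf (K53.f722182 IH) (Lpr_bf (f931394 IH) (Lpe (f931395 IH) (Lpr_gf (f763902 IH) (Lpr_cf (f893160 IH) (Lpe (f893162 IH) (Lpe (f176953 IH) (Lpr_ct (f699431 IH) (Lpr_gf (f931489 IH) (Lpe (f899630 IH) (Lpn (LP (LK LD1_c9 LD2_c5 LD3_c43))))))))))))))).symm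
theorem f931495 : Led Lsl_bt (LP (LK LD1_c5 LD2_c49 LD3_c32)) = (LP (LK LD1_c9 LD2_c5 LD3_c43)) :=
  Leop (Lpq (f931493 IH) (Lpe (f744107 IH) (Lpn (LP (LK LD1_c5 LD2_c49 LD3_c32)))))
theorem seed_2583 : LEOK LG_b (LK LD1_c5 LD2_c49 LD3_c32) :=
  Leoe_b (LK LD1_c5 LD2_c49 LD3_c32) (f931495 IH)
def v14390 : LQ := Led Lsl_bt (LP (LK LD1_c5 LD2_c8 LD3_c8))
theorem f722309 : Led Lsl_bt (LP (LK LD1_c5 LD2_c8 LD3_c8)) = v14390 :=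
  Lrfl
def v15893 : LQ := Led Lsl_ft (LP (LK LD1_c5 LD2_c49 LD3_c31))
theorem f744103 : Led Lsl_ft (LP (LK LD1_c5 LD2_c49 LD3_c31)) = v15893 :=
  Lrfl
theorem f744105 : Led Lsl_ff (LP (LK LD1_c5 LD2_c49 LD3_c31)) = v15893 :=
  Lgr Lrot3 (Lpr_ft (f744103 IH) (Lpn v15893))
def v15889 : LQ := Led Lsl_at (LP (LK LD1_c5 LD2_c49 LD3_c31))
theorem f744093 : Led Lsl_at (LP (LK LD1_c5 LD2_c49 LD3_c31)) = v15889 :=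
  Lrfl
theorem f920154 : Led Lsl_ft (LP (LK LD1_c10 LD2_c18 LD3_c43)) = (LP (LK LD1_c10 LD2_c7 LD3_c14)) :=
  Lgr Lrot86 (Lpe (K54.f723950 IH) (Lpqs (K71.f919987 IH) (Lpe (K71.f722307 IH) (Lpe (K55.f53220 IH) (Lpe (K71.f414175 IH) (Lpr_ef (K71.f920152 IH) (Lpn (LP (LK LD1_c10 LD2_c7 LD3_c14)))))))))
def v23801 : LQ := Led Lsl_gf K53.v4188
theorem f820542 : Led Lsl_gf K53.v4188 = v23801 :=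
  Lrfl
theorem f631749 : Led Lsl_dt (LP (LK LD1_c2 LD2_c30 LD3_c56)) = K53.v4188 :=
  Lgr Lrot77 (Lpe (K18.f68558 IH) (Lpe (K10.f3291 IH) (Lpe (K18.f22223 IH) (Lpe (K18.f68546 IH) (Lpr_ef (K53.f631747 IH) (Lpn K53.v4188))))))
theorem f181108 : Led Lsl_et (LP (LK LD1_c10 LD2_c18 LD3_c43)) = (LP (LK LD1_c5 LD2_c14 LD3_c34)) :=
  Lre_e IH (LK LD1_c10 LD2_c18 LD3_c43) (LK LD1_c5 LD2_c14 LD3_c34) Lrfl Lrfl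
theorem f820544 : Led Lsl_dt (LP (LK LD1_c10 LD2_c18 LD3_c43)) = v23801 :=
  Lgr Lrot136 (Lpr_et (f181108 IH) (Lpe (K53.f181107 IH) (Lpe (K12.f181101 IH) (Lpr_dt (K14.f181099 IH) (Lpe (K9.f181102 IH) (Lpe (K38.f250184 IH) (Lpe (K14.f22224 IH) (Lpe (K18.f68550 IH) (Lpr_dt (f631749 IH) (Lpr_gf (f820542 IH) (Lpn v23801)))))))))))
theorem f820545 : Led Lsl_df (LP (LK LD1_c10 LD2_c18 LD3_c43)) = v23801 :=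
  Lgr Lrot38 (Lpr_dt (f820544 IH) (Lpn v23801))
theorem f920162 : v23801 = v15893 :=
  (Llr Lrot78 (Lpe (f820545 IH) (Lpr_ft (f920154 IH) (Lpe (K53.f722190 IH) (Lpr_ft (f744103 IH) (Lpn v15893)))))).symm
def v23800 : LQ := Led Lsl_gt K53.v4188
theorem f820538 : Led Lsl_gt K53.v4188 = v23800 :=
  Lrfl
theorem f920163 : v15889 = v23800 :=
  (Llr Lrot26 (Lpe (f744093 IH) (Lpr_ff (f744105 IH) (Lpq (f920162 IH) (Lpe (f820542 IH) (Lpr_gt (f820538 IH) (Lpn v23800))))))).symm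
theorem f722185 : Led Lsl_ft K53.v4188 = K53.v14361 :=
  Lgr Lrot48 (Lpr_ff (K53.f722181 IH) (Lpn K53.v14361))
theorem f61340 : Led Lsl_ft (LP (LK LD1_c5 LD2_c14 LD3_c9)) = (LP (LK LD1_c2 LD2_c33 LD3_c57)) :=
  Lre_f IH (LK LD1_c5 LD2_c14 LD3_c9) (LK LD1_c2 LD2_c33 LD3_c57) Lrfl Lrfl
theorem f640606 : Led Lsl_df (LP (LK LD1_c5 LD2_c14 LD3_c9)) = K53.v4858 :=
  Lgr Lrot78 (Lpr_ft (f61340 IH) (Lpr_dt (K36.f61323 IH) (Lpr_ft (K53.f640605 IH) (Lpn K53.v4858))))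
theorem f722179 : Led Lsl_af K53.v4858 = K53.v14361 :=
  Lgr Lrot117 (Lpe (f640606 IH) (Lpr_at (K18.f301763 IH) (Lpr_dt (K53.f722178 IH) (Lpn K53.v14361))))
theorem f820539 : Led Lsl_gf K53.v4858 = v23800 :=
  Lgr Lrot76 (Lpr_af (f722179 IH) (Lpe (f722185 IH) (Lpr_gt (f820538 IH) (Lpn v23800))))
theorem f640607 : Led Lsl_ff (LP (LK LD1_c2 LD2_c50 LD3_c51)) = K53.v4858 :=
  Lgr Lrot3 (Lpr_ft (K53.f640605 IH) (Lpn K53.v4858))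
theorem f640608 : Led Lsl_dt (LP (LK LD1_c5 LD2_c14 LD3_c9)) = K53.v4858 :=
  Lgr Lrot60 (Lpe (K18.f61325 IH) (Lpr_df (K36.f61308 IH) (Lpr_ff (f640607 IH) (Lpn K53.v4858))))
theorem f496144 : Led Lsl_gt (LP (LK LD1_c5 LD2_c14 LD3_c50)) = (LP (LK LD1_c10 LD2_c19 LD3_c5)) :=
  Lre_g IH (LK LD1_c5 LD2_c14 LD3_c50) (LK LD1_c10 LD2_c19 LD3_c5) Lrfl Lrfl
theorem f820540 : Led Lsl_dt (LP (LK LD1_c10 LD2_c19 LD3_c5)) = v23800 :=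
  Lgr Lrot171 (Lpe (f496144 IH) (Lpe (K53.f496143 IH) (Lpr_dt (K35.f496142 IH) (Lpr_gf (K48.f669034 IH) (Lpe (K48.f669032 IH) (Lpe (K48.f669036 IH) (Lpr_gf (K72.f406574 IH) (Lpe (K18.f301808 IH) (Lpr_dt (f640608 IH) (Lpr_gf (f820539 IH) (Lpn v23800)))))))))))
def v38157 : LQ := Led Lsl_bt (LP (LK LD1_c9 LD2_c5 LD3_c43))
theorem f899626 : Led Lsl_bt (LP (LK LD1_c9 LD2_c5 LD3_c43)) = v38157 :=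
  Lrfl
theorem f699215 : Led Lsl_at (LP (LK LD1_c5 LD2_c49 LD3_c26)) = K72.v12898 :=
  Lgr Lrot66 (Lpe (K53.f210512 IH) (Lpr_af (K72.f302019 IH) (Lpr_ff (K72.f699213 IH) (Lpn K72.v12898))))
def v4856 : LQ := Led Lsl_gt (LP (LK LD1_c2 LD2_c50 LD3_c48))
theorem f640600 : Led Lsl_gt (LP (LK LD1_c2 LD2_c50 LD3_c48)) = v4856 :=
  Lrfl
theorem f699219 : Led Lsl_gt v4856 = K72.v12898 :=
  Lgr Lrot46 (Lpe (f640600 IH) (Lpr_ft (K53.f210512 IH) (Lpr_at (f699215 IH) (Lpn K72.v12898))))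
theorem f744067 : Led Lsl_ft v4856 = K67.v15881 :=
  Lgr Lrot2 (Lpr_gt (f699219 IH) (Lpe (K72.f699218 IH) (Lpr_af (K67.f744066 IH) (Lpn K67.v15881))))
def v24607 : LQ := Led Lsl_bt v4856
theorem f824767 : Led Lsl_bt v4856 = v24607 :=
  Lrfl
theorem f824768 : Led Lsl_bf v4856 = v24607 :=
  Lgr Lrot24 (Lpr_bt (f824767 IH) (Lpn v24607))
theorem f899628 : Led Lsl_ff v24607 = v38157 :=
  Lgr Lrot25 (Lpe (f824768 IH) (Lpr_ft (f744067 IH) (Lpq (K67.f881597 IH) (Lpr_bt (f899626 IH) (Lpn v38157)))))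
theorem f744094 : Led Lsl_af (LP (LK LD1_c5 LD2_c49 LD3_c31)) = v15889 :=
  Lgr Lrot0 (Lpr_at (f744093 IH) (Lpn v15889))
theorem f744095 : Led Lsl_ft (LP (LK LD1_c5 LD2_c49 LD3_c32)) = v15889 :=
  Lgr Lrot2 (Lpr_gt (K53.f61326 IH) (Lpr_gt (K53.f61328 IH) (Lpr_af (f744094 IH) (Lpn v15889))))
theorem f931494 : (LP (LK LD1_c5 LD2_c49 LD3_c32)) = v38157 :=
  Lefun (Lecon (Lfl_bf (f744108 IH)) (f931493 IH)) (f899626 IH)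
theorem f931497 : v24607 = v15889 :=
  Lefun (Lecon (Lfl_ff (f899628 IH)) (f931494 IH).symm) (f744095 IH)
def v24609 : LQ := Led Lsl_dt v4856
theorem f824771 : Led Lsl_dt v4856 = v24609 :=
  Lrfl
theorem f931498 : Led Lsl_bf (LP (LK LD1_c10 LD2_c19 LD3_c5)) = v24609 :=
  Lgr Lrot93 (Lpr_dt (f820540 IH) (Lpq (f920163 IH) (Lpq (f931497 IH) (Lpe (f824768 IH) (Lpr_dt (f824771 IH) (Lpn v24609))))))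
theorem f820541 : Led Lsl_df (LP (LK LD1_c10 LD2_c19 LD3_c5)) = v23800 :=
  Lgr Lrot38 (Lpr_dt (f820540 IH) (Lpn v23800))
theorem f920164 : Led Lsl_ff (LP (LK LD1_c10 LD2_c6 LD3_c50)) = (LP (LK LD1_c10 LD2_c19 LD3_c5)) :=
  Lgr Lrot19 (Lpr_dt (K53.f250026 IH) (Lpr_ft (f744095 IH) (Lpqs (f920163 IH) (Lpe (f820541 IH) (Lpn (LP (LK LD1_c10 LD2_c19 LD3_c5)))))))
theorem f824772 : Led Lsl_df v4856 = v24609 :=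
  Lgr Lrot38 (Lpr_dt (f824771 IH) (Lpn v24609))
theorem f881596 : Led Lsl_dt (LP (LK LD1_c9 LD2_c5 LD3_c43)) = K67.v35997 :=
  Lgr Lrot42 (Lpr_df (K67.f881595 IH) (Lpn K67.v35997))
theorem f881600 : Led Lsl_ff v24609 = K67.v35997 :=
  Lgr Lrot19 (Lpe (f824772 IH) (Lpr_ft (f744067 IH) (Lpq (K67.f881597 IH) (Lpr_dt (f881596 IH) (Lpn K67.v35997)))))
theorem f931500 : Led Lsl_bt (LP (LK LD1_c10 LD2_c6 LD3_c50)) = K67.v35997 :=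
  Lgr Lrot35 (Lpr_ff (f920164 IH) (Lpr_bf (f931498 IH) (Lpr_ff (f881600 IH) (Lpn K67.v35997))))
theorem f250030 : Led Lsl_et (LP (LK LD1_c5 LD2_c8 LD3_c8)) = (LP (LK LD1_c10 LD2_c6 LD3_c50)) :=
  Lre_e IH (LK LD1_c5 LD2_c8 LD3_c8) (LK LD1_c10 LD2_c6 LD3_c50) Lrfl Lrfl
theorem f722310 : Led Lsl_bf (LP (LK LD1_c5 LD2_c8 LD3_c8)) = v14390 :=
  Lgr Lrot24 (Lpr_bt (f722309 IH) (Lpn v14390))
theorem f931502 : v14390 = (LP (LK LD1_c8 LD2_c14 LD3_c61)) :=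
  (Llr Lrot96 (Lpe (f722310 IH) (Lpr_et (f250030 IH) (Lpr_bt (f931500 IH) (Lpe (K67.f881592 IH) (Lpn (LP (LK LD1_c8 LD2_c14 LD3_c61)))))))).symm
theorem f931504 : Led Lsl_bt (LP (LK LD1_c5 LD2_c8 LD3_c8)) = (LP (LK LD1_c8 LD2_c14 LD3_c61)) :=
  Leop (Lpq (f931502 IH) (Lpe (f722309 IH) (Lpn (LP (LK LD1_c5 LD2_c8 LD3_c8)))))
theorem seed_2584 : LEOK LG_b (LK LD1_c5 LD2_c8 LD3_c8) :=
  Leoe_b (LK LD1_c5 LD2_c8 LD3_c8) (f931504 IH)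
def v35635 : LQ := Led Lsl_bt (LP (LK LD1_c7 LD2_c59 LD3_c52))
theorem f876210 : Led Lsl_bt (LP (LK LD1_c7 LD2_c59 LD3_c52)) = v35635 :=
  Lrfl
theorem f698173 : Led Lsl_cf (LP (LK LD1_c4 LD2_c30 LD3_c40)) = K71.v12783 :=
  Lgr Lrot11 (Lpr_ct (K71.f698172 IH) (Lpn K71.v12783))
theorem f640481 : Led Lsl_bt (LP (LK LD1_c5 LD2_c46 LD3_c10)) = (LP (LK LD1_c2 LD2_c48 LD3_c51)) :=
  Lre_b IH (LK LD1_c5 LD2_c46 LD3_c10) (LK LD1_c2 LD2_c48 LD3_c51) Lrfl Lrfl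
theorem f698178 : Led Lsl_ct (LP (LK LD1_c5 LD2_c46 LD3_c10)) = (LP (LK LD1_c11 LD2_c22 LD3_c38)) :=
  Lre_c IH (LK LD1_c5 LD2_c46 LD3_c10) (LK LD1_c11 LD2_c22 LD3_c38) Lrfl Lrfl
def v40788 : LQ := Led Lsl_ft (LP (LK LD1_c9 LD2_c46 LD3_c45))
theorem f919903 : Led Lsl_ft (LP (LK LD1_c9 LD2_c46 LD3_c45)) = v40788 :=
  Lrfl
theorem f919905 : Led Lsl_ff (LP (LK LD1_c9 LD2_c46 LD3_c45)) = v40788 :=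
  Lgr Lrot3 (Lpr_ft (f919903 IH) (Lpn v40788))
theorem f40909 : Led Lsl_bt (LP (LK LD1_c9 LD2_c46 LD3_c45)) = (LP (LK LD1_c4 LD2_c57 LD3_c58)) :=
  Lre_b IH (LK LD1_c9 LD2_c46 LD3_c45) (LK LD1_c4 LD2_c57 LD3_c58) Lrfl Lrfl
theorem f919906 : Led Lsl_bt K71.v14099 = v40788 :=
  Lgr Lrot35 (Lpe (K71.f718987 IH) (Lpe (f40909 IH) (Lpr_ff (f919905 IH) (Lpn v40788))))
theorem f920048 : v40788 = v35635 :=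
  Lefun (Lecon (f919906 IH) ((K71.f920033 IH).symm.trans (K71.f739639 IH))) (f876210 IH)
def v37802 : LQ := Led Lsl_gf (LP (LK LD1_c9 LD2_c0 LD3_c12))
theorem f896582 : Led Lsl_gf (LP (LK LD1_c9 LD2_c0 LD3_c12)) = v37802 :=
  Lrfl
def v37801 : LQ := Led Lsl_gt (LP (LK LD1_c9 LD2_c0 LD3_c12))
theorem f896574 : Led Lsl_gt (LP (LK LD1_c9 LD2_c0 LD3_c12)) = v37801 :=
  Lrfl
theorem f418805 : Led Lsl_et (LP (LK LD1_c4 LD2_c31 LD3_c6)) = (LP (LK LD1_c9 LD2_c0 LD3_c12)) :=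
  Lre_e IH (LK LD1_c4 LD2_c31 LD3_c6) (LK LD1_c9 LD2_c0 LD3_c12) Lrfl Lrfl
theorem f896575 : Led Lsl_et (LP (LK LD1_c15 LD2_c30 LD3_c48)) = v37801 :=
  Lgr Lrot122 (Lpr_dt (K57.f55741 IH) (Lpr_gt (K57.f55735 IH) (Lpr_df (K67.f553622 IH) (Lpr_et (K70.f495695 IH) (Lpq (K40.f537930 IH) (Lpe (K40.f496019 IH) (Lpqs (K37.f537458 IH) (Lpr_dt (K30.f379940 IH) (Lpr_gt (K30.f164718 IH) (Lpe (K30.f418801 IH) (Lpr_et (f418805 IH) (Lpr_gt (f896574 IH) (Lpn v37801)))))))))))))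
theorem f896577 : Led Lsl_ef (LP (LK LD1_c15 LD2_c30 LD3_c48)) = v37801 :=
  Lgr Lrot88 (Lpr_et (f896575 IH) (Lpn v37801))
def v15461 : LQ := Led Lsl_gt (LP (LK LD1_c5 LD2_c40 LD3_c6))
theorem f737504 : Led Lsl_gt (LP (LK LD1_c5 LD2_c40 LD3_c6)) = v15461 :=
  Lrfl
theorem f536106 : Led Lsl_et (LP (LK LD1_c2 LD2_c45 LD3_c60)) = (LP (LK LD1_c5 LD2_c40 LD3_c6)) :=
  Lre_e IH (LK LD1_c2 LD2_c45 LD3_c60) (LK LD1_c5 LD2_c40 LD3_c6) Lrfl Lrfl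
theorem f737505 : Led Lsl_et (LP (LK LD1_c15 LD2_c27 LD3_c13)) = v15461 :=
  Lgr Lrot122 (Lpr_dt (K70.f55558 IH) (Lpr_gt (K53.f55557 IH) (Lpr_df (K53.f172162 IH) (Lpr_et (K70.f172219 IH) (Lpr_gt (K9.f22415 IH) (Lpr_dt (K37.f22414 IH) (Lpr_gt (K39.f60212 IH) (Lpqs (K39.f537179 IH) (Lpe (K39.f536100 IH) (Lpr_et (f536106 IH) (Lpr_gt (f737504 IH) (Lpn v15461))))))))))))
theorem f896579 : Led Lsl_at v15461 = v37801 :=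
  Lgr Lrot80 (Lpe (f737505 IH) (Lpr_af (K70.f751707 IH) (Lpr_ef (f896577 IH) (Lpn v37801))))
theorem f896584 : Led Lsl_ff v15461 = v37802 :=
  Lgr Lrot52 (Lpr_at (f896579 IH) (Lpe (f896574 IH) (Lpr_gf (f896582 IH) (Lpn v37802))))
theorem f896588 : Led Lsl_ft v15461 = v37802 :=
  Lgr Lrot48 (Lpr_ff (f896584 IH) (Lpn v37802))
def v40787 : LQ := Led Lsl_et (LP (LK LD1_c9 LD2_c46 LD3_c45))
theorem f919897 : Led Lsl_et (LP (LK LD1_c9 LD2_c46 LD3_c45)) = v40787 :=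
  Lrfl
theorem f919899 : Led Lsl_ef (LP (LK LD1_c9 LD2_c46 LD3_c45)) = v40787 :=
  Lgr Lrot88 (Lpr_et (f919897 IH) (Lpn v40787))
theorem f919900 : Led Lsl_bt (LP (LK LD1_c9 LD2_c46 LD3_c47)) = v40787 :=
  Lgr Lrot119 (Lpe (K70.f225542 IH) (Lpe (f40909 IH) (Lpr_ef (f919899 IH) (Lpn v40787))))
def v14598 : LQ := Led Lsl_bt (LP (LK LD1_c5 LD2_c14 LD3_c35))
theorem f723959 : Led Lsl_bt (LP (LK LD1_c5 LD2_c14 LD3_c35)) = v14598 :=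
  Lrfl
theorem f723960 : Led Lsl_bf (LP (LK LD1_c5 LD2_c14 LD3_c35)) = v14598 :=
  Lgr Lrot24 (Lpr_bt (f723959 IH) (Lpn v14598))
theorem f919901 : Led Lsl_df v14598 = v40787 :=
  Lgr Lrot12 (Lpe (f723960 IH) (Lpr_dt (K70.f225539 IH) (Lpr_bt (f919900 IH) (Lpn v40787))))
theorem f919902 : Led Lsl_dt v14598 = v40787 :=
  Lgr Lrot42 (Lpr_df (f919901 IH) (Lpn v40787))
theorem f920199 : Led Lsl_ff v14390 = v14598 :=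
  Lgr Lrot25 (Lpe (f722310 IH) (Lpq (K71.f919986 IH) (Lpe (K71.f723952 IH) (Lpr_bt (f723959 IH) (Lpn v14598)))))
theorem f920200 : Led Lsl_ft v14390 = v14598 :=
  Lgr Lrot48 (Lpr_ff (f920199 IH) (Lpn v14598))
theorem f931506 : v14598 = (LP (LK LD1_c8 LD2_c12 LD3_c57)) :=
  Lefun (Lecon (f920200 IH) (f931502 IH)) (Lfl_ff (K57.f751692 IH))
theorem f931510 : v40787 = (LP (LK LD1_c15 LD2_c27 LD3_c13)) :=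
  Lefun (Lecon (f919902 IH) (f931506 IH)) (K70.f55559 IH)
theorem f931513 : (LP (LK LD1_c9 LD2_c46 LD3_c45)) = v15461 :=
  Lefun (Lecon (Lfl_ef (f919899 IH)) (f931510 IH)) (f737505 IH)
theorem f931520 : v37802 = v40788 :=
  Lefun (Lecon (f896588 IH) (f931513 IH).symm) (f919903 IH)
theorem f418785 : Led Lsl_bt (LP (LK LD1_c16 LD2_c49 LD3_c36)) = (LP (LK LD1_c9 LD2_c0 LD3_c12)) :=
  Lre_b IH (LK LD1_c16 LD2_c49 LD3_c36) (LK LD1_c9 LD2_c0 LD3_c12) Lrfl Lrfl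
theorem f418782 : Led Lsl_et (LP (LK LD1_c16 LD2_c49 LD3_c36)) = (LP (LK LD1_c9 LD2_c0 LD3_c10)) :=
  Lre_e IH (LK LD1_c16 LD2_c49 LD3_c36) (LK LD1_c9 LD2_c0 LD3_c10) Lrfl Lrfl
theorem f386350 : Led Lsl_et (LP (LK LD1_c9 LD2_c4 LD3_c42)) = (LP (LK LD1_c16 LD2_c56 LD3_c24)) :=
  Lre_e IH (LK LD1_c9 LD2_c4 LD3_c42) (LK LD1_c16 LD2_c56 LD3_c24) Lrfl Lrfl
theorem f418783 : Led Lsl_cf (LP (LK LD1_c16 LD2_c49 LD3_c36)) = (LP (LK LD1_c16 LD2_c56 LD3_c24)) :=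
  Lgr Lrot39 (Lpr_et (f418782 IH) (Lpr_ct (K30.f418774 IH) (Lpr_et (f386350 IH) (Lpn (LP (LK LD1_c16 LD2_c56 LD3_c24))))))
theorem f418787 : Led Lsl_ct (LP (LK LD1_c16 LD2_c49 LD3_c36)) = (LP (LK LD1_c16 LD2_c56 LD3_c24)) :=
  Lgr Lrot59 (Lpr_cf (f418783 IH) (Lpn (LP (LK LD1_c16 LD2_c56 LD3_c24))))
theorem f931529 : Led Lsl_gf (LP (LK LD1_c11 LD2_c22 LD3_c38)) = (LP (LK LD1_c16 LD2_c56 LD3_c24)) :=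
  Lgr Lrot126 (Lpe (f698178 IH) (Lpr_bt (f640481 IH) (Lpr_gt (K17.f180475 IH) (Lpr_ct (K70.f9139 IH) (Lpr_gt (K71.f9116 IH) (Lpr_cf (f698173 IH) (Lpqs (K71.f739639 IH) (Lpr_bt (f876210 IH) (Lpq (f920048 IH) (Lpq (f931520 IH) (Lpe (f896582 IH) (Lpe (f418785 IH) (Lpr_ct (f418787 IH) (Lpn (LP (LK LD1_c16 LD2_c56 LD3_c24))))))))))))))))
theorem f931530 : Led Lsl_gt (LP (LK LD1_c16 LD2_c56 LD3_c24)) = (LP (LK LD1_c11 LD2_c22 LD3_c38)) :=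
  Leop (Lpr_gf (f931529 IH) (Lpn (LP (LK LD1_c16 LD2_c56 LD3_c24))))
theorem seed_2585 : LEOK LG_g (LK LD1_c16 LD2_c56 LD3_c24) :=
  Leoe_g (LK LD1_c16 LD2_c56 LD3_c24) (f931530 IH)
def v42016 : LQ := Led Lsl_dt (LP (LK LD1_c10 LD2_c5 LD3_c4))
theorem f931841 : Led Lsl_dt (LP (LK LD1_c10 LD2_c5 LD3_c4)) = v42016 :=
  Lrfl
theorem f722122 : Led Lsl_ft (LP (LK LD1_c18 LD2_c22 LD3_c41)) = (LP (LK LD1_c18 LD2_c43 LD3_c2)) :=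
  Lgr Lrot48 (Lpr_ff (K53.f722118 IH) (Lpn (LP (LK LD1_c18 LD2_c43 LD3_c2))))
theorem f198803 : Led Lsl_et (LP (LK LD1_c10 LD2_c4 LD3_c3)) = (LP (LK LD1_c18 LD2_c22 LD3_c41)) :=
  Lre_e IH (LK LD1_c10 LD2_c4 LD3_c3) (LK LD1_c18 LD2_c22 LD3_c41) Lrfl Lrfl
theorem f308607 : Led Lsl_et (LP (LK LD1_c18 LD2_c43 LD3_c2)) = (LP (LK LD1_c10 LD2_c17 LD3_c59)) :=
  Lre_e IH (LK LD1_c18 LD2_c43 LD3_c2) (LK LD1_c10 LD2_c17 LD3_c59) Lrfl Lrfl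
theorem f308487 : Led Lsl_ft (LP (LK LD1_c10 LD2_c17 LD3_c59)) = (LP (LK LD1_c10 LD2_c5 LD3_c4)) :=
  Lgr Lrot101 (Lpe (K32.f308485 IH) (Lpr_ff (K32.f308483 IH) (Lpe (K72.f308486 IH) (Lpn (LP (LK LD1_c10 LD2_c5 LD3_c4))))))
theorem f722126 : Led Lsl_ef K53.v14352 = (LP (LK LD1_c10 LD2_c5 LD3_c4)) :=
  Lgr Lrot21 (Lpe (K53.f722115 IH) (Lpr_et (f198803 IH) (Lpr_ft (f722122 IH) (Lpr_et (f308607 IH) (Lpr_ft (f308487 IH) (Lpn (LP (LK LD1_c10 LD2_c5 LD3_c4))))))))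
theorem f8888 : Led Lsl_gt (LP (LK LD1_c2 LD2_c39 LD3_c58)) = (LP (LK LD1_c5 LD2_c27 LD3_c3)) :=
  Lre_g IH (LK LD1_c2 LD2_c39 LD3_c58) (LK LD1_c5 LD2_c27 LD3_c3) Lrfl Lrfl
def v16890 : LQ := Led Lsl_et (LP (LK LD1_c6 LD2_c8 LD3_c21))
theorem f752334 : Led Lsl_et (LP (LK LD1_c6 LD2_c8 LD3_c21)) = v16890 :=
  Lrfl
theorem f8900 : Led Lsl_ct (LP (LK LD1_c9 LD2_c15 LD3_c15)) = (LP (LK LD1_c17 LD2_c9 LD3_c38)) :=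
  Lre_c IH (LK LD1_c9 LD2_c15 LD3_c15) (LK LD1_c17 LD2_c9 LD3_c38) Lrfl Lrfl
theorem f8913 : Led Lsl_bt (LP (LK LD1_c6 LD2_c8 LD3_c21)) = (LP (LK LD1_c9 LD2_c15 LD3_c15)) :=
  Lre_b IH (LK LD1_c6 LD2_c8 LD3_c21) (LK LD1_c9 LD2_c15 LD3_c15) Lrfl Lrfl
theorem f8873 : Led Lsl_ct (LP (LK LD1_c11 LD2_c58 LD3_c10)) = (LP (LK LD1_c6 LD2_c8 LD3_c21)) :=
  Lre_c IH (LK LD1_c11 LD2_c58 LD3_c10) (LK LD1_c6 LD2_c8 LD3_c21) Lrfl Lrfl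
theorem f924674 : Led Lsl_bt (LP (LK LD1_c10 LD2_c7 LD3_c18)) = (LP (LK LD1_c11 LD2_c58 LD3_c10)) :=
  Lgr Lrot128 (Lpe (K72.f924048 IH) (Lpr_bf (K72.f924669 IH) (Lpe (f8900 IH) (Lpe (f8913 IH) (Lpe (f8873 IH) (Lpn (LP (LK LD1_c11 LD2_c58 LD3_c10))))))))
theorem f165241 : Led Lsl_bt (LP (LK LD1_c10 LD2_c7 LD3_c17)) = (LP (LK LD1_c5 LD2_c8 LD3_c27)) :=
  Lre_b IH (LK LD1_c10 LD2_c7 LD3_c17) (LK LD1_c5 LD2_c8 LD3_c27) Lrfl Lrfl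
theorem f924682 : Led Lsl_ef (LP (LK LD1_c10 LD2_c7 LD3_c17)) = (LP (LK LD1_c11 LD2_c58 LD3_c10)) :=
  Lgr Lrot29 (Lpr_bt (f165241 IH) (Lpr_et (K72.f722389 IH) (Lpr_bt (f924674 IH) (Lpn (LP (LK LD1_c11 LD2_c58 LD3_c10))))))
theorem f8894 : Led Lsl_ct (LP (LK LD1_c6 LD2_c8 LD3_c21)) = (LP (LK LD1_c11 LD2_c58 LD3_c10)) :=
  Lre_c IH (LK LD1_c6 LD2_c8 LD3_c21) (LK LD1_c11 LD2_c58 LD3_c10) Lrfl Lrfl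
theorem f752336 : Led Lsl_ef (LP (LK LD1_c6 LD2_c8 LD3_c21)) = v16890 :=
  Lgr Lrot88 (Lpr_et (f752334 IH) (Lpn v16890))
theorem f924684 : Led Lsl_ct (LP (LK LD1_c10 LD2_c7 LD3_c17)) = v16890 :=
  Lgr Lrot15 (Lpr_ef (f924682 IH) (Lpe (f8894 IH) (Lpr_ef (f752336 IH) (Lpn v16890))))
def v35876 : LQ := Led Lsl_et (LP (LK LD1_c8 LD2_c12 LD3_c6))
theorem f880886 : Led Lsl_et (LP (LK LD1_c8 LD2_c12 LD3_c6)) = v35876 :=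
  Lrfl
theorem f880888 : Led Lsl_ef (LP (LK LD1_c8 LD2_c12 LD3_c6)) = v35876 :=
  Lgr Lrot88 (Lpr_et (f880886 IH) (Lpn v35876))
theorem f175383 : Led Lsl_et (LP (LK LD1_c4 LD2_c5 LD3_c41)) = (LP (LK LD1_c8 LD2_c12 LD3_c7)) :=
  Lre_e IH (LK LD1_c4 LD2_c5 LD3_c41) (LK LD1_c8 LD2_c12 LD3_c7) Lrfl Lrfl
theorem f880889 : Led Lsl_ct (LP (LK LD1_c8 LD2_c12 LD3_c7)) = v35876 :=
  Lgr Lrot15 (Lpe (f175383 IH) (Lpe (K37.f183038 IH) (Lpr_ef (f880888 IH) (Lpn v35876))))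
theorem f924689 : Led Lsl_gf v35876 = v16890 :=
  Lgr Lrot126 (Lpe (f880889 IH) (Lpr_bt (K36.f175343 IH) (Lpr_gt (K49.f175351 IH) (Lpr_ct (K71.f880907 IH) (Lpqs (K71.f924057 IH) (Lpr_gt (K71.f823130 IH) (Lpe (K71.f751912 IH) (Lpe (K71.f599795 IH) (Lpe (K67.f165239 IH) (Lpe (f165241 IH) (Lpr_ct (f924684 IH) (Lpn v16890))))))))))))
theorem f192716 : Led Lsl_dt (LP (LK LD1_c8 LD2_c12 LD3_c6)) = (LP (LK LD1_c15 LD2_c26 LD3_c10)) :=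
  Lre_d IH (LK LD1_c8 LD2_c12 LD3_c6) (LK LD1_c15 LD2_c26 LD3_c10) Lrfl Lrfl
theorem f931847 : Led Lsl_gt (LP (LK LD1_c15 LD2_c26 LD3_c10)) = v42016 :=
  Lgr Lrot112 (Lpe (f192716 IH) (Lpr_et (f880886 IH) (Lpr_gf (f924689 IH) (Lpe (f752334 IH) (Lpe (K0.f8917 IH) (Lpe (f8888 IH) (Lpe (K72.f8955 IH) (Lpr_gf (K72.f727206 IH) (Lpqs (K72.f924517 IH) (Lpr_ef (f722126 IH) (Lpr_dt (f931841 IH) (Lpn v42016))))))))))))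
theorem f192670 : Led Lsl_dt (LP (LK LD1_c15 LD2_c26 LD3_c10)) = (LP (LK LD1_c8 LD2_c12 LD3_c6)) :=
  Lre_d IH (LK LD1_c15 LD2_c26 LD3_c10) (LK LD1_c8 LD2_c12 LD3_c6) Lrfl Lrfl
theorem f594562 : Led Lsl_gt (LP (LK LD1_c10 LD2_c18 LD3_c6)) = (LP (LK LD1_c15 LD2_c26 LD3_c10)) :=
  Lgr Lrot49 (Lpe (K32.f308460 IH) (Lpe (K50.f250018 IH) (Lpr_cf (K50.f594559 IH) (Lpe (K42.f571392 IH) (Lpr_dt (K56.f571396 IH) (Lpr_gt (K39.f192677 IH) (Lpr_dt (K38.f175382 IH) (Lpe (K37.f183038 IH) (Lpe (f192670 IH) (Lpn (LP (LK LD1_c15 LD2_c26 LD3_c10))))))))))))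
theorem f308489 : Led Lsl_ft (LP (LK LD1_c10 LD2_c18 LD3_c6)) = (LP (LK LD1_c10 LD2_c5 LD3_c12)) :=
  Lgr Lrot54 (Lpe (K32.f308460 IH) (Lpr_ff (K32.f308483 IH) (Lpe (K32.f194048 IH) (Lpn (LP (LK LD1_c10 LD2_c5 LD3_c12))))))
theorem f931848 : Led Lsl_at (LP (LK LD1_c10 LD2_c5 LD3_c12)) = v42016 :=
  Lgr Lrot26 (Lpe (f308489 IH) (Lpr_gt (f594562 IH) (Lpr_gt (f931847 IH) (Lpn v42016))))
theorem f198788 : Led Lsl_dt (LP (LK LD1_c10 LD2_c4 LD3_c3)) = (LP (LK LD1_c5 LD2_c25 LD3_c61)) :=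
  Lgr Lrot79 (Lpe (K72.f198664 IH) (Lpr_df (K14.f198712 IH) (Lpe (K18.f195603 IH) (Lpn (LP (LK LD1_c5 LD2_c25 LD3_c61))))))
theorem f722116 : Led Lsl_dt (LP (LK LD1_c5 LD2_c13 LD3_c26)) = K53.v14352 :=
  Lgr Lrot60 (Lpr_ff (K18.f302953 IH) (Lpe (f198788 IH) (Lpr_ff (K53.f722115 IH) (Lpn K53.v14352))))
theorem f184935 : Led Lsl_bt (LP (LK LD1_c10 LD2_c17 LD3_c6)) = (LP (LK LD1_c5 LD2_c13 LD3_c25)) :=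
  Lre_b IH (LK LD1_c10 LD2_c17 LD3_c6) (LK LD1_c5 LD2_c13 LD3_c25) Lrfl Lrfl
theorem f184937 : Led Lsl_df (LP (LK LD1_c10 LD2_c17 LD3_c6)) = (LP (LK LD1_c16 LD2_c47 LD3_c36)) :=
  Lgr Lrot12 (Lpr_bt (f184935 IH) (Lpr_dt (K20.f184933 IH) (Lpr_bt (K72.f184936 IH) (Lpn (LP (LK LD1_c16 LD2_c47 LD3_c36))))))
theorem f931846 : Led Lsl_ef (LP (LK LD1_c16 LD2_c47 LD3_c36)) = v42016 :=
  Lgr Lrot73 (Lpe (f184937 IH) (Lpr_et (K20.f184964 IH) (Lpr_dt (f722116 IH) (Lpe (K53.f722114 IH) (Lpr_dt (f931841 IH) (Lpn v42016))))))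
theorem f931849 : Led Lsl_ef (LP (LK LD1_c10 LD2_c5 LD3_c12)) = (LP (LK LD1_c11 LD2_c0 LD3_c22)) :=
  Lgr Lrot20 (Lpr_at (f931848 IH) (Lpe (f931846 IH) (Lpr_at (K72.f924319 IH) (Lpn (LP (LK LD1_c11 LD2_c0 LD3_c22))))))
theorem f931850 : Led Lsl_et (LP (LK LD1_c11 LD2_c0 LD3_c22)) = (LP (LK LD1_c10 LD2_c5 LD3_c12)) :=
  Leop (Lpr_ef (f931849 IH) (Lpn (LP (LK LD1_c11 LD2_c0 LD3_c22))))
theorem seed_2586 : LEOK LG_e (LK LD1_c11 LD2_c0 LD3_c22) :=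
  Leoe_e (LK LD1_c11 LD2_c0 LD3_c22) (f931850 IH)
def v42023 : LQ := Led Lsl_gf (LP (LK LD1_c10 LD2_c5 LD3_c12))
theorem f931893 : Led Lsl_gf (LP (LK LD1_c10 LD2_c5 LD3_c12)) = v42023 :=
  Lrfl
theorem f924516 : Led Lsl_ff K72.v14902 = K72.v14366 :=
  Lgr Lrot3 (Lpr_ft (K72.f924503 IH) (Lpn K72.v14366))
theorem f924500 : Led Lsl_at K72.v14902 = (LP (LK LD1_c10 LD2_c4 LD3_c3)) :=
  Lgr Lrot51 (Lpr_df (K72.f924316 IH) (Lpe (K72.f195737 IH) (Lpe (f198788 IH) (Lpn (LP (LK LD1_c10 LD2_c4 LD3_c3))))))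
theorem f924544 : Led Lsl_gf K72.v24250 = K72.v14366 :=
  Lgr Lrot47 (Lpr_gt (K72.f924342 IH) (Lpe (f924500 IH) (Lpr_ff (f924516 IH) (Lpn K72.v14366))))
theorem f8970 : Led Lsl_et (LP (LK LD1_c3 LD2_c0 LD3_c23)) = (LP (LK LD1_c6 LD2_c8 LD3_c22)) :=
  Lre_e IH (LK LD1_c3 LD2_c0 LD3_c23) (LK LD1_c6 LD2_c8 LD3_c22) Lrfl Lrfl
theorem f8999 : Led Lsl_gt (LP (LK LD1_c6 LD2_c8 LD3_c22)) = (LP (LK LD1_c11 LD2_c58 LD3_c32)) :=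
  Lre_g IH (LK LD1_c6 LD2_c8 LD3_c22) (LK LD1_c11 LD2_c58 LD3_c32) Lrfl Lrfl
theorem f308555 : Led Lsl_dt (LP (LK LD1_c5 LD2_c7 LD3_c14)) = (LP (LK LD1_c2 LD2_c30 LD3_c57)) :=
  Lre_d IH (LK LD1_c5 LD2_c7 LD3_c14) (LK LD1_c2 LD2_c30 LD3_c57) Lrfl Lrfl
theorem f225683 : Led Lsl_ct (LP (LK LD1_c5 LD2_c14 LD3_c31)) = (LP (LK LD1_c10 LD2_c18 LD3_c34)) :=
  Lre_c IH (LK LD1_c5 LD2_c14 LD3_c31) (LK LD1_c10 LD2_c18 LD3_c34) Lrfl Lrfl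
theorem f288154 : Led Lsl_ft (LP (LK LD1_c10 LD2_c18 LD3_c34)) = (LP (LK LD1_c10 LD2_c6 LD3_c53)) :=
  Lgr Lrot4 (Lpe (f225683 IH) (Lpr_ff (K36.f288150 IH) (Lpe (K42.f177300 IH) (Lpn (LP (LK LD1_c10 LD2_c6 LD3_c53))))))
theorem f177296 : Led Lsl_at (LP (LK LD1_c10 LD2_c6 LD3_c53)) = (LP (LK LD1_c5 LD2_c8 LD3_c12)) :=
  Lre_a IH (LK LD1_c10 LD2_c6 LD3_c53) (LK LD1_c5 LD2_c8 LD3_c12) Lrfl Lrfl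
theorem f163816 : Led Lsl_gt (LP (LK LD1_c10 LD2_c6 LD3_c55)) = (LP (LK LD1_c5 LD2_c8 LD3_c12)) :=
  Lre_g IH (LK LD1_c10 LD2_c6 LD3_c55) (LK LD1_c5 LD2_c8 LD3_c12) Lrfl Lrfl
theorem f288197 : Led Lsl_gt (LP (LK LD1_c10 LD2_c18 LD3_c34)) = (LP (LK LD1_c10 LD2_c6 LD3_c55)) :=
  Lgr Lrot5 (Lpr_ft (f288154 IH) (Lpr_at (f177296 IH) (Lpe (f163816 IH) (Lpn (LP (LK LD1_c10 LD2_c6 LD3_c55))))))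
theorem f931894 : Led Lsl_dt (LP (LK LD1_c10 LD2_c6 LD3_c55)) = v42023 :=
  Lgr Lrot57 (Lpe (f288197 IH) (Lpe (f225683 IH) (Lpe (K43.f579106 IH) (Lpr_dt (f308555 IH) (Lpr_gt (K36.f53240 IH) (Lpr_dt (K43.f308504 IH) (Lpe (K32.f194047 IH) (Lpe (K32.f194048 IH) (Lpr_gf (f931893 IH) (Lpn v42023))))))))))
theorem f931895 : Led Lsl_ef (LP (LK LD1_c11 LD2_c58 LD3_c32)) = (LP (LK LD1_c10 LD2_c6 LD3_c55)) :=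
  Lgr Lrot17 (Lpe (f8999 IH) (Lpe (f8970 IH) (Lpe (K0.f8966 IH) (Lpqs (K72.f930615 IH) (Lpe (K72.f727151 IH) (Lpr_df (K72.f727179 IH) (Lpqs (K72.f930613 IH) (Lpr_gf (f924544 IH) (Lpe (K72.f722214 IH) (Lpr_dt (K32.f308479 IH) (Lpr_gf (f931893 IH) (Lpe (f931894 IH) (Lpn (LP (LK LD1_c10 LD2_c6 LD3_c55)))))))))))))))
theorem f931896 : Led Lsl_et (LP (LK LD1_c10 LD2_c6 LD3_c55)) = (LP (LK LD1_c11 LD2_c58 LD3_c32)) :=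
  Leop (Lpr_ef (f931895 IH) (Lpn (LP (LK LD1_c10 LD2_c6 LD3_c55))))
theorem seed_2587 : LEOK LG_e (LK LD1_c10 LD2_c6 LD3_c55) :=
  Leoe_e (LK LD1_c10 LD2_c6 LD3_c55) (f931896 IH)
def v42027 : LQ := Led Lsl_at (LP (LK LD1_c10 LD2_c5 LD3_c13))
theorem f931923 : Led Lsl_at (LP (LK LD1_c10 LD2_c5 LD3_c13)) = v42027 :=
  Lrfl
theorem f600818 : Led Lsl_dt (LP (LK LD1_c5 LD2_c7 LD3_c23)) = (LP (LK LD1_c10 LD2_c5 LD3_c13)) :=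
  Lre_d IH (LK LD1_c5 LD2_c7 LD3_c23) (LK LD1_c10 LD2_c5 LD3_c13) Lrfl Lrfl
theorem f722195 : Led Lsl_af (LP (LK LD1_c5 LD2_c7 LD3_c23)) = K72.v14362 :=
  Lgr Lrot50 (Lpr_et (K72.f308610 IH) (Lpr_at (K36.f308437 IH) (Lpr_et (K72.f722194 IH) (Lpn K72.v14362))))
theorem f931925 : Led Lsl_df K72.v14362 = v42027 :=
  Lgr Lrot18 (Lpe (f722195 IH) (Lpr_dt (f600818 IH) (Lpr_at (f931923 IH) (Lpn v42027))))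
theorem f722112 : Led Lsl_bf (LP (LK LD1_c5 LD2_c7 LD3_c2)) = K53.v14352 :=
  Lgr Lrot24 (Lpr_bt (K53.f722111 IH) (Lpn K53.v14352))
theorem f190224 : Led Lsl_bt (LP (LK LD1_c0 LD2_c57 LD3_c23)) = (LP (LK LD1_c2 LD2_c0 LD3_c49)) :=
  Lre_b IH (LK LD1_c0 LD2_c57 LD3_c23) (LK LD1_c2 LD2_c0 LD3_c49) Lrfl Lrfl
def v41990 : LQ := Led Lsl_bt (LP (LK LD1_c10 LD2_c4 LD3_c45))
theorem f931350 : Led Lsl_bt (LP (LK LD1_c10 LD2_c4 LD3_c45)) = v41990 :=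
  Lrfl
theorem f931929 : Led Lsl_gt v41990 = v42027 :=
  Lgr Lrot190 (Lpe (f931350 IH) (Lpe (K56.f165701 IH) (Lpr_df (K39.f541678 IH) (Lpe (K36.f542640 IH) (Lpe (K11.f31694 IH) (Lpe (K10.f31693 IH) (Lpe (K10.f31691 IH) (Lpe (K10.f31687 IH) (Lpr_bf (K0.f32022 IH) (Lpe (K1.f28481 IH) (Lpe (K10.f28486 IH) (Lpe (K13.f190220 IH) (Lpe (f190224 IH) (Lpr_cf (K10.f195455 IH) (Lpe (K22.f195424 IH) (Lpe (K22.f195425 IH) (Lpr_bf (f722112 IH) (Lpr_cf (K72.f722197 IH) (Lpr_df (f931925 IH) (Lpn v42027))))))))))))))))))))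
theorem f722198 : Led Lsl_ef (LP (LK LD1_c5 LD2_c7 LD3_c16)) = K72.v14362 :=
  Lgr Lrot88 (Lpr_et (K72.f722194 IH) (Lpn K72.v14362))
theorem f722201 : Led Lsl_ct K53.v14352 = K72.v14362 :=
  Lgr Lrot15 (Lpr_ef (f722126 IH) (Lpe (K32.f308442 IH) (Lpr_ef (f722198 IH) (Lpn K72.v14362))))
theorem f8921 : Led Lsl_gt (LP (LK LD1_c5 LD2_c27 LD3_c14)) = (LP (LK LD1_c6 LD2_c8 LD3_c20)) :=
  Lgr Lrot5 (Lpr_ft (K0.f8881 IH) (Lpr_at (K56.f8909 IH) (Lpe (K72.f8920 IH) (Lpn (LP (LK LD1_c6 LD2_c8 LD3_c20))))))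
theorem f8860 : Led Lsl_ct (LP (LK LD1_c10 LD2_c45 LD3_c35)) = (LP (LK LD1_c5 LD2_c27 LD3_c14)) :=
  Lre_c IH (LK LD1_c10 LD2_c45 LD3_c35) (LK LD1_c5 LD2_c27 LD3_c14) Lrfl Lrfl
theorem f8874 : Led Lsl_ft (LP (LK LD1_c10 LD2_c45 LD3_c35)) = (LP (LK LD1_c11 LD2_c58 LD3_c10)) :=
  Lgr Lrot4 (Lpe (K72.f8867 IH) (Lpr_ff (K0.f8865 IH) (Lpe (f8873 IH) (Lpn (LP (LK LD1_c11 LD2_c58 LD3_c10))))))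
theorem f8983 : Led Lsl_at (LP (LK LD1_c11 LD2_c58 LD3_c10)) = (LP (LK LD1_c6 LD2_c8 LD3_c3)) :=
  Lre_a IH (LK LD1_c11 LD2_c58 LD3_c10) (LK LD1_c6 LD2_c8 LD3_c3) Lrfl Lrfl
theorem f8986 : Led Lsl_gt (LP (LK LD1_c11 LD2_c58 LD3_c9)) = (LP (LK LD1_c6 LD2_c8 LD3_c3)) :=
  Lre_g IH (LK LD1_c11 LD2_c58 LD3_c9) (LK LD1_c6 LD2_c8 LD3_c3) Lrfl Lrfl
theorem f446659 : Led Lsl_gt (LP (LK LD1_c10 LD2_c45 LD3_c35)) = (LP (LK LD1_c11 LD2_c58 LD3_c9)) :=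
  Lgr Lrot5 (Lpr_ft (f8874 IH) (Lpr_at (f8983 IH) (Lpe (f8986 IH) (Lpn (LP (LK LD1_c11 LD2_c58 LD3_c9))))))
theorem f931930 : Led Lsl_df v41990 = (LP (LK LD1_c11 LD2_c58 LD3_c9)) :=
  Lgr Lrot153 (Lpr_gt (f931929 IH) (Lpe (f931925 IH) (Lpe (f722201 IH) (Lpe (f722116 IH) (Lpe (K72.f184965 IH) (Lpq (K72.f924250 IH) (Lpe (K72.f752332 IH) (Lpe (f8921 IH) (Lpe (f8860 IH) (Lpr_gt (f446659 IH) (Lpn (LP (LK LD1_c11 LD2_c58 LD3_c9)))))))))))))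
theorem f565337 : Led Lsl_et (LP (LK LD1_c5 LD2_c7 LD3_c25)) = (LP (LK LD1_c10 LD2_c5 LD3_c13)) :=
  Lre_e IH (LK LD1_c5 LD2_c7 LD3_c25) (LK LD1_c10 LD2_c5 LD3_c13) Lrfl Lrfl
theorem f308588 : Led Lsl_et (LP (LK LD1_c5 LD2_c7 LD3_c17)) = (LP (LK LD1_c2 LD2_c30 LD3_c58)) :=
  Lre_e IH (LK LD1_c5 LD2_c7 LD3_c17) (LK LD1_c2 LD2_c30 LD3_c58) Lrfl Lrfl
theorem f691578 : Led Lsl_dt (LP (LK LD1_c5 LD2_c7 LD3_c17)) = K72.v12334 :=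
  Lgr Lrot56 (Lpr_et (f308588 IH) (Lpe (K32.f308589 IH) (Lpr_ef (K32.f421277 IH) (Lpr_dt (K6.f137963 IH) (Lpr_gt (K6.f73273 IH) (Lpe (K2.f59473 IH) (Lpe (K36.f73194 IH) (Lpr_gt (K36.f79919 IH) (Lpr_dt (K36.f79920 IH) (Lpr_gt (K72.f691574 IH) (Lpn K72.v12334)))))))))))
theorem f691579 : Led Lsl_af (LP (LK LD1_c5 LD2_c7 LD3_c25)) = K72.v12334 :=
  Lgr Lrot117 (Lpr_dt (K43.f565331 IH) (Lpr_at (K43.f308436 IH) (Lpr_dt (f691578 IH) (Lpn K72.v12334))))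
theorem f931926 : Led Lsl_ef K72.v12334 = v42027 :=
  Lgr Lrot20 (Lpe (f691579 IH) (Lpr_et (f565337 IH) (Lpr_at (f931923 IH) (Lpn v42027))))
theorem f500450 : Led Lsl_dt (LP (LK LD1_c5 LD2_c54 LD3_c61)) = (LP (LK LD1_c11 LD2_c35 LD3_c25)) :=
  Lre_d IH (LK LD1_c5 LD2_c54 LD3_c61) (LK LD1_c11 LD2_c35 LD3_c25) Lrfl Lrfl
theorem f570847 : Led Lsl_df (LP (LK LD1_c11 LD2_c35 LD3_c31)) = (LP (LK LD1_c20 LD2_c33 LD3_c15)) :=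
  Lgr Lrot38 (Lpr_dt (K45.f570843 IH) (Lpn (LP (LK LD1_c20 LD2_c33 LD3_c15))))
theorem f545688 : Led Lsl_gt (LP (LK LD1_c20 LD2_c32 LD3_c50)) = (LP (LK LD1_c11 LD2_c35 LD3_c49)) :=
  Lre_g IH (LK LD1_c20 LD2_c32 LD3_c50) (LK LD1_c11 LD2_c35 LD3_c49) Lrfl Lrfl
theorem f566952 : Led Lsl_ct (LP (LK LD1_c11 LD2_c35 LD3_c25)) = (LP (LK LD1_c20 LD2_c32 LD3_c50)) :=
  Lgr Lrot53 (Lpe (f500450 IH) (Lpe (K45.f442698 IH) (Lpe (K41.f71115 IH) (Lpe (K35.f201595 IH) (Lpe (K42.f421255 IH) (Lpr_ft (K41.f566942 IH) (Lpe (K45.f566928 IH) (Lpe (K41.f428089 IH) (Lpr_df (K47.f538480 IH) (Lpn (LP (LK LD1_c20 LD2_c32 LD3_c50))))))))))))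
theorem f566954 : Led Lsl_cf (LP (LK LD1_c11 LD2_c35 LD3_c25)) = (LP (LK LD1_c20 LD2_c32 LD3_c50)) :=
  Lgr Lrot11 (Lpr_ct (f566952 IH) (Lpn (LP (LK LD1_c20 LD2_c32 LD3_c50))))
theorem f570849 : Led Lsl_gt (LP (LK LD1_c11 LD2_c35 LD3_c25)) = (LP (LK LD1_c20 LD2_c33 LD3_c15)) :=
  Lgr Lrot94 (Lpr_cf (f566954 IH) (Lpr_gt (f545688 IH) (Lpr_dt (K38.f546610 IH) (Lpe (K43.f546630 IH) (Lpr_dt (K38.f538470 IH) (Lpe (K38.f545665 IH) (Lpe (K38.f545669 IH) (Lpe (K45.f545670 IH) (Lpr_df (f570847 IH) (Lpn (LP (LK LD1_c20 LD2_c33 LD3_c15))))))))))))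
theorem f691577 : Led Lsl_df (LP (LK LD1_c5 LD2_c7 LD3_c17)) = K72.v12334 :=
  Lgr Lrot153 (Lpe (K36.f539730 IH) (Lpe (K36.f539742 IH) (Lpe (K45.f570836 IH) (Lpr_df (f570847 IH) (Lpe (f570849 IH) (Lpe (f500450 IH) (Lpr_gf (K64.f544440 IH) (Lpe (K64.f192643 IH) (Lpr_gt (K72.f691574 IH) (Lpn K72.v12334))))))))))
theorem f931927 : Led Lsl_dt K72.v14362 = v42027 :=
  Lgr Lrot77 (Lpe (K72.f722194 IH) (Lpe (K32.f308430 IH) (Lpe (f308588 IH) (Lpr_df (f691577 IH) (Lpr_ef (f931926 IH) (Lpn v42027))))))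
theorem f61417 : Led Lsl_et (LP (LK LD1_c10 LD2_c18 LD3_c4)) = (LP (LK LD1_c5 LD2_c14 LD3_c2)) :=
  Lre_e IH (LK LD1_c10 LD2_c18 LD3_c4) (LK LD1_c5 LD2_c14 LD3_c2) Lrfl Lrfl
theorem f931931 : Led Lsl_gf (LP (LK LD1_c18 LD2_c2 LD3_c17)) = (LP (LK LD1_c18 LD2_c43 LD3_c11)) :=
  Lgr Lrot145 (Lpe (K72.f925179 IH) (Lpr_et (K72.f412194 IH) (Lpr_gt (f446659 IH) (Lpe (f931930 IH) (Lpr_gt (f931929 IH) (Lpe (f931927 IH) (Lpe (f722198 IH) (Lpe (K72.f308536 IH) (Lpe (f61417 IH) (Lpr_dt (K44.f61418 IH) (Lpn (LP (LK LD1_c18 LD2_c43 LD3_c11)))))))))))))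
theorem f931932 : Led Lsl_gt (LP (LK LD1_c18 LD2_c43 LD3_c11)) = (LP (LK LD1_c18 LD2_c2 LD3_c17)) :=
  Leop (Lpr_gf (f931931 IH) (Lpn (LP (LK LD1_c18 LD2_c43 LD3_c11))))
theorem seed_2588 : LEOK LG_g (LK LD1_c18 LD2_c43 LD3_c11) :=
  Leoe_g (LK LD1_c18 LD2_c43 LD3_c11) (f931932 IH)
theorem f177195 : Led Lsl_df (LP (LK LD1_c2 LD2_c24 LD3_c50)) = (LP (LK LD1_c2 LD2_c31 LD3_c19)) :=
  Lgr Lrot12 (Lpr_bt (K36.f164155 IH) (Lpr_dt (K9.f177177 IH) (Lpr_bt (K43.f165642 IH) (Lpn (LP (LK LD1_c2 LD2_c31 LD3_c19))))))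
theorem f177295 : Led Lsl_et (LP (LK LD1_c2 LD2_c31 LD3_c19)) = (LP (LK LD1_c5 LD2_c8 LD3_c13)) :=
  Lre_e IH (LK LD1_c2 LD2_c31 LD3_c19) (LK LD1_c5 LD2_c8 LD3_c13) Lrfl Lrfl
theorem f165762 : Led Lsl_gt (LP (LK LD1_c5 LD2_c8 LD3_c13)) = (LP (LK LD1_c10 LD2_c6 LD3_c58)) :=
  Lre_g IH (LK LD1_c5 LD2_c8 LD3_c13) (LK LD1_c10 LD2_c6 LD3_c58) Lrfl Lrfl
theorem f931933 : Led Lsl_et (LP (LK LD1_c11 LD2_c58 LD3_c9)) = (LP (LK LD1_c10 LD2_c6 LD3_c58)) :=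
  Lgr Lrot122 (Lpe (f931930 IH) (Lpr_gt (f931929 IH) (Lpe (f931927 IH) (Lpe (f722198 IH) (Lpe (K72.f308536 IH) (Lpe (K72.f574680 IH) (Lpr_gt (K39.f177297 IH) (Lpr_df (f177195 IH) (Lpr_et (f177295 IH) (Lpr_gt (f165762 IH) (Lpn (LP (LK LD1_c10 LD2_c6 LD3_c58)))))))))))))
theorem f931934 : Led Lsl_et (LP (LK LD1_c11 LD2_c58 LD3_c9)) = (LP (LK LD1_c10 LD2_c6 LD3_c58)) :=
  Leop (Lpe (f931933 IH) (Lpn (LP (LK LD1_c11 LD2_c58 LD3_c9))))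
theorem seed_2589 : LEOK LG_e (LK LD1_c11 LD2_c58 LD3_c9) :=
  Leoe_e (LK LD1_c11 LD2_c58 LD3_c9) (f931934 IH)
def v42036 : LQ := Led Lsl_gf (LP (LK LD1_c10 LD2_c5 LD3_c21))
theorem f932001 : Led Lsl_gf (LP (LK LD1_c10 LD2_c5 LD3_c21)) = v42036 :=
  Lrfl
theorem f570378 : Led Lsl_ct (LP (LK LD1_c10 LD2_c5 LD3_c21)) = (LP (LK LD1_c5 LD2_c7 LD3_c30)) :=
  Lre_c IH (LK LD1_c10 LD2_c5 LD3_c21) (LK LD1_c5 LD2_c7 LD3_c30) Lrfl Lrfl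
theorem f568546 : Led Lsl_dt (LP (LK LD1_c5 LD2_c7 LD3_c30)) = (LP (LK LD1_c2 LD2_c31 LD3_c2)) :=
  Lre_d IH (LK LD1_c5 LD2_c7 LD3_c30) (LK LD1_c2 LD2_c31 LD3_c2) Lrfl Lrfl
def v14321 : LQ := Led Lsl_dt (LP (LK LD1_c5 LD2_c6 LD3_c30))
theorem f721910 : Led Lsl_dt (LP (LK LD1_c5 LD2_c6 LD3_c30)) = v14321 :=
  Lrfl
theorem f387424 : Led Lsl_et (LP (LK LD1_c5 LD2_c6 LD3_c30)) = (LP (LK LD1_c10 LD2_c3 LD3_c54)) :=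
  Lre_e IH (LK LD1_c5 LD2_c6 LD3_c30) (LK LD1_c10 LD2_c3 LD3_c54) Lrfl Lrfl
theorem f594977 : Led Lsl_gf (LP (LK LD1_c5 LD2_c58 LD3_c50)) = (LP (LK LD1_c9 LD2_c8 LD3_c58)) :=
  Lgr Lrot143 (Lpr_dt (K36.f386830 IH) (Lpr_cf (K36.f539591 IH) (Lpe (K36.f539576 IH) (Lpr_gf (K45.f594975 IH) (Lpe (K45.f573411 IH) (Lpe (K43.f579041 IH) (Lpe (K43.f577780 IH) (Lpe (K42.f558461 IH) (Lpe (K45.f592841 IH) (Lpn (LP (LK LD1_c9 LD2_c8 LD3_c58))))))))))))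
theorem f594989 : Led Lsl_gf (LP (LK LD1_c5 LD2_c7 LD3_c39)) = (LP (LK LD1_c5 LD2_c6 LD3_c57)) :=
  Lgr Lrot138 (Lpr_dt (K72.f568535 IH) (Lpr_gt (f594983 IH) (Lpe (f557530 IH) (Lpr_et (K42.f557531 IH) (Lpr_gt (K43.f579041 IH) (Lpe (K45.f594941 IH) (Lpe (K45.f592841 IH) (Lpe (f594977 IH) (Lpe (K36.f386841 IH) (Lpr_et (K36.f386831 IH) (Lpn (LP (LK LD1_c5 LD2_c6 LD3_c57)))))))))))))
theorem f721915 : Led Lsl_gt (LP (LK LD1_c5 LD2_c7 LD3_c46)) = v14321 :=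
  Lgr Lrot112 (Lpe (K43.f421504 IH) (Lpe (K43.f579684 IH) (Lpr_gf (f594989 IH) (Lpe (K36.f386831 IH) (Lpr_dt (K36.f386841 IH) (Lpr_gf (f594977 IH) (Lpr_df (K45.f592841 IH) (Lpr_gf (K42.f558461 IH) (Lpe (f387424 IH) (Lpr_dt (f721910 IH) (Lpn v14321)))))))))))
theorem f932004 : Led Lsl_ct v14321 = v42036 :=
  Lgr Lrot152 (Lpe (f721915 IH) (Lpe (K43.f421504 IH) (Lpe (K38.f427481 IH) (Lpe (K37.f427473 IH) (Lpr_gt (K36.f386769 IH) (Lpr_ct (K37.f495365 IH) (Lpqs (K42.f568536 IH) (Lpe (f568546 IH) (Lpe (f570378 IH) (Lpr_gf (f932001 IH) (Lpn v42036)))))))))))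
theorem f579120 : Led Lsl_cf (LP (LK LD1_c5 LD2_c57 LD3_c54)) = (LP (LK LD1_c10 LD2_c6 LD3_c5)) :=
  Lgr Lrot11 (Lpr_ct (K43.f579118 IH) (Lpn (LP (LK LD1_c10 LD2_c6 LD3_c5))))
theorem f169702 : Led Lsl_gt (LP (LK LD1_c10 LD2_c6 LD3_c7)) = (LP (LK LD1_c18 LD2_c25 LD3_c1)) :=
  Lre_g IH (LK LD1_c10 LD2_c6 LD3_c7) (LK LD1_c18 LD2_c25 LD3_c1) Lrfl Lrfl
theorem f932007 : Led Lsl_dt (LP (LK LD1_c18 LD2_c25 LD3_c1)) = v42036 :=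
  Lgr Lrot113 (Lpe (f169702 IH) (Lpe (K43.f169705 IH) (Lpe (K43.f548133 IH) (Lpe (f579120 IH) (Lpe (K38.f545704 IH) (Lpe (K40.f548426 IH) (Lpr_gt (K45.f557514 IH) (Lpr_dt (f721910 IH) (Lpr_ct (f932004 IH) (Lpn v42036))))))))))
theorem f557534 : Led Lsl_dt (LP (LK LD1_c6 LD2_c7 LD3_c54)) = (LP (LK LD1_c3 LD2_c0 LD3_c10)) :=
  Lre_d IH (LK LD1_c6 LD2_c7 LD3_c54) (LK LD1_c3 LD2_c0 LD3_c10) Lrfl Lrfl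
theorem f579712 : Led Lsl_ft (LP (LK LD1_c10 LD2_c5 LD3_c30)) = (LP (LK LD1_c6 LD2_c7 LD3_c54)) :=
  Lgr Lrot54 (Lpe (K43.f579688 IH) (Lpr_ff (K43.f579710 IH) (Lpe (f557534 IH) (Lpn (LP (LK LD1_c6 LD2_c7 LD3_c54))))))
theorem f721916 : Led Lsl_at (LP (LK LD1_c6 LD2_c7 LD3_c54)) = v14321 :=
  Lgr Lrot26 (Lpe (f579712 IH) (Lpr_gt (K43.f421488 IH) (Lpr_gt (f721915 IH) (Lpn v14321))))
theorem f932005 : Led Lsl_af (LP (LK LD1_c10 LD2_c5 LD3_c34)) = v42036 :=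
  Lgr Lrot68 (Lpr_ct (f594999 IH) (Lpr_at (f721916 IH) (Lpr_ct (f932004 IH) (Lpn v42036))))
theorem f932008 : Led Lsl_af (LP (LK LD1_c18 LD2_c25 LD3_c1)) = (LP (LK LD1_c18 LD2_c24 LD3_c15)) :=
  Lgr Lrot117 (Lpr_dt (f932007 IH) (Lpe (f932005 IH) (Lpr_dt (K40.f557648 IH) (Lpn (LP (LK LD1_c18 LD2_c24 LD3_c15))))))
theorem f932009 : Led Lsl_at (LP (LK LD1_c18 LD2_c24 LD3_c15)) = (LP (LK LD1_c18 LD2_c25 LD3_c1)) :=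
  Leop (Lpr_af (f932008 IH) (Lpn (LP (LK LD1_c18 LD2_c24 LD3_c15))))
theorem seed_2590 : LEOK LG_a (LK LD1_c18 LD2_c24 LD3_c15) :=
  Leoe_a (LK LD1_c18 LD2_c24 LD3_c15) (f932009 IH)
def v42043 : LQ := Led Lsl_et (LP (LK LD1_c10 LD2_c5 LD3_c28))
theorem f932060 : Led Lsl_et (LP (LK LD1_c10 LD2_c5 LD3_c28)) = v42043 :=
  Lrfl
theorem f581545 : Led Lsl_ft (LP (LK LD1_c5 LD2_c7 LD3_c33)) = (LP (LK LD1_c10 LD2_c5 LD3_c28)) :=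
  Lre_f IH (LK LD1_c5 LD2_c7 LD3_c33) (LK LD1_c10 LD2_c5 LD3_c28) Lrfl Lrfl
theorem f598218 : Led Lsl_et (LP (LK LD1_c10 LD2_c5 LD3_c27)) = (LP (LK LD1_c5 LD2_c7 LD3_c33)) :=
  Lre_e IH (LK LD1_c10 LD2_c5 LD3_c27) (LK LD1_c5 LD2_c7 LD3_c33) Lrfl Lrfl
theorem f748693 : Led Lsl_ft (LP (LK LD1_c18 LD2_c24 LD3_c9)) = (LP (LK LD1_c10 LD2_c5 LD3_c27)) :=
  Lre_f IH (LK LD1_c18 LD2_c24 LD3_c9) (LK LD1_c10 LD2_c5 LD3_c27) Lrfl Lrfl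
theorem f568564 : Led Lsl_ft (LP (LK LD1_c2 LD2_c31 LD3_c5)) = (LP (LK LD1_c5 LD2_c7 LD3_c42)) :=
  Lre_f IH (LK LD1_c2 LD2_c31 LD3_c5) (LK LD1_c5 LD2_c7 LD3_c42) Lrfl Lrfl
theorem f547962 : Led Lsl_et (LP (LK LD1_c5 LD2_c7 LD3_c41)) = (LP (LK LD1_c2 LD2_c31 LD3_c5)) :=
  Lre_e IH (LK LD1_c5 LD2_c7 LD3_c41) (LK LD1_c2 LD2_c31 LD3_c5) Lrfl Lrfl
theorem f713465 : Led Lsl_ft (LP (LK LD1_c10 LD2_c5 LD3_c41)) = (LP (LK LD1_c5 LD2_c7 LD3_c41)) :=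
  Lre_f IH (LK LD1_c10 LD2_c5 LD3_c41) (LK LD1_c5 LD2_c7 LD3_c41) Lrfl Lrfl
theorem f713466 : Led Lsl_et (LP (LK LD1_c18 LD2_c23 LD3_c59)) = (LP (LK LD1_c10 LD2_c5 LD3_c41)) :=
  Lgr Lrot69 (Lpr_ff (K72.f713459 IH) (Lpe (K72.f568575 IH) (Lpe (f568564 IH) (Lpe (f547962 IH) (Lpe (f713465 IH) (Lpn (LP (LK LD1_c10 LD2_c5 LD3_c41))))))))
theorem f713468 : Led Lsl_bt (LP (LK LD1_c10 LD2_c5 LD3_c41)) = (LP (LK LD1_c18 LD2_c24 LD3_c9)) :=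
  Lre_b IH (LK LD1_c10 LD2_c5 LD3_c41) (LK LD1_c18 LD2_c24 LD3_c9) Lrfl Lrfl
theorem f748685 : Led Lsl_et (LP (LK LD1_c18 LD2_c24 LD3_c9)) = (LP (LK LD1_c18 LD2_c37 LD3_c22)) :=
  Lgr Lrot74 (Lpe (f713468 IH) (Lpe (f713466 IH) (Lpr_bf (K72.f748679 IH) (Lpn (LP (LK LD1_c18 LD2_c37 LD3_c22))))))
theorem f748689 : Led Lsl_ef (LP (LK LD1_c18 LD2_c24 LD3_c9)) = (LP (LK LD1_c18 LD2_c37 LD3_c22)) :=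
  Lgr Lrot88 (Lpr_et (f748685 IH) (Lpn (LP (LK LD1_c18 LD2_c37 LD3_c22))))
theorem f932065 : Led Lsl_ff (LP (LK LD1_c18 LD2_c37 LD3_c22)) = v42043 :=
  Lgr Lrot72 (Lpe (f748689 IH) (Lpr_ft (f748693 IH) (Lpr_et (f598218 IH) (Lpr_ft (f581545 IH) (Lpr_et (f932060 IH) (Lpn v42043))))))
theorem f713469 : Led Lsl_bt (LP (LK LD1_c10 LD2_c5 LD3_c52)) = (LP (LK LD1_c18 LD2_c24 LD3_c33)) :=
  Lre_b IH (LK LD1_c10 LD2_c5 LD3_c52) (LK LD1_c18 LD2_c24 LD3_c33) Lrfl Lrfl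
theorem f748683 : Led Lsl_dt (LP (LK LD1_c18 LD2_c24 LD3_c33)) = (LP (LK LD1_c18 LD2_c37 LD3_c22)) :=
  Lgr Lrot79 (Lpe (f713469 IH) (Lpe (K72.f713463 IH) (Lpr_bf (K72.f748679 IH) (Lpn (LP (LK LD1_c18 LD2_c37 LD3_c22))))))
theorem f748795 : Led Lsl_df (LP (LK LD1_c18 LD2_c24 LD3_c33)) = (LP (LK LD1_c18 LD2_c37 LD3_c22)) :=
  Lgr Lrot38 (Lpr_dt (f748683 IH) (Lpn (LP (LK LD1_c18 LD2_c37 LD3_c22))))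
theorem f594613 : Led Lsl_ft (LP (LK LD1_c18 LD2_c24 LD3_c33)) = (LP (LK LD1_c10 LD2_c5 LD3_c46)) :=
  Lre_f IH (LK LD1_c18 LD2_c24 LD3_c33) (LK LD1_c10 LD2_c5 LD3_c46) Lrfl Lrfl
theorem f932068 : Led Lsl_dt (LP (LK LD1_c10 LD2_c5 LD3_c46)) = v42043 :=
  Lgr Lrot60 (Lpe (f594613 IH) (Lpr_df (f748795 IH) (Lpr_ff (f932065 IH) (Lpn v42043))))
theorem f428087 : Led Lsl_gt (LP (LK LD1_c18 LD2_c24 LD3_c32)) = (LP (LK LD1_c10 LD2_c5 LD3_c46)) :=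
  Lre_g IH (LK LD1_c18 LD2_c24 LD3_c32) (LK LD1_c10 LD2_c5 LD3_c46) Lrfl Lrfl
theorem f594611 : Led Lsl_bt (LP (LK LD1_c5 LD2_c7 LD3_c48)) = (LP (LK LD1_c10 LD2_c5 LD3_c46)) :=
  Lre_b IH (LK LD1_c5 LD2_c7 LD3_c48) (LK LD1_c10 LD2_c5 LD3_c46) Lrfl Lrfl
theorem f931338 : Led Lsl_bf (LP (LK LD1_c18 LD2_c24 LD3_c32)) = (LP (LK LD1_c10 LD2_c18 LD3_c18)) :=
  Lgr Lrot156 (Lpr_gt (f428087 IH) (Lpe (f594611 IH) (Lpr_ct (f614488 IH) (Lpr_gt (f931336 IH) (Lpr_cf (f595012 IH) (Lpr_bt (f539715 IH) (Lpr_gt (f539709 IH) (Lpr_ct (K53.f387072 IH) (Lpr_gt (K40.f387252 IH) (Lpe (K64.f387091 IH) (Lpn (LP (LK LD1_c10 LD2_c18 LD3_c18)))))))))))))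
theorem f196166 : Led Lsl_bt (LP (LK LD1_c4 LD2_c1 LD3_c22)) = (LP (LK LD1_c8 LD2_c3 LD3_c23)) :=
  Lre_b IH (LK LD1_c4 LD2_c1 LD3_c22) (LK LD1_c8 LD2_c3 LD3_c23) Lrfl Lrfl
def v41577 : LQ := Led Lsl_gf (LP (LK LD1_c9 LD2_c59 LD3_c4))
theorem f926847 : Led Lsl_gf (LP (LK LD1_c9 LD2_c59 LD3_c4)) = v41577 :=
  Lrfl
theorem f581517 : Led Lsl_bf (LP (LK LD1_c10 LD2_c5 LD3_c23)) = (LP (LK LD1_c15 LD2_c26 LD3_c29)) :=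
  Lgr Lrot93 (Lpr_dt (K44.f581477 IH) (Lpr_bt (K44.f581510 IH) (Lpe (K43.f574889 IH) (Lpn (LP (LK LD1_c15 LD2_c26 LD3_c29))))))
theorem f581520 : Led Lsl_bt (LP (LK LD1_c10 LD2_c5 LD3_c23)) = (LP (LK LD1_c15 LD2_c26 LD3_c29)) :=
  Lgr Lrot127 (Lpr_bf (f581517 IH) (Lpn (LP (LK LD1_c15 LD2_c26 LD3_c29))))
theorem f572890 : Led Lsl_cf (LP (LK LD1_c6 LD2_c24 LD3_c46)) = (LP (LK LD1_c5 LD2_c47 LD3_c53)) :=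
  Lgr Lrot160 (Lpr_gt (K39.f542887 IH) (Lpe (K36.f8408 IH) (Lpr_bt (K39.f542794 IH) (Lpr_gt (K39.f553815 IH) (Lpr_ct (K42.f563671 IH) (Lpr_gt (K42.f237444 IH) (Lpe (K42.f55854 IH) (Lpr_bt (K42.f559623 IH) (Lpr_gt (K42.f572878 IH) (Lpr_bf (K8.f132422 IH) (Lpn (LP (LK LD1_c5 LD2_c47 LD3_c53)))))))))))))
theorem f542345 : Led Lsl_ct (LP (LK LD1_c9 LD2_c15 LD3_c0)) = (LP (LK LD1_c4 LD2_c39 LD3_c44)) :=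
  Lre_c IH (LK LD1_c9 LD2_c15 LD3_c0) (LK LD1_c4 LD2_c39 LD3_c44) Lrfl Lrfl
theorem f542764 : Led Lsl_gt (LP (LK LD1_c17 LD2_c9 LD3_c25)) = (LP (LK LD1_c9 LD2_c15 LD3_c0)) :=
  Lre_g IH (LK LD1_c17 LD2_c9 LD3_c25) (LK LD1_c9 LD2_c15 LD3_c0) Lrfl Lrfl
theorem f581482 : Led Lsl_ct (LP (LK LD1_c10 LD2_c5 LD3_c23)) = (LP (LK LD1_c17 LD2_c9 LD3_c25)) :=
  Lgr Lrot152 (Lpr_gf (K44.f581472 IH) (Lpe (K44.f581463 IH) (Lpr_gt (K45.f572876 IH) (Lpe (f572890 IH) (Lpr_gt (K39.f542887 IH) (Lpr_ct (K38.f56254 IH) (Lpe (K39.f56269 IH) (Lpe (f542345 IH) (Lpe (f542764 IH) (Lpn (LP (LK LD1_c17 LD2_c9 LD3_c25))))))))))))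
theorem f581536 : Led Lsl_bt (LP (LK LD1_c4 LD2_c39 LD3_c44)) = (LP (LK LD1_c5 LD2_c54 LD3_c53)) :=
  Lgr Lrot130 (Lpr_ct (K40.f190937 IH) (Lpe (f542764 IH) (Lpe (f581482 IH) (Lpr_bt (f581520 IH) (Lpe (K43.f570490 IH) (Lpe (K50.f570489 IH) (Lpr_ct (K72.f55852 IH) (Lpr_gf (K45.f570486 IH) (Lpe (K45.f442698 IH) (Lpe (K42.f570476 IH) (Lpn (LP (LK LD1_c5 LD2_c54 LD3_c53)))))))))))))
theorem f553510 : Led Lsl_gt (LP (LK LD1_c9 LD2_c15 LD3_c0)) = (LP (LK LD1_c17 LD2_c9 LD3_c24)) :=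
  Lre_g IH (LK LD1_c9 LD2_c15 LD3_c0) (LK LD1_c17 LD2_c9 LD3_c24) Lrfl Lrfl
theorem f570352 : Led Lsl_bt (LP (LK LD1_c10 LD2_c5 LD3_c28)) = (LP (LK LD1_c5 LD2_c7 LD3_c42)) :=
  Lre_b IH (LK LD1_c10 LD2_c5 LD3_c28) (LK LD1_c5 LD2_c7 LD3_c42) Lrfl Lrfl
theorem f581540 : Led Lsl_cf (LP (LK LD1_c17 LD2_c9 LD3_c24)) = (LP (LK LD1_c10 LD2_c5 LD3_c28)) :=
  Lgr Lrot58 (Lpe (f553510 IH) (Lpe (K40.f190937 IH) (Lpr_bt (f581536 IH) (Lpe (K39.f137411 IH) (Lpe (K43.f553862 IH) (Lpr_ct (K43.f570364 IH) (Lpe (K42.f194069 IH) (Lpe (K42.f194068 IH) (Lpe (K42.f570342 IH) (Lpe (f570352 IH) (Lpn (LP (LK LD1_c10 LD2_c5 LD3_c28)))))))))))))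
theorem f581543 : Led Lsl_ct (LP (LK LD1_c17 LD2_c9 LD3_c24)) = (LP (LK LD1_c10 LD2_c5 LD3_c28)) :=
  Lgr Lrot59 (Lpr_cf (f581540 IH) (Lpn (LP (LK LD1_c10 LD2_c5 LD3_c28))))
theorem f405333 : Led Lsl_ct (LP (LK LD1_c10 LD2_c13 LD3_c54)) = (LP (LK LD1_c18 LD2_c37 LD3_c22)) :=
  Lre_c IH (LK LD1_c10 LD2_c13 LD3_c54) (LK LD1_c18 LD2_c37 LD3_c22) Lrfl Lrfl
theorem f710758 : Led Lsl_et (LP (LK LD1_c18 LD2_c37 LD3_c23)) = (LP (LK LD1_c10 LD2_c13 LD3_c54)) :=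
  Lre_e IH (LK LD1_c18 LD2_c37 LD3_c23) (LK LD1_c10 LD2_c13 LD3_c54) Lrfl Lrfl
theorem f748691 : Led Lsl_ct (LP (LK LD1_c18 LD2_c24 LD3_c9)) = (LP (LK LD1_c18 LD2_c37 LD3_c23)) :=
  Lgr Lrot15 (Lpr_ef (f748689 IH) (Lpe (f405333 IH) (Lpe (f710758 IH) (Lpn (LP (LK LD1_c18 LD2_c37 LD3_c23))))))
theorem f594739 : Led Lsl_ct (LP (LK LD1_c18 LD2_c24 LD3_c23)) = (LP (LK LD1_c10 LD2_c5 LD3_c41)) :=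
  Lre_c IH (LK LD1_c18 LD2_c24 LD3_c23) (LK LD1_c10 LD2_c5 LD3_c41) Lrfl Lrfl
theorem f748694 : Led Lsl_bt (LP (LK LD1_c18 LD2_c37 LD3_c23)) = (LP (LK LD1_c10 LD2_c13 LD3_c60)) :=
  Lre_b IH (LK LD1_c18 LD2_c37 LD3_c23) (LK LD1_c10 LD2_c13 LD3_c60) Lrfl Lrfl
theorem f748695 : Led Lsl_ct (LP (LK LD1_c10 LD2_c13 LD3_c60)) = (LP (LK LD1_c18 LD2_c37 LD3_c36)) :=
  Lre_c IH (LK LD1_c10 LD2_c13 LD3_c60) (LK LD1_c18 LD2_c37 LD3_c36) Lrfl Lrfl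
theorem f748696 : Led Lsl_bf (LP (LK LD1_c18 LD2_c24 LD3_c23)) = (LP (LK LD1_c18 LD2_c37 LD3_c36)) :=
  Lgr Lrot90 (Lpr_ct (f594739 IH) (Lpr_bt (f713468 IH) (Lpr_ct (f748691 IH) (Lpr_bt (f748694 IH) (Lpr_ct (f748695 IH) (Lpn (LP (LK LD1_c18 LD2_c37 LD3_c36))))))))
theorem f594699 : Led Lsl_ft (LP (LK LD1_c18 LD2_c24 LD3_c23)) = (LP (LK LD1_c10 LD2_c5 LD3_c37)) :=
  Lre_f IH (LK LD1_c18 LD2_c24 LD3_c23) (LK LD1_c10 LD2_c5 LD3_c37) Lrfl Lrfl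
theorem f722259 : Led Lsl_bt (LP (LK LD1_c10 LD2_c5 LD3_c37)) = (LP (LK LD1_c18 LD2_c24 LD3_c19)) :=
  Lre_b IH (LK LD1_c10 LD2_c5 LD3_c37) (LK LD1_c18 LD2_c24 LD3_c19) Lrfl Lrfl
theorem f748701 : Led Lsl_ft (LP (LK LD1_c18 LD2_c24 LD3_c19)) = (LP (LK LD1_c18 LD2_c37 LD3_c36)) :=
  Lgr Lrot75 (Lpe (f722259 IH) (Lpe (f594699 IH) (Lpr_bf (f748696 IH) (Lpn (LP (LK LD1_c18 LD2_c37 LD3_c36))))))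
theorem f748716 : Led Lsl_ff (LP (LK LD1_c18 LD2_c24 LD3_c19)) = (LP (LK LD1_c18 LD2_c37 LD3_c36)) :=
  Lgr Lrot3 (Lpr_ft (f748701 IH) (Lpn (LP (LK LD1_c18 LD2_c37 LD3_c36))))
theorem f748724 : Led Lsl_et (LP (LK LD1_c18 LD2_c24 LD3_c19)) = (LP (LK LD1_c10 LD2_c5 LD3_c35)) :=
  Lre_e IH (LK LD1_c18 LD2_c24 LD3_c19) (LK LD1_c10 LD2_c5 LD3_c35) Lrfl Lrfl
theorem f748725 : Led Lsl_ft (LP (LK LD1_c10 LD2_c5 LD3_c35)) = (LP (LK LD1_c18 LD2_c24 LD3_c20)) :=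
  Lre_f IH (LK LD1_c10 LD2_c5 LD3_c35) (LK LD1_c18 LD2_c24 LD3_c20) Lrfl Lrfl
theorem f748700 : Led Lsl_et (LP (LK LD1_c10 LD2_c13 LD3_c59)) = (LP (LK LD1_c18 LD2_c37 LD3_c36)) :=
  Lre_e IH (LK LD1_c10 LD2_c13 LD3_c59) (LK LD1_c18 LD2_c37 LD3_c36) Lrfl Lrfl
theorem f748726 : Led Lsl_ft (LP (LK LD1_c18 LD2_c36 LD3_c43)) = (LP (LK LD1_c10 LD2_c13 LD3_c59)) :=
  Lre_f IH (LK LD1_c18 LD2_c36 LD3_c43) (LK LD1_c10 LD2_c13 LD3_c59) Lrfl Lrfl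
theorem f748727 : Led Lsl_et (LP (LK LD1_c18 LD2_c24 LD3_c20)) = (LP (LK LD1_c18 LD2_c36 LD3_c43)) :=
  Lgr Lrot69 (Lpe (f748725 IH) (Lpe (f748724 IH) (Lpr_ff (f748716 IH) (Lpe (f748700 IH) (Lpe (f748726 IH) (Lpn (LP (LK LD1_c18 LD2_c36 LD3_c43))))))))
theorem f405711 : Led Lsl_ct (LP (LK LD1_c18 LD2_c36 LD3_c43)) = (LP (LK LD1_c10 LD2_c13 LD3_c29)) :=
  Lre_c IH (LK LD1_c18 LD2_c36 LD3_c43) (LK LD1_c10 LD2_c13 LD3_c29) Lrfl Lrfl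
theorem f405623 : Led Lsl_et (LP (LK LD1_c10 LD2_c13 LD3_c29)) = (LP (LK LD1_c18 LD2_c36 LD3_c44)) :=
  Lre_e IH (LK LD1_c10 LD2_c13 LD3_c29) (LK LD1_c18 LD2_c36 LD3_c44) Lrfl Lrfl
theorem f748736 : Led Lsl_cf (LP (LK LD1_c18 LD2_c24 LD3_c20)) = (LP (LK LD1_c18 LD2_c36 LD3_c44)) :=
  Lgr Lrot39 (Lpr_et (f748727 IH) (Lpr_ct (f405711 IH) (Lpr_et (f405623 IH) (Lpn (LP (LK LD1_c18 LD2_c36 LD3_c44))))))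
theorem f748711 : Led Lsl_ft (LP (LK LD1_c18 LD2_c24 LD3_c20)) = (LP (LK LD1_c10 LD2_c5 LD3_c35)) :=
  Lre_f IH (LK LD1_c18 LD2_c24 LD3_c20) (LK LD1_c10 LD2_c5 LD3_c35) Lrfl Lrfl
theorem f595016 : Led Lsl_ct (LP (LK LD1_c10 LD2_c5 LD3_c35)) = (LP (LK LD1_c18 LD2_c24 LD3_c6)) :=
  Lre_c IH (LK LD1_c10 LD2_c5 LD3_c35) (LK LD1_c18 LD2_c24 LD3_c6) Lrfl Lrfl
theorem f748746 : Led Lsl_ft (LP (LK LD1_c18 LD2_c24 LD3_c6)) = (LP (LK LD1_c18 LD2_c36 LD3_c44)) :=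
  Lgr Lrot4 (Lpe (f595016 IH) (Lpe (f748711 IH) (Lpr_cf (f748736 IH) (Lpn (LP (LK LD1_c18 LD2_c36 LD3_c44))))))
theorem f387113 : Led Lsl_bt (LP (LK LD1_c10 LD2_c5 LD3_c26)) = (LP (LK LD1_c18 LD2_c24 LD3_c6)) :=
  Lre_b IH (LK LD1_c10 LD2_c5 LD3_c26) (LK LD1_c18 LD2_c24 LD3_c6) Lrfl Lrfl
theorem f387107 : Led Lsl_ct (LP (LK LD1_c10 LD2_c5 LD3_c26)) = (LP (LK LD1_c5 LD2_c7 LD3_c33)) :=
  Lre_c IH (LK LD1_c10 LD2_c5 LD3_c26) (LK LD1_c5 LD2_c7 LD3_c33) Lrfl Lrfl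
theorem f581546 : Led Lsl_ft (LP (LK LD1_c17 LD2_c9 LD3_c24)) = (LP (LK LD1_c10 LD2_c5 LD3_c26)) :=
  Lgr Lrot4 (Lpr_cf (f581540 IH) (Lpe (f581545 IH) (Lpe (f387107 IH) (Lpn (LP (LK LD1_c10 LD2_c5 LD3_c26))))))
theorem f748749 : Led Lsl_bf (LP (LK LD1_c17 LD2_c9 LD3_c24)) = (LP (LK LD1_c18 LD2_c36 LD3_c44)) :=
  Lgr Lrot61 (Lpr_ft (f581546 IH) (Lpr_bt (f387113 IH) (Lpr_ft (f748746 IH) (Lpn (LP (LK LD1_c18 LD2_c36 LD3_c44))))))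
theorem f748761 : Led Lsl_bt (LP (LK LD1_c18 LD2_c36 LD3_c39)) = (LP (LK LD1_c10 LD2_c13 LD3_c29)) :=
  Lre_b IH (LK LD1_c18 LD2_c36 LD3_c39) (LK LD1_c10 LD2_c13 LD3_c29) Lrfl Lrfl
theorem f748762 : Led Lsl_et (LP (LK LD1_c17 LD2_c9 LD3_c24)) = (LP (LK LD1_c18 LD2_c36 LD3_c39)) :=
  Lgr Lrot74 (Lpr_bf (f748749 IH) (Lpe (f405623 IH) (Lpe (f748761 IH) (Lpn (LP (LK LD1_c18 LD2_c36 LD3_c39))))))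
theorem f748764 : Led Lsl_ef (LP (LK LD1_c17 LD2_c9 LD3_c24)) = (LP (LK LD1_c18 LD2_c36 LD3_c39)) :=
  Lgr Lrot88 (Lpr_et (f748762 IH) (Lpn (LP (LK LD1_c18 LD2_c36 LD3_c39))))
theorem f932062 : Led Lsl_cf (LP (LK LD1_c18 LD2_c36 LD3_c39)) = v42043 :=
  Lgr Lrot39 (Lpe (f748764 IH) (Lpr_ct (f581543 IH) (Lpr_et (f932060 IH) (Lpn v42043))))
theorem f932070 : v41577 = (LP (LK LD1_c10 LD2_c13 LD3_c29)) :=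
  (Llr Lrot85 (Lpe (f926847 IH) (Lpe (K72.f240466 IH) (Lpr_ct (K71.f240286 IH) (Lpr_bt (K71.f240245 IH) (Lpr_gt (K13.f240242 IH) (Lpe (K13.f240234 IH) (Lpe (K12.f196159 IH) (Lpr_bt (f196166 IH) (Lpr_gt (K42.f542361 IH) (Lpr_dt (K8.f59204 IH) (Lpr_ct (K36.f541257 IH) (Lpe (K36.f386941 IH) (Lpe (K44.f581978 IH) (Lpr_dt (K40.f563777 IH) (Lpr_ct (K64.f387092 IH) (Lpe (f931338 IH) (Lpr_gt (f428087 IH) (Lpr_dt (f932068 IH) (Lpe (f932062 IH) (Lpr_bt (f748761 IH) (Lpn (LP (LK LD1_c10 LD2_c13 LD3_c29)))))))))))))))))))))))).symm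
theorem f932071 : Led Lsl_gt (LP (LK LD1_c10 LD2_c13 LD3_c29)) = (LP (LK LD1_c9 LD2_c59 LD3_c4)) :=
  Leop (Lpr_gf (f926847 IH) (Lpqs (f932070 IH) (Lpn (LP (LK LD1_c10 LD2_c13 LD3_c29)))))
theorem seed_2591 : LEOK LG_g (LK LD1_c10 LD2_c13 LD3_c29) :=
  Leoe_g (LK LD1_c10 LD2_c13 LD3_c29) (f932071 IH)
theorem f710757 : Led Lsl_ft (LP (LK LD1_c10 LD2_c13 LD3_c54)) = (LP (LK LD1_c18 LD2_c36 LD3_c39)) :=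
  Lre_f IH (LK LD1_c10 LD2_c13 LD3_c54) (LK LD1_c18 LD2_c36 LD3_c39) Lrfl Lrfl
theorem f932067 : Led Lsl_ct (LP (LK LD1_c18 LD2_c36 LD3_c39)) = v42043 :=
  Lgr Lrot40 (Lpe (f710757 IH) (Lpe (K72.f405334 IH) (Lpr_ff (f932065 IH) (Lpn v42043))))
theorem f165670 : Led Lsl_gt (LP (LK LD1_c5 LD2_c3 LD3_c54)) = (LP (LK LD1_c9 LD2_c58 LD3_c44)) :=
  Lre_g IH (LK LD1_c5 LD2_c3 LD3_c54) (LK LD1_c9 LD2_c58 LD3_c44) Lrfl Lrfl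
def v41514 : LQ := Led Lsl_ct (LP (LK LD1_c9 LD2_c58 LD3_c44))
theorem f926603 : Led Lsl_ct (LP (LK LD1_c9 LD2_c58 LD3_c44)) = v41514 :=
  Lrfl
theorem f932094 : Led Lsl_gf v42043 = v41514 :=
  Lgr Lrot129 (Lpe (f932067 IH) (Lpr_bt (f748761 IH) (Lpq (f932070 IH) (Lpe (f926847 IH) (Lpe (K72.f165713 IH) (Lpr_ct (K10.f165695 IH) (Lpr_gt (K10.f165671 IH) (Lpe (K10.f165653 IH) (Lpr_bt (K64.f165669 IH) (Lpr_gt (f165670 IH) (Lpr_ct (f926603 IH) (Lpn v41514))))))))))))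
theorem f581578 : Led Lsl_et (LP (LK LD1_c2 LD2_c31 LD3_c8)) = (LP (LK LD1_c5 LD2_c7 LD3_c35)) :=
  Lgr Lrot158 (Lpe (K36.f421471 IH) (Lpe (K42.f557681 IH) (Lpr_cf (K44.f581571 IH) (Lpn (LP (LK LD1_c5 LD2_c7 LD3_c35))))))
theorem f572815 : Led Lsl_et (LP (LK LD1_c10 LD2_c5 LD3_c46)) = (LP (LK LD1_c5 LD2_c7 LD3_c45)) :=
  Lre_e IH (LK LD1_c10 LD2_c5 LD3_c46) (LK LD1_c5 LD2_c7 LD3_c45) Lrfl Lrfl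
theorem f932063 : Led Lsl_df (LP (LK LD1_c10 LD2_c5 LD3_c46)) = v42043 :=
  Lgr Lrot70 (Lpr_et (f572815 IH) (Lpr_dt (K42.f421537 IH) (Lpr_et (f581578 IH) (Lpr_dt (K44.f581411 IH) (Lpr_et (f932060 IH) (Lpn v42043))))))
theorem f428084 : Led Lsl_gt (LP (LK LD1_c10 LD2_c5 LD3_c46)) = (LP (LK LD1_c18 LD2_c24 LD3_c31)) :=
  Lre_g IH (LK LD1_c10 LD2_c5 LD3_c46) (LK LD1_c18 LD2_c24 LD3_c31) Lrfl Lrfl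
theorem f249899 : Led Lsl_gt (LP (LK LD1_c9 LD2_c58 LD3_c44)) = (LP (LK LD1_c10 LD2_c11 LD3_c61)) :=
  Lgr Lrot46 (Lpe (f165670 IH) (Lpr_ft (K14.f249879 IH) (Lpr_at (K69.f248836 IH) (Lpn (LP (LK LD1_c10 LD2_c11 LD3_c61))))))
theorem f249750 : Led Lsl_dt (LP (LK LD1_c10 LD2_c11 LD3_c61)) = (LP (LK LD1_c5 LD2_c10 LD3_c39)) :=
  Lre_d IH (LK LD1_c10 LD2_c11 LD3_c61) (LK LD1_c5 LD2_c10 LD3_c39) Lrfl Lrfl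
theorem f932096 : Led Lsl_dt (LP (LK LD1_c18 LD2_c24 LD3_c31)) = K72.v41398 :=
  Lgr Lrot105 (Lpe (f428084 IH) (Lpr_df (f932063 IH) (Lpr_gf (f932094 IH) (Lpe (f926603 IH) (Lpr_gt (f249899 IH) (Lpr_dt (f249750 IH) (Lpr_gt (K37.f343296 IH) (Lpe (K72.f343412 IH) (Lpr_cf (K72.f925793 IH) (Lpn K72.v41398))))))))))
theorem f299856 : Led Lsl_dt (LP (LK LD1_c9 LD2_c57 LD3_c4)) = (LP (LK LD1_c5 LD2_c3 LD3_c6)) :=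
  Lre_d IH (LK LD1_c9 LD2_c57 LD3_c4) (LK LD1_c5 LD2_c3 LD3_c6) Lrfl Lrfl
theorem f299857 : Led Lsl_dt (LP (LK LD1_c5 LD2_c9 LD3_c56)) = (LP (LK LD1_c10 LD2_c10 LD3_c39)) :=
  Lre_d IH (LK LD1_c5 LD2_c9 LD3_c56) (LK LD1_c10 LD2_c10 LD3_c39) Lrfl Lrfl
theorem f299858 : Led Lsl_ff (LP (LK LD1_c9 LD2_c57 LD3_c4)) = (LP (LK LD1_c10 LD2_c10 LD3_c39)) :=
  Lgr Lrot19 (Lpr_dt (f299856 IH) (Lpr_ft (K18.f299851 IH) (Lpr_dt (f299857 IH) (Lpn (LP (LK LD1_c10 LD2_c10 LD3_c39))))))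
theorem f299920 : Led Lsl_at (LP (LK LD1_c9 LD2_c57 LD3_c4)) = (LP (LK LD1_c5 LD2_c3 LD3_c7)) :=
  Lre_a IH (LK LD1_c9 LD2_c57 LD3_c4) (LK LD1_c5 LD2_c3 LD3_c7) Lrfl Lrfl
theorem f406747 : Led Lsl_gf (LP (LK LD1_c9 LD2_c57 LD3_c7)) = (LP (LK LD1_c10 LD2_c10 LD3_c39)) :=
  Lgr Lrot47 (Lpr_gt (K72.f177219 IH) (Lpe (f299920 IH) (Lpr_ff (f299858 IH) (Lpn (LP (LK LD1_c10 LD2_c10 LD3_c39))))))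
theorem f560036 : Led Lsl_gt (LP (LK LD1_c10 LD2_c17 LD3_c43)) = (LP (LK LD1_c18 LD2_c42 LD3_c51)) :=
  Lre_g IH (LK LD1_c10 LD2_c17 LD3_c43) (LK LD1_c18 LD2_c42 LD3_c51) Lrfl Lrfl
theorem f932098 : Led Lsl_cf (LP (LK LD1_c18 LD2_c24 LD3_c31)) = (LP (LK LD1_c18 LD2_c42 LD3_c51)) :=
  Lgr Lrot175 (Lpr_dt (f932096 IH) (Lpe (K72.f925792 IH) (Lpr_gf (f406747 IH) (Lpe (K71.f299911 IH) (Lpe (K53.f299956 IH) (Lpr_dt (K53.f699390 IH) (Lpr_gt (K53.f186555 IH) (Lpr_ct (K53.f186556 IH) (Lpr_gt (f560036 IH) (Lpn (LP (LK LD1_c18 LD2_c42 LD3_c51))))))))))))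
theorem f932099 : Led Lsl_ct (LP (LK LD1_c18 LD2_c42 LD3_c51)) = (LP (LK LD1_c18 LD2_c24 LD3_c31)) :=
  Leop (Lpr_cf (f932098 IH) (Lpn (LP (LK LD1_c18 LD2_c42 LD3_c51))))
theorem seed_2592 : LEOK LG_c (LK LD1_c18 LD2_c42 LD3_c51) :=
  Leoe_c (LK LD1_c18 LD2_c42 LD3_c51) (f932099 IH)
def v41396 : LQ := Led Lsl_ft (LP (LK LD1_c9 LD2_c57 LD3_c6))
theorem f925779 : Led Lsl_ft (LP (LK LD1_c9 LD2_c57 LD3_c6)) = v41396 :=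
  Lrfl
theorem f925763 : Led Lsl_af (LP (LK LD1_c9 LD2_c57 LD3_c6)) = K72.v41392 :=
  Lgr Lrot0 (Lpr_at (K72.f925762 IH) (Lpn K72.v41392))
theorem f925780 : Led Lsl_af (LP (LK LD1_c9 LD2_c57 LD3_c7)) = v41396 :=
  Lgr Lrot45 (Lpr_ft (K72.f925766 IH) (Lpe (f925763 IH) (Lpr_ft (f925779 IH) (Lpn v41396))))
theorem f405683 : Led Lsl_dt (LP (LK LD1_c9 LD2_c58 LD3_c38)) = (LP (LK LD1_c18 LD2_c15 LD3_c7)) :=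
  Lre_d IH (LK LD1_c9 LD2_c58 LD3_c38) (LK LD1_c18 LD2_c15 LD3_c7) Lrfl Lrfl
theorem f169655 : Led Lsl_dt (LP (LK LD1_c5 LD2_c3 LD3_c7)) = (LP (LK LD1_c2 LD2_c29 LD3_c5)) :=
  Lre_d IH (LK LD1_c5 LD2_c3 LD3_c7) (LK LD1_c2 LD2_c29 LD3_c5) Lrfl Lrfl
theorem f169991 : Led Lsl_ct (LP (LK LD1_c2 LD2_c29 LD3_c5)) = (LP (LK LD1_c5 LD2_c2 LD3_c57)) :=
  Lre_c IH (LK LD1_c2 LD2_c29 LD3_c5) (LK LD1_c5 LD2_c2 LD3_c57) Lrfl Lrfl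
theorem f299882 : Led Lsl_dt (LP (LK LD1_c9 LD2_c56 LD3_c46)) = (LP (LK LD1_c5 LD2_c2 LD3_c57)) :=
  Lre_d IH (LK LD1_c9 LD2_c56 LD3_c46) (LK LD1_c5 LD2_c2 LD3_c57) Lrfl Lrfl
theorem f249575 : Led Lsl_gt (LP (LK LD1_c18 LD2_c12 LD3_c10)) = (LP (LK LD1_c9 LD2_c56 LD3_c46)) :=
  Lre_g IH (LK LD1_c18 LD2_c12 LD3_c10) (LK LD1_c9 LD2_c56 LD3_c46) Lrfl Lrfl
theorem f405321 : Led Lsl_df (LP (LK LD1_c18 LD2_c12 LD3_c10)) = (LP (LK LD1_c9 LD2_c58 LD3_c21)) :=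
  Lgr Lrot153 (Lpr_gt (f249575 IH) (Lpr_dt (f299882 IH) (Lpe (f169991 IH) (Lpe (f169655 IH) (Lpe (K72.f177219 IH) (Lpr_df (K72.f343412 IH) (Lpe (K37.f343296 IH) (Lpe (K37.f248984 IH) (Lpr_gt (K44.f405319 IH) (Lpn (LP (LK LD1_c9 LD2_c58 LD3_c21))))))))))))
theorem f249552 : Led Lsl_ct (LP (LK LD1_c9 LD2_c56 LD3_c46)) = (LP (LK LD1_c18 LD2_c12 LD3_c11)) :=
  Lre_c IH (LK LD1_c9 LD2_c56 LD3_c46) (LK LD1_c18 LD2_c12 LD3_c11) Lrfl Lrfl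
theorem f249553 : Led Lsl_gt (LP (LK LD1_c18 LD2_c12 LD3_c11)) = (LP (LK LD1_c27 LD2_c52 LD3_c56)) :=
  Lre_g IH (LK LD1_c18 LD2_c12 LD3_c11) (LK LD1_c27 LD2_c52 LD3_c56) Lrfl Lrfl
theorem f405682 : Led Lsl_dt (LP (LK LD1_c18 LD2_c15 LD3_c7)) = (LP (LK LD1_c9 LD2_c58 LD3_c38)) :=
  Lre_d IH (LK LD1_c18 LD2_c15 LD3_c7) (LK LD1_c9 LD2_c58 LD3_c38) Lrfl Lrfl
theorem f405863 : Led Lsl_ct (LP (LK LD1_c27 LD2_c52 LD3_c56)) = (LP (LK LD1_c18 LD2_c15 LD3_c7)) :=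
  Lgr Lrot110 (Lpe (f249553 IH) (Lpe (f249552 IH) (Lpe (f249575 IH) (Lpr_df (f405321 IH) (Lpr_gt (K44.f165613 IH) (Lpr_ct (K10.f165609 IH) (Lpr_gt (K53.f165589 IH) (Lpr_ct (K53.f165590 IH) (Lpe (f405682 IH) (Lpn (LP (LK LD1_c18 LD2_c15 LD3_c7))))))))))))
theorem f405865 : Led Lsl_cf (LP (LK LD1_c27 LD2_c52 LD3_c56)) = (LP (LK LD1_c18 LD2_c15 LD3_c7)) :=
  Lgr Lrot11 (Lpr_ct (f405863 IH) (Lpn (LP (LK LD1_c18 LD2_c15 LD3_c7))))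
theorem f932102 : Led Lsl_dt (LP (LK LD1_c27 LD2_c52 LD3_c56)) = (LP (LK LD1_c18 LD2_c42 LD3_c51)) :=
  Lgr Lrot140 (Lpr_cf (f405865 IH) (Lpe (f405683 IH) (Lpe (K53.f165590 IH) (Lpr_df (K53.f604187 IH) (Lpr_ft (f925779 IH) (Lpe (f925780 IH) (Lpr_cf (K72.f925793 IH) (Lpe (f932096 IH) (Lpr_cf (f932098 IH) (Lpn (LP (LK LD1_c18 LD2_c42 LD3_c51))))))))))))
theorem f932103 : Led Lsl_dt (LP (LK LD1_c27 LD2_c52 LD3_c56)) = (LP (LK LD1_c18 LD2_c42 LD3_c51)) :=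
  Leop (Lpe (f932102 IH) (Lpn (LP (LK LD1_c27 LD2_c52 LD3_c56))))
theorem seed_2593 : LEOK LG_d (LK LD1_c27 LD2_c52 LD3_c56) :=
  Leoe_d (LK LD1_c27 LD2_c52 LD3_c56) (f932103 IH)
def v42074 : LQ := Led Lsl_at (LP (LK LD1_c10 LD2_c5 LD3_c57))
theorem f932235 : Led Lsl_at (LP (LK LD1_c10 LD2_c5 LD3_c57)) = v42074 :=
  Lrfl
theorem f3253 : Led Lsl_dt (LP (LK LD1_c2 LD2_c31 LD3_c14)) = (LP (LK LD1_c5 LD2_c7 LD3_c61)) :=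
  Lre_d IH (LK LD1_c2 LD2_c31 LD3_c14) (LK LD1_c5 LD2_c7 LD3_c61) Lrfl Lrfl
theorem f3185 : Led Lsl_ct (LP (LK LD1_c5 LD2_c7 LD3_c61)) = (LP (LK LD1_c10 LD2_c6 LD3_c31)) :=
  Lre_c IH (LK LD1_c5 LD2_c7 LD3_c61) (LK LD1_c10 LD2_c6 LD3_c31) Lrfl Lrfl
theorem f548531 : Led Lsl_dt (LP (LK LD1_c10 LD2_c6 LD3_c31)) = (LP (LK LD1_c8 LD2_c14 LD3_c53)) :=
  Lgr Lrot32 (Lpe (f3185 IH) (Lpe (f3253 IH) (Lpr_ft (K38.f164506 IH) (Lpr_at (K38.f548516 IH) (Lpe (K38.f55815 IH) (Lpe (K38.f172062 IH) (Lpe (K38.f422798 IH) (Lpr_df (K38.f172096 IH) (Lpe (K38.f172114 IH) (Lpn (LP (LK LD1_c8 LD2_c14 LD3_c53))))))))))))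
theorem f3232 : Led Lsl_bt (LP (LK LD1_c18 LD2_c25 LD3_c35)) = (LP (LK LD1_c10 LD2_c6 LD3_c31)) :=
  Lre_b IH (LK LD1_c18 LD2_c25 LD3_c35) (LK LD1_c10 LD2_c6 LD3_c31) Lrfl Lrfl
theorem f187552 : Led Lsl_bt (LP (LK LD1_c5 LD2_c27 LD3_c20)) = (LP (LK LD1_c2 LD2_c40 LD3_c1)) :=
  Lre_b IH (LK LD1_c5 LD2_c27 LD3_c20) (LK LD1_c2 LD2_c40 LD3_c1) Lrfl Lrfl
theorem f187566 : Led Lsl_ct (LP (LK LD1_c10 LD2_c45 LD3_c50)) = (LP (LK LD1_c5 LD2_c27 LD3_c20)) :=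
  Lre_c IH (LK LD1_c10 LD2_c45 LD3_c50) (LK LD1_c5 LD2_c27 LD3_c20) Lrfl Lrfl
theorem f195576 : Led Lsl_bt (LP (LK LD1_c8 LD2_c14 LD3_c53)) = (LP (LK LD1_c10 LD2_c45 LD3_c50)) :=
  Lgr Lrot128 (Lpe (K38.f55815 IH) (Lpe (K43.f172113 IH) (Lpr_cf (K10.f195569 IH) (Lpe (f187552 IH) (Lpe (f187566 IH) (Lpn (LP (LK LD1_c10 LD2_c45 LD3_c50))))))))
theorem f548533 : Led Lsl_df (LP (LK LD1_c18 LD2_c25 LD3_c35)) = (LP (LK LD1_c10 LD2_c45 LD3_c50)) :=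
  Lgr Lrot12 (Lpr_bt (f3232 IH) (Lpr_dt (f548531 IH) (Lpr_bt (f195576 IH) (Lpn (LP (LK LD1_c10 LD2_c45 LD3_c50))))))
theorem f3201 : Led Lsl_ft (LP (LK LD1_c5 LD2_c7 LD3_c61)) = (LP (LK LD1_c10 LD2_c6 LD3_c33)) :=
  Lre_f IH (LK LD1_c5 LD2_c7 LD3_c61) (LK LD1_c10 LD2_c6 LD3_c33) Lrfl Lrfl
theorem f3202 : Led Lsl_ct (LP (LK LD1_c10 LD2_c6 LD3_c31)) = (LP (LK LD1_c5 LD2_c7 LD3_c61)) :=
  Lre_c IH (LK LD1_c10 LD2_c6 LD3_c31) (LK LD1_c5 LD2_c7 LD3_c61) Lrfl Lrfl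
theorem f3203 : Led Lsl_ft (LP (LK LD1_c10 LD2_c5 LD3_c58)) = (LP (LK LD1_c10 LD2_c6 LD3_c31)) :=
  Lgr Lrot4 (Lpr_cf (K42.f3180 IH) (Lpe (f3201 IH) (Lpe (f3202 IH) (Lpn (LP (LK LD1_c10 LD2_c6 LD3_c31))))))
theorem f3213 : Led Lsl_bt (LP (LK LD1_c18 LD2_c24 LD3_c47)) = (LP (LK LD1_c10 LD2_c5 LD3_c58)) :=
  Lre_b IH (LK LD1_c18 LD2_c24 LD3_c47) (LK LD1_c10 LD2_c5 LD3_c58) Lrfl Lrfl
theorem f3214 : Led Lsl_bt (LP (LK LD1_c10 LD2_c6 LD3_c31)) = (LP (LK LD1_c18 LD2_c25 LD3_c35)) :=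
  Lre_b IH (LK LD1_c10 LD2_c6 LD3_c31) (LK LD1_c18 LD2_c25 LD3_c35) Lrfl Lrfl
theorem f3215 : Led Lsl_ff (LP (LK LD1_c18 LD2_c24 LD3_c47)) = (LP (LK LD1_c18 LD2_c25 LD3_c35)) :=
  Lgr Lrot25 (Lpr_bt (f3213 IH) (Lpr_ft (f3203 IH) (Lpr_bt (f3214 IH) (Lpn (LP (LK LD1_c18 LD2_c25 LD3_c35))))))
theorem f3243 : Led Lsl_dt (LP (LK LD1_c18 LD2_c24 LD3_c47)) = (LP (LK LD1_c10 LD2_c5 LD3_c57)) :=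
  Lre_d IH (LK LD1_c18 LD2_c24 LD3_c47) (LK LD1_c10 LD2_c5 LD3_c57) Lrfl Lrfl
theorem f548537 : Led Lsl_ft (LP (LK LD1_c10 LD2_c5 LD3_c57)) = (LP (LK LD1_c10 LD2_c45 LD3_c50)) :=
  Lgr Lrot54 (Lpe (f3243 IH) (Lpr_ff (f3215 IH) (Lpr_df (f548533 IH) (Lpn (LP (LK LD1_c10 LD2_c45 LD3_c50))))))
theorem f548541 : Led Lsl_ff (LP (LK LD1_c10 LD2_c5 LD3_c57)) = (LP (LK LD1_c10 LD2_c45 LD3_c50)) :=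
  Lgr Lrot3 (Lpr_ft (f548537 IH) (Lpn (LP (LK LD1_c10 LD2_c45 LD3_c50))))
theorem f584997 : Led Lsl_bf (LP (LK LD1_c5 LD2_c4 LD3_c35)) = (LP (LK LD1_c2 LD2_c59 LD3_c32)) :=
  Lgr Lrot24 (Lpr_bt (K45.f584993 IH) (Lpn (LP (LK LD1_c2 LD2_c59 LD3_c32))))
theorem f187565 : Led Lsl_at (LP (LK LD1_c10 LD2_c45 LD3_c49)) = (LP (LK LD1_c5 LD2_c27 LD3_c20)) :=
  Lre_a IH (LK LD1_c10 LD2_c45 LD3_c49) (LK LD1_c5 LD2_c27 LD3_c20) Lrfl Lrfl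
theorem f585111 : Led Lsl_bt (LP (LK LD1_c10 LD2_c0 LD3_c8)) = (LP (LK LD1_c10 LD2_c45 LD3_c49)) :=
  Lgr Lrot62 (Lpe (K10.f164003 IH) (Lpr_bf (f584997 IH) (Lpr_af (K71.f334925 IH) (Lpe (f187552 IH) (Lpe (f187565 IH) (Lpn (LP (LK LD1_c10 LD2_c45 LD3_c49))))))))
theorem f163845 : Led Lsl_bt (LP (LK LD1_c18 LD2_c37 LD3_c41)) = (LP (LK LD1_c10 LD2_c14 LD3_c2)) :=
  Lre_b IH (LK LD1_c18 LD2_c37 LD3_c41) (LK LD1_c10 LD2_c14 LD3_c2) Lrfl Lrfl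
theorem f585113 : Led Lsl_cf (LP (LK LD1_c18 LD2_c37 LD3_c41)) = (LP (LK LD1_c10 LD2_c45 LD3_c49)) :=
  Lgr Lrot97 (Lpr_bt (f163845 IH) (Lpr_ct (K2.f34305 IH) (Lpe (K8.f163840 IH) (Lpr_ct (K10.f163844 IH) (Lpr_bt (f585111 IH) (Lpn (LP (LK LD1_c10 LD2_c45 LD3_c49))))))))
theorem f187573 : Led Lsl_at (LP (LK LD1_c5 LD2_c27 LD3_c20)) = (LP (LK LD1_c10 LD2_c45 LD3_c49)) :=
  Lre_a IH (LK LD1_c5 LD2_c27 LD3_c20) (LK LD1_c10 LD2_c45 LD3_c49) Lrfl Lrfl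
theorem f585115 : Led Lsl_at (LP (LK LD1_c18 LD2_c37 LD3_c41)) = (LP (LK LD1_c10 LD2_c45 LD3_c50)) :=
  Lgr Lrot107 (Lpr_cf (f585113 IH) (Lpe (f187573 IH) (Lpe (f187566 IH) (Lpn (LP (LK LD1_c10 LD2_c45 LD3_c50))))))
theorem f932239 : Led Lsl_ff (LP (LK LD1_c18 LD2_c37 LD3_c41)) = v42074 :=
  Lgr Lrot30 (Lpr_at (f585115 IH) (Lpe (f548541 IH) (Lpr_at (f932235 IH) (Lpn v42074))))
theorem f932243 : Led Lsl_ft (LP (LK LD1_c18 LD2_c37 LD3_c41)) = v42074 :=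
  Lgr Lrot48 (Lpr_ff (f932239 IH) (Lpn v42074))
theorem f932236 : Led Lsl_af (LP (LK LD1_c10 LD2_c5 LD3_c57)) = v42074 :=
  Lgr Lrot0 (Lpr_at (f932235 IH) (Lpn v42074))
theorem f548549 : Led Lsl_gt (LP (LK LD1_c18 LD2_c24 LD3_c46)) = (LP (LK LD1_c10 LD2_c5 LD3_c57)) :=
  Lre_g IH (LK LD1_c18 LD2_c24 LD3_c46) (LK LD1_c10 LD2_c5 LD3_c57) Lrfl Lrfl
theorem f932244 : Led Lsl_gt (LP (LK LD1_c18 LD2_c37 LD3_c41)) = (LP (LK LD1_c18 LD2_c24 LD3_c46)) :=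
  Lgr Lrot5 (Lpr_ft (f932243 IH) (Lpe (f932236 IH) (Lpe (f548549 IH) (Lpn (LP (LK LD1_c18 LD2_c24 LD3_c46))))))
theorem f932245 : Led Lsl_gt (LP (LK LD1_c18 LD2_c37 LD3_c41)) = (LP (LK LD1_c18 LD2_c24 LD3_c46)) :=
  Leop (Lpe (f932244 IH) (Lpn (LP (LK LD1_c18 LD2_c37 LD3_c41))))
theorem seed_2594 : LEOK LG_g (LK LD1_c18 LD2_c37 LD3_c41) :=
  Leoe_g (LK LD1_c18 LD2_c37 LD3_c41) (f932245 IH)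
def v42083 : LQ := Led Lsl_bt (LP (LK LD1_c10 LD2_c5 LD3_c61))
theorem f932295 : Led Lsl_bt (LP (LK LD1_c10 LD2_c5 LD3_c61)) = v42083 :=
  Lrfl
theorem f932296 : Led Lsl_bf (LP (LK LD1_c10 LD2_c5 LD3_c61)) = v42083 :=
  Lgr Lrot24 (Lpr_bt (f932295 IH) (Lpn v42083))
theorem f636248 : Led Lsl_ct (LP (LK LD1_c2 LD2_c31 LD3_c25)) = K72.v4582 :=
  Lgr Lrot40 (Lpe (K7.f22238 IH) (Lpe (K55.f22244 IH) (Lpr_ff (K72.f636243 IH) (Lpn K72.v4582))))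
def v4598 : LQ := Led Lsl_gt (LP (LK LD1_c2 LD2_c34 LD3_c11))
theorem f636326 : Led Lsl_gt (LP (LK LD1_c2 LD2_c34 LD3_c11)) = v4598 :=
  Lrfl
theorem f163962 : Led Lsl_ft (LP (LK LD1_c2 LD2_c34 LD3_c11)) = (LP (LK LD1_c5 LD2_c14 LD3_c47)) :=
  Lre_f IH (LK LD1_c2 LD2_c34 LD3_c11) (LK LD1_c5 LD2_c14 LD3_c47) Lrfl Lrfl
theorem f636247 : Led Lsl_at (LP (LK LD1_c5 LD2_c14 LD3_c47)) = K72.v4582 :=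
  Lgr Lrot66 (Lpe (f163962 IH) (Lpe (K10.f164420 IH) (Lpr_ff (K72.f636243 IH) (Lpn K72.v4582))))
theorem f636327 : Led Lsl_gf K72.v4582 = v4598 :=
  Lgr Lrot76 (Lpe (f636247 IH) (Lpe (f163962 IH) (Lpr_gt (f636326 IH) (Lpn v4598))))
theorem f164381 : Led Lsl_ct (LP (LK LD1_c1 LD2_c14 LD3_c4)) = (LP (LK LD1_c2 LD2_c34 LD3_c11)) :=
  Lre_c IH (LK LD1_c1 LD2_c14 LD3_c4) (LK LD1_c2 LD2_c34 LD3_c11) Lrfl Lrfl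
theorem f629284 : Led Lsl_cf K35.v1375 = K48.v4072 :=
  Lgr Lrot39 (Lpe (K35.f495199 IH) (Lpe (K32.f444589 IH) (Lpr_et (K48.f629283 IH) (Lpn K48.v4072))))
theorem f509517 : Led Lsl_gt K35.v1375 = K35.v2185 :=
  Lgr Lrot131 (Lpe (K35.f495198 IH) (Lpr_dt (K32.f135608 IH) (Lpe (K54.f135598 IH) (Lpe (K0.f23793 IH) (Lpr_gf (K24.f416143 IH) (Lpe (K24.f23236 IH) (Lpr_dt (K17.f23277 IH) (Lpe (K17.f180320 IH) (Lpe (K24.f180331 IH) (Lpr_et (K35.f509513 IH) (Lpn K35.v2185)))))))))))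
theorem f636328 : Led Lsl_cf K50.v4204 = v4598 :=
  Lgr Lrot99 (Lpe (K50.f631863 IH) (Lpr_cf (K72.f509514 IH) (Lpe (f509517 IH) (Lpr_cf (f629284 IH) (Lpe (K48.f629287 IH) (Lpe (K35.f496142 IH) (Lpr_gt (K35.f164387 IH) (Lpr_ct (f164381 IH) (Lpr_gt (f636326 IH) (Lpn v4598))))))))))
theorem f636330 : Led Lsl_ct K50.v4204 = v4598 :=
  Lgr Lrot59 (Lpr_cf (f636328 IH) (Lpn v4598))
theorem f442481 : Led Lsl_bt (LP (LK LD1_c4 LD2_c35 LD3_c31)) = (LP (LK LD1_c2 LD2_c15 LD3_c1)) :=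
  Lre_b IH (LK LD1_c4 LD2_c35 LD3_c31) (LK LD1_c2 LD2_c15 LD3_c1) Lrfl Lrfl
theorem f631862 : Led Lsl_ct (LP (LK LD1_c4 LD2_c35 LD3_c31)) = (LP (LK LD1_c9 LD2_c7 LD3_c35)) :=
  Lre_c IH (LK LD1_c4 LD2_c35 LD3_c31) (LK LD1_c9 LD2_c7 LD3_c35) Lrfl Lrfl
theorem f435443 : Led Lsl_gt (LP (LK LD1_c16 LD2_c59 LD3_c45)) = (LP (LK LD1_c9 LD2_c7 LD3_c35)) :=
  Lre_g IH (LK LD1_c16 LD2_c59 LD3_c45) (LK LD1_c9 LD2_c7 LD3_c35) Lrfl Lrfl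
theorem f932301 : Led Lsl_cf (LP (LK LD1_c16 LD2_c59 LD3_c45)) = v42083 :=
  Lgr Lrot160 (Lpr_gt (f435443 IH) (Lpe (f631862 IH) (Lpr_bt (f442481 IH) (Lpr_gt (K50.f631859 IH) (Lpr_ct (f636330 IH) (Lpe (f636327 IH) (Lpe (f636248 IH) (Lpr_bt (K7.f22261 IH) (Lpr_gt (K7.f22280 IH) (Lpr_bf (f932296 IH) (Lpn v42083)))))))))))
theorem f932298 : Led Lsl_ff (LP (LK LD1_c10 LD2_c6 LD3_c39)) = v42083 :=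
  Lgr Lrot25 (Lpr_bt (K67.f22352 IH) (Lpr_ft (K55.f722290 IH) (Lpqs (K55.f742080 IH) (Lpr_bt (f932295 IH) (Lpn v42083)))))
theorem f932299 : Led Lsl_ft (LP (LK LD1_c10 LD2_c6 LD3_c39)) = v42083 :=
  Lgr Lrot48 (Lpr_ff (f932298 IH) (Lpn v42083))
theorem f22353 : Led Lsl_ct (LP (LK LD1_c18 LD2_c25 LD3_c45)) = (LP (LK LD1_c10 LD2_c6 LD3_c39)) :=
  Lre_c IH (LK LD1_c18 LD2_c25 LD3_c45) (LK LD1_c10 LD2_c6 LD3_c39) Lrfl Lrfl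
theorem f932303 : Led Lsl_ft (LP (LK LD1_c16 LD2_c59 LD3_c45)) = (LP (LK LD1_c18 LD2_c25 LD3_c45)) :=
  Lgr Lrot4 (Lpr_cf (f932301 IH) (Lpe (f932299 IH) (Lpe (f22353 IH) (Lpn (LP (LK LD1_c18 LD2_c25 LD3_c45))))))
theorem f932304 : Led Lsl_ft (LP (LK LD1_c16 LD2_c59 LD3_c45)) = (LP (LK LD1_c18 LD2_c25 LD3_c45)) :=
  Leop (Lpe (f932303 IH) (Lpn (LP (LK LD1_c16 LD2_c59 LD3_c45))))
theorem seed_2595 : LEOK LG_f (LK LD1_c16 LD2_c59 LD3_c45) :=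
  Leoe_f (LK LD1_c16 LD2_c59 LD3_c45) (f932304 IH)
def v42156 : LQ := Led Lsl_dt (LP (LK LD1_c10 LD2_c6 LD3_c41))
theorem f932581 : Led Lsl_dt (LP (LK LD1_c10 LD2_c6 LD3_c41)) = v42156 :=
  Lrfl
theorem f722281 : Led Lsl_et (LP (LK LD1_c5 LD2_c8 LD3_c3)) = (LP (LK LD1_c10 LD2_c6 LD3_c41)) :=
  Lre_e IH (LK LD1_c5 LD2_c8 LD3_c3) (LK LD1_c10 LD2_c6 LD3_c41) Lrfl Lrfl
theorem f206059 : Led Lsl_dt (LP (LK LD1_c11 LD2_c25 LD3_c54)) = (LP (LK LD1_c5 LD2_c48 LD3_c8)) :=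
  Lre_d IH (LK LD1_c11 LD2_c25 LD3_c54) (LK LD1_c5 LD2_c48 LD3_c8) Lrfl Lrfl
theorem f932584 : Led Lsl_ef (LP (LK LD1_c11 LD2_c25 LD3_c54)) = v42156 :=
  Lgr Lrot73 (Lpr_dt (f206059 IH) (Lpr_et (K55.f722302 IH) (Lpe (K55.f722299 IH) (Lpr_et (f722281 IH) (Lpr_dt (f932581 IH) (Lpn v42156))))))
def v42053 : LQ := Led Lsl_dt (LP (LK LD1_c10 LD2_c5 LD3_c39))
theorem f932146 : Led Lsl_dt (LP (LK LD1_c10 LD2_c5 LD3_c39)) = v42053 :=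
  Lrfl
theorem f932149 : Led Lsl_ef (LP (LK LD1_c12 LD2_c25 LD3_c7)) = v42053 :=
  Lgr Lrot73 (Lpr_dt (K53.f711788 IH) (Lpr_et (K55.f112941 IH) (Lpr_dt (K55.f132467 IH) (Lpr_et (K56.f545013 IH) (Lpr_dt (f932146 IH) (Lpn v42053))))))
theorem f932148 : Led Lsl_df (LP (LK LD1_c10 LD2_c5 LD3_c39)) = v42053 :=
  Lgr Lrot38 (Lpr_dt (f932146 IH) (Lpn v42053))
def v42039 : LQ := Led Lsl_ft (LP (LK LD1_c10 LD2_c5 LD3_c22))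
theorem f932033 : Led Lsl_ft (LP (LK LD1_c10 LD2_c5 LD3_c22)) = v42039 :=
  Lrfl
theorem f932037 : Led Lsl_ff (LP (LK LD1_c10 LD2_c5 LD3_c22)) = v42039 :=
  Lgr Lrot3 (Lpr_ft (f932033 IH) (Lpn v42039))
theorem f581527 : Led Lsl_at (LP (LK LD1_c10 LD2_c5 LD3_c22)) = (LP (LK LD1_c5 LD2_c7 LD3_c41)) :=
  Lre_a IH (LK LD1_c10 LD2_c5 LD3_c22) (LK LD1_c5 LD2_c7 LD3_c41) Lrfl Lrfl
def v14377 : LQ := Led Lsl_gf (LP (LK LD1_c5 LD2_c7 LD3_c41))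
theorem f722258 : Led Lsl_gf (LP (LK LD1_c5 LD2_c7 LD3_c41)) = v14377 :=
  Lrfl
theorem f932041 : Led Lsl_gf v14377 = v42039 :=
  Lgr Lrot47 (Lpe (f722258 IH) (Lpe (f581527 IH) (Lpr_ff (f932037 IH) (Lpn v42039))))
def v42038 : LQ := Led Lsl_gf (LP (LK LD1_c10 LD2_c5 LD3_c22))
theorem f932025 : Led Lsl_gf (LP (LK LD1_c10 LD2_c5 LD3_c22)) = v42038 :=
  Lrfl
theorem f117219 : Led Lsl_dt (LP (LK LD1_c5 LD2_c48 LD3_c3)) = (LP (LK LD1_c2 LD2_c50 LD3_c3)) :=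
  Lre_d IH (LK LD1_c5 LD2_c48 LD3_c3) (LK LD1_c2 LD2_c50 LD3_c3) Lrfl Lrfl
theorem f739517 : Led Lsl_gt (LP (LK LD1_c10 LD2_c5 LD3_c22)) = (LP (LK LD1_c10 LD2_c18 LD3_c12)) :=
  Lgr Lrot131 (Lpe (K45.f594677 IH) (Lpr_dt (f568546 IH) (Lpq (K42.f568536 IH) (Lpe (K37.f495362 IH) (Lpe (K42.f3191 IH) (Lpq (K38.f537816 IH) (Lpr_gf (K38.f547997 IH) (Lpe (K43.f545065 IH) (Lpr_dt (f117219 IH) (Lpe (K52.f64356 IH) (Lpe (K55.f427286 IH) (Lpr_et (K56.f739509 IH) (Lpn (LP (LK LD1_c10 LD2_c18 LD3_c12)))))))))))))))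
theorem f932027 : Led Lsl_ff (LP (LK LD1_c10 LD2_c5 LD3_c39)) = v42038 :=
  Lgr Lrot52 (Lpr_at (K56.f739521 IH) (Lpe (f739517 IH) (Lpr_gf (f932025 IH) (Lpn v42038))))
theorem f932030 : Led Lsl_ft (LP (LK LD1_c10 LD2_c5 LD3_c39)) = v42038 :=
  Lgr Lrot48 (Lpr_ff (f932027 IH) (Lpn v42038))
theorem f132460 : Led Lsl_dt (LP (LK LD1_c11 LD2_c29 LD3_c52)) = (LP (LK LD1_c5 LD2_c51 LD3_c11)) :=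
  Lre_d IH (LK LD1_c11 LD2_c29 LD3_c52) (LK LD1_c5 LD2_c51 LD3_c11) Lrfl Lrfl
theorem f712175 : Led Lsl_ff (LP (LK LD1_c11 LD2_c29 LD3_c52)) = (LP (LK LD1_c11 LD2_c25 LD3_c42)) :=
  Lgr Lrot19 (Lpr_dt (f132460 IH) (Lpr_ft (K52.f712171 IH) (Lpr_dt (K55.f427284 IH) (Lpn (LP (LK LD1_c11 LD2_c25 LD3_c42))))))
theorem f712177 : Led Lsl_at (LP (LK LD1_c11 LD2_c29 LD3_c54)) = (LP (LK LD1_c11 LD2_c25 LD3_c42)) :=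
  Lgr Lrot66 (Lpe (K55.f711798 IH) (Lpr_af (K55.f711821 IH) (Lpr_ff (f712175 IH) (Lpn (LP (LK LD1_c11 LD2_c25 LD3_c42))))))
theorem f739511 : Led Lsl_af (LP (LK LD1_c10 LD2_c5 LD3_c39)) = (LP (LK LD1_c10 LD2_c18 LD3_c12)) :=
  Lgr Lrot50 (Lpe (K56.f545016 IH) (Lpr_at (f712177 IH) (Lpr_et (K56.f739509 IH) (Lpn (LP (LK LD1_c10 LD2_c18 LD3_c12))))))
theorem f739553 : Led Lsl_ft v14377 = (LP (LK LD1_c10 LD2_c18 LD3_c12)) :=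
  Lgr Lrot2 (Lpe (f722258 IH) (Lpr_gt (K56.f496107 IH) (Lpr_af (f739511 IH) (Lpn (LP (LK LD1_c10 LD2_c18 LD3_c12))))))
theorem f932031 : Led Lsl_af v14377 = v42038 :=
  Lgr Lrot45 (Lpr_ft (f739553 IH) (Lpe (f739511 IH) (Lpr_ft (f932030 IH) (Lpn v42038))))
theorem f932042 : Led Lsl_gt (LP (LK LD1_c10 LD2_c5 LD3_c39)) = v42039 :=
  Lgr Lrot5 (Lpr_ft (f932030 IH) (Lpe (f932031 IH) (Lpr_gf (f932041 IH) (Lpn v42039))))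
theorem f567554 : Led Lsl_ft (LP (LK LD1_c5 LD2_c48 LD3_c47)) = (LP (LK LD1_c11 LD2_c27 LD3_c0)) :=
  Lre_f IH (LK LD1_c5 LD2_c48 LD3_c47) (LK LD1_c11 LD2_c27 LD3_c0) Lrfl Lrfl
theorem f932039 : Led Lsl_dt (LP (LK LD1_c11 LD2_c27 LD3_c0)) = v42039 :=
  Lgr Lrot60 (Lpe (f567554 IH) (Lpr_df (K45.f594695 IH) (Lpr_ff (f932037 IH) (Lpn v42039))))
theorem f594734 : Led Lsl_ft (LP (LK LD1_c11 LD2_c26 LD3_c59)) = (LP (LK LD1_c20 LD2_c24 LD3_c56)) :=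
  Lre_f IH (LK LD1_c11 LD2_c26 LD3_c59) (LK LD1_c20 LD2_c24 LD3_c56) Lrfl Lrfl
theorem f594735 : Led Lsl_ft (LP (LK LD1_c28 LD2_c1 LD3_c4)) = (LP (LK LD1_c18 LD2_c24 LD3_c26)) :=
  Lre_f IH (LK LD1_c28 LD2_c1 LD3_c4) (LK LD1_c18 LD2_c24 LD3_c26) Lrfl Lrfl
theorem f594773 : Led Lsl_et (LP (LK LD1_c20 LD2_c24 LD3_c56)) = (LP (LK LD1_c28 LD2_c1 LD3_c4)) :=
  Lgr Lrot69 (Lpe (f594734 IH) (Lpe (K45.f567548 IH) (Lpr_ff (K45.f594769 IH) (Lpe (K45.f544161 IH) (Lpe (f594735 IH) (Lpn (LP (LK LD1_c28 LD2_c1 LD3_c4))))))))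
theorem f594775 : Led Lsl_ef (LP (LK LD1_c11 LD2_c27 LD3_c0)) = (LP (LK LD1_c18 LD2_c24 LD3_c27)) :=
  Lgr Lrot28 (Lpr_ct (K45.f594722 IH) (Lpr_et (f594773 IH) (Lpr_ct (K45.f594723 IH) (Lpn (LP (LK LD1_c18 LD2_c24 LD3_c27))))))
theorem f594777 : Led Lsl_et (LP (LK LD1_c11 LD2_c27 LD3_c0)) = (LP (LK LD1_c18 LD2_c24 LD3_c27)) :=
  Lgr Lrot87 (Lpr_ef (f594775 IH) (Lpn (LP (LK LD1_c18 LD2_c24 LD3_c27))))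
theorem f547963 : Led Lsl_dt (LP (LK LD1_c5 LD2_c7 LD3_c41)) = (LP (LK LD1_c10 LD2_c5 LD3_c40)) :=
  Lre_d IH (LK LD1_c5 LD2_c7 LD3_c41) (LK LD1_c10 LD2_c5 LD3_c40) Lrfl Lrfl
theorem f594691 : Led Lsl_af (LP (LK LD1_c5 LD2_c48 LD3_c47)) = (LP (LK LD1_c10 LD2_c5 LD3_c40)) :=
  Lgr Lrot117 (Lpr_dt (K45.f594688 IH) (Lpr_at (f581527 IH) (Lpr_dt (f547963 IH) (Lpn (LP (LK LD1_c10 LD2_c5 LD3_c40))))))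
theorem f567557 : Led Lsl_gt (LP (LK LD1_c11 LD2_c26 LD3_c61)) = (LP (LK LD1_c5 LD2_c48 LD3_c47)) :=
  Lre_g IH (LK LD1_c11 LD2_c26 LD3_c61) (LK LD1_c5 LD2_c48 LD3_c47) Lrfl Lrfl
theorem f594780 : Led Lsl_ft (LP (LK LD1_c18 LD2_c24 LD3_c27)) = (LP (LK LD1_c10 LD2_c5 LD3_c40)) :=
  Lre_f IH (LK LD1_c18 LD2_c24 LD3_c27) (LK LD1_c10 LD2_c5 LD3_c40) Lrfl Lrfl
theorem f600390 : Led Lsl_gf (LP (LK LD1_c11 LD2_c26 LD3_c61)) = (LP (LK LD1_c18 LD2_c24 LD3_c27)) :=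
  Lgr Lrot47 (Lpr_gt (f567557 IH) (Lpr_af (f594691 IH) (Lpe (f594780 IH) (Lpn (LP (LK LD1_c18 LD2_c24 LD3_c27))))))
theorem f594682 : Led Lsl_et (LP (LK LD1_c10 LD2_c5 LD3_c22)) = (LP (LK LD1_c5 LD2_c7 LD3_c30)) :=
  Lre_e IH (LK LD1_c10 LD2_c5 LD3_c22) (LK LD1_c5 LD2_c7 LD3_c30) Lrfl Lrfl
theorem f186533 : Led Lsl_bt (LP (LK LD1_c1 LD2_c13 LD3_c53)) = (LP (LK LD1_c2 LD2_c33 LD3_c47)) :=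
  Lre_b IH (LK LD1_c1 LD2_c13 LD3_c53) (LK LD1_c2 LD2_c33 LD3_c47) Lrfl Lrfl
theorem f594680 : Led Lsl_gf (LP (LK LD1_c5 LD2_c5 LD3_c52)) = (LP (LK LD1_c5 LD2_c7 LD3_c30)) :=
  Lgr Lrot124 (Lpe (K36.f177315 IH) (Lpe (K10.f177313 IH) (Lpr_gt (K14.f249983 IH) (Lpe (K10.f186538 IH) (Lpr_bt (f186533 IH) (Lpe (K42.f572620 IH) (Lpr_ct (K38.f3133 IH) (Lpr_gt (K45.f594651 IH) (Lpe (K72.f594659 IH) (Lpr_bt (K45.f594671 IH) (Lpn (LP (LK LD1_c5 LD2_c7 LD3_c30)))))))))))))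
theorem f205068 : Led Lsl_dt (LP (LK LD1_c5 LD2_c5 LD3_c52)) = (LP (LK LD1_c2 LD2_c30 LD3_c10)) :=
  Lre_d IH (LK LD1_c5 LD2_c5 LD3_c52) (LK LD1_c2 LD2_c30 LD3_c10) Lrfl Lrfl
theorem f579181 : Led Lsl_gt (LP (LK LD1_c5 LD2_c7 LD3_c54)) = (LP (LK LD1_c10 LD2_c6 LD3_c9)) :=
  Lre_g IH (LK LD1_c5 LD2_c7 LD3_c54) (LK LD1_c10 LD2_c6 LD3_c9) Lrfl Lrfl
theorem f579188 : Led Lsl_et (LP (LK LD1_c18 LD2_c25 LD3_c8)) = (LP (LK LD1_c10 LD2_c6 LD3_c9)) :=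
  Lre_e IH (LK LD1_c18 LD2_c25 LD3_c8) (LK LD1_c10 LD2_c6 LD3_c9) Lrfl Lrfl
theorem f594704 : Led Lsl_df (LP (LK LD1_c11 LD2_c26 LD3_c61)) = (LP (LK LD1_c18 LD2_c25 LD3_c8)) :=
  Lgr Lrot170 (Lpr_gt (f567557 IH) (Lpr_df (K45.f594695 IH) (Lpr_et (f594682 IH) (Lpe (f594680 IH) (Lpr_dt (f205068 IH) (Lpq (K38.f537804 IH) (Lpe (K38.f501279 IH) (Lpe (K38.f548132 IH) (Lpr_et (K43.f548377 IH) (Lpr_gt (f579181 IH) (Lpe (f579188 IH) (Lpn (LP (LK LD1_c18 LD2_c25 LD3_c8))))))))))))))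
theorem f594706 : Led Lsl_dt (LP (LK LD1_c11 LD2_c26 LD3_c61)) = (LP (LK LD1_c18 LD2_c25 LD3_c8)) :=
  Lgr Lrot42 (Lpr_df (f594704 IH) (Lpn (LP (LK LD1_c18 LD2_c25 LD3_c8))))
theorem f932583 : Led Lsl_df (LP (LK LD1_c10 LD2_c6 LD3_c41)) = v42156 :=
  Lgr Lrot38 (Lpr_dt (f932581 IH) (Lpn v42156))
def v42153 : LQ := Led Lsl_gf (LP (LK LD1_c10 LD2_c6 LD3_c41))
theorem f932572 : Led Lsl_gf (LP (LK LD1_c10 LD2_c6 LD3_c41)) = v42153 :=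
  Lrfl
theorem f932588 : (LP (LK LD1_c18 LD2_c25 LD3_c8)) = v42153 :=
  (Llr Lrot171 (Lpe (f594706 IH) (Lpr_gf (f600390 IH) (Lpe (f594777 IH) (Lpr_dt (f932039 IH) (Lpe (f932042 IH) (Lpr_df (f932148 IH) (Lpe (f932149 IH) (Lpr_gf (K55.f711792 IH) (Lpr_ef (f932584 IH) (Lpe (f932583 IH) (Lpr_gf (f932572 IH) (Lpn v42153))))))))))))).symm
theorem f932589 : Led Lsl_gt (LP (LK LD1_c18 LD2_c25 LD3_c8)) = (LP (LK LD1_c10 LD2_c6 LD3_c41)) :=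
  Leop (Lpr_gf (f932572 IH) (Lpq (f932588 IH) (Lpn (LP (LK LD1_c18 LD2_c25 LD3_c8)))))
theorem seed_2596 : LEOK LG_g (LK LD1_c18 LD2_c25 LD3_c8) :=
  Leoe_g (LK LD1_c18 LD2_c25 LD3_c8) (f932589 IH)
def v42161 : LQ := Led Lsl_ct (LP (LK LD1_c10 LD2_c6 LD3_c44))
theorem f932605 : Led Lsl_ct (LP (LK LD1_c10 LD2_c6 LD3_c44)) = v42161 :=
  Lrfl
theorem f151787 : Led Lsl_gt (LP (LK LD1_c10 LD2_c6 LD3_c44)) = (LP (LK LD1_c5 LD2_c8 LD3_c5)) :=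
  Lre_g IH (LK LD1_c10 LD2_c6 LD3_c44) (LK LD1_c5 LD2_c8 LD3_c5) Lrfl Lrfl
theorem f881514 : Led Lsl_gf (LP (LK LD1_c10 LD2_c6 LD3_c44)) = K67.v35981 :=
  Lgr Lrot47 (Lpr_gt (f151787 IH) (Lpr_af (K72.f548561 IH) (Lpr_ff (K72.f881507 IH) (Lpn K67.v35981))))
theorem f751917 : Led Lsl_ft K71.v5149 = K71.v16833 :=
  Lgr Lrot48 (Lpr_ff (K71.f751915 IH) (Lpn K71.v16833))
theorem f823131 : Led Lsl_at K71.v16833 = K71.v24260 :=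
  Lgr Lrot66 (Lpe (f751917 IH) (Lpe (K72.f646228 IH) (Lpr_ff (K72.f823129 IH) (Lpn K71.v24260))))
theorem f826603 : Led Lsl_gf K71.v24260 = K72.v25022 :=
  Lgr Lrot76 (Lpe (f823131 IH) (Lpe (f751917 IH) (Lpr_gt (K72.f826602 IH) (Lpn K72.v25022))))
theorem f618614 : Led Lsl_bt (LP (LK LD1_c11 LD2_c58 LD3_c3)) = (LP (LK LD1_c6 LD2_c8 LD3_c1)) :=
  Lre_b IH (LK LD1_c11 LD2_c58 LD3_c3) (LK LD1_c6 LD2_c8 LD3_c1) Lrfl Lrfl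
theorem f557552 : Led Lsl_et (LP (LK LD1_c11 LD2_c25 LD3_c46)) = (LP (LK LD1_c20 LD2_c23 LD3_c16)) :=
  Lre_e IH (LK LD1_c11 LD2_c25 LD3_c46) (LK LD1_c20 LD2_c23 LD3_c16) Lrfl Lrfl
theorem f545577 : Led Lsl_et (LP (LK LD1_c11 LD2_c58 LD3_c3)) = (LP (LK LD1_c6 LD2_c7 LD3_c61)) :=
  Lre_e IH (LK LD1_c11 LD2_c58 LD3_c3) (LK LD1_c6 LD2_c7 LD3_c61) Lrfl Lrfl
theorem f557553 : Led Lsl_ct (LP (LK LD1_c20 LD2_c23 LD3_c16)) = (LP (LK LD1_c11 LD2_c58 LD3_c3)) :=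
  Lgr Lrot15 (Lpe (f557552 IH) (Lpr_cf (K40.f557541 IH) (Lpe (f545577 IH) (Lpn (LP (LK LD1_c11 LD2_c58 LD3_c3))))))
theorem f618615 : Led Lsl_cf (LP (LK LD1_c20 LD2_c23 LD3_c16)) = (LP (LK LD1_c11 LD2_c58 LD3_c3)) :=
  Lgr Lrot11 (Lpr_ct (f557553 IH) (Lpn (LP (LK LD1_c11 LD2_c58 LD3_c3))))
theorem f932607 : Led Lsl_gf (LP (LK LD1_c20 LD2_c23 LD3_c16)) = v42161 :=
  Lgr Lrot129 (Lpr_cf (f618615 IH) (Lpr_bt (f618614 IH) (Lpr_gt (K70.f539658 IH) (Lpq (K72.f924580 IH) (Lpe (K72.f752296 IH) (Lpr_ct (K72.f752298 IH) (Lpqs (K72.f925034 IH) (Lpe (f826603 IH) (Lpe (K72.f823132 IH) (Lpr_bt (K72.f881511 IH) (Lpe (f881514 IH) (Lpr_ct (f932605 IH) (Lpn v42161)))))))))))))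
theorem f595050 : Led Lsl_et (LP (LK LD1_c20 LD2_c1 LD3_c41)) = (LP (LK LD1_c29 LD2_c15 LD3_c4)) :=
  Lre_e IH (LK LD1_c20 LD2_c1 LD3_c41) (LK LD1_c29 LD2_c15 LD3_c4) Lrfl Lrfl
theorem f595051 : Led Lsl_cf (LP (LK LD1_c20 LD2_c17 LD3_c54)) = (LP (LK LD1_c29 LD2_c15 LD3_c4)) :=
  Lgr Lrot39 (Lpr_et (K71.f539588 IH) (Lpr_ct (K45.f594979 IH) (Lpr_et (f595050 IH) (Lpn (LP (LK LD1_c29 LD2_c15 LD3_c4))))))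
theorem f881512 : Led Lsl_dt (LP (LK LD1_c11 LD2_c51 LD3_c48)) = K67.v35981 :=
  Lgr Lrot60 (Lpe (K53.f172099 IH) (Lpr_df (K38.f172073 IH) (Lpr_ff (K72.f881507 IH) (Lpn K67.v35981))))
theorem f151776 : Led Lsl_gt (LP (LK LD1_c16 LD2_c59 LD3_c2)) = (LP (LK LD1_c9 LD2_c6 LD3_c51)) :=
  Lre_g IH (LK LD1_c16 LD2_c59 LD3_c2) (LK LD1_c9 LD2_c6 LD3_c51) Lrfl Lrfl
theorem f548579 : Led Lsl_gf (LP (LK LD1_c16 LD2_c59 LD3_c2)) = (LP (LK LD1_c11 LD2_c51 LD3_c48)) :=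
  Lgr Lrot47 (Lpr_gt (f151776 IH) (Lpr_af (K38.f548565 IH) (Lpe (K38.f172098 IH) (Lpn (LP (LK LD1_c11 LD2_c51 LD3_c48))))))
theorem f151777 : Led Lsl_ct (LP (LK LD1_c16 LD2_c59 LD3_c2)) = (LP (LK LD1_c26 LD2_c54 LD3_c51)) :=
  Lre_c IH (LK LD1_c16 LD2_c59 LD3_c2) (LK LD1_c26 LD2_c54 LD3_c51) Lrfl Lrfl
theorem f932608 : Led Lsl_gf (LP (LK LD1_c29 LD2_c15 LD3_c4)) = (LP (LK LD1_c26 LD2_c54 LD3_c51)) :=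
  Lgr Lrot104 (Lpe (f595051 IH) (Lpr_df (K71.f545581 IH) (Lpe (f557553 IH) (Lpr_gf (f932607 IH) (Lpe (f932605 IH) (Lpr_gf (f881514 IH) (Lpe (f881512 IH) (Lpe (f548579 IH) (Lpr_ct (f151777 IH) (Lpn (LP (LK LD1_c26 LD2_c54 LD3_c51))))))))))))
theorem f932609 : Led Lsl_gt (LP (LK LD1_c26 LD2_c54 LD3_c51)) = (LP (LK LD1_c29 LD2_c15 LD3_c4)) :=
  Leop (Lpr_gf (f932608 IH) (Lpn (LP (LK LD1_c26 LD2_c54 LD3_c51))))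
theorem seed_2597 : LEOK LG_g (LK LD1_c26 LD2_c54 LD3_c51) :=
  Leoe_g (LK LD1_c26 LD2_c54 LD3_c51) (f932609 IH)
def v42183 : LQ := Led Lsl_bt (LP (LK LD1_c10 LD2_c6 LD3_c59))
theorem f932735 : Led Lsl_bt (LP (LK LD1_c10 LD2_c6 LD3_c59)) = v42183 :=
  Lrfl
theorem f932737 : Led Lsl_bf (LP (LK LD1_c10 LD2_c6 LD3_c59)) = v42183 :=
  Lgr Lrot24 (Lpr_bt (f932735 IH) (Lpn v42183))
def v42173 : LQ := Led Lsl_gf (LP (LK LD1_c10 LD2_c6 LD3_c54))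
theorem f932678 : Led Lsl_gf (LP (LK LD1_c10 LD2_c6 LD3_c54)) = v42173 :=
  Lrfl
def v42172 : LQ := Led Lsl_gt (LP (LK LD1_c10 LD2_c6 LD3_c54))
theorem f932668 : Led Lsl_gt (LP (LK LD1_c10 LD2_c6 LD3_c54)) = v42172 :=
  Lrfl
theorem f177304 : Led Lsl_et (LP (LK LD1_c5 LD2_c8 LD3_c11)) = (LP (LK LD1_c10 LD2_c6 LD3_c54)) :=
  Lre_e IH (LK LD1_c5 LD2_c8 LD3_c11) (LK LD1_c10 LD2_c6 LD3_c54) Lrfl Lrfl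
theorem f249935 : Led Lsl_gt (LP (LK LD1_c2 LD2_c30 LD3_c60)) = (LP (LK LD1_c5 LD2_c7 LD3_c20)) :=
  Lre_g IH (LK LD1_c2 LD2_c30 LD3_c60) (LK LD1_c5 LD2_c7 LD3_c20) Lrfl Lrfl
theorem f592664 : Led Lsl_dt (LP (LK LD1_c5 LD2_c7 LD3_c20)) = (LP (LK LD1_c4 LD2_c7 LD3_c11)) :=
  Lgr Lrot105 (Lpe (f249935 IH) (Lpe (K43.f308504 IH) (Lpe (K36.f53240 IH) (Lpe (K36.f53308 IH) (Lpr_gt (K43.f427949 IH) (Lpr_dt (K45.f427952 IH) (Lpr_gt (K45.f592662 IH) (Lpr_dt (K50.f503131 IH) (Lpr_cf (K42.f569434 IH) (Lpn (LP (LK LD1_c4 LD2_c7 LD3_c11))))))))))))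
def v42026 : LQ := Led Lsl_gf (LP (LK LD1_c10 LD2_c5 LD3_c13))
theorem f931919 : Led Lsl_gf (LP (LK LD1_c10 LD2_c5 LD3_c13)) = v42026 :=
  Lrfl
theorem f597843 : Led Lsl_dt (LP (LK LD1_c10 LD2_c5 LD3_c13)) = (LP (LK LD1_c5 LD2_c7 LD3_c23)) :=
  Lre_d IH (LK LD1_c10 LD2_c5 LD3_c13) (LK LD1_c5 LD2_c7 LD3_c23) Lrfl Lrfl
theorem f406589 : Led Lsl_et (LP (LK LD1_c2 LD2_c30 LD3_c60)) = (LP (LK LD1_c5 LD2_c7 LD3_c23)) :=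
  Lre_e IH (LK LD1_c2 LD2_c30 LD3_c60) (LK LD1_c5 LD2_c7 LD3_c23) Lrfl Lrfl
theorem f722219 : Led Lsl_ct (LP (LK LD1_c5 LD2_c7 LD3_c23)) = K72.v14366 :=
  Lgr Lrot15 (Lpe (f406589 IH) (Lpe (K32.f194047 IH) (Lpr_ef (K72.f722217 IH) (Lpn K72.v14366))))
theorem f931920 : Led Lsl_dt (LP (LK LD1_c10 LD2_c45 LD3_c40)) = v42026 :=
  Lgr Lrot57 (Lpe (K71.f412200 IH) (Lpe (K71.f195580 IH) (Lpr_gt (K72.f168218 IH) (Lpr_dt (K72.f727277 IH) (Lpqs (K72.f924352 IH) (Lpr_gt (K72.f723151 IH) (Lpe (K72.f723149 IH) (Lpe (f722219 IH) (Lpe (f597843 IH) (Lpr_gf (f931919 IH) (Lpn v42026)))))))))))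
theorem f932671 : Led Lsl_et (LP (LK LD1_c10 LD2_c45 LD3_c40)) = v42172 :=
  Lgr Lrot122 (Lpr_dt (f931920 IH) (Lpe (f931919 IH) (Lpe (f600818 IH) (Lpr_et (K72.f308610 IH) (Lpr_gt (f249935 IH) (Lpr_dt (f592664 IH) (Lpe (K56.f569448 IH) (Lpr_df (K36.f177291 IH) (Lpr_et (f177304 IH) (Lpr_gt (f932668 IH) (Lpn v42172)))))))))))
theorem f932674 : Led Lsl_ef (LP (LK LD1_c10 LD2_c45 LD3_c40)) = v42172 :=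
  Lgr Lrot88 (Lpr_et (f932671 IH) (Lpn v42172))
theorem f926390 : Led Lsl_ft K72.v41398 = (LP (LK LD1_c18 LD2_c32 LD3_c34)) :=
  Lgr Lrot48 (Lpr_ff (K72.f926387 IH) (Lpn (LP (LK LD1_c18 LD2_c32 LD3_c34))))
theorem f925796 : Led Lsl_bt (LP (LK LD1_c11 LD2_c58 LD3_c8)) = K72.v41398 :=
  Lgr Lrot127 (Lpr_bf (K72.f925795 IH) (Lpn K72.v41398))
theorem f926391 : Led Lsl_ff (LP (LK LD1_c11 LD2_c58 LD3_c8)) = (LP (LK LD1_c10 LD2_c45 LD3_c40)) :=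
  Lgr Lrot25 (Lpr_bt (f925796 IH) (Lpr_ft (f926390 IH) (Lpe (K71.f618629 IH) (Lpn (LP (LK LD1_c10 LD2_c45 LD3_c40))))))
theorem f412183 : Led Lsl_ft (LP (LK LD1_c6 LD2_c8 LD3_c3)) = (LP (LK LD1_c5 LD2_c27 LD3_c17)) :=
  Lgr Lrot75 (Lpe (K72.f412182 IH) (Lpe (K72.f412181 IH) (Lpr_bf (K71.f412163 IH) (Lpn (LP (LK LD1_c5 LD2_c27 LD3_c17))))))
theorem f412190 : Led Lsl_ff (LP (LK LD1_c6 LD2_c8 LD3_c3)) = (LP (LK LD1_c5 LD2_c27 LD3_c17)) :=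
  Lgr Lrot3 (Lpr_ft (f412183 IH) (Lpn (LP (LK LD1_c5 LD2_c27 LD3_c17))))
theorem f412195 : Led Lsl_at (LP (LK LD1_c6 LD2_c8 LD3_c3)) = (LP (LK LD1_c11 LD2_c58 LD3_c10)) :=
  Lre_a IH (LK LD1_c6 LD2_c8 LD3_c3) (LK LD1_c11 LD2_c58 LD3_c10) Lrfl Lrfl
theorem f412201 : Led Lsl_gf (LP (LK LD1_c11 LD2_c58 LD3_c10)) = (LP (LK LD1_c10 LD2_c45 LD3_c40)) :=
  Lgr Lrot76 (Lpe (f412195 IH) (Lpr_ff (f412190 IH) (Lpr_gt (K71.f412200 IH) (Lpn (LP (LK LD1_c10 LD2_c45 LD3_c40))))))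
def v14924 : LQ := Led Lsl_gf (LP (LK LD1_c5 LD2_c27 LD3_c17))
theorem f727294 : Led Lsl_gf (LP (LK LD1_c5 LD2_c27 LD3_c17)) = v14924 :=
  Lrfl
theorem f412178 : Led Lsl_at (LP (LK LD1_c10 LD2_c45 LD3_c35)) = (LP (LK LD1_c5 LD2_c27 LD3_c17)) :=
  Lre_a IH (LK LD1_c10 LD2_c45 LD3_c35) (LK LD1_c5 LD2_c27 LD3_c17) Lrfl Lrfl
theorem f8914 : Led Lsl_ff (LP (LK LD1_c10 LD2_c45 LD3_c35)) = (LP (LK LD1_c11 LD2_c58 LD3_c10)) :=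
  Lgr Lrot23 (Lpr_ct (f8860 IH) (Lpr_ft (K0.f8881 IH) (Lpr_ct (f8894 IH) (Lpn (LP (LK LD1_c11 LD2_c58 LD3_c10))))))
theorem f727295 : Led Lsl_gt (LP (LK LD1_c11 LD2_c58 LD3_c10)) = v14924 :=
  Lgr Lrot5 (Lpe (f8914 IH) (Lpr_at (f412178 IH) (Lpr_gf (f727294 IH) (Lpn v14924))))
theorem f926393 : Led Lsl_at (LP (LK LD1_c11 LD2_c58 LD3_c8)) = v14924 :=
  Lgr Lrot26 (Lpr_ff (f926391 IH) (Lpe (f412201 IH) (Lpr_gt (f727295 IH) (Lpn v14924))))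
theorem f926394 : Led Lsl_af (LP (LK LD1_c11 LD2_c58 LD3_c8)) = v14924 :=
  Lgr Lrot0 (Lpr_at (f926393 IH) (Lpn v14924))
theorem f926395 : Led Lsl_ft (LP (LK LD1_c11 LD2_c58 LD3_c9)) = v14924 :=
  Lgr Lrot2 (Lpr_gt (f8986 IH) (Lpr_gt (K72.f387133 IH) (Lpr_af (f926394 IH) (Lpn v14924))))
theorem f926396 : Led Lsl_af (LP (LK LD1_c11 LD2_c58 LD3_c9)) = (LP (LK LD1_c10 LD2_c45 LD3_c40)) :=
  Lgr Lrot45 (Lpr_ft (f926395 IH) (Lpe (f926394 IH) (Lpr_ft (K72.f926388 IH) (Lpn (LP (LK LD1_c10 LD2_c45 LD3_c40))))))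
theorem f932675 : Led Lsl_at (LP (LK LD1_c10 LD2_c6 LD3_c58)) = v42172 :=
  Lgr Lrot80 (Lpe (f931933 IH) (Lpr_af (f926396 IH) (Lpr_ef (f932674 IH) (Lpn v42172))))
theorem f932680 : Led Lsl_ff (LP (LK LD1_c10 LD2_c6 LD3_c58)) = v42173 :=
  Lgr Lrot52 (Lpr_at (f932675 IH) (Lpe (f932668 IH) (Lpr_gf (f932678 IH) (Lpn v42173))))
theorem f926398 : Led Lsl_ff (LP (LK LD1_c11 LD2_c58 LD3_c9)) = v14924 :=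
  Lgr Lrot3 (Lpr_ft (f926395 IH) (Lpn v14924))
theorem f926399 : Led Lsl_at (LP (LK LD1_c11 LD2_c58 LD3_c9)) = (LP (LK LD1_c10 LD2_c45 LD3_c40)) :=
  Lgr Lrot66 (Lpr_ff (f926398 IH) (Lpe (f926393 IH) (Lpr_ff (f926391 IH) (Lpn (LP (LK LD1_c10 LD2_c45 LD3_c40))))))
theorem f931935 : Led Lsl_ef (LP (LK LD1_c11 LD2_c58 LD3_c9)) = (LP (LK LD1_c10 LD2_c6 LD3_c58)) :=
  Lgr Lrot88 (Lpr_et (f931933 IH) (Lpn (LP (LK LD1_c10 LD2_c6 LD3_c58))))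
theorem f932672 : Led Lsl_af (LP (LK LD1_c10 LD2_c6 LD3_c58)) = v42172 :=
  Lgr Lrot50 (Lpe (f931935 IH) (Lpr_at (f926399 IH) (Lpr_et (f932671 IH) (Lpn v42172))))
theorem f165777 : Led Lsl_gt (LP (LK LD1_c10 LD2_c6 LD3_c59)) = (LP (LK LD1_c5 LD2_c8 LD3_c13)) :=
  Lre_g IH (LK LD1_c10 LD2_c6 LD3_c59) (LK LD1_c5 LD2_c8 LD3_c13) Lrfl Lrfl
theorem f932676 : Led Lsl_ft (LP (LK LD1_c10 LD2_c6 LD3_c59)) = v42172 :=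
  Lgr Lrot2 (Lpr_gt (f165777 IH) (Lpr_gt (f165762 IH) (Lpr_af (f932672 IH) (Lpn v42172))))
theorem f932677 : Led Lsl_ff (LP (LK LD1_c10 LD2_c6 LD3_c59)) = v42172 :=
  Lgr Lrot3 (Lpr_ft (f932676 IH) (Lpn v42172))
theorem f932685 : Led Lsl_at (LP (LK LD1_c10 LD2_c6 LD3_c59)) = v42173 :=
  Lgr Lrot66 (Lpr_ff (f932677 IH) (Lpe (f932675 IH) (Lpr_ff (f932680 IH) (Lpn v42173))))
theorem f541263 : Led Lsl_dt (LP (LK LD1_c11 LD2_c28 LD3_c24)) = (LP (LK LD1_c10 LD2_c6 LD3_c54)) :=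
  Lgr Lrot77 (Lpe (K53.f209998 IH) (Lpe (K31.f210004 IH) (Lpr_ef (K36.f541261 IH) (Lpr_df (K36.f177291 IH) (Lpe (K36.f177303 IH) (Lpn (LP (LK LD1_c10 LD2_c6 LD3_c54))))))))
theorem f210007 : Led Lsl_et (LP (LK LD1_c11 LD2_c28 LD3_c24)) = (LP (LK LD1_c5 LD2_c49 LD3_c59)) :=
  Lre_e IH (LK LD1_c11 LD2_c28 LD3_c24) (LK LD1_c5 LD2_c49 LD3_c59) Lrfl Lrfl
def v40916 : LQ := Led Lsl_et (LP (LK LD1_c9 LD2_c48 LD3_c61))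
theorem f921115 : Led Lsl_et (LP (LK LD1_c9 LD2_c48 LD3_c61)) = v40916 :=
  Lrfl
theorem f921117 : Led Lsl_ef (LP (LK LD1_c9 LD2_c48 LD3_c61)) = v40916 :=
  Lgr Lrot88 (Lpr_et (f921115 IH) (Lpn v40916))
theorem f932681 : Led Lsl_dt v40916 = v42173 :=
  Lgr Lrot136 (Lpe (f921117 IH) (Lpq (K57.f764225 IH) (Lpe (K57.f744248 IH) (Lpe (K54.f26514 IH) (Lpr_dt (K8.f163324 IH) (Lpe (K8.f158158 IH) (Lpe (K8.f138880 IH) (Lpe (K32.f496584 IH) (Lpe (f210007 IH) (Lpr_dt (f541263 IH) (Lpr_gf (f932678 IH) (Lpn v42173))))))))))))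
theorem f921118 : Led Lsl_bt K71.v14123 = v40916 :=
  Lgr Lrot119 (Lpe (K71.f719125 IH) (Lpe (K54.f40307 IH) (Lpr_ef (f921117 IH) (Lpn v40916))))
theorem f932682 : Led Lsl_bf K71.v12368 = v42173 :=
  Lgr Lrot93 (Lpr_dt (K71.f719128 IH) (Lpr_bt (f921118 IH) (Lpr_dt (f932681 IH) (Lpn v42173))))
theorem f843674 : Led Lsl_at K71.v12368 = K71.v14144 :=
  Lgr Lrot100 (Lpr_af (K71.f843673 IH) (Lpn K71.v14144))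
def v40992 : LQ := Led Lsl_dt (LP (LK LD1_c9 LD2_c50 LD3_c17))
theorem f921474 : Led Lsl_dt (LP (LK LD1_c9 LD2_c50 LD3_c17)) = v40992 :=
  Lrfl
theorem f921476 : Led Lsl_df (LP (LK LD1_c9 LD2_c50 LD3_c17)) = v40992 :=
  Lgr Lrot38 (Lpr_dt (f921474 IH) (Lpn v40992))
theorem f921478 : Led Lsl_bt K71.v14144 = v40992 :=
  Lgr Lrot95 (Lpe (K71.f720504 IH) (Lpe (K46.f415936 IH) (Lpr_df (f921476 IH) (Lpn v40992))))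
theorem f932740 : Led Lsl_at v40992 = v42183 :=
  Lgr Lrot67 (Lpe (f921478 IH) (Lpe (f843674 IH) (Lpr_bf (f932682 IH) (Lpe (f932685 IH) (Lpr_bf (f932737 IH) (Lpn v42183))))))
theorem f116888 : Led Lsl_et (LP (LK LD1_c17 LD2_c4 LD3_c23)) = (LP (LK LD1_c9 LD2_c10 LD3_c59)) :=
  Lre_e IH (LK LD1_c17 LD2_c4 LD3_c23) (LK LD1_c9 LD2_c10 LD3_c59) Lrfl Lrfl
theorem f720492 : Led Lsl_ff (LP (LK LD1_c4 LD2_c59 LD3_c56)) = K53.v14142 :=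
  Lgr Lrot3 (Lpr_ft (K53.f720489 IH) (Lpn K53.v14142))
theorem f415774 : Led Lsl_dt (LP (LK LD1_c4 LD2_c59 LD3_c56)) = (LP (LK LD1_c2 LD2_c27 LD3_c44)) :=
  Lre_d IH (LK LD1_c4 LD2_c59 LD3_c56) (LK LD1_c2 LD2_c27 LD3_c44) Lrfl Lrfl
theorem f720499 : Led Lsl_dt K53.v4552 = K53.v14142 :=
  Lgr Lrot60 (Lpe (K53.f636087 IH) (Lpe (f415774 IH) (Lpr_ff (f720492 IH) (Lpn K53.v14142))))
theorem f843648 : K53.v14142 = (LP (LK LD1_c9 LD2_c49 LD3_c2)) :=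
  Lefun (Lecon (f720499 IH) (K66.f843637 IH)) (K50.f77379 IH)
theorem f843716 : Led Lsl_ff (LP (LK LD1_c9 LD2_c50 LD3_c16)) = (LP (LK LD1_c17 LD2_c6 LD3_c8)) :=
  Lgr Lrot25 (Lpr_bt (K57.f642494 IH) (Lpr_ft (K53.f720489 IH) (Lpqs (f843648 IH) (Lpe (K50.f140157 IH) (Lpn (LP (LK LD1_c17 LD2_c6 LD3_c8)))))))
theorem f642498 : Led Lsl_dt (LP (LK LD1_c18 LD2_c1 LD3_c17)) = (LP (LK LD1_c27 LD2_c43 LD3_c37)) :=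
  Lre_d IH (LK LD1_c18 LD2_c1 LD3_c17) (LK LD1_c27 LD2_c43 LD3_c37) Lrfl Lrfl
theorem f755922 : Led Lsl_ft (LP (LK LD1_c26 LD2_c59 LD3_c29)) = (LP (LK LD1_c18 LD2_c1 LD3_c17)) :=
  Lgr Lrot54 (Lpr_df (K60.f711674 IH) (Lpr_ff (K60.f755920 IH) (Lpe (f642498 IH) (Lpn (LP (LK LD1_c18 LD2_c1 LD3_c17))))))
theorem f755806 : Led Lsl_df (LP (LK LD1_c26 LD2_c54 LD3_c3)) = (LP (LK LD1_c24 LD2_c53 LD3_c43)) :=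
  Lgr Lrot38 (Lpr_dt (K60.f755798 IH) (Lpn (LP (LK LD1_c24 LD2_c53 LD3_c43))))
theorem f755808 : Led Lsl_at (LP (LK LD1_c18 LD2_c1 LD3_c17)) = (LP (LK LD1_c24 LD2_c53 LD3_c43)) :=
  Lgr Lrot51 (Lpe (K57.f415831 IH) (Lpr_af (K57.f719769 IH) (Lpr_df (f755806 IH) (Lpn (LP (LK LD1_c24 LD2_c53 LD3_c43))))))
theorem f756004 : Led Lsl_gt (LP (LK LD1_c17 LD2_c6 LD3_c8)) = (LP (LK LD1_c24 LD2_c53 LD3_c43)) :=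
  Lgr Lrot46 (Lpr_gf (K60.f756002 IH) (Lpr_ft (f755922 IH) (Lpr_at (f755808 IH) (Lpn (LP (LK LD1_c24 LD2_c53 LD3_c43))))))
theorem f843722 : Led Lsl_at (LP (LK LD1_c9 LD2_c50 LD3_c16)) = (LP (LK LD1_c17 LD2_c5 LD3_c61)) :=
  Lgr Lrot26 (Lpr_ff (f843716 IH) (Lpr_gt (f756004 IH) (Lpe (K60.f755993 IH) (Lpn (LP (LK LD1_c17 LD2_c5 LD3_c61))))))
theorem f843726 : K53.v14134 = (LP (LK LD1_c9 LD2_c12 LD3_c1)) :=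
  (Llr Lrot117 (Lpe (K53.f719321 IH) (Lpr_dt (K55.f415965 IH) (Lpr_at (f843722 IH) (Lpr_dt (K60.f642627 IH) (Lpn (LP (LK LD1_c9 LD2_c12 LD3_c1)))))))).symm
theorem f843733 : (LP (LK LD1_c9 LD2_c10 LD3_c60)) = K50.v13032 :=
  (Llr Lrot108 (Lpr_ct (K52.f642382 IH) (Lpr_ft (K53.f719322 IH) (Lpqs (f843726 IH) (Lpr_ct (K54.f80090 IH) (Lpr_ft (K50.f700607 IH) (Lpn K50.v13032))))))).symm
theorem f642426 : Led Lsl_dt (LP (LK LD1_c9 LD2_c10 LD3_c60)) = (LP (LK LD1_c17 LD2_c4 LD3_c25)) :=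
  Lre_d IH (LK LD1_c9 LD2_c10 LD3_c60) (LK LD1_c17 LD2_c4 LD3_c25) Lrfl Lrfl
theorem f843738 : Led Lsl_ff (LP (LK LD1_c9 LD2_c12 LD3_c2)) = (LP (LK LD1_c17 LD2_c4 LD3_c25)) :=
  Lgr Lrot19 (Lpr_dt (K60.f642626 IH) (Lpr_ft (K50.f700607 IH) (Lpq (f843733 IH) (Lpr_dt (f642426 IH) (Lpn (LP (LK LD1_c17 LD2_c4 LD3_c25)))))))
theorem f644410 : Led Lsl_df (LP (LK LD1_c26 LD2_c52 LD3_c10)) = (LP (LK LD1_c26 LD2_c58 LD3_c42)) :=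
  Lgr Lrot78 (Lpr_ft (K45.f644401 IH) (Lpr_dt (K45.f100000 IH) (Lpe (K60.f642606 IH) (Lpn (LP (LK LD1_c26 LD2_c58 LD3_c42))))))
theorem f644797 : Led Lsl_gf (LP (LK LD1_c26 LD2_c58 LD3_c42)) = (LP (LK LD1_c17 LD2_c4 LD3_c25)) :=
  Lgr Lrot143 (Lpe (f644410 IH) (Lpe (K45.f140535 IH) (Lpe (K45.f140547 IH) (Lpr_gf (K69.f644793 IH) (Lpe (K55.f415968 IH) (Lpe (K24.f415559 IH) (Lpe (K51.f415833 IH) (Lpr_gt (K52.f501010 IH) (Lpr_dt (f642426 IH) (Lpn (LP (LK LD1_c17 LD2_c4 LD3_c25))))))))))))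
theorem f843744 : Led Lsl_at (LP (LK LD1_c9 LD2_c12 LD3_c2)) = (LP (LK LD1_c17 LD2_c4 LD3_c22)) :=
  Lgr Lrot26 (Lpr_ff (f843738 IH) (Lpe (f644797 IH) (Lpr_gt (K57.f415829 IH) (Lpn (LP (LK LD1_c17 LD2_c4 LD3_c22))))))
theorem f843752 : K50.v13031 = (LP (LK LD1_c9 LD2_c10 LD3_c59)) :=
  (Llr Lrot117 (Lpe (K50.f700603 IH) (Lpr_dt (K45.f99998 IH) (Lpr_at (f843744 IH) (Lpr_dt (K57.f415828 IH) (Lpn (LP (LK LD1_c9 LD2_c10 LD3_c59)))))))).symm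
theorem f843775 : Led Lsl_af (LP (LK LD1_c17 LD2_c4 LD3_c23)) = (LP (LK LD1_c9 LD2_c12 LD3_c3)) :=
  Lgr Lrot50 (Lpr_et (f116888 IH) (Lpq (f843752 IH) (Lpe (K50.f700603 IH) (Lpr_et (K69.f100017 IH) (Lpn (LP (LK LD1_c9 LD2_c12 LD3_c3)))))))
theorem f621238 : Led Lsl_ct (LP (LK LD1_c17 LD2_c6 LD3_c0)) = (LP (LK LD1_c9 LD2_c12 LD3_c3)) :=
  Lre_c IH (LK LD1_c17 LD2_c6 LD3_c0) (LK LD1_c9 LD2_c12 LD3_c3) Lrfl Lrfl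
theorem f843779 : Led Lsl_at (LP (LK LD1_c9 LD2_c50 LD3_c17)) = (LP (LK LD1_c17 LD2_c6 LD3_c0)) :=
  Lgr Lrot107 (Lpe (K46.f415825 IH) (Lpr_af (f843775 IH) (Lpe (f621238 IH) (Lpn (LP (LK LD1_c17 LD2_c6 LD3_c0))))))
theorem f843785 : Led Lsl_af (LP (LK LD1_c9 LD2_c50 LD3_c17)) = (LP (LK LD1_c17 LD2_c6 LD3_c0)) :=
  Lgr Lrot0 (Lpr_at (f843779 IH) (Lpn (LP (LK LD1_c17 LD2_c6 LD3_c0))))
theorem f932741 : Led Lsl_df (LP (LK LD1_c17 LD2_c6 LD3_c0)) = v42183 :=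
  Lgr Lrot18 (Lpe (f843785 IH) (Lpr_dt (f921474 IH) (Lpr_at (f932740 IH) (Lpn v42183))))
theorem f99963 : Led Lsl_dt (LP (LK LD1_c17 LD2_c6 LD3_c6)) = (LP (LK LD1_c9 LD2_c12 LD3_c3)) :=
  Lre_d IH (LK LD1_c17 LD2_c6 LD3_c6) (LK LD1_c9 LD2_c12 LD3_c3) Lrfl Lrfl
def v38774 : LQ := Led Lsl_ft (LP (LK LD1_c9 LD2_c15 LD3_c29))
theorem f904411 : Led Lsl_ft (LP (LK LD1_c9 LD2_c15 LD3_c29)) = v38774 :=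
  Lrfl
theorem f904414 : Led Lsl_ff (LP (LK LD1_c9 LD2_c15 LD3_c29)) = v38774 :=
  Lgr Lrot3 (Lpr_ft (f904411 IH) (Lpn v38774))
theorem f100102 : Led Lsl_dt (LP (LK LD1_c9 LD2_c15 LD3_c29)) = (LP (LK LD1_c4 LD2_c39 LD3_c61)) :=
  Lre_d IH (LK LD1_c9 LD2_c15 LD3_c29) (LK LD1_c4 LD2_c39 LD3_c61) Lrfl Lrfl
theorem f100116 : Led Lsl_at (LP (LK LD1_c17 LD2_c3 LD3_c3)) = (LP (LK LD1_c9 LD2_c15 LD3_c29)) :=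
  Lgr Lrot51 (Lpe (K69.f99935 IH) (Lpr_af (K6.f100095 IH) (Lpe (f100102 IH) (Lpn (LP (LK LD1_c9 LD2_c15 LD3_c29))))))
theorem f100127 : Led Lsl_af (LP (LK LD1_c17 LD2_c3 LD3_c3)) = (LP (LK LD1_c9 LD2_c15 LD3_c29)) :=
  Lgr Lrot0 (Lpr_at (f100116 IH) (Lpn (LP (LK LD1_c9 LD2_c15 LD3_c29))))
theorem f904417 : Led Lsl_gf (LP (LK LD1_c17 LD2_c6 LD3_c6)) = v38774 :=
  Lgr Lrot47 (Lpe (K69.f99953 IH) (Lpr_af (f100127 IH) (Lpr_ff (f904414 IH) (Lpn v38774))))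
theorem f100056 : Led Lsl_ft (LP (LK LD1_c4 LD2_c39 LD3_c61)) = (LP (LK LD1_c9 LD2_c15 LD3_c30)) :=
  Lre_f IH (LK LD1_c4 LD2_c39 LD3_c61) (LK LD1_c9 LD2_c15 LD3_c30) Lrfl Lrfl
theorem f904416 : Led Lsl_dt (LP (LK LD1_c9 LD2_c15 LD3_c30)) = v38774 :=
  Lgr Lrot60 (Lpe (f100056 IH) (Lpe (f100102 IH) (Lpr_ff (f904414 IH) (Lpn v38774))))
theorem f444271 : Led Lsl_cf (LP (LK LD1_c11 LD2_c30 LD3_c37)) = (LP (LK LD1_c17 LD2_c3 LD3_c1)) :=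
  Lgr Lrot11 (Lpr_ct (K56.f444268 IH) (Lpn (LP (LK LD1_c17 LD2_c3 LD3_c1))))
theorem f932743 : Led Lsl_gt (LP (LK LD1_c20 LD2_c22 LD3_c58)) = v42183 :=
  Lgr Lrot49 (Lpe (K51.f100313 IH) (Lpe (K56.f712517 IH) (Lpr_cf (f444271 IH) (Lpr_gt (K56.f100207 IH) (Lpr_dt (f904416 IH) (Lpe (f904417 IH) (Lpr_dt (f99963 IH) (Lpe (f621238 IH) (Lpr_df (f932741 IH) (Lpn v42183))))))))))
theorem f100323 : Led Lsl_ft (LP (LK LD1_c20 LD2_c22 LD3_c58)) = (LP (LK LD1_c11 LD2_c25 LD3_c30)) :=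
  Lre_f IH (LK LD1_c20 LD2_c22 LD3_c58) (LK LD1_c11 LD2_c25 LD3_c30) Lrfl Lrfl
theorem f100324 : Led Lsl_at (LP (LK LD1_c11 LD2_c25 LD3_c30)) = (LP (LK LD1_c20 LD2_c22 LD3_c50)) :=
  Lre_a IH (LK LD1_c11 LD2_c25 LD3_c30) (LK LD1_c20 LD2_c22 LD3_c50) Lrfl Lrfl
theorem f932744 : Led Lsl_gf (LP (LK LD1_c20 LD2_c22 LD3_c50)) = v42183 :=
  Lgr Lrot76 (Lpe (f100324 IH) (Lpe (f100323 IH) (Lpr_gt (f932743 IH) (Lpn v42183))))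
theorem f621227 : Led Lsl_ct (LP (LK LD1_c17 LD2_c9 LD3_c46)) = (LP (LK LD1_c9 LD2_c15 LD3_c11)) :=
  Lre_c IH (LK LD1_c17 LD2_c9 LD3_c46) (LK LD1_c9 LD2_c15 LD3_c11) Lrfl Lrfl
theorem f719620 : Led Lsl_ct (LP (LK LD1_c17 LD2_c6 LD3_c30)) = (LP (LK LD1_c9 LD2_c12 LD3_c27)) :=
  Lre_c IH (LK LD1_c17 LD2_c6 LD3_c30) (LK LD1_c9 LD2_c12 LD3_c27) Lrfl Lrfl
theorem f932742 : Led Lsl_dt (LP (LK LD1_c17 LD2_c6 LD3_c0)) = v42183 :=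
  Lgr Lrot42 (Lpr_df (f932741 IH) (Lpn v42183))
theorem f711530 : Led Lsl_ft (LP (LK LD1_c26 LD2_c54 LD3_c3)) = (LP (LK LD1_c16 LD2_c58 LD3_c26)) :=
  Lre_f IH (LK LD1_c26 LD2_c54 LD3_c3) (LK LD1_c16 LD2_c58 LD3_c26) Lrfl Lrfl
theorem f755644 : Led Lsl_et (LP (LK LD1_c27 LD2_c42 LD3_c55)) = (LP (LK LD1_c26 LD2_c54 LD3_c3)) :=
  Lgr Lrot69 (Lpe (K69.f755616 IH) (Lpe (K52.f700534 IH) (Lpr_ff (K57.f755640 IH) (Lpe (K55.f711498 IH) (Lpe (f711530 IH) (Lpn (LP (LK LD1_c26 LD2_c54 LD3_c3))))))))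
theorem f713518 : Led Lsl_gt (LP (LK LD1_c12 LD2_c43 LD3_c30)) = (LP (LK LD1_c12 LD2_c53 LD3_c28)) :=
  Lgr Lrot5 (Lpr_ft (K57.f499090 IH) (Lpe (K42.f499253 IH) (Lpr_gf (K60.f713516 IH) (Lpn (LP (LK LD1_c12 LD2_c53 LD3_c28))))))
theorem f713513 : Led Lsl_dt (LP (LK LD1_c20 LD2_c27 LD3_c28)) = (LP (LK LD1_c12 LD2_c53 LD3_c28)) :=
  Lgr Lrot60 (Lpe (K53.f713076 IH) (Lpe (K53.f132533 IH) (Lpr_ff (K60.f713508 IH) (Lpn (LP (LK LD1_c12 LD2_c53 LD3_c28))))))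
theorem f713569 : Led Lsl_df (LP (LK LD1_c20 LD2_c27 LD3_c28)) = (LP (LK LD1_c12 LD2_c53 LD3_c28)) :=
  Lgr Lrot38 (Lpr_dt (f713513 IH) (Lpn (LP (LK LD1_c12 LD2_c53 LD3_c28))))
theorem f905284 : Led Lsl_gt (LP (LK LD1_c20 LD2_c27 LD3_c28)) = (LP (LK LD1_c20 LD2_c22 LD3_c48)) :=
  Lgr Lrot139 (Lpr_df (f713569 IH) (Lpe (f713518 IH) (Lpe (K57.f499091 IH) (Lpr_dt (K46.f498202 IH) (Lpr_gf (K57.f499311 IH) (Lpe (K69.f82052 IH) (Lpr_et (f755644 IH) (Lpe (K60.f755995 IH) (Lpe (K71.f643217 IH) (Lpr_dt (K71.f905280 IH) (Lpn (LP (LK LD1_c20 LD2_c22 LD3_c48)))))))))))))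
theorem f713528 : Led Lsl_et (LP (LK LD1_c12 LD2_c53 LD3_c28)) = (LP (LK LD1_c22 LD2_c3 LD3_c16)) :=
  Lre_e IH (LK LD1_c12 LD2_c53 LD3_c28) (LK LD1_c22 LD2_c3 LD3_c16) Lrfl Lrfl
theorem f711680 : Led Lsl_et (LP (LK LD1_c9 LD2_c12 LD3_c1)) = (LP (LK LD1_c17 LD2_c6 LD3_c0)) :=
  Lre_e IH (LK LD1_c9 LD2_c12 LD3_c1) (LK LD1_c17 LD2_c6 LD3_c0) Lrfl Lrfl
theorem f905288 : Led Lsl_gf (LP (LK LD1_c22 LD2_c3 LD3_c16)) = (LP (LK LD1_c17 LD2_c6 LD3_c0)) :=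
  Lgr Lrot141 (Lpe (f713528 IH) (Lpe (f713569 IH) (Lpr_gt (f905284 IH) (Lpe (K71.f905280 IH) (Lpr_et (K71.f643217 IH) (Lpr_gt (K60.f755995 IH) (Lpr_dt (K60.f755798 IH) (Lpe (K60.f755993 IH) (Lpe (K60.f642692 IH) (Lpr_et (f711680 IH) (Lpn (LP (LK LD1_c17 LD2_c6 LD3_c0)))))))))))))
theorem f713563 : Led Lsl_ct (LP (LK LD1_c22 LD2_c3 LD3_c16)) = (LP (LK LD1_c12 LD2_c53 LD3_c29)) :=
  Lre_c IH (LK LD1_c22 LD2_c3 LD3_c16) (LK LD1_c12 LD2_c53 LD3_c29) Lrfl Lrfl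
theorem f932745 : Led Lsl_gf (LP (LK LD1_c17 LD2_c6 LD3_c30)) = (LP (LK LD1_c12 LD2_c53 LD3_c29)) :=
  Lgr Lrot104 (Lpr_ct (f719620 IH) (Lpe (K71.f719632 IH) (Lpe (f621227 IH) (Lpe (K69.f904251 IH) (Lpe (K43.f574439 IH) (Lpr_gf (f932744 IH) (Lpe (f932742 IH) (Lpe (f905288 IH) (Lpr_ct (f713563 IH) (Lpn (LP (LK LD1_c12 LD2_c53 LD3_c29))))))))))))
theorem f932746 : Led Lsl_gt (LP (LK LD1_c12 LD2_c53 LD3_c29)) = (LP (LK LD1_c17 LD2_c6 LD3_c30)) :=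
  Leop (Lpr_gf (f932745 IH) (Lpn (LP (LK LD1_c12 LD2_c53 LD3_c29))))
theorem seed_2598 : LEOK LG_g (LK LD1_c12 LD2_c53 LD3_c29) :=
  Leoe_g (LK LD1_c12 LD2_c53 LD3_c29) (f932746 IH)
def v42187 : LQ := Led Lsl_ct (LP (LK LD1_c10 LD2_c6 LD3_c61))
theorem f932761 : Led Lsl_ct (LP (LK LD1_c10 LD2_c6 LD3_c61)) = v42187 :=
  Lrfl
def v41036 : LQ := Led Lsl_ct (LP (LK LD1_c9 LD2_c50 LD3_c53))
theorem f921679 : Led Lsl_ct (LP (LK LD1_c9 LD2_c50 LD3_c53)) = v41036 :=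
  Lrfl
theorem f921681 : Led Lsl_cf (LP (LK LD1_c9 LD2_c50 LD3_c53)) = v41036 :=
  Lgr Lrot11 (Lpr_ct (f921679 IH) (Lpn v41036))
theorem f932764 : Led Lsl_ff v41036 = v42187 :=
  Lgr Lrot23 (Lpe (f921681 IH) (Lpr_ft (K54.f707162 IH) (Lpr_ct (f932761 IH) (Lpn v42187))))
theorem f415735 : Led Lsl_ct (LP (LK LD1_c9 LD2_c50 LD3_c54)) = (LP (LK LD1_c5 LD2_c0 LD3_c12)) :=
  Lre_c IH (LK LD1_c9 LD2_c50 LD3_c54) (LK LD1_c5 LD2_c0 LD3_c12) Lrfl Lrfl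
theorem f921680 : Led Lsl_af (LP (LK LD1_c9 LD2_c50 LD3_c54)) = v41036 :=
  Lgr Lrot68 (Lpr_ct (f415735 IH) (Lpr_at (K54.f633727 IH) (Lpr_ct (f921679 IH) (Lpn v41036))))
def v41038 : LQ := Led Lsl_gf (LP (LK LD1_c9 LD2_c50 LD3_c54))
theorem f921686 : Led Lsl_gf (LP (LK LD1_c9 LD2_c50 LD3_c54)) = v41038 :=
  Lrfl
theorem f932767 : Led Lsl_gf v41038 = v42187 :=
  Lgr Lrot47 (Lpe (f921686 IH) (Lpr_af (f921680 IH) (Lpr_ff (f932764 IH) (Lpn v42187))))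
theorem f921687 : Led Lsl_ct K56.v16548 = v41038 :=
  Lgr Lrot152 (Lpe (K56.f750343 IH) (Lpe (K56.f22161 IH) (Lpe (K50.f302691 IH) (Lpe (K52.f185714 IH) (Lpr_gt (K52.f406501 IH) (Lpe (K52.f710733 IH) (Lpe (K51.f691625 IH) (Lpe (f415735 IH) (Lpr_gf (f921686 IH) (Lpn v41038))))))))))
def v38639 : LQ := Led Lsl_gf (LP (LK LD1_c9 LD2_c13 LD3_c48))
theorem f903415 : Led Lsl_gf (LP (LK LD1_c9 LD2_c13 LD3_c48)) = v38639 :=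
  Lrfl
theorem f141865 : Led Lsl_et (LP (LK LD1_c1 LD2_c23 LD3_c17)) = (LP (LK LD1_c0 LD2_c38 LD3_c31)) :=
  Lre_e IH (LK LD1_c1 LD2_c23 LD3_c17) (LK LD1_c0 LD2_c38 LD3_c31) Lrfl Lrfl
theorem f82970 : Led Lsl_dt (LP (LK LD1_c1 LD2_c23 LD3_c17)) = (LP (LK LD1_c2 LD2_c54 LD3_c45)) :=
  Lre_d IH (LK LD1_c1 LD2_c23 LD3_c17) (LK LD1_c2 LD2_c54 LD3_c45) Lrfl Lrfl
theorem f82971 : Led Lsl_gt (LP (LK LD1_c2 LD2_c54 LD3_c45)) = (LP (LK LD1_c5 LD2_c56 LD3_c57)) :=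
  Lre_g IH (LK LD1_c2 LD2_c54 LD3_c45) (LK LD1_c5 LD2_c56 LD3_c57) Lrfl Lrfl
theorem f903418 : Led Lsl_et (LP (LK LD1_c9 LD2_c31 LD3_c36)) = v38639 :=
  Lgr Lrot121 (Lpr_dt (K51.f707299 IH) (Lpe (f82971 IH) (Lpe (f82970 IH) (Lpr_et (f141865 IH) (Lpe (K8.f71856 IH) (Lpe (K32.f161056 IH) (Lpr_dt (K42.f161039 IH) (Lpe (K52.f161058 IH) (Lpe (K52.f710713 IH) (Lpr_gf (f903415 IH) (Lpn v38639)))))))))))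
theorem f903422 : Led Lsl_ef (LP (LK LD1_c9 LD2_c31 LD3_c36)) = v38639 :=
  Lgr Lrot88 (Lpr_et (f903418 IH) (Lpn v38639))
theorem f711098 : Led Lsl_ff (LP (LK LD1_c6 LD2_c2 LD3_c29)) = (LP (LK LD1_c9 LD2_c31 LD3_c36)) :=
  Lgr Lrot19 (Lpr_dt (K45.f116986 IH) (Lpr_ft (K52.f711090 IH) (Lpe (K69.f707301 IH) (Lpn (LP (LK LD1_c9 LD2_c31 LD3_c36))))))
theorem f614600 : Led Lsl_bt (LP (LK LD1_c6 LD2_c2 LD3_c29)) = (LP (LK LD1_c9 LD2_c13 LD3_c39)) :=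
  Lgr Lrot127 (Lpr_bf (K55.f614598 IH) (Lpn (LP (LK LD1_c9 LD2_c13 LD3_c39))))
theorem f508169 : Led Lsl_ft (LP (LK LD1_c9 LD2_c13 LD3_c39)) = (LP (LK LD1_c17 LD2_c7 LD3_c61)) :=
  Lre_f IH (LK LD1_c9 LD2_c13 LD3_c39) (LK LD1_c17 LD2_c7 LD3_c61) Lrfl Lrfl
theorem f711100 : Led Lsl_bt (LP (LK LD1_c17 LD2_c7 LD3_c61)) = (LP (LK LD1_c9 LD2_c31 LD3_c36)) :=
  Lgr Lrot35 (Lpe (f508169 IH) (Lpe (f614600 IH) (Lpr_ff (f711098 IH) (Lpn (LP (LK LD1_c9 LD2_c31 LD3_c36))))))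
theorem f711102 : Led Lsl_bf (LP (LK LD1_c17 LD2_c7 LD3_c61)) = (LP (LK LD1_c9 LD2_c31 LD3_c36)) :=
  Lgr Lrot24 (Lpr_bt (f711100 IH) (Lpn (LP (LK LD1_c9 LD2_c31 LD3_c36))))
theorem f750341 : Led Lsl_et (LP (LK LD1_c17 LD2_c7 LD3_c61)) = K56.v16548 :=
  Lgr Lrot69 (Lpe (f508169 IH) (Lpe (K35.f508155 IH) (Lpe (K41.f508246 IH) (Lpe (K69.f68945 IH) (Lpr_ff (K56.f750339 IH) (Lpn K56.v16548))))))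
theorem f903424 : Led Lsl_bt K56.v16548 = v38639 :=
  Lgr Lrot119 (Lpe (f750341 IH) (Lpr_bf (f711102 IH) (Lpr_ef (f903422 IH) (Lpn v38639))))
theorem f645455 : Led Lsl_ct (LP (LK LD1_c9 LD2_c13 LD3_c48)) = (LP (LK LD1_c17 LD2_c8 LD3_c4)) :=
  Lre_c IH (LK LD1_c9 LD2_c13 LD3_c48) (LK LD1_c17 LD2_c8 LD3_c4) Lrfl Lrfl
theorem f629281 : Led Lsl_at (LP (LK LD1_c8 LD2_c0 LD3_c57)) = (LP (LK LD1_c3 LD2_c59 LD3_c56)) :=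
  Lre_a IH (LK LD1_c8 LD2_c0 LD3_c57) (LK LD1_c3 LD2_c59 LD3_c56) Lrfl Lrfl
theorem f633885 : Led Lsl_ff (LP (LK LD1_c8 LD2_c0 LD3_c57)) = (LP (LK LD1_c5 LD2_c0 LD3_c9)) :=
  Lgr Lrot30 (Lpr_at (f629281 IH) (Lpr_ft (K53.f633878 IH) (Lpr_at (K54.f495301 IH) (Lpn (LP (LK LD1_c5 LD2_c0 LD3_c9))))))
theorem f633913 : Led Lsl_bf (LP (LK LD1_c5 LD2_c0 LD3_c9)) = (LP (LK LD1_c8 LD2_c0 LD3_c52)) :=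
  Lgr Lrot61 (Lpe (f633885 IH) (Lpr_bt (K58.f633909 IH) (Lpe (K51.f633859 IH) (Lpn (LP (LK LD1_c8 LD2_c0 LD3_c52))))))
theorem f633915 : Led Lsl_bt (LP (LK LD1_c5 LD2_c0 LD3_c9)) = (LP (LK LD1_c8 LD2_c0 LD3_c52)) :=
  Lgr Lrot127 (Lpr_bf (f633913 IH) (Lpn (LP (LK LD1_c8 LD2_c0 LD3_c52))))
theorem f633902 : Led Lsl_et (LP (LK LD1_c9 LD2_c50 LD3_c53)) = (LP (LK LD1_c5 LD2_c0 LD3_c9)) :=
  Lre_e IH (LK LD1_c9 LD2_c50 LD3_c53) (LK LD1_c5 LD2_c0 LD3_c9) Lrfl Lrfl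
theorem f633864 : Led Lsl_et (LP (LK LD1_c8 LD2_c0 LD3_c52)) = (LP (LK LD1_c15 LD2_c5 LD3_c34)) :=
  Lre_e IH (LK LD1_c8 LD2_c0 LD3_c52) (LK LD1_c15 LD2_c5 LD3_c34) Lrfl Lrfl
theorem f633917 : Led Lsl_bf (LP (LK LD1_c9 LD2_c50 LD3_c53)) = (LP (LK LD1_c15 LD2_c5 LD3_c34)) :=
  Lgr Lrot96 (Lpr_et (f633902 IH) (Lpr_bt (f633915 IH) (Lpr_et (f633864 IH) (Lpn (LP (LK LD1_c15 LD2_c5 LD3_c34))))))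
theorem f713416 : Led Lsl_bt (LP (LK LD1_c10 LD2_c6 LD3_c61)) = (LP (LK LD1_c18 LD2_c25 LD3_c18)) :=
  Lgr Lrot35 (Lpe (K54.f707162 IH) (Lpr_bf (f633917 IH) (Lpr_ff (K55.f713412 IH) (Lpn (LP (LK LD1_c18 LD2_c25 LD3_c18))))))
def v35690 : LQ := Led Lsl_gt (LP (LK LD1_c8 LD2_c0 LD3_c55))
theorem f876898 : Led Lsl_gt (LP (LK LD1_c8 LD2_c0 LD3_c55)) = v35690 :=
  Lrfl
theorem f633732 : Led Lsl_ft (LP (LK LD1_c8 LD2_c0 LD3_c55)) = (LP (LK LD1_c12 LD2_c17 LD3_c48)) :=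
  Lgr Lrot75 (Lpe (K52.f79897 IH) (Lpr_ff (K51.f633730 IH) (Lpe (K55.f438616 IH) (Lpn (LP (LK LD1_c12 LD2_c17 LD3_c48))))))
theorem f713414 : Led Lsl_at (LP (LK LD1_c12 LD2_c17 LD3_c48)) = (LP (LK LD1_c18 LD2_c25 LD3_c18)) :=
  Lgr Lrot66 (Lpe (f633732 IH) (Lpe (K55.f79900 IH) (Lpr_ff (K55.f713412 IH) (Lpn (LP (LK LD1_c18 LD2_c25 LD3_c18))))))
theorem f876900 : Led Lsl_gf (LP (LK LD1_c18 LD2_c25 LD3_c18)) = v35690 :=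
  Lgr Lrot76 (Lpe (f713414 IH) (Lpe (f633732 IH) (Lpr_gt (f876898 IH) (Lpn v35690))))
theorem f755785 : Led Lsl_dt (LP (LK LD1_c16 LD2_c58 LD3_c31)) = (LP (LK LD1_c15 LD2_c5 LD3_c39)) :=
  Lgr Lrot60 (Lpe (K57.f699681 IH) (Lpe (K55.f719756 IH) (Lpr_ff (K60.f755781 IH) (Lpn (LP (LK LD1_c15 LD2_c5 LD3_c39))))))
theorem f699680 : Led Lsl_et (LP (LK LD1_c4 LD2_c34 LD3_c55)) = (LP (LK LD1_c9 LD2_c6 LD3_c34)) :=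
  Lre_e IH (LK LD1_c4 LD2_c34 LD3_c55) (LK LD1_c9 LD2_c6 LD3_c34) Lrfl Lrfl
theorem f756186 : Led Lsl_ef (LP (LK LD1_c20 LD2_c23 LD3_c13)) = (LP (LK LD1_c16 LD2_c58 LD3_c31)) :=
  Lgr Lrot21 (Lpr_ft (K70.f756178 IH) (Lpe (K7.f151717 IH) (Lpqs (K57.f755648 IH) (Lpe (K57.f699678 IH) (Lpr_et (f699680 IH) (Lpr_ft (K57.f699681 IH) (Lpn (LP (LK LD1_c16 LD2_c58 LD3_c31)))))))))
theorem f712162 : Led Lsl_et (LP (LK LD1_c5 LD2_c48 LD3_c2)) = (LP (LK LD1_c11 LD2_c25 LD3_c43)) :=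
  Lre_e IH (LK LD1_c5 LD2_c48 LD3_c2) (LK LD1_c11 LD2_c25 LD3_c43) Lrfl Lrfl
theorem f416406 : Led Lsl_gt (LP (LK LD1_c11 LD2_c25 LD3_c8)) = (LP (LK LD1_c20 LD2_c22 LD3_c39)) :=
  Lre_g IH (LK LD1_c11 LD2_c25 LD3_c8) (LK LD1_c20 LD2_c22 LD3_c39) Lrfl Lrfl
theorem f712183 : Led Lsl_gt (LP (LK LD1_c20 LD2_c22 LD3_c39)) = (LP (LK LD1_c11 LD2_c25 LD3_c42)) :=
  Lgr Lrot46 (Lpe (f416406 IH) (Lpr_ft (K55.f711798 IH) (Lpr_at (f712177 IH) (Lpn (LP (LK LD1_c11 LD2_c25 LD3_c42))))))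
theorem f876901 : Led Lsl_df (LP (LK LD1_c20 LD2_c22 LD3_c39)) = v35690 :=
  Lgr Lrot135 (Lpr_gt (f712183 IH) (Lpe (K55.f427284 IH) (Lpr_et (f712162 IH) (Lpr_gt (K70.f151600 IH) (Lpr_ef (f756186 IH) (Lpr_dt (f755785 IH) (Lpr_gt (K60.f669016 IH) (Lpe (K51.f79910 IH) (Lpr_et (K55.f79902 IH) (Lpr_gt (f876898 IH) (Lpn v35690)))))))))))
theorem f756174 : Led Lsl_dt (LP (LK LD1_c20 LD2_c23 LD3_c13)) = K57.v15845 :=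
  Lgr Lrot44 (Lpr_af (K70.f756168 IH) (Lpe (K57.f66354 IH) (Lpr_af (K57.f743871 IH) (Lpn K57.v15845))))
theorem f146033 : Led Lsl_at (LP (LK LD1_c2 LD2_c14 LD3_c15)) = (LP (LK LD1_c4 LD2_c34 LD3_c26)) :=
  Lre_a IH (LK LD1_c2 LD2_c14 LD3_c15) (LK LD1_c4 LD2_c34 LD3_c26) Lrfl Lrfl
theorem f699524 : Led Lsl_gt (LP (LK LD1_c4 LD2_c34 LD3_c35)) = K50.v12909 :=
  Lgr Lrot5 (Lpr_ft (K6.f146454 IH) (Lpr_at (f146033 IH) (Lpr_gf (K50.f699523 IH) (Lpn K50.v12909))))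
theorem f876905 : Led Lsl_ef K50.v12909 = v35690 :=
  Lgr Lrot17 (Lpe (f699524 IH) (Lpr_ef (K6.f146446 IH) (Lpr_dt (K48.f146459 IH) (Lpe (K57.f57215 IH) (Lpq (K57.f755497 IH) (Lpe (f756174 IH) (Lpe (K70.f151600 IH) (Lpe (f712162 IH) (Lpr_dt (K55.f427284 IH) (Lpe (f712183 IH) (Lpr_df (f876901 IH) (Lpn v35690))))))))))))
theorem f644229 : Led Lsl_et (LP (LK LD1_c11 LD2_c49 LD3_c9)) = (LP (LK LD1_c20 LD2_c51 LD3_c41)) :=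
  Lre_e IH (LK LD1_c11 LD2_c49 LD3_c9) (LK LD1_c20 LD2_c51 LD3_c41) Lrfl Lrfl
theorem f876906 : Led Lsl_bt (LP (LK LD1_c20 LD2_c51 LD3_c41)) = v35690 :=
  Lgr Lrot119 (Lpe (f644229 IH) (Lpe (K53.f699541 IH) (Lpr_ef (f876905 IH) (Lpn v35690))))
theorem f714419 : Led Lsl_ct (LP (LK LD1_c20 LD2_c51 LD3_c41)) = (LP (LK LD1_c11 LD2_c49 LD3_c10)) :=
  Lre_c IH (LK LD1_c20 LD2_c51 LD3_c41) (LK LD1_c11 LD2_c49 LD3_c10) Lrfl Lrfl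
theorem f932768 : Led Lsl_gt (LP (LK LD1_c17 LD2_c8 LD3_c4)) = (LP (LK LD1_c11 LD2_c49 LD3_c10)) :=
  Lgr Lrot149 (Lpe (f645455 IH) (Lpr_gf (f903415 IH) (Lpe (f903424 IH) (Lpr_ct (f921687 IH) (Lpr_gf (f932767 IH) (Lpe (f932761 IH) (Lpr_bt (f713416 IH) (Lpr_gf (f876900 IH) (Lpe (f876906 IH) (Lpr_ct (f714419 IH) (Lpn (LP (LK LD1_c11 LD2_c49 LD3_c10)))))))))))))
theorem f932769 : Led Lsl_gt (LP (LK LD1_c17 LD2_c8 LD3_c4)) = (LP (LK LD1_c11 LD2_c49 LD3_c10)) :=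
  Leop (Lpe (f932768 IH) (Lpn (LP (LK LD1_c17 LD2_c8 LD3_c4))))
theorem seed_2599 : LEOK LG_g (LK LD1_c17 LD2_c8 LD3_c4) :=
  Leoe_g (LK LD1_c17 LD2_c8 LD3_c4) (f932769 IH)
def v42236 : LQ := Led Lsl_at (LP (LK LD1_c10 LD2_c7 LD3_c21))
theorem f932956 : Led Lsl_at (LP (LK LD1_c10 LD2_c7 LD3_c21)) = v42236 :=
  Lrfl
theorem f282275 : Led Lsl_dt (LP (LK LD1_c32 LD2_c31 LD3_c3)) = (LP (LK LD1_c28 LD2_c2 LD3_c6)) :=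
  Lre_d IH (LK LD1_c32 LD2_c31 LD3_c3) (LK LD1_c28 LD2_c2 LD3_c6) Lrfl Lrfl
theorem f282276 : Led Lsl_ct (LP (LK LD1_c28 LD2_c2 LD3_c6)) = (LP (LK LD1_c18 LD2_c27 LD3_c2)) :=
  Lre_c IH (LK LD1_c28 LD2_c2 LD3_c6) (LK LD1_c18 LD2_c27 LD3_c2) Lrfl Lrfl
theorem f282262 : Led Lsl_dt (LP (LK LD1_c18 LD2_c27 LD3_c2)) = (LP (LK LD1_c10 LD2_c7 LD3_c43)) :=
  Lre_d IH (LK LD1_c18 LD2_c27 LD3_c2) (LK LD1_c10 LD2_c7 LD3_c43) Lrfl Lrfl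
theorem f932961 : Led Lsl_ct (LP (LK LD1_c10 LD2_c7 LD3_c43)) = v42236 :=
  Lgr Lrot98 (Lpe (f282262 IH) (Lpe (f282276 IH) (Lpe (f282275 IH) (Lpr_cf (K42.f282272 IH) (Lpe (K42.f231964 IH) (Lpe (K42.f45301 IH) (Lpr_df (K42.f231959 IH) (Lpe (K42.f282230 IH) (Lpr_at (f932956 IH) (Lpn v42236))))))))))
theorem f190373 : Led Lsl_ct (LP (LK LD1_c5 LD2_c21 LD3_c20)) = (LP (LK LD1_c10 LD2_c32 LD3_c58)) :=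
  Lre_c IH (LK LD1_c5 LD2_c21 LD3_c20) (LK LD1_c10 LD2_c32 LD3_c58) Lrfl Lrfl
theorem f305972 : Led Lsl_ct (LP (LK LD1_c5 LD2_c9 LD3_c43)) = (LP (LK LD1_c10 LD2_c10 LD3_c14)) :=
  Lre_c IH (LK LD1_c5 LD2_c9 LD3_c43) (LK LD1_c10 LD2_c10 LD3_c14) Lrfl Lrfl
theorem f362779 : Led Lsl_gf (LP (LK LD1_c10 LD2_c7 LD3_c48)) = (LP (LK LD1_c15 LD2_c11 LD3_c10)) :=
  Lgr Lrot126 (Lpe (K68.f354949 IH) (Lpr_bt (K68.f362690 IH) (Lpr_gt (K54.f190381 IH) (Lpr_ct (f190373 IH) (Lpe (K67.f355626 IH) (Lpe (f305972 IH) (Lpr_bt (K26.f305968 IH) (Lpr_gt (K26.f355677 IH) (Lpe (K22.f279348 IH) (Lpr_ct (K22.f279366 IH) (Lpn (LP (LK LD1_c15 LD2_c11 LD3_c10)))))))))))))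
theorem f362781 : Led Lsl_ft (LP (LK LD1_c15 LD2_c11 LD3_c10)) = (LP (LK LD1_c8 LD2_c4 LD3_c0)) :=
  Lre_f IH (LK LD1_c15 LD2_c11 LD3_c10) (LK LD1_c8 LD2_c4 LD3_c0) Lrfl Lrfl
theorem f362782 : Led Lsl_af (LP (LK LD1_c5 LD2_c8 LD3_c39)) = (LP (LK LD1_c8 LD2_c4 LD3_c0)) :=
  Lgr Lrot31 (Lpe (K68.f33224 IH) (Lpr_gf (f362779 IH) (Lpr_ft (f362781 IH) (Lpn (LP (LK LD1_c8 LD2_c4 LD3_c0))))))
theorem f240219 : Led Lsl_ft (LP (LK LD1_c5 LD2_c8 LD3_c39)) = (LP (LK LD1_c10 LD2_c7 LD3_c50)) :=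
  Lre_f IH (LK LD1_c5 LD2_c8 LD3_c39) (LK LD1_c10 LD2_c7 LD3_c50) Lrfl Lrfl
theorem f362784 : Led Lsl_at (LP (LK LD1_c10 LD2_c7 LD3_c50)) = (LP (LK LD1_c15 LD2_c11 LD3_c10)) :=
  Lgr Lrot66 (Lpe (f240219 IH) (Lpr_af (f362782 IH) (Lpe (f362781 IH) (Lpn (LP (LK LD1_c15 LD2_c11 LD3_c10))))))
theorem f362786 : Led Lsl_ef (LP (LK LD1_c10 LD2_c8 LD3_c5)) = (LP (LK LD1_c15 LD2_c11 LD3_c10)) :=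
  Lgr Lrot20 (Lpe (K13.f239898 IH) (Lpr_et (K13.f240129 IH) (Lpr_at (f362784 IH) (Lpn (LP (LK LD1_c15 LD2_c11 LD3_c10))))))
theorem f190761 : Led Lsl_et (LP (LK LD1_c4 LD2_c1 LD3_c41)) = (LP (LK LD1_c8 LD2_c4 LD3_c0)) :=
  Lre_e IH (LK LD1_c4 LD2_c1 LD3_c41) (LK LD1_c8 LD2_c4 LD3_c0) Lrfl Lrfl
theorem f362790 : Led Lsl_ft (LP (LK LD1_c2 LD2_c31 LD3_c35)) = (LP (LK LD1_c4 LD2_c1 LD3_c41)) :=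
  Lgr Lrot86 (Lpe (K13.f239920 IH) (Lpe (K22.f330332 IH) (Lpr_ef (f362786 IH) (Lpe (K53.f341745 IH) (Lpe (f190761 IH) (Lpn (LP (LK LD1_c4 LD2_c1 LD3_c41))))))))
theorem f239928 : Led Lsl_bt (LP (LK LD1_c5 LD2_c8 LD3_c48)) = (LP (LK LD1_c2 LD2_c31 LD3_c35)) :=
  Lre_b IH (LK LD1_c5 LD2_c8 LD3_c48) (LK LD1_c2 LD2_c31 LD3_c35) Lrfl Lrfl
theorem f33589 : Led Lsl_bt (LP (LK LD1_c4 LD2_c1 LD3_c41)) = (LP (LK LD1_c8 LD2_c3 LD3_c60)) :=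
  Lre_b IH (LK LD1_c4 LD2_c1 LD3_c41) (LK LD1_c8 LD2_c3 LD3_c60) Lrfl Lrfl
theorem f362794 : Led Lsl_ff (LP (LK LD1_c5 LD2_c8 LD3_c48)) = (LP (LK LD1_c8 LD2_c3 LD3_c60)) :=
  Lgr Lrot25 (Lpr_bt (f239928 IH) (Lpr_ft (f362790 IH) (Lpr_bt (f33589 IH) (Lpn (LP (LK LD1_c8 LD2_c3 LD3_c60))))))
theorem f362798 : Led Lsl_at (LP (LK LD1_c5 LD2_c8 LD3_c48)) = (LP (LK LD1_c10 LD2_c7 LD3_c60)) :=
  Lre_a IH (LK LD1_c5 LD2_c8 LD3_c48) (LK LD1_c10 LD2_c7 LD3_c60) Lrfl Lrfl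
theorem f362799 : Led Lsl_at (LP (LK LD1_c15 LD2_c11 LD3_c7)) = (LP (LK LD1_c8 LD2_c3 LD3_c60)) :=
  Lre_a IH (LK LD1_c15 LD2_c11 LD3_c7) (LK LD1_c8 LD2_c3 LD3_c60) Lrfl Lrfl
theorem f362800 : Led Lsl_ft (LP (LK LD1_c10 LD2_c7 LD3_c60)) = (LP (LK LD1_c15 LD2_c11 LD3_c7)) :=
  Lgr Lrot101 (Lpe (f362798 IH) (Lpr_ff (f362794 IH) (Lpe (f362799 IH) (Lpn (LP (LK LD1_c15 LD2_c11 LD3_c7))))))
theorem f165478 : Led Lsl_bt (LP (LK LD1_c4 LD2_c1 LD3_c43)) = (LP (LK LD1_c8 LD2_c4 LD3_c3)) :=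
  Lre_b IH (LK LD1_c4 LD2_c1 LD3_c43) (LK LD1_c8 LD2_c4 LD3_c3) Lrfl Lrfl
theorem f239929 : Led Lsl_at (LP (LK LD1_c10 LD2_c7 LD3_c60)) = (LP (LK LD1_c5 LD2_c8 LD3_c48)) :=
  Lre_a IH (LK LD1_c10 LD2_c7 LD3_c60) (LK LD1_c5 LD2_c8 LD3_c48) Lrfl Lrfl
theorem f239930 : Led Lsl_bt (LP (LK LD1_c15 LD2_c11 LD3_c15)) = (LP (LK LD1_c10 LD2_c7 LD3_c60)) :=
  Lgr Lrot62 (Lpe (K42.f195651 IH) (Lpe (f165478 IH) (Lpr_af (K13.f239921 IH) (Lpe (f239928 IH) (Lpe (f239929 IH) (Lpn (LP (LK LD1_c10 LD2_c7 LD3_c60))))))))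
theorem f362836 : Led Lsl_bf (LP (LK LD1_c10 LD2_c7 LD3_c43)) = (LP (LK LD1_c15 LD2_c11 LD3_c7)) :=
  Lgr Lrot61 (Lpr_ft (K42.f282252 IH) (Lpr_bt (f239930 IH) (Lpr_ft (f362800 IH) (Lpn (LP (LK LD1_c15 LD2_c11 LD3_c7))))))
theorem f362838 : Led Lsl_bt (LP (LK LD1_c10 LD2_c7 LD3_c43)) = (LP (LK LD1_c15 LD2_c11 LD3_c7)) :=
  Lgr Lrot127 (Lpr_bf (f362836 IH) (Lpn (LP (LK LD1_c15 LD2_c11 LD3_c7))))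
theorem f362809 : Led Lsl_ft (LP (LK LD1_c5 LD2_c8 LD3_c48)) = (LP (LK LD1_c8 LD2_c3 LD3_c60)) :=
  Lgr Lrot48 (Lpr_ff (f362794 IH) (Lpn (LP (LK LD1_c8 LD2_c3 LD3_c60))))
theorem f362816 : Led Lsl_at (LP (LK LD1_c8 LD2_c3 LD3_c60)) = (LP (LK LD1_c15 LD2_c11 LD3_c7)) :=
  Lre_a IH (LK LD1_c8 LD2_c3 LD3_c60) (LK LD1_c15 LD2_c11 LD3_c7) Lrfl Lrfl
theorem f362817 : Led Lsl_ff (LP (LK LD1_c10 LD2_c7 LD3_c60)) = (LP (LK LD1_c15 LD2_c11 LD3_c7)) :=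
  Lgr Lrot30 (Lpr_at (f239929 IH) (Lpr_ft (f362809 IH) (Lpr_at (f362816 IH) (Lpn (LP (LK LD1_c15 LD2_c11 LD3_c7))))))
theorem f362831 : Led Lsl_gf (LP (LK LD1_c10 LD2_c7 LD3_c59)) = (LP (LK LD1_c15 LD2_c11 LD3_c7)) :=
  Lgr Lrot47 (Lpr_gt (K72.f240514 IH) (Lpe (f239929 IH) (Lpr_ff (f362817 IH) (Lpn (LP (LK LD1_c15 LD2_c11 LD3_c7))))))
theorem f240462 : Led Lsl_bt (LP (LK LD1_c18 LD2_c26 LD3_c41)) = (LP (LK LD1_c28 LD2_c1 LD3_c51)) :=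
  Lre_b IH (LK LD1_c18 LD2_c26 LD3_c41) (LK LD1_c28 LD2_c1 LD3_c51) Lrfl Lrfl
theorem f932960 : Led Lsl_gt (LP (LK LD1_c20 LD2_c59 LD3_c33)) = v42236 :=
  Lgr Lrot46 (Lpe (K53.f183816 IH) (Lpe (K42.f282230 IH) (Lpr_at (f932956 IH) (Lpn v42236))))
theorem f195676 : Led Lsl_ct (LP (LK LD1_c29 LD2_c48 LD3_c1)) = (LP (LK LD1_c20 LD2_c59 LD3_c33)) :=
  Lre_c IH (LK LD1_c29 LD2_c48 LD3_c1) (LK LD1_c20 LD2_c59 LD3_c33) Lrfl Lrfl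
theorem f932962 : Led Lsl_gt (LP (LK LD1_c28 LD2_c1 LD3_c51)) = (LP (LK LD1_c29 LD2_c48 LD3_c1)) :=
  Lgr Lrot82 (Lpe (f240462 IH) (Lpr_ct (K71.f240464 IH) (Lpr_gf (K72.f585282 IH) (Lpe (K72.f925440 IH) (Lpr_bt (K72.f240515 IH) (Lpr_gf (f362831 IH) (Lpe (f362838 IH) (Lpr_ct (f932961 IH) (Lpe (f932960 IH) (Lpe (f195676 IH) (Lpn (LP (LK LD1_c29 LD2_c48 LD3_c1)))))))))))))
theorem f932963 : Led Lsl_gt (LP (LK LD1_c28 LD2_c1 LD3_c51)) = (LP (LK LD1_c29 LD2_c48 LD3_c1)) :=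
  Leop (Lpe (f932962 IH) (Lpn (LP (LK LD1_c28 LD2_c1 LD3_c51))))
theorem seed_2600 : LEOK LG_g (LK LD1_c28 LD2_c1 LD3_c51) :=
  Leoe_g (LK LD1_c28 LD2_c1 LD3_c51) (f932963 IH)
def v42259 : LQ := Led Lsl_ct (LP (LK LD1_c10 LD2_c7 LD3_c59))
theorem f933075 : Led Lsl_ct (LP (LK LD1_c10 LD2_c7 LD3_c59)) = v42259 :=
  Lrfl
theorem f933077 : Led Lsl_cf (LP (LK LD1_c10 LD2_c7 LD3_c59)) = v42259 :=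
  Lgr Lrot11 (Lpr_ct (f933075 IH) (Lpn v42259))
theorem f925444 : Led Lsl_bt (LP (LK LD1_c10 LD2_c7 LD3_c59)) = (LP (LK LD1_c18 LD2_c27 LD3_c22)) :=
  Lre_b IH (LK LD1_c10 LD2_c7 LD3_c59) (LK LD1_c18 LD2_c27 LD3_c22) Lrfl Lrfl
theorem f933078 : Led Lsl_bt (LP (LK LD1_c10 LD2_c14 LD3_c53)) = v42259 :=
  Lgr Lrot128 (Lpr_cf (K72.f585241 IH) (Lpe (K72.f584544 IH) (Lpe (K72.f925440 IH) (Lpe (f925444 IH) (Lpr_cf (f933077 IH) (Lpn v42259))))))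
def v41879 : LQ := Led Lsl_bt (LP (LK LD1_c10 LD2_c3 LD3_c18))
theorem f929971 : Led Lsl_bt (LP (LK LD1_c10 LD2_c3 LD3_c18)) = v41879 :=
  Lrfl
theorem f929972 : Led Lsl_bf (LP (LK LD1_c10 LD2_c3 LD3_c18)) = v41879 :=
  Lgr Lrot24 (Lpr_bt (f929971 IH) (Lpn v41879))
theorem f933081 : Led Lsl_ff v41879 = v42259 :=
  Lgr Lrot25 (Lpe (f929972 IH) (Lpe (K44.f585243 IH) (Lpr_bt (f933078 IH) (Lpn v42259))))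
theorem f933083 : Led Lsl_ft v41879 = v42259 :=
  Lgr Lrot48 (Lpr_ff (f933081 IH) (Lpn v42259))
def v35734 : LQ := Led Lsl_gf (LP (LK LD1_c8 LD2_c3 LD3_c60))
theorem f878040 : Led Lsl_gf (LP (LK LD1_c8 LD2_c3 LD3_c60)) = v35734 :=
  Lrfl
theorem f929973 : Led Lsl_cf v35734 = v41879 :=
  Lgr Lrot160 (Lpe (f878040 IH) (Lpr_cf (K72.f878034 IH) (Lpe (K72.f878033 IH) (Lpr_gt (K15.f257559 IH) (Lpr_ct (K15.f184628 IH) (Lpr_gt (K15.f169597 IH) (Lpe (K14.f180541 IH) (Lpr_bt (K44.f184622 IH) (Lpr_gt (K44.f165304 IH) (Lpr_bf (f929972 IH) (Lpn v41879)))))))))))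
theorem f929974 : Led Lsl_ct v35734 = v41879 :=
  Lgr Lrot59 (Lpr_cf (f929973 IH) (Lpn v41879))
theorem f933084 : Led Lsl_ff v35734 = (LP (LK LD1_c10 LD2_c7 LD3_c59)) :=
  Lgr Lrot23 (Lpr_ct (f929974 IH) (Lpr_ft (f933083 IH) (Lpe (f933077 IH) (Lpn (LP (LK LD1_c10 LD2_c7 LD3_c59))))))
def v42258 : LQ := Led Lsl_at (LP (LK LD1_c10 LD2_c7 LD3_c59))
theorem f933071 : Led Lsl_at (LP (LK LD1_c10 LD2_c7 LD3_c59)) = v42258 :=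
  Lrfl
theorem f933072 : Led Lsl_af (LP (LK LD1_c10 LD2_c7 LD3_c59)) = v42258 :=
  Lgr Lrot0 (Lpr_at (f933071 IH) (Lpn v42258))
def v14417 : LQ := Led Lsl_gt (LP (LK LD1_c5 LD2_c8 LD3_c48))
theorem f722422 : Led Lsl_gt (LP (LK LD1_c5 LD2_c8 LD3_c48)) = v14417 :=
  Lrfl
theorem f722423 : Led Lsl_gf (LP (LK LD1_c15 LD2_c11 LD3_c7)) = v14417 :=
  Lgr Lrot76 (Lpe (f362816 IH) (Lpe (f362809 IH) (Lpr_gt (f722422 IH) (Lpn v14417))))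
theorem f933073 : Led Lsl_ft v14417 = v42258 :=
  Lgr Lrot2 (Lpe (f722423 IH) (Lpe (f362831 IH) (Lpr_af (f933072 IH) (Lpn v42258))))
theorem f933085 : Led Lsl_at v35734 = v14417 :=
  Lgr Lrot66 (Lpr_ff (f933084 IH) (Lpr_af (f933072 IH) (Lpe (f933073 IH) (Lpn v14417))))
theorem f933086 : Led Lsl_af v35734 = v14417 :=
  Lgr Lrot0 (Lpr_at (f933085 IH) (Lpn v14417))
theorem f878041 : Led Lsl_gt (LP (LK LD1_c10 LD2_c7 LD3_c60)) = v35734 :=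
  Lgr Lrot5 (Lpr_ft (f362800 IH) (Lpr_at (f362799 IH) (Lpr_gf (f878040 IH) (Lpn v35734))))
theorem f362811 : Led Lsl_gf (LP (LK LD1_c10 LD2_c7 LD3_c60)) = (LP (LK LD1_c15 LD2_c11 LD3_c6)) :=
  Lgr Lrot76 (Lpe (f362798 IH) (Lpr_ff (f362794 IH) (Lpr_gt (K72.f33590 IH) (Lpn (LP (LK LD1_c15 LD2_c11 LD3_c6))))))
theorem f933074 : Led Lsl_ff v14417 = v42258 :=
  Lgr Lrot3 (Lpr_ft (f933073 IH) (Lpn v42258))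
theorem f933087 : (LP (LK LD1_c15 LD2_c11 LD3_c6)) = v42258 :=
  (Llr Lrot47 (Lpe (f362811 IH) (Lpr_gt (f878041 IH) (Lpr_af (f933086 IH) (Lpr_ff (f933074 IH) (Lpn v42258)))))).symm
theorem f933088 : Led Lsl_at (LP (LK LD1_c15 LD2_c11 LD3_c6)) = (LP (LK LD1_c10 LD2_c7 LD3_c59)) :=
  Leop (Lpr_af (f933072 IH) (Lpq (f933087 IH) (Lpn (LP (LK LD1_c15 LD2_c11 LD3_c6)))))
theorem seed_2601 : LEOK LG_a (LK LD1_c15 LD2_c11 LD3_c6) :=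
  Leoe_a (LK LD1_c15 LD2_c11 LD3_c6) (f933088 IH)
def v42266 : LQ := Led Lsl_ft (LP (LK LD1_c10 LD2_c8 LD3_c1))
theorem f933136 : Led Lsl_ft (LP (LK LD1_c10 LD2_c8 LD3_c1)) = v42266 :=
  Lrfl
theorem f197227 : Led Lsl_gt (LP (LK LD1_c10 LD2_c8 LD3_c1)) = (LP (LK LD1_c18 LD2_c27 LD3_c30)) :=
  Lre_g IH (LK LD1_c10 LD2_c8 LD3_c1) (LK LD1_c18 LD2_c27 LD3_c30) Lrfl Lrfl
theorem f240571 : Led Lsl_ct (LP (LK LD1_c8 LD2_c5 LD3_c16)) = (LP (LK LD1_c15 LD2_c11 LD3_c18)) :=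
  Lgr Lrot15 (Lpe (K16.f193420 IH) (Lpr_cf (K13.f240563 IH) (Lpe (K16.f239938 IH) (Lpn (LP (LK LD1_c15 LD2_c11 LD3_c18))))))
theorem f197223 : Led Lsl_cf (LP (LK LD1_c8 LD2_c3 LD3_c47)) = (LP (LK LD1_c10 LD2_c8 LD3_c1)) :=
  Lgr Lrot11 (Lpr_ct (K16.f197218 IH) (Lpn (LP (LK LD1_c10 LD2_c8 LD3_c1))))
theorem f411123 : Led Lsl_at (LP (LK LD1_c15 LD2_c11 LD3_c18)) = (LP (LK LD1_c10 LD2_c8 LD3_c1)) :=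
  Lgr Lrot107 (Lpe (f240571 IH) (Lpr_af (K67.f272099 IH) (Lpr_cf (f197223 IH) (Lpn (LP (LK LD1_c10 LD2_c8 LD3_c1))))))
theorem f933137 : Led Lsl_af (LP (LK LD1_c25 LD2_c0 LD3_c26)) = v42266 :=
  Lgr Lrot45 (Lpr_ft (K16.f240119 IH) (Lpr_at (f411123 IH) (Lpr_ft (f933136 IH) (Lpn v42266))))
theorem f933140 : Led Lsl_gt (LP (LK LD1_c18 LD2_c27 LD3_c30)) = (LP (LK LD1_c25 LD2_c0 LD3_c26)) :=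
  Lgr Lrot46 (Lpe (f197227 IH) (Lpr_ft (f933136 IH) (Lpe (f933137 IH) (Lpn (LP (LK LD1_c25 LD2_c0 LD3_c26))))))
theorem f933141 : Led Lsl_gt (LP (LK LD1_c18 LD2_c27 LD3_c30)) = (LP (LK LD1_c25 LD2_c0 LD3_c26)) :=
  Leop (Lpe (f933140 IH) (Lpn (LP (LK LD1_c18 LD2_c27 LD3_c30))))
theorem seed_2602 : LEOK LG_g (LK LD1_c18 LD2_c27 LD3_c30) :=
  Leoe_g (LK LD1_c18 LD2_c27 LD3_c30) (f933141 IH)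
theorem f818834 : Led Lsl_af (LP (LK LD1_c20 LD2_c32 LD3_c15)) = (LP (LK LD1_c12 LD2_c7 LD3_c41)) :=
  Lgr Lrot50 (Lpr_et (K43.f202311 IH) (Lpq (K64.f818327 IH) (Lpe (K64.f756687 IH) (Lpr_et (K65.f112728 IH) (Lpn (LP (LK LD1_c12 LD2_c7 LD3_c41)))))))
theorem f112717 : Led Lsl_et (LP (LK LD1_c12 LD2_c7 LD3_c41)) = (LP (LK LD1_c6 LD2_c14 LD3_c42)) :=
  Lre_e IH (LK LD1_c12 LD2_c7 LD3_c41) (LK LD1_c6 LD2_c14 LD3_c42) Lrfl Lrfl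
theorem f112396 : Led Lsl_dt (LP (LK LD1_c5 LD2_c53 LD3_c52)) = (LP (LK LD1_c11 LD2_c33 LD3_c38)) :=
  Lre_d IH (LK LD1_c5 LD2_c53 LD3_c52) (LK LD1_c11 LD2_c33 LD3_c38) Lrfl Lrfl
theorem f112718 : Led Lsl_gt (LP (LK LD1_c20 LD2_c30 LD3_c58)) = (LP (LK LD1_c11 LD2_c33 LD3_c38)) :=
  Lre_g IH (LK LD1_c20 LD2_c30 LD3_c58) (LK LD1_c11 LD2_c33 LD3_c38) Lrfl Lrfl
theorem f112719 : Led Lsl_dt (LP (LK LD1_c12 LD2_c7 LD3_c41)) = (LP (LK LD1_c20 LD2_c30 LD3_c58)) :=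
  Lgr Lrot136 (Lpr_et (f112717 IH) (Lpe (K37.f75673 IH) (Lpe (K47.f112716 IH) (Lpr_dt (K11.f59802 IH) (Lpe (K6.f59804 IH) (Lpe (K6.f99137 IH) (Lpr_gf (K6.f112706 IH) (Lpe (K2.f70987 IH) (Lpr_dt (f112396 IH) (Lpe (f112718 IH) (Lpn (LP (LK LD1_c20 LD2_c30 LD3_c58)))))))))))))
theorem f112726 : Led Lsl_df (LP (LK LD1_c12 LD2_c7 LD3_c41)) = (LP (LK LD1_c20 LD2_c30 LD3_c58)) :=
  Lgr Lrot38 (Lpr_dt (f112719 IH) (Lpn (LP (LK LD1_c20 LD2_c30 LD3_c58))))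
theorem f818838 : Led Lsl_at (LP (LK LD1_c11 LD2_c34 LD3_c30)) = (LP (LK LD1_c20 LD2_c30 LD3_c58)) :=
  Lgr Lrot51 (Lpe (K43.f138311 IH) (Lpr_af (f818834 IH) (Lpr_df (f112726 IH) (Lpn (LP (LK LD1_c20 LD2_c30 LD3_c58))))))
theorem f70976 : Led Lsl_gt (LP (LK LD1_c11 LD2_c34 LD3_c32)) = (LP (LK LD1_c20 LD2_c30 LD3_c58)) :=
  Lre_g IH (LK LD1_c11 LD2_c34 LD3_c32) (LK LD1_c20 LD2_c30 LD3_c58) Lrfl Lrfl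
theorem f70974 : Led Lsl_gt (LP (LK LD1_c20 LD2_c30 LD3_c57)) = (LP (LK LD1_c11 LD2_c34 LD3_c32)) :=
  Lre_g IH (LK LD1_c20 LD2_c30 LD3_c57) (LK LD1_c11 LD2_c34 LD3_c32) Lrfl Lrfl
theorem f818842 : Led Lsl_ff (LP (LK LD1_c11 LD2_c34 LD3_c30)) = (LP (LK LD1_c20 LD2_c30 LD3_c57)) :=
  Lgr Lrot52 (Lpr_at (f818838 IH) (Lpe (f70976 IH) (Lpe (f70974 IH) (Lpn (LP (LK LD1_c20 LD2_c30 LD3_c57))))))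
theorem f608323 : Led Lsl_bt (LP (LK LD1_c20 LD2_c32 LD3_c15)) = (LP (LK LD1_c24 LD2_c58 LD3_c60)) :=
  Lgr Lrot119 (Lpr_ef (K43.f202318 IH) (Lpr_bf (K64.f608319 IH) (Lpe (K40.f407971 IH) (Lpn (LP (LK LD1_c24 LD2_c58 LD3_c60))))))
theorem f202316 : Led Lsl_dt (LP (LK LD1_c11 LD2_c34 LD3_c30)) = (LP (LK LD1_c20 LD2_c32 LD3_c15)) :=
  Lre_d IH (LK LD1_c11 LD2_c34 LD3_c30) (LK LD1_c20 LD2_c32 LD3_c15) Lrfl Lrfl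
theorem f608327 : Led Lsl_bf (LP (LK LD1_c11 LD2_c34 LD3_c30)) = (LP (LK LD1_c15 LD2_c9 LD3_c55)) :=
  Lgr Lrot93 (Lpr_dt (f202316 IH) (Lpr_bt (f608323 IH) (Lpr_dt (K40.f407968 IH) (Lpn (LP (LK LD1_c15 LD2_c9 LD3_c55))))))
theorem f608329 : Led Lsl_bt (LP (LK LD1_c11 LD2_c34 LD3_c30)) = (LP (LK LD1_c15 LD2_c9 LD3_c55)) :=
  Lgr Lrot127 (Lpr_bf (f608327 IH) (Lpn (LP (LK LD1_c15 LD2_c9 LD3_c55))))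
theorem f818445 : Led Lsl_ff (LP (LK LD1_c23 LD2_c40 LD3_c49)) = (LP (LK LD1_c14 LD2_c7 LD3_c0)) :=
  Lgr Lrot25 (Lpe (K39.f489633 IH) (Lpr_ft (K64.f818443 IH) (Lpe (K64.f533734 IH) (Lpn (LP (LK LD1_c14 LD2_c7 LD3_c0))))))
theorem f123765 : Led Lsl_gt (LP (LK LD1_c14 LD2_c7 LD3_c0)) = (LP (LK LD1_c23 LD2_c40 LD3_c51)) :=
  Lre_g IH (LK LD1_c14 LD2_c7 LD3_c0) (LK LD1_c23 LD2_c40 LD3_c51) Lrfl Lrfl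
theorem f818461 : Led Lsl_at (LP (LK LD1_c23 LD2_c40 LD3_c49)) = (LP (LK LD1_c14 LD2_c7 LD3_c1)) :=
  Lgr Lrot26 (Lpr_ff (f818445 IH) (Lpr_gt (f123765 IH) (Lpr_gt (K28.f129493 IH) (Lpn (LP (LK LD1_c14 LD2_c7 LD3_c1))))))
theorem f818469 : Led Lsl_af (LP (LK LD1_c14 LD2_c46 LD3_c13)) = (LP (LK LD1_c23 LD2_c41 LD3_c16)) :=
  Lgr Lrot117 (Lpr_dt (K46.f144703 IH) (Lpr_at (f818461 IH) (Lpr_dt (K37.f129489 IH) (Lpn (LP (LK LD1_c23 LD2_c41 LD3_c16))))))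
theorem f818359 : Led Lsl_at (LP (LK LD1_c14 LD2_c51 LD3_c1)) = (LP (LK LD1_c14 LD2_c46 LD3_c22)) :=
  Lgr Lrot107 (Lpr_cf (K55.f617819 IH) (Lpr_af (K64.f818353 IH) (Lpr_cf (K40.f475306 IH) (Lpn (LP (LK LD1_c14 LD2_c46 LD3_c22))))))
theorem f818473 : Led Lsl_at (LP (LK LD1_c24 LD2_c9 LD3_c47)) = (LP (LK LD1_c30 LD2_c30 LD3_c36)) :=
  Lgr Lrot67 (Lpe (K34.f533451 IH) (Lpe (f818359 IH) (Lpe (K61.f607625 IH) (Lpr_af (f818469 IH) (Lpe (K39.f532135 IH) (Lpn (LP (LK LD1_c30 LD2_c30 LD3_c36))))))))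
theorem f809271 : Led Lsl_gt (LP (LK LD1_c24 LD2_c37 LD3_c21)) = (LP (LK LD1_c24 LD2_c10 LD3_c46)) :=
  Lgr Lrot9 (Lpe (K39.f535049 IH) (Lpr_gt (K39.f535047 IH) (Lpe (K35.f533625 IH) (Lpr_gt (K35.f437755 IH) (Lpr_ct (K35.f437754 IH) (Lpe (K34.f437750 IH) (Lpe (K35.f471101 IH) (Lpr_gf (K64.f809264 IH) (Lpe (K64.f809260 IH) (Lpn (LP (LK LD1_c24 LD2_c10 LD3_c46))))))))))))
theorem f818538 : Led Lsl_ff (LP (LK LD1_c24 LD2_c9 LD3_c47)) = (LP (LK LD1_c24 LD2_c37 LD3_c21)) :=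
  Lgr Lrot52 (Lpr_at (f818473 IH) (Lpr_gf (K64.f809268 IH) (Lpe (f809271 IH) (Lpn (LP (LK LD1_c24 LD2_c37 LD3_c21))))))
theorem f818542 : Led Lsl_ft (LP (LK LD1_c24 LD2_c9 LD3_c47)) = (LP (LK LD1_c24 LD2_c37 LD3_c21)) :=
  Lgr Lrot48 (Lpr_ff (f818538 IH) (Lpn (LP (LK LD1_c24 LD2_c37 LD3_c21))))
theorem f485326 : Led Lsl_gt (LP (LK LD1_c14 LD2_c29 LD3_c37)) = (LP (LK LD1_c24 LD2_c10 LD3_c44)) :=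
  Lre_g IH (LK LD1_c14 LD2_c29 LD3_c37) (LK LD1_c24 LD2_c10 LD3_c44) Lrfl Lrfl
theorem f818546 : Led Lsl_af (LP (LK LD1_c24 LD2_c10 LD3_c44)) = (LP (LK LD1_c24 LD2_c37 LD3_c21)) :=
  Lgr Lrot31 (Lpe (f485326 IH) (Lpe (K63.f809881 IH) (Lpr_ft (f818542 IH) (Lpn (LP (LK LD1_c24 LD2_c37 LD3_c21))))))
theorem f818534 : Led Lsl_af (LP (LK LD1_c24 LD2_c9 LD3_c47)) = (LP (LK LD1_c30 LD2_c30 LD3_c36)) :=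
  Lgr Lrot0 (Lpr_at (f818473 IH) (Lpn (LP (LK LD1_c30 LD2_c30 LD3_c36))))
theorem f818554 : Led Lsl_ft (LP (LK LD1_c24 LD2_c10 LD3_c44)) = (LP (LK LD1_c30 LD2_c30 LD3_c36)) :=
  Lgr Lrot101 (Lpr_af (f818546 IH) (Lpe (f818542 IH) (Lpr_af (f818534 IH) (Lpn (LP (LK LD1_c30 LD2_c30 LD3_c36))))))
theorem f818558 : Led Lsl_ff (LP (LK LD1_c24 LD2_c10 LD3_c44)) = (LP (LK LD1_c30 LD2_c30 LD3_c36)) :=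
  Lgr Lrot3 (Lpr_ft (f818554 IH) (Lpn (LP (LK LD1_c30 LD2_c30 LD3_c36))))
theorem f428962 : Led Lsl_ct (LP (LK LD1_c14 LD2_c10 LD3_c23)) = (LP (LK LD1_c23 LD2_c45 LD3_c36)) :=
  Lre_c IH (LK LD1_c14 LD2_c10 LD3_c23) (LK LD1_c23 LD2_c45 LD3_c36) Lrfl Lrfl
theorem f457955 : Led Lsl_bt (LP (LK LD1_c22 LD2_c26 LD3_c30)) = (LP (LK LD1_c13 LD2_c12 LD3_c40)) :=
  Lre_b IH (LK LD1_c22 LD2_c26 LD3_c30) (LK LD1_c13 LD2_c12 LD3_c40) Lrfl Lrfl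
theorem f655829 : Led Lsl_cf (LP (LK LD1_c22 LD2_c27 LD3_c13)) = (LP (LK LD1_c14 LD2_c29 LD3_c35)) :=
  Lgr Lrot39 (Lpr_et (K46.f655824 IH) (Lpr_ct (K33.f485140 IH) (Lpr_et (K64.f655828 IH) (Lpn (LP (LK LD1_c14 LD2_c29 LD3_c35))))))
theorem f806136 : Led Lsl_gf (LP (LK LD1_c14 LD2_c29 LD3_c35)) = (LP (LK LD1_c23 LD2_c45 LD3_c34)) :=
  Lgr Lrot181 (Lpe (f655829 IH) (Lpr_gt (K63.f527116 IH) (Lpe (K37.f527043 IH) (Lpr_bt (K34.f492546 IH) (Lpe (K63.f492511 IH) (Lpe (f457955 IH) (Lpr_ct (K63.f806037 IH) (Lpr_gt (K64.f806132 IH) (Lpe (f428962 IH) (Lpr_bt (K37.f428959 IH) (Lpn (LP (LK LD1_c23 LD2_c45 LD3_c34)))))))))))))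
theorem f485323 : Led Lsl_bt (LP (LK LD1_c7 LD2_c41 LD3_c23)) = (LP (LK LD1_c14 LD2_c29 LD3_c35)) :=
  Lre_b IH (LK LD1_c7 LD2_c41 LD3_c23) (LK LD1_c14 LD2_c29 LD3_c35) Lrfl Lrfl
theorem f441238 : Led Lsl_ct (LP (LK LD1_c7 LD2_c41 LD3_c23)) = (LP (LK LD1_c14 LD2_c29 LD3_c37)) :=
  Lre_c IH (LK LD1_c7 LD2_c41 LD3_c23) (LK LD1_c14 LD2_c29 LD3_c37) Lrfl Lrfl
theorem f804671 : Led Lsl_bf (LP (LK LD1_c24 LD2_c1 LD3_c45)) = (LP (LK LD1_c22 LD2_c21 LD3_c59)) :=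
  Lgr Lrot24 (Lpr_bt (K64.f804669 IH) (Lpn (LP (LK LD1_c22 LD2_c21 LD3_c59))))
theorem f806148 : Led Lsl_cf (LP (LK LD1_c24 LD2_c10 LD3_c44)) = (LP (LK LD1_c22 LD2_c21 LD3_c59)) :=
  Lgr Lrot58 (Lpe (f485326 IH) (Lpe (f441238 IH) (Lpr_bt (f485323 IH) (Lpr_gf (f806136 IH) (Lpe (K37.f428959 IH) (Lpr_ct (f428962 IH) (Lpe (K64.f806132 IH) (Lpe (K63.f806037 IH) (Lpr_gf (K64.f806146 IH) (Lpr_bf (f804671 IH) (Lpn (LP (LK LD1_c22 LD2_c21 LD3_c59)))))))))))))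
theorem f806171 : Led Lsl_ct (LP (LK LD1_c24 LD2_c10 LD3_c44)) = (LP (LK LD1_c22 LD2_c21 LD3_c59)) :=
  Lgr Lrot59 (Lpr_cf (f806148 IH) (Lpn (LP (LK LD1_c22 LD2_c21 LD3_c59))))
theorem f818560 : Led Lsl_ft (LP (LK LD1_c22 LD2_c21 LD3_c59)) = (LP (LK LD1_c22 LD2_c26 LD3_c48)) :=
  Lgr Lrot4 (Lpe (f806171 IH) (Lpr_ff (f818558 IH) (Lpe (K64.f483827 IH) (Lpn (LP (LK LD1_c22 LD2_c26 LD3_c48))))))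
theorem f554093 : Led Lsl_ct (LP (LK LD1_c22 LD2_c21 LD3_c60)) = (LP (LK LD1_c24 LD2_c9 LD3_c47)) :=
  Lgr Lrot59 (Lpr_cf (K48.f554089 IH) (Lpn (LP (LK LD1_c24 LD2_c9 LD3_c47))))
theorem f818536 : Led Lsl_af (LP (LK LD1_c22 LD2_c21 LD3_c60)) = (LP (LK LD1_c22 LD2_c26 LD3_c48)) :=
  Lgr Lrot68 (Lpr_ct (f554093 IH) (Lpr_at (f818473 IH) (Lpr_ct (K39.f483837 IH) (Lpn (LP (LK LD1_c22 LD2_c26 LD3_c48))))))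
theorem f493314 : Led Lsl_ct (LP (LK LD1_c22 LD2_c26 LD3_c49)) = (LP (LK LD1_c24 LD2_c37 LD3_c21)) :=
  Lgr Lrot59 (Lpr_cf (K39.f493303 IH) (Lpn (LP (LK LD1_c24 LD2_c37 LD3_c21))))
theorem f818540 : Led Lsl_ft (LP (LK LD1_c22 LD2_c21 LD3_c60)) = (LP (LK LD1_c22 LD2_c26 LD3_c49)) :=
  Lgr Lrot4 (Lpr_cf (K48.f554089 IH) (Lpr_ff (f818538 IH) (Lpe (f493314 IH) (Lpn (LP (LK LD1_c22 LD2_c26 LD3_c49))))))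
theorem f818605 : Led Lsl_af (LP (LK LD1_c22 LD2_c21 LD3_c59)) = (LP (LK LD1_c22 LD2_c26 LD3_c49)) :=
  Lgr Lrot45 (Lpr_ft (f818560 IH) (Lpe (f818536 IH) (Lpr_ft (f818540 IH) (Lpn (LP (LK LD1_c22 LD2_c26 LD3_c49))))))
theorem f468179 : Led Lsl_cf (LP (LK LD1_c13 LD2_c25 LD3_c19)) = (LP (LK LD1_c14 LD2_c16 LD3_c0)) :=
  Lgr Lrot108 (Lpr_ft (K28.f468174 IH) (Lpe (K28.f419429 IH) (Lpr_ft (K35.f419750 IH) (Lpn (LP (LK LD1_c14 LD2_c16 LD3_c0))))))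
theorem f419640 : Led Lsl_dt (LP (LK LD1_c23 LD2_c52 LD3_c45)) = (LP (LK LD1_c14 LD2_c16 LD3_c0)) :=
  Lre_d IH (LK LD1_c23 LD2_c52 LD3_c45) (LK LD1_c14 LD2_c16 LD3_c0) Lrfl Lrfl
theorem f464476 : Led Lsl_at (LP (LK LD1_c22 LD2_c13 LD3_c61)) = (LP (LK LD1_c23 LD2_c52 LD3_c45)) :=
  Lgr Lrot66 (Lpr_ff (K28.f464412 IH) (Lpe (K48.f419616 IH) (Lpe (K48.f419762 IH) (Lpn (LP (LK LD1_c23 LD2_c52 LD3_c45))))))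
theorem f463591 : Led Lsl_gt (LP (LK LD1_c13 LD2_c5 LD3_c17)) = (LP (LK LD1_c22 LD2_c16 LD3_c1)) :=
  Lre_g IH (LK LD1_c13 LD2_c5 LD3_c17) (LK LD1_c22 LD2_c16 LD3_c1) Lrfl Lrfl
theorem f464482 : Led Lsl_gf (LP (LK LD1_c23 LD2_c52 LD3_c45)) = (LP (LK LD1_c22 LD2_c16 LD3_c1)) :=
  Lgr Lrot76 (Lpe (f464476 IH) (Lpr_ff (K28.f464412 IH) (Lpr_gt (f463591 IH) (Lpn (LP (LK LD1_c22 LD2_c16 LD3_c1))))))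
theorem f554119 : Led Lsl_dt (LP (LK LD1_c22 LD2_c21 LD3_c59)) = (LP (LK LD1_c22 LD2_c16 LD3_c1)) :=
  Lgr Lrot57 (Lpe (K64.f477144 IH) (Lpr_cf (K48.f477141 IH) (Lpr_gt (K62.f463667 IH) (Lpr_dt (K62.f554113 IH) (Lpe (K62.f468232 IH) (Lpr_dt (K28.f468181 IH) (Lpr_cf (f468179 IH) (Lpe (f419640 IH) (Lpr_gf (f464482 IH) (Lpn (LP (LK LD1_c22 LD2_c16 LD3_c1))))))))))))
theorem f818607 : Led Lsl_at (LP (LK LD1_c22 LD2_c16 LD3_c1)) = (LP (LK LD1_c23 LD2_c52 LD3_c42)) :=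
  Lgr Lrot51 (Lpe (f554119 IH) (Lpr_af (f818605 IH) (Lpr_df (K39.f532176 IH) (Lpn (LP (LK LD1_c23 LD2_c52 LD3_c42))))))
theorem f464484 : Led Lsl_ct (LP (LK LD1_c30 LD2_c23 LD3_c40)) = (LP (LK LD1_c22 LD2_c16 LD3_c1)) :=
  Lre_c IH (LK LD1_c30 LD2_c23 LD3_c40) (LK LD1_c22 LD2_c16 LD3_c1) Lrfl Lrfl
theorem f590142 : Led Lsl_bf (LP (LK LD1_c30 LD2_c34 LD3_c19)) = (LP (LK LD1_c23 LD2_c52 LD3_c42)) :=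
  Lgr Lrot24 (Lpr_bt (K61.f590117 IH) (Lpn (LP (LK LD1_c23 LD2_c52 LD3_c42))))
theorem f17864 : Led Lsl_gt (LP (LK LD1_c30 LD2_c34 LD3_c19)) = (LP (LK LD1_c22 LD2_c33 LD3_c19)) :=
  Lre_g IH (LK LD1_c30 LD2_c34 LD3_c19) (LK LD1_c22 LD2_c33 LD3_c19) Lrfl Lrfl
theorem f473728 : Led Lsl_bt (LP (LK LD1_c22 LD2_c23 LD3_c54)) = (LP (LK LD1_c22 LD2_c13 LD3_c48)) :=
  Lgr Lrot62 (Lpe (K43.f473727 IH) (Lpe (K61.f473726 IH) (Lpr_af (K29.f473722 IH) (Lpe (K62.f18367 IH) (Lpe (K62.f458045 IH) (Lpn (LP (LK LD1_c22 LD2_c13 LD3_c48))))))))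
theorem f111193 : Led Lsl_ct (LP (LK LD1_c13 LD2_c19 LD3_c2)) = (LP (LK LD1_c22 LD2_c35 LD3_c26)) :=
  Lre_c IH (LK LD1_c13 LD2_c19 LD3_c2) (LK LD1_c22 LD2_c35 LD3_c26) Lrfl Lrfl
theorem f111195 : Led Lsl_gt (LP (LK LD1_c22 LD2_c35 LD3_c26)) = (LP (LK LD1_c30 LD2_c35 LD3_c57)) :=
  Lre_g IH (LK LD1_c22 LD2_c35 LD3_c26) (LK LD1_c30 LD2_c35 LD3_c57) Lrfl Lrfl
theorem f590144 : Led Lsl_cf (LP (LK LD1_c30 LD2_c35 LD3_c57)) = (LP (LK LD1_c23 LD2_c52 LD3_c42)) :=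
  Lgr Lrot58 (Lpe (f111195 IH) (Lpe (f111193 IH) (Lpe (K4.f111179 IH) (Lpe (K62.f532823 IH) (Lpe (f473728 IH) (Lpr_ct (K41.f473873 IH) (Lpe (K41.f473871 IH) (Lpe (K41.f461861 IH) (Lpe (f17864 IH) (Lpr_bf (f590142 IH) (Lpn (LP (LK LD1_c23 LD2_c52 LD3_c42)))))))))))))
theorem f818613 : Led Lsl_af (LP (LK LD1_c30 LD2_c23 LD3_c40)) = (LP (LK LD1_c30 LD2_c35 LD3_c57)) :=
  Lgr Lrot68 (Lpr_ct (f464484 IH) (Lpr_at (f818607 IH) (Lpe (f590144 IH) (Lpn (LP (LK LD1_c30 LD2_c35 LD3_c57))))))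
theorem f111251 : Led Lsl_ct (LP (LK LD1_c21 LD2_c41 LD3_c15)) = (LP (LK LD1_c30 LD2_c7 LD3_c29)) :=
  Lre_c IH (LK LD1_c21 LD2_c41 LD3_c15) (LK LD1_c30 LD2_c7 LD3_c29) Lrfl Lrfl
theorem f554121 : Led Lsl_df (LP (LK LD1_c22 LD2_c21 LD3_c59)) = (LP (LK LD1_c22 LD2_c16 LD3_c1)) :=
  Lgr Lrot38 (Lpr_dt (f554119 IH) (Lpn (LP (LK LD1_c22 LD2_c16 LD3_c1))))
theorem f806177 : Led Lsl_gt (LP (LK LD1_c30 LD2_c7 LD3_c29)) = (LP (LK LD1_c30 LD2_c23 LD3_c40)) :=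
  Lgr Lrot150 (Lpe (f111251 IH) (Lpr_gf (K48.f148767 IH) (Lpe (K48.f148766 IH) (Lpr_gt (K61.f655857 IH) (Lpr_ct (f441238 IH) (Lpr_gt (f485326 IH) (Lpr_ct (f806171 IH) (Lpr_df (f554121 IH) (Lpe (f464484 IH) (Lpn (LP (LK LD1_c30 LD2_c23 LD3_c40))))))))))))
theorem f419641 : Led Lsl_ct (LP (LK LD1_c13 LD2_c5 LD3_c16)) = (LP (LK LD1_c22 LD2_c15 LD3_c60)) :=
  Lre_c IH (LK LD1_c13 LD2_c5 LD3_c16) (LK LD1_c22 LD2_c15 LD3_c60) Lrfl Lrfl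
theorem f419765 : Led Lsl_ct (LP (LK LD1_c22 LD2_c16 LD3_c2)) = (LP (LK LD1_c30 LD2_c23 LD3_c42)) :=
  Lre_c IH (LK LD1_c22 LD2_c16 LD3_c2) (LK LD1_c30 LD2_c23 LD3_c42) Lrfl Lrfl
theorem f111243 : Led Lsl_ct (LP (LK LD1_c30 LD2_c7 LD3_c29)) = (LP (LK LD1_c21 LD2_c41 LD3_c15)) :=
  Lre_c IH (LK LD1_c30 LD2_c7 LD3_c29) (LK LD1_c21 LD2_c41 LD3_c15) Lrfl Lrfl
theorem f535096 : Led Lsl_gt (LP (LK LD1_c30 LD2_c23 LD3_c42)) = (LP (LK LD1_c30 LD2_c7 LD3_c29)) :=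
  Lgr Lrot150 (Lpe (f419765 IH) (Lpe (K48.f419763 IH) (Lpe (K28.f419638 IH) (Lpr_gt (K46.f419636 IH) (Lpr_ct (f419641 IH) (Lpr_gt (K39.f535074 IH) (Lpe (K7.f147813 IH) (Lpe (K7.f111246 IH) (Lpe (f111243 IH) (Lpn (LP (LK LD1_c30 LD2_c7 LD3_c29))))))))))))
theorem f818617 : Led Lsl_ft (LP (LK LD1_c30 LD2_c23 LD3_c42)) = (LP (LK LD1_c30 LD2_c35 LD3_c57)) :=
  Lgr Lrot2 (Lpr_gt (f535096 IH) (Lpr_gt (f806177 IH) (Lpr_af (f818613 IH) (Lpn (LP (LK LD1_c30 LD2_c35 LD3_c57))))))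
theorem f818623 : Led Lsl_ff (LP (LK LD1_c30 LD2_c23 LD3_c42)) = (LP (LK LD1_c30 LD2_c35 LD3_c57)) :=
  Lgr Lrot3 (Lpr_ft (f818617 IH) (Lpn (LP (LK LD1_c30 LD2_c35 LD3_c57))))
theorem f419767 : Led Lsl_ct (LP (LK LD1_c30 LD2_c23 LD3_c42)) = (LP (LK LD1_c22 LD2_c16 LD3_c2)) :=
  Lre_c IH (LK LD1_c30 LD2_c23 LD3_c42) (LK LD1_c22 LD2_c16 LD3_c2) Lrfl Lrfl
theorem f818627 : Led Lsl_ft (LP (LK LD1_c22 LD2_c16 LD3_c2)) = (LP (LK LD1_c23 LD2_c52 LD3_c42)) :=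
  Lgr Lrot4 (Lpe (f419767 IH) (Lpr_ff (f818623 IH) (Lpr_cf (f590144 IH) (Lpn (LP (LK LD1_c23 LD2_c52 LD3_c42))))))
theorem f475311 : Led Lsl_bt (LP (LK LD1_c23 LD2_c7 LD3_c22)) = (LP (LK LD1_c13 LD2_c41 LD3_c55)) :=
  Lre_b IH (LK LD1_c23 LD2_c7 LD3_c22) (LK LD1_c13 LD2_c41 LD3_c55) Lrfl Lrfl
theorem f473858 : Led Lsl_ct (LP (LK LD1_c30 LD2_c21 LD3_c54)) = (LP (LK LD1_c22 LD2_c13 LD3_c40)) :=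
  Lre_c IH (LK LD1_c30 LD2_c21 LD3_c54) (LK LD1_c22 LD2_c13 LD3_c40) Lrfl Lrfl
theorem f17894 : Led Lsl_gt (LP (LK LD1_c22 LD2_c33 LD3_c17)) = (LP (LK LD1_c13 LD2_c17 LD3_c26)) :=
  Lre_g IH (LK LD1_c22 LD2_c33 LD3_c17) (LK LD1_c13 LD2_c17 LD3_c26) Lrfl Lrfl
theorem f467212 : Led Lsl_ct (LP (LK LD1_c13 LD2_c33 LD3_c35)) = (LP (LK LD1_c7 LD2_c9 LD3_c39)) :=
  Lre_c IH (LK LD1_c13 LD2_c33 LD3_c35) (LK LD1_c7 LD2_c9 LD3_c39) Lrfl Lrfl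
theorem f467203 : Led Lsl_gt (LP (LK LD1_c22 LD2_c56 LD3_c27)) = (LP (LK LD1_c13 LD2_c33 LD3_c35)) :=
  Lre_g IH (LK LD1_c22 LD2_c56 LD3_c27) (LK LD1_c13 LD2_c33 LD3_c35) Lrfl Lrfl
theorem f522635 : Led Lsl_df (LP (LK LD1_c22 LD2_c33 LD3_c17)) = (LP (LK LD1_c22 LD2_c56 LD3_c27)) :=
  Lgr Lrot155 (Lpr_gt (f17894 IH) (Lpr_ct (K62.f17880 IH) (Lpe (K62.f492955 IH) (Lpr_ct (f473858 IH) (Lpr_dt (K43.f473911 IH) (Lpr_cf (K43.f522625 IH) (Lpe (K43.f488199 IH) (Lpe (f467212 IH) (Lpe (f467203 IH) (Lpn (LP (LK LD1_c22 LD2_c56 LD3_c27))))))))))))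
theorem f205919 : Led Lsl_gt (LP (LK LD1_c12 LD2_c51 LD3_c14)) = (LP (LK LD1_c7 LD2_c32 LD3_c45)) :=
  Lgr Lrot9 (Lpr_df (K44.f205916 IH) (Lpe (K4.f111497 IH) (Lpr_ct (K4.f92444 IH) (Lpr_gt (K4.f111491 IH) (Lpr_ct (K24.f116640 IH) (Lpr_df (K38.f94895 IH) (Lpe (K5.f94701 IH) (Lpe (K5.f127680 IH) (Lpr_cf (K5.f127668 IH) (Lpn (LP (LK LD1_c7 LD2_c32 LD3_c45))))))))))))
theorem f522637 : Led Lsl_ef (LP (LK LD1_c14 LD2_c22 LD3_c42)) = (LP (LK LD1_c22 LD2_c56 LD3_c27)) :=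
  Lgr Lrot17 (Lpe (K35.f17428 IH) (Lpe (K34.f17419 IH) (Lpe (K5.f93033 IH) (Lpe (f205919 IH) (Lpr_df (K44.f205916 IH) (Lpe (K2.f17803 IH) (Lpe (K4.f17883 IH) (Lpr_dt (K4.f17879 IH) (Lpe (f17894 IH) (Lpr_df (f522635 IH) (Lpn (LP (LK LD1_c22 LD2_c56 LD3_c27)))))))))))))
theorem f522641 : Led Lsl_et (LP (LK LD1_c14 LD2_c22 LD3_c42)) = (LP (LK LD1_c22 LD2_c56 LD3_c27)) :=
  Lgr Lrot87 (Lpr_ef (f522637 IH) (Lpn (LP (LK LD1_c22 LD2_c56 LD3_c27))))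
theorem f475266 : Led Lsl_et (LP (LK LD1_c23 LD2_c7 LD3_c22)) = (LP (LK LD1_c13 LD2_c41 LD3_c53)) :=
  Lre_e IH (LK LD1_c23 LD2_c7 LD3_c22) (LK LD1_c13 LD2_c41 LD3_c53) Lrfl Lrfl
theorem f522643 : Led Lsl_cf (LP (LK LD1_c23 LD2_c7 LD3_c22)) = (LP (LK LD1_c22 LD2_c56 LD3_c27)) :=
  Lgr Lrot39 (Lpr_et (f475266 IH) (Lpe (K35.f475261 IH) (Lpr_et (f522641 IH) (Lpn (LP (LK LD1_c22 LD2_c56 LD3_c27))))))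
theorem f554091 : Led Lsl_bt (LP (LK LD1_c22 LD2_c21 LD3_c60)) = (LP (LK LD1_c22 LD2_c56 LD3_c27)) :=
  Lgr Lrot128 (Lpr_cf (K48.f554089 IH) (Lpe (K34.f533451 IH) (Lpe (K40.f475309 IH) (Lpe (f475311 IH) (Lpr_cf (f522643 IH) (Lpn (LP (LK LD1_c22 LD2_c56 LD3_c27))))))))
theorem f554099 : Led Lsl_bt (LP (LK LD1_c22 LD2_c33 LD3_c17)) = (LP (LK LD1_c22 LD2_c16 LD3_c2)) :=
  Lgr Lrot95 (Lpr_df (f522635 IH) (Lpe (f554091 IH) (Lpr_df (K48.f554097 IH) (Lpn (LP (LK LD1_c22 LD2_c16 LD3_c2))))))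
theorem f818631 : Led Lsl_ff (LP (LK LD1_c22 LD2_c33 LD3_c17)) = (LP (LK LD1_c30 LD2_c34 LD3_c19)) :=
  Lgr Lrot25 (Lpr_bt (f554099 IH) (Lpr_ft (f818627 IH) (Lpe (f590142 IH) (Lpn (LP (LK LD1_c30 LD2_c34 LD3_c19))))))
theorem f818637 : Led Lsl_at (LP (LK LD1_c22 LD2_c33 LD3_c17)) = (LP (LK LD1_c24 LD2_c0 LD3_c61)) :=
  Lgr Lrot26 (Lpr_ff (f818631 IH) (Lpr_gt (f17864 IH) (Lpe (K64.f419851 IH) (Lpn (LP (LK LD1_c24 LD2_c0 LD3_c61))))))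
theorem f419855 : Led Lsl_dt (LP (LK LD1_c24 LD2_c0 LD3_c61)) = (LP (LK LD1_c14 LD2_c22 LD3_c48)) :=
  Lre_d IH (LK LD1_c24 LD2_c0 LD3_c61) (LK LD1_c14 LD2_c22 LD3_c48) Lrfl Lrfl
theorem f818643 : Led Lsl_af (LP (LK LD1_c22 LD2_c56 LD3_c27)) = (LP (LK LD1_c14 LD2_c22 LD3_c48)) :=
  Lgr Lrot117 (Lpe (f522635 IH) (Lpr_at (f818637 IH) (Lpr_dt (f419855 IH) (Lpn (LP (LK LD1_c14 LD2_c22 LD3_c48))))))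
theorem f419860 : Led Lsl_ct (LP (LK LD1_c24 LD2_c0 LD3_c57)) = (LP (LK LD1_c14 LD2_c22 LD3_c48)) :=
  Lre_c IH (LK LD1_c24 LD2_c0 LD3_c57) (LK LD1_c14 LD2_c22 LD3_c48) Lrfl Lrfl
theorem f818660 : Led Lsl_at (LP (LK LD1_c23 LD2_c7 LD3_c22)) = (LP (LK LD1_c24 LD2_c0 LD3_c57)) :=
  Lgr Lrot107 (Lpr_cf (f522643 IH) (Lpr_af (f818643 IH) (Lpe (f419860 IH) (Lpn (LP (LK LD1_c24 LD2_c0 LD3_c57))))))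
theorem f554186 : Led Lsl_bt (LP (LK LD1_c13 LD2_c32 LD3_c7)) = (LP (LK LD1_c22 LD2_c53 LD3_c54)) :=
  Lre_b IH (LK LD1_c13 LD2_c32 LD3_c7) (LK LD1_c22 LD2_c53 LD3_c54) Lrfl Lrfl
theorem f818371 : Led Lsl_ft (LP (LK LD1_c22 LD2_c53 LD3_c54)) = (LP (LK LD1_c23 LD2_c7 LD3_c22)) :=
  Lgr Lrot75 (Lpe (f554186 IH) (Lpr_ff (K64.f818369 IH) (Lpe (f475311 IH) (Lpn (LP (LK LD1_c23 LD2_c7 LD3_c22))))))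
theorem f611740 : Led Lsl_bt (LP (LK LD1_c21 LD2_c13 LD3_c54)) = (LP (LK LD1_c12 LD2_c7 LD3_c40)) :=
  Lre_b IH (LK LD1_c21 LD2_c13 LD3_c54) (LK LD1_c12 LD2_c7 LD3_c40) Lrfl Lrfl
theorem f465403 : Led Lsl_et (LP (LK LD1_c24 LD2_c0 LD3_c57)) = (LP (LK LD1_c14 LD2_c22 LD3_c46)) :=
  Lre_e IH (LK LD1_c24 LD2_c0 LD3_c57) (LK LD1_c14 LD2_c22 LD3_c46) Lrfl Lrfl
theorem f548910 : Led Lsl_bf (LP (LK LD1_c24 LD2_c0 LD3_c57)) = (LP (LK LD1_c21 LD2_c13 LD3_c44)) :=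
  Lgr Lrot96 (Lpr_et (f465403 IH) (Lpr_bt (K28.f465395 IH) (Lpr_et (K64.f548908 IH) (Lpn (LP (LK LD1_c21 LD2_c13 LD3_c44))))))
theorem f818316 : Led Lsl_ff (LP (LK LD1_c21 LD2_c13 LD3_c54)) = (LP (LK LD1_c24 LD2_c0 LD3_c57)) :=
  Lgr Lrot25 (Lpr_bt (f611740 IH) (Lpr_ft (K64.f818308 IH) (Lpe (f548910 IH) (Lpn (LP (LK LD1_c24 LD2_c0 LD3_c57))))))
theorem f818662 : Led Lsl_af (LP (LK LD1_c22 LD2_c53 LD3_c54)) = (LP (LK LD1_c21 LD2_c13 LD3_c54)) :=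
  Lgr Lrot45 (Lpr_ft (f818371 IH) (Lpr_at (f818660 IH) (Lpe (f818316 IH) (Lpn (LP (LK LD1_c21 LD2_c13 LD3_c54))))))
theorem f543517 : Led Lsl_dt (LP (LK LD1_c12 LD2_c7 LD3_c38)) = (LP (LK LD1_c21 LD2_c13 LD3_c54)) :=
  Lre_d IH (LK LD1_c12 LD2_c7 LD3_c38) (LK LD1_c21 LD2_c13 LD3_c54) Lrfl Lrfl
theorem f578187 : Led Lsl_at (LP (LK LD1_c21 LD2_c13 LD3_c52)) = (LP (LK LD1_c12 LD2_c7 LD3_c38)) :=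
  Lre_a IH (LK LD1_c21 LD2_c13 LD3_c52) (LK LD1_c12 LD2_c7 LD3_c38) Lrfl Lrfl
theorem f818666 : Led Lsl_dt (LP (LK LD1_c22 LD2_c53 LD3_c54)) = (LP (LK LD1_c21 LD2_c13 LD3_c52)) :=
  Lgr Lrot44 (Lpr_af (f818662 IH) (Lpe (f543517 IH) (Lpe (f578187 IH) (Lpn (LP (LK LD1_c21 LD2_c13 LD3_c52))))))
theorem f818668 : Led Lsl_bf (LP (LK LD1_c13 LD2_c47 LD3_c22)) = (LP (LK LD1_c21 LD2_c13 LD3_c52)) :=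
  Lgr Lrot93 (Lpe (K39.f554183 IH) (Lpr_bt (f554186 IH) (Lpr_dt (f818666 IH) (Lpn (LP (LK LD1_c21 LD2_c13 LD3_c52))))))
theorem f756688 : Led Lsl_at (LP (LK LD1_c12 LD2_c7 LD3_c38)) = (LP (LK LD1_c21 LD2_c13 LD3_c52)) :=
  Lre_a IH (LK LD1_c12 LD2_c7 LD3_c38) (LK LD1_c21 LD2_c13 LD3_c52) Lrfl Lrfl
theorem f578191 : Led Lsl_bt (LP (LK LD1_c6 LD2_c14 LD3_c42)) = (LP (LK LD1_c12 LD2_c7 LD3_c38)) :=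
  Lre_b IH (LK LD1_c6 LD2_c14 LD3_c42) (LK LD1_c12 LD2_c7 LD3_c38) Lrfl Lrfl
theorem f818755 : Led Lsl_at (LP (LK LD1_c13 LD2_c47 LD3_c22)) = (LP (LK LD1_c17 LD2_c15 LD3_c31)) :=
  Lgr Lrot67 (Lpr_bf (f818668 IH) (Lpe (f756688 IH) (Lpe (f578191 IH) (Lpr_af (K64.f756687 IH) (Lpqs (K64.f818327 IH) (Lpr_bf (K64.f608319 IH) (Lpn (LP (LK LD1_c17 LD2_c15 LD3_c31)))))))))
theorem f554189 : Led Lsl_et (LP (LK LD1_c23 LD2_c14 LD3_c53)) = (LP (LK LD1_c13 LD2_c47 LD3_c22)) :=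
  Lre_e IH (LK LD1_c23 LD2_c14 LD3_c53) (LK LD1_c13 LD2_c47 LD3_c22) Lrfl Lrfl
theorem f407974 : Led Lsl_ef (LP (LK LD1_c24 LD2_c58 LD3_c60)) = (LP (LK LD1_c17 LD2_c15 LD3_c31)) :=
  Lgr Lrot88 (Lpr_et (K40.f407971 IH) (Lpn (LP (LK LD1_c17 LD2_c15 LD3_c31))))
theorem f818757 : Led Lsl_af (LP (LK LD1_c23 LD2_c14 LD3_c53)) = (LP (LK LD1_c24 LD2_c58 LD3_c60)) :=
  Lgr Lrot50 (Lpr_et (f554189 IH) (Lpr_at (f818755 IH) (Lpe (f407974 IH) (Lpn (LP (LK LD1_c24 LD2_c58 LD3_c60))))))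
theorem f818759 : Led Lsl_at (LP (LK LD1_c23 LD2_c14 LD3_c53)) = (LP (LK LD1_c24 LD2_c58 LD3_c60)) :=
  Lgr Lrot100 (Lpr_af (f818757 IH) (Lpn (LP (LK LD1_c24 LD2_c58 LD3_c60))))
theorem f205364 : Led Lsl_et (LP (LK LD1_c18 LD2_c41 LD3_c0)) = (LP (LK LD1_c28 LD2_c12 LD3_c31)) :=
  Lre_e IH (LK LD1_c18 LD2_c41 LD3_c0) (LK LD1_c28 LD2_c12 LD3_c31) Lrfl Lrfl
theorem f407969 : Led Lsl_gf (LP (LK LD1_c24 LD2_c58 LD3_c60)) = (LP (LK LD1_c28 LD2_c12 LD3_c31)) :=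
  Lgr Lrot138 (Lpr_dt (K40.f407968 IH) (Lpr_gt (K40.f242842 IH) (Lpr_df (K37.f407959 IH) (Lpr_et (K37.f407952 IH) (Lpe (K32.f407949 IH) (Lpe (K36.f205360 IH) (Lpr_dt (K32.f205343 IH) (Lpr_gt (K47.f205354 IH) (Lpe (K64.f205363 IH) (Lpr_et (f205364 IH) (Lpn (LP (LK LD1_c28 LD2_c12 LD3_c31)))))))))))))
theorem f241167 : Led Lsl_et (LP (LK LD1_c24 LD2_c58 LD3_c57)) = (LP (LK LD1_c31 LD2_c43 LD3_c60)) :=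
  Lre_e IH (LK LD1_c24 LD2_c58 LD3_c57) (LK LD1_c31 LD2_c43 LD3_c60) Lrfl Lrfl
theorem f241169 : Led Lsl_et (LP (LK LD1_c28 LD2_c12 LD3_c31)) = (LP (LK LD1_c18 LD2_c41 LD3_c0)) :=
  Lre_e IH (LK LD1_c28 LD2_c12 LD3_c31) (LK LD1_c18 LD2_c41 LD3_c0) Lrfl Lrfl
theorem f241170 : Led Lsl_dt (LP (LK LD1_c31 LD2_c43 LD3_c60)) = (LP (LK LD1_c28 LD2_c12 LD3_c31)) :=
  Lgr Lrot77 (Lpe (f241167 IH) (Lpr_df (K47.f241162 IH) (Lpe (K64.f241168 IH) (Lpe (K64.f205363 IH) (Lpe (f241169 IH) (Lpn (LP (LK LD1_c28 LD2_c12 LD3_c31))))))))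
theorem f241161 : Led Lsl_et (LP (LK LD1_c31 LD2_c43 LD3_c60)) = (LP (LK LD1_c24 LD2_c58 LD3_c57)) :=
  Lre_e IH (LK LD1_c31 LD2_c43 LD3_c60) (LK LD1_c24 LD2_c58 LD3_c57) Lrfl Lrfl
theorem f241176 : Led Lsl_gt (LP (LK LD1_c8 LD2_c3 LD3_c17)) = (LP (LK LD1_c15 LD2_c9 LD3_c54)) :=
  Lre_g IH (LK LD1_c8 LD2_c3 LD3_c17) (LK LD1_c15 LD2_c9 LD3_c54) Lrfl Lrfl
theorem f241177 : Led Lsl_dt (LP (LK LD1_c15 LD2_c9 LD3_c54)) = (LP (LK LD1_c24 LD2_c58 LD3_c58)) :=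
  Lre_d IH (LK LD1_c15 LD2_c9 LD3_c54) (LK LD1_c24 LD2_c58 LD3_c58) Lrfl Lrfl
theorem f241178 : Led Lsl_gt (LP (LK LD1_c24 LD2_c58 LD3_c58)) = (LP (LK LD1_c28 LD2_c12 LD3_c31)) :=
  Lgr Lrot139 (Lpe (f241177 IH) (Lpe (f241176 IH) (Lpe (K67.f240516 IH) (Lpr_dt (K13.f182459 IH) (Lpe (K12.f193101 IH) (Lpe (K13.f227320 IH) (Lpr_et (K47.f227334 IH) (Lpe (K47.f241158 IH) (Lpe (f241161 IH) (Lpr_dt (f241170 IH) (Lpn (LP (LK LD1_c28 LD2_c12 LD3_c31)))))))))))))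
theorem f818765 : Led Lsl_ff (LP (LK LD1_c23 LD2_c14 LD3_c53)) = (LP (LK LD1_c24 LD2_c58 LD3_c58)) :=
  Lgr Lrot52 (Lpr_at (f818759 IH) (Lpr_gf (f407969 IH) (Lpe (f241178 IH) (Lpn (LP (LK LD1_c24 LD2_c58 LD3_c58))))))
theorem f408038 : Led Lsl_gt (LP (LK LD1_c5 LD2_c50 LD3_c49)) = (LP (LK LD1_c3 LD2_c10 LD3_c8)) :=
  Lgr Lrot46 (Lpe (K36.f239002 IH) (Lpr_ft (K36.f408036 IH) (Lpr_at (K36.f303829 IH) (Lpn (LP (LK LD1_c3 LD2_c10 LD3_c8))))))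
theorem f411244 : Led Lsl_dt (LP (LK LD1_c11 LD2_c29 LD3_c12)) = (LP (LK LD1_c8 LD2_c4 LD3_c43)) :=
  Lgr Lrot42 (Lpr_df (K37.f411236 IH) (Lpn (LP (LK LD1_c8 LD2_c4 LD3_c43))))
theorem f242803 : Led Lsl_gt (LP (LK LD1_c15 LD2_c12 LD3_c40)) = (LP (LK LD1_c8 LD2_c4 LD3_c43)) :=
  Lre_g IH (LK LD1_c15 LD2_c12 LD3_c40) (LK LD1_c8 LD2_c4 LD3_c43) Lrfl Lrfl
theorem f619114 : Led Lsl_dt (LP (LK LD1_c23 LD2_c14 LD3_c53)) = (LP (LK LD1_c15 LD2_c12 LD3_c40)) :=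
  Lgr Lrot136 (Lpr_et (f554189 IH) (Lpe (K39.f469405 IH) (Lpr_ef (K39.f554051 IH) (Lpr_dt (K36.f205196 IH) (Lpr_gf (K14.f255481 IH) (Lpe (K37.f36387 IH) (Lpe (f408038 IH) (Lpe (K39.f239090 IH) (Lpr_dt (f411244 IH) (Lpe (f242803 IH) (Lpn (LP (LK LD1_c15 LD2_c12 LD3_c40)))))))))))))
theorem f818767 : Led Lsl_ft (LP (LK LD1_c15 LD2_c12 LD3_c40)) = (LP (LK LD1_c15 LD2_c9 LD3_c54)) :=
  Lgr Lrot54 (Lpe (f619114 IH) (Lpr_ff (f818765 IH) (Lpe (f241177 IH) (Lpn (LP (LK LD1_c15 LD2_c9 LD3_c54))))))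
theorem f262432 : Led Lsl_gt (LP (LK LD1_c8 LD2_c4 LD3_c43)) = (LP (LK LD1_c15 LD2_c12 LD3_c39)) :=
  Lre_g IH (LK LD1_c8 LD2_c4 LD3_c43) (LK LD1_c15 LD2_c12 LD3_c39) Lrfl Lrfl
theorem f818775 : Led Lsl_af (LP (LK LD1_c15 LD2_c12 LD3_c39)) = (LP (LK LD1_c15 LD2_c9 LD3_c54)) :=
  Lgr Lrot31 (Lpe (f262432 IH) (Lpe (f242803 IH) (Lpr_ft (f818767 IH) (Lpn (LP (LK LD1_c15 LD2_c9 LD3_c54))))))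
theorem f407973 : Led Lsl_dt (LP (LK LD1_c15 LD2_c9 LD3_c55)) = (LP (LK LD1_c24 LD2_c58 LD3_c60)) :=
  Lre_d IH (LK LD1_c15 LD2_c9 LD3_c55) (LK LD1_c24 LD2_c58 LD3_c60) Lrfl Lrfl
theorem f818761 : Led Lsl_at (LP (LK LD1_c15 LD2_c12 LD3_c40)) = (LP (LK LD1_c15 LD2_c9 LD3_c55)) :=
  Lgr Lrot51 (Lpe (f619114 IH) (Lpr_af (f818757 IH) (Lpe (f407973 IH) (Lpn (LP (LK LD1_c15 LD2_c9 LD3_c55))))))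
theorem f818763 : Led Lsl_af (LP (LK LD1_c15 LD2_c12 LD3_c40)) = (LP (LK LD1_c15 LD2_c9 LD3_c55)) :=
  Lgr Lrot0 (Lpr_at (f818761 IH) (Lpn (LP (LK LD1_c15 LD2_c9 LD3_c55))))
theorem f818781 : Led Lsl_ft (LP (LK LD1_c15 LD2_c12 LD3_c39)) = (LP (LK LD1_c15 LD2_c9 LD3_c55)) :=
  Lgr Lrot101 (Lpr_af (f818775 IH) (Lpe (f818767 IH) (Lpr_af (f818763 IH) (Lpn (LP (LK LD1_c15 LD2_c9 LD3_c55))))))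
theorem f818785 : Led Lsl_ff (LP (LK LD1_c15 LD2_c12 LD3_c39)) = (LP (LK LD1_c15 LD2_c9 LD3_c55)) :=
  Lgr Lrot3 (Lpr_ft (f818781 IH) (Lpn (LP (LK LD1_c15 LD2_c9 LD3_c55))))
theorem f818844 : Led Lsl_bt (LP (LK LD1_c15 LD2_c12 LD3_c39)) = (LP (LK LD1_c20 LD2_c30 LD3_c57)) :=
  Lgr Lrot35 (Lpr_ff (f818785 IH) (Lpe (f608329 IH) (Lpr_ff (f818842 IH) (Lpn (LP (LK LD1_c20 LD2_c30 LD3_c57))))))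
theorem f420856 : Led Lsl_ft (LP (LK LD1_c11 LD2_c34 LD3_c47)) = (LP (LK LD1_c20 LD2_c32 LD3_c20)) :=
  Lre_f IH (LK LD1_c11 LD2_c34 LD3_c47) (LK LD1_c20 LD2_c32 LD3_c20) Lrfl Lrfl
theorem f420857 : Led Lsl_bf (LP (LK LD1_c16 LD2_c28 LD3_c2)) = (LP (LK LD1_c20 LD2_c32 LD3_c20)) :=
  Lgr Lrot61 (Lpr_ft (K64.f70813 IH) (Lpr_bt (K45.f420844 IH) (Lpr_ft (f420856 IH) (Lpn (LP (LK LD1_c20 LD2_c32 LD3_c20))))))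
theorem f70946 : Led Lsl_et (LP (LK LD1_c11 LD2_c34 LD3_c32)) = (LP (LK LD1_c20 LD2_c32 LD3_c20)) :=
  Lre_e IH (LK LD1_c11 LD2_c34 LD3_c32) (LK LD1_c20 LD2_c32 LD3_c20) Lrfl Lrfl
theorem f420864 : Led Lsl_bt (LP (LK LD1_c8 LD2_c47 LD3_c59)) = (LP (LK LD1_c11 LD2_c34 LD3_c32)) :=
  Lgr Lrot119 (Lpe (K11.f70800 IH) (Lpr_bf (f420857 IH) (Lpe (f70946 IH) (Lpn (LP (LK LD1_c11 LD2_c34 LD3_c32))))))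
theorem f619362 : Led Lsl_bt (LP (LK LD1_c8 LD2_c38 LD3_c28)) = (LP (LK LD1_c15 LD2_c10 LD3_c40)) :=
  Lgr Lrot95 (Lpr_df (K40.f70198 IH) (Lpe (K64.f617732 IH) (Lpr_df (K64.f619360 IH) (Lpn (LP (LK LD1_c15 LD2_c10 LD3_c40))))))
theorem f818879 : Led Lsl_ct (LP (LK LD1_c15 LD2_c12 LD3_c39)) = (LP (LK LD1_c18 LD2_c27 LD3_c30)) :=
  Lgr Lrot63 (Lpr_bt (f818844 IH) (Lpr_gt (f70974 IH) (Lpe (f420864 IH) (Lpr_ct (K50.f70784 IH) (Lpe (K50.f445075 IH) (Lpe (K50.f35313 IH) (Lpr_bt (f619362 IH) (Lpr_gt (K64.f197230 IH) (Lpr_ct (K16.f197218 IH) (Lpr_gt (f197227 IH) (Lpn (LP (LK LD1_c18 LD2_c27 LD3_c30)))))))))))))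
theorem f818881 : Led Lsl_cf (LP (LK LD1_c15 LD2_c12 LD3_c39)) = (LP (LK LD1_c18 LD2_c27 LD3_c30)) :=
  Lgr Lrot11 (Lpr_ct (f818879 IH) (Lpn (LP (LK LD1_c18 LD2_c27 LD3_c30))))
theorem f877994 : Led Lsl_gf (LP (LK LD1_c15 LD2_c12 LD3_c40)) = K67.v35726 :=
  Lgr Lrot47 (Lpr_gt (f242803 IH) (Lpr_af (K37.f411209 IH) (Lpr_ff (K67.f877989 IH) (Lpn K67.v35726))))
theorem f877995 : Led Lsl_gt (LP (LK LD1_c15 LD2_c12 LD3_c39)) = K67.v35726 :=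
  Lgr Lrot5 (Lpr_ft (f818781 IH) (Lpe (f818763 IH) (Lpr_gf (f877994 IH) (Lpn K67.v35726))))
theorem f407964 : Led Lsl_ft (LP (LK LD1_c21 LD2_c30 LD3_c43)) = (LP (LK LD1_c12 LD2_c23 LD3_c47)) :=
  Lre_f IH (LK LD1_c21 LD2_c30 LD3_c43) (LK LD1_c12 LD2_c23 LD3_c47) Lrfl Lrfl
theorem f877987 : Led Lsl_df (LP (LK LD1_c21 LD2_c30 LD3_c43)) = K67.v35726 :=
  Lgr Lrot78 (Lpr_ft (f407964 IH) (Lpe (K37.f407959 IH) (Lpr_ft (K67.f877984 IH) (Lpn K67.v35726))))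
theorem f411262 : Led Lsl_gf (LP (LK LD1_c20 LD2_c26 LD3_c18)) = (LP (LK LD1_c21 LD2_c30 LD3_c43)) :=
  Lgr Lrot47 (Lpr_gt (K37.f411248 IH) (Lpr_af (K39.f411234 IH) (Lpe (f407964 IH) (Lpn (LP (LK LD1_c21 LD2_c30 LD3_c43))))))
theorem f411251 : Led Lsl_dt (LP (LK LD1_c20 LD2_c26 LD3_c18)) = (LP (LK LD1_c25 LD2_c1 LD3_c59)) :=
  Lgr Lrot42 (Lpr_df (K37.f411249 IH) (Lpn (LP (LK LD1_c25 LD2_c1 LD3_c59))))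
theorem f240122 : Led Lsl_dt (LP (LK LD1_c25 LD2_c0 LD3_c26)) = (LP (LK LD1_c31 LD2_c44 LD3_c25)) :=
  Lre_d IH (LK LD1_c25 LD2_c0 LD3_c26) (LK LD1_c31 LD2_c44 LD3_c25) Lrfl Lrfl
theorem f272095 : Led Lsl_dt (LP (LK LD1_c25 LD2_c0 LD3_c25)) = (LP (LK LD1_c15 LD2_c11 LD3_c18)) :=
  Lre_d IH (LK LD1_c25 LD2_c0 LD3_c25) (LK LD1_c15 LD2_c11 LD3_c18) Lrfl Lrfl
theorem f197212 : Led Lsl_dt (LP (LK LD1_c10 LD2_c8 LD3_c1)) = (LP (LK LD1_c18 LD2_c27 LD3_c32)) :=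
  Lre_d IH (LK LD1_c10 LD2_c8 LD3_c1) (LK LD1_c18 LD2_c27 LD3_c32) Lrfl Lrfl
theorem f411128 : Led Lsl_af (LP (LK LD1_c25 LD2_c0 LD3_c25)) = (LP (LK LD1_c18 LD2_c27 LD3_c32)) :=
  Lgr Lrot117 (Lpr_dt (f272095 IH) (Lpr_at (f411123 IH) (Lpr_dt (f197212 IH) (Lpn (LP (LK LD1_c18 LD2_c27 LD3_c32))))))
theorem f411132 : Led Lsl_at (LP (LK LD1_c25 LD2_c0 LD3_c25)) = (LP (LK LD1_c18 LD2_c27 LD3_c32)) :=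
  Lgr Lrot100 (Lpr_af (f411128 IH) (Lpn (LP (LK LD1_c18 LD2_c27 LD3_c32))))
theorem f411145 : Led Lsl_ft (LP (LK LD1_c31 LD2_c44 LD3_c25)) = (LP (LK LD1_c25 LD2_c0 LD3_c25)) :=
  Lre_f IH (LK LD1_c31 LD2_c44 LD3_c25) (LK LD1_c25 LD2_c0 LD3_c25) Lrfl Lrfl
theorem f197229 : Led Lsl_gt (LP (LK LD1_c28 LD2_c2 LD3_c34)) = (LP (LK LD1_c18 LD2_c27 LD3_c32)) :=
  Lre_g IH (LK LD1_c28 LD2_c2 LD3_c34) (LK LD1_c18 LD2_c27 LD3_c32) Lrfl Lrfl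
theorem f411146 : Led Lsl_gt (LP (LK LD1_c31 LD2_c44 LD3_c25)) = (LP (LK LD1_c28 LD2_c2 LD3_c34)) :=
  Lgr Lrot5 (Lpr_ft (f411145 IH) (Lpr_at (f411132 IH) (Lpe (f197229 IH) (Lpn (LP (LK LD1_c28 LD2_c2 LD3_c34))))))
theorem f197192 : Led Lsl_et (LP (LK LD1_c5 LD2_c8 LD3_c59)) = (LP (LK LD1_c10 LD2_c8 LD3_c27)) :=
  Lre_e IH (LK LD1_c5 LD2_c8 LD3_c59) (LK LD1_c10 LD2_c8 LD3_c27) Lrfl Lrfl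
theorem f240002 : Led Lsl_gt (LP (LK LD1_c10 LD2_c8 LD3_c27)) = (LP (LK LD1_c18 LD2_c28 LD3_c18)) :=
  Lre_g IH (LK LD1_c10 LD2_c8 LD3_c27) (LK LD1_c18 LD2_c28 LD3_c18) Lrfl Lrfl
theorem f287307 : Led Lsl_et (LP (LK LD1_c28 LD2_c3 LD3_c10)) = (LP (LK LD1_c18 LD2_c28 LD3_c18)) :=
  Lre_e IH (LK LD1_c28 LD2_c3 LD3_c10) (LK LD1_c18 LD2_c28 LD3_c18) Lrfl Lrfl
theorem f421126 : Led Lsl_dt (LP (LK LD1_c28 LD2_c3 LD3_c10)) = (LP (LK LD1_c28 LD2_c2 LD3_c34)) :=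
  Lgr Lrot136 (Lpr_et (f287307 IH) (Lpe (f240002 IH) (Lpe (f197192 IH) (Lpr_dt (K13.f197178 IH) (Lpe (K12.f197174 IH) (Lpe (K1.f27841 IH) (Lpr_gf (K10.f197205 IH) (Lpe (K16.f197211 IH) (Lpr_dt (f197212 IH) (Lpe (f197229 IH) (Lpn (LP (LK LD1_c28 LD2_c2 LD3_c34)))))))))))))
theorem f421128 : Led Lsl_df (LP (LK LD1_c28 LD2_c3 LD3_c10)) = (LP (LK LD1_c28 LD2_c2 LD3_c34)) :=
  Lgr Lrot38 (Lpr_dt (f421126 IH) (Lpn (LP (LK LD1_c28 LD2_c2 LD3_c34))))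
theorem f933144 : Led Lsl_ct (LP (LK LD1_c25 LD2_c1 LD3_c59)) = (LP (LK LD1_c28 LD2_c3 LD3_c10)) :=
  Lgr Lrot7 (Lpe (f411251 IH) (Lpr_gf (f411262 IH) (Lpr_df (f877987 IH) (Lpe (f877995 IH) (Lpr_cf (f818881 IH) (Lpr_gt (f933140 IH) (Lpr_dt (f240122 IH) (Lpr_gt (f411146 IH) (Lpe (f421128 IH) (Lpn (LP (LK LD1_c28 LD2_c3 LD3_c10))))))))))))
theorem f933145 : Led Lsl_ct (LP (LK LD1_c25 LD2_c1 LD3_c59)) = (LP (LK LD1_c28 LD2_c3 LD3_c10)) :=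
  Leop (Lpe (f933144 IH) (Lpn (LP (LK LD1_c25 LD2_c1 LD3_c59))))
theorem seed_2603 : LEOK LG_c (LK LD1_c25 LD2_c1 LD3_c59) :=
  Leoe_c (LK LD1_c25 LD2_c1 LD3_c59) (f933145 IH)
theorem f407977 : Led Lsl_ct (LP (LK LD1_c24 LD2_c58 LD3_c59)) = (LP (LK LD1_c15 LD2_c9 LD3_c55)) :=
  Lre_c IH (LK LD1_c24 LD2_c58 LD3_c59) (LK LD1_c15 LD2_c9 LD3_c55) Lrfl Lrfl
theorem f818883 : Led Lsl_ff (LP (LK LD1_c24 LD2_c58 LD3_c59)) = (LP (LK LD1_c18 LD2_c27 LD3_c30)) :=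
  Lgr Lrot23 (Lpr_ct (f407977 IH) (Lpe (f818785 IH) (Lpr_ct (f818879 IH) (Lpn (LP (LK LD1_c18 LD2_c27 LD3_c30))))))
theorem f197232 : Led Lsl_gt (LP (LK LD1_c18 LD2_c27 LD3_c31)) = (LP (LK LD1_c10 LD2_c8 LD3_c1)) :=
  Lre_g IH (LK LD1_c18 LD2_c27 LD3_c31) (LK LD1_c10 LD2_c8 LD3_c1) Lrfl Lrfl
theorem f411130 : Led Lsl_gt (LP (LK LD1_c25 LD2_c0 LD3_c26)) = (LP (LK LD1_c18 LD2_c27 LD3_c31)) :=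
  Lgr Lrot5 (Lpr_ft (K16.f240119 IH) (Lpr_at (f411123 IH) (Lpe (f197232 IH) (Lpn (LP (LK LD1_c18 LD2_c27 LD3_c31))))))
theorem f933142 : Led Lsl_at (LP (LK LD1_c24 LD2_c58 LD3_c59)) = (LP (LK LD1_c18 LD2_c27 LD3_c31)) :=
  Lgr Lrot26 (Lpr_ff (f818883 IH) (Lpr_gt (f933140 IH) (Lpr_gt (f411130 IH) (Lpn (LP (LK LD1_c18 LD2_c27 LD3_c31))))))
theorem f407976 : Led Lsl_ct (LP (LK LD1_c15 LD2_c9 LD3_c55)) = (LP (LK LD1_c24 LD2_c58 LD3_c59)) :=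
  Lre_c IH (LK LD1_c15 LD2_c9 LD3_c55) (LK LD1_c24 LD2_c58 LD3_c59) Lrfl Lrfl
theorem f933177 : Led Lsl_cf (LP (LK LD1_c15 LD2_c12 LD3_c40)) = (LP (LK LD1_c18 LD2_c27 LD3_c31)) :=
  Lgr Lrot1 (Lpr_at (f818761 IH) (Lpr_ct (f407976 IH) (Lpr_at (f933142 IH) (Lpn (LP (LK LD1_c18 LD2_c27 LD3_c31))))))
theorem f933179 : Led Lsl_ct (LP (LK LD1_c15 LD2_c12 LD3_c40)) = (LP (LK LD1_c18 LD2_c27 LD3_c31)) :=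
  Lgr Lrot59 (Lpr_cf (f933177 IH) (Lpn (LP (LK LD1_c18 LD2_c27 LD3_c31))))
theorem f160620 : Led Lsl_cf (LP (LK LD1_c8 LD2_c1 LD3_c14)) = (LP (LK LD1_c7 LD2_c29 LD3_c10)) :=
  Lgr Lrot11 (Lpr_ct (K67.f160616 IH) (Lpn (LP (LK LD1_c7 LD2_c29 LD3_c10))))
theorem f159836 : Led Lsl_gt (LP (LK LD1_c14 LD2_c7 LD3_c56)) = (LP (LK LD1_c7 LD2_c29 LD3_c10)) :=
  Lre_g IH (LK LD1_c14 LD2_c7 LD3_c56) (LK LD1_c7 LD2_c29 LD3_c10) Lrfl Lrfl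
theorem f933181 : Led Lsl_ct (LP (LK LD1_c20 LD2_c26 LD3_c18)) = (LP (LK LD1_c14 LD2_c7 LD3_c56)) :=
  Lgr Lrot152 (Lpr_gf (f411262 IH) (Lpr_df (f877987 IH) (Lpe (f877994 IH) (Lpr_ct (f933179 IH) (Lpr_gt (f197232 IH) (Lpe (f197223 IH) (Lpr_df (K35.f538627 IH) (Lpr_cf (f160620 IH) (Lpe (f159836 IH) (Lpn (LP (LK LD1_c14 LD2_c7 LD3_c56))))))))))))
theorem f933182 : Led Lsl_ct (LP (LK LD1_c20 LD2_c26 LD3_c18)) = (LP (LK LD1_c14 LD2_c7 LD3_c56)) :=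
  Leop (Lpe (f933181 IH) (Lpn (LP (LK LD1_c20 LD2_c26 LD3_c18))))
theorem seed_2604 : LEOK LG_c (LK LD1_c20 LD2_c26 LD3_c18) :=
  Leoe_c (LK LD1_c20 LD2_c26 LD3_c18) (f933182 IH)
theorem f933139 : Led Lsl_ff (LP (LK LD1_c10 LD2_c8 LD3_c1)) = v42266 :=
  Lgr Lrot3 (Lpr_ft (f933136 IH) (Lpn v42266))
theorem f933186 : Led Lsl_ct (LP (LK LD1_c15 LD2_c10 LD3_c41)) = v42266 :=
  Lgr Lrot40 (Lpe (K16.f197235 IH) (Lpr_cf (f197223 IH) (Lpr_ff (f933139 IH) (Lpn v42266))))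
theorem f619358 : Led Lsl_bf (LP (LK LD1_c8 LD2_c38 LD3_c28)) = (LP (LK LD1_c15 LD2_c10 LD3_c40)) :=
  Lgr Lrot93 (Lpr_dt (K61.f70204 IH) (Lpe (K64.f617730 IH) (Lpr_dt (K64.f619356 IH) (Lpn (LP (LK LD1_c15 LD2_c10 LD3_c40))))))
theorem f763272 : Led Lsl_af (LP (LK LD1_c8 LD2_c38 LD3_c27)) = (LP (LK LD1_c8 LD2_c39 LD3_c7)) :=
  Lgr Lrot0 (Lpr_at (K68.f763270 IH) (Lpn (LP (LK LD1_c8 LD2_c39 LD3_c7))))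
theorem f763302 : Led Lsl_ft (LP (LK LD1_c8 LD2_c38 LD3_c28)) = (LP (LK LD1_c8 LD2_c39 LD3_c7)) :=
  Lgr Lrot101 (Lpr_af (K68.f763296 IH) (Lpe (K68.f763288 IH) (Lpr_af (f763272 IH) (Lpn (LP (LK LD1_c8 LD2_c39 LD3_c7))))))
theorem f763973 : Led Lsl_bf (LP (LK LD1_c15 LD2_c13 LD3_c45)) = (LP (LK LD1_c8 LD2_c39 LD3_c7)) :=
  Lgr Lrot61 (Lpr_ft (K64.f763651 IH) (Lpe (f619358 IH) (Lpr_ft (f763302 IH) (Lpn (LP (LK LD1_c8 LD2_c39 LD3_c7))))))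
theorem f31952 : Led Lsl_ct (LP (LK LD1_c8 LD2_c39 LD3_c7)) = (LP (LK LD1_c16 LD2_c12 LD3_c19)) :=
  Lre_c IH (LK LD1_c8 LD2_c39 LD3_c7) (LK LD1_c16 LD2_c12 LD3_c19) Lrfl Lrfl
theorem f607064 : Led Lsl_cf (LP (LK LD1_c4 LD2_c24 LD3_c54)) = (LP (LK LD1_c7 LD2_c56 LD3_c53)) :=
  Lgr Lrot11 (Lpr_ct (K68.f607062 IH) (Lpn (LP (LK LD1_c7 LD2_c56 LD3_c53))))
theorem f37021 : Led Lsl_ct (LP (LK LD1_c24 LD2_c47 LD3_c15)) = (LP (LK LD1_c14 LD2_c59 LD3_c54)) :=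
  Lre_c IH (LK LD1_c24 LD2_c47 LD3_c15) (LK LD1_c14 LD2_c59 LD3_c54) Lrfl Lrfl
theorem f607068 : Led Lsl_gf (LP (LK LD1_c24 LD2_c47 LD3_c15)) = (LP (LK LD1_c16 LD2_c12 LD3_c19)) :=
  Lgr Lrot104 (Lpr_ct (f37021 IH) (Lpe (K11.f38618 IH) (Lpr_cf (K6.f70279 IH) (Lpe (K68.f445720 IH) (Lpr_cf (f607064 IH) (Lpe (K37.f35603 IH) (Lpe (K37.f35777 IH) (Lpr_gt (K64.f31948 IH) (Lpr_ct (f31952 IH) (Lpn (LP (LK LD1_c16 LD2_c12 LD3_c19))))))))))))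
theorem f201930 : Led Lsl_at (LP (LK LD1_c16 LD2_c28 LD3_c1)) = (LP (LK LD1_c24 LD2_c47 LD3_c15)) :=
  Lgr Lrot107 (Lpe (K50.f70784 IH) (Lpr_af (K11.f201926 IH) (Lpe (f37021 IH) (Lpn (LP (LK LD1_c24 LD2_c47 LD3_c15))))))
theorem f418294 : Led Lsl_ft (LP (LK LD1_c8 LD2_c47 LD3_c58)) = (LP (LK LD1_c16 LD2_c28 LD3_c1)) :=
  Lre_f IH (LK LD1_c8 LD2_c47 LD3_c58) (LK LD1_c16 LD2_c28 LD3_c1) Lrfl Lrfl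
theorem f607070 : Led Lsl_gt (LP (LK LD1_c8 LD2_c47 LD3_c58)) = (LP (LK LD1_c16 LD2_c12 LD3_c19)) :=
  Lgr Lrot5 (Lpr_ft (f418294 IH) (Lpr_at (f201930 IH) (Lpr_gf (f607068 IH) (Lpn (LP (LK LD1_c16 LD2_c12 LD3_c19))))))
theorem f211184 : Led Lsl_ct (LP (LK LD1_c4 LD2_c25 LD3_c9)) = (LP (LK LD1_c8 LD2_c47 LD3_c58)) :=
  Lre_c IH (LK LD1_c4 LD2_c25 LD3_c9) (LK LD1_c8 LD2_c47 LD3_c58) Lrfl Lrfl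
theorem f56357 : Led Lsl_dt (LP (LK LD1_c2 LD2_c9 LD3_c61)) = (LP (LK LD1_c4 LD2_c25 LD3_c9)) :=
  Lre_d IH (LK LD1_c2 LD2_c9 LD3_c61) (LK LD1_c4 LD2_c25 LD3_c9) Lrfl Lrfl
theorem f72221 : Led Lsl_bt (LP (LK LD1_c4 LD2_c25 LD3_c9)) = (LP (LK LD1_c5 LD2_c54 LD3_c18)) :=
  Lgr Lrot95 (Lpe (f56357 IH) (Lpr_bf (K2.f72210 IH) (Lpe (K65.f72220 IH) (Lpn (LP (LK LD1_c5 LD2_c54 LD3_c18))))))
theorem f933187 : Led Lsl_gf (LP (LK LD1_c24 LD2_c58 LD3_c59)) = v42266 :=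
  Lgr Lrot129 (Lpe (f407976 IH) (Lpe (f608327 IH) (Lpr_gt (K43.f101818 IH) (Lpe (f72221 IH) (Lpr_ct (f211184 IH) (Lpr_gt (f607070 IH) (Lpe (f31952 IH) (Lpe (f763973 IH) (Lpr_gt (K47.f411121 IH) (Lpr_ct (f933186 IH) (Lpn v42266)))))))))))
theorem f933188 : Led Lsl_gt (LP (LK LD1_c24 LD2_c58 LD3_c59)) = (LP (LK LD1_c15 LD2_c11 LD3_c18)) :=
  Lgr Lrot46 (Lpr_gf (f933187 IH) (Lpe (f933139 IH) (Lpe (K16.f239939 IH) (Lpn (LP (LK LD1_c15 LD2_c11 LD3_c18))))))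
theorem f933189 : Led Lsl_gt (LP (LK LD1_c24 LD2_c58 LD3_c59)) = (LP (LK LD1_c15 LD2_c11 LD3_c18)) :=
  Leop (Lpe (f933188 IH) (Lpn (LP (LK LD1_c24 LD2_c58 LD3_c59))))
theorem seed_2605 : LEOK LG_g (LK LD1_c24 LD2_c58 LD3_c59) :=
  Leoe_g (LK LD1_c24 LD2_c58 LD3_c59) (f933189 IH)
def v42324 : LQ := Led Lsl_gt (LP (LK LD1_c10 LD2_c9 LD3_c22))
theorem f933402 : Led Lsl_gt (LP (LK LD1_c10 LD2_c9 LD3_c22)) = v42324 :=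
  Lrfl
theorem f933403 : Led Lsl_gf (LP (LK LD1_c25 LD2_c1 LD3_c25)) = v42324 :=
  Lgr Lrot76 (Lpe (K44.f410279 IH) (Lpe (K44.f410278 IH) (Lpr_gt (f933402 IH) (Lpn v42324))))
theorem f262418 : Led Lsl_cf (LP (LK LD1_c4 LD2_c2 LD3_c3)) = (LP (LK LD1_c8 LD2_c4 LD3_c33)) :=
  Lgr Lrot169 (Lpe (K37.f242131 IH) (Lpr_ct (K10.f46652 IH) (Lpe (K1.f27873 IH) (Lpe (K1.f27872 IH) (Lpe (K12.f27849 IH) (Lpr_cf (K15.f229093 IH) (Lpr_gf (K13.f229086 IH) (Lpe (K12.f34029 IH) (Lpr_gt (K20.f262404 IH) (Lpn (LP (LK LD1_c8 LD2_c4 LD3_c33))))))))))))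
theorem f262421 : Led Lsl_ct (LP (LK LD1_c8 LD2_c4 LD3_c43)) = (LP (LK LD1_c15 LD2_c12 LD3_c24)) :=
  Lgr Lrot15 (Lpe (K37.f242802 IH) (Lpr_cf (f262418 IH) (Lpe (K44.f242122 IH) (Lpn (LP (LK LD1_c15 LD2_c12 LD3_c24))))))
theorem f262430 : Led Lsl_cf (LP (LK LD1_c15 LD2_c12 LD3_c41)) = (LP (LK LD1_c25 LD2_c1 LD3_c25)) :=
  Lgr Lrot108 (Lpr_ft (K40.f262428 IH) (Lpr_ct (f262421 IH) (Lpr_ft (K67.f262429 IH) (Lpn (LP (LK LD1_c25 LD2_c1 LD3_c25))))))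
theorem f159482 : Led Lsl_gt (LP (LK LD1_c23 LD2_c34 LD3_c40)) = (LP (LK LD1_c14 LD2_c1 LD3_c60)) :=
  Lre_g IH (LK LD1_c23 LD2_c34 LD3_c40) (LK LD1_c14 LD2_c1 LD3_c60) Lrfl Lrfl
theorem f933404 : Led Lsl_ct (LP (LK LD1_c15 LD2_c10 LD3_c39)) = v42324 :=
  Lgr Lrot152 (Lpe (K64.f197226 IH) (Lpr_df (K35.f538627 IH) (Lpr_gt (K64.f142262 IH) (Lpe (K64.f608268 IH) (Lpr_gt (f159482 IH) (Lpe (K67.f554271 IH) (Lpr_df (K50.f411259 IH) (Lpr_cf (f262430 IH) (Lpr_gf (f933403 IH) (Lpn v42324))))))))))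
theorem f193422 : Led Lsl_gt (LP (LK LD1_c15 LD2_c13 LD3_c46)) = (LP (LK LD1_c8 LD2_c5 LD3_c16)) :=
  Lre_g IH (LK LD1_c15 LD2_c13 LD3_c46) (LK LD1_c8 LD2_c5 LD3_c16) Lrfl Lrfl
theorem f411125 : Led Lsl_gf (LP (LK LD1_c15 LD2_c13 LD3_c46)) = (LP (LK LD1_c15 LD2_c10 LD3_c41)) :=
  Lgr Lrot47 (Lpr_gt (f193422 IH) (Lpr_af (K67.f272099 IH) (Lpe (K16.f197225 IH) (Lpn (LP (LK LD1_c15 LD2_c10 LD3_c41))))))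
theorem f763975 : Led Lsl_af (LP (LK LD1_c15 LD2_c13 LD3_c46)) = (LP (LK LD1_c15 LD2_c10 LD3_c40)) :=
  Lgr Lrot31 (Lpr_gf (f411125 IH) (Lpe (K47.f411121 IH) (Lpr_ft (K64.f763651 IH) (Lpn (LP (LK LD1_c15 LD2_c10 LD3_c40))))))
theorem f763977 : Led Lsl_at (LP (LK LD1_c15 LD2_c13 LD3_c46)) = (LP (LK LD1_c15 LD2_c10 LD3_c40)) :=
  Lgr Lrot100 (Lpr_af (f763975 IH) (Lpn (LP (LK LD1_c15 LD2_c10 LD3_c40))))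
theorem f272106 : Led Lsl_gt (LP (LK LD1_c15 LD2_c13 LD3_c47)) = (LP (LK LD1_c15 LD2_c10 LD3_c40)) :=
  Lgr Lrot5 (Lpr_ft (K16.f272087 IH) (Lpr_at (K16.f272091 IH) (Lpe (K64.f197230 IH) (Lpn (LP (LK LD1_c15 LD2_c10 LD3_c40))))))
theorem f763979 : Led Lsl_ff (LP (LK LD1_c15 LD2_c13 LD3_c46)) = (LP (LK LD1_c15 LD2_c10 LD3_c39)) :=
  Lgr Lrot52 (Lpr_at (f763977 IH) (Lpe (f272106 IH) (Lpr_gf (K64.f272112 IH) (Lpn (LP (LK LD1_c15 LD2_c10 LD3_c39))))))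
theorem f763983 : Led Lsl_ft (LP (LK LD1_c15 LD2_c13 LD3_c46)) = (LP (LK LD1_c15 LD2_c10 LD3_c39)) :=
  Lgr Lrot48 (Lpr_ff (f763979 IH) (Lpn (LP (LK LD1_c15 LD2_c10 LD3_c39))))
theorem f56423 : Led Lsl_ct (LP (LK LD1_c17 LD2_c9 LD3_c20)) = (LP (LK LD1_c9 LD2_c14 LD3_c56)) :=
  Lre_c IH (LK LD1_c17 LD2_c9 LD3_c20) (LK LD1_c9 LD2_c14 LD3_c56) Lrfl Lrfl
theorem f59786 : Led Lsl_ct (LP (LK LD1_c12 LD2_c22 LD3_c42)) = (LP (LK LD1_c21 LD2_c29 LD3_c30)) :=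
  Lre_c IH (LK LD1_c12 LD2_c22 LD3_c42) (LK LD1_c21 LD2_c29 LD3_c30) Lrfl Lrfl
theorem f607737 : Led Lsl_gf (LP (LK LD1_c17 LD2_c9 LD3_c20)) = (LP (LK LD1_c21 LD2_c29 LD3_c30)) :=
  Lgr Lrot104 (Lpr_ct (f56423 IH) (Lpe (K37.f56421 IH) (Lpr_cf (K68.f607730 IH) (Lpe (K68.f443171 IH) (Lpe (K10.f81137 IH) (Lpe (K40.f81449 IH) (Lpe (K47.f59747 IH) (Lpr_gt (K46.f59735 IH) (Lpr_ct (f59786 IH) (Lpn (LP (LK LD1_c21 LD2_c29 LD3_c30))))))))))))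
theorem f81225 : Led Lsl_dt (LP (LK LD1_c3 LD2_c3 LD3_c61)) = (LP (LK LD1_c4 LD2_c2 LD3_c24)) :=
  Lgr Lrot42 (Lpr_df (K32.f81206 IH) (Lpn (LP (LK LD1_c4 LD2_c2 LD3_c24))))
theorem f34243 : Led Lsl_gt (LP (LK LD1_c25 LD2_c2 LD3_c59)) = (LP (LK LD1_c15 LD2_c13 LD3_c58)) :=
  Lre_g IH (LK LD1_c25 LD2_c2 LD3_c59) (LK LD1_c15 LD2_c13 LD3_c58) Lrfl Lrfl
theorem f607739 : Led Lsl_dt (LP (LK LD1_c17 LD2_c9 LD3_c20)) = (LP (LK LD1_c25 LD2_c2 LD3_c59)) :=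
  Lgr Lrot57 (Lpr_gf (f607737 IH) (Lpe (f59786 IH) (Lpr_gt (K46.f607031 IH) (Lpr_dt (K46.f81236 IH) (Lpr_gt (K46.f70201 IH) (Lpr_dt (f81225 IH) (Lpe (K10.f34439 IH) (Lpe (K10.f34242 IH) (Lpe (f34243 IH) (Lpn (LP (LK LD1_c25 LD2_c2 LD3_c59))))))))))))
theorem f34234 : Led Lsl_et (LP (LK LD1_c8 LD2_c5 LD3_c20)) = (LP (LK LD1_c4 LD2_c2 LD3_c23)) :=
  Lre_e IH (LK LD1_c8 LD2_c5 LD3_c20) (LK LD1_c4 LD2_c2 LD3_c23) Lrfl Lrfl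
theorem f262420 : Led Lsl_dt (LP (LK LD1_c15 LD2_c12 LD3_c24)) = (LP (LK LD1_c25 LD2_c1 LD3_c24)) :=
  Lre_d IH (LK LD1_c15 LD2_c12 LD3_c24) (LK LD1_c25 LD2_c1 LD3_c24) Lrfl Lrfl
theorem f246852 : Led Lsl_gt (LP (LK LD1_c25 LD2_c1 LD3_c24)) = (LP (LK LD1_c31 LD2_c44 LD3_c36)) :=
  Lre_g IH (LK LD1_c25 LD2_c1 LD3_c24) (LK LD1_c31 LD2_c44 LD3_c36) Lrfl Lrfl
theorem f568140 : Led Lsl_et (LP (LK LD1_c30 LD2_c2 LD3_c54)) = (LP (LK LD1_c21 LD2_c29 LD3_c30)) :=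
  Lre_e IH (LK LD1_c30 LD2_c2 LD3_c54) (LK LD1_c21 LD2_c29 LD3_c30) Lrfl Lrfl
theorem f607742 : Led Lsl_df (LP (LK LD1_c31 LD2_c44 LD3_c36)) = (LP (LK LD1_c30 LD2_c2 LD3_c54)) :=
  Lgr Lrot168 (Lpe (f246852 IH) (Lpe (f262420 IH) (Lpr_et (K44.f242122 IH) (Lpe (K20.f262404 IH) (Lpe (f34234 IH) (Lpr_dt (K10.f34032 IH) (Lpe (f34243 IH) (Lpe (f607739 IH) (Lpr_gf (f607737 IH) (Lpe (f568140 IH) (Lpn (LP (LK LD1_c30 LD2_c2 LD3_c54)))))))))))))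
theorem f607744 : Led Lsl_dt (LP (LK LD1_c31 LD2_c44 LD3_c36)) = (LP (LK LD1_c30 LD2_c2 LD3_c54)) :=
  Lgr Lrot42 (Lpr_df (f607742 IH) (Lpn (LP (LK LD1_c30 LD2_c2 LD3_c54))))
theorem f242129 : Led Lsl_gt (LP (LK LD1_c25 LD2_c1 LD3_c23)) = (LP (LK LD1_c15 LD2_c12 LD3_c24)) :=
  Lre_g IH (LK LD1_c25 LD2_c1 LD3_c23) (LK LD1_c15 LD2_c12 LD3_c24) Lrfl Lrfl
theorem f607210 : Led Lsl_ct (LP (LK LD1_c21 LD2_c29 LD3_c29)) = (LP (LK LD1_c30 LD2_c2 LD3_c54)) :=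
  Lre_c IH (LK LD1_c21 LD2_c29 LD3_c29) (LK LD1_c30 LD2_c2 LD3_c54) Lrfl Lrfl
theorem f607209 : Led Lsl_dt (LP (LK LD1_c12 LD2_c22 LD3_c40)) = (LP (LK LD1_c21 LD2_c29 LD3_c29)) :=
  Lre_d IH (LK LD1_c12 LD2_c22 LD3_c40) (LK LD1_c21 LD2_c29 LD3_c29) Lrfl Lrfl
theorem f607748 : Led Lsl_ct (LP (LK LD1_c25 LD2_c1 LD3_c23)) = (LP (LK LD1_c15 LD2_c13 LD3_c46)) :=
  Lgr Lrot8 (Lpr_gt (f242129 IH) (Lpr_dt (f262420 IH) (Lpr_gt (f246852 IH) (Lpr_dt (f607744 IH) (Lpe (f607210 IH) (Lpe (f607209 IH) (Lpr_gf (K67.f607033 IH) (Lpe (K67.f538629 IH) (Lpe (f193422 IH) (Lpn (LP (LK LD1_c15 LD2_c13 LD3_c46))))))))))))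
theorem f933407 : Led Lsl_ff (LP (LK LD1_c25 LD2_c1 LD3_c23)) = v42324 :=
  Lgr Lrot23 (Lpr_ct (f607748 IH) (Lpr_ft (f763983 IH) (Lpr_ct (f933404 IH) (Lpn v42324))))
theorem f242334 : Led Lsl_gt (LP (LK LD1_c18 LD2_c30 LD3_c2)) = (LP (LK LD1_c10 LD2_c9 LD3_c22)) :=
  Lre_g IH (LK LD1_c18 LD2_c30 LD3_c2) (LK LD1_c10 LD2_c9 LD3_c22) Lrfl Lrfl
theorem f410281 : Led Lsl_gf (LP (LK LD1_c18 LD2_c30 LD3_c2)) = (LP (LK LD1_c25 LD2_c1 LD3_c25)) :=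
  Lgr Lrot47 (Lpr_gt (f242334 IH) (Lpr_af (K44.f410272 IH) (Lpe (K44.f262442 IH) (Lpn (LP (LK LD1_c25 LD2_c1 LD3_c25))))))
theorem f933409 : Led Lsl_at (LP (LK LD1_c25 LD2_c1 LD3_c23)) = (LP (LK LD1_c18 LD2_c30 LD3_c2)) :=
  Lgr Lrot26 (Lpr_ff (f933407 IH) (Lpe (f933403 IH) (Lpe (f410281 IH) (Lpn (LP (LK LD1_c18 LD2_c30 LD3_c2))))))
theorem f933410 : Led Lsl_at (LP (LK LD1_c25 LD2_c1 LD3_c23)) = (LP (LK LD1_c18 LD2_c30 LD3_c2)) :=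
  Leop (Lpe (f933409 IH) (Lpn (LP (LK LD1_c25 LD2_c1 LD3_c23))))
theorem seed_2606 : LEOK LG_a (LK LD1_c25 LD2_c1 LD3_c23) :=
  Leoe_a (LK LD1_c25 LD2_c1 LD3_c23) (f933410 IH)
def v42451 : LQ := Led Lsl_ft (LP (LK LD1_c10 LD2_c12 LD3_c29))
theorem f934095 : Led Lsl_ft (LP (LK LD1_c10 LD2_c12 LD3_c29)) = v42451 :=
  Lrfl
theorem f934097 : Led Lsl_ff (LP (LK LD1_c10 LD2_c12 LD3_c29)) = v42451 :=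
  Lgr Lrot3 (Lpr_ft (f934095 IH) (Lpn v42451))
theorem f268021 : Led Lsl_et (LP (LK LD1_c18 LD2_c59 LD3_c13)) = (LP (LK LD1_c10 LD2_c28 LD3_c35)) :=
  Lre_e IH (LK LD1_c18 LD2_c59 LD3_c13) (LK LD1_c10 LD2_c28 LD3_c35) Lrfl Lrfl
theorem f185533 : Led Lsl_et (LP (LK LD1_c10 LD2_c26 LD3_c30)) = (LP (LK LD1_c18 LD2_c56 LD3_c12)) :=
  Lre_e IH (LK LD1_c10 LD2_c26 LD3_c30) (LK LD1_c18 LD2_c56 LD3_c12) Lrfl Lrfl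
theorem f268022 : Led Lsl_af (LP (LK LD1_c18 LD2_c59 LD3_c13)) = (LP (LK LD1_c18 LD2_c56 LD3_c12)) :=
  Lgr Lrot50 (Lpr_et (f268021 IH) (Lpr_at (K15.f268013 IH) (Lpr_et (f185533 IH) (Lpn (LP (LK LD1_c18 LD2_c56 LD3_c12))))))
theorem f248130 : Led Lsl_dt (LP (LK LD1_c18 LD2_c59 LD3_c13)) = (LP (LK LD1_c10 LD2_c28 LD3_c32)) :=
  Lre_d IH (LK LD1_c18 LD2_c59 LD3_c13) (LK LD1_c10 LD2_c28 LD3_c32) Lrfl Lrfl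
theorem f185517 : Led Lsl_dt (LP (LK LD1_c10 LD2_c26 LD3_c27)) = (LP (LK LD1_c18 LD2_c56 LD3_c12)) :=
  Lre_d IH (LK LD1_c10 LD2_c26 LD3_c27) (LK LD1_c18 LD2_c56 LD3_c12) Lrfl Lrfl
theorem f412449 : Led Lsl_at (LP (LK LD1_c10 LD2_c28 LD3_c32)) = (LP (LK LD1_c10 LD2_c26 LD3_c27)) :=
  Lgr Lrot51 (Lpe (f248130 IH) (Lpr_af (f268022 IH) (Lpe (f185517 IH) (Lpn (LP (LK LD1_c10 LD2_c26 LD3_c27))))))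
theorem f248132 : Led Lsl_ft (LP (LK LD1_c18 LD2_c59 LD3_c14)) = (LP (LK LD1_c10 LD2_c28 LD3_c32)) :=
  Lre_f IH (LK LD1_c18 LD2_c59 LD3_c14) (LK LD1_c10 LD2_c28 LD3_c32) Lrfl Lrfl
theorem f185518 : Led Lsl_ft (LP (LK LD1_c10 LD2_c26 LD3_c27)) = (LP (LK LD1_c18 LD2_c56 LD3_c13)) :=
  Lre_f IH (LK LD1_c10 LD2_c26 LD3_c27) (LK LD1_c18 LD2_c56 LD3_c13) Lrfl Lrfl
theorem f412454 : Led Lsl_af (LP (LK LD1_c18 LD2_c59 LD3_c14)) = (LP (LK LD1_c18 LD2_c56 LD3_c13)) :=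
  Lgr Lrot45 (Lpr_ft (f248132 IH) (Lpr_at (f412449 IH) (Lpr_ft (f185518 IH) (Lpn (LP (LK LD1_c18 LD2_c56 LD3_c13))))))
theorem f255913 : Led Lsl_et (LP (LK LD1_c10 LD2_c29 LD3_c47)) = (LP (LK LD1_c5 LD2_c19 LD3_c57)) :=
  Lre_e IH (LK LD1_c10 LD2_c29 LD3_c47) (LK LD1_c5 LD2_c19 LD3_c57) Lrfl Lrfl
theorem f257458 : Led Lsl_ft (LP (LK LD1_c19 LD2_c1 LD3_c25)) = (LP (LK LD1_c10 LD2_c29 LD3_c47)) :=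
  Lre_f IH (LK LD1_c19 LD2_c1 LD3_c25) (LK LD1_c10 LD2_c29 LD3_c47) Lrfl Lrfl
theorem f230420 : Led Lsl_et (LP (LK LD1_c5 LD2_c19 LD3_c22)) = (LP (LK LD1_c10 LD2_c28 LD3_c32)) :=
  Lre_e IH (LK LD1_c5 LD2_c19 LD3_c22) (LK LD1_c10 LD2_c28 LD3_c32) Lrfl Lrfl
theorem f248144 : Led Lsl_ft (LP (LK LD1_c10 LD2_c28 LD3_c32)) = (LP (LK LD1_c18 LD2_c59 LD3_c14)) :=
  Lre_f IH (LK LD1_c10 LD2_c28 LD3_c32) (LK LD1_c18 LD2_c59 LD3_c14) Lrfl Lrfl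
theorem f257514 : Led Lsl_ef (LP (LK LD1_c19 LD2_c1 LD3_c25)) = (LP (LK LD1_c18 LD2_c59 LD3_c14)) :=
  Lgr Lrot21 (Lpr_ft (f257458 IH) (Lpr_et (f255913 IH) (Lpr_ft (K15.f257508 IH) (Lpr_et (f230420 IH) (Lpr_ft (f248144 IH) (Lpn (LP (LK LD1_c18 LD2_c59 LD3_c14))))))))
theorem f257459 : Led Lsl_ft (LP (LK LD1_c9 LD2_c57 LD3_c30)) = (LP (LK LD1_c18 LD2_c13 LD3_c24)) :=
  Lre_f IH (LK LD1_c9 LD2_c57 LD3_c30) (LK LD1_c18 LD2_c13 LD3_c24) Lrfl Lrfl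
theorem f230258 : Led Lsl_ft (LP (LK LD1_c27 LD2_c32 LD3_c33)) = (LP (LK LD1_c17 LD2_c46 LD3_c4)) :=
  Lre_f IH (LK LD1_c27 LD2_c32 LD3_c33) (LK LD1_c17 LD2_c46 LD3_c4) Lrfl Lrfl
theorem f307509 : Led Lsl_at (LP (LK LD1_c18 LD2_c13 LD3_c24)) = (LP (LK LD1_c27 LD2_c32 LD3_c33)) :=
  Lgr Lrot66 (Lpe (f257459 IH) (Lpr_af (K19.f307497 IH) (Lpe (f230258 IH) (Lpn (LP (LK LD1_c27 LD2_c32 LD3_c33))))))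
theorem f249117 : Led Lsl_et (LP (LK LD1_c5 LD2_c19 LD3_c57)) = (LP (LK LD1_c10 LD2_c29 LD3_c47)) :=
  Lre_e IH (LK LD1_c5 LD2_c19 LD3_c57) (LK LD1_c10 LD2_c29 LD3_c47) Lrfl Lrfl
theorem f257448 : Led Lsl_ct (LP (LK LD1_c10 LD2_c29 LD3_c47)) = (LP (LK LD1_c9 LD2_c57 LD3_c30)) :=
  Lgr Lrot15 (Lpe (f249117 IH) (Lpr_cf (K15.f257435 IH) (Lpe (K19.f257438 IH) (Lpn (LP (LK LD1_c9 LD2_c57 LD3_c30))))))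
theorem f257460 : Led Lsl_cf (LP (LK LD1_c19 LD2_c1 LD3_c25)) = (LP (LK LD1_c18 LD2_c13 LD3_c24)) :=
  Lgr Lrot108 (Lpr_ft (f257458 IH) (Lpr_ct (f257448 IH) (Lpr_ft (f257459 IH) (Lpn (LP (LK LD1_c18 LD2_c13 LD3_c24))))))
theorem f257465 : Led Lsl_ct (LP (LK LD1_c19 LD2_c1 LD3_c25)) = (LP (LK LD1_c18 LD2_c13 LD3_c24)) :=
  Lgr Lrot59 (Lpr_cf (f257460 IH) (Lpn (LP (LK LD1_c18 LD2_c13 LD3_c24))))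
theorem f230242 : Led Lsl_et (LP (LK LD1_c17 LD2_c46 LD3_c4)) = (LP (LK LD1_c9 LD2_c39 LD3_c40)) :=
  Lre_e IH (LK LD1_c17 LD2_c46 LD3_c4) (LK LD1_c9 LD2_c39 LD3_c40) Lrfl Lrfl
theorem f230243 : Led Lsl_cf (LP (LK LD1_c17 LD2_c46 LD3_c4)) = (LP (LK LD1_c10 LD2_c22 LD3_c26)) :=
  Lgr Lrot39 (Lpr_et (f230242 IH) (Lpr_ct (K12.f229929 IH) (Lpr_et (K37.f166007 IH) (Lpn (LP (LK LD1_c10 LD2_c22 LD3_c26))))))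
theorem f230251 : Led Lsl_ft (LP (LK LD1_c17 LD2_c46 LD3_c4)) = (LP (LK LD1_c27 LD2_c32 LD3_c33)) :=
  Lre_f IH (LK LD1_c17 LD2_c46 LD3_c4) (LK LD1_c27 LD2_c32 LD3_c33) Lrfl Lrfl
theorem f166021 : Led Lsl_ft (LP (LK LD1_c18 LD2_c49 LD3_c36)) = (LP (LK LD1_c10 LD2_c22 LD3_c26)) :=
  Lre_f IH (LK LD1_c18 LD2_c49 LD3_c36) (LK LD1_c10 LD2_c22 LD3_c26) Lrfl Lrfl
theorem f230252 : Led Lsl_ct (LP (LK LD1_c27 LD2_c32 LD3_c33)) = (LP (LK LD1_c18 LD2_c49 LD3_c36)) :=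
  Lgr Lrot40 (Lpe (f230251 IH) (Lpr_cf (f230243 IH) (Lpe (f166021 IH) (Lpn (LP (LK LD1_c18 LD2_c49 LD3_c36))))))
theorem f307513 : Led Lsl_af (LP (LK LD1_c19 LD2_c1 LD3_c25)) = (LP (LK LD1_c18 LD2_c49 LD3_c36)) :=
  Lgr Lrot68 (Lpr_ct (f257465 IH) (Lpr_at (f307509 IH) (Lpr_ct (f230252 IH) (Lpn (LP (LK LD1_c18 LD2_c49 LD3_c36))))))
theorem f307518 : Led Lsl_at (LP (LK LD1_c19 LD2_c1 LD3_c25)) = (LP (LK LD1_c18 LD2_c49 LD3_c36)) :=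
  Lgr Lrot100 (Lpr_af (f307513 IH) (Lpn (LP (LK LD1_c18 LD2_c49 LD3_c36))))
theorem f412461 : Led Lsl_et (LP (LK LD1_c18 LD2_c49 LD3_c36)) = (LP (LK LD1_c18 LD2_c56 LD3_c13)) :=
  Lgr Lrot123 (Lpe (f307518 IH) (Lpr_ef (f257514 IH) (Lpr_af (f412454 IH) (Lpn (LP (LK LD1_c18 LD2_c56 LD3_c13))))))
theorem f412467 : Led Lsl_ef (LP (LK LD1_c18 LD2_c49 LD3_c36)) = (LP (LK LD1_c18 LD2_c56 LD3_c13)) :=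
  Lgr Lrot88 (Lpr_et (f412461 IH) (Lpn (LP (LK LD1_c18 LD2_c56 LD3_c13))))
theorem f230256 : Led Lsl_cf (LP (LK LD1_c27 LD2_c32 LD3_c33)) = (LP (LK LD1_c18 LD2_c49 LD3_c36)) :=
  Lgr Lrot11 (Lpr_ct (f230252 IH) (Lpn (LP (LK LD1_c18 LD2_c49 LD3_c36))))
theorem f230559 : Led Lsl_et (LP (LK LD1_c9 LD2_c40 LD3_c13)) = (LP (LK LD1_c17 LD2_c47 LD3_c14)) :=
  Lre_e IH (LK LD1_c9 LD2_c40 LD3_c13) (LK LD1_c17 LD2_c47 LD3_c14) Lrfl Lrfl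
theorem f307532 : Led Lsl_ft (LP (LK LD1_c17 LD2_c47 LD3_c14)) = (LP (LK LD1_c27 LD2_c34 LD3_c13)) :=
  Lre_f IH (LK LD1_c17 LD2_c47 LD3_c14) (LK LD1_c27 LD2_c34 LD3_c13) Lrfl Lrfl
theorem f307533 : Led Lsl_et (LP (LK LD1_c27 LD2_c34 LD3_c13)) = (LP (LK LD1_c27 LD2_c32 LD3_c33)) :=
  Lgr Lrot69 (Lpe (f307532 IH) (Lpe (f230559 IH) (Lpr_ff (K19.f307528 IH) (Lpe (f230242 IH) (Lpe (f230258 IH) (Lpn (LP (LK LD1_c27 LD2_c32 LD3_c33))))))))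
theorem f307535 : Led Lsl_ef (LP (LK LD1_c27 LD2_c34 LD3_c13)) = (LP (LK LD1_c27 LD2_c32 LD3_c33)) :=
  Lgr Lrot88 (Lpr_et (f307533 IH) (Lpn (LP (LK LD1_c27 LD2_c32 LD3_c33))))
theorem f412469 : Led Lsl_ct (LP (LK LD1_c27 LD2_c34 LD3_c13)) = (LP (LK LD1_c18 LD2_c56 LD3_c13)) :=
  Lgr Lrot15 (Lpr_ef (f307535 IH) (Lpr_cf (f230256 IH) (Lpr_ef (f412467 IH) (Lpn (LP (LK LD1_c18 LD2_c56 LD3_c13))))))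
theorem f248122 : Led Lsl_et (LP (LK LD1_c10 LD2_c12 LD3_c26)) = (LP (LK LD1_c5 LD2_c10 LD3_c54)) :=
  Lre_e IH (LK LD1_c10 LD2_c12 LD3_c26) (LK LD1_c5 LD2_c10 LD3_c54) Lrfl Lrfl
theorem f248123 : Led Lsl_cf (LP (LK LD1_c10 LD2_c12 LD3_c26)) = (LP (LK LD1_c10 LD2_c28 LD3_c32)) :=
  Lgr Lrot39 (Lpr_et (f248122 IH) (Lpr_ct (K19.f248111 IH) (Lpr_et (f230420 IH) (Lpn (LP (LK LD1_c10 LD2_c28 LD3_c32))))))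
theorem f248131 : Led Lsl_ft (LP (LK LD1_c10 LD2_c12 LD3_c26)) = (LP (LK LD1_c18 LD2_c35 LD3_c24)) :=
  Lre_f IH (LK LD1_c10 LD2_c12 LD3_c26) (LK LD1_c18 LD2_c35 LD3_c24) Lrfl Lrfl
theorem f248133 : Led Lsl_ct (LP (LK LD1_c18 LD2_c35 LD3_c24)) = (LP (LK LD1_c18 LD2_c59 LD3_c14)) :=
  Lgr Lrot40 (Lpe (f248131 IH) (Lpr_cf (f248123 IH) (Lpe (f248132 IH) (Lpn (LP (LK LD1_c18 LD2_c59 LD3_c14))))))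
theorem f248140 : Led Lsl_cf (LP (LK LD1_c18 LD2_c35 LD3_c24)) = (LP (LK LD1_c18 LD2_c59 LD3_c14)) :=
  Lgr Lrot11 (Lpr_ct (f248133 IH) (Lpn (LP (LK LD1_c18 LD2_c59 LD3_c14))))
theorem f412471 : Led Lsl_af (LP (LK LD1_c27 LD2_c34 LD3_c13)) = (LP (LK LD1_c18 LD2_c35 LD3_c24)) :=
  Lgr Lrot68 (Lpr_ct (f412469 IH) (Lpe (f412454 IH) (Lpe (f248140 IH) (Lpn (LP (LK LD1_c18 LD2_c35 LD3_c24))))))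
theorem f412473 : Led Lsl_at (LP (LK LD1_c27 LD2_c34 LD3_c13)) = (LP (LK LD1_c18 LD2_c35 LD3_c24)) :=
  Lgr Lrot100 (Lpr_af (f412471 IH) (Lpn (LP (LK LD1_c18 LD2_c35 LD3_c24))))
theorem f248143 : Led Lsl_ft (LP (LK LD1_c18 LD2_c35 LD3_c24)) = (LP (LK LD1_c10 LD2_c12 LD3_c26)) :=
  Lre_f IH (LK LD1_c18 LD2_c35 LD3_c24) (LK LD1_c10 LD2_c12 LD3_c26) Lrfl Lrfl
theorem f412482 : Led Lsl_af (LP (LK LD1_c17 LD2_c47 LD3_c14)) = (LP (LK LD1_c10 LD2_c12 LD3_c26)) :=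
  Lgr Lrot45 (Lpr_ft (f307532 IH) (Lpr_at (f412473 IH) (Lpr_ft (f248143 IH) (Lpn (LP (LK LD1_c10 LD2_c12 LD3_c26))))))
theorem f266185 : Led Lsl_dt (LP (LK LD1_c17 LD2_c47 LD3_c14)) = (LP (LK LD1_c27 LD2_c34 LD3_c12)) :=
  Lre_d IH (LK LD1_c17 LD2_c47 LD3_c14) (LK LD1_c27 LD2_c34 LD3_c12) Lrfl Lrfl
theorem f248135 : Led Lsl_dt (LP (LK LD1_c18 LD2_c35 LD3_c23)) = (LP (LK LD1_c10 LD2_c12 LD3_c26)) :=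
  Lre_d IH (LK LD1_c18 LD2_c35 LD3_c23) (LK LD1_c10 LD2_c12 LD3_c26) Lrfl Lrfl
theorem f412487 : Led Lsl_at (LP (LK LD1_c27 LD2_c34 LD3_c12)) = (LP (LK LD1_c18 LD2_c35 LD3_c23)) :=
  Lgr Lrot51 (Lpe (f266185 IH) (Lpr_af (f412482 IH) (Lpe (f248135 IH) (Lpn (LP (LK LD1_c18 LD2_c35 LD3_c23))))))
theorem f412493 : Led Lsl_et (LP (LK LD1_c17 LD2_c47 LD3_c17)) = (LP (LK LD1_c27 LD2_c34 LD3_c12)) :=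
  Lre_e IH (LK LD1_c17 LD2_c47 LD3_c17) (LK LD1_c27 LD2_c34 LD3_c12) Lrfl Lrfl
theorem f362769 : Led Lsl_et (LP (LK LD1_c18 LD2_c35 LD3_c23)) = (LP (LK LD1_c10 LD2_c12 LD3_c29)) :=
  Lre_e IH (LK LD1_c18 LD2_c35 LD3_c23) (LK LD1_c10 LD2_c12 LD3_c29) Lrfl Lrfl
theorem f412494 : Led Lsl_af (LP (LK LD1_c17 LD2_c47 LD3_c17)) = (LP (LK LD1_c10 LD2_c12 LD3_c29)) :=
  Lgr Lrot50 (Lpr_et (f412493 IH) (Lpr_at (f412487 IH) (Lpr_et (f362769 IH) (Lpn (LP (LK LD1_c10 LD2_c12 LD3_c29))))))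
theorem f934099 : Led Lsl_gf (LP (LK LD1_c18 LD2_c31 LD3_c36)) = v42451 :=
  Lgr Lrot47 (Lpe (K19.f259784 IH) (Lpr_af (f412494 IH) (Lpr_ff (f934097 IH) (Lpn v42451))))
theorem f259789 : Led Lsl_ct (LP (LK LD1_c18 LD2_c31 LD3_c36)) = (LP (LK LD1_c28 LD2_c6 LD3_c5)) :=
  Lre_c IH (LK LD1_c18 LD2_c31 LD3_c36) (LK LD1_c28 LD2_c6 LD3_c5) Lrfl Lrfl
theorem f171433 : Led Lsl_dt (LP (LK LD1_c10 LD2_c12 LD3_c29)) = (LP (LK LD1_c5 LD2_c10 LD3_c55)) :=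
  Lre_d IH (LK LD1_c10 LD2_c12 LD3_c29) (LK LD1_c5 LD2_c10 LD3_c55) Lrfl Lrfl
theorem f248682 : Led Lsl_ft (LP (LK LD1_c5 LD2_c10 LD3_c55)) = (LP (LK LD1_c10 LD2_c12 LD3_c30)) :=
  Lre_f IH (LK LD1_c5 LD2_c10 LD3_c55) (LK LD1_c10 LD2_c12 LD3_c30) Lrfl Lrfl
theorem f934098 : Led Lsl_dt (LP (LK LD1_c10 LD2_c12 LD3_c30)) = v42451 :=
  Lgr Lrot60 (Lpe (f248682 IH) (Lpe (f171433 IH) (Lpr_ff (f934097 IH) (Lpn v42451))))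
theorem f363156 : Led Lsl_ct (LP (LK LD1_c17 LD2_c47 LD3_c16)) = (LP (LK LD1_c10 LD2_c28 LD3_c0)) :=
  Lgr Lrot8 (Lpr_gt (K19.f248563 IH) (Lpr_dt (K19.f230558 IH) (Lpr_gt (K26.f363154 IH) (Lpr_dt (K26.f330715 IH) (Lpr_cf (K26.f362943 IH) (Lpe (K26.f355863 IH) (Lpr_gf (K25.f355859 IH) (Lpe (K13.f229655 IH) (Lpe (K26.f229073 IH) (Lpn (LP (LK LD1_c10 LD2_c28 LD3_c0))))))))))))
theorem f229660 : Led Lsl_ct (LP (LK LD1_c27 LD2_c33 LD3_c6)) = (LP (LK LD1_c17 LD2_c46 LD3_c25)) :=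
  Lre_c IH (LK LD1_c27 LD2_c33 LD3_c6) (LK LD1_c17 LD2_c46 LD3_c25) Lrfl Lrfl
theorem f934101 : Led Lsl_gt (LP (LK LD1_c28 LD2_c6 LD3_c5)) = (LP (LK LD1_c27 LD2_c33 LD3_c6)) :=
  Lgr Lrot150 (Lpe (f259789 IH) (Lpr_gf (f934099 IH) (Lpe (f934098 IH) (Lpr_gt (K19.f248564 IH) (Lpr_ct (f363156 IH) (Lpr_gt (K26.f229073 IH) (Lpe (K26.f294608 IH) (Lpe (K67.f229082 IH) (Lpe (f229660 IH) (Lpn (LP (LK LD1_c27 LD2_c33 LD3_c6))))))))))))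
theorem f934102 : Led Lsl_gt (LP (LK LD1_c28 LD2_c6 LD3_c5)) = (LP (LK LD1_c27 LD2_c33 LD3_c6)) :=
  Leop (Lpe (f934101 IH) (Lpn (LP (LK LD1_c28 LD2_c6 LD3_c5))))
theorem seed_2607 : LEOK LG_g (LK LD1_c28 LD2_c6 LD3_c5) :=
  Leoe_g (LK LD1_c28 LD2_c6 LD3_c5) (f934102 IH)
def v42454 : LQ := Led Lsl_dt (LP (LK LD1_c10 LD2_c12 LD3_c37))
theorem f934115 : Led Lsl_dt (LP (LK LD1_c10 LD2_c12 LD3_c37)) = v42454 :=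
  Lrfl
theorem f34334 : Led Lsl_gt (LP (LK LD1_c8 LD2_c5 LD3_c19)) = (LP (LK LD1_c15 LD2_c13 LD3_c52)) :=
  Lre_g IH (LK LD1_c8 LD2_c5 LD3_c19) (LK LD1_c15 LD2_c13 LD3_c52) Lrfl Lrfl
theorem f412958 : Led Lsl_df (LP (LK LD1_c5 LD2_c8 LD3_c17)) = (LP (LK LD1_c9 LD2_c55 LD3_c27)) :=
  Lgr Lrot38 (Lpr_dt (K53.f412952 IH) (Lpn (LP (LK LD1_c9 LD2_c55 LD3_c27))))
theorem f34206 : Led Lsl_ff (LP (LK LD1_c5 LD2_c9 LD3_c18)) = (LP (LK LD1_c8 LD2_c5 LD3_c19)) :=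
  Lgr Lrot25 (Lpr_bt (K72.f33770 IH) (Lpr_ft (K2.f34099 IH) (Lpr_bt (K12.f34024 IH) (Lpn (LP (LK LD1_c8 LD2_c5 LD3_c19))))))
theorem f34361 : Led Lsl_at (LP (LK LD1_c5 LD2_c9 LD3_c18)) = (LP (LK LD1_c10 LD2_c9 LD3_c13)) :=
  Lre_a IH (LK LD1_c5 LD2_c9 LD3_c18) (LK LD1_c10 LD2_c9 LD3_c13) Lrfl Lrfl
theorem f34608 : Led Lsl_gf (LP (LK LD1_c10 LD2_c9 LD3_c13)) = (LP (LK LD1_c15 LD2_c13 LD3_c52)) :=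
  Lgr Lrot76 (Lpe (f34361 IH) (Lpr_ff (f34206 IH) (Lpr_gt (f34334 IH) (Lpn (LP (LK LD1_c15 LD2_c13 LD3_c52))))))
theorem f412975 : Led Lsl_df (LP (LK LD1_c15 LD2_c13 LD3_c52)) = (LP (LK LD1_c18 LD2_c9 LD3_c57)) :=
  Lgr Lrot153 (Lpe (f34608 IH) (Lpr_dt (K0.f21639 IH) (Lpe (K2.f21637 IH) (Lpe (K2.f21599 IH) (Lpe (K44.f164628 IH) (Lpr_df (f412958 IH) (Lpe (K45.f177375 IH) (Lpe (K44.f165290 IH) (Lpr_gt (K44.f169651 IH) (Lpn (LP (LK LD1_c18 LD2_c9 LD3_c57))))))))))))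
theorem f412977 : Led Lsl_dt (LP (LK LD1_c15 LD2_c13 LD3_c52)) = (LP (LK LD1_c18 LD2_c9 LD3_c57)) :=
  Lgr Lrot42 (Lpr_df (f412975 IH) (Lpn (LP (LK LD1_c18 LD2_c9 LD3_c57))))
def v42120 : LQ := Led Lsl_ct (LP (LK LD1_c10 LD2_c6 LD3_c25))
theorem f932441 : Led Lsl_ct (LP (LK LD1_c10 LD2_c6 LD3_c25)) = v42120 :=
  Lrfl
theorem f164494 : Led Lsl_gt (LP (LK LD1_c5 LD2_c7 LD3_c60)) = (LP (LK LD1_c10 LD2_c6 LD3_c25)) :=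
  Lre_g IH (LK LD1_c5 LD2_c7 LD3_c60) (LK LD1_c10 LD2_c6 LD3_c25) Lrfl Lrfl
theorem f932444 : Led Lsl_df (LP (LK LD1_c18 LD2_c33 LD3_c38)) = v42120 :=
  Lgr Lrot162 (Lpe (K72.f586587 IH) (Lpe (K44.f169651 IH) (Lpe (K45.f165291 IH) (Lpe (K44.f169635 IH) (Lpr_dt (K53.f603895 IH) (Lpr_gt (K53.f164455 IH) (Lpr_ct (K44.f163809 IH) (Lpr_gt (f164494 IH) (Lpr_ct (f932441 IH) (Lpn v42120))))))))))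
theorem f934119 : Led Lsl_gf v42120 = v42454 :=
  Lgr Lrot143 (Lpe (f932444 IH) (Lpe (K72.f586587 IH) (Lpe (f412977 IH) (Lpe (f34334 IH) (Lpe (K2.f34319 IH) (Lpr_gf (K53.f603813 IH) (Lpe (K53.f603816 IH) (Lpe (K53.f343420 IH) (Lpr_dt (f934115 IH) (Lpn v42454))))))))))
theorem f233697 : Led Lsl_bt (LP (LK LD1_c5 LD2_c3 LD3_c25)) = (LP (LK LD1_c9 LD2_c57 LD3_c46)) :=
  Lre_b IH (LK LD1_c5 LD2_c3 LD3_c25) (LK LD1_c9 LD2_c57 LD3_c46) Lrfl Lrfl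
theorem f583458 : Led Lsl_ff (LP (LK LD1_c10 LD2_c12 LD3_c37)) = (LP (LK LD1_c9 LD2_c57 LD3_c46)) :=
  Lgr Lrot25 (Lpr_bt (K53.f260140 IH) (Lpr_ft (K44.f583456 IH) (Lpr_bt (f233697 IH) (Lpn (LP (LK LD1_c9 LD2_c57 LD3_c46))))))
theorem f934118 : Led Lsl_ff K72.v41330 = v42454 :=
  Lgr Lrot19 (Lpe (K72.f925501 IH) (Lpe (f583458 IH) (Lpr_dt (f934115 IH) (Lpn v42454))))
theorem f583795 : Led Lsl_at (LP (LK LD1_c10 LD2_c12 LD3_c36)) = (LP (LK LD1_c10 LD2_c27 LD3_c11)) :=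
  Lgr Lrot100 (Lpr_af (K44.f583793 IH) (Lpn (LP (LK LD1_c10 LD2_c27 LD3_c11))))
theorem f585181 : Led Lsl_af (LP (LK LD1_c18 LD2_c33 LD3_c46)) = (LP (LK LD1_c18 LD2_c57 LD3_c4)) :=
  Lgr Lrot117 (Lpr_dt (K45.f585179 IH) (Lpr_at (f583795 IH) (Lpr_dt (K45.f214620 IH) (Lpn (LP (LK LD1_c18 LD2_c57 LD3_c4))))))
theorem f405279 : Led Lsl_bf (LP (LK LD1_c18 LD2_c57 LD3_c4)) = (LP (LK LD1_c18 LD2_c49 LD3_c47)) :=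
  Lgr Lrot93 (Lpr_dt (K45.f405273 IH) (Lpr_bt (K44.f405274 IH) (Lpr_dt (K53.f405278 IH) (Lpn (LP (LK LD1_c18 LD2_c49 LD3_c47))))))
theorem f925499 : Led Lsl_af (LP (LK LD1_c18 LD2_c49 LD3_c47)) = K72.v41330 :=
  Lgr Lrot36 (Lpe (f405279 IH) (Lpe (f585181 IH) (Lpr_bt (K45.f421648 IH) (Lpr_at (K72.f585185 IH) (Lpr_bt (K72.f925498 IH) (Lpn K72.v41330))))))
theorem f934120 : Led Lsl_gt v42120 = (LP (LK LD1_c18 LD2_c49 LD3_c47)) :=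
  Lgr Lrot46 (Lpr_gf (f934119 IH) (Lpe (f934118 IH) (Lpe (f925499 IH) (Lpn (LP (LK LD1_c18 LD2_c49 LD3_c47))))))
theorem f603900 : Led Lsl_df (LP (LK LD1_c9 LD2_c55 LD3_c28)) = (LP (LK LD1_c5 LD2_c8 LD3_c18)) :=
  Lgr Lrot38 (Lpr_dt (K53.f603895 IH) (Lpn (LP (LK LD1_c5 LD2_c8 LD3_c18))))
theorem f932443 : Led Lsl_dt (LP (LK LD1_c18 LD2_c33 LD3_c38)) = v42120 :=
  Lgr Lrot27 (Lpe (K72.f586587 IH) (Lpe (K44.f169651 IH) (Lpe (K45.f165291 IH) (Lpe (K44.f169635 IH) (Lpr_df (f603900 IH) (Lpr_gt (K53.f164455 IH) (Lpr_ct (K44.f163809 IH) (Lpr_gt (f164494 IH) (Lpr_ct (f932441 IH) (Lpn v42120))))))))))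
theorem f163748 : Led Lsl_bt (LP (LK LD1_c10 LD2_c14 LD3_c7)) = (LP (LK LD1_c5 LD2_c11 LD3_c41)) :=
  Lre_b IH (LK LD1_c10 LD2_c14 LD3_c7) (LK LD1_c5 LD2_c11 LD3_c41) Lrfl Lrfl
theorem f240351 : Led Lsl_bt (LP (LK LD1_c10 LD2_c10 LD3_c31)) = (LP (LK LD1_c18 LD2_c32 LD3_c13)) :=
  Lre_b IH (LK LD1_c10 LD2_c10 LD3_c31) (LK LD1_c18 LD2_c32 LD3_c13) Lrfl Lrfl
theorem f926966 : Led Lsl_df (LP (LK LD1_c10 LD2_c14 LD3_c7)) = (LP (LK LD1_c18 LD2_c32 LD3_c13)) :=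
  Lgr Lrot12 (Lpr_bt (f163748 IH) (Lpr_dt (K72.f722905 IH) (Lpqs (K72.f926953 IH) (Lpr_bt (f240351 IH) (Lpn (LP (LK LD1_c18 LD2_c32 LD3_c13)))))))
theorem f926986 : Led Lsl_dt (LP (LK LD1_c10 LD2_c14 LD3_c7)) = (LP (LK LD1_c18 LD2_c32 LD3_c13)) :=
  Lgr Lrot42 (Lpr_df (f926966 IH) (Lpn (LP (LK LD1_c18 LD2_c32 LD3_c13))))
theorem f185328 : Led Lsl_ct (LP (LK LD1_c18 LD2_c32 LD3_c17)) = (LP (LK LD1_c18 LD2_c32 LD3_c13)) :=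
  Lre_c IH (LK LD1_c18 LD2_c32 LD3_c17) (LK LD1_c18 LD2_c32 LD3_c13) Lrfl Lrfl
theorem f240485 : Led Lsl_dt (LP (LK LD1_c28 LD2_c6 LD3_c48)) = (LP (LK LD1_c18 LD2_c32 LD3_c17)) :=
  Lre_d IH (LK LD1_c28 LD2_c6 LD3_c48) (LK LD1_c18 LD2_c32 LD3_c17) Lrfl Lrfl
def v41501 : LQ := Led Lsl_ft (LP (LK LD1_c9 LD2_c58 LD3_c38))
theorem f926324 : Led Lsl_ft (LP (LK LD1_c9 LD2_c58 LD3_c38)) = v41501 :=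
  Lrfl
theorem f926327 : Led Lsl_ff (LP (LK LD1_c9 LD2_c58 LD3_c38)) = v41501 :=
  Lgr Lrot3 (Lpr_ft (f926324 IH) (Lpn v41501))
theorem f165597 : Led Lsl_ct (LP (LK LD1_c9 LD2_c58 LD3_c38)) = (LP (LK LD1_c5 LD2_c3 LD3_c51)) :=
  Lre_c IH (LK LD1_c9 LD2_c58 LD3_c38) (LK LD1_c5 LD2_c3 LD3_c51) Lrfl Lrfl
theorem f926329 : Led Lsl_ct K72.v14226 = v41501 :=
  Lgr Lrot40 (Lpe (K72.f721092 IH) (Lpe (f165597 IH) (Lpr_ff (f926327 IH) (Lpn v41501))))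
theorem f926356 : v41501 = (LP (LK LD1_c10 LD2_c11 LD3_c57)) :=
  Lefun (Lecon (f926329 IH) (K72.f926352 IH)) (K72.f249886 IH)
theorem f343371 : Led Lsl_dt (LP (LK LD1_c10 LD2_c11 LD3_c57)) = (LP (LK LD1_c18 LD2_c34 LD3_c48)) :=
  Lre_d IH (LK LD1_c10 LD2_c11 LD3_c57) (LK LD1_c18 LD2_c34 LD3_c48) Lrfl Lrfl
theorem f926525 : Led Lsl_ff (LP (LK LD1_c18 LD2_c15 LD3_c7)) = (LP (LK LD1_c18 LD2_c34 LD3_c48)) :=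
  Lgr Lrot19 (Lpr_dt (f405682 IH) (Lpr_ft (f926324 IH) (Lpqs (f926356 IH) (Lpr_dt (f343371 IH) (Lpn (LP (LK LD1_c18 LD2_c34 LD3_c48)))))))
theorem f233592 : Led Lsl_dt (LP (LK LD1_c18 LD2_c34 LD3_c52)) = (LP (LK LD1_c10 LD2_c11 LD3_c60)) :=
  Lre_d IH (LK LD1_c18 LD2_c34 LD3_c52) (LK LD1_c10 LD2_c11 LD3_c60) Lrfl Lrfl
theorem f926519 : Led Lsl_af (LP (LK LD1_c18 LD2_c34 LD3_c52)) = (LP (LK LD1_c18 LD2_c15 LD3_c7)) :=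
  Lgr Lrot117 (Lpr_dt (f233592 IH) (Lpq (K72.f926376 IH) (Lpe (K72.f926235 IH) (Lpr_dt (f405683 IH) (Lpn (LP (LK LD1_c18 LD2_c15 LD3_c7)))))))
theorem f185327 : Led Lsl_gt (LP (LK LD1_c10 LD2_c10 LD3_c34)) = (LP (LK LD1_c18 LD2_c32 LD3_c17)) :=
  Lre_g IH (LK LD1_c10 LD2_c10 LD3_c34) (LK LD1_c18 LD2_c32 LD3_c17) Lrfl Lrfl
theorem f185336 : Led Lsl_dt (LP (LK LD1_c18 LD2_c32 LD3_c17)) = (LP (LK LD1_c28 LD2_c6 LD3_c48)) :=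
  Lre_d IH (LK LD1_c18 LD2_c32 LD3_c17) (LK LD1_c28 LD2_c6 LD3_c48) Lrfl Lrfl
theorem f714507 : Led Lsl_gf (LP (LK LD1_c18 LD2_c34 LD3_c52)) = (LP (LK LD1_c28 LD2_c6 LD3_c48)) :=
  Lgr Lrot143 (Lpr_dt (f233592 IH) (Lpe (K44.f233587 IH) (Lpr_df (K53.f714501 IH) (Lpe (K53.f299901 IH) (Lpe (K32.f299848 IH) (Lpr_gf (K44.f406503 IH) (Lpe (K44.f165579 IH) (Lpr_gt (f185327 IH) (Lpr_dt (f185336 IH) (Lpn (LP (LK LD1_c28 LD2_c6 LD3_c48))))))))))))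
theorem f926532 : Led Lsl_gf (LP (LK LD1_c28 LD2_c6 LD3_c48)) = (LP (LK LD1_c18 LD2_c34 LD3_c48)) :=
  Lgr Lrot47 (Lpe (f714507 IH) (Lpr_af (f926519 IH) (Lpr_ff (f926525 IH) (Lpn (LP (LK LD1_c18 LD2_c34 LD3_c48))))))
theorem f926252 : Led Lsl_cf (LP (LK LD1_c10 LD2_c13 LD3_c52)) = (LP (LK LD1_c18 LD2_c15 LD3_c6)) :=
  Lgr Lrot11 (Lpr_ct (K72.f926245 IH) (Lpn (LP (LK LD1_c18 LD2_c15 LD3_c6))))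
theorem f926276 : Led Lsl_cf (LP (LK LD1_c18 LD2_c34 LD3_c47)) = (LP (LK LD1_c18 LD2_c35 LD3_c45)) :=
  Lgr Lrot108 (Lpr_ft (K72.f926270 IH) (Lpe (f926252 IH) (Lpr_ft (K44.f405364 IH) (Lpn (LP (LK LD1_c18 LD2_c35 LD3_c45))))))
theorem f926992 : Led Lsl_gf (LP (LK LD1_c10 LD2_c14 LD3_c7)) = (LP (LK LD1_c18 LD2_c35 LD3_c46)) :=
  Lgr Lrot143 (Lpr_dt (f926986 IH) (Lpe (f185328 IH) (Lpe (f240485 IH) (Lpr_gf (f926532 IH) (Lpe (f343371 IH) (Lpe (K72.f249887 IH) (Lpr_cf (f926276 IH) (Lpr_gt (K44.f185220 IH) (Lpr_dt (K53.f185239 IH) (Lpn (LP (LK LD1_c18 LD2_c35 LD3_c46))))))))))))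
theorem f926995 : Led Lsl_gt (LP (LK LD1_c10 LD2_c14 LD3_c7)) = (LP (LK LD1_c18 LD2_c37 LD3_c16)) :=
  Lgr Lrot46 (Lpr_gf (f926992 IH) (Lpr_ft (K53.f723258 IH) (Lpe (K53.f723226 IH) (Lpn (LP (LK LD1_c18 LD2_c37 LD3_c16))))))
theorem f165576 : Led Lsl_bt (LP (LK LD1_c5 LD2_c9 LD3_c40)) = (LP (LK LD1_c2 LD2_c31 LD3_c56)) :=
  Lre_b IH (LK LD1_c5 LD2_c9 LD3_c40) (LK LD1_c2 LD2_c31 LD3_c56) Lrfl Lrfl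
theorem f192551 : Led Lsl_bt (LP (LK LD1_c2 LD2_c29 LD3_c0)) = (LP (LK LD1_c5 LD2_c2 LD3_c57)) :=
  Lre_b IH (LK LD1_c2 LD2_c29 LD3_c0) (LK LD1_c5 LD2_c2 LD3_c57) Lrfl Lrfl
theorem f288333 : Led Lsl_ff (LP (LK LD1_c5 LD2_c9 LD3_c40)) = (LP (LK LD1_c5 LD2_c2 LD3_c57)) :=
  Lgr Lrot25 (Lpr_bt (f165576 IH) (Lpr_ft (K17.f288327 IH) (Lpr_bt (f192551 IH) (Lpn (LP (LK LD1_c5 LD2_c2 LD3_c57))))))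
theorem f406750 : Led Lsl_at (LP (LK LD1_c5 LD2_c9 LD3_c40)) = (LP (LK LD1_c10 LD2_c10 LD3_c3)) :=
  Lre_a IH (LK LD1_c5 LD2_c9 LD3_c40) (LK LD1_c10 LD2_c10 LD3_c3) Lrfl Lrfl
theorem f408296 : Led Lsl_gf (LP (LK LD1_c10 LD2_c10 LD3_c3)) = (LP (LK LD1_c9 LD2_c56 LD3_c43)) :=
  Lgr Lrot76 (Lpe (f406750 IH) (Lpr_ff (f288333 IH) (Lpr_gt (K72.f169992 IH) (Lpn (LP (LK LD1_c9 LD2_c56 LD3_c43))))))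
theorem f926999 : Led Lsl_gt (LP (LK LD1_c18 LD2_c32 LD3_c13)) = (LP (LK LD1_c18 LD2_c12 LD3_c1)) :=
  Lgr Lrot9 (Lpe (f926986 IH) (Lpr_gt (f926995 IH) (Lpe (K53.f343404 IH) (Lpr_gt (K53.f299956 IH) (Lpr_ct (K71.f299911 IH) (Lpe (f299857 IH) (Lpe (K18.f299719 IH) (Lpr_gf (f408296 IH) (Lpe (K72.f169993 IH) (Lpn (LP (LK LD1_c18 LD2_c12 LD3_c1))))))))))))
theorem f240342 : Led Lsl_ct (LP (LK LD1_c10 LD2_c10 LD3_c31)) = (LP (LK LD1_c18 LD2_c32 LD3_c14)) :=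
  Lre_c IH (LK LD1_c10 LD2_c10 LD3_c31) (LK LD1_c18 LD2_c32 LD3_c14) Lrfl Lrfl
theorem f927001 : Led Lsl_gf (LP (LK LD1_c18 LD2_c32 LD3_c14)) = (LP (LK LD1_c18 LD2_c33 LD3_c40)) :=
  Lgr Lrot126 (Lpe (f240342 IH) (Lpr_bt (f240351 IH) (Lpr_gt (f926999 IH) (Lpr_ct (K72.f169993 IH) (Lpe (f408296 IH) (Lpe (K53.f299721 IH) (Lpr_bt (K18.f288235 IH) (Lpe (K44.f299716 IH) (Lpe (K72.f299722 IH) (Lpr_ct (K72.f299723 IH) (Lpn (LP (LK LD1_c18 LD2_c33 LD3_c40)))))))))))))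
theorem f926972 : Led Lsl_df (LP (LK LD1_c25 LD2_c16 LD3_c18)) = (LP (LK LD1_c18 LD2_c32 LD3_c14)) :=
  Lgr Lrot38 (Lpr_dt (K72.f926968 IH) (Lpn (LP (LK LD1_c18 LD2_c32 LD3_c14))))
theorem f405284 : Led Lsl_dt (LP (LK LD1_c18 LD2_c49 LD3_c47)) = (LP (LK LD1_c10 LD2_c22 LD3_c38)) :=
  Lre_d IH (LK LD1_c18 LD2_c49 LD3_c47) (LK LD1_c10 LD2_c22 LD3_c38) Lrfl Lrfl
theorem f585816 : Led Lsl_cf (LP (LK LD1_c10 LD2_c22 LD3_c38)) = (LP (LK LD1_c10 LD2_c13 LD3_c38)) :=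
  Lgr Lrot11 (Lpr_ct (K44.f585809 IH) (Lpn (LP (LK LD1_c10 LD2_c13 LD3_c38))))
theorem f34386 : Led Lsl_dt (LP (LK LD1_c18 LD2_c36 LD3_c57)) = (LP (LK LD1_c10 LD2_c13 LD3_c38)) :=
  Lre_d IH (LK LD1_c18 LD2_c36 LD3_c57) (LK LD1_c10 LD2_c13 LD3_c38) Lrfl Lrfl
theorem f934122 : Led Lsl_gt (LP (LK LD1_c25 LD2_c16 LD3_c18)) = (LP (LK LD1_c18 LD2_c36 LD3_c57)) :=
  Lgr Lrot49 (Lpr_df (f926972 IH) (Lpr_gf (f927001 IH) (Lpe (K72.f299723 IH) (Lpr_gt (K72.f421613 IH) (Lpr_dt (f932443 IH) (Lpr_gt (f934120 IH) (Lpr_dt (f405284 IH) (Lpr_cf (f585816 IH) (Lpe (f34386 IH) (Lpn (LP (LK LD1_c18 LD2_c36 LD3_c57))))))))))))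
theorem f934123 : Led Lsl_gt (LP (LK LD1_c25 LD2_c16 LD3_c18)) = (LP (LK LD1_c18 LD2_c36 LD3_c57)) :=
  Leop (Lpe (f934122 IH) (Lpn (LP (LK LD1_c25 LD2_c16 LD3_c18))))
theorem seed_2608 : LEOK LG_g (LK LD1_c25 LD2_c16 LD3_c18) :=
  Leoe_g (LK LD1_c25 LD2_c16 LD3_c18) (f934123 IH)
def v42463 : LQ := Led Lsl_ft (LP (LK LD1_c10 LD2_c12 LD3_c41))
theorem f934163 : Led Lsl_ft (LP (LK LD1_c10 LD2_c12 LD3_c41)) = v42463 :=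
  Lrfl
theorem f343587 : Led Lsl_gt (LP (LK LD1_c10 LD2_c12 LD3_c41)) = (LP (LK LD1_c18 LD2_c35 LD3_c37)) :=
  Lre_g IH (LK LD1_c10 LD2_c12 LD3_c41) (LK LD1_c18 LD2_c35 LD3_c37) Lrfl Lrfl
theorem f301732 : Led Lsl_at (LP (LK LD1_c5 LD2_c11 LD3_c1)) = (LP (LK LD1_c10 LD2_c12 LD3_c41)) :=
  Lre_a IH (LK LD1_c5 LD2_c11 LD3_c1) (LK LD1_c10 LD2_c12 LD3_c41) Lrfl Lrfl
theorem f343597 : Led Lsl_ft (LP (LK LD1_c10 LD2_c12 LD3_c45)) = (LP (LK LD1_c5 LD2_c11 LD3_c1)) :=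
  Lre_f IH (LK LD1_c10 LD2_c12 LD3_c45) (LK LD1_c5 LD2_c11 LD3_c1) Lrfl Lrfl
theorem f934164 : Led Lsl_af (LP (LK LD1_c10 LD2_c12 LD3_c45)) = v42463 :=
  Lgr Lrot45 (Lpr_ft (f343597 IH) (Lpr_at (f301732 IH) (Lpr_ft (f934163 IH) (Lpn v42463))))
theorem f934168 : Led Lsl_gt (LP (LK LD1_c18 LD2_c35 LD3_c37)) = (LP (LK LD1_c10 LD2_c12 LD3_c45)) :=
  Lgr Lrot46 (Lpe (f343587 IH) (Lpr_ft (f934163 IH) (Lpe (f934164 IH) (Lpn (LP (LK LD1_c10 LD2_c12 LD3_c45))))))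
theorem f934169 : Led Lsl_gt (LP (LK LD1_c18 LD2_c35 LD3_c37)) = (LP (LK LD1_c10 LD2_c12 LD3_c45)) :=
  Leop (Lpe (f934168 IH) (Lpn (LP (LK LD1_c18 LD2_c35 LD3_c37))))
theorem seed_2609 : LEOK LG_g (LK LD1_c18 LD2_c35 LD3_c37) :=
  Leoe_g (LK LD1_c18 LD2_c35 LD3_c37) (f934169 IH)
def v42496 : LQ := Led Lsl_ft (LP (LK LD1_c10 LD2_c12 LD3_c59))
theorem f934320 : Led Lsl_ft (LP (LK LD1_c10 LD2_c12 LD3_c59)) = v42496 :=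
  Lrfl
theorem f268004 : Led Lsl_gt (LP (LK LD1_c10 LD2_c12 LD3_c59)) = (LP (LK LD1_c18 LD2_c35 LD3_c60)) :=
  Lre_g IH (LK LD1_c10 LD2_c12 LD3_c59) (LK LD1_c18 LD2_c35 LD3_c60) Lrfl Lrfl
theorem f307612 : Led Lsl_ft (LP (LK LD1_c10 LD2_c13 LD3_c6)) = (LP (LK LD1_c5 LD2_c11 LD3_c15)) :=
  Lre_f IH (LK LD1_c10 LD2_c13 LD3_c6) (LK LD1_c5 LD2_c11 LD3_c15) Lrfl Lrfl
theorem f934321 : Led Lsl_af (LP (LK LD1_c10 LD2_c13 LD3_c6)) = v42496 :=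
  Lgr Lrot45 (Lpr_ft (f307612 IH) (Lpr_at (K15.f267964 IH) (Lpr_ft (f934320 IH) (Lpn v42496))))
theorem f934325 : Led Lsl_gt (LP (LK LD1_c18 LD2_c35 LD3_c60)) = (LP (LK LD1_c10 LD2_c13 LD3_c6)) :=
  Lgr Lrot46 (Lpe (f268004 IH) (Lpr_ft (f934320 IH) (Lpe (f934321 IH) (Lpn (LP (LK LD1_c10 LD2_c13 LD3_c6))))))
theorem f934326 : Led Lsl_gt (LP (LK LD1_c18 LD2_c35 LD3_c60)) = (LP (LK LD1_c10 LD2_c13 LD3_c6)) :=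
  Leop (Lpe (f934325 IH) (Lpn (LP (LK LD1_c18 LD2_c35 LD3_c60))))
theorem seed_2610 : LEOK LG_g (LK LD1_c18 LD2_c35 LD3_c60) :=
  Leoe_g (LK LD1_c18 LD2_c35 LD3_c60) (f934326 IH)
def v42527 : LQ := Led Lsl_ft (LP (LK LD1_c10 LD2_c13 LD3_c16))
theorem f934487 : Led Lsl_ft (LP (LK LD1_c10 LD2_c13 LD3_c16)) = v42527 :=
  Lrfl
theorem f351050 : Led Lsl_gt (LP (LK LD1_c10 LD2_c13 LD3_c16)) = (LP (LK LD1_c18 LD2_c36 LD3_c25)) :=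
  Lre_g IH (LK LD1_c10 LD2_c13 LD3_c16) (LK LD1_c18 LD2_c36 LD3_c25) Lrfl Lrfl
theorem f351020 : Led Lsl_at (LP (LK LD1_c5 LD2_c11 LD3_c24)) = (LP (LK LD1_c10 LD2_c13 LD3_c16)) :=
  Lre_a IH (LK LD1_c5 LD2_c11 LD3_c24) (LK LD1_c10 LD2_c13 LD3_c16) Lrfl Lrfl
theorem f934488 : Led Lsl_af (LP (LK LD1_c10 LD2_c13 LD3_c24)) = v42527 :=
  Lgr Lrot45 (Lpr_ft (K19.f307936 IH) (Lpr_at (f351020 IH) (Lpr_ft (f934487 IH) (Lpn v42527))))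
theorem f934492 : Led Lsl_gt (LP (LK LD1_c18 LD2_c36 LD3_c25)) = (LP (LK LD1_c10 LD2_c13 LD3_c24)) :=
  Lgr Lrot46 (Lpe (f351050 IH) (Lpr_ft (f934487 IH) (Lpe (f934488 IH) (Lpn (LP (LK LD1_c10 LD2_c13 LD3_c24))))))
theorem f934493 : Led Lsl_gt (LP (LK LD1_c18 LD2_c36 LD3_c25)) = (LP (LK LD1_c10 LD2_c13 LD3_c24)) :=
  Leop (Lpe (f934492 IH) (Lpn (LP (LK LD1_c18 LD2_c36 LD3_c25))))
theorem seed_2611 : LEOK LG_g (LK LD1_c18 LD2_c36 LD3_c25) :=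
  Leoe_g (LK LD1_c18 LD2_c36 LD3_c25) (f934493 IH)
def v42569 : LQ := Led Lsl_gf (LP (LK LD1_c10 LD2_c13 LD3_c45))
theorem f934691 : Led Lsl_gf (LP (LK LD1_c10 LD2_c13 LD3_c45)) = v42569 :=
  Lrfl
theorem f748748 : Led Lsl_at (LP (LK LD1_c18 LD2_c36 LD3_c44)) = (LP (LK LD1_c10 LD2_c13 LD3_c45)) :=
  Lre_a IH (LK LD1_c18 LD2_c36 LD3_c44) (LK LD1_c10 LD2_c13 LD3_c45) Lrfl Lrfl
theorem f934692 : Led Lsl_gt (LP (LK LD1_c18 LD2_c24 LD3_c6)) = v42569 :=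
  Lgr Lrot5 (Lpr_ft (f748746 IH) (Lpr_at (f748748 IH) (Lpr_gf (f934691 IH) (Lpn v42569))))
def v14375 : LQ := Led Lsl_gf (LP (LK LD1_c5 LD2_c7 LD3_c33))
theorem f722245 : Led Lsl_gf (LP (LK LD1_c5 LD2_c7 LD3_c33)) = v14375 :=
  Lrfl
theorem f387117 : Led Lsl_dt (LP (LK LD1_c5 LD2_c7 LD3_c33)) = (LP (LK LD1_c2 LD2_c31 LD3_c3)) :=
  Lre_d IH (LK LD1_c5 LD2_c7 LD3_c33) (LK LD1_c2 LD2_c31 LD3_c3) Lrfl Lrfl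
theorem f722247 : Led Lsl_dt (LP (LK LD1_c5 LD2_c47 LD3_c58)) = v14375 :=
  Lgr Lrot57 (Lpr_gf (K43.f575802 IH) (Lpr_cf (K43.f574387 IH) (Lpr_gt (K38.f547839 IH) (Lpr_dt (K38.f542792 IH) (Lpr_gt (K38.f544901 IH) (Lpr_dt (K38.f387110 IH) (Lpe (K37.f387109 IH) (Lpe (f387117 IH) (Lpr_gf (f722245 IH) (Lpn v14375))))))))))
theorem f900321 : Led Lsl_cf v14375 = K69.v38263 :=
  Lgr Lrot99 (Lpe (f722247 IH) (Lpr_cf (K43.f575794 IH) (Lpe (K43.f46863 IH) (Lpr_cf (K40.f56219 IH) (Lpe (K38.f56253 IH) (Lpe (K39.f56269 IH) (Lpe (K39.f551795 IH) (Lpr_ct (K53.f442797 IH) (Lpr_gt (K69.f900318 IH) (Lpn K69.v38263))))))))))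
theorem f699266 : Led Lsl_bt (LP (LK LD1_c5 LD2_c10 LD3_c42)) = (LP (LK LD1_c9 LD2_c7 LD3_c40)) :=
  Lgr Lrot128 (Lpe (K53.f406572 IH) (Lpe (K64.f301829 IH) (Lpr_cf (K53.f699264 IH) (Lpr_bf (K40.f562717 IH) (Lpe (K53.f562713 IH) (Lpn (LP (LK LD1_c9 LD2_c7 LD3_c40))))))))
theorem f723875 : Led Lsl_cf (LP (LK LD1_c5 LD2_c14 LD3_c19)) = K72.v14581 :=
  Lgr Lrot11 (Lpr_ct (K72.f723873 IH) (Lpn K72.v14581))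
theorem f934693 : Led Lsl_bt K72.v14581 = v42569 :=
  Lgr Lrot92 (Lpe (f723875 IH) (Lpr_gt (K48.f193930 IH) (Lpr_cf (K53.f406576 IH) (Lpr_bt (f699266 IH) (Lpr_gt (K69.f900318 IH) (Lpe (f900321 IH) (Lpe (f722245 IH) (Lpe (f387107 IH) (Lpr_bt (f387113 IH) (Lpr_gt (f934692 IH) (Lpn v42569)))))))))))
theorem f723878 : Led Lsl_ft K55.v14370 = K72.v14581 :=
  Lgr Lrot48 (Lpr_ff (K72.f723876 IH) (Lpn K72.v14581))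
theorem f721184 : Led Lsl_bt (LP (LK LD1_c18 LD2_c15 LD3_c32)) = (LP (LK LD1_c9 LD2_c59 LD3_c8)) :=
  Lre_b IH (LK LD1_c18 LD2_c15 LD3_c32) (LK LD1_c9 LD2_c59 LD3_c8) Lrfl Lrfl
theorem f934695 : Led Lsl_ff (LP (LK LD1_c18 LD2_c15 LD3_c32)) = v42569 :=
  Lgr Lrot25 (Lpr_bt (f721184 IH) (Lpq (K55.f748666 IH) (Lpr_ft (f723878 IH) (Lpr_bt (f934693 IH) (Lpn v42569)))))
theorem f722912 : Led Lsl_gt (LP (LK LD1_c10 LD2_c13 LD3_c45)) = (LP (LK LD1_c18 LD2_c37 LD3_c11)) :=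
  Lre_g IH (LK LD1_c10 LD2_c13 LD3_c45) (LK LD1_c18 LD2_c37 LD3_c11) Lrfl Lrfl
theorem f934697 : Led Lsl_at (LP (LK LD1_c18 LD2_c15 LD3_c32)) = (LP (LK LD1_c18 LD2_c37 LD3_c11)) :=
  Lgr Lrot26 (Lpr_ff (f934695 IH) (Lpe (f934691 IH) (Lpr_gt (f722912 IH) (Lpn (LP (LK LD1_c18 LD2_c37 LD3_c11))))))
theorem f934698 : Led Lsl_at (LP (LK LD1_c18 LD2_c15 LD3_c32)) = (LP (LK LD1_c18 LD2_c37 LD3_c11)) :=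
  Leop (Lpe (f934697 IH) (Lpn (LP (LK LD1_c18 LD2_c15 LD3_c32))))
theorem seed_2612 : LEOK LG_a (LK LD1_c18 LD2_c15 LD3_c32) :=
  Leoe_a (LK LD1_c18 LD2_c15 LD3_c32) (f934698 IH)
def v42570 : LQ := Led Lsl_ft (LP (LK LD1_c10 LD2_c13 LD3_c45))
theorem f934701 : Led Lsl_ft (LP (LK LD1_c10 LD2_c13 LD3_c45)) = v42570 :=
  Lrfl
theorem f934702 : Led Lsl_af (LP (LK LD1_c18 LD2_c24 LD3_c6)) = v42570 :=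
  Lgr Lrot45 (Lpr_ft (f748746 IH) (Lpr_at (f748748 IH) (Lpr_ft (f934701 IH) (Lpn v42570))))
theorem f934705 : Led Lsl_gt (LP (LK LD1_c18 LD2_c37 LD3_c11)) = (LP (LK LD1_c18 LD2_c24 LD3_c6)) :=
  Lgr Lrot46 (Lpe (f722912 IH) (Lpr_ft (f934701 IH) (Lpe (f934702 IH) (Lpn (LP (LK LD1_c18 LD2_c24 LD3_c6))))))
theorem f934706 : Led Lsl_gt (LP (LK LD1_c18 LD2_c37 LD3_c11)) = (LP (LK LD1_c18 LD2_c24 LD3_c6)) :=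
  Leop (Lpe (f934705 IH) (Lpn (LP (LK LD1_c18 LD2_c37 LD3_c11))))
theorem seed_2613 : LEOK LG_g (LK LD1_c18 LD2_c37 LD3_c11) :=
  Leoe_g (LK LD1_c18 LD2_c37 LD3_c11) (f934706 IH)
def v42600 : LQ := Led Lsl_gt (LP (LK LD1_c10 LD2_c14 LD3_c5))
theorem f934831 : Led Lsl_gt (LP (LK LD1_c10 LD2_c14 LD3_c5)) = v42600 :=
  Lrfl
theorem f163750 : Led Lsl_ct (LP (LK LD1_c5 LD2_c11 LD3_c40)) = (LP (LK LD1_c10 LD2_c14 LD3_c5)) :=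
  Lre_c IH (LK LD1_c5 LD2_c11 LD3_c40) (LK LD1_c10 LD2_c14 LD3_c5) Lrfl Lrfl
def v14435 : LQ := Led Lsl_gf (LP (LK LD1_c5 LD2_c10 LD3_c19))
theorem f722514 : Led Lsl_gf (LP (LK LD1_c5 LD2_c10 LD3_c19)) = v14435 :=
  Lrfl
theorem f722517 : Led Lsl_dt (LP (LK LD1_c5 LD2_c10 LD3_c60)) = v14435 :=
  Lgr Lrot57 (Lpe (K44.f343361 IH) (Lpe (K14.f248958 IH) (Lpr_gt (K53.f343610 IH) (Lpr_dt (K72.f604578 IH) (Lpr_gt (K44.f248278 IH) (Lpr_dt (K18.f249986 IH) (Lpe (K44.f186736 IH) (Lpe (K45.f257563 IH) (Lpr_gf (f722514 IH) (Lpn v14435))))))))))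
theorem f722519 : Led Lsl_df (LP (LK LD1_c5 LD2_c10 LD3_c60)) = v14435 :=
  Lgr Lrot38 (Lpr_dt (f722517 IH) (Lpn v14435))
theorem f934116 : Led Lsl_bf v14435 = v42454 :=
  Lgr Lrot93 (Lpe (f722519 IH) (Lpr_bt (K44.f260132 IH) (Lpr_dt (f934115 IH) (Lpn v42454))))
theorem f934833 : Led Lsl_ct v42454 = v42600 :=
  Lgr Lrot63 (Lpe (f934116 IH) (Lpe (f722514 IH) (Lpe (K45.f186779 IH) (Lpe (K14.f186715 IH) (Lpe (K9.f165455 IH) (Lpr_cf (K8.f163718 IH) (Lpr_bt (K71.f163747 IH) (Lpr_gt (K71.f21490 IH) (Lpr_ct (f163750 IH) (Lpr_gt (f934831 IH) (Lpn v42600)))))))))))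
theorem f406757 : Led Lsl_at (LP (LK LD1_c10 LD2_c11 LD3_c21)) = (LP (LK LD1_c5 LD2_c10 LD3_c19)) :=
  Lre_a IH (LK LD1_c10 LD2_c11 LD3_c21) (LK LD1_c5 LD2_c10 LD3_c19) Lrfl Lrfl
def v14188 : LQ := Led Lsl_dt (LP (LK LD1_c5 LD2_c2 LD3_c35))
theorem f720910 : Led Lsl_dt (LP (LK LD1_c5 LD2_c2 LD3_c35)) = v14188 :=
  Lrfl
theorem f720914 : Led Lsl_ff (LP (LK LD1_c10 LD2_c11 LD3_c21)) = v14188 :=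
  Lgr Lrot19 (Lpr_dt (K45.f299648 IH) (Lpr_ft (K44.f299714 IH) (Lpr_dt (f720910 IH) (Lpn v14188))))
theorem f722515 : Led Lsl_gt v14188 = v14435 :=
  Lgr Lrot5 (Lpe (f720914 IH) (Lpr_at (f406757 IH) (Lpr_gf (f722514 IH) (Lpn v14435))))
theorem f406758 : Led Lsl_bf (LP (LK LD1_c9 LD2_c57 LD3_c4)) = (LP (LK LD1_c10 LD2_c11 LD3_c21)) :=
  Lgr Lrot24 (Lpr_bt (K72.f299849 IH) (Lpn (LP (LK LD1_c10 LD2_c11 LD3_c21))))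
theorem f720916 : Led Lsl_bt (LP (LK LD1_c10 LD2_c10 LD3_c39)) = v14188 :=
  Lgr Lrot35 (Lpe (K32.f299877 IH) (Lpr_bf (f406758 IH) (Lpr_ff (f720914 IH) (Lpn v14188))))
theorem f722889 : Led Lsl_bt (LP (LK LD1_c5 LD2_c11 LD3_c41)) = (LP (LK LD1_c10 LD2_c14 LD3_c7)) :=
  Lre_b IH (LK LD1_c5 LD2_c11 LD3_c41) (LK LD1_c10 LD2_c14 LD3_c7) Lrfl Lrfl
theorem f164616 : Led Lsl_ct (LP (LK LD1_c5 LD2_c11 LD3_c41)) = (LP (LK LD1_c10 LD2_c14 LD3_c8)) :=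
  Lre_c IH (LK LD1_c5 LD2_c11 LD3_c41) (LK LD1_c10 LD2_c14 LD3_c8) Lrfl Lrfl
theorem f934835 : Led Lsl_gf (LP (LK LD1_c10 LD2_c14 LD3_c8)) = v42600 :=
  Lgr Lrot126 (Lpe (f164616 IH) (Lpr_bt (f722889 IH) (Lpr_gt (f926995 IH) (Lpe (K53.f343404 IH) (Lpr_gt (K53.f299956 IH) (Lpe (K32.f299883 IH) (Lpr_bt (f720916 IH) (Lpr_gt (f722515 IH) (Lpr_bf (f934116 IH) (Lpr_ct (f934833 IH) (Lpn v42600)))))))))))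
theorem f164539 : Led Lsl_ct (LP (LK LD1_c10 LD2_c14 LD3_c8)) = (LP (LK LD1_c5 LD2_c11 LD3_c41)) :=
  Lre_c IH (LK LD1_c10 LD2_c14 LD3_c8) (LK LD1_c5 LD2_c11 LD3_c41) Lrfl Lrfl
theorem f585225 : Led Lsl_gt (LP (LK LD1_c18 LD2_c10 LD3_c46)) = (LP (LK LD1_c18 LD2_c20 LD3_c37)) :=
  Lgr Lrot82 (Lpr_bf (K72.f585216 IH) (Lpr_ct (K44.f165305 IH) (Lpe (K44.f165304 IH) (Lpe (K44.f165303 IH) (Lpr_bt (K44.f165302 IH) (Lpe (K9.f165280 IH) (Lpe (K45.f165289 IH) (Lpr_ct (K45.f165291 IH) (Lpe (K45.f165292 IH) (Lpe (K45.f180550 IH) (Lpn (LP (LK LD1_c18 LD2_c20 LD3_c37)))))))))))))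
theorem f585160 : Led Lsl_at (LP (LK LD1_c18 LD2_c33 LD3_c39)) = (LP (LK LD1_c10 LD2_c11 LD3_c18)) :=
  Lre_a IH (LK LD1_c18 LD2_c33 LD3_c39) (LK LD1_c10 LD2_c11 LD3_c18) Lrfl Lrfl
theorem f585227 : Led Lsl_gf (LP (LK LD1_c10 LD2_c11 LD3_c18)) = (LP (LK LD1_c18 LD2_c20 LD3_c37)) :=
  Lgr Lrot76 (Lpe (f585160 IH) (Lpr_ff (K72.f585158 IH) (Lpr_gt (f585225 IH) (Lpn (LP (LK LD1_c18 LD2_c20 LD3_c37))))))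
theorem f934836 : Led Lsl_gt (LP (LK LD1_c10 LD2_c23 LD3_c4)) = v42454 :=
  Lgr Lrot9 (Lpr_df (K53.f412962 IH) (Lpe (f585227 IH) (Lpr_ct (K72.f299723 IH) (Lpe (f927001 IH) (Lpr_ct (K72.f240337 IH) (Lpq (K72.f926953 IH) (Lpe (K72.f722905 IH) (Lpe (f164539 IH) (Lpr_gf (f934835 IH) (Lpe (f934833 IH) (Lpn v42454)))))))))))
theorem f166208 : Led Lsl_bt (LP (LK LD1_c5 LD2_c16 LD3_c46)) = (LP (LK LD1_c10 LD2_c23 LD3_c4)) :=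
  Lre_b IH (LK LD1_c5 LD2_c16 LD3_c46) (LK LD1_c10 LD2_c23 LD3_c4) Lrfl Lrfl
theorem f35015 : Led Lsl_ct (LP (LK LD1_c5 LD2_c16 LD3_c46)) = (LP (LK LD1_c10 LD2_c23 LD3_c5)) :=
  Lre_c IH (LK LD1_c5 LD2_c16 LD3_c46) (LK LD1_c10 LD2_c23 LD3_c5) Lrfl Lrfl
theorem f35195 : Led Lsl_gt (LP (LK LD1_c18 LD2_c50 LD3_c30)) = (LP (LK LD1_c10 LD2_c23 LD3_c5)) :=
  Lre_g IH (LK LD1_c18 LD2_c50 LD3_c30) (LK LD1_c10 LD2_c23 LD3_c5) Lrfl Lrfl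
theorem f934837 : Led Lsl_ct (LP (LK LD1_c18 LD2_c16 LD3_c13)) = (LP (LK LD1_c18 LD2_c50 LD3_c30)) :=
  Lgr Lrot64 (Lpr_bt (K53.f343400 IH) (Lpe (f926995 IH) (Lpe (f722889 IH) (Lpr_ct (f164616 IH) (Lpr_gf (f934835 IH) (Lpe (f934833 IH) (Lpe (f934836 IH) (Lpe (f166208 IH) (Lpr_ct (f35015 IH) (Lpe (f35195 IH) (Lpn (LP (LK LD1_c18 LD2_c50 LD3_c30)))))))))))))
theorem f934838 : Led Lsl_ct (LP (LK LD1_c18 LD2_c16 LD3_c13)) = (LP (LK LD1_c18 LD2_c50 LD3_c30)) :=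
  Leop (Lpe (f934837 IH) (Lpn (LP (LK LD1_c18 LD2_c16 LD3_c13))))
theorem seed_2614 : LEOK LG_c (LK LD1_c18 LD2_c16 LD3_c13) :=
  Leoe_c (LK LD1_c18 LD2_c16 LD3_c13) (f934838 IH)
theorem f934126 : Led Lsl_ft K72.v41330 = v42454 :=
  Lgr Lrot48 (Lpr_ff (f934118 IH) (Lpn v42454))
theorem f934834 : Led Lsl_ff (LP (LK LD1_c18 LD2_c26 LD3_c7)) = v42600 :=
  Lgr Lrot23 (Lpr_ct (K72.f925504 IH) (Lpr_ft (f934126 IH) (Lpr_ct (f934833 IH) (Lpn v42600))))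
theorem f934851 : Led Lsl_ft (LP (LK LD1_c18 LD2_c26 LD3_c7)) = v42600 :=
  Lgr Lrot48 (Lpr_ff (f934834 IH) (Lpn v42600))
def v42194 : LQ := Led Lsl_at (LP (LK LD1_c10 LD2_c7 LD3_c2))
theorem f932800 : Led Lsl_at (LP (LK LD1_c10 LD2_c7 LD3_c2)) = v42194 :=
  Lrfl
def v14397 : LQ := Led Lsl_at (LP (LK LD1_c5 LD2_c8 LD3_c17))
theorem f722337 : Led Lsl_at (LP (LK LD1_c5 LD2_c8 LD3_c17)) = v14397 :=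
  Lrfl
theorem f722338 : Led Lsl_af (LP (LK LD1_c5 LD2_c8 LD3_c17)) = v14397 :=
  Lgr Lrot0 (Lpr_at (f722337 IH) (Lpn v14397))
theorem f932802 : Led Lsl_cf v14397 = v42194 :=
  Lgr Lrot1 (Lpe (f722338 IH) (Lpr_ct (K72.f164598 IH) (Lpr_at (f932800 IH) (Lpn v42194))))
theorem f722339 : Led Lsl_ft (LP (LK LD1_c5 LD2_c8 LD3_c18)) = v14397 :=
  Lgr Lrot2 (Lpr_gt (K53.f164455 IH) (Lpr_gt (K44.f164597 IH) (Lpr_af (f722338 IH) (Lpn v14397))))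
theorem f722341 : Led Lsl_ff (LP (LK LD1_c5 LD2_c8 LD3_c18)) = v14397 :=
  Lgr Lrot3 (Lpr_ft (f722339 IH) (Lpn v14397))
theorem f932804 : Led Lsl_ft (LP (LK LD1_c10 LD2_c7 LD3_c5)) = v42194 :=
  Lgr Lrot4 (Lpe (K72.f164499 IH) (Lpr_ff (f722341 IH) (Lpr_cf (f932802 IH) (Lpn v42194))))
theorem f932801 : Led Lsl_af (LP (LK LD1_c10 LD2_c7 LD3_c2)) = v42194 :=
  Lgr Lrot0 (Lpr_at (f932800 IH) (Lpn v42194))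
def v42193 : LQ := Led Lsl_gf (LP (LK LD1_c10 LD2_c7 LD3_c2))
theorem f932798 : Led Lsl_gf (LP (LK LD1_c10 LD2_c7 LD3_c2)) = v42193 :=
  Lrfl
theorem f932806 : Led Lsl_gt (LP (LK LD1_c10 LD2_c7 LD3_c5)) = v42193 :=
  Lgr Lrot5 (Lpr_ft (f932804 IH) (Lpe (f932801 IH) (Lpr_gf (f932798 IH) (Lpn v42193))))
theorem f934852 : Led Lsl_af v42193 = v42600 :=
  Lgr Lrot31 (Lpe (f932806 IH) (Lpe (K72.f925507 IH) (Lpr_ft (f934851 IH) (Lpn v42600))))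
theorem f934853 : Led Lsl_at v42193 = v42600 :=
  Lgr Lrot100 (Lpr_af (f934852 IH) (Lpn v42600))
theorem f164531 : Led Lsl_gt (LP (LK LD1_c18 LD2_c37 LD3_c45)) = (LP (LK LD1_c10 LD2_c14 LD3_c5)) :=
  Lre_g IH (LK LD1_c18 LD2_c37 LD3_c45) (LK LD1_c10 LD2_c14 LD3_c5) Lrfl Lrfl
theorem f934854 : Led Lsl_ff v42193 = (LP (LK LD1_c18 LD2_c37 LD3_c45)) :=
  Lgr Lrot52 (Lpr_at (f934853 IH) (Lpe (f934831 IH) (Lpe (f164531 IH) (Lpn (LP (LK LD1_c18 LD2_c37 LD3_c45))))))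
theorem f934855 : Led Lsl_at (LP (LK LD1_c18 LD2_c26 LD3_c7)) = (LP (LK LD1_c18 LD2_c37 LD3_c45)) :=
  Lgr Lrot66 (Lpr_ff (f934834 IH) (Lpe (f934853 IH) (Lpr_ff (f934854 IH) (Lpn (LP (LK LD1_c18 LD2_c37 LD3_c45))))))
theorem f934856 : Led Lsl_at (LP (LK LD1_c18 LD2_c26 LD3_c7)) = (LP (LK LD1_c18 LD2_c37 LD3_c45)) :=
  Leop (Lpe (f934855 IH) (Lpn (LP (LK LD1_c18 LD2_c26 LD3_c7))))
theorem seed_2615 : LEOK LG_a (LK LD1_c18 LD2_c26 LD3_c7) :=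
  Leoe_a (LK LD1_c18 LD2_c26 LD3_c7) (f934856 IH)
theorem f934857 : Led Lsl_ft v42193 = (LP (LK LD1_c18 LD2_c37 LD3_c45)) :=
  Lgr Lrot48 (Lpr_ff (f934854 IH) (Lpn (LP (LK LD1_c18 LD2_c37 LD3_c45))))
theorem f934858 : Led Lsl_af (LP (LK LD1_c18 LD2_c26 LD3_c7)) = (LP (LK LD1_c18 LD2_c37 LD3_c45)) :=
  Lgr Lrot45 (Lpr_ft (f934851 IH) (Lpe (f934852 IH) (Lpr_ft (f934857 IH) (Lpn (LP (LK LD1_c18 LD2_c37 LD3_c45))))))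
theorem f934860 : Led Lsl_ct (LP (LK LD1_c18 LD2_c49 LD3_c47)) = (LP (LK LD1_c18 LD2_c37 LD3_c45)) :=
  Lgr Lrot111 (Lpr_af (f925499 IH) (Lpe (K72.f925504 IH) (Lpr_af (f934858 IH) (Lpn (LP (LK LD1_c18 LD2_c37 LD3_c45))))))
theorem f934861 : Led Lsl_ct (LP (LK LD1_c18 LD2_c49 LD3_c47)) = (LP (LK LD1_c18 LD2_c37 LD3_c45)) :=
  Leop (Lpe (f934860 IH) (Lpn (LP (LK LD1_c18 LD2_c49 LD3_c47))))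
theorem seed_2616 : LEOK LG_c (LK LD1_c18 LD2_c49 LD3_c47) :=
  Leoe_c (LK LD1_c18 LD2_c49 LD3_c47) (f934861 IH)
def v42652 : LQ := Led Lsl_gt (LP (LK LD1_c10 LD2_c14 LD3_c30))
theorem f935114 : Led Lsl_gt (LP (LK LD1_c10 LD2_c14 LD3_c30)) = v42652 :=
  Lrfl
theorem f722939 : Led Lsl_bt (LP (LK LD1_c5 LD2_c11 LD3_c49)) = (LP (LK LD1_c10 LD2_c14 LD3_c30)) :=
  Lre_b IH (LK LD1_c5 LD2_c11 LD3_c49) (LK LD1_c10 LD2_c14 LD3_c30) Lrfl Lrfl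
theorem f48630 : Led Lsl_bt (LP (LK LD1_c10 LD2_c27 LD3_c44)) = (LP (LK LD1_c5 LD2_c18 LD3_c56)) :=
  Lre_b IH (LK LD1_c10 LD2_c27 LD3_c44) (LK LD1_c5 LD2_c18 LD3_c56) Lrfl Lrfl
theorem f618439 : Led Lsl_bt (LP (LK LD1_c9 LD2_c7 LD3_c45)) = (LP (LK LD1_c5 LD2_c58 LD3_c9)) :=
  Lgr Lrot119 (Lpe (K36.f547906 IH) (Lpr_bf (K72.f618437 IH) (Lpe (K5.f75954 IH) (Lpn (LP (LK LD1_c5 LD2_c58 LD3_c9))))))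
theorem f900354 : Led Lsl_cf (LP (LK LD1_c9 LD2_c7 LD3_c45)) = K72.v38268 :=
  Lgr Lrot39 (Lpr_et (f547934 IH) (Lpr_ct (K43.f71797 IH) (Lpr_et (K72.f900352 IH) (Lpn K72.v38268))))
theorem f924626 : Led Lsl_bt K71.v14668 = K72.v38268 :=
  Lgr Lrot128 (Lpr_cf (K71.f924038 IH) (Lpr_bf (K72.f924623 IH) (Lpe (K72.f748911 IH) (Lpe (f618439 IH) (Lpr_cf (f900354 IH) (Lpn K72.v38268))))))
theorem f725053 : Led Lsl_bt (LP (LK LD1_c5 LD2_c18 LD3_c56)) = (LP (LK LD1_c10 LD2_c27 LD3_c44)) :=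
  Lre_b IH (LK LD1_c5 LD2_c18 LD3_c56) (LK LD1_c10 LD2_c27 LD3_c44) Lrfl Lrfl
theorem f925067 : K72.v38268 = (LP (LK LD1_c10 LD2_c27 LD3_c44)) :=
  Lefun (Lecon (f924626 IH) ((K72.f925050 IH).trans (K72.f925004 IH))) (f725053 IH)
def v38556 : LQ := Led Lsl_ct (LP (LK LD1_c9 LD2_c12 LD3_c26))
theorem f902913 : Led Lsl_ct (LP (LK LD1_c9 LD2_c12 LD3_c26)) = v38556 :=
  Lrfl
theorem f902914 : Led Lsl_cf (LP (LK LD1_c9 LD2_c12 LD3_c26)) = v38556 :=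
  Lgr Lrot11 (Lpr_ct (f902913 IH) (Lpn v38556))
theorem f935116 : Led Lsl_bt v38556 = v42652 :=
  Lgr Lrot92 (Lpe (f902914 IH) (Lpe (K69.f621230 IH) (Lpr_cf (f900354 IH) (Lpqs (f925067 IH) (Lpr_bt (f48630 IH) (Lpr_gt (K72.f32725 IH) (Lpe (K2.f71771 IH) (Lpr_gt (K56.f71286 IH) (Lpq (K72.f924755 IH) (Lpe (K72.f722947 IH) (Lpr_bt (f722939 IH) (Lpr_gt (f935114 IH) (Lpn v42652)))))))))))))
theorem f902915 : Led Lsl_ff (LP (LK LD1_c17 LD2_c9 LD3_c46)) = v38556 :=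
  Lgr Lrot23 (Lpr_ct (f621227 IH) (Lpr_ft (K53.f719634 IH) (Lpr_ct (f902913 IH) (Lpn v38556))))
theorem f902917 : Led Lsl_ft (LP (LK LD1_c17 LD2_c9 LD3_c46)) = v38556 :=
  Lgr Lrot48 (Lpr_ff (f902915 IH) (Lpn v38556))
def v41599 : LQ := Led Lsl_et (LP (LK LD1_c9 LD2_c59 LD3_c17))
theorem f927068 : Led Lsl_et (LP (LK LD1_c9 LD2_c59 LD3_c17)) = v41599 :=
  Lrfl
theorem f927070 : Led Lsl_bf (LP (LK LD1_c17 LD2_c9 LD3_c46)) = v41599 :=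
  Lgr Lrot96 (Lpr_et (K69.f714495 IH) (Lpr_bt (K53.f583606 IH) (Lpr_et (f927068 IH) (Lpn v41599))))
theorem f935118 : Led Lsl_ff v41599 = v42652 :=
  Lgr Lrot25 (Lpe (f927070 IH) (Lpr_ft (f902917 IH) (Lpr_bt (f935116 IH) (Lpn v42652))))
theorem f583816 : Led Lsl_et (LP (LK LD1_c18 LD2_c35 LD3_c58)) = (LP (LK LD1_c10 LD2_c12 LD3_c57)) :=
  Lre_e IH (LK LD1_c18 LD2_c35 LD3_c58) (LK LD1_c10 LD2_c12 LD3_c57) Lrfl Lrfl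
theorem f927069 : Led Lsl_af (LP (LK LD1_c18 LD2_c35 LD3_c58)) = v41599 :=
  Lgr Lrot50 (Lpr_et (f583816 IH) (Lpr_at (K53.f723291 IH) (Lpr_et (f927068 IH) (Lpn v41599))))
def v41736 : LQ := Led Lsl_gf (LP (LK LD1_c10 LD2_c0 LD3_c33))
theorem f928096 : Led Lsl_gf (LP (LK LD1_c10 LD2_c0 LD3_c33)) = v41736 :=
  Lrfl
theorem f927071 : Led Lsl_ef (LP (LK LD1_c9 LD2_c59 LD3_c17)) = v41599 :=
  Lgr Lrot88 (Lpr_et (f927068 IH) (Lpn v41599))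
theorem f927073 : Led Lsl_bt (LP (LK LD1_c17 LD2_c9 LD3_c46)) = v41599 :=
  Lgr Lrot119 (Lpr_ef (K69.f714525 IH) (Lpe (K53.f583617 IH) (Lpr_ef (f927071 IH) (Lpn v41599))))
theorem f724862 : Led Lsl_bt (LP (LK LD1_c5 LD2_c16 LD3_c51)) = (LP (LK LD1_c10 LD2_c23 LD3_c15)) :=
  Lre_b IH (LK LD1_c5 LD2_c16 LD3_c51) (LK LD1_c10 LD2_c23 LD3_c15) Lrfl Lrfl
theorem f924636 : Led Lsl_ft (LP (LK LD1_c10 LD2_c23 LD3_c15)) = K72.v38268 :=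
  Lgr Lrot75 (Lpe (f724862 IH) (Lpr_ff (K71.f724873 IH) (Lpr_bf (K72.f924634 IH) (Lpn K72.v38268))))
theorem f924640 : Led Lsl_ff (LP (LK LD1_c10 LD2_c23 LD3_c15)) = K72.v38268 :=
  Lgr Lrot3 (Lpr_ft (f924636 IH) (Lpn K72.v38268))
theorem f900357 : Led Lsl_ct (LP (LK LD1_c9 LD2_c7 LD3_c45)) = K72.v38268 :=
  Lgr Lrot15 (Lpe (K36.f547906 IH) (Lpe (K45.f547896 IH) (Lpr_ef (K72.f900355 IH) (Lpn K72.v38268))))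
theorem f924648 : Led Lsl_ct (LP (LK LD1_c10 LD2_c23 LD3_c15)) = (LP (LK LD1_c16 LD2_c59 LD3_c58)) :=
  Lgr Lrot40 (Lpr_ff (f924640 IH) (Lpe (f900357 IH) (Lpe (K36.f547915 IH) (Lpn (LP (LK LD1_c16 LD2_c59 LD3_c58))))))
theorem f636392 : Led Lsl_bt (LP (LK LD1_c10 LD2_c23 LD3_c15)) = (LP (LK LD1_c5 LD2_c16 LD3_c51)) :=
  Lre_b IH (LK LD1_c10 LD2_c23 LD3_c15) (LK LD1_c5 LD2_c16 LD3_c51) Lrfl Lrfl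
theorem f641086 : Led Lsl_ct (LP (LK LD1_c5 LD2_c18 LD3_c57)) = K72.v4962 :=
  Lgr Lrot40 (Lpe (K72.f32724 IH) (Lpe (K2.f71757 IH) (Lpr_ff (K72.f641084 IH) (Lpn K72.v4962))))
theorem f721727 : Led Lsl_bt (LP (LK LD1_c5 LD2_c4 LD3_c42)) = (LP (LK LD1_c10 LD2_c0 LD3_c33)) :=
  Lre_b IH (LK LD1_c5 LD2_c4 LD3_c42) (LK LD1_c10 LD2_c0 LD3_c33) Lrfl Lrfl
theorem f927074 : Led Lsl_gt (LP (LK LD1_c10 LD2_c0 LD3_c33)) = v41599 :=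
  Lgr Lrot164 (Lpe (f721727 IH) (Lpq (K72.f924761 IH) (Lpr_ct (K72.f924760 IH) (Lpe (K72.f699949 IH) (Lpe (f641086 IH) (Lpe (K35.f636390 IH) (Lpe (f636392 IH) (Lpr_ct (f924648 IH) (Lpr_gf (K53.f621225 IH) (Lpe (f621227 IH) (Lpr_bt (f927073 IH) (Lpn v41599))))))))))))
theorem f723293 : Led Lsl_af (LP (LK LD1_c10 LD2_c12 LD3_c57)) = (LP (LK LD1_c9 LD2_c59 LD3_c17)) :=
  Lgr Lrot0 (Lpr_at (K53.f723291 IH) (Lpn (LP (LK LD1_c9 LD2_c59 LD3_c17))))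
theorem f350997 : Led Lsl_et (LP (LK LD1_c10 LD2_c12 LD3_c57)) = (LP (LK LD1_c18 LD2_c35 LD3_c58)) :=
  Lre_e IH (LK LD1_c10 LD2_c12 LD3_c57) (LK LD1_c18 LD2_c35 LD3_c58) Lrfl Lrfl
theorem f927072 : Led Lsl_at (LP (LK LD1_c18 LD2_c35 LD3_c58)) = v41599 :=
  Lgr Lrot80 (Lpe (f350997 IH) (Lpr_af (f723293 IH) (Lpr_ef (f927071 IH) (Lpn v41599))))
theorem f928097 : Led Lsl_ff (LP (LK LD1_c18 LD2_c35 LD3_c58)) = v41736 :=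
  Lgr Lrot52 (Lpr_at (f927072 IH) (Lpe (f927074 IH) (Lpr_gf (f928096 IH) (Lpn v41736))))
theorem f928098 : Led Lsl_ft (LP (LK LD1_c18 LD2_c35 LD3_c58)) = v41736 :=
  Lgr Lrot48 (Lpr_ff (f928097 IH) (Lpn v41736))
theorem f935119 : Led Lsl_at v41736 = v42652 :=
  Lgr Lrot66 (Lpe (f928098 IH) (Lpr_af (f927069 IH) (Lpr_ff (f935118 IH) (Lpn v42652))))
theorem f935123 : Led Lsl_gt (LP (LK LD1_c18 LD2_c35 LD3_c58)) = (LP (LK LD1_c10 LD2_c14 LD3_c30)) :=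
  Lgr Lrot5 (Lpr_ft (f928098 IH) (Lpr_at (f935119 IH) (Lpe (f935114 IH) (Lpn (LP (LK LD1_c10 LD2_c14 LD3_c30))))))
theorem f935124 : Led Lsl_gt (LP (LK LD1_c18 LD2_c35 LD3_c58)) = (LP (LK LD1_c10 LD2_c14 LD3_c30)) :=
  Leop (Lpe (f935123 IH) (Lpn (LP (LK LD1_c18 LD2_c35 LD3_c58))))
theorem seed_2617 : LEOK LG_g (LK LD1_c18 LD2_c35 LD3_c58) :=
  Leoe_g (LK LD1_c18 LD2_c35 LD3_c58) (f935124 IH)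
def v42691 : LQ := Led Lsl_dt (LP (LK LD1_c10 LD2_c15 LD3_c11))
theorem f935320 : Led Lsl_dt (LP (LK LD1_c10 LD2_c15 LD3_c11)) = v42691 :=
  Lrfl
theorem f169997 : Led Lsl_ct (LP (LK LD1_c5 LD2_c6 LD3_c18)) = (LP (LK LD1_c10 LD2_c3 LD3_c40)) :=
  Lre_c IH (LK LD1_c5 LD2_c6 LD3_c18) (LK LD1_c10 LD2_c3 LD3_c40) Lrfl Lrfl
theorem f721478 : Led Lsl_at (LP (LK LD1_c10 LD2_c3 LD3_c40)) = (LP (LK LD1_c10 LD2_c15 LD3_c11)) :=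
  Lgr Lrot107 (Lpe (f169997 IH) (Lpr_af (K72.f721474 IH) (Lpe (K44.f300641 IH) (Lpn (LP (LK LD1_c10 LD2_c15 LD3_c11))))))
theorem f721527 : Led Lsl_af (LP (LK LD1_c10 LD2_c3 LD3_c40)) = (LP (LK LD1_c10 LD2_c15 LD3_c11)) :=
  Lgr Lrot0 (Lpr_at (f721478 IH) (Lpn (LP (LK LD1_c10 LD2_c15 LD3_c11))))
theorem f721504 : Led Lsl_ft (LP (LK LD1_c10 LD2_c3 LD3_c40)) = (LP (LK LD1_c10 LD2_c15 LD3_c14)) :=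
  Lgr Lrot4 (Lpe (f169997 IH) (Lpr_ff (K72.f721498 IH) (Lpe (K53.f258065 IH) (Lpn (LP (LK LD1_c10 LD2_c15 LD3_c14))))))
theorem f586239 : Led Lsl_af (LP (LK LD1_c18 LD2_c22 LD3_c18)) = (LP (LK LD1_c18 LD2_c39 LD3_c12)) :=
  Lgr Lrot0 (Lpr_at (K45.f586237 IH) (Lpn (LP (LK LD1_c18 LD2_c39 LD3_c12))))
theorem f604203 : Led Lsl_gf (LP (LK LD1_c18 LD2_c22 LD3_c18)) = (LP (LK LD1_c10 LD2_c3 LD3_c40)) :=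
  Lgr Lrot76 (Lpr_af (f586239 IH) (Lpe (K45.f586233 IH) (Lpr_gt (K72.f585880 IH) (Lpn (LP (LK LD1_c10 LD2_c3 LD3_c40))))))
theorem f721508 : Led Lsl_af (LP (LK LD1_c10 LD2_c3 LD3_c36)) = (LP (LK LD1_c10 LD2_c15 LD3_c14)) :=
  Lgr Lrot31 (Lpe (K44.f300621 IH) (Lpr_gf (f604203 IH) (Lpr_ft (f721504 IH) (Lpn (LP (LK LD1_c10 LD2_c15 LD3_c14))))))
theorem f721529 : Led Lsl_ft (LP (LK LD1_c10 LD2_c3 LD3_c36)) = (LP (LK LD1_c10 LD2_c15 LD3_c11)) :=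
  Lgr Lrot101 (Lpr_af (f721508 IH) (Lpe (f721504 IH) (Lpr_af (f721527 IH) (Lpn (LP (LK LD1_c10 LD2_c15 LD3_c11))))))
def v41889 : LQ := Led Lsl_dt (LP (LK LD1_c10 LD2_c3 LD3_c36))
theorem f930009 : Led Lsl_dt (LP (LK LD1_c10 LD2_c3 LD3_c36)) = v41889 :=
  Lrfl
theorem f930011 : Led Lsl_df (LP (LK LD1_c10 LD2_c3 LD3_c36)) = v41889 :=
  Lgr Lrot38 (Lpr_dt (f930009 IH) (Lpn v41889))
theorem f935323 : Led Lsl_ff v41889 = v42691 :=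
  Lgr Lrot19 (Lpe (f930011 IH) (Lpr_ft (f721529 IH) (Lpr_dt (f935320 IH) (Lpn v42691))))
theorem f406645 : Led Lsl_dt (LP (LK LD1_c18 LD2_c39 LD3_c19)) = (LP (LK LD1_c10 LD2_c15 LD3_c14)) :=
  Lre_d IH (LK LD1_c18 LD2_c39 LD3_c19) (LK LD1_c10 LD2_c15 LD3_c14) Lrfl Lrfl
theorem f930010 : Led Lsl_af (LP (LK LD1_c18 LD2_c39 LD3_c19)) = v41889 :=
  Lgr Lrot117 (Lpr_dt (f406645 IH) (Lpe (f721508 IH) (Lpr_dt (f930009 IH) (Lpn v41889))))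
theorem f721506 : Led Lsl_ff (LP (LK LD1_c10 LD2_c3 LD3_c40)) = (LP (LK LD1_c10 LD2_c15 LD3_c14)) :=
  Lgr Lrot3 (Lpr_ft (f721504 IH) (Lpn (LP (LK LD1_c10 LD2_c15 LD3_c14))))
theorem f930092 : Led Lsl_ff (LP (LK LD1_c18 LD2_c39 LD3_c19)) = K72.v41903 :=
  Lgr Lrot19 (Lpr_dt (f406645 IH) (Lpe (f721506 IH) (Lpr_dt (K72.f930090 IH) (Lpn K72.v41903))))
theorem f930093 : Led Lsl_ft (LP (LK LD1_c18 LD2_c39 LD3_c19)) = K72.v41903 :=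
  Lgr Lrot48 (Lpr_ff (f930092 IH) (Lpn K72.v41903))
theorem f935324 : Led Lsl_at K72.v41903 = v42691 :=
  Lgr Lrot66 (Lpe (f930093 IH) (Lpr_af (f930010 IH) (Lpr_ff (f935323 IH) (Lpn v42691))))
theorem f604176 : Led Lsl_gf (LP (LK LD1_c19 LD2_c2 LD3_c6)) = (LP (LK LD1_c18 LD2_c39 LD3_c19)) :=
  Lgr Lrot147 (Lpr_ct (K45.f586009 IH) (Lpr_gt (K45.f258080 IH) (Lpr_ct (K44.f258047 IH) (Lpr_df (K44.f583410 IH) (Lpr_cf (K44.f169593 IH) (Lpe (K44.f169595 IH) (Lpe (K44.f586181 IH) (Lpr_gf (K53.f604172 IH) (Lpe (f406645 IH) (Lpn (LP (LK LD1_c18 LD2_c39 LD3_c19))))))))))))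
theorem f935326 : Led Lsl_gt (LP (LK LD1_c19 LD2_c2 LD3_c6)) = v42691 :=
  Lgr Lrot46 (Lpr_gf (f604176 IH) (Lpr_ft (f930093 IH) (Lpr_at (f935324 IH) (Lpn v42691))))
theorem f377925 : Led Lsl_dt (LP (LK LD1_c18 LD2_c53 LD3_c19)) = (LP (LK LD1_c10 LD2_c24 LD3_c40)) :=
  Lre_d IH (LK LD1_c18 LD2_c53 LD3_c19) (LK LD1_c10 LD2_c24 LD3_c40) Lrfl Lrfl
theorem f273652 : Led Lsl_bt (LP (LK LD1_c18 LD2_c53 LD3_c19)) = (LP (LK LD1_c10 LD2_c24 LD3_c41)) :=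
  Lre_b IH (LK LD1_c18 LD2_c53 LD3_c19) (LK LD1_c10 LD2_c24 LD3_c41) Lrfl Lrfl
theorem f284926 : Led Lsl_bt (LP (LK LD1_c10 LD2_c25 LD3_c21)) = (LP (LK LD1_c18 LD2_c54 LD3_c33)) :=
  Lre_b IH (LK LD1_c10 LD2_c25 LD3_c21) (LK LD1_c18 LD2_c54 LD3_c33) Lrfl Lrfl
theorem f364555 : Led Lsl_ff (LP (LK LD1_c18 LD2_c53 LD3_c19)) = (LP (LK LD1_c18 LD2_c54 LD3_c33)) :=
  Lgr Lrot25 (Lpr_bt (f273652 IH) (Lpr_ft (K26.f364551 IH) (Lpr_bt (f284926 IH) (Lpn (LP (LK LD1_c18 LD2_c54 LD3_c33))))))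
theorem f377976 : Led Lsl_df (LP (LK LD1_c18 LD2_c54 LD3_c33)) = (LP (LK LD1_c18 LD2_c38 LD3_c44)) :=
  Lgr Lrot78 (Lpe (f364555 IH) (Lpr_dt (f377925 IH) (Lpr_ft (K72.f377972 IH) (Lpn (LP (LK LD1_c18 LD2_c38 LD3_c44))))))
theorem f935322 : Led Lsl_df (LP (LK LD1_c10 LD2_c15 LD3_c11)) = v42691 :=
  Lgr Lrot38 (Lpr_dt (f935320 IH) (Lpn v42691))
theorem f50014 : Led Lsl_dt (LP (LK LD1_c25 LD2_c25 LD3_c35)) = (LP (LK LD1_c15 LD2_c32 LD3_c12)) :=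
  Lre_d IH (LK LD1_c25 LD2_c25 LD3_c35) (LK LD1_c15 LD2_c32 LD3_c12) Lrfl Lrfl
theorem f935327 : Led Lsl_gt (LP (LK LD1_c18 LD2_c54 LD3_c33)) = (LP (LK LD1_c25 LD2_c25 LD3_c35)) :=
  Lgr Lrot49 (Lpr_df (f377976 IH) (Lpe (K45.f258080 IH) (Lpe (K45.f586009 IH) (Lpr_gt (f935326 IH) (Lpe (f935322 IH) (Lpr_gt (K45.f300640 IH) (Lpe (K45.f586243 IH) (Lpr_cf (K45.f586249 IH) (Lpe (f50014 IH) (Lpn (LP (LK LD1_c25 LD2_c25 LD3_c35))))))))))))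
theorem f935328 : Led Lsl_gt (LP (LK LD1_c18 LD2_c54 LD3_c33)) = (LP (LK LD1_c25 LD2_c25 LD3_c35)) :=
  Leop (Lpe (f935327 IH) (Lpn (LP (LK LD1_c18 LD2_c54 LD3_c33))))
theorem seed_2618 : LEOK LG_g (LK LD1_c18 LD2_c54 LD3_c33) :=
  Leoe_g (LK LD1_c18 LD2_c54 LD3_c33) (f935328 IH)
def v42743 : LQ := Led Lsl_at (LP (LK LD1_c10 LD2_c16 LD3_c19))
theorem f935591 : Led Lsl_at (LP (LK LD1_c10 LD2_c16 LD3_c19)) = v42743 :=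
  Lrfl
theorem f201639 : Led Lsl_bt (LP (LK LD1_c10 LD2_c16 LD3_c19)) = (LP (LK LD1_c5 LD2_c13 LD3_c0)) :=
  Lre_b IH (LK LD1_c10 LD2_c16 LD3_c19) (LK LD1_c5 LD2_c13 LD3_c0) Lrfl Lrfl
theorem f201353 : Led Lsl_bt (LP (LK LD1_c5 LD2_c5 LD3_c15)) = (LP (LK LD1_c10 LD2_c1 LD3_c33)) :=
  Lre_b IH (LK LD1_c5 LD2_c5 LD3_c15) (LK LD1_c10 LD2_c1 LD3_c33) Lrfl Lrfl
theorem f303872 : Led Lsl_ff (LP (LK LD1_c10 LD2_c16 LD3_c19)) = (LP (LK LD1_c10 LD2_c1 LD3_c33)) :=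
  Lgr Lrot25 (Lpr_bt (f201639 IH) (Lpr_ft (K32.f303868 IH) (Lpr_bt (f201353 IH) (Lpn (LP (LK LD1_c10 LD2_c1 LD3_c33))))))
theorem f304033 : Led Lsl_at (LP (LK LD1_c18 LD2_c19 LD3_c15)) = (LP (LK LD1_c10 LD2_c1 LD3_c33)) :=
  Lre_a IH (LK LD1_c18 LD2_c19 LD3_c15) (LK LD1_c10 LD2_c1 LD3_c33) Lrfl Lrfl
theorem f935595 : Led Lsl_ff (LP (LK LD1_c18 LD2_c19 LD3_c15)) = v42743 :=
  Lgr Lrot30 (Lpr_at (f304033 IH) (Lpe (f303872 IH) (Lpr_at (f935591 IH) (Lpn v42743))))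
theorem f935599 : Led Lsl_ft (LP (LK LD1_c18 LD2_c19 LD3_c15)) = v42743 :=
  Lgr Lrot48 (Lpr_ff (f935595 IH) (Lpn v42743))
theorem f935592 : Led Lsl_af (LP (LK LD1_c10 LD2_c16 LD3_c19)) = v42743 :=
  Lgr Lrot0 (Lpr_at (f935591 IH) (Lpn v42743))
theorem f201725 : Led Lsl_gt (LP (LK LD1_c18 LD2_c40 LD3_c55)) = (LP (LK LD1_c10 LD2_c16 LD3_c19)) :=
  Lre_g IH (LK LD1_c18 LD2_c40 LD3_c55) (LK LD1_c10 LD2_c16 LD3_c19) Lrfl Lrfl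
theorem f935601 : Led Lsl_gt (LP (LK LD1_c18 LD2_c19 LD3_c15)) = (LP (LK LD1_c18 LD2_c40 LD3_c55)) :=
  Lgr Lrot5 (Lpr_ft (f935599 IH) (Lpe (f935592 IH) (Lpe (f201725 IH) (Lpn (LP (LK LD1_c18 LD2_c40 LD3_c55))))))
theorem f935602 : Led Lsl_gt (LP (LK LD1_c18 LD2_c19 LD3_c15)) = (LP (LK LD1_c18 LD2_c40 LD3_c55)) :=
  Leop (Lpe (f935601 IH) (Lpn (LP (LK LD1_c18 LD2_c19 LD3_c15))))
theorem seed_2619 : LEOK LG_g (LK LD1_c18 LD2_c19 LD3_c15) :=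
  Leoe_g (LK LD1_c18 LD2_c19 LD3_c15) (f935602 IH)
def v42747 : LQ := Led Lsl_gt (LP (LK LD1_c10 LD2_c16 LD3_c24))
theorem f935615 : Led Lsl_gt (LP (LK LD1_c10 LD2_c16 LD3_c24)) = v42747 :=
  Lrfl
theorem f935617 : Led Lsl_et (LP (LK LD1_c12 LD2_c21 LD3_c56)) = v42747 :=
  Lgr Lrot122 (Lpr_dt (K47.f56353 IH) (Lpr_gt (K47.f56352 IH) (Lpe (K8.f56337 IH) (Lpr_et (K1.f46714 IH) (Lpr_gt (K13.f182460 IH) (Lpr_dt (K13.f182459 IH) (Lpe (K13.f242837 IH) (Lpe (K13.f181140 IH) (Lpr_et (K41.f196106 IH) (Lpr_gt (f935615 IH) (Lpn v42747)))))))))))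
theorem f935620 : Led Lsl_ef (LP (LK LD1_c12 LD2_c21 LD3_c56)) = v42747 :=
  Lgr Lrot88 (Lpr_et (f935617 IH) (Lpn v42747))
theorem f743019 : Led Lsl_af (LP (LK LD1_c20 LD2_c31 LD3_c41)) = (LP (LK LD1_c13 LD2_c51 LD3_c26)) :=
  Lgr Lrot0 (Lpr_at (K63.f743013 IH) (Lpn (LP (LK LD1_c13 LD2_c51 LD3_c26))))
theorem f743015 : Led Lsl_ft (LP (LK LD1_c20 LD2_c31 LD3_c38)) = (LP (LK LD1_c13 LD2_c51 LD3_c26)) :=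
  Lgr Lrot48 (Lpr_ff (K63.f743011 IH) (Lpn (LP (LK LD1_c13 LD2_c51 LD3_c26))))
theorem f742984 : Led Lsl_af (LP (LK LD1_c20 LD2_c31 LD3_c38)) = (LP (LK LD1_c17 LD2_c9 LD3_c16)) :=
  Lgr Lrot0 (Lpr_at (K63.f742909 IH) (Lpn (LP (LK LD1_c17 LD2_c9 LD3_c16))))
theorem f743081 : Led Lsl_ft (LP (LK LD1_c20 LD2_c31 LD3_c41)) = (LP (LK LD1_c17 LD2_c9 LD3_c16)) :=
  Lgr Lrot101 (Lpr_af (f743019 IH) (Lpe (f743015 IH) (Lpr_af (f742984 IH) (Lpn (LP (LK LD1_c17 LD2_c9 LD3_c16))))))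
theorem f80474 : Led Lsl_bt (LP (LK LD1_c17 LD2_c9 LD3_c16)) = (LP (LK LD1_c9 LD2_c14 LD3_c53)) :=
  Lre_b IH (LK LD1_c17 LD2_c9 LD3_c16) (LK LD1_c9 LD2_c14 LD3_c53) Lrfl Lrfl
theorem f617390 : Led Lsl_ft (LP (LK LD1_c9 LD2_c14 LD3_c53)) = (LP (LK LD1_c12 LD2_c21 LD3_c56)) :=
  Lgr Lrot54 (Lpe (K39.f56298 IH) (Lpr_ff (K55.f617386 IH) (Lpe (K47.f56353 IH) (Lpn (LP (LK LD1_c12 LD2_c21 LD3_c56))))))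
theorem f743083 : Led Lsl_bf (LP (LK LD1_c20 LD2_c31 LD3_c41)) = (LP (LK LD1_c12 LD2_c21 LD3_c56)) :=
  Lgr Lrot61 (Lpr_ft (f743081 IH) (Lpr_bt (f80474 IH) (Lpr_ft (f617390 IH) (Lpn (LP (LK LD1_c12 LD2_c21 LD3_c56))))))
theorem f935624 : Led Lsl_bt (LP (LK LD1_c13 LD2_c51 LD3_c24)) = v42747 :=
  Lgr Lrot119 (Lpe (K65.f743028 IH) (Lpr_bf (f743083 IH) (Lpr_ef (f935620 IH) (Lpn v42747))))
theorem f743030 : Led Lsl_ct (LP (LK LD1_c13 LD2_c51 LD3_c24)) = (LP (LK LD1_c23 LD2_c20 LD3_c39)) :=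
  Lre_c IH (LK LD1_c13 LD2_c51 LD3_c24) (LK LD1_c23 LD2_c20 LD3_c39) Lrfl Lrfl
theorem f935622 : Led Lsl_gf (LP (LK LD1_c13 LD2_c51 LD3_c11)) = v42747 :=
  Lgr Lrot141 (Lpe (K47.f609392 IH) (Lpe (K47.f609385 IH) (Lpr_gt (K47.f308363 IH) (Lpe (K47.f229365 IH) (Lpr_et (K47.f46744 IH) (Lpe (K47.f46739 IH) (Lpr_dt (K1.f56090 IH) (Lpr_gt (K47.f56505 IH) (Lpe (K47.f56353 IH) (Lpr_et (f935617 IH) (Lpn v42747)))))))))))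
theorem f609419 : Led Lsl_bt (LP (LK LD1_c13 LD2_c47 LD3_c50)) = (LP (LK LD1_c13 LD2_c51 LD3_c11)) :=
  Lgr Lrot95 (Lpe (K47.f442084 IH) (Lpr_bf (K47.f609415 IH) (Lpe (K47.f609377 IH) (Lpn (LP (LK LD1_c13 LD2_c51 LD3_c11))))))
theorem f481455 : Led Lsl_ct (LP (LK LD1_c13 LD2_c47 LD3_c50)) = (LP (LK LD1_c23 LD2_c15 LD3_c39)) :=
  Lre_c IH (LK LD1_c13 LD2_c47 LD3_c50) (LK LD1_c23 LD2_c15 LD3_c39) Lrfl Lrfl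
theorem f575477 : Led Lsl_et (LP (LK LD1_c20 LD2_c32 LD3_c28)) = (LP (LK LD1_c11 LD2_c34 LD3_c35)) :=
  Lre_e IH (LK LD1_c20 LD2_c32 LD3_c28) (LK LD1_c11 LD2_c34 LD3_c35) Lrfl Lrfl
theorem f575471 : Led Lsl_ef (LP (LK LD1_c23 LD2_c19 LD3_c39)) = (LP (LK LD1_c18 LD2_c43 LD3_c21)) :=
  Lgr Lrot88 (Lpr_et (K43.f575466 IH) (Lpn (LP (LK LD1_c18 LD2_c43 LD3_c21))))
theorem f575478 : Led Lsl_af (LP (LK LD1_c20 LD2_c32 LD3_c28)) = (LP (LK LD1_c23 LD2_c19 LD3_c39)) :=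
  Lgr Lrot50 (Lpr_et (f575477 IH) (Lpr_at (K43.f575473 IH) (Lpe (f575471 IH) (Lpn (LP (LK LD1_c23 LD2_c19 LD3_c39))))))
theorem f609464 : Led Lsl_ct (LP (LK LD1_c23 LD2_c15 LD3_c39)) = (LP (LK LD1_c13 LD2_c47 LD3_c50)) :=
  Lre_c IH (LK LD1_c23 LD2_c15 LD3_c39) (LK LD1_c13 LD2_c47 LD3_c50) Lrfl Lrfl
theorem f609465 : Led Lsl_ff (LP (LK LD1_c23 LD2_c15 LD3_c39)) = (LP (LK LD1_c23 LD2_c19 LD3_c39)) :=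
  Lgr Lrot23 (Lpr_ct (f609464 IH) (Lpr_ft (K47.f609437 IH) (Lpr_ct (K43.f575465 IH) (Lpn (LP (LK LD1_c23 LD2_c19 LD3_c39))))))
theorem f610359 : Led Lsl_ft (LP (LK LD1_c23 LD2_c15 LD3_c39)) = (LP (LK LD1_c23 LD2_c19 LD3_c39)) :=
  Lgr Lrot48 (Lpr_ff (f609465 IH) (Lpn (LP (LK LD1_c23 LD2_c19 LD3_c39))))
theorem f805203 : Led Lsl_gt (LP (LK LD1_c23 LD2_c15 LD3_c39)) = (LP (LK LD1_c23 LD2_c52 LD3_c28)) :=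
  Lgr Lrot5 (Lpr_ft (f610359 IH) (Lpe (f575478 IH) (Lpr_gf (K63.f805201 IH) (Lpn (LP (LK LD1_c23 LD2_c52 LD3_c28))))))
theorem f467365 : Led Lsl_bt (LP (LK LD1_c3 LD2_c33 LD3_c52)) = (LP (LK LD1_c7 LD2_c8 LD3_c35)) :=
  Lre_b IH (LK LD1_c3 LD2_c33 LD3_c52) (LK LD1_c7 LD2_c8 LD3_c35) Lrfl Lrfl
theorem f526735 : Led Lsl_ff (LP (LK LD1_c13 LD2_c14 LD3_c47)) = (LP (LK LD1_c7 LD2_c8 LD3_c35)) :=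
  Lgr Lrot25 (Lpr_bt (K43.f482784 IH) (Lpr_ft (K48.f526733 IH) (Lpr_bt (f467365 IH) (Lpn (LP (LK LD1_c7 LD2_c8 LD3_c35))))))
theorem f482792 : Led Lsl_df (LP (LK LD1_c7 LD2_c17 LD3_c53)) = (LP (LK LD1_c13 LD2_c14 LD3_c47)) :=
  Lgr Lrot12 (Lpr_bt (K43.f4132 IH) (Lpr_dt (K29.f482787 IH) (Lpr_bt (K43.f482791 IH) (Lpn (LP (LK LD1_c13 LD2_c14 LD3_c47))))))
theorem f526768 : Led Lsl_dt (LP (LK LD1_c13 LD2_c31 LD3_c44)) = (LP (LK LD1_c7 LD2_c8 LD3_c35)) :=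
  Lre_d IH (LK LD1_c13 LD2_c31 LD3_c44) (LK LD1_c7 LD2_c8 LD3_c35) Lrfl Lrfl
theorem f526769 : Led Lsl_ft (LP (LK LD1_c7 LD2_c17 LD3_c53)) = (LP (LK LD1_c13 LD2_c31 LD3_c44)) :=
  Lgr Lrot54 (Lpr_df (f482792 IH) (Lpr_ff (f526735 IH) (Lpe (f526768 IH) (Lpn (LP (LK LD1_c13 LD2_c31 LD3_c44))))))
theorem f575418 : Led Lsl_at (LP (LK LD1_c13 LD2_c31 LD3_c44)) = (LP (LK LD1_c20 LD2_c32 LD3_c29)) :=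
  Lgr Lrot66 (Lpe (f526769 IH) (Lpe (K43.f486514 IH) (Lpr_ff (K43.f575405 IH) (Lpn (LP (LK LD1_c20 LD2_c32 LD3_c29))))))
theorem f609473 : Led Lsl_gf (LP (LK LD1_c13 LD2_c47 LD3_c50)) = (LP (LK LD1_c7 LD2_c17 LD3_c53)) :=
  Lgr Lrot47 (Lpr_gt (K47.f609470 IH) (Lpe (f575418 IH) (Lpe (f526769 IH) (Lpn (LP (LK LD1_c7 LD2_c17 LD3_c53))))))
theorem f482834 : Led Lsl_gt (LP (LK LD1_c22 LD2_c34 LD3_c3)) = (LP (LK LD1_c13 LD2_c18 LD3_c7)) :=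
  Lre_g IH (LK LD1_c22 LD2_c34 LD3_c3) (LK LD1_c13 LD2_c18 LD3_c7) Lrfl Lrfl
theorem f805205 : Led Lsl_bf (LP (LK LD1_c22 LD2_c34 LD3_c3)) = (LP (LK LD1_c14 LD2_c15 LD3_c47)) :=
  Lgr Lrot156 (Lpr_gt (f482834 IH) (Lpe (K45.f109590 IH) (Lpr_ct (K29.f440674 IH) (Lpe (K29.f482800 IH) (Lpe (K29.f5508 IH) (Lpr_bt (K43.f482783 IH) (Lpe (f609473 IH) (Lpr_ct (f481455 IH) (Lpr_gt (f805203 IH) (Lpe (K63.f615791 IH) (Lpn (LP (LK LD1_c14 LD2_c15 LD3_c47)))))))))))))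
theorem f467043 : Led Lsl_ct (LP (LK LD1_c13 LD2_c18 LD3_c7)) = (LP (LK LD1_c22 LD2_c34 LD3_c4)) :=
  Lre_c IH (LK LD1_c13 LD2_c18 LD3_c7) (LK LD1_c22 LD2_c34 LD3_c4) Lrfl Lrfl
theorem f935625 : Led Lsl_gf (LP (LK LD1_c23 LD2_c20 LD3_c39)) = (LP (LK LD1_c22 LD2_c34 LD3_c4)) :=
  Lgr Lrot129 (Lpe (f743030 IH) (Lpr_bt (f935624 IH) (Lpe (f935622 IH) (Lpe (f609419 IH) (Lpr_ct (f481455 IH) (Lpr_gt (f805203 IH) (Lpe (K63.f615791 IH) (Lpe (f805205 IH) (Lpr_gt (f482834 IH) (Lpr_ct (f467043 IH) (Lpn (LP (LK LD1_c22 LD2_c34 LD3_c4)))))))))))))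
theorem f935626 : Led Lsl_gt (LP (LK LD1_c22 LD2_c34 LD3_c4)) = (LP (LK LD1_c23 LD2_c20 LD3_c39)) :=
  Leop (Lpr_gf (f935625 IH) (Lpn (LP (LK LD1_c22 LD2_c34 LD3_c4))))
theorem seed_2620 : LEOK LG_g (LK LD1_c22 LD2_c34 LD3_c4) :=
  Leoe_g (LK LD1_c22 LD2_c34 LD3_c4) (f935626 IH)
theorem f743027 : Led Lsl_ct (LP (LK LD1_c23 LD2_c20 LD3_c39)) = (LP (LK LD1_c13 LD2_c51 LD3_c24)) :=
  Lre_c IH (LK LD1_c23 LD2_c20 LD3_c39) (LK LD1_c13 LD2_c51 LD3_c24) Lrfl Lrfl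
theorem f468063 : Led Lsl_gt (LP (LK LD1_c14 LD2_c43 LD3_c1)) = (LP (LK LD1_c7 LD2_c47 LD3_c60)) :=
  Lre_g IH (LK LD1_c14 LD2_c43 LD3_c1) (LK LD1_c7 LD2_c47 LD3_c60) Lrfl Lrfl
theorem f935627 : Led Lsl_dt (LP (LK LD1_c14 LD2_c43 LD3_c1)) = (LP (LK LD1_c22 LD2_c34 LD3_c3)) :=
  Lgr Lrot6 (Lpr_gt (f468063 IH) (Lpr_ct (K60.f474423 IH) (Lpr_gt (K63.f466935 IH) (Lpr_ct (K65.f815093 IH) (Lpe (K65.f815097 IH) (Lpe (f743027 IH) (Lpr_gf (f935625 IH) (Lpe (f467043 IH) (Lpe (f482834 IH) (Lpn (LP (LK LD1_c22 LD2_c34 LD3_c3))))))))))))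
theorem f935628 : Led Lsl_dt (LP (LK LD1_c14 LD2_c43 LD3_c1)) = (LP (LK LD1_c22 LD2_c34 LD3_c3)) :=
  Leop (Lpe (f935627 IH) (Lpn (LP (LK LD1_c14 LD2_c43 LD3_c1))))
theorem seed_2621 : LEOK LG_d (LK LD1_c14 LD2_c43 LD3_c1) :=
  Leoe_d (LK LD1_c14 LD2_c43 LD3_c1) (f935628 IH)
def v42805 : LQ := Led Lsl_gt (LP (LK LD1_c10 LD2_c17 LD3_c3))
theorem f935990 : Led Lsl_gt (LP (LK LD1_c10 LD2_c17 LD3_c3)) = v42805 :=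
  Lrfl
theorem f928649 : Led Lsl_ct (LP (LK LD1_c27 LD2_c50 LD3_c47)) = (LP (LK LD1_c18 LD2_c10 LD3_c35)) :=
  Lre_c IH (LK LD1_c27 LD2_c50 LD3_c47) (LK LD1_c18 LD2_c10 LD3_c35) Lrfl Lrfl
theorem f630323 : Led Lsl_af (LP (LK LD1_c18 LD2_c54 LD3_c11)) = (LP (LK LD1_c18 LD2_c22 LD3_c27)) :=
  Lgr Lrot68 (Lpr_ct (K56.f263026 IH) (Lpr_at (K56.f630319 IH) (Lpr_ct (K56.f304449 IH) (Lpn (LP (LK LD1_c18 LD2_c22 LD3_c27))))))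
theorem f364346 : Led Lsl_df (LP (LK LD1_c10 LD2_c10 LD3_c58)) = (LP (LK LD1_c5 LD2_c36 LD3_c35)) :=
  Lgr Lrot38 (Lpr_dt (K26.f364344 IH) (Lpn (LP (LK LD1_c5 LD2_c36 LD3_c35))))
theorem f248014 : Led Lsl_ct (LP (LK LD1_c18 LD2_c32 LD3_c55)) = (LP (LK LD1_c10 LD2_c10 LD3_c58)) :=
  Lre_c IH (LK LD1_c18 LD2_c32 LD3_c55) (LK LD1_c10 LD2_c10 LD3_c58) Lrfl Lrfl
theorem f370510 : Led Lsl_gf (LP (LK LD1_c18 LD2_c32 LD3_c55)) = (LP (LK LD1_c18 LD2_c8 LD3_c57)) :=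
  Lgr Lrot104 (Lpr_ct (f248014 IH) (Lpr_df (f364346 IH) (Lpe (K71.f340001 IH) (Lpr_gf (K23.f339999 IH) (Lpe (K23.f303387 IH) (Lpr_gf (K23.f340036 IH) (Lpe (K20.f240268 IH) (Lpr_gt (K23.f240280 IH) (Lpr_ct (K27.f370460 IH) (Lpn (LP (LK LD1_c18 LD2_c8 LD3_c57))))))))))))
theorem f368253 : Led Lsl_dt (LP (LK LD1_c18 LD2_c32 LD3_c55)) = (LP (LK LD1_c28 LD2_c7 LD3_c16)) :=
  Lre_d IH (LK LD1_c18 LD2_c32 LD3_c55) (LK LD1_c28 LD2_c7 LD3_c16) Lrfl Lrfl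
theorem f374880 : Led Lsl_gt (LP (LK LD1_c28 LD2_c7 LD3_c16)) = (LP (LK LD1_c19 LD2_c6 LD3_c26)) :=
  Lgr Lrot49 (Lpe (f368253 IH) (Lpr_gf (f370510 IH) (Lpe (K27.f370460 IH) (Lpe (K25.f335865 IH) (Lpr_dt (K20.f312371 IH) (Lpe (K20.f318116 IH) (Lpr_dt (K20.f318096 IH) (Lpe (K23.f190464 IH) (Lpe (K23.f190469 IH) (Lpn (LP (LK LD1_c19 LD2_c6 LD3_c26))))))))))))
theorem f374882 : Led Lsl_gf (LP (LK LD1_c28 LD2_c7 LD3_c16)) = (LP (LK LD1_c27 LD2_c49 LD3_c20)) :=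
  Lgr Lrot47 (Lpr_gt (f374880 IH) (Lpe (K26.f340189 IH) (Lpe (K26.f362423 IH) (Lpn (LP (LK LD1_c27 LD2_c49 LD3_c20))))))
theorem f249488 : Led Lsl_et (LP (LK LD1_c9 LD2_c54 LD3_c60)) = (LP (LK LD1_c5 LD2_c2 LD3_c7)) :=
  Lre_e IH (LK LD1_c9 LD2_c54 LD3_c60) (LK LD1_c5 LD2_c2 LD3_c7) Lrfl Lrfl
theorem f257664 : Led Lsl_ft (LP (LK LD1_c18 LD2_c9 LD3_c10)) = (LP (LK LD1_c9 LD2_c54 LD3_c60)) :=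
  Lre_f IH (LK LD1_c18 LD2_c9 LD3_c10) (LK LD1_c9 LD2_c54 LD3_c60) Lrfl Lrfl
theorem f364381 : Led Lsl_et (LP (LK LD1_c18 LD2_c32 LD3_c55)) = (LP (LK LD1_c18 LD2_c9 LD3_c10)) :=
  Lgr Lrot69 (Lpe (K26.f364380 IH) (Lpe (K25.f255925 IH) (Lpr_ff (K26.f364374 IH) (Lpe (f249488 IH) (Lpe (f257664 IH) (Lpn (LP (LK LD1_c18 LD2_c9 LD3_c10))))))))
theorem f355636 : Led Lsl_at (LP (LK LD1_c18 LD2_c31 LD3_c43)) = (LP (LK LD1_c19 LD2_c6 LD3_c23)) :=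
  Lgr Lrot100 (Lpr_af (K67.f355629 IH) (Lpn (LP (LK LD1_c19 LD2_c6 LD3_c23))))
theorem f372312 : Led Lsl_gf (LP (LK LD1_c19 LD2_c6 LD3_c23)) = (LP (LK LD1_c16 LD2_c8 LD3_c2)) :=
  Lgr Lrot76 (Lpe (f355636 IH) (Lpr_ff (K67.f372299 IH) (Lpe (K67.f362508 IH) (Lpn (LP (LK LD1_c16 LD2_c8 LD3_c2))))))
theorem f355643 : Led Lsl_dt (LP (LK LD1_c19 LD2_c6 LD3_c23)) = (LP (LK LD1_c28 LD2_c31 LD3_c55)) :=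
  Lre_d IH (LK LD1_c19 LD2_c6 LD3_c23) (LK LD1_c28 LD2_c31 LD3_c55) Lrfl Lrfl
theorem f305945 : Led Lsl_dt (LP (LK LD1_c27 LD2_c34 LD3_c22)) = (LP (LK LD1_c17 LD2_c47 LD3_c21)) :=
  Lre_d IH (LK LD1_c27 LD2_c34 LD3_c22) (LK LD1_c17 LD2_c47 LD3_c21) Lrfl Lrfl
theorem f372314 : Led Lsl_gt (LP (LK LD1_c28 LD2_c31 LD3_c55)) = (LP (LK LD1_c27 LD2_c34 LD3_c22)) :=
  Lgr Lrot49 (Lpe (f355643 IH) (Lpr_gf (f372312 IH) (Lpe (K67.f248594 IH) (Lpe (K19.f305782 IH) (Lpe (K19.f306944 IH) (Lpr_gt (K19.f307113 IH) (Lpe (K19.f305937 IH) (Lpe (K25.f305946 IH) (Lpe (f305945 IH) (Lpn (LP (LK LD1_c27 LD2_c34 LD3_c22))))))))))))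
theorem f331510 : Led Lsl_ct (LP (LK LD1_c17 LD2_c51 LD3_c4)) = (LP (LK LD1_c10 LD2_c38 LD3_c57)) :=
  Lgr Lrot59 (Lpr_cf (K22.f331508 IH) (Lpn (LP (LK LD1_c10 LD2_c38 LD3_c57))))
theorem f364965 : Led Lsl_et (LP (LK LD1_c19 LD2_c6 LD3_c23)) = (LP (LK LD1_c17 LD2_c51 LD3_c4)) :=
  Lgr Lrot158 (Lpe (K26.f190387 IH) (Lpr_ef (K26.f364959 IH) (Lpe (f331510 IH) (Lpn (LP (LK LD1_c17 LD2_c51 LD3_c4))))))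
theorem f374886 : Led Lsl_gt (LP (LK LD1_c18 LD2_c9 LD3_c10)) = (LP (LK LD1_c17 LD2_c51 LD3_c4)) :=
  Lgr Lrot131 (Lpe (f364381 IH) (Lpr_dt (f368253 IH) (Lpr_gf (f374882 IH) (Lpr_df (K26.f362425 IH) (Lpe (K22.f253636 IH) (Lpr_ef (K68.f340169 IH) (Lpr_dt (K68.f305940 IH) (Lpe (f372314 IH) (Lpe (f355643 IH) (Lpr_et (f364965 IH) (Lpn (LP (LK LD1_c17 LD2_c51 LD3_c4)))))))))))))
theorem f257665 : Led Lsl_ct (LP (LK LD1_c9 LD2_c55 LD3_c0)) = (LP (LK LD1_c18 LD2_c9 LD3_c10)) :=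
  Lre_c IH (LK LD1_c9 LD2_c55 LD3_c0) (LK LD1_c18 LD2_c9 LD3_c10) Lrfl Lrfl
theorem f230902 : Led Lsl_ct (LP (LK LD1_c15 LD2_c24 LD3_c42)) = (LP (LK LD1_c25 LD2_c16 LD3_c59)) :=
  Lre_c IH (LK LD1_c15 LD2_c24 LD3_c42) (LK LD1_c25 LD2_c16 LD3_c59) Lrfl Lrfl
theorem f342008 : Led Lsl_et (LP (LK LD1_c9 LD2_c41 LD3_c59)) = (LP (LK LD1_c17 LD2_c50 LD3_c29)) :=
  Lre_e IH (LK LD1_c9 LD2_c41 LD3_c59) (LK LD1_c17 LD2_c50 LD3_c29) Lrfl Lrfl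
theorem f342010 : Led Lsl_ct (LP (LK LD1_c17 LD2_c50 LD3_c29)) = (LP (LK LD1_c16 LD2_c8 LD3_c25)) :=
  Lgr Lrot15 (Lpe (f342008 IH) (Lpr_cf (K23.f342002 IH) (Lpe (K23.f342009 IH) (Lpn (LP (LK LD1_c16 LD2_c8 LD3_c25))))))
theorem f374888 : Led Lsl_gt (LP (LK LD1_c25 LD2_c16 LD3_c59)) = (LP (LK LD1_c17 LD2_c50 LD3_c29)) :=
  Lgr Lrot150 (Lpe (f230902 IH) (Lpe (K17.f230899 IH) (Lpr_df (K17.f284017 IH) (Lpr_gt (K54.f363943 IH) (Lpr_ct (f257665 IH) (Lpr_gt (f374886 IH) (Lpr_ct (f331510 IH) (Lpe (K23.f342022 IH) (Lpe (f342010 IH) (Lpn (LP (LK LD1_c17 LD2_c50 LD3_c29))))))))))))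
theorem f230896 : Led Lsl_ct (LP (LK LD1_c15 LD2_c27 LD3_c54)) = (LP (LK LD1_c8 LD2_c13 LD3_c18)) :=
  Lre_c IH (LK LD1_c15 LD2_c27 LD3_c54) (LK LD1_c8 LD2_c13 LD3_c18) Lrfl Lrfl
theorem f341979 : Led Lsl_gt (LP (LK LD1_c20 LD2_c5 LD3_c18)) = (LP (LK LD1_c15 LD2_c27 LD3_c54)) :=
  Lgr Lrot150 (Lpr_cf (K67.f341975 IH) (Lpe (K18.f271271 IH) (Lpe (K18.f271274 IH) (Lpe (K18.f294222 IH) (Lpr_ct (K20.f294212 IH) (Lpr_gt (K25.f306094 IH) (Lpr_ct (K54.f250457 IH) (Lpe (K19.f250460 IH) (Lpe (f230896 IH) (Lpn (LP (LK LD1_c15 LD2_c27 LD3_c54))))))))))))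
theorem f374890 : Led Lsl_ct (LP (LK LD1_c16 LD2_c8 LD3_c25)) = (LP (LK LD1_c17 LD2_c50 LD3_c29)) :=
  Lgr Lrot63 (Lpr_bt (K23.f216337 IH) (Lpe (K23.f341986 IH) (Lpr_bf (K67.f341954 IH) (Lpe (K67.f341975 IH) (Lpr_gt (f341979 IH) (Lpe (K25.f230900 IH) (Lpr_bt (K25.f230892 IH) (Lpr_gt (K17.f230899 IH) (Lpr_ct (f230902 IH) (Lpr_gt (f374888 IH) (Lpn (LP (LK LD1_c17 LD2_c50 LD3_c29)))))))))))))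
theorem f364839 : Led Lsl_ft (LP (LK LD1_c8 LD2_c36 LD3_c53)) = (LP (LK LD1_c5 LD2_c23 LD3_c36)) :=
  Lgr Lrot75 (Lpe (K26.f342005 IH) (Lpr_ff (K26.f364832 IH) (Lpr_bf (K21.f265794 IH) (Lpn (LP (LK LD1_c5 LD2_c23 LD3_c36))))))
theorem f365068 : Led Lsl_ff (LP (LK LD1_c16 LD2_c8 LD3_c25)) = (LP (LK LD1_c10 LD2_c0 LD3_c42)) :=
  Lgr Lrot72 (Lpr_et (K23.f342009 IH) (Lpr_ft (f364839 IH) (Lpe (K17.f265799 IH) (Lpr_ft (K26.f365060 IH) (Lpr_et (K22.f290865 IH) (Lpn (LP (LK LD1_c10 LD2_c0 LD3_c42))))))))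
theorem f374897 : Led Lsl_ff (LP (LK LD1_c18 LD2_c17 LD3_c39)) = (LP (LK LD1_c17 LD2_c50 LD3_c29)) :=
  Lgr Lrot23 (Lpr_ct (K27.f291263 IH) (Lpe (f365068 IH) (Lpr_ct (f374890 IH) (Lpn (LP (LK LD1_c17 LD2_c50 LD3_c29))))))
theorem f212283 : Led Lsl_et (LP (LK LD1_c18 LD2_c17 LD3_c39)) = (LP (LK LD1_c10 LD2_c0 LD3_c41)) :=
  Lre_e IH (LK LD1_c18 LD2_c17 LD3_c39) (LK LD1_c10 LD2_c0 LD3_c41) Lrfl Lrfl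
theorem f365064 : Led Lsl_ff (LP (LK LD1_c8 LD2_c11 LD3_c10)) = (LP (LK LD1_c10 LD2_c0 LD3_c41)) :=
  Lgr Lrot23 (Lpe (K21.f265779 IH) (Lpr_ft (K26.f365060 IH) (Lpr_ct (K15.f212262 IH) (Lpn (LP (LK LD1_c10 LD2_c0 LD3_c41))))))
theorem f374899 : Led Lsl_ft (LP (LK LD1_c10 LD2_c37 LD3_c44)) = (LP (LK LD1_c9 LD2_c41 LD3_c59)) :=
  Lgr Lrot86 (Lpe (K21.f265804 IH) (Lpr_ff (f365064 IH) (Lpe (f212283 IH) (Lpr_ff (f374897 IH) (Lpe (f342008 IH) (Lpn (LP (LK LD1_c9 LD2_c41 LD3_c59))))))))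
theorem f374903 : Led Lsl_af (LP (LK LD1_c10 LD2_c37 LD3_c41)) = (LP (LK LD1_c9 LD2_c41 LD3_c59)) :=
  Lgr Lrot31 (Lpe (K21.f331054 IH) (Lpe (K21.f292006 IH) (Lpr_ft (f374899 IH) (Lpn (LP (LK LD1_c9 LD2_c41 LD3_c59))))))
theorem f374905 : Led Lsl_at (LP (LK LD1_c10 LD2_c37 LD3_c41)) = (LP (LK LD1_c9 LD2_c41 LD3_c59)) :=
  Lgr Lrot100 (Lpr_af (f374903 IH) (Lpn (LP (LK LD1_c9 LD2_c41 LD3_c59))))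
theorem f374913 : Led Lsl_ff (LP (LK LD1_c10 LD2_c37 LD3_c41)) = (LP (LK LD1_c9 LD2_c41 LD3_c60)) :=
  Lgr Lrot52 (Lpr_at (f374905 IH) (Lpe (K23.f307105 IH) (Lpe (K27.f263771 IH) (Lpn (LP (LK LD1_c9 LD2_c41 LD3_c60))))))
theorem f374921 : Led Lsl_ft (LP (LK LD1_c10 LD2_c37 LD3_c41)) = (LP (LK LD1_c9 LD2_c41 LD3_c60)) :=
  Lgr Lrot48 (Lpr_ff (f374913 IH) (Lpn (LP (LK LD1_c9 LD2_c41 LD3_c60))))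
theorem f329484 : Led Lsl_et (LP (LK LD1_c19 LD2_c15 LD3_c4)) = (LP (LK LD1_c10 LD2_c37 LD3_c41)) :=
  Lre_e IH (LK LD1_c19 LD2_c15 LD3_c4) (LK LD1_c10 LD2_c37 LD3_c41) Lrfl Lrfl
theorem f365048 : Led Lsl_ff (LP (LK LD1_c8 LD2_c11 LD3_c9)) = (LP (LK LD1_c10 LD2_c0 LD3_c43)) :=
  Lgr Lrot23 (Lpr_ct (K20.f291711 IH) (Lpr_ft (K26.f365046 IH) (Lpr_ct (K15.f259586 IH) (Lpn (LP (LK LD1_c10 LD2_c0 LD3_c43))))))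
theorem f291741 : Led Lsl_et (LP (LK LD1_c8 LD2_c11 LD3_c9)) = (LP (LK LD1_c15 LD2_c24 LD3_c47)) :=
  Lre_e IH (LK LD1_c8 LD2_c11 LD3_c9) (LK LD1_c15 LD2_c24 LD3_c47) Lrfl Lrfl
theorem f374929 : Led Lsl_ff (LP (LK LD1_c19 LD2_c15 LD3_c4)) = (LP (LK LD1_c15 LD2_c24 LD3_c47)) :=
  Lgr Lrot72 (Lpr_et (f329484 IH) (Lpr_ft (f374921 IH) (Lpe (K27.f291317 IH) (Lpe (f365048 IH) (Lpr_et (f291741 IH) (Lpn (LP (LK LD1_c15 LD2_c24 LD3_c47))))))))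
theorem f365007 : Led Lsl_et (LP (LK LD1_c10 LD2_c37 LD3_c41)) = (LP (LK LD1_c19 LD2_c15 LD3_c4)) :=
  Lre_e IH (LK LD1_c10 LD2_c37 LD3_c41) (LK LD1_c19 LD2_c15 LD3_c4) Lrfl Lrfl
theorem f342019 : Led Lsl_et (LP (LK LD1_c17 LD2_c50 LD3_c29)) = (LP (LK LD1_c9 LD2_c41 LD3_c59)) :=
  Lre_e IH (LK LD1_c17 LD2_c50 LD3_c29) (LK LD1_c9 LD2_c41 LD3_c59) Lrfl Lrfl
theorem f374909 : Led Lsl_at (LP (LK LD1_c19 LD2_c15 LD3_c4)) = (LP (LK LD1_c17 LD2_c50 LD3_c29)) :=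
  Lgr Lrot80 (Lpe (f365007 IH) (Lpr_af (f374903 IH) (Lpe (f342019 IH) (Lpn (LP (LK LD1_c17 LD2_c50 LD3_c29))))))
theorem f374935 : Led Lsl_gf (LP (LK LD1_c25 LD2_c16 LD3_c59)) = (LP (LK LD1_c15 LD2_c24 LD3_c47)) :=
  Lgr Lrot47 (Lpr_gt (f374888 IH) (Lpe (f374909 IH) (Lpr_ff (f374929 IH) (Lpn (LP (LK LD1_c15 LD2_c24 LD3_c47))))))
theorem f323607 : Led Lsl_et (LP (LK LD1_c9 LD2_c57 LD3_c39)) = (LP (LK LD1_c18 LD2_c13 LD3_c40)) :=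
  Lre_e IH (LK LD1_c9 LD2_c57 LD3_c39) (LK LD1_c18 LD2_c13 LD3_c40) Lrfl Lrfl
theorem f323674 : Led Lsl_et (LP (LK LD1_c19 LD2_c57 LD3_c4)) = (LP (LK LD1_c15 LD2_c52 LD3_c28)) :=
  Lgr Lrot71 (Lpr_df (K26.f323617 IH) (Lpe (f323607 IH) (Lpe (K22.f323604 IH) (Lpe (K22.f232175 IH) (Lpe (K54.f27449 IH) (Lpn (LP (LK LD1_c15 LD2_c52 LD3_c28))))))))
theorem f323595 : Led Lsl_bt (LP (LK LD1_c15 LD2_c52 LD3_c28)) = (LP (LK LD1_c15 LD2_c25 LD3_c61)) :=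
  Lgr Lrot95 (Lpe (K23.f27443 IH) (Lpr_bf (K21.f323591 IH) (Lpe (K17.f47981 IH) (Lpn (LP (LK LD1_c15 LD2_c25 LD3_c61))))))
theorem f323676 : Led Lsl_bf (LP (LK LD1_c19 LD2_c57 LD3_c4)) = (LP (LK LD1_c15 LD2_c24 LD3_c42)) :=
  Lgr Lrot96 (Lpr_et (f323674 IH) (Lpr_bt (f323595 IH) (Lpe (K17.f284059 IH) (Lpn (LP (LK LD1_c15 LD2_c24 LD3_c42))))))
theorem f369429 : Led Lsl_gf (LP (LK LD1_c9 LD2_c35 LD3_c4)) = (LP (LK LD1_c16 LD2_c1 LD3_c8)) :=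
  Lgr Lrot47 (Lpr_gt (K20.f171070 IH) (Lpr_af (K27.f369423 IH) (Lpe (K27.f250545 IH) (Lpn (LP (LK LD1_c16 LD2_c1 LD3_c8))))))
theorem f323678 : Led Lsl_ef (LP (LK LD1_c19 LD2_c57 LD3_c4)) = (LP (LK LD1_c15 LD2_c52 LD3_c28)) :=
  Lgr Lrot88 (Lpr_et (f323674 IH) (Lpn (LP (LK LD1_c15 LD2_c52 LD3_c28))))
theorem f366051 : Led Lsl_dt (LP (LK LD1_c9 LD2_c41 LD3_c47)) = (LP (LK LD1_c16 LD2_c1 LD3_c8)) :=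
  Lgr Lrot60 (Lpr_ff (K27.f366045 IH) (Lpe (K21.f250536 IH) (Lpe (K27.f250545 IH) (Lpn (LP (LK LD1_c16 LD2_c1 LD3_c8))))))
theorem f369435 : Led Lsl_gt (LP (LK LD1_c19 LD2_c57 LD3_c4)) = (LP (LK LD1_c17 LD2_c50 LD3_c8)) :=
  Lgr Lrot131 (Lpr_ef (f323678 IH) (Lpr_dt (K54.f27449 IH) (Lpe (K21.f27442 IH) (Lpe (K11.f27425 IH) (Lpe (K21.f27441 IH) (Lpe (K23.f27448 IH) (Lpe (K21.f286164 IH) (Lpr_gf (f369429 IH) (Lpe (f366051 IH) (Lpr_et (K27.f339605 IH) (Lpn (LP (LK LD1_c17 LD2_c50 LD3_c8)))))))))))))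
theorem f219096 : Led Lsl_et (LP (LK LD1_c17 LD2_c50 LD3_c8)) = (LP (LK LD1_c9 LD2_c41 LD3_c47)) :=
  Lre_e IH (LK LD1_c17 LD2_c50 LD3_c8) (LK LD1_c9 LD2_c41 LD3_c47) Lrfl Lrfl
theorem f345655 : Led Lsl_et (LP (LK LD1_c8 LD2_c56 LD3_c39)) = (LP (LK LD1_c16 LD2_c44 LD3_c40)) :=
  Lre_e IH (LK LD1_c8 LD2_c56 LD3_c39) (LK LD1_c16 LD2_c44 LD3_c40) Lrfl Lrfl
theorem f345656 : Led Lsl_cf (LP (LK LD1_c17 LD2_c50 LD3_c8)) = (LP (LK LD1_c16 LD2_c44 LD3_c40)) :=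
  Lgr Lrot39 (Lpr_et (f219096 IH) (Lpr_ct (K27.f345639 IH) (Lpr_et (f345655 IH) (Lpn (LP (LK LD1_c16 LD2_c44 LD3_c40))))))
theorem f345661 : Led Lsl_ct (LP (LK LD1_c17 LD2_c50 LD3_c8)) = (LP (LK LD1_c16 LD2_c44 LD3_c40)) :=
  Lgr Lrot59 (Lpr_cf (f345656 IH) (Lpn (LP (LK LD1_c16 LD2_c44 LD3_c40))))
theorem f341709 : Led Lsl_bf (LP (LK LD1_c10 LD2_c20 LD3_c41)) = (LP (LK LD1_c10 LD2_c25 LD3_c9)) :=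
  Lgr Lrot24 (Lpr_bt (K23.f341704 IH) (Lpn (LP (LK LD1_c10 LD2_c25 LD3_c9))))
theorem f374937 : Led Lsl_gt (LP (LK LD1_c16 LD2_c44 LD3_c40)) = (LP (LK LD1_c18 LD2_c54 LD3_c11)) :=
  Lgr Lrot149 (Lpe (f345661 IH) (Lpe (f369435 IH) (Lpr_bf (f323676 IH) (Lpr_ct (f230902 IH) (Lpr_gf (f374935 IH) (Lpr_cf (K27.f291730 IH) (Lpe (K18.f291674 IH) (Lpe (K21.f260604 IH) (Lpr_bf (f341709 IH) (Lpr_ct (K56.f263024 IH) (Lpn (LP (LK LD1_c18 LD2_c54 LD3_c11)))))))))))))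
theorem f631197 : Led Lsl_gt (LP (LK LD1_c18 LD2_c41 LD3_c55)) = (LP (LK LD1_c16 LD2_c44 LD3_c40)) :=
  Lgr Lrot5 (Lpr_ft (K56.f630333 IH) (Lpe (f630323 IH) (Lpe (f374937 IH) (Lpn (LP (LK LD1_c16 LD2_c44 LD3_c40))))))
def v36014 : LQ := Led Lsl_ft (LP (LK LD1_c8 LD2_c15 LD3_c48))
theorem f881711 : Led Lsl_ft (LP (LK LD1_c8 LD2_c15 LD3_c48)) = v36014 :=
  Lrfl
theorem f881716 : Led Lsl_ff (LP (LK LD1_c8 LD2_c15 LD3_c48)) = v36014 :=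
  Lgr Lrot3 (Lpr_ft (f881711 IH) (Lpn v36014))
theorem f881719 : Led Lsl_dt (LP (LK LD1_c17 LD2_c50 LD3_c8)) = v36014 :=
  Lgr Lrot60 (Lpe (K27.f367146 IH) (Lpe (K15.f189769 IH) (Lpr_ff (f881716 IH) (Lpn v36014))))
theorem f935993 : Led Lsl_cf v36014 = v42805 :=
  Lgr Lrot99 (Lpe (f881719 IH) (Lpr_cf (f345656 IH) (Lpe (f631197 IH) (Lpe (K56.f309810 IH) (Lpr_gf (K56.f328316 IH) (Lpe (K22.f250174 IH) (Lpr_gt (K15.f263019 IH) (Lpr_ct (K26.f261842 IH) (Lpr_gt (f935990 IH) (Lpn v42805))))))))))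
theorem f367160 : Led Lsl_at (LP (LK LD1_c8 LD2_c15 LD3_c48)) = (LP (LK LD1_c8 LD2_c15 LD3_c4)) :=
  Lgr Lrot51 (Lpr_df (K15.f189763 IH) (Lpr_af (K27.f367148 IH) (Lpr_df (K16.f274809 IH) (Lpn (LP (LK LD1_c8 LD2_c15 LD3_c4))))))
theorem f881721 : Led Lsl_gf (LP (LK LD1_c10 LD2_c7 LD3_c20)) = v36014 :=
  Lgr Lrot47 (Lpr_gt (K26.f323619 IH) (Lpe (f367160 IH) (Lpr_ff (f881716 IH) (Lpn v36014))))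
theorem f323625 : Led Lsl_bt (LP (LK LD1_c10 LD2_c20 LD3_c7)) = (LP (LK LD1_c18 LD2_c45 LD3_c41)) :=
  Lre_b IH (LK LD1_c10 LD2_c20 LD3_c7) (LK LD1_c18 LD2_c45 LD3_c41) Lrfl Lrfl
theorem f323644 : Led Lsl_gt (LP (LK LD1_c18 LD2_c45 LD3_c41)) = (LP (LK LD1_c28 LD2_c15 LD3_c19)) :=
  Lre_g IH (LK LD1_c18 LD2_c45 LD3_c41) (LK LD1_c28 LD2_c15 LD3_c19) Lrfl Lrfl
theorem f935994 : Led Lsl_bt (LP (LK LD1_c27 LD2_c50 LD3_c47)) = (LP (LK LD1_c28 LD2_c15 LD3_c19)) :=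
  Lgr Lrot92 (Lpr_ct (f928649 IH) (Lpqs (K72.f928741 IH) (Lpe (K72.f925857 IH) (Lpe (K27.f276021 IH) (Lpe (K27.f275989 IH) (Lpr_gt (f935990 IH) (Lpe (f935993 IH) (Lpe (f881721 IH) (Lpe (K27.f252263 IH) (Lpr_bt (f323625 IH) (Lpr_gt (f323644 IH) (Lpn (LP (LK LD1_c28 LD2_c15 LD3_c19))))))))))))))
theorem f935995 : Led Lsl_bt (LP (LK LD1_c27 LD2_c50 LD3_c47)) = (LP (LK LD1_c28 LD2_c15 LD3_c19)) :=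
  Leop (Lpe (f935994 IH) (Lpn (LP (LK LD1_c27 LD2_c50 LD3_c47))))
theorem seed_2622 : LEOK LG_b (LK LD1_c27 LD2_c50 LD3_c47) :=
  Leoe_b (LK LD1_c27 LD2_c50 LD3_c47) (f935995 IH)
def v42806 : LQ := Led Lsl_at (LP (LK LD1_c10 LD2_c17 LD3_c6))
theorem f936016 : Led Lsl_at (LP (LK LD1_c10 LD2_c17 LD3_c6)) = v42806 :=
  Lrfl
theorem f320271 : Led Lsl_at (LP (LK LD1_c19 LD2_c40 LD3_c34)) = (LP (LK LD1_c10 LD2_c53 LD3_c8)) :=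
  Lre_a IH (LK LD1_c19 LD2_c40 LD3_c34) (LK LD1_c10 LD2_c53 LD3_c8) Lrfl Lrfl
theorem f936021 : Led Lsl_ff (LP (LK LD1_c19 LD2_c40 LD3_c34)) = v42806 :=
  Lgr Lrot30 (Lpr_at (f320271 IH) (Lpe (K20.f320269 IH) (Lpr_at (f936016 IH) (Lpn v42806))))
theorem f936024 : Led Lsl_ft (LP (LK LD1_c19 LD2_c40 LD3_c34)) = v42806 :=
  Lgr Lrot48 (Lpr_ff (f936021 IH) (Lpn v42806))
theorem f936017 : Led Lsl_af (LP (LK LD1_c10 LD2_c17 LD3_c6)) = v42806 :=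
  Lgr Lrot0 (Lpr_at (f936016 IH) (Lpn v42806))
theorem f184960 : Led Lsl_gt (LP (LK LD1_c18 LD2_c41 LD3_c58)) = (LP (LK LD1_c10 LD2_c17 LD3_c6)) :=
  Lre_g IH (LK LD1_c18 LD2_c41 LD3_c58) (LK LD1_c10 LD2_c17 LD3_c6) Lrfl Lrfl
theorem f936025 : Led Lsl_gt (LP (LK LD1_c19 LD2_c40 LD3_c34)) = (LP (LK LD1_c18 LD2_c41 LD3_c58)) :=
  Lgr Lrot5 (Lpr_ft (f936024 IH) (Lpe (f936017 IH) (Lpe (f184960 IH) (Lpn (LP (LK LD1_c18 LD2_c41 LD3_c58))))))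
theorem f936026 : Led Lsl_gt (LP (LK LD1_c19 LD2_c40 LD3_c34)) = (LP (LK LD1_c18 LD2_c41 LD3_c58)) :=
  Leop (Lpe (f936025 IH) (Lpn (LP (LK LD1_c19 LD2_c40 LD3_c34))))
theorem seed_2623 : LEOK LG_g (LK LD1_c19 LD2_c40 LD3_c34) :=
  Leoe_g (LK LD1_c19 LD2_c40 LD3_c34) (f936026 IH)
def v42818 : LQ := Led Lsl_ct (LP (LK LD1_c10 LD2_c17 LD3_c22))
theorem f936104 : Led Lsl_ct (LP (LK LD1_c10 LD2_c17 LD3_c22)) = v42818 :=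
  Lrfl
theorem f176947 : Led Lsl_gt (LP (LK LD1_c10 LD2_c4 LD3_c5)) = (LP (LK LD1_c5 LD2_c6 LD3_c41)) :=
  Lre_g IH (LK LD1_c10 LD2_c4 LD3_c5) (LK LD1_c5 LD2_c6 LD3_c41) Lrfl Lrfl
theorem f639436 : Led Lsl_ft (LP (LK LD1_c10 LD2_c4 LD3_c5)) = (LP (LK LD1_c6 LD2_c9 LD3_c0)) :=
  Lgr Lrot2 (Lpr_gt (f176947 IH) (Lpr_gt (K64.f198671 IH) (Lpr_af (K56.f639431 IH) (Lpn (LP (LK LD1_c6 LD2_c9 LD3_c0))))))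
theorem f639438 : Led Lsl_ff (LP (LK LD1_c10 LD2_c4 LD3_c5)) = (LP (LK LD1_c6 LD2_c9 LD3_c0)) :=
  Lgr Lrot3 (Lpr_ft (f639436 IH) (Lpn (LP (LK LD1_c6 LD2_c9 LD3_c0))))
theorem f186375 : Led Lsl_gt (LP (LK LD1_c10 LD2_c17 LD3_c22)) = (LP (LK LD1_c5 LD2_c13 LD3_c33)) :=
  Lre_g IH (LK LD1_c10 LD2_c17 LD3_c22) (LK LD1_c5 LD2_c13 LD3_c33) Lrfl Lrfl
theorem f302587 : Led Lsl_gf (LP (LK LD1_c10 LD2_c17 LD3_c22)) = (LP (LK LD1_c10 LD2_c4 LD3_c6)) :=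
  Lgr Lrot47 (Lpr_gt (f186375 IH) (Lpr_af (K64.f302567 IH) (Lpe (K50.f176959 IH) (Lpn (LP (LK LD1_c10 LD2_c4 LD3_c6))))))
theorem f639440 : Led Lsl_at (LP (LK LD1_c10 LD2_c4 LD3_c5)) = (LP (LK LD1_c10 LD2_c17 LD3_c22)) :=
  Lgr Lrot26 (Lpr_ff (f639438 IH) (Lpr_gt (K50.f421764 IH) (Lpe (f302587 IH) (Lpn (LP (LK LD1_c10 LD2_c17 LD3_c22))))))
theorem f639444 : Led Lsl_ff (LP (LK LD1_c9 LD2_c15 LD3_c44)) = (LP (LK LD1_c10 LD2_c17 LD3_c22)) :=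
  Lgr Lrot30 (Lpr_at (K56.f639433 IH) (Lpe (f639438 IH) (Lpr_at (f639440 IH) (Lpn (LP (LK LD1_c10 LD2_c17 LD3_c22))))))
theorem f639448 : Led Lsl_ft (LP (LK LD1_c9 LD2_c15 LD3_c44)) = (LP (LK LD1_c10 LD2_c17 LD3_c22)) :=
  Lgr Lrot48 (Lpr_ff (f639444 IH) (Lpn (LP (LK LD1_c10 LD2_c17 LD3_c22))))
def v38790 : LQ := Led Lsl_et (LP (LK LD1_c9 LD2_c15 LD3_c43))
theorem f904518 : Led Lsl_et (LP (LK LD1_c9 LD2_c15 LD3_c43)) = v38790 :=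
  Lrfl
theorem f421003 : Led Lsl_ct (LP (LK LD1_c4 LD2_c40 LD3_c7)) = (LP (LK LD1_c9 LD2_c15 LD3_c43)) :=
  Lre_c IH (LK LD1_c4 LD2_c40 LD3_c7) (LK LD1_c9 LD2_c15 LD3_c43) Lrfl Lrfl
theorem f904520 : Led Lsl_cf (LP (LK LD1_c9 LD2_c15 LD3_c44)) = v38790 :=
  Lgr Lrot39 (Lpr_et (K56.f421002 IH) (Lpr_ct (f421003 IH) (Lpr_et (f904518 IH) (Lpn v38790))))
theorem f936107 : Led Lsl_ff v38790 = v42818 :=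
  Lgr Lrot23 (Lpe (f904520 IH) (Lpr_ft (f639448 IH) (Lpr_ct (f936104 IH) (Lpn v42818))))
theorem f639454 : Led Lsl_et (LP (LK LD1_c11 LD2_c59 LD3_c13)) = (LP (LK LD1_c6 LD2_c8 LD3_c61)) :=
  Lre_e IH (LK LD1_c11 LD2_c59 LD3_c13) (LK LD1_c6 LD2_c8 LD3_c61) Lrfl Lrfl
theorem f904519 : Led Lsl_af (LP (LK LD1_c11 LD2_c59 LD3_c13)) = v38790 :=
  Lgr Lrot50 (Lpr_et (f639454 IH) (Lpe (K56.f639429 IH) (Lpr_et (f904518 IH) (Lpn v38790))))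
theorem f936110 : Led Lsl_gf K56.v14586 = v42818 :=
  Lgr Lrot47 (Lpe (K56.f753697 IH) (Lpr_af (f904519 IH) (Lpr_ff (f936107 IH) (Lpn v42818))))
theorem f616060 : Led Lsl_gt (LP (LK LD1_c10 LD2_c18 LD3_c26)) = (LP (LK LD1_c18 LD2_c43 LD3_c24)) :=
  Lre_g IH (LK LD1_c10 LD2_c18 LD3_c26) (LK LD1_c18 LD2_c43 LD3_c24) Lrfl Lrfl
theorem f74760 : Led Lsl_dt (LP (LK LD1_c20 LD2_c28 LD3_c4)) = (LP (LK LD1_c11 LD2_c31 LD3_c16)) :=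
  Lre_d IH (LK LD1_c20 LD2_c28 LD3_c4) (LK LD1_c11 LD2_c31 LD3_c16) Lrfl Lrfl
theorem f138591 : Led Lsl_ct (LP (LK LD1_c6 LD2_c16 LD3_c5)) = (LP (LK LD1_c12 LD2_c9 LD3_c46)) :=
  Lre_c IH (LK LD1_c6 LD2_c16 LD3_c5) (LK LD1_c12 LD2_c9 LD3_c46) Lrfl Lrfl
theorem f752525 : Led Lsl_ff (LP (LK LD1_c11 LD2_c34 LD3_c48)) = (LP (LK LD1_c12 LD2_c9 LD3_c46)) :=
  Lgr Lrot23 (Lpr_ct (K65.f138414 IH) (Lpq (K52.f712198 IH) (Lpr_ft (K56.f701194 IH) (Lpqs (K56.f752499 IH) (Lpr_ct (f138591 IH) (Lpn (LP (LK LD1_c12 LD2_c9 LD3_c46))))))))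
theorem f712235 : Led Lsl_at (LP (LK LD1_c11 LD2_c34 LD3_c48)) = (LP (LK LD1_c6 LD2_c8 LD3_c54)) :=
  Lgr Lrot100 (Lpr_af (K65.f712233 IH) (Lpn (LP (LK LD1_c6 LD2_c8 LD3_c54))))
theorem f720211 : Led Lsl_gf (LP (LK LD1_c6 LD2_c8 LD3_c54)) = (LP (LK LD1_c9 LD2_c8 LD3_c40)) :=
  Lgr Lrot126 (Lpe (K65.f100125 IH) (Lpr_bt (K52.f100124 IH) (Lpr_gt (K0.f22938 IH) (Lpr_ct (K70.f25580 IH) (Lpr_gt (K24.f58470 IH) (Lpr_cf (K48.f57638 IH) (Lpr_bt (K55.f57637 IH) (Lpqs (K55.f720181 IH) (Lpe (K38.f640641 IH) (Lpe (K65.f210025 IH) (Lpe (K65.f205781 IH) (Lpn (LP (LK LD1_c9 LD2_c8 LD3_c40))))))))))))))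
theorem f752539 : Led Lsl_gf (LP (LK LD1_c9 LD2_c8 LD3_c40)) = (LP (LK LD1_c12 LD2_c9 LD3_c46)) :=
  Lgr Lrot47 (Lpe (f720211 IH) (Lpe (f712235 IH) (Lpr_ff (f752525 IH) (Lpn (LP (LK LD1_c12 LD2_c9 LD3_c46))))))
theorem f499937 : Led Lsl_af (LP (LK LD1_c9 LD2_c8 LD3_c40)) = (LP (LK LD1_c5 LD2_c54 LD3_c42)) :=
  Lgr Lrot0 (Lpr_at (K65.f496556 IH) (Lpn (LP (LK LD1_c5 LD2_c54 LD3_c42))))
theorem f496539 : Led Lsl_ft (LP (LK LD1_c11 LD2_c35 LD3_c3)) = (LP (LK LD1_c5 LD2_c54 LD3_c42)) :=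
  Lre_f IH (LK LD1_c11 LD2_c35 LD3_c3) (LK LD1_c5 LD2_c54 LD3_c42) Lrfl Lrfl
theorem f752541 : Led Lsl_gt (LP (LK LD1_c11 LD2_c35 LD3_c3)) = (LP (LK LD1_c12 LD2_c9 LD3_c46)) :=
  Lgr Lrot5 (Lpr_ft (f496539 IH) (Lpe (f499937 IH) (Lpr_gf (f752539 IH) (Lpn (LP (LK LD1_c12 LD2_c9 LD3_c46))))))
theorem f752535 : Led Lsl_at (LP (LK LD1_c9 LD2_c15 LD3_c40)) = (LP (LK LD1_c12 LD2_c9 LD3_c46)) :=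
  Lgr Lrot66 (Lpr_ff (K65.f639507 IH) (Lpe (f712235 IH) (Lpr_ff (f752525 IH) (Lpn (LP (LK LD1_c12 LD2_c9 LD3_c46))))))
theorem f752543 : Led Lsl_gf (LP (LK LD1_c11 LD2_c35 LD3_c3)) = (LP (LK LD1_c6 LD2_c8 LD3_c54)) :=
  Lgr Lrot47 (Lpr_gt (f752541 IH) (Lpe (f752535 IH) (Lpr_ff (K65.f639507 IH) (Lpn (LP (LK LD1_c6 LD2_c8 LD3_c54))))))
theorem f499945 : Led Lsl_ct (LP (LK LD1_c20 LD2_c25 LD3_c56)) = (LP (LK LD1_c11 LD2_c35 LD3_c3)) :=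
  Lgr Lrot40 (Lpe (K53.f209999 IH) (Lpr_cf (K65.f499940 IH) (Lpe (f496539 IH) (Lpn (LP (LK LD1_c11 LD2_c35 LD3_c3))))))
theorem f499702 : Led Lsl_af (LP (LK LD1_c5 LD2_c52 LD3_c11)) = (LP (LK LD1_c9 LD2_c47 LD3_c39)) :=
  Lgr Lrot68 (Lpr_ct (K55.f74733 IH) (Lpr_at (K55.f499698 IH) (Lpr_ct (K64.f426052 IH) (Lpn (LP (LK LD1_c9 LD2_c47 LD3_c39))))))
theorem f74745 : Led Lsl_gt (LP (LK LD1_c11 LD2_c31 LD3_c16)) = (LP (LK LD1_c5 LD2_c52 LD3_c11)) :=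
  Lre_g IH (LK LD1_c11 LD2_c31 LD3_c16) (LK LD1_c5 LD2_c52 LD3_c11) Lrfl Lrfl
theorem f499733 : Led Lsl_gf (LP (LK LD1_c11 LD2_c31 LD3_c16)) = (LP (LK LD1_c17 LD2_c57 LD3_c56)) :=
  Lgr Lrot47 (Lpr_gt (f74745 IH) (Lpr_af (f499702 IH) (Lpe (K65.f428357 IH) (Lpn (LP (LK LD1_c17 LD2_c57 LD3_c56))))))
theorem f58475 : Led Lsl_bt (LP (LK LD1_c1 LD2_c26 LD3_c9)) = (LP (LK LD1_c0 LD2_c39 LD3_c49)) :=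
  Lre_b IH (LK LD1_c1 LD2_c26 LD3_c9) (LK LD1_c0 LD2_c39 LD3_c49) Lrfl Lrfl
theorem f74889 : Led Lsl_gt (LP (LK LD1_c6 LD2_c8 LD3_c40)) = (LP (LK LD1_c3 LD2_c0 LD3_c39)) :=
  Lre_g IH (LK LD1_c6 LD2_c8 LD3_c40) (LK LD1_c3 LD2_c0 LD3_c39) Lrfl Lrfl
def v16916 : LQ := Led Lsl_ct (LP (LK LD1_c6 LD2_c8 LD3_c40))
theorem f752448 : Led Lsl_ct (LP (LK LD1_c6 LD2_c8 LD3_c40)) = v16916 :=
  Lrfl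
theorem f752449 : Led Lsl_cf (LP (LK LD1_c6 LD2_c8 LD3_c40)) = v16916 :=
  Lgr Lrot11 (Lpr_ct (f752448 IH) (Lpn v16916))
theorem f752545 : (LP (LK LD1_c11 LD2_c31 LD3_c16)) = v16916 :=
  (Llr Lrot82 (Lpr_gf (f499733 IH) (Lpe (K65.f499719 IH) (Lpr_ct (f499945 IH) (Lpr_gf (f752543 IH) (Lpe (K65.f100125 IH) (Lpr_bt (K52.f100124 IH) (Lpe (K29.f22979 IH) (Lpe (f58475 IH) (Lpr_ct (K56.f58606 IH) (Lpe (f74889 IH) (Lpr_cf (f752449 IH) (Lpn v16916))))))))))))).symm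
theorem f73240 : Led Lsl_gt (LP (LK LD1_c5 LD2_c47 LD3_c36)) = (LP (LK LD1_c11 LD2_c24 LD3_c47)) :=
  Lre_g IH (LK LD1_c5 LD2_c47 LD3_c36) (LK LD1_c11 LD2_c24 LD3_c47) Lrfl Lrfl
theorem f752450 : Led Lsl_bf (LP (LK LD1_c11 LD2_c24 LD3_c47)) = v16916 :=
  Lgr Lrot34 (Lpe (f73240 IH) (Lpe (K2.f73223 IH) (Lpe (K2.f73510 IH) (Lpr_gf (K9.f79734 IH) (Lpe (K32.f140089 IH) (Lpe (K29.f22979 IH) (Lpe (f58475 IH) (Lpr_ct (K56.f58606 IH) (Lpe (f74889 IH) (Lpr_cf (f752449 IH) (Lpn v16916)))))))))))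
theorem f73241 : Led Lsl_dt (LP (LK LD1_c11 LD2_c24 LD3_c47)) = (LP (LK LD1_c20 LD2_c22 LD3_c30)) :=
  Lre_d IH (LK LD1_c11 LD2_c24 LD3_c47) (LK LD1_c20 LD2_c22 LD3_c30) Lrfl Lrfl
theorem f752556 : Led Lsl_bf (LP (LK LD1_c20 LD2_c28 LD3_c4)) = (LP (LK LD1_c20 LD2_c22 LD3_c30)) :=
  Lgr Lrot93 (Lpr_dt (f74760 IH) (Lpqs (f752545 IH) (Lpe (f752450 IH) (Lpr_dt (f73241 IH) (Lpn (LP (LK LD1_c20 LD2_c22 LD3_c30)))))))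
theorem f180684 : Led Lsl_et (LP (LK LD1_c5 LD2_c14 LD3_c39)) = (LP (LK LD1_c2 LD2_c34 LD3_c8)) :=
  Lre_e IH (LK LD1_c5 LD2_c14 LD3_c39) (LK LD1_c2 LD2_c34 LD3_c8) Lrfl Lrfl
theorem f615472 : Led Lsl_ef (LP (LK LD1_c17 LD2_c58 LD3_c15)) = (LP (LK LD1_c20 LD2_c28 LD3_c4)) :=
  Lgr Lrot17 (Lpe (K71.f387079 IH) (Lpe (K53.f387078 IH) (Lpr_dt (K39.f387077 IH) (Lpe (K28.f386899 IH) (Lpe (K44.f161224 IH) (Lpr_gf (K32.f387067 IH) (Lpe (f180684 IH) (Lpr_dt (K72.f615393 IH) (Lpe (f74745 IH) (Lpe (f74760 IH) (Lpn (LP (LK LD1_c20 LD2_c28 LD3_c4)))))))))))))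
theorem f539746 : Led Lsl_dt (LP (LK LD1_c8 LD2_c12 LD3_c34)) = (LP (LK LD1_c5 LD2_c14 LD3_c22)) :=
  Lgr Lrot42 (Lpr_df (K36.f539742 IH) (Lpn (LP (LK LD1_c5 LD2_c14 LD3_c22))))
theorem f55900 : Led Lsl_et (LP (LK LD1_c8 LD2_c12 LD3_c37)) = (LP (LK LD1_c4 LD2_c5 LD3_c58)) :=
  Lre_e IH (LK LD1_c8 LD2_c12 LD3_c37) (LK LD1_c4 LD2_c5 LD3_c58) Lrfl Lrfl
theorem f73246 : Led Lsl_at (LP (LK LD1_c5 LD2_c47 LD3_c21)) = (LP (LK LD1_c2 LD2_c49 LD3_c45)) :=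
  Lre_a IH (LK LD1_c5 LD2_c47 LD3_c21) (LK LD1_c2 LD2_c49 LD3_c45) Lrfl Lrfl
theorem f73247 : Led Lsl_dt (LP (LK LD1_c8 LD2_c12 LD3_c37)) = (LP (LK LD1_c5 LD2_c47 LD3_c21)) :=
  Lgr Lrot44 (Lpe (K67.f55695 IH) (Lpr_df (K2.f73236 IH) (Lpe (f73246 IH) (Lpn (LP (LK LD1_c5 LD2_c47 LD3_c21))))))
theorem f73434 : Led Lsl_gt (LP (LK LD1_c11 LD2_c24 LD3_c47)) = (LP (LK LD1_c5 LD2_c47 LD3_c21)) :=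
  Lre_g IH (LK LD1_c11 LD2_c24 LD3_c47) (LK LD1_c5 LD2_c47 LD3_c21) Lrfl Lrfl
theorem f73245 : Led Lsl_dt (LP (LK LD1_c20 LD2_c22 LD3_c30)) = (LP (LK LD1_c11 LD2_c24 LD3_c47)) :=
  Lre_d IH (LK LD1_c20 LD2_c22 LD3_c30) (LK LD1_c11 LD2_c24 LD3_c47) Lrfl Lrfl
theorem f544446 : Led Lsl_et (LP (LK LD1_c5 LD2_c14 LD3_c25)) = (LP (LK LD1_c10 LD2_c18 LD3_c26)) :=
  Lre_e IH (LK LD1_c5 LD2_c14 LD3_c25) (LK LD1_c10 LD2_c18 LD3_c26) Lrfl Lrfl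
theorem f622192 : Led Lsl_et (LP (LK LD1_c20 LD2_c22 LD3_c30)) = (LP (LK LD1_c18 LD2_c43 LD3_c24)) :=
  Lgr Lrot122 (Lpr_dt (f73245 IH) (Lpr_gt (f73434 IH) (Lpe (f73247 IH) (Lpr_et (f55900 IH) (Lpr_gt (K36.f55829 IH) (Lpr_dt (f539746 IH) (Lpr_gt (K36.f421683 IH) (Lpe (K45.f421694 IH) (Lpr_et (f544446 IH) (Lpr_gt (f616060 IH) (Lpn (LP (LK LD1_c18 LD2_c43 LD3_c24)))))))))))))
theorem f622194 : Led Lsl_ef (LP (LK LD1_c20 LD2_c22 LD3_c30)) = (LP (LK LD1_c18 LD2_c43 LD3_c24)) :=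
  Lgr Lrot88 (Lpr_et (f622192 IH) (Lpn (LP (LK LD1_c18 LD2_c43 LD3_c24))))
theorem f752560 : Led Lsl_bt (LP (LK LD1_c17 LD2_c58 LD3_c15)) = (LP (LK LD1_c18 LD2_c43 LD3_c24)) :=
  Lgr Lrot119 (Lpr_ef (f615472 IH) (Lpr_bf (f752556 IH) (Lpr_ef (f622194 IH) (Lpn (LP (LK LD1_c18 LD2_c43 LD3_c24))))))
theorem f699384 : Led Lsl_bt (LP (LK LD1_c17 LD2_c58 LD3_c14)) = (LP (LK LD1_c10 LD2_c4 LD3_c6)) :=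
  Lgr Lrot127 (Lpr_bf (f699382 IH) (Lpn (LP (LK LD1_c10 LD2_c4 LD3_c6))))
theorem f387161 : Led Lsl_gt (LP (LK LD1_c17 LD2_c58 LD3_c16)) = (LP (LK LD1_c9 LD2_c48 LD3_c2)) :=
  Lre_g IH (LK LD1_c17 LD2_c58 LD3_c16) (LK LD1_c9 LD2_c48 LD3_c2) Lrfl Lrfl
theorem f936111 : Led Lsl_ct (LP (LK LD1_c17 LD2_c58 LD3_c15)) = (LP (LK LD1_c17 LD2_c58 LD3_c16)) :=
  Lgr Lrot64 (Lpr_bt (f752560 IH) (Lpe (f616060 IH) (Lpe (K53.f616061 IH) (Lpr_ct (K56.f723913 IH) (Lpr_gf (f936110 IH) (Lpe (f936104 IH) (Lpr_gf (f302587 IH) (Lpe (f699384 IH) (Lpr_ct (K53.f387262 IH) (Lpe (f387161 IH) (Lpn (LP (LK LD1_c17 LD2_c58 LD3_c16)))))))))))))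
theorem f936112 : Led Lsl_ct (LP (LK LD1_c17 LD2_c58 LD3_c15)) = (LP (LK LD1_c17 LD2_c58 LD3_c16)) :=
  Leop (Lpe (f936111 IH) (Lpn (LP (LK LD1_c17 LD2_c58 LD3_c15))))
theorem seed_2624 : LEOK LG_c (LK LD1_c17 LD2_c58 LD3_c15) :=
  Leoe_c (LK LD1_c17 LD2_c58 LD3_c15) (f936112 IH)
def v42824 : LQ := Led Lsl_et (LP (LK LD1_c10 LD2_c17 LD3_c24))
theorem f936161 : Led Lsl_et (LP (LK LD1_c10 LD2_c17 LD3_c24)) = v42824 :=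
  Lrfl
theorem f936162 : Led Lsl_ef (LP (LK LD1_c10 LD2_c17 LD3_c24)) = v42824 :=
  Lgr Lrot88 (Lpr_et (f936161 IH) (Lpn v42824))
theorem f185806 : Led Lsl_gt (LP (LK LD1_c5 LD2_c13 LD3_c34)) = (LP (LK LD1_c10 LD2_c17 LD3_c24)) :=
  Lre_g IH (LK LD1_c5 LD2_c13 LD3_c34) (LK LD1_c10 LD2_c17 LD3_c24) Lrfl Lrfl
theorem f185815 : Led Lsl_et (LP (LK LD1_c2 LD2_c33 LD3_c39)) = (LP (LK LD1_c5 LD2_c13 LD3_c34)) :=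
  Lre_e IH (LK LD1_c2 LD2_c33 LD3_c39) (LK LD1_c5 LD2_c13 LD3_c34) Lrfl Lrfl
theorem f386744 : Led Lsl_dt (LP (LK LD1_c2 LD2_c55 LD3_c6)) = (LP (LK LD1_c1 LD2_c23 LD3_c30)) :=
  Lre_d IH (LK LD1_c2 LD2_c55 LD3_c6) (LK LD1_c1 LD2_c23 LD3_c30) Lrfl Lrfl
def v14323 : LQ := Led Lsl_et (LP (LK LD1_c5 LD2_c6 LD3_c32))
theorem f721924 : Led Lsl_et (LP (LK LD1_c5 LD2_c6 LD3_c32)) = v14323 :=
  Lrfl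
theorem f721928 : Led Lsl_ef (LP (LK LD1_c5 LD2_c6 LD3_c32)) = v14323 :=
  Lgr Lrot88 (Lpr_et (f721924 IH) (Lpn v14323))
theorem f721927 : Led Lsl_df (LP (LK LD1_c5 LD2_c56 LD3_c34)) = v14323 :=
  Lgr Lrot70 (Lpr_et (K32.f157055 IH) (Lpr_dt (K50.f161034 IH) (Lpqs (K36.f537862 IH) (Lpe (K36.f500169 IH) (Lpr_dt (K28.f205141 IH) (Lpr_et (f721924 IH) (Lpn v14323)))))))
theorem f157091 : Led Lsl_gt (LP (LK LD1_c11 LD2_c38 LD3_c26)) = (LP (LK LD1_c5 LD2_c56 LD3_c34)) :=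
  Lre_g IH (LK LD1_c11 LD2_c38 LD3_c26) (LK LD1_c5 LD2_c56 LD3_c34) Lrfl Lrfl
theorem f936163 : Led Lsl_df (LP (LK LD1_c11 LD2_c38 LD3_c26)) = v42824 :=
  Lgr Lrot170 (Lpr_gt (f157091 IH) (Lpr_df (f721927 IH) (Lpe (f721928 IH) (Lpr_gt (K28.f426246 IH) (Lpr_dt (f386744 IH) (Lpe (K36.f427797 IH) (Lpe (K36.f185801 IH) (Lpr_et (f185815 IH) (Lpr_gt (f185806 IH) (Lpr_ef (f936162 IH) (Lpn v42824)))))))))))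
theorem f560103 : Led Lsl_af (LP (LK LD1_c5 LD2_c56 LD3_c34)) = (LP (LK LD1_c5 LD2_c50 LD3_c41)) :=
  Lgr Lrot0 (Lpr_at (K50.f560101 IH) (Lpn (LP (LK LD1_c5 LD2_c50 LD3_c41))))
theorem f22193 : Led Lsl_ft (LP (LK LD1_c11 LD2_c29 LD3_c8)) = (LP (LK LD1_c5 LD2_c50 LD3_c41)) :=
  Lre_f IH (LK LD1_c11 LD2_c29 LD3_c8) (LK LD1_c5 LD2_c50 LD3_c41) Lrfl Lrfl
theorem f618148 : Led Lsl_gf (LP (LK LD1_c11 LD2_c38 LD3_c26)) = (LP (LK LD1_c11 LD2_c29 LD3_c8)) :=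
  Lgr Lrot47 (Lpr_gt (f157091 IH) (Lpr_af (f560103 IH) (Lpe (f22193 IH) (Lpn (LP (LK LD1_c11 LD2_c29 LD3_c8))))))
theorem f752893 : K56.v16921 = (LP (LK LD1_c11 LD2_c38 LD3_c26)) :=
  (Llr Lrot26 (Lpe (K56.f752469 IH) (Lpr_ff (K56.f752456 IH) (Lpq (K56.f752888 IH) (Lpr_gt (K55.f618146 IH) (Lpe (f618148 IH) (Lpn (LP (LK LD1_c11 LD2_c38 LD3_c26))))))))).symm
def v16919 : LQ := Led Lsl_dt (LP (LK LD1_c6 LD2_c8 LD3_c43))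
theorem f752457 : Led Lsl_dt (LP (LK LD1_c6 LD2_c8 LD3_c43)) = v16919 :=
  Lrfl
theorem f936166 : Led Lsl_ft v16919 = v42824 :=
  Lgr Lrot54 (Lpe (f752457 IH) (Lpr_ff (K56.f752468 IH) (Lpqs (f752893 IH) (Lpr_df (f936163 IH) (Lpn v42824)))))
theorem f752459 : Led Lsl_df (LP (LK LD1_c6 LD2_c8 LD3_c43)) = v16919 :=
  Lgr Lrot38 (Lpr_dt (f752457 IH) (Lpn v16919))
theorem f58500 : Led Lsl_bt (LP (LK LD1_c6 LD2_c8 LD3_c43)) = (LP (LK LD1_c3 LD2_c0 LD3_c40)) :=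
  Lre_b IH (LK LD1_c6 LD2_c8 LD3_c43) (LK LD1_c3 LD2_c0 LD3_c40) Lrfl Lrfl
theorem f752460 : Led Lsl_bt (LP (LK LD1_c6 LD2_c8 LD3_c45)) = v16919 :=
  Lgr Lrot95 (Lpe (K55.f75013 IH) (Lpe (f58500 IH) (Lpr_df (f752459 IH) (Lpn v16919))))
theorem f936167 : Led Lsl_bf K70.v16928 = v42824 :=
  Lgr Lrot61 (Lpe (K70.f752873 IH) (Lpr_bt (f752460 IH) (Lpr_ft (f936166 IH) (Lpn v42824))))
theorem f176982 : Led Lsl_gt (LP (LK LD1_c10 LD2_c4 LD3_c2)) = (LP (LK LD1_c18 LD2_c22 LD3_c39)) :=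
  Lre_g IH (LK LD1_c10 LD2_c4 LD3_c2) (LK LD1_c18 LD2_c22 LD3_c39) Lrfl Lrfl
theorem f618623 : Led Lsl_et (LP (LK LD1_c11 LD2_c40 LD3_c59)) = (LP (LK LD1_c18 LD2_c22 LD3_c39)) :=
  Lgr Lrot122 (Lpr_dt (K70.f75967 IH) (Lpr_gt (K54.f75966 IH) (Lpe (K70.f75951 IH) (Lpr_et (K5.f75954 IH) (Lpr_gt (K43.f557510 IH) (Lpr_dt (K24.f386672 IH) (Lpr_gt (K36.f500654 IH) (Lpq (K36.f539678 IH) (Lpe (K36.f176984 IH) (Lpr_et (K18.f176976 IH) (Lpr_gt (f176982 IH) (Lpn (LP (LK LD1_c18 LD2_c22 LD3_c39))))))))))))))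
def v42821 : LQ := Led Lsl_bt (LP (LK LD1_c10 LD2_c17 LD3_c24))
theorem f936155 : Led Lsl_bt (LP (LK LD1_c10 LD2_c17 LD3_c24)) = v42821 :=
  Lrfl
theorem f936156 : Led Lsl_bf (LP (LK LD1_c10 LD2_c17 LD3_c24)) = v42821 :=
  Lgr Lrot24 (Lpr_bt (f936155 IH) (Lpn v42821))
theorem f936169 : (LP (LK LD1_c18 LD2_c22 LD3_c39)) = v42821 :=
  (Llr Lrot74 (Lpe (f618623 IH) (Lpq (K70.f752927 IH) (Lpr_bf (f936167 IH) (Lpe (f936161 IH) (Lpr_bf (f936156 IH) (Lpn v42821))))))).symm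
theorem f936170 : Led Lsl_bt (LP (LK LD1_c18 LD2_c22 LD3_c39)) = (LP (LK LD1_c10 LD2_c17 LD3_c24)) :=
  Leop (Lpr_bf (f936156 IH) (Lpq (f936169 IH) (Lpn (LP (LK LD1_c18 LD2_c22 LD3_c39)))))
theorem seed_2625 : LEOK LG_b (LK LD1_c18 LD2_c22 LD3_c39) :=
  Leoe_b (LK LD1_c18 LD2_c22 LD3_c39) (f936170 IH)
def v42838 : LQ := Led Lsl_gf (LP (LK LD1_c10 LD2_c17 LD3_c48))
theorem f936231 : Led Lsl_gf (LP (LK LD1_c10 LD2_c17 LD3_c48)) = v42838 :=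
  Lrfl
theorem f581561 : Led Lsl_gt (LP (LK LD1_c5 LD2_c7 LD3_c31)) = (LP (LK LD1_c9 LD2_c47 LD3_c38)) :=
  Lgr Lrot82 (Lpr_bf (K44.f581515 IH) (Lpe (K43.f570750 IH) (Lpe (K38.f211643 IH) (Lpe (K35.f198667 IH) (Lpr_bt (K35.f198665 IH) (Lpr_gf (K11.f183202 IH) (Lpe (K37.f198572 IH) (Lpr_ct (K37.f198573 IH) (Lpr_gf (K38.f542367 IH) (Lpr_cf (K45.f428061 IH) (Lpn (LP (LK LD1_c9 LD2_c47 LD3_c38)))))))))))))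
theorem f936234 : Led Lsl_ct K54.v12354 = v42838 :=
  Lgr Lrot152 (Lpe (K54.f691688 IH) (Lpe (K44.f581484 IH) (Lpr_gt (f581561 IH) (Lpe (K45.f428061 IH) (Lpe (K38.f542367 IH) (Lpr_ct (K37.f418131 IH) (Lpe (K40.f417958 IH) (Lpe (K69.f198807 IH) (Lpr_gf (f936231 IH) (Lpn v42838))))))))))
theorem f936236 : Led Lsl_cf K54.v12354 = v42838 :=
  Lgr Lrot11 (Lpr_ct (f936234 IH) (Lpn v42838))
theorem f559953 : Led Lsl_gf (LP (LK LD1_c4 LD2_c7 LD3_c8)) = (LP (LK LD1_c5 LD2_c47 LD3_c53)) :=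
  Lgr Lrot181 (Lpr_ct (K38.f55870 IH) (Lpr_gt (K38.f422751 IH) (Lpr_cf (K28.f56222 IH) (Lpr_bt (K38.f56221 IH) (Lpr_gt (K9.f20756 IH) (Lpe (K42.f55993 IH) (Lpr_ct (K30.f55994 IH) (Lpr_gt (K53.f559947 IH) (Lpe (K42.f117571 IH) (Lpr_bt (K8.f132341 IH) (Lpn (LP (LK LD1_c5 LD2_c47 LD3_c53)))))))))))))
theorem f35217 : Led Lsl_dt (LP (LK LD1_c8 LD2_c38 LD3_c16)) = (LP (LK LD1_c4 LD2_c20 LD3_c11)) :=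
  Lre_d IH (LK LD1_c8 LD2_c38 LD3_c16) (LK LD1_c4 LD2_c20 LD3_c11) Lrfl Lrfl
theorem f568554 : Led Lsl_bt (LP (LK LD1_c5 LD2_c7 LD3_c35)) = (LP (LK LD1_c2 LD2_c31 LD3_c7)) :=
  Lre_b IH (LK LD1_c5 LD2_c7 LD3_c35) (LK LD1_c2 LD2_c31 LD3_c7) Lrfl Lrfl
theorem f579682 : Led Lsl_cf (LP (LK LD1_c5 LD2_c7 LD3_c35)) = (LP (LK LD1_c4 LD2_c20 LD3_c11)) :=
  Lgr Lrot97 (Lpr_bt (f568554 IH) (Lpr_ct (f568555 IH) (Lpr_bt (K43.f579678 IH) (Lpr_ct (K50.f567084 IH) (Lpe (K41.f567094 IH) (Lpn (LP (LK LD1_c4 LD2_c20 LD3_c11))))))))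
theorem f581474 : Led Lsl_dt (LP (LK LD1_c10 LD2_c5 LD3_c28)) = (LP (LK LD1_c5 LD2_c7 LD3_c35)) :=
  Lre_d IH (LK LD1_c10 LD2_c5 LD3_c28) (LK LD1_c5 LD2_c7 LD3_c35) Lrfl Lrfl
theorem f691687 : Led Lsl_gf (LP (LK LD1_c10 LD2_c5 LD3_c28)) = K54.v12354 :=
  Lgr Lrot143 (Lpr_dt (f581474 IH) (Lpr_cf (f579682 IH) (Lpe (f35217 IH) (Lpr_gf (K42.f553504 IH) (Lpe (K42.f56295 IH) (Lpe (K39.f542887 IH) (Lpr_cf (f572890 IH) (Lpe (f559953 IH) (Lpr_dt (K54.f691683 IH) (Lpn K54.v12354))))))))))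
theorem f581542 : Led Lsl_bt (LP (LK LD1_c18 LD2_c24 LD3_c20)) = (LP (LK LD1_c10 LD2_c5 LD3_c38)) :=
  Lre_b IH (LK LD1_c18 LD2_c24 LD3_c20) (LK LD1_c10 LD2_c5 LD3_c38) Lrfl Lrfl
theorem f570349 : Led Lsl_ct (LP (LK LD1_c10 LD2_c5 LD3_c38)) = (LP (LK LD1_c5 LD2_c7 LD3_c42)) :=
  Lre_c IH (LK LD1_c10 LD2_c5 LD3_c38) (LK LD1_c5 LD2_c7 LD3_c42) Lrfl Lrfl
theorem f581475 : Led Lsl_bt (LP (LK LD1_c5 LD2_c7 LD3_c42)) = (LP (LK LD1_c10 LD2_c5 LD3_c28)) :=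
  Lre_b IH (LK LD1_c5 LD2_c7 LD3_c42) (LK LD1_c10 LD2_c5 LD3_c28) Lrfl Lrfl
theorem f748742 : Led Lsl_bt (LP (LK LD1_c17 LD2_c9 LD3_c24)) = (LP (LK LD1_c18 LD2_c36 LD3_c44)) :=
  Lgr Lrot128 (Lpr_cf (f581540 IH) (Lpe (f581475 IH) (Lpe (f570349 IH) (Lpe (f581542 IH) (Lpr_cf (f748736 IH) (Lpn (LP (LK LD1_c18 LD2_c36 LD3_c44))))))))
def v38235 : LQ := Led Lsl_ct (LP (LK LD1_c9 LD2_c7 LD3_c20))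
theorem f900185 : Led Lsl_ct (LP (LK LD1_c9 LD2_c7 LD3_c20)) = v38235 :=
  Lrfl
theorem f900189 : Led Lsl_ff (LP (LK LD1_c9 LD2_c7 LD3_c40)) = v38235 :=
  Lgr Lrot23 (Lpr_ct (K53.f562713 IH) (Lpe (K40.f562736 IH) (Lpr_ct (f900185 IH) (Lpn v38235))))
theorem f936232 : Led Lsl_gt v38235 = v42838 :=
  Lgr Lrot5 (Lpe (f900189 IH) (Lpe (K69.f562719 IH) (Lpr_gf (f936231 IH) (Lpn v42838))))
theorem f900192 : Led Lsl_bt (LP (LK LD1_c10 LD2_c12 LD3_c6)) = v38235 :=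
  Lgr Lrot35 (Lpe (K64.f249914 IH) (Lpr_bf (K53.f699272 IH) (Lpr_ff (f900189 IH) (Lpn v38235))))
theorem f748669 : Led Lsl_bt (LP (LK LD1_c9 LD2_c59 LD3_c8)) = (LP (LK LD1_c18 LD2_c15 LD3_c32)) :=
  Lre_b IH (LK LD1_c9 LD2_c59 LD3_c8) (LK LD1_c18 LD2_c15 LD3_c32) Lrfl Lrfl
theorem f936240 : Led Lsl_gt (LP (LK LD1_c18 LD2_c36 LD3_c44)) = (LP (LK LD1_c18 LD2_c15 LD3_c32)) :=
  Lgr Lrot164 (Lpe (f748742 IH) (Lpr_ct (f581543 IH) (Lpr_gf (f691687 IH) (Lpr_cf (f936236 IH) (Lpe (f936232 IH) (Lpe (f900192 IH) (Lpe (K64.f406578 IH) (Lpr_gf (K51.f301822 IH) (Lpr_cf (K55.f722230 IH) (Lpqs (K55.f748666 IH) (Lpr_bt (f748669 IH) (Lpn (LP (LK LD1_c18 LD2_c15 LD3_c32))))))))))))))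
theorem f936241 : Led Lsl_gt (LP (LK LD1_c18 LD2_c36 LD3_c44)) = (LP (LK LD1_c18 LD2_c15 LD3_c32)) :=
  Leop (Lpe (f936240 IH) (Lpn (LP (LK LD1_c18 LD2_c36 LD3_c44))))
theorem seed_2626 : LEOK LG_g (LK LD1_c18 LD2_c36 LD3_c44) :=
  Leoe_g (LK LD1_c18 LD2_c36 LD3_c44) (f936241 IH)
def v42844 : LQ := Led Lsl_ct (LP (LK LD1_c10 LD2_c17 LD3_c52))
theorem f936292 : Led Lsl_ct (LP (LK LD1_c10 LD2_c17 LD3_c52)) = v42844 :=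
  Lrfl
def v14374 : LQ := Led Lsl_ct (LP (LK LD1_c5 LD2_c7 LD3_c28))
theorem f722241 : Led Lsl_ct (LP (LK LD1_c5 LD2_c7 LD3_c28)) = v14374 :=
  Lrfl
theorem f722242 : Led Lsl_cf (LP (LK LD1_c5 LD2_c7 LD3_c28)) = v14374 :=
  Lgr Lrot11 (Lpr_ct (f722241 IH) (Lpn v14374))
theorem f936296 : Led Lsl_gf v14374 = v42844 :=
  Lgr Lrot104 (Lpe (f722242 IH) (Lpe (K18.f194050 IH) (Lpr_cf (K53.f249923 IH) (Lpr_gf (K64.f721047 IH) (Lpe (K64.f723859 IH) (Lpe (K46.f636308 IH) (Lpe (K40.f405198 IH) (Lpe (K53.f405216 IH) (Lpr_ct (f936292 IH) (Lpn v42844))))))))))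
theorem f406568 : Led Lsl_bt (LP (LK LD1_c5 LD2_c7 LD3_c28)) = (LP (LK LD1_c10 LD2_c5 LD3_c13)) :=
  Lre_b IH (LK LD1_c5 LD2_c7 LD3_c28) (LK LD1_c10 LD2_c5 LD3_c13) Lrfl Lrfl
def v42025 : LQ := Led Lsl_gt (LP (LK LD1_c10 LD2_c5 LD3_c13))
theorem f931918 : Led Lsl_gt (LP (LK LD1_c10 LD2_c5 LD3_c13)) = v42025 :=
  Lrfl
theorem f936297 : Led Lsl_bt K72.v14576 = v42025 :=
  Lgr Lrot92 (Lpe (K72.f723831 IH) (Lpe (K40.f387282 IH) (Lpe (K53.f387072 IH) (Lpr_bt (K72.f699378 IH) (Lpe (K53.f405216 IH) (Lpr_ct (f936292 IH) (Lpe (f936296 IH) (Lpe (f722241 IH) (Lpr_bt (f406568 IH) (Lpr_gt (f931918 IH) (Lpn v42025)))))))))))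
theorem f597864 : Led Lsl_ff (LP (LK LD1_c5 LD2_c14 LD3_c14)) = (LP (LK LD1_c5 LD2_c7 LD3_c3)) :=
  Lgr Lrot25 (Lpr_bt (K72.f563789 IH) (Lpr_ft (K50.f597862 IH) (Lpr_bt (K42.f165700 IH) (Lpn (LP (LK LD1_c5 LD2_c7 LD3_c3))))))
theorem f723832 : Led Lsl_ff (LP (LK LD1_c10 LD2_c4 LD3_c45)) = K72.v14576 :=
  Lgr Lrot23 (Lpr_ct (K66.f165748 IH) (Lpe (f597864 IH) (Lpr_ct (K72.f723829 IH) (Lpn K72.v14576))))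
theorem f723835 : Led Lsl_ft (LP (LK LD1_c10 LD2_c4 LD3_c45)) = K72.v14576 :=
  Lgr Lrot48 (Lpr_ff (f723832 IH) (Lpn K72.v14576))
theorem f931351 : Led Lsl_bf (LP (LK LD1_c10 LD2_c4 LD3_c45)) = v41990 :=
  Lgr Lrot24 (Lpr_bt (f931350 IH) (Lpn v41990))
theorem f936299 : Led Lsl_ff v41990 = v42025 :=
  Lgr Lrot25 (Lpe (f931351 IH) (Lpr_ft (f723835 IH) (Lpr_bt (f936297 IH) (Lpn v42025))))
theorem f936301 : Led Lsl_ft v41990 = v42025 :=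
  Lgr Lrot48 (Lpr_ff (f936299 IH) (Lpn v42025))
theorem f936302 : Led Lsl_df v14924 = v42025 :=
  Lgr Lrot78 (Lpe (f926398 IH) (Lpe (f931930 IH) (Lpr_ft (f936301 IH) (Lpn v42025))))
theorem f8887 : Led Lsl_dt (LP (LK LD1_c10 LD2_c45 LD3_c41)) = (LP (LK LD1_c5 LD2_c27 LD3_c17)) :=
  Lre_d IH (LK LD1_c10 LD2_c45 LD3_c41) (LK LD1_c5 LD2_c27 LD3_c17) Lrfl Lrfl
theorem f601186 : Led Lsl_gt (LP (LK LD1_c15 LD2_c26 LD3_c51)) = (LP (LK LD1_c8 LD2_c12 LD3_c41)) :=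
  Lre_g IH (LK LD1_c15 LD2_c26 LD3_c51) (LK LD1_c8 LD2_c12 LD3_c41) Lrfl Lrfl
theorem f936303 : Led Lsl_et (LP (LK LD1_c10 LD2_c45 LD3_c41)) = (LP (LK LD1_c15 LD2_c26 LD3_c51)) :=
  Lgr Lrot185 (Lpr_dt (f8887 IH) (Lpr_gf (f727294 IH) (Lpr_df (f936302 IH) (Lpe (f931918 IH) (Lpe (f565337 IH) (Lpr_dt (K43.f565331 IH) (Lpe (K41.f421703 IH) (Lpr_df (K43.f573140 IH) (Lpr_et (K56.f565372 IH) (Lpe (f601186 IH) (Lpn (LP (LK LD1_c15 LD2_c26 LD3_c51)))))))))))))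
theorem f936304 : Led Lsl_et (LP (LK LD1_c10 LD2_c45 LD3_c41)) = (LP (LK LD1_c15 LD2_c26 LD3_c51)) :=
  Leop (Lpe (f936303 IH) (Lpn (LP (LK LD1_c10 LD2_c45 LD3_c41))))
theorem seed_2627 : LEOK LG_e (LK LD1_c10 LD2_c45 LD3_c41) :=
  Leoe_e (LK LD1_c10 LD2_c45 LD3_c41) (f936304 IH)
def v42013 : LQ := Led Lsl_gt (LP (LK LD1_c10 LD2_c5 LD3_c2))
theorem f931830 : Led Lsl_gt (LP (LK LD1_c10 LD2_c5 LD3_c2)) = v42013 :=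
  Lrfl
def v42848 : LQ := Led Lsl_ft (LP (LK LD1_c10 LD2_c17 LD3_c55))
theorem f936326 : Led Lsl_ft (LP (LK LD1_c10 LD2_c17 LD3_c55)) = v42848 :=
  Lrfl
theorem f936329 : Led Lsl_ff (LP (LK LD1_c10 LD2_c17 LD3_c55)) = v42848 :=
  Lgr Lrot3 (Lpr_ft (f936326 IH) (Lpn v42848))
theorem f427965 : Led Lsl_et (LP (LK LD1_c10 LD2_c5 LD3_c2)) = (LP (LK LD1_c5 LD2_c7 LD3_c14)) :=
  Lre_e IH (LK LD1_c10 LD2_c5 LD3_c2) (LK LD1_c5 LD2_c7 LD3_c14) Lrfl Lrfl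
theorem f406595 : Led Lsl_et (LP (LK LD1_c5 LD2_c13 LD3_c54)) = (LP (LK LD1_c10 LD2_c17 LD3_c55)) :=
  Lre_e IH (LK LD1_c5 LD2_c13 LD3_c54) (LK LD1_c10 LD2_c17 LD3_c55) Lrfl Lrfl
theorem f428000 : Led Lsl_af (LP (LK LD1_c10 LD2_c5 LD3_c2)) = (LP (LK LD1_c10 LD2_c17 LD3_c55)) :=
  Lgr Lrot50 (Lpr_et (f427965 IH) (Lpr_at (K36.f427995 IH) (Lpr_et (f406595 IH) (Lpn (LP (LK LD1_c10 LD2_c17 LD3_c55))))))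
theorem f8964 : Led Lsl_ct (LP (LK LD1_c3 LD2_c0 LD3_c23)) = (LP (LK LD1_c6 LD2_c8 LD3_c3)) :=
  Lre_c IH (LK LD1_c3 LD2_c0 LD3_c23) (LK LD1_c6 LD2_c8 LD3_c3) Lrfl Lrfl
theorem f8927 : Led Lsl_dt (LP (LK LD1_c11 LD2_c58 LD3_c11)) = (LP (LK LD1_c6 LD2_c8 LD3_c3)) :=
  Lre_d IH (LK LD1_c11 LD2_c58 LD3_c11) (LK LD1_c6 LD2_c8 LD3_c3) Lrfl Lrfl
theorem f387074 : Led Lsl_bt (LP (LK LD1_c4 LD2_c58 LD3_c49)) = (LP (LK LD1_c9 LD2_c48 LD3_c5)) :=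
  Lre_b IH (LK LD1_c4 LD2_c58 LD3_c49) (LK LD1_c9 LD2_c48 LD3_c5) Lrfl Lrfl
theorem f227275 : Led Lsl_bf (LP (LK LD1_c0 LD2_c59 LD3_c26)) = (LP (LK LD1_c0 LD2_c27 LD3_c39)) :=
  Lgr Lrot93 (Lpr_dt (K12.f227214 IH) (Lpr_bt (K10.f181405 IH) (Lpe (K10.f170299 IH) (Lpn (LP (LK LD1_c0 LD2_c27 LD3_c39))))))
theorem f227281 : Led Lsl_bf (LP (LK LD1_c0 LD2_c27 LD3_c29)) = (LP (LK LD1_c0 LD2_c58 LD3_c35)) :=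
  Lgr Lrot96 (Lpe (K13.f170312 IH) (Lpe (f227275 IH) (Lpr_et (K12.f227279 IH) (Lpn (LP (LK LD1_c0 LD2_c58 LD3_c35))))))
theorem f387094 : Led Lsl_gt (LP (LK LD1_c9 LD2_c48 LD3_c5)) = (LP (LK LD1_c11 LD2_c58 LD3_c11)) :=
  Lgr Lrot190 (Lpe (f387074 IH) (Lpe (K44.f387073 IH) (Lpe (K28.f76113 IH) (Lpr_gf (K28.f387085 IH) (Lpe (K28.f186692 IH) (Lpe (K10.f186688 IH) (Lpe (K9.f6793 IH) (Lpe (K10.f6815 IH) (Lpr_bf (f227281 IH) (Lpe (K13.f166426 IH) (Lpe (K13.f227295 IH) (Lpe (K13.f177541 IH) (Lpe (K15.f177540 IH) (Lpe (K10.f9086 IH) (Lpe (K15.f177492 IH) (Lpr_gf (K10.f9062 IH) (Lpe (K9.f8958 IH) (Lpe (K72.f8926 IH) (Lpe (f8927 IH) (Lpn (LP (LK LD1_c11 LD2_c58 LD3_c11))))))))))))))))))))))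
def v40863 : LQ := Led Lsl_dt (LP (LK LD1_c9 LD2_c48 LD3_c5))
theorem f920801 : Led Lsl_dt (LP (LK LD1_c9 LD2_c48 LD3_c5)) = v40863 :=
  Lrfl
theorem f920803 : Led Lsl_df (LP (LK LD1_c9 LD2_c48 LD3_c5)) = v40863 :=
  Lgr Lrot38 (Lpr_dt (f920801 IH) (Lpn v40863))
def v14367 : LQ := Led Lsl_gt (LP (LK LD1_c5 LD2_c7 LD3_c23))
theorem f722220 : Led Lsl_gt (LP (LK LD1_c5 LD2_c7 LD3_c23)) = v14367 :=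
  Lrfl
theorem f924545 : v40863 = v14367 :=
  (Llr Lrot153 (Lpe (f920803 IH) (Lpr_gt (f387094 IH) (Lpr_dt (f8927 IH) (Lpe (f8964 IH) (Lpe (K0.f8935 IH) (Lpr_gf (K72.f638295 IH) (Lpr_df (K72.f823097 IH) (Lpr_gf (f924544 IH) (Lpe (f722219 IH) (Lpr_gt (f722220 IH) (Lpn v14367)))))))))))).symm
theorem f8965 : Led Lsl_dt (LP (LK LD1_c6 LD2_c8 LD3_c3)) = (LP (LK LD1_c11 LD2_c58 LD3_c11)) :=
  Lre_d IH (LK LD1_c6 LD2_c8 LD3_c3) (LK LD1_c11 LD2_c58 LD3_c11) Lrfl Lrfl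
def v16865 : LQ := Led Lsl_et (LP (LK LD1_c6 LD2_c8 LD3_c3))
theorem f752090 : Led Lsl_et (LP (LK LD1_c6 LD2_c8 LD3_c3)) = v16865 :=
  Lrfl
theorem f308556 : Led Lsl_et (LP (LK LD1_c5 LD2_c7 LD3_c14)) = (LP (LK LD1_c10 LD2_c5 LD3_c2)) :=
  Lre_e IH (LK LD1_c5 LD2_c7 LD3_c14) (LK LD1_c10 LD2_c5 LD3_c2) Lrfl Lrfl
theorem f924546 : Led Lsl_gt v16865 = (LP (LK LD1_c10 LD2_c5 LD3_c2)) :=
  Lgr Lrot131 (Lpe (f752090 IH) (Lpr_dt (f8965 IH) (Lpe (f387094 IH) (Lpr_df (f920803 IH) (Lpqs (f924545 IH) (Lpe (f722220 IH) (Lpe (f406589 IH) (Lpr_dt (K42.f53305 IH) (Lpe (K36.f53240 IH) (Lpe (f308555 IH) (Lpr_et (f308556 IH) (Lpn (LP (LK LD1_c10 LD2_c5 LD3_c2))))))))))))))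
theorem f936333 : Led Lsl_gf v16865 = v42848 :=
  Lgr Lrot47 (Lpr_gt (f924546 IH) (Lpr_af (f428000 IH) (Lpr_ff (f936329 IH) (Lpn v42848))))
theorem f722395 : Led Lsl_af (LP (LK LD1_c5 LD2_c8 LD3_c27)) = K71.v14412 :=
  Lgr Lrot45 (Lpr_ft (K71.f722386 IH) (Lpe (K71.f722384 IH) (Lpr_ft (K71.f722394 IH) (Lpn K71.v14412))))
theorem f722388 : Led Lsl_bt (LP (LK LD1_c5 LD2_c8 LD3_c27)) = (LP (LK LD1_c10 LD2_c7 LD3_c17)) :=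
  Lre_b IH (LK LD1_c5 LD2_c8 LD3_c27) (LK LD1_c10 LD2_c7 LD3_c17) Lrfl Lrfl
theorem f622197 : Led Lsl_et (LP (LK LD1_c6 LD2_c8 LD3_c5)) = (LP (LK LD1_c3 LD2_c0 LD3_c15)) :=
  Lre_e IH (LK LD1_c6 LD2_c8 LD3_c5) (LK LD1_c3 LD2_c0 LD3_c15) Lrfl Lrfl
theorem f752091 : Led Lsl_bf (LP (LK LD1_c6 LD2_c8 LD3_c5)) = v16865 :=
  Lgr Lrot96 (Lpr_et (f622197 IH) (Lpr_bt (K72.f412182 IH) (Lpr_et (f752090 IH) (Lpn v16865))))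
theorem f924624 : Led Lsl_at (LP (LK LD1_c10 LD2_c7 LD3_c17)) = v16865 :=
  Lgr Lrot67 (Lpe (f722388 IH) (Lpr_af (f722395 IH) (Lpr_bf (K72.f924623 IH) (Lpe (K72.f748915 IH) (Lpr_bf (f752091 IH) (Lpn v16865))))))
theorem f334849 : Led Lsl_bt (LP (LK LD1_c18 LD2_c43 LD3_c57)) = (LP (LK LD1_c10 LD2_c19 LD3_c7)) :=
  Lre_b IH (LK LD1_c18 LD2_c43 LD3_c57) (LK LD1_c10 LD2_c19 LD3_c7) Lrfl Lrfl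
theorem f925191 : Led Lsl_ft (LP (LK LD1_c19 LD2_c27 LD3_c33)) = (LP (LK LD1_c18 LD2_c43 LD3_c57)) :=
  Lgr Lrot75 (Lpr_bf (K72.f925183 IH) (Lpr_ff (K72.f925142 IH) (Lpe (f334849 IH) (Lpn (LP (LK LD1_c18 LD2_c43 LD3_c57))))))
theorem f446651 : Led Lsl_et (LP (LK LD1_c10 LD2_c45 LD3_c35)) = (LP (LK LD1_c19 LD2_c27 LD3_c33)) :=
  Lre_e IH (LK LD1_c10 LD2_c45 LD3_c35) (LK LD1_c19 LD2_c27 LD3_c33) Lrfl Lrfl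
theorem f924685 : Led Lsl_et (LP (LK LD1_c10 LD2_c7 LD3_c17)) = (LP (LK LD1_c11 LD2_c58 LD3_c10)) :=
  Lgr Lrot87 (Lpr_ef (f924682 IH) (Lpn (LP (LK LD1_c11 LD2_c58 LD3_c10))))
theorem f925026 : Led Lsl_et (LP (LK LD1_c18 LD2_c43 LD3_c57)) = (LP (LK LD1_c10 LD2_c19 LD3_c6)) :=
  Lre_e IH (LK LD1_c18 LD2_c43 LD3_c57) (LK LD1_c10 LD2_c19 LD3_c6) Lrfl Lrfl
theorem f925197 : Led Lsl_ff (LP (LK LD1_c10 LD2_c7 LD3_c17)) = (LP (LK LD1_c10 LD2_c19 LD3_c6)) :=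
  Lgr Lrot72 (Lpr_et (f924685 IH) (Lpe (f8914 IH) (Lpr_et (f446651 IH) (Lpr_ft (f925191 IH) (Lpr_et (f925026 IH) (Lpn (LP (LK LD1_c10 LD2_c19 LD3_c6))))))))
theorem f936334 : Led Lsl_gt (LP (LK LD1_c10 LD2_c19 LD3_c6)) = v42848 :=
  Lgr Lrot5 (Lpe (f925197 IH) (Lpr_at (f924624 IH) (Lpr_gf (f936333 IH) (Lpn v42848))))
def v42015 : LQ := Led Lsl_ft (LP (LK LD1_c10 LD2_c5 LD3_c2))
theorem f931837 : Led Lsl_ft (LP (LK LD1_c10 LD2_c5 LD3_c2)) = v42015 :=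
  Lrfl
theorem f936331 : Led Lsl_at v42015 = v42848 :=
  Lgr Lrot66 (Lpe (f931837 IH) (Lpr_af (f428000 IH) (Lpr_ff (f936329 IH) (Lpn v42848))))
theorem f936335 : (LP (LK LD1_c10 LD2_c19 LD3_c6)) = v42013 :=
  (Llr Lrot76 (Lpr_gt (f936334 IH) (Lpe (f936331 IH) (Lpe (f931837 IH) (Lpr_gt (f931830 IH) (Lpn v42013)))))).symm
theorem f936336 : Led Lsl_gt (LP (LK LD1_c10 LD2_c5 LD3_c2)) = (LP (LK LD1_c10 LD2_c19 LD3_c6)) :=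
  Leop (Lpqs (f936335 IH) (Lpe (f931830 IH) (Lpn (LP (LK LD1_c10 LD2_c5 LD3_c2)))))
theorem seed_2628 : LEOK LG_g (LK LD1_c10 LD2_c5 LD3_c2) :=
  Leoe_g (LK LD1_c10 LD2_c5 LD3_c2) (f936336 IH)
def v42859 : LQ := Led Lsl_et (LP (LK LD1_c10 LD2_c18 LD3_c5))
theorem f936394 : Led Lsl_et (LP (LK LD1_c10 LD2_c18 LD3_c5)) = v42859 :=
  Lrfl
theorem f936397 : Led Lsl_ef (LP (LK LD1_c10 LD2_c18 LD3_c5)) = v42859 :=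
  Lgr Lrot88 (Lpr_et (f936394 IH) (Lpn v42859))
theorem f8932 : Led Lsl_gt (LP (LK LD1_c11 LD2_c0 LD3_c56)) = (LP (LK LD1_c5 LD2_c34 LD3_c22)) :=
  Lre_g IH (LK LD1_c11 LD2_c0 LD3_c56) (LK LD1_c5 LD2_c34 LD3_c22) Lrfl Lrfl
theorem f936400 : Led Lsl_df (LP (LK LD1_c11 LD2_c0 LD3_c56)) = v42859 :=
  Lgr Lrot170 (Lpr_gt (f8932 IH) (Lpe (K0.f8833 IH) (Lpr_et (K0.f8846 IH) (Lpr_gt (f8921 IH) (Lpr_dt (K72.f752332 IH) (Lpqs (K72.f924250 IH) (Lpr_gt (K72.f184965 IH) (Lpr_df (K72.f722113 IH) (Lpe (K53.f722114 IH) (Lpe (K50.f308614 IH) (Lpr_ef (f936397 IH) (Lpn v42859))))))))))))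
theorem f936398 : Led Lsl_at K72.v35888 = v42859 :=
  Lgr Lrot80 (Lpe (K72.f880941 IH) (Lpr_af (K50.f596440 IH) (Lpr_ef (f936397 IH) (Lpn v42859))))
def v15245 : LQ := Led Lsl_ft (LP (LK LD1_c5 LD2_c34 LD3_c31))
theorem f733116 : Led Lsl_ft (LP (LK LD1_c5 LD2_c34 LD3_c31)) = v15245 :=
  Lrfl
theorem f733117 : Led Lsl_af (LP (LK LD1_c5 LD2_c34 LD3_c32)) = v15245 :=
  Lgr Lrot45 (Lpr_ft (K72.f733108 IH) (Lpe (K72.f733102 IH) (Lpr_ft (f733116 IH) (Lpn v15245))))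
theorem f936408 : (LP (LK LD1_c11 LD2_c0 LD3_c56)) = v15245 :=
  (Llr Lrot44 (Lpr_df (f936400 IH) (Lpe (f936398 IH) (Lpq (K72.f924437 IH) (Lpe (K72.f733127 IH) (Lpr_af (f733117 IH) (Lpn v15245))))))).symm
theorem f936409 : Led Lsl_at (LP (LK LD1_c11 LD2_c0 LD3_c56)) = (LP (LK LD1_c5 LD2_c34 LD3_c32)) :=
  Leop (Lpr_af (f733117 IH) (Lpq (f936408 IH) (Lpn (LP (LK LD1_c11 LD2_c0 LD3_c56)))))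
theorem seed_2629 : LEOK LG_a (LK LD1_c11 LD2_c0 LD3_c56) :=
  Leoe_a (LK LD1_c11 LD2_c0 LD3_c56) (f936409 IH)
def v42878 : LQ := Led Lsl_gt (LP (LK LD1_c10 LD2_c18 LD3_c17))
theorem f936577 : Led Lsl_gt (LP (LK LD1_c10 LD2_c18 LD3_c17)) = v42878 :=
  Lrfl
theorem f387186 : Led Lsl_et (LP (LK LD1_c9 LD2_c47 LD3_c22)) = (LP (LK LD1_c4 LD2_c58 LD3_c20)) :=
  Lre_e IH (LK LD1_c9 LD2_c47 LD3_c22) (LK LD1_c4 LD2_c58 LD3_c20) Lrfl Lrfl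
def v34530 : LQ := Led Lsl_dt K66.v11852
theorem f871465 : Led Lsl_dt K66.v11852 = v34530 :=
  Lrfl
theorem f871468 : Led Lsl_df K66.v11852 = v34530 :=
  Lgr Lrot38 (Lpr_dt (f871465 IH) (Lpn v34530))
theorem f936579 : Led Lsl_et v34530 = v42878 :=
  Lgr Lrot122 (Lpe (f871468 IH) (Lpe (K66.f686154 IH) (Lpe (K56.f427594 IH) (Lpr_et (f387186 IH) (Lpe (K32.f427524 IH) (Lpr_dt (K36.f53223 IH) (Lpr_gt (K40.f53228 IH) (Lpe (K50.f563790 IH) (Lpr_et (K50.f563792 IH) (Lpr_gt (f936577 IH) (Lpn v42878)))))))))))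
theorem f936581 : Led Lsl_ef v34530 = v42878 :=
  Lgr Lrot88 (Lpr_et (f936579 IH) (Lpn v42878))
theorem f871466 : Led Lsl_af K66.v11853 = v34530 :=
  Lgr Lrot117 (Lpe (K66.f686159 IH) (Lpr_at (K66.f686149 IH) (Lpr_dt (f871465 IH) (Lpn v34530))))
theorem f936582 : Led Lsl_at K66.v34533 = v42878 :=
  Lgr Lrot80 (Lpe (K66.f871505 IH) (Lpr_af (f871466 IH) (Lpr_ef (f936581 IH) (Lpn v42878))))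
theorem f871514 : Led Lsl_ft (LP (LK LD1_c18 LD2_c21 LD3_c3)) = K66.v34533 :=
  Lgr Lrot48 (Lpr_ff (K66.f871513 IH) (Lpn K66.v34533))
theorem f936584 : Led Lsl_gt (LP (LK LD1_c18 LD2_c21 LD3_c3)) = (LP (LK LD1_c10 LD2_c18 LD3_c17)) :=
  Lgr Lrot5 (Lpr_ft (f871514 IH) (Lpr_at (f936582 IH) (Lpe (f936577 IH) (Lpn (LP (LK LD1_c10 LD2_c18 LD3_c17))))))
theorem f936585 : Led Lsl_gt (LP (LK LD1_c18 LD2_c21 LD3_c3)) = (LP (LK LD1_c10 LD2_c18 LD3_c17)) :=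
  Leop (Lpe (f936584 IH) (Lpn (LP (LK LD1_c18 LD2_c21 LD3_c3))))
theorem seed_2630 : LEOK LG_g (LK LD1_c18 LD2_c21 LD3_c3) :=
  Leoe_g (LK LD1_c18 LD2_c21 LD3_c3) (f936585 IH)
def v42880 : LQ := Led Lsl_dt (LP (LK LD1_c10 LD2_c18 LD3_c18))
theorem f936599 : Led Lsl_dt (LP (LK LD1_c10 LD2_c18 LD3_c18)) = v42880 :=
  Lrfl
def v16869 : LQ := Led Lsl_ft (LP (LK LD1_c6 LD2_c8 LD3_c4))
theorem f752167 : Led Lsl_ft (LP (LK LD1_c6 LD2_c8 LD3_c4)) = v16869 :=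
  Lrfl
theorem f752170 : Led Lsl_df (LP (LK LD1_c6 LD2_c8 LD3_c6)) = v16869 :=
  Lgr Lrot78 (Lpr_ft (K72.f412181 IH) (Lpr_dt (K56.f56279 IH) (Lpr_ft (f752167 IH) (Lpn v16869))))
theorem f936604 : Led Lsl_gf v16869 = v42880 :=
  Lgr Lrot143 (Lpe (f752170 IH) (Lpe (K72.f55951 IH) (Lpe (K36.f55950 IH) (Lpe (K36.f427743 IH) (Lpe (K55.f427747 IH) (Lpe (K36.f539656 IH) (Lpr_cf (K55.f723845 IH) (Lpe (K64.f723852 IH) (Lpr_dt (f936599 IH) (Lpn v42880))))))))))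
def v41394 : LQ := Led Lsl_ct (LP (LK LD1_c9 LD2_c57 LD3_c6))
theorem f925772 : Led Lsl_ct (LP (LK LD1_c9 LD2_c57 LD3_c6)) = v41394 :=
  Lrfl
theorem f936606 : Led Lsl_bt v41394 = v42880 :=
  Lgr Lrot178 (Lpe (f925772 IH) (Lpe (K72.f604185 IH) (Lpe (K53.f165589 IH) (Lpe (K37.f165588 IH) (Lpe (K8.f165583 IH) (Lpr_df (K9.f166679 IH) (Lpe (K9.f53239 IH) (Lpe (K13.f240306 IH) (Lpe (K13.f53129 IH) (Lpe (K12.f211572 IH) (Lpr_gf (K12.f211583 IH) (Lpe (K12.f192639 IH) (Lpe (K9.f55906 IH) (Lpe (K9.f55907 IH) (Lpe (K9.f175306 IH) (Lpe (K72.f175315 IH) (Lpe (K71.f55963 IH) (Lpr_df (f752170 IH) (Lpr_gf (f936604 IH) (Lpn v42880))))))))))))))))))))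
theorem f936601 : Led Lsl_df (LP (LK LD1_c10 LD2_c18 LD3_c18)) = v42880 :=
  Lgr Lrot38 (Lpr_dt (f936599 IH) (Lpn v42880))
theorem f936608 : Led Lsl_df v41394 = (LP (LK LD1_c18 LD2_c24 LD3_c32)) :=
  Lgr Lrot12 (Lpr_bt (f936606 IH) (Lpe (f936601 IH) (Lpe (f931338 IH) (Lpn (LP (LK LD1_c18 LD2_c24 LD3_c32))))))
theorem f925773 : Led Lsl_cf (LP (LK LD1_c9 LD2_c57 LD3_c6)) = v41394 :=
  Lgr Lrot11 (Lpr_ct (f925772 IH) (Lpn v41394))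
theorem f343410 : Led Lsl_dt (LP (LK LD1_c9 LD2_c57 LD3_c7)) = (LP (LK LD1_c5 LD2_c3 LD3_c52)) :=
  Lgr Lrot6 (Lpr_gt (K72.f177219 IH) (Lpr_ct (K53.f177228 IH) (Lpr_gt (K53.f177229 IH) (Lpr_ct (K72.f343406 IH) (Lpe (K69.f233583 IH) (Lpe (K53.f343367 IH) (Lpe (K37.f166894 IH) (Lpe (K14.f165612 IH) (Lpe (K10.f165738 IH) (Lpn (LP (LK LD1_c5 LD2_c3 LD3_c52))))))))))))
theorem f343302 : Led Lsl_dt (LP (LK LD1_c9 LD2_c58 LD3_c40)) = (LP (LK LD1_c18 LD2_c15 LD3_c9)) :=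
  Lre_d IH (LK LD1_c9 LD2_c58 LD3_c40) (LK LD1_c18 LD2_c15 LD3_c9) Lrfl Lrfl
theorem f308515 : Led Lsl_ct (LP (LK LD1_c10 LD2_c17 LD3_c59)) = (LP (LK LD1_c5 LD2_c13 LD3_c59)) :=
  Lre_c IH (LK LD1_c10 LD2_c17 LD3_c59) (LK LD1_c5 LD2_c13 LD3_c59) Lrfl Lrfl
theorem f595191 : Led Lsl_gt (LP (LK LD1_c8 LD2_c12 LD3_c12)) = (LP (LK LD1_c10 LD2_c17 LD3_c59)) :=
  Lgr Lrot150 (Lpe (K72.f182434 IH) (Lpr_gf (K45.f595189 IH) (Lpe (K45.f171707 IH) (Lpr_gt (K37.f544444 IH) (Lpr_ct (K39.f538397 IH) (Lpe (K39.f544452 IH) (Lpr_ct (K32.f308493 IH) (Lpe (K32.f61394 IH) (Lpe (f308515 IH) (Lpn (LP (LK LD1_c10 LD2_c17 LD3_c59))))))))))))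
theorem f595193 : Led Lsl_bf (LP (LK LD1_c5 LD2_c14 LD3_c15)) = (LP (LK LD1_c4 LD2_c5 LD3_c51)) :=
  Lgr Lrot34 (Lpe (K40.f387252 IH) (Lpr_bf (K53.f387249 IH) (Lpr_ct (K32.f308492 IH) (Lpe (f595191 IH) (Lpe (K72.f182434 IH) (Lpr_gf (K45.f595189 IH) (Lpe (K64.f566974 IH) (Lpr_ct (K45.f442698 IH) (Lpr_gf (K64.f544440 IH) (Lpe (K64.f192643 IH) (Lpn (LP (LK LD1_c4 LD2_c5 LD3_c51)))))))))))))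
theorem f541328 : Led Lsl_ct (LP (LK LD1_c8 LD2_c12 LD3_c24)) = (LP (LK LD1_c4 LD2_c5 LD3_c51)) :=
  Lre_c IH (LK LD1_c8 LD2_c12 LD3_c24) (LK LD1_c4 LD2_c5 LD3_c51) Lrfl Lrfl
theorem f566957 : Led Lsl_bt (LP (LK LD1_c15 LD2_c26 LD3_c26)) = (LP (LK LD1_c8 LD2_c12 LD3_c24)) :=
  Lre_b IH (LK LD1_c15 LD2_c26 LD3_c26) (LK LD1_c8 LD2_c12 LD3_c24) Lrfl Lrfl
theorem f931342 : Led Lsl_ct (LP (LK LD1_c18 LD2_c24 LD3_c32)) = (LP (LK LD1_c15 LD2_c26 LD3_c26)) :=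
  Lgr Lrot83 (Lpr_bf (f931338 IH) (Lpe (K64.f387092 IH) (Lpr_bf (f595193 IH) (Lpe (f541328 IH) (Lpe (f566957 IH) (Lpn (LP (LK LD1_c15 LD2_c26 LD3_c26))))))))
theorem f931344 : Led Lsl_cf (LP (LK LD1_c18 LD2_c24 LD3_c32)) = (LP (LK LD1_c15 LD2_c26 LD3_c26)) :=
  Lgr Lrot11 (Lpr_ct (f931342 IH) (Lpn (LP (LK LD1_c15 LD2_c26 LD3_c26))))
theorem f699348 : Led Lsl_dt (LP (LK LD1_c25 LD2_c18 LD3_c17)) = (LP (LK LD1_c15 LD2_c26 LD3_c26)) :=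
  Lre_d IH (LK LD1_c25 LD2_c18 LD3_c17) (LK LD1_c15 LD2_c26 LD3_c26) Lrfl Lrfl
theorem f936609 : Led Lsl_ct (LP (LK LD1_c18 LD2_c15 LD3_c9)) = (LP (LK LD1_c25 LD2_c18 LD3_c17)) :=
  Lgr Lrot176 (Lpe (f343302 IH) (Lpe (K72.f343013 IH) (Lpe (f343410 IH) (Lpr_cf (K72.f925793 IH) (Lpe (f932096 IH) (Lpr_cf (f932098 IH) (Lpe (f932102 IH) (Lpr_cf (f405865 IH) (Lpe (f405683 IH) (Lpe (K53.f165590 IH) (Lpr_df (K53.f604187 IH) (Lpr_cf (f925773 IH) (Lpr_df (f936608 IH) (Lpr_cf (f931344 IH) (Lpe (f699348 IH) (Lpn (LP (LK LD1_c25 LD2_c18 LD3_c17))))))))))))))))))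
theorem f936610 : Led Lsl_ct (LP (LK LD1_c18 LD2_c15 LD3_c9)) = (LP (LK LD1_c25 LD2_c18 LD3_c17)) :=
  Leop (Lpe (f936609 IH) (Lpn (LP (LK LD1_c18 LD2_c15 LD3_c9))))
theorem seed_2631 : LEOK LG_c (LK LD1_c18 LD2_c15 LD3_c9) :=
  Leoe_c (LK LD1_c18 LD2_c15 LD3_c9) (f936610 IH)
def v42881 : LQ := Led Lsl_gt (LP (LK LD1_c10 LD2_c18 LD3_c19))
theorem f936643 : Led Lsl_gt (LP (LK LD1_c10 LD2_c18 LD3_c19)) = v42881 :=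
  Lrfl
theorem f535819 : Led Lsl_bt (LP (LK LD1_c5 LD2_c51 LD3_c51)) = (LP (LK LD1_c2 LD2_c52 LD3_c11)) :=
  Lre_b IH (LK LD1_c5 LD2_c51 LD3_c51) (LK LD1_c2 LD2_c52 LD3_c11) Lrfl Lrfl
theorem f686161 : Led Lsl_bt K35.v3912 = K66.v11853 :=
  Lgr Lrot35 (Lpe (K35.f627870 IH) (Lpe (f535819 IH) (Lpr_ff (K66.f686160 IH) (Lpn K66.v11853))))
theorem f506550 : Led Lsl_cf K35.v495 = K35.v1951 :=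
  Lgr Lrot39 (Lpe (K35.f453622 IH) (Lpr_ct (K32.f69108 IH) (Lpr_et (K35.f506549 IH) (Lpn K35.v1951))))
theorem f501177 : Led Lsl_cf (LP (LK LD1_c1 LD2_c24 LD3_c36)) = K49.v1729 :=
  Lgr Lrot39 (Lpr_et (K17.f180313 IH) (Lpr_ct (K31.f415838 IH) (Lpr_et (K49.f501176 IH) (Lpn K49.v1729))))
def v5117 : LQ := Led Lsl_ct (LP (LK LD1_c2 LD2_c57 LD3_c49))
theorem f646021 : Led Lsl_ct (LP (LK LD1_c2 LD2_c57 LD3_c49)) = v5117 :=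
  Lrfl
theorem f646022 : Led Lsl_cf (LP (LK LD1_c2 LD2_c57 LD3_c49)) = v5117 :=
  Lgr Lrot11 (Lpr_ct (f646021 IH) (Lpn v5117))
theorem f686009 : Led Lsl_gf v5117 = K71.v11817 :=
  Lgr Lrot104 (Lpe (f646022 IH) (Lpe (K17.f180306 IH) (Lpr_cf (f501177 IH) (Lpe (K49.f505581 IH) (Lpr_cf (f506550 IH) (Lpr_gf (K53.f670570 IH) (Lpr_df (K53.f686000 IH) (Lpe (K53.f685995 IH) (Lpr_ct (K71.f686005 IH) (Lpn K71.v11817))))))))))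
theorem f686179 : Led Lsl_gt v5117 = K71.v11855 :=
  Lgr Lrot46 (Lpr_gf (f686009 IH) (Lpe (K71.f686008 IH) (Lpr_at (K71.f686177 IH) (Lpn K71.v11855))))
theorem f646018 : Led Lsl_bt (LP (LK LD1_c2 LD2_c57 LD3_c49)) = (LP (LK LD1_c6 LD2_c3 LD3_c19)) :=
  Lre_b IH (LK LD1_c2 LD2_c57 LD3_c49) (LK LD1_c6 LD2_c3 LD3_c19) Lrfl Lrfl
theorem f559360 : Led Lsl_et (LP (LK LD1_c2 LD2_c56 LD3_c27)) = (LP (LK LD1_c6 LD2_c0 LD3_c22)) :=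
  Lre_e IH (LK LD1_c2 LD2_c56 LD3_c27) (LK LD1_c6 LD2_c0 LD3_c22) Lrfl Lrfl
theorem f643360 : Led Lsl_bf (LP (LK LD1_c9 LD2_c11 LD3_c38)) = (LP (LK LD1_c6 LD2_c0 LD3_c22)) :=
  Lgr Lrot96 (Lpr_et (K11.f207356 IH) (Lpqs (K45.f643357 IH) (Lpe (K45.f641449 IH) (Lpr_et (f559360 IH) (Lpn (LP (LK LD1_c6 LD2_c0 LD3_c22)))))))
theorem f643364 : Led Lsl_bt (LP (LK LD1_c17 LD2_c5 LD3_c18)) = (LP (LK LD1_c11 LD2_c45 LD3_c10)) :=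
  Lgr Lrot95 (Lpe (K11.f207357 IH) (Lpr_bf (f643360 IH) (Lpe (K55.f75070 IH) (Lpn (LP (LK LD1_c11 LD2_c45 LD3_c10))))))
theorem f559361 : Led Lsl_ef (LP (LK LD1_c11 LD2_c40 LD3_c20)) = (LP (LK LD1_c11 LD2_c45 LD3_c10)) :=
  Lgr Lrot73 (Lpr_dt (K55.f428132 IH) (Lpr_et (K45.f559358 IH) (Lpr_dt (K45.f76138 IH) (Lpr_et (f559360 IH) (Lpr_dt (K55.f75062 IH) (Lpn (LP (LK LD1_c11 LD2_c45 LD3_c10))))))))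
theorem f710790 : Led Lsl_bf (LP (LK LD1_c11 LD2_c50 LD3_c25)) = (LP (LK LD1_c11 LD2_c40 LD3_c20)) :=
  Lgr Lrot96 (Lpr_et (K59.f710786 IH) (Lpr_bt (f643364 IH) (Lpe (f559361 IH) (Lpn (LP (LK LD1_c11 LD2_c40 LD3_c20))))))
theorem f936645 : Led Lsl_ct (LP (LK LD1_c11 LD2_c40 LD3_c20)) = v42881 :=
  Lgr Lrot63 (Lpe (f710790 IH) (Lpr_gt (K59.f501160 IH) (Lpe (f646018 IH) (Lpr_ct (f646021 IH) (Lpr_gt (f686179 IH) (Lpe (K71.f686173 IH) (Lpr_bt (f686161 IH) (Lpr_gt (K66.f871493 IH) (Lpe (K66.f871501 IH) (Lpr_gt (f936643 IH) (Lpn v42881)))))))))))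
theorem f644301 : Led Lsl_at (LP (LK LD1_c11 LD2_c40 LD3_c41)) = (LP (LK LD1_c11 LD2_c40 LD3_c20)) :=
  Lgr Lrot51 (Lpe (K56.f206036 IH) (Lpr_af (K56.f644285 IH) (Lpe (K55.f428132 IH) (Lpn (LP (LK LD1_c11 LD2_c40 LD3_c20))))))
def v41991 : LQ := Led Lsl_gt (LP (LK LD1_c10 LD2_c4 LD3_c46))
theorem f931352 : Led Lsl_gt (LP (LK LD1_c10 LD2_c4 LD3_c46)) = v41991 :=
  Lrfl
theorem f752153 : Led Lsl_cf (LP (LK LD1_c10 LD2_c4 LD3_c46)) = (LP (LK LD1_c11 LD2_c30 LD3_c56)) :=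
  Lgr Lrot39 (Lpr_et (K50.f387294 IH) (Lpr_ct (K56.f165701 IH) (Lpr_et (K56.f752151 IH) (Lpn (LP (LK LD1_c11 LD2_c30 LD3_c56))))))
theorem f686152 : Led Lsl_ff K45.v4893 = K66.v11852 :=
  Lgr Lrot30 (Lpe (K66.f640761 IH) (Lpr_ft (K56.f627864 IH) (Lpr_at (K66.f686149 IH) (Lpn K66.v11852))))
theorem f686156 : Led Lsl_ft K45.v4893 = K66.v11852 :=
  Lgr Lrot48 (Lpr_ff (f686152 IH) (Lpn K66.v11852))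
theorem f871469 : Led Lsl_ff K66.v14113 = v34530 :=
  Lgr Lrot19 (Lpe (K66.f719062 IH) (Lpq (K45.f643194 IH) (Lpr_ft (f686156 IH) (Lpr_dt (f871465 IH) (Lpn v34530)))))
theorem f871474 : Led Lsl_gf (LP (LK LD1_c11 LD2_c30 LD3_c56)) = v34530 :=
  Lgr Lrot47 (Lpr_gt (K56.f640757 IH) (Lpr_af (K66.f719061 IH) (Lpr_ff (f871469 IH) (Lpn v34530))))
theorem f719020 : Led Lsl_ct (LP (LK LD1_c4 LD2_c58 LD3_c19)) = K56.v14104 :=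
  Lgr Lrot15 (Lpe (K66.f139362 IH) (Lpe (K8.f139177 IH) (Lpr_ef (K56.f719018 IH) (Lpn K56.v14104))))
def v16339 : LQ := Led Lsl_ct (LP (LK LD1_c5 LD2_c57 LD3_c59))
theorem f748852 : Led Lsl_ct (LP (LK LD1_c5 LD2_c57 LD3_c59)) = v16339 :=
  Lrfl
theorem f748854 : Led Lsl_cf (LP (LK LD1_c5 LD2_c57 LD3_c59)) = v16339 :=
  Lgr Lrot11 (Lpr_ct (f748852 IH) (Lpn v16339))
theorem f748858 : Led Lsl_at (LP (LK LD1_c9 LD2_c47 LD3_c55)) = v16339 :=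
  Lgr Lrot107 (Lpr_cf (K45.f644289 IH) (Lpe (K56.f643336 IH) (Lpr_cf (f748854 IH) (Lpn v16339))))
theorem f748866 : Led Lsl_gt K56.v14104 = v16339 :=
  Lgr Lrot46 (Lpr_gf (K56.f748865 IH) (Lpe (K66.f748862 IH) (Lpr_at (f748858 IH) (Lpn v16339))))
theorem f931353 : Led Lsl_cf (LP (LK LD1_c11 LD2_c40 LD3_c41)) = v41991 :=
  Lgr Lrot99 (Lpe (K56.f206036 IH) (Lpr_cf (f748854 IH) (Lpe (f748866 IH) (Lpe (f719020 IH) (Lpr_gf (K66.f686154 IH) (Lpr_df (f871468 IH) (Lpe (f871474 IH) (Lpe (f752153 IH) (Lpr_gt (f931352 IH) (Lpn v41991))))))))))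
theorem f936646 : Led Lsl_af v41991 = v42881 :=
  Lgr Lrot68 (Lpe (f931353 IH) (Lpr_at (f644301 IH) (Lpr_ct (f936645 IH) (Lpn v42881))))
theorem f541692 : Led Lsl_gt (LP (LK LD1_c18 LD2_c23 LD3_c25)) = (LP (LK LD1_c10 LD2_c4 LD3_c46)) :=
  Lre_g IH (LK LD1_c18 LD2_c23 LD3_c25) (LK LD1_c10 LD2_c4 LD3_c46) Lrfl Lrfl
theorem f936648 : Led Lsl_ft (LP (LK LD1_c18 LD2_c23 LD3_c25)) = v42881 :=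
  Lgr Lrot2 (Lpr_gt (f541692 IH) (Lpr_gt (f931352 IH) (Lpr_af (f936646 IH) (Lpn v42881))))
theorem f936644 : Led Lsl_cf (LP (LK LD1_c11 LD2_c40 LD3_c20)) = v42881 :=
  Lgr Lrot99 (Lpe (K55.f428133 IH) (Lpe (K66.f644291 IH) (Lpe (K45.f74386 IH) (Lpe (K45.f428925 IH) (Lpr_gf (K45.f636060 IH) (Lpq (K45.f643197 IH) (Lpr_df (K66.f686159 IH) (Lpr_gt (K66.f871493 IH) (Lpe (K66.f871501 IH) (Lpr_gt (f936643 IH) (Lpn v42881)))))))))))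
theorem f644307 : Led Lsl_ff (LP (LK LD1_c11 LD2_c40 LD3_c42)) = (LP (LK LD1_c11 LD2_c40 LD3_c20)) :=
  Lgr Lrot19 (Lpr_dt (K66.f426171 IH) (Lpr_ft (K56.f644303 IH) (Lpr_dt (K55.f428133 IH) (Lpn (LP (LK LD1_c11 LD2_c40 LD3_c20))))))
theorem f936649 : Led Lsl_cf (LP (LK LD1_c18 LD2_c23 LD3_c25)) = (LP (LK LD1_c11 LD2_c40 LD3_c42)) :=
  Lgr Lrot108 (Lpr_ft (f936648 IH) (Lpe (f936644 IH) (Lpe (f644307 IH) (Lpn (LP (LK LD1_c11 LD2_c40 LD3_c42))))))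
theorem f936650 : Led Lsl_ct (LP (LK LD1_c11 LD2_c40 LD3_c42)) = (LP (LK LD1_c18 LD2_c23 LD3_c25)) :=
  Leop (Lpr_cf (f936649 IH) (Lpn (LP (LK LD1_c11 LD2_c40 LD3_c42))))
theorem seed_2632 : LEOK LG_c (LK LD1_c11 LD2_c40 LD3_c42) :=
  Leoe_c (LK LD1_c11 LD2_c40 LD3_c42) (f936650 IH)
def v42233 : LQ := Led Lsl_gt (LP (LK LD1_c10 LD2_c7 LD3_c18))
theorem f932939 : Led Lsl_gt (LP (LK LD1_c10 LD2_c7 LD3_c18)) = v42233 :=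
  Lrfl
def v42884 : LQ := Led Lsl_dt (LP (LK LD1_c10 LD2_c18 LD3_c20))
theorem f936675 : Led Lsl_dt (LP (LK LD1_c10 LD2_c18 LD3_c20)) = v42884 :=
  Lrfl
theorem f710916 : Led Lsl_ef (LP (LK LD1_c11 LD2_c1 LD3_c60)) = (LP (LK LD1_c10 LD2_c18 LD3_c20)) :=
  Lgr Lrot88 (Lpr_et (K53.f710911 IH) (Lpn (LP (LK LD1_c10 LD2_c18 LD3_c20))))
def v28325 : LQ := Led Lsl_et K71.v8073
theorem f843902 : Led Lsl_et K71.v8073 = v28325 :=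
  Lrfl
theorem f698362 : Led Lsl_dt K71.v8073 = K71.v12815 :=
  Lgr Lrot42 (Lpr_df (K71.f698361 IH) (Lpn K71.v12815))
theorem f843906 : Led Lsl_gf (LP (LK LD1_c11 LD2_c1 LD3_c51)) = v28325 :=
  Lgr Lrot138 (Lpe (K67.f710836 IH) (Lpr_gt (K53.f553654 IH) (Lpe (K53.f553633 IH) (Lpr_et (K53.f55707 IH) (Lpe (K32.f55704 IH) (Lpr_ef (K53.f691629 IH) (Lpe (K71.f691628 IH) (Lpr_gt (K71.f698360 IH) (Lpe (f698362 IH) (Lpr_et (f843902 IH) (Lpn v28325)))))))))))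
theorem f633832 : Led Lsl_at (LP (LK LD1_c9 LD2_c50 LD3_c52)) = (LP (LK LD1_c5 LD2_c0 LD3_c11)) :=
  Lre_a IH (LK LD1_c9 LD2_c50 LD3_c52) (LK LD1_c5 LD2_c0 LD3_c11) Lrfl Lrfl
theorem f633875 : Led Lsl_ft (LP (LK LD1_c15 LD2_c5 LD3_c41)) = (LP (LK LD1_c9 LD2_c50 LD3_c52)) :=
  Lgr Lrot101 (Lpe (K56.f171842 IH) (Lpr_ff (K53.f633825 IH) (Lpe (f633832 IH) (Lpn (LP (LK LD1_c9 LD2_c50 LD3_c52))))))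
theorem f633903 : Led Lsl_gt (LP (LK LD1_c15 LD2_c5 LD3_c41)) = (LP (LK LD1_c9 LD2_c50 LD3_c56)) :=
  Lgr Lrot5 (Lpr_ft (f633875 IH) (Lpr_at (f633832 IH) (Lpe (K55.f415746 IH) (Lpn (LP (LK LD1_c9 LD2_c50 LD3_c56))))))
theorem f163569 : Led Lsl_dt (LP (LK LD1_c5 LD2_c52 LD3_c30)) = (LP (LK LD1_c11 LD2_c31 LD3_c29)) :=
  Lre_d IH (LK LD1_c5 LD2_c52 LD3_c30) (LK LD1_c11 LD2_c31 LD3_c29) Lrfl Lrfl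
theorem f746460 : Led Lsl_df (LP (LK LD1_c11 LD2_c31 LD3_c30)) = (LP (LK LD1_c9 LD2_c50 LD3_c56)) :=
  Lgr Lrot78 (Lpr_ft (K55.f640841 IH) (Lpr_dt (f163569 IH) (Lpe (K55.f746453 IH) (Lpn (LP (LK LD1_c9 LD2_c50 LD3_c56))))))
theorem f843907 : Led Lsl_dt (LP (LK LD1_c16 LD2_c51 LD3_c31)) = v28325 :=
  Lgr Lrot136 (Lpr_et (K70.f416318 IH) (Lpr_gf (K69.f756410 IH) (Lpe (K57.f756409 IH) (Lpe (K51.f413491 IH) (Lpr_gf (K55.f746076 IH) (Lpr_df (f746460 IH) (Lpe (f633903 IH) (Lpe (K53.f707143 IH) (Lpr_dt (K53.f710831 IH) (Lpr_gf (f843906 IH) (Lpn v28325)))))))))))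
theorem f843908 : Led Lsl_gt (LP (LK LD1_c11 LD2_c1 LD3_c60)) = v28325 :=
  Lgr Lrot139 (Lpr_df (K53.f710892 IH) (Lpe (K53.f707149 IH) (Lpe (K53.f553635 IH) (Lpr_dt (K17.f61480 IH) (Lpe (K16.f413640 IH) (Lpe (K51.f180334 IH) (Lpr_et (K57.f413666 IH) (Lpr_gf (K69.f416312 IH) (Lpe (K70.f416318 IH) (Lpr_dt (f843907 IH) (Lpn v28325)))))))))))
def v15489 : LQ := Led Lsl_et (LP (LK LD1_c5 LD2_c40 LD3_c44))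
theorem f737732 : Led Lsl_et (LP (LK LD1_c5 LD2_c40 LD3_c44)) = v15489 :=
  Lrfl
theorem f737735 : Led Lsl_ff K53.v4555 = v15489 :=
  Lgr Lrot72 (Lpe (K53.f636106 IH) (Lpe (K51.f633818 IH) (Lpe (K48.f171820 IH) (Lpr_ft (K53.f633797 IH) (Lpr_et (f737732 IH) (Lpn v15489))))))
theorem f737737 : Led Lsl_ft K53.v4555 = v15489 :=
  Lgr Lrot48 (Lpr_ff (f737735 IH) (Lpn v15489))
theorem f735956 : Led Lsl_ef (LP (LK LD1_c5 LD2_c37 LD3_c34)) = K71.v15371 :=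
  Lgr Lrot88 (Lpr_et (K71.f735955 IH) (Lpn K71.v15371))
theorem f737733 : Led Lsl_af K71.v15371 = v15489 :=
  Lgr Lrot50 (Lpe (f735956 IH) (Lpr_at (K51.f633782 IH) (Lpr_et (f737732 IH) (Lpn v15489))))
theorem f737738 : Led Lsl_gt K71.v12815 = K71.v15371 :=
  Lgr Lrot46 (Lpe (K71.f698360 IH) (Lpr_ft (f737737 IH) (Lpe (f737733 IH) (Lpn K71.v15371))))
def v24460 : LQ := Led Lsl_gt K54.v4751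
theorem f823717 : Led Lsl_gt K54.v4751 = v24460 :=
  Lrfl
theorem f823719 : Led Lsl_dt K71.v15371 = v24460 :=
  Lgr Lrot56 (Lpe (f735956 IH) (Lpr_gt (K51.f165094 IH) (Lpe (K17.f165069 IH) (Lpr_dt (K12.f164989 IH) (Lpe (K9.f171864 IH) (Lpe (K9.f165210 IH) (Lpr_et (K53.f172039 IH) (Lpr_gt (K54.f172040 IH) (Lpr_dt (K54.f638838 IH) (Lpr_gt (f823717 IH) (Lpn v24460)))))))))))
theorem f823720 : Led Lsl_df K71.v15371 = v24460 :=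
  Lgr Lrot38 (Lpr_dt (f823719 IH) (Lpn v24460))
theorem f823721 : Led Lsl_ef K70.v14371 = v24460 :=
  Lgr Lrot73 (Lpe (K70.f722232 IH) (Lpr_et (K70.f165099 IH) (Lpe (K51.f165095 IH) (Lpr_et (K71.f735955 IH) (Lpr_dt (f823719 IH) (Lpn v24460))))))
theorem f936683 : Led Lsl_gt (LP (LK LD1_c10 LD2_c19 LD3_c9)) = v42884 :=
  Lgr Lrot139 (Lpr_df (K72.f881565 IH) (Lpe (K72.f881561 IH) (Lpr_ef (f823721 IH) (Lpe (f823720 IH) (Lpe (f737738 IH) (Lpe (f698362 IH) (Lpr_et (f843902 IH) (Lpe (f843908 IH) (Lpr_ef (f710916 IH) (Lpr_dt (f936675 IH) (Lpn v42884)))))))))))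
theorem f633774 : Led Lsl_ft (LP (LK LD1_c10 LD2_c5 LD3_c18)) = (LP (LK LD1_c10 LD2_c18 LD3_c20)) :=
  Lgr Lrot75 (Lpe (K72.f194074 IH) (Lpr_ff (K55.f633772 IH) (Lpe (K53.f406588 IH) (Lpn (LP (LK LD1_c10 LD2_c18 LD3_c20))))))
theorem f194064 : Led Lsl_gt (LP (LK LD1_c5 LD2_c7 LD3_c28)) = (LP (LK LD1_c10 LD2_c5 LD3_c19)) :=
  Lre_g IH (LK LD1_c5 LD2_c7 LD3_c28) (LK LD1_c10 LD2_c5 LD3_c19) Lrfl Lrfl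
theorem f739400 : Led Lsl_at (LP (LK LD1_c10 LD2_c18 LD3_c20)) = (LP (LK LD1_c10 LD2_c5 LD3_c19)) :=
  Lgr Lrot26 (Lpe (f633774 IH) (Lpqs (K72.f739396 IH) (Lpe (K72.f722237 IH) (Lpr_gt (f194064 IH) (Lpn (LP (LK LD1_c10 LD2_c5 LD3_c19)))))))
theorem f739406 : Led Lsl_ff (LP (LK LD1_c10 LD2_c18 LD3_c23)) = (LP (LK LD1_c10 LD2_c5 LD3_c19)) :=
  Lgr Lrot30 (Lpr_at (K72.f710924 IH) (Lpr_ft (f633774 IH) (Lpr_at (f739400 IH) (Lpn (LP (LK LD1_c10 LD2_c5 LD3_c19))))))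
theorem f186679 : Led Lsl_df (LP (LK LD1_c10 LD2_c7 LD3_c0)) = (LP (LK LD1_c10 LD2_c18 LD3_c23)) :=
  Lgr Lrot38 (Lpr_dt (K51.f186670 IH) (Lpn (LP (LK LD1_c10 LD2_c18 LD3_c23))))
theorem f250204 : Led Lsl_dt (LP (LK LD1_c18 LD2_c24 LD3_c0)) = (LP (LK LD1_c10 LD2_c5 LD3_c19)) :=
  Lre_d IH (LK LD1_c18 LD2_c24 LD3_c0) (LK LD1_c10 LD2_c5 LD3_c19) Lrfl Lrfl
theorem f739410 : Led Lsl_ft (LP (LK LD1_c10 LD2_c7 LD3_c0)) = (LP (LK LD1_c18 LD2_c24 LD3_c0)) :=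
  Lgr Lrot54 (Lpr_df (f186679 IH) (Lpr_ff (f739406 IH) (Lpe (f250204 IH) (Lpn (LP (LK LD1_c18 LD2_c24 LD3_c0))))))
theorem f936684 : Led Lsl_at (LP (LK LD1_c18 LD2_c24 LD3_c0)) = v42884 :=
  Lgr Lrot26 (Lpe (f739410 IH) (Lpr_gt (K67.f881563 IH) (Lpr_gt (f936683 IH) (Lpn v42884))))
theorem f622461 : Led Lsl_gt (LP (LK LD1_c10 LD2_c7 LD3_c11)) = (LP (LK LD1_c5 LD2_c8 LD3_c22)) :=
  Lre_g IH (LK LD1_c10 LD2_c7 LD3_c11) (LK LD1_c5 LD2_c8 LD3_c22) Lrfl Lrfl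
theorem f622462 : Led Lsl_et (LP (LK LD1_c18 LD2_c24 LD3_c0)) = (LP (LK LD1_c10 LD2_c7 LD3_c11)) :=
  Lgr Lrot121 (Lpr_dt (f250204 IH) (Lpe (f194064 IH) (Lpe (K18.f194050 IH) (Lpr_et (K18.f194049 IH) (Lpe (K14.f250187 IH) (Lpe (K50.f250201 IH) (Lpe (K50.f622440 IH) (Lpe (K50.f452503 IH) (Lpr_df (K50.f622451 IH) (Lpe (f622461 IH) (Lpn (LP (LK LD1_c10 LD2_c7 LD3_c11)))))))))))))
theorem f622464 : Led Lsl_ef (LP (LK LD1_c18 LD2_c24 LD3_c0)) = (LP (LK LD1_c10 LD2_c7 LD3_c11)) :=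
  Lgr Lrot88 (Lpr_et (f622462 IH) (Lpn (LP (LK LD1_c10 LD2_c7 LD3_c11))))
theorem f739412 : Led Lsl_ft (LP (LK LD1_c10 LD2_c18 LD3_c23)) = (LP (LK LD1_c10 LD2_c5 LD3_c19)) :=
  Lgr Lrot48 (Lpr_ff (f739406 IH) (Lpn (LP (LK LD1_c10 LD2_c5 LD3_c19))))
theorem f194065 : Led Lsl_dt (LP (LK LD1_c10 LD2_c5 LD3_c19)) = (LP (LK LD1_c18 LD2_c24 LD3_c0)) :=
  Lre_d IH (LK LD1_c10 LD2_c5 LD3_c19) (LK LD1_c18 LD2_c24 LD3_c0) Lrfl Lrfl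
theorem f739414 : Led Lsl_ff (LP (LK LD1_c10 LD2_c7 LD3_c0)) = (LP (LK LD1_c18 LD2_c24 LD3_c0)) :=
  Lgr Lrot19 (Lpr_dt (K51.f186670 IH) (Lpr_ft (f739412 IH) (Lpr_dt (f194065 IH) (Lpn (LP (LK LD1_c18 LD2_c24 LD3_c0))))))
theorem f739416 : Led Lsl_ft (LP (LK LD1_c10 LD2_c18 LD3_c53)) = (LP (LK LD1_c10 LD2_c7 LD3_c11)) :=
  Lgr Lrot86 (Lpe (K53.f723973 IH) (Lpqs (K54.f739359 IH) (Lpe (K54.f722321 IH) (Lpe (K51.f177208 IH) (Lpr_ff (f739414 IH) (Lpr_ef (f622464 IH) (Lpn (LP (LK LD1_c10 LD2_c7 LD3_c11)))))))))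
theorem f622459 : Led Lsl_ft (LP (LK LD1_c10 LD2_c7 LD3_c12)) = (LP (LK LD1_c5 LD2_c8 LD3_c22)) :=
  Lre_f IH (LK LD1_c10 LD2_c7 LD3_c12) (LK LD1_c5 LD2_c8 LD3_c22) Lrfl Lrfl
theorem f623752 : Led Lsl_af (LP (LK LD1_c10 LD2_c7 LD3_c12)) = (LP (LK LD1_c10 LD2_c19 LD3_c1)) :=
  Lgr Lrot45 (Lpr_ft (f622459 IH) (Lpr_at (K53.f623735 IH) (Lpr_ft (K69.f623729 IH) (Lpn (LP (LK LD1_c10 LD2_c19 LD3_c1))))))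
theorem f723992 : Led Lsl_gt (LP (LK LD1_c10 LD2_c18 LD3_c53)) = (LP (LK LD1_c10 LD2_c7 LD3_c12)) :=
  Lgr Lrot46 (Lpr_gf (K53.f723990 IH) (Lpr_ft (K69.f623729 IH) (Lpe (f623752 IH) (Lpn (LP (LK LD1_c10 LD2_c7 LD3_c12))))))
def v14614 : LQ := Led Lsl_gf (LP (LK LD1_c5 LD2_c14 LD3_c48))
theorem f724014 : Led Lsl_gf (LP (LK LD1_c5 LD2_c14 LD3_c48)) = v14614 :=
  Lrfl
theorem f724015 : Led Lsl_gt (LP (LK LD1_c10 LD2_c7 LD3_c12)) = v14614 :=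
  Lgr Lrot5 (Lpr_ft (f622459 IH) (Lpr_at (K53.f623735 IH) (Lpr_gf (f724014 IH) (Lpn v14614))))
theorem f739420 : Led Lsl_af v14614 = (LP (LK LD1_c10 LD2_c7 LD3_c11)) :=
  Lgr Lrot31 (Lpe (f724015 IH) (Lpe (f723992 IH) (Lpr_ft (f739416 IH) (Lpn (LP (LK LD1_c10 LD2_c7 LD3_c11))))))
theorem f739421 : Led Lsl_at v14614 = (LP (LK LD1_c10 LD2_c7 LD3_c11)) :=
  Lgr Lrot100 (Lpr_af (f739420 IH) (Lpn (LP (LK LD1_c10 LD2_c7 LD3_c11))))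
theorem f936685 : Led Lsl_ef v14614 = v42884 :=
  Lgr Lrot20 (Lpr_at (f739421 IH) (Lpe (f622464 IH) (Lpr_at (f936684 IH) (Lpn v42884))))
theorem f623748 : Led Lsl_af (LP (LK LD1_c5 LD2_c8 LD3_c22)) = (LP (LK LD1_c5 LD2_c14 LD3_c48)) :=
  Lgr Lrot0 (Lpr_at (K53.f623735 IH) (Lpn (LP (LK LD1_c5 LD2_c14 LD3_c48))))
theorem f623725 : Led Lsl_ft (LP (LK LD1_c10 LD2_c19 LD3_c1)) = (LP (LK LD1_c5 LD2_c14 LD3_c48)) :=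
  Lre_f IH (LK LD1_c10 LD2_c19 LD3_c1) (LK LD1_c5 LD2_c14 LD3_c48) Lrfl Lrfl
theorem f623770 : Led Lsl_gf (LP (LK LD1_c10 LD2_c7 LD3_c11)) = (LP (LK LD1_c10 LD2_c19 LD3_c1)) :=
  Lgr Lrot47 (Lpr_gt (f622461 IH) (Lpr_af (f623748 IH) (Lpe (f623725 IH) (Lpn (LP (LK LD1_c10 LD2_c19 LD3_c1))))))
theorem f623754 : Led Lsl_at (LP (LK LD1_c10 LD2_c7 LD3_c12)) = (LP (LK LD1_c10 LD2_c19 LD3_c1)) :=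
  Lgr Lrot100 (Lpr_af (f623752 IH) (Lpn (LP (LK LD1_c10 LD2_c19 LD3_c1))))
theorem f722334 : Led Lsl_gf (LP (LK LD1_c10 LD2_c19 LD3_c1)) = K55.v14396 :=
  Lgr Lrot76 (Lpe (f623754 IH) (Lpe (K53.f622460 IH) (Lpr_gt (K55.f722333 IH) (Lpn K55.v14396))))
theorem f739422 : Led Lsl_ff v14614 = K55.v14396 :=
  Lgr Lrot52 (Lpr_at (f739421 IH) (Lpr_gf (f623770 IH) (Lpr_gf (f722334 IH) (Lpn K55.v14396))))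
theorem f739424 : Led Lsl_ft v14614 = K55.v14396 :=
  Lgr Lrot48 (Lpr_ff (f739422 IH) (Lpn K55.v14396))
theorem f936687 : Led Lsl_ft (LP (LK LD1_c10 LD2_c18 LD3_c51)) = v42884 :=
  Lgr Lrot86 (Lpe (K67.f722240 IH) (Lpqs (K54.f739371 IH) (Lpe (K52.f691792 IH) (Lpq (K51.f707151 IH) (Lpr_ef (K55.f722332 IH) (Lpe (f739424 IH) (Lpr_ef (f936685 IH) (Lpn v42884))))))))
theorem f739402 : Led Lsl_af (LP (LK LD1_c10 LD2_c18 LD3_c20)) = (LP (LK LD1_c10 LD2_c5 LD3_c19)) :=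
  Lgr Lrot0 (Lpr_at (f739400 IH) (Lpn (LP (LK LD1_c10 LD2_c5 LD3_c19))))
theorem f936676 : Led Lsl_af (LP (LK LD1_c18 LD2_c24 LD3_c0)) = v42884 :=
  Lgr Lrot117 (Lpr_dt (f250204 IH) (Lpe (f739402 IH) (Lpr_dt (f936675 IH) (Lpn v42884))))
theorem f936688 : v42233 = (LP (LK LD1_c18 LD2_c24 LD3_c0)) :=
  (Llr Lrot46 (Lpe (f932939 IH) (Lpe (K67.f881158 IH) (Lpr_ft (f936687 IH) (Lpe (f936676 IH) (Lpn (LP (LK LD1_c18 LD2_c24 LD3_c0)))))))).symm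
theorem f936689 : Led Lsl_gt (LP (LK LD1_c10 LD2_c7 LD3_c18)) = (LP (LK LD1_c18 LD2_c24 LD3_c0)) :=
  Leop (Lpq (f936688 IH) (Lpe (f932939 IH) (Lpn (LP (LK LD1_c10 LD2_c7 LD3_c18)))))
theorem seed_2633 : LEOK LG_g (LK LD1_c10 LD2_c7 LD3_c18) :=
  Leoe_g (LK LD1_c10 LD2_c7 LD3_c18) (f936689 IH)
def v42889 : LQ := Led Lsl_ct (LP (LK LD1_c10 LD2_c18 LD3_c28))
theorem f936724 : Led Lsl_ct (LP (LK LD1_c10 LD2_c18 LD3_c28)) = v42889 :=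
  Lrfl
theorem f723914 : Led Lsl_cf (LP (LK LD1_c5 LD2_c14 LD3_c26)) = K56.v14586 :=
  Lgr Lrot11 (Lpr_ct (K56.f723913 IH) (Lpn K56.v14586))
theorem f936727 : Led Lsl_ff K56.v14586 = v42889 :=
  Lgr Lrot23 (Lpe (f723914 IH) (Lpr_ft (K53.f616068 IH) (Lpr_ct (f936724 IH) (Lpn v42889))))
def v15424 : LQ := Led Lsl_ct (LP (LK LD1_c5 LD2_c38 LD3_c48))
theorem f736217 : Led Lsl_ct (LP (LK LD1_c5 LD2_c38 LD3_c48)) = v15424 :=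
  Lrfl
theorem f210503 : Led Lsl_et (LP (LK LD1_c2 LD2_c45 LD3_c19)) = (LP (LK LD1_c5 LD2_c38 LD3_c48)) :=
  Lre_e IH (LK LD1_c2 LD2_c45 LD3_c19) (LK LD1_c5 LD2_c38 LD3_c48) Lrfl Lrfl
def v4620 : LQ := Led Lsl_dt (LP (LK LD1_c2 LD2_c39 LD3_c23))
theorem f638186 : Led Lsl_dt (LP (LK LD1_c2 LD2_c39 LD3_c23)) = v4620 :=
  Lrfl
def v4578 : LQ := Led Lsl_ct (LP (LK LD1_c2 LD2_c31 LD3_c1))
theorem f636222 : Led Lsl_ct (LP (LK LD1_c2 LD2_c31 LD3_c1)) = v4578 :=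
  Lrfl
theorem f636224 : Led Lsl_cf (LP (LK LD1_c2 LD2_c31 LD3_c1)) = v4578 :=
  Lgr Lrot11 (Lpr_ct (f636222 IH) (Lpn v4578))
theorem f636227 : Led Lsl_dt (LP (LK LD1_c2 LD2_c32 LD3_c17)) = v4578 :=
  Lgr Lrot113 (Lpr_gf (K14.f210485 IH) (Lpe (K9.f182540 IH) (Lpr_gf (K9.f182541 IH) (Lpr_ct (K9.f55392 IH) (Lpr_gt (K9.f169090 IH) (Lpr_dt (K9.f169089 IH) (Lpe (K35.f194057 IH) (Lpr_dt (K9.f22222 IH) (Lpr_ct (f636222 IH) (Lpn v4578))))))))))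
theorem f638188 : Led Lsl_cf (LP (LK LD1_c2 LD2_c45 LD3_c19)) = v4620 :=
  Lgr Lrot55 (Lpe (K53.f210483 IH) (Lpr_ct (K11.f204856 IH) (Lpe (K11.f204868 IH) (Lpr_ct (K11.f204874 IH) (Lpr_dt (K11.f22015 IH) (Lpr_ct (K11.f169066 IH) (Lpr_dt (f636227 IH) (Lpe (f636224 IH) (Lpr_dt (K10.f172045 IH) (Lpe (K43.f183219 IH) (Lpr_dt (K11.f183214 IH) (Lpr_ct (K14.f178244 IH) (Lpr_dt (K11.f178266 IH) (Lpe (K15.f183031 IH) (Lpr_dt (f638186 IH) (Lpn v4620))))))))))))))))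
theorem f736220 : Led Lsl_ef v4620 = v15424 :=
  Lgr Lrot28 (Lpe (f638188 IH) (Lpr_et (f210503 IH) (Lpr_ct (f736217 IH) (Lpn v15424))))
theorem f183029 : Led Lsl_ct (LP (LK LD1_c2 LD2_c39 LD3_c23)) = (LP (LK LD1_c1 LD2_c18 LD3_c35)) :=
  Lgr Lrot8 (Lpr_gt (K15.f166132 IH) (Lpr_dt (K15.f182555 IH) (Lpr_gt (K9.f183024 IH) (Lpr_dt (K2.f55394 IH) (Lpe (K1.f55389 IH) (Lpe (K1.f47912 IH) (Lpr_gf (K9.f168996 IH) (Lpe (K9.f168977 IH) (Lpe (K11.f178301 IH) (Lpn (LP (LK LD1_c1 LD2_c18 LD3_c35))))))))))))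
theorem f291636 : Led Lsl_ft (LP (LK LD1_c2 LD2_c29 LD3_c11)) = (LP (LK LD1_c2 LD2_c39 LD3_c23)) :=
  Lgr Lrot4 (Lpe (K10.f21296 IH) (Lpr_ff (K19.f291632 IH) (Lpe (f183029 IH) (Lpn (LP (LK LD1_c2 LD2_c39 LD3_c23))))))
theorem f291638 : Led Lsl_af (LP (LK LD1_c2 LD2_c58 LD3_c53)) = (LP (LK LD1_c2 LD2_c39 LD3_c23)) :=
  Lgr Lrot45 (Lpr_ft (K17.f291601 IH) (Lpe (K17.f291605 IH) (Lpr_ft (f291636 IH) (Lpn (LP (LK LD1_c2 LD2_c39 LD3_c23))))))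
theorem f291640 : Led Lsl_at (LP (LK LD1_c2 LD2_c58 LD3_c53)) = (LP (LK LD1_c2 LD2_c39 LD3_c23)) :=
  Lgr Lrot100 (Lpr_af (f291638 IH) (Lpn (LP (LK LD1_c2 LD2_c39 LD3_c23))))
theorem f638187 : Led Lsl_af K56.v4596 = v4620 :=
  Lgr Lrot117 (Lpe (K56.f636318 IH) (Lpr_at (f291640 IH) (Lpr_dt (f638186 IH) (Lpn v4620))))
theorem f736221 : Led Lsl_at K56.v14586 = v15424 :=
  Lgr Lrot80 (Lpe (K56.f723917 IH) (Lpr_af (f638187 IH) (Lpr_ef (f736220 IH) (Lpn v15424))))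
def v41947 : LQ := Led Lsl_ct (LP (LK LD1_c10 LD2_c4 LD3_c5))
theorem f930362 : Led Lsl_ct (LP (LK LD1_c10 LD2_c4 LD3_c5)) = v41947 :=
  Lrfl
theorem f421767 : Led Lsl_ct (LP (LK LD1_c11 LD2_c59 LD3_c13)) = (LP (LK LD1_c6 LD2_c9 LD3_c0)) :=
  Lre_c IH (LK LD1_c11 LD2_c59 LD3_c13) (LK LD1_c6 LD2_c9 LD3_c0) Lrfl Lrfl
theorem f930364 : Led Lsl_ff (LP (LK LD1_c11 LD2_c59 LD3_c13)) = v41947 :=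
  Lgr Lrot23 (Lpr_ct (f421767 IH) (Lpe (f639438 IH) (Lpr_ct (f930362 IH) (Lpn v41947))))
theorem f904521 : Led Lsl_ef (LP (LK LD1_c9 LD2_c15 LD3_c43)) = v38790 :=
  Lgr Lrot88 (Lpr_et (f904518 IH) (Lpn v38790))
theorem f904523 : Led Lsl_at (LP (LK LD1_c11 LD2_c59 LD3_c13)) = v38790 :=
  Lgr Lrot80 (Lpe (K56.f639455 IH) (Lpe (K56.f639452 IH) (Lpr_ef (f904521 IH) (Lpn v38790))))
def v35921 : LQ := Led Lsl_gf (LP (LK LD1_c8 LD2_c12 LD3_c52))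
theorem f881137 : Led Lsl_gf (LP (LK LD1_c8 LD2_c12 LD3_c52)) = v35921 :=
  Lrfl
def v15969 : LQ := Led Lsl_ct (LP (LK LD1_c5 LD2_c50 LD3_c39))
theorem f744465 : Led Lsl_ct (LP (LK LD1_c5 LD2_c50 LD3_c39)) = v15969 :=
  Lrfl
theorem f744467 : Led Lsl_gf (LP (LK LD1_c9 LD2_c15 LD3_c43)) = v15969 :=
  Lgr Lrot104 (Lpr_ct (K56.f421004 IH) (Lpe (K16.f58580 IH) (Lpe (K29.f445910 IH) (Lpr_gf (K29.f438348 IH) (Lpe (K32.f76611 IH) (Lpr_gf (K16.f79881 IH) (Lpe (K55.f59441 IH) (Lpr_gt (K32.f59438 IH) (Lpr_ct (f744465 IH) (Lpn v15969))))))))))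
theorem f881140 : Led Lsl_dt (LP (LK LD1_c9 LD2_c15 LD3_c43)) = v35921 :=
  Lgr Lrot57 (Lpr_gf (f744467 IH) (Lpe (f744465 IH) (Lpe (K32.f503471 IH) (Lpr_dt (K48.f57644 IH) (Lpr_gt (K32.f57643 IH) (Lpe (K2.f73196 IH) (Lpe (K2.f55706 IH) (Lpe (K2.f55654 IH) (Lpr_gf (f881137 IH) (Lpn v35921))))))))))
theorem f55804 : Led Lsl_et (LP (LK LD1_c4 LD2_c6 LD3_c3)) = (LP (LK LD1_c2 LD2_c0 LD3_c18)) :=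
  Lre_e IH (LK LD1_c4 LD2_c6 LD3_c3) (LK LD1_c2 LD2_c0 LD3_c18) Lrfl Lrfl
theorem f183081 : Led Lsl_gf (LP (LK LD1_c2 LD2_c39 LD3_c23)) = (LP (LK LD1_c1 LD2_c16 LD3_c33)) :=
  Lgr Lrot147 (Lpr_ct (f183029 IH) (Lpr_gt (K11.f178301 IH) (Lpr_ct (K10.f169001 IH) (Lpr_df (K9.f177468 IH) (Lpe (K9.f177448 IH) (Lpe (K9.f169090 IH) (Lpe (K9.f55392 IH) (Lpr_gf (K9.f183074 IH) (Lpe (K11.f182489 IH) (Lpn (LP (LK LD1_c1 LD2_c16 LD3_c33))))))))))))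
theorem f638189 : Led Lsl_df (LP (LK LD1_c2 LD2_c39 LD3_c23)) = v4620 :=
  Lgr Lrot38 (Lpr_dt (f638186 IH) (Lpn v4620))
theorem f736222 : Led Lsl_et v4620 = v15424 :=
  Lgr Lrot87 (Lpr_ef (f736220 IH) (Lpn v15424))
theorem f904522 : Led Lsl_gt v15424 = v38790 :=
  Lgr Lrot131 (Lpe (f736222 IH) (Lpe (f638189 IH) (Lpr_gf (f183081 IH) (Lpe (K9.f182507 IH) (Lpe (K9.f183063 IH) (Lpe (f55804 IH) (Lpr_dt (K2.f55397 IH) (Lpr_gf (f881137 IH) (Lpe (f881140 IH) (Lpr_et (f904518 IH) (Lpn v38790)))))))))))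
theorem f930366 : Led Lsl_gf v15424 = v41947 :=
  Lgr Lrot47 (Lpr_gt (f904522 IH) (Lpe (f904523 IH) (Lpr_ff (f930364 IH) (Lpn v41947))))
theorem f936730 : Led Lsl_gf v41947 = v42889 :=
  Lgr Lrot47 (Lpe (f930366 IH) (Lpe (f736221 IH) (Lpr_ff (f936727 IH) (Lpn v42889))))
theorem f930363 : Led Lsl_cf (LP (LK LD1_c10 LD2_c4 LD3_c5)) = v41947 :=
  Lgr Lrot11 (Lpr_ct (f930362 IH) (Lpn v41947))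
theorem f936105 : Led Lsl_af v41947 = v42818 :=
  Lgr Lrot68 (Lpe (f930363 IH) (Lpr_at (f639440 IH) (Lpr_ct (f936104 IH) (Lpn v42818))))
theorem f936109 : Led Lsl_ft v38790 = v42818 :=
  Lgr Lrot48 (Lpr_ff (f936107 IH) (Lpn v42818))
theorem f936731 : Led Lsl_gt v38790 = v42889 :=
  Lgr Lrot5 (Lpr_ft (f936109 IH) (Lpe (f936105 IH) (Lpr_gf (f936730 IH) (Lpn v42889))))
theorem f904524 : Led Lsl_ct (LP (LK LD1_c9 LD2_c15 LD3_c44)) = v38790 :=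
  Lgr Lrot15 (Lpe (K64.f193910 IH) (Lpe (K56.f421004 IH) (Lpr_ef (f904521 IH) (Lpn v38790))))
theorem f176952 : Led Lsl_bt (LP (LK LD1_c10 LD2_c4 LD3_c2)) = (LP (LK LD1_c5 LD2_c6 LD3_c41)) :=
  Lre_b IH (LK LD1_c10 LD2_c4 LD3_c2) (LK LD1_c5 LD2_c6 LD3_c41) Lrfl Lrfl
theorem f920778 : Led Lsl_ff (LP (LK LD1_c9 LD2_c48 LD3_c2)) = K71.v40859 :=
  Lgr Lrot3 (Lpr_ft (K71.f920773 IH) (Lpn K71.v40859))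
theorem f387263 : Led Lsl_ct (LP (LK LD1_c9 LD2_c48 LD3_c2)) = (LP (LK LD1_c17 LD2_c58 LD3_c14)) :=
  Lre_c IH (LK LD1_c9 LD2_c48 LD3_c2) (LK LD1_c17 LD2_c58 LD3_c14) Lrfl Lrfl
theorem f920783 : Led Lsl_ct (LP (LK LD1_c10 LD2_c4 LD3_c2)) = K71.v40859 :=
  Lgr Lrot40 (Lpe (K53.f699254 IH) (Lpe (f387263 IH) (Lpr_ff (f920778 IH) (Lpn K71.v40859))))
theorem f387268 : Led Lsl_ft (LP (LK LD1_c5 LD2_c7 LD3_c6)) = (LP (LK LD1_c10 LD2_c4 LD3_c52)) :=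
  Lre_f IH (LK LD1_c5 LD2_c7 LD3_c6) (LK LD1_c10 LD2_c4 LD3_c52) Lrfl Lrfl
theorem f920781 : Led Lsl_at (LP (LK LD1_c10 LD2_c4 LD3_c52)) = K71.v40859 :=
  Lgr Lrot66 (Lpe (f387268 IH) (Lpe (K53.f387264 IH) (Lpr_ff (f920778 IH) (Lpn K71.v40859))))
theorem f920786 : Led Lsl_gt (LP (LK LD1_c10 LD2_c4 LD3_c50)) = K71.v40859 :=
  Lgr Lrot46 (Lpe (f165684 IH) (Lpr_ft (f387268 IH) (Lpr_at (f920781 IH) (Lpn K71.v40859))))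
def v41995 : LQ := Led Lsl_ct (LP (LK LD1_c10 LD2_c4 LD3_c50))
theorem f931377 : Led Lsl_ct (LP (LK LD1_c10 LD2_c4 LD3_c50)) = v41995 :=
  Lrfl
theorem f931378 : Led Lsl_cf (LP (LK LD1_c10 LD2_c4 LD3_c50)) = v41995 :=
  Lgr Lrot11 (Lpr_ct (f931377 IH) (Lpn v41995))
theorem f931478 : (LP (LK LD1_c10 LD2_c4 LD3_c51)) = v41995 :=
  Lefun (Lecon (Lfl_cf (f931387 IH)) (f931477 IH)) (f931377 IH)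
theorem f931376 : Led Lsl_bt (LP (LK LD1_c10 LD2_c4 LD3_c51)) = (LP (LK LD1_c18 LD2_c23 LD3_c33)) :=
  Lre_b IH (LK LD1_c10 LD2_c4 LD3_c51) (LK LD1_c18 LD2_c23 LD3_c33) Lrfl Lrfl
theorem f616087 : Led Lsl_bt (LP (LK LD1_c10 LD2_c18 LD3_c28)) = (LP (LK LD1_c18 LD2_c43 LD3_c26)) :=
  Lre_b IH (LK LD1_c10 LD2_c18 LD3_c28) (LK LD1_c18 LD2_c43 LD3_c26) Lrfl Lrfl
theorem f936735 : Led Lsl_gf (LP (LK LD1_c18 LD2_c23 LD3_c33)) = (LP (LK LD1_c18 LD2_c43 LD3_c26)) :=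
  Lgr Lrot124 (Lpe (f931376 IH) (Lpqs (f931478 IH) (Lpe (f931378 IH) (Lpr_gt (f920786 IH) (Lpe (f920783 IH) (Lpr_bt (f176952 IH) (Lpr_gt (K64.f198671 IH) (Lpr_ct (f904524 IH) (Lpr_gt (f936731 IH) (Lpe (f936724 IH) (Lpr_bt (f616087 IH) (Lpn (LP (LK LD1_c18 LD2_c43 LD3_c26))))))))))))))
theorem f936736 : Led Lsl_gt (LP (LK LD1_c18 LD2_c43 LD3_c26)) = (LP (LK LD1_c18 LD2_c23 LD3_c33)) :=
  Leop (Lpr_gf (f936735 IH) (Lpn (LP (LK LD1_c18 LD2_c43 LD3_c26))))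
theorem seed_2634 : LEOK LG_g (LK LD1_c18 LD2_c43 LD3_c26) :=
  Leoe_g (LK LD1_c18 LD2_c43 LD3_c26) (f936736 IH)
def v42917 : LQ := Led Lsl_dt (LP (LK LD1_c10 LD2_c18 LD3_c45))
theorem f936847 : Led Lsl_dt (LP (LK LD1_c10 LD2_c18 LD3_c45)) = v42917 :=
  Lrfl
theorem f924575 : Led Lsl_ef (LP (LK LD1_c15 LD2_c26 LD3_c12)) = (LP (LK LD1_c10 LD2_c18 LD3_c45)) :=
  Lgr Lrot88 (Lpr_et (K72.f924132 IH) (Lpn (LP (LK LD1_c10 LD2_c18 LD3_c45))))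
theorem f699248 : Led Lsl_ef (LP (LK LD1_c5 LD2_c14 LD3_c16)) = (LP (LK LD1_c5 LD2_c58 LD3_c2)) :=
  Lgr Lrot21 (Lpe (K53.f387290 IH) (Lpr_et (K55.f165736 IH) (Lpr_ft (K53.f699242 IH) (Lpr_et (K36.f427792 IH) (Lpr_ft (K55.f539693 IH) (Lpn (LP (LK LD1_c5 LD2_c58 LD3_c2))))))))
theorem f539713 : Led Lsl_gf (LP (LK LD1_c6 LD2_c7 LD3_c56)) = (LP (LK LD1_c5 LD2_c14 LD3_c16)) :=
  Lgr Lrot47 (Lpr_gt (f539709 IH) (Lpr_af (K72.f387275 IH) (Lpr_ff (K53.f387290 IH) (Lpn (LP (LK LD1_c5 LD2_c14 LD3_c16))))))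
def v16859 : LQ := Led Lsl_dt (LP (LK LD1_c6 LD2_c7 LD3_c56))
theorem f752062 : Led Lsl_dt (LP (LK LD1_c6 LD2_c7 LD3_c56)) = v16859 :=
  Lrfl
theorem f936854 : Led Lsl_gt v16859 = v42917 :=
  Lgr Lrot139 (Lpe (f752062 IH) (Lpr_gf (f539713 IH) (Lpr_ef (f699248 IH) (Lpr_dt (K55.f387299 IH) (Lpr_gf (K36.f428111 IH) (Lpe (K28.f426195 IH) (Lpr_et (K56.f426230 IH) (Lpe (K72.f924591 IH) (Lpr_ef (f924575 IH) (Lpr_dt (f936847 IH) (Lpn v42917)))))))))))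
theorem f581871 : Led Lsl_et (LP (LK LD1_c6 LD2_c7 LD3_c56)) = (LP (LK LD1_c11 LD2_c57 LD3_c61)) :=
  Lre_e IH (LK LD1_c6 LD2_c7 LD3_c56) (LK LD1_c11 LD2_c57 LD3_c61) Lrfl Lrfl
theorem f596969 : Led Lsl_gt (LP (LK LD1_c21 LD2_c3 LD3_c2)) = (LP (LK LD1_c11 LD2_c57 LD3_c61)) :=
  Lre_g IH (LK LD1_c21 LD2_c3 LD3_c2) (LK LD1_c11 LD2_c57 LD3_c61) Lrfl Lrfl
theorem f545444 : Led Lsl_dt (LP (LK LD1_c20 LD2_c49 LD3_c37)) = (LP (LK LD1_c11 LD2_c47 LD3_c30)) :=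
  Lre_d IH (LK LD1_c20 LD2_c49 LD3_c37) (LK LD1_c11 LD2_c47 LD3_c30) Lrfl Lrfl
theorem f936856 : Led Lsl_ef (LP (LK LD1_c21 LD2_c3 LD3_c2)) = (LP (LK LD1_c20 LD2_c49 LD3_c37)) :=
  Lgr Lrot114 (Lpr_gt (f596969 IH) (Lpe (f581871 IH) (Lpr_dt (f752062 IH) (Lpr_gt (f936854 IH) (Lpe (f936847 IH) (Lpe (f924575 IH) (Lpr_gt (K72.f924591 IH) (Lpe (K70.f545434 IH) (Lpr_gt (K70.f539114 IH) (Lpe (f545444 IH) (Lpn (LP (LK LD1_c20 LD2_c49 LD3_c37)))))))))))))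
theorem f936857 : Led Lsl_et (LP (LK LD1_c20 LD2_c49 LD3_c37)) = (LP (LK LD1_c21 LD2_c3 LD3_c2)) :=
  Leop (Lpr_ef (f936856 IH) (Lpn (LP (LK LD1_c20 LD2_c49 LD3_c37))))
theorem seed_2635 : LEOK LG_e (LK LD1_c20 LD2_c49 LD3_c37) :=
  Leoe_e (LK LD1_c20 LD2_c49 LD3_c37) (f936857 IH)
def v42918 : LQ := Led Lsl_gf (LP (LK LD1_c10 LD2_c18 LD3_c46))
theorem f936863 : Led Lsl_gf (LP (LK LD1_c10 LD2_c18 LD3_c46)) = v42918 :=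
  Lrfl
theorem f428358 : Led Lsl_et (LP (LK LD1_c4 LD2_c58 LD3_c31)) = (LP (LK LD1_c9 LD2_c47 LD3_c39)) :=
  Lre_e IH (LK LD1_c4 LD2_c58 LD3_c31) (LK LD1_c9 LD2_c47 LD3_c39) Lrfl Lrfl
theorem f180690 : Led Lsl_et (LP (LK LD1_c10 LD2_c18 LD3_c46)) = (LP (LK LD1_c5 LD2_c14 LD3_c37)) :=
  Lre_e IH (LK LD1_c10 LD2_c18 LD3_c46) (LK LD1_c5 LD2_c14 LD3_c37) Lrfl Lrfl
theorem f539796 : Led Lsl_dt (LP (LK LD1_c9 LD2_c47 LD3_c39)) = (LP (LK LD1_c10 LD2_c18 LD3_c46)) :=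
  Lgr Lrot77 (Lpe (f428358 IH) (Lpr_df (K36.f539790 IH) (Lpr_ef (K36.f205124 IH) (Lpr_df (K28.f180671 IH) (Lpe (f180690 IH) (Lpn (LP (LK LD1_c10 LD2_c18 LD3_c46))))))))
def v16441 : LQ := Led Lsl_et (LP (LK LD1_c6 LD2_c0 LD3_c53))
theorem f749445 : Led Lsl_et (LP (LK LD1_c6 LD2_c0 LD3_c53)) = v16441 :=
  Lrfl
theorem f749447 : Led Lsl_ef (LP (LK LD1_c6 LD2_c0 LD3_c53)) = v16441 :=
  Lgr Lrot88 (Lpr_et (f749445 IH) (Lpn v16441))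
theorem f936866 : Led Lsl_dt v16441 = v42918 :=
  Lgr Lrot136 (Lpe (f749447 IH) (Lpe (K52.f706075 IH) (Lpe (K50.f58884 IH) (Lpr_dt (K35.f424532 IH) (Lpe (K55.f424541 IH) (Lpe (K4.f74365 IH) (Lpe (K32.f74542 IH) (Lpe (K64.f424546 IH) (Lpr_dt (f539796 IH) (Lpr_gf (f936863 IH) (Lpn v42918)))))))))))
def v5049 : LQ := Led Lsl_et (LP (LK LD1_c2 LD2_c56 LD3_c42))
theorem f641486 : Led Lsl_et (LP (LK LD1_c2 LD2_c56 LD3_c42)) = v5049 :=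
  Lrfl
theorem f749448 : Led Lsl_ct v5049 = v16441 :=
  Lgr Lrot15 (Lpe (f641486 IH) (Lpe (K41.f414691 IH) (Lpr_ef (f749447 IH) (Lpn v16441))))
def v24880 : LQ := Led Lsl_gf v5049
theorem f826095 : Led Lsl_gf v5049 = v24880 :=
  Lrfl
def v24881 : LQ := Led Lsl_dt v5049
theorem f826096 : Led Lsl_dt v5049 = v24881 :=
  Lrfl
theorem f641488 : Led Lsl_ef (LP (LK LD1_c2 LD2_c56 LD3_c42)) = v5049 :=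
  Lgr Lrot88 (Lpr_et (f641486 IH) (Lpn v5049))
theorem f74956 : Led Lsl_et (LP (LK LD1_c5 LD2_c58 LD3_c6)) = (LP (LK LD1_c2 LD2_c55 LD3_c26)) :=
  Lre_e IH (LK LD1_c5 LD2_c58 LD3_c6) (LK LD1_c2 LD2_c55 LD3_c26) Lrfl Lrfl
theorem f74963 : Led Lsl_dt (LP (LK LD1_c5 LD2_c58 LD3_c6)) = (LP (LK LD1_c11 LD2_c40 LD3_c54)) :=
  Lre_d IH (LK LD1_c5 LD2_c58 LD3_c6) (LK LD1_c11 LD2_c40 LD3_c54) Lrfl Lrfl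
theorem f826099 : Led Lsl_gf (LP (LK LD1_c11 LD2_c40 LD3_c54)) = v24881 :=
  Lgr Lrot145 (Lpe (f74963 IH) (Lpr_et (f74956 IH) (Lpe (K4.f74957 IH) (Lpr_dt (K28.f74526 IH) (Lpr_gt (K2.f69352 IH) (Lpe (K4.f72644 IH) (Lpr_et (K41.f74961 IH) (Lpr_gt (K41.f74962 IH) (Lpr_ef (f641488 IH) (Lpr_dt (f826096 IH) (Lpn v24881)))))))))))
theorem f76221 : Led Lsl_ct (LP (LK LD1_c5 LD2_c58 LD3_c6)) = (LP (LK LD1_c2 LD2_c55 LD3_c27)) :=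
  Lre_c IH (LK LD1_c5 LD2_c58 LD3_c6) (LK LD1_c2 LD2_c55 LD3_c27) Lrfl Lrfl
def v16466 : LQ := Led Lsl_ct (LP (LK LD1_c6 LD2_c1 LD3_c13))
theorem f749633 : Led Lsl_ct (LP (LK LD1_c6 LD2_c1 LD3_c13)) = v16466 :=
  Lrfl
theorem f826100 : v16466 = v24880 :=
  (Llr Lrot8 (Lpe (f749633 IH) (Lpr_gt (K55.f641367 IH) (Lpr_dt (K5.f75886 IH) (Lpr_gt (K5.f75931 IH) (Lpr_dt (K70.f75951 IH) (Lpe (f76221 IH) (Lpe (K2.f74867 IH) (Lpr_gf (f826099 IH) (Lpe (f826096 IH) (Lpr_gf (f826095 IH) (Lpn v24880)))))))))))).symm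
theorem f387179 : Led Lsl_ft (LP (LK LD1_c18 LD2_c43 LD3_c17)) = (LP (LK LD1_c10 LD2_c18 LD3_c15)) :=
  Lre_f IH (LK LD1_c18 LD2_c43 LD3_c17) (LK LD1_c10 LD2_c18 LD3_c15) Lrfl Lrfl
theorem f752115 : Led Lsl_at (LP (LK LD1_c11 LD2_c58 LD3_c13)) = (LP (LK LD1_c18 LD2_c43 LD3_c17)) :=
  Lgr Lrot66 (Lpr_ff (K67.f752113 IH) (Lpr_af (K56.f387193 IH) (Lpe (f387179 IH) (Lpn (LP (LK LD1_c18 LD2_c43 LD3_c17))))))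
theorem f881088 : Led Lsl_gf (LP (LK LD1_c18 LD2_c43 LD3_c17)) = (LP (LK LD1_c11 LD2_c58 LD3_c15)) :=
  Lgr Lrot76 (Lpe (f752115 IH) (Lpr_ff (K67.f752113 IH) (Lpr_gt (K67.f881086 IH) (Lpn (LP (LK LD1_c11 LD2_c58 LD3_c15))))))
theorem f936871 : Led Lsl_ct (LP (LK LD1_c18 LD2_c43 LD3_c17)) = v42918 :=
  Lgr Lrot151 (Lpr_gf (f881088 IH) (Lpe (K67.f74871 IH) (Lpr_gf (K53.f76174 IH) (Lpe (K56.f720273 IH) (Lpr_gt (K56.f720242 IH) (Lpr_ct (f749633 IH) (Lpqs (f826100 IH) (Lpe (f826095 IH) (Lpr_ct (f749448 IH) (Lpr_dt (f936866 IH) (Lpn v42918)))))))))))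
theorem f936872 : Led Lsl_cf (LP (LK LD1_c18 LD2_c43 LD3_c17)) = v42918 :=
  Lgr Lrot11 (Lpr_ct (f936871 IH) (Lpn v42918))
theorem f545044 : Led Lsl_gt (LP (LK LD1_c18 LD2_c25 LD3_c15)) = (LP (LK LD1_c10 LD2_c6 LD3_c13)) :=
  Lre_g IH (LK LD1_c18 LD2_c25 LD3_c15) (LK LD1_c10 LD2_c6 LD3_c13) Lrfl Lrfl
theorem f936876 : Led Lsl_bf (LP (LK LD1_c18 LD2_c25 LD3_c15)) = v42918 :=
  Lgr Lrot165 (Lpr_gt (f545044 IH) (Lpr_ct (K52.f545103 IH) (Lpr_gt (K52.f713686 IH) (Lpe (K52.f645399 IH) (Lpr_bt (K52.f58582 IH) (Lpr_gt (K46.f58581 IH) (Lpe (K67.f76171 IH) (Lpr_ct (K67.f74871 IH) (Lpe (f881088 IH) (Lpr_cf (f936872 IH) (Lpn v42918)))))))))))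
theorem f936873 : Led Lsl_at (LP (LK LD1_c10 LD2_c18 LD3_c49)) = v42918 :=
  Lgr Lrot107 (Lpr_cf (K67.f876821 IH) (Lpr_af (K67.f752105 IH) (Lpr_cf (f936872 IH) (Lpn v42918))))
theorem f876801 : Led Lsl_bf (LP (LK LD1_c8 LD2_c0 LD3_c47)) = K67.v35677 :=
  Lgr Lrot96 (Lpr_et (K67.f112571 IH) (Lpr_bt (K56.f415608 IH) (Lpr_et (K67.f876799 IH) (Lpn K67.v35677))))
theorem f876813 : Led Lsl_bf (LP (LK LD1_c10 LD2_c18 LD3_c49)) = K67.v35679 :=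
  Lgr Lrot93 (Lpr_dt (K72.f876808 IH) (Lpe (f876801 IH) (Lpr_dt (K67.f876811 IH) (Lpn K67.v35679))))
theorem f936877 : Led Lsl_at (LP (LK LD1_c18 LD2_c25 LD3_c15)) = (LP (LK LD1_c15 LD2_c27 LD3_c5)) :=
  Lgr Lrot67 (Lpr_bf (f936876 IH) (Lpe (f936873 IH) (Lpr_bf (f876813 IH) (Lpe (K67.f876817 IH) (Lpe (K67.f73538 IH) (Lpn (LP (LK LD1_c15 LD2_c27 LD3_c5))))))))
theorem f936878 : Led Lsl_at (LP (LK LD1_c18 LD2_c25 LD3_c15)) = (LP (LK LD1_c15 LD2_c27 LD3_c5)) :=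
  Leop (Lpe (f936877 IH) (Lpn (LP (LK LD1_c18 LD2_c25 LD3_c15))))
theorem seed_2636 : LEOK LG_a (LK LD1_c18 LD2_c25 LD3_c15) :=
  Leoe_a (LK LD1_c18 LD2_c25 LD3_c15) (f936878 IH)
def v42919 : LQ := Led Lsl_ft (LP (LK LD1_c10 LD2_c18 LD3_c46))
theorem f936885 : Led Lsl_ft (LP (LK LD1_c10 LD2_c18 LD3_c46)) = v42919 :=
  Lrfl
theorem f936891 : Led Lsl_ff (LP (LK LD1_c10 LD2_c18 LD3_c46)) = v42919 :=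
  Lgr Lrot3 (Lpr_ft (f936885 IH) (Lpn v42919))
theorem f386945 : Led Lsl_at (LP (LK LD1_c10 LD2_c18 LD3_c46)) = (LP (LK LD1_c5 LD2_c14 LD3_c39)) :=
  Lre_a IH (LK LD1_c10 LD2_c18 LD3_c46) (LK LD1_c5 LD2_c14 LD3_c39) Lrfl Lrfl
theorem f936897 : Led Lsl_gf (LP (LK LD1_c10 LD2_c18 LD3_c49)) = v42919 :=
  Lgr Lrot47 (Lpr_gt (K67.f180685 IH) (Lpe (f386945 IH) (Lpr_ff (f936891 IH) (Lpn v42919))))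
theorem f752117 : Led Lsl_bt (LP (LK LD1_c11 LD2_c58 LD3_c13)) = (LP (LK LD1_c21 LD2_c3 LD3_c12)) :=
  Lre_b IH (LK LD1_c11 LD2_c58 LD3_c13) (LK LD1_c21 LD2_c3 LD3_c12) Lrfl Lrfl
theorem f180687 : Led Lsl_et (LP (LK LD1_c5 LD2_c14 LD3_c37)) = (LP (LK LD1_c10 LD2_c18 LD3_c46)) :=
  Lre_e IH (LK LD1_c5 LD2_c14 LD3_c37) (LK LD1_c10 LD2_c18 LD3_c46) Lrfl Lrfl
theorem f924573 : Led Lsl_cf (LP (LK LD1_c15 LD2_c26 LD3_c12)) = (LP (LK LD1_c10 LD2_c18 LD3_c46)) :=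
  Lgr Lrot39 (Lpr_et (K72.f924132 IH) (Lpr_ct (K28.f180689 IH) (Lpr_et (f180687 IH) (Lpn (LP (LK LD1_c10 LD2_c18 LD3_c46))))))
theorem f936894 : Led Lsl_ct K72.v16879 = v42919 :=
  Lgr Lrot40 (Lpe (K72.f903869 IH) (Lpr_cf (f924573 IH) (Lpr_ff (f936891 IH) (Lpn v42919))))
theorem f932595 : Led Lsl_bt (LP (LK LD1_c10 LD2_c6 LD3_c44)) = (LP (LK LD1_c18 LD2_c25 LD3_c50)) :=
  Lre_b IH (LK LD1_c10 LD2_c6 LD3_c44) (LK LD1_c18 LD2_c25 LD3_c50) Lrfl Lrfl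
theorem f936899 : Led Lsl_gt (LP (LK LD1_c21 LD2_c3 LD3_c12)) = (LP (LK LD1_c18 LD2_c25 LD3_c50)) :=
  Lgr Lrot164 (Lpe (f752117 IH) (Lpe (K67.f876821 IH) (Lpr_gf (f936897 IH) (Lpe (f936894 IH) (Lpqs (K72.f924580 IH) (Lpe (K70.f539658 IH) (Lpe (f618614 IH) (Lpe (f618615 IH) (Lpr_gf (f932607 IH) (Lpe (f932605 IH) (Lpr_bt (f932595 IH) (Lpn (LP (LK LD1_c18 LD2_c25 LD3_c50))))))))))))))
theorem f936900 : Led Lsl_gt (LP (LK LD1_c21 LD2_c3 LD3_c12)) = (LP (LK LD1_c18 LD2_c25 LD3_c50)) :=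
  Leop (Lpe (f936899 IH) (Lpn (LP (LK LD1_c21 LD2_c3 LD3_c12))))
theorem seed_2637 : LEOK LG_g (LK LD1_c21 LD2_c3 LD3_c12) :=
  Leoe_g (LK LD1_c21 LD2_c3 LD3_c12) (f936900 IH)
theorem f749382 : Led Lsl_ff (LP (LK LD1_c6 LD2_c0 LD3_c56)) = K56.v16440 :=
  Lgr Lrot3 (Lpr_ft (K56.f749381 IH) (Lpn K56.v16440))
theorem f876346 : Led Lsl_bf K56.v16440 = K67.v35658 :=
  Lgr Lrot61 (Lpe (f749382 IH) (Lpr_bt (K9.f140187 IH) (Lpr_ft (K67.f876345 IH) (Lpn K67.v35658))))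
theorem f876363 : K56.v16440 = (LP (LK LD1_c8 LD2_c0 LD3_c44)) :=
  Lefun (Lecon (Lfl_bf (f876346 IH)) (K67.f876360 IH).symm) (K56.f415608 IH)
theorem f876800 : Led Lsl_af v16441 = K67.v35677 :=
  Lgr Lrot50 (Lpe (f749447 IH) (Lpr_at (K56.f749377 IH) (Lpqs (f876363 IH) (Lpr_et (K67.f876799 IH) (Lpn K67.v35677)))))
theorem f936867 : Led Lsl_af (LP (LK LD1_c10 LD2_c18 LD3_c49)) = v42918 :=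
  Lgr Lrot117 (Lpr_dt (K72.f876808 IH) (Lpe (f876800 IH) (Lpr_dt (f936866 IH) (Lpn v42918))))
theorem f936875 : Led Lsl_ft K72.v16864 = v42918 :=
  Lgr Lrot4 (Lpe (K72.f752089 IH) (Lpe (f387179 IH) (Lpr_cf (f936872 IH) (Lpn v42918))))
theorem f936898 : Led Lsl_gt K72.v16864 = v42919 :=
  Lgr Lrot5 (Lpr_ft (f936875 IH) (Lpe (f936867 IH) (Lpr_gf (f936897 IH) (Lpn v42919))))
theorem f752297 : Led Lsl_bf (LP (LK LD1_c6 LD2_c8 LD3_c17)) = K72.v16879 :=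
  Lgr Lrot24 (Lpr_bt (K72.f752296 IH) (Lpn K72.v16879))
def v4621 : LQ := Led Lsl_et (LP (LK LD1_c2 LD2_c39 LD3_c25))
def v24211 : LQ := Led Lsl_ft v4621
theorem f822964 : Led Lsl_ft v4621 = v24211 :=
  Lrfl
theorem f822967 : Led Lsl_ff v4621 = v24211 :=
  Lgr Lrot3 (Lpr_ft (f822964 IH) (Lpn v24211))
theorem f638196 : Led Lsl_et (LP (LK LD1_c2 LD2_c39 LD3_c25)) = v4621 :=
  Lrfl
theorem f638197 : Led Lsl_cf (LP (LK LD1_c4 LD2_c5 LD3_c42)) = v4621 :=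
  Lgr Lrot39 (Lpr_et (K50.f175321 IH) (Lpe (K9.f183033 IH) (Lpr_et (f638196 IH) (Lpn v4621))))
theorem f822968 : Led Lsl_ct K49.v12331 = v24211 :=
  Lgr Lrot40 (Lpe (K49.f691519 IH) (Lpr_cf (f638197 IH) (Lpr_ff (f822967 IH) (Lpn v24211))))
theorem f646049 : Led Lsl_at v4621 = K72.v5121 :=
  Lgr Lrot80 (Lpe (f638196 IH) (Lpr_af (K15.f268190 IH) (Lpr_ef (K72.f646048 IH) (Lpn K72.v5121))))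
theorem f826305 : Led Lsl_gt v24211 = K72.v24948 :=
  Lgr Lrot5 (Lpe (f822967 IH) (Lpr_at (f646049 IH) (Lpr_gf (K72.f826304 IH) (Lpn K72.v24948))))
theorem f881522 : Led Lsl_bt (LP (LK LD1_c8 LD2_c14 LD3_c56)) = (LP (LK LD1_c15 LD2_c30 LD3_c45)) :=
  Lre_b IH (LK LD1_c8 LD2_c14 LD3_c56) (LK LD1_c15 LD2_c30 LD3_c45) Lrfl Lrfl
theorem f936903 : Led Lsl_gf (LP (LK LD1_c15 LD2_c26 LD3_c42)) = (LP (LK LD1_c15 LD2_c30 LD3_c45)) :=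
  Lgr Lrot124 (Lpe (K56.f545713 IH) (Lpr_ct (K72.f752089 IH) (Lpr_gt (f936898 IH) (Lpe (f936894 IH) (Lpe (f752297 IH) (Lpr_gt (K49.f691539 IH) (Lpr_ct (f822968 IH) (Lpr_gt (f826305 IH) (Lpqs (K72.f924821 IH) (Lpe (K72.f881539 IH) (Lpr_bt (f881522 IH) (Lpn (LP (LK LD1_c15 LD2_c30 LD3_c45))))))))))))))
theorem f936904 : Led Lsl_gt (LP (LK LD1_c15 LD2_c30 LD3_c45)) = (LP (LK LD1_c15 LD2_c26 LD3_c42)) :=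
  Leop (Lpr_gf (f936903 IH) (Lpn (LP (LK LD1_c15 LD2_c30 LD3_c45))))
theorem seed_2638 : LEOK LG_g (LK LD1_c15 LD2_c30 LD3_c45) :=
  Leoe_g (LK LD1_c15 LD2_c30 LD3_c45) (f936904 IH)
theorem f545554 : Led Lsl_af (LP (LK LD1_c11 LD2_c40 LD3_c26)) = (LP (LK LD1_c6 LD2_c8 LD3_c1)) :=
  Lgr Lrot0 (Lpr_at (K38.f545550 IH) (Lpn (LP (LK LD1_c6 LD2_c8 LD3_c1))))
theorem f621423 : Led Lsl_ft (LP (LK LD1_c11 LD2_c58 LD3_c6)) = (LP (LK LD1_c6 LD2_c8 LD3_c1)) :=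
  Lre_f IH (LK LD1_c11 LD2_c58 LD3_c6) (LK LD1_c6 LD2_c8 LD3_c1) Lrfl Lrfl
theorem f924593 : Led Lsl_gf (LP (LK LD1_c15 LD2_c26 LD3_c12)) = (LP (LK LD1_c11 LD2_c58 LD3_c6)) :=
  Lgr Lrot47 (Lpr_gt (K72.f924591 IH) (Lpr_af (f545554 IH) (Lpe (f621423 IH) (Lpn (LP (LK LD1_c11 LD2_c58 LD3_c6))))))
theorem f748576 : Led Lsl_ct (LP (LK LD1_c6 LD2_c8 LD3_c8)) = (LP (LK LD1_c11 LD2_c58 LD3_c6)) :=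
  Lgr Lrot59 (Lpr_cf (K71.f748574 IH) (Lpn (LP (LK LD1_c11 LD2_c58 LD3_c6))))
theorem f74785 : Led Lsl_af (LP (LK LD1_c1 LD2_c26 LD3_c9)) = (LP (LK LD1_c2 LD2_c55 LD3_c27)) :=
  Lgr Lrot50 (Lpr_et (K65.f74783 IH) (Lpr_at (K2.f74553 IH) (Lpr_et (K2.f74784 IH) (Lpn (LP (LK LD1_c2 LD2_c55 LD3_c27))))))
theorem f75005 : Led Lsl_ft (LP (LK LD1_c5 LD2_c58 LD3_c10)) = (LP (LK LD1_c2 LD2_c55 LD3_c27)) :=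
  Lre_f IH (LK LD1_c5 LD2_c58 LD3_c10) (LK LD1_c2 LD2_c55 LD3_c27) Lrfl Lrfl
theorem f76247 : Led Lsl_gf (LP (LK LD1_c3 LD2_c0 LD3_c41)) = (LP (LK LD1_c5 LD2_c58 LD3_c10)) :=
  Lgr Lrot47 (Lpr_gt (K52.f58504 IH) (Lpr_af (f74785 IH) (Lpe (f75005 IH) (Lpn (LP (LK LD1_c5 LD2_c58 LD3_c10))))))
theorem f386949 : Led Lsl_at (LP (LK LD1_c5 LD2_c14 LD3_c39)) = (LP (LK LD1_c10 LD2_c18 LD3_c46)) :=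
  Lre_a IH (LK LD1_c5 LD2_c14 LD3_c39) (LK LD1_c10 LD2_c18 LD3_c46) Lrfl Lrfl
theorem f615406 : Led Lsl_dt (LP (LK LD1_c10 LD2_c18 LD3_c46)) = (LP (LK LD1_c9 LD2_c47 LD3_c39)) :=
  Lgr Lrot44 (Lpe (f386949 IH) (Lpr_df (K41.f615399 IH) (Lpr_af (f499702 IH) (Lpn (LP (LK LD1_c9 LD2_c47 LD3_c39))))))
theorem f924726 : Led Lsl_ct (LP (LK LD1_c15 LD2_c26 LD3_c12)) = (LP (LK LD1_c10 LD2_c18 LD3_c46)) :=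
  Lgr Lrot110 (Lpr_gf (f924593 IH) (Lpe (f748576 IH) (Lpe (K53.f75980 IH) (Lpe (K53.f74920 IH) (Lpe (f76247 IH) (Lpr_ct (K56.f76251 IH) (Lpr_gt (K56.f752478 IH) (Lpr_ct (K64.f426052 IH) (Lpe (f615406 IH) (Lpn (LP (LK LD1_c10 LD2_c18 LD3_c46))))))))))))
theorem f936888 : Led Lsl_cf K72.v16879 = v42919 :=
  Lgr Lrot108 (Lpe (K72.f903866 IH) (Lpr_ct (f924726 IH) (Lpr_ft (f936885 IH) (Lpn v42919))))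
theorem f386943 : Led Lsl_bf (LP (LK LD1_c10 LD2_c18 LD3_c46)) = (LP (LK LD1_c10 LD2_c6 LD3_c54)) :=
  Lgr Lrot96 (Lpr_et (f180690 IH) (Lpr_bt (K36.f386939 IH) (Lpr_et (f177304 IH) (Lpn (LP (LK LD1_c10 LD2_c6 LD3_c54))))))
theorem f936887 : Led Lsl_bf (LP (LK LD1_c18 LD2_c26 LD3_c2)) = v42919 :=
  Lgr Lrot61 (Lpr_ft (K36.f288149 IH) (Lpe (f386943 IH) (Lpr_ft (f936885 IH) (Lpn v42919))))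
theorem f288153 : Led Lsl_gt (LP (LK LD1_c18 LD2_c26 LD3_c2)) = (LP (LK LD1_c10 LD2_c6 LD3_c59)) :=
  Lre_g IH (LK LD1_c18 LD2_c26 LD3_c2) (LK LD1_c10 LD2_c6 LD3_c59) Lrfl Lrfl
def v42184 : LQ := Led Lsl_ct (LP (LK LD1_c10 LD2_c6 LD3_c59))
theorem f932747 : Led Lsl_ct (LP (LK LD1_c10 LD2_c6 LD3_c59)) = v42184 :=
  Lrfl
theorem f288139 : Led Lsl_at (LP (LK LD1_c10 LD2_c6 LD3_c60)) = (LP (LK LD1_c18 LD2_c26 LD3_c2)) :=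
  Lre_a IH (LK LD1_c10 LD2_c6 LD3_c60) (LK LD1_c18 LD2_c26 LD3_c2) Lrfl Lrfl
theorem f615442 : Led Lsl_dt (LP (LK LD1_c18 LD2_c26 LD3_c2)) = (LP (LK LD1_c20 LD2_c25 LD3_c56)) :=
  Lgr Lrot44 (Lpe (f288139 IH) (Lpr_df (K53.f615440 IH) (Lpe (K64.f210011 IH) (Lpn (LP (LK LD1_c20 LD2_c25 LD3_c56))))))
def v16177 : LQ := Led Lsl_ct (LP (LK LD1_c5 LD2_c54 LD3_c30))
theorem f746854 : Led Lsl_ct (LP (LK LD1_c5 LD2_c54 LD3_c30)) = v16177 :=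
  Lrfl
theorem f746856 : Led Lsl_cf (LP (LK LD1_c5 LD2_c54 LD3_c30)) = v16177 :=
  Lgr Lrot11 (Lpr_ct (f746854 IH) (Lpn v16177))
theorem f932749 : Led Lsl_gf v16177 = v42184 :=
  Lgr Lrot104 (Lpe (f746856 IH) (Lpe (K8.f104760 IH) (Lpe (K69.f138412 IH) (Lpr_gf (K69.f746844 IH) (Lpe (K69.f746845 IH) (Lpe (K64.f210013 IH) (Lpe (f615442 IH) (Lpr_gt (f288153 IH) (Lpr_ct (f932747 IH) (Lpn v42184))))))))))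
theorem f138415 : Led Lsl_bf (LP (LK LD1_c11 LD2_c25 LD3_c35)) = (LP (LK LD1_c5 LD2_c54 LD3_c30)) :=
  Lgr Lrot93 (Lpr_dt (K5.f132366 IH) (Lpr_bt (K8.f138409 IH) (Lpr_dt (K8.f104760 IH) (Lpn (LP (LK LD1_c5 LD2_c54 LD3_c30))))))
theorem f138595 : Led Lsl_gt (LP (LK LD1_c11 LD2_c25 LD3_c35)) = (LP (LK LD1_c20 LD2_c23 LD3_c0)) :=
  Lre_g IH (LK LD1_c11 LD2_c25 LD3_c35) (LK LD1_c20 LD2_c23 LD3_c0) Lrfl Lrfl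
theorem f936906 : Led Lsl_bt (LP (LK LD1_c11 LD2_c40 LD3_c60)) = (LP (LK LD1_c20 LD2_c23 LD3_c0)) :=
  Lgr Lrot92 (Lpr_ct (K56.f748568 IH) (Lpr_gt (K70.f539658 IH) (Lpq (K72.f924580 IH) (Lpr_cf (f936888 IH) (Lpe (f936887 IH) (Lpr_gt (f288153 IH) (Lpr_ct (f932747 IH) (Lpe (f932749 IH) (Lpe (f746854 IH) (Lpe (f138415 IH) (Lpr_gt (f138595 IH) (Lpn (LP (LK LD1_c20 LD2_c23 LD3_c0))))))))))))))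
theorem f936907 : Led Lsl_bt (LP (LK LD1_c11 LD2_c40 LD3_c60)) = (LP (LK LD1_c20 LD2_c23 LD3_c0)) :=
  Leop (Lpe (f936906 IH) (Lpn (LP (LK LD1_c11 LD2_c40 LD3_c60))))
theorem seed_2639 : LEOK LG_b (LK LD1_c11 LD2_c40 LD3_c60) :=
  Leoe_b (LK LD1_c11 LD2_c40 LD3_c60) (f936907 IH)
def v42920 : LQ := Led Lsl_gf (LP (LK LD1_c10 LD2_c18 LD3_c51))
theorem f936926 : Led Lsl_gf (LP (LK LD1_c10 LD2_c18 LD3_c51)) = v42920 :=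
  Lrfl
def v34487 : LQ := Led Lsl_bt K53.v11816
theorem f871210 : Led Lsl_bt K53.v11816 = v34487 :=
  Lrfl
theorem f871213 : Led Lsl_ef (LP (LK LD1_c10 LD2_c5 LD3_c18)) = v34487 :=
  Lgr Lrot29 (Lpr_bt (K72.f194078 IH) (Lpr_et (K67.f686003 IH) (Lpr_bt (f871210 IH) (Lpn v34487))))
theorem f871219 : Led Lsl_et (LP (LK LD1_c10 LD2_c5 LD3_c18)) = v34487 :=
  Lgr Lrot87 (Lpr_ef (f871213 IH) (Lpn v34487))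
theorem f633801 : Led Lsl_ff (LP (LK LD1_c11 LD2_c6 LD3_c43)) = (LP (LK LD1_c10 LD2_c18 LD3_c21)) :=
  Lgr Lrot19 (Lpr_dt (K48.f165093 IH) (Lpr_ft (K53.f633797 IH) (Lpe (K51.f225476 IH) (Lpn (LP (LK LD1_c10 LD2_c18 LD3_c21))))))
theorem f686004 : Led Lsl_ft (LP (LK LD1_c5 LD2_c51 LD3_c53)) = K53.v11816 :=
  Lgr Lrot86 (Lpr_ef (K48.f627873 IH) (Lpr_ff (f633801 IH) (Lpe (K51.f225478 IH) (Lpe (K55.f633776 IH) (Lpr_ef (K53.f686001 IH) (Lpn K53.v11816))))))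
def v16031 : LQ := Led Lsl_bt (LP (LK LD1_c5 LD2_c51 LD3_c53))
theorem f744908 : Led Lsl_bt (LP (LK LD1_c5 LD2_c51 LD3_c53)) = v16031 :=
  Lrfl
theorem f744909 : Led Lsl_bf (LP (LK LD1_c5 LD2_c51 LD3_c53)) = v16031 :=
  Lgr Lrot24 (Lpr_bt (f744908 IH) (Lpn v16031))
theorem f871214 : Led Lsl_ff v16031 = v34487 :=
  Lgr Lrot25 (Lpe (f744909 IH) (Lpr_ft (f686004 IH) (Lpr_bt (f871210 IH) (Lpn v34487))))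
theorem f629285 : Led Lsl_df (LP (LK LD1_c5 LD2_c51 LD3_c53)) = K48.v4072 :=
  Lgr Lrot70 (Lpr_et (K54.f627875 IH) (Lpr_dt (K48.f165093 IH) (Lpr_et (K51.f171828 IH) (Lpr_dt (K48.f40474 IH) (Lpr_et (K48.f629283 IH) (Lpn K48.v4072))))))
def v12307 : LQ := Led Lsl_et (LP (LK LD1_c3 LD2_c59 LD3_c56))
theorem f689287 : Led Lsl_et (LP (LK LD1_c3 LD2_c59 LD3_c56)) = v12307 :=
  Lrfl
theorem f689288 : Led Lsl_bf K48.v4072 = v12307 :=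
  Lgr Lrot96 (Lpe (K48.f629286 IH) (Lpr_bt (K54.f444596 IH) (Lpr_et (f689287 IH) (Lpn v12307))))
theorem f744910 : Led Lsl_df v12307 = v16031 :=
  Lgr Lrot12 (Lpe (f689288 IH) (Lpe (f629285 IH) (Lpr_bt (f744908 IH) (Lpn v16031))))
def v28594 : LQ := Led Lsl_bt K53.v8268
theorem f845141 : Led Lsl_bt K53.v8268 = v28594 :=
  Lrfl
theorem f670577 : Led Lsl_ef (LP (LK LD1_c5 LD2_c0 LD3_c16)) = K53.v8268 :=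
  Lgr Lrot88 (Lpr_et (K53.f670575 IH) (Lpn K53.v8268))
theorem f670579 : Led Lsl_ft K48.v4072 = K53.v8268 :=
  Lgr Lrot86 (Lpe (K48.f629283 IH) (Lpq (K48.f633567 IH) (Lpe (K48.f495302 IH) (Lpe (K32.f73210 IH) (Lpe (K35.f73218 IH) (Lpr_ef (f670577 IH) (Lpn K53.v8268)))))))
theorem f845144 : Led Lsl_ff v12307 = v28594 :=
  Lgr Lrot25 (Lpe (f689288 IH) (Lpr_ft (f670579 IH) (Lpr_bt (f845141 IH) (Lpn v28594))))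
theorem f845146 : Led Lsl_ft v12307 = v28594 :=
  Lgr Lrot48 (Lpr_ff (f845144 IH) (Lpn v28594))
theorem f871215 : Led Lsl_dt v28594 = v34487 :=
  Lgr Lrot60 (Lpe (f845146 IH) (Lpr_df (f744910 IH) (Lpr_ff (f871214 IH) (Lpn v34487))))
theorem f689289 : Led Lsl_ef (LP (LK LD1_c3 LD2_c59 LD3_c56)) = v12307 :=
  Lgr Lrot88 (Lpr_et (f689287 IH) (Lpn v12307))
theorem f633887 : Led Lsl_et (LP (LK LD1_c2 LD2_c27 LD3_c50)) = (LP (LK LD1_c5 LD2_c0 LD3_c12)) :=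
  Lre_e IH (LK LD1_c2 LD2_c27 LD3_c50) (LK LD1_c5 LD2_c0 LD3_c12) Lrfl Lrfl
theorem f845145 : Led Lsl_et (LP (LK LD1_c9 LD2_c50 LD3_c58)) = v28594 :=
  Lgr Lrot69 (Lpe (K54.f633888 IH) (Lpe (f633887 IH) (Lpe (K53.f633878 IH) (Lpr_ef (f689289 IH) (Lpr_ff (f845144 IH) (Lpn v28594))))))
theorem f643240 : Led Lsl_dt (LP (LK LD1_c6 LD2_c46 LD3_c34)) = (LP (LK LD1_c5 LD2_c40 LD3_c16)) :=
  Lgr Lrot42 (Lpr_df (K64.f643238 IH) (Lpn (LP (LK LD1_c5 LD2_c40 LD3_c16))))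
def v19783 : LQ := Led Lsl_et (LP (LK LD1_c6 LD2_c46 LD3_c34))
theorem f782133 : Led Lsl_et (LP (LK LD1_c6 LD2_c46 LD3_c34)) = v19783 :=
  Lrfl
theorem f845147 : Led Lsl_gt v19783 = v28594 :=
  Lgr Lrot131 (Lpe (f782133 IH) (Lpr_dt (f643240 IH) (Lpe (K53.f720612 IH) (Lpr_df (K50.f615359 IH) (Lpe (K50.f499961 IH) (Lpe (K41.f496442 IH) (Lpe (K55.f615383 IH) (Lpe (K54.f288205 IH) (Lpqs (K54.f739371 IH) (Lpe (K54.f691791 IH) (Lpr_et (f845145 IH) (Lpn v28594))))))))))))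
theorem f504809 : Led Lsl_gf (LP (LK LD1_c6 LD2_c21 LD3_c41)) = (LP (LK LD1_c3 LD2_c8 LD3_c43)) :=
  Lgr Lrot76 (Lpr_af (K55.f504381 IH) (Lpe (K55.f504377 IH) (Lpr_gt (K35.f504807 IH) (Lpn (LP (LK LD1_c3 LD2_c8 LD3_c43))))))
theorem f615676 : Led Lsl_et (LP (LK LD1_c4 LD2_c34 LD3_c44)) = (LP (LK LD1_c3 LD2_c8 LD3_c43)) :=
  Lgr Lrot87 (Lpr_ef (K55.f615672 IH) (Lpn (LP (LK LD1_c3 LD2_c8 LD3_c43))))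
theorem f871217 : Led Lsl_gf K55.v12929 = v34487 :=
  Lgr Lrot134 (Lpe (K55.f699658 IH) (Lpr_et (f615676 IH) (Lpe (f504809 IH) (Lpr_ef (K41.f615361 IH) (Lpe (K50.f615359 IH) (Lpr_gt (K53.f720612 IH) (Lpe (f643240 IH) (Lpr_et (f782133 IH) (Lpr_gt (f845147 IH) (Lpr_dt (f871215 IH) (Lpn v34487)))))))))))
theorem f751909 : Led Lsl_ef (LP (LK LD1_c6 LD2_c7 LD3_c24)) = K72.v16832 :=
  Lgr Lrot88 (Lpr_et (K72.f751908 IH) (Lpn K72.v16832))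
theorem f936931 : Led Lsl_dt K72.v16832 = v42920 :=
  Lgr Lrot136 (Lpe (f751909 IH) (Lpr_gf (K55.f691763 IH) (Lpe (K55.f691762 IH) (Lpe (K55.f622497 IH) (Lpe (K55.f163610 IH) (Lpr_df (K55.f699659 IH) (Lpr_gf (f871217 IH) (Lpe (f871219 IH) (Lpqs (K72.f739396 IH) (Lpe (K72.f722239 IH) (Lpr_gf (f936926 IH) (Lpn v42920))))))))))))
theorem f936934 : Led Lsl_ef (LP (LK LD1_c18 LD2_c26 LD3_c0)) = v42920 :=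
  Lgr Lrot73 (Lpe (K72.f744843 IH) (Lpe (K55.f185994 IH) (Lpr_dt (K55.f176592 IH) (Lpr_et (K72.f751908 IH) (Lpr_dt (f936931 IH) (Lpn v42920))))))
theorem f925130 : Led Lsl_af (LP (LK LD1_c10 LD2_c19 LD3_c7)) = (LP (LK LD1_c10 LD2_c7 LD3_c16)) :=
  Lgr Lrot0 (Lpr_at (K72.f925118 IH) (Lpn (LP (LK LD1_c10 LD2_c7 LD3_c16))))
theorem f925152 : Led Lsl_ff (LP (LK LD1_c10 LD2_c7 LD3_c16)) = (LP (LK LD1_c18 LD2_c26 LD3_c0)) :=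
  Lgr Lrot30 (Lpe (f925130 IH) (Lpe (K72.f925142 IH) (Lpr_at (K72.f925148 IH) (Lpn (LP (LK LD1_c18 LD2_c26 LD3_c0))))))
theorem f936937 : Led Lsl_ft (LP (LK LD1_c10 LD2_c19 LD3_c9)) = v42920 :=
  Lgr Lrot86 (Lpe (K72.f724104 IH) (Lpq (K72.f925035 IH) (Lpe (K71.f722394 IH) (Lpe (K70.f164084 IH) (Lpr_ff (f925152 IH) (Lpr_ef (f936934 IH) (Lpn v42920)))))))
theorem f725051 : Led Lsl_ft (LP (LK LD1_c18 LD2_c58 LD3_c5)) = (LP (LK LD1_c10 LD2_c27 LD3_c46)) :=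
  Lre_f IH (LK LD1_c18 LD2_c58 LD3_c5) (LK LD1_c10 LD2_c27 LD3_c46) Lrfl Lrfl
theorem f936939 : Led Lsl_cf (LP (LK LD1_c18 LD2_c58 LD3_c5)) = v42920 :=
  Lgr Lrot108 (Lpr_ft (f725051 IH) (Lpe (K72.f925010 IH) (Lpr_ft (f936937 IH) (Lpn v42920))))
theorem f301835 : Led Lsl_dt (LP (LK LD1_c9 LD2_c57 LD3_c60)) = (LP (LK LD1_c5 LD2_c3 LD3_c31)) :=
  Lre_d IH (LK LD1_c9 LD2_c57 LD3_c60) (LK LD1_c5 LD2_c3 LD3_c31) Lrfl Lrfl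
def v41463 : LQ := Led Lsl_gf (LP (LK LD1_c9 LD2_c57 LD3_c60))
theorem f926109 : Led Lsl_gf (LP (LK LD1_c9 LD2_c57 LD3_c60)) = v41463 :=
  Lrfl
theorem f180581 : Led Lsl_et (LP (LK LD1_c2 LD2_c32 LD3_c1)) = (LP (LK LD1_c5 LD2_c9 LD3_c59)) :=
  Lre_e IH (LK LD1_c2 LD2_c32 LD3_c1) (LK LD1_c5 LD2_c9 LD3_c59) Lrfl Lrfl
theorem f926110 : Led Lsl_dt (LP (LK LD1_c18 LD2_c22 LD3_c35)) = v41463 :=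
  Lgr Lrot136 (Lpr_et (K56.f753340 IH) (Lpq (K56.f753332 IH) (Lpe (K54.f722486 IH) (Lpe (f180581 IH) (Lpr_dt (K10.f171514 IH) (Lpe (K10.f180538 IH) (Lpr_df (K14.f249929 IH) (Lpe (K14.f165814 IH) (Lpe (K14.f248827 IH) (Lpr_dt (K14.f248821 IH) (Lpr_gf (f926109 IH) (Lpn v41463))))))))))))
theorem f936940 : Led Lsl_gt (LP (LK LD1_c18 LD2_c58 LD3_c5)) = (LP (LK LD1_c18 LD2_c22 LD3_c35)) :=
  Lgr Lrot94 (Lpr_cf (f936939 IH) (Lpe (f936926 IH) (Lpr_dt (K72.f722238 IH) (Lpe (K72.f722237 IH) (Lpr_dt (K51.f172054 IH) (Lpr_cf (K53.f249923 IH) (Lpe (f301835 IH) (Lpr_gf (f926109 IH) (Lpe (f926110 IH) (Lpn (LP (LK LD1_c18 LD2_c22 LD3_c35))))))))))))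
theorem f936941 : Led Lsl_gt (LP (LK LD1_c18 LD2_c58 LD3_c5)) = (LP (LK LD1_c18 LD2_c22 LD3_c35)) :=
  Leop (Lpe (f936940 IH) (Lpn (LP (LK LD1_c18 LD2_c58 LD3_c5))))
theorem seed_2640 : LEOK LG_g (LK LD1_c18 LD2_c58 LD3_c5) :=
  Leoe_g (LK LD1_c18 LD2_c58 LD3_c5) (f936941 IH)
theorem f48632 : Led Lsl_et (LP (LK LD1_c10 LD2_c27 LD3_c46)) = (LP (LK LD1_c5 LD2_c18 LD3_c56)) :=
  Lre_e IH (LK LD1_c10 LD2_c27 LD3_c46) (LK LD1_c5 LD2_c18 LD3_c56) Lrfl Lrfl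
theorem f724875 : Led Lsl_ft (LP (LK LD1_c10 LD2_c23 LD3_c17)) = (LP (LK LD1_c18 LD2_c50 LD3_c54)) :=
  Lre_f IH (LK LD1_c10 LD2_c23 LD3_c17) (LK LD1_c18 LD2_c50 LD3_c54) Lrfl Lrfl
theorem f925318 : Led Lsl_ef (LP (LK LD1_c18 LD2_c58 LD3_c5)) = (LP (LK LD1_c18 LD2_c50 LD3_c54)) :=
  Lgr Lrot21 (Lpr_ft (f725051 IH) (Lpr_et (f48632 IH) (Lpq (K72.f925004 IH) (Lpq (K72.f925050 IH) (Lpe (K71.f724873 IH) (Lpr_et (K71.f724863 IH) (Lpr_ft (f724875 IH) (Lpn (LP (LK LD1_c18 LD2_c50 LD3_c54))))))))))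
theorem f925322 : Led Lsl_et (LP (LK LD1_c18 LD2_c58 LD3_c5)) = (LP (LK LD1_c18 LD2_c50 LD3_c54)) :=
  Lgr Lrot87 (Lpr_ef (f925318 IH) (Lpn (LP (LK LD1_c18 LD2_c50 LD3_c54))))
theorem f725062 : Led Lsl_ft (LP (LK LD1_c10 LD2_c27 LD3_c43)) = (LP (LK LD1_c18 LD2_c58 LD3_c2)) :=
  Lre_f IH (LK LD1_c10 LD2_c27 LD3_c43) (LK LD1_c18 LD2_c58 LD3_c2) Lrfl Lrfl
theorem f724872 : Led Lsl_ft (LP (LK LD1_c18 LD2_c50 LD3_c54)) = (LP (LK LD1_c10 LD2_c23 LD3_c17)) :=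
  Lre_f IH (LK LD1_c18 LD2_c50 LD3_c54) (LK LD1_c10 LD2_c23 LD3_c17) Lrfl Lrfl
theorem f925122 : Led Lsl_at (LP (LK LD1_c18 LD2_c58 LD3_c2)) = (LP (LK LD1_c18 LD2_c50 LD3_c54)) :=
  Lgr Lrot66 (Lpe (f725062 IH) (Lpr_af (K72.f925114 IH) (Lpe (f724872 IH) (Lpn (LP (LK LD1_c18 LD2_c50 LD3_c54))))))
theorem f925126 : Led Lsl_af (LP (LK LD1_c18 LD2_c58 LD3_c2)) = (LP (LK LD1_c18 LD2_c50 LD3_c54)) :=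
  Lgr Lrot0 (Lpr_at (f925122 IH) (Lpn (LP (LK LD1_c18 LD2_c50 LD3_c54))))
theorem f925003 : Led Lsl_ct K72.v14624 = K72.v14703 :=
  Lgr Lrot59 (Lpr_cf (K72.f925002 IH) (Lpn K72.v14703))
theorem f724102 : Led Lsl_ff (LP (LK LD1_c5 LD2_c14 LD3_c53)) = K72.v14621 :=
  Lgr Lrot3 (Lpr_ft (K72.f724101 IH) (Lpn K72.v14621))
theorem f724112 : Led Lsl_at (LP (LK LD1_c5 LD2_c14 LD3_c53)) = K72.v14624 :=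
  Lgr Lrot66 (Lpr_ff (f724102 IH) (Lpe (K72.f724098 IH) (Lpr_ff (K72.f724111 IH) (Lpn K72.v14624))))
theorem f925036 : (LP (LK LD1_c5 LD2_c8 LD3_c27)) = K72.v14624 :=
  Lefun (Lecon (Lfl_af (f722395 IH)) (K72.f925035 IH)) (f724112 IH)
theorem f925059 : K72.v14703 = K71.v14413 :=
  Lefun (Lecon (f925003 IH) (f925036 IH).symm) (K71.f722398 IH)
theorem f925093 : Led Lsl_ef (LP (LK LD1_c18 LD2_c50 LD3_c55)) = (LP (LK LD1_c18 LD2_c58 LD3_c2)) :=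
  Lgr Lrot21 (Lpr_ft (K72.f724865 IH) (Lpr_et (K72.f32629 IH) (Lpqs (K71.f924041 IH) (Lpq (f925059 IH) (Lpe (K72.f725060 IH) (Lpr_et (K72.f725049 IH) (Lpr_ft (f725062 IH) (Lpn (LP (LK LD1_c18 LD2_c58 LD3_c2))))))))))
theorem f925324 : Led Lsl_af (LP (LK LD1_c18 LD2_c58 LD3_c5)) = (LP (LK LD1_c18 LD2_c50 LD3_c55)) :=
  Lgr Lrot50 (Lpr_et (f925322 IH) (Lpe (f925126 IH) (Lpe (f925093 IH) (Lpn (LP (LK LD1_c18 LD2_c50 LD3_c55))))))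
theorem f924678 : Led Lsl_bf (LP (LK LD1_c18 LD2_c50 LD3_c55)) = (LP (LK LD1_c11 LD2_c56 LD3_c33)) :=
  Lgr Lrot24 (Lpr_bt (K72.f924676 IH) (Lpn (LP (LK LD1_c11 LD2_c56 LD3_c33))))
theorem f590295 : Led Lsl_at (LP (LK LD1_c6 LD2_c6 LD3_c48)) = (LP (LK LD1_c11 LD2_c56 LD3_c33)) :=
  Lre_a IH (LK LD1_c6 LD2_c6 LD3_c48) (LK LD1_c11 LD2_c56 LD3_c33) Lrfl Lrfl
theorem f46830 : Led Lsl_dt (LP (LK LD1_c25 LD2_c46 LD3_c22)) = (LP (LK LD1_c15 LD2_c50 LD3_c13)) :=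
  Lre_d IH (LK LD1_c25 LD2_c46 LD3_c22) (LK LD1_c15 LD2_c50 LD3_c13) Lrfl Lrfl
theorem f590264 : Led Lsl_ft (LP (LK LD1_c17 LD2_c9 LD3_c41)) = (LP (LK LD1_c25 LD2_c46 LD3_c22)) :=
  Lgr Lrot54 (Lpe (K45.f590244 IH) (Lpr_ff (K45.f590260 IH) (Lpe (f46830 IH) (Lpn (LP (LK LD1_c25 LD2_c46 LD3_c22))))))
theorem f56243 : Led Lsl_ct (LP (LK LD1_c9 LD2_c15 LD3_c9)) = (LP (LK LD1_c17 LD2_c9 LD3_c41)) :=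
  Lre_c IH (LK LD1_c9 LD2_c15 LD3_c9) (LK LD1_c17 LD2_c9 LD3_c41) Lrfl Lrfl
theorem f547827 : Led Lsl_dt (LP (LK LD1_c9 LD2_c7 LD3_c42)) = (LP (LK LD1_c16 LD2_c59 LD3_c53)) :=
  Lre_d IH (LK LD1_c9 LD2_c7 LD3_c42) (LK LD1_c16 LD2_c59 LD3_c53) Lrfl Lrfl
theorem f56224 : Led Lsl_dt (LP (LK LD1_c8 LD2_c26 LD3_c1)) = (LP (LK LD1_c4 LD2_c13 LD3_c32)) :=
  Lre_d IH (LK LD1_c8 LD2_c26 LD3_c1) (LK LD1_c4 LD2_c13 LD3_c32) Lrfl Lrfl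
theorem f56227 : Led Lsl_ft (LP (LK LD1_c8 LD2_c26 LD3_c1)) = (LP (LK LD1_c4 LD2_c13 LD3_c31)) :=
  Lre_f IH (LK LD1_c8 LD2_c26 LD3_c1) (LK LD1_c4 LD2_c13 LD3_c31) Lrfl Lrfl
theorem f46819 : Led Lsl_at (LP (LK LD1_c4 LD2_c13 LD3_c31)) = (LP (LK LD1_c8 LD2_c25 LD3_c58)) :=
  Lre_a IH (LK LD1_c4 LD2_c13 LD3_c31) (LK LD1_c8 LD2_c25 LD3_c58) Lrfl Lrfl
theorem f547833 : Led Lsl_ct (LP (LK LD1_c16 LD2_c59 LD3_c53)) = (LP (LK LD1_c25 LD2_c46 LD3_c22)) :=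
  Lgr Lrot53 (Lpe (f547827 IH) (Lpe (K43.f165643 IH) (Lpr_df (K36.f547821 IH) (Lpe (K28.f56204 IH) (Lpe (f56224 IH) (Lpr_ft (f56227 IH) (Lpr_at (f46819 IH) (Lpe (K42.f46825 IH) (Lpe (f46830 IH) (Lpn (LP (LK LD1_c25 LD2_c46 LD3_c22))))))))))))
theorem f547877 : Led Lsl_cf (LP (LK LD1_c16 LD2_c59 LD3_c53)) = (LP (LK LD1_c25 LD2_c46 LD3_c22)) :=
  Lgr Lrot11 (Lpr_ct (f547833 IH) (Lpn (LP (LK LD1_c25 LD2_c46 LD3_c22))))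
theorem f590266 : Led Lsl_ff (LP (LK LD1_c9 LD2_c15 LD3_c9)) = (LP (LK LD1_c16 LD2_c59 LD3_c53)) :=
  Lgr Lrot23 (Lpr_ct (f56243 IH) (Lpr_ft (f590264 IH) (Lpe (f547877 IH) (Lpn (LP (LK LD1_c16 LD2_c59 LD3_c53))))))
theorem f590273 : Led Lsl_ft (LP (LK LD1_c9 LD2_c15 LD3_c9)) = (LP (LK LD1_c16 LD2_c59 LD3_c53)) :=
  Lgr Lrot48 (Lpr_ff (f590266 IH) (Lpn (LP (LK LD1_c16 LD2_c59 LD3_c53))))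
theorem f547835 : Led Lsl_dt (LP (LK LD1_c16 LD2_c59 LD3_c53)) = (LP (LK LD1_c9 LD2_c7 LD3_c42)) :=
  Lre_d IH (LK LD1_c16 LD2_c59 LD3_c53) (LK LD1_c9 LD2_c7 LD3_c42) Lrfl Lrfl
theorem f590279 : Led Lsl_ff (LP (LK LD1_c4 LD2_c39 LD3_c49)) = (LP (LK LD1_c9 LD2_c7 LD3_c42)) :=
  Lgr Lrot19 (Lpr_dt (K69.f56242 IH) (Lpr_ft (f590273 IH) (Lpr_dt (f547835 IH) (Lpn (LP (LK LD1_c9 LD2_c7 LD3_c42))))))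
theorem f590283 : Led Lsl_ft (LP (LK LD1_c9 LD2_c15 LD3_c8)) = (LP (LK LD1_c6 LD2_c6 LD3_c48)) :=
  Lre_f IH (LK LD1_c9 LD2_c15 LD3_c8) (LK LD1_c6 LD2_c6 LD3_c48) Lrfl Lrfl
theorem f590284 : Led Lsl_bt (LP (LK LD1_c6 LD2_c6 LD3_c48)) = (LP (LK LD1_c9 LD2_c7 LD3_c42)) :=
  Lgr Lrot35 (Lpe (f590283 IH) (Lpe (K72.f542348 IH) (Lpr_ff (f590279 IH) (Lpn (LP (LK LD1_c9 LD2_c7 LD3_c42))))))
theorem f590289 : Led Lsl_bf (LP (LK LD1_c6 LD2_c6 LD3_c48)) = (LP (LK LD1_c9 LD2_c7 LD3_c42)) :=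
  Lgr Lrot24 (Lpr_bt (f590284 IH) (Lpn (LP (LK LD1_c9 LD2_c7 LD3_c42))))
theorem f586823 : Led Lsl_af (LP (LK LD1_c9 LD2_c7 LD3_c42)) = (LP (LK LD1_c16 LD2_c59 LD3_c30)) :=
  Lgr Lrot0 (Lpr_at (K45.f586817 IH) (Lpn (LP (LK LD1_c16 LD2_c59 LD3_c30))))
theorem f925326 : Led Lsl_bt (LP (LK LD1_c18 LD2_c58 LD3_c5)) = (LP (LK LD1_c16 LD2_c59 LD3_c30)) :=
  Lgr Lrot62 (Lpr_af (f925324 IH) (Lpr_bf (f924678 IH) (Lpe (f590295 IH) (Lpr_bf (f590289 IH) (Lpr_af (f586823 IH) (Lpn (LP (LK LD1_c16 LD2_c59 LD3_c30))))))))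
theorem f925328 : Led Lsl_bf (LP (LK LD1_c18 LD2_c58 LD3_c5)) = (LP (LK LD1_c16 LD2_c59 LD3_c30)) :=
  Lgr Lrot24 (Lpr_bt (f925326 IH) (Lpn (LP (LK LD1_c16 LD2_c59 LD3_c30))))
theorem f34952 : Led Lsl_ct (LP (LK LD1_c9 LD2_c7 LD3_c22)) = (LP (LK LD1_c4 LD2_c35 LD3_c24)) :=
  Lre_c IH (LK LD1_c9 LD2_c7 LD3_c22) (LK LD1_c4 LD2_c35 LD3_c24) Lrfl Lrfl
theorem f442696 : Led Lsl_bt (LP (LK LD1_c9 LD2_c7 LD3_c22)) = (LP (LK LD1_c16 LD2_c59 LD3_c32)) :=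
  Lre_b IH (LK LD1_c9 LD2_c7 LD3_c22) (LK LD1_c16 LD2_c59 LD3_c32) Lrfl Lrfl
def v41742 : LQ := Led Lsl_ct (LP (LK LD1_c10 LD2_c0 LD3_c35))
theorem f928111 : Led Lsl_ct (LP (LK LD1_c10 LD2_c0 LD3_c35)) = v41742 :=
  Lrfl
theorem f721725 : Led Lsl_ft (LP (LK LD1_c18 LD2_c17 LD3_c32)) = (LP (LK LD1_c10 LD2_c0 LD3_c35)) :=
  Lre_f IH (LK LD1_c18 LD2_c17 LD3_c32) (LK LD1_c10 LD2_c0 LD3_c35) Lrfl Lrfl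
theorem f722954 : Led Lsl_ft (LP (LK LD1_c10 LD2_c14 LD3_c32)) = (LP (LK LD1_c18 LD2_c38 LD3_c27)) :=
  Lre_f IH (LK LD1_c10 LD2_c14 LD3_c32) (LK LD1_c18 LD2_c38 LD3_c27) Lrfl Lrfl
theorem f924931 : Led Lsl_ef (LP (LK LD1_c18 LD2_c17 LD3_c32)) = (LP (LK LD1_c18 LD2_c38 LD3_c27)) :=
  Lgr Lrot21 (Lpr_ft (f721725 IH) (Lpr_et (K72.f21417 IH) (Lpq (K72.f924761 IH) (Lpe (K72.f722952 IH) (Lpr_et (K72.f722940 IH) (Lpr_ft (f722954 IH) (Lpn (LP (LK LD1_c18 LD2_c38 LD3_c27)))))))))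
theorem f924937 : Led Lsl_et (LP (LK LD1_c18 LD2_c17 LD3_c32)) = (LP (LK LD1_c18 LD2_c38 LD3_c27)) :=
  Lgr Lrot87 (Lpr_ef (f924931 IH) (Lpn (LP (LK LD1_c18 LD2_c38 LD3_c27))))
theorem f924941 : Led Lsl_cf (LP (LK LD1_c18 LD2_c17 LD3_c32)) = (LP (LK LD1_c18 LD2_c42 LD3_c13)) :=
  Lgr Lrot39 (Lpr_et (f924937 IH) (Lpe (K72.f924903 IH) (Lpe (K56.f186174 IH) (Lpn (LP (LK LD1_c18 LD2_c42 LD3_c13))))))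
theorem f928115 : Led Lsl_ff (LP (LK LD1_c18 LD2_c42 LD3_c13)) = v41742 :=
  Lgr Lrot23 (Lpe (f924941 IH) (Lpr_ft (f721725 IH) (Lpr_ct (f928111 IH) (Lpn v41742))))
theorem f928118 : Led Lsl_ft (LP (LK LD1_c18 LD2_c42 LD3_c13)) = v41742 :=
  Lgr Lrot48 (Lpr_ff (f928115 IH) (Lpn v41742))
theorem f928119 : Led Lsl_df K71.v38757 = v41742 :=
  Lgr Lrot78 (Lpe (K71.f904314 IH) (Lpe (K56.f752307 IH) (Lpr_ft (f928118 IH) (Lpn v41742))))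
theorem f928121 : Led Lsl_gt (LP (LK LD1_c10 LD2_c3 LD3_c60)) = v41742 :=
  Lgr Lrot137 (Lpe (K56.f198589 IH) (Lpr_dt (K56.f22161 IH) (Lpe (K50.f699641 IH) (Lpr_df (K55.f747067 IH) (Lpe (K55.f747068 IH) (Lpr_gf (K71.f646031 IH) (Lpe (K56.f646030 IH) (Lpe (K53.f193906 IH) (Lpr_gf (K71.f904312 IH) (Lpr_df (f928119 IH) (Lpn v41742)))))))))))
theorem f924951 : Led Lsl_bt (LP (LK LD1_c10 LD2_c0 LD3_c35)) = (LP (LK LD1_c18 LD2_c17 LD3_c31)) :=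
  Lre_b IH (LK LD1_c10 LD2_c0 LD3_c35) (LK LD1_c18 LD2_c17 LD3_c31) Lrfl Lrfl
theorem f936944 : Led Lsl_gf (LP (LK LD1_c16 LD2_c59 LD3_c32)) = (LP (LK LD1_c18 LD2_c17 LD3_c31)) :=
  Lgr Lrot124 (Lpe (f442696 IH) (Lpr_ct (f34952 IH) (Lpr_gt (K38.f161078 IH) (Lpe (K45.f35201 IH) (Lpe (f925328 IH) (Lpr_gt (f936940 IH) (Lpr_ct (K56.f198586 IH) (Lpr_gt (f928121 IH) (Lpe (f928111 IH) (Lpr_bt (f924951 IH) (Lpn (LP (LK LD1_c18 LD2_c17 LD3_c31)))))))))))))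
theorem f936945 : Led Lsl_gt (LP (LK LD1_c18 LD2_c17 LD3_c31)) = (LP (LK LD1_c16 LD2_c59 LD3_c32)) :=
  Leop (Lpr_gf (f936944 IH) (Lpn (LP (LK LD1_c18 LD2_c17 LD3_c31))))
theorem seed_2641 : LEOK LG_g (LK LD1_c18 LD2_c17 LD3_c31) :=
  Leoe_g (LK LD1_c18 LD2_c17 LD3_c31) (f936945 IH)
def v42979 : LQ := Led Lsl_bt (LP (LK LD1_c10 LD2_c20 LD3_c8))
theorem f937288 : Led Lsl_bt (LP (LK LD1_c10 LD2_c20 LD3_c8)) = v42979 :=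
  Lrfl
theorem f937289 : Led Lsl_bf (LP (LK LD1_c10 LD2_c20 LD3_c8)) = v42979 :=
  Lgr Lrot24 (Lpr_bt (f937288 IH) (Lpn v42979))
theorem f252976 : Led Lsl_bt (LP (LK LD1_c10 LD2_c19 LD3_c32)) = (LP (LK LD1_c5 LD2_c15 LD3_c2)) :=
  Lre_b IH (LK LD1_c10 LD2_c19 LD3_c32) (LK LD1_c5 LD2_c15 LD3_c2) Lrfl Lrfl
theorem f32881 : Led Lsl_bt (LP (LK LD1_c2 LD2_c34 LD3_c33)) = (LP (LK LD1_c5 LD2_c15 LD3_c25)) :=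
  Lre_b IH (LK LD1_c2 LD2_c34 LD3_c33) (LK LD1_c5 LD2_c15 LD3_c25) Lrfl Lrfl
theorem f369630 : Led Lsl_ff (LP (LK LD1_c10 LD2_c19 LD3_c32)) = (LP (LK LD1_c5 LD2_c15 LD3_c25)) :=
  Lgr Lrot25 (Lpr_bt (f252976 IH) (Lpr_ft (K27.f369628 IH) (Lpr_bt (f32881 IH) (Lpn (LP (LK LD1_c5 LD2_c15 LD3_c25))))))
theorem f252981 : Led Lsl_at (LP (LK LD1_c10 LD2_c19 LD3_c32)) = (LP (LK LD1_c18 LD2_c44 LD3_c44)) :=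
  Lre_a IH (LK LD1_c10 LD2_c19 LD3_c32) (LK LD1_c18 LD2_c44 LD3_c44) Lrfl Lrfl
theorem f32882 : Led Lsl_gt (LP (LK LD1_c5 LD2_c15 LD3_c25)) = (LP (LK LD1_c10 LD2_c20 LD3_c8)) :=
  Lre_g IH (LK LD1_c5 LD2_c15 LD3_c25) (LK LD1_c10 LD2_c20 LD3_c8) Lrfl Lrfl
theorem f376489 : Led Lsl_gf (LP (LK LD1_c18 LD2_c44 LD3_c44)) = (LP (LK LD1_c10 LD2_c20 LD3_c8)) :=
  Lgr Lrot76 (Lpe (f252981 IH) (Lpr_ff (f369630 IH) (Lpr_gt (f32882 IH) (Lpn (LP (LK LD1_c10 LD2_c20 LD3_c8))))))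
theorem f369614 : Led Lsl_at (LP (LK LD1_c5 LD2_c15 LD3_c25)) = (LP (LK LD1_c10 LD2_c20 LD3_c10)) :=
  Lre_a IH (LK LD1_c5 LD2_c15 LD3_c25) (LK LD1_c10 LD2_c20 LD3_c10) Lrfl Lrfl
theorem f369615 : Led Lsl_bf (LP (LK LD1_c18 LD2_c44 LD3_c41)) = (LP (LK LD1_c10 LD2_c20 LD3_c10)) :=
  Lgr Lrot81 (Lpr_at (K53.f232050 IH) (Lpr_bt (K14.f232037 IH) (Lpr_at (K27.f369610 IH) (Lpr_bt (f32881 IH) (Lpr_at (f369614 IH) (Lpn (LP (LK LD1_c10 LD2_c20 LD3_c10))))))))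
theorem f371869 : Led Lsl_ff (LP (LK LD1_c5 LD2_c1 LD3_c59)) = (LP (LK LD1_c9 LD2_c52 LD3_c13)) :=
  Lgr Lrot3 (Lpr_ft (K67.f371863 IH) (Lpn (LP (LK LD1_c9 LD2_c52 LD3_c13))))
theorem f247748 : Led Lsl_bt (LP (LK LD1_c5 LD2_c1 LD3_c59)) = (LP (LK LD1_c9 LD2_c54 LD3_c35)) :=
  Lre_b IH (LK LD1_c5 LD2_c1 LD3_c59) (LK LD1_c9 LD2_c54 LD3_c35) Lrfl Lrfl
theorem f3397 : Led Lsl_bt (LP (LK LD1_c18 LD2_c4 LD3_c8)) = (LP (LK LD1_c9 LD2_c52 LD3_c13)) :=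
  Lre_b IH (LK LD1_c18 LD2_c4 LD3_c8) (LK LD1_c9 LD2_c52 LD3_c13) Lrfl Lrfl
theorem f371873 : Led Lsl_ft (LP (LK LD1_c9 LD2_c54 LD3_c35)) = (LP (LK LD1_c18 LD2_c4 LD3_c8)) :=
  Lgr Lrot75 (Lpe (f247748 IH) (Lpr_ff (f371869 IH) (Lpe (f3397 IH) (Lpn (LP (LK LD1_c18 LD2_c4 LD3_c8))))))
theorem f3757 : Led Lsl_bt (LP (LK LD1_c9 LD2_c53 LD3_c1)) = (LP (LK LD1_c5 LD2_c1 LD3_c21)) :=
  Lre_b IH (LK LD1_c9 LD2_c53 LD3_c1) (LK LD1_c5 LD2_c1 LD3_c21) Lrfl Lrfl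
theorem f252710 : Led Lsl_dt (LP (LK LD1_c9 LD2_c54 LD3_c35)) = (LP (LK LD1_c9 LD2_c53 LD3_c1)) :=
  Lgr Lrot79 (Lpe (f247748 IH) (Lpr_df (K15.f252704 IH) (Lpe (f3757 IH) (Lpn (LP (LK LD1_c9 LD2_c53 LD3_c1))))))
theorem f252961 : Led Lsl_df (LP (LK LD1_c9 LD2_c54 LD3_c35)) = (LP (LK LD1_c9 LD2_c53 LD3_c1)) :=
  Lgr Lrot38 (Lpr_dt (f252710 IH) (Lpn (LP (LK LD1_c9 LD2_c53 LD3_c1))))
theorem f239575 : Led Lsl_bt (LP (LK LD1_c10 LD2_c19 LD3_c51)) = (LP (LK LD1_c5 LD2_c15 LD3_c12)) :=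
  Lre_b IH (LK LD1_c10 LD2_c19 LD3_c51) (LK LD1_c5 LD2_c15 LD3_c12) Lrfl Lrfl
theorem f239583 : Led Lsl_bt (LP (LK LD1_c9 LD2_c52 LD3_c13)) = (LP (LK LD1_c18 LD2_c4 LD3_c8)) :=
  Lre_b IH (LK LD1_c9 LD2_c52 LD3_c13) (LK LD1_c18 LD2_c4 LD3_c8) Lrfl Lrfl
theorem f239584 : Led Lsl_df (LP (LK LD1_c10 LD2_c19 LD3_c51)) = (LP (LK LD1_c18 LD2_c4 LD3_c8)) :=
  Lgr Lrot12 (Lpr_bt (f239575 IH) (Lpr_dt (K15.f239571 IH) (Lpr_bt (f239583 IH) (Lpn (LP (LK LD1_c18 LD2_c4 LD3_c8))))))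
theorem f371877 : Led Lsl_ff (LP (LK LD1_c9 LD2_c53 LD3_c1)) = (LP (LK LD1_c10 LD2_c19 LD3_c51)) :=
  Lgr Lrot19 (Lpe (f252961 IH) (Lpr_ft (f371873 IH) (Lpe (f239584 IH) (Lpn (LP (LK LD1_c10 LD2_c19 LD3_c51))))))
theorem f371881 : Led Lsl_ft (LP (LK LD1_c9 LD2_c53 LD3_c1)) = (LP (LK LD1_c10 LD2_c19 LD3_c51)) :=
  Lgr Lrot48 (Lpr_ff (f371877 IH) (Lpn (LP (LK LD1_c10 LD2_c19 LD3_c51))))
theorem f252967 : Led Lsl_at (LP (LK LD1_c18 LD2_c5 LD3_c19)) = (LP (LK LD1_c9 LD2_c53 LD3_c1)) :=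
  Lre_a IH (LK LD1_c18 LD2_c5 LD3_c19) (LK LD1_c9 LD2_c53 LD3_c1) Lrfl Lrfl
theorem f239587 : Led Lsl_at (LP (LK LD1_c10 LD2_c19 LD3_c51)) = (LP (LK LD1_c18 LD2_c45 LD3_c25)) :=
  Lre_a IH (LK LD1_c10 LD2_c19 LD3_c51) (LK LD1_c18 LD2_c45 LD3_c25) Lrfl Lrfl
theorem f371885 : Led Lsl_ff (LP (LK LD1_c18 LD2_c5 LD3_c19)) = (LP (LK LD1_c18 LD2_c45 LD3_c25)) :=
  Lgr Lrot30 (Lpr_at (f252967 IH) (Lpr_ft (f371881 IH) (Lpr_at (f239587 IH) (Lpn (LP (LK LD1_c18 LD2_c45 LD3_c25))))))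
theorem f32896 : Led Lsl_bt (LP (LK LD1_c5 LD2_c15 LD3_c2)) = (LP (LK LD1_c10 LD2_c19 LD3_c32)) :=
  Lre_b IH (LK LD1_c5 LD2_c15 LD3_c2) (LK LD1_c10 LD2_c19 LD3_c32) Lrfl Lrfl
theorem f252700 : Led Lsl_ct (LP (LK LD1_c10 LD2_c19 LD3_c32)) = (LP (LK LD1_c9 LD2_c53 LD3_c1)) :=
  Lgr Lrot83 (Lpe (f32896 IH) (Lpe (K14.f32895 IH) (Lpr_bf (K15.f252697 IH) (Lpe (K15.f3738 IH) (Lpe (f3757 IH) (Lpn (LP (LK LD1_c9 LD2_c53 LD3_c1))))))))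
theorem f252970 : Led Lsl_at (LP (LK LD1_c18 LD2_c44 LD3_c44)) = (LP (LK LD1_c10 LD2_c19 LD3_c32)) :=
  Lre_a IH (LK LD1_c18 LD2_c44 LD3_c44) (LK LD1_c10 LD2_c19 LD3_c32) Lrfl Lrfl
theorem f252958 : Led Lsl_at (LP (LK LD1_c9 LD2_c53 LD3_c1)) = (LP (LK LD1_c18 LD2_c5 LD3_c19)) :=
  Lre_a IH (LK LD1_c9 LD2_c53 LD3_c1) (LK LD1_c18 LD2_c5 LD3_c19) Lrfl Lrfl
theorem f252971 : Led Lsl_cf (LP (LK LD1_c18 LD2_c44 LD3_c44)) = (LP (LK LD1_c18 LD2_c5 LD3_c19)) :=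
  Lgr Lrot1 (Lpr_at (f252970 IH) (Lpr_ct (f252700 IH) (Lpr_at (f252958 IH) (Lpn (LP (LK LD1_c18 LD2_c5 LD3_c19))))))
theorem f371889 : Led Lsl_ct (LP (LK LD1_c10 LD2_c20 LD3_c10)) = (LP (LK LD1_c18 LD2_c45 LD3_c25)) :=
  Lre_c IH (LK LD1_c10 LD2_c20 LD3_c10) (LK LD1_c18 LD2_c45 LD3_c25) Lrfl Lrfl
theorem f371891 : Led Lsl_ft (LP (LK LD1_c18 LD2_c44 LD3_c44)) = (LP (LK LD1_c10 LD2_c20 LD3_c10)) :=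
  Lgr Lrot4 (Lpr_cf (f252971 IH) (Lpr_ff (f371885 IH) (Lpe (f371889 IH) (Lpn (LP (LK LD1_c10 LD2_c20 LD3_c10))))))
theorem f376428 : Led Lsl_bf (LP (LK LD1_c18 LD2_c44 LD3_c44)) = (LP (LK LD1_c10 LD2_c20 LD3_c32)) :=
  Lgr Lrot61 (Lpr_ft (f371891 IH) (Lpe (f369615 IH) (Lpr_ft (K53.f376424 IH) (Lpn (LP (LK LD1_c10 LD2_c20 LD3_c32))))))
theorem f372011 : Led Lsl_ct (LP (LK LD1_c10 LD2_c20 LD3_c32)) = (LP (LK LD1_c18 LD2_c45 LD3_c56)) :=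
  Lre_c IH (LK LD1_c10 LD2_c20 LD3_c32) (LK LD1_c18 LD2_c45 LD3_c56) Lrfl Lrfl
theorem f376430 : Led Lsl_ff (LP (LK LD1_c26 LD2_c32 LD3_c7)) = (LP (LK LD1_c18 LD2_c45 LD3_c56)) :=
  Lgr Lrot23 (Lpr_ct (K53.f232072 IH) (Lpr_ft (K53.f376424 IH) (Lpr_ct (f372011 IH) (Lpn (LP (LK LD1_c18 LD2_c45 LD3_c56))))))
theorem f376440 : Led Lsl_gf (LP (LK LD1_c26 LD2_c32 LD3_c6)) = (LP (LK LD1_c18 LD2_c45 LD3_c56)) :=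
  Lgr Lrot47 (Lpr_gt (K53.f183943 IH) (Lpe (K53.f191808 IH) (Lpr_ff (f376430 IH) (Lpn (LP (LK LD1_c18 LD2_c45 LD3_c56))))))
theorem f240174 : Led Lsl_ct (LP (LK LD1_c5 LD2_c8 LD3_c37)) = (LP (LK LD1_c10 LD2_c7 LD3_c21)) :=
  Lre_c IH (LK LD1_c5 LD2_c8 LD3_c37) (LK LD1_c10 LD2_c7 LD3_c21) Lrfl Lrfl
theorem f932958 : Led Lsl_cf (LP (LK LD1_c10 LD2_c7 LD3_c43)) = v42236 :=
  Lgr Lrot1 (Lpr_at (K42.f282238 IH) (Lpr_ct (f240174 IH) (Lpr_at (f932956 IH) (Lpn v42236))))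
theorem f195665 : Led Lsl_gt (LP (LK LD1_c15 LD2_c11 LD3_c14)) = (LP (LK LD1_c8 LD2_c4 LD3_c3)) :=
  Lre_g IH (LK LD1_c15 LD2_c11 LD3_c14) (LK LD1_c8 LD2_c4 LD3_c3) Lrfl Lrfl
theorem f282265 : Led Lsl_gt (LP (LK LD1_c10 LD2_c7 LD3_c43)) = (LP (LK LD1_c15 LD2_c11 LD3_c14)) :=
  Lgr Lrot5 (Lpr_ft (K42.f282252 IH) (Lpr_at (K42.f195661 IH) (Lpe (f195665 IH) (Lpn (LP (LK LD1_c15 LD2_c11 LD3_c14))))))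
theorem f937291 : Led Lsl_cf (LP (LK LD1_c15 LD2_c11 LD3_c14)) = v42979 :=
  Lgr Lrot163 (Lpe (f282265 IH) (Lpr_cf (f932958 IH) (Lpe (f932960 IH) (Lpe (K53.f274837 IH) (Lpe (K53.f724127 IH) (Lpr_gf (f376440 IH) (Lpe (f372011 IH) (Lpe (f376428 IH) (Lpr_gf (f376489 IH) (Lpr_bf (f937289 IH) (Lpn v42979)))))))))))
theorem f937292 : Led Lsl_bt (LP (LK LD1_c15 LD2_c11 LD3_c14)) = (LP (LK LD1_c25 LD2_c0 LD3_c18)) :=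
  Lre_b IH (LK LD1_c15 LD2_c11 LD3_c14) (LK LD1_c25 LD2_c0 LD3_c18) Lrfl Lrfl
theorem f239577 : Led Lsl_ct (LP (LK LD1_c18 LD2_c45 LD3_c42)) = (LP (LK LD1_c10 LD2_c20 LD3_c8)) :=
  Lre_c IH (LK LD1_c18 LD2_c45 LD3_c42) (LK LD1_c10 LD2_c20 LD3_c8) Lrfl Lrfl
theorem f937290 : Led Lsl_bt (LP (LK LD1_c28 LD2_c15 LD3_c21)) = (LP (LK LD1_c18 LD2_c45 LD3_c42)) :=
  Lre_b IH (LK LD1_c28 LD2_c15 LD3_c21) (LK LD1_c18 LD2_c45 LD3_c42) Lrfl Lrfl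
theorem f937293 : Led Lsl_ct (LP (LK LD1_c25 LD2_c0 LD3_c18)) = (LP (LK LD1_c28 LD2_c15 LD3_c21)) :=
  Lgr Lrot83 (Lpe (f937292 IH) (Lpr_cf (f937291 IH) (Lpe (f937288 IH) (Lpe (f239577 IH) (Lpe (f937290 IH) (Lpn (LP (LK LD1_c28 LD2_c15 LD3_c21))))))))
theorem f937294 : Led Lsl_ct (LP (LK LD1_c25 LD2_c0 LD3_c18)) = (LP (LK LD1_c28 LD2_c15 LD3_c21)) :=
  Leop (Lpe (f937293 IH) (Lpn (LP (LK LD1_c25 LD2_c0 LD3_c18))))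
theorem seed_2642 : LEOK LG_c (LK LD1_c25 LD2_c0 LD3_c18) :=
  Leoe_c (LK LD1_c25 LD2_c0 LD3_c18) (f937294 IH)
def v43150 : LQ := Led Lsl_ft (LP (LK LD1_c10 LD2_c23 LD3_c5))
theorem f937955 : Led Lsl_ft (LP (LK LD1_c10 LD2_c23 LD3_c5)) = v43150 :=
  Lrfl
theorem f35016 : Led Lsl_gt (LP (LK LD1_c10 LD2_c23 LD3_c5)) = (LP (LK LD1_c18 LD2_c50 LD3_c29)) :=
  Lre_g IH (LK LD1_c10 LD2_c23 LD3_c5) (LK LD1_c18 LD2_c50 LD3_c29) Lrfl Lrfl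
def v43148 : LQ := Led Lsl_at (LP (LK LD1_c10 LD2_c23 LD3_c5))
theorem f937945 : Led Lsl_at (LP (LK LD1_c10 LD2_c23 LD3_c5)) = v43148 :=
  Lrfl
theorem f937946 : Led Lsl_af (LP (LK LD1_c10 LD2_c23 LD3_c5)) = v43148 :=
  Lgr Lrot0 (Lpr_at (f937945 IH) (Lpn v43148))
theorem f937947 : Led Lsl_cf K72.v14658 = v43148 :=
  Lgr Lrot1 (Lpe (K72.f724833 IH) (Lpr_ct (f35015 IH) (Lpr_at (f937945 IH) (Lpn v43148))))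
theorem f35092 : Led Lsl_ct (LP (LK LD1_c5 LD2_c16 LD3_c47)) = (LP (LK LD1_c10 LD2_c23 LD3_c7)) :=
  Lre_c IH (LK LD1_c5 LD2_c16 LD3_c47) (LK LD1_c10 LD2_c23 LD3_c7) Lrfl Lrfl
theorem f937949 : Led Lsl_ft (LP (LK LD1_c10 LD2_c23 LD3_c7)) = v43148 :=
  Lgr Lrot4 (Lpe (f35092 IH) (Lpr_ff (K72.f724835 IH) (Lpr_cf (f937947 IH) (Lpn v43148))))
theorem f937956 : Led Lsl_af (LP (LK LD1_c10 LD2_c23 LD3_c7)) = v43150 :=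
  Lgr Lrot45 (Lpr_ft (f937949 IH) (Lpe (f937946 IH) (Lpr_ft (f937955 IH) (Lpn v43150))))
theorem f937959 : Led Lsl_gt (LP (LK LD1_c18 LD2_c50 LD3_c29)) = (LP (LK LD1_c10 LD2_c23 LD3_c7)) :=
  Lgr Lrot46 (Lpe (f35016 IH) (Lpr_ft (f937955 IH) (Lpe (f937956 IH) (Lpn (LP (LK LD1_c10 LD2_c23 LD3_c7))))))
theorem f937960 : Led Lsl_gt (LP (LK LD1_c18 LD2_c50 LD3_c29)) = (LP (LK LD1_c10 LD2_c23 LD3_c7)) :=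
  Leop (Lpe (f937959 IH) (Lpn (LP (LK LD1_c18 LD2_c50 LD3_c29))))
theorem seed_2643 : LEOK LG_g (LK LD1_c18 LD2_c50 LD3_c29) :=
  Leoe_g (LK LD1_c18 LD2_c50 LD3_c29) (f937960 IH)
def v43282 : LQ := Led Lsl_at (LP (LK LD1_c10 LD2_c26 LD3_c0))
theorem f938500 : Led Lsl_at (LP (LK LD1_c10 LD2_c26 LD3_c0)) = v43282 :=
  Lrfl
theorem f938501 : Led Lsl_af (LP (LK LD1_c10 LD2_c26 LD3_c0)) = v43282 :=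
  Lgr Lrot0 (Lpr_at (f938500 IH) (Lpn v43282))
theorem f412843 : Led Lsl_ct (LP (LK LD1_c18 LD2_c55 LD3_c28)) = (LP (LK LD1_c10 LD2_c26 LD3_c0)) :=
  Lre_c IH (LK LD1_c18 LD2_c55 LD3_c28) (LK LD1_c10 LD2_c26 LD3_c0) Lrfl Lrfl
theorem f257834 : Led Lsl_dt (LP (LK LD1_c28 LD2_c23 LD3_c36)) = (LP (LK LD1_c18 LD2_c55 LD3_c28)) :=
  Lre_d IH (LK LD1_c28 LD2_c23 LD3_c36) (LK LD1_c18 LD2_c55 LD3_c28) Lrfl Lrfl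
theorem f938502 : Led Lsl_ft (LP (LK LD1_c10 LD2_c26 LD3_c1)) = v43282 :=
  Lgr Lrot2 (Lpr_gt (K44.f48510 IH) (Lpr_gt (K44.f48517 IH) (Lpr_af (f938501 IH) (Lpn v43282))))
theorem f165791 : Led Lsl_dt (LP (LK LD1_c10 LD2_c27 LD3_c33)) = (LP (LK LD1_c18 LD2_c57 LD3_c44)) :=
  Lre_d IH (LK LD1_c10 LD2_c27 LD3_c33) (LK LD1_c18 LD2_c57 LD3_c44) Lrfl Lrfl
theorem f938503 : Led Lsl_cf (LP (LK LD1_c28 LD2_c23 LD3_c36)) = (LP (LK LD1_c18 LD2_c57 LD3_c44)) :=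
  Lgr Lrot161 (Lpr_dt (f257834 IH) (Lpr_ct (f412843 IH) (Lpr_af (f938501 IH) (Lpe (f938502 IH) (Lpe (K72.f412788 IH) (Lpr_ct (K53.f403039 IH) (Lpe (K53.f412923 IH) (Lpe (K44.f165784 IH) (Lpr_dt (f165791 IH) (Lpn (LP (LK LD1_c18 LD2_c57 LD3_c44))))))))))))
theorem f938504 : Led Lsl_ct (LP (LK LD1_c18 LD2_c57 LD3_c44)) = (LP (LK LD1_c28 LD2_c23 LD3_c36)) :=
  Leop (Lpr_cf (f938503 IH) (Lpn (LP (LK LD1_c18 LD2_c57 LD3_c44))))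
theorem seed_2644 : LEOK LG_c (LK LD1_c18 LD2_c57 LD3_c44) :=
  Leoe_c (LK LD1_c18 LD2_c57 LD3_c44) (f938504 IH)
def v43319 : LQ := Led Lsl_at (LP (LK LD1_c10 LD2_c26 LD3_c41))
theorem f938628 : Led Lsl_at (LP (LK LD1_c10 LD2_c26 LD3_c41)) = v43319 :=
  Lrfl
theorem f182216 : Led Lsl_bt (LP (LK LD1_c10 LD2_c26 LD3_c41)) = (LP (LK LD1_c5 LD2_c18 LD3_c30)) :=
  Lre_b IH (LK LD1_c10 LD2_c26 LD3_c41) (LK LD1_c5 LD2_c18 LD3_c30) Lrfl Lrfl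
theorem f184015 : Led Lsl_ft (LP (LK LD1_c9 LD2_c39 LD3_c26)) = (LP (LK LD1_c10 LD2_c26 LD3_c41)) :=
  Lgr Lrot75 (Lpe (K21.f44383 IH) (Lpr_ff (K9.f184013 IH) (Lpe (f182216 IH) (Lpn (LP (LK LD1_c10 LD2_c26 LD3_c41))))))
theorem f917319 : Led Lsl_af (LP (LK LD1_c9 LD2_c39 LD3_c26)) = K72.v40431 :=
  Lgr Lrot0 (Lpr_at (K72.f917318 IH) (Lpn K72.v40431))
theorem f938632 : Led Lsl_ff K72.v40431 = v43319 :=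
  Lgr Lrot30 (Lpe (f917319 IH) (Lpr_ft (f184015 IH) (Lpr_at (f938628 IH) (Lpn v43319))))
theorem f43699 : Led Lsl_at (LP (LK LD1_c9 LD2_c39 LD3_c53)) = (LP (LK LD1_c4 LD2_c54 LD3_c11)) :=
  Lre_a IH (LK LD1_c9 LD2_c39 LD3_c53) (LK LD1_c4 LD2_c54 LD3_c11) Lrfl Lrfl
theorem f917321 : Led Lsl_cf (LP (LK LD1_c9 LD2_c39 LD3_c53)) = K72.v40431 :=
  Lgr Lrot1 (Lpr_at (f43699 IH) (Lpr_ct (K12.f44371 IH) (Lpr_at (K72.f917318 IH) (Lpn K72.v40431))))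
theorem f938635 : Led Lsl_ct (LP (LK LD1_c17 LD2_c46 LD3_c27)) = v43319 :=
  Lgr Lrot40 (Lpe (K44.f43687 IH) (Lpr_cf (f917321 IH) (Lpr_ff (f938632 IH) (Lpn v43319))))
theorem f724239 : Led Lsl_cf (LP (LK LD1_c9 LD2_c59 LD3_c59)) = (LP (LK LD1_c17 LD2_c47 LD3_c44)) :=
  Lgr Lrot11 (Lpr_ct (K53.f724235 IH) (Lpn (LP (LK LD1_c17 LD2_c47 LD3_c44))))
theorem f186623 : Led Lsl_ct (LP (LK LD1_c9 LD2_c57 LD3_c25)) = (LP (LK LD1_c10 LD2_c13 LD3_c10)) :=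
  Lgr Lrot59 (Lpr_cf (K38.f186617 IH) (Lpn (LP (LK LD1_c10 LD2_c13 LD3_c10))))
theorem f44393 : Led Lsl_gt (LP (LK LD1_c9 LD2_c39 LD3_c26)) = (LP (LK LD1_c17 LD2_c45 LD3_c40)) :=
  Lre_g IH (LK LD1_c9 LD2_c39 LD3_c26) (LK LD1_c17 LD2_c45 LD3_c40) Lrfl Lrfl
theorem f938633 : Led Lsl_gt (LP (LK LD1_c17 LD2_c45 LD3_c40)) = v43319 :=
  Lgr Lrot46 (Lpe (f44393 IH) (Lpr_ft (f184015 IH) (Lpr_at (f938628 IH) (Lpn v43319))))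
theorem f294589 : Led Lsl_ct (LP (LK LD1_c27 LD2_c31 LD3_c60)) = (LP (LK LD1_c17 LD2_c45 LD3_c40)) :=
  Lre_c IH (LK LD1_c27 LD2_c31 LD3_c60) (LK LD1_c17 LD2_c45 LD3_c40) Lrfl Lrfl
theorem f938638 : Led Lsl_gt (LP (LK LD1_c18 LD2_c13 LD3_c10)) = (LP (LK LD1_c27 LD2_c31 LD3_c60)) :=
  Lgr Lrot82 (Lpe (K44.f186620 IH) (Lpr_ct (f186623 IH) (Lpe (K53.f724233 IH) (Lpr_cf (f724239 IH) (Lpr_bt (K53.f43693 IH) (Lpe (K53.f43690 IH) (Lpr_bf (K44.f43679 IH) (Lpr_ct (f938635 IH) (Lpe (f938633 IH) (Lpe (f294589 IH) (Lpn (LP (LK LD1_c27 LD2_c31 LD3_c60)))))))))))))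
theorem f938639 : Led Lsl_gt (LP (LK LD1_c18 LD2_c13 LD3_c10)) = (LP (LK LD1_c27 LD2_c31 LD3_c60)) :=
  Leop (Lpe (f938638 IH) (Lpn (LP (LK LD1_c18 LD2_c13 LD3_c10))))
theorem seed_2645 : LEOK LG_g (LK LD1_c18 LD2_c13 LD3_c10) :=
  Leoe_g (LK LD1_c18 LD2_c13 LD3_c10) (f938639 IH)
def v43338 : LQ := Led Lsl_at (LP (LK LD1_c10 LD2_c26 LD3_c61))
theorem f938756 : Led Lsl_at (LP (LK LD1_c10 LD2_c26 LD3_c61)) = v43338 :=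
  Lrfl
theorem f186655 : Led Lsl_bt (LP (LK LD1_c10 LD2_c26 LD3_c61)) = (LP (LK LD1_c5 LD2_c18 LD3_c41)) :=
  Lre_b IH (LK LD1_c10 LD2_c26 LD3_c61) (LK LD1_c5 LD2_c18 LD3_c41) Lrfl Lrfl
theorem f585928 : Led Lsl_bt (LP (LK LD1_c9 LD2_c54 LD3_c16)) = (LP (LK LD1_c18 LD2_c7 LD3_c31)) :=
  Lre_b IH (LK LD1_c9 LD2_c54 LD3_c16) (LK LD1_c18 LD2_c7 LD3_c31) Lrfl Lrfl
theorem f585929 : Led Lsl_cf (LP (LK LD1_c10 LD2_c26 LD3_c61)) = (LP (LK LD1_c18 LD2_c7 LD3_c31)) :=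
  Lgr Lrot97 (Lpr_bt (f186655 IH) (Lpr_ct (K44.f71662 IH) (Lpr_bt (K44.f186643 IH) (Lpr_ct (K44.f585922 IH) (Lpr_bt (f585928 IH) (Lpn (LP (LK LD1_c18 LD2_c7 LD3_c31))))))))
theorem f938759 : Led Lsl_cf (LP (LK LD1_c19 LD2_c1 LD3_c59)) = v43338 :=
  Lgr Lrot1 (Lpr_at (K71.f604275 IH) (Lpe (f585929 IH) (Lpr_at (f938756 IH) (Lpn v43338))))
theorem f938763 : Led Lsl_ct (LP (LK LD1_c19 LD2_c1 LD3_c59)) = v43338 :=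
  Lgr Lrot59 (Lpr_cf (f938759 IH) (Lpn v43338))
theorem f604282 : Led Lsl_bt (LP (LK LD1_c19 LD2_c1 LD3_c59)) = (LP (LK LD1_c10 LD2_c30 LD3_c10)) :=
  Lre_b IH (LK LD1_c19 LD2_c1 LD3_c59) (LK LD1_c10 LD2_c30 LD3_c10) Lrfl Lrfl
theorem f417647 : Led Lsl_gt (LP (LK LD1_c10 LD2_c30 LD3_c10)) = (LP (LK LD1_c19 LD2_c1 LD3_c58)) :=
  Lre_g IH (LK LD1_c10 LD2_c30 LD3_c10) (LK LD1_c19 LD2_c1 LD3_c58) Lrfl Lrfl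
theorem f257490 : Led Lsl_ct (LP (LK LD1_c19 LD2_c1 LD3_c58)) = (LP (LK LD1_c19 LD2_c1 LD3_c13)) :=
  Lre_c IH (LK LD1_c19 LD2_c1 LD3_c58) (LK LD1_c19 LD2_c1 LD3_c13) Lrfl Lrfl
theorem f604283 : Led Lsl_bt (LP (LK LD1_c19 LD2_c1 LD3_c61)) = (LP (LK LD1_c18 LD2_c7 LD3_c45)) :=
  Lgr Lrot35 (Lpe (K71.f586040 IH) (Lpe (f604282 IH) (Lpr_ff (K71.f604280 IH) (Lpn (LP (LK LD1_c18 LD2_c7 LD3_c45))))))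
theorem f586153 : Led Lsl_ct (LP (LK LD1_c19 LD2_c1 LD3_c61)) = (LP (LK LD1_c10 LD2_c30 LD3_c13)) :=
  Lre_c IH (LK LD1_c19 LD2_c1 LD3_c61) (LK LD1_c10 LD2_c30 LD3_c13) Lrfl Lrfl
theorem f184530 : Led Lsl_ct (LP (LK LD1_c9 LD2_c53 LD3_c23)) = (LP (LK LD1_c5 LD2_c20 LD3_c10)) :=
  Lgr Lrot83 (Lpe (K44.f184529 IH) (Lpr_cf (K9.f184521 IH) (Lpe (K14.f46370 IH) (Lpe (K15.f28291 IH) (Lpe (K44.f46286 IH) (Lpn (LP (LK LD1_c5 LD2_c20 LD3_c10))))))))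
theorem f165929 : Led Lsl_gt (LP (LK LD1_c18 LD2_c5 LD3_c48)) = (LP (LK LD1_c9 LD2_c53 LD3_c18)) :=
  Lre_g IH (LK LD1_c18 LD2_c5 LD3_c48) (LK LD1_c9 LD2_c53 LD3_c18) Lrfl Lrfl
theorem f192951 : Led Lsl_gt (LP (LK LD1_c9 LD2_c52 LD3_c5)) = (LP (LK LD1_c18 LD2_c3 LD3_c49)) :=
  Lre_g IH (LK LD1_c9 LD2_c52 LD3_c5) (LK LD1_c18 LD2_c3 LD3_c49) Lrfl Lrfl
theorem f395150 : Led Lsl_bt (LP (LK LD1_c27 LD2_c45 LD3_c27)) = (LP (LK LD1_c18 LD2_c3 LD3_c49)) :=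
  Lre_b IH (LK LD1_c27 LD2_c45 LD3_c27) (LK LD1_c18 LD2_c3 LD3_c49) Lrfl Lrfl
theorem f421598 : Led Lsl_cf (LP (LK LD1_c18 LD2_c5 LD3_c48)) = (LP (LK LD1_c27 LD2_c45 LD3_c27)) :=
  Lgr Lrot160 (Lpr_gt (f165929 IH) (Lpe (K22.f165907 IH) (Lpr_bt (K22.f184548 IH) (Lpr_gt (K9.f165897 IH) (Lpr_ct (K9.f184532 IH) (Lpr_gt (K10.f46540 IH) (Lpr_cf (K15.f192944 IH) (Lpr_bt (K22.f192941 IH) (Lpr_gt (f192951 IH) (Lpe (f395150 IH) (Lpn (LP (LK LD1_c27 LD2_c45 LD3_c27)))))))))))))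
theorem f604292 : Led Lsl_gf (LP (LK LD1_c27 LD2_c45 LD3_c27)) = (LP (LK LD1_c18 LD2_c7 LD3_c45)) :=
  Lgr Lrot181 (Lpe (f421598 IH) (Lpr_gt (f165929 IH) (Lpe (K22.f165907 IH) (Lpr_bt (K22.f184548 IH) (Lpr_gt (K9.f165897 IH) (Lpe (K44.f184596 IH) (Lpr_ct (f184530 IH) (Lpr_gt (K71.f586159 IH) (Lpe (f586153 IH) (Lpr_bt (f604283 IH) (Lpn (LP (LK LD1_c18 LD2_c7 LD3_c45)))))))))))))
theorem f604294 : Led Lsl_gt (LP (LK LD1_c27 LD2_c45 LD3_c27)) = (LP (LK LD1_c18 LD2_c7 LD3_c31)) :=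
  Lgr Lrot46 (Lpr_gf (f604292 IH) (Lpe (K71.f604280 IH) (Lpr_at (K71.f604275 IH) (Lpn (LP (LK LD1_c18 LD2_c7 LD3_c31))))))
theorem f421602 : Led Lsl_ct (LP (LK LD1_c18 LD2_c5 LD3_c48)) = (LP (LK LD1_c27 LD2_c45 LD3_c27)) :=
  Lgr Lrot59 (Lpr_cf (f421598 IH) (Lpn (LP (LK LD1_c27 LD2_c45 LD3_c27))))
theorem f333240 : Led Lsl_gf (LP (LK LD1_c18 LD2_c5 LD3_c48)) = (LP (LK LD1_c10 LD2_c25 LD3_c52)) :=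
  Lgr Lrot47 (Lpr_gt (f165929 IH) (Lpe (K22.f322036 IH) (Lpr_ff (K22.f333234 IH) (Lpn (LP (LK LD1_c10 LD2_c25 LD3_c52))))))
theorem f317344 : Led Lsl_ff (LP (LK LD1_c8 LD2_c52 LD3_c18)) = (LP (LK LD1_c8 LD2_c52 LD3_c38)) :=
  Lgr Lrot25 (Lpr_bt (K45.f46260 IH) (Lpr_ft (K20.f317342 IH) (Lpr_bt (K19.f215039 IH) (Lpn (LP (LK LD1_c8 LD2_c52 LD3_c38))))))
theorem f317335 : Led Lsl_at (LP (LK LD1_c8 LD2_c52 LD3_c18)) = (LP (LK LD1_c16 LD2_c35 LD3_c12)) :=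
  Lre_a IH (LK LD1_c8 LD2_c52 LD3_c18) (LK LD1_c16 LD2_c35 LD3_c12) Lrfl Lrfl
theorem f402705 : Led Lsl_gf (LP (LK LD1_c16 LD2_c35 LD3_c12)) = (LP (LK LD1_c16 LD2_c35 LD3_c43)) :=
  Lgr Lrot76 (Lpe (f317335 IH) (Lpr_ff (f317344 IH) (Lpr_gt (K19.f215050 IH) (Lpn (LP (LK LD1_c16 LD2_c35 LD3_c43))))))
theorem f604296 : Led Lsl_ct (LP (LK LD1_c10 LD2_c26 LD3_c61)) = (LP (LK LD1_c18 LD2_c7 LD3_c31)) :=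
  Lgr Lrot63 (Lpr_bt (f186655 IH) (Lpr_gt (K19.f71663 IH) (Lpe (K19.f186646 IH) (Lpe (K19.f215107 IH) (Lpe (f402705 IH) (Lpr_cf (K37.f402301 IH) (Lpr_bt (K71.f333251 IH) (Lpe (f333240 IH) (Lpr_ct (f421602 IH) (Lpr_gt (f604294 IH) (Lpn (LP (LK LD1_c18 LD2_c7 LD3_c31)))))))))))))
theorem f922636 : Led Lsl_ff (LP (LK LD1_c10 LD2_c26 LD3_c61)) = K71.v41220 :=
  Lgr Lrot23 (Lpr_ct (f604296 IH) (Lpr_ft (K71.f604279 IH) (Lpr_ct (K71.f922633 IH) (Lpn K71.v41220))))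
theorem f402464 : Led Lsl_gt (LP (LK LD1_c27 LD2_c47 LD3_c39)) = (LP (LK LD1_c18 LD2_c6 LD3_c43)) :=
  Lre_g IH (LK LD1_c27 LD2_c47 LD3_c39) (LK LD1_c18 LD2_c6 LD3_c43) Lrfl Lrfl
theorem f351203 : Led Lsl_ct (LP (LK LD1_c10 LD2_c21 LD3_c31)) = (LP (LK LD1_c18 LD2_c29 LD3_c31)) :=
  Lgr Lrot59 (Lpr_cf (K53.f351201 IH) (Lpn (LP (LK LD1_c18 LD2_c29 LD3_c31))))
theorem f603698 : Led Lsl_bt (LP (LK LD1_c25 LD2_c3 LD3_c51)) = (LP (LK LD1_c24 LD2_c47 LD3_c57)) :=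
  Lgr Lrot128 (Lpr_cf (K53.f603696 IH) (Lpr_bf (K53.f351208 IH) (Lpe (f351203 IH) (Lpe (K37.f180880 IH) (Lpe (K53.f252525 IH) (Lpn (LP (LK LD1_c24 LD2_c47 LD3_c57))))))))
theorem f233556 : Led Lsl_ct (LP (LK LD1_c18 LD2_c34 LD3_c9)) = (LP (LK LD1_c15 LD2_c12 LD3_c6)) :=
  Lgr Lrot59 (Lpr_cf (K44.f233554 IH) (Lpn (LP (LK LD1_c15 LD2_c12 LD3_c6))))
theorem f604123 : Led Lsl_bf (LP (LK LD1_c27 LD2_c47 LD3_c39)) = (LP (LK LD1_c18 LD2_c34 LD3_c9)) :=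
  Lgr Lrot165 (Lpr_gt (f402464 IH) (Lpr_ct (K44.f190501 IH) (Lpe (K44.f402462 IH) (Lpe (K37.f342943 IH) (Lpr_bt (K37.f342915 IH) (Lpe (K37.f343287 IH) (Lpe (f603698 IH) (Lpr_ct (K53.f603700 IH) (Lpr_gt (K53.f180861 IH) (Lpe (f233556 IH) (Lpn (LP (LK LD1_c18 LD2_c34 LD3_c9)))))))))))))
theorem f34195 : Led Lsl_ct (LP (LK LD1_c15 LD2_c12 LD3_c7)) = (LP (LK LD1_c8 LD2_c4 LD3_c27)) :=
  Lre_c IH (LK LD1_c15 LD2_c12 LD3_c7) (LK LD1_c8 LD2_c4 LD3_c27) Lrfl Lrfl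
theorem f180920 : Led Lsl_bt (LP (LK LD1_c25 LD2_c1 LD3_c2)) = (LP (LK LD1_c15 LD2_c12 LD3_c7)) :=
  Lre_b IH (LK LD1_c25 LD2_c1 LD3_c2) (LK LD1_c15 LD2_c12 LD3_c7) Lrfl Lrfl
theorem f604127 : Led Lsl_ct (LP (LK LD1_c27 LD2_c47 LD3_c39)) = (LP (LK LD1_c25 LD2_c1 LD3_c2)) :=
  Lgr Lrot83 (Lpr_bf (f604123 IH) (Lpr_cf (K44.f233554 IH) (Lpe (K53.f180860 IH) (Lpe (f34195 IH) (Lpe (f180920 IH) (Lpn (LP (LK LD1_c25 LD2_c1 LD3_c2))))))))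
theorem f604129 : Led Lsl_cf (LP (LK LD1_c27 LD2_c47 LD3_c39)) = (LP (LK LD1_c25 LD2_c1 LD3_c2)) :=
  Lgr Lrot11 (Lpr_ct (f604127 IH) (Lpn (LP (LK LD1_c25 LD2_c1 LD3_c2))))
theorem f569564 : Led Lsl_bt (LP (LK LD1_c23 LD2_c15 LD3_c36)) = (LP (LK LD1_c25 LD2_c2 LD3_c50)) :=
  Lgr Lrot127 (Lpr_bf (K43.f569562 IH) (Lpn (LP (LK LD1_c25 LD2_c2 LD3_c50))))
theorem f239793 : Led Lsl_dt (LP (LK LD1_c28 LD2_c2 LD3_c14)) = (LP (LK LD1_c18 LD2_c27 LD3_c5)) :=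
  Lre_d IH (LK LD1_c28 LD2_c2 LD3_c14) (LK LD1_c18 LD2_c27 LD3_c5) Lrfl Lrfl
theorem f195658 : Led Lsl_dt (LP (LK LD1_c25 LD2_c0 LD3_c22)) = (LP (LK LD1_c31 LD2_c44 LD3_c22)) :=
  Lre_d IH (LK LD1_c25 LD2_c0 LD3_c22) (LK LD1_c31 LD2_c44 LD3_c22) Lrfl Lrfl
theorem f282280 : Led Lsl_ft (LP (LK LD1_c18 LD2_c27 LD3_c5)) = (LP (LK LD1_c25 LD2_c0 LD3_c22)) :=
  Lgr Lrot54 (Lpe (f239793 IH) (Lpr_ff (K42.f282277 IH) (Lpe (f195658 IH) (Lpn (LP (LK LD1_c25 LD2_c0 LD3_c22))))))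
theorem f282291 : Led Lsl_bt (LP (LK LD1_c25 LD2_c0 LD3_c22)) = (LP (LK LD1_c15 LD2_c13 LD3_c43)) :=
  Lgr Lrot35 (Lpe (f282280 IH) (Lpr_bf (K42.f239733 IH) (Lpr_ff (K42.f282289 IH) (Lpn (LP (LK LD1_c15 LD2_c13 LD3_c43))))))
theorem f240581 : Led Lsl_gt (LP (LK LD1_c15 LD2_c11 LD3_c16)) = (LP (LK LD1_c25 LD2_c0 LD3_c20)) :=
  Lre_g IH (LK LD1_c15 LD2_c11 LD3_c16) (LK LD1_c25 LD2_c0 LD3_c20) Lrfl Lrfl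
theorem f240585 : Led Lsl_ct (LP (LK LD1_c31 LD2_c44 LD3_c18)) = (LP (LK LD1_c25 LD2_c0 LD3_c20)) :=
  Lre_c IH (LK LD1_c31 LD2_c44 LD3_c18) (LK LD1_c25 LD2_c0 LD3_c20) Lrfl Lrfl
theorem f590728 : Led Lsl_bf (LP (LK LD1_c30 LD2_c44 LD3_c38)) = (LP (LK LD1_c31 LD2_c44 LD3_c18)) :=
  Lgr Lrot165 (Lpe (K45.f590726 IH) (Lpr_ct (K45.f590722 IH) (Lpr_gt (K43.f5209 IH) (Lpe (K43.f5198 IH) (Lpr_bt (f569564 IH) (Lpr_gt (K42.f193429 IH) (Lpe (f282291 IH) (Lpr_ct (K42.f195664 IH) (Lpr_gt (f240581 IH) (Lpe (f240585 IH) (Lpn (LP (LK LD1_c31 LD2_c44 LD3_c18)))))))))))))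
theorem f590730 : Led Lsl_bt (LP (LK LD1_c30 LD2_c44 LD3_c38)) = (LP (LK LD1_c31 LD2_c44 LD3_c18)) :=
  Lgr Lrot127 (Lpr_bf (f590728 IH) (Lpn (LP (LK LD1_c31 LD2_c44 LD3_c18))))
theorem f612367 : Led Lsl_ft (LP (LK LD1_c31 LD2_c44 LD3_c18)) = (LP (LK LD1_c28 LD2_c2 LD3_c8)) :=
  Lgr Lrot75 (Lpe (f590730 IH) (Lpr_ff (K45.f587911 IH) (Lpr_bf (K72.f612354 IH) (Lpn (LP (LK LD1_c28 LD2_c2 LD3_c8))))))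
theorem f612443 : Led Lsl_ff (LP (LK LD1_c31 LD2_c44 LD3_c18)) = (LP (LK LD1_c28 LD2_c2 LD3_c8)) :=
  Lgr Lrot3 (Lpr_ft (f612367 IH) (Lpn (LP (LK LD1_c28 LD2_c2 LD3_c8))))
theorem f612445 : Led Lsl_ft (LP (LK LD1_c25 LD2_c0 LD3_c20)) = (LP (LK LD1_c18 LD2_c27 LD3_c3)) :=
  Lgr Lrot4 (Lpe (f240585 IH) (Lpr_ff (f612443 IH) (Lpe (K72.f239739 IH) (Lpn (LP (LK LD1_c18 LD2_c27 LD3_c3))))))
theorem f180786 : Led Lsl_bt (LP (LK LD1_c4 LD2_c1 LD3_c50)) = (LP (LK LD1_c8 LD2_c4 LD3_c16)) :=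
  Lre_b IH (LK LD1_c4 LD2_c1 LD3_c50) (LK LD1_c8 LD2_c4 LD3_c16) Lrfl Lrfl
theorem f180787 : Led Lsl_gt (LP (LK LD1_c8 LD2_c4 LD3_c16)) = (LP (LK LD1_c15 LD2_c11 LD3_c41)) :=
  Lre_g IH (LK LD1_c8 LD2_c4 LD3_c16) (LK LD1_c15 LD2_c11 LD3_c41) Lrfl Lrfl
theorem f240582 : Led Lsl_ct (LP (LK LD1_c25 LD2_c0 LD3_c20)) = (LP (LK LD1_c31 LD2_c44 LD3_c18)) :=
  Lre_c IH (LK LD1_c25 LD2_c0 LD3_c20) (LK LD1_c31 LD2_c44 LD3_c18) Lrfl Lrfl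
theorem f590734 : Led Lsl_dt (LP (LK LD1_c15 LD2_c11 LD3_c41)) = (LP (LK LD1_c25 LD2_c0 LD3_c20)) :=
  Lgr Lrot182 (Lpe (f180787 IH) (Lpe (f180786 IH) (Lpe (K10.f180783 IH) (Lpe (K10.f193188 IH) (Lpr_gf (K12.f193261 IH) (Lpr_bf (K13.f240302 IH) (Lpe (K16.f166692 IH) (Lpe (K9.f177148 IH) (Lpr_gf (K9.f181104 IH) (Lpe (K12.f20480 IH) (Lpe (K11.f171680 IH) (Lpe (K11.f181110 IH) (Lpe (K11.f181111 IH) (Lpe (K42.f181112 IH) (Lpe (K45.f181113 IH) (Lpe (K45.f181114 IH) (Lpr_gf (K45.f590726 IH) (Lpr_bf (f590728 IH) (Lpe (f240582 IH) (Lpn (LP (LK LD1_c25 LD2_c0 LD3_c20))))))))))))))))))))))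
theorem f612449 : Led Lsl_ff (LP (LK LD1_c15 LD2_c11 LD3_c41)) = (LP (LK LD1_c10 LD2_c8 LD3_c20)) :=
  Lgr Lrot19 (Lpr_dt (f590734 IH) (Lpr_ft (f612445 IH) (Lpe (K72.f612373 IH) (Lpn (LP (LK LD1_c10 LD2_c8 LD3_c20))))))
theorem f612582 : Led Lsl_at (LP (LK LD1_c15 LD2_c11 LD3_c41)) = (LP (LK LD1_c10 LD2_c8 LD3_c21)) :=
  Lgr Lrot26 (Lpr_ff (f612449 IH) (Lpe (K37.f408563 IH) (Lpr_gt (K44.f350954 IH) (Lpn (LP (LK LD1_c10 LD2_c8 LD3_c21))))))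
theorem f166110 : Led Lsl_bt (LP (LK LD1_c10 LD2_c22 LD3_c43)) = (LP (LK LD1_c5 LD2_c16 LD3_c37)) :=
  Lre_b IH (LK LD1_c10 LD2_c22 LD3_c43) (LK LD1_c5 LD2_c16 LD3_c37) Lrfl Lrfl
theorem f603824 : Led Lsl_cf (LP (LK LD1_c10 LD2_c22 LD3_c43)) = (LP (LK LD1_c18 LD2_c29 LD3_c15)) :=
  Lgr Lrot97 (Lpr_bt (f166110 IH) (Lpr_ct (K53.f35081 IH) (Lpr_bt (K44.f166100 IH) (Lpr_ct (K53.f603816 IH) (Lpr_bt (K53.f603710 IH) (Lpn (LP (LK LD1_c18 LD2_c29 LD3_c15))))))))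
theorem f180894 : Led Lsl_gt (LP (LK LD1_c18 LD2_c49 LD3_c56)) = (LP (LK LD1_c10 LD2_c22 LD3_c43)) :=
  Lre_g IH (LK LD1_c18 LD2_c49 LD3_c56) (LK LD1_c10 LD2_c22 LD3_c43) Lrfl Lrfl
theorem f603818 : Led Lsl_bt (LP (LK LD1_c18 LD2_c29 LD3_c15)) = (LP (LK LD1_c10 LD2_c9 LD3_c3)) :=
  Lre_b IH (LK LD1_c18 LD2_c29 LD3_c15) (LK LD1_c10 LD2_c9 LD3_c3) Lrfl Lrfl
theorem f34330 : Led Lsl_bt (LP (LK LD1_c2 LD2_c31 LD3_c48)) = (LP (LK LD1_c5 LD2_c9 LD3_c19)) :=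
  Lre_b IH (LK LD1_c2 LD2_c31 LD3_c48) (LK LD1_c5 LD2_c9 LD3_c19) Lrfl Lrfl
theorem f604108 : Led Lsl_cf (LP (LK LD1_c18 LD2_c49 LD3_c56)) = (LP (LK LD1_c15 LD2_c11 LD3_c41)) :=
  Lgr Lrot125 (Lpr_gt (f180894 IH) (Lpr_cf (f603824 IH) (Lpr_bt (f603818 IH) (Lpe (K53.f603813 IH) (Lpe (f34330 IH) (Lpr_ct (K13.f33979 IH) (Lpr_gt (K10.f180781 IH) (Lpe (K13.f33703 IH) (Lpr_bt (f180786 IH) (Lpr_gt (f180787 IH) (Lpn (LP (LK LD1_c15 LD2_c11 LD3_c41)))))))))))))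
theorem f604110 : Led Lsl_ct (LP (LK LD1_c18 LD2_c49 LD3_c56)) = (LP (LK LD1_c15 LD2_c11 LD3_c41)) :=
  Lgr Lrot59 (Lpr_cf (f604108 IH) (Lpn (LP (LK LD1_c15 LD2_c11 LD3_c41))))
theorem f343080 : Led Lsl_ct (LP (LK LD1_c10 LD2_c8 LD3_c21)) = (LP (LK LD1_c18 LD2_c28 LD3_c4)) :=
  Lre_c IH (LK LD1_c10 LD2_c8 LD3_c21) (LK LD1_c18 LD2_c28 LD3_c4) Lrfl Lrfl
theorem f612586 : Led Lsl_af (LP (LK LD1_c18 LD2_c49 LD3_c56)) = (LP (LK LD1_c18 LD2_c28 LD3_c4)) :=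
  Lgr Lrot68 (Lpr_ct (f604110 IH) (Lpr_at (f612582 IH) (Lpr_ct (f343080 IH) (Lpn (LP (LK LD1_c18 LD2_c28 LD3_c4))))))
theorem f603826 : Led Lsl_cf (LP (LK LD1_c5 LD2_c16 LD3_c36)) = (LP (LK LD1_c10 LD2_c9 LD3_c3)) :=
  Lgr Lrot11 (Lpr_ct (K53.f603816 IH) (Lpn (LP (LK LD1_c10 LD2_c9 LD3_c3))))
theorem f259060 : Led Lsl_ct (LP (LK LD1_c15 LD2_c11 LD3_c27)) = (LP (LK LD1_c18 LD2_c15 LD3_c52)) :=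
  Lgr Lrot59 (Lpr_cf (K37.f259057 IH) (Lpn (LP (LK LD1_c18 LD2_c15 LD3_c52))))
theorem f585814 : Led Lsl_bf (LP (LK LD1_c15 LD2_c11 LD3_c27)) = (LP (LK LD1_c10 LD2_c13 LD3_c38)) :=
  Lgr Lrot90 (Lpr_ct (f259060 IH) (Lpr_bt (K37.f166002 IH) (Lpe (K44.f405271 IH) (Lpr_bt (K44.f405274 IH) (Lpr_ct (K44.f585809 IH) (Lpn (LP (LK LD1_c10 LD2_c13 LD3_c38))))))))
theorem f343171 : Led Lsl_ft (LP (LK LD1_c24 LD2_c47 LD3_c58)) = (LP (LK LD1_c18 LD2_c47 LD3_c7)) :=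
  Lgr Lrot101 (Lpe (K26.f214968 IH) (Lpr_ff (K26.f343158 IH) (Lpe (K37.f342914 IH) (Lpn (LP (LK LD1_c18 LD2_c47 LD3_c7))))))
theorem f49861 : Led Lsl_gt (LP (LK LD1_c18 LD2_c47 LD3_c6)) = (LP (LK LD1_c10 LD2_c21 LD3_c3)) :=
  Lre_g IH (LK LD1_c18 LD2_c47 LD3_c6) (LK LD1_c10 LD2_c21 LD3_c3) Lrfl Lrfl
theorem f343291 : Led Lsl_gt (LP (LK LD1_c24 LD2_c47 LD3_c58)) = (LP (LK LD1_c18 LD2_c47 LD3_c6)) :=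
  Lgr Lrot5 (Lpr_ft (f343171 IH) (Lpr_at (K37.f342914 IH) (Lpe (f49861 IH) (Lpn (LP (LK LD1_c18 LD2_c47 LD3_c6))))))
theorem f197164 : Led Lsl_bt (LP (LK LD1_c5 LD2_c8 LD3_c56)) = (LP (LK LD1_c10 LD2_c8 LD3_c14)) :=
  Lre_b IH (LK LD1_c5 LD2_c8 LD3_c56) (LK LD1_c10 LD2_c8 LD3_c14) Lrfl Lrfl
theorem f197165 : Led Lsl_gt (LP (LK LD1_c10 LD2_c8 LD3_c14)) = (LP (LK LD1_c18 LD2_c27 LD3_c50)) :=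
  Lre_g IH (LK LD1_c10 LD2_c8 LD3_c14) (LK LD1_c18 LD2_c27 LD3_c50) Lrfl Lrfl
theorem f197166 : Led Lsl_bt (LP (LK LD1_c28 LD2_c2 LD3_c37)) = (LP (LK LD1_c18 LD2_c27 LD3_c50)) :=
  Lre_b IH (LK LD1_c28 LD2_c2 LD3_c37) (LK LD1_c18 LD2_c27 LD3_c50) Lrfl Lrfl
theorem f197167 : Led Lsl_cf (LP (LK LD1_c18 LD2_c47 LD3_c6)) = (LP (LK LD1_c28 LD2_c2 LD3_c37)) :=
  Lgr Lrot160 (Lpr_gt (f49861 IH) (Lpe (K26.f49860 IH) (Lpr_bt (K37.f49856 IH) (Lpe (K10.f49849 IH) (Lpr_ct (K10.f49482 IH) (Lpr_gt (K10.f197154 IH) (Lpe (K15.f33992 IH) (Lpr_bt (f197164 IH) (Lpr_gt (f197165 IH) (Lpe (f197166 IH) (Lpn (LP (LK LD1_c28 LD2_c2 LD3_c37)))))))))))))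
theorem f350957 : Led Lsl_gf (LP (LK LD1_c10 LD2_c21 LD3_c33)) = (LP (LK LD1_c18 LD2_c27 LD3_c50)) :=
  Lgr Lrot181 (Lpr_ct (K37.f180846 IH) (Lpr_gt (K44.f350954 IH) (Lpe (K44.f197159 IH) (Lpr_bt (K44.f232008 IH) (Lpr_gt (K44.f343078 IH) (Lpe (K26.f343209 IH) (Lpr_ct (K44.f214843 IH) (Lpr_gt (f343291 IH) (Lpr_cf (f197167 IH) (Lpr_bt (f197166 IH) (Lpn (LP (LK LD1_c18 LD2_c27 LD3_c50)))))))))))))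
theorem f350963 : Led Lsl_ct (LP (LK LD1_c28 LD2_c2 LD3_c38)) = (LP (LK LD1_c18 LD2_c27 LD3_c50)) :=
  Lre_c IH (LK LD1_c28 LD2_c2 LD3_c38) (LK LD1_c18 LD2_c27 LD3_c50) Lrfl Lrfl
theorem f604071 : Led Lsl_gf (LP (LK LD1_c28 LD2_c2 LD3_c38)) = (LP (LK LD1_c18 LD2_c29 LD3_c15)) :=
  Lgr Lrot181 (Lpr_ct (f350963 IH) (Lpe (f350957 IH) (Lpr_cf (K37.f180863 IH) (Lpr_bt (K44.f351157 IH) (Lpe (K37.f351161 IH) (Lpr_bf (f585814 IH) (Lpe (f585816 IH) (Lpr_gt (K44.f166101 IH) (Lpr_cf (f603826 IH) (Lpr_bt (K53.f603710 IH) (Lpn (LP (LK LD1_c18 LD2_c29 LD3_c15)))))))))))))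
theorem f603733 : Led Lsl_ft (LP (LK LD1_c18 LD2_c29 LD3_c15)) = (LP (LK LD1_c10 LD2_c9 LD3_c9)) :=
  Lre_f IH (LK LD1_c18 LD2_c29 LD3_c15) (LK LD1_c10 LD2_c9 LD3_c9) Lrfl Lrfl
theorem f603734 : Led Lsl_at (LP (LK LD1_c10 LD2_c9 LD3_c9)) = (LP (LK LD1_c18 LD2_c29 LD3_c32)) :=
  Lre_a IH (LK LD1_c10 LD2_c9 LD3_c9) (LK LD1_c18 LD2_c29 LD3_c32) Lrfl Lrfl
theorem f604073 : Led Lsl_gt (LP (LK LD1_c28 LD2_c2 LD3_c38)) = (LP (LK LD1_c18 LD2_c29 LD3_c32)) :=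
  Lgr Lrot46 (Lpr_gf (f604071 IH) (Lpr_ft (f603733 IH) (Lpr_at (f603734 IH) (Lpn (LP (LK LD1_c18 LD2_c29 LD3_c32))))))
theorem f197172 : Led Lsl_ct (LP (LK LD1_c18 LD2_c27 LD3_c50)) = (LP (LK LD1_c28 LD2_c2 LD3_c38)) :=
  Lre_c IH (LK LD1_c18 LD2_c27 LD3_c50) (LK LD1_c28 LD2_c2 LD3_c38) Lrfl Lrfl
theorem f49953 : Led Lsl_gt (LP (LK LD1_c15 LD2_c50 LD3_c57)) = (LP (LK LD1_c8 LD2_c26 LD3_c19)) :=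
  Lre_g IH (LK LD1_c15 LD2_c50 LD3_c57) (LK LD1_c8 LD2_c26 LD3_c19) Lrfl Lrfl
theorem f184012 : Led Lsl_bt (LP (LK LD1_c25 LD2_c46 LD3_c52)) = (LP (LK LD1_c15 LD2_c50 LD3_c57)) :=
  Lre_b IH (LK LD1_c25 LD2_c46 LD3_c52) (LK LD1_c15 LD2_c50 LD3_c57) Lrfl Lrfl
theorem f604077 : Led Lsl_ct (LP (LK LD1_c25 LD2_c46 LD3_c52)) = (LP (LK LD1_c18 LD2_c29 LD3_c32)) :=
  Lgr Lrot63 (Lpr_bt (f184012 IH) (Lpr_gt (f49953 IH) (Lpe (K44.f49515 IH) (Lpr_ct (K10.f49482 IH) (Lpr_gt (K10.f197154 IH) (Lpe (K15.f33992 IH) (Lpr_bt (f197164 IH) (Lpr_gt (f197165 IH) (Lpr_ct (f197172 IH) (Lpr_gt (f604073 IH) (Lpn (LP (LK LD1_c18 LD2_c29 LD3_c32)))))))))))))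
theorem f603718 : Led Lsl_ff (LP (LK LD1_c26 LD2_c32 LD3_c59)) = (LP (LK LD1_c18 LD2_c29 LD3_c32)) :=
  Lgr Lrot3 (Lpr_ft (K53.f603715 IH) (Lpn (LP (LK LD1_c18 LD2_c29 LD3_c32))))
theorem f603952 : Led Lsl_ft (LP (LK LD1_c10 LD2_c22 LD3_c46)) = (LP (LK LD1_c5 LD2_c16 LD3_c37)) :=
  Lre_f IH (LK LD1_c10 LD2_c22 LD3_c46) (LK LD1_c5 LD2_c16 LD3_c37) Lrfl Lrfl
theorem f180891 : Led Lsl_bt (LP (LK LD1_c5 LD2_c16 LD3_c37)) = (LP (LK LD1_c10 LD2_c22 LD3_c43)) :=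
  Lre_b IH (LK LD1_c5 LD2_c16 LD3_c37) (LK LD1_c10 LD2_c22 LD3_c43) Lrfl Lrfl
theorem f603963 : Led Lsl_ft (LP (LK LD1_c10 LD2_c22 LD3_c43)) = (LP (LK LD1_c18 LD2_c29 LD3_c33)) :=
  Lgr Lrot75 (Lpe (f180891 IH) (Lpe (f603952 IH) (Lpr_bf (K53.f603957 IH) (Lpn (LP (LK LD1_c18 LD2_c29 LD3_c33))))))
theorem f603966 : Led Lsl_ff (LP (LK LD1_c10 LD2_c22 LD3_c43)) = (LP (LK LD1_c18 LD2_c29 LD3_c33)) :=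
  Lgr Lrot3 (Lpr_ft (f603963 IH) (Lpn (LP (LK LD1_c18 LD2_c29 LD3_c33))))
theorem f165383 : Led Lsl_ct (LP (LK LD1_c10 LD2_c9 LD3_c9)) = (LP (LK LD1_c18 LD2_c29 LD3_c33)) :=
  Lre_c IH (LK LD1_c10 LD2_c9 LD3_c9) (LK LD1_c18 LD2_c29 LD3_c33) Lrfl Lrfl
theorem f603970 : Led Lsl_ct (LP (LK LD1_c10 LD2_c22 LD3_c43)) = (LP (LK LD1_c18 LD2_c29 LD3_c15)) :=
  Lgr Lrot40 (Lpr_ff (f603966 IH) (Lpe (f165383 IH) (Lpe (f603733 IH) (Lpn (LP (LK LD1_c18 LD2_c29 LD3_c15))))))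
theorem f603965 : Led Lsl_at (LP (LK LD1_c18 LD2_c49 LD3_c57)) = (LP (LK LD1_c10 LD2_c22 LD3_c43)) :=
  Lre_a IH (LK LD1_c18 LD2_c49 LD3_c57) (LK LD1_c10 LD2_c22 LD3_c43) Lrfl Lrfl
theorem f603975 : Led Lsl_cf (LP (LK LD1_c18 LD2_c49 LD3_c57)) = (LP (LK LD1_c26 LD2_c32 LD3_c59)) :=
  Lgr Lrot1 (Lpr_at (f603965 IH) (Lpr_ct (f603970 IH) (Lpe (K53.f603705 IH) (Lpn (LP (LK LD1_c26 LD2_c32 LD3_c59))))))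
theorem f604084 : Led Lsl_ff (LP (LK LD1_c25 LD2_c46 LD3_c52)) = (LP (LK LD1_c18 LD2_c49 LD3_c57)) :=
  Lgr Lrot23 (Lpr_ct (f604077 IH) (Lpe (f603718 IH) (Lpe (f603975 IH) (Lpn (LP (LK LD1_c18 LD2_c49 LD3_c57))))))
theorem f604088 : Led Lsl_ft (LP (LK LD1_c25 LD2_c46 LD3_c52)) = (LP (LK LD1_c18 LD2_c49 LD3_c57)) :=
  Lgr Lrot48 (Lpr_ff (f604084 IH) (Lpn (LP (LK LD1_c18 LD2_c49 LD3_c57))))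
theorem f604090 : Led Lsl_gt (LP (LK LD1_c25 LD2_c46 LD3_c52)) = (LP (LK LD1_c18 LD2_c49 LD3_c56)) :=
  Lgr Lrot5 (Lpr_ft (f604088 IH) (Lpr_at (f603965 IH) (Lpe (f180894 IH) (Lpn (LP (LK LD1_c18 LD2_c49 LD3_c56))))))
theorem f604079 : Led Lsl_af (LP (LK LD1_c25 LD2_c46 LD3_c52)) = (LP (LK LD1_c18 LD2_c29 LD3_c33)) :=
  Lgr Lrot68 (Lpr_ct (f604077 IH) (Lpr_at (K53.f603714 IH) (Lpr_ct (f165383 IH) (Lpn (LP (LK LD1_c18 LD2_c29 LD3_c33))))))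
theorem f180892 : Led Lsl_gt (LP (LK LD1_c10 LD2_c22 LD3_c43)) = (LP (LK LD1_c18 LD2_c46 LD3_c41)) :=
  Lgr Lrot82 (Lpe (f180891 IH) (Lpr_ct (K53.f35081 IH) (Lpe (K44.f48580 IH) (Lpe (K53.f35076 IH) (Lpr_bt (K53.f48496 IH) (Lpe (K10.f45519 IH) (Lpe (K37.f32529 IH) (Lpr_ct (K37.f180771 IH) (Lpe (K37.f180857 IH) (Lpe (K37.f180889 IH) (Lpn (LP (LK LD1_c18 LD2_c46 LD3_c41)))))))))))))
theorem f604106 : Led Lsl_gf (LP (LK LD1_c25 LD2_c46 LD3_c52)) = (LP (LK LD1_c18 LD2_c46 LD3_c41)) :=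
  Lgr Lrot76 (Lpr_af (f604079 IH) (Lpe (f603963 IH) (Lpr_gt (f180892 IH) (Lpn (LP (LK LD1_c18 LD2_c46 LD3_c41))))))
theorem f612602 : Led Lsl_ft (LP (LK LD1_c18 LD2_c46 LD3_c41)) = (LP (LK LD1_c18 LD2_c28 LD3_c4)) :=
  Lgr Lrot2 (Lpe (f604106 IH) (Lpr_gt (f604090 IH) (Lpr_af (f612586 IH) (Lpn (LP (LK LD1_c18 LD2_c28 LD3_c4))))))
theorem f612610 : Led Lsl_ff (LP (LK LD1_c18 LD2_c46 LD3_c41)) = (LP (LK LD1_c18 LD2_c28 LD3_c4)) :=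
  Lgr Lrot3 (Lpr_ft (f612602 IH) (Lpn (LP (LK LD1_c18 LD2_c28 LD3_c4))))
theorem f603968 : Led Lsl_at (LP (LK LD1_c10 LD2_c22 LD3_c43)) = (LP (LK LD1_c18 LD2_c49 LD3_c57)) :=
  Lre_a IH (LK LD1_c10 LD2_c22 LD3_c43) (LK LD1_c18 LD2_c49 LD3_c57) Lrfl Lrfl
theorem f34289 : Led Lsl_bt (LP (LK LD1_c10 LD2_c9 LD3_c9)) = (LP (LK LD1_c5 LD2_c9 LD3_c16)) :=
  Lre_b IH (LK LD1_c10 LD2_c9 LD3_c9) (LK LD1_c5 LD2_c9 LD3_c16) Lrfl Lrfl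
theorem f603930 : Led Lsl_bt (LP (LK LD1_c10 LD2_c22 LD3_c46)) = (LP (LK LD1_c18 LD2_c29 LD3_c33)) :=
  Lgr Lrot128 (Lpe (K53.f603860 IH) (Lpr_bf (K53.f603875 IH) (Lpe (K53.f34352 IH) (Lpe (f34289 IH) (Lpe (K53.f34290 IH) (Lpn (LP (LK LD1_c18 LD2_c29 LD3_c33))))))))
theorem f35071 : Led Lsl_bt (LP (LK LD1_c5 LD2_c16 LD3_c8)) = (LP (LK LD1_c2 LD2_c34 LD3_c53)) :=
  Lre_b IH (LK LD1_c5 LD2_c16 LD3_c8) (LK LD1_c2 LD2_c34 LD3_c53) Lrfl Lrfl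
theorem f603947 : Led Lsl_gt (LP (LK LD1_c18 LD2_c29 LD3_c33)) = (LP (LK LD1_c18 LD2_c28 LD3_c4)) :=
  Lgr Lrot82 (Lpe (f603930 IH) (Lpr_ct (K53.f603858 IH) (Lpr_gf (K53.f603938 IH) (Lpe (K53.f35038 IH) (Lpr_bt (f35071 IH) (Lpr_gf (K10.f197063 IH) (Lpe (K37.f197066 IH) (Lpr_ct (K37.f197067 IH) (Lpe (K44.f33996 IH) (Lpe (K44.f197159 IH) (Lpn (LP (LK LD1_c18 LD2_c28 LD3_c4)))))))))))))
theorem f603973 : Led Lsl_gf (LP (LK LD1_c18 LD2_c49 LD3_c57)) = (LP (LK LD1_c18 LD2_c28 LD3_c4)) :=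
  Lgr Lrot76 (Lpe (f603968 IH) (Lpr_ff (f603966 IH) (Lpr_gt (f603947 IH) (Lpn (LP (LK LD1_c18 LD2_c28 LD3_c4))))))
theorem f405729 : Led Lsl_ff (LP (LK LD1_c18 LD2_c36 LD3_c59)) = (LP (LK LD1_c15 LD2_c14 LD3_c49)) :=
  Lgr Lrot3 (Lpr_ft (K53.f405725 IH) (Lpn (LP (LK LD1_c15 LD2_c14 LD3_c49))))
theorem f405731 : Led Lsl_ft (LP (LK LD1_c10 LD2_c13 LD3_c39)) = (LP (LK LD1_c18 LD2_c37 LD3_c0)) :=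
  Lre_f IH (LK LD1_c10 LD2_c13 LD3_c39) (LK LD1_c18 LD2_c37 LD3_c0) Lrfl Lrfl
theorem f405732 : Led Lsl_at (LP (LK LD1_c18 LD2_c37 LD3_c0)) = (LP (LK LD1_c15 LD2_c14 LD3_c49)) :=
  Lgr Lrot66 (Lpe (f405731 IH) (Lpe (K53.f405600 IH) (Lpr_ff (f405729 IH) (Lpn (LP (LK LD1_c15 LD2_c14 LD3_c49))))))
theorem f405737 : Led Lsl_gt (LP (LK LD1_c18 LD2_c28 LD3_c0)) = (LP (LK LD1_c15 LD2_c14 LD3_c49)) :=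
  Lgr Lrot46 (Lpe (K71.f181071 IH) (Lpr_ft (f405731 IH) (Lpr_at (f405732 IH) (Lpn (LP (LK LD1_c15 LD2_c14 LD3_c49))))))
theorem f197098 : Led Lsl_ct (LP (LK LD1_c10 LD2_c8 LD3_c20)) = (LP (LK LD1_c18 LD2_c28 LD3_c1)) :=
  Lre_c IH (LK LD1_c10 LD2_c8 LD3_c20) (LK LD1_c18 LD2_c28 LD3_c1) Lrfl Lrfl
theorem f603983 : Led Lsl_gt (LP (LK LD1_c18 LD2_c49 LD3_c57)) = (LP (LK LD1_c18 LD2_c28 LD3_c1)) :=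
  Lgr Lrot149 (Lpr_cf (f603975 IH) (Lpr_gf (K53.f603702 IH) (Lpe (K53.f351210 IH) (Lpe (K53.f603696 IH) (Lpr_gf (K53.f405784 IH) (Lpe (K53.f233531 IH) (Lpr_bt (K53.f233543 IH) (Lpe (f405737 IH) (Lpe (K37.f197121 IH) (Lpr_ct (f197098 IH) (Lpn (LP (LK LD1_c18 LD2_c28 LD3_c1)))))))))))))
theorem f612616 : Led Lsl_at (LP (LK LD1_c18 LD2_c46 LD3_c41)) = (LP (LK LD1_c18 LD2_c28 LD3_c1)) :=
  Lgr Lrot26 (Lpr_ff (f612610 IH) (Lpe (f603973 IH) (Lpr_gt (f603983 IH) (Lpn (LP (LK LD1_c18 LD2_c28 LD3_c1))))))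
theorem f612600 : Led Lsl_at (LP (LK LD1_c18 LD2_c49 LD3_c56)) = (LP (LK LD1_c18 LD2_c28 LD3_c4)) :=
  Lgr Lrot100 (Lpr_af (f612586 IH) (Lpn (LP (LK LD1_c18 LD2_c28 LD3_c4))))
theorem f612623 : Led Lsl_ff (LP (LK LD1_c18 LD2_c49 LD3_c56)) = (LP (LK LD1_c18 LD2_c28 LD3_c1)) :=
  Lgr Lrot30 (Lpr_at (f612600 IH) (Lpe (f612610 IH) (Lpr_at (f612616 IH) (Lpn (LP (LK LD1_c18 LD2_c28 LD3_c1))))))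
theorem f192038 : Led Lsl_gt (LP (LK LD1_c18 LD2_c56 LD3_c54)) = (LP (LK LD1_c10 LD2_c26 LD3_c61)) :=
  Lre_g IH (LK LD1_c18 LD2_c56 LD3_c54) (LK LD1_c10 LD2_c26 LD3_c61) Lrfl Lrfl
theorem f585949 : Led Lsl_ct (LP (LK LD1_c17 LD2_c38 LD3_c18)) = (LP (LK LD1_c18 LD2_c56 LD3_c54)) :=
  Lgr Lrot91 (Lpe (K44.f33391 IH) (Lpe (K15.f33368 IH) (Lpr_ct (K14.f33362 IH) (Lpr_gf (K10.f33356 IH) (Lpe (K0.f3311 IH) (Lpr_bt (K44.f33392 IH) (Lpr_gf (K44.f585943 IH) (Lpe (K71.f585948 IH) (Lpe (f585929 IH) (Lpe (f192038 IH) (Lpn (LP (LK LD1_c18 LD2_c56 LD3_c54)))))))))))))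
theorem f585955 : Led Lsl_cf (LP (LK LD1_c17 LD2_c38 LD3_c18)) = (LP (LK LD1_c18 LD2_c56 LD3_c54)) :=
  Lgr Lrot11 (Lpr_ct (f585949 IH) (Lpn (LP (LK LD1_c18 LD2_c56 LD3_c54))))
theorem f333191 : Led Lsl_ct (LP (LK LD1_c18 LD2_c5 LD3_c49)) = (LP (LK LD1_c9 LD2_c53 LD3_c27)) :=
  Lre_c IH (LK LD1_c18 LD2_c5 LD3_c49) (LK LD1_c9 LD2_c53 LD3_c27) Lrfl Lrfl
theorem f402308 : Led Lsl_gt (LP (LK LD1_c10 LD2_c25 LD3_c46)) = (LP (LK LD1_c18 LD2_c51 LD3_c48)) :=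
  Lgr Lrot5 (Lpr_ft (K37.f322005 IH) (Lpr_at (K22.f321968 IH) (Lpe (K45.f184193 IH) (Lpn (LP (LK LD1_c18 LD2_c51 LD3_c48))))))
theorem f181036 : Led Lsl_ct (LP (LK LD1_c10 LD2_c20 LD3_c51)) = (LP (LK LD1_c18 LD2_c46 LD3_c45)) :=
  Lre_c IH (LK LD1_c10 LD2_c20 LD3_c51) (LK LD1_c18 LD2_c46 LD3_c45) Lrfl Lrfl
theorem f181005 : Led Lsl_bt (LP (LK LD1_c18 LD2_c46 LD3_c44)) = (LP (LK LD1_c10 LD2_c20 LD3_c51)) :=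
  Lre_b IH (LK LD1_c18 LD2_c46 LD3_c44) (LK LD1_c10 LD2_c20 LD3_c51) Lrfl Lrfl
theorem f181037 : Led Lsl_ct (LP (LK LD1_c28 LD2_c16 LD3_c18)) = (LP (LK LD1_c18 LD2_c46 LD3_c44)) :=
  Lre_c IH (LK LD1_c28 LD2_c16 LD3_c18) (LK LD1_c18 LD2_c46 LD3_c44) Lrfl Lrfl
theorem f585953 : Led Lsl_bf (LP (LK LD1_c28 LD2_c16 LD3_c18)) = (LP (LK LD1_c18 LD2_c56 LD3_c54)) :=
  Lgr Lrot90 (Lpr_ct (f181037 IH) (Lpr_bt (f181005 IH) (Lpr_ct (f181036 IH) (Lpr_bt (K44.f181032 IH) (Lpr_ct (f585949 IH) (Lpn (LP (LK LD1_c18 LD2_c56 LD3_c54))))))))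
theorem f181006 : Led Lsl_ct (LP (LK LD1_c18 LD2_c46 LD3_c44)) = (LP (LK LD1_c28 LD2_c16 LD3_c18)) :=
  Lre_c IH (LK LD1_c18 LD2_c46 LD3_c44) (LK LD1_c28 LD2_c16 LD3_c18) Lrfl Lrfl
theorem f585777 : Led Lsl_gf (LP (LK LD1_c28 LD2_c16 LD3_c18)) = (LP (LK LD1_c28 LD2_c14 LD3_c61)) :=
  Lgr Lrot129 (Lpe (f181006 IH) (Lpr_bt (f181005 IH) (Lpr_gt (K44.f180999 IH) (Lpe (K23.f180886 IH) (Lpr_ct (K21.f45504 IH) (Lpr_gt (K10.f32342 IH) (Lpe (K10.f32556 IH) (Lpr_bt (K44.f32509 IH) (Lpr_gt (K44.f585760 IH) (Lpr_ct (K44.f585776 IH) (Lpn (LP (LK LD1_c28 LD2_c14 LD3_c61)))))))))))))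
theorem f585959 : Led Lsl_gt (LP (LK LD1_c26 LD2_c32 LD3_c23)) = (LP (LK LD1_c28 LD2_c24 LD3_c34)) :=
  Lgr Lrot149 (Lpe (K45.f418922 IH) (Lpe (f402308 IH) (Lpr_bf (K71.f333253 IH) (Lpr_ct (f333191 IH) (Lpr_gf (K44.f333230 IH) (Lpr_cf (f585955 IH) (Lpe (f585953 IH) (Lpr_gf (f585777 IH) (Lpr_bf (K72.f585795 IH) (Lpe (K44.f585790 IH) (Lpn (LP (LK LD1_c28 LD2_c24 LD3_c34)))))))))))))
theorem f585966 : Led Lsl_gf (LP (LK LD1_c18 LD2_c51 LD3_c55)) = (LP (LK LD1_c18 LD2_c46 LD3_c44)) :=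
  Lgr Lrot129 (Lpe (K37.f32838 IH) (Lpr_bt (K44.f197108 IH) (Lpe (K44.f583746 IH) (Lpe (K69.f583821 IH) (Lpr_ct (K45.f418922 IH) (Lpr_gt (f585959 IH) (Lpr_cf (K44.f585790 IH) (Lpe (K72.f585795 IH) (Lpe (f585777 IH) (Lpr_ct (f181037 IH) (Lpn (LP (LK LD1_c18 LD2_c46 LD3_c44)))))))))))))
theorem f584357 : Led Lsl_ff (LP (LK LD1_c25 LD2_c46 LD3_c47)) = (LP (LK LD1_c18 LD2_c51 LD3_c60)) :=
  Lgr Lrot25 (Lpr_bt (K53.f212513 IH) (Lpr_ft (K44.f584345 IH) (Lpr_bt (K44.f418906 IH) (Lpn (LP (LK LD1_c18 LD2_c51 LD3_c60))))))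
theorem f585968 : Led Lsl_gt (LP (LK LD1_c18 LD2_c51 LD3_c60)) = (LP (LK LD1_c18 LD2_c46 LD3_c44)) :=
  Lgr Lrot5 (Lpe (f584357 IH) (Lpe (K44.f584432 IH) (Lpr_gf (f585966 IH) (Lpn (LP (LK LD1_c18 LD2_c46 LD3_c44))))))
theorem f585970 : Led Lsl_at (LP (LK LD1_c28 LD2_c16 LD3_c17)) = (LP (LK LD1_c18 LD2_c46 LD3_c44)) :=
  Lre_a IH (LK LD1_c28 LD2_c16 LD3_c17) (LK LD1_c18 LD2_c46 LD3_c44) Lrfl Lrfl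
theorem f585971 : Led Lsl_ft (LP (LK LD1_c28 LD2_c2 LD3_c51)) = (LP (LK LD1_c28 LD2_c16 LD3_c17)) :=
  Lgr Lrot2 (Lpe (K37.f197071 IH) (Lpr_gt (f585968 IH) (Lpe (f585970 IH) (Lpn (LP (LK LD1_c28 LD2_c16 LD3_c17))))))
theorem f585973 : Led Lsl_ff (LP (LK LD1_c28 LD2_c2 LD3_c51)) = (LP (LK LD1_c28 LD2_c16 LD3_c17)) :=
  Lgr Lrot3 (Lpr_ft (f585971 IH) (Lpn (LP (LK LD1_c28 LD2_c16 LD3_c17))))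
theorem f612625 : Led Lsl_bt (LP (LK LD1_c18 LD2_c49 LD3_c56)) = (LP (LK LD1_c28 LD2_c16 LD3_c17)) :=
  Lgr Lrot35 (Lpr_ff (f612623 IH) (Lpe (K37.f197120 IH) (Lpr_ff (f585973 IH) (Lpn (LP (LK LD1_c28 LD2_c16 LD3_c17))))))
theorem f612635 : Led Lsl_gf (LP (LK LD1_c25 LD2_c46 LD3_c47)) = (LP (LK LD1_c28 LD2_c16 LD3_c17)) :=
  Lgr Lrot124 (Lpe (K44.f584338 IH) (Lpr_ct (K44.f584323 IH) (Lpe (K44.f299707 IH) (Lpe (K44.f584316 IH) (Lpr_bt (K44.f180881 IH) (Lpr_gt (K37.f180862 IH) (Lpr_ct (K37.f180771 IH) (Lpr_gt (f180787 IH) (Lpe (f604110 IH) (Lpr_bt (f612625 IH) (Lpn (LP (LK LD1_c28 LD2_c16 LD3_c17)))))))))))))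
theorem f252876 : Led Lsl_ct (LP (LK LD1_c18 LD2_c16 LD3_c16)) = (LP (LK LD1_c9 LD2_c59 LD3_c47)) :=
  Lre_c IH (LK LD1_c18 LD2_c16 LD3_c16) (LK LD1_c9 LD2_c59 LD3_c47) Lrfl Lrfl
theorem f252852 : Led Lsl_gt (LP (LK LD1_c15 LD2_c36 LD3_c19)) = (LP (LK LD1_c8 LD2_c17 LD3_c52)) :=
  Lre_g IH (LK LD1_c15 LD2_c36 LD3_c19) (LK LD1_c8 LD2_c17 LD3_c52) Lrfl Lrfl
theorem f165918 : Led Lsl_gt (LP (LK LD1_c5 LD2_c1 LD3_c34)) = (LP (LK LD1_c9 LD2_c53 LD3_c25)) :=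
  Lre_g IH (LK LD1_c5 LD2_c1 LD3_c34) (LK LD1_c9 LD2_c53 LD3_c25) Lrfl Lrfl
theorem f252855 : Led Lsl_bt (LP (LK LD1_c18 LD2_c5 LD3_c56)) = (LP (LK LD1_c9 LD2_c53 LD3_c25)) :=
  Lre_b IH (LK LD1_c18 LD2_c5 LD3_c56) (LK LD1_c9 LD2_c53 LD3_c25) Lrfl Lrfl
theorem f252856 : Led Lsl_cf (LP (LK LD1_c15 LD2_c36 LD3_c19)) = (LP (LK LD1_c18 LD2_c5 LD3_c56)) :=
  Lgr Lrot160 (Lpr_gt (f252852 IH) (Lpr_cf (K23.f252829 IH) (Lpr_bt (K22.f165384 IH) (Lpr_gt (K14.f3581 IH) (Lpr_ct (K15.f3571 IH) (Lpr_gt (K9.f21861 IH) (Lpe (K14.f3586 IH) (Lpr_bt (K71.f252854 IH) (Lpr_gt (f165918 IH) (Lpe (f252855 IH) (Lpn (LP (LK LD1_c18 LD2_c5 LD3_c56)))))))))))))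
theorem f252853 : Led Lsl_bt (LP (LK LD1_c5 LD2_c4 LD3_c24)) = (LP (LK LD1_c9 LD2_c59 LD3_c47)) :=
  Lre_b IH (LK LD1_c5 LD2_c4 LD3_c24) (LK LD1_c9 LD2_c59 LD3_c47) Lrfl Lrfl
theorem f252870 : Led Lsl_gt (LP (LK LD1_c9 LD2_c59 LD3_c47)) = (LP (LK LD1_c18 LD2_c5 LD3_c56)) :=
  Lgr Lrot82 (Lpe (f252853 IH) (Lpr_ct (K71.f164026 IH) (Lpe (K71.f21495 IH) (Lpe (K44.f21881 IH) (Lpr_bt (K44.f21733 IH) (Lpe (K14.f3581 IH) (Lpe (K22.f165384 IH) (Lpe (K23.f252829 IH) (Lpe (f252852 IH) (Lpr_cf (f252856 IH) (Lpn (LP (LK LD1_c18 LD2_c5 LD3_c56)))))))))))))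
theorem f252863 : Led Lsl_ct (LP (LK LD1_c15 LD2_c36 LD3_c19)) = (LP (LK LD1_c18 LD2_c5 LD3_c56)) :=
  Lgr Lrot59 (Lpr_cf (f252856 IH) (Lpn (LP (LK LD1_c18 LD2_c5 LD3_c56))))
theorem f252858 : Led Lsl_bt (LP (LK LD1_c15 LD2_c36 LD3_c19)) = (LP (LK LD1_c25 LD2_c30 LD3_c59)) :=
  Lre_b IH (LK LD1_c15 LD2_c36 LD3_c19) (LK LD1_c25 LD2_c30 LD3_c59) Lrfl Lrfl
theorem f584383 : Led Lsl_ft (LP (LK LD1_c28 LD2_c20 LD3_c10)) = (LP (LK LD1_c18 LD2_c51 LD3_c55)) :=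
  Lre_f IH (LK LD1_c28 LD2_c20 LD3_c10) (LK LD1_c18 LD2_c51 LD3_c55) Lrfl Lrfl
theorem f584384 : Led Lsl_bf (LP (LK LD1_c28 LD2_c20 LD3_c10)) = (LP (LK LD1_c28 LD2_c16 LD3_c57)) :=
  Lgr Lrot61 (Lpr_ft (f584383 IH) (Lpr_bt (K44.f32778 IH) (Lpr_ft (K44.f584379 IH) (Lpn (LP (LK LD1_c28 LD2_c16 LD3_c57))))))
theorem f585463 : Led Lsl_gt (LP (LK LD1_c25 LD2_c30 LD3_c59)) = (LP (LK LD1_c28 LD2_c20 LD3_c10)) :=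
  Lgr Lrot164 (Lpe (f252858 IH) (Lpr_ct (f252863 IH) (Lpe (f252870 IH) (Lpe (f252876 IH) (Lpr_gf (K53.f395137 IH) (Lpe (K53.f395141 IH) (Lpe (K53.f582728 IH) (Lpe (K53.f406813 IH) (Lpr_cf (K53.f584386 IH) (Lpe (f584384 IH) (Lpn (LP (LK LD1_c28 LD2_c20 LD3_c10)))))))))))))
theorem f584342 : Led Lsl_ft (LP (LK LD1_c25 LD2_c46 LD3_c47)) = (LP (LK LD1_c18 LD2_c51 LD3_c60)) :=
  Lgr Lrot75 (Lpe (K44.f584338 IH) (Lpr_ff (K44.f584334 IH) (Lpr_bf (K44.f418904 IH) (Lpn (LP (LK LD1_c18 LD2_c51 LD3_c60))))))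
theorem f585465 : Led Lsl_gf (LP (LK LD1_c25 LD2_c30 LD3_c59)) = (LP (LK LD1_c25 LD2_c46 LD3_c47)) :=
  Lgr Lrot47 (Lpr_gt (f585463 IH) (Lpe (K44.f418917 IH) (Lpe (f584342 IH) (Lpn (LP (LK LD1_c25 LD2_c46 LD3_c47))))))
theorem f612637 : Led Lsl_af (LP (LK LD1_c25 LD2_c30 LD3_c59)) = (LP (LK LD1_c28 LD2_c2 LD3_c51)) :=
  Lgr Lrot31 (Lpr_gf (f585465 IH) (Lpr_gf (f612635 IH) (Lpe (f585973 IH) (Lpn (LP (LK LD1_c28 LD2_c2 LD3_c51))))))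
theorem f585975 : Led Lsl_at (LP (LK LD1_c18 LD2_c46 LD3_c44)) = (LP (LK LD1_c28 LD2_c16 LD3_c17)) :=
  Lre_a IH (LK LD1_c18 LD2_c46 LD3_c44) (LK LD1_c28 LD2_c16 LD3_c17) Lrfl Lrfl
theorem f612645 : Led Lsl_ft (LP (LK LD1_c25 LD2_c30 LD3_c59)) = (LP (LK LD1_c18 LD2_c46 LD3_c44)) :=
  Lgr Lrot101 (Lpr_af (f612637 IH) (Lpr_ff (f585973 IH) (Lpe (f585975 IH) (Lpn (LP (LK LD1_c18 LD2_c46 LD3_c44))))))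
theorem f612651 : Led Lsl_ff (LP (LK LD1_c25 LD2_c30 LD3_c59)) = (LP (LK LD1_c18 LD2_c46 LD3_c44)) :=
  Lgr Lrot3 (Lpr_ft (f612645 IH) (Lpn (LP (LK LD1_c18 LD2_c46 LD3_c44))))
theorem f252859 : Led Lsl_bt (LP (LK LD1_c9 LD2_c53 LD3_c25)) = (LP (LK LD1_c18 LD2_c5 LD3_c56)) :=
  Lre_b IH (LK LD1_c9 LD2_c53 LD3_c25) (LK LD1_c18 LD2_c5 LD3_c56) Lrfl Lrfl
theorem f165919 : Led Lsl_ct (LP (LK LD1_c18 LD2_c5 LD3_c57)) = (LP (LK LD1_c9 LD2_c53 LD3_c25)) :=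
  Lre_c IH (LK LD1_c18 LD2_c5 LD3_c57) (LK LD1_c9 LD2_c53 LD3_c25) Lrfl Lrfl
theorem f252860 : Led Lsl_bt (LP (LK LD1_c27 LD2_c47 LD3_c8)) = (LP (LK LD1_c18 LD2_c5 LD3_c57)) :=
  Lre_b IH (LK LD1_c27 LD2_c47 LD3_c8) (LK LD1_c18 LD2_c5 LD3_c57) Lrfl Lrfl
theorem f252861 : Led Lsl_ct (LP (LK LD1_c25 LD2_c30 LD3_c59)) = (LP (LK LD1_c27 LD2_c47 LD3_c8)) :=
  Lgr Lrot83 (Lpe (f252858 IH) (Lpr_cf (f252856 IH) (Lpe (f252859 IH) (Lpe (f165919 IH) (Lpe (f252860 IH) (Lpn (LP (LK LD1_c27 LD2_c47 LD3_c8))))))))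
theorem f612655 : Led Lsl_ft (LP (LK LD1_c27 LD2_c47 LD3_c8)) = (LP (LK LD1_c28 LD2_c16 LD3_c18)) :=
  Lgr Lrot4 (Lpe (f252861 IH) (Lpr_ff (f612651 IH) (Lpe (f181037 IH) (Lpn (LP (LK LD1_c28 LD2_c16 LD3_c18))))))
theorem f165911 : Led Lsl_ct (LP (LK LD1_c9 LD2_c53 LD3_c18)) = (LP (LK LD1_c5 LD2_c1 LD3_c34)) :=
  Lre_c IH (LK LD1_c9 LD2_c53 LD3_c18) (LK LD1_c5 LD2_c1 LD3_c34) Lrfl Lrfl
theorem f165920 : Led Lsl_bt (LP (LK LD1_c18 LD2_c5 LD3_c57)) = (LP (LK LD1_c27 LD2_c47 LD3_c8)) :=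
  Lre_b IH (LK LD1_c18 LD2_c5 LD3_c57) (LK LD1_c27 LD2_c47 LD3_c8) Lrfl Lrfl
theorem f165921 : Led Lsl_gf (LP (LK LD1_c18 LD2_c45 LD3_c11)) = (LP (LK LD1_c27 LD2_c47 LD3_c8)) :=
  Lgr Lrot181 (Lpr_ct (K44.f32496 IH) (Lpr_gt (K69.f32495 IH) (Lpe (K2.f32450 IH) (Lpr_bt (K23.f32494 IH) (Lpr_gt (K10.f165899 IH) (Lpe (K22.f165906 IH) (Lpr_ct (f165911 IH) (Lpr_gt (f165918 IH) (Lpe (f165919 IH) (Lpr_bt (f165920 IH) (Lpn (LP (LK LD1_c27 LD2_c47 LD3_c8)))))))))))))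
theorem f585751 : Led Lsl_ff (LP (LK LD1_c25 LD2_c23 LD3_c58)) = (LP (LK LD1_c18 LD2_c45 LD3_c11)) :=
  Lgr Lrot23 (Lpr_ct (K44.f585744 IH) (Lpr_ft (K44.f585750 IH) (Lpr_ct (K44.f32828 IH) (Lpn (LP (LK LD1_c18 LD2_c45 LD3_c11))))))
theorem f165924 : Led Lsl_ft (LP (LK LD1_c18 LD2_c45 LD3_c7)) = (LP (LK LD1_c28 LD2_c14 LD3_c61)) :=
  Lre_f IH (LK LD1_c18 LD2_c45 LD3_c7) (LK LD1_c28 LD2_c14 LD3_c61) Lrfl Lrfl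
theorem f604401 : Led Lsl_at (LP (LK LD1_c25 LD2_c23 LD3_c58)) = (LP (LK LD1_c18 LD2_c45 LD3_c7)) :=
  Lgr Lrot66 (Lpr_ff (f585751 IH) (Lpe (K72.f165923 IH) (Lpe (f165924 IH) (Lpn (LP (LK LD1_c18 LD2_c45 LD3_c7))))))
theorem f405693 : Led Lsl_bt (LP (LK LD1_c10 LD2_c13 LD3_c42)) = (LP (LK LD1_c18 LD2_c37 LD3_c0)) :=
  Lre_b IH (LK LD1_c10 LD2_c13 LD3_c42) (LK LD1_c18 LD2_c37 LD3_c0) Lrfl Lrfl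
theorem f32832 : Led Lsl_bt (LP (LK LD1_c10 LD2_c25 LD3_c58)) = (LP (LK LD1_c5 LD2_c18 LD3_c8)) :=
  Lre_b IH (LK LD1_c10 LD2_c25 LD3_c58) (LK LD1_c5 LD2_c18 LD3_c8) Lrfl Lrfl
theorem f405831 : Led Lsl_ct (LP (LK LD1_c18 LD2_c37 LD3_c0)) = (LP (LK LD1_c10 LD2_c25 LD3_c58)) :=
  Lgr Lrot83 (Lpe (f405693 IH) (Lpe (K53.f405687 IH) (Lpe (K53.f405696 IH) (Lpr_cf (K72.f405452 IH) (Lpe (f32832 IH) (Lpn (LP (LK LD1_c10 LD2_c25 LD3_c58))))))))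
theorem f405846 : Led Lsl_cf (LP (LK LD1_c18 LD2_c37 LD3_c0)) = (LP (LK LD1_c10 LD2_c25 LD3_c58)) :=
  Lgr Lrot11 (Lpr_ct (f405831 IH) (Lpn (LP (LK LD1_c10 LD2_c25 LD3_c58))))
theorem f405692 : Led Lsl_ct (LP (LK LD1_c10 LD2_c13 LD3_c42)) = (LP (LK LD1_c5 LD2_c11 LD3_c34)) :=
  Lre_c IH (LK LD1_c10 LD2_c13 LD3_c42) (LK LD1_c5 LD2_c11 LD3_c34) Lrfl Lrfl
theorem f192075 : Led Lsl_gt (LP (LK LD1_c10 LD2_c25 LD3_c16)) = (LP (LK LD1_c5 LD2_c17 LD3_c50)) :=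
  Lre_g IH (LK LD1_c10 LD2_c25 LD3_c16) (LK LD1_c5 LD2_c17 LD3_c50) Lrfl Lrfl
theorem f192076 : Led Lsl_ct (LP (LK LD1_c18 LD2_c54 LD3_c26)) = (LP (LK LD1_c10 LD2_c25 LD3_c16)) :=
  Lre_c IH (LK LD1_c18 LD2_c54 LD3_c26) (LK LD1_c10 LD2_c25 LD3_c16) Lrfl Lrfl
theorem f405694 : Led Lsl_gt (LP (LK LD1_c18 LD2_c37 LD3_c0)) = (LP (LK LD1_c18 LD2_c54 LD3_c26)) :=
  Lgr Lrot82 (Lpe (f405693 IH) (Lpr_ct (f405692 IH) (Lpr_gf (K53.f405616 IH) (Lpe (K53.f34594 IH) (Lpr_bt (K2.f33806 IH) (Lpr_gf (K20.f262401 IH) (Lpe (K15.f165369 IH) (Lpe (K15.f192050 IH) (Lpe (f192075 IH) (Lpe (f192076 IH) (Lpn (LP (LK LD1_c18 LD2_c54 LD3_c26)))))))))))))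
theorem f262412 : Led Lsl_ct (LP (LK LD1_c10 LD2_c25 LD3_c16)) = (LP (LK LD1_c18 LD2_c54 LD3_c26)) :=
  Lre_c IH (LK LD1_c10 LD2_c25 LD3_c16) (LK LD1_c18 LD2_c54 LD3_c26) Lrfl Lrfl
theorem f262414 : Led Lsl_bt (LP (LK LD1_c10 LD2_c25 LD3_c16)) = (LP (LK LD1_c18 LD2_c54 LD3_c25)) :=
  Lre_b IH (LK LD1_c10 LD2_c25 LD3_c16) (LK LD1_c18 LD2_c54 LD3_c25) Lrfl Lrfl
theorem f32767 : Led Lsl_gt (LP (LK LD1_c10 LD2_c19 LD3_c43)) = (LP (LK LD1_c18 LD2_c45 LD3_c4)) :=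
  Lre_g IH (LK LD1_c10 LD2_c19 LD3_c43) (LK LD1_c18 LD2_c45 LD3_c4) Lrfl Lrfl
theorem f405848 : Led Lsl_gt (LP (LK LD1_c18 LD2_c54 LD3_c25)) = (LP (LK LD1_c18 LD2_c45 LD3_c7)) :=
  Lgr Lrot82 (Lpe (f262414 IH) (Lpr_ct (f262412 IH) (Lpe (f405694 IH) (Lpr_cf (f405846 IH) (Lpr_bt (f32832 IH) (Lpe (K53.f32769 IH) (Lpe (K44.f32754 IH) (Lpr_ct (K44.f32504 IH) (Lpe (f32767 IH) (Lpe (K37.f32498 IH) (Lpn (LP (LK LD1_c18 LD2_c45 LD3_c7)))))))))))))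
theorem f604403 : Led Lsl_gf (LP (LK LD1_c18 LD2_c54 LD3_c25)) = (LP (LK LD1_c18 LD2_c45 LD3_c11)) :=
  Lgr Lrot47 (Lpr_gt (f405848 IH) (Lpe (f604401 IH) (Lpr_ff (f585751 IH) (Lpn (LP (LK LD1_c18 LD2_c45 LD3_c11))))))
theorem f612659 : Led Lsl_af (LP (LK LD1_c18 LD2_c54 LD3_c25)) = (LP (LK LD1_c28 LD2_c16 LD3_c18)) :=
  Lgr Lrot31 (Lpr_gf (f604403 IH) (Lpr_gf (f165921 IH) (Lpr_ft (f612655 IH) (Lpn (LP (LK LD1_c28 LD2_c16 LD3_c18))))))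
theorem f612663 : Led Lsl_ct (LP (LK LD1_c18 LD2_c54 LD3_c25)) = (LP (LK LD1_c28 LD2_c16 LD3_c17)) :=
  Lgr Lrot111 (Lpr_af (f612659 IH) (Lpe (f181006 IH) (Lpe (f585970 IH) (Lpn (LP (LK LD1_c28 LD2_c16 LD3_c17))))))
theorem f197124 : Led Lsl_cf (LP (LK LD1_c25 LD2_c56 LD3_c14)) = (LP (LK LD1_c28 LD2_c2 LD3_c51)) :=
  Lgr Lrot11 (Lpr_ct (K37.f197106 IH) (Lpn (LP (LK LD1_c28 LD2_c2 LD3_c51))))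
theorem f612665 : Led Lsl_ff (LP (LK LD1_c18 LD2_c54 LD3_c25)) = (LP (LK LD1_c25 LD2_c56 LD3_c14)) :=
  Lgr Lrot23 (Lpr_ct (f612663 IH) (Lpe (f585973 IH) (Lpe (f197124 IH) (Lpn (LP (LK LD1_c25 LD2_c56 LD3_c14))))))
theorem f612669 : Led Lsl_ft (LP (LK LD1_c18 LD2_c54 LD3_c25)) = (LP (LK LD1_c25 LD2_c56 LD3_c14)) :=
  Lgr Lrot48 (Lpr_ff (f612665 IH) (Lpn (LP (LK LD1_c25 LD2_c56 LD3_c14))))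
theorem f612673 : Led Lsl_ff (LP (LK LD1_c10 LD2_c25 LD3_c16)) = (LP (LK LD1_c15 LD2_c59 LD3_c0)) :=
  Lgr Lrot25 (Lpr_bt (f262414 IH) (Lpr_ft (f612669 IH) (Lpr_bt (K37.f197105 IH) (Lpn (LP (LK LD1_c15 LD2_c59 LD3_c0))))))
theorem f612675 : Led Lsl_at (LP (LK LD1_c10 LD2_c25 LD3_c16)) = (LP (LK LD1_c15 LD2_c58 LD3_c61)) :=
  Lgr Lrot26 (Lpr_ff (f612673 IH) (Lpr_gt (K37.f197104 IH) (Lpr_gt (K71.f197037 IH) (Lpn (LP (LK LD1_c15 LD2_c58 LD3_c61))))))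
theorem f612681 : Led Lsl_af (LP (LK LD1_c18 LD2_c54 LD3_c26)) = (LP (LK LD1_c18 LD2_c36 LD3_c58)) :=
  Lgr Lrot68 (Lpr_ct (f192076 IH) (Lpr_at (f612675 IH) (Lpr_ct (K71.f197038 IH) (Lpn (LP (LK LD1_c18 LD2_c36 LD3_c58))))))
theorem f405850 : Led Lsl_gf (LP (LK LD1_c18 LD2_c37 LD3_c0)) = (LP (LK LD1_c18 LD2_c54 LD3_c23)) :=
  Lgr Lrot129 (Lpr_cf (f405846 IH) (Lpr_bt (f32832 IH) (Lpr_gt (K72.f48857 IH) (Lpe (K13.f48497 IH) (Lpr_ct (K10.f48330 IH) (Lpr_gt (K13.f49096 IH) (Lpe (K10.f188288 IH) (Lpr_bt (K15.f192030 IH) (Lpr_gt (K15.f192031 IH) (Lpr_ct (K15.f192040 IH) (Lpn (LP (LK LD1_c18 LD2_c54 LD3_c23)))))))))))))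
theorem f612685 : Led Lsl_ft (LP (LK LD1_c18 LD2_c54 LD3_c23)) = (LP (LK LD1_c18 LD2_c36 LD3_c58)) :=
  Lgr Lrot2 (Lpe (f405850 IH) (Lpr_gt (f405694 IH) (Lpr_af (f612681 IH) (Lpn (LP (LK LD1_c18 LD2_c36 LD3_c58))))))
theorem f612691 : Led Lsl_ff (LP (LK LD1_c18 LD2_c54 LD3_c23)) = (LP (LK LD1_c18 LD2_c36 LD3_c58)) :=
  Lgr Lrot3 (Lpr_ft (f612685 IH) (Lpn (LP (LK LD1_c18 LD2_c36 LD3_c58))))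
theorem f612695 : Led Lsl_at (LP (LK LD1_c18 LD2_c54 LD3_c23)) = (LP (LK LD1_c18 LD2_c28 LD3_c0)) :=
  Lgr Lrot26 (Lpr_ff (f612691 IH) (Lpr_gt (K71.f34569 IH) (Lpr_gt (K71.f181071 IH) (Lpn (LP (LK LD1_c18 LD2_c28 LD3_c0))))))
theorem f192039 : Led Lsl_bt (LP (LK LD1_c10 LD2_c25 LD3_c15)) = (LP (LK LD1_c18 LD2_c54 LD3_c22)) :=
  Lre_b IH (LK LD1_c10 LD2_c25 LD3_c15) (LK LD1_c18 LD2_c54 LD3_c22) Lrfl Lrfl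
theorem f33375 : Led Lsl_bt (LP (LK LD1_c17 LD2_c38 LD3_c19)) = (LP (LK LD1_c27 LD2_c26 LD3_c27)) :=
  Lre_b IH (LK LD1_c17 LD2_c38 LD3_c19) (LK LD1_c27 LD2_c26 LD3_c27) Lrfl Lrfl
theorem f192043 : Led Lsl_bf (LP (LK LD1_c18 LD2_c54 LD3_c23)) = (LP (LK LD1_c27 LD2_c45 LD3_c37)) :=
  Lgr Lrot90 (Lpr_ct (K15.f192042 IH) (Lpr_bt (f192039 IH) (Lpr_ct (K15.f192033 IH) (Lpr_bt (f33375 IH) (Lpr_ct (K15.f33371 IH) (Lpn (LP (LK LD1_c27 LD2_c45 LD3_c37))))))))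
theorem f180905 : Led Lsl_cf (LP (LK LD1_c18 LD2_c46 LD3_c41)) = (LP (LK LD1_c15 LD2_c11 LD3_c42)) :=
  Lgr Lrot11 (Lpr_ct (K37.f180889 IH) (Lpn (LP (LK LD1_c15 LD2_c11 LD3_c42))))
theorem f612618 : Led Lsl_af (LP (LK LD1_c15 LD2_c11 LD3_c42)) = (LP (LK LD1_c10 LD2_c8 LD3_c20)) :=
  Lgr Lrot68 (Lpe (f180905 IH) (Lpr_at (f612616 IH) (Lpr_ct (K37.f197069 IH) (Lpn (LP (LK LD1_c10 LD2_c8 LD3_c20))))))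
theorem f180902 : Led Lsl_bt (LP (LK LD1_c15 LD2_c11 LD3_c42)) = (LP (LK LD1_c25 LD2_c0 LD3_c47)) :=
  Lre_b IH (LK LD1_c15 LD2_c11 LD3_c42) (LK LD1_c25 LD2_c0 LD3_c47) Lrfl Lrfl
theorem f612697 : Led Lsl_af (LP (LK LD1_c27 LD2_c45 LD3_c37)) = (LP (LK LD1_c25 LD2_c0 LD3_c47)) :=
  Lgr Lrot36 (Lpe (f192043 IH) (Lpr_at (f612695 IH) (Lpr_bt (K37.f197127 IH) (Lpe (f612618 IH) (Lpr_bt (f180902 IH) (Lpn (LP (LK LD1_c25 LD2_c0 LD3_c47))))))))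
theorem f180916 : Led Lsl_ct (LP (LK LD1_c25 LD2_c1 LD3_c1)) = (LP (LK LD1_c25 LD2_c0 LD3_c47)) :=
  Lre_c IH (LK LD1_c25 LD2_c1 LD3_c1) (LK LD1_c25 LD2_c0 LD3_c47) Lrfl Lrfl
theorem f612766 : Led Lsl_at (LP (LK LD1_c27 LD2_c26 LD3_c27)) = (LP (LK LD1_c25 LD2_c1 LD3_c1)) :=
  Lgr Lrot107 (Lpr_cf (K15.f33376 IH) (Lpr_af (f612697 IH) (Lpe (f180916 IH) (Lpn (LP (LK LD1_c25 LD2_c1 LD3_c1))))))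
theorem f612699 : Led Lsl_af (LP (LK LD1_c10 LD2_c25 LD3_c15)) = (LP (LK LD1_c15 LD2_c59 LD3_c0)) :=
  Lgr Lrot68 (Lpr_ct (K15.f192040 IH) (Lpr_at (f612695 IH) (Lpe (K37.f197122 IH) (Lpn (LP (LK LD1_c15 LD2_c59 LD3_c0))))))
theorem f612643 : Led Lsl_at (LP (LK LD1_c27 LD2_c47 LD3_c8)) = (LP (LK LD1_c25 LD2_c56 LD3_c14)) :=
  Lgr Lrot107 (Lpe (f252861 IH) (Lpr_af (f612637 IH) (Lpe (K37.f197106 IH) (Lpn (LP (LK LD1_c25 LD2_c56 LD3_c14))))))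
theorem f612707 : Led Lsl_at (LP (LK LD1_c18 LD2_c54 LD3_c22)) = (LP (LK LD1_c18 LD2_c5 LD3_c57)) :=
  Lgr Lrot67 (Lpe (f192039 IH) (Lpr_af (f612699 IH) (Lpe (K37.f197105 IH) (Lpe (f612643 IH) (Lpe (f165920 IH) (Lpn (LP (LK LD1_c18 LD2_c5 LD3_c57))))))))
theorem f612719 : Led Lsl_af (LP (LK LD1_c17 LD2_c38 LD3_c19)) = (LP (LK LD1_c9 LD2_c53 LD3_c25)) :=
  Lgr Lrot68 (Lpe (K15.f192045 IH) (Lpr_at (f612707 IH) (Lpr_ct (f165919 IH) (Lpn (LP (LK LD1_c9 LD2_c53 LD3_c25))))))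
theorem f612728 : Led Lsl_at (LP (LK LD1_c17 LD2_c38 LD3_c19)) = (LP (LK LD1_c9 LD2_c53 LD3_c25)) :=
  Lgr Lrot100 (Lpr_af (f612719 IH) (Lpn (LP (LK LD1_c9 LD2_c53 LD3_c25))))
theorem f165912 : Led Lsl_gt (LP (LK LD1_c9 LD2_c53 LD3_c26)) = (LP (LK LD1_c5 LD2_c1 LD3_c34)) :=
  Lre_g IH (LK LD1_c9 LD2_c53 LD3_c26) (LK LD1_c5 LD2_c1 LD3_c34) Lrfl Lrfl
theorem f612732 : Led Lsl_ff (LP (LK LD1_c17 LD2_c38 LD3_c19)) = (LP (LK LD1_c9 LD2_c53 LD3_c26)) :=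
  Lgr Lrot52 (Lpr_at (f612728 IH) (Lpe (f165918 IH) (Lpe (f165912 IH) (Lpn (LP (LK LD1_c9 LD2_c53 LD3_c26))))))
theorem f612738 : Led Lsl_ft (LP (LK LD1_c17 LD2_c38 LD3_c19)) = (LP (LK LD1_c9 LD2_c53 LD3_c26)) :=
  Lgr Lrot48 (Lpr_ff (f612732 IH) (Lpn (LP (LK LD1_c9 LD2_c53 LD3_c26))))
theorem f197052 : Led Lsl_bt (LP (LK LD1_c9 LD2_c53 LD3_c26)) = (LP (LK LD1_c18 LD2_c5 LD3_c59)) :=
  Lre_b IH (LK LD1_c9 LD2_c53 LD3_c26) (LK LD1_c18 LD2_c5 LD3_c59) Lrfl Lrfl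
theorem f612740 : Led Lsl_ff (LP (LK LD1_c27 LD2_c26 LD3_c27)) = (LP (LK LD1_c18 LD2_c5 LD3_c59)) :=
  Lgr Lrot25 (Lpr_bt (K15.f33370 IH) (Lpr_ft (f612738 IH) (Lpr_bt (f197052 IH) (Lpn (LP (LK LD1_c18 LD2_c5 LD3_c59))))))
theorem f612778 : Led Lsl_gt (LP (LK LD1_c18 LD2_c5 LD3_c59)) = (LP (LK LD1_c15 LD2_c12 LD3_c7)) :=
  Lgr Lrot5 (Lpe (f612740 IH) (Lpr_at (f612766 IH) (Lpe (K53.f34194 IH) (Lpn (LP (LK LD1_c15 LD2_c12 LD3_c7))))))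
theorem f197049 : Led Lsl_ct (LP (LK LD1_c9 LD2_c53 LD3_c26)) = (LP (LK LD1_c18 LD2_c5 LD3_c60)) :=
  Lre_c IH (LK LD1_c9 LD2_c53 LD3_c26) (LK LD1_c18 LD2_c5 LD3_c60) Lrfl Lrfl
theorem f922638 : Led Lsl_gf (LP (LK LD1_c18 LD2_c5 LD3_c60)) = K71.v41220 :=
  Lgr Lrot129 (Lpe (f197049 IH) (Lpr_bt (f197052 IH) (Lpr_gt (f612778 IH) (Lpe (f180920 IH) (Lpe (f604129 IH) (Lpr_gt (f402464 IH) (Lpe (K71.f190548 IH) (Lpr_bt (K44.f190562 IH) (Lpr_gt (K71.f604289 IH) (Lpr_ct (K71.f922633 IH) (Lpn K71.v41220)))))))))))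
theorem f938760 : Led Lsl_gt (LP (LK LD1_c18 LD2_c5 LD3_c60)) = v43338 :=
  Lgr Lrot46 (Lpr_gf (f922638 IH) (Lpe (f922636 IH) (Lpr_at (f938756 IH) (Lpn v43338))))
theorem f612748 : Led Lsl_at (LP (LK LD1_c27 LD2_c47 LD3_c11)) = (LP (LK LD1_c18 LD2_c5 LD3_c59)) :=
  Lre_a IH (LK LD1_c27 LD2_c47 LD3_c11) (LK LD1_c18 LD2_c5 LD3_c59) Lrfl Lrfl
theorem f612776 : Led Lsl_ff (LP (LK LD1_c27 LD2_c47 LD3_c11)) = (LP (LK LD1_c25 LD2_c1 LD3_c1)) :=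
  Lgr Lrot30 (Lpr_at (f612748 IH) (Lpe (f612740 IH) (Lpr_at (f612766 IH) (Lpn (LP (LK LD1_c25 LD2_c1 LD3_c1))))))
theorem f165362 : Led Lsl_gt (LP (LK LD1_c25 LD2_c1 LD3_c1)) = (LP (LK LD1_c15 LD2_c12 LD3_c12)) :=
  Lre_g IH (LK LD1_c25 LD2_c1 LD3_c1) (LK LD1_c15 LD2_c12 LD3_c12) Lrfl Lrfl
theorem f612785 : Led Lsl_gf (LP (LK LD1_c18 LD2_c5 LD3_c59)) = (LP (LK LD1_c15 LD2_c12 LD3_c12)) :=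
  Lgr Lrot76 (Lpe (f612748 IH) (Lpr_ff (f612776 IH) (Lpr_gt (f165362 IH) (Lpn (LP (LK LD1_c15 LD2_c12 LD3_c12))))))
theorem f417661 : Led Lsl_bf (LP (LK LD1_c15 LD2_c12 LD3_c12)) = (LP (LK LD1_c18 LD2_c5 LD3_c52)) :=
  Lgr Lrot24 (Lpr_bt (K44.f248077 IH) (Lpn (LP (LK LD1_c18 LD2_c5 LD3_c52))))
theorem f184593 : Led Lsl_ct (LP (LK LD1_c18 LD2_c5 LD3_c52)) = (LP (LK LD1_c27 LD2_c47 LD3_c3)) :=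
  Lre_c IH (LK LD1_c18 LD2_c5 LD3_c52) (LK LD1_c27 LD2_c47 LD3_c3) Lrfl Lrfl
theorem f938764 : Led Lsl_gt (LP (LK LD1_c19 LD2_c1 LD3_c13)) = (LP (LK LD1_c27 LD2_c47 LD3_c3)) :=
  Lgr Lrot149 (Lpe (f257490 IH) (Lpe (f417647 IH) (Lpe (f604282 IH) (Lpr_ct (f938763 IH) (Lpe (f938760 IH) (Lpe (f197049 IH) (Lpr_bt (f197052 IH) (Lpr_gf (f612785 IH) (Lpr_bf (f417661 IH) (Lpr_ct (f184593 IH) (Lpn (LP (LK LD1_c27 LD2_c47 LD3_c3)))))))))))))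
theorem f938765 : Led Lsl_gt (LP (LK LD1_c19 LD2_c1 LD3_c13)) = (LP (LK LD1_c27 LD2_c47 LD3_c3)) :=
  Leop (Lpe (f938764 IH) (Lpn (LP (LK LD1_c19 LD2_c1 LD3_c13))))
theorem seed_2646 : LEOK LG_g (LK LD1_c19 LD2_c1 LD3_c13) :=
  Leoe_g (LK LD1_c19 LD2_c1 LD3_c13) (f938765 IH)
def v43350 : LQ := Led Lsl_gf (LP (LK LD1_c10 LD2_c27 LD3_c4))
theorem f938821 : Led Lsl_gf (LP (LK LD1_c10 LD2_c27 LD3_c4)) = v43350 :=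
  Lrfl
def v43329 : LQ := Led Lsl_ct (LP (LK LD1_c10 LD2_c26 LD3_c55))
theorem f938697 : Led Lsl_ct (LP (LK LD1_c10 LD2_c26 LD3_c55)) = v43329 :=
  Lrfl
theorem f725013 : Led Lsl_at (LP (LK LD1_c5 LD2_c18 LD3_c42)) = (LP (LK LD1_c10 LD2_c26 LD3_c55)) :=
  Lre_a IH (LK LD1_c5 LD2_c18 LD3_c42) (LK LD1_c10 LD2_c26 LD3_c55) Lrfl Lrfl
theorem f442753 : Led Lsl_ct (LP (LK LD1_c10 LD2_c27 LD3_c4)) = (LP (LK LD1_c5 LD2_c18 LD3_c42)) :=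
  Lre_c IH (LK LD1_c10 LD2_c27 LD3_c4) (LK LD1_c5 LD2_c18 LD3_c42) Lrfl Lrfl
theorem f938698 : Led Lsl_af (LP (LK LD1_c10 LD2_c27 LD3_c4)) = v43329 :=
  Lgr Lrot68 (Lpr_ct (f442753 IH) (Lpr_at (f725013 IH) (Lpr_ct (f938697 IH) (Lpn v43329))))
theorem f938700 : Led Lsl_ff (LP (LK LD1_c10 LD2_c27 LD3_c19)) = v43329 :=
  Lgr Lrot23 (Lpr_ct (K72.f186590 IH) (Lpr_ft (K72.f725018 IH) (Lpr_ct (f938697 IH) (Lpn v43329))))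
theorem f938701 : Led Lsl_ft (LP (LK LD1_c10 LD2_c27 LD3_c19)) = v43329 :=
  Lgr Lrot48 (Lpr_ff (f938700 IH) (Lpn v43329))
theorem f938822 : Led Lsl_gt (LP (LK LD1_c10 LD2_c27 LD3_c19)) = v43350 :=
  Lgr Lrot5 (Lpr_ft (f938701 IH) (Lpe (f938698 IH) (Lpr_gf (f938821 IH) (Lpn v43350))))
theorem f186591 : Led Lsl_dt (LP (LK LD1_c18 LD2_c57 LD3_c19)) = (LP (LK LD1_c10 LD2_c27 LD3_c19)) :=
  Lre_d IH (LK LD1_c18 LD2_c57 LD3_c19) (LK LD1_c10 LD2_c27 LD3_c19) Lrfl Lrfl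
theorem f32697 : Led Lsl_ct (LP (LK LD1_c5 LD2_c18 LD3_c47)) = (LP (LK LD1_c10 LD2_c27 LD3_c19)) :=
  Lre_c IH (LK LD1_c5 LD2_c18 LD3_c47) (LK LD1_c10 LD2_c27 LD3_c19) Lrfl Lrfl
def v42555 : LQ := Led Lsl_gf (LP (LK LD1_c10 LD2_c13 LD3_c34))
theorem f934625 : Led Lsl_gf (LP (LK LD1_c10 LD2_c13 LD3_c34)) = v42555 :=
  Lrfl
theorem f181069 : Led Lsl_dt (LP (LK LD1_c10 LD2_c13 LD3_c34)) = (LP (LK LD1_c5 LD2_c11 LD3_c30)) :=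
  Lre_d IH (LK LD1_c10 LD2_c13 LD3_c34) (LK LD1_c5 LD2_c11 LD3_c30) Lrfl Lrfl
theorem f928876 : Led Lsl_ff (LP (LK LD1_c10 LD2_c16 LD3_c55)) = (LP (LK LD1_c10 LD2_c2 LD3_c27)) :=
  Lgr Lrot3 (Lpr_ft (K72.f928872 IH) (Lpn (LP (LK LD1_c10 LD2_c2 LD3_c27))))
theorem f723129 : Led Lsl_at (LP (LK LD1_c10 LD2_c16 LD3_c55)) = (LP (LK LD1_c18 LD2_c41 LD3_c45)) :=
  Lre_a IH (LK LD1_c10 LD2_c16 LD3_c55) (LK LD1_c18 LD2_c41 LD3_c45) Lrfl Lrfl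
theorem f928855 : Led Lsl_gt (LP (LK LD1_c10 LD2_c2 LD3_c27)) = (LP (LK LD1_c18 LD2_c20 LD3_c43)) :=
  Lre_g IH (LK LD1_c10 LD2_c2 LD3_c27) (LK LD1_c18 LD2_c20 LD3_c43) Lrfl Lrfl
theorem f929606 : Led Lsl_gf (LP (LK LD1_c18 LD2_c41 LD3_c45)) = (LP (LK LD1_c18 LD2_c20 LD3_c43)) :=
  Lgr Lrot76 (Lpe (f723129 IH) (Lpr_ff (f928876 IH) (Lpr_gt (f928855 IH) (Lpn (LP (LK LD1_c18 LD2_c20 LD3_c43))))))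
theorem f583301 : Led Lsl_ct (LP (LK LD1_c28 LD2_c24 LD3_c55)) = (LP (LK LD1_c18 LD2_c56 LD3_c56)) :=
  Lre_c IH (LK LD1_c28 LD2_c24 LD3_c55) (LK LD1_c18 LD2_c56 LD3_c56) Lrfl Lrfl
theorem f929608 : Led Lsl_ct (LP (LK LD1_c18 LD2_c10 LD3_c36)) = (LP (LK LD1_c18 LD2_c20 LD3_c43)) :=
  Lgr Lrot152 (Lpe (K44.f264212 IH) (Lpe (K71.f165782 IH) (Lpr_gt (K71.f604519 IH) (Lpr_ct (K72.f405463 IH) (Lpr_gt (K72.f583298 IH) (Lpr_ct (f583301 IH) (Lpe (K72.f604529 IH) (Lpe (K72.f929251 IH) (Lpr_gf (f929606 IH) (Lpn (LP (LK LD1_c18 LD2_c20 LD3_c43))))))))))))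
theorem f934626 : Led Lsl_dt (LP (LK LD1_c18 LD2_c41 LD3_c45)) = v42555 :=
  Lgr Lrot57 (Lpr_gf (f929606 IH) (Lpe (f929608 IH) (Lpr_gt (K44.f264213 IH) (Lpr_dt (K72.f264217 IH) (Lpr_gt (K72.f604545 IH) (Lpr_dt (K72.f164644 IH) (Lpe (K44.f165439 IH) (Lpe (f181069 IH) (Lpr_gf (f934625 IH) (Lpn v42555))))))))))
theorem f938823 : Led Lsl_cf v42555 = v43350 :=
  Lgr Lrot99 (Lpe (f934626 IH) (Lpr_cf (K72.f929247 IH) (Lpe (K72.f929255 IH) (Lpe (K45.f285242 IH) (Lpe (K71.f412771 IH) (Lpr_df (K72.f924003 IH) (Lpqs (K72.f929262 IH) (Lpr_gt (K72.f214613 IH) (Lpr_ct (f32697 IH) (Lpr_gt (f938822 IH) (Lpn v43350)))))))))))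
def v42556 : LQ := Led Lsl_ct (LP (LK LD1_c10 LD2_c13 LD3_c34))
theorem f934630 : Led Lsl_ct (LP (LK LD1_c10 LD2_c13 LD3_c34)) = v42556 :=
  Lrfl
theorem f181070 : Led Lsl_dt (LP (LK LD1_c5 LD2_c11 LD3_c30)) = (LP (LK LD1_c10 LD2_c13 LD3_c34)) :=
  Lre_d IH (LK LD1_c5 LD2_c11 LD3_c30) (LK LD1_c10 LD2_c13 LD3_c34) Lrfl Lrfl
theorem f405809 : Led Lsl_ct (LP (LK LD1_c10 LD2_c25 LD3_c61)) = (LP (LK LD1_c18 LD2_c55 LD3_c25)) :=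
  Lre_c IH (LK LD1_c10 LD2_c25 LD3_c61) (LK LD1_c18 LD2_c55 LD3_c25) Lrfl Lrfl
theorem f71620 : Led Lsl_ft (LP (LK LD1_c28 LD2_c23 LD3_c12)) = (LP (LK LD1_c18 LD2_c55 LD3_c25)) :=
  Lre_f IH (LK LD1_c28 LD2_c23 LD3_c12) (LK LD1_c18 LD2_c55 LD3_c25) Lrfl Lrfl
theorem f71621 : Led Lsl_df (LP (LK LD1_c20 LD2_c33 LD3_c59)) = (LP (LK LD1_c18 LD2_c55 LD3_c25)) :=
  Lgr Lrot78 (Lpr_ft (K2.f71613 IH) (Lpr_dt (K44.f71619 IH) (Lpr_ft (f71620 IH) (Lpn (LP (LK LD1_c18 LD2_c55 LD3_c25))))))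
theorem f71597 : Led Lsl_gt (LP (LK LD1_c20 LD2_c33 LD3_c58)) = (LP (LK LD1_c11 LD2_c35 LD3_c46)) :=
  Lre_g IH (LK LD1_c20 LD2_c33 LD3_c58) (LK LD1_c11 LD2_c35 LD3_c46) Lrfl Lrfl
theorem f442737 : Led Lsl_ct (LP (LK LD1_c29 LD2_c30 LD3_c44)) = (LP (LK LD1_c20 LD2_c33 LD3_c58)) :=
  Lre_c IH (LK LD1_c29 LD2_c30 LD3_c44) (LK LD1_c20 LD2_c33 LD3_c58) Lrfl Lrfl
theorem f186648 : Led Lsl_dt (LP (LK LD1_c32 LD2_c34 LD3_c31)) = (LP (LK LD1_c28 LD2_c24 LD3_c49)) :=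
  Lre_d IH (LK LD1_c32 LD2_c34 LD3_c31) (LK LD1_c28 LD2_c24 LD3_c49) Lrfl Lrfl
theorem f923989 : Led Lsl_gf (LP (LK LD1_c29 LD2_c30 LD3_c44)) = (LP (LK LD1_c32 LD2_c34 LD3_c31)) :=
  Lgr Lrot147 (Lpr_ct (f442737 IH) (Lpr_gt (f71597 IH) (Lpr_ct (K2.f71578 IH) (Lpr_df (f71621 IH) (Lpe (f405809 IH) (Lpe (K72.f32680 IH) (Lpe (K72.f181066 IH) (Lpr_gf (K72.f923985 IH) (Lpe (f186648 IH) (Lpn (LP (LK LD1_c32 LD2_c34 LD3_c31))))))))))))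
theorem f186636 : Led Lsl_dt (LP (LK LD1_c28 LD2_c24 LD3_c49)) = (LP (LK LD1_c32 LD2_c34 LD3_c31)) :=
  Lre_d IH (LK LD1_c28 LD2_c24 LD3_c49) (LK LD1_c32 LD2_c34 LD3_c31) Lrfl Lrfl
theorem f186640 : Led Lsl_ct (LP (LK LD1_c28 LD2_c24 LD3_c49)) = (LP (LK LD1_c18 LD2_c56 LD3_c52)) :=
  Lre_c IH (LK LD1_c28 LD2_c24 LD3_c49) (LK LD1_c18 LD2_c56 LD3_c52) Lrfl Lrfl
theorem f48656 : Led Lsl_gt (LP (LK LD1_c10 LD2_c25 LD3_c61)) = (LP (LK LD1_c18 LD2_c55 LD3_c23)) :=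
  Lre_g IH (LK LD1_c10 LD2_c25 LD3_c61) (LK LD1_c18 LD2_c55 LD3_c23) Lrfl Lrfl
theorem f181068 : Led Lsl_ct (LP (LK LD1_c18 LD2_c55 LD3_c23)) = (LP (LK LD1_c28 LD2_c23 LD3_c25)) :=
  Lre_c IH (LK LD1_c18 LD2_c55 LD3_c23) (LK LD1_c28 LD2_c23 LD3_c25) Lrfl Lrfl
theorem f585805 : Led Lsl_gf (LP (LK LD1_c28 LD2_c24 LD3_c49)) = (LP (LK LD1_c28 LD2_c23 LD3_c25)) :=
  Lgr Lrot104 (Lpr_ct (f186640 IH) (Lpe (K45.f71664 IH) (Lpr_cf (K19.f186613 IH) (Lpr_gf (K44.f585799 IH) (Lpe (K44.f164643 IH) (Lpe (K44.f181051 IH) (Lpe (K72.f32679 IH) (Lpr_gt (f48656 IH) (Lpr_ct (f181068 IH) (Lpn (LP (LK LD1_c28 LD2_c23 LD3_c25))))))))))))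
theorem f405461 : Led Lsl_dt (LP (LK LD1_c10 LD2_c25 LD3_c57)) = (LP (LK LD1_c18 LD2_c55 LD3_c20)) :=
  Lre_d IH (LK LD1_c10 LD2_c25 LD3_c57) (LK LD1_c18 LD2_c55 LD3_c20) Lrfl Lrfl
theorem f923991 : Led Lsl_dt (LP (LK LD1_c29 LD2_c30 LD3_c44)) = (LP (LK LD1_c28 LD2_c23 LD3_c21)) :=
  Lgr Lrot105 (Lpr_gf (f923989 IH) (Lpe (f186636 IH) (Lpr_gf (f585805 IH) (Lpe (f181068 IH) (Lpr_gt (K71.f71712 IH) (Lpr_dt (K2.f71580 IH) (Lpr_gt (K44.f405457 IH) (Lpr_dt (f405461 IH) (Lpe (K72.f405462 IH) (Lpn (LP (LK LD1_c28 LD2_c23 LD3_c21))))))))))))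
theorem f442736 : Led Lsl_ct (LP (LK LD1_c20 LD2_c33 LD3_c58)) = (LP (LK LD1_c29 LD2_c30 LD3_c44)) :=
  Lre_c IH (LK LD1_c20 LD2_c33 LD3_c58) (LK LD1_c29 LD2_c30 LD3_c44) Lrfl Lrfl
theorem f934632 : Led Lsl_df (LP (LK LD1_c20 LD2_c33 LD3_c58)) = v42556 :=
  Lgr Lrot106 (Lpr_ct (f442736 IH) (Lpr_dt (f923991 IH) (Lpr_ct (K72.f405462 IH) (Lpr_dt (K72.f405467 IH) (Lpe (K72.f604339 IH) (Lpr_af (K72.f585803 IH) (Lpe (K53.f405440 IH) (Lpr_dt (f181070 IH) (Lpr_ct (f934630 IH) (Lpn v42556))))))))))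
theorem f181055 : Led Lsl_dt (LP (LK LD1_c10 LD2_c13 LD3_c31)) = (LP (LK LD1_c18 LD2_c36 LD3_c46)) :=
  Lre_d IH (LK LD1_c10 LD2_c13 LD3_c31) (LK LD1_c18 LD2_c36 LD3_c46) Lrfl Lrfl
theorem f71676 : Led Lsl_ct (LP (LK LD1_c5 LD2_c18 LD3_c51)) = (LP (LK LD1_c10 LD2_c27 LD3_c30)) :=
  Lre_c IH (LK LD1_c5 LD2_c18 LD3_c51) (LK LD1_c10 LD2_c27 LD3_c30) Lrfl Lrfl
theorem f71697 : Led Lsl_at (LP (LK LD1_c20 LD2_c33 LD3_c56)) = (LP (LK LD1_c11 LD2_c35 LD3_c46)) :=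
  Lre_a IH (LK LD1_c20 LD2_c33 LD3_c56) (LK LD1_c11 LD2_c35 LD3_c46) Lrfl Lrfl
theorem f71698 : Led Lsl_at (LP (LK LD1_c10 LD2_c27 LD3_c34)) = (LP (LK LD1_c18 LD2_c57 LD3_c26)) :=
  Lre_a IH (LK LD1_c10 LD2_c27 LD3_c34) (LK LD1_c18 LD2_c57 LD3_c26) Lrfl Lrfl
theorem f71699 : Led Lsl_ff (LP (LK LD1_c20 LD2_c33 LD3_c56)) = (LP (LK LD1_c18 LD2_c57 LD3_c26)) :=
  Lgr Lrot30 (Lpr_at (f71697 IH) (Lpr_ft (K2.f71636 IH) (Lpr_at (f71698 IH) (Lpn (LP (LK LD1_c18 LD2_c57 LD3_c26))))))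
theorem f442732 : Led Lsl_ft (LP (LK LD1_c20 LD2_c33 LD3_c56)) = (LP (LK LD1_c18 LD2_c57 LD3_c26)) :=
  Lgr Lrot48 (Lpr_ff (f71699 IH) (Lpn (LP (LK LD1_c18 LD2_c57 LD3_c26))))
theorem f71583 : Led Lsl_ct (LP (LK LD1_c18 LD2_c57 LD3_c26)) = (LP (LK LD1_c28 LD2_c23 LD3_c47)) :=
  Lre_c IH (LK LD1_c18 LD2_c57 LD3_c26) (LK LD1_c28 LD2_c23 LD3_c47) Lrfl Lrfl
theorem f442739 : Led Lsl_cf (LP (LK LD1_c20 LD2_c33 LD3_c56)) = (LP (LK LD1_c18 LD2_c55 LD3_c35)) :=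
  Lgr Lrot108 (Lpr_ft (f442732 IH) (Lpr_ct (f71583 IH) (Lpr_ft (K2.f71591 IH) (Lpn (LP (LK LD1_c18 LD2_c55 LD3_c35))))))
theorem f71660 : Led Lsl_dt (LP (LK LD1_c20 LD2_c33 LD3_c56)) = (LP (LK LD1_c11 LD2_c35 LD3_c45)) :=
  Lre_d IH (LK LD1_c20 LD2_c33 LD3_c56) (LK LD1_c11 LD2_c35 LD3_c45) Lrfl Lrfl
theorem f186581 : Led Lsl_ct (LP (LK LD1_c10 LD2_c27 LD3_c27)) = (LP (LK LD1_c5 LD2_c18 LD3_c50)) :=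
  Lre_c IH (LK LD1_c10 LD2_c27 LD3_c27) (LK LD1_c5 LD2_c18 LD3_c50) Lrfl Lrfl
theorem f186592 : Led Lsl_gt (LP (LK LD1_c18 LD2_c57 LD3_c30)) = (LP (LK LD1_c10 LD2_c27 LD3_c27)) :=
  Lre_g IH (LK LD1_c18 LD2_c57 LD3_c30) (LK LD1_c10 LD2_c27 LD3_c27) Lrfl Lrfl
theorem f71695 : Led Lsl_ct (LP (LK LD1_c18 LD2_c56 LD3_c59)) = (LP (LK LD1_c28 LD2_c23 LD3_c46)) :=
  Lre_c IH (LK LD1_c18 LD2_c56 LD3_c59) (LK LD1_c28 LD2_c23 LD3_c46) Lrfl Lrfl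
theorem f442744 : Led Lsl_gt (LP (LK LD1_c28 LD2_c24 LD3_c57)) = (LP (LK LD1_c18 LD2_c56 LD3_c59)) :=
  Lre_g IH (LK LD1_c28 LD2_c24 LD3_c57) (LK LD1_c18 LD2_c56 LD3_c59) Lrfl Lrfl
theorem f442745 : Led Lsl_dt (LP (LK LD1_c18 LD2_c57 LD3_c30)) = (LP (LK LD1_c28 LD2_c24 LD3_c57)) :=
  Lgr Lrot6 (Lpr_gt (f186592 IH) (Lpr_ct (f186581 IH) (Lpr_gt (K44.f186588 IH) (Lpr_ct (K44.f71645 IH) (Lpe (f71660 IH) (Lpr_cf (f442739 IH) (Lpe (K72.f71641 IH) (Lpe (f71695 IH) (Lpe (f442744 IH) (Lpn (LP (LK LD1_c28 LD2_c24 LD3_c57))))))))))))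
theorem f71691 : Led Lsl_dt (LP (LK LD1_c18 LD2_c56 LD3_c59)) = (LP (LK LD1_c10 LD2_c27 LD3_c4)) :=
  Lre_d IH (LK LD1_c18 LD2_c56 LD3_c59) (LK LD1_c10 LD2_c27 LD3_c4) Lrfl Lrfl
theorem f71692 : Led Lsl_ct (LP (LK LD1_c5 LD2_c18 LD3_c42)) = (LP (LK LD1_c10 LD2_c27 LD3_c4)) :=
  Lre_c IH (LK LD1_c5 LD2_c18 LD3_c42) (LK LD1_c10 LD2_c27 LD3_c4) Lrfl Lrfl
theorem f48810 : Led Lsl_dt (LP (LK LD1_c2 LD2_c35 LD3_c60)) = (LP (LK LD1_c5 LD2_c18 LD3_c42)) :=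
  Lre_d IH (LK LD1_c2 LD2_c35 LD3_c60) (LK LD1_c5 LD2_c18 LD3_c42) Lrfl Lrfl
theorem f71679 : Led Lsl_ct (LP (LK LD1_c10 LD2_c27 LD3_c30)) = (LP (LK LD1_c5 LD2_c18 LD3_c51)) :=
  Lre_c IH (LK LD1_c10 LD2_c27 LD3_c30) (LK LD1_c5 LD2_c18 LD3_c51) Lrfl Lrfl
theorem f442751 : Led Lsl_gf (LP (LK LD1_c18 LD2_c57 LD3_c30)) = (LP (LK LD1_c10 LD2_c27 LD3_c30)) :=
  Lgr Lrot144 (Lpr_dt (f442745 IH) (Lpr_gt (f442744 IH) (Lpr_dt (f71691 IH) (Lpe (f71692 IH) (Lpe (f48810 IH) (Lpe (K19.f48806 IH) (Lpe (K2.f48576 IH) (Lpe (K45.f48584 IH) (Lpe (f71679 IH) (Lpn (LP (LK LD1_c10 LD2_c27 LD3_c30))))))))))))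
theorem f583293 : Led Lsl_cf (LP (LK LD1_c18 LD2_c36 LD3_c46)) = (LP (LK LD1_c18 LD2_c57 LD3_c30)) :=
  Lgr Lrot99 (Lpe (f181055 IH) (Lpr_cf (K72.f583288 IH) (Lpe (K44.f32700 IH) (Lpe (K44.f32699 IH) (Lpe (K13.f32695 IH) (Lpe (K44.f71574 IH) (Lpr_gt (K45.f71670 IH) (Lpr_ct (f71676 IH) (Lpe (f442751 IH) (Lpn (LP (LK LD1_c18 LD2_c57 LD3_c30))))))))))))
theorem f583305 : Led Lsl_ct (LP (LK LD1_c18 LD2_c36 LD3_c46)) = (LP (LK LD1_c18 LD2_c57 LD3_c30)) :=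
  Lgr Lrot59 (Lpr_cf (f583293 IH) (Lpn (LP (LK LD1_c18 LD2_c57 LD3_c30))))
theorem f604378 : Led Lsl_cf (LP (LK LD1_c32 LD2_c34 LD3_c31)) = (LP (LK LD1_c28 LD2_c24 LD3_c57)) :=
  Lgr Lrot116 (Lpr_dt (f186648 IH) (Lpr_ct (f186640 IH) (Lpr_dt (K45.f71686 IH) (Lpr_ct (K19.f186633 IH) (Lpe (K72.f186629 IH) (Lpr_ff (K72.f585801 IH) (Lpr_dt (f181055 IH) (Lpr_ct (f583305 IH) (Lpr_dt (f442745 IH) (Lpn (LP (LK LD1_c28 LD2_c24 LD3_c57))))))))))))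
theorem f938824 : Led Lsl_gt (LP (LK LD1_c18 LD2_c57 LD3_c19)) = (LP (LK LD1_c28 LD2_c24 LD3_c57)) :=
  Lgr Lrot146 (Lpr_dt (f186591 IH) (Lpr_gt (f938822 IH) (Lpe (f938823 IH) (Lpe (f934625 IH) (Lpr_ct (f934630 IH) (Lpe (f934632 IH) (Lpe (f442737 IH) (Lpr_gf (f923989 IH) (Lpr_cf (f604378 IH) (Lpn (LP (LK LD1_c28 LD2_c24 LD3_c57))))))))))))
theorem f938825 : Led Lsl_gt (LP (LK LD1_c18 LD2_c57 LD3_c19)) = (LP (LK LD1_c28 LD2_c24 LD3_c57)) :=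
  Leop (Lpe (f938824 IH) (Lpn (LP (LK LD1_c18 LD2_c57 LD3_c19))))
theorem seed_2647 : LEOK LG_g (LK LD1_c18 LD2_c57 LD3_c19) :=
  Leoe_g (LK LD1_c18 LD2_c57 LD3_c19) (f938825 IH)
def v43385 : LQ := Led Lsl_ft (LP (LK LD1_c10 LD2_c27 LD3_c25))
theorem f938944 : Led Lsl_ft (LP (LK LD1_c10 LD2_c27 LD3_c25)) = v43385 :=
  Lrfl
theorem f32637 : Led Lsl_gt (LP (LK LD1_c10 LD2_c27 LD3_c25)) = (LP (LK LD1_c18 LD2_c57 LD3_c28)) :=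
  Lre_g IH (LK LD1_c10 LD2_c27 LD3_c25) (LK LD1_c18 LD2_c57 LD3_c28) Lrfl Lrfl
theorem f32640 : Led Lsl_at (LP (LK LD1_c5 LD2_c18 LD3_c53)) = (LP (LK LD1_c10 LD2_c27 LD3_c25)) :=
  Lre_a IH (LK LD1_c5 LD2_c18 LD3_c53) (LK LD1_c10 LD2_c27 LD3_c25) Lrfl Lrfl
theorem f48612 : Led Lsl_ft (LP (LK LD1_c10 LD2_c27 LD3_c38)) = (LP (LK LD1_c5 LD2_c18 LD3_c53)) :=
  Lre_f IH (LK LD1_c10 LD2_c27 LD3_c38) (LK LD1_c5 LD2_c18 LD3_c53) Lrfl Lrfl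
theorem f938945 : Led Lsl_af (LP (LK LD1_c10 LD2_c27 LD3_c38)) = v43385 :=
  Lgr Lrot45 (Lpr_ft (f48612 IH) (Lpr_at (f32640 IH) (Lpr_ft (f938944 IH) (Lpn v43385))))
theorem f938949 : Led Lsl_gt (LP (LK LD1_c18 LD2_c57 LD3_c28)) = (LP (LK LD1_c10 LD2_c27 LD3_c38)) :=
  Lgr Lrot46 (Lpe (f32637 IH) (Lpr_ft (f938944 IH) (Lpe (f938945 IH) (Lpn (LP (LK LD1_c10 LD2_c27 LD3_c38))))))
theorem f938950 : Led Lsl_gt (LP (LK LD1_c18 LD2_c57 LD3_c28)) = (LP (LK LD1_c10 LD2_c27 LD3_c38)) :=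
  Leop (Lpe (f938949 IH) (Lpn (LP (LK LD1_c18 LD2_c57 LD3_c28))))
theorem seed_2648 : LEOK LG_g (LK LD1_c18 LD2_c57 LD3_c28) :=
  Leoe_g (LK LD1_c18 LD2_c57 LD3_c28) (f938950 IH)
def v43395 : LQ := Led Lsl_ct (LP (LK LD1_c10 LD2_c27 LD3_c32))
theorem f938998 : Led Lsl_ct (LP (LK LD1_c10 LD2_c27 LD3_c32)) = v43395 :=
  Lrfl
theorem f71748 : Led Lsl_gt (LP (LK LD1_c5 LD2_c18 LD3_c52)) = (LP (LK LD1_c10 LD2_c27 LD3_c32)) :=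
  Lre_g IH (LK LD1_c5 LD2_c18 LD3_c52) (LK LD1_c10 LD2_c27 LD3_c32) Lrfl Lrfl
theorem f939002 : Led Lsl_df (LP (LK LD1_c18 LD2_c20 LD3_c43)) = v43395 :=
  Lgr Lrot162 (Lpe (f929608 IH) (Lpe (K44.f264212 IH) (Lpe (K15.f250052 IH) (Lpe (K44.f250105 IH) (Lpr_dt (K72.f412791 IH) (Lpr_gt (K45.f48584 IH) (Lpr_ct (K44.f71554 IH) (Lpr_gt (f71748 IH) (Lpr_ct (f938998 IH) (Lpn v43395))))))))))
def v41790 : LQ := Led Lsl_bt (LP (LK LD1_c10 LD2_c2 LD3_c12))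
theorem f928633 : Led Lsl_bt (LP (LK LD1_c10 LD2_c2 LD3_c12)) = v41790 :=
  Lrfl
theorem f928637 : Led Lsl_ff (LP (LK LD1_c18 LD2_c10 LD3_c30)) = v41790 :=
  Lgr Lrot25 (Lpr_bt (K45.f412832 IH) (Lpe (K71.f603655 IH) (Lpr_bt (f928633 IH) (Lpn v41790))))
theorem f586460 : Led Lsl_ff (LP (LK LD1_c11 LD2_c36 LD3_c7)) = (LP (LK LD1_c10 LD2_c27 LD3_c26)) :=
  Lgr Lrot25 (Lpr_bt (K10.f71571 IH) (Lpr_ft (K45.f586456 IH) (Lpr_bt (K45.f186580 IH) (Lpn (LP (LK LD1_c10 LD2_c27 LD3_c26))))))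
theorem f928639 : Led Lsl_dt (LP (LK LD1_c11 LD2_c36 LD3_c7)) = v41790 :=
  Lgr Lrot60 (Lpr_ff (f586460 IH) (Lpe (K71.f412823 IH) (Lpr_ff (f928637 IH) (Lpn v41790))))
theorem f345144 : Led Lsl_ct (LP (LK LD1_c18 LD2_c32 LD3_c1)) = (LP (LK LD1_c10 LD2_c10 LD3_c23)) :=
  Lre_c IH (LK LD1_c18 LD2_c32 LD3_c1) (LK LD1_c10 LD2_c10 LD3_c23) Lrfl Lrfl
theorem f928644 : Led Lsl_gf (LP (LK LD1_c10 LD2_c10 LD3_c36)) = v41790 :=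
  Lgr Lrot179 (Lpr_ct (K72.f299867 IH) (Lpe (K72.f586582 IH) (Lpr_ct (f345144 IH) (Lpe (K71.f586556 IH) (Lpe (K53.f164052 IH) (Lpr_gf (K71.f618639 IH) (Lpr_cf (K71.f180699 IH) (Lpe (K71.f922684 IH) (Lpr_dt (f928639 IH) (Lpn v41790))))))))))
theorem f264243 : Led Lsl_ct (LP (LK LD1_c10 LD2_c2 LD3_c12)) = (LP (LK LD1_c18 LD2_c20 LD3_c25)) :=
  Lre_c IH (LK LD1_c10 LD2_c2 LD3_c12) (LK LD1_c18 LD2_c20 LD3_c25) Lrfl Lrfl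
theorem f929257 : Led Lsl_gf (LP (LK LD1_c18 LD2_c20 LD3_c25)) = (LP (LK LD1_c18 LD2_c53 LD3_c55)) :=
  Lgr Lrot126 (Lpe (f264243 IH) (Lpr_bt (f928633 IH) (Lpe (f928644 IH) (Lpr_ct (K72.f299867 IH) (Lpe (K72.f586582 IH) (Lpe (K72.f345141 IH) (Lpr_bt (K71.f586553 IH) (Lpr_gt (K72.f586578 IH) (Lpe (K72.f929234 IH) (Lpr_ct (K72.f929251 IH) (Lpn (LP (LK LD1_c18 LD2_c53 LD3_c55)))))))))))))
theorem f242468 : Led Lsl_bt (LP (LK LD1_c5 LD2_c9 LD3_c55)) = (LP (LK LD1_c10 LD2_c10 LD3_c36)) :=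
  Lre_b IH (LK LD1_c5 LD2_c9 LD3_c55) (LK LD1_c10 LD2_c10 LD3_c36) Lrfl Lrfl
theorem f299887 : Led Lsl_dt (LP (LK LD1_c18 LD2_c12 LD3_c45)) = (LP (LK LD1_c9 LD2_c57 LD3_c1)) :=
  Lre_d IH (LK LD1_c18 LD2_c12 LD3_c45) (LK LD1_c9 LD2_c57 LD3_c1) Lrfl Lrfl
theorem f242465 : Led Lsl_dt (LP (LK LD1_c10 LD2_c10 LD3_c37)) = (LP (LK LD1_c18 LD2_c32 LD3_c26)) :=
  Lre_d IH (LK LD1_c10 LD2_c10 LD3_c37) (LK LD1_c18 LD2_c32 LD3_c26) Lrfl Lrfl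
theorem f928483 : Led Lsl_ff (LP (LK LD1_c18 LD2_c12 LD3_c45)) = (LP (LK LD1_c18 LD2_c32 LD3_c26)) :=
  Lgr Lrot19 (Lpr_dt (f299887 IH) (Lpr_ft (K72.f925671 IH) (Lpqs (K72.f928282 IH) (Lpr_dt (f242465 IH) (Lpn (LP (LK LD1_c18 LD2_c32 LD3_c26)))))))
theorem f169657 : Led Lsl_dt (LP (LK LD1_c18 LD2_c12 LD3_c39)) = (LP (LK LD1_c9 LD2_c56 LD3_c59)) :=
  Lre_d IH (LK LD1_c18 LD2_c12 LD3_c39) (LK LD1_c9 LD2_c56 LD3_c59) Lrfl Lrfl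
theorem f721380 : Led Lsl_dt (LP (LK LD1_c10 LD2_c10 LD3_c34)) = (LP (LK LD1_c18 LD2_c32 LD3_c20)) :=
  Lre_d IH (LK LD1_c10 LD2_c10 LD3_c34) (LK LD1_c18 LD2_c32 LD3_c20) Lrfl Lrfl
theorem f928412 : Led Lsl_ff (LP (LK LD1_c18 LD2_c12 LD3_c39)) = (LP (LK LD1_c18 LD2_c32 LD3_c20)) :=
  Lgr Lrot19 (Lpr_dt (f169657 IH) (Lpr_ft (K72.f925677 IH) (Lpqs (K72.f928315 IH) (Lpr_dt (f721380 IH) (Lpn (LP (LK LD1_c18 LD2_c32 LD3_c20)))))))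
theorem f928416 : Led Lsl_ft (LP (LK LD1_c18 LD2_c12 LD3_c39)) = (LP (LK LD1_c18 LD2_c32 LD3_c20)) :=
  Lgr Lrot48 (Lpr_ff (f928412 IH) (Lpn (LP (LK LD1_c18 LD2_c32 LD3_c20))))
theorem f164538 : Led Lsl_dt (LP (LK LD1_c18 LD2_c37 LD3_c20)) = (LP (LK LD1_c10 LD2_c13 LD3_c53)) :=
  Lre_d IH (LK LD1_c18 LD2_c37 LD3_c20) (LK LD1_c10 LD2_c13 LD3_c53) Lrfl Lrfl
theorem f169659 : Led Lsl_dt (LP (LK LD1_c9 LD2_c56 LD3_c59)) = (LP (LK LD1_c18 LD2_c12 LD3_c39)) :=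
  Lre_d IH (LK LD1_c9 LD2_c56 LD3_c59) (LK LD1_c18 LD2_c12 LD3_c39) Lrfl Lrfl
theorem f721408 : Led Lsl_gf (LP (LK LD1_c18 LD2_c37 LD3_c20)) = (LP (LK LD1_c18 LD2_c12 LD3_c39)) :=
  Lgr Lrot143 (Lpr_dt (f164538 IH) (Lpe (K44.f165440 IH) (Lpe (K72.f260018 IH) (Lpe (K72.f721242 IH) (Lpe (K53.f180626 IH) (Lpe (K72.f180612 IH) (Lpr_cf (K72.f721404 IH) (Lpr_gt (K72.f177347 IH) (Lpr_dt (f169659 IH) (Lpn (LP (LK LD1_c18 LD2_c12 LD3_c39))))))))))))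
theorem f249778 : Led Lsl_at (LP (LK LD1_c18 LD2_c34 LD3_c16)) = (LP (LK LD1_c10 LD2_c11 LD3_c43)) :=
  Lre_a IH (LK LD1_c18 LD2_c34 LD3_c16) (LK LD1_c10 LD2_c11 LD3_c43) Lrfl Lrfl
theorem f699300 : Led Lsl_gt (LP (LK LD1_c18 LD2_c12 LD3_c5)) = (LP (LK LD1_c10 LD2_c11 LD3_c43)) :=
  Lgr Lrot46 (Lpr_gf (K72.f699298 IH) (Lpr_ft (K14.f249770 IH) (Lpr_at (f249778 IH) (Lpn (LP (LK LD1_c10 LD2_c11 LD3_c43))))))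
theorem f299884 : Led Lsl_dt (LP (LK LD1_c5 LD2_c3 LD3_c5)) = (LP (LK LD1_c9 LD2_c57 LD3_c2)) :=
  Lre_d IH (LK LD1_c5 LD2_c3 LD3_c5) (LK LD1_c9 LD2_c57 LD3_c2) Lrfl Lrfl
theorem f699304 : Led Lsl_gt (LP (LK LD1_c9 LD2_c57 LD3_c2)) = (LP (LK LD1_c5 LD2_c10 LD3_c40)) :=
  Lgr Lrot49 (Lpe (f299884 IH) (Lpr_gf (K72.f299880 IH) (Lpe (K18.f299719 IH) (Lpe (K53.f406751 IH) (Lpr_dt (K72.f406753 IH) (Lpr_gt (f699300 IH) (Lpr_dt (K14.f171624 IH) (Lpe (K53.f171625 IH) (Lpe (K14.f171640 IH) (Lpn (LP (LK LD1_c5 LD2_c10 LD3_c40))))))))))))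
theorem f699307 : Led Lsl_gf (LP (LK LD1_c9 LD2_c57 LD3_c2)) = (LP (LK LD1_c9 LD2_c58 LD3_c42)) :=
  Lgr Lrot47 (Lpr_gt (f699304 IH) (Lpe (K53.f249902 IH) (Lpe (K53.f249903 IH) (Lpn (LP (LK LD1_c9 LD2_c58 LD3_c42))))))
theorem f299891 : Led Lsl_dt (LP (LK LD1_c9 LD2_c57 LD3_c2)) = (LP (LK LD1_c5 LD2_c3 LD3_c5)) :=
  Lre_d IH (LK LD1_c9 LD2_c57 LD3_c2) (LK LD1_c5 LD2_c3 LD3_c5) Lrfl Lrfl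
theorem f192935 : Led Lsl_ct (LP (LK LD1_c10 LD2_c11 LD3_c57)) = (LP (LK LD1_c5 LD2_c10 LD3_c37)) :=
  Lre_c IH (LK LD1_c10 LD2_c11 LD3_c57) (LK LD1_c5 LD2_c10 LD3_c37) Lrfl Lrfl
theorem f233585 : Led Lsl_dt (LP (LK LD1_c10 LD2_c13 LD3_c53)) = (LP (LK LD1_c18 LD2_c37 LD3_c20)) :=
  Lre_d IH (LK LD1_c10 LD2_c13 LD3_c53) (LK LD1_c18 LD2_c37 LD3_c20) Lrfl Lrfl
theorem f699312 : Led Lsl_gf (LP (LK LD1_c18 LD2_c12 LD3_c45)) = (LP (LK LD1_c18 LD2_c37 LD3_c20)) :=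
  Lgr Lrot143 (Lpr_dt (f299887 IH) (Lpe (K44.f299885 IH) (Lpe (f299891 IH) (Lpr_gf (f699307 IH) (Lpe (K53.f249788 IH) (Lpr_gf (K53.f249884 IH) (Lpe (f192935 IH) (Lpr_gt (K72.f233572 IH) (Lpr_dt (f233585 IH) (Lpn (LP (LK LD1_c18 LD2_c37 LD3_c20))))))))))))
theorem f928419 : Led Lsl_af (LP (LK LD1_c18 LD2_c12 LD3_c45)) = (LP (LK LD1_c18 LD2_c32 LD3_c20)) :=
  Lgr Lrot31 (Lpr_gf (f699312 IH) (Lpr_gf (f721408 IH) (Lpr_ft (f928416 IH) (Lpn (LP (LK LD1_c18 LD2_c32 LD3_c20))))))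
theorem f928421 : Led Lsl_at (LP (LK LD1_c18 LD2_c12 LD3_c45)) = (LP (LK LD1_c18 LD2_c32 LD3_c20)) :=
  Lgr Lrot100 (Lpr_af (f928419 IH) (Lpn (LP (LK LD1_c18 LD2_c32 LD3_c20))))
theorem f928485 : Led Lsl_at (LP (LK LD1_c18 LD2_c12 LD3_c39)) = (LP (LK LD1_c18 LD2_c32 LD3_c26)) :=
  Lgr Lrot66 (Lpr_ff (f928412 IH) (Lpe (f928421 IH) (Lpr_ff (f928483 IH) (Lpn (LP (LK LD1_c18 LD2_c32 LD3_c26))))))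
theorem f242471 : Led Lsl_dt (LP (LK LD1_c18 LD2_c32 LD3_c26)) = (LP (LK LD1_c10 LD2_c10 LD3_c37)) :=
  Lre_d IH (LK LD1_c18 LD2_c32 LD3_c26) (LK LD1_c10 LD2_c10 LD3_c37) Lrfl Lrfl
theorem f405328 : Led Lsl_dt (LP (LK LD1_c18 LD2_c15 LD3_c5)) = (LP (LK LD1_c27 LD2_c55 LD3_c29)) :=
  Lre_d IH (LK LD1_c18 LD2_c15 LD3_c5) (LK LD1_c27 LD2_c55 LD3_c29) Lrfl Lrfl
theorem f721333 : Led Lsl_gf (LP (LK LD1_c18 LD2_c32 LD3_c26)) = (LP (LK LD1_c27 LD2_c55 LD3_c29)) :=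
  Lgr Lrot143 (Lpr_dt (f242471 IH) (Lpe (K72.f242467 IH) (Lpr_df (K69.f721328 IH) (Lpr_gf (K69.f417537 IH) (Lpe (K53.f248964 IH) (Lpr_gf (K53.f405325 IH) (Lpe (f165597 IH) (Lpr_gt (K53.f165591 IH) (Lpr_dt (f405328 IH) (Lpn (LP (LK LD1_c27 LD2_c55 LD3_c29))))))))))))
theorem f928496 : Led Lsl_gt (LP (LK LD1_c18 LD2_c32 LD3_c20)) = (LP (LK LD1_c27 LD2_c55 LD3_c29)) :=
  Lgr Lrot5 (Lpe (f928412 IH) (Lpr_at (f928485 IH) (Lpr_gf (f721333 IH) (Lpn (LP (LK LD1_c27 LD2_c55 LD3_c29))))))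
theorem f405636 : Led Lsl_dt (LP (LK LD1_c27 LD2_c55 LD3_c29)) = (LP (LK LD1_c18 LD2_c15 LD3_c5)) :=
  Lre_d IH (LK LD1_c27 LD2_c55 LD3_c29) (LK LD1_c18 LD2_c15 LD3_c5) Lrfl Lrfl
theorem f408380 : Led Lsl_gt (LP (LK LD1_c18 LD2_c39 LD3_c10)) = (LP (LK LD1_c10 LD2_c15 LD3_c10)) :=
  Lre_g IH (LK LD1_c18 LD2_c39 LD3_c10) (LK LD1_c10 LD2_c15 LD3_c10) Lrfl Lrfl
theorem f928500 : Led Lsl_cf (LP (LK LD1_c18 LD2_c32 LD3_c18)) = (LP (LK LD1_c18 LD2_c39 LD3_c10)) :=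
  Lgr Lrot166 (Lpr_gt (K72.f185330 IH) (Lpr_dt (f721380 IH) (Lpr_gt (f928496 IH) (Lpr_dt (f405636 IH) (Lpe (K53.f405626 IH) (Lpe (K53.f405628 IH) (Lpr_gf (K53.f721236 IH) (Lpe (K53.f585442 IH) (Lpe (f408380 IH) (Lpn (LP (LK LD1_c18 LD2_c39 LD3_c10))))))))))))
theorem f929610 : Led Lsl_bt (LP (LK LD1_c18 LD2_c39 LD3_c10)) = (LP (LK LD1_c18 LD2_c20 LD3_c43)) :=
  Lgr Lrot130 (Lpe (f928500 IH) (Lpe (K72.f928424 IH) (Lpqs (K72.f928282 IH) (Lpe (K72.f242467 IH) (Lpr_bt (f242468 IH) (Lpr_gf (f928644 IH) (Lpe (f928633 IH) (Lpr_ct (f264243 IH) (Lpr_gf (f929257 IH) (Lpe (K72.f929251 IH) (Lpr_gf (f929606 IH) (Lpn (LP (LK LD1_c18 LD2_c20 LD3_c43))))))))))))))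
theorem f928498 : Led Lsl_ct (LP (LK LD1_c18 LD2_c32 LD3_c18)) = (LP (LK LD1_c18 LD2_c39 LD3_c10)) :=
  Lgr Lrot8 (Lpr_gt (K72.f185330 IH) (Lpr_dt (f721380 IH) (Lpr_gt (f928496 IH) (Lpr_dt (f405636 IH) (Lpe (K53.f405619 IH) (Lpe (K53.f405628 IH) (Lpr_gf (K53.f721236 IH) (Lpe (K53.f585442 IH) (Lpe (f408380 IH) (Lpn (LP (LK LD1_c18 LD2_c39 LD3_c10))))))))))))
theorem f405378 : Led Lsl_dt (LP (LK LD1_c10 LD2_c13 LD3_c27)) = (LP (LK LD1_c18 LD2_c36 LD3_c39)) :=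
  Lre_d IH (LK LD1_c10 LD2_c13 LD3_c27) (LK LD1_c18 LD2_c36 LD3_c39) Lrfl Lrfl
theorem f249777 : Led Lsl_at (LP (LK LD1_c9 LD2_c58 LD3_c23)) = (LP (LK LD1_c18 LD2_c14 LD3_c36)) :=
  Lre_a IH (LK LD1_c9 LD2_c58 LD3_c23) (LK LD1_c18 LD2_c14 LD3_c36) Lrfl Lrfl
theorem f249779 : Led Lsl_ff (LP (LK LD1_c9 LD2_c58 LD3_c23)) = (LP (LK LD1_c10 LD2_c11 LD3_c43)) :=
  Lgr Lrot30 (Lpr_at (f249777 IH) (Lpr_ft (K14.f249770 IH) (Lpr_at (f249778 IH) (Lpn (LP (LK LD1_c10 LD2_c11 LD3_c43))))))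
theorem f699405 : Led Lsl_gt (LP (LK LD1_c10 LD2_c11 LD3_c43)) = (LP (LK LD1_c18 LD2_c12 LD3_c2)) :=
  Lgr Lrot5 (Lpe (f249779 IH) (Lpr_at (f249777 IH) (Lpr_gf (K72.f699400 IH) (Lpn (LP (LK LD1_c18 LD2_c12 LD3_c2))))))
theorem f714485 : Led Lsl_dt (LP (LK LD1_c18 LD2_c42 LD3_c56)) = (LP (LK LD1_c18 LD2_c12 LD3_c1)) :=
  Lgr Lrot105 (Lpr_gf (K53.f714480 IH) (Lpe (f405378 IH) (Lpe (K53.f412529 IH) (Lpr_cf (K53.f171636 IH) (Lpr_gt (K53.f171626 IH) (Lpr_dt (K53.f171639 IH) (Lpr_gt (f699405 IH) (Lpr_dt (K72.f408298 IH) (Lpe (K72.f169993 IH) (Lpn (LP (LK LD1_c18 LD2_c12 LD3_c1))))))))))))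
theorem f721326 : Led Lsl_ff (LP (LK LD1_c18 LD2_c31 LD3_c18)) = (LP (LK LD1_c18 LD2_c12 LD3_c1)) :=
  Lgr Lrot19 (Lpr_dt (K69.f721278 IH) (Lpe (K53.f645423 IH) (Lpr_dt (f714485 IH) (Lpn (LP (LK LD1_c18 LD2_c12 LD3_c1))))))
theorem f721466 : Led Lsl_gf (LP (LK LD1_c18 LD2_c39 LD3_c10)) = (LP (LK LD1_c18 LD2_c12 LD3_c1)) :=
  Lgr Lrot47 (Lpr_gt (f408380 IH) (Lpe (K72.f721258 IH) (Lpr_ff (f721326 IH) (Lpn (LP (LK LD1_c18 LD2_c12 LD3_c1))))))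
theorem f408299 : Led Lsl_ct (LP (LK LD1_c9 LD2_c56 LD3_c43)) = (LP (LK LD1_c18 LD2_c12 LD3_c1)) :=
  Lre_c IH (LK LD1_c9 LD2_c56 LD3_c43) (LK LD1_c18 LD2_c12 LD3_c1) Lrfl Lrfl
theorem f408306 : Led Lsl_bt (LP (LK LD1_c9 LD2_c56 LD3_c43)) = (LP (LK LD1_c18 LD2_c12 LD3_c0)) :=
  Lre_b IH (LK LD1_c9 LD2_c56 LD3_c43) (LK LD1_c18 LD2_c12 LD3_c0) Lrfl Lrfl
theorem f408309 : Led Lsl_gt (LP (LK LD1_c27 LD2_c52 LD3_c47)) = (LP (LK LD1_c18 LD2_c12 LD3_c0)) :=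
  Lre_g IH (LK LD1_c27 LD2_c52 LD3_c47) (LK LD1_c18 LD2_c12 LD3_c0) Lrfl Lrfl
theorem f299889 : Led Lsl_bt (LP (LK LD1_c9 LD2_c57 LD3_c1)) = (LP (LK LD1_c18 LD2_c12 LD3_c44)) :=
  Lre_b IH (LK LD1_c9 LD2_c57 LD3_c1) (LK LD1_c18 LD2_c12 LD3_c44) Lrfl Lrfl
theorem f46247 : Led Lsl_gt (LP (LK LD1_c16 LD2_c34 LD3_c40)) = (LP (LK LD1_c26 LD2_c32 LD3_c5)) :=
  Lre_g IH (LK LD1_c16 LD2_c34 LD3_c40) (LK LD1_c26 LD2_c32 LD3_c5) Lrfl Lrfl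
theorem f406766 : Led Lsl_bf (LP (LK LD1_c26 LD2_c32 LD3_c5)) = (LP (LK LD1_c27 LD2_c33 LD3_c48)) :=
  Lgr Lrot34 (Lpe (f46247 IH) (Lpe (K26.f46246 IH) (Lpr_ct (K12.f45749 IH) (Lpr_gf (K25.f259976 IH) (Lpe (K18.f165542 IH) (Lpr_gf (K17.f288404 IH) (Lpe (K44.f288349 IH) (Lpr_ct (K18.f299808 IH) (Lpe (K44.f249527 IH) (Lpe (K44.f300227 IH) (Lpn (LP (LK LD1_c27 LD2_c33 LD3_c48)))))))))))))
theorem f364102 : Led Lsl_ft (LP (LK LD1_c16 LD2_c34 LD3_c40)) = (LP (LK LD1_c10 LD2_c20 LD3_c18)) :=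
  Lgr Lrot75 (Lpe (K26.f46246 IH) (Lpr_ff (K26.f364100 IH) (Lpe (K53.f259735 IH) (Lpn (LP (LK LD1_c10 LD2_c20 LD3_c18))))))
theorem f364059 : Led Lsl_at (LP (LK LD1_c10 LD2_c20 LD3_c18)) = (LP (LK LD1_c18 LD2_c45 LD3_c56)) :=
  Lre_a IH (LK LD1_c10 LD2_c20 LD3_c18) (LK LD1_c18 LD2_c45 LD3_c56) Lrfl Lrfl
theorem f378046 : Led Lsl_gt (LP (LK LD1_c26 LD2_c32 LD3_c5)) = (LP (LK LD1_c18 LD2_c45 LD3_c56)) :=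
  Lgr Lrot46 (Lpe (f46247 IH) (Lpr_ft (f364102 IH) (Lpr_at (f364059 IH) (Lpn (LP (LK LD1_c18 LD2_c45 LD3_c56))))))
theorem f190364 : Led Lsl_bt (LP (LK LD1_c10 LD2_c32 LD3_c56)) = (LP (LK LD1_c5 LD2_c21 LD3_c19)) :=
  Lre_b IH (LK LD1_c10 LD2_c32 LD3_c56) (LK LD1_c5 LD2_c21 LD3_c19) Lrfl Lrfl
theorem f190407 : Led Lsl_at (LP (LK LD1_c19 LD2_c6 LD3_c18)) = (LP (LK LD1_c10 LD2_c32 LD3_c56)) :=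
  Lre_a IH (LK LD1_c19 LD2_c6 LD3_c18) (LK LD1_c10 LD2_c32 LD3_c56) Lrfl Lrfl
theorem f364086 : Led Lsl_bt (LP (LK LD1_c26 LD2_c32 LD3_c7)) = (LP (LK LD1_c19 LD2_c6 LD3_c18)) :=
  Lgr Lrot62 (Lpe (K53.f191801 IH) (Lpe (K26.f46246 IH) (Lpr_af (K26.f364082 IH) (Lpe (f190364 IH) (Lpe (f190407 IH) (Lpn (LP (LK LD1_c19 LD2_c6 LD3_c18))))))))
theorem f266004 : Led Lsl_bt (LP (LK LD1_c8 LD2_c5 LD3_c41)) = (LP (LK LD1_c15 LD2_c14 LD3_c30)) :=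
  Lre_b IH (LK LD1_c8 LD2_c5 LD3_c41) (LK LD1_c15 LD2_c14 LD3_c30) Lrfl Lrfl
theorem f371935 : Led Lsl_at (LP (LK LD1_c15 LD2_c14 LD3_c30)) = (LP (LK LD1_c25 LD2_c3 LD3_c38)) :=
  Lre_a IH (LK LD1_c15 LD2_c14 LD3_c30) (LK LD1_c25 LD2_c3 LD3_c38) Lrfl Lrfl
theorem f371936 : Led Lsl_bf (LP (LK LD1_c18 LD2_c5 LD3_c19)) = (LP (LK LD1_c25 LD2_c3 LD3_c38)) :=
  Lgr Lrot81 (Lpr_at (f252967 IH) (Lpr_bt (f3757 IH) (Lpr_at (K67.f371920 IH) (Lpr_bt (f266004 IH) (Lpr_at (f371935 IH) (Lpn (LP (LK LD1_c25 LD2_c3 LD3_c38))))))))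
theorem f239599 : Led Lsl_at (LP (LK LD1_c18 LD2_c45 LD3_c25)) = (LP (LK LD1_c10 LD2_c19 LD3_c51)) :=
  Lre_a IH (LK LD1_c18 LD2_c45 LD3_c25) (LK LD1_c10 LD2_c19 LD3_c51) Lrfl Lrfl
theorem f371879 : Led Lsl_ft (LP (LK LD1_c18 LD2_c5 LD3_c19)) = (LP (LK LD1_c18 LD2_c45 LD3_c25)) :=
  Lgr Lrot101 (Lpe (f252958 IH) (Lpr_ff (f371877 IH) (Lpe (f239599 IH) (Lpn (LP (LK LD1_c18 LD2_c45 LD3_c25))))))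
theorem f371826 : Led Lsl_at (LP (LK LD1_c5 LD2_c1 LD3_c59)) = (LP (LK LD1_c9 LD2_c52 LD3_c14)) :=
  Lgr Lrot107 (Lpr_cf (K15.f247742 IH) (Lpr_af (K67.f371815 IH) (Lpe (K67.f266110 IH) (Lpn (LP (LK LD1_c9 LD2_c52 LD3_c14))))))
theorem f265937 : Led Lsl_ct (LP (LK LD1_c9 LD2_c52 LD3_c3)) = (LP (LK LD1_c9 LD2_c34 LD3_c43)) :=
  Lgr Lrot8 (Lpr_gt (K15.f246832 IH) (Lpr_dt (K15.f246831 IH) (Lpe (K15.f252948 IH) (Lpr_dt (K15.f252712 IH) (Lpr_cf (K14.f247807 IH) (Lpe (K15.f247812 IH) (Lpe (K15.f265897 IH) (Lpe (K15.f247746 IH) (Lpr_gf (K15.f265934 IH) (Lpn (LP (LK LD1_c9 LD2_c34 LD3_c43))))))))))))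
theorem f266112 : Led Lsl_cf (LP (LK LD1_c9 LD2_c52 LD3_c14)) = (LP (LK LD1_c9 LD2_c51 LD3_c55)) :=
  Lgr Lrot166 (Lpr_gt (K67.f3371 IH) (Lpr_dt (K0.f3327 IH) (Lpr_gt (K10.f33365 IH) (Lpr_dt (K15.f33387 IH) (Lpr_ct (f265937 IH) (Lpe (K15.f33385 IH) (Lpr_gf (K14.f247927 IH) (Lpr_df (K9.f46544 IH) (Lpr_gf (K15.f266106 IH) (Lpn (LP (LK LD1_c9 LD2_c51 LD3_c55))))))))))))
theorem f371835 : Led Lsl_ff (LP (LK LD1_c5 LD2_c1 LD3_c58)) = (LP (LK LD1_c9 LD2_c52 LD3_c14)) :=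
  Lgr Lrot23 (Lpr_ct (K14.f247839 IH) (Lpr_ft (K67.f371828 IH) (Lpe (f266112 IH) (Lpn (LP (LK LD1_c9 LD2_c52 LD3_c14))))))
theorem f371871 : Led Lsl_at (LP (LK LD1_c5 LD2_c1 LD3_c58)) = (LP (LK LD1_c9 LD2_c52 LD3_c13)) :=
  Lgr Lrot66 (Lpr_ff (f371835 IH) (Lpe (f371826 IH) (Lpr_ff (f371869 IH) (Lpn (LP (LK LD1_c9 LD2_c52 LD3_c13))))))
theorem f192949 : Led Lsl_df (LP (LK LD1_c5 LD2_c15 LD3_c12)) = (LP (LK LD1_c9 LD2_c52 LD3_c13)) :=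
  Lgr Lrot174 (Lpr_ct (K15.f47785 IH) (Lpe (K15.f186850 IH) (Lpr_gf (K10.f186855 IH) (Lpe (K14.f45874 IH) (Lpe (K10.f44041 IH) (Lpr_ct (K10.f192931 IH) (Lpr_gt (K10.f3365 IH) (Lpr_dt (K0.f3318 IH) (Lpr_gt (K14.f3363 IH) (Lpn (LP (LK LD1_c9 LD2_c52 LD3_c13))))))))))))
theorem f371905 : Led Lsl_af (LP (LK LD1_c5 LD2_c1 LD3_c1)) = (LP (LK LD1_c5 LD2_c15 LD3_c12)) :=
  Lgr Lrot117 (Lpr_dt (K15.f252712 IH) (Lpr_at (f371871 IH) (Lpe (f192949 IH) (Lpn (LP (LK LD1_c5 LD2_c15 LD3_c12))))))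
theorem f184761 : Led Lsl_bt (LP (LK LD1_c5 LD2_c1 LD3_c1)) = (LP (LK LD1_c9 LD2_c52 LD3_c27)) :=
  Lre_b IH (LK LD1_c5 LD2_c1 LD3_c1) (LK LD1_c9 LD2_c52 LD3_c27) Lrfl Lrfl
theorem f190408 : Led Lsl_at (LP (LK LD1_c9 LD2_c52 LD3_c27)) = (LP (LK LD1_c18 LD2_c4 LD3_c28)) :=
  Lre_a IH (LK LD1_c9 LD2_c52 LD3_c27) (LK LD1_c18 LD2_c4 LD3_c28) Lrfl Lrfl
theorem f371907 : Led Lsl_bt (LP (LK LD1_c18 LD2_c4 LD3_c28)) = (LP (LK LD1_c18 LD2_c45 LD3_c25)) :=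
  Lgr Lrot62 (Lpe (f190408 IH) (Lpe (f184761 IH) (Lpr_af (f371905 IH) (Lpe (f239575 IH) (Lpe (f239599 IH) (Lpn (LP (LK LD1_c18 LD2_c45 LD3_c25))))))))
theorem f371915 : Led Lsl_bf (LP (LK LD1_c18 LD2_c4 LD3_c28)) = (LP (LK LD1_c18 LD2_c45 LD3_c25)) :=
  Lgr Lrot24 (Lpr_bt (f371907 IH) (Lpn (LP (LK LD1_c18 LD2_c45 LD3_c25))))
theorem f372016 : Led Lsl_ft (LP (LK LD1_c18 LD2_c4 LD3_c28)) = (LP (LK LD1_c25 LD2_c3 LD3_c38)) :=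
  Lgr Lrot75 (Lpr_bf (f371915 IH) (Lpe (f371879 IH) (Lpr_bf (f371936 IH) (Lpn (LP (LK LD1_c25 LD2_c3 LD3_c38))))))
theorem f372021 : Led Lsl_ff (LP (LK LD1_c18 LD2_c4 LD3_c28)) = (LP (LK LD1_c25 LD2_c3 LD3_c38)) :=
  Lgr Lrot3 (Lpr_ft (f372016 IH) (Lpn (LP (LK LD1_c25 LD2_c3 LD3_c38))))
theorem f190374 : Led Lsl_bt (LP (LK LD1_c10 LD2_c32 LD3_c58)) = (LP (LK LD1_c19 LD2_c6 LD3_c20)) :=
  Lre_b IH (LK LD1_c10 LD2_c32 LD3_c58) (LK LD1_c19 LD2_c6 LD3_c20) Lrfl Lrfl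
theorem f190375 : Led Lsl_bt (LP (LK LD1_c18 LD2_c4 LD3_c29)) = (LP (LK LD1_c9 LD2_c52 LD3_c28)) :=
  Lre_b IH (LK LD1_c18 LD2_c4 LD3_c29) (LK LD1_c9 LD2_c52 LD3_c28) Lrfl Lrfl
theorem f190376 : Led Lsl_ct (LP (LK LD1_c19 LD2_c6 LD3_c20)) = (LP (LK LD1_c18 LD2_c4 LD3_c29)) :=
  Lgr Lrot83 (Lpe (f190374 IH) (Lpe (f190373 IH) (Lpr_bf (K26.f190368 IH) (Lpe (K53.f184792 IH) (Lpe (f190375 IH) (Lpn (LP (LK LD1_c18 LD2_c4 LD3_c29))))))))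
theorem f190391 : Led Lsl_cf (LP (LK LD1_c19 LD2_c6 LD3_c20)) = (LP (LK LD1_c18 LD2_c4 LD3_c29)) :=
  Lgr Lrot11 (Lpr_ct (f190376 IH) (Lpn (LP (LK LD1_c18 LD2_c4 LD3_c29))))
theorem f190402 : Led Lsl_et (LP (LK LD1_c19 LD2_c6 LD3_c20)) = (LP (LK LD1_c10 LD2_c32 LD3_c56)) :=
  Lre_e IH (LK LD1_c19 LD2_c6 LD3_c20) (LK LD1_c10 LD2_c32 LD3_c56) Lrfl Lrfl
theorem f190403 : Led Lsl_et (LP (LK LD1_c9 LD2_c52 LD3_c27)) = (LP (LK LD1_c18 LD2_c4 LD3_c29)) :=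
  Lre_e IH (LK LD1_c9 LD2_c52 LD3_c27) (LK LD1_c18 LD2_c4 LD3_c29) Lrfl Lrfl
theorem f190404 : Led Lsl_ct (LP (LK LD1_c10 LD2_c32 LD3_c56)) = (LP (LK LD1_c9 LD2_c52 LD3_c27)) :=
  Lgr Lrot15 (Lpe (f190402 IH) (Lpr_cf (f190391 IH) (Lpe (f190403 IH) (Lpn (LP (LK LD1_c9 LD2_c52 LD3_c27))))))
theorem f190409 : Led Lsl_cf (LP (LK LD1_c19 LD2_c6 LD3_c18)) = (LP (LK LD1_c18 LD2_c4 LD3_c28)) :=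
  Lgr Lrot1 (Lpr_at (f190407 IH) (Lpr_ct (f190404 IH) (Lpr_at (f190408 IH) (Lpn (LP (LK LD1_c18 LD2_c4 LD3_c28))))))
theorem f259462 : Led Lsl_bt (LP (LK LD1_c5 LD2_c15 LD3_c37)) = (LP (LK LD1_c2 LD2_c34 LD3_c40)) :=
  Lre_b IH (LK LD1_c5 LD2_c15 LD3_c37) (LK LD1_c2 LD2_c34 LD3_c40) Lrfl Lrfl
theorem f369649 : Led Lsl_bt (LP (LK LD1_c18 LD2_c44 LD3_c44)) = (LP (LK LD1_c10 LD2_c20 LD3_c32)) :=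
  Lgr Lrot62 (Lpe (f252981 IH) (Lpe (f32896 IH) (Lpr_af (K27.f369646 IH) (Lpe (f259462 IH) (Lpe (K53.f369648 IH) (Lpn (LP (LK LD1_c10 LD2_c20 LD3_c32))))))))
theorem f214940 : Led Lsl_bt (LP (LK LD1_c16 LD2_c34 LD3_c41)) = (LP (LK LD1_c8 LD2_c51 LD3_c61)) :=
  Lre_b IH (LK LD1_c16 LD2_c34 LD3_c41) (LK LD1_c8 LD2_c51 LD3_c61) Lrfl Lrfl
theorem f364058 : Led Lsl_at (LP (LK LD1_c26 LD2_c32 LD3_c9)) = (LP (LK LD1_c16 LD2_c34 LD3_c41)) :=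
  Lre_a IH (LK LD1_c26 LD2_c32 LD3_c9) (LK LD1_c16 LD2_c34 LD3_c41) Lrfl Lrfl
theorem f364060 : Led Lsl_bf (LP (LK LD1_c26 LD2_c32 LD3_c9)) = (LP (LK LD1_c18 LD2_c45 LD3_c56)) :=
  Lgr Lrot81 (Lpr_at (f364058 IH) (Lpr_bt (f214940 IH) (Lpr_at (K26.f364054 IH) (Lpr_bt (K53.f265076 IH) (Lpr_at (f364059 IH) (Lpn (LP (LK LD1_c18 LD2_c45 LD3_c56))))))))
theorem f372012 : Led Lsl_ct (LP (LK LD1_c26 LD2_c32 LD3_c9)) = (LP (LK LD1_c25 LD2_c3 LD3_c38)) :=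
  Lgr Lrot83 (Lpr_bf (f364060 IH) (Lpe (f372011 IH) (Lpe (f369649 IH) (Lpr_cf (f252971 IH) (Lpr_bf (f371936 IH) (Lpn (LP (LK LD1_c25 LD2_c3 LD3_c38))))))))
theorem f372025 : Led Lsl_ft (LP (LK LD1_c19 LD2_c6 LD3_c18)) = (LP (LK LD1_c26 LD2_c32 LD3_c9)) :=
  Lgr Lrot4 (Lpr_cf (f190409 IH) (Lpr_ff (f372021 IH) (Lpe (f372012 IH) (Lpn (LP (LK LD1_c26 LD2_c32 LD3_c9))))))
theorem f376435 : Led Lsl_bt (LP (LK LD1_c26 LD2_c32 LD3_c9)) = (LP (LK LD1_c18 LD2_c45 LD3_c56)) :=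
  Lgr Lrot35 (Lpe (f372025 IH) (Lpe (f364086 IH) (Lpr_ff (f376430 IH) (Lpn (LP (LK LD1_c18 LD2_c45 LD3_c56))))))
theorem f190413 : Led Lsl_at (LP (LK LD1_c18 LD2_c4 LD3_c28)) = (LP (LK LD1_c9 LD2_c52 LD3_c27)) :=
  Lre_a IH (LK LD1_c18 LD2_c4 LD3_c28) (LK LD1_c9 LD2_c52 LD3_c27) Lrfl Lrfl
theorem f184825 : Led Lsl_gt (LP (LK LD1_c18 LD2_c4 LD3_c27)) = (LP (LK LD1_c9 LD2_c52 LD3_c27)) :=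
  Lre_g IH (LK LD1_c18 LD2_c4 LD3_c27) (LK LD1_c9 LD2_c52 LD3_c27) Lrfl Lrfl
theorem f372029 : Led Lsl_gf (LP (LK LD1_c18 LD2_c4 LD3_c27)) = (LP (LK LD1_c25 LD2_c3 LD3_c38)) :=
  Lgr Lrot47 (Lpr_gt (f184825 IH) (Lpe (f190413 IH) (Lpr_ff (f372021 IH) (Lpn (LP (LK LD1_c25 LD2_c3 LD3_c38))))))
theorem f190418 : Led Lsl_ct (LP (LK LD1_c27 LD2_c46 LD3_c0)) = (LP (LK LD1_c18 LD2_c4 LD3_c27)) :=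
  Lre_c IH (LK LD1_c27 LD2_c46 LD3_c0) (LK LD1_c18 LD2_c4 LD3_c27) Lrfl Lrfl
theorem f406770 : Led Lsl_bt (LP (LK LD1_c27 LD2_c46 LD3_c0)) = (LP (LK LD1_c18 LD2_c11 LD3_c21)) :=
  Lgr Lrot130 (Lpr_ct (f190418 IH) (Lpr_gf (f372029 IH) (Lpe (f372012 IH) (Lpr_bt (f376435 IH) (Lpe (f378046 IH) (Lpr_bf (f406766 IH) (Lpr_ct (K44.f300227 IH) (Lpe (K44.f300224 IH) (Lpr_cf (K18.f300058 IH) (Lpe (K44.f300038 IH) (Lpn (LP (LK LD1_c18 LD2_c11 LD3_c21)))))))))))))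
theorem f406775 : Led Lsl_gf (LP (LK LD1_c26 LD2_c32 LD3_c9)) = (LP (LK LD1_c18 LD2_c12 LD3_c44)) :=
  Lgr Lrot181 (Lpr_ct (f372012 IH) (Lpe (f372029 IH) (Lpe (f190418 IH) (Lpr_bt (f406770 IH) (Lpr_gt (K44.f300038 IH) (Lpe (K44.f299890 IH) (Lpr_ct (K18.f299719 IH) (Lpe (K72.f299880 IH) (Lpe (K44.f299888 IH) (Lpr_bt (f299889 IH) (Lpn (LP (LK LD1_c18 LD2_c12 LD3_c44)))))))))))))
theorem f372062 : Led Lsl_ct (LP (LK LD1_c18 LD2_c45 LD3_c56)) = (LP (LK LD1_c10 LD2_c20 LD3_c32)) :=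
  Lre_c IH (LK LD1_c18 LD2_c45 LD3_c56) (LK LD1_c10 LD2_c20 LD3_c32) Lrfl Lrfl
theorem f191163 : Led Lsl_gt (LP (LK LD1_c18 LD2_c44 LD3_c40)) = (LP (LK LD1_c10 LD2_c19 LD3_c30)) :=
  Lre_g IH (LK LD1_c18 LD2_c44 LD3_c40) (LK LD1_c10 LD2_c19 LD3_c30) Lrfl Lrfl
theorem f376426 : Led Lsl_gf (LP (LK LD1_c18 LD2_c44 LD3_c40)) = (LP (LK LD1_c10 LD2_c20 LD3_c32)) :=
  Lgr Lrot47 (Lpr_gt (f191163 IH) (Lpe (K53.f232050 IH) (Lpr_ff (K53.f376409 IH) (Lpn (LP (LK LD1_c10 LD2_c20 LD3_c32))))))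
theorem f408300 : Led Lsl_bt (LP (LK LD1_c18 LD2_c12 LD3_c0)) = (LP (LK LD1_c9 LD2_c56 LD3_c43)) :=
  Lre_b IH (LK LD1_c18 LD2_c12 LD3_c0) (LK LD1_c9 LD2_c56 LD3_c43) Lrfl Lrfl
theorem f408301 : Led Lsl_cf (LP (LK LD1_c18 LD2_c44 LD3_c40)) = (LP (LK LD1_c18 LD2_c12 LD3_c0)) :=
  Lgr Lrot58 (Lpr_gf (f376426 IH) (Lpe (f372062 IH) (Lpe (f364060 IH) (Lpr_gf (f406775 IH) (Lpe (f299889 IH) (Lpr_ct (K44.f299888 IH) (Lpr_gf (K72.f299880 IH) (Lpe (K18.f299719 IH) (Lpr_gf (f408296 IH) (Lpe (f408300 IH) (Lpn (LP (LK LD1_c18 LD2_c12 LD3_c0)))))))))))))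
theorem f408310 : Led Lsl_bt (LP (LK LD1_c28 LD2_c20 LD3_c53)) = (LP (LK LD1_c27 LD2_c52 LD3_c47)) :=
  Lgr Lrot130 (Lpr_ct (K44.f278346 IH) (Lpe (K44.f259676 IH) (Lpr_cf (K23.f278329 IH) (Lpr_bt (K44.f214945 IH) (Lpe (K68.f275183 IH) (Lpe (K14.f191797 IH) (Lpr_ct (K53.f232068 IH) (Lpe (f191163 IH) (Lpr_cf (f408301 IH) (Lpe (f408309 IH) (Lpn (LP (LK LD1_c27 LD2_c52 LD3_c47)))))))))))))
theorem f928502 : Led Lsl_bt (LP (LK LD1_c18 LD2_c32 LD3_c18)) = (LP (LK LD1_c18 LD2_c11 LD3_c36)) :=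
  Lgr Lrot130 (Lpr_ct (f928498 IH) (Lpr_gf (f721466 IH) (Lpe (f408299 IH) (Lpr_bt (f408306 IH) (Lpe (f408309 IH) (Lpe (f408310 IH) (Lpr_ct (K44.f278346 IH) (Lpe (K44.f259676 IH) (Lpr_cf (K23.f278329 IH) (Lpe (K44.f278345 IH) (Lpn (LP (LK LD1_c18 LD2_c11 LD3_c36)))))))))))))
theorem f928504 : Led Lsl_bf (LP (LK LD1_c18 LD2_c32 LD3_c18)) = (LP (LK LD1_c18 LD2_c11 LD3_c36)) :=
  Lgr Lrot24 (Lpr_bt (f928502 IH) (Lpn (LP (LK LD1_c18 LD2_c11 LD3_c36))))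
theorem f278376 : Led Lsl_bt (LP (LK LD1_c18 LD2_c10 LD3_c36)) = (LP (LK LD1_c27 LD2_c50 LD3_c48)) :=
  Lre_b IH (LK LD1_c18 LD2_c10 LD3_c36) (LK LD1_c27 LD2_c50 LD3_c48) Lrfl Lrfl
theorem f929615 : Led Lsl_cf (LP (LK LD1_c18 LD2_c10 LD3_c36)) = (LP (LK LD1_c18 LD2_c20 LD3_c43)) :=
  Lgr Lrot97 (Lpr_bt (f278376 IH) (Lpr_ct (K44.f278372 IH) (Lpe (f928504 IH) (Lpr_ct (f928498 IH) (Lpr_bt (f929610 IH) (Lpn (LP (LK LD1_c18 LD2_c20 LD3_c43))))))))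
theorem f257835 : Led Lsl_dt (LP (LK LD1_c18 LD2_c55 LD3_c28)) = (LP (LK LD1_c28 LD2_c23 LD3_c36)) :=
  Lre_d IH (LK LD1_c18 LD2_c55 LD3_c28) (LK LD1_c28 LD2_c23 LD3_c36) Lrfl Lrfl
theorem f938505 : Led Lsl_ct (LP (LK LD1_c28 LD2_c23 LD3_c36)) = (LP (LK LD1_c18 LD2_c57 LD3_c44)) :=
  Lgr Lrot59 (Lpr_cf (f938503 IH) (Lpn (LP (LK LD1_c18 LD2_c57 LD3_c44))))
theorem f165796 : Led Lsl_dt (LP (LK LD1_c18 LD2_c57 LD3_c44)) = (LP (LK LD1_c10 LD2_c27 LD3_c33)) :=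
  Lre_d IH (LK LD1_c18 LD2_c57 LD3_c44) (LK LD1_c10 LD2_c27 LD3_c33) Lrfl Lrfl
theorem f412921 : Led Lsl_dt (LP (LK LD1_c10 LD2_c7 LD3_c1)) = (LP (LK LD1_c18 LD2_c10 LD3_c3)) :=
  Lgr Lrot27 (Lpe (K53.f165789 IH) (Lpe (K44.f166219 IH) (Lpe (K44.f71645 IH) (Lpe (K44.f186588 IH) (Lpe (K44.f412826 IH) (Lpr_gt (K45.f412919 IH) (Lpr_ct (K45.f264216 IH) (Lpe (K45.f410263 IH) (Lpr_ct (K53.f403039 IH) (Lpn (LP (LK LD1_c18 LD2_c10 LD3_c3))))))))))))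
theorem f412787 : Led Lsl_dt (LP (LK LD1_c18 LD2_c55 LD3_c31)) = (LP (LK LD1_c28 LD2_c23 LD3_c41)) :=
  Lre_d IH (LK LD1_c18 LD2_c55 LD3_c31) (LK LD1_c28 LD2_c23 LD3_c41) Lrfl Lrfl
theorem f442776 : Led Lsl_dt (LP (LK LD1_c18 LD2_c57 LD3_c43)) = (LP (LK LD1_c10 LD2_c27 LD3_c32)) :=
  Lre_d IH (LK LD1_c18 LD2_c57 LD3_c43) (LK LD1_c10 LD2_c27 LD3_c32) Lrfl Lrfl
theorem f939003 : Led Lsl_ct (LP (LK LD1_c28 LD2_c23 LD3_c41)) = (LP (LK LD1_c18 LD2_c57 LD3_c43)) :=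
  Lgr Lrot176 (Lpe (f412787 IH) (Lpe (K72.f405836 IH) (Lpe (K44.f412784 IH) (Lpe (K45.f403040 IH) (Lpe (f412921 IH) (Lpe (K53.f165789 IH) (Lpe (f165796 IH) (Lpe (f938505 IH) (Lpe (f257835 IH) (Lpe (K72.f257825 IH) (Lpe (K44.f412836 IH) (Lpr_cf (f929615 IH) (Lpr_df (f939002 IH) (Lpe (f938998 IH) (Lpe (f442776 IH) (Lpn (LP (LK LD1_c18 LD2_c57 LD3_c43))))))))))))))))))
theorem f939004 : Led Lsl_ct (LP (LK LD1_c28 LD2_c23 LD3_c41)) = (LP (LK LD1_c18 LD2_c57 LD3_c43)) :=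
  Leop (Lpe (f939003 IH) (Lpn (LP (LK LD1_c28 LD2_c23 LD3_c41))))
theorem seed_2649 : LEOK LG_c (LK LD1_c28 LD2_c23 LD3_c41) :=
  Leoe_c (LK LD1_c28 LD2_c23 LD3_c41) (f939004 IH)
theorem f412840 : Led Lsl_df (LP (LK LD1_c18 LD2_c10 LD3_c36)) = (LP (LK LD1_c10 LD2_c26 LD3_c0)) :=
  Lgr Lrot38 (Lpr_dt (K44.f412836 IH) (Lpn (LP (LK LD1_c10 LD2_c26 LD3_c0))))
def v41548 : LQ := Led Lsl_dt (LP (LK LD1_c9 LD2_c58 LD3_c57))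
theorem f926738 : Led Lsl_dt (LP (LK LD1_c9 LD2_c58 LD3_c57)) = v41548 :=
  Lrfl
theorem f939006 : Led Lsl_gt v41548 = v43395 :=
  Lgr Lrot49 (Lpe (f926738 IH) (Lpe (K71.f604167 IH) (Lpr_cf (K72.f405452 IH) (Lpr_gt (K72.f48857 IH) (Lpr_dt (K45.f48509 IH) (Lpr_gt (K44.f48517 IH) (Lpe (f412840 IH) (Lpr_cf (f929615 IH) (Lpr_df (f939002 IH) (Lpn v43395))))))))))
def v42190 : LQ := Led Lsl_gf (LP (LK LD1_c10 LD2_c7 LD3_c1))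
theorem f932786 : Led Lsl_gf (LP (LK LD1_c10 LD2_c7 LD3_c1)) = v42190 :=
  Lrfl
theorem f71675 : Led Lsl_ct (LP (LK LD1_c5 LD2_c18 LD3_c52)) = (LP (LK LD1_c2 LD2_c36 LD3_c1)) :=
  Lre_c IH (LK LD1_c5 LD2_c18 LD3_c52) (LK LD1_c2 LD2_c36 LD3_c1) Lrfl Lrfl
theorem f927379 : Led Lsl_gt (LP (LK LD1_c18 LD2_c36 LD3_c22)) = (LP (LK LD1_c10 LD2_c13 LD3_c36)) :=
  Lgr Lrot5 (Lpr_ft (K72.f604376 IH) (Lpq (K72.f927376 IH) (Lpe (K72.f926737 IH) (Lpe (K71.f604167 IH) (Lpn (LP (LK LD1_c10 LD2_c13 LD3_c36)))))))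
theorem f932788 : Led Lsl_df (LP (LK LD1_c18 LD2_c36 LD3_c22)) = v42190 :=
  Lgr Lrot155 (Lpr_gt (f927379 IH) (Lpr_ct (K53.f405441 IH) (Lpr_gt (K72.f48857 IH) (Lpr_ct (K13.f48575 IH) (Lpr_dt (K44.f48583 IH) (Lpe (f71675 IH) (Lpe (K44.f71752 IH) (Lpr_cf (K44.f165784 IH) (Lpr_gf (f932786 IH) (Lpn v42190))))))))))
theorem f932789 : Led Lsl_ft (LP (LK LD1_c18 LD2_c36 LD3_c46)) = v42190 :=
  Lgr Lrot54 (Lpe (f181055 IH) (Lpe (K72.f604376 IH) (Lpr_df (f932788 IH) (Lpn v42190))))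
theorem f932790 : Led Lsl_ff (LP (LK LD1_c18 LD2_c36 LD3_c46)) = v42190 :=
  Lgr Lrot3 (Lpr_ft (f932789 IH) (Lpn v42190))
theorem f181054 : Led Lsl_dt (LP (LK LD1_c18 LD2_c36 LD3_c46)) = (LP (LK LD1_c10 LD2_c13 LD3_c31)) :=
  Lre_d IH (LK LD1_c18 LD2_c36 LD3_c46) (LK LD1_c10 LD2_c13 LD3_c31) Lrfl Lrfl
theorem f927804 : Led Lsl_af (LP (LK LD1_c18 LD2_c36 LD3_c46)) = v41548 :=
  Lgr Lrot117 (Lpr_dt (f181054 IH) (Lpq (K72.f927376 IH) (Lpe (K72.f926737 IH) (Lpr_dt (f926738 IH) (Lpn v41548)))))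
theorem f927805 : Led Lsl_at (LP (LK LD1_c18 LD2_c36 LD3_c46)) = v41548 :=
  Lgr Lrot100 (Lpr_af (f927804 IH) (Lpn v41548))
def v42189 : LQ := Led Lsl_gt (LP (LK LD1_c10 LD2_c7 LD3_c1))
theorem f932785 : Led Lsl_gt (LP (LK LD1_c10 LD2_c7 LD3_c1)) = v42189 :=
  Lrfl
theorem f932791 : v41548 = v42189 :=
  (Llr Lrot26 (Lpe (f927805 IH) (Lpr_ff (f932790 IH) (Lpe (f932786 IH) (Lpr_gt (f932785 IH) (Lpn v42189)))))).symm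
def v42192 : LQ := Led Lsl_ft (LP (LK LD1_c10 LD2_c7 LD3_c1))
theorem f932794 : Led Lsl_ft (LP (LK LD1_c10 LD2_c7 LD3_c1)) = v42192 :=
  Lrfl
theorem f939007 : Led Lsl_at v42192 = v43395 :=
  Lgr Lrot26 (Lpe (f932794 IH) (Lpr_gt (f932785 IH) (Lpq (f932791 IH) (Lpr_gt (f939006 IH) (Lpn v43395)))))
theorem f932796 : Led Lsl_ff (LP (LK LD1_c10 LD2_c7 LD3_c1)) = v42192 :=
  Lgr Lrot3 (Lpr_ft (f932794 IH) (Lpn v42192))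
def v14398 : LQ := Led Lsl_ft (LP (LK LD1_c5 LD2_c8 LD3_c17))
theorem f722343 : Led Lsl_ft (LP (LK LD1_c5 LD2_c8 LD3_c17)) = v14398 :=
  Lrfl
theorem f932797 : Led Lsl_bt v14398 = v42192 :=
  Lgr Lrot35 (Lpe (f722343 IH) (Lpe (K44.f164632 IH) (Lpr_ff (f932796 IH) (Lpn v42192))))
theorem f722346 : Led Lsl_ff (LP (LK LD1_c5 LD2_c8 LD3_c17)) = v14398 :=
  Lgr Lrot3 (Lpr_ft (f722343 IH) (Lpn v14398))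
theorem f722347 : Led Lsl_at (LP (LK LD1_c5 LD2_c8 LD3_c18)) = v14398 :=
  Lgr Lrot66 (Lpr_ff (f722341 IH) (Lpe (f722337 IH) (Lpr_ff (f722346 IH) (Lpn v14398))))
theorem f164605 : Led Lsl_bt (LP (LK LD1_c10 LD2_c7 LD3_c4)) = (LP (LK LD1_c5 LD2_c8 LD3_c18)) :=
  Lre_b IH (LK LD1_c10 LD2_c7 LD3_c4) (LK LD1_c5 LD2_c8 LD3_c18) Lrfl Lrfl
theorem f603910 : Led Lsl_at (LP (LK LD1_c18 LD2_c26 LD3_c14)) = (LP (LK LD1_c10 LD2_c7 LD3_c4)) :=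
  Lre_a IH (LK LD1_c18 LD2_c26 LD3_c14) (LK LD1_c10 LD2_c7 LD3_c4) Lrfl Lrfl
theorem f939009 : Led Lsl_bf (LP (LK LD1_c18 LD2_c26 LD3_c14)) = v43395 :=
  Lgr Lrot81 (Lpr_at (f603910 IH) (Lpr_bt (f164605 IH) (Lpr_at (f722347 IH) (Lpr_bt (f932797 IH) (Lpr_at (f939007 IH) (Lpn v43395))))))
theorem f939001 : Led Lsl_dt (LP (LK LD1_c18 LD2_c20 LD3_c43)) = v43395 :=
  Lgr Lrot27 (Lpe (f929608 IH) (Lpe (K44.f264212 IH) (Lpe (K15.f250052 IH) (Lpe (K44.f250105 IH) (Lpr_df (K45.f412874 IH) (Lpr_gt (K45.f48584 IH) (Lpr_ct (K44.f71554 IH) (Lpr_gt (f71748 IH) (Lpr_ct (f938998 IH) (Lpn v43395))))))))))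
theorem f939011 : Led Lsl_dt (LP (LK LD1_c18 LD2_c26 LD3_c14)) = (LP (LK LD1_c18 LD2_c39 LD3_c10)) :=
  Lgr Lrot79 (Lpr_bf (f939009 IH) (Lpe (f939001 IH) (Lpe (f929610 IH) (Lpn (LP (LK LD1_c18 LD2_c39 LD3_c10))))))
theorem f939012 : Led Lsl_dt (LP (LK LD1_c18 LD2_c26 LD3_c14)) = (LP (LK LD1_c18 LD2_c39 LD3_c10)) :=
  Leop (Lpe (f939011 IH) (Lpn (LP (LK LD1_c18 LD2_c26 LD3_c14))))
theorem seed_2650 : LEOK LG_d (LK LD1_c18 LD2_c26 LD3_c14) :=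
  Leoe_d (LK LD1_c18 LD2_c26 LD3_c14) (f939012 IH)
def v43394 : LQ := Led Lsl_at (LP (LK LD1_c10 LD2_c27 LD3_c32))
theorem f938991 : Led Lsl_at (LP (LK LD1_c10 LD2_c27 LD3_c32)) = v43394 :=
  Lrfl
theorem f938992 : Led Lsl_af (LP (LK LD1_c10 LD2_c27 LD3_c32)) = v43394 :=
  Lgr Lrot0 (Lpr_at (f938991 IH) (Lpn v43394))
theorem f938994 : Led Lsl_ft (LP (LK LD1_c10 LD2_c27 LD3_c33)) = v43394 :=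
  Lgr Lrot2 (Lpr_gt (K44.f71752 IH) (Lpr_gt (f71748 IH) (Lpr_af (f938992 IH) (Lpn v43394))))
theorem f938996 : Led Lsl_ff (LP (LK LD1_c10 LD2_c27 LD3_c33)) = v43394 :=
  Lgr Lrot3 (Lpr_ft (f938994 IH) (Lpn v43394))
theorem f938997 : Led Lsl_ct v42192 = v43394 :=
  Lgr Lrot40 (Lpe (f932794 IH) (Lpe (K53.f165789 IH) (Lpr_ff (f938996 IH) (Lpn v43394))))
def v42599 : LQ := Led Lsl_ft (LP (LK LD1_c10 LD2_c14 LD3_c4))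
theorem f934827 : Led Lsl_ft (LP (LK LD1_c10 LD2_c14 LD3_c4)) = v42599 :=
  Lrfl
theorem f934829 : Led Lsl_ff (LP (LK LD1_c10 LD2_c14 LD3_c4)) = v42599 :=
  Lgr Lrot3 (Lpr_ft (f934827 IH) (Lpn v42599))
def v14503 : LQ := Led Lsl_ft (LP (LK LD1_c5 LD2_c11 LD3_c40))
theorem f722897 : Led Lsl_ft (LP (LK LD1_c5 LD2_c11 LD3_c40)) = v14503 :=
  Lrfl
theorem f934830 : Led Lsl_bt v14503 = v42599 :=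
  Lgr Lrot35 (Lpe (f722897 IH) (Lpe (K71.f163749 IH) (Lpr_ff (f934829 IH) (Lpn v42599))))
theorem f165787 : Led Lsl_bt (LP (LK LD1_c5 LD2_c8 LD3_c17)) = (LP (LK LD1_c10 LD2_c7 LD3_c1)) :=
  Lre_b IH (LK LD1_c5 LD2_c8 LD3_c17) (LK LD1_c10 LD2_c7 LD3_c1) Lrfl Lrfl
theorem f722900 : Led Lsl_ff (LP (LK LD1_c5 LD2_c11 LD3_c40)) = v14503 :=
  Lgr Lrot3 (Lpr_ft (f722897 IH) (Lpn v14503))
def v14501 : LQ := Led Lsl_at (LP (LK LD1_c5 LD2_c11 LD3_c40))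
theorem f722882 : Led Lsl_at (LP (LK LD1_c5 LD2_c11 LD3_c40)) = v14501 :=
  Lrfl
theorem f722883 : Led Lsl_af (LP (LK LD1_c5 LD2_c11 LD3_c40)) = v14501 :=
  Lgr Lrot0 (Lpr_at (f722882 IH) (Lpn v14501))
theorem f722885 : Led Lsl_ft (LP (LK LD1_c5 LD2_c11 LD3_c41)) = v14501 :=
  Lgr Lrot2 (Lpr_gt (K72.f21494 IH) (Lpr_gt (K71.f21490 IH) (Lpr_af (f722883 IH) (Lpn v14501))))
theorem f722888 : Led Lsl_ff (LP (LK LD1_c5 LD2_c11 LD3_c41)) = v14501 :=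
  Lgr Lrot3 (Lpr_ft (f722885 IH) (Lpn v14501))
theorem f722901 : Led Lsl_at (LP (LK LD1_c5 LD2_c11 LD3_c41)) = v14503 :=
  Lgr Lrot66 (Lpr_ff (f722888 IH) (Lpe (f722882 IH) (Lpr_ff (f722900 IH) (Lpn v14503))))
def v42199 : LQ := Led Lsl_ft (LP (LK LD1_c10 LD2_c7 LD3_c4))
theorem f932822 : Led Lsl_ft (LP (LK LD1_c10 LD2_c7 LD3_c4)) = v42199 :=
  Lrfl
theorem f932823 : Led Lsl_bf v14397 = v42199 :=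
  Lgr Lrot61 (Lpe (f722341 IH) (Lpr_bt (K53.f603897 IH) (Lpr_ft (f932822 IH) (Lpn v42199))))
theorem f939000 : Led Lsl_cf (LP (LK LD1_c10 LD2_c27 LD3_c32)) = v43395 :=
  Lgr Lrot11 (Lpr_ct (f938998 IH) (Lpn v43395))
theorem f71553 : Led Lsl_ct (LP (LK LD1_c5 LD2_c55 LD3_c7)) = (LP (LK LD1_c2 LD2_c54 LD3_c3)) :=
  Lre_c IH (LK LD1_c5 LD2_c55 LD3_c7) (LK LD1_c2 LD2_c54 LD3_c3) Lrfl Lrfl
theorem f71555 : Led Lsl_ff (LP (LK LD1_c5 LD2_c55 LD3_c7)) = (LP (LK LD1_c5 LD2_c18 LD3_c52)) :=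
  Lgr Lrot23 (Lpr_ct (f71553 IH) (Lpr_ft (K2.f71548 IH) (Lpr_ct (K44.f71554 IH) (Lpn (LP (LK LD1_c5 LD2_c18 LD3_c52))))))
theorem f71657 : Led Lsl_at (LP (LK LD1_c5 LD2_c55 LD3_c7)) = (LP (LK LD1_c11 LD2_c35 LD3_c45)) :=
  Lre_a IH (LK LD1_c5 LD2_c55 LD3_c7) (LK LD1_c11 LD2_c35 LD3_c45) Lrfl Lrfl
theorem f442774 : Led Lsl_gf (LP (LK LD1_c11 LD2_c35 LD3_c45)) = (LP (LK LD1_c10 LD2_c27 LD3_c32)) :=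
  Lgr Lrot76 (Lpe (f71657 IH) (Lpr_ff (f71555 IH) (Lpr_gt (f71748 IH) (Lpn (LP (LK LD1_c10 LD2_c27 LD3_c32))))))
theorem f35041 : Led Lsl_dt (LP (LK LD1_c4 LD2_c35 LD3_c46)) = (LP (LK LD1_c2 LD2_c35 LD3_c7)) :=
  Lgr Lrot42 (Lpr_df (K44.f35031 IH) (Lpn (LP (LK LD1_c2 LD2_c35 LD3_c7))))
theorem f35060 : Led Lsl_at (LP (LK LD1_c9 LD2_c7 LD3_c58)) = (LP (LK LD1_c4 LD2_c35 LD3_c46)) :=
  Lre_a IH (LK LD1_c9 LD2_c7 LD3_c58) (LK LD1_c4 LD2_c35 LD3_c46) Lrfl Lrfl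
theorem f32686 : Led Lsl_at (LP (LK LD1_c2 LD2_c35 LD3_c7)) = (LP (LK LD1_c5 LD2_c16 LD3_c34)) :=
  Lre_a IH (LK LD1_c2 LD2_c35 LD3_c7) (LK LD1_c5 LD2_c16 LD3_c34) Lrfl Lrfl
theorem f35061 : Led Lsl_df (LP (LK LD1_c9 LD2_c7 LD3_c58)) = (LP (LK LD1_c5 LD2_c16 LD3_c34)) :=
  Lgr Lrot18 (Lpr_at (f35060 IH) (Lpr_dt (f35041 IH) (Lpr_at (f32686 IH) (Lpn (LP (LK LD1_c5 LD2_c16 LD3_c34))))))
theorem f35074 : Led Lsl_ft (LP (LK LD1_c9 LD2_c7 LD3_c58)) = (LP (LK LD1_c5 LD2_c16 LD3_c45)) :=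
  Lgr Lrot54 (Lpr_df (f35061 IH) (Lpe (K44.f32676 IH) (Lpe (K72.f32727 IH) (Lpn (LP (LK LD1_c5 LD2_c16 LD3_c45))))))
theorem f32607 : Led Lsl_at (LP (LK LD1_c5 LD2_c16 LD3_c45)) = (LP (LK LD1_c2 LD2_c35 LD3_c6)) :=
  Lre_a IH (LK LD1_c5 LD2_c16 LD3_c45) (LK LD1_c2 LD2_c35 LD3_c6) Lrfl Lrfl
theorem f35088 : Led Lsl_gt (LP (LK LD1_c9 LD2_c7 LD3_c58)) = (LP (LK LD1_c5 LD2_c16 LD3_c47)) :=
  Lgr Lrot5 (Lpr_ft (f35074 IH) (Lpr_at (f32607 IH) (Lpe (K72.f35012 IH) (Lpn (LP (LK LD1_c5 LD2_c16 LD3_c47))))))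
theorem f934841 : Led Lsl_cf (LP (LK LD1_c18 LD2_c16 LD3_c13)) = (LP (LK LD1_c18 LD2_c50 LD3_c30)) :=
  Lgr Lrot11 (Lpr_ct (f934837 IH) (Lpn (LP (LK LD1_c18 LD2_c50 LD3_c30))))
theorem f32795 : Led Lsl_gt (LP (LK LD1_c5 LD2_c16 LD3_c42)) = (LP (LK LD1_c10 LD2_c22 LD3_c42)) :=
  Lre_g IH (LK LD1_c5 LD2_c16 LD3_c42) (LK LD1_c10 LD2_c22 LD3_c42) Lrfl Lrfl
theorem f32787 : Led Lsl_gt (LP (LK LD1_c5 LD2_c16 LD3_c34)) = (LP (LK LD1_c2 LD2_c35 LD3_c4)) :=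
  Lre_g IH (LK LD1_c5 LD2_c16 LD3_c34) (LK LD1_c2 LD2_c35 LD3_c4) Lrfl Lrfl
theorem f934849 : Led Lsl_gt (LP (LK LD1_c10 LD2_c23 LD3_c7)) = (LP (LK LD1_c18 LD2_c50 LD3_c30)) :=
  Lgr Lrot150 (Lpe (f35092 IH) (Lpe (f35088 IH) (Lpr_df (f35061 IH) (Lpr_gt (f32787 IH) (Lpr_ct (K44.f32794 IH) (Lpr_gt (f32795 IH) (Lpe (K71.f343418 IH) (Lpe (K53.f343381 IH) (Lpr_cf (f934841 IH) (Lpn (LP (LK LD1_c18 LD2_c50 LD3_c30))))))))))))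
theorem f939016 : Led Lsl_gf (LP (LK LD1_c18 LD2_c26 LD3_c14)) = (LP (LK LD1_c18 LD2_c37 LD3_c16)) :=
  Lgr Lrot124 (Lpr_bf (f939009 IH) (Lpe (f939000 IH) (Lpe (f442774 IH) (Lpe (K44.f71645 IH) (Lpr_bt (K44.f71649 IH) (Lpr_gt (f35088 IH) (Lpr_ct (f35092 IH) (Lpr_gt (f934849 IH) (Lpe (f934837 IH) (Lpr_bt (K53.f343400 IH) (Lpn (LP (LK LD1_c18 LD2_c37 LD3_c16)))))))))))))
theorem f603907 : Led Lsl_at (LP (LK LD1_c10 LD2_c7 LD3_c4)) = (LP (LK LD1_c18 LD2_c26 LD3_c14)) :=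
  Lre_a IH (LK LD1_c10 LD2_c7 LD3_c4) (LK LD1_c18 LD2_c26 LD3_c14) Lrfl Lrfl
theorem f932824 : Led Lsl_ff (LP (LK LD1_c10 LD2_c7 LD3_c4)) = v42199 :=
  Lgr Lrot3 (Lpr_ft (f932822 IH) (Lpn v42199))
theorem f939019 : v42199 = (LP (LK LD1_c10 LD2_c14 LD3_c7)) :=
  (Llr Lrot52 (Lpe (f932824 IH) (Lpr_at (f603907 IH) (Lpr_gf (f939016 IH) (Lpe (f926995 IH) (Lpn (LP (LK LD1_c10 LD2_c14 LD3_c7)))))))).symm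
theorem f939020 : v14397 = (LP (LK LD1_c5 LD2_c11 LD3_c41)) :=
  Lefun (Lecon (Lfl_bf (f932823 IH)) (f939019 IH)) (f163748 IH)
theorem f939024 : (LP (LK LD1_c5 LD2_c8 LD3_c17)) = v14503 :=
  Lefun (Lecon (Lfl_af (f722338 IH)) (f939020 IH)) (f722901 IH)
theorem f939033 : v42599 = (LP (LK LD1_c10 LD2_c7 LD3_c1)) :=
  Lefun (Lecon (f934830 IH) (f939024 IH).symm) (f165787 IH)
theorem f939055 : (LP (LK LD1_c10 LD2_c14 LD3_c4)) = v42192 :=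
  Lefun (Lecon (Lfl_ff (f934829 IH)) (f939033 IH)) (f932794 IH)
theorem f939078 : v43394 = (LP (LK LD1_c11 LD2_c35 LD3_c44)) :=
  Lefun (Lecon (f938997 IH) (f939055 IH).symm) (Lfl_cf (K71.f421636 IH))
theorem f180592 : Led Lsl_gt (LP (LK LD1_c5 LD2_c55 LD3_c7)) = (LP (LK LD1_c11 LD2_c35 LD3_c43)) :=
  Lre_g IH (LK LD1_c5 LD2_c55 LD3_c7) (LK LD1_c11 LD2_c35 LD3_c43) Lrfl Lrfl
theorem f939083 : Led Lsl_at (LP (LK LD1_c10 LD2_c27 LD3_c33)) = (LP (LK LD1_c11 LD2_c35 LD3_c43)) :=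
  Lgr Lrot26 (Lpr_ff (f938996 IH) (Lpqs (f939078 IH) (Lpr_gt (K71.f71598 IH) (Lpr_gt (f180592 IH) (Lpn (LP (LK LD1_c11 LD2_c35 LD3_c43)))))))
theorem f939094 : Led Lsl_ff (LP (LK LD1_c10 LD2_c27 LD3_c32)) = (LP (LK LD1_c11 LD2_c35 LD3_c43)) :=
  Lgr Lrot30 (Lpr_at (f938991 IH) (Lpe (f938996 IH) (Lpr_at (f939083 IH) (Lpn (LP (LK LD1_c11 LD2_c35 LD3_c43))))))
theorem f939102 : Led Lsl_ft (LP (LK LD1_c10 LD2_c27 LD3_c32)) = (LP (LK LD1_c11 LD2_c35 LD3_c43)) :=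
  Lgr Lrot48 (Lpr_ff (f939094 IH) (Lpn (LP (LK LD1_c11 LD2_c35 LD3_c43))))
theorem f71749 : Led Lsl_dt (LP (LK LD1_c10 LD2_c27 LD3_c32)) = (LP (LK LD1_c18 LD2_c57 LD3_c43)) :=
  Lre_d IH (LK LD1_c10 LD2_c27 LD3_c32) (LK LD1_c18 LD2_c57 LD3_c43) Lrfl Lrfl
theorem f939085 : Led Lsl_af (LP (LK LD1_c10 LD2_c27 LD3_c33)) = (LP (LK LD1_c11 LD2_c35 LD3_c43)) :=
  Lgr Lrot0 (Lpr_at (f939083 IH) (Lpn (LP (LK LD1_c11 LD2_c35 LD3_c43))))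
theorem f412794 : Led Lsl_dt (LP (LK LD1_c28 LD2_c23 LD3_c41)) = (LP (LK LD1_c18 LD2_c55 LD3_c31)) :=
  Lre_d IH (LK LD1_c28 LD2_c23 LD3_c41) (LK LD1_c18 LD2_c55 LD3_c31) Lrfl Lrfl
theorem f939115 : Led Lsl_ct (LP (LK LD1_c18 LD2_c57 LD3_c43)) = (LP (LK LD1_c28 LD2_c23 LD3_c41)) :=
  Lgr Lrot133 (Lpe (f71749 IH) (Lpr_ft (f939102 IH) (Lpe (f939085 IH) (Lpr_cf (K44.f165784 IH) (Lpr_df (K53.f412923 IH) (Lpe (K53.f403039 IH) (Lpr_df (K72.f412788 IH) (Lpe (K72.f412793 IH) (Lpe (f412794 IH) (Lpn (LP (LK LD1_c28 LD2_c23 LD3_c41))))))))))))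
theorem f442721 : Led Lsl_dt (LP (LK LD1_c11 LD2_c35 LD3_c43)) = (LP (LK LD1_c20 LD2_c33 LD3_c54)) :=
  Lre_d IH (LK LD1_c11 LD2_c35 LD3_c43) (LK LD1_c20 LD2_c33 LD3_c54) Lrfl Lrfl
theorem f939112 : Led Lsl_ff (LP (LK LD1_c18 LD2_c57 LD3_c43)) = (LP (LK LD1_c20 LD2_c33 LD3_c54)) :=
  Lgr Lrot19 (Lpr_dt (f442776 IH) (Lpr_ft (f939102 IH) (Lpr_dt (f442721 IH) (Lpn (LP (LK LD1_c20 LD2_c33 LD3_c54))))))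
theorem f939108 : Led Lsl_ct (LP (LK LD1_c29 LD2_c30 LD3_c37)) = (LP (LK LD1_c20 LD2_c33 LD3_c54)) :=
  Lre_c IH (LK LD1_c29 LD2_c30 LD3_c37) (LK LD1_c20 LD2_c33 LD3_c54) Lrfl Lrfl
theorem f939119 : Led Lsl_ff (LP (LK LD1_c29 LD2_c30 LD3_c37)) = (LP (LK LD1_c28 LD2_c23 LD3_c41)) :=
  Lgr Lrot23 (Lpr_ct (f939108 IH) (Lpe (f939112 IH) (Lpr_ct (f939115 IH) (Lpn (LP (LK LD1_c28 LD2_c23 LD3_c41))))))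
theorem f939126 : Led Lsl_at (LP (LK LD1_c29 LD2_c30 LD3_c37)) = (LP (LK LD1_c28 LD2_c23 LD3_c36)) :=
  Lgr Lrot33 (Lpr_ff (f939119 IH) (Lpr_dt (f412794 IH) (Lpr_ct (K72.f412793 IH) (Lpe (K72.f412788 IH) (Lpr_ct (K53.f403039 IH) (Lpe (K53.f412923 IH) (Lpe (K44.f165784 IH) (Lpr_dt (f165791 IH) (Lpe (f938503 IH) (Lpn (LP (LK LD1_c28 LD2_c23 LD3_c36))))))))))))
theorem f603653 : Led Lsl_df (LP (LK LD1_c10 LD2_c2 LD3_c12)) = (LP (LK LD1_c5 LD2_c55 LD3_c24)) :=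
  Lgr Lrot78 (Lpr_ft (K71.f603647 IH) (Lpr_dt (K44.f412826 IH) (Lpe (K45.f586468 IH) (Lpn (LP (LK LD1_c5 LD2_c55 LD3_c24))))))
theorem f923201 : Led Lsl_dt (LP (LK LD1_c18 LD2_c32 LD3_c10)) = (LP (LK LD1_c10 LD2_c14 LD3_c4)) :=
  Lgr Lrot27 (Lpe (K71.f421617 IH) (Lpr_gf (K71.f923198 IH) (Lpe (K71.f923194 IH) (Lpr_gf (K71.f264241 IH) (Lpr_df (f603653 IH) (Lpr_gt (K10.f71561 IH) (Lpr_ct (K71.f32655 IH) (Lpe (K71.f421644 IH) (Lpr_ct (K71.f421640 IH) (Lpn (LP (LK LD1_c10 LD2_c14 LD3_c4))))))))))))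
theorem f421642 : Led Lsl_gt (LP (LK LD1_c18 LD2_c36 LD3_c46)) = (LP (LK LD1_c10 LD2_c14 LD3_c4)) :=
  Lgr Lrot9 (Lpe (f181055 IH) (Lpr_gt (K72.f181049 IH) (Lpr_ct (K44.f165439 IH) (Lpe (K44.f181047 IH) (Lpr_ct (K2.f71579 IH) (Lpe (K71.f71529 IH) (Lpe (f71553 IH) (Lpe (K71.f71598 IH) (Lpr_cf (K71.f421636 IH) (Lpn (LP (LK LD1_c10 LD2_c14 LD3_c4))))))))))))
theorem f48655 : Led Lsl_dt (LP (LK LD1_c5 LD2_c18 LD3_c9)) = (LP (LK LD1_c10 LD2_c25 LD3_c61)) :=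
  Lre_d IH (LK LD1_c5 LD2_c18 LD3_c9) (LK LD1_c10 LD2_c25 LD3_c61) Lrfl Lrfl
theorem f923205 : Led Lsl_df (LP (LK LD1_c18 LD2_c20 LD3_c15)) = (LP (LK LD1_c18 LD2_c55 LD3_c23)) :=
  Lgr Lrot84 (Lpr_cf (K71.f421608 IH) (Lpr_df (K71.f923203 IH) (Lpe (f421642 IH) (Lpe (f181055 IH) (Lpe (K72.f604344 IH) (Lpr_cf (K72.f604339 IH) (Lpe (K53.f405459 IH) (Lpr_dt (f48655 IH) (Lpr_gt (f48656 IH) (Lpn (LP (LK LD1_c18 LD2_c55 LD3_c23))))))))))))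
theorem f71713 : Led Lsl_ct (LP (LK LD1_c28 LD2_c23 LD3_c25)) = (LP (LK LD1_c18 LD2_c55 LD3_c23)) :=
  Lre_c IH (LK LD1_c28 LD2_c23 LD3_c25) (LK LD1_c18 LD2_c55 LD3_c23) Lrfl Lrfl
theorem f575784 : Led Lsl_ct (LP (LK LD1_c20 LD2_c33 LD3_c54)) = (LP (LK LD1_c29 LD2_c30 LD3_c37)) :=
  Lre_c IH (LK LD1_c20 LD2_c33 LD3_c54) (LK LD1_c29 LD2_c30 LD3_c37) Lrfl Lrfl
theorem f939104 : Led Lsl_df (LP (LK LD1_c28 LD2_c23 LD3_c25)) = (LP (LK LD1_c29 LD2_c30 LD3_c37)) :=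
  Lgr Lrot106 (Lpr_ct (f71713 IH) (Lpe (f923205 IH) (Lpr_ct (K71.f421617 IH) (Lpr_dt (f923201 IH) (Lpe (K71.f421636 IH) (Lpq (f939078 IH) (Lpe (f938991 IH) (Lpr_ff (f939094 IH) (Lpr_dt (f442721 IH) (Lpr_ct (f575784 IH) (Lpn (LP (LK LD1_c29 LD2_c30 LD3_c37)))))))))))))
theorem f939106 : Led Lsl_dt (LP (LK LD1_c28 LD2_c23 LD3_c25)) = (LP (LK LD1_c29 LD2_c30 LD3_c37)) :=
  Lgr Lrot42 (Lpr_df (f939104 IH) (Lpn (LP (LK LD1_c29 LD2_c30 LD3_c37))))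
theorem f939132 : Led Lsl_af (LP (LK LD1_c28 LD2_c23 LD3_c25)) = (LP (LK LD1_c18 LD2_c55 LD3_c28)) :=
  Lgr Lrot117 (Lpr_dt (f939106 IH) (Lpr_at (f939126 IH) (Lpr_dt (f257834 IH) (Lpn (LP (LK LD1_c18 LD2_c55 LD3_c28))))))
theorem f939139 : (LP (LK LD1_c18 LD2_c55 LD3_c23)) = v43282 :=
  (Llr Lrot111 (Lpe (f71713 IH) (Lpr_af (f939132 IH) (Lpe (K72.f257825 IH) (Lpr_af (f938501 IH) (Lpn v43282)))))).symm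
theorem f939146 : Led Lsl_ff (LP (LK LD1_c18 LD2_c10 LD3_c37)) = (LP (LK LD1_c18 LD2_c20 LD3_c15)) :=
  Lgr Lrot19 (Lpr_dt (K44.f412784 IH) (Lpr_ft (f938502 IH) (Lpq (f939139 IH) (Lpe (f923205 IH) (Lpn (LP (LK LD1_c18 LD2_c20 LD3_c15)))))))
theorem f939154 : Led Lsl_at (LP (LK LD1_c18 LD2_c10 LD3_c37)) = (LP (LK LD1_c18 LD2_c20 LD3_c14)) :=
  Lgr Lrot26 (Lpr_ff (f939146 IH) (Lpr_gt (K71.f186727 IH) (Lpr_gt (K71.f169544 IH) (Lpn (LP (LK LD1_c18 LD2_c20 LD3_c14))))))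
theorem f442720 : Led Lsl_dt (LP (LK LD1_c20 LD2_c33 LD3_c54)) = (LP (LK LD1_c11 LD2_c35 LD3_c43)) :=
  Lre_d IH (LK LD1_c20 LD2_c33 LD3_c54) (LK LD1_c11 LD2_c35 LD3_c43) Lrfl Lrfl
def v42191 : LQ := Led Lsl_at (LP (LK LD1_c10 LD2_c7 LD3_c1))
theorem f932792 : Led Lsl_at (LP (LK LD1_c10 LD2_c7 LD3_c1)) = v42191 :=
  Lrfl
theorem f932793 : Led Lsl_af (LP (LK LD1_c10 LD2_c7 LD3_c1)) = v42191 :=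
  Lgr Lrot0 (Lpr_at (f932792 IH) (Lpn v42191))
theorem f939088 : Led Lsl_cf v42191 = (LP (LK LD1_c11 LD2_c35 LD3_c43)) :=
  Lgr Lrot1 (Lpe (f932793 IH) (Lpe (K44.f165784 IH) (Lpr_at (f939083 IH) (Lpn (LP (LK LD1_c11 LD2_c35 LD3_c43))))))
theorem f939156 : Led Lsl_df (LP (LK LD1_c18 LD2_c41 LD3_c44)) = v42191 :=
  Lgr Lrot177 (Lpe (K71.f923979 IH) (Lpe (f939154 IH) (Lpr_ff (f939146 IH) (Lpr_dt (K71.f923199 IH) (Lpr_ct (f181068 IH) (Lpr_dt (f939106 IH) (Lpr_ct (f939108 IH) (Lpr_dt (f442720 IH) (Lpe (f939088 IH) (Lpn v42191))))))))))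
theorem f603668 : Led Lsl_df (LP (LK LD1_c18 LD2_c20 LD3_c14)) = (LP (LK LD1_c18 LD2_c55 LD3_c24)) :=
  Lgr Lrot38 (Lpr_dt (K72.f603663 IH) (Lpn (LP (LK LD1_c18 LD2_c55 LD3_c24))))
def v42518 : LQ := Led Lsl_dt (LP (LK LD1_c10 LD2_c13 LD3_c12))
theorem f934456 : Led Lsl_dt (LP (LK LD1_c10 LD2_c13 LD3_c12)) = v42518 :=
  Lrfl
theorem f939164 : Led Lsl_gt v42518 = v42191 :=
  Lgr Lrot49 (Lpe (f934456 IH) (Lpr_gf (K44.f585799 IH) (Lpe (K44.f164643 IH) (Lpe (K44.f181047 IH) (Lpr_dt (K72.f71564 IH) (Lpr_gt (K72.f181053 IH) (Lpe (f603668 IH) (Lpr_cf (K71.f923979 IH) (Lpr_df (f939156 IH) (Lpn v42191))))))))))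
theorem f926740 : Led Lsl_df (LP (LK LD1_c9 LD2_c58 LD3_c57)) = v41548 :=
  Lgr Lrot38 (Lpr_dt (f926738 IH) (Lpn v41548))
theorem f934460 : Led Lsl_ff v41548 = v42518 :=
  Lgr Lrot19 (Lpe (f926740 IH) (Lpr_ft (K72.f926746 IH) (Lpq (K72.f927381 IH) (Lpr_dt (f934456 IH) (Lpn v42518)))))
theorem f939165 : Led Lsl_gf (LP (LK LD1_c18 LD2_c36 LD3_c46)) = v42191 :=
  Lgr Lrot76 (Lpr_af (f927804 IH) (Lpr_ff (f934460 IH) (Lpr_gt (f939164 IH) (Lpn v42191))))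
theorem f604380 : Led Lsl_ct (LP (LK LD1_c32 LD2_c34 LD3_c31)) = (LP (LK LD1_c28 LD2_c24 LD3_c57)) :=
  Lgr Lrot59 (Lpr_cf (f604378 IH) (Lpn (LP (LK LD1_c28 LD2_c24 LD3_c57))))
theorem f71596 : Led Lsl_dt (LP (LK LD1_c11 LD2_c35 LD3_c46)) = (LP (LK LD1_c5 LD2_c55 LD3_c7)) :=
  Lre_d IH (LK LD1_c11 LD2_c35 LD3_c46) (LK LD1_c5 LD2_c55 LD3_c7) Lrfl Lrfl
theorem f71707 : Led Lsl_gt (LP (LK LD1_c11 LD2_c35 LD3_c46)) = (LP (LK LD1_c20 LD2_c33 LD3_c57)) :=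
  Lre_g IH (LK LD1_c11 LD2_c35 LD3_c46) (LK LD1_c20 LD2_c33 LD3_c57) Lrfl Lrfl
theorem f71710 : Led Lsl_ct (LP (LK LD1_c20 LD2_c33 LD3_c57)) = (LP (LK LD1_c29 LD2_c30 LD3_c42)) :=
  Lre_c IH (LK LD1_c20 LD2_c33 LD3_c57) (LK LD1_c29 LD2_c30 LD3_c42) Lrfl Lrfl
theorem f939166 : Led Lsl_gf (LP (LK LD1_c32 LD2_c34 LD3_c31)) = (LP (LK LD1_c29 LD2_c30 LD3_c42)) :=
  Lgr Lrot104 (Lpr_ct (f604380 IH) (Lpe (f442745 IH) (Lpe (f583305 IH) (Lpr_gf (f939165 IH) (Lpr_cf (f939088 IH) (Lpe (f180592 IH) (Lpe (f71596 IH) (Lpr_gt (f71707 IH) (Lpr_ct (f71710 IH) (Lpn (LP (LK LD1_c29 LD2_c30 LD3_c42))))))))))))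
theorem f939167 : Led Lsl_gt (LP (LK LD1_c29 LD2_c30 LD3_c42)) = (LP (LK LD1_c32 LD2_c34 LD3_c31)) :=
  Leop (Lpr_gf (f939166 IH) (Lpn (LP (LK LD1_c29 LD2_c30 LD3_c42))))
theorem seed_2651 : LEOK LG_g (LK LD1_c29 LD2_c30 LD3_c42) :=
  Leoe_g (LK LD1_c29 LD2_c30 LD3_c42) (f939167 IH)
def v41450 : LQ := Led Lsl_gf (LP (LK LD1_c9 LD2_c57 LD3_c56))
theorem f926019 : Led Lsl_gf (LP (LK LD1_c9 LD2_c57 LD3_c56)) = v41450 :=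
  Lrfl
def v43110 : LQ := Led Lsl_gf (LP (LK LD1_c10 LD2_c22 LD3_c48))
theorem f937799 : Led Lsl_gf (LP (LK LD1_c10 LD2_c22 LD3_c48)) = v43110 :=
  Lrfl
theorem f603916 : Led Lsl_at (LP (LK LD1_c5 LD2_c16 LD3_c43)) = (LP (LK LD1_c10 LD2_c22 LD3_c48)) :=
  Lre_a IH (LK LD1_c5 LD2_c16 LD3_c43) (LK LD1_c10 LD2_c22 LD3_c48) Lrfl Lrfl
def v14649 : LQ := Led Lsl_dt (LP (LK LD1_c5 LD2_c16 LD3_c35))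
theorem f724781 : Led Lsl_dt (LP (LK LD1_c5 LD2_c16 LD3_c35)) = v14649 :=
  Lrfl
theorem f636384 : Led Lsl_ft (LP (LK LD1_c2 LD2_c35 LD3_c4)) = (LP (LK LD1_c5 LD2_c16 LD3_c35)) :=
  Lre_f IH (LK LD1_c2 LD2_c35 LD3_c4) (LK LD1_c5 LD2_c16 LD3_c35) Lrfl Lrfl
theorem f724784 : Led Lsl_ff (LP (LK LD1_c5 LD2_c16 LD3_c43)) = v14649 :=
  Lgr Lrot19 (Lpr_dt (K72.f35103 IH) (Lpr_ft (f636384 IH) (Lpr_dt (f724781 IH) (Lpn v14649))))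
theorem f937800 : Led Lsl_gt v14649 = v43110 :=
  Lgr Lrot5 (Lpe (f724784 IH) (Lpr_at (f603916 IH) (Lpr_gf (f937799 IH) (Lpn v43110))))
theorem f939122 : Led Lsl_ft (LP (LK LD1_c28 LD2_c23 LD3_c25)) = (LP (LK LD1_c18 LD2_c55 LD3_c31)) :=
  Lgr Lrot54 (Lpr_df (f939104 IH) (Lpr_ff (f939119 IH) (Lpe (f412787 IH) (Lpn (LP (LK LD1_c18 LD2_c55 LD3_c31))))))
theorem f939162 : Led Lsl_af (LP (LK LD1_c28 LD2_c23 LD3_c27)) = (LP (LK LD1_c18 LD2_c55 LD3_c31)) :=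
  Lgr Lrot109 (Lpe (K72.f181064 IH) (Lpe (K72.f603663 IH) (Lpr_cf (K71.f923979 IH) (Lpr_df (f939156 IH) (Lpr_cf (f939088 IH) (Lpe (f442720 IH) (Lpe (f939108 IH) (Lpe (f939106 IH) (Lpr_ft (f939122 IH) (Lpn (LP (LK LD1_c18 LD2_c55 LD3_c31))))))))))))
def v43283 : LQ := Led Lsl_ft (LP (LK LD1_c10 LD2_c26 LD3_c0))
theorem f938508 : Led Lsl_ft (LP (LK LD1_c10 LD2_c26 LD3_c0)) = v43283 :=
  Lrfl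
theorem f938509 : Led Lsl_af (LP (LK LD1_c10 LD2_c26 LD3_c1)) = v43283 :=
  Lgr Lrot45 (Lpr_ft (f938502 IH) (Lpe (f938501 IH) (Lpr_ft (f938508 IH) (Lpn v43283))))
theorem f939178 : (LP (LK LD1_c18 LD2_c55 LD3_c24)) = v43283 :=
  (Llr Lrot111 (Lpe (K72.f181066 IH) (Lpr_af (f939162 IH) (Lpe (K72.f405836 IH) (Lpr_af (f938509 IH) (Lpn v43283)))))).symm
theorem f939185 : Led Lsl_ff (LP (LK LD1_c18 LD2_c10 LD3_c36)) = (LP (LK LD1_c18 LD2_c20 LD3_c14)) :=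
  Lgr Lrot19 (Lpr_dt (K44.f412836 IH) (Lpr_ft (f938508 IH) (Lpq (f939178 IH) (Lpe (f603668 IH) (Lpn (LP (LK LD1_c18 LD2_c20 LD3_c14)))))))
theorem f939193 : Led Lsl_ft (LP (LK LD1_c18 LD2_c10 LD3_c36)) = (LP (LK LD1_c18 LD2_c20 LD3_c14)) :=
  Lgr Lrot48 (Lpr_ff (f939185 IH) (Lpn (LP (LK LD1_c18 LD2_c20 LD3_c14))))
theorem f939197 : Led Lsl_af (LP (LK LD1_c18 LD2_c10 LD3_c37)) = (LP (LK LD1_c18 LD2_c20 LD3_c14)) :=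
  Lgr Lrot31 (Lpr_gf (K45.f410263 IH) (Lpe (K44.f264213 IH) (Lpr_ft (f939193 IH) (Lpn (LP (LK LD1_c18 LD2_c20 LD3_c14))))))
theorem f939152 : Led Lsl_ft (LP (LK LD1_c18 LD2_c10 LD3_c37)) = (LP (LK LD1_c18 LD2_c20 LD3_c15)) :=
  Lgr Lrot48 (Lpr_ff (f939146 IH) (Lpn (LP (LK LD1_c18 LD2_c20 LD3_c15))))
theorem f939201 : Led Lsl_at (LP (LK LD1_c18 LD2_c20 LD3_c15)) = (LP (LK LD1_c18 LD2_c10 LD3_c36)) :=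
  Lgr Lrot66 (Lpe (f939152 IH) (Lpr_af (f939197 IH) (Lpe (f939193 IH) (Lpn (LP (LK LD1_c18 LD2_c10 LD3_c36))))))
theorem f939203 : Led Lsl_af (LP (LK LD1_c18 LD2_c32 LD3_c10)) = (LP (LK LD1_c18 LD2_c20 LD3_c43)) :=
  Lgr Lrot68 (Lpe (K71.f421608 IH) (Lpr_at (f939201 IH) (Lpr_ct (f929608 IH) (Lpn (LP (LK LD1_c18 LD2_c20 LD3_c43))))))
def v42338 : LQ := Led Lsl_at (LP (LK LD1_c10 LD2_c10 LD3_c30))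
theorem f933526 : Led Lsl_at (LP (LK LD1_c10 LD2_c10 LD3_c30)) = v42338 :=
  Lrfl
def v41255 : LQ := Led Lsl_at (LP (LK LD1_c9 LD2_c55 LD3_c27))
theorem f922924 : Led Lsl_at (LP (LK LD1_c9 LD2_c55 LD3_c27)) = v41255 :=
  Lrfl
theorem f922926 : Led Lsl_df v14397 = v41255 :=
  Lgr Lrot18 (Lpe (f722338 IH) (Lpr_dt (K53.f412952 IH) (Lpr_at (f922924 IH) (Lpn v41255))))
theorem f922928 : Led Lsl_ft (LP (LK LD1_c9 LD2_c55 LD3_c28)) = v41255 :=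
  Lgr Lrot54 (Lpr_df (f603900 IH) (Lpr_ff (f722341 IH) (Lpr_df (f922926 IH) (Lpn v41255))))
theorem f922929 : Led Lsl_ff (LP (LK LD1_c9 LD2_c55 LD3_c28)) = v41255 :=
  Lgr Lrot3 (Lpr_ft (f922928 IH) (Lpn v41255))
theorem f933528 : Led Lsl_df v14501 = v42338 :=
  Lgr Lrot18 (Lpe (f722883 IH) (Lpr_dt (K71.f722892 IH) (Lpq (K71.f923207 IH) (Lpr_at (f933526 IH) (Lpn v42338)))))
theorem f933530 : Led Lsl_ft K72.v14504 = v42338 :=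
  Lgr Lrot54 (Lpe (K72.f722905 IH) (Lpr_ff (f722888 IH) (Lpr_df (f933528 IH) (Lpn v42338))))
theorem f922927 : Led Lsl_dt v14397 = v41255 :=
  Lgr Lrot42 (Lpr_df (f922926 IH) (Lpn v41255))
theorem f939028 : v41255 = K72.v14504 :=
  Lefun (Lecon (f922927 IH) (f939020 IH)) (K72.f722905 IH)
theorem f939051 : (LP (LK LD1_c9 LD2_c55 LD3_c28)) = v42338 :=
  Lefun (Lecon (Lfl_ff (f922929 IH)) (f939028 IH)) (f933530 IH)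
theorem f169644 : Led Lsl_bt (LP (LK LD1_c9 LD2_c55 LD3_c28)) = (LP (LK LD1_c18 LD2_c10 LD3_c6)) :=
  Lre_b IH (LK LD1_c9 LD2_c55 LD3_c28) (LK LD1_c18 LD2_c10 LD3_c6) Lrfl Lrfl
theorem f939207 : Led Lsl_at (LP (LK LD1_c18 LD2_c10 LD3_c6)) = (LP (LK LD1_c18 LD2_c39 LD3_c10)) :=
  Lgr Lrot67 (Lpe (f169644 IH) (Lpqs (f939051 IH) (Lpe (f933526 IH) (Lpe (K71.f242361 IH) (Lpr_af (f939203 IH) (Lpe (f929610 IH) (Lpn (LP (LK LD1_c18 LD2_c39 LD3_c10)))))))))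
theorem f939221 : Led Lsl_ff (LP (LK LD1_c18 LD2_c10 LD3_c6)) = (LP (LK LD1_c18 LD2_c32 LD3_c13)) :=
  Lgr Lrot52 (Lpr_at (f939207 IH) (Lpr_gf (f721466 IH) (Lpe (f926999 IH) (Lpn (LP (LK LD1_c18 LD2_c32 LD3_c13))))))
theorem f939225 : Led Lsl_ft (LP (LK LD1_c18 LD2_c10 LD3_c6)) = (LP (LK LD1_c18 LD2_c32 LD3_c13)) :=
  Lgr Lrot48 (Lpr_ff (f939221 IH) (Lpn (LP (LK LD1_c18 LD2_c32 LD3_c13))))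
theorem f939229 : Led Lsl_af (LP (LK LD1_c18 LD2_c22 LD3_c15)) = (LP (LK LD1_c18 LD2_c32 LD3_c13)) :=
  Lgr Lrot31 (Lpr_gf (K72.f721402 IH) (Lpr_gf (K53.f721280 IH) (Lpr_ft (f939225 IH) (Lpn (LP (LK LD1_c18 LD2_c32 LD3_c13))))))
theorem f939215 : Led Lsl_af (LP (LK LD1_c18 LD2_c10 LD3_c6)) = (LP (LK LD1_c18 LD2_c39 LD3_c10)) :=
  Lgr Lrot0 (Lpr_at (f939207 IH) (Lpn (LP (LK LD1_c18 LD2_c39 LD3_c10))))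
theorem f939237 : Led Lsl_ft (LP (LK LD1_c18 LD2_c22 LD3_c15)) = (LP (LK LD1_c18 LD2_c39 LD3_c10)) :=
  Lgr Lrot101 (Lpr_af (f939229 IH) (Lpe (f939225 IH) (Lpr_af (f939215 IH) (Lpn (LP (LK LD1_c18 LD2_c39 LD3_c10))))))
theorem f939241 : Led Lsl_ff (LP (LK LD1_c18 LD2_c22 LD3_c15)) = (LP (LK LD1_c18 LD2_c39 LD3_c10)) :=
  Lgr Lrot3 (Lpr_ft (f939237 IH) (Lpn (LP (LK LD1_c18 LD2_c39 LD3_c10))))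
theorem f939243 : Led Lsl_ft (LP (LK LD1_c18 LD2_c12 LD3_c37)) = (LP (LK LD1_c18 LD2_c32 LD3_c18)) :=
  Lgr Lrot4 (Lpe (K72.f721406 IH) (Lpr_ff (f939241 IH) (Lpe (f928498 IH) (Lpn (LP (LK LD1_c18 LD2_c32 LD3_c18))))))
theorem f939261 : Led Lsl_ff (LP (LK LD1_c18 LD2_c31 LD3_c0)) = (LP (LK LD1_c18 LD2_c11 LD3_c36)) :=
  Lgr Lrot25 (Lpr_bt (K72.f585597 IH) (Lpr_ft (f939243 IH) (Lpr_bt (f928502 IH) (Lpn (LP (LK LD1_c18 LD2_c11 LD3_c36))))))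
theorem f939265 : Led Lsl_at (LP (LK LD1_c18 LD2_c31 LD3_c0)) = (LP (LK LD1_c18 LD2_c11 LD3_c35)) :=
  Lgr Lrot26 (Lpr_ff (f939261 IH) (Lpr_gt (K44.f278345 IH) (Lpr_gt (K67.f278220 IH) (Lpn (LP (LK LD1_c18 LD2_c11 LD3_c35))))))
theorem f278371 : Led Lsl_ct (LP (LK LD1_c18 LD2_c11 LD3_c35)) = (LP (LK LD1_c27 LD2_c52 LD3_c7)) :=
  Lre_c IH (LK LD1_c18 LD2_c11 LD3_c35) (LK LD1_c27 LD2_c52 LD3_c7) Lrfl Lrfl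
theorem f939271 : Led Lsl_af (LP (LK LD1_c27 LD2_c58 LD3_c57)) = (LP (LK LD1_c27 LD2_c52 LD3_c7)) :=
  Lgr Lrot68 (Lpr_ct (K72.f410456 IH) (Lpr_at (f939265 IH) (Lpr_ct (f278371 IH) (Lpn (LP (LK LD1_c27 LD2_c52 LD3_c7))))))
theorem f370891 : Led Lsl_ct (LP (LK LD1_c18 LD2_c30 LD3_c61)) = (LP (LK LD1_c28 LD2_c5 LD3_c12)) :=
  Lre_c IH (LK LD1_c18 LD2_c30 LD3_c61) (LK LD1_c28 LD2_c5 LD3_c12) Lrfl Lrfl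
theorem f300032 : Led Lsl_bt (LP (LK LD1_c5 LD2_c2 LD3_c48)) = (LP (LK LD1_c9 LD2_c56 LD3_c26)) :=
  Lre_b IH (LK LD1_c5 LD2_c2 LD3_c48) (LK LD1_c9 LD2_c56 LD3_c26) Lrfl Lrfl
theorem f409317 : Led Lsl_gt (LP (LK LD1_c28 LD2_c5 LD3_c12)) = (LP (LK LD1_c32 LD2_c29 LD3_c20)) :=
  Lgr Lrot149 (Lpe (f370891 IH) (Lpe (K44.f242357 IH) (Lpe (K44.f246194 IH) (Lpr_ct (K15.f215582 IH) (Lpr_gf (K17.f283972 IH) (Lpe (K44.f283829 IH) (Lpr_bt (f300032 IH) (Lpe (K44.f406736 IH) (Lpe (K44.f406740 IH) (Lpr_ct (K72.f406741 IH) (Lpn (LP (LK LD1_c32 LD2_c29 LD3_c20)))))))))))))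
theorem f939283 : Led Lsl_ft (LP (LK LD1_c28 LD2_c5 LD3_c12)) = (LP (LK LD1_c27 LD2_c52 LD3_c7)) :=
  Lgr Lrot2 (Lpr_gt (f409317 IH) (Lpe (K72.f585595 IH) (Lpr_af (f939271 IH) (Lpn (LP (LK LD1_c27 LD2_c52 LD3_c7))))))
theorem f939289 : Led Lsl_ff (LP (LK LD1_c28 LD2_c5 LD3_c12)) = (LP (LK LD1_c27 LD2_c52 LD3_c7)) :=
  Lgr Lrot3 (Lpr_ft (f939283 IH) (Lpn (LP (LK LD1_c27 LD2_c52 LD3_c7))))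
theorem f242358 : Led Lsl_ct (LP (LK LD1_c28 LD2_c5 LD3_c12)) = (LP (LK LD1_c18 LD2_c30 LD3_c61)) :=
  Lre_c IH (LK LD1_c28 LD2_c5 LD3_c12) (LK LD1_c18 LD2_c30 LD3_c61) Lrfl Lrfl
theorem f939293 : Led Lsl_ft (LP (LK LD1_c18 LD2_c30 LD3_c61)) = (LP (LK LD1_c18 LD2_c11 LD3_c35)) :=
  Lgr Lrot4 (Lpe (f242358 IH) (Lpr_ff (f939289 IH) (Lpe (f278371 IH) (Lpn (LP (LK LD1_c18 LD2_c11 LD3_c35))))))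
theorem f306336 : Led Lsl_bt (LP (LK LD1_c18 LD2_c11 LD3_c35)) = (LP (LK LD1_c27 LD2_c52 LD3_c6)) :=
  Lre_b IH (LK LD1_c18 LD2_c11 LD3_c35) (LK LD1_c27 LD2_c52 LD3_c6) Lrfl Lrfl
theorem f939297 : Led Lsl_ff (LP (LK LD1_c28 LD2_c5 LD3_c11)) = (LP (LK LD1_c27 LD2_c52 LD3_c6)) :=
  Lgr Lrot25 (Lpr_bt (K44.f288344 IH) (Lpr_ft (f939293 IH) (Lpr_bt (f306336 IH) (Lpn (LP (LK LD1_c27 LD2_c52 LD3_c6))))))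
theorem f939301 : Led Lsl_ft (LP (LK LD1_c28 LD2_c5 LD3_c11)) = (LP (LK LD1_c27 LD2_c52 LD3_c6)) :=
  Lgr Lrot48 (Lpr_ff (f939297 IH) (Lpn (LP (LK LD1_c27 LD2_c52 LD3_c6))))
theorem f408274 : Led Lsl_ct (LP (LK LD1_c18 LD2_c40 LD3_c32)) = (LP (LK LD1_c28 LD2_c5 LD3_c11)) :=
  Lgr Lrot59 (Lpr_cf (K44.f288345 IH) (Lpn (LP (LK LD1_c28 LD2_c5 LD3_c11))))
theorem f939303 : Led Lsl_ff (LP (LK LD1_c18 LD2_c40 LD3_c32)) = (LP (LK LD1_c18 LD2_c26 LD3_c53)) :=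
  Lgr Lrot23 (Lpr_ct (f408274 IH) (Lpr_ft (f939301 IH) (Lpe (K67.f306333 IH) (Lpn (LP (LK LD1_c18 LD2_c26 LD3_c53))))))
theorem f939307 : Led Lsl_at (LP (LK LD1_c18 LD2_c40 LD3_c32)) = (LP (LK LD1_c18 LD2_c26 LD3_c52)) :=
  Lgr Lrot26 (Lpr_ff (f939303 IH) (Lpr_gt (K67.f240082 IH) (Lpr_gt (K44.f240084 IH) (Lpn (LP (LK LD1_c18 LD2_c26 LD3_c52))))))
theorem f939311 : Led Lsl_af (LP (LK LD1_c28 LD2_c5 LD3_c11)) = (LP (LK LD1_c27 LD2_c53 LD3_c17)) :=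
  Lgr Lrot68 (Lpe (K44.f288345 IH) (Lpr_at (f939307 IH) (Lpr_ct (K44.f240093 IH) (Lpn (LP (LK LD1_c27 LD2_c53 LD3_c17))))))
theorem f939217 : Led Lsl_af (LP (LK LD1_c18 LD2_c12 LD3_c36)) = (LP (LK LD1_c18 LD2_c32 LD3_c18)) :=
  Lgr Lrot68 (Lpe (K44.f169647 IH) (Lpr_at (f939207 IH) (Lpe (f928500 IH) (Lpn (LP (LK LD1_c18 LD2_c32 LD3_c18))))))
theorem f939223 : Led Lsl_ft (LP (LK LD1_c18 LD2_c12 LD3_c36)) = (LP (LK LD1_c18 LD2_c32 LD3_c17)) :=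
  Lgr Lrot4 (Lpe (K44.f169639 IH) (Lpr_ff (f939221 IH) (Lpe (f185328 IH) (Lpn (LP (LK LD1_c18 LD2_c32 LD3_c17))))))
theorem f939259 : Led Lsl_af (LP (LK LD1_c18 LD2_c12 LD3_c37)) = (LP (LK LD1_c18 LD2_c32 LD3_c17)) :=
  Lgr Lrot45 (Lpr_ft (f939243 IH) (Lpe (f939217 IH) (Lpr_ft (f939223 IH) (Lpn (LP (LK LD1_c18 LD2_c32 LD3_c17))))))
theorem f185329 : Led Lsl_bt (LP (LK LD1_c28 LD2_c6 LD3_c47)) = (LP (LK LD1_c18 LD2_c32 LD3_c17)) :=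
  Lre_b IH (LK LD1_c28 LD2_c6 LD3_c47) (LK LD1_c18 LD2_c32 LD3_c17) Lrfl Lrfl
theorem f939269 : Led Lsl_af (LP (LK LD1_c28 LD2_c6 LD3_c47)) = (LP (LK LD1_c27 LD2_c52 LD3_c6)) :=
  Lgr Lrot36 (Lpr_bt (f185329 IH) (Lpe (f939259 IH) (Lpe (K72.f585599 IH) (Lpr_at (f939265 IH) (Lpr_bt (f306336 IH) (Lpn (LP (LK LD1_c27 LD2_c52 LD3_c6))))))))
theorem f939321 : Led Lsl_ft (LP (LK LD1_c28 LD2_c6 LD3_c47)) = (LP (LK LD1_c27 LD2_c53 LD3_c17)) :=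
  Lgr Lrot101 (Lpr_af (f939269 IH) (Lpe (f939301 IH) (Lpr_af (f939311 IH) (Lpn (LP (LK LD1_c27 LD2_c53 LD3_c17))))))
theorem f939325 : Led Lsl_ff (LP (LK LD1_c28 LD2_c6 LD3_c47)) = (LP (LK LD1_c27 LD2_c53 LD3_c17)) :=
  Lgr Lrot3 (Lpr_ft (f939321 IH) (Lpn (LP (LK LD1_c27 LD2_c53 LD3_c17))))
theorem f240343 : Led Lsl_bt (LP (LK LD1_c18 LD2_c32 LD3_c13)) = (LP (LK LD1_c10 LD2_c10 LD3_c31)) :=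
  Lre_b IH (LK LD1_c18 LD2_c32 LD3_c13) (LK LD1_c10 LD2_c10 LD3_c31) Lrfl Lrfl
theorem f240344 : Led Lsl_cf (LP (LK LD1_c28 LD2_c6 LD3_c47)) = (LP (LK LD1_c18 LD2_c40 LD3_c31)) :=
  Lgr Lrot97 (Lpr_bt (f185329 IH) (Lpr_ct (f185328 IH) (Lpr_bt (f240343 IH) (Lpr_ct (f240342 IH) (Lpr_bt (K72.f240338 IH) (Lpn (LP (LK LD1_c18 LD2_c40 LD3_c31))))))))
theorem f240347 : Led Lsl_ct (LP (LK LD1_c28 LD2_c6 LD3_c47)) = (LP (LK LD1_c18 LD2_c40 LD3_c31)) :=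
  Lgr Lrot59 (Lpr_cf (f240344 IH) (Lpn (LP (LK LD1_c18 LD2_c40 LD3_c31))))
theorem f939329 : Led Lsl_ft (LP (LK LD1_c18 LD2_c40 LD3_c31)) = (LP (LK LD1_c18 LD2_c26 LD3_c52)) :=
  Lgr Lrot4 (Lpe (f240347 IH) (Lpr_ff (f939325 IH) (Lpe (K44.f240093 IH) (Lpn (LP (LK LD1_c18 LD2_c26 LD3_c52))))))
theorem f240091 : Led Lsl_bt (LP (LK LD1_c18 LD2_c26 LD3_c52)) = (LP (LK LD1_c18 LD2_c10 LD3_c7)) :=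
  Lgr Lrot127 (Lpr_bf (K44.f240089 IH) (Lpn (LP (LK LD1_c18 LD2_c10 LD3_c7))))
theorem f939333 : Led Lsl_ff (LP (LK LD1_c18 LD2_c32 LD3_c14)) = (LP (LK LD1_c18 LD2_c10 LD3_c7)) :=
  Lgr Lrot25 (Lpr_bt (K72.f240338 IH) (Lpr_ft (f939329 IH) (Lpr_bt (f240091 IH) (Lpn (LP (LK LD1_c18 LD2_c10 LD3_c7))))))
theorem f925449 : Led Lsl_gf (LP (LK LD1_c18 LD2_c27 LD3_c22)) = (LP (LK LD1_c18 LD2_c10 LD3_c7)) :=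
  Lgr Lrot129 (Lpr_cf (K72.f925445 IH) (Lpr_bt (K72.f584544 IH) (Lpe (K44.f585214 IH) (Lpe (K44.f395453 IH) (Lpr_ct (K44.f395449 IH) (Lpe (K44.f395447 IH) (Lpr_cf (K44.f251520 IH) (Lpe (K44.f345178 IH) (Lpr_gt (K44.f342083 IH) (Lpr_ct (K44.f169653 IH) (Lpn (LP (LK LD1_c18 LD2_c10 LD3_c7)))))))))))))
theorem f939337 : Led Lsl_at (LP (LK LD1_c18 LD2_c32 LD3_c14)) = (LP (LK LD1_c18 LD2_c10 LD3_c4)) :=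
  Lgr Lrot26 (Lpr_ff (f939333 IH) (Lpe (f925449 IH) (Lpr_gt (K72.f929629 IH) (Lpn (LP (LK LD1_c18 LD2_c10 LD3_c4))))))
theorem f240346 : Led Lsl_et (LP (LK LD1_c28 LD2_c6 LD3_c44)) = (LP (LK LD1_c18 LD2_c32 LD3_c14)) :=
  Lre_e IH (LK LD1_c28 LD2_c6 LD3_c44) (LK LD1_c18 LD2_c32 LD3_c14) Lrfl Lrfl
theorem f929565 : Led Lsl_et (LP (LK LD1_c18 LD2_c10 LD3_c4)) = (LP (LK LD1_c27 LD2_c50 LD3_c33)) :=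
  Lre_e IH (LK LD1_c18 LD2_c10 LD3_c4) (LK LD1_c27 LD2_c50 LD3_c33) Lrfl Lrfl
theorem f939345 : Led Lsl_af (LP (LK LD1_c28 LD2_c6 LD3_c44)) = (LP (LK LD1_c27 LD2_c50 LD3_c33)) :=
  Lgr Lrot50 (Lpr_et (f240346 IH) (Lpr_at (f939337 IH) (Lpr_et (f929565 IH) (Lpn (LP (LK LD1_c27 LD2_c50 LD3_c33))))))
theorem f926957 : Led Lsl_ct (LP (LK LD1_c28 LD2_c6 LD3_c44)) = (LP (LK LD1_c18 LD2_c32 LD3_c15)) :=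
  Lre_c IH (LK LD1_c28 LD2_c6 LD3_c44) (LK LD1_c18 LD2_c32 LD3_c15) Lrfl Lrfl
theorem f929563 : Led Lsl_ct (LP (LK LD1_c18 LD2_c10 LD3_c5)) = (LP (LK LD1_c27 LD2_c50 LD3_c33)) :=
  Lre_c IH (LK LD1_c18 LD2_c10 LD3_c5) (LK LD1_c27 LD2_c50 LD3_c33) Lrfl Lrfl
theorem f939349 : Led Lsl_at (LP (LK LD1_c18 LD2_c32 LD3_c15)) = (LP (LK LD1_c18 LD2_c10 LD3_c5)) :=
  Lgr Lrot107 (Lpe (f926957 IH) (Lpr_af (f939345 IH) (Lpe (f929563 IH) (Lpn (LP (LK LD1_c18 LD2_c10 LD3_c5))))))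
theorem f721576 : Led Lsl_dt (LP (LK LD1_c5 LD2_c4 LD3_c22)) = (LP (LK LD1_c9 LD2_c59 LD3_c37)) :=
  Lre_d IH (LK LD1_c5 LD2_c4 LD3_c22) (LK LD1_c9 LD2_c59 LD3_c37) Lrfl Lrfl
theorem f412960 : Led Lsl_et (LP (LK LD1_c9 LD2_c55 LD3_c27)) = (LP (LK LD1_c18 LD2_c10 LD3_c5)) :=
  Lre_e IH (LK LD1_c9 LD2_c55 LD3_c27) (LK LD1_c18 LD2_c10 LD3_c5) Lrfl Lrfl
def v41280 : LQ := Led Lsl_gt (LP (LK LD1_c9 LD2_c55 LD3_c44))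
theorem f923067 : Led Lsl_gt (LP (LK LD1_c9 LD2_c55 LD3_c44)) = v41280 :=
  Lrfl
theorem f929559 : (LP (LK LD1_c18 LD2_c10 LD3_c5)) = v41280 :=
  (Llr Lrot122 (Lpe (f412960 IH) (Lpe (f412958 IH) (Lpr_gt (K44.f164628 IH) (Lpe (K8.f21605 IH) (Lpr_et (K0.f21577 IH) (Lpqs (K72.f724348 IH) (Lpe (K72.f721593 IH) (Lpr_dt (f721576 IH) (Lpr_gt (K72.f927233 IH) (Lpqs (K72.f929361 IH) (Lpe (K71.f169990 IH) (Lpr_et (K44.f251526 IH) (Lpr_gt (f923067 IH) (Lpn v41280))))))))))))))).symm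
theorem f251541 : Led Lsl_gt (LP (LK LD1_c18 LD2_c10 LD3_c21)) = (LP (LK LD1_c9 LD2_c55 LD3_c44)) :=
  Lre_g IH (LK LD1_c18 LD2_c10 LD3_c21) (LK LD1_c9 LD2_c55 LD3_c44) Lrfl Lrfl
theorem f939353 : Led Lsl_ff (LP (LK LD1_c18 LD2_c32 LD3_c15)) = (LP (LK LD1_c18 LD2_c10 LD3_c21)) :=
  Lgr Lrot52 (Lpr_at (f939349 IH) (Lpqs (f929559 IH) (Lpe (f923067 IH) (Lpe (f251541 IH) (Lpn (LP (LK LD1_c18 LD2_c10 LD3_c21)))))))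
theorem f939357 : Led Lsl_ft (LP (LK LD1_c18 LD2_c32 LD3_c15)) = (LP (LK LD1_c18 LD2_c10 LD3_c21)) :=
  Lgr Lrot48 (Lpr_ff (f939353 IH) (Lpn (LP (LK LD1_c18 LD2_c10 LD3_c21))))
theorem f926956 : Led Lsl_et (LP (LK LD1_c10 LD2_c10 LD3_c31)) = (LP (LK LD1_c18 LD2_c32 LD3_c15)) :=
  Lre_e IH (LK LD1_c10 LD2_c10 LD3_c31) (LK LD1_c18 LD2_c32 LD3_c15) Lrfl Lrfl
theorem f926959 : Led Lsl_gf (LP (LK LD1_c18 LD2_c32 LD3_c15)) = (LP (LK LD1_c18 LD2_c10 LD3_c20)) :=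
  Lgr Lrot141 (Lpe (f926956 IH) (Lpq (K72.f926953 IH) (Lpe (K72.f722906 IH) (Lpr_gt (K72.f21494 IH) (Lpe (K72.f21489 IH) (Lpr_et (K0.f21456 IH) (Lpr_gt (K71.f21495 IH) (Lpr_dt (K71.f21499 IH) (Lpr_gt (K71.f21500 IH) (Lpe (K71.f922671 IH) (Lpr_et (K44.f251551 IH) (Lpn (LP (LK LD1_c18 LD2_c10 LD3_c20))))))))))))))
theorem f926961 : Led Lsl_gt (LP (LK LD1_c18 LD2_c32 LD3_c15)) = (LP (LK LD1_c10 LD2_c11 LD3_c28)) :=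
  Lgr Lrot46 (Lpr_gf (f926959 IH) (Lpe (K44.f345112 IH) (Lpr_at (K44.f345082 IH) (Lpn (LP (LK LD1_c10 LD2_c11 LD3_c28))))))
theorem f249997 : Led Lsl_gt (LP (LK LD1_c10 LD2_c11 LD3_c28)) = (LP (LK LD1_c18 LD2_c33 LD3_c51)) :=
  Lre_g IH (LK LD1_c10 LD2_c11 LD3_c28) (LK LD1_c18 LD2_c33 LD3_c51) Lrfl Lrfl
theorem f939361 : Led Lsl_af (LP (LK LD1_c18 LD2_c33 LD3_c51)) = (LP (LK LD1_c18 LD2_c10 LD3_c21)) :=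
  Lgr Lrot31 (Lpe (f249997 IH) (Lpe (f926961 IH) (Lpr_ft (f939357 IH) (Lpn (LP (LK LD1_c18 LD2_c10 LD3_c21))))))
theorem f939351 : Led Lsl_af (LP (LK LD1_c18 LD2_c32 LD3_c15)) = (LP (LK LD1_c18 LD2_c10 LD3_c5)) :=
  Lgr Lrot0 (Lpr_at (f939349 IH) (Lpn (LP (LK LD1_c18 LD2_c10 LD3_c5))))
theorem f939367 : Led Lsl_ft (LP (LK LD1_c18 LD2_c33 LD3_c51)) = (LP (LK LD1_c18 LD2_c10 LD3_c5)) :=
  Lgr Lrot101 (Lpr_af (f939361 IH) (Lpe (f939357 IH) (Lpr_af (f939351 IH) (Lpn (LP (LK LD1_c18 LD2_c10 LD3_c5))))))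
theorem f939373 : Led Lsl_ff (LP (LK LD1_c18 LD2_c33 LD3_c51)) = (LP (LK LD1_c18 LD2_c10 LD3_c5)) :=
  Lgr Lrot3 (Lpr_ft (f939367 IH) (Lpn (LP (LK LD1_c18 LD2_c10 LD3_c5))))
theorem f250007 : Led Lsl_bt (LP (LK LD1_c18 LD2_c33 LD3_c51)) = (LP (LK LD1_c28 LD2_c8 LD3_c2)) :=
  Lre_b IH (LK LD1_c18 LD2_c33 LD3_c51) (LK LD1_c28 LD2_c8 LD3_c2) Lrfl Lrfl
theorem f928767 : Led Lsl_bt (LP (LK LD1_c27 LD2_c50 LD3_c30)) = (LP (LK LD1_c18 LD2_c10 LD3_c5)) :=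
  Lre_b IH (LK LD1_c27 LD2_c50 LD3_c30) (LK LD1_c18 LD2_c10 LD3_c5) Lrfl Lrfl
theorem f939375 : Led Lsl_ft (LP (LK LD1_c28 LD2_c8 LD3_c2)) = (LP (LK LD1_c27 LD2_c50 LD3_c30)) :=
  Lgr Lrot75 (Lpe (f250007 IH) (Lpr_ff (f939373 IH) (Lpe (f928767 IH) (Lpn (LP (LK LD1_c27 LD2_c50 LD3_c30))))))
theorem f212185 : Led Lsl_gt (LP (LK LD1_c19 LD2_c42 LD3_c29)) = (LP (LK LD1_c10 LD2_c54 LD3_c28)) :=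
  Lre_g IH (LK LD1_c19 LD2_c42 LD3_c29) (LK LD1_c10 LD2_c54 LD3_c28) Lrfl Lrfl
theorem f183098 : Led Lsl_ct (LP (LK LD1_c2 LD2_c32 LD3_c13)) = (LP (LK LD1_c1 LD2_c13 LD3_c7)) :=
  Lre_c IH (LK LD1_c2 LD2_c32 LD3_c13) (LK LD1_c1 LD2_c13 LD3_c7) Lrfl Lrfl
theorem f249996 : Led Lsl_bt (LP (LK LD1_c5 LD2_c10 LD3_c23)) = (LP (LK LD1_c10 LD2_c11 LD3_c28)) :=
  Lre_b IH (LK LD1_c5 LD2_c10 LD3_c23) (LK LD1_c10 LD2_c11 LD3_c28) Lrfl Lrfl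
theorem f249998 : Led Lsl_bt (LP (LK LD1_c28 LD2_c8 LD3_c2)) = (LP (LK LD1_c18 LD2_c33 LD3_c51)) :=
  Lre_b IH (LK LD1_c28 LD2_c8 LD3_c2) (LK LD1_c18 LD2_c33 LD3_c51) Lrfl Lrfl
theorem f249999 : Led Lsl_cf (LP (LK LD1_c19 LD2_c42 LD3_c29)) = (LP (LK LD1_c28 LD2_c8 LD3_c2)) :=
  Lgr Lrot160 (Lpr_gt (f212185 IH) (Lpe (K27.f212160 IH) (Lpr_bt (K27.f212148 IH) (Lpr_gt (K21.f249987 IH) (Lpr_ct (f183098 IH) (Lpr_gt (K22.f169081 IH) (Lpe (K44.f249995 IH) (Lpr_bt (f249996 IH) (Lpr_gt (f249997 IH) (Lpe (f249998 IH) (Lpn (LP (LK LD1_c28 LD2_c8 LD3_c2)))))))))))))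
theorem f250009 : Led Lsl_ct (LP (LK LD1_c19 LD2_c42 LD3_c29)) = (LP (LK LD1_c28 LD2_c8 LD3_c2)) :=
  Lgr Lrot59 (Lpr_cf (f249999 IH) (Lpn (LP (LK LD1_c28 LD2_c8 LD3_c2))))
theorem f928766 : Led Lsl_ct (LP (LK LD1_c27 LD2_c50 LD3_c30)) = (LP (LK LD1_c27 LD2_c50 LD3_c50)) :=
  Lre_c IH (LK LD1_c27 LD2_c50 LD3_c30) (LK LD1_c27 LD2_c50 LD3_c50) Lrfl Lrfl
theorem f939381 : Led Lsl_ff (LP (LK LD1_c19 LD2_c42 LD3_c29)) = (LP (LK LD1_c27 LD2_c50 LD3_c50)) :=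
  Lgr Lrot23 (Lpr_ct (f250009 IH) (Lpr_ft (f939375 IH) (Lpr_ct (f928766 IH) (Lpn (LP (LK LD1_c27 LD2_c50 LD3_c50))))))
theorem f939383 : Led Lsl_ft (LP (LK LD1_c19 LD2_c42 LD3_c29)) = (LP (LK LD1_c27 LD2_c50 LD3_c50)) :=
  Lgr Lrot48 (Lpr_ff (f939381 IH) (Lpn (LP (LK LD1_c27 LD2_c50 LD3_c50))))
theorem f212186 : Led Lsl_gt (LP (LK LD1_c10 LD2_c54 LD3_c28)) = (LP (LK LD1_c19 LD2_c42 LD3_c28)) :=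
  Lre_g IH (LK LD1_c10 LD2_c54 LD3_c28) (LK LD1_c19 LD2_c42 LD3_c28) Lrfl Lrfl
theorem f939385 : Led Lsl_af (LP (LK LD1_c19 LD2_c42 LD3_c28)) = (LP (LK LD1_c27 LD2_c50 LD3_c50)) :=
  Lgr Lrot31 (Lpe (f212186 IH) (Lpe (f212185 IH) (Lpr_ft (f939383 IH) (Lpn (LP (LK LD1_c27 LD2_c50 LD3_c50))))))
theorem f412800 : Led Lsl_et (LP (LK LD1_c18 LD2_c10 LD3_c37)) = (LP (LK LD1_c27 LD2_c50 LD3_c50)) :=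
  Lre_e IH (LK LD1_c18 LD2_c10 LD3_c37) (LK LD1_c27 LD2_c50 LD3_c50) Lrfl Lrfl
theorem f939390 : Led Lsl_et (LP (LK LD1_c19 LD2_c42 LD3_c28)) = (LP (LK LD1_c18 LD2_c20 LD3_c14)) :=
  Lgr Lrot123 (Lpr_af (f939385 IH) (Lpe (f412800 IH) (Lpr_af (f939197 IH) (Lpn (LP (LK LD1_c18 LD2_c20 LD3_c14))))))
theorem f939394 : Led Lsl_ef (LP (LK LD1_c19 LD2_c42 LD3_c28)) = (LP (LK LD1_c18 LD2_c20 LD3_c14)) :=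
  Lgr Lrot88 (Lpr_et (f939390 IH) (Lpn (LP (LK LD1_c18 LD2_c20 LD3_c14))))
def v41798 : LQ := Led Lsl_dt (LP (LK LD1_c10 LD2_c2 LD3_c21))
theorem f928693 : Led Lsl_dt (LP (LK LD1_c10 LD2_c2 LD3_c21)) = v41798 :=
  Lrfl
theorem f343385 : Led Lsl_dt (LP (LK LD1_c9 LD2_c59 LD3_c41)) = (LP (LK LD1_c18 LD2_c16 LD3_c17)) :=
  Lre_d IH (LK LD1_c9 LD2_c59 LD3_c41) (LK LD1_c18 LD2_c16 LD3_c17) Lrfl Lrfl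
theorem f939398 : Led Lsl_gf v41798 = (LP (LK LD1_c18 LD2_c16 LD3_c17)) :=
  Lgr Lrot134 (Lpe (f928693 IH) (Lpr_et (K27.f212173 IH) (Lpr_gt (f212186 IH) (Lpr_ef (f939394 IH) (Lpr_dt (K72.f603663 IH) (Lpr_gt (K72.f32680 IH) (Lpe (f48655 IH) (Lpe (K17.f48643 IH) (Lpr_gt (K53.f343379 IH) (Lpr_dt (f343385 IH) (Lpn (LP (LK LD1_c18 LD2_c16 LD3_c17)))))))))))))
theorem f928695 : Led Lsl_df (LP (LK LD1_c10 LD2_c2 LD3_c21)) = v41798 :=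
  Lgr Lrot38 (Lpr_dt (f928693 IH) (Lpn v41798))
theorem f180573 : Led Lsl_ct (LP (LK LD1_c10 LD2_c2 LD3_c21)) = (LP (LK LD1_c5 LD2_c5 LD3_c39)) :=
  Lre_c IH (LK LD1_c10 LD2_c2 LD3_c21) (LK LD1_c5 LD2_c5 LD3_c39) Lrfl Lrfl
theorem f249966 : Led Lsl_bt (LP (LK LD1_c10 LD2_c55 LD3_c54)) = (LP (LK LD1_c19 LD2_c44 LD3_c16)) :=
  Lre_b IH (LK LD1_c10 LD2_c55 LD3_c54) (LK LD1_c19 LD2_c44 LD3_c16) Lrfl Lrfl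
theorem f249967 : Led Lsl_bt (LP (LK LD1_c18 LD2_c14 LD3_c6)) = (LP (LK LD1_c9 LD2_c57 LD3_c57)) :=
  Lre_b IH (LK LD1_c18 LD2_c14 LD3_c6) (LK LD1_c9 LD2_c57 LD3_c57) Lrfl Lrfl
theorem f249968 : Led Lsl_dt (LP (LK LD1_c19 LD2_c44 LD3_c16)) = (LP (LK LD1_c18 LD2_c14 LD3_c6)) :=
  Lgr Lrot79 (Lpe (f249966 IH) (Lpr_df (K72.f249962 IH) (Lpe (f249967 IH) (Lpn (LP (LK LD1_c18 LD2_c14 LD3_c6))))))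
theorem f212164 : Led Lsl_et (LP (LK LD1_c10 LD2_c55 LD3_c51)) = (LP (LK LD1_c19 LD2_c44 LD3_c16)) :=
  Lre_e IH (LK LD1_c10 LD2_c55 LD3_c51) (LK LD1_c19 LD2_c44 LD3_c16) Lrfl Lrfl
theorem f212163 : Led Lsl_dt (LP (LK LD1_c5 LD2_c32 LD3_c6)) = (LP (LK LD1_c10 LD2_c55 LD3_c51)) :=
  Lre_d IH (LK LD1_c5 LD2_c32 LD3_c6) (LK LD1_c10 LD2_c55 LD3_c51) Lrfl Lrfl
theorem f249970 : Led Lsl_et (LP (LK LD1_c18 LD2_c14 LD3_c6)) = (LP (LK LD1_c9 LD2_c57 LD3_c56)) :=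
  Lre_e IH (LK LD1_c18 LD2_c14 LD3_c6) (LK LD1_c9 LD2_c57 LD3_c56) Lrfl Lrfl
theorem f249971 : Led Lsl_df (LP (LK LD1_c5 LD2_c5 LD3_c39)) = (LP (LK LD1_c9 LD2_c57 LD3_c56)) :=
  Lgr Lrot70 (Lpr_et (K27.f212149 IH) (Lpr_dt (f212163 IH) (Lpr_et (f212164 IH) (Lpr_dt (f249968 IH) (Lpr_et (f249970 IH) (Lpn (LP (LK LD1_c9 LD2_c57 LD3_c56))))))))
theorem f603940 : Led Lsl_at (LP (LK LD1_c2 LD2_c35 LD3_c4)) = (LP (LK LD1_c5 LD2_c16 LD3_c40)) :=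
  Lre_a IH (LK LD1_c2 LD2_c35 LD3_c4) (LK LD1_c5 LD2_c16 LD3_c40) Lrfl Lrfl
theorem f603941 : Led Lsl_ft (LP (LK LD1_c5 LD2_c16 LD3_c35)) = (LP (LK LD1_c2 LD2_c35 LD3_c4)) :=
  Lre_f IH (LK LD1_c5 LD2_c16 LD3_c35) (LK LD1_c2 LD2_c35 LD3_c4) Lrfl Lrfl
theorem f603942 : Led Lsl_gt (LP (LK LD1_c5 LD2_c16 LD3_c35)) = (LP (LK LD1_c2 LD2_c35 LD3_c7)) :=
  Lgr Lrot5 (Lpr_ft (f603941 IH) (Lpr_at (f603940 IH) (Lpr_gf (K53.f603938 IH) (Lpn (LP (LK LD1_c2 LD2_c35 LD3_c7))))))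
theorem f603990 : Led Lsl_gf (LP (LK LD1_c5 LD2_c16 LD3_c35)) = (LP (LK LD1_c2 LD2_c35 LD3_c5)) :=
  Lgr Lrot47 (Lpr_gt (f603942 IH) (Lpe (K44.f32584 IH) (Lpe (K44.f32676 IH) (Lpn (LP (LK LD1_c2 LD2_c35 LD3_c5))))))
theorem f939400 : v41450 = v14649 :=
  (Llr Lrot143 (Lpe (f926019 IH) (Lpe (f249971 IH) (Lpe (f180573 IH) (Lpr_df (f928695 IH) (Lpr_gf (f939398 IH) (Lpe (f343385 IH) (Lpe (K53.f343379 IH) (Lpe (K53.f32674 IH) (Lpe (f603990 IH) (Lpr_dt (f724781 IH) (Lpn v14649)))))))))))).symm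
theorem f939401 : (LP (LK LD1_c9 LD2_c57 LD3_c56)) = v43110 :=
  Lefun (Lecon (Lfl_gf (f926019 IH)) (f939400 IH)) (f937800 IH)
theorem f939404 : Led Lsl_gt (LP (LK LD1_c9 LD2_c57 LD3_c56)) = (LP (LK LD1_c10 LD2_c22 LD3_c48)) :=
  Leop (Lpr_gf (f937799 IH) (Lpq (f939401 IH) (Lpn (LP (LK LD1_c9 LD2_c57 LD3_c56)))))
theorem seed_2652 : LEOK LG_g (LK LD1_c9 LD2_c57 LD3_c56) :=
  Leoe_g (LK LD1_c9 LD2_c57 LD3_c56) (f939404 IH)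
theorem f249949 : Led Lsl_bt (LP (LK LD1_c9 LD2_c57 LD3_c56)) = (LP (LK LD1_c5 LD2_c3 LD3_c29)) :=
  Lre_b IH (LK LD1_c9 LD2_c57 LD3_c56) (LK LD1_c5 LD2_c3 LD3_c29) Lrfl Lrfl
theorem f249950 : Led Lsl_dt (LP (LK LD1_c5 LD2_c5 LD3_c39)) = (LP (LK LD1_c9 LD2_c57 LD3_c56)) :=
  Lgr Lrot79 (Lpe (K27.f180546 IH) (Lpr_df (K14.f249929 IH) (Lpe (f249949 IH) (Lpn (LP (LK LD1_c9 LD2_c57 LD3_c56))))))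
theorem f212167 : Led Lsl_gt (LP (LK LD1_c5 LD2_c32 LD3_c6)) = (LP (LK LD1_c10 LD2_c55 LD3_c48)) :=
  Lre_g IH (LK LD1_c5 LD2_c32 LD3_c6) (LK LD1_c10 LD2_c55 LD3_c48) Lrfl Lrfl
theorem f48607 : Led Lsl_dt (LP (LK LD1_c10 LD2_c23 LD3_c3)) = (LP (LK LD1_c10 LD2_c27 LD3_c25)) :=
  Lgr Lrot44 (Lpe (K10.f32619 IH) (Lpr_df (K19.f48595 IH) (Lpe (K10.f32617 IH) (Lpn (LP (LK LD1_c10 LD2_c27 LD3_c25))))))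
theorem f32636 : Led Lsl_et (LP (LK LD1_c5 LD2_c16 LD3_c45)) = (LP (LK LD1_c10 LD2_c23 LD3_c3)) :=
  Lre_e IH (LK LD1_c5 LD2_c16 LD3_c45) (LK LD1_c10 LD2_c23 LD3_c3) Lrfl Lrfl
theorem f32635 : Led Lsl_et (LP (LK LD1_c10 LD2_c27 LD3_c25)) = (LP (LK LD1_c5 LD2_c18 LD3_c49)) :=
  Lre_e IH (LK LD1_c10 LD2_c27 LD3_c25) (LK LD1_c5 LD2_c18 LD3_c49) Lrfl Lrfl
theorem f48627 : Led Lsl_ef (LP (LK LD1_c2 LD2_c35 LD3_c5)) = (LP (LK LD1_c2 LD2_c36 LD3_c0)) :=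
  Lgr Lrot73 (Lpr_dt (K44.f32662 IH) (Lpr_et (f32636 IH) (Lpr_dt (f48607 IH) (Lpr_et (f32635 IH) (Lpr_dt (K44.f32661 IH) (Lpn (LP (LK LD1_c2 LD2_c36 LD3_c0))))))))
def v41791 : LQ := Led Lsl_et (LP (LK LD1_c10 LD2_c2 LD3_c12))
theorem f928645 : Led Lsl_et (LP (LK LD1_c10 LD2_c2 LD3_c12)) = v41791 :=
  Lrfl
theorem f939405 : (LP (LK LD1_c10 LD2_c55 LD3_c48)) = v41791 :=
  (Llr Lrot131 (Lpe (f212167 IH) (Lpe (K27.f212149 IH) (Lpr_dt (f249950 IH) (Lpr_gf (f926019 IH) (Lpqs (f939400 IH) (Lpe (f724781 IH) (Lpr_gf (f603990 IH) (Lpr_ef (f48627 IH) (Lpr_dt (K72.f32726 IH) (Lpe (K10.f71561 IH) (Lpe (K71.f603661 IH) (Lpr_et (f928645 IH) (Lpn v41791)))))))))))))).symm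
theorem f586231 : Led Lsl_ft (LP (LK LD1_c10 LD2_c2 LD3_c13)) = (LP (LK LD1_c9 LD2_c55 LD3_c56)) :=
  Lgr Lrot75 (Lpe (K44.f285243 IH) (Lpr_ff (K45.f586226 IH) (Lpe (K45.f409193 IH) (Lpn (LP (LK LD1_c9 LD2_c55 LD3_c56))))))
theorem f603649 : Led Lsl_af (LP (LK LD1_c10 LD2_c2 LD3_c12)) = (LP (LK LD1_c9 LD2_c55 LD3_c56)) :=
  Lgr Lrot45 (Lpr_ft (K71.f603647 IH) (Lpe (K71.f586440 IH) (Lpr_ft (f586231 IH) (Lpn (LP (LK LD1_c9 LD2_c55 LD3_c56))))))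
theorem f276138 : Led Lsl_et (LP (LK LD1_c18 LD2_c10 LD3_c35)) = (LP (LK LD1_c9 LD2_c55 LD3_c56)) :=
  Lre_e IH (LK LD1_c18 LD2_c10 LD3_c35) (LK LD1_c9 LD2_c55 LD3_c56) Lrfl Lrfl
theorem f928646 : Led Lsl_af (LP (LK LD1_c18 LD2_c10 LD3_c35)) = v41791 :=
  Lgr Lrot50 (Lpr_et (f276138 IH) (Lpe (f603649 IH) (Lpr_et (f928645 IH) (Lpn v41791))))
theorem f939406 : Led Lsl_at (LP (LK LD1_c10 LD2_c55 LD3_c48)) = (LP (LK LD1_c18 LD2_c10 LD3_c35)) :=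
  Leop (Lpr_af (f928646 IH) (Lpq (f939405 IH) (Lpn (LP (LK LD1_c10 LD2_c55 LD3_c48)))))
theorem seed_2653 : LEOK LG_a (LK LD1_c10 LD2_c55 LD3_c48) :=
  Leoe_a (LK LD1_c10 LD2_c55 LD3_c48) (f939406 IH)
theorem f939389 : Led Lsl_bt (LP (LK LD1_c19 LD2_c42 LD3_c28)) = (LP (LK LD1_c29 LD2_c2 LD3_c30)) :=
  Lre_b IH (LK LD1_c19 LD2_c42 LD3_c28) (LK LD1_c29 LD2_c2 LD3_c30) Lrfl Lrfl
theorem f939396 : Led Lsl_et (LP (LK LD1_c29 LD2_c2 LD3_c30)) = (LP (LK LD1_c27 LD2_c58 LD3_c57)) :=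
  Lgr Lrot74 (Lpe (f939389 IH) (Lpr_ef (f939394 IH) (Lpe (K72.f183700 IH) (Lpn (LP (LK LD1_c27 LD2_c58 LD3_c57))))))
theorem f410462 : Led Lsl_et (LP (LK LD1_c18 LD2_c31 LD3_c0)) = (LP (LK LD1_c28 LD2_c5 LD3_c14)) :=
  Lre_e IH (LK LD1_c18 LD2_c31 LD3_c0) (LK LD1_c28 LD2_c5 LD3_c14) Lrfl Lrfl
theorem f939438 : Led Lsl_cf (LP (LK LD1_c29 LD2_c2 LD3_c30)) = (LP (LK LD1_c28 LD2_c5 LD3_c14)) :=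
  Lgr Lrot39 (Lpr_et (f939396 IH) (Lpr_ct (K72.f410456 IH) (Lpr_et (f410462 IH) (Lpn (LP (LK LD1_c28 LD2_c5 LD3_c14))))))
theorem f939442 : Led Lsl_ct (LP (LK LD1_c29 LD2_c2 LD3_c30)) = (LP (LK LD1_c28 LD2_c5 LD3_c14)) :=
  Lgr Lrot59 (Lpr_cf (f939438 IH) (Lpn (LP (LK LD1_c28 LD2_c5 LD3_c14))))
theorem f273518 : Led Lsl_bt (LP (LK LD1_c29 LD2_c2 LD3_c30)) = (LP (LK LD1_c19 LD2_c42 LD3_c28)) :=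
  Lre_b IH (LK LD1_c29 LD2_c2 LD3_c30) (LK LD1_c19 LD2_c42 LD3_c28) Lrfl Lrfl
theorem f198772 : Led Lsl_ct (LP (LK LD1_c5 LD2_c31 LD3_c26)) = (LP (LK LD1_c2 LD2_c41 LD3_c56)) :=
  Lre_c IH (LK LD1_c5 LD2_c31 LD3_c26) (LK LD1_c2 LD2_c41 LD3_c56) Lrfl Lrfl
theorem f273423 : Led Lsl_ct (LP (LK LD1_c10 LD2_c25 LD3_c7)) = (LP (LK LD1_c5 LD2_c17 LD3_c47)) :=
  Lre_c IH (LK LD1_c10 LD2_c25 LD3_c7) (LK LD1_c5 LD2_c17 LD3_c47) Lrfl Lrfl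
theorem f369994 : Led Lsl_ff (LP (LK LD1_c18 LD2_c51 LD3_c41)) = (LP (LK LD1_c10 LD2_c25 LD3_c5)) :=
  Lgr Lrot23 (Lpr_ct (K27.f369988 IH) (Lpe (K27.f367866 IH) (Lpr_ct (K18.f263343 IH) (Lpn (LP (LK LD1_c10 LD2_c25 LD3_c5))))))
theorem f375345 : Led Lsl_ft (LP (LK LD1_c18 LD2_c51 LD3_c41)) = (LP (LK LD1_c10 LD2_c25 LD3_c5)) :=
  Lgr Lrot48 (Lpr_ff (f369994 IH) (Lpn (LP (LK LD1_c10 LD2_c25 LD3_c5))))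
theorem f375347 : Led Lsl_af (LP (LK LD1_c10 LD2_c20 LD3_c7)) = (LP (LK LD1_c10 LD2_c25 LD3_c5)) :=
  Lgr Lrot45 (Lpe (K27.f369968 IH) (Lpe (K27.f369982 IH) (Lpr_ft (f375345 IH) (Lpn (LP (LK LD1_c10 LD2_c25 LD3_c5))))))
theorem f271297 : Led Lsl_bt (LP (LK LD1_c5 LD2_c17 LD3_c47)) = (LP (LK LD1_c10 LD2_c24 LD3_c59)) :=
  Lre_b IH (LK LD1_c5 LD2_c17 LD3_c47) (LK LD1_c10 LD2_c24 LD3_c59) Lrfl Lrfl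
theorem f273422 : Led Lsl_ct (LP (LK LD1_c5 LD2_c17 LD3_c47)) = (LP (LK LD1_c10 LD2_c25 LD3_c7)) :=
  Lre_c IH (LK LD1_c5 LD2_c17 LD3_c47) (LK LD1_c10 LD2_c25 LD3_c7) Lrfl Lrfl
theorem f369978 : Led Lsl_gt (LP (LK LD1_c10 LD2_c25 LD3_c7)) = (LP (LK LD1_c10 LD2_c20 LD3_c7)) :=
  Lgr Lrot65 (Lpe (f273422 IH) (Lpr_bt (f271297 IH) (Lpe (K18.f294224 IH) (Lpe (K18.f293762 IH) (Lpr_ct (K18.f198610 IH) (Lpr_gf (K21.f326723 IH) (Lpe (K21.f192279 IH) (Lpe (K22.f265838 IH) (Lpe (K27.f323627 IH) (Lpr_ct (K27.f369972 IH) (Lpn (LP (LK LD1_c10 LD2_c20 LD3_c7)))))))))))))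
theorem f375351 : Led Lsl_gt (LP (LK LD1_c18 LD2_c51 LD3_c41)) = (LP (LK LD1_c10 LD2_c25 LD3_c7)) :=
  Lgr Lrot5 (Lpr_ft (f375345 IH) (Lpe (f375347 IH) (Lpe (f369978 IH) (Lpn (LP (LK LD1_c10 LD2_c25 LD3_c7))))))
theorem f171577 : Led Lsl_bt (LP (LK LD1_c28 LD2_c19 LD3_c58)) = (LP (LK LD1_c18 LD2_c51 LD3_c41)) :=
  Lre_b IH (LK LD1_c28 LD2_c19 LD3_c58) (LK LD1_c18 LD2_c51 LD3_c41) Lrfl Lrfl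
theorem f263334 : Led Lsl_bt (LP (LK LD1_c10 LD2_c25 LD3_c5)) = (LP (LK LD1_c18 LD2_c54 LD3_c9)) :=
  Lre_b IH (LK LD1_c10 LD2_c25 LD3_c5) (LK LD1_c18 LD2_c54 LD3_c9) Lrfl Lrfl
theorem f375349 : Led Lsl_ff (LP (LK LD1_c28 LD2_c19 LD3_c58)) = (LP (LK LD1_c18 LD2_c54 LD3_c9)) :=
  Lgr Lrot25 (Lpr_bt (f171577 IH) (Lpr_ft (f375345 IH) (Lpr_bt (f263334 IH) (Lpn (LP (LK LD1_c18 LD2_c54 LD3_c9))))))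
theorem f259616 : Led Lsl_bf (LP (LK LD1_c8 LD2_c26 LD3_c54)) = (LP (LK LD1_c5 LD2_c2 LD3_c8)) :=
  Lgr Lrot24 (Lpr_bt (K15.f259609 IH) (Lpn (LP (LK LD1_c5 LD2_c2 LD3_c8))))
theorem f263345 : Led Lsl_bt (LP (LK LD1_c18 LD2_c9 LD3_c6)) = (LP (LK LD1_c9 LD2_c54 LD3_c60)) :=
  Lre_b IH (LK LD1_c18 LD2_c9 LD3_c6) (LK LD1_c9 LD2_c54 LD3_c60) Lrfl Lrfl
theorem f263346 : Led Lsl_cf (LP (LK LD1_c18 LD2_c9 LD3_c6)) = (LP (LK LD1_c18 LD2_c54 LD3_c9)) :=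
  Lgr Lrot97 (Lpr_bt (f263345 IH) (Lpr_ct (K23.f257613 IH) (Lpe (f259616 IH) (Lpr_ct (K18.f263343 IH) (Lpr_bt (f263334 IH) (Lpn (LP (LK LD1_c18 LD2_c54 LD3_c9))))))))
theorem f263353 : Led Lsl_ct (LP (LK LD1_c18 LD2_c9 LD3_c6)) = (LP (LK LD1_c18 LD2_c54 LD3_c9)) :=
  Lgr Lrot59 (Lpr_cf (f263346 IH) (Lpn (LP (LK LD1_c18 LD2_c54 LD3_c9))))
theorem f263369 : Led Lsl_ft (LP (LK LD1_c27 LD2_c49 LD3_c31)) = (LP (LK LD1_c18 LD2_c9 LD3_c6)) :=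
  Lre_f IH (LK LD1_c27 LD2_c49 LD3_c31) (LK LD1_c18 LD2_c9 LD3_c6) Lrfl Lrfl
theorem f375353 : Led Lsl_ct (LP (LK LD1_c28 LD2_c19 LD3_c58)) = (LP (LK LD1_c27 LD2_c49 LD3_c31)) :=
  Lgr Lrot40 (Lpr_ff (f375349 IH) (Lpe (f263353 IH) (Lpe (f263369 IH) (Lpn (LP (LK LD1_c27 LD2_c49 LD3_c31))))))
theorem f939444 : Led Lsl_gf (LP (LK LD1_c27 LD2_c49 LD3_c31)) = (LP (LK LD1_c28 LD2_c5 LD3_c14)) :=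
  Lgr Lrot126 (Lpe (f375353 IH) (Lpr_bt (f171577 IH) (Lpr_gt (f375351 IH) (Lpr_ct (f273423 IH) (Lpr_gt (K21.f273509 IH) (Lpe (f198772 IH) (Lpr_bt (K27.f212194 IH) (Lpr_gt (f212186 IH) (Lpe (f273518 IH) (Lpr_ct (f939442 IH) (Lpn (LP (LK LD1_c28 LD2_c5 LD3_c14)))))))))))))
theorem f257669 : Led Lsl_at (LP (LK LD1_c32 LD2_c28 LD3_c47)) = (LP (LK LD1_c27 LD2_c49 LD3_c31)) :=
  Lre_a IH (LK LD1_c32 LD2_c28 LD3_c47) (LK LD1_c27 LD2_c49 LD3_c31) Lrfl Lrfl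
theorem f257668 : Led Lsl_ft (LP (LK LD1_c27 LD2_c49 LD3_c27)) = (LP (LK LD1_c32 LD2_c28 LD3_c47)) :=
  Lre_f IH (LK LD1_c27 LD2_c49 LD3_c27) (LK LD1_c32 LD2_c28 LD3_c47) Lrfl Lrfl
theorem f939446 : Led Lsl_gt (LP (LK LD1_c27 LD2_c49 LD3_c27)) = (LP (LK LD1_c28 LD2_c5 LD3_c14)) :=
  Lgr Lrot5 (Lpr_ft (f257668 IH) (Lpr_at (f257669 IH) (Lpr_gf (f939444 IH) (Lpn (LP (LK LD1_c28 LD2_c5 LD3_c14))))))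
theorem f44417 : Led Lsl_dt (LP (LK LD1_c7 LD2_c57 LD3_c35)) = (LP (LK LD1_c15 LD2_c0 LD3_c51)) :=
  Lre_d IH (LK LD1_c7 LD2_c57 LD3_c35) (LK LD1_c15 LD2_c0 LD3_c51) Lrfl Lrfl
theorem f44418 : Led Lsl_gt (LP (LK LD1_c24 LD2_c48 LD3_c27)) = (LP (LK LD1_c15 LD2_c0 LD3_c51)) :=
  Lre_g IH (LK LD1_c24 LD2_c48 LD3_c27) (LK LD1_c15 LD2_c0 LD3_c51) Lrfl Lrfl
theorem f939457 : Led Lsl_df (LP (LK LD1_c24 LD2_c48 LD3_c27)) = (LP (LK LD1_c18 LD2_c31 LD3_c0)) :=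
  Lgr Lrot170 (Lpr_gt (f44418 IH) (Lpe (f44417 IH) (Lpe (K13.f44407 IH) (Lpr_gt (K71.f44415 IH) (Lpr_dt (K71.f44416 IH) (Lpr_gt (K72.f586576 IH) (Lpr_df (K44.f584497 IH) (Lpr_et (K44.f263382 IH) (Lpr_gt (f939446 IH) (Lpe (f410462 IH) (Lpn (LP (LK LD1_c18 LD2_c31 LD3_c0)))))))))))))
theorem f285415 : Led Lsl_ct (LP (LK LD1_c28 LD2_c22 LD3_c20)) = (LP (LK LD1_c18 LD2_c54 LD3_c31)) :=
  Lre_c IH (LK LD1_c28 LD2_c22 LD3_c20) (LK LD1_c18 LD2_c54 LD3_c31) Lrfl Lrfl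
theorem f584832 : Led Lsl_dt (LP (LK LD1_c32 LD2_c31 LD3_c37)) = (LP (LK LD1_c28 LD2_c22 LD3_c20)) :=
  Lgr Lrot182 (Lpe (K72.f544707 IH) (Lpe (K72.f544704 IH) (Lpe (K44.f544702 IH) (Lpr_df (K72.f584823 IH) (Lpe (K44.f248221 IH) (Lpe (K44.f248229 IH) (Lpe (K10.f184844 IH) (Lpe (K10.f28265 IH) (Lpe (K9.f28264 IH) (Lpe (K10.f28299 IH) (Lpe (K10.f28300 IH) (Lpe (K1.f43944 IH) (Lpe (K13.f184862 IH) (Lpe (K9.f48256 IH) (Lpe (K13.f48267 IH) (Lpe (K17.f48268 IH) (Lpr_gf (K17.f285433 IH) (Lpe (K44.f285414 IH) (Lpe (f285415 IH) (Lpn (LP (LK LD1_c28 LD2_c22 LD3_c20))))))))))))))))))))))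
theorem f584836 : Led Lsl_df (LP (LK LD1_c32 LD2_c31 LD3_c37)) = (LP (LK LD1_c28 LD2_c22 LD3_c20)) :=
  Lgr Lrot38 (Lpr_dt (f584832 IH) (Lpn (LP (LK LD1_c28 LD2_c22 LD3_c20))))
theorem f285443 : Led Lsl_ct (LP (LK LD1_c18 LD2_c54 LD3_c31)) = (LP (LK LD1_c28 LD2_c22 LD3_c20)) :=
  Lre_c IH (LK LD1_c18 LD2_c54 LD3_c31) (LK LD1_c28 LD2_c22 LD3_c20) Lrfl Lrfl
theorem f939467 : Led Lsl_gt (LP (LK LD1_c24 LD2_c48 LD3_c28)) = (LP (LK LD1_c18 LD2_c54 LD3_c31)) :=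
  Lgr Lrot150 (Lpe (K44.f51310 IH) (Lpe (f44418 IH) (Lpr_df (f939457 IH) (Lpr_gt (K72.f285464 IH) (Lpr_ct (K44.f215592 IH) (Lpr_gt (K72.f246193 IH) (Lpr_ct (K72.f584241 IH) (Lpr_df (f584836 IH) (Lpe (f285443 IH) (Lpn (LP (LK LD1_c18 LD2_c54 LD3_c31))))))))))))
theorem f939473 : Led Lsl_gt (LP (LK LD1_c27 LD2_c51 LD3_c25)) = (LP (LK LD1_c18 LD2_c31 LD3_c2)) :=
  Lgr Lrot49 (Lpe (K44.f214490 IH) (Lpr_gf (K13.f214488 IH) (Lpr_cf (K13.f51318 IH) (Lpe (K14.f188479 IH) (Lpe (K44.f583726 IH) (Lpr_gt (f939467 IH) (Lpe (K71.f285461 IH) (Lpe (K44.f215592 IH) (Lpe (K44.f215603 IH) (Lpn (LP (LK LD1_c18 LD2_c31 LD3_c2))))))))))))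
theorem f45057 : Led Lsl_gt (LP (LK LD1_c25 LD2_c24 LD3_c4)) = (LP (LK LD1_c15 LD2_c31 LD3_c3)) :=
  Lre_g IH (LK LD1_c25 LD2_c24 LD3_c4) (LK LD1_c15 LD2_c31 LD3_c3) Lrfl Lrfl
theorem f939479 : Led Lsl_cf (LP (LK LD1_c25 LD2_c24 LD3_c4)) = (LP (LK LD1_c18 LD2_c31 LD3_c2)) :=
  Lgr Lrot169 (Lpr_gt (f45057 IH) (Lpr_ct (K44.f51328 IH) (Lpe (K44.f583702 IH) (Lpe (K44.f188452 IH) (Lpe (K44.f188333 IH) (Lpe (K14.f214529 IH) (Lpe (K13.f214487 IH) (Lpe (K44.f214491 IH) (Lpr_gt (f939473 IH) (Lpn (LP (LK LD1_c18 LD2_c31 LD3_c2))))))))))))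
theorem f939487 : Led Lsl_ft (LP (LK LD1_c25 LD2_c24 LD3_c4)) = (LP (LK LD1_c25 LD2_c26 LD3_c42)) :=
  Lgr Lrot4 (Lpr_cf (f939479 IH) (Lpr_ff (K44.f370555 IH) (Lpe (K44.f583688 IH) (Lpn (LP (LK LD1_c25 LD2_c26 LD3_c42))))))
theorem f45054 : Led Lsl_gt (LP (LK LD1_c15 LD2_c31 LD3_c3)) = (LP (LK LD1_c25 LD2_c24 LD3_c3)) :=
  Lre_g IH (LK LD1_c15 LD2_c31 LD3_c3) (LK LD1_c25 LD2_c24 LD3_c3) Lrfl Lrfl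
theorem f939502 : Led Lsl_af (LP (LK LD1_c25 LD2_c24 LD3_c3)) = (LP (LK LD1_c25 LD2_c26 LD3_c42)) :=
  Lgr Lrot31 (Lpe (f45054 IH) (Lpe (f45057 IH) (Lpr_ft (f939487 IH) (Lpn (LP (LK LD1_c25 LD2_c26 LD3_c42))))))
theorem f215604 : Led Lsl_dt (LP (LK LD1_c10 LD2_c9 LD3_c56)) = (LP (LK LD1_c18 LD2_c31 LD3_c2)) :=
  Lre_d IH (LK LD1_c10 LD2_c9 LD3_c56) (LK LD1_c18 LD2_c31 LD3_c2) Lrfl Lrfl
theorem f370914 : Led Lsl_ff (LP (LK LD1_c28 LD2_c22 LD3_c20)) = (LP (LK LD1_c28 LD2_c20 LD3_c57)) :=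
  Lgr Lrot23 (Lpr_ct (f285415 IH) (Lpr_ft (K44.f370912 IH) (Lpr_ct (K44.f278338 IH) (Lpn (LP (LK LD1_c28 LD2_c20 LD3_c57))))))
theorem f585307 : Led Lsl_ft (LP (LK LD1_c32 LD2_c31 LD3_c37)) = (LP (LK LD1_c28 LD2_c20 LD3_c53)) :=
  Lgr Lrot54 (Lpr_df (f584836 IH) (Lpr_ff (f370914 IH) (Lpr_df (K44.f585301 IH) (Lpn (LP (LK LD1_c28 LD2_c20 LD3_c53))))))
theorem f585313 : Led Lsl_ff (LP (LK LD1_c32 LD2_c31 LD3_c37)) = (LP (LK LD1_c28 LD2_c20 LD3_c53)) :=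
  Lgr Lrot3 (Lpr_ft (f585307 IH) (Lpn (LP (LK LD1_c28 LD2_c20 LD3_c53))))
theorem f585295 : Led Lsl_df (LP (LK LD1_c18 LD2_c53 LD3_c10)) = (LP (LK LD1_c25 LD2_c26 LD3_c42)) :=
  Lgr Lrot38 (Lpr_dt (K44.f585290 IH) (Lpn (LP (LK LD1_c25 LD2_c26 LD3_c42))))
theorem f585319 : Led Lsl_at (LP (LK LD1_c32 LD2_c31 LD3_c37)) = (LP (LK LD1_c28 LD2_c5 LD3_c30)) :=
  Lgr Lrot33 (Lpr_ff (f585313 IH) (Lpe (K44.f585301 IH) (Lpr_ct (K44.f278344 IH) (Lpr_dt (K44.f278343 IH) (Lpr_ct (K23.f278335 IH) (Lpr_dt (K44.f278357 IH) (Lpe (K44.f583684 IH) (Lpe (f585295 IH) (Lpr_ct (K44.f278351 IH) (Lpn (LP (LK LD1_c28 LD2_c5 LD3_c30))))))))))))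
theorem f585323 : Led Lsl_af (LP (LK LD1_c28 LD2_c5 LD3_c8)) = (LP (LK LD1_c18 LD2_c53 LD3_c10)) :=
  Lgr Lrot68 (Lpr_ct (K72.f584241 IH) (Lpr_at (f585319 IH) (Lpe (K44.f278347 IH) (Lpn (LP (LK LD1_c18 LD2_c53 LD3_c10))))))
theorem f585327 : Led Lsl_ft (LP (LK LD1_c28 LD2_c5 LD3_c9)) = (LP (LK LD1_c18 LD2_c53 LD3_c10)) :=
  Lgr Lrot2 (Lpr_gt (K44.f215593 IH) (Lpr_gt (K72.f246193 IH) (Lpr_af (f585323 IH) (Lpn (LP (LK LD1_c18 LD2_c53 LD3_c10))))))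
theorem f585333 : Led Lsl_ff (LP (LK LD1_c28 LD2_c5 LD3_c9)) = (LP (LK LD1_c18 LD2_c53 LD3_c10)) :=
  Lgr Lrot3 (Lpr_ft (f585327 IH) (Lpn (LP (LK LD1_c18 LD2_c53 LD3_c10))))
theorem f215606 : Led Lsl_cf (LP (LK LD1_c27 LD2_c52 LD3_c39)) = (LP (LK LD1_c28 LD2_c5 LD3_c9)) :=
  Lgr Lrot11 (Lpr_ct (K44.f215594 IH) (Lpn (LP (LK LD1_c28 LD2_c5 LD3_c9))))
theorem f585337 : Led Lsl_ft (LP (LK LD1_c27 LD2_c52 LD3_c39)) = (LP (LK LD1_c28 LD2_c5 LD3_c30)) :=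
  Lgr Lrot4 (Lpr_cf (f215606 IH) (Lpr_ff (f585333 IH) (Lpr_cf (K44.f278347 IH) (Lpn (LP (LK LD1_c28 LD2_c5 LD3_c30))))))
theorem f585321 : Led Lsl_af (LP (LK LD1_c32 LD2_c31 LD3_c37)) = (LP (LK LD1_c28 LD2_c5 LD3_c30)) :=
  Lgr Lrot0 (Lpr_at (f585319 IH) (Lpn (LP (LK LD1_c28 LD2_c5 LD3_c30))))
theorem f585339 : Led Lsl_af (LP (LK LD1_c27 LD2_c52 LD3_c39)) = (LP (LK LD1_c28 LD2_c20 LD3_c53)) :=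
  Lgr Lrot45 (Lpr_ft (f585337 IH) (Lpe (f585321 IH) (Lpr_ft (f585307 IH) (Lpn (LP (LK LD1_c28 LD2_c20 LD3_c53))))))
theorem f939489 : Led Lsl_dt (LP (LK LD1_c25 LD2_c24 LD3_c4)) = (LP (LK LD1_c28 LD2_c5 LD3_c9)) :=
  Lgr Lrot120 (Lpr_cf (f939479 IH) (Lpe (f215604 IH) (Lpe (K72.f215591 IH) (Lpr_df (K71.f285461 IH) (Lpe (f285415 IH) (Lpe (f584832 IH) (Lpr_ft (f585307 IH) (Lpe (f585339 IH) (Lpr_cf (f215606 IH) (Lpn (LP (LK LD1_c28 LD2_c5 LD3_c9))))))))))))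
theorem f585325 : Led Lsl_at (LP (LK LD1_c28 LD2_c5 LD3_c8)) = (LP (LK LD1_c18 LD2_c53 LD3_c10)) :=
  Lgr Lrot100 (Lpr_af (f585323 IH) (Lpn (LP (LK LD1_c18 LD2_c53 LD3_c10))))
theorem f585311 : Led Lsl_ff (LP (LK LD1_c28 LD2_c5 LD3_c8)) = (LP (LK LD1_c18 LD2_c53 LD3_c9)) :=
  Lgr Lrot23 (Lpr_ct (K72.f584241 IH) (Lpr_ft (f585307 IH) (Lpr_ct (K44.f278346 IH) (Lpn (LP (LK LD1_c18 LD2_c53 LD3_c9))))))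
theorem f585335 : Led Lsl_at (LP (LK LD1_c28 LD2_c5 LD3_c9)) = (LP (LK LD1_c18 LD2_c53 LD3_c9)) :=
  Lgr Lrot66 (Lpr_ff (f585333 IH) (Lpe (f585325 IH) (Lpr_ff (f585311 IH) (Lpn (LP (LK LD1_c18 LD2_c53 LD3_c9))))))
theorem f939496 : Led Lsl_af (LP (LK LD1_c25 LD2_c24 LD3_c4)) = (LP (LK LD1_c25 LD2_c26 LD3_c41)) :=
  Lgr Lrot117 (Lpr_dt (f939489 IH) (Lpr_at (f585335 IH) (Lpe (K44.f585645 IH) (Lpn (LP (LK LD1_c25 LD2_c26 LD3_c41))))))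
theorem f939511 : Led Lsl_ft (LP (LK LD1_c25 LD2_c24 LD3_c3)) = (LP (LK LD1_c25 LD2_c26 LD3_c41)) :=
  Lgr Lrot101 (Lpr_af (f939502 IH) (Lpe (f939487 IH) (Lpr_af (f939496 IH) (Lpn (LP (LK LD1_c25 LD2_c26 LD3_c41))))))
theorem f939515 : Led Lsl_df (LP (LK LD1_c25 LD2_c24 LD3_c3)) = (LP (LK LD1_c28 LD2_c5 LD3_c8)) :=
  Lgr Lrot78 (Lpr_ft (f939511 IH) (Lpr_dt (K44.f585655 IH) (Lpe (f585311 IH) (Lpn (LP (LK LD1_c28 LD2_c5 LD3_c8))))))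
theorem f53517 : Led Lsl_at (LP (LK LD1_c15 LD2_c33 LD3_c8)) = (LP (LK LD1_c25 LD2_c26 LD3_c43)) :=
  Lre_a IH (LK LD1_c15 LD2_c33 LD3_c8) (LK LD1_c25 LD2_c26 LD3_c43) Lrfl Lrfl
theorem f53522 : Led Lsl_gt (LP (LK LD1_c25 LD2_c24 LD3_c3)) = (LP (LK LD1_c25 LD2_c26 LD3_c43)) :=
  Lgr Lrot46 (Lpe (f45054 IH) (Lpr_ft (K13.f53514 IH) (Lpr_at (f53517 IH) (Lpn (LP (LK LD1_c25 LD2_c26 LD3_c43))))))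
theorem f53500 : Led Lsl_at (LP (LK LD1_c25 LD2_c26 LD3_c43)) = (LP (LK LD1_c15 LD2_c33 LD3_c8)) :=
  Lre_a IH (LK LD1_c25 LD2_c26 LD3_c43) (LK LD1_c15 LD2_c33 LD3_c8) Lrfl Lrfl
theorem f188448 : Led Lsl_dt (LP (LK LD1_c18 LD2_c54 LD3_c19)) = (LP (LK LD1_c25 LD2_c26 LD3_c43)) :=
  Lgr Lrot44 (Lpe (K13.f188313 IH) (Lpr_df (K13.f188441 IH) (Lpe (f53500 IH) (Lpn (LP (LK LD1_c25 LD2_c26 LD3_c43))))))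
theorem f188482 : Led Lsl_df (LP (LK LD1_c18 LD2_c54 LD3_c19)) = (LP (LK LD1_c25 LD2_c26 LD3_c43)) :=
  Lgr Lrot38 (Lpr_dt (f188448 IH) (Lpn (LP (LK LD1_c25 LD2_c26 LD3_c43))))
theorem f44424 : Led Lsl_gt (LP (LK LD1_c15 LD2_c0 LD3_c51)) = (LP (LK LD1_c24 LD2_c48 LD3_c26)) :=
  Lre_g IH (LK LD1_c15 LD2_c0 LD3_c51) (LK LD1_c24 LD2_c48 LD3_c26) Lrfl Lrfl
theorem f215608 : Led Lsl_gf (LP (LK LD1_c27 LD2_c51 LD3_c27)) = (LP (LK LD1_c24 LD2_c48 LD3_c26)) :=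
  Lgr Lrot76 (Lpe (K44.f214239 IH) (Lpr_ff (K44.f214330 IH) (Lpr_gt (f44424 IH) (Lpn (LP (LK LD1_c24 LD2_c48 LD3_c26))))))
theorem f939523 : Led Lsl_df (LP (LK LD1_c24 LD2_c48 LD3_c26)) = (LP (LK LD1_c18 LD2_c30 LD3_c61)) :=
  Lgr Lrot153 (Lpe (f215608 IH) (Lpr_dt (K13.f214213 IH) (Lpr_cf (K53.f214474 IH) (Lpr_df (f188482 IH) (Lpe (f53522 IH) (Lpr_df (f939515 IH) (Lpe (K72.f246193 IH) (Lpe (K44.f215592 IH) (Lpr_gt (K44.f242357 IH) (Lpn (LP (LK LD1_c18 LD2_c30 LD3_c61))))))))))))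
theorem f278375 : Led Lsl_ct (LP (LK LD1_c27 LD2_c52 LD3_c7)) = (LP (LK LD1_c18 LD2_c11 LD3_c35)) :=
  Lre_c IH (LK LD1_c27 LD2_c52 LD3_c7) (LK LD1_c18 LD2_c11 LD3_c35) Lrfl Lrfl
theorem f939287 : Led Lsl_ff (LP (LK LD1_c18 LD2_c30 LD3_c61)) = (LP (LK LD1_c18 LD2_c11 LD3_c35)) :=
  Lgr Lrot23 (Lpr_ct (f370891 IH) (Lpr_ft (f939283 IH) (Lpr_ct (f278375 IH) (Lpn (LP (LK LD1_c18 LD2_c11 LD3_c35))))))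
theorem f939530 : Led Lsl_ft (LP (LK LD1_c24 LD2_c48 LD3_c26)) = (LP (LK LD1_c27 LD2_c51 LD3_c29)) :=
  Lgr Lrot54 (Lpr_df (f939523 IH) (Lpr_ff (f939287 IH) (Lpe (K67.f585647 IH) (Lpn (LP (LK LD1_c27 LD2_c51 LD3_c29))))))
theorem f939534 : Led Lsl_ff (LP (LK LD1_c24 LD2_c48 LD3_c26)) = (LP (LK LD1_c27 LD2_c51 LD3_c29)) :=
  Lgr Lrot3 (Lpr_ft (f939530 IH) (Lpn (LP (LK LD1_c27 LD2_c51 LD3_c29))))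
theorem f939527 : Led Lsl_bt (LP (LK LD1_c24 LD2_c48 LD3_c26)) = (LP (LK LD1_c31 LD2_c39 LD3_c31)) :=
  Lre_b IH (LK LD1_c24 LD2_c48 LD3_c26) (LK LD1_c31 LD2_c39 LD3_c31) Lrfl Lrfl
theorem f939542 : Led Lsl_ft (LP (LK LD1_c31 LD2_c39 LD3_c31)) = (LP (LK LD1_c32 LD2_c29 LD3_c15)) :=
  Lgr Lrot75 (Lpe (f939527 IH) (Lpr_ff (f939534 IH) (Lpe (K67.f215833 IH) (Lpn (LP (LK LD1_c32 LD2_c29 LD3_c15))))))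
theorem f939544 : Led Lsl_df (LP (LK LD1_c31 LD2_c39 LD3_c31)) = (LP (LK LD1_c28 LD2_c5 LD3_c11)) :=
  Lgr Lrot78 (Lpr_ft (f939542 IH) (Lpr_dt (K67.f585653 IH) (Lpe (f939297 IH) (Lpn (LP (LK LD1_c28 LD2_c5 LD3_c11))))))
theorem f240108 : Led Lsl_dt (LP (LK LD1_c32 LD2_c29 LD3_c61)) = (LP (LK LD1_c27 LD2_c53 LD3_c17)) :=
  Lre_d IH (LK LD1_c32 LD2_c29 LD3_c61) (LK LD1_c27 LD2_c53 LD3_c17) Lrfl Lrfl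
theorem f939546 : Led Lsl_at (LP (LK LD1_c31 LD2_c39 LD3_c31)) = (LP (LK LD1_c32 LD2_c29 LD3_c61)) :=
  Lgr Lrot51 (Lpr_df (f939544 IH) (Lpr_af (f939311 IH) (Lpe (f240108 IH) (Lpn (LP (LK LD1_c32 LD2_c29 LD3_c61))))))
theorem f215610 : Led Lsl_bt (LP (LK LD1_c31 LD2_c39 LD3_c31)) = (LP (LK LD1_c24 LD2_c48 LD3_c26)) :=
  Lre_b IH (LK LD1_c31 LD2_c39 LD3_c31) (LK LD1_c24 LD2_c48 LD3_c26) Lrfl Lrfl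
theorem f939532 : Led Lsl_ff (LP (LK LD1_c31 LD2_c39 LD3_c31)) = (LP (LK LD1_c32 LD2_c29 LD3_c15)) :=
  Lgr Lrot25 (Lpr_bt (f215610 IH) (Lpr_ft (f939530 IH) (Lpr_bt (K67.f283945 IH) (Lpn (LP (LK LD1_c32 LD2_c29 LD3_c15))))))
theorem f604423 : Led Lsl_df (LP (LK LD1_c17 LD2_c47 LD3_c9)) = (LP (LK LD1_c18 LD2_c54 LD3_c40)) :=
  Lgr Lrot38 (Lpr_dt (K72.f604421 IH) (Lpn (LP (LK LD1_c18 LD2_c54 LD3_c40))))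
theorem f927472 : Led Lsl_ft (LP (LK LD1_c17 LD2_c47 LD3_c9)) = (LP (LK LD1_c17 LD2_c45 LD3_c61)) :=
  Lgr Lrot54 (Lpr_df (f604423 IH) (Lpr_ff (K72.f927466 IH) (Lpr_df (K44.f584170 IH) (Lpn (LP (LK LD1_c17 LD2_c45 LD3_c61))))))
theorem f927478 : Led Lsl_ff (LP (LK LD1_c27 LD2_c34 LD3_c3)) = (LP (LK LD1_c27 LD2_c32 LD3_c19)) :=
  Lgr Lrot23 (Lpr_ct (K44.f259993 IH) (Lpr_ft (f927472 IH) (Lpr_ct (K44.f294592 IH) (Lpn (LP (LK LD1_c27 LD2_c32 LD3_c19))))))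
theorem f927484 : Led Lsl_at (LP (LK LD1_c27 LD2_c34 LD3_c3)) = (LP (LK LD1_c27 LD2_c32 LD3_c21)) :=
  Lgr Lrot26 (Lpr_ff (f927478 IH) (Lpr_gt (K44.f294597 IH) (Lpr_gt (K72.f585532 IH) (Lpn (LP (LK LD1_c27 LD2_c32 LD3_c21))))))
theorem f927486 : Led Lsl_af (LP (LK LD1_c27 LD2_c34 LD3_c3)) = (LP (LK LD1_c27 LD2_c32 LD3_c21)) :=
  Lgr Lrot0 (Lpr_at (f927484 IH) (Lpn (LP (LK LD1_c27 LD2_c32 LD3_c21))))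
theorem f927488 : Led Lsl_at (LP (LK LD1_c17 LD2_c47 LD3_c9)) = (LP (LK LD1_c17 LD2_c46 LD3_c0)) :=
  Lgr Lrot107 (Lpe (K44.f259993 IH) (Lpr_af (f927486 IH) (Lpe (K38.f249540 IH) (Lpn (LP (LK LD1_c17 LD2_c46 LD3_c0))))))
theorem f927410 : Led Lsl_af (LP (LK LD1_c18 LD2_c9 LD3_c31)) = (LP (LK LD1_c18 LD2_c33 LD3_c8)) :=
  Lgr Lrot0 (Lpr_at (K72.f927408 IH) (Lpn (LP (LK LD1_c18 LD2_c33 LD3_c8))))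
theorem f927490 : Led Lsl_af (LP (LK LD1_c18 LD2_c28 LD3_c57)) = (LP (LK LD1_c25 LD2_c0 LD3_c55)) :=
  Lgr Lrot36 (Lpe (K44.f260045 IH) (Lpr_at (f927488 IH) (Lpr_bt (K72.f544840 IH) (Lpe (f927410 IH) (Lpr_bt (K44.f582732 IH) (Lpn (LP (LK LD1_c25 LD2_c0 LD3_c55))))))))
theorem f32774 : Led Lsl_bt (LP (LK LD1_c10 LD2_c21 LD3_c40)) = (LP (LK LD1_c5 LD2_c16 LD3_c4)) :=
  Lre_b IH (LK LD1_c10 LD2_c21 LD3_c40) (LK LD1_c5 LD2_c16 LD3_c4) Lrfl Lrfl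
theorem f724465 : Led Lsl_cf (LP (LK LD1_c17 LD2_c47 LD3_c38)) = (LP (LK LD1_c10 LD2_c21 LD3_c40)) :=
  Lgr Lrot160 (Lpr_gt (K71.f724456 IH) (Lpe (K44.f212449 IH) (Lpr_bt (K53.f181004 IH) (Lpr_gt (K12.f212466 IH) (Lpr_ct (K15.f47573 IH) (Lpr_gt (K10.f45401 IH) (Lpe (K10.f45390 IH) (Lpr_bt (K53.f48396 IH) (Lpr_gt (K53.f48506 IH) (Lpe (f32774 IH) (Lpn (LP (LK LD1_c10 LD2_c21 LD3_c40)))))))))))))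
theorem f724470 : Led Lsl_ct (LP (LK LD1_c17 LD2_c47 LD3_c38)) = (LP (LK LD1_c10 LD2_c21 LD3_c40)) :=
  Lgr Lrot59 (Lpr_cf (f724465 IH) (Lpn (LP (LK LD1_c10 LD2_c21 LD3_c40))))
theorem f582835 : Led Lsl_cf (LP (LK LD1_c18 LD2_c48 LD3_c0)) = (LP (LK LD1_c18 LD2_c33 LD3_c9)) :=
  Lgr Lrot97 (Lpr_bt (K44.f180881 IH) (Lpe (K53.f260177 IH) (Lpr_bt (K37.f260172 IH) (Lpr_ct (K44.f260043 IH) (Lpr_bt (K44.f582831 IH) (Lpn (LP (LK LD1_c18 LD2_c33 LD3_c9))))))))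
theorem f582833 : Led Lsl_bf (LP (LK LD1_c18 LD2_c28 LD3_c53)) = (LP (LK LD1_c18 LD2_c33 LD3_c9)) :=
  Lgr Lrot24 (Lpr_bt (K44.f582831 IH) (Lpn (LP (LK LD1_c18 LD2_c33 LD3_c9))))
theorem f47005 : Led Lsl_bt (LP (LK LD1_c1 LD2_c58 LD3_c14)) = (LP (LK LD1_c4 LD2_c2 LD3_c29)) :=
  Lre_b IH (LK LD1_c1 LD2_c58 LD3_c14) (LK LD1_c4 LD2_c2 LD3_c29) Lrfl Lrfl
theorem f47144 : Led Lsl_gt (LP (LK LD1_c8 LD2_c5 LD3_c33)) = (LP (LK LD1_c4 LD2_c2 LD3_c29)) :=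
  Lre_g IH (LK LD1_c8 LD2_c5 LD3_c33) (LK LD1_c4 LD2_c2 LD3_c29) Lrfl Lrfl
theorem f47154 : Led Lsl_bt (LP (LK LD1_c15 LD2_c14 LD3_c18)) = (LP (LK LD1_c8 LD2_c5 LD3_c33)) :=
  Lre_b IH (LK LD1_c15 LD2_c14 LD3_c18) (LK LD1_c8 LD2_c5 LD3_c33) Lrfl Lrfl
theorem f47155 : Led Lsl_ct (LP (LK LD1_c15 LD2_c14 LD3_c18)) = (LP (LK LD1_c25 LD2_c3 LD3_c23)) :=
  Lre_c IH (LK LD1_c15 LD2_c14 LD3_c18) (LK LD1_c25 LD2_c3 LD3_c23) Lrfl Lrfl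
theorem f260170 : Led Lsl_gt (LP (LK LD1_c18 LD2_c28 LD3_c53)) = (LP (LK LD1_c25 LD2_c3 LD3_c23)) :=
  Lgr Lrot149 (Lpe (K44.f260043 IH) (Lpe (K37.f260027 IH) (Lpe (K37.f260000 IH) (Lpr_ct (K15.f259996 IH) (Lpe (K15.f46992 IH) (Lpe (K1.f46581 IH) (Lpr_bt (f47005 IH) (Lpe (f47144 IH) (Lpe (f47154 IH) (Lpr_ct (f47155 IH) (Lpn (LP (LK LD1_c25 LD2_c3 LD3_c23)))))))))))))
theorem f927198 : Led Lsl_bt (LP (LK LD1_c28 LD2_c9 LD3_c23)) = (LP (LK LD1_c25 LD2_c3 LD3_c23)) :=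
  Lgr Lrot92 (Lpr_ct (K72.f927192 IH) (Lpr_gt (K72.f917323 IH) (Lpe (K72.f917325 IH) (Lpe (K13.f43487 IH) (Lpe (K72.f724459 IH) (Lpr_ct (f724470 IH) (Lpe (K53.f724208 IH) (Lpr_cf (f582835 IH) (Lpe (f582833 IH) (Lpr_gt (f260170 IH) (Lpn (LP (LK LD1_c25 LD2_c3 LD3_c23)))))))))))))
theorem f184028 : Led Lsl_ct (LP (LK LD1_c9 LD2_c39 LD3_c55)) = (LP (LK LD1_c10 LD2_c26 LD3_c41)) :=
  Lgr Lrot83 (Lpe (K38.f43479 IH) (Lpe (K9.f43450 IH) (Lpe (K9.f43474 IH) (Lpr_cf (K12.f184025 IH) (Lpe (f182216 IH) (Lpn (LP (LK LD1_c10 LD2_c26 LD3_c41))))))))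
theorem f260048 : Led Lsl_bt (LP (LK LD1_c17 LD2_c47 LD3_c9)) = (LP (LK LD1_c18 LD2_c28 LD3_c57)) :=
  Lgr Lrot127 (Lpr_bf (K44.f260045 IH) (Lpn (LP (LK LD1_c18 LD2_c28 LD3_c57))))
theorem f927200 : Led Lsl_gf (LP (LK LD1_c18 LD2_c28 LD3_c57)) = (LP (LK LD1_c25 LD2_c3 LD3_c23)) :=
  Lgr Lrot124 (Lpe (f260048 IH) (Lpr_ct (K44.f43478 IH) (Lpe (K44.f584136 IH) (Lpr_cf (K44.f584123 IH) (Lpr_bt (K44.f544563 IH) (Lpe (K44.f544885 IH) (Lpr_ct (f184028 IH) (Lpr_gt (K72.f184032 IH) (Lpe (K72.f927192 IH) (Lpr_bt (f927198 IH) (Lpn (LP (LK LD1_c25 LD2_c3 LD3_c23)))))))))))))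
theorem f927496 : Led Lsl_ft (LP (LK LD1_c18 LD2_c28 LD3_c53)) = (LP (LK LD1_c25 LD2_c0 LD3_c55)) :=
  Lgr Lrot2 (Lpr_gt (f260170 IH) (Lpe (f927200 IH) (Lpr_af (f927490 IH) (Lpn (LP (LK LD1_c25 LD2_c0 LD3_c55))))))
theorem f927500 : Led Lsl_ff (LP (LK LD1_c10 LD2_c8 LD3_c50)) = (LP (LK LD1_c15 LD2_c11 LD3_c59)) :=
  Lgr Lrot23 (Lpr_ct (K44.f260043 IH) (Lpr_ft (f927496 IH) (Lpr_ct (K44.f229110 IH) (Lpn (LP (LK LD1_c15 LD2_c11 LD3_c59))))))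
theorem f927508 : Led Lsl_ft (LP (LK LD1_c10 LD2_c8 LD3_c50)) = (LP (LK LD1_c15 LD2_c11 LD3_c59)) :=
  Lgr Lrot48 (Lpr_ff (f927500 IH) (Lpn (LP (LK LD1_c15 LD2_c11 LD3_c59))))
theorem f229109 : Led Lsl_bt (LP (LK LD1_c15 LD2_c11 LD3_c59)) = (LP (LK LD1_c25 LD2_c0 LD3_c54)) :=
  Lre_b IH (LK LD1_c15 LD2_c11 LD3_c59) (LK LD1_c25 LD2_c0 LD3_c54) Lrfl Lrfl
theorem f927526 : Led Lsl_ff (LP (LK LD1_c18 LD2_c28 LD3_c52)) = (LP (LK LD1_c25 LD2_c0 LD3_c54)) :=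
  Lgr Lrot25 (Lpr_bt (K37.f260172 IH) (Lpr_ft (f927508 IH) (Lpr_bt (f229109 IH) (Lpn (LP (LK LD1_c25 LD2_c0 LD3_c54))))))
theorem f229111 : Led Lsl_cf (LP (LK LD1_c25 LD2_c0 LD3_c54)) = (LP (LK LD1_c18 LD2_c27 LD3_c51)) :=
  Lgr Lrot11 (Lpr_ct (K37.f229107 IH) (Lpn (LP (LK LD1_c18 LD2_c27 LD3_c51))))
theorem f603977 : Led Lsl_gt (LP (LK LD1_c25 LD2_c0 LD3_c54)) = (LP (LK LD1_c18 LD2_c29 LD3_c15)) :=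
  Lgr Lrot149 (Lpr_cf (f229111 IH) (Lpe (K37.f351122 IH) (Lpe (K37.f350863 IH) (Lpe (K37.f230193 IH) (Lpe (K53.f351163 IH) (Lpr_cf (K53.f294764 IH) (Lpr_bt (K53.f166103 IH) (Lpe (K44.f35082 IH) (Lpe (f166110 IH) (Lpr_ct (f603970 IH) (Lpn (LP (LK LD1_c18 LD2_c29 LD3_c15)))))))))))))
theorem f927532 : Led Lsl_at (LP (LK LD1_c18 LD2_c28 LD3_c52)) = (LP (LK LD1_c28 LD2_c2 LD3_c38)) :=
  Lgr Lrot26 (Lpr_ff (f927526 IH) (Lpr_gt (f603977 IH) (Lpe (f604071 IH) (Lpn (LP (LK LD1_c28 LD2_c2 LD3_c38))))))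
theorem f927536 : Led Lsl_af (LP (LK LD1_c10 LD2_c21 LD3_c32)) = (LP (LK LD1_c18 LD2_c27 LD3_c50)) :=
  Lgr Lrot68 (Lpe (K53.f260177 IH) (Lpr_at (f927532 IH) (Lpr_ct (f350963 IH) (Lpn (LP (LK LD1_c18 LD2_c27 LD3_c50))))))
theorem f927542 : Led Lsl_ft (LP (LK LD1_c10 LD2_c21 LD3_c31)) = (LP (LK LD1_c18 LD2_c27 LD3_c50)) :=
  Lgr Lrot2 (Lpr_gt (K37.f350929 IH) (Lpe (K37.f351110 IH) (Lpr_af (f927536 IH) (Lpn (LP (LK LD1_c18 LD2_c27 LD3_c50))))))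
theorem f927551 : Led Lsl_ff (LP (LK LD1_c10 LD2_c21 LD3_c31)) = (LP (LK LD1_c18 LD2_c27 LD3_c50)) :=
  Lgr Lrot3 (Lpr_ft (f927542 IH) (Lpn (LP (LK LD1_c18 LD2_c27 LD3_c50))))
theorem f927557 : Led Lsl_at (LP (LK LD1_c10 LD2_c21 LD3_c31)) = (LP (LK LD1_c18 LD2_c27 LD3_c51)) :=
  Lgr Lrot26 (Lpr_ff (f927551 IH) (Lpe (f350957 IH) (Lpr_gt (K37.f351122 IH) (Lpn (LP (LK LD1_c18 LD2_c27 LD3_c51))))))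
theorem f927559 : Led Lsl_af (LP (LK LD1_c18 LD2_c29 LD3_c31)) = (LP (LK LD1_c25 LD2_c0 LD3_c54)) :=
  Lgr Lrot68 (Lpe (K53.f351201 IH) (Lpr_at (f927557 IH) (Lpe (f229111 IH) (Lpn (LP (LK LD1_c25 LD2_c0 LD3_c54))))))
theorem f229105 : Led Lsl_ct (LP (LK LD1_c15 LD2_c11 LD3_c59)) = (LP (LK LD1_c25 LD2_c0 LD3_c55)) :=
  Lre_c IH (LK LD1_c15 LD2_c11 LD3_c59) (LK LD1_c25 LD2_c0 LD3_c55) Lrfl Lrfl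
theorem f927494 : Led Lsl_at (LP (LK LD1_c10 LD2_c8 LD3_c51)) = (LP (LK LD1_c15 LD2_c11 LD3_c59)) :=
  Lgr Lrot107 (Lpe (K44.f260044 IH) (Lpr_af (f927490 IH) (Lpe (f229105 IH) (Lpn (LP (LK LD1_c15 LD2_c11 LD3_c59))))))
theorem f927565 : Led Lsl_at (LP (LK LD1_c25 LD2_c0 LD3_c61)) = (LP (LK LD1_c18 LD2_c28 LD3_c56)) :=
  Lgr Lrot67 (Lpr_bf (K53.f351208 IH) (Lpr_af (f927559 IH) (Lpe (f229109 IH) (Lpe (f927494 IH) (Lpe (K44.f260002 IH) (Lpn (LP (LK LD1_c18 LD2_c28 LD3_c56))))))))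
theorem f927569 : Led Lsl_af (LP (LK LD1_c25 LD2_c3 LD3_c51)) = (LP (LK LD1_c28 LD2_c3 LD3_c34)) :=
  Lgr Lrot68 (Lpr_ct (K53.f603700 IH) (Lpr_at (f927565 IH) (Lpr_ct (K44.f260003 IH) (Lpn (LP (LK LD1_c28 LD2_c3 LD3_c34))))))
theorem f233529 : Led Lsl_dt (LP (LK LD1_c25 LD2_c3 LD3_c51)) = (LP (LK LD1_c31 LD2_c45 LD3_c15)) :=
  Lre_d IH (LK LD1_c25 LD2_c3 LD3_c51) (LK LD1_c31 LD2_c45 LD3_c15) Lrfl Lrfl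
theorem f260022 : Led Lsl_dt (LP (LK LD1_c32 LD2_c31 LD3_c22)) = (LP (LK LD1_c28 LD2_c3 LD3_c34)) :=
  Lre_d IH (LK LD1_c32 LD2_c31 LD3_c22) (LK LD1_c28 LD2_c3 LD3_c34) Lrfl Lrfl
theorem f927575 : Led Lsl_at (LP (LK LD1_c31 LD2_c45 LD3_c15)) = (LP (LK LD1_c32 LD2_c31 LD3_c22)) :=
  Lgr Lrot51 (Lpe (f233529 IH) (Lpr_af (f927569 IH) (Lpe (f260022 IH) (Lpn (LP (LK LD1_c32 LD2_c31 LD3_c22))))))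
theorem f927583 : Led Lsl_af (LP (LK LD1_c31 LD2_c45 LD3_c15)) = (LP (LK LD1_c32 LD2_c31 LD3_c22)) :=
  Lgr Lrot0 (Lpr_at (f927575 IH) (Lpn (LP (LK LD1_c32 LD2_c31 LD3_c22))))
theorem f927577 : Led Lsl_ft (LP (LK LD1_c25 LD2_c3 LD3_c50)) = (LP (LK LD1_c28 LD2_c3 LD3_c34)) :=
  Lgr Lrot2 (Lpr_gt (K53.f405765 IH) (Lpe (K53.f405784 IH) (Lpr_af (f927569 IH) (Lpn (LP (LK LD1_c28 LD2_c3 LD3_c34))))))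
theorem f405767 : Led Lsl_dt (LP (LK LD1_c31 LD2_c45 LD3_c14)) = (LP (LK LD1_c25 LD2_c3 LD3_c50)) :=
  Lre_d IH (LK LD1_c31 LD2_c45 LD3_c14) (LK LD1_c25 LD2_c3 LD3_c50) Lrfl Lrfl
theorem f260013 : Led Lsl_dt (LP (LK LD1_c28 LD2_c3 LD3_c34)) = (LP (LK LD1_c32 LD2_c31 LD3_c22)) :=
  Lre_d IH (LK LD1_c28 LD2_c3 LD3_c34) (LK LD1_c32 LD2_c31 LD3_c22) Lrfl Lrfl
theorem f927579 : Led Lsl_ff (LP (LK LD1_c31 LD2_c45 LD3_c14)) = (LP (LK LD1_c32 LD2_c31 LD3_c22)) :=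
  Lgr Lrot19 (Lpr_dt (f405767 IH) (Lpr_ft (f927577 IH) (Lpr_dt (f260013 IH) (Lpn (LP (LK LD1_c32 LD2_c31 LD3_c22))))))
theorem f927581 : Led Lsl_ft (LP (LK LD1_c31 LD2_c45 LD3_c14)) = (LP (LK LD1_c32 LD2_c31 LD3_c22)) :=
  Lgr Lrot48 (Lpr_ff (f927579 IH) (Lpn (LP (LK LD1_c32 LD2_c31 LD3_c22))))
theorem f927585 : Led Lsl_gf (LP (LK LD1_c31 LD2_c45 LD3_c15)) = (LP (LK LD1_c32 LD2_c29 LD3_c15)) :=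
  Lgr Lrot76 (Lpr_af (f927583 IH) (Lpe (f927581 IH) (Lpr_gt (K67.f405768 IH) (Lpn (LP (LK LD1_c32 LD2_c29 LD3_c15))))))
theorem f939552 : Led Lsl_gt (LP (LK LD1_c31 LD2_c45 LD3_c15)) = (LP (LK LD1_c32 LD2_c29 LD3_c61)) :=
  Lgr Lrot46 (Lpr_gf (f927585 IH) (Lpe (f939532 IH) (Lpr_at (f939546 IH) (Lpn (LP (LK LD1_c32 LD2_c29 LD3_c61))))))
theorem f45956 : Led Lsl_dt (LP (LK LD1_c4 LD2_c2 LD3_c39)) = (LP (LK LD1_c8 LD2_c5 LD3_c57)) :=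
  Lre_d IH (LK LD1_c4 LD2_c2 LD3_c39) (LK LD1_c8 LD2_c5 LD3_c57) Lrfl Lrfl
theorem f46664 : Led Lsl_gt (LP (LK LD1_c8 LD2_c5 LD3_c57)) = (LP (LK LD1_c15 LD2_c14 LD3_c54)) :=
  Lre_g IH (LK LD1_c8 LD2_c5 LD3_c57) (LK LD1_c15 LD2_c14 LD3_c54) Lrfl Lrfl
theorem f939554 : Led Lsl_dt (LP (LK LD1_c15 LD2_c14 LD3_c54)) = (LP (LK LD1_c18 LD2_c26 LD3_c52)) :=
  Lgr Lrot105 (Lpe (f46664 IH) (Lpe (f45956 IH) (Lpe (K14.f45937 IH) (Lpe (K14.f45941 IH) (Lpe (K53.f405784 IH) (Lpr_dt (f233529 IH) (Lpr_gt (f939552 IH) (Lpr_dt (f240108 IH) (Lpe (K44.f240093 IH) (Lpn (LP (LK LD1_c18 LD2_c26 LD3_c52))))))))))))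
theorem f939558 : Led Lsl_df (LP (LK LD1_c15 LD2_c14 LD3_c54)) = (LP (LK LD1_c18 LD2_c26 LD3_c52)) :=
  Lgr Lrot38 (Lpr_dt (f939554 IH) (Lpn (LP (LK LD1_c18 LD2_c26 LD3_c52))))
theorem f878648 : Led Lsl_gt (LP (LK LD1_c15 LD2_c14 LD3_c54)) = K67.v35825 :=
  Lgr Lrot46 (Lpe (f46664 IH) (Lpe (K67.f46667 IH) (Lpr_at (K67.f878643 IH) (Lpn K67.v35825))))
theorem f45931 : Led Lsl_dt (LP (LK LD1_c8 LD2_c5 LD3_c57)) = (LP (LK LD1_c4 LD2_c2 LD3_c39)) :=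
  Lre_d IH (LK LD1_c8 LD2_c5 LD3_c57) (LK LD1_c4 LD2_c2 LD3_c39) Lrfl Lrfl
theorem f444519 : Led Lsl_df (LP (LK LD1_c8 LD2_c10 LD3_c40)) = (LP (LK LD1_c8 LD2_c5 LD3_c58)) :=
  Lgr Lrot78 (Lpr_ft (K72.f444517 IH) (Lpr_dt (f45931 IH) (Lpr_ft (K44.f45958 IH) (Lpn (LP (LK LD1_c8 LD2_c5 LD3_c58))))))
theorem f233530 : Led Lsl_at (LP (LK LD1_c15 LD2_c14 LD3_c44)) = (LP (LK LD1_c8 LD2_c5 LD3_c58)) :=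
  Lre_a IH (LK LD1_c15 LD2_c14 LD3_c44) (LK LD1_c8 LD2_c5 LD3_c58) Lrfl Lrfl
theorem f878646 : Led Lsl_df (LP (LK LD1_c15 LD2_c14 LD3_c44)) = K67.v35825 :=
  Lgr Lrot18 (Lpr_at (f233530 IH) (Lpe (f444519 IH) (Lpr_at (K67.f878643 IH) (Lpn K67.v35825))))
theorem f43997 : Led Lsl_gt (LP (LK LD1_c10 LD2_c33 LD3_c6)) = (LP (LK LD1_c19 LD2_c6 LD3_c39)) :=
  Lre_g IH (LK LD1_c10 LD2_c33 LD3_c6) (LK LD1_c19 LD2_c6 LD3_c39) Lrfl Lrfl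
theorem f259803 : Led Lsl_at (LP (LK LD1_c18 LD2_c31 LD3_c27)) = (LP (LK LD1_c28 LD2_c5 LD3_c45)) :=
  Lre_a IH (LK LD1_c18 LD2_c31 LD3_c27) (LK LD1_c28 LD2_c5 LD3_c45) Lrfl Lrfl
theorem f259885 : Led Lsl_gt (LP (LK LD1_c19 LD2_c6 LD3_c39)) = (LP (LK LD1_c28 LD2_c5 LD3_c45)) :=
  Lgr Lrot46 (Lpe (f43997 IH) (Lpr_ft (K44.f259874 IH) (Lpr_at (f259803 IH) (Lpn (LP (LK LD1_c28 LD2_c5 LD3_c45))))))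
theorem f288511 : Led Lsl_gt (LP (LK LD1_c9 LD2_c56 LD3_c37)) = (LP (LK LD1_c18 LD2_c11 LD3_c47)) :=
  Lre_g IH (LK LD1_c9 LD2_c56 LD3_c37) (LK LD1_c18 LD2_c11 LD3_c47) Lrfl Lrfl
theorem f939653 : Led Lsl_df (LP (LK LD1_c19 LD2_c6 LD3_c39)) = (LP (LK LD1_c18 LD2_c11 LD3_c47)) :=
  Lgr Lrot153 (Lpr_gt (f259885 IH) (Lpe (K44.f259901 IH) (Lpr_cf (K14.f233510 IH) (Lpr_df (f878646 IH) (Lpe (f878648 IH) (Lpr_df (f939558 IH) (Lpe (K44.f240084 IH) (Lpr_cf (K44.f306272 IH) (Lpr_gt (f288511 IH) (Lpn (LP (LK LD1_c18 LD2_c11 LD3_c47))))))))))))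
theorem f939654 : Led Lsl_dt (LP (LK LD1_c18 LD2_c11 LD3_c47)) = (LP (LK LD1_c19 LD2_c6 LD3_c39)) :=
  Leop (Lpr_df (f939653 IH) (Lpn (LP (LK LD1_c18 LD2_c11 LD3_c47))))
theorem seed_2654 : LEOK LG_d (LK LD1_c18 LD2_c11 LD3_c47) :=
  Leoe_d (LK LD1_c18 LD2_c11 LD3_c47) (f939654 IH)
theorem f421647 : Led Lsl_at (LP (LK LD1_c10 LD2_c14 LD3_c4)) = (LP (LK LD1_c18 LD2_c37 LD3_c44)) :=
  Lre_a IH (LK LD1_c10 LD2_c14 LD3_c4) (LK LD1_c18 LD2_c37 LD3_c44) Lrfl Lrfl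
theorem f939071 : v43395 = (LP (LK LD1_c18 LD2_c37 LD3_c44)) :=
  Lefun (Lecon (f939007 IH) (f939055 IH).symm) (f421647 IH)
def v41818 : LQ := Led Lsl_dt (LP (LK LD1_c10 LD2_c2 LD3_c27))
theorem f929637 : Led Lsl_dt (LP (LK LD1_c10 LD2_c2 LD3_c27)) = v41818 :=
  Lrfl
theorem f929639 : Led Lsl_df (LP (LK LD1_c10 LD2_c2 LD3_c27)) = v41818 :=
  Lgr Lrot38 (Lpr_dt (f929637 IH) (Lpn v41818))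
theorem f929641 : Led Lsl_gt (LP (LK LD1_c10 LD2_c13 LD3_c34)) = v41818 :=
  Lgr Lrot49 (Lpe (f181070 IH) (Lpe (K72.f181049 IH) (Lpr_cf (K72.f583288 IH) (Lpr_gt (K44.f412809 IH) (Lpr_dt (K72.f186650 IH) (Lpr_gt (K72.f186651 IH) (Lpr_dt (K72.f929623 IH) (Lpe (K72.f929620 IH) (Lpr_df (f929639 IH) (Lpn v41818))))))))))
theorem f934628 : Led Lsl_df (LP (LK LD1_c18 LD2_c41 LD3_c45)) = v42555 :=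
  Lgr Lrot38 (Lpr_dt (f934626 IH) (Lpn v42555))
theorem f250037 : Led Lsl_ct (LP (LK LD1_c18 LD2_c10 LD3_c39)) = (LP (LK LD1_c9 LD2_c55 LD3_c59)) :=
  Lre_c IH (LK LD1_c18 LD2_c10 LD3_c39) (LK LD1_c9 LD2_c55 LD3_c59) Lrfl Lrfl
theorem f934633 : Led Lsl_gf (LP (LK LD1_c18 LD2_c10 LD3_c39)) = v42556 :=
  Lgr Lrot104 (Lpr_ct (f250037 IH) (Lpe (K72.f264239 IH) (Lpe (K44.f165781 IH) (Lpe (K44.f409179 IH) (Lpe (K45.f403040 IH) (Lpr_gf (K72.f929259 IH) (Lpr_df (f934628 IH) (Lpe (f934625 IH) (Lpr_ct (f934630 IH) (Lpn v42556))))))))))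
theorem f412888 : Led Lsl_dt (LP (LK LD1_c18 LD2_c10 LD3_c39)) = (LP (LK LD1_c27 LD2_c50 LD3_c52)) :=
  Lre_d IH (LK LD1_c18 LD2_c10 LD3_c39) (LK LD1_c27 LD2_c50 LD3_c52) Lrfl Lrfl
theorem f940201 : Led Lsl_gt (LP (LK LD1_c27 LD2_c50 LD3_c52)) = (LP (LK LD1_c18 LD2_c57 LD3_c43)) :=
  Lgr Lrot49 (Lpe (f412888 IH) (Lpr_gf (f934633 IH) (Lpe (f934630 IH) (Lpr_gt (f929641 IH) (Lpe (f929639 IH) (Lpr_gt (f928855 IH) (Lpr_dt (f939001 IH) (Lpqs (f939071 IH) (Lpq (f939071 IH) (Lpe (f938998 IH) (Lpe (f442776 IH) (Lpn (LP (LK LD1_c18 LD2_c57 LD3_c43))))))))))))))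
theorem f940202 : Led Lsl_gt (LP (LK LD1_c27 LD2_c50 LD3_c52)) = (LP (LK LD1_c18 LD2_c57 LD3_c43)) :=
  Leop (Lpe (f940201 IH) (Lpn (LP (LK LD1_c27 LD2_c50 LD3_c52))))
theorem seed_2655 : LEOK LG_g (LK LD1_c27 LD2_c50 LD3_c52) :=
  Leoe_g (LK LD1_c27 LD2_c50 LD3_c52) (f940202 IH)
def v42607 : LQ := Led Lsl_ct (LP (LK LD1_c10 LD2_c14 LD3_c7))
theorem f934898 : Led Lsl_ct (LP (LK LD1_c10 LD2_c14 LD3_c7)) = v42607 :=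
  Lrfl
theorem f934899 : Led Lsl_cf (LP (LK LD1_c10 LD2_c14 LD3_c7)) = v42607 :=
  Lgr Lrot11 (Lpr_ct (f934898 IH) (Lpn v42607))
theorem f164606 : Led Lsl_ct (LP (LK LD1_c10 LD2_c7 LD3_c4)) = (LP (LK LD1_c18 LD2_c26 LD3_c15)) :=
  Lre_c IH (LK LD1_c10 LD2_c7 LD3_c4) (LK LD1_c18 LD2_c26 LD3_c15) Lrfl Lrfl
theorem f940261 : Led Lsl_ff v42607 = (LP (LK LD1_c18 LD2_c26 LD3_c15)) :=
  Lgr Lrot23 (Lpe (f934899 IH) (Lpq (f939019 IH) (Lpe (f932824 IH) (Lpr_ct (f164606 IH) (Lpn (LP (LK LD1_c18 LD2_c26 LD3_c15)))))))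
theorem f242544 : Led Lsl_dt (LP (LK LD1_c10 LD2_c8 LD3_c54)) = (LP (LK LD1_c8 LD2_c3 LD3_c59)) :=
  Lgr Lrot6 (Lpr_gt (K13.f240055 IH) (Lpe (K13.f196164 IH) (Lpr_gt (K13.f201444 IH) (Lpr_ct (K13.f242532 IH) (Lpe (K17.f33192 IH) (Lpe (K13.f240134 IH) (Lpe (K13.f193633 IH) (Lpe (K12.f229098 IH) (Lpr_gf (K12.f229136 IH) (Lpn (LP (LK LD1_c8 LD2_c3 LD3_c59))))))))))))
theorem f242795 : Led Lsl_ct (LP (LK LD1_c5 LD2_c9 LD3_c10)) = (LP (LK LD1_c4 LD2_c1 LD3_c26)) :=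
  Lgr Lrot8 (Lpr_gt (K13.f21746 IH) (Lpr_dt (f242544 IH) (Lpe (K12.f229136 IH) (Lpr_dt (K12.f229122 IH) (Lpe (K13.f242058 IH) (Lpe (K12.f193464 IH) (Lpr_gf (K13.f242783 IH) (Lpr_df (K13.f242791 IH) (Lpe (K13.f242083 IH) (Lpn (LP (LK LD1_c4 LD2_c1 LD3_c26))))))))))))
theorem f614308 : Led Lsl_bt (LP (LK LD1_c6 LD2_c8 LD3_c2)) = (LP (LK LD1_c11 LD2_c58 LD3_c7)) :=
  Lre_b IH (LK LD1_c6 LD2_c8 LD3_c2) (LK LD1_c11 LD2_c58 LD3_c7) Lrfl Lrfl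
theorem f614313 : Led Lsl_gt (LP (LK LD1_c11 LD2_c58 LD3_c7)) = (LP (LK LD1_c21 LD2_c3 LD3_c9)) :=
  Lre_g IH (LK LD1_c11 LD2_c58 LD3_c7) (LK LD1_c21 LD2_c3 LD3_c9) Lrfl Lrfl
theorem f934901 : Led Lsl_dt (LP (LK LD1_c21 LD2_c3 LD3_c9)) = v42607 :=
  Lgr Lrot182 (Lpe (f614313 IH) (Lpe (f614308 IH) (Lpr_cf (K56.f614306 IH) (Lpe (K32.f308063 IH) (Lpe (K32.f387153 IH) (Lpr_bf (K39.f387145 IH) (Lpe (K32.f308493 IH) (Lpe (K32.f308494 IH) (Lpr_gf (K39.f551891 IH) (Lpe (K39.f242830 IH) (Lpe (f242795 IH) (Lpe (K13.f21745 IH) (Lpe (K13.f21744 IH) (Lpe (K71.f21835 IH) (Lpe (K44.f21880 IH) (Lpe (K0.f21453 IH) (Lpe (K72.f21494 IH) (Lpe (f163748 IH) (Lpr_cf (f934899 IH) (Lpn v42607))))))))))))))))))))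
theorem f934902 : Led Lsl_df (LP (LK LD1_c21 LD2_c3 LD3_c9)) = v42607 :=
  Lgr Lrot38 (Lpr_dt (f934901 IH) (Lpn v42607))
theorem f427593 : Led Lsl_bt (LP (LK LD1_c9 LD2_c47 LD3_c23)) = (LP (LK LD1_c17 LD2_c57 LD3_c44)) :=
  Lre_b IH (LK LD1_c9 LD2_c47 LD3_c23) (LK LD1_c17 LD2_c57 LD3_c44) Lrfl Lrfl
theorem f427659 : Led Lsl_gt (LP (LK LD1_c17 LD2_c57 LD3_c44)) = (LP (LK LD1_c27 LD2_c42 LD3_c13)) :=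
  Lre_g IH (LK LD1_c17 LD2_c57 LD3_c44) (LK LD1_c27 LD2_c42 LD3_c13) Lrfl Lrfl
theorem f165234 : Led Lsl_ct (LP (LK LD1_c18 LD2_c26 LD3_c15)) = (LP (LK LD1_c10 LD2_c7 LD3_c4)) :=
  Lre_c IH (LK LD1_c18 LD2_c26 LD3_c15) (LK LD1_c10 LD2_c7 LD3_c4) Lrfl Lrfl
theorem f621455 : Led Lsl_dt (LP (LK LD1_c27 LD2_c42 LD3_c13)) = (LP (LK LD1_c18 LD2_c26 LD3_c15)) :=
  Lgr Lrot182 (Lpe (f427659 IH) (Lpe (f427593 IH) (Lpe (K72.f161207 IH) (Lpe (K32.f139361 IH) (Lpe (K70.f427799 IH) (Lpr_bf (K36.f301861 IH) (Lpe (K32.f308074 IH) (Lpe (K32.f308419 IH) (Lpr_gf (K39.f544504 IH) (Lpe (K37.f193605 IH) (Lpr_cf (K13.f242066 IH) (Lpe (K13.f229088 IH) (Lpr_gf (K13.f229086 IH) (Lpe (K2.f33806 IH) (Lpe (K53.f34332 IH) (Lpe (K53.f164114 IH) (Lpe (K53.f164455 IH) (Lpe (f164605 IH) (Lpe (f165234 IH)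 (Lpn (LP (LK LD1_c18 LD2_c26 LD3_c15))))))))))))))))))))))
theorem f940262 : Led Lsl_ft (LP (LK LD1_c21 LD2_c3 LD3_c9)) = (LP (LK LD1_c27 LD2_c42 LD3_c13)) :=
  Lgr Lrot54 (Lpr_df (f934902 IH) (Lpr_ff (f940261 IH) (Lpe (f621455 IH) (Lpn (LP (LK LD1_c27 LD2_c42 LD3_c13))))))
theorem f940263 : Led Lsl_ft (LP (LK LD1_c21 LD2_c3 LD3_c9)) = (LP (LK LD1_c27 LD2_c42 LD3_c13)) :=
  Leop (Lpe (f940262 IH) (Lpn (LP (LK LD1_c21 LD2_c3 LD3_c9))))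
theorem seed_2656 : LEOK LG_f (LK LD1_c21 LD2_c3 LD3_c9) :=
  Leoe_f (LK LD1_c21 LD2_c3 LD3_c9) (f940263 IH)
def v43429 : LQ := Led Lsl_ct (LP (LK LD1_c10 LD2_c28 LD3_c10))
theorem f940430 : Led Lsl_ct (LP (LK LD1_c10 LD2_c28 LD3_c10)) = v43429 :=
  Lrfl
theorem f940418 : Led Lsl_bt (LP (LK LD1_c10 LD2_c28 LD3_c10)) = (LP (LK LD1_c18 LD2_c58 LD3_c28)) :=
  Lre_b IH (LK LD1_c10 LD2_c28 LD3_c10) (LK LD1_c18 LD2_c58 LD3_c28) Lrfl Lrfl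
theorem f43998 : Led Lsl_gt (LP (LK LD1_c10 LD2_c28 LD3_c10)) = (LP (LK LD1_c5 LD2_c19 LD3_c12)) :=
  Lre_g IH (LK LD1_c10 LD2_c28 LD3_c10) (LK LD1_c5 LD2_c19 LD3_c12) Lrfl Lrfl
theorem f582918 : Led Lsl_gf (LP (LK LD1_c10 LD2_c28 LD3_c10)) = (LP (LK LD1_c10 LD2_c30 LD3_c21)) :=
  Lgr Lrot47 (Lpr_gt (f43998 IH) (Lpe (K44.f44006 IH) (Lpr_ff (K44.f582912 IH) (Lpn (LP (LK LD1_c10 LD2_c30 LD3_c21))))))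
theorem f249632 : Led Lsl_bt (LP (LK LD1_c9 LD2_c53 LD3_c59)) = (LP (LK LD1_c18 LD2_c6 LD3_c46)) :=
  Lre_b IH (LK LD1_c9 LD2_c53 LD3_c59) (LK LD1_c18 LD2_c6 LD3_c46) Lrfl Lrfl
theorem f249628 : Led Lsl_bt (LP (LK LD1_c18 LD2_c14 LD3_c18)) = (LP (LK LD1_c18 LD2_c6 LD3_c47)) :=
  Lgr Lrot127 (Lpr_bf (K44.f249626 IH) (Lpn (LP (LK LD1_c18 LD2_c6 LD3_c47))))
theorem f724722 : Led Lsl_bt (LP (LK LD1_c27 LD2_c34 LD3_c47)) = (LP (LK LD1_c27 LD2_c32 LD3_c50)) :=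
  Lgr Lrot128 (Lpr_cf (K53.f724720 IH) (Lpe (f249632 IH) (Lpe (K44.f190499 IH) (Lpe (f249628 IH) (Lpe (K53.f584281 IH) (Lpn (LP (LK LD1_c27 LD2_c32 LD3_c50))))))))
theorem f940432 : Led Lsl_gf (LP (LK LD1_c18 LD2_c6 LD3_c46)) = v43429 :=
  Lgr Lrot129 (Lpe (K53.f724724 IH) (Lpr_bt (f724722 IH) (Lpr_gt (K44.f584273 IH) (Lpe (K38.f248182 IH) (Lpr_ct (K44.f582694 IH) (Lpe (K44.f582691 IH) (Lpe (K14.f28258 IH) (Lpr_bt (K44.f47366 IH) (Lpe (f582918 IH) (Lpr_ct (f940430 IH) (Lpn v43429)))))))))))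
theorem f584277 : Led Lsl_gf (LP (LK LD1_c27 LD2_c32 LD3_c19)) = (LP (LK LD1_c27 LD2_c33 LD3_c21)) :=
  Lgr Lrot104 (Lpr_ct (K53.f249085 IH) (Lpe (K44.f584168 IH) (Lpe (K37.f544739 IH) (Lpe (K37.f230024 IH) (Lpe (K37.f229998 IH) (Lpe (K37.f229956 IH) (Lpe (K44.f230029 IH) (Lpr_gt (K44.f584273 IH) (Lpr_ct (K38.f43583 IH) (Lpn (LP (LK LD1_c27 LD2_c33 LD3_c21))))))))))))
theorem f294590 : Led Lsl_bt (LP (LK LD1_c17 LD2_c45 LD3_c61)) = (LP (LK LD1_c25 LD2_c0 LD3_c57)) :=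
  Lgr Lrot127 (Lpr_bf (K37.f294587 IH) (Lpn (LP (LK LD1_c25 LD2_c0 LD3_c57))))
theorem f940433 : Led Lsl_gf (LP (LK LD1_c18 LD2_c58 LD3_c28)) = (LP (LK LD1_c25 LD2_c0 LD3_c57)) :=
  Lgr Lrot124 (Lpe (f940418 IH) (Lpr_ct (f940430 IH) (Lpe (f940432 IH) (Lpe (K53.f724724 IH) (Lpr_bt (f724722 IH) (Lpr_gt (K44.f584273 IH) (Lpr_ct (K38.f43583 IH) (Lpe (f584277 IH) (Lpe (K44.f294592 IH) (Lpr_bt (f294590 IH) (Lpn (LP (LK LD1_c25 LD2_c0 LD3_c57)))))))))))))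
theorem f940434 : Led Lsl_gt (LP (LK LD1_c25 LD2_c0 LD3_c57)) = (LP (LK LD1_c18 LD2_c58 LD3_c28)) :=
  Leop (Lpr_gf (f940433 IH) (Lpn (LP (LK LD1_c25 LD2_c0 LD3_c57))))
theorem seed_2657 : LEOK LG_g (LK LD1_c25 LD2_c0 LD3_c57) :=
  Leoe_g (LK LD1_c25 LD2_c0 LD3_c57) (f940434 IH)
theorem f940431 : Led Lsl_cf (LP (LK LD1_c10 LD2_c28 LD3_c10)) = v43429 :=
  Lgr Lrot11 (Lpr_ct (f940430 IH) (Lpn v43429))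
theorem f45910 : Led Lsl_ct (LP (LK LD1_c8 LD2_c5 LD3_c44)) = (LP (LK LD1_c5 LD2_c19 LD3_c12)) :=
  Lgr Lrot59 (Lpr_cf (K10.f45860 IH) (Lpn (LP (LK LD1_c5 LD2_c19 LD3_c12))))
theorem f3613 : Led Lsl_bt (LP (LK LD1_c5 LD2_c0 LD3_c55)) = (LP (LK LD1_c9 LD2_c52 LD3_c12)) :=
  Lre_b IH (LK LD1_c5 LD2_c0 LD3_c55) (LK LD1_c9 LD2_c52 LD3_c12) Lrfl Lrfl
def v41107 : LQ := Led Lsl_gf (LP (LK LD1_c9 LD2_c52 LD3_c10))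
theorem f922106 : Led Lsl_gf (LP (LK LD1_c9 LD2_c52 LD3_c10)) = v41107 :=
  Lrfl
theorem f3618 : Led Lsl_at (LP (LK LD1_c5 LD2_c0 LD3_c53)) = (LP (LK LD1_c9 LD2_c52 LD3_c10)) :=
  Lre_a IH (LK LD1_c5 LD2_c0 LD3_c53) (LK LD1_c9 LD2_c52 LD3_c10) Lrfl Lrfl
theorem f922107 : Led Lsl_gt (LP (LK LD1_c9 LD2_c52 LD3_c12)) = v41107 :=
  Lgr Lrot5 (Lpr_ft (K10.f3601 IH) (Lpr_at (f3618 IH) (Lpr_gf (f922106 IH) (Lpn v41107))))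
theorem f940438 : Led Lsl_bf v41107 = v43429 :=
  Lgr Lrot34 (Lpe (f922107 IH) (Lpe (f3613 IH) (Lpr_ct (K10.f3424 IH) (Lpe (K14.f3585 IH) (Lpe (K14.f3586 IH) (Lpr_gf (K13.f184544 IH) (Lpe (K10.f45859 IH) (Lpr_ct (f45910 IH) (Lpe (f43998 IH) (Lpr_cf (f940431 IH) (Lpn v43429)))))))))))
theorem f3628 : Led Lsl_dt (LP (LK LD1_c9 LD2_c52 LD3_c10)) = (LP (LK LD1_c18 LD2_c4 LD3_c3)) :=
  Lre_d IH (LK LD1_c9 LD2_c52 LD3_c10) (LK LD1_c18 LD2_c4 LD3_c3) Lrfl Lrfl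
theorem f338877 : Led Lsl_at (LP (LK LD1_c8 LD2_c14 LD3_c14)) = (LP (LK LD1_c8 LD2_c7 LD3_c9)) :=
  Lgr Lrot100 (Lpr_af (K25.f338875 IH) (Lpn (LP (LK LD1_c8 LD2_c7 LD3_c9))))
theorem f265670 : Led Lsl_bt (LP (LK LD1_c8 LD2_c7 LD3_c9)) = (LP (LK LD1_c15 LD2_c17 LD3_c24)) :=
  Lre_b IH (LK LD1_c8 LD2_c7 LD3_c9) (LK LD1_c15 LD2_c17 LD3_c24) Lrfl Lrfl
theorem f3619 : Led Lsl_bt (LP (LK LD1_c18 LD2_c8 LD3_c0)) = (LP (LK LD1_c9 LD2_c54 LD3_c29)) :=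
  Lre_b IH (LK LD1_c18 LD2_c8 LD3_c0) (LK LD1_c9 LD2_c54 LD3_c29) Lrfl Lrfl
theorem f585071 : Led Lsl_at (LP (LK LD1_c15 LD2_c17 LD3_c24)) = (LP (LK LD1_c18 LD2_c8 LD3_c0)) :=
  Lgr Lrot67 (Lpe (f265670 IH) (Lpe (f338877 IH) (Lpe (K45.f233753 IH) (Lpr_af (K71.f585069 IH) (Lpe (f3619 IH) (Lpn (LP (LK LD1_c18 LD2_c8 LD3_c0))))))))
theorem f189267 : Led Lsl_bt (LP (LK LD1_c15 LD2_c52 LD3_c35)) = (LP (LK LD1_c8 LD2_c27 LD3_c18)) :=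
  Lre_b IH (LK LD1_c15 LD2_c52 LD3_c35) (LK LD1_c8 LD2_c27 LD3_c18) Lrfl Lrfl
theorem f401694 : Led Lsl_ft (LP (LK LD1_c15 LD2_c17 LD3_c24)) = (LP (LK LD1_c15 LD2_c52 LD3_c35)) :=
  Lgr Lrot75 (Lpe (f265670 IH) (Lpr_ff (K25.f327122 IH) (Lpe (f189267 IH) (Lpn (LP (LK LD1_c15 LD2_c52 LD3_c35))))))
theorem f401698 : Led Lsl_ff (LP (LK LD1_c15 LD2_c17 LD3_c24)) = (LP (LK LD1_c15 LD2_c52 LD3_c35)) :=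
  Lgr Lrot3 (Lpr_ft (f401694 IH) (Lpn (LP (LK LD1_c15 LD2_c52 LD3_c35))))
theorem f189954 : Led Lsl_dt (LP (LK LD1_c15 LD2_c52 LD3_c35)) = (LP (LK LD1_c8 LD2_c27 LD3_c17)) :=
  Lre_d IH (LK LD1_c15 LD2_c52 LD3_c35) (LK LD1_c8 LD2_c27 LD3_c17) Lrfl Lrfl
theorem f3432 : Led Lsl_ct (LP (LK LD1_c9 LD2_c54 LD3_c37)) = (LP (LK LD1_c18 LD2_c8 LD3_c0)) :=
  Lre_c IH (LK LD1_c9 LD2_c54 LD3_c37) (LK LD1_c18 LD2_c8 LD3_c0) Lrfl Lrfl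
theorem f34144 : Led Lsl_dt (LP (LK LD1_c4 LD2_c1 LD3_c54)) = (LP (LK LD1_c8 LD2_c4 LD3_c30)) :=
  Lre_d IH (LK LD1_c4 LD2_c1 LD3_c54) (LK LD1_c8 LD2_c4 LD3_c30) Lrfl Lrfl
theorem f34145 : Led Lsl_ft (LP (LK LD1_c8 LD2_c4 LD3_c31)) = (LP (LK LD1_c4 LD2_c1 LD3_c54)) :=
  Lre_f IH (LK LD1_c8 LD2_c4 LD3_c31) (LK LD1_c4 LD2_c1 LD3_c54) Lrfl Lrfl
theorem f34146 : Led Lsl_df (LP (LK LD1_c8 LD2_c4 LD3_c31)) = (LP (LK LD1_c8 LD2_c3 LD3_c50)) :=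
  Lgr Lrot78 (Lpr_ft (f34145 IH) (Lpr_dt (f34144 IH) (Lpr_ft (K2.f34101 IH) (Lpn (LP (LK LD1_c8 LD2_c3 LD3_c50))))))
theorem f34109 : Led Lsl_ct (LP (LK LD1_c15 LD2_c10 LD3_c32)) = (LP (LK LD1_c8 LD2_c3 LD3_c50)) :=
  Lre_c IH (LK LD1_c15 LD2_c10 LD3_c32) (LK LD1_c8 LD2_c3 LD3_c50) Lrfl Lrfl
theorem f585081 : Led Lsl_dt (LP (LK LD1_c8 LD2_c37 LD3_c43)) = (LP (LK LD1_c15 LD2_c10 LD3_c32)) :=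
  Lgr Lrot32 (Lpe (K67.f189949 IH) (Lpe (f189954 IH) (Lpe (f401698 IH) (Lpr_at (f585071 IH) (Lpe (f3432 IH) (Lpr_df (K71.f3596 IH) (Lpr_cf (K10.f165350 IH) (Lpr_df (f34146 IH) (Lpe (f34109 IH) (Lpn (LP (LK LD1_c15 LD2_c10 LD3_c32))))))))))))
theorem f585085 : Led Lsl_cf (LP (LK LD1_c15 LD2_c52 LD3_c35)) = (LP (LK LD1_c18 LD2_c4 LD3_c3)) :=
  Lgr Lrot118 (Lpr_dt (f189954 IH) (Lpr_ct (K67.f189949 IH) (Lpr_dt (f585081 IH) (Lpr_ct (f34109 IH) (Lpe (f34146 IH) (Lpe (K10.f165350 IH) (Lpe (K71.f3610 IH) (Lpe (K71.f3649 IH) (Lpr_dt (f3628 IH) (Lpn (LP (LK LD1_c18 LD2_c4 LD3_c3))))))))))))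
theorem f259076 : Led Lsl_gt (LP (LK LD1_c9 LD2_c55 LD3_c1)) = (LP (LK LD1_c18 LD2_c9 LD3_c12)) :=
  Lre_g IH (LK LD1_c9 LD2_c55 LD3_c1) (LK LD1_c18 LD2_c9 LD3_c12) Lrfl Lrfl
theorem f940440 : Led Lsl_dt (LP (LK LD1_c18 LD2_c9 LD3_c12)) = (LP (LK LD1_c10 LD2_c28 LD3_c10)) :=
  Lgr Lrot182 (Lpe (f259076 IH) (Lpe (K72.f259069 IH) (Lpe (K15.f259067 IH) (Lpe (K15.f192223 IH) (Lpr_gf (K15.f266275 IH) (Lpe (K16.f49030 IH) (Lpr_cf (K17.f266279 IH) (Lpr_df (K17.f282936 IH) (Lpe (K10.f50772 IH) (Lpe (K10.f50339 IH) (Lpe (K10.f50337 IH) (Lpe (K10.f50779 IH) (Lpr_gf (K15.f189265 IH) (Lpe (f189267 IH) (Lpr_cf (f585085 IH) (Lpe (f3628 IH) (Lpr_gf (f922106 IH) (Lpr_bf (f940438 IH) (Lpe (f940430 IH) (Lpn (LP (LK LD1_c10 LD2_c28 LD3_c10))))))))))))))))))))))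
theorem f940441 : Led Lsl_dt (LP (LK LD1_c18 LD2_c9 LD3_c12)) = (LP (LK LD1_c10 LD2_c28 LD3_c10)) :=
  Leop (Lpe (f940440 IH) (Lpn (LP (LK LD1_c18 LD2_c9 LD3_c12))))
theorem seed_2658 : LEOK LG_d (LK LD1_c18 LD2_c9 LD3_c12) :=
  Leoe_d (LK LD1_c18 LD2_c9 LD3_c12) (f940441 IH)
def v43511 : LQ := Led Lsl_gt (LP (LK LD1_c10 LD2_c29 LD3_c58))
theorem f940814 : Led Lsl_gt (LP (LK LD1_c10 LD2_c29 LD3_c58)) = v43511 :=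
  Lrfl
theorem f230343 : Led Lsl_bt (LP (LK LD1_c5 LD2_c20 LD3_c1)) = (LP (LK LD1_c10 LD2_c29 LD3_c58)) :=
  Lre_b IH (LK LD1_c5 LD2_c20 LD3_c1) (LK LD1_c10 LD2_c29 LD3_c58) Lrfl Lrfl
theorem f258057 : Led Lsl_gf (LP (LK LD1_c10 LD2_c14 LD3_c51)) = (LP (LK LD1_c5 LD2_c16 LD3_c27)) :=
  Lgr Lrot154 (Lpr_dt (K22.f249362 IH) (Lpr_ct (K15.f258044 IH) (Lpr_df (K14.f251617 IH) (Lpe (K12.f230412 IH) (Lpe (K12.f196334 IH) (Lpe (K12.f212310 IH) (Lpe (K9.f184081 IH) (Lpr_gt (K9.f166115 IH) (Lpr_dt (K12.f166057 IH) (Lpn (LP (LK LD1_c5 LD2_c16 LD3_c27))))))))))))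
theorem f927119 : Led Lsl_ct (LP (LK LD1_c18 LD2_c39 LD3_c19)) = (LP (LK LD1_c27 LD2_c55 LD3_c46)) :=
  Lgr Lrot59 (Lpr_cf (K72.f927117 IH) (Lpn (LP (LK LD1_c27 LD2_c55 LD3_c46))))
theorem f940817 : Led Lsl_bt (LP (LK LD1_c18 LD2_c39 LD3_c19)) = v43511 :=
  Lgr Lrot92 (Lpr_ct (f927119 IH) (Lpr_gt (K72.f166012 IH) (Lpe (K44.f166011 IH) (Lpe (K19.f165998 IH) (Lpe (f258057 IH) (Lpe (K44.f249478 IH) (Lpr_gt (K44.f266155 IH) (Lpr_cf (K15.f230333 IH) (Lpr_bt (f230343 IH) (Lpr_gt (f940814 IH) (Lpn v43511)))))))))))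
theorem f940820 : Led Lsl_ff (LP (LK LD1_c18 LD2_c59 LD3_c51)) = v43511 :=
  Lgr Lrot25 (Lpr_bt (K72.f930095 IH) (Lpe (f930092 IH) (Lpr_bt (f940817 IH) (Lpn v43511))))
theorem f940822 : Led Lsl_ft (LP (LK LD1_c18 LD2_c59 LD3_c51)) = v43511 :=
  Lgr Lrot48 (Lpr_ff (f940820 IH) (Lpn v43511))
theorem f585436 : Led Lsl_ct (LP (LK LD1_c16 LD2_c34 LD3_c48)) = (LP (LK LD1_c18 LD2_c59 LD3_c51)) :=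
  Lgr Lrot59 (Lpr_cf (K53.f585433 IH) (Lpn (LP (LK LD1_c18 LD2_c59 LD3_c51))))
theorem f294760 : Led Lsl_dt (LP (LK LD1_c10 LD2_c29 LD3_c58)) = (LP (LK LD1_c5 LD2_c20 LD3_c0)) :=
  Lre_d IH (LK LD1_c10 LD2_c29 LD3_c58) (LK LD1_c5 LD2_c20 LD3_c0) Lrfl Lrfl
theorem f230523 : Led Lsl_dt (LP (LK LD1_c18 LD2_c58 LD3_c36)) = (LP (LK LD1_c10 LD2_c28 LD3_c16)) :=
  Lre_d IH (LK LD1_c18 LD2_c58 LD3_c36) (LK LD1_c10 LD2_c28 LD3_c16) Lrfl Lrfl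
theorem f183844 : Led Lsl_gt (LP (LK LD1_c8 LD2_c52 LD3_c29)) = (LP (LK LD1_c16 LD2_c35 LD3_c30)) :=
  Lre_g IH (LK LD1_c8 LD2_c52 LD3_c29) (LK LD1_c16 LD2_c35 LD3_c30) Lrfl Lrfl
theorem f299525 : Led Lsl_gf (LP (LK LD1_c16 LD2_c34 LD3_c49)) = (LP (LK LD1_c16 LD2_c35 LD3_c30)) :=
  Lgr Lrot76 (Lpe (K18.f230526 IH) (Lpr_ff (K18.f299518 IH) (Lpr_gt (f183844 IH) (Lpn (LP (LK LD1_c16 LD2_c35 LD3_c30))))))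
theorem f940816 : Led Lsl_cf (LP (LK LD1_c16 LD2_c35 LD3_c30)) = v43511 :=
  Lgr Lrot169 (Lpe (f299525 IH) (Lpr_ct (K45.f230521 IH) (Lpe (f230523 IH) (Lpr_cf (K53.f584386 IH) (Lpe (K53.f585467 IH) (Lpe (K53.f294777 IH) (Lpe (K53.f184859 IH) (Lpe (f294760 IH) (Lpr_gt (f940814 IH) (Lpn v43511))))))))))
theorem f940823 : Led Lsl_ff (LP (LK LD1_c16 LD2_c34 LD3_c48)) = (LP (LK LD1_c16 LD2_c35 LD3_c30)) :=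
  Lgr Lrot23 (Lpr_ct (f585436 IH) (Lpr_ft (f940822 IH) (Lpe (f940816 IH) (Lpn (LP (LK LD1_c16 LD2_c35 LD3_c30))))))
theorem f940824 : Led Lsl_ft (LP (LK LD1_c16 LD2_c35 LD3_c30)) = (LP (LK LD1_c16 LD2_c34 LD3_c48)) :=
  Leop (Lpr_ff (f940823 IH) (Lpn (LP (LK LD1_c16 LD2_c35 LD3_c30))))
theorem seed_2659 : LEOK LG_f (LK LD1_c16 LD2_c35 LD3_c30) :=
  Leoe_f (LK LD1_c16 LD2_c35 LD3_c30) (f940824 IH)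
def v43518 : LQ := Led Lsl_dt (LP (LK LD1_c10 LD2_c30 LD3_c2))
theorem f940863 : Led Lsl_dt (LP (LK LD1_c10 LD2_c30 LD3_c2)) = v43518 :=
  Lrfl
theorem f259042 : Led Lsl_dt (LP (LK LD1_c18 LD2_c59 LD3_c34)) = (LP (LK LD1_c10 LD2_c28 LD3_c46)) :=
  Lre_d IH (LK LD1_c18 LD2_c59 LD3_c34) (LK LD1_c10 LD2_c28 LD3_c46) Lrfl Lrfl
theorem f940867 : Led Lsl_ff (LP (LK LD1_c18 LD2_c59 LD3_c34)) = v43518 :=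
  Lgr Lrot19 (Lpr_dt (f259042 IH) (Lpr_ft (K37.f351151 IH) (Lpr_dt (f940863 IH) (Lpn v43518))))
theorem f940871 : Led Lsl_ft (LP (LK LD1_c18 LD2_c59 LD3_c34)) = v43518 :=
  Lgr Lrot48 (Lpr_ff (f940867 IH) (Lpn v43518))
theorem f282159 : Led Lsl_gt (LP (LK LD1_c18 LD2_c30 LD3_c49)) = (LP (LK LD1_c10 LD2_c9 LD3_c48)) :=
  Lre_g IH (LK LD1_c18 LD2_c30 LD3_c49) (LK LD1_c10 LD2_c9 LD3_c48) Lrfl Lrfl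
theorem f584766 : Led Lsl_bf (LP (LK LD1_c18 LD2_c30 LD3_c49)) = (LP (LK LD1_c27 LD2_c32 LD3_c55)) :=
  Lgr Lrot156 (Lpr_gt (f282159 IH) (Lpe (K25.f165574 IH) (Lpr_ct (K17.f165573 IH) (Lpr_gt (K20.f283970 IH) (Lpe (K44.f283829 IH) (Lpr_bt (f300032 IH) (Lpr_gt (K44.f300037 IH) (Lpr_ct (K44.f584758 IH) (Lpr_gt (K44.f230025 IH) (Lpe (K44.f230019 IH) (Lpn (LP (LK LD1_c27 LD2_c32 LD3_c55)))))))))))))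
theorem f584234 : Led Lsl_bt (LP (LK LD1_c18 LD2_c11 LD3_c29)) = (LP (LK LD1_c27 LD2_c34 LD3_c38)) :=
  Lgr Lrot127 (Lpr_bf (K72.f584232 IH) (Lpn (LP (LK LD1_c27 LD2_c34 LD3_c38))))
theorem f584775 : Led Lsl_ft (LP (LK LD1_c18 LD2_c30 LD3_c49)) = (LP (LK LD1_c18 LD2_c11 LD3_c29)) :=
  Lgr Lrot75 (Lpr_bf (f584766 IH) (Lpr_ff (K72.f407413 IH) (Lpe (f584234 IH) (Lpn (LP (LK LD1_c18 LD2_c11 LD3_c29))))))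
theorem f165575 : Led Lsl_gt (LP (LK LD1_c10 LD2_c9 LD3_c48)) = (LP (LK LD1_c18 LD2_c30 LD3_c48)) :=
  Lre_g IH (LK LD1_c10 LD2_c9 LD3_c48) (LK LD1_c18 LD2_c30 LD3_c48) Lrfl Lrfl
theorem f584781 : Led Lsl_af (LP (LK LD1_c18 LD2_c30 LD3_c48)) = (LP (LK LD1_c18 LD2_c11 LD3_c29)) :=
  Lgr Lrot31 (Lpe (f165575 IH) (Lpe (f282159 IH) (Lpr_ft (f584775 IH) (Lpn (LP (LK LD1_c18 LD2_c11 LD3_c29))))))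
theorem f402324 : Led Lsl_at (LP (LK LD1_c18 LD2_c59 LD3_c34)) = (LP (LK LD1_c10 LD2_c28 LD3_c47)) :=
  Lre_a IH (LK LD1_c18 LD2_c59 LD3_c34) (LK LD1_c10 LD2_c28 LD3_c47) Lrfl Lrfl
theorem f584785 : Led Lsl_ct (LP (LK LD1_c18 LD2_c30 LD3_c48)) = (LP (LK LD1_c18 LD2_c59 LD3_c34)) :=
  Lgr Lrot111 (Lpr_af (f584781 IH) (Lpr_cf (K72.f584261 IH) (Lpe (f402324 IH) (Lpn (LP (LK LD1_c18 LD2_c59 LD3_c34))))))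
theorem f584783 : Led Lsl_at (LP (LK LD1_c18 LD2_c30 LD3_c48)) = (LP (LK LD1_c18 LD2_c11 LD3_c29)) :=
  Lgr Lrot100 (Lpr_af (f584781 IH) (Lpn (LP (LK LD1_c18 LD2_c11 LD3_c29))))
theorem f169931 : Led Lsl_gt (LP (LK LD1_c18 LD2_c19 LD3_c30)) = (LP (LK LD1_c10 LD2_c1 LD3_c39)) :=
  Lre_g IH (LK LD1_c18 LD2_c19 LD3_c30) (LK LD1_c10 LD2_c1 LD3_c39) Lrfl Lrfl
theorem f294076 : Led Lsl_gt (LP (LK LD1_c18 LD2_c41 LD3_c8)) = (LP (LK LD1_c18 LD2_c19 LD3_c30)) :=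
  Lgr Lrot5 (Lpr_ft (K18.f294070 IH) (Lpr_at (K18.f169922 IH) (Lpe (f169931 IH) (Lpn (LP (LK LD1_c18 LD2_c19 LD3_c30))))))
theorem f169843 : Led Lsl_bt (LP (LK LD1_c10 LD2_c1 LD3_c39)) = (LP (LK LD1_c5 LD2_c5 LD3_c18)) :=
  Lre_b IH (LK LD1_c10 LD2_c1 LD3_c39) (LK LD1_c5 LD2_c5 LD3_c18) Lrfl Lrfl
theorem f169845 : Led Lsl_cf (LP (LK LD1_c10 LD2_c1 LD3_c39)) = (LP (LK LD1_c9 LD2_c56 LD3_c40)) :=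
  Lgr Lrot97 (Lpr_bt (f169843 IH) (Lpr_ct (K17.f169842 IH) (Lpr_bt (K18.f169841 IH) (Lpr_ct (K14.f169838 IH) (Lpr_bt (K19.f169844 IH) (Lpn (LP (LK LD1_c9 LD2_c56 LD3_c40))))))))
theorem f169927 : Led Lsl_bt (LP (LK LD1_c9 LD2_c56 LD3_c40)) = (LP (LK LD1_c5 LD2_c2 LD3_c56)) :=
  Lre_b IH (LK LD1_c9 LD2_c56 LD3_c40) (LK LD1_c5 LD2_c2 LD3_c56) Lrfl Lrfl
theorem f169964 : Led Lsl_gt (LP (LK LD1_c9 LD2_c56 LD3_c29)) = (LP (LK LD1_c18 LD2_c11 LD3_c28)) :=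
  Lre_g IH (LK LD1_c9 LD2_c56 LD3_c29) (LK LD1_c18 LD2_c11 LD3_c28) Lrfl Lrfl
theorem f169965 : Led Lsl_bt (LP (LK LD1_c27 LD2_c51 LD3_c57)) = (LP (LK LD1_c18 LD2_c11 LD3_c28)) :=
  Lre_b IH (LK LD1_c27 LD2_c51 LD3_c57) (LK LD1_c18 LD2_c11 LD3_c28) Lrfl Lrfl
theorem f169966 : Led Lsl_cf (LP (LK LD1_c18 LD2_c19 LD3_c30)) = (LP (LK LD1_c27 LD2_c51 LD3_c57)) :=
  Lgr Lrot160 (Lpr_gt (f169931 IH) (Lpr_cf (f169845 IH) (Lpr_bt (f169927 IH) (Lpr_gt (K14.f169837 IH) (Lpr_ct (K14.f169856 IH) (Lpr_gt (K12.f169961 IH) (Lpe (K16.f169962 IH) (Lpr_bt (K72.f169963 IH) (Lpr_gt (f169964 IH) (Lpe (f169965 IH) (Lpn (LP (LK LD1_c27 LD2_c51 LD3_c57)))))))))))))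
theorem f370897 : Led Lsl_gt (LP (LK LD1_c18 LD2_c11 LD3_c28)) = (LP (LK LD1_c18 LD2_c30 LD3_c50)) :=
  Lgr Lrot164 (Lpe (f169965 IH) (Lpe (f169966 IH) (Lpe (f294076 IH) (Lpe (K18.f165560 IH) (Lpr_gf (K44.f294093 IH) (Lpe (K44.f169956 IH) (Lpr_ct (K44.f215594 IH) (Lpr_gf (K44.f370892 IH) (Lpr_cf (K44.f278365 IH) (Lpe (K72.f370878 IH) (Lpn (LP (LK LD1_c18 LD2_c30 LD3_c50)))))))))))))
theorem f584789 : Led Lsl_ff (LP (LK LD1_c18 LD2_c30 LD3_c48)) = (LP (LK LD1_c18 LD2_c11 LD3_c28)) :=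
  Lgr Lrot52 (Lpr_at (f584783 IH) (Lpr_gf (K72.f370942 IH) (Lpe (f370897 IH) (Lpn (LP (LK LD1_c18 LD2_c11 LD3_c28))))))
theorem f940873 : Led Lsl_cf (LP (LK LD1_c18 LD2_c11 LD3_c28)) = v43518 :=
  Lgr Lrot108 (Lpe (f584789 IH) (Lpr_ct (f584785 IH) (Lpr_ft (f940871 IH) (Lpn v43518))))
theorem f351167 : Led Lsl_dt (LP (LK LD1_c18 LD2_c59 LD3_c33)) = (LP (LK LD1_c10 LD2_c28 LD3_c44)) :=
  Lre_d IH (LK LD1_c18 LD2_c59 LD3_c33) (LK LD1_c10 LD2_c28 LD3_c44) Lrfl Lrfl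
theorem f584033 : Led Lsl_cf (LP (LK LD1_c15 LD2_c0 LD3_c41)) = (LP (LK LD1_c19 LD2_c0 LD3_c3)) :=
  Lgr Lrot11 (Lpr_ct (K44.f584026 IH) (Lpn (LP (LK LD1_c19 LD2_c0 LD3_c3))))
theorem f214454 : Led Lsl_gf (LP (LK LD1_c18 LD2_c30 LD3_c31)) = (LP (LK LD1_c15 LD2_c0 LD3_c41)) :=
  Lgr Lrot76 (Lpe (K14.f214224 IH) (Lpr_ff (K13.f214444 IH) (Lpr_gt (K44.f31493 IH) (Lpn (LP (LK LD1_c15 LD2_c0 LD3_c41))))))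
theorem f214581 : Led Lsl_ct (LP (LK LD1_c18 LD2_c30 LD3_c31)) = (LP (LK LD1_c18 LD2_c49 LD3_c30)) :=
  Lgr Lrot40 (Lpr_ff (K44.f214437 IH) (Lpe (K44.f31485 IH) (Lpr_ff (K44.f214579 IH) (Lpn (LP (LK LD1_c18 LD2_c49 LD3_c30))))))
theorem f259033 : Led Lsl_dt (LP (LK LD1_c10 LD2_c28 LD3_c44)) = (LP (LK LD1_c18 LD2_c59 LD3_c33)) :=
  Lre_d IH (LK LD1_c10 LD2_c28 LD3_c44) (LK LD1_c18 LD2_c59 LD3_c33) Lrfl Lrfl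
theorem f584052 : Led Lsl_gt (LP (LK LD1_c18 LD2_c59 LD3_c33)) = (LP (LK LD1_c19 LD2_c0 LD3_c3)) :=
  Lgr Lrot9 (Lpe (f259033 IH) (Lpr_gt (K37.f351165 IH) (Lpr_ct (K37.f321810 IH) (Lpe (K37.f351161 IH) (Lpr_ct (f259060 IH) (Lpe (K44.f583582 IH) (Lpe (f214581 IH) (Lpr_gf (f214454 IH) (Lpr_cf (f584033 IH) (Lpn (LP (LK LD1_c19 LD2_c0 LD3_c3))))))))))))
theorem f215926 : Led Lsl_at (LP (LK LD1_c10 LD2_c28 LD3_c60)) = (LP (LK LD1_c19 LD2_c0 LD3_c3)) :=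
  Lre_a IH (LK LD1_c10 LD2_c28 LD3_c60) (LK LD1_c19 LD2_c0 LD3_c3) Lrfl Lrfl
theorem f584054 : Led Lsl_gf (LP (LK LD1_c18 LD2_c59 LD3_c33)) = (LP (LK LD1_c10 LD2_c29 LD3_c2)) :=
  Lgr Lrot47 (Lpr_gt (f584052 IH) (Lpe (f215926 IH) (Lpe (K44.f584011 IH) (Lpn (LP (LK LD1_c10 LD2_c29 LD3_c2))))))
theorem f31510 : Led Lsl_dt (LP (LK LD1_c7 LD2_c57 LD3_c33)) = (LP (LK LD1_c15 LD2_c0 LD3_c44)) :=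
  Lre_d IH (LK LD1_c7 LD2_c57 LD3_c33) (LK LD1_c15 LD2_c0 LD3_c44) Lrfl Lrfl
theorem f44382 : Led Lsl_gt (LP (LK LD1_c15 LD2_c0 LD3_c44)) = (LP (LK LD1_c24 LD2_c48 LD3_c13)) :=
  Lre_g IH (LK LD1_c15 LD2_c0 LD3_c44) (LK LD1_c24 LD2_c48 LD3_c13) Lrfl Lrfl
theorem f940874 : Led Lsl_df (LP (LK LD1_c18 LD2_c11 LD3_c28)) = (LP (LK LD1_c24 LD2_c48 LD3_c13)) :=
  Lgr Lrot84 (Lpr_cf (f940873 IH) (Lpe (f940863 IH) (Lpe (K37.f351165 IH) (Lpe (f351167 IH) (Lpr_gf (f584054 IH) (Lpe (K44.f583834 IH) (Lpr_gt (K44.f31494 IH) (Lpr_dt (f31510 IH) (Lpr_gt (f44382 IH) (Lpn (LP (LK LD1_c24 LD2_c48 LD3_c13))))))))))))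
theorem f940875 : Led Lsl_dt (LP (LK LD1_c24 LD2_c48 LD3_c13)) = (LP (LK LD1_c18 LD2_c11 LD3_c28)) :=
  Leop (Lpr_df (f940874 IH) (Lpn (LP (LK LD1_c24 LD2_c48 LD3_c13))))
theorem seed_2660 : LEOK LG_d (LK LD1_c24 LD2_c48 LD3_c13) :=
  Leoe_d (LK LD1_c24 LD2_c48 LD3_c13) (f940875 IH)
def v43523 : LQ := Led Lsl_gf (LP (LK LD1_c10 LD2_c30 LD3_c10))
theorem f940900 : Led Lsl_gf (LP (LK LD1_c10 LD2_c30 LD3_c10)) = v43523 :=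
  Lrfl
theorem f940901 : Led Lsl_gt (LP (LK LD1_c10 LD2_c30 LD3_c15)) = v43523 :=
  Lgr Lrot5 (Lpr_ft (K44.f586037 IH) (Lpe (K71.f586041 IH) (Lpr_gf (f940900 IH) (Lpn v43523))))
theorem f585990 : Led Lsl_bf (LP (LK LD1_c10 LD2_c30 LD3_c15)) = (LP (LK LD1_c9 LD2_c54 LD3_c21)) :=
  Lgr Lrot24 (Lpr_bt (K44.f585980 IH) (Lpn (LP (LK LD1_c9 LD2_c54 LD3_c21))))
theorem f922613 : Led Lsl_ff (LP (LK LD1_c9 LD2_c54 LD3_c18)) = K71.v41215 :=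
  Lgr Lrot3 (Lpr_ft (K71.f922609 IH) (Lpn K71.v41215))
theorem f922621 : Led Lsl_ct (LP (LK LD1_c9 LD2_c54 LD3_c21)) = K71.v41215 :=
  Lgr Lrot40 (Lpe (K71.f586043 IH) (Lpe (K44.f164042 IH) (Lpr_ff (f922613 IH) (Lpn K71.v41215))))
theorem f165441 : Led Lsl_bt (LP (LK LD1_c9 LD2_c54 LD3_c18)) = (LP (LK LD1_c18 LD2_c7 LD3_c36)) :=
  Lre_b IH (LK LD1_c9 LD2_c54 LD3_c18) (LK LD1_c18 LD2_c7 LD3_c36) Lrfl Lrfl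
theorem f922620 : Led Lsl_bt (LP (LK LD1_c10 LD2_c27 LD3_c12)) = K71.v41215 :=
  Lgr Lrot35 (Lpr_ff (K44.f585842 IH) (Lpe (f165441 IH) (Lpr_ff (f922613 IH) (Lpn K71.v41215))))
theorem f405638 : Led Lsl_bt (LP (LK LD1_c15 LD2_c14 LD3_c46)) = (LP (LK LD1_c18 LD2_c15 LD3_c5)) :=
  Lgr Lrot35 (Lpe (K53.f405551 IH) (Lpe (K44.f260017 IH) (Lpr_ff (K72.f405632 IH) (Lpn (LP (LK LD1_c18 LD2_c15 LD3_c5))))))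
theorem f405660 : Led Lsl_gf (LP (LK LD1_c9 LD2_c58 LD3_c40)) = (LP (LK LD1_c18 LD2_c15 LD3_c5)) :=
  Lgr Lrot181 (Lpr_ct (K10.f190618 IH) (Lpr_gt (K10.f165738 IH) (Lpe (K10.f165609 IH) (Lpr_bt (K10.f190619 IH) (Lpe (K10.f190620 IH) (Lpe (K14.f44009 IH) (Lpe (K10.f45929 IH) (Lpr_gt (K53.f45934 IH) (Lpe (K53.f45965 IH) (Lpr_bt (f405638 IH) (Lpn (LP (LK LD1_c18 LD2_c15 LD3_c5)))))))))))))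
theorem f343417 : Led Lsl_bt (LP (LK LD1_c5 LD2_c3 LD3_c52)) = (LP (LK LD1_c9 LD2_c58 LD3_c39)) :=
  Lre_b IH (LK LD1_c5 LD2_c3 LD3_c52) (LK LD1_c9 LD2_c58 LD3_c39) Lrfl Lrfl
theorem f922623 : Led Lsl_gt (LP (LK LD1_c9 LD2_c58 LD3_c39)) = K71.v41215 :=
  Lgr Lrot164 (Lpe (f343417 IH) (Lpr_ct (K72.f343013 IH) (Lpr_gf (f405660 IH) (Lpe (K53.f405619 IH) (Lpe (K53.f412529 IH) (Lpe (K53.f171634 IH) (Lpr_ct (K44.f166084 IH) (Lpr_gf (K44.f412521 IH) (Lpr_cf (K53.f586072 IH) (Lpr_bt (f922620 IH) (Lpn K71.v41215)))))))))))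
theorem f165740 : Led Lsl_ct (LP (LK LD1_c9 LD2_c59 LD3_c45)) = (LP (LK LD1_c9 LD2_c58 LD3_c39)) :=
  Lre_c IH (LK LD1_c9 LD2_c59 LD3_c45) (LK LD1_c9 LD2_c58 LD3_c39) Lrfl Lrfl
theorem f940902 : Led Lsl_bt (LP (LK LD1_c18 LD2_c3 LD3_c42)) = v43523 :=
  Lgr Lrot92 (Lpr_ct (K53.f395136 IH) (Lpe (K53.f395137 IH) (Lpe (K53.f252874 IH) (Lpr_bt (K53.f343015 IH) (Lpr_gt (K53.f164027 IH) (Lpr_ct (f165740 IH) (Lpr_gt (f922623 IH) (Lpe (f922621 IH) (Lpe (f585990 IH) (Lpr_gt (f940901 IH) (Lpn v43523)))))))))))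
theorem f612742 : Led Lsl_ff (LP (LK LD1_c18 LD2_c54 LD3_c22)) = (LP (LK LD1_c18 LD2_c5 LD3_c60)) :=
  Lgr Lrot23 (Lpr_ct (K15.f192033 IH) (Lpr_ft (f612738 IH) (Lpr_ct (f197049 IH) (Lpn (LP (LK LD1_c18 LD2_c5 LD3_c60))))))
theorem f938761 : Led Lsl_gf (LP (LK LD1_c18 LD2_c5 LD3_c57)) = v43338 :=
  Lgr Lrot76 (Lpe (f612707 IH) (Lpr_ff (f612742 IH) (Lpr_gt (f938760 IH) (Lpn v43338))))
theorem f165927 : Led Lsl_ct (LP (LK LD1_c9 LD2_c53 LD3_c25)) = (LP (LK LD1_c18 LD2_c5 LD3_c57)) :=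
  Lre_c IH (LK LD1_c9 LD2_c53 LD3_c25) (LK LD1_c18 LD2_c5 LD3_c57) Lrfl Lrfl
theorem f252873 : Led Lsl_ft (LP (LK LD1_c9 LD2_c59 LD3_c47)) = (LP (LK LD1_c18 LD2_c16 LD3_c33)) :=
  Lre_f IH (LK LD1_c9 LD2_c59 LD3_c47) (LK LD1_c18 LD2_c16 LD3_c33) Lrfl Lrfl
theorem f724410 : Led Lsl_gt (LP (LK LD1_c18 LD2_c5 LD3_c56)) = (LP (LK LD1_c25 LD2_c3 LD3_c43)) :=
  Lgr Lrot46 (Lpe (f252870 IH) (Lpr_ft (f252873 IH) (Lpr_at (K71.f724396 IH) (Lpn (LP (LK LD1_c25 LD2_c3 LD3_c43))))))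
theorem f940904 : Led Lsl_gf (LP (LK LD1_c27 LD2_c45 LD3_c16)) = (LP (LK LD1_c18 LD2_c48 LD3_c28)) :=
  Lgr Lrot129 (Lpe (K53.f395136 IH) (Lpr_bt (f940902 IH) (Lpe (f940900 IH) (Lpe (f604282 IH) (Lpr_ct (f938763 IH) (Lpe (f938761 IH) (Lpe (f165927 IH) (Lpr_bt (f252859 IH) (Lpr_gt (f724410 IH) (Lpe (K71.f724393 IH) (Lpn (LP (LK LD1_c18 LD2_c48 LD3_c28)))))))))))))
theorem f940905 : Led Lsl_gt (LP (LK LD1_c18 LD2_c48 LD3_c28)) = (LP (LK LD1_c27 LD2_c45 LD3_c16)) :=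
  Leop (Lpr_gf (f940904 IH) (Lpn (LP (LK LD1_c18 LD2_c48 LD3_c28))))
theorem seed_2661 : LEOK LG_g (LK LD1_c18 LD2_c48 LD3_c28) :=
  Leoe_g (LK LD1_c18 LD2_c48 LD3_c28) (f940905 IH)
def v43528 : LQ := Led Lsl_dt (LP (LK LD1_c10 LD2_c30 LD3_c18))
theorem f940923 : Led Lsl_dt (LP (LK LD1_c10 LD2_c30 LD3_c18)) = v43528 :=
  Lrfl
theorem f47179 : Led Lsl_dt (LP (LK LD1_c19 LD2_c0 LD3_c42)) = (LP (LK LD1_c10 LD2_c29 LD3_c22)) :=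
  Lre_d IH (LK LD1_c19 LD2_c0 LD3_c42) (LK LD1_c10 LD2_c29 LD3_c22) Lrfl Lrfl
theorem f940926 : Led Lsl_ff (LP (LK LD1_c19 LD2_c0 LD3_c42)) = v43528 :=
  Lgr Lrot19 (Lpr_dt (f47179 IH) (Lpr_ft (K44.f582900 IH) (Lpr_dt (f940923 IH) (Lpn v43528))))
theorem f444488 : Led Lsl_at (LP (LK LD1_c19 LD2_c0 LD3_c42)) = (LP (LK LD1_c10 LD2_c29 LD3_c23)) :=
  Lre_a IH (LK LD1_c19 LD2_c0 LD3_c42) (LK LD1_c10 LD2_c29 LD3_c23) Lrfl Lrfl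
def v41128 : LQ := Led Lsl_bt (LP (LK LD1_c9 LD2_c52 LD3_c50))
theorem f922208 : Led Lsl_bt (LP (LK LD1_c9 LD2_c52 LD3_c50)) = v41128 :=
  Lrfl
theorem f247802 : Led Lsl_ft (LP (LK LD1_c5 LD2_c19 LD3_c46)) = (LP (LK LD1_c9 LD2_c52 LD3_c50)) :=
  Lgr Lrot48 (Lpr_ff (K14.f247794 IH) (Lpn (LP (LK LD1_c9 LD2_c52 LD3_c50))))
theorem f186884 : Led Lsl_bt (LP (LK LD1_c10 LD2_c29 LD3_c23)) = (LP (LK LD1_c5 LD2_c19 LD3_c46)) :=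
  Lre_b IH (LK LD1_c10 LD2_c29 LD3_c23) (LK LD1_c5 LD2_c19 LD3_c46) Lrfl Lrfl
theorem f922211 : Led Lsl_ff (LP (LK LD1_c10 LD2_c29 LD3_c23)) = v41128 :=
  Lgr Lrot25 (Lpr_bt (f186884 IH) (Lpr_ft (f247802 IH) (Lpr_bt (f922208 IH) (Lpn v41128))))
theorem f922213 : Led Lsl_ft (LP (LK LD1_c10 LD2_c29 LD3_c23)) = v41128 :=
  Lgr Lrot48 (Lpr_ff (f922211 IH) (Lpn v41128))
theorem f940927 : Led Lsl_at v41128 = v43528 :=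
  Lgr Lrot66 (Lpe (f922213 IH) (Lpe (f444488 IH) (Lpr_ff (f940926 IH) (Lpn v43528))))
theorem f247798 : Led Lsl_gt (LP (LK LD1_c10 LD2_c29 LD3_c23)) = (LP (LK LD1_c19 LD2_c0 LD3_c43)) :=
  Lre_g IH (LK LD1_c10 LD2_c29 LD3_c23) (LK LD1_c19 LD2_c0 LD3_c43) Lrfl Lrfl
theorem f940930 : Led Lsl_gt (LP (LK LD1_c19 LD2_c0 LD3_c43)) = v43528 :=
  Lgr Lrot46 (Lpe (f247798 IH) (Lpr_ft (f922213 IH) (Lpr_at (f940927 IH) (Lpn v43528))))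
theorem f247799 : Led Lsl_bt (LP (LK LD1_c28 LD2_c27 LD3_c38)) = (LP (LK LD1_c19 LD2_c0 LD3_c43)) :=
  Lre_b IH (LK LD1_c28 LD2_c27 LD3_c38) (LK LD1_c19 LD2_c0 LD3_c43) Lrfl Lrfl
theorem f233765 : Led Lsl_gt (LP (LK LD1_c15 LD2_c52 LD3_c35)) = (LP (LK LD1_c25 LD2_c48 LD3_c32)) :=
  Lre_g IH (LK LD1_c15 LD2_c52 LD3_c35) (LK LD1_c25 LD2_c48 LD3_c32) Lrfl Lrfl
theorem f585079 : Led Lsl_gt (LP (LK LD1_c25 LD2_c48 LD3_c32)) = (LP (LK LD1_c18 LD2_c8 LD3_c0)) :=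
  Lgr Lrot46 (Lpe (f233765 IH) (Lpe (f401698 IH) (Lpr_at (f585071 IH) (Lpn (LP (LK LD1_c18 LD2_c8 LD3_c0))))))
theorem f3411 : Led Lsl_bt (LP (LK LD1_c9 LD2_c54 LD3_c37)) = (LP (LK LD1_c5 LD2_c1 LD3_c60)) :=
  Lre_b IH (LK LD1_c9 LD2_c54 LD3_c37) (LK LD1_c5 LD2_c1 LD3_c60) Lrfl Lrfl
theorem f47032 : Led Lsl_bt (LP (LK LD1_c5 LD2_c19 LD3_c46)) = (LP (LK LD1_c10 LD2_c29 LD3_c23)) :=
  Lre_b IH (LK LD1_c5 LD2_c19 LD3_c46) (LK LD1_c10 LD2_c29 LD3_c23) Lrfl Lrfl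
theorem f585099 : Led Lsl_cf (LP (LK LD1_c25 LD2_c48 LD3_c32)) = (LP (LK LD1_c28 LD2_c27 LD3_c38)) :=
  Lgr Lrot160 (Lpr_gt (f585079 IH) (Lpe (f3432 IH) (Lpr_bt (f3411 IH) (Lpr_gt (K15.f3422 IH) (Lpr_ct (K15.f247752 IH) (Lpr_gt (K14.f247738 IH) (Lpe (K14.f247796 IH) (Lpr_bt (f47032 IH) (Lpr_gt (f247798 IH) (Lpe (f247799 IH) (Lpn (LP (LK LD1_c28 LD2_c27 LD3_c38)))))))))))))
theorem f585102 : Led Lsl_ct (LP (LK LD1_c25 LD2_c48 LD3_c32)) = (LP (LK LD1_c28 LD2_c27 LD3_c38)) :=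
  Lgr Lrot59 (Lpr_cf (f585099 IH) (Lpn (LP (LK LD1_c28 LD2_c27 LD3_c38))))
theorem f940925 : Led Lsl_df (LP (LK LD1_c10 LD2_c30 LD3_c18)) = v43528 :=
  Lgr Lrot38 (Lpr_dt (f940923 IH) (Lpn v43528))
theorem f258933 : Led Lsl_ff (LP (LK LD1_c4 LD2_c1 LD3_c39)) = (LP (LK LD1_c2 LD2_c31 LD3_c33)) :=
  Lgr Lrot19 (Lpr_dt (K10.f182059 IH) (Lpr_ft (K15.f258927 IH) (Lpr_dt (K13.f190306 IH) (Lpn (LP (LK LD1_c2 LD2_c31 LD3_c33))))))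
theorem f242104 : Led Lsl_dt (LP (LK LD1_c1 LD2_c59 LD3_c31)) = (LP (LK LD1_c4 LD2_c2 LD3_c22)) :=
  Lgr Lrot173 (Lpe (K10.f80935 IH) (Lpe (K10.f47065 IH) (Lpr_cf (K10.f190756 IH) (Lpe (K13.f194131 IH) (Lpe (K13.f195645 IH) (Lpe (K13.f195649 IH) (Lpe (K13.f240569 IH) (Lpr_df (K13.f193415 IH) (Lpe (K13.f192977 IH) (Lpe (K13.f47061 IH) (Lpr_cf (K10.f192959 IH) (Lpe (K12.f182047 IH) (Lpe (K13.f182045 IH) (Lpe (K13.f190753 IH) (Lpr_cf (K13.f242098 IH) (Lpn (LP (LK LD1_c4 LD2_c2 LD3_c22))))))))))))))))))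
theorem f239725 : Led Lsl_ff (LP (LK LD1_c1 LD2_c12 LD3_c49)) = (LP (LK LD1_c1 LD2_c57 LD3_c49)) :=
  Lgr Lrot19 (Lpr_dt (K12.f21855 IH) (Lpr_ft (K13.f239721 IH) (Lpr_dt (K12.f165171 IH) (Lpn (LP (LK LD1_c1 LD2_c57 LD3_c49))))))
theorem f242108 : Led Lsl_af (LP (LK LD1_c1 LD2_c57 LD3_c48)) = (LP (LK LD1_c1 LD2_c12 LD3_c49)) :=
  Lgr Lrot109 (Lpe (K13.f182045 IH) (Lpe (K13.f190753 IH) (Lpr_cf (K13.f242098 IH) (Lpe (f242104 IH) (Lpe (K10.f80935 IH) (Lpe (K10.f47065 IH) (Lpr_cf (K10.f190756 IH) (Lpe (K13.f194131 IH) (Lpe (f239725 IH) (Lpn (LP (LK LD1_c1 LD2_c12 LD3_c49))))))))))))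
theorem f252246 : Led Lsl_af (LP (LK LD1_c4 LD2_c54 LD3_c0)) = (LP (LK LD1_c4 LD2_c1 LD3_c39)) :=
  Lgr Lrot36 (Lpe (K15.f231820 IH) (Lpr_at (K14.f252244 IH) (Lpr_bt (K14.f33194 IH) (Lpe (f242108 IH) (Lpr_bt (K14.f237073 IH) (Lpn (LP (LK LD1_c4 LD2_c1 LD3_c39))))))))
theorem f544872 : Led Lsl_dt (LP (LK LD1_c5 LD2_c19 LD3_c35)) = (LP (LK LD1_c9 LD2_c39 LD3_c29)) :=
  Lgr Lrot120 (Lpr_cf (K38.f544859 IH) (Lpr_df (K14.f247968 IH) (Lpe (K14.f46355 IH) (Lpe (K11.f28308 IH) (Lpe (K10.f190304 IH) (Lpe (K14.f190311 IH) (Lpe (f258933 IH) (Lpe (f252246 IH) (Lpe (K17.f184843 IH) (Lpn (LP (LK LD1_c9 LD2_c39 LD3_c29))))))))))))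
theorem f190039 : Led Lsl_gt (LP (LK LD1_c8 LD2_c27 LD3_c23)) = (LP (LK LD1_c15 LD2_c52 LD3_c42)) :=
  Lre_g IH (LK LD1_c8 LD2_c27 LD3_c23) (LK LD1_c15 LD2_c52 LD3_c42) Lrfl Lrfl
theorem f940931 : Led Lsl_df (LP (LK LD1_c25 LD2_c48 LD3_c32)) = (LP (LK LD1_c15 LD2_c52 LD3_c42)) :=
  Lgr Lrot183 (Lpr_ct (f585102 IH) (Lpr_bt (f247799 IH) (Lpr_gt (f940930 IH) (Lpe (f940925 IH) (Lpr_ct (K44.f252930 IH) (Lpr_bt (K44.f444532 IH) (Lpr_gt (K44.f582792 IH) (Lpr_dt (f544872 IH) (Lpr_ct (K17.f184843 IH) (Lpe (K15.f231820 IH) (Lpe (K16.f274826 IH) (Lpr_dt (K16.f191768 IH) (Lpe (K16.f274818 IH) (Lpr_bt (K21.f7951 IH) (Lpr_gt (K15.f199551 IH) (Lpe (K13.f216472 IH) (Lpr_ct (K10.f50896 IH) (Lpr_bt (K67.f190044 IH) (Lpr_gt (f190039 IH) (Lpn (LP (LK LD1_c15 LD2_c52 LD3_c42))))))))))))))))))))))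
theorem f940932 : Led Lsl_dt (LP (LK LD1_c15 LD2_c52 LD3_c42)) = (LP (LK LD1_c25 LD2_c48 LD3_c32)) :=
  Leop (Lpr_df (f940931 IH) (Lpn (LP (LK LD1_c15 LD2_c52 LD3_c42))))
theorem seed_2662 : LEOK LG_d (LK LD1_c15 LD2_c52 LD3_c42) :=
  Leoe_d (LK LD1_c15 LD2_c52 LD3_c42) (f940932 IH)
def v43565 : LQ := Led Lsl_ct (LP (LK LD1_c10 LD2_c31 LD3_c14))
theorem f941147 : Led Lsl_ct (LP (LK LD1_c10 LD2_c31 LD3_c14)) = v43565 :=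
  Lrfl
theorem f591185 : Led Lsl_cf (LP (LK LD1_c11 LD2_c23 LD3_c43)) = (LP (LK LD1_c19 LD2_c4 LD3_c4)) :=
  Lgr Lrot1 (Lpe (K47.f591161 IH) (Lpr_ct (K47.f591153 IH) (Lpr_at (K47.f591181 IH) (Lpn (LP (LK LD1_c19 LD2_c4 LD3_c4))))))
theorem f573533 : Led Lsl_ct (LP (LK LD1_c13 LD2_c29 LD3_c23)) = (LP (LK LD1_c16 LD2_c22 LD3_c41)) :=
  Lgr Lrot8 (Lpr_gt (K43.f573529 IH) (Lpr_dt (K43.f547359 IH) (Lpr_gt (K42.f566642 IH) (Lpr_dt (K42.f569751 IH) (Lpe (K42.f569760 IH) (Lpe (K41.f331850 IH) (Lpe (K47.f393908 IH) (Lpr_df (K18.f297384 IH) (Lpe (K47.f406900 IH) (Lpn (LP (LK LD1_c16 LD2_c22 LD3_c41))))))))))))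
theorem f277124 : Led Lsl_bt (LP (LK LD1_c10 LD2_c35 LD3_c59)) = (LP (LK LD1_c19 LD2_c11 LD3_c38)) :=
  Lre_b IH (LK LD1_c10 LD2_c35 LD3_c59) (LK LD1_c19 LD2_c11 LD3_c38) Lrfl Lrfl
theorem f392109 : Led Lsl_af (LP (LK LD1_c25 LD2_c50 LD3_c27)) = (LP (LK LD1_c19 LD2_c11 LD3_c38)) :=
  Lgr Lrot36 (Lpr_bt (K31.f388760 IH) (Lpr_at (K68.f392105 IH) (Lpr_bt (K30.f256966 IH) (Lpe (K31.f389223 IH) (Lpr_bt (f277124 IH) (Lpn (LP (LK LD1_c19 LD2_c11 LD3_c38))))))))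
theorem f389225 : Led Lsl_at (LP (LK LD1_c10 LD2_c35 LD3_c59)) = (LP (LK LD1_c15 LD2_c44 LD3_c7)) :=
  Lgr Lrot100 (Lpr_af (K31.f389223 IH) (Lpn (LP (LK LD1_c15 LD2_c44 LD3_c7))))
theorem f389241 : Led Lsl_ff (LP (LK LD1_c10 LD2_c35 LD3_c59)) = (LP (LK LD1_c15 LD2_c44 LD3_c8)) :=
  Lgr Lrot30 (Lpr_at (f389225 IH) (Lpe (K31.f389233 IH) (Lpr_at (K31.f389237 IH) (Lpn (LP (LK LD1_c15 LD2_c44 LD3_c8))))))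
theorem f226918 : Led Lsl_bt (LP (LK LD1_c25 LD2_c40 LD3_c36)) = (LP (LK LD1_c15 LD2_c44 LD3_c8)) :=
  Lre_b IH (LK LD1_c25 LD2_c40 LD3_c36) (LK LD1_c15 LD2_c44 LD3_c8) Lrfl Lrfl
theorem f389243 : Led Lsl_ft (LP (LK LD1_c19 LD2_c11 LD3_c38)) = (LP (LK LD1_c25 LD2_c40 LD3_c36)) :=
  Lgr Lrot75 (Lpe (f277124 IH) (Lpr_ff (f389241 IH) (Lpe (f226918 IH) (Lpn (LP (LK LD1_c25 LD2_c40 LD3_c36))))))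
theorem f389245 : Led Lsl_ff (LP (LK LD1_c19 LD2_c11 LD3_c38)) = (LP (LK LD1_c25 LD2_c40 LD3_c36)) :=
  Lgr Lrot3 (Lpr_ft (f389243 IH) (Lpn (LP (LK LD1_c25 LD2_c40 LD3_c36))))
theorem f403171 : Led Lsl_gf (LP (LK LD1_c19 LD2_c10 LD3_c35)) = (LP (LK LD1_c25 LD2_c40 LD3_c36)) :=
  Lgr Lrot47 (Lpr_gt (K45.f403169 IH) (Lpr_af (f392109 IH) (Lpr_ff (f389245 IH) (Lpn (LP (LK LD1_c25 LD2_c40 LD3_c36))))))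
theorem f406906 : Led Lsl_dt (LP (LK LD1_c16 LD2_c22 LD3_c41)) = (LP (LK LD1_c25 LD2_c40 LD3_c36)) :=
  Lgr Lrot6 (Lpr_gt (K47.f406900 IH) (Lpr_ct (K18.f210770 IH) (Lpr_gt (K41.f400041 IH) (Lpr_ct (K42.f400045 IH) (Lpe (K42.f400073 IH) (Lpe (K38.f169225 IH) (Lpe (K45.f403173 IH) (Lpe (K31.f263746 IH) (Lpr_gf (f403171 IH) (Lpn (LP (LK LD1_c25 LD2_c40 LD3_c36))))))))))))
theorem f173997 : Led Lsl_ct (LP (LK LD1_c5 LD2_c28 LD3_c56)) = (LP (LK LD1_c10 LD2_c48 LD3_c61)) :=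
  Lre_c IH (LK LD1_c5 LD2_c28 LD3_c56) (LK LD1_c10 LD2_c48 LD3_c61) Lrfl Lrfl
theorem f384823 : Led Lsl_ct (LP (LK LD1_c19 LD2_c33 LD3_c20)) = (LP (LK LD1_c25 LD2_c40 LD3_c36)) :=
  Lgr Lrot83 (Lpe (K71.f173994 IH) (Lpe (f173997 IH) (Lpe (K30.f173998 IH) (Lpr_cf (K30.f384821 IH) (Lpe (f226918 IH) (Lpn (LP (LK LD1_c25 LD2_c40 LD3_c36))))))))
theorem f941153 : Led Lsl_gf (LP (LK LD1_c19 LD2_c33 LD3_c20)) = v43565 :=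
  Lgr Lrot104 (Lpr_ct (f384823 IH) (Lpe (f406906 IH) (Lpe (f573533 IH) (Lpr_gf (K43.f573531 IH) (Lpr_cf (f591185 IH) (Lpe (K47.f224724 IH) (Lpe (K41.f169253 IH) (Lpr_gt (K41.f169233 IH) (Lpr_ct (f941147 IH) (Lpn v43565))))))))))
theorem f177925 : Led Lsl_ct (LP (LK LD1_c2 LD2_c44 LD3_c2)) = (LP (LK LD1_c5 LD2_c36 LD3_c12)) :=
  Lre_c IH (LK LD1_c2 LD2_c44 LD3_c2) (LK LD1_c5 LD2_c36 LD3_c12) Lrfl Lrfl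
theorem f735666 : Led Lsl_cf (LP (LK LD1_c5 LD2_c36 LD3_c20)) = K71.v15326 :=
  Lgr Lrot1 (Lpr_at (K30.f253725 IH) (Lpr_ct (f177925 IH) (Lpr_at (K71.f735663 IH) (Lpn K71.v15326))))
theorem f228737 : Led Lsl_bt (LP (LK LD1_c2 LD2_c44 LD3_c0)) = (LP (LK LD1_c5 LD2_c36 LD3_c12)) :=
  Lre_b IH (LK LD1_c2 LD2_c44 LD3_c0) (LK LD1_c5 LD2_c36 LD3_c12) Lrfl Lrfl
theorem f221735 : Led Lsl_at (LP (LK LD1_c17 LD2_c49 LD3_c3)) = (LP (LK LD1_c9 LD2_c41 LD3_c13)) :=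
  Lre_a IH (LK LD1_c17 LD2_c49 LD3_c3) (LK LD1_c9 LD2_c41 LD3_c13) Lrfl Lrfl
theorem f735665 : Led Lsl_bf (LP (LK LD1_c17 LD2_c49 LD3_c3)) = K71.v15326 :=
  Lgr Lrot81 (Lpr_at (f221735 IH) (Lpr_bt (K67.f169255 IH) (Lpr_at (K15.f261211 IH) (Lpr_bt (f228737 IH) (Lpr_at (K71.f735663 IH) (Lpn K71.v15326))))))
theorem f316782 : Led Lsl_gt (LP (LK LD1_c11 LD2_c3 LD3_c26)) = (LP (LK LD1_c5 LD2_c35 LD3_c38)) :=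
  Lre_g IH (LK LD1_c11 LD2_c3 LD3_c26) (LK LD1_c5 LD2_c35 LD3_c38) Lrfl Lrfl
theorem f340590 : Led Lsl_ct (LP (LK LD1_c19 LD2_c55 LD3_c25)) = (LP (LK LD1_c11 LD2_c3 LD3_c26)) :=
  Lre_c IH (LK LD1_c19 LD2_c55 LD3_c25) (LK LD1_c11 LD2_c3 LD3_c26) Lrfl Lrfl
theorem f254130 : Led Lsl_bt (LP (LK LD1_c5 LD2_c36 LD3_c28)) = (LP (LK LD1_c11 LD2_c5 LD3_c0)) :=
  Lre_b IH (LK LD1_c5 LD2_c36 LD3_c28) (LK LD1_c11 LD2_c5 LD3_c0) Lrfl Lrfl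
theorem f277500 : Led Lsl_gt (LP (LK LD1_c11 LD2_c5 LD3_c0)) = (LP (LK LD1_c19 LD2_c57 LD3_c47)) :=
  Lre_g IH (LK LD1_c11 LD2_c5 LD3_c0) (LK LD1_c19 LD2_c57 LD3_c47) Lrfl Lrfl
theorem f394893 : Led Lsl_bt (LP (LK LD1_c19 LD2_c55 LD3_c25)) = (LP (LK LD1_c19 LD2_c57 LD3_c47)) :=
  Lgr Lrot92 (Lpr_ct (f340590 IH) (Lpr_gt (f316782 IH) (Lpe (K67.f316787 IH) (Lpr_bt (K67.f344593 IH) (Lpr_gt (K18.f290800 IH) (Lpr_ct (K18.f171919 IH) (Lpe (K18.f278171 IH) (Lpe (K14.f253903 IH) (Lpr_bt (f254130 IH) (Lpr_gt (f277500 IH) (Lpn (LP (LK LD1_c19 LD2_c57 LD3_c47)))))))))))))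
theorem f340582 : Led Lsl_at (LP (LK LD1_c11 LD2_c3 LD3_c27)) = (LP (LK LD1_c5 LD2_c35 LD3_c38)) :=
  Lre_a IH (LK LD1_c11 LD2_c3 LD3_c27) (LK LD1_c5 LD2_c35 LD3_c38) Lrfl Lrfl
theorem f340587 : Led Lsl_gf (LP (LK LD1_c11 LD2_c3 LD3_c26)) = (LP (LK LD1_c16 LD2_c50 LD3_c18)) :=
  Lgr Lrot47 (Lpr_gt (f316782 IH) (Lpe (f340582 IH) (Lpr_ff (K31.f340580 IH) (Lpn (LP (LK LD1_c16 LD2_c50 LD3_c18))))))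
theorem f289548 : Led Lsl_bt (LP (LK LD1_c10 LD2_c48 LD3_c43)) = (LP (LK LD1_c19 LD2_c32 LD3_c51)) :=
  Lre_b IH (LK LD1_c10 LD2_c48 LD3_c43) (LK LD1_c19 LD2_c32 LD3_c51) Lrfl Lrfl
theorem f394897 : Led Lsl_gf (LP (LK LD1_c19 LD2_c32 LD3_c51)) = (LP (LK LD1_c19 LD2_c57 LD3_c47)) :=
  Lgr Lrot124 (Lpe (f289548 IH) (Lpr_ct (K31.f253837 IH) (Lpr_gt (K30.f289545 IH) (Lpe (K30.f178944 IH) (Lpr_bt (K31.f385023 IH) (Lpr_gt (K31.f344692 IH) (Lpe (K67.f386467 IH) (Lpe (f340587 IH) (Lpe (f340590 IH) (Lpr_bt (f394893 IH) (Lpn (LP (LK LD1_c19 LD2_c57 LD3_c47)))))))))))))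
theorem f254131 : Led Lsl_ft (LP (LK LD1_c11 LD2_c5 LD3_c0)) = (LP (LK LD1_c15 LD2_c1 LD3_c21)) :=
  Lgr Lrot75 (Lpe (f254130 IH) (Lpr_ff (K14.f254125 IH) (Lpe (K67.f221736 IH) (Lpn (LP (LK LD1_c15 LD2_c1 LD3_c21))))))
theorem f394899 : Led Lsl_af (LP (LK LD1_c19 LD2_c32 LD3_c51)) = (LP (LK LD1_c15 LD2_c1 LD3_c21)) :=
  Lgr Lrot31 (Lpr_gf (f394897 IH) (Lpe (f277500 IH) (Lpr_ft (f254131 IH) (Lpn (LP (LK LD1_c15 LD2_c1 LD3_c21))))))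
theorem f221691 : Led Lsl_bt (LP (LK LD1_c24 LD2_c49 LD3_c18)) = (LP (LK LD1_c15 LD2_c1 LD3_c23)) :=
  Lre_b IH (LK LD1_c24 LD2_c49 LD3_c18) (LK LD1_c15 LD2_c1 LD3_c23) Lrfl Lrfl
theorem f221692 : Led Lsl_bt (LP (LK LD1_c9 LD2_c41 LD3_c15)) = (LP (LK LD1_c17 LD2_c49 LD3_c5)) :=
  Lre_b IH (LK LD1_c9 LD2_c41 LD3_c15) (LK LD1_c17 LD2_c49 LD3_c5) Lrfl Lrfl
theorem f221693 : Led Lsl_cf (LP (LK LD1_c24 LD2_c49 LD3_c18)) = (LP (LK LD1_c17 LD2_c49 LD3_c5)) :=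
  Lgr Lrot97 (Lpr_bt (f221691 IH) (Lpr_ct (K67.f221690 IH) (Lpr_bt (K15.f221686 IH) (Lpr_ct (K21.f218570 IH) (Lpr_bt (f221692 IH) (Lpn (LP (LK LD1_c17 LD2_c49 LD3_c5))))))))
theorem f221715 : Led Lsl_ct (LP (LK LD1_c24 LD2_c49 LD3_c18)) = (LP (LK LD1_c17 LD2_c49 LD3_c5)) :=
  Lgr Lrot59 (Lpr_cf (f221693 IH) (Lpn (LP (LK LD1_c17 LD2_c49 LD3_c5))))
theorem f221727 : Led Lsl_et (LP (LK LD1_c15 LD2_c1 LD3_c21)) = (LP (LK LD1_c24 LD2_c49 LD3_c18)) :=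
  Lre_e IH (LK LD1_c15 LD2_c1 LD3_c21) (LK LD1_c24 LD2_c49 LD3_c18) Lrfl Lrfl
theorem f221728 : Led Lsl_et (LP (LK LD1_c17 LD2_c49 LD3_c5)) = (LP (LK LD1_c9 LD2_c41 LD3_c13)) :=
  Lre_e IH (LK LD1_c17 LD2_c49 LD3_c5) (LK LD1_c9 LD2_c41 LD3_c13) Lrfl Lrfl
theorem f221729 : Led Lsl_cf (LP (LK LD1_c15 LD2_c1 LD3_c21)) = (LP (LK LD1_c9 LD2_c41 LD3_c13)) :=
  Lgr Lrot39 (Lpr_et (f221727 IH) (Lpr_ct (f221715 IH) (Lpr_et (f221728 IH) (Lpn (LP (LK LD1_c9 LD2_c41 LD3_c13))))))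
theorem f394904 : Led Lsl_ct (LP (LK LD1_c19 LD2_c32 LD3_c51)) = (LP (LK LD1_c17 LD2_c49 LD3_c3)) :=
  Lgr Lrot111 (Lpr_af (f394899 IH) (Lpr_cf (f221729 IH) (Lpe (f221735 IH) (Lpn (LP (LK LD1_c17 LD2_c49 LD3_c3))))))
theorem f370271 : Led Lsl_ff (LP (LK LD1_c10 LD2_c46 LD3_c31)) = (LP (LK LD1_c15 LD2_c1 LD3_c27)) :=
  Lgr Lrot25 (Lpr_bt (K23.f282882 IH) (Lpr_ft (K27.f370268 IH) (Lpr_bt (K31.f370270 IH) (Lpn (LP (LK LD1_c15 LD2_c1 LD3_c27))))))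
theorem f371449 : Led Lsl_at (LP (LK LD1_c10 LD2_c46 LD3_c31)) = (LP (LK LD1_c19 LD2_c29 LD3_c13)) :=
  Lre_a IH (LK LD1_c10 LD2_c46 LD3_c31) (LK LD1_c19 LD2_c29 LD3_c13) Lrfl Lrfl
theorem f375051 : Led Lsl_gf (LP (LK LD1_c19 LD2_c29 LD3_c13)) = (LP (LK LD1_c24 LD2_c49 LD3_c25)) :=
  Lgr Lrot76 (Lpe (f371449 IH) (Lpr_ff (f370271 IH) (Lpr_gt (K67.f371362 IH) (Lpn (LP (LK LD1_c24 LD2_c49 LD3_c25))))))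
theorem f394923 : Led Lsl_gf (LP (LK LD1_c19 LD2_c10 LD3_c32)) = (LP (LK LD1_c17 LD2_c49 LD3_c3)) :=
  Lgr Lrot129 (Lpe (K67.f278284 IH) (Lpr_bt (K67.f371363 IH) (Lpe (f375051 IH) (Lpe (K23.f344620 IH) (Lpe (K67.f386467 IH) (Lpe (f340587 IH) (Lpe (f340590 IH) (Lpr_bt (f394893 IH) (Lpe (f394897 IH) (Lpr_ct (f394904 IH) (Lpn (LP (LK LD1_c17 LD2_c49 LD3_c3)))))))))))))
theorem f278289 : Led Lsl_ct (LP (LK LD1_c19 LD2_c10 LD3_c32)) = (LP (LK LD1_c28 LD2_c36 LD3_c39)) :=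
  Lre_c IH (LK LD1_c19 LD2_c10 LD3_c32) (LK LD1_c28 LD2_c36 LD3_c39) Lrfl Lrfl
theorem f284575 : Led Lsl_bt (LP (LK LD1_c15 LD2_c41 LD3_c53)) = (LP (LK LD1_c25 LD2_c37 LD3_c28)) :=
  Lre_b IH (LK LD1_c15 LD2_c41 LD3_c53) (LK LD1_c25 LD2_c37 LD3_c28) Lrfl Lrfl
theorem f392160 : Led Lsl_cf (LP (LK LD1_c15 LD2_c44 LD3_c22)) = (LP (LK LD1_c11 LD2_c5 LD3_c8)) :=
  Lgr Lrot166 (Lpe (K31.f392148 IH) (Lpe (K30.f384343 IH) (Lpr_gt (K31.f392155 IH) (Lpr_dt (K31.f390344 IH) (Lpr_ct (K31.f390377 IH) (Lpe (K20.f174018 IH) (Lpe (K20.f289585 IH) (Lpe (K20.f178910 IH) (Lpe (K30.f178102 IH) (Lpn (LP (LK LD1_c11 LD2_c5 LD3_c8))))))))))))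
theorem f319227 : Led Lsl_bt (LP (LK LD1_c16 LD2_c49 LD3_c27)) = (LP (LK LD1_c15 LD2_c18 LD3_c43)) :=
  Lgr Lrot128 (Lpe (K30.f179860 IH) (Lpe (K30.f319217 IH) (Lpe (K30.f319145 IH) (Lpr_bf (K30.f319221 IH) (Lpe (K30.f226828 IH) (Lpn (LP (LK LD1_c15 LD2_c18 LD3_c43))))))))
theorem f386574 : Led Lsl_bt (LP (LK LD1_c11 LD2_c5 LD3_c8)) = (LP (LK LD1_c19 LD2_c57 LD3_c61)) :=
  Lre_b IH (LK LD1_c11 LD2_c5 LD3_c8) (LK LD1_c19 LD2_c57 LD3_c61) Lrfl Lrfl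
theorem f392355 : Led Lsl_gt (LP (LK LD1_c25 LD2_c37 LD3_c28)) = (LP (LK LD1_c19 LD2_c57 LD3_c61)) :=
  Lgr Lrot164 (Lpe (f284575 IH) (Lpr_ct (K67.f374745 IH) (Lpe (K67.f227131 IH) (Lpr_cf (K30.f227118 IH) (Lpe (K30.f227117 IH) (Lpe (f319227 IH) (Lpr_ct (K30.f319270 IH) (Lpr_gf (K31.f392148 IH) (Lpr_cf (f392160 IH) (Lpr_bt (f386574 IH) (Lpn (LP (LK LD1_c19 LD2_c57 LD3_c61)))))))))))))
theorem f392147 : Led Lsl_et (LP (LK LD1_c15 LD2_c44 LD3_c22)) = (LP (LK LD1_c25 LD2_c40 LD3_c43)) :=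
  Lre_e IH (LK LD1_c15 LD2_c44 LD3_c22) (LK LD1_c25 LD2_c40 LD3_c43) Lrfl Lrfl
theorem f289591 : Led Lsl_et (LP (LK LD1_c19 LD2_c58 LD3_c0)) = (LP (LK LD1_c11 LD2_c5 LD3_c8)) :=
  Lre_e IH (LK LD1_c19 LD2_c58 LD3_c0) (LK LD1_c11 LD2_c5 LD3_c8) Lrfl Lrfl
theorem f392353 : Led Lsl_ct (LP (LK LD1_c25 LD2_c40 LD3_c43)) = (LP (LK LD1_c19 LD2_c58 LD3_c0)) :=
  Lgr Lrot15 (Lpe (f392147 IH) (Lpr_cf (f392160 IH) (Lpe (f289591 IH) (Lpn (LP (LK LD1_c19 LD2_c58 LD3_c0))))))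
theorem f392373 : Led Lsl_cf (LP (LK LD1_c25 LD2_c40 LD3_c43)) = (LP (LK LD1_c19 LD2_c58 LD3_c0)) :=
  Lgr Lrot11 (Lpr_ct (f392353 IH) (Lpn (LP (LK LD1_c19 LD2_c58 LD3_c0))))
theorem f392375 : Led Lsl_bt (LP (LK LD1_c25 LD2_c40 LD3_c43)) = (LP (LK LD1_c15 LD2_c44 LD3_c24)) :=
  Lre_b IH (LK LD1_c25 LD2_c40 LD3_c43) (LK LD1_c15 LD2_c44 LD3_c24) Lrfl Lrfl
theorem f392376 : Led Lsl_ct (LP (LK LD1_c15 LD2_c44 LD3_c24)) = (LP (LK LD1_c25 LD2_c40 LD3_c46)) :=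
  Lre_c IH (LK LD1_c15 LD2_c44 LD3_c24) (LK LD1_c25 LD2_c40 LD3_c46) Lrfl Lrfl
theorem f392377 : Led Lsl_bt (LP (LK LD1_c25 LD2_c40 LD3_c46)) = (LP (LK LD1_c31 LD2_c58 LD3_c15)) :=
  Lre_b IH (LK LD1_c25 LD2_c40 LD3_c46) (LK LD1_c31 LD2_c58 LD3_c15) Lrfl Lrfl
theorem f392378 : Led Lsl_bt (LP (LK LD1_c29 LD2_c13 LD3_c13)) = (LP (LK LD1_c19 LD2_c58 LD3_c0)) :=
  Lre_b IH (LK LD1_c29 LD2_c13 LD3_c13) (LK LD1_c19 LD2_c58 LD3_c0) Lrfl Lrfl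
theorem f392379 : Led Lsl_ct (LP (LK LD1_c31 LD2_c58 LD3_c15)) = (LP (LK LD1_c29 LD2_c13 LD3_c13)) :=
  Lgr Lrot83 (Lpe (f392377 IH) (Lpe (f392376 IH) (Lpe (f392375 IH) (Lpr_cf (f392373 IH) (Lpe (f392378 IH) (Lpn (LP (LK LD1_c29 LD2_c13 LD3_c13))))))))
theorem f392381 : Led Lsl_et (LP (LK LD1_c25 LD2_c40 LD3_c44)) = (LP (LK LD1_c31 LD2_c58 LD3_c15)) :=
  Lre_e IH (LK LD1_c25 LD2_c40 LD3_c44) (LK LD1_c31 LD2_c58 LD3_c15) Lrfl Lrfl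
theorem f392359 : Led Lsl_et (LP (LK LD1_c29 LD2_c13 LD3_c13)) = (LP (LK LD1_c19 LD2_c57 LD3_c61)) :=
  Lre_e IH (LK LD1_c29 LD2_c13 LD3_c13) (LK LD1_c19 LD2_c57 LD3_c61) Lrfl Lrfl
theorem f392382 : Led Lsl_cf (LP (LK LD1_c25 LD2_c40 LD3_c44)) = (LP (LK LD1_c19 LD2_c57 LD3_c61)) :=
  Lgr Lrot39 (Lpr_et (f392381 IH) (Lpr_ct (f392379 IH) (Lpr_et (f392359 IH) (Lpn (LP (LK LD1_c19 LD2_c57 LD3_c61))))))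
theorem f226923 : Led Lsl_ct (LP (LK LD1_c15 LD2_c1 LD3_c34)) = (LP (LK LD1_c19 LD2_c4 LD3_c1)) :=
  Lgr Lrot59 (Lpr_cf (K47.f226916 IH) (Lpn (LP (LK LD1_c19 LD2_c4 LD3_c1))))
theorem f226921 : Led Lsl_bt (LP (LK LD1_c15 LD2_c1 LD3_c34)) = (LP (LK LD1_c24 LD2_c49 LD3_c41)) :=
  Lre_b IH (LK LD1_c15 LD2_c1 LD3_c34) (LK LD1_c24 LD2_c49 LD3_c41) Lrfl Lrfl
theorem f393755 : Led Lsl_gt (LP (LK LD1_c24 LD2_c49 LD3_c41)) = (LP (LK LD1_c28 LD2_c36 LD3_c37)) :=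
  Lgr Lrot164 (Lpe (f226921 IH) (Lpr_ct (f226923 IH) (Lpe (K47.f226928 IH) (Lpr_cf (f392382 IH) (Lpe (f392355 IH) (Lpe (f284575 IH) (Lpr_ct (K67.f374745 IH) (Lpe (K67.f227131 IH) (Lpr_cf (K30.f227118 IH) (Lpr_bt (K67.f393739 IH) (Lpn (LP (LK LD1_c28 LD2_c36 LD3_c37)))))))))))))
theorem f393757 : Led Lsl_gf (LP (LK LD1_c24 LD2_c49 LD3_c41)) = (LP (LK LD1_c28 LD2_c36 LD3_c39)) :=
  Lgr Lrot47 (Lpr_gt (f393755 IH) (Lpr_af (K67.f393674 IH) (Lpe (K67.f393656 IH) (Lpn (LP (LK LD1_c28 LD2_c36 LD3_c39))))))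
theorem f274899 : Led Lsl_ct (LP (LK LD1_c9 LD2_c41 LD3_c26)) = (LP (LK LD1_c17 LD2_c49 LD3_c27)) :=
  Lre_c IH (LK LD1_c9 LD2_c41 LD3_c26) (LK LD1_c17 LD2_c49 LD3_c27) Lrfl Lrfl
theorem f592205 : Led Lsl_ff (LP (LK LD1_c9 LD2_c41 LD3_c26)) = (LP (LK LD1_c17 LD2_c48 LD3_c9)) :=
  Lgr Lrot23 (Lpr_ct (f274899 IH) (Lpr_ft (K71.f592198 IH) (Lpe (K71.f254935 IH) (Lpn (LP (LK LD1_c17 LD2_c48 LD3_c9))))))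
theorem f592211 : Led Lsl_ft (LP (LK LD1_c17 LD2_c49 LD3_c26)) = (LP (LK LD1_c27 LD2_c35 LD3_c30)) :=
  Lgr Lrot75 (Lpe (K67.f274900 IH) (Lpr_ff (f592205 IH) (Lpe (K71.f218897 IH) (Lpn (LP (LK LD1_c27 LD2_c35 LD3_c30))))))
theorem f592221 : Led Lsl_ff (LP (LK LD1_c17 LD2_c49 LD3_c26)) = (LP (LK LD1_c27 LD2_c35 LD3_c30)) :=
  Lgr Lrot3 (Lpr_ft (f592211 IH) (Lpn (LP (LK LD1_c27 LD2_c35 LD3_c30))))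
theorem f592224 : Led Lsl_at (LP (LK LD1_c17 LD2_c49 LD3_c26)) = (LP (LK LD1_c27 LD2_c36 LD3_c32)) :=
  Lre_a IH (LK LD1_c17 LD2_c49 LD3_c26) (LK LD1_c27 LD2_c36 LD3_c32) Lrfl Lrfl
theorem f592090 : Led Lsl_af (LP (LK LD1_c27 LD2_c35 LD3_c30)) = (LP (LK LD1_c19 LD2_c12 LD3_c40)) :=
  Lgr Lrot0 (Lpr_at (K71.f592084 IH) (Lpn (LP (LK LD1_c19 LD2_c12 LD3_c40))))
theorem f592225 : Led Lsl_ft (LP (LK LD1_c27 LD2_c36 LD3_c32)) = (LP (LK LD1_c19 LD2_c12 LD3_c40)) :=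
  Lgr Lrot101 (Lpe (f592224 IH) (Lpr_ff (f592221 IH) (Lpr_af (f592090 IH) (Lpn (LP (LK LD1_c19 LD2_c12 LD3_c40))))))
theorem f226934 : Led Lsl_bt (LP (LK LD1_c24 LD2_c49 LD3_c41)) = (LP (LK LD1_c15 LD2_c1 LD3_c34)) :=
  Lre_b IH (LK LD1_c24 LD2_c49 LD3_c41) (LK LD1_c15 LD2_c1 LD3_c34) Lrfl Lrfl
theorem f418438 : Led Lsl_bt (LP (LK LD1_c19 LD2_c12 LD3_c36)) = (LP (LK LD1_c28 LD2_c38 LD3_c47)) :=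
  Lre_b IH (LK LD1_c19 LD2_c12 LD3_c36) (LK LD1_c28 LD2_c38 LD3_c47) Lrfl Lrfl
theorem f591840 : Led Lsl_ff (LP (LK LD1_c24 LD2_c49 LD3_c41)) = (LP (LK LD1_c28 LD2_c38 LD3_c47)) :=
  Lgr Lrot25 (Lpr_bt (f226934 IH) (Lpr_ft (K71.f591835 IH) (Lpr_bt (f418438 IH) (Lpn (LP (LK LD1_c28 LD2_c38 LD3_c47))))))
theorem f592247 : Led Lsl_cf (LP (LK LD1_c27 LD2_c36 LD3_c32)) = (LP (LK LD1_c24 LD2_c49 LD3_c41)) :=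
  Lgr Lrot108 (Lpr_ft (f592225 IH) (Lpr_ct (K71.f224291 IH) (Lpe (f591840 IH) (Lpn (LP (LK LD1_c24 LD2_c49 LD3_c41))))))
theorem f592249 : Led Lsl_ct (LP (LK LD1_c27 LD2_c36 LD3_c32)) = (LP (LK LD1_c24 LD2_c49 LD3_c41)) :=
  Lgr Lrot59 (Lpr_cf (f592247 IH) (Lpn (LP (LK LD1_c24 LD2_c49 LD3_c41))))
theorem f941154 : Led Lsl_bt (LP (LK LD1_c27 LD2_c36 LD3_c32)) = v43565 :=
  Lgr Lrot22 (Lpr_ct (f592249 IH) (Lpr_gf (f393757 IH) (Lpe (f278289 IH) (Lpr_gf (f394923 IH) (Lpr_bf (f735665 IH) (Lpe (f735666 IH) (Lpe (K30.f288019 IH) (Lpe (K71.f173993 IH) (Lpr_bt (K71.f173994 IH) (Lpr_gf (f941153 IH) (Lpn v43565)))))))))))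
theorem f278290 : Led Lsl_bt (LP (LK LD1_c19 LD2_c10 LD3_c32)) = (LP (LK LD1_c28 LD2_c36 LD3_c38)) :=
  Lre_b IH (LK LD1_c19 LD2_c10 LD3_c32) (LK LD1_c28 LD2_c36 LD3_c38) Lrfl Lrfl
theorem f263745 : Led Lsl_bt (LP (LK LD1_c10 LD2_c35 LD3_c3)) = (LP (LK LD1_c19 LD2_c10 LD3_c34)) :=
  Lre_b IH (LK LD1_c10 LD2_c35 LD3_c3) (LK LD1_c19 LD2_c10 LD3_c34) Lrfl Lrfl
theorem f941155 : Led Lsl_gf (LP (LK LD1_c28 LD2_c36 LD3_c38)) = (LP (LK LD1_c19 LD2_c10 LD3_c34)) :=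
  Lgr Lrot124 (Lpe (f278290 IH) (Lpr_ct (f278289 IH) (Lpe (f393757 IH) (Lpe (f592249 IH) (Lpr_bt (f941154 IH) (Lpe (f941153 IH) (Lpr_ct (f384823 IH) (Lpe (f403171 IH) (Lpe (K38.f263756 IH) (Lpr_bt (f263745 IH) (Lpn (LP (LK LD1_c19 LD2_c10 LD3_c34)))))))))))))
theorem f941156 : Led Lsl_gt (LP (LK LD1_c19 LD2_c10 LD3_c34)) = (LP (LK LD1_c28 LD2_c36 LD3_c38)) :=
  Leop (Lpr_gf (f941155 IH) (Lpn (LP (LK LD1_c19 LD2_c10 LD3_c34))))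
theorem seed_2663 : LEOK LG_g (LK LD1_c19 LD2_c10 LD3_c34) :=
  Leoe_g (LK LD1_c19 LD2_c10 LD3_c34) (f941156 IH)
def v43590 : LQ := Led Lsl_bt (LP (LK LD1_c10 LD2_c31 LD3_c45))
theorem f941304 : Led Lsl_bt (LP (LK LD1_c10 LD2_c31 LD3_c45)) = v43590 :=
  Lrfl
theorem f591177 : Led Lsl_ft (LP (LK LD1_c5 LD2_c24 LD3_c11)) = (LP (LK LD1_c10 LD2_c31 LD3_c45)) :=
  Lgr Lrot54 (Lpe (K41.f397375 IH) (Lpr_ff (K47.f591175 IH) (Lpe (K41.f400175 IH) (Lpn (LP (LK LD1_c10 LD2_c31 LD3_c45))))))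
theorem f331760 : Led Lsl_bt (LP (LK LD1_c10 LD2_c39 LD3_c7)) = (LP (LK LD1_c5 LD2_c24 LD3_c11)) :=
  Lre_b IH (LK LD1_c10 LD2_c39 LD3_c7) (LK LD1_c5 LD2_c24 LD3_c11) Lrfl Lrfl
theorem f941308 : Led Lsl_ff (LP (LK LD1_c10 LD2_c39 LD3_c7)) = v43590 :=
  Lgr Lrot25 (Lpr_bt (f331760 IH) (Lpr_ft (f591177 IH) (Lpr_bt (f941304 IH) (Lpn v43590))))
theorem f941309 : Led Lsl_ft (LP (LK LD1_c10 LD2_c39 LD3_c7)) = v43590 :=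
  Lgr Lrot48 (Lpr_ff (f941308 IH) (Lpn v43590))
theorem f376620 : Led Lsl_ct (LP (LK LD1_c19 LD2_c17 LD3_c39)) = (LP (LK LD1_c10 LD2_c39 LD3_c7)) :=
  Lre_c IH (LK LD1_c19 LD2_c17 LD3_c39) (LK LD1_c10 LD2_c39 LD3_c7) Lrfl Lrfl
theorem f168651 : Led Lsl_ct (LP (LK LD1_c17 LD2_c50 LD3_c42)) = (LP (LK LD1_c9 LD2_c42 LD3_c8)) :=
  Lre_c IH (LK LD1_c17 LD2_c50 LD3_c42) (LK LD1_c9 LD2_c42 LD3_c8) Lrfl Lrfl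
theorem f168609 : Led Lsl_bt (LP (LK LD1_c4 LD2_c27 LD3_c38)) = (LP (LK LD1_c2 LD2_c10 LD3_c61)) :=
  Lre_b IH (LK LD1_c4 LD2_c27 LD3_c38) (LK LD1_c2 LD2_c10 LD3_c61) Lrfl Lrfl
theorem f168611 : Led Lsl_gt (LP (LK LD1_c5 LD2_c21 LD3_c1)) = (LP (LK LD1_c2 LD2_c37 LD3_c7)) :=
  Lre_g IH (LK LD1_c5 LD2_c21 LD3_c1) (LK LD1_c2 LD2_c37 LD3_c7) Lrfl Lrfl
theorem f168612 : Led Lsl_ct (LP (LK LD1_c10 LD2_c32 LD3_c11)) = (LP (LK LD1_c5 LD2_c21 LD3_c1)) :=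
  Lre_c IH (LK LD1_c10 LD2_c32 LD3_c11) (LK LD1_c5 LD2_c21 LD3_c1) Lrfl Lrfl
theorem f168652 : Led Lsl_gt (LP (LK LD1_c19 LD2_c5 LD3_c6)) = (LP (LK LD1_c10 LD2_c32 LD3_c11)) :=
  Lre_g IH (LK LD1_c19 LD2_c5 LD3_c6) (LK LD1_c10 LD2_c32 LD3_c11) Lrfl Lrfl
theorem f168653 : Led Lsl_bt (LP (LK LD1_c17 LD2_c50 LD3_c42)) = (LP (LK LD1_c19 LD2_c5 LD3_c6)) :=
  Lgr Lrot130 (Lpr_ct (f168651 IH) (Lpe (K41.f168624 IH) (Lpr_cf (K31.f168066 IH) (Lpr_bt (K31.f168597 IH) (Lpe (K9.f44647 IH) (Lpe (f168609 IH) (Lpr_ct (K65.f168610 IH) (Lpe (f168611 IH) (Lpe (f168612 IH) (Lpe (f168652 IH) (Lpn (LP (LK LD1_c19 LD2_c5 LD3_c6)))))))))))))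
theorem f168666 : Led Lsl_bf (LP (LK LD1_c17 LD2_c50 LD3_c42)) = (LP (LK LD1_c19 LD2_c5 LD3_c6)) :=
  Lgr Lrot24 (Lpr_bt (f168653 IH) (Lpn (LP (LK LD1_c19 LD2_c5 LD3_c6))))
theorem f941307 : Led Lsl_cf (LP (LK LD1_c19 LD2_c5 LD3_c6)) = v43590 :=
  Lgr Lrot97 (Lpe (f168666 IH) (Lpr_ct (f168651 IH) (Lpr_bt (K69.f168672 IH) (Lpr_ct (K41.f168729 IH) (Lpr_bt (f941304 IH) (Lpn v43590))))))
theorem f941310 : Led Lsl_ff (LP (LK LD1_c19 LD2_c17 LD3_c39)) = (LP (LK LD1_c19 LD2_c5 LD3_c6)) :=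
  Lgr Lrot23 (Lpr_ct (f376620 IH) (Lpr_ft (f941309 IH) (Lpe (f941307 IH) (Lpn (LP (LK LD1_c19 LD2_c5 LD3_c6))))))
theorem f941311 : Led Lsl_ft (LP (LK LD1_c19 LD2_c5 LD3_c6)) = (LP (LK LD1_c19 LD2_c17 LD3_c39)) :=
  Leop (Lpr_ff (f941310 IH) (Lpn (LP (LK LD1_c19 LD2_c5 LD3_c6))))
theorem seed_2664 : LEOK LG_f (LK LD1_c19 LD2_c5 LD3_c6) :=
  Leoe_f (LK LD1_c19 LD2_c5 LD3_c6) (f941311 IH)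
def v43608 : LQ := Led Lsl_ft (LP (LK LD1_c10 LD2_c31 LD3_c59))
theorem f941410 : Led Lsl_ft (LP (LK LD1_c10 LD2_c31 LD3_c59)) = v43608 :=
  Lrfl
theorem f167967 : Led Lsl_ct (LP (LK LD1_c15 LD2_c2 LD3_c8)) = (LP (LK LD1_c10 LD2_c31 LD3_c59)) :=
  Lgr Lrot83 (Lpe (K27.f167965 IH) (Lpe (K25.f167964 IH) (Lpe (K23.f167963 IH) (Lpr_cf (K23.f167955 IH) (Lpe (K44.f167966 IH) (Lpn (LP (LK LD1_c10 LD2_c31 LD3_c59))))))))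
theorem f168036 : Led Lsl_ft (LP (LK LD1_c24 LD2_c50 LD3_c41)) = (LP (LK LD1_c15 LD2_c2 LD3_c8)) :=
  Lre_f IH (LK LD1_c24 LD2_c50 LD3_c41) (LK LD1_c15 LD2_c2 LD3_c8) Lrfl Lrfl
theorem f941412 : Led Lsl_cf (LP (LK LD1_c24 LD2_c50 LD3_c41)) = v43608 :=
  Lgr Lrot108 (Lpr_ft (f168036 IH) (Lpr_ct (f167967 IH) (Lpr_ft (f941410 IH) (Lpn v43608))))
def v14714 : LQ := Led Lsl_ft (LP (LK LD1_c5 LD2_c20 LD3_c57))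
theorem f726270 : Led Lsl_ft (LP (LK LD1_c5 LD2_c20 LD3_c57)) = v14714 :=
  Lrfl
theorem f726274 : Led Lsl_ff (LP (LK LD1_c5 LD2_c20 LD3_c57)) = v14714 :=
  Lgr Lrot3 (Lpr_ft (f726270 IH) (Lpn v14714))
theorem f941411 : Led Lsl_bf v14714 = v43608 :=
  Lgr Lrot61 (Lpe (f726274 IH) (Lpr_bt (K27.f167975 IH) (Lpr_ft (f941410 IH) (Lpn v43608))))
theorem f195904 : Led Lsl_ct (LP (LK LD1_c2 LD2_c38 LD3_c45)) = (LP (LK LD1_c5 LD2_c24 LD3_c25)) :=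
  Lre_c IH (LK LD1_c2 LD2_c38 LD3_c45) (LK LD1_c5 LD2_c24 LD3_c25) Lrfl Lrfl
theorem f320122 : Led Lsl_bt (LP (LK LD1_c7 LD2_c58 LD3_c46)) = (LP (LK LD1_c15 LD2_c3 LD3_c19)) :=
  Lre_b IH (LK LD1_c7 LD2_c58 LD3_c46) (LK LD1_c15 LD2_c3 LD3_c19) Lrfl Lrfl
theorem f261777 : Led Lsl_ct (LP (LK LD1_c8 LD2_c57 LD3_c11)) = (LP (LK LD1_c4 LD2_c29 LD3_c32)) :=
  Lre_c IH (LK LD1_c8 LD2_c57 LD3_c11) (LK LD1_c4 LD2_c29 LD3_c32) Lrfl Lrfl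
theorem f236110 : Led Lsl_df (LP (LK LD1_c5 LD2_c28 LD3_c17)) = (LP (LK LD1_c5 LD2_c24 LD3_c57)) :=
  Lgr Lrot43 (Lpr_ct (K14.f236109 IH) (Lpr_dt (K13.f236104 IH) (Lpr_ct (K12.f53450 IH) (Lpr_dt (K14.f222255 IH) (Lpr_ct (K14.f222985 IH) (Lpr_dt (K13.f50178 IH) (Lpe (K15.f218717 IH) (Lpr_dt (K15.f223084 IH) (Lpr_ct (K13.f47539 IH) (Lpr_dt (K10.f47536 IH) (Lpr_ct (K13.f47540 IH) (Lpr_dt (K15.f47541 IH) (Lpe (K15.f234657 IH) (Lpr_dt (K14.f216912 IH) (Lpe (K12.f216922 IH) (Lpn (LP (LK LD1_c5 LD2_c24 LD3_c57))))))))))))))))))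
theorem f251430 : Led Lsl_dt (LP (LK LD1_c9 LD2_c52 LD3_c19)) = (LP (LK LD1_c10 LD2_c40 LD3_c39)) :=
  Lgr Lrot77 (Lpe (K18.f188409 IH) (Lpr_df (K14.f251305 IH) (Lpe (K14.f236136 IH) (Lpr_df (f236110 IH) (Lpe (K18.f213043 IH) (Lpn (LP (LK LD1_c10 LD2_c40 LD3_c39))))))))
theorem f320128 : Led Lsl_gt (LP (LK LD1_c10 LD2_c40 LD3_c39)) = (LP (LK LD1_c15 LD2_c3 LD3_c19)) :=
  Lgr Lrot9 (Lpe (f251430 IH) (Lpr_gt (K18.f284833 IH) (Lpr_ct (K22.f195634 IH) (Lpe (K22.f319990 IH) (Lpr_ct (K17.f261902 IH) (Lpe (K15.f261788 IH) (Lpe (f261777 IH) (Lpe (K23.f281513 IH) (Lpr_cf (K23.f320117 IH) (Lpn (LP (LK LD1_c15 LD2_c3 LD3_c19))))))))))))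
theorem f335282 : Led Lsl_gt (LP (LK LD1_c5 LD2_c24 LD3_c25)) = (LP (LK LD1_c2 LD2_c39 LD3_c0)) :=
  Lgr Lrot149 (Lpe (f195904 IH) (Lpr_gf (K22.f335278 IH) (Lpe (K21.f235155 IH) (Lpe (K22.f235147 IH) (Lpr_gf (K22.f330343 IH) (Lpe (K22.f213721 IH) (Lpr_bt (f320122 IH) (Lpe (f320128 IH) (Lpe (K56.f284839 IH) (Lpr_ct (K56.f320130 IH) (Lpn (LP (LK LD1_c2 LD2_c39 LD3_c0)))))))))))))
theorem f726278 : Led Lsl_gf (LP (LK LD1_c5 LD2_c24 LD3_c25)) = v14714 :=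
  Lgr Lrot47 (Lpr_gt (f335282 IH) (Lpe (K44.f373299 IH) (Lpr_ff (f726274 IH) (Lpn v14714))))
theorem f195903 : Led Lsl_ct (LP (LK LD1_c5 LD2_c24 LD3_c25)) = (LP (LK LD1_c2 LD2_c38 LD3_c45)) :=
  Lre_c IH (LK LD1_c5 LD2_c24 LD3_c25) (LK LD1_c2 LD2_c38 LD3_c45) Lrfl Lrfl
theorem f288623 : Led Lsl_ct (LP (LK LD1_c2 LD2_c38 LD3_c40)) = (LP (LK LD1_c1 LD2_c16 LD3_c15)) :=
  Lre_c IH (LK LD1_c2 LD2_c38 LD3_c40) (LK LD1_c1 LD2_c16 LD3_c15) Lrfl Lrfl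
theorem f288628 : Led Lsl_bt (LP (LK LD1_c2 LD2_c38 LD3_c40)) = (LP (LK LD1_c5 LD2_c24 LD3_c14)) :=
  Lre_b IH (LK LD1_c2 LD2_c38 LD3_c40) (LK LD1_c5 LD2_c24 LD3_c14) Lrfl Lrfl
theorem f288629 : Led Lsl_gt (LP (LK LD1_c5 LD2_c24 LD3_c14)) = (LP (LK LD1_c10 LD2_c39 LD3_c15)) :=
  Lre_g IH (LK LD1_c5 LD2_c24 LD3_c14) (LK LD1_c10 LD2_c39 LD3_c15) Lrfl Lrfl
theorem f726280 : Led Lsl_bt (LP (LK LD1_c19 LD2_c17 LD3_c47)) = (LP (LK LD1_c10 LD2_c39 LD3_c15)) :=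
  Lre_b IH (LK LD1_c19 LD2_c17 LD3_c47) (LK LD1_c10 LD2_c39 LD3_c15) Lrfl Lrfl
theorem f726281 : Led Lsl_ct (LP (LK LD1_c19 LD2_c17 LD3_c47)) = (LP (LK LD1_c28 LD2_c43 LD3_c14)) :=
  Lre_c IH (LK LD1_c19 LD2_c17 LD3_c47) (LK LD1_c28 LD2_c43 LD3_c14) Lrfl Lrfl
theorem f941418 : Led Lsl_gf (LP (LK LD1_c24 LD2_c50 LD3_c41)) = (LP (LK LD1_c28 LD2_c43 LD3_c14)) :=
  Lgr Lrot126 (Lpr_cf (f941412 IH) (Lpe (f941411 IH) (Lpe (f726278 IH) (Lpr_ct (f195903 IH) (Lpr_gt (K22.f195899 IH) (Lpe (f288623 IH) (Lpr_bt (f288628 IH) (Lpr_gt (f288629 IH) (Lpe (f726280 IH) (Lpr_ct (f726281 IH) (Lpn (LP (LK LD1_c28 LD2_c43 LD3_c14)))))))))))))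
theorem f941419 : Led Lsl_gt (LP (LK LD1_c28 LD2_c43 LD3_c14)) = (LP (LK LD1_c24 LD2_c50 LD3_c41)) :=
  Leop (Lpr_gf (f941418 IH) (Lpn (LP (LK LD1_c28 LD2_c43 LD3_c14))))
theorem seed_2665 : LEOK LG_g (LK LD1_c28 LD2_c43 LD3_c14) :=
  Leoe_g (LK LD1_c28 LD2_c43 LD3_c14) (f941419 IH)
def v43632 : LQ := Led Lsl_bt (LP (LK LD1_c10 LD2_c32 LD3_c7))
theorem f941555 : Led Lsl_bt (LP (LK LD1_c10 LD2_c32 LD3_c7)) = v43632 :=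
  Lrfl
theorem f221203 : Led Lsl_ct (LP (LK LD1_c10 LD2_c32 LD3_c7)) = (LP (LK LD1_c5 LD2_c21 LD3_c0)) :=
  Lre_c IH (LK LD1_c10 LD2_c32 LD3_c7) (LK LD1_c5 LD2_c21 LD3_c0) Lrfl Lrfl
theorem f267349 : Led Lsl_ct (LP (LK LD1_c16 LD2_c36 LD3_c44)) = (LP (LK LD1_c10 LD2_c32 LD3_c4)) :=
  Lre_c IH (LK LD1_c16 LD2_c36 LD3_c44) (LK LD1_c10 LD2_c32 LD3_c4) Lrfl Lrfl
theorem f290374 : Led Lsl_bt (LP (LK LD1_c16 LD2_c36 LD3_c44)) = (LP (LK LD1_c8 LD2_c55 LD3_c5)) :=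
  Lre_b IH (LK LD1_c16 LD2_c36 LD3_c44) (LK LD1_c8 LD2_c55 LD3_c5) Lrfl Lrfl
theorem f224520 : Led Lsl_ct (LP (LK LD1_c10 LD2_c54 LD3_c56)) = (LP (LK LD1_c5 LD2_c31 LD3_c36)) :=
  Lre_c IH (LK LD1_c10 LD2_c54 LD3_c56) (LK LD1_c5 LD2_c31 LD3_c36) Lrfl Lrfl
theorem f224526 : Led Lsl_bt (LP (LK LD1_c10 LD2_c54 LD3_c56)) = (LP (LK LD1_c19 LD2_c43 LD3_c1)) :=
  Lre_b IH (LK LD1_c10 LD2_c54 LD3_c56) (LK LD1_c19 LD2_c43 LD3_c1) Lrfl Lrfl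
theorem f941558 : Led Lsl_gt (LP (LK LD1_c19 LD2_c43 LD3_c1)) = v43632 :=
  Lgr Lrot164 (Lpe (f224526 IH) (Lpr_ct (f224520 IH) (Lpe (K67.f290365 IH) (Lpe (K17.f174060 IH) (Lpe (K9.f169328 IH) (Lpe (f290374 IH) (Lpr_ct (f267349 IH) (Lpe (K12.f218317 IH) (Lpe (f221203 IH) (Lpr_bt (f941555 IH) (Lpn v43632)))))))))))
theorem f174433 : Led Lsl_bt (LP (LK LD1_c4 LD2_c28 LD3_c31)) = (LP (LK LD1_c8 LD2_c55 LD3_c12)) :=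
  Lre_b IH (LK LD1_c4 LD2_c28 LD3_c31) (LK LD1_c8 LD2_c55 LD3_c12) Lrfl Lrfl
theorem f213022 : Led Lsl_ct (LP (LK LD1_c8 LD2_c54 LD3_c49)) = (LP (LK LD1_c16 LD2_c40 LD3_c31)) :=
  Lre_c IH (LK LD1_c8 LD2_c54 LD3_c49) (LK LD1_c16 LD2_c40 LD3_c31) Lrfl Lrfl
theorem f221220 : Led Lsl_ct (LP (LK LD1_c5 LD2_c21 LD3_c0)) = (LP (LK LD1_c10 LD2_c32 LD3_c7)) :=
  Lre_c IH (LK LD1_c5 LD2_c21 LD3_c0) (LK LD1_c10 LD2_c32 LD3_c7) Lrfl Lrfl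
theorem f221204 : Led Lsl_ct (LP (LK LD1_c10 LD2_c53 LD3_c40)) = (LP (LK LD1_c10 LD2_c32 LD3_c6)) :=
  Lgr Lrot59 (Lpr_cf (K12.f221198 IH) (Lpn (LP (LK LD1_c10 LD2_c32 LD3_c6))))
theorem f221143 : Led Lsl_bt (LP (LK LD1_c19 LD2_c41 LD3_c13)) = (LP (LK LD1_c10 LD2_c53 LD3_c40)) :=
  Lre_b IH (LK LD1_c19 LD2_c41 LD3_c13) (LK LD1_c10 LD2_c53 LD3_c40) Lrfl Lrfl
theorem f941557 : Led Lsl_cf (LP (LK LD1_c19 LD2_c41 LD3_c13)) = v43632 :=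
  Lgr Lrot97 (Lpr_bt (f221143 IH) (Lpr_ct (f221204 IH) (Lpr_bt (K12.f218318 IH) (Lpr_ct (f221220 IH) (Lpr_bt (f941555 IH) (Lpn v43632))))))
theorem f941560 : Led Lsl_gf (LP (LK LD1_c16 LD2_c40 LD3_c31)) = (LP (LK LD1_c19 LD2_c41 LD3_c13)) :=
  Lgr Lrot129 (Lpe (f213022 IH) (Lpr_bt (K31.f390871 IH) (Lpr_gt (K31.f390930 IH) (Lpe (f174433 IH) (Lpr_ct (K17.f174060 IH) (Lpr_gt (K67.f290365 IH) (Lpe (f224520 IH) (Lpr_bt (f224526 IH) (Lpr_gt (f941558 IH) (Lpe (f941557 IH) (Lpn (LP (LK LD1_c19 LD2_c41 LD3_c13)))))))))))))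
theorem f941561 : Led Lsl_gt (LP (LK LD1_c19 LD2_c41 LD3_c13)) = (LP (LK LD1_c16 LD2_c40 LD3_c31)) :=
  Leop (Lpr_gf (f941560 IH) (Lpn (LP (LK LD1_c19 LD2_c41 LD3_c13))))
theorem seed_2666 : LEOK LG_g (LK LD1_c19 LD2_c41 LD3_c13) :=
  Leoe_g (LK LD1_c19 LD2_c41 LD3_c13) (f941561 IH)
theorem f941556 : Led Lsl_bf (LP (LK LD1_c10 LD2_c32 LD3_c7)) = v43632 :=
  Lgr Lrot24 (Lpr_bt (f941555 IH) (Lpn v43632))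
theorem f168671 : Led Lsl_gt (LP (LK LD1_c10 LD2_c32 LD3_c7)) = (LP (LK LD1_c19 LD2_c5 LD3_c6)) :=
  Lre_g IH (LK LD1_c10 LD2_c32 LD3_c7) (LK LD1_c19 LD2_c5 LD3_c6) Lrfl Lrfl
theorem f375184 : Led Lsl_gt (LP (LK LD1_c8 LD2_c54 LD3_c50)) = (LP (LK LD1_c4 LD2_c28 LD3_c22)) :=
  Lre_g IH (LK LD1_c8 LD2_c54 LD3_c50) (LK LD1_c4 LD2_c28 LD3_c22) Lrfl Lrfl
theorem f375185 : Led Lsl_ct (LP (LK LD1_c16 LD2_c40 LD3_c34)) = (LP (LK LD1_c8 LD2_c54 LD3_c50)) :=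
  Lre_c IH (LK LD1_c16 LD2_c40 LD3_c34) (LK LD1_c8 LD2_c54 LD3_c50) Lrfl Lrfl
theorem f375186 : Led Lsl_bt (LP (LK LD1_c16 LD2_c40 LD3_c34)) = (LP (LK LD1_c15 LD2_c51 LD3_c58)) :=
  Lgr Lrot92 (Lpr_ct (f375185 IH) (Lpr_gt (f375184 IH) (Lpe (K31.f217940 IH) (Lpr_bt (K31.f375138 IH) (Lpe (K18.f295173 IH) (Lpr_ct (K18.f278114 IH) (Lpe (K16.f278109 IH) (Lpr_cf (K16.f271723 IH) (Lpr_bt (K20.f221327 IH) (Lpr_gt (K31.f221393 IH) (Lpn (LP (LK LD1_c15 LD2_c51 LD3_c58)))))))))))))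
theorem f375194 : Led Lsl_gf (LP (LK LD1_c8 LD2_c54 LD3_c50)) = (LP (LK LD1_c16 LD2_c36 LD3_c39)) :=
  Lgr Lrot126 (Lpe (f375185 IH) (Lpr_bt (f375186 IH) (Lpr_gt (K31.f221394 IH) (Lpe (K24.f261734 IH) (Lpr_gt (K30.f213331 IH) (Lpe (K27.f213334 IH) (Lpr_bt (K27.f261742 IH) (Lpe (K31.f369201 IH) (Lpr_bf (K27.f370058 IH) (Lpr_ct (K31.f221509 IH) (Lpn (LP (LK LD1_c16 LD2_c36 LD3_c39)))))))))))))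
theorem f375190 : Led Lsl_ct (LP (LK LD1_c8 LD2_c54 LD3_c50)) = (LP (LK LD1_c16 LD2_c40 LD3_c34)) :=
  Lre_c IH (LK LD1_c8 LD2_c54 LD3_c50) (LK LD1_c16 LD2_c40 LD3_c34) Lrfl Lrfl
theorem f941566 : Led Lsl_gf (LP (LK LD1_c19 LD2_c41 LD3_c13)) = (LP (LK LD1_c16 LD2_c40 LD3_c34)) :=
  Lgr Lrot129 (Lpr_cf (f941557 IH) (Lpe (f941556 IH) (Lpr_gt (f168671 IH) (Lpe (f168653 IH) (Lpr_ct (f168651 IH) (Lpr_gt (K41.f370102 IH) (Lpe (K42.f370104 IH) (Lpr_bt (K27.f367564 IH) (Lpe (f375194 IH) (Lpr_ct (f375190 IH) (Lpn (LP (LK LD1_c16 LD2_c40 LD3_c34)))))))))))))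
theorem f941567 : Led Lsl_gt (LP (LK LD1_c16 LD2_c40 LD3_c34)) = (LP (LK LD1_c19 LD2_c41 LD3_c13)) :=
  Leop (Lpr_gf (f941566 IH) (Lpn (LP (LK LD1_c16 LD2_c40 LD3_c34))))
theorem seed_2667 : LEOK LG_g (LK LD1_c16 LD2_c40 LD3_c34) :=
  Leoe_g (LK LD1_c16 LD2_c40 LD3_c34) (f941567 IH)
def v43686 : LQ := Led Lsl_ft (LP (LK LD1_c10 LD2_c32 LD3_c44))
theorem f941783 : Led Lsl_ft (LP (LK LD1_c10 LD2_c32 LD3_c44)) = v43686 :=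
  Lrfl
theorem f41959 : Led Lsl_gt (LP (LK LD1_c10 LD2_c32 LD3_c44)) = (LP (LK LD1_c19 LD2_c5 LD3_c57)) :=
  Lre_g IH (LK LD1_c10 LD2_c32 LD3_c44) (LK LD1_c19 LD2_c5 LD3_c57) Lrfl Lrfl
theorem f42097 : Led Lsl_df (LP (LK LD1_c11 LD2_c52 LD3_c4)) = (LP (LK LD1_c10 LD2_c32 LD3_c44)) :=
  Lgr Lrot38 (Lpr_dt (K9.f42089 IH) (Lpn (LP (LK LD1_c10 LD2_c32 LD3_c44))))
theorem f42666 : Led Lsl_at (LP (LK LD1_c10 LD2_c32 LD3_c53)) = (LP (LK LD1_c10 LD2_c32 LD3_c44)) :=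
  Lgr Lrot51 (Lpr_df (K9.f42660 IH) (Lpe (K9.f42059 IH) (Lpr_df (f42097 IH) (Lpn (LP (LK LD1_c10 LD2_c32 LD3_c44))))))
theorem f42686 : Led Lsl_ft (LP (LK LD1_c19 LD2_c6 LD3_c12)) = (LP (LK LD1_c10 LD2_c32 LD3_c53)) :=
  Lre_f IH (LK LD1_c19 LD2_c6 LD3_c12) (LK LD1_c10 LD2_c32 LD3_c53) Lrfl Lrfl
theorem f941784 : Led Lsl_af (LP (LK LD1_c19 LD2_c6 LD3_c12)) = v43686 :=
  Lgr Lrot45 (Lpr_ft (f42686 IH) (Lpr_at (f42666 IH) (Lpr_ft (f941783 IH) (Lpn v43686))))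
theorem f941786 : Led Lsl_gt (LP (LK LD1_c19 LD2_c5 LD3_c57)) = (LP (LK LD1_c19 LD2_c6 LD3_c12)) :=
  Lgr Lrot46 (Lpe (f41959 IH) (Lpr_ft (f941783 IH) (Lpe (f941784 IH) (Lpn (LP (LK LD1_c19 LD2_c6 LD3_c12))))))
theorem f941787 : Led Lsl_gt (LP (LK LD1_c19 LD2_c5 LD3_c57)) = (LP (LK LD1_c19 LD2_c6 LD3_c12)) :=
  Leop (Lpe (f941786 IH) (Lpn (LP (LK LD1_c19 LD2_c5 LD3_c57))))
theorem seed_2668 : LEOK LG_g (LK LD1_c19 LD2_c5 LD3_c57) :=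
  Leoe_g (LK LD1_c19 LD2_c5 LD3_c57) (f941787 IH)
def v43691 : LQ := Led Lsl_gt (LP (LK LD1_c10 LD2_c32 LD3_c54))
theorem f941802 : Led Lsl_gt (LP (LK LD1_c10 LD2_c32 LD3_c54)) = v43691 :=
  Lrfl
theorem f941804 : Led Lsl_bt (LP (LK LD1_c10 LD2_c54 LD3_c33)) = v43691 :=
  Lgr Lrot92 (Lpr_ct (K20.f173660 IH) (Lpr_gt (K20.f173658 IH) (Lpe (K20.f173649 IH) (Lpe (K20.f173077 IH) (Lpe (K12.f196418 IH) (Lpr_ct (K17.f196423 IH) (Lpe (K23.f201216 IH) (Lpe (K10.f48051 IH) (Lpr_bt (K10.f48059 IH) (Lpr_gt (f941802 IH) (Lpn v43691)))))))))))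
theorem f238389 : Led Lsl_bt (LP (LK LD1_c15 LD2_c3 LD3_c37)) = (LP (LK LD1_c7 LD2_c58 LD3_c59)) :=
  Lre_b IH (LK LD1_c15 LD2_c3 LD3_c37) (LK LD1_c7 LD2_c58 LD3_c59) Lrfl Lrfl
theorem f941806 : Led Lsl_ff (LP (LK LD1_c15 LD2_c3 LD3_c37)) = v43691 :=
  Lgr Lrot25 (Lpr_bt (f238389 IH) (Lpr_ft (K20.f318431 IH) (Lpr_bt (f941804 IH) (Lpn v43691))))
theorem f218120 : Led Lsl_bt (LP (LK LD1_c15 LD2_c41 LD3_c47)) = (LP (LK LD1_c8 LD2_c20 LD3_c21)) :=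
  Lre_b IH (LK LD1_c15 LD2_c41 LD3_c47) (LK LD1_c8 LD2_c20 LD3_c21) Lrfl Lrfl
theorem f275463 : Led Lsl_ft (LP (LK LD1_c10 LD2_c32 LD3_c54)) = (LP (LK LD1_c15 LD2_c41 LD3_c47)) :=
  Lgr Lrot75 (Lpe (K10.f48059 IH) (Lpr_ff (K16.f275455 IH) (Lpe (f218120 IH) (Lpn (LP (LK LD1_c15 LD2_c41 LD3_c47))))))
theorem f275530 : Led Lsl_at (LP (LK LD1_c15 LD2_c41 LD3_c47)) = (LP (LK LD1_c25 LD2_c37 LD3_c22)) :=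
  Lre_a IH (LK LD1_c15 LD2_c41 LD3_c47) (LK LD1_c25 LD2_c37 LD3_c22) Lrfl Lrfl
theorem f941803 : Led Lsl_gf (LP (LK LD1_c25 LD2_c37 LD3_c22)) = v43691 :=
  Lgr Lrot76 (Lpe (f275530 IH) (Lpe (f275463 IH) (Lpr_gt (f941802 IH) (Lpn v43691))))
theorem f48124 : Led Lsl_gt (LP (LK LD1_c19 LD2_c6 LD3_c13)) = (LP (LK LD1_c10 LD2_c32 LD3_c54)) :=
  Lre_g IH (LK LD1_c19 LD2_c6 LD3_c13) (LK LD1_c10 LD2_c32 LD3_c54) Lrfl Lrfl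
theorem f275586 : Led Lsl_gf (LP (LK LD1_c19 LD2_c6 LD3_c13)) = (LP (LK LD1_c25 LD2_c37 LD3_c22)) :=
  Lgr Lrot47 (Lpr_gt (f48124 IH) (Lpe (K10.f48089 IH) (Lpr_ff (K16.f275581 IH) (Lpn (LP (LK LD1_c25 LD2_c37 LD3_c22))))))
theorem f941808 : Led Lsl_at (LP (LK LD1_c15 LD2_c3 LD3_c37)) = (LP (LK LD1_c19 LD2_c6 LD3_c13)) :=
  Lgr Lrot26 (Lpr_ff (f941806 IH) (Lpe (f941803 IH) (Lpe (f275586 IH) (Lpn (LP (LK LD1_c19 LD2_c6 LD3_c13))))))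
theorem f941809 : Led Lsl_at (LP (LK LD1_c15 LD2_c3 LD3_c37)) = (LP (LK LD1_c19 LD2_c6 LD3_c13)) :=
  Leop (Lpe (f941808 IH) (Lpn (LP (LK LD1_c15 LD2_c3 LD3_c37))))
theorem seed_2669 : LEOK LG_a (LK LD1_c15 LD2_c3 LD3_c37) :=
  Leoe_a (LK LD1_c15 LD2_c3 LD3_c37) (f941809 IH)
def v43700 : LQ := Led Lsl_ct (LP (LK LD1_c10 LD2_c33 LD3_c16))
theorem f941888 : Led Lsl_ct (LP (LK LD1_c10 LD2_c33 LD3_c16)) = v43700 :=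
  Lrfl
theorem f337933 : Led Lsl_bt (LP (LK LD1_c16 LD2_c13 LD3_c24)) = (LP (LK LD1_c10 LD2_c32 LD3_c27)) :=
  Lgr Lrot95 (Lpe (K26.f187953 IH) (Lpr_bf (K22.f337924 IH) (Lpe (K22.f41473 IH) (Lpn (LP (LK LD1_c10 LD2_c32 LD3_c27))))))
theorem f240753 : Led Lsl_ef (LP (LK LD1_c16 LD2_c13 LD3_c24)) = (LP (LK LD1_c10 LD2_c0 LD3_c52)) :=
  Lgr Lrot88 (Lpr_et (K17.f240751 IH) (Lpn (LP (LK LD1_c10 LD2_c0 LD3_c52))))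
theorem f44622 : Led Lsl_gt (LP (LK LD1_c5 LD2_c21 LD3_c29)) = (LP (LK LD1_c10 LD2_c33 LD3_c16)) :=
  Lre_g IH (LK LD1_c5 LD2_c21 LD3_c29) (LK LD1_c10 LD2_c33 LD3_c16) Lrfl Lrfl
theorem f253484 : Led Lsl_ef (LP (LK LD1_c10 LD2_c33 LD3_c16)) = (LP (LK LD1_c10 LD2_c32 LD3_c27)) :=
  Lgr Lrot17 (Lpe (f44622 IH) (Lpe (K16.f44605 IH) (Lpr_dt (K14.f44603 IH) (Lpr_gf (K14.f253477 IH) (Lpe (K14.f231289 IH) (Lpe (K14.f253421 IH) (Lpe (K21.f253431 IH) (Lpe (K21.f7637 IH) (Lpe (K22.f253432 IH) (Lpe (K22.f41473 IH) (Lpn (LP (LK LD1_c10 LD2_c32 LD3_c27)))))))))))))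
theorem f395895 : Led Lsl_bf (LP (LK LD1_c10 LD2_c0 LD3_c52)) = (LP (LK LD1_c10 LD2_c33 LD3_c16)) :=
  Lgr Lrot96 (Lpe (f240753 IH) (Lpr_bt (f337933 IH) (Lpe (f253484 IH) (Lpn (LP (LK LD1_c10 LD2_c33 LD3_c16))))))
theorem f339759 : Led Lsl_gt (LP (LK LD1_c10 LD2_c8 LD3_c6)) = (LP (LK LD1_c15 LD2_c12 LD3_c47)) :=
  Lgr Lrot149 (Lpe (K44.f338814 IH) (Lpe (K22.f190348 IH) (Lpe (K22.f235427 IH) (Lpr_ct (K22.f235428 IH) (Lpr_gf (K22.f339754 IH) (Lpe (K22.f275640 IH) (Lpr_bt (K19.f275637 IH) (Lpr_gf (K16.f275632 IH) (Lpr_bf (K19.f184702 IH) (Lpr_ct (K19.f184704 IH) (Lpn (LP (LK LD1_c15 LD2_c12 LD3_c47)))))))))))))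
theorem f338809 : Led Lsl_ct (LP (LK LD1_c10 LD2_c8 LD3_c9)) = (LP (LK LD1_c18 LD2_c17 LD3_c58)) :=
  Lgr Lrot15 (Lpe (K23.f332921 IH) (Lpr_cf (K53.f338807 IH) (Lpe (K53.f338803 IH) (Lpn (LP (LK LD1_c18 LD2_c17 LD3_c58))))))
theorem f301585 : Led Lsl_et (LP (LK LD1_c9 LD2_c0 LD3_c54)) = (LP (LK LD1_c16 LD2_c50 LD3_c44)) :=
  Lre_e IH (LK LD1_c9 LD2_c0 LD3_c54) (LK LD1_c16 LD2_c50 LD3_c44) Lrfl Lrfl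
theorem f301586 : Led Lsl_ct (LP (LK LD1_c16 LD2_c50 LD3_c44)) = (LP (LK LD1_c10 LD2_c15 LD3_c48)) :=
  Lgr Lrot15 (Lpe (f301585 IH) (Lpr_cf (K18.f301576 IH) (Lpe (K16.f275721 IH) (Lpn (LP (LK LD1_c10 LD2_c15 LD3_c48))))))
theorem f395598 : Led Lsl_gt (LP (LK LD1_c18 LD2_c17 LD3_c58)) = (LP (LK LD1_c16 LD2_c50 LD3_c44)) :=
  Lgr Lrot150 (Lpe (f338809 IH) (Lpe (K19.f216377 IH) (Lpe (K14.f235386 IH) (Lpr_gt (K22.f190348 IH) (Lpr_ct (K44.f338814 IH) (Lpr_gt (f339759 IH) (Lpr_ct (K16.f184706 IH) (Lpr_df (K16.f275865 IH) (Lpe (f301586 IH) (Lpn (LP (LK LD1_c16 LD2_c50 LD3_c44))))))))))))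
theorem f292197 : Led Lsl_dt (LP (LK LD1_c25 LD2_c10 LD3_c21)) = (LP (LK LD1_c15 LD2_c19 LD3_c18)) :=
  Lre_d IH (LK LD1_c25 LD2_c10 LD3_c21) (LK LD1_c15 LD2_c19 LD3_c18) Lrfl Lrfl
theorem f258089 : Led Lsl_ct (LP (LK LD1_c19 LD2_c1 LD3_c5)) = (LP (LK LD1_c10 LD2_c29 LD3_c36)) :=
  Lre_c IH (LK LD1_c19 LD2_c1 LD3_c5) (LK LD1_c10 LD2_c29 LD3_c36) Lrfl Lrfl
theorem f333857 : Led Lsl_gf (LP (LK LD1_c11 LD2_c52 LD3_c49)) = (LP (LK LD1_c19 LD2_c1 LD3_c5)) :=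
  Lgr Lrot144 (Lpr_dt (K22.f333850 IH) (Lpe (K22.f293872 IH) (Lpr_dt (f292197 IH) (Lpe (K18.f269306 IH) (Lpe (K18.f293793 IH) (Lpe (K18.f249213 IH) (Lpe (K18.f249269 IH) (Lpe (K20.f249328 IH) (Lpe (f258089 IH) (Lpn (LP (LK LD1_c19 LD2_c1 LD3_c5))))))))))))
theorem f258085 : Led Lsl_ct (LP (LK LD1_c10 LD2_c29 LD3_c36)) = (LP (LK LD1_c19 LD2_c1 LD3_c5)) :=
  Lre_c IH (LK LD1_c10 LD2_c29 LD3_c36) (LK LD1_c19 LD2_c1 LD3_c5) Lrfl Lrfl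
theorem f371329 : Led Lsl_bf (LP (LK LD1_c18 LD2_c53 LD3_c49)) = (LP (LK LD1_c10 LD2_c29 LD3_c36)) :=
  Lgr Lrot93 (Lpr_dt (K30.f371327 IH) (Lpr_bt (K72.f258083 IH) (Lpr_dt (K20.f258081 IH) (Lpn (LP (LK LD1_c10 LD2_c29 LD3_c36))))))
theorem f395602 : Led Lsl_ct (LP (LK LD1_c10 LD2_c15 LD3_c48)) = (LP (LK LD1_c16 LD2_c50 LD3_c44)) :=
  Lgr Lrot63 (Lpe (K16.f275677 IH) (Lpr_gt (K30.f275681 IH) (Lpr_bf (f371329 IH) (Lpr_ct (f258085 IH) (Lpe (f333857 IH) (Lpr_cf (K25.f256901 IH) (Lpr_bt (K15.f252156 IH) (Lpr_gt (K19.f216377 IH) (Lpr_ct (f338809 IH) (Lpr_gt (f395598 IH) (Lpn (LP (LK LD1_c16 LD2_c50 LD3_c44)))))))))))))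
theorem f352812 : Led Lsl_df (LP (LK LD1_c10 LD2_c47 LD3_c31)) = (LP (LK LD1_c19 LD2_c24 LD3_c11)) :=
  Lgr Lrot132 (Lpe (K25.f352787 IH) (Lpr_df (K25.f352802 IH) (Lpe (K20.f316052 IH) (Lpe (K11.f31247 IH) (Lpr_dt (K10.f28684 IH) (Lpe (K9.f182089 IH) (Lpe (K15.f182097 IH) (Lpr_et (K25.f182103 IH) (Lpe (K25.f352724 IH) (Lpe (K25.f352727 IH) (Lpn (LP (LK LD1_c19 LD2_c24 LD3_c11)))))))))))))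
theorem f352815 : Led Lsl_gt (LP (LK LD1_c10 LD2_c47 LD3_c31)) = (LP (LK LD1_c19 LD2_c31 LD3_c11)) :=
  Lre_g IH (LK LD1_c10 LD2_c47 LD3_c31) (LK LD1_c19 LD2_c31 LD3_c11) Lrfl Lrfl
theorem f362981 : Led Lsl_dt (LP (LK LD1_c15 LD2_c9 LD3_c36)) = (LP (LK LD1_c19 LD2_c31 LD3_c11)) :=
  Lgr Lrot37 (Lpr_et (K23.f340216 IH) (Lpr_gt (K53.f362975 IH) (Lpr_dt (K22.f275644 IH) (Lpr_gt (K54.f358424 IH) (Lpe (K54.f337603 IH) (Lpr_et (K54.f337605 IH) (Lpe (K25.f352616 IH) (Lpe (K25.f352727 IH) (Lpe (f352812 IH) (Lpr_gt (f352815 IH) (Lpn (LP (LK LD1_c19 LD2_c31 LD3_c11)))))))))))))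
theorem f318113 : Led Lsl_et (LP (LK LD1_c19 LD2_c6 LD3_c29)) = (LP (LK LD1_c10 LD2_c33 LD3_c1)) :=
  Lre_e IH (LK LD1_c19 LD2_c6 LD3_c29) (LK LD1_c10 LD2_c33 LD3_c1) Lrfl Lrfl
theorem f362987 : Led Lsl_ef (LP (LK LD1_c18 LD2_c53 LD3_c48)) = (LP (LK LD1_c19 LD2_c31 LD3_c11)) :=
  Lgr Lrot73 (Lpe (K26.f340246 IH) (Lpr_et (f318113 IH) (Lpr_dt (K23.f318109 IH) (Lpe (K23.f340210 IH) (Lpr_dt (f362981 IH) (Lpn (LP (LK LD1_c19 LD2_c31 LD3_c11))))))))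
theorem f362985 : Led Lsl_df (LP (LK LD1_c15 LD2_c9 LD3_c36)) = (LP (LK LD1_c19 LD2_c31 LD3_c11)) :=
  Lgr Lrot38 (Lpr_dt (f362981 IH) (Lpn (LP (LK LD1_c19 LD2_c31 LD3_c11))))
theorem f201222 : Led Lsl_dt (LP (LK LD1_c8 LD2_c7 LD3_c45)) = (LP (LK LD1_c8 LD2_c7 LD3_c45)) :=
  Lgr Lrot60 (Lpe (K15.f201212 IH) (Lpr_df (K10.f45603 IH) (Lpr_ff (K15.f201218 IH) (Lpn (LP (LK LD1_c8 LD2_c7 LD3_c45))))))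
theorem f363020 : Led Lsl_gt (LP (LK LD1_c18 LD2_c53 LD3_c48)) = (LP (LK LD1_c15 LD2_c18 LD3_c39)) :=
  Lgr Lrot137 (Lpr_ef (f362987 IH) (Lpe (f362985 IH) (Lpr_gf (K25.f324296 IH) (Lpe (f201222 IH) (Lpr_et (K15.f201120 IH) (Lpe (K12.f223194 IH) (Lpe (K16.f223211 IH) (Lpr_dt (K16.f223212 IH) (Lpr_gf (K16.f275632 IH) (Lpe (K16.f275658 IH) (Lpn (LP (LK LD1_c15 LD2_c18 LD3_c39)))))))))))))
theorem f253057 : Led Lsl_ct (LP (LK LD1_c5 LD2_c1 LD3_c28)) = (LP (LK LD1_c9 LD2_c53 LD3_c15)) :=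
  Lre_c IH (LK LD1_c5 LD2_c1 LD3_c28) (LK LD1_c9 LD2_c53 LD3_c15) Lrfl Lrfl
theorem f326446 : Led Lsl_bf (LP (LK LD1_c9 LD2_c53 LD3_c14)) = (LP (LK LD1_c10 LD2_c8 LD3_c10)) :=
  Lgr Lrot96 (Lpe (K21.f313260 IH) (Lpr_bt (K22.f326440 IH) (Lpe (K22.f314606 IH) (Lpn (LP (LK LD1_c10 LD2_c8 LD3_c10))))))
theorem f395608 : Led Lsl_gf (LP (LK LD1_c18 LD2_c17 LD3_c59)) = (LP (LK LD1_c16 LD2_c50 LD3_c44)) :=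
  Lgr Lrot126 (Lpe (K53.f304190 IH) (Lpe (f326446 IH) (Lpr_gt (K21.f252956 IH) (Lpr_ct (f253057 IH) (Lpr_gt (K27.f253067 IH) (Lpe (K27.f323714 IH) (Lpr_bt (K27.f340248 IH) (Lpr_gt (f363020 IH) (Lpr_bf (K16.f275677 IH) (Lpr_ct (f395602 IH) (Lpn (LP (LK LD1_c16 LD2_c50 LD3_c44)))))))))))))
theorem f323772 : Led Lsl_bt (LP (LK LD1_c9 LD2_c52 LD3_c61)) = (LP (LK LD1_c5 LD2_c1 LD3_c28)) :=
  Lre_b IH (LK LD1_c9 LD2_c52 LD3_c61) (LK LD1_c5 LD2_c1 LD3_c28) Lrfl Lrfl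
theorem f370636 : Led Lsl_et (LP (LK LD1_c10 LD2_c33 LD3_c20)) = (LP (LK LD1_c19 LD2_c7 LD3_c0)) :=
  Lre_e IH (LK LD1_c10 LD2_c33 LD3_c20) (LK LD1_c19 LD2_c7 LD3_c0) Lrfl Lrfl
theorem f253100 : Led Lsl_et (LP (LK LD1_c18 LD2_c5 LD3_c41)) = (LP (LK LD1_c9 LD2_c53 LD3_c16)) :=
  Lre_e IH (LK LD1_c18 LD2_c5 LD3_c41) (LK LD1_c9 LD2_c53 LD3_c16) Lrfl Lrfl
theorem f370650 : Led Lsl_ct (LP (LK LD1_c19 LD2_c7 LD3_c0)) = (LP (LK LD1_c18 LD2_c5 LD3_c41)) :=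
  Lgr Lrot15 (Lpe (f370636 IH) (Lpr_cf (K72.f370640 IH) (Lpe (f253100 IH) (Lpn (LP (LK LD1_c18 LD2_c5 LD3_c41))))))
theorem f370658 : Led Lsl_bt (LP (LK LD1_c10 LD2_c33 LD3_c22)) = (LP (LK LD1_c19 LD2_c7 LD3_c0)) :=
  Lre_b IH (LK LD1_c10 LD2_c33 LD3_c22) (LK LD1_c19 LD2_c7 LD3_c0) Lrfl Lrfl
theorem f253053 : Led Lsl_bt (LP (LK LD1_c18 LD2_c5 LD3_c41)) = (LP (LK LD1_c9 LD2_c53 LD3_c15)) :=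
  Lre_b IH (LK LD1_c18 LD2_c5 LD3_c41) (LK LD1_c9 LD2_c53 LD3_c15) Lrfl Lrfl
theorem f253114 : Led Lsl_bt (LP (LK LD1_c5 LD2_c1 LD3_c28)) = (LP (LK LD1_c9 LD2_c52 LD3_c61)) :=
  Lre_b IH (LK LD1_c5 LD2_c1 LD3_c28) (LK LD1_c9 LD2_c52 LD3_c61) Lrfl Lrfl
theorem f370659 : Led Lsl_cf (LP (LK LD1_c10 LD2_c33 LD3_c22)) = (LP (LK LD1_c9 LD2_c52 LD3_c61)) :=
  Lgr Lrot97 (Lpr_bt (f370658 IH) (Lpr_ct (f370650 IH) (Lpr_bt (f253053 IH) (Lpr_ct (K25.f247904 IH) (Lpr_bt (f253114 IH) (Lpn (LP (LK LD1_c9 LD2_c52 LD3_c61))))))))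
theorem f941894 : Led Lsl_gt (LP (LK LD1_c10 LD2_c33 LD3_c22)) = v43700 :=
  Lgr Lrot65 (Lpr_cf (f370659 IH) (Lpr_bt (f323772 IH) (Lpe (K21.f252956 IH) (Lpr_bf (f326446 IH) (Lpr_ct (K53.f304190 IH) (Lpr_gf (f395608 IH) (Lpe (f395602 IH) (Lpe (K17.f275735 IH) (Lpr_bf (f395895 IH) (Lpr_ct (f941888 IH) (Lpn v43700)))))))))))
theorem f370664 : Led Lsl_bt (LP (LK LD1_c19 LD2_c7 LD3_c0)) = (LP (LK LD1_c10 LD2_c33 LD3_c22)) :=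
  Lre_b IH (LK LD1_c19 LD2_c7 LD3_c0) (LK LD1_c10 LD2_c33 LD3_c22) Lrfl Lrfl
theorem f253096 : Led Lsl_gt (LP (LK LD1_c27 LD2_c46 LD3_c53)) = (LP (LK LD1_c18 LD2_c5 LD3_c41)) :=
  Lre_g IH (LK LD1_c27 LD2_c46 LD3_c53) (LK LD1_c18 LD2_c5 LD3_c41) Lrfl Lrfl
theorem f253097 : Led Lsl_ct (LP (LK LD1_c32 LD2_c28 LD3_c26)) = (LP (LK LD1_c27 LD2_c46 LD3_c53)) :=
  Lre_c IH (LK LD1_c32 LD2_c28 LD3_c26) (LK LD1_c27 LD2_c46 LD3_c53) Lrfl Lrfl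
theorem f941890 : Led Lsl_cf (LP (LK LD1_c10 LD2_c33 LD3_c16)) = v43700 :=
  Lgr Lrot11 (Lpr_ct (f941888 IH) (Lpn v43700))
theorem f288643 : Led Lsl_gt (LP (LK LD1_c10 LD2_c33 LD3_c16)) = (LP (LK LD1_c5 LD2_c23 LD3_c51)) :=
  Lgr Lrot137 (Lpr_ef (f253484 IH) (Lpr_dt (K22.f41473 IH) (Lpe (K22.f41465 IH) (Lpr_df (K1.f41424 IH) (Lpr_et (K1.f41421 IH) (Lpe (K9.f41435 IH) (Lpe (K17.f41475 IH) (Lpr_dt (K17.f41476 IH) (Lpe (K17.f288620 IH) (Lpr_df (K17.f288634 IH) (Lpn (LP (LK LD1_c5 LD2_c23 LD3_c51)))))))))))))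
theorem f288637 : Led Lsl_ct (LP (LK LD1_c10 LD2_c38 LD3_c20)) = (LP (LK LD1_c5 LD2_c23 LD3_c51)) :=
  Lre_c IH (LK LD1_c10 LD2_c38 LD3_c20) (LK LD1_c5 LD2_c23 LD3_c51) Lrfl Lrfl
theorem f288646 : Led Lsl_bt (LP (LK LD1_c10 LD2_c38 LD3_c20)) = (LP (LK LD1_c19 LD2_c16 LD3_c24)) :=
  Lre_b IH (LK LD1_c10 LD2_c38 LD3_c20) (LK LD1_c19 LD2_c16 LD3_c24) Lrfl Lrfl
theorem f288647 : Led Lsl_gt (LP (LK LD1_c19 LD2_c16 LD3_c24)) = (LP (LK LD1_c28 LD2_c42 LD3_c34)) :=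
  Lre_g IH (LK LD1_c19 LD2_c16 LD3_c24) (LK LD1_c28 LD2_c42 LD3_c34) Lrfl Lrfl
theorem f941895 : Led Lsl_bt (LP (LK LD1_c32 LD2_c28 LD3_c26)) = (LP (LK LD1_c28 LD2_c42 LD3_c34)) :=
  Lgr Lrot92 (Lpr_ct (f253097 IH) (Lpr_gt (f253096 IH) (Lpe (f370650 IH) (Lpr_bt (f370664 IH) (Lpr_gt (f941894 IH) (Lpe (f941890 IH) (Lpr_gt (f288643 IH) (Lpe (f288637 IH) (Lpr_bt (f288646 IH) (Lpr_gt (f288647 IH) (Lpn (LP (LK LD1_c28 LD2_c42 LD3_c34)))))))))))))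
theorem f941896 : Led Lsl_bt (LP (LK LD1_c32 LD2_c28 LD3_c26)) = (LP (LK LD1_c28 LD2_c42 LD3_c34)) :=
  Leop (Lpe (f941895 IH) (Lpn (LP (LK LD1_c32 LD2_c28 LD3_c26))))
theorem seed_2670 : LEOK LG_b (LK LD1_c32 LD2_c28 LD3_c26) :=
  Leoe_b (LK LD1_c32 LD2_c28 LD3_c26) (f941896 IH)
def v43757 : LQ := Led Lsl_bt (LP (LK LD1_c10 LD2_c34 LD3_c35))
theorem f942123 : Led Lsl_bt (LP (LK LD1_c10 LD2_c34 LD3_c35)) = v43757 :=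
  Lrfl
theorem f8951 : Led Lsl_ct (LP (LK LD1_c10 LD2_c34 LD3_c35)) = (LP (LK LD1_c5 LD2_c22 LD3_c4)) :=
  Lre_c IH (LK LD1_c10 LD2_c34 LD3_c35) (LK LD1_c5 LD2_c22 LD3_c4) Lrfl Lrfl
theorem f8937 : Led Lsl_ct (LP (LK LD1_c5 LD2_c27 LD3_c3)) = (LP (LK LD1_c10 LD2_c34 LD3_c32)) :=
  Lre_c IH (LK LD1_c5 LD2_c27 LD3_c3) (LK LD1_c10 LD2_c34 LD3_c32) Lrfl Lrfl
theorem f8718 : Led Lsl_et (LP (LK LD1_c10 LD2_c45 LD3_c10)) = (LP (LK LD1_c5 LD2_c27 LD3_c3)) :=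
  Lre_e IH (LK LD1_c10 LD2_c45 LD3_c10) (LK LD1_c5 LD2_c27 LD3_c3) Lrfl Lrfl
theorem f8720 : Led Lsl_bt (LP (LK LD1_c5 LD2_c27 LD3_c3)) = (LP (LK LD1_c6 LD2_c6 LD3_c40)) :=
  Lgr Lrot119 (Lpe (f8718 IH) (Lpr_bf (K0.f8659 IH) (Lpe (K0.f8719 IH) (Lpn (LP (LK LD1_c6 LD2_c6 LD3_c40))))))
theorem f190185 : Led Lsl_gt (LP (LK LD1_c6 LD2_c6 LD3_c40)) = (LP (LK LD1_c2 LD2_c59 LD3_c28)) :=
  Lre_g IH (LK LD1_c6 LD2_c6 LD3_c40) (LK LD1_c2 LD2_c59 LD3_c28) Lrfl Lrfl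
theorem f446700 : Led Lsl_gt (LP (LK LD1_c6 LD2_c6 LD3_c44)) = (LP (LK LD1_c11 LD2_c56 LD3_c27)) :=
  Lre_g IH (LK LD1_c6 LD2_c6 LD3_c44) (LK LD1_c11 LD2_c56 LD3_c27) Lrfl Lrfl
theorem f412205 : Led Lsl_gt (LP (LK LD1_c9 LD2_c15 LD3_c15)) = (LP (LK LD1_c6 LD2_c6 LD3_c47)) :=
  Lre_g IH (LK LD1_c9 LD2_c15 LD3_c15) (LK LD1_c6 LD2_c6 LD3_c47) Lrfl Lrfl
theorem f412206 : Led Lsl_ct (LP (LK LD1_c6 LD2_c6 LD3_c47)) = (LP (LK LD1_c11 LD2_c56 LD3_c36)) :=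
  Lre_c IH (LK LD1_c6 LD2_c6 LD3_c47) (LK LD1_c11 LD2_c56 LD3_c36) Lrfl Lrfl
theorem f35200 : Led Lsl_bt (LP (LK LD1_c18 LD2_c50 LD3_c38)) = (LP (LK LD1_c10 LD2_c23 LD3_c9)) :=
  Lre_b IH (LK LD1_c18 LD2_c50 LD3_c38) (LK LD1_c10 LD2_c23 LD3_c9) Lrfl Lrfl
theorem f163989 : Led Lsl_bt (LP (LK LD1_c10 LD2_c18 LD3_c55)) = (LP (LK LD1_c18 LD2_c43 LD3_c47)) :=
  Lre_b IH (LK LD1_c10 LD2_c18 LD3_c55) (LK LD1_c18 LD2_c43 LD3_c47) Lrfl Lrfl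
theorem f180655 : Led Lsl_cf (LP (LK LD1_c18 LD2_c50 LD3_c38)) = (LP (LK LD1_c18 LD2_c43 LD3_c47)) :=
  Lgr Lrot97 (Lpr_bt (f35200 IH) (Lpr_ct (K72.f180650 IH) (Lpr_bt (K72.f163988 IH) (Lpr_ct (K71.f163987 IH) (Lpr_bt (f163989 IH) (Lpn (LP (LK LD1_c18 LD2_c43 LD3_c47))))))))
theorem f618637 : Led Lsl_gt (LP (LK LD1_c11 LD2_c56 LD3_c36)) = (LP (LK LD1_c18 LD2_c50 LD3_c38)) :=
  Lgr Lrot149 (Lpe (f412206 IH) (Lpe (f412205 IH) (Lpe (f8913 IH) (Lpr_ct (f8894 IH) (Lpr_gf (f412201 IH) (Lpe (K71.f412203 IH) (Lpr_bt (K71.f618633 IH) (Lpe (K71.f163986 IH) (Lpe (K71.f180647 IH) (Lpe (f180655 IH) (Lpn (LP (LK LD1_c18 LD2_c50 LD3_c38)))))))))))))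
theorem f195411 : Led Lsl_dt (LP (LK LD1_c9 LD2_c15 LD3_c15)) = (LP (LK LD1_c6 LD2_c6 LD3_c40)) :=
  Lre_d IH (LK LD1_c9 LD2_c15 LD3_c15) (LK LD1_c6 LD2_c6 LD3_c40) Lrfl Lrfl
theorem f180645 : Led Lsl_bt (LP (LK LD1_c10 LD2_c23 LD3_c9)) = (LP (LK LD1_c18 LD2_c50 LD3_c38)) :=
  Lre_b IH (LK LD1_c10 LD2_c23 LD3_c9) (LK LD1_c18 LD2_c50 LD3_c38) Lrfl Lrfl
theorem f163985 : Led Lsl_ct (LP (LK LD1_c10 LD2_c18 LD3_c55)) = (LP (LK LD1_c5 LD2_c14 LD3_c43)) :=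
  Lre_c IH (LK LD1_c10 LD2_c18 LD3_c55) (LK LD1_c5 LD2_c14 LD3_c43) Lrfl Lrfl
theorem f180648 : Led Lsl_ct (LP (LK LD1_c18 LD2_c50 LD3_c38)) = (LP (LK LD1_c18 LD2_c43 LD3_c47)) :=
  Lgr Lrot83 (Lpe (f180645 IH) (Lpr_cf (K72.f180639 IH) (Lpe (K72.f180646 IH) (Lpe (f163985 IH) (Lpe (K71.f180647 IH) (Lpn (LP (LK LD1_c18 LD2_c43 LD3_c47))))))))
theorem f55593 : Led Lsl_ct (LP (LK LD1_c8 LD2_c14 LD3_c36)) = (LP (LK LD1_c15 LD2_c30 LD3_c27)) :=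
  Lre_c IH (LK LD1_c8 LD2_c14 LD3_c36) (LK LD1_c15 LD2_c30 LD3_c27) Lrfl Lrfl
theorem f186513 : Led Lsl_ct (LP (LK LD1_c5 LD2_c18 LD3_c50)) = (LP (LK LD1_c10 LD2_c27 LD3_c27)) :=
  Lre_c IH (LK LD1_c5 LD2_c18 LD3_c50) (LK LD1_c10 LD2_c27 LD3_c27) Lrfl Lrfl
theorem f186594 : Led Lsl_bt (LP (LK LD1_c10 LD2_c27 LD3_c27)) = (LP (LK LD1_c18 LD2_c57 LD3_c31)) :=
  Lre_b IH (LK LD1_c10 LD2_c27 LD3_c27) (LK LD1_c18 LD2_c57 LD3_c31) Lrfl Lrfl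
theorem f164019 : Led Lsl_bt (LP (LK LD1_c18 LD2_c43 LD3_c29)) = (LP (LK LD1_c10 LD2_c18 LD3_c30)) :=
  Lre_b IH (LK LD1_c18 LD2_c43 LD3_c29) (LK LD1_c10 LD2_c18 LD3_c30) Lrfl Lrfl
theorem f186597 : Led Lsl_ct (LP (LK LD1_c18 LD2_c57 LD3_c31)) = (LP (LK LD1_c18 LD2_c43 LD3_c29)) :=
  Lgr Lrot83 (Lpe (f186594 IH) (Lpe (f186513 IH) (Lpe (K44.f186514 IH) (Lpr_cf (K45.f186586 IH) (Lpe (f164019 IH) (Lpn (LP (LK LD1_c18 LD2_c43 LD3_c29))))))))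
theorem f603489 : Led Lsl_gt (LP (LK LD1_c15 LD2_c30 LD3_c27)) = (LP (LK LD1_c18 LD2_c57 LD3_c31)) :=
  Lgr Lrot150 (Lpe (f55593 IH) (Lpe (K30.f54806 IH) (Lpe (K56.f54800 IH) (Lpr_gt (K39.f54890 IH) (Lpr_ct (K39.f178254 IH) (Lpr_gt (K39.f178255 IH) (Lpe (K39.f187587 IH) (Lpr_df (f603460 IH) (Lpe (f186597 IH) (Lpn (LP (LK LD1_c18 LD2_c57 LD3_c31))))))))))))
theorem f495519 : Led Lsl_bt (LP (LK LD1_c8 LD2_c14 LD3_c36)) = (LP (LK LD1_c15 LD2_c30 LD3_c26)) :=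
  Lre_b IH (LK LD1_c8 LD2_c14 LD3_c36) (LK LD1_c15 LD2_c30 LD3_c26) Lrfl Lrfl
theorem f186582 : Led Lsl_bt (LP (LK LD1_c18 LD2_c57 LD3_c31)) = (LP (LK LD1_c10 LD2_c27 LD3_c27)) :=
  Lre_b IH (LK LD1_c18 LD2_c57 LD3_c31) (LK LD1_c10 LD2_c27 LD3_c27) Lrfl Lrfl
theorem f186584 : Led Lsl_cf (LP (LK LD1_c18 LD2_c57 LD3_c31)) = (LP (LK LD1_c18 LD2_c43 LD3_c29)) :=
  Lgr Lrot97 (Lpr_bt (f186582 IH) (Lpr_ct (f186581 IH) (Lpr_bt (K45.f186580 IH) (Lpr_ct (K44.f186578 IH) (Lpr_bt (f186583 IH) (Lpn (LP (LK LD1_c18 LD2_c43 LD3_c29))))))))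
theorem f603493 : Led Lsl_gf (LP (LK LD1_c15 LD2_c30 LD3_c26)) = (LP (LK LD1_c18 LD2_c43 LD3_c47)) :=
  Lgr Lrot124 (Lpe (f495519 IH) (Lpr_ct (f55593 IH) (Lpr_gt (f603489 IH) (Lpr_cf (f186584 IH) (Lpr_bt (f164019 IH) (Lpr_gt (K44.f163941 IH) (Lpr_ct (K10.f163939 IH) (Lpr_gt (K45.f163981 IH) (Lpe (f163985 IH) (Lpr_bt (f163989 IH) (Lpn (LP (LK LD1_c18 LD2_c43 LD3_c47)))))))))))))
theorem f495513 : Led Lsl_ct (LP (LK LD1_c9 LD2_c15 LD3_c8)) = (LP (LK LD1_c4 LD2_c39 LD3_c51)) :=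
  Lre_c IH (LK LD1_c9 LD2_c15 LD3_c8) (LK LD1_c4 LD2_c39 LD3_c51) Lrfl Lrfl
theorem f265280 : Led Lsl_dt (LP (LK LD1_c4 LD2_c39 LD3_c51)) = (LP (LK LD1_c2 LD2_c59 LD3_c31)) :=
  Lre_d IH (LK LD1_c4 LD2_c39 LD3_c51) (LK LD1_c2 LD2_c59 LD3_c31) Lrfl Lrfl
theorem f183023 : Led Lsl_ct (LP (LK LD1_c6 LD2_c5 LD3_c19)) = (LP (LK LD1_c2 LD2_c59 LD3_c31)) :=
  Lre_c IH (LK LD1_c6 LD2_c5 LD3_c19) (LK LD1_c2 LD2_c59 LD3_c31) Lrfl Lrfl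
theorem f187595 : Led Lsl_gt (LP (LK LD1_c15 LD2_c30 LD3_c14)) = (LP (LK LD1_c8 LD2_c14 LD3_c29)) :=
  Lre_g IH (LK LD1_c15 LD2_c30 LD3_c14) (LK LD1_c8 LD2_c14 LD3_c29) Lrfl Lrfl
theorem f603495 : Led Lsl_dt (LP (LK LD1_c15 LD2_c30 LD3_c14)) = (LP (LK LD1_c18 LD2_c43 LD3_c47)) :=
  Lgr Lrot6 (Lpr_gt (f187595 IH) (Lpe (K39.f554890 IH) (Lpr_gt (K39.f554903 IH) (Lpr_ct (f183023 IH) (Lpe (f265280 IH) (Lpe (f495513 IH) (Lpe (K30.f495516 IH) (Lpe (K30.f495517 IH) (Lpr_gf (f603493 IH) (Lpn (LP (LK LD1_c18 LD2_c43 LD3_c47))))))))))))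
theorem f618641 : Led Lsl_ct (LP (LK LD1_c11 LD2_c56 LD3_c27)) = (LP (LK LD1_c15 LD2_c30 LD3_c14)) :=
  Lgr Lrot110 (Lpe (f446700 IH) (Lpe (K71.f257338 IH) (Lpe (f190185 IH) (Lpe (f195411 IH) (Lpr_gt (f412205 IH) (Lpr_ct (f412206 IH) (Lpr_gt (f618637 IH) (Lpr_ct (f180648 IH) (Lpe (f603495 IH) (Lpn (LP (LK LD1_c15 LD2_c30 LD3_c14))))))))))))
theorem f618643 : Led Lsl_cf (LP (LK LD1_c11 LD2_c56 LD3_c27)) = (LP (LK LD1_c15 LD2_c30 LD3_c14)) :=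
  Lgr Lrot11 (Lpr_ct (f618641 IH) (Lpn (LP (LK LD1_c15 LD2_c30 LD3_c14))))
def v42925 : LQ := Led Lsl_dt (LP (LK LD1_c10 LD2_c18 LD3_c55))
theorem f936975 : Led Lsl_dt (LP (LK LD1_c10 LD2_c18 LD3_c55)) = v42925 :=
  Lrfl
theorem f936979 : Led Lsl_df (LP (LK LD1_c10 LD2_c18 LD3_c55)) = v42925 :=
  Lgr Lrot38 (Lpr_dt (f936975 IH) (Lpn v42925))
theorem f495524 : Led Lsl_dt (LP (LK LD1_c2 LD2_c59 LD3_c31)) = (LP (LK LD1_c4 LD2_c39 LD3_c51)) :=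
  Lre_d IH (LK LD1_c2 LD2_c59 LD3_c31) (LK LD1_c4 LD2_c39 LD3_c51) Lrfl Lrfl
theorem f603497 : Led Lsl_df (LP (LK LD1_c15 LD2_c30 LD3_c14)) = (LP (LK LD1_c18 LD2_c43 LD3_c47)) :=
  Lgr Lrot155 (Lpr_gt (f187595 IH) (Lpe (K39.f554890 IH) (Lpr_gt (K39.f554903 IH) (Lpr_ct (f183023 IH) (Lpr_dt (f495524 IH) (Lpe (f495513 IH) (Lpe (K30.f495516 IH) (Lpe (K30.f495517 IH) (Lpr_gf (f603493 IH) (Lpn (LP (LK LD1_c18 LD2_c43 LD3_c47))))))))))))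
theorem f936984 : Led Lsl_bt (LP (LK LD1_c15 LD2_c30 LD3_c14)) = v42925 :=
  Lgr Lrot95 (Lpr_df (f603497 IH) (Lpe (f163989 IH) (Lpr_df (f936979 IH) (Lpn v42925))))
theorem f942126 : Led Lsl_gt v42925 = v43757 :=
  Lgr Lrot164 (Lpe (f936984 IH) (Lpe (f618643 IH) (Lpe (f446700 IH) (Lpe (K71.f257338 IH) (Lpe (f190185 IH) (Lpe (f8720 IH) (Lpr_ct (f8937 IH) (Lpe (K70.f8950 IH) (Lpe (f8951 IH) (Lpr_bt (f942123 IH) (Lpn v43757)))))))))))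
def v41698 : LQ := Led Lsl_ct (LP (LK LD1_c10 LD2_c0 LD3_c15))
theorem f927941 : Led Lsl_ct (LP (LK LD1_c10 LD2_c0 LD3_c15)) = v41698 :=
  Lrfl
theorem f28377 : Led Lsl_bt (LP (LK LD1_c1 LD2_c11 LD3_c40)) = (LP (LK LD1_c0 LD2_c33 LD3_c12)) :=
  Lre_b IH (LK LD1_c1 LD2_c11 LD3_c40) (LK LD1_c0 LD2_c33 LD3_c12) Lrfl Lrfl
theorem f412893 : Led Lsl_at (LP (LK LD1_c18 LD2_c57 LD3_c35)) = (LP (LK LD1_c10 LD2_c27 LD3_c29)) :=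
  Lre_a IH (LK LD1_c18 LD2_c57 LD3_c35) (LK LD1_c10 LD2_c27 LD3_c29) Lrfl Lrfl
theorem f586213 : Led Lsl_ft (LP (LK LD1_c20 LD2_c34 LD3_c19)) = (LP (LK LD1_c18 LD2_c57 LD3_c35)) :=
  Lgr Lrot101 (Lpe (K44.f583618 IH) (Lpr_ff (K45.f586211 IH) (Lpe (f412893 IH) (Lpn (LP (LK LD1_c18 LD2_c57 LD3_c35))))))
theorem f585183 : Led Lsl_at (LP (LK LD1_c18 LD2_c33 LD3_c46)) = (LP (LK LD1_c18 LD2_c57 LD3_c4)) :=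
  Lgr Lrot100 (Lpr_af (f585181 IH) (Lpn (LP (LK LD1_c18 LD2_c57 LD3_c4))))
theorem f585233 : Led Lsl_gt (LP (LK LD1_c18 LD2_c10 LD3_c55)) = (LP (LK LD1_c10 LD2_c27 LD3_c29)) :=
  Lgr Lrot5 (Lpe (K45.f585177 IH) (Lpr_at (f585183 IH) (Lpr_gf (K45.f585231 IH) (Lpn (LP (LK LD1_c10 LD2_c27 LD3_c29))))))
theorem f604205 : Led Lsl_gt (LP (LK LD1_c20 LD2_c34 LD3_c19)) = (LP (LK LD1_c18 LD2_c10 LD3_c55)) :=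
  Lgr Lrot5 (Lpr_ft (f586213 IH) (Lpr_at (f412893 IH) (Lpe (f585233 IH) (Lpn (LP (LK LD1_c18 LD2_c10 LD3_c55))))))
theorem f927945 : Led Lsl_bf (LP (LK LD1_c20 LD2_c34 LD3_c19)) = v41698 :=
  Lgr Lrot184 (Lpr_gt (f604205 IH) (Lpr_dt (K45.f583488 IH) (Lpr_ct (K38.f405307 IH) (Lpr_bt (K44.f582775 IH) (Lpr_gt (K9.f183983 IH) (Lpr_dt (K9.f183987 IH) (Lpr_ct (K15.f183988 IH) (Lpe (K14.f230444 IH) (Lpe (K14.f251560 IH) (Lpr_dt (K18.f251562 IH) (Lpr_ct (K14.f194149 IH) (Lpr_bt (f28377 IH) (Lpe (K26.f313272 IH) (Lpr_dt (K19.f313280 IH) (Lpr_ct (K11.f198814 IH) (Lpr_bt (K45.f198845 IH) (Lpr_gt (K56.f198841 IH) (Lpqs (K71.f923268 IH) (Lpe (K71.f727128 IH) (Lpr_ct (f927941 IH) (Lpn v41698)))))))))))))))))))))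
theorem f583629 : Led Lsl_at (LP (LK LD1_c20 LD2_c34 LD3_c19)) = (LP (LK LD1_c11 LD2_c36 LD3_c10)) :=
  Lre_a IH (LK LD1_c20 LD2_c34 LD3_c19) (LK LD1_c11 LD2_c36 LD3_c10) Lrfl Lrfl
theorem f927946 : Led Lsl_at (LP (LK LD1_c10 LD2_c27 LD3_c26)) = v41698 :=
  Lgr Lrot67 (Lpe (K45.f186580 IH) (Lpe (K45.f586450 IH) (Lpe (K44.f166180 IH) (Lpe (f583629 IH) (Lpr_bf (f927945 IH) (Lpn v41698))))))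
theorem f927949 : Led Lsl_gt (LP (LK LD1_c18 LD2_c32 LD3_c33)) = v41698 :=
  Lgr Lrot46 (Lpe (K71.f922684 IH) (Lpr_ft (K45.f586472 IH) (Lpr_at (f927946 IH) (Lpn v41698))))
theorem f927943 : Led Lsl_cf (LP (LK LD1_c10 LD2_c0 LD3_c15)) = v41698 :=
  Lgr Lrot11 (Lpr_ct (f927941 IH) (Lpn v41698))
theorem f727129 : Led Lsl_ff (LP (LK LD1_c5 LD2_c26 LD3_c60)) = K71.v14891 :=
  Lgr Lrot3 (Lpr_ft (K71.f727126 IH) (Lpn K71.v14891))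
theorem f603527 : Led Lsl_ff (LP (LK LD1_c10 LD2_c0 LD3_c15)) = (LP (LK LD1_c10 LD2_c18 LD3_c29)) :=
  Lgr Lrot3 (Lpr_ft (K71.f603523 IH) (Lpn (LP (LK LD1_c10 LD2_c18 LD3_c29))))
theorem f727131 : Led Lsl_dt (LP (LK LD1_c10 LD2_c0 LD3_c15)) = K71.v14891 :=
  Lgr Lrot60 (Lpr_ff (f603527 IH) (Lpr_df (K45.f586526 IH) (Lpr_ff (f727129 IH) (Lpn K71.v14891))))
theorem f396409 : Led Lsl_gt (LP (LK LD1_c21 LD2_c0 LD3_c60)) = (LP (LK LD1_c11 LD2_c56 LD3_c9)) :=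
  Lre_g IH (LK LD1_c21 LD2_c0 LD3_c60) (LK LD1_c11 LD2_c56 LD3_c9) Lrfl Lrfl
theorem f942127 : Led Lsl_cf (LP (LK LD1_c21 LD2_c0 LD3_c60)) = v43757 :=
  Lgr Lrot169 (Lpr_gt (f396409 IH) (Lpr_ct (K56.f198842 IH) (Lpqs (K71.f923268 IH) (Lpe (f727131 IH) (Lpr_cf (f927943 IH) (Lpe (f927949 IH) (Lpe (K71.f180703 IH) (Lpe (K71.f163986 IH) (Lpr_df (f936979 IH) (Lpr_gt (f942126 IH) (Lpn v43757)))))))))))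
theorem f942129 : Led Lsl_ct (LP (LK LD1_c21 LD2_c0 LD3_c60)) = v43757 :=
  Lgr Lrot59 (Lpr_cf (f942127 IH) (Lpn v43757))
theorem f942124 : Led Lsl_bf (LP (LK LD1_c10 LD2_c34 LD3_c35)) = v43757 :=
  Lgr Lrot24 (Lpr_bt (f942123 IH) (Lpn v43757))
theorem f726385 : Led Lsl_bt (LP (LK LD1_c5 LD2_c22 LD3_c4)) = (LP (LK LD1_c10 LD2_c34 LD3_c34)) :=
  Lre_b IH (LK LD1_c5 LD2_c22 LD3_c4) (LK LD1_c10 LD2_c34 LD3_c34) Lrfl Lrfl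
theorem f942132 : Led Lsl_bf (LP (LK LD1_c21 LD2_c0 LD3_c60)) = K70.v40220 :=
  Lgr Lrot90 (Lpr_ct (f942129 IH) (Lpe (f942124 IH) (Lpr_ct (f8951 IH) (Lpr_bt (f726385 IH) (Lpr_ct (K70.f915064 IH) (Lpn K70.v40220))))))
theorem f190033 : Led Lsl_at (LP (LK LD1_c8 LD2_c27 LD3_c23)) = (LP (LK LD1_c15 LD2_c52 LD3_c44)) :=
  Lre_a IH (LK LD1_c8 LD2_c27 LD3_c23) (LK LD1_c15 LD2_c52 LD3_c44) Lrfl Lrfl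
theorem f315487 : Led Lsl_bf (LP (LK LD1_c11 LD2_c56 LD3_c12)) = (LP (LK LD1_c15 LD2_c52 LD3_c44)) :=
  Lgr Lrot81 (Lpr_at (K53.f256179 IH) (Lpr_bt (K45.f256177 IH) (Lpr_at (K20.f315472 IH) (Lpr_bt (K67.f190044 IH) (Lpr_at (f190033 IH) (Lpn (LP (LK LD1_c15 LD2_c52 LD3_c44))))))))
theorem f878263 : Led Lsl_bt (LP (LK LD1_c10 LD2_c45 LD3_c5)) = K67.v35771 :=
  Lgr Lrot35 (Lpr_ff (K53.f396422 IH) (Lpr_bf (f315487 IH) (Lpr_ff (K67.f878261 IH) (Lpn K67.v35771))))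
theorem f190043 : Led Lsl_gt (LP (LK LD1_c15 LD2_c52 LD3_c43)) = (LP (LK LD1_c8 LD2_c27 LD3_c23)) :=
  Lre_g IH (LK LD1_c15 LD2_c52 LD3_c43) (LK LD1_c8 LD2_c27 LD3_c23) Lrfl Lrfl
theorem f878265 : Led Lsl_gf (LP (LK LD1_c15 LD2_c52 LD3_c43)) = K67.v35771 :=
  Lgr Lrot47 (Lpr_gt (f190043 IH) (Lpe (K67.f190038 IH) (Lpr_ff (K67.f878261 IH) (Lpn K67.v35771))))
theorem f190047 : Led Lsl_bt (LP (LK LD1_c25 LD2_c48 LD3_c43)) = (LP (LK LD1_c15 LD2_c52 LD3_c43)) :=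
  Lre_b IH (LK LD1_c25 LD2_c48 LD3_c43) (LK LD1_c15 LD2_c52 LD3_c43) Lrfl Lrfl
theorem f915065 : Led Lsl_cf (LP (LK LD1_c10 LD2_c34 LD3_c34)) = K70.v40220 :=
  Lgr Lrot11 (Lpr_ct (K70.f915064 IH) (Lpn K70.v40220))
theorem f942133 : Led Lsl_ct (LP (LK LD1_c25 LD2_c48 LD3_c43)) = (LP (LK LD1_c19 LD2_c9 LD3_c35)) :=
  Lgr Lrot64 (Lpr_bt (f190047 IH) (Lpr_gf (f878265 IH) (Lpe (f878263 IH) (Lpr_ct (K71.f396407 IH) (Lpr_gf (K56.f396405 IH) (Lpe (K56.f198842 IH) (Lpe (f396409 IH) (Lpr_bf (f942132 IH) (Lpe (f915065 IH) (Lpe (K70.f560052 IH) (Lpn (LP (LK LD1_c19 LD2_c9 LD3_c35)))))))))))))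
theorem f942134 : Led Lsl_ct (LP (LK LD1_c25 LD2_c48 LD3_c43)) = (LP (LK LD1_c19 LD2_c9 LD3_c35)) :=
  Leop (Lpe (f942133 IH) (Lpn (LP (LK LD1_c25 LD2_c48 LD3_c43))))
theorem seed_2671 : LEOK LG_c (LK LD1_c25 LD2_c48 LD3_c43) :=
  Leoe_c (LK LD1_c25 LD2_c48 LD3_c43) (f942134 IH)
def v43759 : LQ := Led Lsl_ft (LP (LK LD1_c10 LD2_c34 LD3_c35))
theorem f942142 : Led Lsl_ft (LP (LK LD1_c10 LD2_c34 LD3_c35)) = v43759 :=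
  Lrfl
def v43755 : LQ := Led Lsl_gt (LP (LK LD1_c10 LD2_c34 LD3_c35))
theorem f942118 : Led Lsl_gt (LP (LK LD1_c10 LD2_c34 LD3_c35)) = v43755 :=
  Lrfl
def v43751 : LQ := Led Lsl_ct (LP (LK LD1_c10 LD2_c34 LD3_c33))
theorem f942097 : Led Lsl_ct (LP (LK LD1_c10 LD2_c34 LD3_c33)) = v43751 :=
  Lrfl
theorem f726384 : Led Lsl_at (LP (LK LD1_c5 LD2_c22 LD3_c4)) = (LP (LK LD1_c10 LD2_c34 LD3_c33)) :=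
  Lre_a IH (LK LD1_c5 LD2_c22 LD3_c4) (LK LD1_c10 LD2_c34 LD3_c33) Lrfl Lrfl
theorem f942098 : Led Lsl_af (LP (LK LD1_c10 LD2_c34 LD3_c35)) = v43751 :=
  Lgr Lrot68 (Lpr_ct (f8951 IH) (Lpr_at (f726384 IH) (Lpr_ct (f942097 IH) (Lpn v43751))))
theorem f726400 : Led Lsl_ft (LP (LK LD1_c5 LD2_c22 LD3_c5)) = (LP (LK LD1_c10 LD2_c34 LD3_c33)) :=
  Lre_f IH (LK LD1_c5 LD2_c22 LD3_c5) (LK LD1_c10 LD2_c34 LD3_c33) Lrfl Lrfl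
def v14736 : LQ := Led Lsl_ct (LP (LK LD1_c5 LD2_c22 LD3_c5))
theorem f726391 : Led Lsl_ct (LP (LK LD1_c5 LD2_c22 LD3_c5)) = v14736 :=
  Lrfl
theorem f726393 : Led Lsl_cf (LP (LK LD1_c5 LD2_c22 LD3_c5)) = v14736 :=
  Lgr Lrot11 (Lpr_ct (f726391 IH) (Lpn v14736))
theorem f942100 : Led Lsl_ff v14736 = v43751 :=
  Lgr Lrot23 (Lpe (f726393 IH) (Lpr_ft (f726400 IH) (Lpr_ct (f942097 IH) (Lpn v43751))))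
theorem f942103 : Led Lsl_ft v14736 = v43751 :=
  Lgr Lrot48 (Lpr_ff (f942100 IH) (Lpn v43751))
theorem f942143 : Led Lsl_af v14736 = v43759 :=
  Lgr Lrot45 (Lpr_ft (f942103 IH) (Lpe (f942098 IH) (Lpr_ft (f942142 IH) (Lpn v43759))))
theorem f942146 : Led Lsl_gt v43755 = v14736 :=
  Lgr Lrot46 (Lpe (f942118 IH) (Lpr_ft (f942142 IH) (Lpe (f942143 IH) (Lpn v14736))))
theorem f726386 : Led Lsl_ct (LP (LK LD1_c5 LD2_c22 LD3_c4)) = (LP (LK LD1_c10 LD2_c34 LD3_c35)) :=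
  Lre_c IH (LK LD1_c5 LD2_c22 LD3_c4) (LK LD1_c10 LD2_c34 LD3_c35) Lrfl Lrfl
theorem f198934 : Led Lsl_gt (LP (LK LD1_c2 LD2_c37 LD3_c34)) = (LP (LK LD1_c5 LD2_c22 LD3_c4)) :=
  Lre_g IH (LK LD1_c2 LD2_c37 LD3_c34) (LK LD1_c5 LD2_c22 LD3_c4) Lrfl Lrfl
theorem f198933 : Led Lsl_bt (LP (LK LD1_c1 LD2_c15 LD3_c48)) = (LP (LK LD1_c2 LD2_c37 LD3_c34)) :=
  Lre_b IH (LK LD1_c1 LD2_c15 LD3_c48) (LK LD1_c2 LD2_c37 LD3_c34) Lrfl Lrfl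
theorem f194821 : Led Lsl_bt (LP (LK LD1_c2 LD2_c37 LD3_c30)) = (LP (LK LD1_c5 LD2_c21 LD3_c54)) :=
  Lre_b IH (LK LD1_c2 LD2_c37 LD3_c30) (LK LD1_c5 LD2_c21 LD3_c54) Lrfl Lrfl
theorem f199103 : Led Lsl_gt (LP (LK LD1_c10 LD2_c34 LD3_c3)) = (LP (LK LD1_c5 LD2_c21 LD3_c54)) :=
  Lre_g IH (LK LD1_c10 LD2_c34 LD3_c3) (LK LD1_c5 LD2_c21 LD3_c54) Lrfl Lrfl
def v43734 : LQ := Led Lsl_bt (LP (LK LD1_c10 LD2_c34 LD3_c3))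
theorem f942034 : Led Lsl_bt (LP (LK LD1_c10 LD2_c34 LD3_c3)) = v43734 :=
  Lrfl
theorem f942035 : Led Lsl_bf (LP (LK LD1_c10 LD2_c34 LD3_c3)) = v43734 :=
  Lgr Lrot24 (Lpr_bt (f942034 IH) (Lpn v43734))
theorem f942119 : Led Lsl_ct v43734 = v43755 :=
  Lgr Lrot63 (Lpe (f942035 IH) (Lpr_gt (f199103 IH) (Lpe (f194821 IH) (Lpr_ct (K12.f194820 IH) (Lpr_gt (K11.f47949 IH) (Lpe (K12.f46458 IH) (Lpr_bt (f198933 IH) (Lpr_gt (f198934 IH) (Lpr_ct (f726386 IH) (Lpr_gt (f942118 IH) (Lpn v43755)))))))))))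
theorem f308237 : Led Lsl_ft (LP (LK LD1_c5 LD2_c13 LD3_c42)) = (LP (LK LD1_c5 LD2_c6 LD3_c46)) :=
  Lgr Lrot48 (Lpr_ff (K19.f308232 IH) (Lpn (LP (LK LD1_c5 LD2_c6 LD3_c46))))
theorem f201825 : Led Lsl_bt (LP (LK LD1_c10 LD2_c17 LD3_c33)) = (LP (LK LD1_c5 LD2_c13 LD3_c42)) :=
  Lre_b IH (LK LD1_c10 LD2_c17 LD3_c33) (LK LD1_c5 LD2_c13 LD3_c42) Lrfl Lrfl
theorem f240971 : Led Lsl_bt (LP (LK LD1_c5 LD2_c6 LD3_c46)) = (LP (LK LD1_c10 LD2_c4 LD3_c17)) :=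
  Lre_b IH (LK LD1_c5 LD2_c6 LD3_c46) (LK LD1_c10 LD2_c4 LD3_c17) Lrfl Lrfl
theorem f405069 : Led Lsl_ff (LP (LK LD1_c10 LD2_c17 LD3_c33)) = (LP (LK LD1_c10 LD2_c4 LD3_c17)) :=
  Lgr Lrot25 (Lpr_bt (f201825 IH) (Lpr_ft (f308237 IH) (Lpr_bt (f240971 IH) (Lpn (LP (LK LD1_c10 LD2_c4 LD3_c17))))))
theorem f201571 : Led Lsl_bt (LP (LK LD1_c5 LD2_c13 LD3_c42)) = (LP (LK LD1_c10 LD2_c17 LD3_c33)) :=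
  Lre_b IH (LK LD1_c5 LD2_c13 LD3_c42) (LK LD1_c10 LD2_c17 LD3_c33) Lrfl Lrfl
theorem f201771 : Led Lsl_df (LP (LK LD1_c8 LD2_c37 LD3_c53)) = (LP (LK LD1_c10 LD2_c17 LD3_c33)) :=
  Lgr Lrot12 (Lpr_bt (K21.f33022 IH) (Lpr_dt (K15.f201748 IH) (Lpr_bt (f201571 IH) (Lpn (LP (LK LD1_c10 LD2_c17 LD3_c33))))))
theorem f225615 : Led Lsl_bt (LP (LK LD1_c10 LD2_c4 LD3_c17)) = (LP (LK LD1_c5 LD2_c6 LD3_c46)) :=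
  Lre_b IH (LK LD1_c10 LD2_c4 LD3_c17) (LK LD1_c5 LD2_c6 LD3_c46) Lrfl Lrfl
theorem f28971 : Led Lsl_bt (LP (LK LD1_c4 LD2_c3 LD3_c34)) = (LP (LK LD1_c8 LD2_c7 LD3_c44)) :=
  Lre_b IH (LK LD1_c4 LD2_c3 LD3_c34) (LK LD1_c8 LD2_c7 LD3_c44) Lrfl Lrfl
theorem f240953 : Led Lsl_df (LP (LK LD1_c10 LD2_c4 LD3_c17)) = (LP (LK LD1_c8 LD2_c7 LD3_c44)) :=
  Lgr Lrot12 (Lpr_bt (f225615 IH) (Lpr_dt (K13.f240949 IH) (Lpr_bt (f28971 IH) (Lpn (LP (LK LD1_c8 LD2_c7 LD3_c44))))))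
theorem f405074 : Led Lsl_ft (LP (LK LD1_c8 LD2_c37 LD3_c53)) = (LP (LK LD1_c8 LD2_c7 LD3_c44)) :=
  Lgr Lrot54 (Lpr_df (f201771 IH) (Lpr_ff (f405069 IH) (Lpr_df (f240953 IH) (Lpn (LP (LK LD1_c8 LD2_c7 LD3_c44))))))
theorem f405079 : Led Lsl_ff (LP (LK LD1_c8 LD2_c37 LD3_c53)) = (LP (LK LD1_c8 LD2_c7 LD3_c44)) :=
  Lgr Lrot3 (Lpr_ft (f405074 IH) (Lpn (LP (LK LD1_c8 LD2_c7 LD3_c44))))
theorem f198949 : Led Lsl_ct (LP (LK LD1_c8 LD2_c7 LD3_c42)) = (LP (LK LD1_c4 LD2_c3 LD3_c32)) :=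
  Lre_c IH (LK LD1_c8 LD2_c7 LD3_c42) (LK LD1_c4 LD2_c3 LD3_c32) Lrfl Lrfl
theorem f198950 : Led Lsl_bt (LP (LK LD1_c15 LD2_c18 LD3_c23)) = (LP (LK LD1_c8 LD2_c7 LD3_c42)) :=
  Lre_b IH (LK LD1_c15 LD2_c18 LD3_c23) (LK LD1_c8 LD2_c7 LD3_c42) Lrfl Lrfl
theorem f198952 : Led Lsl_bt (LP (LK LD1_c5 LD2_c21 LD3_c56)) = (LP (LK LD1_c10 LD2_c34 LD3_c6)) :=
  Lre_b IH (LK LD1_c5 LD2_c21 LD3_c56) (LK LD1_c10 LD2_c34 LD3_c6) Lrfl Lrfl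
theorem f198953 : Led Lsl_cf (LP (LK LD1_c15 LD2_c18 LD3_c23)) = (LP (LK LD1_c10 LD2_c34 LD3_c6)) :=
  Lgr Lrot97 (Lpr_bt (f198950 IH) (Lpr_ct (f198949 IH) (Lpr_bt (K12.f198945 IH) (Lpr_ct (K12.f198951 IH) (Lpr_bt (f198952 IH) (Lpn (LP (LK LD1_c10 LD2_c34 LD3_c6))))))))
theorem f199072 : Led Lsl_ct (LP (LK LD1_c15 LD2_c18 LD3_c23)) = (LP (LK LD1_c10 LD2_c34 LD3_c6)) :=
  Lgr Lrot59 (Lpr_cf (f198953 IH) (Lpn (LP (LK LD1_c10 LD2_c34 LD3_c6))))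
theorem f199086 : Led Lsl_et (LP (LK LD1_c8 LD2_c7 LD3_c44)) = (LP (LK LD1_c15 LD2_c18 LD3_c23)) :=
  Lre_e IH (LK LD1_c8 LD2_c7 LD3_c44) (LK LD1_c15 LD2_c18 LD3_c23) Lrfl Lrfl
theorem f199087 : Led Lsl_et (LP (LK LD1_c10 LD2_c34 LD3_c6)) = (LP (LK LD1_c5 LD2_c21 LD3_c54)) :=
  Lre_e IH (LK LD1_c10 LD2_c34 LD3_c6) (LK LD1_c5 LD2_c21 LD3_c54) Lrfl Lrfl
theorem f199088 : Led Lsl_cf (LP (LK LD1_c8 LD2_c7 LD3_c44)) = (LP (LK LD1_c5 LD2_c21 LD3_c54)) :=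
  Lgr Lrot39 (Lpr_et (f199086 IH) (Lpr_ct (f199072 IH) (Lpr_et (f199087 IH) (Lpn (LP (LK LD1_c5 LD2_c21 LD3_c54))))))
theorem f405085 : Led Lsl_ft (LP (LK LD1_c10 LD2_c30 LD3_c32)) = (LP (LK LD1_c5 LD2_c21 LD3_c54)) :=
  Lgr Lrot4 (Lpr_cf (K21.f308663 IH) (Lpr_ff (f405079 IH) (Lpr_cf (f199088 IH) (Lpn (LP (LK LD1_c5 LD2_c21 LD3_c54))))))
theorem f308670 : Led Lsl_at (LP (LK LD1_c19 LD2_c2 LD3_c38)) = (LP (LK LD1_c10 LD2_c30 LD3_c32)) :=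
  Lre_a IH (LK LD1_c19 LD2_c2 LD3_c38) (LK LD1_c10 LD2_c30 LD3_c32) Lrfl Lrfl
theorem f199110 : Led Lsl_at (LP (LK LD1_c5 LD2_c21 LD3_c54)) = (LP (LK LD1_c10 LD2_c34 LD3_c4)) :=
  Lre_a IH (LK LD1_c5 LD2_c21 LD3_c54) (LK LD1_c10 LD2_c34 LD3_c4) Lrfl Lrfl
theorem f405100 : Led Lsl_ff (LP (LK LD1_c19 LD2_c2 LD3_c38)) = (LP (LK LD1_c10 LD2_c34 LD3_c4)) :=
  Lgr Lrot30 (Lpr_at (f308670 IH) (Lpr_ft (f405085 IH) (Lpr_at (f199110 IH) (Lpn (LP (LK LD1_c10 LD2_c34 LD3_c4))))))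
theorem f405112 : Led Lsl_ft (LP (LK LD1_c19 LD2_c2 LD3_c38)) = (LP (LK LD1_c10 LD2_c34 LD3_c4)) :=
  Lgr Lrot48 (Lpr_ff (f405100 IH) (Lpn (LP (LK LD1_c10 LD2_c34 LD3_c4))))
theorem f199095 : Led Lsl_at (LP (LK LD1_c10 LD2_c34 LD3_c4)) = (LP (LK LD1_c5 LD2_c21 LD3_c54)) :=
  Lre_a IH (LK LD1_c10 LD2_c34 LD3_c4) (LK LD1_c5 LD2_c21 LD3_c54) Lrfl Lrfl
theorem f405116 : Led Lsl_gt (LP (LK LD1_c19 LD2_c2 LD3_c38)) = (LP (LK LD1_c10 LD2_c34 LD3_c3)) :=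
  Lgr Lrot5 (Lpr_ft (f405112 IH) (Lpr_at (f199095 IH) (Lpe (f199103 IH) (Lpn (LP (LK LD1_c10 LD2_c34 LD3_c3))))))
theorem f409215 : Led Lsl_bt (LP (LK LD1_c15 LD2_c25 LD3_c38)) = (LP (LK LD1_c19 LD2_c7 LD3_c38)) :=
  Lgr Lrot127 (Lpr_bf (K21.f284651 IH) (Lpn (LP (LK LD1_c19 LD2_c7 LD3_c38))))
theorem f308628 : Led Lsl_bt (LP (LK LD1_c16 LD2_c9 LD3_c60)) = (LP (LK LD1_c16 LD2_c11 LD3_c22)) :=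
  Lgr Lrot127 (Lpr_bf (K21.f308311 IH) (Lpn (LP (LK LD1_c16 LD2_c11 LD3_c22))))
theorem f253339 : Led Lsl_ct (LP (LK LD1_c19 LD2_c7 LD3_c38)) = (LP (LK LD1_c10 LD2_c33 LD3_c50)) :=
  Lre_c IH (LK LD1_c19 LD2_c7 LD3_c38) (LK LD1_c10 LD2_c33 LD3_c50) Lrfl Lrfl
theorem f409217 : Led Lsl_bf (LP (LK LD1_c19 LD2_c2 LD3_c38)) = (LP (LK LD1_c10 LD2_c33 LD3_c50)) :=
  Lgr Lrot90 (Lpr_ct (K21.f308667 IH) (Lpr_bt (f308628 IH) (Lpe (K21.f308682 IH) (Lpr_bt (f409215 IH) (Lpr_ct (f253339 IH) (Lpn (LP (LK LD1_c10 LD2_c33 LD3_c50))))))))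
theorem f253374 : Led Lsl_bt (LP (LK LD1_c4 LD2_c27 LD3_c59)) = (LP (LK LD1_c8 LD2_c53 LD3_c55)) :=
  Lre_b IH (LK LD1_c4 LD2_c27 LD3_c59) (LK LD1_c8 LD2_c53 LD3_c55) Lrfl Lrfl
theorem f253375 : Led Lsl_ft (LP (LK LD1_c8 LD2_c53 LD3_c55)) = (LP (LK LD1_c5 LD2_c21 LD3_c48)) :=
  Lgr Lrot75 (Lpe (f253374 IH) (Lpr_ff (K14.f253372 IH) (Lpe (K21.f189365 IH) (Lpn (LP (LK LD1_c5 LD2_c21 LD3_c48))))))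
theorem f231306 : Led Lsl_bt (LP (LK LD1_c4 LD2_c5 LD3_c24)) = (LP (LK LD1_c8 LD2_c11 LD3_c42)) :=
  Lre_b IH (LK LD1_c4 LD2_c5 LD3_c24) (LK LD1_c8 LD2_c11 LD3_c42) Lrfl Lrfl
theorem f231376 : Led Lsl_bt (LP (LK LD1_c8 LD2_c53 LD3_c55)) = (LP (LK LD1_c4 LD2_c27 LD3_c59)) :=
  Lre_b IH (LK LD1_c8 LD2_c53 LD3_c55) (LK LD1_c4 LD2_c27 LD3_c59) Lrfl Lrfl
theorem f231377 : Led Lsl_ct (LP (LK LD1_c8 LD2_c11 LD3_c42)) = (LP (LK LD1_c8 LD2_c53 LD3_c55)) :=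
  Lgr Lrot83 (Lpe (f231306 IH) (Lpr_cf (K14.f183834 IH) (Lpr_bf (K13.f231371 IH) (Lpe (K14.f231375 IH) (Lpe (f231376 IH) (Lpn (LP (LK LD1_c8 LD2_c53 LD3_c55))))))))
theorem f187508 : Led Lsl_ct (LP (LK LD1_c5 LD2_c21 LD3_c48)) = (LP (LK LD1_c10 LD2_c33 LD3_c40)) :=
  Lre_c IH (LK LD1_c5 LD2_c21 LD3_c48) (LK LD1_c10 LD2_c33 LD3_c40) Lrfl Lrfl
theorem f417371 : Led Lsl_ff (LP (LK LD1_c8 LD2_c11 LD3_c42)) = (LP (LK LD1_c10 LD2_c33 LD3_c40)) :=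
  Lgr Lrot23 (Lpr_ct (f231377 IH) (Lpr_ft (f253375 IH) (Lpr_ct (f187508 IH) (Lpn (LP (LK LD1_c10 LD2_c33 LD3_c40))))))
theorem f417382 : Led Lsl_ft (LP (LK LD1_c8 LD2_c11 LD3_c42)) = (LP (LK LD1_c10 LD2_c33 LD3_c40)) :=
  Lgr Lrot48 (Lpr_ff (f417371 IH) (Lpn (LP (LK LD1_c10 LD2_c33 LD3_c40))))
theorem f231307 : Led Lsl_gt (LP (LK LD1_c8 LD2_c11 LD3_c42)) = (LP (LK LD1_c15 LD2_c25 LD3_c43)) :=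
  Lre_g IH (LK LD1_c8 LD2_c11 LD3_c42) (LK LD1_c15 LD2_c25 LD3_c43) Lrfl Lrfl
theorem f417391 : Led Lsl_gt (LP (LK LD1_c15 LD2_c25 LD3_c43)) = (LP (LK LD1_c19 LD2_c7 LD3_c38)) :=
  Lgr Lrot46 (Lpe (f231307 IH) (Lpr_ft (f417382 IH) (Lpr_at (K21.f253330 IH) (Lpn (LP (LK LD1_c19 LD2_c7 LD3_c38))))))
theorem f726390 : Led Lsl_bt (LP (LK LD1_c5 LD2_c22 LD3_c5)) = (LP (LK LD1_c10 LD2_c34 LD3_c39)) :=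
  Lre_b IH (LK LD1_c5 LD2_c22 LD3_c5) (LK LD1_c10 LD2_c34 LD3_c39) Lrfl Lrfl
theorem f726399 : Led Lsl_gt (LP (LK LD1_c10 LD2_c34 LD3_c39)) = (LP (LK LD1_c19 LD2_c9 LD3_c45)) :=
  Lre_g IH (LK LD1_c10 LD2_c34 LD3_c39) (LK LD1_c19 LD2_c9 LD3_c45) Lrfl Lrfl
theorem f942147 : Led Lsl_cf (LP (LK LD1_c15 LD2_c25 LD3_c43)) = (LP (LK LD1_c19 LD2_c9 LD3_c45)) :=
  Lgr Lrot125 (Lpr_gt (f417391 IH) (Lpe (K21.f253337 IH) (Lpe (f409217 IH) (Lpr_gt (f405116 IH) (Lpr_bf (f942035 IH) (Lpr_ct (f942119 IH) (Lpr_gt (f942146 IH) (Lpe (f726391 IH) (Lpr_bt (f726390 IH) (Lpr_gt (f726399 IH) (Lpn (LP (LK LD1_c19 LD2_c9 LD3_c45)))))))))))))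
theorem f942148 : Led Lsl_ct (LP (LK LD1_c19 LD2_c9 LD3_c45)) = (LP (LK LD1_c15 LD2_c25 LD3_c43)) :=
  Leop (Lpr_cf (f942147 IH) (Lpn (LP (LK LD1_c19 LD2_c9 LD3_c45))))
theorem seed_2672 : LEOK LG_c (LK LD1_c19 LD2_c9 LD3_c45) :=
  Leoe_c (LK LD1_c19 LD2_c9 LD3_c45) (f942148 IH)
def v43799 : LQ := Led Lsl_at (LP (LK LD1_c10 LD2_c35 LD3_c19))
theorem f942345 : Led Lsl_at (LP (LK LD1_c10 LD2_c35 LD3_c19)) = v43799 :=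
  Lrfl
theorem f403381 : Led Lsl_gt (LP (LK LD1_c10 LD2_c37 LD3_c20)) = (LP (LK LD1_c11 LD2_c5 LD3_c50)) :=
  Lgr Lrot164 (Lpe (K19.f279534 IH) (Lpr_ct (K31.f279537 IH) (Lpr_gf (K20.f311268 IH) (Lpr_cf (K20.f311618 IH) (Lpe (K20.f189439 IH) (Lpe (K30.f178045 IH) (Lpr_ct (K30.f178046 IH) (Lpe (K40.f226604 IH) (Lpe (K40.f226606 IH) (Lpr_bt (K68.f354563 IH) (Lpn (LP (LK LD1_c11 LD2_c5 LD3_c50)))))))))))))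
theorem f942350 : Led Lsl_gt (LP (LK LD1_c11 LD2_c5 LD3_c50)) = v43799 :=
  Lgr Lrot46 (Lpe (f403381 IH) (Lpr_ft (K19.f279535 IH) (Lpr_at (f942345 IH) (Lpn v43799))))
theorem f883310 : Led Lsl_ff (LP (LK LD1_c19 LD2_c59 LD3_c6)) = (LP (LK LD1_c26 LD2_c48 LD3_c28)) :=
  Lgr Lrot3 (Lpr_ft (K68.f883306 IH) (Lpn (LP (LK LD1_c26 LD2_c48 LD3_c28))))
theorem f403398 : Led Lsl_dt (LP (LK LD1_c19 LD2_c59 LD3_c6)) = (LP (LK LD1_c11 LD2_c5 LD3_c50)) :=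
  Lre_d IH (LK LD1_c19 LD2_c59 LD3_c6) (LK LD1_c11 LD2_c5 LD3_c50) Lrfl Lrfl
theorem f303285 : Led Lsl_dt (LP (LK LD1_c16 LD2_c50 LD3_c60)) = (LP (LK LD1_c26 LD2_c48 LD3_c28)) :=
  Lre_d IH (LK LD1_c16 LD2_c50 LD3_c60) (LK LD1_c26 LD2_c48 LD3_c28) Lrfl Lrfl
theorem f883332 : Led Lsl_ft (LP (LK LD1_c11 LD2_c5 LD3_c50)) = (LP (LK LD1_c16 LD2_c50 LD3_c60)) :=
  Lgr Lrot54 (Lpe (f403398 IH) (Lpr_ff (f883310 IH) (Lpe (f303285 IH) (Lpn (LP (LK LD1_c16 LD2_c50 LD3_c60))))))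
theorem f883336 : Led Lsl_af (LP (LK LD1_c11 LD2_c5 LD3_c50)) = (LP (LK LD1_c19 LD2_c10 LD3_c47)) :=
  Lgr Lrot0 (Lpr_at (K68.f883334 IH) (Lpn (LP (LK LD1_c19 LD2_c10 LD3_c47))))
theorem f883398 : Led Lsl_af (LP (LK LD1_c19 LD2_c14 LD3_c27)) = (LP (LK LD1_c16 LD2_c50 LD3_c60)) :=
  Lgr Lrot45 (Lpr_ft (K68.f883396 IH) (Lpe (f883336 IH) (Lpr_ft (f883332 IH) (Lpn (LP (LK LD1_c16 LD2_c50 LD3_c60))))))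
theorem f942351 : Led Lsl_gf (LP (LK LD1_c19 LD2_c14 LD3_c27)) = v43799 :=
  Lgr Lrot76 (Lpr_af (f883398 IH) (Lpe (f883332 IH) (Lpr_gt (f942350 IH) (Lpn v43799))))
theorem f226507 : Led Lsl_dt (LP (LK LD1_c29 LD2_c13 LD3_c48)) = (LP (LK LD1_c19 LD2_c58 LD3_c49)) :=
  Lre_d IH (LK LD1_c29 LD2_c13 LD3_c48) (LK LD1_c19 LD2_c58 LD3_c49) Lrfl Lrfl
theorem f234060 : Led Lsl_bt (LP (LK LD1_c18 LD2_c2 LD3_c47)) = (LP (LK LD1_c9 LD2_c51 LD3_c33)) :=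
  Lre_b IH (LK LD1_c18 LD2_c2 LD3_c47) (LK LD1_c9 LD2_c51 LD3_c33) Lrfl Lrfl
theorem f345272 : Led Lsl_at (LP (LK LD1_c27 LD2_c44 LD3_c31)) = (LP (LK LD1_c18 LD2_c2 LD3_c47)) :=
  Lre_a IH (LK LD1_c27 LD2_c44 LD3_c31) (LK LD1_c18 LD2_c2 LD3_c47) Lrfl Lrfl
theorem f345273 : Led Lsl_bf (LP (LK LD1_c27 LD2_c44 LD3_c31)) = (LP (LK LD1_c19 LD2_c18 LD3_c23)) :=
  Lgr Lrot81 (Lpr_at (f345272 IH) (Lpr_bt (f234060 IH) (Lpr_at (K23.f345270 IH) (Lpr_bt (K22.f279628 IH) (Lpr_at (K22.f338208 IH) (Lpn (LP (LK LD1_c19 LD2_c18 LD3_c23))))))))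
theorem f354560 : Led Lsl_ct (LP (LK LD1_c19 LD2_c59 LD3_c8)) = (LP (LK LD1_c11 LD2_c5 LD3_c51)) :=
  Lre_c IH (LK LD1_c19 LD2_c59 LD3_c8) (LK LD1_c11 LD2_c5 LD3_c51) Lrfl Lrfl
theorem f388273 : Led Lsl_gt (LP (LK LD1_c19 LD2_c47 LD3_c54)) = (LP (LK LD1_c19 LD2_c59 LD3_c8)) :=
  Lgr Lrot150 (Lpe (K71.f379833 IH) (Lpr_gf (K45.f388266 IH) (Lpe (K45.f189133 IH) (Lpr_gt (K22.f313032 IH) (Lpr_ct (K30.f313038 IH) (Lpr_gt (K50.f354553 IH) (Lpr_ct (K50.f226607 IH) (Lpe (K68.f354559 IH) (Lpe (f354560 IH) (Lpn (LP (LK LD1_c19 LD2_c59 LD3_c8))))))))))))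
theorem f409939 : Led Lsl_gf (LP (LK LD1_c27 LD2_c44 LD3_c31)) = (LP (LK LD1_c19 LD2_c59 LD3_c6)) :=
  Lgr Lrot124 (Lpr_bf (f345273 IH) (Lpr_ct (K45.f338140 IH) (Lpr_gt (K45.f409935 IH) (Lpe (K45.f399908 IH) (Lpe (K45.f409931 IH) (Lpe (K45.f388266 IH) (Lpr_ct (K71.f379833 IH) (Lpr_gt (f388273 IH) (Lpe (K68.f385058 IH) (Lpr_bt (K68.f388275 IH) (Lpn (LP (LK LD1_c19 LD2_c59 LD3_c6)))))))))))))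
theorem f277388 : Led Lsl_gt (LP (LK LD1_c27 LD2_c38 LD3_c27)) = (LP (LK LD1_c17 LD2_c51 LD3_c51)) :=
  Lre_g IH (LK LD1_c27 LD2_c38 LD3_c27) (LK LD1_c17 LD2_c51 LD3_c51) Lrfl Lrfl
theorem f346085 : Led Lsl_gt (LP (LK LD1_c27 LD2_c44 LD3_c31)) = (LP (LK LD1_c27 LD2_c38 LD3_c27)) :=
  Lgr Lrot5 (Lpr_ft (K41.f346078 IH) (Lpr_at (K41.f338101 IH) (Lpe (f277388 IH) (Lpn (LP (LK LD1_c27 LD2_c38 LD3_c27))))))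
theorem f883312 : Led Lsl_af (LP (LK LD1_c27 LD2_c38 LD3_c27)) = (LP (LK LD1_c26 LD2_c48 LD3_c28)) :=
  Lgr Lrot31 (Lpe (f346085 IH) (Lpr_gf (f409939 IH) (Lpr_ft (K68.f883306 IH) (Lpn (LP (LK LD1_c26 LD2_c48 LD3_c28))))))
theorem f595647 : Led Lsl_bt (LP (LK LD1_c16 LD2_c50 LD3_c61)) = (LP (LK LD1_c26 LD2_c48 LD3_c28)) :=
  Lre_b IH (LK LD1_c16 LD2_c50 LD3_c61) (LK LD1_c26 LD2_c48 LD3_c28) Lrfl Lrfl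
theorem f883286 : Led Lsl_at (LP (LK LD1_c11 LD2_c5 LD3_c51)) = (LP (LK LD1_c16 LD2_c50 LD3_c57)) :=
  Lgr Lrot100 (Lpr_af (K68.f883284 IH) (Lpn (LP (LK LD1_c16 LD2_c50 LD3_c57))))
theorem f883304 : Led Lsl_at (LP (LK LD1_c11 LD2_c5 LD3_c41)) = (LP (LK LD1_c16 LD2_c50 LD3_c61)) :=
  Lgr Lrot66 (Lpr_ff (K68.f883270 IH) (Lpe (f883286 IH) (Lpr_ff (K68.f883302 IH) (Lpn (LP (LK LD1_c16 LD2_c50 LD3_c61))))))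
theorem f396839 : Led Lsl_bt (LP (LK LD1_c19 LD2_c58 LD3_c50)) = (LP (LK LD1_c11 LD2_c5 LD3_c41)) :=
  Lre_b IH (LK LD1_c19 LD2_c58 LD3_c50) (LK LD1_c11 LD2_c5 LD3_c41) Lrfl Lrfl
theorem f883316 : Led Lsl_at (LP (LK LD1_c29 LD2_c13 LD3_c48)) = (LP (LK LD1_c19 LD2_c58 LD3_c50)) :=
  Lre_a IH (LK LD1_c29 LD2_c13 LD3_c48) (LK LD1_c19 LD2_c58 LD3_c50) Lrfl Lrfl
theorem f883317 : Led Lsl_bt (LP (LK LD1_c27 LD2_c38 LD3_c27)) = (LP (LK LD1_c29 LD2_c13 LD3_c48)) :=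
  Lgr Lrot62 (Lpr_af (f883312 IH) (Lpe (f595647 IH) (Lpe (f883304 IH) (Lpe (f396839 IH) (Lpe (f883316 IH) (Lpn (LP (LK LD1_c29 LD2_c13 LD3_c48))))))))
theorem f883392 : Led Lsl_dt (LP (LK LD1_c19 LD2_c14 LD3_c27)) = (LP (LK LD1_c27 LD2_c38 LD3_c27)) :=
  Lgr Lrot79 (Lpr_bf (K68.f883386 IH) (Lpe (f226507 IH) (Lpe (f883317 IH) (Lpn (LP (LK LD1_c27 LD2_c38 LD3_c27))))))
theorem f277387 : Led Lsl_dt (LP (LK LD1_c17 LD2_c51 LD3_c51)) = (LP (LK LD1_c9 LD2_c42 LD3_c49)) :=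
  Lre_d IH (LK LD1_c17 LD2_c51 LD3_c51) (LK LD1_c9 LD2_c42 LD3_c49) Lrfl Lrfl
theorem f218666 : Led Lsl_gt (LP (LK LD1_c17 LD2_c51 LD3_c54)) = (LP (LK LD1_c9 LD2_c42 LD3_c50)) :=
  Lre_g IH (LK LD1_c17 LD2_c51 LD3_c54) (LK LD1_c9 LD2_c42 LD3_c50) Lrfl Lrfl
theorem f942348 : Led Lsl_cf (LP (LK LD1_c10 LD2_c35 LD3_c33)) = v43799 :=
  Lgr Lrot1 (Lpr_at (K19.f196755 IH) (Lpr_ct (K19.f196738 IH) (Lpr_at (f942345 IH) (Lpn v43799))))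
theorem f224759 : Led Lsl_gt (LP (LK LD1_c19 LD2_c3 LD3_c60)) = (LP (LK LD1_c10 LD2_c31 LD3_c11)) :=
  Lre_g IH (LK LD1_c19 LD2_c3 LD3_c60) (LK LD1_c10 LD2_c31 LD3_c11) Lrfl Lrfl
theorem f312988 : Led Lsl_gt (LP (LK LD1_c10 LD2_c35 LD3_c33)) = (LP (LK LD1_c19 LD2_c3 LD3_c60)) :=
  Lgr Lrot5 (Lpr_ft (K38.f312704 IH) (Lpr_at (K38.f224760 IH) (Lpe (f224759 IH) (Lpn (LP (LK LD1_c19 LD2_c3 LD3_c60))))))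
theorem f942353 : Led Lsl_df (LP (LK LD1_c17 LD2_c51 LD3_c54)) = (LP (LK LD1_c19 LD2_c3 LD3_c60)) :=
  Lgr Lrot16 (Lpr_gt (f218666 IH) (Lpr_dt (K22.f331674 IH) (Lpr_ct (K41.f41154 IH) (Lpe (f277387 IH) (Lpe (f277388 IH) (Lpe (f883392 IH) (Lpr_gf (f942351 IH) (Lpe (f942348 IH) (Lpr_gt (f312988 IH) (Lpn (LP (LK LD1_c19 LD2_c3 LD3_c60))))))))))))
theorem f942354 : Led Lsl_dt (LP (LK LD1_c19 LD2_c3 LD3_c60)) = (LP (LK LD1_c17 LD2_c51 LD3_c54)) :=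
  Leop (Lpr_df (f942353 IH) (Lpn (LP (LK LD1_c19 LD2_c3 LD3_c60))))
theorem seed_2673 : LEOK LG_d (LK LD1_c19 LD2_c3 LD3_c60) :=
  Leoe_d (LK LD1_c19 LD2_c3 LD3_c60) (f942354 IH)
def v43821 : LQ := Led Lsl_et (LP (LK LD1_c10 LD2_c35 LD3_c51))
theorem f942457 : Led Lsl_et (LP (LK LD1_c10 LD2_c35 LD3_c51)) = v43821 :=
  Lrfl
theorem f355365 : Led Lsl_et (LP (LK LD1_c5 LD2_c23 LD3_c13)) = (LP (LK LD1_c10 LD2_c37 LD3_c0)) :=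
  Lre_e IH (LK LD1_c5 LD2_c23 LD3_c13) (LK LD1_c10 LD2_c37 LD3_c0) Lrfl Lrfl
theorem f942461 : Led Lsl_gf (LP (LK LD1_c10 LD2_c37 LD3_c0)) = v43821 :=
  Lgr Lrot141 (Lpe (f355365 IH) (Lpr_dt (K54.f333579 IH) (Lpe (K26.f355356 IH) (Lpr_df (K23.f343824 IH) (Lpr_et (K22.f328889 IH) (Lpr_gt (K22.f328914 IH) (Lpr_dt (K25.f275285 IH) (Lpr_gt (K25.f343786 IH) (Lpe (K22.f224359 IH) (Lpr_et (f942457 IH) (Lpn v43821)))))))))))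
theorem f355343 : Led Lsl_ct (LP (LK LD1_c5 LD2_c23 LD3_c14)) = (LP (LK LD1_c10 LD2_c37 LD3_c0)) :=
  Lre_c IH (LK LD1_c5 LD2_c23 LD3_c14) (LK LD1_c10 LD2_c37 LD3_c0) Lrfl Lrfl
theorem f44687 : Led Lsl_et (LP (LK LD1_c5 LD2_c21 LD3_c37)) = (LP (LK LD1_c10 LD2_c33 LD3_c34)) :=
  Lre_e IH (LK LD1_c5 LD2_c21 LD3_c37) (LK LD1_c10 LD2_c33 LD3_c34) Lrfl Lrfl
theorem f44685 : Led Lsl_dt (LP (LK LD1_c5 LD2_c21 LD3_c37)) = (LP (LK LD1_c5 LD2_c24 LD3_c47)) :=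
  Lgr Lrot42 (Lpr_df (K22.f44680 IH) (Lpn (LP (LK LD1_c5 LD2_c24 LD3_c47))))
theorem f41463 : Led Lsl_gt (LP (LK LD1_c5 LD2_c21 LD3_c10)) = (LP (LK LD1_c2 LD2_c37 LD3_c10)) :=
  Lre_g IH (LK LD1_c5 LD2_c21 LD3_c10) (LK LD1_c2 LD2_c37 LD3_c10) Lrfl Lrfl
theorem f44706 : Led Lsl_gt (LP (LK LD1_c10 LD2_c33 LD3_c34)) = (LP (LK LD1_c10 LD2_c32 LD3_c30)) :=
  Lgr Lrot137 (Lpe (f44687 IH) (Lpr_dt (f44685 IH) (Lpe (K22.f41479 IH) (Lpe (K20.f41478 IH) (Lpr_et (K21.f41477 IH) (Lpe (K1.f41430 IH) (Lpe (K1.f41421 IH) (Lpe (K1.f41424 IH) (Lpe (f41463 IH) (Lpe (K21.f41464 IH) (Lpn (LP (LK LD1_c10 LD2_c32 LD3_c30)))))))))))))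
theorem f333582 : Led Lsl_et (LP (LK LD1_c5 LD2_c23 LD3_c14)) = (LP (LK LD1_c2 LD2_c38 LD3_c4)) :=
  Lre_e IH (LK LD1_c5 LD2_c23 LD3_c14) (LK LD1_c2 LD2_c38 LD3_c4) Lrfl Lrfl
theorem f355333 : Led Lsl_df (LP (LK LD1_c10 LD2_c33 LD3_c34)) = (LP (LK LD1_c5 LD2_c23 LD3_c14)) :=
  Lgr Lrot170 (Lpr_gt (f44706 IH) (Lpe (K21.f8698 IH) (Lpr_et (K22.f44711 IH) (Lpe (K21.f299464 IH) (Lpr_dt (K16.f184363 IH) (Lpr_gt (K18.f300895 IH) (Lpe (K21.f300888 IH) (Lpr_et (K18.f303243 IH) (Lpr_gt (K25.f355324 IH) (Lpe (f333582 IH) (Lpn (LP (LK LD1_c5 LD2_c23 LD3_c14)))))))))))))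
theorem f355336 : Led Lsl_dt (LP (LK LD1_c10 LD2_c33 LD3_c34)) = (LP (LK LD1_c5 LD2_c23 LD3_c14)) :=
  Lgr Lrot42 (Lpr_df (f355333 IH) (Lpn (LP (LK LD1_c5 LD2_c23 LD3_c14))))
theorem f360023 : Led Lsl_df (LP (LK LD1_c2 LD2_c40 LD3_c52)) = (LP (LK LD1_c2 LD2_c38 LD3_c4)) :=
  Lgr Lrot70 (Lpr_et (K54.f360013 IH) (Lpe (K22.f44680 IH) (Lpr_et (f44687 IH) (Lpr_dt (f355336 IH) (Lpr_et (f333582 IH) (Lpn (LP (LK LD1_c2 LD2_c38 LD3_c4))))))))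
theorem f360336 : Led Lsl_bt (LP (LK LD1_c1 LD2_c17 LD3_c7)) = (LP (LK LD1_c2 LD2_c38 LD3_c4)) :=
  Lgr Lrot95 (Lpr_df (K21.f264658 IH) (Lpe (K35.f264655 IH) (Lpr_df (f360023 IH) (Lpn (LP (LK LD1_c2 LD2_c38 LD3_c4))))))
theorem f355338 : Led Lsl_et (LP (LK LD1_c2 LD2_c38 LD3_c4)) = (LP (LK LD1_c5 LD2_c23 LD3_c14)) :=
  Lre_e IH (LK LD1_c2 LD2_c38 LD3_c4) (LK LD1_c5 LD2_c23 LD3_c14) Lrfl Lrfl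
theorem f360338 : Led Lsl_bf (LP (LK LD1_c2 LD2_c40 LD3_c53)) = (LP (LK LD1_c5 LD2_c23 LD3_c14)) :=
  Lgr Lrot96 (Lpr_et (K21.f264668 IH) (Lpr_bt (f360336 IH) (Lpr_et (f355338 IH) (Lpn (LP (LK LD1_c5 LD2_c23 LD3_c14))))))
theorem f7614 : Led Lsl_ct (LP (LK LD1_c2 LD2_c43 LD3_c25)) = (LP (LK LD1_c5 LD2_c35 LD3_c4)) :=
  Lre_c IH (LK LD1_c2 LD2_c43 LD3_c25) (LK LD1_c5 LD2_c35 LD3_c4) Lrfl Lrfl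
def v15306 : LQ := Led Lsl_gt (LP (LK LD1_c5 LD2_c35 LD3_c4))
theorem f733369 : Led Lsl_gt (LP (LK LD1_c5 LD2_c35 LD3_c4)) = v15306 :=
  Lrfl
theorem f309818 : Led Lsl_bt (LP (LK LD1_c2 LD2_c43 LD3_c25)) = (LP (LK LD1_c5 LD2_c34 LD3_c61)) :=
  Lre_b IH (LK LD1_c2 LD2_c43 LD3_c25) (LK LD1_c5 LD2_c34 LD3_c61) Lrfl Lrfl
theorem f368788 : Led Lsl_ft (LP (LK LD1_c27 LD2_c38 LD3_c21)) = (LP (LK LD1_c17 LD2_c51 LD3_c39)) :=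
  Lre_f IH (LK LD1_c27 LD2_c38 LD3_c21) (LK LD1_c17 LD2_c51 LD3_c39) Lrfl Lrfl
theorem f368789 : Led Lsl_af (LP (LK LD1_c15 LD2_c28 LD3_c9)) = (LP (LK LD1_c17 LD2_c51 LD3_c39)) :=
  Lgr Lrot31 (Lpe (K27.f187372 IH) (Lpr_gf (K27.f368786 IH) (Lpr_ft (f368788 IH) (Lpn (LP (LK LD1_c17 LD2_c51 LD3_c39))))))
theorem f187401 : Led Lsl_ft (LP (LK LD1_c15 LD2_c28 LD3_c9)) = (LP (LK LD1_c25 LD2_c20 LD3_c10)) :=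
  Lre_f IH (LK LD1_c15 LD2_c28 LD3_c9) (LK LD1_c25 LD2_c20 LD3_c10) Lrfl Lrfl
theorem f368801 : Led Lsl_at (LP (LK LD1_c25 LD2_c20 LD3_c10)) = (LP (LK LD1_c27 LD2_c38 LD3_c21)) :=
  Lgr Lrot66 (Lpe (f187401 IH) (Lpr_af (f368789 IH) (Lpe (f368788 IH) (Lpn (LP (LK LD1_c27 LD2_c38 LD3_c21))))))
theorem f368803 : Led Lsl_af (LP (LK LD1_c25 LD2_c20 LD3_c10)) = (LP (LK LD1_c27 LD2_c38 LD3_c21)) :=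
  Lgr Lrot0 (Lpr_at (f368801 IH) (Lpn (LP (LK LD1_c27 LD2_c38 LD3_c21))))
theorem f363233 : Led Lsl_ft (LP (LK LD1_c17 LD2_c51 LD3_c39)) = (LP (LK LD1_c27 LD2_c38 LD3_c21)) :=
  Lre_f IH (LK LD1_c17 LD2_c51 LD3_c39) (LK LD1_c27 LD2_c38 LD3_c21) Lrfl Lrfl
theorem f291778 : Led Lsl_ct (LP (LK LD1_c9 LD2_c42 LD3_c38)) = (LP (LK LD1_c17 LD2_c51 LD3_c30)) :=
  Lre_c IH (LK LD1_c9 LD2_c42 LD3_c38) (LK LD1_c17 LD2_c51 LD3_c30) Lrfl Lrfl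
theorem f368818 : Led Lsl_dt (LP (LK LD1_c17 LD2_c51 LD3_c30)) = (LP (LK LD1_c27 LD2_c38 LD3_c9)) :=
  Lre_d IH (LK LD1_c17 LD2_c51 LD3_c30) (LK LD1_c27 LD2_c38 LD3_c9) Lrfl Lrfl
theorem f368819 : Led Lsl_cf (LP (LK LD1_c25 LD2_c20 LD3_c10)) = (LP (LK LD1_c27 LD2_c38 LD3_c9)) :=
  Lgr Lrot102 (Lpr_af (f368803 IH) (Lpe (f363233 IH) (Lpr_dt (K54.f217546 IH) (Lpr_ct (K25.f217538 IH) (Lpr_dt (K15.f217502 IH) (Lpr_ct (K25.f291774 IH) (Lpr_dt (K25.f217458 IH) (Lpr_ct (f291778 IH) (Lpr_dt (f368818 IH) (Lpn (LP (LK LD1_c27 LD2_c38 LD3_c9))))))))))))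
theorem f368821 : Led Lsl_ct (LP (LK LD1_c25 LD2_c20 LD3_c10)) = (LP (LK LD1_c27 LD2_c38 LD3_c9)) :=
  Lgr Lrot59 (Lpr_cf (f368819 IH) (Lpn (LP (LK LD1_c27 LD2_c38 LD3_c9))))
theorem f187392 : Led Lsl_dt (LP (LK LD1_c15 LD2_c28 LD3_c10)) = (LP (LK LD1_c25 LD2_c20 LD3_c10)) :=
  Lre_d IH (LK LD1_c15 LD2_c28 LD3_c10) (LK LD1_c25 LD2_c20 LD3_c10) Lrfl Lrfl
theorem f187391 : Led Lsl_ct (LP (LK LD1_c8 LD2_c13 LD3_c27)) = (LP (LK LD1_c15 LD2_c28 LD3_c10)) :=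
  Lre_c IH (LK LD1_c8 LD2_c13 LD3_c27) (LK LD1_c15 LD2_c28 LD3_c10) Lrfl Lrfl
theorem f187389 : Led Lsl_ct (LP (LK LD1_c17 LD2_c48 LD3_c24)) = (LP (LK LD1_c9 LD2_c40 LD3_c50)) :=
  Lre_c IH (LK LD1_c17 LD2_c48 LD3_c24) (LK LD1_c9 LD2_c40 LD3_c50) Lrfl Lrfl
theorem f187388 : Led Lsl_dt (LP (LK LD1_c27 LD2_c35 LD3_c36)) = (LP (LK LD1_c17 LD2_c48 LD3_c24)) :=
  Lre_d IH (LK LD1_c27 LD2_c35 LD3_c36) (LK LD1_c17 LD2_c48 LD3_c24) Lrfl Lrfl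
theorem f187393 : Led Lsl_ft (LP (LK LD1_c27 LD2_c35 LD3_c36)) = (LP (LK LD1_c17 LD2_c48 LD3_c23)) :=
  Lre_f IH (LK LD1_c27 LD2_c35 LD3_c36) (LK LD1_c17 LD2_c48 LD3_c23) Lrfl Lrfl
theorem f368826 : Led Lsl_dt (LP (LK LD1_c27 LD2_c38 LD3_c9)) = (LP (LK LD1_c17 LD2_c51 LD3_c30)) :=
  Lre_d IH (LK LD1_c27 LD2_c38 LD3_c9) (LK LD1_c17 LD2_c51 LD3_c30) Lrfl Lrfl
theorem f358376 : Led Lsl_ct (LP (LK LD1_c17 LD2_c51 LD3_c30)) = (LP (LK LD1_c9 LD2_c42 LD3_c38)) :=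
  Lre_c IH (LK LD1_c17 LD2_c51 LD3_c30) (LK LD1_c9 LD2_c42 LD3_c38) Lrfl Lrfl
theorem f368829 : Led Lsl_at (LP (LK LD1_c17 LD2_c48 LD3_c23)) = (LP (LK LD1_c9 LD2_c42 LD3_c38)) :=
  Lgr Lrot33 (Lpe (f187393 IH) (Lpr_dt (f187388 IH) (Lpr_ct (f187389 IH) (Lpr_dt (K27.f187384 IH) (Lpr_ct (f187391 IH) (Lpr_dt (f187392 IH) (Lpr_ct (f368821 IH) (Lpr_dt (f368826 IH) (Lpr_ct (f358376 IH) (Lpn (LP (LK LD1_c9 LD2_c42 LD3_c38))))))))))))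
theorem f368834 : Led Lsl_gt (LP (LK LD1_c27 LD2_c35 LD3_c36)) = (LP (LK LD1_c17 LD2_c51 LD3_c29)) :=
  Lgr Lrot5 (Lpr_ft (f187393 IH) (Lpr_at (f368829 IH) (Lpe (K25.f217479 IH) (Lpn (LP (LK LD1_c17 LD2_c51 LD3_c29))))))
theorem f187381 : Led Lsl_dt (LP (LK LD1_c17 LD2_c48 LD3_c24)) = (LP (LK LD1_c27 LD2_c35 LD3_c36)) :=
  Lre_d IH (LK LD1_c17 LD2_c48 LD3_c24) (LK LD1_c27 LD2_c35 LD3_c36) Lrfl Lrfl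
theorem f264029 : Led Lsl_gt (LP (LK LD1_c4 LD2_c55 LD3_c29)) = (LP (LK LD1_c9 LD2_c42 LD3_c36)) :=
  Lre_g IH (LK LD1_c4 LD2_c55 LD3_c29) (LK LD1_c9 LD2_c42 LD3_c36) Lrfl Lrfl
theorem f348803 : Led Lsl_ct (LP (LK LD1_c15 LD2_c8 LD3_c54)) = (LP (LK LD1_c9 LD2_c42 LD3_c36)) :=
  Lgr Lrot10 (Lpr_bt (K27.f348801 IH) (Lpe (K19.f310516 IH) (Lpr_ct (K17.f211345 IH) (Lpr_gt (K19.f293266 IH) (Lpr_cf (K23.f312198 IH) (Lpr_bt (K23.f322446 IH) (Lpr_gt (K23.f217515 IH) (Lpe (K15.f217501 IH) (Lpr_ct (K25.f291774 IH) (Lpr_gt (f264029 IH) (Lpn (LP (LK LD1_c9 LD2_c42 LD3_c36)))))))))))))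
theorem f367441 : Led Lsl_gf (LP (LK LD1_c17 LD2_c48 LD3_c24)) = (LP (LK LD1_c9 LD2_c42 LD3_c36)) :=
  Lgr Lrot126 (Lpe (K27.f187380 IH) (Lpe (K27.f187434 IH) (Lpr_gt (K27.f367437 IH) (Lpr_ct (K69.f348742 IH) (Lpr_gt (K69.f223550 IH) (Lpe (K69.f42322 IH) (Lpr_bt (K15.f223392 IH) (Lpr_gt (K19.f200393 IH) (Lpe (K27.f348801 IH) (Lpr_ct (f348803 IH) (Lpn (LP (LK LD1_c9 LD2_c42 LD3_c36)))))))))))))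
theorem f291770 : Led Lsl_df (LP (LK LD1_c15 LD2_c24 LD3_c54)) = (LP (LK LD1_c17 LD2_c51 LD3_c29)) :=
  Lgr Lrot38 (Lpr_dt (K25.f291764 IH) (Lpn (LP (LK LD1_c17 LD2_c51 LD3_c29))))
theorem f368838 : Led Lsl_cf (LP (LK LD1_c10 LD2_c33 LD3_c10)) = (LP (LK LD1_c15 LD2_c24 LD3_c54)) :=
  Lgr Lrot14 (Lpe (K25.f352739 IH) (Lpr_gf (K25.f352616 IH) (Lpe (K25.f42216 IH) (Lpe (K25.f356859 IH) (Lpr_ct (f348803 IH) (Lpe (f367441 IH) (Lpr_dt (f187381 IH) (Lpr_gt (f368834 IH) (Lpe (f291770 IH) (Lpn (LP (LK LD1_c15 LD2_c24 LD3_c54))))))))))))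
theorem f217481 : Led Lsl_et (LP (LK LD1_c2 LD2_c25 LD3_c21)) = (LP (LK LD1_c4 LD2_c54 LD3_c60)) :=
  Lre_e IH (LK LD1_c2 LD2_c25 LD3_c21) (LK LD1_c4 LD2_c54 LD3_c60) Lrfl Lrfl
theorem f217482 : Led Lsl_gt (LP (LK LD1_c4 LD2_c54 LD3_c60)) = (LP (LK LD1_c9 LD2_c41 LD3_c32)) :=
  Lre_g IH (LK LD1_c4 LD2_c54 LD3_c60) (LK LD1_c9 LD2_c41 LD3_c32) Lrfl Lrfl
theorem f291780 : Led Lsl_et (LP (LK LD1_c15 LD2_c24 LD3_c54)) = (LP (LK LD1_c9 LD2_c41 LD3_c32)) :=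
  Lgr Lrot122 (Lpr_dt (K25.f291764 IH) (Lpr_gt (K25.f217479 IH) (Lpe (K25.f217458 IH) (Lpr_et (K25.f217457 IH) (Lpr_gt (K12.f217446 IH) (Lpr_dt (K12.f30890 IH) (Lpe (K15.f217462 IH) (Lpe (K14.f217480 IH) (Lpr_et (f217481 IH) (Lpr_gt (f217482 IH) (Lpn (LP (LK LD1_c9 LD2_c41 LD3_c32)))))))))))))
theorem f291787 : Led Lsl_ef (LP (LK LD1_c15 LD2_c24 LD3_c54)) = (LP (LK LD1_c9 LD2_c41 LD3_c32)) :=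
  Lgr Lrot88 (Lpr_et (f291780 IH) (Lpn (LP (LK LD1_c9 LD2_c41 LD3_c32))))
theorem f368842 : Led Lsl_ct (LP (LK LD1_c5 LD2_c22 LD3_c22)) = (LP (LK LD1_c9 LD2_c41 LD3_c32)) :=
  Lgr Lrot15 (Lpe (K25.f352730 IH) (Lpr_cf (f368838 IH) (Lpr_ef (f291787 IH) (Lpn (LP (LK LD1_c9 LD2_c41 LD3_c32))))))
theorem f368872 : Led Lsl_cf (LP (LK LD1_c5 LD2_c22 LD3_c22)) = (LP (LK LD1_c9 LD2_c41 LD3_c32)) :=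
  Lgr Lrot11 (Lpr_ct (f368842 IH) (Lpn (LP (LK LD1_c9 LD2_c41 LD3_c32))))
theorem f213988 : Led Lsl_dt (LP (LK LD1_c17 LD2_c49 LD3_c60)) = (LP (LK LD1_c9 LD2_c41 LD3_c38)) :=
  Lre_d IH (LK LD1_c17 LD2_c49 LD3_c60) (LK LD1_c9 LD2_c41 LD3_c38) Lrfl Lrfl
theorem f358581 : Led Lsl_gf (LP (LK LD1_c2 LD2_c25 LD3_c22)) = (LP (LK LD1_c4 LD2_c30 LD3_c60)) :=
  Lgr Lrot143 (Lpr_dt (K25.f213929 IH) (Lpe (K25.f213985 IH) (Lpe (f213988 IH) (Lpr_gf (K25.f353601 IH) (Lpe (K25.f222179 IH) (Lpe (K25.f353605 IH) (Lpe (K25.f199708 IH) (Lpr_gt (K26.f358566 IH) (Lpr_dt (K24.f167890 IH) (Lpn (LP (LK LD1_c4 LD2_c30 LD3_c60))))))))))))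
theorem f368876 : Led Lsl_gf (LP (LK LD1_c10 LD2_c47 LD3_c30)) = (LP (LK LD1_c15 LD2_c1 LD3_c43)) :=
  Lgr Lrot104 (Lpr_ct (K25.f352762 IH) (Lpr_df (K25.f352750 IH) (Lpr_cf (f368872 IH) (Lpe (f217482 IH) (Lpe (K25.f291797 IH) (Lpr_gf (f358581 IH) (Lpe (K24.f167890 IH) (Lpe (K26.f358564 IH) (Lpr_ct (K25.f339470 IH) (Lpn (LP (LK LD1_c15 LD2_c1 LD3_c43))))))))))))
theorem f352752 : Led Lsl_dt (LP (LK LD1_c10 LD2_c47 LD3_c30)) = (LP (LK LD1_c19 LD2_c31 LD3_c9)) :=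
  Lre_d IH (LK LD1_c10 LD2_c47 LD3_c30) (LK LD1_c19 LD2_c31 LD3_c9) Lrfl Lrfl
theorem f358558 : Led Lsl_df (LP (LK LD1_c8 LD2_c13 LD3_c49)) = (LP (LK LD1_c9 LD2_c0 LD3_c3)) :=
  Lgr Lrot70 (Lpe (K21.f325178 IH) (Lpr_dt (K21.f251697 IH) (Lpe (K21.f329453 IH) (Lpr_dt (K21.f310866 IH) (Lpr_et (K26.f358552 IH) (Lpn (LP (LK LD1_c9 LD2_c0 LD3_c3))))))))
theorem f325056 : Led Lsl_dt (LP (LK LD1_c25 LD2_c21 LD3_c24)) = (LP (LK LD1_c15 LD2_c28 LD3_c57)) :=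
  Lre_d IH (LK LD1_c25 LD2_c21 LD3_c24) (LK LD1_c15 LD2_c28 LD3_c57) Lrfl Lrfl
theorem f368878 : Led Lsl_gt (LP (LK LD1_c19 LD2_c31 LD3_c9)) = (LP (LK LD1_c25 LD2_c21 LD3_c24)) :=
  Lgr Lrot49 (Lpe (f352752 IH) (Lpr_gf (f368876 IH) (Lpe (K25.f339470 IH) (Lpe (K26.f358747 IH) (Lpr_dt (K26.f358732 IH) (Lpr_gt (K26.f358668 IH) (Lpe (f358558 IH) (Lpe (K21.f188132 IH) (Lpe (f325056 IH) (Lpn (LP (LK LD1_c25 LD2_c21 LD3_c24))))))))))))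
theorem f352824 : Led Lsl_et (LP (LK LD1_c10 LD2_c47 LD3_c30)) = (LP (LK LD1_c19 LD2_c31 LD3_c10)) :=
  Lre_e IH (LK LD1_c10 LD2_c47 LD3_c30) (LK LD1_c19 LD2_c31 LD3_c10) Lrfl Lrfl
theorem f325131 : Led Lsl_ft (LP (LK LD1_c8 LD2_c13 LD3_c47)) = (LP (LK LD1_c15 LD2_c28 LD3_c57)) :=
  Lre_f IH (LK LD1_c8 LD2_c13 LD3_c47) (LK LD1_c15 LD2_c28 LD3_c57) Lrfl Lrfl
theorem f325132 : Led Lsl_et (LP (LK LD1_c15 LD2_c28 LD3_c57)) = (LP (LK LD1_c25 LD2_c19 LD3_c19)) :=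
  Lgr Lrot69 (Lpe (f325131 IH) (Lpe (K30.f274254 IH) (Lpr_ff (K21.f325124 IH) (Lpe (K25.f187991 IH) (Lpe (K21.f324967 IH) (Lpn (LP (LK LD1_c25 LD2_c19 LD3_c19))))))))
theorem f301256 : Led Lsl_dt (LP (LK LD1_c26 LD2_c6 LD3_c11)) = (LP (LK LD1_c16 LD2_c9 LD3_c30)) :=
  Lre_d IH (LK LD1_c26 LD2_c6 LD3_c11) (LK LD1_c16 LD2_c9 LD3_c30) Lrfl Lrfl
theorem f358753 : Led Lsl_gf (LP (LK LD1_c26 LD2_c6 LD3_c11)) = (LP (LK LD1_c25 LD2_c21 LD3_c0)) :=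
  Lgr Lrot143 (Lpr_dt (f301256 IH) (Lpe (K27.f301250 IH) (Lpe (K19.f301196 IH) (Lpe (K25.f326843 IH) (Lpr_df (K26.f358749 IH) (Lpe (K21.f325009 IH) (Lpe (K21.f191459 IH) (Lpr_gt (K21.f324971 IH) (Lpr_dt (K67.f301379 IH) (Lpn (LP (LK LD1_c25 LD2_c21 LD3_c0))))))))))))
theorem f301258 : Led Lsl_dt (LP (LK LD1_c16 LD2_c9 LD3_c30)) = (LP (LK LD1_c26 LD2_c6 LD3_c11)) :=
  Lre_d IH (LK LD1_c16 LD2_c9 LD3_c30) (LK LD1_c26 LD2_c6 LD3_c11) Lrfl Lrfl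
theorem f47891 : Led Lsl_ct (LP (LK LD1_c25 LD2_c22 LD3_c45)) = (LP (LK LD1_c15 LD2_c29 LD3_c34)) :=
  Lre_c IH (LK LD1_c25 LD2_c22 LD3_c45) (LK LD1_c15 LD2_c29 LD3_c34) Lrfl Lrfl
theorem f301251 : Led Lsl_et (LP (LK LD1_c16 LD2_c9 LD3_c30)) = (LP (LK LD1_c25 LD2_c22 LD3_c45)) :=
  Lgr Lrot158 (Lpe (K27.f301250 IH) (Lpr_ef (K19.f301247 IH) (Lpe (f47891 IH) (Lpn (LP (LK LD1_c25 LD2_c22 LD3_c45))))))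
theorem f368898 : Led Lsl_gf (LP (LK LD1_c19 LD2_c31 LD3_c10)) = (LP (LK LD1_c25 LD2_c22 LD3_c45)) :=
  Lgr Lrot141 (Lpe (f352824 IH) (Lpr_dt (f352752 IH) (Lpr_gt (f368878 IH) (Lpe (K21.f325048 IH) (Lpr_et (f325132 IH) (Lpr_gt (K21.f324971 IH) (Lpr_dt (K67.f301379 IH) (Lpe (f358753 IH) (Lpe (f301258 IH) (Lpr_et (f301251 IH) (Lpn (LP (LK LD1_c25 LD2_c22 LD3_c45)))))))))))))
theorem f47895 : Led Lsl_ct (LP (LK LD1_c15 LD2_c29 LD3_c34)) = (LP (LK LD1_c25 LD2_c22 LD3_c45)) :=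
  Lre_c IH (LK LD1_c15 LD2_c29 LD3_c34) (LK LD1_c25 LD2_c22 LD3_c45) Lrfl Lrfl
theorem f342198 : Led Lsl_bt (LP (LK LD1_c5 LD2_c36 LD3_c60)) = (LP (LK LD1_c11 LD2_c6 LD3_c5)) :=
  Lre_b IH (LK LD1_c5 LD2_c36 LD3_c60) (LK LD1_c11 LD2_c6 LD3_c5) Lrfl Lrfl
theorem f733372 : Led Lsl_ct (LP (LK LD1_c5 LD2_c36 LD3_c60)) = v15306 :=
  Lgr Lrot10 (Lpr_bt (f342198 IH) (Lpe (K25.f351906 IH) (Lpr_ct (f47895 IH) (Lpe (f368898 IH) (Lpe (K25.f352806 IH) (Lpr_bt (K25.f352814 IH) (Lpr_gt (K25.f352843 IH) (Lpe (f309818 IH) (Lpr_ct (f7614 IH) (Lpr_gt (f733369 IH) (Lpn v15306)))))))))))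
theorem f341076 : Led Lsl_bt (LP (LK LD1_c19 LD2_c23 LD3_c21)) = (LP (LK LD1_c15 LD2_c29 LD3_c34)) :=
  Lgr Lrot119 (Lpr_ef (K25.f341074 IH) (Lpe (K25.f301249 IH) (Lpr_ef (K19.f301247 IH) (Lpn (LP (LK LD1_c15 LD2_c29 LD3_c34))))))
theorem f942462 : Led Lsl_ct (LP (LK LD1_c19 LD2_c23 LD3_c21)) = v43821 :=
  Lgr Lrot64 (Lpr_bt (f341076 IH) (Lpr_gf (K25.f351906 IH) (Lpe (f342198 IH) (Lpr_ct (f733372 IH) (Lpe (f733369 IH) (Lpe (f7614 IH) (Lpe (K56.f309798 IH) (Lpr_bf (f360338 IH) (Lpr_ct (f355343 IH) (Lpr_gf (f942461 IH) (Lpn v43821)))))))))))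
def v43550 : LQ := Led Lsl_dt (LP (LK LD1_c10 LD2_c30 LD3_c52))
theorem f941045 : Led Lsl_dt (LP (LK LD1_c10 LD2_c30 LD3_c52)) = v43550 :=
  Lrfl
theorem f446718 : Led Lsl_ft (LP (LK LD1_c5 LD2_c21 LD3_c8)) = (LP (LK LD1_c10 LD2_c30 LD3_c52)) :=
  Lre_f IH (LK LD1_c5 LD2_c21 LD3_c8) (LK LD1_c10 LD2_c30 LD3_c52) Lrfl Lrfl
theorem f41451 : Led Lsl_dt (LP (LK LD1_c10 LD2_c32 LD3_c25)) = (LP (LK LD1_c5 LD2_c21 LD3_c8)) :=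
  Lre_d IH (LK LD1_c10 LD2_c32 LD3_c25) (LK LD1_c5 LD2_c21 LD3_c8) Lrfl Lrfl
theorem f941048 : Led Lsl_ff (LP (LK LD1_c10 LD2_c32 LD3_c25)) = v43550 :=
  Lgr Lrot19 (Lpr_dt (f41451 IH) (Lpr_ft (f446718 IH) (Lpr_dt (f941045 IH) (Lpn v43550))))
theorem f941049 : Led Lsl_at (LP (LK LD1_c10 LD2_c32 LD3_c25)) = (LP (LK LD1_c5 LD2_c25 LD3_c41)) :=
  Lre_a IH (LK LD1_c10 LD2_c32 LD3_c25) (LK LD1_c5 LD2_c25 LD3_c41) Lrfl Lrfl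
theorem f42360 : Led Lsl_gt (LP (LK LD1_c10 LD2_c42 LD3_c39)) = (LP (LK LD1_c5 LD2_c25 LD3_c41)) :=
  Lre_g IH (LK LD1_c10 LD2_c42 LD3_c39) (LK LD1_c5 LD2_c25 LD3_c41) Lrfl Lrfl
theorem f941052 : Led Lsl_gf (LP (LK LD1_c10 LD2_c42 LD3_c39)) = v43550 :=
  Lgr Lrot47 (Lpr_gt (f42360 IH) (Lpe (f941049 IH) (Lpr_ff (f941048 IH) (Lpn v43550))))
theorem f942463 : Led Lsl_dt (LP (LK LD1_c10 LD2_c42 LD3_c39)) = v43821 :=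
  Lgr Lrot113 (Lpr_gf (f941052 IH) (Lpe (f941045 IH) (Lpe (K22.f41507 IH) (Lpr_ct (K22.f337694 IH) (Lpr_gt (K22.f337775 IH) (Lpe (K20.f195944 IH) (Lpr_gt (K21.f310391 IH) (Lpr_dt (K25.f310395 IH) (Lpr_ct (f942462 IH) (Lpn v43821))))))))))
theorem f359028 : Led Lsl_gt (LP (LK LD1_c15 LD2_c30 LD3_c58)) = (LP (LK LD1_c9 LD2_c53 LD3_c22)) :=
  Lgr Lrot112 (Lpe (K24.f284830 IH) (Lpr_et (K24.f351402 IH) (Lpr_gf (K27.f359024 IH) (Lpe (K26.f301173 IH) (Lpe (K26.f349741 IH) (Lpr_gf (K27.f359015 IH) (Lpe (K26.f311825 IH) (Lpe (K24.f311823 IH) (Lpr_ef (K23.f311810 IH) (Lpr_dt (K23.f311879 IH) (Lpn (LP (LK LD1_c9 LD2_c53 LD3_c22)))))))))))))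
theorem f324027 : Led Lsl_gt (LP (LK LD1_c9 LD2_c53 LD3_c22)) = (LP (LK LD1_c10 LD2_c11 LD3_c53)) :=
  Lgr Lrot112 (Lpe (K23.f311879 IH) (Lpe (K23.f311810 IH) (Lpr_gf (K19.f311806 IH) (Lpe (K19.f246714 IH) (Lpr_dt (K19.f213072 IH) (Lpr_gf (K19.f222457 IH) (Lpr_df (K10.f32934 IH) (Lpr_gf (K20.f213756 IH) (Lpr_ef (K44.f323926 IH) (Lpr_dt (K44.f306062 IH) (Lpn (LP (LK LD1_c10 LD2_c11 LD3_c53)))))))))))))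
theorem f888522 : Led Lsl_at (LP (LK LD1_c9 LD2_c53 LD3_c21)) = (LP (LK LD1_c10 LD2_c11 LD3_c53)) :=
  Lgr Lrot26 (Lpr_ff (K71.f888518 IH) (Lpr_gt (f359028 IH) (Lpr_gt (f324027 IH) (Lpn (LP (LK LD1_c10 LD2_c11 LD3_c53))))))
theorem f888524 : Led Lsl_af (LP (LK LD1_c18 LD2_c5 LD3_c51)) = (LP (LK LD1_c18 LD2_c34 LD3_c41)) :=
  Lgr Lrot117 (Lpr_dt (K20.f311531 IH) (Lpr_at (f888522 IH) (Lpr_dt (K71.f306064 IH) (Lpn (LP (LK LD1_c18 LD2_c34 LD3_c41))))))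
theorem f337700 : Led Lsl_et (LP (LK LD1_c19 LD2_c23 LD3_c17)) = (LP (LK LD1_c10 LD2_c42 LD3_c31)) :=
  Lre_e IH (LK LD1_c19 LD2_c23 LD3_c17) (LK LD1_c10 LD2_c42 LD3_c31) Lrfl Lrfl
theorem f311536 : Led Lsl_et (LP (LK LD1_c10 LD2_c24 LD3_c30)) = (LP (LK LD1_c18 LD2_c5 LD3_c51)) :=
  Lgr Lrot87 (Lpr_ef (K20.f311532 IH) (Lpn (LP (LK LD1_c18 LD2_c5 LD3_c51))))
theorem f337701 : Led Lsl_bf (LP (LK LD1_c19 LD2_c23 LD3_c17)) = (LP (LK LD1_c18 LD2_c5 LD3_c51)) :=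
  Lgr Lrot96 (Lpr_et (f337700 IH) (Lpr_bt (K23.f337690 IH) (Lpr_et (f311536 IH) (Lpn (LP (LK LD1_c18 LD2_c5 LD3_c51))))))
theorem f887942 : Led Lsl_at (LP (LK LD1_c15 LD2_c3 LD3_c12)) = (LP (LK LD1_c10 LD2_c11 LD3_c55)) :=
  Lgr Lrot100 (Lpr_af (K71.f887940 IH) (Lpn (LP (LK LD1_c10 LD2_c11 LD3_c55))))
theorem f888532 : Led Lsl_at (LP (LK LD1_c19 LD2_c23 LD3_c17)) = (LP (LK LD1_c24 LD2_c52 LD3_c18)) :=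
  Lgr Lrot67 (Lpr_bf (f337701 IH) (Lpr_af (f888524 IH) (Lpe (K44.f305851 IH) (Lpe (f887942 IH) (Lpe (K67.f254181 IH) (Lpn (LP (LK LD1_c24 LD2_c52 LD3_c18))))))))
theorem f336539 : Led Lsl_gf (LP (LK LD1_c24 LD2_c52 LD3_c18)) = (LP (LK LD1_c27 LD2_c46 LD3_c35)) :=
  Lgr Lrot144 (Lpr_dt (K22.f329911 IH) (Lpr_gt (K22.f258990 IH) (Lpr_dt (K18.f260263 IH) (Lpr_cf (K17.f256938 IH) (Lpe (K16.f256942 IH) (Lpe (K25.f321672 IH) (Lpe (K19.f268085 IH) (Lpr_gf (K25.f321674 IH) (Lpr_cf (K25.f336533 IH) (Lpn (LP (LK LD1_c27 LD2_c46 LD3_c35))))))))))))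
theorem f888563 : Led Lsl_ff (LP (LK LD1_c19 LD2_c23 LD3_c17)) = (LP (LK LD1_c25 LD2_c0 LD3_c31)) :=
  Lgr Lrot52 (Lpr_at (f888532 IH) (Lpr_gf (f336539 IH) (Lpr_gf (K22.f336330 IH) (Lpn (LP (LK LD1_c25 LD2_c0 LD3_c31))))))
theorem f888569 : Led Lsl_ft (LP (LK LD1_c19 LD2_c23 LD3_c17)) = (LP (LK LD1_c25 LD2_c0 LD3_c31)) :=
  Lgr Lrot48 (Lpr_ff (f888563 IH) (Lpn (LP (LK LD1_c25 LD2_c0 LD3_c31))))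
theorem f337769 : Led Lsl_et (LP (LK LD1_c10 LD2_c42 LD3_c31)) = (LP (LK LD1_c19 LD2_c23 LD3_c17)) :=
  Lre_e IH (LK LD1_c10 LD2_c42 LD3_c31) (LK LD1_c19 LD2_c23 LD3_c17) Lrfl Lrfl
theorem f888575 : Led Lsl_ff (LP (LK LD1_c27 LD2_c23 LD3_c59)) = (LP (LK LD1_c25 LD2_c41 LD3_c45)) :=
  Lgr Lrot72 (Lpr_et (K20.f191013 IH) (Lpe (K71.f888044 IH) (Lpr_et (f337769 IH) (Lpr_ft (f888569 IH) (Lpe (K25.f336324 IH) (Lpn (LP (LK LD1_c25 LD2_c41 LD3_c45))))))))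
theorem f888035 : Led Lsl_af (LP (LK LD1_c19 LD2_c23 LD3_c22)) = (LP (LK LD1_c27 LD2_c23 LD3_c59)) :=
  Lgr Lrot50 (Lpr_et (K26.f309856 IH) (Lpr_at (K71.f888027 IH) (Lpr_et (K20.f264053 IH) (Lpn (LP (LK LD1_c27 LD2_c23 LD3_c59))))))
theorem f887926 : Led Lsl_ft (LP (LK LD1_c18 LD2_c34 LD3_c36)) = (LP (LK LD1_c24 LD2_c52 LD3_c18)) :=
  Lgr Lrot75 (Lpe (K27.f359121 IH) (Lpr_ff (K71.f887924 IH) (Lpe (K67.f254181 IH) (Lpn (LP (LK LD1_c24 LD2_c52 LD3_c18))))))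
theorem f888023 : Led Lsl_ft (LP (LK LD1_c19 LD2_c23 LD3_c22)) = (LP (LK LD1_c17 LD2_c42 LD3_c8)) :=
  Lgr Lrot86 (Lpe (K25.f341078 IH) (Lpr_ff (K71.f888019 IH) (Lpe (K22.f320517 IH) (Lpe (f887926 IH) (Lpr_ef (K67.f367695 IH) (Lpn (LP (LK LD1_c17 LD2_c42 LD3_c8))))))))
theorem f888581 : Led Lsl_at (LP (LK LD1_c17 LD2_c42 LD3_c8)) = (LP (LK LD1_c25 LD2_c41 LD3_c45)) :=
  Lgr Lrot66 (Lpe (f888023 IH) (Lpr_af (f888035 IH) (Lpr_ff (f888575 IH) (Lpn (LP (LK LD1_c25 LD2_c41 LD3_c45))))))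
theorem f888641 : Led Lsl_af (LP (LK LD1_c9 LD2_c36 LD3_c46)) = (LP (LK LD1_c15 LD2_c45 LD3_c1)) :=
  Lgr Lrot117 (Lpr_dt (K26.f361288 IH) (Lpr_at (f888581 IH) (Lpr_dt (K22.f215543 IH) (Lpn (LP (LK LD1_c15 LD2_c45 LD3_c1))))))
def v36209 : LQ := Led Lsl_at (LP (LK LD1_c8 LD2_c22 LD3_c10))
theorem f882755 : Led Lsl_at (LP (LK LD1_c8 LD2_c22 LD3_c10)) = v36209 :=
  Lrfl
theorem f882756 : Led Lsl_af (LP (LK LD1_c8 LD2_c22 LD3_c10)) = v36209 :=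
  Lgr Lrot0 (Lpr_at (f882755 IH) (Lpn v36209))
theorem f888647 : (LP (LK LD1_c15 LD2_c44 LD3_c32)) = v36209 :=
  (Llr Lrot111 (Lpe (K35.f361313 IH) (Lpr_af (f888641 IH) (Lpe (K22.f215485 IH) (Lpr_af (f882756 IH) (Lpn v36209)))))).symm
theorem f882757 : Led Lsl_ft (LP (LK LD1_c8 LD2_c22 LD3_c11)) = v36209 :=
  Lgr Lrot2 (Lpr_gt (K26.f278493 IH) (Lpr_gt (K22.f215484 IH) (Lpr_af (f882756 IH) (Lpn v36209))))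
theorem f888652 : Led Lsl_ff (LP (LK LD1_c15 LD2_c45 LD3_c5)) = (LP (LK LD1_c9 LD2_c36 LD3_c46)) :=
  Lgr Lrot23 (Lpr_ct (K26.f287787 IH) (Lpr_ft (f882757 IH) (Lpq (f888647 IH) (Lpe (K53.f361283 IH) (Lpn (LP (LK LD1_c9 LD2_c36 LD3_c46)))))))
theorem f887809 : Led Lsl_ft (LP (LK LD1_c17 LD2_c43 LD3_c20)) = (LP (LK LD1_c15 LD2_c45 LD3_c1)) :=
  Lgr Lrot75 (Lpe (K20.f321158 IH) (Lpr_ff (K71.f887795 IH) (Lpe (K24.f351395 IH) (Lpn (LP (LK LD1_c15 LD2_c45 LD3_c1))))))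
theorem f888668 : Led Lsl_at (LP (LK LD1_c15 LD2_c45 LD3_c5)) = (LP (LK LD1_c17 LD2_c43 LD3_c20)) :=
  Lgr Lrot66 (Lpr_ff (f888652 IH) (Lpr_af (f888641 IH) (Lpe (f887809 IH) (Lpn (LP (LK LD1_c17 LD2_c43 LD3_c20))))))
def v36210 : LQ := Led Lsl_ft (LP (LK LD1_c8 LD2_c22 LD3_c10))
theorem f882759 : Led Lsl_ft (LP (LK LD1_c8 LD2_c22 LD3_c10)) = v36210 :=
  Lrfl
theorem f882760 : Led Lsl_af (LP (LK LD1_c8 LD2_c22 LD3_c11)) = v36210 :=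
  Lgr Lrot45 (Lpr_ft (f882757 IH) (Lpe (f882756 IH) (Lpr_ft (f882759 IH) (Lpn v36210))))
theorem f888672 : v36210 = (LP (LK LD1_c15 LD2_c44 LD3_c33)) :=
  (Llr Lrot68 (Lpe (f882760 IH) (Lpr_ct (K25.f287786 IH) (Lpr_at (f888668 IH) (Lpe (K20.f321156 IH) (Lpn (LP (LK LD1_c15 LD2_c44 LD3_c33)))))))).symm
theorem f322550 : Led Lsl_et (LP (LK LD1_c8 LD2_c22 LD3_c11)) = (LP (LK LD1_c15 LD2_c45 LD3_c7)) :=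
  Lre_e IH (LK LD1_c8 LD2_c22 LD3_c11) (LK LD1_c15 LD2_c45 LD3_c7) Lrfl Lrfl
theorem f888679 : Led Lsl_af (LP (LK LD1_c25 LD2_c40 LD3_c10)) = (LP (LK LD1_c15 LD2_c45 LD3_c7)) :=
  Lgr Lrot50 (Lpe (K20.f295950 IH) (Lpq (f888672 IH) (Lpe (f882760 IH) (Lpr_et (f322550 IH) (Lpn (LP (LK LD1_c15 LD2_c45 LD3_c7)))))))
theorem f322508 : Led Lsl_ct (LP (LK LD1_c8 LD2_c23 LD3_c50)) = (LP (LK LD1_c15 LD2_c47 LD3_c26)) :=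
  Lre_c IH (LK LD1_c8 LD2_c23 LD3_c50) (LK LD1_c15 LD2_c47 LD3_c26) Lrfl Lrfl
theorem f360621 : Led Lsl_gf (LP (LK LD1_c25 LD2_c40 LD3_c10)) = (LP (LK LD1_c15 LD2_c47 LD3_c26)) :=
  Lgr Lrot129 (Lpr_cf (K26.f321173 IH) (Lpe (K20.f322708 IH) (Lpe (K26.f337748 IH) (Lpe (K23.f314593 IH) (Lpr_ct (K23.f195476 IH) (Lpr_gt (K53.f360593 IH) (Lpr_cf (K53.f351383 IH) (Lpr_bt (K21.f325887 IH) (Lpr_gt (K21.f322487 IH) (Lpr_ct (f322508 IH) (Lpn (LP (LK LD1_c15 LD2_c47 LD3_c26)))))))))))))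
theorem f888683 : Led Lsl_ft (LP (LK LD1_c25 LD2_c40 LD3_c14)) = (LP (LK LD1_c15 LD2_c45 LD3_c7)) :=
  Lgr Lrot2 (Lpr_gt (K26.f322509 IH) (Lpe (f360621 IH) (Lpr_af (f888679 IH) (Lpn (LP (LK LD1_c15 LD2_c45 LD3_c7))))))
theorem f278494 : Led Lsl_et (LP (LK LD1_c15 LD2_c45 LD3_c7)) = (LP (LK LD1_c8 LD2_c22 LD3_c11)) :=
  Lre_e IH (LK LD1_c15 LD2_c45 LD3_c7) (LK LD1_c8 LD2_c22 LD3_c11) Lrfl Lrfl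
theorem f316298 : Led Lsl_ef (LP (LK LD1_c8 LD2_c22 LD3_c48)) = (LP (LK LD1_c15 LD2_c44 LD3_c32)) :=
  Lgr Lrot88 (Lpr_et (K53.f316292 IH) (Lpn (LP (LK LD1_c15 LD2_c44 LD3_c32))))
theorem f888689 : (LP (LK LD1_c15 LD2_c45 LD3_c38)) = K67.v36238 :=
  (Llr Lrot21 (Lpr_et (K26.f310131 IH) (Lpr_ft (f888683 IH) (Lpr_et (f278494 IH) (Lpr_ft (f882757 IH) (Lpq (f888647 IH) (Lpe (f316298 IH) (Lpr_ft (K67.f882931 IH) (Lpn K67.v36238))))))))).symm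
theorem f316280 : Led Lsl_df (LP (LK LD1_c8 LD2_c22 LD3_c48)) = (LP (LK LD1_c15 LD2_c42 LD3_c58)) :=
  Lgr Lrot38 (Lpr_dt (K20.f316273 IH) (Lpn (LP (LK LD1_c15 LD2_c42 LD3_c58))))
theorem f888698 : Led Lsl_ff (LP (LK LD1_c15 LD2_c42 LD3_c58)) = (LP (LK LD1_c25 LD2_c37 LD3_c16)) :=
  Lgr Lrot19 (Lpe (f316280 IH) (Lpr_ft (K67.f882931 IH) (Lpq (f888689 IH) (Lpe (K26.f336466 IH) (Lpn (LP (LK LD1_c25 LD2_c37 LD3_c16)))))))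
theorem f178598 : Led Lsl_dt (LP (LK LD1_c15 LD2_c42 LD3_c60)) = (LP (LK LD1_c8 LD2_c20 LD3_c57)) :=
  Lre_d IH (LK LD1_c15 LD2_c42 LD3_c60) (LK LD1_c8 LD2_c20 LD3_c57) Lrfl Lrfl
theorem f336484 : Led Lsl_gt (LP (LK LD1_c25 LD2_c37 LD3_c16)) = (LP (LK LD1_c15 LD2_c42 LD3_c60)) :=
  Lgr Lrot49 (Lpr_df (K26.f336466 IH) (Lpe (K26.f300462 IH) (Lpe (K20.f200235 IH) (Lpr_gt (K21.f300357 IH) (Lpe (K21.f302915 IH) (Lpr_gt (K22.f248397 IH) (Lpe (K22.f178585 IH) (Lpe (K22.f178597 IH) (Lpe (f178598 IH) (Lpn (LP (LK LD1_c15 LD2_c42 LD3_c60))))))))))))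
theorem f888707 : Led Lsl_at (LP (LK LD1_c15 LD2_c42 LD3_c58)) = (LP (LK LD1_c25 LD2_c37 LD3_c17)) :=
  Lgr Lrot26 (Lpr_ff (f888698 IH) (Lpr_gt (f336484 IH) (Lpr_gt (K23.f231096 IH) (Lpn (LP (LK LD1_c25 LD2_c37 LD3_c17))))))
theorem f336427 : Led Lsl_dt (LP (LK LD1_c25 LD2_c37 LD3_c17)) = (LP (LK LD1_c15 LD2_c45 LD3_c3)) :=
  Lgr Lrot113 (Lpe (K23.f231096 IH) (Lpe (K23.f178656 IH) (Lpe (K22.f178623 IH) (Lpr_ct (K22.f336419 IH) (Lpr_gt (K21.f304636 IH) (Lpr_dt (K22.f330853 IH) (Lpe (K22.f336336 IH) (Lpr_dt (K22.f336316 IH) (Lpe (K22.f336291 IH) (Lpn (LP (LK LD1_c15 LD2_c45 LD3_c3))))))))))))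
theorem f888713 : K67.v36239 = (LP (LK LD1_c15 LD2_c45 LD3_c3)) :=
  (Llr Lrot117 (Lpe (K67.f882934 IH) (Lpr_dt (K20.f316273 IH) (Lpr_at (f888707 IH) (Lpr_dt (f336427 IH) (Lpn (LP (LK LD1_c15 LD2_c45 LD3_c3)))))))).symm
theorem f290265 : Led Lsl_et (LP (LK LD1_c15 LD2_c46 LD3_c2)) = (LP (LK LD1_c8 LD2_c22 LD3_c47)) :=
  Lre_e IH (LK LD1_c15 LD2_c46 LD3_c2) (LK LD1_c8 LD2_c22 LD3_c47) Lrfl Lrfl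
theorem f295953 : Led Lsl_et (LP (LK LD1_c15 LD2_c44 LD3_c33)) = (LP (LK LD1_c25 LD2_c40 LD3_c10)) :=
  Lgr Lrot87 (Lpr_ef (K20.f295950 IH) (Lpn (LP (LK LD1_c25 LD2_c40 LD3_c10))))
theorem f888724 : Led Lsl_ff (LP (LK LD1_c15 LD2_c46 LD3_c2)) = (LP (LK LD1_c25 LD2_c40 LD3_c10)) :=
  Lgr Lrot72 (Lpr_et (f290265 IH) (Lpr_ft (K67.f882933 IH) (Lpqs (f888713 IH) (Lpr_et (K22.f336278 IH) (Lpr_ft (f882759 IH) (Lpqs (f888672 IH) (Lpr_et (f295953 IH) (Lpn (LP (LK LD1_c25 LD2_c40 LD3_c10))))))))))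
theorem f888728 : Led Lsl_ft (LP (LK LD1_c15 LD2_c46 LD3_c2)) = (LP (LK LD1_c25 LD2_c40 LD3_c10)) :=
  Lgr Lrot48 (Lpr_ff (f888724 IH) (Lpn (LP (LK LD1_c25 LD2_c40 LD3_c10))))
theorem f336416 : Led Lsl_et (LP (LK LD1_c8 LD2_c22 LD3_c47)) = (LP (LK LD1_c15 LD2_c46 LD3_c2)) :=
  Lre_e IH (LK LD1_c8 LD2_c22 LD3_c47) (LK LD1_c15 LD2_c46 LD3_c2) Lrfl Lrfl
theorem f336417 : Led Lsl_ct (LP (LK LD1_c15 LD2_c46 LD3_c2)) = (LP (LK LD1_c17 LD2_c43 LD3_c34)) :=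
  Lgr Lrot15 (Lpe (f336416 IH) (Lpr_cf (K22.f336367 IH) (Lpe (K27.f256027 IH) (Lpn (LP (LK LD1_c17 LD2_c43 LD3_c34))))))
theorem f340667 : Led Lsl_bt (LP (LK LD1_c25 LD2_c42 LD3_c44)) = (LP (LK LD1_c15 LD2_c46 LD3_c2)) :=
  Lre_b IH (LK LD1_c25 LD2_c42 LD3_c44) (LK LD1_c15 LD2_c46 LD3_c2) Lrfl Lrfl
theorem f361743 : Led Lsl_bt (LP (LK LD1_c16 LD2_c0 LD3_c32)) = (LP (LK LD1_c25 LD2_c57 LD3_c48)) :=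
  Lre_b IH (LK LD1_c16 LD2_c0 LD3_c32) (LK LD1_c25 LD2_c57 LD3_c48) Lrfl Lrfl
theorem f361744 : Led Lsl_cf (LP (LK LD1_c25 LD2_c42 LD3_c44)) = (LP (LK LD1_c25 LD2_c57 LD3_c48)) :=
  Lgr Lrot97 (Lpr_bt (f340667 IH) (Lpr_ct (f336417 IH) (Lpe (K27.f340665 IH) (Lpr_ct (K27.f361736 IH) (Lpr_bt (f361743 IH) (Lpn (LP (LK LD1_c25 LD2_c57 LD3_c48))))))))
theorem f361765 : Led Lsl_ct (LP (LK LD1_c25 LD2_c42 LD3_c44)) = (LP (LK LD1_c25 LD2_c57 LD3_c48)) :=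
  Lgr Lrot59 (Lpr_cf (f361744 IH) (Lpn (LP (LK LD1_c25 LD2_c57 LD3_c48))))
theorem f355733 : Led Lsl_bt (LP (LK LD1_c15 LD2_c46 LD3_c2)) = (LP (LK LD1_c25 LD2_c42 LD3_c44)) :=
  Lre_b IH (LK LD1_c15 LD2_c46 LD3_c2) (LK LD1_c25 LD2_c42 LD3_c44) Lrfl Lrfl
theorem f361748 : Led Lsl_bt (LP (LK LD1_c25 LD2_c57 LD3_c48)) = (LP (LK LD1_c16 LD2_c0 LD3_c32)) :=
  Lre_b IH (LK LD1_c25 LD2_c57 LD3_c48) (LK LD1_c16 LD2_c0 LD3_c32) Lrfl Lrfl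
theorem f361769 : Led Lsl_cf (LP (LK LD1_c15 LD2_c46 LD3_c2)) = (LP (LK LD1_c17 LD2_c43 LD3_c34)) :=
  Lgr Lrot97 (Lpr_bt (f355733 IH) (Lpr_ct (f361765 IH) (Lpr_bt (f361748 IH) (Lpe (K27.f361746 IH) (Lpr_bt (K27.f340632 IH) (Lpn (LP (LK LD1_c17 LD2_c43 LD3_c34))))))))
theorem f888732 : Led Lsl_ff (LP (LK LD1_c17 LD2_c43 LD3_c34)) = (LP (LK LD1_c20 LD2_c2 LD3_c28)) :=
  Lgr Lrot23 (Lpe (f361769 IH) (Lpr_ft (f888728 IH) (Lpr_ct (K26.f321171 IH) (Lpn (LP (LK LD1_c20 LD2_c2 LD3_c28))))))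
theorem f882761 : Led Lsl_ff (LP (LK LD1_c8 LD2_c22 LD3_c10)) = v36210 :=
  Lgr Lrot3 (Lpr_ft (f882759 IH) (Lpn v36210))
theorem f888677 : Led Lsl_ft (LP (LK LD1_c15 LD2_c45 LD3_c1)) = (LP (LK LD1_c17 LD2_c43 LD3_c20)) :=
  Lgr Lrot4 (Lpe (K22.f215485 IH) (Lpr_ff (f882761 IH) (Lpqs (f888672 IH) (Lpr_cf (K20.f321156 IH) (Lpn (LP (LK LD1_c17 LD2_c43 LD3_c20)))))))
theorem f888738 : Led Lsl_ft (LP (LK LD1_c9 LD2_c37 LD3_c55)) = (LP (LK LD1_c17 LD2_c43 LD3_c30)) :=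
  Lgr Lrot86 (Lpe (K27.f256027 IH) (Lpr_ff (f888732 IH) (Lpe (K20.f322672 IH) (Lpe (f888677 IH) (Lpr_ef (K22.f336310 IH) (Lpn (LP (LK LD1_c17 LD2_c43 LD3_c30))))))))
theorem f888742 : Led Lsl_af (LP (LK LD1_c9 LD2_c37 LD3_c56)) = (LP (LK LD1_c17 LD2_c43 LD3_c30)) :=
  Lgr Lrot31 (Lpe (K26.f270877 IH) (Lpe (K22.f270876 IH) (Lpr_ft (f888738 IH) (Lpn (LP (LK LD1_c17 LD2_c43 LD3_c30))))))
theorem f888308 : Led Lsl_ff (LP (LK LD1_c9 LD2_c37 LD3_c5)) = (LP (LK LD1_c9 LD2_c37 LD3_c56)) :=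
  Lgr Lrot19 (Lpe (K25.f307373 IH) (Lpr_ft (K71.f888302 IH) (Lpe (K26.f361323 IH) (Lpn (LP (LK LD1_c9 LD2_c37 LD3_c56))))))
theorem f888746 : Led Lsl_at (LP (LK LD1_c9 LD2_c37 LD3_c5)) = (LP (LK LD1_c9 LD2_c37 LD3_c55)) :=
  Lgr Lrot66 (Lpr_ff (f888308 IH) (Lpr_af (f888742 IH) (Lpe (f888738 IH) (Lpn (LP (LK LD1_c9 LD2_c37 LD3_c55))))))
theorem f888748 : Led Lsl_af (LP (LK LD1_c9 LD2_c37 LD3_c5)) = (LP (LK LD1_c9 LD2_c37 LD3_c55)) :=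
  Lgr Lrot0 (Lpr_at (f888746 IH) (Lpn (LP (LK LD1_c9 LD2_c37 LD3_c55))))
theorem f888752 : Led Lsl_at (LP (LK LD1_c17 LD2_c42 LD3_c36)) = (LP (LK LD1_c17 LD2_c43 LD3_c34)) :=
  Lgr Lrot80 (Lpe (K25.f307375 IH) (Lpr_af (f888748 IH) (Lpe (K27.f256027 IH) (Lpn (LP (LK LD1_c17 LD2_c43 LD3_c34))))))
theorem f888754 : Led Lsl_af (LP (LK LD1_c11 LD2_c8 LD3_c48)) = (LP (LK LD1_c17 LD2_c48 LD3_c54)) :=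
  Lgr Lrot117 (Lpe (K25.f336523 IH) (Lpr_at (f888752 IH) (Lpr_dt (K27.f330883 IH) (Lpn (LP (LK LD1_c17 LD2_c48 LD3_c54))))))
theorem f888762 : Led Lsl_ft (LP (LK LD1_c11 LD2_c8 LD3_c47)) = (LP (LK LD1_c17 LD2_c48 LD3_c54)) :=
  Lgr Lrot2 (Lpr_gt (K20.f297767 IH) (Lpr_gt (K22.f336525 IH) (Lpr_af (f888754 IH) (Lpn (LP (LK LD1_c17 LD2_c48 LD3_c54))))))
theorem f888764 : Led Lsl_ff (LP (LK LD1_c15 LD2_c44 LD3_c2)) = (LP (LK LD1_c10 LD2_c35 LD3_c52)) :=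
  Lgr Lrot23 (Lpe (K21.f325828 IH) (Lpr_ft (f888762 IH) (Lpe (K19.f298406 IH) (Lpn (LP (LK LD1_c10 LD2_c35 LD3_c52))))))
theorem f888772 : Led Lsl_at (LP (LK LD1_c15 LD2_c44 LD3_c2)) = (LP (LK LD1_c10 LD2_c35 LD3_c51)) :=
  Lgr Lrot26 (Lpr_ff (f888764 IH) (Lpr_gt (K19.f276758 IH) (Lpr_gt (K22.f224358 IH) (Lpn (LP (LK LD1_c10 LD2_c35 LD3_c51))))))
theorem f942458 : Led Lsl_af (LP (LK LD1_c25 LD2_c40 LD3_c27)) = v43821 :=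
  Lgr Lrot50 (Lpr_et (K16.f246580 IH) (Lpr_at (f888772 IH) (Lpr_et (f942457 IH) (Lpn v43821))))
theorem f942464 : Led Lsl_af (LP (LK LD1_c10 LD2_c42 LD3_c39)) = (LP (LK LD1_c19 LD2_c5 LD3_c32)) :=
  Lgr Lrot117 (Lpr_dt (f942463 IH) (Lpe (f942458 IH) (Lpr_dt (K16.f246582 IH) (Lpn (LP (LK LD1_c19 LD2_c5 LD3_c32))))))
theorem f942465 : Led Lsl_at (LP (LK LD1_c19 LD2_c5 LD3_c32)) = (LP (LK LD1_c10 LD2_c42 LD3_c39)) :=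
  Leop (Lpr_af (f942464 IH) (Lpn (LP (LK LD1_c19 LD2_c5 LD3_c32))))
theorem seed_2674 : LEOK LG_a (LK LD1_c19 LD2_c5 LD3_c32) :=
  Leoe_a (LK LD1_c19 LD2_c5 LD3_c32) (f942465 IH)
theorem f446721 : Led Lsl_ft (LP (LK LD1_c5 LD2_c25 LD3_c41)) = (LP (LK LD1_c10 LD2_c34 LD3_c58)) :=
  Lre_f IH (LK LD1_c5 LD2_c25 LD3_c41) (LK LD1_c10 LD2_c34 LD3_c58) Lrfl Lrfl
theorem f941050 : Led Lsl_at (LP (LK LD1_c10 LD2_c34 LD3_c58)) = v43550 :=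
  Lgr Lrot66 (Lpe (f446721 IH) (Lpe (f941049 IH) (Lpr_ff (f941048 IH) (Lpn v43550))))
theorem f307826 : Led Lsl_gt (LP (LK LD1_c5 LD2_c25 LD3_c41)) = (LP (LK LD1_c10 LD2_c42 LD3_c38)) :=
  Lre_g IH (LK LD1_c5 LD2_c25 LD3_c41) (LK LD1_c10 LD2_c42 LD3_c38) Lrfl Lrfl
theorem f941053 : Led Lsl_gt (LP (LK LD1_c10 LD2_c42 LD3_c38)) = v43550 :=
  Lgr Lrot46 (Lpe (f307826 IH) (Lpr_ft (f446721 IH) (Lpr_at (f941050 IH) (Lpn v43550))))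
theorem f942469 : Led Lsl_ft (LP (LK LD1_c10 LD2_c42 LD3_c38)) = (LP (LK LD1_c19 LD2_c5 LD3_c32)) :=
  Lgr Lrot2 (Lpr_gt (f941053 IH) (Lpe (f941052 IH) (Lpr_af (f942464 IH) (Lpn (LP (LK LD1_c19 LD2_c5 LD3_c32))))))
theorem f942470 : Led Lsl_ft (LP (LK LD1_c10 LD2_c42 LD3_c38)) = (LP (LK LD1_c19 LD2_c5 LD3_c32)) :=
  Leop (Lpe (f942469 IH) (Lpn (LP (LK LD1_c10 LD2_c42 LD3_c38))))
theorem seed_2675 : LEOK LG_f (LK LD1_c10 LD2_c42 LD3_c38) :=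
  Leoe_f (LK LD1_c10 LD2_c42 LD3_c38) (f942470 IH)
def v43838 : LQ := Led Lsl_dt (LP (LK LD1_c10 LD2_c36 LD3_c26))
theorem f942537 : Led Lsl_dt (LP (LK LD1_c10 LD2_c36 LD3_c26)) = v43838 :=
  Lrfl
theorem f569667 : Led Lsl_df (LP (LK LD1_c7 LD2_c8 LD3_c10)) = (LP (LK LD1_c11 LD2_c23 LD3_c32)) :=
  Lgr Lrot38 (Lpr_dt (K42.f569661 IH) (Lpn (LP (LK LD1_c11 LD2_c23 LD3_c32))))
theorem f942538 : Led Lsl_cf (LP (LK LD1_c11 LD2_c23 LD3_c32)) = v43838 :=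
  Lgr Lrot55 (Lpe (f569667 IH) (Lpr_ct (K42.f160301 IH) (Lpe (K42.f569729 IH) (Lpr_ct (K42.f566173 IH) (Lpr_dt (K42.f312967 IH) (Lpr_ct (K71.f312966 IH) (Lpe (K71.f591507 IH) (Lpr_ct (K71.f93091 IH) (Lpr_dt (K8.f93090 IH) (Lpr_ct (K8.f93085 IH) (Lpr_dt (K39.f93092 IH) (Lpr_ct (K71.f589027 IH) (Lpr_dt (K38.f228712 IH) (Lpr_ct (K71.f228703 IH) (Lpr_dt (f942537 IH) (Lpn v43838))))))))))))))))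
theorem f566181 : Led Lsl_ct (LP (LK LD1_c9 LD2_c42 LD3_c59)) = (LP (LK LD1_c12 LD2_c6 LD3_c11)) :=
  Lgr Lrot59 (Lpr_cf (K41.f566175 IH) (Lpn (LP (LK LD1_c12 LD2_c6 LD3_c11))))
theorem f263874 : Led Lsl_gt (LP (LK LD1_c9 LD2_c42 LD3_c11)) = (LP (LK LD1_c17 LD2_c50 LD3_c47)) :=
  Lre_g IH (LK LD1_c9 LD2_c42 LD3_c11) (LK LD1_c17 LD2_c50 LD3_c47) Lrfl Lrfl
theorem f942545 : Led Lsl_bf (LP (LK LD1_c17 LD2_c50 LD3_c47)) = v43838 :=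
  Lgr Lrot34 (Lpe (f263874 IH) (Lpe (K27.f263869 IH) (Lpr_ct (K15.f263764 IH) (Lpe (K15.f263999 IH) (Lpr_cf (K17.f263979 IH) (Lpe (K17.f277523 IH) (Lpe (K27.f218490 IH) (Lpr_ct (f566181 IH) (Lpe (K42.f566187 IH) (Lpr_cf (f942538 IH) (Lpn v43838)))))))))))
theorem f228700 : Led Lsl_bt (LP (LK LD1_c17 LD2_c48 LD3_c8)) = (LP (LK LD1_c10 LD2_c36 LD3_c26)) :=
  Lgr Lrot127 (Lpr_bf (K68.f228691 IH) (Lpn (LP (LK LD1_c10 LD2_c36 LD3_c26))))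
theorem f942547 : Led Lsl_dt (LP (LK LD1_c17 LD2_c50 LD3_c47)) = (LP (LK LD1_c17 LD2_c48 LD3_c8)) :=
  Lgr Lrot79 (Lpr_bf (f942545 IH) (Lpe (f942537 IH) (Lpe (f228700 IH) (Lpn (LP (LK LD1_c17 LD2_c48 LD3_c8))))))
theorem f942548 : Led Lsl_dt (LP (LK LD1_c17 LD2_c50 LD3_c47)) = (LP (LK LD1_c17 LD2_c48 LD3_c8)) :=
  Leop (Lpe (f942547 IH) (Lpn (LP (LK LD1_c17 LD2_c50 LD3_c47))))
theorem seed_2676 : LEOK LG_d (LK LD1_c17 LD2_c50 LD3_c47) :=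
  Leoe_d (LK LD1_c17 LD2_c50 LD3_c47) (f942548 IH)
theorem f173499 : Led Lsl_et (LP (LK LD1_c16 LD2_c43 LD3_c31)) = (LP (LK LD1_c8 LD2_c56 LD3_c7)) :=
  Lre_e IH (LK LD1_c16 LD2_c43 LD3_c31) (LK LD1_c8 LD2_c56 LD3_c7) Lrfl Lrfl
def v37468 : LQ := Led Lsl_ft (LP (LK LD1_c8 LD2_c56 LD3_c6))
theorem f894802 : Led Lsl_ft (LP (LK LD1_c8 LD2_c56 LD3_c6)) = v37468 :=
  Lrfl
theorem f894805 : Led Lsl_ff (LP (LK LD1_c8 LD2_c56 LD3_c6)) = v37468 :=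
  Lgr Lrot3 (Lpr_ft (f894802 IH) (Lpn v37468))
theorem f894790 : Led Lsl_ft (LP (LK LD1_c8 LD2_c56 LD3_c7)) = K71.v37465 :=
  Lgr Lrot54 (Lpr_df (K27.f173497 IH) (Lpr_ff (K71.f698088 IH) (Lpr_df (K71.f894788 IH) (Lpn K71.v37465))))
theorem f894791 : Led Lsl_ff (LP (LK LD1_c8 LD2_c56 LD3_c7)) = K71.v37465 :=
  Lgr Lrot3 (Lpr_ft (f894790 IH) (Lpn K71.v37465))
theorem f894806 : Led Lsl_at (LP (LK LD1_c8 LD2_c56 LD3_c7)) = v37468 :=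
  Lgr Lrot66 (Lpr_ff (f894791 IH) (Lpe (K71.f894786 IH) (Lpr_ff (f894805 IH) (Lpn v37468))))
theorem f727405 : Led Lsl_ff (LP (LK LD1_c5 LD2_c28 LD3_c26)) = K71.v14950 :=
  Lgr Lrot3 (Lpr_ft (K71.f727402 IH) (Lpn K71.v14950))
theorem f916216 : (LP (LK LD1_c5 LD2_c28 LD3_c26)) = v37468 :=
  Lefun (Lecon (Lfl_ff (f727405 IH)) (K71.f916211 IH)) (f894802 IH)
def v14949 : LQ := Led Lsl_et (LP (LK LD1_c5 LD2_c28 LD3_c26))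
theorem f727400 : Led Lsl_et (LP (LK LD1_c5 LD2_c28 LD3_c26)) = v14949 :=
  Lrfl
theorem f916663 : Led Lsl_af (LP (LK LD1_c16 LD2_c43 LD3_c31)) = v14949 :=
  Lgr Lrot50 (Lpr_et (f173499 IH) (Lpr_at (f894806 IH) (Lpq (f916216 IH) (Lpr_et (f727400 IH) (Lpn v14949)))))
def v37509 : LQ := Led Lsl_gt (LP (LK LD1_c8 LD2_c56 LD3_c58))
theorem f895004 : Led Lsl_gt (LP (LK LD1_c8 LD2_c56 LD3_c58)) = v37509 :=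
  Lrfl
theorem f353383 : Led Lsl_at (LP (LK LD1_c5 LD2_c30 LD3_c51)) = (LP (LK LD1_c10 LD2_c53 LD3_c16)) :=
  Lre_a IH (LK LD1_c5 LD2_c30 LD3_c51) (LK LD1_c10 LD2_c53 LD3_c16) Lrfl Lrfl
theorem f895005 : Led Lsl_gf (LP (LK LD1_c10 LD2_c53 LD3_c16)) = v37509 :=
  Lgr Lrot76 (Lpe (f353383 IH) (Lpr_ff (K65.f353353 IH) (Lpr_gt (f895004 IH) (Lpn v37509))))
theorem f916665 : Led Lsl_ft v37509 = v14949 :=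
  Lgr Lrot2 (Lpe (f895005 IH) (Lpr_gt (K65.f826521 IH) (Lpr_af (f916663 IH) (Lpn v14949))))
theorem f916666 : Led Lsl_ff v37509 = v14949 :=
  Lgr Lrot3 (Lpr_ft (f916665 IH) (Lpn v14949))
def v43878 : LQ := Led Lsl_bt (LP (LK LD1_c10 LD2_c37 LD3_c9))
theorem f942743 : Led Lsl_bt (LP (LK LD1_c10 LD2_c37 LD3_c9)) = v43878 :=
  Lrfl
theorem f942747 : Led Lsl_gt (LP (LK LD1_c11 LD2_c52 LD3_c27)) = v43878 :=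
  Lgr Lrot164 (Lpe (K23.f214058 IH) (Lpr_ct (K15.f214061 IH) (Lpe (K12.f214068 IH) (Lpe (K10.f182099 IH) (Lpe (K10.f177479 IH) (Lpr_bf (K39.f554791 IH) (Lpr_ct (K15.f190161 IH) (Lpr_gf (K15.f266698 IH) (Lpr_cf (K15.f256236 IH) (Lpr_bt (f942743 IH) (Lpn v43878)))))))))))
theorem f554907 : Led Lsl_at (LP (LK LD1_c11 LD2_c53 LD3_c59)) = (LP (LK LD1_c6 LD2_c5 LD3_c19)) :=
  Lre_a IH (LK LD1_c11 LD2_c53 LD3_c59) (LK LD1_c6 LD2_c5 LD3_c19) Lrfl Lrfl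
theorem f195265 : Led Lsl_ft (LP (LK LD1_c6 LD2_c5 LD3_c17)) = (LP (LK LD1_c11 LD2_c53 LD3_c59)) :=
  Lre_f IH (LK LD1_c6 LD2_c5 LD3_c17) (LK LD1_c11 LD2_c53 LD3_c59) Lrfl Lrfl
theorem f554908 : Led Lsl_gf (LP (LK LD1_c11 LD2_c53 LD3_c60)) = (LP (LK LD1_c6 LD2_c5 LD3_c17)) :=
  Lgr Lrot47 (Lpr_gt (K39.f554903 IH) (Lpe (f554907 IH) (Lpe (f195265 IH) (Lpn (LP (LK LD1_c6 LD2_c5 LD3_c17))))))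
def v5147 : LQ := Led Lsl_gt (LP (LK LD1_c2 LD2_c59 LD3_c29))
theorem f646219 : Led Lsl_gt (LP (LK LD1_c2 LD2_c59 LD3_c29)) = v5147 :=
  Lrfl
def v25014 : LQ := Led Lsl_ct v5147
theorem f826580 : Led Lsl_ct v5147 = v25014 :=
  Lrfl
theorem f826581 : Led Lsl_cf v5147 = v25014 :=
  Lgr Lrot11 (Lpr_ct (f826580 IH) (Lpn v25014))
theorem f646212 : Led Lsl_ct (LP (LK LD1_c11 LD2_c56 LD3_c25)) = (LP (LK LD1_c6 LD2_c6 LD3_c41)) :=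
  Lre_c IH (LK LD1_c11 LD2_c56 LD3_c25) (LK LD1_c6 LD2_c6 LD3_c41) Lrfl Lrfl
theorem f881785 : Led Lsl_bt (LP (LK LD1_c25 LD2_c26 LD3_c15)) = (LP (LK LD1_c15 LD2_c32 LD3_c59)) :=
  Lre_b IH (LK LD1_c25 LD2_c26 LD3_c15) (LK LD1_c15 LD2_c32 LD3_c59) Lrfl Lrfl
theorem f881787 : Led Lsl_ft (LP (LK LD1_c15 LD2_c32 LD3_c54)) = (LP (LK LD1_c8 LD2_c16 LD3_c12)) :=
  Lre_f IH (LK LD1_c15 LD2_c32 LD3_c54) (LK LD1_c8 LD2_c16 LD3_c12) Lrfl Lrfl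
theorem f881783 : Led Lsl_at (LP (LK LD1_c8 LD2_c16 LD3_c12)) = (LP (LK LD1_c15 LD2_c32 LD3_c59)) :=
  Lre_a IH (LK LD1_c8 LD2_c16 LD3_c12) (LK LD1_c15 LD2_c32 LD3_c59) Lrfl Lrfl
theorem f939469 : Led Lsl_gf (LP (LK LD1_c24 LD2_c48 LD3_c28)) = (LP (LK LD1_c28 LD2_c20 LD3_c56)) :=
  Lgr Lrot47 (Lpr_gt (f939467 IH) (Lpe (K44.f285466 IH) (Lpr_ff (K44.f370906 IH) (Lpn (LP (LK LD1_c28 LD2_c20 LD3_c56))))))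
theorem f582978 : Led Lsl_at (LP (LK LD1_c16 LD2_c34 LD3_c47)) = (LP (LK LD1_c10 LD2_c33 LD3_c7)) :=
  Lgr Lrot51 (Lpe (K14.f44214 IH) (Lpr_af (K44.f582970 IH) (Lpe (K44.f43975 IH) (Lpn (LP (LK LD1_c10 LD2_c33 LD3_c7))))))
theorem f46491 : Led Lsl_bt (LP (LK LD1_c16 LD2_c34 LD3_c47)) = (LP (LK LD1_c8 LD2_c52 LD3_c3)) :=
  Lre_b IH (LK LD1_c16 LD2_c34 LD3_c47) (LK LD1_c8 LD2_c52 LD3_c3) Lrfl Lrfl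
theorem f46493 : Led Lsl_ff (LP (LK LD1_c16 LD2_c34 LD3_c47)) = (LP (LK LD1_c10 LD2_c34 LD3_c52)) :=
  Lgr Lrot25 (Lpr_bt (f46491 IH) (Lpr_ft (K14.f46423 IH) (Lpr_bt (K14.f46492 IH) (Lpn (LP (LK LD1_c10 LD2_c34 LD3_c52))))))
theorem f43982 : Led Lsl_gt (LP (LK LD1_c19 LD2_c6 LD3_c43)) = (LP (LK LD1_c10 LD2_c33 LD3_c7)) :=
  Lre_g IH (LK LD1_c19 LD2_c6 LD3_c43) (LK LD1_c10 LD2_c33 LD3_c7) Lrfl Lrfl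
theorem f583261 : Led Lsl_gt (LP (LK LD1_c10 LD2_c34 LD3_c52)) = (LP (LK LD1_c19 LD2_c6 LD3_c43)) :=
  Lgr Lrot5 (Lpe (f46493 IH) (Lpr_at (f582978 IH) (Lpe (f43982 IH) (Lpn (LP (LK LD1_c19 LD2_c6 LD3_c43))))))
theorem f43984 : Led Lsl_bt (LP (LK LD1_c28 LD2_c32 LD3_c14)) = (LP (LK LD1_c19 LD2_c6 LD3_c43)) :=
  Lre_b IH (LK LD1_c28 LD2_c32 LD3_c14) (LK LD1_c19 LD2_c6 LD3_c43) Lrfl Lrfl
theorem f939690 : Led Lsl_ct (LP (LK LD1_c28 LD2_c32 LD3_c14)) = (LP (LK LD1_c28 LD2_c20 LD3_c56)) :=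
  Lgr Lrot64 (Lpr_bt (f43984 IH) (Lpe (f583261 IH) (Lpe (K14.f46492 IH) (Lpr_ct (K14.f46422 IH) (Lpe (K14.f190662 IH) (Lpe (K14.f215254 IH) (Lpr_gf (K14.f215025 IH) (Lpe (K13.f43865 IH) (Lpr_ct (K44.f51310 IH) (Lpr_gf (f939469 IH) (Lpn (LP (LK LD1_c28 LD2_c20 LD3_c56)))))))))))))
theorem f939699 : Led Lsl_ff (LP (LK LD1_c28 LD2_c32 LD3_c14)) = (LP (LK LD1_c32 LD2_c10 LD3_c25)) :=
  Lgr Lrot23 (Lpr_ct (f939690 IH) (Lpe (K44.f370906 IH) (Lpr_ct (K71.f604504 IH) (Lpn (LP (LK LD1_c32 LD2_c10 LD3_c25))))))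
theorem f939712 : Led Lsl_ft (LP (LK LD1_c28 LD2_c32 LD3_c14)) = (LP (LK LD1_c32 LD2_c10 LD3_c25)) :=
  Lgr Lrot48 (Lpr_ff (f939699 IH) (Lpn (LP (LK LD1_c32 LD2_c10 LD3_c25))))
theorem f939694 : Led Lsl_bt (LP (LK LD1_c19 LD2_c6 LD3_c43)) = (LP (LK LD1_c28 LD2_c32 LD3_c14)) :=
  Lre_b IH (LK LD1_c19 LD2_c6 LD3_c43) (LK LD1_c28 LD2_c32 LD3_c14) Lrfl Lrfl
theorem f939714 : Led Lsl_ff (LP (LK LD1_c19 LD2_c6 LD3_c43)) = (LP (LK LD1_c26 LD2_c32 LD3_c14)) :=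
  Lgr Lrot25 (Lpr_bt (f939694 IH) (Lpr_ft (f939712 IH) (Lpr_bt (K71.f46514 IH) (Lpn (LP (LK LD1_c26 LD2_c32 LD3_c14))))))
theorem f259880 : Led Lsl_bt (LP (LK LD1_c18 LD2_c31 LD3_c27)) = (LP (LK LD1_c10 LD2_c10 LD3_c6)) :=
  Lre_b IH (LK LD1_c18 LD2_c31 LD3_c27) (LK LD1_c10 LD2_c10 LD3_c6) Lrfl Lrfl
theorem f259800 : Led Lsl_af (LP (LK LD1_c5 LD2_c22 LD3_c11)) = (LP (LK LD1_c10 LD2_c10 LD3_c6)) :=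
  Lgr Lrot0 (Lpr_at (K15.f259772 IH) (Lpn (LP (LK LD1_c10 LD2_c10 LD3_c6))))
theorem f582944 : Led Lsl_at (LP (LK LD1_c10 LD2_c34 LD3_c52)) = (LP (LK LD1_c19 LD2_c6 LD3_c44)) :=
  Lgr Lrot67 (Lpe (K14.f46492 IH) (Lpr_af (f259800 IH) (Lpe (f259880 IH) (Lpe (K44.f259867 IH) (Lpr_bf (K44.f582942 IH) (Lpn (LP (LK LD1_c19 LD2_c6 LD3_c44))))))))
theorem f583269 : Led Lsl_gt (LP (LK LD1_c26 LD2_c32 LD3_c14)) = (LP (LK LD1_c19 LD2_c6 LD3_c44)) :=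
  Lgr Lrot46 (Lpe (K71.f44216 IH) (Lpr_ft (K14.f46499 IH) (Lpr_at (f582944 IH) (Lpn (LP (LK LD1_c19 LD2_c6 LD3_c44))))))
theorem f190706 : Led Lsl_dt (LP (LK LD1_c18 LD2_c14 LD3_c31)) = (LP (LK LD1_c27 LD2_c54 LD3_c45)) :=
  Lre_d IH (LK LD1_c18 LD2_c14 LD3_c31) (LK LD1_c27 LD2_c54 LD3_c45) Lrfl Lrfl
theorem f44144 : Led Lsl_dt (LP (LK LD1_c19 LD2_c0 LD3_c27)) = (LP (LK LD1_c10 LD2_c29 LD3_c6)) :=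
  Lre_d IH (LK LD1_c19 LD2_c0 LD3_c27) (LK LD1_c10 LD2_c29 LD3_c6) Lrfl Lrfl
theorem f583011 : Led Lsl_ft (LP (LK LD1_c27 LD2_c54 LD3_c45)) = (LP (LK LD1_c19 LD2_c0 LD3_c27)) :=
  Lgr Lrot54 (Lpe (f190706 IH) (Lpr_ff (K44.f582996 IH) (Lpe (f44144 IH) (Lpn (LP (LK LD1_c19 LD2_c0 LD3_c27))))))
theorem f46495 : Led Lsl_et (LP (LK LD1_c5 LD2_c22 LD3_c11)) = (LP (LK LD1_c10 LD2_c34 LD3_c53)) :=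
  Lre_e IH (LK LD1_c5 LD2_c22 LD3_c11) (LK LD1_c10 LD2_c34 LD3_c53) Lrfl Lrfl
theorem f190657 : Led Lsl_dt (LP (LK LD1_c10 LD2_c34 LD3_c53)) = (LP (LK LD1_c19 LD2_c10 LD3_c18)) :=
  Lre_d IH (LK LD1_c10 LD2_c34 LD3_c53) (LK LD1_c19 LD2_c10 LD3_c18) Lrfl Lrfl
theorem f190659 : Led Lsl_et (LP (LK LD1_c19 LD2_c10 LD3_c18)) = (LP (LK LD1_c18 LD2_c14 LD3_c32)) :=
  Lgr Lrot71 (Lpe (f190657 IH) (Lpe (f46495 IH) (Lpr_df (K14.f190653 IH) (Lpe (K19.f190650 IH) (Lpe (K19.f190658 IH) (Lpn (LP (LK LD1_c18 LD2_c14 LD3_c32))))))))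
theorem f190674 : Led Lsl_ef (LP (LK LD1_c19 LD2_c10 LD3_c18)) = (LP (LK LD1_c18 LD2_c14 LD3_c32)) :=
  Lgr Lrot88 (Lpr_et (f190659 IH) (Lpn (LP (LK LD1_c18 LD2_c14 LD3_c32))))
theorem f190681 : Led Lsl_bt (LP (LK LD1_c19 LD2_c10 LD3_c18)) = (LP (LK LD1_c28 LD2_c36 LD3_c11)) :=
  Lre_b IH (LK LD1_c19 LD2_c10 LD3_c18) (LK LD1_c28 LD2_c36 LD3_c11) Lrfl Lrfl
theorem f190682 : Led Lsl_bt (LP (LK LD1_c27 LD2_c54 LD3_c45)) = (LP (LK LD1_c18 LD2_c14 LD3_c32)) :=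
  Lre_b IH (LK LD1_c27 LD2_c54 LD3_c45) (LK LD1_c18 LD2_c14 LD3_c32) Lrfl Lrfl
theorem f190683 : Led Lsl_et (LP (LK LD1_c28 LD2_c36 LD3_c11)) = (LP (LK LD1_c27 LD2_c54 LD3_c45)) :=
  Lgr Lrot74 (Lpe (f190681 IH) (Lpr_ef (f190674 IH) (Lpe (f190682 IH) (Lpn (LP (LK LD1_c27 LD2_c54 LD3_c45))))))
theorem f212355 : Led Lsl_et (LP (LK LD1_c18 LD2_c35 LD3_c15)) = (LP (LK LD1_c19 LD2_c0 LD3_c27)) :=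
  Lgr Lrot71 (Lpe (K19.f212354 IH) (Lpe (K19.f212332 IH) (Lpr_df (K15.f212352 IH) (Lpe (K14.f47354 IH) (Lpe (f44144 IH) (Lpn (LP (LK LD1_c19 LD2_c0 LD3_c27))))))))
theorem f212364 : Led Lsl_ef (LP (LK LD1_c18 LD2_c35 LD3_c15)) = (LP (LK LD1_c19 LD2_c0 LD3_c27)) :=
  Lgr Lrot88 (Lpr_et (f212355 IH) (Lpn (LP (LK LD1_c19 LD2_c0 LD3_c27))))
theorem f583020 : Led Lsl_ff (LP (LK LD1_c28 LD2_c36 LD3_c11)) = (LP (LK LD1_c19 LD2_c10 LD3_c18)) :=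
  Lgr Lrot72 (Lpr_et (f190683 IH) (Lpr_ft (f583011 IH) (Lpe (f212364 IH) (Lpe (K19.f233633 IH) (Lpe (f190674 IH) (Lpn (LP (LK LD1_c19 LD2_c10 LD3_c18))))))))
theorem f583029 : Led Lsl_ft (LP (LK LD1_c28 LD2_c36 LD3_c11)) = (LP (LK LD1_c19 LD2_c10 LD3_c18)) :=
  Lgr Lrot48 (Lpr_ff (f583020 IH) (Lpn (LP (LK LD1_c19 LD2_c10 LD3_c18))))
theorem f190692 : Led Lsl_dt (LP (LK LD1_c19 LD2_c10 LD3_c15)) = (LP (LK LD1_c28 LD2_c36 LD3_c11)) :=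
  Lre_d IH (LK LD1_c19 LD2_c10 LD3_c15) (LK LD1_c28 LD2_c36 LD3_c11) Lrfl Lrfl
theorem f190676 : Led Lsl_dt (LP (LK LD1_c19 LD2_c10 LD3_c18)) = (LP (LK LD1_c10 LD2_c34 LD3_c53)) :=
  Lre_d IH (LK LD1_c19 LD2_c10 LD3_c18) (LK LD1_c10 LD2_c34 LD3_c53) Lrfl Lrfl
theorem f583035 : Led Lsl_ff (LP (LK LD1_c19 LD2_c10 LD3_c15)) = (LP (LK LD1_c10 LD2_c34 LD3_c53)) :=
  Lgr Lrot19 (Lpr_dt (f190692 IH) (Lpr_ft (f583029 IH) (Lpr_dt (f190676 IH) (Lpn (LP (LK LD1_c10 LD2_c34 LD3_c53))))))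
theorem f46506 : Led Lsl_et (LP (LK LD1_c19 LD2_c10 LD3_c15)) = (LP (LK LD1_c10 LD2_c34 LD3_c52)) :=
  Lre_e IH (LK LD1_c19 LD2_c10 LD3_c15) (LK LD1_c10 LD2_c34 LD3_c52) Lrfl Lrfl
theorem f583043 : Led Lsl_et (LP (LK LD1_c16 LD2_c34 LD3_c47)) = (LP (LK LD1_c8 LD2_c52 LD3_c3)) :=
  Lgr Lrot69 (Lpr_ff (f46493 IH) (Lpe (f46506 IH) (Lpr_ff (f583035 IH) (Lpe (f46495 IH) (Lpe (K14.f46423 IH) (Lpn (LP (LK LD1_c8 LD2_c52 LD3_c3))))))))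
theorem f583048 : Led Lsl_af (LP (LK LD1_c16 LD2_c34 LD3_c47)) = (LP (LK LD1_c10 LD2_c33 LD3_c7)) :=
  Lgr Lrot50 (Lpr_et (f583043 IH) (Lpr_at (K1.f46414 IH) (Lpr_et (K44.f43972 IH) (Lpn (LP (LK LD1_c10 LD2_c33 LD3_c7))))))
theorem f44215 : Led Lsl_gt (LP (LK LD1_c26 LD2_c32 LD3_c15)) = (LP (LK LD1_c16 LD2_c34 LD3_c47)) :=
  Lre_g IH (LK LD1_c26 LD2_c32 LD3_c15) (LK LD1_c16 LD2_c34 LD3_c47) Lrfl Lrfl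
theorem f583175 : Led Lsl_gf (LP (LK LD1_c26 LD2_c32 LD3_c15)) = (LP (LK LD1_c19 LD2_c6 LD3_c44)) :=
  Lgr Lrot47 (Lpr_gt (f44215 IH) (Lpr_af (f583048 IH) (Lpe (K44.f43980 IH) (Lpn (LP (LK LD1_c19 LD2_c6 LD3_c44))))))
theorem f939719 : Led Lsl_at (LP (LK LD1_c19 LD2_c6 LD3_c43)) = (LP (LK LD1_c26 LD2_c32 LD3_c15)) :=
  Lgr Lrot26 (Lpr_ff (f939714 IH) (Lpr_gt (f583269 IH) (Lpe (f583175 IH) (Lpn (LP (LK LD1_c26 LD2_c32 LD3_c15))))))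
theorem f939721 : Led Lsl_af (LP (LK LD1_c19 LD2_c6 LD3_c43)) = (LP (LK LD1_c26 LD2_c32 LD3_c15)) :=
  Lgr Lrot0 (Lpr_at (f939719 IH) (Lpn (LP (LK LD1_c26 LD2_c32 LD3_c15))))
theorem f582950 : Led Lsl_af (LP (LK LD1_c10 LD2_c34 LD3_c52)) = (LP (LK LD1_c19 LD2_c6 LD3_c44)) :=
  Lgr Lrot117 (Lpr_dt (K14.f190655 IH) (Lpr_at (K14.f190707 IH) (Lpr_dt (K44.f582948 IH) (Lpn (LP (LK LD1_c19 LD2_c6 LD3_c44))))))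
theorem f43981 : Led Lsl_ft (LP (LK LD1_c10 LD2_c33 LD3_c7)) = (LP (LK LD1_c19 LD2_c6 LD3_c44)) :=
  Lre_f IH (LK LD1_c10 LD2_c33 LD3_c7) (LK LD1_c19 LD2_c6 LD3_c44) Lrfl Lrfl
theorem f43983 : Led Lsl_gt (LP (LK LD1_c10 LD2_c33 LD3_c7)) = (LP (LK LD1_c19 LD2_c6 LD3_c42)) :=
  Lre_g IH (LK LD1_c10 LD2_c33 LD3_c7) (LK LD1_c19 LD2_c6 LD3_c42) Lrfl Lrfl
theorem f583265 : Led Lsl_gf (LP (LK LD1_c10 LD2_c34 LD3_c52)) = (LP (LK LD1_c19 LD2_c6 LD3_c42)) :=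
  Lgr Lrot76 (Lpr_af (f582950 IH) (Lpe (f43981 IH) (Lpr_gt (f43983 IH) (Lpn (LP (LK LD1_c19 LD2_c6 LD3_c42))))))
theorem f939725 : Led Lsl_ft (LP (LK LD1_c19 LD2_c6 LD3_c42)) = (LP (LK LD1_c26 LD2_c32 LD3_c15)) :=
  Lgr Lrot2 (Lpe (f583265 IH) (Lpr_gt (f583261 IH) (Lpr_af (f939721 IH) (Lpn (LP (LK LD1_c26 LD2_c32 LD3_c15))))))
theorem f939729 : Led Lsl_ff (LP (LK LD1_c19 LD2_c6 LD3_c42)) = (LP (LK LD1_c26 LD2_c32 LD3_c15)) :=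
  Lgr Lrot3 (Lpr_ft (f939725 IH) (Lpn (LP (LK LD1_c26 LD2_c32 LD3_c15))))
theorem f585642 : Led Lsl_cf (LP (LK LD1_c25 LD2_c26 LD3_c41)) = (LP (LK LD1_c28 LD2_c5 LD3_c15)) :=
  Lgr Lrot11 (Lpr_ct (K44.f585640 IH) (Lpn (LP (LK LD1_c28 LD2_c5 LD3_c15))))
theorem f604506 : Led Lsl_dt (LP (LK LD1_c28 LD2_c5 LD3_c30)) = (LP (LK LD1_c32 LD2_c10 LD3_c25)) :=
  Lgr Lrot173 (Lpe (K44.f278351 IH) (Lpr_df (f585295 IH) (Lpr_cf (K44.f583684 IH) (Lpe (K44.f278357 IH) (Lpe (K23.f278335 IH) (Lpe (K44.f278343 IH) (Lpe (K44.f278344 IH) (Lpr_df (K44.f585301 IH) (Lpe (K44.f259677 IH) (Lpe (K44.f585655 IH) (Lpr_cf (f585642 IH) (Lpe (K67.f285475 IH) (Lpe (K44.f285474 IH) (Lpr_df (K44.f285459 IH) (Lpr_cf (K71.f604499 IH) (Lpn (LP (LK LD1_c32 LD2_c10 LD3_c25))))))))))))))))))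
theorem f604564 : Led Lsl_df (LP (LK LD1_c28 LD2_c5 LD3_c30)) = (LP (LK LD1_c32 LD2_c10 LD3_c25)) :=
  Lgr Lrot38 (Lpr_dt (f604506 IH) (Lpn (LP (LK LD1_c32 LD2_c10 LD3_c25))))
theorem f604503 : Led Lsl_bt (LP (LK LD1_c26 LD2_c32 LD3_c14)) = (LP (LK LD1_c32 LD2_c10 LD3_c25)) :=
  Lre_b IH (LK LD1_c26 LD2_c32 LD3_c14) (LK LD1_c32 LD2_c10 LD3_c25) Lrfl Lrfl
theorem f604566 : Led Lsl_dt (LP (LK LD1_c18 LD2_c31 LD3_c12)) = (LP (LK LD1_c26 LD2_c32 LD3_c14)) :=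
  Lgr Lrot79 (Lpe (K44.f165555 IH) (Lpr_df (f604564 IH) (Lpe (f604503 IH) (Lpn (LP (LK LD1_c26 LD2_c32 LD3_c14))))))
theorem f215605 : Led Lsl_bt (LP (LK LD1_c18 LD2_c11 LD3_c54)) = (LP (LK LD1_c27 LD2_c52 LD3_c39)) :=
  Lre_b IH (LK LD1_c18 LD2_c11 LD3_c54) (LK LD1_c27 LD2_c52 LD3_c39) Lrfl Lrfl
theorem f585341 : Led Lsl_ff (LP (LK LD1_c18 LD2_c11 LD3_c54)) = (LP (LK LD1_c18 LD2_c31 LD3_c12)) :=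
  Lgr Lrot25 (Lpr_bt (f215605 IH) (Lpr_ft (f585337 IH) (Lpr_bt (K44.f165555 IH) (Lpn (LP (LK LD1_c18 LD2_c31 LD3_c12))))))
theorem f585345 : Led Lsl_ft (LP (LK LD1_c18 LD2_c11 LD3_c54)) = (LP (LK LD1_c18 LD2_c31 LD3_c12)) :=
  Lgr Lrot48 (Lpr_ff (f585341 IH) (Lpn (LP (LK LD1_c18 LD2_c31 LD3_c12))))
theorem f939716 : Led Lsl_dt (LP (LK LD1_c19 LD2_c6 LD3_c43)) = (LP (LK LD1_c18 LD2_c11 LD3_c54)) :=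
  Lgr Lrot60 (Lpr_ff (f939714 IH) (Lpe (f604566 IH) (Lpe (f585345 IH) (Lpn (LP (LK LD1_c18 LD2_c11 LD3_c54))))))
theorem f169933 : Led Lsl_ct (LP (LK LD1_c18 LD2_c19 LD3_c31)) = (LP (LK LD1_c18 LD2_c11 LD3_c56)) :=
  Lgr Lrot59 (Lpr_cf (K18.f169924 IH) (Lpn (LP (LK LD1_c18 LD2_c11 LD3_c56))))
theorem f294072 : Led Lsl_ff (LP (LK LD1_c18 LD2_c31 LD3_c14)) = (LP (LK LD1_c18 LD2_c11 LD3_c56)) :=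
  Lgr Lrot23 (Lpr_ct (K18.f165560 IH) (Lpr_ft (K18.f294070 IH) (Lpr_ct (f169933 IH) (Lpn (LP (LK LD1_c18 LD2_c11 LD3_c56))))))
theorem f165563 : Led Lsl_at (LP (LK LD1_c18 LD2_c31 LD3_c14)) = (LP (LK LD1_c10 LD2_c9 LD3_c61)) :=
  Lre_a IH (LK LD1_c18 LD2_c31 LD3_c14) (LK LD1_c10 LD2_c9 LD3_c61) Lrfl Lrfl
theorem f165556 : Led Lsl_gt (LP (LK LD1_c18 LD2_c31 LD3_c13)) = (LP (LK LD1_c10 LD2_c9 LD3_c61)) :=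
  Lre_g IH (LK LD1_c18 LD2_c31 LD3_c13) (LK LD1_c10 LD2_c9 LD3_c61) Lrfl Lrfl
theorem f407482 : Led Lsl_gf (LP (LK LD1_c18 LD2_c31 LD3_c13)) = (LP (LK LD1_c18 LD2_c11 LD3_c56)) :=
  Lgr Lrot47 (Lpr_gt (f165556 IH) (Lpe (f165563 IH) (Lpr_ff (f294072 IH) (Lpn (LP (LK LD1_c18 LD2_c11 LD3_c56))))))
theorem f585347 : Led Lsl_at (LP (LK LD1_c18 LD2_c11 LD3_c54)) = (LP (LK LD1_c18 LD2_c31 LD3_c13)) :=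
  Lgr Lrot26 (Lpr_ff (f585341 IH) (Lpr_gt (K67.f294099 IH) (Lpe (f407482 IH) (Lpn (LP (LK LD1_c18 LD2_c31 LD3_c13))))))
theorem f939723 : Led Lsl_dt (LP (LK LD1_c18 LD2_c31 LD3_c13)) = (LP (LK LD1_c26 LD2_c32 LD3_c15)) :=
  Lgr Lrot44 (Lpe (f585347 IH) (Lpe (f939716 IH) (Lpr_af (f939721 IH) (Lpn (LP (LK LD1_c26 LD2_c32 LD3_c15))))))
theorem f585349 : Led Lsl_af (LP (LK LD1_c18 LD2_c11 LD3_c54)) = (LP (LK LD1_c18 LD2_c31 LD3_c13)) :=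
  Lgr Lrot0 (Lpr_at (f585347 IH) (Lpn (LP (LK LD1_c18 LD2_c31 LD3_c13))))
theorem f169932 : Led Lsl_gt (LP (LK LD1_c18 LD2_c11 LD3_c55)) = (LP (LK LD1_c9 LD2_c56 LD3_c40)) :=
  Lre_g IH (LK LD1_c18 LD2_c11 LD3_c55) (LK LD1_c9 LD2_c56 LD3_c40) Lrfl Lrfl
theorem f585360 : Led Lsl_ft (LP (LK LD1_c18 LD2_c11 LD3_c55)) = (LP (LK LD1_c18 LD2_c31 LD3_c13)) :=
  Lgr Lrot2 (Lpr_gt (f169932 IH) (Lpr_gt (K44.f169859 IH) (Lpr_af (f585349 IH) (Lpn (LP (LK LD1_c18 LD2_c31 LD3_c13))))))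
theorem f939734 : Led Lsl_dt (LP (LK LD1_c19 LD2_c6 LD3_c42)) = (LP (LK LD1_c18 LD2_c11 LD3_c55)) :=
  Lgr Lrot60 (Lpr_ff (f939729 IH) (Lpe (f939723 IH) (Lpe (f585360 IH) (Lpn (LP (LK LD1_c18 LD2_c11 LD3_c55))))))
theorem f939739 : Led Lsl_df (LP (LK LD1_c19 LD2_c6 LD3_c42)) = (LP (LK LD1_c18 LD2_c11 LD3_c55)) :=
  Lgr Lrot38 (Lpr_dt (f939734 IH) (Lpn (LP (LK LD1_c18 LD2_c11 LD3_c55))))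
theorem f939733 : Led Lsl_bt (LP (LK LD1_c19 LD2_c6 LD3_c42)) = (LP (LK LD1_c28 LD2_c32 LD3_c12)) :=
  Lre_b IH (LK LD1_c19 LD2_c6 LD3_c42) (LK LD1_c28 LD2_c32 LD3_c12) Lrfl Lrfl
theorem f169955 : Led Lsl_bt (LP (LK LD1_c27 LD2_c52 LD3_c40)) = (LP (LK LD1_c18 LD2_c11 LD3_c55)) :=
  Lre_b IH (LK LD1_c27 LD2_c52 LD3_c40) (LK LD1_c18 LD2_c11 LD3_c55) Lrfl Lrfl
theorem f939753 : Led Lsl_dt (LP (LK LD1_c28 LD2_c32 LD3_c12)) = (LP (LK LD1_c27 LD2_c52 LD3_c40)) :=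
  Lgr Lrot79 (Lpe (f939733 IH) (Lpr_df (f939739 IH) (Lpe (f169955 IH) (Lpn (LP (LK LD1_c27 LD2_c52 LD3_c40))))))
theorem f585366 : Led Lsl_ff (LP (LK LD1_c18 LD2_c11 LD3_c55)) = (LP (LK LD1_c18 LD2_c31 LD3_c13)) :=
  Lgr Lrot3 (Lpr_ft (f585360 IH) (Lpn (LP (LK LD1_c18 LD2_c31 LD3_c13))))
theorem f585370 : Led Lsl_bt (LP (LK LD1_c18 LD2_c11 LD3_c55)) = (LP (LK LD1_c27 LD2_c52 LD3_c40)) :=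
  Lre_b IH (LK LD1_c18 LD2_c11 LD3_c55) (LK LD1_c27 LD2_c52 LD3_c40) Lrfl Lrfl
theorem f165557 : Led Lsl_bt (LP (LK LD1_c28 LD2_c5 LD3_c32)) = (LP (LK LD1_c18 LD2_c31 LD3_c13)) :=
  Lre_b IH (LK LD1_c28 LD2_c5 LD3_c32) (LK LD1_c18 LD2_c31 LD3_c13) Lrfl Lrfl
theorem f585371 : Led Lsl_ft (LP (LK LD1_c27 LD2_c52 LD3_c40)) = (LP (LK LD1_c28 LD2_c5 LD3_c32)) :=
  Lgr Lrot75 (Lpe (f585370 IH) (Lpr_ff (f585366 IH) (Lpe (f165557 IH) (Lpn (LP (LK LD1_c28 LD2_c5 LD3_c32))))))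
theorem f408312 : Led Lsl_bf (LP (LK LD1_c28 LD2_c20 LD3_c53)) = (LP (LK LD1_c27 LD2_c52 LD3_c47)) :=
  Lgr Lrot24 (Lpr_bt (f408310 IH) (Lpn (LP (LK LD1_c27 LD2_c52 LD3_c47))))
theorem f585351 : Led Lsl_bt (LP (LK LD1_c18 LD2_c31 LD3_c13)) = (LP (LK LD1_c28 LD2_c5 LD3_c32)) :=
  Lre_b IH (LK LD1_c18 LD2_c31 LD3_c13) (LK LD1_c28 LD2_c5 LD3_c32) Lrfl Lrfl
theorem f585352 : Led Lsl_af (LP (LK LD1_c27 LD2_c52 LD3_c47)) = (LP (LK LD1_c28 LD2_c5 LD3_c32)) :=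
  Lgr Lrot36 (Lpe (f408312 IH) (Lpe (f585339 IH) (Lpr_bt (K44.f169956 IH) (Lpr_at (f585347 IH) (Lpr_bt (f585351 IH) (Lpn (LP (LK LD1_c28 LD2_c5 LD3_c32))))))))
theorem f584245 : Led Lsl_bt (LP (LK LD1_c28 LD2_c5 LD3_c35)) = (LP (LK LD1_c32 LD2_c31 LD3_c37)) :=
  Lgr Lrot127 (Lpr_bf (K72.f584243 IH) (Lpn (LP (LK LD1_c32 LD2_c31 LD3_c37))))
theorem f585309 : Led Lsl_ff (LP (LK LD1_c28 LD2_c5 LD3_c35)) = (LP (LK LD1_c27 LD2_c52 LD3_c47)) :=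
  Lgr Lrot25 (Lpr_bt (f584245 IH) (Lpr_ft (f585307 IH) (Lpr_bt (f408310 IH) (Lpn (LP (LK LD1_c27 LD2_c52 LD3_c47))))))
theorem f585374 : Led Lsl_af (LP (LK LD1_c27 LD2_c52 LD3_c40)) = (LP (LK LD1_c28 LD2_c5 LD3_c35)) :=
  Lgr Lrot45 (Lpr_ft (f585371 IH) (Lpe (f585352 IH) (Lpe (f585309 IH) (Lpn (LP (LK LD1_c28 LD2_c5 LD3_c35))))))
theorem f585376 : Led Lsl_at (LP (LK LD1_c27 LD2_c52 LD3_c40)) = (LP (LK LD1_c28 LD2_c5 LD3_c35)) :=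
  Lgr Lrot100 (Lpr_af (f585374 IH) (Lpn (LP (LK LD1_c28 LD2_c5 LD3_c35))))
theorem f285416 : Led Lsl_bt (LP (LK LD1_c10 LD2_c20 LD3_c45)) = (LP (LK LD1_c18 LD2_c46 LD3_c35)) :=
  Lre_b IH (LK LD1_c10 LD2_c20 LD3_c45) (LK LD1_c18 LD2_c46 LD3_c35) Lrfl Lrfl
theorem f283002 : Led Lsl_ct (LP (LK LD1_c18 LD2_c46 LD3_c35)) = (LP (LK LD1_c28 LD2_c16 LD3_c6)) :=
  Lre_c IH (LK LD1_c18 LD2_c46 LD3_c35) (LK LD1_c28 LD2_c16 LD3_c6) Lrfl Lrfl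
theorem f285417 : Led Lsl_bf (LP (LK LD1_c28 LD2_c22 LD3_c20)) = (LP (LK LD1_c28 LD2_c16 LD3_c6)) :=
  Lgr Lrot90 (Lpr_ct (f285415 IH) (Lpr_bt (K44.f285414 IH) (Lpr_ct (K17.f285408 IH) (Lpr_bt (f285416 IH) (Lpr_ct (f283002 IH) (Lpn (LP (LK LD1_c28 LD2_c16 LD3_c6))))))))
theorem f584838 : Led Lsl_dt (LP (LK LD1_c28 LD2_c5 LD3_c35)) = (LP (LK LD1_c28 LD2_c16 LD3_c6)) :=
  Lgr Lrot79 (Lpr_bf (K72.f584243 IH) (Lpr_df (f584836 IH) (Lpr_bf (f285417 IH) (Lpn (LP (LK LD1_c28 LD2_c16 LD3_c6))))))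
theorem f939759 : Led Lsl_af (LP (LK LD1_c28 LD2_c32 LD3_c12)) = (LP (LK LD1_c28 LD2_c16 LD3_c6)) :=
  Lgr Lrot117 (Lpr_dt (f939753 IH) (Lpr_at (f585376 IH) (Lpr_dt (f584838 IH) (Lpn (LP (LK LD1_c28 LD2_c16 LD3_c6))))))
theorem f364637 : Led Lsl_ff (LP (LK LD1_c10 LD2_c47 LD3_c41)) = (LP (LK LD1_c10 LD2_c20 LD3_c45)) :=
  Lgr Lrot19 (Lpr_dt (K17.f236145 IH) (Lpr_ft (K26.f364633 IH) (Lpr_dt (K18.f49922 IH) (Lpn (LP (LK LD1_c10 LD2_c20 LD3_c45))))))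
theorem f284871 : Led Lsl_bt (LP (LK LD1_c10 LD2_c47 LD3_c41)) = (LP (LK LD1_c19 LD2_c31 LD3_c35)) :=
  Lre_b IH (LK LD1_c10 LD2_c47 LD3_c41) (LK LD1_c19 LD2_c31 LD3_c35) Lrfl Lrfl
theorem f283001 : Led Lsl_bt (LP (LK LD1_c18 LD2_c46 LD3_c35)) = (LP (LK LD1_c10 LD2_c20 LD3_c45)) :=
  Lre_b IH (LK LD1_c18 LD2_c46 LD3_c35) (LK LD1_c10 LD2_c20 LD3_c45) Lrfl Lrfl
theorem f377901 : Led Lsl_ft (LP (LK LD1_c19 LD2_c31 LD3_c35)) = (LP (LK LD1_c18 LD2_c46 LD3_c35)) :=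
  Lgr Lrot75 (Lpe (f284871 IH) (Lpr_ff (f364637 IH) (Lpe (f283001 IH) (Lpn (LP (LK LD1_c18 LD2_c46 LD3_c35))))))
theorem f377906 : Led Lsl_ff (LP (LK LD1_c19 LD2_c31 LD3_c35)) = (LP (LK LD1_c18 LD2_c46 LD3_c35)) :=
  Lgr Lrot3 (Lpr_ft (f377901 IH) (Lpn (LP (LK LD1_c18 LD2_c46 LD3_c35))))
theorem f261373 : Led Lsl_ct (LP (LK LD1_c19 LD2_c31 LD3_c35)) = (LP (LK LD1_c28 LD2_c54 LD3_c4)) :=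
  Lre_c IH (LK LD1_c19 LD2_c31 LD3_c35) (LK LD1_c28 LD2_c54 LD3_c4) Lrfl Lrfl
theorem f285437 : Led Lsl_ct (LP (LK LD1_c28 LD2_c16 LD3_c6)) = (LP (LK LD1_c18 LD2_c46 LD3_c35)) :=
  Lre_c IH (LK LD1_c28 LD2_c16 LD3_c6) (LK LD1_c18 LD2_c46 LD3_c35) Lrfl Lrfl
theorem f377909 : Led Lsl_ft (LP (LK LD1_c28 LD2_c54 LD3_c4)) = (LP (LK LD1_c28 LD2_c16 LD3_c6)) :=
  Lgr Lrot4 (Lpe (f261373 IH) (Lpr_ff (f377906 IH) (Lpe (f285437 IH) (Lpn (LP (LK LD1_c28 LD2_c16 LD3_c6))))))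
theorem f421175 : Led Lsl_dt (LP (LK LD1_c18 LD2_c52 LD3_c43)) = (LP (LK LD1_c28 LD2_c20 LD3_c38)) :=
  Lre_d IH (LK LD1_c18 LD2_c52 LD3_c43) (LK LD1_c28 LD2_c20 LD3_c38) Lrfl Lrfl
theorem f191264 : Led Lsl_dt (LP (LK LD1_c31 LD2_c53 LD3_c40)) = (LP (LK LD1_c25 LD2_c25 LD3_c24)) :=
  Lre_d IH (LK LD1_c31 LD2_c53 LD3_c40) (LK LD1_c25 LD2_c25 LD3_c24) Lrfl Lrfl
theorem f930860 : Led Lsl_ft (LP (LK LD1_c28 LD2_c20 LD3_c38)) = (LP (LK LD1_c31 LD2_c53 LD3_c40)) :=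
  Lgr Lrot54 (Lpe (f421175 IH) (Lpr_ff (f930855 IH) (Lpe (f191264 IH) (Lpn (LP (LK LD1_c31 LD2_c53 LD3_c40))))))
theorem f584397 : Led Lsl_dt (LP (LK LD1_c28 LD2_c16 LD3_c58)) = (LP (LK LD1_c18 LD2_c47 LD3_c14)) :=
  Lre_d IH (LK LD1_c28 LD2_c16 LD3_c58) (LK LD1_c18 LD2_c47 LD3_c14) Lrfl Lrfl
theorem f184170 : Led Lsl_ct (LP (LK LD1_c8 LD2_c16 LD3_c14)) = (LP (LK LD1_c15 LD2_c33 LD3_c1)) :=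
  Lre_c IH (LK LD1_c8 LD2_c16 LD3_c14) (LK LD1_c15 LD2_c33 LD3_c1) Lrfl Lrfl
theorem f49304 : Led Lsl_dt (LP (LK LD1_c4 LD2_c8 LD3_c4)) = (LP (LK LD1_c8 LD2_c16 LD3_c14)) :=
  Lre_d IH (LK LD1_c4 LD2_c8 LD3_c4) (LK LD1_c8 LD2_c16 LD3_c14) Lrfl Lrfl
theorem f49415 : Led Lsl_gt (LP (LK LD1_c8 LD2_c16 LD3_c12)) = (LP (LK LD1_c4 LD2_c8 LD3_c4)) :=
  Lre_g IH (LK LD1_c8 LD2_c16 LD3_c12) (LK LD1_c4 LD2_c8 LD3_c4) Lrfl Lrfl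
theorem f585738 : Led Lsl_dt (LP (LK LD1_c15 LD2_c32 LD3_c60)) = (LP (LK LD1_c8 LD2_c16 LD3_c12)) :=
  Lre_d IH (LK LD1_c15 LD2_c32 LD3_c60) (LK LD1_c8 LD2_c16 LD3_c12) Lrfl Lrfl
theorem f585765 : Led Lsl_gt (LP (LK LD1_c25 LD2_c26 LD3_c17)) = (LP (LK LD1_c15 LD2_c32 LD3_c60)) :=
  Lre_g IH (LK LD1_c25 LD2_c26 LD3_c17) (LK LD1_c15 LD2_c32 LD3_c60) Lrfl Lrfl
theorem f585766 : Led Lsl_ct (LP (LK LD1_c31 LD2_c53 LD3_c47)) = (LP (LK LD1_c25 LD2_c26 LD3_c17)) :=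
  Lre_c IH (LK LD1_c31 LD2_c53 LD3_c47) (LK LD1_c25 LD2_c26 LD3_c17) Lrfl Lrfl
theorem f585767 : Led Lsl_gf (LP (LK LD1_c28 LD2_c16 LD3_c58)) = (LP (LK LD1_c31 LD2_c53 LD3_c47)) :=
  Lgr Lrot144 (Lpr_dt (f584397 IH) (Lpr_gt (K69.f585762 IH) (Lpr_dt (K44.f191262 IH) (Lpe (f184170 IH) (Lpe (f49304 IH) (Lpe (f49415 IH) (Lpe (f585738 IH) (Lpe (f585765 IH) (Lpe (f585766 IH) (Lpn (LP (LK LD1_c31 LD2_c53 LD3_c47))))))))))))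
theorem f191258 : Led Lsl_ct (LP (LK LD1_c25 LD2_c26 LD3_c17)) = (LP (LK LD1_c31 LD2_c53 LD3_c47)) :=
  Lre_c IH (LK LD1_c25 LD2_c26 LD3_c17) (LK LD1_c31 LD2_c53 LD3_c47) Lrfl Lrfl
theorem f49412 : Led Lsl_gt (LP (LK LD1_c15 LD2_c32 LD3_c57)) = (LP (LK LD1_c25 LD2_c26 LD3_c17)) :=
  Lre_g IH (LK LD1_c15 LD2_c32 LD3_c57) (LK LD1_c25 LD2_c26 LD3_c17) Lrfl Lrfl
theorem f49411 : Led Lsl_dt (LP (LK LD1_c8 LD2_c16 LD3_c11)) = (LP (LK LD1_c15 LD2_c32 LD3_c57)) :=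
  Lre_d IH (LK LD1_c8 LD2_c16 LD3_c11) (LK LD1_c15 LD2_c32 LD3_c57) Lrfl Lrfl
theorem f50684 : Led Lsl_gt (LP (LK LD1_c8 LD2_c16 LD3_c11)) = (LP (LK LD1_c15 LD2_c32 LD3_c53)) :=
  Lre_g IH (LK LD1_c8 LD2_c16 LD3_c11) (LK LD1_c15 LD2_c32 LD3_c53) Lrfl Lrfl
theorem f585770 : Led Lsl_ct (LP (LK LD1_c28 LD2_c16 LD3_c58)) = (LP (LK LD1_c31 LD2_c53 LD3_c40)) :=
  Lgr Lrot110 (Lpr_gf (f585767 IH) (Lpe (f191258 IH) (Lpe (f49412 IH) (Lpe (f49411 IH) (Lpr_gt (f50684 IH) (Lpe (K72.f191251 IH) (Lpr_gt (f191259 IH) (Lpr_ct (f191263 IH) (Lpe (f191264 IH) (Lpn (LP (LK LD1_c31 LD2_c53 LD3_c40))))))))))))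
theorem f585772 : Led Lsl_cf (LP (LK LD1_c28 LD2_c16 LD3_c58)) = (LP (LK LD1_c31 LD2_c53 LD3_c40)) :=
  Lgr Lrot11 (Lpr_ct (f585770 IH) (Lpn (LP (LK LD1_c31 LD2_c53 LD3_c40))))
theorem f721294 : Led Lsl_df (LP (LK LD1_c18 LD2_c34 LD3_c13)) = (LP (LK LD1_c18 LD2_c26 LD3_c13)) :=
  Lgr Lrot162 (Lpe (K53.f215251 IH) (Lpe (K53.f171644 IH) (Lpe (K53.f171625 IH) (Lpe (K44.f165251 IH) (Lpr_dt (K71.f714505 IH) (Lpr_gt (K53.f180697 IH) (Lpr_ct (K53.f180589 IH) (Lpr_gt (K53.f180642 IH) (Lpr_ct (K53.f721286 IH) (Lpn (LP (LK LD1_c18 LD2_c26 LD3_c13))))))))))))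
theorem f603904 : Led Lsl_dt (LP (LK LD1_c18 LD2_c10 LD3_c6)) = (LP (LK LD1_c10 LD2_c7 LD3_c4)) :=
  Lgr Lrot79 (Lpe (f169644 IH) (Lpr_df (f603900 IH) (Lpe (f164605 IH) (Lpn (LP (LK LD1_c10 LD2_c7 LD3_c4))))))
theorem f180621 : Led Lsl_dt (LP (LK LD1_c5 LD2_c9 LD3_c40)) = (LP (LK LD1_c10 LD2_c10 LD3_c4)) :=
  Lre_d IH (LK LD1_c5 LD2_c9 LD3_c40) (LK LD1_c10 LD2_c10 LD3_c4) Lrfl Lrfl
theorem f180622 : Led Lsl_gt (LP (LK LD1_c10 LD2_c10 LD3_c4)) = (LP (LK LD1_c18 LD2_c31 LD3_c23)) :=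
  Lre_g IH (LK LD1_c10 LD2_c10 LD3_c4) (LK LD1_c18 LD2_c31 LD3_c23) Lrfl Lrfl
theorem f721297 : Led Lsl_df (LP (LK LD1_c10 LD2_c11 LD3_c40)) = (LP (LK LD1_c18 LD2_c31 LD3_c23)) :=
  Lgr Lrot84 (Lpe (K53.f171645 IH) (Lpr_df (f721294 IH) (Lpe (K53.f603909 IH) (Lpe (f603904 IH) (Lpe (K44.f407807 IH) (Lpr_cf (K44.f180617 IH) (Lpr_gt (K44.f180604 IH) (Lpr_dt (f180621 IH) (Lpr_gt (f180622 IH) (Lpn (LP (LK LD1_c18 LD2_c31 LD3_c23))))))))))))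
theorem f721301 : Led Lsl_dt (LP (LK LD1_c10 LD2_c11 LD3_c40)) = (LP (LK LD1_c18 LD2_c31 LD3_c23)) :=
  Lgr Lrot42 (Lpr_df (f721297 IH) (Lpn (LP (LK LD1_c18 LD2_c31 LD3_c23))))
theorem f721304 : Led Lsl_bt (LP (LK LD1_c18 LD2_c31 LD3_c23)) = (LP (LK LD1_c28 LD2_c5 LD3_c41)) :=
  Lre_b IH (LK LD1_c18 LD2_c31 LD3_c23) (LK LD1_c28 LD2_c5 LD3_c41) Lrfl Lrfl
theorem f721305 : Led Lsl_df (LP (LK LD1_c18 LD2_c34 LD3_c12)) = (LP (LK LD1_c28 LD2_c5 LD3_c41)) :=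
  Lgr Lrot12 (Lpr_bt (K53.f215032 IH) (Lpr_dt (f721301 IH) (Lpr_bt (f721304 IH) (Lpn (LP (LK LD1_c28 LD2_c5 LD3_c41))))))
theorem f215249 : Led Lsl_at (LP (LK LD1_c18 LD2_c34 LD3_c12)) = (LP (LK LD1_c28 LD2_c8 LD3_c23)) :=
  Lre_a IH (LK LD1_c18 LD2_c34 LD3_c12) (LK LD1_c28 LD2_c8 LD3_c23) Lrfl Lrfl
theorem f721310 : Led Lsl_at (LP (LK LD1_c32 LD2_c31 LD3_c47)) = (LP (LK LD1_c28 LD2_c5 LD3_c41)) :=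
  Lre_a IH (LK LD1_c32 LD2_c31 LD3_c47) (LK LD1_c28 LD2_c5 LD3_c41) Lrfl Lrfl
theorem f721311 : Led Lsl_dt (LP (LK LD1_c28 LD2_c8 LD3_c23)) = (LP (LK LD1_c32 LD2_c31 LD3_c47)) :=
  Lgr Lrot44 (Lpe (f215249 IH) (Lpr_df (f721305 IH) (Lpe (f721310 IH) (Lpn (LP (LK LD1_c32 LD2_c31 LD3_c47))))))
theorem f721315 : Led Lsl_ff (LP (LK LD1_c28 LD2_c16 LD3_c58)) = (LP (LK LD1_c32 LD2_c31 LD3_c47)) :=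
  Lgr Lrot19 (Lpr_dt (f584397 IH) (Lpe (K69.f604142 IH) (Lpr_dt (f721311 IH) (Lpn (LP (LK LD1_c32 LD2_c31 LD3_c47))))))
theorem f721318 : Led Lsl_ft (LP (LK LD1_c28 LD2_c16 LD3_c58)) = (LP (LK LD1_c32 LD2_c31 LD3_c47)) :=
  Lgr Lrot48 (Lpr_ff (f721315 IH) (Lpn (LP (LK LD1_c32 LD2_c31 LD3_c47))))
theorem f930866 : Led Lsl_cf (LP (LK LD1_c28 LD2_c20 LD3_c38)) = (LP (LK LD1_c32 LD2_c31 LD3_c47)) :=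
  Lgr Lrot108 (Lpr_ft (f930860 IH) (Lpe (f585772 IH) (Lpr_ft (f721318 IH) (Lpn (LP (LK LD1_c32 LD2_c31 LD3_c47))))))
theorem f930869 : Led Lsl_ct (LP (LK LD1_c28 LD2_c20 LD3_c38)) = (LP (LK LD1_c32 LD2_c31 LD3_c47)) :=
  Lgr Lrot59 (Lpr_cf (f930866 IH) (Lpn (LP (LK LD1_c32 LD2_c31 LD3_c47))))
theorem f591101 : Led Lsl_bt (LP (LK LD1_c28 LD2_c20 LD3_c38)) = (LP (LK LD1_c18 LD2_c52 LD3_c45)) :=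
  Lre_b IH (LK LD1_c28 LD2_c20 LD3_c38) (LK LD1_c18 LD2_c52 LD3_c45) Lrfl Lrfl
theorem f591035 : Led Lsl_bf (LP (LK LD1_c10 LD2_c4 LD3_c14)) = (LP (LK LD1_c13 LD2_c47 LD3_c42)) :=
  Lgr Lrot24 (Lpr_bt (K47.f590862 IH) (Lpn (LP (LK LD1_c13 LD2_c47 LD3_c42))))
theorem f591052 : Led Lsl_bt (LP (LK LD1_c5 LD2_c6 LD3_c45)) = (LP (LK LD1_c7 LD2_c17 LD3_c33)) :=
  Lgr Lrot119 (Lpe (K39.f201388 IH) (Lpr_bf (f591035 IH) (Lpe (K47.f573687 IH) (Lpn (LP (LK LD1_c7 LD2_c17 LD3_c33))))))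
theorem f240972 : Led Lsl_bt (LP (LK LD1_c18 LD2_c22 LD3_c56)) = (LP (LK LD1_c10 LD2_c4 LD3_c13)) :=
  Lre_b IH (LK LD1_c18 LD2_c22 LD3_c56) (LK LD1_c10 LD2_c4 LD3_c13) Lrfl Lrfl
theorem f573696 : Led Lsl_bt (LP (LK LD1_c13 LD2_c47 LD3_c41)) = (LP (LK LD1_c23 LD2_c15 LD3_c18)) :=
  Lre_b IH (LK LD1_c13 LD2_c47 LD3_c41) (LK LD1_c23 LD2_c15 LD3_c18) Lrfl Lrfl
theorem f591054 : Led Lsl_cf (LP (LK LD1_c18 LD2_c22 LD3_c56)) = (LP (LK LD1_c23 LD2_c15 LD3_c18)) :=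
  Lgr Lrot97 (Lpr_bt (f240972 IH) (Lpr_ct (K13.f201376 IH) (Lpr_bt (f591052 IH) (Lpr_ct (K45.f573683 IH) (Lpr_bt (f573696 IH) (Lpn (LP (LK LD1_c23 LD2_c15 LD3_c18))))))))
theorem f591057 : Led Lsl_ct (LP (LK LD1_c18 LD2_c22 LD3_c56)) = (LP (LK LD1_c23 LD2_c15 LD3_c18)) :=
  Lgr Lrot59 (Lpr_cf (f591054 IH) (Lpn (LP (LK LD1_c23 LD2_c15 LD3_c18))))
theorem f266513 : Led Lsl_bt (LP (LK LD1_c10 LD2_c0 LD3_c60)) = (LP (LK LD1_c18 LD2_c18 LD3_c11)) :=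
  Lre_b IH (LK LD1_c10 LD2_c0 LD3_c60) (LK LD1_c18 LD2_c18 LD3_c11) Lrfl Lrfl
theorem f587518 : Led Lsl_gt (LP (LK LD1_c30 LD2_c58 LD3_c10)) = (LP (LK LD1_c23 LD2_c15 LD3_c18)) :=
  Lre_g IH (LK LD1_c30 LD2_c58 LD3_c10) (LK LD1_c23 LD2_c15 LD3_c18) Lrfl Lrfl
theorem f5220 : Led Lsl_ct (LP (LK LD1_c13 LD2_c50 LD3_c53)) = (LP (LK LD1_c7 LD2_c19 LD3_c19)) :=
  Lre_c IH (LK LD1_c13 LD2_c50 LD3_c53) (LK LD1_c7 LD2_c19 LD3_c19) Lrfl Lrfl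
theorem f33007 : Led Lsl_dt (LP (LK LD1_c8 LD2_c37 LD3_c56)) = (LP (LK LD1_c16 LD2_c10 LD3_c6)) :=
  Lre_d IH (LK LD1_c8 LD2_c37 LD3_c56) (LK LD1_c16 LD2_c10 LD3_c6) Lrfl Lrfl
theorem f182039 : Led Lsl_ct (LP (LK LD1_c16 LD2_c10 LD3_c6)) = (LP (LK LD1_c26 LD2_c6 LD3_c57)) :=
  Lre_c IH (LK LD1_c16 LD2_c10 LD3_c6) (LK LD1_c26 LD2_c6 LD3_c57) Lrfl Lrfl
theorem f590599 : Led Lsl_bf (LP (LK LD1_c31 LD2_c0 LD3_c43)) = (LP (LK LD1_c26 LD2_c6 LD3_c57)) :=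
  Lgr Lrot184 (Lpr_gt (K45.f587986 IH) (Lpr_dt (K45.f5696 IH) (Lpr_ct (f5220 IH) (Lpr_bt (K48.f590586 IH) (Lpr_gt (K13.f242287 IH) (Lpr_dt (K13.f181140 IH) (Lpr_ct (K13.f181139 IH) (Lpr_bt (K10.f181138 IH) (Lpe (K9.f181129 IH) (Lpr_dt (K0.f20567 IH) (Lpr_ct (K9.f9084 IH) (Lpr_bt (K9.f9089 IH) (Lpr_gt (K9.f182034 IH) (Lpr_dt (K13.f31036 IH) (Lpr_ct (K11.f31744 IH) (Lpr_bt (K16.f32996 IH) (Lpr_gt (K68.f33006 IH) (Lpr_dt (f33007 IH) (Lpr_ct (f182039 IH) (Lpn (LP (LK LD1_c26 LD2_c6 LD3_c57))))))))))))))))))))))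
theorem f573693 : Led Lsl_ct (LP (LK LD1_c13 LD2_c47 LD3_c41)) = (LP (LK LD1_c7 LD2_c17 LD3_c33)) :=
  Lre_c IH (LK LD1_c13 LD2_c47 LD3_c41) (LK LD1_c7 LD2_c17 LD3_c33) Lrfl Lrfl
theorem f587522 : Led Lsl_bt (LP (LK LD1_c26 LD2_c22 LD3_c1)) = (LP (LK LD1_c30 LD2_c58 LD3_c10)) :=
  Lgr Lrot22 (Lpr_ct (K45.f587519 IH) (Lpe (K45.f587515 IH) (Lpe (K45.f587495 IH) (Lpe (K43.f5455 IH) (Lpe (K43.f5446 IH) (Lpr_ct (K45.f5516 IH) (Lpe (K43.f5621 IH) (Lpe (f573693 IH) (Lpr_bt (f573696 IH) (Lpe (f587518 IH) (Lpn (LP (LK LD1_c30 LD2_c58 LD3_c10)))))))))))))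
theorem f590603 : Led Lsl_bt (LP (LK LD1_c26 LD2_c6 LD3_c50)) = (LP (LK LD1_c16 LD2_c10 LD3_c6)) :=
  Lre_b IH (LK LD1_c26 LD2_c6 LD3_c50) (LK LD1_c16 LD2_c10 LD3_c6) Lrfl Lrfl
theorem f590604 : Led Lsl_ct (LP (LK LD1_c30 LD2_c58 LD3_c10)) = (LP (LK LD1_c26 LD2_c6 LD3_c50)) :=
  Lgr Lrot83 (Lpe (f587522 IH) (Lpr_cf (K45.f587516 IH) (Lpr_bf (f590599 IH) (Lpe (f182039 IH) (Lpe (f590603 IH) (Lpn (LP (LK LD1_c26 LD2_c6 LD3_c50))))))))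
theorem f590607 : Led Lsl_cf (LP (LK LD1_c30 LD2_c58 LD3_c10)) = (LP (LK LD1_c26 LD2_c6 LD3_c50)) :=
  Lgr Lrot11 (Lpr_ct (f590604 IH) (Lpn (LP (LK LD1_c26 LD2_c6 LD3_c50))))
theorem f591065 : Led Lsl_gt (LP (LK LD1_c18 LD2_c18 LD3_c11)) = (LP (LK LD1_c16 LD2_c10 LD3_c6)) :=
  Lgr Lrot164 (Lpe (f266513 IH) (Lpe (K16.f266496 IH) (Lpe (K13.f241365 IH) (Lpr_cf (K15.f241369 IH) (Lpr_gf (K15.f241029 IH) (Lpe (f240972 IH) (Lpr_ct (f591057 IH) (Lpe (f587518 IH) (Lpr_cf (f590607 IH) (Lpr_bt (f590603 IH) (Lpn (LP (LK LD1_c16 LD2_c10 LD3_c6)))))))))))))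

end

end K73

end

end Cfsg.Agent.Helper28.S1692
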