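import Cfsg.Agent.Lib.Helper28.S1692.Seeds73

set_option autoImplicit false
set_option maxRecDepth 100000
set_option linter.all false

namespace Cfsg.Agent.Helper28.S1692

open Cfsg.Agent.Helper28
open Cfsg.Spor.ON (Gen)

noncomputable section

namespace K74
abbrev LD1_c0 := D1.c0
abbrev LD1_c1 := D1.c1
abbrev LD1_c2 := D1.c2
abbrev LD1_c3 := D1.c3
abbrev LD1_c4 := D1.c4
abbrev LD1_c5 := D1.c5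
abbrev LD1_c6 := D1.c6
abbrev LD1_c7 := D1.c7
abbrev LD1_c8 := D1.c8
abbrev LD1_c9 := D1.c9
abbrev LD1_c10 := D1.c10
abbrev LD1_c11 := D1.c11
abbrev LD1_c12 := D1.c12
abbrev LD1_c13 := D1.c13
abbrev LD1_c14 := D1.c14
abbrev LD1_c15 := D1.c15
abbrev LD1_c16 := D1.c16
abbrev LD1_c17 := D1.c17
abbrev LD1_c18 := D1.c18
abbrev LD1_c19 := D1.c19
abbrev LD1_c20 := D1.c20
abbrev LD1_c21 := D1.c21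
abbrev LD1_c22 := D1.c22
abbrev LD1_c23 := D1.c23
abbrev LD1_c24 := D1.c24
abbrev LD1_c25 := D1.c25
abbrev LD1_c26 := D1.c26
abbrev LD1_c27 := D1.c27
abbrev LD1_c28 := D1.c28
abbrev LD1_c29 := D1.c29
abbrev LD1_c30 := D1.c30
abbrev LD1_c31 := D1.c31
abbrev LD1_c32 := D1.c32
abbrev LD2_c0 := D2.c0
abbrev LD2_c1 := D2.c1
abbrev LD2_c2 := D2.c2
abbrev LD2_c3 := D2.c3
abbrev LD2_c4 := D2.c4
abbrev LD2_c5 := D2.c5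
abbrev LD2_c6 := D2.c6
abbrev LD2_c7 := D2.c7
abbrev LD2_c8 := D2.c8
abbrev LD2_c9 := D2.c9
abbrev LD2_c10 := D2.c10
abbrev LD2_c11 := D2.c11
abbrev LD2_c12 := D2.c12
abbrev LD2_c13 := D2.c13
abbrev LD2_c14 := D2.c14
abbrev LD2_c15 := D2.c15
abbrev LD2_c16 := D2.c16
abbrev LD2_c17 := D2.c17
abbrev LD2_c18 := D2.c18
abbrev LD2_c19 := D2.c19
abbrev LD2_c20 := D2.c20
abbrev LD2_c21 := D2.c21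
abbrev LD2_c22 := D2.c22
abbrev LD2_c23 := D2.c23
abbrev LD2_c24 := D2.c24
abbrev LD2_c25 := D2.c25
abbrev LD2_c26 := D2.c26
abbrev LD2_c27 := D2.c27
abbrev LD2_c28 := D2.c28
abbrev LD2_c29 := D2.c29
abbrev LD2_c30 := D2.c30
abbrev LD2_c31 := D2.c31
abbrev LD2_c32 := D2.c32
abbrev LD2_c33 := D2.c33
abbrev LD2_c34 := D2.c34
abbrev LD2_c35 := D2.c35
abbrev LD2_c36 := D2.c36
abbrev LD2_c37 := D2.c37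
abbrev LD2_c38 := D2.c38
abbrev LD2_c39 := D2.c39
abbrev LD2_c40 := D2.c40
abbrev LD2_c41 := D2.c41
abbrev LD2_c42 := D2.c42
abbrev LD2_c43 := D2.c43
abbrev LD2_c44 := D2.c44
abbrev LD2_c45 := D2.c45
abbrev LD2_c46 := D2.c46
abbrev LD2_c47 := D2.c47
abbrev LD2_c48 := D2.c48
abbrev LD2_c49 := D2.c49
abbrev LD2_c50 := D2.c50
abbrev LD2_c51 := D2.c51
abbrev LD2_c52 := D2.c52
abbrev LD2_c53 := D2.c53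
abbrev LD2_c54 := D2.c54
abbrev LD2_c55 := D2.c55
abbrev LD2_c56 := D2.c56
abbrev LD2_c57 := D2.c57
abbrev LD2_c58 := D2.c58
abbrev LD2_c59 := D2.c59
abbrev LD3_c0 := D3.c0
abbrev LD3_c1 := D3.c1
abbrev LD3_c2 := D3.c2
abbrev LD3_c3 := D3.c3
abbrev LD3_c4 := D3.c4
abbrev LD3_c5 := D3.c5
abbrev LD3_c6 := D3.c6
abbrev LD3_c7 := D3.c7
abbrev LD3_c8 := D3.c8
abbrev LD3_c9 := D3.c9
abbrev LD3_c10 := D3.c10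
abbrev LD3_c11 := D3.c11
abbrev LD3_c12 := D3.c12
abbrev LD3_c13 := D3.c13
abbrev LD3_c14 := D3.c14
abbrev LD3_c15 := D3.c15
abbrev LD3_c16 := D3.c16
abbrev LD3_c17 := D3.c17
abbrev LD3_c18 := D3.c18
abbrev LD3_c19 := D3.c19
abbrev LD3_c20 := D3.c20
abbrev LD3_c21 := D3.c21
abbrev LD3_c22 := D3.c22
abbrev LD3_c23 := D3.c23
abbrev LD3_c24 := D3.c24
abbrev LD3_c25 := D3.c25
abbrev LD3_c26 := D3.c26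
abbrev LD3_c27 := D3.c27
abbrev LD3_c28 := D3.c28
abbrev LD3_c29 := D3.c29
abbrev LD3_c30 := D3.c30
abbrev LD3_c31 := D3.c31
abbrev LD3_c32 := D3.c32
abbrev LD3_c33 := D3.c33
abbrev LD3_c34 := D3.c34
abbrev LD3_c35 := D3.c35
abbrev LD3_c36 := D3.c36
abbrev LD3_c37 := D3.c37
abbrev LD3_c38 := D3.c38
abbrev LD3_c39 := D3.c39
abbrev LD3_c40 := D3.c40
abbrev LD3_c41 := D3.c41
abbrev LD3_c42 := D3.c42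
abbrev LD3_c43 := D3.c43
abbrev LD3_c44 := D3.c44
abbrev LD3_c45 := D3.c45
abbrev LD3_c46 := D3.c46
abbrev LD3_c47 := D3.c47
abbrev LD3_c48 := D3.c48
abbrev LD3_c49 := D3.c49
abbrev LD3_c50 := D3.c50
abbrev LD3_c51 := D3.c51
abbrev LD3_c52 := D3.c52
abbrev LD3_c53 := D3.c53
abbrev LD3_c54 := D3.c54
abbrev LD3_c55 := D3.c55
abbrev LD3_c56 := D3.c56
abbrev LD3_c57 := D3.c57
abbrev LD3_c58 := D3.c58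
abbrev LD3_c59 := D3.c59
abbrev LD3_c60 := D3.c60
abbrev LD3_c61 := D3.c61
abbrev LG_g := Gen.g
abbrev Lsl_gt : Gen × Bool := sl_gt
alias Lfl_gt := fl_gt
alias Lpr_gt := pr_gt
abbrev Lsl_gf : Gen × Bool := sl_gf
alias Lfl_gf := fl_gf
alias Lpr_gf := pr_gf
alias Lre_g := re_g
alias Leoe_g := eoe_g
abbrev LG_a := Gen.a
abbrev Lsl_at : Gen × Bool := sl_at
alias Lfl_at := fl_at
alias Lpr_at := pr_at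
abbrev Lsl_af : Gen × Bool := sl_af
alias Lfl_af := fl_af
alias Lpr_af := pr_af
alias Lre_a := re_a
alias Leoe_a := eoe_a
abbrev LG_b := Gen.b
abbrev Lsl_bt : Gen × Bool := sl_bt
alias Lfl_bt := fl_bt
alias Lpr_bt := pr_bt
abbrev Lsl_bf : Gen × Bool := sl_bf
alias Lfl_bf := fl_bf
alias Lpr_bf := pr_bf
alias Lre_b := re_b
alias Leoe_b := eoe_b
abbrev LG_c := Gen.c
abbrev Lsl_ct : Gen × Bool := sl_ct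
alias Lfl_ct := fl_ct
alias Lpr_ct := pr_ct
abbrev Lsl_cf : Gen × Bool := sl_cf
alias Lfl_cf := fl_cf
alias Lpr_cf := pr_cf
alias Lre_c := re_c
alias Leoe_c := eoe_c
abbrev LG_d := Gen.d
abbrev Lsl_dt : Gen × Bool := sl_dt
alias Lfl_dt := fl_dt
alias Lpr_dt := pr_dt
abbrev Lsl_df : Gen × Bool := sl_df
alias Lfl_df := fl_df
alias Lpr_df := pr_df
alias Lre_d := re_d
alias Leoe_d := eoe_d
abbrev LG_e := Gen.e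
abbrev Lsl_et : Gen × Bool := sl_et
alias Lfl_et := fl_et
alias Lpr_et := pr_et
abbrev Lsl_ef : Gen × Bool := sl_ef
alias Lfl_ef := fl_ef
alias Lpr_ef := pr_ef
alias Lre_e := re_e
alias Leoe_e := eoe_e
abbrev LG_f := Gen.f
abbrev Lsl_ft : Gen × Bool := sl_ft
alias Lfl_ft := fl_ft
alias Lpr_ft := pr_ft
abbrev Lsl_ff : Gen × Bool := sl_ff
alias Lfl_ff := fl_ff
alias Lpr_ff := pr_ff
alias Lre_f := re_f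
alias Leoe_f := eoe_f
abbrev LK := Pt.mk
abbrev LQ : Type := Qt rels S
abbrev LP (p : Pt) : LQ := P p
abbrev Led (l : Gen × Bool) (c : LQ) : LQ := ed l c
abbrev LEOK (x : Gen) (p : Pt) : Prop := EntryOK rels S fwd inv o plet idx x p
alias Lpe := pe
alias Lpn := pn
alias Lgr := gr
alias Lpq := pq
alias Lpqs := pqs
alias Llr := lr
alias Leop := eop
alias Lefun := efun
alias Lecon := econ
theorem Lrfl {α : Sort _} {a : α} : a = a := rfl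
alias Lrot0 := rot0
alias Lrot1 := rot1
alias Lrot2 := rot2
alias Lrot3 := rot3
alias Lrot4 := rot4
alias Lrot5 := rot5
alias Lrot6 := rot6
alias Lrot7 := rot7
alias Lrot8 := rot8
alias Lrot9 := rot9
alias Lrot10 := rot10
alias Lrot11 := rot11
alias Lrot12 := rot12
alias Lrot13 := rot13
alias Lrot15 := rot15
alias Lrot17 := rot17
alias Lrot18 := rot18
alias Lrot19 := rot19
alias Lrot20 := rot20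
alias Lrot21 := rot21
alias Lrot22 := rot22
alias Lrot23 := rot23
alias Lrot24 := rot24
alias Lrot25 := rot25
alias Lrot26 := rot26
alias Lrot27 := rot27
alias Lrot28 := rot28
alias Lrot29 := rot29
alias Lrot30 := rot30
alias Lrot31 := rot31
alias Lrot33 := rot33
alias Lrot34 := rot34
alias Lrot35 := rot35
alias Lrot36 := rot36
alias Lrot37 := rot37
alias Lrot38 := rot38
alias Lrot39 := rot39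
alias Lrot40 := rot40
alias Lrot42 := rot42
alias Lrot43 := rot43
alias Lrot44 := rot44
alias Lrot45 := rot45
alias Lrot46 := rot46
alias Lrot47 := rot47
alias Lrot48 := rot48
alias Lrot49 := rot49
alias Lrot50 := rot50
alias Lrot51 := rot51
alias Lrot52 := rot52
alias Lrot54 := rot54
alias Lrot55 := rot55
alias Lrot56 := rot56
alias Lrot57 := rot57
alias Lrot58 := rot58
alias Lrot59 := rot59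
alias Lrot60 := rot60
alias Lrot61 := rot61
alias Lrot62 := rot62
alias Lrot63 := rot63
alias Lrot64 := rot64
alias Lrot65 := rot65
alias Lrot66 := rot66
alias Lrot67 := rot67
alias Lrot68 := rot68
alias Lrot69 := rot69
alias Lrot70 := rot70
alias Lrot71 := rot71
alias Lrot72 := rot72
alias Lrot73 := rot73
alias Lrot74 := rot74
alias Lrot75 := rot75
alias Lrot76 := rot76
alias Lrot77 := rot77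
alias Lrot78 := rot78
alias Lrot79 := rot79
alias Lrot80 := rot80
alias Lrot81 := rot81
alias Lrot82 := rot82
alias Lrot83 := rot83
alias Lrot84 := rot84
alias Lrot85 := rot85
alias Lrot86 := rot86
alias Lrot87 := rot87
alias Lrot88 := rot88
alias Lrot89 := rot89
alias Lrot90 := rot90
alias Lrot91 := rot91
alias Lrot92 := rot92
alias Lrot93 := rot93
alias Lrot94 := rot94
alias Lrot95 := rot95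
alias Lrot96 := rot96
alias Lrot97 := rot97
alias Lrot99 := rot99
alias Lrot100 := rot100
alias Lrot101 := rot101
alias Lrot103 := rot103
alias Lrot104 := rot104
alias Lrot105 := rot105
alias Lrot106 := rot106
alias Lrot107 := rot107
alias Lrot108 := rot108
alias Lrot109 := rot109
alias Lrot110 := rot110
alias Lrot111 := rot111
alias Lrot112 := rot112
alias Lrot113 := rot113
alias Lrot116 := rot116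
alias Lrot117 := rot117
alias Lrot119 := rot119
alias Lrot120 := rot120
alias Lrot121 := rot121
alias Lrot122 := rot122
alias Lrot123 := rot123
alias Lrot124 := rot124
alias Lrot125 := rot125
alias Lrot126 := rot126
alias Lrot127 := rot127
alias Lrot128 := rot128
alias Lrot129 := rot129
alias Lrot130 := rot130
alias Lrot131 := rot131
alias Lrot134 := rot134
alias Lrot135 := rot135
alias Lrot136 := rot136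
alias Lrot137 := rot137
alias Lrot138 := rot138
alias Lrot139 := rot139
alias Lrot140 := rot140
alias Lrot141 := rot141
alias Lrot143 := rot143
alias Lrot144 := rot144
alias Lrot145 := rot145
alias Lrot147 := rot147
alias Lrot148 := rot148
alias Lrot149 := rot149
alias Lrot150 := rot150
alias Lrot151 := rot151
alias Lrot152 := rot152
alias Lrot153 := rot153
alias Lrot154 := rot154
alias Lrot155 := rot155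
alias Lrot156 := rot156
alias Lrot157 := rot157
alias Lrot158 := rot158
alias Lrot160 := rot160
alias Lrot162 := rot162
alias Lrot163 := rot163
alias Lrot164 := rot164
alias Lrot165 := rot165
alias Lrot166 := rot166
alias Lrot168 := rot168
alias Lrot170 := rot170
alias Lrot171 := rot171
alias Lrot174 := rot174
alias Lrot175 := rot175
alias Lrot176 := rot176
alias Lrot178 := rot178
alias Lrot179 := rot179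
alias Lrot180 := rot180
alias Lrot181 := rot181
alias Lrot182 := rot182
alias Lrot183 := rot183
alias Lrot184 := rot184
alias Lrot185 := rot185
alias Lrot187 := rot187
alias Lrot188 := rot188
alias Lrot190 := rot190

section
variable (IH : IHT)
include IH

theorem f591067 : Led Lsl_at (LP (LK LD1_c26 LD2_c6 LD3_c48)) = (LP (LK LD1_c16 LD2_c10 LD3_c6)) :=
  Lre_a IH (LK LD1_c26 LD2_c6 LD3_c48) (LK LD1_c16 LD2_c10 LD3_c6) Lrfl Lrfl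
theorem f591068 : Led Lsl_ft (LP (LK LD1_c16 LD2_c10 LD3_c10)) = (LP (LK LD1_c26 LD2_c6 LD3_c48)) :=
  Lre_f IH (LK LD1_c16 LD2_c10 LD3_c10) (LK LD1_c26 LD2_c6 LD3_c48) Lrfl Lrfl
theorem f591069 : Led Lsl_gf (LP (LK LD1_c18 LD2_c18 LD3_c11)) = (LP (LK LD1_c16 LD2_c10 LD3_c10)) :=
  Lgr Lrot47 (Lpr_gt (K73.f591065 IH) (Lpe (f591067 IH) (Lpe (f591068 IH) (Lpn (LP (LK LD1_c16 LD2_c10 LD3_c10))))))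
theorem f273993 : Led Lsl_dt (LP (LK LD1_c18 LD2_c18 LD3_c11)) = (LP (LK LD1_c10 LD2_c0 LD3_c59)) :=
  Lre_d IH (LK LD1_c18 LD2_c18 LD3_c11) (LK LD1_c10 LD2_c0 LD3_c59) Lrfl Lrfl
theorem f274008 : Led Lsl_dt (LP (LK LD1_c19 LD2_c24 LD3_c43)) = (LP (LK LD1_c10 LD2_c43 LD3_c34)) :=
  Lre_d IH (LK LD1_c19 LD2_c24 LD3_c43) (LK LD1_c10 LD2_c43 LD3_c34) Lrfl Lrfl
theorem f33016 : Led Lsl_dt (LP (LK LD1_c8 LD2_c37 LD3_c57)) = (LP (LK LD1_c16 LD2_c10 LD3_c10)) :=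
  Lre_d IH (LK LD1_c8 LD2_c37 LD3_c57) (LK LD1_c16 LD2_c10 LD3_c10) Lrfl Lrfl
theorem f33061 : Led Lsl_gt (LP (LK LD1_c16 LD2_c10 LD3_c2)) = (LP (LK LD1_c8 LD2_c37 LD3_c57)) :=
  Lre_g IH (LK LD1_c16 LD2_c10 LD3_c2) (LK LD1_c8 LD2_c37 LD3_c57) Lrfl Lrfl
theorem f33055 : Led Lsl_ft (LP (LK LD1_c10 LD2_c24 LD3_c24)) = (LP (LK LD1_c18 LD2_c52 LD3_c41)) :=
  Lre_f IH (LK LD1_c10 LD2_c24 LD3_c24) (LK LD1_c18 LD2_c52 LD3_c41) Lrfl Lrfl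
theorem f33033 : Led Lsl_ft (LP (LK LD1_c16 LD2_c10 LD3_c2)) = (LP (LK LD1_c8 LD2_c37 LD3_c58)) :=
  Lre_f IH (LK LD1_c16 LD2_c10 LD3_c2) (LK LD1_c8 LD2_c37 LD3_c58) Lrfl Lrfl
theorem f33056 : Led Lsl_ct (LP (LK LD1_c18 LD2_c52 LD3_c41)) = (LP (LK LD1_c16 LD2_c10 LD3_c2)) :=
  Lgr Lrot40 (Lpe (f33055 IH) (Lpr_cf (K72.f33024 IH) (Lpe (f33033 IH) (Lpn (LP (LK LD1_c16 LD2_c10 LD3_c2))))))
theorem f33036 : Led Lsl_dt (LP (LK LD1_c10 LD2_c24 LD3_c23)) = (LP (LK LD1_c18 LD2_c52 LD3_c50)) :=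
  Lre_d IH (LK LD1_c10 LD2_c24 LD3_c23) (LK LD1_c18 LD2_c52 LD3_c50) Lrfl Lrfl
theorem f591093 : Led Lsl_gf (LP (LK LD1_c19 LD2_c24 LD3_c43)) = (LP (LK LD1_c18 LD2_c52 LD3_c50)) :=
  Lgr Lrot143 (Lpr_dt (f274008 IH) (Lpr_cf (K26.f266492 IH) (Lpe (f273993 IH) (Lpr_gf (f591069 IH) (Lpe (f33016 IH) (Lpe (f33061 IH) (Lpe (f33056 IH) (Lpr_gt (K68.f33060 IH) (Lpr_dt (f33036 IH) (Lpn (LP (LK LD1_c18 LD2_c52 LD3_c50))))))))))))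
theorem f591095 : Led Lsl_ft (LP (LK LD1_c18 LD2_c52 LD3_c50)) = (LP (LK LD1_c28 LD2_c20 LD3_c36)) :=
  Lre_f IH (LK LD1_c18 LD2_c52 LD3_c50) (LK LD1_c28 LD2_c20 LD3_c36) Lrfl Lrfl
theorem f591096 : Led Lsl_at (LP (LK LD1_c28 LD2_c20 LD3_c36)) = (LP (LK LD1_c18 LD2_c52 LD3_c45)) :=
  Lre_a IH (LK LD1_c28 LD2_c20 LD3_c36) (LK LD1_c18 LD2_c52 LD3_c45) Lrfl Lrfl
theorem f591097 : Led Lsl_gt (LP (LK LD1_c19 LD2_c24 LD3_c43)) = (LP (LK LD1_c18 LD2_c52 LD3_c45)) :=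
  Lgr Lrot46 (Lpr_gf (f591093 IH) (Lpr_ft (f591095 IH) (Lpr_at (f591096 IH) (Lpn (LP (LK LD1_c18 LD2_c52 LD3_c45))))))
theorem f274005 : Led Lsl_bt (LP (LK LD1_c10 LD2_c43 LD3_c35)) = (LP (LK LD1_c19 LD2_c24 LD3_c43)) :=
  Lre_b IH (LK LD1_c10 LD2_c43 LD3_c35) (LK LD1_c19 LD2_c24 LD3_c43) Lrfl Lrfl
theorem f377908 : Led Lsl_bt (LP (LK LD1_c19 LD2_c31 LD3_c35)) = (LP (LK LD1_c10 LD2_c47 LD3_c41)) :=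
  Lre_b IH (LK LD1_c19 LD2_c31 LD3_c35) (LK LD1_c10 LD2_c47 LD3_c41) Lrfl Lrfl
theorem f930872 : Led Lsl_gf (LP (LK LD1_c28 LD2_c54 LD3_c4)) = (LP (LK LD1_c32 LD2_c31 LD3_c47)) :=
  Lgr Lrot126 (Lpe (K73.f261373 IH) (Lpr_bt (f377908 IH) (Lpr_gt (K26.f284880 IH) (Lpr_ct (K26.f191497 IH) (Lpr_gt (K17.f48935 IH) (Lpe (K17.f284954 IH) (Lpr_bt (f274005 IH) (Lpr_gt (f591097 IH) (Lpe (K73.f591101 IH) (Lpr_ct (K73.f930869 IH) (Lpn (LP (LK LD1_c32 LD2_c31 LD3_c47)))))))))))))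
theorem f723555 : Led Lsl_at (LP (LK LD1_c9 LD2_c58 LD3_c21)) = (LP (LK LD1_c10 LD2_c11 LD3_c40)) :=
  Lgr Lrot100 (Lpr_af (K69.f723553 IH) (Lpn (LP (LK LD1_c10 LD2_c11 LD3_c40))))
theorem f723587 : Led Lsl_ff (LP (LK LD1_c9 LD2_c58 LD3_c21)) = (LP (LK LD1_c10 LD2_c11 LD3_c41)) :=
  Lgr Lrot30 (Lpr_at (f723555 IH) (Lpe (K69.f723571 IH) (Lpr_at (K69.f723579 IH) (Lpn (LP (LK LD1_c10 LD2_c11 LD3_c41))))))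
theorem f165577 : Led Lsl_ct (LP (LK LD1_c5 LD2_c9 LD3_c40)) = (LP (LK LD1_c2 LD2_c32 LD3_c0)) :=
  Lre_c IH (LK LD1_c5 LD2_c9 LD3_c40) (LK LD1_c2 LD2_c32 LD3_c0) Lrfl Lrfl
theorem f180600 : Led Lsl_dt (LP (LK LD1_c10 LD2_c10 LD3_c4)) = (LP (LK LD1_c5 LD2_c9 LD3_c40)) :=
  Lre_d IH (LK LD1_c10 LD2_c10 LD3_c4) (LK LD1_c5 LD2_c9 LD3_c40) Lrfl Lrfl
theorem f180601 : Led Lsl_gt (LP (LK LD1_c18 LD2_c31 LD3_c24)) = (LP (LK LD1_c10 LD2_c10 LD3_c4)) :=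
  Lre_g IH (LK LD1_c18 LD2_c31 LD3_c24) (LK LD1_c10 LD2_c10 LD3_c4) Lrfl Lrfl
theorem f714513 : Led Lsl_dt (LP (LK LD1_c10 LD2_c11 LD3_c41)) = (LP (LK LD1_c18 LD2_c31 LD3_c24)) :=
  Lgr Lrot57 (Lpr_gf (K53.f412519 IH) (Lpe (K44.f249763 IH) (Lpr_gt (K72.f417540 IH) (Lpr_dt (K71.f714505 IH) (Lpr_gt (K53.f180697 IH) (Lpr_dt (K69.f180623 IH) (Lpe (f165577 IH) (Lpe (f180600 IH) (Lpe (f180601 IH) (Lpn (LP (LK LD1_c18 LD2_c31 LD3_c24))))))))))))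
theorem f714518 : Led Lsl_df (LP (LK LD1_c10 LD2_c11 LD3_c41)) = (LP (LK LD1_c18 LD2_c31 LD3_c24)) :=
  Lgr Lrot38 (Lpr_dt (f714513 IH) (Lpn (LP (LK LD1_c18 LD2_c31 LD3_c24))))
theorem f723591 : Led Lsl_ft (LP (LK LD1_c18 LD2_c12 LD3_c10)) = (LP (LK LD1_c18 LD2_c31 LD3_c24)) :=
  Lgr Lrot54 (Lpr_df (K73.f405321 IH) (Lpr_ff (f723587 IH) (Lpr_df (f714518 IH) (Lpn (LP (LK LD1_c18 LD2_c31 LD3_c24))))))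
theorem f723597 : Led Lsl_ff (LP (LK LD1_c18 LD2_c12 LD3_c10)) = (LP (LK LD1_c18 LD2_c31 LD3_c24)) :=
  Lgr Lrot3 (Lpr_ft (f723591 IH) (Lpn (LP (LK LD1_c18 LD2_c31 LD3_c24))))
theorem f405858 : Led Lsl_bt (LP (LK LD1_c18 LD2_c12 LD3_c10)) = (LP (LK LD1_c27 LD2_c52 LD3_c55)) :=
  Lre_b IH (LK LD1_c18 LD2_c12 LD3_c10) (LK LD1_c27 LD2_c52 LD3_c55) Lrfl Lrfl
theorem f180602 : Led Lsl_bt (LP (LK LD1_c28 LD2_c5 LD3_c42)) = (LP (LK LD1_c18 LD2_c31 LD3_c24)) :=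
  Lre_b IH (LK LD1_c28 LD2_c5 LD3_c42) (LK LD1_c18 LD2_c31 LD3_c24) Lrfl Lrfl
theorem f723601 : Led Lsl_ft (LP (LK LD1_c27 LD2_c52 LD3_c55)) = (LP (LK LD1_c28 LD2_c5 LD3_c42)) :=
  Lgr Lrot75 (Lpe (f405858 IH) (Lpr_ff (f723597 IH) (Lpe (f180602 IH) (Lpn (LP (LK LD1_c28 LD2_c5 LD3_c42))))))
theorem f405861 : Led Lsl_dt (LP (LK LD1_c18 LD2_c12 LD3_c10)) = (LP (LK LD1_c9 LD2_c58 LD3_c21)) :=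
  Lgr Lrot42 (Lpr_df (K73.f405321 IH) (Lpn (LP (LK LD1_c9 LD2_c58 LD3_c21))))
theorem f249576 : Led Lsl_bt (LP (LK LD1_c27 LD2_c52 LD3_c55)) = (LP (LK LD1_c18 LD2_c12 LD3_c10)) :=
  Lre_b IH (LK LD1_c27 LD2_c52 LD3_c55) (LK LD1_c18 LD2_c12 LD3_c10) Lrfl Lrfl
theorem f405869 : Led Lsl_df (LP (LK LD1_c27 LD2_c52 LD3_c55)) = (LP (LK LD1_c18 LD2_c14 LD3_c34)) :=
  Lgr Lrot12 (Lpr_bt (f249576 IH) (Lpr_dt (f405861 IH) (Lpr_bt (K44.f185208 IH) (Lpn (LP (LK LD1_c18 LD2_c14 LD3_c34))))))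
theorem f171642 : Led Lsl_bt (LP (LK LD1_c18 LD2_c34 LD3_c15)) = (LP (LK LD1_c10 LD2_c11 LD3_c41)) :=
  Lre_b IH (LK LD1_c18 LD2_c34 LD3_c15) (LK LD1_c10 LD2_c11 LD3_c41) Lrfl Lrfl
theorem f714515 : Led Lsl_bt (LP (LK LD1_c18 LD2_c31 LD3_c24)) = (LP (LK LD1_c28 LD2_c5 LD3_c42)) :=
  Lre_b IH (LK LD1_c18 LD2_c31 LD3_c24) (LK LD1_c28 LD2_c5 LD3_c42) Lrfl Lrfl
theorem f714516 : Led Lsl_df (LP (LK LD1_c18 LD2_c34 LD3_c15)) = (LP (LK LD1_c28 LD2_c5 LD3_c42)) :=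
  Lgr Lrot12 (Lpr_bt (f171642 IH) (Lpr_dt (f714513 IH) (Lpr_bt (f714515 IH) (Lpn (LP (LK LD1_c28 LD2_c5 LD3_c42))))))
theorem f723603 : Led Lsl_ff (LP (LK LD1_c18 LD2_c14 LD3_c34)) = (LP (LK LD1_c18 LD2_c34 LD3_c15)) :=
  Lgr Lrot19 (Lpe (f405869 IH) (Lpr_ft (f723601 IH) (Lpe (f714516 IH) (Lpn (LP (LK LD1_c18 LD2_c34 LD3_c15))))))
theorem f714523 : Led Lsl_at (LP (LK LD1_c28 LD2_c8 LD3_c28)) = (LP (LK LD1_c18 LD2_c34 LD3_c15)) :=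
  Lre_a IH (LK LD1_c28 LD2_c8 LD3_c28) (LK LD1_c18 LD2_c34 LD3_c15) Lrfl Lrfl
theorem f723605 : Led Lsl_ft (LP (LK LD1_c27 LD2_c54 LD3_c48)) = (LP (LK LD1_c28 LD2_c8 LD3_c28)) :=
  Lgr Lrot101 (Lpe (K69.f185240 IH) (Lpr_ff (f723603 IH) (Lpe (f714523 IH) (Lpn (LP (LK LD1_c28 LD2_c8 LD3_c28))))))
theorem f723609 : Led Lsl_ff (LP (LK LD1_c27 LD2_c54 LD3_c48)) = (LP (LK LD1_c28 LD2_c8 LD3_c28)) :=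
  Lgr Lrot3 (Lpr_ft (f723605 IH) (Lpn (LP (LK LD1_c28 LD2_c8 LD3_c28))))
theorem f723611 : Led Lsl_bt (LP (LK LD1_c18 LD2_c47 LD3_c14)) = (LP (LK LD1_c28 LD2_c8 LD3_c28)) :=
  Lgr Lrot35 (Lpe (K69.f604150 IH) (Lpe (K69.f723551 IH) (Lpr_ff (f723609 IH) (Lpn (LP (LK LD1_c28 LD2_c8 LD3_c28))))))
theorem f723266 : Led Lsl_ft (LP (LK LD1_c9 LD2_c58 LD3_c21)) = (LP (LK LD1_c10 LD2_c11 LD3_c41)) :=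
  Lgr Lrot4 (Lpe (K44.f185200 IH) (Lpr_ff (K53.f723264 IH) (Lpr_cf (K53.f171636 IH) (Lpn (LP (LK LD1_c10 LD2_c11 LD3_c41))))))
theorem f723563 : Led Lsl_af (LP (LK LD1_c9 LD2_c58 LD3_c20)) = (LP (LK LD1_c10 LD2_c11 LD3_c41)) :=
  Lgr Lrot45 (Lpr_ft (K69.f723561 IH) (Lpe (K69.f723553 IH) (Lpr_ft (f723266 IH) (Lpn (LP (LK LD1_c10 LD2_c11 LD3_c41))))))
theorem f214861 : Led Lsl_bt (LP (LK LD1_c9 LD2_c58 LD3_c20)) = (LP (LK LD1_c18 LD2_c14 LD3_c33)) :=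
  Lre_b IH (LK LD1_c9 LD2_c58 LD3_c20) (LK LD1_c18 LD2_c14 LD3_c33) Lrfl Lrfl
theorem f723615 : Led Lsl_af (LP (LK LD1_c18 LD2_c47 LD3_c14)) = (LP (LK LD1_c18 LD2_c14 LD3_c33)) :=
  Lgr Lrot36 (Lpr_bt (f723611 IH) (Lpr_at (f714523 IH) (Lpr_bt (f171642 IH) (Lpe (f723563 IH) (Lpr_bt (f214861 IH) (Lpn (LP (LK LD1_c18 LD2_c14 LD3_c33))))))))
theorem f585769 : Led Lsl_dt (LP (LK LD1_c18 LD2_c47 LD3_c14)) = (LP (LK LD1_c28 LD2_c16 LD3_c58)) :=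
  Lre_d IH (LK LD1_c18 LD2_c47 LD3_c14) (LK LD1_c28 LD2_c16 LD3_c58) Lrfl Lrfl
theorem f299720 : Led Lsl_dt (LP (LK LD1_c18 LD2_c31 LD3_c22)) = (LP (LK LD1_c10 LD2_c10 LD3_c3)) :=
  Lre_d IH (LK LD1_c18 LD2_c31 LD3_c22) (LK LD1_c10 LD2_c10 LD3_c3) Lrfl Lrfl
theorem f299971 : Led Lsl_at (LP (LK LD1_c18 LD2_c12 LD3_c7)) = (LP (LK LD1_c9 LD2_c56 LD3_c46)) :=
  Lre_a IH (LK LD1_c18 LD2_c12 LD3_c7) (LK LD1_c9 LD2_c56 LD3_c46) Lrfl Lrfl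
theorem f299972 : Led Lsl_at (LP (LK LD1_c10 LD2_c10 LD3_c4)) = (LP (LK LD1_c18 LD2_c31 LD3_c22)) :=
  Lre_a IH (LK LD1_c10 LD2_c10 LD3_c4) (LK LD1_c18 LD2_c31 LD3_c22) Lrfl Lrfl
theorem f299973 : Led Lsl_ft (LP (LK LD1_c9 LD2_c56 LD3_c46)) = (LP (LK LD1_c10 LD2_c10 LD3_c4)) :=
  Lgr Lrot101 (Lpe (f299971 IH) (Lpr_ff (K18.f299965 IH) (Lpe (f299972 IH) (Lpn (LP (LK LD1_c10 LD2_c10 LD3_c4))))))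
theorem f249577 : Led Lsl_gt (LP (LK LD1_c9 LD2_c56 LD3_c46)) = (LP (LK LD1_c18 LD2_c12 LD3_c9)) :=
  Lre_g IH (LK LD1_c9 LD2_c56 LD3_c46) (LK LD1_c18 LD2_c12 LD3_c9) Lrfl Lrfl
theorem f406733 : Led Lsl_gt (LP (LK LD1_c18 LD2_c12 LD3_c9)) = (LP (LK LD1_c18 LD2_c31 LD3_c22)) :=
  Lgr Lrot46 (Lpe (f249577 IH) (Lpr_ft (f299973 IH) (Lpr_at (f299972 IH) (Lpn (LP (LK LD1_c18 LD2_c31 LD3_c22))))))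
theorem f604190 : Led Lsl_dt (LP (LK LD1_c9 LD2_c58 LD3_c20)) = (LP (LK LD1_c18 LD2_c12 LD3_c9)) :=
  Lgr Lrot57 (Lpe (K37.f166894 IH) (Lpe (K14.f165612 IH) (Lpr_gt (K53.f165589 IH) (Lpr_dt (K72.f604185 IH) (Lpr_gt (K53.f299928 IH) (Lpr_dt (K32.f299876 IH) (Lpe (K18.f299719 IH) (Lpe (f299720 IH) (Lpe (f406733 IH) (Lpn (LP (LK LD1_c18 LD2_c12 LD3_c9))))))))))))
theorem f604192 : Led Lsl_bt (LP (LK LD1_c18 LD2_c12 LD3_c9)) = (LP (LK LD1_c27 LD2_c52 LD3_c53)) :=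
  Lre_b IH (LK LD1_c18 LD2_c12 LD3_c9) (LK LD1_c27 LD2_c52 LD3_c53) Lrfl Lrfl
theorem f604193 : Led Lsl_df (LP (LK LD1_c18 LD2_c14 LD3_c33)) = (LP (LK LD1_c27 LD2_c52 LD3_c53)) :=
  Lgr Lrot12 (Lpr_bt (K37.f214793 IH) (Lpr_dt (f604190 IH) (Lpr_bt (f604192 IH) (Lpn (LP (LK LD1_c27 LD2_c52 LD3_c53))))))
theorem f723617 : Led Lsl_at (LP (LK LD1_c28 LD2_c16 LD3_c58)) = (LP (LK LD1_c27 LD2_c52 LD3_c53)) :=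
  Lgr Lrot51 (Lpe (f585769 IH) (Lpr_af (f723615 IH) (Lpr_df (f604193 IH) (Lpn (LP (LK LD1_c27 LD2_c52 LD3_c53))))))
theorem f930874 : Led Lsl_gt (LP (LK LD1_c28 LD2_c54 LD3_c4)) = (LP (LK LD1_c27 LD2_c52 LD3_c53)) :=
  Lgr Lrot46 (Lpr_gf (f930872 IH) (Lpe (K73.f721315 IH) (Lpr_at (f723617 IH) (Lpn (LP (LK LD1_c27 LD2_c52 LD3_c53))))))
theorem f939765 : Led Lsl_gf (LP (LK LD1_c28 LD2_c32 LD3_c12)) = (LP (LK LD1_c27 LD2_c52 LD3_c53)) :=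
  Lgr Lrot76 (Lpr_af (K73.f939759 IH) (Lpe (K73.f377909 IH) (Lpr_gt (f930874 IH) (Lpn (LP (LK LD1_c27 LD2_c52 LD3_c53))))))
theorem f721317 : Led Lsl_at (LP (LK LD1_c28 LD2_c5 LD3_c41)) = (LP (LK LD1_c32 LD2_c31 LD3_c47)) :=
  Lre_a IH (LK LD1_c28 LD2_c5 LD3_c41) (LK LD1_c32 LD2_c31 LD3_c47) Lrfl Lrfl
theorem f723621 : Led Lsl_ff (LP (LK LD1_c28 LD2_c5 LD3_c41)) = (LP (LK LD1_c27 LD2_c52 LD3_c53)) :=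
  Lgr Lrot30 (Lpr_at (f721317 IH) (Lpe (K73.f721315 IH) (Lpr_at (f723617 IH) (Lpn (LP (LK LD1_c27 LD2_c52 LD3_c53))))))
theorem f939767 : Led Lsl_gt (LP (LK LD1_c28 LD2_c32 LD3_c12)) = (LP (LK LD1_c32 LD2_c31 LD3_c47)) :=
  Lgr Lrot46 (Lpr_gf (f939765 IH) (Lpe (f723621 IH) (Lpr_at (f721317 IH) (Lpn (LP (LK LD1_c32 LD2_c31 LD3_c47))))))
theorem f583267 : Led Lsl_bt (LP (LK LD1_c28 LD2_c32 LD3_c12)) = (LP (LK LD1_c19 LD2_c6 LD3_c42)) :=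
  Lre_b IH (LK LD1_c28 LD2_c32 LD3_c12) (LK LD1_c19 LD2_c6 LD3_c42) Lrfl Lrfl
theorem f939737 : Led Lsl_df (LP (LK LD1_c28 LD2_c32 LD3_c12)) = (LP (LK LD1_c27 LD2_c52 LD3_c40)) :=
  Lgr Lrot12 (Lpr_bt (f583267 IH) (Lpr_dt (K73.f939734 IH) (Lpr_bt (K73.f585370 IH) (Lpn (LP (LK LD1_c27 LD2_c52 LD3_c40))))))
theorem f585378 : Led Lsl_gf (LP (LK LD1_c27 LD2_c52 LD3_c40)) = (LP (LK LD1_c18 LD2_c12 LD3_c0)) :=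
  Lgr Lrot76 (Lpr_af (K73.f585374 IH) (Lpr_ff (K73.f585309 IH) (Lpr_gt (K73.f408309 IH) (Lpn (LP (LK LD1_c18 LD2_c12 LD3_c0))))))
theorem f232053 : Led Lsl_dt (LP (LK LD1_c10 LD2_c19 LD3_c30)) = (LP (LK LD1_c18 LD2_c44 LD3_c42)) :=
  Lre_d IH (LK LD1_c10 LD2_c19 LD3_c30) (LK LD1_c18 LD2_c44 LD3_c42) Lrfl Lrfl
theorem f232054 : Led Lsl_gt (LP (LK LD1_c18 LD2_c44 LD3_c42)) = (LP (LK LD1_c28 LD2_c14 LD3_c37)) :=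
  Lre_g IH (LK LD1_c18 LD2_c44 LD3_c42) (LK LD1_c28 LD2_c14 LD3_c37) Lrfl Lrfl
theorem f721313 : Led Lsl_df (LP (LK LD1_c28 LD2_c8 LD3_c23)) = (LP (LK LD1_c32 LD2_c31 LD3_c47)) :=
  Lgr Lrot38 (Lpr_dt (K73.f721311 IH) (Lpn (LP (LK LD1_c32 LD2_c31 LD3_c47))))
theorem f939769 : Led Lsl_dt (LP (LK LD1_c28 LD2_c14 LD3_c37)) = (LP (LK LD1_c18 LD2_c44 LD3_c48)) :=
  Lgr Lrot105 (Lpe (f232054 IH) (Lpe (f232053 IH) (Lpe (K73.f191163 IH) (Lpr_cf (K73.f408301 IH) (Lpe (f585378 IH) (Lpe (f939737 IH) (Lpr_gt (f939767 IH) (Lpe (f721313 IH) (Lpe (K69.f723539 IH) (Lpn (LP (LK LD1_c18 LD2_c44 LD3_c48))))))))))))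
theorem f939774 : Led Lsl_df (LP (LK LD1_c28 LD2_c14 LD3_c37)) = (LP (LK LD1_c18 LD2_c44 LD3_c48)) :=
  Lgr Lrot38 (Lpr_dt (f939769 IH) (Lpn (LP (LK LD1_c18 LD2_c44 LD3_c48))))
theorem f257112 : Led Lsl_bt (LP (LK LD1_c10 LD2_c19 LD3_c31)) = (LP (LK LD1_c18 LD2_c44 LD3_c42)) :=
  Lre_b IH (LK LD1_c10 LD2_c19 LD3_c31) (LK LD1_c18 LD2_c44 LD3_c42) Lrfl Lrfl
theorem f259416 : Led Lsl_bt (LP (LK LD1_c10 LD2_c20 LD3_c33)) = (LP (LK LD1_c5 LD2_c15 LD3_c38)) :=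
  Lre_b IH (LK LD1_c10 LD2_c20 LD3_c33) (LK LD1_c5 LD2_c15 LD3_c38) Lrfl Lrfl
theorem f369661 : Led Lsl_ft (LP (LK LD1_c18 LD2_c44 LD3_c42)) = (LP (LK LD1_c10 LD2_c20 LD3_c33)) :=
  Lgr Lrot75 (Lpe (f257112 IH) (Lpr_ff (K27.f369657 IH) (Lpe (f259416 IH) (Lpn (LP (LK LD1_c10 LD2_c20 LD3_c33))))))
theorem f369643 : Led Lsl_at (LP (LK LD1_c10 LD2_c20 LD3_c33)) = (LP (LK LD1_c18 LD2_c46 LD3_c13)) :=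
  Lre_a IH (LK LD1_c10 LD2_c20 LD3_c33) (LK LD1_c18 LD2_c46 LD3_c13) Lrfl Lrfl
theorem f376477 : Led Lsl_gt (LP (LK LD1_c28 LD2_c14 LD3_c37)) = (LP (LK LD1_c18 LD2_c46 LD3_c13)) :=
  Lgr Lrot46 (Lpe (f232054 IH) (Lpr_ft (f369661 IH) (Lpr_at (f369643 IH) (Lpn (LP (LK LD1_c18 LD2_c46 LD3_c13))))))
theorem f372061 : Led Lsl_dt (LP (LK LD1_c18 LD2_c46 LD3_c13)) = (LP (LK LD1_c10 LD2_c20 LD3_c32)) :=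
  Lre_d IH (LK LD1_c18 LD2_c46 LD3_c13) (LK LD1_c10 LD2_c20 LD3_c32) Lrfl Lrfl
theorem f376415 : Led Lsl_dt (LP (LK LD1_c28 LD2_c15 LD3_c33)) = (LP (LK LD1_c18 LD2_c45 LD3_c56)) :=
  Lre_d IH (LK LD1_c28 LD2_c15 LD3_c33) (LK LD1_c18 LD2_c45 LD3_c56) Lrfl Lrfl
theorem f214855 : Led Lsl_gt (LP (LK LD1_c15 LD2_c0 LD3_c35)) = (LP (LK LD1_c24 LD2_c47 LD3_c56)) :=
  Lre_g IH (LK LD1_c15 LD2_c0 LD3_c35) (LK LD1_c24 LD2_c47 LD3_c56) Lrfl Lrfl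
theorem f585718 : Led Lsl_gt (LP (LK LD1_c18 LD2_c47 LD3_c60)) = (LP (LK LD1_c28 LD2_c14 LD3_c57)) :=
  Lgr Lrot149 (Lpe (K53.f252525 IH) (Lpr_gf (K37.f343287 IH) (Lpe (K37.f342915 IH) (Lpr_ct (K37.f342943 IH) (Lpr_gf (K44.f402462 IH) (Lpe (K44.f190501 IH) (Lpr_bt (K44.f190502 IH) (Lpe (K44.f402506 IH) (Lpe (K44.f585707 IH) (Lpr_ct (K44.f585709 IH) (Lpn (LP (LK LD1_c28 LD2_c14 LD3_c57)))))))))))))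
theorem f342994 : Led Lsl_dt (LP (LK LD1_c18 LD2_c47 LD3_c7)) = (LP (LK LD1_c28 LD2_c16 LD3_c49)) :=
  Lre_d IH (LK LD1_c18 LD2_c47 LD3_c7) (LK LD1_c28 LD2_c16 LD3_c49) Lrfl Lrfl
theorem f191253 : Led Lsl_dt (LP (LK LD1_c15 LD2_c33 LD3_c1)) = (LP (LK LD1_c25 LD2_c26 LD3_c30)) :=
  Lre_d IH (LK LD1_c15 LD2_c33 LD3_c1) (LK LD1_c25 LD2_c26 LD3_c30) Lrfl Lrfl
theorem f49309 : Led Lsl_gt (LP (LK LD1_c15 LD2_c33 LD3_c0)) = (LP (LK LD1_c8 LD2_c16 LD3_c14)) :=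
  Lre_g IH (LK LD1_c15 LD2_c33 LD3_c0) (LK LD1_c8 LD2_c16 LD3_c14) Lrfl Lrfl
theorem f585720 : Led Lsl_ct (LP (LK LD1_c25 LD2_c26 LD3_c26)) = (LP (LK LD1_c15 LD2_c33 LD3_c0)) :=
  Lre_c IH (LK LD1_c25 LD2_c26 LD3_c26) (LK LD1_c15 LD2_c33 LD3_c0) Lrfl Lrfl
theorem f585721 : Led Lsl_gt (LP (LK LD1_c28 LD2_c16 LD3_c49)) = (LP (LK LD1_c25 LD2_c26 LD3_c26)) :=
  Lgr Lrot9 (Lpe (f342994 IH) (Lpe (K37.f343287 IH) (Lpr_ct (K53.f252525 IH) (Lpr_gt (f585718 IH) (Lpe (K44.f585715 IH) (Lpe (f191253 IH) (Lpe (K73.f184170 IH) (Lpe (f49309 IH) (Lpe (f585720 IH) (Lpn (LP (LK LD1_c25 LD2_c26 LD3_c26))))))))))))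
theorem f343197 : Led Lsl_at (LP (LK LD1_c31 LD2_c39 LD3_c13)) = (LP (LK LD1_c24 LD2_c47 LD3_c59)) :=
  Lre_a IH (LK LD1_c31 LD2_c39 LD3_c13) (LK LD1_c24 LD2_c47 LD3_c59) Lrfl Lrfl
theorem f585726 : Led Lsl_gf (LP (LK LD1_c24 LD2_c47 LD3_c59)) = (LP (LK LD1_c25 LD2_c26 LD3_c26)) :=
  Lgr Lrot76 (Lpe (f343197 IH) (Lpr_ff (K26.f343193 IH) (Lpr_gt (f585721 IH) (Lpn (LP (LK LD1_c25 LD2_c26 LD3_c26))))))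
theorem f585728 : Led Lsl_ct (LP (LK LD1_c15 LD2_c33 LD3_c0)) = (LP (LK LD1_c25 LD2_c26 LD3_c26)) :=
  Lre_c IH (LK LD1_c15 LD2_c33 LD3_c0) (LK LD1_c25 LD2_c26 LD3_c26) Lrfl Lrfl
theorem f49410 : Led Lsl_gt (LP (LK LD1_c4 LD2_c8 LD3_c4)) = (LP (LK LD1_c8 LD2_c16 LD3_c11)) :=
  Lre_g IH (LK LD1_c4 LD2_c8 LD3_c4) (LK LD1_c8 LD2_c16 LD3_c11) Lrfl Lrfl
theorem f585729 : Led Lsl_ct (LP (LK LD1_c25 LD2_c26 LD3_c18)) = (LP (LK LD1_c15 LD2_c32 LD3_c57)) :=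
  Lre_c IH (LK LD1_c25 LD2_c26 LD3_c18) (LK LD1_c15 LD2_c32 LD3_c57) Lrfl Lrfl
theorem f585730 : Led Lsl_dt (LP (LK LD1_c24 LD2_c47 LD3_c56)) = (LP (LK LD1_c25 LD2_c26 LD3_c18)) :=
  Lgr Lrot105 (Lpe (f214855 IH) (Lpe (K26.f214848 IH) (Lpr_gf (f585726 IH) (Lpe (f585728 IH) (Lpr_gt (f49309 IH) (Lpr_dt (K44.f49299 IH) (Lpr_gt (f49410 IH) (Lpr_dt (K73.f49411 IH) (Lpe (f585729 IH) (Lpn (LP (LK LD1_c25 LD2_c26 LD3_c18))))))))))))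
theorem f939781 : Led Lsl_gf (LP (LK LD1_c28 LD2_c15 LD3_c33)) = (LP (LK LD1_c25 LD2_c26 LD3_c18)) :=
  Lgr Lrot143 (Lpr_dt (f376415 IH) (Lpe (K73.f372011 IH) (Lpe (f372061 IH) (Lpe (f376477 IH) (Lpr_df (f939774 IH) (Lpe (K37.f214854 IH) (Lpr_cf (K14.f214831 IH) (Lpr_gt (f214855 IH) (Lpr_dt (f585730 IH) (Lpn (LP (LK LD1_c25 LD2_c26 LD3_c18))))))))))))
theorem f368211 : Led Lsl_at (LP (LK LD1_c18 LD2_c45 LD3_c57)) = (LP (LK LD1_c28 LD2_c15 LD3_c33)) :=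
  Lre_a IH (LK LD1_c18 LD2_c45 LD3_c57) (LK LD1_c28 LD2_c15 LD3_c33) Lrfl Lrfl
theorem f191798 : Led Lsl_bt (LP (LK LD1_c15 LD2_c0 LD3_c45)) = (LP (LK LD1_c24 LD2_c48 LD3_c16)) :=
  Lre_b IH (LK LD1_c15 LD2_c0 LD3_c45) (LK LD1_c24 LD2_c48 LD3_c16) Lrfl Lrfl
theorem f191799 : Led Lsl_df (LP (LK LD1_c16 LD2_c34 LD3_c40)) = (LP (LK LD1_c24 LD2_c48 LD3_c16)) :=
  Lgr Lrot12 (Lpr_bt (K14.f191797 IH) (Lpr_dt (K14.f191793 IH) (Lpr_bt (f191798 IH) (Lpn (LP (LK LD1_c24 LD2_c48 LD3_c16))))))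
theorem f191802 : Led Lsl_at (LP (LK LD1_c31 LD2_c39 LD3_c25)) = (LP (LK LD1_c24 LD2_c48 LD3_c16)) :=
  Lre_a IH (LK LD1_c31 LD2_c39 LD3_c25) (LK LD1_c24 LD2_c48 LD3_c16) Lrfl Lrfl
theorem f191803 : Led Lsl_dt (LP (LK LD1_c26 LD2_c32 LD3_c7)) = (LP (LK LD1_c31 LD2_c39 LD3_c25)) :=
  Lgr Lrot44 (Lpe (K53.f191801 IH) (Lpr_df (f191799 IH) (Lpe (f191802 IH) (Lpn (LP (LK LD1_c31 LD2_c39 LD3_c25))))))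
theorem f376437 : Led Lsl_ft (LP (LK LD1_c31 LD2_c39 LD3_c25)) = (LP (LK LD1_c28 LD2_c15 LD3_c33)) :=
  Lgr Lrot54 (Lpe (f191803 IH) (Lpr_ff (K73.f376430 IH) (Lpe (f376415 IH) (Lpn (LP (LK LD1_c28 LD2_c15 LD3_c33))))))
theorem f376443 : Led Lsl_ff (LP (LK LD1_c31 LD2_c39 LD3_c25)) = (LP (LK LD1_c28 LD2_c15 LD3_c33)) :=
  Lgr Lrot3 (Lpr_ft (f376437 IH) (Lpn (LP (LK LD1_c28 LD2_c15 LD3_c33))))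
theorem f376448 : Led Lsl_ft (LP (LK LD1_c24 LD2_c48 LD3_c16)) = (LP (LK LD1_c18 LD2_c45 LD3_c57)) :=
  Lgr Lrot101 (Lpe (f191802 IH) (Lpr_ff (f376443 IH) (Lpe (f368211 IH) (Lpn (LP (LK LD1_c18 LD2_c45 LD3_c57))))))
theorem f939783 : Led Lsl_gt (LP (LK LD1_c24 LD2_c48 LD3_c16)) = (LP (LK LD1_c25 LD2_c26 LD3_c18)) :=
  Lgr Lrot5 (Lpr_ft (f376448 IH) (Lpr_at (f368211 IH) (Lpr_gf (f939781 IH) (Lpn (LP (LK LD1_c25 LD2_c26 LD3_c18))))))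
theorem f939785 : Led Lsl_bf (LP (LK LD1_c26 LD2_c32 LD3_c15)) = (LP (LK LD1_c31 LD2_c53 LD3_c47)) :=
  Lgr Lrot156 (Lpr_gt (K73.f44215 IH) (Lpe (K14.f46416 IH) (Lpr_ct (K10.f46418 IH) (Lpr_gt (K14.f46431 IH) (Lpr_cf (K14.f215686 IH) (Lpr_bt (f191798 IH) (Lpr_gt (f939783 IH) (Lpr_ct (f585729 IH) (Lpr_gt (K73.f49412 IH) (Lpe (K73.f585766 IH) (Lpn (LP (LK LD1_c31 LD2_c53 LD3_c47)))))))))))))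
theorem f939793 : Led Lsl_ft (LP (LK LD1_c28 LD2_c32 LD3_c12)) = (LP (LK LD1_c31 LD2_c53 LD3_c47)) :=
  Lgr Lrot75 (Lpe (K73.f939733 IH) (Lpr_ff (K73.f939729 IH) (Lpr_bf (f939785 IH) (Lpn (LP (LK LD1_c31 LD2_c53 LD3_c47))))))
theorem f939799 : Led Lsl_ff (LP (LK LD1_c28 LD2_c32 LD3_c12)) = (LP (LK LD1_c31 LD2_c53 LD3_c47)) :=
  Lgr Lrot3 (Lpr_ft (f939793 IH) (Lpn (LP (LK LD1_c31 LD2_c53 LD3_c47))))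
theorem f939761 : Led Lsl_at (LP (LK LD1_c28 LD2_c32 LD3_c12)) = (LP (LK LD1_c28 LD2_c16 LD3_c6)) :=
  Lgr Lrot100 (Lpr_af (K73.f939759 IH) (Lpn (LP (LK LD1_c28 LD2_c16 LD3_c6))))
theorem f939803 : Led Lsl_gf (LP (LK LD1_c28 LD2_c16 LD3_c6)) = (LP (LK LD1_c28 LD2_c16 LD3_c58)) :=
  Lgr Lrot76 (Lpe (f939761 IH) (Lpr_ff (f939799 IH) (Lpe (K73.f585767 IH) (Lpn (LP (LK LD1_c28 LD2_c16 LD3_c58))))))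
theorem f554702 : Led Lsl_ct (LP (LK LD1_c15 LD2_c32 LD3_c41)) = (LP (LK LD1_c19 LD2_c8 LD3_c53)) :=
  Lgr Lrot59 (Lpr_cf (K72.f554698 IH) (Lpn (LP (LK LD1_c19 LD2_c8 LD3_c53))))
theorem f194951 : Led Lsl_ct (LP (LK LD1_c19 LD2_c10 LD3_c7)) = (LP (LK LD1_c10 LD2_c34 LD3_c48)) :=
  Lre_c IH (LK LD1_c19 LD2_c10 LD3_c7) (LK LD1_c10 LD2_c34 LD3_c48) Lrfl Lrfl
theorem f215331 : Led Lsl_ct (LP (LK LD1_c10 LD2_c34 LD3_c48)) = (LP (LK LD1_c19 LD2_c10 LD3_c7)) :=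
  Lre_c IH (LK LD1_c10 LD2_c34 LD3_c48) (LK LD1_c19 LD2_c10 LD3_c7) Lrfl Lrfl
theorem f215332 : Led Lsl_bt (LP (LK LD1_c18 LD2_c45 LD3_c57)) = (LP (LK LD1_c10 LD2_c20 LD3_c19)) :=
  Lre_b IH (LK LD1_c18 LD2_c45 LD3_c57) (LK LD1_c10 LD2_c20 LD3_c19) Lrfl Lrfl
theorem f215333 : Led Lsl_ct (LP (LK LD1_c28 LD2_c15 LD3_c37)) = (LP (LK LD1_c18 LD2_c45 LD3_c57)) :=
  Lre_c IH (LK LD1_c28 LD2_c15 LD3_c37) (LK LD1_c18 LD2_c45 LD3_c57) Lrfl Lrfl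
theorem f215334 : Led Lsl_bt (LP (LK LD1_c19 LD2_c10 LD3_c7)) = (LP (LK LD1_c28 LD2_c15 LD3_c37)) :=
  Lgr Lrot128 (Lpe (f215331 IH) (Lpe (K72.f215330 IH) (Lpr_cf (K14.f215262 IH) (Lpe (f215332 IH) (Lpe (f215333 IH) (Lpn (LP (LK LD1_c28 LD2_c15 LD3_c37))))))))
theorem f939809 : Led Lsl_gt (LP (LK LD1_c28 LD2_c15 LD3_c37)) = (LP (LK LD1_c31 LD2_c53 LD3_c40)) :=
  Lgr Lrot82 (Lpe (f215334 IH) (Lpr_ct (f194951 IH) (Lpe (K72.f929306 IH) (Lpe (f554702 IH) (Lpr_bt (K25.f188504 IH) (Lpr_gf (K17.f285429 IH) (Lpe (K73.f283001 IH) (Lpr_ct (K73.f283002 IH) (Lpr_gf (f939803 IH) (Lpr_cf (K73.f585772 IH) (Lpn (LP (LK LD1_c31 LD2_c53 LD3_c40)))))))))))))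
theorem f215351 : Led Lsl_ct (LP (LK LD1_c18 LD2_c45 LD3_c57)) = (LP (LK LD1_c28 LD2_c15 LD3_c37)) :=
  Lre_c IH (LK LD1_c18 LD2_c45 LD3_c57) (LK LD1_c28 LD2_c15 LD3_c37) Lrfl Lrfl
theorem f215346 : Led Lsl_gt (LP (LK LD1_c28 LD2_c15 LD3_c36)) = (LP (LK LD1_c18 LD2_c45 LD3_c57)) :=
  Lre_g IH (LK LD1_c28 LD2_c15 LD3_c36) (LK LD1_c18 LD2_c45 LD3_c57) Lrfl Lrfl
theorem f939813 : Led Lsl_df (LP (LK LD1_c28 LD2_c15 LD3_c36)) = (LP (LK LD1_c18 LD2_c47 LD3_c6)) :=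
  Lgr Lrot155 (Lpr_gt (f215346 IH) (Lpr_ct (f215351 IH) (Lpr_gt (f939809 IH) (Lpe (K73.f585772 IH) (Lpr_dt (K73.f584397 IH) (Lpe (K69.f294774 IH) (Lpe (K44.f47576 IH) (Lpe (K53.f49857 IH) (Lpe (K73.f49861 IH) (Lpn (LP (LK LD1_c18 LD2_c47 LD3_c6))))))))))))
theorem f259464 : Led Lsl_dt (LP (LK LD1_c18 LD2_c45 LD3_c57)) = (LP (LK LD1_c10 LD2_c20 LD3_c18)) :=
  Lre_d IH (LK LD1_c18 LD2_c45 LD3_c57) (LK LD1_c10 LD2_c20 LD3_c18) Lrfl Lrfl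
theorem f259480 : Led Lsl_dt (LP (LK LD1_c10 LD2_c20 LD3_c33)) = (LP (LK LD1_c5 LD2_c15 LD3_c37)) :=
  Lre_d IH (LK LD1_c10 LD2_c20 LD3_c33) (LK LD1_c5 LD2_c15 LD3_c37) Lrfl Lrfl
theorem f259419 : Led Lsl_gt (LP (LK LD1_c18 LD2_c46 LD3_c16)) = (LP (LK LD1_c10 LD2_c20 LD3_c33)) :=
  Lre_g IH (LK LD1_c18 LD2_c46 LD3_c16) (LK LD1_c10 LD2_c20 LD3_c33) Lrfl Lrfl
def v43021 : LQ := Led Lsl_dt (LP (LK LD1_c10 LD2_c21 LD3_c10))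
theorem f937447 : Led Lsl_dt (LP (LK LD1_c10 LD2_c21 LD3_c10)) = v43021 :=
  Lrfl
theorem f939820 : (LP (LK LD1_c18 LD2_c46 LD3_c16)) = v43021 :=
  (Llr Lrot143 (Lpr_gt (f259419 IH) (Lpr_dt (f259480 IH) (Lpe (K53.f259463 IH) (Lpe (f259464 IH) (Lpe (f215346 IH) (Lpr_df (f939813 IH) (Lpe (K73.f343291 IH) (Lpe (K44.f214843 IH) (Lpr_gt (K53.f343238 IH) (Lpr_dt (f937447 IH) (Lpn v43021)))))))))))).symm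
theorem f939771 : Led Lsl_af (LP (LK LD1_c28 LD2_c14 LD3_c37)) = v43021 :=
  Lgr Lrot117 (Lpr_dt (f939769 IH) (Lpr_at (K69.f723527 IH) (Lpr_dt (f937447 IH) (Lpn v43021))))
theorem f232055 : Led Lsl_gt (LP (LK LD1_c28 LD2_c14 LD3_c38)) = (LP (LK LD1_c18 LD2_c44 LD3_c42)) :=
  Lre_g IH (LK LD1_c28 LD2_c14 LD3_c38) (LK LD1_c18 LD2_c44 LD3_c42) Lrfl Lrfl
theorem f939826 : Led Lsl_ft (LP (LK LD1_c28 LD2_c14 LD3_c38)) = (LP (LK LD1_c18 LD2_c46 LD3_c16)) :=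
  Lgr Lrot2 (Lpr_gt (f232055 IH) (Lpr_gt (f232054 IH) (Lpr_af (f939771 IH) (Lpq (f939820 IH) (Lpn (LP (LK LD1_c18 LD2_c46 LD3_c16)))))))
theorem f937448 : Led Lsl_df (LP (LK LD1_c10 LD2_c21 LD3_c10)) = v43021 :=
  Lgr Lrot38 (Lpr_dt (f937447 IH) (Lpn v43021))
theorem f723329 : Led Lsl_ft (LP (LK LD1_c10 LD2_c21 LD3_c10)) = (LP (LK LD1_c18 LD2_c44 LD3_c49)) :=
  Lgr Lrot75 (Lpe (K53.f215250 IH) (Lpr_ff (K53.f723327 IH) (Lpr_bf (K53.f214883 IH) (Lpn (LP (LK LD1_c18 LD2_c44 LD3_c49))))))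
theorem f939829 : Led Lsl_df (LP (LK LD1_c28 LD2_c14 LD3_c38)) = (LP (LK LD1_c18 LD2_c44 LD3_c49)) :=
  Lgr Lrot78 (Lpr_ft (f939826 IH) (Lpqs (f939820 IH) (Lpe (f937448 IH) (Lpr_ft (f723329 IH) (Lpn (LP (LK LD1_c18 LD2_c44 LD3_c49)))))))
theorem f723623 : Led Lsl_ft (LP (LK LD1_c28 LD2_c5 LD3_c41)) = (LP (LK LD1_c27 LD2_c52 LD3_c53)) :=
  Lgr Lrot48 (Lpr_ff (f723621 IH) (Lpn (LP (LK LD1_c27 LD2_c52 LD3_c53))))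
theorem f723619 : Led Lsl_af (LP (LK LD1_c28 LD2_c16 LD3_c58)) = (LP (LK LD1_c27 LD2_c52 LD3_c53)) :=
  Lgr Lrot0 (Lpr_at (f723617 IH) (Lpn (LP (LK LD1_c27 LD2_c52 LD3_c53))))
theorem f723625 : Led Lsl_gt (LP (LK LD1_c28 LD2_c5 LD3_c41)) = (LP (LK LD1_c31 LD2_c53 LD3_c47)) :=
  Lgr Lrot5 (Lpr_ft (f723623 IH) (Lpe (f723619 IH) (Lpr_gf (K73.f585767 IH) (Lpn (LP (LK LD1_c31 LD2_c53 LD3_c47))))))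
theorem f50683 : Led Lsl_ct (LP (LK LD1_c15 LD2_c32 LD3_c60)) = (LP (LK LD1_c25 LD2_c26 LD3_c22)) :=
  Lre_c IH (LK LD1_c15 LD2_c32 LD3_c60) (LK LD1_c25 LD2_c26 LD3_c22) Lrfl Lrfl
theorem f723627 : Led Lsl_dt (LP (LK LD1_c24 LD2_c47 LD3_c57)) = (LP (LK LD1_c25 LD2_c26 LD3_c22)) :=
  Lgr Lrot27 (Lpr_cf (K37.f252522 IH) (Lpe (K53.f604136 IH) (Lpe (K53.f585685 IH) (Lpe (K53.f604138 IH) (Lpr_df (K73.f721305 IH) (Lpr_gt (f723625 IH) (Lpr_ct (K73.f585766 IH) (Lpr_gt (K73.f585765 IH) (Lpr_ct (f50683 IH) (Lpn (LP (LK LD1_c25 LD2_c26 LD3_c22))))))))))))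
theorem f939851 : Led Lsl_gf (LP (LK LD1_c24 LD2_c48 LD3_c16)) = (LP (LK LD1_c25 LD2_c26 LD3_c22)) :=
  Lgr Lrot143 (Lpe (f191799 IH) (Lpr_cf (K14.f212235 IH) (Lpe (K53.f232052 IH) (Lpe (f232055 IH) (Lpr_df (f939829 IH) (Lpr_gf (K37.f343294 IH) (Lpe (K37.f342950 IH) (Lpe (K37.f343287 IH) (Lpr_dt (f723627 IH) (Lpn (LP (LK LD1_c25 LD2_c26 LD3_c22))))))))))))
theorem f249538 : Led Lsl_bt (LP (LK LD1_c18 LD2_c47 LD3_c5)) = (LP (LK LD1_c27 LD2_c32 LD3_c21)) :=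
  Lgr Lrot127 (Lpr_bf (K44.f249096 IH) (Lpn (LP (LK LD1_c27 LD2_c32 LD3_c21))))
theorem f927573 : Led Lsl_at (LP (LK LD1_c24 LD2_c47 LD3_c57)) = (LP (LK LD1_c18 LD2_c47 LD3_c5)) :=
  Lgr Lrot67 (Lpe (K73.f603698 IH) (Lpr_af (K73.f927569 IH) (Lpe (K44.f260051 IH) (Lpr_af (K73.f927486 IH) (Lpe (f249538 IH) (Lpn (LP (LK LD1_c18 LD2_c47 LD3_c5))))))))
theorem f927589 : Led Lsl_ff (LP (LK LD1_c24 LD2_c47 LD3_c57)) = (LP (LK LD1_c18 LD2_c47 LD3_c6)) :=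
  Lgr Lrot52 (Lpr_at (f927573 IH) (Lpe (K44.f47658 IH) (Lpe (K73.f49861 IH) (Lpn (LP (LK LD1_c18 LD2_c47 LD3_c6))))))
theorem f927591 : Led Lsl_ft (LP (LK LD1_c24 LD2_c47 LD3_c57)) = (LP (LK LD1_c18 LD2_c47 LD3_c6)) :=
  Lgr Lrot48 (Lpr_ff (f927589 IH) (Lpn (LP (LK LD1_c18 LD2_c47 LD3_c6))))
theorem f927593 : Led Lsl_af (LP (LK LD1_c24 LD2_c47 LD3_c56)) = (LP (LK LD1_c18 LD2_c47 LD3_c6)) :=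
  Lgr Lrot31 (Lpe (f214855 IH) (Lpe (K37.f214857 IH) (Lpr_ft (f927591 IH) (Lpn (LP (LK LD1_c18 LD2_c47 LD3_c6))))))
theorem f927595 : Led Lsl_at (LP (LK LD1_c24 LD2_c47 LD3_c56)) = (LP (LK LD1_c18 LD2_c47 LD3_c6)) :=
  Lgr Lrot100 (Lpr_af (f927593 IH) (Lpn (LP (LK LD1_c18 LD2_c47 LD3_c6))))
theorem f585734 : Led Lsl_df (LP (LK LD1_c24 LD2_c47 LD3_c56)) = (LP (LK LD1_c25 LD2_c26 LD3_c18)) :=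
  Lgr Lrot38 (Lpr_dt (f585730 IH) (Lpn (LP (LK LD1_c25 LD2_c26 LD3_c18))))
theorem f939815 : Led Lsl_at (LP (LK LD1_c28 LD2_c15 LD3_c36)) = (LP (LK LD1_c25 LD2_c26 LD3_c18)) :=
  Lgr Lrot51 (Lpr_df (f939813 IH) (Lpe (f927595 IH) (Lpr_df (f585734 IH) (Lpn (LP (LK LD1_c25 LD2_c26 LD3_c18))))))
theorem f939855 : Led Lsl_ff (LP (LK LD1_c28 LD2_c15 LD3_c36)) = (LP (LK LD1_c25 LD2_c26 LD3_c22)) :=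
  Lgr Lrot52 (Lpr_at (f939815 IH) (Lpe (f939783 IH) (Lpr_gf (f939851 IH) (Lpn (LP (LK LD1_c25 LD2_c26 LD3_c22))))))
theorem f939859 : Led Lsl_ft (LP (LK LD1_c25 LD2_c26 LD3_c11)) = (LP (LK LD1_c15 LD2_c32 LD3_c60)) :=
  Lre_f IH (LK LD1_c25 LD2_c26 LD3_c11) (LK LD1_c15 LD2_c32 LD3_c60) Lrfl Lrfl
theorem f939860 : Led Lsl_ct (LP (LK LD1_c28 LD2_c15 LD3_c36)) = (LP (LK LD1_c25 LD2_c26 LD3_c11)) :=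
  Lgr Lrot40 (Lpr_ff (f939855 IH) (Lpe (f50683 IH) (Lpe (f939859 IH) (Lpn (LP (LK LD1_c25 LD2_c26 LD3_c11))))))
theorem f585736 : Led Lsl_at (LP (LK LD1_c25 LD2_c26 LD3_c11)) = (LP (LK LD1_c15 LD2_c32 LD3_c57)) :=
  Lre_a IH (LK LD1_c25 LD2_c26 LD3_c11) (LK LD1_c15 LD2_c32 LD3_c57) Lrfl Lrfl
theorem f264942 : Led Lsl_ct (LP (LK LD1_c15 LD2_c32 LD3_c57)) = (LP (LK LD1_c25 LD2_c26 LD3_c18)) :=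
  Lre_c IH (LK LD1_c15 LD2_c32 LD3_c57) (LK LD1_c25 LD2_c26 LD3_c18) Lrfl Lrfl
theorem f939862 : Led Lsl_af (LP (LK LD1_c28 LD2_c15 LD3_c36)) = (LP (LK LD1_c25 LD2_c26 LD3_c18)) :=
  Lgr Lrot68 (Lpr_ct (f939860 IH) (Lpr_at (f585736 IH) (Lpr_ct (f264942 IH) (Lpn (LP (LK LD1_c25 LD2_c26 LD3_c18))))))
theorem f376442 : Led Lsl_at (LP (LK LD1_c28 LD2_c15 LD3_c33)) = (LP (LK LD1_c18 LD2_c45 LD3_c57)) :=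
  Lre_a IH (LK LD1_c28 LD2_c15 LD3_c33) (LK LD1_c18 LD2_c45 LD3_c57) Lrfl Lrfl
theorem f376445 : Led Lsl_gt (LP (LK LD1_c31 LD2_c39 LD3_c25)) = (LP (LK LD1_c28 LD2_c15 LD3_c36)) :=
  Lgr Lrot5 (Lpr_ft (f376437 IH) (Lpr_at (f376442 IH) (Lpe (f215346 IH) (Lpn (LP (LK LD1_c28 LD2_c15 LD3_c36))))))
theorem f191790 : Led Lsl_bt (LP (LK LD1_c24 LD2_c48 LD3_c16)) = (LP (LK LD1_c15 LD2_c0 LD3_c45)) :=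
  Lre_b IH (LK LD1_c24 LD2_c48 LD3_c16) (LK LD1_c15 LD2_c0 LD3_c45) Lrfl Lrfl
theorem f215345 : Led Lsl_bt (LP (LK LD1_c10 LD2_c20 LD3_c19)) = (LP (LK LD1_c18 LD2_c45 LD3_c57)) :=
  Lre_b IH (LK LD1_c10 LD2_c20 LD3_c19) (LK LD1_c18 LD2_c45 LD3_c57) Lrfl Lrfl
theorem f364110 : Led Lsl_ff (LP (LK LD1_c24 LD2_c48 LD3_c16)) = (LP (LK LD1_c18 LD2_c45 LD3_c57)) :=
  Lgr Lrot25 (Lpr_bt (f191790 IH) (Lpr_ft (K26.f364106 IH) (Lpr_bt (f215345 IH) (Lpn (LP (LK LD1_c18 LD2_c45 LD3_c57))))))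
theorem f191809 : Led Lsl_at (LP (LK LD1_c24 LD2_c48 LD3_c16)) = (LP (LK LD1_c31 LD2_c39 LD3_c25)) :=
  Lre_a IH (LK LD1_c24 LD2_c48 LD3_c16) (LK LD1_c31 LD2_c39 LD3_c25) Lrfl Lrfl
theorem f215347 : Led Lsl_gt (LP (LK LD1_c18 LD2_c45 LD3_c57)) = (LP (LK LD1_c28 LD2_c15 LD3_c35)) :=
  Lre_g IH (LK LD1_c18 LD2_c45 LD3_c57) (LK LD1_c28 LD2_c15 LD3_c35) Lrfl Lrfl
theorem f378043 : Led Lsl_gf (LP (LK LD1_c31 LD2_c39 LD3_c25)) = (LP (LK LD1_c28 LD2_c15 LD3_c35)) :=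
  Lgr Lrot76 (Lpe (f191809 IH) (Lpr_ff (f364110 IH) (Lpr_gt (f215347 IH) (Lpn (LP (LK LD1_c28 LD2_c15 LD3_c35))))))
theorem f939871 : Led Lsl_ft (LP (LK LD1_c28 LD2_c15 LD3_c35)) = (LP (LK LD1_c25 LD2_c26 LD3_c18)) :=
  Lgr Lrot2 (Lpe (f378043 IH) (Lpr_gt (f376445 IH) (Lpr_af (f939862 IH) (Lpn (LP (LK LD1_c25 LD2_c26 LD3_c18))))))
theorem f939881 : Led Lsl_ff (LP (LK LD1_c28 LD2_c15 LD3_c35)) = (LP (LK LD1_c25 LD2_c26 LD3_c18)) :=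
  Lgr Lrot3 (Lpr_ft (f939871 IH) (Lpn (LP (LK LD1_c25 LD2_c26 LD3_c18))))
theorem f939868 : Led Lsl_ft (LP (LK LD1_c25 LD2_c26 LD3_c19)) = (LP (LK LD1_c15 LD2_c32 LD3_c57)) :=
  Lre_f IH (LK LD1_c25 LD2_c26 LD3_c19) (LK LD1_c15 LD2_c32 LD3_c57) Lrfl Lrfl
theorem f939887 : Led Lsl_ct (LP (LK LD1_c28 LD2_c15 LD3_c35)) = (LP (LK LD1_c25 LD2_c26 LD3_c19)) :=
  Lgr Lrot40 (Lpr_ff (f939881 IH) (Lpe (f264942 IH) (Lpe (f939868 IH) (Lpn (LP (LK LD1_c25 LD2_c26 LD3_c19))))))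
theorem f373450 : Led Lsl_at (LP (LK LD1_c28 LD2_c16 LD3_c5)) = (LP (LK LD1_c18 LD2_c46 LD3_c35)) :=
  Lre_a IH (LK LD1_c28 LD2_c16 LD3_c5) (LK LD1_c18 LD2_c46 LD3_c35) Lrfl Lrfl
theorem f939763 : Led Lsl_ct (LP (LK LD1_c28 LD2_c32 LD3_c12)) = (LP (LK LD1_c28 LD2_c16 LD3_c5)) :=
  Lgr Lrot111 (Lpr_af (K73.f939759 IH) (Lpe (K73.f283002 IH) (Lpe (f373450 IH) (Lpn (LP (LK LD1_c28 LD2_c16 LD3_c5))))))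
theorem f939895 : Led Lsl_gf (LP (LK LD1_c28 LD2_c16 LD3_c5)) = (LP (LK LD1_c25 LD2_c26 LD3_c19)) :=
  Lgr Lrot129 (Lpe (f939763 IH) (Lpr_bt (f583267 IH) (Lpe (K73.f583265 IH) (Lpe (K14.f46492 IH) (Lpr_ct (K14.f46422 IH) (Lpr_gt (K14.f194900 IH) (Lpr_cf (K14.f215262 IH) (Lpr_bt (f215345 IH) (Lpr_gt (f215347 IH) (Lpr_ct (f939887 IH) (Lpn (LP (LK LD1_c25 LD2_c26 LD3_c19)))))))))))))
theorem f939867 : Led Lsl_at (LP (LK LD1_c15 LD2_c32 LD3_c57)) = (LP (LK LD1_c25 LD2_c26 LD3_c11)) :=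
  Lre_a IH (LK LD1_c15 LD2_c32 LD3_c57) (LK LD1_c25 LD2_c26 LD3_c11) Lrfl Lrfl
theorem f939899 : Led Lsl_gt (LP (LK LD1_c28 LD2_c16 LD3_c5)) = (LP (LK LD1_c25 LD2_c26 LD3_c11)) :=
  Lgr Lrot46 (Lpr_gf (f939895 IH) (Lpr_ft (f939868 IH) (Lpr_at (f939867 IH) (Lpn (LP (LK LD1_c25 LD2_c26 LD3_c11))))))
def v36026 : LQ := Led Lsl_gt (LP (LK LD1_c8 LD2_c16 LD3_c13))
theorem f881797 : Led Lsl_gt (LP (LK LD1_c8 LD2_c16 LD3_c13)) = v36026 :=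
  Lrfl
theorem f881798 : Led Lsl_gf (LP (LK LD1_c8 LD2_c16 LD3_c15)) = v36026 :=
  Lgr Lrot76 (Lpe (K72.f50676 IH) (Lpe (K27.f49394 IH) (Lpr_gt (f881797 IH) (Lpn v36026))))
theorem f939866 : Led Lsl_dt (LP (LK LD1_c25 LD2_c26 LD3_c11)) = (LP (LK LD1_c15 LD2_c32 LD3_c54)) :=
  Lre_d IH (LK LD1_c25 LD2_c26 LD3_c11) (LK LD1_c15 LD2_c32 LD3_c54) Lrfl Lrfl
theorem f939902 : v36026 = (LP (LK LD1_c15 LD2_c32 LD3_c54)) :=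
  (Llr Lrot154 (Lpe (f881798 IH) (Lpr_dt (K44.f53574 IH) (Lpr_ct (K44.f49641 IH) (Lpe (K69.f583700 IH) (Lpr_gf (K69.f723545 IH) (Lpr_df (f721313 IH) (Lpe (f939767 IH) (Lpr_ct (f939763 IH) (Lpr_gt (f939899 IH) (Lpr_dt (f939866 IH) (Lpn (LP (LK LD1_c15 LD2_c32 LD3_c54)))))))))))))).symm
def v36027 : LQ := Led Lsl_gf (LP (LK LD1_c8 LD2_c16 LD3_c13))
theorem f881800 : Led Lsl_gf (LP (LK LD1_c8 LD2_c16 LD3_c13)) = v36027 :=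
  Lrfl
theorem f49397 : Led Lsl_at (LP (LK LD1_c4 LD2_c8 LD3_c4)) = (LP (LK LD1_c8 LD2_c16 LD3_c13)) :=
  Lre_a IH (LK LD1_c4 LD2_c8 LD3_c4) (LK LD1_c8 LD2_c16 LD3_c13) Lrfl Lrfl
theorem f49302 : Led Lsl_ft (LP (LK LD1_c8 LD2_c16 LD3_c15)) = (LP (LK LD1_c4 LD2_c8 LD3_c4)) :=
  Lre_f IH (LK LD1_c8 LD2_c16 LD3_c15) (LK LD1_c4 LD2_c8 LD3_c4) Lrfl Lrfl
theorem f881801 : Led Lsl_gt (LP (LK LD1_c8 LD2_c16 LD3_c15)) = v36027 :=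
  Lgr Lrot5 (Lpr_ft (f49302 IH) (Lpr_at (f49397 IH) (Lpr_gf (f881800 IH) (Lpn v36027))))
theorem f939905 : (LP (LK LD1_c15 LD2_c32 LD3_c59)) = v36027 :=
  (Llr Lrot26 (Lpe (K73.f881783 IH) (Lpe (K73.f881787 IH) (Lpq (f939902 IH) (Lpe (f881798 IH) (Lpr_gt (f881801 IH) (Lpn v36027))))))).symm
theorem f49663 : Led Lsl_ct (LP (LK LD1_c4 LD2_c7 LD3_c39)) = (LP (LK LD1_c2 LD2_c1 LD3_c12)) :=
  Lre_c IH (LK LD1_c4 LD2_c7 LD3_c39) (LK LD1_c2 LD2_c1 LD3_c12) Lrfl Lrfl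
theorem f281689 : Led Lsl_bt (LP (LK LD1_c8 LD2_c59 LD3_c10)) = (LP (LK LD1_c16 LD2_c48 LD3_c21)) :=
  Lre_b IH (LK LD1_c8 LD2_c59 LD3_c10) (LK LD1_c16 LD2_c48 LD3_c21) Lrfl Lrfl
theorem f375191 : Led Lsl_bt (LP (LK LD1_c16 LD2_c40 LD3_c33)) = (LP (LK LD1_c8 LD2_c54 LD3_c50)) :=
  Lre_b IH (LK LD1_c16 LD2_c40 LD3_c33) (LK LD1_c8 LD2_c54 LD3_c50) Lrfl Lrfl
theorem f375192 : Led Lsl_ct (LP (LK LD1_c26 LD2_c39 LD3_c18)) = (LP (LK LD1_c16 LD2_c40 LD3_c33)) :=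
  Lre_c IH (LK LD1_c26 LD2_c39 LD3_c18) (LK LD1_c16 LD2_c40 LD3_c33) Lrfl Lrfl
theorem f388669 : Led Lsl_bf (LP (LK LD1_c26 LD2_c39 LD3_c18)) = (LP (LK LD1_c25 LD2_c5 LD3_c16)) :=
  Lgr Lrot90 (Lpr_ct (f375192 IH) (Lpr_bt (f375191 IH) (Lpr_ct (K73.f375190 IH) (Lpr_bt (K73.f375186 IH) (Lpr_ct (K31.f388665 IH) (Lpn (LP (LK LD1_c25 LD2_c5 LD3_c16))))))))
theorem f391386 : Led Lsl_gt (LP (LK LD1_c16 LD2_c48 LD3_c21)) = (LP (LK LD1_c26 LD2_c39 LD3_c18)) :=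
  Lgr Lrot164 (Lpe (f281689 IH) (Lpr_ct (K69.f281637 IH) (Lpr_gf (K50.f391379 IH) (Lpr_cf (K41.f168125 IH) (Lpr_gf (K24.f281469 IH) (Lpr_bf (K31.f261935 IH) (Lpr_ct (K31.f261656 IH) (Lpe (K31.f221394 IH) (Lpr_cf (K31.f388660 IH) (Lpe (f388669 IH) (Lpn (LP (LK LD1_c26 LD2_c39 LD3_c18)))))))))))))
theorem f391392 : Led Lsl_ct (LP (LK LD1_c8 LD2_c59 LD3_c13)) = (LP (LK LD1_c16 LD2_c48 LD3_c21)) :=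
  Lre_c IH (LK LD1_c8 LD2_c59 LD3_c13) (LK LD1_c16 LD2_c48 LD3_c21) Lrfl Lrfl
theorem f375197 : Led Lsl_ct (LP (LK LD1_c16 LD2_c40 LD3_c33)) = (LP (LK LD1_c26 LD2_c39 LD3_c18)) :=
  Lre_c IH (LK LD1_c16 LD2_c40 LD3_c33) (LK LD1_c26 LD2_c39 LD3_c18) Lrfl Lrfl
theorem f265392 : Led Lsl_ct (LP (LK LD1_c2 LD2_c7 LD3_c24)) = (LP (LK LD1_c1 LD2_c15 LD3_c43)) :=
  Lgr Lrot111 (Lpe (K16.f265391 IH) (Lpr_cf (K14.f253254 IH) (Lpr_af (K15.f265387 IH) (Lpn (LP (LK LD1_c1 LD2_c15 LD3_c43))))))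
theorem f284805 : Led Lsl_gf (LP (LK LD1_c4 LD2_c12 LD3_c11)) = (LP (LK LD1_c4 LD2_c28 LD3_c23)) :=
  Lgr Lrot147 (Lpe (K15.f220808 IH) (Lpe (K15.f267328 IH) (Lpr_ct (K15.f44645 IH) (Lpe (K11.f44594 IH) (Lpe (f265392 IH) (Lpe (K16.f276668 IH) (Lpe (K14.f200356 IH) (Lpr_gf (K17.f284799 IH) (Lpe (K17.f284803 IH) (Lpn (LP (LK LD1_c4 LD2_c28 LD3_c23))))))))))))
theorem f391394 : Led Lsl_gf (LP (LK LD1_c8 LD2_c59 LD3_c13)) = (LP (LK LD1_c15 LD2_c19 LD3_c7)) :=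
  Lgr Lrot181 (Lpr_ct (f391392 IH) (Lpr_gt (f391386 IH) (Lpe (f375197 IH) (Lpr_bt (f375191 IH) (Lpr_gt (K73.f375184 IH) (Lpe (K31.f213019 IH) (Lpr_ct (K50.f213018 IH) (Lpe (f284805 IH) (Lpe (K15.f220798 IH) (Lpr_bt (K31.f220813 IH) (Lpn (LP (LK LD1_c15 LD2_c19 LD3_c7)))))))))))))
theorem f399013 : Led Lsl_ff (LP (LK LD1_c8 LD2_c54 LD3_c16)) = (LP (LK LD1_c15 LD2_c19 LD3_c7)) :=
  Lgr Lrot52 (Lpr_at (K69.f292617 IH) (Lpr_gf (K69.f399011 IH) (Lpr_gf (f391394 IH) (Lpn (LP (LK LD1_c15 LD2_c19 LD3_c7))))))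
theorem f220856 : Led Lsl_et (LP (LK LD1_c25 LD2_c10 LD3_c6)) = (LP (LK LD1_c15 LD2_c19 LD3_c7)) :=
  Lre_e IH (LK LD1_c25 LD2_c10 LD3_c6) (LK LD1_c15 LD2_c19 LD3_c7) Lrfl Lrfl
theorem f220841 : Led Lsl_bt (LP (LK LD1_c25 LD2_c10 LD3_c6)) = (LP (LK LD1_c15 LD2_c19 LD3_c8)) :=
  Lre_b IH (LK LD1_c25 LD2_c10 LD3_c6) (LK LD1_c15 LD2_c19 LD3_c8) Lrfl Lrfl
theorem f190139 : Led Lsl_bt (LP (LK LD1_c10 LD2_c37 LD3_c12)) = (LP (LK LD1_c19 LD2_c14 LD3_c15)) :=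
  Lre_b IH (LK LD1_c10 LD2_c37 LD3_c12) (LK LD1_c19 LD2_c14 LD3_c15) Lrfl Lrfl
theorem f220842 : Led Lsl_ff (LP (LK LD1_c25 LD2_c10 LD3_c6)) = (LP (LK LD1_c19 LD2_c14 LD3_c15)) :=
  Lgr Lrot25 (Lpr_bt (f220841 IH) (Lpr_ft (K17.f220838 IH) (Lpr_bt (f190139 IH) (Lpn (LP (LK LD1_c19 LD2_c14 LD3_c15))))))
theorem f190159 : Led Lsl_et (LP (LK LD1_c10 LD2_c37 LD3_c10)) = (LP (LK LD1_c19 LD2_c14 LD3_c15)) :=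
  Lre_e IH (LK LD1_c10 LD2_c37 LD3_c10) (LK LD1_c19 LD2_c14 LD3_c15) Lrfl Lrfl
theorem f42512 : Led Lsl_bt (LP (LK LD1_c10 LD2_c37 LD3_c10)) = (LP (LK LD1_c5 LD2_c23 LD3_c20)) :=
  Lre_b IH (LK LD1_c10 LD2_c37 LD3_c10) (LK LD1_c5 LD2_c23 LD3_c20) Lrfl Lrfl
theorem f190203 : Led Lsl_bt (LP (LK LD1_c6 LD2_c4 LD3_c59)) = (LP (LK LD1_c11 LD2_c53 LD3_c17)) :=
  Lre_b IH (LK LD1_c6 LD2_c4 LD3_c59) (LK LD1_c11 LD2_c53 LD3_c17) Lrfl Lrfl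
theorem f190204 : Led Lsl_ff (LP (LK LD1_c10 LD2_c37 LD3_c10)) = (LP (LK LD1_c11 LD2_c53 LD3_c17)) :=
  Lgr Lrot25 (Lpr_bt (f42512 IH) (Lpr_ft (K10.f190199 IH) (Lpr_bt (f190203 IH) (Lpn (LP (LK LD1_c11 LD2_c53 LD3_c17))))))
theorem f399031 : Led Lsl_et (LP (LK LD1_c8 LD2_c54 LD3_c16)) = (LP (LK LD1_c11 LD2_c53 LD3_c17)) :=
  Lgr Lrot69 (Lpr_ff (f399013 IH) (Lpe (f220856 IH) (Lpr_ff (f220842 IH) (Lpe (f190159 IH) (Lpr_ff (f190204 IH) (Lpn (LP (LK LD1_c11 LD2_c53 LD3_c17))))))))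
theorem f399039 : Led Lsl_ef (LP (LK LD1_c8 LD2_c54 LD3_c16)) = (LP (LK LD1_c11 LD2_c53 LD3_c17)) :=
  Lgr Lrot88 (Lpr_et (f399031 IH) (Lpn (LP (LK LD1_c11 LD2_c53 LD3_c17))))
theorem f235048 : Led Lsl_ef (LP (LK LD1_c10 LD2_c56 LD3_c7)) = (LP (LK LD1_c18 LD2_c51 LD3_c29)) :=
  Lgr Lrot88 (Lpr_et (K16.f235027 IH) (Lpn (LP (LK LD1_c18 LD2_c51 LD3_c29))))
theorem f235050 : Led Lsl_et (LP (LK LD1_c5 LD2_c32 LD3_c14)) = (LP (LK LD1_c10 LD2_c23 LD3_c37)) :=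
  Lgr Lrot123 (Lpe (K69.f235024 IH) (Lpr_ef (f235048 IH) (Lpe (K72.f187743 IH) (Lpn (LP (LK LD1_c10 LD2_c23 LD3_c37))))))
theorem f399044 : Led Lsl_ct (LP (LK LD1_c10 LD2_c23 LD3_c37)) = (LP (LK LD1_c11 LD2_c53 LD3_c17)) :=
  Lgr Lrot15 (Lpe (f235050 IH) (Lpe (K31.f223368 IH) (Lpr_ef (f399039 IH) (Lpn (LP (LK LD1_c11 LD2_c53 LD3_c17))))))
theorem f191179 : Led Lsl_gt (LP (LK LD1_c20 LD2_c56 LD3_c50)) = (LP (LK LD1_c11 LD2_c53 LD3_c17)) :=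
  Lre_g IH (LK LD1_c20 LD2_c56 LD3_c50) (LK LD1_c11 LD2_c53 LD3_c17) Lrfl Lrfl
theorem f939933 : Led Lsl_ct (LP (LK LD1_c25 LD2_c26 LD3_c15)) = (LP (LK LD1_c20 LD2_c56 LD3_c50)) :=
  Lgr Lrot64 (Lpr_bt (K73.f881785 IH) (Lpqs (f939905 IH) (Lpe (f881801 IH) (Lpe (K72.f49779 IH) (Lpr_ct (K9.f49634 IH) (Lpe (K13.f49631 IH) (Lpe (f49663 IH) (Lpe (K16.f231578 IH) (Lpe (K72.f54509 IH) (Lpr_ct (f399044 IH) (Lpe (f191179 IH) (Lpn (LP (LK LD1_c20 LD2_c56 LD3_c50))))))))))))))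
theorem f190173 : Led Lsl_ft (LP (LK LD1_c15 LD2_c32 LD3_c55)) = (LP (LK LD1_c25 LD2_c26 LD3_c15)) :=
  Lre_f IH (LK LD1_c15 LD2_c32 LD3_c55) (LK LD1_c25 LD2_c26 LD3_c15) Lrfl Lrfl
theorem f190155 : Led Lsl_cf (LP (LK LD1_c10 LD2_c37 LD3_c10)) = (LP (LK LD1_c11 LD2_c55 LD3_c20)) :=
  Lgr Lrot97 (Lpr_bt (f42512 IH) (Lpr_ct (K10.f190104 IH) (Lpr_bt (K10.f183642 IH) (Lpe (K10.f187495 IH) (Lpr_bt (K72.f187633 IH) (Lpn (LP (LK LD1_c11 LD2_c55 LD3_c20))))))))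
theorem f190157 : Led Lsl_gt (LP (LK LD1_c19 LD2_c14 LD3_c12)) = (LP (LK LD1_c10 LD2_c37 LD3_c10)) :=
  Lre_g IH (LK LD1_c19 LD2_c14 LD3_c12) (LK LD1_c10 LD2_c37 LD3_c10) Lrfl Lrfl
theorem f187726 : Led Lsl_bt (LP (LK LD1_c11 LD2_c55 LD3_c20)) = (LP (LK LD1_c6 LD2_c5 LD3_c59)) :=
  Lre_b IH (LK LD1_c11 LD2_c55 LD3_c20) (LK LD1_c6 LD2_c5 LD3_c59) Lrfl Lrfl
theorem f50685 : Led Lsl_bt (LP (LK LD1_c15 LD2_c32 LD3_c55)) = (LP (LK LD1_c8 LD2_c16 LD3_c11)) :=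
  Lre_b IH (LK LD1_c15 LD2_c32 LD3_c55) (LK LD1_c8 LD2_c16 LD3_c11) Lrfl Lrfl
theorem f190162 : Led Lsl_cf (LP (LK LD1_c19 LD2_c14 LD3_c12)) = (LP (LK LD1_c15 LD2_c32 LD3_c55)) :=
  Lgr Lrot160 (Lpr_gt (f190157 IH) (Lpr_cf (f190155 IH) (Lpr_bt (f187726 IH) (Lpr_gt (K10.f187734 IH) (Lpr_ct (K10.f50781 IH) (Lpr_gt (K10.f1439 IH) (Lpe (K11.f49314 IH) (Lpr_bt (K9.f49295 IH) (Lpr_gt (f49410 IH) (Lpe (f50685 IH) (Lpn (LP (LK LD1_c15 LD2_c32 LD3_c55)))))))))))))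
theorem f190167 : Led Lsl_ct (LP (LK LD1_c19 LD2_c14 LD3_c12)) = (LP (LK LD1_c15 LD2_c32 LD3_c55)) :=
  Lgr Lrot59 (Lpr_cf (f190162 IH) (Lpn (LP (LK LD1_c15 LD2_c32 LD3_c55))))
theorem f939937 : Led Lsl_ff (LP (LK LD1_c19 LD2_c14 LD3_c12)) = (LP (LK LD1_c20 LD2_c56 LD3_c50)) :=
  Lgr Lrot23 (Lpr_ct (f190167 IH) (Lpr_ft (f190173 IH) (Lpr_ct (f939933 IH) (Lpn (LP (LK LD1_c20 LD2_c56 LD3_c50))))))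
theorem f216295 : Led Lsl_gt (LP (LK LD1_c11 LD2_c53 LD3_c17)) = (LP (LK LD1_c20 LD2_c56 LD3_c49)) :=
  Lre_g IH (LK LD1_c11 LD2_c53 LD3_c17) (LK LD1_c20 LD2_c56 LD3_c49) Lrfl Lrfl
theorem f939941 : Led Lsl_at (LP (LK LD1_c19 LD2_c14 LD3_c12)) = (LP (LK LD1_c20 LD2_c56 LD3_c49)) :=
  Lgr Lrot26 (Lpr_ff (f939937 IH) (Lpr_gt (f191179 IH) (Lpr_gt (f216295 IH) (Lpn (LP (LK LD1_c20 LD2_c56 LD3_c49))))))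
theorem f939943 : Led Lsl_af (LP (LK LD1_c19 LD2_c14 LD3_c12)) = (LP (LK LD1_c20 LD2_c56 LD3_c49)) :=
  Lgr Lrot0 (Lpr_at (f939941 IH) (Lpn (LP (LK LD1_c20 LD2_c56 LD3_c49))))
theorem f257335 : Led Lsl_at (LP (LK LD1_c11 LD2_c53 LD3_c17)) = (LP (LK LD1_c20 LD2_c56 LD3_c51)) :=
  Lre_a IH (LK LD1_c11 LD2_c53 LD3_c17) (LK LD1_c20 LD2_c56 LD3_c51) Lrfl Lrfl
theorem f399046 : Led Lsl_cf (LP (LK LD1_c18 LD2_c51 LD3_c29)) = (LP (LK LD1_c20 LD2_c56 LD3_c51)) :=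
  Lgr Lrot1 (Lpr_at (K16.f187760 IH) (Lpr_ct (f399044 IH) (Lpr_at (f257335 IH) (Lpn (LP (LK LD1_c20 LD2_c56 LD3_c51))))))
theorem f195254 : Led Lsl_gt (LP (LK LD1_c2 LD2_c59 LD3_c28)) = (LP (LK LD1_c1 LD2_c25 LD3_c25)) :=
  Lre_g IH (LK LD1_c2 LD2_c59 LD3_c28) (LK LD1_c1 LD2_c25 LD3_c25) Lrfl Lrfl
theorem f190186 : Led Lsl_ct (LP (LK LD1_c6 LD2_c6 LD3_c44)) = (LP (LK LD1_c2 LD2_c59 LD3_c28)) :=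
  Lre_c IH (LK LD1_c6 LD2_c6 LD3_c44) (LK LD1_c2 LD2_c59 LD3_c28) Lrfl Lrfl
theorem f190187 : Led Lsl_bt (LP (LK LD1_c6 LD2_c6 LD3_c44)) = (LP (LK LD1_c11 LD2_c56 LD3_c31)) :=
  Lre_b IH (LK LD1_c6 LD2_c6 LD3_c44) (LK LD1_c11 LD2_c56 LD3_c31) Lrfl Lrfl
theorem f190101 : Led Lsl_bt (LP (LK LD1_c5 LD2_c23 LD3_c20)) = (LP (LK LD1_c10 LD2_c37 LD3_c10)) :=
  Lre_b IH (LK LD1_c5 LD2_c23 LD3_c20) (LK LD1_c10 LD2_c37 LD3_c10) Lrfl Lrfl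
theorem f257333 : Led Lsl_gf (LP (LK LD1_c11 LD2_c56 LD3_c31)) = (LP (LK LD1_c10 LD2_c37 LD3_c10)) :=
  Lgr Lrot124 (Lpe (f190187 IH) (Lpr_ct (f190186 IH) (Lpr_gt (f195254 IH) (Lpe (K39.f177420 IH) (Lpr_bt (K65.f195211 IH) (Lpr_gt (K11.f42154 IH) (Lpr_ct (K17.f257319 IH) (Lpe (K17.f183660 IH) (Lpe (K10.f190104 IH) (Lpr_bt (f190101 IH) (Lpn (LP (LK LD1_c10 LD2_c37 LD3_c10)))))))))))))
theorem f190194 : Led Lsl_bt (LP (LK LD1_c11 LD2_c53 LD3_c17)) = (LP (LK LD1_c6 LD2_c4 LD3_c59)) :=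
  Lre_b IH (LK LD1_c11 LD2_c53 LD3_c17) (LK LD1_c6 LD2_c4 LD3_c59) Lrfl Lrfl
theorem f190195 : Led Lsl_ft (LP (LK LD1_c10 LD2_c37 LD3_c10)) = (LP (LK LD1_c11 LD2_c53 LD3_c17)) :=
  Lgr Lrot75 (Lpe (f190101 IH) (Lpr_ff (K10.f190190 IH) (Lpe (f190194 IH) (Lpn (LP (LK LD1_c11 LD2_c53 LD3_c17))))))
theorem f257336 : Led Lsl_gt (LP (LK LD1_c11 LD2_c56 LD3_c31)) = (LP (LK LD1_c20 LD2_c56 LD3_c51)) :=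
  Lgr Lrot46 (Lpr_gf (f257333 IH) (Lpr_ft (f190195 IH) (Lpr_at (f257335 IH) (Lpn (LP (LK LD1_c20 LD2_c56 LD3_c51))))))
theorem f190184 : Led Lsl_ct (LP (LK LD1_c11 LD2_c53 LD3_c59)) = (LP (LK LD1_c6 LD2_c6 LD3_c40)) :=
  Lre_c IH (LK LD1_c11 LD2_c53 LD3_c59) (LK LD1_c6 LD2_c6 LD3_c40) Lrfl Lrfl
theorem f190183 : Led Lsl_bt (LP (LK LD1_c11 LD2_c53 LD3_c59)) = (LP (LK LD1_c20 LD2_c55 LD3_c24)) :=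
  Lre_b IH (LK LD1_c11 LD2_c53 LD3_c59) (LK LD1_c20 LD2_c55 LD3_c24) Lrfl Lrfl
theorem f190182 : Led Lsl_gt (LP (LK LD1_c11 LD2_c52 LD3_c30)) = (LP (LK LD1_c20 LD2_c55 LD3_c24)) :=
  Lre_g IH (LK LD1_c11 LD2_c52 LD3_c30) (LK LD1_c20 LD2_c55 LD3_c24) Lrfl Lrfl
theorem f42515 : Led Lsl_bt (LP (LK LD1_c20 LD2_c55 LD3_c26)) = (LP (LK LD1_c11 LD2_c52 LD3_c30)) :=
  Lre_b IH (LK LD1_c20 LD2_c55 LD3_c26) (LK LD1_c11 LD2_c52 LD3_c30) Lrfl Lrfl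
theorem f190102 : Led Lsl_ct (LP (LK LD1_c10 LD2_c37 LD3_c10)) = (LP (LK LD1_c11 LD2_c55 LD3_c20)) :=
  Lgr Lrot83 (Lpe (f190101 IH) (Lpr_cf (K10.f190097 IH) (Lpr_bf (K10.f183647 IH) (Lpe (K15.f187634 IH) (Lpe (f187726 IH) (Lpn (LP (LK LD1_c11 LD2_c55 LD3_c20))))))))
theorem f42513 : Led Lsl_bt (LP (LK LD1_c2 LD2_c58 LD3_c26)) = (LP (LK LD1_c6 LD2_c4 LD3_c30)) :=
  Lre_b IH (LK LD1_c2 LD2_c58 LD3_c26) (LK LD1_c6 LD2_c4 LD3_c30) Lrfl Lrfl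
theorem f42514 : Led Lsl_gt (LP (LK LD1_c6 LD2_c4 LD3_c30)) = (LP (LK LD1_c11 LD2_c52 LD3_c30)) :=
  Lre_g IH (LK LD1_c6 LD2_c4 LD3_c30) (LK LD1_c11 LD2_c52 LD3_c30) Lrfl Lrfl
theorem f187758 : Led Lsl_gt (LP (LK LD1_c21 LD2_c0 LD3_c14)) = (LP (LK LD1_c11 LD2_c55 LD3_c20)) :=
  Lre_g IH (LK LD1_c21 LD2_c0 LD3_c14) (LK LD1_c11 LD2_c55 LD3_c20) Lrfl Lrfl
theorem f190175 : Led Lsl_ct (LP (LK LD1_c20 LD2_c55 LD3_c26)) = (LP (LK LD1_c21 LD2_c0 LD3_c14)) :=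
  Lgr Lrot64 (Lpr_bt (f42515 IH) (Lpe (f42514 IH) (Lpe (f42513 IH) (Lpr_ct (K12.f41740 IH) (Lpe (K1.f42491 IH) (Lpe (K15.f42502 IH) (Lpe (K10.f42506 IH) (Lpe (f42512 IH) (Lpr_ct (f190102 IH) (Lpe (f187758 IH) (Lpn (LP (LK LD1_c21 LD2_c0 LD3_c14)))))))))))))
theorem f399052 : Led Lsl_gt (LP (LK LD1_c18 LD2_c51 LD3_c29)) = (LP (LK LD1_c21 LD2_c0 LD3_c14)) :=
  Lgr Lrot149 (Lpr_cf (f399046 IH) (Lpe (f257336 IH) (Lpe (f190187 IH) (Lpr_ct (f190186 IH) (Lpe (K73.f190185 IH) (Lpe (f190184 IH) (Lpr_bt (f190183 IH) (Lpe (f190182 IH) (Lpe (f42515 IH) (Lpr_ct (f190175 IH) (Lpn (LP (LK LD1_c21 LD2_c0 LD3_c14)))))))))))))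
theorem f195034 : Led Lsl_at (LP (LK LD1_c8 LD2_c53 LD3_c9)) = (LP (LK LD1_c4 LD2_c27 LD3_c38)) :=
  Lre_a IH (LK LD1_c8 LD2_c53 LD3_c9) (LK LD1_c4 LD2_c27 LD3_c38) Lrfl Lrfl
theorem f195035 : Led Lsl_et (LP (LK LD1_c11 LD2_c52 LD3_c32)) = (LP (LK LD1_c8 LD2_c53 LD3_c9)) :=
  Lgr Lrot123 (Lpe (K10.f194971 IH) (Lpr_ef (K65.f195007 IH) (Lpe (f195034 IH) (Lpn (LP (LK LD1_c8 LD2_c53 LD3_c9))))))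
theorem f195331 : Led Lsl_ct (LP (LK LD1_c8 LD2_c53 LD3_c9)) = (LP (LK LD1_c5 LD2_c21 LD3_c2)) :=
  Lre_c IH (LK LD1_c8 LD2_c53 LD3_c9) (LK LD1_c5 LD2_c21 LD3_c2) Lrfl Lrfl
theorem f195332 : Led Lsl_et (LP (LK LD1_c5 LD2_c21 LD3_c2)) = (LP (LK LD1_c10 LD2_c30 LD3_c45)) :=
  Lre_e IH (LK LD1_c5 LD2_c21 LD3_c2) (LK LD1_c10 LD2_c30 LD3_c45) Lrfl Lrfl
theorem f195333 : Led Lsl_cf (LP (LK LD1_c11 LD2_c52 LD3_c32)) = (LP (LK LD1_c10 LD2_c30 LD3_c45)) :=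
  Lgr Lrot39 (Lpr_et (f195035 IH) (Lpr_ct (f195331 IH) (Lpr_et (f195332 IH) (Lpn (LP (LK LD1_c10 LD2_c30 LD3_c45))))))
theorem f195346 : Led Lsl_ft (LP (LK LD1_c11 LD2_c52 LD3_c32)) = (LP (LK LD1_c20 LD2_c55 LD3_c24)) :=
  Lre_f IH (LK LD1_c11 LD2_c52 LD3_c32) (LK LD1_c20 LD2_c55 LD3_c24) Lrfl Lrfl
theorem f195347 : Led Lsl_ft (LP (LK LD1_c19 LD2_c3 LD3_c1)) = (LP (LK LD1_c10 LD2_c30 LD3_c45)) :=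
  Lre_f IH (LK LD1_c19 LD2_c3 LD3_c1) (LK LD1_c10 LD2_c30 LD3_c45) Lrfl Lrfl
theorem f195348 : Led Lsl_ct (LP (LK LD1_c20 LD2_c55 LD3_c24)) = (LP (LK LD1_c19 LD2_c3 LD3_c1)) :=
  Lgr Lrot40 (Lpe (f195346 IH) (Lpr_cf (f195333 IH) (Lpe (f195347 IH) (Lpn (LP (LK LD1_c19 LD2_c3 LD3_c1))))))
theorem f8953 : Led Lsl_gt (LP (LK LD1_c19 LD2_c3 LD3_c1)) = (LP (LK LD1_c10 LD2_c30 LD3_c44)) :=
  Lre_g IH (LK LD1_c19 LD2_c3 LD3_c1) (LK LD1_c10 LD2_c30 LD3_c44) Lrfl Lrfl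
theorem f194994 : Led Lsl_ct (LP (LK LD1_c19 LD2_c3 LD3_c8)) = (LP (LK LD1_c10 LD2_c30 LD3_c44)) :=
  Lre_c IH (LK LD1_c19 LD2_c3 LD3_c8) (LK LD1_c10 LD2_c30 LD3_c44) Lrfl Lrfl
theorem f194976 : Led Lsl_ct (LP (LK LD1_c6 LD2_c4 LD3_c30)) = (LP (LK LD1_c5 LD2_c20 LD3_c21)) :=
  Lgr Lrot59 (Lpr_cf (K10.f194961 IH) (Lpn (LP (LK LD1_c5 LD2_c20 LD3_c21))))
theorem f183019 : Led Lsl_bt (LP (LK LD1_c6 LD2_c4 LD3_c30)) = (LP (LK LD1_c2 LD2_c58 LD3_c26)) :=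
  Lre_b IH (LK LD1_c6 LD2_c4 LD3_c30) (LK LD1_c2 LD2_c58 LD3_c26) Lrfl Lrfl
theorem f182114 : Led Lsl_bt (LP (LK LD1_c6 LD2_c4 LD3_c58)) = (LP (LK LD1_c11 LD2_c53 LD3_c15)) :=
  Lre_b IH (LK LD1_c6 LD2_c4 LD3_c58) (LK LD1_c11 LD2_c53 LD3_c15) Lrfl Lrfl
theorem f182115 : Led Lsl_gt (LP (LK LD1_c11 LD2_c53 LD3_c15)) = (LP (LK LD1_c20 LD2_c56 LD3_c47)) :=
  Lre_g IH (LK LD1_c11 LD2_c53 LD3_c15) (LK LD1_c20 LD2_c56 LD3_c47) Lrfl Lrfl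
theorem f194993 : Led Lsl_gt (LP (LK LD1_c10 LD2_c30 LD3_c44)) = (LP (LK LD1_c5 LD2_c20 LD3_c21)) :=
  Lre_g IH (LK LD1_c10 LD2_c30 LD3_c44) (LK LD1_c5 LD2_c20 LD3_c21) Lrfl Lrfl
theorem f195388 : Led Lsl_bf (LP (LK LD1_c20 LD2_c56 LD3_c47)) = (LP (LK LD1_c19 LD2_c3 LD3_c8)) :=
  Lgr Lrot34 (Lpe (f182115 IH) (Lpe (f182114 IH) (Lpr_ct (K10.f182099 IH) (Lpr_gf (K11.f191175 IH) (Lpe (K14.f182562 IH) (Lpe (K9.f42505 IH) (Lpe (f183019 IH) (Lpr_ct (f194976 IH) (Lpe (f194993 IH) (Lpe (f194994 IH) (Lpn (LP (LK LD1_c19 LD2_c3 LD3_c8)))))))))))))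
theorem f182116 : Led Lsl_ft (LP (LK LD1_c11 LD2_c53 LD3_c15)) = (LP (LK LD1_c8 LD2_c38 LD3_c33)) :=
  Lgr Lrot75 (Lpe (f182114 IH) (Lpr_ff (K10.f182112 IH) (Lpe (K12.f54094 IH) (Lpn (LP (LK LD1_c8 LD2_c38 LD3_c33))))))
theorem f54116 : Led Lsl_at (LP (LK LD1_c8 LD2_c38 LD3_c33)) = (LP (LK LD1_c16 LD2_c11 LD3_c11)) :=
  Lre_a IH (LK LD1_c8 LD2_c38 LD3_c33) (LK LD1_c16 LD2_c11 LD3_c11) Lrfl Lrfl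
theorem f182148 : Led Lsl_gt (LP (LK LD1_c20 LD2_c56 LD3_c47)) = (LP (LK LD1_c16 LD2_c11 LD3_c11)) :=
  Lgr Lrot46 (Lpe (f182115 IH) (Lpr_ft (f182116 IH) (Lpr_at (f54116 IH) (Lpn (LP (LK LD1_c16 LD2_c11 LD3_c11))))))
theorem f399054 : Led Lsl_bf (LP (LK LD1_c16 LD2_c11 LD3_c11)) = (LP (LK LD1_c20 LD2_c56 LD3_c51)) :=
  Lgr Lrot34 (Lpe (f182148 IH) (Lpr_bf (f195388 IH) (Lpr_ct (f194994 IH) (Lpe (f8953 IH) (Lpe (f195348 IH) (Lpe (f190182 IH) (Lpe (f42515 IH) (Lpr_ct (f190175 IH) (Lpe (f399052 IH) (Lpr_cf (f399046 IH) (Lpn (LP (LK LD1_c20 LD2_c56 LD3_c51)))))))))))))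
theorem f182133 : Led Lsl_at (LP (LK LD1_c20 LD2_c56 LD3_c48)) = (LP (LK LD1_c11 LD2_c53 LD3_c15)) :=
  Lre_a IH (LK LD1_c20 LD2_c56 LD3_c48) (LK LD1_c11 LD2_c53 LD3_c15) Lrfl Lrfl
theorem f54244 : Led Lsl_at (LP (LK LD1_c8 LD2_c38 LD3_c45)) = (LP (LK LD1_c16 LD2_c11 LD3_c26)) :=
  Lre_a IH (LK LD1_c8 LD2_c38 LD3_c45) (LK LD1_c16 LD2_c11 LD3_c26) Lrfl Lrfl
theorem f182134 : Led Lsl_cf (LP (LK LD1_c20 LD2_c56 LD3_c48)) = (LP (LK LD1_c16 LD2_c11 LD3_c26)) :=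
  Lgr Lrot1 (Lpr_at (f182133 IH) (Lpr_ct (K39.f182126 IH) (Lpr_at (f54244 IH) (Lpn (LP (LK LD1_c16 LD2_c11 LD3_c26))))))
theorem f182139 : Led Lsl_ct (LP (LK LD1_c20 LD2_c56 LD3_c48)) = (LP (LK LD1_c16 LD2_c11 LD3_c26)) :=
  Lgr Lrot59 (Lpr_cf (f182134 IH) (Lpn (LP (LK LD1_c16 LD2_c11 LD3_c26))))
theorem f54261 : Led Lsl_ft (LP (LK LD1_c16 LD2_c11 LD3_c26)) = (LP (LK LD1_c8 LD2_c38 LD3_c43)) :=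
  Lre_f IH (LK LD1_c16 LD2_c11 LD3_c26) (LK LD1_c8 LD2_c38 LD3_c43) Lrfl Lrfl
theorem f54236 : Led Lsl_ct (LP (LK LD1_c8 LD2_c38 LD3_c43)) = (LP (LK LD1_c16 LD2_c11 LD3_c11)) :=
  Lre_c IH (LK LD1_c8 LD2_c38 LD3_c43) (LK LD1_c16 LD2_c11 LD3_c11) Lrfl Lrfl
theorem f182142 : Led Lsl_ff (LP (LK LD1_c20 LD2_c56 LD3_c48)) = (LP (LK LD1_c16 LD2_c11 LD3_c11)) :=
  Lgr Lrot23 (Lpr_ct (f182139 IH) (Lpr_ft (f54261 IH) (Lpr_ct (f54236 IH) (Lpn (LP (LK LD1_c16 LD2_c11 LD3_c11))))))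
theorem f190145 : Led Lsl_at (LP (LK LD1_c10 LD2_c37 LD3_c10)) = (LP (LK LD1_c19 LD2_c14 LD3_c13)) :=
  Lre_a IH (LK LD1_c10 LD2_c37 LD3_c10) (LK LD1_c19 LD2_c14 LD3_c13) Lrfl Lrfl
theorem f190146 : Led Lsl_bt (LP (LK LD1_c19 LD2_c14 LD3_c13)) = (LP (LK LD1_c20 LD2_c56 LD3_c48)) :=
  Lgr Lrot62 (Lpe (f190145 IH) (Lpe (f190101 IH) (Lpr_af (K10.f190143 IH) (Lpe (K39.f182104 IH) (Lpe (f182133 IH) (Lpn (LP (LK LD1_c20 LD2_c56 LD3_c48))))))))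
theorem f190150 : Led Lsl_bf (LP (LK LD1_c19 LD2_c14 LD3_c13)) = (LP (LK LD1_c20 LD2_c56 LD3_c48)) :=
  Lgr Lrot24 (Lpr_bt (f190146 IH) (Lpn (LP (LK LD1_c20 LD2_c56 LD3_c48))))
theorem f399056 : Led Lsl_ft (LP (LK LD1_c19 LD2_c14 LD3_c13)) = (LP (LK LD1_c20 LD2_c56 LD3_c51)) :=
  Lgr Lrot75 (Lpr_bf (f190150 IH) (Lpr_ff (f182142 IH) (Lpr_bf (f399054 IH) (Lpn (LP (LK LD1_c20 LD2_c56 LD3_c51))))))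
theorem f399058 : Led Lsl_ff (LP (LK LD1_c19 LD2_c14 LD3_c13)) = (LP (LK LD1_c20 LD2_c56 LD3_c51)) :=
  Lgr Lrot3 (Lpr_ft (f399056 IH) (Lpn (LP (LK LD1_c20 LD2_c56 LD3_c51))))
theorem f190153 : Led Lsl_at (LP (LK LD1_c19 LD2_c14 LD3_c13)) = (LP (LK LD1_c10 LD2_c37 LD3_c10)) :=
  Lre_a IH (LK LD1_c19 LD2_c14 LD3_c13) (LK LD1_c10 LD2_c37 LD3_c10) Lrfl Lrfl
theorem f399062 : Led Lsl_gf (LP (LK LD1_c19 LD2_c14 LD3_c12)) = (LP (LK LD1_c20 LD2_c56 LD3_c51)) :=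
  Lgr Lrot47 (Lpr_gt (f190157 IH) (Lpe (f190153 IH) (Lpr_ff (f399058 IH) (Lpn (LP (LK LD1_c20 LD2_c56 LD3_c51))))))
theorem f939949 : Led Lsl_ft (LP (LK LD1_c11 LD2_c56 LD3_c31)) = (LP (LK LD1_c20 LD2_c56 LD3_c49)) :=
  Lgr Lrot2 (Lpr_gt (f257336 IH) (Lpe (f399062 IH) (Lpr_af (f939943 IH) (Lpn (LP (LK LD1_c20 LD2_c56 LD3_c49))))))
theorem f751521 : Led Lsl_ft (LP (LK LD1_c11 LD2_c56 LD3_c25)) = (LP (LK LD1_c6 LD2_c6 LD3_c44)) :=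
  Lre_f IH (LK LD1_c11 LD2_c56 LD3_c25) (LK LD1_c6 LD2_c6 LD3_c44) Lrfl Lrfl
theorem f446698 : Led Lsl_at (LP (LK LD1_c6 LD2_c6 LD3_c40)) = (LP (LK LD1_c2 LD2_c59 LD3_c31)) :=
  Lre_a IH (LK LD1_c6 LD2_c6 LD3_c40) (LK LD1_c2 LD2_c59 LD3_c31) Lrfl Lrfl
theorem f646220 : Led Lsl_gf (LP (LK LD1_c2 LD2_c59 LD3_c31)) = K73.v5147 :=
  Lgr Lrot76 (Lpe (f446698 IH) (Lpe (K0.f8772 IH) (Lpr_gt (K73.f646219 IH) (Lpn K73.v5147))))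
theorem f183022 : Led Lsl_bt (LP (LK LD1_c6 LD2_c5 LD3_c19)) = (LP (LK LD1_c2 LD2_c58 LD3_c49)) :=
  Lre_b IH (LK LD1_c6 LD2_c5 LD3_c19) (LK LD1_c2 LD2_c58 LD3_c49) Lrfl Lrfl
theorem f826582 : Led Lsl_bf (LP (LK LD1_c20 LD2_c56 LD3_c49)) = K73.v25014 :=
  Lgr Lrot34 (Lpe (f216295 IH) (Lpe (f190203 IH) (Lpe (K20.f190206 IH) (Lpr_gf (K12.f214070 IH) (Lpe (K15.f214061 IH) (Lpe (K12.f8524 IH) (Lpe (f183022 IH) (Lpr_ct (K73.f183023 IH) (Lpr_gf (f646220 IH) (Lpr_cf (K73.f826581 IH) (Lpn K73.v25014)))))))))))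
theorem f826583 : Led Lsl_bt (LP (LK LD1_c20 LD2_c56 LD3_c49)) = K73.v25014 :=
  Lgr Lrot127 (Lpr_bf (f826582 IH) (Lpn K73.v25014))
theorem f939957 : (LP (LK LD1_c11 LD2_c56 LD3_c25)) = K73.v25014 :=
  (Llr Lrot25 (Lpr_ft (f751521 IH) (Lpr_bt (f190187 IH) (Lpr_ft (f939949 IH) (Lpr_bt (f826583 IH) (Lpn K73.v25014)))))).symm
theorem f939960 : K73.v5147 = (LP (LK LD1_c6 LD2_c6 LD3_c41)) :=
  Lefun (Lecon (Lfl_cf (K73.f826581 IH)) (f939957 IH).symm) (K73.f646212 IH)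
def v16770 : LQ := Led Lsl_dt (LP (LK LD1_c6 LD2_c6 LD3_c41))
theorem f751497 : Led Lsl_dt (LP (LK LD1_c6 LD2_c6 LD3_c41)) = v16770 :=
  Lrfl
def v14745 : LQ := Led Lsl_bt (LP (LK LD1_c5 LD2_c23 LD3_c19))
theorem f726443 : Led Lsl_bt (LP (LK LD1_c5 LD2_c23 LD3_c19)) = v14745 :=
  Lrfl
theorem f726444 : Led Lsl_bf (LP (LK LD1_c5 LD2_c23 LD3_c19)) = v14745 :=
  Lgr Lrot24 (Lpr_bt (f726443 IH) (Lpn v14745))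
theorem f942745 : Led Lsl_df v14745 = K73.v43878 :=
  Lgr Lrot12 (Lpe (f726444 IH) (Lpr_dt (K15.f200620 IH) (Lpr_bt (K73.f942743 IH) (Lpn K73.v43878))))
theorem f256246 : Led Lsl_af (LP (LK LD1_c10 LD2_c29 LD3_c41)) = (LP (LK LD1_c5 LD2_c23 LD3_c19)) :=
  Lgr Lrot68 (Lpr_ct (K20.f256245 IH) (Lpr_at (K14.f256240 IH) (Lpr_ct (K15.f184402 IH) (Lpn (LP (LK LD1_c5 LD2_c23 LD3_c19))))))
theorem f290031 : Led Lsl_ft (LP (LK LD1_c5 LD2_c6 LD3_c16)) = (LP (LK LD1_c5 LD2_c23 LD3_c19)) :=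
  Lgr Lrot101 (Lpr_af (K17.f290021 IH) (Lpe (K17.f290020 IH) (Lpr_af (f256246 IH) (Lpn (LP (LK LD1_c5 LD2_c23 LD3_c19))))))
theorem f726447 : Led Lsl_ff (LP (LK LD1_c10 LD2_c3 LD3_c33)) = v14745 :=
  Lgr Lrot25 (Lpr_bt (K72.f264878 IH) (Lpr_ft (f290031 IH) (Lpr_bt (f726443 IH) (Lpn v14745))))
theorem f726448 : Led Lsl_ct K65.v4652 = v14745 :=
  Lgr Lrot40 (Lpe (K65.f638349 IH) (Lpe (K72.f290995 IH) (Lpr_ff (f726447 IH) (Lpn v14745))))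
theorem f636298 : Led Lsl_dt (LP (LK LD1_c2 LD2_c40 LD3_c54)) = K65.v4591 :=
  Lgr Lrot113 (Lpr_gf (K15.f183383 IH) (Lpe (K15.f177492 IH) (Lpr_gf (K10.f9062 IH) (Lpr_ct (K9.f9029 IH) (Lpr_gt (K9.f9094 IH) (Lpe (K9.f177798 IH) (Lpr_gt (K9.f181134 IH) (Lpr_dt (K18.f183386 IH) (Lpr_ct (K65.f636291 IH) (Lpn K65.v4591))))))))))
theorem f638345 : Led Lsl_bf (LP (LK LD1_c2 LD2_c40 LD3_c54)) = K65.v4652 :=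
  Lgr Lrot24 (Lpr_bt (K65.f638344 IH) (Lpn K65.v4652))
theorem f822741 : Led Lsl_df K65.v4652 = K65.v24164 :=
  Lgr Lrot12 (Lpe (f638345 IH) (Lpr_dt (f636298 IH) (Lpr_bt (K65.f822739 IH) (Lpn K65.v24164))))
theorem f942749 : Led Lsl_gt v16770 = K65.v24164 :=
  Lgr Lrot49 (Lpe (f751497 IH) (Lpq (f939960 IH) (Lpe (K73.f646219 IH) (Lpe (K68.f195257 IH) (Lpe (K73.f554908 IH) (Lpe (K39.f555153 IH) (Lpr_gt (K73.f942747 IH) (Lpe (f942745 IH) (Lpe (f726448 IH) (Lpr_df (f822741 IH) (Lpn K65.v24164)))))))))))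
def v16768 : LQ := Led Lsl_gf (LP (LK LD1_c6 LD2_c6 LD3_c41))
theorem f751491 : Led Lsl_gf (LP (LK LD1_c6 LD2_c6 LD3_c41)) = v16768 :=
  Lrfl
theorem f939963 : (LP (LK LD1_c2 LD2_c59 LD3_c29)) = v16768 :=
  Lefun (Lecon (Lfl_gt (K73.f646219 IH)) (f939960 IH)) (f751491 IH)
theorem f638346 : Led Lsl_ef (LP (LK LD1_c5 LD2_c30 LD3_c51)) = K65.v4652 :=
  Lgr Lrot29 (Lpr_bt (K65.f245963 IH) (Lpr_et (K65.f353332 IH) (Lpr_bt (K65.f638344 IH) (Lpn K65.v4652))))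
def v15040 : LQ := Led Lsl_gt (LP (LK LD1_c5 LD2_c30 LD3_c51))
theorem f729729 : Led Lsl_gt (LP (LK LD1_c5 LD2_c30 LD3_c51)) = v15040 :=
  Lrfl
theorem f942751 : K73.v14949 = v15040 :=
  (Llr Lrot122 (Lpe (K73.f727400 IH) (Lpe (K27.f380935 IH) (Lpr_gt (K27.f8809 IH) (Lpe (K69.f8807 IH) (Lpr_et (K0.f8773 IH) (Lpqs (f939963 IH) (Lpe (f751491 IH) (Lpr_dt (f751497 IH) (Lpr_gt (f942749 IH) (Lpe (K65.f822743 IH) (Lpe (f638346 IH) (Lpr_gt (f729729 IH) (Lpn v15040)))))))))))))).symm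
theorem f245775 : Led Lsl_bt (LP (LK LD1_c2 LD2_c41 LD3_c40)) = (LP (LK LD1_c5 LD2_c30 LD3_c51)) :=
  Lre_b IH (LK LD1_c2 LD2_c41 LD3_c40) (LK LD1_c5 LD2_c30 LD3_c51) Lrfl Lrfl
theorem f304291 : Led Lsl_bt (LP (LK LD1_c8 LD2_c56 LD3_c58)) = (LP (LK LD1_c4 LD2_c29 LD3_c22)) :=
  Lre_b IH (LK LD1_c8 LD2_c56 LD3_c58) (LK LD1_c4 LD2_c29 LD3_c22) Lrfl Lrfl
theorem f353345 : Led Lsl_ft (LP (LK LD1_c5 LD2_c30 LD3_c51)) = (LP (LK LD1_c8 LD2_c56 LD3_c58)) :=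
  Lgr Lrot75 (Lpe (f245775 IH) (Lpr_ff (K65.f353341 IH) (Lpe (f304291 IH) (Lpn (LP (LK LD1_c8 LD2_c56 LD3_c58))))))
theorem f353391 : Led Lsl_at (LP (LK LD1_c8 LD2_c56 LD3_c58)) = (LP (LK LD1_c16 LD2_c45 LD3_c20)) :=
  Lre_a IH (LK LD1_c8 LD2_c56 LD3_c58) (LK LD1_c16 LD2_c45 LD3_c20) Lrfl Lrfl
theorem f729730 : Led Lsl_gf (LP (LK LD1_c16 LD2_c45 LD3_c20)) = v15040 :=
  Lgr Lrot76 (Lpe (f353391 IH) (Lpe (f353345 IH) (Lpr_gt (f729729 IH) (Lpn v15040))))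
theorem f353384 : Led Lsl_at (LP (LK LD1_c16 LD2_c45 LD3_c20)) = (LP (LK LD1_c8 LD2_c56 LD3_c58)) :=
  Lre_a IH (LK LD1_c16 LD2_c45 LD3_c20) (LK LD1_c8 LD2_c56 LD3_c58) Lrfl Lrfl
theorem f353385 : Led Lsl_ft (LP (LK LD1_c10 LD2_c53 LD3_c16)) = (LP (LK LD1_c16 LD2_c45 LD3_c20)) :=
  Lgr Lrot101 (Lpe (K73.f353383 IH) (Lpr_ff (K65.f353353 IH) (Lpe (f353384 IH) (Lpn (LP (LK LD1_c16 LD2_c45 LD3_c20))))))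
theorem f353388 : Led Lsl_ff (LP (LK LD1_c10 LD2_c53 LD3_c16)) = (LP (LK LD1_c16 LD2_c45 LD3_c20)) :=
  Lgr Lrot3 (Lpr_ft (f353385 IH) (Lpn (LP (LK LD1_c16 LD2_c45 LD3_c20))))
theorem f336942 : Led Lsl_gt (LP (LK LD1_c10 LD2_c53 LD3_c15)) = (LP (LK LD1_c5 LD2_c30 LD3_c51)) :=
  Lre_g IH (LK LD1_c10 LD2_c53 LD3_c15) (LK LD1_c5 LD2_c30 LD3_c51) Lrfl Lrfl
theorem f353393 : Led Lsl_gf (LP (LK LD1_c10 LD2_c53 LD3_c15)) = (LP (LK LD1_c16 LD2_c45 LD3_c20)) :=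
  Lgr Lrot47 (Lpr_gt (f336942 IH) (Lpe (K65.f353390 IH) (Lpr_ff (f353388 IH) (Lpn (LP (LK LD1_c16 LD2_c45 LD3_c20))))))
theorem f942752 : Led Lsl_at K73.v37509 = (LP (LK LD1_c10 LD2_c53 LD3_c15)) :=
  Lgr Lrot26 (Lpr_ff (K73.f916666 IH) (Lpqs (f942751 IH) (Lpe (f729730 IH) (Lpe (f353393 IH) (Lpn (LP (LK LD1_c10 LD2_c53 LD3_c15)))))))
theorem f916664 : Led Lsl_at (LP (LK LD1_c16 LD2_c43 LD3_c31)) = K73.v14949 :=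
  Lgr Lrot100 (Lpr_af (K73.f916663 IH) (Lpn K73.v14949))
theorem f942754 : Led Lsl_ff (LP (LK LD1_c16 LD2_c43 LD3_c31)) = (LP (LK LD1_c10 LD2_c53 LD3_c15)) :=
  Lgr Lrot30 (Lpr_at (f916664 IH) (Lpe (K73.f916666 IH) (Lpr_at (f942752 IH) (Lpn (LP (LK LD1_c10 LD2_c53 LD3_c15))))))
theorem f942755 : Led Lsl_ft (LP (LK LD1_c10 LD2_c53 LD3_c15)) = (LP (LK LD1_c16 LD2_c43 LD3_c31)) :=
  Leop (Lpr_ff (f942754 IH) (Lpn (LP (LK LD1_c10 LD2_c53 LD3_c15))))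
theorem seed_2677 : LEOK LG_f (LK LD1_c10 LD2_c53 LD3_c15) :=
  Leoe_f (LK LD1_c10 LD2_c53 LD3_c15) (f942755 IH)
theorem f291553 : Led Lsl_ff (LP (LK LD1_c10 LD2_c37 LD3_c9)) = (LP (LK LD1_c10 LD2_c3 LD3_c34)) :=
  Lgr Lrot23 (Lpe (K15.f256236 IH) (Lpr_ft (K17.f291549 IH) (Lpr_ct (K17.f274255 IH) (Lpn (LP (LK LD1_c10 LD2_c3 LD3_c34))))))
theorem f942746 : Led Lsl_ff (LP (LK LD1_c11 LD2_c53 LD3_c42)) = K73.v43878 :=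
  Lgr Lrot25 (Lpr_bt (K39.f555186 IH) (Lpe (f291553 IH) (Lpr_bt (K73.f942743 IH) (Lpn K73.v43878))))
theorem f942759 : Led Lsl_ft (LP (LK LD1_c11 LD2_c53 LD3_c42)) = K73.v43878 :=
  Lgr Lrot48 (Lpr_ff (f942746 IH) (Lpn K73.v43878))
theorem f555157 : Led Lsl_gt (LP (LK LD1_c11 LD2_c53 LD3_c42)) = (LP (LK LD1_c11 LD2_c54 LD3_c1)) :=
  Lgr Lrot46 (Lpe (K39.f257256 IH) (Lpe (K39.f324795 IH) (Lpr_at (K39.f555136 IH) (Lpn (LP (LK LD1_c11 LD2_c54 LD3_c1))))))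
theorem f257258 : Led Lsl_gt (LP (LK LD1_c11 LD2_c53 LD3_c43)) = (LP (LK LD1_c6 LD2_c5 LD3_c9)) :=
  Lre_g IH (LK LD1_c11 LD2_c53 LD3_c43) (LK LD1_c6 LD2_c5 LD3_c9) Lrfl Lrfl
theorem f555141 : Led Lsl_gf (LP (LK LD1_c11 LD2_c53 LD3_c43)) = (LP (LK LD1_c11 LD2_c54 LD3_c1)) :=
  Lgr Lrot47 (Lpr_gt (f257258 IH) (Lpe (K39.f257244 IH) (Lpr_ff (K39.f555134 IH) (Lpn (LP (LK LD1_c11 LD2_c54 LD3_c1))))))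
theorem f942760 : Led Lsl_af (LP (LK LD1_c11 LD2_c53 LD3_c43)) = K73.v43878 :=
  Lgr Lrot31 (Lpr_gf (f555141 IH) (Lpe (f555157 IH) (Lpr_ft (f942759 IH) (Lpn K73.v43878))))
theorem f257328 : Led Lsl_bt (LP (LK LD1_c11 LD2_c53 LD3_c43)) = (LP (LK LD1_c20 LD2_c57 LD3_c27)) :=
  Lre_b IH (LK LD1_c11 LD2_c53 LD3_c43) (LK LD1_c20 LD2_c57 LD3_c27) Lrfl Lrfl
theorem f290012 : Led Lsl_at (LP (LK LD1_c11 LD2_c53 LD3_c46)) = (LP (LK LD1_c10 LD2_c37 LD3_c9)) :=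
  Lgr Lrot51 (Lpr_df (K17.f290010 IH) (Lpr_af (f256246 IH) (Lpe (K14.f184401 IH) (Lpn (LP (LK LD1_c10 LD2_c37 LD3_c9))))))
theorem f274334 : Led Lsl_bt (LP (LK LD1_c20 LD2_c57 LD3_c34)) = (LP (LK LD1_c11 LD2_c53 LD3_c46)) :=
  Lre_b IH (LK LD1_c20 LD2_c57 LD3_c34) (LK LD1_c11 LD2_c53 LD3_c46) Lrfl Lrfl
theorem f942762 : Led Lsl_at (LP (LK LD1_c20 LD2_c57 LD3_c27)) = (LP (LK LD1_c20 LD2_c57 LD3_c34)) :=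
  Lgr Lrot67 (Lpe (f257328 IH) (Lpr_af (f942760 IH) (Lpe (K73.f942743 IH) (Lpe (f290012 IH) (Lpe (f274334 IH) (Lpn (LP (LK LD1_c20 LD2_c57 LD3_c34))))))))
theorem f942763 : Led Lsl_at (LP (LK LD1_c20 LD2_c57 LD3_c27)) = (LP (LK LD1_c20 LD2_c57 LD3_c34)) :=
  Leop (Lpe (f942762 IH) (Lpn (LP (LK LD1_c20 LD2_c57 LD3_c27))))
theorem seed_2678 : LEOK LG_a (LK LD1_c20 LD2_c57 LD3_c27) :=
  Leoe_a (LK LD1_c20 LD2_c57 LD3_c27) (f942763 IH)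
theorem f555191 : Led Lsl_df (LP (LK LD1_c11 LD2_c53 LD3_c42)) = (LP (LK LD1_c10 LD2_c3 LD3_c33)) :=
  Lgr Lrot12 (Lpr_bt (K39.f555186 IH) (Lpr_dt (K17.f184637 IH) (Lpr_bt (K68.f184639 IH) (Lpn (LP (LK LD1_c10 LD2_c3 LD3_c33))))))
theorem f555201 : Led Lsl_dt (LP (LK LD1_c11 LD2_c53 LD3_c42)) = (LP (LK LD1_c10 LD2_c3 LD3_c33)) :=
  Lgr Lrot42 (Lpr_df (f555191 IH) (Lpn (LP (LK LD1_c10 LD2_c3 LD3_c33))))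
theorem f726449 : Led Lsl_ft (LP (LK LD1_c10 LD2_c3 LD3_c33)) = v14745 :=
  Lgr Lrot48 (Lpr_ff (f726447 IH) (Lpn v14745))
theorem f942758 : Led Lsl_dt v14745 = K73.v43878 :=
  Lgr Lrot60 (Lpe (f726449 IH) (Lpe (f555201 IH) (Lpr_ff (f942746 IH) (Lpn K73.v43878))))
theorem f329662 : Led Lsl_et (LP (LK LD1_c5 LD2_c30 LD3_c50)) = (LP (LK LD1_c5 LD2_c23 LD3_c19)) :=
  Lgr Lrot158 (Lpe (K21.f245777 IH) (Lpr_ef (K21.f329658 IH) (Lpe (K14.f184400 IH) (Lpn (LP (LK LD1_c5 LD2_c23 LD3_c19))))))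
theorem f336939 : Led Lsl_bt (LP (LK LD1_c10 LD2_c53 LD3_c13)) = (LP (LK LD1_c5 LD2_c30 LD3_c50)) :=
  Lre_b IH (LK LD1_c10 LD2_c53 LD3_c13) (LK LD1_c5 LD2_c30 LD3_c50) Lrfl Lrfl
theorem f726446 : Led Lsl_ef (LP (LK LD1_c10 LD2_c53 LD3_c13)) = v14745 :=
  Lgr Lrot29 (Lpr_bt (f336939 IH) (Lpr_et (f329662 IH) (Lpr_bt (f726443 IH) (Lpn v14745))))
theorem f195225 : Led Lsl_at (LP (LK LD1_c6 LD2_c5 LD3_c17)) = (LP (LK LD1_c2 LD2_c58 LD3_c47)) :=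
  Lre_a IH (LK LD1_c6 LD2_c5 LD3_c17) (LK LD1_c2 LD2_c58 LD3_c47) Lrfl Lrfl
theorem f195227 : Led Lsl_ef (LP (LK LD1_c6 LD2_c5 LD3_c17)) = (LP (LK LD1_c4 LD2_c28 LD3_c32)) :=
  Lgr Lrot20 (Lpr_at (f195225 IH) (Lpr_et (K65.f195213 IH) (Lpr_at (K31.f195226 IH) (Lpn (LP (LK LD1_c4 LD2_c28 LD3_c32))))))
theorem f195269 : Led Lsl_dt (LP (LK LD1_c4 LD2_c28 LD3_c32)) = (LP (LK LD1_c8 LD2_c55 LD3_c16)) :=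
  Lre_d IH (LK LD1_c4 LD2_c28 LD3_c32) (LK LD1_c8 LD2_c55 LD3_c16) Lrfl Lrfl
theorem f380939 : Led Lsl_et (LP (LK LD1_c10 LD2_c47 LD3_c44)) = (LP (LK LD1_c19 LD2_c31 LD3_c42)) :=
  Lre_e IH (LK LD1_c10 LD2_c47 LD3_c44) (LK LD1_c19 LD2_c31 LD3_c42) Lrfl Lrfl
theorem f942766 : Led Lsl_gt (LP (LK LD1_c10 LD2_c53 LD3_c13)) = (LP (LK LD1_c19 LD2_c31 LD3_c42)) :=
  Lgr Lrot131 (Lpr_ef (f726446 IH) (Lpr_dt (f942758 IH) (Lpe (K73.f942747 IH) (Lpr_df (K39.f555153 IH) (Lpr_gf (K73.f554908 IH) (Lpr_ef (f195227 IH) (Lpr_dt (f195269 IH) (Lpe (K27.f195270 IH) (Lpr_df (K27.f380931 IH) (Lpr_et (f380939 IH) (Lpn (LP (LK LD1_c19 LD2_c31 LD3_c42)))))))))))))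
theorem f942767 : Led Lsl_gt (LP (LK LD1_c10 LD2_c53 LD3_c13)) = (LP (LK LD1_c19 LD2_c31 LD3_c42)) :=
  Leop (Lpe (f942766 IH) (Lpn (LP (LK LD1_c10 LD2_c53 LD3_c13))))
theorem seed_2679 : LEOK LG_g (LK LD1_c10 LD2_c53 LD3_c13) :=
  Leoe_g (LK LD1_c10 LD2_c53 LD3_c13) (f942767 IH)
theorem f245966 : Led Lsl_ct (LP (LK LD1_c5 LD2_c30 LD3_c51)) = (LP (LK LD1_c10 LD2_c53 LD3_c13)) :=
  Lre_c IH (LK LD1_c5 LD2_c30 LD3_c51) (LK LD1_c10 LD2_c53 LD3_c13) Lrfl Lrfl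
theorem f326533 : Led Lsl_bt (LP (LK LD1_c9 LD2_c1 LD3_c9)) = (LP (LK LD1_c4 LD2_c31 LD3_c36)) :=
  Lre_b IH (LK LD1_c9 LD2_c1 LD3_c9) (LK LD1_c4 LD2_c31 LD3_c36) Lrfl Lrfl
def v37829 : LQ := Led Lsl_ft (LP (LK LD1_c9 LD2_c0 LD3_c51))
theorem f896867 : Led Lsl_ft (LP (LK LD1_c9 LD2_c0 LD3_c51)) = v37829 :=
  Lrfl
theorem f896871 : Led Lsl_ff (LP (LK LD1_c9 LD2_c0 LD3_c51)) = v37829 :=
  Lgr Lrot3 (Lpr_ft (f896867 IH) (Lpn v37829))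
theorem f241004 : Led Lsl_ct (LP (LK LD1_c9 LD2_c0 LD3_c51)) = (LP (LK LD1_c4 LD2_c31 LD3_c34)) :=
  Lre_c IH (LK LD1_c9 LD2_c0 LD3_c51) (LK LD1_c4 LD2_c31 LD3_c34) Lrfl Lrfl
theorem f403306 : Led Lsl_ft (LP (LK LD1_c4 LD2_c31 LD3_c34)) = (LP (LK LD1_c9 LD2_c1 LD3_c9)) :=
  Lre_f IH (LK LD1_c4 LD2_c31 LD3_c34) (LK LD1_c9 LD2_c1 LD3_c9) Lrfl Lrfl
theorem f896873 : Led Lsl_ct (LP (LK LD1_c9 LD2_c1 LD3_c9)) = v37829 :=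
  Lgr Lrot40 (Lpe (f403306 IH) (Lpe (f241004 IH) (Lpr_ff (f896871 IH) (Lpn v37829))))
theorem f175198 : Led Lsl_gt (LP (LK LD1_c2 LD2_c41 LD3_c31)) = (LP (LK LD1_c5 LD2_c30 LD3_c35)) :=
  Lre_g IH (LK LD1_c2 LD2_c41 LD3_c31) (LK LD1_c5 LD2_c30 LD3_c35) Lrfl Lrfl
theorem f354590 : Led Lsl_bt (LP (LK LD1_c10 LD2_c52 LD3_c47)) = (LP (LK LD1_c5 LD2_c30 LD3_c35)) :=
  Lre_b IH (LK LD1_c10 LD2_c52 LD3_c47) (LK LD1_c5 LD2_c30 LD3_c35) Lrfl Lrfl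
theorem f354591 : Led Lsl_ct (LP (LK LD1_c10 LD2_c52 LD3_c47)) = (LP (LK LD1_c19 LD2_c40 LD3_c7)) :=
  Lre_c IH (LK LD1_c10 LD2_c52 LD3_c47) (LK LD1_c19 LD2_c40 LD3_c7) Lrfl Lrfl
theorem f896875 : Led Lsl_gt (LP (LK LD1_c19 LD2_c40 LD3_c7)) = v37829 :=
  Lgr Lrot65 (Lpe (f354591 IH) (Lpr_bt (f354590 IH) (Lpe (f175198 IH) (Lpe (K54.f245707 IH) (Lpr_ct (K25.f245770 IH) (Lpe (K13.f178845 IH) (Lpe (K25.f179988 IH) (Lpe (K25.f354586 IH) (Lpe (f326533 IH) (Lpr_ct (f896873 IH) (Lpn v37829)))))))))))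
theorem f417903 : Led Lsl_et (LP (LK LD1_c26 LD2_c43 LD3_c49)) = (LP (LK LD1_c16 LD2_c44 LD3_c52)) :=
  Lre_e IH (LK LD1_c26 LD2_c43 LD3_c49) (LK LD1_c16 LD2_c44 LD3_c52) Lrfl Lrfl
theorem f417904 : Led Lsl_cf (LP (LK LD1_c26 LD2_c43 LD3_c49)) = (LP (LK LD1_c19 LD2_c31 LD3_c42)) :=
  Lgr Lrot39 (Lpr_et (f417903 IH) (Lpr_ct (K67.f417893 IH) (Lpr_et (f380939 IH) (Lpn (LP (LK LD1_c19 LD2_c31 LD3_c42))))))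
theorem f417925 : Led Lsl_ct (LP (LK LD1_c26 LD2_c43 LD3_c49)) = (LP (LK LD1_c19 LD2_c31 LD3_c42)) :=
  Lgr Lrot59 (Lpr_cf (f417904 IH) (Lpn (LP (LK LD1_c19 LD2_c31 LD3_c42))))
theorem f417908 : Led Lsl_bt (LP (LK LD1_c16 LD2_c44 LD3_c52)) = (LP (LK LD1_c10 LD2_c52 LD3_c7)) :=
  Lgr Lrot130 (Lpr_ct (K67.f417893 IH) (Lpe (K27.f7850 IH) (Lpe (K27.f178114 IH) (Lpr_bt (K30.f178113 IH) (Lpe (K12.f226537 IH) (Lpe (K30.f226528 IH) (Lpr_ct (K30.f226560 IH) (Lpe (K30.f178067 IH) (Lpr_cf (K30.f226561 IH) (Lpe (K30.f179143 IH) (Lpn (LP (LK LD1_c10 LD2_c52 LD3_c7)))))))))))))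
theorem f226588 : Led Lsl_et (LP (LK LD1_c10 LD2_c52 LD3_c7)) = (LP (LK LD1_c19 LD2_c39 LD3_c1)) :=
  Lre_e IH (LK LD1_c10 LD2_c52 LD3_c7) (LK LD1_c19 LD2_c39 LD3_c1) Lrfl Lrfl
theorem f417910 : Led Lsl_bf (LP (LK LD1_c26 LD2_c43 LD3_c49)) = (LP (LK LD1_c19 LD2_c39 LD3_c1)) :=
  Lgr Lrot96 (Lpr_et (f417903 IH) (Lpr_bt (f417908 IH) (Lpr_et (f226588 IH) (Lpn (LP (LK LD1_c19 LD2_c39 LD3_c1))))))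
theorem f417914 : Led Lsl_bt (LP (LK LD1_c26 LD2_c43 LD3_c49)) = (LP (LK LD1_c19 LD2_c39 LD3_c1)) :=
  Lgr Lrot127 (Lpr_bf (f417910 IH) (Lpn (LP (LK LD1_c19 LD2_c39 LD3_c1))))
theorem f942768 : Led Lsl_gf (LP (LK LD1_c10 LD2_c52 LD3_c47)) = (LP (LK LD1_c19 LD2_c39 LD3_c1)) :=
  Lgr Lrot181 (Lpr_ct (f354591 IH) (Lpr_gt (f896875 IH) (Lpe (f896873 IH) (Lpr_bt (f326533 IH) (Lpr_gt (K25.f354586 IH) (Lpe (K65.f245963 IH) (Lpr_ct (f245966 IH) (Lpr_gt (f942766 IH) (Lpe (f417925 IH) (Lpr_bt (f417914 IH) (Lpn (LP (LK LD1_c19 LD2_c39 LD3_c1)))))))))))))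
theorem f942769 : Led Lsl_gt (LP (LK LD1_c19 LD2_c39 LD3_c1)) = (LP (LK LD1_c10 LD2_c52 LD3_c47)) :=
  Leop (Lpr_gf (f942768 IH) (Lpn (LP (LK LD1_c19 LD2_c39 LD3_c1))))
theorem seed_2680 : LEOK LG_g (LK LD1_c19 LD2_c39 LD3_c1) :=
  Leoe_g (LK LD1_c19 LD2_c39 LD3_c1) (f942769 IH)
def v43879 : LQ := Led Lsl_bt (LP (LK LD1_c10 LD2_c37 LD3_c13))
theorem f942775 : Led Lsl_bt (LP (LK LD1_c10 LD2_c37 LD3_c13)) = v43879 :=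
  Lrfl
theorem f942777 : Led Lsl_bf (LP (LK LD1_c10 LD2_c37 LD3_c13)) = v43879 :=
  Lgr Lrot24 (Lpr_bt (f942775 IH) (Lpn v43879))
theorem f555114 : Led Lsl_bt (LP (LK LD1_c11 LD2_c53 LD3_c52)) = (LP (LK LD1_c11 LD2_c54 LD3_c1)) :=
  Lgr Lrot95 (Lpr_df (K39.f555112 IH) (Lpe (K39.f337880 IH) (Lpe (K39.f337878 IH) (Lpn (LP (LK LD1_c11 LD2_c54 LD3_c1))))))
theorem f351584 : Led Lsl_ct (LP (LK LD1_c11 LD2_c53 LD3_c52)) = (LP (LK LD1_c20 LD2_c57 LD3_c42)) :=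
  Lre_c IH (LK LD1_c11 LD2_c53 LD3_c52) (LK LD1_c20 LD2_c57 LD3_c42) Lrfl Lrfl
theorem f351577 : Led Lsl_ft (LP (LK LD1_c20 LD2_c57 LD3_c42)) = (LP (LK LD1_c15 LD2_c25 LD3_c13)) :=
  Lgr Lrot48 (Lpr_ff (K39.f351555 IH) (Lpn (LP (LK LD1_c15 LD2_c25 LD3_c13))))
theorem f182992 : Led Lsl_gt (LP (LK LD1_c15 LD2_c25 LD3_c12)) = (LP (LK LD1_c8 LD2_c11 LD3_c26)) :=
  Lre_g IH (LK LD1_c15 LD2_c25 LD3_c12) (LK LD1_c8 LD2_c11 LD3_c26) Lrfl Lrfl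
theorem f351587 : Led Lsl_gt (LP (LK LD1_c20 LD2_c57 LD3_c42)) = (LP (LK LD1_c15 LD2_c25 LD3_c12)) :=
  Lgr Lrot5 (Lpr_ft (f351577 IH) (Lpr_at (K39.f182982 IH) (Lpe (f182992 IH) (Lpn (LP (LK LD1_c15 LD2_c25 LD3_c12))))))
theorem f942783 : Led Lsl_cf (LP (LK LD1_c15 LD2_c25 LD3_c12)) = v43879 :=
  Lgr Lrot58 (Lpe (f351587 IH) (Lpe (f351584 IH) (Lpr_bt (f555114 IH) (Lpe (f555157 IH) (Lpr_bf (K39.f555189 IH) (Lpe (K17.f274264 IH) (Lpe (K17.f54968 IH) (Lpe (K17.f283386 IH) (Lpe (K39.f555230 IH) (Lpr_bf (f942777 IH) (Lpn v43879)))))))))))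
theorem f942778 : Led Lsl_df (LP (LK LD1_c18 LD2_c18 LD3_c18)) = v43879 :=
  Lgr Lrot12 (Lpr_bt (K68.f274082 IH) (Lpe (K39.f555224 IH) (Lpr_bt (f942775 IH) (Lpn v43879))))
theorem f555147 : Led Lsl_dt (LP (LK LD1_c6 LD2_c6 LD3_c44)) = (LP (LK LD1_c11 LD2_c56 LD3_c32)) :=
  Lre_d IH (LK LD1_c6 LD2_c6 LD3_c44) (LK LD1_c11 LD2_c56 LD3_c32) Lrfl Lrfl
theorem f555151 : Led Lsl_gt (LP (LK LD1_c11 LD2_c56 LD3_c32)) = (LP (LK LD1_c21 LD2_c1 LD3_c23)) :=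
  Lre_g IH (LK LD1_c11 LD2_c56 LD3_c32) (LK LD1_c21 LD2_c1 LD3_c23) Lrfl Lrfl
theorem f189654 : Led Lsl_gt (LP (LK LD1_c15 LD2_c55 LD3_c36)) = (LP (LK LD1_c8 LD2_c28 LD3_c55)) :=
  Lre_g IH (LK LD1_c15 LD2_c55 LD3_c36) (LK LD1_c8 LD2_c28 LD3_c55) Lrfl Lrfl
theorem f618645 : Led Lsl_ct (LP (LK LD1_c21 LD2_c1 LD3_c23)) = (LP (LK LD1_c15 LD2_c55 LD3_c36)) :=
  Lgr Lrot152 (Lpe (f555151 IH) (Lpe (f555147 IH) (Lpr_gt (K73.f446700 IH) (Lpr_ct (K73.f618641 IH) (Lpr_gt (K73.f187595 IH) (Lpe (K39.f554890 IH) (Lpe (K39.f555171 IH) (Lpr_cf (K23.f343652 IH) (Lpe (f189654 IH) (Lpn (LP (LK LD1_c15 LD2_c55 LD3_c36))))))))))))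
theorem f54501 : Led Lsl_bt (LP (LK LD1_c8 LD2_c28 LD3_c55)) = (LP (LK LD1_c4 LD2_c14 LD3_c60)) :=
  Lre_b IH (LK LD1_c8 LD2_c28 LD3_c55) (LK LD1_c4 LD2_c14 LD3_c60) Lrfl Lrfl
theorem f214059 : Led Lsl_ct (LP (LK LD1_c11 LD2_c52 LD3_c27)) = (LP (LK LD1_c8 LD2_c28 LD3_c55)) :=
  Lgr Lrot83 (Lpe (K23.f214058 IH) (Lpr_cf (K12.f214055 IH) (Lpe (K15.f214005 IH) (Lpr_cf (K15.f189631 IH) (Lpe (f54501 IH) (Lpn (LP (LK LD1_c8 LD2_c28 LD3_c55))))))))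
theorem f194988 : Led Lsl_gt (LP (LK LD1_c5 LD2_c20 LD3_c21)) = (LP (LK LD1_c10 LD2_c30 LD3_c43)) :=
  Lre_g IH (LK LD1_c5 LD2_c20 LD3_c21) (LK LD1_c10 LD2_c30 LD3_c43) Lrfl Lrfl
theorem f195369 : Led Lsl_ct (LP (LK LD1_c19 LD2_c3 LD3_c4)) = (LP (LK LD1_c10 LD2_c30 LD3_c43)) :=
  Lre_c IH (LK LD1_c19 LD2_c3 LD3_c4) (LK LD1_c10 LD2_c30 LD3_c43) Lrfl Lrfl
theorem f618660 : Led Lsl_bf (LP (LK LD1_c11 LD2_c56 LD3_c32)) = (LP (LK LD1_c19 LD2_c3 LD3_c4)) :=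
  Lgr Lrot165 (Lpr_gt (f555151 IH) (Lpr_ct (f618645 IH) (Lpr_gt (f189654 IH) (Lpe (f214059 IH) (Lpr_bt (K39.f195391 IH) (Lpr_gt (K12.f190973 IH) (Lpe (f183019 IH) (Lpr_ct (f194976 IH) (Lpr_gt (f194988 IH) (Lpe (f195369 IH) (Lpn (LP (LK LD1_c19 LD2_c3 LD3_c4)))))))))))))
theorem f618681 : Led Lsl_ft (LP (LK LD1_c11 LD2_c56 LD3_c32)) = (LP (LK LD1_c21 LD2_c1 LD3_c17)) :=
  Lre_f IH (LK LD1_c11 LD2_c56 LD3_c32) (LK LD1_c21 LD2_c1 LD3_c17) Lrfl Lrfl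
theorem f618682 : Led Lsl_ft (LP (LK LD1_c28 LD2_c29 LD3_c26)) = (LP (LK LD1_c19 LD2_c3 LD3_c4)) :=
  Lre_f IH (LK LD1_c28 LD2_c29 LD3_c26) (LK LD1_c19 LD2_c3 LD3_c4) Lrfl Lrfl
theorem f618683 : Led Lsl_bt (LP (LK LD1_c21 LD2_c1 LD3_c17)) = (LP (LK LD1_c28 LD2_c29 LD3_c26)) :=
  Lgr Lrot35 (Lpe (f618681 IH) (Lpr_bf (f618660 IH) (Lpe (f618682 IH) (Lpn (LP (LK LD1_c28 LD2_c29 LD3_c26))))))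
theorem f555593 : Led Lsl_at (LP (LK LD1_c11 LD2_c56 LD3_c29)) = (LP (LK LD1_c21 LD2_c1 LD3_c17)) :=
  Lre_a IH (LK LD1_c11 LD2_c56 LD3_c29) (LK LD1_c21 LD2_c1 LD3_c17) Lrfl Lrfl
theorem f194357 : Led Lsl_ct (LP (LK LD1_c11 LD2_c53 LD3_c53)) = (LP (LK LD1_c6 LD2_c5 LD3_c12)) :=
  Lre_c IH (LK LD1_c11 LD2_c53 LD3_c53) (LK LD1_c6 LD2_c5 LD3_c12) Lrfl Lrfl
theorem f555559 : Led Lsl_dt (LP (LK LD1_c11 LD2_c56 LD3_c28)) = (LP (LK LD1_c16 LD2_c11 LD3_c10)) :=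
  Lgr Lrot6 (Lpr_gt (K65.f555556 IH) (Lpe (K65.f555546 IH) (Lpr_gt (K65.f351553 IH) (Lpr_ct (f194357 IH) (Lpe (K39.f247496 IH) (Lpr_cf (K39.f554972 IH) (Lpe (K39.f27898 IH) (Lpe (K39.f54120 IH) (Lpe (K39.f54133 IH) (Lpn (LP (LK LD1_c16 LD2_c11 LD3_c10))))))))))))
theorem f555589 : Led Lsl_bf (LP (LK LD1_c11 LD2_c56 LD3_c29)) = (LP (LK LD1_c16 LD2_c11 LD3_c10)) :=
  Lgr Lrot93 (Lpr_dt (K39.f555177 IH) (Lpr_bt (K65.f555555 IH) (Lpr_dt (f555559 IH) (Lpn (LP (LK LD1_c16 LD2_c11 LD3_c10))))))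
theorem f195392 : Led Lsl_at (LP (LK LD1_c28 LD2_c29 LD3_c26)) = (LP (LK LD1_c19 LD2_c3 LD3_c8)) :=
  Lre_a IH (LK LD1_c28 LD2_c29 LD3_c26) (LK LD1_c19 LD2_c3 LD3_c8) Lrfl Lrfl
theorem f618685 : Led Lsl_af (LP (LK LD1_c16 LD2_c11 LD3_c10)) = (LP (LK LD1_c20 LD2_c56 LD3_c47)) :=
  Lgr Lrot36 (Lpe (f555589 IH) (Lpr_at (f555593 IH) (Lpr_bt (f618683 IH) (Lpr_at (f195392 IH) (Lpe (f195388 IH) (Lpn (LP (LK LD1_c20 LD2_c56 LD3_c47))))))))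
theorem f182123 : Led Lsl_at (LP (LK LD1_c11 LD2_c53 LD3_c15)) = (LP (LK LD1_c20 LD2_c56 LD3_c48)) :=
  Lre_a IH (LK LD1_c11 LD2_c53 LD3_c15) (LK LD1_c20 LD2_c56 LD3_c48) Lrfl Lrfl
theorem f54135 : Led Lsl_at (LP (LK LD1_c16 LD2_c11 LD3_c11)) = (LP (LK LD1_c8 LD2_c38 LD3_c33)) :=
  Lre_a IH (LK LD1_c16 LD2_c11 LD3_c11) (LK LD1_c8 LD2_c38 LD3_c33) Lrfl Lrfl
theorem f182124 : Led Lsl_ft (LP (LK LD1_c20 LD2_c56 LD3_c48)) = (LP (LK LD1_c16 LD2_c11 LD3_c11)) :=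
  Lgr Lrot101 (Lpe (f182123 IH) (Lpr_ff (K39.f182121 IH) (Lpe (f54135 IH) (Lpn (LP (LK LD1_c16 LD2_c11 LD3_c11))))))
theorem f182146 : Led Lsl_gt (LP (LK LD1_c20 LD2_c56 LD3_c48)) = (LP (LK LD1_c16 LD2_c11 LD3_c10)) :=
  Lgr Lrot5 (Lpr_ft (f182124 IH) (Lpr_at (f54135 IH) (Lpe (K39.f54133 IH) (Lpn (LP (LK LD1_c16 LD2_c11 LD3_c10))))))
theorem f54129 : Led Lsl_gt (LP (LK LD1_c8 LD2_c38 LD3_c33)) = (LP (LK LD1_c16 LD2_c11 LD3_c9)) :=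
  Lre_g IH (LK LD1_c8 LD2_c38 LD3_c33) (LK LD1_c16 LD2_c11 LD3_c9) Lrfl Lrfl
theorem f182128 : Led Lsl_gf (LP (LK LD1_c20 LD2_c56 LD3_c48)) = (LP (LK LD1_c16 LD2_c11 LD3_c9)) :=
  Lgr Lrot76 (Lpe (f182123 IH) (Lpr_ff (K39.f182121 IH) (Lpr_gt (f54129 IH) (Lpn (LP (LK LD1_c16 LD2_c11 LD3_c9))))))
theorem f618705 : Led Lsl_ft (LP (LK LD1_c16 LD2_c11 LD3_c9)) = (LP (LK LD1_c20 LD2_c56 LD3_c47)) :=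
  Lgr Lrot2 (Lpe (f182128 IH) (Lpr_gt (f182146 IH) (Lpr_af (f618685 IH) (Lpn (LP (LK LD1_c20 LD2_c56 LD3_c47))))))
theorem f618709 : Led Lsl_ff (LP (LK LD1_c16 LD2_c11 LD3_c9)) = (LP (LK LD1_c20 LD2_c56 LD3_c47)) :=
  Lgr Lrot3 (Lpr_ft (f618705 IH) (Lpn (LP (LK LD1_c20 LD2_c56 LD3_c47))))
theorem f618711 : Led Lsl_bt (LP (LK LD1_c16 LD2_c11 LD3_c9)) = (LP (LK LD1_c26 LD2_c7 LD3_c51)) :=
  Lre_b IH (LK LD1_c16 LD2_c11 LD3_c9) (LK LD1_c26 LD2_c7 LD3_c51) Lrfl Lrfl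
theorem f618712 : Led Lsl_ft (LP (LK LD1_c26 LD2_c7 LD3_c51)) = (LP (LK LD1_c19 LD2_c3 LD3_c8)) :=
  Lgr Lrot75 (Lpe (f618711 IH) (Lpr_ff (f618709 IH) (Lpr_bf (f195388 IH) (Lpn (LP (LK LD1_c19 LD2_c3 LD3_c8))))))
theorem f618717 : Led Lsl_ft (LP (LK LD1_c10 LD2_c30 LD3_c44)) = (LP (LK LD1_c19 LD2_c3 LD3_c2)) :=
  Lre_f IH (LK LD1_c10 LD2_c30 LD3_c44) (LK LD1_c19 LD2_c3 LD3_c2) Lrfl Lrfl
theorem f618718 : Led Lsl_cf (LP (LK LD1_c26 LD2_c7 LD3_c51)) = (LP (LK LD1_c19 LD2_c3 LD3_c2)) :=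
  Lgr Lrot108 (Lpr_ft (f618712 IH) (Lpr_ct (f194994 IH) (Lpr_ft (f618717 IH) (Lpn (LP (LK LD1_c19 LD2_c3 LD3_c2))))))
theorem f618723 : Led Lsl_ct (LP (LK LD1_c26 LD2_c7 LD3_c51)) = (LP (LK LD1_c19 LD2_c3 LD3_c2)) :=
  Lgr Lrot59 (Lpr_cf (f618718 IH) (Lpn (LP (LK LD1_c19 LD2_c3 LD3_c2))))
theorem f182132 : Led Lsl_bt (LP (LK LD1_c26 LD2_c7 LD3_c51)) = (LP (LK LD1_c16 LD2_c11 LD3_c9)) :=
  Lre_b IH (LK LD1_c26 LD2_c7 LD3_c51) (LK LD1_c16 LD2_c11 LD3_c9) Lrfl Lrfl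
theorem f194967 : Led Lsl_bt (LP (LK LD1_c11 LD2_c52 LD3_c34)) = (LP (LK LD1_c6 LD2_c4 LD3_c32)) :=
  Lre_b IH (LK LD1_c11 LD2_c52 LD3_c34) (LK LD1_c6 LD2_c4 LD3_c32) Lrfl Lrfl
theorem f618730 : Led Lsl_gf (LP (LK LD1_c10 LD2_c30 LD3_c47)) = (LP (LK LD1_c19 LD2_c3 LD3_c2)) :=
  Lgr Lrot126 (Lpe (K10.f194947 IH) (Lpr_bt (f194967 IH) (Lpr_gt (K10.f42476 IH) (Lpr_ct (K16.f187480 IH) (Lpr_gt (K10.f28673 IH) (Lpe (K16.f28661 IH) (Lpr_bt (K39.f54139 IH) (Lpr_gt (f54129 IH) (Lpe (f182132 IH) (Lpr_ct (f618723 IH) (Lpn (LP (LK LD1_c19 LD2_c3 LD3_c2)))))))))))))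
theorem f618726 : Led Lsl_ft (LP (LK LD1_c19 LD2_c3 LD3_c2)) = (LP (LK LD1_c10 LD2_c30 LD3_c44)) :=
  Lre_f IH (LK LD1_c19 LD2_c3 LD3_c2) (LK LD1_c10 LD2_c30 LD3_c44) Lrfl Lrfl
theorem f618732 : Led Lsl_at (LP (LK LD1_c10 LD2_c30 LD3_c44)) = (LP (LK LD1_c19 LD2_c3 LD3_c6)) :=
  Lre_a IH (LK LD1_c10 LD2_c30 LD3_c44) (LK LD1_c19 LD2_c3 LD3_c6) Lrfl Lrfl
theorem f618733 : Led Lsl_gt (LP (LK LD1_c10 LD2_c30 LD3_c47)) = (LP (LK LD1_c19 LD2_c3 LD3_c6)) :=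
  Lgr Lrot46 (Lpr_gf (f618730 IH) (Lpr_ft (f618726 IH) (Lpr_at (f618732 IH) (Lpn (LP (LK LD1_c19 LD2_c3 LD3_c6))))))
theorem f195341 : Led Lsl_at (LP (LK LD1_c5 LD2_c20 LD3_c21)) = (LP (LK LD1_c10 LD2_c30 LD3_c45)) :=
  Lre_a IH (LK LD1_c5 LD2_c20 LD3_c21) (LK LD1_c10 LD2_c30 LD3_c45) Lrfl Lrfl
theorem f618735 : Led Lsl_gf (LP (LK LD1_c10 LD2_c30 LD3_c45)) = (LP (LK LD1_c19 LD2_c3 LD3_c6)) :=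
  Lgr Lrot76 (Lpe (f195341 IH) (Lpe (K10.f194960 IH) (Lpr_gt (f618733 IH) (Lpn (LP (LK LD1_c19 LD2_c3 LD3_c6))))))
theorem f195342 : Led Lsl_bt (LP (LK LD1_c11 LD2_c52 LD3_c32)) = (LP (LK LD1_c6 LD2_c5 LD3_c17)) :=
  Lre_b IH (LK LD1_c11 LD2_c52 LD3_c32) (LK LD1_c6 LD2_c5 LD3_c17) Lrfl Lrfl
theorem f324818 : Led Lsl_af (LP (LK LD1_c11 LD2_c52 LD3_c28)) = (LP (LK LD1_c6 LD2_c5 LD3_c13)) :=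
  Lgr Lrot117 (Lpr_dt (K15.f214067 IH) (Lpr_at (K21.f324811 IH) (Lpr_dt (K17.f42477 IH) (Lpn (LP (LK LD1_c6 LD2_c5 LD3_c13))))))
theorem f554893 : Led Lsl_at (LP (LK LD1_c11 LD2_c53 LD3_c60)) = (LP (LK LD1_c6 LD2_c5 LD3_c15)) :=
  Lre_a IH (LK LD1_c11 LD2_c53 LD3_c60) (LK LD1_c6 LD2_c5 LD3_c15) Lrfl Lrfl
theorem f555008 : Led Lsl_bt (LP (LK LD1_c11 LD2_c52 LD3_c28)) = (LP (LK LD1_c11 LD2_c53 LD3_c60)) :=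
  Lgr Lrot62 (Lpr_af (f324818 IH) (Lpe (K39.f274279 IH) (Lpr_af (K39.f555006 IH) (Lpe (K39.f337880 IH) (Lpe (f554893 IH) (Lpn (LP (LK LD1_c11 LD2_c53 LD3_c60))))))))
theorem f554625 : Led Lsl_ct (LP (LK LD1_c10 LD2_c37 LD3_c14)) = (LP (LK LD1_c15 LD2_c27 LD3_c60)) :=
  Lgr Lrot59 (Lpr_cf (K39.f554620 IH) (Lpn (LP (LK LD1_c15 LD2_c27 LD3_c60))))
theorem f554624 : Led Lsl_bt (LP (LK LD1_c10 LD2_c37 LD3_c14)) = (LP (LK LD1_c19 LD2_c14 LD3_c18)) :=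
  Lre_b IH (LK LD1_c10 LD2_c37 LD3_c14) (LK LD1_c19 LD2_c14 LD3_c18) Lrfl Lrfl
theorem f618689 : Led Lsl_ct (LP (LK LD1_c28 LD2_c29 LD3_c26)) = (LP (LK LD1_c19 LD2_c3 LD3_c6)) :=
  Lre_c IH (LK LD1_c28 LD2_c29 LD3_c26) (LK LD1_c19 LD2_c3 LD3_c6) Lrfl Lrfl
theorem f618811 : Led Lsl_gt (LP (LK LD1_c19 LD2_c14 LD3_c18)) = (LP (LK LD1_c28 LD2_c29 LD3_c26)) :=
  Lgr Lrot82 (Lpe (f554624 IH) (Lpr_ct (f554625 IH) (Lpr_gf (K18.f274100 IH) (Lpe (K15.f265216 IH) (Lpr_bt (f555008 IH) (Lpr_gf (K73.f554908 IH) (Lpe (f195342 IH) (Lpr_ct (K10.f194973 IH) (Lpr_gf (f618735 IH) (Lpe (f618689 IH) (Lpn (LP (LK LD1_c28 LD2_c29 LD3_c26)))))))))))))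
theorem f555322 : Led Lsl_dt (LP (LK LD1_c6 LD2_c4 LD3_c26)) = (LP (LK LD1_c10 LD2_c37 LD3_c15)) :=
  Lgr Lrot60 (Lpr_ff (K17.f283344 IH) (Lpe (K17.f42152 IH) (Lpr_ff (K39.f555314 IH) (Lpn (LP (LK LD1_c10 LD2_c37 LD3_c15))))))
theorem f267301 : Led Lsl_et (LP (LK LD1_c6 LD2_c4 LD3_c26)) = (LP (LK LD1_c11 LD2_c52 LD3_c21)) :=
  Lre_e IH (LK LD1_c6 LD2_c4 LD3_c26) (LK LD1_c11 LD2_c52 LD3_c21) Lrfl Lrfl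
theorem f267290 : Led Lsl_gt (LP (LK LD1_c11 LD2_c52 LD3_c21)) = (LP (LK LD1_c20 LD2_c55 LD3_c9)) :=
  Lre_g IH (LK LD1_c11 LD2_c52 LD3_c21) (LK LD1_c20 LD2_c55 LD3_c9) Lrfl Lrfl
theorem f368569 : Led Lsl_bt (LP (LK LD1_c16 LD2_c11 LD3_c5)) = (LP (LK LD1_c10 LD2_c24 LD3_c15)) :=
  Lgr Lrot119 (Lpr_ef (K56.f368567 IH) (Lpe (K27.f368551 IH) (Lpe (K26.f322072 IH) (Lpn (LP (LK LD1_c10 LD2_c24 LD3_c15))))))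
theorem f302879 : Led Lsl_ct (LP (LK LD1_c6 LD2_c4 LD3_c27)) = (LP (LK LD1_c11 LD2_c52 LD3_c21)) :=
  Lre_c IH (LK LD1_c6 LD2_c4 LD3_c27) (LK LD1_c11 LD2_c52 LD3_c21) Lrfl Lrfl
theorem f368614 : Led Lsl_ct (LP (LK LD1_c16 LD2_c11 LD3_c5)) = (LP (LK LD1_c20 LD2_c55 LD3_c9)) :=
  Lgr Lrot63 (Lpr_bt (f368569 IH) (Lpe (K26.f361782 IH) (Lpr_bf (K23.f336571 IH) (Lpe (K22.f336573 IH) (Lpr_gt (K22.f328914 IH) (Lpe (K22.f275273 IH) (Lpe (K22.f336589 IH) (Lpr_gt (K21.f274445 IH) (Lpr_ct (f302879 IH) (Lpr_gt (f267290 IH) (Lpn (LP (LK LD1_c20 LD2_c55 LD3_c9)))))))))))))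
theorem f322248 : Led Lsl_dt (LP (LK LD1_c15 LD2_c25 LD3_c8)) = (LP (LK LD1_c8 LD2_c25 LD3_c40)) :=
  Lgr Lrot79 (Lpe (K26.f182946 IH) (Lpr_df (K20.f322242 IH) (Lpe (K21.f271125 IH) (Lpn (LP (LK LD1_c8 LD2_c25 LD3_c40))))))
theorem f330894 : Led Lsl_gt (LP (LK LD1_c8 LD2_c25 LD3_c40)) = (LP (LK LD1_c9 LD2_c34 LD3_c50)) :=
  Lgr Lrot5 (Lpe (K21.f322223 IH) (Lpr_at (K21.f324752 IH) (Lpr_gf (K21.f330892 IH) (Lpn (LP (LK LD1_c9 LD2_c34 LD3_c50))))))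
theorem f334139 : Led Lsl_cf (LP (LK LD1_c16 LD2_c50 LD3_c3)) = (LP (LK LD1_c16 LD2_c37 LD3_c41)) :=
  Lgr Lrot1 (Lpr_at (K21.f324111 IH) (Lpe (K22.f333904 IH) (Lpr_at (K22.f334128 IH) (Lpn (LP (LK LD1_c16 LD2_c37 LD3_c41))))))
theorem f368620 : Led Lsl_gf (LP (LK LD1_c11 LD2_c53 LD3_c21)) = (LP (LK LD1_c20 LD2_c55 LD3_c9)) :=
  Lgr Lrot148 (Lpr_dt (K22.f283449 IH) (Lpr_gt (K22.f334311 IH) (Lpr_dt (K22.f334107 IH) (Lpe (f334139 IH) (Lpr_df (K15.f238165 IH) (Lpe (f330894 IH) (Lpe (f322248 IH) (Lpr_gf (K56.f324772 IH) (Lpr_ct (f368614 IH) (Lpn (LP (LK LD1_c20 LD2_c55 LD3_c9))))))))))))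
theorem f334141 : Led Lsl_ef (LP (LK LD1_c19 LD2_c54 LD3_c57)) = (LP (LK LD1_c16 LD2_c37 LD3_c41)) :=
  Lgr Lrot20 (Lpe (K22.f333871 IH) (Lpr_et (K22.f333900 IH) (Lpr_at (K22.f334128 IH) (Lpn (LP (LK LD1_c16 LD2_c37 LD3_c41))))))
theorem f335288 : Led Lsl_dt (LP (LK LD1_c10 LD2_c40 LD3_c18)) = (LP (LK LD1_c19 LD2_c19 LD3_c28)) :=
  Lre_d IH (LK LD1_c10 LD2_c40 LD3_c18) (LK LD1_c19 LD2_c19 LD3_c28) Lrfl Lrfl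
theorem f338484 : Led Lsl_ft (LP (LK LD1_c19 LD2_c19 LD3_c28)) = (LP (LK LD1_c10 LD2_c40 LD3_c17)) :=
  Lre_f IH (LK LD1_c19 LD2_c19 LD3_c28) (LK LD1_c10 LD2_c40 LD3_c17) Lrfl Lrfl
theorem f338485 : Led Lsl_gf (LP (LK LD1_c20 LD2_c56 LD3_c13)) = (LP (LK LD1_c19 LD2_c19 LD3_c28)) :=
  Lgr Lrot47 (Lpr_gt (K22.f42198 IH) (Lpr_af (K56.f338470 IH) (Lpe (f338484 IH) (Lpn (LP (LK LD1_c19 LD2_c19 LD3_c28))))))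
theorem f368623 : Led Lsl_et (LP (LK LD1_c16 LD2_c36 LD3_c28)) = (LP (LK LD1_c20 LD2_c55 LD3_c9)) :=
  Lgr Lrot121 (Lpe (K22.f333842 IH) (Lpr_gf (f338485 IH) (Lpe (f335288 IH) (Lpe (K56.f338457 IH) (Lpe (K22.f329765 IH) (Lpr_ef (f334141 IH) (Lpr_dt (K22.f334108 IH) (Lpe (K22.f334311 IH) (Lpe (K22.f283449 IH) (Lpr_gf (f368620 IH) (Lpn (LP (LK LD1_c20 LD2_c55 LD3_c9)))))))))))))
theorem f555721 : Led Lsl_gt (LP (LK LD1_c10 LD2_c37 LD3_c16)) = (LP (LK LD1_c10 LD2_c37 LD3_c15)) :=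
  Lgr Lrot139 (Lpe (K16.f256889 IH) (Lpe (K15.f250434 IH) (Lpe (K22.f256897 IH) (Lpr_dt (K22.f42187 IH) (Lpe (K22.f42198 IH) (Lpr_df (K22.f333842 IH) (Lpr_et (f368623 IH) (Lpe (f267290 IH) (Lpe (f267301 IH) (Lpr_dt (f555322 IH) (Lpn (LP (LK LD1_c10 LD2_c37 LD3_c15)))))))))))))
theorem f266726 : Led Lsl_dt (LP (LK LD1_c10 LD2_c37 LD3_c17)) = (LP (LK LD1_c6 LD2_c4 LD3_c39)) :=
  Lgr Lrot6 (Lpr_gt (K15.f182161 IH) (Lpr_ct (K15.f190161 IH) (Lpr_gt (K15.f266710 IH) (Lpe (K15.f256238 IH) (Lpe (K15.f250439 IH) (Lpe (K15.f249231 IH) (Lpe (K14.f250432 IH) (Lpe (K15.f182799 IH) (Lpe (K15.f231861 IH) (Lpn (LP (LK LD1_c6 LD2_c4 LD3_c39))))))))))))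
theorem f555226 : Led Lsl_at (LP (LK LD1_c10 LD2_c37 LD3_c13)) = (LP (LK LD1_c10 LD2_c37 LD3_c17)) :=
  Lgr Lrot51 (Lpr_df (K39.f555224 IH) (Lpe (K16.f273897 IH) (Lpe (f266726 IH) (Lpn (LP (LK LD1_c10 LD2_c37 LD3_c17))))))
theorem f555723 : Led Lsl_ft (LP (LK LD1_c10 LD2_c37 LD3_c16)) = (LP (LK LD1_c10 LD2_c37 LD3_c13)) :=
  Lgr Lrot2 (Lpr_gt (f555721 IH) (Lpe (K39.f555326 IH) (Lpe (f555226 IH) (Lpn (LP (LK LD1_c10 LD2_c37 LD3_c13))))))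
theorem f554622 : Led Lsl_at (LP (LK LD1_c10 LD2_c37 LD3_c14)) = (LP (LK LD1_c10 LD2_c37 LD3_c16)) :=
  Lgr Lrot107 (Lpr_cf (K39.f554620 IH) (Lpe (K21.f274359 IH) (Lpr_cf (K16.f274299 IH) (Lpn (LP (LK LD1_c10 LD2_c37 LD3_c16))))))
theorem f555725 : Led Lsl_ff (LP (LK LD1_c10 LD2_c37 LD3_c14)) = (LP (LK LD1_c10 LD2_c37 LD3_c17)) :=
  Lgr Lrot30 (Lpr_at (f554622 IH) (Lpr_ft (f555723 IH) (Lpr_at (f555226 IH) (Lpn (LP (LK LD1_c10 LD2_c37 LD3_c17))))))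
theorem f182162 : Led Lsl_bt (LP (LK LD1_c19 LD2_c14 LD3_c22)) = (LP (LK LD1_c10 LD2_c37 LD3_c17)) :=
  Lre_b IH (LK LD1_c19 LD2_c14 LD3_c22) (LK LD1_c10 LD2_c37 LD3_c17) Lrfl Lrfl
theorem f555727 : Led Lsl_ft (LP (LK LD1_c19 LD2_c14 LD3_c18)) = (LP (LK LD1_c19 LD2_c14 LD3_c22)) :=
  Lgr Lrot75 (Lpe (f554624 IH) (Lpr_ff (f555725 IH) (Lpe (f182162 IH) (Lpn (LP (LK LD1_c19 LD2_c14 LD3_c22))))))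
theorem f187551 : Led Lsl_bt (LP (LK LD1_c5 LD2_c20 LD3_c23)) = (LP (LK LD1_c10 LD2_c30 LD3_c47)) :=
  Lre_b IH (LK LD1_c5 LD2_c20 LD3_c23) (LK LD1_c10 LD2_c30 LD3_c47) Lrfl Lrfl
theorem f187511 : Led Lsl_gt (LP (LK LD1_c10 LD2_c33 LD3_c49)) = (LP (LK LD1_c5 LD2_c21 LD3_c48)) :=
  Lre_g IH (LK LD1_c10 LD2_c33 LD3_c49) (LK LD1_c5 LD2_c21 LD3_c48) Lrfl Lrfl
theorem f409271 : Led Lsl_bt (LP (LK LD1_c19 LD2_c7 LD3_c54)) = (LP (LK LD1_c10 LD2_c33 LD3_c49)) :=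
  Lre_b IH (LK LD1_c19 LD2_c7 LD3_c54) (LK LD1_c10 LD2_c33 LD3_c49) Lrfl Lrfl
theorem f409272 : Led Lsl_ct (LP (LK LD1_c19 LD2_c7 LD3_c54)) = (LP (LK LD1_c28 LD2_c33 LD3_c25)) :=
  Lre_c IH (LK LD1_c19 LD2_c7 LD3_c54) (LK LD1_c28 LD2_c33 LD3_c25) Lrfl Lrfl
theorem f618694 : Led Lsl_ct (LP (LK LD1_c19 LD2_c3 LD3_c6)) = (LP (LK LD1_c28 LD2_c29 LD3_c26)) :=
  Lre_c IH (LK LD1_c19 LD2_c3 LD3_c6) (LK LD1_c28 LD2_c29 LD3_c26) Lrfl Lrfl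
theorem f618737 : Led Lsl_gf (LP (LK LD1_c28 LD2_c33 LD3_c25)) = (LP (LK LD1_c28 LD2_c29 LD3_c26)) :=
  Lgr Lrot129 (Lpe (f409272 IH) (Lpr_bt (f409271 IH) (Lpr_gt (f187511 IH) (Lpe (K72.f216087 IH) (Lpr_ct (K15.f198902 IH) (Lpr_gt (K10.f41515 IH) (Lpe (K10.f46455 IH) (Lpr_bt (f187551 IH) (Lpr_gt (f618733 IH) (Lpr_ct (f618694 IH) (Lpn (LP (LK LD1_c28 LD2_c29 LD3_c26)))))))))))))
theorem f618816 : Led Lsl_at (LP (LK LD1_c19 LD2_c14 LD3_c22)) = (LP (LK LD1_c28 LD2_c33 LD3_c25)) :=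
  Lgr Lrot26 (Lpe (f555727 IH) (Lpr_gt (f618811 IH) (Lpe (f618737 IH) (Lpn (LP (LK LD1_c28 LD2_c33 LD3_c25))))))
theorem f266736 : Led Lsl_bt (LP (LK LD1_c10 LD2_c37 LD3_c17)) = (LP (LK LD1_c19 LD2_c14 LD3_c22)) :=
  Lre_b IH (LK LD1_c10 LD2_c37 LD3_c17) (LK LD1_c19 LD2_c14 LD3_c22) Lrfl Lrfl
theorem f266737 : Led Lsl_dt (LP (LK LD1_c19 LD2_c14 LD3_c22)) = (LP (LK LD1_c11 LD2_c52 LD3_c50)) :=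
  Lgr Lrot79 (Lpe (f266736 IH) (Lpr_df (K15.f266728 IH) (Lpe (K17.f250442 IH) (Lpn (LP (LK LD1_c11 LD2_c52 LD3_c50))))))
theorem f412631 : Led Lsl_df (LP (LK LD1_c19 LD2_c14 LD3_c22)) = (LP (LK LD1_c11 LD2_c52 LD3_c50)) :=
  Lgr Lrot38 (Lpr_dt (f266737 IH) (Lpn (LP (LK LD1_c11 LD2_c52 LD3_c50))))
theorem f618820 : Led Lsl_df (LP (LK LD1_c20 LD2_c56 LD3_c1)) = (LP (LK LD1_c28 LD2_c33 LD3_c25)) :=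
  Lgr Lrot18 (Lpr_at (K26.f273968 IH) (Lpe (f412631 IH) (Lpr_at (f618816 IH) (Lpn (LP (LK LD1_c28 LD2_c33 LD3_c25))))))
theorem f265153 : Led Lsl_bt (LP (LK LD1_c6 LD2_c4 LD3_c31)) = (LP (LK LD1_c11 LD2_c52 LD3_c33)) :=
  Lre_b IH (LK LD1_c6 LD2_c4 LD3_c31) (LK LD1_c11 LD2_c52 LD3_c33) Lrfl Lrfl
theorem f194979 : Led Lsl_ct (LP (LK LD1_c11 LD2_c52 LD3_c33)) = (LP (LK LD1_c20 LD2_c55 LD3_c38)) :=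
  Lre_c IH (LK LD1_c11 LD2_c52 LD3_c33) (LK LD1_c20 LD2_c55 LD3_c38) Lrfl Lrfl
theorem f586601 : Led Lsl_bt (LP (LK LD1_c20 LD2_c55 LD3_c38)) = (LP (LK LD1_c18 LD2_c52 LD3_c24)) :=
  Lgr Lrot128 (Lpe (f194979 IH) (Lpe (f265153 IH) (Lpr_cf (K15.f183854 IH) (Lpe (K56.f265235 IH) (Lpr_cf (K45.f586599 IH) (Lpn (LP (LK LD1_c18 LD2_c52 LD3_c24))))))))
theorem f194992 : Led Lsl_ct (LP (LK LD1_c20 LD2_c55 LD3_c38)) = (LP (LK LD1_c11 LD2_c52 LD3_c33)) :=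
  Lre_c IH (LK LD1_c20 LD2_c55 LD3_c38) (LK LD1_c11 LD2_c52 LD3_c33) Lrfl Lrfl
theorem f194990 : Led Lsl_gt (LP (LK LD1_c20 LD2_c55 LD3_c37)) = (LP (LK LD1_c11 LD2_c52 LD3_c33)) :=
  Lre_g IH (LK LD1_c20 LD2_c55 LD3_c37) (LK LD1_c11 LD2_c52 LD3_c33) Lrfl Lrfl
theorem f603387 : Led Lsl_cf (LP (LK LD1_c20 LD2_c55 LD3_c37)) = (LP (LK LD1_c20 LD2_c58 LD3_c61)) :=
  Lgr Lrot125 (Lpr_gt (f194990 IH) (Lpe (f194992 IH) (Lpr_bt (f586601 IH) (Lpr_gt (K45.f214733 IH) (Lpe (K45.f32089 IH) (Lpr_ct (K13.f49190 IH) (Lpr_gt (K10.f48235 IH) (Lpe (K15.f261388 IH) (Lpr_bt (K26.f263550 IH) (Lpr_gt (K26.f263505 IH) (Lpn (LP (LK LD1_c20 LD2_c58 LD3_c61)))))))))))))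
theorem f603390 : Led Lsl_ct (LP (LK LD1_c20 LD2_c55 LD3_c37)) = (LP (LK LD1_c20 LD2_c58 LD3_c61)) :=
  Lgr Lrot59 (Lpr_cf (f603387 IH) (Lpn (LP (LK LD1_c20 LD2_c58 LD3_c61))))
theorem f182899 : Led Lsl_bt (LP (LK LD1_c8 LD2_c14 LD3_c0)) = (LP (LK LD1_c15 LD2_c29 LD3_c25)) :=
  Lre_b IH (LK LD1_c8 LD2_c14 LD3_c0) (LK LD1_c15 LD2_c29 LD3_c25) Lrfl Lrfl
theorem f265143 : Led Lsl_bt (LP (LK LD1_c11 LD2_c52 LD3_c33)) = (LP (LK LD1_c6 LD2_c4 LD3_c31)) :=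
  Lre_b IH (LK LD1_c11 LD2_c52 LD3_c33) (LK LD1_c6 LD2_c4 LD3_c31) Lrfl Lrfl
theorem f265206 : Led Lsl_ft (LP (LK LD1_c15 LD2_c29 LD3_c25)) = (LP (LK LD1_c11 LD2_c52 LD3_c33)) :=
  Lgr Lrot75 (Lpe (f182899 IH) (Lpr_ff (K15.f265164 IH) (Lpe (f265143 IH) (Lpn (LP (LK LD1_c11 LD2_c52 LD3_c33))))))
theorem f194989 : Led Lsl_dt (LP (LK LD1_c11 LD2_c52 LD3_c33)) = (LP (LK LD1_c6 LD2_c4 LD3_c30)) :=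
  Lre_d IH (LK LD1_c11 LD2_c52 LD3_c33) (LK LD1_c6 LD2_c4 LD3_c30) Lrfl Lrfl
theorem f412704 : Led Lsl_df (LP (LK LD1_c15 LD2_c29 LD3_c25)) = (LP (LK LD1_c11 LD2_c52 LD3_c34)) :=
  Lgr Lrot78 (Lpr_ft (f265206 IH) (Lpr_dt (f194989 IH) (Lpr_ft (K10.f194959 IH) (Lpn (LP (LK LD1_c11 LD2_c52 LD3_c34))))))
theorem f412713 : Led Lsl_dt (LP (LK LD1_c15 LD2_c29 LD3_c25)) = (LP (LK LD1_c11 LD2_c52 LD3_c34)) :=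
  Lgr Lrot42 (Lpr_df (f412704 IH) (Lpn (LP (LK LD1_c11 LD2_c52 LD3_c34))))
theorem f412698 : Led Lsl_at (LP (LK LD1_c25 LD2_c22 LD3_c25)) = (LP (LK LD1_c15 LD2_c29 LD3_c25)) :=
  Lre_a IH (LK LD1_c25 LD2_c22 LD3_c25) (LK LD1_c15 LD2_c29 LD3_c25) Lrfl Lrfl
theorem f195353 : Led Lsl_at (LP (LK LD1_c11 LD2_c52 LD3_c34)) = (LP (LK LD1_c20 LD2_c55 LD3_c24)) :=
  Lre_a IH (LK LD1_c11 LD2_c52 LD3_c34) (LK LD1_c20 LD2_c55 LD3_c24) Lrfl Lrfl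
theorem f412716 : Led Lsl_df (LP (LK LD1_c25 LD2_c22 LD3_c25)) = (LP (LK LD1_c20 LD2_c55 LD3_c24)) :=
  Lgr Lrot18 (Lpr_at (f412698 IH) (Lpr_dt (f412713 IH) (Lpr_at (f195353 IH) (Lpn (LP (LK LD1_c20 LD2_c55 LD3_c24))))))
theorem f195335 : Led Lsl_dt (LP (LK LD1_c20 LD2_c55 LD3_c35)) = (LP (LK LD1_c11 LD2_c52 LD3_c32)) :=
  Lre_d IH (LK LD1_c20 LD2_c55 LD3_c35) (LK LD1_c11 LD2_c52 LD3_c32) Lrfl Lrfl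
theorem f412721 : Led Lsl_ft (LP (LK LD1_c25 LD2_c22 LD3_c25)) = (LP (LK LD1_c20 LD2_c55 LD3_c35)) :=
  Lgr Lrot54 (Lpr_df (f412716 IH) (Lpe (f195346 IH) (Lpe (f195335 IH) (Lpn (LP (LK LD1_c20 LD2_c55 LD3_c35))))))
theorem f412723 : Led Lsl_at (LP (LK LD1_c20 LD2_c55 LD3_c35)) = (LP (LK LD1_c11 LD2_c52 LD3_c33)) :=
  Lre_a IH (LK LD1_c20 LD2_c55 LD3_c35) (LK LD1_c11 LD2_c52 LD3_c33) Lrfl Lrfl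
theorem f412728 : Led Lsl_gt (LP (LK LD1_c25 LD2_c22 LD3_c25)) = (LP (LK LD1_c20 LD2_c55 LD3_c37)) :=
  Lgr Lrot5 (Lpr_ft (f412721 IH) (Lpr_at (f412723 IH) (Lpe (f194990 IH) (Lpn (LP (LK LD1_c20 LD2_c55 LD3_c37))))))
theorem f412710 : Led Lsl_at (LP (LK LD1_c15 LD2_c29 LD3_c25)) = (LP (LK LD1_c25 LD2_c22 LD3_c25)) :=
  Lre_a IH (LK LD1_c15 LD2_c29 LD3_c25) (LK LD1_c25 LD2_c22 LD3_c25) Lrfl Lrfl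
theorem f412711 : Led Lsl_dt (LP (LK LD1_c25 LD2_c22 LD3_c25)) = (LP (LK LD1_c20 LD2_c55 LD3_c24)) :=
  Lgr Lrot44 (Lpe (f412710 IH) (Lpr_df (f412704 IH) (Lpe (K70.f194952 IH) (Lpn (LP (LK LD1_c20 LD2_c55 LD3_c24))))))
theorem f196018 : Led Lsl_ct (LP (LK LD1_c11 LD2_c52 LD3_c31)) = (LP (LK LD1_c20 LD2_c55 LD3_c32)) :=
  Lre_c IH (LK LD1_c11 LD2_c52 LD3_c31) (LK LD1_c20 LD2_c55 LD3_c32) Lrfl Lrfl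
theorem f618824 : Led Lsl_gt (LP (LK LD1_c20 LD2_c55 LD3_c32)) = (LP (LK LD1_c19 LD2_c7 LD3_c54)) :=
  Lgr Lrot150 (Lpe (f196018 IH) (Lpe (K70.f195359 IH) (Lpe (f412711 IH) (Lpr_gt (f412728 IH) (Lpr_ct (f603390 IH) (Lpr_gt (K26.f273953 IH) (Lpe (K26.f273969 IH) (Lpr_df (f618820 IH) (Lpe (f409272 IH) (Lpn (LP (LK LD1_c19 LD2_c7 LD3_c54))))))))))))
theorem f446699 : Led Lsl_gt (LP (LK LD1_c2 LD2_c59 LD3_c27)) = (LP (LK LD1_c6 LD2_c6 LD3_c40)) :=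
  Lre_g IH (LK LD1_c2 LD2_c59 LD3_c27) (LK LD1_c6 LD2_c6 LD3_c40) Lrfl Lrfl
theorem f555558 : Led Lsl_gt (LP (LK LD1_c21 LD2_c1 LD3_c20)) = (LP (LK LD1_c11 LD2_c56 LD3_c28)) :=
  Lre_g IH (LK LD1_c21 LD2_c1 LD3_c20) (LK LD1_c11 LD2_c56 LD3_c28) Lrfl Lrfl
theorem f417314 : Led Lsl_ct (LP (LK LD1_c28 LD2_c33 LD3_c25)) = (LP (LK LD1_c19 LD2_c7 LD3_c54)) :=
  Lre_c IH (LK LD1_c28 LD2_c33 LD3_c25) (LK LD1_c19 LD2_c7 LD3_c54) Lrfl Lrfl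
theorem f618826 : Led Lsl_bf (LP (LK LD1_c21 LD2_c1 LD3_c20)) = (LP (LK LD1_c28 LD2_c33 LD3_c25)) :=
  Lgr Lrot156 (Lpr_gt (f555558 IH) (Lpe (K65.f555555 IH) (Lpr_ct (K65.f555554 IH) (Lpr_gt (f446699 IH) (Lpe (f190184 IH) (Lpr_bt (f190183 IH) (Lpr_gt (K70.f195359 IH) (Lpr_ct (f196018 IH) (Lpr_gt (f618824 IH) (Lpe (f417314 IH) (Lpn (LP (LK LD1_c28 LD2_c33 LD3_c25)))))))))))))
theorem f618822 : Led Lsl_dt (LP (LK LD1_c20 LD2_c56 LD3_c1)) = (LP (LK LD1_c28 LD2_c33 LD3_c25)) :=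
  Lgr Lrot42 (Lpr_df (f618820 IH) (Lpn (LP (LK LD1_c28 LD2_c33 LD3_c25))))
theorem f618830 : Led Lsl_dt (LP (LK LD1_c21 LD2_c1 LD3_c20)) = (LP (LK LD1_c27 LD2_c57 LD3_c1)) :=
  Lgr Lrot79 (Lpr_bf (f618826 IH) (Lpe (f618822 IH) (Lpr_bf (K26.f279816 IH) (Lpn (LP (LK LD1_c27 LD2_c57 LD3_c1))))))
theorem f618832 : Led Lsl_df (LP (LK LD1_c21 LD2_c1 LD3_c20)) = (LP (LK LD1_c27 LD2_c57 LD3_c1)) :=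
  Lgr Lrot38 (Lpr_dt (f618830 IH) (Lpn (LP (LK LD1_c27 LD2_c57 LD3_c1))))
theorem f942782 : Led Lsl_at (LP (LK LD1_c21 LD2_c1 LD3_c20)) = v43879 :=
  Lgr Lrot51 (Lpr_df (f618832 IH) (Lpe (K68.f279818 IH) (Lpr_df (f942778 IH) (Lpn v43879))))
theorem f618828 : Led Lsl_bt (LP (LK LD1_c21 LD2_c1 LD3_c20)) = (LP (LK LD1_c28 LD2_c33 LD3_c25)) :=
  Lgr Lrot127 (Lpr_bf (f618826 IH) (Lpn (LP (LK LD1_c28 LD2_c33 LD3_c25))))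
theorem f195396 : Led Lsl_at (LP (LK LD1_c19 LD2_c3 LD3_c8)) = (LP (LK LD1_c28 LD2_c29 LD3_c26)) :=
  Lre_a IH (LK LD1_c19 LD2_c3 LD3_c8) (LK LD1_c28 LD2_c29 LD3_c26) Lrfl Lrfl
theorem f618715 : Led Lsl_af (LP (LK LD1_c26 LD2_c7 LD3_c51)) = (LP (LK LD1_c19 LD2_c3 LD3_c4)) :=
  Lgr Lrot45 (Lpr_ft (f618712 IH) (Lpr_at (f195396 IH) (Lpr_ft (f618682 IH) (Lpn (LP (LK LD1_c19 LD2_c3 LD3_c4))))))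
theorem f618809 : Led Lsl_gt (LP (LK LD1_c28 LD2_c33 LD3_c25)) = (LP (LK LD1_c26 LD2_c7 LD3_c51)) :=
  Lgr Lrot46 (Lpr_gf (f618737 IH) (Lpr_ft (f618682 IH) (Lpe (f618715 IH) (Lpn (LP (LK LD1_c26 LD2_c7 LD3_c51))))))
theorem f194969 : Led Lsl_gt (LP (LK LD1_c11 LD2_c53 LD3_c53)) = (LP (LK LD1_c20 LD2_c57 LD3_c44)) :=
  Lre_g IH (LK LD1_c11 LD2_c53 LD3_c53) (LK LD1_c20 LD2_c57 LD3_c44) Lrfl Lrfl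
theorem f618834 : Led Lsl_ct (LP (LK LD1_c21 LD2_c1 LD3_c20)) = (LP (LK LD1_c20 LD2_c57 LD3_c44)) :=
  Lgr Lrot10 (Lpr_bt (f618828 IH) (Lpr_gt (f618809 IH) (Lpr_ct (f618723 IH) (Lpe (f618730 IH) (Lpe (K10.f194947 IH) (Lpr_bt (f194967 IH) (Lpr_gt (K10.f42476 IH) (Lpe (K65.f194968 IH) (Lpr_ct (K65.f187477 IH) (Lpr_gt (f194969 IH) (Lpn (LP (LK LD1_c20 LD2_c57 LD3_c44)))))))))))))
theorem f618836 : Led Lsl_cf (LP (LK LD1_c21 LD2_c1 LD3_c20)) = (LP (LK LD1_c20 LD2_c57 LD3_c44)) :=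
  Lgr Lrot11 (Lpr_ct (f618834 IH) (Lpn (LP (LK LD1_c20 LD2_c57 LD3_c44))))
theorem f942784 : Led Lsl_at (LP (LK LD1_c15 LD2_c25 LD3_c12)) = (LP (LK LD1_c20 LD2_c57 LD3_c44)) :=
  Lgr Lrot107 (Lpr_cf (f942783 IH) (Lpe (f942782 IH) (Lpr_cf (f618836 IH) (Lpn (LP (LK LD1_c20 LD2_c57 LD3_c44))))))
theorem f942785 : Led Lsl_at (LP (LK LD1_c15 LD2_c25 LD3_c12)) = (LP (LK LD1_c20 LD2_c57 LD3_c44)) :=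
  Leop (Lpe (f942784 IH) (Lpn (LP (LK LD1_c15 LD2_c25 LD3_c12))))
theorem seed_2681 : LEOK LG_a (LK LD1_c15 LD2_c25 LD3_c12) :=
  Leoe_a (LK LD1_c15 LD2_c25 LD3_c12) (f942785 IH)
def v43899 : LQ := Led Lsl_ft (LP (LK LD1_c10 LD2_c37 LD3_c56))
theorem f942882 : Led Lsl_ft (LP (LK LD1_c10 LD2_c37 LD3_c56)) = v43899 :=
  Lrfl
theorem f406307 : Led Lsl_gt (LP (LK LD1_c10 LD2_c37 LD3_c56)) = (LP (LK LD1_c19 LD2_c15 LD3_c25)) :=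
  Lre_g IH (LK LD1_c10 LD2_c37 LD3_c56) (LK LD1_c19 LD2_c15 LD3_c25) Lrfl Lrfl
theorem f303044 : Led Lsl_at (LP (LK LD1_c5 LD2_c23 LD3_c44)) = (LP (LK LD1_c10 LD2_c37 LD3_c56)) :=
  Lre_a IH (LK LD1_c5 LD2_c23 LD3_c44) (LK LD1_c10 LD2_c37 LD3_c56) Lrfl Lrfl
theorem f406302 : Led Lsl_ft (LP (LK LD1_c10 LD2_c38 LD3_c2)) = (LP (LK LD1_c5 LD2_c23 LD3_c44)) :=
  Lre_f IH (LK LD1_c10 LD2_c38 LD3_c2) (LK LD1_c5 LD2_c23 LD3_c44) Lrfl Lrfl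
theorem f942883 : Led Lsl_af (LP (LK LD1_c10 LD2_c38 LD3_c2)) = v43899 :=
  Lgr Lrot45 (Lpr_ft (f406302 IH) (Lpr_at (f303044 IH) (Lpr_ft (f942882 IH) (Lpn v43899))))
theorem f942885 : Led Lsl_gt (LP (LK LD1_c19 LD2_c15 LD3_c25)) = (LP (LK LD1_c10 LD2_c38 LD3_c2)) :=
  Lgr Lrot46 (Lpe (f406307 IH) (Lpr_ft (f942882 IH) (Lpe (f942883 IH) (Lpn (LP (LK LD1_c10 LD2_c38 LD3_c2))))))
theorem f942886 : Led Lsl_gt (LP (LK LD1_c19 LD2_c15 LD3_c25)) = (LP (LK LD1_c10 LD2_c38 LD3_c2)) :=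
  Leop (Lpe (f942885 IH) (Lpn (LP (LK LD1_c19 LD2_c15 LD3_c25))))
theorem seed_2682 : LEOK LG_g (LK LD1_c19 LD2_c15 LD3_c25) :=
  Leoe_g (LK LD1_c19 LD2_c15 LD3_c25) (f942886 IH)
def v43958 : LQ := Led Lsl_at (LP (LK LD1_c10 LD2_c39 LD3_c7))
theorem f943125 : Led Lsl_at (LP (LK LD1_c10 LD2_c39 LD3_c7)) = v43958 :=
  Lrfl
theorem f276534 : Led Lsl_ct (LP (LK LD1_c16 LD2_c40 LD3_c56)) = (LP (LK LD1_c16 LD2_c39 LD3_c28)) :=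
  Lre_c IH (LK LD1_c16 LD2_c40 LD3_c56) (LK LD1_c16 LD2_c39 LD3_c28) Lrfl Lrfl
theorem f591300 : Led Lsl_ft (LP (LK LD1_c16 LD2_c39 LD3_c28)) = (LP (LK LD1_c17 LD2_c50 LD3_c45)) :=
  Lgr Lrot4 (Lpe (f276534 IH) (Lpr_ff (K69.f591296 IH) (Lpe (K31.f168629 IH) (Lpn (LP (LK LD1_c17 LD2_c50 LD3_c45))))))
theorem f318533 : Led Lsl_bt (LP (LK LD1_c8 LD2_c54 LD3_c17)) = (LP (LK LD1_c16 LD2_c39 LD3_c28)) :=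
  Lre_b IH (LK LD1_c8 LD2_c54 LD3_c17) (LK LD1_c16 LD2_c39 LD3_c28) Lrfl Lrfl
theorem f591304 : Led Lsl_ff (LP (LK LD1_c8 LD2_c54 LD3_c17)) = (LP (LK LD1_c16 LD2_c36 LD3_c21)) :=
  Lgr Lrot25 (Lpr_bt (f318533 IH) (Lpr_ft (f591300 IH) (Lpr_bt (K31.f168657 IH) (Lpn (LP (LK LD1_c16 LD2_c36 LD3_c21))))))
theorem f367613 : Led Lsl_ff (LP (LK LD1_c4 LD2_c28 LD3_c26)) = (LP (LK LD1_c8 LD2_c53 LD3_c1)) :=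
  Lgr Lrot25 (Lpr_bt (K42.f173150 IH) (Lpr_ft (K27.f367611 IH) (Lpr_bt (K31.f168065 IH) (Lpn (LP (LK LD1_c8 LD2_c53 LD3_c1))))))
theorem f377079 : Led Lsl_gf (LP (LK LD1_c8 LD2_c54 LD3_c59)) = (LP (LK LD1_c16 LD2_c36 LD3_c32)) :=
  Lgr Lrot76 (Lpe (K27.f367563 IH) (Lpr_ff (f367613 IH) (Lpr_gt (K69.f168079 IH) (Lpn (LP (LK LD1_c16 LD2_c36 LD3_c32))))))
theorem f293919 : Led Lsl_bt (LP (LK LD1_c15 LD2_c19 LD3_c11)) = (LP (LK LD1_c8 LD2_c54 LD3_c19)) :=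
  Lgr Lrot127 (Lpr_bf (K31.f293914 IH) (Lpn (LP (LK LD1_c8 LD2_c54 LD3_c19))))
theorem f377081 : Led Lsl_gt (LP (LK LD1_c16 LD2_c36 LD3_c21)) = (LP (LK LD1_c8 LD2_c54 LD3_c19)) :=
  Lgr Lrot164 (Lpe (K31.f168657 IH) (Lpr_ct (K31.f168629 IH) (Lpr_gf (K31.f375099 IH) (Lpe (K42.f370104 IH) (Lpr_gf (f377079 IH) (Lpr_bf (K69.f223487 IH) (Lpr_ct (K31.f223486 IH) (Lpe (K67.f292258 IH) (Lpe (K31.f227174 IH) (Lpr_bt (f293919 IH) (Lpn (LP (LK LD1_c8 LD2_c54 LD3_c19)))))))))))))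
theorem f227166 : Led Lsl_at (LP (LK LD1_c15 LD2_c19 LD3_c11)) = (LP (LK LD1_c8 LD2_c8 LD3_c11)) :=
  Lre_a IH (LK LD1_c15 LD2_c19 LD3_c11) (LK LD1_c8 LD2_c8 LD3_c11) Lrfl Lrfl
theorem f292206 : Led Lsl_ff (LP (LK LD1_c15 LD2_c19 LD3_c11)) = (LP (LK LD1_c8 LD2_c54 LD3_c37)) :=
  Lgr Lrot30 (Lpr_at (f227166 IH) (Lpr_ft (K17.f292204 IH) (Lpr_at (K67.f223525 IH) (Lpn (LP (LK LD1_c8 LD2_c54 LD3_c37))))))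
theorem f293937 : Led Lsl_ff (LP (LK LD1_c16 LD2_c36 LD3_c23)) = (LP (LK LD1_c8 LD2_c54 LD3_c19)) :=
  Lgr Lrot25 (Lpe (K69.f265520 IH) (Lpe (f292206 IH) (Lpr_bt (f293919 IH) (Lpn (LP (LK LD1_c8 LD2_c54 LD3_c19))))))
theorem f293939 : Led Lsl_gt (LP (LK LD1_c16 LD2_c36 LD3_c22)) = (LP (LK LD1_c8 LD2_c52 LD3_c58)) :=
  Lre_g IH (LK LD1_c16 LD2_c36 LD3_c22) (LK LD1_c8 LD2_c52 LD3_c58) Lrfl Lrfl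
theorem f293940 : Led Lsl_gf (LP (LK LD1_c16 LD2_c36 LD3_c22)) = (LP (LK LD1_c8 LD2_c54 LD3_c19)) :=
  Lgr Lrot47 (Lpr_gt (f293939 IH) (Lpe (K69.f265464 IH) (Lpr_ff (f293937 IH) (Lpn (LP (LK LD1_c8 LD2_c54 LD3_c19))))))
theorem f591309 : Led Lsl_at (LP (LK LD1_c8 LD2_c54 LD3_c17)) = (LP (LK LD1_c16 LD2_c36 LD3_c22)) :=
  Lgr Lrot26 (Lpr_ff (f591304 IH) (Lpr_gt (f377081 IH) (Lpe (f293940 IH) (Lpn (LP (LK LD1_c16 LD2_c36 LD3_c22))))))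
theorem f591240 : Led Lsl_at (LP (LK LD1_c16 LD2_c39 LD3_c28)) = (LP (LK LD1_c17 LD2_c50 LD3_c42)) :=
  Lgr Lrot107 (Lpe (f276534 IH) (Lpr_af (K69.f591234 IH) (Lpe (K73.f168651 IH) (Lpn (LP (LK LD1_c17 LD2_c50 LD3_c42))))))
theorem f591249 : Led Lsl_af (LP (LK LD1_c16 LD2_c39 LD3_c28)) = (LP (LK LD1_c17 LD2_c50 LD3_c42)) :=
  Lgr Lrot0 (Lpr_at (f591240 IH) (Lpn (LP (LK LD1_c17 LD2_c50 LD3_c42))))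
theorem f374662 : Led Lsl_bt (LP (LK LD1_c16 LD2_c36 LD3_c22)) = (LP (LK LD1_c26 LD2_c33 LD3_c17)) :=
  Lre_b IH (LK LD1_c16 LD2_c36 LD3_c22) (LK LD1_c26 LD2_c33 LD3_c17) Lrfl Lrfl
theorem f591313 : Led Lsl_af (LP (LK LD1_c19 LD2_c5 LD3_c6)) = (LP (LK LD1_c26 LD2_c33 LD3_c17)) :=
  Lgr Lrot36 (Lpe (K73.f168666 IH) (Lpe (f591249 IH) (Lpr_bt (K69.f276533 IH) (Lpr_at (f591309 IH) (Lpr_bt (f374662 IH) (Lpn (LP (LK LD1_c26 LD2_c33 LD3_c17))))))))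
theorem f591398 : Led Lsl_at (LP (LK LD1_c19 LD2_c5 LD3_c6)) = (LP (LK LD1_c26 LD2_c33 LD3_c17)) :=
  Lgr Lrot100 (Lpr_af (f591313 IH) (Lpn (LP (LK LD1_c26 LD2_c33 LD3_c17))))
theorem f293943 : Led Lsl_ct (LP (LK LD1_c26 LD2_c33 LD3_c17)) = (LP (LK LD1_c26 LD2_c33 LD3_c49)) :=
  Lre_c IH (LK LD1_c26 LD2_c33 LD3_c17) (LK LD1_c26 LD2_c33 LD3_c49) Lrfl Lrfl
theorem f941319 : Led Lsl_at (LP (LK LD1_c26 LD2_c33 LD3_c49)) = K73.v43590 :=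
  Lgr Lrot107 (Lpe (f293943 IH) (Lpe (f591398 IH) (Lpr_cf (K73.f941307 IH) (Lpn K73.v43590))))
theorem f943129 : Led Lsl_ff (LP (LK LD1_c26 LD2_c33 LD3_c49)) = v43958 :=
  Lgr Lrot30 (Lpr_at (f941319 IH) (Lpe (K73.f941308 IH) (Lpr_at (f943125 IH) (Lpn v43958))))
theorem f943132 : Led Lsl_ft (LP (LK LD1_c26 LD2_c33 LD3_c49)) = v43958 :=
  Lgr Lrot48 (Lpr_ff (f943129 IH) (Lpn v43958))
theorem f218890 : Led Lsl_bt (LP (LK LD1_c8 LD2_c53 LD3_c8)) = (LP (LK LD1_c16 LD2_c36 LD3_c51)) :=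
  Lre_b IH (LK LD1_c8 LD2_c53 LD3_c8) (LK LD1_c16 LD2_c36 LD3_c51) Lrfl Lrfl
theorem f218883 : Led Lsl_ct (LP (LK LD1_c8 LD2_c53 LD3_c8)) = (LP (LK LD1_c16 LD2_c36 LD3_c52)) :=
  Lre_c IH (LK LD1_c8 LD2_c53 LD3_c8) (LK LD1_c16 LD2_c36 LD3_c52) Lrfl Lrfl
theorem f293942 : Led Lsl_bt (LP (LK LD1_c26 LD2_c33 LD3_c17)) = (LP (LK LD1_c16 LD2_c36 LD3_c22)) :=
  Lre_b IH (LK LD1_c26 LD2_c33 LD3_c17) (LK LD1_c16 LD2_c36 LD3_c22) Lrfl Lrfl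
theorem f393459 : Led Lsl_gf (LP (LK LD1_c16 LD2_c36 LD3_c52)) = (LP (LK LD1_c26 LD2_c33 LD3_c49)) :=
  Lgr Lrot126 (Lpe (f218883 IH) (Lpr_bt (f218890 IH) (Lpr_gt (K67.f393451 IH) (Lpr_ct (K27.f223497 IH) (Lpe (K64.f393102 IH) (Lpe (K31.f227174 IH) (Lpr_bt (f293919 IH) (Lpe (f293940 IH) (Lpe (f293942 IH) (Lpr_ct (f293943 IH) (Lpn (LP (LK LD1_c26 LD2_c33 LD3_c49)))))))))))))
theorem f943126 : Led Lsl_af (LP (LK LD1_c10 LD2_c39 LD3_c7)) = v43958 :=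
  Lgr Lrot0 (Lpr_at (f943125 IH) (Lpn v43958))
def v43957 : LQ := Led Lsl_gf (LP (LK LD1_c10 LD2_c39 LD3_c7))
theorem f943124 : Led Lsl_gf (LP (LK LD1_c10 LD2_c39 LD3_c7)) = v43957 :=
  Lrfl
theorem f943133 : (LP (LK LD1_c16 LD2_c36 LD3_c52)) = v43957 :=
  (Llr Lrot5 (Lpr_gf (f393459 IH) (Lpr_ft (f943132 IH) (Lpe (f943126 IH) (Lpr_gf (f943124 IH) (Lpn v43957)))))).symm
theorem f943134 : Led Lsl_gt (LP (LK LD1_c16 LD2_c36 LD3_c52)) = (LP (LK LD1_c10 LD2_c39 LD3_c7)) :=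
  Leop (Lpr_gf (f943124 IH) (Lpq (f943133 IH) (Lpn (LP (LK LD1_c16 LD2_c36 LD3_c52)))))
theorem seed_2683 : LEOK LG_g (LK LD1_c16 LD2_c36 LD3_c52) :=
  Leoe_g (LK LD1_c16 LD2_c36 LD3_c52) (f943134 IH)
def v43962 : LQ := Led Lsl_ft (LP (LK LD1_c10 LD2_c39 LD3_c10))
theorem f943153 : Led Lsl_ft (LP (LK LD1_c10 LD2_c39 LD3_c10)) = v43962 :=
  Lrfl
theorem f338088 : Led Lsl_gt (LP (LK LD1_c10 LD2_c39 LD3_c10)) = (LP (LK LD1_c19 LD2_c17 LD3_c41)) :=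
  Lre_g IH (LK LD1_c10 LD2_c39 LD3_c10) (LK LD1_c19 LD2_c17 LD3_c41) Lrfl Lrfl
theorem f338024 : Led Lsl_at (LP (LK LD1_c5 LD2_c24 LD3_c14)) = (LP (LK LD1_c10 LD2_c39 LD3_c10)) :=
  Lre_a IH (LK LD1_c5 LD2_c24 LD3_c14) (LK LD1_c10 LD2_c39 LD3_c10) Lrfl Lrfl
theorem f402661 : Led Lsl_ft (LP (LK LD1_c10 LD2_c39 LD3_c18)) = (LP (LK LD1_c5 LD2_c24 LD3_c14)) :=
  Lre_f IH (LK LD1_c10 LD2_c39 LD3_c18) (LK LD1_c5 LD2_c24 LD3_c14) Lrfl Lrfl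
theorem f943154 : Led Lsl_af (LP (LK LD1_c10 LD2_c39 LD3_c18)) = v43962 :=
  Lgr Lrot45 (Lpr_ft (f402661 IH) (Lpr_at (f338024 IH) (Lpr_ft (f943153 IH) (Lpn v43962))))
theorem f943156 : Led Lsl_gt (LP (LK LD1_c19 LD2_c17 LD3_c41)) = (LP (LK LD1_c10 LD2_c39 LD3_c18)) :=
  Lgr Lrot46 (Lpe (f338088 IH) (Lpr_ft (f943153 IH) (Lpe (f943154 IH) (Lpn (LP (LK LD1_c10 LD2_c39 LD3_c18))))))
theorem f943157 : Led Lsl_gt (LP (LK LD1_c19 LD2_c17 LD3_c41)) = (LP (LK LD1_c10 LD2_c39 LD3_c18)) :=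
  Leop (Lpe (f943156 IH) (Lpn (LP (LK LD1_c19 LD2_c17 LD3_c41))))
theorem seed_2684 : LEOK LG_g (LK LD1_c19 LD2_c17 LD3_c41) :=
  Leoe_g (LK LD1_c19 LD2_c17 LD3_c41) (f943157 IH)
def v44025 : LQ := Led Lsl_ct (LP (LK LD1_c10 LD2_c39 LD3_c56))
theorem f943379 : Led Lsl_ct (LP (LK LD1_c10 LD2_c39 LD3_c56)) = v44025 :=
  Lrfl
theorem f943382 : Led Lsl_cf (LP (LK LD1_c10 LD2_c39 LD3_c56)) = v44025 :=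
  Lgr Lrot11 (Lpr_ct (f943379 IH) (Lpn v44025))
theorem f218653 : Led Lsl_bf (LP (LK LD1_c17 LD2_c51 LD3_c55)) = (LP (LK LD1_c10 LD2_c39 LD3_c58)) :=
  Lgr Lrot24 (Lpr_bt (K49.f218618 IH) (Lpn (LP (LK LD1_c10 LD2_c39 LD3_c58))))
theorem f218681 : Led Lsl_gt (LP (LK LD1_c27 LD2_c38 LD3_c32)) = (LP (LK LD1_c17 LD2_c51 LD3_c55)) :=
  Lre_g IH (LK LD1_c27 LD2_c38 LD3_c32) (LK LD1_c17 LD2_c51 LD3_c55) Lrfl Lrfl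
theorem f397726 : Led Lsl_at (LP (LK LD1_c17 LD2_c42 LD3_c61)) = (LP (LK LD1_c9 LD2_c39 LD3_c13)) :=
  Lgr Lrot100 (Lpr_af (K30.f397724 IH) (Lpn (LP (LK LD1_c9 LD2_c39 LD3_c13))))
theorem f550815 : Led Lsl_cf (LP (LK LD1_c17 LD2_c42 LD3_c61)) = (LP (LK LD1_c27 LD2_c28 LD3_c28)) :=
  Lgr Lrot1 (Lpr_at (f397726 IH) (Lpr_ct (K38.f2850 IH) (Lpr_at (K38.f550811 IH) (Lpn (LP (LK LD1_c27 LD2_c28 LD3_c28))))))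
theorem f943381 : Led Lsl_bf (LP (LK LD1_c27 LD2_c28 LD3_c28)) = v44025 :=
  Lgr Lrot90 (Lpe (f550815 IH) (Lpr_bt (K38.f551518 IH) (Lpr_ct (K38.f286867 IH) (Lpr_bt (K38.f218626 IH) (Lpr_ct (f943379 IH) (Lpn v44025))))))
theorem f170965 : Led Lsl_ct (LP (LK LD1_c25 LD2_c43 LD3_c10)) = (LP (LK LD1_c15 LD2_c46 LD3_c30)) :=
  Lre_c IH (LK LD1_c25 LD2_c43 LD3_c10) (LK LD1_c15 LD2_c46 LD3_c30) Lrfl Lrfl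
theorem f943389 : Led Lsl_bf (LP (LK LD1_c27 LD2_c38 LD3_c32)) = (LP (LK LD1_c25 LD2_c43 LD3_c10)) :=
  Lgr Lrot156 (Lpr_gt (f218681 IH) (Lpr_bf (f218653 IH) (Lpr_ct (K22.f218442 IH) (Lpr_gt (K38.f218625 IH) (Lpr_cf (f943382 IH) (Lpe (f943381 IH) (Lpr_gt (K38.f400560 IH) (Lpr_ct (K39.f178429 IH) (Lpr_gt (K39.f551353 IH) (Lpe (f170965 IH) (Lpn (LP (LK LD1_c25 LD2_c43 LD3_c10)))))))))))))
theorem f943390 : Led Lsl_bt (LP (LK LD1_c25 LD2_c43 LD3_c10)) = (LP (LK LD1_c27 LD2_c38 LD3_c32)) :=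
  Leop (Lpr_bf (f943389 IH) (Lpn (LP (LK LD1_c25 LD2_c43 LD3_c10))))
theorem seed_2685 : LEOK LG_b (LK LD1_c25 LD2_c43 LD3_c10) :=
  Leoe_b (LK LD1_c25 LD2_c43 LD3_c10) (f943390 IH)
def v44054 : LQ := Led Lsl_gf (LP (LK LD1_c10 LD2_c40 LD3_c23))
theorem f943492 : Led Lsl_gf (LP (LK LD1_c10 LD2_c40 LD3_c23)) = v44054 :=
  Lrfl
theorem f224481 : Led Lsl_ct (LP (LK LD1_c19 LD2_c19 LD3_c38)) = (LP (LK LD1_c10 LD2_c40 LD3_c23)) :=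
  Lre_c IH (LK LD1_c19 LD2_c19 LD3_c38) (LK LD1_c10 LD2_c40 LD3_c23) Lrfl Lrfl
theorem f183760 : Led Lsl_at (LP (LK LD1_c15 LD2_c51 LD3_c4)) = (LP (LK LD1_c8 LD2_c26 LD3_c24)) :=
  Lre_a IH (LK LD1_c15 LD2_c51 LD3_c4) (LK LD1_c8 LD2_c26 LD3_c24) Lrfl Lrfl
theorem f221149 : Led Lsl_ft (LP (LK LD1_c10 LD2_c53 LD3_c41)) = (LP (LK LD1_c15 LD2_c51 LD3_c4)) :=
  Lgr Lrot101 (Lpe (K15.f221047 IH) (Lpr_ff (K12.f221139 IH) (Lpe (f183760 IH) (Lpn (LP (LK LD1_c15 LD2_c51 LD3_c4))))))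
theorem f52782 : Led Lsl_ft (LP (LK LD1_c8 LD2_c27 LD3_c7)) = (LP (LK LD1_c15 LD2_c52 LD3_c4)) :=
  Lre_f IH (LK LD1_c8 LD2_c27 LD3_c7) (LK LD1_c15 LD2_c52 LD3_c4) Lrfl Lrfl
theorem f221226 : Led Lsl_bf (LP (LK LD1_c10 LD2_c53 LD3_c41)) = (LP (LK LD1_c15 LD2_c52 LD3_c4)) :=
  Lgr Lrot61 (Lpr_ft (f221149 IH) (Lpr_bt (K12.f183761 IH) (Lpr_ft (f52782 IH) (Lpn (LP (LK LD1_c15 LD2_c52 LD3_c4))))))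
theorem f51987 : Led Lsl_gt (LP (LK LD1_c15 LD2_c51 LD3_c3)) = (LP (LK LD1_c8 LD2_c26 LD3_c24)) :=
  Lre_g IH (LK LD1_c15 LD2_c51 LD3_c3) (LK LD1_c8 LD2_c26 LD3_c24) Lrfl Lrfl
theorem f221228 : Led Lsl_gt (LP (LK LD1_c10 LD2_c53 LD3_c41)) = (LP (LK LD1_c15 LD2_c51 LD3_c3)) :=
  Lgr Lrot5 (Lpr_ft (f221149 IH) (Lpr_at (f183760 IH) (Lpe (f51987 IH) (Lpn (LP (LK LD1_c15 LD2_c51 LD3_c3))))))
theorem f943493 : Led Lsl_ct (LP (LK LD1_c15 LD2_c51 LD3_c3)) = v44054 :=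
  Lgr Lrot91 (Lpe (f221228 IH) (Lpr_bf (f221226 IH) (Lpr_ct (K31.f52747 IH) (Lpe (K31.f52754 IH) (Lpe (K30.f52832 IH) (Lpr_bt (K30.f221230 IH) (Lpr_gf (K31.f369253 IH) (Lpr_bf (K27.f374606 IH) (Lpr_ct (f224481 IH) (Lpr_gf (f943492 IH) (Lpn v44054)))))))))))
theorem f392727 : Led Lsl_bt (LP (LK LD1_c15 LD2_c51 LD3_c3)) = (LP (LK LD1_c25 LD2_c46 LD3_c56)) :=
  Lre_b IH (LK LD1_c15 LD2_c51 LD3_c3) (LK LD1_c25 LD2_c46 LD3_c56) Lrfl Lrfl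
theorem f389013 : Led Lsl_ct (LP (LK LD1_c15 LD2_c54 LD3_c21)) = (LP (LK LD1_c25 LD2_c5 LD3_c6)) :=
  Lgr Lrot40 (Lpr_ff (K30.f389009 IH) (Lpe (K27.f217408 IH) (Lpe (K38.f388996 IH) (Lpn (LP (LK LD1_c25 LD2_c5 LD3_c6))))))
theorem f388999 : Led Lsl_gf (LP (LK LD1_c19 LD2_c40 LD3_c52)) = (LP (LK LD1_c25 LD2_c5 LD3_c6)) :=
  Lgr Lrot47 (Lpr_gt (K38.f388997 IH) (Lpe (K38.f388981 IH) (Lpe (K38.f388996 IH) (Lpn (LP (LK LD1_c25 LD2_c5 LD3_c6))))))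
theorem f389001 : Led Lsl_bt (LP (LK LD1_c10 LD2_c53 LD3_c25)) = (LP (LK LD1_c19 LD2_c40 LD3_c51)) :=
  Lre_b IH (LK LD1_c10 LD2_c53 LD3_c25) (LK LD1_c19 LD2_c40 LD3_c51) Lrfl Lrfl
theorem f943495 : Led Lsl_gf (LP (LK LD1_c25 LD2_c46 LD3_c56)) = (LP (LK LD1_c19 LD2_c40 LD3_c51)) :=
  Lgr Lrot124 (Lpe (f392727 IH) (Lpr_ct (f943493 IH) (Lpe (f943492 IH) (Lpe (f224481 IH) (Lpe (K27.f374606 IH) (Lpe (K31.f369253 IH) (Lpr_ct (f389013 IH) (Lpe (f388999 IH) (Lpe (K38.f221431 IH) (Lpr_bt (f389001 IH) (Lpn (LP (LK LD1_c19 LD2_c40 LD3_c51)))))))))))))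
theorem f943496 : Led Lsl_gt (LP (LK LD1_c19 LD2_c40 LD3_c51)) = (LP (LK LD1_c25 LD2_c46 LD3_c56)) :=
  Leop (Lpr_gf (f943495 IH) (Lpn (LP (LK LD1_c19 LD2_c40 LD3_c51))))
theorem seed_2686 : LEOK LG_g (LK LD1_c19 LD2_c40 LD3_c51) :=
  Leoe_g (LK LD1_c19 LD2_c40 LD3_c51) (f943496 IH)
def v44076 : LQ := Led Lsl_ft (LP (LK LD1_c10 LD2_c40 LD3_c41))
theorem f943597 : Led Lsl_ft (LP (LK LD1_c10 LD2_c40 LD3_c41)) = v44076 :=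
  Lrfl
theorem f263988 : Led Lsl_gt (LP (LK LD1_c10 LD2_c40 LD3_c41)) = (LP (LK LD1_c19 LD2_c20 LD3_c4)) :=
  Lre_g IH (LK LD1_c10 LD2_c40 LD3_c41) (LK LD1_c19 LD2_c20 LD3_c4) Lrfl Lrfl
theorem f224175 : Led Lsl_et (LP (LK LD1_c5 LD2_c22 LD3_c52)) = (LP (LK LD1_c10 LD2_c36 LD3_c1)) :=
  Lre_e IH (LK LD1_c5 LD2_c22 LD3_c52) (LK LD1_c10 LD2_c36 LD3_c1) Lrfl Lrfl
theorem f263983 : Led Lsl_et (LP (LK LD1_c10 LD2_c40 LD3_c41)) = (LP (LK LD1_c5 LD2_c24 LD3_c59)) :=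
  Lre_e IH (LK LD1_c10 LD2_c40 LD3_c41) (LK LD1_c5 LD2_c24 LD3_c59) Lrfl Lrfl
theorem f277092 : Led Lsl_at (LP (LK LD1_c10 LD2_c36 LD3_c1)) = (LP (LK LD1_c10 LD2_c40 LD3_c41)) :=
  Lgr Lrot80 (Lpe (f224175 IH) (Lpr_af (K16.f277021 IH) (Lpe (f263983 IH) (Lpn (LP (LK LD1_c10 LD2_c40 LD3_c41))))))
theorem f277027 : Led Lsl_ft (LP (LK LD1_c19 LD2_c11 LD3_c48)) = (LP (LK LD1_c10 LD2_c36 LD3_c1)) :=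
  Lre_f IH (LK LD1_c19 LD2_c11 LD3_c48) (LK LD1_c10 LD2_c36 LD3_c1) Lrfl Lrfl
theorem f943598 : Led Lsl_af (LP (LK LD1_c19 LD2_c11 LD3_c48)) = v44076 :=
  Lgr Lrot45 (Lpr_ft (f277027 IH) (Lpr_at (f277092 IH) (Lpr_ft (f943597 IH) (Lpn v44076))))
theorem f943600 : Led Lsl_gt (LP (LK LD1_c19 LD2_c20 LD3_c4)) = (LP (LK LD1_c19 LD2_c11 LD3_c48)) :=
  Lgr Lrot46 (Lpe (f263988 IH) (Lpr_ft (f943597 IH) (Lpe (f943598 IH) (Lpn (LP (LK LD1_c19 LD2_c11 LD3_c48))))))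
theorem f943601 : Led Lsl_gt (LP (LK LD1_c19 LD2_c20 LD3_c4)) = (LP (LK LD1_c19 LD2_c11 LD3_c48)) :=
  Leop (Lpe (f943600 IH) (Lpn (LP (LK LD1_c19 LD2_c20 LD3_c4))))
theorem seed_2687 : LEOK LG_g (LK LD1_c19 LD2_c20 LD3_c4) :=
  Leoe_g (LK LD1_c19 LD2_c20 LD3_c4) (f943601 IH)
def v44103 : LQ := Led Lsl_ct (LP (LK LD1_c10 LD2_c40 LD3_c53))
theorem f943698 : Led Lsl_ct (LP (LK LD1_c10 LD2_c40 LD3_c53)) = v44103 :=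
  Lrfl
def v43616 : LQ := Led Lsl_at (LP (LK LD1_c10 LD2_c32 LD3_c1))
theorem f941453 : Led Lsl_at (LP (LK LD1_c10 LD2_c32 LD3_c1)) = v43616 :=
  Lrfl
theorem f376590 : Led Lsl_ff (LP (LK LD1_c10 LD2_c32 LD3_c1)) = (LP (LK LD1_c5 LD2_c24 LD3_c55)) :=
  Lgr Lrot3 (Lpr_ft (K38.f369142 IH) (Lpn (LP (LK LD1_c5 LD2_c24 LD3_c55))))
theorem f263976 : Led Lsl_at (LP (LK LD1_c10 LD2_c40 LD3_c27)) = (LP (LK LD1_c5 LD2_c24 LD3_c55)) :=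
  Lre_a IH (LK LD1_c10 LD2_c40 LD3_c27) (LK LD1_c5 LD2_c24 LD3_c55) Lrfl Lrfl
theorem f941457 : Led Lsl_ff (LP (LK LD1_c10 LD2_c40 LD3_c27)) = v43616 :=
  Lgr Lrot30 (Lpr_at (f263976 IH) (Lpe (f376590 IH) (Lpr_at (f941453 IH) (Lpn v43616))))
theorem f168026 : Led Lsl_dt (LP (LK LD1_c19 LD2_c4 LD3_c52)) = (LP (LK LD1_c10 LD2_c31 LD3_c57)) :=
  Lre_d IH (LK LD1_c19 LD2_c4 LD3_c52) (LK LD1_c10 LD2_c31 LD3_c57) Lrfl Lrfl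
theorem f373305 : Led Lsl_dt (LP (LK LD1_c5 LD2_c24 LD3_c53)) = (LP (LK LD1_c10 LD2_c40 LD3_c27)) :=
  Lre_d IH (LK LD1_c5 LD2_c24 LD3_c53) (LK LD1_c10 LD2_c40 LD3_c27) Lrfl Lrfl
theorem f373306 : Led Lsl_bf (LP (LK LD1_c19 LD2_c4 LD3_c52)) = (LP (LK LD1_c10 LD2_c40 LD3_c27)) :=
  Lgr Lrot93 (Lpr_dt (f168026 IH) (Lpr_bt (K41.f373302 IH) (Lpr_dt (f373305 IH) (Lpn (LP (LK LD1_c10 LD2_c40 LD3_c27))))))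
theorem f370143 : Led Lsl_ct (LP (LK LD1_c10 LD2_c40 LD3_c52)) = (LP (LK LD1_c5 LD2_c25 LD3_c3)) :=
  Lre_c IH (LK LD1_c10 LD2_c40 LD3_c52) (LK LD1_c5 LD2_c25 LD3_c3) Lrfl Lrfl
theorem f375055 : Led Lsl_ff (LP (LK LD1_c10 LD2_c31 LD3_c57)) = (LP (LK LD1_c5 LD2_c25 LD3_c3)) :=
  Lgr Lrot23 (Lpe (K27.f168002 IH) (Lpr_ft (K31.f370177 IH) (Lpr_ct (f370143 IH) (Lpn (LP (LK LD1_c5 LD2_c25 LD3_c3))))))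
theorem f168030 : Led Lsl_dt (LP (LK LD1_c10 LD2_c31 LD3_c57)) = (LP (LK LD1_c19 LD2_c4 LD3_c52)) :=
  Lre_d IH (LK LD1_c10 LD2_c31 LD3_c57) (LK LD1_c19 LD2_c4 LD3_c52) Lrfl Lrfl
theorem f370142 : Led Lsl_dt (LP (LK LD1_c10 LD2_c40 LD3_c53)) = (LP (LK LD1_c5 LD2_c25 LD3_c3)) :=
  Lre_d IH (LK LD1_c10 LD2_c40 LD3_c53) (LK LD1_c5 LD2_c25 LD3_c3) Lrfl Lrfl
theorem f375068 : Led Lsl_ft (LP (LK LD1_c19 LD2_c4 LD3_c52)) = (LP (LK LD1_c10 LD2_c40 LD3_c53)) :=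
  Lgr Lrot54 (Lpe (f168030 IH) (Lpr_ff (f375055 IH) (Lpe (f370142 IH) (Lpn (LP (LK LD1_c10 LD2_c40 LD3_c53))))))
theorem f941461 : Led Lsl_bt (LP (LK LD1_c10 LD2_c40 LD3_c53)) = v43616 :=
  Lgr Lrot35 (Lpe (f375068 IH) (Lpr_bf (f373306 IH) (Lpr_ff (f941457 IH) (Lpn v43616))))
theorem f941458 : Led Lsl_gt (LP (LK LD1_c10 LD2_c40 LD3_c33)) = v43616 :=
  Lgr Lrot46 (Lpe (K38.f246472 IH) (Lpe (f376590 IH) (Lpr_at (f941453 IH) (Lpn v43616))))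
theorem f550441 : Led Lsl_bt (LP (LK LD1_c8 LD2_c44 LD3_c11)) = (LP (LK LD1_c10 LD2_c40 LD3_c33)) :=
  Lgr Lrot128 (Lpe (K38.f237286 IH) (Lpe (K39.f237721 IH) (Lpe (K13.f237712 IH) (Lpe (K38.f269631 IH) (Lpr_cf (K38.f550439 IH) (Lpn (LP (LK LD1_c10 LD2_c40 LD3_c33))))))))
theorem f549963 : Led Lsl_bt (LP (LK LD1_c19 LD2_c12 LD3_c37)) = (LP (LK LD1_c10 LD2_c36 LD3_c23)) :=
  Lre_b IH (LK LD1_c19 LD2_c12 LD3_c37) (LK LD1_c10 LD2_c36 LD3_c23) Lrfl Lrfl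
theorem f592459 : Led Lsl_bt (LP (LK LD1_c22 LD2_c49 LD3_c48)) = (LP (LK LD1_c13 LD2_c29 LD3_c20)) :=
  Lre_b IH (LK LD1_c22 LD2_c49 LD3_c48) (LK LD1_c13 LD2_c29 LD3_c20) Lrfl Lrfl
theorem f592452 : Led Lsl_et (LP (LK LD1_c13 LD2_c29 LD3_c43)) = (LP (LK LD1_c19 LD2_c17 LD3_c44)) :=
  Lgr Lrot87 (Lpr_ef (K47.f592448 IH) (Lpn (LP (LK LD1_c19 LD2_c17 LD3_c44))))
theorem f592456 : Led Lsl_ct (LP (LK LD1_c22 LD2_c49 LD3_c48)) = (LP (LK LD1_c13 LD2_c29 LD3_c43)) :=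
  Lre_c IH (LK LD1_c22 LD2_c49 LD3_c48) (LK LD1_c13 LD2_c29 LD3_c43) Lrfl Lrfl
theorem f592457 : Led Lsl_ef (LP (LK LD1_c22 LD2_c49 LD3_c48)) = (LP (LK LD1_c19 LD2_c20 LD3_c32)) :=
  Lgr Lrot28 (Lpr_ct (f592456 IH) (Lpr_et (f592452 IH) (Lpr_ct (K14.f246511 IH) (Lpn (LP (LK LD1_c19 LD2_c20 LD3_c32))))))
theorem f592472 : Led Lsl_bf (LP (LK LD1_c19 LD2_c20 LD3_c32)) = (LP (LK LD1_c12 LD2_c7 LD3_c13)) :=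
  Lgr Lrot96 (Lpe (f592457 IH) (Lpr_bt (f592459 IH) (Lpr_et (K47.f592464 IH) (Lpn (LP (LK LD1_c12 LD2_c7 LD3_c13))))))
theorem f241765 : Led Lsl_ff (LP (LK LD1_c12 LD2_c7 LD3_c13)) = (LP (LK LD1_c11 LD2_c23 LD3_c36)) :=
  Lgr Lrot3 (Lpr_ft (K13.f241761 IH) (Lpn (LP (LK LD1_c11 LD2_c23 LD3_c36))))
theorem f60737 : Led Lsl_bt (LP (LK LD1_c20 LD2_c21 LD3_c21)) = (LP (LK LD1_c11 LD2_c23 LD3_c36)) :=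
  Lre_b IH (LK LD1_c20 LD2_c21 LD3_c21) (LK LD1_c11 LD2_c23 LD3_c36) Lrfl Lrfl
theorem f592488 : Led Lsl_ft (LP (LK LD1_c19 LD2_c20 LD3_c32)) = (LP (LK LD1_c20 LD2_c21 LD3_c21)) :=
  Lgr Lrot75 (Lpr_bf (f592472 IH) (Lpr_ff (f241765 IH) (Lpe (f60737 IH) (Lpn (LP (LK LD1_c20 LD2_c21 LD3_c21))))))
theorem f592492 : Led Lsl_ff (LP (LK LD1_c19 LD2_c20 LD3_c32)) = (LP (LK LD1_c20 LD2_c21 LD3_c21)) :=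
  Lgr Lrot3 (Lpr_ft (f592488 IH) (Lpn (LP (LK LD1_c20 LD2_c21 LD3_c21))))
theorem f591501 : Led Lsl_ft (LP (LK LD1_c19 LD2_c17 LD3_c44)) = (LP (LK LD1_c19 LD2_c12 LD3_c37)) :=
  Lgr Lrot75 (Lpe (K47.f246513 IH) (Lpr_ff (K47.f591499 IH) (Lpe (f549963 IH) (Lpn (LP (LK LD1_c19 LD2_c12 LD3_c37))))))
theorem f592494 : Led Lsl_ct (LP (LK LD1_c19 LD2_c12 LD3_c37)) = (LP (LK LD1_c20 LD2_c21 LD3_c21)) :=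
  Lgr Lrot40 (Lpe (f591501 IH) (Lpr_cf (K47.f246514 IH) (Lpr_ff (f592492 IH) (Lpn (LP (LK LD1_c20 LD2_c21 LD3_c21))))))
theorem f943701 : Led Lsl_gf (LP (LK LD1_c20 LD2_c21 LD3_c21)) = v44103 :=
  Lgr Lrot126 (Lpe (f592494 IH) (Lpr_bt (f549963 IH) (Lpe (K38.f549957 IH) (Lpr_ct (K38.f549961 IH) (Lpr_gt (K38.f237722 IH) (Lpe (K31.f237282 IH) (Lpr_bt (f550441 IH) (Lpr_gt (f941458 IH) (Lpe (f941461 IH) (Lpr_ct (f943698 IH) (Lpn v44103)))))))))))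
theorem f212037 : Led Lsl_bt (LP (LK LD1_c20 LD2_c21 LD3_c31)) = (LP (LK LD1_c11 LD2_c23 LD3_c41)) :=
  Lre_b IH (LK LD1_c20 LD2_c21 LD3_c31) (LK LD1_c11 LD2_c23 LD3_c41) Lrfl Lrfl
theorem f241315 : Led Lsl_bt (LP (LK LD1_c11 LD2_c23 LD3_c36)) = (LP (LK LD1_c20 LD2_c21 LD3_c21)) :=
  Lre_b IH (LK LD1_c11 LD2_c23 LD3_c36) (LK LD1_c20 LD2_c21 LD3_c21) Lrfl Lrfl
theorem f241329 : Led Lsl_df (LP (LK LD1_c20 LD2_c21 LD3_c31)) = (LP (LK LD1_c20 LD2_c21 LD3_c21)) :=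
  Lgr Lrot12 (Lpr_bt (f212037 IH) (Lpr_dt (K37.f241319 IH) (Lpr_bt (f241315 IH) (Lpn (LP (LK LD1_c20 LD2_c21 LD3_c21))))))
theorem f224326 : Led Lsl_dt (LP (LK LD1_c19 LD2_c22 LD3_c38)) = (LP (LK LD1_c10 LD2_c42 LD3_c10)) :=
  Lre_d IH (LK LD1_c19 LD2_c22 LD3_c38) (LK LD1_c10 LD2_c42 LD3_c10) Lrfl Lrfl
def v1813 : LQ := Led Lsl_et (LP (LK LD1_c1 LD2_c27 LD3_c57))
theorem f503052 : Led Lsl_et (LP (LK LD1_c1 LD2_c27 LD3_c57)) = v1813 :=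
  Lrfl
theorem f537194 : (LP (LK LD1_c2 LD2_c8 LD3_c41)) = v1813 :=
  Lefun (Lecon (Lfl_ef (K35.f453526 IH)) (K35.f537049 IH)) (f503052 IH)
theorem f70020 : Led Lsl_et (LP (LK LD1_c1 LD2_c27 LD3_c59)) = (LP (LK LD1_c0 LD2_c40 LD3_c41)) :=
  Lre_e IH (LK LD1_c1 LD2_c27 LD3_c59) (LK LD1_c0 LD2_c40 LD3_c41) Lrfl Lrfl
theorem f503053 : Led Lsl_bf (LP (LK LD1_c1 LD2_c27 LD3_c59)) = v1813 :=
  Lgr Lrot96 (Lpr_et (f70020 IH) (Lpr_bt (K35.f37161 IH) (Lpr_et (f503052 IH) (Lpn v1813))))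
theorem f241316 : Led Lsl_bt (LP (LK LD1_c11 LD2_c23 LD3_c41)) = (LP (LK LD1_c20 LD2_c21 LD3_c31)) :=
  Lre_b IH (LK LD1_c11 LD2_c23 LD3_c41) (LK LD1_c20 LD2_c21 LD3_c31) Lrfl Lrfl
theorem f622611 : Led Lsl_gf (LP (LK LD1_c19 LD2_c22 LD3_c38)) = (LP (LK LD1_c20 LD2_c21 LD3_c31)) :=
  Lgr Lrot85 (Lpr_dt (f224326 IH) (Lpr_ct (K68.f224289 IH) (Lpr_bt (K30.f217683 IH) (Lpr_gt (K14.f217344 IH) (Lpr_dt (K13.f218231 IH) (Lpr_ct (K12.f218237 IH) (Lpr_bt (K9.f173086 IH) (Lpr_gt (K9.f168187 IH) (Lpr_dt (K9.f168188 IH) (Lpr_ct (K9.f178467 IH) (Lpe (K14.f211496 IH) (Lpe (K35.f313436 IH) (Lpe (K19.f315092 IH) (Lpr_ct (K13.f173283 IH) (Lpqs (f537194 IH) (Lpe (f503053 IH) (Lpe (K13.f197821 IH) (Lpr_dt (K13.f175845 IH) (Lpr_ct (K13.f212032 IH) (Lpr_bt (f241316 IH) (Lpn (LP (LK LD1_c20 LD2_c21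 LD3_c31)))))))))))))))))))))))
theorem f224262 : Led Lsl_df (LP (LK LD1_c5 LD2_c25 LD3_c31)) = (LP (LK LD1_c9 LD2_c41 LD3_c49)) :=
  Lgr Lrot12 (Lpr_bt (K30.f217683 IH) (Lpr_dt (K15.f224254 IH) (Lpr_bt (K38.f171918 IH) (Lpn (LP (LK LD1_c9 LD2_c41 LD3_c49))))))
theorem f370132 : Led Lsl_at (LP (LK LD1_c19 LD2_c4 LD3_c52)) = (LP (LK LD1_c10 LD2_c31 LD3_c58)) :=
  Lre_a IH (LK LD1_c19 LD2_c4 LD3_c52) (LK LD1_c10 LD2_c31 LD3_c58) Lrfl Lrfl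
theorem f370133 : Led Lsl_at (LP (LK LD1_c5 LD2_c25 LD3_c5)) = (LP (LK LD1_c10 LD2_c40 LD3_c53)) :=
  Lre_a IH (LK LD1_c5 LD2_c25 LD3_c5) (LK LD1_c10 LD2_c40 LD3_c53) Lrfl Lrfl
theorem f370134 : Led Lsl_ff (LP (LK LD1_c19 LD2_c4 LD3_c52)) = (LP (LK LD1_c10 LD2_c40 LD3_c53)) :=
  Lgr Lrot30 (Lpr_at (f370132 IH) (Lpr_ft (K27.f370128 IH) (Lpr_at (f370133 IH) (Lpn (LP (LK LD1_c10 LD2_c40 LD3_c53))))))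
theorem f168013 : Led Lsl_gt (LP (LK LD1_c19 LD2_c4 LD3_c55)) = (LP (LK LD1_c10 LD2_c31 LD3_c58)) :=
  Lre_g IH (LK LD1_c19 LD2_c4 LD3_c55) (LK LD1_c10 LD2_c31 LD3_c58) Lrfl Lrfl
theorem f375087 : Led Lsl_gf (LP (LK LD1_c19 LD2_c4 LD3_c55)) = (LP (LK LD1_c10 LD2_c40 LD3_c53)) :=
  Lgr Lrot47 (Lpr_gt (f168013 IH) (Lpe (f370132 IH) (Lpr_ff (f370134 IH) (Lpn (LP (LK LD1_c10 LD2_c40 LD3_c53))))))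
theorem f943702 : Led Lsl_df (LP (LK LD1_c17 LD2_c50 LD3_c10)) = (LP (LK LD1_c19 LD2_c4 LD3_c55)) :=
  Lgr Lrot153 (Lpr_gt (K38.f171971 IH) (Lpe (f224262 IH) (Lpe (K68.f224289 IH) (Lpe (f224326 IH) (Lpr_gf (f622611 IH) (Lpr_df (f241329 IH) (Lpr_gf (f943701 IH) (Lpe (f943698 IH) (Lpe (f375087 IH) (Lpn (LP (LK LD1_c19 LD2_c4 LD3_c55))))))))))))
theorem f943703 : Led Lsl_dt (LP (LK LD1_c19 LD2_c4 LD3_c55)) = (LP (LK LD1_c17 LD2_c50 LD3_c10)) :=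
  Leop (Lpr_df (f943702 IH) (Lpn (LP (LK LD1_c19 LD2_c4 LD3_c55))))
theorem seed_2688 : LEOK LG_d (LK LD1_c19 LD2_c4 LD3_c55) :=
  Leoe_d (LK LD1_c19 LD2_c4 LD3_c55) (f943703 IH)
theorem f551540 : Led Lsl_dt (LP (LK LD1_c19 LD2_c17 LD3_c44)) = (LP (LK LD1_c19 LD2_c4 LD3_c1)) :=
  Lgr Lrot79 (Lpe (K47.f246513 IH) (Lpr_df (K41.f551538 IH) (Lpe (K47.f226915 IH) (Lpn (LP (LK LD1_c19 LD2_c4 LD3_c1))))))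
theorem f351662 : Led Lsl_dt (LP (LK LD1_c10 LD2_c36 LD3_c21)) = (LP (LK LD1_c19 LD2_c12 LD3_c37)) :=
  Lre_d IH (LK LD1_c10 LD2_c36 LD3_c21) (LK LD1_c19 LD2_c12 LD3_c37) Lrfl Lrfl
theorem f591826 : Led Lsl_ff (LP (LK LD1_c19 LD2_c17 LD3_c44)) = (LP (LK LD1_c19 LD2_c12 LD3_c37)) :=
  Lgr Lrot19 (Lpr_dt (f551540 IH) (Lpr_ft (K71.f591820 IH) (Lpr_dt (f351662 IH) (Lpn (LP (LK LD1_c19 LD2_c12 LD3_c37))))))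
theorem f592490 : Led Lsl_cf (LP (LK LD1_c19 LD2_c12 LD3_c37)) = (LP (LK LD1_c20 LD2_c21 LD3_c21)) :=
  Lgr Lrot108 (Lpe (f591826 IH) (Lpr_ct (K14.f246511 IH) (Lpr_ft (f592488 IH) (Lpn (LP (LK LD1_c20 LD2_c21 LD3_c21))))))
theorem f351661 : Led Lsl_dt (LP (LK LD1_c19 LD2_c12 LD3_c37)) = (LP (LK LD1_c10 LD2_c36 LD3_c21)) :=
  Lre_d IH (LK LD1_c19 LD2_c12 LD3_c37) (LK LD1_c10 LD2_c36 LD3_c21) Lrfl Lrfl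
theorem f221578 : Led Lsl_gt (LP (LK LD1_c10 LD2_c31 LD3_c58)) = (LP (LK LD1_c19 LD2_c4 LD3_c54)) :=
  Lre_g IH (LK LD1_c10 LD2_c31 LD3_c58) (LK LD1_c19 LD2_c4 LD3_c54) Lrfl Lrfl
theorem f370140 : Led Lsl_gt (LP (LK LD1_c19 LD2_c4 LD3_c54)) = (LP (LK LD1_c10 LD2_c40 LD3_c53)) :=
  Lgr Lrot46 (Lpe (f221578 IH) (Lpr_ft (K27.f370128 IH) (Lpr_at (f370133 IH) (Lpn (LP (LK LD1_c10 LD2_c40 LD3_c53))))))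
theorem f943704 : Led Lsl_dt (LP (LK LD1_c17 LD2_c50 LD3_c9)) = (LP (LK LD1_c19 LD2_c4 LD3_c54)) :=
  Lgr Lrot6 (Lpe (K38.f351656 IH) (Lpr_ct (K38.f221659 IH) (Lpr_gt (K71.f351658 IH) (Lpr_ct (K71.f224286 IH) (Lpe (f351661 IH) (Lpr_cf (f592490 IH) (Lpr_gf (f943701 IH) (Lpe (f943698 IH) (Lpe (f370140 IH) (Lpn (LP (LK LD1_c19 LD2_c4 LD3_c54))))))))))))
theorem f943705 : Led Lsl_dt (LP (LK LD1_c17 LD2_c50 LD3_c9)) = (LP (LK LD1_c19 LD2_c4 LD3_c54)) :=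
  Leop (Lpe (f943704 IH) (Lpn (LP (LK LD1_c17 LD2_c50 LD3_c9))))
theorem seed_2689 : LEOK LG_d (LK LD1_c17 LD2_c50 LD3_c9) :=
  Leoe_d (LK LD1_c17 LD2_c50 LD3_c9) (f943705 IH)
def v44111 : LQ := Led Lsl_ct (LP (LK LD1_c10 LD2_c40 LD3_c58))
theorem f943753 : Led Lsl_ct (LP (LK LD1_c10 LD2_c40 LD3_c58)) = v44111 :=
  Lrfl
theorem f943754 : Led Lsl_cf (LP (LK LD1_c10 LD2_c40 LD3_c58)) = v44111 :=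
  Lgr Lrot11 (Lpr_ct (f943753 IH) (Lpn v44111))
theorem f263878 : Led Lsl_gt (LP (LK LD1_c5 LD2_c25 LD3_c5)) = (LP (LK LD1_c10 LD2_c40 LD3_c58)) :=
  Lre_g IH (LK LD1_c5 LD2_c25 LD3_c5) (LK LD1_c10 LD2_c40 LD3_c58) Lrfl Lrfl
theorem f70070 : Led Lsl_bt (LP (LK LD1_c8 LD2_c45 LD3_c33)) = (LP (LK LD1_c16 LD2_c23 LD3_c43)) :=
  Lre_b IH (LK LD1_c8 LD2_c45 LD3_c33) (LK LD1_c16 LD2_c23 LD3_c43) Lrfl Lrfl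
theorem f70081 : Led Lsl_gt (LP (LK LD1_c26 LD2_c21 LD3_c44)) = (LP (LK LD1_c16 LD2_c23 LD3_c43)) :=
  Lre_g IH (LK LD1_c26 LD2_c21 LD3_c44) (LK LD1_c16 LD2_c23 LD3_c43) Lrfl Lrfl
theorem f943755 : Led Lsl_bf (LP (LK LD1_c26 LD2_c21 LD3_c44)) = v44111 :=
  Lgr Lrot156 (Lpr_gt (f70081 IH) (Lpe (f70070 IH) (Lpr_ct (K13.f70004 IH) (Lpe (K39.f538854 IH) (Lpe (K47.f588290 IH) (Lpe (f592472 IH) (Lpr_gt (K14.f246510 IH) (Lpr_ct (K14.f246516 IH) (Lpr_gt (f263878 IH) (Lpr_cf (f943754 IH) (Lpn v44111)))))))))))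
theorem f443183 : Led Lsl_dt (LP (LK LD1_c12 LD2_c6 LD3_c40)) = (LP (LK LD1_c21 LD2_c12 LD3_c43)) :=
  Lre_d IH (LK LD1_c12 LD2_c6 LD3_c40) (LK LD1_c21 LD2_c12 LD3_c43) Lrfl Lrfl
theorem f443184 : Led Lsl_ft (LP (LK LD1_c21 LD2_c12 LD3_c44)) = (LP (LK LD1_c12 LD2_c6 LD3_c40)) :=
  Lre_f IH (LK LD1_c21 LD2_c12 LD3_c44) (LK LD1_c12 LD2_c6 LD3_c40) Lrfl Lrfl
theorem f443185 : Led Lsl_df (LP (LK LD1_c21 LD2_c12 LD3_c44)) = (LP (LK LD1_c16 LD2_c23 LD3_c43)) :=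
  Lgr Lrot78 (Lpr_ft (f443184 IH) (Lpr_dt (f443183 IH) (Lpr_ft (K68.f69964 IH) (Lpn (LP (LK LD1_c16 LD2_c23 LD3_c43))))))
theorem f69951 : Led Lsl_bt (LP (LK LD1_c12 LD2_c6 LD3_c42)) = (LP (LK LD1_c21 LD2_c12 LD3_c44)) :=
  Lre_b IH (LK LD1_c12 LD2_c6 LD3_c42) (LK LD1_c21 LD2_c12 LD3_c44) Lrfl Lrfl
theorem f238987 : Led Lsl_bt (LP (LK LD1_c16 LD2_c14 LD3_c58)) = (LP (LK LD1_c8 LD2_c40 LD3_c36)) :=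
  Lre_b IH (LK LD1_c16 LD2_c14 LD3_c58) (LK LD1_c8 LD2_c40 LD3_c36) Lrfl Lrfl
theorem f551702 : Led Lsl_ct (LP (LK LD1_c21 LD2_c12 LD3_c44)) = (LP (LK LD1_c16 LD2_c14 LD3_c58)) :=
  Lgr Lrot83 (Lpe (f69951 IH) (Lpe (K2.f37245 IH) (Lpr_bf (K39.f551695 IH) (Lpr_cf (K13.f239095 IH) (Lpe (f238987 IH) (Lpn (LP (LK LD1_c16 LD2_c14 LD3_c58))))))))
theorem f376610 : Led Lsl_dt (LP (LK LD1_c19 LD2_c20 LD3_c27)) = (LP (LK LD1_c10 LD2_c40 LD3_c58)) :=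
  Lre_d IH (LK LD1_c19 LD2_c20 LD3_c27) (LK LD1_c10 LD2_c40 LD3_c58) Lrfl Lrfl
theorem f943757 : Led Lsl_gt (LP (LK LD1_c15 LD2_c1 LD3_c14)) = (LP (LK LD1_c19 LD2_c20 LD3_c27)) :=
  Lgr Lrot190 (Lpe (K30.f187246 IH) (Lpe (K12.f169271 IH) (Lpe (K12.f169270 IH) (Lpr_gf (K10.f187242 IH) (Lpe (K9.f51411 IH) (Lpe (K9.f48248 IH) (Lpe (K13.f782 IH) (Lpe (K10.f804 IH) (Lpr_bf (K15.f229761 IH) (Lpr_cf (K12.f229414 IH) (Lpe (K13.f29712 IH) (Lpr_gf (K13.f238985 IH) (Lpe (f238987 IH) (Lpe (f551702 IH) (Lpr_df (f443185 IH) (Lpe (f70081 IH) (Lpr_bf (f943755 IH) (Lpe (f943753 IH) (Lpe (f376610 IH) (Lpn (LP (LK LD1_c19 LD2_c20 LD3_c27))))))))))))))))))))))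
theorem f943758 : Led Lsl_gt (LP (LK LD1_c15 LD2_c1 LD3_c14)) = (LP (LK LD1_c19 LD2_c20 LD3_c27)) :=
  Leop (Lpe (f943757 IH) (Lpn (LP (LK LD1_c15 LD2_c1 LD3_c14))))
theorem seed_2690 : LEOK LG_g (LK LD1_c15 LD2_c1 LD3_c14) :=
  Leoe_g (LK LD1_c15 LD2_c1 LD3_c14) (f943758 IH)
def v44190 : LQ := Led Lsl_ft (LP (LK LD1_c10 LD2_c41 LD3_c46))
theorem f944214 : Led Lsl_ft (LP (LK LD1_c10 LD2_c41 LD3_c46)) = v44190 :=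
  Lrfl
theorem f332340 : Led Lsl_gt (LP (LK LD1_c10 LD2_c41 LD3_c46)) = (LP (LK LD1_c19 LD2_c21 LD3_c35)) :=
  Lre_g IH (LK LD1_c10 LD2_c41 LD3_c46) (LK LD1_c19 LD2_c21 LD3_c35) Lrfl Lrfl
theorem f583168 : Led Lsl_at (LP (LK LD1_c5 LD2_c25 LD3_c26)) = (LP (LK LD1_c10 LD2_c41 LD3_c46)) :=
  Lre_a IH (LK LD1_c5 LD2_c25 LD3_c26) (LK LD1_c10 LD2_c41 LD3_c46) Lrfl Lrfl
theorem f583101 : Led Lsl_ft (LP (LK LD1_c10 LD2_c41 LD3_c60)) = (LP (LK LD1_c5 LD2_c25 LD3_c26)) :=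
  Lre_f IH (LK LD1_c10 LD2_c41 LD3_c60) (LK LD1_c5 LD2_c25 LD3_c26) Lrfl Lrfl
theorem f944215 : Led Lsl_af (LP (LK LD1_c10 LD2_c41 LD3_c60)) = v44190 :=
  Lgr Lrot45 (Lpr_ft (f583101 IH) (Lpr_at (f583168 IH) (Lpr_ft (f944214 IH) (Lpn v44190))))
theorem f944217 : Led Lsl_gt (LP (LK LD1_c19 LD2_c21 LD3_c35)) = (LP (LK LD1_c10 LD2_c41 LD3_c60)) :=
  Lgr Lrot46 (Lpe (f332340 IH) (Lpr_ft (f944214 IH) (Lpe (f944215 IH) (Lpn (LP (LK LD1_c10 LD2_c41 LD3_c60))))))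
theorem f944218 : Led Lsl_gt (LP (LK LD1_c19 LD2_c21 LD3_c35)) = (LP (LK LD1_c10 LD2_c41 LD3_c60)) :=
  Leop (Lpe (f944217 IH) (Lpn (LP (LK LD1_c19 LD2_c21 LD3_c35))))
theorem seed_2691 : LEOK LG_g (LK LD1_c19 LD2_c21 LD3_c35) :=
  Leoe_g (LK LD1_c19 LD2_c21 LD3_c35) (f944218 IH)
def v44239 : LQ := Led Lsl_at (LP (LK LD1_c10 LD2_c42 LD3_c21))
theorem f944403 : Led Lsl_at (LP (LK LD1_c10 LD2_c42 LD3_c21)) = v44239 :=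
  Lrfl
theorem f726665 : Led Lsl_dt (LP (LK LD1_c5 LD2_c25 LD3_c35)) = (LP (LK LD1_c10 LD2_c42 LD3_c21)) :=
  Lre_d IH (LK LD1_c5 LD2_c25 LD3_c35) (LK LD1_c10 LD2_c42 LD3_c21) Lrfl Lrfl
def v14803 : LQ := Led Lsl_at (LP (LK LD1_c5 LD2_c25 LD3_c35))
theorem f726689 : Led Lsl_at (LP (LK LD1_c5 LD2_c25 LD3_c35)) = v14803 :=
  Lrfl
theorem f726690 : Led Lsl_af (LP (LK LD1_c5 LD2_c25 LD3_c35)) = v14803 :=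
  Lgr Lrot0 (Lpr_at (f726689 IH) (Lpn v14803))
theorem f944405 : Led Lsl_df v14803 = v44239 :=
  Lgr Lrot18 (Lpe (f726690 IH) (Lpr_dt (f726665 IH) (Lpr_at (f944403 IH) (Lpn v44239))))
theorem f412986 : Led Lsl_gt (LP (LK LD1_c2 LD2_c39 LD3_c13)) = (LP (LK LD1_c5 LD2_c25 LD3_c35)) :=
  Lre_g IH (LK LD1_c2 LD2_c39 LD3_c13) (LK LD1_c5 LD2_c25 LD3_c35) Lrfl Lrfl
theorem f215931 : Led Lsl_gt (LP (LK LD1_c5 LD2_c25 LD3_c36)) = (LP (LK LD1_c2 LD2_c39 LD3_c13)) :=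
  Lre_g IH (LK LD1_c5 LD2_c25 LD3_c36) (LK LD1_c2 LD2_c39 LD3_c13) Lrfl Lrfl
theorem f726695 : Led Lsl_ft (LP (LK LD1_c5 LD2_c25 LD3_c36)) = v14803 :=
  Lgr Lrot2 (Lpr_gt (f215931 IH) (Lpr_gt (f412986 IH) (Lpr_af (f726690 IH) (Lpn v14803))))
theorem f726699 : Led Lsl_ff (LP (LK LD1_c5 LD2_c25 LD3_c36)) = v14803 :=
  Lgr Lrot3 (Lpr_ft (f726695 IH) (Lpn v14803))
theorem f726669 : Led Lsl_dt (LP (LK LD1_c5 LD2_c25 LD3_c36)) = (LP (LK LD1_c10 LD2_c42 LD3_c25)) :=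
  Lre_d IH (LK LD1_c5 LD2_c25 LD3_c36) (LK LD1_c10 LD2_c42 LD3_c25) Lrfl Lrfl
theorem f944407 : Led Lsl_ft (LP (LK LD1_c10 LD2_c42 LD3_c25)) = v44239 :=
  Lgr Lrot54 (Lpe (f726669 IH) (Lpr_ff (f726699 IH) (Lpr_df (f944405 IH) (Lpn v44239))))
theorem f944404 : Led Lsl_af (LP (LK LD1_c10 LD2_c42 LD3_c21)) = v44239 :=
  Lgr Lrot0 (Lpr_at (f944403 IH) (Lpn v44239))
theorem f259939 : Led Lsl_gt (LP (LK LD1_c19 LD2_c22 LD3_c59)) = (LP (LK LD1_c10 LD2_c42 LD3_c21)) :=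
  Lre_g IH (LK LD1_c19 LD2_c22 LD3_c59) (LK LD1_c10 LD2_c42 LD3_c21) Lrfl Lrfl
theorem f944410 : Led Lsl_gt (LP (LK LD1_c10 LD2_c42 LD3_c25)) = (LP (LK LD1_c19 LD2_c22 LD3_c59)) :=
  Lgr Lrot5 (Lpr_ft (f944407 IH) (Lpe (f944404 IH) (Lpe (f259939 IH) (Lpn (LP (LK LD1_c19 LD2_c22 LD3_c59))))))
theorem f944411 : Led Lsl_gt (LP (LK LD1_c10 LD2_c42 LD3_c25)) = (LP (LK LD1_c19 LD2_c22 LD3_c59)) :=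
  Leop (Lpe (f944410 IH) (Lpn (LP (LK LD1_c10 LD2_c42 LD3_c25))))
theorem seed_2692 : LEOK LG_g (LK LD1_c10 LD2_c42 LD3_c25) :=
  Leoe_g (LK LD1_c10 LD2_c42 LD3_c25) (f944411 IH)
def v44240 : LQ := Led Lsl_ft (LP (LK LD1_c10 LD2_c42 LD3_c21))
theorem f944415 : Led Lsl_ft (LP (LK LD1_c10 LD2_c42 LD3_c21)) = v44240 :=
  Lrfl
theorem f726666 : Led Lsl_gt (LP (LK LD1_c10 LD2_c42 LD3_c21)) = (LP (LK LD1_c19 LD2_c22 LD3_c58)) :=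
  Lre_g IH (LK LD1_c10 LD2_c42 LD3_c21) (LK LD1_c19 LD2_c22 LD3_c58) Lrfl Lrfl
theorem f944416 : Led Lsl_af (LP (LK LD1_c10 LD2_c42 LD3_c25)) = v44240 :=
  Lgr Lrot45 (Lpr_ft (f944407 IH) (Lpe (f944404 IH) (Lpr_ft (f944415 IH) (Lpn v44240))))
theorem f944419 : Led Lsl_gt (LP (LK LD1_c19 LD2_c22 LD3_c58)) = (LP (LK LD1_c10 LD2_c42 LD3_c25)) :=
  Lgr Lrot46 (Lpe (f726666 IH) (Lpr_ft (f944415 IH) (Lpe (f944416 IH) (Lpn (LP (LK LD1_c10 LD2_c42 LD3_c25))))))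
theorem f944420 : Led Lsl_gt (LP (LK LD1_c19 LD2_c22 LD3_c58)) = (LP (LK LD1_c10 LD2_c42 LD3_c25)) :=
  Leop (Lpe (f944419 IH) (Lpn (LP (LK LD1_c19 LD2_c22 LD3_c58))))
theorem seed_2693 : LEOK LG_g (LK LD1_c19 LD2_c22 LD3_c58) :=
  Leoe_g (LK LD1_c19 LD2_c22 LD3_c58) (f944420 IH)
def v44263 : LQ := Led Lsl_gf (LP (LK LD1_c10 LD2_c42 LD3_c32))
theorem f944496 : Led Lsl_gf (LP (LK LD1_c10 LD2_c42 LD3_c32)) = v44263 :=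
  Lrfl
def v44262 : LQ := Led Lsl_gt (LP (LK LD1_c10 LD2_c42 LD3_c32))
theorem f944488 : Led Lsl_gt (LP (LK LD1_c10 LD2_c42 LD3_c32)) = v44262 :=
  Lrfl
theorem f221675 : Led Lsl_dt (LP (LK LD1_c5 LD2_c25 LD3_c39)) = (LP (LK LD1_c10 LD2_c42 LD3_c32)) :=
  Lre_d IH (LK LD1_c5 LD2_c25 LD3_c39) (LK LD1_c10 LD2_c42 LD3_c32) Lrfl Lrfl
def v43563 : LQ := Led Lsl_et (LP (LK LD1_c10 LD2_c31 LD3_c9))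
theorem f941136 : Led Lsl_et (LP (LK LD1_c10 LD2_c31 LD3_c9)) = v43563 :=
  Lrfl
theorem f941139 : Led Lsl_ef (LP (LK LD1_c10 LD2_c31 LD3_c9)) = v43563 :=
  Lgr Lrot88 (Lpr_et (f941136 IH) (Lpn v43563))
theorem f944491 : Led Lsl_dt v43563 = v44262 :=
  Lgr Lrot56 (Lpe (f941139 IH) (Lpe (K25.f316535 IH) (Lpe (K22.f221596 IH) (Lpr_dt (K12.f221594 IH) (Lpr_gt (K12.f181797 IH) (Lpe (K12.f167957 IH) (Lpr_et (K24.f221673 IH) (Lpr_gt (K22.f221674 IH) (Lpr_dt (f221675 IH) (Lpr_gt (f944488 IH) (Lpn v44262)))))))))))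
def v1435 : LQ := Led Lsl_ft (LP (LK LD1_c1 LD2_c17 LD3_c6))
theorem f495560 : Led Lsl_ft (LP (LK LD1_c1 LD2_c17 LD3_c6)) = v1435 :=
  Lrfl
theorem f495563 : Led Lsl_ff (LP (LK LD1_c1 LD2_c17 LD3_c6)) = v1435 :=
  Lgr Lrot3 (Lpr_ft (f495560 IH) (Lpn v1435))
theorem f636445 : Led Lsl_ft (LP (LK LD1_c5 LD2_c23 LD3_c12)) = (LP (LK LD1_c4 LD2_c27 LD3_c55)) :=
  Lgr Lrot2 (Lpe (K12.f199038 IH) (Lpe (K54.f360033 IH) (Lpr_af (K35.f636435 IH) (Lpn (LP (LK LD1_c4 LD2_c27 LD3_c55))))))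
theorem f636453 : Led Lsl_ff (LP (LK LD1_c5 LD2_c23 LD3_c12)) = (LP (LK LD1_c4 LD2_c27 LD3_c55)) :=
  Lgr Lrot3 (Lpr_ft (f636445 IH) (Lpn (LP (LK LD1_c4 LD2_c27 LD3_c55))))
theorem f636457 : Led Lsl_at (LP (LK LD1_c5 LD2_c23 LD3_c12)) = (LP (LK LD1_c4 LD2_c27 LD3_c56)) :=
  Lgr Lrot26 (Lpr_ff (f636453 IH) (Lpr_gt (K22.f322513 IH) (Lpe (K25.f284251 IH) (Lpn (LP (LK LD1_c4 LD2_c27 LD3_c56))))))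
theorem f636441 : Led Lsl_at (LP (LK LD1_c2 LD2_c38 LD3_c4)) = (LP (LK LD1_c5 LD2_c20 LD3_c33)) :=
  Lgr Lrot51 (Lpe (K54.f360027 IH) (Lpr_af (K35.f636435 IH) (Lpr_df (K22.f42354 IH) (Lpn (LP (LK LD1_c5 LD2_c20 LD3_c33))))))
theorem f495561 : Led Lsl_af (LP (LK LD1_c1 LD2_c17 LD3_c7)) = v1435 :=
  Lgr Lrot45 (Lpr_ft (K35.f495552 IH) (Lpe (K35.f495551 IH) (Lpr_ft (f495560 IH) (Lpn v1435))))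
theorem f636467 : v1435 = (LP (LK LD1_c2 LD2_c11 LD3_c36)) :=
  (Llr Lrot36 (Lpe (f495561 IH) (Lpr_bt (K73.f360336 IH) (Lpr_at (f636441 IH) (Lpr_bt (K25.f356278 IH) (Lpr_at (f636457 IH) (Lpr_bt (K25.f356691 IH) (Lpn (LP (LK LD1_c2 LD2_c11 LD3_c36)))))))))).symm
theorem f636484 : Led Lsl_ff (LP (LK LD1_c4 LD2_c27 LD3_c56)) = (LP (LK LD1_c2 LD2_c40 LD3_c52)) :=
  Lgr Lrot25 (Lpr_bt (K25.f356691 IH) (Lpq (f636467 IH) (Lpe (f495563 IH) (Lpr_bt (K54.f264652 IH) (Lpn (LP (LK LD1_c2 LD2_c40 LD3_c52)))))))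
theorem f636494 : Led Lsl_ft (LP (LK LD1_c8 LD2_c53 LD3_c49)) = (LP (LK LD1_c5 LD2_c29 LD3_c17)) :=
  Lgr Lrot4 (Lpe (K25.f321483 IH) (Lpr_ff (f636484 IH) (Lpe (K54.f360020 IH) (Lpn (LP (LK LD1_c5 LD2_c29 LD3_c17))))))
theorem f636500 : Led Lsl_ff (LP (LK LD1_c8 LD2_c53 LD3_c49)) = (LP (LK LD1_c5 LD2_c29 LD3_c17)) :=
  Lgr Lrot3 (Lpr_ft (f636494 IH) (Lpn (LP (LK LD1_c5 LD2_c29 LD3_c17))))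
theorem f636504 : Led Lsl_ft (LP (LK LD1_c16 LD2_c38 LD3_c24)) = (LP (LK LD1_c10 LD2_c49 LD3_c54)) :=
  Lgr Lrot54 (Lpe (K25.f321488 IH) (Lpr_ff (f636500 IH) (Lpe (K54.f360029 IH) (Lpn (LP (LK LD1_c10 LD2_c49 LD3_c54))))))
theorem f636508 : Led Lsl_af (LP (LK LD1_c16 LD2_c38 LD3_c23)) = (LP (LK LD1_c10 LD2_c49 LD3_c54)) :=
  Lgr Lrot31 (Lpe (K25.f42371 IH) (Lpe (K25.f356662 IH) (Lpr_ft (f636504 IH) (Lpn (LP (LK LD1_c10 LD2_c49 LD3_c54))))))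
theorem f636510 : Led Lsl_at (LP (LK LD1_c16 LD2_c38 LD3_c23)) = (LP (LK LD1_c10 LD2_c49 LD3_c54)) :=
  Lgr Lrot100 (Lpr_af (f636508 IH) (Lpn (LP (LK LD1_c10 LD2_c49 LD3_c54))))
theorem f360079 : Led Lsl_gt (LP (LK LD1_c19 LD2_c34 LD3_c42)) = (LP (LK LD1_c10 LD2_c49 LD3_c54)) :=
  Lre_g IH (LK LD1_c19 LD2_c34 LD3_c42) (LK LD1_c10 LD2_c49 LD3_c54) Lrfl Lrfl
theorem f311247 : Led Lsl_dt (LP (LK LD1_c19 LD2_c13 LD3_c59)) = (LP (LK LD1_c10 LD2_c37 LD3_c3)) :=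
  Lre_d IH (LK LD1_c19 LD2_c13 LD3_c59) (LK LD1_c10 LD2_c37 LD3_c3) Lrfl Lrfl
theorem f191875 : Led Lsl_ct (LP (LK LD1_c26 LD2_c10 LD3_c31)) = (LP (LK LD1_c32 LD2_c5 LD3_c25)) :=
  Lre_c IH (LK LD1_c26 LD2_c10 LD3_c31) (LK LD1_c32 LD2_c5 LD3_c25) Lrfl Lrfl
theorem f343885 : Led Lsl_at (LP (LK LD1_c17 LD2_c48 LD3_c52)) = (LP (LK LD1_c26 LD2_c10 LD3_c31)) :=
  Lgr Lrot107 (Lpe (K23.f213981 IH) (Lpr_af (K23.f343868 IH) (Lpe (f191875 IH) (Lpn (LP (LK LD1_c26 LD2_c10 LD3_c31))))))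
theorem f356581 : Led Lsl_ff (LP (LK LD1_c17 LD2_c48 LD3_c52)) = (LP (LK LD1_c26 LD2_c36 LD3_c26)) :=
  Lgr Lrot103 (Lpr_at (f343885 IH) (Lpe (K22.f191750 IH) (Lpe (K22.f336849 IH) (Lpe (K22.f215957 IH) (Lpe (K22.f215956 IH) (Lpr_cf (K22.f215943 IH) (Lpr_df (K13.f213939 IH) (Lpr_cf (K25.f356567 IH) (Lpe (K25.f356573 IH) (Lpn (LP (LK LD1_c26 LD2_c36 LD3_c26))))))))))))
theorem f311246 : Led Lsl_dt (LP (LK LD1_c10 LD2_c37 LD3_c3)) = (LP (LK LD1_c19 LD2_c13 LD3_c59)) :=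
  Lre_d IH (LK LD1_c10 LD2_c37 LD3_c3) (LK LD1_c19 LD2_c13 LD3_c59) Lrfl Lrfl
theorem f355540 : Led Lsl_gt (LP (LK LD1_c19 LD2_c13 LD3_c59)) = (LP (LK LD1_c26 LD2_c10 LD3_c31)) :=
  Lgr Lrot9 (Lpe (f311246 IH) (Lpr_gt (K25.f355328 IH) (Lpr_ct (K25.f214064 IH) (Lpr_gt (K25.f214053 IH) (Lpr_ct (K25.f352343 IH) (Lpe (K25.f42408 IH) (Lpe (K25.f42398 IH) (Lpe (K25.f352454 IH) (Lpe (f191875 IH) (Lpn (LP (LK LD1_c26 LD2_c10 LD3_c31))))))))))))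
theorem f356647 : Led Lsl_gf (LP (LK LD1_c19 LD2_c13 LD3_c59)) = (LP (LK LD1_c26 LD2_c36 LD3_c26)) :=
  Lgr Lrot47 (Lpr_gt (f355540 IH) (Lpe (f343885 IH) (Lpr_ff (f356581 IH) (Lpn (LP (LK LD1_c26 LD2_c36 LD3_c26))))))
theorem f224088 : Led Lsl_ct (LP (LK LD1_c27 LD2_c36 LD3_c3)) = (LP (LK LD1_c17 LD2_c48 LD3_c60)) :=
  Lre_c IH (LK LD1_c27 LD2_c36 LD3_c3) (LK LD1_c17 LD2_c48 LD3_c60) Lrfl Lrfl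
theorem f357904 : Led Lsl_ff (LP (LK LD1_c27 LD2_c36 LD3_c3)) = (LP (LK LD1_c28 LD2_c39 LD3_c41)) :=
  Lgr Lrot23 (Lpr_ct (f224088 IH) (Lpr_ft (K53.f357888 IH) (Lpe (K26.f357815 IH) (Lpn (LP (LK LD1_c28 LD2_c39 LD3_c41))))))
theorem f357908 : Led Lsl_ft (LP (LK LD1_c27 LD2_c36 LD3_c3)) = (LP (LK LD1_c28 LD2_c39 LD3_c41)) :=
  Lgr Lrot48 (Lpr_ff (f357904 IH) (Lpn (LP (LK LD1_c28 LD2_c39 LD3_c41))))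
theorem f356565 : Led Lsl_gf (LP (LK LD1_c28 LD2_c30 LD3_c3)) = (LP (LK LD1_c27 LD2_c36 LD3_c3)) :=
  Lgr Lrot144 (Lpe (K25.f352375 IH) (Lpe (K25.f350657 IH) (Lpe (K25.f336852 IH) (Lpe (K22.f215957 IH) (Lpe (K22.f215956 IH) (Lpr_gf (K25.f356563 IH) (Lpe (K25.f329673 IH) (Lpe (K25.f333572 IH) (Lpe (f224088 IH) (Lpn (LP (LK LD1_c27 LD2_c36 LD3_c3))))))))))))
theorem f357882 : Led Lsl_af (LP (LK LD1_c28 LD2_c40 LD3_c2)) = (LP (LK LD1_c28 LD2_c39 LD3_c41)) :=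
  Lgr Lrot0 (Lpr_at (K53.f357880 IH) (Lpn (LP (LK LD1_c28 LD2_c39 LD3_c41))))
theorem f357914 : Led Lsl_gt (LP (LK LD1_c28 LD2_c30 LD3_c3)) = (LP (LK LD1_c28 LD2_c40 LD3_c2)) :=
  Lgr Lrot46 (Lpr_gf (f356565 IH) (Lpr_ft (f357908 IH) (Lpe (f357882 IH) (Lpn (LP (LK LD1_c28 LD2_c40 LD3_c2))))))
theorem f360067 : Led Lsl_df (LP (LK LD1_c28 LD2_c56 LD3_c32)) = (LP (LK LD1_c28 LD2_c40 LD3_c2)) :=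
  Lgr Lrot84 (Lpe (K54.f360059 IH) (Lpr_df (K54.f360051 IH) (Lpe (K25.f355328 IH) (Lpe (f311247 IH) (Lpr_gf (f356647 IH) (Lpe (K25.f356574 IH) (Lpe (K26.f356586 IH) (Lpr_dt (K25.f352377 IH) (Lpr_gt (f357914 IH) (Lpn (LP (LK LD1_c28 LD2_c40 LD3_c2))))))))))))
theorem f360156 : Led Lsl_at (LP (LK LD1_c28 LD2_c56 LD3_c32)) = (LP (LK LD1_c20 LD2_c57 LD3_c57)) :=
  Lgr Lrot51 (Lpr_df (f360067 IH) (Lpr_af (f357882 IH) (Lpr_df (K26.f357809 IH) (Lpn (LP (LK LD1_c20 LD2_c57 LD3_c57))))))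
theorem f360173 : Led Lsl_af (LP (LK LD1_c19 LD2_c34 LD3_c41)) = (LP (LK LD1_c11 LD2_c53 LD3_c57)) :=
  Lgr Lrot68 (Lpr_ct (K54.f360059 IH) (Lpr_at (f360156 IH) (Lpr_ct (K26.f339451 IH) (Lpn (LP (LK LD1_c11 LD2_c53 LD3_c57))))))
theorem f360071 : Led Lsl_ct (LP (LK LD1_c28 LD2_c56 LD3_c32)) = (LP (LK LD1_c19 LD2_c34 LD3_c41)) :=
  Lre_c IH (LK LD1_c28 LD2_c56 LD3_c32) (LK LD1_c19 LD2_c34 LD3_c41) Lrfl Lrfl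
theorem f360214 : Led Lsl_ft (LP (LK LD1_c19 LD2_c34 LD3_c42)) = (LP (LK LD1_c11 LD2_c53 LD3_c57)) :=
  Lgr Lrot2 (Lpr_gt (f360079 IH) (Lpr_gt (K54.f360043 IH) (Lpr_af (f360173 IH) (Lpn (LP (LK LD1_c11 LD2_c53 LD3_c57))))))
theorem f360216 : Led Lsl_df (LP (LK LD1_c11 LD2_c53 LD3_c58)) = (LP (LK LD1_c19 LD2_c34 LD3_c42)) :=
  Lgr Lrot157 (Lpr_ct (K25.f351524 IH) (Lpe (K10.f187279 IH) (Lpr_ct (K54.f356426 IH) (Lpr_dt (K53.f330468 IH) (Lpr_ct (K53.f356324 IH) (Lpe (f360067 IH) (Lpr_ct (f360071 IH) (Lpr_af (f360173 IH) (Lpe (f360214 IH) (Lpn (LP (LK LD1_c19 LD2_c34 LD3_c42))))))))))))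
theorem f360092 : Led Lsl_dt (LP (LK LD1_c19 LD2_c34 LD3_c40)) = (LP (LK LD1_c10 LD2_c49 LD3_c53)) :=
  Lre_d IH (LK LD1_c19 LD2_c34 LD3_c40) (LK LD1_c10 LD2_c49 LD3_c53) Lrfl Lrfl
theorem f357834 : Led Lsl_cf (LP (LK LD1_c9 LD2_c41 LD3_c12)) = (LP (LK LD1_c16 LD2_c43 LD3_c60)) :=
  Lgr Lrot166 (Lpe (K26.f357830 IH) (Lpr_dt (K26.f357660 IH) (Lpe (K25.f351495 IH) (Lpe (K13.f213939 IH) (Lpe (K22.f215943 IH) (Lpe (K25.f215958 IH) (Lpe (K26.f352489 IH) (Lpe (K26.f42382 IH) (Lpr_gf (K26.f357827 IH) (Lpn (LP (LK LD1_c16 LD2_c43 LD3_c60))))))))))))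
theorem f357976 : Led Lsl_gf (LP (LK LD1_c20 LD2_c55 LD3_c23)) = (LP (LK LD1_c11 LD2_c53 LD3_c39)) :=
  Lgr Lrot104 (Lpr_ct (K23.f343673 IH) (Lpe (K25.f214045 IH) (Lpr_cf (f357834 IH) (Lpe (K26.f264581 IH) (Lpe (K26.f264571 IH) (Lpr_gf (K25.f356736 IH) (Lpr_df (K15.f42149 IH) (Lpr_gt (K20.f42291 IH) (Lpr_ct (K25.f42292 IH) (Lpn (LP (LK LD1_c11 LD2_c53 LD3_c39))))))))))))
theorem f357979 : Led Lsl_gt (LP (LK LD1_c6 LD2_c5 LD3_c14)) = (LP (LK LD1_c11 LD2_c53 LD3_c39)) :=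
  Lgr Lrot5 (Lpr_ft (K25.f324841 IH) (Lpe (K25.f324856 IH) (Lpr_gf (f357976 IH) (Lpn (LP (LK LD1_c11 LD2_c53 LD3_c39))))))
theorem f360101 : Led Lsl_gf (LP (LK LD1_c19 LD2_c34 LD3_c40)) = (LP (LK LD1_c20 LD2_c57 LD3_c21)) :=
  Lgr Lrot154 (Lpr_dt (f360092 IH) (Lpr_ct (K54.f360087 IH) (Lpe (K10.f191746 IH) (Lpe (K25.f352167 IH) (Lpr_df (K25.f352164 IH) (Lpe (K25.f352155 IH) (Lpe (K25.f351533 IH) (Lpr_gt (f357979 IH) (Lpr_dt (K25.f316517 IH) (Lpn (LP (LK LD1_c20 LD2_c57 LD3_c21))))))))))))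
theorem f311204 : Led Lsl_gt (LP (LK LD1_c28 LD2_c39 LD3_c55)) = (LP (LK LD1_c19 LD2_c13 LD3_c42)) :=
  Lre_g IH (LK LD1_c28 LD2_c39 LD3_c55) (LK LD1_c19 LD2_c13 LD3_c42) Lrfl Lrfl
theorem f355346 : Led Lsl_df (LP (LK LD1_c28 LD2_c39 LD3_c55)) = (LP (LK LD1_c19 LD2_c13 LD3_c54)) :=
  Lgr Lrot153 (Lpr_gt (f311204 IH) (Lpr_dt (K25.f311022 IH) (Lpe (K25.f311019 IH) (Lpe (K25.f254350 IH) (Lpe (K25.f217747 IH) (Lpe (K25.f345439 IH) (Lpe (K25.f345444 IH) (Lpe (K17.f199026 IH) (Lpr_gt (K26.f355331 IH) (Lpn (LP (LK LD1_c19 LD2_c13 LD3_c54))))))))))))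
theorem f357630 : Led Lsl_df (LP (LK LD1_c11 LD2_c4 LD3_c14)) = (LP (LK LD1_c19 LD2_c14 LD3_c6)) :=
  Lgr Lrot38 (Lpr_dt (K26.f357625 IH) (Lpn (LP (LK LD1_c19 LD2_c14 LD3_c6))))
theorem f355352 : Led Lsl_dt (LP (LK LD1_c28 LD2_c39 LD3_c55)) = (LP (LK LD1_c19 LD2_c13 LD3_c54)) :=
  Lgr Lrot42 (Lpr_df (f355346 IH) (Lpn (LP (LK LD1_c19 LD2_c13 LD3_c54))))
theorem f358110 : Led Lsl_gf (LP (LK LD1_c28 LD2_c39 LD3_c55)) = (LP (LK LD1_c19 LD2_c14 LD3_c8)) :=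
  Lgr Lrot144 (Lpr_dt (f355352 IH) (Lpe (K26.f355344 IH) (Lpr_dt (K17.f284397 IH) (Lpe (K17.f199025 IH) (Lpe (K17.f199024 IH) (Lpr_gf (K24.f350630 IH) (Lpr_df (f357630 IH) (Lpe (K26.f356224 IH) (Lpe (K25.f311145 IH) (Lpn (LP (LK LD1_c19 LD2_c14 LD3_c8))))))))))))
theorem f358130 : Led Lsl_ct (LP (LK LD1_c28 LD2_c39 LD3_c55)) = (LP (LK LD1_c19 LD2_c13 LD3_c52)) :=
  Lgr Lrot110 (Lpr_gf (f358110 IH) (Lpe (K25.f213523 IH) (Lpe (K25.f190216 IH) (Lpe (K25.f213514 IH) (Lpe (K22.f321440 IH) (Lpr_ct (K17.f284189 IH) (Lpe (K23.f343820 IH) (Lpr_ct (K25.f199048 IH) (Lpe (K54.f341165 IH) (Lpn (LP (LK LD1_c19 LD2_c13 LD3_c52))))))))))))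
theorem f358133 : Led Lsl_cf (LP (LK LD1_c28 LD2_c39 LD3_c55)) = (LP (LK LD1_c19 LD2_c13 LD3_c52)) :=
  Lgr Lrot11 (Lpr_ct (f358130 IH) (Lpn (LP (LK LD1_c19 LD2_c13 LD3_c52))))
theorem f341166 : Led Lsl_dt (LP (LK LD1_c10 LD2_c36 LD3_c59)) = (LP (LK LD1_c19 LD2_c13 LD3_c52)) :=
  Lre_d IH (LK LD1_c10 LD2_c36 LD3_c59) (LK LD1_c19 LD2_c13 LD3_c52) Lrfl Lrfl
theorem f360106 : Led Lsl_gt (LP (LK LD1_c10 LD2_c49 LD3_c53)) = (LP (LK LD1_c10 LD2_c36 LD3_c59)) :=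
  Lgr Lrot49 (Lpe (f360092 IH) (Lpr_gf (f360101 IH) (Lpe (K25.f316543 IH) (Lpr_gt (K25.f325811 IH) (Lpr_dt (K17.f284322 IH) (Lpr_gt (K26.f355331 IH) (Lpe (f355346 IH) (Lpr_cf (f358133 IH) (Lpe (f341166 IH) (Lpn (LP (LK LD1_c10 LD2_c36 LD3_c59))))))))))))
theorem f360230 : Led Lsl_gt (LP (LK LD1_c19 LD2_c13 LD3_c52)) = (LP (LK LD1_c19 LD2_c34 LD3_c42)) :=
  Lgr Lrot49 (Lpe (f341166 IH) (Lpe (f360106 IH) (Lpr_cf (K54.f360090 IH) (Lpr_gt (K27.f351528 IH) (Lpr_dt (K24.f216315 IH) (Lpe (K25.f339468 IH) (Lpr_dt (K10.f187268 IH) (Lpe (K25.f351524 IH) (Lpr_df (f360216 IH) (Lpn (LP (LK LD1_c19 LD2_c34 LD3_c42))))))))))))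
theorem f636513 : Led Lsl_ff (LP (LK LD1_c16 LD2_c38 LD3_c23)) = (LP (LK LD1_c19 LD2_c13 LD3_c52)) :=
  Lgr Lrot52 (Lpr_at (f636510 IH) (Lpe (f360079 IH) (Lpe (f360230 IH) (Lpn (LP (LK LD1_c19 LD2_c13 LD3_c52))))))
theorem f636519 : Led Lsl_ft (LP (LK LD1_c16 LD2_c38 LD3_c23)) = (LP (LK LD1_c19 LD2_c13 LD3_c52)) :=
  Lgr Lrot48 (Lpr_ff (f636513 IH) (Lpn (LP (LK LD1_c19 LD2_c13 LD3_c52))))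
theorem f636521 : Led Lsl_af (LP (LK LD1_c16 LD2_c38 LD3_c24)) = (LP (LK LD1_c19 LD2_c13 LD3_c52)) :=
  Lgr Lrot45 (Lpr_ft (f636504 IH) (Lpe (f636508 IH) (Lpr_ft (f636519 IH) (Lpn (LP (LK LD1_c19 LD2_c13 LD3_c52))))))
theorem f636531 : Led Lsl_at (LP (LK LD1_c26 LD2_c36 LD3_c30)) = (LP (LK LD1_c28 LD2_c39 LD3_c55)) :=
  Lgr Lrot107 (Lpe (K25.f321492 IH) (Lpr_af (f636521 IH) (Lpe (f358130 IH) (Lpn (LP (LK LD1_c28 LD2_c39 LD3_c55))))))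
theorem f636539 : Led Lsl_af (LP (LK LD1_c28 LD2_c30 LD3_c13)) = (LP (LK LD1_c19 LD2_c13 LD3_c54)) :=
  Lgr Lrot117 (Lpe (K26.f357679 IH) (Lpr_at (f636531 IH) (Lpr_dt (f355352 IH) (Lpn (LP (LK LD1_c19 LD2_c13 LD3_c54))))))
theorem f360123 : Led Lsl_ct (LP (LK LD1_c28 LD2_c56 LD3_c35)) = (LP (LK LD1_c19 LD2_c34 LD3_c42)) :=
  Lre_c IH (LK LD1_c28 LD2_c56 LD3_c35) (LK LD1_c19 LD2_c34 LD3_c42) Lrfl Lrfl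
theorem f360238 : Led Lsl_gt (LP (LK LD1_c26 LD2_c36 LD3_c11)) = (LP (LK LD1_c28 LD2_c56 LD3_c35)) :=
  Lgr Lrot150 (Lpe (K54.f356014 IH) (Lpe (K26.f356016 IH) (Lpe (K19.f42410 IH) (Lpr_gt (K25.f42394 IH) (Lpe (K25.f352276 IH) (Lpr_gt (K25.f351512 IH) (Lpe (K25.f351518 IH) (Lpr_df (f360216 IH) (Lpe (f360123 IH) (Lpn (LP (LK LD1_c28 LD2_c56 LD3_c35))))))))))))
theorem f360046 : Led Lsl_ct (LP (LK LD1_c10 LD2_c49 LD3_c54)) = (LP (LK LD1_c19 LD2_c34 LD3_c43)) :=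
  Lre_c IH (LK LD1_c10 LD2_c49 LD3_c54) (LK LD1_c19 LD2_c34 LD3_c43) Lrfl Lrfl
theorem f360249 : Led Lsl_df (LP (LK LD1_c19 LD2_c13 LD3_c50)) = (LP (LK LD1_c19 LD2_c34 LD3_c43)) :=
  Lgr Lrot162 (Lpe (K25.f343841 IH) (Lpe (K23.f343823 IH) (Lpe (K25.f343840 IH) (Lpe (K25.f356442 IH) (Lpe (K54.f356614 IH) (Lpr_gt (f360238 IH) (Lpr_ct (f360123 IH) (Lpr_gt (f360079 IH) (Lpr_ct (f360046 IH) (Lpn (LP (LK LD1_c19 LD2_c34 LD3_c43))))))))))))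
theorem f213519 : Led Lsl_df (LP (LK LD1_c15 LD2_c17 LD3_c42)) = (LP (LK LD1_c19 LD2_c14 LD3_c7)) :=
  Lgr Lrot38 (Lpr_dt (K25.f213514 IH) (Lpn (LP (LK LD1_c19 LD2_c14 LD3_c7))))
theorem f311105 : Led Lsl_af (LP (LK LD1_c10 LD2_c37 LD3_c7)) = (LP (LK LD1_c11 LD2_c53 LD3_c37)) :=
  Lgr Lrot117 (Lpr_dt (K25.f213521 IH) (Lpr_at (K19.f311093 IH) (Lpr_dt (K19.f42410 IH) (Lpn (LP (LK LD1_c11 LD2_c53 LD3_c37))))))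
theorem f311237 : Led Lsl_gf (LP (LK LD1_c19 LD2_c14 LD3_c7)) = (LP (LK LD1_c20 LD2_c57 LD3_c20)) :=
  Lgr Lrot47 (Lpr_gt (K25.f190216 IH) (Lpr_af (f311105 IH) (Lpe (K25.f42442 IH) (Lpn (LP (LK LD1_c20 LD2_c57 LD3_c20))))))
theorem f360256 : Led Lsl_gt (LP (LK LD1_c19 LD2_c13 LD3_c42)) = (LP (LK LD1_c19 LD2_c34 LD3_c43)) :=
  Lgr Lrot94 (Lpr_cf (K25.f311182 IH) (Lpe (f311237 IH) (Lpe (f213519 IH) (Lpe (K22.f321440 IH) (Lpr_dt (K17.f284318 IH) (Lpe (K25.f284401 IH) (Lpr_df (K25.f284331 IH) (Lpr_gf (K25.f345421 IH) (Lpr_df (f360249 IH) (Lpn (LP (LK LD1_c19 LD2_c34 LD3_c43))))))))))))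
theorem f358135 : Led Lsl_gt (LP (LK LD1_c10 LD2_c36 LD3_c54)) = (LP (LK LD1_c19 LD2_c13 LD3_c39)) :=
  Lre_g IH (LK LD1_c10 LD2_c36 LD3_c54) (LK LD1_c19 LD2_c13 LD3_c39) Lrfl Lrfl
theorem f360030 : Led Lsl_ct (LP (LK LD1_c19 LD2_c34 LD3_c43)) = (LP (LK LD1_c10 LD2_c49 LD3_c54)) :=
  Lre_c IH (LK LD1_c19 LD2_c34 LD3_c43) (LK LD1_c10 LD2_c49 LD3_c54) Lrfl Lrfl
theorem f360258 : Led Lsl_ct (LP (LK LD1_c19 LD2_c13 LD3_c39)) = (LP (LK LD1_c26 LD2_c36 LD3_c35)) :=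
  Lgr Lrot152 (Lpe (f358135 IH) (Lpe (K25.f311022 IH) (Lpr_gt (f360256 IH) (Lpr_ct (f360030 IH) (Lpr_gt (K54.f360043 IH) (Lpr_ct (K54.f360059 IH) (Lpr_df (f360067 IH) (Lpe (K53.f356324 IH) (Lpr_gf (K53.f357890 IH) (Lpn (LP (LK LD1_c26 LD2_c36 LD3_c35))))))))))))
theorem f360266 : Led Lsl_gt (LP (LK LD1_c19 LD2_c13 LD3_c39)) = (LP (LK LD1_c28 LD2_c30 LD3_c11)) :=
  Lgr Lrot180 (Lpr_ct (f360258 IH) (Lpe (K53.f357890 IH) (Lpr_dt (K53.f356428 IH) (Lpe (K54.f356434 IH) (Lpr_dt (K54.f333579 IH) (Lpr_ct (K26.f355348 IH) (Lpe (f355352 IH) (Lpr_gf (f358110 IH) (Lpr_df (K25.f311184 IH) (Lpn (LP (LK LD1_c28 LD2_c30 LD3_c11))))))))))))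
theorem f357906 : Led Lsl_at (LP (LK LD1_c27 LD2_c36 LD3_c3)) = (LP (LK LD1_c28 LD2_c39 LD3_c42)) :=
  Lgr Lrot66 (Lpr_ff (f357904 IH) (Lpe (K53.f357880 IH) (Lpr_ff (K53.f357874 IH) (Lpn (LP (LK LD1_c28 LD2_c39 LD3_c42))))))
theorem f357910 : Led Lsl_gf (LP (LK LD1_c28 LD2_c39 LD3_c42)) = (LP (LK LD1_c19 LD2_c13 LD3_c38)) :=
  Lgr Lrot76 (Lpe (f357906 IH) (Lpr_ff (f357904 IH) (Lpe (K26.f357807 IH) (Lpn (LP (LK LD1_c19 LD2_c13 LD3_c38))))))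
theorem f356497 : Led Lsl_ct (LP (LK LD1_c28 LD2_c39 LD3_c42)) = (LP (LK LD1_c24 LD2_c49 LD3_c9)) :=
  Lgr Lrot8 (Lpr_gt (K25.f356486 IH) (Lpr_dt (K25.f356473 IH) (Lpe (K25.f356465 IH) (Lpe (K23.f343850 IH) (Lpe (K23.f343830 IH) (Lpr_df (K23.f343824 IH) (Lpe (K23.f336746 IH) (Lpe (K25.f316519 IH) (Lpe (K25.f316532 IH) (Lpn (LP (LK LD1_c24 LD2_c49 LD3_c9))))))))))))
theorem f187271 : Led Lsl_dt (LP (LK LD1_c24 LD2_c49 LD3_c9)) = (LP (LK LD1_c15 LD2_c1 LD3_c15)) :=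
  Lre_d IH (LK LD1_c24 LD2_c49 LD3_c9) (LK LD1_c15 LD2_c1 LD3_c15) Lrfl Lrfl
theorem f356653 : Led Lsl_ct (LP (LK LD1_c10 LD2_c36 LD3_c53)) = (LP (LK LD1_c19 LD2_c13 LD3_c38)) :=
  Lre_c IH (LK LD1_c10 LD2_c36 LD3_c53) (LK LD1_c19 LD2_c13 LD3_c38) Lrfl Lrfl
theorem f357912 : Led Lsl_gt (LP (LK LD1_c19 LD2_c3 LD3_c57)) = (LP (LK LD1_c10 LD2_c36 LD3_c53)) :=
  Lgr Lrot9 (Lpe (K25.f42440 IH) (Lpr_gt (K26.f345452 IH) (Lpr_ct (K26.f345455 IH) (Lpe (K26.f357718 IH) (Lpr_ct (K25.f187262 IH) (Lpe (f187271 IH) (Lpe (f356497 IH) (Lpr_gf (f357910 IH) (Lpe (f356653 IH) (Lpn (LP (LK LD1_c10 LD2_c36 LD3_c53))))))))))))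
theorem f321465 : Led Lsl_ct (LP (LK LD1_c16 LD2_c38 LD3_c17)) = (LP (LK LD1_c26 LD2_c36 LD3_c15)) :=
  Lre_c IH (LK LD1_c16 LD2_c38 LD3_c17) (LK LD1_c26 LD2_c36 LD3_c15) Lrfl Lrfl
theorem f284269 : Led Lsl_gt (LP (LK LD1_c26 LD2_c36 LD3_c21)) = (LP (LK LD1_c16 LD2_c38 LD3_c19)) :=
  Lre_g IH (LK LD1_c26 LD2_c36 LD3_c21) (LK LD1_c16 LD2_c38 LD3_c19) Lrfl Lrfl
theorem f360269 : Led Lsl_df (LP (LK LD1_c19 LD2_c13 LD3_c39)) = (LP (LK LD1_c26 LD2_c36 LD3_c21)) :=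
  Lgr Lrot155 (Lpr_gt (f360266 IH) (Lpr_ct (K25.f42425 IH) (Lpr_gt (f357912 IH) (Lpr_ct (f356653 IH) (Lpr_dt (K26.f357813 IH) (Lpe (f321465 IH) (Lpe (K25.f321462 IH) (Lpe (K17.f284253 IH) (Lpe (f284269 IH) (Lpn (LP (LK LD1_c26 LD2_c36 LD3_c21))))))))))))
theorem f360263 : Led Lsl_cf (LP (LK LD1_c19 LD2_c13 LD3_c39)) = (LP (LK LD1_c26 LD2_c36 LD3_c35)) :=
  Lgr Lrot11 (Lpr_ct (f360258 IH) (Lpn (LP (LK LD1_c26 LD2_c36 LD3_c35))))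
theorem f182922 : Led Lsl_gt (LP (LK LD1_c10 LD2_c37 LD3_c5)) = (LP (LK LD1_c5 LD2_c23 LD3_c17)) :=
  Lre_g IH (LK LD1_c10 LD2_c37 LD3_c5) (LK LD1_c5 LD2_c23 LD3_c17) Lrfl Lrfl
theorem f357699 : Led Lsl_df (LP (LK LD1_c10 LD2_c37 LD3_c5)) = (LP (LK LD1_c16 LD2_c38 LD3_c18)) :=
  Lgr Lrot155 (Lpr_gt (f182922 IH) (Lpr_ct (K25.f182876 IH) (Lpr_gt (K21.f182835 IH) (Lpr_ct (K25.f182914 IH) (Lpr_dt (K26.f356420 IH) (Lpr_cf (K26.f357692 IH) (Lpe (K25.f284435 IH) (Lpe (K25.f284270 IH) (Lpe (K25.f231265 IH) (Lpn (LP (LK LD1_c16 LD2_c38 LD3_c18))))))))))))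
theorem f360273 : Led Lsl_gt (LP (LK LD1_c31 LD2_c47 LD3_c5)) = (LP (LK LD1_c26 LD2_c36 LD3_c21)) :=
  Lgr Lrot94 (Lpe (K17.f198994 IH) (Lpr_gt (K25.f356471 IH) (Lpe (f357699 IH) (Lpr_gt (f182922 IH) (Lpr_dt (K25.f190215 IH) (Lpe (K25.f311145 IH) (Lpr_df (K25.f311184 IH) (Lpe (f360266 IH) (Lpr_df (f360269 IH) (Lpn (LP (LK LD1_c26 LD2_c36 LD3_c21))))))))))))
theorem f360275 : Led Lsl_gt (LP (LK LD1_c26 LD2_c42 LD3_c39)) = (LP (LK LD1_c26 LD2_c36 LD3_c44)) :=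
  Lgr Lrot180 (Lpr_ct (K26.f356744 IH) (Lpe (K26.f357697 IH) (Lpr_dt (K26.f187685 IH) (Lpr_gt (K26.f356561 IH) (Lpr_dt (K25.f329666 IH) (Lpe (f360263 IH) (Lpr_df (f360269 IH) (Lpe (f360273 IH) (Lpe (K25.f284260 IH) (Lpn (LP (LK LD1_c26 LD2_c36 LD3_c44))))))))))))
theorem f636548 : Led Lsl_ft (LP (LK LD1_c26 LD2_c42 LD3_c39)) = (LP (LK LD1_c19 LD2_c13 LD3_c54)) :=
  Lgr Lrot2 (Lpr_gt (f360275 IH) (Lpr_gt (K26.f357669 IH) (Lpr_af (f636539 IH) (Lpn (LP (LK LD1_c19 LD2_c13 LD3_c54))))))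
theorem f636552 : Led Lsl_ff (LP (LK LD1_c26 LD2_c42 LD3_c39)) = (LP (LK LD1_c19 LD2_c13 LD3_c54)) :=
  Lgr Lrot3 (Lpr_ft (f636548 IH) (Lpn (LP (LK LD1_c19 LD2_c13 LD3_c54))))
theorem f636556 : Led Lsl_at (LP (LK LD1_c26 LD2_c42 LD3_c39)) = (LP (LK LD1_c19 LD2_c13 LD3_c50)) :=
  Lgr Lrot26 (Lpr_ff (f636552 IH) (Lpe (K26.f355344 IH) (Lpr_gt (K25.f345433 IH) (Lpn (LP (LK LD1_c19 LD2_c13 LD3_c50))))))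
theorem f636541 : Led Lsl_at (LP (LK LD1_c28 LD2_c30 LD3_c13)) = (LP (LK LD1_c19 LD2_c13 LD3_c54)) :=
  Lgr Lrot100 (Lpr_af (f636539 IH) (Lpn (LP (LK LD1_c19 LD2_c13 LD3_c54))))
theorem f636562 : Led Lsl_ff (LP (LK LD1_c28 LD2_c30 LD3_c13)) = (LP (LK LD1_c19 LD2_c13 LD3_c50)) :=
  Lgr Lrot30 (Lpr_at (f636541 IH) (Lpe (f636552 IH) (Lpr_at (f636556 IH) (Lpn (LP (LK LD1_c19 LD2_c13 LD3_c50))))))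
theorem f636570 : Led Lsl_ft (LP (LK LD1_c28 LD2_c30 LD3_c13)) = (LP (LK LD1_c19 LD2_c13 LD3_c50)) :=
  Lgr Lrot48 (Lpr_ff (f636562 IH) (Lpn (LP (LK LD1_c19 LD2_c13 LD3_c50))))
theorem f636574 : Led Lsl_ff (LP (LK LD1_c19 LD2_c3 LD3_c58)) = (LP (LK LD1_c10 LD2_c36 LD3_c58)) :=
  Lgr Lrot23 (Lpr_ct (K26.f42383 IH) (Lpr_ft (f636570 IH) (Lpr_ct (K25.f345435 IH) (Lpn (LP (LK LD1_c10 LD2_c36 LD3_c58))))))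
theorem f636578 : Led Lsl_ft (LP (LK LD1_c10 LD2_c31 LD3_c9)) = (LP (LK LD1_c5 LD2_c23 LD3_c11)) :=
  Lgr Lrot54 (Lpe (K26.f42368 IH) (Lpr_ff (f636574 IH) (Lpe (K25.f343843 IH) (Lpn (LP (LK LD1_c5 LD2_c23 LD3_c11))))))
theorem f636582 : Led Lsl_af (LP (LK LD1_c8 LD2_c56 LD3_c21)) = (LP (LK LD1_c5 LD2_c23 LD3_c11)) :=
  Lgr Lrot31 (Lpe (K26.f357712 IH) (Lpr_gf (K25.f316535 IH) (Lpr_ft (f636578 IH) (Lpn (LP (LK LD1_c5 LD2_c23 LD3_c11))))))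
theorem f356313 : Led Lsl_et (LP (LK LD1_c10 LD2_c33 LD3_c32)) = (LP (LK LD1_c5 LD2_c23 LD3_c11)) :=
  Lre_e IH (LK LD1_c10 LD2_c33 LD3_c32) (LK LD1_c5 LD2_c23 LD3_c11) Lrfl Lrfl
theorem f636586 : Led Lsl_at (LP (LK LD1_c11 LD2_c54 LD3_c54)) = (LP (LK LD1_c10 LD2_c33 LD3_c32)) :=
  Lgr Lrot80 (Lpr_ef (K26.f264572 IH) (Lpr_af (f636582 IH) (Lpe (f356313 IH) (Lpn (LP (LK LD1_c10 LD2_c33 LD3_c32))))))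
theorem f360342 : Led Lsl_bt (LP (LK LD1_c5 LD2_c26 LD3_c5)) = (LP (LK LD1_c10 LD2_c33 LD3_c34)) :=
  Lgr Lrot95 (Lpe (K22.f264671 IH) (Lpr_bf (K73.f360338 IH) (Lpe (K73.f355336 IH) (Lpn (LP (LK LD1_c10 LD2_c33 LD3_c34))))))
theorem f44705 : Led Lsl_et (LP (LK LD1_c10 LD2_c33 LD3_c34)) = (LP (LK LD1_c5 LD2_c21 LD3_c37)) :=
  Lre_e IH (LK LD1_c10 LD2_c33 LD3_c34) (LK LD1_c5 LD2_c21 LD3_c37) Lrfl Lrfl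
theorem f360346 : Led Lsl_bf (LP (LK LD1_c2 LD2_c39 LD3_c28)) = (LP (LK LD1_c5 LD2_c21 LD3_c37)) :=
  Lgr Lrot96 (Lpr_et (K21.f264656 IH) (Lpr_bt (f360342 IH) (Lpr_et (f44705 IH) (Lpn (LP (LK LD1_c5 LD2_c21 LD3_c37))))))
theorem f200307 : Led Lsl_et (LP (LK LD1_c5 LD2_c12 LD3_c24)) = (LP (LK LD1_c2 LD2_c32 LD3_c61)) :=
  Lre_e IH (LK LD1_c5 LD2_c12 LD3_c24) (LK LD1_c2 LD2_c32 LD3_c61) Lrfl Lrfl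
theorem f32870 : Led Lsl_dt (LP (LK LD1_c2 LD2_c35 LD3_c10)) = (LP (LK LD1_c5 LD2_c16 LD3_c54)) :=
  Lre_d IH (LK LD1_c2 LD2_c35 LD3_c10) (LK LD1_c5 LD2_c16 LD3_c54) Lrfl Lrfl
theorem f200308 : Led Lsl_gt (LP (LK LD1_c5 LD2_c16 LD3_c54)) = (LP (LK LD1_c5 LD2_c5 LD3_c50)) :=
  Lgr Lrot139 (Lpe (f32870 IH) (Lpe (K10.f32869 IH) (Lpe (K10.f32294 IH) (Lpr_dt (K2.f32280 IH) (Lpr_gf (K10.f179002 IH) (Lpe (K10.f184990 IH) (Lpr_et (K20.f185587 IH) (Lpe (K22.f200288 IH) (Lpe (f200307 IH) (Lpr_dt (K22.f200297 IH) (Lpn (LP (LK LD1_c5 LD2_c5 LD3_c50)))))))))))))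
theorem f333413 : Led Lsl_gf (LP (LK LD1_c4 LD2_c29 LD3_c47)) = (LP (LK LD1_c2 LD2_c43 LD3_c26)) :=
  Lgr Lrot145 (Lpr_df (K22.f184978 IH) (Lpr_et (K10.f178745 IH) (Lpr_gt (f200308 IH) (Lpe (K22.f200305 IH) (Lpr_gt (K22.f200336 IH) (Lpe (K15.f32228 IH) (Lpr_et (K22.f212119 IH) (Lpr_gt (K22.f333409 IH) (Lpe (K22.f255012 IH) (Lpr_dt (K35.f309778 IH) (Lpn (LP (LK LD1_c2 LD2_c43 LD3_c26)))))))))))))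
theorem f264406 : Led Lsl_ft (LP (LK LD1_c2 LD2_c58 LD3_c58)) = (LP (LK LD1_c1 LD2_c25 LD3_c11)) :=
  Lre_f IH (LK LD1_c2 LD2_c58 LD3_c58) (LK LD1_c1 LD2_c25 LD3_c11) Lrfl Lrfl
theorem f264407 : Led Lsl_et (LP (LK LD1_c2 LD2_c39 LD3_c37)) = (LP (LK LD1_c2 LD2_c58 LD3_c58)) :=
  Lgr Lrot69 (Lpe (K12.f185635 IH) (Lpe (K15.f185687 IH) (Lpr_ff (K15.f264400 IH) (Lpe (K50.f181208 IH) (Lpe (f264406 IH) (Lpn (LP (LK LD1_c2 LD2_c58 LD3_c58))))))))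
theorem f333425 : Led Lsl_gt (LP (LK LD1_c2 LD2_c58 LD3_c58)) = (LP (LK LD1_c2 LD2_c39 LD3_c28)) :=
  Lgr Lrot131 (Lpe (f264407 IH) (Lpe (K12.f185636 IH) (Lpr_gf (K23.f264323 IH) (Lpe (K10.f184975 IH) (Lpr_gf (f333413 IH) (Lpe (K19.f197588 IH) (Lpr_dt (K19.f7613 IH) (Lpe (K56.f309798 IH) (Lpr_df (K21.f264669 IH) (Lpr_et (K21.f264673 IH) (Lpn (LP (LK LD1_c2 LD2_c39 LD3_c28)))))))))))))
theorem f223223 : Led Lsl_bt (LP (LK LD1_c9 LD2_c33 LD3_c15)) = (LP (LK LD1_c8 LD2_c27 LD3_c0)) :=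
  Lgr Lrot95 (Lpr_df (K23.f223221 IH) (Lpe (K25.f221484 IH) (Lpe (K25.f189746 IH) (Lpn (LP (LK LD1_c8 LD2_c27 LD3_c0))))))
theorem f44682 : Led Lsl_ct (LP (LK LD1_c5 LD2_c21 LD3_c37)) = (LP (LK LD1_c10 LD2_c33 LD3_c33)) :=
  Lre_c IH (LK LD1_c5 LD2_c21 LD3_c37) (LK LD1_c10 LD2_c33 LD3_c33) Lrfl Lrfl
theorem f360348 : Led Lsl_gf (LP (LK LD1_c17 LD2_c35 LD3_c39)) = (LP (LK LD1_c10 LD2_c33 LD3_c33)) :=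
  Lgr Lrot126 (Lpe (K25.f223225 IH) (Lpr_bt (f223223 IH) (Lpe (K25.f355286 IH) (Lpe (K25.f352868 IH) (Lpe (K25.f282411 IH) (Lpe (K17.f264425 IH) (Lpr_bt (K15.f264422 IH) (Lpr_gt (f333425 IH) (Lpr_bf (f360346 IH) (Lpr_ct (f44682 IH) (Lpn (LP (LK LD1_c10 LD2_c33 LD3_c33)))))))))))))
theorem f636592 : Led Lsl_ff (LP (LK LD1_c11 LD2_c54 LD3_c54)) = (LP (LK LD1_c10 LD2_c33 LD3_c33)) :=
  Lgr Lrot52 (Lpr_at (f636586 IH) (Lpe (K25.f356298 IH) (Lpr_gf (f360348 IH) (Lpn (LP (LK LD1_c10 LD2_c33 LD3_c33))))))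
theorem f636596 : Led Lsl_ft (LP (LK LD1_c11 LD2_c54 LD3_c54)) = (LP (LK LD1_c10 LD2_c33 LD3_c33)) :=
  Lgr Lrot48 (Lpr_ff (f636592 IH) (Lpn (LP (LK LD1_c10 LD2_c33 LD3_c33))))
theorem f44692 : Led Lsl_ct (LP (LK LD1_c10 LD2_c33 LD3_c33)) = (LP (LK LD1_c5 LD2_c21 LD3_c37)) :=
  Lre_c IH (LK LD1_c10 LD2_c33 LD3_c33) (LK LD1_c5 LD2_c21 LD3_c37) Lrfl Lrfl
theorem f636598 : Led Lsl_ff (LP (LK LD1_c6 LD2_c5 LD3_c41)) = (LP (LK LD1_c5 LD2_c21 LD3_c37)) :=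
  Lgr Lrot23 (Lpr_ct (K26.f264579 IH) (Lpr_ft (f636596 IH) (Lpr_ct (f44692 IH) (Lpn (LP (LK LD1_c5 LD2_c21 LD3_c37))))))
theorem f636606 : Led Lsl_at (LP (LK LD1_c6 LD2_c5 LD3_c41)) = (LP (LK LD1_c5 LD2_c21 LD3_c36)) :=
  Lgr Lrot26 (Lpr_ff (f636598 IH) (Lpr_gt (K22.f44679 IH) (Lpr_gt (K22.f44664 IH) (Lpn (LP (LK LD1_c5 LD2_c21 LD3_c36))))))
theorem f636608 : Led Lsl_af (LP (LK LD1_c6 LD2_c4 LD3_c43)) = (LP (LK LD1_c5 LD2_c24 LD3_c48)) :=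
  Lgr Lrot117 (Lpr_dt (K25.f356720 IH) (Lpr_at (f636606 IH) (Lpr_dt (K26.f44665 IH) (Lpn (LP (LK LD1_c5 LD2_c24 LD3_c48))))))
theorem f636602 : Led Lsl_ft (LP (LK LD1_c6 LD2_c4 LD3_c43)) = (LP (LK LD1_c5 LD2_c24 LD3_c47)) :=
  Lgr Lrot54 (Lpe (K25.f356732 IH) (Lpr_ff (f636598 IH) (Lpr_df (K22.f44680 IH) (Lpn (LP (LK LD1_c5 LD2_c24 LD3_c47))))))
theorem f636443 : Led Lsl_at (LP (LK LD1_c5 LD2_c24 LD3_c47)) = (LP (LK LD1_c6 LD2_c4 LD3_c42)) :=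
  Lgr Lrot80 (Lpe (K54.f360013 IH) (Lpr_af (K35.f636435 IH) (Lpr_ef (K21.f42307 IH) (Lpn (LP (LK LD1_c6 LD2_c4 LD3_c42))))))
theorem f636616 : Led Lsl_ft (LP (LK LD1_c6 LD2_c4 LD3_c42)) = (LP (LK LD1_c5 LD2_c24 LD3_c48)) :=
  Lgr Lrot101 (Lpe (f636443 IH) (Lpe (f636602 IH) (Lpr_af (f636608 IH) (Lpn (LP (LK LD1_c5 LD2_c24 LD3_c48))))))
theorem f636626 : Led Lsl_ff (LP (LK LD1_c6 LD2_c4 LD3_c42)) = (LP (LK LD1_c5 LD2_c24 LD3_c48)) :=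
  Lgr Lrot3 (Lpr_ft (f636616 IH) (Lpn (LP (LK LD1_c5 LD2_c24 LD3_c48))))
theorem f636632 : Led Lsl_at (LP (LK LD1_c6 LD2_c4 LD3_c42)) = (LP (LK LD1_c5 LD2_c24 LD3_c47)) :=
  Lgr Lrot26 (Lpr_ff (f636626 IH) (Lpr_gt (K22.f42635 IH) (Lpr_gt (K22.f41479 IH) (Lpn (LP (LK LD1_c5 LD2_c24 LD3_c47))))))
theorem f636610 : Led Lsl_at (LP (LK LD1_c6 LD2_c4 LD3_c43)) = (LP (LK LD1_c5 LD2_c24 LD3_c48)) :=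
  Lgr Lrot100 (Lpr_af (f636608 IH) (Lpn (LP (LK LD1_c5 LD2_c24 LD3_c48))))
theorem f636640 : Led Lsl_ff (LP (LK LD1_c6 LD2_c4 LD3_c43)) = (LP (LK LD1_c5 LD2_c24 LD3_c47)) :=
  Lgr Lrot30 (Lpr_at (f636610 IH) (Lpe (f636626 IH) (Lpr_at (f636632 IH) (Lpn (LP (LK LD1_c5 LD2_c24 LD3_c47))))))
theorem f636437 : Led Lsl_at (LP (LK LD1_c2 LD2_c40 LD3_c52)) = (LP (LK LD1_c4 LD2_c27 LD3_c55)) :=
  Lgr Lrot100 (Lpr_af (K35.f636435 IH) (Lpn (LP (LK LD1_c4 LD2_c27 LD3_c55))))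
theorem f636465 : Led Lsl_ff (LP (LK LD1_c2 LD2_c40 LD3_c52)) = (LP (LK LD1_c4 LD2_c27 LD3_c56)) :=
  Lgr Lrot30 (Lpr_at (f636437 IH) (Lpe (f636453 IH) (Lpr_at (f636457 IH) (Lpn (LP (LK LD1_c4 LD2_c27 LD3_c56))))))
theorem f636646 : Led Lsl_ft (LP (LK LD1_c11 LD2_c2 LD3_c21)) = (LP (LK LD1_c8 LD2_c53 LD3_c50)) :=
  Lgr Lrot86 (Lpe (K25.f356722 IH) (Lpr_ff (f636640 IH) (Lpe (K54.f360013 IH) (Lpr_ff (f636465 IH) (Lpe (K25.f41729 IH) (Lpn (LP (LK LD1_c8 LD2_c53 LD3_c50))))))))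
theorem f636654 : Led Lsl_ff (LP (LK LD1_c11 LD2_c2 LD3_c21)) = (LP (LK LD1_c8 LD2_c53 LD3_c50)) :=
  Lgr Lrot3 (Lpr_ft (f636646 IH) (Lpn (LP (LK LD1_c8 LD2_c53 LD3_c50))))
theorem f636658 : Led Lsl_ft (LP (LK LD1_c5 LD2_c35 LD3_c3)) = (LP (LK LD1_c4 LD2_c29 LD3_c0)) :=
  Lgr Lrot75 (Lpe (K25.f264553 IH) (Lpr_ff (f636654 IH) (Lpr_bf (K25.f356697 IH) (Lpn (LP (LK LD1_c4 LD2_c29 LD3_c0))))))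
theorem f636690 : Led Lsl_af (LP (LK LD1_c2 LD2_c40 LD3_c53)) = (LP (LK LD1_c4 LD2_c29 LD3_c0)) :=
  Lgr Lrot31 (Lpr_gf (K21.f264674 IH) (Lpe (K22.f264563 IH) (Lpr_ft (f636658 IH) (Lpn (LP (LK LD1_c4 LD2_c29 LD3_c0))))))
theorem f360340 : Led Lsl_bt (LP (LK LD1_c2 LD2_c40 LD3_c53)) = (LP (LK LD1_c5 LD2_c23 LD3_c14)) :=
  Lgr Lrot127 (Lpr_bf (K73.f360338 IH) (Lpn (LP (LK LD1_c5 LD2_c23 LD3_c14))))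
theorem f636614 : Led Lsl_at (LP (LK LD1_c11 LD2_c2 LD3_c21)) = (LP (LK LD1_c10 LD2_c40 LD3_c13)) :=
  Lgr Lrot80 (Lpe (K25.f356722 IH) (Lpr_af (f636608 IH) (Lpe (K22.f42550 IH) (Lpn (LP (LK LD1_c10 LD2_c40 LD3_c13))))))
theorem f636624 : Led Lsl_ff (LP (LK LD1_c10 LD2_c36 LD3_c60)) = (LP (LK LD1_c10 LD2_c40 LD3_c13)) :=
  Lgr Lrot72 (Lpr_et (K23.f44718 IH) (Lpr_ft (f636445 IH) (Lpr_et (K21.f42302 IH) (Lpr_ft (f636616 IH) (Lpr_et (K22.f44676 IH) (Lpn (LP (LK LD1_c10 LD2_c40 LD3_c13))))))))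
theorem f636656 : Led Lsl_at (LP (LK LD1_c10 LD2_c36 LD3_c60)) = (LP (LK LD1_c8 LD2_c53 LD3_c50)) :=
  Lgr Lrot66 (Lpr_ff (f636624 IH) (Lpe (f636614 IH) (Lpr_ff (f636654 IH) (Lpn (LP (LK LD1_c8 LD2_c53 LD3_c50))))))
theorem f636694 : Led Lsl_at (LP (LK LD1_c5 LD2_c23 LD3_c14)) = (LP (LK LD1_c10 LD2_c31 LD3_c10)) :=
  Lgr Lrot67 (Lpe (f360340 IH) (Lpr_af (f636690 IH) (Lpe (K27.f356699 IH) (Lpe (f636656 IH) (Lpe (K25.f356282 IH) (Lpn (LP (LK LD1_c10 LD2_c31 LD3_c10))))))))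
theorem f636726 : Led Lsl_af (LP (LK LD1_c2 LD2_c38 LD3_c4)) = (LP (LK LD1_c5 LD2_c20 LD3_c33)) :=
  Lgr Lrot50 (Lpr_et (K73.f355338 IH) (Lpr_at (f636694 IH) (Lpr_et (K22.f42353 IH) (Lpn (LP (LK LD1_c5 LD2_c20 LD3_c33))))))
theorem f636728 : Led Lsl_at (LP (LK LD1_c5 LD2_c23 LD3_c13)) = (LP (LK LD1_c10 LD2_c31 LD3_c9)) :=
  Lgr Lrot107 (Lpe (K25.f329677 IH) (Lpr_af (f636726 IH) (Lpe (K25.f42367 IH) (Lpn (LP (LK LD1_c10 LD2_c31 LD3_c9))))))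
theorem f636730 : Led Lsl_af (LP (LK LD1_c5 LD2_c23 LD3_c13)) = (LP (LK LD1_c10 LD2_c31 LD3_c9)) :=
  Lgr Lrot0 (Lpr_at (f636728 IH) (Lpn (LP (LK LD1_c10 LD2_c31 LD3_c9))))
theorem f941142 : Led Lsl_at (LP (LK LD1_c10 LD2_c37 LD3_c0)) = v43563 :=
  Lgr Lrot80 (Lpe (K73.f355365 IH) (Lpr_af (f636730 IH) (Lpr_ef (f941139 IH) (Lpn v43563))))
def v43876 : LQ := Led Lsl_dt (LP (LK LD1_c10 LD2_c37 LD3_c0))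
theorem f942733 : Led Lsl_dt (LP (LK LD1_c10 LD2_c37 LD3_c0)) = v43876 :=
  Lrfl
theorem f942734 : Led Lsl_df (LP (LK LD1_c10 LD2_c37 LD3_c0)) = v43876 :=
  Lgr Lrot38 (Lpr_dt (f942733 IH) (Lpn v43876))
theorem f944492 : Led Lsl_af v43876 = v44262 :=
  Lgr Lrot117 (Lpe (f942734 IH) (Lpr_at (f941142 IH) (Lpr_dt (f944491 IH) (Lpn v44262))))
theorem f944493 : Led Lsl_at v43876 = v44262 :=
  Lgr Lrot100 (Lpr_af (f944492 IH) (Lpn v44262))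
theorem f944498 : Led Lsl_ff v43876 = v44263 :=
  Lgr Lrot52 (Lpr_at (f944493 IH) (Lpe (f944488 IH) (Lpr_gf (f944496 IH) (Lpn v44263))))
def v43717 : LQ := Led Lsl_et (LP (LK LD1_c10 LD2_c33 LD3_c33))
theorem f941975 : Led Lsl_et (LP (LK LD1_c10 LD2_c33 LD3_c33)) = v43717 :=
  Lrfl
theorem f636732 : Led Lsl_ff (LP (LK LD1_c5 LD2_c23 LD3_c13)) = (LP (LK LD1_c8 LD2_c56 LD3_c21)) :=
  Lgr Lrot30 (Lpr_at (f636728 IH) (Lpr_ft (f636578 IH) (Lpe (f636582 IH) (Lpn (LP (LK LD1_c8 LD2_c56 LD3_c21))))))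
theorem f636734 : Led Lsl_ft (LP (LK LD1_c5 LD2_c23 LD3_c13)) = (LP (LK LD1_c8 LD2_c56 LD3_c21)) :=
  Lgr Lrot48 (Lpr_ff (f636732 IH) (Lpn (LP (LK LD1_c8 LD2_c56 LD3_c21))))
theorem f333577 : Led Lsl_et (LP (LK LD1_c10 LD2_c37 LD3_c0)) = (LP (LK LD1_c5 LD2_c23 LD3_c13)) :=
  Lre_e IH (LK LD1_c10 LD2_c37 LD3_c0) (LK LD1_c5 LD2_c23 LD3_c13) Lrfl Lrfl
theorem f941978 : Led Lsl_ff (LP (LK LD1_c10 LD2_c37 LD3_c0)) = v43717 :=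
  Lgr Lrot72 (Lpr_et (f333577 IH) (Lpr_ft (f636734 IH) (Lpe (K26.f264572 IH) (Lpr_ft (f636596 IH) (Lpr_et (f941975 IH) (Lpn v43717))))))
theorem f941981 : Led Lsl_ft (LP (LK LD1_c10 LD2_c37 LD3_c0)) = v43717 :=
  Lgr Lrot48 (Lpr_ff (f941978 IH) (Lpn v43717))
theorem f944499 : Led Lsl_dt v43717 = v44263 :=
  Lgr Lrot60 (Lpe (f941981 IH) (Lpr_df (f942734 IH) (Lpr_ff (f944498 IH) (Lpn v44263))))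
theorem f941977 : Led Lsl_ef (LP (LK LD1_c10 LD2_c33 LD3_c33)) = v43717 :=
  Lgr Lrot88 (Lpr_et (f941975 IH) (Lpn v43717))
theorem f187423 : Led Lsl_ct (LP (LK LD1_c15 LD2_c27 LD3_c43)) = (LP (LK LD1_c8 LD2_c13 LD3_c12)) :=
  Lre_c IH (LK LD1_c15 LD2_c27 LD3_c43) (LK LD1_c8 LD2_c13 LD3_c12) Lrfl Lrfl
theorem f364214 : Led Lsl_ct (LP (LK LD1_c15 LD2_c27 LD3_c44)) = (LP (LK LD1_c19 LD2_c7 LD3_c23)) :=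
  Lgr Lrot40 (Lpe (K27.f187417 IH) (Lpe (f187423 IH) (Lpr_ff (K26.f364212 IH) (Lpn (LP (LK LD1_c19 LD2_c7 LD3_c23))))))
theorem f309509 : Led Lsl_ef (LP (LK LD1_c2 LD2_c39 LD3_c45)) = (LP (LK LD1_c2 LD2_c59 LD3_c21)) :=
  Lgr Lrot73 (Lpr_dt (K20.f245984 IH) (Lpe (K13.f245827 IH) (Lpr_dt (K13.f245787 IH) (Lpr_et (K19.f309503 IH) (Lpe (K19.f197566 IH) (Lpn (LP (LK LD1_c2 LD2_c59 LD3_c21))))))))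
theorem f333349 : Led Lsl_gf (LP (LK LD1_c2 LD2_c11 LD3_c37)) = (LP (LK LD1_c1 LD2_c17 LD3_c6)) :=
  Lgr Lrot145 (Lpe (K19.f197554 IH) (Lpe (f309509 IH) (Lpr_gt (K13.f245990 IH) (Lpr_dt (K22.f179810 IH) (Lpr_gt (K22.f333347 IH) (Lpr_df (K21.f167670 IH) (Lpr_et (K19.f181813 IH) (Lpe (K21.f264674 IH) (Lpe (K22.f264662 IH) (Lpr_dt (K21.f264660 IH) (Lpn (LP (LK LD1_c1 LD2_c17 LD3_c6)))))))))))))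
theorem f333738 : Led Lsl_gf (LP (LK LD1_c2 LD2_c12 LD3_c3)) = (LP (LK LD1_c1 LD2_c17 LD3_c51)) :=
  Lgr Lrot141 (Lpr_ef (K16.f271776 IH) (Lpe (K50.f261821 IH) (Lpe (K22.f304239 IH) (Lpr_df (K18.f304248 IH) (Lpr_et (K18.f304247 IH) (Lpe (K22.f333397 IH) (Lpr_dt (K19.f245810 IH) (Lpr_gt (K22.f333734 IH) (Lpr_df (K22.f333723 IH) (Lpr_et (K22.f183269 IH) (Lpn (LP (LK LD1_c1 LD2_c17 LD3_c51)))))))))))))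
theorem f333740 : Led Lsl_df (LP (LK LD1_c2 LD2_c58 LD3_c58)) = (LP (LK LD1_c2 LD2_c12 LD3_c3)) :=
  Lgr Lrot135 (Lpr_gt (f333425 IH) (Lpr_df (K21.f264647 IH) (Lpr_et (K21.f264650 IH) (Lpe (f333349 IH) (Lpe (K19.f309503 IH) (Lpr_dt (K19.f245810 IH) (Lpr_gt (K22.f333734 IH) (Lpr_df (K22.f333723 IH) (Lpr_et (K22.f183269 IH) (Lpe (f333738 IH) (Lpn (LP (LK LD1_c2 LD2_c12 LD3_c3)))))))))))))
theorem f271780 : Led Lsl_et (LP (LK LD1_c2 LD2_c12 LD3_c3)) = (LP (LK LD1_c1 LD2_c17 LD3_c44)) :=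
  Lgr Lrot87 (Lpr_ef (K16.f271776 IH) (Lpn (LP (LK LD1_c1 LD2_c17 LD3_c44))))
theorem f333742 : Led Lsl_gf (LP (LK LD1_c2 LD2_c58 LD3_c58)) = (LP (LK LD1_c2 LD2_c39 LD3_c27)) :=
  Lgr Lrot134 (Lpr_df (f333740 IH) (Lpr_et (f271780 IH) (Lpr_gt (K23.f264325 IH) (Lpe (K10.f165049 IH) (Lpr_dt (K10.f184975 IH) (Lpe (K23.f264323 IH) (Lpr_df (K12.f185636 IH) (Lpr_et (f264407 IH) (Lpr_gt (f333425 IH) (Lpe (K22.f264676 IH) (Lpn (LP (LK LD1_c2 LD2_c39 LD3_c27)))))))))))))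
theorem f360015 : Led Lsl_gt (LP (LK LD1_c15 LD2_c24 LD3_c31)) = (LP (LK LD1_c10 LD2_c40 LD3_c11)) :=
  Lgr Lrot149 (Lpe (K26.f223921 IH) (Lpe (K24.f223932 IH) (Lpe (K26.f352914 IH) (Lpr_ct (K23.f337723 IH) (Lpe (K23.f282406 IH) (Lpe (K17.f264425 IH) (Lpr_bt (K15.f264422 IH) (Lpr_gf (f333742 IH) (Lpr_bf (K54.f360007 IH) (Lpr_ct (K26.f44703 IH) (Lpn (LP (LK LD1_c10 LD2_c40 LD3_c11)))))))))))))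
theorem f44683 : Led Lsl_ct (LP (LK LD1_c10 LD2_c40 LD3_c11)) = (LP (LK LD1_c5 LD2_c24 LD3_c47)) :=
  Lre_c IH (LK LD1_c10 LD2_c40 LD3_c11) (LK LD1_c5 LD2_c24 LD3_c47) Lrfl Lrfl
theorem f367449 : Led Lsl_gt (LP (LK LD1_c19 LD2_c7 LD3_c23)) = (LP (LK LD1_c10 LD2_c33 LD3_c33)) :=
  Lgr Lrot150 (Lpe (f364214 IH) (Lpr_gf (K27.f367443 IH) (Lpr_df (K27.f223935 IH) (Lpr_gt (K24.f223932 IH) (Lpr_ct (K26.f223921 IH) (Lpr_gt (f360015 IH) (Lpr_ct (f44683 IH) (Lpe (K73.f44685 IH) (Lpe (f44692 IH) (Lpn (LP (LK LD1_c10 LD2_c33 LD3_c33))))))))))))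
theorem f316534 : Led Lsl_et (LP (LK LD1_c5 LD2_c25 LD3_c39)) = (LP (LK LD1_c10 LD2_c42 LD3_c33)) :=
  Lre_e IH (LK LD1_c5 LD2_c25 LD3_c39) (LK LD1_c10 LD2_c42 LD3_c33) Lrfl Lrfl
def v4607 : LQ := Led Lsl_at (LP (LK LD1_c2 LD2_c35 LD3_c10))
theorem f636402 : Led Lsl_at (LP (LK LD1_c2 LD2_c35 LD3_c10)) = v4607 :=
  Lrfl
theorem f636403 : Led Lsl_af (LP (LK LD1_c2 LD2_c35 LD3_c10)) = v4607 :=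
  Lgr Lrot0 (Lpr_at (f636402 IH) (Lpn v4607))
theorem f636404 : Led Lsl_ft (LP (LK LD1_c2 LD2_c35 LD3_c10)) = v4607 :=
  Lgr Lrot2 (Lpr_gt (K10.f48638 IH) (Lpr_gt (K10.f32869 IH) (Lpr_af (f636403 IH) (Lpn v4607))))
theorem f636405 : Led Lsl_ff (LP (LK LD1_c2 LD2_c35 LD3_c10)) = v4607 :=
  Lgr Lrot3 (Lpr_ft (f636404 IH) (Lpn v4607))
def v4159 : LQ := Led Lsl_ft (LP (LK LD1_c2 LD2_c11 LD3_c53))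
theorem f631530 : Led Lsl_ft (LP (LK LD1_c2 LD2_c11 LD3_c53)) = v4159 :=
  Lrfl
theorem f631532 : Led Lsl_ff (LP (LK LD1_c2 LD2_c11 LD3_c53)) = v4159 :=
  Lgr Lrot3 (Lpr_ft (f631530 IH) (Lpn v4159))
def v1438 : LQ := Led Lsl_ft (LP (LK LD1_c1 LD2_c17 LD3_c41))
theorem f495574 : Led Lsl_ft (LP (LK LD1_c1 LD2_c17 LD3_c41)) = v1438 :=
  Lrfl
theorem f495575 : Led Lsl_af (LP (LK LD1_c1 LD2_c17 LD3_c42)) = v1438 :=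
  Lgr Lrot45 (Lpr_ft (K35.f495572 IH) (Lpe (K35.f495571 IH) (Lpr_ft (f495574 IH) (Lpn v1438))))
def v4157 : LQ := Led Lsl_at (LP (LK LD1_c2 LD2_c11 LD3_c53))
theorem f631520 : Led Lsl_at (LP (LK LD1_c2 LD2_c11 LD3_c53)) = v4157 :=
  Lrfl
theorem f631521 : Led Lsl_af (LP (LK LD1_c2 LD2_c11 LD3_c53)) = v4157 :=
  Lgr Lrot0 (Lpr_at (f631520 IH) (Lpn v4157))
theorem f631522 : Led Lsl_ft (LP (LK LD1_c2 LD2_c11 LD3_c54)) = v4157 :=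
  Lgr Lrot2 (Lpr_gt (K10.f165048 IH) (Lpr_gt (K35.f165050 IH) (Lpr_af (f631521 IH) (Lpn v4157))))
theorem f631523 : Led Lsl_ff (LP (LK LD1_c2 LD2_c11 LD3_c54)) = v4157 :=
  Lgr Lrot3 (Lpr_ft (f631522 IH) (Lpn v4157))
theorem f631533 : Led Lsl_at (LP (LK LD1_c2 LD2_c11 LD3_c54)) = v4159 :=
  Lgr Lrot66 (Lpr_ff (f631523 IH) (Lpe (f631520 IH) (Lpr_ff (f631532 IH) (Lpn v4159))))
theorem f636769 : Led Lsl_ft (LP (LK LD1_c8 LD2_c8 LD3_c14)) = (LP (LK LD1_c4 LD2_c28 LD3_c11)) :=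
  Lgr Lrot2 (Lpr_gt (K20.f242941 IH) (Lpr_gt (K27.f345961 IH) (Lpr_af (K35.f636759 IH) (Lpn (LP (LK LD1_c4 LD2_c28 LD3_c11))))))
theorem f636777 : Led Lsl_ff (LP (LK LD1_c8 LD2_c8 LD3_c14)) = (LP (LK LD1_c4 LD2_c28 LD3_c11)) :=
  Lgr Lrot3 (Lpr_ft (f636769 IH) (Lpn (LP (LK LD1_c4 LD2_c28 LD3_c11))))
theorem f636785 : Led Lsl_at (LP (LK LD1_c8 LD2_c8 LD3_c14)) = (LP (LK LD1_c4 LD2_c28 LD3_c12)) :=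
  Lgr Lrot26 (Lpr_ff (f636777 IH) (Lpr_gt (K25.f345342 IH) (Lpr_gt (K54.f395224 IH) (Lpn (LP (LK LD1_c4 LD2_c28 LD3_c12))))))
theorem f636761 : Led Lsl_at (LP (LK LD1_c2 LD2_c42 LD3_c10)) = (LP (LK LD1_c4 LD2_c28 LD3_c11)) :=
  Lgr Lrot100 (Lpr_af (K35.f636759 IH) (Lpn (LP (LK LD1_c4 LD2_c28 LD3_c11))))
theorem f636795 : Led Lsl_ff (LP (LK LD1_c2 LD2_c42 LD3_c10)) = (LP (LK LD1_c4 LD2_c28 LD3_c12)) :=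
  Lgr Lrot30 (Lpr_at (f636761 IH) (Lpe (f636777 IH) (Lpr_at (f636785 IH) (Lpn (LP (LK LD1_c4 LD2_c28 LD3_c12))))))
theorem f636803 : v1438 = (LP (LK LD1_c2 LD2_c11 LD3_c54)) :=
  (Llr Lrot75 (Lpe (f495574 IH) (Lpe (K35.f309593 IH) (Lpr_ff (f636795 IH) (Lpe (K54.f395238 IH) (Lpn (LP (LK LD1_c2 LD2_c11 LD3_c54)))))))).symm
theorem f636804 : (LP (LK LD1_c1 LD2_c17 LD3_c42)) = v4159 :=
  Lefun (Lecon (Lfl_af (f495575 IH)) (f636803 IH)) (f631533 IH)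
theorem f636810 : (LP (LK LD1_c2 LD2_c11 LD3_c53)) = K35.v1437 :=
  Lefun (Lecon (Lfl_ff (f631532 IH)) (f636804 IH).symm) (K35.f495572 IH)
theorem f636815 : K35.v4611 = (LP (LK LD1_c4 LD2_c29 LD3_c43)) :=
  Lefun (Lecon (K35.f636758 IH) (f636810 IH).symm) (K35.f348502 IH)
theorem f348494 : Led Lsl_dt (LP (LK LD1_c4 LD2_c29 LD3_c43)) = (LP (LK LD1_c8 LD2_c57 LD3_c39)) :=
  Lre_d IH (LK LD1_c4 LD2_c29 LD3_c43) (LK LD1_c8 LD2_c57 LD3_c39) Lrfl Lrfl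
theorem f636824 : Led Lsl_ff (LP (LK LD1_c5 LD2_c24 LD3_c26)) = (LP (LK LD1_c8 LD2_c57 LD3_c39)) :=
  Lgr Lrot19 (Lpr_dt (K22.f306520 IH) (Lpr_ft (K35.f636755 IH) (Lpqs (f636815 IH) (Lpr_dt (f348494 IH) (Lpn (LP (LK LD1_c8 LD2_c57 LD3_c39)))))))
theorem f636828 : Led Lsl_ft (LP (LK LD1_c5 LD2_c24 LD3_c26)) = (LP (LK LD1_c8 LD2_c57 LD3_c39)) :=
  Lgr Lrot48 (Lpr_ff (f636824 IH) (Lpn (LP (LK LD1_c8 LD2_c57 LD3_c39))))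
theorem f636834 : Led Lsl_af (LP (LK LD1_c5 LD2_c24 LD3_c24)) = (LP (LK LD1_c8 LD2_c57 LD3_c39)) :=
  Lgr Lrot31 (Lpr_gf (K25.f345334 IH) (Lpr_gf (K22.f335291 IH) (Lpr_ft (f636828 IH) (Lpn (LP (LK LD1_c8 LD2_c57 LD3_c39))))))
theorem f348480 : Led Lsl_bt (LP (LK LD1_c8 LD2_c57 LD3_c39)) = (LP (LK LD1_c4 LD2_c29 LD3_c44)) :=
  Lre_b IH (LK LD1_c8 LD2_c57 LD3_c39) (LK LD1_c4 LD2_c29 LD3_c44) Lrfl Lrfl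
theorem f348481 : Led Lsl_et (LP (LK LD1_c5 LD2_c32 LD3_c0)) = (LP (LK LD1_c8 LD2_c57 LD3_c39)) :=
  Lgr Lrot74 (Lpe (K72.f345975 IH) (Lpr_ef (K35.f348478 IH) (Lpe (f348480 IH) (Lpn (LP (LK LD1_c8 LD2_c57 LD3_c39))))))
theorem f636838 : Led Lsl_at (LP (LK LD1_c8 LD2_c54 LD3_c30)) = (LP (LK LD1_c5 LD2_c32 LD3_c0)) :=
  Lgr Lrot80 (Lpr_ef (K21.f325757 IH) (Lpr_af (f636834 IH) (Lpe (f348481 IH) (Lpn (LP (LK LD1_c5 LD2_c32 LD3_c0))))))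
theorem f302802 : Led Lsl_ct (LP (LK LD1_c16 LD2_c39 LD3_c57)) = (LP (LK LD1_c8 LD2_c54 LD3_c30)) :=
  Lre_c IH (LK LD1_c16 LD2_c39 LD3_c57) (LK LD1_c8 LD2_c54 LD3_c30) Lrfl Lrfl
theorem f345971 : Led Lsl_ct (LP (LK LD1_c5 LD2_c32 LD3_c0)) = (LP (LK LD1_c10 LD2_c55 LD3_c40)) :=
  Lre_c IH (LK LD1_c5 LD2_c32 LD3_c0) (LK LD1_c10 LD2_c55 LD3_c40) Lrfl Lrfl
theorem f636842 : Led Lsl_af (LP (LK LD1_c16 LD2_c39 LD3_c57)) = (LP (LK LD1_c10 LD2_c55 LD3_c40)) :=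
  Lgr Lrot68 (Lpr_ct (f302802 IH) (Lpr_at (f636838 IH) (Lpr_ct (f345971 IH) (Lpn (LP (LK LD1_c10 LD2_c55 LD3_c40))))))
theorem f246910 : Led Lsl_bt (LP (LK LD1_c18 LD2_c26 LD3_c37)) = (LP (LK LD1_c10 LD2_c7 LD3_c30)) :=
  Lre_b IH (LK LD1_c18 LD2_c26 LD3_c37) (LK LD1_c10 LD2_c7 LD3_c30) Lrfl Lrfl
theorem f246911 : Led Lsl_bt (LP (LK LD1_c10 LD2_c9 LD3_c34)) = (LP (LK LD1_c18 LD2_c30 LD3_c24)) :=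
  Lre_b IH (LK LD1_c10 LD2_c9 LD3_c34) (LK LD1_c18 LD2_c30 LD3_c24) Lrfl Lrfl
theorem f246912 : Led Lsl_ef (LP (LK LD1_c18 LD2_c26 LD3_c37)) = (LP (LK LD1_c18 LD2_c30 LD3_c24)) :=
  Lgr Lrot29 (Lpr_bt (f246910 IH) (Lpr_et (K19.f246906 IH) (Lpr_bt (f246911 IH) (Lpn (LP (LK LD1_c18 LD2_c30 LD3_c24))))))
theorem f350706 : Led Lsl_gf (LP (LK LD1_c18 LD2_c26 LD3_c37)) = (LP (LK LD1_c10 LD2_c7 LD3_c54)) :=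
  Lgr Lrot141 (Lpr_ef (f246912 IH) (Lpr_dt (K24.f246879 IH) (Lpr_gt (K24.f350695 IH) (Lpr_df (K9.f43389 IH) (Lpr_et (K9.f43386 IH) (Lpr_gt (K10.f43554 IH) (Lpe (K18.f266211 IH) (Lpr_gt (K25.f266243 IH) (Lpe (K22.f282119 IH) (Lpr_et (K17.f282129 IH) (Lpn (LP (LK LD1_c10 LD2_c7 LD3_c54)))))))))))))
theorem f246898 : Led Lsl_bt (LP (LK LD1_c10 LD2_c7 LD3_c30)) = (LP (LK LD1_c18 LD2_c26 LD3_c37)) :=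
  Lre_b IH (LK LD1_c10 LD2_c7 LD3_c30) (LK LD1_c18 LD2_c26 LD3_c37) Lrfl Lrfl
theorem f193253 : Led Lsl_bt (LP (LK LD1_c18 LD2_c30 LD3_c24)) = (LP (LK LD1_c10 LD2_c9 LD3_c34)) :=
  Lre_b IH (LK LD1_c18 LD2_c30 LD3_c24) (LK LD1_c10 LD2_c9 LD3_c34) Lrfl Lrfl
theorem f246918 : Led Lsl_et (LP (LK LD1_c18 LD2_c26 LD3_c37)) = (LP (LK LD1_c18 LD2_c30 LD3_c24)) :=
  Lgr Lrot74 (Lpe (f246898 IH) (Lpr_ef (K19.f246916 IH) (Lpe (f193253 IH) (Lpn (LP (LK LD1_c18 LD2_c30 LD3_c24))))))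
theorem f246873 : Led Lsl_bt (LP (LK LD1_c10 LD2_c9 LD3_c35)) = (LP (LK LD1_c18 LD2_c30 LD3_c25)) :=
  Lre_b IH (LK LD1_c10 LD2_c9 LD3_c35) (LK LD1_c18 LD2_c30 LD3_c25) Lrfl Lrfl
theorem f246874 : Led Lsl_df (LP (LK LD1_c15 LD2_c3 LD3_c22)) = (LP (LK LD1_c18 LD2_c30 LD3_c25)) :=
  Lgr Lrot12 (Lpr_bt (K24.f213719 IH) (Lpr_dt (K22.f246869 IH) (Lpr_bt (f246873 IH) (Lpn (LP (LK LD1_c18 LD2_c30 LD3_c25))))))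
theorem f246922 : Led Lsl_df (LP (LK LD1_c18 LD2_c26 LD3_c37)) = (LP (LK LD1_c24 LD2_c52 LD3_c30)) :=
  Lgr Lrot70 (Lpr_et (f246918 IH) (Lpr_dt (K24.f246879 IH) (Lpr_et (K24.f246878 IH) (Lpe (f246874 IH) (Lpr_et (K24.f246877 IH) (Lpn (LP (LK LD1_c24 LD2_c52 LD3_c30))))))))
theorem f265843 : Led Lsl_df (LP (LK LD1_c9 LD2_c52 LD3_c57)) = (LP (LK LD1_c8 LD2_c54 LD3_c54)) :=
  Lgr Lrot170 (Lpr_gt (K22.f265838 IH) (Lpe (K14.f192276 IH) (Lpr_et (K16.f192292 IH) (Lpr_gt (K15.f260271 IH) (Lpr_dt (K15.f187776 IH) (Lpr_gt (K14.f187765 IH) (Lpe (K10.f28660 IH) (Lpr_et (K12.f54079 IH) (Lpr_gt (K16.f213009 IH) (Lpe (K26.f213023 IH) (Lpn (LP (LK LD1_c8 LD2_c54 LD3_c54)))))))))))))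
theorem f350708 : Led Lsl_gt (LP (LK LD1_c15 LD2_c3 LD3_c22)) = (LP (LK LD1_c8 LD2_c54 LD3_c54)) :=
  Lgr Lrot137 (Lpe (K24.f246881 IH) (Lpe (f246922 IH) (Lpr_gf (f350706 IH) (Lpe (K25.f282173 IH) (Lpr_et (K17.f187836 IH) (Lpe (K15.f260271 IH) (Lpe (K16.f192292 IH) (Lpr_dt (K14.f192276 IH) (Lpe (K22.f265838 IH) (Lpr_df (f265843 IH) (Lpn (LP (LK LD1_c8 LD2_c54 LD3_c54)))))))))))))
theorem f300172 : Led Lsl_ct (LP (LK LD1_c28 LD2_c2 LD3_c29)) = (LP (LK LD1_c26 LD2_c32 LD3_c26)) :=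
  Lgr Lrot7 (Lpe (K22.f251600 IH) (Lpe (K22.f251598 IH) (Lpe (K22.f251310 IH) (Lpr_gf (K14.f251596 IH) (Lpe (K25.f251386 IH) (Lpe (K22.f300158 IH) (Lpr_dt (K22.f255908 IH) (Lpr_gt (K22.f300160 IH) (Lpr_dt (K22.f300169 IH) (Lpn (LP (LK LD1_c26 LD2_c32 LD3_c26))))))))))))
theorem f355522 : Led Lsl_gt (LP (LK LD1_c26 LD2_c32 LD3_c26)) = (LP (LK LD1_c16 LD2_c39 LD3_c57)) :=
  Lgr Lrot150 (Lpe (f300172 IH) (Lpe (K24.f350691 IH) (Lpe (K24.f246864 IH) (Lpr_gt (f350708 IH) (Lpr_ct (K26.f218205 IH) (Lpr_gt (K26.f355373 IH) (Lpr_ct (K26.f345340 IH) (Lpe (K21.f294189 IH) (Lpe (f302802 IH) (Lpn (LP (LK LD1_c16 LD2_c39 LD3_c57))))))))))))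
theorem f395249 : Led Lsl_gf (LP (LK LD1_c4 LD2_c29 LD3_c45)) = (LP (LK LD1_c2 LD2_c42 LD3_c50)) :=
  Lgr Lrot129 (Lpe (K23.f185042 IH) (Lpr_bt (K54.f395238 IH) (Lpr_gt (K54.f256264 IH) (Lpe (K54.f293960 IH) (Lpr_ct (K49.f275653 IH) (Lpr_gt (K49.f363061 IH) (Lpe (K21.f281433 IH) (Lpr_bt (K49.f281424 IH) (Lpe (K49.f363069 IH) (Lpe (K20.f213614 IH) (Lpn (LP (LK LD1_c2 LD2_c42 LD3_c50)))))))))))))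
theorem f184988 : Led Lsl_ct (LP (LK LD1_c8 LD2_c57 LD3_c43)) = (LP (LK LD1_c4 LD2_c29 LD3_c46)) :=
  Lre_c IH (LK LD1_c8 LD2_c57 LD3_c43) (LK LD1_c4 LD2_c29 LD3_c46) Lrfl Lrfl
theorem f171252 : Led Lsl_ct (LP (LK LD1_c5 LD2_c11 LD3_c7)) = (LP (LK LD1_c10 LD2_c12 LD3_c48)) :=
  Lre_c IH (LK LD1_c5 LD2_c11 LD3_c7) (LK LD1_c10 LD2_c12 LD3_c48) Lrfl Lrfl
theorem f395251 : Led Lsl_gf (LP (LK LD1_c8 LD2_c57 LD3_c43)) = (LP (LK LD1_c10 LD2_c12 LD3_c48)) :=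
  Lgr Lrot104 (Lpr_ct (f184988 IH) (Lpe (K22.f184989 IH) (Lpe (K23.f185039 IH) (Lpr_gf (f395249 IH) (Lpr_cf (K20.f213614 IH) (Lpr_gf (K49.f363069 IH) (Lpe (K46.f181897 IH) (Lpe (K46.f355138 IH) (Lpr_ct (f171252 IH) (Lpn (LP (LK LD1_c10 LD2_c12 LD3_c48))))))))))))
theorem f184984 : Led Lsl_ct (LP (LK LD1_c4 LD2_c29 LD3_c46)) = (LP (LK LD1_c8 LD2_c57 LD3_c43)) :=
  Lre_c IH (LK LD1_c4 LD2_c29 LD3_c46) (LK LD1_c8 LD2_c57 LD3_c43) Lrfl Lrfl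
theorem f395214 : Led Lsl_bt (LP (LK LD1_c4 LD2_c29 LD3_c46)) = (LP (LK LD1_c8 LD2_c54 LD3_c32)) :=
  Lgr Lrot119 (Lpr_ef (K10.f184982 IH) (Lpe (K54.f48640 IH) (Lpr_ef (K54.f395212 IH) (Lpn (LP (LK LD1_c8 LD2_c54 LD3_c32))))))
theorem f395262 : Led Lsl_gt (LP (LK LD1_c8 LD2_c54 LD3_c32)) = (LP (LK LD1_c16 LD2_c35 LD3_c5)) :=
  Lgr Lrot164 (Lpe (f395214 IH) (Lpr_ct (f184984 IH) (Lpr_gf (f395251 IH) (Lpe (f171252 IH) (Lpr_gf (K46.f355138 IH) (Lpe (K49.f355140 IH) (Lpr_ct (K49.f330523 IH) (Lpe (K49.f363058 IH) (Lpe (K25.f352125 IH) (Lpr_bt (K25.f337674 IH) (Lpn (LP (LK LD1_c16 LD2_c35 LD3_c5)))))))))))))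
theorem f395229 : Led Lsl_ct (LP (LK LD1_c8 LD2_c54 LD3_c32)) = (LP (LK LD1_c16 LD2_c39 LD3_c61)) :=
  Lre_c IH (LK LD1_c8 LD2_c54 LD3_c32) (LK LD1_c16 LD2_c39 LD3_c61) Lrfl Lrfl
theorem f249263 : Led Lsl_dt (LP (LK LD1_c19 LD2_c1 LD3_c1)) = (LP (LK LD1_c10 LD2_c29 LD3_c33)) :=
  Lre_d IH (LK LD1_c19 LD2_c1 LD3_c1) (LK LD1_c10 LD2_c29 LD3_c33) Lrfl Lrfl
theorem f361261 : Led Lsl_gf (LP (LK LD1_c10 LD2_c14 LD3_c60)) = (LP (LK LD1_c10 LD2_c28 LD3_c23)) :=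
  Lgr Lrot129 (Lpr_cf (K26.f361243 IH) (Lpe (K26.f330826 IH) (Lpe (K19.f304604 IH) (Lpe (K18.f300066 IH) (Lpr_ct (K26.f189462 IH) (Lpr_gt (K14.f189459 IH) (Lpe (K27.f331406 IH) (Lpr_bt (K27.f249149 IH) (Lpe (K27.f325414 IH) (Lpr_ct (K18.f230463 IH) (Lpn (LP (LK LD1_c10 LD2_c28 LD3_c23)))))))))))))
theorem f361250 : Led Lsl_dt (LP (LK LD1_c10 LD2_c14 LD3_c60)) = (LP (LK LD1_c18 LD2_c38 LD3_c59)) :=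
  Lre_d IH (LK LD1_c10 LD2_c14 LD3_c60) (LK LD1_c18 LD2_c38 LD3_c59) Lrfl Lrfl
theorem f178619 : Led Lsl_dt (LP (LK LD1_c18 LD2_c56 LD3_c40)) = (LP (LK LD1_c10 LD2_c26 LD3_c48)) :=
  Lre_d IH (LK LD1_c18 LD2_c56 LD3_c40) (LK LD1_c10 LD2_c26 LD3_c48) Lrfl Lrfl
theorem f361263 : Led Lsl_gt (LP (LK LD1_c18 LD2_c38 LD3_c59)) = (LP (LK LD1_c18 LD2_c56 LD3_c40)) :=
  Lgr Lrot49 (Lpe (f361250 IH) (Lpr_gf (f361261 IH) (Lpe (K18.f230463 IH) (Lpe (K23.f341097 IH) (Lpr_dt (K23.f296074 IH) (Lpr_gt (K22.f178616 IH) (Lpr_dt (K9.f178593 IH) (Lpe (K22.f178618 IH) (Lpe (f178619 IH) (Lpn (LP (LK LD1_c18 LD2_c56 LD3_c40))))))))))))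
theorem f248428 : Led Lsl_et (LP (LK LD1_c10 LD2_c26 LD3_c48)) = (LP (LK LD1_c10 LD2_c22 LD3_c14)) :=
  Lgr Lrot123 (Lpe (K21.f248381 IH) (Lpr_ef (K14.f248426 IH) (Lpe (K14.f247589 IH) (Lpn (LP (LK LD1_c10 LD2_c22 LD3_c14))))))
theorem f300497 : Led Lsl_et (LP (LK LD1_c10 LD2_c29 LD3_c33)) = (LP (LK LD1_c10 LD2_c28 LD3_c23)) :=
  Lgr Lrot87 (Lpr_ef (K18.f300492 IH) (Lpn (LP (LK LD1_c10 LD2_c28 LD3_c23))))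
theorem f361266 : Led Lsl_gt (LP (LK LD1_c18 LD2_c22 LD3_c2)) = (LP (LK LD1_c19 LD2_c1 LD3_c1)) :=
  Lgr Lrot112 (Lpr_df (K22.f300166 IH) (Lpr_et (K22.f247612 IH) (Lpe (K20.f247610 IH) (Lpe (f248428 IH) (Lpr_dt (K14.f178601 IH) (Lpe (f361263 IH) (Lpe (f361250 IH) (Lpr_gf (f361261 IH) (Lpe (f300497 IH) (Lpr_dt (K67.f300496 IH) (Lpn (LP (LK LD1_c19 LD2_c1 LD3_c1)))))))))))))
theorem f395265 : Led Lsl_gt (LP (LK LD1_c16 LD2_c39 LD3_c61)) = (LP (LK LD1_c26 LD2_c32 LD3_c26)) :=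
  Lgr Lrot94 (Lpe (f395229 IH) (Lpr_gt (f395262 IH) (Lpr_dt (K23.f341103 IH) (Lpr_gt (K23.f302904 IH) (Lpr_dt (K21.f249262 IH) (Lpe (K18.f249261 IH) (Lpe (f249263 IH) (Lpe (f361266 IH) (Lpr_df (K22.f300166 IH) (Lpn (LP (LK LD1_c26 LD2_c32 LD3_c26))))))))))))
theorem f636846 : Led Lsl_ft (LP (LK LD1_c16 LD2_c39 LD3_c61)) = (LP (LK LD1_c10 LD2_c55 LD3_c40)) :=
  Lgr Lrot2 (Lpr_gt (f395265 IH) (Lpr_gt (f355522 IH) (Lpr_af (f636842 IH) (Lpn (LP (LK LD1_c10 LD2_c55 LD3_c40))))))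
theorem f636850 : Led Lsl_ff (LP (LK LD1_c16 LD2_c39 LD3_c61)) = (LP (LK LD1_c10 LD2_c55 LD3_c40)) :=
  Lgr Lrot3 (Lpr_ft (f636846 IH) (Lpn (LP (LK LD1_c10 LD2_c55 LD3_c40))))
theorem f395216 : Led Lsl_ct (LP (LK LD1_c16 LD2_c39 LD3_c61)) = (LP (LK LD1_c8 LD2_c54 LD3_c32)) :=
  Lre_c IH (LK LD1_c16 LD2_c39 LD3_c61) (LK LD1_c8 LD2_c54 LD3_c32) Lrfl Lrfl
theorem f636852 : Led Lsl_ft (LP (LK LD1_c8 LD2_c54 LD3_c32)) = (LP (LK LD1_c5 LD2_c32 LD3_c0)) :=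
  Lgr Lrot4 (Lpe (f395216 IH) (Lpr_ff (f636850 IH) (Lpe (f345971 IH) (Lpn (LP (LK LD1_c5 LD2_c32 LD3_c0))))))
theorem f395222 : Led Lsl_et (LP (LK LD1_c5 LD2_c16 LD3_c53)) = (LP (LK LD1_c8 LD2_c54 LD3_c32)) :=
  Lgr Lrot87 (Lpr_ef (K54.f395212 IH) (Lpn (LP (LK LD1_c8 LD2_c54 LD3_c32))))
theorem f636860 : Led Lsl_ff (LP (LK LD1_c5 LD2_c16 LD3_c53)) = (LP (LK LD1_c5 LD2_c18 LD3_c58)) :=
  Lgr Lrot72 (Lpr_et (f395222 IH) (Lpr_ft (f636852 IH) (Lpr_et (f348481 IH) (Lpe (f636824 IH) (Lpr_et (K22.f335272 IH) (Lpn (LP (LK LD1_c5 LD2_c18 LD3_c58))))))))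
theorem f636868 : v4607 = (LP (LK LD1_c2 LD2_c36 LD3_c5)) :=
  (Llr Lrot75 (Lpe (f636404 IH) (Lpe (K54.f48640 IH) (Lpr_ff (f636860 IH) (Lpe (K22.f212132 IH) (Lpn (LP (LK LD1_c2 LD2_c36 LD3_c5)))))))).symm
theorem f335274 : Led Lsl_bf (LP (LK LD1_c5 LD2_c24 LD3_c26)) = (LP (LK LD1_c2 LD2_c42 LD3_c14)) :=
  Lgr Lrot96 (Lpr_et (K22.f335272 IH) (Lpr_bt (K21.f48919 IH) (Lpr_et (K22.f212119 IH) (Lpn (LP (LK LD1_c2 LD2_c42 LD3_c14))))))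
theorem f636830 : Led Lsl_ff (LP (LK LD1_c2 LD2_c42 LD3_c14)) = (LP (LK LD1_c4 LD2_c29 LD3_c44)) :=
  Lgr Lrot25 (Lpe (f335274 IH) (Lpr_ft (f636828 IH) (Lpr_bt (f348480 IH) (Lpn (LP (LK LD1_c4 LD2_c29 LD3_c44))))))
theorem f636878 : Led Lsl_ff (LP (LK LD1_c2 LD2_c42 LD3_c12)) = (LP (LK LD1_c4 LD2_c29 LD3_c46)) :=
  Lgr Lrot72 (Lpr_et (K35.f348485 IH) (Lpe (f636830 IH) (Lpe (K15.f212112 IH) (Lpq (f636868 IH) (Lpe (f636405 IH) (Lpe (K10.f184982 IH) (Lpn (LP (LK LD1_c4 LD2_c29 LD3_c46)))))))))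
theorem f636882 : Led Lsl_ft (LP (LK LD1_c5 LD2_c32 LD3_c2)) = (LP (LK LD1_c8 LD2_c57 LD3_c43)) :=
  Lgr Lrot4 (Lpe (K72.f304411 IH) (Lpr_ff (f636878 IH) (Lpe (f184988 IH) (Lpn (LP (LK LD1_c8 LD2_c57 LD3_c43))))))
theorem f307925 : Led Lsl_af (LP (LK LD1_c5 LD2_c11 LD3_c27)) = (LP (LK LD1_c5 LD2_c4 LD3_c20)) :=
  Lgr Lrot0 (Lpr_at (K19.f307921 IH) (Lpn (LP (LK LD1_c5 LD2_c4 LD3_c20))))
theorem f331370 : Led Lsl_gt (LP (LK LD1_c2 LD2_c29 LD3_c34)) = (LP (LK LD1_c5 LD2_c3 LD3_c60)) :=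
  Lgr Lrot5 (Lpr_ft (K15.f165969 IH) (Lpe (f307925 IH) (Lpr_gf (K22.f331368 IH) (Lpn (LP (LK LD1_c5 LD2_c3 LD3_c60))))))
theorem f165534 : Led Lsl_et (LP (LK LD1_c2 LD2_c33 LD3_c30)) = (LP (LK LD1_c1 LD2_c13 LD3_c41)) :=
  Lre_e IH (LK LD1_c2 LD2_c33 LD3_c30) (LK LD1_c1 LD2_c13 LD3_c41) Lrfl Lrfl
theorem f165535 : Led Lsl_dt (LP (LK LD1_c2 LD2_c33 LD3_c30)) = (LP (LK LD1_c5 LD2_c13 LD3_c20)) :=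
  Lre_d IH (LK LD1_c2 LD2_c33 LD3_c30) (LK LD1_c5 LD2_c13 LD3_c20) Lrfl Lrfl
theorem f185281 : Led Lsl_gt (LP (LK LD1_c10 LD2_c17 LD3_c0)) = (LP (LK LD1_c5 LD2_c13 LD3_c20)) :=
  Lre_g IH (LK LD1_c10 LD2_c17 LD3_c0) (LK LD1_c5 LD2_c13 LD3_c20) Lrfl Lrfl
theorem f331376 : Led Lsl_et (LP (LK LD1_c9 LD2_c58 LD3_c54)) = (LP (LK LD1_c5 LD2_c3 LD3_c60)) :=
  Lre_e IH (LK LD1_c9 LD2_c58 LD3_c54) (LK LD1_c5 LD2_c3 LD3_c60) Lrfl Lrfl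
theorem f401439 : Led Lsl_df (LP (LK LD1_c10 LD2_c17 LD3_c0)) = (LP (LK LD1_c9 LD2_c58 LD3_c54)) :=
  Lgr Lrot170 (Lpr_gt (f185281 IH) (Lpe (f165535 IH) (Lpr_et (f165534 IH) (Lpe (K13.f185270 IH) (Lpr_dt (K20.f240455 IH) (Lpe (K10.f194053 IH) (Lpe (K10.f165407 IH) (Lpr_et (K15.f165887 IH) (Lpr_gt (f331370 IH) (Lpe (f331376 IH) (Lpn (LP (LK LD1_c9 LD2_c58 LD3_c54)))))))))))))
theorem f184942 : Led Lsl_dt (LP (LK LD1_c5 LD2_c13 LD3_c20)) = (LP (LK LD1_c2 LD2_c33 LD3_c30)) :=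
  Lre_d IH (LK LD1_c5 LD2_c13 LD3_c20) (LK LD1_c2 LD2_c33 LD3_c30) Lrfl Lrfl
theorem f184941 : Led Lsl_ct (LP (LK LD1_c2 LD2_c33 LD3_c30)) = (LP (LK LD1_c1 LD2_c13 LD3_c42)) :=
  Lre_c IH (LK LD1_c2 LD2_c33 LD3_c30) (LK LD1_c1 LD2_c13 LD3_c42) Lrfl Lrfl
theorem f401443 : Led Lsl_gt (LP (LK LD1_c5 LD2_c32 LD3_c2)) = (LP (LK LD1_c9 LD2_c58 LD3_c54)) :=
  Lgr Lrot94 (Lpe (K72.f304411 IH) (Lpr_gt (K35.f348475 IH) (Lpr_dt (K22.f333361 IH) (Lpr_gt (K22.f184947 IH) (Lpr_dt (K10.f184918 IH) (Lpe (f184941 IH) (Lpe (f184942 IH) (Lpe (f185281 IH) (Lpr_df (f401439 IH) (Lpn (LP (LK LD1_c9 LD2_c58 LD3_c54))))))))))))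
theorem f377502 : Led Lsl_ct (LP (LK LD1_c5 LD2_c3 LD3_c61)) = (LP (LK LD1_c9 LD2_c58 LD3_c54)) :=
  Lre_c IH (LK LD1_c5 LD2_c3 LD3_c61) (LK LD1_c9 LD2_c58 LD3_c54) Lrfl Lrfl
theorem f377503 : Led Lsl_gt (LP (LK LD1_c9 LD2_c58 LD3_c54)) = (LP (LK LD1_c5 LD2_c32 LD3_c5)) :=
  Lgr Lrot150 (Lpe (f377502 IH) (Lpr_gf (K46.f377500 IH) (Lpe (K49.f171286 IH) (Lpr_gt (K72.f370967 IH) (Lpr_ct (K20.f168757 IH) (Lpe (K22.f320110 IH) (Lpr_ct (K20.f198766 IH) (Lpe (K15.f198760 IH) (Lpe (K21.f212133 IH) (Lpn (LP (LK LD1_c5 LD2_c32 LD3_c5))))))))))))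
theorem f636890 : Led Lsl_af (LP (LK LD1_c5 LD2_c32 LD3_c5)) = (LP (LK LD1_c8 LD2_c57 LD3_c43)) :=
  Lgr Lrot31 (Lpe (f377503 IH) (Lpe (f401443 IH) (Lpr_ft (f636882 IH) (Lpn (LP (LK LD1_c8 LD2_c57 LD3_c43))))))
theorem f304413 : Led Lsl_ct (LP (LK LD1_c5 LD2_c32 LD3_c2)) = (LP (LK LD1_c2 LD2_c42 LD3_c12)) :=
  Lre_c IH (LK LD1_c5 LD2_c32 LD3_c2) (LK LD1_c2 LD2_c42 LD3_c12) Lrfl Lrfl
theorem f304245 : Led Lsl_ct (LP (LK LD1_c4 LD2_c29 LD3_c44)) = (LP (LK LD1_c8 LD2_c57 LD3_c40)) :=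
  Lre_c IH (LK LD1_c4 LD2_c29 LD3_c44) (LK LD1_c8 LD2_c57 LD3_c40) Lrfl Lrfl
theorem f348490 : Led Lsl_ef (LP (LK LD1_c5 LD2_c32 LD3_c2)) = (LP (LK LD1_c8 LD2_c57 LD3_c40)) :=
  Lgr Lrot28 (Lpr_ct (f304413 IH) (Lpr_et (K35.f348485 IH) (Lpr_ct (f304245 IH) (Lpn (LP (LK LD1_c8 LD2_c57 LD3_c40))))))
theorem f184987 : Led Lsl_bt (LP (LK LD1_c2 LD2_c35 LD3_c10)) = (LP (LK LD1_c5 LD2_c16 LD3_c53)) :=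
  Lre_b IH (LK LD1_c2 LD2_c35 LD3_c10) (LK LD1_c5 LD2_c16 LD3_c53) Lrfl Lrfl
theorem f21373 : Led Lsl_gt (LP (LK LD1_c2 LD2_c29 LD3_c43)) = (LP (LK LD1_c5 LD2_c4 LD3_c44)) :=
  Lre_g IH (LK LD1_c2 LD2_c29 LD3_c43) (LK LD1_c5 LD2_c4 LD3_c44) Lrfl Lrfl
theorem f163882 : Led Lsl_gf (LP (LK LD1_c2 LD2_c29 LD3_c43)) = (LP (LK LD1_c5 LD2_c4 LD3_c44)) :=
  Lgr Lrot76 (Lpr_af (K8.f163868 IH) (Lpr_ff (K0.f21352 IH) (Lpr_gt (f21373 IH) (Lpn (LP (LK LD1_c5 LD2_c4 LD3_c44))))))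
theorem f395206 : Led Lsl_ct (LP (LK LD1_c2 LD2_c35 LD3_c10)) = (LP (LK LD1_c5 LD2_c4 LD3_c44)) :=
  Lgr Lrot64 (Lpr_bt (f184987 IH) (Lpr_gf (K54.f395202 IH) (Lpr_bf (K53.f46981 IH) (Lpr_ct (K53.f46034 IH) (Lpr_gf (K54.f339817 IH) (Lpe (K54.f33934 IH) (Lpe (K13.f21965 IH) (Lpe (K0.f21347 IH) (Lpr_ct (K0.f21351 IH) (Lpr_gf (f163882 IH) (Lpn (LP (LK LD1_c5 LD2_c4 LD3_c44)))))))))))))
theorem f395354 : Led Lsl_ef (LP (LK LD1_c8 LD2_c57 LD3_c43)) = (LP (LK LD1_c5 LD2_c4 LD3_c44)) :=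
  Lgr Lrot28 (Lpr_ct (f184988 IH) (Lpr_et (K10.f184985 IH) (Lpr_ct (f395206 IH) (Lpn (LP (LK LD1_c5 LD2_c4 LD3_c44))))))
theorem f395358 : Led Lsl_et (LP (LK LD1_c8 LD2_c57 LD3_c43)) = (LP (LK LD1_c5 LD2_c4 LD3_c44)) :=
  Lgr Lrot87 (Lpr_ef (f395354 IH) (Lpn (LP (LK LD1_c5 LD2_c4 LD3_c44))))
theorem f212121 : Led Lsl_ct (LP (LK LD1_c2 LD2_c42 LD3_c14)) = (LP (LK LD1_c5 LD2_c32 LD3_c5)) :=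
  Lre_c IH (LK LD1_c2 LD2_c42 LD3_c14) (LK LD1_c5 LD2_c32 LD3_c5) Lrfl Lrfl
theorem f306438 : Led Lsl_cf (LP (LK LD1_c2 LD2_c36 LD3_c5)) = (LP (LK LD1_c5 LD2_c11 LD3_c52)) :=
  Lgr Lrot39 (Lpr_et (K22.f212119 IH) (Lpr_ct (f212121 IH) (Lpr_et (K21.f306432 IH) (Lpn (LP (LK LD1_c5 LD2_c11 LD3_c52))))))
theorem f636874 : Led Lsl_ff (LP (LK LD1_c5 LD2_c11 LD3_c52)) = (LP (LK LD1_c5 LD2_c4 LD3_c44)) :=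
  Lgr Lrot23 (Lpe (f306438 IH) (Lpq (f636868 IH) (Lpe (f636405 IH) (Lpr_ct (f395206 IH) (Lpn (LP (LK LD1_c5 LD2_c4 LD3_c44)))))))
theorem f636886 : Led Lsl_ff (LP (LK LD1_c8 LD2_c57 LD3_c40)) = (LP (LK LD1_c5 LD2_c32 LD3_c5)) :=
  Lgr Lrot72 (Lpe (f348490 IH) (Lpr_ft (f636882 IH) (Lpr_et (f395358 IH) (Lpe (f636874 IH) (Lpe (K21.f306440 IH) (Lpn (LP (LK LD1_c5 LD2_c32 LD3_c5))))))))
theorem f636896 : Led Lsl_at (LP (LK LD1_c8 LD2_c57 LD3_c40)) = (LP (LK LD1_c5 LD2_c32 LD3_c2)) :=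
  Lgr Lrot66 (Lpr_ff (f636886 IH) (Lpr_af (f636890 IH) (Lpe (f636882 IH) (Lpn (LP (LK LD1_c5 LD2_c32 LD3_c2))))))
theorem f636898 : Led Lsl_af (LP (LK LD1_c8 LD2_c57 LD3_c40)) = (LP (LK LD1_c5 LD2_c32 LD3_c2)) :=
  Lgr Lrot0 (Lpr_at (f636896 IH) (Lpn (LP (LK LD1_c5 LD2_c32 LD3_c2))))
theorem f636888 : Led Lsl_ff (LP (LK LD1_c5 LD2_c32 LD3_c2)) = (LP (LK LD1_c8 LD2_c57 LD3_c43)) :=
  Lgr Lrot3 (Lpr_ft (f636882 IH) (Lpn (LP (LK LD1_c8 LD2_c57 LD3_c43))))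
theorem f636892 : Led Lsl_at (LP (LK LD1_c5 LD2_c32 LD3_c5)) = (LP (LK LD1_c8 LD2_c57 LD3_c43)) :=
  Lgr Lrot100 (Lpr_af (f636890 IH) (Lpn (LP (LK LD1_c8 LD2_c57 LD3_c43))))
theorem f636904 : Led Lsl_ft (LP (LK LD1_c8 LD2_c57 LD3_c40)) = (LP (LK LD1_c5 LD2_c32 LD3_c5)) :=
  Lgr Lrot101 (Lpr_af (f636898 IH) (Lpr_ff (f636888 IH) (Lpe (f636892 IH) (Lpn (LP (LK LD1_c5 LD2_c32 LD3_c5))))))
theorem f348483 : Led Lsl_et (LP (LK LD1_c5 LD2_c32 LD3_c2)) = (LP (LK LD1_c8 LD2_c57 LD3_c40)) :=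
  Lgr Lrot158 (Lpe (K72.f304411 IH) (Lpr_ef (K35.f348478 IH) (Lpe (K35.f304244 IH) (Lpn (LP (LK LD1_c8 LD2_c57 LD3_c40))))))
theorem f636906 : Led Lsl_ff (LP (LK LD1_c5 LD2_c4 LD3_c44)) = (LP (LK LD1_c5 LD2_c11 LD3_c52)) :=
  Lgr Lrot72 (Lpe (f395354 IH) (Lpe (f636888 IH) (Lpr_et (f348483 IH) (Lpr_ft (f636904 IH) (Lpr_et (K21.f306432 IH) (Lpn (LP (LK LD1_c5 LD2_c11 LD3_c52))))))))
theorem f395349 : Led Lsl_bt (LP (LK LD1_c5 LD2_c4 LD3_c44)) = (LP (LK LD1_c10 LD2_c0 LD3_c36)) :=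
  Lre_b IH (LK LD1_c5 LD2_c4 LD3_c44) (LK LD1_c10 LD2_c0 LD3_c36) Lrfl Lrfl
theorem f165417 : Led Lsl_bt (LP (LK LD1_c10 LD2_c14 LD3_c36)) = (LP (LK LD1_c5 LD2_c11 LD3_c52)) :=
  Lre_b IH (LK LD1_c10 LD2_c14 LD3_c36) (LK LD1_c5 LD2_c11 LD3_c52) Lrfl Lrfl
theorem f636908 : Led Lsl_ft (LP (LK LD1_c10 LD2_c0 LD3_c36)) = (LP (LK LD1_c10 LD2_c14 LD3_c36)) :=
  Lgr Lrot75 (Lpe (f395349 IH) (Lpr_ff (f636906 IH) (Lpe (f165417 IH) (Lpn (LP (LK LD1_c10 LD2_c14 LD3_c36))))))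
theorem f636914 : Led Lsl_ff (LP (LK LD1_c10 LD2_c0 LD3_c36)) = (LP (LK LD1_c10 LD2_c14 LD3_c36)) :=
  Lgr Lrot3 (Lpr_ft (f636908 IH) (Lpn (LP (LK LD1_c10 LD2_c14 LD3_c36))))
theorem f163889 : Led Lsl_ct (LP (LK LD1_c10 LD2_c0 LD3_c36)) = (LP (LK LD1_c18 LD2_c17 LD3_c33)) :=
  Lre_c IH (LK LD1_c10 LD2_c0 LD3_c36) (LK LD1_c18 LD2_c17 LD3_c33) Lrfl Lrfl
theorem f165418 : Led Lsl_ct (LP (LK LD1_c18 LD2_c38 LD3_c31)) = (LP (LK LD1_c10 LD2_c14 LD3_c36)) :=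
  Lre_c IH (LK LD1_c18 LD2_c38 LD3_c31) (LK LD1_c10 LD2_c14 LD3_c36) Lrfl Lrfl
theorem f636916 : Led Lsl_ft (LP (LK LD1_c18 LD2_c17 LD3_c33)) = (LP (LK LD1_c18 LD2_c38 LD3_c31)) :=
  Lgr Lrot4 (Lpe (f163889 IH) (Lpr_ff (f636914 IH) (Lpe (f165418 IH) (Lpn (LP (LK LD1_c18 LD2_c38 LD3_c31))))))
theorem f395352 : Led Lsl_cf (LP (LK LD1_c2 LD2_c35 LD3_c10)) = (LP (LK LD1_c5 LD2_c4 LD3_c44)) :=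
  Lgr Lrot11 (Lpr_ct (f395206 IH) (Lpn (LP (LK LD1_c5 LD2_c4 LD3_c44))))
theorem f163885 : Led Lsl_bt (LP (LK LD1_c10 LD2_c0 LD3_c36)) = (LP (LK LD1_c5 LD2_c4 LD3_c44)) :=
  Lre_b IH (LK LD1_c10 LD2_c0 LD3_c36) (LK LD1_c5 LD2_c4 LD3_c44) Lrfl Lrfl
theorem f163886 : Led Lsl_ct (LP (LK LD1_c18 LD2_c17 LD3_c33)) = (LP (LK LD1_c10 LD2_c0 LD3_c36)) :=
  Lre_c IH (LK LD1_c18 LD2_c17 LD3_c33) (LK LD1_c10 LD2_c0 LD3_c36) Lrfl Lrfl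
theorem f395362 : Led Lsl_bt (LP (LK LD1_c10 LD2_c23 LD3_c20)) = (LP (LK LD1_c18 LD2_c17 LD3_c33)) :=
  Lgr Lrot128 (Lpe (K54.f48642 IH) (Lpe (f184987 IH) (Lpr_cf (f395352 IH) (Lpe (f163885 IH) (Lpe (f163886 IH) (Lpn (LP (LK LD1_c18 LD2_c17 LD3_c33))))))))
theorem f48920 : Led Lsl_ct (LP (LK LD1_c10 LD2_c27 LD3_c47)) = (LP (LK LD1_c5 LD2_c18 LD3_c58)) :=
  Lre_c IH (LK LD1_c10 LD2_c27 LD3_c47) (LK LD1_c5 LD2_c18 LD3_c58) Lrfl Lrfl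
theorem f306435 : Led Lsl_bt (LP (LK LD1_c5 LD2_c11 LD3_c52)) = (LP (LK LD1_c10 LD2_c14 LD3_c36)) :=
  Lre_b IH (LK LD1_c5 LD2_c11 LD3_c52) (LK LD1_c10 LD2_c14 LD3_c36) Lrfl Lrfl
theorem f165419 : Led Lsl_ct (LP (LK LD1_c10 LD2_c14 LD3_c36)) = (LP (LK LD1_c18 LD2_c38 LD3_c31)) :=
  Lre_c IH (LK LD1_c10 LD2_c14 LD3_c36) (LK LD1_c18 LD2_c38 LD3_c31) Lrfl Lrfl
theorem f306449 : Led Lsl_bf (LP (LK LD1_c10 LD2_c27 LD3_c47)) = (LP (LK LD1_c18 LD2_c38 LD3_c31)) :=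
  Lgr Lrot90 (Lpr_ct (f48920 IH) (Lpr_bt (K21.f48919 IH) (Lpr_ct (K21.f306447 IH) (Lpr_bt (f306435 IH) (Lpr_ct (f165419 IH) (Lpn (LP (LK LD1_c18 LD2_c38 LD3_c31))))))))
theorem f636918 : Led Lsl_ff (LP (LK LD1_c10 LD2_c23 LD3_c20)) = (LP (LK LD1_c10 LD2_c27 LD3_c47)) :=
  Lgr Lrot25 (Lpr_bt (f395362 IH) (Lpr_ft (f636916 IH) (Lpe (f306449 IH) (Lpn (LP (LK LD1_c10 LD2_c27 LD3_c47))))))
theorem f636920 : Led Lsl_at (LP (LK LD1_c10 LD2_c23 LD3_c20)) = (LP (LK LD1_c10 LD2_c30 LD3_c27)) :=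
  Lgr Lrot26 (Lpr_ff (f636918 IH) (Lpe (K21.f309545 IH) (Lpe (K53.f335253 IH) (Lpn (LP (LK LD1_c10 LD2_c30 LD3_c27))))))
theorem f46073 : Led Lsl_ct (LP (LK LD1_c10 LD2_c30 LD3_c27)) = (LP (LK LD1_c5 LD2_c20 LD3_c14)) :=
  Lre_c IH (LK LD1_c10 LD2_c30 LD3_c27) (LK LD1_c5 LD2_c20 LD3_c14) Lrfl Lrfl
theorem f636924 : Led Lsl_af (LP (LK LD1_c5 LD2_c16 LD3_c53)) = (LP (LK LD1_c5 LD2_c20 LD3_c14)) :=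
  Lgr Lrot68 (Lpr_ct (K54.f48642 IH) (Lpr_at (f636920 IH) (Lpr_ct (f46073 IH) (Lpn (LP (LK LD1_c5 LD2_c20 LD3_c14))))))
theorem f335276 : Led Lsl_ef (LP (LK LD1_c5 LD2_c24 LD3_c26)) = (LP (LK LD1_c5 LD2_c18 LD3_c58)) :=
  Lgr Lrot88 (Lpr_et (K22.f335272 IH) (Lpn (LP (LK LD1_c5 LD2_c18 LD3_c58))))
theorem f636799 : Led Lsl_ft (LP (LK LD1_c5 LD2_c32 LD3_c0)) = (LP (LK LD1_c8 LD2_c54 LD3_c32)) :=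
  Lgr Lrot54 (Lpe (K35.f345965 IH) (Lpr_ff (f636795 IH) (Lpe (K54.f294187 IH) (Lpn (LP (LK LD1_c8 LD2_c54 LD3_c32))))))
theorem f636832 : Led Lsl_ff (LP (LK LD1_c5 LD2_c18 LD3_c58)) = (LP (LK LD1_c5 LD2_c16 LD3_c53)) :=
  Lgr Lrot72 (Lpe (f335276 IH) (Lpr_ft (f636828 IH) (Lpe (K35.f348488 IH) (Lpr_ft (f636799 IH) (Lpe (K54.f395212 IH) (Lpn (LP (LK LD1_c5 LD2_c16 LD3_c53))))))))
theorem f636936 : Led Lsl_at (LP (LK LD1_c5 LD2_c18 LD3_c58)) = (LP (LK LD1_c5 LD2_c19 LD3_c42)) :=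
  Lgr Lrot67 (Lpe (K22.f212132 IH) (Lpq (f636868 IH) (Lpe (f636402 IH) (Lpe (K54.f48640 IH) (Lpr_af (f636924 IH) (Lpr_bf (K23.f306555 IH) (Lpn (LP (LK LD1_c5 LD2_c19 LD3_c42)))))))))
theorem f636940 : Led Lsl_ft (LP (LK LD1_c5 LD2_c19 LD3_c42)) = (LP (LK LD1_c5 LD2_c20 LD3_c14)) :=
  Lgr Lrot101 (Lpe (f636936 IH) (Lpr_ff (f636832 IH) (Lpr_af (f636924 IH) (Lpn (LP (LK LD1_c5 LD2_c20 LD3_c14))))))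
theorem f636948 : Led Lsl_ff (LP (LK LD1_c5 LD2_c19 LD3_c42)) = (LP (LK LD1_c5 LD2_c20 LD3_c14)) :=
  Lgr Lrot3 (Lpr_ft (f636940 IH) (Lpn (LP (LK LD1_c5 LD2_c20 LD3_c14))))
theorem f636775 : Led Lsl_ff (LP (LK LD1_c10 LD2_c30 LD3_c29)) = (LP (LK LD1_c8 LD2_c54 LD3_c30)) :=
  Lgr Lrot19 (Lpr_dt (K20.f242951 IH) (Lpr_ft (f636769 IH) (Lpr_dt (K21.f302800 IH) (Lpn (LP (LK LD1_c8 LD2_c54 LD3_c30))))))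
theorem f636956 : Led Lsl_ft (LP (LK LD1_c10 LD2_c29 LD3_c14)) = (LP (LK LD1_c5 LD2_c24 LD3_c24)) :=
  Lgr Lrot86 (Lpe (K23.f258106 IH) (Lpr_ff (f636948 IH) (Lpe (K20.f46077 IH) (Lpr_ff (f636775 IH) (Lpr_ef (K21.f325757 IH) (Lpn (LP (LK LD1_c5 LD2_c24 LD3_c24))))))))
theorem f636836 : Led Lsl_at (LP (LK LD1_c5 LD2_c24 LD3_c24)) = (LP (LK LD1_c8 LD2_c57 LD3_c39)) :=
  Lgr Lrot100 (Lpr_af (f636834 IH) (Lpn (LP (LK LD1_c8 LD2_c57 LD3_c39))))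
theorem f636958 : Led Lsl_af (LP (LK LD1_c10 LD2_c29 LD3_c14)) = (LP (LK LD1_c5 LD2_c24 LD3_c26)) :=
  Lgr Lrot45 (Lpr_ft (f636956 IH) (Lpr_at (f636836 IH) (Lpe (f636824 IH) (Lpn (LP (LK LD1_c5 LD2_c24 LD3_c26))))))
theorem f636960 : Led Lsl_at (LP (LK LD1_c10 LD2_c29 LD3_c14)) = (LP (LK LD1_c5 LD2_c24 LD3_c26)) :=
  Lgr Lrot100 (Lpr_af (f636958 IH) (Lpn (LP (LK LD1_c5 LD2_c24 LD3_c26))))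
theorem f258104 : Led Lsl_df (LP (LK LD1_c10 LD2_c29 LD3_c14)) = (LP (LK LD1_c5 LD2_c20 LD3_c47)) :=
  Lgr Lrot38 (Lpr_dt (K23.f258101 IH) (Lpn (LP (LK LD1_c5 LD2_c20 LD3_c47))))
theorem f636964 : Led Lsl_af (LP (LK LD1_c5 LD2_c20 LD3_c47)) = (LP (LK LD1_c2 LD2_c38 LD3_c45)) :=
  Lgr Lrot117 (Lpe (f258104 IH) (Lpr_at (f636960 IH) (Lpr_dt (K22.f306520 IH) (Lpn (LP (LK LD1_c2 LD2_c38 LD3_c45))))))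
theorem f636968 : Led Lsl_at (LP (LK LD1_c10 LD2_c31 LD3_c41)) = (LP (LK LD1_c5 LD2_c24 LD3_c27)) :=
  Lgr Lrot80 (Lpe (K23.f258107 IH) (Lpr_af (f636964 IH) (Lpe (K22.f195900 IH) (Lpn (LP (LK LD1_c5 LD2_c24 LD3_c27))))))
theorem f636978 : Led Lsl_ff (LP (LK LD1_c10 LD2_c31 LD3_c41)) = (LP (LK LD1_c16 LD2_c38 LD3_c27)) :=
  Lgr Lrot52 (Lpr_at (f636968 IH) (Lpe (K22.f335293 IH) (Lpr_gf (K53.f333569 IH) (Lpn (LP (LK LD1_c16 LD2_c38 LD3_c27))))))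
theorem f636988 : Led Lsl_ft (LP (LK LD1_c10 LD2_c31 LD3_c41)) = (LP (LK LD1_c16 LD2_c38 LD3_c27)) :=
  Lgr Lrot48 (Lpr_ff (f636978 IH) (Lpn (LP (LK LD1_c16 LD2_c38 LD3_c27))))
theorem f316360 : Led Lsl_gf (LP (LK LD1_c10 LD2_c28 LD3_c38)) = (LP (LK LD1_c10 LD2_c31 LD3_c41)) :=
  Lgr Lrot134 (Lpe (K20.f230293 IH) (Lpr_et (K22.f316353 IH) (Lpr_gt (K20.f178707 IH) (Lpe (K9.f178700 IH) (Lpe (K10.f178533 IH) (Lpr_gt (K16.f170657 IH) (Lpe (K14.f230798 IH) (Lpr_et (K14.f230800 IH) (Lpr_gt (K23.f169874 IH) (Lpe (K23.f258124 IH) (Lpn (LP (LK LD1_c10 LD2_c31 LD3_c41)))))))))))))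
theorem f636998 : Led Lsl_af (LP (LK LD1_c10 LD2_c34 LD3_c13)) = (LP (LK LD1_c16 LD2_c38 LD3_c27)) :=
  Lgr Lrot31 (Lpe (K20.f316387 IH) (Lpr_gf (f316360 IH) (Lpr_ft (f636988 IH) (Lpn (LP (LK LD1_c16 LD2_c38 LD3_c27))))))
theorem f636970 : Led Lsl_af (LP (LK LD1_c10 LD2_c31 LD3_c41)) = (LP (LK LD1_c5 LD2_c24 LD3_c27)) :=
  Lgr Lrot0 (Lpr_at (f636968 IH) (Lpn (LP (LK LD1_c5 LD2_c24 LD3_c27))))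
theorem f637008 : Led Lsl_ft (LP (LK LD1_c10 LD2_c34 LD3_c13)) = (LP (LK LD1_c5 LD2_c24 LD3_c27)) :=
  Lgr Lrot101 (Lpr_af (f636998 IH) (Lpe (f636988 IH) (Lpr_af (f636970 IH) (Lpn (LP (LK LD1_c5 LD2_c24 LD3_c27))))))
theorem f637018 : Led Lsl_ff (LP (LK LD1_c10 LD2_c34 LD3_c13)) = (LP (LK LD1_c5 LD2_c24 LD3_c27)) :=
  Lgr Lrot3 (Lpr_ft (f637008 IH) (Lpn (LP (LK LD1_c5 LD2_c24 LD3_c27))))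
theorem f325742 : Led Lsl_ct (LP (LK LD1_c10 LD2_c39 LD3_c36)) = (LP (LK LD1_c5 LD2_c24 LD3_c27)) :=
  Lre_c IH (LK LD1_c10 LD2_c39 LD3_c36) (LK LD1_c5 LD2_c24 LD3_c27) Lrfl Lrfl
theorem f637022 : Led Lsl_ft (LP (LK LD1_c19 LD2_c8 LD3_c45)) = (LP (LK LD1_c10 LD2_c39 LD3_c36)) :=
  Lgr Lrot4 (Lpe (K54.f256502 IH) (Lpr_ff (f637018 IH) (Lpe (f325742 IH) (Lpn (LP (LK LD1_c10 LD2_c39 LD3_c36))))))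
theorem f636974 : Led Lsl_af (LP (LK LD1_c19 LD2_c4 LD3_c35)) = (LP (LK LD1_c10 LD2_c39 LD3_c36)) :=
  Lgr Lrot68 (Lpr_ct (K23.f258122 IH) (Lpr_at (f636968 IH) (Lpr_ct (K22.f325737 IH) (Lpn (LP (LK LD1_c10 LD2_c39 LD3_c36))))))
theorem f637435 : Led Lsl_gt (LP (LK LD1_c10 LD2_c42 LD3_c33)) = (LP (LK LD1_c19 LD2_c4 LD3_c35)) :=
  Lgr Lrot46 (Lpr_gf (K25.f316526 IH) (Lpr_ft (f637022 IH) (Lpe (f636974 IH) (Lpn (LP (LK LD1_c19 LD2_c4 LD3_c35))))))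
theorem f944502 : Led Lsl_gf (LP (LK LD1_c19 LD2_c11 LD3_c52)) = (LP (LK LD1_c28 LD2_c30 LD3_c46)) :=
  Lgr Lrot134 (Lpe (K23.f278540 IH) (Lpe (K26.f343845 IH) (Lpr_gt (f367449 IH) (Lpr_ef (f941977 IH) (Lpr_dt (f944499 IH) (Lpe (f944496 IH) (Lpe (f221675 IH) (Lpr_et (f316534 IH) (Lpr_gt (f637435 IH) (Lpr_dt (K23.f258141 IH) (Lpn (LP (LK LD1_c28 LD2_c30 LD3_c46)))))))))))))
theorem f944503 : Led Lsl_gt (LP (LK LD1_c28 LD2_c30 LD3_c46)) = (LP (LK LD1_c19 LD2_c11 LD3_c52)) :=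
  Leop (Lpr_gf (f944502 IH) (Lpn (LP (LK LD1_c28 LD2_c30 LD3_c46))))
theorem seed_2694 : LEOK LG_g (LK LD1_c28 LD2_c30 LD3_c46) :=
  Leoe_g (LK LD1_c28 LD2_c30 LD3_c46) (f944503 IH)
def v44312 : LQ := Led Lsl_ct (LP (LK LD1_c10 LD2_c43 LD3_c13))
theorem f944693 : Led Lsl_ct (LP (LK LD1_c10 LD2_c43 LD3_c13)) = v44312 :=
  Lrfl
theorem f924174 : Led Lsl_ff K72.v14918 = K56.v16885 :=
  Lgr Lrot19 (Lpe (K72.f727278 IH) (Lpqs (K72.f924147 IH) (Lpe (K72.f752328 IH) (Lpr_dt (K56.f752317 IH) (Lpn K56.v16885)))))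
theorem f944696 : Led Lsl_ff (LP (LK LD1_c18 LD2_c41 LD3_c60)) = v44312 :=
  Lgr Lrot23 (Lpr_ct (K72.f184920 IH) (Lpq (K72.f924253 IH) (Lpe (f924174 IH) (Lpqs (K72.f924352 IH) (Lpr_ct (f944693 IH) (Lpn v44312))))))
theorem f944698 : Led Lsl_ft (LP (LK LD1_c18 LD2_c41 LD3_c60)) = v44312 :=
  Lgr Lrot48 (Lpr_ff (f944696 IH) (Lpn v44312))
theorem f924243 : Led Lsl_at K56.v16885 = K72.v14922 :=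
  Lgr Lrot100 (Lpr_af (K72.f924242 IH) (Lpn K72.v14922))
theorem f924175 : Led Lsl_ft K72.v14918 = K56.v16885 :=
  Lgr Lrot48 (Lpr_ff (f924174 IH) (Lpn K56.v16885))
theorem f924246 : Led Lsl_at K72.v16889 = K72.v14918 :=
  Lgr Lrot66 (Lpr_ff (K72.f924245 IH) (Lpe (f924243 IH) (Lpe (f924175 IH) (Lpn K72.v14918))))
theorem f944694 : Led Lsl_af (LP (LK LD1_c18 LD2_c41 LD3_c61)) = v44312 :=
  Lgr Lrot68 (Lpr_ct (K72.f192870 IH) (Lpq (K72.f924250 IH) (Lpr_at (f924246 IH) (Lpqs (K72.f924352 IH) (Lpr_ct (f944693 IH) (Lpn v44312))))))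
theorem f944699 : Led Lsl_gt (LP (LK LD1_c20 LD2_c59 LD3_c29)) = (LP (LK LD1_c18 LD2_c41 LD3_c61)) :=
  Lgr Lrot46 (Lpe (K72.f184912 IH) (Lpr_ft (f944698 IH) (Lpe (f944694 IH) (Lpn (LP (LK LD1_c18 LD2_c41 LD3_c61))))))
theorem f944700 : Led Lsl_gt (LP (LK LD1_c20 LD2_c59 LD3_c29)) = (LP (LK LD1_c18 LD2_c41 LD3_c61)) :=
  Leop (Lpe (f944699 IH) (Lpn (LP (LK LD1_c20 LD2_c59 LD3_c29))))
theorem seed_2695 : LEOK LG_g (LK LD1_c20 LD2_c59 LD3_c29) :=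
  Leoe_g (LK LD1_c20 LD2_c59 LD3_c29) (f944700 IH)
def v44315 : LQ := Led Lsl_et (LP (LK LD1_c10 LD2_c43 LD3_c14))
theorem f944711 : Led Lsl_et (LP (LK LD1_c10 LD2_c43 LD3_c14)) = v44315 :=
  Lrfl
theorem f195743 : Led Lsl_gt (LP (LK LD1_c10 LD2_c43 LD3_c14)) = (LP (LK LD1_c5 LD2_c25 LD3_c61)) :=
  Lre_g IH (LK LD1_c10 LD2_c43 LD3_c14) (LK LD1_c5 LD2_c25 LD3_c61) Lrfl Lrfl
theorem f723153 : Led Lsl_gf (LP (LK LD1_c10 LD2_c43 LD3_c14)) = K72.v14549 :=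
  Lgr Lrot47 (Lpr_gt (f195743 IH) (Lpe (K72.f195729 IH) (Lpr_ff (K72.f723150 IH) (Lpn K72.v14549))))
theorem f924359 : K72.v14922 = (LP (LK LD1_c10 LD2_c43 LD3_c14)) :=
  (Llr Lrot26 (Lpe (f924243 IH) (Lpe (f924175 IH) (Lpqs (K72.f924352 IH) (Lpr_gt (K72.f723151 IH) (Lpe (f723153 IH) (Lpn (LP (LK LD1_c10 LD2_c43 LD3_c14))))))))).symm
theorem f727290 : Led Lsl_df (LP (LK LD1_c5 LD2_c27 LD3_c16)) = K72.v14922 :=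
  Lgr Lrot38 (Lpr_dt (K72.f727289 IH) (Lpn K72.v14922))
theorem f8884 : Led Lsl_gf (LP (LK LD1_c5 LD2_c27 LD3_c16)) = (LP (LK LD1_c6 LD2_c8 LD3_c21)) :=
  Lgr Lrot47 (Lpr_gt (K72.f8883 IH) (Lpe (K72.f8869 IH) (Lpr_ff (K0.f8865 IH) (Lpn (LP (LK LD1_c6 LD2_c8 LD3_c21))))))
theorem f8732 : Led Lsl_gt (LP (LK LD1_c5 LD2_c34 LD3_c34)) = (LP (LK LD1_c10 LD2_c45 LD3_c10)) :=
  Lre_g IH (LK LD1_c5 LD2_c34 LD3_c34) (LK LD1_c10 LD2_c45 LD3_c10) Lrfl Lrfl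
theorem f8905 : Led Lsl_et (LP (LK LD1_c11 LD2_c1 LD3_c26)) = (LP (LK LD1_c5 LD2_c34 LD3_c34)) :=
  Lre_e IH (LK LD1_c11 LD2_c1 LD3_c26) (LK LD1_c5 LD2_c34 LD3_c34) Lrfl Lrfl
theorem f8906 : Led Lsl_dt (LP (LK LD1_c11 LD2_c1 LD3_c26)) = (LP (LK LD1_c19 LD2_c52 LD3_c44)) :=
  Lre_d IH (LK LD1_c11 LD2_c1 LD3_c26) (LK LD1_c19 LD2_c52 LD3_c44) Lrfl Lrfl
theorem f8907 : Led Lsl_et (LP (LK LD1_c5 LD2_c27 LD3_c8)) = (LP (LK LD1_c2 LD2_c39 LD3_c58)) :=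
  Lre_e IH (LK LD1_c5 LD2_c27 LD3_c8) (LK LD1_c2 LD2_c39 LD3_c58) Lrfl Lrfl
theorem f8908 : Led Lsl_dt (LP (LK LD1_c5 LD2_c27 LD3_c8)) = (LP (LK LD1_c10 LD2_c45 LD3_c28)) :=
  Lre_d IH (LK LD1_c5 LD2_c27 LD3_c8) (LK LD1_c10 LD2_c45 LD3_c28) Lrfl Lrfl
theorem f267872 : Led Lsl_ft (LP (LK LD1_c4 LD2_c10 LD3_c60)) = (LP (LK LD1_c8 LD2_c21 LD3_c51)) :=
  Lre_f IH (LK LD1_c4 LD2_c10 LD3_c60) (LK LD1_c8 LD2_c21 LD3_c51) Lrfl Lrfl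
theorem f379344 : Led Lsl_ff (LP (LK LD1_c8 LD2_c21 LD3_c50)) = (LP (LK LD1_c10 LD2_c45 LD3_c0)) :=
  Lgr Lrot19 (Lpr_dt (K17.f179085 IH) (Lpr_ft (f267872 IH) (Lpr_dt (K53.f355113 IH) (Lpn (LP (LK LD1_c10 LD2_c45 LD3_c0))))))
theorem f379350 : Led Lsl_ft (LP (LK LD1_c8 LD2_c21 LD3_c50)) = (LP (LK LD1_c10 LD2_c45 LD3_c0)) :=
  Lgr Lrot48 (Lpr_ff (f379344 IH) (Lpn (LP (LK LD1_c10 LD2_c45 LD3_c0))))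
theorem f225369 : Led Lsl_bt (LP (LK LD1_c15 LD2_c44 LD3_c20)) = (LP (LK LD1_c8 LD2_c21 LD3_c50)) :=
  Lre_b IH (LK LD1_c15 LD2_c44 LD3_c20) (LK LD1_c8 LD2_c21 LD3_c50) Lrfl Lrfl
theorem f379339 : Led Lsl_bt (LP (LK LD1_c10 LD2_c45 LD3_c0)) = (LP (LK LD1_c19 LD2_c26 LD3_c41)) :=
  Lre_b IH (LK LD1_c10 LD2_c45 LD3_c0) (LK LD1_c19 LD2_c26 LD3_c41) Lrfl Lrfl
theorem f379352 : Led Lsl_ff (LP (LK LD1_c15 LD2_c44 LD3_c20)) = (LP (LK LD1_c19 LD2_c26 LD3_c41)) :=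
  Lgr Lrot25 (Lpr_bt (f225369 IH) (Lpr_ft (f379350 IH) (Lpr_bt (f379339 IH) (Lpn (LP (LK LD1_c19 LD2_c26 LD3_c41))))))
theorem f172992 : Led Lsl_gt (LP (LK LD1_c10 LD2_c45 LD3_c28)) = (LP (LK LD1_c19 LD2_c27 LD3_c23)) :=
  Lre_g IH (LK LD1_c10 LD2_c45 LD3_c28) (LK LD1_c19 LD2_c27 LD3_c23) Lrfl Lrfl
theorem f277198 : Led Lsl_dt (LP (LK LD1_c15 LD2_c44 LD3_c19)) = (LP (LK LD1_c19 LD2_c27 LD3_c23)) :=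
  Lgr Lrot37 (Lpr_et (K53.f225410 IH) (Lpr_gt (K30.f277196 IH) (Lpr_dt (K30.f172958 IH) (Lpr_gt (K30.f172867 IH) (Lpe (K30.f172989 IH) (Lpr_et (K72.f172990 IH) (Lpr_gt (K39.f172991 IH) (Lpe (f8907 IH) (Lpr_dt (f8908 IH) (Lpr_gt (f172992 IH) (Lpn (LP (LK LD1_c19 LD2_c27 LD3_c23)))))))))))))
theorem f277203 : Led Lsl_df (LP (LK LD1_c15 LD2_c44 LD3_c19)) = (LP (LK LD1_c19 LD2_c27 LD3_c23)) :=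
  Lgr Lrot38 (Lpr_dt (f277198 IH) (Lpn (LP (LK LD1_c19 LD2_c27 LD3_c23))))
theorem f277206 : Led Lsl_at (LP (LK LD1_c15 LD2_c44 LD3_c20)) = (LP (LK LD1_c19 LD2_c27 LD3_c23)) :=
  Lgr Lrot51 (Lpe (K14.f225384 IH) (Lpe (K17.f277205 IH) (Lpr_df (f277203 IH) (Lpn (LP (LK LD1_c19 LD2_c27 LD3_c23))))))
theorem f379356 : Led Lsl_gf (LP (LK LD1_c10 LD2_c45 LD3_c28)) = (LP (LK LD1_c19 LD2_c26 LD3_c41)) :=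
  Lgr Lrot47 (Lpr_gt (f172992 IH) (Lpe (f277206 IH) (Lpr_ff (f379352 IH) (Lpn (LP (LK LD1_c19 LD2_c26 LD3_c41))))))
theorem f225390 : Led Lsl_dt (LP (LK LD1_c15 LD2_c44 LD3_c20)) = (LP (LK LD1_c8 LD2_c21 LD3_c49)) :=
  Lre_d IH (LK LD1_c15 LD2_c44 LD3_c20) (LK LD1_c8 LD2_c21 LD3_c49) Lrfl Lrfl
theorem f267883 : Led Lsl_ft (LP (LK LD1_c8 LD2_c21 LD3_c49)) = (LP (LK LD1_c15 LD2_c44 LD3_c21)) :=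
  Lre_f IH (LK LD1_c8 LD2_c21 LD3_c49) (LK LD1_c15 LD2_c44 LD3_c21) Lrfl Lrfl
theorem f379354 : Led Lsl_dt (LP (LK LD1_c15 LD2_c44 LD3_c21)) = (LP (LK LD1_c19 LD2_c26 LD3_c41)) :=
  Lgr Lrot60 (Lpe (f267883 IH) (Lpe (f225390 IH) (Lpr_ff (f379352 IH) (Lpn (LP (LK LD1_c19 LD2_c26 LD3_c41))))))
theorem f944715 : Led Lsl_gf (LP (LK LD1_c10 LD2_c43 LD3_c55)) = v44315 :=
  Lgr Lrot141 (Lpr_ef (K53.f267874 IH) (Lpr_dt (f379354 IH) (Lpe (f379356 IH) (Lpe (f8908 IH) (Lpr_et (f8907 IH) (Lpr_gt (K73.f8888 IH) (Lpr_dt (K72.f8878 IH) (Lpe (f8884 IH) (Lpr_df (f727290 IH) (Lpqs (f924359 IH) (Lpr_et (f944711 IH) (Lpn v44315))))))))))))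
theorem f944716 : Led Lsl_gf (LP (LK LD1_c19 LD2_c52 LD3_c44)) = (LP (LK LD1_c19 LD2_c25 LD3_c11)) :=
  Lgr Lrot134 (Lpe (f8906 IH) (Lpr_et (f8905 IH) (Lpr_gt (f8732 IH) (Lpe (K72.f8904 IH) (Lpr_dt (K72.f8878 IH) (Lpe (f8884 IH) (Lpr_df (f727290 IH) (Lpqs (f924359 IH) (Lpr_et (f944711 IH) (Lpe (f944715 IH) (Lpr_dt (K53.f267882 IH) (Lpn (LP (LK LD1_c19 LD2_c25 LD3_c11))))))))))))))
theorem f944717 : Led Lsl_gt (LP (LK LD1_c19 LD2_c25 LD3_c11)) = (LP (LK LD1_c19 LD2_c52 LD3_c44)) :=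
  Leop (Lpr_gf (f944716 IH) (Lpn (LP (LK LD1_c19 LD2_c25 LD3_c11))))
theorem seed_2696 : LEOK LG_g (LK LD1_c19 LD2_c25 LD3_c11) :=
  Leoe_g (LK LD1_c19 LD2_c25 LD3_c11) (f944717 IH)
def v44348 : LQ := Led Lsl_gf (LP (LK LD1_c10 LD2_c43 LD3_c31))
theorem f944831 : Led Lsl_gf (LP (LK LD1_c10 LD2_c43 LD3_c31)) = v44348 :=
  Lrfl
theorem f256895 : Led Lsl_bt (LP (LK LD1_c6 LD2_c4 LD3_c40)) = (LP (LK LD1_c2 LD2_c58 LD3_c31)) :=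
  Lre_b IH (LK LD1_c6 LD2_c4 LD3_c40) (LK LD1_c2 LD2_c58 LD3_c31) Lrfl Lrfl
theorem f602546 : Led Lsl_cf (LP (LK LD1_c8 LD2_c13 LD3_c61)) = (LP (LK LD1_c6 LD2_c4 LD3_c40)) :=
  Lgr Lrot97 (Lpr_bt (K56.f602542 IH) (Lpr_ct (K17.f194176 IH) (Lpr_bt (K16.f250440 IH) (Lpr_ct (K15.f182766 IH) (Lpr_bt (K56.f250443 IH) (Lpn (LP (LK LD1_c6 LD2_c4 LD3_c40))))))))
theorem f182900 : Led Lsl_gt (LP (LK LD1_c15 LD2_c29 LD3_c25)) = (LP (LK LD1_c25 LD2_c22 LD3_c23)) :=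
  Lre_g IH (LK LD1_c15 LD2_c29 LD3_c25) (LK LD1_c25 LD2_c22 LD3_c23) Lrfl Lrfl
theorem f944833 : Led Lsl_ct (LP (LK LD1_c25 LD2_c22 LD3_c23)) = v44348 :=
  Lgr Lrot91 (Lpe (f182900 IH) (Lpe (f182899 IH) (Lpr_ct (K16.f182774 IH) (Lpe (K16.f54671 IH) (Lpr_cf (f602546 IH) (Lpr_bt (f256895 IH) (Lpe (K15.f231861 IH) (Lpe (K17.f250442 IH) (Lpr_ct (K25.f273961 IH) (Lpr_gf (f944831 IH) (Lpn v44348)))))))))))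
theorem f249232 : Led Lsl_bt (LP (LK LD1_c5 LD2_c19 LD3_c54)) = (LP (LK LD1_c10 LD2_c29 LD3_c39)) :=
  Lre_b IH (LK LD1_c5 LD2_c19 LD3_c54) (LK LD1_c10 LD2_c29 LD3_c39) Lrfl Lrfl
theorem f249321 : Led Lsl_gt (LP (LK LD1_c10 LD2_c29 LD3_c39)) = (LP (LK LD1_c19 LD2_c1 LD3_c7)) :=
  Lre_g IH (LK LD1_c10 LD2_c29 LD3_c39) (LK LD1_c19 LD2_c1 LD3_c7) Lrfl Lrfl
theorem f944835 : Led Lsl_bt (LP (LK LD1_c25 LD2_c22 LD3_c23)) = (LP (LK LD1_c19 LD2_c1 LD3_c7)) :=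
  Lgr Lrot92 (Lpr_ct (f944833 IH) (Lpe (f944831 IH) (Lpe (K25.f273961 IH) (Lpr_bt (K17.f250442 IH) (Lpr_gt (K15.f231861 IH) (Lpr_ct (K15.f182799 IH) (Lpr_gt (K14.f250432 IH) (Lpe (K15.f249316 IH) (Lpr_bt (f249232 IH) (Lpr_gt (f249321 IH) (Lpn (LP (LK LD1_c19 LD2_c1 LD3_c7)))))))))))))
theorem f944836 : Led Lsl_bt (LP (LK LD1_c25 LD2_c22 LD3_c23)) = (LP (LK LD1_c19 LD2_c1 LD3_c7)) :=
  Leop (Lpe (f944835 IH) (Lpn (LP (LK LD1_c25 LD2_c22 LD3_c23))))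
theorem seed_2697 : LEOK LG_b (LK LD1_c25 LD2_c22 LD3_c23) :=
  Leoe_b (LK LD1_c25 LD2_c22 LD3_c23) (f944836 IH)
def v44387 : LQ := Led Lsl_bt (LP (LK LD1_c10 LD2_c43 LD3_c51))
theorem f944995 : Led Lsl_bt (LP (LK LD1_c10 LD2_c43 LD3_c51)) = v44387 :=
  Lrfl
theorem f944996 : Led Lsl_bf (LP (LK LD1_c10 LD2_c43 LD3_c51)) = v44387 :=
  Lgr Lrot24 (Lpr_bt (f944995 IH) (Lpn v44387))
theorem f183186 : Led Lsl_bt (LP (LK LD1_c2 LD2_c39 LD3_c34)) = (LP (LK LD1_c5 LD2_c26 LD3_c17)) :=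
  Lre_b IH (LK LD1_c2 LD2_c39 LD3_c34) (LK LD1_c5 LD2_c26 LD3_c17) Lrfl Lrfl
theorem f198648 : Led Lsl_gt (LP (LK LD1_c10 LD2_c45 LD3_c38)) = (LP (LK LD1_c19 LD2_c27 LD3_c38)) :=
  Lre_g IH (LK LD1_c10 LD2_c45 LD3_c38) (LK LD1_c19 LD2_c27 LD3_c38) Lrfl Lrfl
theorem f944997 : Led Lsl_cf (LP (LK LD1_c19 LD2_c27 LD3_c38)) = v44387 :=
  Lgr Lrot163 (Lpe (f198648 IH) (Lpe (K72.f198647 IH) (Lpe (K72.f168218 IH) (Lpe (K30.f8853 IH) (Lpr_ct (K53.f9053 IH) (Lpr_gf (K11.f198637 IH) (Lpr_cf (K17.f183187 IH) (Lpr_bt (f183186 IH) (Lpe (K53.f198649 IH) (Lpr_bf (f944996 IH) (Lpn v44387)))))))))))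
theorem f944998 : Led Lsl_ct (LP (LK LD1_c19 LD2_c27 LD3_c38)) = v44387 :=
  Lgr Lrot59 (Lpr_cf (f944997 IH) (Lpn v44387))
theorem f9013 : Led Lsl_dt (LP (LK LD1_c1 LD2_c16 LD3_c43)) = (LP (LK LD1_c2 LD2_c39 LD3_c61)) :=
  Lre_d IH (LK LD1_c1 LD2_c16 LD3_c43) (LK LD1_c2 LD2_c39 LD3_c61) Lrfl Lrfl
theorem f194845 : Led Lsl_ct (LP (LK LD1_c10 LD2_c45 LD3_c19)) = (LP (LK LD1_c10 LD2_c44 LD3_c47)) :=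
  Lre_c IH (LK LD1_c10 LD2_c45 LD3_c19) (LK LD1_c10 LD2_c44 LD3_c47) Lrfl Lrfl
theorem f945000 : Led Lsl_df (LP (LK LD1_c10 LD2_c44 LD3_c47)) = v44387 :=
  Lgr Lrot162 (Lpe (f194845 IH) (Lpe (K71.f8890 IH) (Lpe (K71.f8893 IH) (Lpe (K39.f172991 IH) (Lpr_dt (f9013 IH) (Lpr_gt (K72.f168218 IH) (Lpr_ct (K72.f198647 IH) (Lpr_gt (f198648 IH) (Lpr_ct (f944998 IH) (Lpn v44387))))))))))
def v14869 : LQ := Led Lsl_dt (LP (LK LD1_c5 LD2_c26 LD3_c50))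
theorem f727015 : Led Lsl_dt (LP (LK LD1_c5 LD2_c26 LD3_c50)) = v14869 :=
  Lrfl
theorem f945002 : v14869 = (LP (LK LD1_c10 LD2_c43 LD3_c51)) :=
  (Llr Lrot79 (Lpe (f727015 IH) (Lpe (K71.f194846 IH) (Lpr_df (f945000 IH) (Lpe (f944995 IH) (Lpn (LP (LK LD1_c10 LD2_c43 LD3_c51)))))))).symm
theorem f727016 : Led Lsl_df (LP (LK LD1_c5 LD2_c26 LD3_c50)) = v14869 :=
  Lgr Lrot38 (Lpr_dt (f727015 IH) (Lpn v14869))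
theorem f945003 : Led Lsl_dt (LP (LK LD1_c10 LD2_c43 LD3_c51)) = (LP (LK LD1_c5 LD2_c26 LD3_c50)) :=
  Leop (Lpr_df (f727016 IH) (Lpqs (f945002 IH) (Lpn (LP (LK LD1_c10 LD2_c43 LD3_c51)))))
theorem seed_2698 : LEOK LG_d (LK LD1_c10 LD2_c43 LD3_c51) :=
  Leoe_d (LK LD1_c10 LD2_c43 LD3_c51) (f945003 IH)
def v44385 : LQ := Led Lsl_dt (LP (LK LD1_c10 LD2_c43 LD3_c50))
theorem f944989 : Led Lsl_dt (LP (LK LD1_c10 LD2_c43 LD3_c50)) = v44385 :=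
  Lrfl
def v44383 : LQ := Led Lsl_at (LP (LK LD1_c10 LD2_c43 LD3_c50))
theorem f944981 : Led Lsl_at (LP (LK LD1_c10 LD2_c43 LD3_c50)) = v44383 :=
  Lrfl
theorem f944982 : Led Lsl_af (LP (LK LD1_c10 LD2_c43 LD3_c50)) = v44383 :=
  Lgr Lrot0 (Lpr_at (f944981 IH) (Lpn v44383))
theorem f183192 : Led Lsl_gt (LP (LK LD1_c5 LD2_c26 LD3_c17)) = (LP (LK LD1_c10 LD2_c43 LD3_c50)) :=
  Lre_g IH (LK LD1_c5 LD2_c26 LD3_c17) (LK LD1_c10 LD2_c43 LD3_c50) Lrfl Lrfl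
theorem f944985 : Led Lsl_ft (LP (LK LD1_c10 LD2_c43 LD3_c51)) = v44383 :=
  Lgr Lrot2 (Lpr_gt (K53.f198649 IH) (Lpr_gt (f183192 IH) (Lpr_af (f944982 IH) (Lpn v44383))))
theorem f944986 : Led Lsl_ff (LP (LK LD1_c10 LD2_c43 LD3_c51)) = v44383 :=
  Lgr Lrot3 (Lpr_ft (f944985 IH) (Lpn v44383))
def v14863 : LQ := Led Lsl_at (LP (LK LD1_c5 LD2_c26 LD3_c49))
theorem f726996 : Led Lsl_at (LP (LK LD1_c5 LD2_c26 LD3_c49)) = v14863 :=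
  Lrfl
theorem f726997 : Led Lsl_af (LP (LK LD1_c5 LD2_c26 LD3_c49)) = v14863 :=
  Lgr Lrot0 (Lpr_at (f726996 IH) (Lpn v14863))
theorem f8438 : Led Lsl_gt (LP (LK LD1_c2 LD2_c39 LD3_c48)) = (LP (LK LD1_c5 LD2_c26 LD3_c49)) :=
  Lre_g IH (LK LD1_c2 LD2_c39 LD3_c48) (LK LD1_c5 LD2_c26 LD3_c49) Lrfl Lrfl
theorem f726998 : Led Lsl_ft (LP (LK LD1_c5 LD2_c26 LD3_c50)) = v14863 :=
  Lgr Lrot2 (Lpr_gt (K71.f191189 IH) (Lpr_gt (f8438 IH) (Lpr_af (f726997 IH) (Lpn v14863))))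
theorem f945005 : Led Lsl_df v44383 = v14863 :=
  Lgr Lrot78 (Lpe (f944986 IH) (Lpq (f945002 IH) (Lpe (f727016 IH) (Lpr_ft (f726998 IH) (Lpn v14863)))))
theorem f945007 : v44385 = (LP (LK LD1_c5 LD2_c26 LD3_c49)) :=
  (Llr Lrot44 (Lpe (f944989 IH) (Lpr_af (f944982 IH) (Lpr_df (f945005 IH) (Lpe (f726996 IH) (Lpn (LP (LK LD1_c5 LD2_c26 LD3_c49)))))))).symm
theorem f945009 : Led Lsl_dt (LP (LK LD1_c10 LD2_c43 LD3_c50)) = (LP (LK LD1_c5 LD2_c26 LD3_c49)) :=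
  Leop (Lpq (f945007 IH) (Lpe (f944989 IH) (Lpn (LP (LK LD1_c10 LD2_c43 LD3_c50)))))
theorem seed_2699 : LEOK LG_d (LK LD1_c10 LD2_c43 LD3_c50) :=
  Leoe_d (LK LD1_c10 LD2_c43 LD3_c50) (f945009 IH)
def v44411 : LQ := Led Lsl_bt (LP (LK LD1_c10 LD2_c44 LD3_c12))
theorem f945128 : Led Lsl_bt (LP (LK LD1_c10 LD2_c44 LD3_c12)) = v44411 :=
  Lrfl
theorem f196087 : Led Lsl_ct (LP (LK LD1_c10 LD2_c44 LD3_c15)) = (LP (LK LD1_c5 LD2_c26 LD3_c31)) :=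
  Lre_c IH (LK LD1_c10 LD2_c44 LD3_c15) (LK LD1_c5 LD2_c26 LD3_c31) Lrfl Lrfl
theorem f183356 : Led Lsl_ct (LP (LK LD1_c6 LD2_c6 LD3_c24)) = (LP (LK LD1_c11 LD2_c56 LD3_c4)) :=
  Lre_c IH (LK LD1_c6 LD2_c6 LD3_c24) (LK LD1_c11 LD2_c56 LD3_c4) Lrfl Lrfl
theorem f923574 : Led Lsl_af (LP (LK LD1_c10 LD2_c44 LD3_c15)) = (LP (LK LD1_c11 LD2_c56 LD3_c4)) :=
  Lgr Lrot68 (Lpr_ct (f196087 IH) (Lpr_at (K71.f726920 IH) (Lpq (K71.f923463 IH) (Lpr_ct (f183356 IH) (Lpn (LP (LK LD1_c11 LD2_c56 LD3_c4)))))))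
theorem f337869 : Led Lsl_gf (LP (LK LD1_c10 LD2_c45 LD3_c31)) = (LP (LK LD1_c16 LD2_c38 LD3_c32)) :=
  Lgr Lrot47 (Lpr_gt (K72.f198915 IH) (Lpe (K12.f198894 IH) (Lpr_ff (K72.f337858 IH) (Lpn (LP (LK LD1_c16 LD2_c38 LD3_c32))))))
theorem f198918 : Led Lsl_ct (LP (LK LD1_c19 LD2_c27 LD3_c25)) = (LP (LK LD1_c10 LD2_c45 LD3_c31)) :=
  Lre_c IH (LK LD1_c19 LD2_c27 LD3_c25) (LK LD1_c10 LD2_c45 LD3_c31) Lrfl Lrfl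
theorem f198920 : Led Lsl_bt (LP (LK LD1_c19 LD2_c27 LD3_c25)) = (LP (LK LD1_c10 LD2_c45 LD3_c30)) :=
  Lre_b IH (LK LD1_c19 LD2_c27 LD3_c25) (LK LD1_c10 LD2_c45 LD3_c30) Lrfl Lrfl
theorem f337865 : Led Lsl_ct (LP (LK LD1_c10 LD2_c43 LD3_c57)) = (LP (LK LD1_c16 LD2_c38 LD3_c32)) :=
  Lgr Lrot40 (Lpr_ff (K22.f195823 IH) (Lpr_cf (K12.f198897 IH) (Lpr_ff (K72.f337858 IH) (Lpn (LP (LK LD1_c16 LD2_c38 LD3_c32))))))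
theorem f195803 : Led Lsl_bt (LP (LK LD1_c5 LD2_c26 LD3_c24)) = (LP (LK LD1_c2 LD2_c39 LD3_c38)) :=
  Lre_b IH (LK LD1_c5 LD2_c26 LD3_c24) (LK LD1_c2 LD2_c39 LD3_c38) Lrfl Lrfl
theorem f183065 : Led Lsl_ct (LP (LK LD1_c5 LD2_c26 LD3_c24)) = (LP (LK LD1_c2 LD2_c39 LD3_c40)) :=
  Lre_c IH (LK LD1_c5 LD2_c26 LD3_c24) (LK LD1_c2 LD2_c39 LD3_c40) Lrfl Lrfl
theorem f337871 : Led Lsl_gt (LP (LK LD1_c10 LD2_c45 LD3_c30)) = (LP (LK LD1_c10 LD2_c44 LD3_c15)) :=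
  Lgr Lrot82 (Lpe (f198920 IH) (Lpr_ct (f198918 IH) (Lpr_gf (f337869 IH) (Lpe (f337865 IH) (Lpr_bt (K22.f195822 IH) (Lpe (K11.f195797 IH) (Lpe (f195803 IH) (Lpr_ct (f183065 IH) (Lpe (K71.f8520 IH) (Lpe (f196087 IH) (Lpn (LP (LK LD1_c10 LD2_c44 LD3_c15)))))))))))))
theorem f923580 : Led Lsl_ft (LP (LK LD1_c10 LD2_c44 LD3_c12)) = (LP (LK LD1_c11 LD2_c56 LD3_c4)) :=
  Lgr Lrot2 (Lpr_gt (K72.f198921 IH) (Lpr_gt (f337871 IH) (Lpr_af (f923574 IH) (Lpn (LP (LK LD1_c11 LD2_c56 LD3_c4))))))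
theorem f923586 : Led Lsl_ff (LP (LK LD1_c10 LD2_c44 LD3_c12)) = (LP (LK LD1_c11 LD2_c56 LD3_c4)) :=
  Lgr Lrot3 (Lpr_ft (f923580 IH) (Lpn (LP (LK LD1_c11 LD2_c56 LD3_c4))))
theorem f198828 : Led Lsl_bt (LP (LK LD1_c21 LD2_c0 LD3_c54)) = (LP (LK LD1_c11 LD2_c56 LD3_c4)) :=
  Lre_b IH (LK LD1_c21 LD2_c0 LD3_c54) (LK LD1_c11 LD2_c56 LD3_c4) Lrfl Lrfl
theorem f945131 : Led Lsl_ff (LP (LK LD1_c21 LD2_c0 LD3_c54)) = v44411 :=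
  Lgr Lrot25 (Lpr_bt (f198828 IH) (Lpe (f923586 IH) (Lpr_bt (f945128 IH) (Lpn v44411))))
theorem f183805 : Led Lsl_bt (LP (LK LD1_c11 LD2_c56 LD3_c4)) = (LP (LK LD1_c21 LD2_c0 LD3_c54)) :=
  Lre_b IH (LK LD1_c11 LD2_c56 LD3_c4) (LK LD1_c21 LD2_c0 LD3_c54) Lrfl Lrfl
theorem f198837 : Led Lsl_bt (LP (LK LD1_c21 LD2_c1 LD3_c2)) = (LP (LK LD1_c11 LD2_c56 LD3_c14)) :=
  Lre_b IH (LK LD1_c21 LD2_c1 LD3_c2) (LK LD1_c11 LD2_c56 LD3_c14) Lrfl Lrfl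
theorem f198838 : Led Lsl_ct (LP (LK LD1_c21 LD2_c0 LD3_c54)) = (LP (LK LD1_c21 LD2_c1 LD3_c2)) :=
  Lgr Lrot83 (Lpe (f183805 IH) (Lpe (f183356 IH) (Lpe (K53.f183359 IH) (Lpr_cf (K71.f198832 IH) (Lpe (f198837 IH) (Lpn (LP (LK LD1_c21 LD2_c1 LD3_c2))))))))
theorem f198829 : Led Lsl_bt (LP (LK LD1_c11 LD2_c56 LD3_c14)) = (LP (LK LD1_c21 LD2_c1 LD3_c2)) :=
  Lre_b IH (LK LD1_c11 LD2_c56 LD3_c14) (LK LD1_c21 LD2_c1 LD3_c2) Lrfl Lrfl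
theorem f187616 : Led Lsl_bt (LP (LK LD1_c19 LD2_c26 LD3_c49)) = (LP (LK LD1_c10 LD2_c45 LD3_c7)) :=
  Lre_b IH (LK LD1_c19 LD2_c26 LD3_c49) (LK LD1_c10 LD2_c45 LD3_c7) Lrfl Lrfl
theorem f923422 : Led Lsl_ft (LP (LK LD1_c21 LD2_c1 LD3_c2)) = (LP (LK LD1_c19 LD2_c26 LD3_c49)) :=
  Lgr Lrot75 (Lpe (f198829 IH) (Lpr_ff (K71.f923420 IH) (Lpe (f187616 IH) (Lpn (LP (LK LD1_c19 LD2_c26 LD3_c49))))))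
theorem f945134 : Led Lsl_ct (LP (LK LD1_c19 LD2_c26 LD3_c49)) = v44411 :=
  Lgr Lrot40 (Lpe (f923422 IH) (Lpe (f198838 IH) (Lpr_ff (f945131 IH) (Lpn v44411))))
theorem f887072 : Led Lsl_cf K67.v35771 = K68.v36485 :=
  Lgr Lrot1 (Lpe (K67.f878259 IH) (Lpr_ct (K39.f291100 IH) (Lpr_at (K68.f887069 IH) (Lpn K68.v36485))))
theorem f891207 : Led Lsl_ct (LP (LK LD1_c15 LD2_c52 LD3_c44)) = K68.v36895 :=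
  Lgr Lrot40 (Lpr_ff (K67.f878261 IH) (Lpr_cf (f887072 IH) (Lpr_ff (K68.f891204 IH) (Lpn K68.v36895))))
theorem f32049 : Led Lsl_gt (LP (LK LD1_c8 LD2_c27 LD3_c49)) = (LP (LK LD1_c15 LD2_c53 LD3_c29)) :=
  Lre_g IH (LK LD1_c8 LD2_c27 LD3_c49) (LK LD1_c15 LD2_c53 LD3_c29) Lrfl Lrfl
theorem f891205 : Led Lsl_gt (LP (LK LD1_c15 LD2_c53 LD3_c29)) = K68.v36895 :=
  Lgr Lrot46 (Lpe (f32049 IH) (Lpr_ft (K68.f402926 IH) (Lpr_at (K68.f891200 IH) (Lpn K68.v36895))))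
theorem f50897 : Led Lsl_bt (LP (LK LD1_c8 LD2_c26 LD3_c29)) = (LP (LK LD1_c4 LD2_c13 LD3_c56)) :=
  Lre_b IH (LK LD1_c8 LD2_c26 LD3_c29) (LK LD1_c4 LD2_c13 LD3_c56) Lrfl Lrfl
theorem f50898 : Led Lsl_ct (LP (LK LD1_c8 LD2_c26 LD3_c29)) = (LP (LK LD1_c4 LD2_c14 LD3_c23)) :=
  Lre_c IH (LK LD1_c8 LD2_c26 LD3_c29) (LK LD1_c4 LD2_c14 LD3_c23) Lrfl Lrfl
theorem f195801 : Led Lsl_gt (LP (LK LD1_c8 LD2_c27 LD3_c30)) = (LP (LK LD1_c4 LD2_c14 LD3_c23)) :=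
  Lre_g IH (LK LD1_c8 LD2_c27 LD3_c30) (LK LD1_c4 LD2_c14 LD3_c23) Lrfl Lrfl
theorem f195802 : Led Lsl_ct (LP (LK LD1_c15 LD2_c52 LD3_c61)) = (LP (LK LD1_c8 LD2_c27 LD3_c30)) :=
  Lre_c IH (LK LD1_c15 LD2_c52 LD3_c61) (LK LD1_c8 LD2_c27 LD3_c30) Lrfl Lrfl
theorem f945132 : Led Lsl_gf (LP (LK LD1_c15 LD2_c52 LD3_c61)) = v44411 :=
  Lgr Lrot181 (Lpr_ct (f195802 IH) (Lpr_gt (f195801 IH) (Lpe (f50898 IH) (Lpr_bt (f50897 IH) (Lpe (K11.f195795 IH) (Lpe (f195803 IH) (Lpr_ct (f183065 IH) (Lpr_gt (K53.f195804 IH) (Lpe (K72.f195805 IH) (Lpr_bt (f945128 IH) (Lpn v44411)))))))))))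
theorem f51092 : Led Lsl_ct (LP (LK LD1_c8 LD2_c27 LD3_c30)) = (LP (LK LD1_c15 LD2_c52 LD3_c61)) :=
  Lre_c IH (LK LD1_c8 LD2_c27 LD3_c30) (LK LD1_c15 LD2_c52 LD3_c61) Lrfl Lrfl
theorem f887003 : Led Lsl_bt (LP (LK LD1_c8 LD2_c27 LD3_c30)) = (LP (LK LD1_c15 LD2_c52 LD3_c60)) :=
  Lre_b IH (LK LD1_c8 LD2_c27 LD3_c30) (LK LD1_c15 LD2_c52 LD3_c60) Lrfl Lrfl
theorem f945133 : Led Lsl_gt (LP (LK LD1_c15 LD2_c52 LD3_c60)) = (LP (LK LD1_c25 LD2_c49 LD3_c4)) :=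
  Lre_g IH (LK LD1_c15 LD2_c52 LD3_c60) (LK LD1_c25 LD2_c49 LD3_c4) Lrfl Lrfl
theorem f945137 : Led Lsl_cf (LP (LK LD1_c15 LD2_c53 LD3_c29)) = (LP (LK LD1_c25 LD2_c49 LD3_c4)) :=
  Lgr Lrot125 (Lpr_gt (f891205 IH) (Lpe (f891207 IH) (Lpe (K73.f315487 IH) (Lpe (K53.f396426 IH) (Lpe (f187616 IH) (Lpr_ct (f945134 IH) (Lpe (f945132 IH) (Lpe (f51092 IH) (Lpr_bt (f887003 IH) (Lpr_gt (f945133 IH) (Lpn (LP (LK LD1_c25 LD2_c49 LD3_c4)))))))))))))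
theorem f945138 : Led Lsl_ct (LP (LK LD1_c25 LD2_c49 LD3_c4)) = (LP (LK LD1_c15 LD2_c53 LD3_c29)) :=
  Leop (Lpr_cf (f945137 IH) (Lpn (LP (LK LD1_c25 LD2_c49 LD3_c4))))
theorem seed_2700 : LEOK LG_c (LK LD1_c25 LD2_c49 LD3_c4) :=
  Leoe_c (LK LD1_c25 LD2_c49 LD3_c4) (f945138 IH)
theorem f285983 : Led Lsl_ct (LP (LK LD1_c5 LD2_c26 LD3_c30)) = (LP (LK LD1_c10 LD2_c44 LD3_c12)) :=
  Lre_c IH (LK LD1_c5 LD2_c26 LD3_c30) (LK LD1_c10 LD2_c44 LD3_c12) Lrfl Lrfl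
theorem f945130 : Led Lsl_cf (LP (LK LD1_c19 LD2_c26 LD3_c49)) = v44411 :=
  Lgr Lrot97 (Lpr_bt (f187616 IH) (Lpr_ct (K53.f726907 IH) (Lpe (K53.f726904 IH) (Lpr_ct (f285983 IH) (Lpr_bt (f945128 IH) (Lpn v44411))))))
theorem f945129 : Led Lsl_bf (LP (LK LD1_c10 LD2_c44 LD3_c12)) = v44411 :=
  Lgr Lrot24 (Lpr_bt (f945128 IH) (Lpn v44411))
theorem f52878 : Led Lsl_bt (LP (LK LD1_c8 LD2_c27 LD3_c7)) = (LP (LK LD1_c15 LD2_c51 LD3_c4)) :=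
  Lre_b IH (LK LD1_c8 LD2_c27 LD3_c7) (LK LD1_c15 LD2_c51 LD3_c4) Lrfl Lrfl
theorem f183752 : Led Lsl_et (LP (LK LD1_c15 LD2_c51 LD3_c14)) = (LP (LK LD1_c8 LD2_c27 LD3_c7)) :=
  Lre_e IH (LK LD1_c15 LD2_c51 LD3_c14) (LK LD1_c8 LD2_c27 LD3_c7) Lrfl Lrfl
theorem f183753 : Led Lsl_bt (LP (LK LD1_c21 LD2_c0 LD3_c46)) = (LP (LK LD1_c15 LD2_c51 LD3_c14)) :=
  Lgr Lrot119 (Lpr_ef (K12.f183749 IH) (Lpe (f52878 IH) (Lpe (f183752 IH) (Lpn (LP (LK LD1_c15 LD2_c51 LD3_c14))))))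
theorem f412677 : Led Lsl_cf (LP (LK LD1_c24 LD2_c57 LD3_c57)) = (LP (LK LD1_c21 LD2_c0 LD3_c48)) :=
  Lgr Lrot11 (Lpr_ct (K68.f412674 IH) (Lpn (LP (LK LD1_c21 LD2_c0 LD3_c48))))
theorem f945148 : Led Lsl_gf (LP (LK LD1_c19 LD2_c26 LD3_c49)) = (LP (LK LD1_c24 LD2_c57 LD3_c57)) :=
  Lgr Lrot129 (Lpr_cf (f945130 IH) (Lpe (f945129 IH) (Lpr_gt (K72.f198921 IH) (Lpe (f198920 IH) (Lpr_ct (f198918 IH) (Lpr_gt (K72.f198915 IH) (Lpe (K12.f198900 IH) (Lpr_bt (f183753 IH) (Lpe (K68.f887015 IH) (Lpe (f412677 IH) (Lpn (LP (LK LD1_c24 LD2_c57 LD3_c57)))))))))))))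
theorem f945149 : Led Lsl_gt (LP (LK LD1_c24 LD2_c57 LD3_c57)) = (LP (LK LD1_c19 LD2_c26 LD3_c49)) :=
  Leop (Lpr_gf (f945148 IH) (Lpn (LP (LK LD1_c24 LD2_c57 LD3_c57))))
theorem seed_2701 : LEOK LG_g (LK LD1_c24 LD2_c57 LD3_c57) :=
  Leoe_g (LK LD1_c24 LD2_c57 LD3_c57) (f945149 IH)
def v44472 : LQ := Led Lsl_gt (LP (LK LD1_c10 LD2_c44 LD3_c46))
theorem f945375 : Led Lsl_gt (LP (LK LD1_c10 LD2_c44 LD3_c46)) = v44472 :=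
  Lrfl
def v44506 : LQ := Led Lsl_ct (LP (LK LD1_c10 LD2_c44 LD3_c54))
theorem f945496 : Led Lsl_ct (LP (LK LD1_c10 LD2_c44 LD3_c54)) = v44506 :=
  Lrfl
theorem f945499 : Led Lsl_cf (LP (LK LD1_c10 LD2_c44 LD3_c54)) = v44506 :=
  Lgr Lrot11 (Lpr_ct (f945496 IH) (Lpn v44506))
theorem f195515 : Led Lsl_gt (LP (LK LD1_c5 LD2_c26 LD3_c56)) = (LP (LK LD1_c10 LD2_c44 LD3_c54)) :=
  Lre_g IH (LK LD1_c5 LD2_c26 LD3_c56) (LK LD1_c10 LD2_c44 LD3_c54) Lrfl Lrfl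
theorem f751476 : Led Lsl_gt (LP (LK LD1_c10 LD2_c44 LD3_c54)) = K68.v16765 :=
  Lgr Lrot46 (Lpe (f195515 IH) (Lpr_ft (K68.f396445 IH) (Lpr_at (K68.f751472 IH) (Lpn K68.v16765))))
theorem f646178 : Led Lsl_ft (LP (LK LD1_c5 LD2_c26 LD3_c55)) = K53.v5137 :=
  Lgr Lrot48 (Lpr_ff (K53.f646174 IH) (Lpn K53.v5137))
theorem f751478 : Led Lsl_ct K53.v5137 = K68.v16765 :=
  Lgr Lrot40 (Lpe (f646178 IH) (Lpe (K68.f396437 IH) (Lpr_ff (K68.f751475 IH) (Lpn K68.v16765))))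
theorem f334451 : Led Lsl_af (LP (LK LD1_c1 LD2_c16 LD3_c42)) = (LP (LK LD1_c1 LD2_c25 LD3_c24)) :=
  Lgr Lrot117 (Lpr_dt (K10.f187521 IH) (Lpr_at (K22.f334447 IH) (Lpr_dt (K14.f177470 IH) (Lpn (LP (LK LD1_c1 LD2_c25 LD3_c24))))))
theorem f396393 : Led Lsl_at (LP (LK LD1_c1 LD2_c16 LD3_c42)) = (LP (LK LD1_c1 LD2_c25 LD3_c24)) :=
  Lgr Lrot100 (Lpr_af (f334451 IH) (Lpn (LP (LK LD1_c1 LD2_c25 LD3_c24))))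
theorem f646173 : Led Lsl_bf (LP (LK LD1_c5 LD2_c27 LD3_c0)) = K53.v5137 :=
  Lgr Lrot81 (Lpr_at (K45.f396396 IH) (Lpr_bt (K45.f187575 IH) (Lpr_at (f396393 IH) (Lpr_bt (K68.f177463 IH) (Lpr_at (K53.f646171 IH) (Lpn K53.v5137))))))
theorem f554667 : Led Lsl_ct (LP (LK LD1_c8 LD2_c14 LD3_c28)) = (LP (LK LD1_c15 LD2_c30 LD3_c12)) :=
  Lre_c IH (LK LD1_c8 LD2_c14 LD3_c28) (LK LD1_c15 LD2_c30 LD3_c12) Lrfl Lrfl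
theorem f554693 : Led Lsl_bt (LP (LK LD1_c8 LD2_c14 LD3_c28)) = (LP (LK LD1_c15 LD2_c30 LD3_c11)) :=
  Lre_b IH (LK LD1_c8 LD2_c14 LD3_c28) (LK LD1_c15 LD2_c30 LD3_c11) Lrfl Lrfl
theorem f945503 : Led Lsl_gt (LP (LK LD1_c15 LD2_c30 LD3_c11)) = v44506 :=
  Lgr Lrot82 (Lpe (f554693 IH) (Lpr_ct (f554667 IH) (Lpe (K45.f554863 IH) (Lpe (K71.f256201 IH) (Lpr_bt (K45.f256192 IH) (Lpe (K71.f396430 IH) (Lpr_bf (f646173 IH) (Lpr_ct (f751478 IH) (Lpe (f751476 IH) (Lpr_cf (f945499 IH) (Lpn v44506)))))))))))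
def v44505 : LQ := Led Lsl_at (LP (LK LD1_c10 LD2_c44 LD3_c54))
theorem f945490 : Led Lsl_at (LP (LK LD1_c10 LD2_c44 LD3_c54)) = v44505 :=
  Lrfl
theorem f945491 : Led Lsl_af (LP (LK LD1_c10 LD2_c44 LD3_c54)) = v44505 :=
  Lgr Lrot0 (Lpr_at (f945490 IH) (Lpn v44505))
theorem f195436 : Led Lsl_gt (LP (LK LD1_c10 LD2_c44 LD3_c55)) = (LP (LK LD1_c5 LD2_c26 LD3_c56)) :=
  Lre_g IH (LK LD1_c10 LD2_c44 LD3_c55) (LK LD1_c5 LD2_c26 LD3_c56) Lrfl Lrfl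
theorem f945492 : Led Lsl_ft (LP (LK LD1_c10 LD2_c44 LD3_c55)) = v44505 :=
  Lgr Lrot2 (Lpr_gt (f195436 IH) (Lpr_gt (f195515 IH) (Lpr_af (f945491 IH) (Lpn v44505))))
theorem f8437 : Led Lsl_bt (LP (LK LD1_c1 LD2_c16 LD3_c39)) = (LP (LK LD1_c2 LD2_c39 LD3_c48)) :=
  Lre_b IH (LK LD1_c1 LD2_c16 LD3_c39) (LK LD1_c2 LD2_c39 LD3_c48) Lrfl Lrfl
theorem f8550 : Led Lsl_bt (LP (LK LD1_c10 LD2_c44 LD3_c46)) = (LP (LK LD1_c5 LD2_c26 LD3_c49)) :=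
  Lre_b IH (LK LD1_c10 LD2_c44 LD3_c46) (LK LD1_c5 LD2_c26 LD3_c49) Lrfl Lrfl
theorem f195437 : Led Lsl_ct (LP (LK LD1_c10 LD2_c44 LD3_c46)) = (LP (LK LD1_c10 LD2_c44 LD3_c55)) :=
  Lgr Lrot64 (Lpr_bt (f8550 IH) (Lpe (f8438 IH) (Lpe (f8437 IH) (Lpr_ct (K9.f8431 IH) (Lpe (K9.f8545 IH) (Lpe (K0.f8448 IH) (Lpr_gf (K10.f195422 IH) (Lpe (K53.f195430 IH) (Lpr_ct (K68.f195435 IH) (Lpe (f195436 IH) (Lpn (LP (LK LD1_c10 LD2_c44 LD3_c55)))))))))))))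
def v44476 : LQ := Led Lsl_ft (LP (LK LD1_c10 LD2_c44 LD3_c46))
theorem f945383 : Led Lsl_ft (LP (LK LD1_c10 LD2_c44 LD3_c46)) = v44476 :=
  Lrfl
theorem f945385 : Led Lsl_ff (LP (LK LD1_c10 LD2_c44 LD3_c46)) = v44476 :=
  Lgr Lrot3 (Lpr_ft (f945383 IH) (Lpn v44476))
theorem f945493 : Led Lsl_cf v44476 = v44505 :=
  Lgr Lrot108 (Lpe (f945385 IH) (Lpr_ct (f195437 IH) (Lpr_ft (f945492 IH) (Lpn v44505))))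
theorem f945501 : Led Lsl_at v44476 = v44506 :=
  Lgr Lrot107 (Lpr_cf (f945493 IH) (Lpe (f945490 IH) (Lpr_cf (f945499 IH) (Lpn v44506))))
theorem f945505 : (LP (LK LD1_c15 LD2_c30 LD3_c11)) = v44472 :=
  (Llr Lrot76 (Lpr_gt (f945503 IH) (Lpe (f945501 IH) (Lpe (f945383 IH) (Lpr_gt (f945375 IH) (Lpn v44472)))))).symm
theorem f945506 : Led Lsl_gt (LP (LK LD1_c10 LD2_c44 LD3_c46)) = (LP (LK LD1_c15 LD2_c30 LD3_c11)) :=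
  Leop (Lpqs (f945505 IH) (Lpe (f945375 IH) (Lpn (LP (LK LD1_c10 LD2_c44 LD3_c46)))))
theorem seed_2702 : LEOK LG_g (LK LD1_c10 LD2_c44 LD3_c46) :=
  Leoe_g (LK LD1_c10 LD2_c44 LD3_c46) (f945506 IH)
theorem f555081 : Led Lsl_ft (LP (LK LD1_c15 LD2_c30 LD3_c11)) = (LP (LK LD1_c8 LD2_c14 LD3_c33)) :=
  Lre_f IH (LK LD1_c15 LD2_c30 LD3_c11) (LK LD1_c8 LD2_c14 LD3_c33) Lrfl Lrfl
theorem f554876 : Led Lsl_at (LP (LK LD1_c8 LD2_c14 LD3_c33)) = (LP (LK LD1_c15 LD2_c30 LD3_c23)) :=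
  Lre_a IH (LK LD1_c8 LD2_c14 LD3_c33) (LK LD1_c15 LD2_c30 LD3_c23) Lrfl Lrfl
theorem f945504 : Led Lsl_gf (LP (LK LD1_c15 LD2_c30 LD3_c23)) = v44506 :=
  Lgr Lrot76 (Lpe (f554876 IH) (Lpe (f555081 IH) (Lpr_gt (f945503 IH) (Lpn v44506))))
theorem f195485 : Led Lsl_ct (LP (LK LD1_c8 LD2_c14 LD3_c21)) = (LP (LK LD1_c4 LD2_c6 LD3_c55)) :=
  Lre_c IH (LK LD1_c8 LD2_c14 LD3_c21) (LK LD1_c4 LD2_c6 LD3_c55) Lrfl Lrfl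
theorem f195478 : Led Lsl_bt (LP (LK LD1_c2 LD2_c39 LD3_c55)) = (LP (LK LD1_c5 LD2_c26 LD3_c57)) :=
  Lre_b IH (LK LD1_c2 LD2_c39 LD3_c55) (LK LD1_c5 LD2_c26 LD3_c57) Lrfl Lrfl
theorem f195486 : Led Lsl_ct (LP (LK LD1_c5 LD2_c26 LD3_c57)) = (LP (LK LD1_c10 LD2_c44 LD3_c57)) :=
  Lre_c IH (LK LD1_c5 LD2_c26 LD3_c57) (LK LD1_c10 LD2_c44 LD3_c57) Lrfl Lrfl
theorem f195487 : Led Lsl_bf (LP (LK LD1_c8 LD2_c14 LD3_c21)) = (LP (LK LD1_c10 LD2_c44 LD3_c57)) :=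
  Lgr Lrot90 (Lpr_ct (f195485 IH) (Lpr_bt (K22.f195484 IH) (Lpr_ct (K20.f195469 IH) (Lpr_bt (f195478 IH) (Lpr_ct (f195486 IH) (Lpn (LP (LK LD1_c10 LD2_c44 LD3_c57))))))))
theorem f195499 : Led Lsl_et (LP (LK LD1_c5 LD2_c26 LD3_c56)) = (LP (LK LD1_c10 LD2_c44 LD3_c57)) :=
  Lre_e IH (LK LD1_c5 LD2_c26 LD3_c56) (LK LD1_c10 LD2_c44 LD3_c57) Lrfl Lrfl
theorem f195500 : Led Lsl_bt (LP (LK LD1_c4 LD2_c6 LD3_c54)) = (LP (LK LD1_c5 LD2_c26 LD3_c56)) :=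
  Lgr Lrot119 (Lpe (K53.f182597 IH) (Lpr_bf (f195487 IH) (Lpe (f195499 IH) (Lpn (LP (LK LD1_c5 LD2_c26 LD3_c56))))))
theorem f33079 : Led Lsl_bt (LP (LK LD1_c16 LD2_c11 LD3_c32)) = (LP (LK LD1_c8 LD2_c38 LD3_c42)) :=
  Lre_b IH (LK LD1_c16 LD2_c11 LD3_c32) (LK LD1_c8 LD2_c38 LD3_c42) Lrfl Lrfl
theorem f945510 : Led Lsl_ct (LP (LK LD1_c16 LD2_c11 LD3_c32)) = (LP (LK LD1_c15 LD2_c30 LD3_c23)) :=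
  Lgr Lrot63 (Lpr_bt (f33079 IH) (Lpr_gt (K39.f54172 IH) (Lpe (K39.f27897 IH) (Lpr_ct (K13.f27896 IH) (Lpe (K10.f190212 IH) (Lpe (K13.f182594 IH) (Lpr_bt (f195500 IH) (Lpr_gt (f195515 IH) (Lpr_ct (f945496 IH) (Lpe (f945504 IH) (Lpn (LP (LK LD1_c15 LD2_c30 LD3_c23)))))))))))))
theorem f945511 : Led Lsl_ct (LP (LK LD1_c16 LD2_c11 LD3_c32)) = (LP (LK LD1_c15 LD2_c30 LD3_c23)) :=
  Leop (Lpe (f945510 IH) (Lpn (LP (LK LD1_c16 LD2_c11 LD3_c32))))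
theorem seed_2703 : LEOK LG_c (LK LD1_c16 LD2_c11 LD3_c32) :=
  Leoe_c (LK LD1_c16 LD2_c11 LD3_c32) (f945511 IH)
theorem f727066 : Led Lsl_ct (LP (LK LD1_c11 LD2_c55 LD3_c56)) = K53.v14878 :=
  Lgr Lrot59 (Lpr_cf (K53.f727062 IH) (Lpn K53.v14878))
theorem f945513 : Led Lsl_cf (LP (LK LD1_c16 LD2_c11 LD3_c32)) = (LP (LK LD1_c15 LD2_c30 LD3_c23)) :=
  Lgr Lrot11 (Lpr_ct (f945510 IH) (Lpn (LP (LK LD1_c15 LD2_c30 LD3_c23))))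
def v35956 : LQ := Led Lsl_ct (LP (LK LD1_c8 LD2_c14 LD3_c33))
theorem f881348 : Led Lsl_ct (LP (LK LD1_c8 LD2_c14 LD3_c33)) = v35956 :=
  Lrfl
theorem f881349 : Led Lsl_cf (LP (LK LD1_c8 LD2_c14 LD3_c33)) = v35956 :=
  Lgr Lrot11 (Lpr_ct (f881348 IH) (Lpn v35956))
theorem f945519 : Led Lsl_at (LP (LK LD1_c16 LD2_c11 LD3_c32)) = v35956 :=
  Lgr Lrot107 (Lpr_cf (f945513 IH) (Lpe (f554876 IH) (Lpr_cf (f881349 IH) (Lpn v35956))))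
theorem f195574 : Led Lsl_bt (LP (LK LD1_c8 LD2_c14 LD3_c33)) = (LP (LK LD1_c4 LD2_c6 LD3_c60)) :=
  Lre_b IH (LK LD1_c8 LD2_c14 LD3_c33) (LK LD1_c4 LD2_c6 LD3_c60) Lrfl Lrfl
theorem f195575 : Led Lsl_ct (LP (LK LD1_c5 LD2_c26 LD3_c54)) = (LP (LK LD1_c10 LD2_c44 LD3_c49)) :=
  Lre_c IH (LK LD1_c5 LD2_c26 LD3_c54) (LK LD1_c10 LD2_c44 LD3_c49) Lrfl Lrfl
theorem f881350 : Led Lsl_gt (LP (LK LD1_c10 LD2_c44 LD3_c49)) = v35956 :=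
  Lgr Lrot149 (Lpe (f195575 IH) (Lpe (K53.f195460 IH) (Lpe (K53.f195452 IH) (Lpe (K10.f195455 IH) (Lpe (K9.f22032 IH) (Lpe (K1.f54853 IH) (Lpr_bt (K1.f54785 IH) (Lpe (K56.f54889 IH) (Lpe (f195574 IH) (Lpr_ct (f881348 IH) (Lpn v35956)))))))))))
def v44486 : LQ := Led Lsl_gf (LP (LK LD1_c10 LD2_c44 LD3_c49))
theorem f945412 : Led Lsl_gf (LP (LK LD1_c10 LD2_c44 LD3_c49)) = v44486 :=
  Lrfl
theorem f945521 : Led Lsl_ff (LP (LK LD1_c16 LD2_c11 LD3_c32)) = v44486 :=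
  Lgr Lrot52 (Lpr_at (f945519 IH) (Lpe (f881350 IH) (Lpr_gf (f945412 IH) (Lpn v44486))))
theorem f401843 : Led Lsl_et (LP (LK LD1_c11 LD2_c53 LD3_c54)) = (LP (LK LD1_c20 LD2_c57 LD3_c50)) :=
  Lre_e IH (LK LD1_c11 LD2_c53 LD3_c54) (LK LD1_c20 LD2_c57 LD3_c50) Lrfl Lrfl
theorem f554928 : Led Lsl_et (LP (LK LD1_c20 LD2_c58 LD3_c0)) = (LP (LK LD1_c11 LD2_c53 LD3_c61)) :=
  Lre_e IH (LK LD1_c20 LD2_c58 LD3_c0) (LK LD1_c11 LD2_c53 LD3_c61) Lrfl Lrfl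
theorem f555012 : Led Lsl_at (LP (LK LD1_c20 LD2_c57 LD3_c50)) = (LP (LK LD1_c20 LD2_c58 LD3_c0)) :=
  Lgr Lrot80 (Lpe (f401843 IH) (Lpr_af (K39.f555006 IH) (Lpe (f554928 IH) (Lpn (LP (LK LD1_c20 LD2_c58 LD3_c0))))))
theorem f355461 : Led Lsl_bt (LP (LK LD1_c11 LD2_c53 LD3_c56)) = (LP (LK LD1_c20 LD2_c57 LD3_c50)) :=
  Lre_b IH (LK LD1_c11 LD2_c53 LD3_c56) (LK LD1_c20 LD2_c57 LD3_c50) Lrfl Lrfl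
theorem f355383 : Led Lsl_ft (LP (LK LD1_c19 LD2_c31 LD3_c60)) = (LP (LK LD1_c11 LD2_c53 LD3_c48)) :=
  Lgr Lrot54 (Lpr_df (K26.f355375 IH) (Lpe (K21.f257342 IH) (Lpe (K23.f257348 IH) (Lpn (LP (LK LD1_c11 LD2_c53 LD3_c48))))))
theorem f355388 : Led Lsl_ff (LP (LK LD1_c19 LD2_c31 LD3_c60)) = (LP (LK LD1_c11 LD2_c53 LD3_c48)) :=
  Lgr Lrot3 (Lpr_ft (f355383 IH) (Lpn (LP (LK LD1_c11 LD2_c53 LD3_c48))))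
theorem f279160 : Led Lsl_gt (LP (LK LD1_c16 LD2_c37 LD3_c21)) = (LP (LK LD1_c26 LD2_c34 LD3_c40)) :=
  Lre_g IH (LK LD1_c16 LD2_c37 LD3_c21) (LK LD1_c26 LD2_c34 LD3_c40) Lrfl Lrfl
theorem f355392 : Led Lsl_at (LP (LK LD1_c19 LD2_c31 LD3_c60)) = (LP (LK LD1_c26 LD2_c34 LD3_c40)) :=
  Lgr Lrot26 (Lpr_ff (f355388 IH) (Lpr_gt (K20.f316568 IH) (Lpr_gt (f279160 IH) (Lpn (LP (LK LD1_c26 LD2_c34 LD3_c40))))))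
theorem f355397 : Led Lsl_df (LP (LK LD1_c20 LD2_c55 LD3_c20)) = (LP (LK LD1_c26 LD2_c34 LD3_c40)) :=
  Lgr Lrot18 (Lpr_at (K21.f324770 IH) (Lpe (K26.f355375 IH) (Lpr_at (f355392 IH) (Lpn (LP (LK LD1_c26 LD2_c34 LD3_c40))))))
theorem f355404 : Led Lsl_ft (LP (LK LD1_c19 LD2_c31 LD3_c61)) = (LP (LK LD1_c26 LD2_c34 LD3_c40)) :=
  Lgr Lrot54 (Lpr_df (K21.f316635 IH) (Lpe (K21.f182934 IH) (Lpr_df (f355397 IH) (Lpn (LP (LK LD1_c26 LD2_c34 LD3_c40))))))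
theorem f355408 : Led Lsl_ff (LP (LK LD1_c19 LD2_c31 LD3_c61)) = (LP (LK LD1_c26 LD2_c34 LD3_c40)) :=
  Lgr Lrot3 (Lpr_ft (f355404 IH) (Lpn (LP (LK LD1_c26 LD2_c34 LD3_c40))))
theorem f355410 : Led Lsl_at (LP (LK LD1_c19 LD2_c31 LD3_c61)) = (LP (LK LD1_c11 LD2_c53 LD3_c48)) :=
  Lgr Lrot66 (Lpr_ff (f355408 IH) (Lpe (f355392 IH) (Lpr_ff (f355388 IH) (Lpn (LP (LK LD1_c11 LD2_c53 LD3_c48))))))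
theorem f279044 : Led Lsl_et (LP (LK LD1_c28 LD2_c54 LD3_c45)) = (LP (LK LD1_c19 LD2_c31 LD3_c61)) :=
  Lre_e IH (LK LD1_c28 LD2_c54 LD3_c45) (LK LD1_c19 LD2_c31 LD3_c61) Lrfl Lrfl
theorem f316581 : Led Lsl_et (LP (LK LD1_c11 LD2_c53 LD3_c48)) = (LP (LK LD1_c20 LD2_c57 LD3_c37)) :=
  Lre_e IH (LK LD1_c11 LD2_c53 LD3_c48) (LK LD1_c20 LD2_c57 LD3_c37) Lrfl Lrfl
theorem f355418 : Led Lsl_af (LP (LK LD1_c28 LD2_c54 LD3_c45)) = (LP (LK LD1_c20 LD2_c57 LD3_c37)) :=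
  Lgr Lrot50 (Lpr_et (f279044 IH) (Lpr_at (f355410 IH) (Lpr_et (f316581 IH) (Lpn (LP (LK LD1_c20 LD2_c57 LD3_c37))))))
theorem f316642 : Led Lsl_et (LP (LK LD1_c19 LD2_c31 LD3_c61)) = (LP (LK LD1_c28 LD2_c54 LD3_c45)) :=
  Lre_e IH (LK LD1_c19 LD2_c31 LD3_c61) (LK LD1_c28 LD2_c54 LD3_c45) Lrfl Lrfl
theorem f265082 : Led Lsl_et (LP (LK LD1_c20 LD2_c55 LD3_c19)) = (LP (LK LD1_c11 LD2_c52 LD3_c25)) :=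
  Lre_e IH (LK LD1_c20 LD2_c55 LD3_c19) (LK LD1_c11 LD2_c52 LD3_c25) Lrfl Lrfl
theorem f316643 : Led Lsl_dt (LP (LK LD1_c28 LD2_c54 LD3_c45)) = (LP (LK LD1_c20 LD2_c55 LD3_c19)) :=
  Lgr Lrot77 (Lpe (f316642 IH) (Lpr_df (K21.f316635 IH) (Lpe (K21.f182564 IH) (Lpe (K15.f42531 IH) (Lpe (f265082 IH) (Lpn (LP (LK LD1_c20 LD2_c55 LD3_c19))))))))
theorem f274262 : Led Lsl_dt (LP (LK LD1_c11 LD2_c53 LD3_c47)) = (LP (LK LD1_c20 LD2_c57 LD3_c37)) :=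
  Lre_d IH (LK LD1_c11 LD2_c53 LD3_c47) (LK LD1_c20 LD2_c57 LD3_c37) Lrfl Lrfl
theorem f355422 : Led Lsl_at (LP (LK LD1_c20 LD2_c55 LD3_c19)) = (LP (LK LD1_c11 LD2_c53 LD3_c47)) :=
  Lgr Lrot51 (Lpe (f316643 IH) (Lpr_af (f355418 IH) (Lpe (f274262 IH) (Lpn (LP (LK LD1_c11 LD2_c53 LD3_c47))))))
theorem f316657 : Led Lsl_ft (LP (LK LD1_c29 LD2_c44 LD3_c17)) = (LP (LK LD1_c20 LD2_c55 LD3_c19)) :=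
  Lre_f IH (LK LD1_c29 LD2_c44 LD3_c17) (LK LD1_c20 LD2_c55 LD3_c19) Lrfl Lrfl
theorem f274357 : Led Lsl_ft (LP (LK LD1_c11 LD2_c53 LD3_c47)) = (LP (LK LD1_c20 LD2_c57 LD3_c38)) :=
  Lre_f IH (LK LD1_c11 LD2_c53 LD3_c47) (LK LD1_c20 LD2_c57 LD3_c38) Lrfl Lrfl
theorem f355428 : Led Lsl_af (LP (LK LD1_c29 LD2_c44 LD3_c17)) = (LP (LK LD1_c20 LD2_c57 LD3_c38)) :=
  Lgr Lrot45 (Lpr_ft (f316657 IH) (Lpr_at (f355422 IH) (Lpr_ft (f274357 IH) (Lpn (LP (LK LD1_c20 LD2_c57 LD3_c38))))))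
theorem f274340 : Led Lsl_et (LP (LK LD1_c6 LD2_c5 LD3_c10)) = (LP (LK LD1_c11 LD2_c53 LD3_c47)) :=
  Lre_e IH (LK LD1_c6 LD2_c5 LD3_c10) (LK LD1_c11 LD2_c53 LD3_c47) Lrfl Lrfl
theorem f274249 : Led Lsl_et (LP (LK LD1_c15 LD2_c28 LD3_c53)) = (LP (LK LD1_c8 LD2_c13 LD3_c46)) :=
  Lre_e IH (LK LD1_c15 LD2_c28 LD3_c53) (LK LD1_c8 LD2_c13 LD3_c46) Lrfl Lrfl
theorem f274341 : Led Lsl_ct (LP (LK LD1_c11 LD2_c53 LD3_c47)) = (LP (LK LD1_c15 LD2_c28 LD3_c53)) :=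
  Lgr Lrot15 (Lpe (f274340 IH) (Lpr_cf (K17.f274327 IH) (Lpe (f274249 IH) (Lpn (LP (LK LD1_c15 LD2_c28 LD3_c53))))))
theorem f274347 : Led Lsl_ft (LP (LK LD1_c20 LD2_c57 LD3_c38)) = (LP (LK LD1_c11 LD2_c53 LD3_c47)) :=
  Lre_f IH (LK LD1_c20 LD2_c57 LD3_c38) (LK LD1_c11 LD2_c53 LD3_c47) Lrfl Lrfl
theorem f274349 : Led Lsl_cf (LP (LK LD1_c20 LD2_c57 LD3_c38)) = (LP (LK LD1_c25 LD2_c21 LD3_c18)) :=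
  Lgr Lrot108 (Lpr_ft (f274347 IH) (Lpr_ct (f274341 IH) (Lpr_ft (K21.f274348 IH) (Lpn (LP (LK LD1_c25 LD2_c21 LD3_c18))))))
theorem f355434 : Led Lsl_ct (LP (LK LD1_c29 LD2_c44 LD3_c17)) = (LP (LK LD1_c27 LD2_c37 LD3_c13)) :=
  Lgr Lrot111 (Lpr_af (f355428 IH) (Lpr_cf (f274349 IH) (Lpr_af (K21.f325103 IH) (Lpn (LP (LK LD1_c27 LD2_c37 LD3_c13))))))
theorem f265116 : Led Lsl_et (LP (LK LD1_c11 LD2_c52 LD3_c25)) = (LP (LK LD1_c20 LD2_c55 LD3_c19)) :=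
  Lre_e IH (LK LD1_c11 LD2_c52 LD3_c25) (LK LD1_c20 LD2_c55 LD3_c19) Lrfl Lrfl
theorem f316648 : Led Lsl_ft (LP (LK LD1_c20 LD2_c55 LD3_c19)) = (LP (LK LD1_c29 LD2_c44 LD3_c17)) :=
  Lre_f IH (LK LD1_c20 LD2_c55 LD3_c19) (LK LD1_c29 LD2_c44 LD3_c17) Lrfl Lrfl
theorem f324872 : Led Lsl_et (LP (LK LD1_c11 LD2_c53 LD3_c56)) = (LP (LK LD1_c6 LD2_c5 LD3_c13)) :=
  Lre_e IH (LK LD1_c11 LD2_c53 LD3_c56) (LK LD1_c6 LD2_c5 LD3_c13) Lrfl Lrfl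
theorem f324873 : Led Lsl_ft (LP (LK LD1_c20 LD2_c57 LD3_c56)) = (LP (LK LD1_c11 LD2_c53 LD3_c56)) :=
  Lre_f IH (LK LD1_c20 LD2_c57 LD3_c56) (LK LD1_c11 LD2_c53 LD3_c56) Lrfl Lrfl
theorem f324874 : Led Lsl_et (LP (LK LD1_c29 LD2_c44 LD3_c17)) = (LP (LK LD1_c20 LD2_c57 LD3_c56)) :=
  Lgr Lrot69 (Lpe (f316648 IH) (Lpe (f265116 IH) (Lpr_ff (K21.f324839 IH) (Lpe (f324872 IH) (Lpe (f324873 IH) (Lpn (LP (LK LD1_c20 LD2_c57 LD3_c56))))))))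
theorem f324878 : Led Lsl_ef (LP (LK LD1_c29 LD2_c44 LD3_c17)) = (LP (LK LD1_c20 LD2_c57 LD3_c56)) :=
  Lgr Lrot88 (Lpr_et (f324874 IH) (Lpn (LP (LK LD1_c20 LD2_c57 LD3_c56))))
theorem f325162 : Led Lsl_et (LP (LK LD1_c25 LD2_c21 LD3_c4)) = (LP (LK LD1_c31 LD2_c51 LD3_c54)) :=
  Lre_e IH (LK LD1_c25 LD2_c21 LD3_c4) (LK LD1_c31 LD2_c51 LD3_c54) Lrfl Lrfl
theorem f325084 : Led Lsl_et (LP (LK LD1_c32 LD2_c27 LD3_c21)) = (LP (LK LD1_c27 LD2_c37 LD3_c8)) :=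
  Lre_e IH (LK LD1_c32 LD2_c27 LD3_c21) (LK LD1_c27 LD2_c37 LD3_c8) Lrfl Lrfl
theorem f325163 : Led Lsl_dt (LP (LK LD1_c31 LD2_c51 LD3_c54)) = (LP (LK LD1_c32 LD2_c27 LD3_c21)) :=
  Lgr Lrot77 (Lpe (f325162 IH) (Lpe (K21.f324989 IH) (Lpr_ef (K21.f325154 IH) (Lpe (K21.f213963 IH) (Lpe (f325084 IH) (Lpn (LP (LK LD1_c32 LD2_c27 LD3_c21))))))))
theorem f325166 : Led Lsl_ft (LP (LK LD1_c32 LD2_c58 LD3_c17)) = (LP (LK LD1_c31 LD2_c51 LD3_c54)) :=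
  Lre_f IH (LK LD1_c32 LD2_c58 LD3_c17) (LK LD1_c31 LD2_c51 LD3_c54) Lrfl Lrfl
theorem f325167 : Led Lsl_ft (LP (LK LD1_c32 LD2_c27 LD3_c21)) = (LP (LK LD1_c32 LD2_c59 LD3_c18)) :=
  Lre_f IH (LK LD1_c32 LD2_c27 LD3_c21) (LK LD1_c32 LD2_c59 LD3_c18) Lrfl Lrfl
theorem f325168 : Led Lsl_df (LP (LK LD1_c32 LD2_c58 LD3_c17)) = (LP (LK LD1_c32 LD2_c59 LD3_c18)) :=
  Lgr Lrot78 (Lpr_ft (f325166 IH) (Lpr_dt (f325163 IH) (Lpr_ft (f325167 IH) (Lpn (LP (LK LD1_c32 LD2_c59 LD3_c18))))))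
theorem f325171 : Led Lsl_dt (LP (LK LD1_c32 LD2_c58 LD3_c17)) = (LP (LK LD1_c32 LD2_c59 LD3_c18)) :=
  Lgr Lrot42 (Lpr_df (f325168 IH) (Lpn (LP (LK LD1_c32 LD2_c59 LD3_c18))))
theorem f324927 : Led Lsl_et (LP (LK LD1_c31 LD2_c51 LD3_c44)) = (LP (LK LD1_c32 LD2_c58 LD3_c17)) :=
  Lre_e IH (LK LD1_c31 LD2_c51 LD3_c44) (LK LD1_c32 LD2_c58 LD3_c17) Lrfl Lrfl
theorem f324931 : Led Lsl_dt (LP (LK LD1_c25 LD2_c20 LD3_c58)) = (LP (LK LD1_c31 LD2_c51 LD3_c44)) :=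
  Lre_d IH (LK LD1_c25 LD2_c20 LD3_c58) (LK LD1_c31 LD2_c51 LD3_c44) Lrfl Lrfl
theorem f325174 : Led Lsl_et (LP (LK LD1_c32 LD2_c59 LD3_c18)) = (LP (LK LD1_c32 LD2_c27 LD3_c20)) :=
  Lre_e IH (LK LD1_c32 LD2_c59 LD3_c18) (LK LD1_c32 LD2_c27 LD3_c20) Lrfl Lrfl
theorem f325101 : Led Lsl_dt (LP (LK LD1_c32 LD2_c27 LD3_c20)) = (LP (LK LD1_c27 LD2_c37 LD3_c13)) :=
  Lre_d IH (LK LD1_c32 LD2_c27 LD3_c20) (LK LD1_c27 LD2_c37 LD3_c13) Lrfl Lrfl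
theorem f325175 : Led Lsl_ef (LP (LK LD1_c25 LD2_c20 LD3_c58)) = (LP (LK LD1_c27 LD2_c37 LD3_c13)) :=
  Lgr Lrot73 (Lpr_dt (f324931 IH) (Lpr_et (f324927 IH) (Lpr_dt (f325171 IH) (Lpr_et (f325174 IH) (Lpr_dt (f325101 IH) (Lpn (LP (LK LD1_c27 LD2_c37 LD3_c13))))))))
theorem f355442 : Led Lsl_cf (LP (LK LD1_c20 LD2_c57 LD3_c56)) = (LP (LK LD1_c25 LD2_c20 LD3_c58)) :=
  Lgr Lrot39 (Lpe (f324878 IH) (Lpr_ct (f355434 IH) (Lpe (f325175 IH) (Lpn (LP (LK LD1_c25 LD2_c20 LD3_c58))))))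
theorem f355447 : Led Lsl_ct (LP (LK LD1_c11 LD2_c53 LD3_c56)) = (LP (LK LD1_c15 LD2_c28 LD3_c37)) :=
  Lgr Lrot40 (Lpe (f324873 IH) (Lpr_cf (f355442 IH) (Lpe (K21.f324886 IH) (Lpn (LP (LK LD1_c15 LD2_c28 LD3_c37))))))
theorem f324900 : Led Lsl_af (LP (LK LD1_c25 LD2_c19 LD3_c16)) = (LP (LK LD1_c15 LD2_c28 LD3_c37)) :=
  Lgr Lrot0 (Lpr_at (K21.f324898 IH) (Lpn (LP (LK LD1_c15 LD2_c28 LD3_c37))))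
theorem f256107 : Led Lsl_et (LP (LK LD1_c20 LD2_c55 LD3_c22)) = (LP (LK LD1_c11 LD2_c52 LD3_c28)) :=
  Lre_e IH (LK LD1_c20 LD2_c55 LD3_c22) (LK LD1_c11 LD2_c52 LD3_c28) Lrfl Lrfl
theorem f265276 : Led Lsl_cf (LP (LK LD1_c20 LD2_c55 LD3_c22)) = (LP (LK LD1_c25 LD2_c19 LD3_c16)) :=
  Lgr Lrot39 (Lpr_et (f256107 IH) (Lpr_ct (K15.f265216 IH) (Lpr_et (K21.f187994 IH) (Lpn (LP (LK LD1_c25 LD2_c19 LD3_c16))))))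
theorem f355450 : Led Lsl_af (LP (LK LD1_c11 LD2_c53 LD3_c56)) = (LP (LK LD1_c20 LD2_c55 LD3_c22)) :=
  Lgr Lrot68 (Lpr_ct (f355447 IH) (Lpe (f324900 IH) (Lpe (f265276 IH) (Lpn (LP (LK LD1_c20 LD2_c55 LD3_c22))))))
theorem f555018 : Led Lsl_bt (LP (LK LD1_c20 LD2_c58 LD3_c0)) = (LP (LK LD1_c11 LD2_c54 LD3_c2)) :=
  Lre_b IH (LK LD1_c20 LD2_c58 LD3_c0) (LK LD1_c11 LD2_c54 LD3_c2) Lrfl Lrfl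
theorem f555019 : Led Lsl_at (LP (LK LD1_c11 LD2_c54 LD3_c2)) = (LP (LK LD1_c20 LD2_c57 LD3_c60)) :=
  Lre_a IH (LK LD1_c11 LD2_c54 LD3_c2) (LK LD1_c20 LD2_c57 LD3_c60) Lrfl Lrfl
theorem f555020 : Led Lsl_bf (LP (LK LD1_c20 LD2_c55 LD3_c22)) = (LP (LK LD1_c20 LD2_c57 LD3_c60)) :=
  Lgr Lrot81 (Lpe (f355450 IH) (Lpr_bt (f355461 IH) (Lpr_at (f555012 IH) (Lpr_bt (f555018 IH) (Lpr_at (f555019 IH) (Lpn (LP (LK LD1_c20 LD2_c57 LD3_c60))))))))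
theorem f324882 : Led Lsl_ft (LP (LK LD1_c11 LD2_c53 LD3_c56)) = (LP (LK LD1_c20 LD2_c57 LD3_c56)) :=
  Lre_f IH (LK LD1_c11 LD2_c53 LD3_c56) (LK LD1_c20 LD2_c57 LD3_c56) Lrfl Lrfl
theorem f355467 : Led Lsl_ft (LP (LK LD1_c29 LD2_c44 LD3_c21)) = (LP (LK LD1_c20 LD2_c55 LD3_c22)) :=
  Lre_f IH (LK LD1_c29 LD2_c44 LD3_c21) (LK LD1_c20 LD2_c55 LD3_c22) Lrfl Lrfl
theorem f355471 : Led Lsl_at (LP (LK LD1_c20 LD2_c57 LD3_c56)) = (LP (LK LD1_c29 LD2_c44 LD3_c21)) :=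
  Lgr Lrot66 (Lpe (f324882 IH) (Lpr_af (f355450 IH) (Lpe (f355467 IH) (Lpn (LP (LK LD1_c29 LD2_c44 LD3_c21))))))
theorem f355481 : Led Lsl_ef (LP (LK LD1_c20 LD2_c57 LD3_c38)) = (LP (LK LD1_c29 LD2_c44 LD3_c21)) :=
  Lgr Lrot20 (Lpe (f355428 IH) (Lpr_et (f324874 IH) (Lpr_at (f355471 IH) (Lpn (LP (LK LD1_c29 LD2_c44 LD3_c21))))))
theorem f274355 : Led Lsl_ct (LP (LK LD1_c20 LD2_c57 LD3_c38)) = (LP (LK LD1_c25 LD2_c21 LD3_c18)) :=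
  Lgr Lrot59 (Lpr_cf (f274349 IH) (Lpn (LP (LK LD1_c25 LD2_c21 LD3_c18))))
theorem f355486 : Led Lsl_ct (LP (LK LD1_c31 LD2_c50 LD3_c46)) = (LP (LK LD1_c29 LD2_c44 LD3_c21)) :=
  Lgr Lrot15 (Lpe (K21.f325108 IH) (Lpe (f274355 IH) (Lpr_ef (f355481 IH) (Lpn (LP (LK LD1_c29 LD2_c44 LD3_c21))))))
theorem f325126 : Led Lsl_ft (LP (LK LD1_c25 LD2_c19 LD3_c16)) = (LP (LK LD1_c31 LD2_c50 LD3_c46)) :=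
  Lre_f IH (LK LD1_c25 LD2_c19 LD3_c16) (LK LD1_c31 LD2_c50 LD3_c46) Lrfl Lrfl
theorem f355491 : Led Lsl_cf (LP (LK LD1_c25 LD2_c19 LD3_c16)) = (LP (LK LD1_c20 LD2_c55 LD3_c22)) :=
  Lgr Lrot108 (Lpr_ft (f325126 IH) (Lpr_ct (f355486 IH) (Lpr_ft (f355467 IH) (Lpn (LP (LK LD1_c20 LD2_c55 LD3_c22))))))
theorem f554647 : Led Lsl_et (LP (LK LD1_c15 LD2_c30 LD3_c18)) = (LP (LK LD1_c8 LD2_c14 LD3_c30)) :=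
  Lre_e IH (LK LD1_c15 LD2_c30 LD3_c18) (LK LD1_c8 LD2_c14 LD3_c30) Lrfl Lrfl
theorem f554648 : Led Lsl_bf (LP (LK LD1_c15 LD2_c30 LD3_c18)) = (LP (LK LD1_c25 LD2_c19 LD3_c16)) :=
  Lgr Lrot96 (Lpr_et (f554647 IH) (Lpr_bt (K39.f554640 IH) (Lpr_et (K21.f187994 IH) (Lpn (LP (LK LD1_c25 LD2_c19 LD3_c16))))))
theorem f554763 : Led Lsl_ct (LP (LK LD1_c15 LD2_c30 LD3_c18)) = (LP (LK LD1_c8 LD2_c14 LD3_c31)) :=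
  Lre_c IH (LK LD1_c15 LD2_c30 LD3_c18) (LK LD1_c8 LD2_c14 LD3_c31) Lrfl Lrfl
theorem f554766 : Led Lsl_bt (LP (LK LD1_c8 LD2_c14 LD3_c31)) = (LP (LK LD1_c15 LD2_c30 LD3_c15)) :=
  Lre_b IH (LK LD1_c8 LD2_c14 LD3_c31) (LK LD1_c15 LD2_c30 LD3_c15) Lrfl Lrfl
theorem f555052 : Led Lsl_ct (LP (LK LD1_c15 LD2_c30 LD3_c15)) = (LP (LK LD1_c20 LD2_c57 LD3_c60)) :=
  Lgr Lrot83 (Lpe (f554766 IH) (Lpe (f554763 IH) (Lpr_bf (f554648 IH) (Lpr_cf (f355491 IH) (Lpr_bf (f555020 IH) (Lpn (LP (LK LD1_c20 LD2_c57 LD3_c60))))))))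
theorem f555056 : Led Lsl_at (LP (LK LD1_c20 LD2_c57 LD3_c60)) = (LP (LK LD1_c11 LD2_c54 LD3_c2)) :=
  Lre_a IH (LK LD1_c20 LD2_c57 LD3_c60) (LK LD1_c11 LD2_c54 LD3_c2) Lrfl Lrfl
theorem f341383 : Led Lsl_ct (LP (LK LD1_c11 LD2_c54 LD3_c2)) = (LP (LK LD1_c20 LD2_c58 LD3_c2)) :=
  Lre_c IH (LK LD1_c11 LD2_c54 LD3_c2) (LK LD1_c20 LD2_c58 LD3_c2) Lrfl Lrfl
theorem f555057 : Led Lsl_af (LP (LK LD1_c15 LD2_c30 LD3_c15)) = (LP (LK LD1_c20 LD2_c58 LD3_c2)) :=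
  Lgr Lrot68 (Lpr_ct (f555052 IH) (Lpr_at (f555056 IH) (Lpr_ct (f341383 IH) (Lpn (LP (LK LD1_c20 LD2_c58 LD3_c2))))))
theorem f554886 : Led Lsl_et (LP (LK LD1_c15 LD2_c30 LD3_c15)) = (LP (LK LD1_c8 LD2_c14 LD3_c29)) :=
  Lre_e IH (LK LD1_c15 LD2_c30 LD3_c15) (LK LD1_c8 LD2_c14 LD3_c29) Lrfl Lrfl
theorem f555070 : Led Lsl_et (LP (LK LD1_c11 LD2_c54 LD3_c0)) = (LP (LK LD1_c20 LD2_c58 LD3_c2)) :=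
  Lre_e IH (LK LD1_c11 LD2_c54 LD3_c0) (LK LD1_c20 LD2_c58 LD3_c2) Lrfl Lrfl
theorem f555071 : Led Lsl_at (LP (LK LD1_c8 LD2_c14 LD3_c29)) = (LP (LK LD1_c11 LD2_c54 LD3_c0)) :=
  Lgr Lrot80 (Lpe (f554886 IH) (Lpr_af (f555057 IH) (Lpe (f555070 IH) (Lpn (LP (LK LD1_c11 LD2_c54 LD3_c0))))))
theorem f554768 : Led Lsl_at (LP (LK LD1_c8 LD2_c14 LD3_c28)) = (LP (LK LD1_c4 LD2_c6 LD3_c59)) :=
  Lre_a IH (LK LD1_c8 LD2_c14 LD3_c28) (LK LD1_c4 LD2_c6 LD3_c59) Lrfl Lrfl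
theorem f554854 : Led Lsl_bt (LP (LK LD1_c15 LD2_c30 LD3_c11)) = (LP (LK LD1_c8 LD2_c14 LD3_c28)) :=
  Lre_b IH (LK LD1_c15 LD2_c30 LD3_c11) (LK LD1_c8 LD2_c14 LD3_c28) Lrfl Lrfl
theorem f195420 : Led Lsl_bt (LP (LK LD1_c11 LD2_c54 LD3_c0)) = (LP (LK LD1_c20 LD2_c58 LD3_c1)) :=
  Lre_b IH (LK LD1_c11 LD2_c54 LD3_c0) (LK LD1_c20 LD2_c58 LD3_c1) Lrfl Lrfl
theorem f555073 : Led Lsl_af (LP (LK LD1_c15 LD2_c30 LD3_c11)) = (LP (LK LD1_c20 LD2_c58 LD3_c1)) :=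
  Lgr Lrot36 (Lpr_bt (f554854 IH) (Lpr_at (f554768 IH) (Lpr_bt (K39.f187594 IH) (Lpr_at (f555071 IH) (Lpr_bt (f195420 IH) (Lpn (LP (LK LD1_c20 LD2_c58 LD3_c1))))))))
theorem f555082 : Led Lsl_ft (LP (LK LD1_c15 LD2_c30 LD3_c23)) = (LP (LK LD1_c20 LD2_c58 LD3_c1)) :=
  Lgr Lrot101 (Lpe (f554876 IH) (Lpe (f555081 IH) (Lpr_af (f555073 IH) (Lpn (LP (LK LD1_c20 LD2_c58 LD3_c1))))))
theorem f945523 : Led Lsl_ct (LP (LK LD1_c20 LD2_c58 LD3_c1)) = v44486 :=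
  Lgr Lrot40 (Lpe (f555082 IH) (Lpe (f945510 IH) (Lpr_ff (f945521 IH) (Lpn v44486))))
theorem f337881 : Led Lsl_bt (LP (LK LD1_c20 LD2_c58 LD3_c1)) = (LP (LK LD1_c11 LD2_c54 LD3_c0)) :=
  Lre_b IH (LK LD1_c20 LD2_c58 LD3_c1) (LK LD1_c11 LD2_c54 LD3_c0) Lrfl Lrfl
theorem f195419 : Led Lsl_ct (LP (LK LD1_c5 LD2_c27 LD3_c10)) = (LP (LK LD1_c10 LD2_c45 LD3_c30)) :=
  Lre_c IH (LK LD1_c5 LD2_c27 LD3_c10) (LK LD1_c10 LD2_c45 LD3_c30) Lrfl Lrfl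
theorem f195418 : Led Lsl_bt (LP (LK LD1_c5 LD2_c27 LD3_c10)) = (LP (LK LD1_c2 LD2_c39 LD3_c59)) :=
  Lre_b IH (LK LD1_c5 LD2_c27 LD3_c10) (LK LD1_c2 LD2_c39 LD3_c59) Lrfl Lrfl
theorem f195354 : Led Lsl_ct (LP (LK LD1_c6 LD2_c6 LD3_c40)) = (LP (LK LD1_c11 LD2_c53 LD3_c59)) :=
  Lre_c IH (LK LD1_c6 LD2_c6 LD3_c40) (LK LD1_c11 LD2_c53 LD3_c59) Lrfl Lrfl
theorem f195370 : Led Lsl_gt (LP (LK LD1_c6 LD2_c5 LD3_c15)) = (LP (LK LD1_c11 LD2_c53 LD3_c59)) :=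
  Lre_g IH (LK LD1_c6 LD2_c5 LD3_c15) (LK LD1_c11 LD2_c53 LD3_c59) Lrfl Lrfl
theorem f195417 : Led Lsl_ct (LP (LK LD1_c11 LD2_c54 LD3_c0)) = (LP (LK LD1_c6 LD2_c5 LD3_c15)) :=
  Lre_c IH (LK LD1_c11 LD2_c54 LD3_c0) (LK LD1_c6 LD2_c5 LD3_c15) Lrfl Lrfl
theorem f196092 : Led Lsl_ct (LP (LK LD1_c5 LD2_c26 LD3_c31)) = (LP (LK LD1_c10 LD2_c44 LD3_c15)) :=
  Lre_c IH (LK LD1_c5 LD2_c26 LD3_c31) (LK LD1_c10 LD2_c44 LD3_c15) Lrfl Lrfl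
theorem f196094 : Led Lsl_bt (LP (LK LD1_c5 LD2_c26 LD3_c31)) = (LP (LK LD1_c10 LD2_c44 LD3_c14)) :=
  Lre_b IH (LK LD1_c5 LD2_c26 LD3_c31) (LK LD1_c10 LD2_c44 LD3_c14) Lrfl Lrfl
theorem f337876 : Led Lsl_gf (LP (LK LD1_c11 LD2_c54 LD3_c0)) = (LP (LK LD1_c10 LD2_c44 LD3_c14)) :=
  Lgr Lrot181 (Lpr_ct (f195417 IH) (Lpr_gt (f195370 IH) (Lpe (f195354 IH) (Lpr_bt (K10.f195405 IH) (Lpr_gt (K72.f8896 IH) (Lpe (f195418 IH) (Lpr_ct (f195419 IH) (Lpr_gt (f337871 IH) (Lpe (f196092 IH) (Lpr_bt (f196094 IH) (Lpn (LP (LK LD1_c10 LD2_c44 LD3_c14)))))))))))))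
def v14908 : LQ := Led Lsl_gf (LP (LK LD1_c5 LD2_c27 LD3_c10))
theorem f727246 : Led Lsl_gf (LP (LK LD1_c5 LD2_c27 LD3_c10)) = v14908 :=
  Lrfl
theorem f945527 : v14908 = K53.v14878 :=
  (Llr Lrot181 (Lpe (f727246 IH) (Lpr_ct (f195419 IH) (Lpr_gt (f337871 IH) (Lpe (f196092 IH) (Lpr_bt (f196094 IH) (Lpe (f337876 IH) (Lpe (f337881 IH) (Lpr_ct (f945523 IH) (Lpe (f945412 IH) (Lpe (f195575 IH) (Lpr_bt (K53.f727059 IH) (Lpn K53.v14878))))))))))))).symm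
theorem f337873 : Led Lsl_ct (LP (LK LD1_c10 LD2_c45 LD3_c30)) = (LP (LK LD1_c5 LD2_c27 LD3_c10)) :=
  Lre_c IH (LK LD1_c10 LD2_c45 LD3_c30) (LK LD1_c5 LD2_c27 LD3_c10) Lrfl Lrfl
theorem f727245 : Led Lsl_bt (LP (LK LD1_c10 LD2_c45 LD3_c30)) = (LP (LK LD1_c19 LD2_c27 LD3_c25)) :=
  Lre_b IH (LK LD1_c10 LD2_c45 LD3_c30) (LK LD1_c19 LD2_c27 LD3_c25) Lrfl Lrfl
theorem f337905 : Led Lsl_gt (LP (LK LD1_c25 LD2_c52 LD3_c61)) = (LP (LK LD1_c15 LD2_c56 LD3_c31)) :=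
  Lre_g IH (LK LD1_c25 LD2_c52 LD3_c61) (LK LD1_c15 LD2_c56 LD3_c31) Lrfl Lrfl
theorem f194808 : Led Lsl_bt (LP (LK LD1_c19 LD2_c8 LD3_c51)) = (LP (LK LD1_c10 LD2_c34 LD3_c16)) :=
  Lre_b IH (LK LD1_c19 LD2_c8 LD3_c51) (LK LD1_c10 LD2_c34 LD3_c16) Lrfl Lrfl
theorem f930727 : Led Lsl_cf (LP (LK LD1_c25 LD2_c52 LD3_c61)) = (LP (LK LD1_c19 LD2_c8 LD3_c51)) :=
  Lgr Lrot160 (Lpr_gt (f337905 IH) (Lpe (K72.f45668 IH) (Lpr_bt (K72.f930723 IH) (Lpe (K72.f930683 IH) (Lpr_ct (K72.f182761 IH) (Lpr_gt (K68.f401830 IH) (Lpe (K25.f216007 IH) (Lpe (K72.f328894 IH) (Lpe (K72.f396068 IH) (Lpe (f194808 IH) (Lpn (LP (LK LD1_c19 LD2_c8 LD3_c51)))))))))))))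
theorem f231388 : Led Lsl_bt (LP (LK LD1_c8 LD2_c53 LD3_c54)) = (LP (LK LD1_c16 LD2_c38 LD3_c32)) :=
  Lre_b IH (LK LD1_c8 LD2_c53 LD3_c54) (LK LD1_c16 LD2_c38 LD3_c32) Lrfl Lrfl
theorem f194844 : Led Lsl_ct (LP (LK LD1_c10 LD2_c45 LD3_c31)) = (LP (LK LD1_c19 LD2_c27 LD3_c25)) :=
  Lre_c IH (LK LD1_c10 LD2_c45 LD3_c31) (LK LD1_c19 LD2_c27 LD3_c25) Lrfl Lrfl
theorem f930731 : Led Lsl_gf (LP (LK LD1_c25 LD2_c52 LD3_c61)) = (LP (LK LD1_c19 LD2_c27 LD3_c25)) :=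
  Lgr Lrot129 (Lpr_cf (f930727 IH) (Lpr_bt (f194808 IH) (Lpr_gt (K72.f194804 IH) (Lpe (K14.f194776 IH) (Lpe (K14.f194892 IH) (Lpe (K11.f195832 IH) (Lpr_cf (K14.f231391 IH) (Lpr_bt (f231388 IH) (Lpe (f337869 IH) (Lpr_ct (f194844 IH) (Lpn (LP (LK LD1_c19 LD2_c27 LD3_c25)))))))))))))
theorem f930729 : Led Lsl_ct (LP (LK LD1_c25 LD2_c52 LD3_c61)) = (LP (LK LD1_c19 LD2_c8 LD3_c51)) :=
  Lgr Lrot59 (Lpr_cf (f930727 IH) (Lpn (LP (LK LD1_c19 LD2_c8 LD3_c51))))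
theorem f555143 : Led Lsl_dt (LP (LK LD1_c11 LD2_c56 LD3_c32)) = (LP (LK LD1_c6 LD2_c6 LD3_c44)) :=
  Lre_d IH (LK LD1_c11 LD2_c56 LD3_c32) (LK LD1_c6 LD2_c6 LD3_c44) Lrfl Lrfl
theorem f618676 : Led Lsl_dt (LP (LK LD1_c11 LD2_c56 LD3_c31)) = (LP (LK LD1_c19 LD2_c3 LD3_c4)) :=
  Lgr Lrot79 (Lpe (f190187 IH) (Lpe (f555143 IH) (Lpr_bf (f618660 IH) (Lpn (LP (LK LD1_c19 LD2_c3 LD3_c4))))))
theorem f618854 : Led Lsl_df (LP (LK LD1_c11 LD2_c56 LD3_c31)) = (LP (LK LD1_c19 LD2_c3 LD3_c4)) :=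
  Lgr Lrot38 (Lpr_dt (f618676 IH) (Lpn (LP (LK LD1_c19 LD2_c3 LD3_c4))))
theorem f939953 : Led Lsl_df (LP (LK LD1_c28 LD2_c29 LD3_c26)) = (LP (LK LD1_c20 LD2_c56 LD3_c49)) :=
  Lgr Lrot78 (Lpr_ft (f618682 IH) (Lpe (f618854 IH) (Lpr_ft (f939949 IH) (Lpn (LP (LK LD1_c20 LD2_c56 LD3_c49))))))
theorem f618690 : Led Lsl_bt (LP (LK LD1_c19 LD2_c3 LD3_c6)) = (LP (LK LD1_c28 LD2_c29 LD3_c24)) :=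
  Lre_b IH (LK LD1_c19 LD2_c3 LD3_c6) (LK LD1_c28 LD2_c29 LD3_c24) Lrfl Lrfl
theorem f188514 : Led Lsl_ct (LP (LK LD1_c28 LD2_c20 LD3_c4)) = (LP (LK LD1_c18 LD2_c51 LD3_c50)) :=
  Lre_c IH (LK LD1_c28 LD2_c20 LD3_c4) (LK LD1_c18 LD2_c51 LD3_c50) Lrfl Lrfl
theorem f188511 : Led Lsl_bt (LP (LK LD1_c8 LD2_c16 LD3_c6)) = (LP (LK LD1_c15 LD2_c32 LD3_c41)) :=
  Lre_b IH (LK LD1_c8 LD2_c16 LD3_c6) (LK LD1_c15 LD2_c32 LD3_c41) Lrfl Lrfl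
theorem f188507 : Led Lsl_cf (LP (LK LD1_c8 LD2_c16 LD3_c6)) = (LP (LK LD1_c10 LD2_c23 LD3_c50)) :=
  Lgr Lrot11 (Lpr_ct (K17.f188500 IH) (Lpn (LP (LK LD1_c10 LD2_c23 LD3_c50))))
theorem f554712 : Led Lsl_bf (LP (LK LD1_c28 LD2_c20 LD3_c4)) = (LP (LK LD1_c19 LD2_c8 LD3_c53)) :=
  Lgr Lrot90 (Lpr_ct (f188514 IH) (Lpr_bt (K20.f188513 IH) (Lpe (f188507 IH) (Lpr_bt (f188511 IH) (Lpr_ct (f554702 IH) (Lpn (LP (LK LD1_c19 LD2_c8 LD3_c53))))))))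
theorem f554714 : Led Lsl_dt (LP (LK LD1_c28 LD2_c20 LD3_c4)) = (LP (LK LD1_c19 LD2_c8 LD3_c51)) :=
  Lgr Lrot79 (Lpr_bf (f554712 IH) (Lpe (K72.f194807 IH) (Lpe (f194808 IH) (Lpn (LP (LK LD1_c19 LD2_c8 LD3_c51))))))
theorem f554716 : Led Lsl_df (LP (LK LD1_c28 LD2_c20 LD3_c4)) = (LP (LK LD1_c19 LD2_c8 LD3_c51)) :=
  Lgr Lrot38 (Lpr_dt (f554714 IH) (Lpn (LP (LK LD1_c19 LD2_c8 LD3_c51))))
theorem f940000 : Led Lsl_gt (LP (LK LD1_c28 LD2_c29 LD3_c24)) = (LP (LK LD1_c19 LD2_c8 LD3_c51)) :=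
  Lgr Lrot190 (Lpe (f618690 IH) (Lpe (f618689 IH) (Lpr_df (f939953 IH) (Lpe (f216295 IH) (Lpe (f190203 IH) (Lpe (K10.f190197 IH) (Lpe (K9.f8089 IH) (Lpr_gf (K13.f196387 IH) (Lpe (K12.f45239 IH) (Lpe (K10.f32908 IH) (Lpe (K15.f45404 IH) (Lpr_gf (K15.f231943 IH) (Lpe (K10.f189786 IH) (Lpe (K15.f48206 IH) (Lpe (K15.f48207 IH) (Lpe (K20.f285435 IH) (Lpe (K20.f188513 IH) (Lpe (f188514 IH) (Lpr_df (f554716 IH) (Lpn (LP (LK LD1_c19 LD2_c8 LD3_c51))))))))))))))))))))))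
theorem f198914 : Led Lsl_ft (LP (LK LD1_c28 LD2_c29 LD3_c24)) = (LP (LK LD1_c19 LD2_c3 LD3_c3)) :=
  Lre_f IH (LK LD1_c28 LD2_c29 LD3_c24) (LK LD1_c19 LD2_c3 LD3_c3) Lrfl Lrfl
theorem f198925 : Led Lsl_at (LP (LK LD1_c19 LD2_c3 LD3_c3)) = (LP (LK LD1_c28 LD2_c29 LD3_c23)) :=
  Lre_a IH (LK LD1_c19 LD2_c3 LD3_c3) (LK LD1_c28 LD2_c29 LD3_c23) Lrfl Lrfl
theorem f940002 : Led Lsl_gf (LP (LK LD1_c28 LD2_c29 LD3_c23)) = (LP (LK LD1_c19 LD2_c8 LD3_c51)) :=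
  Lgr Lrot76 (Lpe (f198925 IH) (Lpe (f198914 IH) (Lpr_gt (f940000 IH) (Lpn (LP (LK LD1_c19 LD2_c8 LD3_c51))))))
theorem f183768 : Led Lsl_gt (LP (LK LD1_c21 LD2_c0 LD3_c45)) = (LP (LK LD1_c11 LD2_c55 LD3_c53)) :=
  Lre_g IH (LK LD1_c21 LD2_c0 LD3_c45) (LK LD1_c11 LD2_c55 LD3_c53) Lrfl Lrfl
theorem f618695 : Led Lsl_bt (LP (LK LD1_c28 LD2_c29 LD3_c24)) = (LP (LK LD1_c19 LD2_c3 LD3_c6)) :=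
  Lre_b IH (LK LD1_c28 LD2_c29 LD3_c24) (LK LD1_c19 LD2_c3 LD3_c6) Lrfl Lrfl
theorem f618739 : Led Lsl_cf (LP (LK LD1_c21 LD2_c0 LD3_c45)) = (LP (LK LD1_c28 LD2_c29 LD3_c24)) :=
  Lgr Lrot160 (Lpr_gt (f183768 IH) (Lpr_cf (K12.f198897 IH) (Lpr_bt (K12.f198877 IH) (Lpr_gt (K11.f191211 IH) (Lpr_ct (K15.f198902 IH) (Lpr_gt (K10.f41515 IH) (Lpe (K10.f46455 IH) (Lpr_bt (f187551 IH) (Lpr_gt (f618733 IH) (Lpe (f618695 IH) (Lpn (LP (LK LD1_c28 LD2_c29 LD3_c24)))))))))))))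
theorem f198926 : Led Lsl_ft (LP (LK LD1_c19 LD2_c3 LD3_c3)) = (LP (LK LD1_c28 LD2_c29 LD3_c24)) :=
  Lre_f IH (LK LD1_c19 LD2_c3 LD3_c3) (LK LD1_c28 LD2_c29 LD3_c24) Lrfl Lrfl
theorem f198911 : Led Lsl_cf (LP (LK LD1_c19 LD2_c3 LD3_c3)) = (LP (LK LD1_c19 LD2_c25 LD3_c13)) :=
  Lgr Lrot11 (Lpr_ct (K72.f198907 IH) (Lpn (LP (LK LD1_c19 LD2_c25 LD3_c13))))
theorem f618744 : Led Lsl_ft (LP (LK LD1_c21 LD2_c0 LD3_c45)) = (LP (LK LD1_c19 LD2_c25 LD3_c13)) :=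
  Lgr Lrot4 (Lpr_cf (f618739 IH) (Lpe (f198926 IH) (Lpr_cf (f198911 IH) (Lpn (LP (LK LD1_c19 LD2_c25 LD3_c13))))))
theorem f183726 : Led Lsl_gt (LP (LK LD1_c11 LD2_c55 LD3_c53)) = (LP (LK LD1_c21 LD2_c0 LD3_c44)) :=
  Lre_g IH (LK LD1_c11 LD2_c55 LD3_c53) (LK LD1_c21 LD2_c0 LD3_c44) Lrfl Lrfl
theorem f618748 : Led Lsl_af (LP (LK LD1_c21 LD2_c0 LD3_c44)) = (LP (LK LD1_c19 LD2_c25 LD3_c13)) :=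
  Lgr Lrot31 (Lpe (f183726 IH) (Lpe (f183768 IH) (Lpr_ft (f618744 IH) (Lpn (LP (LK LD1_c19 LD2_c25 LD3_c13))))))
theorem f198909 : Led Lsl_at (LP (LK LD1_c28 LD2_c29 LD3_c23)) = (LP (LK LD1_c19 LD2_c3 LD3_c3)) :=
  Lre_a IH (LK LD1_c28 LD2_c29 LD3_c23) (LK LD1_c19 LD2_c3 LD3_c3) Lrfl Lrfl
theorem f618752 : Led Lsl_ct (LP (LK LD1_c21 LD2_c0 LD3_c44)) = (LP (LK LD1_c28 LD2_c29 LD3_c23)) :=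
  Lgr Lrot111 (Lpr_af (f618748 IH) (Lpe (K72.f198907 IH) (Lpe (f198909 IH) (Lpn (LP (LK LD1_c28 LD2_c29 LD3_c23))))))
theorem f618750 : Led Lsl_at (LP (LK LD1_c21 LD2_c0 LD3_c44)) = (LP (LK LD1_c19 LD2_c25 LD3_c13)) :=
  Lgr Lrot100 (Lpr_af (f618748 IH) (Lpn (LP (LK LD1_c19 LD2_c25 LD3_c13))))
theorem f618761 : Led Lsl_ff (LP (LK LD1_c21 LD2_c0 LD3_c44)) = (LP (LK LD1_c19 LD2_c25 LD3_c12)) :=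
  Lgr Lrot52 (Lpr_at (f618750 IH) (Lpr_gf (K72.f196070 IH) (Lpe (K72.f196062 IH) (Lpn (LP (LK LD1_c19 LD2_c25 LD3_c12))))))
theorem f259447 : Led Lsl_ft (LP (LK LD1_c26 LD2_c9 LD3_c13)) = (LP (LK LD1_c16 LD2_c12 LD3_c39)) :=
  Lre_f IH (LK LD1_c26 LD2_c9 LD3_c13) (LK LD1_c16 LD2_c12 LD3_c39) Lrfl Lrfl
theorem f618765 : Led Lsl_bt (LP (LK LD1_c21 LD2_c0 LD3_c44)) = (LP (LK LD1_c26 LD2_c9 LD3_c13)) :=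
  Lgr Lrot35 (Lpr_ff (f618761 IH) (Lpe (K72.f259439 IH) (Lpe (f259447 IH) (Lpn (LP (LK LD1_c26 LD2_c9 LD3_c13))))))
theorem f945528 : Led Lsl_gf (LP (LK LD1_c21 LD2_c0 LD3_c49)) = (LP (LK LD1_c26 LD2_c9 LD3_c13)) :=
  Lgr Lrot124 (Lpe (K53.f727063 IH) (Lpr_ct (f727066 IH) (Lpq (f945527 IH) (Lpe (f727246 IH) (Lpe (f337873 IH) (Lpr_bt (f727245 IH) (Lpe (f930731 IH) (Lpr_ct (f930729 IH) (Lpe (f940002 IH) (Lpe (f618752 IH) (Lpr_bt (f618765 IH) (Lpn (LP (LK LD1_c26 LD2_c9 LD3_c13))))))))))))))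
theorem f945529 : Led Lsl_gt (LP (LK LD1_c26 LD2_c9 LD3_c13)) = (LP (LK LD1_c21 LD2_c0 LD3_c49)) :=
  Leop (Lpr_gf (f945528 IH) (Lpn (LP (LK LD1_c26 LD2_c9 LD3_c13))))
theorem seed_2704 : LEOK LG_g (LK LD1_c26 LD2_c9 LD3_c13) :=
  Leoe_g (LK LD1_c26 LD2_c9 LD3_c13) (f945529 IH)
theorem f183499 : Led Lsl_bt (LP (LK LD1_c21 LD2_c0 LD3_c49)) = (LP (LK LD1_c11 LD2_c55 LD3_c56)) :=
  Lre_b IH (LK LD1_c21 LD2_c0 LD3_c49) (LK LD1_c11 LD2_c55 LD3_c56) Lrfl Lrfl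
theorem f195752 : Led Lsl_bt (LP (LK LD1_c10 LD2_c44 LD3_c49)) = (LP (LK LD1_c19 LD2_c26 LD3_c19)) :=
  Lre_b IH (LK LD1_c10 LD2_c44 LD3_c49) (LK LD1_c19 LD2_c26 LD3_c19) Lrfl Lrfl
theorem f727068 : Led Lsl_cf (LP (LK LD1_c21 LD2_c0 LD3_c49)) = (LP (LK LD1_c19 LD2_c26 LD3_c19)) :=
  Lgr Lrot97 (Lpr_bt (f183499 IH) (Lpr_ct (f727066 IH) (Lpe (K53.f727060 IH) (Lpr_ct (f195575 IH) (Lpr_bt (f195752 IH) (Lpn (LP (LK LD1_c19 LD2_c26 LD3_c19))))))))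
theorem f216273 : Led Lsl_gt (LP (LK LD1_c8 LD2_c14 LD3_c33)) = (LP (LK LD1_c15 LD2_c30 LD3_c22)) :=
  Lre_g IH (LK LD1_c8 LD2_c14 LD3_c33) (LK LD1_c15 LD2_c30 LD3_c22) Lrfl Lrfl
theorem f195431 : Led Lsl_ct (LP (LK LD1_c5 LD2_c26 LD3_c56)) = (LP (LK LD1_c2 LD2_c39 LD3_c53)) :=
  Lre_c IH (LK LD1_c5 LD2_c26 LD3_c56) (LK LD1_c2 LD2_c39 LD3_c53) Lrfl Lrfl
theorem f396440 : Led Lsl_ff (LP (LK LD1_c5 LD2_c26 LD3_c56)) = (LP (LK LD1_c6 LD2_c6 LD3_c39)) :=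
  Lgr Lrot23 (Lpr_ct (f195431 IH) (Lpr_ft (K53.f334401 IH) (Lpr_ct (K68.f177464 IH) (Lpn (LP (LK LD1_c6 LD2_c6 LD3_c39))))))
theorem f195512 : Led Lsl_at (LP (LK LD1_c5 LD2_c26 LD3_c56)) = (LP (LK LD1_c10 LD2_c44 LD3_c52)) :=
  Lre_a IH (LK LD1_c5 LD2_c26 LD3_c56) (LK LD1_c10 LD2_c44 LD3_c52) Lrfl Lrfl
theorem f177552 : Led Lsl_gt (LP (LK LD1_c6 LD2_c6 LD3_c39)) = (LP (LK LD1_c11 LD2_c56 LD3_c21)) :=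
  Lre_g IH (LK LD1_c6 LD2_c6 LD3_c39) (LK LD1_c11 LD2_c56 LD3_c21) Lrfl Lrfl
theorem f396494 : Led Lsl_gf (LP (LK LD1_c10 LD2_c44 LD3_c52)) = (LP (LK LD1_c11 LD2_c56 LD3_c21)) :=
  Lgr Lrot76 (Lpe (f195512 IH) (Lpr_ff (f396440 IH) (Lpr_gt (f177552 IH) (Lpn (LP (LK LD1_c11 LD2_c56 LD3_c21))))))
theorem f216272 : Led Lsl_bt (LP (LK LD1_c4 LD2_c6 LD3_c60)) = (LP (LK LD1_c8 LD2_c14 LD3_c33)) :=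
  Lre_b IH (LK LD1_c4 LD2_c6 LD3_c60) (LK LD1_c8 LD2_c14 LD3_c33) Lrfl Lrfl
theorem f396497 : Led Lsl_ct (LP (LK LD1_c15 LD2_c30 LD3_c22)) = (LP (LK LD1_c11 LD2_c56 LD3_c21)) :=
  Lgr Lrot91 (Lpe (f216273 IH) (Lpe (f216272 IH) (Lpr_ct (K56.f194289 IH) (Lpe (K71.f216268 IH) (Lpe (K39.f187582 IH) (Lpr_bt (K39.f187581 IH) (Lpr_gf (K45.f396419 IH) (Lpe (K53.f396432 IH) (Lpr_ct (K56.f396434 IH) (Lpr_gf (f396494 IH) (Lpn (LP (LK LD1_c11 LD2_c56 LD3_c21)))))))))))))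
theorem f396502 : Led Lsl_cf (LP (LK LD1_c15 LD2_c30 LD3_c22)) = (LP (LK LD1_c11 LD2_c56 LD3_c21)) :=
  Lgr Lrot11 (Lpr_ct (f396497 IH) (Lpn (LP (LK LD1_c11 LD2_c56 LD3_c21))))
theorem f396487 : Led Lsl_bt (LP (LK LD1_c11 LD2_c56 LD3_c21)) = (LP (LK LD1_c21 LD2_c1 LD3_c10)) :=
  Lre_b IH (LK LD1_c11 LD2_c56 LD3_c21) (LK LD1_c21 LD2_c1 LD3_c10) Lrfl Lrfl
theorem f618783 : Led Lsl_ct (LP (LK LD1_c16 LD2_c12 LD3_c32)) = (LP (LK LD1_c26 LD2_c9 LD3_c13)) :=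
  Lre_c IH (LK LD1_c16 LD2_c12 LD3_c32) (LK LD1_c26 LD2_c9 LD3_c13) Lrfl Lrfl
theorem f618808 : Led Lsl_bt (LP (LK LD1_c16 LD2_c12 LD3_c32)) = (LP (LK LD1_c26 LD2_c9 LD3_c12)) :=
  Lre_b IH (LK LD1_c16 LD2_c12 LD3_c32) (LK LD1_c26 LD2_c9 LD3_c12) Lrfl Lrfl
theorem f945532 : Led Lsl_gt (LP (LK LD1_c21 LD2_c1 LD3_c10)) = (LP (LK LD1_c26 LD2_c9 LD3_c12)) :=
  Lgr Lrot164 (Lpe (f396487 IH) (Lpe (f396502 IH) (Lpe (f216273 IH) (Lpr_cf (f881349 IH) (Lpe (f881350 IH) (Lpe (K53.f727061 IH) (Lpe (f727068 IH) (Lpr_gf (f945528 IH) (Lpe (f618783 IH) (Lpr_bt (f618808 IH) (Lpn (LP (LK LD1_c26 LD2_c9 LD3_c12)))))))))))))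
theorem f945533 : Led Lsl_gt (LP (LK LD1_c21 LD2_c1 LD3_c10)) = (LP (LK LD1_c26 LD2_c9 LD3_c12)) :=
  Leop (Lpe (f945532 IH) (Lpn (LP (LK LD1_c21 LD2_c1 LD3_c10))))
theorem seed_2705 : LEOK LG_g (LK LD1_c21 LD2_c1 LD3_c10) :=
  Leoe_g (LK LD1_c21 LD2_c1 LD3_c10) (f945533 IH)
def v14901 : LQ := Led Lsl_gt (LP (LK LD1_c5 LD2_c27 LD3_c5))
theorem f727193 : Led Lsl_gt (LP (LK LD1_c5 LD2_c27 LD3_c5)) = v14901 :=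
  Lrfl
def v44527 : LQ := Led Lsl_gt (LP (LK LD1_c10 LD2_c45 LD3_c2))
theorem f945614 : Led Lsl_gt (LP (LK LD1_c10 LD2_c45 LD3_c2)) = v44527 :=
  Lrfl
theorem f931008 : Led Lsl_ft (LP (LK LD1_c15 LD2_c56 LD3_c32)) = (LP (LK LD1_c25 LD2_c53 LD3_c4)) :=
  Lre_f IH (LK LD1_c15 LD2_c56 LD3_c32) (LK LD1_c25 LD2_c53 LD3_c4) Lrfl Lrfl
theorem f931009 : Led Lsl_at (LP (LK LD1_c15 LD2_c29 LD3_c9)) = (LP (LK LD1_c15 LD2_c56 LD3_c32)) :=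
  Lgr Lrot66 (Lpr_ff (K73.f931005 IH) (Lpe (K73.f881221 IH) (Lpe (f931008 IH) (Lpn (LP (LK LD1_c15 LD2_c56 LD3_c32))))))
theorem f931013 : Led Lsl_gf (LP (LK LD1_c25 LD2_c19 LD3_c41)) = (LP (LK LD1_c15 LD2_c56 LD3_c36)) :=
  Lgr Lrot47 (Lpe (K72.f603096 IH) (Lpe (f931009 IH) (Lpr_ff (K73.f931005 IH) (Lpn (LP (LK LD1_c15 LD2_c56 LD3_c36))))))
theorem f945616 : Led Lsl_ct K73.v35934 = v44527 :=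
  Lgr Lrot63 (Lpe (K73.f881222 IH) (Lpe (f931013 IH) (Lpe (K72.f256242 IH) (Lpr_ct (K14.f256233 IH) (Lpe (K15.f265278 IH) (Lpr_cf (K17.f265114 IH) (Lpe (K39.f554643 IH) (Lpr_gt (K39.f178255 IH) (Lpe (K39.f187587 IH) (Lpr_gt (f945614 IH) (Lpn v44527)))))))))))
theorem f945619 : Led Lsl_ff K73.v35932 = v44527 :=
  Lgr Lrot23 (Lpe (K73.f881212 IH) (Lpr_ft (K72.f823111 IH) (Lpq (K73.f931000 IH) (Lpr_ct (f945616 IH) (Lpn v44527)))))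
theorem f887307 : Led Lsl_et (LP (LK LD1_c25 LD2_c52 LD3_c60)) = (LP (LK LD1_c15 LD2_c56 LD3_c30)) :=
  Lre_e IH (LK LD1_c25 LD2_c52 LD3_c60) (LK LD1_c15 LD2_c56 LD3_c30) Lrfl Lrfl
def v36520 : LQ := Led Lsl_gt (LP (LK LD1_c8 LD2_c29 LD3_c27))
theorem f887309 : Led Lsl_gt (LP (LK LD1_c8 LD2_c29 LD3_c27)) = v36520 :=
  Lrfl
theorem f194290 : Led Lsl_gt (LP (LK LD1_c8 LD2_c14 LD3_c27)) = (LP (LK LD1_c4 LD2_c6 LD3_c60)) :=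
  Lre_g IH (LK LD1_c8 LD2_c14 LD3_c27) (LK LD1_c4 LD2_c6 LD3_c60) Lrfl Lrfl
theorem f887311 : Led Lsl_ct (LP (LK LD1_c15 LD2_c29 LD3_c9)) = v36520 :=
  Lgr Lrot10 (Lpr_bt (K72.f194293 IH) (Lpr_gt (K73.f194292 IH) (Lpr_ct (K73.f194291 IH) (Lpr_gt (f194290 IH) (Lpe (K68.f194281 IH) (Lpr_bt (K39.f194282 IH) (Lpr_gt (K68.f194287 IH) (Lpr_bf (K12.f54409 IH) (Lpr_ct (K12.f54417 IH) (Lpr_gt (f887309 IH) (Lpn v36520)))))))))))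
theorem f45635 : Led Lsl_ct (LP (LK LD1_c8 LD2_c29 LD3_c26)) = (LP (LK LD1_c15 LD2_c56 LD3_c36)) :=
  Lre_c IH (LK LD1_c8 LD2_c29 LD3_c26) (LK LD1_c15 LD2_c56 LD3_c36) Lrfl Lrfl
theorem f887303 : Led Lsl_ft (LP (LK LD1_c15 LD2_c56 LD3_c30)) = (LP (LK LD1_c8 LD2_c29 LD3_c26)) :=
  Lre_f IH (LK LD1_c15 LD2_c56 LD3_c30) (LK LD1_c8 LD2_c29 LD3_c26) Lrfl Lrfl
theorem f931015 : v36520 = (LP (LK LD1_c15 LD2_c56 LD3_c30)) :=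
  (Llr Lrot40 (Lpe (f887311 IH) (Lpr_ff (K73.f931005 IH) (Lpe (f45635 IH) (Lpe (f887303 IH) (Lpn (LP (LK LD1_c15 LD2_c56 LD3_c30)))))))).symm
theorem f887312 : Led Lsl_cf (LP (LK LD1_c15 LD2_c29 LD3_c9)) = v36520 :=
  Lgr Lrot11 (Lpr_ct (f887311 IH) (Lpn v36520))
theorem f887314 : Led Lsl_et (LP (LK LD1_c15 LD2_c29 LD3_c9)) = (LP (LK LD1_c25 LD2_c21 LD3_c53)) :=
  Lre_e IH (LK LD1_c15 LD2_c29 LD3_c9) (LK LD1_c25 LD2_c21 LD3_c53) Lrfl Lrfl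
theorem f931029 : Led Lsl_cf (LP (LK LD1_c25 LD2_c52 LD3_c60)) = (LP (LK LD1_c25 LD2_c21 LD3_c53)) :=
  Lgr Lrot39 (Lpr_et (f887307 IH) (Lpq (f931015 IH) (Lpe (f887312 IH) (Lpr_et (f887314 IH) (Lpn (LP (LK LD1_c25 LD2_c21 LD3_c53)))))))
theorem f931035 : Led Lsl_ct (LP (LK LD1_c25 LD2_c52 LD3_c60)) = (LP (LK LD1_c25 LD2_c21 LD3_c53)) :=
  Lgr Lrot59 (Lpr_cf (f931029 IH) (Lpn (LP (LK LD1_c25 LD2_c21 LD3_c53))))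
theorem f931028 : Led Lsl_at (LP (LK LD1_c15 LD2_c56 LD3_c34)) = (LP (LK LD1_c25 LD2_c52 LD3_c60)) :=
  Lre_a IH (LK LD1_c15 LD2_c56 LD3_c34) (LK LD1_c25 LD2_c52 LD3_c60) Lrfl Lrfl
theorem f930701 : Led Lsl_ct (LP (LK LD1_c25 LD2_c53 LD3_c3)) = (LP (LK LD1_c15 LD2_c56 LD3_c34)) :=
  Lre_c IH (LK LD1_c25 LD2_c53 LD3_c3) (LK LD1_c15 LD2_c56 LD3_c34) Lrfl Lrfl
theorem f931039 : Led Lsl_af (LP (LK LD1_c25 LD2_c53 LD3_c3)) = (LP (LK LD1_c25 LD2_c21 LD3_c53)) :=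
  Lgr Lrot68 (Lpr_ct (f930701 IH) (Lpr_at (f931028 IH) (Lpr_ct (f931035 IH) (Lpn (LP (LK LD1_c25 LD2_c21 LD3_c53))))))
theorem f930696 : Led Lsl_at (LP (LK LD1_c19 LD2_c27 LD3_c9)) = (LP (LK LD1_c28 LD2_c49 LD3_c58)) :=
  Lre_a IH (LK LD1_c19 LD2_c27 LD3_c9) (LK LD1_c28 LD2_c49 LD3_c58) Lrfl Lrfl
theorem f930697 : Led Lsl_ct (LP (LK LD1_c28 LD2_c49 LD3_c50)) = (LP (LK LD1_c19 LD2_c27 LD3_c9)) :=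
  Lre_c IH (LK LD1_c28 LD2_c49 LD3_c50) (LK LD1_c19 LD2_c27 LD3_c9) Lrfl Lrfl
theorem f930698 : Led Lsl_at (LP (LK LD1_c32 LD2_c1 LD3_c4)) = (LP (LK LD1_c28 LD2_c49 LD3_c50)) :=
  Lgr Lrot107 (Lpr_cf (K72.f930694 IH) (Lpe (f930696 IH) (Lpe (f930697 IH) (Lpn (LP (LK LD1_c28 LD2_c49 LD3_c50))))))
theorem f931044 : Led Lsl_bt (LP (LK LD1_c28 LD2_c49 LD3_c50)) = (LP (LK LD1_c19 LD2_c26 LD3_c60)) :=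
  Lre_b IH (LK LD1_c28 LD2_c49 LD3_c50) (LK LD1_c19 LD2_c26 LD3_c60) Lrfl Lrfl
theorem f931034 : Led Lsl_bt (LP (LK LD1_c15 LD2_c29 LD3_c11)) = (LP (LK LD1_c25 LD2_c21 LD3_c53)) :=
  Lre_b IH (LK LD1_c15 LD2_c29 LD3_c11) (LK LD1_c25 LD2_c21 LD3_c53) Lrfl Lrfl
theorem f931045 : Led Lsl_at (LP (LK LD1_c19 LD2_c26 LD3_c60)) = (LP (LK LD1_c15 LD2_c29 LD3_c11)) :=
  Lgr Lrot67 (Lpe (f931044 IH) (Lpe (f930698 IH) (Lpe (K72.f930713 IH) (Lpr_af (f931039 IH) (Lpe (f931034 IH) (Lpn (LP (LK LD1_c15 LD2_c29 LD3_c11))))))))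
theorem f421756 : Led Lsl_ct (LP (LK LD1_c10 LD2_c45 LD3_c17)) = (LP (LK LD1_c19 LD2_c26 LD3_c60)) :=
  Lre_c IH (LK LD1_c10 LD2_c45 LD3_c17) (LK LD1_c19 LD2_c26 LD3_c60) Lrfl Lrfl
theorem f931072 : Led Lsl_at (LP (LK LD1_c19 LD2_c26 LD3_c57)) = (LP (LK LD1_c10 LD2_c45 LD3_c17)) :=
  Lre_a IH (LK LD1_c19 LD2_c26 LD3_c57) (LK LD1_c10 LD2_c45 LD3_c17) Lrfl Lrfl
theorem f931073 : Led Lsl_cf (LP (LK LD1_c19 LD2_c26 LD3_c57)) = (LP (LK LD1_c15 LD2_c29 LD3_c11)) :=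
  Lgr Lrot1 (Lpr_at (f931072 IH) (Lpr_ct (f421756 IH) (Lpr_at (f931045 IH) (Lpn (LP (LK LD1_c15 LD2_c29 LD3_c11))))))
theorem f931110 : Led Lsl_et (LP (LK LD1_c19 LD2_c26 LD3_c57)) = (LP (LK LD1_c10 LD2_c45 LD3_c14)) :=
  Lre_e IH (LK LD1_c19 LD2_c26 LD3_c57) (LK LD1_c10 LD2_c45 LD3_c14) Lrfl Lrfl
theorem f881210 : Led Lsl_et (LP (LK LD1_c8 LD2_c13 LD3_c55)) = (LP (LK LD1_c15 LD2_c29 LD3_c11)) :=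
  Lre_e IH (LK LD1_c8 LD2_c13 LD3_c55) (LK LD1_c15 LD2_c29 LD3_c11) Lrfl Lrfl
theorem f931112 : (LP (LK LD1_c10 LD2_c45 LD3_c14)) = K73.v35932 :=
  (Llr Lrot158 (Lpe (f931110 IH) (Lpr_cf (f931073 IH) (Lpe (f881210 IH) (Lpr_cf (K73.f881212 IH) (Lpn K73.v35932)))))).symm
theorem f727171 : Led Lsl_at (LP (LK LD1_c10 LD2_c45 LD3_c14)) = (LP (LK LD1_c5 LD2_c27 LD3_c5)) :=
  Lre_a IH (LK LD1_c10 LD2_c45 LD3_c14) (LK LD1_c5 LD2_c27 LD3_c5) Lrfl Lrfl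
theorem f727194 : Led Lsl_ft (LP (LK LD1_c5 LD2_c27 LD3_c5)) = (LP (LK LD1_c10 LD2_c45 LD3_c18)) :=
  Lre_f IH (LK LD1_c5 LD2_c27 LD3_c5) (LK LD1_c10 LD2_c45 LD3_c18) Lrfl Lrfl
theorem f945620 : Led Lsl_at (LP (LK LD1_c10 LD2_c45 LD3_c18)) = v44527 :=
  Lgr Lrot66 (Lpe (f727194 IH) (Lpe (f727171 IH) (Lpqs (f931112 IH) (Lpr_ff (f945619 IH) (Lpn v44527)))))
theorem f945623 : v14901 = (LP (LK LD1_c10 LD2_c45 LD3_c2)) :=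
  (Llr Lrot5 (Lpe (f727193 IH) (Lpr_ft (f727194 IH) (Lpr_at (f945620 IH) (Lpe (f945614 IH) (Lpn (LP (LK LD1_c10 LD2_c45 LD3_c2)))))))).symm
theorem f945624 : Led Lsl_gt (LP (LK LD1_c5 LD2_c27 LD3_c5)) = (LP (LK LD1_c10 LD2_c45 LD3_c2)) :=
  Leop (Lpq (f945623 IH) (Lpe (f727193 IH) (Lpn (LP (LK LD1_c5 LD2_c27 LD3_c5)))))
theorem seed_2706 : LEOK LG_g (LK LD1_c5 LD2_c27 LD3_c5) :=
  Leoe_g (LK LD1_c5 LD2_c27 LD3_c5) (f945624 IH)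
def v14909 : LQ := Led Lsl_at (LP (LK LD1_c5 LD2_c27 LD3_c10))
theorem f727247 : Led Lsl_at (LP (LK LD1_c5 LD2_c27 LD3_c10)) = v14909 :=
  Lrfl
theorem f727248 : Led Lsl_af (LP (LK LD1_c5 LD2_c27 LD3_c10)) = v14909 :=
  Lgr Lrot0 (Lpr_at (f727247 IH) (Lpn v14909))
theorem f945622 : Led Lsl_bf v14909 = v44527 :=
  Lgr Lrot81 (Lpe (f727248 IH) (Lpr_bt (f195418 IH) (Lpr_at (K72.f638291 IH) (Lpr_bt (K72.f727222 IH) (Lpr_at (f945620 IH) (Lpn v44527))))))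
def v36518 : LQ := Led Lsl_bt (LP (LK LD1_c8 LD2_c29 LD3_c26))
theorem f887300 : Led Lsl_bt (LP (LK LD1_c8 LD2_c29 LD3_c26)) = v36518 :=
  Lrfl
theorem f887302 : Led Lsl_bf (LP (LK LD1_c8 LD2_c29 LD3_c26)) = v36518 :=
  Lgr Lrot24 (Lpr_bt (f887300 IH) (Lpn v36518))
theorem f945626 : Led Lsl_ct v14909 = v36518 :=
  Lgr Lrot83 (Lpr_bf (f945622 IH) (Lpe (f945616 IH) (Lpe (K73.f881220 IH) (Lpe (f45635 IH) (Lpr_bf (f887302 IH) (Lpn v36518))))))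
theorem f945629 : Led Lsl_cf v14909 = v36518 :=
  Lgr Lrot11 (Lpr_ct (f945626 IH) (Lpn v36518))
theorem f945618 : Led Lsl_cf K73.v35934 = v44527 :=
  Lgr Lrot11 (Lpr_ct (f945616 IH) (Lpn v44527))
theorem f54910 : Led Lsl_at (LP (LK LD1_c4 LD2_c6 LD3_c40)) = (LP (LK LD1_c8 LD2_c13 LD3_c57)) :=
  Lre_a IH (LK LD1_c4 LD2_c6 LD3_c40) (LK LD1_c8 LD2_c13 LD3_c57) Lrfl Lrfl
theorem f54898 : Led Lsl_ft (LP (LK LD1_c8 LD2_c13 LD3_c59)) = (LP (LK LD1_c4 LD2_c6 LD3_c40)) :=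
  Lre_f IH (LK LD1_c8 LD2_c13 LD3_c59) (LK LD1_c4 LD2_c6 LD3_c40) Lrfl Lrfl
theorem f881219 : Led Lsl_gt (LP (LK LD1_c8 LD2_c13 LD3_c59)) = K73.v35934 :=
  Lgr Lrot5 (Lpr_ft (f54898 IH) (Lpr_at (f54910 IH) (Lpr_gf (K73.f881218 IH) (Lpn K73.v35934))))
theorem f183058 : Led Lsl_bt (LP (LK LD1_c2 LD2_c39 LD3_c40)) = (LP (LK LD1_c1 LD2_c16 LD3_c36)) :=
  Lre_b IH (LK LD1_c2 LD2_c39 LD3_c40) (LK LD1_c1 LD2_c16 LD3_c36) Lrfl Lrfl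
theorem f945627 : Led Lsl_gt v14909 = K56.v16762 :=
  Lgr Lrot82 (Lpr_bf (f945622 IH) (Lpe (f945618 IH) (Lpe (f881219 IH) (Lpe (K39.f55476 IH) (Lpr_bt (K39.f55386 IH) (Lpr_gf (K9.f183054 IH) (Lpe (f183058 IH) (Lpr_ct (K17.f183059 IH) (Lpe (K56.f183069 IH) (Lpr_cf (K56.f751455 IH) (Lpn K56.v16762)))))))))))
theorem f751459 : Led Lsl_ct (LP (LK LD1_c10 LD2_c43 LD3_c59)) = K56.v16762 :=
  Lgr Lrot59 (Lpr_cf (K56.f751455 IH) (Lpn K56.v16762))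
theorem f31333 : Led Lsl_gt (LP (LK LD1_c8 LD2_c39 LD3_c18)) = (LP (LK LD1_c16 LD2_c12 LD3_c31)) :=
  Lre_g IH (LK LD1_c8 LD2_c39 LD3_c18) (LK LD1_c16 LD2_c12 LD3_c31) Lrfl Lrfl
theorem f37005 : Led Lsl_ct (LP (LK LD1_c16 LD2_c12 LD3_c34)) = (LP (LK LD1_c8 LD2_c39 LD3_c18)) :=
  Lre_c IH (LK LD1_c16 LD2_c12 LD3_c34) (LK LD1_c8 LD2_c39 LD3_c18) Lrfl Lrfl
theorem f945633 : Led Lsl_gt (LP (LK LD1_c19 LD2_c25 LD3_c17)) = (LP (LK LD1_c16 LD2_c12 LD3_c34)) :=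
  Lgr Lrot82 (Lpe (K56.f751456 IH) (Lpr_ct (f751459 IH) (Lpe (f945627 IH) (Lpr_cf (f945629 IH) (Lpe (f887302 IH) (Lpe (K73.f45633 IH) (Lpr_bf (K72.f45626 IH) (Lpe (K72.f54475 IH) (Lpe (f31333 IH) (Lpe (f37005 IH) (Lpn (LP (LK LD1_c16 LD2_c12 LD3_c34)))))))))))))
theorem f945634 : Led Lsl_gt (LP (LK LD1_c19 LD2_c25 LD3_c17)) = (LP (LK LD1_c16 LD2_c12 LD3_c34)) :=
  Leop (Lpe (f945633 IH) (Lpn (LP (LK LD1_c19 LD2_c25 LD3_c17))))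
theorem seed_2707 : LEOK LG_g (LK LD1_c19 LD2_c25 LD3_c17) :=
  Leoe_g (LK LD1_c19 LD2_c25 LD3_c17) (f945634 IH)
def v44533 : LQ := Led Lsl_dt (LP (LK LD1_c10 LD2_c45 LD3_c5))
theorem f945665 : Led Lsl_dt (LP (LK LD1_c10 LD2_c45 LD3_c5)) = v44533 :=
  Lrfl
theorem f346423 : Led Lsl_bt (LP (LK LD1_c9 LD2_c33 LD3_c33)) = (LP (LK LD1_c17 LD2_c36 LD3_c3)) :=
  Lre_b IH (LK LD1_c9 LD2_c33 LD3_c33) (LK LD1_c17 LD2_c36 LD3_c3) Lrfl Lrfl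
theorem f311129 : Led Lsl_bt (LP (LK LD1_c11 LD2_c53 LD3_c33)) = (LP (LK LD1_c6 LD2_c5 LD3_c5)) :=
  Lre_b IH (LK LD1_c11 LD2_c53 LD3_c33) (LK LD1_c6 LD2_c5 LD3_c5) Lrfl Lrfl
theorem f394741 : Led Lsl_ct (LP (LK LD1_c17 LD2_c36 LD3_c3)) = (LP (LK LD1_c11 LD2_c53 LD3_c33)) :=
  Lgr Lrot83 (Lpe (f346423 IH) (Lpr_cf (K25.f346489 IH) (Lpe (K25.f42402 IH) (Lpe (K19.f42274 IH) (Lpe (f311129 IH) (Lpn (LP (LK LD1_c11 LD2_c53 LD3_c33))))))))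
theorem f394746 : Led Lsl_et (LP (LK LD1_c9 LD2_c33 LD3_c31)) = (LP (LK LD1_c17 LD2_c36 LD3_c3)) :=
  Lre_e IH (LK LD1_c9 LD2_c33 LD3_c31) (LK LD1_c17 LD2_c36 LD3_c3) Lrfl Lrfl
theorem f357646 : Led Lsl_et (LP (LK LD1_c11 LD2_c53 LD3_c33)) = (LP (LK LD1_c6 LD2_c5 LD3_c3)) :=
  Lre_e IH (LK LD1_c11 LD2_c53 LD3_c33) (LK LD1_c6 LD2_c5 LD3_c3) Lrfl Lrfl
theorem f394747 : Led Lsl_cf (LP (LK LD1_c9 LD2_c33 LD3_c31)) = (LP (LK LD1_c6 LD2_c5 LD3_c3)) :=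
  Lgr Lrot39 (Lpr_et (f394746 IH) (Lpr_ct (f394741 IH) (Lpr_et (f357646 IH) (Lpn (LP (LK LD1_c6 LD2_c5 LD3_c3))))))
theorem f394750 : Led Lsl_ct (LP (LK LD1_c9 LD2_c33 LD3_c31)) = (LP (LK LD1_c6 LD2_c5 LD3_c3)) :=
  Lgr Lrot59 (Lpr_cf (f394747 IH) (Lpn (LP (LK LD1_c6 LD2_c5 LD3_c3))))
theorem f198862 : Led Lsl_bt (LP (LK LD1_c9 LD2_c33 LD3_c31)) = (LP (LK LD1_c4 LD2_c50 LD3_c42)) :=
  Lre_b IH (LK LD1_c9 LD2_c33 LD3_c31) (LK LD1_c4 LD2_c50 LD3_c42) Lrfl Lrfl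
theorem f394754 : Led Lsl_gt (LP (LK LD1_c11 LD2_c53 LD3_c30)) = (LP (LK LD1_c6 LD2_c5 LD3_c3)) :=
  Lre_g IH (LK LD1_c11 LD2_c53 LD3_c30) (LK LD1_c6 LD2_c5 LD3_c3) Lrfl Lrfl
theorem f394755 : Led Lsl_ct (LP (LK LD1_c20 LD2_c57 LD3_c4)) = (LP (LK LD1_c11 LD2_c53 LD3_c30)) :=
  Lre_c IH (LK LD1_c20 LD2_c57 LD3_c4) (LK LD1_c11 LD2_c53 LD3_c30) Lrfl Lrfl
theorem f394776 : Led Lsl_bf (LP (LK LD1_c11 LD2_c56 LD3_c13)) = (LP (LK LD1_c20 LD2_c57 LD3_c4)) :=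
  Lgr Lrot34 (Lpe (K71.f256146 IH) (Lpr_bf (K71.f256139 IH) (Lpe (K15.f256141 IH) (Lpr_gf (K17.f198855 IH) (Lpe (K10.f27659 IH) (Lpe (K10.f27671 IH) (Lpe (f198862 IH) (Lpr_ct (f394750 IH) (Lpe (f394754 IH) (Lpe (f394755 IH) (Lpn (LP (LK LD1_c20 LD2_c57 LD3_c4)))))))))))))
theorem f394781 : Led Lsl_ct (LP (LK LD1_c11 LD2_c53 LD3_c30)) = (LP (LK LD1_c20 LD2_c57 LD3_c4)) :=
  Lre_c IH (LK LD1_c11 LD2_c53 LD3_c30) (LK LD1_c20 LD2_c57 LD3_c4) Lrfl Lrfl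
theorem f926877 : Led Lsl_cf K71.v14892 = K72.v41581 :=
  Lgr Lrot1 (Lpe (K71.f727133 IH) (Lpr_ct (K71.f586560 IH) (Lpr_at (K72.f926874 IH) (Lpn K72.v41581))))
theorem f922706 : Led Lsl_af (LP (LK LD1_c9 LD2_c55 LD3_c43)) = (LP (LK LD1_c9 LD2_c59 LD3_c51)) :=
  Lgr Lrot117 (Lpr_dt (K45.f169989 IH) (Lpr_at (K44.f251519 IH) (Lpr_dt (K71.f922671 IH) (Lpn (LP (LK LD1_c9 LD2_c59 LD3_c51))))))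
theorem f926879 : Led Lsl_ff (LP (LK LD1_c9 LD2_c59 LD3_c51)) = K72.v41581 :=
  Lgr Lrot30 (Lpe (f922706 IH) (Lpr_ft (K45.f403048 IH) (Lpr_at (K72.f926874 IH) (Lpn K72.v41581))))
theorem f926883 : Led Lsl_dt (LP (LK LD1_c10 LD2_c10 LD3_c24)) = K72.v41581 :=
  Lgr Lrot60 (Lpr_ff (K45.f345129 IH) (Lpr_df (K71.f922710 IH) (Lpr_ff (f926879 IH) (Lpn K72.v41581))))
theorem f345151 : Led Lsl_ct (LP (LK LD1_c18 LD2_c31 LD3_c52)) = (LP (LK LD1_c10 LD2_c10 LD3_c24)) :=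
  Lre_c IH (LK LD1_c18 LD2_c31 LD3_c52) (LK LD1_c10 LD2_c10 LD3_c24) Lrfl Lrfl
theorem f198834 : Led Lsl_dt (LP (LK LD1_c6 LD2_c6 LD3_c33)) = (LP (LK LD1_c11 LD2_c56 LD3_c15)) :=
  Lre_d IH (LK LD1_c6 LD2_c6 LD3_c33) (LK LD1_c11 LD2_c56 LD3_c15) Lrfl Lrfl
theorem f251524 : Led Lsl_dt (LP (LK LD1_c18 LD2_c4 LD3_c47)) = (LP (LK LD1_c9 LD2_c52 LD3_c36)) :=
  Lre_d IH (LK LD1_c18 LD2_c4 LD3_c47) (LK LD1_c9 LD2_c52 LD3_c36) Lrfl Lrfl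
theorem f945667 : Led Lsl_cf (LP (LK LD1_c18 LD2_c4 LD3_c47)) = v44533 :=
  Lgr Lrot55 (Lpr_dt (f251524 IH) (Lpr_ct (K44.f251457 IH) (Lpr_dt (K71.f169990 IH) (Lpe (K72.f586589 IH) (Lpr_dt (K71.f198835 IH) (Lpr_ct (K53.f198820 IH) (Lpr_dt (f198834 IH) (Lpr_ct (K72.f198840 IH) (Lpr_dt (K72.f603398 IH) (Lpr_ct (f345151 IH) (Lpr_dt (f926883 IH) (Lpe (f926877 IH) (Lpe (K71.f727134 IH) (Lpr_ct (K53.f396408 IH) (Lpr_dt (f945665 IH) (Lpn v44533))))))))))))))))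
theorem f42633 : Led Lsl_gt (LP (LK LD1_c11 LD2_c52 LD3_c14)) = (LP (LK LD1_c20 LD2_c54 LD3_c61)) :=
  Lre_g IH (LK LD1_c11 LD2_c52 LD3_c14) (LK LD1_c20 LD2_c54 LD3_c61) Lrfl Lrfl
theorem f945670 : Led Lsl_df (LP (LK LD1_c11 LD2_c53 LD3_c30)) = (LP (LK LD1_c20 LD2_c54 LD3_c61)) :=
  Lgr Lrot183 (Lpr_ct (f394781 IH) (Lpe (f394776 IH) (Lpr_gt (K71.f402942 IH) (Lpr_dt (f945665 IH) (Lpe (f945667 IH) (Lpr_bt (K71.f246837 IH) (Lpe (K15.f266008 IH) (Lpr_dt (K15.f3366 IH) (Lpe (K15.f192944 IH) (Lpe (K10.f187113 IH) (Lpe (K10.f45744 IH) (Lpr_dt (K1.f44229 IH) (Lpr_ct (K9.f46427 IH) (Lpe (K10.f183848 IH) (Lpr_gt (K1.f41756 IH) (Lpr_dt (K10.f41785 IH) (Lpr_ct (K17.f42503 IH) (Lpr_bt (K56.f42588 IH) (Lpr_gt (f42633 IH) (Lpn (LP (LK LD1_c20 LD2_c54 LD3_c61))))))))))))))))))))))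
theorem f945671 : Led Lsl_dt (LP (LK LD1_c20 LD2_c54 LD3_c61)) = (LP (LK LD1_c11 LD2_c53 LD3_c30)) :=
  Leop (Lpr_df (f945670 IH) (Lpn (LP (LK LD1_c20 LD2_c54 LD3_c61))))
theorem seed_2708 : LEOK LG_d (LK LD1_c20 LD2_c54 LD3_c61) :=
  Leoe_d (LK LD1_c20 LD2_c54 LD3_c61) (f945671 IH)
def v43752 : LQ := Led Lsl_gt (LP (LK LD1_c10 LD2_c34 LD3_c34))
theorem f942107 : Led Lsl_gt (LP (LK LD1_c10 LD2_c34 LD3_c34)) = v43752 :=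
  Lrfl
def v44539 : LQ := Led Lsl_gf (LP (LK LD1_c10 LD2_c45 LD3_c11))
theorem f945701 : Led Lsl_gf (LP (LK LD1_c10 LD2_c45 LD3_c11)) = v44539 :=
  Lrfl
theorem f256203 : Led Lsl_ct (LP (LK LD1_c6 LD2_c6 LD3_c30)) = (LP (LK LD1_c11 LD2_c56 LD3_c9)) :=
  Lre_c IH (LK LD1_c6 LD2_c6 LD3_c30) (LK LD1_c11 LD2_c56 LD3_c9) Lrfl Lrfl
theorem f923292 : Led Lsl_ff (LP (LK LD1_c10 LD2_c45 LD3_c1)) = (LP (LK LD1_c11 LD2_c56 LD3_c9)) :=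
  Lgr Lrot23 (Lpr_ct (K67.f187629 IH) (Lpqs (K71.f923259 IH) (Lpe (K71.f751390 IH) (Lpr_ct (f256203 IH) (Lpn (LP (LK LD1_c11 LD2_c56 LD3_c9)))))))
theorem f923296 : Led Lsl_ft (LP (LK LD1_c10 LD2_c45 LD3_c1)) = (LP (LK LD1_c11 LD2_c56 LD3_c9)) :=
  Lgr Lrot48 (Lpr_ff (f923292 IH) (Lpn (LP (LK LD1_c11 LD2_c56 LD3_c9))))
theorem f603469 : Led Lsl_ct (LP (LK LD1_c19 LD2_c26 LD3_c43)) = (LP (LK LD1_c18 LD2_c7 LD3_c51)) :=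
  Lgr Lrot59 (Lpr_cf (K71.f603467 IH) (Lpn (LP (LK LD1_c18 LD2_c7 LD3_c51))))
theorem f923300 : Led Lsl_af (LP (LK LD1_c10 LD2_c45 LD3_c3)) = (LP (LK LD1_c11 LD2_c56 LD3_c9)) :=
  Lgr Lrot109 (Lpe (K39.f187604 IH) (Lpe (K45.f586549 IH) (Lpe (K44.f186578 IH) (Lpe (K71.f412823 IH) (Lpr_cf (K45.f412927 IH) (Lpr_df (K71.f603481 IH) (Lpe (f603469 IH) (Lpe (K71.f586543 IH) (Lpr_ft (f923296 IH) (Lpn (LP (LK LD1_c11 LD2_c56 LD3_c9))))))))))))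
theorem f923302 : Led Lsl_at (LP (LK LD1_c10 LD2_c45 LD3_c3)) = (LP (LK LD1_c11 LD2_c56 LD3_c9)) :=
  Lgr Lrot100 (Lpr_af (f923300 IH) (Lpn (LP (LK LD1_c11 LD2_c56 LD3_c9))))
theorem f923344 : Led Lsl_gt (LP (LK LD1_c11 LD2_c56 LD3_c11)) = (LP (LK LD1_c21 LD2_c0 LD3_c60)) :=
  Lgr Lrot5 (Lpr_ft (K71.f923332 IH) (Lpr_at (f923302 IH) (Lpe (K73.f396409 IH) (Lpn (LP (LK LD1_c21 LD2_c0 LD3_c60))))))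
theorem f727175 : Led Lsl_at (LP (LK LD1_c5 LD2_c27 LD3_c5)) = (LP (LK LD1_c10 LD2_c45 LD3_c14)) :=
  Lre_a IH (LK LD1_c5 LD2_c27 LD3_c5) (LK LD1_c10 LD2_c45 LD3_c14) Lrfl Lrfl
theorem f930637 : Led Lsl_ft (LP (LK LD1_c10 LD2_c45 LD3_c18)) = (LP (LK LD1_c5 LD2_c27 LD3_c5)) :=
  Lre_f IH (LK LD1_c10 LD2_c45 LD3_c18) (LK LD1_c5 LD2_c27 LD3_c5) Lrfl Lrfl
theorem f931124 : Led Lsl_gt (LP (LK LD1_c10 LD2_c45 LD3_c18)) = (LP (LK LD1_c11 LD2_c56 LD3_c10)) :=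
  Lgr Lrot5 (Lpr_ft (f930637 IH) (Lpr_at (f727175 IH) (Lpqs (f931112 IH) (Lpr_gf (K73.f931122 IH) (Lpn (LP (LK LD1_c11 LD2_c56 LD3_c10)))))))
theorem f942120 : Led Lsl_cf K73.v43734 = K73.v43755 :=
  Lgr Lrot11 (Lpr_ct (K73.f942119 IH) (Lpn K73.v43755))
theorem f942130 : Led Lsl_gf (LP (LK LD1_c10 LD2_c45 LD3_c24)) = K73.v43734 :=
  Lgr Lrot129 (Lpe (K72.f727158 IH) (Lpr_bt (K72.f727222 IH) (Lpr_gt (f931124 IH) (Lpe (K71.f256202 IH) (Lpr_ct (K45.f256191 IH) (Lpr_gt (f923344 IH) (Lpr_cf (K73.f942127 IH) (Lpe (K73.f942124 IH) (Lpr_gt (K73.f942118 IH) (Lpe (f942120 IH) (Lpn K73.v43734)))))))))))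
theorem f727223 : Led Lsl_at (LP (LK LD1_c5 LD2_c27 LD3_c11)) = (LP (LK LD1_c10 LD2_c45 LD3_c24)) :=
  Lre_a IH (LK LD1_c5 LD2_c27 LD3_c11) (LK LD1_c10 LD2_c45 LD3_c24) Lrfl Lrfl
theorem f727224 : Led Lsl_ft (LP (LK LD1_c10 LD2_c45 LD3_c11)) = (LP (LK LD1_c5 LD2_c27 LD3_c11)) :=
  Lre_f IH (LK LD1_c10 LD2_c45 LD3_c11) (LK LD1_c5 LD2_c27 LD3_c11) Lrfl Lrfl
theorem f942131 : Led Lsl_gt (LP (LK LD1_c10 LD2_c45 LD3_c11)) = K73.v43734 :=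
  Lgr Lrot5 (Lpr_ft (f727224 IH) (Lpr_at (f727223 IH) (Lpr_gf (f942130 IH) (Lpn K73.v43734))))
theorem f198876 : Led Lsl_bt (LP (LK LD1_c5 LD2_c21 LD3_c54)) = (LP (LK LD1_c2 LD2_c37 LD3_c30)) :=
  Lre_b IH (LK LD1_c5 LD2_c21 LD3_c54) (LK LD1_c2 LD2_c37 LD3_c30) Lrfl Lrfl
theorem f198939 : Led Lsl_ct (LP (LK LD1_c8 LD2_c7 LD3_c44)) = (LP (LK LD1_c5 LD2_c21 LD3_c54)) :=
  Lgr Lrot83 (Lpe (K73.f28971 IH) (Lpe (K13.f28964 IH) (Lpr_bf (K11.f198935 IH) (Lpe (K12.f194820 IH) (Lpe (f198876 IH) (Lpn (LP (LK LD1_c5 LD2_c21 LD3_c54))))))))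
theorem f195518 : Led Lsl_bt (LP (LK LD1_c8 LD2_c7 LD3_c44)) = (LP (LK LD1_c4 LD2_c3 LD3_c34)) :=
  Lre_b IH (LK LD1_c8 LD2_c7 LD3_c44) (LK LD1_c4 LD2_c3 LD3_c34) Lrfl Lrfl
theorem f199104 : Led Lsl_ct (LP (LK LD1_c19 LD2_c8 LD3_c26)) = (LP (LK LD1_c10 LD2_c34 LD3_c3)) :=
  Lre_c IH (LK LD1_c19 LD2_c8 LD3_c26) (LK LD1_c10 LD2_c34 LD3_c3) Lrfl Lrfl
theorem f420975 : Led Lsl_bf (LP (LK LD1_c10 LD2_c44 LD3_c54)) = (LP (LK LD1_c19 LD2_c8 LD3_c26)) :=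
  Lgr Lrot34 (Lpe (f195515 IH) (Lpe (f195500 IH) (Lpr_ct (K13.f182594 IH) (Lpr_gf (K10.f190212 IH) (Lpe (K13.f27896 IH) (Lpe (K13.f192332 IH) (Lpe (f195518 IH) (Lpr_ct (f198939 IH) (Lpe (K73.f199103 IH) (Lpe (f199104 IH) (Lpn (LP (LK LD1_c19 LD2_c8 LD3_c26)))))))))))))
theorem f420986 : Led Lsl_bt (LP (LK LD1_c10 LD2_c44 LD3_c54)) = (LP (LK LD1_c19 LD2_c8 LD3_c26)) :=
  Lgr Lrot127 (Lpr_bf (f420975 IH) (Lpn (LP (LK LD1_c19 LD2_c8 LD3_c26))))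
theorem f945502 : Led Lsl_bt K73.v43755 = v44506 :=
  Lgr Lrot128 (Lpe (K73.f942119 IH) (Lpe (K73.f942034 IH) (Lpe (f199104 IH) (Lpe (f420986 IH) (Lpr_cf (f945499 IH) (Lpn v44506))))))
theorem f945494 : Led Lsl_ff (LP (LK LD1_c10 LD2_c44 LD3_c55)) = v44505 :=
  Lgr Lrot3 (Lpr_ft (f945492 IH) (Lpn v44505))
theorem f195445 : Led Lsl_cf (LP (LK LD1_c10 LD2_c44 LD3_c46)) = (LP (LK LD1_c10 LD2_c44 LD3_c55)) :=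
  Lgr Lrot11 (Lpr_ct (f195437 IH) (Lpn (LP (LK LD1_c10 LD2_c44 LD3_c55))))
theorem f945495 : Led Lsl_ct v44476 = v44505 :=
  Lgr Lrot40 (Lpe (f945383 IH) (Lpr_cf (f195445 IH) (Lpr_ff (f945494 IH) (Lpn v44505))))
theorem f945497 : Led Lsl_af v44476 = v44506 :=
  Lgr Lrot68 (Lpr_ct (f945495 IH) (Lpe (f945491 IH) (Lpr_ct (f945496 IH) (Lpn v44506))))
theorem f195443 : Led Lsl_bt (LP (LK LD1_c5 LD2_c26 LD3_c49)) = (LP (LK LD1_c10 LD2_c44 LD3_c46)) :=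
  Lre_b IH (LK LD1_c5 LD2_c26 LD3_c49) (LK LD1_c10 LD2_c44 LD3_c46) Lrfl Lrfl
def v14867 : LQ := Led Lsl_ft (LP (LK LD1_c5 LD2_c26 LD3_c49))
theorem f727007 : Led Lsl_ft (LP (LK LD1_c5 LD2_c26 LD3_c49)) = v14867 :=
  Lrfl
theorem f727009 : Led Lsl_ff (LP (LK LD1_c5 LD2_c26 LD3_c49)) = v14867 :=
  Lgr Lrot3 (Lpr_ft (f727007 IH) (Lpn v14867))
theorem f945384 : Led Lsl_bf v14867 = v44476 :=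
  Lgr Lrot61 (Lpe (f727009 IH) (Lpr_bt (f195443 IH) (Lpr_ft (f945383 IH) (Lpn v44476))))
theorem f727008 : Led Lsl_af (LP (LK LD1_c5 LD2_c26 LD3_c50)) = v14867 :=
  Lgr Lrot45 (Lpr_ft (f726998 IH) (Lpe (f726997 IH) (Lpr_ft (f727007 IH) (Lpn v14867))))
theorem f194838 : Led Lsl_bt (LP (LK LD1_c5 LD2_c26 LD3_c50)) = (LP (LK LD1_c10 LD2_c44 LD3_c47)) :=
  Lre_b IH (LK LD1_c5 LD2_c26 LD3_c50) (LK LD1_c10 LD2_c44 LD3_c47) Lrfl Lrfl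
def v44479 : LQ := Led Lsl_at (LP (LK LD1_c10 LD2_c44 LD3_c47))
theorem f945390 : Led Lsl_at (LP (LK LD1_c10 LD2_c44 LD3_c47)) = v44479 :=
  Lrfl
theorem f945535 : K73.v43755 = v44479 :=
  (Llr Lrot81 (Lpr_bt (f945502 IH) (Lpe (f945497 IH) (Lpe (f945384 IH) (Lpe (f727008 IH) (Lpr_bt (f194838 IH) (Lpr_at (f945390 IH) (Lpn v44479)))))))).symm
theorem f945391 : Led Lsl_af (LP (LK LD1_c10 LD2_c44 LD3_c47)) = v44479 :=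
  Lgr Lrot0 (Lpr_at (f945390 IH) (Lpn v44479))
theorem f945536 : Led Lsl_af K73.v43734 = (LP (LK LD1_c10 LD2_c45 LD3_c19)) :=
  Lgr Lrot68 (Lpr_ct (K73.f942119 IH) (Lpqs (f945535 IH) (Lpe (f945391 IH) (Lpr_ct (K71.f194837 IH) (Lpn (LP (LK LD1_c10 LD2_c45 LD3_c19)))))))
theorem f945703 : Led Lsl_ff (LP (LK LD1_c10 LD2_c45 LD3_c19)) = v44539 :=
  Lgr Lrot52 (Lpe (f945536 IH) (Lpe (f942131 IH) (Lpr_gf (f945701 IH) (Lpn v44539))))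
theorem f945706 : Led Lsl_ft (LP (LK LD1_c10 LD2_c45 LD3_c19)) = v44539 :=
  Lgr Lrot48 (Lpr_ff (f945703 IH) (Lpn v44539))
def v44480 : LQ := Led Lsl_ft (LP (LK LD1_c10 LD2_c44 LD3_c47))
theorem f945392 : Led Lsl_ft (LP (LK LD1_c10 LD2_c44 LD3_c47)) = v44480 :=
  Lrfl
theorem f945394 : Led Lsl_ff (LP (LK LD1_c10 LD2_c44 LD3_c47)) = v44480 :=
  Lgr Lrot3 (Lpr_ft (f945392 IH) (Lpn v44480))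
theorem f945708 : Led Lsl_cf v44480 = v44539 :=
  Lgr Lrot108 (Lpe (f945394 IH) (Lpr_ct (K71.f194837 IH) (Lpr_ft (f945706 IH) (Lpn v44539))))
def v43756 : LQ := Led Lsl_gf (LP (LK LD1_c10 LD2_c34 LD3_c35))
theorem f942121 : Led Lsl_gf (LP (LK LD1_c10 LD2_c34 LD3_c35)) = v43756 :=
  Lrfl
theorem f945543 : v44480 = v43756 :=
  (Llr Lrot52 (Lpe (f945394 IH) (Lpr_at (f945390 IH) (Lpq (f945535 IH) (Lpe (K73.f942118 IH) (Lpr_gf (f942121 IH) (Lpn v43756))))))).symm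
theorem f727189 : Led Lsl_ft (LP (LK LD1_c10 LD2_c45 LD3_c24)) = (LP (LK LD1_c5 LD2_c27 LD3_c6)) :=
  Lre_f IH (LK LD1_c10 LD2_c45 LD3_c24) (LK LD1_c5 LD2_c27 LD3_c6) Lrfl Lrfl
theorem f945702 : Led Lsl_gt (LP (LK LD1_c10 LD2_c45 LD3_c24)) = v44539 :=
  Lgr Lrot5 (Lpr_ft (f727189 IH) (Lpr_at (K72.f727188 IH) (Lpr_gf (f945701 IH) (Lpn v44539))))
theorem f930639 : Led Lsl_bt (LP (LK LD1_c19 LD2_c27 LD3_c10)) = (LP (LK LD1_c10 LD2_c45 LD3_c24)) :=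
  Lre_b IH (LK LD1_c19 LD2_c27 LD3_c10) (LK LD1_c10 LD2_c45 LD3_c24) Lrfl Lrfl
theorem f54447 : Led Lsl_gt (LP (LK LD1_c4 LD2_c15 LD3_c15)) = (LP (LK LD1_c8 LD2_c29 LD3_c25)) :=
  Lre_g IH (LK LD1_c4 LD2_c15 LD3_c15) (LK LD1_c8 LD2_c29 LD3_c25) Lrfl Lrfl
theorem f216016 : Led Lsl_gf (LP (LK LD1_c19 LD2_c9 LD3_c11)) = (LP (LK LD1_c25 LD2_c53 LD3_c2)) :=
  Lgr Lrot181 (Lpr_ct (K39.f216015 IH) (Lpr_gt (K39.f215413 IH) (Lpr_cf (K25.f215990 IH) (Lpr_bt (K25.f213975 IH) (Lpe (K13.f214077 IH) (Lpe (K22.f54468 IH) (Lpr_ct (K22.f45664 IH) (Lpr_gt (f54447 IH) (Lpe (K72.f45666 IH) (Lpr_bt (K72.f183581 IH) (Lpn (LP (LK LD1_c25 LD2_c53 LD3_c2)))))))))))))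
theorem f930991 : Led Lsl_gt (LP (LK LD1_c19 LD2_c9 LD3_c11)) = (LP (LK LD1_c15 LD2_c29 LD3_c13)) :=
  Lgr Lrot46 (Lpr_gf (f216016 IH) (Lpr_ft (K73.f930986 IH) (Lpr_at (K72.f930659 IH) (Lpn (LP (LK LD1_c15 LD2_c29 LD3_c13))))))
theorem f216022 : Led Lsl_ct (LP (LK LD1_c10 LD2_c34 LD3_c25)) = (LP (LK LD1_c19 LD2_c9 LD3_c11)) :=
  Lre_c IH (LK LD1_c10 LD2_c34 LD3_c25) (LK LD1_c19 LD2_c9 LD3_c11) Lrfl Lrfl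
theorem f216042 : Led Lsl_bt (LP (LK LD1_c10 LD2_c34 LD3_c25)) = (LP (LK LD1_c19 LD2_c9 LD3_c10)) :=
  Lre_b IH (LK LD1_c10 LD2_c34 LD3_c25) (LK LD1_c19 LD2_c9 LD3_c10) Lrfl Lrfl
theorem f945709 : v43752 = (LP (LK LD1_c19 LD2_c9 LD3_c10)) :=
  (Llr Lrot164 (Lpe (f942107 IH) (Lpe (K73.f726385 IH) (Lpr_ct (K73.f726386 IH) (Lpr_gf (f942121 IH) (Lpq (f945543 IH) (Lpr_cf (f945708 IH) (Lpe (f945702 IH) (Lpe (f930639 IH) (Lpe (K72.f930652 IH) (Lpe (f930991 IH) (Lpe (f216022 IH) (Lpr_bt (f216042 IH) (Lpn (LP (LK LD1_c19 LD2_c9 LD3_c10)))))))))))))))).symm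
theorem f945710 : Led Lsl_gt (LP (LK LD1_c10 LD2_c34 LD3_c34)) = (LP (LK LD1_c19 LD2_c9 LD3_c10)) :=
  Leop (Lpq (f945709 IH) (Lpe (f942107 IH) (Lpn (LP (LK LD1_c10 LD2_c34 LD3_c34)))))
theorem seed_2709 : LEOK LG_g (LK LD1_c10 LD2_c34 LD3_c34) :=
  Leoe_g (LK LD1_c10 LD2_c34 LD3_c34) (f945710 IH)
theorem f945705 : Led Lsl_ct v44480 = v44539 :=
  Lgr Lrot40 (Lpe (f945392 IH) (Lpe (f194845 IH) (Lpr_ff (f945703 IH) (Lpn v44539))))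
theorem f726999 : Led Lsl_ff (LP (LK LD1_c5 LD2_c26 LD3_c50)) = v14863 :=
  Lgr Lrot3 (Lpr_ft (f726998 IH) (Lpn v14863))
theorem f945393 : Led Lsl_bf v14863 = v44480 :=
  Lgr Lrot61 (Lpe (f726999 IH) (Lpr_bt (f194838 IH) (Lpr_ft (f945392 IH) (Lpn v44480))))
theorem f183473 : Led Lsl_bt (LP (LK LD1_c1 LD2_c25 LD3_c18)) = (LP (LK LD1_c2 LD2_c59 LD3_c9)) :=
  Lre_b IH (LK LD1_c1 LD2_c25 LD3_c18) (LK LD1_c2 LD2_c59 LD3_c9) Lrfl Lrfl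
theorem f183474 : Led Lsl_gt (LP (LK LD1_c6 LD2_c6 LD3_c5)) = (LP (LK LD1_c2 LD2_c59 LD3_c9)) :=
  Lre_g IH (LK LD1_c6 LD2_c6 LD3_c5) (LK LD1_c2 LD2_c59 LD3_c9) Lrfl Lrfl
theorem f945716 : v14863 = (LP (LK LD1_c6 LD2_c6 LD3_c5)) :=
  (Llr Lrot22 (Lpr_bf (f945393 IH) (Lpr_ct (f945705 IH) (Lpe (f945702 IH) (Lpe (K72.f727158 IH) (Lpr_gf (K72.f727153 IH) (Lpq (K72.f930615 IH) (Lpe (K9.f8957 IH) (Lpr_ct (K9.f8494 IH) (Lpe (K10.f183464 IH) (Lpe (K10.f181235 IH) (Lpr_bt (f183473 IH) (Lpe (f183474 IH) (Lpn (LP (LK LD1_c6 LD2_c6 LD3_c5)))))))))))))))).symm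
theorem f945718 : Led Lsl_at (LP (LK LD1_c5 LD2_c26 LD3_c49)) = (LP (LK LD1_c6 LD2_c6 LD3_c5)) :=
  Leop (Lpq (f945716 IH) (Lpe (f726996 IH) (Lpn (LP (LK LD1_c5 LD2_c26 LD3_c49)))))
theorem seed_2710 : LEOK LG_a (LK LD1_c5 LD2_c26 LD3_c49) :=
  Leoe_a (LK LD1_c5 LD2_c26 LD3_c49) (f945718 IH)
theorem f187764 : Led Lsl_ct (LP (LK LD1_c11 LD2_c55 LD3_c39)) = (LP (LK LD1_c6 LD2_c6 LD3_c5)) :=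
  Lre_c IH (LK LD1_c11 LD2_c55 LD3_c39) (LK LD1_c6 LD2_c6 LD3_c5) Lrfl Lrfl
def v14868 : LQ := Led Lsl_ct (LP (LK LD1_c5 LD2_c26 LD3_c50))
theorem f727011 : Led Lsl_ct (LP (LK LD1_c5 LD2_c26 LD3_c50)) = v14868 :=
  Lrfl
theorem f945870 : Led Lsl_ff (LP (LK LD1_c11 LD2_c55 LD3_c39)) = v14868 :=
  Lgr Lrot23 (Lpr_ct (f187764 IH) (Lpq (f945716 IH) (Lpe (f726999 IH) (Lpr_ct (f727011 IH) (Lpn v14868)))))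
theorem f181239 : Led Lsl_ct (LP (LK LD1_c6 LD2_c5 LD3_c60)) = (LP (LK LD1_c2 LD2_c59 LD3_c9)) :=
  Lre_c IH (LK LD1_c6 LD2_c5 LD3_c60) (LK LD1_c2 LD2_c59 LD3_c9) Lrfl Lrfl
theorem f194370 : Led Lsl_bt (LP (LK LD1_c4 LD2_c7 LD3_c42)) = (LP (LK LD1_c8 LD2_c15 LD3_c25)) :=
  Lre_b IH (LK LD1_c4 LD2_c7 LD3_c42) (LK LD1_c8 LD2_c15 LD3_c25) Lrfl Lrfl
theorem f194379 : Led Lsl_gt (LP (LK LD1_c8 LD2_c15 LD3_c25)) = (LP (LK LD1_c15 LD2_c31 LD3_c33)) :=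
  Lre_g IH (LK LD1_c8 LD2_c15 LD3_c25) (LK LD1_c15 LD2_c31 LD3_c33) Lrfl Lrfl
theorem f421155 : Led Lsl_bt (LP (LK LD1_c11 LD2_c55 LD3_c39)) = (LP (LK LD1_c15 LD2_c31 LD3_c33)) :=
  Lgr Lrot92 (Lpr_ct (f187764 IH) (Lpr_gt (f183474 IH) (Lpe (f181239 IH) (Lpr_bt (K71.f187659 IH) (Lpr_gt (K10.f187494 IH) (Lpr_ct (K15.f187634 IH) (Lpr_gt (K10.f32953 IH) (Lpr_cf (K13.f194373 IH) (Lpr_bt (f194370 IH) (Lpr_gt (f194379 IH) (Lpn (LP (LK LD1_c15 LD2_c31 LD3_c33)))))))))))))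
theorem f727013 : Led Lsl_cf (LP (LK LD1_c5 LD2_c26 LD3_c50)) = v14868 :=
  Lgr Lrot11 (Lpr_ct (f727011 IH) (Lpn v14868))
theorem f194836 : Led Lsl_bt (LP (LK LD1_c10 LD2_c45 LD3_c19)) = (LP (LK LD1_c19 LD2_c27 LD3_c2)) :=
  Lre_b IH (LK LD1_c10 LD2_c45 LD3_c19) (LK LD1_c19 LD2_c27 LD3_c2) Lrfl Lrfl
theorem f184134 : Led Lsl_gt (LP (LK LD1_c8 LD2_c16 LD3_c5)) = (LP (LK LD1_c15 LD2_c32 LD3_c38)) :=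
  Lre_g IH (LK LD1_c8 LD2_c16 LD3_c5) (LK LD1_c15 LD2_c32 LD3_c38) Lrfl Lrfl
theorem f194809 : Led Lsl_bt (LP (LK LD1_c5 LD2_c21 LD3_c60)) = (LP (LK LD1_c2 LD2_c37 LD3_c32)) :=
  Lre_b IH (LK LD1_c5 LD2_c21 LD3_c60) (LK LD1_c2 LD2_c37 LD3_c32) Lrfl Lrfl
theorem f194811 : Led Lsl_bt (LP (LK LD1_c2 LD2_c37 LD3_c34)) = (LP (LK LD1_c1 LD2_c15 LD3_c48)) :=
  Lre_b IH (LK LD1_c2 LD2_c37 LD3_c34) (LK LD1_c1 LD2_c15 LD3_c48) Lrfl Lrfl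
theorem f194812 : Led Lsl_ct (LP (LK LD1_c2 LD2_c37 LD3_c34)) = (LP (LK LD1_c1 LD2_c16 LD3_c43)) :=
  Lre_c IH (LK LD1_c2 LD2_c37 LD3_c34) (LK LD1_c1 LD2_c16 LD3_c43) Lrfl Lrfl
theorem f194813 : Led Lsl_gt (LP (LK LD1_c2 LD2_c39 LD3_c59)) = (LP (LK LD1_c1 LD2_c16 LD3_c43)) :=
  Lre_g IH (LK LD1_c2 LD2_c39 LD3_c59) (LK LD1_c1 LD2_c16 LD3_c43) Lrfl Lrfl
theorem f194815 : Led Lsl_gt (LP (LK LD1_c10 LD2_c45 LD3_c19)) = (LP (LK LD1_c5 LD2_c27 LD3_c11)) :=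
  Lre_g IH (LK LD1_c10 LD2_c45 LD3_c19) (LK LD1_c5 LD2_c27 LD3_c11) Lrfl Lrfl
theorem f194816 : Led Lsl_bt (LP (LK LD1_c19 LD2_c27 LD3_c2)) = (LP (LK LD1_c10 LD2_c45 LD3_c19)) :=
  Lre_b IH (LK LD1_c19 LD2_c27 LD3_c2) (LK LD1_c10 LD2_c45 LD3_c19) Lrfl Lrfl
theorem f194817 : Led Lsl_cf (LP (LK LD1_c15 LD2_c32 LD3_c38)) = (LP (LK LD1_c19 LD2_c27 LD3_c2)) :=
  Lgr Lrot58 (Lpe (f184134 IH) (Lpr_cf (K14.f194777 IH) (Lpr_bt (f194809 IH) (Lpe (K14.f194810 IH) (Lpe (f194811 IH) (Lpr_ct (f194812 IH) (Lpe (f194813 IH) (Lpe (K72.f194814 IH) (Lpe (f194815 IH) (Lpe (f194816 IH) (Lpn (LP (LK LD1_c19 LD2_c27 LD3_c2)))))))))))))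
theorem f727014 : Led Lsl_bt (LP (LK LD1_c15 LD2_c32 LD3_c38)) = v14868 :=
  Lgr Lrot128 (Lpr_cf (f194817 IH) (Lpe (f194836 IH) (Lpe (K71.f194837 IH) (Lpe (f194838 IH) (Lpr_cf (f727013 IH) (Lpn v14868))))))
theorem f945872 : Led Lsl_ft (LP (LK LD1_c15 LD2_c31 LD3_c33)) = (LP (LK LD1_c15 LD2_c32 LD3_c38)) :=
  Lgr Lrot75 (Lpe (f421155 IH) (Lpr_ff (f945870 IH) (Lpe (f727014 IH) (Lpn (LP (LK LD1_c15 LD2_c32 LD3_c38))))))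
theorem f945873 : Led Lsl_ft (LP (LK LD1_c15 LD2_c31 LD3_c33)) = (LP (LK LD1_c15 LD2_c32 LD3_c38)) :=
  Leop (Lpe (f945872 IH) (Lpn (LP (LK LD1_c15 LD2_c31 LD3_c33))))
theorem seed_2711 : LEOK LG_f (LK LD1_c15 LD2_c31 LD3_c33) :=
  Leoe_f (LK LD1_c15 LD2_c31 LD3_c33) (f945873 IH)
theorem f945874 : Led Lsl_ft (LP (LK LD1_c11 LD2_c55 LD3_c39)) = v14868 :=
  Lgr Lrot48 (Lpr_ff (f945870 IH) (Lpn v14868))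
theorem f421157 : Led Lsl_bf (LP (LK LD1_c11 LD2_c55 LD3_c39)) = (LP (LK LD1_c15 LD2_c31 LD3_c33)) :=
  Lgr Lrot24 (Lpr_bt (f421155 IH) (Lpn (LP (LK LD1_c15 LD2_c31 LD3_c33))))
theorem f194839 : Led Lsl_ct (LP (LK LD1_c15 LD2_c32 LD3_c38)) = (LP (LK LD1_c19 LD2_c27 LD3_c2)) :=
  Lgr Lrot59 (Lpr_cf (f194817 IH) (Lpn (LP (LK LD1_c19 LD2_c27 LD3_c2))))
theorem f727012 : Led Lsl_bf (LP (LK LD1_c15 LD2_c32 LD3_c38)) = v14868 :=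
  Lgr Lrot90 (Lpr_ct (f194839 IH) (Lpr_bt (f194816 IH) (Lpr_ct (f194845 IH) (Lpr_bt (K71.f194846 IH) (Lpr_ct (f727011 IH) (Lpn v14868))))))
theorem f945876 : Led Lsl_ff (LP (LK LD1_c15 LD2_c31 LD3_c33)) = (LP (LK LD1_c15 LD2_c32 LD3_c38)) :=
  Lgr Lrot25 (Lpe (f421157 IH) (Lpr_ft (f945874 IH) (Lpe (f727012 IH) (Lpn (LP (LK LD1_c15 LD2_c32 LD3_c38))))))
theorem f51364 : Led Lsl_bt (LP (LK LD1_c8 LD2_c15 LD3_c25)) = (LP (LK LD1_c4 LD2_c7 LD3_c42)) :=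
  Lre_b IH (LK LD1_c8 LD2_c15 LD3_c25) (LK LD1_c4 LD2_c7 LD3_c42) Lrfl Lrfl
theorem f353015 : Led Lsl_ft (LP (LK LD1_c8 LD2_c16 LD3_c5)) = (LP (LK LD1_c8 LD2_c15 LD3_c25)) :=
  Lgr Lrot75 (Lpe (K39.f184128 IH) (Lpr_ff (K25.f353011 IH) (Lpe (f51364 IH) (Lpn (LP (LK LD1_c8 LD2_c15 LD3_c25))))))
theorem f353082 : Led Lsl_gt (LP (LK LD1_c15 LD2_c32 LD3_c38)) = (LP (LK LD1_c15 LD2_c31 LD3_c35)) :=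
  Lgr Lrot46 (Lpe (f184134 IH) (Lpr_ft (f353015 IH) (Lpr_at (K25.f353057 IH) (Lpn (LP (LK LD1_c15 LD2_c31 LD3_c35))))))
theorem f945878 : Led Lsl_at (LP (LK LD1_c15 LD2_c31 LD3_c33)) = (LP (LK LD1_c15 LD2_c32 LD3_c39)) :=
  Lgr Lrot26 (Lpr_ff (f945876 IH) (Lpr_gt (f353082 IH) (Lpe (K72.f353062 IH) (Lpn (LP (LK LD1_c15 LD2_c32 LD3_c39))))))
theorem f945880 : Led Lsl_af (LP (LK LD1_c15 LD2_c31 LD3_c33)) = (LP (LK LD1_c15 LD2_c32 LD3_c39)) :=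
  Lgr Lrot0 (Lpr_at (f945878 IH) (Lpn (LP (LK LD1_c15 LD2_c32 LD3_c39))))
theorem f353051 : Led Lsl_gt (LP (LK LD1_c15 LD2_c31 LD3_c34)) = (LP (LK LD1_c8 LD2_c15 LD3_c25)) :=
  Lre_g IH (LK LD1_c15 LD2_c31 LD3_c34) (LK LD1_c8 LD2_c15 LD3_c25) Lrfl Lrfl
theorem f945886 : Led Lsl_ft (LP (LK LD1_c15 LD2_c31 LD3_c34)) = (LP (LK LD1_c15 LD2_c32 LD3_c39)) :=
  Lgr Lrot2 (Lpr_gt (f353051 IH) (Lpr_gt (f194379 IH) (Lpr_af (f945880 IH) (Lpn (LP (LK LD1_c15 LD2_c32 LD3_c39))))))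
theorem f945894 : Led Lsl_ff (LP (LK LD1_c15 LD2_c31 LD3_c34)) = (LP (LK LD1_c15 LD2_c32 LD3_c39)) :=
  Lgr Lrot3 (Lpr_ft (f945886 IH) (Lpn (LP (LK LD1_c15 LD2_c32 LD3_c39))))
theorem f945896 : Led Lsl_at (LP (LK LD1_c15 LD2_c31 LD3_c34)) = (LP (LK LD1_c15 LD2_c32 LD3_c38)) :=
  Lgr Lrot66 (Lpr_ff (f945894 IH) (Lpe (f945878 IH) (Lpr_ff (f945876 IH) (Lpn (LP (LK LD1_c15 LD2_c32 LD3_c38))))))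
theorem f353055 : Led Lsl_bt (LP (LK LD1_c25 LD2_c24 LD3_c41)) = (LP (LK LD1_c15 LD2_c31 LD3_c34)) :=
  Lre_b IH (LK LD1_c25 LD2_c24 LD3_c41) (LK LD1_c15 LD2_c31 LD3_c34) Lrfl Lrfl
theorem f945744 : Led Lsl_ct (LP (LK LD1_c21 LD2_c0 LD3_c33)) = (LP (LK LD1_c11 LD2_c55 LD3_c38)) :=
  Lre_c IH (LK LD1_c21 LD2_c0 LD3_c33) (LK LD1_c11 LD2_c55 LD3_c38) Lrfl Lrfl
def v44483 : LQ := Led Lsl_at (LP (LK LD1_c10 LD2_c44 LD3_c48))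
theorem f945401 : Led Lsl_at (LP (LK LD1_c10 LD2_c44 LD3_c48)) = v44483 :=
  Lrfl
theorem f727000 : Led Lsl_et (LP (LK LD1_c5 LD2_c26 LD3_c50)) = (LP (LK LD1_c10 LD2_c44 LD3_c48)) :=
  Lre_e IH (LK LD1_c5 LD2_c26 LD3_c50) (LK LD1_c10 LD2_c44 LD3_c48) Lrfl Lrfl
theorem f945403 : Led Lsl_ef v14867 = v44483 :=
  Lgr Lrot20 (Lpe (f727008 IH) (Lpr_et (f727000 IH) (Lpr_at (f945401 IH) (Lpn v44483))))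
theorem f945404 : Led Lsl_et v14867 = v44483 :=
  Lgr Lrot87 (Lpr_ef (f945403 IH) (Lpn v44483))
theorem f751226 : Led Lsl_et (LP (LK LD1_c6 LD2_c6 LD3_c4)) = (LP (LK LD1_c11 LD2_c55 LD3_c38)) :=
  Lre_e IH (LK LD1_c6 LD2_c6 LD3_c4) (LK LD1_c11 LD2_c55 LD3_c38) Lrfl Lrfl
def v16712 : LQ := Led Lsl_ft (LP (LK LD1_c6 LD2_c6 LD3_c4))
theorem f751233 : Led Lsl_ft (LP (LK LD1_c6 LD2_c6 LD3_c4)) = v16712 :=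
  Lrfl
theorem f751235 : Led Lsl_ff (LP (LK LD1_c6 LD2_c6 LD3_c4)) = v16712 :=
  Lgr Lrot3 (Lpr_ft (f751233 IH) (Lpn v16712))
def v16710 : LQ := Led Lsl_at (LP (LK LD1_c6 LD2_c6 LD3_c4))
theorem f751224 : Led Lsl_at (LP (LK LD1_c6 LD2_c6 LD3_c4)) = v16710 :=
  Lrfl
theorem f751225 : Led Lsl_af (LP (LK LD1_c6 LD2_c6 LD3_c4)) = v16710 :=
  Lgr Lrot0 (Lpr_at (f751224 IH) (Lpn v16710))
theorem f751227 : Led Lsl_ft (LP (LK LD1_c6 LD2_c6 LD3_c5)) = v16710 :=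
  Lgr Lrot2 (Lpr_gt (f183474 IH) (Lpr_gt (K56.f187660 IH) (Lpr_af (f751225 IH) (Lpn v16710))))
theorem f751228 : Led Lsl_ff (LP (LK LD1_c6 LD2_c6 LD3_c5)) = v16710 :=
  Lgr Lrot3 (Lpr_ft (f751227 IH) (Lpn v16710))
theorem f751236 : Led Lsl_at (LP (LK LD1_c6 LD2_c6 LD3_c5)) = v16712 :=
  Lgr Lrot66 (Lpr_ff (f751228 IH) (Lpe (f751224 IH) (Lpr_ff (f751235 IH) (Lpn v16712))))
theorem f945717 : (LP (LK LD1_c5 LD2_c26 LD3_c49)) = v16712 :=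
  Lefun (Lecon (Lfl_af (f726997 IH)) (f945716 IH)) (f751236 IH)
theorem f945725 : (LP (LK LD1_c6 LD2_c6 LD3_c4)) = v14867 :=
  Lefun (Lecon (Lfl_ff (f751235 IH)) (f945717 IH).symm) (f727007 IH)
theorem f945738 : v44483 = (LP (LK LD1_c11 LD2_c55 LD3_c38)) :=
  Lefun (Lecon (f945404 IH) (f945725 IH).symm) (f751226 IH)
theorem f945402 : Led Lsl_af (LP (LK LD1_c10 LD2_c44 LD3_c48)) = v44483 :=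
  Lgr Lrot0 (Lpr_at (f945401 IH) (Lpn v44483))
def v44484 : LQ := Led Lsl_ct (LP (LK LD1_c10 LD2_c44 LD3_c48))
theorem f945406 : Led Lsl_ct (LP (LK LD1_c10 LD2_c44 LD3_c48)) = v44484 :=
  Lrfl
theorem f945848 : Led Lsl_af (LP (LK LD1_c21 LD2_c0 LD3_c33)) = v44484 :=
  Lgr Lrot68 (Lpr_ct (f945744 IH) (Lpq (f945738 IH) (Lpe (f945402 IH) (Lpr_ct (f945406 IH) (Lpn v44484)))))
theorem f826555 : Led Lsl_et (LP (LK LD1_c21 LD2_c0 LD3_c33)) = (LP (LK LD1_c11 LD2_c55 LD3_c37)) :=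
  Lre_e IH (LK LD1_c21 LD2_c0 LD3_c33) (LK LD1_c11 LD2_c55 LD3_c37) Lrfl Lrfl
theorem f945408 : Led Lsl_ef v14868 = v44484 :=
  Lgr Lrot28 (Lpe (f727013 IH) (Lpr_et (f727000 IH) (Lpr_ct (f945406 IH) (Lpn v44484))))
theorem f945409 : Led Lsl_et v14868 = v44484 :=
  Lgr Lrot87 (Lpr_ef (f945408 IH) (Lpn v44484))
theorem f945850 : Led Lsl_at (LP (LK LD1_c11 LD2_c55 LD3_c37)) = v14868 :=
  Lgr Lrot80 (Lpe (f826555 IH) (Lpr_af (f945848 IH) (Lpe (f945409 IH) (Lpn v14868))))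
theorem f945851 : Led Lsl_af (LP (LK LD1_c11 LD2_c55 LD3_c37)) = v14868 :=
  Lgr Lrot0 (Lpr_at (f945850 IH) (Lpn v14868))
theorem f187662 : Led Lsl_bt (LP (LK LD1_c11 LD2_c55 LD3_c37)) = (LP (LK LD1_c21 LD2_c0 LD3_c31)) :=
  Lre_b IH (LK LD1_c11 LD2_c55 LD3_c37) (LK LD1_c21 LD2_c0 LD3_c31) Lrfl Lrfl
theorem f945903 : Led Lsl_af (LP (LK LD1_c25 LD2_c24 LD3_c41)) = (LP (LK LD1_c21 LD2_c0 LD3_c31)) :=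
  Lgr Lrot36 (Lpr_bt (f353055 IH) (Lpr_at (f945896 IH) (Lpr_bt (f727014 IH) (Lpe (f945851 IH) (Lpr_bt (f187662 IH) (Lpn (LP (LK LD1_c21 LD2_c0 LD3_c31))))))))
theorem f945904 : Led Lsl_at (LP (LK LD1_c21 LD2_c0 LD3_c31)) = (LP (LK LD1_c25 LD2_c24 LD3_c41)) :=
  Leop (Lpr_af (f945903 IH) (Lpn (LP (LK LD1_c21 LD2_c0 LD3_c31))))
theorem seed_2712 : LEOK LG_a (LK LD1_c21 LD2_c0 LD3_c31) :=
  Leoe_a (LK LD1_c21 LD2_c0 LD3_c31) (f945904 IH)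
def v44575 : LQ := Led Lsl_dt (LP (LK LD1_c10 LD2_c45 LD3_c35))
theorem f946089 : Led Lsl_dt (LP (LK LD1_c10 LD2_c45 LD3_c35)) = v44575 :=
  Lrfl
theorem f946092 : Led Lsl_df (LP (LK LD1_c10 LD2_c45 LD3_c35)) = v44575 :=
  Lgr Lrot38 (Lpr_dt (f946089 IH) (Lpn v44575))
theorem f946094 : Led Lsl_bt K70.v35990 = v44575 :=
  Lgr Lrot95 (Lpe (K70.f881553 IH) (Lpe (K72.f925189 IH) (Lpr_df (f946092 IH) (Lpn v44575))))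
theorem f172090 : Led Lsl_bt (LP (LK LD1_c15 LD2_c30 LD3_c45)) = (LP (LK LD1_c8 LD2_c14 LD3_c56)) :=
  Lre_b IH (LK LD1_c15 LD2_c30 LD3_c45) (LK LD1_c8 LD2_c14 LD3_c56) Lrfl Lrfl
theorem f946095 : Led Lsl_ef (LP (LK LD1_c15 LD2_c30 LD3_c45)) = v44575 :=
  Lgr Lrot29 (Lpr_bt (f172090 IH) (Lpr_et (K70.f881548 IH) (Lpr_bt (f946094 IH) (Lpn v44575))))
theorem f412186 : Led Lsl_dt (LP (LK LD1_c5 LD2_c27 LD3_c17)) = (LP (LK LD1_c10 LD2_c45 LD3_c41)) :=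
  Lre_d IH (LK LD1_c5 LD2_c27 LD3_c17) (LK LD1_c10 LD2_c45 LD3_c41) Lrfl Lrfl
theorem f946093 : Led Lsl_at (LP (LK LD1_c10 LD2_c45 LD3_c41)) = v44575 :=
  Lgr Lrot51 (Lpe (f412186 IH) (Lpe (K73.f412178 IH) (Lpr_df (f946092 IH) (Lpn v44575))))
theorem f936305 : Led Lsl_ef (LP (LK LD1_c10 LD2_c45 LD3_c41)) = (LP (LK LD1_c15 LD2_c26 LD3_c51)) :=
  Lgr Lrot88 (Lpr_et (K73.f936303 IH) (Lpn (LP (LK LD1_c15 LD2_c26 LD3_c51))))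
theorem f946096 : Led Lsl_at (LP (LK LD1_c15 LD2_c30 LD3_c45)) = (LP (LK LD1_c15 LD2_c26 LD3_c51)) :=
  Lgr Lrot80 (Lpr_ef (f946095 IH) (Lpe (f946093 IH) (Lpr_ef (f936305 IH) (Lpn (LP (LK LD1_c15 LD2_c26 LD3_c51))))))
theorem f946097 : Led Lsl_at (LP (LK LD1_c15 LD2_c30 LD3_c45)) = (LP (LK LD1_c15 LD2_c26 LD3_c51)) :=
  Leop (Lpe (f946096 IH) (Lpn (LP (LK LD1_c15 LD2_c30 LD3_c45))))
theorem seed_2713 : LEOK LG_a (LK LD1_c15 LD2_c30 LD3_c45) :=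
  Leoe_a (LK LD1_c15 LD2_c30 LD3_c45) (f946097 IH)
def v44595 : LQ := Led Lsl_gf (LP (LK LD1_c10 LD2_c45 LD3_c50))
theorem f946169 : Led Lsl_gf (LP (LK LD1_c10 LD2_c45 LD3_c50)) = v44595 :=
  Lrfl
theorem f187574 : Led Lsl_ct (LP (LK LD1_c5 LD2_c27 LD3_c20)) = (LP (LK LD1_c10 LD2_c45 LD3_c50)) :=
  Lre_c IH (LK LD1_c5 LD2_c27 LD3_c20) (LK LD1_c10 LD2_c45 LD3_c50) Lrfl Lrfl
theorem f195597 : Led Lsl_bt (LP (LK LD1_c19 LD2_c25 LD3_c4)) = (LP (LK LD1_c10 LD2_c43 LD3_c50)) :=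
  Lre_b IH (LK LD1_c19 LD2_c25 LD3_c4) (LK LD1_c10 LD2_c43 LD3_c50) Lrfl Lrfl
theorem f946171 : Led Lsl_ct (LP (LK LD1_c19 LD2_c25 LD3_c4)) = v44595 :=
  Lgr Lrot64 (Lpr_bt (f195597 IH) (Lpe (f183192 IH) (Lpe (f183186 IH) (Lpe (K17.f183187 IH) (Lpe (K9.f182474 IH) (Lpe (K10.f8394 IH) (Lpr_gf (K10.f195583 IH) (Lpe (K73.f187552 IH) (Lpr_ct (f187574 IH) (Lpr_gf (f946169 IH) (Lpn v44595)))))))))))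
def v16790 : LQ := Led Lsl_gt (LP (LK LD1_c6 LD2_c6 LD3_c51))
theorem f751576 : Led Lsl_gt (LP (LK LD1_c6 LD2_c6 LD3_c51)) = v16790 :=
  Lrfl
theorem f334947 : Led Lsl_ft (LP (LK LD1_c2 LD2_c59 LD3_c33)) = (LP (LK LD1_c2 LD2_c40 LD3_c1)) :=
  Lgr Lrot54 (Lpr_df (K10.f177501 IH) (Lpr_ff (K22.f334941 IH) (Lpe (K12.f187522 IH) (Lpn (LP (LK LD1_c2 LD2_c40 LD3_c1))))))
theorem f9097 : Led Lsl_bt (LP (LK LD1_c6 LD2_c6 LD3_c51)) = (LP (LK LD1_c2 LD2_c59 LD3_c33)) :=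
  Lre_b IH (LK LD1_c6 LD2_c6 LD3_c51) (LK LD1_c2 LD2_c59 LD3_c33) Lrfl Lrfl
theorem f187559 : Led Lsl_bt (LP (LK LD1_c2 LD2_c40 LD3_c1)) = (LP (LK LD1_c5 LD2_c27 LD3_c20)) :=
  Lre_b IH (LK LD1_c2 LD2_c40 LD3_c1) (LK LD1_c5 LD2_c27 LD3_c20) Lrfl Lrfl
theorem f396249 : Led Lsl_ff (LP (LK LD1_c6 LD2_c6 LD3_c51)) = (LP (LK LD1_c5 LD2_c27 LD3_c20)) :=
  Lgr Lrot25 (Lpr_bt (f9097 IH) (Lpr_ft (f334947 IH) (Lpr_bt (f187559 IH) (Lpn (LP (LK LD1_c5 LD2_c27 LD3_c20))))))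
theorem f396251 : Led Lsl_ft (LP (LK LD1_c6 LD2_c6 LD3_c51)) = (LP (LK LD1_c5 LD2_c27 LD3_c20)) :=
  Lgr Lrot48 (Lpr_ff (f396249 IH) (Lpn (LP (LK LD1_c5 LD2_c27 LD3_c20))))
theorem f751577 : Led Lsl_gf (LP (LK LD1_c10 LD2_c45 LD3_c49)) = v16790 :=
  Lgr Lrot76 (Lpe (K73.f187573 IH) (Lpe (f396251 IH) (Lpr_gt (f751576 IH) (Lpn v16790))))
theorem f177546 : Led Lsl_ct (LP (LK LD1_c6 LD2_c6 LD3_c38)) = (LP (LK LD1_c11 LD2_c56 LD3_c19)) :=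
  Lre_c IH (LK LD1_c6 LD2_c6 LD3_c38) (LK LD1_c11 LD2_c56 LD3_c19) Lrfl Lrfl
theorem f396451 : Led Lsl_dt (LP (LK LD1_c11 LD2_c56 LD3_c20)) = (LP (LK LD1_c6 LD2_c6 LD3_c38)) :=
  Lre_d IH (LK LD1_c11 LD2_c56 LD3_c20) (LK LD1_c6 LD2_c6 LD3_c38) Lrfl Lrfl
theorem f590611 : Led Lsl_dt (LP (LK LD1_c16 LD2_c10 LD3_c4)) = (LP (LK LD1_c26 LD2_c6 LD3_c50)) :=
  Lre_d IH (LK LD1_c16 LD2_c10 LD3_c4) (LK LD1_c26 LD2_c6 LD3_c50) Lrfl Lrfl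
theorem f587524 : Led Lsl_bf (LP (LK LD1_c26 LD2_c22 LD3_c1)) = (LP (LK LD1_c30 LD2_c58 LD3_c10)) :=
  Lgr Lrot24 (Lpr_bt (K73.f587522 IH) (Lpn (LP (LK LD1_c30 LD2_c58 LD3_c10))))
theorem f556855 : Led Lsl_bf (LP (LK LD1_c10 LD2_c1 LD3_c24)) = (LP (LK LD1_c8 LD2_c10 LD3_c32)) :=
  Lgr Lrot96 (Lpr_et (K41.f556853 IH) (Lpr_bt (K41.f387053 IH) (Lpr_et (K39.f556790 IH) (Lpn (LP (LK LD1_c8 LD2_c10 LD3_c32))))))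
theorem f569591 : Led Lsl_bt (LP (LK LD1_c7 LD2_c17 LD3_c32)) = (LP (LK LD1_c11 LD2_c34 LD3_c34)) :=
  Lgr Lrot95 (Lpr_df (K42.f569587 IH) (Lpr_bf (f556855 IH) (Lpe (K41.f556889 IH) (Lpn (LP (LK LD1_c11 LD2_c34 LD3_c34))))))
theorem f566884 : Led Lsl_gf (LP (LK LD1_c5 LD2_c54 LD3_c23)) = (LP (LK LD1_c11 LD2_c34 LD3_c34)) :=
  Lgr Lrot47 (Lpr_gt (K41.f566882 IH) (Lpr_af (K41.f556908 IH) (Lpe (K39.f556894 IH) (Lpn (LP (LK LD1_c11 LD2_c34 LD3_c34))))))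
theorem f177403 : Led Lsl_bt (LP (LK LD1_c2 LD2_c59 LD3_c33)) = (LP (LK LD1_c6 LD2_c6 LD3_c51)) :=
  Lre_b IH (LK LD1_c2 LD2_c59 LD3_c33) (LK LD1_c6 LD2_c6 LD3_c51) Lrfl Lrfl
theorem f887148 : (LP (LK LD1_c11 LD2_c56 LD3_c20)) = v16790 :=
  (Llr Lrot183 (Lpr_dt (f396451 IH) (Lpr_ct (f177546 IH) (Lpr_bt (K68.f396453 IH) (Lpr_gt (K68.f887142 IH) (Lpr_dt (f590611 IH) (Lpe (K73.f590607 IH) (Lpe (f587524 IH) (Lpr_gt (K45.f587980 IH) (Lpr_dt (K45.f569598 IH) (Lpr_ct (K45.f569599 IH) (Lpr_bt (f569591 IH) (Lpe (f566884 IH) (Lpr_dt (K41.f557820 IH) (Lpe (K43.f557805 IH) (Lpr_bt (K36.f194062 IH) (Lpr_gt (K10.f196096 IH) (Lpr_dt (K10.f177159 IH) (Lpe (K10.f177393 IH) (Lpr_bt (f177403 IH) (Lpr_gt (f751576 IH) (Lpn v16790)))))))))))))))))))))).symm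
theorem f177472 : Led Lsl_dt (LP (LK LD1_c6 LD2_c6 LD3_c38)) = (LP (LK LD1_c11 LD2_c56 LD3_c20)) :=
  Lre_d IH (LK LD1_c6 LD2_c6 LD3_c38) (LK LD1_c11 LD2_c56 LD3_c20) Lrfl Lrfl
theorem f294479 : Led Lsl_ct (LP (LK LD1_c11 LD2_c56 LD3_c22)) = (LP (LK LD1_c11 LD2_c55 LD3_c36)) :=
  Lre_c IH (LK LD1_c11 LD2_c56 LD3_c22) (LK LD1_c11 LD2_c55 LD3_c36) Lrfl Lrfl
theorem f548539 : Led Lsl_cf (LP (LK LD1_c10 LD2_c5 LD3_c57)) = (LP (LK LD1_c6 LD2_c6 LD3_c51)) :=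
  Lgr Lrot108 (Lpr_ft (K73.f548537 IH) (Lpr_ct (K73.f187566 IH) (Lpe (f396249 IH) (Lpn (LP (LK LD1_c6 LD2_c6 LD3_c51))))))
theorem f183375 : Led Lsl_bt (LP (LK LD1_c2 LD2_c58 LD3_c55)) = (LP (LK LD1_c6 LD2_c5 LD3_c40)) :=
  Lre_b IH (LK LD1_c2 LD2_c58 LD3_c55) (LK LD1_c6 LD2_c5 LD3_c40) Lrfl Lrfl
theorem f183385 : Led Lsl_gt (LP (LK LD1_c6 LD2_c5 LD3_c40)) = (LP (LK LD1_c11 LD2_c54 LD3_c52)) :=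
  Lre_g IH (LK LD1_c6 LD2_c5 LD3_c40) (LK LD1_c11 LD2_c54 LD3_c52) Lrfl Lrfl
theorem f183480 : Led Lsl_bt (LP (LK LD1_c20 LD2_c59 LD3_c30)) = (LP (LK LD1_c11 LD2_c54 LD3_c52)) :=
  Lre_b IH (LK LD1_c20 LD2_c59 LD3_c30) (LK LD1_c11 LD2_c54 LD3_c52) Lrfl Lrfl
theorem f548552 : Led Lsl_cf (LP (LK LD1_c18 LD2_c24 LD3_c46)) = (LP (LK LD1_c20 LD2_c59 LD3_c30)) :=
  Lgr Lrot160 (Lpr_gt (K73.f548549 IH) (Lpr_cf (f548539 IH) (Lpr_bt (f9097 IH) (Lpr_gt (K10.f9061 IH) (Lpr_ct (K10.f9024 IH) (Lpr_gt (K9.f59951 IH) (Lpe (K39.f183376 IH) (Lpr_bt (f183375 IH) (Lpr_gt (f183385 IH) (Lpe (f183480 IH) (Lpn (LP (LK LD1_c20 LD2_c59 LD3_c30)))))))))))))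
theorem f548555 : Led Lsl_ct (LP (LK LD1_c18 LD2_c24 LD3_c46)) = (LP (LK LD1_c20 LD2_c59 LD3_c30)) :=
  Lgr Lrot59 (Lpr_cf (f548552 IH) (Lpn (LP (LK LD1_c20 LD2_c59 LD3_c30))))
theorem f932248 : Led Lsl_df (LP (LK LD1_c11 LD2_c55 LD3_c36)) = (LP (LK LD1_c20 LD2_c59 LD3_c30)) :=
  Lgr Lrot162 (Lpe (f294479 IH) (Lpe (K56.f751221 IH) (Lpe (K56.f396434 IH) (Lpr_gf (K56.f396448 IH) (Lpr_dt (f177472 IH) (Lpqs (f887148 IH) (Lpe (f751577 IH) (Lpe (K73.f585113 IH) (Lpr_gt (K73.f932244 IH) (Lpr_ct (f548555 IH) (Lpn (LP (LK LD1_c20 LD2_c59 LD3_c30)))))))))))))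
def v16711 : LQ := Led Lsl_dt (LP (LK LD1_c6 LD2_c6 LD3_c4))
theorem f751229 : Led Lsl_dt (LP (LK LD1_c6 LD2_c6 LD3_c4)) = v16711 :=
  Lrfl
theorem f548554 : Led Lsl_bt (LP (LK LD1_c11 LD2_c54 LD3_c52)) = (LP (LK LD1_c20 LD2_c59 LD3_c30)) :=
  Lre_b IH (LK LD1_c11 LD2_c54 LD3_c52) (LK LD1_c20 LD2_c59 LD3_c30) Lrfl Lrfl
theorem f932251 : v16711 = (LP (LK LD1_c11 LD2_c54 LD3_c52)) :=
  (Llr Lrot79 (Lpe (f751229 IH) (Lpe (K56.f294478 IH) (Lpr_df (f932248 IH) (Lpe (f548554 IH) (Lpn (LP (LK LD1_c11 LD2_c54 LD3_c52)))))))).symm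
def v44386 : LQ := Led Lsl_ft (LP (LK LD1_c10 LD2_c43 LD3_c50))
theorem f944991 : Led Lsl_ft (LP (LK LD1_c10 LD2_c43 LD3_c50)) = v44386 :=
  Lrfl
theorem f944993 : Led Lsl_ff (LP (LK LD1_c10 LD2_c43 LD3_c50)) = v44386 :=
  Lgr Lrot3 (Lpr_ft (f944991 IH) (Lpn v44386))
theorem f945011 : Led Lsl_df v44386 = v14867 :=
  Lgr Lrot78 (Lpe (f944993 IH) (Lpr_dt (f944989 IH) (Lpqs (f945007 IH) (Lpr_ft (f727007 IH) (Lpn v14867)))))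
theorem f945733 : v44386 = v16711 :=
  Lefun (Lecon (Lfl_df (f945011 IH)) (f945725 IH).symm) (f751229 IH)
theorem f945852 : Led Lsl_ff (LP (LK LD1_c19 LD2_c25 LD3_c4)) = (LP (LK LD1_c20 LD2_c59 LD3_c30)) :=
  Lgr Lrot25 (Lpr_bt (f195597 IH) (Lpr_ft (f944991 IH) (Lpqs (f945733 IH) (Lpqs (f932251 IH) (Lpr_bt (f548554 IH) (Lpn (LP (LK LD1_c20 LD2_c59 LD3_c30))))))))
theorem f946173 : Led Lsl_ff (LP (LK LD1_c18 LD2_c24 LD3_c46)) = v44595 :=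
  Lgr Lrot23 (Lpr_ct (f548555 IH) (Lpe (f945852 IH) (Lpr_ct (f946171 IH) (Lpn v44595))))
theorem f195749 : Led Lsl_gt (LP (LK LD1_c10 LD2_c45 LD3_c50)) = (LP (LK LD1_c19 LD2_c27 LD3_c54)) :=
  Lre_g IH (LK LD1_c10 LD2_c45 LD3_c50) (LK LD1_c19 LD2_c27 LD3_c54) Lrfl Lrfl
theorem f946175 : Led Lsl_at (LP (LK LD1_c18 LD2_c24 LD3_c46)) = (LP (LK LD1_c19 LD2_c27 LD3_c54)) :=
  Lgr Lrot26 (Lpr_ff (f946173 IH) (Lpe (f946169 IH) (Lpr_gt (f195749 IH) (Lpn (LP (LK LD1_c19 LD2_c27 LD3_c54))))))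
theorem f946176 : Led Lsl_at (LP (LK LD1_c18 LD2_c24 LD3_c46)) = (LP (LK LD1_c19 LD2_c27 LD3_c54)) :=
  Leop (Lpe (f946175 IH) (Lpn (LP (LK LD1_c18 LD2_c24 LD3_c46))))
theorem seed_2714 : LEOK LG_a (LK LD1_c18 LD2_c24 LD3_c46) :=
  Leoe_a (LK LD1_c18 LD2_c24 LD3_c46) (f946176 IH)
theorem f946177 : Led Lsl_af (LP (LK LD1_c18 LD2_c24 LD3_c46)) = (LP (LK LD1_c19 LD2_c27 LD3_c54)) :=
  Lgr Lrot0 (Lpr_at (f946175 IH) (Lpn (LP (LK LD1_c19 LD2_c27 LD3_c54))))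
theorem f495373 : Led Lsl_gt (LP (LK LD1_c10 LD2_c5 LD3_c57)) = (LP (LK LD1_c18 LD2_c24 LD3_c45)) :=
  Lre_g IH (LK LD1_c10 LD2_c5 LD3_c57) (LK LD1_c18 LD2_c24 LD3_c45) Lrfl Lrfl
theorem f548523 : Led Lsl_af (LP (LK LD1_c18 LD2_c37 LD3_c41)) = (LP (LK LD1_c10 LD2_c45 LD3_c50)) :=
  Lgr Lrot36 (Lpr_bt (K73.f163845 IH) (Lpr_at (K10.f164504 IH) (Lpe (K48.f164484 IH) (Lpr_at (K38.f548516 IH) (Lpr_bt (K73.f195576 IH) (Lpn (LP (LK LD1_c10 LD2_c45 LD3_c50))))))))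
theorem f548543 : Led Lsl_gt (LP (LK LD1_c18 LD2_c24 LD3_c45)) = (LP (LK LD1_c18 LD2_c37 LD3_c41)) :=
  Lgr Lrot46 (Lpe (f495373 IH) (Lpr_ft (K73.f548537 IH) (Lpe (f548523 IH) (Lpn (LP (LK LD1_c18 LD2_c37 LD3_c41))))))
theorem f946179 : Led Lsl_ft (LP (LK LD1_c18 LD2_c24 LD3_c45)) = (LP (LK LD1_c19 LD2_c27 LD3_c54)) :=
  Lgr Lrot2 (Lpr_gt (f548543 IH) (Lpr_gt (K73.f932244 IH) (Lpr_af (f946177 IH) (Lpn (LP (LK LD1_c19 LD2_c27 LD3_c54))))))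
theorem f946182 : Led Lsl_ff (LP (LK LD1_c18 LD2_c24 LD3_c45)) = (LP (LK LD1_c19 LD2_c27 LD3_c54)) :=
  Lgr Lrot3 (Lpr_ft (f946179 IH) (Lpn (LP (LK LD1_c19 LD2_c27 LD3_c54))))
theorem f946184 : Led Lsl_at (LP (LK LD1_c18 LD2_c24 LD3_c45)) = v44595 :=
  Lgr Lrot66 (Lpr_ff (f946182 IH) (Lpe (f946175 IH) (Lpr_ff (f946173 IH) (Lpn v44595))))
theorem f946172 : Led Lsl_cf (LP (LK LD1_c19 LD2_c25 LD3_c4)) = v44595 :=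
  Lgr Lrot11 (Lpr_ct (f946171 IH) (Lpn v44595))
theorem f396504 : Led Lsl_dt (LP (LK LD1_c25 LD2_c23 LD3_c38)) = (LP (LK LD1_c15 LD2_c30 LD3_c22)) :=
  Lre_d IH (LK LD1_c25 LD2_c23 LD3_c38) (LK LD1_c15 LD2_c30 LD3_c22) Lrfl Lrfl
def v44507 : LQ := Led Lsl_ft (LP (LK LD1_c10 LD2_c44 LD3_c54))
theorem f945544 : Led Lsl_ft (LP (LK LD1_c10 LD2_c44 LD3_c54)) = v44507 :=
  Lrfl
def v44473 : LQ := Led Lsl_gf (LP (LK LD1_c10 LD2_c44 LD3_c46))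
theorem f945376 : Led Lsl_gf (LP (LK LD1_c10 LD2_c44 LD3_c46)) = v44473 :=
  Lrfl
theorem f945507 : (LP (LK LD1_c15 LD2_c30 LD3_c23)) = v44473 :=
  (Llr Lrot52 (Lpr_ft (f555082 IH) (Lpe (f555073 IH) (Lpqs (f945505 IH) (Lpe (f945375 IH) (Lpr_gf (f945376 IH) (Lpn v44473))))))).symm
def v44474 : LQ := Led Lsl_at (LP (LK LD1_c10 LD2_c44 LD3_c46))
theorem f945377 : Led Lsl_at (LP (LK LD1_c10 LD2_c44 LD3_c46)) = v44474 :=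
  Lrfl
theorem f945378 : Led Lsl_af (LP (LK LD1_c10 LD2_c44 LD3_c46)) = v44474 :=
  Lgr Lrot0 (Lpr_at (f945377 IH) (Lpn v44474))
theorem f945509 : Led Lsl_ft v44506 = v44474 :=
  Lgr Lrot2 (Lpe (f945504 IH) (Lpqs (f945507 IH) (Lpe (f945376 IH) (Lpr_af (f945378 IH) (Lpn v44474)))))
theorem f945534 : Led Lsl_ff v44506 = v44474 :=
  Lgr Lrot3 (Lpr_ft (f945509 IH) (Lpn v44474))
theorem f945546 : Led Lsl_cf v44474 = v44507 :=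
  Lgr Lrot108 (Lpe (f945534 IH) (Lpe (f945499 IH) (Lpr_ft (f945544 IH) (Lpn v44507))))
theorem f945386 : Led Lsl_bt v14867 = v44476 :=
  Lgr Lrot35 (Lpe (f727007 IH) (Lpe (f8550 IH) (Lpr_ff (f945385 IH) (Lpn v44476))))
theorem f555092 : Led Lsl_bt (LP (LK LD1_c6 LD2_c6 LD3_c4)) = (LP (LK LD1_c11 LD2_c55 LD3_c36)) :=
  Lre_b IH (LK LD1_c6 LD2_c6 LD3_c4) (LK LD1_c11 LD2_c55 LD3_c36) Lrfl Lrfl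
theorem f945730 : v44476 = (LP (LK LD1_c11 LD2_c55 LD3_c36)) :=
  Lefun (Lecon (f945386 IH) (f945725 IH).symm) (f555092 IH)
theorem f945745 : v44505 = (LP (LK LD1_c11 LD2_c56 LD3_c22)) :=
  Lefun (Lecon (f945495 IH) (f945730 IH)) (K56.f294480 IH)
theorem f945547 : Led Lsl_ff (LP (LK LD1_c10 LD2_c44 LD3_c54)) = v44507 :=
  Lgr Lrot3 (Lpr_ft (f945544 IH) (Lpn v44507))
theorem f945548 : Led Lsl_at (LP (LK LD1_c10 LD2_c44 LD3_c55)) = v44507 :=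
  Lgr Lrot66 (Lpr_ff (f945494 IH) (Lpe (f945490 IH) (Lpr_ff (f945547 IH) (Lpn v44507))))
theorem f396483 : Led Lsl_gt (LP (LK LD1_c11 LD2_c56 LD3_c22)) = (LP (LK LD1_c6 LD2_c6 LD3_c39)) :=
  Lre_g IH (LK LD1_c11 LD2_c56 LD3_c22) (LK LD1_c6 LD2_c6 LD3_c39) Lrfl Lrfl
theorem f945751 : v44507 = (LP (LK LD1_c11 LD2_c56 LD3_c21)) :=
  (Llr Lrot26 (Lpe (f945548 IH) (Lpr_ff (f945494 IH) (Lpqs (f945745 IH) (Lpr_gt (f396483 IH) (Lpr_gt (f177552 IH) (Lpn (LP (LK LD1_c11 LD2_c56 LD3_c21))))))))).symm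
theorem f945756 : v44474 = (LP (LK LD1_c15 LD2_c30 LD3_c22)) :=
  Lefun (Lecon (Lfl_cf (f945546 IH)) (f945751 IH)) (Lfl_cf (f396502 IH))
theorem f944990 : Led Lsl_df (LP (LK LD1_c10 LD2_c43 LD3_c50)) = v44385 :=
  Lgr Lrot38 (Lpr_dt (f944989 IH) (Lpn v44385))
theorem f944983 : Led Lsl_bt (LP (LK LD1_c10 LD2_c43 LD3_c50)) = (LP (LK LD1_c19 LD2_c25 LD3_c4)) :=
  Lre_b IH (LK LD1_c10 LD2_c43 LD3_c50) (LK LD1_c19 LD2_c25 LD3_c4) Lrfl Lrfl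
theorem f945013 : Led Lsl_df (LP (LK LD1_c10 LD2_c44 LD3_c46)) = (LP (LK LD1_c19 LD2_c25 LD3_c4)) :=
  Lgr Lrot12 (Lpr_bt (f8550 IH) (Lpq (f945007 IH) (Lpe (f944990 IH) (Lpr_bt (f944983 IH) (Lpn (LP (LK LD1_c19 LD2_c25 LD3_c4)))))))
theorem f945031 : Led Lsl_dt (LP (LK LD1_c10 LD2_c44 LD3_c46)) = (LP (LK LD1_c19 LD2_c25 LD3_c4)) :=
  Lgr Lrot42 (Lpr_df (f945013 IH) (Lpn (LP (LK LD1_c19 LD2_c25 LD3_c4))))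
theorem f945759 : Led Lsl_af (LP (LK LD1_c25 LD2_c23 LD3_c38)) = (LP (LK LD1_c19 LD2_c25 LD3_c4)) :=
  Lgr Lrot117 (Lpr_dt (f396504 IH) (Lpq (f945756 IH) (Lpe (f945378 IH) (Lpr_dt (f945031 IH) (Lpn (LP (LK LD1_c19 LD2_c25 LD3_c4)))))))
theorem f946185 : Led Lsl_cf (LP (LK LD1_c18 LD2_c24 LD3_c45)) = (LP (LK LD1_c25 LD2_c23 LD3_c38)) :=
  Lgr Lrot1 (Lpr_at (f946184 IH) (Lpe (f946172 IH) (Lpe (f945759 IH) (Lpn (LP (LK LD1_c25 LD2_c23 LD3_c38))))))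
theorem f946186 : Led Lsl_ct (LP (LK LD1_c25 LD2_c23 LD3_c38)) = (LP (LK LD1_c18 LD2_c24 LD3_c45)) :=
  Leop (Lpr_cf (f946185 IH) (Lpn (LP (LK LD1_c25 LD2_c23 LD3_c38))))
theorem seed_2715 : LEOK LG_c (LK LD1_c25 LD2_c23 LD3_c38) :=
  Leoe_c (LK LD1_c25 LD2_c23 LD3_c38) (f946186 IH)
theorem f584995 : Led Lsl_bf (LP (LK LD1_c10 LD2_c0 LD3_c8)) = (LP (LK LD1_c10 LD2_c45 LD3_c49)) :=
  Lgr Lrot81 (Lpr_at (K10.f163991 IH) (Lpr_bt (K45.f584993 IH) (Lpr_at (K22.f334635 IH) (Lpr_bt (f187559 IH) (Lpr_at (K73.f187573 IH) (Lpn (LP (LK LD1_c10 LD2_c45 LD3_c49))))))))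
def v35964 : LQ := Led Lsl_ct (LP (LK LD1_c8 LD2_c14 LD3_c37))
theorem f881382 : Led Lsl_ct (LP (LK LD1_c8 LD2_c14 LD3_c37)) = v35964 :=
  Lrfl
theorem f881383 : Led Lsl_cf (LP (LK LD1_c8 LD2_c14 LD3_c37)) = v35964 :=
  Lgr Lrot11 (Lpr_ct (f881382 IH) (Lpn v35964))
theorem f54801 : Led Lsl_gt (LP (LK LD1_c8 LD2_c14 LD3_c37)) = (LP (LK LD1_c4 LD2_c7 LD3_c0)) :=
  Lre_g IH (LK LD1_c8 LD2_c14 LD3_c37) (LK LD1_c4 LD2_c7 LD3_c0) Lrfl Lrfl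
theorem f55487 : Led Lsl_bt (LP (LK LD1_c4 LD2_c5 LD3_c61)) = (LP (LK LD1_c8 LD2_c12 LD3_c43)) :=
  Lre_b IH (LK LD1_c4 LD2_c5 LD3_c61) (LK LD1_c8 LD2_c12 LD3_c43) Lrfl Lrfl
theorem f55488 : Led Lsl_ft (LP (LK LD1_c8 LD2_c12 LD3_c46)) = (LP (LK LD1_c4 LD2_c5 LD3_c61)) :=
  Lre_f IH (LK LD1_c8 LD2_c12 LD3_c46) (LK LD1_c4 LD2_c5 LD3_c61) Lrfl Lrfl
theorem f55489 : Led Lsl_bt (LP (LK LD1_c8 LD2_c14 LD3_c38)) = (LP (LK LD1_c8 LD2_c12 LD3_c46)) :=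
  Lgr Lrot35 (Lpr_ff (K1.f55483 IH) (Lpe (f55487 IH) (Lpe (f55488 IH) (Lpn (LP (LK LD1_c8 LD2_c12 LD3_c46))))))
theorem f71750 : Led Lsl_ct (LP (LK LD1_c5 LD2_c55 LD3_c9)) = (LP (LK LD1_c2 LD2_c53 LD3_c55)) :=
  Lre_c IH (LK LD1_c5 LD2_c55 LD3_c9) (LK LD1_c2 LD2_c53 LD3_c55) Lrfl Lrfl
theorem f539752 : Led Lsl_gt (LP (LK LD1_c8 LD2_c12 LD3_c46)) = (LP (LK LD1_c5 LD2_c55 LD3_c9)) :=
  Lgr Lrot150 (Lpe (K1.f55520 IH) (Lpe (K36.f55532 IH) (Lpr_df (K36.f539742 IH) (Lpr_gt (K36.f421683 IH) (Lpr_ct (K36.f421680 IH) (Lpr_gt (K36.f421681 IH) (Lpr_ct (K39.f186567 IH) (Lpe (K39.f71276 IH) (Lpe (f71750 IH) (Lpn (LP (LK LD1_c5 LD2_c55 LD3_c9))))))))))))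
theorem f71739 : Led Lsl_bf (LP (LK LD1_c5 LD2_c55 LD3_c9)) = (LP (LK LD1_c5 LD2_c18 LD3_c52)) :=
  Lgr Lrot24 (Lpr_bt (K2.f71723 IH) (Lpn (LP (LK LD1_c5 LD2_c18 LD3_c52))))
theorem f881384 : Led Lsl_gt (LP (LK LD1_c18 LD2_c57 LD3_c31)) = v35964 :=
  Lgr Lrot82 (Lpe (K73.f186594 IH) (Lpr_ct (K73.f186581 IH) (Lpe (K44.f48588 IH) (Lpe (K73.f71675 IH) (Lpe (f71739 IH) (Lpe (f539752 IH) (Lpe (f55489 IH) (Lpr_ct (K1.f55481 IH) (Lpe (f54801 IH) (Lpr_cf (f881383 IH) (Lpn v35964)))))))))))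
theorem f881375 : Led Lsl_bt (LP (LK LD1_c8 LD2_c14 LD3_c37)) = (LP (LK LD1_c15 LD2_c30 LD3_c28)) :=
  Lre_b IH (LK LD1_c8 LD2_c14 LD3_c37) (LK LD1_c15 LD2_c30 LD3_c28) Lrfl Lrfl
theorem f946189 : Led Lsl_gt (LP (LK LD1_c15 LD2_c30 LD3_c28)) = (LP (LK LD1_c25 LD2_c23 LD3_c38)) :=
  Lgr Lrot82 (Lpe (f881375 IH) (Lpr_ct (f881382 IH) (Lpe (f881384 IH) (Lpr_cf (K73.f186584 IH) (Lpr_bt (K73.f164019 IH) (Lpe (K44.f164017 IH) (Lpr_bf (f584995 IH) (Lpe (K73.f585113 IH) (Lpe (f548543 IH) (Lpr_cf (f946185 IH) (Lpn (LP (LK LD1_c25 LD2_c23 LD3_c38)))))))))))))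
theorem f946190 : Led Lsl_gt (LP (LK LD1_c15 LD2_c30 LD3_c28)) = (LP (LK LD1_c25 LD2_c23 LD3_c38)) :=
  Leop (Lpe (f946189 IH) (Lpn (LP (LK LD1_c15 LD2_c30 LD3_c28))))
theorem seed_2716 : LEOK LG_g (LK LD1_c15 LD2_c30 LD3_c28) :=
  Leoe_g (LK LD1_c15 LD2_c30 LD3_c28) (f946190 IH)
def v14925 : LQ := Led Lsl_gt (LP (LK LD1_c5 LD2_c27 LD3_c20))
theorem f727297 : Led Lsl_gt (LP (LK LD1_c5 LD2_c27 LD3_c20)) = v14925 :=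
  Lrfl
def v44489 : LQ := Led Lsl_gt (LP (LK LD1_c10 LD2_c44 LD3_c50))
theorem f945429 : Led Lsl_gt (LP (LK LD1_c10 LD2_c44 LD3_c50)) = v44489 :=
  Lrfl
def v16792 : LQ := Led Lsl_at (LP (LK LD1_c6 LD2_c6 LD3_c51))
theorem f751579 : Led Lsl_at (LP (LK LD1_c6 LD2_c6 LD3_c51)) = v16792 :=
  Lrfl
theorem f751584 : Led Lsl_gt v14925 = v16792 :=
  Lgr Lrot46 (Lpe (f727297 IH) (Lpe (f396249 IH) (Lpr_at (f751579 IH) (Lpn v16792))))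
theorem f751480 : Led Lsl_gf (LP (LK LD1_c10 LD2_c44 LD3_c55)) = K68.v16765 :=
  Lgr Lrot47 (Lpr_gt (f195436 IH) (Lpe (K68.f195750 IH) (Lpr_ff (K68.f751475 IH) (Lpn K68.v16765))))
theorem f195461 : Led Lsl_dt (LP (LK LD1_c5 LD2_c26 LD3_c54)) = (LP (LK LD1_c10 LD2_c44 LD3_c50)) :=
  Lre_d IH (LK LD1_c5 LD2_c26 LD3_c54) (LK LD1_c10 LD2_c44 LD3_c50) Lrfl Lrfl
theorem f946170 : Led Lsl_gt K73.v42074 = v44595 :=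
  Lgr Lrot5 (Lpe (K73.f932239 IH) (Lpr_at (K73.f585115 IH) (Lpr_gf (f946169 IH) (Lpn v44595))))
theorem f585117 : Led Lsl_ct (LP (LK LD1_c18 LD2_c37 LD3_c41)) = (LP (LK LD1_c10 LD2_c45 LD3_c49)) :=
  Lgr Lrot59 (Lpr_cf (K73.f585113 IH) (Lpn (LP (LK LD1_c10 LD2_c45 LD3_c49))))
theorem f751583 : Led Lsl_ff (LP (LK LD1_c10 LD2_c45 LD3_c49)) = v16792 :=
  Lgr Lrot30 (Lpr_at (K73.f187565 IH) (Lpe (f396249 IH) (Lpr_at (f751579 IH) (Lpn v16792))))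
theorem f751587 : Led Lsl_ft (LP (LK LD1_c10 LD2_c45 LD3_c49)) = v16792 :=
  Lgr Lrot48 (Lpr_ff (f751583 IH) (Lpn v16792))
theorem f932242 : Led Lsl_ct v16792 = K73.v42074 :=
  Lgr Lrot40 (Lpe (f751587 IH) (Lpe (f585117 IH) (Lpr_ff (K73.f932239 IH) (Lpn K73.v42074))))
theorem f946194 : v44489 = v16792 :=
  (Llr Lrot9 (Lpe (f945429 IH) (Lpe (f195461 IH) (Lpr_gt (K53.f646175 IH) (Lpr_ct (f751478 IH) (Lpe (f751480 IH) (Lpe (f195445 IH) (Lpr_df (f945013 IH) (Lpr_cf (f946172 IH) (Lpe (f946170 IH) (Lpe (f932242 IH) (Lpn v16792)))))))))))).symm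
theorem f946196 : (LP (LK LD1_c10 LD2_c44 LD3_c50)) = v14925 :=
  Lefun (Lecon (Lfl_gt (f945429 IH)) (f946194 IH)) (Lfl_gt (f751584 IH))
theorem f946198 : Led Lsl_gt (LP (LK LD1_c5 LD2_c27 LD3_c20)) = (LP (LK LD1_c10 LD2_c44 LD3_c50)) :=
  Leop (Lpqs (f946196 IH) (Lpe (f727297 IH) (Lpn (LP (LK LD1_c5 LD2_c27 LD3_c20)))))
theorem seed_2717 : LEOK LG_g (LK LD1_c5 LD2_c27 LD3_c20) :=
  Leoe_g (LK LD1_c5 LD2_c27 LD3_c20) (f946198 IH)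
theorem f187561 : Led Lsl_dt (LP (LK LD1_c5 LD2_c27 LD3_c20)) = (LP (LK LD1_c4 LD2_c6 LD3_c46)) :=
  Lgr Lrot79 (Lpe (f187559 IH) (Lpr_df (K12.f187555 IH) (Lpe (K56.f187560 IH) (Lpn (LP (LK LD1_c4 LD2_c6 LD3_c46))))))
theorem f187570 : Led Lsl_dt (LP (LK LD1_c15 LD2_c29 LD3_c40)) = (LP (LK LD1_c8 LD2_c14 LD3_c6)) :=
  Lre_d IH (LK LD1_c15 LD2_c29 LD3_c40) (LK LD1_c8 LD2_c14 LD3_c6) Lrfl Lrfl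
def v14926 : LQ := Led Lsl_gf (LP (LK LD1_c5 LD2_c27 LD3_c20))
theorem f727298 : Led Lsl_gf (LP (LK LD1_c5 LD2_c27 LD3_c20)) = v14926 :=
  Lrfl
def v44494 : LQ := Led Lsl_ft (LP (LK LD1_c10 LD2_c44 LD3_c50))
theorem f945444 : Led Lsl_ft (LP (LK LD1_c10 LD2_c44 LD3_c50)) = v44494 :=
  Lrfl
def v44491 : LQ := Led Lsl_at (LP (LK LD1_c10 LD2_c44 LD3_c50))
theorem f945431 : Led Lsl_at (LP (LK LD1_c10 LD2_c44 LD3_c50)) = v44491 :=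
  Lrfl
theorem f945432 : Led Lsl_af (LP (LK LD1_c10 LD2_c44 LD3_c50)) = v44491 :=
  Lgr Lrot0 (Lpr_at (f945431 IH) (Lpn v44491))
def v14877 : LQ := Led Lsl_at (LP (LK LD1_c5 LD2_c26 LD3_c54))
theorem f727052 : Led Lsl_at (LP (LK LD1_c5 LD2_c26 LD3_c54)) = v14877 :=
  Lrfl
theorem f727053 : Led Lsl_af (LP (LK LD1_c5 LD2_c26 LD3_c54)) = v14877 :=
  Lgr Lrot0 (Lpr_at (f727052 IH) (Lpn v14877))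
theorem f945433 : Led Lsl_df v14877 = v44491 :=
  Lgr Lrot18 (Lpe (f727053 IH) (Lpr_dt (f195461 IH) (Lpr_at (f945431 IH) (Lpn v44491))))
def v4636 : LQ := Led Lsl_gf (LP (LK LD1_c2 LD2_c39 LD3_c53))
theorem f638268 : Led Lsl_gf (LP (LK LD1_c2 LD2_c39 LD3_c53)) = v4636 :=
  Lrfl
theorem f727055 : Led Lsl_ft v4636 = v14877 :=
  Lgr Lrot2 (Lpe (f638268 IH) (Lpr_gt (K53.f195460 IH) (Lpr_af (f727053 IH) (Lpn v14877))))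
theorem f727058 : Led Lsl_ff v4636 = v14877 :=
  Lgr Lrot3 (Lpr_ft (f727055 IH) (Lpn v14877))
def v24235 : LQ := Led Lsl_dt v4636
theorem f823055 : Led Lsl_dt v4636 = v24235 :=
  Lrfl
theorem f945435 : Led Lsl_ft v24235 = v44491 :=
  Lgr Lrot54 (Lpe (f823055 IH) (Lpr_ff (f727058 IH) (Lpr_df (f945433 IH) (Lpn v44491))))
theorem f945445 : Led Lsl_af v24235 = v44494 :=
  Lgr Lrot45 (Lpr_ft (f945435 IH) (Lpe (f945432 IH) (Lpr_ft (f945444 IH) (Lpn v44494))))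
theorem f945448 : Led Lsl_gt v44489 = v24235 :=
  Lgr Lrot46 (Lpe (f945429 IH) (Lpr_ft (f945444 IH) (Lpe (f945445 IH) (Lpn v24235))))
theorem f751588 : Led Lsl_gf v14926 = v16792 :=
  Lgr Lrot47 (Lpe (f727298 IH) (Lpe (K73.f187565 IH) (Lpr_ff (f751583 IH) (Lpn v16792))))
theorem f946195 : v24235 = v14926 :=
  Lefun (Lecon (f945448 IH) (f946194 IH)) (Lfl_gf (f751588 IH))
theorem f646179 : Led Lsl_gf v4636 = K53.v5137 :=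
  Lgr Lrot47 (Lpe (f638268 IH) (Lpe (K53.f334407 IH) (Lpr_ff (K53.f646174 IH) (Lpn K53.v5137))))
theorem f646172 : Led Lsl_af (LP (LK LD1_c2 LD2_c59 LD3_c25)) = K53.v5137 :=
  Lgr Lrot0 (Lpr_at (K53.f646171 IH) (Lpn K53.v5137))
theorem f751474 : Led Lsl_cf K53.v5137 = K68.v16765 :=
  Lgr Lrot1 (Lpe (f646172 IH) (Lpr_ct (K68.f177464 IH) (Lpr_at (K68.f751472 IH) (Lpn K68.v16765))))
theorem f195447 : Led Lsl_dt (LP (LK LD1_c10 LD2_c44 LD3_c55)) = (LP (LK LD1_c19 LD2_c26 LD3_c28)) :=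
  Lre_d IH (LK LD1_c10 LD2_c44 LD3_c55) (LK LD1_c19 LD2_c26 LD3_c28) Lrfl Lrfl
theorem f946199 : Led Lsl_gf (LP (LK LD1_c15 LD2_c29 LD3_c40)) = (LP (LK LD1_c19 LD2_c26 LD3_c28)) :=
  Lgr Lrot143 (Lpr_dt (f187570 IH) (Lpe (K56.f187567 IH) (Lpe (f187561 IH) (Lpr_gf (f727298 IH) (Lpq (f946195 IH) (Lpe (f823055 IH) (Lpr_gf (f646179 IH) (Lpr_cf (f751474 IH) (Lpe (f751480 IH) (Lpr_dt (f195447 IH) (Lpn (LP (LK LD1_c19 LD2_c26 LD3_c28)))))))))))))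
theorem f946200 : Led Lsl_gt (LP (LK LD1_c19 LD2_c26 LD3_c28)) = (LP (LK LD1_c15 LD2_c29 LD3_c40)) :=
  Leop (Lpr_gf (f946199 IH) (Lpn (LP (LK LD1_c19 LD2_c26 LD3_c28))))
theorem seed_2718 : LEOK LG_g (LK LD1_c19 LD2_c26 LD3_c28) :=
  Leoe_g (LK LD1_c19 LD2_c26 LD3_c28) (f946200 IH)
theorem f195516 : Led Lsl_dt (LP (LK LD1_c10 LD2_c44 LD3_c54)) = (LP (LK LD1_c19 LD2_c26 LD3_c25)) :=
  Lre_d IH (LK LD1_c10 LD2_c44 LD3_c54) (LK LD1_c19 LD2_c26 LD3_c25) Lrfl Lrfl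
theorem f177507 : Led Lsl_dt (LP (LK LD1_c6 LD2_c6 LD3_c51)) = (LP (LK LD1_c2 LD2_c59 LD3_c48)) :=
  Lgr Lrot79 (Lpe (f177403 IH) (Lpr_df (K10.f177501 IH) (Lpe (K25.f177506 IH) (Lpn (LP (LK LD1_c2 LD2_c59 LD3_c48))))))
theorem f177524 : Led Lsl_df (LP (LK LD1_c6 LD2_c6 LD3_c51)) = (LP (LK LD1_c2 LD2_c59 LD3_c48)) :=
  Lgr Lrot38 (Lpr_dt (f177507 IH) (Lpn (LP (LK LD1_c2 LD2_c59 LD3_c48))))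
theorem f751582 : Led Lsl_df (LP (LK LD1_c6 LD2_c7 LD3_c18)) = v16792 :=
  Lgr Lrot18 (Lpr_at (K25.f177534 IH) (Lpe (f177524 IH) (Lpr_at (f751579 IH) (Lpn v16792))))
theorem f348856 : Led Lsl_dt (LP (LK LD1_c21 LD2_c2 LD3_c15)) = (LP (LK LD1_c11 LD2_c57 LD3_c15)) :=
  Lre_d IH (LK LD1_c21 LD2_c2 LD3_c15) (LK LD1_c11 LD2_c57 LD3_c15) Lrfl Lrfl
theorem f946205 : Led Lsl_gt (LP (LK LD1_c19 LD2_c26 LD3_c25)) = (LP (LK LD1_c21 LD2_c2 LD3_c15)) :=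
  Lgr Lrot49 (Lpe (f195516 IH) (Lpe (f195515 IH) (Lpe (K68.f195435 IH) (Lpr_gt (K53.f195460 IH) (Lpr_dt (f195461 IH) (Lpr_gt (f945429 IH) (Lpqs (f946194 IH) (Lpe (f751582 IH) (Lpe (K56.f348849 IH) (Lpe (f348856 IH) (Lpn (LP (LK LD1_c21 LD2_c2 LD3_c15)))))))))))))
theorem f946206 : Led Lsl_gt (LP (LK LD1_c19 LD2_c26 LD3_c25)) = (LP (LK LD1_c21 LD2_c2 LD3_c15)) :=
  Leop (Lpe (f946205 IH) (Lpn (LP (LK LD1_c19 LD2_c26 LD3_c25))))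
theorem seed_2719 : LEOK LG_g (LK LD1_c19 LD2_c26 LD3_c25) :=
  Leoe_g (LK LD1_c19 LD2_c26 LD3_c25) (f946206 IH)
def v44625 : LQ := Led Lsl_dt (LP (LK LD1_c10 LD2_c46 LD3_c36))
theorem f946343 : Led Lsl_dt (LP (LK LD1_c10 LD2_c46 LD3_c36)) = v44625 :=
  Lrfl
def v15239 : LQ := Led Lsl_ft (LP (LK LD1_c5 LD2_c34 LD3_c25))
theorem f733060 : Led Lsl_ft (LP (LK LD1_c5 LD2_c34 LD3_c25)) = v15239 :=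
  Lrfl
theorem f733062 : Led Lsl_ff (LP (LK LD1_c5 LD2_c34 LD3_c25)) = v15239 :=
  Lgr Lrot3 (Lpr_ft (f733060 IH) (Lpn v15239))
theorem f733063 : Led Lsl_bt K54.v4703 = v15239 :=
  Lgr Lrot35 (Lpe (K54.f638570 IH) (Lpe (K30.f172868 IH) (Lpr_ff (f733062 IH) (Lpn v15239))))
def v12864 : LQ := Led Lsl_bt (LP (LK LD1_c4 LD2_c33 LD3_c37))
theorem f698660 : Led Lsl_bt (LP (LK LD1_c4 LD2_c33 LD3_c37)) = v12864 :=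
  Lrfl
def v12862 : LQ := Led Lsl_at (LP (LK LD1_c4 LD2_c33 LD3_c36))
theorem f698652 : Led Lsl_at (LP (LK LD1_c4 LD2_c33 LD3_c36)) = v12862 :=
  Lrfl
theorem f698653 : Led Lsl_af (LP (LK LD1_c4 LD2_c33 LD3_c36)) = v12862 :=
  Lgr Lrot0 (Lpr_at (f698652 IH) (Lpn v12862))
theorem f698654 : Led Lsl_ft (LP (LK LD1_c4 LD2_c33 LD3_c37)) = v12862 :=
  Lgr Lrot2 (Lpr_gt (K42.f218849 IH) (Lpr_gt (K31.f173421 IH) (Lpr_af (f698653 IH) (Lpn v12862))))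
theorem f698655 : Led Lsl_ff (LP (LK LD1_c4 LD2_c33 LD3_c37)) = v12862 :=
  Lgr Lrot3 (Lpr_ft (f698654 IH) (Lpn v12862))
def v38084 : LQ := Led Lsl_at (LP (LK LD1_c9 LD2_c4 LD3_c48))
theorem f899087 : Led Lsl_at (LP (LK LD1_c9 LD2_c4 LD3_c48)) = v38084 :=
  Lrfl
theorem f899089 : Led Lsl_cf v12862 = v38084 :=
  Lgr Lrot1 (Lpe (f698653 IH) (Lpr_ct (K50.f173427 IH) (Lpr_at (f899087 IH) (Lpn v38084))))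
theorem f172975 : Led Lsl_ct (LP (LK LD1_c5 LD2_c34 LD3_c26)) = (LP (LK LD1_c2 LD2_c43 LD3_c10)) :=
  Lre_c IH (LK LD1_c5 LD2_c34 LD3_c26) (LK LD1_c2 LD2_c43 LD3_c10) Lrfl Lrfl
def v15236 : LQ := Led Lsl_ft (LP (LK LD1_c5 LD2_c34 LD3_c24))
theorem f733048 : Led Lsl_ft (LP (LK LD1_c5 LD2_c34 LD3_c24)) = v15236 :=
  Lrfl
theorem f733049 : Led Lsl_af (LP (LK LD1_c5 LD2_c34 LD3_c26)) = v15236 :=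
  Lgr Lrot45 (Lpr_ft (K54.f733018 IH) (Lpe (K54.f733015 IH) (Lpr_ft (f733048 IH) (Lpn v15236))))
theorem f311711 : Led Lsl_gf (LP (LK LD1_c2 LD2_c23 LD3_c29)) = (LP (LK LD1_c2 LD2_c41 LD3_c1)) :=
  Lgr Lrot76 (Lpe (K19.f260898 IH) (Lpr_ff (K19.f311701 IH) (Lpr_gt (K12.f218112 IH) (Lpn (LP (LK LD1_c2 LD2_c41 LD3_c1))))))
theorem f171010 : Led Lsl_bt (LP (LK LD1_c4 LD2_c10 LD3_c17)) = (LP (LK LD1_c2 LD2_c2 LD3_c20)) :=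
  Lre_b IH (LK LD1_c4 LD2_c10 LD3_c17) (LK LD1_c2 LD2_c2 LD3_c20) Lrfl Lrfl
theorem f220439 : Led Lsl_bt (LP (LK LD1_c8 LD2_c21 LD3_c8)) = (LP (LK LD1_c15 LD2_c43 LD3_c15)) :=
  Lre_b IH (LK LD1_c8 LD2_c21 LD3_c8) (LK LD1_c15 LD2_c43 LD3_c15) Lrfl Lrfl
theorem f311749 : Led Lsl_gf (LP (LK LD1_c15 LD2_c43 LD3_c15)) = (LP (LK LD1_c16 LD2_c4 LD3_c10)) :=
  Lgr Lrot124 (Lpe (f220439 IH) (Lpr_ct (K71.f171031 IH) (Lpr_gt (K67.f171014 IH) (Lpe (K67.f171003 IH) (Lpr_bt (f171010 IH) (Lpr_gt (K14.f171011 IH) (Lpr_ct (K23.f220354 IH) (Lpe (K20.f311730 IH) (Lpr_cf (K19.f311732 IH) (Lpr_bt (K26.f311747 IH) (Lpn (LP (LK LD1_c16 LD2_c4 LD3_c10)))))))))))))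
theorem f311751 : Led Lsl_dt (LP (LK LD1_c15 LD2_c43 LD3_c15)) = (LP (LK LD1_c25 LD2_c39 LD3_c29)) :=
  Lre_d IH (LK LD1_c15 LD2_c43 LD3_c15) (LK LD1_c25 LD2_c39 LD3_c29) Lrfl Lrfl
theorem f311752 : Led Lsl_ct (LP (LK LD1_c25 LD2_c39 LD3_c29)) = (LP (LK LD1_c31 LD2_c57 LD3_c56)) :=
  Lre_c IH (LK LD1_c25 LD2_c39 LD3_c29) (LK LD1_c31 LD2_c57 LD3_c56) Lrfl Lrfl
theorem f391920 : Led Lsl_bf (LP (LK LD1_c26 LD2_c52 LD3_c54)) = (LP (LK LD1_c31 LD2_c57 LD3_c56)) :=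
  Lgr Lrot184 (Lpr_gt (K54.f391913 IH) (Lpr_dt (K30.f213040 IH) (Lpr_ct (K30.f213039 IH) (Lpr_bt (K14.f213038 IH) (Lpr_gt (K14.f213037 IH) (Lpr_dt (K14.f213036 IH) (Lpr_ct (K12.f213035 IH) (Lpr_bt (K12.f213031 IH) (Lpe (K12.f213032 IH) (Lpr_dt (K12.f212849 IH) (Lpr_ct (K12.f212775 IH) (Lpr_bt (K12.f212825 IH) (Lpe (f311711 IH) (Lpr_dt (K19.f311721 IH) (Lpr_ct (K26.f311722 IH) (Lpr_bt (K26.f311747 IH) (Lpe (f311749 IH) (Lpr_dt (f311751 IH) (Lpr_ct (f311752 IH) (Lpn (LP (LK LD1_c31 LD2_c57 LD3_c56))))))))))))))))))))))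
theorem f391704 : Led Lsl_ct (LP (LK LD1_c26 LD2_c52 LD3_c54)) = (LP (LK LD1_c16 LD2_c56 LD3_c34)) :=
  Lre_c IH (LK LD1_c26 LD2_c52 LD3_c54) (LK LD1_c16 LD2_c56 LD3_c34) Lrfl Lrfl
theorem f391924 : Led Lsl_bt (LP (LK LD1_c15 LD2_c43 LD3_c16)) = (LP (LK LD1_c25 LD2_c39 LD3_c29)) :=
  Lre_b IH (LK LD1_c15 LD2_c43 LD3_c16) (LK LD1_c25 LD2_c39 LD3_c29) Lrfl Lrfl
theorem f391925 : Led Lsl_ct (LP (LK LD1_c25 LD2_c39 LD3_c30)) = (LP (LK LD1_c15 LD2_c43 LD3_c16)) :=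
  Lre_c IH (LK LD1_c25 LD2_c39 LD3_c30) (LK LD1_c15 LD2_c43 LD3_c16) Lrfl Lrfl
theorem f391926 : Led Lsl_bt (LP (LK LD1_c16 LD2_c56 LD3_c34)) = (LP (LK LD1_c25 LD2_c39 LD3_c30)) :=
  Lgr Lrot128 (Lpe (f391704 IH) (Lpr_bf (f391920 IH) (Lpe (f311752 IH) (Lpe (f391924 IH) (Lpe (f391925 IH) (Lpn (LP (LK LD1_c25 LD2_c39 LD3_c30))))))))
theorem f391930 : Led Lsl_df (LP (LK LD1_c16 LD2_c56 LD3_c33)) = (LP (LK LD1_c25 LD2_c39 LD3_c30)) :=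
  Lgr Lrot12 (Lpr_bt (K67.f173446 IH) (Lpr_dt (K54.f173441 IH) (Lpr_bt (f391926 IH) (Lpn (LP (LK LD1_c25 LD2_c39 LD3_c30))))))
theorem f391934 : Led Lsl_dt (LP (LK LD1_c16 LD2_c56 LD3_c33)) = (LP (LK LD1_c25 LD2_c39 LD3_c30)) :=
  Lgr Lrot42 (Lpr_df (f391930 IH) (Lpn (LP (LK LD1_c25 LD2_c39 LD3_c30))))
theorem f916124 : Led Lsl_ft (LP (LK LD1_c11 LD2_c0 LD3_c61)) = (LP (LK LD1_c16 LD2_c56 LD3_c33)) :=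
  Lgr Lrot54 (Lpe (K68.f882607 IH) (Lpr_ff (K71.f916120 IH) (Lpe (f391934 IH) (Lpn (LP (LK LD1_c16 LD2_c56 LD3_c33))))))
theorem f175238 : Led Lsl_bt (LP (LK LD1_c5 LD2_c34 LD3_c24)) = (LP (LK LD1_c11 LD2_c0 LD3_c61)) :=
  Lre_b IH (LK LD1_c5 LD2_c34 LD3_c24) (LK LD1_c11 LD2_c0 LD3_c61) Lrfl Lrfl
theorem f733051 : Led Lsl_ff (LP (LK LD1_c5 LD2_c34 LD3_c24)) = v15236 :=
  Lgr Lrot3 (Lpr_ft (f733048 IH) (Lpn v15236))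
theorem f916674 : v15236 = (LP (LK LD1_c9 LD2_c4 LD3_c48)) :=
  (Llr Lrot25 (Lpe (f733051 IH) (Lpr_bt (f175238 IH) (Lpr_ft (f916124 IH) (Lpr_bt (K67.f173446 IH) (Lpn (LP (LK LD1_c9 LD2_c4 LD3_c48)))))))).symm
theorem f916675 : (LP (LK LD1_c5 LD2_c34 LD3_c26)) = v38084 :=
  Lefun (Lecon (Lfl_af (f733049 IH)) (f916674 IH)) (f899087 IH)
theorem f916682 : v12862 = (LP (LK LD1_c2 LD2_c43 LD3_c10)) :=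
  Lefun (Lecon (Lfl_cf (f899089 IH)) (f916675 IH).symm) (f172975 IH)
theorem f916702 : (LP (LK LD1_c4 LD2_c33 LD3_c37)) = K54.v4703 :=
  Lefun (Lecon (Lfl_ff (f698655 IH)) (f916682 IH)) (K54.f638570 IH)
theorem f916718 : v15239 = v12864 :=
  Lefun (Lecon (f733063 IH) (f916702 IH).symm) (f698660 IH)
def v36200 : LQ := Led Lsl_bt (LP (LK LD1_c8 LD2_c21 LD3_c53))
theorem f882709 : Led Lsl_bt (LP (LK LD1_c8 LD2_c21 LD3_c53)) = v36200 :=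
  Lrfl
theorem f698661 : Led Lsl_bf (LP (LK LD1_c4 LD2_c33 LD3_c37)) = v12864 :=
  Lgr Lrot24 (Lpr_bt (f698660 IH) (Lpn v12864))
theorem f882712 : Led Lsl_df v12864 = v36200 :=
  Lgr Lrot12 (Lpe (f698661 IH) (Lpr_dt (K42.f391789 IH) (Lpr_bt (f882709 IH) (Lpn v36200))))
theorem f882716 : Led Lsl_dt v12864 = v36200 :=
  Lgr Lrot42 (Lpr_df (f882712 IH) (Lpn v36200))
theorem f916722 : Led Lsl_ff (LP (LK LD1_c10 LD2_c48 LD3_c24)) = v36200 :=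
  Lgr Lrot19 (Lpr_dt (K31.f172949 IH) (Lpr_ft (f733060 IH) (Lpqs (f916718 IH) (Lpr_dt (f882716 IH) (Lpn v36200)))))
theorem f386553 : Led Lsl_gf (LP (LK LD1_c15 LD2_c44 LD3_c25)) = (LP (LK LD1_c16 LD2_c43 LD3_c48)) :=
  Lgr Lrot147 (Lpr_ct (K31.f225424 IH) (Lpr_gt (K31.f179769 IH) (Lpr_ct (K14.f225398 IH) (Lpr_df (K14.f246540 IH) (Lpe (K30.f213039 IH) (Lpe (K38.f246525 IH) (Lpe (K30.f226306 IH) (Lpe (K31.f246560 IH) (Lpr_df (K31.f386541 IH) (Lpn (LP (LK LD1_c16 LD2_c43 LD3_c48))))))))))))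
theorem f392663 : Led Lsl_gf (LP (LK LD1_c8 LD2_c56 LD3_c35)) = (LP (LK LD1_c5 LD2_c27 LD3_c56)) :=
  Lgr Lrot143 (Lpr_dt (K30.f245253 IH) (Lpe (K13.f245229 IH) (Lpe (K13.f245230 IH) (Lpe (K68.f245394 IH) (Lpr_df (K68.f392660 IH) (Lpe (K54.f390666 IH) (Lpe (K20.f262875 IH) (Lpe (K68.f387773 IH) (Lpr_dt (K68.f387776 IH) (Lpn (LP (LK LD1_c5 LD2_c27 LD3_c56))))))))))))
theorem f882714 : Led Lsl_gf (LP (LK LD1_c10 LD2_c47 LD3_c1)) = v36200 :=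
  Lgr Lrot181 (Lpr_ct (K68.f284595 IH) (Lpe (f392663 IH) (Lpe (K30.f245272 IH) (Lpe (K13.f245694 IH) (Lpe (K30.f384919 IH) (Lpe (K30.f183320 IH) (Lpr_ct (K30.f183321 IH) (Lpe (f386553 IH) (Lpe (K42.f225423 IH) (Lpr_bt (f882709 IH) (Lpn v36200)))))))))))
theorem f244854 : Led Lsl_bt (LP (LK LD1_c2 LD2_c40 LD3_c14)) = (LP (LK LD1_c5 LD2_c27 LD3_c45)) :=
  Lre_b IH (LK LD1_c2 LD2_c40 LD3_c14) (LK LD1_c5 LD2_c27 LD3_c45) Lrfl Lrfl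
theorem f389129 : Led Lsl_gf (LP (LK LD1_c16 LD2_c50 LD3_c52)) = (LP (LK LD1_c10 LD2_c47 LD3_c1)) :=
  Lgr Lrot129 (Lpr_cf (K31.f389123 IH) (Lpe (K31.f389121 IH) (Lpr_gt (K30.f282883 IH) (Lpe (f244854 IH) (Lpr_ct (K18.f244829 IH) (Lpr_gt (K17.f197004 IH) (Lpe (K14.f7892 IH) (Lpr_bt (K30.f245064 IH) (Lpr_gt (K68.f284588 IH) (Lpr_ct (K68.f284601 IH) (Lpn (LP (LK LD1_c10 LD2_c47 LD3_c1)))))))))))))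
theorem f916726 : Led Lsl_at (LP (LK LD1_c10 LD2_c48 LD3_c24)) = (LP (LK LD1_c16 LD2_c50 LD3_c52)) :=
  Lgr Lrot26 (Lpr_ff (f916722 IH) (Lpe (f882714 IH) (Lpe (f389129 IH) (Lpn (LP (LK LD1_c16 LD2_c50 LD3_c52))))))
theorem f916732 : Led Lsl_af (LP (LK LD1_c10 LD2_c49 LD3_c16)) = (LP (LK LD1_c16 LD2_c44 LD3_c47)) :=
  Lgr Lrot68 (Lpr_ct (K30.f172948 IH) (Lpr_at (f916726 IH) (Lpr_ct (K31.f389119 IH) (Lpn (LP (LK LD1_c16 LD2_c44 LD3_c47))))))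
theorem f916741 : Led Lsl_ft (LP (LK LD1_c10 LD2_c49 LD3_c17)) = (LP (LK LD1_c16 LD2_c44 LD3_c47)) :=
  Lgr Lrot2 (Lpr_gt (K31.f179389 IH) (Lpr_gt (K30.f172947 IH) (Lpr_af (f916732 IH) (Lpn (LP (LK LD1_c16 LD2_c44 LD3_c47))))))
theorem f916751 : Led Lsl_ff (LP (LK LD1_c10 LD2_c49 LD3_c17)) = (LP (LK LD1_c16 LD2_c44 LD3_c47)) :=
  Lgr Lrot3 (Lpr_ft (f916741 IH) (Lpn (LP (LK LD1_c16 LD2_c44 LD3_c47))))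
theorem f916759 : Led Lsl_at (LP (LK LD1_c10 LD2_c49 LD3_c17)) = (LP (LK LD1_c16 LD2_c44 LD3_c46)) :=
  Lgr Lrot26 (Lpr_ff (f916751 IH) (Lpr_gt (K31.f245504 IH) (Lpr_gt (K31.f179767 IH) (Lpn (LP (LK LD1_c16 LD2_c44 LD3_c46))))))
theorem f916737 : Led Lsl_at (LP (LK LD1_c10 LD2_c49 LD3_c16)) = (LP (LK LD1_c16 LD2_c44 LD3_c47)) :=
  Lgr Lrot100 (Lpr_af (f916732 IH) (Lpn (LP (LK LD1_c16 LD2_c44 LD3_c47))))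
theorem f916764 : Led Lsl_ff (LP (LK LD1_c10 LD2_c49 LD3_c16)) = (LP (LK LD1_c16 LD2_c44 LD3_c46)) :=
  Lgr Lrot30 (Lpr_at (f916737 IH) (Lpe (f916751 IH) (Lpr_at (f916759 IH) (Lpn (LP (LK LD1_c16 LD2_c44 LD3_c46))))))
theorem f172964 : Led Lsl_bt (LP (LK LD1_c10 LD2_c49 LD3_c16)) = (LP (LK LD1_c19 LD2_c33 LD3_c25)) :=
  Lre_b IH (LK LD1_c10 LD2_c49 LD3_c16) (LK LD1_c19 LD2_c33 LD3_c25) Lrfl Lrfl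
theorem f916766 : Led Lsl_ft (LP (LK LD1_c19 LD2_c33 LD3_c25)) = (LP (LK LD1_c19 LD2_c12 LD3_c13)) :=
  Lgr Lrot75 (Lpe (f172964 IH) (Lpr_ff (f916764 IH) (Lpe (K31.f392993 IH) (Lpn (LP (LK LD1_c19 LD2_c12 LD3_c13))))))
theorem f324344 : Led Lsl_ff (LP (LK LD1_c8 LD2_c18 LD3_c30)) = (LP (LK LD1_c5 LD2_c27 LD3_c45)) :=
  Lgr Lrot25 (Lpr_bt (K31.f236321 IH) (Lpr_ft (K21.f324340 IH) (Lpr_bt (f244854 IH) (Lpn (LP (LK LD1_c5 LD2_c27 LD3_c45))))))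
theorem f244855 : Led Lsl_gt (LP (LK LD1_c5 LD2_c27 LD3_c45)) = (LP (LK LD1_c10 LD2_c46 LD3_c36)) :=
  Lre_g IH (LK LD1_c5 LD2_c27 LD3_c45) (LK LD1_c10 LD2_c46 LD3_c36) Lrfl Lrfl
theorem f401914 : Led Lsl_gf (LP (LK LD1_c15 LD2_c37 LD3_c36)) = (LP (LK LD1_c10 LD2_c46 LD3_c36)) :=
  Lgr Lrot76 (Lpe (K31.f323134 IH) (Lpr_ff (f324344 IH) (Lpr_gt (f244855 IH) (Lpn (LP (LK LD1_c10 LD2_c46 LD3_c36))))))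
theorem f286911 : Led Lsl_at (LP (LK LD1_c19 LD2_c3 LD3_c29)) = (LP (LK LD1_c10 LD2_c30 LD3_c57)) :=
  Lre_a IH (LK LD1_c19 LD2_c3 LD3_c29) (LK LD1_c10 LD2_c30 LD3_c57) Lrfl Lrfl
theorem f252136 : Led Lsl_gt (LP (LK LD1_c19 LD2_c3 LD3_c28)) = (LP (LK LD1_c10 LD2_c30 LD3_c57)) :=
  Lre_g IH (LK LD1_c19 LD2_c3 LD3_c28) (LK LD1_c10 LD2_c30 LD3_c57) Lrfl Lrfl
theorem f286928 : Led Lsl_gf (LP (LK LD1_c19 LD2_c3 LD3_c28)) = (LP (LK LD1_c10 LD2_c36 LD3_c15)) :=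
  Lgr Lrot47 (Lpr_gt (f252136 IH) (Lpe (f286911 IH) (Lpr_ff (K17.f286921 IH) (Lpn (LP (LK LD1_c10 LD2_c36 LD3_c15))))))
theorem f244863 : Led Lsl_bt (LP (LK LD1_c19 LD2_c29 LD3_c20)) = (LP (LK LD1_c10 LD2_c46 LD3_c36)) :=
  Lre_b IH (LK LD1_c19 LD2_c29 LD3_c20) (LK LD1_c10 LD2_c46 LD3_c36) Lrfl Lrfl
theorem f401916 : Led Lsl_cf (LP (LK LD1_c19 LD2_c3 LD3_c28)) = (LP (LK LD1_c19 LD2_c29 LD3_c20)) :=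
  Lgr Lrot58 (Lpr_gf (f286928 IH) (Lpe (K17.f275054 IH) (Lpr_bt (K17.f286577 IH) (Lpr_gf (K31.f371466 IH) (Lpe (K31.f213845 IH) (Lpe (K31.f282841 IH) (Lpe (K31.f371464 IH) (Lpr_cf (K31.f371460 IH) (Lpr_gf (f401914 IH) (Lpe (f244863 IH) (Lpn (LP (LK LD1_c19 LD2_c29 LD3_c20)))))))))))))
theorem f277826 : Led Lsl_bt (LP (LK LD1_c10 LD2_c30 LD3_c57)) = (LP (LK LD1_c5 LD2_c20 LD3_c28)) :=
  Lre_b IH (LK LD1_c10 LD2_c30 LD3_c57) (LK LD1_c5 LD2_c20 LD3_c28) Lrfl Lrfl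
theorem f277892 : Led Lsl_cf (LP (LK LD1_c10 LD2_c30 LD3_c57)) = (LP (LK LD1_c5 LD2_c27 LD3_c50)) :=
  Lgr Lrot97 (Lpr_bt (f277826 IH) (Lpr_ct (K15.f252131 IH) (Lpr_bt (K16.f277839 IH) (Lpe (K15.f245091 IH) (Lpr_bt (K17.f245135 IH) (Lpn (LP (LK LD1_c5 LD2_c27 LD3_c50))))))))
theorem f222668 : Led Lsl_ct (LP (LK LD1_c19 LD2_c35 LD3_c11)) = (LP (LK LD1_c10 LD2_c50 LD3_c7)) :=
  Lre_c IH (LK LD1_c19 LD2_c35 LD3_c11) (LK LD1_c10 LD2_c50 LD3_c7) Lrfl Lrfl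
theorem f244873 : Led Lsl_gt (LP (LK LD1_c28 LD2_c51 LD3_c36)) = (LP (LK LD1_c19 LD2_c29 LD3_c20)) :=
  Lre_g IH (LK LD1_c28 LD2_c51 LD3_c36) (LK LD1_c19 LD2_c29 LD3_c20) Lrfl Lrfl
theorem f401921 : Led Lsl_bt (LP (LK LD1_c19 LD2_c35 LD3_c11)) = (LP (LK LD1_c28 LD2_c51 LD3_c36)) :=
  Lgr Lrot130 (Lpr_ct (f222668 IH) (Lpe (K31.f222663 IH) (Lpe (K52.f282892 IH) (Lpr_bt (K30.f243611 IH) (Lpe (K15.f245089 IH) (Lpe (K17.f245093 IH) (Lpe (f277892 IH) (Lpe (f252136 IH) (Lpr_cf (f401916 IH) (Lpe (f244873 IH) (Lpn (LP (LK LD1_c28 LD2_c51 LD3_c36)))))))))))))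
theorem f401931 : Led Lsl_gt (LP (LK LD1_c19 LD2_c33 LD3_c25)) = (LP (LK LD1_c28 LD2_c51 LD3_c36)) :=
  Lgr Lrot164 (Lpe (f172964 IH) (Lpr_ct (K30.f172948 IH) (Lpr_gf (K31.f392469 IH) (Lpr_cf (K31.f226425 IH) (Lpe (K30.f245425 IH) (Lpe (K52.f244988 IH) (Lpr_ct (K31.f386400 IH) (Lpe (K31.f222664 IH) (Lpe (f222668 IH) (Lpr_bt (f401921 IH) (Lpn (LP (LK LD1_c28 LD2_c51 LD3_c36)))))))))))))
theorem f916780 : Led Lsl_af (LP (LK LD1_c19 LD2_c29 LD3_c20)) = (LP (LK LD1_c19 LD2_c12 LD3_c13)) :=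
  Lgr Lrot31 (Lpe (f244873 IH) (Lpe (f401931 IH) (Lpr_ft (f916766 IH) (Lpn (LP (LK LD1_c19 LD2_c12 LD3_c13))))))
theorem f220742 : Led Lsl_ct (LP (LK LD1_c10 LD2_c36 LD3_c13)) = (LP (LK LD1_c19 LD2_c12 LD3_c13)) :=
  Lre_c IH (LK LD1_c10 LD2_c36 LD3_c13) (LK LD1_c19 LD2_c12 LD3_c13) Lrfl Lrfl
theorem f916786 : Led Lsl_at (LP (LK LD1_c19 LD2_c3 LD3_c28)) = (LP (LK LD1_c10 LD2_c36 LD3_c13)) :=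
  Lgr Lrot107 (Lpr_cf (f401916 IH) (Lpr_af (f916780 IH) (Lpe (f220742 IH) (Lpn (LP (LK LD1_c10 LD2_c36 LD3_c13))))))
theorem f916792 : Led Lsl_ff (LP (LK LD1_c19 LD2_c3 LD3_c28)) = (LP (LK LD1_c10 LD2_c36 LD3_c14)) :=
  Lgr Lrot52 (Lpr_at (f916786 IH) (Lpe (K31.f220741 IH) (Lpe (K67.f217831 IH) (Lpn (LP (LK LD1_c10 LD2_c36 LD3_c14))))))
theorem f916800 : Led Lsl_ft (LP (LK LD1_c19 LD2_c3 LD3_c28)) = (LP (LK LD1_c10 LD2_c36 LD3_c14)) :=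
  Lgr Lrot48 (Lpr_ff (f916792 IH) (Lpn (LP (LK LD1_c10 LD2_c36 LD3_c14))))
theorem f286906 : Led Lsl_gt (LP (LK LD1_c10 LD2_c30 LD3_c57)) = (LP (LK LD1_c19 LD2_c3 LD3_c27)) :=
  Lre_g IH (LK LD1_c10 LD2_c30 LD3_c57) (LK LD1_c19 LD2_c3 LD3_c27) Lrfl Lrfl
theorem f916806 : Led Lsl_af (LP (LK LD1_c19 LD2_c3 LD3_c27)) = (LP (LK LD1_c10 LD2_c36 LD3_c14)) :=
  Lgr Lrot31 (Lpe (f286906 IH) (Lpe (f252136 IH) (Lpr_ft (f916800 IH) (Lpn (LP (LK LD1_c10 LD2_c36 LD3_c14))))))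
theorem f916788 : Led Lsl_af (LP (LK LD1_c19 LD2_c3 LD3_c28)) = (LP (LK LD1_c10 LD2_c36 LD3_c13)) :=
  Lgr Lrot0 (Lpr_at (f916786 IH) (Lpn (LP (LK LD1_c10 LD2_c36 LD3_c13))))
theorem f916812 : Led Lsl_ft (LP (LK LD1_c19 LD2_c3 LD3_c27)) = (LP (LK LD1_c10 LD2_c36 LD3_c13)) :=
  Lgr Lrot101 (Lpr_af (f916806 IH) (Lpe (f916800 IH) (Lpr_af (f916788 IH) (Lpn (LP (LK LD1_c10 LD2_c36 LD3_c13))))))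
theorem f179388 : Led Lsl_bt (LP (LK LD1_c19 LD2_c33 LD3_c25)) = (LP (LK LD1_c10 LD2_c49 LD3_c16)) :=
  Lre_b IH (LK LD1_c19 LD2_c33 LD3_c25) (LK LD1_c10 LD2_c49 LD3_c16) Lrfl Lrfl
theorem f392467 : Led Lsl_ct (LP (LK LD1_c19 LD2_c33 LD3_c25)) = (LP (LK LD1_c19 LD2_c3 LD3_c27)) :=
  Lgr Lrot10 (Lpr_bt (f179388 IH) (Lpr_gt (K31.f392462 IH) (Lpr_ct (K31.f245150 IH) (Lpr_gt (K31.f245149 IH) (Lpe (K13.f245148 IH) (Lpr_bt (K67.f172917 IH) (Lpr_gt (K15.f172918 IH) (Lpe (K17.f245093 IH) (Lpe (f277892 IH) (Lpr_gt (f286906 IH) (Lpn (LP (LK LD1_c19 LD2_c3 LD3_c27)))))))))))))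
theorem f392484 : Led Lsl_gf (LP (LK LD1_c10 LD2_c36 LD3_c15)) = (LP (LK LD1_c19 LD2_c3 LD3_c27)) :=
  Lgr Lrot126 (Lpe (K17.f275054 IH) (Lpr_bt (K17.f286577 IH) (Lpe (K31.f286591 IH) (Lpe (K31.f247321 IH) (Lpr_gt (K41.f388724 IH) (Lpe (K30.f179371 IH) (Lpr_bt (K22.f179324 IH) (Lpr_gt (K30.f172947 IH) (Lpe (f179388 IH) (Lpr_ct (f392467 IH) (Lpn (LP (LK LD1_c19 LD2_c3 LD3_c27)))))))))))))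
theorem f245145 : Led Lsl_gt (LP (LK LD1_c10 LD2_c46 LD3_c47)) = (LP (LK LD1_c5 LD2_c27 LD3_c50)) :=
  Lre_g IH (LK LD1_c10 LD2_c46 LD3_c47) (LK LD1_c5 LD2_c27 LD3_c50) Lrfl Lrfl
theorem f286533 : Led Lsl_gf (LP (LK LD1_c10 LD2_c46 LD3_c47)) = (LP (LK LD1_c16 LD2_c44 LD3_c17)) :=
  Lgr Lrot47 (Lpr_gt (f245145 IH) (Lpe (K17.f286193 IH) (Lpr_ff (K17.f286525 IH) (Lpn (LP (LK LD1_c16 LD2_c44 LD3_c17))))))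
theorem f286536 : Led Lsl_ct (LP (LK LD1_c19 LD2_c29 LD3_c50)) = (LP (LK LD1_c10 LD2_c46 LD3_c47)) :=
  Lre_c IH (LK LD1_c19 LD2_c29 LD3_c50) (LK LD1_c10 LD2_c46 LD3_c47) Lrfl Lrfl
theorem f221761 : Led Lsl_gt (LP (LK LD1_c10 LD2_c30 LD3_c56)) = (LP (LK LD1_c19 LD2_c3 LD3_c24)) :=
  Lre_g IH (LK LD1_c10 LD2_c30 LD3_c56) (LK LD1_c19 LD2_c3 LD3_c24) Lrfl Lrfl
theorem f277428 : Led Lsl_gf (LP (LK LD1_c10 LD2_c35 LD3_c49)) = (LP (LK LD1_c19 LD2_c3 LD3_c24)) :=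
  Lgr Lrot76 (Lpe (K17.f276924 IH) (Lpr_ff (K17.f277422 IH) (Lpr_gt (f221761 IH) (Lpn (LP (LK LD1_c19 LD2_c3 LD3_c24))))))
theorem f297838 : Led Lsl_bf (LP (LK LD1_c19 LD2_c3 LD3_c24)) = (LP (LK LD1_c19 LD2_c29 LD3_c50)) :=
  Lgr Lrot165 (Lpe (f277428 IH) (Lpe (K17.f289127 IH) (Lpr_gt (K31.f289129 IH) (Lpr_cf (K31.f228427 IH) (Lpr_bt (K31.f228426 IH) (Lpr_gt (K31.f286792 IH) (Lpr_bf (K18.f297832 IH) (Lpe (K17.f275059 IH) (Lpe (f286533 IH) (Lpe (f286536 IH) (Lpn (LP (LK LD1_c19 LD2_c29 LD3_c50)))))))))))))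
theorem f392486 : Led Lsl_bt (LP (LK LD1_c10 LD2_c48 LD3_c25)) = (LP (LK LD1_c19 LD2_c3 LD3_c27)) :=
  Lgr Lrot130 (Lpr_ct (K31.f172965 IH) (Lpe (K30.f277196 IH) (Lpe (K30.f225406 IH) (Lpr_bt (K17.f276890 IH) (Lpr_gf (f277428 IH) (Lpr_bf (f297838 IH) (Lpr_ct (f286536 IH) (Lpr_gf (f286533 IH) (Lpr_cf (K17.f275059 IH) (Lpr_gf (f392484 IH) (Lpn (LP (LK LD1_c19 LD2_c3 LD3_c27)))))))))))))
theorem f226962 : Led Lsl_bf (LP (LK LD1_c15 LD2_c44 LD3_c25)) = (LP (LK LD1_c10 LD2_c36 LD3_c13)) :=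
  Lgr Lrot24 (Lpr_bt (K31.f226947 IH) (Lpn (LP (LK LD1_c10 LD2_c36 LD3_c13))))
theorem f916814 : Led Lsl_ff (LP (LK LD1_c10 LD2_c48 LD3_c25)) = (LP (LK LD1_c15 LD2_c44 LD3_c25)) :=
  Lgr Lrot25 (Lpr_bt (f392486 IH) (Lpr_ft (f916812 IH) (Lpe (f226962 IH) (Lpn (LP (LK LD1_c15 LD2_c44 LD3_c25))))))
theorem f399923 : Led Lsl_gt (LP (LK LD1_c15 LD2_c44 LD3_c25)) = (LP (LK LD1_c10 LD2_c37 LD3_c51)) :=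
  Lgr Lrot49 (Lpe (K42.f226964 IH) (Lpe (K42.f391774 IH) (Lpe (K54.f392124 IH) (Lpr_gt (K54.f277378 IH) (Lpr_dt (K42.f218425 IH) (Lpr_gt (K54.f218422 IH) (Lpr_dt (K54.f391890 IH) (Lpe (K54.f387713 IH) (Lpr_df (K54.f399916 IH) (Lpn (LP (LK LD1_c10 LD2_c37 LD3_c51))))))))))))
theorem f916826 : Led Lsl_at (LP (LK LD1_c10 LD2_c48 LD3_c25)) = (LP (LK LD1_c15 LD2_c44 LD3_c23)) :=
  Lgr Lrot26 (Lpr_ff (f916814 IH) (Lpr_gt (f399923 IH) (Lpe (K54.f399910 IH) (Lpn (LP (LK LD1_c15 LD2_c44 LD3_c23))))))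
theorem f392479 : Led Lsl_bf (LP (LK LD1_c10 LD2_c48 LD3_c25)) = (LP (LK LD1_c19 LD2_c3 LD3_c27)) :=
  Lgr Lrot90 (Lpr_ct (K31.f172965 IH) (Lpr_bt (K31.f172994 IH) (Lpr_ct (K31.f172960 IH) (Lpr_bt (f172964 IH) (Lpr_ct (f392467 IH) (Lpn (LP (LK LD1_c19 LD2_c3 LD3_c27))))))))
theorem f217832 : Led Lsl_bt (LP (LK LD1_c19 LD2_c12 LD3_c15)) = (LP (LK LD1_c10 LD2_c36 LD3_c14)) :=
  Lre_b IH (LK LD1_c19 LD2_c12 LD3_c15) (LK LD1_c10 LD2_c36 LD3_c14) Lrfl Lrfl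
theorem f916830 : Led Lsl_af (LP (LK LD1_c19 LD2_c12 LD3_c15)) = (LP (LK LD1_c25 LD2_c40 LD3_c44)) :=
  Lgr Lrot36 (Lpr_bt (f217832 IH) (Lpe (f916806 IH) (Lpe (f392479 IH) (Lpr_at (f916826 IH) (Lpr_bt (K47.f226927 IH) (Lpn (LP (LK LD1_c25 LD2_c40 LD3_c44))))))))
theorem f169238 : Led Lsl_bt (LP (LK LD1_c19 LD2_c14 LD3_c58)) = (LP (LK LD1_c28 LD2_c41 LD3_c25)) :=
  Lre_b IH (LK LD1_c19 LD2_c14 LD3_c58) (LK LD1_c28 LD2_c41 LD3_c25) Lrfl Lrfl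
theorem f221567 : Led Lsl_ct (LP (LK LD1_c28 LD2_c41 LD3_c25)) = (LP (LK LD1_c25 LD2_c47 LD3_c14)) :=
  Lgr Lrot83 (Lpe (f169238 IH) (Lpe (K42.f169236 IH) (Lpe (K16.f220761 IH) (Lpr_cf (K16.f221564 IH) (Lpe (K38.f188719 IH) (Lpn (LP (LK LD1_c25 LD2_c47 LD3_c14))))))))
theorem f282809 : Led Lsl_ct (LP (LK LD1_c10 LD2_c36 LD3_c14)) = (LP (LK LD1_c19 LD2_c12 LD3_c16)) :=
  Lre_c IH (LK LD1_c10 LD2_c36 LD3_c14) (LK LD1_c19 LD2_c12 LD3_c16) Lrfl Lrfl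
theorem f569796 : Led Lsl_gf (LP (LK LD1_c25 LD2_c47 LD3_c14)) = (LP (LK LD1_c19 LD2_c12 LD3_c16)) :=
  Lgr Lrot129 (Lpe (f221567 IH) (Lpr_bt (K38.f221560 IH) (Lpe (K42.f569771 IH) (Lpr_bf (K42.f569788 IH) (Lpr_ct (K42.f244073 IH) (Lpe (K31.f286717 IH) (Lpr_cf (K67.f228627 IH) (Lpr_bt (K18.f297826 IH) (Lpr_gt (K67.f286937 IH) (Lpr_ct (f282809 IH) (Lpn (LP (LK LD1_c19 LD2_c12 LD3_c16)))))))))))))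
theorem f418430 : Led Lsl_bt (LP (LK LD1_c5 LD2_c22 LD3_c61)) = (LP (LK LD1_c10 LD2_c36 LD3_c21)) :=
  Lre_b IH (LK LD1_c5 LD2_c22 LD3_c61) (LK LD1_c10 LD2_c36 LD3_c21) Lrfl Lrfl
theorem f282811 : Led Lsl_bt (LP (LK LD1_c10 LD2_c36 LD3_c14)) = (LP (LK LD1_c19 LD2_c12 LD3_c15)) :=
  Lre_b IH (LK LD1_c10 LD2_c36 LD3_c14) (LK LD1_c19 LD2_c12 LD3_c15) Lrfl Lrfl
theorem f569800 : Led Lsl_gt (LP (LK LD1_c10 LD2_c36 LD3_c21)) = (LP (LK LD1_c19 LD2_c12 LD3_c15)) :=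
  Lgr Lrot164 (Lpe (f418430 IH) (Lpr_ct (K71.f312966 IH) (Lpe (K42.f312968 IH) (Lpe (K42.f569770 IH) (Lpr_gf (K42.f569771 IH) (Lpe (K38.f221560 IH) (Lpr_ct (f221567 IH) (Lpr_gf (f569796 IH) (Lpe (f282809 IH) (Lpr_bt (f282811 IH) (Lpn (LP (LK LD1_c19 LD2_c12 LD3_c15)))))))))))))
theorem f916851 : Led Lsl_ft (LP (LK LD1_c19 LD2_c12 LD3_c34)) = (LP (LK LD1_c25 LD2_c40 LD3_c44)) :=
  Lgr Lrot2 (Lpr_gt (K71.f224283 IH) (Lpr_gt (f569800 IH) (Lpr_af (f916830 IH) (Lpn (LP (LK LD1_c25 LD2_c40 LD3_c44))))))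
theorem f916859 : Led Lsl_ff (LP (LK LD1_c19 LD2_c12 LD3_c34)) = (LP (LK LD1_c25 LD2_c40 LD3_c44)) :=
  Lgr Lrot3 (Lpr_ft (f916851 IH) (Lpn (LP (LK LD1_c25 LD2_c40 LD3_c44))))
theorem f916863 : Led Lsl_ft (LP (LK LD1_c19 LD2_c32 LD3_c60)) = (LP (LK LD1_c19 LD2_c57 LD3_c61)) :=
  Lgr Lrot4 (Lpr_cf (K71.f418426 IH) (Lpr_ff (f916859 IH) (Lpr_cf (K73.f392382 IH) (Lpn (LP (LK LD1_c19 LD2_c57 LD3_c61))))))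
theorem f277395 : Led Lsl_bt (LP (LK LD1_c10 LD2_c48 LD3_c47)) = (LP (LK LD1_c19 LD2_c32 LD3_c60)) :=
  Lre_b IH (LK LD1_c10 LD2_c48 LD3_c47) (LK LD1_c19 LD2_c32 LD3_c60) Lrfl Lrfl
theorem f226943 : Led Lsl_bt (LP (LK LD1_c19 LD2_c57 LD3_c61)) = (LP (LK LD1_c11 LD2_c5 LD3_c8)) :=
  Lre_b IH (LK LD1_c19 LD2_c57 LD3_c61) (LK LD1_c11 LD2_c5 LD3_c8) Lrfl Lrfl
theorem f916935 : Led Lsl_ff (LP (LK LD1_c10 LD2_c48 LD3_c47)) = (LP (LK LD1_c11 LD2_c5 LD3_c8)) :=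
  Lgr Lrot25 (Lpr_bt (f277395 IH) (Lpr_ft (f916863 IH) (Lpr_bt (f226943 IH) (Lpn (LP (LK LD1_c11 LD2_c5 LD3_c8))))))
theorem f916943 : Led Lsl_at (LP (LK LD1_c10 LD2_c48 LD3_c47)) = (LP (LK LD1_c11 LD2_c5 LD3_c7)) :=
  Lgr Lrot26 (Lpr_ff (f916935 IH) (Lpr_gt (K30.f178102 IH) (Lpr_gt (K31.f226415 IH) (Lpn (LP (LK LD1_c11 LD2_c5 LD3_c7))))))
theorem f384783 : Led Lsl_df (LP (LK LD1_c15 LD2_c2 LD3_c56)) = (LP (LK LD1_c11 LD2_c5 LD3_c7)) :=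
  Lgr Lrot38 (Lpr_dt (K52.f384781 IH) (Lpn (LP (LK LD1_c11 LD2_c5 LD3_c7))))
theorem f916949 : Led Lsl_af (LP (LK LD1_c19 LD2_c32 LD3_c61)) = (LP (LK LD1_c15 LD2_c2 LD3_c56)) :=
  Lgr Lrot117 (Lpr_dt (K31.f277394 IH) (Lpr_at (f916943 IH) (Lpe (f384783 IH) (Lpn (LP (LK LD1_c15 LD2_c2 LD3_c56))))))
theorem f916953 : Led Lsl_ft (LP (LK LD1_c19 LD2_c32 LD3_c58)) = (LP (LK LD1_c15 LD2_c2 LD3_c56)) :=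
  Lgr Lrot2 (Lpr_gt (K30.f384253 IH) (Lpe (K31.f384251 IH) (Lpr_af (f916949 IH) (Lpn (LP (LK LD1_c15 LD2_c2 LD3_c56))))))
theorem f916959 : Led Lsl_ff (LP (LK LD1_c19 LD2_c32 LD3_c58)) = (LP (LK LD1_c15 LD2_c2 LD3_c56)) :=
  Lgr Lrot3 (Lpr_ft (f916953 IH) (Lpn (LP (LK LD1_c15 LD2_c2 LD3_c56))))
theorem f253815 : Led Lsl_dt (LP (LK LD1_c19 LD2_c32 LD3_c58)) = (LP (LK LD1_c10 LD2_c48 LD3_c46)) :=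
  Lre_d IH (LK LD1_c19 LD2_c32 LD3_c58) (LK LD1_c10 LD2_c48 LD3_c46) Lrfl Lrfl
theorem f916961 : Led Lsl_ft (LP (LK LD1_c10 LD2_c48 LD3_c46)) = (LP (LK LD1_c11 LD2_c5 LD3_c7)) :=
  Lgr Lrot54 (Lpe (f253815 IH) (Lpr_ff (f916959 IH) (Lpr_df (f384783 IH) (Lpn (LP (LK LD1_c11 LD2_c5 LD3_c7))))))
theorem f917063 : Led Lsl_ff (LP (LK LD1_c19 LD2_c29 LD3_c23)) = (LP (LK LD1_c19 LD2_c57 LD3_c60)) :=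
  Lgr Lrot25 (Lpe (K30.f305136 IH) (Lpr_ft (f916961 IH) (Lpr_bt (K31.f319279 IH) (Lpn (LP (LK LD1_c19 LD2_c57 LD3_c60))))))
theorem f276389 : Led Lsl_ct (LP (LK LD1_c16 LD2_c37 LD3_c9)) = (LP (LK LD1_c8 LD2_c53 LD3_c38)) :=
  Lre_c IH (LK LD1_c16 LD2_c37 LD3_c9) (LK LD1_c8 LD2_c53 LD3_c38) Lrfl Lrfl
theorem f276291 : Led Lsl_at (LP (LK LD1_c11 LD2_c5 LD3_c5)) = (LP (LK LD1_c19 LD2_c57 LD3_c57)) :=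
  Lre_a IH (LK LD1_c11 LD2_c5 LD3_c5) (LK LD1_c19 LD2_c57 LD3_c57) Lrfl Lrfl
theorem f276292 : Led Lsl_bt (LP (LK LD1_c19 LD2_c57 LD3_c57)) = (LP (LK LD1_c15 LD2_c18 LD3_c34)) :=
  Lgr Lrot62 (Lpe (f276291 IH) (Lpe (K67.f261062 IH) (Lpr_af (K18.f276289 IH) (Lpe (K30.f226826 IH) (Lpe (K31.f227110 IH) (Lpn (LP (LK LD1_c15 LD2_c18 LD3_c34))))))))
theorem f276336 : Led Lsl_bf (LP (LK LD1_c19 LD2_c57 LD3_c57)) = (LP (LK LD1_c15 LD2_c18 LD3_c34)) :=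
  Lgr Lrot24 (Lpr_bt (f276292 IH) (Lpn (LP (LK LD1_c15 LD2_c18 LD3_c34))))
theorem f292272 : Led Lsl_ft (LP (LK LD1_c19 LD2_c57 LD3_c57)) = (LP (LK LD1_c16 LD2_c37 LD3_c9)) :=
  Lgr Lrot75 (Lpr_bf (f276336 IH) (Lpr_ff (K31.f292264 IH) (Lpe (K16.f276382 IH) (Lpn (LP (LK LD1_c16 LD2_c37 LD3_c9))))))
theorem f402380 : Led Lsl_ct (LP (LK LD1_c16 LD2_c36 LD3_c15)) = (LP (LK LD1_c19 LD2_c57 LD3_c57)) :=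
  Lgr Lrot40 (Lpr_ff (K71.f402374 IH) (Lpe (f276389 IH) (Lpe (f292272 IH) (Lpn (LP (LK LD1_c19 LD2_c57 LD3_c57))))))
theorem f234819 : Led Lsl_bt (LP (LK LD1_c26 LD2_c4 LD3_c41)) = (LP (LK LD1_c19 LD2_c36 LD3_c44)) :=
  Lgr Lrot128 (Lpe (K31.f228160 IH) (Lpe (K31.f228162 IH) (Lpr_cf (K31.f234810 IH) (Lpe (K31.f234817 IH) (Lpe (K31.f234818 IH) (Lpn (LP (LK LD1_c19 LD2_c36 LD3_c44))))))))
theorem f234814 : Led Lsl_gt (LP (LK LD1_c19 LD2_c36 LD3_c44)) = (LP (LK LD1_c28 LD2_c58 LD3_c29)) :=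
  Lre_g IH (LK LD1_c19 LD2_c36 LD3_c44) (LK LD1_c28 LD2_c58 LD3_c29) Lrfl Lrfl
theorem f389958 : Led Lsl_gt (LP (LK LD1_c28 LD2_c58 LD3_c29)) = (LP (LK LD1_c19 LD2_c36 LD3_c47)) :=
  Lgr Lrot46 (Lpe (f234814 IH) (Lpe (K67.f389872 IH) (Lpr_at (K67.f389905 IH) (Lpn (LP (LK LD1_c19 LD2_c36 LD3_c47))))))
theorem f276391 : Led Lsl_bt (LP (LK LD1_c4 LD2_c27 LD3_c52)) = (LP (LK LD1_c2 LD2_c11 LD3_c5)) :=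
  Lre_b IH (LK LD1_c4 LD2_c27 LD3_c52) (LK LD1_c2 LD2_c11 LD3_c5) Lrfl Lrfl
theorem f276241 : Led Lsl_ct (LP (LK LD1_c4 LD2_c27 LD3_c52)) = (LP (LK LD1_c8 LD2_c53 LD3_c16)) :=
  Lre_c IH (LK LD1_c4 LD2_c27 LD3_c52) (LK LD1_c8 LD2_c53 LD3_c16) Lrfl Lrfl
theorem f231242 : Led Lsl_gt (LP (LK LD1_c8 LD2_c53 LD3_c16)) = (LP (LK LD1_c16 LD2_c37 LD3_c7)) :=
  Lre_g IH (LK LD1_c8 LD2_c53 LD3_c16) (LK LD1_c16 LD2_c37 LD3_c7) Lrfl Lrfl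
theorem f389960 : Led Lsl_ct (LP (LK LD1_c26 LD2_c34 LD3_c16)) = (LP (LK LD1_c16 LD2_c37 LD3_c7)) :=
  Lre_c IH (LK LD1_c26 LD2_c34 LD3_c16) (LK LD1_c16 LD2_c37 LD3_c7) Lrfl Lrfl
theorem f389961 : Led Lsl_bf (LP (LK LD1_c28 LD2_c58 LD3_c29)) = (LP (LK LD1_c26 LD2_c34 LD3_c16)) :=
  Lgr Lrot165 (Lpr_gt (f389958 IH) (Lpr_ct (K30.f375674 IH) (Lpr_gt (K30.f234784 IH) (Lpr_cf (K30.f278927 IH) (Lpr_bt (K30.f333974 IH) (Lpr_gt (K16.f260913 IH) (Lpe (f276391 IH) (Lpr_ct (f276241 IH) (Lpr_gt (f231242 IH) (Lpe (f389960 IH) (Lpn (LP (LK LD1_c26 LD2_c34 LD3_c16)))))))))))))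
theorem f402403 : Led Lsl_gt (LP (LK LD1_c16 LD2_c37 LD3_c7)) = (LP (LK LD1_c19 LD2_c57 LD3_c57)) :=
  Lgr Lrot65 (Lpe (f389960 IH) (Lpe (f389961 IH) (Lpe (f234814 IH) (Lpe (f234819 IH) (Lpe (K31.f228163 IH) (Lpe (K31.f390058 IH) (Lpr_cf (K67.f390064 IH) (Lpe (K67.f391477 IH) (Lpe (K71.f402368 IH) (Lpr_ct (f402380 IH) (Lpn (LP (LK LD1_c19 LD2_c57 LD3_c57)))))))))))))
theorem f389966 : Led Lsl_bt (LP (LK LD1_c26 LD2_c34 LD3_c15)) = (LP (LK LD1_c16 LD2_c37 LD3_c7)) :=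
  Lre_b IH (LK LD1_c26 LD2_c34 LD3_c15) (LK LD1_c16 LD2_c37 LD3_c7) Lrfl Lrfl
theorem f402372 : Led Lsl_cf (LP (LK LD1_c16 LD2_c36 LD3_c15)) = (LP (LK LD1_c19 LD2_c57 LD3_c57)) :=
  Lgr Lrot97 (Lpr_bt (K71.f402368 IH) (Lpe (K17.f292888 IH) (Lpr_bt (K67.f292991 IH) (Lpr_ct (K17.f227176 IH) (Lpe (f276336 IH) (Lpn (LP (LK LD1_c19 LD2_c57 LD3_c57))))))))
theorem f351745 : Led Lsl_bf (LP (LK LD1_c15 LD2_c1 LD3_c35)) = (LP (LK LD1_c24 LD2_c48 LD3_c33)) :=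
  Lgr Lrot24 (Lpr_bt (K38.f351743 IH) (Lpn (LP (LK LD1_c24 LD2_c48 LD3_c33))))
theorem f402405 : Led Lsl_ct (LP (LK LD1_c26 LD2_c34 LD3_c15)) = (LP (LK LD1_c24 LD2_c50 LD3_c2)) :=
  Lgr Lrot10 (Lpr_bt (f389966 IH) (Lpr_gt (f402403 IH) (Lpe (f402372 IH) (Lpr_gt (K71.f402390 IH) (Lpe (K69.f276247 IH) (Lpr_bt (K71.f278173 IH) (Lpe (K71.f351645 IH) (Lpr_bf (f351745 IH) (Lpr_ct (K38.f199746 IH) (Lpe (K45.f347476 IH) (Lpn (LP (LK LD1_c24 LD2_c50 LD3_c2)))))))))))))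
theorem f550222 : Led Lsl_ff (LP (LK LD1_c26 LD2_c34 LD3_c15)) = (LP (LK LD1_c25 LD2_c29 LD3_c5)) :=
  Lgr Lrot23 (Lpr_ct (f402405 IH) (Lpr_ft (K45.f550218 IH) (Lpr_ct (K67.f234147 IH) (Lpn (LP (LK LD1_c25 LD2_c29 LD3_c5))))))
theorem f261068 : Led Lsl_gt (LP (LK LD1_c11 LD2_c5 LD3_c5)) = (LP (LK LD1_c19 LD2_c57 LD3_c55)) :=
  Lre_g IH (LK LD1_c11 LD2_c5 LD3_c5) (LK LD1_c19 LD2_c57 LD3_c55) Lrfl Lrfl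
theorem f284612 : Led Lsl_bt (LP (LK LD1_c25 LD2_c29 LD3_c5)) = (LP (LK LD1_c19 LD2_c57 LD3_c55)) :=
  Lgr Lrot92 (Lpr_ct (K67.f199744 IH) (Lpr_gt (K45.f199743 IH) (Lpe (K30.f199730 IH) (Lpr_bt (K23.f199694 IH) (Lpr_gt (K18.f284608 IH) (Lpr_ct (K18.f227991 IH) (Lpr_gt (K18.f256772 IH) (Lpr_cf (K18.f260987 IH) (Lpr_bt (K67.f261062 IH) (Lpr_gt (f261068 IH) (Lpn (LP (LK LD1_c19 LD2_c57 LD3_c55)))))))))))))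
theorem f284617 : Led Lsl_bf (LP (LK LD1_c25 LD2_c29 LD3_c5)) = (LP (LK LD1_c19 LD2_c57 LD3_c55)) :=
  Lgr Lrot24 (Lpr_bt (f284612 IH) (Lpn (LP (LK LD1_c19 LD2_c57 LD3_c55))))
theorem f550227 : Led Lsl_ft (LP (LK LD1_c16 LD2_c37 LD3_c7)) = (LP (LK LD1_c19 LD2_c57 LD3_c55)) :=
  Lgr Lrot75 (Lpe (f389966 IH) (Lpr_ff (f550222 IH) (Lpr_bf (f284617 IH) (Lpn (LP (LK LD1_c19 LD2_c57 LD3_c55))))))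
theorem f276282 : Led Lsl_at (LP (LK LD1_c16 LD2_c37 LD3_c9)) = (LP (LK LD1_c8 LD2_c53 LD3_c16)) :=
  Lre_a IH (LK LD1_c16 LD2_c37 LD3_c9) (LK LD1_c8 LD2_c53 LD3_c16) Lrfl Lrfl
theorem f278291 : Led Lsl_gt (LP (LK LD1_c16 LD2_c37 LD3_c8)) = (LP (LK LD1_c8 LD2_c53 LD3_c16)) :=
  Lre_g IH (LK LD1_c16 LD2_c37 LD3_c8) (LK LD1_c8 LD2_c53 LD3_c16) Lrfl Lrfl
theorem f292279 : Led Lsl_gt (LP (LK LD1_c19 LD2_c57 LD3_c57)) = (LP (LK LD1_c16 LD2_c37 LD3_c8)) :=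
  Lgr Lrot5 (Lpr_ft (f292272 IH) (Lpr_at (f276282 IH) (Lpe (f278291 IH) (Lpn (LP (LK LD1_c16 LD2_c37 LD3_c8))))))
theorem f550232 : Led Lsl_af (LP (LK LD1_c16 LD2_c37 LD3_c8)) = (LP (LK LD1_c19 LD2_c57 LD3_c55)) :=
  Lgr Lrot31 (Lpe (f292279 IH) (Lpe (f402403 IH) (Lpr_ft (f550227 IH) (Lpn (LP (LK LD1_c19 LD2_c57 LD3_c55))))))
theorem f550234 : Led Lsl_at (LP (LK LD1_c16 LD2_c37 LD3_c8)) = (LP (LK LD1_c19 LD2_c57 LD3_c55)) :=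
  Lgr Lrot100 (Lpr_af (f550232 IH) (Lpn (LP (LK LD1_c19 LD2_c57 LD3_c55))))
theorem f261084 : Led Lsl_gt (LP (LK LD1_c19 LD2_c57 LD3_c56)) = (LP (LK LD1_c11 LD2_c5 LD3_c5)) :=
  Lre_g IH (LK LD1_c19 LD2_c57 LD3_c56) (LK LD1_c11 LD2_c5 LD3_c5) Lrfl Lrfl
theorem f550262 : Led Lsl_ff (LP (LK LD1_c16 LD2_c37 LD3_c8)) = (LP (LK LD1_c19 LD2_c57 LD3_c56)) :=
  Lgr Lrot52 (Lpr_at (f550234 IH) (Lpe (f261068 IH) (Lpe (f261084 IH) (Lpn (LP (LK LD1_c19 LD2_c57 LD3_c56))))))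
theorem f550268 : Led Lsl_ft (LP (LK LD1_c16 LD2_c37 LD3_c8)) = (LP (LK LD1_c19 LD2_c57 LD3_c56)) :=
  Lgr Lrot48 (Lpr_ff (f550262 IH) (Lpn (LP (LK LD1_c19 LD2_c57 LD3_c56))))
theorem f278292 : Led Lsl_bt (LP (LK LD1_c26 LD2_c34 LD3_c18)) = (LP (LK LD1_c16 LD2_c37 LD3_c8)) :=
  Lre_b IH (LK LD1_c26 LD2_c34 LD3_c18) (LK LD1_c16 LD2_c37 LD3_c8) Lrfl Lrfl
theorem f550272 : Led Lsl_bt (LP (LK LD1_c19 LD2_c57 LD3_c56)) = (LP (LK LD1_c29 LD2_c13 LD3_c7)) :=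
  Lre_b IH (LK LD1_c19 LD2_c57 LD3_c56) (LK LD1_c29 LD2_c13 LD3_c7) Lrfl Lrfl
theorem f550273 : Led Lsl_ff (LP (LK LD1_c26 LD2_c34 LD3_c18)) = (LP (LK LD1_c29 LD2_c13 LD3_c7)) :=
  Lgr Lrot25 (Lpr_bt (f278292 IH) (Lpr_ft (f550268 IH) (Lpr_bt (f550272 IH) (Lpn (LP (LK LD1_c29 LD2_c13 LD3_c7))))))
theorem f550236 : Led Lsl_bt (LP (LK LD1_c16 LD2_c37 LD3_c8)) = (LP (LK LD1_c26 LD2_c34 LD3_c18)) :=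
  Lre_b IH (LK LD1_c16 LD2_c37 LD3_c8) (LK LD1_c26 LD2_c34 LD3_c18) Lrfl Lrfl
theorem f402409 : Led Lsl_cf (LP (LK LD1_c26 LD2_c34 LD3_c15)) = (LP (LK LD1_c24 LD2_c50 LD3_c2)) :=
  Lgr Lrot11 (Lpr_ct (f402405 IH) (Lpn (LP (LK LD1_c24 LD2_c50 LD3_c2))))
theorem f199745 : Led Lsl_ct (LP (LK LD1_c25 LD2_c29 LD3_c1)) = (LP (LK LD1_c15 LD2_c34 LD3_c58)) :=
  Lre_c IH (LK LD1_c25 LD2_c29 LD3_c1) (LK LD1_c15 LD2_c34 LD3_c58) Lrfl Lrfl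
theorem f550151 : Led Lsl_at (LP (LK LD1_c26 LD2_c34 LD3_c15)) = (LP (LK LD1_c25 LD2_c29 LD3_c1)) :=
  Lgr Lrot107 (Lpr_cf (f402409 IH) (Lpr_af (K45.f550147 IH) (Lpe (f199745 IH) (Lpn (LP (LK LD1_c25 LD2_c29 LD3_c1))))))
theorem f199742 : Led Lsl_ct (LP (LK LD1_c15 LD2_c34 LD3_c58)) = (LP (LK LD1_c25 LD2_c29 LD3_c1)) :=
  Lre_c IH (LK LD1_c15 LD2_c34 LD3_c58) (LK LD1_c25 LD2_c29 LD3_c1) Lrfl Lrfl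
theorem f550142 : Led Lsl_ff (LP (LK LD1_c31 LD2_c40 LD3_c40)) = (LP (LK LD1_c25 LD2_c29 LD3_c1)) :=
  Lgr Lrot23 (Lpr_ct (K31.f234884 IH) (Lpr_ft (K45.f550140 IH) (Lpr_ct (f199742 IH) (Lpn (LP (LK LD1_c25 LD2_c29 LD3_c1))))))
theorem f550225 : Led Lsl_at (LP (LK LD1_c31 LD2_c40 LD3_c40)) = (LP (LK LD1_c25 LD2_c29 LD3_c5)) :=
  Lgr Lrot66 (Lpr_ff (f550142 IH) (Lpe (f550151 IH) (Lpr_ff (f550222 IH) (Lpn (LP (LK LD1_c25 LD2_c29 LD3_c5))))))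
theorem f386435 : Led Lsl_bt (LP (LK LD1_c28 LD2_c50 LD3_c43)) = (LP (LK LD1_c31 LD2_c40 LD3_c40)) :=
  Lgr Lrot127 (Lpr_bf (K31.f386420 IH) (Lpn (LP (LK LD1_c31 LD2_c40 LD3_c40))))
theorem f550237 : Led Lsl_at (LP (LK LD1_c26 LD2_c34 LD3_c18)) = (LP (LK LD1_c28 LD2_c50 LD3_c43)) :=
  Lgr Lrot67 (Lpe (f550236 IH) (Lpr_af (f550232 IH) (Lpe (f284612 IH) (Lpe (f550225 IH) (Lpe (f386435 IH) (Lpn (LP (LK LD1_c28 LD2_c50 LD3_c43))))))))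
theorem f550153 : Led Lsl_af (LP (LK LD1_c26 LD2_c34 LD3_c15)) = (LP (LK LD1_c25 LD2_c29 LD3_c1)) :=
  Lgr Lrot0 (Lpr_at (f550151 IH) (Lpn (LP (LK LD1_c25 LD2_c29 LD3_c1))))
theorem f267578 : Led Lsl_bt (LP (LK LD1_c15 LD2_c1 LD3_c30)) = (LP (LK LD1_c7 LD2_c57 LD3_c57)) :=
  Lre_b IH (LK LD1_c15 LD2_c1 LD3_c30) (LK LD1_c7 LD2_c57 LD3_c57) Lrfl Lrfl
theorem f324556 : Led Lsl_ft (LP (LK LD1_c9 LD2_c0 LD3_c41)) = (LP (LK LD1_c5 LD2_c35 LD3_c38)) :=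
  Lgr Lrot75 (Lpe (K31.f303281 IH) (Lpr_ff (K21.f324551 IH) (Lpe (K31.f324555 IH) (Lpn (LP (LK LD1_c5 LD2_c35 LD3_c38))))))
theorem f344685 : Led Lsl_cf (LP (LK LD1_c9 LD2_c0 LD3_c41)) = (LP (LK LD1_c15 LD2_c1 LD3_c30)) :=
  Lgr Lrot108 (Lpr_ft (f324556 IH) (Lpr_ct (K31.f316775 IH) (Lpr_ft (K23.f344678 IH) (Lpn (LP (LK LD1_c15 LD2_c1 LD3_c30))))))
theorem f316828 : Led Lsl_gt (LP (LK LD1_c9 LD2_c0 LD3_c41)) = (LP (LK LD1_c16 LD2_c50 LD3_c16)) :=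
  Lre_g IH (LK LD1_c9 LD2_c0 LD3_c41) (LK LD1_c16 LD2_c50 LD3_c16) Lrfl Lrfl
theorem f385052 : Led Lsl_ct (LP (LK LD1_c26 LD2_c47 LD3_c38)) = (LP (LK LD1_c16 LD2_c50 LD3_c16)) :=
  Lre_c IH (LK LD1_c26 LD2_c47 LD3_c38) (LK LD1_c16 LD2_c50 LD3_c16) Lrfl Lrfl
theorem f340550 : Led Lsl_at (LP (LK LD1_c5 LD2_c35 LD3_c38)) = (LP (LK LD1_c11 LD2_c3 LD3_c27)) :=
  Lre_a IH (LK LD1_c5 LD2_c35 LD3_c38) (LK LD1_c11 LD2_c3 LD3_c27) Lrfl Lrfl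
theorem f401867 : Led Lsl_gt (LP (LK LD1_c16 LD2_c50 LD3_c16)) = (LP (LK LD1_c11 LD2_c3 LD3_c27)) :=
  Lgr Lrot46 (Lpe (f316828 IH) (Lpr_ft (f324556 IH) (Lpr_at (f340550 IH) (Lpn (LP (LK LD1_c11 LD2_c3 LD3_c27))))))
theorem f340553 : Led Lsl_ct (LP (LK LD1_c19 LD2_c55 LD3_c26)) = (LP (LK LD1_c11 LD2_c3 LD3_c27)) :=
  Lre_c IH (LK LD1_c19 LD2_c55 LD3_c26) (LK LD1_c11 LD2_c3 LD3_c27) Lrfl Lrfl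
theorem f344606 : Led Lsl_ft (LP (LK LD1_c7 LD2_c57 LD3_c57)) = (LP (LK LD1_c8 LD2_c20 LD3_c23)) :=
  Lgr Lrot4 (Lpr_cf (K18.f212489 IH) (Lpr_ff (K23.f344604 IH) (Lpe (K18.f227991 IH) (Lpn (LP (LK LD1_c8 LD2_c20 LD3_c23))))))
theorem f344683 : Led Lsl_bf (LP (LK LD1_c11 LD2_c3 LD3_c28)) = (LP (LK LD1_c8 LD2_c20 LD3_c23)) :=
  Lgr Lrot61 (Lpr_ft (K23.f344678 IH) (Lpr_bt (f267578 IH) (Lpr_ft (f344606 IH) (Lpn (LP (LK LD1_c8 LD2_c20 LD3_c23))))))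
theorem f370264 : Led Lsl_bt (LP (LK LD1_c19 LD2_c55 LD3_c26)) = (LP (LK LD1_c24 LD2_c49 LD3_c27)) :=
  Lgr Lrot62 (Lpe (K30.f344669 IH) (Lpr_bf (f344683 IH) (Lpr_af (K27.f370258 IH) (Lpe (K31.f370262 IH) (Lpe (K67.f370263 IH) (Lpn (LP (LK LD1_c24 LD2_c49 LD3_c27))))))))
theorem f388163 : Led Lsl_gt (LP (LK LD1_c26 LD2_c43 LD3_c12)) = (LP (LK LD1_c19 LD2_c28 LD3_c30)) :=
  Lgr Lrot82 (Lpe (K67.f297485 IH) (Lpr_ct (K31.f388152 IH) (Lpe (K31.f179335 IH) (Lpe (K30.f179371 IH) (Lpr_bt (K22.f179324 IH) (Lpe (K31.f179389 IH) (Lpr_bf (K31.f386439 IH) (Lpr_ct (K31.f371513 IH) (Lpe (K31.f386437 IH) (Lpe (K31.f245000 IH) (Lpn (LP (LK LD1_c19 LD2_c28 LD3_c30)))))))))))))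
theorem f222361 : Led Lsl_gt (LP (LK LD1_c10 LD2_c51 LD3_c6)) = (LP (LK LD1_c5 LD2_c29 LD3_c57)) :=
  Lre_g IH (LK LD1_c10 LD2_c51 LD3_c6) (LK LD1_c5 LD2_c29 LD3_c57) Lrfl Lrfl
theorem f222409 : Led Lsl_bt (LP (LK LD1_c19 LD2_c36 LD3_c56)) = (LP (LK LD1_c10 LD2_c51 LD3_c6)) :=
  Lre_b IH (LK LD1_c19 LD2_c36 LD3_c56) (LK LD1_c10 LD2_c51 LD3_c6) Lrfl Lrfl
theorem f222410 : Led Lsl_ct (LP (LK LD1_c19 LD2_c36 LD3_c56)) = (LP (LK LD1_c28 LD2_c58 LD3_c35)) :=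
  Lre_c IH (LK LD1_c19 LD2_c36 LD3_c56) (LK LD1_c28 LD2_c58 LD3_c35) Lrfl Lrfl
theorem f234882 : Led Lsl_gt (LP (LK LD1_c31 LD2_c40 LD3_c40)) = (LP (LK LD1_c28 LD2_c58 LD3_c35)) :=
  Lgr Lrot149 (Lpe (K31.f234869 IH) (Lpe (K31.f223078 IH) (Lpe (K31.f223077 IH) (Lpr_ct (K12.f223027 IH) (Lpr_gf (K14.f234751 IH) (Lpe (K14.f222277 IH) (Lpr_bt (K31.f222273 IH) (Lpe (f222361 IH) (Lpe (f222409 IH) (Lpr_ct (f222410 IH) (Lpn (LP (LK LD1_c28 LD2_c58 LD3_c35)))))))))))))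
theorem f401871 : Led Lsl_bt (LP (LK LD1_c26 LD2_c47 LD3_c38)) = (LP (LK LD1_c28 LD2_c58 LD3_c35)) :=
  Lgr Lrot92 (Lpr_ct (f385052 IH) (Lpr_gt (f401867 IH) (Lpe (f340553 IH) (Lpr_bt (f370264 IH) (Lpr_gt (K31.f371464 IH) (Lpr_ct (K67.f388469 IH) (Lpr_gt (f388163 IH) (Lpe (K31.f282813 IH) (Lpr_bt (f386435 IH) (Lpr_gt (f234882 IH) (Lpn (LP (LK LD1_c28 LD2_c58 LD3_c35)))))))))))))
theorem f402411 : Led Lsl_gf (LP (LK LD1_c26 LD2_c34 LD3_c15)) = (LP (LK LD1_c28 LD2_c58 LD3_c35)) :=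
  Lgr Lrot181 (Lpr_ct (f402405 IH) (Lpr_gt (K45.f234812 IH) (Lpe (K23.f234866 IH) (Lpr_bt (K31.f234870 IH) (Lpe (K18.f303275 IH) (Lpe (f267578 IH) (Lpe (f344685 IH) (Lpr_gt (f316828 IH) (Lpe (f385052 IH) (Lpr_bt (f401871 IH) (Lpn (LP (LK LD1_c28 LD2_c58 LD3_c35)))))))))))))
theorem f550155 : Led Lsl_ft (LP (LK LD1_c31 LD2_c40 LD3_c40)) = (LP (LK LD1_c25 LD2_c29 LD3_c1)) :=
  Lgr Lrot2 (Lpr_gt (f234882 IH) (Lpe (f402411 IH) (Lpr_af (f550153 IH) (Lpn (LP (LK LD1_c25 LD2_c29 LD3_c1))))))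
theorem f305138 : Led Lsl_bt (LP (LK LD1_c10 LD2_c48 LD3_c46)) = (LP (LK LD1_c19 LD2_c29 LD3_c23)) :=
  Lgr Lrot127 (Lpr_bf (K30.f305136 IH) (Lpn (LP (LK LD1_c19 LD2_c29 LD3_c23))))
theorem f389125 : Led Lsl_bt (LP (LK LD1_c10 LD2_c46 LD3_c37)) = (LP (LK LD1_c16 LD2_c44 LD3_c47)) :=
  Lgr Lrot128 (Lpe (K30.f282884 IH) (Lpe (f305138 IH) (Lpr_cf (K31.f389107 IH) (Lpe (K31.f389116 IH) (Lpr_cf (K31.f389123 IH) (Lpn (LP (LK LD1_c16 LD2_c44 LD3_c47))))))))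
theorem f244859 : Led Lsl_gt (LP (LK LD1_c15 LD2_c59 LD3_c8)) = (LP (LK LD1_c8 LD2_c30 LD3_c54)) :=
  Lre_g IH (LK LD1_c15 LD2_c59 LD3_c8) (LK LD1_c8 LD2_c30 LD3_c54) Lrfl Lrfl
theorem f244982 : Led Lsl_gt (LP (LK LD1_c10 LD2_c46 LD3_c7)) = (LP (LK LD1_c15 LD2_c59 LD3_c8)) :=
  Lgr Lrot5 (Lpr_ft (K30.f244971 IH) (Lpr_at (K30.f244967 IH) (Lpe (f244859 IH) (Lpn (LP (LK LD1_c15 LD2_c59 LD3_c8))))))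
theorem f244860 : Led Lsl_bt (LP (LK LD1_c25 LD2_c56 LD3_c23)) = (LP (LK LD1_c15 LD2_c59 LD3_c8)) :=
  Lre_b IH (LK LD1_c25 LD2_c56 LD3_c23) (LK LD1_c15 LD2_c59 LD3_c8) Lrfl Lrfl
theorem f244856 : Led Lsl_ct (LP (LK LD1_c10 LD2_c46 LD3_c36)) = (LP (LK LD1_c19 LD2_c29 LD3_c21)) :=
  Lre_c IH (LK LD1_c10 LD2_c46 LD3_c36) (LK LD1_c19 LD2_c29 LD3_c21) Lrfl Lrfl
theorem f244857 : Led Lsl_gt (LP (LK LD1_c19 LD2_c29 LD3_c21)) = (LP (LK LD1_c28 LD2_c51 LD3_c37)) :=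
  Lre_g IH (LK LD1_c19 LD2_c29 LD3_c21) (LK LD1_c28 LD2_c51 LD3_c37) Lrfl Lrfl
theorem f244861 : Led Lsl_cf (LP (LK LD1_c28 LD2_c51 LD3_c37)) = (LP (LK LD1_c25 LD2_c56 LD3_c23)) :=
  Lgr Lrot163 (Lpe (f244857 IH) (Lpe (f244856 IH) (Lpe (f244855 IH) (Lpe (f244854 IH) (Lpr_ct (K18.f244829 IH) (Lpr_gf (K17.f244849 IH) (Lpe (K14.f243636 IH) (Lpr_bt (K52.f244858 IH) (Lpe (f244859 IH) (Lpe (f244860 IH) (Lpn (LP (LK LD1_c25 LD2_c56 LD3_c23)))))))))))))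
theorem f389153 : Led Lsl_gf (LP (LK LD1_c19 LD2_c29 LD3_c23)) = (LP (LK LD1_c28 LD2_c51 LD3_c37)) :=
  Lgr Lrot126 (Lpe (K31.f305140 IH) (Lpr_bt (f389125 IH) (Lpr_gt (K31.f245504 IH) (Lpr_ct (K30.f226524 IH) (Lpe (K30.f245294 IH) (Lpe (K30.f244978 IH) (Lpr_bt (K30.f244977 IH) (Lpr_gt (f244982 IH) (Lpe (f244860 IH) (Lpe (f244861 IH) (Lpn (LP (LK LD1_c28 LD2_c51 LD3_c37)))))))))))))
theorem f389155 : Led Lsl_bt (LP (LK LD1_c25 LD2_c29 LD3_c1)) = (LP (LK LD1_c28 LD2_c51 LD3_c37)) :=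
  Lgr Lrot130 (Lpr_ct (f199745 IH) (Lpe (K45.f199740 IH) (Lpe (K30.f199730 IH) (Lpr_bt (K23.f199694 IH) (Lpe (K18.f282872 IH) (Lpe (K23.f282882 IH) (Lpr_ct (K30.f282836 IH) (Lpe (K30.f282883 IH) (Lpe (K30.f282884 IH) (Lpr_gf (f389153 IH) (Lpn (LP (LK LD1_c28 LD2_c51 LD3_c37)))))))))))))
theorem f550157 : Led Lsl_ff (LP (LK LD1_c28 LD2_c50 LD3_c43)) = (LP (LK LD1_c28 LD2_c51 LD3_c37)) :=
  Lgr Lrot25 (Lpr_bt (f386435 IH) (Lpr_ft (f550155 IH) (Lpr_bt (f389155 IH) (Lpn (LP (LK LD1_c28 LD2_c51 LD3_c37))))))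
theorem f550161 : Led Lsl_ft (LP (LK LD1_c28 LD2_c50 LD3_c43)) = (LP (LK LD1_c28 LD2_c51 LD3_c37)) :=
  Lgr Lrot48 (Lpr_ff (f550157 IH) (Lpn (LP (LK LD1_c28 LD2_c51 LD3_c37))))
theorem f550276 : Led Lsl_at (LP (LK LD1_c28 LD2_c51 LD3_c37)) = (LP (LK LD1_c29 LD2_c13 LD3_c7)) :=
  Lgr Lrot66 (Lpe (f550161 IH) (Lpe (f550237 IH) (Lpr_ff (f550273 IH) (Lpn (LP (LK LD1_c29 LD2_c13 LD3_c7))))))
theorem f550286 : Led Lsl_gt (LP (LK LD1_c19 LD2_c57 LD3_c60)) = (LP (LK LD1_c29 LD2_c13 LD3_c7)) :=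
  Lgr Lrot46 (Lpe (K31.f386437 IH) (Lpr_ft (f550161 IH) (Lpr_at (f550276 IH) (Lpn (LP (LK LD1_c29 LD2_c13 LD3_c7))))))
theorem f282802 : Led Lsl_ct (LP (LK LD1_c15 LD2_c37 LD3_c34)) = (LP (LK LD1_c25 LD2_c32 LD3_c33)) :=
  Lre_c IH (LK LD1_c15 LD2_c37 LD3_c34) (LK LD1_c25 LD2_c32 LD3_c33) Lrfl Lrfl
theorem f282803 : Led Lsl_gt (LP (LK LD1_c25 LD2_c32 LD3_c33)) = (LP (LK LD1_c28 LD2_c50 LD3_c43)) :=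
  Lgr Lrot149 (Lpe (f282802 IH) (Lpe (K67.f246257 IH) (Lpe (K21.f236263 IH) (Lpr_ct (K18.f236258 IH) (Lpr_gf (K17.f282798 IH) (Lpe (K15.f243625 IH) (Lpr_bt (K30.f243622 IH) (Lpe (K31.f244989 IH) (Lpe (K31.f244999 IH) (Lpr_ct (K31.f245000 IH) (Lpn (LP (LK LD1_c28 LD2_c50 LD3_c43)))))))))))))
theorem f550279 : Led Lsl_gf (LP (LK LD1_c25 LD2_c32 LD3_c33)) = (LP (LK LD1_c29 LD2_c13 LD3_c7)) :=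
  Lgr Lrot47 (Lpr_gt (f282803 IH) (Lpe (f550237 IH) (Lpr_ff (f550273 IH) (Lpn (LP (LK LD1_c29 LD2_c13 LD3_c7))))))
theorem f917067 : Led Lsl_at (LP (LK LD1_c19 LD2_c29 LD3_c23)) = (LP (LK LD1_c25 LD2_c32 LD3_c33)) :=
  Lgr Lrot26 (Lpr_ff (f917063 IH) (Lpr_gt (f550286 IH) (Lpe (f550279 IH) (Lpn (LP (LK LD1_c25 LD2_c32 LD3_c33))))))
theorem f282810 : Led Lsl_ct (LP (LK LD1_c25 LD2_c32 LD3_c33)) = (LP (LK LD1_c15 LD2_c37 LD3_c34)) :=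
  Lre_c IH (LK LD1_c25 LD2_c32 LD3_c33) (LK LD1_c15 LD2_c37 LD3_c34) Lrfl Lrfl
theorem f917071 : Led Lsl_af (LP (LK LD1_c10 LD2_c46 LD3_c37)) = (LP (LK LD1_c15 LD2_c37 LD3_c34)) :=
  Lgr Lrot68 (Lpr_ct (K31.f305140 IH) (Lpr_at (f917067 IH) (Lpr_ct (f282810 IH) (Lpn (LP (LK LD1_c15 LD2_c37 LD3_c34))))))
theorem f917075 : Led Lsl_ft (LP (LK LD1_c10 LD2_c46 LD3_c36)) = (LP (LK LD1_c15 LD2_c37 LD3_c34)) :=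
  Lgr Lrot2 (Lpe (f401914 IH) (Lpr_gt (K30.f324400 IH) (Lpr_af (f917071 IH) (Lpn (LP (LK LD1_c15 LD2_c37 LD3_c34))))))
theorem f917081 : Led Lsl_ff (LP (LK LD1_c10 LD2_c46 LD3_c36)) = (LP (LK LD1_c15 LD2_c37 LD3_c34)) :=
  Lgr Lrot3 (Lpr_ft (f917075 IH) (Lpn (LP (LK LD1_c15 LD2_c37 LD3_c34))))
theorem f282812 : Led Lsl_dt (LP (LK LD1_c25 LD2_c32 LD3_c34)) = (LP (LK LD1_c15 LD2_c37 LD3_c34)) :=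
  Lre_d IH (LK LD1_c25 LD2_c32 LD3_c34) (LK LD1_c15 LD2_c37 LD3_c34) Lrfl Lrfl
theorem f946346 : Led Lsl_ff (LP (LK LD1_c25 LD2_c32 LD3_c34)) = v44625 :=
  Lgr Lrot19 (Lpr_dt (f282812 IH) (Lpe (f917081 IH) (Lpr_dt (f946343 IH) (Lpn v44625))))
theorem f946348 : Led Lsl_ft (LP (LK LD1_c25 LD2_c32 LD3_c34)) = v44625 :=
  Lgr Lrot48 (Lpr_ff (f946346 IH) (Lpn v44625))
theorem f916745 : Led Lsl_ff (LP (LK LD1_c15 LD2_c37 LD3_c35)) = (LP (LK LD1_c10 LD2_c46 LD3_c37)) :=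
  Lgr Lrot25 (Lpe (K31.f386439 IH) (Lpr_ft (f916741 IH) (Lpe (K31.f389121 IH) (Lpn (LP (LK LD1_c10 LD2_c46 LD3_c37))))))
theorem f917077 : Led Lsl_af (LP (LK LD1_c10 LD2_c46 LD3_c36)) = (LP (LK LD1_c15 LD2_c37 LD3_c35)) :=
  Lgr Lrot45 (Lpr_ft (f917075 IH) (Lpe (f917071 IH) (Lpe (f916745 IH) (Lpn (LP (LK LD1_c15 LD2_c37 LD3_c35))))))
theorem f371500 : Led Lsl_dt (LP (LK LD1_c25 LD2_c32 LD3_c35)) = (LP (LK LD1_c15 LD2_c37 LD3_c35)) :=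
  Lre_d IH (LK LD1_c25 LD2_c32 LD3_c35) (LK LD1_c15 LD2_c37 LD3_c35) Lrfl Lrfl
theorem f946344 : Led Lsl_af (LP (LK LD1_c25 LD2_c32 LD3_c35)) = v44625 :=
  Lgr Lrot117 (Lpr_dt (f371500 IH) (Lpe (f917077 IH) (Lpr_dt (f946343 IH) (Lpn v44625))))
theorem f312046 : Led Lsl_bt (LP (LK LD1_c10 LD2_c49 LD3_c21)) = (LP (LK LD1_c19 LD2_c33 LD3_c42)) :=
  Lre_b IH (LK LD1_c10 LD2_c49 LD3_c21) (LK LD1_c19 LD2_c33 LD3_c42) Lrfl Lrfl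
theorem f226120 : Led Lsl_bt (LP (LK LD1_c19 LD2_c43 LD3_c17)) = (LP (LK LD1_c10 LD2_c55 LD3_c4)) :=
  Lre_b IH (LK LD1_c19 LD2_c43 LD3_c17) (LK LD1_c10 LD2_c55 LD3_c4) Lrfl Lrfl
theorem f728055 : Led Lsl_ft (LP (LK LD1_c19 LD2_c33 LD3_c42)) = (LP (LK LD1_c19 LD2_c43 LD3_c17)) :=
  Lgr Lrot75 (Lpe (f312046 IH) (Lpr_ff (K67.f728051 IH) (Lpe (f226120 IH) (Lpn (LP (LK LD1_c19 LD2_c43 LD3_c17))))))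
theorem f387738 : Led Lsl_bt (LP (LK LD1_c19 LD2_c33 LD3_c42)) = (LP (LK LD1_c10 LD2_c49 LD3_c21)) :=
  Lre_b IH (LK LD1_c19 LD2_c33 LD3_c42) (LK LD1_c10 LD2_c49 LD3_c21) Lrfl Lrfl
theorem f616910 : Led Lsl_df (LP (LK LD1_c19 LD2_c33 LD3_c42)) = (LP (LK LD1_c28 LD2_c14 LD3_c12)) :=
  Lgr Lrot12 (Lpr_bt (f387738 IH) (Lpr_dt (K67.f387747 IH) (Lpr_bt (K68.f616723 IH) (Lpn (LP (LK LD1_c28 LD2_c14 LD3_c12))))))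
theorem f561286 : Led Lsl_ct (LP (LK LD1_c11 LD2_c15 LD3_c39)) = (LP (LK LD1_c11 LD2_c23 LD3_c13)) :=
  Lgr Lrot176 (Lpe (K41.f280371 IH) (Lpr_cf (K40.f423983 IH) (Lpe (K40.f281969 IH) (Lpe (K36.f281968 IH) (Lpe (K38.f549518 IH) (Lpe (K35.f60651 IH) (Lpe (K38.f549601 IH) (Lpe (K38.f269669 IH) (Lpe (K40.f269674 IH) (Lpr_cf (K40.f561280 IH) (Lpe (K40.f402622 IH) (Lpe (K36.f280304 IH) (Lpr_df (K40.f549599 IH) (Lpe (K39.f60132 IH) (Lpe (K1.f60133 IH) (Lpn (LP (LK LD1_c11 LD2_c23 LD3_c13))))))))))))))))))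
theorem f588770 : Led Lsl_at (LP (LK LD1_c20 LD2_c19 LD3_c6)) = (LP (LK LD1_c20 LD2_c11 LD3_c4)) :=
  Lgr Lrot33 (Lpr_ff (K45.f588751 IH) (Lpr_dt (K41.f280371 IH) (Lpr_ct (f561286 IH) (Lpr_dt (K1.f60133 IH) (Lpr_ct (K39.f60132 IH) (Lpe (K40.f549599 IH) (Lpr_ct (K36.f280304 IH) (Lpr_dt (K40.f402622 IH) (Lpe (K40.f561280 IH) (Lpn (LP (LK LD1_c20 LD2_c11 LD3_c4))))))))))))
theorem f588772 : Led Lsl_gt (LP (LK LD1_c16 LD2_c56 LD3_c9)) = (LP (LK LD1_c20 LD2_c11 LD3_c4)) :=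
  Lgr Lrot46 (Lpr_gf (K40.f561952 IH) (Lpe (K45.f588751 IH) (Lpr_at (f588770 IH) (Lpn (LP (LK LD1_c20 LD2_c11 LD3_c4))))))
theorem f587060 : Led Lsl_gt (LP (LK LD1_c11 LD2_c16 LD3_c1)) = (LP (LK LD1_c9 LD2_c4 LD3_c29)) :=
  Lgr Lrot94 (Lpr_cf (K68.f424356 IH) (Lpr_gt (K45.f587058 IH) (Lpr_dt (K45.f174452 IH) (Lpr_gt (K41.f424312 IH) (Lpr_dt (K31.f385875 IH) (Lpr_cf (K31.f398517 IH) (Lpe (K31.f398610 IH) (Lpe (K31.f385436 IH) (Lpe (K30.f181220 IH) (Lpn (LP (LK LD1_c9 LD2_c4 LD3_c29))))))))))))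
theorem f561293 : Led Lsl_bt (LP (LK LD1_c11 LD2_c15 LD3_c51)) = (LP (LK LD1_c20 LD2_c11 LD3_c27)) :=
  Lre_b IH (LK LD1_c11 LD2_c15 LD3_c51) (LK LD1_c20 LD2_c11 LD3_c27) Lrfl Lrfl
theorem f33522 : Led Lsl_dt (LP (LK LD1_c10 LD2_c19 LD3_c15)) = (LP (LK LD1_c5 LD2_c14 LD3_c55)) :=
  Lre_d IH (LK LD1_c10 LD2_c19 LD3_c15) (LK LD1_c5 LD2_c14 LD3_c55) Lrfl Lrfl
theorem f295332 : Led Lsl_dt (LP (LK LD1_c5 LD2_c27 LD3_c26)) = (LP (LK LD1_c10 LD2_c45 LD3_c58)) :=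
  Lre_d IH (LK LD1_c5 LD2_c27 LD3_c26) (LK LD1_c10 LD2_c45 LD3_c58) Lrfl Lrfl
theorem f295333 : Led Lsl_ff (LP (LK LD1_c10 LD2_c19 LD3_c15)) = (LP (LK LD1_c10 LD2_c45 LD3_c58)) :=
  Lgr Lrot19 (Lpr_dt (f33522 IH) (Lpr_ft (K31.f295325 IH) (Lpr_dt (f295332 IH) (Lpn (LP (LK LD1_c10 LD2_c45 LD3_c58))))))
theorem f295294 : Led Lsl_ct (LP (LK LD1_c19 LD2_c28 LD3_c9)) = (LP (LK LD1_c10 LD2_c45 LD3_c58)) :=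
  Lre_c IH (LK LD1_c19 LD2_c28 LD3_c9) (LK LD1_c10 LD2_c45 LD3_c58) Lrfl Lrfl
theorem f295393 : Led Lsl_ft (LP (LK LD1_c18 LD2_c44 LD3_c11)) = (LP (LK LD1_c19 LD2_c28 LD3_c9)) :=
  Lgr Lrot4 (Lpe (K68.f33539 IH) (Lpr_ff (f295333 IH) (Lpe (f295294 IH) (Lpn (LP (LK LD1_c19 LD2_c28 LD3_c9))))))
theorem f374313 : Led Lsl_bf (LP (LK LD1_c25 LD2_c56 LD3_c5)) = (LP (LK LD1_c19 LD2_c28 LD3_c9)) :=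
  Lgr Lrot61 (Lpr_ft (K52.f374311 IH) (Lpr_bt (K31.f271557 IH) (Lpr_ft (f295393 IH) (Lpn (LP (LK LD1_c19 LD2_c28 LD3_c9))))))
theorem f295395 : Led Lsl_gt (LP (LK LD1_c10 LD2_c45 LD3_c58)) = (LP (LK LD1_c19 LD2_c28 LD3_c7)) :=
  Lre_g IH (LK LD1_c10 LD2_c45 LD3_c58) (LK LD1_c19 LD2_c28 LD3_c7) Lrfl Lrfl
theorem f588774 : Led Lsl_ct (LP (LK LD1_c20 LD2_c11 LD3_c54)) = (LP (LK LD1_c19 LD2_c28 LD3_c7)) :=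
  Lgr Lrot10 (Lpr_bt (K43.f424367 IH) (Lpr_gt (f587060 IH) (Lpr_ct (K30.f174879 IH) (Lpr_gt (f588772 IH) (Lpr_cf (K40.f561280 IH) (Lpr_bt (f561293 IH) (Lpr_gt (K51.f562190 IH) (Lpr_bf (f374313 IH) (Lpr_ct (f295294 IH) (Lpr_gt (f295395 IH) (Lpn (LP (LK LD1_c19 LD2_c28 LD3_c7)))))))))))))
theorem f386292 : Led Lsl_bt (LP (LK LD1_c16 LD2_c45 LD3_c10)) = (LP (LK LD1_c9 LD2_c4 LD3_c29)) :=
  Lgr Lrot127 (Lpr_bf (K52.f386290 IH) (Lpn (LP (LK LD1_c9 LD2_c4 LD3_c29))))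
theorem f295296 : Led Lsl_gt (LP (LK LD1_c28 LD2_c50 LD3_c23)) = (LP (LK LD1_c19 LD2_c28 LD3_c9)) :=
  Lre_g IH (LK LD1_c28 LD2_c50 LD3_c23) (LK LD1_c19 LD2_c28 LD3_c9) Lrfl Lrfl
theorem f588779 : Led Lsl_bt (LP (LK LD1_c19 LD2_c43 LD3_c18)) = (LP (LK LD1_c28 LD2_c50 LD3_c23)) :=
  Lgr Lrot130 (Lpe (K67.f392215 IH) (Lpr_gf (K31.f388311 IH) (Lpe (K30.f245299 IH) (Lpr_bt (f386292 IH) (Lpe (f587060 IH) (Lpe (K43.f424367 IH) (Lpr_ct (f588774 IH) (Lpe (f295395 IH) (Lpe (f295294 IH) (Lpe (f295296 IH) (Lpn (LP (LK LD1_c28 LD2_c50 LD3_c23)))))))))))))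
theorem f588783 : Led Lsl_df (LP (LK LD1_c19 LD2_c43 LD3_c17)) = (LP (LK LD1_c28 LD2_c50 LD3_c23)) :=
  Lgr Lrot12 (Lpr_bt (f226120 IH) (Lpr_dt (K67.f388345 IH) (Lpr_bt (f588779 IH) (Lpn (LP (LK LD1_c28 LD2_c50 LD3_c23))))))
theorem f588785 : Led Lsl_dt (LP (LK LD1_c19 LD2_c43 LD3_c17)) = (LP (LK LD1_c28 LD2_c50 LD3_c23)) :=
  Lgr Lrot42 (Lpr_df (f588783 IH) (Lpn (LP (LK LD1_c28 LD2_c50 LD3_c23))))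
theorem f729169 : Led Lsl_ff (LP (LK LD1_c28 LD2_c14 LD3_c12)) = (LP (LK LD1_c28 LD2_c50 LD3_c23)) :=
  Lgr Lrot19 (Lpe (f616910 IH) (Lpr_ft (f728055 IH) (Lpr_dt (f588785 IH) (Lpn (LP (LK LD1_c28 LD2_c50 LD3_c23))))))
theorem f295400 : Led Lsl_gt (LP (LK LD1_c19 LD2_c28 LD3_c9)) = (LP (LK LD1_c28 LD2_c50 LD3_c22)) :=
  Lre_g IH (LK LD1_c19 LD2_c28 LD3_c9) (LK LD1_c28 LD2_c50 LD3_c22) Lrfl Lrfl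
theorem f729171 : Led Lsl_at (LP (LK LD1_c28 LD2_c14 LD3_c12)) = (LP (LK LD1_c28 LD2_c50 LD3_c22)) :=
  Lgr Lrot26 (Lpr_ff (f729169 IH) (Lpr_gt (f295296 IH) (Lpr_gt (f295400 IH) (Lpn (LP (LK LD1_c28 LD2_c50 LD3_c22))))))
theorem f221086 : Led Lsl_at (LP (LK LD1_c32 LD2_c3 LD3_c3)) = (LP (LK LD1_c25 LD2_c59 LD3_c38)) :=
  Lre_a IH (LK LD1_c32 LD2_c3 LD3_c3) (LK LD1_c25 LD2_c59 LD3_c38) Lrfl Lrfl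
theorem f729175 : Led Lsl_cf (LP (LK LD1_c32 LD2_c3 LD3_c3)) = (LP (LK LD1_c28 LD2_c50 LD3_c22)) :=
  Lgr Lrot1 (Lpr_at (f221086 IH) (Lpe (K68.f221083 IH) (Lpr_at (f729171 IH) (Lpn (LP (LK LD1_c28 LD2_c50 LD3_c22))))))
theorem f295295 : Led Lsl_ct (LP (LK LD1_c10 LD2_c45 LD3_c58)) = (LP (LK LD1_c19 LD2_c28 LD3_c9)) :=
  Lre_c IH (LK LD1_c10 LD2_c45 LD3_c58) (LK LD1_c19 LD2_c28 LD3_c9) Lrfl Lrfl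
theorem f242686 : Led Lsl_gt (LP (LK LD1_c19 LD2_c28 LD3_c8)) = (LP (LK LD1_c10 LD2_c45 LD3_c58)) :=
  Lre_g IH (LK LD1_c19 LD2_c28 LD3_c8) (LK LD1_c10 LD2_c45 LD3_c58) Lrfl Lrfl
theorem f178472 : Led Lsl_bt (LP (LK LD1_c20 LD2_c19 LD3_c2)) = (LP (LK LD1_c11 LD2_c21 LD3_c21)) :=
  Lre_b IH (LK LD1_c20 LD2_c19 LD3_c2) (LK LD1_c11 LD2_c21 LD3_c21) Lrfl Lrfl
theorem f271568 : Led Lsl_bt (LP (LK LD1_c18 LD2_c44 LD3_c11)) = (LP (LK LD1_c28 LD2_c14 LD3_c13)) :=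
  Lre_b IH (LK LD1_c18 LD2_c44 LD3_c11) (LK LD1_c28 LD2_c14 LD3_c13) Lrfl Lrfl
theorem f54358 : Led Lsl_gt (LP (LK LD1_c10 LD2_c19 LD3_c15)) = (LP (LK LD1_c18 LD2_c44 LD3_c9)) :=
  Lre_g IH (LK LD1_c10 LD2_c19 LD3_c15) (LK LD1_c18 LD2_c44 LD3_c9) Lrfl Lrfl
theorem f616729 : Led Lsl_ct (LP (LK LD1_c20 LD2_c19 LD3_c2)) = (LP (LK LD1_c18 LD2_c44 LD3_c9)) :=
  Lgr Lrot10 (Lpr_bt (f178472 IH) (Lpr_gt (K39.f168266 IH) (Lpr_ct (K30.f168261 IH) (Lpr_gt (K39.f385397 IH) (Lpr_cf (K52.f561309 IH) (Lpr_bt (K40.f561308 IH) (Lpr_gt (K52.f616725 IH) (Lpe (f271568 IH) (Lpr_ct (K31.f33523 IH) (Lpr_gt (f54358 IH) (Lpn (LP (LK LD1_c18 LD2_c44 LD3_c9)))))))))))))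
theorem f418671 : Led Lsl_dt (LP (LK LD1_c11 LD2_c16 LD3_c0)) = (LP (LK LD1_c20 LD2_c11 LD3_c54)) :=
  Lre_d IH (LK LD1_c11 LD2_c16 LD3_c0) (LK LD1_c20 LD2_c11 LD3_c54) Lrfl Lrfl
theorem f579261 : Led Lsl_ft (LP (LK LD1_c20 LD2_c11 LD3_c54)) = (LP (LK LD1_c20 LD2_c19 LD3_c2)) :=
  Lgr Lrot54 (Lpe (f418671 IH) (Lpr_ff (K43.f579257 IH) (Lpe (K43.f561317 IH) (Lpn (LP (LK LD1_c20 LD2_c19 LD3_c2))))))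
theorem f588777 : Led Lsl_cf (LP (LK LD1_c20 LD2_c11 LD3_c54)) = (LP (LK LD1_c19 LD2_c28 LD3_c7)) :=
  Lgr Lrot11 (Lpr_ct (f588774 IH) (Lpn (LP (LK LD1_c19 LD2_c28 LD3_c7))))
theorem f616876 : Led Lsl_ff (LP (LK LD1_c19 LD2_c28 LD3_c7)) = (LP (LK LD1_c18 LD2_c44 LD3_c9)) :=
  Lgr Lrot23 (Lpe (f588777 IH) (Lpr_ft (f579261 IH) (Lpr_ct (f616729 IH) (Lpn (LP (LK LD1_c18 LD2_c44 LD3_c9))))))
theorem f295279 : Led Lsl_bt (LP (LK LD1_c10 LD2_c45 LD3_c58)) = (LP (LK LD1_c5 LD2_c27 LD3_c27)) :=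
  Lre_b IH (LK LD1_c10 LD2_c45 LD3_c58) (LK LD1_c5 LD2_c27 LD3_c27) Lrfl Lrfl
theorem f295280 : Led Lsl_ft (LP (LK LD1_c10 LD2_c19 LD3_c15)) = (LP (LK LD1_c10 LD2_c45 LD3_c58)) :=
  Lgr Lrot75 (Lpe (K21.f33475 IH) (Lpr_ff (K18.f295277 IH) (Lpe (f295279 IH) (Lpn (LP (LK LD1_c10 LD2_c45 LD3_c58))))))
theorem f295376 : Led Lsl_at (LP (LK LD1_c10 LD2_c45 LD3_c58)) = (LP (LK LD1_c19 LD2_c28 LD3_c5)) :=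
  Lre_a IH (LK LD1_c10 LD2_c45 LD3_c58) (LK LD1_c19 LD2_c28 LD3_c5) Lrfl Lrfl
theorem f407333 : Led Lsl_gt (LP (LK LD1_c18 LD2_c44 LD3_c9)) = (LP (LK LD1_c19 LD2_c28 LD3_c5)) :=
  Lgr Lrot46 (Lpe (f54358 IH) (Lpr_ft (f295280 IH) (Lpr_at (f295376 IH) (Lpn (LP (LK LD1_c19 LD2_c28 LD3_c5))))))
theorem f295340 : Led Lsl_dt (LP (LK LD1_c10 LD2_c45 LD3_c57)) = (LP (LK LD1_c19 LD2_c28 LD3_c5)) :=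
  Lre_d IH (LK LD1_c10 LD2_c45 LD3_c57) (LK LD1_c19 LD2_c28 LD3_c5) Lrfl Lrfl
theorem f295371 : Led Lsl_ff (LP (LK LD1_c18 LD2_c44 LD3_c8)) = (LP (LK LD1_c19 LD2_c28 LD3_c5)) :=
  Lgr Lrot19 (Lpr_dt (K21.f33492 IH) (Lpr_ft (K31.f295363 IH) (Lpr_dt (f295340 IH) (Lpn (LP (LK LD1_c19 LD2_c28 LD3_c5))))))
theorem f33490 : Led Lsl_at (LP (LK LD1_c18 LD2_c44 LD3_c8)) = (LP (LK LD1_c10 LD2_c19 LD3_c15)) :=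
  Lre_a IH (LK LD1_c18 LD2_c44 LD3_c8) (LK LD1_c10 LD2_c19 LD3_c15) Lrfl Lrfl
theorem f33530 : Led Lsl_gt (LP (LK LD1_c18 LD2_c44 LD3_c10)) = (LP (LK LD1_c10 LD2_c19 LD3_c15)) :=
  Lre_g IH (LK LD1_c18 LD2_c44 LD3_c10) (LK LD1_c10 LD2_c19 LD3_c15) Lrfl Lrfl
theorem f295379 : Led Lsl_gf (LP (LK LD1_c18 LD2_c44 LD3_c10)) = (LP (LK LD1_c19 LD2_c28 LD3_c5)) :=
  Lgr Lrot47 (Lpr_gt (f33530 IH) (Lpe (f33490 IH) (Lpr_ff (f295371 IH) (Lpn (LP (LK LD1_c19 LD2_c28 LD3_c5))))))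
theorem f616882 : Led Lsl_at (LP (LK LD1_c19 LD2_c28 LD3_c7)) = (LP (LK LD1_c18 LD2_c44 LD3_c10)) :=
  Lgr Lrot26 (Lpr_ff (f616876 IH) (Lpr_gt (f407333 IH) (Lpe (f295379 IH) (Lpn (LP (LK LD1_c18 LD2_c44 LD3_c10))))))
theorem f616884 : Led Lsl_af (LP (LK LD1_c19 LD2_c28 LD3_c7)) = (LP (LK LD1_c18 LD2_c44 LD3_c10)) :=
  Lgr Lrot0 (Lpr_at (f616882 IH) (Lpn (LP (LK LD1_c18 LD2_c44 LD3_c10))))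
theorem f616890 : Led Lsl_ft (LP (LK LD1_c19 LD2_c28 LD3_c8)) = (LP (LK LD1_c18 LD2_c44 LD3_c10)) :=
  Lgr Lrot2 (Lpr_gt (f242686 IH) (Lpr_gt (f295395 IH) (Lpr_af (f616884 IH) (Lpn (LP (LK LD1_c18 LD2_c44 LD3_c10))))))
theorem f616896 : Led Lsl_ff (LP (LK LD1_c19 LD2_c28 LD3_c8)) = (LP (LK LD1_c18 LD2_c44 LD3_c10)) :=
  Lgr Lrot3 (Lpr_ft (f616890 IH) (Lpn (LP (LK LD1_c18 LD2_c44 LD3_c10))))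
theorem f588789 : Led Lsl_dt (LP (LK LD1_c10 LD2_c46 LD3_c17)) = (LP (LK LD1_c19 LD2_c28 LD3_c7)) :=
  Lgr Lrot182 (Lpe (K30.f235834 IH) (Lpe (K30.f235922 IH) (Lpe (K13.f173955 IH) (Lpr_df (K13.f235997 IH) (Lpe (K15.f261395 IH) (Lpe (K16.f181184 IH) (Lpr_cf (K9.f181179 IH) (Lpr_df (K9.f28382 IH) (Lpr_gf (K9.f181216 IH) (Lpe (K9.f39235 IH) (Lpe (K9.f20812 IH) (Lpe (K9.f168862 IH) (Lpe (K9.f169303 IH) (Lpe (K18.f174592 IH) (Lpe (K30.f174636 IH) (Lpe (K30.f181220 IH) (Lpe (f587060 IH) (Lpe (K43.f424367 IH) (Lpr_cf (f588777 IH) (Lpn (LP (LK LD1_c19 LD2_c28 LD3_c7))))))))))))))))))))))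
theorem f616886 : Led Lsl_df (LP (LK LD1_c16 LD2_c44 LD3_c8)) = (LP (LK LD1_c18 LD2_c44 LD3_c10)) :=
  Lgr Lrot18 (Lpr_at (K30.f332001 IH) (Lpr_dt (f588789 IH) (Lpr_at (f616882 IH) (Lpn (LP (LK LD1_c18 LD2_c44 LD3_c10))))))
theorem f616888 : Led Lsl_dt (LP (LK LD1_c16 LD2_c44 LD3_c8)) = (LP (LK LD1_c18 LD2_c44 LD3_c10)) :=
  Lgr Lrot42 (Lpr_df (f616886 IH) (Lpn (LP (LK LD1_c18 LD2_c44 LD3_c10))))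
theorem f616900 : Led Lsl_dt (LP (LK LD1_c19 LD2_c28 LD3_c8)) = (LP (LK LD1_c10 LD2_c46 LD3_c18)) :=
  Lgr Lrot60 (Lpr_ff (f616896 IH) (Lpe (f616888 IH) (Lpr_ff (K30.f332005 IH) (Lpn (LP (LK LD1_c10 LD2_c46 LD3_c18))))))
theorem f729181 : Led Lsl_df (LP (LK LD1_c32 LD2_c3 LD3_c3)) = (LP (LK LD1_c26 LD2_c43 LD3_c22)) :=
  Lgr Lrot162 (Lpr_cf (f729175 IH) (Lpe (f295400 IH) (Lpe (f295295 IH) (Lpe (f242686 IH) (Lpr_dt (f616900 IH) (Lpr_gt (K30.f235842 IH) (Lpr_ct (K71.f235821 IH) (Lpr_gt (K31.f235682 IH) (Lpe (K31.f385079 IH) (Lpn (LP (LK LD1_c26 LD2_c43 LD3_c22))))))))))))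
theorem f729177 : Led Lsl_ct (LP (LK LD1_c32 LD2_c3 LD3_c3)) = (LP (LK LD1_c28 LD2_c50 LD3_c22)) :=
  Lgr Lrot59 (Lpr_cf (f729175 IH) (Lpn (LP (LK LD1_c28 LD2_c50 LD3_c22))))
theorem f211910 : Led Lsl_bt (LP (LK LD1_c5 LD2_c44 LD3_c29)) = (LP (LK LD1_c2 LD2_c48 LD3_c9)) :=
  Lre_b IH (LK LD1_c5 LD2_c44 LD3_c29) (LK LD1_c2 LD2_c48 LD3_c9) Lrfl Lrfl
theorem f211911 : Led Lsl_ct (LP (LK LD1_c11 LD2_c19 LD3_c2)) = (LP (LK LD1_c5 LD2_c44 LD3_c29)) :=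
  Lre_c IH (LK LD1_c11 LD2_c19 LD3_c2) (LK LD1_c5 LD2_c44 LD3_c29) Lrfl Lrfl
theorem f390369 : Led Lsl_dt (LP (LK LD1_c20 LD2_c15 LD3_c46)) = (LP (LK LD1_c11 LD2_c19 LD3_c2)) :=
  Lre_d IH (LK LD1_c20 LD2_c15 LD3_c46) (LK LD1_c11 LD2_c19 LD3_c2) Lrfl Lrfl
theorem f390370 : Led Lsl_gt (LP (LK LD1_c29 LD2_c22 LD3_c51)) = (LP (LK LD1_c20 LD2_c15 LD3_c46)) :=
  Lre_g IH (LK LD1_c29 LD2_c22 LD3_c51) (LK LD1_c20 LD2_c15 LD3_c46) Lrfl Lrfl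
theorem f729185 : Led Lsl_bt (LP (LK LD1_c28 LD2_c50 LD3_c22)) = (LP (LK LD1_c29 LD2_c22 LD3_c51)) :=
  Lgr Lrot178 (Lpe (f729177 IH) (Lpr_df (f729181 IH) (Lpe (K31.f226437 IH) (Lpe (K30.f226422 IH) (Lpe (K30.f226413 IH) (Lpe (K52.f226427 IH) (Lpe (K31.f390718 IH) (Lpr_bf (K31.f390725 IH) (Lpr_cf (K31.f390367 IH) (Lpe (K31.f390357 IH) (Lpe (K31.f140447 IH) (Lpe (K50.f140444 IH) (Lpe (K39.f318713 IH) (Lpe (K39.f381510 IH) (Lpe (K39.f211917 IH) (Lpe (f211910 IH) (Lpe (f211911 IH) (Lpe (f390369 IH) (Lpe (f390370 IH) (Lpn (LP (LK LD1_c29 LD2_c22 LD3_c51))))))))))))))))))))))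
theorem f579300 : Led Lsl_df (LP (LK LD1_c16 LD2_c51 LD3_c55)) = (LP (LK LD1_c20 LD2_c11 LD3_c30)) :=
  Lgr Lrot162 (Lpr_cf (K39.f549335 IH) (Lpr_gf (K39.f424209 IH) (Lpr_cf (K40.f423749 IH) (Lpe (K31.f172398 IH) (Lpr_dt (K38.f168260 IH) (Lpr_gt (K43.f385839 IH) (Lpr_ct (K45.f385843 IH) (Lpe (K43.f423743 IH) (Lpr_ct (K43.f579289 IH) (Lpn (LP (LK LD1_c20 LD2_c11 LD3_c30))))))))))))
theorem f211909 : Led Lsl_ct (LP (LK LD1_c2 LD2_c48 LD3_c9)) = (LP (LK LD1_c5 LD2_c44 LD3_c30)) :=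
  Lre_c IH (LK LD1_c2 LD2_c48 LD3_c9) (LK LD1_c5 LD2_c44 LD3_c30) Lrfl Lrfl
theorem f549341 : Led Lsl_bt (LP (LK LD1_c16 LD2_c51 LD3_c55)) = (LP (LK LD1_c11 LD2_c19 LD3_c2)) :=
  Lgr Lrot128 (Lpr_cf (K39.f549335 IH) (Lpr_bf (K39.f211901 IH) (Lpe (f211909 IH) (Lpe (f211910 IH) (Lpe (f211911 IH) (Lpn (LP (LK LD1_c11 LD2_c19 LD3_c2))))))))
theorem f404914 : Led Lsl_dt (LP (LK LD1_c11 LD2_c19 LD3_c2)) = (LP (LK LD1_c20 LD2_c15 LD3_c46)) :=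
  Lre_d IH (LK LD1_c11 LD2_c19 LD3_c2) (LK LD1_c20 LD2_c15 LD3_c46) Lrfl Lrfl
theorem f579303 : Led Lsl_bt (LP (LK LD1_c20 LD2_c15 LD3_c46)) = (LP (LK LD1_c20 LD2_c11 LD3_c30)) :=
  Lgr Lrot95 (Lpe (f404914 IH) (Lpe (f549341 IH) (Lpr_df (f579300 IH) (Lpn (LP (LK LD1_c20 LD2_c11 LD3_c30))))))
theorem f579308 : Led Lsl_bf (LP (LK LD1_c20 LD2_c15 LD3_c46)) = (LP (LK LD1_c20 LD2_c11 LD3_c30)) :=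
  Lgr Lrot24 (Lpr_bt (f579303 IH) (Lpn (LP (LK LD1_c20 LD2_c11 LD3_c30))))
theorem f226406 : Led Lsl_bt (LP (LK LD1_c26 LD2_c43 LD3_c29)) = (LP (LK LD1_c16 LD2_c44 LD3_c34)) :=
  Lre_b IH (LK LD1_c26 LD2_c43 LD3_c29) (LK LD1_c16 LD2_c44 LD3_c34) Lrfl Lrfl
theorem f40182 : Led Lsl_bt (LP (LK LD1_c2 LD2_c26 LD3_c29)) = (LP (LK LD1_c1 LD2_c10 LD3_c33)) :=
  Lre_b IH (LK LD1_c2 LD2_c26 LD3_c29) (LK LD1_c1 LD2_c10 LD3_c33) Lrfl Lrfl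
theorem f495236 : Led Lsl_bf (LP (LK LD1_c4 LD2_c57 LD3_c6)) = K39.v1382 :=
  Lgr Lrot96 (Lpr_et (K39.f424149 IH) (Lpr_bt (f40182 IH) (Lpr_et (K39.f495235 IH) (Lpn K39.v1382))))
theorem f422870 : Led Lsl_gt (LP (LK LD1_c11 LD2_c21 LD3_c18)) = (LP (LK LD1_c20 LD2_c18 LD3_c61)) :=
  Lre_g IH (LK LD1_c11 LD2_c21 LD3_c18) (LK LD1_c20 LD2_c18 LD3_c61) Lrfl Lrfl
theorem f422871 : Led Lsl_dt (LP (LK LD1_c20 LD2_c18 LD3_c61)) = (LP (LK LD1_c29 LD2_c24 LD3_c20)) :=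
  Lre_d IH (LK LD1_c20 LD2_c18 LD3_c61) (LK LD1_c29 LD2_c24 LD3_c20) Lrfl Lrfl
theorem f618938 : Led Lsl_cf (LP (LK LD1_c26 LD2_c43 LD3_c29)) = (LP (LK LD1_c29 LD2_c24 LD3_c20)) :=
  Lgr Lrot89 (Lpr_bt (f226406 IH) (Lpr_gt (K54.f226405 IH) (Lpr_dt (K31.f226404 IH) (Lpr_ct (K30.f226403 IH) (Lpr_bt (K30.f177929 IH) (Lpe (K12.f226401 IH) (Lpr_dt (K12.f178890 IH) (Lpr_ct (K12.f226020 IH) (Lpr_bt (K20.f226392 IH) (Lpe (K27.f381388 IH) (Lpr_dt (K39.f381404 IH) (Lpr_ct (K31.f172431 IH) (Lpq (K40.f557348 IH) (Lpe (f495236 IH) (Lpr_gt (K41.f557336 IH) (Lpe (K31.f423269 IH) (Lpr_ct (K30.f172338 IH) (Lpr_bt (K30.f422862 IH) (Lpr_gt (f422870 IH) (Lpr_dt (f422871 IH) (Lpn (LP (LK LD1_c29 LD2_c24 LD3_c20)))))))))))))))))))))))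
theorem f218140 : Led Lsl_bt (LP (LK LD1_c16 LD2_c46 LD3_c30)) = (LP (LK LD1_c8 LD2_c57 LD3_c49)) :=
  Lre_b IH (LK LD1_c16 LD2_c46 LD3_c30) (LK LD1_c8 LD2_c57 LD3_c49) Lrfl Lrfl
theorem f399982 : Led Lsl_bt (LP (LK LD1_c16 LD2_c44 LD3_c34)) = (LP (LK LD1_c26 LD2_c43 LD3_c29)) :=
  Lre_b IH (LK LD1_c16 LD2_c44 LD3_c34) (LK LD1_c26 LD2_c43 LD3_c29) Lrfl Lrfl
theorem f399983 : Led Lsl_df (LP (LK LD1_c16 LD2_c46 LD3_c30)) = (LP (LK LD1_c26 LD2_c43 LD3_c29)) :=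
  Lgr Lrot12 (Lpr_bt (f218140 IH) (Lpr_dt (K54.f399979 IH) (Lpr_bt (f399982 IH) (Lpn (LP (LK LD1_c26 LD2_c43 LD3_c29))))))
theorem f389469 : Led Lsl_gf (LP (LK LD1_c10 LD2_c57 LD3_c37)) = (LP (LK LD1_c18 LD2_c44 LD3_c1)) :=
  Lgr Lrot47 (Lpe (K31.f218145 IH) (Lpe (K31.f389463 IH) (Lpr_ff (K31.f389461 IH) (Lpn (LP (LK LD1_c18 LD2_c44 LD3_c1))))))
theorem f33538 : Led Lsl_dt (LP (LK LD1_c5 LD2_c14 LD3_c55)) = (LP (LK LD1_c10 LD2_c19 LD3_c15)) :=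
  Lre_d IH (LK LD1_c5 LD2_c14 LD3_c55) (LK LD1_c10 LD2_c19 LD3_c15) Lrfl Lrfl
theorem f616874 : Led Lsl_cf (LP (LK LD1_c20 LD2_c19 LD3_c2)) = (LP (LK LD1_c18 LD2_c44 LD3_c9)) :=
  Lgr Lrot11 (Lpr_ct (f616729 IH) (Lpn (LP (LK LD1_c18 LD2_c44 LD3_c9))))
theorem f618942 : Led Lsl_gt (LP (LK LD1_c20 LD2_c19 LD3_c2)) = (LP (LK LD1_c29 LD2_c24 LD3_c20)) :=
  Lgr Lrot150 (Lpr_cf (f616874 IH) (Lpe (f54358 IH) (Lpe (f33538 IH) (Lpr_gt (K31.f33528 IH) (Lpr_ct (K31.f33543 IH) (Lpe (f389469 IH) (Lpe (K68.f380772 IH) (Lpr_df (f399983 IH) (Lpr_cf (f618938 IH) (Lpn (LP (LK LD1_c29 LD2_c24 LD3_c20))))))))))))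
theorem f729191 : Led Lsl_gf (LP (LK LD1_c32 LD2_c3 LD3_c3)) = (LP (LK LD1_c26 LD2_c43 LD3_c29)) :=
  Lgr Lrot129 (Lpr_cf (f729175 IH) (Lpr_bt (f729185 IH) (Lpr_gt (f390370 IH) (Lpr_bf (f579308 IH) (Lpe (K45.f579293 IH) (Lpr_gt (K39.f411708 IH) (Lpe (K39.f385513 IH) (Lpr_bt (K43.f411716 IH) (Lpr_gt (f618942 IH) (Lpe (f618938 IH) (Lpn (LP (LK LD1_c26 LD2_c43 LD3_c29)))))))))))))
theorem f295398 : Led Lsl_ff (LP (LK LD1_c18 LD2_c44 LD3_c11)) = (LP (LK LD1_c19 LD2_c28 LD3_c9)) :=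
  Lgr Lrot3 (Lpr_ft (f295393 IH) (Lpn (LP (LK LD1_c19 LD2_c28 LD3_c9))))
theorem f33548 : Led Lsl_at (LP (LK LD1_c18 LD2_c44 LD3_c11)) = (LP (LK LD1_c28 LD2_c14 LD3_c11)) :=
  Lre_a IH (LK LD1_c18 LD2_c44 LD3_c11) (LK LD1_c28 LD2_c14 LD3_c11) Lrfl Lrfl
theorem f295401 : Led Lsl_gf (LP (LK LD1_c28 LD2_c14 LD3_c11)) = (LP (LK LD1_c28 LD2_c50 LD3_c22)) :=
  Lgr Lrot76 (Lpe (f33548 IH) (Lpr_ff (f295398 IH) (Lpr_gt (f295400 IH) (Lpn (LP (LK LD1_c28 LD2_c50 LD3_c22))))))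
theorem f33486 : Led Lsl_ct (LP (LK LD1_c18 LD2_c44 LD3_c8)) = (LP (LK LD1_c28 LD2_c14 LD3_c11)) :=
  Lre_c IH (LK LD1_c18 LD2_c44 LD3_c8) (LK LD1_c28 LD2_c14 LD3_c11) Lrfl Lrfl
theorem f245401 : Led Lsl_ct (LP (LK LD1_c16 LD2_c44 LD3_c34)) = (LP (LK LD1_c26 LD2_c43 LD3_c30)) :=
  Lre_c IH (LK LD1_c16 LD2_c44 LD3_c34) (LK LD1_c26 LD2_c43 LD3_c30) Lrfl Lrfl
theorem f386453 : Led Lsl_ct (LP (LK LD1_c19 LD2_c33 LD3_c28)) = (LP (LK LD1_c28 LD2_c55 LD3_c35)) :=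
  Lre_c IH (LK LD1_c19 LD2_c33 LD3_c28) (LK LD1_c28 LD2_c55 LD3_c35) Lrfl Lrfl
theorem f245402 : Led Lsl_ct (LP (LK LD1_c26 LD2_c43 LD3_c30)) = (LP (LK LD1_c16 LD2_c44 LD3_c34)) :=
  Lre_c IH (LK LD1_c26 LD2_c43 LD3_c30) (LK LD1_c16 LD2_c44 LD3_c34) Lrfl Lrfl
theorem f399990 : Led Lsl_gt (LP (LK LD1_c28 LD2_c55 LD3_c35)) = (LP (LK LD1_c26 LD2_c43 LD3_c30)) :=
  Lgr Lrot187 (Lpe (f386453 IH) (Lpe (K67.f399698 IH) (Lpr_dt (K31.f224516 IH) (Lpe (K30.f224494 IH) (Lpr_ct (K54.f387559 IH) (Lpr_gt (K30.f380748 IH) (Lpe (K24.f380731 IH) (Lpr_dt (K54.f399979 IH) (Lpe (f245402 IH) (Lpn (LP (LK LD1_c26 LD2_c43 LD3_c30))))))))))))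
theorem f386445 : Led Lsl_bt (LP (LK LD1_c19 LD2_c33 LD3_c28)) = (LP (LK LD1_c25 LD2_c32 LD3_c35)) :=
  Lgr Lrot95 (Lpe (K67.f245273 IH) (Lpr_bf (K31.f386439 IH) (Lpe (f371500 IH) (Lpn (LP (LK LD1_c25 LD2_c32 LD3_c35))))))
theorem f729195 : Led Lsl_gt (LP (LK LD1_c18 LD2_c44 LD3_c27)) = (LP (LK LD1_c25 LD2_c32 LD3_c35)) :=
  Lgr Lrot164 (Lpr_bf (K21.f33477 IH) (Lpr_ct (f33486 IH) (Lpr_gf (f295401 IH) (Lpe (f729177 IH) (Lpr_gf (f729191 IH) (Lpe (f399982 IH) (Lpr_ct (f245401 IH) (Lpe (f399990 IH) (Lpe (f386453 IH) (Lpr_bt (f386445 IH) (Lpn (LP (LK LD1_c25 LD2_c32 LD3_c35)))))))))))))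
theorem f946349 : Led Lsl_gt (LP (LK LD1_c25 LD2_c32 LD3_c34)) = (LP (LK LD1_c18 LD2_c44 LD3_c27)) :=
  Lgr Lrot5 (Lpr_ft (f946348 IH) (Lpe (f946344 IH) (Lpe (f729195 IH) (Lpn (LP (LK LD1_c18 LD2_c44 LD3_c27))))))
theorem f946350 : Led Lsl_gt (LP (LK LD1_c25 LD2_c32 LD3_c34)) = (LP (LK LD1_c18 LD2_c44 LD3_c27)) :=
  Leop (Lpe (f946349 IH) (Lpn (LP (LK LD1_c25 LD2_c32 LD3_c34))))
theorem seed_2720 : LEOK LG_g (LK LD1_c25 LD2_c32 LD3_c34) :=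
  Leoe_g (LK LD1_c25 LD2_c32 LD3_c34) (f946350 IH)
def v44698 : LQ := Led Lsl_ft (LP (LK LD1_c10 LD2_c48 LD3_c2))
theorem f946611 : Led Lsl_ft (LP (LK LD1_c10 LD2_c48 LD3_c2)) = v44698 :=
  Lrfl
theorem f279127 : Led Lsl_gt (LP (LK LD1_c10 LD2_c48 LD3_c2)) = (LP (LK LD1_c19 LD2_c32 LD3_c14)) :=
  Lre_g IH (LK LD1_c10 LD2_c48 LD3_c2) (LK LD1_c19 LD2_c32 LD3_c14) Lrfl Lrfl
theorem f341291 : Led Lsl_ft (LP (LK LD1_c10 LD2_c48 LD3_c7)) = (LP (LK LD1_c5 LD2_c28 LD3_c30)) :=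
  Lre_f IH (LK LD1_c10 LD2_c48 LD3_c7) (LK LD1_c5 LD2_c28 LD3_c30) Lrfl Lrfl
theorem f946612 : Led Lsl_af (LP (LK LD1_c10 LD2_c48 LD3_c7)) = v44698 :=
  Lgr Lrot45 (Lpr_ft (f341291 IH) (Lpr_at (K17.f289146 IH) (Lpr_ft (f946611 IH) (Lpn v44698))))
theorem f946616 : Led Lsl_gt (LP (LK LD1_c19 LD2_c32 LD3_c14)) = (LP (LK LD1_c10 LD2_c48 LD3_c7)) :=
  Lgr Lrot46 (Lpe (f279127 IH) (Lpr_ft (f946611 IH) (Lpe (f946612 IH) (Lpn (LP (LK LD1_c10 LD2_c48 LD3_c7))))))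
theorem f946617 : Led Lsl_gt (LP (LK LD1_c19 LD2_c32 LD3_c14)) = (LP (LK LD1_c10 LD2_c48 LD3_c7)) :=
  Leop (Lpe (f946616 IH) (Lpn (LP (LK LD1_c19 LD2_c32 LD3_c14))))
theorem seed_2721 : LEOK LG_g (LK LD1_c19 LD2_c32 LD3_c14) :=
  Leoe_g (LK LD1_c19 LD2_c32 LD3_c14) (f946617 IH)
def v44937 : LQ := Led Lsl_ct (LP (LK LD1_c10 LD2_c51 LD3_c25))
theorem f947520 : Led Lsl_ct (LP (LK LD1_c10 LD2_c51 LD3_c25)) = v44937 :=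
  Lrfl
theorem f947522 : Led Lsl_cf (LP (LK LD1_c10 LD2_c51 LD3_c25)) = v44937 :=
  Lgr Lrot11 (Lpr_ct (f947520 IH) (Lpn v44937))
theorem f894951 : Led Lsl_gt (LP (LK LD1_c19 LD2_c37 LD3_c24)) = (LP (LK LD1_c10 LD2_c51 LD3_c25)) :=
  Lre_g IH (LK LD1_c19 LD2_c37 LD3_c24) (LK LD1_c10 LD2_c51 LD3_c25) Lrfl Lrfl
theorem f894947 : Led Lsl_ct (LP (LK LD1_c10 LD2_c52 LD3_c36)) = (LP (LK LD1_c19 LD2_c37 LD3_c24)) :=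
  Lre_c IH (LK LD1_c10 LD2_c52 LD3_c36) (LK LD1_c19 LD2_c37 LD3_c24) Lrfl Lrfl
def v37497 : LQ := Led Lsl_ft (LP (LK LD1_c8 LD2_c56 LD3_c50))
theorem f894933 : Led Lsl_ft (LP (LK LD1_c8 LD2_c56 LD3_c50)) = v37497 :=
  Lrfl
theorem f894937 : Led Lsl_ff (LP (LK LD1_c8 LD2_c56 LD3_c50)) = v37497 :=
  Lgr Lrot3 (Lpr_ft (f894933 IH) (Lpn v37497))
theorem f245712 : Led Lsl_bf (LP (LK LD1_c5 LD2_c30 LD3_c30)) = (LP (LK LD1_c8 LD2_c56 LD3_c50)) :=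
  Lgr Lrot24 (Lpr_bt (K13.f245704 IH) (Lpn (LP (LK LD1_c8 LD2_c56 LD3_c50))))
theorem f385176 : Led Lsl_ft (LP (LK LD1_c5 LD2_c30 LD3_c30)) = (LP (LK LD1_c10 LD2_c52 LD3_c36)) :=
  Lre_f IH (LK LD1_c5 LD2_c30 LD3_c30) (LK LD1_c10 LD2_c52 LD3_c36) Lrfl Lrfl
theorem f894940 : Led Lsl_bt (LP (LK LD1_c10 LD2_c52 LD3_c36)) = v37497 :=
  Lgr Lrot35 (Lpe (f385176 IH) (Lpr_bf (f245712 IH) (Lpr_ff (f894937 IH) (Lpn v37497))))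
def v12708 : LQ := Led Lsl_ft (LP (LK LD1_c4 LD2_c29 LD3_c19))
theorem f697746 : Led Lsl_ft (LP (LK LD1_c4 LD2_c29 LD3_c19)) = v12708 :=
  Lrfl
theorem f894939 : Led Lsl_at v12708 = v37497 :=
  Lgr Lrot66 (Lpe (f697746 IH) (Lpe (K54.f245708 IH) (Lpr_ff (f894937 IH) (Lpn v37497))))
theorem f167696 : Led Lsl_gt (LP (LK LD1_c4 LD2_c29 LD3_c19)) = (LP (LK LD1_c8 LD2_c56 LD3_c55)) :=
  Lre_g IH (LK LD1_c4 LD2_c29 LD3_c19) (LK LD1_c8 LD2_c56 LD3_c55) Lrfl Lrfl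
theorem f894952 : Led Lsl_gt (LP (LK LD1_c8 LD2_c56 LD3_c55)) = v37497 :=
  Lgr Lrot46 (Lpe (f167696 IH) (Lpr_ft (f697746 IH) (Lpr_at (f894939 IH) (Lpn v37497))))
theorem f167703 : Led Lsl_bt (LP (LK LD1_c16 LD2_c45 LD3_c12)) = (LP (LK LD1_c8 LD2_c56 LD3_c55)) :=
  Lre_b IH (LK LD1_c16 LD2_c45 LD3_c12) (LK LD1_c8 LD2_c56 LD3_c55) Lrfl Lrfl
theorem f331168 : Led Lsl_gt (LP (LK LD1_c10 LD2_c51 LD3_c25)) = (LP (LK LD1_c5 LD2_c30 LD3_c2)) :=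
  Lre_g IH (LK LD1_c10 LD2_c51 LD3_c25) (LK LD1_c5 LD2_c30 LD3_c2) Lrfl Lrfl
theorem f175216 : Led Lsl_ct (LP (LK LD1_c2 LD2_c41 LD3_c31)) = (LP (LK LD1_c5 LD2_c30 LD3_c2)) :=
  Lre_c IH (LK LD1_c2 LD2_c41 LD3_c31) (LK LD1_c5 LD2_c30 LD3_c2) Lrfl Lrfl
theorem f245750 : Led Lsl_bt (LP (LK LD1_c2 LD2_c41 LD3_c31)) = (LP (LK LD1_c1 LD2_c17 LD3_c27)) :=
  Lre_b IH (LK LD1_c2 LD2_c41 LD3_c31) (LK LD1_c1 LD2_c17 LD3_c27) Lrfl Lrfl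
theorem f326531 : Led Lsl_bt (LP (LK LD1_c2 LD2_c45 LD3_c45)) = (LP (LK LD1_c5 LD2_c39 LD3_c35)) :=
  Lre_b IH (LK LD1_c2 LD2_c45 LD3_c45) (LK LD1_c5 LD2_c39 LD3_c35) Lrfl Lrfl
theorem f326564 : Led Lsl_gt (LP (LK LD1_c5 LD2_c39 LD3_c35)) = (LP (LK LD1_c11 LD2_c10 LD3_c11)) :=
  Lre_g IH (LK LD1_c5 LD2_c39 LD3_c35) (LK LD1_c11 LD2_c10 LD3_c11) Lrfl Lrfl
theorem f947525 : Led Lsl_bf (LP (LK LD1_c11 LD2_c10 LD3_c11)) = v44937 :=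
  Lgr Lrot34 (Lpe (f326564 IH) (Lpe (f326531 IH) (Lpr_ct (K22.f326491 IH) (Lpr_gf (K21.f326557 IH) (Lpe (K54.f331100 IH) (Lpe (K19.f175251 IH) (Lpe (f245750 IH) (Lpr_ct (f175216 IH) (Lpe (f331168 IH) (Lpr_cf (f947522 IH) (Lpn v44937)))))))))))
theorem f179497 : Led Lsl_gt (LP (LK LD1_c11 LD2_c10 LD3_c11)) = (LP (LK LD1_c5 LD2_c39 LD3_c31)) :=
  Lre_g IH (LK LD1_c11 LD2_c10 LD3_c11) (LK LD1_c5 LD2_c39 LD3_c31) Lrfl Lrfl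
theorem f354542 : Led Lsl_ct (LP (LK LD1_c5 LD2_c39 LD3_c31)) = (LP (LK LD1_c11 LD2_c9 LD3_c13)) :=
  Lre_c IH (LK LD1_c5 LD2_c39 LD3_c31) (LK LD1_c11 LD2_c9 LD3_c13) Lrfl Lrfl
theorem f354574 : Led Lsl_gt (LP (LK LD1_c11 LD2_c9 LD3_c13)) = (LP (LK LD1_c20 LD2_c3 LD3_c18)) :=
  Lre_g IH (LK LD1_c11 LD2_c9 LD3_c13) (LK LD1_c20 LD2_c3 LD3_c18) Lrfl Lrfl
theorem f947527 : Led Lsl_ct (LP (LK LD1_c16 LD2_c45 LD3_c12)) = (LP (LK LD1_c20 LD2_c3 LD3_c18)) :=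
  Lgr Lrot63 (Lpr_bt (f167703 IH) (Lpr_gt (f894952 IH) (Lpe (f894940 IH) (Lpr_ct (f894947 IH) (Lpr_gt (f894951 IH) (Lpr_cf (f947522 IH) (Lpe (f947525 IH) (Lpr_gt (f179497 IH) (Lpr_ct (f354542 IH) (Lpr_gt (f354574 IH) (Lpn (LP (LK LD1_c20 LD2_c3 LD3_c18)))))))))))))
theorem f947528 : Led Lsl_ct (LP (LK LD1_c16 LD2_c45 LD3_c12)) = (LP (LK LD1_c20 LD2_c3 LD3_c18)) :=
  Leop (Lpe (f947527 IH) (Lpn (LP (LK LD1_c16 LD2_c45 LD3_c12))))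
theorem seed_2722 : LEOK LG_c (LK LD1_c16 LD2_c45 LD3_c12) :=
  Leoe_c (LK LD1_c16 LD2_c45 LD3_c12) (f947528 IH)
def v45010 : LQ := Led Lsl_gf (LP (LK LD1_c10 LD2_c52 LD3_c38))
theorem f947765 : Led Lsl_gf (LP (LK LD1_c10 LD2_c52 LD3_c38)) = v45010 :=
  Lrfl
theorem f732725 : Led Lsl_cf (LP (LK LD1_c10 LD2_c56 LD3_c56)) = K54.v15179 :=
  Lgr Lrot166 (Lpr_gt (K54.f281490 IH) (Lpr_dt (K54.f281489 IH) (Lpr_gt (K54.f732379 IH) (Lpr_dt (K30.f179141 IH) (Lpr_ct (K27.f179138 IH) (Lpe (K54.f179147 IH) (Lpr_gf (K54.f732713 IH) (Lpe (K54.f389321 IH) (Lpr_gf (K54.f732722 IH) (Lpn K54.v15179))))))))))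
theorem f732723 : Led Lsl_gt (LP (LK LD1_c16 LD2_c45 LD3_c31)) = K54.v15179 :=
  Lgr Lrot5 (Lpr_ft (K41.f403823 IH) (Lpr_at (K54.f404229 IH) (Lpr_gf (K54.f732722 IH) (Lpn K54.v15179))))
theorem f179170 : Led Lsl_bt (LP (LK LD1_c2 LD2_c48 LD3_c35)) = (LP (LK LD1_c5 LD2_c45 LD3_c36)) :=
  Lre_b IH (LK LD1_c2 LD2_c48 LD3_c35) (LK LD1_c5 LD2_c45 LD3_c36) Lrfl Lrfl
theorem f392153 : Led Lsl_cf (LP (LK LD1_c17 LD2_c56 LD3_c27)) = (LP (LK LD1_c16 LD2_c56 LD3_c29)) :=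
  Lgr Lrot166 (Lpr_gt (K41.f140456 IH) (Lpe (K30.f384278 IH) (Lpr_gt (K31.f167113 IH) (Lpe (K41.f384537 IH) (Lpr_ct (K30.f221040 IH) (Lpr_df (K30.f384343 IH) (Lpr_gf (K31.f392148 IH) (Lpe (K31.f391738 IH) (Lpe (K41.f173436 IH) (Lpn (LP (LK LD1_c16 LD2_c56 LD3_c29))))))))))))
theorem f741095 : Led Lsl_bt (LP (LK LD1_c16 LD2_c56 LD3_c29)) = K69.v15722 :=
  Lgr Lrot92 (Lpe (f392153 IH) (Lpr_gt (K41.f140456 IH) (Lpe (K20.f140453 IH) (Lpr_bt (K30.f318591 IH) (Lpr_gt (K67.f399551 IH) (Lpr_ct (K54.f172883 IH) (Lpe (K67.f404901 IH) (Lpe (K54.f179171 IH) (Lpr_bt (f179170 IH) (Lpr_gt (K69.f741092 IH) (Lpn K69.v15722)))))))))))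
theorem f741096 : Led Lsl_bf (LP (LK LD1_c16 LD2_c56 LD3_c29)) = K69.v15722 :=
  Lgr Lrot24 (Lpr_bt (f741095 IH) (Lpn K69.v15722))
theorem f41193 : Led Lsl_bt (LP (LK LD1_c24 LD2_c48 LD3_c55)) = (LP (LK LD1_c15 LD2_c1 LD3_c8)) :=
  Lre_b IH (LK LD1_c24 LD2_c48 LD3_c55) (LK LD1_c15 LD2_c1 LD3_c8) Lrfl Lrfl
theorem f281650 : Led Lsl_ct (LP (LK LD1_c5 LD2_c33 LD3_c50)) = (LP (LK LD1_c10 LD2_c59 LD3_c38)) :=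
  Lre_c IH (LK LD1_c5 LD2_c33 LD3_c50) (LK LD1_c10 LD2_c59 LD3_c38) Lrfl Lrfl
theorem f216950 : Led Lsl_bt (LP (LK LD1_c10 LD2_c56 LD3_c13)) = (LP (LK LD1_c5 LD2_c32 LD3_c17)) :=
  Lre_b IH (LK LD1_c10 LD2_c56 LD3_c13) (LK LD1_c5 LD2_c32 LD3_c17) Lrfl Lrfl
theorem f216955 : Led Lsl_ct (LP (LK LD1_c19 LD2_c45 LD3_c7)) = (LP (LK LD1_c10 LD2_c56 LD3_c13)) :=
  Lre_c IH (LK LD1_c19 LD2_c45 LD3_c7) (LK LD1_c10 LD2_c56 LD3_c13) Lrfl Lrfl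
theorem f281651 : Led Lsl_bt (LP (LK LD1_c10 LD2_c59 LD3_c38)) = (LP (LK LD1_c19 LD2_c45 LD3_c7)) :=
  Lgr Lrot128 (Lpe (f281650 IH) (Lpr_bf (K41.f281646 IH) (Lpe (K54.f281635 IH) (Lpe (f216950 IH) (Lpe (f216955 IH) (Lpn (LP (LK LD1_c19 LD2_c45 LD3_c7))))))))
theorem f281653 : Led Lsl_bf (LP (LK LD1_c10 LD2_c59 LD3_c38)) = (LP (LK LD1_c19 LD2_c45 LD3_c7)) :=
  Lgr Lrot24 (Lpr_bt (f281651 IH) (Lpn (LP (LK LD1_c19 LD2_c45 LD3_c7))))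
theorem f216956 : Led Lsl_gt (LP (LK LD1_c19 LD2_c45 LD3_c5)) = (LP (LK LD1_c10 LD2_c56 LD3_c13)) :=
  Lre_g IH (LK LD1_c19 LD2_c45 LD3_c5) (LK LD1_c10 LD2_c56 LD3_c13) Lrfl Lrfl
theorem f392536 : Led Lsl_ct (LP (LK LD1_c24 LD2_c48 LD3_c55)) = (LP (LK LD1_c19 LD2_c45 LD3_c5)) :=
  Lgr Lrot64 (Lpr_bt (f41193 IH) (Lpr_gf (K12.f173824 IH) (Lpe (K30.f173639 IH) (Lpr_ct (K16.f173631 IH) (Lpe (K30.f173629 IH) (Lpe (K30.f173635 IH) (Lpr_gf (K38.f392387 IH) (Lpr_bf (f281653 IH) (Lpr_ct (f216955 IH) (Lpe (f216956 IH) (Lpn (LP (LK LD1_c19 LD2_c45 LD3_c5)))))))))))))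
theorem f392543 : Led Lsl_gt (LP (LK LD1_c25 LD2_c12 LD3_c18)) = (LP (LK LD1_c19 LD2_c45 LD3_c5)) :=
  Lgr Lrot65 (Lpr_cf (K13.f196446 IH) (Lpe (K41.f196440 IH) (Lpe (K31.f390092 IH) (Lpr_bf (K31.f390095 IH) (Lpr_ct (K31.f41194 IH) (Lpe (K31.f41177 IH) (Lpe (K1.f41145 IH) (Lpe (K12.f41181 IH) (Lpe (f41193 IH) (Lpr_ct (f392536 IH) (Lpn (LP (LK LD1_c19 LD2_c45 LD3_c5)))))))))))))
theorem f392545 : Led Lsl_at (LP (LK LD1_c19 LD2_c45 LD3_c6)) = (LP (LK LD1_c10 LD2_c56 LD3_c13)) :=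
  Lre_a IH (LK LD1_c19 LD2_c45 LD3_c6) (LK LD1_c10 LD2_c56 LD3_c13) Lrfl Lrfl
theorem f392546 : Led Lsl_ft (LP (LK LD1_c25 LD2_c12 LD3_c18)) = (LP (LK LD1_c19 LD2_c45 LD3_c6)) :=
  Lgr Lrot2 (Lpr_gt (f392543 IH) (Lpr_gt (f216956 IH) (Lpe (f392545 IH) (Lpn (LP (LK LD1_c19 LD2_c45 LD3_c6))))))
theorem f404092 : Led Lsl_ft (LP (LK LD1_c10 LD2_c56 LD3_c13)) = (LP (LK LD1_c16 LD2_c45 LD3_c30)) :=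
  Lgr Lrot101 (Lpe (f392545 IH) (Lpe (f392546 IH) (Lpr_af (K41.f404084 IH) (Lpn (LP (LK LD1_c16 LD2_c45 LD3_c30))))))
theorem f404094 : Led Lsl_ff (LP (LK LD1_c19 LD2_c45 LD3_c7)) = (LP (LK LD1_c15 LD2_c2 LD3_c20)) :=
  Lgr Lrot23 (Lpr_ct (f216955 IH) (Lpr_ft (f404092 IH) (Lpr_ct (K31.f218739 IH) (Lpn (LP (LK LD1_c15 LD2_c2 LD3_c20))))))
theorem f404100 : Led Lsl_ft (LP (LK LD1_c19 LD2_c45 LD3_c7)) = (LP (LK LD1_c15 LD2_c2 LD3_c20)) :=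
  Lgr Lrot48 (Lpr_ff (f404094 IH) (Lpn (LP (LK LD1_c15 LD2_c2 LD3_c20))))
theorem f404082 : Led Lsl_af (LP (LK LD1_c24 LD2_c48 LD3_c42)) = (LP (LK LD1_c15 LD2_c2 LD3_c20)) :=
  Lgr Lrot0 (Lpr_at (K41.f404080 IH) (Lpn (LP (LK LD1_c15 LD2_c2 LD3_c20))))
theorem f219058 : Led Lsl_bt (LP (LK LD1_c15 LD2_c2 LD3_c19)) = (LP (LK LD1_c24 LD2_c50 LD3_c50)) :=
  Lre_b IH (LK LD1_c15 LD2_c2 LD3_c19) (LK LD1_c24 LD2_c50 LD3_c50) Lrfl Lrfl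
theorem f404070 : Led Lsl_ft (LP (LK LD1_c24 LD2_c48 LD3_c42)) = (LP (LK LD1_c15 LD2_c2 LD3_c19)) :=
  Lgr Lrot75 (Lpe (K13.f196437 IH) (Lpr_ff (K41.f404068 IH) (Lpe (f219058 IH) (Lpn (LP (LK LD1_c15 LD2_c2 LD3_c19))))))
theorem f404102 : Led Lsl_af (LP (LK LD1_c19 LD2_c45 LD3_c7)) = (LP (LK LD1_c15 LD2_c2 LD3_c19)) :=
  Lgr Lrot45 (Lpr_ft (f404100 IH) (Lpe (f404082 IH) (Lpr_ft (f404070 IH) (Lpn (LP (LK LD1_c15 LD2_c2 LD3_c19))))))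
theorem f403791 : Led Lsl_af (LP (LK LD1_c16 LD2_c47 LD3_c16)) = (LP (LK LD1_c10 LD2_c59 LD3_c38)) :=
  Lgr Lrot68 (Lpr_ct (K20.f318413 IH) (Lpr_at (K41.f403787 IH) (Lpr_ct (f281650 IH) (Lpn (LP (LK LD1_c10 LD2_c59 LD3_c38))))))
theorem f404104 : Led Lsl_at (LP (LK LD1_c15 LD2_c20 LD3_c5)) = (LP (LK LD1_c24 LD2_c50 LD3_c50)) :=
  Lgr Lrot67 (Lpe (K20.f318393 IH) (Lpr_af (f403791 IH) (Lpr_bf (f281653 IH) (Lpr_af (f404102 IH) (Lpe (K31.f219055 IH) (Lpn (LP (LK LD1_c24 LD2_c50 LD3_c50))))))))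
theorem f404106 : Led Lsl_ff (LP (LK LD1_c15 LD2_c20 LD3_c5)) = (LP (LK LD1_c19 LD2_c49 LD3_c20)) :=
  Lgr Lrot30 (Lpr_at (f404104 IH) (Lpe (K41.f404068 IH) (Lpr_at (K41.f404064 IH) (Lpn (LP (LK LD1_c19 LD2_c49 LD3_c20))))))
theorem f53047 : Led Lsl_dt (LP (LK LD1_c15 LD2_c20 LD3_c5)) = (LP (LK LD1_c25 LD2_c11 LD3_c20)) :=
  Lre_d IH (LK LD1_c15 LD2_c20 LD3_c5) (LK LD1_c25 LD2_c11 LD3_c20) Lrfl Lrfl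
theorem f238382 : Led Lsl_dt (LP (LK LD1_c29 LD2_c6 LD3_c51)) = (LP (LK LD1_c19 LD2_c49 LD3_c20)) :=
  Lre_d IH (LK LD1_c29 LD2_c6 LD3_c51) (LK LD1_c19 LD2_c49 LD3_c20) Lrfl Lrfl
theorem f404108 : Led Lsl_ft (LP (LK LD1_c25 LD2_c11 LD3_c20)) = (LP (LK LD1_c29 LD2_c6 LD3_c51)) :=
  Lgr Lrot54 (Lpe (f53047 IH) (Lpr_ff (f404106 IH) (Lpe (f238382 IH) (Lpn (LP (LK LD1_c29 LD2_c6 LD3_c51))))))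
theorem f404112 : Led Lsl_ff (LP (LK LD1_c25 LD2_c11 LD3_c20)) = (LP (LK LD1_c29 LD2_c6 LD3_c51)) :=
  Lgr Lrot3 (Lpr_ft (f404108 IH) (Lpn (LP (LK LD1_c29 LD2_c6 LD3_c51))))
theorem f318410 : Led Lsl_bf (LP (LK LD1_c26 LD2_c45 LD3_c43)) = (LP (LK LD1_c25 LD2_c11 LD3_c20)) :=
  Lgr Lrot93 (Lpr_dt (K30.f318409 IH) (Lpr_bt (K20.f318393 IH) (Lpr_dt (f53047 IH) (Lpn (LP (LK LD1_c25 LD2_c11 LD3_c20))))))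
theorem f384643 : Led Lsl_bt (LP (LK LD1_c19 LD2_c49 LD3_c21)) = (LP (LK LD1_c29 LD2_c6 LD3_c51)) :=
  Lre_b IH (LK LD1_c19 LD2_c49 LD3_c21) (LK LD1_c29 LD2_c6 LD3_c51) Lrfl Lrfl
theorem f404114 : Led Lsl_ft (LP (LK LD1_c26 LD2_c45 LD3_c43)) = (LP (LK LD1_c19 LD2_c49 LD3_c21)) :=
  Lgr Lrot75 (Lpr_bf (f318410 IH) (Lpr_ff (f404112 IH) (Lpe (f384643 IH) (Lpn (LP (LK LD1_c19 LD2_c49 LD3_c21))))))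
theorem f404116 : Led Lsl_af (LP (LK LD1_c28 LD2_c55 LD3_c5)) = (LP (LK LD1_c19 LD2_c49 LD3_c21)) :=
  Lgr Lrot31 (Lpe (K30.f384419 IH) (Lpr_gf (K30.f384228 IH) (Lpr_ft (f404114 IH) (Lpn (LP (LK LD1_c19 LD2_c49 LD3_c21))))))
theorem f404120 : Led Lsl_at (LP (LK LD1_c19 LD2_c42 LD3_c31)) = (LP (LK LD1_c10 LD2_c58 LD3_c55)) :=
  Lgr Lrot51 (Lpr_df (K30.f384421 IH) (Lpr_af (f404116 IH) (Lpe (K30.f238397 IH) (Lpn (LP (LK LD1_c10 LD2_c58 LD3_c55))))))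
theorem f318581 : Led Lsl_et (LP (LK LD1_c29 LD2_c2 LD3_c32)) = (LP (LK LD1_c19 LD2_c42 LD3_c31)) :=
  Lre_e IH (LK LD1_c29 LD2_c2 LD3_c32) (LK LD1_c19 LD2_c42 LD3_c31) Lrfl Lrfl
theorem f384654 : Led Lsl_et (LP (LK LD1_c10 LD2_c58 LD3_c55)) = (LP (LK LD1_c19 LD2_c49 LD3_c22)) :=
  Lre_e IH (LK LD1_c10 LD2_c58 LD3_c55) (LK LD1_c19 LD2_c49 LD3_c22) Lrfl Lrfl
theorem f404126 : Led Lsl_af (LP (LK LD1_c29 LD2_c2 LD3_c32)) = (LP (LK LD1_c19 LD2_c49 LD3_c22)) :=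
  Lgr Lrot50 (Lpr_et (f318581 IH) (Lpr_at (f404120 IH) (Lpr_et (f384654 IH) (Lpn (LP (LK LD1_c19 LD2_c49 LD3_c22))))))
theorem f404142 : Led Lsl_ct (LP (LK LD1_c10 LD2_c58 LD3_c57)) = (LP (LK LD1_c19 LD2_c49 LD3_c22)) :=
  Lre_c IH (LK LD1_c10 LD2_c58 LD3_c57) (LK LD1_c19 LD2_c49 LD3_c22) Lrfl Lrfl
theorem f404143 : Led Lsl_at (LP (LK LD1_c19 LD2_c49 LD3_c19)) = (LP (LK LD1_c10 LD2_c58 LD3_c57)) :=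
  Lre_a IH (LK LD1_c19 LD2_c49 LD3_c19) (LK LD1_c10 LD2_c58 LD3_c57) Lrfl Lrfl
theorem f404144 : Led Lsl_ct (LP (LK LD1_c29 LD2_c2 LD3_c32)) = (LP (LK LD1_c19 LD2_c49 LD3_c19)) :=
  Lgr Lrot111 (Lpr_af (f404126 IH) (Lpe (f404142 IH) (Lpe (f404143 IH) (Lpn (LP (LK LD1_c19 LD2_c49 LD3_c19))))))
theorem f404147 : Led Lsl_cf (LP (LK LD1_c29 LD2_c2 LD3_c32)) = (LP (LK LD1_c19 LD2_c49 LD3_c19)) :=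
  Lgr Lrot11 (Lpr_ct (f404144 IH) (Lpn (LP (LK LD1_c19 LD2_c49 LD3_c19))))
theorem f392525 : Led Lsl_et (LP (LK LD1_c10 LD2_c58 LD3_c54)) = (LP (LK LD1_c19 LD2_c49 LD3_c19)) :=
  Lre_e IH (LK LD1_c10 LD2_c58 LD3_c54) (LK LD1_c19 LD2_c49 LD3_c19) Lrfl Lrfl
theorem f404150 : Led Lsl_ct (LP (LK LD1_c19 LD2_c42 LD3_c31)) = (LP (LK LD1_c10 LD2_c58 LD3_c54)) :=
  Lgr Lrot15 (Lpe (f318581 IH) (Lpr_cf (f404147 IH) (Lpe (f392525 IH) (Lpn (LP (LK LD1_c10 LD2_c58 LD3_c54))))))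
theorem f318579 : Led Lsl_gt (LP (LK LD1_c10 LD2_c54 LD3_c33)) = (LP (LK LD1_c19 LD2_c42 LD3_c31)) :=
  Lgr Lrot5 (Lpe (K20.f318427 IH) (Lpr_at (K20.f318570 IH) (Lpe (K30.f174054 IH) (Lpn (LP (LK LD1_c19 LD2_c42 LD3_c31))))))
theorem f404152 : Led Lsl_dt (LP (LK LD1_c16 LD2_c56 LD3_c29)) = (LP (LK LD1_c10 LD2_c58 LD3_c54)) :=
  Lgr Lrot27 (Lpe (K41.f392151 IH) (Lpr_gf (K41.f384676 IH) (Lpe (K30.f140438 IH) (Lpr_gf (K30.f140436 IH) (Lpe (K30.f54769 IH) (Lpr_gt (K20.f173712 IH) (Lpr_ct (K30.f173661 IH) (Lpr_gt (f318579 IH) (Lpr_ct (f404150 IH) (Lpn (LP (LK LD1_c10 LD2_c58 LD3_c54))))))))))))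
theorem f403815 : Led Lsl_bf (LP (LK LD1_c16 LD2_c45 LD3_c31)) = (LP (LK LD1_c10 LD2_c58 LD3_c54)) :=
  Lgr Lrot24 (Lpr_bt (K41.f403813 IH) (Lpn (LP (LK LD1_c10 LD2_c58 LD3_c54))))
theorem f741097 : Led Lsl_dt (LP (LK LD1_c16 LD2_c45 LD3_c31)) = K69.v15722 :=
  Lgr Lrot79 (Lpr_bf (f403815 IH) (Lpe (f404152 IH) (Lpr_bf (f741096 IH) (Lpn K69.v15722))))
def v37725 : LQ := Led Lsl_ft (LP (LK LD1_c8 LD2_c59 LD3_c22))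
theorem f896183 : Led Lsl_ft (LP (LK LD1_c8 LD2_c59 LD3_c22)) = v37725 :=
  Lrfl
theorem f896185 : Led Lsl_ff (LP (LK LD1_c8 LD2_c59 LD3_c22)) = v37725 :=
  Lgr Lrot3 (Lpr_ft (f896183 IH) (Lpn v37725))
theorem f896186 : Led Lsl_bt K71.v12764 = v37725 :=
  Lgr Lrot35 (Lpe (K71.f698087 IH) (Lpe (K27.f173409 IH) (Lpr_ff (f896185 IH) (Lpn v37725))))
theorem f916235 : v37725 = (LP (LK LD1_c5 LD2_c45 LD3_c36)) :=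
  Lefun (Lecon (f896186 IH) (K71.f916219 IH)) (f179170 IH)
def v37723 : LQ := Led Lsl_at (LP (LK LD1_c8 LD2_c59 LD3_c22))
theorem f896175 : Led Lsl_at (LP (LK LD1_c8 LD2_c59 LD3_c22)) = v37723 :=
  Lrfl
theorem f916477 : Led Lsl_gt K69.v15722 = v37723 :=
  Lgr Lrot46 (Lpe (K69.f741092 IH) (Lpq (f916235 IH) (Lpe (f896185 IH) (Lpr_at (f896175 IH) (Lpn v37723)))))
theorem f947767 : Led Lsl_ct v37723 = v45010 :=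
  Lgr Lrot152 (Lpe (f916477 IH) (Lpe (f741097 IH) (Lpr_gt (f732723 IH) (Lpe (f732725 IH) (Lpr_gt (K54.f281490 IH) (Lpr_ct (K30.f168170 IH) (Lpr_df (K54.f399854 IH) (Lpe (K54.f175112 IH) (Lpr_gf (f947765 IH) (Lpn v45010))))))))))
theorem f173170 : Led Lsl_ct (LP (LK LD1_c2 LD2_c11 LD3_c50)) = (LP (LK LD1_c4 LD2_c29 LD3_c26)) :=
  Lre_c IH (LK LD1_c2 LD2_c11 LD3_c50) (LK LD1_c4 LD2_c29 LD3_c26) Lrfl Lrfl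
theorem f391359 : Led Lsl_df (LP (LK LD1_c4 LD2_c29 LD3_c34)) = (LP (LK LD1_c8 LD2_c56 LD3_c19)) :=
  Lgr Lrot38 (Lpr_dt (K54.f391357 IH) (Lpn (LP (LK LD1_c8 LD2_c56 LD3_c19))))
theorem f741098 : Led Lsl_ct (LP (LK LD1_c16 LD2_c43 LD3_c58)) = K69.v15722 :=
  Lgr Lrot151 (Lpe (K69.f169297 IH) (Lpe (K30.f169296 IH) (Lpe (K50.f173425 IH) (Lpe (f391359 IH) (Lpr_gt (K31.f232134 IH) (Lpr_ct (f173170 IH) (Lpr_gt (K31.f173539 IH) (Lpr_ct (K41.f218734 IH) (Lpr_dt (f741097 IH) (Lpn K69.v15722))))))))))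
theorem f896050 : Led Lsl_ft K69.v15722 = K69.v37699 :=
  Lgr Lrot4 (Lpe (f741098 IH) (Lpe (K69.f895489 IH) (Lpr_cf (K69.f896043 IH) (Lpn K69.v37699))))
theorem f404231 : Led Lsl_af (LP (LK LD1_c8 LD2_c59 LD3_c8)) = (LP (LK LD1_c5 LD2_c33 LD3_c25)) :=
  Lgr Lrot0 (Lpr_at (K54.f404229 IH) (Lpn (LP (LK LD1_c5 LD2_c33 LD3_c25))))
theorem f896039 : Led Lsl_af (LP (LK LD1_c10 LD2_c58 LD3_c46)) = K69.v37699 :=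
  Lgr Lrot117 (Lpr_dt (K54.f389320 IH) (Lpe (f404231 IH) (Lpr_dt (K69.f896038 IH) (Lpn K69.v37699))))
theorem f916478 : Led Lsl_gf (LP (LK LD1_c10 LD2_c58 LD3_c46)) = v37723 :=
  Lgr Lrot76 (Lpr_af (f896039 IH) (Lpe (f896050 IH) (Lpr_gt (f916477 IH) (Lpn v37723))))
theorem f890626 : Led Lsl_dt (LP (LK LD1_c8 LD2_c58 LD3_c53)) = (LP (LK LD1_c16 LD2_c48 LD3_c0)) :=
  Lre_d IH (LK LD1_c8 LD2_c58 LD3_c53) (LK LD1_c16 LD2_c48 LD3_c0) Lrfl Lrfl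
theorem f890675 : Led Lsl_dt (LP (LK LD1_c16 LD2_c48 LD3_c19)) = (LP (LK LD1_c8 LD2_c59 LD3_c9)) :=
  Lre_d IH (LK LD1_c16 LD2_c48 LD3_c19) (LK LD1_c8 LD2_c59 LD3_c9) Lrfl Lrfl
theorem f890648 : Led Lsl_ft (LP (LK LD1_c16 LD2_c48 LD3_c0)) = (LP (LK LD1_c8 LD2_c59 LD3_c11)) :=
  Lre_f IH (LK LD1_c16 LD2_c48 LD3_c0) (LK LD1_c8 LD2_c59 LD3_c11) Lrfl Lrfl
theorem f890670 : Led Lsl_at (LP (LK LD1_c8 LD2_c59 LD3_c11)) = (LP (LK LD1_c16 LD2_c48 LD3_c19)) :=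
  Lre_a IH (LK LD1_c8 LD2_c59 LD3_c11) (LK LD1_c16 LD2_c48 LD3_c19) Lrfl Lrfl
theorem f890671 : Led Lsl_gt (LP (LK LD1_c19 LD2_c37 LD3_c7)) = (LP (LK LD1_c16 LD2_c48 LD3_c19)) :=
  Lgr Lrot46 (Lpr_gf (K69.f890666 IH) (Lpr_ft (f890648 IH) (Lpr_at (f890670 IH) (Lpn (LP (LK LD1_c16 LD2_c48 LD3_c19))))))
theorem f732173 : Led Lsl_ft (LP (LK LD1_c5 LD2_c32 LD3_c37)) = (LP (LK LD1_c8 LD2_c57 LD3_c23)) :=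
  Lgr Lrot48 (Lpr_ff (K54.f732171 IH) (Lpn (LP (LK LD1_c8 LD2_c57 LD3_c23))))
theorem f732356 : Led Lsl_af (LP (LK LD1_c5 LD2_c32 LD3_c35)) = (LP (LK LD1_c8 LD2_c57 LD3_c23)) :=
  Lgr Lrot45 (Lpr_ft (K54.f732354 IH) (Lpe (K54.f732345 IH) (Lpr_ft (f732173 IH) (Lpn (LP (LK LD1_c8 LD2_c57 LD3_c23))))))
theorem f732382 : Led Lsl_gf (LP (LK LD1_c10 LD2_c56 LD3_c56)) = (LP (LK LD1_c5 LD2_c32 LD3_c37)) :=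
  Lgr Lrot47 (Lpr_gt (K54.f281490 IH) (Lpr_af (f732356 IH) (Lpe (f732173 IH) (Lpn (LP (LK LD1_c5 LD2_c32 LD3_c37))))))
theorem f281527 : Led Lsl_dt (LP (LK LD1_c10 LD2_c56 LD3_c56)) = (LP (LK LD1_c19 LD2_c46 LD3_c37)) :=
  Lre_d IH (LK LD1_c10 LD2_c56 LD3_c56) (LK LD1_c19 LD2_c46 LD3_c37) Lrfl Lrfl
theorem f168136 : Led Lsl_dt (LP (LK LD1_c1 LD2_c17 LD3_c48)) = (LP (LK LD1_c2 LD2_c42 LD3_c30)) :=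
  Lre_d IH (LK LD1_c1 LD2_c17 LD3_c48) (LK LD1_c2 LD2_c42 LD3_c30) Lrfl Lrfl
theorem f179287 : Led Lsl_ct (LP (LK LD1_c8 LD2_c56 LD3_c12)) = (LP (LK LD1_c4 LD2_c28 LD3_c57)) :=
  Lre_c IH (LK LD1_c8 LD2_c56 LD3_c12) (LK LD1_c4 LD2_c28 LD3_c57) Lrfl Lrfl
theorem f296663 : Led Lsl_dt (LP (LK LD1_c16 LD2_c43 LD3_c41)) = (LP (LK LD1_c8 LD2_c56 LD3_c12)) :=
  Lre_d IH (LK LD1_c16 LD2_c43 LD3_c41) (LK LD1_c8 LD2_c56 LD3_c12) Lrfl Lrfl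
theorem f732384 : Led Lsl_gt (LP (LK LD1_c19 LD2_c46 LD3_c37)) = (LP (LK LD1_c16 LD2_c43 LD3_c41)) :=
  Lgr Lrot49 (Lpe (f281527 IH) (Lpr_gf (f732382 IH) (Lpe (K54.f175220 IH) (Lpr_gt (K12.f174380 IH) (Lpr_dt (f168136 IH) (Lpr_gt (K50.f174132 IH) (Lpe (K69.f391427 IH) (Lpe (f179287 IH) (Lpe (f296663 IH) (Lpn (LP (LK LD1_c16 LD2_c43 LD3_c41))))))))))))
theorem f384897 : Led Lsl_dt (LP (LK LD1_c5 LD2_c30 LD3_c26)) = (LP (LK LD1_c10 LD2_c52 LD3_c25)) :=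
  Lre_d IH (LK LD1_c5 LD2_c30 LD3_c26) (LK LD1_c10 LD2_c52 LD3_c25) Lrfl Lrfl
theorem f619802 : Led Lsl_at (LP (LK LD1_c10 LD2_c52 LD3_c25)) = (LP (LK LD1_c16 LD2_c43 LD3_c41)) :=
  Lgr Lrot51 (Lpe (f384897 IH) (Lpr_af (K54.f619794 IH) (Lpe (f296663 IH) (Lpn (LP (LK LD1_c16 LD2_c43 LD3_c41))))))
theorem f550384 : Led Lsl_bt (LP (LK LD1_c19 LD2_c19 LD3_c47)) = (LP (LK LD1_c16 LD2_c43 LD3_c50)) :=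
  Lgr Lrot95 (Lpr_df (K38.f550380 IH) (Lpr_bf (K54.f404858 IH) (Lpe (K54.f226216 IH) (Lpn (LP (LK LD1_c16 LD2_c43 LD3_c50))))))
theorem f398278 : Led Lsl_bt (LP (LK LD1_c10 LD2_c52 LD3_c25)) = (LP (LK LD1_c19 LD2_c39 LD3_c32)) :=
  Lre_b IH (LK LD1_c10 LD2_c52 LD3_c25) (LK LD1_c19 LD2_c39 LD3_c32) Lrfl Lrfl
theorem f550416 : Led Lsl_ft (LP (LK LD1_c16 LD2_c43 LD3_c50)) = (LP (LK LD1_c10 LD2_c52 LD3_c25)) :=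
  Lgr Lrot75 (Lpe (f550384 IH) (Lpr_ff (K38.f550414 IH) (Lpe (f398278 IH) (Lpn (LP (LK LD1_c10 LD2_c52 LD3_c25))))))
theorem f732386 : Led Lsl_gf (LP (LK LD1_c19 LD2_c46 LD3_c37)) = (LP (LK LD1_c16 LD2_c43 LD3_c50)) :=
  Lgr Lrot47 (Lpr_gt (f732384 IH) (Lpe (f619802 IH) (Lpe (f550416 IH) (Lpn (LP (LK LD1_c16 LD2_c43 LD3_c50))))))
theorem f281491 : Led Lsl_dt (LP (LK LD1_c19 LD2_c46 LD3_c37)) = (LP (LK LD1_c10 LD2_c56 LD3_c56)) :=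
  Lre_d IH (LK LD1_c19 LD2_c46 LD3_c37) (LK LD1_c10 LD2_c56 LD3_c56) Lrfl Lrfl
theorem f890680 : K54.v15179 = (LP (LK LD1_c8 LD2_c59 LD3_c9)) :=
  (Llr Lrot7 (Lpe (K54.f732724 IH) (Lpe (f281491 IH) (Lpr_gf (f732386 IH) (Lpe (K54.f226230 IH) (Lpr_gf (K31.f382876 IH) (Lpe (K31.f173490 IH) (Lpr_gt (K69.f422526 IH) (Lpr_dt (K69.f390797 IH) (Lpr_gt (f890671 IH) (Lpr_dt (f890675 IH) (Lpn (LP (LK LD1_c8 LD2_c59 LD3_c9)))))))))))))).symm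
theorem f226200 : Led Lsl_ct (LP (LK LD1_c5 LD2_c32 LD3_c42)) = (LP (LK LD1_c10 LD2_c57 LD3_c10)) :=
  Lre_c IH (LK LD1_c5 LD2_c32 LD3_c42) (LK LD1_c10 LD2_c57 LD3_c10) Lrfl Lrfl
theorem f174169 : Led Lsl_ct (LP (LK LD1_c10 LD2_c57 LD3_c7)) = (LP (LK LD1_c5 LD2_c32 LD3_c41)) :=
  Lre_c IH (LK LD1_c10 LD2_c57 LD3_c7) (LK LD1_c5 LD2_c32 LD3_c41) Lrfl Lrfl
theorem f619877 : Led Lsl_at (LP (LK LD1_c10 LD2_c52 LD3_c27)) = (LP (LK LD1_c10 LD2_c57 LD3_c7)) :=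
  Lgr Lrot107 (Lpe (K30.f384855 IH) (Lpr_af (K71.f619873 IH) (Lpe (f174169 IH) (Lpn (LP (LK LD1_c10 LD2_c57 LD3_c7))))))
theorem f619865 : Led Lsl_ft (LP (LK LD1_c10 LD2_c57 LD3_c10)) = (LP (LK LD1_c10 LD2_c52 LD3_c27)) :=
  Lgr Lrot4 (Lpe (f226200 IH) (Lpr_ff (K71.f619860 IH) (Lpe (K30.f384853 IH) (Lpn (LP (LK LD1_c10 LD2_c52 LD3_c27))))))
theorem f174215 : Led Lsl_gt (LP (LK LD1_c19 LD2_c46 LD3_c53)) = (LP (LK LD1_c10 LD2_c57 LD3_c7)) :=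
  Lre_g IH (LK LD1_c19 LD2_c46 LD3_c53) (LK LD1_c10 LD2_c57 LD3_c7) Lrfl Lrfl
theorem f620278 : Led Lsl_gt (LP (LK LD1_c10 LD2_c57 LD3_c10)) = (LP (LK LD1_c19 LD2_c46 LD3_c53)) :=
  Lgr Lrot5 (Lpr_ft (f619865 IH) (Lpr_at (f619877 IH) (Lpe (f174215 IH) (Lpn (LP (LK LD1_c19 LD2_c46 LD3_c53))))))
theorem f890851 : Led Lsl_cf (LP (LK LD1_c16 LD2_c48 LD3_c19)) = (LP (LK LD1_c19 LD2_c46 LD3_c53)) :=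
  Lgr Lrot175 (Lpr_dt (f890675 IH) (Lpq (f890680 IH) (Lpe (K54.f732724 IH) (Lpr_gf (f732382 IH) (Lpe (K54.f175220 IH) (Lpr_gf (K31.f281147 IH) (Lpr_dt (K20.f281088 IH) (Lpe (K54.f281174 IH) (Lpr_ct (f226200 IH) (Lpr_gt (f620278 IH) (Lpn (LP (LK LD1_c19 LD2_c46 LD3_c53)))))))))))))
theorem f384884 : Led Lsl_at (LP (LK LD1_c16 LD2_c48 LD3_c19)) = (LP (LK LD1_c8 LD2_c59 LD3_c11)) :=
  Lre_a IH (LK LD1_c16 LD2_c48 LD3_c19) (LK LD1_c8 LD2_c59 LD3_c11) Lrfl Lrfl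
theorem f890853 : Led Lsl_at (LP (LK LD1_c16 LD2_c48 LD3_c25)) = (LP (LK LD1_c19 LD2_c46 LD3_c53)) :=
  Lgr Lrot107 (Lpe (K30.f281683 IH) (Lpe (f384884 IH) (Lpr_cf (f890851 IH) (Lpn (LP (LK LD1_c19 LD2_c46 LD3_c53))))))
theorem f619963 : Led Lsl_bt (LP (LK LD1_c10 LD2_c52 LD3_c20)) = (LP (LK LD1_c11 LD2_c3 LD3_c41)) :=
  Lgr Lrot127 (Lpr_bf (K71.f619961 IH) (Lpn (LP (LK LD1_c11 LD2_c3 LD3_c41))))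
theorem f619971 : Led Lsl_at (LP (LK LD1_c5 LD2_c30 LD3_c25)) = (LP (LK LD1_c10 LD2_c52 LD3_c20)) :=
  Lre_a IH (LK LD1_c5 LD2_c30 LD3_c25) (LK LD1_c10 LD2_c52 LD3_c20) Lrfl Lrfl
theorem f620227 : Led Lsl_af (LP (LK LD1_c2 LD2_c41 LD3_c28)) = (LP (LK LD1_c4 LD2_c28 LD3_c57)) :=
  Lgr Lrot36 (Lpr_bt (K30.f384836 IH) (Lpr_at (f619971 IH) (Lpr_bt (f619963 IH) (Lpr_at (K54.f619648 IH) (Lpr_bt (K30.f276225 IH) (Lpn (LP (LK LD1_c4 LD2_c28 LD3_c57))))))))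
theorem f620229 : Led Lsl_ft (LP (LK LD1_c2 LD2_c41 LD3_c27)) = (LP (LK LD1_c4 LD2_c28 LD3_c57)) :=
  Lgr Lrot101 (Lpe (K71.f619841 IH) (Lpr_ff (K71.f619847 IH) (Lpr_af (f620227 IH) (Lpn (LP (LK LD1_c4 LD2_c28 LD3_c57))))))
theorem f222422 : Led Lsl_dt (LP (LK LD1_c5 LD2_c30 LD3_c23)) = (LP (LK LD1_c2 LD2_c41 LD3_c27)) :=
  Lre_d IH (LK LD1_c5 LD2_c30 LD3_c23) (LK LD1_c2 LD2_c41 LD3_c27) Lrfl Lrfl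
theorem f620231 : Led Lsl_ff (LP (LK LD1_c5 LD2_c30 LD3_c23)) = (LP (LK LD1_c5 LD2_c32 LD3_c41)) :=
  Lgr Lrot19 (Lpr_dt (f222422 IH) (Lpr_ft (f620229 IH) (Lpr_dt (K50.f391413 IH) (Lpn (LP (LK LD1_c5 LD2_c32 LD3_c41))))))
theorem f396759 : Led Lsl_ct (LP (LK LD1_c5 LD2_c30 LD3_c23)) = (LP (LK LD1_c10 LD2_c52 LD3_c16)) :=
  Lre_c IH (LK LD1_c5 LD2_c30 LD3_c23) (LK LD1_c10 LD2_c52 LD3_c16) Lrfl Lrfl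
theorem f620233 : Led Lsl_ft (LP (LK LD1_c10 LD2_c52 LD3_c16)) = (LP (LK LD1_c10 LD2_c57 LD3_c7)) :=
  Lgr Lrot4 (Lpe (f396759 IH) (Lpr_ff (f620231 IH) (Lpe (f174169 IH) (Lpn (LP (LK LD1_c10 LD2_c57 LD3_c7))))))
theorem f620240 : Led Lsl_ff (LP (LK LD1_c10 LD2_c52 LD3_c16)) = (LP (LK LD1_c10 LD2_c57 LD3_c7)) :=
  Lgr Lrot3 (Lpr_ft (f620233 IH) (Lpn (LP (LK LD1_c10 LD2_c57 LD3_c7))))
theorem f174389 : Led Lsl_ct (LP (LK LD1_c10 LD2_c57 LD3_c10)) = (LP (LK LD1_c5 LD2_c32 LD3_c42)) :=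
  Lre_c IH (LK LD1_c10 LD2_c57 LD3_c10) (LK LD1_c5 LD2_c32 LD3_c42) Lrfl Lrfl
theorem f619871 : Led Lsl_af (LP (LK LD1_c10 LD2_c57 LD3_c10)) = (LP (LK LD1_c10 LD2_c52 LD3_c16)) :=
  Lgr Lrot68 (Lpr_ct (f174389 IH) (Lpr_at (K71.f619867 IH) (Lpr_ct (f396759 IH) (Lpn (LP (LK LD1_c10 LD2_c52 LD3_c16))))))
theorem f174165 : Led Lsl_gt (LP (LK LD1_c10 LD2_c57 LD3_c7)) = (LP (LK LD1_c19 LD2_c46 LD3_c52)) :=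
  Lre_g IH (LK LD1_c10 LD2_c57 LD3_c7) (LK LD1_c19 LD2_c46 LD3_c52) Lrfl Lrfl
theorem f620270 : Led Lsl_gf (LP (LK LD1_c10 LD2_c57 LD3_c10)) = (LP (LK LD1_c19 LD2_c46 LD3_c52)) :=
  Lgr Lrot76 (Lpr_af (f619871 IH) (Lpr_ff (f620240 IH) (Lpr_gt (f174165 IH) (Lpn (LP (LK LD1_c19 LD2_c46 LD3_c52))))))
theorem f890857 : Led Lsl_ff (LP (LK LD1_c16 LD2_c48 LD3_c25)) = (LP (LK LD1_c19 LD2_c46 LD3_c52)) :=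
  Lgr Lrot52 (Lpr_at (f890853 IH) (Lpe (f620278 IH) (Lpr_gf (f620270 IH) (Lpn (LP (LK LD1_c19 LD2_c46 LD3_c52))))))
theorem f890861 : Led Lsl_ft (LP (LK LD1_c16 LD2_c48 LD3_c25)) = (LP (LK LD1_c19 LD2_c46 LD3_c52)) :=
  Lgr Lrot48 (Lpr_ff (f890857 IH) (Lpn (LP (LK LD1_c19 LD2_c46 LD3_c52))))
theorem f890863 : Led Lsl_cf (LP (LK LD1_c16 LD2_c48 LD3_c0)) = (LP (LK LD1_c19 LD2_c46 LD3_c52)) :=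
  Lgr Lrot108 (Lpr_ft (f890648 IH) (Lpr_ct (K30.f281683 IH) (Lpr_ft (f890861 IH) (Lpn (LP (LK LD1_c19 LD2_c46 LD3_c52))))))
theorem f175120 : Led Lsl_dt (LP (LK LD1_c10 LD2_c52 LD3_c38)) = (LP (LK LD1_c19 LD2_c39 LD3_c56)) :=
  Lre_d IH (LK LD1_c10 LD2_c52 LD3_c38) (LK LD1_c19 LD2_c39 LD3_c56) Lrfl Lrfl
theorem f175114 : Led Lsl_gt (LP (LK LD1_c19 LD2_c39 LD3_c56)) = (LP (LK LD1_c29 LD2_c0 LD3_c39)) :=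
  Lre_g IH (LK LD1_c19 LD2_c39 LD3_c56) (LK LD1_c29 LD2_c0 LD3_c39) Lrfl Lrfl
theorem f947770 : Led Lsl_df (LP (LK LD1_c19 LD2_c46 LD3_c52)) = (LP (LK LD1_c29 LD2_c0 LD3_c39)) :=
  Lgr Lrot174 (Lpe (f890863 IH) (Lpe (f890626 IH) (Lpq (K69.f890621 IH) (Lpe (K54.f732709 IH) (Lpe (K54.f389320 IH) (Lpr_gf (f916478 IH) (Lpr_ct (f947767 IH) (Lpe (f947765 IH) (Lpr_dt (f175120 IH) (Lpr_gt (f175114 IH) (Lpn (LP (LK LD1_c29 LD2_c0 LD3_c39)))))))))))))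
theorem f947771 : Led Lsl_dt (LP (LK LD1_c29 LD2_c0 LD3_c39)) = (LP (LK LD1_c19 LD2_c46 LD3_c52)) :=
  Leop (Lpr_df (f947770 IH) (Lpn (LP (LK LD1_c29 LD2_c0 LD3_c39))))
theorem seed_2723 : LEOK LG_d (LK LD1_c29 LD2_c0 LD3_c39) :=
  Leoe_d (LK LD1_c29 LD2_c0 LD3_c39) (f947771 IH)
def v45038 : LQ := Led Lsl_ft (LP (LK LD1_c10 LD2_c52 LD3_c48))
theorem f947869 : Led Lsl_ft (LP (LK LD1_c10 LD2_c52 LD3_c48)) = v45038 :=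
  Lrfl
theorem f942772 : Led Lsl_gt (LP (LK LD1_c10 LD2_c52 LD3_c48)) = (LP (LK LD1_c19 LD2_c40 LD3_c10)) :=
  Lre_g IH (LK LD1_c10 LD2_c52 LD3_c48) (LK LD1_c19 LD2_c40 LD3_c10) Lrfl Lrfl
def v45034 : LQ := Led Lsl_at (LP (LK LD1_c10 LD2_c52 LD3_c48))
theorem f947845 : Led Lsl_at (LP (LK LD1_c10 LD2_c52 LD3_c48)) = v45034 :=
  Lrfl
theorem f947846 : Led Lsl_af (LP (LK LD1_c10 LD2_c52 LD3_c48)) = v45034 :=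
  Lgr Lrot0 (Lpr_at (f947845 IH) (Lpn v45034))
theorem f729620 : Led Lsl_ct (LP (LK LD1_c5 LD2_c30 LD3_c35)) = (LP (LK LD1_c10 LD2_c52 LD3_c48)) :=
  Lre_c IH (LK LD1_c5 LD2_c30 LD3_c35) (LK LD1_c10 LD2_c52 LD3_c48) Lrfl Lrfl
def v15013 : LQ := Led Lsl_at (LP (LK LD1_c5 LD2_c30 LD3_c35))
theorem f729615 : Led Lsl_at (LP (LK LD1_c5 LD2_c30 LD3_c35)) = v15013 :=
  Lrfl
theorem f729616 : Led Lsl_af (LP (LK LD1_c5 LD2_c30 LD3_c35)) = v15013 :=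
  Lgr Lrot0 (Lpr_at (f729615 IH) (Lpn v15013))
theorem f947847 : Led Lsl_cf v15013 = v45034 :=
  Lgr Lrot1 (Lpe (f729616 IH) (Lpr_ct (f729620 IH) (Lpr_at (f947845 IH) (Lpn v45034))))
theorem f317567 : Led Lsl_gt (LP (LK LD1_c5 LD2_c30 LD3_c36)) = (LP (LK LD1_c2 LD2_c41 LD3_c31)) :=
  Lre_g IH (LK LD1_c5 LD2_c30 LD3_c36) (LK LD1_c2 LD2_c41 LD3_c31) Lrfl Lrfl
theorem f729621 : Led Lsl_ft (LP (LK LD1_c5 LD2_c30 LD3_c36)) = v15013 :=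
  Lgr Lrot2 (Lpr_gt (f317567 IH) (Lpr_gt (f175198 IH) (Lpr_af (f729616 IH) (Lpn v15013))))
theorem f729625 : Led Lsl_ff (LP (LK LD1_c5 LD2_c30 LD3_c36)) = v15013 :=
  Lgr Lrot3 (Lpr_ft (f729621 IH) (Lpn v15013))
theorem f729627 : Led Lsl_ct (LP (LK LD1_c5 LD2_c30 LD3_c36)) = (LP (LK LD1_c10 LD2_c52 LD3_c52)) :=
  Lre_c IH (LK LD1_c5 LD2_c30 LD3_c36) (LK LD1_c10 LD2_c52 LD3_c52) Lrfl Lrfl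
theorem f947849 : Led Lsl_ft (LP (LK LD1_c10 LD2_c52 LD3_c52)) = v45034 :=
  Lgr Lrot4 (Lpe (f729627 IH) (Lpr_ff (f729625 IH) (Lpr_cf (f947847 IH) (Lpn v45034))))
theorem f947870 : Led Lsl_af (LP (LK LD1_c10 LD2_c52 LD3_c52)) = v45038 :=
  Lgr Lrot45 (Lpr_ft (f947849 IH) (Lpe (f947846 IH) (Lpr_ft (f947869 IH) (Lpn v45038))))
theorem f947873 : Led Lsl_gt (LP (LK LD1_c19 LD2_c40 LD3_c10)) = (LP (LK LD1_c10 LD2_c52 LD3_c52)) :=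
  Lgr Lrot46 (Lpe (f942772 IH) (Lpr_ft (f947869 IH) (Lpe (f947870 IH) (Lpn (LP (LK LD1_c10 LD2_c52 LD3_c52))))))
theorem f947874 : Led Lsl_gt (LP (LK LD1_c19 LD2_c40 LD3_c10)) = (LP (LK LD1_c10 LD2_c52 LD3_c52)) :=
  Leop (Lpe (f947873 IH) (Lpn (LP (LK LD1_c19 LD2_c40 LD3_c10))))
theorem seed_2724 : LEOK LG_g (LK LD1_c19 LD2_c40 LD3_c10) :=
  Leoe_g (LK LD1_c19 LD2_c40 LD3_c10) (f947874 IH)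
def v45039 : LQ := Led Lsl_at (LP (LK LD1_c10 LD2_c52 LD3_c49))
theorem f947883 : Led Lsl_at (LP (LK LD1_c10 LD2_c52 LD3_c49)) = v45039 :=
  Lrfl
theorem f175202 : Led Lsl_dt (LP (LK LD1_c5 LD2_c30 LD3_c35)) = (LP (LK LD1_c10 LD2_c52 LD3_c49)) :=
  Lre_d IH (LK LD1_c5 LD2_c30 LD3_c35) (LK LD1_c10 LD2_c52 LD3_c49) Lrfl Lrfl
theorem f947885 : Led Lsl_df v15013 = v45039 :=
  Lgr Lrot18 (Lpe (f729616 IH) (Lpr_dt (f175202 IH) (Lpr_at (f947883 IH) (Lpn v45039))))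
theorem f729622 : Led Lsl_dt (LP (LK LD1_c5 LD2_c30 LD3_c36)) = (LP (LK LD1_c10 LD2_c52 LD3_c53)) :=
  Lre_d IH (LK LD1_c5 LD2_c30 LD3_c36) (LK LD1_c10 LD2_c52 LD3_c53) Lrfl Lrfl
theorem f947887 : Led Lsl_ft (LP (LK LD1_c10 LD2_c52 LD3_c53)) = v45039 :=
  Lgr Lrot54 (Lpe (f729622 IH) (Lpr_ff (f729625 IH) (Lpr_df (f947885 IH) (Lpn v45039))))
theorem f947884 : Led Lsl_af (LP (LK LD1_c10 LD2_c52 LD3_c49)) = v45039 :=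
  Lgr Lrot0 (Lpr_at (f947883 IH) (Lpn v45039))
theorem f947859 : Led Lsl_gt (LP (LK LD1_c19 LD2_c40 LD3_c12)) = (LP (LK LD1_c10 LD2_c52 LD3_c49)) :=
  Lre_g IH (LK LD1_c19 LD2_c40 LD3_c12) (LK LD1_c10 LD2_c52 LD3_c49) Lrfl Lrfl
theorem f947889 : Led Lsl_gt (LP (LK LD1_c10 LD2_c52 LD3_c53)) = (LP (LK LD1_c19 LD2_c40 LD3_c12)) :=
  Lgr Lrot5 (Lpr_ft (f947887 IH) (Lpe (f947884 IH) (Lpe (f947859 IH) (Lpn (LP (LK LD1_c19 LD2_c40 LD3_c12))))))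
theorem f947890 : Led Lsl_gt (LP (LK LD1_c10 LD2_c52 LD3_c53)) = (LP (LK LD1_c19 LD2_c40 LD3_c12)) :=
  Leop (Lpe (f947889 IH) (Lpn (LP (LK LD1_c10 LD2_c52 LD3_c53))))
theorem seed_2725 : LEOK LG_g (LK LD1_c10 LD2_c52 LD3_c53) :=
  Leoe_g (LK LD1_c10 LD2_c52 LD3_c53) (f947890 IH)
def v45041 : LQ := Led Lsl_ft (LP (LK LD1_c10 LD2_c52 LD3_c49))
theorem f947894 : Led Lsl_ft (LP (LK LD1_c10 LD2_c52 LD3_c49)) = v45041 :=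
  Lrfl
theorem f175203 : Led Lsl_gt (LP (LK LD1_c10 LD2_c52 LD3_c49)) = (LP (LK LD1_c19 LD2_c40 LD3_c11)) :=
  Lre_g IH (LK LD1_c10 LD2_c52 LD3_c49) (LK LD1_c19 LD2_c40 LD3_c11) Lrfl Lrfl
theorem f947895 : Led Lsl_af (LP (LK LD1_c10 LD2_c52 LD3_c53)) = v45041 :=
  Lgr Lrot45 (Lpr_ft (f947887 IH) (Lpe (f947884 IH) (Lpr_ft (f947894 IH) (Lpn v45041))))
theorem f947898 : Led Lsl_gt (LP (LK LD1_c19 LD2_c40 LD3_c11)) = (LP (LK LD1_c10 LD2_c52 LD3_c53)) :=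
  Lgr Lrot46 (Lpe (f175203 IH) (Lpr_ft (f947894 IH) (Lpe (f947895 IH) (Lpn (LP (LK LD1_c10 LD2_c52 LD3_c53))))))
theorem f947899 : Led Lsl_gt (LP (LK LD1_c19 LD2_c40 LD3_c11)) = (LP (LK LD1_c10 LD2_c52 LD3_c53)) :=
  Leop (Lpe (f947898 IH) (Lpn (LP (LK LD1_c19 LD2_c40 LD3_c11))))
theorem seed_2726 : LEOK LG_g (LK LD1_c19 LD2_c40 LD3_c11) :=
  Leoe_g (LK LD1_c19 LD2_c40 LD3_c11) (f947899 IH)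
def v45081 : LQ := Led Lsl_at (LP (LK LD1_c10 LD2_c53 LD3_c1))
theorem f948042 : Led Lsl_at (LP (LK LD1_c10 LD2_c53 LD3_c1)) = v45081 :=
  Lrfl
theorem f405895 : Led Lsl_et (LP (LK LD1_c5 LD2_c30 LD3_c43)) = (LP (LK LD1_c6 LD2_c5 LD3_c36)) :=
  Lgr Lrot87 (Lpr_ef (K67.f306889 IH) (Lpn (LP (LK LD1_c6 LD2_c5 LD3_c36))))
theorem f405898 : Led Lsl_ct (LP (LK LD1_c10 LD2_c53 LD3_c1)) = (LP (LK LD1_c5 LD2_c30 LD3_c43)) :=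
  Lre_c IH (LK LD1_c10 LD2_c53 LD3_c1) (LK LD1_c5 LD2_c30 LD3_c43) Lrfl Lrfl
theorem f405899 : Led Lsl_ef (LP (LK LD1_c10 LD2_c53 LD3_c1)) = (LP (LK LD1_c11 LD2_c54 LD3_c45)) :=
  Lgr Lrot28 (Lpr_ct (f405898 IH) (Lpr_et (f405895 IH) (Lpr_ct (K17.f184916 IH) (Lpn (LP (LK LD1_c11 LD2_c54 LD3_c45))))))
theorem f291594 : Led Lsl_et (LP (LK LD1_c18 LD2_c33 LD3_c32)) = (LP (LK LD1_c10 LD2_c11 LD3_c13)) :=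
  Lre_e IH (LK LD1_c18 LD2_c33 LD3_c32) (LK LD1_c10 LD2_c11 LD3_c13) Lrfl Lrfl
theorem f306564 : Led Lsl_bt (LP (LK LD1_c5 LD2_c39 LD3_c45)) = (LP (LK LD1_c11 LD2_c10 LD3_c38)) :=
  Lre_b IH (LK LD1_c5 LD2_c39 LD3_c45) (LK LD1_c11 LD2_c10 LD3_c38) Lrfl Lrfl
theorem f183092 : Led Lsl_bt (LP (LK LD1_c10 LD2_c11 LD3_c31)) = (LP (LK LD1_c5 LD2_c10 LD3_c26)) :=
  Lre_b IH (LK LD1_c10 LD2_c11 LD3_c31) (LK LD1_c5 LD2_c10 LD3_c26) Lrfl Lrfl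
theorem f306585 : Led Lsl_ft (LP (LK LD1_c11 LD2_c10 LD3_c38)) = (LP (LK LD1_c10 LD2_c11 LD3_c31)) :=
  Lgr Lrot75 (Lpe (f306564 IH) (Lpr_ff (K19.f306583 IH) (Lpe (f183092 IH) (Lpn (LP (LK LD1_c10 LD2_c11 LD3_c31))))))
theorem f306588 : Led Lsl_ct (LP (LK LD1_c20 LD2_c5 LD3_c13)) = (LP (LK LD1_c11 LD2_c10 LD3_c38)) :=
  Lre_c IH (LK LD1_c20 LD2_c5 LD3_c13) (LK LD1_c11 LD2_c10 LD3_c38) Lrfl Lrfl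
theorem f183125 : Led Lsl_ct (LP (LK LD1_c10 LD2_c11 LD3_c31)) = (LP (LK LD1_c18 LD2_c33 LD3_c32)) :=
  Lre_c IH (LK LD1_c10 LD2_c11 LD3_c31) (LK LD1_c18 LD2_c33 LD3_c32) Lrfl Lrfl
theorem f306589 : Led Lsl_ff (LP (LK LD1_c20 LD2_c5 LD3_c13)) = (LP (LK LD1_c18 LD2_c33 LD3_c32)) :=
  Lgr Lrot23 (Lpr_ct (f306588 IH) (Lpr_ft (f306585 IH) (Lpr_ct (f183125 IH) (Lpn (LP (LK LD1_c18 LD2_c33 LD3_c32))))))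
theorem f306594 : Led Lsl_ft (LP (LK LD1_c20 LD2_c5 LD3_c13)) = (LP (LK LD1_c18 LD2_c33 LD3_c32)) :=
  Lgr Lrot48 (Lpr_ff (f306589 IH) (Lpn (LP (LK LD1_c18 LD2_c33 LD3_c32))))
theorem f306597 : Led Lsl_et (LP (LK LD1_c11 LD2_c10 LD3_c31)) = (LP (LK LD1_c20 LD2_c5 LD3_c13)) :=
  Lre_e IH (LK LD1_c11 LD2_c10 LD3_c31) (LK LD1_c20 LD2_c5 LD3_c13) Lrfl Lrfl
theorem f405906 : Led Lsl_ft (LP (LK LD1_c10 LD2_c53 LD3_c1)) = (LP (LK LD1_c11 LD2_c10 LD3_c31)) :=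
  Lgr Lrot86 (Lpr_ef (f405899 IH) (Lpr_ff (K17.f291590 IH) (Lpe (f291594 IH) (Lpe (f306594 IH) (Lpe (f306597 IH) (Lpn (LP (LK LD1_c11 LD2_c10 LD3_c31))))))))
theorem f405912 : Led Lsl_ff (LP (LK LD1_c10 LD2_c53 LD3_c1)) = (LP (LK LD1_c11 LD2_c10 LD3_c31)) :=
  Lgr Lrot3 (Lpr_ft (f405906 IH) (Lpn (LP (LK LD1_c11 LD2_c10 LD3_c31))))
theorem f405916 : Led Lsl_at (LP (LK LD1_c20 LD2_c5 LD3_c12)) = (LP (LK LD1_c11 LD2_c10 LD3_c31)) :=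
  Lre_a IH (LK LD1_c20 LD2_c5 LD3_c12) (LK LD1_c11 LD2_c10 LD3_c31) Lrfl Lrfl
theorem f948045 : Led Lsl_ff (LP (LK LD1_c20 LD2_c5 LD3_c12)) = v45081 :=
  Lgr Lrot30 (Lpr_at (f405916 IH) (Lpe (f405912 IH) (Lpr_at (f948042 IH) (Lpn v45081))))
theorem f948047 : Led Lsl_ft (LP (LK LD1_c20 LD2_c5 LD3_c12)) = v45081 :=
  Lgr Lrot48 (Lpr_ff (f948045 IH) (Lpn v45081))
theorem f948043 : Led Lsl_af (LP (LK LD1_c10 LD2_c53 LD3_c1)) = v45081 :=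
  Lgr Lrot0 (Lpr_at (f948042 IH) (Lpn v45081))
theorem f405908 : Led Lsl_gt (LP (LK LD1_c19 LD2_c40 LD3_c27)) = (LP (LK LD1_c10 LD2_c53 LD3_c1)) :=
  Lre_g IH (LK LD1_c19 LD2_c40 LD3_c27) (LK LD1_c10 LD2_c53 LD3_c1) Lrfl Lrfl
theorem f948049 : Led Lsl_gt (LP (LK LD1_c20 LD2_c5 LD3_c12)) = (LP (LK LD1_c19 LD2_c40 LD3_c27)) :=
  Lgr Lrot5 (Lpr_ft (f948047 IH) (Lpe (f948043 IH) (Lpe (f405908 IH) (Lpn (LP (LK LD1_c19 LD2_c40 LD3_c27))))))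
theorem f948050 : Led Lsl_gt (LP (LK LD1_c20 LD2_c5 LD3_c12)) = (LP (LK LD1_c19 LD2_c40 LD3_c27)) :=
  Leop (Lpe (f948049 IH) (Lpn (LP (LK LD1_c20 LD2_c5 LD3_c12))))
theorem seed_2727 : LEOK LG_g (LK LD1_c20 LD2_c5 LD3_c12) :=
  Leoe_g (LK LD1_c20 LD2_c5 LD3_c12) (f948050 IH)
def v45083 : LQ := Led Lsl_at (LP (LK LD1_c10 LD2_c53 LD3_c2))
theorem f948055 : Led Lsl_at (LP (LK LD1_c10 LD2_c53 LD3_c2)) = v45083 :=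
  Lrfl
theorem f306867 : Led Lsl_dt (LP (LK LD1_c2 LD2_c41 LD3_c34)) = (LP (LK LD1_c5 LD2_c30 LD3_c44)) :=
  Lre_d IH (LK LD1_c2 LD2_c41 LD3_c34) (LK LD1_c5 LD2_c30 LD3_c44) Lrfl Lrfl
theorem f306885 : Led Lsl_ft (LP (LK LD1_c5 LD2_c30 LD3_c44)) = (LP (LK LD1_c5 LD2_c39 LD3_c44)) :=
  Lgr Lrot54 (Lpe (f306867 IH) (Lpr_ff (K19.f306878 IH) (Lpe (K26.f245960 IH) (Lpn (LP (LK LD1_c5 LD2_c39 LD3_c44))))))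
theorem f331122 : Led Lsl_bt (LP (LK LD1_c10 LD2_c53 LD3_c2)) = (LP (LK LD1_c5 LD2_c30 LD3_c44)) :=
  Lre_b IH (LK LD1_c10 LD2_c53 LD3_c2) (LK LD1_c5 LD2_c30 LD3_c44) Lrfl Lrfl
theorem f306860 : Led Lsl_bt (LP (LK LD1_c5 LD2_c39 LD3_c44)) = (LP (LK LD1_c11 LD2_c10 LD3_c37)) :=
  Lre_b IH (LK LD1_c5 LD2_c39 LD3_c44) (LK LD1_c11 LD2_c10 LD3_c37) Lrfl Lrfl
theorem f405919 : Led Lsl_ff (LP (LK LD1_c10 LD2_c53 LD3_c2)) = (LP (LK LD1_c11 LD2_c10 LD3_c37)) :=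
  Lgr Lrot25 (Lpr_bt (f331122 IH) (Lpr_ft (f306885 IH) (Lpr_bt (f306860 IH) (Lpn (LP (LK LD1_c11 LD2_c10 LD3_c37))))))
theorem f306858 : Led Lsl_at (LP (LK LD1_c20 LD2_c5 LD3_c22)) = (LP (LK LD1_c11 LD2_c10 LD3_c37)) :=
  Lre_a IH (LK LD1_c20 LD2_c5 LD3_c22) (LK LD1_c11 LD2_c10 LD3_c37) Lrfl Lrfl
theorem f948058 : Led Lsl_ff (LP (LK LD1_c20 LD2_c5 LD3_c22)) = v45083 :=
  Lgr Lrot30 (Lpr_at (f306858 IH) (Lpe (f405919 IH) (Lpr_at (f948055 IH) (Lpn v45083))))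
theorem f948062 : Led Lsl_ft (LP (LK LD1_c20 LD2_c5 LD3_c22)) = v45083 :=
  Lgr Lrot48 (Lpr_ff (f948058 IH) (Lpn v45083))
theorem f948056 : Led Lsl_af (LP (LK LD1_c10 LD2_c53 LD3_c2)) = v45083 :=
  Lgr Lrot0 (Lpr_at (f948055 IH) (Lpn v45083))
theorem f405903 : Led Lsl_gt (LP (LK LD1_c19 LD2_c40 LD3_c29)) = (LP (LK LD1_c10 LD2_c53 LD3_c2)) :=
  Lre_g IH (LK LD1_c19 LD2_c40 LD3_c29) (LK LD1_c10 LD2_c53 LD3_c2) Lrfl Lrfl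
theorem f948065 : Led Lsl_gt (LP (LK LD1_c20 LD2_c5 LD3_c22)) = (LP (LK LD1_c19 LD2_c40 LD3_c29)) :=
  Lgr Lrot5 (Lpr_ft (f948062 IH) (Lpe (f948056 IH) (Lpe (f405903 IH) (Lpn (LP (LK LD1_c19 LD2_c40 LD3_c29))))))
theorem f948066 : Led Lsl_gt (LP (LK LD1_c20 LD2_c5 LD3_c22)) = (LP (LK LD1_c19 LD2_c40 LD3_c29)) :=
  Leop (Lpe (f948065 IH) (Lpn (LP (LK LD1_c20 LD2_c5 LD3_c22))))
theorem seed_2728 : LEOK LG_g (LK LD1_c20 LD2_c5 LD3_c22) :=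
  Leoe_g (LK LD1_c20 LD2_c5 LD3_c22) (f948066 IH)
def v45175 : LQ := Led Lsl_ct (LP (LK LD1_c10 LD2_c53 LD3_c55))
theorem f948431 : Led Lsl_ct (LP (LK LD1_c10 LD2_c53 LD3_c55)) = v45175 :=
  Lrfl
theorem f948433 : Led Lsl_cf (LP (LK LD1_c10 LD2_c53 LD3_c55)) = v45175 :=
  Lgr Lrot11 (Lpr_ct (f948431 IH) (Lpn v45175))
theorem f281442 : Led Lsl_gt (LP (LK LD1_c10 LD2_c53 LD3_c55)) = (LP (LK LD1_c5 LD2_c31 LD3_c10)) :=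
  Lre_g IH (LK LD1_c10 LD2_c53 LD3_c55) (LK LD1_c5 LD2_c31 LD3_c10) Lrfl Lrfl
theorem f281441 : Led Lsl_ct (LP (LK LD1_c2 LD2_c42 LD3_c2)) = (LP (LK LD1_c5 LD2_c31 LD3_c10)) :=
  Lre_c IH (LK LD1_c2 LD2_c42 LD3_c2) (LK LD1_c5 LD2_c31 LD3_c10) Lrfl Lrfl
theorem f281440 : Led Lsl_bt (LP (LK LD1_c2 LD2_c42 LD3_c2)) = (LP (LK LD1_c1 LD2_c17 LD3_c40)) :=
  Lre_b IH (LK LD1_c2 LD2_c42 LD3_c2) (LK LD1_c1 LD2_c17 LD3_c40) Lrfl Lrfl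
theorem f213620 : Led Lsl_bt (LP (LK LD1_c2 LD2_c42 LD3_c50)) = (LP (LK LD1_c5 LD2_c33 LD3_c13)) :=
  Lre_b IH (LK LD1_c2 LD2_c42 LD3_c50) (LK LD1_c5 LD2_c33 LD3_c13) Lrfl Lrfl
theorem f213621 : Led Lsl_gt (LP (LK LD1_c5 LD2_c33 LD3_c13)) = (LP (LK LD1_c10 LD2_c57 LD3_c53)) :=
  Lre_g IH (LK LD1_c5 LD2_c33 LD3_c13) (LK LD1_c10 LD2_c57 LD3_c53) Lrfl Lrfl
theorem f948435 : Led Lsl_bf (LP (LK LD1_c10 LD2_c57 LD3_c53)) = v45175 :=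
  Lgr Lrot34 (Lpe (f213621 IH) (Lpe (f213620 IH) (Lpr_ct (K20.f213608 IH) (Lpr_gf (K49.f363069 IH) (Lpe (K54.f281428 IH) (Lpe (K21.f281414 IH) (Lpe (f281440 IH) (Lpr_ct (f281441 IH) (Lpe (f281442 IH) (Lpr_cf (f948433 IH) (Lpn v45175)))))))))))
theorem f213622 : Led Lsl_ct (LP (LK LD1_c10 LD2_c57 LD3_c53)) = (LP (LK LD1_c19 LD2_c48 LD3_c2)) :=
  Lre_c IH (LK LD1_c10 LD2_c57 LD3_c53) (LK LD1_c19 LD2_c48 LD3_c2) Lrfl Lrfl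
theorem f731458 : Led Lsl_bt (LP (LK LD1_c19 LD2_c41 LD3_c45)) = (LP (LK LD1_c10 LD2_c53 LD3_c55)) :=
  Lre_b IH (LK LD1_c19 LD2_c41 LD3_c45) (LK LD1_c10 LD2_c53 LD3_c55) Lrfl Lrfl
theorem f948432 : Led Lsl_ct (LP (LK LD1_c29 LD2_c1 LD3_c48)) = (LP (LK LD1_c19 LD2_c41 LD3_c45)) :=
  Lre_c IH (LK LD1_c29 LD2_c1 LD3_c48) (LK LD1_c19 LD2_c41 LD3_c45) Lrfl Lrfl
theorem f948437 : Led Lsl_bt (LP (LK LD1_c19 LD2_c48 LD3_c2)) = (LP (LK LD1_c29 LD2_c1 LD3_c48)) :=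
  Lgr Lrot128 (Lpe (f213622 IH) (Lpr_bf (f948435 IH) (Lpe (f948431 IH) (Lpe (f731458 IH) (Lpe (f948432 IH) (Lpn (LP (LK LD1_c29 LD2_c1 LD3_c48))))))))
theorem f948438 : Led Lsl_bt (LP (LK LD1_c19 LD2_c48 LD3_c2)) = (LP (LK LD1_c29 LD2_c1 LD3_c48)) :=
  Leop (Lpe (f948437 IH) (Lpn (LP (LK LD1_c19 LD2_c48 LD3_c2))))
theorem seed_2729 : LEOK LG_b (LK LD1_c19 LD2_c48 LD3_c2) :=
  Leoe_b (LK LD1_c19 LD2_c48 LD3_c2) (f948438 IH)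
def v45304 : LQ := Led Lsl_ft (LP (LK LD1_c10 LD2_c55 LD3_c16))
theorem f948915 : Led Lsl_ft (LP (LK LD1_c10 LD2_c55 LD3_c16)) = v45304 :=
  Lrfl
theorem f396199 : Led Lsl_gt (LP (LK LD1_c10 LD2_c55 LD3_c16)) = (LP (LK LD1_c19 LD2_c43 LD3_c44)) :=
  Lre_g IH (LK LD1_c10 LD2_c55 LD3_c16) (LK LD1_c19 LD2_c43 LD3_c44) Lrfl Lrfl
def v45300 : LQ := Led Lsl_at (LP (LK LD1_c10 LD2_c55 LD3_c16))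
theorem f948895 : Led Lsl_at (LP (LK LD1_c10 LD2_c55 LD3_c16)) = v45300 :=
  Lrfl
theorem f948896 : Led Lsl_af (LP (LK LD1_c10 LD2_c55 LD3_c16)) = v45300 :=
  Lgr Lrot0 (Lpr_at (f948895 IH) (Lpn v45300))
theorem f396200 : Led Lsl_ct (LP (LK LD1_c5 LD2_c31 LD3_c44)) = (LP (LK LD1_c10 LD2_c55 LD3_c16)) :=
  Lre_c IH (LK LD1_c5 LD2_c31 LD3_c44) (LK LD1_c10 LD2_c55 LD3_c16) Lrfl Lrfl
def v15067 : LQ := Led Lsl_at (LP (LK LD1_c5 LD2_c31 LD3_c44))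
theorem f731513 : Led Lsl_at (LP (LK LD1_c5 LD2_c31 LD3_c44)) = v15067 :=
  Lrfl
theorem f731514 : Led Lsl_af (LP (LK LD1_c5 LD2_c31 LD3_c44)) = v15067 :=
  Lgr Lrot0 (Lpr_at (f731513 IH) (Lpn v15067))
theorem f948897 : Led Lsl_cf v15067 = v45300 :=
  Lgr Lrot1 (Lpe (f731514 IH) (Lpr_ct (f396200 IH) (Lpr_at (f948895 IH) (Lpn v45300))))
theorem f304414 : Led Lsl_gt (LP (LK LD1_c2 LD2_c42 LD3_c2)) = (LP (LK LD1_c5 LD2_c31 LD3_c44)) :=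
  Lre_g IH (LK LD1_c2 LD2_c42 LD3_c2) (LK LD1_c5 LD2_c31 LD3_c44) Lrfl Lrfl
theorem f377871 : Led Lsl_gt (LP (LK LD1_c5 LD2_c31 LD3_c45)) = (LP (LK LD1_c2 LD2_c42 LD3_c2)) :=
  Lre_g IH (LK LD1_c5 LD2_c31 LD3_c45) (LK LD1_c2 LD2_c42 LD3_c2) Lrfl Lrfl
theorem f731515 : Led Lsl_ft (LP (LK LD1_c5 LD2_c31 LD3_c45)) = v15067 :=
  Lgr Lrot2 (Lpr_gt (f377871 IH) (Lpr_gt (f304414 IH) (Lpr_af (f731514 IH) (Lpn v15067))))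
theorem f731516 : Led Lsl_ff (LP (LK LD1_c5 LD2_c31 LD3_c45)) = v15067 :=
  Lgr Lrot3 (Lpr_ft (f731515 IH) (Lpn v15067))
theorem f281351 : Led Lsl_ct (LP (LK LD1_c5 LD2_c31 LD3_c45)) = (LP (LK LD1_c10 LD2_c55 LD3_c18)) :=
  Lre_c IH (LK LD1_c5 LD2_c31 LD3_c45) (LK LD1_c10 LD2_c55 LD3_c18) Lrfl Lrfl
theorem f948899 : Led Lsl_ft (LP (LK LD1_c10 LD2_c55 LD3_c18)) = v45300 :=
  Lgr Lrot4 (Lpe (f281351 IH) (Lpr_ff (f731516 IH) (Lpr_cf (f948897 IH) (Lpn v45300))))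
theorem f948916 : Led Lsl_af (LP (LK LD1_c10 LD2_c55 LD3_c18)) = v45304 :=
  Lgr Lrot45 (Lpr_ft (f948899 IH) (Lpe (f948896 IH) (Lpr_ft (f948915 IH) (Lpn v45304))))
theorem f948919 : Led Lsl_gt (LP (LK LD1_c19 LD2_c43 LD3_c44)) = (LP (LK LD1_c10 LD2_c55 LD3_c18)) :=
  Lgr Lrot46 (Lpe (f396199 IH) (Lpr_ft (f948915 IH) (Lpe (f948916 IH) (Lpn (LP (LK LD1_c10 LD2_c55 LD3_c18))))))
theorem f948920 : Led Lsl_gt (LP (LK LD1_c19 LD2_c43 LD3_c44)) = (LP (LK LD1_c10 LD2_c55 LD3_c18)) :=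
  Leop (Lpe (f948919 IH) (Lpn (LP (LK LD1_c19 LD2_c43 LD3_c44))))
theorem seed_2730 : LEOK LG_g (LK LD1_c19 LD2_c43 LD3_c44) :=
  Leoe_g (LK LD1_c19 LD2_c43 LD3_c44) (f948920 IH)
def v45344 : LQ := Led Lsl_bt (LP (LK LD1_c10 LD2_c55 LD3_c30))
theorem f949067 : Led Lsl_bt (LP (LK LD1_c10 LD2_c55 LD3_c30)) = v45344 :=
  Lrfl
theorem f949068 : Led Lsl_bf (LP (LK LD1_c10 LD2_c55 LD3_c30)) = v45344 :=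
  Lgr Lrot24 (Lpr_bt (f949067 IH) (Lpn v45344))
theorem f281431 : Led Lsl_gt (LP (LK LD1_c5 LD2_c31 LD3_c55)) = (LP (LK LD1_c10 LD2_c55 LD3_c30)) :=
  Lre_g IH (LK LD1_c5 LD2_c31 LD3_c55) (LK LD1_c10 LD2_c55 LD3_c30) Lrfl Lrfl
theorem f185048 : Led Lsl_bt (LP (LK LD1_c8 LD2_c57 LD3_c41)) = (LP (LK LD1_c4 LD2_c29 LD3_c45)) :=
  Lre_b IH (LK LD1_c8 LD2_c57 LD3_c41) (LK LD1_c4 LD2_c29 LD3_c45) Lrfl Lrfl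
theorem f395219 : Led Lsl_dt (LP (LK LD1_c4 LD2_c28 LD3_c12)) = (LP (LK LD1_c8 LD2_c54 LD3_c32)) :=
  Lre_d IH (LK LD1_c4 LD2_c28 LD3_c12) (LK LD1_c8 LD2_c54 LD3_c32) Lrfl Lrfl
theorem f341110 : Led Lsl_ef (LP (LK LD1_c8 LD2_c55 LD3_c38)) = (LP (LK LD1_c10 LD2_c3 LD3_c29)) :=
  Lgr Lrot73 (Lpr_dt (K25.f41597 IH) (Lpr_et (K25.f199141 IH) (Lpr_dt (K22.f337672 IH) (Lpr_et (K25.f337680 IH) (Lpr_dt (K23.f341103 IH) (Lpn (LP (LK LD1_c10 LD2_c3 LD3_c29))))))))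
theorem f42542 : Led Lsl_et (LP (LK LD1_c5 LD2_c23 LD3_c12)) = (LP (LK LD1_c10 LD2_c36 LD3_c60)) :=
  Lre_e IH (LK LD1_c5 LD2_c23 LD3_c12) (LK LD1_c10 LD2_c36 LD3_c60) Lrfl Lrfl
theorem f42543 : Led Lsl_gt (LP (LK LD1_c10 LD2_c36 LD3_c60)) = (LP (LK LD1_c11 LD2_c54 LD3_c30)) :=
  Lgr Lrot137 (Lpe (f42542 IH) (Lpr_dt (K23.f42541 IH) (Lpe (K12.f42540 IH) (Lpe (K19.f42523 IH) (Lpr_et (K54.f42522 IH) (Lpr_gf (K1.f42496 IH) (Lpe (K19.f41817 IH) (Lpe (K1.f8639 IH) (Lpe (K19.f41712 IH) (Lpe (K19.f41730 IH) (Lpn (LP (LK LD1_c11 LD2_c54 LD3_c30)))))))))))))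
theorem f395269 : Led Lsl_gf (LP (LK LD1_c8 LD2_c54 LD3_c33)) = (LP (LK LD1_c10 LD2_c22 LD3_c19)) :=
  Lgr Lrot141 (Lpe (K54.f395246 IH) (Lpr_dt (f395219 IH) (Lpr_gt (f395262 IH) (Lpr_df (K25.f341108 IH) (Lpe (f341110 IH) (Lpe (K25.f199135 IH) (Lpr_dt (K22.f42546 IH) (Lpr_gt (f42543 IH) (Lpe (K20.f41715 IH) (Lpr_et (K20.f278573 IH) (Lpn (LP (LK LD1_c10 LD2_c22 LD3_c19)))))))))))))
theorem f335378 : Led Lsl_et (LP (LK LD1_c11 LD2_c52 LD3_c19)) = (LP (LK LD1_c6 LD2_c4 LD3_c44)) :=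
  Lgr Lrot87 (Lpr_ef (K22.f335374 IH) (Lpn (LP (LK LD1_c6 LD2_c4 LD3_c44))))
theorem f178753 : Led Lsl_dt (LP (LK LD1_c10 LD2_c23 LD3_c21)) = (LP (LK LD1_c5 LD2_c16 LD3_c53)) :=
  Lre_d IH (LK LD1_c10 LD2_c23 LD3_c21) (LK LD1_c5 LD2_c16 LD3_c53) Lrfl Lrfl
theorem f178747 : Led Lsl_bt (LP (LK LD1_c10 LD2_c2 LD3_c19)) = (LP (LK LD1_c5 LD2_c5 LD3_c34)) :=
  Lre_b IH (LK LD1_c10 LD2_c2 LD3_c19) (LK LD1_c5 LD2_c5 LD3_c34) Lrfl Lrfl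
theorem f178748 : Led Lsl_bt (LP (LK LD1_c5 LD2_c16 LD3_c54)) = (LP (LK LD1_c10 LD2_c23 LD3_c21)) :=
  Lre_b IH (LK LD1_c5 LD2_c16 LD3_c54) (LK LD1_c10 LD2_c23 LD3_c21) Lrfl Lrfl
theorem f178749 : Led Lsl_ef (LP (LK LD1_c10 LD2_c2 LD3_c19)) = (LP (LK LD1_c10 LD2_c23 LD3_c21)) :=
  Lgr Lrot29 (Lpr_bt (f178747 IH) (Lpr_et (K10.f178745 IH) (Lpr_bt (f178748 IH) (Lpn (LP (LK LD1_c10 LD2_c23 LD3_c21))))))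
theorem f395210 : Led Lsl_gt (LP (LK LD1_c10 LD2_c2 LD3_c19)) = (LP (LK LD1_c10 LD2_c14 LD3_c47)) :=
  Lgr Lrot137 (Lpr_ef (f178749 IH) (Lpr_dt (f178753 IH) (Lpr_gf (K54.f395202 IH) (Lpe (K1.f46068 IH) (Lpr_et (K1.f44767 IH) (Lpe (K12.f230660 IH) (Lpe (K14.f44079 IH) (Lpr_dt (K23.f341112 IH) (Lpe (K23.f341131 IH) (Lpe (K23.f274425 IH) (Lpn (LP (LK LD1_c10 LD2_c14 LD3_c47)))))))))))))
theorem f395277 : Led Lsl_dt (LP (LK LD1_c8 LD2_c54 LD3_c33)) = (LP (LK LD1_c10 LD2_c2 LD3_c19)) :=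
  Lgr Lrot171 (Lpr_gf (f395269 IH) (Lpe (K20.f278573 IH) (Lpr_dt (K20.f41715 IH) (Lpe (f42543 IH) (Lpe (K22.f42546 IH) (Lpr_et (K22.f42550 IH) (Lpe (K26.f318197 IH) (Lpe (f335378 IH) (Lpe (K23.f274420 IH) (Lpe (f395210 IH) (Lpn (LP (LK LD1_c10 LD2_c2 LD3_c19)))))))))))))
theorem f395279 : Led Lsl_bf (LP (LK LD1_c8 LD2_c54 LD3_c33)) = (LP (LK LD1_c4 LD2_c29 LD3_c47)) :=
  Lgr Lrot93 (Lpr_dt (f395277 IH) (Lpr_bt (f178747 IH) (Lpe (K22.f184978 IH) (Lpn (LP (LK LD1_c4 LD2_c29 LD3_c47))))))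
theorem f395276 : Led Lsl_bt (LP (LK LD1_c16 LD2_c39 LD3_c60)) = (LP (LK LD1_c26 LD2_c38 LD3_c25)) :=
  Lre_b IH (LK LD1_c16 LD2_c39 LD3_c60) (LK LD1_c26 LD2_c38 LD3_c25) Lrfl Lrfl
theorem f184977 : Led Lsl_ct (LP (LK LD1_c8 LD2_c57 LD3_c42)) = (LP (LK LD1_c4 LD2_c29 LD3_c47)) :=
  Lre_c IH (LK LD1_c8 LD2_c57 LD3_c42) (LK LD1_c4 LD2_c29 LD3_c47) Lrfl Lrfl
theorem f395294 : Led Lsl_bt (LP (LK LD1_c16 LD2_c46 LD3_c25)) = (LP (LK LD1_c8 LD2_c57 LD3_c42)) :=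
  Lre_b IH (LK LD1_c16 LD2_c46 LD3_c25) (LK LD1_c8 LD2_c57 LD3_c42) Lrfl Lrfl
theorem f395300 : Led Lsl_ct (LP (LK LD1_c26 LD2_c38 LD3_c25)) = (LP (LK LD1_c16 LD2_c46 LD3_c25)) :=
  Lgr Lrot83 (Lpe (f395276 IH) (Lpe (K54.f395271 IH) (Lpr_bf (f395279 IH) (Lpe (f184977 IH) (Lpe (f395294 IH) (Lpn (LP (LK LD1_c16 LD2_c46 LD3_c25))))))))
theorem f395306 : Led Lsl_et (LP (LK LD1_c16 LD2_c39 LD3_c58)) = (LP (LK LD1_c26 LD2_c38 LD3_c25)) :=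
  Lre_e IH (LK LD1_c16 LD2_c39 LD3_c58) (LK LD1_c26 LD2_c38 LD3_c25) Lrfl Lrfl
theorem f395307 : Led Lsl_et (LP (LK LD1_c16 LD2_c46 LD3_c25)) = (LP (LK LD1_c8 LD2_c57 LD3_c41)) :=
  Lre_e IH (LK LD1_c16 LD2_c46 LD3_c25) (LK LD1_c8 LD2_c57 LD3_c41) Lrfl Lrfl
theorem f395308 : Led Lsl_cf (LP (LK LD1_c16 LD2_c39 LD3_c58)) = (LP (LK LD1_c8 LD2_c57 LD3_c41)) :=
  Lgr Lrot39 (Lpr_et (f395306 IH) (Lpr_ct (f395300 IH) (Lpr_et (f395307 IH) (Lpn (LP (LK LD1_c8 LD2_c57 LD3_c41))))))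
theorem f395320 : Led Lsl_gt (LP (LK LD1_c26 LD2_c38 LD3_c22)) = (LP (LK LD1_c16 LD2_c39 LD3_c58)) :=
  Lre_g IH (LK LD1_c26 LD2_c38 LD3_c22) (LK LD1_c16 LD2_c39 LD3_c58) Lrfl Lrfl
theorem f949069 : Led Lsl_cf (LP (LK LD1_c26 LD2_c38 LD3_c22)) = v45344 :=
  Lgr Lrot160 (Lpr_gt (f395320 IH) (Lpr_cf (f395308 IH) (Lpr_bt (f185048 IH) (Lpe (K23.f185040 IH) (Lpe (K20.f167914 IH) (Lpr_gt (K21.f168760 IH) (Lpe (K54.f281428 IH) (Lpr_bt (K54.f281423 IH) (Lpr_gt (f281431 IH) (Lpr_bf (f949068 IH) (Lpn v45344)))))))))))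
theorem f949070 : Led Lsl_bt (LP (LK LD1_c26 LD2_c38 LD3_c22)) = (LP (LK LD1_c32 LD2_c13 LD3_c23)) :=
  Lre_b IH (LK LD1_c26 LD2_c38 LD3_c22) (LK LD1_c32 LD2_c13 LD3_c23) Lrfl Lrfl
theorem f281443 : Led Lsl_ct (LP (LK LD1_c19 LD2_c43 LD3_c58)) = (LP (LK LD1_c10 LD2_c55 LD3_c30)) :=
  Lre_c IH (LK LD1_c19 LD2_c43 LD3_c58) (LK LD1_c10 LD2_c55 LD3_c30) Lrfl Lrfl
theorem f281445 : Led Lsl_bt (LP (LK LD1_c29 LD2_c3 LD3_c16)) = (LP (LK LD1_c19 LD2_c43 LD3_c58)) :=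
  Lre_b IH (LK LD1_c29 LD2_c3 LD3_c16) (LK LD1_c19 LD2_c43 LD3_c58) Lrfl Lrfl
theorem f949071 : Led Lsl_ct (LP (LK LD1_c32 LD2_c13 LD3_c23)) = (LP (LK LD1_c29 LD2_c3 LD3_c16)) :=
  Lgr Lrot83 (Lpe (f949070 IH) (Lpr_cf (f949069 IH) (Lpe (f949067 IH) (Lpe (f281443 IH) (Lpe (f281445 IH) (Lpn (LP (LK LD1_c29 LD2_c3 LD3_c16))))))))
theorem f949072 : Led Lsl_ct (LP (LK LD1_c32 LD2_c13 LD3_c23)) = (LP (LK LD1_c29 LD2_c3 LD3_c16)) :=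
  Leop (Lpe (f949071 IH) (Lpn (LP (LK LD1_c32 LD2_c13 LD3_c23))))
theorem seed_2731 : LEOK LG_c (LK LD1_c32 LD2_c13 LD3_c23) :=
  Leoe_c (LK LD1_c32 LD2_c13 LD3_c23) (f949072 IH)
def v45423 : LQ := Led Lsl_ft (LP (LK LD1_c10 LD2_c56 LD3_c17))
theorem f949338 : Led Lsl_ft (LP (LK LD1_c10 LD2_c56 LD3_c17)) = v45423 :=
  Lrfl
theorem f261732 : Led Lsl_gt (LP (LK LD1_c10 LD2_c56 LD3_c17)) = (LP (LK LD1_c19 LD2_c45 LD3_c13)) :=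
  Lre_g IH (LK LD1_c10 LD2_c56 LD3_c17) (LK LD1_c19 LD2_c45 LD3_c13) Lrfl Lrfl
theorem f731724 : Led Lsl_at (LP (LK LD1_c5 LD2_c32 LD3_c21)) = (LP (LK LD1_c10 LD2_c56 LD3_c17)) :=
  Lre_a IH (LK LD1_c5 LD2_c32 LD3_c21) (LK LD1_c10 LD2_c56 LD3_c17) Lrfl Lrfl
theorem f949339 : Led Lsl_af (LP (LK LD1_c10 LD2_c56 LD3_c25)) = v45423 :=
  Lgr Lrot45 (Lpr_ft (K20.f281065 IH) (Lpr_at (f731724 IH) (Lpr_ft (f949338 IH) (Lpn v45423))))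
theorem f949342 : Led Lsl_gt (LP (LK LD1_c19 LD2_c45 LD3_c13)) = (LP (LK LD1_c10 LD2_c56 LD3_c25)) :=
  Lgr Lrot46 (Lpe (f261732 IH) (Lpr_ft (f949338 IH) (Lpe (f949339 IH) (Lpn (LP (LK LD1_c10 LD2_c56 LD3_c25))))))
theorem f949343 : Led Lsl_gt (LP (LK LD1_c19 LD2_c45 LD3_c13)) = (LP (LK LD1_c10 LD2_c56 LD3_c25)) :=
  Leop (Lpe (f949342 IH) (Lpn (LP (LK LD1_c19 LD2_c45 LD3_c13))))
theorem seed_2732 : LEOK LG_g (LK LD1_c19 LD2_c45 LD3_c13) :=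
  Leoe_g (LK LD1_c19 LD2_c45 LD3_c13) (f949343 IH)
def v45431 : LQ := Led Lsl_ct (LP (LK LD1_c10 LD2_c56 LD3_c23))
theorem f949409 : Led Lsl_ct (LP (LK LD1_c10 LD2_c56 LD3_c23)) = v45431 :=
  Lrfl
theorem f949411 : Led Lsl_cf (LP (LK LD1_c10 LD2_c56 LD3_c23)) = v45431 :=
  Lgr Lrot11 (Lpr_ct (f949409 IH) (Lpn v45431))
theorem f949341 : Led Lsl_ff (LP (LK LD1_c10 LD2_c56 LD3_c17)) = v45423 :=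
  Lgr Lrot3 (Lpr_ft (f949338 IH) (Lpn v45423))
theorem f638456 : Led Lsl_at (LP (LK LD1_c10 LD2_c56 LD3_c17)) = (LP (LK LD1_c5 LD2_c32 LD3_c21)) :=
  Lre_a IH (LK LD1_c10 LD2_c56 LD3_c17) (LK LD1_c5 LD2_c32 LD3_c21) Lrfl Lrfl
theorem f377175 : Led Lsl_gt (LP (LK LD1_c10 LD2_c56 LD3_c23)) = (LP (LK LD1_c5 LD2_c32 LD3_c21)) :=
  Lre_g IH (LK LD1_c10 LD2_c56 LD3_c23) (LK LD1_c5 LD2_c32 LD3_c21) Lrfl Lrfl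
theorem f949361 : Led Lsl_gf (LP (LK LD1_c10 LD2_c56 LD3_c23)) = v45423 :=
  Lgr Lrot47 (Lpr_gt (f377175 IH) (Lpe (f638456 IH) (Lpr_ff (f949341 IH) (Lpn v45423))))
theorem f261727 : Led Lsl_ct (LP (LK LD1_c10 LD2_c56 LD3_c17)) = (LP (LK LD1_c5 LD2_c32 LD3_c40)) :=
  Lre_c IH (LK LD1_c10 LD2_c56 LD3_c17) (LK LD1_c5 LD2_c32 LD3_c40) Lrfl Lrfl
theorem f949360 : Led Lsl_ct K54.v15124 = v45423 :=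
  Lgr Lrot40 (Lpe (K54.f732441 IH) (Lpe (f261727 IH) (Lpr_ff (f949341 IH) (Lpn v45423))))
def v37578 : LQ := Led Lsl_ft (LP (LK LD1_c8 LD2_c58 LD3_c5))
theorem f895344 : Led Lsl_ft (LP (LK LD1_c8 LD2_c58 LD3_c5)) = v37578 :=
  Lrfl
theorem f895348 : Led Lsl_ff (LP (LK LD1_c8 LD2_c58 LD3_c5)) = v37578 :=
  Lgr Lrot3 (Lpr_ft (f895344 IH) (Lpn v37578))
theorem f895351 : Led Lsl_bt K54.v15124 = v37578 :=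
  Lgr Lrot35 (Lpe (K54.f732441 IH) (Lpr_bf (K20.f280672 IH) (Lpr_ff (f895348 IH) (Lpn v37578))))
theorem f280671 : Led Lsl_at (LP (LK LD1_c8 LD2_c58 LD3_c5)) = (LP (LK LD1_c4 LD2_c29 LD3_c60)) :=
  Lre_a IH (LK LD1_c8 LD2_c58 LD3_c5) (LK LD1_c4 LD2_c29 LD3_c60) Lrfl Lrfl
def v12734 : LQ := Led Lsl_ft (LP (LK LD1_c4 LD2_c29 LD3_c60))
theorem f697898 : Led Lsl_ft (LP (LK LD1_c4 LD2_c29 LD3_c60)) = v12734 :=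
  Lrfl
theorem f895350 : Led Lsl_at v12734 = v37578 :=
  Lgr Lrot66 (Lpe (f697898 IH) (Lpe (f280671 IH) (Lpr_ff (f895348 IH) (Lpn v37578))))
theorem f322449 : Led Lsl_gt (LP (LK LD1_c4 LD2_c29 LD3_c60)) = (LP (LK LD1_c8 LD2_c58 LD3_c7)) :=
  Lre_g IH (LK LD1_c4 LD2_c29 LD3_c60) (LK LD1_c8 LD2_c58 LD3_c7) Lrfl Lrfl
theorem f895356 : Led Lsl_gt (LP (LK LD1_c8 LD2_c58 LD3_c7)) = v37578 :=
  Lgr Lrot46 (Lpe (f322449 IH) (Lpr_ft (f697898 IH) (Lpr_at (f895350 IH) (Lpn v37578))))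
theorem f379883 : Led Lsl_bt (LP (LK LD1_c16 LD2_c47 LD3_c4)) = (LP (LK LD1_c8 LD2_c58 LD3_c7)) :=
  Lre_b IH (LK LD1_c16 LD2_c47 LD3_c4) (LK LD1_c8 LD2_c58 LD3_c7) Lrfl Lrfl
theorem f377174 : Led Lsl_ct (LP (LK LD1_c2 LD2_c42 LD3_c31)) = (LP (LK LD1_c5 LD2_c32 LD3_c21)) :=
  Lre_c IH (LK LD1_c2 LD2_c42 LD3_c31) (LK LD1_c5 LD2_c32 LD3_c21) Lrfl Lrfl
theorem f220966 : Led Lsl_ft (LP (LK LD1_c10 LD2_c59 LD3_c11)) = (LP (LK LD1_c5 LD2_c33 LD3_c37)) :=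
  Lre_f IH (LK LD1_c10 LD2_c59 LD3_c11) (LK LD1_c5 LD2_c33 LD3_c37) Lrfl Lrfl
theorem f220967 : Led Lsl_bt (LP (LK LD1_c8 LD2_c28 LD3_c13)) = (LP (LK LD1_c10 LD2_c59 LD3_c11)) :=
  Lgr Lrot35 (Lpe (K20.f220965 IH) (Lpr_bf (K50.f220951 IH) (Lpe (f220966 IH) (Lpn (LP (LK LD1_c10 LD2_c59 LD3_c11))))))
theorem f220984 : Led Lsl_ct (LP (LK LD1_c10 LD2_c59 LD3_c11)) = (LP (LK LD1_c5 LD2_c33 LD3_c44)) :=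
  Lre_c IH (LK LD1_c10 LD2_c59 LD3_c11) (LK LD1_c5 LD2_c33 LD3_c44) Lrfl Lrfl
theorem f220985 : Led Lsl_bt (LP (LK LD1_c5 LD2_c33 LD3_c44)) = (LP (LK LD1_c2 LD2_c42 LD3_c58)) :=
  Lre_b IH (LK LD1_c5 LD2_c33 LD3_c44) (LK LD1_c2 LD2_c42 LD3_c58) Lrfl Lrfl
theorem f342175 : Led Lsl_ct (LP (LK LD1_c2 LD2_c42 LD3_c58)) = (LP (LK LD1_c3 LD2_c58 LD3_c43)) :=
  Lgr Lrot83 (Lpe (f220985 IH) (Lpe (f220984 IH) (Lpe (f220967 IH) (Lpe (K21.f220983 IH) (Lpr_bf (K23.f342169 IH) (Lpn (LP (LK LD1_c3 LD2_c58 LD3_c43))))))))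
theorem f221013 : Led Lsl_bt (LP (LK LD1_c2 LD2_c42 LD3_c58)) = (LP (LK LD1_c5 LD2_c33 LD3_c44)) :=
  Lre_b IH (LK LD1_c2 LD2_c42 LD3_c58) (LK LD1_c5 LD2_c33 LD3_c44) Lrfl Lrfl
theorem f221016 : Led Lsl_gt (LP (LK LD1_c5 LD2_c33 LD3_c44)) = (LP (LK LD1_c10 LD2_c59 LD3_c4)) :=
  Lre_g IH (LK LD1_c5 LD2_c33 LD3_c44) (LK LD1_c10 LD2_c59 LD3_c4) Lrfl Lrfl
theorem f949412 : Led Lsl_bf (LP (LK LD1_c10 LD2_c59 LD3_c4)) = v45431 :=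
  Lgr Lrot34 (Lpe (f221016 IH) (Lpe (f221013 IH) (Lpr_ct (f342175 IH) (Lpr_gf (K26.f363419 IH) (Lpr_cf (K54.f377161 IH) (Lpe (K54.f226418 IH) (Lpe (K27.f280677 IH) (Lpr_ct (f377174 IH) (Lpe (f377175 IH) (Lpr_cf (f949411 IH) (Lpn v45431)))))))))))
theorem f319825 : Led Lsl_gt (LP (LK LD1_c10 LD2_c59 LD3_c4)) = (LP (LK LD1_c5 LD2_c33 LD3_c34)) :=
  Lre_g IH (LK LD1_c10 LD2_c59 LD3_c4) (LK LD1_c5 LD2_c33 LD3_c34) Lrfl Lrfl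
theorem f379870 : Led Lsl_ct (LP (LK LD1_c5 LD2_c33 LD3_c34)) = (LP (LK LD1_c10 LD2_c59 LD3_c2)) :=
  Lre_c IH (LK LD1_c5 LD2_c33 LD3_c34) (LK LD1_c10 LD2_c59 LD3_c2) Lrfl Lrfl
theorem f238495 : Led Lsl_gt (LP (LK LD1_c10 LD2_c59 LD3_c2)) = (LP (LK LD1_c19 LD2_c49 LD3_c34)) :=
  Lre_g IH (LK LD1_c10 LD2_c59 LD3_c2) (LK LD1_c19 LD2_c49 LD3_c34) Lrfl Lrfl
theorem f949414 : Led Lsl_ct (LP (LK LD1_c16 LD2_c47 LD3_c4)) = (LP (LK LD1_c19 LD2_c49 LD3_c34)) :=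
  Lgr Lrot63 (Lpr_bt (f379883 IH) (Lpr_gt (f895356 IH) (Lpe (f895351 IH) (Lpr_ct (f949360 IH) (Lpe (f949361 IH) (Lpr_cf (f949411 IH) (Lpe (f949412 IH) (Lpr_gt (f319825 IH) (Lpr_ct (f379870 IH) (Lpr_gt (f238495 IH) (Lpn (LP (LK LD1_c19 LD2_c49 LD3_c34)))))))))))))
theorem f949415 : Led Lsl_ct (LP (LK LD1_c16 LD2_c47 LD3_c4)) = (LP (LK LD1_c19 LD2_c49 LD3_c34)) :=
  Leop (Lpe (f949414 IH) (Lpn (LP (LK LD1_c16 LD2_c47 LD3_c4))))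
theorem seed_2733 : LEOK LG_c (LK LD1_c16 LD2_c47 LD3_c4) :=
  Leoe_c (LK LD1_c16 LD2_c47 LD3_c4) (f949415 IH)
theorem f363421 : Led Lsl_ct (LP (LK LD1_c10 LD2_c59 LD3_c4)) = (LP (LK LD1_c19 LD2_c49 LD3_c39)) :=
  Lre_c IH (LK LD1_c10 LD2_c59 LD3_c4) (LK LD1_c19 LD2_c49 LD3_c39) Lrfl Lrfl
theorem f949365 : Led Lsl_bt (LP (LK LD1_c19 LD2_c45 LD3_c29)) = (LP (LK LD1_c10 LD2_c56 LD3_c23)) :=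
  Lre_b IH (LK LD1_c19 LD2_c45 LD3_c29) (LK LD1_c10 LD2_c56 LD3_c23) Lrfl Lrfl
theorem f949410 : Led Lsl_ct (LP (LK LD1_c29 LD2_c4 LD3_c30)) = (LP (LK LD1_c19 LD2_c45 LD3_c29)) :=
  Lre_c IH (LK LD1_c29 LD2_c4 LD3_c30) (LK LD1_c19 LD2_c45 LD3_c29) Lrfl Lrfl
theorem f949427 : Led Lsl_bt (LP (LK LD1_c19 LD2_c49 LD3_c39)) = (LP (LK LD1_c29 LD2_c4 LD3_c30)) :=
  Lgr Lrot128 (Lpe (f363421 IH) (Lpr_bf (f949412 IH) (Lpe (f949409 IH) (Lpe (f949365 IH) (Lpe (f949410 IH) (Lpn (LP (LK LD1_c29 LD2_c4 LD3_c30))))))))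
theorem f949428 : Led Lsl_bt (LP (LK LD1_c19 LD2_c49 LD3_c39)) = (LP (LK LD1_c29 LD2_c4 LD3_c30)) :=
  Leop (Lpe (f949427 IH) (Lpn (LP (LK LD1_c19 LD2_c49 LD3_c39))))
theorem seed_2734 : LEOK LG_b (LK LD1_c19 LD2_c49 LD3_c39) :=
  Leoe_b (LK LD1_c19 LD2_c49 LD3_c39) (f949428 IH)
def v45485 : LQ := Led Lsl_dt (LP (LK LD1_c10 LD2_c57 LD3_c12))
theorem f949626 : Led Lsl_dt (LP (LK LD1_c10 LD2_c57 LD3_c12)) = v45485 :=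
  Lrfl
theorem f737346 : Led Lsl_ff (LP (LK LD1_c10 LD2_c57 LD3_c12)) = (LP (LK LD1_c16 LD2_c46 LD3_c10)) :=
  Lgr Lrot3 (Lpr_ft (K69.f737340 IH) (Lpn (LP (LK LD1_c16 LD2_c46 LD3_c10))))
def v45022 : LQ := Led Lsl_gf (LP (LK LD1_c10 LD2_c52 LD3_c44))
theorem f947810 : Led Lsl_gf (LP (LK LD1_c10 LD2_c52 LD3_c44)) = v45022 :=
  Lrfl
theorem f947811 : Led Lsl_dt (LP (LK LD1_c16 LD2_c46 LD3_c10)) = v45022 :=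
  Lgr Lrot57 (Lpe (K22.f281183 IH) (Lpe (K20.f280653 IH) (Lpe (K31.f390793 IH) (Lpr_dt (K54.f339353 IH) (Lpr_gt (K30.f234786 IH) (Lpr_dt (K54.f175115 IH) (Lpe (K30.f175077 IH) (Lpe (K52.f175277 IH) (Lpr_gf (f947810 IH) (Lpn v45022))))))))))
theorem f947813 : Led Lsl_df (LP (LK LD1_c16 LD2_c46 LD3_c10)) = v45022 :=
  Lgr Lrot38 (Lpr_dt (f947811 IH) (Lpn v45022))
theorem f949629 : Led Lsl_ff v45022 = v45485 :=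
  Lgr Lrot19 (Lpe (f947813 IH) (Lpe (f737346 IH) (Lpr_dt (f949626 IH) (Lpn v45485))))
theorem f947812 : Led Lsl_af (LP (LK LD1_c19 LD2_c47 LD3_c0)) = v45022 :=
  Lgr Lrot117 (Lpr_dt (K69.f281296 IH) (Lpr_at (K69.f737334 IH) (Lpr_dt (f947811 IH) (Lpn v45022))))
theorem f895474 : Led Lsl_ff (LP (LK LD1_c19 LD2_c40 LD3_c1)) = (LP (LK LD1_c19 LD2_c47 LD3_c0)) :=
  Lgr Lrot19 (Lpr_dt (K69.f895470 IH) (Lpe (K69.f737330 IH) (Lpr_dt (K54.f174337 IH) (Lpn (LP (LK LD1_c19 LD2_c47 LD3_c0))))))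
theorem f949631 : Led Lsl_at (LP (LK LD1_c19 LD2_c40 LD3_c1)) = v45485 :=
  Lgr Lrot66 (Lpr_ff (f895474 IH) (Lpr_af (f947812 IH) (Lpr_ff (f949629 IH) (Lpn v45485))))
theorem f949633 : Led Lsl_gt (LP (LK LD1_c19 LD2_c39 LD3_c48)) = v45485 :=
  Lgr Lrot46 (Lpe (K69.f391455 IH) (Lpe (f895474 IH) (Lpr_at (f949631 IH) (Lpn v45485))))
theorem f949628 : Led Lsl_df (LP (LK LD1_c10 LD2_c57 LD3_c12)) = v45485 :=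
  Lgr Lrot38 (Lpr_dt (f949626 IH) (Lpn v45485))
theorem f281219 : Led Lsl_ff (LP (LK LD1_c19 LD2_c43 LD3_c5)) = (LP (LK LD1_c26 LD2_c45 LD3_c30)) :=
  Lgr Lrot3 (Lpr_ft (K31.f281212 IH) (Lpn (LP (LK LD1_c26 LD2_c45 LD3_c30))))
theorem f280631 : Led Lsl_gt (LP (LK LD1_c20 LD2_c10 LD3_c26)) = (LP (LK LD1_c11 LD2_c15 LD3_c20)) :=
  Lre_g IH (LK LD1_c20 LD2_c10 LD3_c26) (LK LD1_c11 LD2_c15 LD3_c20) Lrfl Lrfl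
theorem f281223 : Led Lsl_gf (LP (LK LD1_c20 LD2_c10 LD3_c26)) = (LP (LK LD1_c26 LD2_c45 LD3_c30)) :=
  Lgr Lrot47 (Lpr_gt (f280631 IH) (Lpe (K31.f280882 IH) (Lpr_ff (f281219 IH) (Lpn (LP (LK LD1_c26 LD2_c45 LD3_c30))))))
theorem f280633 : Led Lsl_dt (LP (LK LD1_c20 LD2_c10 LD3_c26)) = (LP (LK LD1_c29 LD2_c20 LD3_c15)) :=
  Lre_d IH (LK LD1_c20 LD2_c10 LD3_c26) (LK LD1_c29 LD2_c20 LD3_c15) Lrfl Lrfl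
theorem f949634 : Led Lsl_cf (LP (LK LD1_c29 LD2_c0 LD3_c38)) = (LP (LK LD1_c29 LD2_c20 LD3_c15)) :=
  Lgr Lrot89 (Lpr_bt (K52.f386266 IH) (Lpr_gt (f949633 IH) (Lpe (f949628 IH) (Lpe (K50.f387650 IH) (Lpr_bt (K38.f387644 IH) (Lpr_gt (K31.f387638 IH) (Lpr_dt (K30.f238489 IH) (Lpr_ct (K31.f238488 IH) (Lpr_bt (K30.f314462 IH) (Lpe (K67.f387981 IH) (Lpr_dt (K30.f387991 IH) (Lpr_ct (K31.f218379 IH) (Lpr_bt (K24.f281580 IH) (Lpr_gt (K24.f281578 IH) (Lpr_dt (K31.f280817 IH) (Lpr_ct (K20.f280639 IH) (Lpr_bt (K20.f174462 IH) (Lpe (f281223 IH) (Lpr_dt (f280633 IH) (Lpn (LP (LK LD1_c29 LD2_c20 LD3_c15))))))))))))))))))))))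
theorem f949635 : Led Lsl_ct (LP (LK LD1_c29 LD2_c20 LD3_c15)) = (LP (LK LD1_c29 LD2_c0 LD3_c38)) :=
  Leop (Lpr_cf (f949634 IH) (Lpn (LP (LK LD1_c29 LD2_c20 LD3_c15))))
theorem seed_2735 : LEOK LG_c (LK LD1_c29 LD2_c20 LD3_c15) :=
  Leoe_c (LK LD1_c29 LD2_c20 LD3_c15) (f949635 IH)
def v45503 : LQ := Led Lsl_ft (LP (LK LD1_c10 LD2_c57 LD3_c17))
theorem f949737 : Led Lsl_ft (LP (LK LD1_c10 LD2_c57 LD3_c17)) = v45503 :=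
  Lrfl
theorem f638159 : Led Lsl_gt (LP (LK LD1_c10 LD2_c57 LD3_c17)) = (LP (LK LD1_c19 LD2_c47 LD3_c8)) :=
  Lre_g IH (LK LD1_c10 LD2_c57 LD3_c17) (LK LD1_c19 LD2_c47 LD3_c8) Lrfl Lrfl
def v45502 : LQ := Led Lsl_at (LP (LK LD1_c10 LD2_c57 LD3_c17))
theorem f949725 : Led Lsl_at (LP (LK LD1_c10 LD2_c57 LD3_c17)) = v45502 :=
  Lrfl
theorem f949726 : Led Lsl_af (LP (LK LD1_c10 LD2_c57 LD3_c17)) = v45502 :=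
  Lgr Lrot0 (Lpr_at (f949725 IH) (Lpn v45502))
theorem f638158 : Led Lsl_ct (LP (LK LD1_c5 LD2_c32 LD3_c45)) = (LP (LK LD1_c10 LD2_c57 LD3_c17)) :=
  Lre_c IH (LK LD1_c5 LD2_c32 LD3_c45) (LK LD1_c10 LD2_c57 LD3_c17) Lrfl Lrfl
def v15129 : LQ := Led Lsl_at (LP (LK LD1_c5 LD2_c32 LD3_c45))
theorem f732475 : Led Lsl_at (LP (LK LD1_c5 LD2_c32 LD3_c45)) = v15129 :=
  Lrfl
theorem f732476 : Led Lsl_af (LP (LK LD1_c5 LD2_c32 LD3_c45)) = v15129 :=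
  Lgr Lrot0 (Lpr_at (f732475 IH) (Lpn v15129))
theorem f949727 : Led Lsl_cf v15129 = v45502 :=
  Lgr Lrot1 (Lpe (f732476 IH) (Lpr_ct (f638158 IH) (Lpr_at (f949725 IH) (Lpn v45502))))
theorem f226225 : Led Lsl_gt (LP (LK LD1_c2 LD2_c42 LD3_c31)) = (LP (LK LD1_c5 LD2_c32 LD3_c45)) :=
  Lre_g IH (LK LD1_c2 LD2_c42 LD3_c31) (LK LD1_c5 LD2_c32 LD3_c45) Lrfl Lrfl
theorem f352701 : Led Lsl_gt (LP (LK LD1_c5 LD2_c32 LD3_c46)) = (LP (LK LD1_c2 LD2_c42 LD3_c31)) :=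
  Lre_g IH (LK LD1_c5 LD2_c32 LD3_c46) (LK LD1_c2 LD2_c42 LD3_c31) Lrfl Lrfl
theorem f732480 : Led Lsl_ft (LP (LK LD1_c5 LD2_c32 LD3_c46)) = v15129 :=
  Lgr Lrot2 (Lpr_gt (f352701 IH) (Lpr_gt (f226225 IH) (Lpr_af (f732476 IH) (Lpn v15129))))
theorem f732482 : Led Lsl_ff (LP (LK LD1_c5 LD2_c32 LD3_c46)) = v15129 :=
  Lgr Lrot3 (Lpr_ft (f732480 IH) (Lpn v15129))
theorem f638452 : Led Lsl_ct (LP (LK LD1_c5 LD2_c32 LD3_c46)) = (LP (LK LD1_c10 LD2_c57 LD3_c21)) :=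
  Lre_c IH (LK LD1_c5 LD2_c32 LD3_c46) (LK LD1_c10 LD2_c57 LD3_c21) Lrfl Lrfl
theorem f949729 : Led Lsl_ft (LP (LK LD1_c10 LD2_c57 LD3_c21)) = v45502 :=
  Lgr Lrot4 (Lpe (f638452 IH) (Lpr_ff (f732482 IH) (Lpr_cf (f949727 IH) (Lpn v45502))))
theorem f949738 : Led Lsl_af (LP (LK LD1_c10 LD2_c57 LD3_c21)) = v45503 :=
  Lgr Lrot45 (Lpr_ft (f949729 IH) (Lpe (f949726 IH) (Lpr_ft (f949737 IH) (Lpn v45503))))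
theorem f949741 : Led Lsl_gt (LP (LK LD1_c19 LD2_c47 LD3_c8)) = (LP (LK LD1_c10 LD2_c57 LD3_c21)) :=
  Lgr Lrot46 (Lpe (f638159 IH) (Lpr_ft (f949737 IH) (Lpe (f949738 IH) (Lpn (LP (LK LD1_c10 LD2_c57 LD3_c21))))))
theorem f949742 : Led Lsl_gt (LP (LK LD1_c19 LD2_c47 LD3_c8)) = (LP (LK LD1_c10 LD2_c57 LD3_c21)) :=
  Leop (Lpe (f949741 IH) (Lpn (LP (LK LD1_c19 LD2_c47 LD3_c8))))
theorem seed_2736 : LEOK LG_g (LK LD1_c19 LD2_c47 LD3_c8) :=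
  Leoe_g (LK LD1_c19 LD2_c47 LD3_c8) (f949742 IH)
def v45746 : LQ := Led Lsl_gf (LP (LK LD1_c10 LD2_c59 LD3_c13))
theorem f950612 : Led Lsl_gf (LP (LK LD1_c10 LD2_c59 LD3_c13)) = v45746 :=
  Lrfl
theorem f727729 : Led Lsl_dt (LP (LK LD1_c19 LD2_c33 LD3_c53)) = (LP (LK LD1_c10 LD2_c49 LD3_c27)) :=
  Lre_d IH (LK LD1_c19 LD2_c33 LD3_c53) (LK LD1_c10 LD2_c49 LD3_c27) Lrfl Lrfl
theorem f727713 : Led Lsl_bt (LP (LK LD1_c10 LD2_c49 LD3_c27)) = (LP (LK LD1_c11 LD2_c9 LD3_c9)) :=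
  Lgr Lrot127 (Lpr_bf (K54.f727711 IH) (Lpn (LP (LK LD1_c11 LD2_c9 LD3_c9))))
theorem f727795 : Led Lsl_df (LP (LK LD1_c19 LD2_c43 LD3_c15)) = (LP (LK LD1_c11 LD2_c9 LD3_c9)) :=
  Lgr Lrot12 (Lpr_bt (K67.f727779 IH) (Lpr_dt (f727729 IH) (Lpr_bt (f727713 IH) (Lpn (LP (LK LD1_c11 LD2_c9 LD3_c9))))))
theorem f332439 : Led Lsl_ft (LP (LK LD1_c17 LD2_c53 LD3_c17)) = (LP (LK LD1_c9 LD2_c44 LD3_c16)) :=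
  Lre_f IH (LK LD1_c17 LD2_c53 LD3_c17) (LK LD1_c9 LD2_c44 LD3_c16) Lrfl Lrfl
theorem f727809 : Led Lsl_gt (LP (LK LD1_c19 LD2_c43 LD3_c15)) = (LP (LK LD1_c17 LD2_c53 LD3_c30)) :=
  Lgr Lrot46 (Lpr_gf (K67.f727805 IH) (Lpr_ft (f332439 IH) (Lpr_at (K22.f332440 IH) (Lpn (LP (LK LD1_c17 LD2_c53 LD3_c30))))))
theorem f950615 : Led Lsl_ct (LP (LK LD1_c17 LD2_c53 LD3_c30)) = v45746 :=
  Lgr Lrot152 (Lpe (f727809 IH) (Lpr_df (f727795 IH) (Lpr_gt (K31.f388122 IH) (Lpe (K31.f387957 IH) (Lpr_gt (K30.f387926 IH) (Lpr_ct (K30.f225265 IH) (Lpe (K41.f388358 IH) (Lpe (K67.f226725 IH) (Lpr_gf (f950612 IH) (Lpn v45746))))))))))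
theorem f950617 : Led Lsl_cf (LP (LK LD1_c17 LD2_c53 LD3_c30)) = v45746 :=
  Lgr Lrot11 (Lpr_ct (f950615 IH) (Lpn v45746))
theorem f380453 : Led Lsl_bt (LP (LK LD1_c5 LD2_c38 LD3_c2)) = (LP (LK LD1_c11 LD2_c7 LD3_c20)) :=
  Lre_b IH (LK LD1_c5 LD2_c38 LD3_c2) (LK LD1_c11 LD2_c7 LD3_c20) Lrfl Lrfl
theorem f557301 : Led Lsl_gt (LP (LK LD1_c20 LD2_c0 LD3_c43)) = (LP (LK LD1_c11 LD2_c7 LD3_c20)) :=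
  Lre_g IH (LK LD1_c20 LD2_c0 LD3_c43) (LK LD1_c11 LD2_c7 LD3_c20) Lrfl Lrfl
theorem f950620 : Led Lsl_bf (LP (LK LD1_c20 LD2_c0 LD3_c43)) = v45746 :=
  Lgr Lrot156 (Lpr_gt (f557301 IH) (Lpe (f380453 IH) (Lpr_ct (K52.f380447 IH) (Lpe (K52.f561165 IH) (Lpe (K30.f174833 IH) (Lpr_bt (K40.f380050 IH) (Lpr_gt (K67.f289604 IH) (Lpe (K67.f727801 IH) (Lpr_gt (f727809 IH) (Lpr_cf (f950617 IH) (Lpn v45746)))))))))))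
theorem f950619 : Led Lsl_ft (LP (LK LD1_c20 LD2_c4 LD3_c29)) = v45746 :=
  Lgr Lrot4 (Lpe (K30.f384888 IH) (Lpr_ff (K30.f332429 IH) (Lpr_cf (f950617 IH) (Lpn v45746))))
theorem f380598 : Led Lsl_gt (LP (LK LD1_c20 LD2_c6 LD3_c16)) = (LP (LK LD1_c11 LD2_c11 LD3_c35)) :=
  Lre_g IH (LK LD1_c20 LD2_c6 LD3_c16) (LK LD1_c11 LD2_c11 LD3_c35) Lrfl Lrfl
theorem f388433 : Led Lsl_bt (LP (LK LD1_c20 LD2_c4 LD3_c29)) = (LP (LK LD1_c20 LD2_c6 LD3_c16)) :=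
  Lgr Lrot22 (Lpe (K30.f384893 IH) (Lpr_gf (K67.f332418 IH) (Lpr_cf (K67.f388431 IH) (Lpe (K67.f174226 IH) (Lpe (K67.f380473 IH) (Lpr_ct (K30.f289444 IH) (Lpe (K38.f380595 IH) (Lpe (K52.f380596 IH) (Lpr_bt (K52.f380597 IH) (Lpe (f380598 IH) (Lpn (LP (LK LD1_c20 LD2_c6 LD3_c16)))))))))))))
theorem f388436 : Led Lsl_bf (LP (LK LD1_c20 LD2_c4 LD3_c29)) = (LP (LK LD1_c20 LD2_c6 LD3_c16)) :=
  Lgr Lrot24 (Lpr_bt (f388433 IH) (Lpn (LP (LK LD1_c20 LD2_c6 LD3_c16))))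
theorem f950622 : Led Lsl_ft (LP (LK LD1_c20 LD2_c0 LD3_c43)) = (LP (LK LD1_c20 LD2_c6 LD3_c16)) :=
  Lgr Lrot75 (Lpr_bf (f950620 IH) (Lpe (f950619 IH) (Lpr_bf (f388436 IH) (Lpn (LP (LK LD1_c20 LD2_c6 LD3_c16))))))
theorem f950623 : Led Lsl_ft (LP (LK LD1_c20 LD2_c0 LD3_c43)) = (LP (LK LD1_c20 LD2_c6 LD3_c16)) :=
  Leop (Lpe (f950622 IH) (Lpn (LP (LK LD1_c20 LD2_c0 LD3_c43))))
theorem seed_2737 : LEOK LG_f (LK LD1_c20 LD2_c0 LD3_c43) :=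
  Leoe_f (LK LD1_c20 LD2_c0 LD3_c43) (f950623 IH)
def v45757 : LQ := Led Lsl_bt (LP (LK LD1_c10 LD2_c59 LD3_c19))
theorem f950661 : Led Lsl_bt (LP (LK LD1_c10 LD2_c59 LD3_c19)) = v45757 :=
  Lrfl
theorem f950663 : Led Lsl_cf (LP (LK LD1_c19 LD2_c43 LD3_c17)) = v45757 :=
  Lgr Lrot97 (Lpr_bt (f226120 IH) (Lpr_ct (K51.f226119 IH) (Lpr_bt (K30.f226118 IH) (Lpr_ct (K22.f226033 IH) (Lpr_bt (f950661 IH) (Lpn v45757))))))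
theorem f280815 : Led Lsl_gt (LP (LK LD1_c29 LD2_c3 LD3_c0)) = (LP (LK LD1_c19 LD2_c43 LD3_c17)) :=
  Lre_g IH (LK LD1_c29 LD2_c3 LD3_c0) (LK LD1_c19 LD2_c43 LD3_c17) Lrfl Lrfl
theorem f950662 : Led Lsl_bf (LP (LK LD1_c10 LD2_c59 LD3_c19)) = v45757 :=
  Lgr Lrot24 (Lpr_bt (f950661 IH) (Lpn v45757))
theorem f380594 : Led Lsl_gt (LP (LK LD1_c11 LD2_c11 LD3_c28)) = (LP (LK LD1_c20 LD2_c6 LD3_c0)) :=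
  Lre_g IH (LK LD1_c11 LD2_c11 LD3_c28) (LK LD1_c20 LD2_c6 LD3_c0) Lrfl Lrfl
theorem f950665 : Led Lsl_cf (LP (LK LD1_c29 LD2_c3 LD3_c0)) = (LP (LK LD1_c20 LD2_c6 LD3_c0)) :=
  Lgr Lrot125 (Lpr_gt (f280815 IH) (Lpr_cf (f950663 IH) (Lpe (f950662 IH) (Lpr_gt (K22.f225365 IH) (Lpe (K67.f380473 IH) (Lpr_ct (K30.f289444 IH) (Lpr_gt (K31.f380164 IH) (Lpe (K31.f380186 IH) (Lpr_bt (K43.f380593 IH) (Lpr_gt (f380594 IH) (Lpn (LP (LK LD1_c20 LD2_c6 LD3_c0)))))))))))))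
theorem f950666 : Led Lsl_ct (LP (LK LD1_c20 LD2_c6 LD3_c0)) = (LP (LK LD1_c29 LD2_c3 LD3_c0)) :=
  Leop (Lpr_cf (f950665 IH) (Lpn (LP (LK LD1_c20 LD2_c6 LD3_c0))))
theorem seed_2738 : LEOK LG_c (LK LD1_c20 LD2_c6 LD3_c0) :=
  Leoe_c (LK LD1_c20 LD2_c6 LD3_c0) (f950666 IH)
def v45771 : LQ := Led Lsl_ft (LP (LK LD1_c10 LD2_c59 LD3_c23))
theorem f950725 : Led Lsl_ft (LP (LK LD1_c10 LD2_c59 LD3_c23)) = v45771 :=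
  Lrfl
theorem f378120 : Led Lsl_gt (LP (LK LD1_c10 LD2_c59 LD3_c23)) = (LP (LK LD1_c19 LD2_c50 LD3_c9)) :=
  Lre_g IH (LK LD1_c10 LD2_c59 LD3_c23) (LK LD1_c19 LD2_c50 LD3_c9) Lrfl Lrfl
def v45768 : LQ := Led Lsl_at (LP (LK LD1_c10 LD2_c59 LD3_c23))
theorem f950709 : Led Lsl_at (LP (LK LD1_c10 LD2_c59 LD3_c23)) = v45768 :=
  Lrfl
theorem f950710 : Led Lsl_af (LP (LK LD1_c10 LD2_c59 LD3_c23)) = v45768 :=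
  Lgr Lrot0 (Lpr_at (f950709 IH) (Lpn v45768))
theorem f378119 : Led Lsl_ct (LP (LK LD1_c5 LD2_c33 LD3_c42)) = (LP (LK LD1_c10 LD2_c59 LD3_c23)) :=
  Lre_c IH (LK LD1_c5 LD2_c33 LD3_c42) (LK LD1_c10 LD2_c59 LD3_c23) Lrfl Lrfl
def v15196 : LQ := Led Lsl_at (LP (LK LD1_c5 LD2_c33 LD3_c42))
theorem f732799 : Led Lsl_at (LP (LK LD1_c5 LD2_c33 LD3_c42)) = v15196 :=
  Lrfl
theorem f732800 : Led Lsl_af (LP (LK LD1_c5 LD2_c33 LD3_c42)) = v15196 :=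
  Lgr Lrot0 (Lpr_at (f732799 IH) (Lpn v15196))
theorem f950711 : Led Lsl_cf v15196 = v45768 :=
  Lgr Lrot1 (Lpe (f732800 IH) (Lpr_ct (f378119 IH) (Lpr_at (f950709 IH) (Lpn v45768))))
theorem f220977 : Led Lsl_gt (LP (LK LD1_c2 LD2_c42 LD3_c56)) = (LP (LK LD1_c5 LD2_c33 LD3_c42)) :=
  Lre_g IH (LK LD1_c2 LD2_c42 LD3_c56) (LK LD1_c5 LD2_c33 LD3_c42) Lrfl Lrfl
theorem f220972 : Led Lsl_gt (LP (LK LD1_c5 LD2_c33 LD3_c43)) = (LP (LK LD1_c2 LD2_c42 LD3_c56)) :=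
  Lre_g IH (LK LD1_c5 LD2_c33 LD3_c43) (LK LD1_c2 LD2_c42 LD3_c56) Lrfl Lrfl
theorem f732803 : Led Lsl_ft (LP (LK LD1_c5 LD2_c33 LD3_c43)) = v15196 :=
  Lgr Lrot2 (Lpr_gt (f220972 IH) (Lpr_gt (f220977 IH) (Lpr_af (f732800 IH) (Lpn v15196))))
theorem f732804 : Led Lsl_ff (LP (LK LD1_c5 LD2_c33 LD3_c43)) = v15196 :=
  Lgr Lrot3 (Lpr_ft (f732803 IH) (Lpn v15196))
theorem f638514 : Led Lsl_ct (LP (LK LD1_c5 LD2_c33 LD3_c43)) = (LP (LK LD1_c10 LD2_c59 LD3_c26)) :=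
  Lre_c IH (LK LD1_c5 LD2_c33 LD3_c43) (LK LD1_c10 LD2_c59 LD3_c26) Lrfl Lrfl
theorem f950713 : Led Lsl_ft (LP (LK LD1_c10 LD2_c59 LD3_c26)) = v45768 :=
  Lgr Lrot4 (Lpe (f638514 IH) (Lpr_ff (f732804 IH) (Lpr_cf (f950711 IH) (Lpn v45768))))
theorem f950726 : Led Lsl_af (LP (LK LD1_c10 LD2_c59 LD3_c26)) = v45771 :=
  Lgr Lrot45 (Lpr_ft (f950713 IH) (Lpe (f950710 IH) (Lpr_ft (f950725 IH) (Lpn v45771))))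
theorem f950729 : Led Lsl_gt (LP (LK LD1_c19 LD2_c50 LD3_c9)) = (LP (LK LD1_c10 LD2_c59 LD3_c26)) :=
  Lgr Lrot46 (Lpe (f378120 IH) (Lpr_ft (f950725 IH) (Lpe (f950726 IH) (Lpn (LP (LK LD1_c10 LD2_c59 LD3_c26))))))
theorem f950730 : Led Lsl_gt (LP (LK LD1_c19 LD2_c50 LD3_c9)) = (LP (LK LD1_c10 LD2_c59 LD3_c26)) :=
  Leop (Lpe (f950729 IH) (Lpn (LP (LK LD1_c19 LD2_c50 LD3_c9))))
theorem seed_2739 : LEOK LG_g (LK LD1_c19 LD2_c50 LD3_c9) :=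
  Leoe_g (LK LD1_c19 LD2_c50 LD3_c9) (f950730 IH)
def v45795 : LQ := Led Lsl_ft (LP (LK LD1_c10 LD2_c59 LD3_c34))
theorem f950810 : Led Lsl_ft (LP (LK LD1_c10 LD2_c59 LD3_c34)) = v45795 :=
  Lrfl
theorem f391678 : Led Lsl_gt (LP (LK LD1_c10 LD2_c59 LD3_c34)) = (LP (LK LD1_c19 LD2_c50 LD3_c19)) :=
  Lre_g IH (LK LD1_c10 LD2_c59 LD3_c34) (LK LD1_c19 LD2_c50 LD3_c19) Lrfl Lrfl
theorem f732878 : Led Lsl_at (LP (LK LD1_c5 LD2_c33 LD3_c60)) = (LP (LK LD1_c10 LD2_c59 LD3_c34)) :=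
  Lre_a IH (LK LD1_c5 LD2_c33 LD3_c60) (LK LD1_c10 LD2_c59 LD3_c34) Lrfl Lrfl
theorem f950811 : Led Lsl_ft (LP (LK LD1_c11 LD2_c0 LD3_c9)) = (LP (LK LD1_c5 LD2_c33 LD3_c60)) :=
  Lre_f IH (LK LD1_c11 LD2_c0 LD3_c9) (LK LD1_c5 LD2_c33 LD3_c60) Lrfl Lrfl
theorem f950812 : Led Lsl_af (LP (LK LD1_c11 LD2_c0 LD3_c9)) = v45795 :=
  Lgr Lrot45 (Lpr_ft (f950811 IH) (Lpr_at (f732878 IH) (Lpr_ft (f950810 IH) (Lpn v45795))))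
theorem f950816 : Led Lsl_gt (LP (LK LD1_c19 LD2_c50 LD3_c19)) = (LP (LK LD1_c11 LD2_c0 LD3_c9)) :=
  Lgr Lrot46 (Lpe (f391678 IH) (Lpr_ft (f950810 IH) (Lpe (f950812 IH) (Lpn (LP (LK LD1_c11 LD2_c0 LD3_c9))))))
theorem f950817 : Led Lsl_gt (LP (LK LD1_c19 LD2_c50 LD3_c19)) = (LP (LK LD1_c11 LD2_c0 LD3_c9)) :=
  Leop (Lpe (f950816 IH) (Lpn (LP (LK LD1_c19 LD2_c50 LD3_c19))))
theorem seed_2740 : LEOK LG_g (LK LD1_c19 LD2_c50 LD3_c19) :=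
  Leoe_g (LK LD1_c19 LD2_c50 LD3_c19) (f950817 IH)
def v45833 : LQ := Led Lsl_ct (LP (LK LD1_c10 LD2_c59 LD3_c60))
theorem f950971 : Led Lsl_ct (LP (LK LD1_c10 LD2_c59 LD3_c60)) = v45833 :=
  Lrfl
theorem f950972 : Led Lsl_cf (LP (LK LD1_c10 LD2_c59 LD3_c60)) = v45833 :=
  Lgr Lrot11 (Lpr_ct (f950971 IH) (Lpn v45833))
theorem f80611 : Led Lsl_bt (LP (LK LD1_c8 LD2_c44 LD3_c4)) = (LP (LK LD1_c16 LD2_c21 LD3_c22)) :=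
  Lre_b IH (LK LD1_c8 LD2_c44 LD3_c4) (LK LD1_c16 LD2_c21 LD3_c22) Lrfl Lrfl
theorem f80615 : Led Lsl_gt (LP (LK LD1_c16 LD2_c21 LD3_c22)) = (LP (LK LD1_c26 LD2_c19 LD3_c28)) :=
  Lre_g IH (LK LD1_c16 LD2_c21 LD3_c22) (LK LD1_c26 LD2_c19 LD3_c28) Lrfl Lrfl
theorem f950973 : Led Lsl_bf (LP (LK LD1_c26 LD2_c19 LD3_c28)) = v45833 :=
  Lgr Lrot34 (Lpe (f80615 IH) (Lpe (f80611 IH) (Lpr_ct (K10.f80608 IH) (Lpr_gf (K10.f80605 IH) (Lpe (K1.f60472 IH) (Lpe (K13.f60740 IH) (Lpr_bf (K47.f551693 IH) (Lpe (K47.f246514 IH) (Lpr_gf (K14.f246520 IH) (Lpr_cf (f950972 IH) (Lpn v45833)))))))))))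
theorem f226302 : Led Lsl_bt (LP (LK LD1_c19 LD2_c50 LD3_c61)) = (LP (LK LD1_c11 LD2_c0 LD3_c3)) :=
  Lre_b IH (LK LD1_c19 LD2_c50 LD3_c61) (LK LD1_c11 LD2_c0 LD3_c3) Lrfl Lrfl
theorem f950975 : Led Lsl_ct (LP (LK LD1_c26 LD2_c19 LD3_c28)) = (LP (LK LD1_c19 LD2_c50 LD3_c61)) :=
  Lgr Lrot83 (Lpr_bf (f950973 IH) (Lpe (f950971 IH) (Lpe (K14.f226356 IH) (Lpe (K14.f226340 IH) (Lpe (f226302 IH) (Lpn (LP (LK LD1_c19 LD2_c50 LD3_c61))))))))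
theorem f950976 : Led Lsl_ct (LP (LK LD1_c26 LD2_c19 LD3_c28)) = (LP (LK LD1_c19 LD2_c50 LD3_c61)) :=
  Leop (Lpe (f950975 IH) (Lpn (LP (LK LD1_c26 LD2_c19 LD3_c28))))
theorem seed_2741 : LEOK LG_c (LK LD1_c26 LD2_c19 LD3_c28) :=
  Leoe_c (LK LD1_c26 LD2_c19 LD3_c28) (f950976 IH)
def v45835 : LQ := Led Lsl_ft (LP (LK LD1_c10 LD2_c59 LD3_c60))
theorem f950998 : Led Lsl_ft (LP (LK LD1_c10 LD2_c59 LD3_c60)) = v45835 :=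
  Lrfl
theorem f951001 : Led Lsl_ff (LP (LK LD1_c10 LD2_c59 LD3_c60)) = v45835 :=
  Lgr Lrot3 (Lpr_ft (f950998 IH) (Lpn v45835))
theorem f390441 : Led Lsl_ft (LP (LK LD1_c5 LD2_c33 LD3_c58)) = (LP (LK LD1_c11 LD2_c0 LD3_c0)) :=
  Lre_f IH (LK LD1_c5 LD2_c33 LD3_c58) (LK LD1_c11 LD2_c0 LD3_c0) Lrfl Lrfl
theorem f951003 : Led Lsl_dt (LP (LK LD1_c11 LD2_c0 LD3_c0)) = v45835 :=
  Lgr Lrot60 (Lpe (f390441 IH) (Lpe (K14.f174100 IH) (Lpr_ff (f951001 IH) (Lpn v45835))))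
theorem f168012 : Led Lsl_dt (LP (LK LD1_c10 LD2_c31 LD3_c58)) = (LP (LK LD1_c5 LD2_c20 LD3_c55)) :=
  Lre_d IH (LK LD1_c10 LD2_c31 LD3_c58) (LK LD1_c5 LD2_c20 LD3_c55) Lrfl Lrfl
theorem f221572 : Led Lsl_bt (LP (LK LD1_c10 LD2_c31 LD3_c58)) = (LP (LK LD1_c5 LD2_c20 LD3_c56)) :=
  Lre_b IH (LK LD1_c10 LD2_c31 LD3_c58) (LK LD1_c5 LD2_c20 LD3_c56) Lrfl Lrfl
theorem f592496 : Led Lsl_gf (LP (LK LD1_c19 LD2_c4 LD3_c56)) = (LP (LK LD1_c20 LD2_c21 LD3_c21)) :=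
  Lgr Lrot126 (Lpe (K27.f168009 IH) (Lpr_bt (f221572 IH) (Lpe (K16.f277481 IH) (Lpr_ct (K54.f261258 IH) (Lpe (K22.f261256 IH) (Lpe (K19.f224674 IH) (Lpr_bt (K22.f224672 IH) (Lpr_gt (K42.f549959 IH) (Lpe (f549963 IH) (Lpr_ct (f592494 IH) (Lpn (LP (LK LD1_c20 LD2_c21 LD3_c21)))))))))))))
theorem f951004 : Led Lsl_gf (LP (LK LD1_c19 LD2_c12 LD3_c37)) = v45835 :=
  Lgr Lrot179 (Lpr_ct (f592494 IH) (Lpe (f592496 IH) (Lpr_ct (K27.f168016 IH) (Lpr_dt (f168012 IH) (Lpe (K27.f167993 IH) (Lpe (K69.f168014 IH) (Lpr_cf (K69.f168056 IH) (Lpe (K69.f391337 IH) (Lpr_dt (f951003 IH) (Lpn v45835))))))))))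
theorem f392729 : Led Lsl_at (LP (LK LD1_c10 LD2_c59 LD3_c60)) = (LP (LK LD1_c19 LD2_c50 LD3_c50)) :=
  Lre_a IH (LK LD1_c10 LD2_c59 LD3_c60) (LK LD1_c19 LD2_c50 LD3_c50) Lrfl Lrfl
theorem f951005 : Led Lsl_gt (LP (LK LD1_c19 LD2_c12 LD3_c37)) = (LP (LK LD1_c19 LD2_c50 LD3_c50)) :=
  Lgr Lrot46 (Lpr_gf (f951004 IH) (Lpe (f951001 IH) (Lpr_at (f392729 IH) (Lpn (LP (LK LD1_c19 LD2_c50 LD3_c50))))))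
theorem f951006 : Led Lsl_gt (LP (LK LD1_c19 LD2_c12 LD3_c37)) = (LP (LK LD1_c19 LD2_c50 LD3_c50)) :=
  Leop (Lpe (f951005 IH) (Lpn (LP (LK LD1_c19 LD2_c12 LD3_c37))))
theorem seed_2742 : LEOK LG_g (LK LD1_c19 LD2_c12 LD3_c37) :=
  Leoe_g (LK LD1_c19 LD2_c12 LD3_c37) (f951006 IH)
def v45847 : LQ := Led Lsl_et (LP (LK LD1_c11 LD2_c0 LD3_c9))
theorem f951048 : Led Lsl_et (LP (LK LD1_c11 LD2_c0 LD3_c9)) = v45847 :=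
  Lrfl
theorem f732879 : Led Lsl_ft (LP (LK LD1_c5 LD2_c33 LD3_c60)) = (LP (LK LD1_c11 LD2_c0 LD3_c9)) :=
  Lre_f IH (LK LD1_c5 LD2_c33 LD3_c60) (LK LD1_c11 LD2_c0 LD3_c9) Lrfl Lrfl
theorem f386560 : Led Lsl_et (LP (LK LD1_c2 LD2_c43 LD3_c0)) = (LP (LK LD1_c5 LD2_c33 LD3_c60)) :=
  Lre_e IH (LK LD1_c2 LD2_c43 LD3_c0) (LK LD1_c5 LD2_c33 LD3_c60) Lrfl Lrfl
theorem f732880 : Led Lsl_ft (LP (LK LD1_c5 LD2_c33 LD3_c61)) = (LP (LK LD1_c2 LD2_c43 LD3_c0)) :=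
  Lre_f IH (LK LD1_c5 LD2_c33 LD3_c61) (LK LD1_c2 LD2_c43 LD3_c0) Lrfl Lrfl
theorem f387813 : Led Lsl_et (LP (LK LD1_c11 LD2_c0 LD3_c10)) = (LP (LK LD1_c5 LD2_c33 LD3_c61)) :=
  Lre_e IH (LK LD1_c11 LD2_c0 LD3_c10) (LK LD1_c5 LD2_c33 LD3_c61) Lrfl Lrfl
theorem f951052 : Led Lsl_ff (LP (LK LD1_c11 LD2_c0 LD3_c10)) = v45847 :=
  Lgr Lrot72 (Lpr_et (f387813 IH) (Lpr_ft (f732880 IH) (Lpr_et (f386560 IH) (Lpr_ft (f732879 IH) (Lpr_et (f951048 IH) (Lpn v45847))))))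
theorem f951055 : Led Lsl_ft (LP (LK LD1_c11 LD2_c0 LD3_c10)) = v45847 :=
  Lgr Lrot48 (Lpr_ff (f951052 IH) (Lpn v45847))
theorem f417729 : Led Lsl_gt (LP (LK LD1_c11 LD2_c0 LD3_c10)) = (LP (LK LD1_c19 LD2_c51 LD3_c11)) :=
  Lre_g IH (LK LD1_c11 LD2_c0 LD3_c10) (LK LD1_c19 LD2_c51 LD3_c11) Lrfl Lrfl
theorem f950815 : Led Lsl_ff (LP (LK LD1_c10 LD2_c59 LD3_c34)) = v45795 :=
  Lgr Lrot3 (Lpr_ft (f950810 IH) (Lpn v45795))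
theorem f391698 : Led Lsl_et (LP (LK LD1_c10 LD2_c59 LD3_c34)) = (LP (LK LD1_c5 LD2_c33 LD3_c47)) :=
  Lre_e IH (LK LD1_c10 LD2_c59 LD3_c34) (LK LD1_c5 LD2_c33 LD3_c47) Lrfl Lrfl
theorem f386555 : Led Lsl_et (LP (LK LD1_c2 LD2_c43 LD3_c5)) = (LP (LK LD1_c5 LD2_c34 LD3_c15)) :=
  Lre_e IH (LK LD1_c2 LD2_c43 LD3_c5) (LK LD1_c5 LD2_c34 LD3_c15) Lrfl Lrfl
theorem f732965 : Led Lsl_ft (LP (LK LD1_c5 LD2_c34 LD3_c15)) = (LP (LK LD1_c11 LD2_c0 LD3_c44)) :=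
  Lre_f IH (LK LD1_c5 LD2_c34 LD3_c15) (LK LD1_c11 LD2_c0 LD3_c44) Lrfl Lrfl
theorem f950822 : Led Lsl_et (LP (LK LD1_c11 LD2_c0 LD3_c44)) = v45795 :=
  Lgr Lrot69 (Lpe (f732965 IH) (Lpe (f386555 IH) (Lpe (K31.f387795 IH) (Lpe (f391698 IH) (Lpr_ff (f950815 IH) (Lpn v45795))))))
theorem f951049 : Led Lsl_af (LP (LK LD1_c11 LD2_c0 LD3_c44)) = v45847 :=
  Lgr Lrot50 (Lpr_et (f950822 IH) (Lpe (f950812 IH) (Lpr_et (f951048 IH) (Lpn v45847))))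
theorem f951057 : Led Lsl_gt (LP (LK LD1_c19 LD2_c51 LD3_c11)) = (LP (LK LD1_c11 LD2_c0 LD3_c44)) :=
  Lgr Lrot46 (Lpe (f417729 IH) (Lpr_ft (f951055 IH) (Lpe (f951049 IH) (Lpn (LP (LK LD1_c11 LD2_c0 LD3_c44))))))
theorem f951058 : Led Lsl_gt (LP (LK LD1_c19 LD2_c51 LD3_c11)) = (LP (LK LD1_c11 LD2_c0 LD3_c44)) :=
  Leop (Lpe (f951057 IH) (Lpn (LP (LK LD1_c19 LD2_c51 LD3_c11))))
theorem seed_2743 : LEOK LG_g (LK LD1_c19 LD2_c51 LD3_c11) :=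
  Leoe_g (LK LD1_c19 LD2_c51 LD3_c11) (f951058 IH)
def v15226 : LQ := Led Lsl_et (LP (LK LD1_c5 LD2_c34 LD3_c18))
theorem f732987 : Led Lsl_et (LP (LK LD1_c5 LD2_c34 LD3_c18)) = v15226 :=
  Lrfl
def v45938 : LQ := Led Lsl_gt (LP (LK LD1_c11 LD2_c0 LD3_c51))
theorem f951368 : Led Lsl_gt (LP (LK LD1_c11 LD2_c0 LD3_c51)) = v45938 :=
  Lrfl
theorem f732931 : Led Lsl_dt (LP (LK LD1_c5 LD2_c34 LD3_c18)) = (LP (LK LD1_c11 LD2_c0 LD3_c51)) :=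
  Lre_d IH (LK LD1_c5 LD2_c34 LD3_c18) (LK LD1_c11 LD2_c0 LD3_c51) Lrfl Lrfl
def v15215 : LQ := Led Lsl_et (LP (LK LD1_c5 LD2_c34 LD3_c6))
theorem f732923 : Led Lsl_et (LP (LK LD1_c5 LD2_c34 LD3_c6)) = v15215 :=
  Lrfl
theorem f638552 : Led Lsl_ft (LP (LK LD1_c2 LD2_c43 LD3_c2)) = (LP (LK LD1_c5 LD2_c34 LD3_c6)) :=
  Lre_f IH (LK LD1_c2 LD2_c43 LD3_c2) (LK LD1_c5 LD2_c34 LD3_c6) Lrfl Lrfl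
theorem f226183 : Led Lsl_et (LP (LK LD1_c1 LD2_c17 LD3_c60)) = (LP (LK LD1_c2 LD2_c43 LD3_c2)) :=
  Lre_e IH (LK LD1_c1 LD2_c17 LD3_c60) (LK LD1_c2 LD2_c43 LD3_c2) Lrfl Lrfl
theorem f391345 : Led Lsl_et (LP (LK LD1_c5 LD2_c34 LD3_c7)) = (LP (LK LD1_c2 LD2_c43 LD3_c3)) :=
  Lre_e IH (LK LD1_c5 LD2_c34 LD3_c7) (LK LD1_c2 LD2_c43 LD3_c3) Lrfl Lrfl
theorem f732926 : Led Lsl_ff (LP (LK LD1_c5 LD2_c34 LD3_c7)) = v15215 :=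
  Lgr Lrot72 (Lpr_et (f391345 IH) (Lpr_ft (K31.f390748 IH) (Lpr_et (f226183 IH) (Lpr_ft (f638552 IH) (Lpr_et (f732923 IH) (Lpn v15215))))))
theorem f732927 : Led Lsl_at (LP (LK LD1_c5 LD2_c34 LD3_c7)) = (LP (LK LD1_c2 LD2_c43 LD3_c7)) :=
  Lre_a IH (LK LD1_c5 LD2_c34 LD3_c7) (LK LD1_c2 LD2_c43 LD3_c7) Lrfl Lrfl
theorem f226164 : Led Lsl_gt (LP (LK LD1_c5 LD2_c34 LD3_c18)) = (LP (LK LD1_c2 LD2_c43 LD3_c7)) :=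
  Lre_g IH (LK LD1_c5 LD2_c34 LD3_c18) (LK LD1_c2 LD2_c43 LD3_c7) Lrfl Lrfl
theorem f732930 : Led Lsl_gf (LP (LK LD1_c5 LD2_c34 LD3_c18)) = v15215 :=
  Lgr Lrot47 (Lpr_gt (f226164 IH) (Lpe (f732927 IH) (Lpr_ff (f732926 IH) (Lpn v15215))))
theorem f732841 : Led Lsl_dt (LP (LK LD1_c5 LD2_c34 LD3_c6)) = (LP (LK LD1_c11 LD2_c0 LD3_c24)) :=
  Lre_d IH (LK LD1_c5 LD2_c34 LD3_c6) (LK LD1_c11 LD2_c0 LD3_c24) Lrfl Lrfl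
theorem f732891 : Led Lsl_at (LP (LK LD1_c5 LD2_c34 LD3_c5)) = (LP (LK LD1_c10 LD2_c59 LD3_c37)) :=
  Lre_a IH (LK LD1_c5 LD2_c34 LD3_c5) (LK LD1_c10 LD2_c59 LD3_c37) Lrfl Lrfl
theorem f732898 : Led Lsl_ft (LP (LK LD1_c11 LD2_c0 LD3_c24)) = (LP (LK LD1_c5 LD2_c34 LD3_c5)) :=
  Lre_f IH (LK LD1_c11 LD2_c0 LD3_c24) (LK LD1_c5 LD2_c34 LD3_c5) Lrfl Lrfl
theorem f924337 : Led Lsl_gf (LP (LK LD1_c19 LD2_c49 LD3_c6)) = (LP (LK LD1_c11 LD2_c0 LD3_c24)) :=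
  Lgr Lrot47 (Lpr_gt (K72.f924335 IH) (Lpe (f732891 IH) (Lpe (f732898 IH) (Lpn (LP (LK LD1_c11 LD2_c0 LD3_c24))))))
theorem f320281 : Led Lsl_at (LP (LK LD1_c10 LD2_c58 LD3_c40)) = (LP (LK LD1_c19 LD2_c49 LD3_c6)) :=
  Lre_a IH (LK LD1_c10 LD2_c58 LD3_c40) (LK LD1_c19 LD2_c49 LD3_c6) Lrfl Lrfl
theorem f924489 : Led Lsl_gt (LP (LK LD1_c16 LD2_c47 LD3_c36)) = (LP (LK LD1_c11 LD2_c0 LD3_c24)) :=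
  Lgr Lrot5 (Lpr_ft (K72.f320169 IH) (Lpr_at (f320281 IH) (Lpr_gf (f924337 IH) (Lpn (LP (LK LD1_c11 LD2_c0 LD3_c24))))))
def v42808 : LQ := Led Lsl_et (LP (LK LD1_c10 LD2_c17 LD3_c8))
theorem f936033 : Led Lsl_et (LP (LK LD1_c10 LD2_c17 LD3_c8)) = v42808 :=
  Lrfl
theorem f936034 : Led Lsl_ef (LP (LK LD1_c10 LD2_c17 LD3_c8)) = v42808 :=
  Lgr Lrot88 (Lpr_et (f936033 IH) (Lpn v42808))
theorem f951369 : Led Lsl_dt v42808 = v45938 :=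
  Lgr Lrot56 (Lpe (f936034 IH) (Lpr_gt (K72.f184965 IH) (Lpe (K20.f184964 IH) (Lpr_dt (K72.f184950 IH) (Lpr_gt (f924489 IH) (Lpe (f732841 IH) (Lpr_et (f732923 IH) (Lpe (f732930 IH) (Lpr_dt (f732931 IH) (Lpr_gt (f951368 IH) (Lpn v45938)))))))))))
theorem f638289 : Led Lsl_et (LP (LK LD1_c2 LD2_c39 LD3_c58)) = (LP (LK LD1_c5 LD2_c27 LD3_c8)) :=
  Lre_e IH (LK LD1_c2 LD2_c39 LD3_c58) (LK LD1_c5 LD2_c27 LD3_c8) Lrfl Lrfl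
theorem f379360 : Led Lsl_gt (LP (LK LD1_c5 LD2_c27 LD3_c8)) = (LP (LK LD1_c10 LD2_c45 LD3_c27)) :=
  Lre_g IH (LK LD1_c5 LD2_c27 LD3_c8) (LK LD1_c10 LD2_c45 LD3_c27) Lrfl Lrfl
theorem f951370 : v15226 = (LP (LK LD1_c10 LD2_c45 LD3_c27)) :=
  (Llr Lrot122 (Lpe (f732987 IH) (Lpr_dt (f732931 IH) (Lpr_gt (f951368 IH) (Lpe (f951369 IH) (Lpe (f936034 IH) (Lpr_gt (K72.f184965 IH) (Lpr_dt (K73.f722116 IH) (Lpq (K72.f924517 IH) (Lpe (K72.f727206 IH) (Lpe (K72.f172993 IH) (Lpr_et (f638289 IH) (Lpr_gt (f379360 IH) (Lpn (LP (LK LD1_c10 LD2_c45 LD3_c27)))))))))))))))).symm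
theorem f951372 : Led Lsl_et (LP (LK LD1_c5 LD2_c34 LD3_c18)) = (LP (LK LD1_c10 LD2_c45 LD3_c27)) :=
  Leop (Lpq (f951370 IH) (Lpe (f732987 IH) (Lpn (LP (LK LD1_c5 LD2_c34 LD3_c18)))))
theorem seed_2744 : LEOK LG_e (LK LD1_c5 LD2_c34 LD3_c18) :=
  Leoe_e (LK LD1_c5 LD2_c34 LD3_c18) (f951372 IH)
def v45952 : LQ := Led Lsl_gt (LP (LK LD1_c11 LD2_c0 LD3_c61))
theorem f951451 : Led Lsl_gt (LP (LK LD1_c11 LD2_c0 LD3_c61)) = v45952 :=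
  Lrfl
theorem f173019 : Led Lsl_ct (LP (LK LD1_c2 LD2_c43 LD3_c11)) = (LP (LK LD1_c1 LD2_c18 LD3_c1)) :=
  Lre_c IH (LK LD1_c2 LD2_c43 LD3_c11) (LK LD1_c1 LD2_c18 LD3_c1) Lrfl Lrfl
theorem f390309 : Led Lsl_bt (LP (LK LD1_c2 LD2_c43 LD3_c11)) = (LP (LK LD1_c4 LD2_c33 LD3_c20)) :=
  Lre_b IH (LK LD1_c2 LD2_c43 LD3_c11) (LK LD1_c4 LD2_c33 LD3_c20) Lrfl Lrfl
theorem f172381 : Led Lsl_bt (LP (LK LD1_c2 LD2_c26 LD3_c38)) = (LP (LK LD1_c4 LD2_c57 LD3_c30)) :=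
  Lre_b IH (LK LD1_c2 LD2_c26 LD3_c38) (LK LD1_c4 LD2_c57 LD3_c30) Lrfl Lrfl
theorem f172384 : Led Lsl_bt (LP (LK LD1_c9 LD2_c3 LD3_c31)) = (LP (LK LD1_c16 LD2_c54 LD3_c27)) :=
  Lre_b IH (LK LD1_c9 LD2_c3 LD3_c31) (LK LD1_c16 LD2_c54 LD3_c27) Lrfl Lrfl
theorem f172385 : Led Lsl_cf (LP (LK LD1_c9 LD2_c45 LD3_c53)) = (LP (LK LD1_c16 LD2_c54 LD3_c27)) :=
  Lgr Lrot97 (Lpr_bt (K50.f172383 IH) (Lpr_ct (K67.f172382 IH) (Lpr_bt (f172381 IH) (Lpr_ct (K9.f172379 IH) (Lpr_bt (f172384 IH) (Lpn (LP (LK LD1_c16 LD2_c54 LD3_c27))))))))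
theorem f694879 : Led Lsl_at (LP (LK LD1_c8 LD2_c33 LD3_c5)) = (LP (LK LD1_c8 LD2_c21 LD3_c25)) :=
  Lgr Lrot66 (Lpr_ff (K68.f694877 IH) (Lpe (K68.f694867 IH) (Lpr_ff (K68.f694865 IH) (Lpn (LP (LK LD1_c8 LD2_c21 LD3_c25))))))
theorem f882891 : Led Lsl_df (LP (LK LD1_c8 LD2_c33 LD3_c5)) = (LP (LK LD1_c15 LD2_c45 LD3_c53)) :=
  Lgr Lrot18 (Lpr_at (f694879 IH) (Lpr_dt (K50.f406117 IH) (Lpr_at (K67.f882887 IH) (Lpn (LP (LK LD1_c15 LD2_c45 LD3_c53))))))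
theorem f882895 : Led Lsl_ft K68.v36167 = (LP (LK LD1_c15 LD2_c45 LD3_c53)) :=
  Lgr Lrot54 (Lpe (K68.f882544 IH) (Lpe (K68.f694871 IH) (Lpr_df (f882891 IH) (Lpn (LP (LK LD1_c15 LD2_c45 LD3_c53))))))
theorem f882889 : Led Lsl_af (LP (LK LD1_c9 LD2_c45 LD3_c53)) = (LP (LK LD1_c15 LD2_c45 LD3_c53)) :=
  Lgr Lrot0 (Lpr_at (K67.f882887 IH) (Lpn (LP (LK LD1_c15 LD2_c45 LD3_c53))))
theorem f882899 : Led Lsl_gt K68.v36232 = (LP (LK LD1_c9 LD2_c45 LD3_c53)) :=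
  Lgr Lrot46 (Lpe (K68.f882868 IH) (Lpr_ft (f882895 IH) (Lpe (f882889 IH) (Lpn (LP (LK LD1_c9 LD2_c45 LD3_c53))))))
theorem f951454 : Led Lsl_cf K68.v36232 = v45952 :=
  Lgr Lrot125 (Lpr_gt (f882899 IH) (Lpr_cf (f172385 IH) (Lpr_bt (K67.f383297 IH) (Lpr_gt (K9.f172394 IH) (Lpe (f390309 IH) (Lpr_ct (f173019 IH) (Lpr_gt (K30.f173020 IH) (Lpe (K68.f175228 IH) (Lpr_bt (f175238 IH) (Lpr_gt (f951451 IH) (Lpn v45952)))))))))))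
def v36658 : LQ := Led Lsl_ct (LP (LK LD1_c8 LD2_c33 LD3_c8))
theorem f889452 : Led Lsl_ct (LP (LK LD1_c8 LD2_c33 LD3_c8)) = v36658 :=
  Lrfl
theorem f318753 : Led Lsl_df (LP (LK LD1_c8 LD2_c34 LD3_c22)) = (LP (LK LD1_c9 LD2_c45 LD3_c26)) :=
  Lgr Lrot38 (Lpr_dt (K50.f318746 IH) (Lpn (LP (LK LD1_c9 LD2_c45 LD3_c26))))
theorem f318757 : Led Lsl_dt (LP (LK LD1_c8 LD2_c34 LD3_c40)) = (LP (LK LD1_c16 LD2_c5 LD3_c52)) :=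
  Lre_d IH (LK LD1_c8 LD2_c34 LD3_c40) (LK LD1_c16 LD2_c5 LD3_c52) Lrfl Lrfl
theorem f318755 : Led Lsl_dt (LP (LK LD1_c16 LD2_c5 LD3_c52)) = (LP (LK LD1_c8 LD2_c34 LD3_c40)) :=
  Lre_d IH (LK LD1_c16 LD2_c5 LD3_c52) (LK LD1_c8 LD2_c34 LD3_c40) Lrfl Lrfl
theorem f318849 : Led Lsl_bf (LP (LK LD1_c16 LD2_c5 LD3_c52)) = (LP (LK LD1_c10 LD2_c59 LD3_c46)) :=
  Lgr Lrot93 (Lpr_dt (f318755 IH) (Lpr_bt (K20.f318721 IH) (Lpr_dt (K20.f318846 IH) (Lpn (LP (LK LD1_c10 LD2_c59 LD3_c46))))))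
theorem f226209 : Led Lsl_bt (LP (LK LD1_c11 LD2_c0 LD3_c15)) = (LP (LK LD1_c5 LD2_c34 LD3_c1)) :=
  Lre_b IH (LK LD1_c11 LD2_c0 LD3_c15) (LK LD1_c5 LD2_c34 LD3_c1) Lrfl Lrfl
theorem f318895 : Led Lsl_ct (LP (LK LD1_c16 LD2_c5 LD3_c52)) = (LP (LK LD1_c11 LD2_c0 LD3_c15)) :=
  Lgr Lrot83 (Lpr_bf (f318849 IH) (Lpe (K20.f226180 IH) (Lpe (K20.f226198 IH) (Lpe (K30.f226178 IH) (Lpe (f226209 IH) (Lpn (LP (LK LD1_c11 LD2_c0 LD3_c15))))))))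
theorem f318911 : Led Lsl_cf (LP (LK LD1_c16 LD2_c5 LD3_c52)) = (LP (LK LD1_c11 LD2_c0 LD3_c15)) :=
  Lgr Lrot11 (Lpr_ct (f318895 IH) (Lpn (LP (LK LD1_c11 LD2_c0 LD3_c15))))
theorem f889455 : Led Lsl_gf (LP (LK LD1_c11 LD2_c0 LD3_c15)) = v36658 :=
  Lgr Lrot104 (Lpe (f318911 IH) (Lpe (f318757 IH) (Lpe (K27.f170214 IH) (Lpe (K20.f7932 IH) (Lpe (K20.f167298 IH) (Lpe (K50.f167301 IH) (Lpr_df (f318753 IH) (Lpe (K27.f216429 IH) (Lpr_ct (f889452 IH) (Lpn v36658))))))))))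
def v45855 : LQ := Led Lsl_dt (LP (LK LD1_c11 LD2_c0 LD3_c15))
theorem f951087 : Led Lsl_dt (LP (LK LD1_c11 LD2_c0 LD3_c15)) = v45855 :=
  Lrfl
theorem f170195 : Led Lsl_dt (LP (LK LD1_c4 LD2_c17 LD3_c24)) = (LP (LK LD1_c8 LD2_c33 LD3_c58)) :=
  Lre_d IH (LK LD1_c4 LD2_c17 LD3_c24) (LK LD1_c8 LD2_c33 LD3_c58) Lrfl Lrfl
def v36695 : LQ := Led Lsl_ct (LP (LK LD1_c8 LD2_c33 LD3_c58))
theorem f889669 : Led Lsl_ct (LP (LK LD1_c8 LD2_c33 LD3_c58)) = v36695 :=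
  Lrfl
theorem f951456 : Led Lsl_dt v36695 = v45952 :=
  Lgr Lrot120 (Lpe (f889669 IH) (Lpe (f170195 IH) (Lpe (K50.f166494 IH) (Lpr_df (K50.f170175 IH) (Lpe (K20.f167298 IH) (Lpe (K50.f167299 IH) (Lpe (K68.f403495 IH) (Lpr_at (K68.f882867 IH) (Lpr_cf (f951454 IH) (Lpn v45952))))))))))
theorem f951457 : Led Lsl_gt v45855 = v36695 :=
  Lgr Lrot49 (Lpe (f951087 IH) (Lpr_gf (f889455 IH) (Lpe (f889452 IH) (Lpr_gt (K68.f178337 IH) (Lpe (K68.f406159 IH) (Lpe (K41.f403489 IH) (Lpr_dt (K68.f882864 IH) (Lpr_cf (f951454 IH) (Lpe (f951456 IH) (Lpn v36695))))))))))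
theorem f398195 : Led Lsl_dt (LP (LK LD1_c16 LD2_c6 LD3_c41)) = (LP (LK LD1_c8 LD2_c35 LD3_c13)) :=
  Lre_d IH (LK LD1_c16 LD2_c6 LD3_c41) (LK LD1_c8 LD2_c35 LD3_c13) Lrfl Lrfl
theorem f951090 : Led Lsl_cf (LP (LK LD1_c16 LD2_c6 LD3_c41)) = v45855 :=
  Lgr Lrot116 (Lpr_dt (f398195 IH) (Lpr_ct (K50.f170253 IH) (Lpe (K50.f404655 IH) (Lpr_ct (K66.f170213 IH) (Lpr_af (K41.f392813 IH) (Lpe (K41.f392808 IH) (Lpr_dt (f318757 IH) (Lpr_ct (f318895 IH) (Lpr_dt (f951087 IH) (Lpn v45855))))))))))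
theorem f951092 : Led Lsl_ct (LP (LK LD1_c16 LD2_c6 LD3_c41)) = v45855 :=
  Lgr Lrot59 (Lpr_cf (f951090 IH) (Lpn v45855))
theorem f250524 : Led Lsl_dt (LP (LK LD1_c16 LD2_c0 LD3_c56)) = (LP (LK LD1_c25 LD2_c58 LD3_c20)) :=
  Lre_d IH (LK LD1_c16 LD2_c0 LD3_c56) (LK LD1_c25 LD2_c58 LD3_c20) Lrfl Lrfl
theorem f398196 : Led Lsl_bt (LP (LK LD1_c25 LD2_c58 LD3_c20)) = (LP (LK LD1_c16 LD2_c6 LD3_c41)) :=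
  Lgr Lrot95 (Lpe (f250524 IH) (Lpr_bf (K50.f398193 IH) (Lpe (f398195 IH) (Lpn (LP (LK LD1_c16 LD2_c6 LD3_c41))))))
theorem f398198 : Led Lsl_bf (LP (LK LD1_c25 LD2_c58 LD3_c20)) = (LP (LK LD1_c16 LD2_c6 LD3_c41)) :=
  Lgr Lrot24 (Lpr_bt (f398196 IH) (Lpn (LP (LK LD1_c16 LD2_c6 LD3_c41))))
theorem f231152 : Led Lsl_bt (LP (LK LD1_c8 LD2_c33 LD3_c58)) = (LP (LK LD1_c4 LD2_c17 LD3_c25)) :=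
  Lre_b IH (LK LD1_c8 LD2_c33 LD3_c58) (LK LD1_c4 LD2_c17 LD3_c25) Lrfl Lrfl
theorem f233288 : Led Lsl_bt (LP (LK LD1_c10 LD2_c32 LD3_c51)) = (LP (LK LD1_c19 LD2_c6 LD3_c7)) :=
  Lre_b IH (LK LD1_c10 LD2_c32 LD3_c51) (LK LD1_c19 LD2_c6 LD3_c7) Lrfl Lrfl
theorem f951458 : Led Lsl_gf (LP (LK LD1_c25 LD2_c58 LD3_c20)) = (LP (LK LD1_c19 LD2_c6 LD3_c7)) :=
  Lgr Lrot124 (Lpr_bf (f398198 IH) (Lpr_ct (f951092 IH) (Lpr_gt (f951457 IH) (Lpe (f889669 IH) (Lpr_bt (f231152 IH) (Lpr_gt (K18.f179627 IH) (Lpe (K18.f296021 IH) (Lpr_gt (K23.f296019 IH) (Lpr_cf (K16.f260901 IH) (Lpr_bt (f233288 IH) (Lpn (LP (LK LD1_c19 LD2_c6 LD3_c7)))))))))))))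
theorem f951459 : Led Lsl_gt (LP (LK LD1_c19 LD2_c6 LD3_c7)) = (LP (LK LD1_c25 LD2_c58 LD3_c20)) :=
  Leop (Lpr_gf (f951458 IH) (Lpn (LP (LK LD1_c19 LD2_c6 LD3_c7))))
theorem seed_2745 : LEOK LG_g (LK LD1_c19 LD2_c6 LD3_c7) :=
  Leoe_g (LK LD1_c19 LD2_c6 LD3_c7) (f951459 IH)
def v45956 : LQ := Led Lsl_at (LP (LK LD1_c11 LD2_c1 LD3_c1))
theorem f951480 : Led Lsl_at (LP (LK LD1_c11 LD2_c1 LD3_c1)) = v45956 :=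
  Lrfl
def v15237 : LQ := Led Lsl_at (LP (LK LD1_c5 LD2_c34 LD3_c25))
theorem f733054 : Led Lsl_at (LP (LK LD1_c5 LD2_c34 LD3_c25)) = v15237 :=
  Lrfl
theorem f733055 : Led Lsl_af (LP (LK LD1_c5 LD2_c34 LD3_c25)) = v15237 :=
  Lgr Lrot0 (Lpr_at (f733054 IH) (Lpn v15237))
theorem f951482 : Led Lsl_cf v15237 = v45956 :=
  Lgr Lrot1 (Lpe (f733055 IH) (Lpr_ct (K30.f172869 IH) (Lpr_at (f951480 IH) (Lpn v45956))))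
def v44868 : LQ := Led Lsl_ct (LP (LK LD1_c10 LD2_c49 LD3_c46))
theorem f947247 : Led Lsl_ct (LP (LK LD1_c10 LD2_c49 LD3_c46)) = v44868 :=
  Lrfl
theorem f916734 : Led Lsl_df v15237 = (LP (LK LD1_c16 LD2_c50 LD3_c52)) :=
  Lgr Lrot18 (Lpe (f733055 IH) (Lpe (K30.f172952 IH) (Lpr_at (f916726 IH) (Lpn (LP (LK LD1_c16 LD2_c50 LD3_c52))))))
theorem f916735 : Led Lsl_dt v15237 = (LP (LK LD1_c16 LD2_c50 LD3_c52)) :=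
  Lgr Lrot42 (Lpr_df (f916734 IH) (Lpn (LP (LK LD1_c16 LD2_c50 LD3_c52))))
theorem f947251 : Led Lsl_gf v15237 = v44868 :=
  Lgr Lrot148 (Lpr_dt (f916735 IH) (Lpr_gt (K31.f332089 IH) (Lpr_dt (K67.f390246 IH) (Lpe (K31.f390169 IH) (Lpr_df (K67.f382549 IH) (Lpr_gf (K68.f245494 IH) (Lpe (K31.f245240 IH) (Lpe (K67.f417877 IH) (Lpr_ct (f947247 IH) (Lpn v44868))))))))))
theorem f172855 : Led Lsl_bf (LP (LK LD1_c5 LD2_c29 LD3_c14)) = (LP (LK LD1_c2 LD2_c48 LD3_c29)) :=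
  Lgr Lrot90 (Lpr_ct (K30.f168551 IH) (Lpr_bt (K52.f168543 IH) (Lpr_ct (K9.f172404 IH) (Lpr_bt (K18.f168220 IH) (Lpr_ct (K30.f168259 IH) (Lpn (LP (LK LD1_c2 LD2_c48 LD3_c29))))))))
theorem f280530 : Led Lsl_bt (LP (LK LD1_c5 LD2_c42 LD3_c32)) = (LP (LK LD1_c11 LD2_c15 LD3_c15)) :=
  Lre_b IH (LK LD1_c5 LD2_c42 LD3_c32) (LK LD1_c11 LD2_c15 LD3_c15) Lrfl Lrfl
theorem f423890 : Led Lsl_gt (LP (LK LD1_c20 LD2_c10 LD3_c22)) = (LP (LK LD1_c11 LD2_c15 LD3_c15)) :=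
  Lre_g IH (LK LD1_c20 LD2_c10 LD3_c22) (LK LD1_c11 LD2_c15 LD3_c15) Lrfl Lrfl
theorem f951486 : Led Lsl_bf (LP (LK LD1_c20 LD2_c10 LD3_c22)) = v45956 :=
  Lgr Lrot156 (Lpr_gt (f423890 IH) (Lpe (f280530 IH) (Lpr_ct (K36.f280529 IH) (Lpr_gt (K36.f423863 IH) (Lpe (K30.f168264 IH) (Lpe (f172855 IH) (Lpr_gt (K67.f168545 IH) (Lpr_ct (f947247 IH) (Lpe (f947251 IH) (Lpr_cf (f951482 IH) (Lpn v45956)))))))))))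
theorem f951483 : Led Lsl_ct v15237 = v45956 :=
  Lgr Lrot59 (Lpr_cf (f951482 IH) (Lpn v45956))
theorem f173754 : Led Lsl_at (LP (LK LD1_c15 LD2_c2 LD3_c55)) = (LP (LK LD1_c7 LD2_c58 LD3_c35)) :=
  Lre_a IH (LK LD1_c15 LD2_c2 LD3_c55) (LK LD1_c7 LD2_c58 LD3_c35) Lrfl Lrfl
theorem f173755 : Led Lsl_at (LP (LK LD1_c10 LD2_c54 LD3_c39)) = (LP (LK LD1_c19 LD2_c42 LD3_c40)) :=
  Lre_a IH (LK LD1_c10 LD2_c54 LD3_c39) (LK LD1_c19 LD2_c42 LD3_c40) Lrfl Lrfl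
theorem f173756 : Led Lsl_ft (LP (LK LD1_c7 LD2_c58 LD3_c35)) = (LP (LK LD1_c10 LD2_c54 LD3_c39)) :=
  Lgr Lrot101 (Lpe (f173754 IH) (Lpr_ff (K12.f173752 IH) (Lpe (f173755 IH) (Lpn (LP (LK LD1_c10 LD2_c54 LD3_c39))))))
theorem f173904 : Led Lsl_gt (LP (LK LD1_c15 LD2_c2 LD3_c56)) = (LP (LK LD1_c19 LD2_c42 LD3_c40)) :=
  Lgr Lrot46 (Lpe (K52.f54919 IH) (Lpr_ft (f173756 IH) (Lpr_at (f173755 IH) (Lpn (LP (LK LD1_c19 LD2_c42 LD3_c40))))))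
theorem f173763 : Led Lsl_gf (LP (LK LD1_c15 LD2_c2 LD3_c57)) = (LP (LK LD1_c19 LD2_c42 LD3_c40)) :=
  Lgr Lrot47 (Lpr_gt (K30.f54921 IH) (Lpe (f173754 IH) (Lpr_ff (K12.f173752 IH) (Lpn (LP (LK LD1_c19 LD2_c42 LD3_c40))))))
theorem f916963 : Led Lsl_at (LP (LK LD1_c19 LD2_c32 LD3_c58)) = (LP (LK LD1_c15 LD2_c2 LD3_c57)) :=
  Lgr Lrot26 (Lpr_ff (f916959 IH) (Lpr_gt (f173904 IH) (Lpe (f173763 IH) (Lpn (LP (LK LD1_c15 LD2_c2 LD3_c57))))))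
theorem f384786 : Led Lsl_dt (LP (LK LD1_c15 LD2_c2 LD3_c57)) = (LP (LK LD1_c11 LD2_c5 LD3_c8)) :=
  Lgr Lrot6 (Lpr_gt (K30.f54921 IH) (Lpr_ct (K30.f140385 IH) (Lpr_gt (K30.f173894 IH) (Lpr_ct (K30.f384767 IH) (Lpe (K30.f178138 IH) (Lpe (K20.f178125 IH) (Lpe (K20.f178117 IH) (Lpe (K20.f178099 IH) (Lpe (K30.f178102 IH) (Lpn (LP (LK LD1_c11 LD2_c5 LD3_c8))))))))))))
theorem f916965 : Led Lsl_af (LP (LK LD1_c10 LD2_c48 LD3_c46)) = (LP (LK LD1_c11 LD2_c5 LD3_c8)) :=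
  Lgr Lrot117 (Lpr_dt (K30.f253816 IH) (Lpr_at (f916963 IH) (Lpr_dt (f384786 IH) (Lpn (LP (LK LD1_c11 LD2_c5 LD3_c8))))))
theorem f305141 : Led Lsl_et (LP (LK LD1_c10 LD2_c48 LD3_c46)) = (LP (LK LD1_c19 LD2_c32 LD3_c59)) :=
  Lre_e IH (LK LD1_c10 LD2_c48 LD3_c46) (LK LD1_c19 LD2_c32 LD3_c59) Lrfl Lrfl
theorem f916971 : Led Lsl_at (LP (LK LD1_c19 LD2_c32 LD3_c59)) = (LP (LK LD1_c19 LD2_c58 LD3_c0)) :=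
  Lgr Lrot80 (Lpe (f305141 IH) (Lpr_af (f916965 IH) (Lpe (K73.f289591 IH) (Lpn (LP (LK LD1_c19 LD2_c58 LD3_c0))))))
theorem f389111 : Led Lsl_et (LP (LK LD1_c20 LD2_c4 LD3_c32)) = (LP (LK LD1_c11 LD2_c9 LD3_c60)) :=
  Lre_e IH (LK LD1_c20 LD2_c4 LD3_c32) (LK LD1_c11 LD2_c9 LD3_c60) Lrfl Lrfl
theorem f389112 : Led Lsl_ct (LP (LK LD1_c19 LD2_c32 LD3_c59)) = (LP (LK LD1_c20 LD2_c4 LD3_c32)) :=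
  Lgr Lrot15 (Lpe (f305141 IH) (Lpr_cf (K31.f389107 IH) (Lpe (f389111 IH) (Lpn (LP (LK LD1_c20 LD2_c4 LD3_c32))))))
theorem f389169 : Led Lsl_cf (LP (LK LD1_c19 LD2_c32 LD3_c59)) = (LP (LK LD1_c20 LD2_c4 LD3_c32)) :=
  Lgr Lrot11 (Lpr_ct (f389112 IH) (Lpn (LP (LK LD1_c20 LD2_c4 LD3_c32))))
theorem f916975 : Led Lsl_af (LP (LK LD1_c20 LD2_c4 LD3_c32)) = (LP (LK LD1_c25 LD2_c40 LD3_c43)) :=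
  Lgr Lrot68 (Lpe (f389169 IH) (Lpr_at (f916971 IH) (Lpe (K73.f392373 IH) (Lpn (LP (LK LD1_c25 LD2_c40 LD3_c43))))))
theorem f916977 : Led Lsl_at (LP (LK LD1_c20 LD2_c4 LD3_c32)) = (LP (LK LD1_c25 LD2_c40 LD3_c43)) :=
  Lgr Lrot100 (Lpr_af (f916975 IH) (Lpn (LP (LK LD1_c25 LD2_c40 LD3_c43))))
theorem f389118 : Led Lsl_et (LP (LK LD1_c11 LD2_c9 LD3_c60)) = (LP (LK LD1_c20 LD2_c4 LD3_c32)) :=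
  Lre_e IH (LK LD1_c11 LD2_c9 LD3_c60) (LK LD1_c20 LD2_c4 LD3_c32) Lrfl Lrfl
theorem f392157 : Led Lsl_et (LP (LK LD1_c25 LD2_c40 LD3_c43)) = (LP (LK LD1_c15 LD2_c44 LD3_c22)) :=
  Lre_e IH (LK LD1_c25 LD2_c40 LD3_c43) (LK LD1_c15 LD2_c44 LD3_c22) Lrfl Lrfl
theorem f916979 : Led Lsl_af (LP (LK LD1_c11 LD2_c9 LD3_c60)) = (LP (LK LD1_c15 LD2_c44 LD3_c22)) :=
  Lgr Lrot50 (Lpr_et (f389118 IH) (Lpr_at (f916977 IH) (Lpr_et (f392157 IH) (Lpn (LP (LK LD1_c15 LD2_c44 LD3_c22))))))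
theorem f173447 : Led Lsl_at (LP (LK LD1_c16 LD2_c56 LD3_c30)) = (LP (LK LD1_c9 LD2_c4 LD3_c47)) :=
  Lre_a IH (LK LD1_c16 LD2_c56 LD3_c30) (LK LD1_c9 LD2_c4 LD3_c47) Lrfl Lrfl
theorem f916981 : Led Lsl_dt (LP (LK LD1_c11 LD2_c9 LD3_c60)) = (LP (LK LD1_c16 LD2_c56 LD3_c30)) :=
  Lgr Lrot44 (Lpr_af (f916979 IH) (Lpe (K31.f391738 IH) (Lpe (f173447 IH) (Lpn (LP (LK LD1_c16 LD2_c56 LD3_c30))))))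
theorem f916987 : Led Lsl_bf v15237 = (LP (LK LD1_c16 LD2_c56 LD3_c30)) :=
  Lgr Lrot93 (Lpr_dt (f916735 IH) (Lpr_bt (K31.f389116 IH) (Lpr_dt (f916981 IH) (Lpn (LP (LK LD1_c16 LD2_c56 LD3_c30))))))
theorem f140374 : Led Lsl_gt (LP (LK LD1_c4 LD2_c57 LD3_c35)) = (LP (LK LD1_c9 LD2_c45 LD3_c59)) :=
  Lre_g IH (LK LD1_c4 LD2_c57 LD3_c35) (LK LD1_c9 LD2_c45 LD3_c59) Lrfl Lrfl
theorem f916992 : Led Lsl_ct (LP (LK LD1_c9 LD2_c45 LD3_c59)) = (LP (LK LD1_c16 LD2_c56 LD3_c30)) :=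
  Lgr Lrot151 (Lpe (f140374 IH) (Lpe (K9.f140366 IH) (Lpe (K30.f140435 IH) (Lpe (K30.f384230 IH) (Lpr_gt (K30.f226821 IH) (Lpr_ct (K14.f226763 IH) (Lpr_gt (K30.f253810 IH) (Lpr_ct (K31.f389109 IH) (Lpr_dt (f916981 IH) (Lpn (LP (LK LD1_c16 LD2_c56 LD3_c30))))))))))))
theorem f636044 : Led Lsl_bt (LP (LK LD1_c17 LD2_c55 LD3_c41)) = (LP (LK LD1_c9 LD2_c45 LD3_c59)) :=
  Lre_b IH (LK LD1_c17 LD2_c55 LD3_c41) (LK LD1_c9 LD2_c45 LD3_c59) Lrfl Lrfl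
theorem f951488 : Led Lsl_ct (LP (LK LD1_c20 LD2_c10 LD3_c22)) = (LP (LK LD1_c17 LD2_c55 LD3_c41)) :=
  Lgr Lrot83 (Lpr_bf (f951486 IH) (Lpe (f951483 IH) (Lpr_bf (f916987 IH) (Lpe (f916992 IH) (Lpe (f636044 IH) (Lpn (LP (LK LD1_c17 LD2_c55 LD3_c41))))))))
theorem f951489 : Led Lsl_ct (LP (LK LD1_c20 LD2_c10 LD3_c22)) = (LP (LK LD1_c17 LD2_c55 LD3_c41)) :=
  Leop (Lpe (f951488 IH) (Lpn (LP (LK LD1_c20 LD2_c10 LD3_c22))))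
theorem seed_2746 : LEOK LG_c (LK LD1_c20 LD2_c10 LD3_c22) :=
  Leoe_c (LK LD1_c20 LD2_c10 LD3_c22) (f951489 IH)
def v46179 : LQ := Led Lsl_bt (LP (LK LD1_c11 LD2_c2 LD3_c45))
theorem f952305 : Led Lsl_bt (LP (LK LD1_c11 LD2_c2 LD3_c45)) = v46179 :=
  Lrfl
theorem f736481 : Led Lsl_at (LP (LK LD1_c11 LD2_c2 LD3_c46)) = (LP (LK LD1_c15 LD2_c22 LD3_c49)) :=
  Lgr Lrot26 (Lpr_ff (K67.f736473 IH) (Lpr_gt (K22.f199459 IH) (Lpr_gt (K19.f196687 IH) (Lpn (LP (LK LD1_c15 LD2_c22 LD3_c49))))))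
theorem f736457 : Led Lsl_at (LP (LK LD1_c11 LD2_c2 LD3_c45)) = (LP (LK LD1_c15 LD2_c22 LD3_c50)) :=
  Lgr Lrot100 (Lpr_af (K67.f736455 IH) (Lpn (LP (LK LD1_c15 LD2_c22 LD3_c50))))
theorem f736489 : Led Lsl_ff (LP (LK LD1_c11 LD2_c2 LD3_c45)) = (LP (LK LD1_c15 LD2_c22 LD3_c49)) :=
  Lgr Lrot30 (Lpr_at (f736457 IH) (Lpe (K67.f736473 IH) (Lpr_at (f736481 IH) (Lpn (LP (LK LD1_c15 LD2_c22 LD3_c49))))))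
theorem f952308 : Led Lsl_ff (LP (LK LD1_c19 LD2_c11 LD3_c2)) = v46179 :=
  Lgr Lrot25 (Lpe (K19.f279545 IH) (Lpe (f736489 IH) (Lpr_bt (f952305 IH) (Lpn v46179))))
theorem f952310 : Led Lsl_ft (LP (LK LD1_c19 LD2_c11 LD3_c2)) = v46179 :=
  Lgr Lrot48 (Lpr_ff (f952308 IH) (Lpn v46179))
theorem f196761 : Led Lsl_ct (LP (LK LD1_c10 LD2_c35 LD3_c32)) = (LP (LK LD1_c19 LD2_c11 LD3_c2)) :=
  Lre_c IH (LK LD1_c10 LD2_c35 LD3_c32) (LK LD1_c19 LD2_c11 LD3_c2) Lrfl Lrfl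
def v43805 : LQ := Led Lsl_at (LP (LK LD1_c10 LD2_c35 LD3_c31))
theorem f942391 : Led Lsl_at (LP (LK LD1_c10 LD2_c35 LD3_c31)) = v43805 :=
  Lrfl
theorem f942392 : Led Lsl_af (LP (LK LD1_c10 LD2_c35 LD3_c31)) = v43805 :=
  Lgr Lrot0 (Lpr_at (f942391 IH) (Lpn v43805))
theorem f942393 : Led Lsl_ft (LP (LK LD1_c10 LD2_c35 LD3_c32)) = v43805 :=
  Lgr Lrot2 (Lpr_gt (K19.f196748 IH) (Lpr_gt (K68.f196606 IH) (Lpr_af (f942392 IH) (Lpn v43805))))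
theorem f942394 : Led Lsl_ff (LP (LK LD1_c10 LD2_c35 LD3_c32)) = v43805 :=
  Lgr Lrot3 (Lpr_ft (f942393 IH) (Lpn v43805))
theorem f952311 : Led Lsl_cf v43805 = v46179 :=
  Lgr Lrot108 (Lpe (f942394 IH) (Lpr_ct (f196761 IH) (Lpr_ft (f952310 IH) (Lpn v46179))))
theorem f952307 : Led Lsl_bf (LP (LK LD1_c11 LD2_c2 LD3_c45)) = v46179 :=
  Lgr Lrot24 (Lpr_bt (f952305 IH) (Lpn v46179))
theorem f952313 : v43805 = (LP (LK LD1_c19 LD2_c3 LD3_c60)) :=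
  (Llr Lrot64 (Lpr_cf (f952311 IH) (Lpe (f952307 IH) (Lpe (K31.f199450 IH) (Lpe (K30.f199446 IH) (Lpr_ct (K19.f199391 IH) (Lpe (K20.f317013 IH) (Lpe (K13.f187042 IH) (Lpr_gf (K25.f310665 IH) (Lpe (K68.f279731 IH) (Lpr_ct (K19.f312706 IH) (Lpe (K73.f224759 IH) (Lpn (LP (LK LD1_c19 LD2_c3 LD3_c60))))))))))))))).symm
theorem f952314 : Led Lsl_at (LP (LK LD1_c19 LD2_c3 LD3_c60)) = (LP (LK LD1_c10 LD2_c35 LD3_c31)) :=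
  Leop (Lpr_af (f942392 IH) (Lpqs (f952313 IH) (Lpn (LP (LK LD1_c19 LD2_c3 LD3_c60)))))
theorem seed_2747 : LEOK LG_a (LK LD1_c19 LD2_c3 LD3_c60) :=
  Leoe_a (LK LD1_c19 LD2_c3 LD3_c60) (f952314 IH)
def v46184 : LQ := Led Lsl_ft (LP (LK LD1_c11 LD2_c2 LD3_c49))
theorem f952381 : Led Lsl_ft (LP (LK LD1_c11 LD2_c2 LD3_c49)) = v46184 :=
  Lrfl
theorem f316835 : Led Lsl_gt (LP (LK LD1_c11 LD2_c2 LD3_c49)) = (LP (LK LD1_c19 LD2_c54 LD3_c18)) :=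
  Lre_g IH (LK LD1_c11 LD2_c2 LD3_c49) (LK LD1_c19 LD2_c54 LD3_c18) Lrfl Lrfl
theorem f403299 : Led Lsl_at (LP (LK LD1_c5 LD2_c35 LD3_c52)) = (LP (LK LD1_c11 LD2_c2 LD3_c49)) :=
  Lre_a IH (LK LD1_c5 LD2_c35 LD3_c52) (LK LD1_c11 LD2_c2 LD3_c49) Lrfl Lrfl
theorem f313062 : Led Lsl_ft (LP (LK LD1_c11 LD2_c4 LD3_c0)) = (LP (LK LD1_c5 LD2_c35 LD3_c52)) :=
  Lre_f IH (LK LD1_c11 LD2_c4 LD3_c0) (LK LD1_c5 LD2_c35 LD3_c52) Lrfl Lrfl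
theorem f952382 : Led Lsl_af (LP (LK LD1_c11 LD2_c4 LD3_c0)) = v46184 :=
  Lgr Lrot45 (Lpr_ft (f313062 IH) (Lpr_at (f403299 IH) (Lpr_ft (f952381 IH) (Lpn v46184))))
theorem f952385 : Led Lsl_gt (LP (LK LD1_c19 LD2_c54 LD3_c18)) = (LP (LK LD1_c11 LD2_c4 LD3_c0)) :=
  Lgr Lrot46 (Lpe (f316835 IH) (Lpr_ft (f952381 IH) (Lpe (f952382 IH) (Lpn (LP (LK LD1_c11 LD2_c4 LD3_c0))))))
theorem f952386 : Led Lsl_gt (LP (LK LD1_c19 LD2_c54 LD3_c18)) = (LP (LK LD1_c11 LD2_c4 LD3_c0)) :=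
  Leop (Lpe (f952385 IH) (Lpn (LP (LK LD1_c19 LD2_c54 LD3_c18))))
theorem seed_2748 : LEOK LG_g (LK LD1_c19 LD2_c54 LD3_c18) :=
  Leoe_g (LK LD1_c19 LD2_c54 LD3_c18) (f952386 IH)
def v46205 : LQ := Led Lsl_dt (LP (LK LD1_c11 LD2_c3 LD3_c26))
theorem f952483 : Led Lsl_dt (LP (LK LD1_c11 LD2_c3 LD3_c26)) = v46205 :=
  Lrfl
theorem f385033 : Led Lsl_cf (LP (LK LD1_c19 LD2_c58 LD3_c47)) = (LP (LK LD1_c19 LD2_c55 LD3_c29)) :=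
  Lgr Lrot108 (Lpr_ft (K54.f384982 IH) (Lpe (K30.f384990 IH) (Lpr_ft (K68.f385027 IH) (Lpn (LP (LK LD1_c19 LD2_c55 LD3_c29))))))
theorem f952485 : Led Lsl_gf (LP (LK LD1_c11 LD2_c3 LD3_c53)) = v46205 :=
  Lgr Lrot179 (Lpe (K20.f277996 IH) (Lpr_gt (K68.f417854 IH) (Lpe (K68.f417846 IH) (Lpr_dt (K68.f417844 IH) (Lpr_cf (f385033 IH) (Lpe (K31.f344691 IH) (Lpe (K31.f316775 IH) (Lpe (K73.f316782 IH) (Lpr_dt (f952483 IH) (Lpn v46205))))))))))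
theorem f277977 : Led Lsl_df (LP (LK LD1_c11 LD2_c2 LD3_c33)) = (LP (LK LD1_c11 LD2_c3 LD3_c53)) :=
  Lgr Lrot12 (Lpr_bt (K20.f213748 IH) (Lpr_dt (K16.f277975 IH) (Lpr_bt (K20.f277967 IH) (Lpn (LP (LK LD1_c11 LD2_c3 LD3_c53))))))
theorem f48090 : Led Lsl_ct (LP (LK LD1_c10 LD2_c32 LD3_c54)) = (LP (LK LD1_c8 LD2_c39 LD3_c31)) :=
  Lgr Lrot111 (Lpe (K10.f48089 IH) (Lpr_cf (K10.f48087 IH) (Lpe (K16.f31306 IH) (Lpn (LP (LK LD1_c8 LD2_c39 LD3_c31))))))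
theorem f275553 : Led Lsl_ct (LP (LK LD1_c11 LD2_c2 LD3_c33)) = (LP (LK LD1_c15 LD2_c41 LD3_c47)) :=
  Lgr Lrot40 (Lpr_ff (K20.f235245 IH) (Lpe (f48090 IH) (Lpr_ff (K16.f275485 IH) (Lpn (LP (LK LD1_c15 LD2_c41 LD3_c47))))))
theorem f332665 : Led Lsl_dt (LP (LK LD1_c19 LD2_c55 LD3_c30)) = (LP (LK LD1_c29 LD2_c11 LD3_c16)) :=
  Lre_d IH (LK LD1_c19 LD2_c55 LD3_c30) (LK LD1_c29 LD2_c11 LD3_c16) Lrfl Lrfl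
theorem f952486 : Led Lsl_gf (LP (LK LD1_c25 LD2_c37 LD3_c23)) = (LP (LK LD1_c29 LD2_c11 LD3_c16)) :=
  Lgr Lrot143 (Lpr_dt (K20.f275488 IH) (Lpe (f275553 IH) (Lpr_df (f277977 IH) (Lpr_gf (f952485 IH) (Lpe (f952483 IH) (Lpr_gf (K73.f340587 IH) (Lpr_cf (K67.f386467 IH) (Lpe (K31.f385029 IH) (Lpr_dt (f332665 IH) (Lpn (LP (LK LD1_c29 LD2_c11 LD3_c16))))))))))))
theorem f952487 : Led Lsl_gt (LP (LK LD1_c29 LD2_c11 LD3_c16)) = (LP (LK LD1_c25 LD2_c37 LD3_c23)) :=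
  Leop (Lpr_gf (f952486 IH) (Lpn (LP (LK LD1_c29 LD2_c11 LD3_c16))))
theorem seed_2749 : LEOK LG_g (LK LD1_c29 LD2_c11 LD3_c16) :=
  Leoe_g (LK LD1_c29 LD2_c11 LD3_c16) (f952487 IH)
def v46285 : LQ := Led Lsl_ft (LP (LK LD1_c11 LD2_c4 LD3_c39))
theorem f952758 : Led Lsl_ft (LP (LK LD1_c11 LD2_c4 LD3_c39)) = v46285 :=
  Lrfl
theorem f188042 : Led Lsl_gt (LP (LK LD1_c11 LD2_c4 LD3_c39)) = (LP (LK LD1_c19 LD2_c57 LD3_c24)) :=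
  Lre_g IH (LK LD1_c11 LD2_c4 LD3_c39) (LK LD1_c19 LD2_c57 LD3_c24) Lrfl Lrfl
theorem f291198 : Led Lsl_ft (LP (LK LD1_c25 LD2_c7 LD3_c13)) = (LP (LK LD1_c15 LD2_c17 LD3_c6)) :=
  Lre_f IH (LK LD1_c25 LD2_c7 LD3_c13) (LK LD1_c15 LD2_c17 LD3_c6) Lrfl Lrfl
theorem f952759 : Led Lsl_af (LP (LK LD1_c25 LD2_c7 LD3_c13)) = v46285 :=
  Lgr Lrot45 (Lpr_ft (f291198 IH) (Lpr_at (K20.f315550 IH) (Lpr_ft (f952758 IH) (Lpn v46285))))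
theorem f952761 : Led Lsl_gt (LP (LK LD1_c19 LD2_c57 LD3_c24)) = (LP (LK LD1_c25 LD2_c7 LD3_c13)) :=
  Lgr Lrot46 (Lpe (f188042 IH) (Lpr_ft (f952758 IH) (Lpe (f952759 IH) (Lpn (LP (LK LD1_c25 LD2_c7 LD3_c13))))))
theorem f952762 : Led Lsl_gt (LP (LK LD1_c19 LD2_c57 LD3_c24)) = (LP (LK LD1_c25 LD2_c7 LD3_c13)) :=
  Leop (Lpe (f952761 IH) (Lpn (LP (LK LD1_c19 LD2_c57 LD3_c24))))
theorem seed_2750 : LEOK LG_g (LK LD1_c19 LD2_c57 LD3_c24) :=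
  Leoe_g (LK LD1_c19 LD2_c57 LD3_c24) (f952762 IH)
def v46408 : LQ := Led Lsl_bt (LP (LK LD1_c11 LD2_c6 LD3_c22))
theorem f953300 : Led Lsl_bt (LP (LK LD1_c11 LD2_c6 LD3_c22)) = v46408 :=
  Lrfl
def v46403 : LQ := Led Lsl_gf (LP (LK LD1_c11 LD2_c6 LD3_c19))
theorem f953273 : Led Lsl_gf (LP (LK LD1_c11 LD2_c6 LD3_c19)) = v46403 :=
  Lrfl
theorem f618152 : Led Lsl_gt (LP (LK LD1_c9 LD2_c12 LD3_c35)) = (LP (LK LD1_c11 LD2_c6 LD3_c24)) :=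
  Lgr Lrot131 (Lpe (K56.f552467 IH) (Lpr_dt (K45.f552466 IH) (Lpe (K45.f552465 IH) (Lpe (K52.f546014 IH) (Lpe (K45.f140503 IH) (Lpe (K52.f546047 IH) (Lpe (K52.f559989 IH) (Lpr_gf (K52.f499881 IH) (Lpr_df (K52.f560088 IH) (Lpr_et (K54.f289337 IH) (Lpn (LP (LK LD1_c11 LD2_c6 LD3_c24)))))))))))))
theorem f618154 : Led Lsl_gf (LP (LK LD1_c9 LD2_c12 LD3_c35)) = (LP (LK LD1_c11 LD2_c6 LD3_c19)) :=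
  Lgr Lrot47 (Lpr_gt (f618152 IH) (Lpe (K55.f164783 IH) (Lpe (K42.f302431 IH) (Lpn (LP (LK LD1_c11 LD2_c6 LD3_c19))))))
theorem f953275 : Led Lsl_ff (LP (LK LD1_c11 LD2_c6 LD3_c22)) = v46403 :=
  Lgr Lrot52 (Lpe (K56.f719793 IH) (Lpr_gf (f618154 IH) (Lpr_gf (f953273 IH) (Lpn v46403))))
theorem f495444 : Led Lsl_et (LP (LK LD1_c18 LD2_c42 LD3_c53)) = (LP (LK LD1_c10 LD2_c17 LD3_c44)) :=
  Lre_e IH (LK LD1_c18 LD2_c42 LD3_c53) (LK LD1_c10 LD2_c17 LD3_c44) Lrfl Lrfl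
theorem f953276 : Led Lsl_dt (LP (LK LD1_c18 LD2_c42 LD3_c53)) = v46403 :=
  Lgr Lrot136 (Lpr_et (f495444 IH) (Lpe (K72.f186554 IH) (Lpe (K19.f308123 IH) (Lpr_dt (K19.f201440 IH) (Lpqs (K40.f542406 IH) (Lpe (K40.f538320 IH) (Lpe (K72.f175920 IH) (Lpr_gf (K42.f552443 IH) (Lpe (K42.f546425 IH) (Lpr_dt (K42.f560013 IH) (Lpr_gf (f953273 IH) (Lpn v46403))))))))))))
theorem f953278 : Led Lsl_df (LP (LK LD1_c18 LD2_c42 LD3_c53)) = v46403 :=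
  Lgr Lrot38 (Lpr_dt (f953276 IH) (Lpn v46403))
theorem f924553 : Led Lsl_et (LP (LK LD1_c19 LD2_c27 LD3_c20)) = (LP (LK LD1_c10 LD2_c45 LD3_c25)) :=
  Lre_e IH (LK LD1_c19 LD2_c27 LD3_c20) (LK LD1_c10 LD2_c45 LD3_c25) Lrfl Lrfl
theorem f723698 : Led Lsl_et (LP (LK LD1_c10 LD2_c17 LD3_c44)) = (LP (LK LD1_c18 LD2_c42 LD3_c53)) :=
  Lre_e IH (LK LD1_c10 LD2_c17 LD3_c44) (LK LD1_c18 LD2_c42 LD3_c53) Lrfl Lrfl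
theorem f924554 : Led Lsl_bf (LP (LK LD1_c19 LD2_c27 LD3_c20)) = (LP (LK LD1_c18 LD2_c42 LD3_c53)) :=
  Lgr Lrot96 (Lpr_et (f924553 IH) (Lpr_bt (K72.f924547 IH) (Lpr_et (f723698 IH) (Lpn (LP (LK LD1_c18 LD2_c42 LD3_c53))))))
theorem f596435 : Led Lsl_et (LP (LK LD1_c6 LD2_c7 LD3_c36)) = (LP (LK LD1_c11 LD2_c57 LD3_c42)) :=
  Lre_e IH (LK LD1_c6 LD2_c7 LD3_c36) (LK LD1_c11 LD2_c57 LD3_c42) Lrfl Lrfl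
theorem f439082 : Led Lsl_et (LP (LK LD1_c12 LD2_c9 LD3_c53)) = (LP (LK LD1_c6 LD2_c16 LD3_c12)) :=
  Lre_e IH (LK LD1_c12 LD2_c9 LD3_c53) (LK LD1_c6 LD2_c16 LD3_c12) Lrfl Lrfl
theorem f548455 : Led Lsl_at (LP (LK LD1_c10 LD2_c6 LD3_c19)) = (LP (LK LD1_c5 LD2_c55 LD3_c1)) :=
  Lgr Lrot107 (Lpe (K38.f545056 IH) (Lpr_af (K38.f548449 IH) (Lpe (K38.f547999 IH) (Lpn (LP (LK LD1_c5 LD2_c55 LD3_c1))))))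
theorem f538457 : Led Lsl_bf (LP (LK LD1_c6 LD2_c16 LD3_c6)) = (LP (LK LD1_c5 LD2_c55 LD3_c5)) :=
  Lgr Lrot93 (Lpr_dt (K8.f138448 IH) (Lpr_bt (K70.f138581 IH) (Lpr_dt (K53.f538447 IH) (Lpn (LP (LK LD1_c5 LD2_c55 LD3_c5))))))
theorem f538461 : Led Lsl_bt (LP (LK LD1_c3 LD2_c5 LD3_c10)) = (LP (LK LD1_c2 LD2_c53 LD3_c53)) :=
  Lgr Lrot119 (Lpe (K8.f132787 IH) (Lpr_bf (f538457 IH) (Lpe (K38.f538437 IH) (Lpn (LP (LK LD1_c2 LD2_c53 LD3_c53))))))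
theorem f545655 : Led Lsl_bt (LP (LK LD1_c5 LD2_c53 LD3_c61)) = (LP (LK LD1_c6 LD2_c16 LD3_c12)) :=
  Lgr Lrot35 (Lpr_ff (K38.f545653 IH) (Lpe (f538461 IH) (Lpe (K41.f132788 IH) (Lpn (LP (LK LD1_c6 LD2_c16 LD3_c12))))))
theorem f132794 : Led Lsl_ft (LP (LK LD1_c3 LD2_c5 LD3_c10)) = (LP (LK LD1_c6 LD2_c16 LD3_c12)) :=
  Lre_f IH (LK LD1_c3 LD2_c5 LD3_c10) (LK LD1_c6 LD2_c16 LD3_c12) Lrfl Lrfl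
theorem f570493 : Led Lsl_af (LP (LK LD1_c6 LD2_c7 LD3_c31)) = (LP (LK LD1_c6 LD2_c16 LD3_c12)) :=
  Lgr Lrot31 (Lpr_gf (K42.f570491 IH) (Lpr_gf (K35.f538409 IH) (Lpr_ft (f132794 IH) (Lpn (LP (LK LD1_c6 LD2_c16 LD3_c12))))))
theorem f572154 : Led Lsl_bf (LP (LK LD1_c10 LD2_c6 LD3_c19)) = (LP (LK LD1_c6 LD2_c7 LD3_c31)) :=
  Lgr Lrot81 (Lpr_at (f548455 IH) (Lpr_bt (K38.f180593 IH) (Lpr_at (K42.f572152 IH) (Lpr_bt (f545655 IH) (Lpe (f570493 IH) (Lpn (LP (LK LD1_c6 LD2_c7 LD3_c31))))))))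
theorem f548484 : Led Lsl_ft (LP (LK LD1_c10 LD2_c6 LD3_c19)) = (LP (LK LD1_c5 LD2_c48 LD3_c0)) :=
  Lgr Lrot101 (Lpr_af (K38.f548480 IH) (Lpe (K38.f548440 IH) (Lpr_af (K5.f132351 IH) (Lpn (LP (LK LD1_c5 LD2_c48 LD3_c0))))))
theorem f572211 : Led Lsl_ft (LP (LK LD1_c4 LD2_c42 LD3_c50)) = (LP (LK LD1_c6 LD2_c7 LD3_c31)) :=
  Lgr Lrot75 (Lpe (K38.f132816 IH) (Lpe (f548484 IH) (Lpr_bf (f572154 IH) (Lpn (LP (LK LD1_c6 LD2_c7 LD3_c31))))))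
theorem f572213 : Led Lsl_af (LP (LK LD1_c6 LD2_c16 LD3_c12)) = (LP (LK LD1_c6 LD2_c7 LD3_c31)) :=
  Lgr Lrot45 (Lpr_ft (K41.f132788 IH) (Lpr_at (K8.f132780 IH) (Lpr_ft (f572211 IH) (Lpn (LP (LK LD1_c6 LD2_c7 LD3_c31))))))
theorem f132846 : Led Lsl_et (LP (LK LD1_c6 LD2_c16 LD3_c12)) = (LP (LK LD1_c12 LD2_c9 LD3_c53)) :=
  Lre_e IH (LK LD1_c6 LD2_c16 LD3_c12) (LK LD1_c12 LD2_c9 LD3_c53) Lrfl Lrfl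
theorem f570499 : Led Lsl_et (LP (LK LD1_c11 LD2_c57 LD3_c37)) = (LP (LK LD1_c6 LD2_c7 LD3_c31)) :=
  Lre_e IH (LK LD1_c11 LD2_c57 LD3_c37) (LK LD1_c6 LD2_c7 LD3_c31) Lrfl Lrfl
theorem f572219 : Led Lsl_at (LP (LK LD1_c12 LD2_c9 LD3_c53)) = (LP (LK LD1_c11 LD2_c57 LD3_c37)) :=
  Lgr Lrot80 (Lpe (f132846 IH) (Lpr_af (f572213 IH) (Lpe (f570499 IH) (Lpn (LP (LK LD1_c11 LD2_c57 LD3_c37))))))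
theorem f572221 : Led Lsl_af (LP (LK LD1_c12 LD2_c9 LD3_c53)) = (LP (LK LD1_c11 LD2_c57 LD3_c37)) :=
  Lgr Lrot0 (Lpr_at (f572219 IH) (Lpn (LP (LK LD1_c11 LD2_c57 LD3_c37))))
theorem f572209 : Led Lsl_bt (LP (LK LD1_c18 LD2_c25 LD3_c21)) = (LP (LK LD1_c11 LD2_c57 LD3_c37)) :=
  Lgr Lrot119 (Lpe (K38.f548479 IH) (Lpr_bf (f572154 IH) (Lpe (f570499 IH) (Lpn (LP (LK LD1_c11 LD2_c57 LD3_c37))))))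
theorem f548472 : Led Lsl_bt (LP (LK LD1_c5 LD2_c55 LD3_c3)) = (LP (LK LD1_c11 LD2_c35 LD3_c29)) :=
  Lre_b IH (LK LD1_c5 LD2_c55 LD3_c3) (LK LD1_c11 LD2_c35 LD3_c29) Lrfl Lrfl
theorem f572223 : Led Lsl_bt (LP (LK LD1_c12 LD2_c9 LD3_c53)) = (LP (LK LD1_c11 LD2_c13 LD3_c55)) :=
  Lgr Lrot62 (Lpr_af (f572221 IH) (Lpe (f572209 IH) (Lpr_af (K38.f548466 IH) (Lpe (f548472 IH) (Lpr_af (K42.f572156 IH) (Lpn (LP (LK LD1_c11 LD2_c13 LD3_c55))))))))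
theorem f572171 : Led Lsl_bt (LP (LK LD1_c5 LD2_c41 LD3_c51)) = (LP (LK LD1_c11 LD2_c13 LD3_c50)) :=
  Lre_b IH (LK LD1_c5 LD2_c41 LD3_c51) (LK LD1_c11 LD2_c13 LD3_c50) Lrfl Lrfl
theorem f572229 : Led Lsl_df (LP (LK LD1_c12 LD2_c9 LD3_c53)) = (LP (LK LD1_c11 LD2_c13 LD3_c50)) :=
  Lgr Lrot12 (Lpr_bt (f572223 IH) (Lpr_dt (K42.f561598 IH) (Lpr_bt (f572171 IH) (Lpn (LP (LK LD1_c11 LD2_c13 LD3_c50))))))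
theorem f572232 : Led Lsl_dt (LP (LK LD1_c12 LD2_c9 LD3_c53)) = (LP (LK LD1_c11 LD2_c13 LD3_c50)) :=
  Lgr Lrot42 (Lpr_df (f572229 IH) (Lpn (LP (LK LD1_c11 LD2_c13 LD3_c50))))
theorem f572237 : Led Lsl_gt (LP (LK LD1_c20 LD2_c8 LD3_c34)) = (LP (LK LD1_c11 LD2_c13 LD3_c50)) :=
  Lre_g IH (LK LD1_c20 LD2_c8 LD3_c34) (LK LD1_c11 LD2_c13 LD3_c50) Lrfl Lrfl
theorem f930583 : Led Lsl_dt (LP (LK LD1_c19 LD2_c27 LD3_c20)) = (LP (LK LD1_c20 LD2_c8 LD3_c34)) :=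
  Lgr Lrot136 (Lpr_et (f924553 IH) (Lpr_gf (K72.f930581 IH) (Lpe (f596435 IH) (Lpr_dt (K50.f596421 IH) (Lpe (K41.f55910 IH) (Lpe (K35.f175362 IH) (Lpe (K41.f538272 IH) (Lpe (f439082 IH) (Lpr_dt (f572232 IH) (Lpe (f572237 IH) (Lpn (LP (LK LD1_c20 LD2_c8 LD3_c34)))))))))))))
theorem f953279 : Led Lsl_bt (LP (LK LD1_c20 LD2_c8 LD3_c34)) = v46403 :=
  Lgr Lrot95 (Lpe (f930583 IH) (Lpr_bf (f924554 IH) (Lpr_df (f953278 IH) (Lpn v46403))))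
theorem f953303 : Led Lsl_ff (LP (LK LD1_c20 LD2_c8 LD3_c34)) = v46408 :=
  Lgr Lrot25 (Lpr_bt (f953279 IH) (Lpe (f953275 IH) (Lpr_bt (f953300 IH) (Lpn v46408))))
theorem f953304 : Led Lsl_ft (LP (LK LD1_c20 LD2_c8 LD3_c34)) = v46408 :=
  Lgr Lrot48 (Lpr_ff (f953303 IH) (Lpn v46408))
theorem f572238 : Led Lsl_gt (LP (LK LD1_c11 LD2_c13 LD3_c50)) = (LP (LK LD1_c20 LD2_c8 LD3_c33)) :=
  Lre_g IH (LK LD1_c11 LD2_c13 LD3_c50) (LK LD1_c20 LD2_c8 LD3_c33) Lrfl Lrfl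
theorem f953305 : Led Lsl_af (LP (LK LD1_c20 LD2_c8 LD3_c33)) = v46408 :=
  Lgr Lrot31 (Lpe (f572238 IH) (Lpe (f572237 IH) (Lpr_ft (f953304 IH) (Lpn v46408))))
theorem f700679 : Led Lsl_bt (LP (LK LD1_c4 LD2_c38 LD3_c21)) = (LP (LK LD1_c9 LD2_c12 LD3_c29)) :=
  Lre_b IH (LK LD1_c4 LD2_c38 LD3_c21) (LK LD1_c9 LD2_c12 LD3_c29) Lrfl Lrfl
theorem f642691 : Led Lsl_et (LP (LK LD1_c9 LD2_c12 LD3_c35)) = (LP (LK LD1_c4 LD2_c38 LD3_c21)) :=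
  Lre_e IH (LK LD1_c9 LD2_c12 LD3_c35) (LK LD1_c4 LD2_c38 LD3_c21) Lrfl Lrfl
theorem f719847 : Led Lsl_bt (LP (LK LD1_c11 LD2_c24 LD3_c9)) = (LP (LK LD1_c9 LD2_c12 LD3_c35)) :=
  Lgr Lrot119 (Lpr_ef (K56.f719841 IH) (Lpe (f700679 IH) (Lpe (f642691 IH) (Lpn (LP (LK LD1_c9 LD2_c12 LD3_c35))))))
theorem f953307 : Led Lsl_bt (LP (LK LD1_c20 LD2_c8 LD3_c33)) = (LP (LK LD1_c11 LD2_c14 LD3_c56)) :=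
  Lgr Lrot62 (Lpr_af (f953305 IH) (Lpe (f953300 IH) (Lpe (K56.f719799 IH) (Lpe (f719847 IH) (Lpr_af (K56.f753463 IH) (Lpn (LP (LK LD1_c11 LD2_c14 LD3_c56))))))))
theorem f953308 : Led Lsl_bt (LP (LK LD1_c20 LD2_c8 LD3_c33)) = (LP (LK LD1_c11 LD2_c14 LD3_c56)) :=
  Leop (Lpe (f953307 IH) (Lpn (LP (LK LD1_c20 LD2_c8 LD3_c33))))
theorem seed_2751 : LEOK LG_b (LK LD1_c20 LD2_c8 LD3_c33) :=
  Leoe_b (LK LD1_c20 LD2_c8 LD3_c33) (f953308 IH)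
def v46412 : LQ := Led Lsl_ct (LP (LK LD1_c11 LD2_c6 LD3_c25))
theorem f953346 : Led Lsl_ct (LP (LK LD1_c11 LD2_c6 LD3_c25)) = v46412 :=
  Lrfl
theorem f164986 : Led Lsl_bt (LP (LK LD1_c11 LD2_c6 LD3_c25)) = (LP (LK LD1_c5 LD2_c37 LD3_c16)) :=
  Lre_b IH (LK LD1_c11 LD2_c6 LD3_c25) (LK LD1_c5 LD2_c37 LD3_c16) Lrfl Lrfl
theorem f172206 : Led Lsl_bt (LP (LK LD1_c20 LD2_c6 LD3_c57)) = (LP (LK LD1_c11 LD2_c12 LD3_c25)) :=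
  Lre_b IH (LK LD1_c20 LD2_c6 LD3_c57) (LK LD1_c11 LD2_c12 LD3_c25) Lrfl Lrfl
theorem f79831 : Led Lsl_ct (LP (LK LD1_c20 LD2_c27 LD3_c55)) = (LP (LK LD1_c11 LD2_c30 LD3_c53)) :=
  Lre_c IH (LK LD1_c20 LD2_c27 LD3_c55) (LK LD1_c11 LD2_c30 LD3_c53) Lrfl Lrfl
theorem f73856 : Led Lsl_ft (LP (LK LD1_c5 LD2_c51 LD3_c47)) = (LP (LK LD1_c11 LD2_c30 LD3_c53)) :=
  Lre_f IH (LK LD1_c5 LD2_c51 LD3_c47) (LK LD1_c11 LD2_c30 LD3_c53) Lrfl Lrfl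
theorem f172230 : Led Lsl_et (LP (LK LD1_c11 LD2_c12 LD3_c21)) = (LP (LK LD1_c5 LD2_c40 LD3_c54)) :=
  Lre_e IH (LK LD1_c11 LD2_c12 LD3_c21) (LK LD1_c5 LD2_c40 LD3_c54) Lrfl Lrfl
theorem f172235 : Led Lsl_et (LP (LK LD1_c11 LD2_c30 LD3_c53)) = (LP (LK LD1_c20 LD2_c6 LD3_c57)) :=
  Lgr Lrot69 (Lpe (f73856 IH) (Lpe (K2.f73834 IH) (Lpr_ff (K37.f172233 IH) (Lpe (f172230 IH) (Lpe (K54.f172228 IH) (Lpn (LP (LK LD1_c20 LD2_c6 LD3_c57))))))))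
theorem f601426 : Led Lsl_cf (LP (LK LD1_c20 LD2_c8 LD3_c53)) = (LP (LK LD1_c20 LD2_c6 LD3_c57)) :=
  Lgr Lrot39 (Lpr_et (K54.f601424 IH) (Lpr_ct (f79831 IH) (Lpr_et (f172235 IH) (Lpn (LP (LK LD1_c20 LD2_c6 LD3_c57))))))
theorem f953349 : Led Lsl_gt (LP (LK LD1_c20 LD2_c8 LD3_c53)) = v46412 :=
  Lgr Lrot65 (Lpr_cf (f601426 IH) (Lpr_bt (f172206 IH) (Lpr_gf (K56.f737493 IH) (Lpqs (K56.f739612 IH) (Lpe (K56.f171823 IH) (Lpr_ct (K54.f727484 IH) (Lpe (K53.f727478 IH) (Lpe (K30.f180397 IH) (Lpe (K53.f164771 IH) (Lpe (f164986 IH) (Lpr_ct (f953346 IH) (Lpn v46412))))))))))))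
theorem f601432 : Led Lsl_ft (LP (LK LD1_c20 LD2_c8 LD3_c53)) = (LP (LK LD1_c11 LD2_c14 LD3_c0)) :=
  Lre_f IH (LK LD1_c20 LD2_c8 LD3_c53) (LK LD1_c11 LD2_c14 LD3_c0) Lrfl Lrfl
theorem f601419 : Led Lsl_at (LP (LK LD1_c5 LD2_c41 LD3_c53)) = (LP (LK LD1_c9 LD2_c2 LD3_c43)) :=
  Lgr Lrot66 (Lpr_ff (K54.f601412 IH) (Lpe (K40.f561652 IH) (Lpr_ff (K40.f561663 IH) (Lpn (LP (LK LD1_c9 LD2_c2 LD3_c43))))))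
theorem f411908 : Led Lsl_et (LP (LK LD1_c11 LD2_c14 LD3_c0)) = (LP (LK LD1_c5 LD2_c41 LD3_c53)) :=
  Lre_e IH (LK LD1_c11 LD2_c14 LD3_c0) (LK LD1_c5 LD2_c41 LD3_c53) Lrfl Lrfl
theorem f411880 : Led Lsl_et (LP (LK LD1_c9 LD2_c2 LD3_c43)) = (LP (LK LD1_c16 LD2_c53 LD3_c13)) :=
  Lre_e IH (LK LD1_c9 LD2_c2 LD3_c43) (LK LD1_c16 LD2_c53 LD3_c13) Lrfl Lrfl
theorem f601491 : Led Lsl_af (LP (LK LD1_c11 LD2_c14 LD3_c0)) = (LP (LK LD1_c16 LD2_c53 LD3_c13)) :=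
  Lgr Lrot50 (Lpr_et (f411908 IH) (Lpr_at (f601419 IH) (Lpr_et (f411880 IH) (Lpn (LP (LK LD1_c16 LD2_c53 LD3_c13))))))
theorem f601493 : Led Lsl_at (LP (LK LD1_c11 LD2_c14 LD3_c0)) = (LP (LK LD1_c16 LD2_c53 LD3_c13)) :=
  Lgr Lrot100 (Lpr_af (f601491 IH) (Lpn (LP (LK LD1_c16 LD2_c53 LD3_c13))))
theorem f953350 : Led Lsl_gf (LP (LK LD1_c16 LD2_c53 LD3_c13)) = v46412 :=
  Lgr Lrot76 (Lpe (f601493 IH) (Lpe (f601432 IH) (Lpr_gt (f953349 IH) (Lpn v46412))))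
theorem f411879 : Led Lsl_et (LP (LK LD1_c17 LD2_c55 LD3_c8)) = (LP (LK LD1_c9 LD2_c45 LD3_c35)) :=
  Lre_e IH (LK LD1_c17 LD2_c55 LD3_c8) (LK LD1_c9 LD2_c45 LD3_c35) Lrfl Lrfl
theorem f411881 : Led Lsl_cf (LP (LK LD1_c17 LD2_c55 LD3_c8)) = (LP (LK LD1_c16 LD2_c53 LD3_c13)) :=
  Lgr Lrot39 (Lpr_et (f411879 IH) (Lpr_ct (K40.f411869 IH) (Lpr_et (f411880 IH) (Lpn (LP (LK LD1_c16 LD2_c53 LD3_c13))))))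
theorem f542249 : Led Lsl_ct (LP (LK LD1_c11 LD2_c14 LD3_c0)) = (LP (LK LD1_c11 LD2_c12 LD3_c21)) :=
  Lgr Lrot15 (Lpe (K54.f542248 IH) (Lpr_cf (K37.f542232 IH) (Lpe (f172230 IH) (Lpn (LP (LK LD1_c11 LD2_c12 LD3_c21))))))
theorem f411883 : Led Lsl_ct (LP (LK LD1_c17 LD2_c55 LD3_c8)) = (LP (LK LD1_c16 LD2_c53 LD3_c13)) :=
  Lgr Lrot59 (Lpr_cf (f411881 IH) (Lpn (LP (LK LD1_c16 LD2_c53 LD3_c13))))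
theorem f601495 : Led Lsl_at (LP (LK LD1_c11 LD2_c12 LD3_c21)) = (LP (LK LD1_c17 LD2_c55 LD3_c8)) :=
  Lgr Lrot107 (Lpe (f542249 IH) (Lpr_af (f601491 IH) (Lpe (f411883 IH) (Lpn (LP (LK LD1_c17 LD2_c55 LD3_c8))))))
theorem f172222 : Led Lsl_dt (LP (LK LD1_c8 LD2_c12 LD3_c50)) = (LP (LK LD1_c11 LD2_c12 LD3_c21)) :=
  Lgr Lrot42 (Lpr_df (K37.f172217 IH) (Lpn (LP (LK LD1_c11 LD2_c12 LD3_c21))))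
theorem f601545 : Led Lsl_df (LP (LK LD1_c15 LD2_c26 LD3_c17)) = (LP (LK LD1_c17 LD2_c55 LD3_c8)) :=
  Lgr Lrot18 (Lpr_at (K38.f55731 IH) (Lpr_dt (f172222 IH) (Lpr_at (f601495 IH) (Lpn (LP (LK LD1_c17 LD2_c55 LD3_c8))))))
theorem f164768 : Led Lsl_bt (LP (LK LD1_c10 LD2_c3 LD3_c3)) = (LP (LK LD1_c5 LD2_c6 LD3_c1)) :=
  Lre_b IH (LK LD1_c10 LD2_c3 LD3_c3) (LK LD1_c5 LD2_c6 LD3_c1) Lrfl Lrfl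
theorem f166295 : Led Lsl_ct (LP (LK LD1_c10 LD2_c3 LD3_c3)) = (LP (LK LD1_c18 LD2_c21 LD3_c33)) :=
  Lre_c IH (LK LD1_c10 LD2_c3 LD3_c3) (LK LD1_c18 LD2_c21 LD3_c33) Lrfl Lrfl
theorem f55569 : Led Lsl_bt (LP (LK LD1_c15 LD2_c27 LD3_c6)) = (LP (LK LD1_c8 LD2_c12 LD3_c55)) :=
  Lre_b IH (LK LD1_c15 LD2_c27 LD3_c6) (LK LD1_c8 LD2_c12 LD3_c55) Lrfl Lrfl
theorem f55565 : Led Lsl_ct (LP (LK LD1_c15 LD2_c27 LD3_c6)) = (LP (LK LD1_c25 LD2_c18 LD3_c48)) :=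
  Lre_c IH (LK LD1_c15 LD2_c27 LD3_c6) (LK LD1_c25 LD2_c18 LD3_c48) Lrfl Lrfl
theorem f931620 : Led Lsl_gf (LP (LK LD1_c18 LD2_c21 LD3_c33)) = (LP (LK LD1_c25 LD2_c18 LD3_c48)) :=
  Lgr Lrot126 (Lpe (f166295 IH) (Lpr_bt (f164768 IH) (Lpr_gt (K17.f164763 IH) (Lpe (K18.f166247 IH) (Lpr_gt (K54.f166294 IH) (Lpq (K54.f732668 IH) (Lpe (K54.f722311 IH) (Lpr_bt (K73.f722309 IH) (Lpqs (K73.f931502 IH) (Lpe (K57.f55725 IH) (Lpe (f55569 IH) (Lpr_ct (f55565 IH) (Lpn (LP (LK LD1_c25 LD2_c18 LD3_c48)))))))))))))))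
theorem f55577 : Led Lsl_ft (LP (LK LD1_c25 LD2_c18 LD3_c48)) = (LP (LK LD1_c15 LD2_c27 LD3_c4)) :=
  Lre_f IH (LK LD1_c25 LD2_c18 LD3_c48) (LK LD1_c15 LD2_c27 LD3_c4) Lrfl Lrfl
theorem f931709 : Led Lsl_gt (LP (LK LD1_c18 LD2_c21 LD3_c33)) = (LP (LK LD1_c11 LD2_c35 LD3_c42)) :=
  Lgr Lrot46 (Lpr_gf (f931620 IH) (Lpr_ft (f55577 IH) (Lpe (K38.f548100 IH) (Lpn (LP (LK LD1_c11 LD2_c35 LD3_c42))))))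
theorem f180519 : Led Lsl_gt (LP (LK LD1_c18 LD2_c21 LD3_c31)) = (LP (LK LD1_c10 LD2_c3 LD3_c3)) :=
  Lre_g IH (LK LD1_c18 LD2_c21 LD3_c31) (LK LD1_c10 LD2_c3 LD3_c3) Lrfl Lrfl
theorem f740655 : Led Lsl_af (LP (LK LD1_c16 LD2_c53 LD3_c8)) = (LP (LK LD1_c9 LD2_c14 LD3_c5)) :=
  Lgr Lrot50 (Lpr_et (K72.f740653 IH) (Lpr_at (K53.f632055 IH) (Lpr_et (K72.f632067 IH) (Lpn (LP (LK LD1_c9 LD2_c14 LD3_c5))))))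
theorem f645822 : Led Lsl_bt (LP (LK LD1_c5 LD2_c37 LD3_c16)) = (LP (LK LD1_c11 LD2_c6 LD3_c25)) :=
  Lre_b IH (LK LD1_c5 LD2_c37 LD3_c16) (LK LD1_c11 LD2_c6 LD3_c25) Lrfl Lrfl
theorem f645823 : Led Lsl_ft (LP (LK LD1_c11 LD2_c6 LD3_c25)) = (LP (LK LD1_c9 LD2_c14 LD3_c5)) :=
  Lgr Lrot75 (Lpe (f645822 IH) (Lpr_ff (K53.f645820 IH) (Lpe (K54.f178962 IH) (Lpn (LP (LK LD1_c9 LD2_c14 LD3_c5))))))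
theorem f740659 : Led Lsl_gf (LP (LK LD1_c9 LD2_c2 LD3_c40)) = (LP (LK LD1_c11 LD2_c6 LD3_c25)) :=
  Lgr Lrot47 (Lpr_gt (K72.f595798 IH) (Lpr_af (f740655 IH) (Lpe (f645823 IH) (Lpn (LP (LK LD1_c11 LD2_c6 LD3_c25))))))
theorem f553783 : Led Lsl_et (LP (LK LD1_c2 LD2_c53 LD3_c52)) = (LP (LK LD1_c5 LD2_c55 LD3_c3)) :=
  Lre_e IH (LK LD1_c2 LD2_c53 LD3_c52) (LK LD1_c5 LD2_c55 LD3_c3) Lrfl Lrfl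
theorem f412024 : Led Lsl_et (LP (LK LD1_c9 LD2_c2 LD3_c40)) = (LP (LK LD1_c4 LD2_c32 LD3_c35)) :=
  Lre_e IH (LK LD1_c9 LD2_c2 LD3_c40) (LK LD1_c4 LD2_c32 LD3_c35) Lrfl Lrfl
theorem f553786 : Led Lsl_dt (LP (LK LD1_c5 LD2_c55 LD3_c3)) = (LP (LK LD1_c9 LD2_c2 LD3_c40)) :=
  Lgr Lrot77 (Lpe (f553783 IH) (Lpr_df (K39.f553781 IH) (Lpe (K39.f380277 IH) (Lpe (K42.f553762 IH) (Lpe (f412024 IH) (Lpn (LP (LK LD1_c9 LD2_c2 LD3_c40))))))))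
theorem f572164 : Led Lsl_at (LP (LK LD1_c9 LD2_c2 LD3_c40)) = (LP (LK LD1_c5 LD2_c41 LD3_c51)) :=
  Lgr Lrot51 (Lpe (f553786 IH) (Lpr_af (K42.f572156 IH) (Lpe (K72.f280581 IH) (Lpn (LP (LK LD1_c5 LD2_c41 LD3_c51))))))
theorem f572169 : Led Lsl_af (LP (LK LD1_c9 LD2_c2 LD3_c40)) = (LP (LK LD1_c5 LD2_c41 LD3_c51)) :=
  Lgr Lrot0 (Lpr_at (f572164 IH) (Lpn (LP (LK LD1_c5 LD2_c41 LD3_c51))))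
theorem f572178 : Led Lsl_ft (LP (LK LD1_c11 LD2_c13 LD3_c56)) = (LP (LK LD1_c5 LD2_c41 LD3_c51)) :=
  Lre_f IH (LK LD1_c11 LD2_c13 LD3_c56) (LK LD1_c5 LD2_c41 LD3_c51) Lrfl Lrfl
theorem f740661 : Led Lsl_gt (LP (LK LD1_c11 LD2_c13 LD3_c56)) = (LP (LK LD1_c11 LD2_c6 LD3_c25)) :=
  Lgr Lrot5 (Lpr_ft (f572178 IH) (Lpe (f572169 IH) (Lpr_gf (f740659 IH) (Lpn (LP (LK LD1_c11 LD2_c6 LD3_c25))))))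
theorem f953351 : Led Lsl_dt (LP (LK LD1_c18 LD2_c21 LD3_c31)) = (LP (LK LD1_c11 LD2_c13 LD3_c56)) :=
  Lgr Lrot6 (Lpr_gt (f180519 IH) (Lpr_ct (f166295 IH) (Lpr_gt (f931709 IH) (Lpr_ct (K38.f548096 IH) (Lpr_df (f601545 IH) (Lpr_cf (f411881 IH) (Lpr_gf (f953350 IH) (Lpe (f953346 IH) (Lpe (f740661 IH) (Lpn (LP (LK LD1_c11 LD2_c13 LD3_c56))))))))))))
theorem f953352 : Led Lsl_dt (LP (LK LD1_c18 LD2_c21 LD3_c31)) = (LP (LK LD1_c11 LD2_c13 LD3_c56)) :=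
  Leop (Lpe (f953351 IH) (Lpn (LP (LK LD1_c18 LD2_c21 LD3_c31))))
theorem seed_2752 : LEOK LG_d (LK LD1_c18 LD2_c21 LD3_c31) :=
  Leoe_d (LK LD1_c18 LD2_c21 LD3_c31) (f953352 IH)
theorem f548420 : Led Lsl_bf (LP (LK LD1_c6 LD2_c7 LD3_c27)) = (LP (LK LD1_c4 LD2_c56 LD3_c40)) :=
  Lgr Lrot96 (Lpr_et (K38.f548418 IH) (Lpe (K35.f380271 IH) (Lpr_et (K39.f380277 IH) (Lpn (LP (LK LD1_c4 LD2_c56 LD3_c40))))))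
theorem f548424 : Led Lsl_df (LP (LK LD1_c4 LD2_c56 LD3_c40)) = (LP (LK LD1_c2 LD2_c53 LD3_c52)) :=
  Lgr Lrot12 (Lpe (f548420 IH) (Lpr_dt (K38.f548422 IH) (Lpr_bt (K38.f180593 IH) (Lpn (LP (LK LD1_c2 LD2_c53 LD3_c52))))))
theorem f186259 : Led Lsl_at (LP (LK LD1_c10 LD2_c4 LD3_c30)) = (LP (LK LD1_c5 LD2_c6 LD3_c53)) :=
  Lre_a IH (LK LD1_c10 LD2_c4 LD3_c30) (LK LD1_c5 LD2_c6 LD3_c53) Lrfl Lrfl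
theorem f186260 : Led Lsl_dt (LP (LK LD1_c5 LD2_c12 LD3_c26)) = (LP (LK LD1_c10 LD2_c4 LD3_c30)) :=
  Lgr Lrot44 (Lpe (K39.f186258 IH) (Lpr_df (K39.f186249 IH) (Lpe (f186259 IH) (Lpn (LP (LK LD1_c10 LD2_c4 LD3_c30))))))
theorem f186268 : Led Lsl_df (LP (LK LD1_c5 LD2_c12 LD3_c26)) = (LP (LK LD1_c10 LD2_c4 LD3_c30)) :=
  Lgr Lrot38 (Lpr_dt (f186260 IH) (Lpn (LP (LK LD1_c10 LD2_c4 LD3_c30))))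
theorem f186270 : Led Lsl_et (LP (LK LD1_c10 LD2_c4 LD3_c30)) = (LP (LK LD1_c18 LD2_c23 LD3_c17)) :=
  Lre_e IH (LK LD1_c10 LD2_c4 LD3_c30) (LK LD1_c18 LD2_c23 LD3_c17) Lrfl Lrfl
def v9682 : LQ := Led Lsl_dt K66.v3006
def v30250 : LQ := Led Lsl_et v9682
theorem f853569 : Led Lsl_et v9682 = v30250 :=
  Lrfl
theorem f677161 : Led Lsl_dt K66.v3006 = v9682 :=
  Lrfl
theorem f677162 : Led Lsl_df K66.v3006 = v9682 :=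
  Lgr Lrot38 (Lpr_dt (f677161 IH) (Lpn v9682))
theorem f500464 : Led Lsl_ef (LP (LK LD1_c1 LD2_c22 LD3_c56)) = K66.v1635 :=
  Lgr Lrot88 (Lpr_et (K66.f500461 IH) (Lpn K66.v1635))
theorem f853572 : Led Lsl_gt (LP (LK LD1_c18 LD2_c23 LD3_c17)) = v30250 :=
  Lgr Lrot131 (Lpe (f186270 IH) (Lpe (f186268 IH) (Lpr_gf (K39.f553777 IH) (Lpr_df (f548424 IH) (Lpe (K38.f71536 IH) (Lpr_ef (f500464 IH) (Lpe (K66.f500463 IH) (Lpr_gf (K66.f536470 IH) (Lpr_df (f677162 IH) (Lpr_et (f853569 IH) (Lpn v30250)))))))))))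
theorem f509430 : Led Lsl_et (LP (LK LD1_c12 LD2_c55 LD3_c29)) = (LP (LK LD1_c6 LD2_c45 LD3_c47)) :=
  Lre_e IH (LK LD1_c12 LD2_c55 LD3_c29) (LK LD1_c6 LD2_c45 LD3_c47) Lrfl Lrfl
theorem f853570 : Led Lsl_df (LP (LK LD1_c12 LD2_c55 LD3_c29)) = v30250 :=
  Lgr Lrot70 (Lpr_et (f509430 IH) (Lpr_dt (K66.f715140 IH) (Lpe (K66.f677164 IH) (Lpr_dt (f677161 IH) (Lpr_et (f853569 IH) (Lpn v30250))))))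
def v16205 : LQ := Led Lsl_gf (LP (LK LD1_c5 LD2_c55 LD3_c3))
theorem f747020 : Led Lsl_gf (LP (LK LD1_c5 LD2_c55 LD3_c3)) = v16205 :=
  Lrfl
theorem f411662 : Led Lsl_et (LP (LK LD1_c4 LD2_c32 LD3_c26)) = (LP (LK LD1_c9 LD2_c2 LD3_c29)) :=
  Lre_e IH (LK LD1_c4 LD2_c32 LD3_c26) (LK LD1_c9 LD2_c2 LD3_c29) Lrfl Lrfl
theorem f553771 : Led Lsl_dt (LP (LK LD1_c9 LD2_c2 LD3_c40)) = (LP (LK LD1_c5 LD2_c55 LD3_c3)) :=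
  Lgr Lrot77 (Lpe (K72.f553770 IH) (Lpr_df (K39.f553764 IH) (Lpe (K42.f380280 IH) (Lpr_df (f548424 IH) (Lpe (K42.f443047 IH) (Lpn (LP (LK LD1_c5 LD2_c55 LD3_c3))))))))
def v37940 : LQ := Led Lsl_gt (LP (LK LD1_c9 LD2_c2 LD3_c29))
theorem f898151 : Led Lsl_gt (LP (LK LD1_c9 LD2_c2 LD3_c29)) = v37940 :=
  Lrfl
def v15768 : LQ := Led Lsl_gt (LP (LK LD1_c5 LD2_c46 LD3_c10))
theorem f741451 : Led Lsl_gt (LP (LK LD1_c5 LD2_c46 LD3_c10)) = v15768 :=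
  Lrfl
theorem f423382 : Led Lsl_ft (LP (LK LD1_c9 LD2_c2 LD3_c29)) = (LP (LK LD1_c16 LD2_c52 LD3_c48)) :=
  Lre_f IH (LK LD1_c9 LD2_c2 LD3_c29) (LK LD1_c16 LD2_c52 LD3_c48) Lrfl Lrfl
theorem f423381 : Led Lsl_ft (LP (LK LD1_c11 LD2_c13 LD3_c2)) = (LP (LK LD1_c5 LD2_c41 LD3_c24)) :=
  Lre_f IH (LK LD1_c11 LD2_c13 LD3_c2) (LK LD1_c5 LD2_c41 LD3_c24) Lrfl Lrfl
theorem f423383 : Led Lsl_af (LP (LK LD1_c11 LD2_c13 LD3_c2)) = (LP (LK LD1_c16 LD2_c52 LD3_c48)) :=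
  Lgr Lrot45 (Lpr_ft (f423381 IH) (Lpr_at (K38.f423370 IH) (Lpr_ft (f423382 IH) (Lpn (LP (LK LD1_c16 LD2_c52 LD3_c48))))))
theorem f898152 : Led Lsl_gf (LP (LK LD1_c11 LD2_c13 LD3_c2)) = v37940 :=
  Lgr Lrot76 (Lpr_af (f423383 IH) (Lpe (f423382 IH) (Lpr_gt (f898151 IH) (Lpn v37940))))
theorem f561685 : Led Lsl_dt (LP (LK LD1_c15 LD2_c26 LD3_c17)) = (LP (LK LD1_c17 LD2_c55 LD3_c8)) :=
  Lgr Lrot77 (Lpe (K38.f55886 IH) (Lpe (K10.f55835 IH) (Lpr_ef (K43.f60815 IH) (Lpr_df (K40.f561683 IH) (Lpe (f411879 IH) (Lpn (LP (LK LD1_c17 LD2_c55 LD3_c8))))))))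
theorem f953353 : Led Lsl_df (LP (LK LD1_c18 LD2_c21 LD3_c31)) = (LP (LK LD1_c11 LD2_c13 LD3_c56)) :=
  Lgr Lrot155 (Lpr_gt (f180519 IH) (Lpr_ct (f166295 IH) (Lpr_gt (f931709 IH) (Lpr_ct (K38.f548096 IH) (Lpr_dt (f561685 IH) (Lpr_cf (f411881 IH) (Lpr_gf (f953350 IH) (Lpe (f953346 IH) (Lpe (f740661 IH) (Lpn (LP (LK LD1_c11 LD2_c13 LD3_c56))))))))))))
theorem f180503 : Led Lsl_bt (LP (LK LD1_c10 LD2_c3 LD3_c5)) = (LP (LK LD1_c18 LD2_c21 LD3_c34)) :=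
  Lre_b IH (LK LD1_c10 LD2_c3 LD3_c5) (LK LD1_c18 LD2_c21 LD3_c34) Lrfl Lrfl
theorem f180491 : Led Lsl_bt (LP (LK LD1_c20 LD2_c20 LD3_c30)) = (LP (LK LD1_c11 LD2_c22 LD3_c46)) :=
  Lre_b IH (LK LD1_c20 LD2_c20 LD3_c30) (LK LD1_c11 LD2_c22 LD3_c46) Lrfl Lrfl
theorem f180504 : Led Lsl_dt (LP (LK LD1_c18 LD2_c21 LD3_c34)) = (LP (LK LD1_c20 LD2_c20 LD3_c30)) :=
  Lgr Lrot79 (Lpe (f180503 IH) (Lpr_df (K56.f180482 IH) (Lpe (f180491 IH) (Lpn (LP (LK LD1_c20 LD2_c20 LD3_c30))))))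
theorem f180510 : Led Lsl_et (LP (LK LD1_c10 LD2_c3 LD3_c3)) = (LP (LK LD1_c18 LD2_c21 LD3_c34)) :=
  Lre_e IH (LK LD1_c10 LD2_c3 LD3_c3) (LK LD1_c18 LD2_c21 LD3_c34) Lrfl Lrfl
theorem f180511 : Led Lsl_et (LP (LK LD1_c20 LD2_c20 LD3_c30)) = (LP (LK LD1_c11 LD2_c22 LD3_c39)) :=
  Lre_e IH (LK LD1_c20 LD2_c20 LD3_c30) (LK LD1_c11 LD2_c22 LD3_c39) Lrfl Lrfl
theorem f180512 : Led Lsl_dt (LP (LK LD1_c11 LD2_c22 LD3_c39)) = (LP (LK LD1_c5 LD2_c46 LD3_c10)) :=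
  Lre_d IH (LK LD1_c11 LD2_c22 LD3_c39) (LK LD1_c5 LD2_c46 LD3_c10) Lrfl Lrfl
theorem f180513 : Led Lsl_et (LP (LK LD1_c5 LD2_c46 LD3_c10)) = (LP (LK LD1_c11 LD2_c22 LD3_c40)) :=
  Lre_e IH (LK LD1_c5 LD2_c46 LD3_c10) (LK LD1_c11 LD2_c22 LD3_c40) Lrfl Lrfl
theorem f180514 : Led Lsl_df (LP (LK LD1_c10 LD2_c3 LD3_c3)) = (LP (LK LD1_c11 LD2_c22 LD3_c40)) :=
  Lgr Lrot70 (Lpr_et (f180510 IH) (Lpr_dt (f180504 IH) (Lpr_et (f180511 IH) (Lpr_dt (f180512 IH) (Lpr_et (f180513 IH) (Lpn (LP (LK LD1_c11 LD2_c22 LD3_c40))))))))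
theorem f180524 : Led Lsl_et (LP (LK LD1_c11 LD2_c22 LD3_c40)) = (LP (LK LD1_c5 LD2_c46 LD3_c10)) :=
  Lre_e IH (LK LD1_c11 LD2_c22 LD3_c40) (LK LD1_c5 LD2_c46 LD3_c10) Lrfl Lrfl
theorem f740672 : Led Lsl_af (LP (LK LD1_c11 LD2_c6 LD3_c25)) = (LP (LK LD1_c11 LD2_c13 LD3_c54)) :=
  Lgr Lrot45 (Lpr_ft (f645823 IH) (Lpe (f740655 IH) (Lpr_ft (K72.f740670 IH) (Lpn (LP (LK LD1_c11 LD2_c13 LD3_c54))))))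
theorem f740676 : Led Lsl_gt (LP (LK LD1_c16 LD2_c53 LD3_c8)) = (LP (LK LD1_c11 LD2_c13 LD3_c56)) :=
  Lgr Lrot5 (Lpr_ft (K72.f740670 IH) (Lpe (f740672 IH) (Lpe (f740661 IH) (Lpn (LP (LK LD1_c11 LD2_c13 LD3_c56))))))
theorem f645887 : Led Lsl_df (LP (LK LD1_c2 LD2_c57 LD3_c30)) = K54.v5088 :=
  Lgr Lrot38 (Lpr_dt (K54.f645886 IH) (Lpn K54.v5088))
def v5090 : LQ := Led Lsl_ft (LP (LK LD1_c2 LD2_c57 LD3_c30))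
theorem f645891 : Led Lsl_ft (LP (LK LD1_c2 LD2_c57 LD3_c30)) = v5090 :=
  Lrfl
theorem f645893 : Led Lsl_ff (LP (LK LD1_c2 LD2_c57 LD3_c30)) = v5090 :=
  Lgr Lrot3 (Lpr_ft (f645891 IH) (Lpn v5090))
def v5086 : LQ := Led Lsl_at (LP (LK LD1_c2 LD2_c57 LD3_c30))
theorem f645880 : Led Lsl_at (LP (LK LD1_c2 LD2_c57 LD3_c30)) = v5086 :=
  Lrfl
theorem f645881 : Led Lsl_af (LP (LK LD1_c2 LD2_c57 LD3_c30)) = v5086 :=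
  Lgr Lrot0 (Lpr_at (f645880 IH) (Lpn v5086))
theorem f645882 : Led Lsl_ft K54.v1714 = v5086 :=
  Lgr Lrot2 (Lpe (K54.f500996 IH) (Lpr_gt (K54.f140715 IH) (Lpr_af (f645881 IH) (Lpn v5086))))
theorem f645883 : Led Lsl_ff K54.v1714 = v5086 :=
  Lgr Lrot3 (Lpr_ft (f645882 IH) (Lpn v5086))
theorem f645894 : Led Lsl_at K54.v1714 = v5090 :=
  Lgr Lrot66 (Lpr_ff (f645883 IH) (Lpe (f645880 IH) (Lpr_ff (f645893 IH) (Lpn v5090))))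
theorem f739231 : v5090 = (LP (LK LD1_c4 LD2_c35 LD3_c50)) :=
  Lefun (Lecon (f645894 IH) (K54.f739226 IH)) (Lfl_af (K53.f149112 IH))
theorem f739344 : Led Lsl_ff (LP (LK LD1_c9 LD2_c2 LD3_c25)) = (LP (LK LD1_c5 LD2_c45 LD3_c49)) :=
  Lgr Lrot19 (Lpe (K54.f614364 IH) (Lpq (f739231 IH) (Lpe (f645893 IH) (Lpr_dt (K54.f645886 IH) (Lpqs (K54.f739339 IH) (Lpn (LP (LK LD1_c5 LD2_c45 LD3_c49))))))))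
theorem f739720 : Led Lsl_ft (LP (LK LD1_c9 LD2_c2 LD3_c25)) = (LP (LK LD1_c5 LD2_c45 LD3_c49)) :=
  Lgr Lrot48 (Lpr_ff (f739344 IH) (Lpn (LP (LK LD1_c5 LD2_c45 LD3_c49))))
theorem f423294 : Led Lsl_ft (LP (LK LD1_c2 LD2_c46 LD3_c44)) = (LP (LK LD1_c4 LD2_c32 LD3_c23)) :=
  Lgr Lrot75 (Lpe (K71.f411980 IH) (Lpr_ff (K31.f423292 IH) (Lpe (K31.f181273 IH) (Lpn (LP (LK LD1_c4 LD2_c32 LD3_c23))))))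
theorem f739724 : Led Lsl_ef (LP (LK LD1_c11 LD2_c13 LD3_c2)) = (LP (LK LD1_c5 LD2_c45 LD3_c49)) :=
  Lgr Lrot21 (Lpr_ft (f423381 IH) (Lpr_et (K69.f411982 IH) (Lpr_ft (f423294 IH) (Lpr_et (K38.f181289 IH) (Lpr_ft (f739720 IH) (Lpn (LP (LK LD1_c5 LD2_c45 LD3_c49))))))))
theorem f953363 : v15768 = (LP (LK LD1_c11 LD2_c13 LD3_c2)) :=
  (Llr Lrot131 (Lpe (f741451 IH) (Lpe (f180524 IH) (Lpe (f180514 IH) (Lpe (f180519 IH) (Lpr_df (f953353 IH) (Lpe (f740676 IH) (Lpr_ef (K72.f740647 IH) (Lpr_dt (K53.f645755 IH) (Lpr_gf (K54.f645806 IH) (Lpr_df (f645887 IH) (Lpqs (K54.f739339 IH) (Lpe (f739724 IH) (Lpn (LP (LK LD1_c11 LD2_c13 LD3_c2)))))))))))))))).symm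
theorem f953367 : (LP (LK LD1_c5 LD2_c46 LD3_c10)) = v37940 :=
  Lefun (Lecon (Lfl_gt (f741451 IH)) (f953363 IH)) (f898152 IH)
theorem f953371 : v16205 = (LP (LK LD1_c10 LD2_c3 LD3_c3)) :=
  (Llr Lrot145 (Lpe (f747020 IH) (Lpe (f553771 IH) (Lpr_et (f412024 IH) (Lpe (K39.f412020 IH) (Lpr_dt (K16.f269086 IH) (Lpr_gt (K30.f411656 IH) (Lpe (K30.f174587 IH) (Lpr_et (f411662 IH) (Lpr_gt (f898151 IH) (Lpq (f953367 IH) (Lpe (f180524 IH) (Lpe (f180514 IH) (Lpn (LP (LK LD1_c10 LD2_c3 LD3_c3)))))))))))))))).symm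
theorem f180518 : Led Lsl_et (LP (LK LD1_c18 LD2_c21 LD3_c34)) = (LP (LK LD1_c10 LD2_c3 LD3_c3)) :=
  Lre_e IH (LK LD1_c18 LD2_c21 LD3_c34) (LK LD1_c10 LD2_c3 LD3_c3) Lrfl Lrfl
theorem f953423 : Led Lsl_gt (LP (LK LD1_c12 LD2_c55 LD3_c29)) = (LP (LK LD1_c20 LD2_c20 LD3_c30)) :=
  Lgr Lrot139 (Lpr_df (f853570 IH) (Lpe (f853572 IH) (Lpe (f186270 IH) (Lpe (f186268 IH) (Lpr_gf (K39.f553777 IH) (Lpr_df (f548424 IH) (Lpr_et (f553783 IH) (Lpr_gf (f747020 IH) (Lpqs (f953371 IH) (Lpe (f180518 IH) (Lpr_dt (f180504 IH) (Lpn (LP (LK LD1_c20 LD2_c20 LD3_c30))))))))))))))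
theorem f953424 : Led Lsl_gt (LP (LK LD1_c12 LD2_c55 LD3_c29)) = (LP (LK LD1_c20 LD2_c20 LD3_c30)) :=
  Leop (Lpe (f953423 IH) (Lpn (LP (LK LD1_c12 LD2_c55 LD3_c29))))
theorem seed_2753 : LEOK LG_g (LK LD1_c12 LD2_c55 LD3_c29) :=
  Leoe_g (LK LD1_c12 LD2_c55 LD3_c29) (f953424 IH)
def v46416 : LQ := Led Lsl_et (LP (LK LD1_c11 LD2_c6 LD3_c30))
theorem f953451 : Led Lsl_et (LP (LK LD1_c11 LD2_c6 LD3_c30)) = v46416 :=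
  Lrfl
theorem f953453 : Led Lsl_ef (LP (LK LD1_c11 LD2_c6 LD3_c30)) = v46416 :=
  Lgr Lrot88 (Lpr_et (f953451 IH) (Lpn v46416))
theorem f74654 : Led Lsl_et (LP (LK LD1_c5 LD2_c44 LD3_c60)) = (LP (LK LD1_c2 LD2_c48 LD3_c17)) :=
  Lre_e IH (LK LD1_c5 LD2_c44 LD3_c60) (LK LD1_c2 LD2_c48 LD3_c17) Lrfl Lrfl
theorem f74655 : Led Lsl_dt (LP (LK LD1_c5 LD2_c44 LD3_c60)) = (LP (LK LD1_c9 LD2_c31 LD3_c10)) :=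
  Lre_d IH (LK LD1_c5 LD2_c44 LD3_c60) (LK LD1_c9 LD2_c31 LD3_c10) Lrfl Lrfl
theorem f9297 : Led Lsl_gt (LP (LK LD1_c9 LD2_c31 LD3_c10)) = (LP (LK LD1_c17 LD2_c32 LD3_c60)) :=
  Lre_g IH (LK LD1_c9 LD2_c31 LD3_c10) (LK LD1_c17 LD2_c32 LD3_c60) Lrfl Lrfl
theorem f953455 : Led Lsl_df (LP (LK LD1_c17 LD2_c32 LD3_c60)) = v46416 :=
  Lgr Lrot168 (Lpe (f9297 IH) (Lpe (f74655 IH) (Lpr_et (f74654 IH) (Lpe (K51.f384010 IH) (Lpe (K51.f382411 IH) (Lpe (K51.f618030 IH) (Lpe (K51.f496728 IH) (Lpr_df (K51.f618039 IH) (Lpr_gf (K57.f381352 IH) (Lpr_ef (f953453 IH) (Lpn v46416)))))))))))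
def v38900 : LQ := Led Lsl_et (LP (LK LD1_c9 LD2_c17 LD3_c14))
theorem f905229 : Led Lsl_et (LP (LK LD1_c9 LD2_c17 LD3_c14)) = v38900 :=
  Lrfl
theorem f953454 : Led Lsl_bt v38900 = v46416 :=
  Lgr Lrot119 (Lpe (f905229 IH) (Lpr_bf (K52.f706004 IH) (Lpr_ef (f953453 IH) (Lpn v46416))))
theorem f905230 : Led Lsl_ef (LP (LK LD1_c9 LD2_c17 LD3_c14)) = v38900 :=
  Lgr Lrot88 (Lpr_et (f905229 IH) (Lpn v38900))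
theorem f68908 : Led Lsl_et (LP (LK LD1_c3 LD2_c0 LD3_c45)) = (LP (LK LD1_c4 LD2_c40 LD3_c53)) :=
  Lre_e IH (LK LD1_c3 LD2_c0 LD3_c45) (LK LD1_c4 LD2_c40 LD3_c53) Lrfl Lrfl
theorem f424047 : Led Lsl_et (LP (LK LD1_c11 LD2_c15 LD3_c12)) = (LP (LK LD1_c5 LD2_c42 LD3_c30)) :=
  Lre_e IH (LK LD1_c11 LD2_c15 LD3_c12) (LK LD1_c5 LD2_c42 LD3_c30) Lrfl Lrfl
theorem f905231 : Led Lsl_df (LP (LK LD1_c11 LD2_c42 LD3_c56)) = v38900 :=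
  Lgr Lrot170 (Lpr_gt (K69.f561194 IH) (Lpe (K43.f561192 IH) (Lpr_et (f424047 IH) (Lpe (K40.f558406 IH) (Lpr_dt (K40.f80294 IH) (Lpr_gt (K40.f73176 IH) (Lpe (K37.f68883 IH) (Lpr_et (f68908 IH) (Lpr_gt (K52.f414418 IH) (Lpr_ef (f905230 IH) (Lpn v38900)))))))))))
theorem f905232 : Led Lsl_dt (LP (LK LD1_c11 LD2_c42 LD3_c56)) = v38900 :=
  Lgr Lrot42 (Lpr_df (f905231 IH) (Lpn v38900))
theorem f953456 : Led Lsl_bt (LP (LK LD1_c17 LD2_c32 LD3_c60)) = (LP (LK LD1_c11 LD2_c42 LD3_c56)) :=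
  Lgr Lrot95 (Lpr_df (f953455 IH) (Lpe (f953454 IH) (Lpe (f905232 IH) (Lpn (LP (LK LD1_c11 LD2_c42 LD3_c56))))))
theorem f953457 : Led Lsl_bt (LP (LK LD1_c17 LD2_c32 LD3_c60)) = (LP (LK LD1_c11 LD2_c42 LD3_c56)) :=
  Leop (Lpe (f953456 IH) (Lpn (LP (LK LD1_c17 LD2_c32 LD3_c60))))
theorem seed_2754 : LEOK LG_b (LK LD1_c17 LD2_c32 LD3_c60) :=
  Leoe_b (LK LD1_c17 LD2_c32 LD3_c60) (f953457 IH)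
def v46430 : LQ := Led Lsl_gt (LP (LK LD1_c11 LD2_c6 LD3_c51))
theorem f953563 : Led Lsl_gt (LP (LK LD1_c11 LD2_c6 LD3_c51)) = v46430 :=
  Lrfl
theorem f387041 : Led Lsl_bt (LP (LK LD1_c20 LD2_c0 LD3_c9)) = (LP (LK LD1_c11 LD2_c6 LD3_c51)) :=
  Lre_b IH (LK LD1_c20 LD2_c0 LD3_c9) (LK LD1_c11 LD2_c6 LD3_c51) Lrfl Lrfl
theorem f387031 : Led Lsl_bt (LP (LK LD1_c11 LD2_c6 LD3_c52)) = (LP (LK LD1_c8 LD2_c43 LD3_c61)) :=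
  Lgr Lrot35 (Lpe (K69.f387019 IH) (Lpr_bf (K69.f387027 IH) (Lpe (K32.f269594 IH) (Lpn (LP (LK LD1_c8 LD2_c43 LD3_c61))))))
theorem f387033 : Led Lsl_bf (LP (LK LD1_c11 LD2_c6 LD3_c52)) = (LP (LK LD1_c8 LD2_c43 LD3_c61)) :=
  Lgr Lrot24 (Lpr_bt (f387031 IH) (Lpn (LP (LK LD1_c8 LD2_c43 LD3_c61))))
theorem f387038 : Led Lsl_bt (LP (LK LD1_c5 LD2_c37 LD3_c43)) = (LP (LK LD1_c4 LD2_c23 LD3_c8)) :=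
  Lgr Lrot119 (Lpe (K69.f387018 IH) (Lpr_bf (f387033 IH) (Lpe (K32.f269593 IH) (Lpn (LP (LK LD1_c4 LD2_c23 LD3_c8))))))
theorem f386972 : Led Lsl_ct (LP (LK LD1_c11 LD2_c6 LD3_c51)) = (LP (LK LD1_c5 LD2_c37 LD3_c43)) :=
  Lre_c IH (LK LD1_c11 LD2_c6 LD3_c51) (LK LD1_c5 LD2_c37 LD3_c43) Lrfl Lrfl
theorem f387042 : Led Lsl_cf (LP (LK LD1_c20 LD2_c0 LD3_c9)) = (LP (LK LD1_c15 LD2_c19 LD3_c6)) :=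
  Lgr Lrot97 (Lpr_bt (f387041 IH) (Lpr_ct (f386972 IH) (Lpr_bt (f387038 IH) (Lpr_ct (K13.f237694 IH) (Lpr_bt (K38.f237701 IH) (Lpn (LP (LK LD1_c15 LD2_c19 LD3_c6))))))))
theorem f387044 : Led Lsl_ct (LP (LK LD1_c20 LD2_c0 LD3_c9)) = (LP (LK LD1_c15 LD2_c19 LD3_c6)) :=
  Lgr Lrot59 (Lpr_cf (f387042 IH) (Lpn (LP (LK LD1_c15 LD2_c19 LD3_c6))))
theorem f39731 : Led Lsl_ct (LP (LK LD1_c16 LD2_c18 LD3_c8)) = (LP (LK LD1_c8 LD2_c42 LD3_c9)) :=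
  Lre_c IH (LK LD1_c16 LD2_c18 LD3_c8) (LK LD1_c8 LD2_c42 LD3_c9) Lrfl Lrfl
theorem f387011 : Led Lsl_ct (LP (LK LD1_c5 LD2_c37 LD3_c43)) = (LP (LK LD1_c11 LD2_c6 LD3_c51)) :=
  Lre_c IH (LK LD1_c5 LD2_c37 LD3_c43) (LK LD1_c11 LD2_c6 LD3_c51) Lrfl Lrfl
theorem f40720 : Led Lsl_at (LP (LK LD1_c0 LD2_c54 LD3_c58)) = (LP (LK LD1_c1 LD2_c56 LD3_c16)) :=
  Lre_a IH (LK LD1_c0 LD2_c54 LD3_c58) (LK LD1_c1 LD2_c56 LD3_c16) Lrfl Lrfl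
theorem f101548 : Led Lsl_ft (LP (LK LD1_c1 LD2_c56 LD3_c18)) = (LP (LK LD1_c0 LD2_c54 LD3_c58)) :=
  Lre_f IH (LK LD1_c1 LD2_c56 LD3_c18) (LK LD1_c0 LD2_c54 LD3_c58) Lrfl Lrfl
theorem f571865 : Led Lsl_gf (LP (LK LD1_c3 LD2_c59 LD3_c0)) = (LP (LK LD1_c1 LD2_c56 LD3_c18)) :=
  Lgr Lrot47 (Lpr_gt (K42.f571863 IH) (Lpe (f40720 IH) (Lpe (f101548 IH) (Lpn (LP (LK LD1_c1 LD2_c56 LD3_c18))))))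
theorem f571857 : Led Lsl_ct (LP (LK LD1_c3 LD2_c59 LD3_c0)) = (LP (LK LD1_c7 LD2_c59 LD3_c16)) :=
  Lre_c IH (LK LD1_c3 LD2_c59 LD3_c0) (LK LD1_c7 LD2_c59 LD3_c16) Lrfl Lrfl
theorem f953564 : Led Lsl_cf (LP (LK LD1_c12 LD2_c9 LD3_c14)) = v46430 :=
  Lgr Lrot99 (Lpe (K45.f575925 IH) (Lpe (f571857 IH) (Lpr_gf (f571865 IH) (Lpe (K38.f39210 IH) (Lpr_gf (K31.f174892 IH) (Lpe (K39.f174900 IH) (Lpe (K43.f557065 IH) (Lpr_ct (f387011 IH) (Lpr_gt (f953563 IH) (Lpn v46430))))))))))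
theorem f953565 : Led Lsl_bt (LP (LK LD1_c16 LD2_c18 LD3_c8)) = (LP (LK LD1_c19 LD2_c21 LD3_c6)) :=
  Lgr Lrot92 (Lpr_ct (f39731 IH) (Lpr_gt (K38.f550792 IH) (Lpe (f387044 IH) (Lpr_bt (f387041 IH) (Lpr_gt (f953563 IH) (Lpe (f953564 IH) (Lpr_gt (K45.f133052 IH) (Lpe (K51.f589077 IH) (Lpr_bt (K51.f384845 IH) (Lpr_gt (K31.f246538 IH) (Lpn (LP (LK LD1_c19 LD2_c21 LD3_c6)))))))))))))
theorem f953566 : Led Lsl_bt (LP (LK LD1_c16 LD2_c18 LD3_c8)) = (LP (LK LD1_c19 LD2_c21 LD3_c6)) :=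
  Leop (Lpe (f953565 IH) (Lpn (LP (LK LD1_c16 LD2_c18 LD3_c8))))
theorem seed_2755 : LEOK LG_b (LK LD1_c16 LD2_c18 LD3_c8) :=
  Leoe_b (LK LD1_c16 LD2_c18 LD3_c8) (f953566 IH)
def v46450 : LQ := Led Lsl_gt (LP (LK LD1_c11 LD2_c7 LD3_c11))
theorem f953689 : Led Lsl_gt (LP (LK LD1_c11 LD2_c7 LD3_c11)) = v46450 :=
  Lrfl
theorem f279557 : Led Lsl_bt (LP (LK LD1_c11 LD2_c3 LD3_c37)) = (LP (LK LD1_c5 LD2_c35 LD3_c42)) :=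
  Lre_b IH (LK LD1_c11 LD2_c3 LD3_c37) (LK LD1_c5 LD2_c35 LD3_c42) Lrfl Lrfl
theorem f177986 : Led Lsl_ct (LP (LK LD1_c19 LD2_c55 LD3_c55)) = (LP (LK LD1_c11 LD2_c3 LD3_c37)) :=
  Lre_c IH (LK LD1_c19 LD2_c55 LD3_c55) (LK LD1_c11 LD2_c3 LD3_c37) Lrfl Lrfl
theorem f953691 : Led Lsl_df (LP (LK LD1_c19 LD2_c55 LD3_c55)) = v46450 :=
  Lgr Lrot183 (Lpr_ct (f177986 IH) (Lpr_bt (f279557 IH) (Lpe (K19.f279610 IH) (Lpr_dt (K19.f168968 IH) (Lpr_ct (K19.f168967 IH) (Lpr_bt (K19.f41082 IH) (Lpr_gt (K9.f28238 IH) (Lpr_dt (K1.f40993 IH) (Lpr_ct (K1.f40780 IH) (Lpr_bt (K9.f43100 IH) (Lpr_gt (K0.f7880 IH) (Lpr_dt (K0.f3071 IH) (Lpr_ct (K9.f164709 IH) (Lpr_bt (K31.f177842 IH) (Lpr_gt (K38.f211848 IH) (Lpr_dt (K52.f279616 IH) (Lpr_ct (K40.f279617 IH) (Lpr_bt (K43.f279618 IH) (Lpr_gt (f953689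 IH) (Lpn v46450))))))))))))))))))))
theorem f178036 : Led Lsl_at (LP (LK LD1_c19 LD2_c55 LD3_c55)) = (LP (LK LD1_c29 LD2_c11 LD3_c39)) :=
  Lre_a IH (LK LD1_c19 LD2_c55 LD3_c55) (LK LD1_c29 LD2_c11 LD3_c39) Lrfl Lrfl
theorem f235823 : Led Lsl_dt (LP (LK LD1_c5 LD2_c27 LD3_c37)) = (LP (LK LD1_c10 LD2_c46 LD3_c20)) :=
  Lre_d IH (LK LD1_c5 LD2_c27 LD3_c37) (LK LD1_c10 LD2_c46 LD3_c20) Lrfl Lrfl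
theorem f323123 : Led Lsl_ff (LP (LK LD1_c8 LD2_c56 LD3_c26)) = (LP (LK LD1_c5 LD2_c27 LD3_c37)) :=
  Lgr Lrot25 (Lpr_bt (K30.f177944 IH) (Lpr_ft (K20.f323121 IH) (Lpr_bt (K30.f235922 IH) (Lpn (LP (LK LD1_c5 LD2_c27 LD3_c37))))))
theorem f178032 : Led Lsl_at (LP (LK LD1_c8 LD2_c56 LD3_c26)) = (LP (LK LD1_c16 LD2_c44 LD3_c9)) :=
  Lre_a IH (LK LD1_c8 LD2_c56 LD3_c26) (LK LD1_c16 LD2_c44 LD3_c9) Lrfl Lrfl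
theorem f177969 : Led Lsl_at (LP (LK LD1_c5 LD2_c35 LD3_c41)) = (LP (LK LD1_c11 LD2_c3 LD3_c36)) :=
  Lre_a IH (LK LD1_c5 LD2_c35 LD3_c41) (LK LD1_c11 LD2_c3 LD3_c36) Lrfl Lrfl
theorem f177970 : Led Lsl_cf (LP (LK LD1_c16 LD2_c44 LD3_c9)) = (LP (LK LD1_c11 LD2_c3 LD3_c36)) :=
  Lgr Lrot1 (Lpr_at (K31.f177968 IH) (Lpr_ct (K22.f177963 IH) (Lpr_at (f177969 IH) (Lpn (LP (LK LD1_c11 LD2_c3 LD3_c36))))))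
theorem f178037 : Led Lsl_dt (LP (LK LD1_c19 LD2_c55 LD3_c51)) = (LP (LK LD1_c11 LD2_c3 LD3_c36)) :=
  Lre_d IH (LK LD1_c19 LD2_c55 LD3_c51) (LK LD1_c11 LD2_c3 LD3_c36) Lrfl Lrfl
theorem f178038 : Led Lsl_ct (LP (LK LD1_c29 LD2_c11 LD3_c39)) = (LP (LK LD1_c19 LD2_c55 LD3_c51)) :=
  Lre_c IH (LK LD1_c29 LD2_c11 LD3_c39) (LK LD1_c19 LD2_c55 LD3_c51) Lrfl Lrfl
theorem f418691 : Led Lsl_df (LP (LK LD1_c29 LD2_c11 LD3_c39)) = (LP (LK LD1_c20 LD2_c6 LD3_c1)) :=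
  Lgr Lrot13 (Lpr_ct (f178038 IH) (Lpr_dt (f178037 IH) (Lpe (f177970 IH) (Lpe (f178032 IH) (Lpr_ff (f323123 IH) (Lpr_dt (f235823 IH) (Lpr_ct (K38.f235824 IH) (Lpr_dt (K51.f235825 IH) (Lpr_ct (K51.f418687 IH) (Lpn (LP (LK LD1_c20 LD2_c6 LD3_c1))))))))))))
theorem f418706 : Led Lsl_dt (LP (LK LD1_c29 LD2_c11 LD3_c39)) = (LP (LK LD1_c20 LD2_c6 LD3_c1)) :=
  Lgr Lrot42 (Lpr_df (f418691 IH) (Lpn (LP (LK LD1_c20 LD2_c6 LD3_c1))))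
theorem f953692 : Led Lsl_at (LP (LK LD1_c20 LD2_c6 LD3_c1)) = v46450 :=
  Lgr Lrot51 (Lpe (f418706 IH) (Lpe (f178036 IH) (Lpr_df (f953691 IH) (Lpn v46450))))
theorem f561357 : Led Lsl_gt (LP (LK LD1_c20 LD2_c0 LD3_c34)) = (LP (LK LD1_c11 LD2_c7 LD3_c11)) :=
  Lre_g IH (LK LD1_c20 LD2_c0 LD3_c34) (LK LD1_c11 LD2_c7 LD3_c11) Lrfl Lrfl
theorem f953697 : Led Lsl_ff (LP (LK LD1_c20 LD2_c6 LD3_c1)) = (LP (LK LD1_c20 LD2_c0 LD3_c34)) :=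
  Lgr Lrot52 (Lpr_at (f953692 IH) (Lpe (f953689 IH) (Lpe (f561357 IH) (Lpn (LP (LK LD1_c20 LD2_c0 LD3_c34))))))
theorem f953698 : Led Lsl_ft (LP (LK LD1_c20 LD2_c0 LD3_c34)) = (LP (LK LD1_c20 LD2_c6 LD3_c1)) :=
  Leop (Lpr_ff (f953697 IH) (Lpn (LP (LK LD1_c20 LD2_c0 LD3_c34))))
theorem seed_2756 : LEOK LG_f (LK LD1_c20 LD2_c0 LD3_c34) :=
  Leoe_f (LK LD1_c20 LD2_c0 LD3_c34) (f953698 IH)
theorem f337502 : Led Lsl_ft (LP (LK LD1_c19 LD2_c55 LD3_c55)) = (LP (LK LD1_c26 LD2_c47 LD3_c53)) :=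
  Lgr Lrot4 (Lpe (K31.f177975 IH) (Lpr_ff (K22.f337493 IH) (Lpe (K71.f235827 IH) (Lpn (LP (LK LD1_c26 LD2_c47 LD3_c53))))))
theorem f561479 : Led Lsl_dt (LP (LK LD1_c20 LD2_c6 LD3_c0)) = (LP (LK LD1_c26 LD2_c47 LD3_c53)) :=
  Lgr Lrot182 (Lpe (f380594 IH) (Lpe (K43.f380593 IH) (Lpe (K31.f380250 IH) (Lpr_df (K40.f561467 IH) (Lpqs (K38.f544926 IH) (Lpe (K38.f169115 IH) (Lpe (K31.f169119 IH) (Lpe (K9.f168834 IH) (Lpe (K9.f20593 IH) (Lpe (K0.f20232 IH) (Lpe (K9.f40811 IH) (Lpe (K9.f40750 IH) (Lpe (K9.f40751 IH) (Lpe (K9.f179510 IH) (Lpe (K13.f171296 IH) (Lpe (K16.f171306 IH) (Lpe (K19.f171305 IH) (Lpe (K20.f316874 IH) (Lpe (K22.f316876 IH) (Lpe (K71.f235827 IH) (Lpn (LP (LK LD1_c26 LD2_c47 LD3_c53)))))))))))))))))))))))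
theorem f561481 : Led Lsl_df (LP (LK LD1_c20 LD2_c6 LD3_c0)) = (LP (LK LD1_c26 LD2_c47 LD3_c53)) :=
  Lgr Lrot38 (Lpr_dt (f561479 IH) (Lpn (LP (LK LD1_c26 LD2_c47 LD3_c53))))
theorem f953694 : Led Lsl_ft (LP (LK LD1_c20 LD2_c6 LD3_c0)) = v46450 :=
  Lgr Lrot54 (Lpr_df (f561481 IH) (Lpe (f337502 IH) (Lpr_df (f953691 IH) (Lpn v46450))))
theorem f953695 : Led Lsl_ff (LP (LK LD1_c20 LD2_c6 LD3_c0)) = v46450 :=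
  Lgr Lrot3 (Lpr_ft (f953694 IH) (Lpn v46450))
theorem f953699 : Led Lsl_at (LP (LK LD1_c20 LD2_c6 LD3_c0)) = (LP (LK LD1_c20 LD2_c0 LD3_c34)) :=
  Lgr Lrot66 (Lpr_ff (f953695 IH) (Lpe (f953692 IH) (Lpr_ff (f953697 IH) (Lpn (LP (LK LD1_c20 LD2_c0 LD3_c34))))))
theorem f579240 : Led Lsl_ff (LP (LK LD1_c11 LD2_c11 LD3_c28)) = (LP (LK LD1_c11 LD2_c7 LD3_c11)) :=
  Lgr Lrot25 (Lpr_bt (K43.f382020 IH) (Lpr_ft (K43.f579238 IH) (Lpr_bt (K43.f279618 IH) (Lpn (LP (LK LD1_c11 LD2_c7 LD3_c11))))))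
theorem f418679 : Led Lsl_at (LP (LK LD1_c11 LD2_c11 LD3_c28)) = (LP (LK LD1_c20 LD2_c6 LD3_c2)) :=
  Lre_a IH (LK LD1_c11 LD2_c11 LD3_c28) (LK LD1_c20 LD2_c6 LD3_c2) Lrfl Lrfl
theorem f953690 : Led Lsl_gf (LP (LK LD1_c20 LD2_c6 LD3_c2)) = v46450 :=
  Lgr Lrot76 (Lpe (f418679 IH) (Lpr_ff (f579240 IH) (Lpr_gt (f953689 IH) (Lpn v46450))))
theorem f953721 : Led Lsl_gt (LP (LK LD1_c20 LD2_c6 LD3_c2)) = (LP (LK LD1_c20 LD2_c0 LD3_c34)) :=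
  Lgr Lrot46 (Lpr_gf (f953690 IH) (Lpe (f953695 IH) (Lpr_at (f953699 IH) (Lpn (LP (LK LD1_c20 LD2_c0 LD3_c34))))))
theorem f953722 : Led Lsl_gt (LP (LK LD1_c20 LD2_c6 LD3_c2)) = (LP (LK LD1_c20 LD2_c0 LD3_c34)) :=
  Leop (Lpe (f953721 IH) (Lpn (LP (LK LD1_c20 LD2_c6 LD3_c2))))
theorem seed_2757 : LEOK LG_g (LK LD1_c20 LD2_c6 LD3_c2) :=
  Leoe_g (LK LD1_c20 LD2_c6 LD3_c2) (f953722 IH)
def v46514 : LQ := Led Lsl_at (LP (LK LD1_c11 LD2_c7 LD3_c57))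
theorem f953970 : Led Lsl_at (LP (LK LD1_c11 LD2_c7 LD3_c57)) = v46514 :=
  Lrfl
def v15484 : LQ := Led Lsl_ft (LP (LK LD1_c5 LD2_c40 LD3_c33))
theorem f737715 : Led Lsl_ft (LP (LK LD1_c5 LD2_c40 LD3_c33)) = v15484 :=
  Lrfl
def v15481 : LQ := Led Lsl_at (LP (LK LD1_c5 LD2_c40 LD3_c33))
theorem f737705 : Led Lsl_at (LP (LK LD1_c5 LD2_c40 LD3_c33)) = v15481 :=
  Lrfl
theorem f737706 : Led Lsl_af (LP (LK LD1_c5 LD2_c40 LD3_c33)) = v15481 :=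
  Lgr Lrot0 (Lpr_at (f737705 IH) (Lpn v15481))
theorem f380497 : Led Lsl_gt (LP (LK LD1_c2 LD2_c46 LD3_c13)) = (LP (LK LD1_c5 LD2_c40 LD3_c33)) :=
  Lre_g IH (LK LD1_c2 LD2_c46 LD3_c13) (LK LD1_c5 LD2_c40 LD3_c33) Lrfl Lrfl
theorem f737708 : Led Lsl_ft (LP (LK LD1_c5 LD2_c40 LD3_c34)) = v15481 :=
  Lgr Lrot2 (Lpr_gt (K69.f380499 IH) (Lpr_gt (f380497 IH) (Lpr_af (f737706 IH) (Lpn v15481))))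
theorem f737716 : Led Lsl_af (LP (LK LD1_c5 LD2_c40 LD3_c34)) = v15484 :=
  Lgr Lrot45 (Lpr_ft (f737708 IH) (Lpe (f737706 IH) (Lpr_ft (f737715 IH) (Lpn v15484))))
theorem f953972 : Led Lsl_df v15484 = v46514 :=
  Lgr Lrot18 (Lpe (f737716 IH) (Lpe (K71.f613327 IH) (Lpr_at (f953970 IH) (Lpn v46514))))
theorem f737717 : Led Lsl_ff (LP (LK LD1_c5 LD2_c40 LD3_c33)) = v15484 :=
  Lgr Lrot3 (Lpr_ft (f737715 IH) (Lpn v15484))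
theorem f380515 : Led Lsl_dt (LP (LK LD1_c5 LD2_c40 LD3_c33)) = (LP (LK LD1_c11 LD2_c11 LD3_c50)) :=
  Lre_d IH (LK LD1_c5 LD2_c40 LD3_c33) (LK LD1_c11 LD2_c11 LD3_c50) Lrfl Lrfl
theorem f953976 : Led Lsl_ft (LP (LK LD1_c11 LD2_c11 LD3_c50)) = v46514 :=
  Lgr Lrot54 (Lpe (f380515 IH) (Lpr_ff (f737717 IH) (Lpr_df (f953972 IH) (Lpn v46514))))
def v15386 : LQ := Led Lsl_at (LP (LK LD1_c5 LD2_c38 LD3_c18))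
theorem f736056 : Led Lsl_at (LP (LK LD1_c5 LD2_c38 LD3_c18)) = v15386 :=
  Lrfl
theorem f736057 : Led Lsl_af (LP (LK LD1_c5 LD2_c38 LD3_c18)) = v15386 :=
  Lgr Lrot0 (Lpr_at (f736056 IH) (Lpn v15386))
theorem f953973 : Led Lsl_ef v15386 = v46514 :=
  Lgr Lrot20 (Lpe (f736057 IH) (Lpr_et (K71.f613329 IH) (Lpr_at (f953970 IH) (Lpn v46514))))
theorem f736061 : Led Lsl_ft (LP (LK LD1_c5 LD2_c38 LD3_c19)) = v15386 :=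
  Lgr Lrot2 (Lpr_gt (K38.f418727 IH) (Lpr_gt (K71.f418723 IH) (Lpr_af (f736057 IH) (Lpn v15386))))
theorem f736063 : Led Lsl_ff (LP (LK LD1_c5 LD2_c38 LD3_c19)) = v15386 :=
  Lgr Lrot3 (Lpr_ft (f736061 IH) (Lpn v15386))
theorem f638746 : Led Lsl_et (LP (LK LD1_c5 LD2_c38 LD3_c19)) = (LP (LK LD1_c11 LD2_c7 LD3_c61)) :=
  Lre_e IH (LK LD1_c5 LD2_c38 LD3_c19) (LK LD1_c11 LD2_c7 LD3_c61) Lrfl Lrfl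
theorem f736065 : Led Lsl_ft (LP (LK LD1_c11 LD2_c7 LD3_c61)) = (LP (LK LD1_c20 LD2_c1 LD3_c40)) :=
  Lre_f IH (LK LD1_c11 LD2_c7 LD3_c61) (LK LD1_c20 LD2_c1 LD3_c40) Lrfl Lrfl
theorem f953977 : Led Lsl_ef (LP (LK LD1_c11 LD2_c11 LD3_c50)) = (LP (LK LD1_c20 LD2_c1 LD3_c40)) :=
  Lgr Lrot21 (Lpr_ft (f953976 IH) (Lpe (f953973 IH) (Lpe (f736063 IH) (Lpr_et (f638746 IH) (Lpr_ft (f736065 IH) (Lpn (LP (LK LD1_c20 LD2_c1 LD3_c40))))))))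
theorem f953978 : Led Lsl_et (LP (LK LD1_c20 LD2_c1 LD3_c40)) = (LP (LK LD1_c11 LD2_c11 LD3_c50)) :=
  Leop (Lpr_ef (f953977 IH) (Lpn (LP (LK LD1_c20 LD2_c1 LD3_c40))))
theorem seed_2758 : LEOK LG_e (LK LD1_c20 LD2_c1 LD3_c40) :=
  Leoe_e (LK LD1_c20 LD2_c1 LD3_c40) (f953978 IH)
def v46559 : LQ := Led Lsl_ct (LP (LK LD1_c11 LD2_c8 LD3_c34))
theorem f954181 : Led Lsl_ct (LP (LK LD1_c11 LD2_c8 LD3_c34)) = v46559 :=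
  Lrfl
theorem f210504 : Led Lsl_gt (LP (LK LD1_c11 LD2_c8 LD3_c34)) = (LP (LK LD1_c5 LD2_c38 LD3_c48)) :=
  Lre_g IH (LK LD1_c11 LD2_c8 LD3_c34) (LK LD1_c5 LD2_c38 LD3_c48) Lrfl Lrfl
theorem f616082 : Led Lsl_gt (LP (LK LD1_c10 LD2_c18 LD3_c28)) = (LP (LK LD1_c11 LD2_c8 LD3_c34)) :=
  Lgr Lrot5 (Lpr_ft (K53.f616079 IH) (Lpr_at (K53.f616066 IH) (Lpe (f210504 IH) (Lpn (LP (LK LD1_c11 LD2_c8 LD3_c34))))))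
def v15883 : LQ := Led Lsl_ct (LP (LK LD1_c5 LD2_c49 LD3_c25))
theorem f744071 : Led Lsl_ct (LP (LK LD1_c5 LD2_c49 LD3_c25)) = v15883 :=
  Lrfl
def v24608 : LQ := Led Lsl_ct K73.v4856
theorem f824769 : Led Lsl_ct K73.v4856 = v24608 :=
  Lrfl
theorem f824770 : Led Lsl_cf K73.v4856 = v24608 :=
  Lgr Lrot11 (Lpr_ct (f824769 IH) (Lpn v24608))
theorem f899633 : Led Lsl_ff v24608 = K73.v38158 :=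
  Lgr Lrot23 (Lpe (f824770 IH) (Lpr_ft (K73.f744067 IH) (Lpq (K67.f881597 IH) (Lpr_ct (K73.f899630 IH) (Lpn K73.v38158)))))
theorem f899634 : Led Lsl_ft v24608 = K73.v38158 :=
  Lgr Lrot48 (Lpr_ff (f899633 IH) (Lpn K73.v38158))
theorem f744072 : Led Lsl_cf (LP (LK LD1_c5 LD2_c49 LD3_c25)) = v15883 :=
  Lgr Lrot11 (Lpr_ct (f744071 IH) (Lpn v15883))
theorem f899631 : Led Lsl_af v15883 = K73.v38158 :=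
  Lgr Lrot68 (Lpe (f744072 IH) (Lpr_at (K67.f744065 IH) (Lpq (K67.f881597 IH) (Lpr_ct (K73.f899630 IH) (Lpn K73.v38158)))))
theorem f68885 : Led Lsl_bt (LP (LK LD1_c5 LD2_c42 LD3_c22)) = (LP (LK LD1_c11 LD2_c14 LD3_c55)) :=
  Lre_b IH (LK LD1_c5 LD2_c42 LD3_c22) (LK LD1_c11 LD2_c14 LD3_c55) Lrfl Lrfl
theorem f382106 : Led Lsl_et (LP (LK LD1_c11 LD2_c16 LD3_c49)) = (LP (LK LD1_c5 LD2_c43 LD3_c22)) :=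
  Lre_e IH (LK LD1_c11 LD2_c16 LD3_c49) (LK LD1_c5 LD2_c43 LD3_c22) Lrfl Lrfl
theorem f68882 : Led Lsl_et (LP (LK LD1_c5 LD2_c42 LD3_c21)) = (LP (LK LD1_c11 LD2_c14 LD3_c55)) :=
  Lre_e IH (LK LD1_c5 LD2_c42 LD3_c21) (LK LD1_c11 LD2_c14 LD3_c55) Lrfl Lrfl
theorem f561740 : Led Lsl_af (LP (LK LD1_c11 LD2_c16 LD3_c49)) = (LP (LK LD1_c11 LD2_c14 LD3_c55)) :=
  Lgr Lrot50 (Lpr_et (f382106 IH) (Lpr_at (K40.f561734 IH) (Lpr_et (f68882 IH) (Lpn (LP (LK LD1_c11 LD2_c14 LD3_c55))))))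
theorem f586854 : Led Lsl_bt (LP (LK LD1_c11 LD2_c16 LD3_c49)) = (LP (LK LD1_c9 LD2_c2 LD3_c4)) :=
  Lgr Lrot62 (Lpr_af (f561740 IH) (Lpe (f68885 IH) (Lpr_af (K56.f68822 IH) (Lpr_bf (K40.f561884 IH) (Lpr_af (K45.f586850 IH) (Lpn (LP (LK LD1_c9 LD2_c2 LD3_c4))))))))
theorem f559481 : Led Lsl_et (LP (LK LD1_c5 LD2_c57 LD3_c46)) = (LP (LK LD1_c11 LD2_c40 LD3_c25)) :=
  Lre_e IH (LK LD1_c5 LD2_c57 LD3_c46) (LK LD1_c11 LD2_c40 LD3_c25) Lrfl Lrfl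
theorem f561726 : Led Lsl_df (LP (LK LD1_c11 LD2_c16 LD3_c49)) = (LP (LK LD1_c11 LD2_c40 LD3_c25)) :=
  Lgr Lrot70 (Lpr_et (f382106 IH) (Lpr_dt (K40.f561720 IH) (Lpe (K40.f549641 IH) (Lpr_dt (K40.f559472 IH) (Lpr_et (f559481 IH) (Lpn (LP (LK LD1_c11 LD2_c40 LD3_c25))))))))
theorem f602436 : Led Lsl_bf (LP (LK LD1_c11 LD2_c40 LD3_c25)) = (LP (LK LD1_c16 LD2_c52 LD3_c11)) :=
  Lgr Lrot93 (Lpe (f561726 IH) (Lpr_bt (f586854 IH) (Lpr_dt (K45.f281919 IH) (Lpn (LP (LK LD1_c16 LD2_c52 LD3_c11))))))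
theorem f559474 : Led Lsl_et (LP (LK LD1_c11 LD2_c40 LD3_c25)) = (LP (LK LD1_c5 LD2_c57 LD3_c46)) :=
  Lre_e IH (LK LD1_c11 LD2_c40 LD3_c25) (LK LD1_c5 LD2_c57 LD3_c46) Lrfl Lrfl
theorem f559477 : Led Lsl_bf (LP (LK LD1_c9 LD2_c7 LD3_c21)) = (LP (LK LD1_c5 LD2_c57 LD3_c46)) :=
  Lgr Lrot93 (Lpr_dt (K43.f546519 IH) (Lpr_bt (K45.f56236 IH) (Lpr_dt (K40.f559472 IH) (Lpn (LP (LK LD1_c5 LD2_c57 LD3_c46))))))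
theorem f602443 : Led Lsl_et (LP (LK LD1_c9 LD2_c7 LD3_c21)) = (LP (LK LD1_c16 LD2_c52 LD3_c11)) :=
  Lgr Lrot74 (Lpr_bf (f559477 IH) (Lpe (f559474 IH) (Lpr_bf (f602436 IH) (Lpn (LP (LK LD1_c16 LD2_c52 LD3_c11))))))
theorem f186382 : Led Lsl_bt (LP (LK LD1_c6 LD2_c16 LD3_c45)) = (LP (LK LD1_c3 LD2_c5 LD3_c28)) :=
  Lre_b IH (LK LD1_c6 LD2_c16 LD3_c45) (LK LD1_c3 LD2_c5 LD3_c28) Lrfl Lrfl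
theorem f616518 : Led Lsl_df (LP (LK LD1_c6 LD2_c16 LD3_c45)) = (LP (LK LD1_c9 LD2_c7 LD3_c38)) :=
  Lgr Lrot12 (Lpr_bt (f186382 IH) (Lpe (K50.f186362 IH) (Lpr_bt (K72.f616514 IH) (Lpn (LP (LK LD1_c9 LD2_c7 LD3_c38))))))
def v17248 : LQ := Led Lsl_gf (LP (LK LD1_c6 LD2_c16 LD3_c45))
theorem f757947 : Led Lsl_gf (LP (LK LD1_c6 LD2_c16 LD3_c45)) = v17248 :=
  Lrfl
theorem f561839 : Led Lsl_bt (LP (LK LD1_c11 LD2_c15 LD3_c54)) = (LP (LK LD1_c6 LD2_c12 LD3_c17)) :=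
  Lgr Lrot119 (Lpr_ef (K40.f561837 IH) (Lpe (K53.f80011 IH) (Lpe (K16.f22926 IH) (Lpn (LP (LK LD1_c6 LD2_c12 LD3_c17))))))
theorem f561854 : Led Lsl_bt (LP (LK LD1_c9 LD2_c15 LD3_c19)) = (LP (LK LD1_c16 LD2_c59 LD3_c56)) :=
  Lgr Lrot95 (Lpe (K0.f9245 IH) (Lpe (f561839 IH) (Lpr_df (K40.f561851 IH) (Lpn (LP (LK LD1_c16 LD2_c59 LD3_c56))))))
theorem f288046 : Led Lsl_af (LP (LK LD1_c2 LD2_c34 LD3_c7)) = (LP (LK LD1_c2 LD2_c31 LD3_c18)) :=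
  Lgr Lrot117 (Lpr_dt (K12.f225453 IH) (Lpr_at (K17.f288040 IH) (Lpr_dt (K54.f165070 IH) (Lpn (LP (LK LD1_c2 LD2_c31 LD3_c18))))))
theorem f408400 : Led Lsl_cf (LP (LK LD1_c5 LD2_c10 LD3_c21)) = (LP (LK LD1_c2 LD2_c34 LD3_c7)) :=
  Lgr Lrot1 (Lpr_at (K54.f408396 IH) (Lpr_ct (K32.f177250 IH) (Lpe (f288046 IH) (Lpn (LP (LK LD1_c2 LD2_c34 LD3_c7))))))
theorem f721846 : Led Lsl_bt (LP (LK LD1_c5 LD2_c6 LD3_c0)) = (LP (LK LD1_c10 LD2_c2 LD3_c61)) :=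
  Lre_b IH (LK LD1_c5 LD2_c6 LD3_c0) (LK LD1_c10 LD2_c2 LD3_c61) Lrfl Lrfl
def v41858 : LQ := Led Lsl_gt (LP (LK LD1_c10 LD2_c2 LD3_c61))
theorem f929852 : Led Lsl_gt (LP (LK LD1_c10 LD2_c2 LD3_c61)) = v41858 :=
  Lrfl
theorem f931570 : (LP (LK LD1_c16 LD2_c59 LD3_c56)) = v41858 :=
  (Llr Lrot92 (Lpe (f561854 IH) (Lpr_ct (K0.f9131 IH) (Lpe (K53.f446624 IH) (Lpe (K53.f710825 IH) (Lpq (K73.f931506 IH) (Lpe (K73.f723960 IH) (Lpr_gt (K54.f194051 IH) (Lpe (f408400 IH) (Lpr_gt (K54.f722535 IH) (Lpq (K54.f731597 IH) (Lpe (K54.f164767 IH) (Lpr_bt (f721846 IH) (Lpr_gt (f929852 IH) (Lpn v41858))))))))))))))).symm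
theorem f741514 : Led Lsl_bt (LP (LK LD1_c18 LD2_c21 LD3_c29)) = (LP (LK LD1_c10 LD2_c3 LD3_c1)) :=
  Lre_b IH (LK LD1_c18 LD2_c21 LD3_c29) (LK LD1_c10 LD2_c3 LD3_c1) Lrfl Lrfl
theorem f408219 : Led Lsl_bt (LP (LK LD1_c9 LD2_c5 LD3_c17)) = (LP (LK LD1_c16 LD2_c57 LD3_c14)) :=
  Lre_b IH (LK LD1_c9 LD2_c5 LD3_c17) (LK LD1_c16 LD2_c57 LD3_c14) Lrfl Lrfl
theorem f824266 : Led Lsl_ff (LP (LK LD1_c18 LD2_c21 LD3_c29)) = (LP (LK LD1_c16 LD2_c57 LD3_c14)) :=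
  Lgr Lrot25 (Lpr_bt (f741514 IH) (Lpr_ft (K55.f741513 IH) (Lpqs (K64.f824231 IH) (Lpr_bt (f408219 IH) (Lpn (LP (LK LD1_c16 LD2_c57 LD3_c14)))))))
theorem f824268 : Led Lsl_dt (LP (LK LD1_c18 LD2_c21 LD3_c29)) = (LP (LK LD1_c10 LD2_c2 LD3_c61)) :=
  Lre_d IH (LK LD1_c18 LD2_c21 LD3_c29) (LK LD1_c10 LD2_c2 LD3_c61) Lrfl Lrfl
theorem f408201 : Led Lsl_bt (LP (LK LD1_c5 LD2_c12 LD3_c32)) = (LP (LK LD1_c10 LD2_c15 LD3_c31)) :=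
  Lre_b IH (LK LD1_c5 LD2_c12 LD3_c32) (LK LD1_c10 LD2_c15 LD3_c31) Lrfl Lrfl
theorem f408202 : Led Lsl_bt (LP (LK LD1_c16 LD2_c57 LD3_c14)) = (LP (LK LD1_c9 LD2_c5 LD3_c17)) :=
  Lre_b IH (LK LD1_c16 LD2_c57 LD3_c14) (LK LD1_c9 LD2_c5 LD3_c17) Lrfl Lrfl
theorem f408203 : Led Lsl_dt (LP (LK LD1_c10 LD2_c15 LD3_c31)) = (LP (LK LD1_c16 LD2_c57 LD3_c14)) :=
  Lgr Lrot79 (Lpe (f408201 IH) (Lpr_df (K50.f408195 IH) (Lpe (f408202 IH) (Lpn (LP (LK LD1_c16 LD2_c57 LD3_c14))))))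
theorem f824269 : Led Lsl_ft (LP (LK LD1_c10 LD2_c2 LD3_c61)) = (LP (LK LD1_c10 LD2_c15 LD3_c31)) :=
  Lgr Lrot54 (Lpe (f824268 IH) (Lpr_ff (f824266 IH) (Lpe (f408203 IH) (Lpn (LP (LK LD1_c10 LD2_c15 LD3_c31))))))
theorem f408222 : Led Lsl_at (LP (LK LD1_c10 LD2_c15 LD3_c31)) = (LP (LK LD1_c18 LD2_c39 LD3_c40)) :=
  Lre_a IH (LK LD1_c10 LD2_c15 LD3_c31) (LK LD1_c18 LD2_c39 LD3_c40) Lrfl Lrfl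
theorem f929853 : Led Lsl_gf (LP (LK LD1_c18 LD2_c39 LD3_c40)) = v41858 :=
  Lgr Lrot76 (Lpe (f408222 IH) (Lpe (f824269 IH) (Lpr_gt (f929852 IH) (Lpn v41858))))
def v41860 : LQ := Led Lsl_at (LP (LK LD1_c10 LD2_c2 LD3_c61))
theorem f929855 : Led Lsl_at (LP (LK LD1_c10 LD2_c2 LD3_c61)) = v41860 :=
  Lrfl
theorem f824271 : Led Lsl_ft (LP (LK LD1_c18 LD2_c21 LD3_c29)) = (LP (LK LD1_c16 LD2_c57 LD3_c14)) :=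
  Lgr Lrot48 (Lpr_ff (f824266 IH) (Lpn (LP (LK LD1_c16 LD2_c57 LD3_c14))))
theorem f824273 : Led Lsl_dt (LP (LK LD1_c10 LD2_c2 LD3_c61)) = (LP (LK LD1_c18 LD2_c21 LD3_c29)) :=
  Lre_d IH (LK LD1_c10 LD2_c2 LD3_c61) (LK LD1_c18 LD2_c21 LD3_c29) Lrfl Lrfl
theorem f408193 : Led Lsl_bt (LP (LK LD1_c10 LD2_c15 LD3_c31)) = (LP (LK LD1_c5 LD2_c12 LD3_c32)) :=
  Lre_b IH (LK LD1_c10 LD2_c15 LD3_c31) (LK LD1_c5 LD2_c12 LD3_c32) Lrfl Lrfl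
theorem f408220 : Led Lsl_df (LP (LK LD1_c10 LD2_c15 LD3_c31)) = (LP (LK LD1_c16 LD2_c57 LD3_c14)) :=
  Lgr Lrot12 (Lpr_bt (f408193 IH) (Lpr_dt (K72.f408205 IH) (Lpr_bt (f408219 IH) (Lpn (LP (LK LD1_c16 LD2_c57 LD3_c14))))))
theorem f824274 : Led Lsl_ff (LP (LK LD1_c10 LD2_c2 LD3_c61)) = (LP (LK LD1_c10 LD2_c15 LD3_c31)) :=
  Lgr Lrot19 (Lpr_dt (f824273 IH) (Lpr_ft (f824271 IH) (Lpe (f408220 IH) (Lpn (LP (LK LD1_c10 LD2_c15 LD3_c31))))))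
theorem f408228 : Led Lsl_at (LP (LK LD1_c18 LD2_c39 LD3_c40)) = (LP (LK LD1_c10 LD2_c15 LD3_c31)) :=
  Lre_a IH (LK LD1_c18 LD2_c39 LD3_c40) (LK LD1_c10 LD2_c15 LD3_c31) Lrfl Lrfl
theorem f929857 : Led Lsl_ff (LP (LK LD1_c18 LD2_c39 LD3_c40)) = v41860 :=
  Lgr Lrot30 (Lpr_at (f408228 IH) (Lpe (f824274 IH) (Lpr_at (f929855 IH) (Lpn v41860))))
theorem f929858 : Led Lsl_ft (LP (LK LD1_c18 LD2_c39 LD3_c40)) = v41860 :=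
  Lgr Lrot48 (Lpr_ff (f929857 IH) (Lpn v41860))
theorem f929856 : Led Lsl_af (LP (LK LD1_c10 LD2_c2 LD3_c61)) = v41860 :=
  Lgr Lrot0 (Lpr_at (f929855 IH) (Lpn v41860))
def v41859 : LQ := Led Lsl_gf (LP (LK LD1_c10 LD2_c2 LD3_c61))
theorem f929854 : Led Lsl_gf (LP (LK LD1_c10 LD2_c2 LD3_c61)) = v41859 :=
  Lrfl
theorem f929860 : Led Lsl_gt (LP (LK LD1_c18 LD2_c39 LD3_c40)) = v41859 :=
  Lgr Lrot5 (Lpr_ft (f929858 IH) (Lpe (f929856 IH) (Lpr_gf (f929854 IH) (Lpn v41859))))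
theorem f931573 : (LP (LK LD1_c16 LD2_c52 LD3_c11)) = v41859 :=
  (Llr Lrot26 (Lpe (K45.f586845 IH) (Lpe (K40.f547887 IH) (Lpqs (f931570 IH) (Lpe (f929853 IH) (Lpr_gt (f929860 IH) (Lpn v41859))))))).symm
theorem f824281 : Led Lsl_et (LP (LK LD1_c18 LD2_c21 LD3_c30)) = (LP (LK LD1_c10 LD2_c2 LD3_c61)) :=
  Lre_e IH (LK LD1_c18 LD2_c21 LD3_c30) (LK LD1_c10 LD2_c2 LD3_c61) Lrfl Lrfl
def v25151 : LQ := Led Lsl_bt K64.v5305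
theorem f827267 : Led Lsl_bt K64.v5305 = v25151 :=
  Lrfl
theorem f646967 : Led Lsl_bt (LP (LK LD1_c18 LD2_c21 LD3_c30)) = (LP (LK LD1_c10 LD2_c3 LD3_c2)) :=
  Lre_b IH (LK LD1_c18 LD2_c21 LD3_c30) (LK LD1_c10 LD2_c3 LD3_c2) Lrfl Lrfl
theorem f827269 : Led Lsl_df (LP (LK LD1_c18 LD2_c21 LD3_c30)) = v25151 :=
  Lgr Lrot12 (Lpr_bt (f646967 IH) (Lpr_dt (K64.f646966 IH) (Lpr_bt (f827267 IH) (Lpn v25151))))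
theorem f827270 : Led Lsl_dt (LP (LK LD1_c18 LD2_c21 LD3_c30)) = v25151 :=
  Lgr Lrot42 (Lpr_df (f827269 IH) (Lpn v25151))
theorem f931576 : v17248 = v25151 :=
  (Llr Lrot145 (Lpe (f757947 IH) (Lpr_df (f616518 IH) (Lpr_et (K72.f553511 IH) (Lpr_gt (K39.f553506 IH) (Lpr_dt (K39.f56269 IH) (Lpr_gt (K38.f56253 IH) (Lpe (K43.f546519 IH) (Lpr_et (f602443 IH) (Lpqs (f931573 IH) (Lpe (f929854 IH) (Lpe (f824281 IH) (Lpr_dt (f827270 IH) (Lpn v25151)))))))))))))).symm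
def v25152 : LQ := Led Lsl_ct K64.v5305
theorem f827271 : Led Lsl_ct K64.v5305 = v25152 :=
  Lrfl
theorem f636306 : Led Lsl_gt (LP (LK LD1_c5 LD2_c6 LD3_c56)) = K73.v4593 :=
  Lgr Lrot5 (Lpr_ft (K19.f166401 IH) (Lpe (K38.f307987 IH) (Lpr_gf (K73.f636305 IH) (Lpn K73.v4593))))
def v8093 : LQ := Led Lsl_et K32.v1827
theorem f669950 : Led Lsl_et K32.v1827 = v8093 :=
  Lrfl
theorem f669952 : Led Lsl_cf K53.v4188 = v8093 :=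
  Lgr Lrot39 (Lpe (K53.f631747 IH) (Lpr_ct (K32.f503157 IH) (Lpr_et (f669950 IH) (Lpn v8093))))
def v28345 : LQ := Led Lsl_gf v8093
theorem f844108 : Led Lsl_gf v8093 = v28345 :=
  Lrfl
theorem f931476 : v25152 = v28345 :=
  (Llr Lrot152 (Lpe (f827271 IH) (Lpr_gf (K64.f701669 IH) (Lpe (K64.f701667 IH) (Lpr_gt (f636306 IH) (Lpr_ct (K73.f822747 IH) (Lpqs (K73.f931473 IH) (Lpe (K73.f721112 IH) (Lpr_ct (K18.f165676 IH) (Lpr_df (K53.f631746 IH) (Lpr_cf (f669952 IH) (Lpr_gf (f844108 IH) (Lpn v28345))))))))))))).symm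
theorem f669953 : Led Lsl_ef K32.v1827 = v8093 :=
  Lgr Lrot88 (Lpr_et (f669950 IH) (Lpn v8093))
theorem f503160 : Led Lsl_af (LP (LK LD1_c2 LD2_c50 LD3_c50)) = K32.v1827 :=
  Lgr Lrot68 (Lpr_ct (K40.f61312 IH) (Lpr_at (K36.f301959 IH) (Lpr_ct (K32.f503157 IH) (Lpn K32.v1827))))
def v4857 : LQ := Led Lsl_et (LP (LK LD1_c2 LD2_c50 LD3_c50))
theorem f640601 : Led Lsl_et (LP (LK LD1_c2 LD2_c50 LD3_c50)) = v4857 :=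
  Lrfl
theorem f669954 : Led Lsl_at v4857 = v8093 :=
  Lgr Lrot80 (Lpe (f640601 IH) (Lpr_af (f503160 IH) (Lpr_ef (f669953 IH) (Lpn v8093))))
def v24614 : LQ := Led Lsl_ft v4857
theorem f824779 : Led Lsl_ft v4857 = v24614 :=
  Lrfl
theorem f824781 : Led Lsl_ff v4857 = v24614 :=
  Lgr Lrot3 (Lpr_ft (f824779 IH) (Lpn v24614))
theorem f844109 : Led Lsl_gt v24614 = v28345 :=
  Lgr Lrot5 (Lpe (f824781 IH) (Lpr_at (f669954 IH) (Lpr_gf (f844108 IH) (Lpn v28345))))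
theorem f640602 : Led Lsl_cf (LP (LK LD1_c2 LD2_c50 LD3_c51)) = v4857 :=
  Lgr Lrot39 (Lpr_et (K53.f61329 IH) (Lpr_ct (K40.f61301 IH) (Lpr_et (f640601 IH) (Lpn v4857))))
theorem f824782 : Led Lsl_ct K53.v4858 = v24614 :=
  Lgr Lrot40 (Lpe (K53.f640605 IH) (Lpr_cf (f640602 IH) (Lpr_ff (f824781 IH) (Lpn v24614))))
def v4859 : LQ := Led Lsl_et (LP (LK LD1_c2 LD2_c50 LD3_c52))
theorem f640609 : Led Lsl_et (LP (LK LD1_c2 LD2_c50 LD3_c52)) = v4859 :=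
  Lrfl
theorem f640611 : Led Lsl_ef (LP (LK LD1_c2 LD2_c50 LD3_c52)) = v4859 :=
  Lgr Lrot88 (Lpr_et (f640609 IH) (Lpn v4859))
theorem f640612 : Led Lsl_ct (LP (LK LD1_c3 LD2_c5 LD3_c28)) = v4859 :=
  Lgr Lrot15 (Lpe (K44.f186356 IH) (Lpe (K18.f210598 IH) (Lpr_ef (f640611 IH) (Lpn v4859))))
def v24615 : LQ := Led Lsl_gt v4859
theorem f824783 : Led Lsl_gt v4859 = v24615 :=
  Lrfl
theorem f931577 : v24608 = v24615 :=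
  (Llr Lrot10 (Lpe (f824769 IH) (Lpr_bt (K73.f824767 IH) (Lpqs (K73.f931497 IH) (Lpqs (K73.f920163 IH) (Lpe (K73.f820539 IH) (Lpr_ct (f824782 IH) (Lpr_gt (f844109 IH) (Lpq (f931476 IH) (Lpe (f827271 IH) (Lpr_bt (f827267 IH) (Lpq (f931576 IH) (Lpe (f757947 IH) (Lpe (K44.f186369 IH) (Lpr_ct (f640612 IH) (Lpr_gt (f824783 IH) (Lpn v24615))))))))))))))))).symm
def v38934 : LQ := Led Lsl_ct (LP (LK LD1_c9 LD2_c17 LD3_c61))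
theorem f905490 : Led Lsl_ct (LP (LK LD1_c9 LD2_c17 LD3_c61)) = v38934 :=
  Lrfl
theorem f905495 : Led Lsl_ff K73.v12900 = v38934 :=
  Lgr Lrot23 (Lpe (K73.f699427 IH) (Lpr_ft (K50.f176960 IH) (Lpr_ct (f905490 IH) (Lpn v38934))))
theorem f699425 : Led Lsl_af v4859 = K73.v12900 :=
  Lgr Lrot50 (Lpe (f640611 IH) (Lpr_at (K18.f302561 IH) (Lpr_et (K73.f699424 IH) (Lpn K73.v12900))))
def v17254 : LQ := Led Lsl_ct (LP (LK LD1_c6 LD2_c16 LD3_c47))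
theorem f757963 : Led Lsl_ct (LP (LK LD1_c6 LD2_c16 LD3_c47)) = v17254 :=
  Lrfl
theorem f640610 : Led Lsl_cf (LP (LK LD1_c3 LD2_c5 LD3_c28)) = v4859 :=
  Lgr Lrot39 (Lpr_et (K50.f186351 IH) (Lpe (K18.f210605 IH) (Lpr_et (f640609 IH) (Lpn v4859))))
theorem f757965 : Led Lsl_ff v4859 = v17254 :=
  Lgr Lrot23 (Lpe (f640610 IH) (Lpr_ft (K50.f186370 IH) (Lpr_ct (f757963 IH) (Lpn v17254))))
theorem f757966 : Led Lsl_ft v4859 = v17254 :=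
  Lgr Lrot48 (Lpr_ff (f757965 IH) (Lpn v17254))
theorem f905496 : Led Lsl_at v17254 = v38934 :=
  Lgr Lrot66 (Lpe (f757966 IH) (Lpr_af (f699425 IH) (Lpr_ff (f905495 IH) (Lpn v38934))))
theorem f905501 : Led Lsl_gt v24615 = v38934 :=
  Lgr Lrot46 (Lpe (f824783 IH) (Lpr_ft (f757966 IH) (Lpr_at (f905496 IH) (Lpn v38934))))
def v24616 : LQ := Led Lsl_gf v4859
theorem f824784 : Led Lsl_gf v4859 = v24616 :=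
  Lrfl
theorem f905500 : Led Lsl_gf v24616 = v38934 :=
  Lgr Lrot47 (Lpe (f824784 IH) (Lpr_af (f699425 IH) (Lpr_ff (f905495 IH) (Lpn v38934))))
theorem f931578 : v15883 = v24616 :=
  (Llr Lrot26 (Lpr_af (f899631 IH) (Lpe (f899634 IH) (Lpqs (f931577 IH) (Lpr_gt (f905501 IH) (Lpe (f905500 IH) (Lpn v24616))))))).symm
theorem f723723 : Led Lsl_cf (LP (LK LD1_c5 LD2_c13 LD3_c33)) = K73.v14554 :=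
  Lgr Lrot11 (Lpr_ct (K73.f723721 IH) (Lpn K73.v14554))
theorem f954185 : Led Lsl_gf K73.v14554 = v46559 :=
  Lgr Lrot104 (Lpe (f723723 IH) (Lpr_df (K50.f186362 IH) (Lpr_cf (f640610 IH) (Lpr_gf (f824784 IH) (Lpq (f931578 IH) (Lpe (f744071 IH) (Lpr_gf (K72.f699218 IH) (Lpe (K72.f699216 IH) (Lpr_gt (f616082 IH) (Lpr_ct (f954181 IH) (Lpn v46559)))))))))))
theorem f302529 : Led Lsl_af (LP (LK LD1_c2 LD2_c33 LD3_c38)) = (LP (LK LD1_c2 LD2_c30 LD3_c37)) :=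
  Lgr Lrot117 (Lpr_dt (K50.f183382 IH) (Lpr_at (K18.f302525 IH) (Lpr_dt (K13.f166156 IH) (Lpn (LP (LK LD1_c2 LD2_c30 LD3_c37))))))
theorem f636292 : Led Lsl_af (LP (LK LD1_c5 LD2_c6 LD3_c40)) = K65.v4591 :=
  Lgr Lrot68 (Lpr_ct (K14.f166155 IH) (Lpe (f302529 IH) (Lpr_ct (K65.f636291 IH) (Lpn K65.v4591))))
theorem f723725 : Led Lsl_at (LP (LK LD1_c10 LD2_c4 LD3_c4)) = K73.v14554 :=
  Lgr Lrot80 (Lpe (K73.f198792 IH) (Lpr_af (f636292 IH) (Lpr_ef (K73.f723724 IH) (Lpn K73.v14554))))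
def v41946 : LQ := Led Lsl_ft (LP (LK LD1_c10 LD2_c4 LD3_c4))
theorem f930356 : Led Lsl_ft (LP (LK LD1_c10 LD2_c4 LD3_c4)) = v41946 :=
  Lrfl
theorem f930359 : Led Lsl_ff (LP (LK LD1_c10 LD2_c4 LD3_c4)) = v41946 :=
  Lgr Lrot3 (Lpr_ft (f930356 IH) (Lpn v41946))
theorem f954186 : Led Lsl_gt v41946 = v46559 :=
  Lgr Lrot5 (Lpe (f930359 IH) (Lpr_at (f723725 IH) (Lpr_gf (f954185 IH) (Lpn v46559))))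
theorem f930361 : Led Lsl_ct (LP (LK LD1_c10 LD2_c4 LD3_c6)) = v41946 :=
  Lgr Lrot40 (Lpe (K64.f176963 IH) (Lpe (K73.f176956 IH) (Lpr_ff (f930359 IH) (Lpn v41946))))
theorem f421768 : Led Lsl_bt (LP (LK LD1_c11 LD2_c59 LD3_c12)) = (LP (LK LD1_c6 LD2_c9 LD3_c0)) :=
  Lre_b IH (LK LD1_c11 LD2_c59 LD3_c12) (LK LD1_c6 LD2_c9 LD3_c0) Lrfl Lrfl
theorem f421769 : Led Lsl_ct (LP (LK LD1_c11 LD2_c59 LD3_c12)) = (LP (LK LD1_c21 LD2_c4 LD3_c1)) :=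
  Lre_c IH (LK LD1_c11 LD2_c59 LD3_c12) (LK LD1_c21 LD2_c4 LD3_c1) Lrfl Lrfl
theorem f711804 : Led Lsl_bf (LP (LK LD1_c10 LD2_c18 LD3_c27)) = (LP (LK LD1_c10 LD2_c5 LD3_c39)) :=
  Lgr Lrot24 (Lpr_bt (K56.f711802 IH) (Lpn (LP (LK LD1_c10 LD2_c5 LD3_c39))))
theorem f720205 : Led Lsl_gf (LP (LK LD1_c10 LD2_c4 LD3_c59)) = (LP (LK LD1_c5 LD2_c38 LD3_c48)) :=
  Lgr Lrot141 (Lpr_ef (K56.f720199 IH) (Lpr_dt (K48.f57644 IH) (Lpr_gt (K32.f57643 IH) (Lpe (K2.f73202 IH) (Lpr_et (K2.f55697 IH) (Lpr_gt (K10.f177388 IH) (Lpr_dt (K10.f177158 IH) (Lpr_gt (K11.f177157 IH) (Lpr_df (K53.f210483 IH) (Lpr_et (K73.f210503 IH) (Lpn (LP (LK LD1_c5 LD2_c38 LD3_c48)))))))))))))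
theorem f720207 : Led Lsl_ff (LP (LK LD1_c10 LD2_c18 LD3_c27)) = (LP (LK LD1_c11 LD2_c8 LD3_c34)) :=
  Lgr Lrot52 (Lpe (K73.f720197 IH) (Lpr_gf (f720205 IH) (Lpe (f210504 IH) (Lpn (LP (LK LD1_c11 LD2_c8 LD3_c34))))))
theorem f720209 : Led Lsl_ft (LP (LK LD1_c10 LD2_c18 LD3_c27)) = (LP (LK LD1_c11 LD2_c8 LD3_c34)) :=
  Lgr Lrot48 (Lpr_ff (f720207 IH) (Lpn (LP (LK LD1_c11 LD2_c8 LD3_c34))))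
theorem f932029 : Led Lsl_bt (LP (LK LD1_c11 LD2_c8 LD3_c34)) = K73.v42038 :=
  Lgr Lrot35 (Lpe (f720209 IH) (Lpr_bf (f711804 IH) (Lpr_ff (K73.f932027 IH) (Lpn K73.v42038))))
theorem f594685 : Led Lsl_bt (LP (LK LD1_c17 LD2_c57 LD3_c50)) = (LP (LK LD1_c10 LD2_c5 LD3_c22)) :=
  Lgr Lrot127 (Lpr_bf (K45.f594678 IH) (Lpn (LP (LK LD1_c10 LD2_c5 LD3_c22))))
theorem f594621 : Led Lsl_et (LP (LK LD1_c25 LD2_c18 LD3_c8)) = (LP (LK LD1_c15 LD2_c26 LD3_c14)) :=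
  Lre_e IH (LK LD1_c25 LD2_c18 LD3_c8) (LK LD1_c15 LD2_c26 LD3_c14) Lrfl Lrfl
theorem f594661 : Led Lsl_ct (LP (LK LD1_c17 LD2_c57 LD3_c50)) = (LP (LK LD1_c25 LD2_c18 LD3_c8)) :=
  Lgr Lrot15 (Lpe (K45.f421442 IH) (Lpr_cf (K45.f594655 IH) (Lpe (f594621 IH) (Lpn (LP (LK LD1_c25 LD2_c18 LD3_c8))))))
theorem f954188 : Led Lsl_gf (LP (LK LD1_c21 LD2_c4 LD3_c1)) = (LP (LK LD1_c25 LD2_c18 LD3_c8)) :=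
  Lgr Lrot126 (Lpe (f421769 IH) (Lpr_bt (f421768 IH) (Lpr_gt (K50.f421764 IH) (Lpr_ct (f930361 IH) (Lpr_gt (f954186 IH) (Lpe (f954181 IH) (Lpr_bt (f932029 IH) (Lpe (K73.f932025 IH) (Lpe (f594685 IH) (Lpr_ct (f594661 IH) (Lpn (LP (LK LD1_c25 LD2_c18 LD3_c8)))))))))))))
theorem f954189 : Led Lsl_gt (LP (LK LD1_c25 LD2_c18 LD3_c8)) = (LP (LK LD1_c21 LD2_c4 LD3_c1)) :=
  Leop (Lpr_gf (f954188 IH) (Lpn (LP (LK LD1_c25 LD2_c18 LD3_c8))))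
theorem seed_2759 : LEOK LG_g (LK LD1_c25 LD2_c18 LD3_c8) :=
  Leoe_g (LK LD1_c25 LD2_c18 LD3_c8) (f954189 IH)
def v46562 : LQ := Led Lsl_ct (LP (LK LD1_c11 LD2_c8 LD3_c35))
theorem f954207 : Led Lsl_ct (LP (LK LD1_c11 LD2_c8 LD3_c35)) = v46562 :=
  Lrfl
theorem f736219 : Led Lsl_cf (LP (LK LD1_c5 LD2_c38 LD3_c48)) = K73.v15424 :=
  Lgr Lrot11 (Lpr_ct (K73.f736217 IH) (Lpn K73.v15424))
theorem f954210 : Led Lsl_ff K73.v15424 = v46562 :=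
  Lgr Lrot23 (Lpe (f736219 IH) (Lpr_ft (K53.f210509 IH) (Lpr_ct (f954207 IH) (Lpn v46562))))
theorem f736218 : Led Lsl_af K56.v14586 = K73.v15424 :=
  Lgr Lrot68 (Lpe (K73.f723914 IH) (Lpr_at (K53.f616066 IH) (Lpr_ct (K73.f736217 IH) (Lpn K73.v15424))))
theorem f954213 : Led Lsl_gf K73.v42818 = v46562 :=
  Lgr Lrot47 (Lpe (K73.f936110 IH) (Lpr_af (f736218 IH) (Lpr_ff (f954210 IH) (Lpn v46562))))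
theorem f242739 : Led Lsl_bt (LP (LK LD1_c10 LD2_c17 LD3_c22)) = (LP (LK LD1_c18 LD2_c42 LD3_c16)) :=
  Lre_b IH (LK LD1_c10 LD2_c17 LD3_c22) (LK LD1_c18 LD2_c42 LD3_c16) Lrfl Lrfl
theorem f138593 : Led Lsl_dt (LP (LK LD1_c12 LD2_c9 LD3_c47)) = (LP (LK LD1_c6 LD2_c16 LD3_c5)) :=
  Lre_d IH (LK LD1_c12 LD2_c9 LD3_c47) (LK LD1_c6 LD2_c16 LD3_c5) Lrfl Lrfl
theorem f596460 : Led Lsl_at (LP (LK LD1_c8 LD2_c12 LD3_c12)) = (LP (LK LD1_c10 LD2_c18 LD3_c5)) :=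
  Lgr Lrot100 (Lpr_af (K50.f596440 IH) (Lpn (LP (LK LD1_c10 LD2_c18 LD3_c5))))
theorem f183420 : Led Lsl_ct (LP (LK LD1_c2 LD2_c59 LD3_c60)) = (LP (LK LD1_c6 LD2_c7 LD3_c38)) :=
  Lre_c IH (LK LD1_c2 LD2_c59 LD3_c60) (LK LD1_c6 LD2_c7 LD3_c38) Lrfl Lrfl
theorem f407105 : Led Lsl_ft (LP (LK LD1_c6 LD2_c7 LD3_c38)) = (LP (LK LD1_c8 LD2_c12 LD3_c12)) :=
  Lgr Lrot4 (Lpe (f183420 IH) (Lpr_ff (K39.f407102 IH) (Lpe (K50.f182439 IH) (Lpn (LP (LK LD1_c8 LD2_c12 LD3_c12))))))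
theorem f598914 : Led Lsl_gt (LP (LK LD1_c6 LD2_c7 LD3_c38)) = (LP (LK LD1_c10 LD2_c5 LD3_c4)) :=
  Lgr Lrot5 (Lpr_ft (f407105 IH) (Lpr_at (f596460 IH) (Lpr_gf (K50.f308614 IH) (Lpn (LP (LK LD1_c10 LD2_c5 LD3_c4))))))
theorem f149602 : Led Lsl_ct (LP (LK LD1_c5 LD2_c53 LD3_c58)) = (LP (LK LD1_c11 LD2_c33 LD3_c43)) :=
  Lre_c IH (LK LD1_c5 LD2_c53 LD3_c58) (LK LD1_c11 LD2_c33 LD3_c43) Lrfl Lrfl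
theorem f598916 : Led Lsl_bf (LP (LK LD1_c6 LD2_c7 LD3_c37)) = (LP (LK LD1_c5 LD2_c53 LD3_c58)) :=
  Lgr Lrot165 (Lpr_gt (K42.f175979 IH) (Lpr_ct (f183420 IH) (Lpr_gt (f598914 IH) (Lpe (K32.f308442 IH) (Lpr_bt (K50.f308431 IH) (Lpe (K40.f387287 IH) (Lpr_bf (K50.f597848 IH) (Lpr_ct (K50.f593619 IH) (Lpe (K50.f597841 IH) (Lpe (f149602 IH) (Lpn (LP (LK LD1_c5 LD2_c53 LD3_c58)))))))))))))
theorem f598923 : Led Lsl_bt (LP (LK LD1_c11 LD2_c57 LD3_c43)) = (LP (LK LD1_c11 LD2_c33 LD3_c44)) :=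
  Lgr Lrot119 (Lpe (K56.f598922 IH) (Lpr_bf (f598916 IH) (Lpe (K41.f543916 IH) (Lpn (LP (LK LD1_c11 LD2_c33 LD3_c44))))))
theorem f598933 : Led Lsl_df (LP (LK LD1_c11 LD2_c57 LD3_c43)) = (LP (LK LD1_c12 LD2_c9 LD3_c56)) :=
  Lgr Lrot12 (Lpr_bt (f598923 IH) (Lpr_dt (K41.f543912 IH) (Lpe (K40.f558786 IH) (Lpn (LP (LK LD1_c12 LD2_c9 LD3_c56))))))
theorem f598935 : Led Lsl_dt (LP (LK LD1_c11 LD2_c57 LD3_c43)) = (LP (LK LD1_c12 LD2_c9 LD3_c56)) :=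
  Lgr Lrot42 (Lpr_df (f598933 IH) (Lpn (LP (LK LD1_c12 LD2_c9 LD3_c56))))
theorem f420476 : Led Lsl_et (LP (LK LD1_c6 LD2_c16 LD3_c35)) = (LP (LK LD1_c3 LD2_c5 LD3_c23)) :=
  Lre_e IH (LK LD1_c6 LD2_c16 LD3_c35) (LK LD1_c3 LD2_c5 LD3_c23) Lrfl Lrfl
theorem f567051 : Led Lsl_at (LP (LK LD1_c12 LD2_c9 LD3_c56)) = (LP (LK LD1_c6 LD2_c16 LD3_c35)) :=
  Lgr Lrot80 (Lpe (K40.f558783 IH) (Lpr_af (K41.f567043 IH) (Lpe (f420476 IH) (Lpn (LP (LK LD1_c6 LD2_c16 LD3_c35))))))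
theorem f420477 : Led Lsl_dt (LP (LK LD1_c6 LD2_c16 LD3_c35)) = (LP (LK LD1_c12 LD2_c10 LD3_c13)) :=
  Lre_d IH (LK LD1_c6 LD2_c16 LD3_c35) (LK LD1_c12 LD2_c10 LD3_c13) Lrfl Lrfl
theorem f598938 : Led Lsl_af (LP (LK LD1_c11 LD2_c57 LD3_c43)) = (LP (LK LD1_c12 LD2_c10 LD3_c13)) :=
  Lgr Lrot117 (Lpr_dt (f598935 IH) (Lpr_at (f567051 IH) (Lpr_dt (f420477 IH) (Lpn (LP (LK LD1_c12 LD2_c10 LD3_c13))))))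
theorem f175980 : Led Lsl_et (LP (LK LD1_c11 LD2_c57 LD3_c43)) = (LP (LK LD1_c6 LD2_c7 LD3_c37)) :=
  Lre_e IH (LK LD1_c11 LD2_c57 LD3_c43) (LK LD1_c6 LD2_c7 LD3_c37) Lrfl Lrfl
theorem f566986 : Led Lsl_at (LP (LK LD1_c2 LD2_c53 LD3_c47)) = (LP (LK LD1_c5 LD2_c53 LD3_c58)) :=
  Lgr Lrot100 (Lpr_af (K41.f566984 IH) (Lpn (LP (LK LD1_c5 LD2_c53 LD3_c58))))
theorem f561442 : Led Lsl_gf (LP (LK LD1_c2 LD2_c47 LD3_c53)) = (LP (LK LD1_c5 LD2_c43 LD3_c43)) :=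
  Lgr Lrot147 (Lpe (K40.f381968 IH) (Lpr_gt (K40.f561435 IH) (Lpr_ct (K42.f496104 IH) (Lpe (K42.f206052 IH) (Lpe (K37.f206049 IH) (Lpe (K37.f544153 IH) (Lpr_cf (K40.f558540 IH) (Lpe (K62.f561438 IH) (Lpe (K42.f382003 IH) (Lpn (LP (LK LD1_c5 LD2_c43 LD3_c43))))))))))))
theorem f595487 : Led Lsl_gf (LP (LK LD1_c5 LD2_c54 LD3_c49)) = (LP (LK LD1_c6 LD2_c7 LD3_c54)) :=
  Lgr Lrot134 (Lpe (K42.f386772 IH) (Lpe (K42.f568505 IH) (Lpe (f561442 IH) (Lpe (K40.f381967 IH) (Lpr_dt (K31.f381832 IH) (Lpr_gt (K52.f595480 IH) (Lpe (K40.f422715 IH) (Lpr_et (K40.f557543 IH) (Lpe (K40.f557537 IH) (Lpr_dt (K73.f557530 IH) (Lpn (LP (LK LD1_c6 LD2_c7 LD3_c54)))))))))))))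
theorem f595489 : Led Lsl_af (LP (LK LD1_c5 LD2_c54 LD3_c49)) = (LP (LK LD1_c5 LD2_c7 LD3_c37)) :=
  Lgr Lrot31 (Lpr_gf (f595487 IH) (Lpe (K73.f594983 IH) (Lpr_ft (K42.f570407 IH) (Lpn (LP (LK LD1_c5 LD2_c7 LD3_c37))))))
theorem f579669 : Led Lsl_bf (LP (LK LD1_c5 LD2_c7 LD3_c37)) = (LP (LK LD1_c8 LD2_c12 LD3_c11)) :=
  Lgr Lrot24 (Lpr_bt (K43.f579667 IH) (Lpn (LP (LK LD1_c8 LD2_c12 LD3_c11))))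
theorem f598918 : Led Lsl_at (LP (LK LD1_c6 LD2_c7 LD3_c37)) = (LP (LK LD1_c8 LD2_c12 LD3_c11)) :=
  Lgr Lrot67 (Lpr_bf (f598916 IH) (Lpe (f566986 IH) (Lpe (K43.f553862 IH) (Lpr_af (f595489 IH) (Lpr_bf (f579669 IH) (Lpn (LP (LK LD1_c8 LD2_c12 LD3_c11))))))))
theorem f598944 : Led Lsl_et (LP (LK LD1_c8 LD2_c12 LD3_c11)) = (LP (LK LD1_c12 LD2_c10 LD3_c13)) :=
  Lgr Lrot123 (Lpe (f598918 IH) (Lpe (f175980 IH) (Lpr_af (f598938 IH) (Lpn (LP (LK LD1_c12 LD2_c10 LD3_c13))))))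
theorem f752690 : Led Lsl_gf (LP (LK LD1_c18 LD2_c23 LD3_c13)) = (LP (LK LD1_c12 LD2_c10 LD3_c13)) :=
  Lgr Lrot141 (Lpr_ef (K56.f752684 IH) (Lpr_dt (f138593 IH) (Lpr_gt (K56.f138587 IH) (Lpe (K8.f138448 IH) (Lpr_et (K8.f132787 IH) (Lpe (K35.f538409 IH) (Lpr_dt (K43.f181144 IH) (Lpr_gt (K37.f55918 IH) (Lpr_df (K43.f579665 IH) (Lpr_et (f598944 IH) (Lpn (LP (LK LD1_c12 LD2_c10 LD3_c13)))))))))))))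
theorem f752533 : Led Lsl_af (LP (LK LD1_c9 LD2_c15 LD3_c41)) = (LP (LK LD1_c12 LD2_c9 LD3_c47)) :=
  Lgr Lrot45 (Lpr_ft (K70.f639418 IH) (Lpe (K56.f712229 IH) (Lpr_ft (K56.f752531 IH) (Lpn (LP (LK LD1_c12 LD2_c9 LD3_c47))))))
theorem f752680 : Led Lsl_af (LP (LK LD1_c18 LD2_c23 LD3_c13)) = (LP (LK LD1_c17 LD2_c10 LD3_c9)) :=
  Lgr Lrot50 (Lpr_et (K56.f752678 IH) (Lpe (f752533 IH) (Lpr_et (K56.f446047 IH) (Lpn (LP (LK LD1_c17 LD2_c10 LD3_c9))))))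
theorem f639450 : Led Lsl_ff (LP (LK LD1_c17 LD2_c10 LD3_c9)) = (LP (LK LD1_c18 LD2_c42 LD3_c16)) :=
  Lgr Lrot25 (Lpr_bt (K56.f198673 IH) (Lpr_ft (K73.f639448 IH) (Lpr_bt (f242739 IH) (Lpn (LP (LK LD1_c18 LD2_c42 LD3_c16))))))
theorem f752692 : Led Lsl_gt (LP (LK LD1_c18 LD2_c42 LD3_c16)) = (LP (LK LD1_c12 LD2_c10 LD3_c13)) :=
  Lgr Lrot5 (Lpe (f639450 IH) (Lpe (f752680 IH) (Lpr_gf (f752690 IH) (Lpn (LP (LK LD1_c12 LD2_c10 LD3_c13))))))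
theorem f566993 : Led Lsl_af (LP (LK LD1_c5 LD2_c54 LD3_c55)) = (LP (LK LD1_c11 LD2_c33 LD3_c44)) :=
  Lgr Lrot0 (Lpr_at (K41.f566991 IH) (Lpn (LP (LK LD1_c11 LD2_c33 LD3_c44))))
theorem f570382 : Led Lsl_bt (LP (LK LD1_c5 LD2_c54 LD3_c55)) = (LP (LK LD1_c11 LD2_c35 LD3_c9)) :=
  Lre_b IH (LK LD1_c5 LD2_c54 LD3_c55) (LK LD1_c11 LD2_c35 LD3_c9) Lrfl Lrfl
theorem f386776 : Led Lsl_et (LP (LK LD1_c5 LD2_c54 LD3_c49)) = (LP (LK LD1_c11 LD2_c35 LD3_c9)) :=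
  Lre_e IH (LK LD1_c5 LD2_c54 LD3_c49) (LK LD1_c11 LD2_c35 LD3_c9) Lrfl Lrfl
theorem f579673 : Led Lsl_et (LP (LK LD1_c10 LD2_c5 LD3_c32)) = (LP (LK LD1_c5 LD2_c7 LD3_c37)) :=
  Lre_e IH (LK LD1_c10 LD2_c5 LD3_c32) (LK LD1_c5 LD2_c7 LD3_c37) Lrfl Lrfl
theorem f595491 : Led Lsl_at (LP (LK LD1_c11 LD2_c35 LD3_c9)) = (LP (LK LD1_c10 LD2_c5 LD3_c32)) :=
  Lgr Lrot80 (Lpe (f386776 IH) (Lpr_af (f595489 IH) (Lpe (f579673 IH) (Lpn (LP (LK LD1_c10 LD2_c5 LD3_c32))))))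
theorem f598942 : Led Lsl_bt (LP (LK LD1_c10 LD2_c5 LD3_c32)) = (LP (LK LD1_c12 LD2_c10 LD3_c13)) :=
  Lgr Lrot62 (Lpe (f595491 IH) (Lpe (f570382 IH) (Lpr_af (f566993 IH) (Lpe (f598923 IH) (Lpr_af (f598938 IH) (Lpn (LP (LK LD1_c12 LD2_c10 LD3_c13))))))))
theorem f595495 : Led Lsl_ct (LP (LK LD1_c10 LD2_c5 LD3_c32)) = (LP (LK LD1_c18 LD2_c24 LD3_c10)) :=
  Lre_c IH (LK LD1_c10 LD2_c5 LD3_c32) (LK LD1_c18 LD2_c24 LD3_c10) Lrfl Lrfl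
theorem f545015 : Led Lsl_ct (LP (LK LD1_c10 LD2_c5 LD3_c39)) = (LP (LK LD1_c18 LD2_c24 LD3_c25)) :=
  Lre_c IH (LK LD1_c10 LD2_c5 LD3_c39) (LK LD1_c18 LD2_c24 LD3_c25) Lrfl Lrfl
theorem f954215 : Led Lsl_gt (LP (LK LD1_c18 LD2_c24 LD3_c10)) = (LP (LK LD1_c18 LD2_c24 LD3_c25)) :=
  Lgr Lrot65 (Lpe (f595495 IH) (Lpr_bt (f598942 IH) (Lpe (f752692 IH) (Lpe (f242739 IH) (Lpr_ct (K73.f936104 IH) (Lpr_gf (f954213 IH) (Lpe (f954207 IH) (Lpe (K53.f616088 IH) (Lpr_bf (f711804 IH) (Lpr_ct (f545015 IH) (Lpn (LP (LK LD1_c18 LD2_c24 LD3_c25)))))))))))))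
theorem f954216 : Led Lsl_gt (LP (LK LD1_c18 LD2_c24 LD3_c10)) = (LP (LK LD1_c18 LD2_c24 LD3_c25)) :=
  Leop (Lpe (f954215 IH) (Lpn (LP (LK LD1_c18 LD2_c24 LD3_c10))))
theorem seed_2760 : LEOK LG_g (LK LD1_c18 LD2_c24 LD3_c10) :=
  Leoe_g (LK LD1_c18 LD2_c24 LD3_c10) (f954216 IH)
def v46652 : LQ := Led Lsl_ft (LP (LK LD1_c11 LD2_c10 LD3_c16))
theorem f954584 : Led Lsl_ft (LP (LK LD1_c11 LD2_c10 LD3_c16)) = v46652 :=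
  Lrfl
theorem f179482 : Led Lsl_gt (LP (LK LD1_c11 LD2_c10 LD3_c16)) = (LP (LK LD1_c20 LD2_c4 LD3_c58)) :=
  Lre_g IH (LK LD1_c11 LD2_c10 LD3_c16) (LK LD1_c20 LD2_c4 LD3_c58) Lrfl Lrfl
def v46650 : LQ := Led Lsl_at (LP (LK LD1_c11 LD2_c10 LD3_c16))
theorem f954573 : Led Lsl_at (LP (LK LD1_c11 LD2_c10 LD3_c16)) = v46650 :=
  Lrfl
theorem f954574 : Led Lsl_af (LP (LK LD1_c11 LD2_c10 LD3_c16)) = v46650 :=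
  Lgr Lrot0 (Lpr_at (f954573 IH) (Lpn v46650))
theorem f179481 : Led Lsl_dt (LP (LK LD1_c5 LD2_c39 LD3_c32)) = (LP (LK LD1_c11 LD2_c10 LD3_c16)) :=
  Lre_d IH (LK LD1_c5 LD2_c39 LD3_c32) (LK LD1_c11 LD2_c10 LD3_c16) Lrfl Lrfl
def v15435 : LQ := Led Lsl_at (LP (LK LD1_c5 LD2_c39 LD3_c32))
theorem f737392 : Led Lsl_at (LP (LK LD1_c5 LD2_c39 LD3_c32)) = v15435 :=
  Lrfl
theorem f737393 : Led Lsl_af (LP (LK LD1_c5 LD2_c39 LD3_c32)) = v15435 :=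
  Lgr Lrot0 (Lpr_at (f737392 IH) (Lpn v15435))
theorem f954575 : Led Lsl_df v15435 = v46650 :=
  Lgr Lrot18 (Lpe (f737393 IH) (Lpr_dt (f179481 IH) (Lpr_at (f954573 IH) (Lpn v46650))))
theorem f179478 : Led Lsl_gt (LP (LK LD1_c2 LD2_c45 LD3_c43)) = (LP (LK LD1_c5 LD2_c39 LD3_c32)) :=
  Lre_g IH (LK LD1_c2 LD2_c45 LD3_c43) (LK LD1_c5 LD2_c39 LD3_c32) Lrfl Lrfl
theorem f179477 : Led Lsl_gt (LP (LK LD1_c5 LD2_c39 LD3_c33)) = (LP (LK LD1_c2 LD2_c45 LD3_c43)) :=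
  Lre_g IH (LK LD1_c5 LD2_c39 LD3_c33) (LK LD1_c2 LD2_c45 LD3_c43) Lrfl Lrfl
theorem f737394 : Led Lsl_ft (LP (LK LD1_c5 LD2_c39 LD3_c33)) = v15435 :=
  Lgr Lrot2 (Lpr_gt (f179477 IH) (Lpr_gt (f179478 IH) (Lpr_af (f737393 IH) (Lpn v15435))))
theorem f737396 : Led Lsl_ff (LP (LK LD1_c5 LD2_c39 LD3_c33)) = v15435 :=
  Lgr Lrot3 (Lpr_ft (f737394 IH) (Lpn v15435))
theorem f354578 : Led Lsl_dt (LP (LK LD1_c5 LD2_c39 LD3_c33)) = (LP (LK LD1_c11 LD2_c10 LD3_c20)) :=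
  Lre_d IH (LK LD1_c5 LD2_c39 LD3_c33) (LK LD1_c11 LD2_c10 LD3_c20) Lrfl Lrfl
theorem f954577 : Led Lsl_ft (LP (LK LD1_c11 LD2_c10 LD3_c20)) = v46650 :=
  Lgr Lrot54 (Lpe (f354578 IH) (Lpr_ff (f737396 IH) (Lpr_df (f954575 IH) (Lpn v46650))))
theorem f954585 : Led Lsl_af (LP (LK LD1_c11 LD2_c10 LD3_c20)) = v46652 :=
  Lgr Lrot45 (Lpr_ft (f954577 IH) (Lpe (f954574 IH) (Lpr_ft (f954584 IH) (Lpn v46652))))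
theorem f954588 : Led Lsl_gt (LP (LK LD1_c20 LD2_c4 LD3_c58)) = (LP (LK LD1_c11 LD2_c10 LD3_c20)) :=
  Lgr Lrot46 (Lpe (f179482 IH) (Lpr_ft (f954584 IH) (Lpe (f954585 IH) (Lpn (LP (LK LD1_c11 LD2_c10 LD3_c20))))))
theorem f954589 : Led Lsl_gt (LP (LK LD1_c20 LD2_c4 LD3_c58)) = (LP (LK LD1_c11 LD2_c10 LD3_c20)) :=
  Leop (Lpe (f954588 IH) (Lpn (LP (LK LD1_c20 LD2_c4 LD3_c58))))
theorem seed_2761 : LEOK LG_g (LK LD1_c20 LD2_c4 LD3_c58) :=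
  Leoe_g (LK LD1_c20 LD2_c4 LD3_c58) (f954589 IH)
def v46718 : LQ := Led Lsl_ft (LP (LK LD1_c11 LD2_c10 LD3_c55))
theorem f954841 : Led Lsl_ft (LP (LK LD1_c11 LD2_c10 LD3_c55)) = v46718 :=
  Lrfl
theorem f494034 : Led Lsl_gt (LP (LK LD1_c11 LD2_c10 LD3_c55)) = (LP (LK LD1_c20 LD2_c5 LD3_c38)) :=
  Lre_g IH (LK LD1_c11 LD2_c10 LD3_c55) (LK LD1_c20 LD2_c5 LD3_c38) Lrfl Lrfl
theorem f622432 : Led Lsl_at (LP (LK LD1_c5 LD2_c40 LD3_c10)) = (LP (LK LD1_c11 LD2_c10 LD3_c55)) :=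
  Lre_a IH (LK LD1_c5 LD2_c40 LD3_c10) (LK LD1_c11 LD2_c10 LD3_c55) Lrfl Lrfl
theorem f354407 : Led Lsl_ft (LP (LK LD1_c11 LD2_c11 LD3_c9)) = (LP (LK LD1_c5 LD2_c40 LD3_c10)) :=
  Lre_f IH (LK LD1_c11 LD2_c11 LD3_c9) (LK LD1_c5 LD2_c40 LD3_c10) Lrfl Lrfl
theorem f954842 : Led Lsl_af (LP (LK LD1_c11 LD2_c11 LD3_c9)) = v46718 :=
  Lgr Lrot45 (Lpr_ft (f354407 IH) (Lpr_at (f622432 IH) (Lpr_ft (f954841 IH) (Lpn v46718))))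
theorem f954845 : Led Lsl_gt (LP (LK LD1_c20 LD2_c5 LD3_c38)) = (LP (LK LD1_c11 LD2_c11 LD3_c9)) :=
  Lgr Lrot46 (Lpe (f494034 IH) (Lpr_ft (f954841 IH) (Lpe (f954842 IH) (Lpn (LP (LK LD1_c11 LD2_c11 LD3_c9))))))
theorem f954846 : Led Lsl_gt (LP (LK LD1_c20 LD2_c5 LD3_c38)) = (LP (LK LD1_c11 LD2_c11 LD3_c9)) :=
  Leop (Lpe (f954845 IH) (Lpn (LP (LK LD1_c20 LD2_c5 LD3_c38))))
theorem seed_2762 : LEOK LG_g (LK LD1_c20 LD2_c5 LD3_c38) :=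
  Leoe_g (LK LD1_c20 LD2_c5 LD3_c38) (f954846 IH)
def v46719 : LQ := Led Lsl_ct (LP (LK LD1_c11 LD2_c10 LD3_c56))
theorem f954873 : Led Lsl_ct (LP (LK LD1_c11 LD2_c10 LD3_c56)) = v46719 :=
  Lrfl
theorem f622336 : Led Lsl_ct (LP (LK LD1_c11 LD2_c11 LD3_c14)) = (LP (LK LD1_c5 LD2_c40 LD3_c12)) :=
  Lre_c IH (LK LD1_c11 LD2_c11 LD3_c14) (LK LD1_c5 LD2_c40 LD3_c12) Lrfl Lrfl
theorem f954876 : Led Lsl_ff (LP (LK LD1_c11 LD2_c11 LD3_c14)) = v46719 :=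
  Lgr Lrot23 (Lpr_ct (f622336 IH) (Lpe (K53.f724058 IH) (Lpr_ct (f954873 IH) (Lpn v46719))))
theorem f954878 : Led Lsl_ft (LP (LK LD1_c11 LD2_c11 LD3_c14)) = v46719 :=
  Lgr Lrot48 (Lpr_ff (f954876 IH) (Lpn v46719))
theorem f622337 : Led Lsl_et (LP (LK LD1_c12 LD2_c4 LD3_c25)) = (LP (LK LD1_c11 LD2_c11 LD3_c14)) :=
  Lgr Lrot158 (Lpe (K24.f413539 IH) (Lpr_ef (K55.f622332 IH) (Lpe (f622336 IH) (Lpn (LP (LK LD1_c11 LD2_c11 LD3_c14))))))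
theorem f553572 : Led Lsl_dt (LP (LK LD1_c3 LD2_c4 LD3_c51)) = (LP (LK LD1_c5 LD2_c39 LD3_c59)) :=
  Lgr Lrot57 (Lpr_gf (K36.f420991 IH) (Lpe (K16.f68594 IH) (Lpr_gt (K10.f68579 IH) (Lpr_dt (K10.f60122 IH) (Lpr_gt (K10.f60159 IH) (Lpr_dt (K16.f68595 IH) (Lpr_cf (K16.f268508 IH) (Lpe (K16.f68782 IH) (Lpr_gf (K40.f553564 IH) (Lpn (LP (LK LD1_c5 LD2_c39 LD3_c59))))))))))))
theorem f268676 : Led Lsl_ff (LP (LK LD1_c4 LD2_c32 LD3_c21)) = (LP (LK LD1_c5 LD2_c46 LD3_c56)) :=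
  Lgr Lrot23 (Lpr_ct (K15.f26946 IH) (Lpr_ft (K16.f268674 IH) (Lpr_ct (K37.f68729 IH) (Lpn (LP (LK LD1_c5 LD2_c46 LD3_c56))))))
theorem f553568 : Led Lsl_gt (LP (LK LD1_c5 LD2_c46 LD3_c56)) = (LP (LK LD1_c5 LD2_c39 LD3_c59)) :=
  Lgr Lrot5 (Lpe (f268676 IH) (Lpr_at (K40.f268668 IH) (Lpr_gf (K40.f553564 IH) (Lpn (LP (LK LD1_c5 LD2_c39 LD3_c59))))))
theorem f175866 : Led Lsl_et (LP (LK LD1_c5 LD2_c46 LD3_c54)) = (LP (LK LD1_c11 LD2_c23 LD3_c58)) :=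
  Lre_e IH (LK LD1_c5 LD2_c46 LD3_c54) (LK LD1_c11 LD2_c23 LD3_c58) Lrfl Lrfl
theorem f622339 : Led Lsl_gf (LP (LK LD1_c11 LD2_c23 LD3_c58)) = (LP (LK LD1_c11 LD2_c11 LD3_c14)) :=
  Lgr Lrot141 (Lpe (f175866 IH) (Lpr_dt (K16.f175856 IH) (Lpr_gt (f553568 IH) (Lpe (f553572 IH) (Lpr_et (K17.f73903 IH) (Lpe (K24.f141015 IH) (Lpr_dt (K24.f415000 IH) (Lpe (K24.f415056 IH) (Lpe (K24.f416601 IH) (Lpr_et (f622337 IH) (Lpn (LP (LK LD1_c11 LD2_c11 LD3_c14)))))))))))))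
theorem f724067 : Led Lsl_af (LP (LK LD1_c11 LD2_c10 LD3_c56)) = (LP (LK LD1_c5 LD2_c40 LD3_c11)) :=
  Lgr Lrot0 (Lpr_at (K53.f724064 IH) (Lpn (LP (LK LD1_c5 LD2_c40 LD3_c11))))
theorem f724066 : Led Lsl_ct (LP (LK LD1_c11 LD2_c11 LD3_c11)) = (LP (LK LD1_c5 LD2_c40 LD3_c11)) :=
  Lre_c IH (LK LD1_c11 LD2_c11 LD3_c11) (LK LD1_c5 LD2_c40 LD3_c11) Lrfl Lrfl
theorem f954874 : Led Lsl_af (LP (LK LD1_c11 LD2_c11 LD3_c11)) = v46719 :=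
  Lgr Lrot68 (Lpr_ct (f724066 IH) (Lpe (f724067 IH) (Lpr_ct (f954873 IH) (Lpn v46719))))
theorem f954879 : Led Lsl_gt (LP (LK LD1_c11 LD2_c23 LD3_c58)) = (LP (LK LD1_c11 LD2_c11 LD3_c11)) :=
  Lgr Lrot46 (Lpr_gf (f622339 IH) (Lpr_ft (f954878 IH) (Lpe (f954874 IH) (Lpn (LP (LK LD1_c11 LD2_c11 LD3_c11))))))
theorem f954880 : Led Lsl_gt (LP (LK LD1_c11 LD2_c23 LD3_c58)) = (LP (LK LD1_c11 LD2_c11 LD3_c11)) :=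
  Leop (Lpe (f954879 IH) (Lpn (LP (LK LD1_c11 LD2_c23 LD3_c58))))
theorem seed_2763 : LEOK LG_g (LK LD1_c11 LD2_c23 LD3_c58) :=
  Leoe_g (LK LD1_c11 LD2_c23 LD3_c58) (f954880 IH)
def v46727 : LQ := Led Lsl_ft (LP (LK LD1_c11 LD2_c10 LD3_c60))
theorem f954911 : Led Lsl_ft (LP (LK LD1_c11 LD2_c10 LD3_c60)) = v46727 :=
  Lrfl
theorem f424408 : Led Lsl_ft (LP (LK LD1_c20 LD2_c15 LD3_c1)) = (LP (LK LD1_c11 LD2_c18 LD3_c31)) :=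
  Lre_f IH (LK LD1_c20 LD2_c15 LD3_c1) (LK LD1_c11 LD2_c18 LD3_c31) Lrfl Lrfl
theorem f954913 : Led Lsl_cf (LP (LK LD1_c20 LD2_c15 LD3_c1)) = v46727 :=
  Lgr Lrot108 (Lpr_ft (f424408 IH) (Lpe (K39.f424398 IH) (Lpr_ft (f954911 IH) (Lpn v46727))))
def v15463 : LQ := Led Lsl_ft (LP (LK LD1_c5 LD2_c40 LD3_c6))
theorem f737508 : Led Lsl_ft (LP (LK LD1_c5 LD2_c40 LD3_c6)) = v15463 :=
  Lrfl
theorem f737510 : Led Lsl_ff (LP (LK LD1_c5 LD2_c40 LD3_c6)) = v15463 :=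
  Lgr Lrot3 (Lpr_ft (f737508 IH) (Lpn v15463))
theorem f954912 : Led Lsl_bf v15463 = v46727 :=
  Lgr Lrot61 (Lpe (f737510 IH) (Lpr_bt (K68.f424411 IH) (Lpr_ft (f954911 IH) (Lpn v46727))))
theorem f553554 : Led Lsl_et (LP (LK LD1_c16 LD2_c49 LD3_c38)) = (LP (LK LD1_c9 LD2_c0 LD3_c11)) :=
  Lre_e IH (LK LD1_c16 LD2_c49 LD3_c38) (LK LD1_c9 LD2_c0 LD3_c11) Lrfl Lrfl
theorem f553553 : Led Lsl_et (LP (LK LD1_c5 LD2_c40 LD3_c5)) = (LP (LK LD1_c11 LD2_c11 LD3_c0)) :=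
  Lre_e IH (LK LD1_c5 LD2_c40 LD3_c5) (LK LD1_c11 LD2_c11 LD3_c0) Lrfl Lrfl
theorem f606351 : Led Lsl_af (LP (LK LD1_c16 LD2_c49 LD3_c38)) = (LP (LK LD1_c11 LD2_c11 LD3_c0)) :=
  Lgr Lrot50 (Lpr_et (f553554 IH) (Lpr_at (K50.f606345 IH) (Lpr_et (f553553 IH) (Lpn (LP (LK LD1_c11 LD2_c11 LD3_c0))))))
theorem f418791 : Led Lsl_ct (LP (LK LD1_c16 LD2_c49 LD3_c38)) = (LP (LK LD1_c9 LD2_c0 LD3_c12)) :=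
  Lre_c IH (LK LD1_c16 LD2_c49 LD3_c38) (LK LD1_c9 LD2_c0 LD3_c12) Lrfl Lrfl
theorem f424401 : Led Lsl_ct (LP (LK LD1_c5 LD2_c40 LD3_c6)) = (LP (LK LD1_c11 LD2_c11 LD3_c0)) :=
  Lre_c IH (LK LD1_c5 LD2_c40 LD3_c6) (LK LD1_c11 LD2_c11 LD3_c0) Lrfl Lrfl
theorem f606390 : Led Lsl_at (LP (LK LD1_c9 LD2_c0 LD3_c12)) = (LP (LK LD1_c5 LD2_c40 LD3_c6)) :=
  Lgr Lrot107 (Lpe (f418791 IH) (Lpr_af (f606351 IH) (Lpe (f424401 IH) (Lpn (LP (LK LD1_c5 LD2_c40 LD3_c6))))))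
theorem f606392 : Led Lsl_af (LP (LK LD1_c9 LD2_c0 LD3_c12)) = (LP (LK LD1_c5 LD2_c40 LD3_c6)) :=
  Lgr Lrot0 (Lpr_at (f606390 IH) (Lpn (LP (LK LD1_c5 LD2_c40 LD3_c6))))
theorem f896583 : Led Lsl_gt v15463 = K73.v37802 :=
  Lgr Lrot5 (Lpe (f737510 IH) (Lpe (f606392 IH) (Lpr_gf (K73.f896582 IH) (Lpn K73.v37802))))
theorem f446621 : Led Lsl_bt (LP (LK LD1_c1 LD2_c20 LD3_c32)) = (LP (LK LD1_c2 LD2_c48 LD3_c18)) :=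
  Lre_b IH (LK LD1_c1 LD2_c20 LD3_c32) (LK LD1_c2 LD2_c48 LD3_c18) Lrfl Lrfl
theorem f698177 : Led Lsl_ct (LP (LK LD1_c5 LD2_c44 LD3_c61)) = (LP (LK LD1_c11 LD2_c20 LD3_c21)) :=
  Lre_c IH (LK LD1_c5 LD2_c44 LD3_c61) (LK LD1_c11 LD2_c20 LD3_c21) Lrfl Lrfl
theorem f954920 : Led Lsl_gf (LP (LK LD1_c20 LD2_c15 LD3_c1)) = (LP (LK LD1_c11 LD2_c20 LD3_c21)) :=
  Lgr Lrot129 (Lpr_cf (f954913 IH) (Lpe (f954912 IH) (Lpr_gt (f896583 IH) (Lpqs (K73.f931520 IH) (Lpqs (K73.f920048 IH) (Lpe (K73.f876210 IH) (Lpq (K71.f739639 IH) (Lpe (K73.f698173 IH) (Lpr_gt (K71.f9224 IH) (Lpe (K0.f9151 IH) (Lpr_bt (f446621 IH) (Lpr_gt (K56.f382444 IH) (Lpr_ct (f698177 IH) (Lpn (LP (LK LD1_c11 LD2_c20 LD3_c21))))))))))))))))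
theorem f954921 : Led Lsl_gt (LP (LK LD1_c11 LD2_c20 LD3_c21)) = (LP (LK LD1_c20 LD2_c15 LD3_c1)) :=
  Leop (Lpr_gf (f954920 IH) (Lpn (LP (LK LD1_c11 LD2_c20 LD3_c21))))
theorem seed_2764 : LEOK LG_g (LK LD1_c11 LD2_c20 LD3_c21) :=
  Leoe_g (LK LD1_c11 LD2_c20 LD3_c21) (f954921 IH)
def v46728 : LQ := Led Lsl_gt (LP (LK LD1_c11 LD2_c10 LD3_c61))
theorem f954926 : Led Lsl_gt (LP (LK LD1_c11 LD2_c10 LD3_c61)) = v46728 :=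
  Lrfl
def v36416 : LQ := Led Lsl_dt (LP (LK LD1_c8 LD2_c25 LD3_c19))
theorem f885496 : Led Lsl_dt (LP (LK LD1_c8 LD2_c25 LD3_c19)) = v36416 :=
  Lrfl
theorem f246648 : Led Lsl_dt (LP (LK LD1_c8 LD2_c25 LD3_c20)) = (LP (LK LD1_c4 LD2_c13 LD3_c4)) :=
  Lre_d IH (LK LD1_c8 LD2_c25 LD3_c20) (LK LD1_c4 LD2_c13 LD3_c4) Lrfl Lrfl
theorem f885498 : Led Lsl_bf (LP (LK LD1_c8 LD2_c25 LD3_c20)) = v36416 :=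
  Lgr Lrot93 (Lpr_dt (f246648 IH) (Lpr_bt (K21.f220127 IH) (Lpr_dt (f885496 IH) (Lpn v36416))))
theorem f954928 : Led Lsl_ct v36416 = v46728 :=
  Lgr Lrot10 (Lpe (f885498 IH) (Lpe (K19.f270730 IH) (Lpr_ct (K27.f270765 IH) (Lpe (K16.f258316 IH) (Lpr_cf (K27.f383247 IH) (Lpr_bt (K27.f381628 IH) (Lpr_gt (K27.f381606 IH) (Lpe (K68.f381619 IH) (Lpe (K68.f424393 IH) (Lpr_gt (f954926 IH) (Lpn v46728)))))))))))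
theorem f954930 : Led Lsl_cf v36416 = v46728 :=
  Lgr Lrot11 (Lpr_ct (f954928 IH) (Lpn v46728))
theorem f954934 : Led Lsl_dt (LP (LK LD1_c12 LD2_c8 LD3_c60)) = v46728 :=
  Lgr Lrot182 (Lpe (K52.f73905 IH) (Lpe (K52.f73165 IH) (Lpe (K17.f60725 IH) (Lpe (K24.f59655 IH) (Lpq (K50.f537771 IH) (Lpe (K50.f452501 IH) (Lpe (K35.f165214 IH) (Lpe (K12.f165209 IH) (Lpe (K9.f9490 IH) (Lpe (K9.f9486 IH) (Lpe (K9.f9467 IH) (Lpe (K12.f42879 IH) (Lpe (K12.f42881 IH) (Lpe (K12.f227969 IH) (Lpe (K16.f43210 IH) (Lpe (K16.f232889 IH) (Lpe (K16.f232890 IH) (Lpr_gf (K19.f270730 IH) (Lpr_bf (f885498 IH) (Lpr_cf (f954930 IH) (Lpn v46728)))))))))))))))))))))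
theorem f250798 : Led Lsl_dt (LP (LK LD1_c16 LD2_c7 LD3_c35)) = (LP (LK LD1_c8 LD2_c36 LD3_c9)) :=
  Lre_d IH (LK LD1_c16 LD2_c7 LD3_c35) (LK LD1_c8 LD2_c36 LD3_c9) Lrfl Lrfl
theorem f885500 : Led Lsl_ff (LP (LK LD1_c16 LD2_c7 LD3_c35)) = v36416 :=
  Lgr Lrot19 (Lpr_dt (f250798 IH) (Lpe (K21.f329338 IH) (Lpr_dt (f885496 IH) (Lpn v36416))))
theorem f885503 : Led Lsl_ft (LP (LK LD1_c16 LD2_c7 LD3_c35)) = v36416 :=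
  Lgr Lrot48 (Lpr_ff (f885500 IH) (Lpn v36416))
theorem f250799 : Led Lsl_ct (LP (LK LD1_c26 LD2_c4 LD3_c2)) = (LP (LK LD1_c16 LD2_c7 LD3_c35)) :=
  Lre_c IH (LK LD1_c26 LD2_c4 LD3_c2) (LK LD1_c16 LD2_c7 LD3_c35) Lrfl Lrfl
theorem f954931 : Led Lsl_ff (LP (LK LD1_c26 LD2_c4 LD3_c2)) = v46728 :=
  Lgr Lrot23 (Lpr_ct (f250799 IH) (Lpr_ft (f885503 IH) (Lpr_ct (f954928 IH) (Lpn v46728))))
theorem f172170 : Led Lsl_bt (LP (LK LD1_c5 LD2_c40 LD3_c55)) = (LP (LK LD1_c11 LD2_c12 LD3_c22)) :=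
  Lre_b IH (LK LD1_c5 LD2_c40 LD3_c55) (LK LD1_c11 LD2_c12 LD3_c22) Lrfl Lrfl
theorem f172171 : Led Lsl_gt (LP (LK LD1_c11 LD2_c12 LD3_c22)) = (LP (LK LD1_c20 LD2_c6 LD3_c58)) :=
  Lre_g IH (LK LD1_c11 LD2_c12 LD3_c22) (LK LD1_c20 LD2_c6 LD3_c58) Lrfl Lrfl
theorem f290232 : Led Lsl_bt (LP (LK LD1_c16 LD2_c7 LD3_c35)) = (LP (LK LD1_c8 LD2_c36 LD3_c10)) :=
  Lre_b IH (LK LD1_c16 LD2_c7 LD3_c35) (LK LD1_c8 LD2_c36 LD3_c10) Lrfl Lrfl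
theorem f622389 : Led Lsl_dt (LP (LK LD1_c20 LD2_c6 LD3_c58)) = (LP (LK LD1_c26 LD2_c4 LD3_c2)) :=
  Lgr Lrot182 (Lpe (f172171 IH) (Lpe (f172170 IH) (Lpe (K17.f172158 IH) (Lpe (K9.f172153 IH) (Lpr_gf (K38.f452587 IH) (Lpq (K35.f537166 IH) (Lpe (K38.f225162 IH) (Lpe (K12.f20694 IH) (Lpe (K9.f6855 IH) (Lpe (K9.f6854 IH) (Lpe (K9.f28954 IH) (Lpe (K1.f28948 IH) (Lpe (K1.f39170 IH) (Lpe (K12.f216699 IH) (Lpe (K12.f216736 IH) (Lpe (K17.f216730 IH) (Lpe (K23.f216745 IH) (Lpr_gf (K23.f326046 IH) (Lpe (f290232 IH) (Lpe (f250799 IH) (Lpn (LP (LK LD1_c26 LD2_c4 LD3_c2)))))))))))))))))))))))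
theorem f622391 : Led Lsl_df (LP (LK LD1_c20 LD2_c6 LD3_c58)) = (LP (LK LD1_c26 LD2_c4 LD3_c2)) :=
  Lgr Lrot38 (Lpr_dt (f622389 IH) (Lpn (LP (LK LD1_c26 LD2_c4 LD3_c2))))
theorem f954936 : Led Lsl_ff (LP (LK LD1_c12 LD2_c8 LD3_c60)) = (LP (LK LD1_c20 LD2_c6 LD3_c58)) :=
  Lgr Lrot19 (Lpr_dt (f954934 IH) (Lpe (f954931 IH) (Lpe (f622391 IH) (Lpn (LP (LK LD1_c20 LD2_c6 LD3_c58))))))
theorem f954937 : Led Lsl_ft (LP (LK LD1_c20 LD2_c6 LD3_c58)) = (LP (LK LD1_c12 LD2_c8 LD3_c60)) :=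
  Leop (Lpr_ff (f954936 IH) (Lpn (LP (LK LD1_c20 LD2_c6 LD3_c58))))
theorem seed_2765 : LEOK LG_f (LK LD1_c20 LD2_c6 LD3_c58) :=
  Leoe_f (LK LD1_c20 LD2_c6 LD3_c58) (f954937 IH)
theorem f414858 : Led Lsl_et (LP (LK LD1_c12 LD2_c55 LD3_c41)) = (LP (LK LD1_c22 LD2_c5 LD3_c30)) :=
  Lre_e IH (LK LD1_c12 LD2_c55 LD3_c41) (LK LD1_c22 LD2_c5 LD3_c30) Lrfl Lrfl
theorem f414853 : Led Lsl_df (LP (LK LD1_c12 LD2_c55 LD3_c41)) = (LP (LK LD1_c11 LD2_c30 LD3_c54)) :=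
  Lgr Lrot38 (Lpr_dt (K40.f414814 IH) (Lpn (LP (LK LD1_c11 LD2_c30 LD3_c54))))
theorem f73884 : Led Lsl_ct (LP (LK LD1_c12 LD2_c8 LD3_c59)) = (LP (LK LD1_c6 LD2_c15 LD3_c34)) :=
  Lre_c IH (LK LD1_c12 LD2_c8 LD3_c59) (LK LD1_c6 LD2_c15 LD3_c34) Lrfl Lrfl
theorem f73885 : Led Lsl_ct (LP (LK LD1_c11 LD2_c30 LD3_c54)) = (LP (LK LD1_c20 LD2_c27 LD3_c54)) :=
  Lre_c IH (LK LD1_c11 LD2_c30 LD3_c54) (LK LD1_c20 LD2_c27 LD3_c54) Lrfl Lrfl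
theorem f73886 : Led Lsl_et (LP (LK LD1_c6 LD2_c15 LD3_c34)) = (LP (LK LD1_c11 LD2_c30 LD3_c54)) :=
  Lgr Lrot158 (Lpe (f73884 IH) (Lpr_ef (K17.f73880 IH) (Lpe (f73885 IH) (Lpn (LP (LK LD1_c11 LD2_c30 LD3_c54))))))
theorem f553666 : Led Lsl_et (LP (LK LD1_c20 LD2_c5 LD3_c36)) = (LP (LK LD1_c11 LD2_c10 LD3_c51)) :=
  Lre_e IH (LK LD1_c20 LD2_c5 LD3_c36) (LK LD1_c11 LD2_c10 LD3_c51) Lrfl Lrfl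
theorem f553667 : Led Lsl_df (LP (LK LD1_c6 LD2_c15 LD3_c34)) = (LP (LK LD1_c11 LD2_c10 LD3_c51)) :=
  Lgr Lrot70 (Lpr_et (f73886 IH) (Lpe (f414853 IH) (Lpr_et (f414858 IH) (Lpr_dt (K40.f553612 IH) (Lpr_et (f553666 IH) (Lpn (LP (LK LD1_c11 LD2_c10 LD3_c51))))))))
def v46715 : LQ := Led Lsl_gf (LP (LK LD1_c11 LD2_c10 LD3_c51))
theorem f954817 : Led Lsl_gf (LP (LK LD1_c11 LD2_c10 LD3_c51)) = v46715 :=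
  Lrfl
theorem f494076 : Led Lsl_bt (LP (LK LD1_c5 LD2_c39 LD3_c59)) = (LP (LK LD1_c11 LD2_c10 LD3_c51)) :=
  Lre_b IH (LK LD1_c5 LD2_c39 LD3_c59) (LK LD1_c11 LD2_c10 LD3_c51) Lrfl Lrfl
theorem f619678 : Led Lsl_bf (LP (LK LD1_c19 LD2_c39 LD3_c2)) = (LP (LK LD1_c19 LD2_c20 LD3_c59)) :=
  Lgr Lrot24 (Lpr_bt (K71.f619676 IH) (Lpn (LP (LK LD1_c19 LD2_c20 LD3_c59))))
theorem f174166 : Led Lsl_at (LP (LK LD1_c19 LD2_c46 LD3_c50)) = (LP (LK LD1_c10 LD2_c57 LD3_c6)) :=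
  Lre_a IH (LK LD1_c19 LD2_c46 LD3_c50) (LK LD1_c10 LD2_c57 LD3_c6) Lrfl Lrfl
theorem f619706 : Led Lsl_ft (LP (LK LD1_c19 LD2_c39 LD3_c2)) = (LP (LK LD1_c19 LD2_c46 LD3_c50)) :=
  Lgr Lrot101 (Lpe (K54.f401183 IH) (Lpr_ff (K54.f619704 IH) (Lpe (f174166 IH) (Lpn (LP (LK LD1_c19 LD2_c46 LD3_c50))))))
theorem f619993 : Led Lsl_bt (LP (LK LD1_c19 LD2_c46 LD3_c50)) = (LP (LK LD1_c17 LD2_c53 LD3_c19)) :=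
  Lgr Lrot35 (Lpe (f619706 IH) (Lpr_bf (f619678 IH) (Lpr_ff (K71.f619991 IH) (Lpn (LP (LK LD1_c17 LD2_c53 LD3_c19))))))
theorem f180446 : Led Lsl_ct (LP (LK LD1_c5 LD2_c37 LD3_c14)) = (LP (LK LD1_c2 LD2_c44 LD3_c33)) :=
  Lre_c IH (LK LD1_c5 LD2_c37 LD3_c14) (LK LD1_c2 LD2_c44 LD3_c33) Lrfl Lrfl
theorem f422834 : Led Lsl_bt (LP (LK LD1_c4 LD2_c33 LD3_c2)) = (LP (LK LD1_c9 LD2_c3 LD3_c19)) :=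
  Lre_b IH (LK LD1_c4 LD2_c33 LD3_c2) (LK LD1_c9 LD2_c3 LD3_c19) Lrfl Lrfl
theorem f546688 : Led Lsl_gt (LP (LK LD1_c16 LD2_c54 LD3_c6)) = (LP (LK LD1_c9 LD2_c3 LD3_c19)) :=
  Lre_g IH (LK LD1_c16 LD2_c54 LD3_c6) (LK LD1_c9 LD2_c3 LD3_c19) Lrfl Lrfl
theorem f546689 : Led Lsl_bt (LP (LK LD1_c11 LD2_c0 LD3_c14)) = (LP (LK LD1_c16 LD2_c54 LD3_c6)) :=
  Lgr Lrot22 (Lpr_ct (K71.f392060 IH) (Lpe (K54.f332398 IH) (Lpr_cf (K31.f387673 IH) (Lpe (K31.f173017 IH) (Lpe (K54.f180394 IH) (Lpr_ct (f180446 IH) (Lpr_gf (K37.f546683 IH) (Lpe (K52.f424147 IH) (Lpr_bt (f422834 IH) (Lpe (f546688 IH) (Lpn (LP (LK LD1_c16 LD2_c54 LD3_c6)))))))))))))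
theorem f580466 : Led Lsl_ct (LP (LK LD1_c4 LD2_c33 LD3_c3)) = (LP (LK LD1_c9 LD2_c3 LD3_c20)) :=
  Lre_c IH (LK LD1_c4 LD2_c33 LD3_c3) (LK LD1_c9 LD2_c3 LD3_c20) Lrfl Lrfl
theorem f580467 : Led Lsl_bt (LP (LK LD1_c9 LD2_c3 LD3_c20)) = (LP (LK LD1_c16 LD2_c54 LD3_c8)) :=
  Lre_b IH (LK LD1_c9 LD2_c3 LD3_c20) (LK LD1_c16 LD2_c54 LD3_c8) Lrfl Lrfl
theorem f68772 : Led Lsl_bt (LP (LK LD1_c20 LD2_c21 LD3_c51)) = (LP (LK LD1_c11 LD2_c24 LD3_c0)) :=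
  Lre_b IH (LK LD1_c20 LD2_c21 LD3_c51) (LK LD1_c11 LD2_c24 LD3_c0) Lrfl Lrfl
theorem f580468 : Led Lsl_ct (LP (LK LD1_c16 LD2_c54 LD3_c8)) = (LP (LK LD1_c20 LD2_c21 LD3_c51)) :=
  Lgr Lrot83 (Lpe (f580467 IH) (Lpe (f580466 IH) (Lpr_bf (K66.f580463 IH) (Lpe (K37.f68742 IH) (Lpe (f68772 IH) (Lpn (LP (LK LD1_c20 LD2_c21 LD3_c51))))))))
theorem f580479 : Led Lsl_et (LP (LK LD1_c9 LD2_c3 LD3_c19)) = (LP (LK LD1_c16 LD2_c54 LD3_c8)) :=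
  Lre_e IH (LK LD1_c9 LD2_c3 LD3_c19) (LK LD1_c16 LD2_c54 LD3_c8) Lrfl Lrfl
theorem f175874 : Led Lsl_et (LP (LK LD1_c20 LD2_c21 LD3_c51)) = (LP (LK LD1_c11 LD2_c23 LD3_c61)) :=
  Lre_e IH (LK LD1_c20 LD2_c21 LD3_c51) (LK LD1_c11 LD2_c23 LD3_c61) Lrfl Lrfl
theorem f580480 : Led Lsl_cf (LP (LK LD1_c9 LD2_c3 LD3_c19)) = (LP (LK LD1_c11 LD2_c23 LD3_c61)) :=
  Lgr Lrot39 (Lpr_et (f580479 IH) (Lpr_ct (f580468 IH) (Lpr_et (f175874 IH) (Lpn (LP (LK LD1_c11 LD2_c23 LD3_c61))))))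
theorem f68791 : Led Lsl_bt (LP (LK LD1_c11 LD2_c23 LD3_c61)) = (LP (LK LD1_c5 LD2_c46 LD3_c56)) :=
  Lre_b IH (LK LD1_c11 LD2_c23 LD3_c61) (LK LD1_c5 LD2_c46 LD3_c56) Lrfl Lrfl
theorem f390211 : Led Lsl_bt (LP (LK LD1_c26 LD2_c46 LD3_c5)) = (LP (LK LD1_c16 LD2_c47 LD3_c57)) :=
  Lre_b IH (LK LD1_c26 LD2_c46 LD3_c5) (LK LD1_c16 LD2_c47 LD3_c57) Lrfl Lrfl
theorem f580487 : Led Lsl_cf (LP (LK LD1_c16 LD2_c54 LD3_c6)) = (LP (LK LD1_c26 LD2_c46 LD3_c5)) :=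
  Lgr Lrot160 (Lpr_gt (f546688 IH) (Lpr_cf (f580480 IH) (Lpr_bt (f68791 IH) (Lpr_gt (f553568 IH) (Lpr_ct (K40.f494075 IH) (Lpq (K40.f537930 IH) (Lpe (K40.f496019 IH) (Lpqs (K37.f537458 IH) (Lpe (K52.f319453 IH) (Lpr_bt (K52.f390206 IH) (Lpr_gt (K54.f180425 IH) (Lpe (f390211 IH) (Lpn (LP (LK LD1_c26 LD2_c46 LD3_c5)))))))))))))))
theorem f580490 : Led Lsl_ct (LP (LK LD1_c16 LD2_c54 LD3_c6)) = (LP (LK LD1_c26 LD2_c46 LD3_c5)) :=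
  Lgr Lrot59 (Lpr_cf (f580487 IH) (Lpn (LP (LK LD1_c26 LD2_c46 LD3_c5))))
theorem f620151 : Led Lsl_cf (LP (LK LD1_c19 LD2_c46 LD3_c50)) = (LP (LK LD1_c16 LD2_c47 LD3_c57)) :=
  Lgr Lrot97 (Lpr_bt (f619993 IH) (Lpe (K54.f392049 IH) (Lpr_bt (f546689 IH) (Lpr_ct (f580490 IH) (Lpr_bt (f390211 IH) (Lpn (LP (LK LD1_c16 LD2_c47 LD3_c57))))))))
theorem f620153 : Led Lsl_df (LP (LK LD1_c19 LD2_c46 LD3_c50)) = (LP (LK LD1_c11 LD2_c3 LD3_c41)) :=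
  Lgr Lrot12 (Lpr_bt (f619993 IH) (Lpe (K71.f619983 IH) (Lpr_bt (f619963 IH) (Lpn (LP (LK LD1_c11 LD2_c3 LD3_c41))))))
theorem f384753 : Led Lsl_dt (LP (LK LD1_c19 LD2_c39 LD3_c2)) = (LP (LK LD1_c10 LD2_c52 LD3_c8)) :=
  Lre_d IH (LK LD1_c19 LD2_c39 LD3_c2) (LK LD1_c10 LD2_c52 LD3_c8) Lrfl Lrfl
theorem f620186 : Led Lsl_ft (LP (LK LD1_c19 LD2_c46 LD3_c50)) = (LP (LK LD1_c19 LD2_c39 LD3_c2)) :=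
  Lgr Lrot54 (Lpr_df (f620153 IH) (Lpr_ff (K54.f384751 IH) (Lpe (f384753 IH) (Lpn (LP (LK LD1_c19 LD2_c39 LD3_c2))))))
theorem f620188 : Led Lsl_gt (LP (LK LD1_c19 LD2_c46 LD3_c50)) = (LP (LK LD1_c19 LD2_c39 LD3_c4)) :=
  Lgr Lrot5 (Lpr_ft (f620186 IH) (Lpr_at (K54.f396790 IH) (Lpe (K54.f226579 IH) (Lpn (LP (LK LD1_c19 LD2_c39 LD3_c4))))))
def v45601 : LQ := Led Lsl_gf (LP (LK LD1_c10 LD2_c58 LD3_c8))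
theorem f950065 : Led Lsl_gf (LP (LK LD1_c10 LD2_c58 LD3_c8)) = v45601 :=
  Lrfl
theorem f174218 : Led Lsl_ct (LP (LK LD1_c10 LD2_c58 LD3_c8)) = (LP (LK LD1_c5 LD2_c33 LD3_c6)) :=
  Lre_c IH (LK LD1_c10 LD2_c58 LD3_c8) (LK LD1_c5 LD2_c33 LD3_c6) Lrfl Lrfl
theorem f950068 : Led Lsl_ct (LP (LK LD1_c19 LD2_c39 LD3_c4)) = v45601 :=
  Lgr Lrot152 (Lpe (f620188 IH) (Lpr_df (f620153 IH) (Lpr_gt (K30.f384744 IH) (Lpr_ct (K30.f384955 IH) (Lpr_gt (K30.f332102 IH) (Lpr_ct (K30.f235846 IH) (Lpr_df (K54.f390252 IH) (Lpe (f174218 IH) (Lpr_gf (f950065 IH) (Lpn v45601))))))))))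
theorem f950070 : Led Lsl_cf (LP (LK LD1_c19 LD2_c39 LD3_c4)) = v45601 :=
  Lgr Lrot11 (Lpr_ct (f950068 IH) (Lpn v45601))
theorem f954821 : Led Lsl_bt v45601 = v46715 :=
  Lgr Lrot22 (Lpe (f950070 IH) (Lpe (f620188 IH) (Lpr_cf (f620151 IH) (Lpe (K54.f180425 IH) (Lpe (K52.f390206 IH) (Lpr_ct (K52.f319453 IH) (Lpq (K37.f537458 IH) (Lpr_gf (K40.f496019 IH) (Lpqs (K40.f537930 IH) (Lpe (K40.f494075 IH) (Lpr_bt (f494076 IH) (Lpr_gf (f954817 IH) (Lpn v46715)))))))))))))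
theorem f954823 : Led Lsl_cf (LP (LK LD1_c25 LD2_c19 LD3_c1)) = v46715 :=
  Lgr Lrot97 (Lpr_bt (K68.f382477 IH) (Lpr_ct (K27.f382640 IH) (Lpe (K54.f396801 IH) (Lpr_ct (f950068 IH) (Lpr_bt (f954821 IH) (Lpn v46715))))))
theorem f562023 : Led Lsl_ff (LP (LK LD1_c20 LD2_c22 LD3_c23)) = (LP (LK LD1_c25 LD2_c19 LD3_c1)) :=
  Lgr Lrot3 (Lpr_ft (K68.f562019 IH) (Lpn (LP (LK LD1_c25 LD2_c19 LD3_c1))))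
theorem f562015 : Led Lsl_at (LP (LK LD1_c20 LD2_c22 LD3_c23)) = (LP (LK LD1_c15 LD2_c49 LD3_c11)) :=
  Lgr Lrot100 (Lpr_af (K40.f562013 IH) (Lpn (LP (LK LD1_c15 LD2_c49 LD3_c11))))
theorem f222909 : Led Lsl_gt (LP (LK LD1_c25 LD2_c45 LD3_c33)) = (LP (LK LD1_c15 LD2_c49 LD3_c11)) :=
  Lre_g IH (LK LD1_c25 LD2_c45 LD3_c33) (LK LD1_c15 LD2_c49 LD3_c11) Lrfl Lrfl
theorem f562027 : Led Lsl_gf (LP (LK LD1_c25 LD2_c45 LD3_c33)) = (LP (LK LD1_c25 LD2_c19 LD3_c1)) :=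
  Lgr Lrot47 (Lpr_gt (f222909 IH) (Lpe (f562015 IH) (Lpr_ff (f562023 IH) (Lpn (LP (LK LD1_c25 LD2_c19 LD3_c1))))))
theorem f220146 : Led Lsl_gt (LP (LK LD1_c15 LD2_c49 LD3_c30)) = (LP (LK LD1_c8 LD2_c25 LD3_c19)) :=
  Lre_g IH (LK LD1_c15 LD2_c49 LD3_c30) (LK LD1_c8 LD2_c25 LD3_c19) Lrfl Lrfl
theorem f954938 : Led Lsl_dt (LP (LK LD1_c25 LD2_c45 LD3_c33)) = (LP (LK LD1_c15 LD2_c49 LD3_c30)) :=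
  Lgr Lrot57 (Lpr_gf (f562027 IH) (Lpr_cf (f954823 IH) (Lpe (f954817 IH) (Lpe (f553667 IH) (Lpr_gt (K52.f73905 IH) (Lpr_dt (f954934 IH) (Lpe (f954928 IH) (Lpe (f885496 IH) (Lpe (f220146 IH) (Lpn (LP (LK LD1_c15 LD2_c49 LD3_c30))))))))))))
theorem f954939 : Led Lsl_dt (LP (LK LD1_c25 LD2_c45 LD3_c33)) = (LP (LK LD1_c15 LD2_c49 LD3_c30)) :=
  Leop (Lpe (f954938 IH) (Lpn (LP (LK LD1_c25 LD2_c45 LD3_c33))))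
theorem seed_2766 : LEOK LG_d (LK LD1_c25 LD2_c45 LD3_c33) :=
  Leoe_d (LK LD1_c25 LD2_c45 LD3_c33) (f954939 IH)
def v46765 : LQ := Led Lsl_gf (LP (LK LD1_c11 LD2_c11 LD3_c13))
theorem f955091 : Led Lsl_gf (LP (LK LD1_c11 LD2_c11 LD3_c13)) = v46765 :=
  Lrfl
theorem f597482 : Led Lsl_ft (LP (LK LD1_c10 LD2_c18 LD3_c17)) = (LP (LK LD1_c18 LD2_c43 LD3_c19)) :=
  Lre_f IH (LK LD1_c10 LD2_c18 LD3_c17) (LK LD1_c18 LD2_c43 LD3_c19) Lrfl Lrfl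
theorem f936578 : Led Lsl_gf (LP (LK LD1_c18 LD2_c23 LD3_c28)) = K73.v42878 :=
  Lgr Lrot76 (Lpe (K72.f597480 IH) (Lpe (f597482 IH) (Lpr_gt (K73.f936577 IH) (Lpn K73.v42878))))
def v42883 : LQ := Led Lsl_ft (LP (LK LD1_c10 LD2_c18 LD3_c19))
theorem f936665 : Led Lsl_ft (LP (LK LD1_c10 LD2_c18 LD3_c19)) = v42883 :=
  Lrfl
theorem f597890 : Led Lsl_ff (LP (LK LD1_c5 LD2_c14 LD3_c15)) = (LP (LK LD1_c5 LD2_c7 LD3_c4)) :=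
  Lgr Lrot19 (Lpr_dt (K50.f597881 IH) (Lpe (K44.f581883 IH) (Lpr_dt (K40.f558482 IH) (Lpn (LP (LK LD1_c5 LD2_c7 LD3_c4))))))
theorem f936668 : Led Lsl_ef (LP (LK LD1_c18 LD2_c23 LD3_c28)) = v42883 :=
  Lgr Lrot21 (Lpr_ft (K73.f597483 IH) (Lpr_et (K50.f387289 IH) (Lpe (f597890 IH) (Lpr_et (K50.f597883 IH) (Lpr_ft (f936665 IH) (Lpn v42883))))))
theorem f955094 : Led Lsl_dt v42883 = v46765 :=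
  Lgr Lrot136 (Lpe (f936668 IH) (Lpr_gf (f936578 IH) (Lpe (K73.f936579 IH) (Lpe (K73.f871468 IH) (Lpe (K66.f686153 IH) (Lpq (K53.f643543 IH) (Lpe (K56.f642447 IH) (Lpe (K53.f719151 IH) (Lpe (K70.f622473 IH) (Lpe (K70.f622467 IH) (Lpr_gf (f955091 IH) (Lpn v46765))))))))))))
theorem f936669 : Led Lsl_ff (LP (LK LD1_c10 LD2_c18 LD3_c19)) = v42883 :=
  Lgr Lrot3 (Lpr_ft (f936665 IH) (Lpn v42883))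
theorem f936673 : Led Lsl_gf (LP (LK LD1_c18 LD2_c23 LD3_c25)) = v42883 :=
  Lgr Lrot47 (Lpr_gt (K73.f541692 IH) (Lpe (K50.f597884 IH) (Lpr_ff (f936669 IH) (Lpn v42883))))
theorem f936651 : Led Lsl_ff (LP (LK LD1_c18 LD2_c23 LD3_c25)) = K73.v42881 :=
  Lgr Lrot3 (Lpr_ft (K73.f936648 IH) (Lpn K73.v42881))
theorem f936652 : Led Lsl_ct (LP (LK LD1_c18 LD2_c23 LD3_c25)) = (LP (LK LD1_c11 LD2_c40 LD3_c42)) :=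
  Lgr Lrot40 (Lpr_ff (f936651 IH) (Lpe (K73.f936645 IH) (Lpe (K66.f644313 IH) (Lpn (LP (LK LD1_c11 LD2_c40 LD3_c42))))))
theorem f383696 : Led Lsl_gt (LP (LK LD1_c11 LD2_c18 LD3_c56)) = (LP (LK LD1_c5 LD2_c44 LD3_c25)) :=
  Lre_g IH (LK LD1_c11 LD2_c18 LD3_c56) (LK LD1_c5 LD2_c44 LD3_c25) Lrfl Lrfl
theorem f955096 : Led Lsl_cf (LP (LK LD1_c11 LD2_c18 LD3_c56)) = (LP (LK LD1_c11 LD2_c11 LD3_c13)) :=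
  Lgr Lrot188 (Lpr_gt (f383696 IH) (Lpr_ct (K56.f383746 IH) (Lpr_dt (K55.f383755 IH) (Lpe (K66.f383751 IH) (Lpr_gf (K66.f749615 IH) (Lpe (f936652 IH) (Lpr_gf (f936673 IH) (Lpr_dt (f955094 IH) (Lpe (f955091 IH) (Lpn (LP (LK LD1_c11 LD2_c11 LD3_c13))))))))))))
theorem f955097 : Led Lsl_ct (LP (LK LD1_c11 LD2_c11 LD3_c13)) = (LP (LK LD1_c11 LD2_c18 LD3_c56)) :=
  Leop (Lpr_cf (f955096 IH) (Lpn (LP (LK LD1_c11 LD2_c11 LD3_c13))))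
theorem seed_2767 : LEOK LG_c (LK LD1_c11 LD2_c11 LD3_c13) :=
  Leoe_c (LK LD1_c11 LD2_c11 LD3_c13) (f955097 IH)
def v46774 : LQ := Led Lsl_ft (LP (LK LD1_c11 LD2_c11 LD3_c17))
theorem f955144 : Led Lsl_ft (LP (LK LD1_c11 LD2_c11 LD3_c17)) = v46774 :=
  Lrfl
theorem f382031 : Led Lsl_gt (LP (LK LD1_c11 LD2_c11 LD3_c17)) = (LP (LK LD1_c20 LD2_c5 LD3_c55)) :=
  Lre_g IH (LK LD1_c11 LD2_c11 LD3_c17) (LK LD1_c20 LD2_c5 LD3_c55) Lrfl Lrfl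
theorem f412002 : Led Lsl_et (LP (LK LD1_c11 LD2_c12 LD3_c52)) = (LP (LK LD1_c5 LD2_c41 LD3_c18)) :=
  Lre_e IH (LK LD1_c11 LD2_c12 LD3_c52) (LK LD1_c5 LD2_c41 LD3_c18) Lrfl Lrfl
theorem f382017 : Led Lsl_et (LP (LK LD1_c5 LD2_c40 LD3_c18)) = (LP (LK LD1_c11 LD2_c11 LD3_c17)) :=
  Lre_e IH (LK LD1_c5 LD2_c40 LD3_c18) (LK LD1_c11 LD2_c11 LD3_c17) Lrfl Lrfl
theorem f423305 : Led Lsl_af (LP (LK LD1_c11 LD2_c12 LD3_c52)) = (LP (LK LD1_c11 LD2_c11 LD3_c17)) :=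
  Lgr Lrot50 (Lpr_et (f412002 IH) (Lpr_at (K31.f423299 IH) (Lpr_et (f382017 IH) (Lpn (LP (LK LD1_c11 LD2_c11 LD3_c17))))))
theorem f423307 : Led Lsl_at (LP (LK LD1_c11 LD2_c12 LD3_c52)) = (LP (LK LD1_c11 LD2_c11 LD3_c17)) :=
  Lgr Lrot100 (Lpr_af (f423305 IH) (Lpn (LP (LK LD1_c11 LD2_c11 LD3_c17))))
theorem f423291 : Led Lsl_ft (LP (LK LD1_c20 LD2_c7 LD3_c20)) = (LP (LK LD1_c11 LD2_c12 LD3_c52)) :=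
  Lre_f IH (LK LD1_c20 LD2_c7 LD3_c20) (LK LD1_c11 LD2_c12 LD3_c52) Lrfl Lrfl
theorem f955145 : Led Lsl_af (LP (LK LD1_c20 LD2_c7 LD3_c20)) = v46774 :=
  Lgr Lrot45 (Lpr_ft (f423291 IH) (Lpr_at (f423307 IH) (Lpr_ft (f955144 IH) (Lpn v46774))))
theorem f955149 : Led Lsl_gt (LP (LK LD1_c20 LD2_c5 LD3_c55)) = (LP (LK LD1_c20 LD2_c7 LD3_c20)) :=
  Lgr Lrot46 (Lpe (f382031 IH) (Lpr_ft (f955144 IH) (Lpe (f955145 IH) (Lpn (LP (LK LD1_c20 LD2_c7 LD3_c20))))))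
theorem f955150 : Led Lsl_gt (LP (LK LD1_c20 LD2_c5 LD3_c55)) = (LP (LK LD1_c20 LD2_c7 LD3_c20)) :=
  Leop (Lpe (f955149 IH) (Lpn (LP (LK LD1_c20 LD2_c5 LD3_c55))))
theorem seed_2768 : LEOK LG_g (LK LD1_c20 LD2_c5 LD3_c55) :=
  Leoe_g (LK LD1_c20 LD2_c5 LD3_c55) (f955150 IH)
def v46790 : LQ := Led Lsl_et (LP (LK LD1_c11 LD2_c11 LD3_c31))
theorem f955238 : Led Lsl_et (LP (LK LD1_c11 LD2_c11 LD3_c31)) = v46790 :=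
  Lrfl
theorem f955242 : Led Lsl_ef (LP (LK LD1_c11 LD2_c11 LD3_c31)) = v46790 :=
  Lgr Lrot88 (Lpr_et (f955238 IH) (Lpn v46790))
theorem f579180 : Led Lsl_ft (LP (LK LD1_c5 LD2_c7 LD3_c54)) = (LP (LK LD1_c10 LD2_c6 LD3_c11)) :=
  Lre_f IH (LK LD1_c5 LD2_c7 LD3_c54) (LK LD1_c10 LD2_c6 LD3_c11) Lrfl Lrfl
theorem f579182 : Led Lsl_gf (LP (LK LD1_c18 LD2_c24 LD3_c41)) = (LP (LK LD1_c10 LD2_c6 LD3_c9)) :=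
  Lgr Lrot76 (Lpr_af (K51.f579174 IH) (Lpe (f579180 IH) (Lpr_gt (K73.f579181 IH) (Lpn (LP (LK LD1_c10 LD2_c6 LD3_c9))))))
theorem f579185 : Led Lsl_dt (LP (LK LD1_c18 LD2_c25 LD3_c7)) = (LP (LK LD1_c10 LD2_c6 LD3_c9)) :=
  Lre_d IH (LK LD1_c18 LD2_c25 LD3_c7) (LK LD1_c10 LD2_c6 LD3_c9) Lrfl Lrfl
theorem f705837 : Led Lsl_df (LP (LK LD1_c4 LD2_c49 LD3_c49)) = K51.v13909 :=
  Lgr Lrot38 (Lpr_dt (K51.f705834 IH) (Lpn K51.v13909))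
def v40111 : LQ := Led Lsl_at (LP (LK LD1_c9 LD2_c32 LD3_c17))
theorem f913901 : Led Lsl_at (LP (LK LD1_c9 LD2_c32 LD3_c17)) = v40111 :=
  Lrfl
theorem f913904 : Led Lsl_ef K51.v13909 = v40111 :=
  Lgr Lrot20 (Lpe (K70.f705835 IH) (Lpr_et (K52.f415300 IH) (Lpr_at (f913901 IH) (Lpn v40111))))
theorem f955241 : Led Lsl_df v40111 = v46790 :=
  Lgr Lrot70 (Lpe (f913904 IH) (Lpe (f705837 IH) (Lpr_et (K24.f416219 IH) (Lpe (K51.f710232 IH) (Lpr_et (f955238 IH) (Lpn v46790))))))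
def v46470 : LQ := Led Lsl_dt (LP (LK LD1_c11 LD2_c7 LD3_c27))
theorem f953805 : Led Lsl_dt (LP (LK LD1_c11 LD2_c7 LD3_c27)) = v46470 :=
  Lrfl
theorem f953806 : Led Lsl_df (LP (LK LD1_c11 LD2_c7 LD3_c27)) = v46470 :=
  Lgr Lrot38 (Lpr_dt (f953805 IH) (Lpn v46470))
theorem f380438 : Led Lsl_gt (LP (LK LD1_c11 LD2_c7 LD3_c27)) = (LP (LK LD1_c5 LD2_c38 LD3_c5)) :=
  Lre_g IH (LK LD1_c11 LD2_c7 LD3_c27) (LK LD1_c5 LD2_c38 LD3_c5) Lrfl Lrfl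
theorem f334910 : Led Lsl_et (LP (LK LD1_c9 LD2_c51 LD3_c12)) = (LP (LK LD1_c5 LD2_c0 LD3_c25)) :=
  Lre_e IH (LK LD1_c9 LD2_c51 LD3_c12) (LK LD1_c5 LD2_c0 LD3_c25) Lrfl Lrfl
theorem f913906 : Led Lsl_et K51.v13909 = v40111 :=
  Lgr Lrot87 (Lpr_ef (f913904 IH) (Lpn v40111))
theorem f953807 : Led Lsl_gt v40111 = v46470 :=
  Lgr Lrot137 (Lpe (f913906 IH) (Lpe (f705837 IH) (Lpqs (K51.f707379 IH) (Lpe (K51.f640496 IH) (Lpr_df (K52.f640499 IH) (Lpe (K52.f640500 IH) (Lpr_gf (K38.f544935 IH) (Lpe (f334910 IH) (Lpr_dt (K36.f538938 IH) (Lpe (f380438 IH) (Lpr_df (f953806 IH) (Lpn v46470))))))))))))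
theorem f953789 : Led Lsl_et (LP (LK LD1_c11 LD2_c7 LD3_c27)) = (LP (LK LD1_c20 LD2_c0 LD3_c54)) :=
  Lre_e IH (LK LD1_c11 LD2_c7 LD3_c27) (LK LD1_c20 LD2_c0 LD3_c54) Lrfl Lrfl
theorem f955247 : Led Lsl_gf (LP (LK LD1_c18 LD2_c25 LD3_c7)) = (LP (LK LD1_c20 LD2_c0 LD3_c54)) :=
  Lgr Lrot138 (Lpr_dt (f579185 IH) (Lpe (f579182 IH) (Lpe (K51.f589528 IH) (Lpr_et (K43.f557235 IH) (Lpr_gt (K51.f589487 IH) (Lpr_ef (f955242 IH) (Lpe (f955241 IH) (Lpr_gt (f953807 IH) (Lpe (f953805 IH) (Lpr_et (f953789 IH) (Lpn (LP (LK LD1_c20 LD2_c0 LD3_c54)))))))))))))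
theorem f955248 : Led Lsl_gt (LP (LK LD1_c20 LD2_c0 LD3_c54)) = (LP (LK LD1_c18 LD2_c25 LD3_c7)) :=
  Leop (Lpr_gf (f955247 IH) (Lpn (LP (LK LD1_c20 LD2_c0 LD3_c54))))
theorem seed_2769 : LEOK LG_g (LK LD1_c20 LD2_c0 LD3_c54) :=
  Leoe_g (LK LD1_c20 LD2_c0 LD3_c54) (f955248 IH)
def v46793 : LQ := Led Lsl_gf (LP (LK LD1_c11 LD2_c11 LD3_c37))
theorem f955263 : Led Lsl_gf (LP (LK LD1_c11 LD2_c11 LD3_c37)) = v46793 :=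
  Lrfl
theorem f579228 : Led Lsl_af (LP (LK LD1_c11 LD2_c11 LD3_c37)) = (LP (LK LD1_c11 LD2_c7 LD3_c13)) :=
  Lgr Lrot0 (Lpr_at (K43.f579212 IH) (Lpn (LP (LK LD1_c11 LD2_c7 LD3_c13))))
def v46458 : LQ := Led Lsl_ft (LP (LK LD1_c11 LD2_c7 LD3_c13))
theorem f953754 : Led Lsl_ft (LP (LK LD1_c11 LD2_c7 LD3_c13)) = v46458 :=
  Lrfl
theorem f953758 : Led Lsl_ff (LP (LK LD1_c11 LD2_c7 LD3_c13)) = v46458 :=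
  Lgr Lrot3 (Lpr_ft (f953754 IH) (Lpn v46458))
theorem f955264 : Led Lsl_gt v46458 = v46793 :=
  Lgr Lrot5 (Lpe (f953758 IH) (Lpe (f579228 IH) (Lpr_gf (f955263 IH) (Lpn v46793))))
theorem f953761 : Led Lsl_ct (LP (LK LD1_c11 LD2_c7 LD3_c15)) = v46458 :=
  Lgr Lrot40 (Lpe (K52.f579225 IH) (Lpe (K43.f561344 IH) (Lpr_ff (f953758 IH) (Lpn v46458))))
theorem f706173 : Led Lsl_gf (LP (LK LD1_c9 LD2_c46 LD3_c40)) = (LP (LK LD1_c12 LD2_c4 LD3_c38)) :=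
  Lgr Lrot47 (Lpr_gt (K54.f416280 IH) (Lpe (K52.f416341 IH) (Lpr_ff (K52.f706164 IH) (Lpn (LP (LK LD1_c12 LD2_c4 LD3_c38))))))
def v5286 : LQ := Led Lsl_gf (LP (LK LD1_c3 LD2_c2 LD3_c60))
theorem f646905 : Led Lsl_gf (LP (LK LD1_c3 LD2_c2 LD3_c60)) = v5286 :=
  Lrfl
theorem f710388 : (LP (LK LD1_c5 LD2_c51 LD3_c19)) = v5286 :=
  Lefun (Lecon (Lfl_gt (K52.f640493 IH)) (K52.f710385 IH)) (f646905 IH)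
theorem f633844 : Led Lsl_et (LP (LK LD1_c5 LD2_c0 LD3_c19)) = (LP (LK LD1_c9 LD2_c51 LD3_c3)) :=
  Lre_e IH (LK LD1_c5 LD2_c0 LD3_c19) (LK LD1_c9 LD2_c51 LD3_c3) Lrfl Lrfl
theorem f713871 : Led Lsl_gf (LP (LK LD1_c11 LD2_c7 LD3_c15)) = (LP (LK LD1_c9 LD2_c51 LD3_c3)) :=
  Lgr Lrot141 (Lpr_ef (K51.f589501 IH) (Lpe (K51.f589220 IH) (Lpqs (f710388 IH) (Lpe (f646905 IH) (Lpe (K50.f504096 IH) (Lpr_et (K52.f504099 IH) (Lpe (f706173 IH) (Lpr_dt (K54.f712998 IH) (Lpqs (K53.f713813 IH) (Lpr_gt (K53.f140874 IH) (Lpe (K51.f633841 IH) (Lpr_et (f633844 IH) (Lpn (LP (LK LD1_c9 LD2_c51 LD3_c3)))))))))))))))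
theorem f633790 : Led Lsl_bt (LP (LK LD1_c5 LD2_c0 LD3_c21)) = (LP (LK LD1_c9 LD2_c51 LD3_c3)) :=
  Lre_b IH (LK LD1_c5 LD2_c0 LD3_c21) (LK LD1_c9 LD2_c51 LD3_c3) Lrfl Lrfl
theorem f174254 : Led Lsl_gt (LP (LK LD1_c11 LD2_c14 LD3_c34)) = (LP (LK LD1_c5 LD2_c42 LD3_c9)) :=
  Lre_g IH (LK LD1_c11 LD2_c14 LD3_c34) (LK LD1_c5 LD2_c42 LD3_c9) Lrfl Lrfl
def v46449 : LQ := Led Lsl_gf (LP (LK LD1_c11 LD2_c7 LD3_c8))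
theorem f953684 : Led Lsl_gf (LP (LK LD1_c11 LD2_c7 LD3_c8)) = v46449 :=
  Lrfl
theorem f579790 : Led Lsl_gt (LP (LK LD1_c11 LD2_c7 LD3_c8)) = (LP (LK LD1_c20 LD2_c0 LD3_c26)) :=
  Lre_g IH (LK LD1_c11 LD2_c7 LD3_c8) (LK LD1_c20 LD2_c0 LD3_c26) Lrfl Lrfl
theorem f548503 : Led Lsl_et (LP (LK LD1_c5 LD2_c37 LD3_c56)) = (LP (LK LD1_c11 LD2_c7 LD3_c8)) :=
  Lre_e IH (LK LD1_c5 LD2_c37 LD3_c56) (LK LD1_c11 LD2_c7 LD3_c8) Lrfl Lrfl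
theorem f720681 : Led Lsl_et (LP (LK LD1_c11 LD2_c47 LD3_c8)) = (LP (LK LD1_c20 LD2_c0 LD3_c26)) :=
  Lgr Lrot122 (Lpr_dt (K69.f714041 IH) (Lpr_gt (K54.f720677 IH) (Lpr_df (K53.f614354 IH) (Lpr_et (K53.f181290 IH) (Lpr_gt (K52.f579788 IH) (Lpe (K52.f556117 IH) (Lpr_gt (K39.f380298 IH) (Lpe (K40.f422716 IH) (Lpr_et (f548503 IH) (Lpr_gt (f579790 IH) (Lpn (LP (LK LD1_c20 LD2_c0 LD3_c26)))))))))))))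
theorem f720685 : Led Lsl_ef (LP (LK LD1_c11 LD2_c47 LD3_c8)) = (LP (LK LD1_c20 LD2_c0 LD3_c26)) :=
  Lgr Lrot88 (Lpr_et (f720681 IH) (Lpn (LP (LK LD1_c20 LD2_c0 LD3_c26))))
theorem f645119 : Led Lsl_at (LP (LK LD1_c11 LD2_c47 LD3_c8)) = (LP (LK LD1_c6 LD2_c1 LD3_c19)) :=
  Lre_a IH (LK LD1_c11 LD2_c47 LD3_c8) (LK LD1_c6 LD2_c1 LD3_c19) Lrfl Lrfl
theorem f720687 : Led Lsl_at (LP (LK LD1_c11 LD2_c47 LD3_c17)) = (LP (LK LD1_c20 LD2_c0 LD3_c26)) :=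
  Lgr Lrot80 (Lpe (K70.f645132 IH) (Lpe (f645119 IH) (Lpr_ef (f720685 IH) (Lpn (LP (LK LD1_c20 LD2_c0 LD3_c26))))))
theorem f953685 : Led Lsl_ff (LP (LK LD1_c11 LD2_c47 LD3_c17)) = v46449 :=
  Lgr Lrot52 (Lpr_at (f720687 IH) (Lpe (f579790 IH) (Lpr_gf (f953684 IH) (Lpn v46449))))
theorem f953687 : Led Lsl_ft (LP (LK LD1_c11 LD2_c47 LD3_c17)) = v46449 :=
  Lgr Lrot48 (Lpr_ff (f953685 IH) (Lpn v46449))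
theorem f719986 : Led Lsl_bt (LP (LK LD1_c6 LD2_c1 LD3_c24)) = (LP (LK LD1_c11 LD2_c47 LD3_c17)) :=
  Lre_b IH (LK LD1_c6 LD2_c1 LD3_c24) (LK LD1_c11 LD2_c47 LD3_c17) Lrfl Lrfl
theorem f719969 : Led Lsl_et (LP (LK LD1_c6 LD2_c1 LD3_c23)) = (LP (LK LD1_c11 LD2_c47 LD3_c25)) :=
  Lre_e IH (LK LD1_c6 LD2_c1 LD3_c23) (LK LD1_c11 LD2_c47 LD3_c25) Lrfl Lrfl
theorem f174256 : Led Lsl_ct (LP (LK LD1_c11 LD2_c14 LD3_c33)) = (LP (LK LD1_c20 LD2_c9 LD3_c32)) :=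
  Lre_c IH (LK LD1_c11 LD2_c14 LD3_c33) (LK LD1_c20 LD2_c9 LD3_c32) Lrfl Lrfl
theorem f384002 : Led Lsl_ef (LP (LK LD1_c11 LD2_c43 LD3_c43)) = (LP (LK LD1_c20 LD2_c9 LD3_c32)) :=
  Lgr Lrot28 (Lpr_ct (K56.f384001 IH) (Lpr_et (K51.f383998 IH) (Lpr_ct (f174256 IH) (Lpn (LP (LK LD1_c20 LD2_c9 LD3_c32))))))
theorem f719970 : Led Lsl_at (LP (LK LD1_c11 LD2_c47 LD3_c25)) = (LP (LK LD1_c20 LD2_c9 LD3_c32)) :=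
  Lgr Lrot80 (Lpe (f719969 IH) (Lpr_af (K56.f719962 IH) (Lpr_ef (f384002 IH) (Lpn (LP (LK LD1_c20 LD2_c9 LD3_c32))))))
theorem f383343 : Led Lsl_ct (LP (LK LD1_c6 LD2_c1 LD3_c24)) = (LP (LK LD1_c11 LD2_c47 LD3_c25)) :=
  Lre_c IH (LK LD1_c6 LD2_c1 LD3_c24) (LK LD1_c11 LD2_c47 LD3_c25) Lrfl Lrfl
theorem f174269 : Led Lsl_ct (LP (LK LD1_c20 LD2_c9 LD3_c32)) = (LP (LK LD1_c11 LD2_c14 LD3_c33)) :=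
  Lre_c IH (LK LD1_c20 LD2_c9 LD3_c32) (LK LD1_c11 LD2_c14 LD3_c33) Lrfl Lrfl
theorem f719982 : Led Lsl_af (LP (LK LD1_c6 LD2_c1 LD3_c24)) = (LP (LK LD1_c11 LD2_c14 LD3_c33)) :=
  Lgr Lrot68 (Lpr_ct (f383343 IH) (Lpr_at (f719970 IH) (Lpr_ct (f174269 IH) (Lpn (LP (LK LD1_c11 LD2_c14 LD3_c33))))))
theorem f719984 : Led Lsl_at (LP (LK LD1_c6 LD2_c1 LD3_c24)) = (LP (LK LD1_c11 LD2_c14 LD3_c33)) :=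
  Lgr Lrot100 (Lpr_af (f719982 IH) (Lpn (LP (LK LD1_c11 LD2_c14 LD3_c33))))
theorem f719987 : Led Lsl_ff (LP (LK LD1_c6 LD2_c1 LD3_c24)) = (LP (LK LD1_c11 LD2_c14 LD3_c34)) :=
  Lgr Lrot52 (Lpr_at (f719984 IH) (Lpe (K51.f174255 IH) (Lpe (f174254 IH) (Lpn (LP (LK LD1_c11 LD2_c14 LD3_c34))))))
theorem f953688 : Led Lsl_bf (LP (LK LD1_c11 LD2_c14 LD3_c34)) = v46449 :=
  Lgr Lrot61 (Lpe (f719987 IH) (Lpr_bt (f719986 IH) (Lpr_ft (f953687 IH) (Lpn v46449))))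
theorem f955265 : Led Lsl_ct v46449 = v46793 :=
  Lgr Lrot63 (Lpe (f953688 IH) (Lpr_gt (f174254 IH) (Lpe (K27.f174253 IH) (Lpe (K27.f174151 IH) (Lpr_gt (K54.f720821 IH) (Lpe (K53.f720822 IH) (Lpr_bt (f633790 IH) (Lpe (f713871 IH) (Lpr_ct (f953761 IH) (Lpr_gt (f955264 IH) (Lpn v46793)))))))))))
def v46455 : LQ := Led Lsl_gt (LP (LK LD1_c11 LD2_c7 LD3_c13))
theorem f953745 : Led Lsl_gt (LP (LK LD1_c11 LD2_c7 LD3_c13)) = v46455 :=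
  Lrfl
theorem f561352 : Led Lsl_ct (LP (LK LD1_c5 LD2_c37 LD3_c59)) = (LP (LK LD1_c11 LD2_c7 LD3_c13)) :=
  Lre_c IH (LK LD1_c5 LD2_c37 LD3_c59) (LK LD1_c11 LD2_c7 LD3_c13) Lrfl Lrfl
theorem f383345 : Led Lsl_bt (LP (LK LD1_c11 LD2_c47 LD3_c17)) = (LP (LK LD1_c6 LD2_c1 LD3_c24)) :=
  Lre_b IH (LK LD1_c11 LD2_c47 LD3_c17) (LK LD1_c6 LD2_c1 LD3_c24) Lrfl Lrfl
theorem f953746 : Led Lsl_ct (LP (LK LD1_c11 LD2_c47 LD3_c17)) = v46455 :=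
  Lgr Lrot63 (Lpr_bt (f383345 IH) (Lpe (K56.f383341 IH) (Lpe (K54.f289288 IH) (Lpr_ct (K54.f732664 IH) (Lpe (K54.f732666 IH) (Lpe (K53.f727487 IH) (Lpr_bt (K54.f735935 IH) (Lpe (K54.f735938 IH) (Lpr_ct (f561352 IH) (Lpr_gt (f953745 IH) (Lpn v46455)))))))))))
theorem f953747 : Led Lsl_cf (LP (LK LD1_c11 LD2_c47 LD3_c17)) = v46455 :=
  Lgr Lrot11 (Lpr_ct (f953746 IH) (Lpn v46455))
theorem f955267 : Led Lsl_ff v46455 = v46793 :=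
  Lgr Lrot23 (Lpe (f953747 IH) (Lpr_ft (f953687 IH) (Lpr_ct (f955265 IH) (Lpn v46793))))
theorem f713877 : Led Lsl_gt (LP (LK LD1_c11 LD2_c11 LD3_c37)) = (LP (LK LD1_c20 LD2_c6 LD3_c20)) :=
  Lre_g IH (LK LD1_c11 LD2_c11 LD3_c37) (LK LD1_c20 LD2_c6 LD3_c20) Lrfl Lrfl
theorem f955269 : Led Lsl_at v46455 = (LP (LK LD1_c20 LD2_c6 LD3_c20)) :=
  Lgr Lrot26 (Lpr_ff (f955267 IH) (Lpe (f955263 IH) (Lpr_gt (f713877 IH) (Lpn (LP (LK LD1_c20 LD2_c6 LD3_c20))))))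
theorem f720365 : Led Lsl_et (LP (LK LD1_c11 LD2_c47 LD3_c17)) = (LP (LK LD1_c6 LD2_c1 LD3_c19)) :=
  Lre_e IH (LK LD1_c11 LD2_c47 LD3_c17) (LK LD1_c6 LD2_c1 LD3_c19) Lrfl Lrfl
theorem f720683 : Led Lsl_af (LP (LK LD1_c11 LD2_c47 LD3_c17)) = (LP (LK LD1_c20 LD2_c0 LD3_c26)) :=
  Lgr Lrot50 (Lpr_et (f720365 IH) (Lpr_at (K69.f645120 IH) (Lpr_et (f720681 IH) (Lpn (LP (LK LD1_c20 LD2_c0 LD3_c26))))))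
theorem f955271 : Led Lsl_cf (LP (LK LD1_c20 LD2_c0 LD3_c26)) = (LP (LK LD1_c20 LD2_c6 LD3_c20)) :=
  Lgr Lrot1 (Lpe (f720683 IH) (Lpr_ct (f953746 IH) (Lpr_at (f955269 IH) (Lpn (LP (LK LD1_c20 LD2_c6 LD3_c20))))))
theorem f955272 : Led Lsl_ct (LP (LK LD1_c20 LD2_c6 LD3_c20)) = (LP (LK LD1_c20 LD2_c0 LD3_c26)) :=
  Leop (Lpr_cf (f955271 IH) (Lpn (LP (LK LD1_c20 LD2_c6 LD3_c20))))
theorem seed_2770 : LEOK LG_c (LK LD1_c20 LD2_c6 LD3_c20) :=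
  Leoe_c (LK LD1_c20 LD2_c6 LD3_c20) (f955272 IH)
def v42914 : LQ := Led Lsl_gt (LP (LK LD1_c10 LD2_c18 LD3_c41))
theorem f936831 : Led Lsl_gt (LP (LK LD1_c10 LD2_c18 LD3_c41)) = v42914 :=
  Lrfl
theorem f288064 : Led Lsl_bt (LP (LK LD1_c10 LD2_c18 LD3_c41)) = (LP (LK LD1_c5 LD2_c14 LD3_c34)) :=
  Lre_b IH (LK LD1_c10 LD2_c18 LD3_c41) (LK LD1_c5 LD2_c14 LD3_c34) Lrfl Lrfl
def v14393 : LQ := Led Lsl_bt (LP (LK LD1_c5 LD2_c8 LD3_c9))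
theorem f722317 : Led Lsl_bt (LP (LK LD1_c5 LD2_c8 LD3_c9)) = v14393 :=
  Lrfl
theorem f920179 : Led Lsl_ff (LP (LK LD1_c10 LD2_c18 LD3_c41)) = v14393 :=
  Lgr Lrot25 (Lpr_bt (f288064 IH) (Lpqs (K71.f919987 IH) (Lpe (K71.f722308 IH) (Lpr_bt (f722317 IH) (Lpn v14393)))))
theorem f920197 : Led Lsl_ft (LP (LK LD1_c10 LD2_c18 LD3_c41)) = v14393 :=
  Lgr Lrot48 (Lpr_ff (f920179 IH) (Lpn v14393))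
theorem f55739 : Led Lsl_bt (LP (LK LD1_c15 LD2_c30 LD3_c47)) = (LP (LK LD1_c8 LD2_c15 LD3_c0)) :=
  Lre_b IH (LK LD1_c15 LD2_c30 LD3_c47) (LK LD1_c8 LD2_c15 LD3_c0) Lrfl Lrfl
theorem f723958 : Led Lsl_at (LP (LK LD1_c5 LD2_c14 LD3_c35)) = K71.v14597 :=
  Lgr Lrot66 (Lpr_ff (K71.f723952 IH) (Lpe (K71.f723947 IH) (Lpr_ff (K71.f723957 IH) (Lpn K71.v14597))))
theorem f931569 : Led Lsl_af (LP (LK LD1_c15 LD2_c30 LD3_c47)) = v14393 :=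
  Lgr Lrot36 (Lpr_bt (f55739 IH) (Lpe (K57.f751705 IH) (Lpq (K73.f931506 IH) (Lpe (K73.f723960 IH) (Lpr_at (f723958 IH) (Lpq (K71.f919993 IH) (Lpr_bt (f722317 IH) (Lpn v14393))))))))
theorem f936832 : Led Lsl_gf (LP (LK LD1_c15 LD2_c30 LD3_c47)) = v42914 :=
  Lgr Lrot76 (Lpr_af (f931569 IH) (Lpe (f920197 IH) (Lpr_gt (f936831 IH) (Lpn v42914))))
def v42070 : LQ := Led Lsl_gf (LP (LK LD1_c10 LD2_c5 LD3_c54))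
theorem f932209 : Led Lsl_gf (LP (LK LD1_c10 LD2_c5 LD3_c54)) = v42070 :=
  Lrfl
theorem f932210 : Led Lsl_gt (LP (LK LD1_c10 LD2_c6 LD3_c11)) = v42070 :=
  Lgr Lrot5 (Lpr_ft (K51.f579171 IH) (Lpe (K43.f579162 IH) (Lpr_gf (f932209 IH) (Lpn v42070))))
def v46795 : LQ := Led Lsl_ct (LP (LK LD1_c11 LD2_c11 LD3_c38))
theorem f955283 : Led Lsl_ct (LP (LK LD1_c11 LD2_c11 LD3_c38)) = v46795 :=
  Lrfl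
theorem f713873 : Led Lsl_gt (LP (LK LD1_c5 LD2_c40 LD3_c28)) = (LP (LK LD1_c9 LD2_c51 LD3_c3)) :=
  Lgr Lrot5 (Lpr_ft (K51.f557245 IH) (Lpr_at (K51.f579215 IH) (Lpr_gf (f713871 IH) (Lpn (LP (LK LD1_c9 LD2_c51 LD3_c3))))))
theorem f579217 : Led Lsl_gt (LP (LK LD1_c11 LD2_c11 LD3_c38)) = (LP (LK LD1_c5 LD2_c40 LD3_c28)) :=
  Lre_g IH (LK LD1_c11 LD2_c11 LD3_c38) (LK LD1_c5 LD2_c40 LD3_c28) Lrfl Lrfl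
theorem f633873 : Led Lsl_et (LP (LK LD1_c9 LD2_c51 LD3_c3)) = (LP (LK LD1_c5 LD2_c0 LD3_c19)) :=
  Lre_e IH (LK LD1_c9 LD2_c51 LD3_c3) (LK LD1_c5 LD2_c0 LD3_c19) Lrfl Lrfl
theorem f710510 : Led Lsl_af (LP (LK LD1_c9 LD2_c51 LD3_c3)) = (LP (LK LD1_c11 LD2_c7 LD3_c14)) :=
  Lgr Lrot50 (Lpr_et (f633873 IH) (Lpr_at (K53.f633813 IH) (Lpr_et (K52.f710508 IH) (Lpn (LP (LK LD1_c11 LD2_c7 LD3_c14))))))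
theorem f713875 : Led Lsl_ft (LP (LK LD1_c11 LD2_c11 LD3_c38)) = (LP (LK LD1_c11 LD2_c7 LD3_c14)) :=
  Lgr Lrot2 (Lpr_gt (f579217 IH) (Lpr_gt (f713873 IH) (Lpr_af (f710510 IH) (Lpn (LP (LK LD1_c11 LD2_c7 LD3_c14))))))
theorem f713878 : Led Lsl_ff (LP (LK LD1_c11 LD2_c11 LD3_c38)) = (LP (LK LD1_c11 LD2_c7 LD3_c14)) :=
  Lgr Lrot3 (Lpr_ft (f713875 IH) (Lpn (LP (LK LD1_c11 LD2_c7 LD3_c14))))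
def v46459 : LQ := Led Lsl_ct (LP (LK LD1_c11 LD2_c7 LD3_c14))
theorem f953764 : Led Lsl_ct (LP (LK LD1_c11 LD2_c7 LD3_c14)) = v46459 :=
  Lrfl
theorem f953766 : Led Lsl_cf (LP (LK LD1_c11 LD2_c7 LD3_c14)) = v46459 :=
  Lgr Lrot11 (Lpr_ct (f953764 IH) (Lpn v46459))
theorem f955285 : Led Lsl_ff v46459 = v46795 :=
  Lgr Lrot23 (Lpe (f953766 IH) (Lpe (f713878 IH) (Lpr_ct (f955283 IH) (Lpn v46795))))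
theorem f633872 : Led Lsl_at (LP (LK LD1_c9 LD2_c50 LD3_c61)) = (LP (LK LD1_c5 LD2_c0 LD3_c19)) :=
  Lre_a IH (LK LD1_c9 LD2_c50 LD3_c61) (LK LD1_c5 LD2_c0 LD3_c19) Lrfl Lrfl
theorem f713006 : Led Lsl_at (LP (LK LD1_c9 LD2_c51 LD3_c3)) = (LP (LK LD1_c11 LD2_c7 LD3_c14)) :=
  Lgr Lrot80 (Lpe (f633844 IH) (Lpe (f633872 IH) (Lpr_ef (K53.f710514 IH) (Lpn (LP (LK LD1_c11 LD2_c7 LD3_c14))))))
def v41055 : LQ := Led Lsl_et (LP (LK LD1_c9 LD2_c51 LD3_c2))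
theorem f921761 : Led Lsl_et (LP (LK LD1_c9 LD2_c51 LD3_c2)) = v41055 :=
  Lrfl
theorem f454876 : Led Lsl_ct (LP (LK LD1_c5 LD2_c0 LD3_c19)) = (LP (LK LD1_c9 LD2_c51 LD3_c2)) :=
  Lre_c IH (LK LD1_c5 LD2_c0 LD3_c19) (LK LD1_c9 LD2_c51 LD3_c2) Lrfl Lrfl
theorem f921762 : Led Lsl_cf (LP (LK LD1_c9 LD2_c51 LD3_c3)) = v41055 :=
  Lgr Lrot39 (Lpr_et (f633873 IH) (Lpr_ct (f454876 IH) (Lpr_et (f921761 IH) (Lpn v41055))))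
theorem f953765 : Led Lsl_af v41055 = v46459 :=
  Lgr Lrot68 (Lpe (f921762 IH) (Lpr_at (f713006 IH) (Lpr_ct (f953764 IH) (Lpn v46459))))
theorem f921763 : Led Lsl_ef (LP (LK LD1_c9 LD2_c51 LD3_c2)) = v41055 :=
  Lgr Lrot88 (Lpr_et (f921761 IH) (Lpn v41055))
theorem f505554 : Led Lsl_ct (LP (LK LD1_c9 LD2_c51 LD3_c2)) = (LP (LK LD1_c5 LD2_c0 LD3_c19)) :=
  Lre_c IH (LK LD1_c9 LD2_c51 LD3_c2) (LK LD1_c5 LD2_c0 LD3_c19) Lrfl Lrfl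
theorem f921764 : Led Lsl_ct (LP (LK LD1_c9 LD2_c51 LD3_c3)) = v41055 :=
  Lgr Lrot15 (Lpe (f633844 IH) (Lpe (f505554 IH) (Lpr_ef (f921763 IH) (Lpn v41055))))
theorem f225461 : Led Lsl_bt (LP (LK LD1_c9 LD2_c51 LD3_c3)) = (LP (LK LD1_c5 LD2_c0 LD3_c21)) :=
  Lre_b IH (LK LD1_c9 LD2_c51 LD3_c3) (LK LD1_c5 LD2_c0 LD3_c21) Lrfl Lrfl
theorem f731593 : Led Lsl_ct (LP (LK LD1_c5 LD2_c37 LD3_c35)) = K54.v15078 :=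
  Lgr Lrot40 (Lpe (K17.f165085 IH) (Lpe (K54.f408451 IH) (Lpr_ff (K54.f731591 IH) (Lpn K54.v15078))))
theorem f548417 : Led Lsl_et (LP (LK LD1_c16 LD2_c51 LD3_c18)) = (LP (LK LD1_c9 LD2_c1 LD3_c21)) :=
  Lre_e IH (LK LD1_c16 LD2_c51 LD3_c18) (LK LD1_c9 LD2_c1 LD3_c21) Lrfl Lrfl
theorem f595792 : Led Lsl_bf (LP (LK LD1_c16 LD2_c51 LD3_c18)) = (LP (LK LD1_c9 LD2_c2 LD3_c40)) :=
  Lgr Lrot96 (Lpr_et (f548417 IH) (Lpr_bt (K71.f595549 IH) (Lpr_et (K72.f553770 IH) (Lpn (LP (LK LD1_c9 LD2_c2 LD3_c40))))))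
theorem f595794 : Led Lsl_bt (LP (LK LD1_c16 LD2_c51 LD3_c18)) = (LP (LK LD1_c9 LD2_c2 LD3_c40)) :=
  Lgr Lrot127 (Lpr_bf (f595792 IH) (Lpn (LP (LK LD1_c9 LD2_c2 LD3_c40))))
theorem f380604 : Led Lsl_et (LP (LK LD1_c11 LD2_c11 LD3_c45)) = (LP (LK LD1_c5 LD2_c40 LD3_c30)) :=
  Lre_e IH (LK LD1_c11 LD2_c11 LD3_c45) (LK LD1_c5 LD2_c40 LD3_c30) Lrfl Lrfl
theorem f423288 : Led Lsl_et (LP (LK LD1_c9 LD2_c1 LD3_c21)) = (LP (LK LD1_c16 LD2_c51 LD3_c18)) :=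
  Lre_e IH (LK LD1_c9 LD2_c1 LD3_c21) (LK LD1_c16 LD2_c51 LD3_c18) Lrfl Lrfl
theorem f561485 : Led Lsl_cf (LP (LK LD1_c11 LD2_c11 LD3_c45)) = (LP (LK LD1_c16 LD2_c51 LD3_c18)) :=
  Lgr Lrot39 (Lpr_et (f380604 IH) (Lpr_ct (K40.f561477 IH) (Lpr_et (f423288 IH) (Lpn (LP (LK LD1_c16 LD2_c51 LD3_c18))))))
theorem f921765 : Led Lsl_gt (LP (LK LD1_c11 LD2_c11 LD3_c45)) = v41055 :=
  Lgr Lrot65 (Lpr_cf (f561485 IH) (Lpr_bt (f595794 IH) (Lpr_gf (f740659 IH) (Lpe (f645822 IH) (Lpr_ct (K54.f727685 IH) (Lpr_gf (K54.f731595 IH) (Lpe (f731593 IH) (Lpe (K51.f408447 IH) (Lpe (f225461 IH) (Lpr_ct (f921764 IH) (Lpn v41055)))))))))))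
theorem f955287 : Led Lsl_gf (LP (LK LD1_c11 LD2_c11 LD3_c45)) = v46795 :=
  Lgr Lrot47 (Lpr_gt (f921765 IH) (Lpr_af (f953765 IH) (Lpr_ff (f955285 IH) (Lpn v46795))))
theorem f617103 : Led Lsl_ct (LP (LK LD1_c11 LD2_c11 LD3_c45)) = (LP (LK LD1_c16 LD2_c51 LD3_c18)) :=
  Lgr Lrot59 (Lpr_cf (f561485 IH) (Lpn (LP (LK LD1_c16 LD2_c51 LD3_c18))))
theorem f548476 : Led Lsl_bt (LP (LK LD1_c11 LD2_c35 LD3_c29)) = (LP (LK LD1_c5 LD2_c55 LD3_c3)) :=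
  Lre_b IH (LK LD1_c11 LD2_c35 LD3_c29) (LK LD1_c5 LD2_c55 LD3_c3) Lrfl Lrfl
theorem f595796 : Led Lsl_dt (LP (LK LD1_c16 LD2_c51 LD3_c18)) = (LP (LK LD1_c11 LD2_c35 LD3_c29)) :=
  Lgr Lrot79 (Lpr_bf (f595792 IH) (Lpe (f553786 IH) (Lpe (f548476 IH) (Lpn (LP (LK LD1_c11 LD2_c35 LD3_c29))))))
def v42720 : LQ := Led Lsl_at (LP (LK LD1_c10 LD2_c15 LD3_c28))
theorem f935439 : Led Lsl_at (LP (LK LD1_c10 LD2_c15 LD3_c28)) = v42720 :=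
  Lrfl
def v15780 : LQ := Led Lsl_ft (LP (LK LD1_c5 LD2_c46 LD3_c13))
theorem f741519 : Led Lsl_ft (LP (LK LD1_c5 LD2_c46 LD3_c13)) = v15780 :=
  Lrfl
theorem f741522 : Led Lsl_ff (LP (LK LD1_c5 LD2_c46 LD3_c13)) = v15780 :=
  Lgr Lrot3 (Lpr_ft (f741519 IH) (Lpn v15780))
theorem f741525 : Led Lsl_dt K55.v14308 = v15780 :=
  Lgr Lrot60 (Lpe (K55.f721847 IH) (Lpr_df (K17.f180461 IH) (Lpr_ff (f741522 IH) (Lpn v15780))))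
theorem f824243 : (LP (LK LD1_c5 LD2_c12 LD3_c31)) = K55.v14308 :=
  Lefun (Lecon (Lfl_ff (K71.f723083 IH)) (K71.f824237 IH).symm) (K55.f721847 IH)
theorem f824248 : v15780 = (LP (LK LD1_c10 LD2_c15 LD3_c29)) :=
  Lefun (Lecon (f741525 IH) (f824243 IH).symm) (K50.f387382 IH)
theorem f180464 : Led Lsl_bt (LP (LK LD1_c11 LD2_c22 LD3_c40)) = (LP (LK LD1_c5 LD2_c46 LD3_c13)) :=
  Lre_b IH (LK LD1_c11 LD2_c22 LD3_c40) (LK LD1_c5 LD2_c46 LD3_c13) Lrfl Lrfl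
theorem f824253 : Led Lsl_bt (LP (LK LD1_c10 LD2_c15 LD3_c29)) = (LP (LK LD1_c18 LD2_c39 LD3_c38)) :=
  Lre_b IH (LK LD1_c10 LD2_c15 LD3_c29) (LK LD1_c18 LD2_c39 LD3_c38) Lrfl Lrfl
theorem f824254 : Led Lsl_ff (LP (LK LD1_c11 LD2_c22 LD3_c40)) = (LP (LK LD1_c18 LD2_c39 LD3_c38)) :=
  Lgr Lrot25 (Lpr_bt (f180464 IH) (Lpr_ft (f741519 IH) (Lpqs (f824248 IH) (Lpr_bt (f824253 IH) (Lpn (LP (LK LD1_c18 LD2_c39 LD3_c38)))))))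
theorem f824256 : Led Lsl_dt (LP (LK LD1_c10 LD2_c15 LD3_c28)) = (LP (LK LD1_c18 LD2_c39 LD3_c38)) :=
  Lre_d IH (LK LD1_c10 LD2_c15 LD3_c28) (LK LD1_c18 LD2_c39 LD3_c38) Lrfl Lrfl
theorem f824257 : Led Lsl_ft (LP (LK LD1_c10 LD2_c3 LD3_c3)) = (LP (LK LD1_c10 LD2_c15 LD3_c28)) :=
  Lgr Lrot54 (Lpr_df (f180514 IH) (Lpr_ff (f824254 IH) (Lpe (f824256 IH) (Lpn (LP (LK LD1_c10 LD2_c15 LD3_c28))))))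
def v41866 : LQ := Led Lsl_gt (LP (LK LD1_c10 LD2_c3 LD3_c3))
theorem f929897 : Led Lsl_gt (LP (LK LD1_c10 LD2_c3 LD3_c3)) = v41866 :=
  Lrfl
theorem f935443 : Led Lsl_gt v41866 = v42720 :=
  Lgr Lrot46 (Lpe (f929897 IH) (Lpr_ft (f824257 IH) (Lpr_at (f935439 IH) (Lpn v42720))))
theorem f553784 : Led Lsl_gt (LP (LK LD1_c5 LD2_c55 LD3_c3)) = (LP (LK LD1_c11 LD2_c35 LD3_c35)) :=
  Lre_g IH (LK LD1_c5 LD2_c55 LD3_c3) (LK LD1_c11 LD2_c35 LD3_c35) Lrfl Lrfl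
theorem f953372 : (LP (LK LD1_c5 LD2_c55 LD3_c3)) = v41866 :=
  Lefun (Lecon (Lfl_gf (f747020 IH)) (f953371 IH)) (f929897 IH)
theorem f953374 : v42720 = (LP (LK LD1_c11 LD2_c35 LD3_c35)) :=
  Lefun (Lecon (f935443 IH) (f953372 IH).symm) (f553784 IH)
theorem f180530 : Led Lsl_at (LP (LK LD1_c18 LD2_c21 LD3_c32)) = (LP (LK LD1_c10 LD2_c3 LD3_c3)) :=
  Lre_a IH (LK LD1_c18 LD2_c21 LD3_c32) (LK LD1_c10 LD2_c3 LD3_c3) Lrfl Lrfl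
theorem f935442 : Led Lsl_ff (LP (LK LD1_c18 LD2_c21 LD3_c32)) = v42720 :=
  Lgr Lrot30 (Lpr_at (f180530 IH) (Lpr_ft (f824257 IH) (Lpr_at (f935439 IH) (Lpn v42720))))
theorem f935445 : Led Lsl_ft (LP (LK LD1_c18 LD2_c21 LD3_c32)) = v42720 :=
  Lgr Lrot48 (Lpr_ff (f935442 IH) (Lpn v42720))
theorem f710890 : Led Lsl_cf (LP (LK LD1_c5 LD2_c27 LD3_c21)) = (LP (LK LD1_c8 LD2_c12 LD3_c56)) :=
  Lgr Lrot11 (Lpr_ct (K53.f710888 IH) (Lpn (LP (LK LD1_c8 LD2_c12 LD3_c56))))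
theorem f55545 : Led Lsl_gt (LP (LK LD1_c25 LD2_c18 LD3_c49)) = (LP (LK LD1_c15 LD2_c27 LD3_c4)) :=
  Lre_g IH (LK LD1_c25 LD2_c18 LD3_c49) (LK LD1_c15 LD2_c27 LD3_c4) Lrfl Lrfl
theorem f721848 : Led Lsl_ff (LP (LK LD1_c5 LD2_c6 LD3_c1)) = K55.v14308 :=
  Lgr Lrot3 (Lpr_ft (K55.f721847 IH) (Lpn K55.v14308))
theorem f721852 : Led Lsl_at (LP (LK LD1_c5 LD2_c6 LD3_c1)) = K55.v14309 :=
  Lgr Lrot66 (Lpr_ff (f721848 IH) (Lpe (K55.f721844 IH) (Lpr_ff (K55.f721851 IH) (Lpn K55.v14309))))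
theorem f824377 : Led Lsl_bf (LP (LK LD1_c18 LD2_c21 LD3_c32)) = (LP (LK LD1_c18 LD2_c39 LD3_c40)) :=
  Lgr Lrot81 (Lpr_at (f180530 IH) (Lpr_bt (f164768 IH) (Lpr_at (f721852 IH) (Lpqs (K64.f824236 IH) (Lpr_bt (f408201 IH) (Lpr_at (f408222 IH) (Lpn (LP (LK LD1_c18 LD2_c39 LD3_c40)))))))))
theorem f824379 : Led Lsl_bt (LP (LK LD1_c18 LD2_c21 LD3_c32)) = (LP (LK LD1_c18 LD2_c39 LD3_c40)) :=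
  Lgr Lrot127 (Lpr_bf (f824377 IH) (Lpn (LP (LK LD1_c18 LD2_c39 LD3_c40))))
theorem f931607 : Led Lsl_cf (LP (LK LD1_c25 LD2_c18 LD3_c49)) = (LP (LK LD1_c18 LD2_c21 LD3_c32)) :=
  Lgr Lrot160 (Lpr_gt (f55545 IH) (Lpe (K38.f55573 IH) (Lpr_bt (K9.f55538 IH) (Lpr_gt (K53.f55555 IH) (Lpe (f710890 IH) (Lpr_gt (K53.f446617 IH) (Lpe (K0.f9131 IH) (Lpr_bt (f561854 IH) (Lpqs (f931570 IH) (Lpe (f929853 IH) (Lpe (f824379 IH) (Lpn (LP (LK LD1_c18 LD2_c21 LD3_c32))))))))))))))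
theorem f931611 : Led Lsl_ct (LP (LK LD1_c25 LD2_c18 LD3_c49)) = (LP (LK LD1_c18 LD2_c21 LD3_c32)) :=
  Lgr Lrot59 (Lpr_cf (f931607 IH) (Lpn (LP (LK LD1_c18 LD2_c21 LD3_c32))))
theorem f619123 : Led Lsl_ct (LP (LK LD1_c11 LD2_c35 LD3_c35)) = (LP (LK LD1_c20 LD2_c33 LD3_c45)) :=
  Lre_c IH (LK LD1_c11 LD2_c35 LD3_c35) (LK LD1_c20 LD2_c33 LD3_c45) Lrfl Lrfl
theorem f953383 : Led Lsl_ff (LP (LK LD1_c25 LD2_c18 LD3_c49)) = (LP (LK LD1_c20 LD2_c33 LD3_c45)) :=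
  Lgr Lrot23 (Lpr_ct (f931611 IH) (Lpr_ft (f935445 IH) (Lpqs (f953374 IH) (Lpr_ct (f619123 IH) (Lpn (LP (LK LD1_c20 LD2_c33 LD3_c45)))))))
theorem f180520 : Led Lsl_at (LP (LK LD1_c10 LD2_c3 LD3_c3)) = (LP (LK LD1_c18 LD2_c21 LD3_c32)) :=
  Lre_a IH (LK LD1_c10 LD2_c3 LD3_c3) (LK LD1_c18 LD2_c21 LD3_c32) Lrfl Lrfl
theorem f164769 : Led Lsl_ct (LP (LK LD1_c18 LD2_c21 LD3_c33)) = (LP (LK LD1_c10 LD2_c3 LD3_c3)) :=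
  Lre_c IH (LK LD1_c18 LD2_c21 LD3_c33) (LK LD1_c10 LD2_c3 LD3_c3) Lrfl Lrfl
theorem f931609 : Led Lsl_at (LP (LK LD1_c25 LD2_c18 LD3_c49)) = (LP (LK LD1_c18 LD2_c21 LD3_c33)) :=
  Lgr Lrot107 (Lpr_cf (f931607 IH) (Lpe (f180520 IH) (Lpe (f164769 IH) (Lpn (LP (LK LD1_c18 LD2_c21 LD3_c33))))))
theorem f953389 : Led Lsl_gf (LP (LK LD1_c25 LD2_c18 LD3_c48)) = (LP (LK LD1_c20 LD2_c33 LD3_c45)) :=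
  Lgr Lrot47 (Lpe (f931620 IH) (Lpe (f931609 IH) (Lpr_ff (f953383 IH) (Lpn (LP (LK LD1_c20 LD2_c33 LD3_c45))))))
theorem f55740 : Led Lsl_ct (LP (LK LD1_c15 LD2_c30 LD3_c47)) = (LP (LK LD1_c25 LD2_c23 LD3_c50)) :=
  Lre_c IH (LK LD1_c15 LD2_c30 LD3_c47) (LK LD1_c25 LD2_c23 LD3_c50) Lrfl Lrfl
theorem f548475 : Led Lsl_ct (LP (LK LD1_c10 LD2_c6 LD3_c21)) = (LP (LK LD1_c18 LD2_c25 LD3_c21)) :=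
  Lre_c IH (LK LD1_c10 LD2_c6 LD3_c21) (LK LD1_c18 LD2_c25 LD3_c21) Lrfl Lrfl
theorem f548462 : Led Lsl_af (LP (LK LD1_c10 LD2_c6 LD3_c21)) = (LP (LK LD1_c18 LD2_c24 LD3_c43)) :=
  Lgr Lrot0 (Lpr_at (K38.f548460 IH) (Lpn (LP (LK LD1_c18 LD2_c24 LD3_c43))))
theorem f548477 : Led Lsl_cf (LP (LK LD1_c18 LD2_c24 LD3_c43)) = (LP (LK LD1_c11 LD2_c35 LD3_c29)) :=
  Lgr Lrot1 (Lpe (f548462 IH) (Lpr_ct (f548475 IH) (Lpr_at (K38.f548470 IH) (Lpn (LP (LK LD1_c11 LD2_c35 LD3_c29))))))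
theorem f953393 : Led Lsl_gt (LP (LK LD1_c25 LD2_c23 LD3_c50)) = (LP (LK LD1_c18 LD2_c24 LD3_c43)) :=
  Lgr Lrot65 (Lpe (f55740 IH) (Lpr_bt (f55739 IH) (Lpe (K57.f55736 IH) (Lpe (f55569 IH) (Lpr_ct (f55565 IH) (Lpr_gf (f953389 IH) (Lpe (f619123 IH) (Lpe (f553784 IH) (Lpe (f548476 IH) (Lpe (f548477 IH) (Lpn (LP (LK LD1_c18 LD2_c24 LD3_c43)))))))))))))
theorem f579218 : Led Lsl_gf (LP (LK LD1_c11 LD2_c11 LD3_c38)) = (LP (LK LD1_c11 LD2_c7 LD3_c15)) :=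
  Lgr Lrot47 (Lpr_gt (f579217 IH) (Lpr_af (K43.f579196 IH) (Lpe (K51.f579214 IH) (Lpn (LP (LK LD1_c11 LD2_c7 LD3_c15))))))
theorem f579179 : Led Lsl_bt (LP (LK LD1_c18 LD2_c24 LD3_c58)) = (LP (LK LD1_c10 LD2_c6 LD3_c11)) :=
  Lre_b IH (LK LD1_c18 LD2_c24 LD3_c58) (LK LD1_c10 LD2_c6 LD3_c11) Lrfl Lrfl
theorem f589512 : Led Lsl_df (LP (LK LD1_c11 LD2_c7 LD3_c15)) = (LP (LK LD1_c10 LD2_c6 LD3_c11)) :=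
  Lgr Lrot12 (Lpr_bt (K51.f579224 IH) (Lpr_dt (K51.f589509 IH) (Lpr_bt (f579179 IH) (Lpn (LP (LK LD1_c10 LD2_c6 LD3_c11))))))
theorem f955288 : v42914 = (LP (LK LD1_c10 LD2_c6 LD3_c11)) :=
  (Llr Lrot147 (Lpe (f936832 IH) (Lpr_ct (f55740 IH) (Lpr_gt (f953393 IH) (Lpe (K38.f548005 IH) (Lpe (f595796 IH) (Lpe (f617103 IH) (Lpr_gf (f955287 IH) (Lpe (f955283 IH) (Lpr_gf (f579218 IH) (Lpr_df (f589512 IH) (Lpn (LP (LK LD1_c10 LD2_c6 LD3_c11)))))))))))))).symm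
theorem f955289 : (LP (LK LD1_c15 LD2_c30 LD3_c47)) = v42070 :=
  Lefun (Lecon (Lfl_gf (f936832 IH)) (f955288 IH)) (f932210 IH)
theorem f380632 : Led Lsl_et (LP (LK LD1_c5 LD2_c40 LD3_c28)) = (LP (LK LD1_c2 LD2_c46 LD3_c11)) :=
  Lre_e IH (LK LD1_c5 LD2_c40 LD3_c28) (LK LD1_c2 LD2_c46 LD3_c11) Lrfl Lrfl
theorem f422989 : Led Lsl_et (LP (LK LD1_c2 LD2_c44 LD3_c60)) = (LP (LK LD1_c5 LD2_c38 LD3_c10)) :=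
  Lre_e IH (LK LD1_c2 LD2_c44 LD3_c60) (LK LD1_c5 LD2_c38 LD3_c10) Lrfl Lrfl
theorem f422885 : Led Lsl_gt (LP (LK LD1_c5 LD2_c38 LD3_c10)) = (LP (LK LD1_c11 LD2_c7 LD3_c37)) :=
  Lre_g IH (LK LD1_c5 LD2_c38 LD3_c10) (LK LD1_c11 LD2_c7 LD3_c37) Lrfl Lrfl
theorem f423281 : Led Lsl_et (LP (LK LD1_c20 LD2_c1 LD3_c8)) = (LP (LK LD1_c11 LD2_c7 LD3_c37)) :=
  Lre_e IH (LK LD1_c20 LD2_c1 LD3_c8) (LK LD1_c11 LD2_c7 LD3_c37) Lrfl Lrfl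
theorem f932211 : Led Lsl_dt (LP (LK LD1_c20 LD2_c1 LD3_c8)) = v42070 :=
  Lgr Lrot136 (Lpr_et (f423281 IH) (Lpe (f422885 IH) (Lpe (f422989 IH) (Lpr_dt (K31.f423256 IH) (Lpe (K30.f380255 IH) (Lpe (K30.f380167 IH) (Lpe (K38.f380595 IH) (Lpe (f380632 IH) (Lpe (K43.f557625 IH) (Lpr_gf (f932209 IH) (Lpn v42070)))))))))))
theorem f932212 : Led Lsl_df (LP (LK LD1_c20 LD2_c1 LD3_c8)) = v42070 :=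
  Lgr Lrot38 (Lpr_dt (f932211 IH) (Lpn v42070))
theorem f955290 : Led Lsl_dt (LP (LK LD1_c15 LD2_c30 LD3_c47)) = (LP (LK LD1_c20 LD2_c1 LD3_c8)) :=
  Leop (Lpr_df (f932212 IH) (Lpq (f955289 IH) (Lpn (LP (LK LD1_c15 LD2_c30 LD3_c47)))))
theorem seed_2771 : LEOK LG_d (LK LD1_c15 LD2_c30 LD3_c47) :=
  Leoe_d (LK LD1_c15 LD2_c30 LD3_c47) (f955290 IH)
theorem f955294 : Led Lsl_gt (LP (LK LD1_c10 LD2_c18 LD3_c41)) = (LP (LK LD1_c10 LD2_c6 LD3_c11)) :=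
  Leop (Lpq (f955288 IH) (Lpe (f936831 IH) (Lpn (LP (LK LD1_c10 LD2_c18 LD3_c41)))))
theorem seed_2772 : LEOK LG_g (LK LD1_c10 LD2_c18 LD3_c41) :=
  Leoe_g (LK LD1_c10 LD2_c18 LD3_c41) (f955294 IH)
theorem f920196 : Led Lsl_dt (LP (LK LD1_c10 LD2_c18 LD3_c41)) = (LP (LK LD1_c18 LD2_c43 LD3_c41)) :=
  Lre_d IH (LK LD1_c10 LD2_c18 LD3_c41) (LK LD1_c18 LD2_c43 LD3_c41) Lrfl Lrfl
theorem f735987 : Led Lsl_et (LP (LK LD1_c10 LD2_c18 LD3_c41)) = (LP (LK LD1_c18 LD2_c43 LD3_c42)) :=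
  Lre_e IH (LK LD1_c10 LD2_c18 LD3_c41) (LK LD1_c18 LD2_c43 LD3_c42) Lrfl Lrfl
def v46521 : LQ := Led Lsl_gt (LP (LK LD1_c11 LD2_c7 LD3_c61))
theorem f954005 : Led Lsl_gt (LP (LK LD1_c11 LD2_c7 LD3_c61)) = v46521 :=
  Lrfl
theorem f589507 : Led Lsl_dt (LP (LK LD1_c11 LD2_c7 LD3_c15)) = (LP (LK LD1_c10 LD2_c6 LD3_c11)) :=
  Lgr Lrot79 (Lpe (K51.f579221 IH) (Lpr_df (K51.f589505 IH) (Lpe (K51.f579176 IH) (Lpn (LP (LK LD1_c10 LD2_c6 LD3_c11))))))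
def v42069 : LQ := Led Lsl_gt (LP (LK LD1_c10 LD2_c5 LD3_c54))
theorem f932207 : Led Lsl_gt (LP (LK LD1_c10 LD2_c5 LD3_c54)) = v42069 :=
  Lrfl
theorem f932208 : Led Lsl_gf (LP (LK LD1_c10 LD2_c6 LD3_c11)) = v42069 :=
  Lgr Lrot76 (Lpe (K51.f579172 IH) (Lpe (K51.f557569 IH) (Lpr_gt (f932207 IH) (Lpn v42069))))
theorem f954007 : Led Lsl_df v42069 = v46521 :=
  Lgr Lrot135 (Lpe (f932208 IH) (Lpe (f589507 IH) (Lpr_et (K51.f589497 IH) (Lpr_gt (K52.f710122 IH) (Lpe (K71.f415297 IH) (Lpe (K71.f415284 IH) (Lpe (K52.f715201 IH) (Lpe (K53.f638737 IH) (Lpr_et (f638746 IH) (Lpr_gt (f954005 IH) (Lpn v46521)))))))))))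
theorem f954008 : Led Lsl_dt v42069 = v46521 :=
  Lgr Lrot42 (Lpr_df (f954007 IH) (Lpn v46521))
theorem f955293 : (LP (LK LD1_c10 LD2_c18 LD3_c41)) = v42069 :=
  Lefun (Lecon (Lfl_gt (f936831 IH)) (f955288 IH)) (f932208 IH)
theorem f955298 : v46521 = (LP (LK LD1_c18 LD2_c43 LD3_c41)) :=
  Lefun (Lecon (f954008 IH) (f955293 IH).symm) (f920196 IH)
theorem f151586 : Led Lsl_et (LP (LK LD1_c10 LD2_c5 LD3_c61)) = (LP (LK LD1_c18 LD2_c24 LD3_c51)) :=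
  Lre_e IH (LK LD1_c10 LD2_c5 LD3_c61) (LK LD1_c18 LD2_c24 LD3_c51) Lrfl Lrfl
theorem f955300 : Led Lsl_gt (LP (LK LD1_c18 LD2_c43 LD3_c42)) = (LP (LK LD1_c18 LD2_c24 LD3_c51)) :=
  Lgr Lrot131 (Lpe (f735987 IH) (Lpr_dt (f920196 IH) (Lpq (f955298 IH) (Lpe (f954005 IH) (Lpe (K53.f638738 IH) (Lpr_gf (K53.f710843 IH) (Lpe (K53.f713213 IH) (Lpr_dt (K53.f720776 IH) (Lpe (K53.f720777 IH) (Lpr_df (K53.f151581 IH) (Lpr_et (f151586 IH) (Lpn (LP (LK LD1_c18 LD2_c24 LD3_c51))))))))))))))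
theorem f955301 : Led Lsl_gt (LP (LK LD1_c18 LD2_c43 LD3_c42)) = (LP (LK LD1_c18 LD2_c24 LD3_c51)) :=
  Leop (Lpe (f955300 IH) (Lpn (LP (LK LD1_c18 LD2_c43 LD3_c42))))
theorem seed_2773 : LEOK LG_g (LK LD1_c18 LD2_c43 LD3_c42) :=
  Leoe_g (LK LD1_c18 LD2_c43 LD3_c42) (f955301 IH)
def v46476 : LQ := Led Lsl_ft (LP (LK LD1_c11 LD2_c7 LD3_c37))
theorem f953823 : Led Lsl_ft (LP (LK LD1_c11 LD2_c7 LD3_c37)) = v46476 :=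
  Lrfl
def v46473 : LQ := Led Lsl_at (LP (LK LD1_c11 LD2_c7 LD3_c37))
theorem f953815 : Led Lsl_at (LP (LK LD1_c11 LD2_c7 LD3_c37)) = v46473 :=
  Lrfl
theorem f953816 : Led Lsl_af (LP (LK LD1_c11 LD2_c7 LD3_c37)) = v46473 :=
  Lgr Lrot0 (Lpr_at (f953815 IH) (Lpn v46473))
def v15380 : LQ := Led Lsl_gf (LP (LK LD1_c5 LD2_c38 LD3_c10))
theorem f736037 : Led Lsl_gf (LP (LK LD1_c5 LD2_c38 LD3_c10)) = v15380 :=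
  Lrfl
theorem f953817 : Led Lsl_ft v15380 = v46473 :=
  Lgr Lrot2 (Lpe (f736037 IH) (Lpr_gt (f422885 IH) (Lpr_af (f953816 IH) (Lpn v46473))))
theorem f953824 : Led Lsl_af v15380 = v46476 :=
  Lgr Lrot45 (Lpr_ft (f953817 IH) (Lpe (f953816 IH) (Lpr_ft (f953823 IH) (Lpn v46476))))
def v40796 : LQ := Led Lsl_at (LP (LK LD1_c9 LD2_c46 LD3_c48))
theorem f919952 : Led Lsl_at (LP (LK LD1_c9 LD2_c46 LD3_c48)) = v40796 :=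
  Lrfl
theorem f919953 : Led Lsl_af (LP (LK LD1_c9 LD2_c46 LD3_c48)) = v40796 :=
  Lgr Lrot0 (Lpr_at (f919952 IH) (Lpn v40796))
theorem f737506 : Led Lsl_ef (LP (LK LD1_c15 LD2_c27 LD3_c13)) = K73.v15461 :=
  Lgr Lrot88 (Lpr_et (K73.f737505 IH) (Lpn K73.v15461))
theorem f896576 : Led Lsl_af K73.v15461 = K73.v37801 :=
  Lgr Lrot50 (Lpe (f737506 IH) (Lpr_at (K70.f751709 IH) (Lpr_et (K73.f896575 IH) (Lpn K73.v37801))))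
def v15462 : LQ := Led Lsl_gf (LP (LK LD1_c5 LD2_c40 LD3_c6))
theorem f737507 : Led Lsl_gf (LP (LK LD1_c5 LD2_c40 LD3_c6)) = v15462 :=
  Lrfl
theorem f896580 : Led Lsl_ft v15462 = K73.v37801 :=
  Lgr Lrot2 (Lpe (f737507 IH) (Lpr_gt (K73.f737504 IH) (Lpr_af (f896576 IH) (Lpn K73.v37801))))
def v35634 : LQ := Led Lsl_ft (LP (LK LD1_c7 LD2_c59 LD3_c51))
theorem f876204 : Led Lsl_ft (LP (LK LD1_c7 LD2_c59 LD3_c51)) = v35634 :=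
  Lrfl
theorem f876199 : Led Lsl_af (LP (LK LD1_c7 LD2_c59 LD3_c51)) = K71.v35633 :=
  Lgr Lrot0 (Lpr_at (K71.f876198 IH) (Lpn K71.v35633))
theorem f876205 : Led Lsl_af K71.v12783 = v35634 :=
  Lgr Lrot45 (Lpr_ft (K71.f876202 IH) (Lpe (f876199 IH) (Lpr_ft (f876204 IH) (Lpn v35634))))
theorem f920020 : K53.v4712 = v35634 :=
  Lefun (Lecon (Lfl_ff (K71.f718986 IH)) (K71.f920004 IH)) (f876204 IH)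
theorem f40891 : Led Lsl_bt (LP (LK LD1_c9 LD2_c46 LD3_c48)) = (LP (LK LD1_c4 LD2_c57 LD3_c59)) :=
  Lre_b IH (LK LD1_c9 LD2_c46 LD3_c48) (LK LD1_c4 LD2_c57 LD3_c59) Lrfl Lrfl
theorem f896589 : Led Lsl_af v15462 = K73.v37802 :=
  Lgr Lrot45 (Lpr_ft (f896580 IH) (Lpe (f896576 IH) (Lpr_ft (K73.f896588 IH) (Lpn K73.v37802))))
theorem f931528 : Led Lsl_bf v40796 = v15462 :=
  Lgr Lrot81 (Lpe (f919953 IH) (Lpr_bt (f40891 IH) (Lpqs (K53.f710850 IH) (Lpqs (f920020 IH) (Lpe (f876205 IH) (Lpqs (K71.f739639 IH) (Lpr_bt (K73.f876210 IH) (Lpq (K73.f920048 IH) (Lpq (K73.f931520 IH) (Lpe (f896589 IH) (Lpn v15462)))))))))))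
theorem f931531 : Led Lsl_bt v40796 = v15462 :=
  Lgr Lrot127 (Lpr_bf (f931528 IH) (Lpn v15462))
theorem f955319 : Led Lsl_bf (LP (LK LD1_c20 LD2_c1 LD3_c8)) = (LP (LK LD1_c15 LD2_c30 LD3_c48)) :=
  Lgr Lrot93 (Lpr_dt (f932211 IH) (Lpq (f955289 IH) (Lpr_bt (f55739 IH) (Lpr_dt (K57.f55738 IH) (Lpn (LP (LK LD1_c15 LD2_c30 LD3_c48)))))))
def v46474 : LQ := Led Lsl_bt (LP (LK LD1_c11 LD2_c7 LD3_c37))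
theorem f953819 : Led Lsl_bt (LP (LK LD1_c11 LD2_c7 LD3_c37)) = v46474 :=
  Lrfl
theorem f955324 : v46474 = K73.v37801 :=
  (Llr Lrot119 (Lpe (f953819 IH) (Lpe (f423281 IH) (Lpr_bf (f955319 IH) (Lpr_ef (K73.f896577 IH) (Lpn K73.v37801)))))).symm
theorem f953820 : Led Lsl_bf (LP (LK LD1_c11 LD2_c7 LD3_c37)) = v46474 :=
  Lgr Lrot24 (Lpr_bt (f953819 IH) (Lpn v46474))
theorem f955325 : v40796 = v46476 :=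
  (Llr Lrot61 (Lpr_bt (f931531 IH) (Lpr_ft (f896580 IH) (Lpq (f955324 IH) (Lpe (f953820 IH) (Lpr_ft (f953823 IH) (Lpn v46476))))))).symm
theorem f955326 : v15380 = (LP (LK LD1_c9 LD2_c46 LD3_c48)) :=
  Lefun (Lecon (Lfl_af (f953824 IH)) (f955325 IH).symm) (Lfl_af (f919953 IH))
theorem f955328 : Led Lsl_gt (LP (LK LD1_c9 LD2_c46 LD3_c48)) = (LP (LK LD1_c5 LD2_c38 LD3_c10)) :=
  Leop (Lpr_gf (f736037 IH) (Lpqs (f955326 IH) (Lpn (LP (LK LD1_c9 LD2_c46 LD3_c48)))))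
theorem seed_2774 : LEOK LG_g (LK LD1_c9 LD2_c46 LD3_c48) :=
  Leoe_g (LK LD1_c9 LD2_c46 LD3_c48) (f955328 IH)
def v46909 : LQ := Led Lsl_ct (LP (LK LD1_c11 LD2_c12 LD3_c42))
theorem f955790 : Led Lsl_ct (LP (LK LD1_c11 LD2_c12 LD3_c42)) = v46909 :=
  Lrfl
theorem f379988 : Led Lsl_bt (LP (LK LD1_c11 LD2_c12 LD3_c42)) = (LP (LK LD1_c5 LD2_c41 LD3_c14)) :=
  Lre_b IH (LK LD1_c11 LD2_c12 LD3_c42) (LK LD1_c5 LD2_c41 LD3_c14) Lrfl Lrfl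
theorem f177674 : Led Lsl_bt (LP (LK LD1_c16 LD2_c51 LD3_c53)) = (LP (LK LD1_c9 LD2_c1 LD3_c55)) :=
  Lre_b IH (LK LD1_c16 LD2_c51 LD3_c53) (LK LD1_c9 LD2_c1 LD3_c55) Lrfl Lrfl
theorem f177677 : Led Lsl_ct (LP (LK LD1_c16 LD2_c51 LD3_c53)) = (LP (LK LD1_c26 LD2_c48 LD3_c59)) :=
  Lre_c IH (LK LD1_c16 LD2_c51 LD3_c53) (LK LD1_c26 LD2_c48 LD3_c59) Lrfl Lrfl
theorem f268740 : Led Lsl_bt (LP (LK LD1_c2 LD2_c47 LD3_c31)) = (LP (LK LD1_c5 LD2_c42 LD3_c59)) :=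
  Lre_b IH (LK LD1_c2 LD2_c47 LD3_c31) (LK LD1_c5 LD2_c42 LD3_c59) Lrfl Lrfl
theorem f700306 : Led Lsl_bf (LP (LK LD1_c11 LD2_c16 LD3_c14)) = (LP (LK LD1_c9 LD2_c13 LD3_c11)) :=
  Lgr Lrot24 (Lpr_bt (K55.f700304 IH) (Lpn (LP (LK LD1_c9 LD2_c13 LD3_c11))))
def v38602 : LQ := Led Lsl_dt (LP (LK LD1_c9 LD2_c13 LD3_c10))
theorem f903181 : Led Lsl_dt (LP (LK LD1_c9 LD2_c13 LD3_c10)) = v38602 :=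
  Lrfl
def v18131 : LQ := Led Lsl_ct (LP (LK LD1_c6 LD2_c26 LD3_c36))
theorem f765183 : Led Lsl_ct (LP (LK LD1_c6 LD2_c26 LD3_c36)) = v18131 :=
  Lrfl
theorem f69109 : Led Lsl_dt (LP (LK LD1_c3 LD2_c11 LD3_c11)) = (LP (LK LD1_c1 LD2_c32 LD3_c0)) :=
  Lre_d IH (LK LD1_c3 LD2_c11 LD3_c11) (LK LD1_c1 LD2_c32 LD3_c0) Lrfl Lrfl
theorem f765187 : Led Lsl_gf (LP (LK LD1_c9 LD2_c13 LD3_c10)) = v18131 :=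
  Lgr Lrot104 (Lpr_ct (K72.f210133 IH) (Lpe (K55.f150568 IH) (Lpr_cf (K32.f416702 IH) (Lpe (K32.f415361 IH) (Lpr_cf (K1.f57125 IH) (Lpe (K32.f438544 IH) (Lpe (f69109 IH) (Lpr_gt (K32.f438556 IH) (Lpr_ct (f765183 IH) (Lpn v18131))))))))))
theorem f765185 : Led Lsl_cf (LP (LK LD1_c6 LD2_c26 LD3_c36)) = v18131 :=
  Lgr Lrot11 (Lpr_ct (f765183 IH) (Lpn v18131))
def v19586 : LQ := Led Lsl_ct (LP (LK LD1_c6 LD2_c44 LD3_c11))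
theorem f780830 : Led Lsl_ct (LP (LK LD1_c6 LD2_c44 LD3_c11)) = v19586 :=
  Lrfl
def v13832 : LQ := Led Lsl_ct (LP (LK LD1_c4 LD2_c48 LD3_c39))
theorem f705135 : Led Lsl_ct (LP (LK LD1_c4 LD2_c48 LD3_c39)) = v13832 :=
  Lrfl
theorem f135374 : Led Lsl_af (LP (LK LD1_c3 LD2_c20 LD3_c13)) = (LP (LK LD1_c4 LD2_c48 LD3_c40)) :=
  Lgr Lrot0 (Lpr_at (K6.f135356 IH) (Lpn (LP (LK LD1_c4 LD2_c48 LD3_c40))))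
theorem f705139 : Led Lsl_df K50.v4848 = v13832 :=
  Lgr Lrot106 (Lpe (K50.f640577 IH) (Lpr_dt (K41.f57180 IH) (Lpe (K1.f57125 IH) (Lpr_dt (K6.f57177 IH) (Lpr_ct (K32.f57178 IH) (Lpr_af (f135374 IH) (Lpe (K46.f84358 IH) (Lpr_dt (K6.f84353 IH) (Lpr_ct (f705135 IH) (Lpn v13832))))))))))
theorem f780833 : Led Lsl_df K50.v4187 = v19586 :=
  Lgr Lrot43 (Lpe (K50.f631740 IH) (Lpr_dt (K17.f301917 IH) (Lpr_ct (K32.f437345 IH) (Lpr_dt (K5.f23261 IH) (Lpr_ct (K58.f84364 IH) (Lpr_dt (K6.f84353 IH) (Lpr_ct (f705135 IH) (Lpe (f705139 IH) (Lpe (K50.f640577 IH) (Lpr_dt (K41.f57180 IH) (Lpe (K1.f57125 IH) (Lpr_dt (K6.f57177 IH) (Lpr_ct (K32.f57178 IH) (Lpr_dt (K32.f57179 IH) (Lpr_ct (f780830 IH) (Lpn v19586))))))))))))))))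
theorem f903186 : Led Lsl_gf v19586 = v38602 :=
  Lgr Lrot143 (Lpe (f780833 IH) (Lpe (K50.f631738 IH) (Lpe (K32.f69271 IH) (Lpe (K17.f416250 IH) (Lpe (K17.f155862 IH) (Lpe (K32.f438572 IH) (Lpr_cf (f765185 IH) (Lpe (f765187 IH) (Lpr_dt (f903181 IH) (Lpn v38602))))))))))
def v18136 : LQ := Led Lsl_ct (LP (LK LD1_c6 LD2_c26 LD3_c42))
theorem f765216 : Led Lsl_ct (LP (LK LD1_c6 LD2_c26 LD3_c42)) = v18136 :=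
  Lrfl
theorem f765217 : Led Lsl_cf (LP (LK LD1_c6 LD2_c26 LD3_c42)) = v18136 :=
  Lgr Lrot11 (Lpr_ct (f765216 IH) (Lpn v18136))
theorem f765218 : Led Lsl_df (LP (LK LD1_c6 LD2_c26 LD3_c59)) = v18136 :=
  Lgr Lrot106 (Lpr_ct (K56.f416389 IH) (Lpr_dt (K17.f155862 IH) (Lpr_ct (K32.f69073 IH) (Lpr_dt (K9.f67187 IH) (Lpr_ct (K32.f67198 IH) (Lpr_af (K58.f623501 IH) (Lpe (K58.f623505 IH) (Lpr_dt (K32.f437412 IH) (Lpr_ct (f765216 IH) (Lpn v18136))))))))))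
def v8043 : LQ := Led Lsl_gt K48.v1709
theorem f669754 : Led Lsl_gt K48.v1709 = v8043 :=
  Lrfl
theorem f669755 : Led Lsl_cf (LP (LK LD1_c4 LD2_c34 LD3_c6)) = v8043 :=
  Lgr Lrot99 (Lpr_df (K32.f505146 IH) (Lpe (K32.f505171 IH) (Lpe (K32.f445912 IH) (Lpr_cf (K29.f445906 IH) (Lpr_gf (K32.f446174 IH) (Lpr_df (K48.f500966 IH) (Lpe (K48.f500962 IH) (Lpr_ct (K48.f500967 IH) (Lpr_gt (f669754 IH) (Lpn v8043))))))))))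
theorem f669757 : Led Lsl_ct (LP (LK LD1_c4 LD2_c34 LD3_c6)) = v8043 :=
  Lgr Lrot59 (Lpr_cf (f669755 IH) (Lpn v8043))
def v13061 : LQ := Led Lsl_ct (LP (LK LD1_c4 LD2_c38 LD3_c42))
theorem f700856 : Led Lsl_ct (LP (LK LD1_c4 LD2_c38 LD3_c42)) = v13061 :=
  Lrfl
theorem f631733 : Led Lsl_dt (LP (LK LD1_c3 LD2_c13 LD3_c0)) = K48.v4186 :=
  Lgr Lrot57 (Lpe (K35.f79757 IH) (Lpr_cf (K35.f504005 IH) (Lpr_gt (K35.f414585 IH) (Lpr_dt (K32.f151931 IH) (Lpr_gt (K32.f84331 IH) (Lpr_dt (K6.f23271 IH) (Lpe (K32.f437345 IH) (Lpe (K17.f301917 IH) (Lpr_gf (K48.f631730 IH) (Lpn K48.v4186))))))))))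
theorem f669773 : Led Lsl_cf K48.v4186 = K48.v8044 :=
  Lgr Lrot11 (Lpr_ct (K48.f669763 IH) (Lpn K48.v8044))
theorem f700862 : Led Lsl_gf K48.v8044 = v13061 :=
  Lgr Lrot104 (Lpe (f669773 IH) (Lpe (f631733 IH) (Lpe (K41.f79821 IH) (Lpe (K11.f13572 IH) (Lpe (K57.f442904 IH) (Lpr_gf (K46.f507516 IH) (Lpe (K16.f204679 IH) (Lpe (K16.f210140 IH) (Lpr_ct (f700856 IH) (Lpn v13061))))))))))
theorem f505132 : Led Lsl_af (LP (LK LD1_c3 LD2_c13 LD3_c0)) = (LP (LK LD1_c2 LD2_c52 LD3_c38)) :=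
  Lgr Lrot45 (Lpr_ft (K32.f505130 IH) (Lpe (K32.f442844 IH) (Lpr_ft (K32.f56698 IH) (Lpn (LP (LK LD1_c2 LD2_c52 LD3_c38))))))
theorem f631734 : Led Lsl_af (LP (LK LD1_c2 LD2_c50 LD3_c33)) = K48.v4186 :=
  Lgr Lrot117 (Lpe (K24.f56695 IH) (Lpe (f505132 IH) (Lpr_dt (f631733 IH) (Lpn K48.v4186))))
theorem f669774 : Led Lsl_at K52.v4846 = K48.v8044 :=
  Lgr Lrot107 (Lpe (K52.f640571 IH) (Lpr_af (f631734 IH) (Lpr_cf (f669773 IH) (Lpn K48.v8044))))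
theorem f669758 : Led Lsl_ft K52.v4846 = v8043 :=
  Lgr Lrot4 (Lpe (K52.f640571 IH) (Lpe (K57.f505155 IH) (Lpr_cf (f669755 IH) (Lpn v8043))))
theorem f669759 : Led Lsl_ff K52.v4846 = v8043 :=
  Lgr Lrot3 (Lpr_ft (f669758 IH) (Lpn v8043))
theorem f700863 : Led Lsl_gt v8043 = v13061 :=
  Lgr Lrot5 (Lpe (f669759 IH) (Lpr_at (f669774 IH) (Lpr_gf (f700862 IH) (Lpn v13061))))
def v8045 : LQ := Led Lsl_dt K48.v1709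
theorem f669776 : Led Lsl_dt K48.v1709 = v8045 :=
  Lrfl
theorem f669778 : Led Lsl_cf (LP (LK LD1_c9 LD2_c20 LD3_c31)) = v8045 :=
  Lgr Lrot116 (Lpr_dt (K32.f150504 IH) (Lpr_ct (K16.f150503 IH) (Lpr_dt (K32.f150502 IH) (Lpe (K11.f150490 IH) (Lpe (K32.f204641 IH) (Lpe (K11.f69062 IH) (Lpr_dt (K16.f59860 IH) (Lpr_ct (K48.f500967 IH) (Lpr_dt (f669776 IH) (Lpn v8045))))))))))
def v5668 : LQ := Led Lsl_ct (LP (LK LD1_c3 LD2_c11 LD3_c35))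
theorem f648756 : Led Lsl_ct (LP (LK LD1_c3 LD2_c11 LD3_c35)) = v5668 :=
  Lrfl
theorem f648757 : Led Lsl_cf (LP (LK LD1_c3 LD2_c11 LD3_c35)) = v5668 :=
  Lgr Lrot11 (Lpr_ct (f648756 IH) (Lpn v5668))
theorem f700859 : Led Lsl_df v5668 = v13061 :=
  Lgr Lrot43 (Lpe (f648757 IH) (Lpr_dt (K17.f69061 IH) (Lpr_ct (K7.f69060 IH) (Lpr_dt (K9.f25848 IH) (Lpe (K11.f68989 IH) (Lpr_dt (K16.f59860 IH) (Lpr_ct (K48.f500967 IH) (Lpr_dt (f669776 IH) (Lpe (f669778 IH) (Lpr_dt (K32.f150504 IH) (Lpr_ct (K16.f150503 IH) (Lpr_dt (K32.f150502 IH) (Lpe (K11.f150490 IH) (Lpr_dt (K11.f150501 IH) (Lpr_ct (f700856 IH) (Lpn v13061))))))))))))))))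
theorem f765221 : Led Lsl_gt v5668 = v18136 :=
  Lgr Lrot49 (Lpr_df (f700859 IH) (Lpe (f700863 IH) (Lpe (f669757 IH) (Lpr_gt (K32.f437488 IH) (Lpr_dt (K41.f57180 IH) (Lpe (K48.f416346 IH) (Lpr_dt (K32.f414848 IH) (Lpe (K56.f416389 IH) (Lpr_df (f765218 IH) (Lpn v18136))))))))))
theorem f700865 : Led Lsl_dt v5668 = v13061 :=
  Lgr Lrot42 (Lpr_df (f700859 IH) (Lpn v13061))
theorem f780836 : Led Lsl_dt K50.v4187 = v19586 :=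
  Lgr Lrot27 (Lpe (K50.f631738 IH) (Lpr_gf (K48.f631730 IH) (Lpr_cf (f669773 IH) (Lpr_gf (f700862 IH) (Lpe (f700865 IH) (Lpr_gt (f765221 IH) (Lpe (f765217 IH) (Lpr_gt (K32.f437414 IH) (Lpr_ct (f780830 IH) (Lpn v19586))))))))))
theorem f631741 : Led Lsl_ef (LP (LK LD1_c2 LD2_c13 LD3_c61)) = K50.v4187 :=
  Lgr Lrot28 (Lpr_ct (K41.f146398 IH) (Lpr_et (K6.f146392 IH) (Lpr_ct (K50.f631738 IH) (Lpn K50.v4187))))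
theorem f500563 : Led Lsl_dt K36.v1292 = K36.v1650 :=
  Lgr Lrot42 (Lpr_df (K36.f500562 IH) (Lpn K36.v1650))
theorem f537239 : K36.v1650 = (LP (LK LD1_c1 LD2_c21 LD3_c52)) :=
  Lefun (Lecon (f500563 IH) (K36.f537094 IH)) (K11.f68654 IH)
theorem f537578 : K36.v2565 = (LP (LK LD1_c2 LD2_c51 LD3_c38)) :=
  Lefun (Lecon (K36.f527507 IH) (f537239 IH)) (K18.f177106 IH)
def v7266 : LQ := Led Lsl_bt (LP (LK LD1_c3 LD2_c43 LD3_c27))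
theorem f664011 : Led Lsl_bt (LP (LK LD1_c3 LD2_c43 LD3_c27)) = v7266 :=
  Lrfl
theorem f527520 : Led Lsl_bf (LP (LK LD1_c1 LD2_c48 LD3_c47)) = K38.v2566 :=
  Lgr Lrot93 (Lpr_dt (K7.f134798 IH) (Lpr_bt (K41.f97370 IH) (Lpr_dt (K38.f527519 IH) (Lpn K38.v2566))))
theorem f664014 : Led Lsl_ef K38.v2566 = v7266 :=
  Lgr Lrot29 (Lpe (f527520 IH) (Lpr_et (K55.f206299 IH) (Lpr_bt (f664011 IH) (Lpn v7266))))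
theorem f664016 : Led Lsl_et K38.v2566 = v7266 :=
  Lgr Lrot87 (Lpr_ef (f664014 IH) (Lpn v7266))
def v27163 : LQ := Led Lsl_gt v7266
theorem f838073 : Led Lsl_gt v7266 = v27163 :=
  Lrfl
theorem f903188 : Led Lsl_et (LP (LK LD1_c9 LD2_c13 LD3_c10)) = v27163 :=
  Lgr Lrot122 (Lpr_dt (f903181 IH) (Lpe (f903186 IH) (Lpe (f780836 IH) (Lpe (f631741 IH) (Lpr_gt (K18.f68553 IH) (Lpe (K18.f302482 IH) (Lpq (f537578 IH) (Lpe (K36.f527505 IH) (Lpr_df (K38.f527521 IH) (Lpr_et (f664016 IH) (Lpr_gt (f838073 IH) (Lpn v27163))))))))))))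
theorem f903191 : Led Lsl_ef (LP (LK LD1_c9 LD2_c13 LD3_c10)) = v27163 :=
  Lgr Lrot88 (Lpr_et (f903188 IH) (Lpn v27163))
theorem f903193 : Led Lsl_ct (LP (LK LD1_c9 LD2_c13 LD3_c11)) = v27163 :=
  Lgr Lrot15 (Lpe (K24.f26818 IH) (Lpe (K72.f210133 IH) (Lpr_ef (f903191 IH) (Lpn v27163))))
theorem f955795 : Led Lsl_gt v27163 = v46909 :=
  Lgr Lrot65 (Lpe (f903193 IH) (Lpe (f700306 IH) (Lpe (K51.f604814 IH) (Lpe (f268740 IH) (Lpr_ct (K41.f268743 IH) (Lpe (K56.f280946 IH) (Lpr_cf (K56.f741300 IH) (Lpr_gf (K56.f380081 IH) (Lpe (f379988 IH) (Lpr_ct (f955790 IH) (Lpn v46909)))))))))))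
theorem f396279 : Led Lsl_bt (LP (LK LD1_c11 LD2_c28 LD3_c10)) = (LP (LK LD1_c5 LD2_c49 LD3_c45)) :=
  Lre_b IH (LK LD1_c11 LD2_c28 LD3_c10) (LK LD1_c5 LD2_c49 LD3_c45) Lrfl Lrfl
theorem f396338 : Led Lsl_ct (LP (LK LD1_c11 LD2_c28 LD3_c10)) = (LP (LK LD1_c20 LD2_c25 LD3_c48)) :=
  Lre_c IH (LK LD1_c11 LD2_c28 LD3_c10) (LK LD1_c20 LD2_c25 LD3_c48) Lrfl Lrfl
theorem f955796 : Led Lsl_gt (LP (LK LD1_c26 LD2_c48 LD3_c59)) = (LP (LK LD1_c20 LD2_c25 LD3_c48)) :=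
  Lgr Lrot65 (Lpe (f177677 IH) (Lpr_bt (f177674 IH) (Lpr_gf (K56.f380081 IH) (Lpe (f379988 IH) (Lpr_ct (f955790 IH) (Lpe (f955795 IH) (Lpe (f903193 IH) (Lpe (K24.f396346 IH) (Lpe (f396279 IH) (Lpr_ct (f396338 IH) (Lpn (LP (LK LD1_c20 LD2_c25 LD3_c48)))))))))))))
theorem f955797 : Led Lsl_gt (LP (LK LD1_c26 LD2_c48 LD3_c59)) = (LP (LK LD1_c20 LD2_c25 LD3_c48)) :=
  Leop (Lpe (f955796 IH) (Lpn (LP (LK LD1_c26 LD2_c48 LD3_c59))))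
theorem seed_2775 : LEOK LG_g (LK LD1_c26 LD2_c48 LD3_c59) :=
  Leoe_g (LK LD1_c26 LD2_c48 LD3_c59) (f955797 IH)
def v46923 : LQ := Led Lsl_gt (LP (LK LD1_c11 LD2_c12 LD3_c46))
theorem f955855 : Led Lsl_gt (LP (LK LD1_c11 LD2_c12 LD3_c46)) = v46923 :=
  Lrfl
def v46924 : LQ := Led Lsl_gf (LP (LK LD1_c11 LD2_c12 LD3_c46))
theorem f955856 : Led Lsl_gf (LP (LK LD1_c11 LD2_c12 LD3_c46)) = v46924 :=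
  Lrfl
theorem f225801 : Led Lsl_ct (LP (LK LD1_c5 LD2_c41 LD3_c9)) = (LP (LK LD1_c11 LD2_c12 LD3_c46)) :=
  Lre_c IH (LK LD1_c5 LD2_c41 LD3_c9) (LK LD1_c11 LD2_c12 LD3_c46) Lrfl Lrfl
theorem f225800 : Led Lsl_bt (LP (LK LD1_c5 LD2_c41 LD3_c9)) = (LP (LK LD1_c2 LD2_c46 LD3_c37)) :=
  Lre_b IH (LK LD1_c5 LD2_c41 LD3_c9) (LK LD1_c2 LD2_c46 LD3_c37) Lrfl Lrfl
theorem f225734 : Led Lsl_cf (LP (LK LD1_c2 LD2_c42 LD3_c48)) = (LP (LK LD1_c1 LD2_c19 LD3_c43)) :=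
  Lgr Lrot11 (Lpr_ct (K40.f225725 IH) (Lpn (LP (LK LD1_c1 LD2_c19 LD3_c43))))
theorem f381904 : Led Lsl_ft (LP (LK LD1_c5 LD2_c43 LD3_c46)) = (LP (LK LD1_c11 LD2_c17 LD3_c33)) :=
  Lre_f IH (LK LD1_c5 LD2_c43 LD3_c46) (LK LD1_c11 LD2_c17 LD3_c33) Lrfl Lrfl
theorem f644601 : Led Lsl_bt (LP (LK LD1_c11 LD2_c17 LD3_c33)) = (LP (LK LD1_c11 LD2_c16 LD3_c22)) :=
  Lgr Lrot35 (Lpe (f381904 IH) (Lpe (K36.f381891 IH) (Lpr_ff (K54.f644596 IH) (Lpn (LP (LK LD1_c11 LD2_c16 LD3_c22))))))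
theorem f955857 : Led Lsl_ct (LP (LK LD1_c11 LD2_c17 LD3_c33)) = v46924 :=
  Lgr Lrot64 (Lpr_bt (f644601 IH) (Lpe (K54.f507705 IH) (Lpe (K54.f507669 IH) (Lpr_ct (K52.f638926 IH) (Lpqs (K52.f714311 IH) (Lpe (K52.f225740 IH) (Lpr_cf (f225734 IH) (Lpe (K52.f171786 IH) (Lpe (f225800 IH) (Lpr_ct (f225801 IH) (Lpr_gf (f955856 IH) (Lpn v46924))))))))))))
theorem f381481 : Led Lsl_ct (LP (LK LD1_c11 LD2_c17 LD3_c29)) = (LP (LK LD1_c5 LD2_c43 LD3_c46)) :=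
  Lre_c IH (LK LD1_c11 LD2_c17 LD3_c29) (LK LD1_c5 LD2_c43 LD3_c46) Lrfl Lrfl
theorem f955859 : Led Lsl_ff (LP (LK LD1_c11 LD2_c17 LD3_c29)) = v46924 :=
  Lgr Lrot23 (Lpr_ct (f381481 IH) (Lpr_ft (f381904 IH) (Lpr_ct (f955857 IH) (Lpn v46924))))
theorem f381405 : Led Lsl_bt (LP (LK LD1_c11 LD2_c16 LD3_c50)) = (LP (LK LD1_c5 LD2_c43 LD3_c23)) :=
  Lre_b IH (LK LD1_c11 LD2_c16 LD3_c50) (LK LD1_c5 LD2_c43 LD3_c23) Lrfl Lrfl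
theorem f382129 : Led Lsl_bt (LP (LK LD1_c11 LD2_c11 LD3_c54)) = (LP (LK LD1_c20 LD2_c6 LD3_c39)) :=
  Lre_b IH (LK LD1_c11 LD2_c11 LD3_c54) (LK LD1_c20 LD2_c6 LD3_c39) Lrfl Lrfl
theorem f382138 : Led Lsl_ff (LP (LK LD1_c11 LD2_c16 LD3_c50)) = (LP (LK LD1_c20 LD2_c6 LD3_c39)) :=
  Lgr Lrot25 (Lpr_bt (f381405 IH) (Lpr_ft (K39.f382136 IH) (Lpr_bt (f382129 IH) (Lpn (LP (LK LD1_c20 LD2_c6 LD3_c39))))))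
theorem f382146 : Led Lsl_ft (LP (LK LD1_c11 LD2_c16 LD3_c50)) = (LP (LK LD1_c20 LD2_c6 LD3_c39)) :=
  Lgr Lrot48 (Lpr_ff (f382138 IH) (Lpn (LP (LK LD1_c20 LD2_c6 LD3_c39))))
theorem f381733 : Led Lsl_bf (LP (LK LD1_c5 LD2_c43 LD3_c16)) = (LP (LK LD1_c6 LD2_c4 LD3_c19)) :=
  Lgr Lrot93 (Lpr_dt (K27.f381731 IH) (Lpr_bt (K27.f42051 IH) (Lpr_dt (K9.f29024 IH) (Lpn (LP (LK LD1_c6 LD2_c4 LD3_c19))))))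
theorem f42056 : Led Lsl_bt (LP (LK LD1_c11 LD2_c52 LD3_c9)) = (LP (LK LD1_c6 LD2_c4 LD3_c22)) :=
  Lre_b IH (LK LD1_c11 LD2_c52 LD3_c9) (LK LD1_c6 LD2_c4 LD3_c22) Lrfl Lrfl
theorem f381750 : Led Lsl_af (LP (LK LD1_c11 LD2_c52 LD3_c9)) = (LP (LK LD1_c11 LD2_c16 LD3_c50)) :=
  Lgr Lrot36 (Lpr_bt (f42056 IH) (Lpe (K9.f42052 IH) (Lpe (f381733 IH) (Lpr_at (K27.f381745 IH) (Lpr_bt (K67.f381749 IH) (Lpn (LP (LK LD1_c11 LD2_c16 LD3_c50))))))))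
theorem f382107 : Led Lsl_at (LP (LK LD1_c11 LD2_c52 LD3_c9)) = (LP (LK LD1_c11 LD2_c16 LD3_c50)) :=
  Lgr Lrot100 (Lpr_af (f381750 IH) (Lpn (LP (LK LD1_c11 LD2_c16 LD3_c50))))
theorem f199946 : Led Lsl_ft (LP (LK LD1_c15 LD2_c43 LD3_c22)) = (LP (LK LD1_c11 LD2_c52 LD3_c9)) :=
  Lgr Lrot75 (Lpe (K50.f199945 IH) (Lpr_ff (K16.f199934 IH) (Lpe (f42056 IH) (Lpn (LP (LK LD1_c11 LD2_c52 LD3_c9))))))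
theorem f382150 : Led Lsl_af (LP (LK LD1_c15 LD2_c43 LD3_c22)) = (LP (LK LD1_c20 LD2_c6 LD3_c39)) :=
  Lgr Lrot45 (Lpr_ft (f199946 IH) (Lpr_at (f382107 IH) (Lpr_ft (f382146 IH) (Lpn (LP (LK LD1_c20 LD2_c6 LD3_c39))))))
theorem f199954 : Led Lsl_et (LP (LK LD1_c15 LD2_c43 LD3_c22)) = (LP (LK LD1_c25 LD2_c39 LD3_c34)) :=
  Lre_e IH (LK LD1_c15 LD2_c43 LD3_c22) (LK LD1_c25 LD2_c39 LD3_c34) Lrfl Lrfl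
theorem f382145 : Led Lsl_et (LP (LK LD1_c29 LD2_c18 LD3_c22)) = (LP (LK LD1_c20 LD2_c6 LD3_c39)) :=
  Lre_e IH (LK LD1_c29 LD2_c18 LD3_c22) (LK LD1_c20 LD2_c6 LD3_c39) Lrfl Lrfl
theorem f382153 : Led Lsl_at (LP (LK LD1_c25 LD2_c39 LD3_c34)) = (LP (LK LD1_c29 LD2_c18 LD3_c22)) :=
  Lgr Lrot80 (Lpe (f199954 IH) (Lpr_af (f382150 IH) (Lpe (f382145 IH) (Lpn (LP (LK LD1_c29 LD2_c18 LD3_c22))))))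
theorem f232816 : Led Lsl_bt (LP (LK LD1_c15 LD2_c43 LD3_c24)) = (LP (LK LD1_c25 LD2_c39 LD3_c34)) :=
  Lre_b IH (LK LD1_c15 LD2_c43 LD3_c24) (LK LD1_c25 LD2_c39 LD3_c34) Lrfl Lrfl
theorem f232805 : Led Lsl_et (LP (LK LD1_c16 LD2_c2 LD3_c37)) = (LP (LK LD1_c8 LD2_c32 LD3_c42)) :=
  Lre_e IH (LK LD1_c16 LD2_c2 LD3_c37) (LK LD1_c8 LD2_c32 LD3_c42) Lrfl Lrfl
theorem f199944 : Led Lsl_et (LP (LK LD1_c8 LD2_c21 LD3_c13)) = (LP (LK LD1_c15 LD2_c43 LD3_c24)) :=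
  Lre_e IH (LK LD1_c8 LD2_c21 LD3_c13) (LK LD1_c15 LD2_c43 LD3_c24) Lrfl Lrfl
theorem f232811 : Led Lsl_af (LP (LK LD1_c16 LD2_c2 LD3_c37)) = (LP (LK LD1_c15 LD2_c43 LD3_c24)) :=
  Lgr Lrot50 (Lpr_et (f232805 IH) (Lpr_at (K19.f232808 IH) (Lpr_et (f199944 IH) (Lpn (LP (LK LD1_c15 LD2_c43 LD3_c24))))))
theorem f232813 : Led Lsl_at (LP (LK LD1_c16 LD2_c2 LD3_c37)) = (LP (LK LD1_c15 LD2_c43 LD3_c24)) :=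
  Lgr Lrot100 (Lpr_af (f232811 IH) (Lpn (LP (LK LD1_c15 LD2_c43 LD3_c24))))
theorem f381474 : Led Lsl_et (LP (LK LD1_c5 LD2_c43 LD3_c45)) = (LP (LK LD1_c11 LD2_c17 LD3_c29)) :=
  Lre_e IH (LK LD1_c5 LD2_c43 LD3_c45) (LK LD1_c11 LD2_c17 LD3_c29) Lrfl Lrfl
theorem f381475 : Led Lsl_bt (LP (LK LD1_c11 LD2_c17 LD3_c29)) = (LP (LK LD1_c16 LD2_c2 LD3_c37)) :=
  Lgr Lrot119 (Lpe (f381474 IH) (Lpr_bf (K27.f381469 IH) (Lpe (f232805 IH) (Lpn (LP (LK LD1_c16 LD2_c2 LD3_c37))))))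
theorem f382157 : Led Lsl_bt (LP (LK LD1_c29 LD2_c18 LD3_c22)) = (LP (LK LD1_c20 LD2_c6 LD3_c40)) :=
  Lre_b IH (LK LD1_c29 LD2_c18 LD3_c22) (LK LD1_c20 LD2_c6 LD3_c40) Lrfl Lrfl
theorem f382158 : Led Lsl_af (LP (LK LD1_c11 LD2_c17 LD3_c29)) = (LP (LK LD1_c20 LD2_c6 LD3_c40)) :=
  Lgr Lrot36 (Lpr_bt (f381475 IH) (Lpr_at (f232813 IH) (Lpr_bt (f232816 IH) (Lpr_at (f382153 IH) (Lpr_bt (f382157 IH) (Lpn (LP (LK LD1_c20 LD2_c6 LD3_c40))))))))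
theorem f382160 : Led Lsl_at (LP (LK LD1_c11 LD2_c17 LD3_c29)) = (LP (LK LD1_c20 LD2_c6 LD3_c40)) :=
  Lgr Lrot100 (Lpr_af (f382158 IH) (Lpn (LP (LK LD1_c20 LD2_c6 LD3_c40))))
theorem f955861 : (LP (LK LD1_c20 LD2_c6 LD3_c40)) = v46923 :=
  (Llr Lrot26 (Lpe (f382160 IH) (Lpr_ff (f955859 IH) (Lpe (f955856 IH) (Lpr_gt (f955855 IH) (Lpn v46923)))))).symm
theorem f955862 : Led Lsl_gt (LP (LK LD1_c11 LD2_c12 LD3_c46)) = (LP (LK LD1_c20 LD2_c6 LD3_c40)) :=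
  Leop (Lpqs (f955861 IH) (Lpe (f955855 IH) (Lpn (LP (LK LD1_c11 LD2_c12 LD3_c46)))))
theorem seed_2776 : LEOK LG_g (LK LD1_c11 LD2_c12 LD3_c46) :=
  Leoe_g (LK LD1_c11 LD2_c12 LD3_c46) (f955862 IH)
def v46935 : LQ := Led Lsl_et (LP (LK LD1_c11 LD2_c12 LD3_c50))
theorem f955891 : Led Lsl_et (LP (LK LD1_c11 LD2_c12 LD3_c50)) = v46935 :=
  Lrfl
theorem f955893 : Led Lsl_ef (LP (LK LD1_c11 LD2_c12 LD3_c50)) = v46935 :=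
  Lgr Lrot88 (Lpr_et (f955891 IH) (Lpn v46935))
theorem f379993 : Led Lsl_bt (LP (LK LD1_c11 LD2_c12 LD3_c50)) = (LP (LK LD1_c5 LD2_c41 LD3_c12)) :=
  Lre_b IH (LK LD1_c11 LD2_c12 LD3_c50) (LK LD1_c5 LD2_c41 LD3_c12) Lrfl Lrfl
def v15533 : LQ := Led Lsl_et (LP (LK LD1_c5 LD2_c41 LD3_c12))
theorem f737892 : Led Lsl_et (LP (LK LD1_c5 LD2_c41 LD3_c12)) = v15533 :=
  Lrfl
theorem f955894 : Led Lsl_bt v15533 = v46935 :=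
  Lgr Lrot119 (Lpe (f737892 IH) (Lpe (f379993 IH) (Lpr_ef (f955893 IH) (Lpn v46935))))
theorem f737895 : Led Lsl_ef (LP (LK LD1_c5 LD2_c41 LD3_c12)) = v15533 :=
  Lgr Lrot88 (Lpr_et (f737892 IH) (Lpn v15533))
theorem f737555 : Led Lsl_dt (LP (LK LD1_c5 LD2_c41 LD3_c12)) = (LP (LK LD1_c11 LD2_c11 LD3_c16)) :=
  Lgr Lrot42 (Lpr_df (K54.f737550 IH) (Lpn (LP (LK LD1_c11 LD2_c11 LD3_c16))))
theorem f737897 : Led Lsl_dt (LP (LK LD1_c9 LD2_c5 LD3_c26)) = v15533 :=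
  Lgr Lrot77 (Lpe (K54.f707191 IH) (Lpe (K57.f707195 IH) (Lpr_ef (K54.f737543 IH) (Lpe (f737555 IH) (Lpr_ef (f737895 IH) (Lpn v15533))))))
def v1703 : LQ := Led Lsl_et (LP (LK LD1_c1 LD2_c24 LD3_c16))
def v8040 : LQ := Led Lsl_gf v1703
def v28297 : LQ := Led Lsl_ct v8040
theorem f843572 : Led Lsl_ct v8040 = v28297 :=
  Lrfl
def v8039 : LQ := Led Lsl_gt v1703
def v28291 : LQ := Led Lsl_at v8039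
theorem f843548 : Led Lsl_at v8039 = v28291 :=
  Lrfl
theorem f843549 : Led Lsl_af v8039 = v28291 :=
  Lgr Lrot0 (Lpr_at (f843548 IH) (Lpn v28291))
theorem f669744 : Led Lsl_gt v1703 = v8039 :=
  Lrfl
theorem f669745 : Led Lsl_gf v1703 = v8040 :=
  Lrfl
theorem f843550 : Led Lsl_ft v8040 = v28291 :=
  Lgr Lrot2 (Lpe (f669745 IH) (Lpr_gt (f669744 IH) (Lpr_af (f843549 IH) (Lpn v28291))))
theorem f843551 : Led Lsl_ff v8040 = v28291 :=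
  Lgr Lrot3 (Lpr_ft (f843550 IH) (Lpn v28291))
def v28293 : LQ := Led Lsl_ct v8039
theorem f843554 : Led Lsl_ct v8039 = v28293 :=
  Lrfl
theorem f843555 : Led Lsl_cf v8039 = v28293 :=
  Lgr Lrot11 (Lpr_ct (f843554 IH) (Lpn v28293))
theorem f500930 : Led Lsl_et (LP (LK LD1_c1 LD2_c24 LD3_c16)) = v1703 :=
  Lrfl
theorem f500933 : Led Lsl_ef (LP (LK LD1_c1 LD2_c24 LD3_c16)) = v1703 :=
  Lgr Lrot88 (Lpr_et (f500930 IH) (Lpn v1703))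
theorem f500935 : Led Lsl_ct (LP (LK LD1_c1 LD2_c24 LD3_c17)) = v1703 :=
  Lgr Lrot15 (Lpe (K56.f202612 IH) (Lpe (K6.f26505 IH) (Lpr_ef (f500933 IH) (Lpn v1703))))
theorem f119872 : Led Lsl_ft (LP (LK LD1_c6 LD2_c0 LD3_c32)) = (LP (LK LD1_c11 LD2_c45 LD3_c25)) :=
  Lre_f IH (LK LD1_c6 LD2_c0 LD3_c32) (LK LD1_c11 LD2_c45 LD3_c25) Lrfl Lrfl
theorem f749987 : Led Lsl_at (LP (LK LD1_c11 LD2_c45 LD3_c25)) = (LP (LK LD1_c12 LD2_c25 LD3_c0)) :=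
  Lgr Lrot66 (Lpe (f119872 IH) (Lpe (K52.f498360 IH) (Lpr_ff (K56.f749985 IH) (Lpn (LP (LK LD1_c12 LD2_c25 LD3_c0))))))
theorem f750096 : Led Lsl_gt K65.v16431 = (LP (LK LD1_c12 LD2_c25 LD3_c0)) :=
  Lgr Lrot46 (Lpe (K65.f749319 IH) (Lpr_ft (f119872 IH) (Lpr_at (f749987 IH) (Lpn (LP (LK LD1_c12 LD2_c25 LD3_c0))))))
theorem f843557 : Led Lsl_bf K65.v16431 = v28293 :=
  Lgr Lrot156 (Lpr_gt (f750096 IH) (Lpe (K56.f749239 IH) (Lpr_ct (K56.f69124 IH) (Lpr_gt (K56.f749893 IH) (Lpe (K56.f749891 IH) (Lpr_bt (K56.f69123 IH) (Lpr_gt (K56.f69122 IH) (Lpr_ct (f500935 IH) (Lpr_gt (f669744 IH) (Lpr_cf (f843555 IH) (Lpn v28293)))))))))))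
theorem f843559 : Led Lsl_bt K65.v16431 = v28293 :=
  Lgr Lrot127 (Lpr_bf (f843557 IH) (Lpn v28293))
theorem f825894 : Led Lsl_bt (LP (LK LD1_c9 LD2_c5 LD3_c25)) = K65.v24855 :=
  Lgr Lrot127 (Lpr_bf (K65.f825893 IH) (Lpn K65.v24855))
def v12890 : LQ := Led Lsl_bt (LP (LK LD1_c4 LD2_c34 LD3_c1))
theorem f698852 : Led Lsl_bt (LP (LK LD1_c4 LD2_c34 LD3_c1)) = v12890 :=
  Lrfl
theorem f698853 : Led Lsl_bf (LP (LK LD1_c4 LD2_c34 LD3_c1)) = v12890 :=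
  Lgr Lrot24 (Lpr_bt (f698852 IH) (Lpn v12890))
theorem f843560 : Led Lsl_af v12890 = v28293 :=
  Lgr Lrot36 (Lpe (f698853 IH) (Lpr_at (K54.f698847 IH) (Lpqs (K56.f737625 IH) (Lpr_bt (f825894 IH) (Lpe (K65.f825897 IH) (Lpr_bt (f843559 IH) (Lpn v28293)))))))
def v5067 : LQ := Led Lsl_et (LP (LK LD1_c2 LD2_c56 LD3_c59))
def v24893 : LQ := Led Lsl_gt v5067
theorem f826125 : Led Lsl_gt v5067 = v24893 :=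
  Lrfl
theorem f645161 : Led Lsl_et (LP (LK LD1_c2 LD2_c56 LD3_c59)) = v5067 :=
  Lrfl
theorem f645164 : Led Lsl_ef (LP (LK LD1_c2 LD2_c56 LD3_c59)) = v5067 :=
  Lgr Lrot88 (Lpr_et (f645161 IH) (Lpn v5067))
theorem f645166 : Led Lsl_ct (LP (LK LD1_c2 LD2_c56 LD3_c60)) = v5067 :=
  Lgr Lrot15 (Lpe (K16.f202216 IH) (Lpe (K11.f202229 IH) (Lpr_ef (f645164 IH) (Lpn v5067))))
theorem f669293 : Led Lsl_bf (LP (LK LD1_c6 LD2_c1 LD3_c43)) = (LP (LK LD1_c9 LD2_c30 LD3_c13)) :=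
  Lgr Lrot34 (Lpe (K67.f69093 IH) (Lpe (K67.f69092 IH) (Lpr_ct (K11.f69064 IH) (Lpr_gf (K24.f435371 IH) (Lpr_cf (K32.f438432 IH) (Lpe (K24.f56661 IH) (Lpe (K48.f57224 IH) (Lpr_ct (K48.f57115 IH) (Lpe (K48.f57240 IH) (Lpr_cf (K48.f669283 IH) (Lpn (LP (LK LD1_c9 LD2_c30 LD3_c13)))))))))))))
theorem f415457 : Led Lsl_gt (LP (LK LD1_c11 LD2_c25 LD3_c52)) = (LP (LK LD1_c5 LD2_c48 LD3_c23)) :=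
  Lre_g IH (LK LD1_c11 LD2_c25 LD3_c52) (LK LD1_c5 LD2_c48 LD3_c23) Lrfl Lrfl
theorem f826127 : Led Lsl_ct v12890 = v24893 :=
  Lgr Lrot63 (Lpe (f698853 IH) (Lpr_gt (K54.f437268 IH) (Lpr_bf (K32.f146438 IH) (Lpr_ct (K56.f415456 IH) (Lpr_gt (f415457 IH) (Lpr_cf (K48.f669283 IH) (Lpe (f669293 IH) (Lpr_gt (K67.f202254 IH) (Lpr_ct (f645166 IH) (Lpr_gt (f826125 IH) (Lpn v24893)))))))))))
theorem f843561 : v24893 = v28291 :=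
  (Llr Lrot111 (Lpe (f826127 IH) (Lpr_af (f843560 IH) (Lpe (f843554 IH) (Lpr_af (f843549 IH) (Lpn v28291)))))).symm
theorem f843574 : Led Lsl_ff v12890 = v28297 :=
  Lgr Lrot23 (Lpr_ct (f826127 IH) (Lpqs (f843561 IH) (Lpe (f843551 IH) (Lpr_ct (f843572 IH) (Lpn v28297)))))
theorem f843576 : Led Lsl_ft v12890 = v28297 :=
  Lgr Lrot48 (Lpr_ff (f843574 IH) (Lpn v28297))
theorem f843578 : Led Lsl_bf K54.v12893 = v28297 :=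
  Lgr Lrot61 (Lpe (K54.f698862 IH) (Lpr_bt (f698852 IH) (Lpr_ft (f843576 IH) (Lpn v28297))))
theorem f955895 : Led Lsl_df v28297 = v46935 :=
  Lgr Lrot12 (Lpe (f843578 IH) (Lpq (K54.f737612 IH) (Lpr_dt (f737897 IH) (Lpr_bt (f955894 IH) (Lpn v46935)))))
theorem f843558 : Led Lsl_at v12890 = v28293 :=
  Lgr Lrot67 (Lpe (f698852 IH) (Lpr_af (K54.f698848 IH) (Lpqs (K56.f737625 IH) (Lpr_bf (K65.f825893 IH) (Lpe (K65.f825922 IH) (Lpr_bf (f843557 IH) (Lpn v28293)))))))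
def v16488 : LQ := Led Lsl_ct (LP (LK LD1_c6 LD2_c1 LD3_c45))
theorem f749782 : Led Lsl_ct (LP (LK LD1_c6 LD2_c1 LD3_c45)) = v16488 :=
  Lrfl
theorem f645163 : Led Lsl_cf (LP (LK LD1_c2 LD2_c56 LD3_c60)) = v5067 :=
  Lgr Lrot39 (Lpr_et (K56.f202364 IH) (Lpr_ct (K11.f202208 IH) (Lpr_et (f645161 IH) (Lpn v5067))))
theorem f749785 : Led Lsl_ff v5067 = v16488 :=
  Lgr Lrot23 (Lpe (f645163 IH) (Lpr_ft (K56.f210102 IH) (Lpr_ct (f749782 IH) (Lpn v16488))))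
theorem f69125 : Led Lsl_at (LP (LK LD1_c1 LD2_c24 LD3_c16)) = (LP (LK LD1_c2 LD2_c56 LD3_c59)) :=
  Lre_a IH (LK LD1_c1 LD2_c24 LD3_c16) (LK LD1_c2 LD2_c56 LD3_c59) Lrfl Lrfl
theorem f645162 : Led Lsl_af v1703 = v5067 :=
  Lgr Lrot50 (Lpe (f500933 IH) (Lpr_at (f69125 IH) (Lpr_et (f645161 IH) (Lpn v5067))))
def v5073 : LQ := Led Lsl_ct (LP (LK LD1_c2 LD2_c57 LD3_c5))
theorem f645191 : Led Lsl_ct (LP (LK LD1_c2 LD2_c57 LD3_c5)) = v5073 :=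
  Lrfl
theorem f419062 : Led Lsl_ft (LP (LK LD1_c1 LD2_c24 LD3_c17)) = (LP (LK LD1_c2 LD2_c57 LD3_c5)) :=
  Lre_f IH (LK LD1_c1 LD2_c24 LD3_c17) (LK LD1_c2 LD2_c57 LD3_c5) Lrfl Lrfl
theorem f500932 : Led Lsl_cf (LP (LK LD1_c1 LD2_c24 LD3_c17)) = v1703 :=
  Lgr Lrot39 (Lpr_et (K56.f139491 IH) (Lpr_ct (K4.f26486 IH) (Lpr_et (f500930 IH) (Lpn v1703))))
theorem f645194 : Led Lsl_ff v1703 = v5073 :=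
  Lgr Lrot23 (Lpe (f500932 IH) (Lpr_ft (f419062 IH) (Lpr_ct (f645191 IH) (Lpn v5073))))
theorem f645198 : Led Lsl_ft v1703 = v5073 :=
  Lgr Lrot48 (Lpr_ff (f645194 IH) (Lpn v5073))
theorem f749786 : Led Lsl_at v5073 = v16488 :=
  Lgr Lrot66 (Lpe (f645198 IH) (Lpr_af (f645162 IH) (Lpr_ff (f749785 IH) (Lpn v16488))))
theorem f749789 : Led Lsl_gt v8039 = v16488 :=
  Lgr Lrot46 (Lpe (f669744 IH) (Lpr_ft (f645198 IH) (Lpr_at (f749786 IH) (Lpn v16488))))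
theorem f210088 : Led Lsl_bf (LP (LK LD1_c9 LD2_c12 LD3_c52)) = (LP (LK LD1_c6 LD2_c1 LD3_c45)) :=
  Lgr Lrot24 (Lpr_bt (K55.f210085 IH) (Lpn (LP (LK LD1_c6 LD2_c1 LD3_c45))))
theorem f204623 : Led Lsl_gt (LP (LK LD1_c9 LD2_c12 LD3_c52)) = (LP (LK LD1_c4 LD2_c38 LD3_c35)) :=
  Lre_g IH (LK LD1_c9 LD2_c12 LD3_c52) (LK LD1_c4 LD2_c38 LD3_c35) Lrfl Lrfl
theorem f57055 : Led Lsl_ct (LP (LK LD1_c4 LD2_c59 LD3_c26)) = (LP (LK LD1_c2 LD2_c27 LD3_c35)) :=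
  Lre_c IH (LK LD1_c4 LD2_c59 LD3_c26) (LK LD1_c2 LD2_c27 LD3_c35) Lrfl Lrfl
theorem f499356 : Led Lsl_ct (LP (LK LD1_c4 LD2_c59 LD3_c12)) = (LP (LK LD1_c9 LD2_c48 LD3_c51)) :=
  Lre_c IH (LK LD1_c4 LD2_c59 LD3_c12) (LK LD1_c9 LD2_c48 LD3_c51) Lrfl Lrfl
theorem f499357 : Led Lsl_af (LP (LK LD1_c4 LD2_c59 LD3_c26)) = (LP (LK LD1_c9 LD2_c48 LD3_c51)) :=
  Lgr Lrot68 (Lpr_ct (f57055 IH) (Lpr_at (K51.f499349 IH) (Lpr_ct (f499356 IH) (Lpn (LP (LK LD1_c9 LD2_c48 LD3_c51))))))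
theorem f499363 : Led Lsl_at (LP (LK LD1_c4 LD2_c59 LD3_c26)) = (LP (LK LD1_c9 LD2_c48 LD3_c51)) :=
  Lgr Lrot100 (Lpr_af (f499357 IH) (Lpn (LP (LK LD1_c9 LD2_c48 LD3_c51))))
theorem f669421 : Led Lsl_gf (LP (LK LD1_c9 LD2_c48 LD3_c51)) = (LP (LK LD1_c17 LD2_c7 LD3_c30)) :=
  Lgr Lrot76 (Lpe (f499363 IH) (Lpe (K42.f499380 IH) (Lpr_gt (K55.f669419 IH) (Lpn (LP (LK LD1_c17 LD2_c7 LD3_c30))))))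
theorem f499355 : Led Lsl_bt (LP (LK LD1_c4 LD2_c59 LD3_c12)) = (LP (LK LD1_c9 LD2_c48 LD3_c49)) :=
  Lre_b IH (LK LD1_c4 LD2_c59 LD3_c12) (LK LD1_c9 LD2_c48 LD3_c49) Lrfl Lrfl
theorem f843556 : Led Lsl_gt (LP (LK LD1_c9 LD2_c48 LD3_c49)) = v28293 :=
  Lgr Lrot82 (Lpe (f499355 IH) (Lpr_ct (f499356 IH) (Lpr_gf (f669421 IH) (Lpe (K55.f150573 IH) (Lpr_bt (K55.f150572 IH) (Lpe (f204623 IH) (Lpr_bf (f210088 IH) (Lpr_ct (f749782 IH) (Lpe (f749789 IH) (Lpr_cf (f843555 IH) (Lpn v28293)))))))))))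
theorem f843577 : Led Lsl_gf (LP (LK LD1_c9 LD2_c48 LD3_c49)) = v28297 :=
  Lgr Lrot47 (Lpr_gt (f843556 IH) (Lpe (f843558 IH) (Lpr_ff (f843574 IH) (Lpn v28297))))
theorem f613812 : Led Lsl_dt (LP (LK LD1_c12 LD2_c10 LD3_c52)) = (LP (LK LD1_c9 LD2_c48 LD3_c49)) :=
  Lgr Lrot79 (Lpr_bf (K69.f571438 IH) (Lpe (K48.f104891 IH) (Lpe (K57.f499381 IH) (Lpn (LP (LK LD1_c9 LD2_c48 LD3_c49))))))
def v46934 : LQ := Led Lsl_gf (LP (LK LD1_c11 LD2_c12 LD3_c50))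
theorem f955890 : Led Lsl_gf (LP (LK LD1_c11 LD2_c12 LD3_c50)) = v46934 :=
  Lrfl
theorem f955897 : (LP (LK LD1_c11 LD2_c27 LD3_c36)) = v46934 :=
  (Llr Lrot185 (Lpe (K44.f548959 IH) (Lpe (K43.f548955 IH) (Lpr_gf (K43.f565242 IH) (Lpr_df (K36.f61370 IH) (Lpr_gf (K42.f571424 IH) (Lpe (K69.f565235 IH) (Lpr_dt (f613812 IH) (Lpr_gf (f843577 IH) (Lpr_df (f955895 IH) (Lpe (f955893 IH) (Lpr_gf (f955890 IH) (Lpn v46934))))))))))))).symm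
theorem f955898 : Led Lsl_gt (LP (LK LD1_c11 LD2_c27 LD3_c36)) = (LP (LK LD1_c11 LD2_c12 LD3_c50)) :=
  Leop (Lpr_gf (f955890 IH) (Lpq (f955897 IH) (Lpn (LP (LK LD1_c11 LD2_c27 LD3_c36)))))
theorem seed_2777 : LEOK LG_g (LK LD1_c11 LD2_c27 LD3_c36) :=
  Leoe_g (LK LD1_c11 LD2_c27 LD3_c36) (f955898 IH)
def v46966 : LQ := Led Lsl_gt (LP (LK LD1_c11 LD2_c13 LD3_c17))
theorem f956034 : Led Lsl_gt (LP (LK LD1_c11 LD2_c13 LD3_c17)) = v46966 :=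
  Lrfl
theorem f281829 : Led Lsl_ct (LP (LK LD1_c5 LD2_c41 LD3_c34)) = (LP (LK LD1_c11 LD2_c13 LD3_c17)) :=
  Lre_c IH (LK LD1_c5 LD2_c41 LD3_c34) (LK LD1_c11 LD2_c13 LD3_c17) Lrfl Lrfl
theorem f737805 : Led Lsl_ct (LP (LK LD1_c5 LD2_c40 LD3_c53)) = K69.v15506 :=
  Lgr Lrot40 (Lpe (K69.f380521 IH) (Lpe (K52.f380513 IH) (Lpr_ff (K69.f737804 IH) (Lpn K69.v15506))))
theorem f613363 : Led Lsl_gt (LP (LK LD1_c9 LD2_c1 LD3_c30)) = (LP (LK LD1_c5 LD2_c40 LD3_c53)) :=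
  Lgr Lrot46 (Lpe (K69.f390229 IH) (Lpr_ft (K50.f380702 IH) (Lpr_at (K50.f613355 IH) (Lpn (LP (LK LD1_c5 LD2_c40 LD3_c53))))))
theorem f390230 : Led Lsl_bt (LP (LK LD1_c16 LD2_c51 LD3_c27)) = (LP (LK LD1_c9 LD2_c1 LD3_c30)) :=
  Lre_b IH (LK LD1_c16 LD2_c51 LD3_c27) (LK LD1_c9 LD2_c1 LD3_c30) Lrfl Lrfl
theorem f956036 : Led Lsl_ct (LP (LK LD1_c16 LD2_c51 LD3_c27)) = v46966 :=
  Lgr Lrot10 (Lpr_bt (f390230 IH) (Lpr_gt (f613363 IH) (Lpr_ct (f737805 IH) (Lpr_gt (K69.f897062 IH) (Lpe (K69.f897323 IH) (Lpr_bt (K69.f897249 IH) (Lpr_gt (K69.f280533 IH) (Lpe (K16.f281813 IH) (Lpr_ct (f281829 IH) (Lpr_gt (f956034 IH) (Lpn v46966)))))))))))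
theorem f896735 : Led Lsl_bt (LP (LK LD1_c9 LD2_c1 LD3_c30)) = (LP (LK LD1_c16 LD2_c51 LD3_c27)) :=
  Lre_b IH (LK LD1_c9 LD2_c1 LD3_c30) (LK LD1_c16 LD2_c51 LD3_c27) Lrfl Lrfl
theorem f896736 : Led Lsl_ff (LP (LK LD1_c11 LD2_c12 LD3_c15)) = (LP (LK LD1_c16 LD2_c51 LD3_c27)) :=
  Lgr Lrot25 (Lpr_bt (K64.f289465 IH) (Lpr_ft (K69.f737788 IH) (Lpqs (K69.f896730 IH) (Lpr_bt (f896735 IH) (Lpn (LP (LK LD1_c16 LD2_c51 LD3_c27)))))))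
theorem f896738 : Led Lsl_ft (LP (LK LD1_c11 LD2_c12 LD3_c15)) = (LP (LK LD1_c16 LD2_c51 LD3_c27)) :=
  Lgr Lrot48 (Lpr_ff (f896736 IH) (Lpn (LP (LK LD1_c16 LD2_c51 LD3_c27))))
theorem f823424 : Led Lsl_ct (LP (LK LD1_c11 LD2_c14 LD3_c6)) = (LP (LK LD1_c11 LD2_c12 LD3_c15)) :=
  Lgr Lrot59 (Lpr_cf (K64.f823421 IH) (Lpn (LP (LK LD1_c11 LD2_c12 LD3_c15))))
theorem f956038 : Led Lsl_ff (LP (LK LD1_c11 LD2_c14 LD3_c6)) = v46966 :=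
  Lgr Lrot23 (Lpr_ct (f823424 IH) (Lpr_ft (f896738 IH) (Lpr_ct (f956036 IH) (Lpn v46966))))
theorem f411903 : Led Lsl_ft (LP (LK LD1_c11 LD2_c13 LD3_c17)) = (LP (LK LD1_c20 LD2_c7 LD3_c57)) :=
  Lre_f IH (LK LD1_c11 LD2_c13 LD3_c17) (LK LD1_c20 LD2_c7 LD3_c57) Lrfl Lrfl
theorem f411912 : Led Lsl_at (LP (LK LD1_c20 LD2_c7 LD3_c57)) = (LP (LK LD1_c11 LD2_c14 LD3_c8)) :=
  Lre_a IH (LK LD1_c20 LD2_c7 LD3_c57) (LK LD1_c11 LD2_c14 LD3_c8) Lrfl Lrfl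
theorem f956035 : Led Lsl_gf (LP (LK LD1_c11 LD2_c14 LD3_c8)) = v46966 :=
  Lgr Lrot76 (Lpe (f411912 IH) (Lpe (f411903 IH) (Lpr_gt (f956034 IH) (Lpn v46966))))
theorem f268978 : Led Lsl_gt (LP (LK LD1_c11 LD2_c14 LD3_c8)) = (LP (LK LD1_c20 LD2_c7 LD3_c55)) :=
  Lre_g IH (LK LD1_c11 LD2_c14 LD3_c8) (LK LD1_c20 LD2_c7 LD3_c55) Lrfl Lrfl
theorem f956040 : Led Lsl_at (LP (LK LD1_c11 LD2_c14 LD3_c6)) = (LP (LK LD1_c20 LD2_c7 LD3_c55)) :=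
  Lgr Lrot26 (Lpr_ff (f956038 IH) (Lpe (f956035 IH) (Lpr_gt (f268978 IH) (Lpn (LP (LK LD1_c20 LD2_c7 LD3_c55))))))
theorem f956041 : Led Lsl_at (LP (LK LD1_c11 LD2_c14 LD3_c6)) = (LP (LK LD1_c20 LD2_c7 LD3_c55)) :=
  Leop (Lpe (f956040 IH) (Lpn (LP (LK LD1_c11 LD2_c14 LD3_c6))))
theorem seed_2778 : LEOK LG_a (LK LD1_c11 LD2_c14 LD3_c6) :=
  Leoe_a (LK LD1_c11 LD2_c14 LD3_c6) (f956041 IH)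
def v46441 : LQ := Led Lsl_ft (LP (LK LD1_c11 LD2_c6 LD3_c57))
theorem f953633 : Led Lsl_ft (LP (LK LD1_c11 LD2_c6 LD3_c57)) = v46441 :=
  Lrfl
theorem f953635 : Led Lsl_ef (LP (LK LD1_c15 LD2_c4 LD3_c5)) = v46441 :=
  Lgr Lrot21 (Lpr_ft (K69.f580198 IH) (Lpr_et (K44.f548958 IH) (Lpr_ft (K44.f580215 IH) (Lpr_et (K44.f579095 IH) (Lpr_ft (f953633 IH) (Lpn v46441))))))
def v37875 : LQ := Led Lsl_at (LP (LK LD1_c9 LD2_c1 LD3_c33))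
theorem f897200 : Led Lsl_at (LP (LK LD1_c9 LD2_c1 LD3_c33)) = v37875 :=
  Lrfl
def v15497 : LQ := Led Lsl_ft (LP (LK LD1_c5 LD2_c40 LD3_c47))
theorem f737770 : Led Lsl_ft (LP (LK LD1_c5 LD2_c40 LD3_c47)) = v15497 :=
  Lrfl
theorem f737772 : Led Lsl_ff (LP (LK LD1_c5 LD2_c40 LD3_c47)) = v15497 :=
  Lgr Lrot3 (Lpr_ft (f737770 IH) (Lpn v15497))
theorem f737773 : Led Lsl_bt K54.v4760 = v15497 :=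
  Lgr Lrot35 (Lpe (K54.f638862 IH) (Lpe (K69.f380524 IH) (Lpr_ff (f737772 IH) (Lpn v15497))))
theorem f698352 : Led Lsl_bt (LP (LK LD1_c4 LD2_c31 LD3_c51)) = (LP (LK LD1_c9 LD2_c1 LD3_c33)) :=
  Lre_b IH (LK LD1_c4 LD2_c31 LD3_c51) (LK LD1_c9 LD2_c1 LD3_c33) Lrfl Lrfl
theorem f823826 : v15497 = (LP (LK LD1_c9 LD2_c1 LD3_c33)) :=
  Lefun (Lecon (f737773 IH) (K69.f823821 IH)) (f698352 IH)
theorem f638877 : Led Lsl_at (LP (LK LD1_c11 LD2_c12 LD3_c7)) = (LP (LK LD1_c5 LD2_c40 LD3_c47)) :=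
  Lre_a IH (LK LD1_c11 LD2_c12 LD3_c7) (LK LD1_c5 LD2_c40 LD3_c47) Lrfl Lrfl
theorem f897203 : Led Lsl_ff (LP (LK LD1_c11 LD2_c12 LD3_c7)) = v37875 :=
  Lgr Lrot30 (Lpr_at (f638877 IH) (Lpr_ft (f737770 IH) (Lpqs (f823826 IH) (Lpr_at (f897200 IH) (Lpn v37875)))))
theorem f622375 : Led Lsl_gt (LP (LK LD1_c11 LD2_c12 LD3_c6)) = (LP (LK LD1_c5 LD2_c40 LD3_c47)) :=
  Lre_g IH (LK LD1_c11 LD2_c12 LD3_c6) (LK LD1_c5 LD2_c40 LD3_c47) Lrfl Lrfl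
theorem f897206 : Led Lsl_gf (LP (LK LD1_c11 LD2_c12 LD3_c6)) = v37875 :=
  Lgr Lrot47 (Lpr_gt (f622375 IH) (Lpe (f638877 IH) (Lpr_ff (f897203 IH) (Lpn v37875))))
theorem f953636 : Led Lsl_ff (LP (LK LD1_c11 LD2_c6 LD3_c57)) = v46441 :=
  Lgr Lrot3 (Lpr_ft (f953633 IH) (Lpn v46441))
theorem f561564 : Led Lsl_et (LP (LK LD1_c7 LD2_c59 LD3_c18)) = (LP (LK LD1_c3 LD2_c58 LD3_c60)) :=
  Lre_e IH (LK LD1_c7 LD2_c59 LD3_c18) (LK LD1_c3 LD2_c58 LD3_c60) Lrfl Lrfl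
theorem f580157 : Led Lsl_at (LP (LK LD1_c11 LD2_c6 LD3_c57)) = (LP (LK LD1_c7 LD2_c59 LD3_c18)) :=
  Lgr Lrot80 (Lpe (K44.f579095 IH) (Lpr_af (K44.f580138 IH) (Lpe (f561564 IH) (Lpn (LP (LK LD1_c7 LD2_c59 LD3_c18))))))
theorem f589391 : Led Lsl_ft (LP (LK LD1_c7 LD2_c59 LD3_c18)) = (LP (LK LD1_c15 LD2_c3 LD3_c59)) :=
  Lre_f IH (LK LD1_c7 LD2_c59 LD3_c18) (LK LD1_c15 LD2_c3 LD3_c59) Lrfl Lrfl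
theorem f953638 : Led Lsl_at (LP (LK LD1_c15 LD2_c3 LD3_c59)) = v46441 :=
  Lgr Lrot66 (Lpe (f589391 IH) (Lpe (f580157 IH) (Lpr_ff (f953636 IH) (Lpn v46441))))
def v35597 : LQ := Led Lsl_gt (LP (LK LD1_c7 LD2_c59 LD3_c18))
theorem f876016 : Led Lsl_gt (LP (LK LD1_c7 LD2_c59 LD3_c18)) = v35597 :=
  Lrfl
theorem f953641 : Led Lsl_gt v35597 = v46441 :=
  Lgr Lrot46 (Lpe (f876016 IH) (Lpr_ft (f589391 IH) (Lpr_at (f953638 IH) (Lpn v46441))))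
def v15495 : LQ := Led Lsl_gt (LP (LK LD1_c5 LD2_c40 LD3_c47))
theorem f737765 : Led Lsl_gt (LP (LK LD1_c5 LD2_c40 LD3_c47)) = v15495 :=
  Lrfl
theorem f897204 : Led Lsl_gt v15495 = v37875 :=
  Lgr Lrot46 (Lpe (f737765 IH) (Lpr_ft (f737770 IH) (Lpqs (f823826 IH) (Lpr_at (f897200 IH) (Lpn v37875)))))
theorem f956042 : Led Lsl_af (LP (LK LD1_c11 LD2_c14 LD3_c6)) = (LP (LK LD1_c20 LD2_c7 LD3_c55)) :=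
  Lgr Lrot0 (Lpr_at (f956040 IH) (Lpn (LP (LK LD1_c20 LD2_c7 LD3_c55))))
theorem f281849 : Led Lsl_gt (LP (LK LD1_c11 LD2_c14 LD3_c5)) = (LP (LK LD1_c20 LD2_c7 LD3_c57)) :=
  Lre_g IH (LK LD1_c11 LD2_c14 LD3_c5) (LK LD1_c20 LD2_c7 LD3_c57) Lrfl Lrfl
theorem f956048 : Led Lsl_ft (LP (LK LD1_c11 LD2_c14 LD3_c5)) = (LP (LK LD1_c20 LD2_c7 LD3_c55)) :=
  Lgr Lrot2 (Lpr_gt (f281849 IH) (Lpr_gt (K69.f281847 IH) (Lpr_af (f956042 IH) (Lpn (LP (LK LD1_c20 LD2_c7 LD3_c55))))))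
theorem f956053 : Led Lsl_ff (LP (LK LD1_c11 LD2_c14 LD3_c5)) = (LP (LK LD1_c20 LD2_c7 LD3_c55)) :=
  Lgr Lrot3 (Lpr_ft (f956048 IH) (Lpn (LP (LK LD1_c20 LD2_c7 LD3_c55))))
theorem f174323 : Led Lsl_ct (LP (LK LD1_c11 LD2_c14 LD3_c5)) = (LP (LK LD1_c20 LD2_c8 LD3_c60)) :=
  Lre_c IH (LK LD1_c11 LD2_c14 LD3_c5) (LK LD1_c20 LD2_c8 LD3_c60) Lrfl Lrfl
theorem f737794 : Led Lsl_at (LP (LK LD1_c20 LD2_c6 LD3_c51)) = (LP (LK LD1_c11 LD2_c12 LD3_c15)) :=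
  Lre_a IH (LK LD1_c20 LD2_c6 LD3_c51) (LK LD1_c11 LD2_c12 LD3_c15) Lrfl Lrfl
theorem f956044 : Led Lsl_cf (LP (LK LD1_c20 LD2_c6 LD3_c51)) = (LP (LK LD1_c20 LD2_c7 LD3_c55)) :=
  Lgr Lrot1 (Lpr_at (f737794 IH) (Lpe (K64.f823421 IH) (Lpr_at (f956040 IH) (Lpn (LP (LK LD1_c20 LD2_c7 LD3_c55))))))
theorem f956046 : Led Lsl_ct (LP (LK LD1_c20 LD2_c6 LD3_c51)) = (LP (LK LD1_c20 LD2_c7 LD3_c55)) :=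
  Lgr Lrot59 (Lpr_cf (f956044 IH) (Lpn (LP (LK LD1_c20 LD2_c7 LD3_c55))))
theorem f956056 : Led Lsl_ft (LP (LK LD1_c20 LD2_c8 LD3_c60)) = (LP (LK LD1_c20 LD2_c6 LD3_c51)) :=
  Lgr Lrot4 (Lpe (f174323 IH) (Lpr_ff (f956053 IH) (Lpe (f956046 IH) (Lpn (LP (LK LD1_c20 LD2_c6 LD3_c51))))))
theorem f622376 : Led Lsl_dt (LP (LK LD1_c20 LD2_c6 LD3_c46)) = (LP (LK LD1_c11 LD2_c12 LD3_c6)) :=
  Lre_d IH (LK LD1_c20 LD2_c6 LD3_c46) (LK LD1_c11 LD2_c12 LD3_c6) Lrfl Lrfl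
theorem f897164 : Led Lsl_gf (LP (LK LD1_c11 LD2_c12 LD3_c15)) = (LP (LK LD1_c20 LD2_c6 LD3_c46)) :=
  Lgr Lrot147 (Lpe (K64.f823421 IH) (Lpr_gt (K64.f174320 IH) (Lpr_ct (K20.f174298 IH) (Lpe (K69.f174378 IH) (Lpe (K41.f501095 IH) (Lpr_gf (K69.f897088 IH) (Lpe (K69.f380525 IH) (Lpe (f622375 IH) (Lpe (f622376 IH) (Lpn (LP (LK LD1_c20 LD2_c6 LD3_c46))))))))))))
theorem f956060 : Led Lsl_gt (LP (LK LD1_c20 LD2_c8 LD3_c60)) = (LP (LK LD1_c20 LD2_c6 LD3_c46)) :=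
  Lgr Lrot5 (Lpr_ft (f956056 IH) (Lpr_at (f737794 IH) (Lpr_gf (f897164 IH) (Lpn (LP (LK LD1_c20 LD2_c6 LD3_c46))))))
theorem f281850 : Led Lsl_ct (LP (LK LD1_c20 LD2_c8 LD3_c60)) = (LP (LK LD1_c11 LD2_c14 LD3_c5)) :=
  Lre_c IH (LK LD1_c20 LD2_c8 LD3_c60) (LK LD1_c11 LD2_c14 LD3_c5) Lrfl Lrfl
theorem f566498 : Led Lsl_dt (LP (LK LD1_c20 LD2_c7 LD3_c57)) = (LP (LK LD1_c29 LD2_c18 LD3_c55)) :=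
  Lre_d IH (LK LD1_c20 LD2_c7 LD3_c57) (LK LD1_c29 LD2_c18 LD3_c55) Lrfl Lrfl
theorem f823428 : Led Lsl_gt (LP (LK LD1_c29 LD2_c18 LD3_c55)) = (LP (LK LD1_c20 LD2_c9 LD3_c3)) :=
  Lre_g IH (LK LD1_c29 LD2_c18 LD3_c55) (LK LD1_c20 LD2_c9 LD3_c3) Lrfl Lrfl
theorem f622371 : Led Lsl_dt (LP (LK LD1_c5 LD2_c40 LD3_c47)) = (LP (LK LD1_c11 LD2_c12 LD3_c9)) :=
  Lre_d IH (LK LD1_c5 LD2_c40 LD3_c47) (LK LD1_c11 LD2_c12 LD3_c9) Lrfl Lrfl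
theorem f622370 : Led Lsl_ct (LP (LK LD1_c20 LD2_c6 LD3_c49)) = (LP (LK LD1_c11 LD2_c12 LD3_c9)) :=
  Lre_c IH (LK LD1_c20 LD2_c6 LD3_c49) (LK LD1_c11 LD2_c12 LD3_c9) Lrfl Lrfl
theorem f956062 : Led Lsl_dt (LP (LK LD1_c20 LD2_c9 LD3_c3)) = (LP (LK LD1_c20 LD2_c6 LD3_c49)) :=
  Lgr Lrot105 (Lpe (f823428 IH) (Lpe (f566498 IH) (Lpe (f281849 IH) (Lpe (f281850 IH) (Lpr_gt (f956060 IH) (Lpr_dt (f622376 IH) (Lpr_gt (f622375 IH) (Lpr_dt (f622371 IH) (Lpe (f622370 IH) (Lpn (LP (LK LD1_c20 LD2_c6 LD3_c49))))))))))))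
theorem f956064 : Led Lsl_df (LP (LK LD1_c20 LD2_c9 LD3_c3)) = (LP (LK LD1_c20 LD2_c6 LD3_c49)) :=
  Lgr Lrot38 (Lpr_dt (f956062 IH) (Lpn (LP (LK LD1_c20 LD2_c6 LD3_c49))))
theorem f621105 : Led Lsl_gt (LP (LK LD1_c20 LD2_c9 LD3_c3)) = (LP (LK LD1_c11 LD2_c14 LD3_c7)) :=
  Lre_g IH (LK LD1_c20 LD2_c9 LD3_c3) (LK LD1_c11 LD2_c14 LD3_c7) Lrfl Lrfl
theorem f174313 : Led Lsl_dt (LP (LK LD1_c5 LD2_c41 LD3_c55)) = (LP (LK LD1_c11 LD2_c14 LD3_c7)) :=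
  Lre_d IH (LK LD1_c5 LD2_c41 LD3_c55) (LK LD1_c11 LD2_c14 LD3_c7) Lrfl Lrfl
theorem f549815 : Led Lsl_gf (LP (LK LD1_c11 LD2_c20 LD3_c43)) = (LP (LK LD1_c11 LD2_c13 LD3_c58)) :=
  Lgr Lrot143 (Lpr_dt (K30.f172645 IH) (Lpe (K30.f172634 IH) (Lpe (K30.f172604 IH) (Lpe (K38.f385260 IH) (Lpr_df (K38.f549811 IH) (Lpe (K31.f174115 IH) (Lpe (K30.f174120 IH) (Lpr_gt (K40.f174384 IH) (Lpr_dt (K45.f174385 IH) (Lpn (LP (LK LD1_c11 LD2_c13 LD3_c58))))))))))))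
theorem f385557 : Led Lsl_et (LP (LK LD1_c5 LD2_c45 LD3_c7)) = (LP (LK LD1_c11 LD2_c20 LD3_c44)) :=
  Lre_e IH (LK LD1_c5 LD2_c45 LD3_c7) (LK LD1_c11 LD2_c20 LD3_c44) Lrfl Lrfl
theorem f417795 : Led Lsl_gt (LP (LK LD1_c11 LD2_c20 LD3_c44)) = (LP (LK LD1_c20 LD2_c18 LD3_c15)) :=
  Lre_g IH (LK LD1_c11 LD2_c20 LD3_c44) (LK LD1_c20 LD2_c18 LD3_c15) Lrfl Lrfl
theorem f956066 : Led Lsl_ef (LP (LK LD1_c20 LD2_c18 LD3_c15)) = (LP (LK LD1_c20 LD2_c6 LD3_c49)) :=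
  Lgr Lrot17 (Lpe (f417795 IH) (Lpe (f385557 IH) (Lpr_dt (K31.f172635 IH) (Lpr_gf (f549815 IH) (Lpe (K45.f174385 IH) (Lpe (K40.f174384 IH) (Lpe (K16.f174315 IH) (Lpr_dt (f174313 IH) (Lpe (f621105 IH) (Lpr_df (f956064 IH) (Lpn (LP (LK LD1_c20 LD2_c6 LD3_c49)))))))))))))
theorem f956070 : Led Lsl_et (LP (LK LD1_c20 LD2_c18 LD3_c15)) = (LP (LK LD1_c20 LD2_c6 LD3_c49)) :=
  Lgr Lrot87 (Lpr_ef (f956066 IH) (Lpn (LP (LK LD1_c20 LD2_c6 LD3_c49))))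
theorem f622364 : Led Lsl_bt (LP (LK LD1_c5 LD2_c40 LD3_c48)) = (LP (LK LD1_c11 LD2_c12 LD3_c9)) :=
  Lre_b IH (LK LD1_c5 LD2_c40 LD3_c48) (LK LD1_c11 LD2_c12 LD3_c9) Lrfl Lrfl
theorem f418713 : Led Lsl_bt (LP (LK LD1_c16 LD2_c49 LD3_c45)) = (LP (LK LD1_c9 LD2_c0 LD3_c19)) :=
  Lre_b IH (LK LD1_c16 LD2_c49 LD3_c45) (LK LD1_c9 LD2_c0 LD3_c19) Lrfl Lrfl
theorem f622365 : Led Lsl_et (LP (LK LD1_c11 LD2_c12 LD3_c9)) = (LP (LK LD1_c16 LD2_c49 LD3_c45)) :=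
  Lgr Lrot74 (Lpe (f622364 IH) (Lpr_ef (K70.f622362 IH) (Lpe (f418713 IH) (Lpn (LP (LK LD1_c16 LD2_c49 LD3_c45))))))
theorem f956072 : Led Lsl_cf (LP (LK LD1_c20 LD2_c18 LD3_c15)) = (LP (LK LD1_c16 LD2_c49 LD3_c45)) :=
  Lgr Lrot39 (Lpr_et (f956070 IH) (Lpr_ct (f622370 IH) (Lpr_et (f622365 IH) (Lpn (LP (LK LD1_c16 LD2_c49 LD3_c45))))))
theorem f319336 : Led Lsl_bt (LP (LK LD1_c2 LD2_c12 LD3_c32)) = (LP (LK LD1_c4 LD2_c31 LD3_c9)) :=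
  Lre_b IH (LK LD1_c2 LD2_c12 LD3_c32) (LK LD1_c4 LD2_c31 LD3_c9) Lrfl Lrfl
def v12777 : LQ := Led Lsl_gf (LP (LK LD1_c4 LD2_c30 LD3_c38))
theorem f698136 : Led Lsl_gf (LP (LK LD1_c4 LD2_c30 LD3_c38)) = v12777 :=
  Lrfl
theorem f733196 : Led Lsl_at (LP (LK LD1_c5 LD2_c34 LD3_c43)) = K69.v15260 :=
  Lgr Lrot66 (Lpr_ff (K56.f733183 IH) (Lpe (K56.f733180 IH) (Lpr_ff (K69.f733195 IH) (Lpn K69.v15260))))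
theorem f698137 : Led Lsl_gt K56.v4708 = v12777 :=
  Lgr Lrot5 (Lpe (K69.f638596 IH) (Lpe (K67.f319324 IH) (Lpr_gf (f698136 IH) (Lpn v12777))))
theorem f897904 : K69.v15260 = v12777 :=
  (Llr Lrot26 (Lpe (f733196 IH) (Lpr_ff (K56.f733183 IH) (Lpqs (K69.f897688 IH) (Lpqs (K69.f896280 IH) (Lpr_gt (K69.f698143 IH) (Lpr_gt (f698137 IH) (Lpn v12777)))))))).symm
def v12853 : LQ := Led Lsl_ct (LP (LK LD1_c4 LD2_c33 LD3_c30))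
theorem f698605 : Led Lsl_ct (LP (LK LD1_c4 LD2_c33 LD3_c30)) = v12853 :=
  Lrfl
theorem f897673 : K69.v15260 = v12853 :=
  Lefun (Lecon (Lfl_cf (K69.f750558 IH)) (K69.f897661 IH)) (f698605 IH)
theorem f245670 : Led Lsl_ct (LP (LK LD1_c5 LD2_c45 LD3_c16)) = (LP (LK LD1_c11 LD2_c20 LD3_c58)) :=
  Lre_c IH (LK LD1_c5 LD2_c45 LD3_c16) (LK LD1_c11 LD2_c20 LD3_c58) Lrfl Lrfl
theorem f956076 : Led Lsl_gt (LP (LK LD1_c20 LD2_c18 LD3_c15)) = (LP (LK LD1_c11 LD2_c20 LD3_c58)) :=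
  Lgr Lrot65 (Lpr_cf (f956072 IH) (Lpr_bt (f418713 IH) (Lpe (K67.f418712 IH) (Lpe (f319336 IH) (Lpr_ct (K20.f225168 IH) (Lpr_gf (f698136 IH) (Lpq (f897904 IH) (Lpqs (f897673 IH) (Lpe (f698605 IH) (Lpe (K69.f417798 IH) (Lpe (K30.f245602 IH) (Lpr_ct (f245670 IH) (Lpn (LP (LK LD1_c11 LD2_c20 LD3_c58)))))))))))))))
def v12852 : LQ := Led Lsl_bt (LP (LK LD1_c4 LD2_c33 LD3_c30))
theorem f698603 : Led Lsl_bt (LP (LK LD1_c4 LD2_c33 LD3_c30)) = v12852 :=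
  Lrfl
theorem f698604 : Led Lsl_bf (LP (LK LD1_c4 LD2_c33 LD3_c30)) = v12852 :=
  Lgr Lrot24 (Lpr_bt (f698603 IH) (Lpn v12852))
theorem f740900 : Led Lsl_ff (LP (LK LD1_c5 LD2_c45 LD3_c17)) = K69.v15679 :=
  Lgr Lrot3 (Lpr_ft (K69.f740898 IH) (Lpn K69.v15679))
theorem f245610 : Led Lsl_bt (LP (LK LD1_c5 LD2_c45 LD3_c17)) = (LP (LK LD1_c2 LD2_c48 LD3_c24)) :=
  Lre_b IH (LK LD1_c5 LD2_c45 LD3_c17) (LK LD1_c2 LD2_c48 LD3_c24) Lrfl Lrfl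
theorem f740902 : Led Lsl_bt K69.v4791 = K69.v15679 :=
  Lgr Lrot35 (Lpe (K69.f639027 IH) (Lpe (f245610 IH) (Lpr_ff (f740900 IH) (Lpn K69.v15679))))
theorem f897672 : K69.v15679 = v12852 :=
  Lefun (Lecon (f740902 IH) (K69.f897661 IH)) (f698603 IH)
theorem f569271 : Led Lsl_ct (LP (LK LD1_c16 LD2_c55 LD3_c10)) = (LP (LK LD1_c9 LD2_c3 LD3_c56)) :=
  Lre_c IH (LK LD1_c16 LD2_c55 LD3_c10) (LK LD1_c9 LD2_c3 LD3_c56) Lrfl Lrfl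
theorem f956080 : Led Lsl_gf (LP (LK LD1_c16 LD2_c49 LD3_c45)) = (LP (LK LD1_c21 LD2_c11 LD3_c24)) :=
  Lgr Lrot181 (Lpe (f956072 IH) (Lpr_gt (f956076 IH) (Lpe (f245670 IH) (Lpr_bt (K30.f245602 IH) (Lpr_gt (K69.f417798 IH) (Lpr_bf (f698604 IH) (Lpq (f897672 IH) (Lpqs (K69.f897801 IH) (Lpr_ct (K69.f698508 IH) (Lpqs (K69.f902257 IH) (Lpe (K69.f898672 IH) (Lpe (f569271 IH) (Lpr_bt (K54.f569264 IH) (Lpn (LP (LK LD1_c21 LD2_c11 LD3_c24))))))))))))))))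
theorem f622374 : Led Lsl_dt (LP (LK LD1_c11 LD2_c12 LD3_c9)) = (LP (LK LD1_c5 LD2_c40 LD3_c47)) :=
  Lre_d IH (LK LD1_c11 LD2_c12 LD3_c9) (LK LD1_c5 LD2_c40 LD3_c47) Lrfl Lrfl
theorem f100540 : Led Lsl_et (LP (LK LD1_c12 LD2_c5 LD3_c41)) = (LP (LK LD1_c6 LD2_c13 LD3_c26)) :=
  Lre_e IH (LK LD1_c12 LD2_c5 LD3_c41) (LK LD1_c6 LD2_c13 LD3_c26) Lrfl Lrfl
theorem f569241 : Led Lsl_dt (LP (LK LD1_c21 LD2_c11 LD3_c24)) = (LP (LK LD1_c12 LD2_c5 LD3_c41)) :=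
  Lre_d IH (LK LD1_c21 LD2_c11 LD3_c24) (LK LD1_c12 LD2_c5 LD3_c41) Lrfl Lrfl
theorem f569254 : Led Lsl_et (LP (LK LD1_c12 LD2_c8 LD3_c51)) = (LP (LK LD1_c21 LD2_c11 LD3_c24)) :=
  Lgr Lrot71 (Lpe (K39.f60813 IH) (Lpr_ef (K42.f569248 IH) (Lpe (K42.f569234 IH) (Lpe (f100540 IH) (Lpe (f569241 IH) (Lpn (LP (LK LD1_c21 LD2_c11 LD3_c24))))))))
theorem f956084 : v15495 = (LP (LK LD1_c7 LD2_c59 LD3_c18)) :=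
  (Llr Lrot112 (Lpe (f737765 IH) (Lpe (f622374 IH) (Lpr_et (f622365 IH) (Lpr_gf (f956080 IH) (Lpe (f569254 IH) (Lpr_dt (K39.f60812 IH) (Lpe (K40.f60876 IH) (Lpe (K2.f60877 IH) (Lpe (K37.f157827 IH) (Lpe (K44.f157834 IH) (Lpr_dt (K44.f157835 IH) (Lpn (LP (LK LD1_c7 LD2_c59 LD3_c18))))))))))))))).symm
theorem f956085 : v37875 = v35597 :=
  Lefun (Lecon (f897204 IH) (f956084 IH)) (f876016 IH)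
theorem f956090 : (LP (LK LD1_c11 LD2_c12 LD3_c6)) = v46441 :=
  Lefun (Lecon (Lfl_gf (f897206 IH)) (f956085 IH)) (f953641 IH)
theorem f580201 : Led Lsl_ft (LP (LK LD1_c11 LD2_c27 LD3_c36)) = (LP (LK LD1_c20 LD2_c25 LD3_c28)) :=
  Lre_f IH (LK LD1_c11 LD2_c27 LD3_c36) (LK LD1_c20 LD2_c25 LD3_c28) Lrfl Lrfl
theorem f580381 : Led Lsl_dt (LP (LK LD1_c20 LD2_c25 LD3_c28)) = (LP (LK LD1_c15 LD2_c4 LD3_c5)) :=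
  Lgr Lrot60 (Lpe (f580201 IH) (Lpr_df (K44.f580377 IH) (Lpe (K69.f580198 IH) (Lpn (LP (LK LD1_c15 LD2_c4 LD3_c5))))))
theorem f580384 : Led Lsl_df (LP (LK LD1_c20 LD2_c25 LD3_c28)) = (LP (LK LD1_c15 LD2_c4 LD3_c5)) :=
  Lgr Lrot38 (Lpr_dt (f580381 IH) (Lpn (LP (LK LD1_c15 LD2_c4 LD3_c5))))
theorem f577611 : Led Lsl_af (LP (LK LD1_c6 LD2_c17 LD3_c2)) = (LP (LK LD1_c5 LD2_c49 LD3_c14)) :=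
  Lgr Lrot68 (Lpe (K37.f546847 IH) (Lpr_at (K37.f502155 IH) (Lpr_ct (K43.f577609 IH) (Lpn (LP (LK LD1_c5 LD2_c49 LD3_c14))))))
theorem f580345 : Led Lsl_ff (LP (LK LD1_c5 LD2_c49 LD3_c14)) = (LP (LK LD1_c6 LD2_c17 LD3_c3)) :=
  Lgr Lrot30 (Lpe (f577611 IH) (Lpr_ft (K44.f580343 IH) (Lpe (K44.f580324 IH) (Lpn (LP (LK LD1_c6 LD2_c17 LD3_c3))))))
theorem f580315 : Led Lsl_ft (LP (LK LD1_c21 LD2_c16 LD3_c16)) = (LP (LK LD1_c12 LD2_c10 LD3_c56)) :=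
  Lre_f IH (LK LD1_c21 LD2_c16 LD3_c16) (LK LD1_c12 LD2_c10 LD3_c56) Lrfl Lrfl
theorem f605393 : Led Lsl_et (LP (LK LD1_c20 LD2_c25 LD3_c28)) = (LP (LK LD1_c21 LD2_c16 LD3_c16)) :=
  Lgr Lrot69 (Lpe (f580201 IH) (Lpe (K44.f548959 IH) (Lpr_ff (f580345 IH) (Lpe (K44.f450230 IH) (Lpe (f580315 IH) (Lpn (LP (LK LD1_c21 LD2_c16 LD3_c16))))))))
theorem f580306 : Led Lsl_ft (LP (LK LD1_c12 LD2_c10 LD3_c56)) = (LP (LK LD1_c21 LD2_c16 LD3_c16)) :=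
  Lre_f IH (LK LD1_c12 LD2_c10 LD3_c56) (LK LD1_c21 LD2_c16 LD3_c16) Lrfl Lrfl
theorem f580307 : Led Lsl_ft (LP (LK LD1_c27 LD2_c40 LD3_c32)) = (LP (LK LD1_c17 LD2_c55 LD3_c5)) :=
  Lre_f IH (LK LD1_c27 LD2_c40 LD3_c32) (LK LD1_c17 LD2_c55 LD3_c5) Lrfl Lrfl
theorem f580308 : Led Lsl_dt (LP (LK LD1_c21 LD2_c16 LD3_c16)) = (LP (LK LD1_c27 LD2_c40 LD3_c32)) :=
  Lgr Lrot60 (Lpe (f580306 IH) (Lpr_df (K44.f580302 IH) (Lpe (f580307 IH) (Lpn (LP (LK LD1_c27 LD2_c40 LD3_c32))))))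
theorem f956099 : Led Lsl_ef (LP (LK LD1_c20 LD2_c6 LD3_c46)) = (LP (LK LD1_c27 LD2_c40 LD3_c32)) :=
  Lgr Lrot73 (Lpr_dt (f622376 IH) (Lpqs (f956090 IH) (Lpe (f953635 IH) (Lpe (f580384 IH) (Lpr_et (f605393 IH) (Lpr_dt (f580308 IH) (Lpn (LP (LK LD1_c27 LD2_c40 LD3_c32)))))))))
theorem f580310 : Led Lsl_ft (LP (LK LD1_c17 LD2_c55 LD3_c5)) = (LP (LK LD1_c27 LD2_c40 LD3_c32)) :=
  Lre_f IH (LK LD1_c17 LD2_c55 LD3_c5) (LK LD1_c27 LD2_c40 LD3_c32) Lrfl Lrfl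
theorem f956105 : Led Lsl_ft (LP (LK LD1_c20 LD2_c6 LD3_c46)) = (LP (LK LD1_c12 LD2_c8 LD3_c58)) :=
  Lgr Lrot86 (Lpr_ef (f956099 IH) (Lpe (f580310 IH) (Lpe (K44.f580301 IH) (Lpe (K44.f541706 IH) (Lpe (K44.f73875 IH) (Lpn (LP (LK LD1_c12 LD2_c8 LD3_c58))))))))
theorem f956109 : Led Lsl_ff (LP (LK LD1_c20 LD2_c6 LD3_c46)) = (LP (LK LD1_c12 LD2_c8 LD3_c58)) :=
  Lgr Lrot3 (Lpr_ft (f956105 IH) (Lpn (LP (LK LD1_c12 LD2_c8 LD3_c58))))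
theorem f589268 : Led Lsl_bf (LP (LK LD1_c12 LD2_c8 LD3_c58)) = (LP (LK LD1_c16 LD2_c21 LD3_c41)) :=
  Lgr Lrot96 (Lpr_et (K44.f73875 IH) (Lpr_bt (K71.f589261 IH) (Lpr_et (K71.f382042 IH) (Lpn (LP (LK LD1_c16 LD2_c21 LD3_c41))))))
theorem f956128 : Led Lsl_bt (LP (LK LD1_c20 LD2_c6 LD3_c46)) = (LP (LK LD1_c26 LD2_c19 LD3_c44)) :=
  Lgr Lrot35 (Lpr_ff (f956109 IH) (Lpr_bf (f589268 IH) (Lpe (K71.f589272 IH) (Lpn (LP (LK LD1_c26 LD2_c19 LD3_c44))))))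
theorem f897166 : Led Lsl_dt (LP (LK LD1_c11 LD2_c12 LD3_c6)) = (LP (LK LD1_c20 LD2_c6 LD3_c46)) :=
  Lre_d IH (LK LD1_c11 LD2_c12 LD3_c6) (LK LD1_c20 LD2_c6 LD3_c46) Lrfl Lrfl
def v46850 : LQ := Led Lsl_bt (LP (LK LD1_c11 LD2_c12 LD3_c6))
theorem f955559 : Led Lsl_bt (LP (LK LD1_c11 LD2_c12 LD3_c6)) = v46850 :=
  Lrfl
theorem f955560 : Led Lsl_bf (LP (LK LD1_c11 LD2_c12 LD3_c6)) = v46850 :=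
  Lgr Lrot24 (Lpr_bt (f955559 IH) (Lpn v46850))
theorem f956130 : Led Lsl_df v46850 = (LP (LK LD1_c26 LD2_c19 LD3_c44)) :=
  Lgr Lrot12 (Lpe (f955560 IH) (Lpr_dt (f897166 IH) (Lpr_bt (f956128 IH) (Lpn (LP (LK LD1_c26 LD2_c19 LD3_c44))))))
theorem f589275 : Led Lsl_ft (LP (LK LD1_c16 LD2_c21 LD3_c41)) = (LP (LK LD1_c26 LD2_c19 LD3_c44)) :=
  Lre_f IH (LK LD1_c16 LD2_c21 LD3_c41) (LK LD1_c26 LD2_c19 LD3_c44) Lrfl Lrfl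
theorem f589270 : Led Lsl_bt (LP (LK LD1_c12 LD2_c8 LD3_c58)) = (LP (LK LD1_c16 LD2_c21 LD3_c41)) :=
  Lgr Lrot127 (Lpr_bf (f589268 IH) (Lpn (LP (LK LD1_c16 LD2_c21 LD3_c41))))
theorem f402609 : Led Lsl_bt (LP (LK LD1_c20 LD2_c0 LD3_c13)) = (LP (LK LD1_c11 LD2_c6 LD3_c57)) :=
  Lre_b IH (LK LD1_c20 LD2_c0 LD3_c13) (LK LD1_c11 LD2_c6 LD3_c57) Lrfl Lrfl
theorem f589273 : Led Lsl_df (LP (LK LD1_c20 LD2_c0 LD3_c13)) = (LP (LK LD1_c16 LD2_c21 LD3_c41)) :=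
  Lgr Lrot12 (Lpr_bt (f402609 IH) (Lpe (K44.f579096 IH) (Lpr_bt (f589270 IH) (Lpn (LP (LK LD1_c16 LD2_c21 LD3_c41))))))
theorem f589276 : Led Lsl_dt (LP (LK LD1_c20 LD2_c0 LD3_c13)) = (LP (LK LD1_c16 LD2_c21 LD3_c41)) :=
  Lgr Lrot42 (Lpr_df (f589273 IH) (Lpn (LP (LK LD1_c16 LD2_c21 LD3_c41))))
theorem f956132 : Led Lsl_ft v46850 = (LP (LK LD1_c20 LD2_c0 LD3_c13)) :=
  Lgr Lrot54 (Lpr_df (f956130 IH) (Lpe (f589275 IH) (Lpe (f589276 IH) (Lpn (LP (LK LD1_c20 LD2_c0 LD3_c13))))))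
theorem f615833 : Led Lsl_ct (LP (LK LD1_c9 LD2_c2 LD3_c9)) = (LP (LK LD1_c16 LD2_c52 LD3_c22)) :=
  Lre_c IH (LK LD1_c9 LD2_c2 LD3_c9) (LK LD1_c16 LD2_c52 LD3_c22) Lrfl Lrfl
theorem f615834 : Led Lsl_gt (LP (LK LD1_c16 LD2_c52 LD3_c22)) = (LP (LK LD1_c26 LD2_c49 LD3_c27)) :=
  Lre_g IH (LK LD1_c16 LD2_c52 LD3_c22) (LK LD1_c26 LD2_c49 LD3_c27) Lrfl Lrfl
theorem f955561 : Led Lsl_cf (LP (LK LD1_c26 LD2_c49 LD3_c27)) = v46850 :=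
  Lgr Lrot58 (Lpe (f615834 IH) (Lpe (f615833 IH) (Lpq (K69.f897090 IH) (Lpe (K69.f738114 IH) (Lpe (K56.f68723 IH) (Lpe (K69.f281888 IH) (Lpr_ct (K69.f566462 IH) (Lpr_gf (K69.f897088 IH) (Lpe (K69.f380525 IH) (Lpe (f622375 IH) (Lpr_bf (f955560 IH) (Lpn v46850))))))))))))
theorem f955562 : Led Lsl_ct (LP (LK LD1_c26 LD2_c49 LD3_c27)) = v46850 :=
  Lgr Lrot59 (Lpr_cf (f955561 IH) (Lpn v46850))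
theorem f402605 : Led Lsl_et (LP (LK LD1_c20 LD2_c0 LD3_c13)) = (LP (LK LD1_c11 LD2_c6 LD3_c55)) :=
  Lre_e IH (LK LD1_c20 LD2_c0 LD3_c13) (LK LD1_c11 LD2_c6 LD3_c55) Lrfl Lrfl
theorem f402606 : Led Lsl_et (LP (LK LD1_c11 LD2_c15 LD3_c48)) = (LP (LK LD1_c20 LD2_c11 LD3_c21)) :=
  Lre_e IH (LK LD1_c11 LD2_c15 LD3_c48) (LK LD1_c20 LD2_c11 LD3_c21) Lrfl Lrfl
theorem f402607 : Led Lsl_cf (LP (LK LD1_c20 LD2_c0 LD3_c13)) = (LP (LK LD1_c20 LD2_c11 LD3_c21)) :=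
  Lgr Lrot39 (Lpr_et (f402605 IH) (Lpr_ct (K36.f402599 IH) (Lpr_et (f402606 IH) (Lpn (LP (LK LD1_c20 LD2_c11 LD3_c21))))))
theorem f402612 : Led Lsl_ct (LP (LK LD1_c20 LD2_c0 LD3_c13)) = (LP (LK LD1_c20 LD2_c11 LD3_c21)) :=
  Lgr Lrot59 (Lpr_cf (f402607 IH) (Lpn (LP (LK LD1_c20 LD2_c11 LD3_c21))))
theorem f956137 : Led Lsl_ff (LP (LK LD1_c26 LD2_c49 LD3_c27)) = (LP (LK LD1_c20 LD2_c11 LD3_c21)) :=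
  Lgr Lrot23 (Lpr_ct (f955562 IH) (Lpr_ft (f956132 IH) (Lpr_ct (f402612 IH) (Lpn (LP (LK LD1_c20 LD2_c11 LD3_c21))))))
theorem f956138 : Led Lsl_ft (LP (LK LD1_c20 LD2_c11 LD3_c21)) = (LP (LK LD1_c26 LD2_c49 LD3_c27)) :=
  Leop (Lpr_ff (f956137 IH) (Lpn (LP (LK LD1_c20 LD2_c11 LD3_c21))))
theorem seed_2779 : LEOK LG_f (LK LD1_c20 LD2_c11 LD3_c21) :=
  Leoe_f (LK LD1_c20 LD2_c11 LD3_c21) (f956138 IH)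
theorem f638864 : Led Lsl_bt (LP (LK LD1_c2 LD2_c46 LD3_c19)) = (LP (LK LD1_c5 LD2_c40 LD3_c47)) :=
  Lre_b IH (LK LD1_c2 LD2_c46 LD3_c19) (LK LD1_c5 LD2_c40 LD3_c47) Lrfl Lrfl
def v24489 : LQ := Led Lsl_gt K69.v4762
theorem f823949 : Led Lsl_gt K69.v4762 = v24489 :=
  Lrfl
theorem f823950 : Led Lsl_gf K69.v4765 = v24489 :=
  Lgr Lrot76 (Lpe (K69.f823929 IH) (Lpr_ff (K69.f823928 IH) (Lpr_gt (f823949 IH) (Lpn v24489))))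
def v23759 : LQ := Led Lsl_gt K69.v4160
theorem f820294 : Led Lsl_gt K69.v4160 = v23759 :=
  Lrfl
theorem f698440 : Led Lsl_ft K69.v4160 = K69.v12829 :=
  Lgr Lrot48 (Lpr_ff (K69.f698437 IH) (Lpn K69.v12829))
theorem f638464 : Led Lsl_cf (LP (LK LD1_c2 LD2_c47 LD3_c7)) = K69.v4681 :=
  Lgr Lrot108 (Lpr_ft (K55.f174303 IH) (Lpe (K20.f174286 IH) (Lpr_ft (K69.f638463 IH) (Lpn K69.v4681))))
theorem f698434 : Led Lsl_af K69.v4681 = K69.v12829 :=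
  Lgr Lrot68 (Lpe (f638464 IH) (Lpr_at (K55.f281830 IH) (Lpr_ct (K69.f698433 IH) (Lpn K69.v12829))))
theorem f820295 : Led Lsl_gf K69.v4681 = v23759 :=
  Lgr Lrot76 (Lpr_af (f698434 IH) (Lpe (f698440 IH) (Lpr_gt (f820294 IH) (Lpn v23759))))
theorem f897108 : K69.v4762 = v23759 :=
  Lefun (Lecon (Lfl_gf (K69.f823951 IH)) (K69.f897107 IH)) (f820294 IH)
theorem f897110 : K69.v4681 = v24489 :=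
  Lefun (Lecon (Lfl_gf (f820295 IH)) (f897108 IH).symm) (f823949 IH)
theorem f638465 : Led Lsl_ff (LP (LK LD1_c2 LD2_c42 LD3_c32)) = K69.v4681 :=
  Lgr Lrot3 (Lpr_ft (K69.f638463 IH) (Lpn K69.v4681))
theorem f638466 : Led Lsl_ct (LP (LK LD1_c2 LD2_c47 LD3_c7)) = K69.v4681 :=
  Lgr Lrot40 (Lpe (K16.f174288 IH) (Lpe (K20.f174124 IH) (Lpr_ff (f638465 IH) (Lpn K69.v4681))))
theorem f281855 : Led Lsl_gf (LP (LK LD1_c2 LD2_c47 LD3_c7)) = (LP (LK LD1_c4 LD2_c32 LD3_c17)) :=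
  Lgr Lrot76 (Lpr_af (K16.f281839 IH) (Lpe (K69.f268899 IH) (Lpr_gt (K69.f175935 IH) (Lpn (LP (LK LD1_c4 LD2_c32 LD3_c17))))))
theorem f281858 : Led Lsl_bt (LP (LK LD1_c9 LD2_c2 LD3_c14)) = (LP (LK LD1_c4 LD2_c32 LD3_c17)) :=
  Lre_b IH (LK LD1_c9 LD2_c2 LD3_c14) (LK LD1_c4 LD2_c32 LD3_c17) Lrfl Lrfl
theorem f281860 : Led Lsl_ct (LP (LK LD1_c9 LD2_c2 LD3_c14)) = (LP (LK LD1_c16 LD2_c52 LD3_c30)) :=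
  Lre_c IH (LK LD1_c9 LD2_c2 LD3_c14) (LK LD1_c16 LD2_c52 LD3_c30) Lrfl Lrfl
theorem f557323 : Led Lsl_dt (LP (LK LD1_c9 LD2_c45 LD3_c17)) = (LP (LK LD1_c17 LD2_c54 LD3_c57)) :=
  Lre_d IH (LK LD1_c9 LD2_c45 LD3_c17) (LK LD1_c17 LD2_c54 LD3_c57) Lrfl Lrfl
theorem f589289 : Led Lsl_at (LP (LK LD1_c17 LD2_c54 LD3_c57)) = (LP (LK LD1_c20 LD2_c0 LD3_c13)) :=
  Lgr Lrot51 (Lpe (f557323 IH) (Lpr_af (K71.f589284 IH) (Lpe (f589276 IH) (Lpn (LP (LK LD1_c20 LD2_c0 LD3_c13))))))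
theorem f589293 : Led Lsl_af (LP (LK LD1_c17 LD2_c54 LD3_c57)) = (LP (LK LD1_c20 LD2_c0 LD3_c13)) :=
  Lgr Lrot0 (Lpr_at (f589289 IH) (Lpn (LP (LK LD1_c20 LD2_c0 LD3_c13))))
theorem f557345 : Led Lsl_et (LP (LK LD1_c9 LD2_c45 LD3_c18)) = (LP (LK LD1_c17 LD2_c54 LD3_c57)) :=
  Lre_e IH (LK LD1_c9 LD2_c45 LD3_c18) (LK LD1_c17 LD2_c54 LD3_c57) Lrfl Lrfl
theorem f541665 : Led Lsl_et (LP (LK LD1_c9 LD2_c45 LD3_c21)) = (LP (LK LD1_c4 LD2_c57 LD3_c8)) :=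
  Lre_e IH (LK LD1_c9 LD2_c45 LD3_c21) (LK LD1_c4 LD2_c57 LD3_c8) Lrfl Lrfl
theorem f557346 : Led Lsl_bt (LP (LK LD1_c17 LD2_c54 LD3_c57)) = (LP (LK LD1_c9 LD2_c45 LD3_c21)) :=
  Lgr Lrot119 (Lpe (f557345 IH) (Lpr_bf (K39.f557338 IH) (Lpe (f541665 IH) (Lpn (LP (LK LD1_c9 LD2_c45 LD3_c21))))))
theorem f542183 : Led Lsl_et (LP (LK LD1_c5 LD2_c47 LD3_c11)) = (LP (LK LD1_c11 LD2_c24 LD3_c35)) :=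
  Lre_e IH (LK LD1_c5 LD2_c47 LD3_c11) (LK LD1_c11 LD2_c24 LD3_c35) Lrfl Lrfl
theorem f580142 : Led Lsl_af (LP (LK LD1_c9 LD2_c45 LD3_c21)) = (LP (LK LD1_c11 LD2_c24 LD3_c35)) :=
  Lgr Lrot50 (Lpr_et (f541665 IH) (Lpr_at (K44.f579924 IH) (Lpr_et (f542183 IH) (Lpn (LP (LK LD1_c11 LD2_c24 LD3_c35))))))
theorem f580144 : Led Lsl_at (LP (LK LD1_c9 LD2_c45 LD3_c21)) = (LP (LK LD1_c11 LD2_c24 LD3_c35)) :=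
  Lgr Lrot100 (Lpr_af (f580142 IH) (Lpn (LP (LK LD1_c11 LD2_c24 LD3_c35))))
theorem f402615 : Led Lsl_bt (LP (LK LD1_c11 LD2_c6 LD3_c57)) = (LP (LK LD1_c20 LD2_c0 LD3_c13)) :=
  Lre_b IH (LK LD1_c11 LD2_c6 LD3_c57) (LK LD1_c20 LD2_c0 LD3_c13) Lrfl Lrfl
theorem f589387 : Led Lsl_bt (LP (LK LD1_c11 LD2_c24 LD3_c35)) = (LP (LK LD1_c7 LD2_c59 LD3_c18)) :=
  Lgr Lrot62 (Lpe (f580144 IH) (Lpe (f557346 IH) (Lpr_af (f589293 IH) (Lpe (f402615 IH) (Lpe (K44.f580244 IH) (Lpn (LP (LK LD1_c7 LD2_c59 LD3_c18))))))))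
theorem f580147 : Led Lsl_ct (LP (LK LD1_c17 LD2_c54 LD3_c60)) = (LP (LK LD1_c9 LD2_c45 LD3_c21)) :=
  Lre_c IH (LK LD1_c17 LD2_c54 LD3_c60) (LK LD1_c9 LD2_c45 LD3_c21) Lrfl Lrfl
theorem f383901 : Led Lsl_et (LP (LK LD1_c17 LD2_c54 LD3_c60)) = (LP (LK LD1_c9 LD2_c45 LD3_c20)) :=
  Lre_e IH (LK LD1_c17 LD2_c54 LD3_c60) (LK LD1_c9 LD2_c45 LD3_c20) Lrfl Lrfl
theorem f386621 : Led Lsl_et (LP (LK LD1_c11 LD2_c6 LD3_c27)) = (LP (LK LD1_c19 LD2_c59 LD3_c56)) :=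
  Lre_e IH (LK LD1_c11 LD2_c6 LD3_c27) (LK LD1_c19 LD2_c59 LD3_c56) Lrfl Lrfl
theorem f579898 : Led Lsl_af (LP (LK LD1_c17 LD2_c54 LD3_c60)) = (LP (LK LD1_c19 LD2_c59 LD3_c56)) :=
  Lgr Lrot50 (Lpr_et (f383901 IH) (Lpr_at (K44.f579892 IH) (Lpr_et (f386621 IH) (Lpn (LP (LK LD1_c19 LD2_c59 LD3_c56))))))
theorem f580148 : Led Lsl_cf (LP (LK LD1_c19 LD2_c59 LD3_c56)) = (LP (LK LD1_c11 LD2_c24 LD3_c35)) :=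
  Lgr Lrot1 (Lpe (f579898 IH) (Lpr_ct (f580147 IH) (Lpr_at (f580144 IH) (Lpn (LP (LK LD1_c11 LD2_c24 LD3_c35))))))
theorem f956177 : Led Lsl_gf (LP (LK LD1_c16 LD2_c52 LD3_c30)) = (LP (LK LD1_c19 LD2_c59 LD3_c56)) :=
  Lgr Lrot126 (Lpe (f281860 IH) (Lpr_bt (f281858 IH) (Lpe (f281855 IH) (Lpr_ct (f638466 IH) (Lpqs (f897110 IH) (Lpe (f823950 IH) (Lpe (K69.f638879 IH) (Lpr_bt (f638864 IH) (Lpr_gt (f737765 IH) (Lpqs (f956084 IH) (Lpe (f589387 IH) (Lpe (f580148 IH) (Lpn (LP (LK LD1_c19 LD2_c59 LD3_c56)))))))))))))))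
theorem f956178 : Led Lsl_gt (LP (LK LD1_c19 LD2_c59 LD3_c56)) = (LP (LK LD1_c16 LD2_c52 LD3_c30)) :=
  Leop (Lpr_gf (f956177 IH) (Lpn (LP (LK LD1_c19 LD2_c59 LD3_c56))))
theorem seed_2780 : LEOK LG_g (LK LD1_c19 LD2_c59 LD3_c56) :=
  Leoe_g (LK LD1_c19 LD2_c59 LD3_c56) (f956178 IH)
def v47005 : LQ := Led Lsl_bt (LP (LK LD1_c11 LD2_c13 LD3_c42))
theorem f956368 : Led Lsl_bt (LP (LK LD1_c11 LD2_c13 LD3_c42)) = v47005 :=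
  Lrfl
theorem f181673 : Led Lsl_bt (LP (LK LD1_c16 LD2_c21 LD3_c22)) = (LP (LK LD1_c8 LD2_c44 LD3_c4)) :=
  Lre_b IH (LK LD1_c16 LD2_c21 LD3_c22) (LK LD1_c8 LD2_c44 LD3_c4) Lrfl Lrfl
theorem f956370 : Led Lsl_cf (LP (LK LD1_c16 LD2_c21 LD3_c22)) = v47005 :=
  Lgr Lrot97 (Lpr_bt (f181673 IH) (Lpr_ct (K10.f80608 IH) (Lpe (K39.f181606 IH) (Lpr_ct (K45.f181613 IH) (Lpr_bt (f956368 IH) (Lpn v47005))))))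
theorem f197884 : Led Lsl_dt (LP (LK LD1_c16 LD2_c21 LD3_c22)) = (LP (LK LD1_c21 LD2_c12 LD3_c49)) :=
  Lgr Lrot79 (Lpe (f80611 IH) (Lpr_df (K71.f197869 IH) (Lpe (K42.f197883 IH) (Lpn (LP (LK LD1_c21 LD2_c12 LD3_c49))))))
theorem f375107 : Led Lsl_dt (LP (LK LD1_c16 LD2_c40 LD3_c56)) = (LP (LK LD1_c26 LD2_c39 LD3_c41)) :=
  Lre_d IH (LK LD1_c16 LD2_c40 LD3_c56) (LK LD1_c26 LD2_c39 LD3_c41) Lrfl Lrfl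
theorem f404481 : Led Lsl_dt (LP (LK LD1_c17 LD2_c49 LD3_c33)) = (LP (LK LD1_c9 LD2_c42 LD3_c9)) :=
  Lgr Lrot42 (Lpr_df (K69.f404479 IH) (Lpn (LP (LK LD1_c9 LD2_c42 LD3_c9))))
theorem f591302 : Led Lsl_ft (LP (LK LD1_c26 LD2_c39 LD3_c41)) = (LP (LK LD1_c17 LD2_c49 LD3_c33)) :=
  Lgr Lrot54 (Lpe (f375107 IH) (Lpr_ff (K69.f591296 IH) (Lpe (f404481 IH) (Lpn (LP (LK LD1_c17 LD2_c49 LD3_c33))))))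
theorem f276535 : Led Lsl_dt (LP (LK LD1_c26 LD2_c39 LD3_c41)) = (LP (LK LD1_c16 LD2_c40 LD3_c56)) :=
  Lre_d IH (LK LD1_c26 LD2_c39 LD3_c41) (LK LD1_c16 LD2_c40 LD3_c56) Lrfl Lrfl
theorem f569867 : Led Lsl_gt (LP (LK LD1_c26 LD2_c39 LD3_c39)) = (LP (LK LD1_c17 LD2_c49 LD3_c30)) :=
  Lgr Lrot164 (Lpr_bf (K42.f376623 IH) (Lpe (K47.f549196 IH) (Lpr_gf (K42.f569864 IH) (Lpe (K45.f566183 IH) (Lpe (K39.f297372 IH) (Lpe (K18.f297366 IH) (Lpr_ct (K18.f39434 IH) (Lpe (K38.f397297 IH) (Lpe (K38.f280102 IH) (Lpe (K68.f397123 IH) (Lpn (LP (LK LD1_c17 LD2_c49 LD3_c30)))))))))))))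
theorem f591422 : Led Lsl_af (LP (LK LD1_c26 LD2_c39 LD3_c41)) = (LP (LK LD1_c17 LD2_c49 LD3_c32)) :=
  Lgr Lrot45 (Lpr_ft (f591302 IH) (Lpe (K69.f591400 IH) (Lpr_ft (K69.f591420 IH) (Lpn (LP (LK LD1_c17 LD2_c49 LD3_c32))))))
theorem f591428 : Led Lsl_gt (LP (LK LD1_c17 LD2_c49 LD3_c30)) = (LP (LK LD1_c26 LD2_c39 LD3_c41)) :=
  Lgr Lrot46 (Lpe (f569867 IH) (Lpr_ft (K69.f591420 IH) (Lpe (f591422 IH) (Lpn (LP (LK LD1_c26 LD2_c39 LD3_c41))))))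
theorem f409831 : Led Lsl_gf (LP (LK LD1_c19 LD2_c11 LD3_c23)) = (LP (LK LD1_c19 LD2_c12 LD3_c46)) :=
  Lgr Lrot181 (Lpr_ct (K30.f224417 IH) (Lpr_gt (K30.f224407 IH) (Lpr_cf (K67.f278947 IH) (Lpr_bt (K67.f219724 IH) (Lpr_gt (K16.f219630 IH) (Lpe (K23.f219727 IH) (Lpe (K23.f254923 IH) (Lpr_gt (K68.f101439 IH) (Lpe (K71.f228727 IH) (Lpr_bt (K71.f228706 IH) (Lpn (LP (LK LD1_c19 LD2_c12 LD3_c46)))))))))))))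
theorem f224425 : Led Lsl_ct (LP (LK LD1_c10 LD2_c35 LD3_c48)) = (LP (LK LD1_c19 LD2_c11 LD3_c23)) :=
  Lre_c IH (LK LD1_c10 LD2_c35 LD3_c48) (LK LD1_c19 LD2_c11 LD3_c23) Lrfl Lrfl
theorem f224416 : Led Lsl_bt (LP (LK LD1_c10 LD2_c35 LD3_c48)) = (LP (LK LD1_c19 LD2_c11 LD3_c22)) :=
  Lre_b IH (LK LD1_c10 LD2_c35 LD3_c48) (LK LD1_c19 LD2_c11 LD3_c22) Lrfl Lrfl
theorem f409833 : Led Lsl_gt (LP (LK LD1_c19 LD2_c11 LD3_c22)) = (LP (LK LD1_c28 LD2_c29 LD3_c36)) :=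
  Lgr Lrot82 (Lpe (f224416 IH) (Lpr_ct (f224425 IH) (Lpr_gf (f409831 IH) (Lpe (K71.f228730 IH) (Lpr_bt (K71.f228704 IH) (Lpr_gf (K38.f312932 IH) (Lpe (K38.f312895 IH) (Lpr_ct (K38.f312755 IH) (Lpr_gf (K38.f312870 IH) (Lpe (K30.f256965 IH) (Lpn (LP (LK LD1_c28 LD2_c29 LD3_c36)))))))))))))
theorem f277913 : Led Lsl_bf (LP (LK LD1_c28 LD2_c29 LD3_c36)) = (LP (LK LD1_c25 LD2_c14 LD3_c55)) :=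
  Lgr Lrot24 (Lpr_bt (K30.f277910 IH) (Lpn (LP (LK LD1_c25 LD2_c14 LD3_c55))))
theorem f409835 : Led Lsl_gt (LP (LK LD1_c19 LD2_c11 LD3_c56)) = (LP (LK LD1_c10 LD2_c36 LD3_c25)) :=
  Lgr Lrot82 (Lpe (K67.f228430 IH) (Lpr_ct (K31.f228429 IH) (Lpr_gf (K41.f388154 IH) (Lpe (K30.f244074 IH) (Lpe (f277913 IH) (Lpe (f409833 IH) (Lpe (f224416 IH) (Lpr_ct (f224425 IH) (Lpr_gf (f409831 IH) (Lpe (K71.f228730 IH) (Lpn (LP (LK LD1_c10 LD2_c36 LD3_c25)))))))))))))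
theorem f254946 : Led Lsl_gt (LP (LK LD1_c26 LD2_c35 LD3_c16)) = (LP (LK LD1_c16 LD2_c37 LD3_c49)) :=
  Lre_g IH (LK LD1_c26 LD2_c35 LD3_c16) (LK LD1_c16 LD2_c37 LD3_c49) Lrfl Lrfl
theorem f254949 : Led Lsl_bt (LP (LK LD1_c16 LD2_c43 LD3_c28)) = (LP (LK LD1_c26 LD2_c35 LD3_c16)) :=
  Lgr Lrot130 (Lpr_ct (K71.f225896 IH) (Lpe (K30.f225826 IH) (Lpr_cf (K30.f225886 IH) (Lpr_bt (K27.f191895 IH) (Lpr_gf (K14.f254891 IH) (Lpe (K23.f219727 IH) (Lpe (K23.f254923 IH) (Lpe (K71.f218896 IH) (Lpr_cf (K71.f254935 IH) (Lpe (f254946 IH) (Lpn (LP (LK LD1_c26 LD2_c35 LD3_c16)))))))))))))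
theorem f228724 : Led Lsl_bf (LP (LK LD1_c27 LD2_c35 LD3_c28)) = (LP (LK LD1_c19 LD2_c12 LD3_c46)) :=
  Lgr Lrot24 (Lpr_bt (K71.f228706 IH) (Lpn (LP (LK LD1_c19 LD2_c12 LD3_c46))))
theorem f409841 : Led Lsl_gf (LP (LK LD1_c26 LD2_c35 LD3_c16)) = (LP (LK LD1_c27 LD2_c35 LD3_c28)) :=
  Lgr Lrot124 (Lpe (f254949 IH) (Lpr_ct (K71.f225896 IH) (Lpr_gt (K30.f341304 IH) (Lpe (K17.f279103 IH) (Lpe (K16.f279091 IH) (Lpr_gt (K31.f289129 IH) (Lpr_ct (K71.f228432 IH) (Lpr_gt (f409835 IH) (Lpe (K71.f228705 IH) (Lpe (f228724 IH) (Lpn (LP (LK LD1_c27 LD2_c35 LD3_c28)))))))))))))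
theorem f254948 : Led Lsl_dt (LP (LK LD1_c26 LD2_c35 LD3_c16)) = (LP (LK LD1_c32 LD2_c11 LD3_c35)) :=
  Lre_d IH (LK LD1_c26 LD2_c35 LD3_c16) (LK LD1_c32 LD2_c11 LD3_c35) Lrfl Lrfl
theorem f279151 : Led Lsl_gf (LP (LK LD1_c4 LD2_c19 LD3_c36)) = (LP (LK LD1_c4 LD2_c28 LD3_c37)) :=
  Lgr Lrot144 (Lpr_dt (K17.f260771 IH) (Lpr_gt (K15.f179547 IH) (Lpr_dt (K16.f267127 IH) (Lpr_cf (K16.f278846 IH) (Lpe (K16.f219723 IH) (Lpr_gf (K16.f279147 IH) (Lpr_df (K14.f191831 IH) (Lpe (K14.f187451 IH) (Lpe (K17.f191852 IH) (Lpn (LP (LK LD1_c4 LD2_c28 LD3_c37))))))))))))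
theorem f267095 : Led Lsl_bt (LP (LK LD1_c4 LD2_c27 LD3_c53)) = (LP (LK LD1_c8 LD2_c53 LD3_c39)) :=
  Lre_b IH (LK LD1_c4 LD2_c27 LD3_c53) (LK LD1_c8 LD2_c53 LD3_c39) Lrfl Lrfl
theorem f267112 : Led Lsl_gt (LP (LK LD1_c8 LD2_c53 LD3_c39)) = (LP (LK LD1_c16 LD2_c37 LD3_c59)) :=
  Lre_g IH (LK LD1_c8 LD2_c53 LD3_c39) (LK LD1_c16 LD2_c37 LD3_c59) Lrfl Lrfl
theorem f409805 : Led Lsl_bt (LP (LK LD1_c26 LD2_c35 LD3_c36)) = (LP (LK LD1_c16 LD2_c37 LD3_c59)) :=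
  Lre_b IH (LK LD1_c26 LD2_c35 LD3_c36) (LK LD1_c16 LD2_c37 LD3_c59) Lrfl Lrfl
theorem f165043 : Led Lsl_bt (LP (LK LD1_c8 LD2_c55 LD3_c25)) = (LP (LK LD1_c4 LD2_c28 LD3_c36)) :=
  Lre_b IH (LK LD1_c8 LD2_c55 LD3_c25) (LK LD1_c4 LD2_c28 LD3_c36) Lrfl Lrfl
theorem f341407 : Led Lsl_ct (LP (LK LD1_c8 LD2_c55 LD3_c25)) = (LP (LK LD1_c16 LD2_c42 LD3_c6)) :=
  Lre_c IH (LK LD1_c8 LD2_c55 LD3_c25) (LK LD1_c16 LD2_c42 LD3_c6) Lrfl Lrfl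
theorem f341408 : Led Lsl_gt (LP (LK LD1_c26 LD2_c40 LD3_c54)) = (LP (LK LD1_c16 LD2_c42 LD3_c6)) :=
  Lre_g IH (LK LD1_c26 LD2_c40 LD3_c54) (LK LD1_c16 LD2_c42 LD3_c6) Lrfl Lrfl
theorem f409806 : Led Lsl_ct (LP (LK LD1_c26 LD2_c35 LD3_c36)) = (LP (LK LD1_c26 LD2_c40 LD3_c54)) :=
  Lgr Lrot64 (Lpr_bt (f409805 IH) (Lpe (f267112 IH) (Lpe (f267095 IH) (Lpe (K16.f267096 IH) (Lpr_gf (f279151 IH) (Lpe (K27.f191853 IH) (Lpe (K20.f165042 IH) (Lpe (f165043 IH) (Lpr_ct (f341407 IH) (Lpe (f341408 IH) (Lpn (LP (LK LD1_c26 LD2_c40 LD3_c54)))))))))))))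
theorem f344077 : Led Lsl_at (LP (LK LD1_c9 LD2_c41 LD3_c28)) = (LP (LK LD1_c17 LD2_c49 LD3_c30)) :=
  Lre_a IH (LK LD1_c9 LD2_c41 LD3_c28) (LK LD1_c17 LD2_c49 LD3_c30) Lrfl Lrfl
theorem f344078 : Led Lsl_at (LP (LK LD1_c27 LD2_c35 LD3_c31)) = (LP (LK LD1_c17 LD2_c48 LD3_c11)) :=
  Lre_a IH (LK LD1_c27 LD2_c35 LD3_c31) (LK LD1_c17 LD2_c48 LD3_c11) Lrfl Lrfl
theorem f344079 : Led Lsl_ff (LP (LK LD1_c9 LD2_c41 LD3_c28)) = (LP (LK LD1_c17 LD2_c48 LD3_c11)) :=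
  Lgr Lrot30 (Lpr_at (f344077 IH) (Lpr_ft (K23.f344069 IH) (Lpr_at (f344078 IH) (Lpn (LP (LK LD1_c17 LD2_c48 LD3_c11))))))
theorem f344050 : Led Lsl_df (LP (LK LD1_c27 LD2_c36 LD3_c39)) = (LP (LK LD1_c32 LD2_c14 LD3_c23)) :=
  Lgr Lrot38 (Lpr_dt (K23.f344046 IH) (Lpn (LP (LK LD1_c32 LD2_c14 LD3_c23))))
theorem f344039 : Led Lsl_ct (LP (LK LD1_c26 LD2_c40 LD3_c55)) = (LP (LK LD1_c32 LD2_c14 LD3_c23)) :=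
  Lre_c IH (LK LD1_c26 LD2_c40 LD3_c55) (LK LD1_c32 LD2_c14 LD3_c23) Lrfl Lrfl
theorem f344038 : Led Lsl_dt (LP (LK LD1_c16 LD2_c42 LD3_c6)) = (LP (LK LD1_c26 LD2_c40 LD3_c55)) :=
  Lre_d IH (LK LD1_c16 LD2_c42 LD3_c6) (LK LD1_c26 LD2_c40 LD3_c55) Lrfl Lrfl
theorem f254925 : Led Lsl_dt (LP (LK LD1_c17 LD2_c48 LD3_c11)) = (LP (LK LD1_c9 LD2_c40 LD3_c39)) :=
  Lre_d IH (LK LD1_c17 LD2_c48 LD3_c11) (LK LD1_c9 LD2_c40 LD3_c39) Lrfl Lrfl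
theorem f395057 : Led Lsl_df (LP (LK LD1_c8 LD2_c55 LD3_c25)) = (LP (LK LD1_c15 LD2_c36 LD3_c25)) :=
  Lgr Lrot106 (Lpr_ct (f341407 IH) (Lpr_dt (f344038 IH) (Lpr_ct (f344039 IH) (Lpe (f344050 IH) (Lpr_ct (K23.f223345 IH) (Lpe (f344077 IH) (Lpr_ff (f344079 IH) (Lpr_dt (f254925 IH) (Lpr_ct (K23.f254904 IH) (Lpn (LP (LK LD1_c15 LD2_c36 LD3_c25))))))))))))
theorem f254947 : Led Lsl_dt (LP (LK LD1_c32 LD2_c11 LD3_c35)) = (LP (LK LD1_c26 LD2_c35 LD3_c16)) :=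
  Lre_d IH (LK LD1_c32 LD2_c11 LD3_c35) (LK LD1_c26 LD2_c35 LD3_c16) Lrfl Lrfl
theorem f409811 : Led Lsl_gf (LP (LK LD1_c26 LD2_c35 LD3_c36)) = (LP (LK LD1_c32 LD2_c11 LD3_c35)) :=
  Lgr Lrot147 (Lpr_ct (f409806 IH) (Lpr_gt (f341408 IH) (Lpr_ct (K23.f165044 IH) (Lpr_df (f395057 IH) (Lpe (K23.f254904 IH) (Lpe (K71.f218896 IH) (Lpr_cf (K71.f254935 IH) (Lpe (f254946 IH) (Lpe (f254947 IH) (Lpn (LP (LK LD1_c32 LD2_c11 LD3_c35))))))))))))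
theorem f591432 : Led Lsl_dt (LP (LK LD1_c26 LD2_c35 LD3_c36)) = (LP (LK LD1_c16 LD2_c39 LD3_c28)) :=
  Lgr Lrot105 (Lpr_gf (f409811 IH) (Lpe (f254948 IH) (Lpr_gf (f409841 IH) (Lpe (K71.f228702 IH) (Lpe (K68.f395076 IH) (Lpr_dt (K23.f223353 IH) (Lpr_gt (f591428 IH) (Lpr_dt (f276535 IH) (Lpe (K69.f276536 IH) (Lpn (LP (LK LD1_c16 LD2_c39 LD3_c28))))))))))))
theorem f591436 : Led Lsl_df (LP (LK LD1_c26 LD2_c35 LD3_c36)) = (LP (LK LD1_c16 LD2_c39 LD3_c28)) :=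
  Lgr Lrot38 (Lpr_dt (f591432 IH) (Lpn (LP (LK LD1_c16 LD2_c39 LD3_c28))))
theorem f956372 : Led Lsl_dt (LP (LK LD1_c26 LD2_c40 LD3_c54)) = v47005 :=
  Lgr Lrot140 (Lpe (f409806 IH) (Lpr_df (f591436 IH) (Lpe (f276534 IH) (Lpe (f276535 IH) (Lpr_ft (f591302 IH) (Lpe (K69.f591400 IH) (Lpe (K47.f549194 IH) (Lpe (f197884 IH) (Lpr_cf (f956370 IH) (Lpn v47005))))))))))
theorem f956369 : Led Lsl_bf (LP (LK LD1_c11 LD2_c13 LD3_c42)) = v47005 :=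
  Lgr Lrot24 (Lpr_bt (f956368 IH) (Lpn v47005))
theorem f551746 : Led Lsl_dt (LP (LK LD1_c11 LD2_c13 LD3_c42)) = (LP (LK LD1_c20 LD2_c8 LD3_c26)) :=
  Lre_d IH (LK LD1_c11 LD2_c13 LD3_c42) (LK LD1_c20 LD2_c8 LD3_c26) Lrfl Lrfl
theorem f956373 : Led Lsl_bf (LP (LK LD1_c26 LD2_c40 LD3_c54)) = (LP (LK LD1_c20 LD2_c8 LD3_c26)) :=
  Lgr Lrot93 (Lpr_dt (f956372 IH) (Lpe (f956369 IH) (Lpr_dt (f551746 IH) (Lpn (LP (LK LD1_c20 LD2_c8 LD3_c26))))))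
theorem f956374 : Led Lsl_bt (LP (LK LD1_c20 LD2_c8 LD3_c26)) = (LP (LK LD1_c26 LD2_c40 LD3_c54)) :=
  Leop (Lpr_bf (f956373 IH) (Lpn (LP (LK LD1_c20 LD2_c8 LD3_c26))))
theorem seed_2781 : LEOK LG_b (LK LD1_c20 LD2_c8 LD3_c26) :=
  Leoe_b (LK LD1_c20 LD2_c8 LD3_c26) (f956374 IH)
def v47028 : LQ := Led Lsl_ct (LP (LK LD1_c11 LD2_c13 LD3_c54))
theorem f956465 : Led Lsl_ct (LP (LK LD1_c11 LD2_c13 LD3_c54)) = v47028 :=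
  Lrfl
theorem f956468 : Led Lsl_gf (LP (LK LD1_c11 LD2_c14 LD3_c0)) = v47028 :=
  Lgr Lrot126 (Lpr_cf (K54.f601433 IH) (Lpr_bt (K54.f172248 IH) (Lpr_gt (K53.f172220 IH) (Lpr_ct (K67.f710868 IH) (Lpr_gt (K53.f68906 IH) (Lpe (K40.f59957 IH) (Lpe (K40.f561846 IH) (Lpr_gt (K53.f602468 IH) (Lpr_bf (K72.f740674 IH) (Lpr_ct (f956465 IH) (Lpn v47028)))))))))))
def v42718 : LQ := Led Lsl_gt (LP (LK LD1_c10 LD2_c15 LD3_c28))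
theorem f935436 : Led Lsl_gt (LP (LK LD1_c10 LD2_c15 LD3_c28)) = v42718 :=
  Lrfl
theorem f824259 : Led Lsl_ft (LP (LK LD1_c11 LD2_c22 LD3_c40)) = (LP (LK LD1_c18 LD2_c39 LD3_c38)) :=
  Lgr Lrot48 (Lpr_ff (f824254 IH) (Lpn (LP (LK LD1_c18 LD2_c39 LD3_c38))))
theorem f180463 : Led Lsl_bt (LP (LK LD1_c5 LD2_c6 LD3_c1)) = (LP (LK LD1_c10 LD2_c3 LD3_c3)) :=
  Lre_b IH (LK LD1_c5 LD2_c6 LD3_c1) (LK LD1_c10 LD2_c3 LD3_c3) Lrfl Lrfl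
theorem f180465 : Led Lsl_dt (LP (LK LD1_c10 LD2_c3 LD3_c3)) = (LP (LK LD1_c11 LD2_c22 LD3_c40)) :=
  Lgr Lrot79 (Lpe (f180463 IH) (Lpr_df (K17.f180461 IH) (Lpe (f180464 IH) (Lpn (LP (LK LD1_c11 LD2_c22 LD3_c40))))))
theorem f824261 : Led Lsl_dt (LP (LK LD1_c18 LD2_c39 LD3_c38)) = (LP (LK LD1_c10 LD2_c15 LD3_c28)) :=
  Lre_d IH (LK LD1_c18 LD2_c39 LD3_c38) (LK LD1_c10 LD2_c15 LD3_c28) Lrfl Lrfl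
theorem f824262 : Led Lsl_ff (LP (LK LD1_c10 LD2_c3 LD3_c3)) = (LP (LK LD1_c10 LD2_c15 LD3_c28)) :=
  Lgr Lrot19 (Lpr_dt (f180465 IH) (Lpr_ft (f824259 IH) (Lpr_dt (f824261 IH) (Lpn (LP (LK LD1_c10 LD2_c15 LD3_c28))))))
theorem f935437 : Led Lsl_gf (LP (LK LD1_c18 LD2_c21 LD3_c32)) = v42718 :=
  Lgr Lrot76 (Lpe (f180520 IH) (Lpr_ff (f824262 IH) (Lpr_gt (f935436 IH) (Lpn v42718))))
def v37946 : LQ := Led Lsl_ft (LP (LK LD1_c9 LD2_c2 LD3_c40))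
theorem f898191 : Led Lsl_ft (LP (LK LD1_c9 LD2_c2 LD3_c40)) = v37946 :=
  Lrfl
theorem f898195 : Led Lsl_ff (LP (LK LD1_c9 LD2_c2 LD3_c40)) = v37946 :=
  Lgr Lrot3 (Lpr_ft (f898191 IH) (Lpn v37946))
theorem f898199 : Led Lsl_gf (LP (LK LD1_c11 LD2_c13 LD3_c54)) = v37946 :=
  Lgr Lrot47 (Lpr_gt (K72.f561609 IH) (Lpe (f572164 IH) (Lpr_ff (f898195 IH) (Lpn v37946))))
theorem f572166 : Led Lsl_ft (LP (LK LD1_c5 LD2_c55 LD3_c3)) = (LP (LK LD1_c11 LD2_c35 LD3_c36)) :=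
  Lre_f IH (LK LD1_c5 LD2_c55 LD3_c3) (LK LD1_c11 LD2_c35 LD3_c36) Lrfl Lrfl
theorem f898197 : Led Lsl_dt (LP (LK LD1_c11 LD2_c35 LD3_c36)) = v37946 :=
  Lgr Lrot60 (Lpe (f572166 IH) (Lpe (f553771 IH) (Lpr_ff (f898195 IH) (Lpn v37946))))
theorem f956469 : v42718 = (LP (LK LD1_c11 LD2_c35 LD3_c36)) :=
  (Llr Lrot147 (Lpe (f935437 IH) (Lpe (f931607 IH) (Lpr_gt (f55545 IH) (Lpr_ct (K9.f55537 IH) (Lpr_df (K37.f172217 IH) (Lpe (f542249 IH) (Lpr_gf (f956468 IH) (Lpe (f956465 IH) (Lpr_gf (f898199 IH) (Lpe (f898197 IH) (Lpn (LP (LK LD1_c11 LD2_c35 LD3_c36)))))))))))))).symm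
theorem f956470 : Led Lsl_gt (LP (LK LD1_c11 LD2_c35 LD3_c36)) = (LP (LK LD1_c18 LD2_c21 LD3_c32)) :=
  Leop (Lpr_gf (f935437 IH) (Lpqs (f956469 IH) (Lpn (LP (LK LD1_c11 LD2_c35 LD3_c36)))))
theorem seed_2782 : LEOK LG_g (LK LD1_c11 LD2_c35 LD3_c36) :=
  Leoe_g (LK LD1_c11 LD2_c35 LD3_c36) (f956470 IH)
theorem f753550 : Led Lsl_dt (LP (LK LD1_c16 LD2_c57 LD3_c18)) = (LP (LK LD1_c9 LD2_c5 LD3_c18)) :=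
  Lre_d IH (LK LD1_c16 LD2_c57 LD3_c18) (LK LD1_c9 LD2_c5 LD3_c18) Lrfl Lrfl
def v38127 : LQ := Led Lsl_gt (LP (LK LD1_c9 LD2_c5 LD3_c18))
theorem f899355 : Led Lsl_gt (LP (LK LD1_c9 LD2_c5 LD3_c18)) = v38127 :=
  Lrfl
def v15771 : LQ := Led Lsl_ft (LP (LK LD1_c5 LD2_c46 LD3_c10))
theorem f741459 : Led Lsl_ft (LP (LK LD1_c5 LD2_c46 LD3_c10)) = v15771 :=
  Lrfl
theorem f741461 : Led Lsl_ff (LP (LK LD1_c5 LD2_c46 LD3_c10)) = v15771 :=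
  Lgr Lrot3 (Lpr_ft (f741459 IH) (Lpn v15771))
theorem f741462 : Led Lsl_bt K64.v4825 = v15771 :=
  Lgr Lrot35 (Lpe (K64.f640487 IH) (Lpe (K73.f640481 IH) (Lpr_ff (f741461 IH) (Lpn v15771))))
theorem f698791 : Led Lsl_bt (LP (LK LD1_c4 LD2_c33 LD3_c54)) = (LP (LK LD1_c9 LD2_c5 LD3_c18)) :=
  Lre_b IH (LK LD1_c4 LD2_c33 LD3_c54) (LK LD1_c9 LD2_c5 LD3_c18) Lrfl Lrfl
theorem f824195 : v15771 = (LP (LK LD1_c9 LD2_c5 LD3_c18)) :=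
  Lefun (Lecon (f741462 IH) (K64.f824191 IH)) (f698791 IH)
def v15770 : LQ := Led Lsl_at (LP (LK LD1_c5 LD2_c46 LD3_c10))
theorem f741457 : Led Lsl_at (LP (LK LD1_c5 LD2_c46 LD3_c10)) = v15770 :=
  Lrfl
theorem f899356 : Led Lsl_gf v15770 = v38127 :=
  Lgr Lrot76 (Lpe (f741457 IH) (Lpr_ff (f741461 IH) (Lpqs (f824195 IH) (Lpr_gt (f899355 IH) (Lpn v38127)))))
theorem f423400 : Led Lsl_gt (LP (LK LD1_c5 LD2_c41 LD3_c24)) = (LP (LK LD1_c11 LD2_c13 LD3_c0)) :=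
  Lre_g IH (LK LD1_c5 LD2_c41 LD3_c24) (LK LD1_c11 LD2_c13 LD3_c0) Lrfl Lrfl
def v46948 : LQ := Led Lsl_bt (LP (LK LD1_c11 LD2_c13 LD3_c0))
theorem f955965 : Led Lsl_bt (LP (LK LD1_c11 LD2_c13 LD3_c0)) = v46948 :=
  Lrfl
theorem f955966 : Led Lsl_bf (LP (LK LD1_c11 LD2_c13 LD3_c0)) = v46948 :=
  Lgr Lrot24 (Lpr_bt (f955965 IH) (Lpn v46948))
def v38124 : LQ := Led Lsl_at (LP (LK LD1_c9 LD2_c5 LD3_c15))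
theorem f899330 : Led Lsl_at (LP (LK LD1_c9 LD2_c5 LD3_c15)) = v38124 :=
  Lrfl
theorem f698788 : Led Lsl_bt (LP (LK LD1_c4 LD2_c33 LD3_c53)) = (LP (LK LD1_c9 LD2_c5 LD3_c15)) :=
  Lre_b IH (LK LD1_c4 LD2_c33 LD3_c53) (LK LD1_c9 LD2_c5 LD3_c15) Lrfl Lrfl
theorem f640489 : Led Lsl_ff (LP (LK LD1_c2 LD2_c48 LD3_c51)) = K64.v4825 :=
  Lgr Lrot3 (Lpr_ft (K64.f640487 IH) (Lpn K64.v4825))
theorem f824204 : (LP (LK LD1_c2 LD2_c48 LD3_c51)) = K64.v12880 :=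
  Lefun (Lecon (Lfl_ff (f640489 IH)) (K64.f824191 IH)) (K64.f698789 IH)
theorem f741458 : Led Lsl_af (LP (LK LD1_c5 LD2_c46 LD3_c10)) = v15770 :=
  Lgr Lrot0 (Lpr_at (f741457 IH) (Lpn v15770))
theorem f899332 : Led Lsl_bf v15770 = v38124 :=
  Lgr Lrot81 (Lpe (f741458 IH) (Lpr_bt (K73.f640481 IH) (Lpqs (f824204 IH) (Lpe (K64.f698787 IH) (Lpr_bt (f698788 IH) (Lpr_at (f899330 IH) (Lpn v38124)))))))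
theorem f380619 : Led Lsl_et (LP (LK LD1_c2 LD2_c46 LD3_c44)) = (LP (LK LD1_c5 LD2_c41 LD3_c24)) :=
  Lre_e IH (LK LD1_c2 LD2_c46 LD3_c44) (LK LD1_c5 LD2_c41 LD3_c24) Lrfl Lrfl
theorem f423406 : Led Lsl_et (LP (LK LD1_c20 LD2_c7 LD3_c36)) = (LP (LK LD1_c11 LD2_c13 LD3_c0)) :=
  Lre_e IH (LK LD1_c20 LD2_c7 LD3_c36) (LK LD1_c11 LD2_c13 LD3_c0) Lrfl Lrfl
theorem f572141 : Led Lsl_ft (LP (LK LD1_c11 LD2_c35 LD3_c36)) = (LP (LK LD1_c5 LD2_c55 LD3_c3)) :=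
  Lre_f IH (LK LD1_c11 LD2_c35 LD3_c36) (LK LD1_c5 LD2_c55 LD3_c3) Lrfl Lrfl
theorem f572158 : Led Lsl_at (LP (LK LD1_c5 LD2_c55 LD3_c3)) = (LP (LK LD1_c11 LD2_c13 LD3_c55)) :=
  Lgr Lrot100 (Lpr_af (K42.f572156 IH) (Lpn (LP (LK LD1_c11 LD2_c13 LD3_c55))))
theorem f935440 : Led Lsl_af (LP (LK LD1_c10 LD2_c15 LD3_c28)) = v42720 :=
  Lgr Lrot0 (Lpr_at (f935439 IH) (Lpn v42720))
def v42719 : LQ := Led Lsl_gf (LP (LK LD1_c10 LD2_c15 LD3_c28))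
theorem f935438 : Led Lsl_gf (LP (LK LD1_c10 LD2_c15 LD3_c28)) = v42719 :=
  Lrfl
theorem f935447 : Led Lsl_gt (LP (LK LD1_c18 LD2_c21 LD3_c32)) = v42719 :=
  Lgr Lrot5 (Lpr_ft (f935445 IH) (Lpe (f935440 IH) (Lpr_gf (f935438 IH) (Lpn v42719))))
theorem f956472 : (LP (LK LD1_c11 LD2_c13 LD3_c55)) = v42719 :=
  (Llr Lrot26 (Lpe (f572158 IH) (Lpe (f572141 IH) (Lpq (f956469 IH) (Lpe (f935437 IH) (Lpr_gt (f935447 IH) (Lpn v42719))))))).symm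
theorem f956475 : Led Lsl_dt (LP (LK LD1_c20 LD2_c7 LD3_c36)) = (LP (LK LD1_c18 LD2_c21 LD3_c32)) :=
  Lgr Lrot136 (Lpr_et (f423406 IH) (Lpe (f423400 IH) (Lpe (f380619 IH) (Lpr_dt (K36.f181553 IH) (Lpe (K10.f174963 IH) (Lpe (K30.f181503 IH) (Lpe (K31.f174138 IH) (Lpe (K42.f280580 IH) (Lpr_dt (K72.f280581 IH) (Lpqs (f956472 IH) (Lpe (f935447 IH) (Lpn (LP (LK LD1_c18 LD2_c21 LD3_c32))))))))))))))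
theorem f553785 : Led Lsl_dt (LP (LK LD1_c11 LD2_c35 LD3_c35)) = (LP (LK LD1_c20 LD2_c33 LD3_c46)) :=
  Lre_d IH (LK LD1_c11 LD2_c35 LD3_c35) (LK LD1_c20 LD2_c33 LD3_c46) Lrfl Lrfl
theorem f956484 : Led Lsl_ff (LP (LK LD1_c20 LD2_c7 LD3_c36)) = (LP (LK LD1_c20 LD2_c33 LD3_c46)) :=
  Lgr Lrot19 (Lpr_dt (f956475 IH) (Lpr_ft (f935445 IH) (Lpqs (f953374 IH) (Lpr_dt (f553785 IH) (Lpn (LP (LK LD1_c20 LD2_c33 LD3_c46)))))))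
theorem f619124 : Led Lsl_dt (LP (LK LD1_c20 LD2_c33 LD3_c46)) = (LP (LK LD1_c11 LD2_c35 LD3_c35)) :=
  Lre_d IH (LK LD1_c20 LD2_c33 LD3_c46) (LK LD1_c11 LD2_c35 LD3_c35) Lrfl Lrfl
theorem f723076 : Led Lsl_bt (LP (LK LD1_c5 LD2_c12 LD3_c31)) = (LP (LK LD1_c10 LD2_c15 LD3_c28)) :=
  Lre_b IH (LK LD1_c5 LD2_c12 LD3_c31) (LK LD1_c10 LD2_c15 LD3_c28) Lrfl Lrfl
theorem f387367 : Led Lsl_bt (LP (LK LD1_c10 LD2_c2 LD3_c61)) = (LP (LK LD1_c5 LD2_c6 LD3_c0)) :=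
  Lre_b IH (LK LD1_c10 LD2_c2 LD3_c61) (LK LD1_c5 LD2_c6 LD3_c0) Lrfl Lrfl
theorem f935441 : Led Lsl_bf v41860 = v42720 :=
  Lgr Lrot81 (Lpe (f929856 IH) (Lpr_bt (f387367 IH) (Lpqs (K64.f824240 IH) (Lpe (K64.f723075 IH) (Lpr_bt (f723076 IH) (Lpr_at (f935439 IH) (Lpn v42720)))))))
def v38266 : LQ := Led Lsl_gf (LP (LK LD1_c9 LD2_c7 LD3_c43))
theorem f900346 : Led Lsl_gf (LP (LK LD1_c9 LD2_c7 LD3_c43)) = v38266 :=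
  Lrfl
theorem f931713 : v38266 = (LP (LK LD1_c10 LD2_c15 LD3_c31)) :=
  (Llr Lrot124 (Lpe (f900346 IH) (Lpe (K40.f561878 IH) (Lpr_ct (K67.f9226 IH) (Lpr_gt (K57.f9225 IH) (Lpr_cf (K57.f739646 IH) (Lpq (K73.f931502 IH) (Lpe (K73.f722310 IH) (Lpe (K53.f288069 IH) (Lpe (K71.f408416 IH) (Lpr_gt (K71.f408405 IH) (Lpq (K54.f731554 IH) (Lpe (K54.f723085 IH) (Lpr_bt (f408201 IH) (Lpn (LP (LK LD1_c10 LD2_c15 LD3_c31))))))))))))))))).symm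
theorem f561867 : Led Lsl_gt (LP (LK LD1_c9 LD2_c7 LD3_c43)) = (LP (LK LD1_c16 LD2_c59 LD3_c55)) :=
  Lre_g IH (LK LD1_c9 LD2_c7 LD3_c43) (LK LD1_c16 LD2_c59 LD3_c55) Lrfl Lrfl
theorem f931715 : v41860 = (LP (LK LD1_c16 LD2_c59 LD3_c55)) :=
  (Llr Lrot26 (Lpe (f929855 IH) (Lpr_ff (f824274 IH) (Lpq (f931713 IH) (Lpe (f900346 IH) (Lpr_gt (f561867 IH) (Lpn (LP (LK LD1_c16 LD2_c59 LD3_c55))))))))).symm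
theorem f561868 : Led Lsl_dt (LP (LK LD1_c16 LD2_c59 LD3_c55)) = (LP (LK LD1_c26 LD2_c55 LD3_c12)) :=
  Lre_d IH (LK LD1_c16 LD2_c59 LD3_c55) (LK LD1_c26 LD2_c55 LD3_c12) Lrfl Lrfl
theorem f953411 : Led Lsl_bf (LP (LK LD1_c20 LD2_c33 LD3_c46)) = (LP (LK LD1_c26 LD2_c55 LD3_c12)) :=
  Lgr Lrot93 (Lpr_dt (f619124 IH) (Lpq (f953374 IH) (Lpe (f935441 IH) (Lpqs (f931715 IH) (Lpr_dt (f561868 IH) (Lpn (LP (LK LD1_c26 LD2_c55 LD3_c12))))))))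
theorem f281918 : Led Lsl_et (LP (LK LD1_c9 LD2_c2 LD3_c4)) = (LP (LK LD1_c4 LD2_c32 LD3_c13)) :=
  Lre_e IH (LK LD1_c9 LD2_c2 LD3_c4) (LK LD1_c4 LD2_c32 LD3_c13) Lrfl Lrfl
theorem f621120 : Led Lsl_et (LP (LK LD1_c26 LD2_c49 LD3_c2)) = (LP (LK LD1_c16 LD2_c51 LD3_c59)) :=
  Lre_e IH (LK LD1_c26 LD2_c49 LD3_c2) (LK LD1_c16 LD2_c51 LD3_c59) Lrfl Lrfl
theorem f931580 : Led Lsl_dt (LP (LK LD1_c26 LD2_c49 LD3_c2)) = (LP (LK LD1_c18 LD2_c39 LD3_c40)) :=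
  Lgr Lrot136 (Lpr_et (f621120 IH) (Lpe (K69.f538911 IH) (Lpe (K36.f407076 IH) (Lpr_dt (K31.f398565 IH) (Lpe (K31.f173368 IH) (Lpe (K31.f181741 IH) (Lpe (K38.f174454 IH) (Lpe (f281918 IH) (Lpr_dt (K45.f281919 IH) (Lpqs (f931573 IH) (Lpe (f929860 IH) (Lpn (LP (LK LD1_c18 LD2_c39 LD3_c40))))))))))))))
theorem f931721 : Led Lsl_ff (LP (LK LD1_c26 LD2_c49 LD3_c2)) = (LP (LK LD1_c26 LD2_c55 LD3_c12)) :=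
  Lgr Lrot19 (Lpr_dt (f931580 IH) (Lpr_ft (f929858 IH) (Lpqs (f931715 IH) (Lpr_dt (f561868 IH) (Lpn (LP (LK LD1_c26 LD2_c55 LD3_c12)))))))
theorem f931725 : Led Lsl_ft (LP (LK LD1_c26 LD2_c49 LD3_c2)) = (LP (LK LD1_c26 LD2_c55 LD3_c12)) :=
  Lgr Lrot48 (Lpr_ff (f931721 IH) (Lpn (LP (LK LD1_c26 LD2_c55 LD3_c12))))
theorem f956488 : Led Lsl_bt (LP (LK LD1_c20 LD2_c7 LD3_c36)) = (LP (LK LD1_c26 LD2_c49 LD3_c2)) :=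
  Lgr Lrot35 (Lpr_ff (f956484 IH) (Lpr_bf (f953411 IH) (Lpe (f931725 IH) (Lpn (LP (LK LD1_c26 LD2_c49 LD3_c2))))))
theorem f955961 : Led Lsl_et (LP (LK LD1_c11 LD2_c13 LD3_c0)) = (LP (LK LD1_c20 LD2_c7 LD3_c36)) :=
  Lre_e IH (LK LD1_c11 LD2_c13 LD3_c0) (LK LD1_c20 LD2_c7 LD3_c36) Lrfl Lrfl
theorem f956493 : v46948 = (LP (LK LD1_c16 LD2_c51 LD3_c59)) :=
  (Llr Lrot96 (Lpe (f955966 IH) (Lpr_et (f955961 IH) (Lpr_bt (f956488 IH) (Lpr_et (f621120 IH) (Lpn (LP (LK LD1_c16 LD2_c51 LD3_c59)))))))).symm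
theorem f931589 : Led Lsl_df (LP (LK LD1_c26 LD2_c49 LD3_c2)) = (LP (LK LD1_c18 LD2_c39 LD3_c40)) :=
  Lgr Lrot38 (Lpr_dt (f931580 IH) (Lpn (LP (LK LD1_c18 LD2_c39 LD3_c40))))
theorem f931591 : Led Lsl_at (LP (LK LD1_c26 LD2_c49 LD3_c2)) = (LP (LK LD1_c16 LD2_c57 LD3_c14)) :=
  Lgr Lrot51 (Lpr_df (f931589 IH) (Lpe (f408222 IH) (Lpr_df (f408220 IH) (Lpn (LP (LK LD1_c16 LD2_c57 LD3_c14))))))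
theorem f931586 : Led Lsl_et (LP (LK LD1_c16 LD2_c51 LD3_c59)) = (LP (LK LD1_c26 LD2_c49 LD3_c2)) :=
  Lre_e IH (LK LD1_c16 LD2_c51 LD3_c59) (LK LD1_c26 LD2_c49 LD3_c2) Lrfl Lrfl
theorem f408226 : Led Lsl_et (LP (LK LD1_c16 LD2_c57 LD3_c14)) = (LP (LK LD1_c9 LD2_c5 LD3_c15)) :=
  Lre_e IH (LK LD1_c16 LD2_c57 LD3_c14) (LK LD1_c9 LD2_c5 LD3_c15) Lrfl Lrfl
theorem f931593 : (LP (LK LD1_c16 LD2_c51 LD3_c59)) = v38124 :=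
  (Llr Lrot20 (Lpr_et (f931586 IH) (Lpr_at (f931591 IH) (Lpr_et (f408226 IH) (Lpr_at (f899330 IH) (Lpn v38124)))))).symm
theorem f956494 : (LP (LK LD1_c11 LD2_c13 LD3_c0)) = v15770 :=
  Lefun (Lecon (Lfl_bf (f955966 IH)) ((f956493 IH).trans (f931593 IH))) (Lfl_bf (f899332 IH))
theorem f956498 : v38127 = (LP (LK LD1_c5 LD2_c41 LD3_c24)) :=
  Lefun (Lecon (f899356 IH) (f956494 IH).symm) (Lfl_gt (f423400 IH))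
theorem f898562 : Led Lsl_et (LP (LK LD1_c20 LD2_c9 LD3_c10)) = (LP (LK LD1_c17 LD2_c33 LD3_c9)) :=
  Lgr Lrot87 (Lpr_ef (K69.f898559 IH) (Lpn (LP (LK LD1_c17 LD2_c33 LD3_c9))))
theorem f411911 : Led Lsl_dt (LP (LK LD1_c11 LD2_c14 LD3_c13)) = (LP (LK LD1_c20 LD2_c9 LD3_c10)) :=
  Lre_d IH (LK LD1_c11 LD2_c14 LD3_c13) (LK LD1_c20 LD2_c9 LD3_c10) Lrfl Lrfl
theorem f737949 : Led Lsl_et (LP (LK LD1_c5 LD2_c41 LD3_c57)) = (LP (LK LD1_c11 LD2_c14 LD3_c13)) :=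
  Lre_e IH (LK LD1_c5 LD2_c41 LD3_c57) (LK LD1_c11 LD2_c14 LD3_c13) Lrfl Lrfl
theorem f898561 : Led Lsl_ef (LP (LK LD1_c11 LD2_c14 LD3_c12)) = K69.v37996 :=
  Lgr Lrot88 (Lpr_et (K69.f898557 IH) (Lpn K69.v37996))
theorem f898564 : Led Lsl_df K69.v37996 = (LP (LK LD1_c17 LD2_c33 LD3_c9)) :=
  Lgr Lrot70 (Lpe (f898561 IH) (Lpr_dt (K69.f566501 IH) (Lpr_et (f737949 IH) (Lpr_dt (f411911 IH) (Lpr_et (f898562 IH) (Lpn (LP (LK LD1_c17 LD2_c33 LD3_c9))))))))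
theorem f956508 : Led Lsl_gf (LP (LK LD1_c16 LD2_c57 LD3_c18)) = (LP (LK LD1_c20 LD2_c9 LD3_c10)) :=
  Lgr Lrot138 (Lpr_dt (f753550 IH) (Lpr_gt (f899355 IH) (Lpqs (f956498 IH) (Lpe (K38.f423369 IH) (Lpr_et (K38.f423357 IH) (Lpr_gt (K44.f552419 IH) (Lpr_ef (K69.f898570 IH) (Lpe (K69.f898569 IH) (Lpr_gt (K69.f898555 IH) (Lpr_df (f898564 IH) (Lpe (K69.f898559 IH) (Lpn (LP (LK LD1_c20 LD2_c9 LD3_c10))))))))))))))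
theorem f956509 : Led Lsl_gt (LP (LK LD1_c20 LD2_c9 LD3_c10)) = (LP (LK LD1_c16 LD2_c57 LD3_c18)) :=
  Leop (Lpr_gf (f956508 IH) (Lpn (LP (LK LD1_c20 LD2_c9 LD3_c10))))
theorem seed_2783 : LEOK LG_g (LK LD1_c20 LD2_c9 LD3_c10) :=
  Leoe_g (LK LD1_c20 LD2_c9 LD3_c10) (f956509 IH)
theorem f753576 : Led Lsl_ct (LP (LK LD1_c11 LD2_c35 LD3_c36)) = (LP (LK LD1_c20 LD2_c33 LD3_c44)) :=
  Lre_c IH (LK LD1_c11 LD2_c35 LD3_c36) (LK LD1_c20 LD2_c33 LD3_c44) Lrfl Lrfl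
theorem f165133 : Led Lsl_bt (LP (LK LD1_c18 LD2_c25 LD3_c58)) = (LP (LK LD1_c10 LD2_c6 LD3_c47)) :=
  Lre_b IH (LK LD1_c18 LD2_c25 LD3_c58) (LK LD1_c10 LD2_c6 LD3_c47) Lrfl Lrfl
theorem f177258 : Led Lsl_ct (LP (LK LD1_c18 LD2_c25 LD3_c58)) = (LP (LK LD1_c28 LD2_c1 LD3_c36)) :=
  Lre_c IH (LK LD1_c18 LD2_c25 LD3_c58) (LK LD1_c28 LD2_c1 LD3_c36) Lrfl Lrfl
theorem f956537 : Led Lsl_gt (LP (LK LD1_c20 LD2_c33 LD3_c44)) = (LP (LK LD1_c28 LD2_c1 LD3_c36)) :=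
  Lgr Lrot149 (Lpe (f753576 IH) (Lpq (f956469 IH) (Lpe (f935436 IH) (Lpe (f723076 IH) (Lpr_ct (K54.f723079 IH) (Lpqs (K54.f731577 IH) (Lpe (K54.f177256 IH) (Lpr_cf (K32.f177214 IH) (Lpr_bt (K32.f165120 IH) (Lpe (K72.f53232 IH) (Lpe (f165133 IH) (Lpr_ct (f177258 IH) (Lpn (LP (LK LD1_c28 LD2_c1 LD3_c36)))))))))))))))
theorem f545682 : Led Lsl_ft (LP (LK LD1_c20 LD2_c33 LD3_c44)) = (LP (LK LD1_c11 LD2_c35 LD3_c34)) :=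
  Lre_f IH (LK LD1_c20 LD2_c33 LD3_c44) (LK LD1_c11 LD2_c35 LD3_c34) Lrfl Lrfl
theorem f956539 : Led Lsl_gf (LP (LK LD1_c20 LD2_c8 LD3_c39)) = (LP (LK LD1_c28 LD2_c1 LD3_c36)) :=
  Lgr Lrot76 (Lpe (K42.f572162 IH) (Lpe (f545682 IH) (Lpr_gt (f956537 IH) (Lpn (LP (LK LD1_c28 LD2_c1 LD3_c36))))))
theorem f572185 : Led Lsl_ct (LP (LK LD1_c11 LD2_c13 LD3_c55)) = (LP (LK LD1_c20 LD2_c8 LD3_c39)) :=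
  Lre_c IH (LK LD1_c11 LD2_c13 LD3_c55) (LK LD1_c20 LD2_c8 LD3_c39) Lrfl Lrfl
theorem f572227 : Led Lsl_bf (LP (LK LD1_c12 LD2_c9 LD3_c53)) = (LP (LK LD1_c11 LD2_c13 LD3_c55)) :=
  Lgr Lrot24 (Lpr_bt (f572223 IH) (Lpn (LP (LK LD1_c11 LD2_c13 LD3_c55))))
theorem f752393 : Led Lsl_bt (LP (LK LD1_c6 LD2_c8 LD3_c30)) = (LP (LK LD1_c11 LD2_c58 LD3_c37)) :=
  Lre_b IH (LK LD1_c6 LD2_c8 LD3_c30) (LK LD1_c11 LD2_c58 LD3_c37) Lrfl Lrfl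
theorem f956541 : Led Lsl_gt (LP (LK LD1_c12 LD2_c9 LD3_c53)) = (LP (LK LD1_c11 LD2_c58 LD3_c37)) :=
  Lgr Lrot164 (Lpr_bf (f572227 IH) (Lpr_ct (f572185 IH) (Lpr_gf (f956539 IH) (Lpe (f177258 IH) (Lpr_gf (K72.f924720 IH) (Lpe (K72.f55564 IH) (Lpe (K17.f55566 IH) (Lpr_gf (K72.f691488 IH) (Lpqs (K72.f753524 IH) (Lpe (K72.f752396 IH) (Lpr_bt (f752393 IH) (Lpn (LP (LK LD1_c11 LD2_c58 LD3_c37))))))))))))))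
theorem f956542 : Led Lsl_gt (LP (LK LD1_c12 LD2_c9 LD3_c53)) = (LP (LK LD1_c11 LD2_c58 LD3_c37)) :=
  Leop (Lpe (f956541 IH) (Lpn (LP (LK LD1_c12 LD2_c9 LD3_c53))))
theorem seed_2784 : LEOK LG_g (LK LD1_c12 LD2_c9 LD3_c53) :=
  Leoe_g (LK LD1_c12 LD2_c9 LD3_c53) (f956542 IH)
def v47067 : LQ := Led Lsl_gt (LP (LK LD1_c11 LD2_c14 LD3_c15))
theorem f956700 : Led Lsl_gt (LP (LK LD1_c11 LD2_c14 LD3_c15)) = v47067 :=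
  Lrfl
theorem f638880 : Led Lsl_ct (LP (LK LD1_c11 LD2_c12 LD3_c8)) = (LP (LK LD1_c5 LD2_c40 LD3_c47)) :=
  Lre_c IH (LK LD1_c11 LD2_c12 LD3_c8) (LK LD1_c5 LD2_c40 LD3_c47) Lrfl Lrfl
theorem f897211 : Led Lsl_ff (LP (LK LD1_c11 LD2_c12 LD3_c8)) = K69.v37876 :=
  Lgr Lrot23 (Lpr_ct (f638880 IH) (Lpr_ft (f737770 IH) (Lpqs (f823826 IH) (Lpr_ct (K69.f897209 IH) (Lpn K69.v37876)))))
theorem f897212 : Led Lsl_ft (LP (LK LD1_c11 LD2_c12 LD3_c8)) = K69.v37876 :=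
  Lgr Lrot48 (Lpr_ff (f897211 IH) (Lpn K69.v37876))
theorem f956701 : Led Lsl_at K69.v37876 = v47067 :=
  Lgr Lrot26 (Lpe (f897212 IH) (Lpe (K69.f897088 IH) (Lpr_gt (f956700 IH) (Lpn v47067))))
def v46854 : LQ := Led Lsl_ct (LP (LK LD1_c11 LD2_c12 LD3_c7))
theorem f955571 : Led Lsl_ct (LP (LK LD1_c11 LD2_c12 LD3_c7)) = v46854 :=
  Lrfl
theorem f638878 : Led Lsl_at (LP (LK LD1_c5 LD2_c40 LD3_c47)) = (LP (LK LD1_c11 LD2_c12 LD3_c7)) :=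
  Lre_a IH (LK LD1_c5 LD2_c40 LD3_c47) (LK LD1_c11 LD2_c12 LD3_c7) Lrfl Lrfl
theorem f955572 : Led Lsl_af (LP (LK LD1_c11 LD2_c12 LD3_c8)) = v46854 :=
  Lgr Lrot68 (Lpr_ct (f638880 IH) (Lpr_at (f638878 IH) (Lpr_ct (f955571 IH) (Lpn v46854))))
theorem f956704 : Led Lsl_ff v46854 = v47067 :=
  Lgr Lrot30 (Lpe (f955572 IH) (Lpr_ft (f897212 IH) (Lpr_at (f956701 IH) (Lpn v47067))))
def v46856 : LQ := Led Lsl_gf (LP (LK LD1_c11 LD2_c12 LD3_c8))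
theorem f955579 : Led Lsl_gf (LP (LK LD1_c11 LD2_c12 LD3_c8)) = v46856 :=
  Lrfl
theorem f956707 : Led Lsl_gf v46856 = v47067 :=
  Lgr Lrot47 (Lpe (f955579 IH) (Lpr_af (f955572 IH) (Lpr_ff (f956704 IH) (Lpn v47067))))
theorem f955581 : Led Lsl_ct (LP (LK LD1_c16 LD2_c53 LD3_c49)) = v46856 :=
  Lgr Lrot64 (Lpr_bt (K51.f566487 IH) (Lpqs (K69.f897116 IH) (Lpe (K69.f738025 IH) (Lpe (K69.f638906 IH) (Lpr_ct (K64.f638910 IH) (Lpqs (K64.f823420 IH) (Lpe (K64.f638518 IH) (Lpe (K69.f380510 IH) (Lpe (K54.f172289 IH) (Lpe (K69.f380524 IH) (Lpr_ct (K69.f380525 IH) (Lpr_gf (f955579 IH) (Lpn v46856)))))))))))))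
theorem f412315 : Led Lsl_bt (LP (LK LD1_c2 LD2_c47 LD3_c6)) = (LP (LK LD1_c5 LD2_c41 LD3_c58)) :=
  Lre_b IH (LK LD1_c2 LD2_c47 LD3_c6) (LK LD1_c5 LD2_c41 LD3_c58) Lrfl Lrfl
theorem f412314 : Led Lsl_bt (LP (LK LD1_c9 LD2_c2 LD3_c11)) = (LP (LK LD1_c4 LD2_c32 LD3_c19)) :=
  Lre_b IH (LK LD1_c9 LD2_c2 LD3_c11) (LK LD1_c4 LD2_c32 LD3_c19) Lrfl Lrfl
theorem f566466 : Led Lsl_af (LP (LK LD1_c9 LD2_c2 LD3_c11)) = (LP (LK LD1_c4 LD2_c32 LD3_c59)) :=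
  Lgr Lrot36 (Lpr_bt (f412314 IH) (Lpr_at (K32.f268672 IH) (Lpr_bt (f412315 IH) (Lpr_at (K41.f566459 IH) (Lpr_bt (K41.f566465 IH) (Lpn (LP (LK LD1_c4 LD2_c32 LD3_c59))))))))
theorem f566520 : Led Lsl_ft (LP (LK LD1_c9 LD2_c3 LD3_c15)) = (LP (LK LD1_c4 LD2_c32 LD3_c59)) :=
  Lre_f IH (LK LD1_c9 LD2_c3 LD3_c15) (LK LD1_c4 LD2_c32 LD3_c59) Lrfl Lrfl
theorem f615842 : Led Lsl_gf (LP (LK LD1_c16 LD2_c52 LD3_c27)) = (LP (LK LD1_c9 LD2_c3 LD3_c15)) :=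
  Lgr Lrot47 (Lpr_gt (K69.f542288 IH) (Lpr_af (f566466 IH) (Lpe (f566520 IH) (Lpn (LP (LK LD1_c9 LD2_c3 LD3_c15))))))
theorem f824040 : Led Lsl_dt (LP (LK LD1_c9 LD2_c2 LD3_c16)) = (LP (LK LD1_c16 LD2_c52 LD3_c34)) :=
  Lre_d IH (LK LD1_c9 LD2_c2 LD3_c16) (LK LD1_c16 LD2_c52 LD3_c34) Lrfl Lrfl
theorem f897131 : Led Lsl_af (LP (LK LD1_c9 LD2_c2 LD3_c16)) = (LP (LK LD1_c16 LD2_c52 LD3_c27)) :=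
  Lgr Lrot117 (Lpr_dt (f824040 IH) (Lpr_at (K69.f897123 IH) (Lpe (K69.f707041 IH) (Lpn (LP (LK LD1_c16 LD2_c52 LD3_c27))))))
theorem f412027 : Led Lsl_bt (LP (LK LD1_c9 LD2_c2 LD3_c16)) = (LP (LK LD1_c4 LD2_c32 LD3_c18)) :=
  Lre_b IH (LK LD1_c9 LD2_c2 LD3_c16) (LK LD1_c4 LD2_c32 LD3_c18) Lrfl Lrfl
def v12826 : LQ := Led Lsl_ft (LP (LK LD1_c4 LD2_c32 LD3_c17))
theorem f698416 : Led Lsl_ft (LP (LK LD1_c4 LD2_c32 LD3_c17)) = v12826 :=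
  Lrfl
theorem f698418 : Led Lsl_ff (LP (LK LD1_c4 LD2_c32 LD3_c17)) = v12826 :=
  Lgr Lrot3 (Lpr_ft (f698416 IH) (Lpn v12826))
def v12823 : LQ := Led Lsl_at (LP (LK LD1_c4 LD2_c32 LD3_c17))
theorem f698403 : Led Lsl_at (LP (LK LD1_c4 LD2_c32 LD3_c17)) = v12823 :=
  Lrfl
theorem f698404 : Led Lsl_af (LP (LK LD1_c4 LD2_c32 LD3_c17)) = v12823 :=
  Lgr Lrot0 (Lpr_at (f698403 IH) (Lpn v12823))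
theorem f698406 : Led Lsl_ft (LP (LK LD1_c4 LD2_c32 LD3_c18)) = v12823 :=
  Lgr Lrot2 (Lpr_gt (K55.f26969 IH) (Lpr_gt (K69.f175935 IH) (Lpr_af (f698404 IH) (Lpn v12823))))
theorem f698407 : Led Lsl_ff (LP (LK LD1_c4 LD2_c32 LD3_c18)) = v12823 :=
  Lgr Lrot3 (Lpr_ft (f698406 IH) (Lpn v12823))
theorem f698419 : Led Lsl_at (LP (LK LD1_c4 LD2_c32 LD3_c18)) = v12826 :=
  Lgr Lrot66 (Lpr_ff (f698407 IH) (Lpe (f698403 IH) (Lpr_ff (f698418 IH) (Lpn v12826))))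
theorem f824034 : (LP (LK LD1_c2 LD2_c47 LD3_c5)) = v12826 :=
  Lefun (Lecon (Lfl_af (K69.f638917 IH)) (K69.f824031 IH)) (f698419 IH)
theorem f638909 : Led Lsl_bt (LP (LK LD1_c2 LD2_c47 LD3_c5)) = (LP (LK LD1_c5 LD2_c42 LD3_c14)) :=
  Lre_b IH (LK LD1_c2 LD2_c47 LD3_c5) (LK LD1_c5 LD2_c42 LD3_c14) Lrfl Lrfl
theorem f638921 : Led Lsl_at (LP (LK LD1_c5 LD2_c42 LD3_c14)) = (LP (LK LD1_c11 LD2_c14 LD3_c42)) :=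
  Lre_a IH (LK LD1_c5 LD2_c42 LD3_c14) (LK LD1_c11 LD2_c14 LD3_c42) Lrfl Lrfl
theorem f897135 : Led Lsl_bt (LP (LK LD1_c11 LD2_c14 LD3_c42)) = (LP (LK LD1_c16 LD2_c52 LD3_c27)) :=
  Lgr Lrot62 (Lpe (f638921 IH) (Lpe (f638909 IH) (Lpqs (f824034 IH) (Lpe (f698419 IH) (Lpe (f412027 IH) (Lpr_af (f897131 IH) (Lpn (LP (LK LD1_c16 LD2_c52 LD3_c27)))))))))
theorem f824101 : Led Lsl_ct (LP (LK LD1_c11 LD2_c14 LD3_c42)) = (LP (LK LD1_c20 LD2_c9 LD3_c39)) :=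
  Lre_c IH (LK LD1_c11 LD2_c14 LD3_c42) (LK LD1_c20 LD2_c9 LD3_c39) Lrfl Lrfl
theorem f955573 : Led Lsl_cf (LP (LK LD1_c11 LD2_c12 LD3_c7)) = v46854 :=
  Lgr Lrot11 (Lpr_ct (f955571 IH) (Lpn v46854))
theorem f897205 : Led Lsl_ft (LP (LK LD1_c11 LD2_c12 LD3_c7)) = v37875 :=
  Lgr Lrot48 (Lpr_ff (f897203 IH) (Lpn v37875))
theorem f956705 : Led Lsl_ct v37875 = v47067 :=
  Lgr Lrot40 (Lpe (f897205 IH) (Lpr_cf (f955573 IH) (Lpr_ff (f956704 IH) (Lpn v47067))))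
theorem f956708 : Led Lsl_gt (LP (LK LD1_c20 LD2_c9 LD3_c39)) = (LP (LK LD1_c19 LD2_c59 LD3_c56)) :=
  Lgr Lrot65 (Lpe (f824101 IH) (Lpr_bt (f897135 IH) (Lpr_gf (f615842 IH) (Lpe (K51.f566487 IH) (Lpr_ct (f955581 IH) (Lpr_gf (f956707 IH) (Lpe (f956705 IH) (Lpqs (f956085 IH) (Lpe (f876016 IH) (Lpe (f589387 IH) (Lpe (f580148 IH) (Lpn (LP (LK LD1_c19 LD2_c59 LD3_c56))))))))))))))
theorem f956709 : Led Lsl_gt (LP (LK LD1_c20 LD2_c9 LD3_c39)) = (LP (LK LD1_c19 LD2_c59 LD3_c56)) :=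
  Leop (Lpe (f956708 IH) (Lpn (LP (LK LD1_c20 LD2_c9 LD3_c39))))
theorem seed_2785 : LEOK LG_g (LK LD1_c20 LD2_c9 LD3_c39) :=
  Leoe_g (LK LD1_c20 LD2_c9 LD3_c39) (f956709 IH)
def v40674 : LQ := Led Lsl_ft (LP (LK LD1_c9 LD2_c45 LD3_c21))
theorem f918408 : Led Lsl_ft (LP (LK LD1_c9 LD2_c45 LD3_c21)) = v40674 :=
  Lrfl
theorem f918411 : Led Lsl_ff (LP (LK LD1_c9 LD2_c45 LD3_c21)) = v40674 :=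
  Lgr Lrot3 (Lpr_ft (f918408 IH) (Lpn v40674))
theorem f381379 : Led Lsl_et (LP (LK LD1_c4 LD2_c57 LD3_c12)) = (LP (LK LD1_c2 LD2_c26 LD3_c31)) :=
  Lre_e IH (LK LD1_c4 LD2_c57 LD3_c12) (LK LD1_c2 LD2_c26 LD3_c31) Lrfl Lrfl
theorem f495876 : Led Lsl_et (LP (LK LD1_c4 LD2_c57 LD3_c8)) = (LP (LK LD1_c9 LD2_c45 LD3_c21)) :=
  Lre_e IH (LK LD1_c4 LD2_c57 LD3_c8) (LK LD1_c9 LD2_c45 LD3_c21) Lrfl Lrfl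
theorem f557357 : Led Lsl_df (LP (LK LD1_c4 LD2_c57 LD3_c12)) = (LP (LK LD1_c9 LD2_c45 LD3_c21)) :=
  Lgr Lrot70 (Lpr_et (f381379 IH) (Lpr_dt (K39.f381404 IH) (Lpr_et (K39.f495235 IH) (Lpqs (K40.f557348 IH) (Lpr_dt (K39.f172497 IH) (Lpr_et (f495876 IH) (Lpn (LP (LK LD1_c9 LD2_c45 LD3_c21)))))))))
def v14075 : LQ := Led Lsl_ft (LP (LK LD1_c4 LD2_c57 LD3_c12))
theorem f718879 : Led Lsl_ft (LP (LK LD1_c4 LD2_c57 LD3_c12)) = v14075 :=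
  Lrfl
theorem f918412 : Led Lsl_dt v14075 = v40674 :=
  Lgr Lrot60 (Lpe (f718879 IH) (Lpr_df (f557357 IH) (Lpr_ff (f918411 IH) (Lpn v40674))))
theorem f495242 : Led Lsl_et (LP (LK LD1_c2 LD2_c26 LD3_c31)) = (LP (LK LD1_c4 LD2_c57 LD3_c12)) :=
  Lre_e IH (LK LD1_c2 LD2_c26 LD3_c31) (LK LD1_c4 LD2_c57 LD3_c12) Lrfl Lrfl
theorem f505251 : Led Lsl_at (LP (LK LD1_c6 LD2_c30 LD3_c4)) = (LP (LK LD1_c12 LD2_c29 LD3_c44)) :=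
  Lre_a IH (LK LD1_c6 LD2_c30 LD3_c4) (LK LD1_c12 LD2_c29 LD3_c44) Lrfl Lrfl
theorem f644938 : Led Lsl_af (LP (LK LD1_c11 LD2_c27 LD3_c22)) = (LP (LK LD1_c17 LD2_c59 LD3_c51)) :=
  Lgr Lrot45 (Lpe (K41.f505134 IH) (Lpr_at (f505251 IH) (Lpr_ft (K52.f644936 IH) (Lpn (LP (LK LD1_c17 LD2_c59 LD3_c51))))))
theorem f644968 : Led Lsl_at (LP (LK LD1_c5 LD2_c48 LD3_c60)) = (LP (LK LD1_c9 LD2_c49 LD3_c22)) :=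
  Lgr Lrot51 (Lpe (K48.f186093 IH) (Lpr_af (f644938 IH) (Lpe (K52.f75483 IH) (Lpn (LP (LK LD1_c9 LD2_c49 LD3_c22))))))
theorem f563816 : Led Lsl_et (LP (LK LD1_c9 LD2_c45 LD3_c44)) = (LP (LK LD1_c4 LD2_c57 LD3_c25)) :=
  Lre_e IH (LK LD1_c9 LD2_c45 LD3_c44) (LK LD1_c4 LD2_c57 LD3_c25) Lrfl Lrfl
theorem f563817 : Led Lsl_dt (LP (LK LD1_c9 LD2_c45 LD3_c44)) = (LP (LK LD1_c4 LD2_c57 LD3_c23)) :=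
  Lre_d IH (LK LD1_c9 LD2_c45 LD3_c44) (LK LD1_c4 LD2_c57 LD3_c23) Lrfl Lrfl
theorem f563818 : Led Lsl_gt (LP (LK LD1_c9 LD2_c45 LD3_c43)) = (LP (LK LD1_c4 LD2_c57 LD3_c23)) :=
  Lre_g IH (LK LD1_c9 LD2_c45 LD3_c43) (LK LD1_c4 LD2_c57 LD3_c23) Lrfl Lrfl
theorem f563819 : Led Lsl_dt (LP (LK LD1_c17 LD2_c55 LD3_c27)) = (LP (LK LD1_c9 LD2_c45 LD3_c43)) :=
  Lre_d IH (LK LD1_c17 LD2_c55 LD3_c27) (LK LD1_c9 LD2_c45 LD3_c43) Lrfl Lrfl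
theorem f563820 : Led Lsl_ef (LP (LK LD1_c9 LD2_c49 LD3_c22)) = (LP (LK LD1_c17 LD2_c55 LD3_c27)) :=
  Lgr Lrot17 (Lpe (K52.f75482 IH) (Lpr_ef (K8.f75446 IH) (Lpr_dt (K38.f75484 IH) (Lpq (K38.f548772 IH) (Lpe (K38.f503210 IH) (Lpe (K37.f421031 IH) (Lpr_gf (K40.f563802 IH) (Lpe (f563816 IH) (Lpr_dt (f563817 IH) (Lpe (f563818 IH) (Lpe (f563819 IH) (Lpn (LP (LK LD1_c17 LD2_c55 LD3_c27))))))))))))))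
theorem f563827 : Led Lsl_et (LP (LK LD1_c9 LD2_c49 LD3_c22)) = (LP (LK LD1_c17 LD2_c55 LD3_c27)) :=
  Lgr Lrot87 (Lpr_ef (f563820 IH) (Lpn (LP (LK LD1_c17 LD2_c55 LD3_c27))))
theorem f644974 : Led Lsl_af (LP (LK LD1_c11 LD2_c12 LD3_c47)) = (LP (LK LD1_c17 LD2_c55 LD3_c27)) :=
  Lgr Lrot50 (Lpe (K52.f186079 IH) (Lpr_at (f644968 IH) (Lpr_et (f563827 IH) (Lpn (LP (LK LD1_c17 LD2_c55 LD3_c27))))))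
theorem f563826 : Led Lsl_dt (LP (LK LD1_c9 LD2_c45 LD3_c43)) = (LP (LK LD1_c17 LD2_c55 LD3_c27)) :=
  Lre_d IH (LK LD1_c9 LD2_c45 LD3_c43) (LK LD1_c17 LD2_c55 LD3_c27) Lrfl Lrfl
theorem f644980 : Led Lsl_at (LP (LK LD1_c5 LD2_c41 LD3_c9)) = (LP (LK LD1_c9 LD2_c45 LD3_c43)) :=
  Lgr Lrot51 (Lpe (K52.f186086 IH) (Lpr_af (f644974 IH) (Lpe (f563826 IH) (Lpn (LP (LK LD1_c9 LD2_c45 LD3_c43))))))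
theorem f505621 : Led Lsl_bt (LP (LK LD1_c4 LD2_c32 LD3_c3)) = (LP (LK LD1_c9 LD2_c1 LD3_c52)) :=
  Lre_b IH (LK LD1_c4 LD2_c32 LD3_c3) (LK LD1_c9 LD2_c1 LD3_c52) Lrfl Lrfl
theorem f505622 : Led Lsl_ff (LP (LK LD1_c5 LD2_c41 LD3_c9)) = (LP (LK LD1_c9 LD2_c1 LD3_c52)) :=
  Lgr Lrot25 (Lpr_bt (f225800 IH) (Lpr_ft (K55.f505619 IH) (Lpr_bt (f505621 IH) (Lpn (LP (LK LD1_c9 LD2_c1 LD3_c52))))))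
theorem f505648 : Led Lsl_gt (LP (LK LD1_c9 LD2_c1 LD3_c52)) = (LP (LK LD1_c16 LD2_c51 LD3_c50)) :=
  Lre_g IH (LK LD1_c9 LD2_c1 LD3_c52) (LK LD1_c16 LD2_c51 LD3_c50) Lrfl Lrfl
theorem f644986 : Led Lsl_gt (LP (LK LD1_c16 LD2_c51 LD3_c50)) = (LP (LK LD1_c9 LD2_c45 LD3_c43)) :=
  Lgr Lrot46 (Lpe (f505648 IH) (Lpe (f505622 IH) (Lpr_at (f644980 IH) (Lpn (LP (LK LD1_c9 LD2_c45 LD3_c43))))))
theorem f644988 : Led Lsl_ft (LP (LK LD1_c16 LD2_c51 LD3_c50)) = (LP (LK LD1_c9 LD2_c45 LD3_c30)) :=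
  Lgr Lrot2 (Lpr_gt (f644986 IH) (Lpr_gt (f563818 IH) (Lpe (K44.f582455 IH) (Lpn (LP (LK LD1_c9 LD2_c45 LD3_c30))))))
theorem f718880 : Led Lsl_ef (LP (LK LD1_c16 LD2_c51 LD3_c50)) = v14075 :=
  Lgr Lrot21 (Lpr_ft (f644988 IH) (Lpr_et (K44.f582460 IH) (Lpr_ft (K44.f558321 IH) (Lpr_et (f495242 IH) (Lpr_ft (f718879 IH) (Lpn v14075))))))
def v40694 : LQ := Led Lsl_et (LP (LK LD1_c9 LD2_c45 LD3_c43))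
theorem f918552 : Led Lsl_et (LP (LK LD1_c9 LD2_c45 LD3_c43)) = v40694 :=
  Lrfl
theorem f918555 : Led Lsl_ef (LP (LK LD1_c9 LD2_c45 LD3_c43)) = v40694 :=
  Lgr Lrot88 (Lpr_et (f918552 IH) (Lpn v40694))
theorem f644934 : Led Lsl_et (LP (LK LD1_c17 LD2_c56 LD3_c4)) = (LP (LK LD1_c17 LD2_c59 LD3_c51)) :=
  Lgr Lrot87 (Lpr_ef (K52.f644927 IH) (Lpn (LP (LK LD1_c17 LD2_c59 LD3_c51))))
theorem f918554 : Led Lsl_df (LP (LK LD1_c17 LD2_c56 LD3_c4)) = v40694 :=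
  Lgr Lrot70 (Lpr_et (f644934 IH) (Lpr_dt (K52.f563833 IH) (Lpr_et (f563827 IH) (Lpr_dt (f563819 IH) (Lpr_et (f918552 IH) (Lpn v40694))))))
theorem f75471 : Led Lsl_et (LP (LK LD1_c4 LD2_c57 LD3_c40)) = (LP (LK LD1_c9 LD2_c46 LD3_c16)) :=
  Lre_e IH (LK LD1_c4 LD2_c57 LD3_c40) (LK LD1_c9 LD2_c46 LD3_c16) Lrfl Lrfl
theorem f644929 : Led Lsl_gt (LP (LK LD1_c9 LD2_c46 LD3_c16)) = (LP (LK LD1_c17 LD2_c56 LD3_c15)) :=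
  Lre_g IH (LK LD1_c9 LD2_c46 LD3_c16) (LK LD1_c17 LD2_c56 LD3_c15) Lrfl Lrfl
def v15567 : LQ := Led Lsl_ft (LP (LK LD1_c5 LD2_c42 LD3_c14))
theorem f738070 : Led Lsl_ft (LP (LK LD1_c5 LD2_c42 LD3_c14)) = v15567 :=
  Lrfl
theorem f738072 : Led Lsl_ff (LP (LK LD1_c5 LD2_c42 LD3_c14)) = v15567 :=
  Lgr Lrot3 (Lpr_ft (f738070 IH) (Lpn v15567))
theorem f174306 : Led Lsl_bt (LP (LK LD1_c5 LD2_c42 LD3_c14)) = (LP (LK LD1_c2 LD2_c47 LD3_c5)) :=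
  Lre_b IH (LK LD1_c5 LD2_c42 LD3_c14) (LK LD1_c2 LD2_c47 LD3_c5) Lrfl Lrfl
theorem f738073 : Led Lsl_bt K64.v4770 = v15567 :=
  Lgr Lrot35 (Lpe (K64.f638907 IH) (Lpe (f174306 IH) (Lpr_ff (f738072 IH) (Lpn v15567))))
theorem f698405 : Led Lsl_bt (LP (LK LD1_c4 LD2_c32 LD3_c17)) = (LP (LK LD1_c9 LD2_c2 LD3_c14)) :=
  Lre_b IH (LK LD1_c4 LD2_c32 LD3_c17) (LK LD1_c9 LD2_c2 LD3_c14) Lrfl Lrfl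
theorem f824058 : v15567 = (LP (LK LD1_c9 LD2_c2 LD3_c14)) :=
  Lefun (Lecon (f738073 IH) (K69.f824053 IH)) (f698405 IH)
theorem f638923 : Led Lsl_ct (LP (LK LD1_c11 LD2_c14 LD3_c43)) = (LP (LK LD1_c5 LD2_c42 LD3_c14)) :=
  Lre_c IH (LK LD1_c11 LD2_c14 LD3_c43) (LK LD1_c5 LD2_c42 LD3_c14) Lrfl Lrfl
theorem f824092 : Led Lsl_ff (LP (LK LD1_c11 LD2_c14 LD3_c43)) = (LP (LK LD1_c16 LD2_c52 LD3_c30)) :=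
  Lgr Lrot23 (Lpr_ct (f638923 IH) (Lpr_ft (f738070 IH) (Lpqs (f824058 IH) (Lpr_ct (f281860 IH) (Lpn (LP (LK LD1_c16 LD2_c52 LD3_c30)))))))
theorem f824094 : Led Lsl_at (LP (LK LD1_c11 LD2_c14 LD3_c43)) = (LP (LK LD1_c20 LD2_c9 LD3_c39)) :=
  Lre_a IH (LK LD1_c11 LD2_c14 LD3_c43) (LK LD1_c20 LD2_c9 LD3_c39) Lrfl Lrfl
theorem f824098 : Led Lsl_gt (LP (LK LD1_c16 LD2_c52 LD3_c30)) = (LP (LK LD1_c26 LD2_c49 LD3_c31)) :=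
  Lre_g IH (LK LD1_c16 LD2_c52 LD3_c30) (LK LD1_c26 LD2_c49 LD3_c31) Lrfl Lrfl
theorem f824099 : Led Lsl_gf (LP (LK LD1_c20 LD2_c9 LD3_c39)) = (LP (LK LD1_c26 LD2_c49 LD3_c31)) :=
  Lgr Lrot76 (Lpe (f824094 IH) (Lpr_ff (f824092 IH) (Lpr_gt (f824098 IH) (Lpn (LP (LK LD1_c26 LD2_c49 LD3_c31))))))
theorem f580150 : Led Lsl_ct (LP (LK LD1_c19 LD2_c59 LD3_c56)) = (LP (LK LD1_c11 LD2_c24 LD3_c35)) :=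
  Lgr Lrot59 (Lpr_cf (f580148 IH) (Lpn (LP (LK LD1_c11 LD2_c24 LD3_c35))))
theorem f580146 : Led Lsl_ct (LP (LK LD1_c9 LD2_c45 LD3_c21)) = (LP (LK LD1_c17 LD2_c54 LD3_c60)) :=
  Lre_c IH (LK LD1_c9 LD2_c45 LD3_c21) (LK LD1_c17 LD2_c54 LD3_c60) Lrfl Lrfl
theorem f580152 : Led Lsl_af (LP (LK LD1_c19 LD2_c59 LD3_c56)) = (LP (LK LD1_c17 LD2_c54 LD3_c60)) :=
  Lgr Lrot68 (Lpr_ct (f580150 IH) (Lpe (f580142 IH) (Lpr_ct (f580146 IH) (Lpn (LP (LK LD1_c17 LD2_c54 LD3_c60))))))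
theorem f956710 : Led Lsl_ft (LP (LK LD1_c26 LD2_c49 LD3_c31)) = (LP (LK LD1_c17 LD2_c54 LD3_c60)) :=
  Lgr Lrot2 (Lpe (f824099 IH) (Lpr_gt (f956708 IH) (Lpr_af (f580152 IH) (Lpn (LP (LK LD1_c17 LD2_c54 LD3_c60))))))
def v46864 : LQ := Led Lsl_gt (LP (LK LD1_c11 LD2_c12 LD3_c12))
theorem f955615 : Led Lsl_gt (LP (LK LD1_c11 LD2_c12 LD3_c12)) = v46864 :=
  Lrfl
theorem f613580 : Led Lsl_bt (LP (LK LD1_c5 LD2_c40 LD3_c50)) = (LP (LK LD1_c11 LD2_c12 LD3_c12)) :=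
  Lre_b IH (LK LD1_c5 LD2_c40 LD3_c50) (LK LD1_c11 LD2_c12 LD3_c12) Lrfl Lrfl
theorem f897172 : Led Lsl_ft (LP (LK LD1_c11 LD2_c12 LD3_c16)) = K69.v37870 :=
  Lgr Lrot48 (Lpr_ff (K69.f897171 IH) (Lpn K69.v37870))
theorem f897169 : Led Lsl_af (LP (LK LD1_c11 LD2_c12 LD3_c13)) = K69.v37870 :=
  Lgr Lrot68 (Lpr_ct (K69.f613577 IH) (Lpr_at (K69.f737786 IH) (Lpqs (K69.f896730 IH) (Lpr_ct (K69.f897168 IH) (Lpn K69.v37870)))))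
theorem f897173 : Led Lsl_gt K69.v12828 = (LP (LK LD1_c11 LD2_c12 LD3_c13)) :=
  Lgr Lrot46 (Lpe (K69.f897112 IH) (Lpr_ft (f897172 IH) (Lpe (f897169 IH) (Lpn (LP (LK LD1_c11 LD2_c12 LD3_c13))))))
theorem f955616 : Led Lsl_cf (LP (LK LD1_c26 LD2_c49 LD3_c31)) = v46864 :=
  Lgr Lrot125 (Lpe (f824099 IH) (Lpe (f824101 IH) (Lpr_bt (f897135 IH) (Lpr_gt (K69.f542288 IH) (Lpe (K69.f281889 IH) (Lpr_ct (K69.f698423 IH) (Lpr_gt (f897173 IH) (Lpe (K69.f613350 IH) (Lpr_bt (f613580 IH) (Lpr_gt (f955615 IH) (Lpn v46864)))))))))))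
theorem f956716 : v46864 = v40674 :=
  (Llr Lrot108 (Lpe (f955616 IH) (Lpr_ft (f956710 IH) (Lpr_ct (f580147 IH) (Lpr_ft (f918408 IH) (Lpn v40674)))))).symm
def v40781 : LQ := Led Lsl_bt (LP (LK LD1_c9 LD2_c46 LD3_c44))
theorem f919874 : Led Lsl_bt (LP (LK LD1_c9 LD2_c46 LD3_c44)) = v40781 :=
  Lrfl
theorem f613349 : Led Lsl_bt (LP (LK LD1_c11 LD2_c12 LD3_c12)) = (LP (LK LD1_c5 LD2_c40 LD3_c50)) :=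
  Lre_b IH (LK LD1_c11 LD2_c12 LD3_c12) (LK LD1_c5 LD2_c40 LD3_c50) Lrfl Lrfl
theorem f919876 : Led Lsl_df (LP (LK LD1_c11 LD2_c12 LD3_c12)) = v40781 :=
  Lgr Lrot12 (Lpr_bt (f613349 IH) (Lpe (K69.f613581 IH) (Lpr_bt (f919874 IH) (Lpn v40781))))
theorem f956719 : (LP (LK LD1_c17 LD2_c56 LD3_c15)) = v40781 :=
  (Llr Lrot137 (Lpe (f644929 IH) (Lpe (f75471 IH) (Lpr_dt (K71.f40255 IH) (Lpe (K52.f644920 IH) (Lpr_df (f918554 IH) (Lpe (f918555 IH) (Lpe (f644986 IH) (Lpr_ef (f718880 IH) (Lpr_dt (f918412 IH) (Lpq (f956716 IH) (Lpe (f955615 IH) (Lpr_df (f919876 IH) (Lpn v40781)))))))))))))).symm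
theorem f919875 : Led Lsl_bf (LP (LK LD1_c9 LD2_c46 LD3_c44)) = v40781 :=
  Lgr Lrot24 (Lpr_bt (f919874 IH) (Lpn v40781))
theorem f956720 : Led Lsl_bt (LP (LK LD1_c17 LD2_c56 LD3_c15)) = (LP (LK LD1_c9 LD2_c46 LD3_c44)) :=
  Leop (Lpr_bf (f919875 IH) (Lpq (f956719 IH) (Lpn (LP (LK LD1_c17 LD2_c56 LD3_c15)))))
theorem seed_2786 : LEOK LG_b (LK LD1_c17 LD2_c56 LD3_c15) :=
  Leoe_b (LK LD1_c17 LD2_c56 LD3_c15) (f956720 IH)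
def v47080 : LQ := Led Lsl_ct (LP (LK LD1_c11 LD2_c14 LD3_c22))
theorem f956779 : Led Lsl_ct (LP (LK LD1_c11 LD2_c14 LD3_c22)) = v47080 :=
  Lrfl
def v46741 : LQ := Led Lsl_gf (LP (LK LD1_c11 LD2_c11 LD3_c5))
theorem f954991 : Led Lsl_gf (LP (LK LD1_c11 LD2_c11 LD3_c5)) = v46741 :=
  Lrfl
theorem f380568 : Led Lsl_ct (LP (LK LD1_c16 LD2_c51 LD3_c35)) = (LP (LK LD1_c9 LD2_c1 LD3_c42)) :=
  Lre_c IH (LK LD1_c16 LD2_c51 LD3_c35) (LK LD1_c9 LD2_c1 LD3_c42) Lrfl Lrfl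
theorem f380037 : Led Lsl_bt (LP (LK LD1_c26 LD2_c48 LD3_c50)) = (LP (LK LD1_c16 LD2_c51 LD3_c35)) :=
  Lre_b IH (LK LD1_c26 LD2_c48 LD3_c50) (LK LD1_c16 LD2_c51 LD3_c35) Lrfl Lrfl
theorem f380470 : Led Lsl_et (LP (LK LD1_c16 LD2_c51 LD3_c34)) = (LP (LK LD1_c26 LD2_c48 LD3_c50)) :=
  Lre_e IH (LK LD1_c16 LD2_c51 LD3_c34) (LK LD1_c26 LD2_c48 LD3_c50) Lrfl Lrfl
theorem f354484 : Led Lsl_et (LP (LK LD1_c19 LD2_c52 LD3_c56)) = (LP (LK LD1_c11 LD2_c1 LD3_c37)) :=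
  Lre_e IH (LK LD1_c19 LD2_c52 LD3_c56) (LK LD1_c11 LD2_c1 LD3_c37) Lrfl Lrfl
theorem f380563 : Led Lsl_ct (LP (LK LD1_c26 LD2_c48 LD3_c50)) = (LP (LK LD1_c19 LD2_c52 LD3_c56)) :=
  Lgr Lrot15 (Lpe (f380470 IH) (Lpr_cf (K50.f380559 IH) (Lpe (f354484 IH) (Lpn (LP (LK LD1_c19 LD2_c52 LD3_c56))))))
theorem f380566 : Led Lsl_cf (LP (LK LD1_c26 LD2_c48 LD3_c50)) = (LP (LK LD1_c19 LD2_c52 LD3_c56)) :=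
  Lgr Lrot11 (Lpr_ct (f380563 IH) (Lpn (LP (LK LD1_c19 LD2_c52 LD3_c56))))
theorem f354477 : Led Lsl_et (LP (LK LD1_c11 LD2_c1 LD3_c37)) = (LP (LK LD1_c19 LD2_c52 LD3_c56)) :=
  Lre_e IH (LK LD1_c11 LD2_c1 LD3_c37) (LK LD1_c19 LD2_c52 LD3_c56) Lrfl Lrfl
theorem f354478 : Led Lsl_et (LP (LK LD1_c11 LD2_c11 LD3_c5)) = (LP (LK LD1_c5 LD2_c40 LD3_c9)) :=
  Lre_e IH (LK LD1_c11 LD2_c11 LD3_c5) (LK LD1_c5 LD2_c40 LD3_c9) Lrfl Lrfl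
theorem f354479 : Led Lsl_bt (LP (LK LD1_c19 LD2_c52 LD3_c56)) = (LP (LK LD1_c11 LD2_c11 LD3_c5)) :=
  Lgr Lrot119 (Lpe (f354477 IH) (Lpr_bf (K68.f354471 IH) (Lpe (f354478 IH) (Lpn (LP (LK LD1_c11 LD2_c11 LD3_c5))))))
theorem f354482 : Led Lsl_bf (LP (LK LD1_c19 LD2_c52 LD3_c56)) = (LP (LK LD1_c11 LD2_c11 LD3_c5)) :=
  Lgr Lrot24 (Lpr_bt (f354479 IH) (Lpn (LP (LK LD1_c11 LD2_c11 LD3_c5))))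
theorem f613287 : Led Lsl_cf (LP (LK LD1_c11 LD2_c11 LD3_c5)) = (LP (LK LD1_c5 LD2_c40 LD3_c59)) :=
  Lgr Lrot97 (Lpe (f354482 IH) (Lpe (f380566 IH) (Lpr_bt (f380037 IH) (Lpr_ct (f380568 IH) (Lpr_bt (K50.f613280 IH) (Lpn (LP (LK LD1_c5 LD2_c40 LD3_c59))))))))
theorem f613586 : Led Lsl_ct (LP (LK LD1_c11 LD2_c11 LD3_c5)) = (LP (LK LD1_c5 LD2_c40 LD3_c59)) :=
  Lgr Lrot59 (Lpr_cf (f613287 IH) (Lpn (LP (LK LD1_c5 LD2_c40 LD3_c59))))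
theorem f13307 : Led Lsl_ct (LP (LK LD1_c3 LD2_c41 LD3_c30)) = (LP (LK LD1_c1 LD2_c47 LD3_c41)) :=
  Lre_c IH (LK LD1_c3 LD2_c41 LD3_c30) (LK LD1_c1 LD2_c47 LD3_c41) Lrfl Lrfl
theorem f206304 : Led Lsl_cf (LP (LK LD1_c3 LD2_c43 LD3_c27)) = (LP (LK LD1_c3 LD2_c40 LD3_c39)) :=
  Lgr Lrot1 (Lpr_at (K55.f206300 IH) (Lpr_ct (f13307 IH) (Lpr_at (K55.f12932 IH) (Lpn (LP (LK LD1_c3 LD2_c40 LD3_c39))))))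
theorem f664013 : Led Lsl_cf (LP (LK LD1_c5 LD2_c49 LD3_c7)) = v7266 :=
  Lgr Lrot97 (Lpe (K50.f613278 IH) (Lpr_ct (K55.f613751 IH) (Lpr_bt (K55.f13184 IH) (Lpe (f206304 IH) (Lpr_bt (f664011 IH) (Lpn v7266))))))
def v27164 : LQ := Led Lsl_gf v7266
theorem f838074 : Led Lsl_gf v7266 = v27164 :=
  Lrfl
def v16528 : LQ := Led Lsl_et (LP (LK LD1_c6 LD2_c2 LD3_c5))
theorem f750212 : Led Lsl_et (LP (LK LD1_c6 LD2_c2 LD3_c5)) = v16528 :=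
  Lrfl
theorem f903192 : Led Lsl_at v16528 = v27163 :=
  Lgr Lrot80 (Lpe (f750212 IH) (Lpr_af (K69.f508023 IH) (Lpr_ef (f903191 IH) (Lpn v27163))))
theorem f903194 : Led Lsl_ff v16528 = v27164 :=
  Lgr Lrot52 (Lpr_at (f903192 IH) (Lpe (f838073 IH) (Lpr_gf (f838074 IH) (Lpn v27164))))
theorem f210116 : Led Lsl_ct (LP (LK LD1_c2 LD2_c57 LD3_c8)) = (LP (LK LD1_c6 LD2_c2 LD3_c5)) :=
  Lre_c IH (LK LD1_c2 LD2_c57 LD3_c8) (LK LD1_c6 LD2_c2 LD3_c5) Lrfl Lrfl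
theorem f750213 : Led Lsl_cf (LP (LK LD1_c6 LD2_c2 LD3_c6)) = v16528 :=
  Lgr Lrot39 (Lpr_et (K32.f444242 IH) (Lpr_ct (f210116 IH) (Lpr_et (f750212 IH) (Lpn v16528))))
def v15908 : LQ := Led Lsl_gf (LP (LK LD1_c5 LD2_c49 LD3_c45))
theorem f744151 : Led Lsl_gf (LP (LK LD1_c5 LD2_c49 LD3_c45)) = v15908 :=
  Lrfl
theorem f508027 : Led Lsl_at (LP (LK LD1_c6 LD2_c2 LD3_c6)) = (LP (LK LD1_c9 LD2_c13 LD3_c11)) :=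
  Lgr Lrot100 (Lpr_af (K32.f508025 IH) (Lpn (LP (LK LD1_c9 LD2_c13 LD3_c11))))
theorem f744153 : Led Lsl_ff (LP (LK LD1_c6 LD2_c2 LD3_c6)) = v15908 :=
  Lgr Lrot52 (Lpr_at (f508027 IH) (Lpe (K24.f396346 IH) (Lpr_gf (f744151 IH) (Lpn v15908))))
theorem f744155 : Led Lsl_ft (LP (LK LD1_c6 LD2_c2 LD3_c6)) = v15908 :=
  Lgr Lrot48 (Lpr_ff (f744153 IH) (Lpn v15908))
theorem f903195 : Led Lsl_ct v15908 = v27164 :=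
  Lgr Lrot40 (Lpe (f744155 IH) (Lpr_cf (f750213 IH) (Lpr_ff (f903194 IH) (Lpn v27164))))
theorem f396277 : Led Lsl_af (LP (LK LD1_c5 LD2_c49 LD3_c45)) = (LP (LK LD1_c5 LD2_c43 LD3_c9)) :=
  Lgr Lrot0 (Lpr_at (K24.f396275 IH) (Lpn (LP (LK LD1_c5 LD2_c43 LD3_c9))))
theorem f744152 : Led Lsl_gt (LP (LK LD1_c11 LD2_c16 LD3_c29)) = v15908 :=
  Lgr Lrot5 (Lpr_ft (K16.f281876 IH) (Lpe (f396277 IH) (Lpr_gf (f744151 IH) (Lpn v15908))))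
theorem f281874 : Led Lsl_df (LP (LK LD1_c11 LD2_c24 LD3_c3)) = (LP (LK LD1_c11 LD2_c16 LD3_c29)) :=
  Lgr Lrot38 (Lpr_dt (K16.f281871 IH) (Lpn (LP (LK LD1_c11 LD2_c16 LD3_c29))))
theorem f68750 : Led Lsl_gf (LP (LK LD1_c11 LD2_c15 LD3_c4)) = (LP (LK LD1_c11 LD2_c24 LD3_c3)) :=
  Lgr Lrot47 (Lpr_gt (K69.f68749 IH) (Lpr_af (K16.f68735 IH) (Lpe (K16.f68746 IH) (Lpn (LP (LK LD1_c11 LD2_c24 LD3_c3))))))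
theorem f954993 : Led Lsl_ct (LP (LK LD1_c11 LD2_c15 LD3_c4)) = v46741 :=
  Lgr Lrot152 (Lpr_gf (f68750 IH) (Lpr_df (f281874 IH) (Lpr_gt (f744152 IH) (Lpr_ct (f903195 IH) (Lpe (f838074 IH) (Lpe (f664013 IH) (Lpe (K24.f380096 IH) (Lpe (f613586 IH) (Lpr_gf (f954991 IH) (Lpn v46741))))))))))
theorem f542593 : Led Lsl_gt (LP (LK LD1_c20 LD2_c12 LD3_c47)) = (LP (LK LD1_c11 LD2_c17 LD3_c33)) :=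
  Lre_g IH (LK LD1_c20 LD2_c12 LD3_c47) (LK LD1_c11 LD2_c17 LD3_c33) Lrfl Lrfl
theorem f644607 : Led Lsl_ft (LP (LK LD1_c5 LD2_c43 LD3_c36)) = (LP (LK LD1_c11 LD2_c16 LD3_c22)) :=
  Lgr Lrot48 (Lpr_ff (K54.f644596 IH) (Lpn (LP (LK LD1_c11 LD2_c16 LD3_c22))))
theorem f381858 : Led Lsl_at (LP (LK LD1_c5 LD2_c43 LD3_c42)) = (LP (LK LD1_c11 LD2_c17 LD3_c18)) :=
  Lre_a IH (LK LD1_c5 LD2_c43 LD3_c42) (LK LD1_c11 LD2_c17 LD3_c18) Lrfl Lrfl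
theorem f381859 : Led Lsl_bt (LP (LK LD1_c2 LD2_c47 LD3_c57)) = (LP (LK LD1_c5 LD2_c43 LD3_c42)) :=
  Lre_b IH (LK LD1_c2 LD2_c47 LD3_c57) (LK LD1_c5 LD2_c43 LD3_c42) Lrfl Lrfl
theorem f381861 : Led Lsl_at (LP (LK LD1_c11 LD2_c16 LD3_c54)) = (LP (LK LD1_c5 LD2_c43 LD3_c46)) :=
  Lre_a IH (LK LD1_c11 LD2_c16 LD3_c54) (LK LD1_c5 LD2_c43 LD3_c46) Lrfl Lrfl
theorem f381862 : Led Lsl_bf (LP (LK LD1_c5 LD2_c43 LD3_c36)) = (LP (LK LD1_c5 LD2_c43 LD3_c46)) :=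
  Lgr Lrot81 (Lpr_at (K54.f381860 IH) (Lpr_bt (f381859 IH) (Lpr_at (f381858 IH) (Lpr_bt (K36.f381856 IH) (Lpr_at (f381861 IH) (Lpn (LP (LK LD1_c5 LD2_c43 LD3_c46))))))))
theorem f381945 : Led Lsl_ft (LP (LK LD1_c11 LD2_c17 LD3_c33)) = (LP (LK LD1_c5 LD2_c43 LD3_c46)) :=
  Lre_f IH (LK LD1_c11 LD2_c17 LD3_c33) (LK LD1_c5 LD2_c43 LD3_c46) Lrfl Lrfl
theorem f644611 : Led Lsl_bf (LP (LK LD1_c11 LD2_c17 LD3_c33)) = (LP (LK LD1_c11 LD2_c16 LD3_c22)) :=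
  Lgr Lrot61 (Lpr_ft (f381945 IH) (Lpe (f381862 IH) (Lpr_ft (f644607 IH) (Lpn (LP (LK LD1_c11 LD2_c16 LD3_c22))))))
theorem f638928 : Led Lsl_ct (LP (LK LD1_c11 LD2_c16 LD3_c22)) = (LP (LK LD1_c20 LD2_c12 LD3_c22)) :=
  Lre_c IH (LK LD1_c11 LD2_c16 LD3_c22) (LK LD1_c20 LD2_c12 LD3_c22) Lrfl Lrfl
theorem f381896 : Led Lsl_ct (LP (LK LD1_c11 LD2_c17 LD3_c13)) = (LP (LK LD1_c5 LD2_c43 LD3_c36)) :=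
  Lre_c IH (LK LD1_c11 LD2_c17 LD3_c13) (LK LD1_c5 LD2_c43 LD3_c36) Lrfl Lrfl
theorem f644613 : Led Lsl_ff (LP (LK LD1_c11 LD2_c17 LD3_c13)) = (LP (LK LD1_c20 LD2_c12 LD3_c22)) :=
  Lgr Lrot23 (Lpr_ct (f381896 IH) (Lpr_ft (f644607 IH) (Lpr_ct (f638928 IH) (Lpn (LP (LK LD1_c20 LD2_c12 LD3_c22))))))
theorem f382447 : Led Lsl_at (LP (LK LD1_c11 LD2_c17 LD3_c13)) = (LP (LK LD1_c5 LD2_c43 LD3_c50)) :=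
  Lre_a IH (LK LD1_c11 LD2_c17 LD3_c13) (LK LD1_c5 LD2_c43 LD3_c50) Lrfl Lrfl
theorem f381544 : Led Lsl_gt (LP (LK LD1_c11 LD2_c17 LD3_c41)) = (LP (LK LD1_c5 LD2_c43 LD3_c50)) :=
  Lre_g IH (LK LD1_c11 LD2_c17 LD3_c41) (LK LD1_c5 LD2_c43 LD3_c50) Lrfl Lrfl
theorem f644629 : Led Lsl_gf (LP (LK LD1_c11 LD2_c17 LD3_c41)) = (LP (LK LD1_c20 LD2_c12 LD3_c22)) :=
  Lgr Lrot47 (Lpr_gt (f381544 IH) (Lpe (f382447 IH) (Lpr_ff (f644613 IH) (Lpn (LP (LK LD1_c20 LD2_c12 LD3_c22))))))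
theorem f225730 : Led Lsl_bt (LP (LK LD1_c1 LD2_c19 LD3_c43)) = (LP (LK LD1_c2 LD2_c46 LD3_c34)) :=
  Lre_b IH (LK LD1_c1 LD2_c19 LD3_c43) (LK LD1_c2 LD2_c46 LD3_c34) Lrfl Lrfl
theorem f225803 : Led Lsl_bt (LP (LK LD1_c11 LD2_c12 LD3_c41)) = (LP (LK LD1_c5 LD2_c41 LD3_c4)) :=
  Lre_b IH (LK LD1_c11 LD2_c12 LD3_c41) (LK LD1_c5 LD2_c41 LD3_c4) Lrfl Lrfl
theorem f714341 : Led Lsl_cf (LP (LK LD1_c11 LD2_c17 LD3_c41)) = (LP (LK LD1_c11 LD2_c12 LD3_c41)) :=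
  Lgr Lrot163 (Lpr_gf (f644629 IH) (Lpe (f638928 IH) (Lpe (K54.f507705 IH) (Lpe (K54.f507669 IH) (Lpr_ct (K52.f638926 IH) (Lpqs (K52.f714311 IH) (Lpe (K52.f225740 IH) (Lpr_cf (f225734 IH) (Lpr_bt (f225730 IH) (Lpe (K55.f225802 IH) (Lpe (f225803 IH) (Lpn (LP (LK LD1_c11 LD2_c12 LD3_c41))))))))))))))
theorem f225731 : Led Lsl_ct (LP (LK LD1_c2 LD2_c46 LD3_c34)) = (LP (LK LD1_c5 LD2_c41 LD3_c2)) :=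
  Lre_c IH (LK LD1_c2 LD2_c46 LD3_c34) (LK LD1_c5 LD2_c41 LD3_c2) Lrfl Lrfl
theorem f225791 : Led Lsl_gt (LP (LK LD1_c5 LD2_c41 LD3_c2)) = (LP (LK LD1_c11 LD2_c12 LD3_c37)) :=
  Lre_g IH (LK LD1_c5 LD2_c41 LD3_c2) (LK LD1_c11 LD2_c12 LD3_c37) Lrfl Lrfl
theorem f747750 : Led Lsl_cf (LP (LK LD1_c11 LD2_c12 LD3_c37)) = (LP (LK LD1_c11 LD2_c24 LD3_c1)) :=
  Lgr Lrot163 (Lpe (f225791 IH) (Lpe (f225731 IH) (Lpe (K55.f225802 IH) (Lpe (f225803 IH) (Lpe (f714341 IH) (Lpr_gf (f644629 IH) (Lpe (f638928 IH) (Lpe (f644611 IH) (Lpe (f542593 IH) (Lpr_bf (K69.f747748 IH) (Lpn (LP (LK LD1_c11 LD2_c24 LD3_c1)))))))))))))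
theorem f747752 : Led Lsl_ct (LP (LK LD1_c11 LD2_c12 LD3_c37)) = (LP (LK LD1_c11 LD2_c24 LD3_c1)) :=
  Lgr Lrot59 (Lpr_cf (f747750 IH) (Lpn (LP (LK LD1_c11 LD2_c24 LD3_c1))))
theorem f954996 : Led Lsl_ff (LP (LK LD1_c11 LD2_c12 LD3_c37)) = v46741 :=
  Lgr Lrot23 (Lpr_ct (f747752 IH) (Lpe (K69.f747769 IH) (Lpr_ct (f954993 IH) (Lpn v46741))))
def v46740 : LQ := Led Lsl_gt (LP (LK LD1_c11 LD2_c11 LD3_c5))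
theorem f954990 : Led Lsl_gt (LP (LK LD1_c11 LD2_c11 LD3_c5)) = v46740 :=
  Lrfl
theorem f954998 : Led Lsl_at (LP (LK LD1_c11 LD2_c12 LD3_c37)) = v46740 :=
  Lgr Lrot26 (Lpr_ff (f954996 IH) (Lpe (f954991 IH) (Lpr_gt (f954990 IH) (Lpn v46740))))
theorem f955000 : Led Lsl_cf (LP (LK LD1_c11 LD2_c15 LD3_c3)) = v46740 :=
  Lgr Lrot1 (Lpr_at (K69.f747763 IH) (Lpe (f747750 IH) (Lpr_at (f954998 IH) (Lpn v46740))))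
theorem f955001 : Led Lsl_ct (LP (LK LD1_c11 LD2_c15 LD3_c3)) = v46740 :=
  Lgr Lrot59 (Lpr_cf (f955000 IH) (Lpn v46740))
theorem f902156 : Led Lsl_bt (LP (LK LD1_c11 LD2_c24 LD3_c2)) = (LP (LK LD1_c11 LD2_c15 LD3_c24)) :=
  Lgr Lrot127 (Lpr_bf (K69.f902152 IH) (Lpn (LP (LK LD1_c11 LD2_c15 LD3_c24))))
def v12725 : LQ := Led Lsl_ft (LP (LK LD1_c4 LD2_c29 LD3_c38))
theorem f697844 : Led Lsl_ft (LP (LK LD1_c4 LD2_c29 LD3_c38)) = v12725 :=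
  Lrfl
def v12722 : LQ := Led Lsl_gt (LP (LK LD1_c4 LD2_c29 LD3_c38))
theorem f697835 : Led Lsl_gt (LP (LK LD1_c4 LD2_c29 LD3_c38)) = v12722 :=
  Lrfl
theorem f697845 : Led Lsl_af (LP (LK LD1_c5 LD2_c31 LD3_c54)) = v12725 :=
  Lgr Lrot45 (Lpr_ft (K20.f280934 IH) (Lpr_at (K51.f280951 IH) (Lpr_ft (f697844 IH) (Lpn v12725))))
theorem f697849 : Led Lsl_gt v12722 = (LP (LK LD1_c5 LD2_c31 LD3_c54)) :=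
  Lgr Lrot46 (Lpe (f697835 IH) (Lpr_ft (f697844 IH) (Lpe (f697845 IH) (Lpn (LP (LK LD1_c5 LD2_c31 LD3_c54))))))
def v15526 : LQ := Led Lsl_gf (LP (LK LD1_c5 LD2_c41 LD3_c8))
theorem f737866 : Led Lsl_gf (LP (LK LD1_c5 LD2_c41 LD3_c8)) = v15526 :=
  Lrfl
theorem f698370 : Led Lsl_af (LP (LK LD1_c5 LD2_c41 LD3_c8)) = K55.v12818 :=
  Lgr Lrot68 (Lpr_ct (K55.f225755 IH) (Lpr_at (K65.f505626 IH) (Lpr_ct (K55.f698369 IH) (Lpn K55.v12818))))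
theorem f698373 : Led Lsl_ft (LP (LK LD1_c5 LD2_c41 LD3_c10)) = K55.v12818 :=
  Lgr Lrot48 (Lpr_ff (K55.f698372 IH) (Lpn K55.v12818))
theorem f737867 : Led Lsl_gt (LP (LK LD1_c5 LD2_c41 LD3_c10)) = v15526 :=
  Lgr Lrot5 (Lpr_ft (f698373 IH) (Lpe (f698370 IH) (Lpr_gf (f737866 IH) (Lpn v15526))))
theorem f750618 : (LP (LK LD1_c4 LD2_c29 LD3_c38)) = v15526 :=
  Lefun (Lecon (Lfl_gf (K56.f697836 IH)) (K56.f750617 IH)) (f737867 IH)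
theorem f750622 : (LP (LK LD1_c5 LD2_c41 LD3_c8)) = v12722 :=
  Lefun (Lecon (Lfl_gf (f737866 IH)) (f750618 IH).symm) (f697835 IH)
theorem f225784 : Led Lsl_bt (LP (LK LD1_c2 LD2_c46 LD3_c34)) = (LP (LK LD1_c1 LD2_c19 LD3_c43)) :=
  Lre_b IH (LK LD1_c2 LD2_c46 LD3_c34) (LK LD1_c1 LD2_c19 LD3_c43) Lrfl Lrfl
def v15510 : LQ := Led Lsl_gf (LP (LK LD1_c5 LD2_c41 LD3_c2))
theorem f737814 : Led Lsl_gf (LP (LK LD1_c5 LD2_c41 LD3_c2)) = v15510 :=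
  Lrfl
theorem f902199 : Led Lsl_ct (LP (LK LD1_c11 LD2_c24 LD3_c2)) = v15510 :=
  Lgr Lrot64 (Lpr_bt (f902156 IH) (Lpe (K69.f280328 IH) (Lpe (K16.f268773 IH) (Lpe (K20.f280926 IH) (Lpe (f697849 IH) (Lpq (f750622 IH) (Lpe (K55.f225743 IH) (Lpe (K55.f171848 IH) (Lpe (f225784 IH) (Lpr_ct (f225731 IH) (Lpr_gf (f737814 IH) (Lpn v15510))))))))))))
theorem f955002 : Led Lsl_ft v15510 = v46740 :=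
  Lgr Lrot4 (Lpe (f902199 IH) (Lpe (K69.f747779 IH) (Lpr_cf (f955000 IH) (Lpn v46740))))
theorem f955003 : Led Lsl_ff v15510 = v46740 :=
  Lgr Lrot3 (Lpr_ft (f955002 IH) (Lpn v46740))
theorem f955004 : Led Lsl_at v15510 = v46741 :=
  Lgr Lrot66 (Lpr_ff (f955003 IH) (Lpe (f954998 IH) (Lpr_ff (f954996 IH) (Lpn v46741))))
theorem f354485 : Led Lsl_et (LP (LK LD1_c5 LD2_c40 LD3_c9)) = (LP (LK LD1_c11 LD2_c11 LD3_c5)) :=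
  Lre_e IH (LK LD1_c5 LD2_c40 LD3_c9) (LK LD1_c11 LD2_c11 LD3_c5) Lrfl Lrfl
theorem f494050 : Led Lsl_at (LP (LK LD1_c11 LD2_c11 LD3_c5)) = (LP (LK LD1_c5 LD2_c41 LD3_c2)) :=
  Lgr Lrot80 (Lpe (f354485 IH) (Lpr_af (K52.f494030 IH) (Lpe (K68.f225788 IH) (Lpn (LP (LK LD1_c5 LD2_c41 LD3_c2))))))
theorem f494052 : Led Lsl_af (LP (LK LD1_c11 LD2_c11 LD3_c5)) = (LP (LK LD1_c5 LD2_c41 LD3_c2)) :=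
  Lgr Lrot0 (Lpr_at (f494050 IH) (Lpn (LP (LK LD1_c5 LD2_c41 LD3_c2))))
theorem f225797 : Led Lsl_ft (LP (LK LD1_c11 LD2_c12 LD3_c39)) = (LP (LK LD1_c5 LD2_c41 LD3_c2)) :=
  Lre_f IH (LK LD1_c11 LD2_c12 LD3_c39) (LK LD1_c5 LD2_c41 LD3_c2) Lrfl Lrfl
theorem f954992 : Led Lsl_gt (LP (LK LD1_c11 LD2_c12 LD3_c39)) = v46741 :=
  Lgr Lrot5 (Lpr_ft (f225797 IH) (Lpe (f494052 IH) (Lpr_gf (f954991 IH) (Lpn v46741))))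
theorem f955005 : Led Lsl_gf (LP (LK LD1_c11 LD2_c12 LD3_c39)) = v46740 :=
  Lgr Lrot47 (Lpr_gt (f954992 IH) (Lpe (f955004 IH) (Lpr_ff (f955003 IH) (Lpn v46740))))
def v37902 : LQ := Led Lsl_ct (LP (LK LD1_c9 LD2_c1 LD3_c53))
theorem f897495 : Led Lsl_ct (LP (LK LD1_c9 LD2_c1 LD3_c53)) = v37902 :=
  Lrfl
theorem f956783 : Led Lsl_gt v37902 = v47080 :=
  Lgr Lrot65 (Lpe (f897495 IH) (Lpr_bt (K69.f380027 IH) (Lpr_gf (K50.f380077 IH) (Lpe (K50.f225759 IH) (Lpr_ct (K68.f225771 IH) (Lpr_gf (f955005 IH) (Lpe (f955001 IH) (Lpe (K69.f68756 IH) (Lpe (K66.f68783 IH) (Lpr_ct (f956779 IH) (Lpn v47080)))))))))))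
theorem f956781 : Led Lsl_cf (LP (LK LD1_c11 LD2_c14 LD3_c22)) = v47080 :=
  Lgr Lrot11 (Lpr_ct (f956779 IH) (Lpn v47080))
theorem f396321 : Led Lsl_et (LP (LK LD1_c5 LD2_c49 LD3_c44)) = (LP (LK LD1_c11 LD2_c28 LD3_c10)) :=
  Lre_e IH (LK LD1_c5 LD2_c49 LD3_c44) (LK LD1_c11 LD2_c28 LD3_c10) Lrfl Lrfl
theorem f396331 : Led Lsl_dt (LP (LK LD1_c11 LD2_c28 LD3_c10)) = (LP (LK LD1_c11 LD2_c14 LD3_c22)) :=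
  Lgr Lrot77 (Lpe (f396321 IH) (Lpr_df (K39.f396310 IH) (Lpe (K16.f269078 IH) (Lpe (K39.f181596 IH) (Lpe (K66.f269092 IH) (Lpn (LP (LK LD1_c11 LD2_c14 LD3_c22))))))))
theorem f396334 : Led Lsl_ct (LP (LK LD1_c20 LD2_c25 LD3_c48)) = (LP (LK LD1_c11 LD2_c28 LD3_c10)) :=
  Lre_c IH (LK LD1_c20 LD2_c25 LD3_c48) (LK LD1_c11 LD2_c28 LD3_c10) Lrfl Lrfl
theorem f956785 : Led Lsl_gt (LP (LK LD1_c20 LD2_c25 LD3_c28)) = (LP (LK LD1_c16 LD2_c51 LD3_c53)) :=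
  Lgr Lrot9 (Lpr_df (f580384 IH) (Lpe (K69.f871184 IH) (Lpr_ct (f897495 IH) (Lpr_gt (f956783 IH) (Lpe (f956781 IH) (Lpe (f396331 IH) (Lpe (f396334 IH) (Lpe (f955796 IH) (Lpe (f177677 IH) (Lpn (LP (LK LD1_c16 LD2_c51 LD3_c53))))))))))))
theorem f956786 : Led Lsl_gt (LP (LK LD1_c20 LD2_c25 LD3_c28)) = (LP (LK LD1_c16 LD2_c51 LD3_c53)) :=
  Leop (Lpe (f956785 IH) (Lpn (LP (LK LD1_c20 LD2_c25 LD3_c28))))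
theorem seed_2787 : LEOK LG_g (LK LD1_c20 LD2_c25 LD3_c28) :=
  Leoe_g (LK LD1_c20 LD2_c25 LD3_c28) (f956786 IH)
theorem f580202 : Led Lsl_ft (LP (LK LD1_c20 LD2_c25 LD3_c28)) = (LP (LK LD1_c11 LD2_c27 LD3_c36)) :=
  Lre_f IH (LK LD1_c20 LD2_c25 LD3_c28) (LK LD1_c11 LD2_c27 LD3_c36) Lrfl Lrfl
theorem f956787 : Led Lsl_gf (LP (LK LD1_c12 LD2_c10 LD3_c54)) = (LP (LK LD1_c16 LD2_c51 LD3_c53)) :=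
  Lgr Lrot76 (Lpe (K44.f580199 IH) (Lpe (f580202 IH) (Lpr_gt (f956785 IH) (Lpn (LP (LK LD1_c16 LD2_c51 LD3_c53))))))
theorem f558207 : Led Lsl_ct (LP (LK LD1_c11 LD2_c27 LD3_c30)) = (LP (LK LD1_c20 LD2_c25 LD3_c26)) :=
  Lre_c IH (LK LD1_c11 LD2_c27 LD3_c30) (LK LD1_c20 LD2_c25 LD3_c26) Lrfl Lrfl
theorem f177664 : Led Lsl_bt (LP (LK LD1_c9 LD2_c1 LD3_c55)) = (LP (LK LD1_c16 LD2_c51 LD3_c53)) :=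
  Lre_b IH (LK LD1_c9 LD2_c1 LD3_c55) (LK LD1_c16 LD2_c51 LD3_c53) Lrfl Lrfl
def v37961 : LQ := Led Lsl_ft (LP (LK LD1_c9 LD2_c2 LD3_c55))
theorem f898271 : Led Lsl_ft (LP (LK LD1_c9 LD2_c2 LD3_c55)) = v37961 :=
  Lrfl
theorem f898274 : Led Lsl_ff (LP (LK LD1_c9 LD2_c2 LD3_c55)) = v37961 :=
  Lgr Lrot3 (Lpr_ft (f898271 IH) (Lpn v37961))
theorem f412049 : Led Lsl_af (LP (LK LD1_c5 LD2_c43 LD3_c5)) = (LP (LK LD1_c9 LD2_c2 LD3_c55)) :=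
  Lgr Lrot0 (Lpr_at (K41.f268745 IH) (Lpn (LP (LK LD1_c9 LD2_c2 LD3_c55))))
theorem f898277 : Led Lsl_gf (LP (LK LD1_c11 LD2_c16 LD3_c27)) = v37961 :=
  Lgr Lrot47 (Lpr_gt (K56.f280946 IH) (Lpr_af (f412049 IH) (Lpr_ff (f898274 IH) (Lpn v37961))))
theorem f396343 : Led Lsl_ft (LP (LK LD1_c4 LD2_c32 LD3_c45)) = (LP (LK LD1_c9 LD2_c2 LD3_c56)) :=
  Lre_f IH (LK LD1_c4 LD2_c32 LD3_c45) (LK LD1_c9 LD2_c2 LD3_c56) Lrfl Lrfl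
theorem f898276 : Led Lsl_ct (LP (LK LD1_c9 LD2_c2 LD3_c56)) = v37961 :=
  Lgr Lrot40 (Lpe (f396343 IH) (Lpe (K41.f268744 IH) (Lpr_ff (f898274 IH) (Lpn v37961))))
theorem f824000 : Led Lsl_bt K68.v15619 = K55.v4780 :=
  Lgr Lrot127 (Lpr_bf (K68.f823986 IH) (Lpn K55.v4780))
theorem f956791 : Led Lsl_gt (LP (LK LD1_c20 LD2_c25 LD3_c26)) = (LP (LK LD1_c17 LD2_c9 LD3_c8)) :=
  Lgr Lrot65 (Lpe (f558207 IH) (Lpr_bt (K44.f568287 IH) (Lpr_gf (f956787 IH) (Lpe (f177664 IH) (Lpe (K56.f741300 IH) (Lpr_gf (f898277 IH) (Lpe (f898276 IH) (Lpr_gf (K55.f638943 IH) (Lpe (f824000 IH) (Lpr_ct (K68.f892925 IH) (Lpn (LP (LK LD1_c17 LD2_c9 LD3_c8)))))))))))))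
theorem f956792 : Led Lsl_gt (LP (LK LD1_c20 LD2_c25 LD3_c26)) = (LP (LK LD1_c17 LD2_c9 LD3_c8)) :=
  Leop (Lpe (f956791 IH) (Lpn (LP (LK LD1_c20 LD2_c25 LD3_c26))))
theorem seed_2788 : LEOK LG_g (LK LD1_c20 LD2_c25 LD3_c26) :=
  Leoe_g (LK LD1_c20 LD2_c25 LD3_c26) (f956792 IH)
theorem f737559 : Led Lsl_ff (LP (LK LD1_c11 LD2_c12 LD3_c50)) = (LP (LK LD1_c16 LD2_c51 LD3_c53)) :=
  Lgr Lrot25 (Lpr_bt (f379993 IH) (Lpr_ft (K54.f737557 IH) (Lpr_bt (f177664 IH) (Lpn (LP (LK LD1_c16 LD2_c51 LD3_c53))))))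
theorem f737673 : Led Lsl_at (LP (LK LD1_c11 LD2_c12 LD3_c50)) = (LP (LK LD1_c20 LD2_c7 LD3_c16)) :=
  Lre_a IH (LK LD1_c11 LD2_c12 LD3_c50) (LK LD1_c20 LD2_c7 LD3_c16) Lrfl Lrfl
theorem f956789 : Led Lsl_gt (LP (LK LD1_c12 LD2_c10 LD3_c54)) = (LP (LK LD1_c20 LD2_c7 LD3_c16)) :=
  Lgr Lrot46 (Lpr_gf (f956787 IH) (Lpe (f737559 IH) (Lpr_at (f737673 IH) (Lpn (LP (LK LD1_c20 LD2_c7 LD3_c16))))))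
def v46933 : LQ := Led Lsl_gt (LP (LK LD1_c11 LD2_c12 LD3_c50))
theorem f955889 : Led Lsl_gt (LP (LK LD1_c11 LD2_c12 LD3_c50)) = v46933 :=
  Lrfl
theorem f955899 : Led Lsl_at (LP (LK LD1_c20 LD2_c25 LD3_c28)) = v46933 :=
  Lgr Lrot26 (Lpe (f580201 IH) (Lpqs (f955897 IH) (Lpe (f955890 IH) (Lpr_gt (f955889 IH) (Lpn v46933)))))
theorem f955903 : Led Lsl_ff (LP (LK LD1_c12 LD2_c10 LD3_c54)) = v46933 :=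
  Lgr Lrot30 (Lpe (K44.f580195 IH) (Lpr_ft (f580201 IH) (Lpr_at (f955899 IH) (Lpn v46933))))
theorem f955906 : Led Lsl_ft (LP (LK LD1_c12 LD2_c10 LD3_c54)) = v46933 :=
  Lgr Lrot48 (Lpr_ff (f955903 IH) (Lpn v46933))
theorem f955900 : Led Lsl_af (LP (LK LD1_c20 LD2_c25 LD3_c28)) = v46933 :=
  Lgr Lrot0 (Lpr_at (f955899 IH) (Lpn v46933))
theorem f956796 : Led Lsl_gf (LP (LK LD1_c20 LD2_c25 LD3_c28)) = (LP (LK LD1_c20 LD2_c7 LD3_c16)) :=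
  Lgr Lrot76 (Lpr_af (f955900 IH) (Lpe (f955906 IH) (Lpr_gt (f956789 IH) (Lpn (LP (LK LD1_c20 LD2_c7 LD3_c16))))))
theorem f956797 : Led Lsl_gt (LP (LK LD1_c20 LD2_c7 LD3_c16)) = (LP (LK LD1_c20 LD2_c25 LD3_c28)) :=
  Leop (Lpr_gf (f956796 IH) (Lpn (LP (LK LD1_c20 LD2_c7 LD3_c16))))
theorem seed_2789 : LEOK LG_g (LK LD1_c20 LD2_c7 LD3_c16) :=
  Leoe_g (LK LD1_c20 LD2_c7 LD3_c16) (f956797 IH)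
def v47124 : LQ := Led Lsl_gf (LP (LK LD1_c11 LD2_c14 LD3_c55))
theorem f956973 : Led Lsl_gf (LP (LK LD1_c11 LD2_c14 LD3_c55)) = v47124 :=
  Lrfl
theorem f68877 : Led Lsl_et (LP (LK LD1_c6 LD2_c8 LD3_c10)) = (LP (LK LD1_c3 LD2_c0 LD3_c17)) :=
  Lre_e IH (LK LD1_c6 LD2_c8 LD3_c10) (LK LD1_c3 LD2_c0 LD3_c17) Lrfl Lrfl
theorem f539717 : Led Lsl_et (LP (LK LD1_c11 LD2_c57 LD3_c61)) = (LP (LK LD1_c6 LD2_c7 LD3_c56)) :=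
  Lre_e IH (LK LD1_c11 LD2_c57 LD3_c61) (LK LD1_c6 LD2_c7 LD3_c56) Lrfl Lrfl
theorem f956974 : Led Lsl_dt (LP (LK LD1_c11 LD2_c57 LD3_c61)) = v47124 :=
  Lgr Lrot136 (Lpr_et (f539717 IH) (Lpr_gf (K73.f539713 IH) (Lpr_ef (K73.f699248 IH) (Lpr_dt (K55.f387299 IH) (Lpr_gf (K36.f428111 IH) (Lpe (K28.f426195 IH) (Lpe (K40.f557481 IH) (Lpe (f68877 IH) (Lpe (K36.f68834 IH) (Lpr_gf (f956973 IH) (Lpn v47124)))))))))))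
theorem f68863 : Led Lsl_dt (LP (LK LD1_c11 LD2_c14 LD3_c55)) = (LP (LK LD1_c6 LD2_c8 LD3_c10)) :=
  Lgr Lrot42 (Lpr_df (K36.f68834 IH) (Lpn (LP (LK LD1_c6 LD2_c8 LD3_c10))))
theorem f68862 : Led Lsl_ct (LP (LK LD1_c11 LD2_c58 LD3_c16)) = (LP (LK LD1_c6 LD2_c8 LD3_c10)) :=
  Lre_c IH (LK LD1_c11 LD2_c58 LD3_c16) (LK LD1_c6 LD2_c8 LD3_c10) Lrfl Lrfl
theorem f956976 : Led Lsl_ct (LP (LK LD1_c21 LD2_c3 LD3_c2)) = (LP (LK LD1_c18 LD2_c21 LD3_c3)) :=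
  Lgr Lrot8 (Lpr_gt (K73.f596969 IH) (Lpr_dt (f956974 IH) (Lpe (f956973 IH) (Lpr_dt (f68863 IH) (Lpe (f68862 IH) (Lpe (K72.f924710 IH) (Lpe (K72.f175628 IH) (Lpe (K72.f598250 IH) (Lpe (K73.f936584 IH) (Lpn (LP (LK LD1_c18 LD2_c21 LD3_c3))))))))))))
theorem f956977 : Led Lsl_ct (LP (LK LD1_c21 LD2_c3 LD3_c2)) = (LP (LK LD1_c18 LD2_c21 LD3_c3)) :=
  Leop (Lpe (f956976 IH) (Lpn (LP (LK LD1_c21 LD2_c3 LD3_c2))))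
theorem seed_2790 : LEOK LG_c (LK LD1_c21 LD2_c3 LD3_c2) :=
  Leoe_c (LK LD1_c21 LD2_c3 LD3_c2) (f956977 IH)
def v47136 : LQ := Led Lsl_ft (LP (LK LD1_c11 LD2_c15 LD3_c1))
theorem f957032 : Led Lsl_ft (LP (LK LD1_c11 LD2_c15 LD3_c1)) = v47136 :=
  Lrfl
theorem f957035 : Led Lsl_ff (LP (LK LD1_c11 LD2_c15 LD3_c1)) = v47136 :=
  Lgr Lrot3 (Lpr_ft (f957032 IH) (Lpn v47136))
theorem f268515 : Led Lsl_et (LP (LK LD1_c11 LD2_c15 LD3_c1)) = (LP (LK LD1_c5 LD2_c42 LD3_c24)) :=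
  Lre_e IH (LK LD1_c11 LD2_c15 LD3_c1) (LK LD1_c5 LD2_c42 LD3_c24) Lrfl Lrfl
theorem f268516 : Led Lsl_ct (LP (LK LD1_c5 LD2_c46 LD3_c51)) = (LP (LK LD1_c11 LD2_c15 LD3_c1)) :=
  Lgr Lrot15 (Lpe (K50.f68622 IH) (Lpr_cf (K16.f268508 IH) (Lpe (f268515 IH) (Lpn (LP (LK LD1_c11 LD2_c15 LD3_c1))))))
theorem f412349 : Led Lsl_cf (LP (LK LD1_c5 LD2_c46 LD3_c51)) = (LP (LK LD1_c11 LD2_c15 LD3_c1)) :=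
  Lgr Lrot11 (Lpr_ct (f268516 IH) (Lpn (LP (LK LD1_c11 LD2_c15 LD3_c1))))
theorem f957036 : Led Lsl_ct (LP (LK LD1_c11 LD2_c23 LD3_c53)) = v47136 :=
  Lgr Lrot40 (Lpe (K39.f68666 IH) (Lpr_cf (f412349 IH) (Lpr_ff (f957035 IH) (Lpn v47136))))
def v37988 : LQ := Led Lsl_ft (LP (LK LD1_c9 LD2_c3 LD3_c27))
theorem f898487 : Led Lsl_ft (LP (LK LD1_c9 LD2_c3 LD3_c27)) = v37988 :=
  Lrfl
theorem f898492 : Led Lsl_ff (LP (LK LD1_c9 LD2_c3 LD3_c27)) = v37988 :=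
  Lgr Lrot3 (Lpr_ft (f898487 IH) (Lpn v37988))
theorem f175472 : Led Lsl_bt (LP (LK LD1_c2 LD2_c58 LD3_c1)) = (LP (LK LD1_c6 LD2_c3 LD3_c49)) :=
  Lre_b IH (LK LD1_c2 LD2_c58 LD3_c1) (LK LD1_c6 LD2_c3 LD3_c49) Lrfl Lrfl
theorem f619282 : Led Lsl_bf (LP (LK LD1_c5 LD2_c46 LD3_c51)) = (LP (LK LD1_c9 LD2_c3 LD3_c27)) :=
  Lgr Lrot93 (Lpe (K69.f175432 IH) (Lpr_bt (f175472 IH) (Lpr_dt (K51.f619278 IH) (Lpn (LP (LK LD1_c9 LD2_c3 LD3_c27))))))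
theorem f898494 : Led Lsl_bt (LP (LK LD1_c11 LD2_c23 LD3_c53)) = v37988 :=
  Lgr Lrot35 (Lpe (K39.f68666 IH) (Lpr_bf (f619282 IH) (Lpr_ff (f898492 IH) (Lpn v37988))))
theorem f546001 : Led Lsl_et (LP (LK LD1_c4 LD2_c33 LD3_c12)) = (LP (LK LD1_c2 LD2_c13 LD3_c33)) :=
  Lre_e IH (LK LD1_c4 LD2_c33 LD3_c12) (LK LD1_c2 LD2_c13 LD3_c33) Lrfl Lrfl
theorem f547408 : Led Lsl_af (LP (LK LD1_c4 LD2_c33 LD3_c12)) = (LP (LK LD1_c9 LD2_c3 LD3_c27)) :=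
  Lgr Lrot50 (Lpr_et (f546001 IH) (Lpr_at (K38.f547399 IH) (Lpr_et (K51.f547407 IH) (Lpn (LP (LK LD1_c9 LD2_c3 LD3_c27))))))
theorem f898497 : Led Lsl_gf (LP (LK LD1_c9 LD2_c3 LD3_c46)) = v37988 :=
  Lgr Lrot47 (Lpr_gt (K52.f618163 IH) (Lpr_af (f547408 IH) (Lpr_ff (f898492 IH) (Lpn v37988))))
theorem f622378 : Led Lsl_bt (LP (LK LD1_c9 LD2_c0 LD3_c19)) = (LP (LK LD1_c16 LD2_c49 LD3_c45)) :=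
  Lre_b IH (LK LD1_c9 LD2_c0 LD3_c19) (LK LD1_c16 LD2_c49 LD3_c45) Lrfl Lrfl
def v37809 : LQ := Led Lsl_ct (LP (LK LD1_c9 LD2_c0 LD3_c19))
theorem f896618 : Led Lsl_ct (LP (LK LD1_c9 LD2_c0 LD3_c19)) = v37809 :=
  Lrfl
theorem f957038 : Led Lsl_gt v37809 = v47136 :=
  Lgr Lrot65 (Lpe (f896618 IH) (Lpr_bt (f622378 IH) (Lpr_gf (f956080 IH) (Lpe (K54.f569264 IH) (Lpr_ct (f569271 IH) (Lpr_gf (K69.f898672 IH) (Lpq (K69.f902257 IH) (Lpe (K69.f698508 IH) (Lpr_gf (f898497 IH) (Lpe (f898494 IH) (Lpr_ct (f957036 IH) (Lpn v47136))))))))))))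
theorem f957033 : Led Lsl_cf (LP (LK LD1_c11 LD2_c23 LD3_c53)) = v47136 :=
  Lgr Lrot108 (Lpr_ft (K39.f175469 IH) (Lpr_ct (f268516 IH) (Lpr_ft (f957032 IH) (Lpn v47136))))
theorem f175470 : Led Lsl_ct (LP (LK LD1_c11 LD2_c51 LD3_c14)) = (LP (LK LD1_c6 LD2_c3 LD3_c54)) :=
  Lre_c IH (LK LD1_c11 LD2_c51 LD3_c14) (LK LD1_c6 LD2_c3 LD3_c54) Lrfl Lrfl
theorem f957040 : Led Lsl_ct K56.v16675 = (LP (LK LD1_c17 LD2_c8 LD3_c48)) :=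
  Lgr Lrot152 (Lpe (K56.f750930 IH) (Lpr_df (K56.f613558 IH) (Lpr_gt (K67.f418712 IH) (Lpr_ct (f896618 IH) (Lpr_gt (f957038 IH) (Lpe (f957033 IH) (Lpe (K69.f175467 IH) (Lpe (f175470 IH) (Lpe (K69.f903972 IH) (Lpn (LP (LK LD1_c17 LD2_c8 LD3_c48))))))))))))
def v41076 : LQ := Led Lsl_ct (LP (LK LD1_c9 LD2_c51 LD3_c13))
theorem f921864 : Led Lsl_ct (LP (LK LD1_c9 LD2_c51 LD3_c13)) = v41076 :=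
  Lrfl
theorem f921865 : Led Lsl_cf (LP (LK LD1_c9 LD2_c51 LD3_c13)) = v41076 :=
  Lgr Lrot11 (Lpr_ct (f921864 IH) (Lpn v41076))
theorem f957041 : Led Lsl_af v41076 = (LP (LK LD1_c17 LD2_c8 LD3_c48)) :=
  Lgr Lrot68 (Lpe (f921865 IH) (Lpr_at (K56.f750939 IH) (Lpr_ct (f957040 IH) (Lpn (LP (LK LD1_c17 LD2_c8 LD3_c48))))))
def v47134 : LQ := Led Lsl_gf (LP (LK LD1_c11 LD2_c15 LD3_c1))
theorem f957019 : Led Lsl_gf (LP (LK LD1_c11 LD2_c15 LD3_c1)) = v47134 :=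
  Lrfl
theorem f175430 : Led Lsl_bt (LP (LK LD1_c6 LD2_c3 LD3_c49)) = (LP (LK LD1_c2 LD2_c58 LD3_c1)) :=
  Lre_b IH (LK LD1_c6 LD2_c3 LD3_c49) (LK LD1_c2 LD2_c58 LD3_c1) Lrfl Lrfl
theorem f619275 : Led Lsl_bt (LP (LK LD1_c5 LD2_c46 LD3_c51)) = (LP (LK LD1_c9 LD2_c3 LD3_c27)) :=
  Lgr Lrot95 (Lpe (K39.f175428 IH) (Lpe (f175430 IH) (Lpr_df (K51.f619273 IH) (Lpn (LP (LK LD1_c9 LD2_c3 LD3_c27))))))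
theorem f639019 : Led Lsl_bt (LP (LK LD1_c2 LD2_c48 LD3_c24)) = (LP (LK LD1_c5 LD2_c45 LD3_c17)) :=
  Lre_b IH (LK LD1_c2 LD2_c48 LD3_c24) (LK LD1_c5 LD2_c45 LD3_c17) Lrfl Lrfl
theorem f957021 : Led Lsl_ct (LP (LK LD1_c11 LD2_c59 LD3_c27)) = v47134 :=
  Lgr Lrot91 (Lpr_gf (K56.f613550 IH) (Lpe (K39.f319356 IH) (Lpr_ct (K56.f698145 IH) (Lpe (K56.f698148 IH) (Lpqs (K69.f750554 IH) (Lpe (K69.f639024 IH) (Lpr_bt (f639019 IH) (Lpr_gf (K69.f740890 IH) (Lpqs (K69.f897234 IH) (Lpe (f619275 IH) (Lpr_ct (f268516 IH) (Lpr_gf (f957019 IH) (Lpn v47134)))))))))))))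
theorem f751038 : Led Lsl_dt (LP (LK LD1_c9 LD2_c0 LD3_c21)) = K60.v16677 :=
  Lgr Lrot60 (Lpe (K39.f354379 IH) (Lpe (K56.f613546 IH) (Lpr_ff (K69.f751034 IH) (Lpn K60.v16677))))
theorem f175431 : Led Lsl_ct (LP (LK LD1_c6 LD2_c3 LD3_c51)) = (LP (LK LD1_c2 LD2_c58 LD3_c1)) :=
  Lre_c IH (LK LD1_c6 LD2_c3 LD3_c51) (LK LD1_c2 LD2_c58 LD3_c1) Lrfl Lrfl
def v16648 : LQ := Led Lsl_gf (LP (LK LD1_c6 LD2_c3 LD3_c51))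
theorem f750842 : Led Lsl_gf (LP (LK LD1_c6 LD2_c3 LD3_c51)) = v16648 :=
  Lrfl
theorem f957024 : Led Lsl_ct K69.v14175 = v16648 :=
  Lgr Lrot152 (Lpr_gf (K69.f751040 IH) (Lpe (f751038 IH) (Lpe (K56.f613550 IH) (Lpr_ct (f957021 IH) (Lpe (f957019 IH) (Lpe (f412349 IH) (Lpe (K39.f175428 IH) (Lpe (f175431 IH) (Lpr_gf (f750842 IH) (Lpn v16648))))))))))
theorem f957025 : Led Lsl_cf K69.v14175 = v16648 :=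
  Lgr Lrot11 (Lpr_ct (f957024 IH) (Lpn v16648))
theorem f957043 : Led Lsl_ff v16648 = (LP (LK LD1_c17 LD2_c8 LD3_c48)) :=
  Lgr Lrot23 (Lpe (f957025 IH) (Lpr_ft (K69.f750938 IH) (Lpr_ct (f957040 IH) (Lpn (LP (LK LD1_c17 LD2_c8 LD3_c48))))))
theorem f23971 : Led Lsl_gt (LP (LK LD1_c17 LD2_c8 LD3_c49)) = (LP (LK LD1_c9 LD2_c14 LD3_c29)) :=
  Lre_g IH (LK LD1_c17 LD2_c8 LD3_c49) (LK LD1_c9 LD2_c14 LD3_c29) Lrfl Lrfl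
theorem f412385 : Led Lsl_gt (LP (LK LD1_c11 LD2_c51 LD3_c14)) = (LP (LK LD1_c17 LD2_c8 LD3_c49)) :=
  Lgr Lrot5 (Lpr_ft (K69.f268413 IH) (Lpr_at (K69.f268405 IH) (Lpe (f23971 IH) (Lpn (LP (LK LD1_c17 LD2_c8 LD3_c49))))))
theorem f957045 : Led Lsl_at v16648 = (LP (LK LD1_c17 LD2_c8 LD3_c49)) :=
  Lgr Lrot26 (Lpr_ff (f957043 IH) (Lpr_gt (K69.f903972 IH) (Lpr_gt (f412385 IH) (Lpn (LP (LK LD1_c17 LD2_c8 LD3_c49))))))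
theorem f957047 : Led Lsl_cf K56.v16676 = (LP (LK LD1_c17 LD2_c8 LD3_c49)) :=
  Lgr Lrot1 (Lpe (K69.f750946 IH) (Lpr_ct (f957024 IH) (Lpr_at (f957045 IH) (Lpn (LP (LK LD1_c17 LD2_c8 LD3_c49))))))
theorem f957049 : Led Lsl_ft v41076 = (LP (LK LD1_c17 LD2_c8 LD3_c49)) :=
  Lgr Lrot4 (Lpe (f921864 IH) (Lpr_ff (K56.f750942 IH) (Lpr_cf (f957047 IH) (Lpn (LP (LK LD1_c17 LD2_c8 LD3_c49))))))
theorem f957046 : Led Lsl_af v16648 = (LP (LK LD1_c17 LD2_c8 LD3_c49)) :=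
  Lgr Lrot0 (Lpr_at (f957045 IH) (Lpn (LP (LK LD1_c17 LD2_c8 LD3_c49))))
theorem f903971 : Led Lsl_ff (LP (LK LD1_c9 LD2_c14 LD3_c29)) = K69.v38706 :=
  Lgr Lrot3 (Lpr_ft (K69.f903967 IH) (Lpn K69.v38706))
theorem f23988 : Led Lsl_ct (LP (LK LD1_c4 LD2_c39 LD3_c25)) = (LP (LK LD1_c9 LD2_c14 LD3_c29)) :=
  Lre_c IH (LK LD1_c4 LD2_c39 LD3_c25) (LK LD1_c9 LD2_c14 LD3_c29) Lrfl Lrfl
theorem f285296 : Led Lsl_at (LP (LK LD1_c9 LD2_c14 LD3_c29)) = (LP (LK LD1_c6 LD2_c3 LD3_c51)) :=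
  Lgr Lrot107 (Lpe (f23988 IH) (Lpr_af (K67.f285290 IH) (Lpe (f175431 IH) (Lpn (LP (LK LD1_c6 LD2_c3 LD3_c51))))))
theorem f903977 : Led Lsl_gf v16648 = K69.v38706 :=
  Lgr Lrot47 (Lpe (f750842 IH) (Lpe (f285296 IH) (Lpr_ff (f903971 IH) (Lpn K69.v38706))))
theorem f285304 : Led Lsl_ft (LP (LK LD1_c6 LD2_c3 LD3_c51)) = (LP (LK LD1_c11 LD2_c51 LD3_c14)) :=
  Lre_f IH (LK LD1_c6 LD2_c3 LD3_c51) (LK LD1_c11 LD2_c51 LD3_c14) Lrfl Lrfl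
theorem f903974 : Led Lsl_at (LP (LK LD1_c11 LD2_c51 LD3_c14)) = K69.v38706 :=
  Lgr Lrot66 (Lpe (f285304 IH) (Lpe (f285296 IH) (Lpr_ff (f903971 IH) (Lpn K69.v38706))))
theorem f175667 : Led Lsl_gt (LP (LK LD1_c6 LD2_c3 LD3_c51)) = (LP (LK LD1_c11 LD2_c51 LD3_c13)) :=
  Lre_g IH (LK LD1_c6 LD2_c3 LD3_c51) (LK LD1_c11 LD2_c51 LD3_c13) Lrfl Lrfl
theorem f903978 : Led Lsl_gt (LP (LK LD1_c11 LD2_c51 LD3_c13)) = K69.v38706 :=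
  Lgr Lrot46 (Lpe (f175667 IH) (Lpr_ft (f285304 IH) (Lpr_at (f903974 IH) (Lpn K69.v38706))))
theorem f957051 : v41076 = (LP (LK LD1_c11 LD2_c51 LD3_c13)) :=
  (Llr Lrot52 (Lpr_ft (f957049 IH) (Lpe (f957046 IH) (Lpr_gf (f903977 IH) (Lpe (f903978 IH) (Lpn (LP (LK LD1_c11 LD2_c51 LD3_c13)))))))).symm
theorem f957052 : Led Lsl_at (LP (LK LD1_c17 LD2_c8 LD3_c48)) = (LP (LK LD1_c11 LD2_c51 LD3_c13)) :=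
  Leop (Lpq (f957051 IH) (Lpr_af (f957041 IH) (Lpn (LP (LK LD1_c17 LD2_c8 LD3_c48)))))
theorem seed_2791 : LEOK LG_a (LK LD1_c17 LD2_c8 LD3_c48) :=
  Leoe_a (LK LD1_c17 LD2_c8 LD3_c48) (f957052 IH)
theorem f957053 : Led Lsl_ct (LP (LK LD1_c11 LD2_c51 LD3_c13)) = (LP (LK LD1_c9 LD2_c51 LD3_c13)) :=
  Leop (Lpr_cf (f921865 IH) (Lpqs (f957051 IH) (Lpn (LP (LK LD1_c11 LD2_c51 LD3_c13)))))
theorem seed_2792 : LEOK LG_c (LK LD1_c11 LD2_c51 LD3_c13) :=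
  Leoe_c (LK LD1_c11 LD2_c51 LD3_c13) (f957053 IH)
def v47141 : LQ := Led Lsl_et (LP (LK LD1_c11 LD2_c15 LD3_c5))
theorem f957077 : Led Lsl_et (LP (LK LD1_c11 LD2_c15 LD3_c5)) = v47141 :=
  Lrfl
theorem f957080 : Led Lsl_ef (LP (LK LD1_c11 LD2_c15 LD3_c5)) = v47141 :=
  Lgr Lrot88 (Lpr_et (f957077 IH) (Lpn v47141))
theorem f542242 : Led Lsl_et (LP (LK LD1_c8 LD2_c44 LD3_c25)) = (LP (LK LD1_c16 LD2_c21 LD3_c45)) :=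
  Lre_e IH (LK LD1_c8 LD2_c44 LD3_c25) (LK LD1_c16 LD2_c21 LD3_c45) Lrfl Lrfl
theorem f460474 : Led Lsl_dt (LP (LK LD1_c24 LD2_c26 LD3_c11)) = (LP (LK LD1_c31 LD2_c31 LD3_c32)) :=
  Lre_d IH (LK LD1_c24 LD2_c26 LD3_c11) (LK LD1_c31 LD2_c31 LD3_c32) Lrfl Lrfl
theorem f460494 : Led Lsl_ff (LP (LK LD1_c31 LD2_c27 LD3_c12)) = (LP (LK LD1_c31 LD2_c31 LD3_c32)) :=
  Lgr Lrot19 (Lpr_dt (K47.f460493 IH) (Lpr_ft (K35.f460485 IH) (Lpr_dt (f460474 IH) (Lpn (LP (LK LD1_c31 LD2_c31 LD3_c32))))))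
theorem f460498 : Led Lsl_at (LP (LK LD1_c31 LD2_c27 LD3_c12)) = (LP (LK LD1_c24 LD2_c16 LD3_c50)) :=
  Lre_a IH (LK LD1_c31 LD2_c27 LD3_c12) (LK LD1_c24 LD2_c16 LD3_c50) Lrfl Lrfl
theorem f14856 : Led Lsl_gt (LP (LK LD1_c31 LD2_c27 LD3_c15)) = (LP (LK LD1_c24 LD2_c16 LD3_c50)) :=
  Lre_g IH (LK LD1_c31 LD2_c27 LD3_c15) (LK LD1_c24 LD2_c16 LD3_c50) Lrfl Lrfl
theorem f460499 : Led Lsl_gf (LP (LK LD1_c31 LD2_c27 LD3_c15)) = (LP (LK LD1_c31 LD2_c31 LD3_c32)) :=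
  Lgr Lrot47 (Lpr_gt (f14856 IH) (Lpe (f460498 IH) (Lpr_ff (f460494 IH) (Lpn (LP (LK LD1_c31 LD2_c31 LD3_c32))))))
theorem f460027 : Led Lsl_ct (LP (LK LD1_c24 LD2_c26 LD3_c57)) = (LP (LK LD1_c14 LD2_c42 LD3_c1)) :=
  Lre_c IH (LK LD1_c24 LD2_c26 LD3_c57) (LK LD1_c14 LD2_c42 LD3_c1) Lrfl Lrfl
theorem f610458 : Led Lsl_dt (LP (LK LD1_c31 LD2_c27 LD3_c15)) = (LP (LK LD1_c24 LD2_c26 LD3_c57)) :=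
  Lgr Lrot105 (Lpr_gf (f460499 IH) (Lpe (f460474 IH) (Lpe (K35.f460354 IH) (Lpe (K29.f460299 IH) (Lpr_gt (K62.f460393 IH) (Lpe (K62.f490159 IH) (Lpr_gt (K62.f610454 IH) (Lpr_dt (K57.f460028 IH) (Lpe (f460027 IH) (Lpn (LP (LK LD1_c24 LD2_c26 LD3_c57))))))))))))
theorem f460019 : Led Lsl_at (LP (LK LD1_c24 LD2_c26 LD3_c57)) = (LP (LK LD1_c14 LD2_c42 LD3_c2)) :=
  Lre_a IH (LK LD1_c24 LD2_c26 LD3_c57) (LK LD1_c14 LD2_c42 LD3_c2) Lrfl Lrfl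
theorem f460017 : Led Lsl_dt (LP (LK LD1_c14 LD2_c42 LD3_c2)) = (LP (LK LD1_c24 LD2_c26 LD3_c60)) :=
  Lre_d IH (LK LD1_c14 LD2_c42 LD3_c2) (LK LD1_c24 LD2_c26 LD3_c60) Lrfl Lrfl
theorem f610460 : Led Lsl_af (LP (LK LD1_c31 LD2_c27 LD3_c15)) = (LP (LK LD1_c24 LD2_c26 LD3_c60)) :=
  Lgr Lrot117 (Lpr_dt (f610458 IH) (Lpr_at (f460019 IH) (Lpr_dt (f460017 IH) (Lpn (LP (LK LD1_c24 LD2_c26 LD3_c60))))))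
theorem f468825 : Led Lsl_dt (LP (LK LD1_c24 LD2_c0 LD3_c3)) = (LP (LK LD1_c31 LD2_c18 LD3_c55)) :=
  Lre_d IH (LK LD1_c24 LD2_c0 LD3_c3) (LK LD1_c31 LD2_c18 LD3_c55) Lrfl Lrfl
theorem f521061 : Led Lsl_ft (LP (LK LD1_c31 LD2_c18 LD3_c55)) = (LP (LK LD1_c24 LD2_c26 LD3_c60)) :=
  Lgr Lrot54 (Lpe (f468825 IH) (Lpr_ff (K57.f521050 IH) (Lpe (K47.f460022 IH) (Lpn (LP (LK LD1_c24 LD2_c26 LD3_c60))))))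
theorem f610477 : Led Lsl_gf (LP (LK LD1_c31 LD2_c31 LD3_c32)) = (LP (LK LD1_c31 LD2_c18 LD3_c55)) :=
  Lgr Lrot47 (Lpe (f460499 IH) (Lpr_af (f610460 IH) (Lpe (f521061 IH) (Lpn (LP (LK LD1_c31 LD2_c18 LD3_c55))))))
theorem f460473 : Led Lsl_dt (LP (LK LD1_c31 LD2_c31 LD3_c32)) = (LP (LK LD1_c24 LD2_c26 LD3_c11)) :=
  Lre_d IH (LK LD1_c31 LD2_c31 LD3_c32) (LK LD1_c24 LD2_c26 LD3_c11) Lrfl Lrfl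
theorem f91079 : Led Lsl_dt (LP (LK LD1_c24 LD2_c15 LD3_c11)) = (LP (LK LD1_c31 LD2_c26 LD3_c30)) :=
  Lre_d IH (LK LD1_c24 LD2_c15 LD3_c11) (LK LD1_c31 LD2_c26 LD3_c30) Lrfl Lrfl
theorem f512978 : Led Lsl_af (LP (LK LD1_c31 LD2_c31 LD3_c32)) = (LP (LK LD1_c31 LD2_c26 LD3_c30)) :=
  Lgr Lrot117 (Lpr_dt (f460473 IH) (Lpr_at (K35.f512974 IH) (Lpr_dt (f91079 IH) (Lpn (LP (LK LD1_c31 LD2_c26 LD3_c30))))))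
theorem f460487 : Led Lsl_at (LP (LK LD1_c14 LD2_c34 LD3_c14)) = (LP (LK LD1_c24 LD2_c16 LD3_c46)) :=
  Lre_a IH (LK LD1_c14 LD2_c34 LD3_c14) (LK LD1_c24 LD2_c16 LD3_c46) Lrfl Lrfl
theorem f512983 : Led Lsl_ff (LP (LK LD1_c14 LD2_c34 LD3_c14)) = (LP (LK LD1_c24 LD2_c15 LD3_c11)) :=
  Lgr Lrot30 (Lpr_at (f460487 IH) (Lpr_ft (K35.f460485 IH) (Lpr_at (K35.f512974 IH) (Lpn (LP (LK LD1_c24 LD2_c15 LD3_c11))))))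
theorem f14918 : Led Lsl_dt (LP (LK LD1_c31 LD2_c26 LD3_c30)) = (LP (LK LD1_c24 LD2_c15 LD3_c11)) :=
  Lre_d IH (LK LD1_c31 LD2_c26 LD3_c30) (LK LD1_c24 LD2_c15 LD3_c11) Lrfl Lrfl
theorem f512991 : Led Lsl_ft (LP (LK LD1_c24 LD2_c16 LD3_c50)) = (LP (LK LD1_c31 LD2_c26 LD3_c30)) :=
  Lgr Lrot54 (Lpe (K41.f460450 IH) (Lpr_ff (f512983 IH) (Lpe (f14918 IH) (Lpn (LP (LK LD1_c31 LD2_c26 LD3_c30))))))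
theorem f610479 : Led Lsl_gt (LP (LK LD1_c24 LD2_c16 LD3_c50)) = (LP (LK LD1_c31 LD2_c18 LD3_c55)) :=
  Lgr Lrot5 (Lpr_ft (f512991 IH) (Lpe (f512978 IH) (Lpr_gf (f610477 IH) (Lpn (LP (LK LD1_c31 LD2_c18 LD3_c55))))))
theorem f460365 : Led Lsl_at (LP (LK LD1_c14 LD2_c41 LD3_c30)) = (LP (LK LD1_c7 LD2_c47 LD3_c12)) :=
  Lre_a IH (LK LD1_c14 LD2_c41 LD3_c30) (LK LD1_c7 LD2_c47 LD3_c12) Lrfl Lrfl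
theorem f460368 : Led Lsl_gt (LP (LK LD1_c14 LD2_c41 LD3_c32)) = (LP (LK LD1_c7 LD2_c47 LD3_c12)) :=
  Lre_g IH (LK LD1_c14 LD2_c41 LD3_c32) (LK LD1_c7 LD2_c47 LD3_c12) Lrfl Lrfl
theorem f460369 : Led Lsl_gt (LP (LK LD1_c22 LD2_c50 LD3_c45)) = (LP (LK LD1_c14 LD2_c41 LD3_c32)) :=
  Lgr Lrot5 (Lpr_ft (K29.f460314 IH) (Lpr_at (f460365 IH) (Lpe (f460368 IH) (Lpn (LP (LK LD1_c14 LD2_c41 LD3_c32))))))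
theorem f464130 : Led Lsl_dt (LP (LK LD1_c31 LD2_c18 LD3_c55)) = (LP (LK LD1_c24 LD2_c0 LD3_c3)) :=
  Lre_d IH (LK LD1_c31 LD2_c18 LD3_c55) (LK LD1_c24 LD2_c0 LD3_c3) Lrfl Lrfl
theorem f468398 : Led Lsl_ct (LP (LK LD1_c14 LD2_c21 LD3_c60)) = (LP (LK LD1_c24 LD2_c0 LD3_c3)) :=
  Lre_c IH (LK LD1_c14 LD2_c21 LD3_c60) (LK LD1_c24 LD2_c0 LD3_c3) Lrfl Lrfl
theorem f610481 : Led Lsl_dt (LP (LK LD1_c14 LD2_c41 LD3_c32)) = (LP (LK LD1_c22 LD2_c40 LD3_c61)) :=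
  Lgr Lrot57 (Lpe (f460369 IH) (Lpe (K41.f460466 IH) (Lpr_gt (K29.f460447 IH) (Lpr_dt (K41.f460450 IH) (Lpr_gt (f610479 IH) (Lpr_dt (f464130 IH) (Lpe (f468398 IH) (Lpe (K34.f477531 IH) (Lpe (K62.f477550 IH) (Lpn (LP (LK LD1_c22 LD2_c40 LD3_c61))))))))))))
theorem f557340 : Led Lsl_et (LP (LK LD1_c17 LD2_c54 LD3_c57)) = (LP (LK LD1_c9 LD2_c45 LD3_c18)) :=
  Lre_e IH (LK LD1_c17 LD2_c54 LD3_c57) (LK LD1_c9 LD2_c45 LD3_c18) Lrfl Lrfl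
theorem f542271 : Led Lsl_et (LP (LK LD1_c11 LD2_c23 LD3_c49)) = (LP (LK LD1_c20 LD2_c21 LD3_c42)) :=
  Lre_e IH (LK LD1_c11 LD2_c23 LD3_c49) (LK LD1_c20 LD2_c21 LD3_c42) Lrfl Lrfl
theorem f566657 : Led Lsl_cf (LP (LK LD1_c17 LD2_c54 LD3_c57)) = (LP (LK LD1_c20 LD2_c21 LD3_c42)) :=
  Lgr Lrot39 (Lpr_et (f557340 IH) (Lpr_ct (K41.f566648 IH) (Lpr_et (f542271 IH) (Lpn (LP (LK LD1_c20 LD2_c21 LD3_c42))))))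
theorem f589295 : Led Lsl_af (LP (LK LD1_c20 LD2_c21 LD3_c42)) = (LP (LK LD1_c20 LD2_c11 LD3_c21)) :=
  Lgr Lrot68 (Lpe (f566657 IH) (Lpr_at (f589289 IH) (Lpr_ct (f402612 IH) (Lpn (LP (LK LD1_c20 LD2_c11 LD3_c21))))))
theorem f73118 : Led Lsl_et (LP (LK LD1_c20 LD2_c21 LD3_c42)) = (LP (LK LD1_c11 LD2_c23 LD3_c49)) :=
  Lre_e IH (LK LD1_c20 LD2_c21 LD3_c42) (LK LD1_c11 LD2_c23 LD3_c49) Lrfl Lrfl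
theorem f589299 : Led Lsl_at (LP (LK LD1_c11 LD2_c23 LD3_c49)) = (LP (LK LD1_c11 LD2_c15 LD3_c48)) :=
  Lgr Lrot80 (Lpe (f73118 IH) (Lpr_af (f589295 IH) (Lpe (f402606 IH) (Lpn (LP (LK LD1_c11 LD2_c15 LD3_c48))))))
theorem f589304 : Led Lsl_af (LP (LK LD1_c20 LD2_c21 LD3_c41)) = (LP (LK LD1_c20 LD2_c10 LD3_c11)) :=
  Lgr Lrot117 (Lpr_dt (K41.f542260 IH) (Lpr_at (f589299 IH) (Lpr_dt (K36.f423958 IH) (Lpn (LP (LK LD1_c20 LD2_c10 LD3_c11))))))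
theorem f589312 : Led Lsl_ft (LP (LK LD1_c20 LD2_c21 LD3_c38)) = (LP (LK LD1_c20 LD2_c10 LD3_c11)) :=
  Lgr Lrot2 (Lpe (K51.f542258 IH) (Lpr_gt (K43.f561311 IH) (Lpr_af (f589304 IH) (Lpn (LP (LK LD1_c20 LD2_c10 LD3_c11))))))
theorem f589314 : Led Lsl_ff (LP (LK LD1_c20 LD2_c21 LD3_c38)) = (LP (LK LD1_c20 LD2_c10 LD3_c11)) :=
  Lgr Lrot3 (Lpr_ft (f589312 IH) (Lpn (LP (LK LD1_c20 LD2_c10 LD3_c11))))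
theorem f589306 : Led Lsl_at (LP (LK LD1_c20 LD2_c21 LD3_c41)) = (LP (LK LD1_c20 LD2_c10 LD3_c11)) :=
  Lgr Lrot100 (Lpr_af (f589304 IH) (Lpn (LP (LK LD1_c20 LD2_c10 LD3_c11))))
theorem f566737 : Led Lsl_ff (LP (LK LD1_c20 LD2_c21 LD3_c41)) = (LP (LK LD1_c20 LD2_c10 LD3_c12)) :=
  Lgr Lrot19 (Lpr_dt (K41.f542260 IH) (Lpr_ft (K41.f566733 IH) (Lpr_dt (K41.f423915 IH) (Lpn (LP (LK LD1_c20 LD2_c10 LD3_c12))))))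
theorem f589316 : Led Lsl_at (LP (LK LD1_c20 LD2_c21 LD3_c38)) = (LP (LK LD1_c20 LD2_c10 LD3_c12)) :=
  Lgr Lrot66 (Lpr_ff (f589314 IH) (Lpe (f589306 IH) (Lpr_ff (f566737 IH) (Lpn (LP (LK LD1_c20 LD2_c10 LD3_c12))))))
theorem f589320 : Led Lsl_af (LP (LK LD1_c20 LD2_c21 LD3_c38)) = (LP (LK LD1_c20 LD2_c10 LD3_c12)) :=
  Lgr Lrot0 (Lpr_at (f589316 IH) (Lpn (LP (LK LD1_c20 LD2_c10 LD3_c12))))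
theorem f589322 : Led Lsl_ft (LP (LK LD1_c20 LD2_c21 LD3_c41)) = (LP (LK LD1_c20 LD2_c10 LD3_c12)) :=
  Lgr Lrot101 (Lpr_af (f589304 IH) (Lpe (f589312 IH) (Lpr_af (f589320 IH) (Lpn (LP (LK LD1_c20 LD2_c10 LD3_c12))))))
theorem f579803 : Led Lsl_ct (LP (LK LD1_c20 LD2_c10 LD3_c12)) = (LP (LK LD1_c26 LD2_c19 LD3_c46)) :=
  Lgr Lrot176 (Lpe (K41.f423915 IH) (Lpr_cf (K43.f579795 IH) (Lpe (K41.f566685 IH) (Lpr_cf (K41.f566697 IH) (Lpe (K39.f542241 IH) (Lpe (K43.f542238 IH) (Lpe (K43.f542239 IH) (Lpr_cf (K43.f579296 IH) (Lpe (K36.f423958 IH) (Lpe (K36.f402599 IH) (Lpe (K43.f579322 IH) (Lpr_cf (K43.f579329 IH) (Lpe (K43.f427557 IH) (Lpe (K43.f427561 IH) (Lpe (K45.f427560 IH) (Lpn (LP (LK LD1_c26 LD2_c19 LD3_c46))))))))))))))))))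
theorem f589324 : Led Lsl_ff (LP (LK LD1_c29 LD2_c20 LD3_c26)) = (LP (LK LD1_c26 LD2_c19 LD3_c46)) :=
  Lgr Lrot23 (Lpr_ct (K41.f566661 IH) (Lpr_ft (f589322 IH) (Lpr_ct (f579803 IH) (Lpn (LP (LK LD1_c26 LD2_c19 LD3_c46))))))
theorem f589328 : Led Lsl_ft (LP (LK LD1_c29 LD2_c20 LD3_c26)) = (LP (LK LD1_c26 LD2_c19 LD3_c46)) :=
  Lgr Lrot48 (Lpr_ff (f589324 IH) (Lpn (LP (LK LD1_c26 LD2_c19 LD3_c46))))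

end

end K74

end

end Cfsg.Agent.Helper28.S1692
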