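import Cfsg.Agent.Lib.Helper28.S1692.Seeds74

set_option autoImplicit false
set_option maxRecDepth 100000
set_option linter.all false

namespace Cfsg.Agent.Helper28.S1692

open Cfsg.Agent.Helper28
open Cfsg.Spor.ON (Gen)

noncomputable section

namespace K75
abbrev LD1_c0 := D1.c0
abbrev LD1_c1 := D1.c1
abbrev LD1_c2 := D1.c2
abbrev LD1_c3 := D1.c3
abbrev LD1_c4 := D1.c4
abbrev LD1_c5 := D1.c5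
abbrev LD1_c6 := D1.c6
abbrev LD1_c7 := D1.c7
abbrev LD1_c8 := D1.c8
abbrev LD1_c9 := D1.c9
abbrev LD1_c10 := D1.c10
abbrev LD1_c11 := D1.c11
abbrev LD1_c12 := D1.c12
abbrev LD1_c13 := D1.c13
abbrev LD1_c14 := D1.c14
abbrev LD1_c15 := D1.c15
abbrev LD1_c16 := D1.c16
abbrev LD1_c17 := D1.c17
abbrev LD1_c18 := D1.c18
abbrev LD1_c19 := D1.c19
abbrev LD1_c20 := D1.c20
abbrev LD1_c21 := D1.c21
abbrev LD1_c22 := D1.c22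
abbrev LD1_c23 := D1.c23
abbrev LD1_c24 := D1.c24
abbrev LD1_c25 := D1.c25
abbrev LD1_c26 := D1.c26
abbrev LD1_c27 := D1.c27
abbrev LD1_c28 := D1.c28
abbrev LD1_c29 := D1.c29
abbrev LD1_c30 := D1.c30
abbrev LD1_c31 := D1.c31
abbrev LD1_c32 := D1.c32
abbrev LD2_c0 := D2.c0
abbrev LD2_c1 := D2.c1
abbrev LD2_c2 := D2.c2
abbrev LD2_c3 := D2.c3
abbrev LD2_c4 := D2.c4
abbrev LD2_c5 := D2.c5
abbrev LD2_c6 := D2.c6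
abbrev LD2_c7 := D2.c7
abbrev LD2_c8 := D2.c8
abbrev LD2_c9 := D2.c9
abbrev LD2_c10 := D2.c10
abbrev LD2_c11 := D2.c11
abbrev LD2_c12 := D2.c12
abbrev LD2_c13 := D2.c13
abbrev LD2_c14 := D2.c14
abbrev LD2_c15 := D2.c15
abbrev LD2_c16 := D2.c16
abbrev LD2_c17 := D2.c17
abbrev LD2_c18 := D2.c18
abbrev LD2_c19 := D2.c19
abbrev LD2_c20 := D2.c20
abbrev LD2_c21 := D2.c21
abbrev LD2_c22 := D2.c22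
abbrev LD2_c23 := D2.c23
abbrev LD2_c24 := D2.c24
abbrev LD2_c25 := D2.c25
abbrev LD2_c26 := D2.c26
abbrev LD2_c27 := D2.c27
abbrev LD2_c28 := D2.c28
abbrev LD2_c29 := D2.c29
abbrev LD2_c30 := D2.c30
abbrev LD2_c31 := D2.c31
abbrev LD2_c32 := D2.c32
abbrev LD2_c33 := D2.c33
abbrev LD2_c34 := D2.c34
abbrev LD2_c35 := D2.c35
abbrev LD2_c36 := D2.c36
abbrev LD2_c37 := D2.c37
abbrev LD2_c38 := D2.c38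
abbrev LD2_c39 := D2.c39
abbrev LD2_c40 := D2.c40
abbrev LD2_c41 := D2.c41
abbrev LD2_c42 := D2.c42
abbrev LD2_c43 := D2.c43
abbrev LD2_c44 := D2.c44
abbrev LD2_c45 := D2.c45
abbrev LD2_c46 := D2.c46
abbrev LD2_c47 := D2.c47
abbrev LD2_c48 := D2.c48
abbrev LD2_c49 := D2.c49
abbrev LD2_c50 := D2.c50
abbrev LD2_c51 := D2.c51
abbrev LD2_c52 := D2.c52
abbrev LD2_c53 := D2.c53
abbrev LD2_c54 := D2.c54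
abbrev LD2_c55 := D2.c55
abbrev LD2_c56 := D2.c56
abbrev LD2_c57 := D2.c57
abbrev LD2_c58 := D2.c58
abbrev LD2_c59 := D2.c59
abbrev LD3_c0 := D3.c0
abbrev LD3_c1 := D3.c1
abbrev LD3_c2 := D3.c2
abbrev LD3_c3 := D3.c3
abbrev LD3_c4 := D3.c4
abbrev LD3_c5 := D3.c5
abbrev LD3_c6 := D3.c6
abbrev LD3_c7 := D3.c7
abbrev LD3_c8 := D3.c8
abbrev LD3_c9 := D3.c9
abbrev LD3_c10 := D3.c10
abbrev LD3_c11 := D3.c11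
abbrev LD3_c12 := D3.c12
abbrev LD3_c13 := D3.c13
abbrev LD3_c14 := D3.c14
abbrev LD3_c15 := D3.c15
abbrev LD3_c16 := D3.c16
abbrev LD3_c17 := D3.c17
abbrev LD3_c18 := D3.c18
abbrev LD3_c19 := D3.c19
abbrev LD3_c20 := D3.c20
abbrev LD3_c21 := D3.c21
abbrev LD3_c22 := D3.c22
abbrev LD3_c23 := D3.c23
abbrev LD3_c24 := D3.c24
abbrev LD3_c25 := D3.c25
abbrev LD3_c26 := D3.c26
abbrev LD3_c27 := D3.c27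
abbrev LD3_c28 := D3.c28
abbrev LD3_c29 := D3.c29
abbrev LD3_c30 := D3.c30
abbrev LD3_c31 := D3.c31
abbrev LD3_c32 := D3.c32
abbrev LD3_c33 := D3.c33
abbrev LD3_c34 := D3.c34
abbrev LD3_c35 := D3.c35
abbrev LD3_c36 := D3.c36
abbrev LD3_c37 := D3.c37
abbrev LD3_c38 := D3.c38
abbrev LD3_c39 := D3.c39
abbrev LD3_c40 := D3.c40
abbrev LD3_c41 := D3.c41
abbrev LD3_c42 := D3.c42
abbrev LD3_c43 := D3.c43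
abbrev LD3_c44 := D3.c44
abbrev LD3_c45 := D3.c45
abbrev LD3_c46 := D3.c46
abbrev LD3_c47 := D3.c47
abbrev LD3_c48 := D3.c48
abbrev LD3_c49 := D3.c49
abbrev LD3_c50 := D3.c50
abbrev LD3_c51 := D3.c51
abbrev LD3_c52 := D3.c52
abbrev LD3_c53 := D3.c53
abbrev LD3_c54 := D3.c54
abbrev LD3_c55 := D3.c55
abbrev LD3_c56 := D3.c56
abbrev LD3_c57 := D3.c57
abbrev LD3_c58 := D3.c58
abbrev LD3_c59 := D3.c59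
abbrev LD3_c60 := D3.c60
abbrev LD3_c61 := D3.c61
abbrev LG_g := Gen.g
abbrev Lsl_gt : Gen × Bool := sl_gt
alias Lfl_gt := fl_gt
alias Lpr_gt := pr_gt
abbrev Lsl_gf : Gen × Bool := sl_gf
alias Lfl_gf := fl_gf
alias Lpr_gf := pr_gf
alias Lre_g := re_g
alias Leoe_g := eoe_g
abbrev LG_a := Gen.a
abbrev Lsl_at : Gen × Bool := sl_at
alias Lfl_at := fl_at
alias Lpr_at := pr_at
abbrev Lsl_af : Gen × Bool := sl_af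
alias Lfl_af := fl_af
alias Lpr_af := pr_af
alias Lre_a := re_a
alias Leoe_a := eoe_a
abbrev LG_b := Gen.b
abbrev Lsl_bt : Gen × Bool := sl_bt
alias Lfl_bt := fl_bt
alias Lpr_bt := pr_bt
abbrev Lsl_bf : Gen × Bool := sl_bf
alias Lfl_bf := fl_bf
alias Lpr_bf := pr_bf
alias Lre_b := re_b
alias Leoe_b := eoe_b
abbrev LG_c := Gen.c
abbrev Lsl_ct : Gen × Bool := sl_ct
alias Lfl_ct := fl_ct
alias Lpr_ct := pr_ct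
abbrev Lsl_cf : Gen × Bool := sl_cf
alias Lfl_cf := fl_cf
alias Lpr_cf := pr_cf
alias Lre_c := re_c
alias Leoe_c := eoe_c
abbrev LG_d := Gen.d
abbrev Lsl_dt : Gen × Bool := sl_dt
alias Lfl_dt := fl_dt
alias Lpr_dt := pr_dt
abbrev Lsl_df : Gen × Bool := sl_df
alias Lfl_df := fl_df
alias Lpr_df := pr_df
alias Lre_d := re_d
alias Leoe_d := eoe_d
abbrev LG_e := Gen.e
abbrev Lsl_et : Gen × Bool := sl_et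
alias Lfl_et := fl_et
alias Lpr_et := pr_et
abbrev Lsl_ef : Gen × Bool := sl_ef
alias Lfl_ef := fl_ef
alias Lpr_ef := pr_ef
alias Lre_e := re_e
alias Leoe_e := eoe_e
abbrev LG_f := Gen.f
abbrev Lsl_ft : Gen × Bool := sl_ft
alias Lfl_ft := fl_ft
alias Lpr_ft := pr_ft
abbrev Lsl_ff : Gen × Bool := sl_ff
alias Lfl_ff := fl_ff
alias Lpr_ff := pr_ff
alias Lre_f := re_f
alias Leoe_f := eoe_f
abbrev LK := Pt.mk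
abbrev LQ : Type := Qt rels S
abbrev LP (p : Pt) : LQ := P p
abbrev Led (l : Gen × Bool) (c : LQ) : LQ := ed l c
abbrev LEOK (x : Gen) (p : Pt) : Prop := EntryOK rels S fwd inv o plet idx x p
alias Lpe := pe
alias Lpn := pn
alias Lgr := gr
alias Lpq := pq
alias Lpqs := pqs
alias Llr := lr
alias Leop := eop
alias Lefun := efun
alias Lecon := econ
theorem Lrfl {α : Sort _} {a : α} : a = a := rfl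
alias Lrot0 := rot0
alias Lrot1 := rot1
alias Lrot2 := rot2
alias Lrot3 := rot3
alias Lrot4 := rot4
alias Lrot5 := rot5
alias Lrot7 := rot7
alias Lrot8 := rot8
alias Lrot9 := rot9
alias Lrot10 := rot10
alias Lrot11 := rot11
alias Lrot12 := rot12
alias Lrot14 := rot14
alias Lrot15 := rot15
alias Lrot17 := rot17
alias Lrot18 := rot18
alias Lrot19 := rot19
alias Lrot20 := rot20
alias Lrot21 := rot21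
alias Lrot22 := rot22
alias Lrot23 := rot23
alias Lrot24 := rot24
alias Lrot25 := rot25
alias Lrot26 := rot26
alias Lrot27 := rot27
alias Lrot28 := rot28
alias Lrot29 := rot29
alias Lrot30 := rot30
alias Lrot31 := rot31
alias Lrot32 := rot32
alias Lrot34 := rot34
alias Lrot35 := rot35
alias Lrot36 := rot36
alias Lrot37 := rot37
alias Lrot38 := rot38
alias Lrot39 := rot39
alias Lrot40 := rot40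
alias Lrot42 := rot42
alias Lrot44 := rot44
alias Lrot45 := rot45
alias Lrot46 := rot46
alias Lrot47 := rot47
alias Lrot48 := rot48
alias Lrot49 := rot49
alias Lrot50 := rot50
alias Lrot51 := rot51
alias Lrot52 := rot52
alias Lrot54 := rot54
alias Lrot55 := rot55
alias Lrot56 := rot56
alias Lrot57 := rot57
alias Lrot58 := rot58
alias Lrot59 := rot59
alias Lrot60 := rot60
alias Lrot61 := rot61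
alias Lrot62 := rot62
alias Lrot63 := rot63
alias Lrot64 := rot64
alias Lrot65 := rot65
alias Lrot66 := rot66
alias Lrot67 := rot67
alias Lrot68 := rot68
alias Lrot69 := rot69
alias Lrot70 := rot70
alias Lrot71 := rot71
alias Lrot72 := rot72
alias Lrot73 := rot73
alias Lrot74 := rot74
alias Lrot75 := rot75
alias Lrot76 := rot76
alias Lrot77 := rot77
alias Lrot78 := rot78
alias Lrot79 := rot79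
alias Lrot80 := rot80
alias Lrot81 := rot81
alias Lrot82 := rot82
alias Lrot83 := rot83
alias Lrot86 := rot86
alias Lrot87 := rot87
alias Lrot88 := rot88
alias Lrot90 := rot90
alias Lrot91 := rot91
alias Lrot92 := rot92
alias Lrot93 := rot93
alias Lrot95 := rot95
alias Lrot96 := rot96
alias Lrot97 := rot97
alias Lrot99 := rot99
alias Lrot100 := rot100
alias Lrot101 := rot101
alias Lrot104 := rot104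
alias Lrot105 := rot105
alias Lrot107 := rot107
alias Lrot108 := rot108
alias Lrot109 := rot109
alias Lrot110 := rot110
alias Lrot111 := rot111
alias Lrot112 := rot112
alias Lrot113 := rot113
alias Lrot114 := rot114
alias Lrot116 := rot116
alias Lrot117 := rot117
alias Lrot118 := rot118
alias Lrot119 := rot119
alias Lrot121 := rot121
alias Lrot122 := rot122
alias Lrot123 := rot123
alias Lrot124 := rot124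
alias Lrot125 := rot125
alias Lrot126 := rot126
alias Lrot127 := rot127
alias Lrot128 := rot128
alias Lrot129 := rot129
alias Lrot130 := rot130
alias Lrot131 := rot131
alias Lrot132 := rot132
alias Lrot134 := rot134
alias Lrot135 := rot135
alias Lrot136 := rot136
alias Lrot137 := rot137
alias Lrot138 := rot138
alias Lrot139 := rot139
alias Lrot140 := rot140
alias Lrot141 := rot141
alias Lrot142 := rot142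
alias Lrot143 := rot143
alias Lrot144 := rot144
alias Lrot145 := rot145
alias Lrot146 := rot146
alias Lrot147 := rot147
alias Lrot148 := rot148
alias Lrot149 := rot149
alias Lrot150 := rot150
alias Lrot152 := rot152
alias Lrot153 := rot153
alias Lrot154 := rot154
alias Lrot155 := rot155
alias Lrot156 := rot156
alias Lrot158 := rot158
alias Lrot160 := rot160
alias Lrot163 := rot163
alias Lrot164 := rot164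
alias Lrot166 := rot166
alias Lrot167 := rot167
alias Lrot168 := rot168
alias Lrot169 := rot169
alias Lrot170 := rot170
alias Lrot171 := rot171
alias Lrot179 := rot179
alias Lrot180 := rot180
alias Lrot181 := rot181
alias Lrot182 := rot182
alias Lrot185 := rot185
alias Lrot186 := rot186
alias Lrot187 := rot187
alias Lrot188 := rot188

section
variable (IH : IHT)
include IH

theorem f589330 : Led Lsl_ff (LP (LK LD1_c20 LD2_c10 LD3_c51)) = (LP (LK LD1_c16 LD2_c21 LD3_c43)) :=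
  Lgr Lrot19 (Lpe (K41.f424347 IH) (Lpr_ft (K74.f589328 IH) (Lpr_dt (K45.f427560 IH) (Lpn (LP (LK LD1_c16 LD2_c21 LD3_c43))))))
theorem f589334 : Led Lsl_at (LP (LK LD1_c20 LD2_c10 LD3_c51)) = (LP (LK LD1_c16 LD2_c21 LD3_c44)) :=
  Lgr Lrot26 (Lpr_ff (f589330 IH) (Lpr_gt (K45.f571024 IH) (Lpe (K43.f566695 IH) (Lpn (LP (LK LD1_c16 LD2_c21 LD3_c44))))))
theorem f589338 : Led Lsl_af (LP (LK LD1_c11 LD2_c23 LD3_c11)) = (LP (LK LD1_c8 LD2_c44 LD3_c25)) :=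
  Lgr Lrot68 (Lpr_ct (K42.f552665 IH) (Lpr_at (f589334 IH) (Lpr_ct (K43.f542238 IH) (Lpn (LP (LK LD1_c8 LD2_c44 LD3_c25))))))
theorem f552661 : Led Lsl_et (LP (LK LD1_c11 LD2_c23 LD3_c11)) = (LP (LK LD1_c20 LD2_c20 LD3_c54)) :=
  Lre_e IH (LK LD1_c11 LD2_c23 LD3_c11) (LK LD1_c20 LD2_c20 LD3_c54) Lrfl Lrfl
theorem f552597 : Led Lsl_et (LP (LK LD1_c16 LD2_c21 LD3_c45)) = (LP (LK LD1_c8 LD2_c44 LD3_c25)) :=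
  Lre_e IH (LK LD1_c16 LD2_c21 LD3_c45) (LK LD1_c8 LD2_c44 LD3_c25) Lrfl Lrfl
theorem f589344 : Led Lsl_at (LP (LK LD1_c20 LD2_c20 LD3_c54)) = (LP (LK LD1_c16 LD2_c21 LD3_c45)) :=
  Lgr Lrot80 (Lpe (f552661 IH) (Lpr_af (f589338 IH) (Lpe (f552597 IH) (Lpn (LP (LK LD1_c16 LD2_c21 LD3_c45))))))
theorem f587190 : Led Lsl_et (LP (LK LD1_c13 LD2_c27 LD3_c56)) = (LP (LK LD1_c20 LD2_c20 LD3_c53)) :=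
  Lgr Lrot87 (Lpr_ef (K45.f587182 IH) (Lpn (LP (LK LD1_c20 LD2_c20 LD3_c53))))
theorem f587192 : Led Lsl_bf (LP (LK LD1_c13 LD2_c27 LD3_c56)) = (LP (LK LD1_c20 LD2_c20 LD3_c54)) :=
  Lgr Lrot96 (Lpr_et (f587190 IH) (Lpr_bt (K45.f241341 IH) (Lpr_et (f552661 IH) (Lpn (LP (LK LD1_c20 LD2_c20 LD3_c54))))))
theorem f587196 : Led Lsl_dt (LP (LK LD1_c13 LD2_c27 LD3_c52)) = (LP (LK LD1_c20 LD2_c20 LD3_c54)) :=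
  Lgr Lrot79 (Lpe (K41.f96550 IH) (Lpe (K45.f96555 IH) (Lpr_bf (f587192 IH) (Lpn (LP (LK LD1_c20 LD2_c20 LD3_c54))))))
theorem f589353 : Led Lsl_df (LP (LK LD1_c13 LD2_c9 LD3_c47)) = (LP (LK LD1_c16 LD2_c21 LD3_c45)) :=
  Lgr Lrot18 (Lpr_at (K41.f502677 IH) (Lpr_dt (f587196 IH) (Lpr_at (f589344 IH) (Lpn (LP (LK LD1_c16 LD2_c21 LD3_c45))))))
theorem f589359 : Led Lsl_dt (LP (LK LD1_c13 LD2_c9 LD3_c47)) = (LP (LK LD1_c16 LD2_c21 LD3_c45)) :=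
  Lgr Lrot42 (Lpr_df (f589353 IH) (Lpn (LP (LK LD1_c16 LD2_c21 LD3_c45))))
theorem f610484 : Led Lsl_gt (LP (LK LD1_c16 LD2_c21 LD3_c45)) = (LP (LK LD1_c22 LD2_c51 LD3_c50)) :=
  Lgr Lrot49 (Lpe (f589359 IH) (Lpe (K41.f564416 IH) (Lpr_cf (K29.f471265 IH) (Lpe (K29.f460297 IH) (Lpr_dt (K29.f104071 IH) (Lpr_gt (K74.f460369 IH) (Lpr_dt (K74.f610481 IH) (Lpe (K62.f514255 IH) (Lpe (K62.f609273 IH) (Lpn (LP (LK LD1_c22 LD2_c51 LD3_c50))))))))))))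
theorem f546971 : Led Lsl_et (LP (LK LD1_c30 LD2_c45 LD3_c54)) = (LP (LK LD1_c22 LD2_c51 LD3_c50)) :=
  Lre_e IH (LK LD1_c30 LD2_c45 LD3_c54) (LK LD1_c22 LD2_c51 LD3_c50) Lrfl Lrfl
theorem f546965 : Led Lsl_bt (LP (LK LD1_c22 LD2_c51 LD3_c51)) = (LP (LK LD1_c30 LD2_c45 LD3_c54)) :=
  Lre_b IH (LK LD1_c22 LD2_c51 LD3_c51) (LK LD1_c30 LD2_c45 LD3_c54) Lrfl Lrfl
theorem f69402 : Led Lsl_bt (LP (LK LD1_c29 LD2_c53 LD3_c6)) = (LP (LK LD1_c21 LD2_c10 LD3_c48)) :=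
  Lre_b IH (LK LD1_c29 LD2_c53 LD3_c6) (LK LD1_c21 LD2_c10 LD3_c48) Lrfl Lrfl
theorem f546966 : Led Lsl_dt (LP (LK LD1_c30 LD2_c45 LD3_c54)) = (LP (LK LD1_c29 LD2_c53 LD3_c6)) :=
  Lgr Lrot79 (Lpe (f546965 IH) (Lpr_df (K47.f546962 IH) (Lpe (f69402 IH) (Lpn (LP (LK LD1_c29 LD2_c53 LD3_c6))))))
theorem f593086 : Led Lsl_df (LP (LK LD1_c11 LD2_c15 LD3_c5)) = (LP (LK LD1_c5 LD2_c46 LD3_c28)) :=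
  Lgr Lrot168 (Lpe (K45.f423876 IH) (Lpe (K36.f423865 IH) (Lpqs (K38.f549225 IH) (Lpe (K36.f500502 IH) (Lpe (K8.f161074 IH) (Lpe (K45.f161086 IH) (Lpr_dt (K39.f161087 IH) (Lpe (K45.f161088 IH) (Lpe (K45.f570725 IH) (Lpr_gf (K45.f593082 IH) (Lpe (K45.f99761 IH) (Lpn (LP (LK LD1_c5 LD2_c46 LD3_c28))))))))))))))
theorem f99768 : Led Lsl_et (LP (LK LD1_c26 LD2_c20 LD3_c14)) = (LP (LK LD1_c16 LD2_c22 LD3_c21)) :=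
  Lre_e IH (LK LD1_c26 LD2_c20 LD3_c14) (LK LD1_c16 LD2_c22 LD3_c21) Lrfl Lrfl
theorem f957079 : Led Lsl_df (LP (LK LD1_c26 LD2_c20 LD3_c14)) = K74.v47141 :=
  Lgr Lrot70 (Lpr_et (f99768 IH) (Lpe (K45.f99759 IH) (Lpr_et (K45.f99754 IH) (Lpe (f593086 IH) (Lpr_et (K74.f957077 IH) (Lpn K74.v47141))))))
theorem f957083 : Led Lsl_gt (LP (LK LD1_c29 LD2_c53 LD3_c6)) = (LP (LK LD1_c26 LD2_c20 LD3_c14)) :=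
  Lgr Lrot112 (Lpe (f546966 IH) (Lpr_et (f546971 IH) (Lpe (f610484 IH) (Lpe (K74.f542242 IH) (Lpr_dt (K39.f542241 IH) (Lpe (K39.f542234 IH) (Lpe (K31.f172503 IH) (Lpe (K51.f588658 IH) (Lpr_ef (K74.f957080 IH) (Lpe (f957079 IH) (Lpn (LP (LK LD1_c26 LD2_c20 LD3_c14)))))))))))))
theorem f957084 : Led Lsl_gt (LP (LK LD1_c29 LD2_c53 LD3_c6)) = (LP (LK LD1_c26 LD2_c20 LD3_c14)) :=
  Leop (Lpe (f957083 IH) (Lpn (LP (LK LD1_c29 LD2_c53 LD3_c6))))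
theorem seed_2793 : LEOK LG_g (LK LD1_c29 LD2_c53 LD3_c6) :=
  Leoe_g (LK LD1_c29 LD2_c53 LD3_c6) (f957084 IH)
def v47173 : LQ := Led Lsl_ft (LP (LK LD1_c11 LD2_c15 LD3_c43))
theorem f957229 : Led Lsl_ft (LP (LK LD1_c11 LD2_c15 LD3_c43)) = v47173 :=
  Lrfl
theorem f957231 : Led Lsl_ff (LP (LK LD1_c11 LD2_c15 LD3_c43)) = v47173 :=
  Lgr Lrot3 (Lpr_ft (f957229 IH) (Lpn v47173))
theorem f281996 : Led Lsl_et (LP (LK LD1_c5 LD2_c42 LD3_c44)) = (LP (LK LD1_c11 LD2_c15 LD3_c43)) :=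
  Lre_e IH (LK LD1_c5 LD2_c42 LD3_c44) (LK LD1_c11 LD2_c15 LD3_c43) Lrfl Lrfl
theorem f552813 : Led Lsl_af (LP (LK LD1_c13 LD2_c30 LD3_c5)) = (LP (LK LD1_c11 LD2_c15 LD3_c43)) :=
  Lgr Lrot50 (Lpr_et (K39.f552810 IH) (Lpr_at (K16.f280260 IH) (Lpr_et (f281996 IH) (Lpn (LP (LK LD1_c11 LD2_c15 LD3_c43))))))
theorem f460334 : Led Lsl_gt (LP (LK LD1_c22 LD2_c50 LD3_c58)) = (LP (LK LD1_c13 LD2_c30 LD3_c5)) :=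
  Lre_g IH (LK LD1_c22 LD2_c50 LD3_c58) (LK LD1_c13 LD2_c30 LD3_c5) Lrfl Lrfl
theorem f957233 : Led Lsl_gf (LP (LK LD1_c22 LD2_c50 LD3_c58)) = v47173 :=
  Lgr Lrot47 (Lpr_gt (f460334 IH) (Lpr_af (f552813 IH) (Lpr_ff (f957231 IH) (Lpn v47173))))
theorem f553060 : Led Lsl_dt (LP (LK LD1_c22 LD2_c50 LD3_c58)) = (LP (LK LD1_c30 LD2_c45 LD3_c27)) :=
  Lre_d IH (LK LD1_c22 LD2_c50 LD3_c58) (LK LD1_c30 LD2_c45 LD3_c27) Lrfl Lrfl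
theorem f172792 : Led Lsl_ft (LP (LK LD1_c5 LD2_c42 LD3_c45)) = (LP (LK LD1_c11 LD2_c15 LD3_c46)) :=
  Lre_f IH (LK LD1_c5 LD2_c42 LD3_c45) (LK LD1_c11 LD2_c15 LD3_c46) Lrfl Lrfl
theorem f957232 : Led Lsl_ct (LP (LK LD1_c11 LD2_c15 LD3_c46)) = v47173 :=
  Lgr Lrot40 (Lpe (f172792 IH) (Lpe (K39.f172770 IH) (Lpr_ff (f957231 IH) (Lpn v47173))))
theorem f511791 : Led Lsl_dt (LP (LK LD1_c31 LD2_c1 LD3_c16)) = (LP (LK LD1_c23 LD2_c21 LD3_c51)) :=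
  Lre_d IH (LK LD1_c31 LD2_c1 LD3_c16) (LK LD1_c23 LD2_c21 LD3_c51) Lrfl Lrfl
theorem f957234 : Led Lsl_gt (LP (LK LD1_c30 LD2_c45 LD3_c27)) = (LP (LK LD1_c31 LD2_c1 LD3_c16)) :=
  Lgr Lrot49 (Lpe (f553060 IH) (Lpr_gf (f957233 IH) (Lpe (f957232 IH) (Lpr_gt (K41.f564860 IH) (Lpe (K35.f11568 IH) (Lpr_gt (K47.f566282 IH) (Lpr_dt (K47.f511818 IH) (Lpe (K47.f511790 IH) (Lpe (f511791 IH) (Lpn (LP (LK LD1_c31 LD2_c1 LD3_c16))))))))))))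
theorem f957235 : Led Lsl_gt (LP (LK LD1_c30 LD2_c45 LD3_c27)) = (LP (LK LD1_c31 LD2_c1 LD3_c16)) :=
  Leop (Lpe (f957234 IH) (Lpn (LP (LK LD1_c30 LD2_c45 LD3_c27))))
theorem seed_2794 : LEOK LG_g (LK LD1_c30 LD2_c45 LD3_c27) :=
  Leoe_g (LK LD1_c30 LD2_c45 LD3_c27) (f957235 IH)
theorem f957238 : Led Lsl_gt (LP (LK LD1_c22 LD2_c50 LD3_c57)) = v47173 :=
  Lgr Lrot65 (Lpe (K47.f566251 IH) (Lpr_bt (K47.f181392 IH) (Lpe (K47.f181391 IH) (Lpr_bf (K46.f181376 IH) (Lpe (K39.f411529 IH) (Lpr_gf (K39.f552881 IH) (Lpe (K39.f418030 IH) (Lpe (K39.f418028 IH) (Lpr_bf (K39.f172787 IH) (Lpr_ct (f957232 IH) (Lpn v47173)))))))))))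
theorem f552826 : Led Lsl_dt (LP (LK LD1_c22 LD2_c50 LD3_c57)) = (LP (LK LD1_c30 LD2_c45 LD3_c24)) :=
  Lre_d IH (LK LD1_c22 LD2_c50 LD3_c57) (LK LD1_c30 LD2_c45 LD3_c24) Lrfl Lrfl
theorem f530966 : Led Lsl_df (LP (LK LD1_c30 LD2_c54 LD3_c1)) = (LP (LK LD1_c31 LD2_c32 LD3_c0)) :=
  Lgr Lrot38 (Lpr_dt (K47.f530964 IH) (Lpn (LP (LK LD1_c31 LD2_c32 LD3_c0))))
theorem f566333 : Led Lsl_gf (LP (LK LD1_c31 LD2_c32 LD3_c0)) = (LP (LK LD1_c30 LD2_c45 LD3_c24)) :=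
  Lgr Lrot143 (Lpe (f530966 IH) (Lpe (K47.f471972 IH) (Lpe (K47.f566331 IH) (Lpr_gf (K47.f566327 IH) (Lpe (K62.f566311 IH) (Lpe (K41.f89726 IH) (Lpe (K29.f460321 IH) (Lpr_gt (K47.f493680 IH) (Lpr_dt (f552826 IH) (Lpn (LP (LK LD1_c30 LD2_c45 LD3_c24))))))))))))
theorem f957230 : Led Lsl_cf (LP (LK LD1_c11 LD2_c15 LD3_c46)) = v47173 :=
  Lgr Lrot108 (Lpr_ft (K39.f172773 IH) (Lpr_ct (K62.f172780 IH) (Lpr_ft (f957229 IH) (Lpn v47173))))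
theorem f957239 : Led Lsl_gt (LP (LK LD1_c24 LD2_c26 LD3_c60)) = (LP (LK LD1_c31 LD2_c27 LD3_c12)) :=
  Lgr Lrot150 (Lpe (K47.f460080 IH) (Lpr_gf (f566333 IH) (Lpe (f552826 IH) (Lpr_gt (f957238 IH) (Lpe (f957230 IH) (Lpr_gt (K41.f564860 IH) (Lpr_ct (K47.f11626 IH) (Lpe (K35.f11630 IH) (Lpe (K35.f512970 IH) (Lpn (LP (LK LD1_c31 LD2_c27 LD3_c12))))))))))))
theorem f957240 : Led Lsl_gt (LP (LK LD1_c24 LD2_c26 LD3_c60)) = (LP (LK LD1_c31 LD2_c27 LD3_c12)) :=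
  Leop (Lpe (f957239 IH) (Lpn (LP (LK LD1_c24 LD2_c26 LD3_c60))))
theorem seed_2795 : LEOK LG_g (LK LD1_c24 LD2_c26 LD3_c60) :=
  Leoe_g (LK LD1_c24 LD2_c26 LD3_c60) (f957240 IH)
def v47213 : LQ := Led Lsl_ft (LP (LK LD1_c11 LD2_c16 LD3_c28))
theorem f957401 : Led Lsl_ft (LP (LK LD1_c11 LD2_c16 LD3_c28)) = v47213 :=
  Lrfl
theorem f738191 : Led Lsl_gt (LP (LK LD1_c14 LD2_c8 LD3_c16)) = (LP (LK LD1_c23 LD2_c42 LD3_c44)) :=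
  Lre_g IH (LK LD1_c14 LD2_c8 LD3_c16) (LK LD1_c23 LD2_c42 LD3_c44) Lrfl Lrfl
theorem f957404 : Led Lsl_af (LP (LK LD1_c23 LD2_c42 LD3_c44)) = v47213 :=
  Lgr Lrot31 (Lpe (f738191 IH) (Lpr_gf (K54.f738189 IH) (Lpr_ft (f957401 IH) (Lpn v47213))))
theorem f957406 : Led Lsl_ft (LP (LK LD1_c23 LD2_c42 LD3_c44)) = (LP (LK LD1_c20 LD2_c12 LD3_c28)) :=
  Lgr Lrot101 (Lpr_af (f957404 IH) (Lpe (f957401 IH) (Lpe (K41.f412052 IH) (Lpn (LP (LK LD1_c20 LD2_c12 LD3_c28))))))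
theorem f957407 : Led Lsl_ft (LP (LK LD1_c23 LD2_c42 LD3_c44)) = (LP (LK LD1_c20 LD2_c12 LD3_c28)) :=
  Leop (Lpe (f957406 IH) (Lpn (LP (LK LD1_c23 LD2_c42 LD3_c44))))
theorem seed_2796 : LEOK LG_f (LK LD1_c23 LD2_c42 LD3_c44) :=
  Leoe_f (LK LD1_c23 LD2_c42 LD3_c44) (f957407 IH)
theorem f957403 : Led Lsl_ff (LP (LK LD1_c11 LD2_c16 LD3_c28)) = v47213 :=
  Lgr Lrot3 (Lpr_ft (f957401 IH) (Lpn v47213))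
theorem f957420 : Led Lsl_bt K56.v15599 = v47213 :=
  Lgr Lrot35 (Lpe (K56.f738208 IH) (Lpe (K41.f412051 IH) (Lpr_ff (f957403 IH) (Lpn v47213))))
theorem f698478 : Led Lsl_gf (LP (LK LD1_c5 LD2_c43 LD3_c6)) = K69.v12835 :=
  Lgr Lrot76 (Lpr_af (K39.f268762 IH) (Lpe (K74.f396343 IH) (Lpr_gt (K69.f698477 IH) (Lpn K69.v12835))))
def v16072 : LQ := Led Lsl_gt (LP (LK LD1_c5 LD2_c52 LD3_c18))
theorem f745172 : Led Lsl_gt (LP (LK LD1_c5 LD2_c52 LD3_c18)) = v16072 :=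
  Lrfl
theorem f737910 : Led Lsl_at (LP (LK LD1_c11 LD2_c31 LD3_c21)) = K55.v15537 :=
  Lgr Lrot66 (Lpe (K54.f22646 IH) (Lpr_af (K55.f638899 IH) (Lpr_ff (K55.f737909 IH) (Lpn K55.v15537))))
theorem f745173 : Led Lsl_gf K55.v15537 = v16072 :=
  Lgr Lrot76 (Lpe (f737910 IH) (Lpe (K54.f22646 IH) (Lpr_gt (f745172 IH) (Lpn v16072))))
theorem f737908 : Led Lsl_cf (LP (LK LD1_c5 LD2_c41 LD3_c14)) = K55.v15537 :=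
  Lgr Lrot11 (Lpr_ct (K55.f737906 IH) (Lpn K55.v15537))
theorem f319887 : Led Lsl_gt (LP (LK LD1_c8 LD2_c58 LD3_c28)) = (LP (LK LD1_c5 LD2_c33 LD3_c20)) :=
  Lgr Lrot46 (Lpe (K69.f319886 IH) (Lpr_ft (K40.f319855 IH) (Lpr_at (K40.f319876 IH) (Lpn (LP (LK LD1_c5 LD2_c33 LD3_c20))))))
theorem f745174 : Led Lsl_ct K69.v12835 = v16072 :=
  Lgr Lrot152 (Lpe (K69.f698477 IH) (Lpe (K20.f177742 IH) (Lpr_gt (K51.f175526 IH) (Lpr_ct (K69.f698443 IH) (Lpqs (K69.f743454 IH) (Lpr_gt (f319887 IH) (Lpr_ct (K68.f225763 IH) (Lpe (K50.f225765 IH) (Lpr_cf (f737908 IH) (Lpr_gf (f745173 IH) (Lpn v16072)))))))))))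
theorem f745175 : Led Lsl_cf K69.v12835 = v16072 :=
  Lgr Lrot11 (Lpr_ct (f745174 IH) (Lpn v16072))
theorem f206396 : Led Lsl_ct (LP (LK LD1_c3 LD2_c14 LD3_c12)) = (LP (LK LD1_c3 LD2_c42 LD3_c57)) :=
  Lgr Lrot40 (Lpe (K54.f22645 IH) (Lpr_cf (K55.f206392 IH) (Lpe (K7.f147656 IH) (Lpn (LP (LK LD1_c3 LD2_c42 LD3_c57))))))
theorem f206418 : Led Lsl_gt (LP (LK LD1_c7 LD2_c26 LD3_c39)) = (LP (LK LD1_c3 LD2_c42 LD3_c57)) :=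
  Lre_g IH (LK LD1_c7 LD2_c26 LD3_c39) (LK LD1_c3 LD2_c42 LD3_c57) Lrfl Lrfl
theorem f206419 : Led Lsl_ct (LP (LK LD1_c14 LD2_c4 LD3_c15)) = (LP (LK LD1_c7 LD2_c26 LD3_c39)) :=
  Lre_c IH (LK LD1_c14 LD2_c4 LD3_c15) (LK LD1_c7 LD2_c26 LD3_c39) Lrfl Lrfl
theorem f206420 : Led Lsl_bt (LP (LK LD1_c14 LD2_c4 LD3_c15)) = (LP (LK LD1_c23 LD2_c37 LD3_c37)) :=
  Lre_b IH (LK LD1_c14 LD2_c4 LD3_c15) (LK LD1_c23 LD2_c37 LD3_c37) Lrfl Lrfl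
theorem f957421 : Led Lsl_gf (LP (LK LD1_c23 LD2_c37 LD3_c37)) = v47213 :=
  Lgr Lrot124 (Lpe (f206420 IH) (Lpr_ct (f206419 IH) (Lpr_gt (f206418 IH) (Lpe (f206396 IH) (Lpr_bt (K54.f22635 IH) (Lpr_gt (f745172 IH) (Lpe (f745175 IH) (Lpe (f698478 IH) (Lpr_cf (K56.f738209 IH) (Lpr_bt (f957420 IH) (Lpn v47213)))))))))))
theorem f412079 : Led Lsl_at (LP (LK LD1_c11 LD2_c16 LD3_c28)) = (LP (LK LD1_c20 LD2_c12 LD3_c28)) :=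
  Lre_a IH (LK LD1_c11 LD2_c16 LD3_c28) (LK LD1_c20 LD2_c12 LD3_c28) Lrfl Lrfl
theorem f957422 : Led Lsl_gt (LP (LK LD1_c23 LD2_c37 LD3_c37)) = (LP (LK LD1_c20 LD2_c12 LD3_c28)) :=
  Lgr Lrot46 (Lpr_gf (f957421 IH) (Lpe (f957403 IH) (Lpr_at (f412079 IH) (Lpn (LP (LK LD1_c20 LD2_c12 LD3_c28))))))
theorem f957423 : Led Lsl_gt (LP (LK LD1_c23 LD2_c37 LD3_c37)) = (LP (LK LD1_c20 LD2_c12 LD3_c28)) :=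
  Leop (Lpe (f957422 IH) (Lpn (LP (LK LD1_c23 LD2_c37 LD3_c37))))
theorem seed_2797 : LEOK LG_g (LK LD1_c23 LD2_c37 LD3_c37) :=
  Leoe_g (LK LD1_c23 LD2_c37 LD3_c37) (f957423 IH)
def v47216 : LQ := Led Lsl_ft (LP (LK LD1_c11 LD2_c16 LD3_c31))
theorem f957439 : Led Lsl_ft (LP (LK LD1_c11 LD2_c16 LD3_c31)) = v47216 :=
  Lrfl
theorem f406392 : Led Lsl_ft (LP (LK LD1_c11 LD2_c29 LD3_c11)) = (LP (LK LD1_c5 LD2_c50 LD3_c43)) :=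
  Lre_f IH (LK LD1_c11 LD2_c29 LD3_c11) (LK LD1_c5 LD2_c50 LD3_c43) Lrfl Lrfl
theorem f957441 : Led Lsl_cf (LP (LK LD1_c11 LD2_c29 LD3_c11)) = v47216 :=
  Lgr Lrot108 (Lpr_ft (f406392 IH) (Lpr_ct (K53.f494547 IH) (Lpr_ft (f957439 IH) (Lpn v47216))))
theorem f599550 : Led Lsl_at (LP (LK LD1_c9 LD2_c10 LD3_c26)) = (LP (LK LD1_c11 LD2_c29 LD3_c11)) :=
  Lgr Lrot100 (Lpr_af (K55.f599546 IH) (Lpn (LP (LK LD1_c11 LD2_c29 LD3_c11))))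
theorem f599552 : Led Lsl_gt (LP (LK LD1_c9 LD2_c10 LD3_c24)) = (LP (LK LD1_c11 LD2_c29 LD3_c11)) :=
  Lgr Lrot46 (Lpe (K55.f494389 IH) (Lpr_ft (K55.f599525 IH) (Lpr_at (f599550 IH) (Lpn (LP (LK LD1_c11 LD2_c29 LD3_c11))))))
theorem f711503 : Led Lsl_cf (LP (LK LD1_c9 LD2_c10 LD3_c24)) = (LP (LK LD1_c5 LD2_c52 LD3_c19)) :=
  Lgr Lrot11 (Lpr_ct (K55.f711501 IH) (Lpn (LP (LK LD1_c5 LD2_c52 LD3_c19))))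
theorem f22510 : Led Lsl_bt (LP (LK LD1_c1 LD2_c33 LD3_c39)) = (LP (LK LD1_c2 LD2_c52 LD3_c29)) :=
  Lgr Lrot128 (Lpe (K58.f22507 IH) (Lpe (K0.f22506 IH) (Lpr_cf (K7.f22493 IH) (Lpe (K55.f22508 IH) (Lpe (K55.f22509 IH) (Lpn (LP (LK LD1_c2 LD2_c52 LD3_c29))))))))
theorem f22746 : Led Lsl_ct (LP (LK LD1_c3 LD2_c14 LD3_c21)) = (LP (LK LD1_c1 LD2_c33 LD3_c41)) :=
  Lre_c IH (LK LD1_c3 LD2_c14 LD3_c21) (LK LD1_c1 LD2_c33 LD3_c41) Lrfl Lrfl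
theorem f22747 : Led Lsl_bt (LP (LK LD1_c3 LD2_c14 LD3_c21)) = (LP (LK LD1_c6 LD2_c32 LD3_c24)) :=
  Lre_b IH (LK LD1_c3 LD2_c14 LD3_c21) (LK LD1_c6 LD2_c32 LD3_c24) Lrfl Lrfl
theorem f22748 : Led Lsl_gt (LP (LK LD1_c12 LD2_c32 LD3_c26)) = (LP (LK LD1_c6 LD2_c32 LD3_c24)) :=
  Lre_g IH (LK LD1_c12 LD2_c32 LD3_c26) (LK LD1_c6 LD2_c32 LD3_c24) Lrfl Lrfl
theorem f957447 : Led Lsl_bf (LP (LK LD1_c12 LD2_c32 LD3_c26)) = v47216 :=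
  Lgr Lrot156 (Lpr_gt (f22748 IH) (Lpe (f22747 IH) (Lpr_ct (f22746 IH) (Lpr_gt (K46.f22737 IH) (Lpe (K58.f22584 IH) (Lpr_bt (f22510 IH) (Lpr_gt (K55.f22740 IH) (Lpe (f711503 IH) (Lpr_gt (f599552 IH) (Lpr_cf (f957441 IH) (Lpn v47216)))))))))))
theorem f540138 : Led Lsl_bt (LP (LK LD1_c14 LD2_c4 LD3_c47)) = (LP (LK LD1_c11 LD2_c16 LD3_c31)) :=
  Lgr Lrot127 (Lpr_bf (K55.f540136 IH) (Lpn (LP (LK LD1_c11 LD2_c16 LD3_c31))))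
theorem f957449 : Led Lsl_ft (LP (LK LD1_c12 LD2_c32 LD3_c26)) = (LP (LK LD1_c14 LD2_c4 LD3_c47)) :=
  Lgr Lrot75 (Lpr_bf (f957447 IH) (Lpe (f957439 IH) (Lpe (f540138 IH) (Lpn (LP (LK LD1_c14 LD2_c4 LD3_c47))))))
theorem f957450 : Led Lsl_ft (LP (LK LD1_c12 LD2_c32 LD3_c26)) = (LP (LK LD1_c14 LD2_c4 LD3_c47)) :=
  Leop (Lpe (f957449 IH) (Lpn (LP (LK LD1_c12 LD2_c32 LD3_c26))))
theorem seed_2798 : LEOK LG_f (LK LD1_c12 LD2_c32 LD3_c26) :=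
  Leoe_f (LK LD1_c12 LD2_c32 LD3_c26) (f957450 IH)
def v47231 : LQ := Led Lsl_ft (LP (LK LD1_c11 LD2_c16 LD3_c43))
theorem f957526 : Led Lsl_ft (LP (LK LD1_c11 LD2_c16 LD3_c43)) = v47231 :=
  Lrfl
theorem f381596 : Led Lsl_gt (LP (LK LD1_c11 LD2_c16 LD3_c43)) = (LP (LK LD1_c20 LD2_c12 LD3_c42)) :=
  Lre_g IH (LK LD1_c11 LD2_c16 LD3_c43) (LK LD1_c20 LD2_c12 LD3_c42) Lrfl Lrfl
theorem f382202 : Led Lsl_at (LP (LK LD1_c5 LD2_c43 LD3_c32)) = (LP (LK LD1_c11 LD2_c16 LD3_c43)) :=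
  Lre_a IH (LK LD1_c5 LD2_c43 LD3_c32) (LK LD1_c11 LD2_c16 LD3_c43) Lrfl Lrfl
theorem f622093 : Led Lsl_ft (LP (LK LD1_c11 LD2_c17 LD3_c12)) = (LP (LK LD1_c5 LD2_c43 LD3_c32)) :=
  Lre_f IH (LK LD1_c11 LD2_c17 LD3_c12) (LK LD1_c5 LD2_c43 LD3_c32) Lrfl Lrfl
theorem f957527 : Led Lsl_af (LP (LK LD1_c11 LD2_c17 LD3_c12)) = v47231 :=
  Lgr Lrot45 (Lpr_ft (f622093 IH) (Lpr_at (f382202 IH) (Lpr_ft (f957526 IH) (Lpn v47231))))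
theorem f957531 : Led Lsl_gt (LP (LK LD1_c20 LD2_c12 LD3_c42)) = (LP (LK LD1_c11 LD2_c17 LD3_c12)) :=
  Lgr Lrot46 (Lpe (f381596 IH) (Lpr_ft (f957526 IH) (Lpe (f957527 IH) (Lpn (LP (LK LD1_c11 LD2_c17 LD3_c12))))))
theorem f957532 : Led Lsl_gt (LP (LK LD1_c20 LD2_c12 LD3_c42)) = (LP (LK LD1_c11 LD2_c17 LD3_c12)) :=
  Leop (Lpe (f957531 IH) (Lpn (LP (LK LD1_c20 LD2_c12 LD3_c42))))
theorem seed_2799 : LEOK LG_g (LK LD1_c20 LD2_c12 LD3_c42) :=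
  Leoe_g (LK LD1_c20 LD2_c12 LD3_c42) (f957532 IH)
def v47240 : LQ := Led Lsl_et (LP (LK LD1_c11 LD2_c16 LD3_c46))
theorem f957576 : Led Lsl_et (LP (LK LD1_c11 LD2_c16 LD3_c46)) = v47240 :=
  Lrfl
theorem f558357 : Led Lsl_et (LP (LK LD1_c5 LD2_c47 LD3_c7)) = (LP (LK LD1_c2 LD2_c49 LD3_c28)) :=
  Lre_e IH (LK LD1_c5 LD2_c47 LD3_c7) (LK LD1_c2 LD2_c49 LD3_c28) Lrfl Lrfl
theorem f61519 : Led Lsl_dt (LP (LK LD1_c5 LD2_c47 LD3_c7)) = (LP (LK LD1_c2 LD2_c49 LD3_c25)) :=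
  Lre_d IH (LK LD1_c5 LD2_c47 LD3_c7) (LK LD1_c2 LD2_c49 LD3_c25) Lrfl Lrfl
theorem f640674 : Led Lsl_et (LP (LK LD1_c20 LD2_c26 LD3_c17)) = (LP (LK LD1_c11 LD2_c29 LD3_c3)) :=
  Lre_e IH (LK LD1_c20 LD2_c26 LD3_c17) (LK LD1_c11 LD2_c29 LD3_c3) Lrfl Lrfl
theorem f828253 : Led Lsl_bf (LP (LK LD1_c20 LD2_c26 LD3_c17)) = (LP (LK LD1_c12 LD2_c30 LD3_c8)) :=
  Lgr Lrot96 (Lpr_et (f640674 IH) (Lpr_bt (K65.f828249 IH) (Lpr_et (K65.f767326 IH) (Lpn (LP (LK LD1_c12 LD2_c30 LD3_c8))))))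
theorem f741659 : Led Lsl_dt (LP (LK LD1_c7 LD2_c59 LD3_c42)) = (LP (LK LD1_c12 LD2_c30 LD3_c8)) :=
  Lgr Lrot42 (Lpr_df (K65.f741657 IH) (Lpn (LP (LK LD1_c12 LD2_c30 LD3_c8))))
theorem f828257 : Led Lsl_dt (LP (LK LD1_c20 LD2_c26 LD3_c17)) = (LP (LK LD1_c15 LD2_c4 LD3_c25)) :=
  Lgr Lrot79 (Lpr_bf (f828253 IH) (Lpe (f741659 IH) (Lpe (K71.f444688 IH) (Lpn (LP (LK LD1_c15 LD2_c4 LD3_c25))))))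
theorem f719178 : Led Lsl_et (LP (LK LD1_c11 LD2_c29 LD3_c3)) = (LP (LK LD1_c20 LD2_c26 LD3_c17)) :=
  Lre_e IH (LK LD1_c11 LD2_c29 LD3_c3) (LK LD1_c20 LD2_c26 LD3_c17) Lrfl Lrfl
theorem f719177 : Led Lsl_et (LP (LK LD1_c5 LD2_c47 LD3_c6)) = (LP (LK LD1_c11 LD2_c24 LD3_c30)) :=
  Lre_e IH (LK LD1_c5 LD2_c47 LD3_c6) (LK LD1_c11 LD2_c24 LD3_c30) Lrfl Lrfl
theorem f828261 : Led Lsl_ef (LP (LK LD1_c11 LD2_c24 LD3_c29)) = (LP (LK LD1_c15 LD2_c4 LD3_c25)) :=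
  Lgr Lrot73 (Lpr_dt (K71.f558358 IH) (Lpr_et (f719177 IH) (Lpr_dt (K65.f719173 IH) (Lpr_et (f719178 IH) (Lpr_dt (f828257 IH) (Lpn (LP (LK LD1_c15 LD2_c4 LD3_c25))))))))
theorem f828267 : Led Lsl_et (LP (LK LD1_c11 LD2_c24 LD3_c29)) = (LP (LK LD1_c15 LD2_c4 LD3_c25)) :=
  Lgr Lrot87 (Lpr_ef (f828261 IH) (Lpn (LP (LK LD1_c15 LD2_c4 LD3_c25))))
theorem f957582 : Led Lsl_gf (LP (LK LD1_c15 LD2_c4 LD3_c25)) = v47240 :=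
  Lgr Lrot141 (Lpe (f828267 IH) (Lpr_dt (K71.f558358 IH) (Lpr_gt (K57.f61437 IH) (Lpe (f61519 IH) (Lpr_et (f558357 IH) (Lpr_gt (K39.f172180 IH) (Lpr_dt (K40.f558316 IH) (Lpr_gt (K40.f558347 IH) (Lpe (K36.f381792 IH) (Lpr_et (f957576 IH) (Lpn v47240)))))))))))
theorem f828259 : Led Lsl_df (LP (LK LD1_c20 LD2_c26 LD3_c17)) = (LP (LK LD1_c15 LD2_c4 LD3_c25)) :=
  Lgr Lrot38 (Lpr_dt (f828257 IH) (Lpn (LP (LK LD1_c15 LD2_c4 LD3_c25))))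
theorem f919227 : Led Lsl_ff (LP (LK LD1_c20 LD2_c16 LD3_c46)) = (LP (LK LD1_c20 LD2_c26 LD3_c17)) :=
  Lgr Lrot19 (Lpr_dt (K52.f140492 IH) (Lpr_ft (K71.f919225 IH) (Lpe (f828259 IH) (Lpn (LP (LK LD1_c20 LD2_c26 LD3_c17))))))
theorem f919161 : Led Lsl_at (LP (LK LD1_c20 LD2_c16 LD3_c46)) = (LP (LK LD1_c20 LD2_c25 LD3_c61)) :=
  Lgr Lrot107 (Lpr_cf (K54.f414683 IH) (Lpr_af (K71.f919157 IH) (Lpr_cf (K71.f727600 IH) (Lpn (LP (LK LD1_c20 LD2_c25 LD3_c61))))))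
theorem f749478 : Led Lsl_dt (LP (LK LD1_c20 LD2_c25 LD3_c61)) = (LP (LK LD1_c20 LD2_c14 LD3_c40)) :=
  Lgr Lrot27 (Lpe (K71.f727536 IH) (Lpr_gf (K71.f749475 IH) (Lpe (K71.f749465 IH) (Lpe (K55.f740253 IH) (Lpe (K55.f382413 IH) (Lpr_gt (K51.f384010 IH) (Lpr_ct (K71.f74650 IH) (Lpr_gt (K71.f74647 IH) (Lpr_ct (K71.f645028 IH) (Lpn (LP (LK LD1_c20 LD2_c14 LD3_c40))))))))))))
theorem f645021 : Led Lsl_dt (LP (LK LD1_c20 LD2_c14 LD3_c41)) = (LP (LK LD1_c11 LD2_c18 LD3_c16)) :=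
  Lre_d IH (LK LD1_c20 LD2_c14 LD3_c41) (LK LD1_c11 LD2_c18 LD3_c16) Lrfl Lrfl
theorem f642010 : Led Lsl_at (LP (LK LD1_c20 LD2_c16 LD3_c40)) = (LP (LK LD1_c20 LD2_c49 LD3_c2)) :=
  Lgr Lrot66 (Lpr_ff (K41.f642008 IH) (Lpe (K41.f641996 IH) (Lpr_ff (K41.f641988 IH) (Lpn (LP (LK LD1_c20 LD2_c49 LD3_c2))))))
theorem f645017 : Led Lsl_gt (LP (LK LD1_c20 LD2_c49 LD3_c4)) = (LP (LK LD1_c20 LD2_c14 LD3_c41)) :=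
  Lgr Lrot5 (Lpe (K41.f642008 IH) (Lpr_at (f642010 IH) (Lpr_gf (K71.f645014 IH) (Lpn (LP (LK LD1_c20 LD2_c14 LD3_c41))))))
theorem f642156 : Led Lsl_ct (LP (LK LD1_c11 LD2_c43 LD3_c37)) = (LP (LK LD1_c5 LD2_c59 LD3_c29)) :=
  Lre_c IH (LK LD1_c11 LD2_c43 LD3_c37) (LK LD1_c5 LD2_c59 LD3_c29) Lrfl Lrfl
theorem f746459 : Led Lsl_bt (LP (LK LD1_c9 LD2_c50 LD3_c56)) = (LP (LK LD1_c18 LD2_c2 LD3_c7)) :=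
  Lre_b IH (LK LD1_c9 LD2_c50 LD3_c56) (LK LD1_c18 LD2_c2 LD3_c7) Lrfl Lrfl
theorem f746475 : Led Lsl_ef (LP (LK LD1_c11 LD2_c12 LD3_c41)) = (LP (LK LD1_c18 LD2_c2 LD3_c7)) :=
  Lgr Lrot29 (Lpr_bt (K74.f225803 IH) (Lpr_et (K55.f737838 IH) (Lpq (K55.f746455 IH) (Lpr_bt (f746459 IH) (Lpn (LP (LK LD1_c18 LD2_c2 LD3_c7)))))))
theorem f746479 : Led Lsl_et (LP (LK LD1_c11 LD2_c12 LD3_c41)) = (LP (LK LD1_c18 LD2_c2 LD3_c7)) :=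
  Lgr Lrot87 (Lpr_ef (f746475 IH) (Lpn (LP (LK LD1_c18 LD2_c2 LD3_c7))))
theorem f714349 : Led Lsl_ct (LP (LK LD1_c11 LD2_c17 LD3_c41)) = (LP (LK LD1_c11 LD2_c12 LD3_c41)) :=
  Lgr Lrot59 (Lpr_cf (K74.f714341 IH) (Lpn (LP (LK LD1_c11 LD2_c12 LD3_c41))))
theorem f381545 : Led Lsl_et (LP (LK LD1_c20 LD2_c13 LD3_c52)) = (LP (LK LD1_c11 LD2_c17 LD3_c41)) :=
  Lre_e IH (LK LD1_c20 LD2_c13 LD3_c52) (LK LD1_c11 LD2_c17 LD3_c41) Lrfl Lrfl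
theorem f746481 : Led Lsl_cf (LP (LK LD1_c20 LD2_c13 LD3_c52)) = (LP (LK LD1_c18 LD2_c2 LD3_c7)) :=
  Lgr Lrot39 (Lpr_et (f381545 IH) (Lpr_ct (f714349 IH) (Lpr_et (f746479 IH) (Lpn (LP (LK LD1_c18 LD2_c2 LD3_c7))))))
theorem f415747 : Led Lsl_bt (LP (LK LD1_c18 LD2_c2 LD3_c7)) = (LP (LK LD1_c9 LD2_c50 LD3_c56)) :=
  Lre_b IH (LK LD1_c18 LD2_c2 LD3_c7) (LK LD1_c9 LD2_c50 LD3_c56) Lrfl Lrfl
theorem f641972 : Led Lsl_af (LP (LK LD1_c11 LD2_c17 LD3_c46)) = (LP (LK LD1_c6 LD2_c1 LD3_c10)) :=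
  Lgr Lrot45 (Lpr_ft (K41.f641970 IH) (Lpe (K46.f641730 IH) (Lpr_ft (K41.f641712 IH) (Lpn (LP (LK LD1_c6 LD2_c1 LD3_c10))))))
theorem f711227 : Led Lsl_gt (LP (LK LD1_c9 LD2_c13 LD3_c58)) = (LP (LK LD1_c5 LD2_c59 LD3_c33)) :=
  Lgr Lrot5 (Lpr_ft (K41.f641712 IH) (Lpe (f641972 IH) (Lpr_gf (K53.f711222 IH) (Lpn (LP (LK LD1_c5 LD2_c59 LD3_c33))))))
theorem f746483 : Led Lsl_gf (LP (LK LD1_c20 LD2_c13 LD3_c52)) = (LP (LK LD1_c11 LD2_c43 LD3_c43)) :=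
  Lgr Lrot129 (Lpr_cf (f746481 IH) (Lpr_bt (f415747 IH) (Lpr_gt (K55.f415746 IH) (Lpe (K53.f633824 IH) (Lpr_ct (K52.f636099 IH) (Lpe (K52.f636102 IH) (Lpe (K49.f140882 IH) (Lpr_bt (K41.f140898 IH) (Lpr_gt (f711227 IH) (Lpr_ct (K56.f384013 IH) (Lpn (LP (LK LD1_c11 LD2_c43 LD3_c43)))))))))))))
theorem f720311 : Led Lsl_at (LP (LK LD1_c6 LD2_c1 LD3_c11)) = (LP (LK LD1_c11 LD2_c43 LD3_c37)) :=
  Lgr Lrot66 (Lpr_ff (K56.f719948 IH) (Lpe (K56.f719964 IH) (Lpr_ff (K56.f720309 IH) (Lpn (LP (LK LD1_c11 LD2_c43 LD3_c37))))))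
theorem f746485 : Led Lsl_gt (LP (LK LD1_c20 LD2_c13 LD3_c52)) = (LP (LK LD1_c11 LD2_c43 LD3_c37)) :=
  Lgr Lrot46 (Lpr_gf (f746483 IH) (Lpe (K56.f719948 IH) (Lpr_at (f720311 IH) (Lpn (LP (LK LD1_c11 LD2_c43 LD3_c37))))))
theorem f749393 : Led Lsl_gt (LP (LK LD1_c11 LD2_c46 LD3_c23)) = (LP (LK LD1_c18 LD2_c2 LD3_c7)) :=
  Lgr Lrot9 (Lpe (K66.f140827 IH) (Lpr_gt (K56.f749383 IH) (Lpr_ct (K51.f58878 IH) (Lpe (K55.f720168 IH) (Lpqs (K55.f719905 IH) (Lpr_ct (K55.f74645 IH) (Lpe (K55.f75993 IH) (Lpe (f642156 IH) (Lpe (f746485 IH) (Lpr_cf (f746481 IH) (Lpn (LP (LK LD1_c18 LD2_c2 LD3_c7)))))))))))))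
theorem f746072 : Led Lsl_bt (LP (LK LD1_c11 LD2_c31 LD3_c30)) = (LP (LK LD1_c20 LD2_c28 LD3_c8)) :=
  Lre_b IH (LK LD1_c11 LD2_c31 LD3_c30) (LK LD1_c20 LD2_c28 LD3_c8) Lrfl Lrfl
theorem f746471 : Led Lsl_dt (LP (LK LD1_c20 LD2_c28 LD3_c8)) = (LP (LK LD1_c18 LD2_c2 LD3_c7)) :=
  Lgr Lrot79 (Lpe (f746072 IH) (Lpr_df (K73.f746460 IH) (Lpe (f415747 IH) (Lpn (LP (LK LD1_c18 LD2_c2 LD3_c7))))))
theorem f746473 : Led Lsl_df (LP (LK LD1_c20 LD2_c28 LD3_c8)) = (LP (LK LD1_c18 LD2_c2 LD3_c7)) :=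
  Lgr Lrot38 (Lpr_dt (f746471 IH) (Lpn (LP (LK LD1_c18 LD2_c2 LD3_c7))))
theorem f749485 : Led Lsl_gf (LP (LK LD1_c20 LD2_c25 LD3_c61)) = (LP (LK LD1_c20 LD2_c28 LD3_c8)) :=
  Lgr Lrot143 (Lpr_dt (f749478 IH) (Lpe (K71.f645028 IH) (Lpe (f645021 IH) (Lpe (f645017 IH) (Lpe (K41.f641659 IH) (Lpe (K53.f642078 IH) (Lpr_cf (K66.f564042 IH) (Lpr_gt (f749393 IH) (Lpe (f746473 IH) (Lpn (LP (LK LD1_c20 LD2_c28 LD3_c8))))))))))))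
theorem f919495 : Led Lsl_gf (LP (LK LD1_c20 LD2_c28 LD3_c8)) = (LP (LK LD1_c20 LD2_c26 LD3_c17)) :=
  Lgr Lrot47 (Lpe (f749485 IH) (Lpe (f919161 IH) (Lpr_ff (f919227 IH) (Lpn (LP (LK LD1_c20 LD2_c26 LD3_c17))))))
theorem f740321 : Led Lsl_gt (LP (LK LD1_c11 LD2_c20 LD3_c0)) = (LP (LK LD1_c20 LD2_c17 LD3_c9)) :=
  Lre_g IH (LK LD1_c11 LD2_c20 LD3_c0) (LK LD1_c20 LD2_c17 LD3_c9) Lrfl Lrfl
theorem f740322 : Led Lsl_gf (LP (LK LD1_c11 LD2_c20 LD3_c14)) = (LP (LK LD1_c20 LD2_c17 LD3_c9)) :=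
  Lgr Lrot76 (Lpe (K65.f740290 IH) (Lpr_ff (K65.f740308 IH) (Lpr_gt (f740321 IH) (Lpn (LP (LK LD1_c20 LD2_c17 LD3_c9))))))
theorem f746487 : Led Lsl_dt (LP (LK LD1_c20 LD2_c13 LD3_c52)) = (LP (LK LD1_c20 LD2_c17 LD3_c9)) :=
  Lgr Lrot57 (Lpr_gf (f746483 IH) (Lpe (K56.f384013 IH) (Lpe (K53.f711222 IH) (Lpr_dt (K41.f616277 IH) (Lpe (K54.f616286 IH) (Lpr_dt (K5.f75866 IH) (Lpe (K55.f616291 IH) (Lpe (K55.f616290 IH) (Lpr_gf (f740322 IH) (Lpn (LP (LK LD1_c20 LD2_c17 LD3_c9))))))))))))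
theorem f746489 : Led Lsl_df (LP (LK LD1_c20 LD2_c13 LD3_c52)) = (LP (LK LD1_c20 LD2_c17 LD3_c9)) :=
  Lgr Lrot38 (Lpr_dt (f746487 IH) (Lpn (LP (LK LD1_c20 LD2_c17 LD3_c9))))
def v15665 : LQ := Led Lsl_gf (LP (LK LD1_c5 LD2_c44 LD3_c53))
theorem f740831 : Led Lsl_gf (LP (LK LD1_c5 LD2_c44 LD3_c53)) = v15665 :=
  Lrfl
theorem f957584 : Led Lsl_ct v15665 = v47240 :=
  Lgr Lrot8 (Lpe (f740831 IH) (Lpr_dt (K65.f641618 IH) (Lpr_gt (f740321 IH) (Lpe (f746489 IH) (Lpr_cf (f746481 IH) (Lpe (f746471 IH) (Lpr_gf (f919495 IH) (Lpr_df (f828259 IH) (Lpr_gf (f957582 IH) (Lpn v47240))))))))))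
theorem f381543 : Led Lsl_et (LP (LK LD1_c2 LD2_c47 LD3_c56)) = (LP (LK LD1_c5 LD2_c43 LD3_c50)) :=
  Lre_e IH (LK LD1_c2 LD2_c47 LD3_c56) (LK LD1_c5 LD2_c43 LD3_c50) Lrfl Lrfl
theorem f746491 : (LP (LK LD1_c11 LD2_c18 LD3_c33)) = v15665 :=
  (Llr Lrot121 (Lpe (K65.f381539 IH) (Lpe (K36.f381515 IH) (Lpe (K39.f381540 IH) (Lpe (K27.f381486 IH) (Lpr_et (f381543 IH) (Lpe (K74.f381544 IH) (Lpe (f381545 IH) (Lpr_dt (f746487 IH) (Lpe (f740321 IH) (Lpe (K65.f641618 IH) (Lpr_gf (f740831 IH) (Lpn v15665))))))))))))).symm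
theorem f619022 : Led Lsl_bt (LP (LK LD1_c11 LD2_c18 LD3_c33)) = (LP (LK LD1_c20 LD2_c15 LD3_c2)) :=
  Lre_b IH (LK LD1_c11 LD2_c18 LD3_c33) (LK LD1_c20 LD2_c15 LD3_c2) Lrfl Lrfl
theorem f381569 : Led Lsl_gt (LP (LK LD1_c20 LD2_c15 LD3_c2)) = (LP (LK LD1_c29 LD2_c22 LD3_c32)) :=
  Lre_g IH (LK LD1_c20 LD2_c15 LD3_c2) (LK LD1_c29 LD2_c22 LD3_c32) Lrfl Lrfl
theorem f918877 : Led Lsl_af (LP (LK LD1_c15 LD2_c4 LD3_c25)) = (LP (LK LD1_c11 LD2_c19 LD3_c40)) :=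
  Lgr Lrot50 (Lpe (f828261 IH) (Lpr_at (K71.f918871 IH) (Lpr_et (K52.f706091 IH) (Lpn (LP (LK LD1_c11 LD2_c19 LD3_c40))))))
theorem f919178 : Led Lsl_ff (LP (LK LD1_c11 LD2_c19 LD3_c40)) = (LP (LK LD1_c20 LD2_c14 LD3_c40)) :=
  Lgr Lrot19 (Lpr_dt (K71.f645073 IH) (Lpr_ft (K71.f919174 IH) (Lpr_dt (f749478 IH) (Lpn (LP (LK LD1_c20 LD2_c14 LD3_c40))))))
theorem f957583 : Led Lsl_gt (LP (LK LD1_c20 LD2_c14 LD3_c40)) = v47240 :=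
  Lgr Lrot5 (Lpe (f919178 IH) (Lpe (f918877 IH) (Lpr_gf (f957582 IH) (Lpn v47240))))
theorem f741123 : Led Lsl_bt (LP (LK LD1_c11 LD2_c19 LD3_c30)) = (LP (LK LD1_c5 LD2_c44 LD3_c50)) :=
  Lre_b IH (LK LD1_c11 LD2_c19 LD3_c30) (LK LD1_c5 LD2_c44 LD3_c50) Lrfl Lrfl
theorem f416297 : Led Lsl_ct (LP (LK LD1_c11 LD2_c19 LD3_c30)) = (LP (LK LD1_c5 LD2_c45 LD3_c42)) :=
  Lre_c IH (LK LD1_c11 LD2_c19 LD3_c30) (LK LD1_c5 LD2_c45 LD3_c42) Lrfl Lrfl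
theorem f640429 : Led Lsl_gt (LP (LK LD1_c11 LD2_c21 LD3_c42)) = (LP (LK LD1_c5 LD2_c45 LD3_c42)) :=
  Lre_g IH (LK LD1_c11 LD2_c21 LD3_c42) (LK LD1_c5 LD2_c45 LD3_c42) Lrfl Lrfl
theorem f741174 : Led Lsl_ct (LP (LK LD1_c20 LD2_c19 LD3_c24)) = (LP (LK LD1_c11 LD2_c21 LD3_c42)) :=
  Lre_c IH (LK LD1_c20 LD2_c19 LD3_c24) (LK LD1_c11 LD2_c21 LD3_c42) Lrfl Lrfl
theorem f957589 : Led Lsl_bf (LP (LK LD1_c29 LD2_c22 LD3_c32)) = (LP (LK LD1_c20 LD2_c19 LD3_c24)) :=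
  Lgr Lrot34 (Lpe (f381569 IH) (Lpe (f619022 IH) (Lpqs (f746491 IH) (Lpr_ct (f957584 IH) (Lpe (f957583 IH) (Lpe (K71.f645028 IH) (Lpe (K71.f74647 IH) (Lpe (f741123 IH) (Lpr_ct (f416297 IH) (Lpe (f640429 IH) (Lpe (f741174 IH) (Lpn (LP (LK LD1_c20 LD2_c19 LD3_c24))))))))))))))
theorem f957590 : Led Lsl_bt (LP (LK LD1_c20 LD2_c19 LD3_c24)) = (LP (LK LD1_c29 LD2_c22 LD3_c32)) :=
  Leop (Lpr_bf (f957589 IH) (Lpn (LP (LK LD1_c20 LD2_c19 LD3_c24))))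
theorem seed_2800 : LEOK LG_b (LK LD1_c20 LD2_c19 LD3_c24) :=
  Leoe_b (LK LD1_c20 LD2_c19 LD3_c24) (f957590 IH)
def v47241 : LQ := Led Lsl_ct (LP (LK LD1_c11 LD2_c16 LD3_c47))
theorem f957594 : Led Lsl_ct (LP (LK LD1_c11 LD2_c16 LD3_c47)) = v47241 :=
  Lrfl
theorem f749434 : Led Lsl_bt (LP (LK LD1_c20 LD2_c16 LD3_c35)) = (LP (LK LD1_c20 LD2_c19 LD3_c44)) :=
  Lgr Lrot127 (Lpr_bf (K66.f749432 IH) (Lpn (LP (LK LD1_c20 LD2_c19 LD3_c44))))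
theorem f918835 : Led Lsl_gf (LP (LK LD1_c17 LD2_c56 LD3_c7)) = (LP (LK LD1_c20 LD2_c19 LD3_c44)) :=
  Lgr Lrot124 (Lpr_bf (K71.f918826 IH) (Lpr_ct (K54.f640427 IH) (Lpr_gt (K54.f698494 IH) (Lpe (K52.f116937 IH) (Lpr_bt (K54.f415692 IH) (Lpr_gt (K51.f382410 IH) (Lpr_ct (K66.f645019 IH) (Lpr_gt (K65.f384022 IH) (Lpe (K66.f749420 IH) (Lpr_bt (f749434 IH) (Lpn (LP (LK LD1_c20 LD2_c19 LD3_c44)))))))))))))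
theorem f919638 : Led Lsl_gf (LP (LK LD1_c20 LD2_c19 LD3_c44)) = (LP (LK LD1_c17 LD2_c55 LD3_c28)) :=
  Lgr Lrot47 (Lpe (f918835 IH) (Lpe (K71.f718958 IH) (Lpr_ff (K71.f918977 IH) (Lpn (LP (LK LD1_c17 LD2_c55 LD3_c28))))))
theorem f444684 : Led Lsl_ct (LP (LK LD1_c9 LD2_c45 LD3_c49)) = (LP (LK LD1_c17 LD2_c55 LD3_c29)) :=
  Lre_c IH (LK LD1_c9 LD2_c45 LD3_c49) (LK LD1_c17 LD2_c55 LD3_c29) Lrfl Lrfl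
theorem f957600 : Led Lsl_gf (LP (LK LD1_c17 LD2_c55 LD3_c29)) = v47241 :=
  Lgr Lrot129 (Lpe (f444684 IH) (Lpr_bt (K71.f918649 IH) (Lpe (f919638 IH) (Lpe (f749434 IH) (Lpr_ct (K66.f749420 IH) (Lpr_gt (K65.f720352 IH) (Lpe (K51.f74614 IH) (Lpr_bt (K51.f74610 IH) (Lpr_gt (K51.f706016 IH) (Lpr_ct (f957594 IH) (Lpn v47241)))))))))))
theorem f644748 : Led Lsl_ct (LP (LK LD1_c17 LD2_c55 LD3_c29)) = (LP (LK LD1_c9 LD2_c45 LD3_c49)) :=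
  Lre_c IH (LK LD1_c17 LD2_c55 LD3_c29) (LK LD1_c9 LD2_c45 LD3_c49) Lrfl Lrfl
theorem f957601 : Led Lsl_gf (LP (LK LD1_c11 LD2_c39 LD3_c3)) = (LP (LK LD1_c17 LD2_c12 LD3_c15)) :=
  Lgr Lrot147 (Lpe (K71.f642333 IH) (Lpr_gt (K71.f919620 IH) (Lpr_ct (K71.f643104 IH) (Lpe (K52.f140555 IH) (Lpe (f644748 IH) (Lpr_gf (f957600 IH) (Lpe (f957594 IH) (Lpe (K51.f706016 IH) (Lpe (K51.f74641 IH) (Lpn (LP (LK LD1_c17 LD2_c12 LD3_c15))))))))))))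
theorem f957602 : Led Lsl_gt (LP (LK LD1_c17 LD2_c12 LD3_c15)) = (LP (LK LD1_c11 LD2_c39 LD3_c3)) :=
  Leop (Lpr_gf (f957601 IH) (Lpn (LP (LK LD1_c17 LD2_c12 LD3_c15))))
theorem seed_2801 : LEOK LG_g (LK LD1_c17 LD2_c12 LD3_c15) :=
  Leoe_g (LK LD1_c17 LD2_c12 LD3_c15) (f957602 IH)
def v47261 : LQ := Led Lsl_et (LP (LK LD1_c11 LD2_c16 LD3_c58))
theorem f957720 : Led Lsl_et (LP (LK LD1_c11 LD2_c16 LD3_c58)) = v47261 :=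
  Lrfl
theorem f957723 : Led Lsl_ef (LP (LK LD1_c11 LD2_c16 LD3_c58)) = v47261 :=
  Lgr Lrot88 (Lpr_et (f957720 IH) (Lpn v47261))
theorem f381270 : Led Lsl_dt (LP (LK LD1_c11 LD2_c16 LD3_c58)) = (LP (LK LD1_c20 LD2_c12 LD3_c55)) :=
  Lre_d IH (LK LD1_c11 LD2_c16 LD3_c58) (LK LD1_c20 LD2_c12 LD3_c55) Lrfl Lrfl
theorem f643990 : Led Lsl_df (LP (LK LD1_c20 LD2_c17 LD3_c50)) = (LP (LK LD1_c20 LD2_c46 LD3_c27)) :=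
  Lgr Lrot38 (Lpr_dt (K50.f643988 IH) (Lpn (LP (LK LD1_c20 LD2_c46 LD3_c27))))
theorem f957725 : Led Lsl_dt (LP (LK LD1_c11 LD2_c20 LD3_c29)) = v47261 :=
  Lgr Lrot77 (Lpe (K50.f495912 IH) (Lpr_df (f643990 IH) (Lpe (K57.f618468 IH) (Lpe (f381270 IH) (Lpr_ef (f957723 IH) (Lpn v47261))))))
theorem f716049 : Led Lsl_af (LP (LK LD1_c11 LD2_c16 LD3_c59)) = (LP (LK LD1_c11 LD2_c6 LD3_c31)) :=
  Lgr Lrot0 (Lpr_at (K57.f716047 IH) (Lpn (LP (LK LD1_c11 LD2_c6 LD3_c31))))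
theorem f716045 : Led Lsl_ft (LP (LK LD1_c11 LD2_c16 LD3_c59)) = (LP (LK LD1_c11 LD2_c6 LD3_c30)) :=
  Lgr Lrot48 (Lpr_ff (K57.f716039 IH) (Lpn (LP (LK LD1_c11 LD2_c6 LD3_c30))))
theorem f716071 : Led Lsl_af (LP (LK LD1_c11 LD2_c16 LD3_c58)) = (LP (LK LD1_c11 LD2_c6 LD3_c30)) :=
  Lgr Lrot45 (Lpr_ft (K57.f716065 IH) (Lpe (f716049 IH) (Lpr_ft (f716045 IH) (Lpn (LP (LK LD1_c11 LD2_c6 LD3_c30))))))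
theorem f957721 : Led Lsl_af K74.v46416 = v47261 :=
  Lgr Lrot50 (Lpe (K74.f953453 IH) (Lpe (f716071 IH) (Lpr_et (f957720 IH) (Lpn v47261))))
theorem f957726 : Led Lsl_af (LP (LK LD1_c11 LD2_c20 LD3_c29)) = (LP (LK LD1_c17 LD2_c32 LD3_c60)) :=
  Lgr Lrot117 (Lpr_dt (f957725 IH) (Lpe (f957721 IH) (Lpe (K74.f953455 IH) (Lpn (LP (LK LD1_c17 LD2_c32 LD3_c60))))))
theorem f957727 : Led Lsl_at (LP (LK LD1_c17 LD2_c32 LD3_c60)) = (LP (LK LD1_c11 LD2_c20 LD3_c29)) :=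
  Leop (Lpr_af (f957726 IH) (Lpn (LP (LK LD1_c17 LD2_c32 LD3_c60))))
theorem seed_2802 : LEOK LG_a (LK LD1_c17 LD2_c32 LD3_c60) :=
  Leoe_a (LK LD1_c17 LD2_c32 LD3_c60) (f957727 IH)
theorem f546055 : Led Lsl_gt (LP (LK LD1_c11 LD2_c20 LD3_c28)) = (LP (LK LD1_c17 LD2_c31 LD3_c58)) :=
  Lre_g IH (LK LD1_c11 LD2_c20 LD3_c28) (LK LD1_c17 LD2_c31 LD3_c58) Lrfl Lrfl
theorem f957732 : Led Lsl_ft (LP (LK LD1_c11 LD2_c20 LD3_c28)) = (LP (LK LD1_c17 LD2_c32 LD3_c60)) :=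
  Lgr Lrot2 (Lpr_gt (f546055 IH) (Lpr_gt (K50.f387319 IH) (Lpr_af (f957726 IH) (Lpn (LP (LK LD1_c17 LD2_c32 LD3_c60))))))
theorem f957734 : Led Lsl_bf (LP (LK LD1_c11 LD2_c20 LD3_c28)) = (LP (LK LD1_c16 LD2_c59 LD3_c22)) :=
  Lgr Lrot61 (Lpr_ft (f957732 IH) (Lpr_bt (K74.f953456 IH) (Lpr_ft (K69.f900064 IH) (Lpn (LP (LK LD1_c16 LD2_c59 LD3_c22))))))
theorem f9199 : Led Lsl_gt (LP (LK LD1_c5 LD2_c45 LD3_c1)) = (LP (LK LD1_c11 LD2_c20 LD3_c28)) :=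
  Lre_g IH (LK LD1_c5 LD2_c45 LD3_c1) (LK LD1_c11 LD2_c20 LD3_c28) Lrfl Lrfl
theorem f9198 : Led Lsl_bt (LP (LK LD1_c2 LD2_c48 LD3_c53)) = (LP (LK LD1_c5 LD2_c45 LD3_c1)) :=
  Lre_b IH (LK LD1_c2 LD2_c48 LD3_c53) (LK LD1_c5 LD2_c45 LD3_c1) Lrfl Lrfl
theorem f9194 : Led Lsl_ct (LP (LK LD1_c2 LD2_c48 LD3_c53)) = (LP (LK LD1_c5 LD2_c46 LD3_c20)) :=
  Lre_c IH (LK LD1_c2 LD2_c48 LD3_c53) (LK LD1_c5 LD2_c46 LD3_c20) Lrfl Lrfl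
theorem f756618 : Led Lsl_gt (LP (LK LD1_c9 LD2_c32 LD3_c12)) = K57.v17196 :=
  Lgr Lrot5 (Lpr_ft (K17.f413744 IH) (Lpe (K9.f100914 IH) (Lpr_gf (K57.f756617 IH) (Lpn K57.v17196))))
theorem f413759 : Led Lsl_ct (LP (LK LD1_c17 LD2_c34 LD3_c24)) = (LP (LK LD1_c27 LD2_c22 LD3_c47)) :=
  Lre_c IH (LK LD1_c17 LD2_c34 LD3_c24) (LK LD1_c27 LD2_c22 LD3_c47) Lrfl Lrfl
theorem f617151 : Led Lsl_ct (LP (LK LD1_c16 LD2_c59 LD3_c22)) = (LP (LK LD1_c26 LD2_c55 LD3_c4)) :=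
  Lre_c IH (LK LD1_c16 LD2_c59 LD3_c22) (LK LD1_c26 LD2_c55 LD3_c4) Lrfl Lrfl
theorem f957752 : Led Lsl_gf (LP (LK LD1_c27 LD2_c22 LD3_c47)) = (LP (LK LD1_c26 LD2_c55 LD3_c4)) :=
  Lgr Lrot126 (Lpe (f413759 IH) (Lpr_bt (K17.f413748 IH) (Lpr_gt (f756618 IH) (Lpe (K57.f756626 IH) (Lpr_gt (K57.f9204 IH) (Lpe (f9194 IH) (Lpr_bt (f9198 IH) (Lpr_gt (f9199 IH) (Lpr_bf (f957734 IH) (Lpr_ct (f617151 IH) (Lpn (LP (LK LD1_c26 LD2_c55 LD3_c4)))))))))))))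
theorem f957753 : Led Lsl_gt (LP (LK LD1_c26 LD2_c55 LD3_c4)) = (LP (LK LD1_c27 LD2_c22 LD3_c47)) :=
  Leop (Lpr_gf (f957752 IH) (Lpn (LP (LK LD1_c26 LD2_c55 LD3_c4))))
theorem seed_2803 : LEOK LG_g (LK LD1_c26 LD2_c55 LD3_c4) :=
  Leoe_g (LK LD1_c26 LD2_c55 LD3_c4) (f957753 IH)
def v47306 : LQ := Led Lsl_dt (LP (LK LD1_c11 LD2_c17 LD3_c24))
theorem f957938 : Led Lsl_dt (LP (LK LD1_c11 LD2_c17 LD3_c24)) = v47306 :=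
  Lrfl
theorem f957939 : Led Lsl_df (LP (LK LD1_c11 LD2_c17 LD3_c24)) = v47306 :=
  Lgr Lrot38 (Lpr_dt (f957938 IH) (Lpn v47306))
theorem f613270 : Led Lsl_gt (LP (LK LD1_c11 LD2_c17 LD3_c24)) = (LP (LK LD1_c5 LD2_c43 LD3_c42)) :=
  Lre_g IH (LK LD1_c11 LD2_c17 LD3_c24) (LK LD1_c5 LD2_c43 LD3_c42) Lrfl Lrfl
theorem f558904 : Led Lsl_dt (LP (LK LD1_c11 LD2_c17 LD3_c25)) = (LP (LK LD1_c5 LD2_c43 LD3_c42)) :=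
  Lre_d IH (LK LD1_c11 LD2_c17 LD3_c25) (LK LD1_c5 LD2_c43 LD3_c42) Lrfl Lrfl
theorem f558903 : Led Lsl_et (LP (LK LD1_c11 LD2_c17 LD3_c25)) = (LP (LK LD1_c5 LD2_c43 LD3_c44)) :=
  Lre_e IH (LK LD1_c11 LD2_c17 LD3_c25) (LK LD1_c5 LD2_c43 LD3_c44) Lrfl Lrfl
theorem f559402 : Led Lsl_ef (LP (LK LD1_c17 LD2_c31 LD3_c27)) = (LP (LK LD1_c11 LD2_c28 LD3_c12)) :=
  Lgr Lrot88 (Lpr_et (K65.f559398 IH) (Lpn (LP (LK LD1_c11 LD2_c28 LD3_c12))))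
theorem f957940 : Led Lsl_ef (LP (LK LD1_c11 LD2_c48 LD3_c29)) = v47306 :=
  Lgr Lrot17 (Lpr_gf (K55.f741753 IH) (Lpr_ef (f559402 IH) (Lpr_dt (K40.f557414 IH) (Lpr_gf (K40.f558736 IH) (Lpe (K42.f496064 IH) (Lpr_gf (K42.f568480 IH) (Lpe (f558903 IH) (Lpr_dt (f558904 IH) (Lpe (f613270 IH) (Lpr_df (f957939 IH) (Lpn v47306)))))))))))
theorem f957944 : Led Lsl_et (LP (LK LD1_c17 LD2_c8 LD3_c23)) = (LP (LK LD1_c11 LD2_c17 LD3_c24)) :=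
  Lgr Lrot71 (Lpe (K69.f750438 IH) (Lpe (K69.f741793 IH) (Lpe (K69.f669771 IH) (Lpr_ef (f957940 IH) (Lpe (f957938 IH) (Lpn (LP (LK LD1_c11 LD2_c17 LD3_c24))))))))
theorem f957945 : Led Lsl_et (LP (LK LD1_c17 LD2_c8 LD3_c23)) = (LP (LK LD1_c11 LD2_c17 LD3_c24)) :=
  Leop (Lpe (f957944 IH) (Lpn (LP (LK LD1_c17 LD2_c8 LD3_c23))))
theorem seed_2804 : LEOK LG_e (LK LD1_c17 LD2_c8 LD3_c23) :=
  Leoe_e (LK LD1_c17 LD2_c8 LD3_c23) (f957945 IH)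
theorem f957946 : Led Lsl_et (LP (LK LD1_c11 LD2_c48 LD3_c29)) = v47306 :=
  Lgr Lrot87 (Lpr_ef (f957940 IH) (Lpn v47306))
theorem f740695 : Led Lsl_bt (LP (LK LD1_c11 LD2_c48 LD3_c31)) = (LP (LK LD1_c20 LD2_c50 LD3_c58)) :=
  Lre_b IH (LK LD1_c11 LD2_c48 LD3_c31) (LK LD1_c20 LD2_c50 LD3_c58) Lrfl Lrfl
theorem f741795 : Led Lsl_bf (LP (LK LD1_c11 LD2_c22 LD3_c8)) = (LP (LK LD1_c20 LD2_c17 LD3_c24)) :=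
  Lgr Lrot96 (Lpe (K70.f740693 IH) (Lpr_bt (f740695 IH) (Lpr_et (K69.f741793 IH) (Lpn (LP (LK LD1_c20 LD2_c17 LD3_c24))))))
theorem f750429 : Led Lsl_bt (LP (LK LD1_c9 LD2_c14 LD3_c2)) = (LP (LK LD1_c17 LD2_c8 LD3_c23)) :=
  Lre_b IH (LK LD1_c9 LD2_c14 LD3_c2) (LK LD1_c17 LD2_c8 LD3_c23) Lrfl Lrfl
theorem f750430 : Led Lsl_df (LP (LK LD1_c20 LD2_c17 LD3_c24)) = (LP (LK LD1_c17 LD2_c8 LD3_c23)) :=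
  Lgr Lrot12 (Lpe (f741795 IH) (Lpr_dt (K56.f750427 IH) (Lpr_bt (f750429 IH) (Lpn (LP (LK LD1_c17 LD2_c8 LD3_c23))))))
theorem f957950 : Led Lsl_ef (LP (LK LD1_c17 LD2_c8 LD3_c23)) = (LP (LK LD1_c11 LD2_c17 LD3_c24)) :=
  Lgr Lrot73 (Lpe (f750430 IH) (Lpe (K69.f741797 IH) (Lpr_dt (K69.f669770 IH) (Lpr_et (f957946 IH) (Lpe (f957939 IH) (Lpn (LP (LK LD1_c11 LD2_c17 LD3_c24))))))))
theorem f204739 : Led Lsl_dt (LP (LK LD1_c6 LD2_c1 LD3_c59)) = (LP (LK LD1_c11 LD2_c48 LD3_c31)) :=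
  Lre_d IH (LK LD1_c6 LD2_c1 LD3_c59) (LK LD1_c11 LD2_c48 LD3_c31) Lrfl Lrfl
theorem f750434 : Led Lsl_ef (LP (LK LD1_c16 LD2_c52 LD3_c55)) = (LP (LK LD1_c9 LD2_c14 LD3_c2)) :=
  Lgr Lrot73 (Lpr_dt (K69.f750147 IH) (Lpe (K56.f750145 IH) (Lpr_dt (f204739 IH) (Lpr_et (K56.f740687 IH) (Lpr_dt (K56.f750427 IH) (Lpn (LP (LK LD1_c9 LD2_c14 LD3_c2))))))))
def v47304 : LQ := Led Lsl_bt (LP (LK LD1_c11 LD2_c17 LD3_c24))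
theorem f957934 : Led Lsl_bt (LP (LK LD1_c11 LD2_c17 LD3_c24)) = v47304 :=
  Lrfl
theorem f957935 : Led Lsl_bf (LP (LK LD1_c11 LD2_c17 LD3_c24)) = v47304 :=
  Lgr Lrot24 (Lpr_bt (f957934 IH) (Lpn v47304))
theorem f957952 : (LP (LK LD1_c16 LD2_c52 LD3_c55)) = v47304 :=
  (Llr Lrot74 (Lpr_ef (f750434 IH) (Lpe (K69.f645764 IH) (Lpr_ef (f957950 IH) (Lpr_bf (f957935 IH) (Lpn v47304)))))).symm
def v47305 : LQ := Led Lsl_ct (LP (LK LD1_c11 LD2_c17 LD3_c24))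
theorem f957936 : Led Lsl_ct (LP (LK LD1_c11 LD2_c17 LD3_c24)) = v47305 :=
  Lrfl
theorem f697848 : Led Lsl_ff (LP (LK LD1_c4 LD2_c29 LD3_c38)) = K74.v12725 :=
  Lgr Lrot3 (Lpr_ft (K74.f697844 IH) (Lpn K74.v12725))
theorem f697851 : Led Lsl_ct (LP (LK LD1_c4 LD2_c32 LD3_c46)) = K74.v12725 :=
  Lgr Lrot40 (Lpe (K55.f268780 IH) (Lpr_cf (K51.f281258 IH) (Lpr_ff (f697848 IH) (Lpn K74.v12725))))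
theorem f280928 : Led Lsl_ft (LP (LK LD1_c2 LD2_c42 LD3_c5)) = (LP (LK LD1_c5 LD2_c31 LD3_c54)) :=
  Lre_f IH (LK LD1_c2 LD2_c42 LD3_c5) (LK LD1_c5 LD2_c31 LD3_c54) Lrfl Lrfl
theorem f697850 : Led Lsl_at (LP (LK LD1_c5 LD2_c31 LD3_c54)) = K74.v12725 :=
  Lgr Lrot66 (Lpe (f280928 IH) (Lpr_af (K20.f280940 IH) (Lpr_ff (f697848 IH) (Lpn K74.v12725))))
theorem f173054 : Led Lsl_gt (LP (LK LD1_c2 LD2_c42 LD3_c5)) = (LP (LK LD1_c5 LD2_c31 LD3_c52)) :=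
  Lre_g IH (LK LD1_c2 LD2_c42 LD3_c5) (LK LD1_c5 LD2_c31 LD3_c52) Lrfl Lrfl
theorem f697855 : Led Lsl_gt (LP (LK LD1_c5 LD2_c31 LD3_c52)) = K74.v12725 :=
  Lgr Lrot46 (Lpe (f173054 IH) (Lpr_ft (f280928 IH) (Lpr_at (f697850 IH) (Lpn K74.v12725))))
def v15083 : LQ := Led Lsl_ct (LP (LK LD1_c5 LD2_c31 LD3_c52))
theorem f731625 : Led Lsl_ct (LP (LK LD1_c5 LD2_c31 LD3_c52)) = v15083 :=
  Lrfl
theorem f731626 : Led Lsl_cf (LP (LK LD1_c5 LD2_c31 LD3_c52)) = v15083 :=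
  Lgr Lrot11 (Lpr_ct (f731625 IH) (Lpn v15083))
def v15086 : LQ := Led Lsl_ft (LP (LK LD1_c5 LD2_c31 LD3_c52))
theorem f731631 : Led Lsl_ft (LP (LK LD1_c5 LD2_c31 LD3_c52)) = v15086 :=
  Lrfl
theorem f731633 : Led Lsl_ff (LP (LK LD1_c5 LD2_c31 LD3_c52)) = v15086 :=
  Lgr Lrot3 (Lpr_ft (f731631 IH) (Lpn v15086))
def v15082 : LQ := Led Lsl_at (LP (LK LD1_c5 LD2_c31 LD3_c52))
theorem f731620 : Led Lsl_at (LP (LK LD1_c5 LD2_c31 LD3_c52)) = v15082 :=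
  Lrfl
theorem f731621 : Led Lsl_af (LP (LK LD1_c5 LD2_c31 LD3_c52)) = v15082 :=
  Lgr Lrot0 (Lpr_at (f731620 IH) (Lpn v15082))
theorem f731623 : Led Lsl_ft (LP (LK LD1_c5 LD2_c31 LD3_c53)) = v15082 :=
  Lgr Lrot2 (Lpr_gt (K55.f173932 IH) (Lpr_gt (f173054 IH) (Lpr_af (f731621 IH) (Lpn v15082))))
theorem f731624 : Led Lsl_ff (LP (LK LD1_c5 LD2_c31 LD3_c53)) = v15082 :=
  Lgr Lrot3 (Lpr_ft (f731623 IH) (Lpn v15082))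
theorem f731634 : Led Lsl_at (LP (LK LD1_c5 LD2_c31 LD3_c53)) = v15086 :=
  Lgr Lrot66 (Lpr_ff (f731624 IH) (Lpe (f731620 IH) (Lpr_ff (f731633 IH) (Lpn v15086))))
theorem f741251 : (LP (LK LD1_c5 LD2_c41 LD3_c10)) = v15086 :=
  Lefun (Lecon (Lfl_af (K56.f698386 IH)) (K55.f741250 IH).symm) (f731634 IH)
theorem f741260 : (LP (LK LD1_c5 LD2_c31 LD3_c52)) = K55.v12818 :=
  Lefun (Lecon (Lfl_ff (f731633 IH)) (f741251 IH).symm) (K74.f698373 IH)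
theorem f741265 : (LP (LK LD1_c4 LD2_c32 LD3_c3)) = v15083 :=
  Lefun (Lecon (Lfl_cf (K55.f698371 IH)) (f741260 IH).symm) (f731625 IH)
theorem f380015 : Led Lsl_bt (LP (LK LD1_c4 LD2_c32 LD3_c0)) = (LP (LK LD1_c2 LD2_c13 LD3_c3)) :=
  Lre_b IH (LK LD1_c4 LD2_c32 LD3_c0) (LK LD1_c2 LD2_c13 LD3_c3) Lrfl Lrfl
theorem f380067 : Led Lsl_gt (LP (LK LD1_c16 LD2_c51 LD3_c42)) = (LP (LK LD1_c9 LD2_c1 LD3_c46)) :=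
  Lre_g IH (LK LD1_c16 LD2_c51 LD3_c42) (LK LD1_c9 LD2_c1 LD3_c46) Lrfl Lrfl
theorem f957960 : v47305 = (LP (LK LD1_c16 LD2_c51 LD3_c42)) :=
  (Llr Lrot64 (Lpe (f957936 IH) (Lpr_bt (f957934 IH) (Lpq (f957952 IH) (Lpe (K56.f268970 IH) (Lpe (K16.f268932 IH) (Lpr_ct (f697851 IH) (Lpe (f697855 IH) (Lpr_cf (f731626 IH) (Lpq (f741265 IH) (Lpe (K55.f174897 IH) (Lpe (f380015 IH) (Lpr_ct (K40.f380032 IH) (Lpe (f380067 IH) (Lpn (LP (LK LD1_c16 LD2_c51 LD3_c42))))))))))))))))).symm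
theorem f957937 : Led Lsl_cf (LP (LK LD1_c11 LD2_c17 LD3_c24)) = v47305 :=
  Lgr Lrot11 (Lpr_ct (f957936 IH) (Lpn v47305))
theorem f957961 : Led Lsl_ct (LP (LK LD1_c16 LD2_c51 LD3_c42)) = (LP (LK LD1_c11 LD2_c17 LD3_c24)) :=
  Leop (Lpr_cf (f957937 IH) (Lpqs (f957960 IH) (Lpn (LP (LK LD1_c16 LD2_c51 LD3_c42)))))
theorem seed_2805 : LEOK LG_c (LK LD1_c16 LD2_c51 LD3_c42) :=
  Leoe_c (LK LD1_c16 LD2_c51 LD3_c42) (f957961 IH)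
theorem f900767 : Led Lsl_at (LP (LK LD1_c11 LD2_c48 LD3_c29)) = (LP (LK LD1_c17 LD2_c31 LD3_c32)) :=
  Lgr Lrot26 (Lpr_ff (K69.f900761 IH) (Lpr_gt (K56.f136280 IH) (Lpr_gt (K56.f136296 IH) (Lpn (LP (LK LD1_c17 LD2_c31 LD3_c32))))))
theorem f900860 : Led Lsl_af (LP (LK LD1_c11 LD2_c48 LD3_c29)) = (LP (LK LD1_c17 LD2_c31 LD3_c32)) :=
  Lgr Lrot0 (Lpr_at (f900767 IH) (Lpn (LP (LK LD1_c17 LD2_c31 LD3_c32))))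
theorem f136298 : Led Lsl_et (LP (LK LD1_c27 LD2_c21 LD3_c11)) = (LP (LK LD1_c17 LD2_c31 LD3_c32)) :=
  Lre_e IH (LK LD1_c27 LD2_c21 LD3_c11) (LK LD1_c17 LD2_c31 LD3_c32) Lrfl Lrfl
theorem f957947 : Led Lsl_af (LP (LK LD1_c27 LD2_c21 LD3_c11)) = v47306 :=
  Lgr Lrot50 (Lpr_et (f136298 IH) (Lpe (f900860 IH) (Lpr_et (f957946 IH) (Lpn v47306))))
theorem f571644 : Led Lsl_et (LP (LK LD1_c20 LD2_c13 LD3_c25)) = (LP (LK LD1_c11 LD2_c17 LD3_c19)) :=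
  Lre_e IH (LK LD1_c20 LD2_c13 LD3_c25) (LK LD1_c11 LD2_c17 LD3_c19) Lrfl Lrfl
theorem f381866 : Led Lsl_dt (LP (LK LD1_c20 LD2_c13 LD3_c25)) = (LP (LK LD1_c11 LD2_c17 LD3_c18)) :=
  Lre_d IH (LK LD1_c20 LD2_c13 LD3_c25) (LK LD1_c11 LD2_c17 LD3_c18) Lrfl Lrfl
theorem f381895 : Led Lsl_gt (LP (LK LD1_c20 LD2_c13 LD3_c24)) = (LP (LK LD1_c11 LD2_c17 LD3_c18)) :=
  Lre_g IH (LK LD1_c20 LD2_c13 LD3_c24) (LK LD1_c11 LD2_c17 LD3_c18) Lrfl Lrfl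
theorem f571682 : Led Lsl_dt (LP (LK LD1_c27 LD2_c21 LD3_c11)) = (LP (LK LD1_c20 LD2_c13 LD3_c24)) :=
  Lgr Lrot136 (Lpr_et (f136298 IH) (Lpe (K56.f136296 IH) (Lpr_ef (K40.f136285 IH) (Lpr_dt (K40.f136297 IH) (Lpe (K40.f558741 IH) (Lpe (K42.f422778 IH) (Lpr_gf (K42.f571674 IH) (Lpe (f571644 IH) (Lpr_dt (f381866 IH) (Lpe (f381895 IH) (Lpn (LP (LK LD1_c20 LD2_c13 LD3_c24)))))))))))))
def v47303 : LQ := Led Lsl_ft (LP (LK LD1_c11 LD2_c17 LD3_c23))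
theorem f957930 : Led Lsl_ft (LP (LK LD1_c11 LD2_c17 LD3_c23)) = v47303 :=
  Lrfl
def v47298 : LQ := Led Lsl_at (LP (LK LD1_c11 LD2_c17 LD3_c23))
theorem f957918 : Led Lsl_at (LP (LK LD1_c11 LD2_c17 LD3_c23)) = v47298 :=
  Lrfl
theorem f957919 : Led Lsl_af (LP (LK LD1_c11 LD2_c17 LD3_c23)) = v47298 :=
  Lgr Lrot0 (Lpr_at (f957918 IH) (Lpn v47298))
theorem f381839 : Led Lsl_gt (LP (LK LD1_c5 LD2_c43 LD3_c42)) = (LP (LK LD1_c11 LD2_c17 LD3_c23)) :=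
  Lre_g IH (LK LD1_c5 LD2_c43 LD3_c42) (LK LD1_c11 LD2_c17 LD3_c23) Lrfl Lrfl
theorem f957920 : Led Lsl_ft (LP (LK LD1_c11 LD2_c17 LD3_c24)) = v47298 :=
  Lgr Lrot2 (Lpr_gt (f613270 IH) (Lpr_gt (f381839 IH) (Lpr_af (f957919 IH) (Lpn v47298))))
theorem f957931 : Led Lsl_af (LP (LK LD1_c11 LD2_c17 LD3_c24)) = v47303 :=
  Lgr Lrot45 (Lpr_ft (f957920 IH) (Lpe (f957919 IH) (Lpr_ft (f957930 IH) (Lpn v47303))))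
theorem f957964 : (LP (LK LD1_c20 LD2_c13 LD3_c24)) = v47303 :=
  (Llr Lrot44 (Lpe (f571682 IH) (Lpr_af (f957947 IH) (Lpe (f957938 IH) (Lpr_af (f957931 IH) (Lpn v47303)))))).symm
theorem f957965 : Led Lsl_at (LP (LK LD1_c20 LD2_c13 LD3_c24)) = (LP (LK LD1_c11 LD2_c17 LD3_c24)) :=
  Leop (Lpr_af (f957931 IH) (Lpq (f957964 IH) (Lpn (LP (LK LD1_c20 LD2_c13 LD3_c24)))))
theorem seed_2806 : LEOK LG_a (LK LD1_c20 LD2_c13 LD3_c24) :=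
  Leoe_a (LK LD1_c20 LD2_c13 LD3_c24) (f957965 IH)
def v47311 : LQ := Led Lsl_ct (LP (LK LD1_c11 LD2_c17 LD3_c31))
theorem f957984 : Led Lsl_ct (LP (LK LD1_c11 LD2_c17 LD3_c31)) = v47311 :=
  Lrfl
theorem f957986 : Led Lsl_cf (LP (LK LD1_c11 LD2_c17 LD3_c31)) = v47311 :=
  Lgr Lrot11 (Lpr_ct (f957984 IH) (Lpn v47311))
theorem f747775 : Led Lsl_af (LP (LK LD1_c11 LD2_c15 LD3_c4)) = (LP (LK LD1_c11 LD2_c24 LD3_c2)) :=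
  Lgr Lrot0 (Lpr_at (K69.f747773 IH) (Lpn (LP (LK LD1_c11 LD2_c24 LD3_c2))))
theorem f699813 : Led Lsl_ef (LP (LK LD1_c12 LD2_c4 LD3_c5)) = (LP (LK LD1_c11 LD2_c24 LD3_c1)) :=
  Lgr Lrot88 (Lpr_et (K69.f699811 IH) (Lpn (LP (LK LD1_c11 LD2_c24 LD3_c1))))
theorem f747742 : Led Lsl_bt (LP (LK LD1_c20 LD2_c12 LD3_c47)) = (LP (LK LD1_c11 LD2_c24 LD3_c1)) :=
  Lgr Lrot119 (Lpr_ef (K69.f747738 IH) (Lpe (K69.f699817 IH) (Lpr_ef (f699813 IH) (Lpn (LP (LK LD1_c11 LD2_c24 LD3_c1))))))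
theorem f381484 : Led Lsl_gt (LP (LK LD1_c11 LD2_c17 LD3_c31)) = (LP (LK LD1_c5 LD2_c43 LD3_c46)) :=
  Lre_g IH (LK LD1_c11 LD2_c17 LD3_c31) (LK LD1_c5 LD2_c43 LD3_c46) Lrfl Lrfl
theorem f747754 : Led Lsl_ff (LP (LK LD1_c20 LD2_c12 LD3_c47)) = (LP (LK LD1_c11 LD2_c17 LD3_c31)) :=
  Lgr Lrot52 (Lpr_at (K69.f747740 IH) (Lpe (K69.f381482 IH) (Lpe (f381484 IH) (Lpn (LP (LK LD1_c11 LD2_c17 LD3_c31))))))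
theorem f747771 : Led Lsl_bt (LP (LK LD1_c11 LD2_c15 LD3_c4)) = (LP (LK LD1_c11 LD2_c17 LD3_c31)) :=
  Lgr Lrot35 (Lpr_ff (K69.f747769 IH) (Lpe (f747742 IH) (Lpr_ff (f747754 IH) (Lpn (LP (LK LD1_c11 LD2_c17 LD3_c31))))))
theorem f902154 : Led Lsl_at (LP (LK LD1_c11 LD2_c17 LD3_c31)) = (LP (LK LD1_c11 LD2_c16 LD3_c11)) :=
  Lgr Lrot67 (Lpe (f747771 IH) (Lpr_af (f747775 IH) (Lpr_bf (K69.f902152 IH) (Lpqs (K69.f747966 IH) (Lpe (K69.f738157 IH) (Lpe (K69.f281550 IH) (Lpn (LP (LK LD1_c11 LD2_c16 LD3_c11)))))))))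
def v47188 : LQ := Led Lsl_ct (LP (LK LD1_c11 LD2_c16 LD3_c11))
theorem f957283 : Led Lsl_ct (LP (LK LD1_c11 LD2_c16 LD3_c11)) = v47188 :=
  Lrfl
theorem f957990 : Led Lsl_at v47188 = v47311 :=
  Lgr Lrot107 (Lpe (f957283 IH) (Lpe (f902154 IH) (Lpr_cf (f957986 IH) (Lpn v47311))))
theorem f902176 : Led Lsl_ff (LP (LK LD1_c11 LD2_c16 LD3_c11)) = (LP (LK LD1_c11 LD2_c17 LD3_c30)) :=
  Lgr Lrot3 (Lpr_ft (K69.f902171 IH) (Lpn (LP (LK LD1_c11 LD2_c17 LD3_c30))))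
theorem f381483 : Led Lsl_ct (LP (LK LD1_c20 LD2_c13 LD3_c39)) = (LP (LK LD1_c11 LD2_c17 LD3_c30)) :=
  Lre_c IH (LK LD1_c20 LD2_c13 LD3_c39) (LK LD1_c11 LD2_c17 LD3_c30) Lrfl Lrfl
theorem f957285 : Led Lsl_ff (LP (LK LD1_c20 LD2_c13 LD3_c39)) = v47188 :=
  Lgr Lrot23 (Lpr_ct (f381483 IH) (Lpe (f902176 IH) (Lpr_ct (f957283 IH) (Lpn v47188))))
theorem f957286 : Led Lsl_ft (LP (LK LD1_c20 LD2_c13 LD3_c39)) = v47188 :=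
  Lgr Lrot48 (Lpr_ff (f957285 IH) (Lpn v47188))
theorem f747757 : Led Lsl_ft (LP (LK LD1_c20 LD2_c12 LD3_c47)) = (LP (LK LD1_c11 LD2_c17 LD3_c31)) :=
  Lgr Lrot48 (Lpr_ff (f747754 IH) (Lpn (LP (LK LD1_c11 LD2_c17 LD3_c31))))
theorem f747767 : Led Lsl_bf (LP (LK LD1_c11 LD2_c15 LD3_c4)) = (LP (LK LD1_c11 LD2_c17 LD3_c31)) :=
  Lgr Lrot61 (Lpr_ft (K69.f747765 IH) (Lpe (K69.f747748 IH) (Lpr_ft (f747757 IH) (Lpn (LP (LK LD1_c11 LD2_c17 LD3_c31))))))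
def v15522 : LQ := Led Lsl_ct (LP (LK LD1_c5 LD2_c41 LD3_c7))
theorem f737852 : Led Lsl_ct (LP (LK LD1_c5 LD2_c41 LD3_c7)) = v15522 :=
  Lrfl
theorem f737853 : Led Lsl_cf (LP (LK LD1_c5 LD2_c41 LD3_c7)) = v15522 :=
  Lgr Lrot11 (Lpr_ct (f737852 IH) (Lpn v15522))
theorem f897497 : Led Lsl_ff v15522 = K74.v37902 :=
  Lgr Lrot23 (Lpe (f737853 IH) (Lpr_ft (K69.f505639 IH) (Lpr_ct (K74.f897495 IH) (Lpn K74.v37902))))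
def v46915 : LQ := Led Lsl_ct (LP (LK LD1_c11 LD2_c12 LD3_c44))
theorem f955816 : Led Lsl_ct (LP (LK LD1_c11 LD2_c12 LD3_c44)) = v46915 :=
  Lrfl
theorem f955818 : Led Lsl_cf (LP (LK LD1_c11 LD2_c12 LD3_c44)) = v46915 :=
  Lgr Lrot11 (Lpr_ct (f955816 IH) (Lpn v46915))
theorem f955819 : Led Lsl_at v15522 = v46915 :=
  Lgr Lrot107 (Lpe (f737852 IH) (Lpe (K69.f505641 IH) (Lpr_cf (f955818 IH) (Lpn v46915))))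
theorem f956784 : Led Lsl_gf v46915 = K74.v47080 :=
  Lgr Lrot76 (Lpe (f955819 IH) (Lpr_ff (f897497 IH) (Lpr_gt (K74.f956783 IH) (Lpn K74.v47080))))
theorem f505629 : Led Lsl_at (LP (LK LD1_c5 LD2_c41 LD3_c7)) = (LP (LK LD1_c11 LD2_c12 LD3_c44)) :=
  Lre_a IH (LK LD1_c5 LD2_c41 LD3_c7) (LK LD1_c11 LD2_c12 LD3_c44) Lrfl Lrfl
theorem f380005 : Led Lsl_bt (LP (LK LD1_c9 LD2_c1 LD3_c52)) = (LP (LK LD1_c4 LD2_c32 LD3_c3)) :=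
  Lre_b IH (LK LD1_c9 LD2_c1 LD3_c52) (LK LD1_c4 LD2_c32 LD3_c3) Lrfl Lrfl
theorem f505630 : Led Lsl_at (LP (LK LD1_c16 LD2_c51 LD3_c51)) = (LP (LK LD1_c9 LD2_c1 LD3_c52)) :=
  Lre_a IH (LK LD1_c16 LD2_c51 LD3_c51) (LK LD1_c9 LD2_c1 LD3_c52) Lrfl Lrfl
theorem f505631 : Led Lsl_bt (LP (LK LD1_c11 LD2_c12 LD3_c44)) = (LP (LK LD1_c16 LD2_c51 LD3_c51)) :=
  Lgr Lrot62 (Lpe (f505629 IH) (Lpe (K69.f505628 IH) (Lpr_af (K55.f505624 IH) (Lpe (f380005 IH) (Lpe (f505630 IH) (Lpn (LP (LK LD1_c16 LD2_c51 LD3_c51))))))))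
theorem f644992 : Led Lsl_ff (LP (LK LD1_c16 LD2_c51 LD3_c50)) = (LP (LK LD1_c9 LD2_c45 LD3_c30)) :=
  Lgr Lrot3 (Lpr_ft (K74.f644988 IH) (Lpn (LP (LK LD1_c9 LD2_c45 LD3_c30))))
theorem f582462 : Led Lsl_at (LP (LK LD1_c4 LD2_c57 LD3_c23)) = (LP (LK LD1_c9 LD2_c45 LD3_c30)) :=
  Lre_a IH (LK LD1_c4 LD2_c57 LD3_c23) (LK LD1_c9 LD2_c45 LD3_c30) Lrfl Lrfl
theorem f644390 : Led Lsl_ft (LP (LK LD1_c9 LD2_c45 LD3_c45)) = (LP (LK LD1_c4 LD2_c57 LD3_c23)) :=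
  Lre_f IH (LK LD1_c9 LD2_c45 LD3_c45) (LK LD1_c4 LD2_c57 LD3_c23) Lrfl Lrfl
theorem f644994 : Led Lsl_at (LP (LK LD1_c16 LD2_c51 LD3_c50)) = (LP (LK LD1_c9 LD2_c45 LD3_c45)) :=
  Lgr Lrot66 (Lpr_ff (f644992 IH) (Lpe (f582462 IH) (Lpe (f644390 IH) (Lpn (LP (LK LD1_c9 LD2_c45 LD3_c45))))))
theorem f505535 : Led Lsl_bt (LP (LK LD1_c2 LD2_c46 LD3_c37)) = (LP (LK LD1_c5 LD2_c41 LD3_c9)) :=
  Lre_b IH (LK LD1_c2 LD2_c46 LD3_c37) (LK LD1_c5 LD2_c41 LD3_c9) Lrfl Lrfl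
theorem f505617 : Led Lsl_ft (LP (LK LD1_c5 LD2_c41 LD3_c9)) = (LP (LK LD1_c9 LD2_c1 LD3_c52)) :=
  Lgr Lrot75 (Lpe (f505535 IH) (Lpr_ff (K55.f505615 IH) (Lpe (f380005 IH) (Lpn (LP (LK LD1_c9 LD2_c1 LD3_c52))))))
theorem f505645 : Led Lsl_at (LP (LK LD1_c9 LD2_c1 LD3_c52)) = (LP (LK LD1_c16 LD2_c51 LD3_c51)) :=
  Lre_a IH (LK LD1_c9 LD2_c1 LD3_c52) (LK LD1_c16 LD2_c51 LD3_c51) Lrfl Lrfl
theorem f644393 : Led Lsl_gt (LP (LK LD1_c9 LD2_c45 LD3_c30)) = (LP (LK LD1_c16 LD2_c51 LD3_c51)) :=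
  Lgr Lrot46 (Lpr_gf (K52.f644388 IH) (Lpr_ft (f505617 IH) (Lpr_at (f505645 IH) (Lpn (LP (LK LD1_c16 LD2_c51 LD3_c51))))))
theorem f644996 : Led Lsl_gf (LP (LK LD1_c9 LD2_c45 LD3_c45)) = (LP (LK LD1_c16 LD2_c51 LD3_c51)) :=
  Lgr Lrot76 (Lpe (f644994 IH) (Lpr_ff (f644992 IH) (Lpr_gt (f644393 IH) (Lpn (LP (LK LD1_c16 LD2_c51 LD3_c51))))))
theorem f644397 : Led Lsl_ct (LP (LK LD1_c9 LD2_c45 LD3_c45)) = (LP (LK LD1_c17 LD2_c55 LD3_c26)) :=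
  Lre_c IH (LK LD1_c9 LD2_c45 LD3_c45) (LK LD1_c17 LD2_c55 LD3_c26) Lrfl Lrfl
theorem f957987 : Led Lsl_gt (LP (LK LD1_c17 LD2_c55 LD3_c26)) = v47311 :=
  Lgr Lrot149 (Lpe (f644397 IH) (Lpr_gf (f644996 IH) (Lpe (f505631 IH) (Lpr_ct (f955816 IH) (Lpr_gf (f956784 IH) (Lpe (K74.f956779 IH) (Lpr_bt (K66.f68783 IH) (Lpe (K69.f68749 IH) (Lpr_bf (f747767 IH) (Lpr_ct (f957984 IH) (Lpn v47311)))))))))))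
theorem f957991 : Led Lsl_gt (LP (LK LD1_c20 LD2_c13 LD3_c39)) = (LP (LK LD1_c17 LD2_c55 LD3_c26)) :=
  Lgr Lrot5 (Lpr_ft (f957286 IH) (Lpr_at (f957990 IH) (Lpe (f957987 IH) (Lpn (LP (LK LD1_c17 LD2_c55 LD3_c26))))))
theorem f957992 : Led Lsl_gt (LP (LK LD1_c20 LD2_c13 LD3_c39)) = (LP (LK LD1_c17 LD2_c55 LD3_c26)) :=
  Leop (Lpe (f957991 IH) (Lpn (LP (LK LD1_c20 LD2_c13 LD3_c39))))
theorem seed_2807 : LEOK LG_g (LK LD1_c20 LD2_c13 LD3_c39) :=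
  Leoe_g (LK LD1_c20 LD2_c13 LD3_c39) (f957992 IH)
def v47323 : LQ := Led Lsl_ft (LP (LK LD1_c11 LD2_c17 LD3_c42))
theorem f958033 : Led Lsl_ft (LP (LK LD1_c11 LD2_c17 LD3_c42)) = v47323 :=
  Lrfl
theorem f958035 : Led Lsl_ff (LP (LK LD1_c11 LD2_c17 LD3_c42)) = v47323 :=
  Lgr Lrot3 (Lpr_ft (f958033 IH) (Lpn v47323))
theorem f382371 : Led Lsl_dt (LP (LK LD1_c11 LD2_c17 LD3_c42)) = (LP (LK LD1_c5 LD2_c43 LD3_c50)) :=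
  Lre_d IH (LK LD1_c11 LD2_c17 LD3_c42) (LK LD1_c5 LD2_c43 LD3_c50) Lrfl Lrfl
theorem f644626 : Led Lsl_ft (LP (LK LD1_c5 LD2_c43 LD3_c50)) = (LP (LK LD1_c11 LD2_c17 LD3_c43)) :=
  Lre_f IH (LK LD1_c5 LD2_c43 LD3_c50) (LK LD1_c11 LD2_c17 LD3_c43) Lrfl Lrfl
theorem f958036 : Led Lsl_dt (LP (LK LD1_c11 LD2_c17 LD3_c43)) = v47323 :=
  Lgr Lrot60 (Lpe (f644626 IH) (Lpe (f382371 IH) (Lpr_ff (f958035 IH) (Lpn v47323))))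
theorem f542582 : Led Lsl_ft (LP (LK LD1_c11 LD2_c17 LD3_c43)) = (LP (LK LD1_c5 LD2_c43 LD3_c50)) :=
  Lre_f IH (LK LD1_c11 LD2_c17 LD3_c43) (LK LD1_c5 LD2_c43 LD3_c50) Lrfl Lrfl
theorem f381946 : Led Lsl_at (LP (LK LD1_c5 LD2_c43 LD3_c50)) = (LP (LK LD1_c11 LD2_c17 LD3_c13)) :=
  Lre_a IH (LK LD1_c5 LD2_c43 LD3_c50) (LK LD1_c11 LD2_c17 LD3_c13) Lrfl Lrfl
theorem f381905 : Led Lsl_ct (LP (LK LD1_c5 LD2_c43 LD3_c36)) = (LP (LK LD1_c11 LD2_c17 LD3_c13)) :=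
  Lre_c IH (LK LD1_c5 LD2_c43 LD3_c36) (LK LD1_c11 LD2_c17 LD3_c13) Lrfl Lrfl
theorem f81409 : Led Lsl_et (LP (LK LD1_c4 LD2_c2 LD3_c19)) = (LP (LK LD1_c8 LD2_c5 LD3_c12)) :=
  Lre_e IH (LK LD1_c4 LD2_c2 LD3_c19) (LK LD1_c8 LD2_c5 LD3_c12) Lrfl Lrfl
theorem f81410 : Led Lsl_df (LP (LK LD1_c6 LD2_c14 LD3_c11)) = (LP (LK LD1_c8 LD2_c5 LD3_c12)) :=
  Lgr Lrot70 (Lpr_et (K36.f81380 IH) (Lpr_dt (K32.f81374 IH) (Lpr_et (K39.f81395 IH) (Lpr_dt (K39.f81408 IH) (Lpr_et (f81409 IH) (Lpn (LP (LK LD1_c8 LD2_c5 LD3_c12))))))))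
theorem f81417 : Led Lsl_ct (LP (LK LD1_c15 LD2_c13 LD3_c36)) = (LP (LK LD1_c8 LD2_c5 LD3_c12)) :=
  Lre_c IH (LK LD1_c15 LD2_c13 LD3_c36) (LK LD1_c8 LD2_c5 LD3_c12) Lrfl Lrfl
theorem f81418 : Led Lsl_dt (LP (LK LD1_c25 LD2_c2 LD3_c41)) = (LP (LK LD1_c15 LD2_c13 LD3_c36)) :=
  Lre_d IH (LK LD1_c25 LD2_c2 LD3_c41) (LK LD1_c15 LD2_c13 LD3_c36) Lrfl Lrfl
theorem f958037 : Led Lsl_cf (LP (LK LD1_c25 LD2_c2 LD3_c41)) = v47323 :=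
  Lgr Lrot118 (Lpr_dt (f81418 IH) (Lpr_ct (f81417 IH) (Lpe (f81410 IH) (Lpe (K36.f542538 IH) (Lpr_dt (K36.f381899 IH) (Lpr_ct (f381905 IH) (Lpe (f381946 IH) (Lpe (f542582 IH) (Lpr_dt (f958036 IH) (Lpn v47323))))))))))
theorem f382360 : Led Lsl_ct (LP (LK LD1_c20 LD2_c13 LD3_c53)) = (LP (LK LD1_c11 LD2_c17 LD3_c42)) :=
  Lre_c IH (LK LD1_c20 LD2_c13 LD3_c53) (LK LD1_c11 LD2_c17 LD3_c42) Lrfl Lrfl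
theorem f958039 : Led Lsl_ft (LP (LK LD1_c25 LD2_c2 LD3_c41)) = (LP (LK LD1_c20 LD2_c13 LD3_c53)) :=
  Lgr Lrot4 (Lpr_cf (f958037 IH) (Lpe (f958033 IH) (Lpe (f382360 IH) (Lpn (LP (LK LD1_c20 LD2_c13 LD3_c53))))))
theorem f958040 : Led Lsl_ft (LP (LK LD1_c25 LD2_c2 LD3_c41)) = (LP (LK LD1_c20 LD2_c13 LD3_c53)) :=
  Leop (Lpe (f958039 IH) (Lpn (LP (LK LD1_c25 LD2_c2 LD3_c41))))
theorem seed_2808 : LEOK LG_f (LK LD1_c25 LD2_c2 LD3_c41) :=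
  Leoe_f (LK LD1_c25 LD2_c2 LD3_c41) (f958040 IH)
def v47327 : LQ := Led Lsl_dt (LP (LK LD1_c11 LD2_c17 LD3_c47))
theorem f958054 : Led Lsl_dt (LP (LK LD1_c11 LD2_c17 LD3_c47)) = v47327 :=
  Lrfl
theorem f958056 : Led Lsl_df (LP (LK LD1_c11 LD2_c17 LD3_c47)) = v47327 :=
  Lgr Lrot38 (Lpr_dt (f958054 IH) (Lpn v47327))
theorem f387397 : Led Lsl_gt (LP (LK LD1_c11 LD2_c17 LD3_c47)) = (LP (LK LD1_c5 LD2_c43 LD3_c52)) :=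
  Lre_g IH (LK LD1_c11 LD2_c17 LD3_c47) (LK LD1_c5 LD2_c43 LD3_c52) Lrfl Lrfl
theorem f387396 : Led Lsl_dt (LP (LK LD1_c2 LD2_c47 LD3_c57)) = (LP (LK LD1_c5 LD2_c43 LD3_c52)) :=
  Lre_d IH (LK LD1_c2 LD2_c47 LD3_c57) (LK LD1_c5 LD2_c43 LD3_c52) Lrfl Lrfl
theorem f383756 : Led Lsl_et (LP (LK LD1_c2 LD2_c48 LD3_c0)) = (LP (LK LD1_c5 LD2_c44 LD3_c1)) :=
  Lre_e IH (LK LD1_c2 LD2_c48 LD3_c0) (LK LD1_c5 LD2_c44 LD3_c1) Lrfl Lrfl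
theorem f958058 : Led Lsl_ef K56.v15624 = v47327 :=
  Lgr Lrot17 (Lpe (K56.f738357 IH) (Lpe (f383756 IH) (Lpe (K38.f427509 IH) (Lpr_gf (K32.f427515 IH) (Lpr_df (K27.f178950 IH) (Lpe (K28.f381120 IH) (Lpe (K65.f387395 IH) (Lpr_dt (f387396 IH) (Lpe (f387397 IH) (Lpr_df (f958056 IH) (Lpn v47327)))))))))))
def v42944 : LQ := Led Lsl_ct (LP (LK LD1_c10 LD2_c19 LD3_c4))
theorem f937087 : Led Lsl_ct (LP (LK LD1_c10 LD2_c19 LD3_c4)) = v42944 :=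
  Lrfl
theorem f623745 : Led Lsl_et (LP (LK LD1_c5 LD2_c14 LD3_c49)) = (LP (LK LD1_c10 LD2_c19 LD3_c4)) :=
  Lre_e IH (LK LD1_c5 LD2_c14 LD3_c49) (LK LD1_c10 LD2_c19 LD3_c4) Lrfl Lrfl
theorem f724027 : Led Lsl_cf (LP (LK LD1_c5 LD2_c14 LD3_c49)) = K56.v14617 :=
  Lgr Lrot11 (Lpr_ct (K56.f724026 IH) (Lpn K56.v14617))
theorem f937089 : Led Lsl_ef K56.v14617 = v42944 :=
  Lgr Lrot28 (Lpe (f724027 IH) (Lpr_et (f623745 IH) (Lpr_ct (f937087 IH) (Lpn v42944))))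
theorem f937090 : Led Lsl_et K56.v14617 = v42944 :=
  Lgr Lrot87 (Lpr_ef (f937089 IH) (Lpn v42944))
theorem f495899 : Led Lsl_et (LP (LK LD1_c20 LD2_c13 LD3_c58)) = (LP (LK LD1_c11 LD2_c17 LD3_c47)) :=
  Lre_e IH (LK LD1_c20 LD2_c13 LD3_c58) (LK LD1_c11 LD2_c17 LD3_c47) Lrfl Lrfl
theorem f958059 : Led Lsl_dt v42944 = (LP (LK LD1_c20 LD2_c13 LD3_c58)) :=
  Lgr Lrot77 (Lpe (f937090 IH) (Lpr_df (K56.f748798 IH) (Lpqs (K56.f749627 IH) (Lpr_ef (f958058 IH) (Lpe (f958054 IH) (Lpe (f495899 IH) (Lpn (LP (LK LD1_c20 LD2_c13 LD3_c58)))))))))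
theorem f705303 : Led Lsl_gf (LP (LK LD1_c11 LD2_c47 LD3_c5)) = (LP (LK LD1_c6 LD2_c8 LD3_c49)) :=
  Lgr Lrot134 (Lpe (K55.f642927 IH) (Lpe (K55.f642928 IH) (Lpr_gt (K46.f446107 IH) (Lpr_ef (K50.f705294 IH) (Lpe (K52.f705301 IH) (Lpr_gt (K52.f76188 IH) (Lpe (K2.f74598 IH) (Lpr_et (K2.f74924 IH) (Lpe (K73.f76247 IH) (Lpr_dt (K55.f76053 IH) (Lpn (LP (LK LD1_c6 LD2_c8 LD3_c49)))))))))))))
theorem f76041 : Led Lsl_et (LP (LK LD1_c11 LD2_c44 LD3_c23)) = (LP (LK LD1_c20 LD2_c45 LD3_c51)) :=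
  Lre_e IH (LK LD1_c11 LD2_c44 LD3_c23) (LK LD1_c20 LD2_c45 LD3_c51) Lrfl Lrfl
theorem f76045 : Led Lsl_dt (LP (LK LD1_c20 LD2_c45 LD3_c51)) = (LP (LK LD1_c11 LD2_c59 LD3_c5)) :=
  Lgr Lrot77 (Lpe (f76041 IH) (Lpr_df (K56.f75861 IH) (Lpe (K55.f76042 IH) (Lpe (K55.f76043 IH) (Lpe (K72.f76044 IH) (Lpn (LP (LK LD1_c11 LD2_c59 LD3_c5))))))))
theorem f76050 : Led Lsl_df (LP (LK LD1_c20 LD2_c45 LD3_c51)) = (LP (LK LD1_c11 LD2_c59 LD3_c5)) :=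
  Lgr Lrot38 (Lpr_dt (f76045 IH) (Lpn (LP (LK LD1_c11 LD2_c59 LD3_c5))))
theorem f958063 : Led Lsl_gf (LP (LK LD1_c20 LD2_c45 LD3_c51)) = (LP (LK LD1_c20 LD2_c13 LD3_c58)) :=
  Lgr Lrot145 (Lpr_df (f76050 IH) (Lpr_et (K72.f76044 IH) (Lpe (f705303 IH) (Lpr_dt (K56.f642932 IH) (Lpr_gt (K55.f641367 IH) (Lpe (K53.f75935 IH) (Lpr_et (K56.f749608 IH) (Lpe (K56.f749626 IH) (Lpr_ef (f937089 IH) (Lpr_dt (f958059 IH) (Lpn (LP (LK LD1_c20 LD2_c13 LD3_c58)))))))))))))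
theorem f958064 : Led Lsl_gt (LP (LK LD1_c20 LD2_c13 LD3_c58)) = (LP (LK LD1_c20 LD2_c45 LD3_c51)) :=
  Leop (Lpr_gf (f958063 IH) (Lpn (LP (LK LD1_c20 LD2_c13 LD3_c58))))
theorem seed_2809 : LEOK LG_g (LK LD1_c20 LD2_c13 LD3_c58) :=
  Leoe_g (LK LD1_c20 LD2_c13 LD3_c58) (f958064 IH)
def v47337 : LQ := Led Lsl_bt (LP (LK LD1_c11 LD2_c17 LD3_c55))
theorem f958130 : Led Lsl_bt (LP (LK LD1_c11 LD2_c17 LD3_c55)) = v47337 :=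
  Lrfl
theorem f382426 : Led Lsl_bt (LP (LK LD1_c16 LD2_c49 LD3_c40)) = (LP (LK LD1_c9 LD2_c0 LD3_c14)) :=
  Lre_b IH (LK LD1_c16 LD2_c49 LD3_c40) (LK LD1_c9 LD2_c0 LD3_c14) Lrfl Lrfl
theorem f958132 : Led Lsl_cf (LP (LK LD1_c16 LD2_c49 LD3_c40)) = v47337 :=
  Lgr Lrot97 (Lpr_bt (f382426 IH) (Lpr_ct (K39.f382425 IH) (Lpr_bt (K39.f382424 IH) (Lpe (K30.f382422 IH) (Lpr_bt (f958130 IH) (Lpn v47337))))))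
theorem f958131 : Led Lsl_bf (LP (LK LD1_c11 LD2_c17 LD3_c55)) = v47337 :=
  Lgr Lrot24 (Lpr_bt (f958130 IH) (Lpn v47337))
theorem f310093 : Led Lsl_bf (LP (LK LD1_c5 LD2_c44 LD3_c0)) = (LP (LK LD1_c8 LD2_c25 LD3_c28)) :=
  Lgr Lrot24 (Lpr_bt (K27.f310088 IH) (Lpn (LP (LK LD1_c8 LD2_c25 LD3_c28))))
def v12408 : LQ := Led Lsl_dt (LP (LK LD1_c4 LD2_c10 LD3_c42))
theorem f692013 : Led Lsl_dt (LP (LK LD1_c4 LD2_c10 LD3_c42)) = v12408 :=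
  Lrfl
theorem f692020 : Led Lsl_ct (LP (LK LD1_c8 LD2_c25 LD3_c28)) = v12408 :=
  Lgr Lrot7 (Lpe (K27.f184308 IH) (Lpe (K15.f251953 IH) (Lpr_df (K40.f251964 IH) (Lpe (K40.f310003 IH) (Lpr_cf (K27.f310005 IH) (Lpr_gt (K19.f309126 IH) (Lpr_dt (K19.f309106 IH) (Lpe (K19.f309104 IH) (Lpr_dt (f692013 IH) (Lpn v12408))))))))))
theorem f619293 : Led Lsl_bt (LP (LK LD1_c8 LD2_c41 LD3_c27)) = (LP (LK LD1_c11 LD2_c18 LD3_c61)) :=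
  Lgr Lrot95 (Lpe (K23.f216739 IH) (Lpe (K30.f219172 IH) (Lpr_df (K54.f619291 IH) (Lpn (LP (LK LD1_c11 LD2_c18 LD3_c61))))))
theorem f692022 : Led Lsl_gt (LP (LK LD1_c10 LD2_c38 LD3_c40)) = v12408 :=
  Lgr Lrot65 (Lpe (K23.f326035 IH) (Lpr_bt (f619293 IH) (Lpe (K54.f404913 IH) (Lpe (K54.f211933 IH) (Lpr_ct (K74.f211909 IH) (Lpe (K39.f495874 IH) (Lpe (K30.f382427 IH) (Lpr_gf (K27.f382416 IH) (Lpr_bf (f310093 IH) (Lpr_ct (f692020 IH) (Lpn v12408)))))))))))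
theorem f250809 : Led Lsl_ct (LP (LK LD1_c16 LD2_c7 LD3_c35)) = (LP (LK LD1_c26 LD2_c4 LD3_c2)) :=
  Lre_c IH (LK LD1_c16 LD2_c7 LD3_c35) (LK LD1_c26 LD2_c4 LD3_c2) Lrfl Lrfl
theorem f958136 : Led Lsl_gt (LP (LK LD1_c16 LD2_c49 LD3_c40)) = (LP (LK LD1_c26 LD2_c4 LD3_c2)) :=
  Lgr Lrot65 (Lpr_cf (f958132 IH) (Lpe (f958131 IH) (Lpr_gf (K27.f382416 IH) (Lpr_bf (f310093 IH) (Lpr_ct (f692020 IH) (Lpe (f692022 IH) (Lpe (K23.f326035 IH) (Lpr_gf (K23.f326046 IH) (Lpe (K74.f290232 IH) (Lpr_ct (f250809 IH) (Lpn (LP (LK LD1_c26 LD2_c4 LD3_c2)))))))))))))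
theorem f958137 : Led Lsl_gt (LP (LK LD1_c16 LD2_c49 LD3_c40)) = (LP (LK LD1_c26 LD2_c4 LD3_c2)) :=
  Leop (Lpe (f958136 IH) (Lpn (LP (LK LD1_c16 LD2_c49 LD3_c40))))
theorem seed_2810 : LEOK LG_g (LK LD1_c16 LD2_c49 LD3_c40) :=
  Leoe_g (LK LD1_c16 LD2_c49 LD3_c40) (f958137 IH)
def v47343 : LQ := Led Lsl_gt (LP (LK LD1_c11 LD2_c17 LD3_c60))
theorem f958162 : Led Lsl_gt (LP (LK LD1_c11 LD2_c17 LD3_c60)) = v47343 :=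
  Lrfl
theorem f381699 : Led Lsl_dt (LP (LK LD1_c5 LD2_c43 LD3_c60)) = (LP (LK LD1_c11 LD2_c17 LD3_c60)) :=
  Lre_d IH (LK LD1_c5 LD2_c43 LD3_c60) (LK LD1_c11 LD2_c17 LD3_c60) Lrfl Lrfl
theorem f381698 : Led Lsl_et (LP (LK LD1_c5 LD2_c43 LD3_c60)) = (LP (LK LD1_c2 LD2_c47 LD3_c61)) :=
  Lre_e IH (LK LD1_c5 LD2_c43 LD3_c60) (LK LD1_c2 LD2_c47 LD3_c61) Lrfl Lrfl
def v38652 : LQ := Led Lsl_et (LP (LK LD1_c9 LD2_c13 LD3_c58))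
theorem f903563 : Led Lsl_et (LP (LK LD1_c9 LD2_c13 LD3_c58)) = v38652 :=
  Lrfl
theorem f903566 : Led Lsl_ef (LP (LK LD1_c9 LD2_c13 LD3_c58)) = v38652 :=
  Lgr Lrot88 (Lpr_et (f903563 IH) (Lpn v38652))
theorem f958164 : Led Lsl_dt v38652 = v47343 :=
  Lgr Lrot37 (Lpe (f903566 IH) (Lpr_gt (f711227 IH) (Lpr_dt (K51.f383996 IH) (Lpr_gt (K32.f383995 IH) (Lpe (K51.f74621 IH) (Lpr_et (K51.f383994 IH) (Lpr_gt (K39.f382408 IH) (Lpe (f381698 IH) (Lpr_dt (f381699 IH) (Lpr_gt (f958162 IH) (Lpn v47343)))))))))))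
theorem f741383 : Led Lsl_ft (LP (LK LD1_c11 LD2_c21 LD3_c35)) = (LP (LK LD1_c12 LD2_c23 LD3_c44)) :=
  Lgr Lrot48 (Lpr_ff (K60.f741379 IH) (Lpn (LP (LK LD1_c12 LD2_c23 LD3_c44))))
theorem f741372 : Led Lsl_af K55.v15758 = (LP (LK LD1_c12 LD2_c23 LD3_c44)) :=
  Lgr Lrot0 (Lpr_at (K55.f741371 IH) (Lpn (LP (LK LD1_c12 LD2_c23 LD3_c44))))
theorem f741385 : Led Lsl_af (LP (LK LD1_c11 LD2_c21 LD3_c35)) = (LP (LK LD1_c16 LD2_c56 LD3_c28)) :=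
  Lgr Lrot45 (Lpr_ft (f741383 IH) (Lpe (f741372 IH) (Lpr_ft (K55.f741370 IH) (Lpn (LP (LK LD1_c16 LD2_c56 LD3_c28))))))
theorem f705189 : Led Lsl_gt (LP (LK LD1_c17 LD2_c31 LD3_c61)) = (LP (LK LD1_c9 LD2_c30 LD3_c40)) :=
  Lre_g IH (LK LD1_c17 LD2_c31 LD3_c61) (LK LD1_c9 LD2_c30 LD3_c40) Lrfl Lrfl
theorem f716081 : Led Lsl_gt (LP (LK LD1_c20 LD2_c12 LD3_c55)) = (LP (LK LD1_c17 LD2_c31 LD3_c61)) :=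
  Lgr Lrot5 (Lpr_ft (K57.f716077 IH) (Lpr_at (K57.f705271 IH) (Lpe (f705189 IH) (Lpn (LP (LK LD1_c17 LD2_c31 LD3_c61))))))
theorem f752200 : Led Lsl_dt (LP (LK LD1_c16 LD2_c56 LD3_c27)) = (LP (LK LD1_c17 LD2_c31 LD3_c61)) :=
  Lgr Lrot56 (Lpr_et (K56.f741416 IH) (Lpq (K56.f752194 IH) (Lpqs (K56.f749628 IH) (Lpe (K56.f738358 IH) (Lpe (f383756 IH) (Lpe (K38.f427509 IH) (Lpr_gt (K36.f427663 IH) (Lpe (K27.f381147 IH) (Lpr_et (K27.f381149 IH) (Lpr_gt (K54.f381264 IH) (Lpr_dt (f381270 IH) (Lpr_gt (f716081 IH) (Lpn (LP (LK LD1_c17 LD2_c31 LD3_c61)))))))))))))))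
theorem f752202 : Led Lsl_bf (LP (LK LD1_c16 LD2_c56 LD3_c28)) = (LP (LK LD1_c17 LD2_c31 LD3_c61)) :=
  Lgr Lrot93 (Lpr_dt (K50.f226000 IH) (Lpr_bt (K56.f741367 IH) (Lpr_dt (f752200 IH) (Lpn (LP (LK LD1_c17 LD2_c31 LD3_c61))))))
theorem f780963 : Led Lsl_bt (LP (LK LD1_c6 LD2_c45 LD3_c22)) = (LP (LK LD1_c12 LD2_c55 LD3_c0)) :=
  Lre_b IH (LK LD1_c6 LD2_c45 LD3_c22) (LK LD1_c12 LD2_c55 LD3_c0) Lrfl Lrfl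
theorem f780964 : Led Lsl_af (LP (LK LD1_c17 LD2_c31 LD3_c61)) = (LP (LK LD1_c12 LD2_c55 LD3_c0)) :=
  Lgr Lrot36 (Lpe (f752202 IH) (Lpe (f741385 IH) (Lpr_bt (K60.f751623 IH) (Lpr_at (K60.f780959 IH) (Lpr_bt (f780963 IH) (Lpn (LP (LK LD1_c12 LD2_c55 LD3_c0))))))))
theorem f752204 : Led Lsl_df (LP (LK LD1_c16 LD2_c56 LD3_c27)) = (LP (LK LD1_c17 LD2_c31 LD3_c61)) :=
  Lgr Lrot38 (Lpr_dt (f752200 IH) (Lpn (LP (LK LD1_c17 LD2_c31 LD3_c61))))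
theorem f780970 : Led Lsl_dt K56.v15666 = (LP (LK LD1_c12 LD2_c55 LD3_c0)) :=
  Lgr Lrot44 (Lpe (K56.f743829 IH) (Lpr_df (f752204 IH) (Lpr_af (f780964 IH) (Lpn (LP (LK LD1_c12 LD2_c55 LD3_c0))))))
theorem f384052 : Led Lsl_et (LP (LK LD1_c11 LD2_c18 LD3_c59)) = (LP (LK LD1_c5 LD2_c44 LD3_c26)) :=
  Lre_e IH (LK LD1_c11 LD2_c18 LD3_c59) (LK LD1_c5 LD2_c44 LD3_c26) Lrfl Lrfl
theorem f706010 : Led Lsl_df (LP (LK LD1_c17 LD2_c32 LD3_c0)) = (LP (LK LD1_c11 LD2_c6 LD3_c30)) :=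
  Lgr Lrot38 (Lpr_dt (K52.f706008 IH) (Lpn (LP (LK LD1_c11 LD2_c6 LD3_c30))))
theorem f780974 : Led Lsl_gt (LP (LK LD1_c17 LD2_c32 LD3_c0)) = (LP (LK LD1_c12 LD2_c55 LD3_c0)) :=
  Lgr Lrot139 (Lpr_df (f706010 IH) (Lpe (K50.f381326 IH) (Lpe (K17.f242709 IH) (Lpr_dt (K17.f211950 IH) (Lpe (K27.f211957 IH) (Lpr_df (K50.f384032 IH) (Lpr_et (K55.f383654 IH) (Lpe (K55.f383757 IH) (Lpe (f384052 IH) (Lpq (K56.f752186 IH) (Lpr_dt (f780970 IH) (Lpn (LP (LK LD1_c12 LD2_c55 LD3_c0))))))))))))))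
theorem f705196 : Led Lsl_ft (LP (LK LD1_c17 LD2_c32 LD3_c0)) = (LP (LK LD1_c9 LD2_c30 LD3_c40)) :=
  Lre_f IH (LK LD1_c17 LD2_c32 LD3_c0) (LK LD1_c9 LD2_c30 LD3_c40) Lrfl Lrfl
theorem f705274 : Led Lsl_at (LP (LK LD1_c9 LD2_c30 LD3_c40)) = (LP (LK LD1_c17 LD2_c31 LD3_c59)) :=
  Lre_a IH (LK LD1_c9 LD2_c30 LD3_c40) (LK LD1_c17 LD2_c31 LD3_c59) Lrfl Lrfl
theorem f780978 : Led Lsl_gf (LP (LK LD1_c17 LD2_c31 LD3_c59)) = (LP (LK LD1_c12 LD2_c55 LD3_c0)) :=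
  Lgr Lrot76 (Lpe (f705274 IH) (Lpe (f705196 IH) (Lpr_gt (f780974 IH) (Lpn (LP (LK LD1_c12 LD2_c55 LD3_c0))))))
theorem f710658 : Led Lsl_et (LP (LK LD1_c11 LD2_c6 LD3_c31)) = (LP (LK LD1_c19 LD2_c59 LD3_c61)) :=
  Lre_e IH (LK LD1_c11 LD2_c6 LD3_c31) (LK LD1_c19 LD2_c59 LD3_c61) Lrfl Lrfl
theorem f903568 : Led Lsl_gt (LP (LK LD1_c19 LD2_c59 LD3_c61)) = v38652 :=
  Lgr Lrot131 (Lpe (f710658 IH) (Lpr_dt (K57.f710656 IH) (Lpr_gf (f780978 IH) (Lpe (f780970 IH) (Lpe (K56.f740833 IH) (Lpe (K56.f638992 IH) (Lpr_dt (K50.f414693 IH) (Lpr_gf (K50.f642122 IH) (Lpe (K50.f641723 IH) (Lpr_et (f903563 IH) (Lpn v38652)))))))))))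
theorem f738366 : Led Lsl_et (LP (LK LD1_c5 LD2_c44 LD3_c21)) = K56.v15626 :=
  Lgr Lrot69 (Lpe (K27.f383524 IH) (Lpe (K40.f383256 IH) (Lpe (K39.f383451 IH) (Lpe (K66.f382419 IH) (Lpr_ff (K66.f738363 IH) (Lpn K56.v15626))))))
theorem f383517 : Led Lsl_dt (LP (LK LD1_c5 LD2_c44 LD3_c21)) = (LP (LK LD1_c11 LD2_c18 LD3_c49)) :=
  Lre_d IH (LK LD1_c5 LD2_c44 LD3_c21) (LK LD1_c11 LD2_c18 LD3_c49) Lrfl Lrfl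
theorem f958170 : Led Lsl_gf (LP (LK LD1_c11 LD2_c18 LD3_c49)) = v47343 :=
  Lgr Lrot134 (Lpe (f383517 IH) (Lpr_et (f738366 IH) (Lpe (K66.f738367 IH) (Lpe (f384052 IH) (Lpq (K56.f752186 IH) (Lpr_dt (f780970 IH) (Lpe (f780978 IH) (Lpe (K57.f710656 IH) (Lpr_et (f710658 IH) (Lpr_gt (f903568 IH) (Lpr_dt (f958164 IH) (Lpn v47343))))))))))))
theorem f383522 : Led Lsl_dt (LP (LK LD1_c11 LD2_c18 LD3_c49)) = (LP (LK LD1_c5 LD2_c44 LD3_c21)) :=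
  Lre_d IH (LK LD1_c11 LD2_c18 LD3_c49) (LK LD1_c5 LD2_c44 LD3_c21) Lrfl Lrfl
theorem f383481 : Led Lsl_ct (LP (LK LD1_c5 LD2_c43 LD3_c60)) = (LP (LK LD1_c11 LD2_c17 LD3_c58)) :=
  Lre_c IH (LK LD1_c5 LD2_c43 LD3_c60) (LK LD1_c11 LD2_c17 LD3_c58) Lrfl Lrfl
theorem f383482 : Led Lsl_ct (LP (LK LD1_c5 LD2_c44 LD3_c17)) = (LP (LK LD1_c2 LD2_c48 LD3_c5)) :=
  Lre_c IH (LK LD1_c5 LD2_c44 LD3_c17) (LK LD1_c2 LD2_c48 LD3_c5) Lrfl Lrfl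
theorem f383483 : Led Lsl_af (LP (LK LD1_c5 LD2_c43 LD3_c60)) = (LP (LK LD1_c2 LD2_c48 LD3_c5)) :=
  Lgr Lrot68 (Lpr_ct (f383481 IH) (Lpr_at (K27.f383475 IH) (Lpr_ct (f383482 IH) (Lpn (LP (LK LD1_c2 LD2_c48 LD3_c5))))))
theorem f383587 : Led Lsl_gt (LP (LK LD1_c11 LD2_c17 LD3_c59)) = (LP (LK LD1_c5 LD2_c43 LD3_c60)) :=
  Lre_g IH (LK LD1_c11 LD2_c17 LD3_c59) (LK LD1_c5 LD2_c43 LD3_c60) Lrfl Lrfl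
theorem f383519 : Led Lsl_ft (LP (LK LD1_c5 LD2_c44 LD3_c21)) = (LP (LK LD1_c2 LD2_c48 LD3_c5)) :=
  Lre_f IH (LK LD1_c5 LD2_c44 LD3_c21) (LK LD1_c2 LD2_c48 LD3_c5) Lrfl Lrfl
theorem f383588 : Led Lsl_gf (LP (LK LD1_c11 LD2_c17 LD3_c59)) = (LP (LK LD1_c5 LD2_c44 LD3_c21)) :=
  Lgr Lrot47 (Lpr_gt (f383587 IH) (Lpr_af (f383483 IH) (Lpe (f383519 IH) (Lpn (LP (LK LD1_c5 LD2_c44 LD3_c21))))))
theorem f383595 : Led Lsl_dt (LP (LK LD1_c20 LD2_c14 LD3_c12)) = (LP (LK LD1_c11 LD2_c17 LD3_c59)) :=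
  Lre_d IH (LK LD1_c20 LD2_c14 LD3_c12) (LK LD1_c11 LD2_c17 LD3_c59) Lrfl Lrfl
theorem f564180 : Led Lsl_ct (LP (LK LD1_c11 LD2_c47 LD3_c53)) = (LP (LK LD1_c18 LD2_c1 LD3_c54)) :=
  Lgr Lrot59 (Lpr_cf (K50.f564175 IH) (Lpn (LP (LK LD1_c18 LD2_c1 LD3_c54))))
theorem f596714 : Led Lsl_gt (LP (LK LD1_c18 LD2_c1 LD3_c60)) = (LP (LK LD1_c11 LD2_c43 LD3_c0)) :=
  Lgr Lrot9 (Lpe (K50.f559653 IH) (Lpr_gt (K40.f101570 IH) (Lpr_ct (K40.f101566 IH) (Lpr_gt (K40.f100511 IH) (Lpr_ct (K44.f100512 IH) (Lpe (K50.f549703 IH) (Lpe (f564180 IH) (Lpr_gf (K50.f596705 IH) (Lpe (K40.f562550 IH) (Lpn (LP (LK LD1_c11 LD2_c43 LD3_c0))))))))))))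
theorem f596931 : Led Lsl_at (LP (LK LD1_c20 LD2_c29 LD3_c18)) = (LP (LK LD1_c18 LD2_c2 LD3_c1)) :=
  Lgr Lrot26 (Lpr_ff (K50.f596925 IH) (Lpr_gt (f596714 IH) (Lpe (K50.f563986 IH) (Lpn (LP (LK LD1_c18 LD2_c2 LD3_c1))))))
theorem f596935 : Led Lsl_af (LP (LK LD1_c11 LD2_c32 LD3_c29)) = (LP (LK LD1_c9 LD2_c50 LD3_c49)) :=
  Lgr Lrot117 (Lpr_dt (K50.f555919 IH) (Lpr_at (f596931 IH) (Lpr_dt (K40.f562356 IH) (Lpn (LP (LK LD1_c9 LD2_c50 LD3_c49))))))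
theorem f562464 : Led Lsl_et (LP (LK LD1_c11 LD2_c18 LD3_c48)) = (LP (LK LD1_c9 LD2_c50 LD3_c49)) :=
  Lgr Lrot158 (Lpe (K69.f383529 IH) (Lpr_ef (K40.f562457 IH) (Lpe (K40.f562437 IH) (Lpn (LP (LK LD1_c9 LD2_c50 LD3_c49))))))
theorem f383539 : Led Lsl_dt (LP (LK LD1_c11 LD2_c17 LD3_c60)) = (LP (LK LD1_c5 LD2_c43 LD3_c60)) :=
  Lre_d IH (LK LD1_c11 LD2_c17 LD3_c60) (LK LD1_c5 LD2_c43 LD3_c60) Lrfl Lrfl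
theorem f383540 : Led Lsl_af (LP (LK LD1_c11 LD2_c17 LD3_c60)) = (LP (LK LD1_c5 LD2_c44 LD3_c20)) :=
  Lgr Lrot117 (Lpr_dt (f383539 IH) (Lpr_at (K27.f383525 IH) (Lpr_dt (K40.f383257 IH) (Lpn (LP (LK LD1_c5 LD2_c44 LD3_c20))))))
theorem f383520 : Led Lsl_ct (LP (LK LD1_c11 LD2_c17 LD3_c60)) = (LP (LK LD1_c20 LD2_c14 LD3_c14)) :=
  Lre_c IH (LK LD1_c11 LD2_c17 LD3_c60) (LK LD1_c20 LD2_c14 LD3_c14) Lrfl Lrfl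
theorem f383495 : Led Lsl_ct (LP (LK LD1_c11 LD2_c18 LD3_c48)) = (LP (LK LD1_c5 LD2_c44 LD3_c20)) :=
  Lre_c IH (LK LD1_c11 LD2_c18 LD3_c48) (LK LD1_c5 LD2_c44 LD3_c20) Lrfl Lrfl
theorem f383560 : Led Lsl_at (LP (LK LD1_c20 LD2_c14 LD3_c14)) = (LP (LK LD1_c11 LD2_c18 LD3_c48)) :=
  Lgr Lrot107 (Lpe (f383520 IH) (Lpr_af (f383540 IH) (Lpe (f383495 IH) (Lpn (LP (LK LD1_c11 LD2_c18 LD3_c48))))))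
theorem f596939 : Led Lsl_et (LP (LK LD1_c11 LD2_c32 LD3_c29)) = (LP (LK LD1_c20 LD2_c14 LD3_c14)) :=
  Lgr Lrot123 (Lpr_af (f596935 IH) (Lpe (f562464 IH) (Lpe (f383560 IH) (Lpn (LP (LK LD1_c20 LD2_c14 LD3_c14))))))
theorem f383563 : Led Lsl_ct (LP (LK LD1_c20 LD2_c14 LD3_c14)) = (LP (LK LD1_c11 LD2_c17 LD3_c60)) :=
  Lre_c IH (LK LD1_c20 LD2_c14 LD3_c14) (LK LD1_c11 LD2_c17 LD3_c60) Lrfl Lrfl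
theorem f596984 : Led Lsl_ef (LP (LK LD1_c5 LD2_c53 LD3_c11)) = (LP (LK LD1_c11 LD2_c17 LD3_c60)) :=
  Lgr Lrot28 (Lpr_ct (K50.f539137 IH) (Lpr_et (f596939 IH) (Lpr_ct (f383563 IH) (Lpn (LP (LK LD1_c11 LD2_c17 LD3_c60))))))
theorem f539098 : Led Lsl_gt (LP (LK LD1_c11 LD2_c32 LD3_c24)) = (LP (LK LD1_c20 LD2_c29 LD3_c13)) :=
  Lre_g IH (LK LD1_c11 LD2_c32 LD3_c24) (LK LD1_c20 LD2_c29 LD3_c13) Lrfl Lrfl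
theorem f596991 : Led Lsl_ef (LP (LK LD1_c20 LD2_c29 LD3_c13)) = (LP (LK LD1_c20 LD2_c14 LD3_c12)) :=
  Lgr Lrot17 (Lpe (f539098 IH) (Lpe (K38.f539097 IH) (Lpr_dt (K38.f539091 IH) (Lpe (K36.f24262 IH) (Lpe (K36.f211076 IH) (Lpe (K39.f211082 IH) (Lpr_ef (f596984 IH) (Lpr_dt (f383539 IH) (Lpe (f383587 IH) (Lpe (f383595 IH) (Lpn (LP (LK LD1_c20 LD2_c14 LD3_c12)))))))))))))
theorem f596986 : Led Lsl_ef (LP (LK LD1_c11 LD2_c32 LD3_c29)) = (LP (LK LD1_c20 LD2_c14 LD3_c14)) :=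
  Lgr Lrot88 (Lpr_et (f596939 IH) (Lpn (LP (LK LD1_c20 LD2_c14 LD3_c14))))
theorem f596989 : Led Lsl_et (LP (LK LD1_c5 LD2_c53 LD3_c11)) = (LP (LK LD1_c11 LD2_c17 LD3_c60)) :=
  Lgr Lrot158 (Lpe (K41.f539136 IH) (Lpr_ef (f596986 IH) (Lpe (f383520 IH) (Lpn (LP (LK LD1_c11 LD2_c17 LD3_c60))))))
theorem f958163 : Led Lsl_et K50.v12997 = v47343 :=
  Lgr Lrot122 (Lpe (K50.f700087 IH) (Lpqs (K41.f641739 IH) (Lpqs (K41.f642149 IH) (Lpe (K41.f641333 IH) (Lpe (K70.f428290 IH) (Lpr_et (K40.f428270 IH) (Lpr_gt (K41.f564150 IH) (Lpr_dt (K41.f24495 IH) (Lpe (K41.f562534 IH) (Lpr_df (K41.f562491 IH) (Lpr_et (f596989 IH) (Lpr_gt (f958162 IH) (Lpn v47343)))))))))))))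
theorem f502246 : Led Lsl_dt (LP (LK LD1_c5 LD2_c59 LD3_c10)) = (LP (LK LD1_c2 LD2_c55 LD3_c59)) :=
  Lre_d IH (LK LD1_c5 LD2_c59 LD3_c10) (LK LD1_c2 LD2_c55 LD3_c59) Lrfl Lrfl
theorem f641258 : Led Lsl_et (LP (LK LD1_c5 LD2_c59 LD3_c10)) = (LP (LK LD1_c11 LD2_c42 LD3_c51)) :=
  Lre_e IH (LK LD1_c5 LD2_c59 LD3_c10) (LK LD1_c11 LD2_c42 LD3_c51) Lrfl Lrfl
theorem f958171 : Led Lsl_gt (LP (LK LD1_c20 LD2_c29 LD3_c13)) = (LP (LK LD1_c11 LD2_c42 LD3_c51)) :=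
  Lgr Lrot131 (Lpr_ef (f596991 IH) (Lpr_dt (f383595 IH) (Lpr_gf (f383588 IH) (Lpe (f383522 IH) (Lpr_gf (f958170 IH) (Lpe (f958163 IH) (Lpe (K50.f700087 IH) (Lpqs (K41.f641739 IH) (Lpqs (K41.f642149 IH) (Lpe (K41.f641334 IH) (Lpe (f502246 IH) (Lpr_et (f641258 IH) (Lpn (LP (LK LD1_c11 LD2_c42 LD3_c51)))))))))))))))
theorem f958172 : Led Lsl_gt (LP (LK LD1_c20 LD2_c29 LD3_c13)) = (LP (LK LD1_c11 LD2_c42 LD3_c51)) :=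
  Leop (Lpe (f958171 IH) (Lpn (LP (LK LD1_c20 LD2_c29 LD3_c13))))
theorem seed_2811 : LEOK LG_g (LK LD1_c20 LD2_c29 LD3_c13) :=
  Leoe_g (LK LD1_c20 LD2_c29 LD3_c13) (f958172 IH)
def v47359 : LQ := Led Lsl_at (LP (LK LD1_c11 LD2_c18 LD3_c4))
theorem f958267 : Led Lsl_at (LP (LK LD1_c11 LD2_c18 LD3_c4)) = v47359 :=
  Lrfl
theorem f597949 : Led Lsl_ft (LP (LK LD1_c5 LD2_c44 LD3_c3)) = (LP (LK LD1_c2 LD2_c48 LD3_c9)) :=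
  Lgr Lrot48 (Lpr_ff (K56.f597940 IH) (Lpn (LP (LK LD1_c2 LD2_c48 LD3_c9))))
theorem f140403 : Led Lsl_bt (LP (LK LD1_c11 LD2_c18 LD3_c4)) = (LP (LK LD1_c5 LD2_c44 LD3_c3)) :=
  Lre_b IH (LK LD1_c11 LD2_c18 LD3_c4) (LK LD1_c5 LD2_c44 LD3_c3) Lrfl Lrfl
theorem f597951 : Led Lsl_ff (LP (LK LD1_c11 LD2_c18 LD3_c4)) = (LP (LK LD1_c5 LD2_c44 LD3_c29)) :=
  Lgr Lrot25 (Lpr_bt (f140403 IH) (Lpr_ft (f597949 IH) (Lpr_bt (K54.f211933 IH) (Lpn (LP (LK LD1_c5 LD2_c44 LD3_c29))))))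
theorem f579818 : Led Lsl_at (LP (LK LD1_c11 LD2_c19 LD3_c1)) = (LP (LK LD1_c5 LD2_c44 LD3_c29)) :=
  Lre_a IH (LK LD1_c11 LD2_c19 LD3_c1) (LK LD1_c5 LD2_c44 LD3_c29) Lrfl Lrfl
theorem f958271 : Led Lsl_ff (LP (LK LD1_c11 LD2_c19 LD3_c1)) = v47359 :=
  Lgr Lrot30 (Lpr_at (f579818 IH) (Lpe (f597951 IH) (Lpr_at (f958267 IH) (Lpn v47359))))
theorem f404909 : Led Lsl_gt (LP (LK LD1_c11 LD2_c19 LD3_c0)) = (LP (LK LD1_c5 LD2_c44 LD3_c29)) :=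
  Lre_g IH (LK LD1_c11 LD2_c19 LD3_c0) (LK LD1_c5 LD2_c44 LD3_c29) Lrfl Lrfl
theorem f958276 : Led Lsl_gf (LP (LK LD1_c11 LD2_c19 LD3_c0)) = v47359 :=
  Lgr Lrot47 (Lpr_gt (f404909 IH) (Lpe (f579818 IH) (Lpr_ff (f958271 IH) (Lpn v47359))))
theorem f958272 : Led Lsl_gt (LP (LK LD1_c11 LD2_c18 LD3_c61)) = v47359 :=
  Lgr Lrot46 (Lpe (K54.f404913 IH) (Lpe (f597951 IH) (Lpr_at (f958267 IH) (Lpn v47359))))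
theorem f237494 : Led Lsl_dt (LP (LK LD1_c9 LD2_c38 LD3_c2)) = (LP (LK LD1_c17 LD2_c43 LD3_c48)) :=
  Lre_d IH (LK LD1_c9 LD2_c38 LD3_c2) (LK LD1_c17 LD2_c43 LD3_c48) Lrfl Lrfl
theorem f619297 : Led Lsl_ft (LP (LK LD1_c17 LD2_c43 LD3_c48)) = (LP (LK LD1_c11 LD2_c18 LD3_c61)) :=
  Lgr Lrot54 (Lpe (f237494 IH) (Lpe (K30.f326135 IH) (Lpr_df (K54.f619291 IH) (Lpn (LP (LK LD1_c11 LD2_c18 LD3_c61))))))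
theorem f619322 : Led Lsl_ff (LP (LK LD1_c17 LD2_c43 LD3_c48)) = (LP (LK LD1_c11 LD2_c18 LD3_c61)) :=
  Lgr Lrot3 (Lpr_ft (f619297 IH) (Lpn (LP (LK LD1_c11 LD2_c18 LD3_c61))))
theorem f958277 : Led Lsl_af (LP (LK LD1_c11 LD2_c19 LD3_c0)) = (LP (LK LD1_c17 LD2_c43 LD3_c48)) :=
  Lgr Lrot31 (Lpr_gf (f958276 IH) (Lpe (f958272 IH) (Lpe (f619322 IH) (Lpn (LP (LK LD1_c17 LD2_c43 LD3_c48))))))
theorem f958278 : Led Lsl_at (LP (LK LD1_c17 LD2_c43 LD3_c48)) = (LP (LK LD1_c11 LD2_c19 LD3_c0)) :=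
  Leop (Lpr_af (f958277 IH) (Lpn (LP (LK LD1_c17 LD2_c43 LD3_c48))))
theorem seed_2812 : LEOK LG_a (LK LD1_c17 LD2_c43 LD3_c48) :=
  Leoe_a (LK LD1_c17 LD2_c43 LD3_c48) (f958278 IH)
def v47373 : LQ := Led Lsl_ct (LP (LK LD1_c11 LD2_c18 LD3_c21))
theorem f958416 : Led Lsl_ct (LP (LK LD1_c11 LD2_c18 LD3_c21)) = v47373 :=
  Lrfl
theorem f958420 : Led Lsl_gf (LP (LK LD1_c20 LD2_c48 LD3_c54)) = v47373 :=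
  Lgr Lrot148 (Lpr_dt (K55.f720386 IH) (Lpr_gt (K55.f642043 IH) (Lpr_dt (K53.f500848 IH) (Lpr_ct (K53.f500841 IH) (Lpe (K53.f500842 IH) (Lpe (K41.f641643 IH) (Lpe (K41.f641664 IH) (Lpe (K55.f740253 IH) (Lpr_ct (f958416 IH) (Lpn v47373))))))))))
theorem f958421 : Led Lsl_gt (LP (LK LD1_c11 LD2_c42 LD3_c36)) = v47373 :=
  Lgr Lrot5 (Lpe (K55.f746088 IH) (Lpr_at (K55.f746099 IH) (Lpr_gf (f958420 IH) (Lpn v47373))))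
theorem f958418 : Led Lsl_cf (LP (LK LD1_c11 LD2_c18 LD3_c21)) = v47373 :=
  Lgr Lrot11 (Lpr_ct (f958416 IH) (Lpn v47373))
theorem f720000 : Led Lsl_ct (LP (LK LD1_c11 LD2_c18 LD3_c20)) = (LP (LK LD1_c5 LD2_c44 LD3_c7)) :=
  Lre_c IH (LK LD1_c11 LD2_c18 LD3_c20) (LK LD1_c5 LD2_c44 LD3_c7) Lrfl Lrfl
theorem f958423 : Led Lsl_gf (LP (LK LD1_c11 LD2_c31 LD3_c26)) = (LP (LK LD1_c20 LD2_c16 LD3_c46)) :=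
  Lgr Lrot147 (Lpr_ct (K53.f643008 IH) (Lpr_gt (f958421 IH) (Lpe (f958418 IH) (Lpe (K55.f382413 IH) (Lpe (f720000 IH) (Lpe (K65.f740336 IH) (Lpr_cf (K51.f382436 IH) (Lpr_gf (K52.f706073 IH) (Lpe (K52.f140492 IH) (Lpn (LP (LK LD1_c20 LD2_c16 LD3_c46))))))))))))
theorem f958424 : Led Lsl_gt (LP (LK LD1_c20 LD2_c16 LD3_c46)) = (LP (LK LD1_c11 LD2_c31 LD3_c26)) :=
  Leop (Lpr_gf (f958423 IH) (Lpn (LP (LK LD1_c20 LD2_c16 LD3_c46))))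
theorem seed_2813 : LEOK LG_g (LK LD1_c20 LD2_c16 LD3_c46) :=
  Leoe_g (LK LD1_c20 LD2_c16 LD3_c46) (f958424 IH)
def v47387 : LQ := Led Lsl_dt (LP (LK LD1_c11 LD2_c18 LD3_c28))
theorem f958493 : Led Lsl_dt (LP (LK LD1_c11 LD2_c18 LD3_c28)) = v47387 :=
  Lrfl
theorem f958494 : Led Lsl_df (LP (LK LD1_c11 LD2_c18 LD3_c28)) = v47387 :=
  Lgr Lrot38 (Lpr_dt (f958493 IH) (Lpn v47387))
theorem f561709 : Led Lsl_gt (LP (LK LD1_c11 LD2_c18 LD3_c28)) = (LP (LK LD1_c5 LD2_c44 LD3_c12)) :=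
  Lre_g IH (LK LD1_c11 LD2_c18 LD3_c28) (LK LD1_c5 LD2_c44 LD3_c12) Lrfl Lrfl
theorem f74671 : Led Lsl_et (LP (LK LD1_c9 LD2_c30 LD3_c27)) = (LP (LK LD1_c17 LD2_c31 LD3_c50)) :=
  Lre_e IH (LK LD1_c9 LD2_c30 LD3_c27) (LK LD1_c17 LD2_c31 LD3_c50) Lrfl Lrfl
theorem f958495 : Led Lsl_gt (LP (LK LD1_c17 LD2_c31 LD3_c50)) = v47387 :=
  Lgr Lrot137 (Lpe (f74671 IH) (Lpr_dt (K57.f74587 IH) (Lpe (K2.f74569 IH) (Lpe (K56.f75023 IH) (Lpr_et (K56.f387420 IH) (Lpe (K39.f72501 IH) (Lpr_ef (K40.f556094 IH) (Lpr_dt (K69.f597227 IH) (Lpe (f561709 IH) (Lpr_df (f958494 IH) (Lpn v47387)))))))))))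
theorem f74665 : Led Lsl_et (LP (LK LD1_c17 LD2_c12 LD3_c22)) = (LP (LK LD1_c9 LD2_c17 LD3_c15)) :=
  Lre_e IH (LK LD1_c17 LD2_c12 LD3_c22) (LK LD1_c9 LD2_c17 LD3_c15) Lrfl Lrfl
def v47245 : LQ := Led Lsl_ft (LP (LK LD1_c11 LD2_c16 LD3_c49))
theorem f957628 : Led Lsl_ft (LP (LK LD1_c11 LD2_c16 LD3_c49)) = v47245 :=
  Lrfl
theorem f561713 : Led Lsl_et (LP (LK LD1_c5 LD2_c43 LD3_c22)) = (LP (LK LD1_c11 LD2_c16 LD3_c49)) :=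
  Lre_e IH (LK LD1_c5 LD2_c43 LD3_c22) (LK LD1_c11 LD2_c16 LD3_c49) Lrfl Lrfl
theorem f561782 : Led Lsl_ft (LP (LK LD1_c17 LD2_c12 LD3_c13)) = (LP (LK LD1_c9 LD2_c17 LD3_c6)) :=
  Lre_f IH (LK LD1_c17 LD2_c12 LD3_c13) (LK LD1_c9 LD2_c17 LD3_c6) Lrfl Lrfl
theorem f957632 : Led Lsl_ef (LP (LK LD1_c17 LD2_c12 LD3_c13)) = v47245 :=
  Lgr Lrot21 (Lpr_ft (f561782 IH) (Lpe (K40.f561778 IH) (Lpe (K40.f561728 IH) (Lpr_et (f561713 IH) (Lpr_ft (f957628 IH) (Lpn v47245))))))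
theorem f602448 : Led Lsl_ft (LP (LK LD1_c20 LD2_c40 LD3_c24)) = (LP (LK LD1_c11 LD2_c40 LD3_c25)) :=
  Lre_f IH (LK LD1_c20 LD2_c40 LD3_c24) (LK LD1_c11 LD2_c40 LD3_c25) Lrfl Lrfl
theorem f957631 : Led Lsl_df (LP (LK LD1_c20 LD2_c40 LD3_c24)) = v47245 :=
  Lgr Lrot78 (Lpr_ft (f602448 IH) (Lpe (K74.f561726 IH) (Lpr_ft (f957628 IH) (Lpn v47245))))
theorem f602441 : Led Lsl_bt (LP (LK LD1_c11 LD2_c40 LD3_c25)) = (LP (LK LD1_c16 LD2_c52 LD3_c11)) :=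
  Lgr Lrot127 (Lpr_bf (K74.f602436 IH) (Lpn (LP (LK LD1_c16 LD2_c52 LD3_c11))))
theorem f586847 : Led Lsl_af (LP (LK LD1_c9 LD2_c7 LD3_c43)) = (LP (LK LD1_c16 LD2_c52 LD3_c11)) :=
  Lgr Lrot0 (Lpr_at (K45.f586845 IH) (Lpn (LP (LK LD1_c16 LD2_c52 LD3_c11))))
theorem f561880 : Led Lsl_bf (LP (LK LD1_c4 LD2_c39 LD3_c55)) = (LP (LK LD1_c9 LD2_c7 LD3_c43)) :=
  Lgr Lrot24 (Lpr_bt (K40.f561878 IH) (Lpn (LP (LK LD1_c9 LD2_c7 LD3_c43))))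
theorem f602446 : Led Lsl_af (LP (LK LD1_c11 LD2_c40 LD3_c25)) = (LP (LK LD1_c6 LD2_c8 LD3_c10)) :=
  Lgr Lrot36 (Lpr_bt (f602441 IH) (Lpe (f586847 IH) (Lpe (f561880 IH) (Lpr_at (K56.f68894 IH) (Lpr_bt (K36.f68833 IH) (Lpn (LP (LK LD1_c6 LD2_c8 LD3_c10))))))))
theorem f602445 : Led Lsl_ft (LP (LK LD1_c11 LD2_c40 LD3_c25)) = (LP (LK LD1_c20 LD2_c40 LD3_c24)) :=
  Lre_f IH (LK LD1_c11 LD2_c40 LD3_c25) (LK LD1_c20 LD2_c40 LD3_c24) Lrfl Lrfl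
theorem f68870 : Led Lsl_ft (LP (LK LD1_c11 LD2_c58 LD3_c18)) = (LP (LK LD1_c6 LD2_c8 LD3_c10)) :=
  Lre_f IH (LK LD1_c11 LD2_c58 LD3_c18) (LK LD1_c6 LD2_c8 LD3_c10) Lrfl Lrfl
theorem f602451 : Led Lsl_at (LP (LK LD1_c20 LD2_c40 LD3_c24)) = (LP (LK LD1_c11 LD2_c58 LD3_c18)) :=
  Lgr Lrot66 (Lpe (f602445 IH) (Lpr_af (f602446 IH) (Lpe (f68870 IH) (Lpn (LP (LK LD1_c11 LD2_c58 LD3_c18))))))
theorem f602455 : Led Lsl_af (LP (LK LD1_c20 LD2_c40 LD3_c24)) = (LP (LK LD1_c11 LD2_c58 LD3_c18)) :=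
  Lgr Lrot0 (Lpr_at (f602451 IH) (Lpn (LP (LK LD1_c11 LD2_c58 LD3_c18))))
theorem f68871 : Led Lsl_ft (LP (LK LD1_c6 LD2_c8 LD3_c10)) = (LP (LK LD1_c11 LD2_c58 LD3_c18)) :=
  Lre_f IH (LK LD1_c6 LD2_c8 LD3_c10) (LK LD1_c11 LD2_c58 LD3_c18) Lrfl Lrfl
theorem f68876 : Led Lsl_gt (LP (LK LD1_c6 LD2_c8 LD3_c10)) = (LP (LK LD1_c11 LD2_c58 LD3_c19)) :=
  Lre_g IH (LK LD1_c6 LD2_c8 LD3_c10) (LK LD1_c11 LD2_c58 LD3_c19) Lrfl Lrfl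
theorem f602463 : Led Lsl_gf (LP (LK LD1_c20 LD2_c40 LD3_c24)) = (LP (LK LD1_c11 LD2_c58 LD3_c19)) :=
  Lgr Lrot76 (Lpr_af (f602455 IH) (Lpe (f68871 IH) (Lpr_gt (f68876 IH) (Lpn (LP (LK LD1_c11 LD2_c58 LD3_c19))))))
theorem f68889 : Led Lsl_dt (LP (LK LD1_c21 LD2_c3 LD3_c16)) = (LP (LK LD1_c11 LD2_c58 LD3_c19)) :=
  Lre_d IH (LK LD1_c21 LD2_c3 LD3_c16) (LK LD1_c11 LD2_c58 LD3_c19) Lrfl Lrfl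
theorem f958474 : Led Lsl_et (LP (LK LD1_c11 LD2_c18 LD3_c28)) = (LP (LK LD1_c20 LD2_c14 LD3_c58)) :=
  Lre_e IH (LK LD1_c11 LD2_c18 LD3_c28) (LK LD1_c20 LD2_c14 LD3_c58) Lrfl Lrfl
theorem f958496 : Led Lsl_gf (LP (LK LD1_c21 LD2_c3 LD3_c16)) = (LP (LK LD1_c20 LD2_c14 LD3_c58)) :=
  Lgr Lrot138 (Lpr_dt (f68889 IH) (Lpe (f602463 IH) (Lpr_df (f957631 IH) (Lpe (f957632 IH) (Lpr_gt (K2.f74597 IH) (Lpe (f74665 IH) (Lpr_dt (K57.f74589 IH) (Lpr_gt (f958495 IH) (Lpe (f958493 IH) (Lpr_et (f958474 IH) (Lpn (LP (LK LD1_c20 LD2_c14 LD3_c58)))))))))))))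
theorem f958497 : Led Lsl_gt (LP (LK LD1_c20 LD2_c14 LD3_c58)) = (LP (LK LD1_c21 LD2_c3 LD3_c16)) :=
  Leop (Lpr_gf (f958496 IH) (Lpn (LP (LK LD1_c20 LD2_c14 LD3_c58))))
theorem seed_2814 : LEOK LG_g (LK LD1_c20 LD2_c14 LD3_c58) :=
  Leoe_g (LK LD1_c20 LD2_c14 LD3_c58) (f958497 IH)
def v47410 : LQ := Led Lsl_gt (LP (LK LD1_c11 LD2_c18 LD3_c42))
theorem f958582 : Led Lsl_gt (LP (LK LD1_c11 LD2_c18 LD3_c42)) = v47410 :=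
  Lrfl
theorem f383340 : Led Lsl_dt (LP (LK LD1_c5 LD2_c44 LD3_c18)) = (LP (LK LD1_c11 LD2_c18 LD3_c42)) :=
  Lre_d IH (LK LD1_c5 LD2_c44 LD3_c18) (LK LD1_c11 LD2_c18 LD3_c42) Lrfl Lrfl
theorem f383338 : Led Lsl_gt (LP (LK LD1_c2 LD2_c48 LD3_c5)) = (LP (LK LD1_c5 LD2_c44 LD3_c18)) :=
  Lre_g IH (LK LD1_c2 LD2_c48 LD3_c5) (LK LD1_c5 LD2_c44 LD3_c18) Lrfl Lrfl
theorem f381359 : Led Lsl_et (LP (LK LD1_c19 LD2_c59 LD3_c61)) = (LP (LK LD1_c11 LD2_c6 LD3_c31)) :=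
  Lre_e IH (LK LD1_c19 LD2_c59 LD3_c61) (LK LD1_c11 LD2_c6 LD3_c31) Lrfl Lrfl
theorem f958583 : Led Lsl_dt (LP (LK LD1_c19 LD2_c59 LD3_c61)) = v47410 :=
  Lgr Lrot56 (Lpr_et (f381359 IH) (Lpr_gt (K53.f381328 IH) (Lpe (K17.f242709 IH) (Lpr_dt (K17.f211950 IH) (Lpr_gt (K27.f211949 IH) (Lpr_df (K28.f383254 IH) (Lpr_et (K40.f383256 IH) (Lpr_gt (f383338 IH) (Lpr_dt (f383340 IH) (Lpr_gt (f958582 IH) (Lpn v47410)))))))))))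
theorem f705465 : Led Lsl_et (LP (LK LD1_c9 LD2_c30 LD3_c38)) = (LP (LK LD1_c17 LD2_c31 LD3_c59)) :=
  Lre_e IH (LK LD1_c9 LD2_c30 LD3_c38) (LK LD1_c17 LD2_c31 LD3_c59) Lrfl Lrfl
def v39991 : LQ := Led Lsl_dt (LP (LK LD1_c9 LD2_c30 LD3_c38))
theorem f912581 : Led Lsl_dt (LP (LK LD1_c9 LD2_c30 LD3_c38)) = v39991 :=
  Lrfl
theorem f912583 : Led Lsl_df (LP (LK LD1_c9 LD2_c30 LD3_c38)) = v39991 :=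
  Lgr Lrot38 (Lpr_dt (f912581 IH) (Lpn v39991))
theorem f958586 : Led Lsl_ef v39991 = v47410 :=
  Lgr Lrot73 (Lpe (f912583 IH) (Lpr_et (f705465 IH) (Lpe (K54.f710654 IH) (Lpr_et (f710658 IH) (Lpr_dt (f958583 IH) (Lpn v47410))))))
theorem f958588 : Led Lsl_et v39991 = v47410 :=
  Lgr Lrot87 (Lpr_ef (f958586 IH) (Lpn v47410))
def v16138 : LQ := Led Lsl_et (LP (LK LD1_c5 LD2_c53 LD3_c9))
theorem f746706 : Led Lsl_et (LP (LK LD1_c5 LD2_c53 LD3_c9)) = v16138 :=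
  Lrfl
theorem f81983 : Led Lsl_et (LP (LK LD1_c5 LD2_c55 LD3_c38)) = (LP (LK LD1_c2 LD2_c54 LD3_c9)) :=
  Lre_e IH (LK LD1_c5 LD2_c55 LD3_c38) (LK LD1_c2 LD2_c54 LD3_c9) Lrfl Lrfl
theorem f746709 : Led Lsl_df (LP (LK LD1_c5 LD2_c55 LD3_c38)) = v16138 :=
  Lgr Lrot70 (Lpr_et (f81983 IH) (Lpr_dt (K6.f81951 IH) (Lpr_et (K36.f500511 IH) (Lpqs (K36.f537904 IH) (Lpr_dt (K39.f211087 IH) (Lpr_et (f746706 IH) (Lpn v16138)))))))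
theorem f746710 : Led Lsl_ef (LP (LK LD1_c5 LD2_c53 LD3_c9)) = v16138 :=
  Lgr Lrot88 (Lpr_et (f746706 IH) (Lpn v16138))
theorem f383335 : Led Lsl_gt (LP (LK LD1_c5 LD2_c44 LD3_c19)) = (LP (LK LD1_c2 LD2_c48 LD3_c5)) :=
  Lre_g IH (LK LD1_c5 LD2_c44 LD3_c19) (LK LD1_c2 LD2_c48 LD3_c5) Lrfl Lrfl
theorem f383555 : Led Lsl_dt (LP (LK LD1_c11 LD2_c18 LD3_c45)) = (LP (LK LD1_c5 LD2_c44 LD3_c19)) :=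
  Lre_d IH (LK LD1_c11 LD2_c18 LD3_c45) (LK LD1_c5 LD2_c44 LD3_c19) Lrfl Lrfl
theorem f958589 : Led Lsl_gf (LP (LK LD1_c11 LD2_c18 LD3_c45)) = v47410 :=
  Lgr Lrot138 (Lpr_dt (f383555 IH) (Lpr_gt (f383335 IH) (Lpe (K43.f383323 IH) (Lpr_et (K40.f562468 IH) (Lpr_gt (K40.f450570 IH) (Lpr_ef (f746710 IH) (Lpe (f746709 IH) (Lpr_gt (K54.f710650 IH) (Lpr_df (f912583 IH) (Lpr_et (f958588 IH) (Lpn v47410)))))))))))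
theorem f383548 : Led Lsl_dt (LP (LK LD1_c5 LD2_c44 LD3_c19)) = (LP (LK LD1_c11 LD2_c18 LD3_c45)) :=
  Lre_d IH (LK LD1_c5 LD2_c44 LD3_c19) (LK LD1_c11 LD2_c18 LD3_c45) Lrfl Lrfl
theorem f738407 : Led Lsl_et (LP (LK LD1_c5 LD2_c44 LD3_c19)) = (LP (LK LD1_c11 LD2_c18 LD3_c46)) :=
  Lre_e IH (LK LD1_c5 LD2_c44 LD3_c19) (LK LD1_c11 LD2_c18 LD3_c46) Lrfl Lrfl
theorem f386705 : Led Lsl_ft (LP (LK LD1_c11 LD2_c41 LD3_c32)) = (LP (LK LD1_c5 LD2_c58 LD3_c31)) :=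
  Lre_f IH (LK LD1_c11 LD2_c41 LD3_c32) (LK LD1_c5 LD2_c58 LD3_c31) Lrfl Lrfl
theorem f387303 : Led Lsl_df (LP (LK LD1_c11 LD2_c41 LD3_c32)) = (LP (LK LD1_c20 LD2_c9 LD3_c31)) :=
  Lgr Lrot78 (Lpr_ft (f386705 IH) (Lpr_dt (K42.f386862 IH) (Lpr_ft (K56.f381260 IH) (Lpn (LP (LK LD1_c20 LD2_c9 LD3_c31))))))
theorem f387306 : Led Lsl_dt (LP (LK LD1_c11 LD2_c41 LD3_c32)) = (LP (LK LD1_c20 LD2_c9 LD3_c31)) :=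
  Lgr Lrot42 (Lpr_df (f387303 IH) (Lpn (LP (LK LD1_c20 LD2_c9 LD3_c31))))
theorem f387333 : Led Lsl_at (LP (LK LD1_c10 LD2_c15 LD3_c27)) = (LP (LK LD1_c11 LD2_c41 LD3_c32)) :=
  Lgr Lrot51 (Lpr_df (K54.f387326 IH) (Lpe (K56.f302436 IH) (Lpe (f387306 IH) (Lpn (LP (LK LD1_c11 LD2_c41 LD3_c32))))))
theorem f387330 : Led Lsl_gt (LP (LK LD1_c5 LD2_c12 LD3_c30)) = (LP (LK LD1_c10 LD2_c15 LD3_c25)) :=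
  Lre_g IH (LK LD1_c5 LD2_c12 LD3_c30) (LK LD1_c10 LD2_c15 LD3_c25) Lrfl Lrfl
theorem f387392 : Led Lsl_gt (LP (LK LD1_c10 LD2_c15 LD3_c25)) = (LP (LK LD1_c11 LD2_c41 LD3_c32)) :=
  Lgr Lrot46 (Lpe (f387330 IH) (Lpr_ft (K65.f302655 IH) (Lpr_at (f387333 IH) (Lpn (LP (LK LD1_c11 LD2_c41 LD3_c32))))))
theorem f387394 : Led Lsl_dt (LP (LK LD1_c18 LD2_c39 LD3_c34)) = (LP (LK LD1_c10 LD2_c15 LD3_c25)) :=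
  Lre_d IH (LK LD1_c18 LD2_c39 LD3_c34) (LK LD1_c10 LD2_c15 LD3_c25) Lrfl Lrfl
theorem f958590 : Led Lsl_gt (LP (LK LD1_c11 LD2_c18 LD3_c46)) = (LP (LK LD1_c18 LD2_c39 LD3_c34)) :=
  Lgr Lrot137 (Lpe (f738407 IH) (Lpr_dt (f383548 IH) (Lpr_gf (f958589 IH) (Lpe (f958583 IH) (Lpr_et (f381359 IH) (Lpe (K55.f381356 IH) (Lpr_ef (K27.f381254 IH) (Lpe (f387303 IH) (Lpe (f387392 IH) (Lpe (f387394 IH) (Lpn (LP (LK LD1_c18 LD2_c39 LD3_c34)))))))))))))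
theorem f958591 : Led Lsl_gt (LP (LK LD1_c11 LD2_c18 LD3_c46)) = (LP (LK LD1_c18 LD2_c39 LD3_c34)) :=
  Leop (Lpe (f958590 IH) (Lpn (LP (LK LD1_c11 LD2_c18 LD3_c46))))
theorem seed_2815 : LEOK LG_g (LK LD1_c11 LD2_c18 LD3_c46) :=
  Leoe_g (LK LD1_c11 LD2_c18 LD3_c46) (f958591 IH)
def v47509 : LQ := Led Lsl_dt (LP (LK LD1_c11 LD2_c19 LD3_c42))
theorem f958985 : Led Lsl_dt (LP (LK LD1_c11 LD2_c19 LD3_c42)) = v47509 :=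
  Lrfl
theorem f738878 : Led Lsl_et (LP (LK LD1_c11 LD2_c19 LD3_c42)) = (LP (LK LD1_c5 LD2_c44 LD3_c47)) :=
  Lre_e IH (LK LD1_c11 LD2_c19 LD3_c42) (LK LD1_c5 LD2_c44 LD3_c47) Lrfl Lrfl
theorem f381211 : Led Lsl_et (LP (LK LD1_c11 LD2_c16 LD3_c57)) = (LP (LK LD1_c5 LD2_c43 LD3_c26)) :=
  Lre_e IH (LK LD1_c11 LD2_c16 LD3_c57) (LK LD1_c5 LD2_c43 LD3_c26) Lrfl Lrfl
def v47259 : LQ := Led Lsl_dt (LP (LK LD1_c11 LD2_c16 LD3_c57))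
theorem f957708 : Led Lsl_dt (LP (LK LD1_c11 LD2_c16 LD3_c57)) = v47259 :=
  Lrfl
theorem f958987 : Led Lsl_gf v47259 = v47509 :=
  Lgr Lrot145 (Lpe (f957708 IH) (Lpr_et (f381211 IH) (Lpr_gt (K35.f318749 IH) (Lpr_dt (K39.f318748 IH) (Lpr_gt (K44.f172562 IH) (Lpe (K50.f383812 IH) (Lpr_et (K71.f383907 IH) (Lpr_gt (K54.f416015 IH) (Lpe (f738878 IH) (Lpr_dt (f958985 IH) (Lpn v47509)))))))))))
theorem f957710 : Led Lsl_df (LP (LK LD1_c11 LD2_c16 LD3_c57)) = v47259 :=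
  Lgr Lrot38 (Lpr_dt (f957708 IH) (Lpn v47259))
theorem f381278 : Led Lsl_ct (LP (LK LD1_c11 LD2_c16 LD3_c57)) = (LP (LK LD1_c5 LD2_c43 LD3_c27)) :=
  Lre_c IH (LK LD1_c11 LD2_c16 LD3_c57) (LK LD1_c5 LD2_c43 LD3_c27) Lrfl Lrfl
theorem f706098 : Led Lsl_gt (LP (LK LD1_c20 LD2_c16 LD3_c43)) = (LP (LK LD1_c11 LD2_c19 LD3_c42)) :=
  Lre_g IH (LK LD1_c20 LD2_c16 LD3_c43) (LK LD1_c11 LD2_c19 LD3_c42) Lrfl Lrfl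
theorem f958988 : Led Lsl_ct (LP (LK LD1_c11 LD2_c20 LD3_c5)) = (LP (LK LD1_c20 LD2_c16 LD3_c43)) :=
  Lgr Lrot8 (Lpr_gt (K55.f618139 IH) (Lpr_dt (K50.f383351 IH) (Lpe (K50.f618135 IH) (Lpr_dt (K57.f618026 IH) (Lpe (f381278 IH) (Lpr_df (f957710 IH) (Lpr_gf (f958987 IH) (Lpe (f958985 IH) (Lpe (f706098 IH) (Lpn (LP (LK LD1_c20 LD2_c16 LD3_c43))))))))))))
theorem f958989 : Led Lsl_ct (LP (LK LD1_c11 LD2_c20 LD3_c5)) = (LP (LK LD1_c20 LD2_c16 LD3_c43)) :=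
  Leop (Lpe (f958988 IH) (Lpn (LP (LK LD1_c11 LD2_c20 LD3_c5))))
theorem seed_2816 : LEOK LG_c (LK LD1_c11 LD2_c20 LD3_c5) :=
  Leoe_c (LK LD1_c11 LD2_c20 LD3_c5) (f958989 IH)
def v47515 : LQ := Led Lsl_et (LP (LK LD1_c11 LD2_c19 LD3_c44))
theorem f959006 : Led Lsl_et (LP (LK LD1_c11 LD2_c19 LD3_c44)) = v47515 :=
  Lrfl
theorem f919190 : Led Lsl_ff (LP (LK LD1_c11 LD2_c19 LD3_c44)) = (LP (LK LD1_c15 LD2_c4 LD3_c25)) :=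
  Lgr Lrot30 (Lpr_at (K71.f919184 IH) (Lpe (f919178 IH) (Lpe (f918877 IH) (Lpn (LP (LK LD1_c15 LD2_c4 LD3_c25))))))
def v40746 : LQ := Led Lsl_dt (LP (LK LD1_c9 LD2_c46 LD3_c16))
theorem f919690 : Led Lsl_dt (LP (LK LD1_c9 LD2_c46 LD3_c16)) = v40746 :=
  Lrfl
theorem f75472 : Led Lsl_dt (LP (LK LD1_c20 LD2_c22 LD3_c2)) = (LP (LK LD1_c11 LD2_c24 LD3_c14)) :=
  Lre_d IH (LK LD1_c20 LD2_c22 LD3_c2) (LK LD1_c11 LD2_c24 LD3_c14) Lrfl Lrfl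
theorem f919692 : Led Lsl_ef (LP (LK LD1_c20 LD2_c22 LD3_c2)) = v40746 :=
  Lgr Lrot73 (Lpr_dt (f75472 IH) (Lpe (K65.f75463 IH) (Lpr_dt (K52.f75454 IH) (Lpr_et (K74.f75471 IH) (Lpr_dt (f919690 IH) (Lpn v40746))))))
theorem f959010 : Led Lsl_ff v40746 = v47515 :=
  Lgr Lrot72 (Lpe (f919692 IH) (Lpe (K71.f918866 IH) (Lpr_et (f828267 IH) (Lpe (f919190 IH) (Lpr_et (f959006 IH) (Lpn v47515))))))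
theorem f919691 : Led Lsl_df (LP (LK LD1_c9 LD2_c46 LD3_c16)) = v40746 :=
  Lgr Lrot38 (Lpr_dt (f919690 IH) (Lpn v40746))
def v40747 : LQ := Led Lsl_ft (LP (LK LD1_c9 LD2_c46 LD3_c16))
theorem f919694 : Led Lsl_ft (LP (LK LD1_c9 LD2_c46 LD3_c16)) = v40747 :=
  Lrfl
theorem f959011 : Led Lsl_dt v40747 = v47515 :=
  Lgr Lrot60 (Lpe (f919694 IH) (Lpr_df (f919691 IH) (Lpr_ff (f959010 IH) (Lpn v47515))))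
theorem f140571 : Led Lsl_et (LP (LK LD1_c24 LD2_c53 LD3_c11)) = (LP (LK LD1_c15 LD2_c4 LD3_c11)) :=
  Lre_e IH (LK LD1_c24 LD2_c53 LD3_c11) (LK LD1_c15 LD2_c4 LD3_c11) Lrfl Lrfl
theorem f959007 : Led Lsl_bf (LP (LK LD1_c24 LD2_c53 LD3_c11)) = v47515 :=
  Lgr Lrot96 (Lpr_et (f140571 IH) (Lpe (K71.f140488 IH) (Lpr_et (f959006 IH) (Lpn v47515))))
theorem f73876 : Led Lsl_dt (LP (LK LD1_c11 LD2_c30 LD3_c45)) = (LP (LK LD1_c5 LD2_c51 LD3_c45)) :=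
  Lre_d IH (LK LD1_c11 LD2_c30 LD3_c45) (LK LD1_c5 LD2_c51 LD3_c45) Lrfl Lrfl
theorem f149251 : Led Lsl_et (LP (LK LD1_c20 LD2_c27 LD3_c49)) = (LP (LK LD1_c11 LD2_c30 LD3_c45)) :=
  Lre_e IH (LK LD1_c20 LD2_c27 LD3_c49) (LK LD1_c11 LD2_c30 LD3_c45) Lrfl Lrfl
theorem f140493 : Led Lsl_et (LP (LK LD1_c15 LD2_c4 LD3_c11)) = (LP (LK LD1_c24 LD2_c53 LD3_c11)) :=
  Lre_e IH (LK LD1_c15 LD2_c4 LD3_c11) (LK LD1_c24 LD2_c53 LD3_c11) Lrfl Lrfl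
theorem f149252 : Led Lsl_df (LP (LK LD1_c20 LD2_c27 LD3_c49)) = (LP (LK LD1_c24 LD2_c53 LD3_c11)) :=
  Lgr Lrot70 (Lpr_et (f149251 IH) (Lpr_dt (f73876 IH) (Lpr_et (K52.f149250 IH) (Lpr_dt (K52.f149244 IH) (Lpr_et (f140493 IH) (Lpn (LP (LK LD1_c24 LD2_c53 LD3_c11))))))))
theorem f959017 : Led Lsl_bf v40747 = (LP (LK LD1_c20 LD2_c27 LD3_c49)) :=
  Lgr Lrot93 (Lpr_dt (f959011 IH) (Lpe (f959007 IH) (Lpe (f149252 IH) (Lpn (LP (LK LD1_c20 LD2_c27 LD3_c49))))))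
theorem f919695 : Led Lsl_ff (LP (LK LD1_c9 LD2_c46 LD3_c16)) = v40747 :=
  Lgr Lrot3 (Lpr_ft (f919694 IH) (Lpn v40747))
theorem f919660 : Led Lsl_bt (LP (LK LD1_c9 LD2_c46 LD3_c16)) = (LP (LK LD1_c17 LD2_c56 LD3_c10)) :=
  Lre_b IH (LK LD1_c9 LD2_c46 LD3_c16) (LK LD1_c17 LD2_c56 LD3_c10) Lrfl Lrfl
theorem f959019 : Led Lsl_ft (LP (LK LD1_c17 LD2_c56 LD3_c10)) = (LP (LK LD1_c20 LD2_c27 LD3_c49)) :=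
  Lgr Lrot75 (Lpe (f919660 IH) (Lpr_ff (f919695 IH) (Lpr_bf (f959017 IH) (Lpn (LP (LK LD1_c20 LD2_c27 LD3_c49))))))
theorem f959020 : Led Lsl_ft (LP (LK LD1_c17 LD2_c56 LD3_c10)) = (LP (LK LD1_c20 LD2_c27 LD3_c49)) :=
  Leop (Lpe (f959019 IH) (Lpn (LP (LK LD1_c17 LD2_c56 LD3_c10))))
theorem seed_2817 : LEOK LG_f (LK LD1_c17 LD2_c56 LD3_c10) :=
  Leoe_f (LK LD1_c17 LD2_c56 LD3_c10) (f959020 IH)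
def v47563 : LQ := Led Lsl_ft (LP (LK LD1_c11 LD2_c20 LD3_c21))
theorem f959221 : Led Lsl_ft (LP (LK LD1_c11 LD2_c20 LD3_c21)) = v47563 :=
  Lrfl
def v47562 : LQ := Led Lsl_at (LP (LK LD1_c11 LD2_c20 LD3_c21))
theorem f959207 : Led Lsl_at (LP (LK LD1_c11 LD2_c20 LD3_c21)) = v47562 :=
  Lrfl
theorem f959208 : Led Lsl_af (LP (LK LD1_c11 LD2_c20 LD3_c21)) = v47562 :=
  Lgr Lrot0 (Lpr_at (f959207 IH) (Lpn v47562))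
def v15667 : LQ := Led Lsl_at (LP (LK LD1_c5 LD2_c44 LD3_c61))
theorem f740837 : Led Lsl_at (LP (LK LD1_c5 LD2_c44 LD3_c61)) = v15667 :=
  Lrfl
theorem f740838 : Led Lsl_af (LP (LK LD1_c5 LD2_c44 LD3_c61)) = v15667 :=
  Lgr Lrot0 (Lpr_at (f740837 IH) (Lpn v15667))
theorem f959209 : Led Lsl_cf v15667 = v47562 :=
  Lgr Lrot1 (Lpe (f740838 IH) (Lpr_ct (K74.f698177 IH) (Lpr_at (f959207 IH) (Lpn v47562))))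
theorem f381693 : Led Lsl_gt (LP (LK LD1_c5 LD2_c45 LD3_c0)) = (LP (LK LD1_c2 LD2_c48 LD3_c18)) :=
  Lre_g IH (LK LD1_c5 LD2_c45 LD3_c0) (LK LD1_c2 LD2_c48 LD3_c18) Lrfl Lrfl
theorem f740841 : Led Lsl_ft (LP (LK LD1_c5 LD2_c45 LD3_c0)) = v15667 :=
  Lgr Lrot2 (Lpr_gt (f381693 IH) (Lpr_gt (K56.f382444 IH) (Lpr_af (f740838 IH) (Lpn v15667))))
theorem f740844 : Led Lsl_ff (LP (LK LD1_c5 LD2_c45 LD3_c0)) = v15667 :=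
  Lgr Lrot3 (Lpr_ft (f740841 IH) (Lpn v15667))
theorem f740846 : Led Lsl_ct (LP (LK LD1_c5 LD2_c45 LD3_c0)) = (LP (LK LD1_c11 LD2_c20 LD3_c25)) :=
  Lre_c IH (LK LD1_c5 LD2_c45 LD3_c0) (LK LD1_c11 LD2_c20 LD3_c25) Lrfl Lrfl
theorem f959211 : Led Lsl_ft (LP (LK LD1_c11 LD2_c20 LD3_c25)) = v47562 :=
  Lgr Lrot4 (Lpe (f740846 IH) (Lpr_ff (f740844 IH) (Lpr_cf (f959209 IH) (Lpn v47562))))
theorem f959222 : Led Lsl_af (LP (LK LD1_c11 LD2_c20 LD3_c25)) = v47563 :=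
  Lgr Lrot45 (Lpr_ft (f959211 IH) (Lpe (f959208 IH) (Lpr_ft (f959221 IH) (Lpn v47563))))
theorem f959225 : Led Lsl_gt (LP (LK LD1_c20 LD2_c15 LD3_c1)) = (LP (LK LD1_c11 LD2_c20 LD3_c25)) :=
  Lgr Lrot46 (Lpr_gf (K74.f954920 IH) (Lpr_ft (f959221 IH) (Lpe (f959222 IH) (Lpn (LP (LK LD1_c11 LD2_c20 LD3_c25))))))
theorem f959226 : Led Lsl_gt (LP (LK LD1_c20 LD2_c15 LD3_c1)) = (LP (LK LD1_c11 LD2_c20 LD3_c25)) :=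
  Leop (Lpe (f959225 IH) (Lpn (LP (LK LD1_c20 LD2_c15 LD3_c1))))
theorem seed_2818 : LEOK LG_g (LK LD1_c20 LD2_c15 LD3_c1) :=
  Leoe_g (LK LD1_c20 LD2_c15 LD3_c1) (f959226 IH)
def v47561 : LQ := Led Lsl_gf (LP (LK LD1_c11 LD2_c20 LD3_c21))
theorem f959206 : Led Lsl_gf (LP (LK LD1_c11 LD2_c20 LD3_c21)) = v47561 :=
  Lrfl
theorem f959215 : Led Lsl_gt (LP (LK LD1_c11 LD2_c20 LD3_c25)) = v47561 :=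
  Lgr Lrot5 (Lpr_ft (f959211 IH) (Lpe (f959208 IH) (Lpr_gf (f959206 IH) (Lpn v47561))))
theorem f959228 : (LP (LK LD1_c20 LD2_c14 LD3_c2)) = v47561 :=
  (Llr Lrot26 (Lpe (K39.f556000 IH) (Lpe (K74.f424408 IH) (Lpr_gt (f959225 IH) (Lpr_gt (f959215 IH) (Lpn v47561)))))).symm
theorem f959229 : Led Lsl_gt (LP (LK LD1_c20 LD2_c14 LD3_c2)) = (LP (LK LD1_c11 LD2_c20 LD3_c21)) :=
  Leop (Lpr_gf (f959206 IH) (Lpq (f959228 IH) (Lpn (LP (LK LD1_c20 LD2_c14 LD3_c2)))))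
theorem seed_2819 : LEOK LG_g (LK LD1_c20 LD2_c14 LD3_c2) :=
  Leoe_g (LK LD1_c20 LD2_c14 LD3_c2) (f959229 IH)
def v47565 : LQ := Led Lsl_at (LP (LK LD1_c11 LD2_c20 LD3_c22))
theorem f959237 : Led Lsl_at (LP (LK LD1_c11 LD2_c20 LD3_c22)) = v47565 :=
  Lrfl
theorem f382446 : Led Lsl_dt (LP (LK LD1_c5 LD2_c44 LD3_c61)) = (LP (LK LD1_c11 LD2_c20 LD3_c22)) :=
  Lre_d IH (LK LD1_c5 LD2_c44 LD3_c61) (LK LD1_c11 LD2_c20 LD3_c22) Lrfl Lrfl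
theorem f959239 : Led Lsl_df v15667 = v47565 :=
  Lgr Lrot18 (Lpe (f740838 IH) (Lpr_dt (f382446 IH) (Lpr_at (f959237 IH) (Lpn v47565))))
theorem f720443 : Led Lsl_dt (LP (LK LD1_c5 LD2_c45 LD3_c0)) = (LP (LK LD1_c11 LD2_c20 LD3_c26)) :=
  Lre_d IH (LK LD1_c5 LD2_c45 LD3_c0) (LK LD1_c11 LD2_c20 LD3_c26) Lrfl Lrfl
theorem f959241 : Led Lsl_ft (LP (LK LD1_c11 LD2_c20 LD3_c26)) = v47565 :=
  Lgr Lrot54 (Lpe (f720443 IH) (Lpr_ff (f740844 IH) (Lpr_df (f959239 IH) (Lpn v47565))))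
theorem f959238 : Led Lsl_af (LP (LK LD1_c11 LD2_c20 LD3_c22)) = v47565 :=
  Lgr Lrot0 (Lpr_at (f959237 IH) (Lpn v47565))
theorem f912789 : Led Lsl_gt (LP (LK LD1_c20 LD2_c17 LD3_c41)) = (LP (LK LD1_c11 LD2_c20 LD3_c22)) :=
  Lre_g IH (LK LD1_c20 LD2_c17 LD3_c41) (LK LD1_c11 LD2_c20 LD3_c22) Lrfl Lrfl
theorem f959243 : Led Lsl_gt (LP (LK LD1_c11 LD2_c20 LD3_c26)) = (LP (LK LD1_c20 LD2_c17 LD3_c41)) :=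
  Lgr Lrot5 (Lpr_ft (f959241 IH) (Lpe (f959238 IH) (Lpe (f912789 IH) (Lpn (LP (LK LD1_c20 LD2_c17 LD3_c41))))))
theorem f959244 : Led Lsl_gt (LP (LK LD1_c11 LD2_c20 LD3_c26)) = (LP (LK LD1_c20 LD2_c17 LD3_c41)) :=
  Leop (Lpe (f959243 IH) (Lpn (LP (LK LD1_c11 LD2_c20 LD3_c26))))
theorem seed_2820 : LEOK LG_g (LK LD1_c11 LD2_c20 LD3_c26) :=
  Leoe_g (LK LD1_c11 LD2_c20 LD3_c26) (f959244 IH)
def v47627 : LQ := Led Lsl_gt (LP (LK LD1_c11 LD2_c20 LD3_c61))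
theorem f959489 : Led Lsl_gt (LP (LK LD1_c11 LD2_c20 LD3_c61)) = v47627 :=
  Lrfl
def v47630 : LQ := Led Lsl_ft (LP (LK LD1_c11 LD2_c20 LD3_c61))
theorem f959501 : Led Lsl_ft (LP (LK LD1_c11 LD2_c20 LD3_c61)) = v47630 :=
  Lrfl
def v47629 : LQ := Led Lsl_at (LP (LK LD1_c11 LD2_c20 LD3_c61))
theorem f959492 : Led Lsl_at (LP (LK LD1_c11 LD2_c20 LD3_c61)) = v47629 :=
  Lrfl
theorem f959493 : Led Lsl_af (LP (LK LD1_c11 LD2_c20 LD3_c61)) = v47629 :=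
  Lgr Lrot0 (Lpr_at (f959492 IH) (Lpn v47629))
theorem f172632 : Led Lsl_dt (LP (LK LD1_c5 LD2_c45 LD3_c13)) = (LP (LK LD1_c11 LD2_c20 LD3_c61)) :=
  Lre_d IH (LK LD1_c5 LD2_c45 LD3_c13) (LK LD1_c11 LD2_c20 LD3_c61) Lrfl Lrfl
def v15671 : LQ := Led Lsl_at (LP (LK LD1_c5 LD2_c45 LD3_c13))
theorem f740864 : Led Lsl_at (LP (LK LD1_c5 LD2_c45 LD3_c13)) = v15671 :=
  Lrfl
theorem f740865 : Led Lsl_af (LP (LK LD1_c5 LD2_c45 LD3_c13)) = v15671 :=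
  Lgr Lrot0 (Lpr_at (f740864 IH) (Lpn v15671))
theorem f959494 : Led Lsl_df v15671 = v47629 :=
  Lgr Lrot18 (Lpe (f740865 IH) (Lpr_dt (f172632 IH) (Lpr_at (f959492 IH) (Lpn v47629))))
theorem f740867 : Led Lsl_ft (LP (LK LD1_c5 LD2_c45 LD3_c14)) = v15671 :=
  Lgr Lrot2 (Lpr_gt (K54.f172627 IH) (Lpr_gt (K69.f172630 IH) (Lpr_af (f740865 IH) (Lpn v15671))))
theorem f740870 : Led Lsl_ff (LP (LK LD1_c5 LD2_c45 LD3_c14)) = v15671 :=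
  Lgr Lrot3 (Lpr_ft (f740867 IH) (Lpn v15671))
theorem f245619 : Led Lsl_dt (LP (LK LD1_c5 LD2_c45 LD3_c14)) = (LP (LK LD1_c11 LD2_c21 LD3_c3)) :=
  Lre_d IH (LK LD1_c5 LD2_c45 LD3_c14) (LK LD1_c11 LD2_c21 LD3_c3) Lrfl Lrfl
theorem f959496 : Led Lsl_ft (LP (LK LD1_c11 LD2_c21 LD3_c3)) = v47629 :=
  Lgr Lrot54 (Lpe (f245619 IH) (Lpr_ff (f740870 IH) (Lpr_df (f959494 IH) (Lpn v47629))))
theorem f959502 : Led Lsl_af (LP (LK LD1_c11 LD2_c21 LD3_c3)) = v47630 :=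
  Lgr Lrot45 (Lpr_ft (f959496 IH) (Lpe (f959493 IH) (Lpr_ft (f959501 IH) (Lpn v47630))))
theorem f959505 : v47627 = (LP (LK LD1_c12 LD2_c54 LD3_c3)) :=
  (Llr Lrot5 (Lpe (f959489 IH) (Lpr_ft (f959501 IH) (Lpe (f959502 IH) (Lpr_gf (K54.f739304 IH) (Lpn (LP (LK LD1_c12 LD2_c54 LD3_c3)))))))).symm
theorem f959506 : Led Lsl_gt (LP (LK LD1_c11 LD2_c20 LD3_c61)) = (LP (LK LD1_c12 LD2_c54 LD3_c3)) :=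
  Leop (Lpq (f959505 IH) (Lpe (f959489 IH) (Lpn (LP (LK LD1_c11 LD2_c20 LD3_c61)))))
theorem seed_2821 : LEOK LG_g (LK LD1_c11 LD2_c20 LD3_c61) :=
  Leoe_g (LK LD1_c11 LD2_c20 LD3_c61) (f959506 IH)
def v47724 : LQ := Led Lsl_ft (LP (LK LD1_c11 LD2_c21 LD3_c45))
theorem f959865 : Led Lsl_ft (LP (LK LD1_c11 LD2_c21 LD3_c45)) = v47724 :=
  Lrfl
theorem f640439 : Led Lsl_gt (LP (LK LD1_c11 LD2_c21 LD3_c45)) = (LP (LK LD1_c20 LD2_c19 LD3_c27)) :=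
  Lre_g IH (LK LD1_c11 LD2_c21 LD3_c45) (LK LD1_c20 LD2_c19 LD3_c27) Lrfl Lrfl
def v47721 : LQ := Led Lsl_at (LP (LK LD1_c11 LD2_c21 LD3_c45))
theorem f959847 : Led Lsl_at (LP (LK LD1_c11 LD2_c21 LD3_c45)) = v47721 :=
  Lrfl
theorem f959848 : Led Lsl_af (LP (LK LD1_c11 LD2_c21 LD3_c45)) = v47721 :=
  Lgr Lrot0 (Lpr_at (f959847 IH) (Lpn v47721))
theorem f640440 : Led Lsl_ct (LP (LK LD1_c5 LD2_c45 LD3_c39)) = (LP (LK LD1_c11 LD2_c21 LD3_c45)) :=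
  Lre_c IH (LK LD1_c5 LD2_c45 LD3_c39) (LK LD1_c11 LD2_c21 LD3_c45) Lrfl Lrfl
def v15728 : LQ := Led Lsl_at (LP (LK LD1_c5 LD2_c45 LD3_c39))
theorem f741128 : Led Lsl_at (LP (LK LD1_c5 LD2_c45 LD3_c39)) = v15728 :=
  Lrfl
theorem f741129 : Led Lsl_af (LP (LK LD1_c5 LD2_c45 LD3_c39)) = v15728 :=
  Lgr Lrot0 (Lpr_at (f741128 IH) (Lpn v15728))
theorem f959849 : Led Lsl_cf v15728 = v47721 :=
  Lgr Lrot1 (Lpe (f741129 IH) (Lpr_ct (f640440 IH) (Lpr_at (f959847 IH) (Lpn v47721))))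
theorem f415892 : Led Lsl_gt (LP (LK LD1_c2 LD2_c48 LD3_c37)) = (LP (LK LD1_c5 LD2_c45 LD3_c39)) :=
  Lre_g IH (LK LD1_c2 LD2_c48 LD3_c37) (LK LD1_c5 LD2_c45 LD3_c39) Lrfl Lrfl
theorem f631600 : Led Lsl_gt (LP (LK LD1_c5 LD2_c45 LD3_c40)) = (LP (LK LD1_c2 LD2_c48 LD3_c37)) :=
  Lre_g IH (LK LD1_c5 LD2_c45 LD3_c40) (LK LD1_c2 LD2_c48 LD3_c37) Lrfl Lrfl
theorem f741132 : Led Lsl_ft (LP (LK LD1_c5 LD2_c45 LD3_c40)) = v15728 :=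
  Lgr Lrot2 (Lpr_gt (f631600 IH) (Lpr_gt (f415892 IH) (Lpr_af (f741129 IH) (Lpn v15728))))
theorem f741136 : Led Lsl_ff (LP (LK LD1_c5 LD2_c45 LD3_c40)) = v15728 :=
  Lgr Lrot3 (Lpr_ft (f741132 IH) (Lpn v15728))
theorem f741138 : Led Lsl_ct (LP (LK LD1_c5 LD2_c45 LD3_c40)) = (LP (LK LD1_c11 LD2_c21 LD3_c48)) :=
  Lre_c IH (LK LD1_c5 LD2_c45 LD3_c40) (LK LD1_c11 LD2_c21 LD3_c48) Lrfl Lrfl
theorem f959851 : Led Lsl_ft (LP (LK LD1_c11 LD2_c21 LD3_c48)) = v47721 :=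
  Lgr Lrot4 (Lpe (f741138 IH) (Lpr_ff (f741136 IH) (Lpr_cf (f959849 IH) (Lpn v47721))))
theorem f959866 : Led Lsl_af (LP (LK LD1_c11 LD2_c21 LD3_c48)) = v47724 :=
  Lgr Lrot45 (Lpr_ft (f959851 IH) (Lpe (f959848 IH) (Lpr_ft (f959865 IH) (Lpn v47724))))
theorem f959869 : Led Lsl_gt (LP (LK LD1_c20 LD2_c19 LD3_c27)) = (LP (LK LD1_c11 LD2_c21 LD3_c48)) :=
  Lgr Lrot46 (Lpe (f640439 IH) (Lpr_ft (f959865 IH) (Lpe (f959866 IH) (Lpn (LP (LK LD1_c11 LD2_c21 LD3_c48))))))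
theorem f959870 : Led Lsl_gt (LP (LK LD1_c20 LD2_c19 LD3_c27)) = (LP (LK LD1_c11 LD2_c21 LD3_c48)) :=
  Leop (Lpe (f959869 IH) (Lpn (LP (LK LD1_c20 LD2_c19 LD3_c27))))
theorem seed_2822 : LEOK LG_g (LK LD1_c20 LD2_c19 LD3_c27) :=
  Leoe_g (LK LD1_c20 LD2_c19 LD3_c27) (f959870 IH)
def v47730 : LQ := Led Lsl_ft (LP (LK LD1_c11 LD2_c21 LD3_c46))
theorem f959891 : Led Lsl_ft (LP (LK LD1_c11 LD2_c21 LD3_c46)) = v47730 :=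
  Lrfl
theorem f631597 : Led Lsl_gt (LP (LK LD1_c11 LD2_c21 LD3_c46)) = (LP (LK LD1_c20 LD2_c19 LD3_c29)) :=
  Lre_g IH (LK LD1_c11 LD2_c21 LD3_c46) (LK LD1_c20 LD2_c19 LD3_c29) Lrfl Lrfl
def v47726 : LQ := Led Lsl_at (LP (LK LD1_c11 LD2_c21 LD3_c46))
theorem f959874 : Led Lsl_at (LP (LK LD1_c11 LD2_c21 LD3_c46)) = v47726 :=
  Lrfl
theorem f959875 : Led Lsl_af (LP (LK LD1_c11 LD2_c21 LD3_c46)) = v47726 :=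
  Lgr Lrot0 (Lpr_at (f959874 IH) (Lpn v47726))
theorem f631596 : Led Lsl_dt (LP (LK LD1_c5 LD2_c45 LD3_c39)) = (LP (LK LD1_c11 LD2_c21 LD3_c46)) :=
  Lre_d IH (LK LD1_c5 LD2_c45 LD3_c39) (LK LD1_c11 LD2_c21 LD3_c46) Lrfl Lrfl
theorem f959876 : Led Lsl_df v15728 = v47726 :=
  Lgr Lrot18 (Lpe (f741129 IH) (Lpr_dt (f631596 IH) (Lpr_at (f959874 IH) (Lpn v47726))))
theorem f741133 : Led Lsl_dt (LP (LK LD1_c5 LD2_c45 LD3_c40)) = (LP (LK LD1_c11 LD2_c21 LD3_c49)) :=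
  Lre_d IH (LK LD1_c5 LD2_c45 LD3_c40) (LK LD1_c11 LD2_c21 LD3_c49) Lrfl Lrfl
theorem f959878 : Led Lsl_ft (LP (LK LD1_c11 LD2_c21 LD3_c49)) = v47726 :=
  Lgr Lrot54 (Lpe (f741133 IH) (Lpr_ff (f741136 IH) (Lpr_df (f959876 IH) (Lpn v47726))))
theorem f959892 : Led Lsl_af (LP (LK LD1_c11 LD2_c21 LD3_c49)) = v47730 :=
  Lgr Lrot45 (Lpr_ft (f959878 IH) (Lpe (f959875 IH) (Lpr_ft (f959891 IH) (Lpn v47730))))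
theorem f959895 : Led Lsl_gt (LP (LK LD1_c20 LD2_c19 LD3_c29)) = (LP (LK LD1_c11 LD2_c21 LD3_c49)) :=
  Lgr Lrot46 (Lpe (f631597 IH) (Lpr_ft (f959891 IH) (Lpe (f959892 IH) (Lpn (LP (LK LD1_c11 LD2_c21 LD3_c49))))))
theorem f959896 : Led Lsl_gt (LP (LK LD1_c20 LD2_c19 LD3_c29)) = (LP (LK LD1_c11 LD2_c21 LD3_c49)) :=
  Leop (Lpe (f959895 IH) (Lpn (LP (LK LD1_c20 LD2_c19 LD3_c29))))
theorem seed_2823 : LEOK LG_g (LK LD1_c20 LD2_c19 LD3_c29) :=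
  Leoe_g (LK LD1_c20 LD2_c19 LD3_c29) (f959896 IH)
def v47828 : LQ := Led Lsl_at (LP (LK LD1_c11 LD2_c22 LD3_c26))
theorem f960250 : Led Lsl_at (LP (LK LD1_c11 LD2_c22 LD3_c26)) = v47828 :=
  Lrfl
theorem f640160 : Led Lsl_bt (LP (LK LD1_c11 LD2_c22 LD3_c26)) = (LP (LK LD1_c5 LD2_c46 LD3_c3)) :=
  Lre_b IH (LK LD1_c11 LD2_c22 LD3_c26) (LK LD1_c5 LD2_c46 LD3_c3) Lrfl Lrfl
theorem f640161 : Led Lsl_bt (LP (LK LD1_c9 LD2_c5 LD3_c0)) = (LP (LK LD1_c16 LD2_c56 LD3_c58)) :=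
  Lre_b IH (LK LD1_c9 LD2_c5 LD3_c0) (LK LD1_c16 LD2_c56 LD3_c58) Lrfl Lrfl
theorem f640162 : Led Lsl_ff (LP (LK LD1_c11 LD2_c22 LD3_c26)) = (LP (LK LD1_c16 LD2_c56 LD3_c58)) :=
  Lgr Lrot25 (Lpr_bt (f640160 IH) (Lpr_ft (K51.f640147 IH) (Lpr_bt (f640161 IH) (Lpn (LP (LK LD1_c16 LD2_c56 LD3_c58))))))
theorem f640253 : Led Lsl_at (LP (LK LD1_c26 LD2_c53 LD3_c8)) = (LP (LK LD1_c16 LD2_c56 LD3_c58)) :=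
  Lre_a IH (LK LD1_c26 LD2_c53 LD3_c8) (LK LD1_c16 LD2_c56 LD3_c58) Lrfl Lrfl
theorem f960253 : Led Lsl_ff (LP (LK LD1_c26 LD2_c53 LD3_c8)) = v47828 :=
  Lgr Lrot30 (Lpr_at (f640253 IH) (Lpe (f640162 IH) (Lpr_at (f960250 IH) (Lpn v47828))))
theorem f960256 : Led Lsl_ft (LP (LK LD1_c26 LD2_c53 LD3_c8)) = v47828 :=
  Lgr Lrot48 (Lpr_ff (f960253 IH) (Lpn v47828))
theorem f960251 : Led Lsl_af (LP (LK LD1_c11 LD2_c22 LD3_c26)) = v47828 :=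
  Lgr Lrot0 (Lpr_at (f960250 IH) (Lpn v47828))
theorem f415863 : Led Lsl_gt (LP (LK LD1_c20 LD2_c20 LD3_c8)) = (LP (LK LD1_c11 LD2_c22 LD3_c26)) :=
  Lre_g IH (LK LD1_c20 LD2_c20 LD3_c8) (LK LD1_c11 LD2_c22 LD3_c26) Lrfl Lrfl
theorem f960257 : Led Lsl_gt (LP (LK LD1_c26 LD2_c53 LD3_c8)) = (LP (LK LD1_c20 LD2_c20 LD3_c8)) :=
  Lgr Lrot5 (Lpr_ft (f960256 IH) (Lpe (f960251 IH) (Lpe (f415863 IH) (Lpn (LP (LK LD1_c20 LD2_c20 LD3_c8))))))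
theorem f960258 : Led Lsl_gt (LP (LK LD1_c26 LD2_c53 LD3_c8)) = (LP (LK LD1_c20 LD2_c20 LD3_c8)) :=
  Leop (Lpe (f960257 IH) (Lpn (LP (LK LD1_c26 LD2_c53 LD3_c8))))
theorem seed_2824 : LEOK LG_g (LK LD1_c26 LD2_c53 LD3_c8) :=
  Leoe_g (LK LD1_c26 LD2_c53 LD3_c8) (f960258 IH)
def v47831 : LQ := Led Lsl_ft (LP (LK LD1_c11 LD2_c22 LD3_c28))
theorem f960272 : Led Lsl_ft (LP (LK LD1_c11 LD2_c22 LD3_c28)) = v47831 :=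
  Lrfl
theorem f417171 : Led Lsl_gt (LP (LK LD1_c11 LD2_c22 LD3_c28)) = (LP (LK LD1_c20 LD2_c20 LD3_c13)) :=
  Lre_g IH (LK LD1_c11 LD2_c22 LD3_c28) (LK LD1_c20 LD2_c20 LD3_c13) Lrfl Lrfl
theorem f706989 : Led Lsl_at (LP (LK LD1_c20 LD2_c20 LD3_c2)) = (LP (LK LD1_c11 LD2_c22 LD3_c28)) :=
  Lre_a IH (LK LD1_c20 LD2_c20 LD3_c2) (LK LD1_c11 LD2_c22 LD3_c28) Lrfl Lrfl
theorem f116943 : Led Lsl_ct (LP (LK LD1_c12 LD2_c3 LD3_c36)) = (LP (LK LD1_c21 LD2_c9 LD3_c5)) :=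
  Lre_c IH (LK LD1_c12 LD2_c3 LD3_c36) (LK LD1_c21 LD2_c9 LD3_c5) Lrfl Lrfl
theorem f639788 : Led Lsl_ct (LP (LK LD1_c20 LD2_c20 LD3_c2)) = (LP (LK LD1_c11 LD2_c22 LD3_c24)) :=
  Lre_c IH (LK LD1_c20 LD2_c20 LD3_c2) (LK LD1_c11 LD2_c22 LD3_c24) Lrfl Lrfl
theorem f706283 : Led Lsl_ft (LP (LK LD1_c21 LD2_c9 LD3_c5)) = (LP (LK LD1_c20 LD2_c20 LD3_c2)) :=
  Lgr Lrot4 (Lpe (f116943 IH) (Lpr_ff (K51.f706279 IH) (Lpe (f639788 IH) (Lpn (LP (LK LD1_c20 LD2_c20 LD3_c2))))))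
theorem f960273 : Led Lsl_af (LP (LK LD1_c21 LD2_c9 LD3_c5)) = v47831 :=
  Lgr Lrot45 (Lpr_ft (f706283 IH) (Lpr_at (f706989 IH) (Lpr_ft (f960272 IH) (Lpn v47831))))
theorem f960277 : Led Lsl_gt (LP (LK LD1_c20 LD2_c20 LD3_c13)) = (LP (LK LD1_c21 LD2_c9 LD3_c5)) :=
  Lgr Lrot46 (Lpe (f417171 IH) (Lpr_ft (f960272 IH) (Lpe (f960273 IH) (Lpn (LP (LK LD1_c21 LD2_c9 LD3_c5))))))
theorem f960278 : Led Lsl_gt (LP (LK LD1_c20 LD2_c20 LD3_c13)) = (LP (LK LD1_c21 LD2_c9 LD3_c5)) :=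
  Leop (Lpe (f960277 IH) (Lpn (LP (LK LD1_c20 LD2_c20 LD3_c13))))
theorem seed_2825 : LEOK LG_g (LK LD1_c20 LD2_c20 LD3_c13) :=
  Leoe_g (LK LD1_c20 LD2_c20 LD3_c13) (f960278 IH)
def v47892 : LQ := Led Lsl_ct (LP (LK LD1_c11 LD2_c23 LD3_c5))
theorem f960508 : Led Lsl_ct (LP (LK LD1_c11 LD2_c23 LD3_c5)) = v47892 :=
  Lrfl
theorem f960510 : Led Lsl_cf (LP (LK LD1_c11 LD2_c23 LD3_c5)) = v47892 :=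
  Lgr Lrot11 (Lpr_ct (f960508 IH) (Lpn v47892))
theorem f69549 : Led Lsl_gt (LP (LK LD1_c5 LD2_c46 LD3_c27)) = (LP (LK LD1_c11 LD2_c23 LD3_c5)) :=
  Lre_g IH (LK LD1_c5 LD2_c46 LD3_c27) (LK LD1_c11 LD2_c23 LD3_c5) Lrfl Lrfl
theorem f73450 : Led Lsl_ct (LP (LK LD1_c11 LD2_c23 LD3_c4)) = (LP (LK LD1_c5 LD2_c46 LD3_c27)) :=
  Lre_c IH (LK LD1_c11 LD2_c23 LD3_c4) (LK LD1_c5 LD2_c46 LD3_c27) Lrfl Lrfl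
def v47888 : LQ := Led Lsl_gf (LP (LK LD1_c11 LD2_c23 LD3_c4))
theorem f960494 : Led Lsl_gf (LP (LK LD1_c11 LD2_c23 LD3_c4)) = v47888 :=
  Lrfl
def v47891 : LQ := Led Lsl_bt (LP (LK LD1_c11 LD2_c23 LD3_c5))
theorem f960502 : Led Lsl_bt (LP (LK LD1_c11 LD2_c23 LD3_c5)) = v47891 :=
  Lrfl
theorem f960503 : Led Lsl_bf (LP (LK LD1_c11 LD2_c23 LD3_c5)) = v47891 :=
  Lgr Lrot24 (Lpr_bt (f960502 IH) (Lpn v47891))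
theorem f60385 : Led Lsl_bt (LP (LK LD1_c2 LD2_c48 LD3_c60)) = (LP (LK LD1_c5 LD2_c46 LD3_c27)) :=
  Lre_b IH (LK LD1_c2 LD2_c48 LD3_c60) (LK LD1_c5 LD2_c46 LD3_c27) Lrfl Lrfl
theorem f608000 : Led Lsl_ct (LP (LK LD1_c6 LD2_c13 LD3_c58)) = (LP (LK LD1_c6 LD2_c24 LD3_c22)) :=
  Lgr Lrot59 (Lpr_cf (K47.f607997 IH) (Lpn (LP (LK LD1_c6 LD2_c24 LD3_c22))))
theorem f381918 : Led Lsl_ft (LP (LK LD1_c20 LD2_c13 LD3_c41)) = (LP (LK LD1_c11 LD2_c17 LD3_c32)) :=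
  Lre_f IH (LK LD1_c20 LD2_c13 LD3_c41) (LK LD1_c11 LD2_c17 LD3_c32) Lrfl Lrfl
theorem f81382 : Led Lsl_ft (LP (LK LD1_c8 LD2_c45 LD3_c27)) = (LP (LK LD1_c16 LD2_c23 LD3_c35)) :=
  Lre_f IH (LK LD1_c8 LD2_c45 LD3_c27) (LK LD1_c16 LD2_c23 LD3_c35) Lrfl Lrfl
theorem f542587 : Led Lsl_cf (LP (LK LD1_c20 LD2_c13 LD3_c41)) = (LP (LK LD1_c16 LD2_c23 LD3_c35)) :=
  Lgr Lrot108 (Lpr_ft (f381918 IH) (Lpr_ct (K36.f542579 IH) (Lpr_ft (f81382 IH) (Lpn (LP (LK LD1_c16 LD2_c23 LD3_c35))))))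
theorem f542612 : Led Lsl_ft (LP (LK LD1_c11 LD2_c17 LD3_c52)) = (LP (LK LD1_c20 LD2_c14 LD3_c0)) :=
  Lre_f IH (LK LD1_c11 LD2_c17 LD3_c52) (LK LD1_c20 LD2_c14 LD3_c0) Lrfl Lrfl
theorem f542604 : Led Lsl_af (LP (LK LD1_c20 LD2_c13 LD3_c41)) = (LP (LK LD1_c20 LD2_c14 LD3_c0)) :=
  Lgr Lrot0 (Lpr_at (K36.f542602 IH) (Lpn (LP (LK LD1_c20 LD2_c14 LD3_c0))))
theorem f622074 : Led Lsl_gt (LP (LK LD1_c11 LD2_c44 LD3_c27)) = (LP (LK LD1_c20 LD2_c13 LD3_c41)) :=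
  Lgr Lrot46 (Lpr_gf (K69.f622072 IH) (Lpr_ft (f542612 IH) (Lpe (f542604 IH) (Lpn (LP (LK LD1_c20 LD2_c13 LD3_c41))))))
theorem f960504 : Led Lsl_cf (LP (LK LD1_c11 LD2_c44 LD3_c27)) = v47891 :=
  Lgr Lrot160 (Lpr_gt (f622074 IH) (Lpr_cf (f542587 IH) (Lpr_bt (K32.f70142 IH) (Lpe (K47.f70167 IH) (Lpr_ct (f608000 IH) (Lpr_gt (K47.f56352 IH) (Lpr_cf (K8.f60405 IH) (Lpr_bt (f60385 IH) (Lpr_gt (f69549 IH) (Lpr_bf (f960503 IH) (Lpn v47891)))))))))))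
theorem f960505 : Led Lsl_ct (LP (LK LD1_c11 LD2_c44 LD3_c27)) = v47891 :=
  Lgr Lrot59 (Lpr_cf (f960504 IH) (Lpn v47891))
theorem f669257 : Led Lsl_et (LP (LK LD1_c11 LD2_c44 LD3_c28)) = (LP (LK LD1_c20 LD2_c45 LD3_c53)) :=
  Lre_e IH (LK LD1_c11 LD2_c44 LD3_c28) (LK LD1_c20 LD2_c45 LD3_c53) Lrfl Lrfl
theorem f669262 : Led Lsl_bt (LP (LK LD1_c20 LD2_c45 LD3_c53)) = (LP (LK LD1_c11 LD2_c48 LD3_c44)) :=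
  Lgr Lrot119 (Lpe (f669257 IH) (Lpr_bf (K60.f669258 IH) (Lpe (K16.f59863 IH) (Lpn (LP (LK LD1_c11 LD2_c48 LD3_c44))))))
theorem f618456 : Led Lsl_dt (LP (LK LD1_c11 LD2_c44 LD3_c27)) = (LP (LK LD1_c20 LD2_c45 LD3_c53)) :=
  Lre_d IH (LK LD1_c11 LD2_c44 LD3_c27) (LK LD1_c20 LD2_c45 LD3_c53) Lrfl Lrfl
theorem f669266 : Led Lsl_bf (LP (LK LD1_c11 LD2_c44 LD3_c27)) = (LP (LK LD1_c6 LD2_c2 LD3_c6)) :=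
  Lgr Lrot93 (Lpr_dt (f618456 IH) (Lpr_bt (f669262 IH) (Lpr_dt (K16.f59864 IH) (Lpn (LP (LK LD1_c6 LD2_c2 LD3_c6))))))
theorem f960509 : Led Lsl_bf K74.v16528 = v47892 :=
  Lgr Lrot90 (Lpe (K74.f750213 IH) (Lpe (f669266 IH) (Lpr_ct (f960505 IH) (Lpe (f960503 IH) (Lpr_ct (f960508 IH) (Lpn v47892))))))
def v46743 : LQ := Led Lsl_ft (LP (LK LD1_c11 LD2_c11 LD3_c5))
theorem f955012 : Led Lsl_ft (LP (LK LD1_c11 LD2_c11 LD3_c5)) = v46743 :=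
  Lrfl
theorem f955016 : Led Lsl_ff (LP (LK LD1_c11 LD2_c11 LD3_c5)) = v46743 :=
  Lgr Lrot3 (Lpr_ft (f955012 IH) (Lpn v46743))
theorem f955020 : Led Lsl_gf K74.v15510 = v46743 :=
  Lgr Lrot47 (Lpe (K74.f737814 IH) (Lpe (K74.f494050 IH) (Lpr_ff (f955016 IH) (Lpn v46743))))
theorem f902200 : Led Lsl_cf (LP (LK LD1_c11 LD2_c24 LD3_c2)) = K74.v15510 :=
  Lgr Lrot11 (Lpr_ct (K74.f902199 IH) (Lpn K74.v15510))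
theorem f954994 : Led Lsl_af K74.v15510 = K74.v46741 :=
  Lgr Lrot68 (Lpe (f902200 IH) (Lpe (f747775 IH) (Lpr_ct (K74.f954993 IH) (Lpn K74.v46741))))
theorem f954997 : Led Lsl_ft (LP (LK LD1_c11 LD2_c12 LD3_c37)) = K74.v46741 :=
  Lgr Lrot48 (Lpr_ff (K74.f954996 IH) (Lpn K74.v46741))
theorem f955021 : Led Lsl_gt (LP (LK LD1_c11 LD2_c12 LD3_c37)) = v46743 :=
  Lgr Lrot5 (Lpr_ft (f954997 IH) (Lpe (f954994 IH) (Lpr_gf (f955020 IH) (Lpn v46743))))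
theorem f750214 : Led Lsl_ef (LP (LK LD1_c6 LD2_c2 LD3_c5)) = K74.v16528 :=
  Lgr Lrot88 (Lpr_et (K74.f750212 IH) (Lpn K74.v16528))
theorem f750216 : Led Lsl_ct (LP (LK LD1_c6 LD2_c2 LD3_c6)) = K74.v16528 :=
  Lgr Lrot15 (Lpe (K16.f210118 IH) (Lpe (K69.f210115 IH) (Lpr_ef (f750214 IH) (Lpn K74.v16528))))
theorem f380100 : Led Lsl_ft (LP (LK LD1_c11 LD2_c12 LD3_c20)) = (LP (LK LD1_c5 LD2_c40 LD3_c59)) :=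
  Lre_f IH (LK LD1_c11 LD2_c12 LD3_c20) (LK LD1_c5 LD2_c40 LD3_c59) Lrfl Lrfl
theorem f955014 : Led Lsl_cf (LP (LK LD1_c11 LD2_c12 LD3_c20)) = v46743 :=
  Lgr Lrot108 (Lpr_ft (f380100 IH) (Lpe (K74.f613287 IH) (Lpr_ft (f955012 IH) (Lpn v46743))))
def v15863 : LQ := Led Lsl_gt (LP (LK LD1_c5 LD2_c48 LD3_c58))
theorem f743958 : Led Lsl_gt (LP (LK LD1_c5 LD2_c48 LD3_c58)) = v15863 :=
  Lrfl
theorem f146448 : Led Lsl_et (LP (LK LD1_c2 LD2_c50 LD3_c34)) = (LP (LK LD1_c5 LD2_c49 LD3_c1)) :=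
  Lre_e IH (LK LD1_c2 LD2_c50 LD3_c34) (LK LD1_c5 LD2_c49 LD3_c1) Lrfl Lrfl
theorem f567734 : Led Lsl_et (LP (LK LD1_c9 LD2_c5 LD3_c39)) = (LP (LK LD1_c4 LD2_c34 LD3_c7)) :=
  Lgr Lrot123 (Lpr_af (K41.f567720 IH) (Lpe (f146448 IH) (Lpe (K32.f146417 IH) (Lpn (LP (LK LD1_c4 LD2_c34 LD3_c7))))))
theorem f567739 : Led Lsl_ef (LP (LK LD1_c9 LD2_c5 LD3_c39)) = (LP (LK LD1_c4 LD2_c34 LD3_c7)) :=
  Lgr Lrot88 (Lpr_et (f567734 IH) (Lpn (LP (LK LD1_c4 LD2_c34 LD3_c7))))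
theorem f380076 : Led Lsl_at (LP (LK LD1_c4 LD2_c32 LD3_c0)) = (LP (LK LD1_c9 LD2_c1 LD3_c42)) :=
  Lre_a IH (LK LD1_c4 LD2_c32 LD3_c0) (LK LD1_c9 LD2_c1 LD3_c42) Lrfl Lrfl
theorem f613283 : Led Lsl_af (LP (LK LD1_c2 LD2_c46 LD3_c34)) = (LP (LK LD1_c5 LD2_c40 LD3_c59)) :=
  Lgr Lrot36 (Lpr_bt (K74.f225784 IH) (Lpe (K50.f379975 IH) (Lpr_bt (K40.f380024 IH) (Lpr_at (f380076 IH) (Lpr_bt (K50.f613280 IH) (Lpn (LP (LK LD1_c5 LD2_c40 LD3_c59))))))))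
theorem f613588 : Led Lsl_gf (LP (LK LD1_c5 LD2_c41 LD3_c4)) = (LP (LK LD1_c11 LD2_c12 LD3_c20)) :=
  Lgr Lrot47 (Lpr_gt (K55.f225802 IH) (Lpr_af (f613283 IH) (Lpe (f380100 IH) (Lpn (LP (LK LD1_c11 LD2_c12 LD3_c20))))))
theorem f743960 : Led Lsl_df (LP (LK LD1_c11 LD2_c12 LD3_c20)) = v15863 :=
  Lgr Lrot135 (Lpe (f613588 IH) (Lpr_df (K55.f737835 IH) (Lpe (K55.f737836 IH) (Lpe (K50.f567736 IH) (Lpr_ef (f567739 IH) (Lpr_dt (K6.f143130 IH) (Lpe (K24.f437954 IH) (Lpe (K32.f57504 IH) (Lpr_et (K51.f176651 IH) (Lpr_gt (f743958 IH) (Lpn v15863)))))))))))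
def v21879 : LQ := Led Lsl_bt (LP (LK LD1_c7 LD2_c27 LD3_c33))
theorem f799749 : Led Lsl_bt (LP (LK LD1_c7 LD2_c27 LD3_c33)) = v21879 :=
  Lrfl
theorem f206325 : Led Lsl_ft (LP (LK LD1_c3 LD2_c43 LD3_c27)) = (LP (LK LD1_c7 LD2_c27 LD3_c33)) :=
  Lre_f IH (LK LD1_c3 LD2_c43 LD3_c27) (LK LD1_c7 LD2_c27 LD3_c33) Lrfl Lrfl
theorem f664012 : Led Lsl_bf (LP (LK LD1_c3 LD2_c43 LD3_c27)) = K74.v7266 :=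
  Lgr Lrot24 (Lpr_bt (K74.f664011 IH) (Lpn K74.v7266))
theorem f799752 : Led Lsl_ff K74.v7266 = v21879 :=
  Lgr Lrot25 (Lpe (f664012 IH) (Lpr_ft (f206325 IH) (Lpr_bt (f799749 IH) (Lpn v21879))))
theorem f799755 : Led Lsl_ft K74.v7266 = v21879 :=
  Lgr Lrot48 (Lpr_ff (f799752 IH) (Lpn v21879))
theorem f664015 : Led Lsl_ct (LP (LK LD1_c5 LD2_c49 LD3_c7)) = K74.v7266 :=
  Lgr Lrot15 (Lpe (K24.f380093 IH) (Lpr_cf (K38.f548870 IH) (Lpr_ef (K74.f664014 IH) (Lpn K74.v7266))))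
theorem f689164 : Led Lsl_at (LP (LK LD1_c4 LD2_c57 LD3_c56)) = K49.v12282 :=
  Lgr Lrot80 (Lpe (K51.f416262 IH) (Lpe (K51.f503895 IH) (Lpr_ef (K49.f689163 IH) (Lpn K49.v12282))))
theorem f718980 : Led Lsl_gt (LP (LK LD1_c5 LD2_c38 LD3_c31)) = K49.v12282 :=
  Lgr Lrot46 (Lpr_gf (K70.f718979 IH) (Lpe (K70.f718976 IH) (Lpr_at (f689164 IH) (Lpn K49.v12282))))
theorem f613400 : Led Lsl_dt (LP (LK LD1_c9 LD2_c1 LD3_c31)) = (LP (LK LD1_c5 LD2_c38 LD3_c31)) :=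
  Lgr Lrot42 (Lpr_df (K69.f613394 IH) (Lpn (LP (LK LD1_c5 LD2_c38 LD3_c31))))
theorem f380140 : Led Lsl_et (LP (LK LD1_c11 LD2_c12 LD3_c20)) = (LP (LK LD1_c5 LD2_c40 LD3_c53)) :=
  Lre_e IH (LK LD1_c11 LD2_c12 LD3_c20) (LK LD1_c5 LD2_c40 LD3_c53) Lrfl Lrfl
theorem f743962 : Led Lsl_dt (LP (LK LD1_c11 LD2_c12 LD3_c20)) = v15863 :=
  Lgr Lrot37 (Lpr_et (f380140 IH) (Lpe (K69.f613357 IH) (Lpr_dt (f613400 IH) (Lpr_gt (f718980 IH) (Lpe (K57.f689166 IH) (Lpr_et (K49.f413497 IH) (Lpr_gt (K24.f413480 IH) (Lpe (K51.f413521 IH) (Lpr_dt (K51.f413522 IH) (Lpr_gt (f743958 IH) (Lpn v15863)))))))))))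
theorem f743965 : Led Lsl_ff (LP (LK LD1_c5 LD2_c49 LD3_c7)) = v15863 :=
  Lgr Lrot19 (Lpe (K24.f380098 IH) (Lpr_ft (K50.f380101 IH) (Lpr_dt (f743962 IH) (Lpn v15863))))
theorem f799756 : Led Lsl_cf v15863 = v21879 :=
  Lgr Lrot108 (Lpe (f743965 IH) (Lpr_ct (f664015 IH) (Lpr_ft (f799755 IH) (Lpn v21879))))
theorem f955022 : Led Lsl_gt K74.v16528 = v21879 :=
  Lgr Lrot150 (Lpe (f750216 IH) (Lpe (K16.f413425 IH) (Lpe (K16.f281879 IH) (Lpr_gt (K69.f68762 IH) (Lpe (K74.f747750 IH) (Lpr_gt (f955021 IH) (Lpe (f955014 IH) (Lpr_df (f743960 IH) (Lpr_cf (f799756 IH) (Lpn v21879))))))))))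
theorem f147660 : Led Lsl_gt (LP (LK LD1_c7 LD2_c21 LD3_c35)) = (LP (LK LD1_c3 LD2_c41 LD3_c32)) :=
  Lre_g IH (LK LD1_c7 LD2_c21 LD3_c35) (LK LD1_c3 LD2_c41 LD3_c32) Lrfl Lrfl
theorem f206321 : Led Lsl_ct (LP (LK LD1_c7 LD2_c23 LD3_c42)) = (LP (LK LD1_c3 LD2_c41 LD3_c32)) :=
  Lre_c IH (LK LD1_c7 LD2_c23 LD3_c42) (LK LD1_c3 LD2_c41 LD3_c32) Lrfl Lrfl
theorem f206322 : Led Lsl_bt (LP (LK LD1_c7 LD2_c23 LD3_c42)) = (LP (LK LD1_c13 LD2_c59 LD3_c2)) :=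
  Lre_b IH (LK LD1_c7 LD2_c23 LD3_c42) (LK LD1_c13 LD2_c59 LD3_c2) Lrfl Lrfl
theorem f960512 : v47888 = (LP (LK LD1_c13 LD2_c59 LD3_c2)) :=
  (Llr Lrot181 (Lpe (f960494 IH) (Lpr_ct (f73450 IH) (Lpr_gt (f69549 IH) (Lpr_cf (f960510 IH) (Lpe (f960509 IH) (Lpr_gt (f955022 IH) (Lpe (f799749 IH) (Lpr_ct (K55.f206315 IH) (Lpr_gt (f147660 IH) (Lpe (f206321 IH) (Lpr_bt (f206322 IH) (Lpn (LP (LK LD1_c13 LD2_c59 LD3_c2))))))))))))))).symm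
theorem f960513 : Led Lsl_gt (LP (LK LD1_c13 LD2_c59 LD3_c2)) = (LP (LK LD1_c11 LD2_c23 LD3_c4)) :=
  Leop (Lpr_gf (f960494 IH) (Lpqs (f960512 IH) (Lpn (LP (LK LD1_c13 LD2_c59 LD3_c2)))))
theorem seed_2826 : LEOK LG_g (LK LD1_c13 LD2_c59 LD3_c2) :=
  Leoe_g (LK LD1_c13 LD2_c59 LD3_c2) (f960513 IH)
def v21622 : LQ := Led Lsl_ft (LP (LK LD1_c7 LD2_c23 LD3_c34))
theorem f798218 : Led Lsl_ft (LP (LK LD1_c7 LD2_c23 LD3_c34)) = v21622 :=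
  Lrfl
theorem f798220 : Led Lsl_ff (LP (LK LD1_c7 LD2_c23 LD3_c34)) = v21622 :=
  Lgr Lrot3 (Lpr_ft (f798218 IH) (Lpn v21622))
def v21618 : LQ := Led Lsl_at (LP (LK LD1_c7 LD2_c23 LD3_c34))
theorem f798207 : Led Lsl_at (LP (LK LD1_c7 LD2_c23 LD3_c34)) = v21618 :=
  Lrfl
theorem f798208 : Led Lsl_af (LP (LK LD1_c7 LD2_c23 LD3_c34)) = v21618 :=
  Lgr Lrot0 (Lpr_at (f798207 IH) (Lpn v21618))
theorem f13365 : Led Lsl_gt (LP (LK LD1_c7 LD2_c23 LD3_c35)) = (LP (LK LD1_c3 LD2_c41 LD3_c30)) :=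
  Lre_g IH (LK LD1_c7 LD2_c23 LD3_c35) (LK LD1_c3 LD2_c41 LD3_c30) Lrfl Lrfl
theorem f798209 : Led Lsl_ft (LP (LK LD1_c7 LD2_c23 LD3_c35)) = v21618 :=
  Lgr Lrot2 (Lpr_gt (f13365 IH) (Lpr_gt (K50.f13318 IH) (Lpr_af (f798208 IH) (Lpn v21618))))
theorem f798210 : Led Lsl_ff (LP (LK LD1_c7 LD2_c23 LD3_c35)) = v21618 :=
  Lgr Lrot3 (Lpr_ft (f798209 IH) (Lpn v21618))
theorem f798221 : Led Lsl_at (LP (LK LD1_c7 LD2_c23 LD3_c35)) = v21622 :=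
  Lgr Lrot66 (Lpr_ff (f798210 IH) (Lpe (f798207 IH) (Lpr_ff (f798220 IH) (Lpn v21622))))
theorem f206317 : Led Lsl_gf (LP (LK LD1_c7 LD2_c27 LD3_c33)) = (LP (LK LD1_c7 LD2_c23 LD3_c34)) :=
  Lgr Lrot76 (Lpr_af (K55.f206307 IH) (Lpe (K55.f206205 IH) (Lpr_gt (K50.f13318 IH) (Lpn (LP (LK LD1_c7 LD2_c23 LD3_c34))))))
def v21619 : LQ := Led Lsl_bt (LP (LK LD1_c7 LD2_c23 LD3_c34))
theorem f798212 : Led Lsl_bt (LP (LK LD1_c7 LD2_c23 LD3_c34)) = v21619 :=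
  Lrfl
theorem f798213 : Led Lsl_bf (LP (LK LD1_c7 LD2_c23 LD3_c34)) = v21619 :=
  Lgr Lrot24 (Lpr_bt (f798212 IH) (Lpn v21619))
def v15801 : LQ := Led Lsl_et (LP (LK LD1_c5 LD2_c47 LD3_c24))
theorem f741625 : Led Lsl_et (LP (LK LD1_c5 LD2_c47 LD3_c24)) = v15801 :=
  Lrfl
theorem f741626 : Led Lsl_bf (LP (LK LD1_c11 LD2_c23 LD3_c4)) = v15801 :=
  Lgr Lrot96 (Lpr_et (K5.f60343 IH) (Lpr_bt (K8.f73455 IH) (Lpr_et (f741625 IH) (Lpn v15801))))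
theorem f73320 : Led Lsl_et (LP (LK LD1_c5 LD2_c47 LD3_c25)) = (LP (LK LD1_c2 LD2_c49 LD3_c41)) :=
  Lre_e IH (LK LD1_c5 LD2_c47 LD3_c25) (LK LD1_c2 LD2_c49 LD3_c41) Lrfl Lrfl
theorem f741627 : Led Lsl_cf (LP (LK LD1_c5 LD2_c47 LD3_c25)) = v15801 :=
  Lgr Lrot39 (Lpr_et (f73320 IH) (Lpr_ct (K8.f73335 IH) (Lpr_et (f741625 IH) (Lpn v15801))))
theorem f73366 : Led Lsl_gt (LP (LK LD1_c5 LD2_c47 LD3_c25)) = (LP (LK LD1_c11 LD2_c24 LD3_c50)) :=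
  Lre_g IH (LK LD1_c5 LD2_c47 LD3_c25) (LK LD1_c11 LD2_c24 LD3_c50) Lrfl Lrfl
theorem f960514 : Led Lsl_ct v21619 = (LP (LK LD1_c11 LD2_c24 LD3_c50)) :=
  Lgr Lrot10 (Lpe (f798213 IH) (Lpe (f206317 IH) (Lpr_ct (K55.f206315 IH) (Lpr_gt (f147660 IH) (Lpe (f206321 IH) (Lpr_bt (f206322 IH) (Lpq (f960512 IH) (Lpe (f960494 IH) (Lpr_bf (f741626 IH) (Lpe (f741627 IH) (Lpr_gt (f73366 IH) (Lpn (LP (LK LD1_c11 LD2_c24 LD3_c50))))))))))))))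
theorem f101067 : Led Lsl_bt (LP (LK LD1_c3 LD2_c3 LD3_c20)) = (LP (LK LD1_c6 LD2_c13 LD3_c4)) :=
  Lre_b IH (LK LD1_c3 LD2_c3 LD3_c20) (LK LD1_c6 LD2_c13 LD3_c4) Lrfl Lrfl
theorem f101068 : Led Lsl_et (LP (LK LD1_c6 LD2_c13 LD3_c4)) = (LP (LK LD1_c8 LD2_c50 LD3_c49)) :=
  Lgr Lrot74 (Lpe (f101067 IH) (Lpr_ef (K12.f101059 IH) (Lpe (K1.f16199 IH) (Lpn (LP (LK LD1_c8 LD2_c50 LD3_c49))))))
theorem f16506 : Led Lsl_gt (LP (LK LD1_c8 LD2_c50 LD3_c49)) = (LP (LK LD1_c16 LD2_c32 LD3_c5)) :=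
  Lre_g IH (LK LD1_c8 LD2_c50 LD3_c49) (LK LD1_c16 LD2_c32 LD3_c5) Lrfl Lrfl
theorem f576923 : Led Lsl_et (LP (LK LD1_c22 LD2_c47 LD3_c56)) = (LP (LK LD1_c16 LD2_c32 LD3_c5)) :=
  Lgr Lrot122 (Lpr_dt (K63.f524657 IH) (Lpe (K40.f524918 IH) (Lpe (K47.f96808 IH) (Lpr_et (K43.f576902 IH) (Lpe (K38.f424550 IH) (Lpr_dt (K39.f71984 IH) (Lpe (K38.f547118 IH) (Lpe (K38.f101243 IH) (Lpr_et (f101068 IH) (Lpr_gt (f16506 IH) (Lpn (LP (LK LD1_c16 LD2_c32 LD3_c5)))))))))))))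
theorem f489712 : Led Lsl_et (LP (LK LD1_c22 LD2_c47 LD3_c60)) = (LP (LK LD1_c13 LD2_c28 LD3_c20)) :=
  Lre_e IH (LK LD1_c22 LD2_c47 LD3_c60) (LK LD1_c13 LD2_c28 LD3_c20) Lrfl Lrfl
theorem f576925 : Led Lsl_af (LP (LK LD1_c22 LD2_c47 LD3_c60)) = (LP (LK LD1_c16 LD2_c32 LD3_c5)) :=
  Lgr Lrot50 (Lpr_et (f489712 IH) (Lpr_at (K63.f524650 IH) (Lpr_et (f576923 IH) (Lpn (LP (LK LD1_c16 LD2_c32 LD3_c5))))))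
theorem f488826 : Led Lsl_et (LP (LK LD1_c13 LD2_c28 LD3_c20)) = (LP (LK LD1_c22 LD2_c47 LD3_c60)) :=
  Lre_e IH (LK LD1_c13 LD2_c28 LD3_c20) (LK LD1_c22 LD2_c47 LD3_c60) Lrfl Lrfl
theorem f16205 : Led Lsl_dt (LP (LK LD1_c16 LD2_c31 LD3_c61)) = (LP (LK LD1_c8 LD2_c50 LD3_c46)) :=
  Lre_d IH (LK LD1_c16 LD2_c31 LD3_c61) (LK LD1_c8 LD2_c50 LD3_c46) Lrfl Lrfl
theorem f546583 : Led Lsl_et (LP (LK LD1_c9 LD2_c8 LD3_c32)) = (LP (LK LD1_c16 LD2_c31 LD3_c61)) :=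
  Lgr Lrot71 (Lpe (K38.f112751 IH) (Lpr_ef (K38.f546575 IH) (Lpe (K7.f100433 IH) (Lpe (K1.f16150 IH) (Lpe (f16205 IH) (Lpn (LP (LK LD1_c16 LD2_c31 LD3_c61))))))))
theorem f576883 : Led Lsl_gf (LP (LK LD1_c22 LD2_c47 LD3_c60)) = (LP (LK LD1_c16 LD2_c31 LD3_c61)) :=
  Lgr Lrot141 (Lpe (f488826 IH) (Lpr_dt (K35.f481130 IH) (Lpe (K33.f488815 IH) (Lpe (K43.f136381 IH) (Lpr_et (K43.f576874 IH) (Lpr_gt (K40.f193813 IH) (Lpr_dt (K43.f193812 IH) (Lpr_gt (K38.f112748 IH) (Lpe (K42.f547296 IH) (Lpr_et (f546583 IH) (Lpn (LP (LK LD1_c16 LD2_c31 LD3_c61)))))))))))))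
theorem f16209 : Led Lsl_gt (LP (LK LD1_c26 LD2_c28 LD3_c29)) = (LP (LK LD1_c16 LD2_c31 LD3_c61)) :=
  Lre_g IH (LK LD1_c26 LD2_c28 LD3_c29) (LK LD1_c16 LD2_c31 LD3_c61) Lrfl Lrfl
theorem f576958 : Led Lsl_ft (LP (LK LD1_c26 LD2_c28 LD3_c29)) = (LP (LK LD1_c16 LD2_c32 LD3_c5)) :=
  Lgr Lrot2 (Lpr_gt (f16209 IH) (Lpe (f576883 IH) (Lpr_af (f576925 IH) (Lpn (LP (LK LD1_c16 LD2_c32 LD3_c5))))))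
theorem f576966 : Led Lsl_ff (LP (LK LD1_c26 LD2_c28 LD3_c29)) = (LP (LK LD1_c16 LD2_c32 LD3_c5)) :=
  Lgr Lrot3 (Lpr_ft (f576958 IH) (Lpn (LP (LK LD1_c16 LD2_c32 LD3_c5))))
theorem f576931 : Led Lsl_ef (LP (LK LD1_c22 LD2_c47 LD3_c56)) = (LP (LK LD1_c16 LD2_c32 LD3_c5)) :=
  Lgr Lrot88 (Lpr_et (f576923 IH) (Lpn (LP (LK LD1_c16 LD2_c32 LD3_c5))))
theorem f576933 : Led Lsl_at (LP (LK LD1_c22 LD2_c47 LD3_c60)) = (LP (LK LD1_c16 LD2_c32 LD3_c5)) :=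
  Lgr Lrot80 (Lpe (f488826 IH) (Lpe (K35.f524594 IH) (Lpr_ef (f576931 IH) (Lpn (LP (LK LD1_c16 LD2_c32 LD3_c5))))))
theorem f576945 : Led Lsl_ff (LP (LK LD1_c22 LD2_c47 LD3_c60)) = (LP (LK LD1_c16 LD2_c32 LD3_c6)) :=
  Lgr Lrot52 (Lpr_at (f576933 IH) (Lpe (f16506 IH) (Lpe (K32.f101272 IH) (Lpn (LP (LK LD1_c16 LD2_c32 LD3_c6))))))
theorem f576968 : Led Lsl_at (LP (LK LD1_c26 LD2_c28 LD3_c29)) = (LP (LK LD1_c16 LD2_c32 LD3_c6)) :=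
  Lgr Lrot66 (Lpr_ff (f576966 IH) (Lpe (f576933 IH) (Lpr_ff (f576945 IH) (Lpn (LP (LK LD1_c16 LD2_c32 LD3_c6))))))
theorem f157852 : Led Lsl_et (LP (LK LD1_c20 LD2_c22 LD3_c31)) = (LP (LK LD1_c11 LD2_c24 LD3_c50)) :=
  Lre_e IH (LK LD1_c20 LD2_c22 LD3_c31) (LK LD1_c11 LD2_c24 LD3_c50) Lrfl Lrfl
theorem f158987 : Led Lsl_dt (LP (LK LD1_c20 LD2_c22 LD3_c31)) = (LP (LK LD1_c26 LD2_c28 LD3_c29)) :=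
  Lgr Lrot136 (Lpr_et (f157852 IH) (Lpe (f73366 IH) (Lpe (K2.f73342 IH) (Lpr_dt (K2.f56748 IH) (Lpe (K8.f73384 IH) (Lpe (K39.f157840 IH) (Lpr_gf (K38.f158984 IH) (Lpe (K1.f16150 IH) (Lpr_dt (K1.f16172 IH) (Lpe (f16209 IH) (Lpn (LP (LK LD1_c26 LD2_c28 LD3_c29)))))))))))))
theorem f503070 : Led Lsl_dt (LP (LK LD1_c16 LD2_c32 LD3_c6)) = (LP (LK LD1_c26 LD2_c28 LD3_c41)) :=
  Lre_d IH (LK LD1_c16 LD2_c32 LD3_c6) (LK LD1_c26 LD2_c28 LD3_c41) Lrfl Lrfl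
theorem f576976 : Led Lsl_af (LP (LK LD1_c20 LD2_c22 LD3_c31)) = (LP (LK LD1_c26 LD2_c28 LD3_c41)) :=
  Lgr Lrot117 (Lpr_dt (f158987 IH) (Lpr_at (f576968 IH) (Lpr_dt (f503070 IH) (Lpn (LP (LK LD1_c26 LD2_c28 LD3_c41))))))
theorem f503071 : Led Lsl_ef (LP (LK LD1_c26 LD2_c28 LD3_c41)) = (LP (LK LD1_c20 LD2_c22 LD3_c25)) :=
  Lgr Lrot88 (Lpr_et (K32.f503068 IH) (Lpn (LP (LK LD1_c20 LD2_c22 LD3_c25))))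
theorem f576980 : Led Lsl_at (LP (LK LD1_c11 LD2_c24 LD3_c50)) = (LP (LK LD1_c20 LD2_c22 LD3_c25)) :=
  Lgr Lrot80 (Lpe (f157852 IH) (Lpr_af (f576976 IH) (Lpr_ef (f503071 IH) (Lpn (LP (LK LD1_c20 LD2_c22 LD3_c25))))))
theorem f73423 : Led Lsl_gt (LP (LK LD1_c20 LD2_c22 LD3_c26)) = (LP (LK LD1_c11 LD2_c24 LD3_c43)) :=
  Lre_g IH (LK LD1_c20 LD2_c22 LD3_c26) (LK LD1_c11 LD2_c24 LD3_c43) Lrfl Lrfl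
theorem f576984 : Led Lsl_ff (LP (LK LD1_c11 LD2_c24 LD3_c50)) = (LP (LK LD1_c20 LD2_c22 LD3_c26)) :=
  Lgr Lrot52 (Lpr_at (f576980 IH) (Lpe (K32.f73449 IH) (Lpe (f73423 IH) (Lpn (LP (LK LD1_c20 LD2_c22 LD3_c26))))))
theorem f576986 : Led Lsl_ft (LP (LK LD1_c11 LD2_c24 LD3_c50)) = (LP (LK LD1_c20 LD2_c22 LD3_c26)) :=
  Lgr Lrot48 (Lpr_ff (f576984 IH) (Lpn (LP (LK LD1_c20 LD2_c22 LD3_c26))))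
def v21874 : LQ := Led Lsl_ct (LP (LK LD1_c7 LD2_c27 LD3_c31))
theorem f799728 : Led Lsl_ct (LP (LK LD1_c7 LD2_c27 LD3_c31)) = v21874 :=
  Lrfl
theorem f799729 : Led Lsl_cf (LP (LK LD1_c7 LD2_c27 LD3_c31)) = v21874 :=
  Lgr Lrot11 (Lpr_ct (f799728 IH) (Lpn v21874))
theorem f206340 : Led Lsl_gt (LP (LK LD1_c7 LD2_c27 LD3_c31)) = (LP (LK LD1_c3 LD2_c43 LD3_c27)) :=
  Lre_g IH (LK LD1_c7 LD2_c27 LD3_c31) (LK LD1_c3 LD2_c43 LD3_c27) Lrfl Lrfl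
theorem f13213 : Led Lsl_ct (LP (LK LD1_c13 LD2_c54 LD3_c32)) = (LP (LK LD1_c23 LD2_c24 LD3_c42)) :=
  Lre_c IH (LK LD1_c13 LD2_c54 LD3_c32) (LK LD1_c23 LD2_c24 LD3_c42) Lrfl Lrfl
theorem f621861 : Led Lsl_et (LP (LK LD1_c11 LD2_c26 LD3_c44)) = (LP (LK LD1_c20 LD2_c24 LD3_c42)) :=
  Lre_e IH (LK LD1_c11 LD2_c26 LD3_c44) (LK LD1_c20 LD2_c24 LD3_c42) Lrfl Lrfl
theorem f700819 : Led Lsl_ct (LP (LK LD1_c20 LD2_c24 LD3_c42)) = (LP (LK LD1_c27 LD2_c21 LD3_c11)) :=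
  Lgr Lrot15 (Lpe (f621861 IH) (Lpr_cf (K56.f700814 IH) (Lpe (f136298 IH) (Lpn (LP (LK LD1_c27 LD2_c21 LD3_c11))))))
theorem f615651 : Led Lsl_et (LP (LK LD1_c20 LD2_c24 LD3_c42)) = (LP (LK LD1_c11 LD2_c26 LD3_c44)) :=
  Lre_e IH (LK LD1_c20 LD2_c24 LD3_c42) (LK LD1_c11 LD2_c26 LD3_c44) Lrfl Lrfl
theorem f13186 : Led Lsl_dt (LP (LK LD1_c7 LD2_c21 LD3_c27)) = (LP (LK LD1_c13 LD2_c54 LD3_c34)) :=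
  Lre_d IH (LK LD1_c7 LD2_c21 LD3_c27) (LK LD1_c13 LD2_c54 LD3_c34) Lrfl Lrfl
theorem f13248 : Led Lsl_gt (LP (LK LD1_c23 LD2_c24 LD3_c48)) = (LP (LK LD1_c13 LD2_c54 LD3_c34)) :=
  Lre_g IH (LK LD1_c23 LD2_c24 LD3_c48) (LK LD1_c13 LD2_c54 LD3_c34) Lrfl Lrfl
theorem f621856 : Led Lsl_dt (LP (LK LD1_c20 LD2_c24 LD3_c42)) = (LP (LK LD1_c23 LD2_c24 LD3_c48)) :=
  Lgr Lrot136 (Lpr_et (f615651 IH) (Lpe (K56.f544125 IH) (Lpe (K48.f544138 IH) (Lpq (K37.f544129 IH) (Lpe (K62.f531359 IH) (Lpr_gf (K6.f142519 IH) (Lpe (K28.f203622 IH) (Lpe (K7.f148317 IH) (Lpe (K55.f13178 IH) (Lpr_dt (f13186 IH) (Lpe (f13248 IH) (Lpn (LP (LK LD1_c23 LD2_c24 LD3_c48))))))))))))))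
theorem f621859 : Led Lsl_df (LP (LK LD1_c20 LD2_c24 LD3_c42)) = (LP (LK LD1_c23 LD2_c24 LD3_c48)) :=
  Lgr Lrot38 (Lpr_dt (f621856 IH) (Lpn (LP (LK LD1_c23 LD2_c24 LD3_c48))))
theorem f13127 : Led Lsl_ct (LP (LK LD1_c14 LD2_c4 LD3_c9)) = (LP (LK LD1_c7 LD2_c26 LD3_c37)) :=
  Lre_c IH (LK LD1_c14 LD2_c4 LD3_c9) (LK LD1_c7 LD2_c26 LD3_c37) Lrfl Lrfl
theorem f13128 : Led Lsl_ct (LP (LK LD1_c7 LD2_c21 LD3_c30)) = (LP (LK LD1_c13 LD2_c54 LD3_c43)) :=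
  Lre_c IH (LK LD1_c7 LD2_c21 LD3_c30) (LK LD1_c13 LD2_c54 LD3_c43) Lrfl Lrfl
theorem f13129 : Led Lsl_af (LP (LK LD1_c14 LD2_c4 LD3_c9)) = (LP (LK LD1_c13 LD2_c54 LD3_c43)) :=
  Lgr Lrot68 (Lpr_ct (f13127 IH) (Lpr_at (K7.f13069 IH) (Lpr_ct (f13128 IH) (Lpn (LP (LK LD1_c13 LD2_c54 LD3_c43))))))
theorem f13221 : Led Lsl_et (LP (LK LD1_c14 LD2_c4 LD3_c9)) = (LP (LK LD1_c23 LD2_c37 LD3_c12)) :=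
  Lre_e IH (LK LD1_c14 LD2_c4 LD3_c9) (LK LD1_c23 LD2_c37 LD3_c12) Lrfl Lrfl
theorem f13222 : Led Lsl_et (LP (LK LD1_c23 LD2_c24 LD3_c49)) = (LP (LK LD1_c13 LD2_c54 LD3_c43)) :=
  Lre_e IH (LK LD1_c23 LD2_c24 LD3_c49) (LK LD1_c13 LD2_c54 LD3_c43) Lrfl Lrfl
theorem f13223 : Led Lsl_at (LP (LK LD1_c23 LD2_c37 LD3_c12)) = (LP (LK LD1_c23 LD2_c24 LD3_c49)) :=
  Lgr Lrot80 (Lpe (f13221 IH) (Lpr_af (f13129 IH) (Lpe (f13222 IH) (Lpn (LP (LK LD1_c23 LD2_c24 LD3_c49))))))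
theorem f13229 : Led Lsl_af (LP (LK LD1_c23 LD2_c37 LD3_c12)) = (LP (LK LD1_c23 LD2_c24 LD3_c49)) :=
  Lgr Lrot0 (Lpr_at (f13223 IH) (Lpn (LP (LK LD1_c23 LD2_c24 LD3_c49))))
theorem f13233 : Led Lsl_ct (LP (LK LD1_c23 LD2_c37 LD3_c12)) = (LP (LK LD1_c14 LD2_c3 LD3_c60)) :=
  Lre_c IH (LK LD1_c23 LD2_c37 LD3_c12) (LK LD1_c14 LD2_c3 LD3_c60) Lrfl Lrfl
theorem f13210 : Led Lsl_ct (LP (LK LD1_c13 LD2_c54 LD3_c34)) = (LP (LK LD1_c23 LD2_c24 LD3_c49)) :=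
  Lre_c IH (LK LD1_c13 LD2_c54 LD3_c34) (LK LD1_c23 LD2_c24 LD3_c49) Lrfl Lrfl
theorem f13234 : Led Lsl_at (LP (LK LD1_c14 LD2_c3 LD3_c60)) = (LP (LK LD1_c13 LD2_c54 LD3_c34)) :=
  Lgr Lrot107 (Lpe (f13233 IH) (Lpr_af (f13229 IH) (Lpe (f13210 IH) (Lpn (LP (LK LD1_c13 LD2_c54 LD3_c34))))))
theorem f13246 : Led Lsl_ft (LP (LK LD1_c23 LD2_c37 LD3_c13)) = (LP (LK LD1_c14 LD2_c3 LD3_c60)) :=
  Lre_f IH (LK LD1_c23 LD2_c37 LD3_c13) (LK LD1_c14 LD2_c3 LD3_c60) Lrfl Lrfl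
theorem f13249 : Led Lsl_gt (LP (LK LD1_c23 LD2_c37 LD3_c13)) = (LP (LK LD1_c23 LD2_c24 LD3_c48)) :=
  Lgr Lrot5 (Lpr_ft (f13246 IH) (Lpr_at (f13234 IH) (Lpe (f13248 IH) (Lpn (LP (LK LD1_c23 LD2_c24 LD3_c48))))))
theorem f13194 : Led Lsl_dt (LP (LK LD1_c14 LD2_c3 LD3_c61)) = (LP (LK LD1_c23 LD2_c37 LD3_c13)) :=
  Lre_d IH (LK LD1_c14 LD2_c3 LD3_c61) (LK LD1_c23 LD2_c37 LD3_c13) Lrfl Lrfl
theorem f571684 : Led Lsl_df (LP (LK LD1_c27 LD2_c21 LD3_c11)) = (LP (LK LD1_c20 LD2_c13 LD3_c24)) :=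
  Lgr Lrot38 (Lpr_dt (f571682 IH) (Lpn (LP (LK LD1_c20 LD2_c13 LD3_c24))))
theorem f571687 : Led Lsl_gt (LP (LK LD1_c11 LD2_c17 LD3_c26)) = (LP (LK LD1_c20 LD2_c13 LD3_c24)) :=
  Lre_g IH (LK LD1_c11 LD2_c17 LD3_c26) (LK LD1_c20 LD2_c13 LD3_c24) Lrfl Lrfl
theorem f571688 : Led Lsl_dt (LP (LK LD1_c20 LD2_c13 LD3_c37)) = (LP (LK LD1_c11 LD2_c17 LD3_c26)) :=
  Lre_d IH (LK LD1_c20 LD2_c13 LD3_c37) (LK LD1_c11 LD2_c17 LD3_c26) Lrfl Lrfl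
theorem f700847 : Led Lsl_gt (LP (LK LD1_c23 LD2_c24 LD3_c42)) = (LP (LK LD1_c20 LD2_c13 LD3_c37)) :=
  Lgr Lrot180 (Lpr_ct (K56.f13211 IH) (Lpe (K56.f13208 IH) (Lpr_dt (f13194 IH) (Lpr_gt (f13249 IH) (Lpe (f621859 IH) (Lpr_ct (f700819 IH) (Lpr_df (f571684 IH) (Lpe (f571687 IH) (Lpe (f571688 IH) (Lpn (LP (LK LD1_c20 LD2_c13 LD3_c37))))))))))))
theorem f613203 : Led Lsl_ft (LP (LK LD1_c21 LD2_c29 LD3_c46)) = (LP (LK LD1_c12 LD2_c22 LD3_c52)) :=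
  Lre_f IH (LK LD1_c21 LD2_c29 LD3_c46) (LK LD1_c12 LD2_c22 LD3_c52) Lrfl Lrfl
theorem f576982 : Led Lsl_af (LP (LK LD1_c11 LD2_c24 LD3_c50)) = (LP (LK LD1_c20 LD2_c22 LD3_c25)) :=
  Lgr Lrot0 (Lpr_at (f576980 IH) (Lpn (LP (LK LD1_c20 LD2_c22 LD3_c25))))
theorem f73370 : Led Lsl_gt (LP (LK LD1_c11 LD2_c24 LD3_c51)) = (LP (LK LD1_c5 LD2_c47 LD3_c25)) :=
  Lre_g IH (LK LD1_c11 LD2_c24 LD3_c51) (LK LD1_c5 LD2_c47 LD3_c25) Lrfl Lrfl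
theorem f576988 : Led Lsl_ft (LP (LK LD1_c11 LD2_c24 LD3_c51)) = (LP (LK LD1_c20 LD2_c22 LD3_c25)) :=
  Lgr Lrot2 (Lpr_gt (f73370 IH) (Lpr_gt (f73366 IH) (Lpr_af (f576982 IH) (Lpn (LP (LK LD1_c20 LD2_c22 LD3_c25))))))
theorem f576994 : Led Lsl_ff (LP (LK LD1_c11 LD2_c24 LD3_c51)) = (LP (LK LD1_c20 LD2_c22 LD3_c25)) :=
  Lgr Lrot3 (Lpr_ft (f576988 IH) (Lpn (LP (LK LD1_c20 LD2_c22 LD3_c25))))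
theorem f486515 : Led Lsl_et (LP (LK LD1_c13 LD2_c48 LD3_c29)) = (LP (LK LD1_c7 LD2_c17 LD3_c53)) :=
  Lre_e IH (LK LD1_c13 LD2_c48 LD3_c29) (LK LD1_c7 LD2_c17 LD3_c53) Lrfl Lrfl
theorem f575410 : Led Lsl_dt (LP (LK LD1_c13 LD2_c48 LD3_c29)) = (LP (LK LD1_c11 LD2_c24 LD3_c51)) :=
  Lgr Lrot136 (Lpr_et (f486515 IH) (Lpr_gf (K43.f575401 IH) (Lpe (K43.f574654 IH) (Lpr_dt (K43.f546602 IH) (Lpe (K36.f138620 IH) (Lpe (K35.f166375 IH) (Lpr_gf (K53.f563646 IH) (Lpe (K2.f73369 IH) (Lpr_dt (K2.f73356 IH) (Lpe (f73370 IH) (Lpn (LP (LK LD1_c11 LD2_c24 LD3_c51)))))))))))))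
theorem f525395 : Led Lsl_bt (LP (LK LD1_c7 LD2_c17 LD3_c55)) = (LP (LK LD1_c13 LD2_c48 LD3_c29)) :=
  Lre_b IH (LK LD1_c7 LD2_c17 LD3_c55) (LK LD1_c13 LD2_c48 LD3_c29) Lrfl Lrfl
theorem f482795 : Led Lsl_dt (LP (LK LD1_c13 LD2_c48 LD3_c35)) = (LP (LK LD1_c7 LD2_c17 LD3_c55)) :=
  Lre_d IH (LK LD1_c13 LD2_c48 LD3_c35) (LK LD1_c7 LD2_c17 LD3_c55) Lrfl Lrfl
theorem f575412 : Led Lsl_bf (LP (LK LD1_c13 LD2_c48 LD3_c35)) = (LP (LK LD1_c11 LD2_c24 LD3_c51)) :=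
  Lgr Lrot93 (Lpr_dt (f482795 IH) (Lpr_bt (f525395 IH) (Lpr_dt (f575410 IH) (Lpn (LP (LK LD1_c11 LD2_c24 LD3_c51))))))
theorem f567401 : Led Lsl_ft (LP (LK LD1_c13 LD2_c48 LD3_c35)) = (LP (LK LD1_c23 LD2_c16 LD3_c50)) :=
  Lre_f IH (LK LD1_c13 LD2_c48 LD3_c35) (LK LD1_c23 LD2_c16 LD3_c50) Lrfl Lrfl
theorem f576998 : Led Lsl_bt (LP (LK LD1_c23 LD2_c16 LD3_c50)) = (LP (LK LD1_c20 LD2_c22 LD3_c25)) :=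
  Lgr Lrot35 (Lpe (f567401 IH) (Lpr_bf (f575412 IH) (Lpr_ff (f576994 IH) (Lpn (LP (LK LD1_c20 LD2_c22 LD3_c25))))))
theorem f470812 : Led Lsl_et (LP (LK LD1_c22 LD2_c42 LD3_c42)) = (LP (LK LD1_c13 LD2_c24 LD3_c31)) :=
  Lre_e IH (LK LD1_c22 LD2_c42 LD3_c42) (LK LD1_c13 LD2_c24 LD3_c31) Lrfl Lrfl
theorem f567375 : Led Lsl_bt (LP (LK LD1_c16 LD2_c25 LD3_c17)) = (LP (LK LD1_c22 LD2_c42 LD3_c42)) :=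
  Lgr Lrot119 (Lpr_ef (K72.f567367 IH) (Lpe (K43.f526901 IH) (Lpe (f470812 IH) (Lpn (LP (LK LD1_c22 LD2_c42 LD3_c42))))))
theorem f567319 : Led Lsl_ft (LP (LK LD1_c16 LD2_c25 LD3_c17)) = (LP (LK LD1_c12 LD2_c23 LD3_c6)) :=
  Lgr Lrot54 (Lpr_df (K43.f567313 IH) (Lpe (K37.f543235 IH) (Lpe (K37.f36389 IH) (Lpn (LP (LK LD1_c12 LD2_c23 LD3_c6))))))
theorem f567358 : Led Lsl_at (LP (LK LD1_c12 LD2_c23 LD3_c6)) = (LP (LK LD1_c16 LD2_c25 LD3_c16)) :=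
  Lgr Lrot66 (Lpe (f567319 IH) (Lpr_af (K43.f567354 IH) (Lpe (K43.f567339 IH) (Lpn (LP (LK LD1_c16 LD2_c25 LD3_c16))))))
theorem f567360 : Led Lsl_af (LP (LK LD1_c12 LD2_c23 LD3_c6)) = (LP (LK LD1_c16 LD2_c25 LD3_c16)) :=
  Lgr Lrot0 (Lpr_at (f567358 IH) (Lpn (LP (LK LD1_c16 LD2_c25 LD3_c16))))
theorem f567331 : Led Lsl_ff (LP (LK LD1_c16 LD2_c25 LD3_c16)) = (LP (LK LD1_c12 LD2_c23 LD3_c7)) :=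
  Lgr Lrot19 (Lpr_dt (K43.f205374 IH) (Lpr_ft (K43.f567327 IH) (Lpe (K37.f204957 IH) (Lpn (LP (LK LD1_c12 LD2_c23 LD3_c7))))))
theorem f567315 : Led Lsl_at (LP (LK LD1_c16 LD2_c25 LD3_c17)) = (LP (LK LD1_c12 LD2_c23 LD3_c7)) :=
  Lgr Lrot51 (Lpr_df (K43.f567313 IH) (Lpe (K37.f543223 IH) (Lpe (K39.f204977 IH) (Lpn (LP (LK LD1_c12 LD2_c23 LD3_c7))))))
theorem f567363 : Led Lsl_ft (LP (LK LD1_c12 LD2_c23 LD3_c6)) = (LP (LK LD1_c16 LD2_c25 LD3_c17)) :=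
  Lgr Lrot101 (Lpr_af (f567360 IH) (Lpr_ff (f567331 IH) (Lpe (f567315 IH) (Lpn (LP (LK LD1_c16 LD2_c25 LD3_c17))))))
theorem f303824 : Led Lsl_bt (LP (LK LD1_c21 LD2_c30 LD3_c2)) = (LP (LK LD1_c12 LD2_c23 LD3_c6)) :=
  Lre_b IH (LK LD1_c21 LD2_c30 LD3_c2) (LK LD1_c12 LD2_c23 LD3_c6) Lrfl Lrfl
theorem f567379 : Led Lsl_ff (LP (LK LD1_c21 LD2_c30 LD3_c2)) = (LP (LK LD1_c22 LD2_c42 LD3_c42)) :=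
  Lgr Lrot25 (Lpr_bt (f303824 IH) (Lpr_ft (f567363 IH) (Lpr_bt (f567375 IH) (Lpn (LP (LK LD1_c22 LD2_c42 LD3_c42))))))
theorem f567381 : Led Lsl_ft (LP (LK LD1_c21 LD2_c30 LD3_c2)) = (LP (LK LD1_c22 LD2_c42 LD3_c42)) :=
  Lgr Lrot48 (Lpr_ff (f567379 IH) (Lpn (LP (LK LD1_c22 LD2_c42 LD3_c42))))
theorem f525411 : Led Lsl_bt (LP (LK LD1_c13 LD2_c46 LD3_c53)) = (LP (LK LD1_c23 LD2_c14 LD3_c11)) :=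
  Lre_b IH (LK LD1_c13 LD2_c46 LD3_c53) (LK LD1_c23 LD2_c14 LD3_c11) Lrfl Lrfl
theorem f567377 : Led Lsl_df (LP (LK LD1_c13 LD2_c46 LD3_c53)) = (LP (LK LD1_c22 LD2_c42 LD3_c42)) :=
  Lgr Lrot12 (Lpr_bt (f525411 IH) (Lpe (K43.f567313 IH) (Lpr_bt (f567375 IH) (Lpn (LP (LK LD1_c22 LD2_c42 LD3_c42))))))
theorem f525418 : Led Lsl_ft (LP (LK LD1_c13 LD2_c46 LD3_c53)) = (LP (LK LD1_c23 LD2_c14 LD3_c16)) :=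
  Lre_f IH (LK LD1_c13 LD2_c46 LD3_c53) (LK LD1_c23 LD2_c14 LD3_c16) Lrfl Lrfl
theorem f567383 : Led Lsl_df (LP (LK LD1_c21 LD2_c30 LD3_c2)) = (LP (LK LD1_c23 LD2_c14 LD3_c16)) :=
  Lgr Lrot78 (Lpr_ft (f567381 IH) (Lpe (f567377 IH) (Lpr_ft (f525418 IH) (Lpn (LP (LK LD1_c23 LD2_c14 LD3_c16))))))
theorem f482886 : Led Lsl_et (LP (LK LD1_c7 LD2_c17 LD3_c54)) = (LP (LK LD1_c13 LD2_c48 LD3_c32)) :=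
  Lre_e IH (LK LD1_c7 LD2_c17 LD3_c54) (LK LD1_c13 LD2_c48 LD3_c32) Lrfl Lrfl
theorem f525360 : Led Lsl_ft (LP (LK LD1_c13 LD2_c48 LD3_c32)) = (LP (LK LD1_c23 LD2_c16 LD3_c42)) :=
  Lre_f IH (LK LD1_c13 LD2_c48 LD3_c32) (LK LD1_c23 LD2_c16 LD3_c42) Lrfl Lrfl
theorem f483231 : Led Lsl_et (LP (LK LD1_c22 LD2_c53 LD3_c45)) = (LP (LK LD1_c13 LD2_c31 LD3_c59)) :=
  Lre_e IH (LK LD1_c22 LD2_c53 LD3_c45) (LK LD1_c13 LD2_c31 LD3_c59) Lrfl Lrfl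
theorem f525361 : Led Lsl_et (LP (LK LD1_c23 LD2_c16 LD3_c42)) = (LP (LK LD1_c30 LD2_c47 LD3_c6)) :=
  Lgr Lrot69 (Lpe (f525360 IH) (Lpe (f482886 IH) (Lpr_ff (K35.f525352 IH) (Lpe (f483231 IH) (Lpe (K35.f525294 IH) (Lpn (LP (LK LD1_c30 LD2_c47 LD3_c6))))))))
theorem f525291 : Led Lsl_af (LP (LK LD1_c23 LD2_c17 LD3_c0)) = (LP (LK LD1_c30 LD2_c47 LD3_c6)) :=
  Lgr Lrot0 (Lpr_at (K35.f525281 IH) (Lpn (LP (LK LD1_c30 LD2_c47 LD3_c6))))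
theorem f482871 : Led Lsl_et (LP (LK LD1_c7 LD2_c17 LD3_c57)) = (LP (LK LD1_c13 LD2_c48 LD3_c41)) :=
  Lre_e IH (LK LD1_c7 LD2_c17 LD3_c57) (LK LD1_c13 LD2_c48 LD3_c41) Lrfl Lrfl
theorem f467404 : Led Lsl_et (LP (LK LD1_c23 LD2_c14 LD3_c13)) = (LP (LK LD1_c13 LD2_c46 LD3_c52)) :=
  Lre_e IH (LK LD1_c23 LD2_c14 LD3_c13) (LK LD1_c13 LD2_c46 LD3_c52) Lrfl Lrfl
theorem f525315 : Led Lsl_ft (LP (LK LD1_c30 LD2_c57 LD3_c21)) = (LP (LK LD1_c23 LD2_c14 LD3_c13)) :=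
  Lre_f IH (LK LD1_c30 LD2_c57 LD3_c21) (LK LD1_c23 LD2_c14 LD3_c13) Lrfl Lrfl
theorem f525316 : Led Lsl_et (LP (LK LD1_c23 LD2_c17 LD3_c0)) = (LP (LK LD1_c30 LD2_c57 LD3_c21)) :=
  Lgr Lrot69 (Lpe (K35.f525293 IH) (Lpe (f482871 IH) (Lpr_ff (K35.f525309 IH) (Lpe (f467404 IH) (Lpe (f525315 IH) (Lpn (LP (LK LD1_c30 LD2_c57 LD3_c21))))))))
theorem f525363 : Led Lsl_af (LP (LK LD1_c23 LD2_c16 LD3_c42)) = (LP (LK LD1_c30 LD2_c57 LD3_c21)) :=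
  Lgr Lrot50 (Lpr_et (f525361 IH) (Lpe (f525291 IH) (Lpr_et (f525316 IH) (Lpn (LP (LK LD1_c30 LD2_c57 LD3_c21))))))
theorem f525372 : Led Lsl_ct (LP (LK LD1_c23 LD2_c16 LD3_c42)) = (LP (LK LD1_c13 LD2_c48 LD3_c36)) :=
  Lre_c IH (LK LD1_c23 LD2_c16 LD3_c42) (LK LD1_c13 LD2_c48 LD3_c36) Lrfl Lrfl
theorem f525378 : Led Lsl_ct (LP (LK LD1_c23 LD2_c14 LD3_c16)) = (LP (LK LD1_c30 LD2_c57 LD3_c21)) :=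
  Lre_c IH (LK LD1_c23 LD2_c14 LD3_c16) (LK LD1_c30 LD2_c57 LD3_c21) Lrfl Lrfl
theorem f525379 : Led Lsl_at (LP (LK LD1_c13 LD2_c48 LD3_c36)) = (LP (LK LD1_c23 LD2_c14 LD3_c16)) :=
  Lgr Lrot107 (Lpe (f525372 IH) (Lpr_af (f525363 IH) (Lpe (f525378 IH) (Lpn (LP (LK LD1_c23 LD2_c14 LD3_c16))))))
theorem f525373 : Led Lsl_dt (LP (LK LD1_c23 LD2_c16 LD3_c50)) = (LP (LK LD1_c13 LD2_c48 LD3_c36)) :=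
  Lre_d IH (LK LD1_c23 LD2_c16 LD3_c50) (LK LD1_c13 LD2_c48 LD3_c36) Lrfl Lrfl
theorem f567385 : Led Lsl_at (LP (LK LD1_c21 LD2_c30 LD3_c2)) = (LP (LK LD1_c23 LD2_c16 LD3_c50)) :=
  Lgr Lrot51 (Lpr_df (f567383 IH) (Lpe (f525379 IH) (Lpe (f525373 IH) (Lpn (LP (LK LD1_c23 LD2_c16 LD3_c50))))))
theorem f567362 : Led Lsl_bt (LP (LK LD1_c12 LD2_c23 LD3_c6)) = (LP (LK LD1_c21 LD2_c30 LD3_c2)) :=
  Lre_b IH (LK LD1_c12 LD2_c23 LD3_c6) (LK LD1_c21 LD2_c30 LD3_c2) Lrfl Lrfl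
theorem f577002 : Led Lsl_bf (LP (LK LD1_c16 LD2_c25 LD3_c16)) = (LP (LK LD1_c11 LD2_c24 LD3_c50)) :=
  Lgr Lrot81 (Lpe (f567360 IH) (Lpr_bt (f567362 IH) (Lpr_at (f567385 IH) (Lpr_bt (f576998 IH) (Lpe (f576982 IH) (Lpn (LP (LK LD1_c11 LD2_c24 LD3_c50))))))))
theorem f577006 : Led Lsl_bt (LP (LK LD1_c12 LD2_c23 LD3_c7)) = (LP (LK LD1_c20 LD2_c22 LD3_c26)) :=
  Lgr Lrot35 (Lpe (K43.f567339 IH) (Lpr_bf (f577002 IH) (Lpr_ff (f576984 IH) (Lpn (LP (LK LD1_c20 LD2_c22 LD3_c26))))))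
theorem f36367 : Led Lsl_ct (LP (LK LD1_c12 LD2_c23 LD3_c7)) = (LP (LK LD1_c21 LD2_c30 LD3_c5)) :=
  Lre_c IH (LK LD1_c12 LD2_c23 LD3_c7) (LK LD1_c21 LD2_c30 LD3_c5) Lrfl Lrfl
theorem f73352 : Led Lsl_gt (LP (LK LD1_c11 LD2_c24 LD3_c52)) = (LP (LK LD1_c20 LD2_c22 LD3_c26)) :=
  Lre_g IH (LK LD1_c11 LD2_c24 LD3_c52) (LK LD1_c20 LD2_c22 LD3_c26) Lrfl Lrfl
theorem f81154 : Led Lsl_bt (LP (LK LD1_c8 LD2_c45 LD3_c34)) = (LP (LK LD1_c4 LD2_c23 LD3_c53)) :=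
  Lre_b IH (LK LD1_c8 LD2_c45 LD3_c34) (LK LD1_c4 LD2_c23 LD3_c53) Lrfl Lrfl
theorem f159651 : Led Lsl_cf (LP (LK LD1_c14 LD2_c1 LD3_c54)) = (LP (LK LD1_c8 LD2_c45 LD3_c34)) :=
  Lgr Lrot39 (Lpr_et (K36.f159485 IH) (Lpr_ct (K8.f159645 IH) (Lpr_et (K10.f81177 IH) (Lpn (LP (LK LD1_c8 LD2_c45 LD3_c34))))))
theorem f577010 : Led Lsl_gt (LP (LK LD1_c21 LD2_c30 LD3_c5)) = (LP (LK LD1_c14 LD2_c1 LD3_c54)) :=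
  Lgr Lrot65 (Lpe (f36367 IH) (Lpr_bt (f577006 IH) (Lpe (f73352 IH) (Lpe (K2.f73346 IH) (Lpr_ct (K68.f69552 IH) (Lpe (K37.f443764 IH) (Lpe (K46.f445001 IH) (Lpe (K46.f80834 IH) (Lpe (f81154 IH) (Lpe (f159651 IH) (Lpn (LP (LK LD1_c14 LD2_c1 LD3_c54)))))))))))))
theorem f613204 : Led Lsl_gt (LP (LK LD1_c21 LD2_c29 LD3_c46)) = (LP (LK LD1_c21 LD2_c30 LD3_c5)) :=
  Lgr Lrot5 (Lpr_ft (f613203 IH) (Lpr_at (K55.f613184 IH) (Lpe (f577010 IH) (Lpn (LP (LK LD1_c21 LD2_c30 LD3_c5))))))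
theorem f799730 : Led Lsl_bf (LP (LK LD1_c21 LD2_c30 LD3_c5)) = v21874 :=
  Lgr Lrot34 (Lpe (f613204 IH) (Lpe (K55.f554341 IH) (Lpr_ct (K55.f613176 IH) (Lpe (f700847 IH) (Lpe (f13213 IH) (Lpe (K56.f13207 IH) (Lpe (K55.f12933 IH) (Lpe (K74.f206304 IH) (Lpe (f206340 IH) (Lpr_cf (f799729 IH) (Lpn v21874)))))))))))
theorem f36370 : Led Lsl_ct (LP (LK LD1_c21 LD2_c30 LD3_c5)) = (LP (LK LD1_c12 LD2_c23 LD3_c7)) :=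
  Lre_c IH (LK LD1_c21 LD2_c30 LD3_c5) (LK LD1_c12 LD2_c23 LD3_c7) Lrfl Lrfl
def v21873 : LQ := Led Lsl_bt (LP (LK LD1_c7 LD2_c27 LD3_c31))
theorem f799726 : Led Lsl_bt (LP (LK LD1_c7 LD2_c27 LD3_c31)) = v21873 :=
  Lrfl
theorem f799727 : Led Lsl_bf (LP (LK LD1_c7 LD2_c27 LD3_c31)) = v21873 :=
  Lgr Lrot24 (Lpr_bt (f799726 IH) (Lpn v21873))
theorem f799732 : Led Lsl_ct (LP (LK LD1_c20 LD2_c22 LD3_c26)) = v21873 :=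
  Lgr Lrot83 (Lpe (f577006 IH) (Lpe (f36370 IH) (Lpr_bf (f799730 IH) (Lpe (f799728 IH) (Lpr_bf (f799727 IH) (Lpn v21873))))))
theorem f960516 : Led Lsl_ff v21619 = v21873 :=
  Lgr Lrot23 (Lpr_ct (f960514 IH) (Lpr_ft (f576986 IH) (Lpr_ct (f799732 IH) (Lpn v21873))))
theorem f960518 : v21622 = (LP (LK LD1_c7 LD2_c27 LD3_c31)) :=
  (Llr Lrot75 (Lpe (f798218 IH) (Lpr_bf (f798213 IH) (Lpr_ff (f960516 IH) (Lpe (f799726 IH) (Lpn (LP (LK LD1_c7 LD2_c27 LD3_c31)))))))).symm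
theorem f960520 : Led Lsl_at (LP (LK LD1_c7 LD2_c23 LD3_c35)) = (LP (LK LD1_c7 LD2_c27 LD3_c31)) :=
  Leop (Lpq (f960518 IH) (Lpe (f798221 IH) (Lpn (LP (LK LD1_c7 LD2_c23 LD3_c35)))))
theorem seed_2827 : LEOK LG_a (LK LD1_c7 LD2_c23 LD3_c35) :=
  Leoe_a (LK LD1_c7 LD2_c23 LD3_c35) (f960520 IH)
def v47930 : LQ := Led Lsl_ft (LP (LK LD1_c11 LD2_c23 LD3_c42))
theorem f960775 : Led Lsl_ft (LP (LK LD1_c11 LD2_c23 LD3_c42)) = v47930 :=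
  Lrfl
theorem f960776 : Led Lsl_af (LP (LK LD1_c21 LD2_c15 LD3_c6)) = v47930 :=
  Lgr Lrot45 (Lpr_ft (K47.f410601 IH) (Lpe (K47.f410633 IH) (Lpr_ft (f960775 IH) (Lpn v47930))))
theorem f960779 : Led Lsl_gt (LP (LK LD1_c20 LD2_c21 LD3_c33)) = (LP (LK LD1_c21 LD2_c15 LD3_c6)) :=
  Lgr Lrot46 (Lpe (K47.f241352 IH) (Lpr_ft (f960775 IH) (Lpe (f960776 IH) (Lpn (LP (LK LD1_c21 LD2_c15 LD3_c6))))))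
theorem f960780 : Led Lsl_gt (LP (LK LD1_c20 LD2_c21 LD3_c33)) = (LP (LK LD1_c21 LD2_c15 LD3_c6)) :=
  Leop (Lpe (f960779 IH) (Lpn (LP (LK LD1_c20 LD2_c21 LD3_c33))))
theorem seed_2828 : LEOK LG_g (LK LD1_c20 LD2_c21 LD3_c33) :=
  Leoe_g (LK LD1_c20 LD2_c21 LD3_c33) (f960780 IH)
def v46902 : LQ := Led Lsl_gt (LP (LK LD1_c11 LD2_c12 LD3_c40))
theorem f955756 : Led Lsl_gt (LP (LK LD1_c11 LD2_c12 LD3_c40)) = v46902 :=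
  Lrfl
def v15512 : LQ := Led Lsl_ct (LP (LK LD1_c5 LD2_c41 LD3_c3))
theorem f737820 : Led Lsl_ct (LP (LK LD1_c5 LD2_c41 LD3_c3)) = v15512 :=
  Lrfl
theorem f737817 : Led Lsl_bt (LP (LK LD1_c5 LD2_c41 LD3_c3)) = (LP (LK LD1_c11 LD2_c12 LD3_c40)) :=
  Lre_b IH (LK LD1_c5 LD2_c41 LD3_c3) (LK LD1_c11 LD2_c12 LD3_c40) Lrfl Lrfl
def v46891 : LQ := Led Lsl_ct (LP (LK LD1_c11 LD2_c12 LD3_c31))
theorem f955712 : Led Lsl_ct (LP (LK LD1_c11 LD2_c12 LD3_c31)) = v46891 :=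
  Lrfl
def v15516 : LQ := Led Lsl_ct (LP (LK LD1_c5 LD2_c41 LD3_c4))
theorem f737832 : Led Lsl_ct (LP (LK LD1_c5 LD2_c41 LD3_c4)) = v15516 :=
  Lrfl
theorem f737833 : Led Lsl_cf (LP (LK LD1_c5 LD2_c41 LD3_c4)) = v15516 :=
  Lgr Lrot11 (Lpr_ct (f737832 IH) (Lpn v15516))
theorem f955715 : Led Lsl_ff v15516 = v46891 :=
  Lgr Lrot23 (Lpe (f737833 IH) (Lpr_ft (K55.f737818 IH) (Lpqs (K56.f750948 IH) (Lpr_ct (f955712 IH) (Lpn v46891)))))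
theorem f955717 : Led Lsl_ft v15516 = v46891 :=
  Lgr Lrot48 (Lpr_ff (f955715 IH) (Lpn v46891))
theorem f737821 : Led Lsl_cf (LP (LK LD1_c5 LD2_c41 LD3_c3)) = v15512 :=
  Lgr Lrot11 (Lpr_ct (f737820 IH) (Lpn v15512))
theorem f955713 : Led Lsl_af v15512 = v46891 :=
  Lgr Lrot68 (Lpe (f737821 IH) (Lpr_at (K55.f737815 IH) (Lpqs (K56.f750948 IH) (Lpr_ct (f955712 IH) (Lpn v46891)))))
def v47953 : LQ := Led Lsl_ft (LP (LK LD1_c11 LD2_c24 LD3_c0))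
theorem f960917 : Led Lsl_ft (LP (LK LD1_c11 LD2_c24 LD3_c0)) = v47953 :=
  Lrfl
theorem f960921 : Led Lsl_ff (LP (LK LD1_c11 LD2_c24 LD3_c0)) = v47953 :=
  Lgr Lrot3 (Lpr_ft (f960917 IH) (Lpn v47953))
def v47138 : LQ := Led Lsl_gf (LP (LK LD1_c11 LD2_c15 LD3_c2))
theorem f957067 : Led Lsl_gf (LP (LK LD1_c11 LD2_c15 LD3_c2)) = v47138 :=
  Lrfl
theorem f960925 : Led Lsl_gf v47138 = v47953 :=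
  Lgr Lrot47 (Lpe (f957067 IH) (Lpr_af (K37.f68766 IH) (Lpr_ff (f960921 IH) (Lpn v47953))))
theorem f960923 : Led Lsl_ct (LP (LK LD1_c11 LD2_c24 LD3_c3)) = v47953 :=
  Lgr Lrot40 (Lpe (K16.f68761 IH) (Lpe (K37.f68742 IH) (Lpr_ff (f960921 IH) (Lpn v47953))))
theorem f281869 : Led Lsl_bt (LP (LK LD1_c16 LD2_c52 LD3_c28)) = (LP (LK LD1_c9 LD2_c2 LD3_c21)) :=
  Lre_b IH (LK LD1_c16 LD2_c52 LD3_c28) (LK LD1_c9 LD2_c2 LD3_c21) Lrfl Lrfl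
theorem f580449 : Led Lsl_bf (LP (LK LD1_c9 LD2_c3 LD3_c23)) = (LP (LK LD1_c11 LD2_c24 LD3_c3)) :=
  Lgr Lrot96 (Lpr_et (K66.f580445 IH) (Lpr_bt (f281869 IH) (Lpe (K16.f281865 IH) (Lpn (LP (LK LD1_c11 LD2_c24 LD3_c3))))))
theorem f644787 : Led Lsl_gt (LP (LK LD1_c9 LD2_c3 LD3_c16)) = (LP (LK LD1_c16 LD2_c53 LD3_c30)) :=
  Lgr Lrot46 (Lpr_gf (K69.f644783 IH) (Lpe (K51.f507683 IH) (Lpr_at (K51.f507677 IH) (Lpn (LP (LK LD1_c16 LD2_c53 LD3_c30))))))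
theorem f644559 : Led Lsl_ft (LP (LK LD1_c9 LD2_c3 LD3_c16)) = (LP (LK LD1_c16 LD2_c53 LD3_c29)) :=
  Lgr Lrot48 (Lpr_ff (K51.f644553 IH) (Lpn (LP (LK LD1_c16 LD2_c53 LD3_c29))))
theorem f644547 : Led Lsl_af (LP (LK LD1_c9 LD2_c3 LD3_c23)) = (LP (LK LD1_c16 LD2_c53 LD3_c29)) :=
  Lgr Lrot0 (Lpr_at (K51.f644545 IH) (Lpn (LP (LK LD1_c16 LD2_c53 LD3_c29))))
theorem f644789 : Led Lsl_gf (LP (LK LD1_c9 LD2_c3 LD3_c23)) = (LP (LK LD1_c16 LD2_c53 LD3_c30)) :=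
  Lgr Lrot76 (Lpr_af (f644547 IH) (Lpe (f644559 IH) (Lpr_gt (f644787 IH) (Lpn (LP (LK LD1_c16 LD2_c53 LD3_c30))))))
theorem f507698 : Led Lsl_ct (LP (LK LD1_c11 LD2_c16 LD3_c23)) = (LP (LK LD1_c20 LD2_c12 LD3_c23)) :=
  Lre_c IH (LK LD1_c11 LD2_c16 LD3_c23) (LK LD1_c20 LD2_c12 LD3_c23) Lrfl Lrfl
theorem f507706 : Led Lsl_at (LP (LK LD1_c11 LD2_c16 LD3_c24)) = (LP (LK LD1_c20 LD2_c12 LD3_c23)) :=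
  Lre_a IH (LK LD1_c11 LD2_c16 LD3_c24) (LK LD1_c20 LD2_c12 LD3_c23) Lrfl Lrfl
theorem f740379 : Led Lsl_gt (LP (LK LD1_c19 LD2_c59 LD3_c55)) = (LP (LK LD1_c20 LD2_c12 LD3_c23)) :=
  Lgr Lrot46 (Lpr_gf (K68.f740377 IH) (Lpr_ft (K55.f507703 IH) (Lpr_at (f507706 IH) (Lpn (LP (LK LD1_c20 LD2_c12 LD3_c23))))))
theorem f619324 : Led Lsl_ct (LP (LK LD1_c11 LD2_c24 LD3_c34)) = (LP (LK LD1_c19 LD2_c59 LD3_c55)) :=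
  Lgr Lrot59 (Lpr_cf (K68.f552471 IH) (Lpn (LP (LK LD1_c19 LD2_c59 LD3_c55))))
theorem f902180 : Led Lsl_gf (LP (LK LD1_c11 LD2_c16 LD3_c11)) = (LP (LK LD1_c11 LD2_c17 LD3_c33)) :=
  Lgr Lrot47 (Lpr_gt (K69.f902178 IH) (Lpe (K36.f381890 IH) (Lpe (K74.f381945 IH) (Lpn (LP (LK LD1_c11 LD2_c17 LD3_c33))))))
theorem f412037 : Led Lsl_ct (LP (LK LD1_c5 LD2_c42 LD3_c58)) = (LP (LK LD1_c11 LD2_c16 LD3_c12)) :=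
  Lre_c IH (LK LD1_c5 LD2_c42 LD3_c58) (LK LD1_c11 LD2_c16 LD3_c12) Lrfl Lrfl
theorem f280944 : Led Lsl_bt (LP (LK LD1_c1 LD2_c20 LD3_c3)) = (LP (LK LD1_c2 LD2_c47 LD3_c26)) :=
  Lre_b IH (LK LD1_c1 LD2_c20 LD3_c3) (LK LD1_c2 LD2_c47 LD3_c26) Lrfl Lrfl
theorem f281551 : Led Lsl_ct (LP (LK LD1_c5 LD2_c42 LD3_c57)) = (LP (LK LD1_c11 LD2_c16 LD3_c10)) :=
  Lre_c IH (LK LD1_c5 LD2_c42 LD3_c57) (LK LD1_c11 LD2_c16 LD3_c10) Lrfl Lrfl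
theorem f281552 : Led Lsl_gt (LP (LK LD1_c11 LD2_c16 LD3_c10)) = (LP (LK LD1_c20 LD2_c12 LD3_c6)) :=
  Lre_g IH (LK LD1_c11 LD2_c16 LD3_c10) (LK LD1_c20 LD2_c12 LD3_c6) Lrfl Lrfl
theorem f580386 : Led Lsl_bt (LP (LK LD1_c24 LD2_c53 LD3_c5)) = (LP (LK LD1_c15 LD2_c4 LD3_c5)) :=
  Lre_b IH (LK LD1_c24 LD2_c53 LD3_c5) (LK LD1_c15 LD2_c4 LD3_c5) Lrfl Lrfl
theorem f871188 : Led Lsl_cf (LP (LK LD1_c20 LD2_c12 LD3_c6)) = (LP (LK LD1_c24 LD2_c53 LD3_c5)) :=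
  Lgr Lrot163 (Lpe (f281552 IH) (Lpe (f281551 IH) (Lpe (K69.f280948 IH) (Lpe (f280944 IH) (Lpe (K51.f280905 IH) (Lpe (K55.f173932 IH) (Lpqs (K55.f741250 IH) (Lpe (K55.f698385 IH) (Lpr_bt (K69.f505610 IH) (Lpr_gf (K69.f871184 IH) (Lpe (f580386 IH) (Lpn (LP (LK LD1_c24 LD2_c53 LD3_c5))))))))))))))
theorem f566730 : Led Lsl_ft (LP (LK LD1_c15 LD2_c3 LD3_c61)) = (LP (LK LD1_c24 LD2_c53 LD3_c5)) :=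
  Lre_f IH (LK LD1_c15 LD2_c3 LD3_c61) (LK LD1_c24 LD2_c53 LD3_c5) Lrfl Lrfl
theorem f542281 : Led Lsl_et (LP (LK LD1_c11 LD2_c23 LD3_c48)) = (LP (LK LD1_c20 LD2_c21 LD3_c39)) :=
  Lre_e IH (LK LD1_c11 LD2_c23 LD3_c48) (LK LD1_c20 LD2_c21 LD3_c39) Lrfl Lrfl
theorem f566748 : Led Lsl_cf (LP (LK LD1_c15 LD2_c3 LD3_c61)) = (LP (LK LD1_c20 LD2_c21 LD3_c39)) :=
  Lgr Lrot39 (Lpr_et (K44.f423765 IH) (Lpr_ct (K41.f566744 IH) (Lpr_et (f542281 IH) (Lpn (LP (LK LD1_c20 LD2_c21 LD3_c39))))))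
theorem f871192 : Led Lsl_ft (LP (LK LD1_c20 LD2_c12 LD3_c6)) = (LP (LK LD1_c20 LD2_c21 LD3_c39)) :=
  Lgr Lrot4 (Lpr_cf (f871188 IH) (Lpe (f566730 IH) (Lpr_cf (f566748 IH) (Lpn (LP (LK LD1_c20 LD2_c21 LD3_c39))))))
theorem f280924 : Led Lsl_ct (LP (LK LD1_c20 LD2_c10 LD3_c30)) = (LP (LK LD1_c11 LD2_c15 LD3_c23)) :=
  Lre_c IH (LK LD1_c20 LD2_c10 LD3_c30) (LK LD1_c11 LD2_c15 LD3_c23) Lrfl Lrfl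
theorem f268825 : Led Lsl_gt (LP (LK LD1_c11 LD2_c15 LD3_c24)) = (LP (LK LD1_c5 LD2_c42 LD3_c36)) :=
  Lre_g IH (LK LD1_c11 LD2_c15 LD3_c24) (LK LD1_c5 LD2_c42 LD3_c36) Lrfl Lrfl
theorem f268821 : Led Lsl_gt (LP (LK LD1_c5 LD2_c42 LD3_c36)) = (LP (LK LD1_c11 LD2_c15 LD3_c23)) :=
  Lre_g IH (LK LD1_c5 LD2_c42 LD3_c36) (LK LD1_c11 LD2_c15 LD3_c23) Lrfl Lrfl
theorem f747981 : K69.v15583 = (LP (LK LD1_c11 LD2_c15 LD3_c23)) :=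
  (Llr Lrot26 (Lpe (K69.f738141 IH) (Lpr_ff (K69.f738156 IH) (Lpq (K69.f747966 IH) (Lpr_gt (f268825 IH) (Lpr_gt (f268821 IH) (Lpn (LP (LK LD1_c11 LD2_c15 LD3_c23))))))))).symm
theorem f747990 : Led Lsl_af (LP (LK LD1_c20 LD2_c10 LD3_c30)) = (LP (LK LD1_c11 LD2_c16 LD3_c10)) :=
  Lgr Lrot68 (Lpr_ct (f280924 IH) (Lpq (f747981 IH) (Lpe (K69.f738142 IH) (Lpr_ct (f281551 IH) (Lpn (LP (LK LD1_c11 LD2_c16 LD3_c10)))))))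
theorem f281559 : Led Lsl_ct (LP (LK LD1_c11 LD2_c16 LD3_c12)) = (LP (LK LD1_c5 LD2_c42 LD3_c58)) :=
  Lre_c IH (LK LD1_c11 LD2_c16 LD3_c12) (LK LD1_c5 LD2_c42 LD3_c58) Lrfl Lrfl
theorem f268822 : Led Lsl_ct (LP (LK LD1_c11 LD2_c15 LD3_c23)) = (LP (LK LD1_c20 LD2_c10 LD3_c30)) :=
  Lre_c IH (LK LD1_c11 LD2_c15 LD3_c23) (LK LD1_c20 LD2_c10 LD3_c30) Lrfl Lrfl
theorem f747986 : Led Lsl_ff (LP (LK LD1_c11 LD2_c16 LD3_c12)) = (LP (LK LD1_c20 LD2_c10 LD3_c30)) :=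
  Lgr Lrot23 (Lpr_ct (f281559 IH) (Lpr_ft (K69.f738143 IH) (Lpqs (f747981 IH) (Lpr_ct (f268822 IH) (Lpn (LP (LK LD1_c20 LD2_c10 LD3_c30)))))))
theorem f281561 : Led Lsl_ct (LP (LK LD1_c11 LD2_c16 LD3_c10)) = (LP (LK LD1_c5 LD2_c42 LD3_c57)) :=
  Lre_c IH (LK LD1_c11 LD2_c16 LD3_c10) (LK LD1_c5 LD2_c42 LD3_c57) Lrfl Lrfl
theorem f280939 : Led Lsl_ct (LP (LK LD1_c11 LD2_c15 LD3_c24)) = (LP (LK LD1_c20 LD2_c10 LD3_c31)) :=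
  Lre_c IH (LK LD1_c11 LD2_c15 LD3_c24) (LK LD1_c20 LD2_c10 LD3_c31) Lrfl Lrfl
theorem f747971 : Led Lsl_ff (LP (LK LD1_c11 LD2_c16 LD3_c10)) = (LP (LK LD1_c20 LD2_c10 LD3_c31)) :=
  Lgr Lrot23 (Lpr_ct (f281561 IH) (Lpr_ft (K69.f738154 IH) (Lpq (K69.f747966 IH) (Lpr_ct (f280939 IH) (Lpn (LP (LK LD1_c20 LD2_c10 LD3_c31)))))))
theorem f747994 : Led Lsl_at (LP (LK LD1_c11 LD2_c16 LD3_c12)) = (LP (LK LD1_c20 LD2_c10 LD3_c31)) :=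
  Lgr Lrot66 (Lpr_ff (f747986 IH) (Lpr_af (f747990 IH) (Lpr_ff (f747971 IH) (Lpn (LP (LK LD1_c20 LD2_c10 LD3_c31))))))
theorem f747996 : Led Lsl_af (LP (LK LD1_c11 LD2_c16 LD3_c12)) = (LP (LK LD1_c20 LD2_c10 LD3_c31)) :=
  Lgr Lrot0 (Lpr_at (f747994 IH) (Lpn (LP (LK LD1_c20 LD2_c10 LD3_c31))))
theorem f747975 : Led Lsl_ft (LP (LK LD1_c11 LD2_c16 LD3_c10)) = (LP (LK LD1_c20 LD2_c10 LD3_c31)) :=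
  Lgr Lrot48 (Lpr_ff (f747971 IH) (Lpn (LP (LK LD1_c20 LD2_c10 LD3_c31))))
theorem f748010 : Led Lsl_gf (LP (LK LD1_c11 LD2_c16 LD3_c12)) = (LP (LK LD1_c20 LD2_c12 LD3_c6)) :=
  Lgr Lrot76 (Lpr_af (f747996 IH) (Lpe (f747975 IH) (Lpr_gt (f281552 IH) (Lpn (LP (LK LD1_c20 LD2_c12 LD3_c6))))))
theorem f424055 : Led Lsl_et (LP (LK LD1_c11 LD2_c15 LD3_c49)) = (LP (LK LD1_c20 LD2_c11 LD3_c23)) :=
  Lre_e IH (LK LD1_c11 LD2_c15 LD3_c49) (LK LD1_c20 LD2_c11 LD3_c23) Lrfl Lrfl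
theorem f579805 : Led Lsl_ct (LP (LK LD1_c20 LD2_c11 LD3_c23)) = (LP (LK LD1_c20 LD2_c0 LD3_c22)) :=
  Lgr Lrot15 (Lpe (f424055 IH) (Lpr_cf (K43.f579795 IH) (Lpe (K44.f566715 IH) (Lpn (LP (LK LD1_c20 LD2_c0 LD3_c22))))))
theorem f606062 : Led Lsl_cf (LP (LK LD1_c20 LD2_c11 LD3_c23)) = (LP (LK LD1_c20 LD2_c0 LD3_c22)) :=
  Lgr Lrot11 (Lpr_ct (f579805 IH) (Lpn (LP (LK LD1_c20 LD2_c0 LD3_c22))))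
theorem f606065 : Led Lsl_at (LP (LK LD1_c20 LD2_c11 LD3_c23)) = (LP (LK LD1_c20 LD2_c21 LD3_c39)) :=
  Lgr Lrot107 (Lpr_cf (f606062 IH) (Lpe (K44.f566723 IH) (Lpr_cf (f566748 IH) (Lpn (LP (LK LD1_c20 LD2_c21 LD3_c39))))))
theorem f606067 : Led Lsl_af (LP (LK LD1_c20 LD2_c11 LD3_c23)) = (LP (LK LD1_c20 LD2_c21 LD3_c39)) :=
  Lgr Lrot0 (Lpr_at (f606065 IH) (Lpn (LP (LK LD1_c20 LD2_c21 LD3_c39))))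
theorem f871196 : Led Lsl_gt (LP (LK LD1_c11 LD2_c16 LD3_c12)) = (LP (LK LD1_c20 LD2_c11 LD3_c23)) :=
  Lgr Lrot46 (Lpr_gf (f748010 IH) (Lpr_ft (f871192 IH) (Lpe (f606067 IH) (Lpn (LP (LK LD1_c20 LD2_c11 LD3_c23))))))
theorem f644627 : Led Lsl_at (LP (LK LD1_c11 LD2_c17 LD3_c43)) = (LP (LK LD1_c20 LD2_c12 LD3_c22)) :=
  Lgr Lrot66 (Lpe (f644626 IH) (Lpe (K74.f382447 IH) (Lpr_ff (K74.f644613 IH) (Lpn (LP (LK LD1_c20 LD2_c12 LD3_c22))))))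
theorem f381616 : Led Lsl_gt (LP (LK LD1_c5 LD2_c43 LD3_c50)) = (LP (LK LD1_c11 LD2_c17 LD3_c40)) :=
  Lre_g IH (LK LD1_c5 LD2_c43 LD3_c50) (LK LD1_c11 LD2_c17 LD3_c40) Lrfl Lrfl
theorem f644634 : Led Lsl_gt (LP (LK LD1_c11 LD2_c17 LD3_c40)) = (LP (LK LD1_c20 LD2_c12 LD3_c22)) :=
  Lgr Lrot46 (Lpe (f381616 IH) (Lpr_ft (f644626 IH) (Lpr_at (f644627 IH) (Lpn (LP (LK LD1_c20 LD2_c12 LD3_c22))))))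
theorem f644584 : Led Lsl_ct (LP (LK LD1_c20 LD2_c13 LD3_c49)) = (LP (LK LD1_c11 LD2_c17 LD3_c40)) :=
  Lre_c IH (LK LD1_c20 LD2_c13 LD3_c49) (LK LD1_c11 LD2_c17 LD3_c40) Lrfl Lrfl
theorem f902184 : Led Lsl_gt (LP (LK LD1_c11 LD2_c24 LD3_c34)) = (LP (LK LD1_c20 LD2_c13 LD3_c49)) :=
  Lgr Lrot82 (Lpe (K44.f561374 IH) (Lpe (f606062 IH) (Lpe (f871196 IH) (Lpe (f412037 IH) (Lpr_bt (K69.f714236 IH) (Lpr_gf (f902180 IH) (Lpr_bf (K74.f644611 IH) (Lpr_ct (K74.f638928 IH) (Lpe (f644634 IH) (Lpe (f644584 IH) (Lpn (LP (LK LD1_c20 LD2_c13 LD3_c49)))))))))))))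
theorem f542554 : Led Lsl_gf (LP (LK LD1_c20 LD2_c13 LD3_c61)) = (LP (LK LD1_c12 LD2_c6 LD3_c50)) :=
  Lgr Lrot76 (Lpr_af (K39.f542542 IH) (Lpe (K32.f81367 IH) (Lpr_gt (K55.f81251 IH) (Lpn (LP (LK LD1_c12 LD2_c6 LD3_c50))))))
theorem f542557 : Led Lsl_ct (LP (LK LD1_c11 LD2_c17 LD3_c43)) = (LP (LK LD1_c5 LD2_c43 LD3_c53)) :=
  Lre_c IH (LK LD1_c11 LD2_c17 LD3_c43) (LK LD1_c5 LD2_c43 LD3_c53) Lrfl Lrfl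
theorem f644631 : Led Lsl_af (LP (LK LD1_c11 LD2_c17 LD3_c43)) = (LP (LK LD1_c20 LD2_c12 LD3_c22)) :=
  Lgr Lrot0 (Lpr_at (f644627 IH) (Lpn (LP (LK LD1_c20 LD2_c12 LD3_c22))))
theorem f644598 : Led Lsl_ct (LP (LK LD1_c20 LD2_c12 LD3_c22)) = (LP (LK LD1_c11 LD2_c16 LD3_c22)) :=
  Lre_c IH (LK LD1_c20 LD2_c12 LD3_c22) (LK LD1_c11 LD2_c16 LD3_c22) Lrfl Lrfl
theorem f644603 : Led Lsl_ft (LP (LK LD1_c11 LD2_c17 LD3_c13)) = (LP (LK LD1_c20 LD2_c12 LD3_c22)) :=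
  Lgr Lrot4 (Lpe (f381905 IH) (Lpr_ff (K54.f644596 IH) (Lpe (f644598 IH) (Lpn (LP (LK LD1_c20 LD2_c12 LD3_c22))))))
theorem f381906 : Led Lsl_gt (LP (LK LD1_c11 LD2_c17 LD3_c13)) = (LP (LK LD1_c20 LD2_c13 LD3_c18)) :=
  Lre_g IH (LK LD1_c11 LD2_c17 LD3_c13) (LK LD1_c20 LD2_c13 LD3_c18) Lrfl Lrfl
theorem f644638 : Led Lsl_gf (LP (LK LD1_c11 LD2_c17 LD3_c43)) = (LP (LK LD1_c20 LD2_c13 LD3_c18)) :=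
  Lgr Lrot76 (Lpr_af (f644631 IH) (Lpe (f644603 IH) (Lpr_gt (f381906 IH) (Lpn (LP (LK LD1_c20 LD2_c13 LD3_c18))))))
theorem f381233 : Led Lsl_gt (LP (LK LD1_c9 LD2_c45 LD3_c39)) = (LP (LK LD1_c17 LD2_c55 LD3_c15)) :=
  Lre_g IH (LK LD1_c9 LD2_c45 LD3_c39) (LK LD1_c17 LD2_c55 LD3_c15) Lrfl Lrfl
theorem f745214 : Led Lsl_cf (LP (LK LD1_c20 LD2_c13 LD3_c18)) = (LP (LK LD1_c17 LD2_c55 LD3_c15)) :=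
  Lgr Lrot169 (Lpe (f644638 IH) (Lpr_ct (f542557 IH) (Lpe (K68.f542559 IH) (Lpe (K55.f542546 IH) (Lpr_gf (f542554 IH) (Lpr_cf (K55.f745206 IH) (Lpr_gf (K52.f698965 IH) (Lpr_df (K44.f580373 IH) (Lpr_gt (f381233 IH) (Lpn (LP (LK LD1_c17 LD2_c55 LD3_c15))))))))))))
theorem f319879 : Led Lsl_gf (LP (LK LD1_c8 LD2_c58 LD3_c29)) = (LP (LK LD1_c5 LD2_c33 LD3_c20)) :=
  Lgr Lrot47 (Lpr_gt (K55.f319878 IH) (Lpr_af (K20.f319867 IH) (Lpe (K40.f225736 IH) (Lpn (LP (LK LD1_c5 LD2_c33 LD3_c20))))))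
theorem f745222 : Led Lsl_bf (LP (LK LD1_c11 LD2_c12 LD3_c31)) = (LP (LK LD1_c17 LD2_c55 LD3_c15)) :=
  Lgr Lrot156 (Lpe (K56.f613367 IH) (Lpe (K24.f225768 IH) (Lpe (K40.f225738 IH) (Lpe (f319879 IH) (Lpqs (K55.f743442 IH) (Lpe (K52.f698461 IH) (Lpr_bt (K55.f501086 IH) (Lpq (K55.f740259 IH) (Lpe (K55.f738328 IH) (Lpr_ct (f381905 IH) (Lpr_gt (f381906 IH) (Lpr_cf (f745214 IH) (Lpn (LP (LK LD1_c17 LD2_c55 LD3_c15)))))))))))))))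
theorem f745224 : Led Lsl_bt (LP (LK LD1_c11 LD2_c12 LD3_c31)) = (LP (LK LD1_c17 LD2_c55 LD3_c15)) :=
  Lgr Lrot127 (Lpr_bf (f745222 IH) (Lpn (LP (LK LD1_c17 LD2_c55 LD3_c15))))
theorem f750955 : Led Lsl_ff (LP (LK LD1_c11 LD2_c12 LD3_c41)) = (LP (LK LD1_c17 LD2_c55 LD3_c15)) :=
  Lgr Lrot25 (Lpr_bt (K74.f225803 IH) (Lpr_ft (K55.f737818 IH) (Lpqs (K56.f750948 IH) (Lpr_bt (f745224 IH) (Lpn (LP (LK LD1_c17 LD2_c55 LD3_c15)))))))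
theorem f750959 : Led Lsl_ft (LP (LK LD1_c11 LD2_c12 LD3_c41)) = (LP (LK LD1_c17 LD2_c55 LD3_c15)) :=
  Lgr Lrot48 (Lpr_ff (f750955 IH) (Lpn (LP (LK LD1_c17 LD2_c55 LD3_c15))))
theorem f750965 : Led Lsl_ff (LP (LK LD1_c11 LD2_c17 LD3_c41)) = (LP (LK LD1_c20 LD2_c13 LD3_c18)) :=
  Lgr Lrot23 (Lpr_ct (f714349 IH) (Lpr_ft (f750959 IH) (Lpe (f745214 IH) (Lpn (LP (LK LD1_c20 LD2_c13 LD3_c18))))))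
theorem f644640 : Led Lsl_gt (LP (LK LD1_c11 LD2_c17 LD3_c43)) = (LP (LK LD1_c20 LD2_c13 LD3_c19)) :=
  Lre_g IH (LK LD1_c11 LD2_c17 LD3_c43) (LK LD1_c20 LD2_c13 LD3_c19) Lrfl Lrfl
theorem f750967 : Led Lsl_at (LP (LK LD1_c11 LD2_c17 LD3_c41)) = (LP (LK LD1_c20 LD2_c13 LD3_c19)) :=
  Lgr Lrot26 (Lpr_ff (f750965 IH) (Lpe (f644638 IH) (Lpr_gt (f644640 IH) (Lpn (LP (LK LD1_c20 LD2_c13 LD3_c19))))))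
theorem f750969 : Led Lsl_af (LP (LK LD1_c11 LD2_c17 LD3_c41)) = (LP (LK LD1_c20 LD2_c13 LD3_c19)) :=
  Lgr Lrot0 (Lpr_at (f750967 IH) (Lpn (LP (LK LD1_c20 LD2_c13 LD3_c19))))
theorem f751007 : Led Lsl_ft (LP (LK LD1_c11 LD2_c17 LD3_c40)) = (LP (LK LD1_c20 LD2_c13 LD3_c19)) :=
  Lgr Lrot2 (Lpr_gt (f644634 IH) (Lpe (K74.f644629 IH) (Lpr_af (f750969 IH) (Lpn (LP (LK LD1_c20 LD2_c13 LD3_c19))))))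
theorem f751013 : Led Lsl_ff (LP (LK LD1_c11 LD2_c17 LD3_c40)) = (LP (LK LD1_c20 LD2_c13 LD3_c19)) :=
  Lgr Lrot3 (Lpr_ft (f751007 IH) (Lpn (LP (LK LD1_c20 LD2_c13 LD3_c19))))
theorem f644636 : Led Lsl_ct (LP (LK LD1_c11 LD2_c17 LD3_c40)) = (LP (LK LD1_c20 LD2_c13 LD3_c49)) :=
  Lre_c IH (LK LD1_c11 LD2_c17 LD3_c40) (LK LD1_c20 LD2_c13 LD3_c49) Lrfl Lrfl
theorem f580173 : Led Lsl_ft (LP (LK LD1_c20 LD2_c22 LD3_c17)) = (LP (LK LD1_c11 LD2_c24 LD3_c34)) :=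
  Lre_f IH (LK LD1_c20 LD2_c22 LD3_c17) (LK LD1_c11 LD2_c24 LD3_c34) Lrfl Lrfl
theorem f381232 : Led Lsl_ft (LP (LK LD1_c9 LD2_c45 LD3_c39)) = (LP (LK LD1_c17 LD2_c55 LD3_c17)) :=
  Lre_f IH (LK LD1_c9 LD2_c45 LD3_c39) (LK LD1_c17 LD2_c55 LD3_c17) Lrfl Lrfl
theorem f580174 : Led Lsl_af (LP (LK LD1_c20 LD2_c22 LD3_c17)) = (LP (LK LD1_c17 LD2_c55 LD3_c17)) :=
  Lgr Lrot45 (Lpr_ft (f580173 IH) (Lpr_at (K44.f580167 IH) (Lpr_ft (f381232 IH) (Lpn (LP (LK LD1_c17 LD2_c55 LD3_c17))))))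
theorem f580180 : Led Lsl_gf (LP (LK LD1_c20 LD2_c22 LD3_c17)) = (LP (LK LD1_c17 LD2_c55 LD3_c15)) :=
  Lgr Lrot76 (Lpr_af (f580174 IH) (Lpe (f381232 IH) (Lpr_gt (f381233 IH) (Lpn (LP (LK LD1_c17 LD2_c55 LD3_c15))))))
theorem f381234 : Led Lsl_gt (LP (LK LD1_c17 LD2_c55 LD3_c16)) = (LP (LK LD1_c9 LD2_c45 LD3_c39)) :=
  Lre_g IH (LK LD1_c17 LD2_c55 LD3_c16) (LK LD1_c9 LD2_c45 LD3_c39) Lrfl Lrfl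
theorem f580176 : Led Lsl_gt (LP (LK LD1_c20 LD2_c22 LD3_c17)) = (LP (LK LD1_c17 LD2_c55 LD3_c16)) :=
  Lgr Lrot5 (Lpr_ft (f580173 IH) (Lpr_at (K44.f580167 IH) (Lpe (f381234 IH) (Lpn (LP (LK LD1_c17 LD2_c55 LD3_c16))))))
theorem f750961 : Led Lsl_at (LP (LK LD1_c11 LD2_c12 LD3_c41)) = (LP (LK LD1_c17 LD2_c55 LD3_c16)) :=
  Lgr Lrot26 (Lpr_ff (f750955 IH) (Lpe (f580180 IH) (Lpr_gt (f580176 IH) (Lpn (LP (LK LD1_c17 LD2_c55 LD3_c16))))))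
theorem f750963 : Led Lsl_af (LP (LK LD1_c11 LD2_c12 LD3_c41)) = (LP (LK LD1_c17 LD2_c55 LD3_c16)) :=
  Lgr Lrot0 (Lpr_at (f750961 IH) (Lpn (LP (LK LD1_c17 LD2_c55 LD3_c16))))
theorem f750971 : Led Lsl_cf (LP (LK LD1_c17 LD2_c55 LD3_c16)) = (LP (LK LD1_c20 LD2_c13 LD3_c19)) :=
  Lgr Lrot1 (Lpe (f750963 IH) (Lpe (K74.f714341 IH) (Lpr_at (f750967 IH) (Lpn (LP (LK LD1_c20 LD2_c13 LD3_c19))))))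
theorem f751005 : Led Lsl_ct (LP (LK LD1_c17 LD2_c55 LD3_c16)) = (LP (LK LD1_c20 LD2_c13 LD3_c19)) :=
  Lgr Lrot59 (Lpr_cf (f750971 IH) (Lpn (LP (LK LD1_c20 LD2_c13 LD3_c19))))
theorem f751017 : Led Lsl_ft (LP (LK LD1_c20 LD2_c13 LD3_c49)) = (LP (LK LD1_c17 LD2_c55 LD3_c16)) :=
  Lgr Lrot4 (Lpe (f644636 IH) (Lpr_ff (f751013 IH) (Lpe (f751005 IH) (Lpn (LP (LK LD1_c17 LD2_c55 LD3_c16))))))
theorem f751019 : Led Lsl_af (LP (LK LD1_c20 LD2_c13 LD3_c49)) = (LP (LK LD1_c17 LD2_c55 LD3_c15)) :=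
  Lgr Lrot45 (Lpr_ft (f751017 IH) (Lpe (f750963 IH) (Lpr_ft (f750959 IH) (Lpn (LP (LK LD1_c17 LD2_c55 LD3_c15))))))
theorem f902186 : Led Lsl_gf (LP (LK LD1_c11 LD2_c24 LD3_c34)) = (LP (LK LD1_c11 LD2_c12 LD3_c41)) :=
  Lgr Lrot47 (Lpr_gt (f902184 IH) (Lpr_af (f751019 IH) (Lpe (f750959 IH) (Lpn (LP (LK LD1_c11 LD2_c12 LD3_c41))))))
theorem f714348 : Led Lsl_bt (LP (LK LD1_c5 LD2_c41 LD3_c4)) = (LP (LK LD1_c11 LD2_c12 LD3_c41)) :=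
  Lre_b IH (LK LD1_c5 LD2_c41 LD3_c4) (LK LD1_c11 LD2_c12 LD3_c41) Lrfl Lrfl
theorem f960926 : v47138 = v15516 :=
  (Llr Lrot65 (Lpr_gf (f960925 IH) (Lpe (f960923 IH) (Lpe (f580449 IH) (Lpr_gf (f644789 IH) (Lpr_bf (K54.f507696 IH) (Lpr_ct (f507698 IH) (Lpe (f740379 IH) (Lpe (f619324 IH) (Lpr_gf (f902186 IH) (Lpe (f714348 IH) (Lpr_ct (f737832 IH) (Lpn v15516))))))))))))).symm
def v47137 : LQ := Led Lsl_gt (LP (LK LD1_c11 LD2_c15 LD3_c2))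
theorem f957066 : Led Lsl_gt (LP (LK LD1_c11 LD2_c15 LD3_c2)) = v47137 :=
  Lrfl
theorem f960927 : v15512 = v47137 :=
  (Llr Lrot26 (Lpr_af (f955713 IH) (Lpe (f955717 IH) (Lpq (f960926 IH) (Lpe (f957067 IH) (Lpr_gt (f957066 IH) (Lpn v47137))))))).symm
theorem f645000 : Led Lsl_bt (LP (LK LD1_c9 LD2_c45 LD3_c45)) = (LP (LK LD1_c17 LD2_c55 LD3_c14)) :=
  Lre_b IH (LK LD1_c9 LD2_c45 LD3_c45) (LK LD1_c17 LD2_c55 LD3_c14) Lrfl Lrfl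
theorem f960929 : v46902 = (LP (LK LD1_c17 LD2_c55 LD3_c14)) :=
  (Llr Lrot164 (Lpe (f955756 IH) (Lpe (f737817 IH) (Lpr_ct (f737820 IH) (Lpqs (f960927 IH) (Lpe (f957066 IH) (Lpe (K37.f68741 IH) (Lpe (K69.f68749 IH) (Lpr_bf (f747767 IH) (Lpr_ct (f957984 IH) (Lpe (f957987 IH) (Lpe (f644397 IH) (Lpr_bt (f645000 IH) (Lpn (LP (LK LD1_c17 LD2_c55 LD3_c14)))))))))))))))).symm
theorem f960930 : Led Lsl_gt (LP (LK LD1_c11 LD2_c12 LD3_c40)) = (LP (LK LD1_c17 LD2_c55 LD3_c14)) :=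
  Leop (Lpq (f960929 IH) (Lpe (f955756 IH) (Lpn (LP (LK LD1_c11 LD2_c12 LD3_c40)))))
theorem seed_2829 : LEOK LG_g (LK LD1_c11 LD2_c12 LD3_c40) :=
  Leoe_g (LK LD1_c11 LD2_c12 LD3_c40) (f960930 IH)
def v47959 : LQ := Led Lsl_gt (LP (LK LD1_c11 LD2_c24 LD3_c6))
theorem f960958 : Led Lsl_gt (LP (LK LD1_c11 LD2_c24 LD3_c6)) = v47959 :=
  Lrfl
def v40088 : LQ := Led Lsl_gt (LP (LK LD1_c9 LD2_c31 LD3_c54))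
theorem f913308 : Led Lsl_gt (LP (LK LD1_c9 LD2_c31 LD3_c54)) = v40088 :=
  Lrfl
theorem f913310 : Led Lsl_ft (LP (LK LD1_c9 LD2_c31 LD3_c54)) = (LP (LK LD1_c17 LD2_c33 LD3_c55)) :=
  Lre_f IH (LK LD1_c9 LD2_c31 LD3_c54) (LK LD1_c17 LD2_c33 LD3_c55) Lrfl Lrfl
theorem f913311 : Led Lsl_at (LP (LK LD1_c17 LD2_c33 LD3_c55)) = (LP (LK LD1_c9 LD2_c31 LD3_c55)) :=
  Lre_a IH (LK LD1_c17 LD2_c33 LD3_c55) (LK LD1_c9 LD2_c31 LD3_c55) Lrfl Lrfl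
theorem f913312 : Led Lsl_gf (LP (LK LD1_c9 LD2_c31 LD3_c55)) = v40088 :=
  Lgr Lrot76 (Lpe (f913311 IH) (Lpe (f913310 IH) (Lpr_gt (f913308 IH) (Lpn v40088))))
theorem f617078 : Led Lsl_gt (LP (LK LD1_c9 LD2_c31 LD3_c55)) = (LP (LK LD1_c4 LD2_c49 LD3_c38)) :=
  Lre_g IH (LK LD1_c9 LD2_c31 LD3_c55) (LK LD1_c4 LD2_c49 LD3_c38) Lrfl Lrfl
theorem f705549 : Led Lsl_at (LP (LK LD1_c9 LD2_c31 LD3_c56)) = (LP (LK LD1_c4 LD2_c49 LD3_c38)) :=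
  Lre_a IH (LK LD1_c9 LD2_c31 LD3_c56) (LK LD1_c4 LD2_c49 LD3_c38) Lrfl Lrfl
theorem f913320 : Led Lsl_ff (LP (LK LD1_c9 LD2_c31 LD3_c56)) = v40088 :=
  Lgr Lrot52 (Lpr_at (f705549 IH) (Lpe (f617078 IH) (Lpr_gf (f913312 IH) (Lpn v40088))))
theorem f913326 : Led Lsl_dt (LP (LK LD1_c9 LD2_c31 LD3_c56)) = (LP (LK LD1_c17 LD2_c33 LD3_c60)) :=
  Lre_d IH (LK LD1_c9 LD2_c31 LD3_c56) (LK LD1_c17 LD2_c33 LD3_c60) Lrfl Lrfl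
theorem f73101 : Led Lsl_ft (LP (LK LD1_c17 LD2_c33 LD3_c60)) = (LP (LK LD1_c12 LD2_c4 LD3_c12)) :=
  Lre_f IH (LK LD1_c17 LD2_c33 LD3_c60) (LK LD1_c12 LD2_c4 LD3_c12) Lrfl Lrfl
theorem f913327 : Led Lsl_dt (LP (LK LD1_c12 LD2_c4 LD3_c12)) = v40088 :=
  Lgr Lrot60 (Lpe (f73101 IH) (Lpe (f913326 IH) (Lpr_ff (f913320 IH) (Lpn v40088))))
theorem f913313 : Led Lsl_dt (LP (LK LD1_c17 LD2_c33 LD3_c53)) = (LP (LK LD1_c9 LD2_c31 LD3_c54)) :=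
  Lre_d IH (LK LD1_c17 LD2_c33 LD3_c53) (LK LD1_c9 LD2_c31 LD3_c54) Lrfl Lrfl
theorem f913319 : Led Lsl_et (LP (LK LD1_c17 LD2_c33 LD3_c53)) = (LP (LK LD1_c27 LD2_c22 LD3_c28)) :=
  Lre_e IH (LK LD1_c17 LD2_c33 LD3_c53) (LK LD1_c27 LD2_c22 LD3_c28) Lrfl Lrfl
theorem f617019 : Led Lsl_df (LP (LK LD1_c29 LD2_c19 LD3_c53)) = (LP (LK LD1_c20 LD2_c11 LD3_c25)) :=
  Lgr Lrot38 (Lpr_dt (K52.f617017 IH) (Lpn (LP (LK LD1_c20 LD2_c11 LD3_c25))))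
theorem f553706 : Led Lsl_bt (LP (LK LD1_c9 LD2_c0 LD3_c17)) = (LP (LK LD1_c16 LD2_c49 LD3_c43)) :=
  Lre_b IH (LK LD1_c9 LD2_c0 LD3_c17) (LK LD1_c16 LD2_c49 LD3_c43) Lrfl Lrfl
theorem f601834 : Led Lsl_ft (LP (LK LD1_c5 LD2_c40 LD3_c8)) = (LP (LK LD1_c9 LD2_c0 LD3_c17)) :=
  Lgr Lrot75 (Lpe (K51.f354473 IH) (Lpr_ff (K51.f601829 IH) (Lpe (f553706 IH) (Lpn (LP (LK LD1_c9 LD2_c0 LD3_c17))))))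
theorem f450582 : Led Lsl_ff (LP (LK LD1_c2 LD2_c46 LD3_c32)) = (LP (LK LD1_c4 LD2_c31 LD3_c54)) :=
  Lgr Lrot30 (Lpr_at (K40.f450580 IH) (Lpr_ft (K36.f449270 IH) (Lpe (K36.f449272 IH) (Lpn (LP (LK LD1_c4 LD2_c31 LD3_c54))))))
theorem f549384 : Led Lsl_ft (LP (LK LD1_c5 LD2_c40 LD3_c7)) = (LP (LK LD1_c9 LD2_c0 LD3_c16)) :=
  Lgr Lrot4 (Lpe (K39.f549382 IH) (Lpr_ff (f450582 IH) (Lpr_cf (K39.f549375 IH) (Lpn (LP (LK LD1_c9 LD2_c0 LD3_c16))))))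
theorem f553542 : Led Lsl_af (LP (LK LD1_c5 LD2_c40 LD3_c8)) = (LP (LK LD1_c9 LD2_c0 LD3_c16)) :=
  Lgr Lrot31 (Lpr_gf (K36.f538923 IH) (Lpr_gf (K39.f553538 IH) (Lpr_ft (f549384 IH) (Lpn (LP (LK LD1_c9 LD2_c0 LD3_c16))))))
theorem f601876 : Led Lsl_af (LP (LK LD1_c5 LD2_c40 LD3_c7)) = (LP (LK LD1_c9 LD2_c0 LD3_c17)) :=
  Lgr Lrot45 (Lpr_ft (f549384 IH) (Lpe (f553542 IH) (Lpr_ft (f601834 IH) (Lpn (LP (LK LD1_c9 LD2_c0 LD3_c17))))))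
theorem f601878 : Led Lsl_at (LP (LK LD1_c5 LD2_c40 LD3_c7)) = (LP (LK LD1_c9 LD2_c0 LD3_c17)) :=
  Lgr Lrot100 (Lpr_af (f601876 IH) (Lpn (LP (LK LD1_c9 LD2_c0 LD3_c17))))
theorem f553741 : Led Lsl_ft (LP (LK LD1_c9 LD2_c0 LD3_c17)) = (LP (LK LD1_c5 LD2_c40 LD3_c8)) :=
  Lgr Lrot4 (Lpe (K39.f549371 IH) (Lpr_ff (K36.f449266 IH) (Lpr_cf (K39.f553734 IH) (Lpn (LP (LK LD1_c5 LD2_c40 LD3_c8))))))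
theorem f449216 : Led Lsl_af (LP (LK LD1_c2 LD2_c46 LD3_c32)) = (LP (LK LD1_c4 LD2_c31 LD3_c55)) :=
  Lgr Lrot117 (Lpr_dt (K10.f60181 IH) (Lpr_at (K36.f449212 IH) (Lpr_dt (K11.f27011 IH) (Lpn (LP (LK LD1_c4 LD2_c31 LD3_c55))))))
theorem f449268 : Led Lsl_at (LP (LK LD1_c4 LD2_c31 LD3_c54)) = (LP (LK LD1_c2 LD2_c46 LD3_c30)) :=
  Lgr Lrot66 (Lpe (K69.f449210 IH) (Lpr_af (f449216 IH) (Lpr_ff (K36.f449266 IH) (Lpn (LP (LK LD1_c2 LD2_c46 LD3_c30))))))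
theorem f549378 : Led Lsl_at (LP (LK LD1_c5 LD2_c40 LD3_c8)) = (LP (LK LD1_c9 LD2_c0 LD3_c16)) :=
  Lgr Lrot107 (Lpe (K36.f538921 IH) (Lpe (f449268 IH) (Lpr_cf (K39.f549375 IH) (Lpn (LP (LK LD1_c9 LD2_c0 LD3_c16))))))
theorem f601896 : Led Lsl_ff (LP (LK LD1_c5 LD2_c40 LD3_c7)) = (LP (LK LD1_c9 LD2_c0 LD3_c16)) :=
  Lgr Lrot30 (Lpr_at (f601878 IH) (Lpr_ft (f553741 IH) (Lpr_at (f549378 IH) (Lpn (LP (LK LD1_c9 LD2_c0 LD3_c16))))))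
theorem f549567 : Led Lsl_bt (LP (LK LD1_c5 LD2_c40 LD3_c7)) = (LP (LK LD1_c11 LD2_c11 LD3_c1)) :=
  Lre_b IH (LK LD1_c5 LD2_c40 LD3_c7) (LK LD1_c11 LD2_c11 LD3_c1) Lrfl Lrfl
theorem f354403 : Led Lsl_bt (LP (LK LD1_c16 LD2_c49 LD3_c42)) = (LP (LK LD1_c9 LD2_c0 LD3_c16)) :=
  Lre_b IH (LK LD1_c16 LD2_c49 LD3_c42) (LK LD1_c9 LD2_c0 LD3_c16) Lrfl Lrfl
theorem f601898 : Led Lsl_ft (LP (LK LD1_c11 LD2_c11 LD3_c1)) = (LP (LK LD1_c16 LD2_c49 LD3_c42)) :=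
  Lgr Lrot75 (Lpe (f549567 IH) (Lpr_ff (f601896 IH) (Lpe (f354403 IH) (Lpn (LP (LK LD1_c16 LD2_c49 LD3_c42))))))
theorem f601903 : Led Lsl_ff (LP (LK LD1_c11 LD2_c11 LD3_c1)) = (LP (LK LD1_c16 LD2_c49 LD3_c42)) :=
  Lgr Lrot3 (Lpr_ft (f601898 IH) (Lpn (LP (LK LD1_c16 LD2_c49 LD3_c42))))
theorem f495773 : Led Lsl_df (LP (LK LD1_c16 LD2_c49 LD3_c42)) = (LP (LK LD1_c11 LD2_c11 LD3_c3)) :=
  Lgr Lrot12 (Lpr_bt (f354403 IH) (Lpr_dt (K30.f495770 IH) (Lpr_bt (K51.f495772 IH) (Lpn (LP (LK LD1_c11 LD2_c11 LD3_c3))))))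
theorem f601905 : Led Lsl_dt (LP (LK LD1_c11 LD2_c11 LD3_c1)) = (LP (LK LD1_c16 LD2_c49 LD3_c43)) :=
  Lgr Lrot60 (Lpr_ff (f601903 IH) (Lpr_df (f495773 IH) (Lpr_ff (K51.f601829 IH) (Lpn (LP (LK LD1_c16 LD2_c49 LD3_c43))))))
def v46734 : LQ := Led Lsl_gf (LP (LK LD1_c11 LD2_c11 LD3_c1))
theorem f954971 : Led Lsl_gf (LP (LK LD1_c11 LD2_c11 LD3_c1)) = v46734 :=
  Lrfl
theorem f960960 : Led Lsl_df v46734 = v47959 :=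
  Lgr Lrot153 (Lpe (f954971 IH) (Lpr_dt (f601905 IH) (Lpr_cf (K51.f549423 IH) (Lpe (K52.f271563 IH) (Lpe (K52.f271564 IH) (Lpr_df (f617019 IH) (Lpe (K68.f616995 IH) (Lpe (K51.f73082 IH) (Lpr_gt (f960958 IH) (Lpn v47959))))))))))
theorem f495778 : Led Lsl_bt (LP (LK LD1_c9 LD2_c0 LD3_c16)) = (LP (LK LD1_c16 LD2_c49 LD3_c42)) :=
  Lre_b IH (LK LD1_c9 LD2_c0 LD3_c16) (LK LD1_c16 LD2_c49 LD3_c42) Lrfl Lrfl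
theorem f495779 : Led Lsl_dt (LP (LK LD1_c16 LD2_c49 LD3_c42)) = (LP (LK LD1_c11 LD2_c11 LD3_c3)) :=
  Lgr Lrot79 (Lpe (f495778 IH) (Lpr_df (K39.f495775 IH) (Lpe (K51.f354473 IH) (Lpn (LP (LK LD1_c11 LD2_c11 LD3_c3))))))
theorem f601900 : Led Lsl_df (LP (LK LD1_c11 LD2_c11 LD3_c1)) = (LP (LK LD1_c16 LD2_c49 LD3_c43)) :=
  Lgr Lrot78 (Lpr_ft (f601898 IH) (Lpr_dt (f495779 IH) (Lpr_ft (K51.f601837 IH) (Lpn (LP (LK LD1_c16 LD2_c49 LD3_c43))))))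
theorem f601846 : Led Lsl_et (LP (LK LD1_c16 LD2_c49 LD3_c43)) = (LP (LK LD1_c26 LD2_c47 LD3_c2)) :=
  Lre_e IH (LK LD1_c16 LD2_c49 LD3_c43) (LK LD1_c26 LD2_c47 LD3_c2) Lrfl Lrfl
theorem f960961 : Led Lsl_gf (LP (LK LD1_c27 LD2_c22 LD3_c28)) = (LP (LK LD1_c26 LD2_c47 LD3_c2)) :=
  Lgr Lrot141 (Lpe (f913319 IH) (Lpr_dt (f913313 IH) (Lpr_gt (f913308 IH) (Lpe (f913327 IH) (Lpe (K57.f73084 IH) (Lpr_gt (f960958 IH) (Lpe (f960960 IH) (Lpe (f954971 IH) (Lpr_df (f601900 IH) (Lpr_et (f601846 IH) (Lpn (LP (LK LD1_c26 LD2_c47 LD3_c2)))))))))))))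
theorem f960962 : Led Lsl_gt (LP (LK LD1_c26 LD2_c47 LD3_c2)) = (LP (LK LD1_c27 LD2_c22 LD3_c28)) :=
  Leop (Lpr_gf (f960961 IH) (Lpn (LP (LK LD1_c26 LD2_c47 LD3_c2))))
theorem seed_2830 : LEOK LG_g (LK LD1_c26 LD2_c47 LD3_c2) :=
  Leoe_g (LK LD1_c26 LD2_c47 LD3_c2) (f960962 IH)
def v47982 : LQ := Led Lsl_gf (LP (LK LD1_c11 LD2_c24 LD3_c35))
theorem f961055 : Led Lsl_gf (LP (LK LD1_c11 LD2_c24 LD3_c35)) = v47982 :=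
  Lrfl
theorem f268939 : Led Lsl_ct (LP (LK LD1_c5 LD2_c41 LD3_c59)) = (LP (LK LD1_c11 LD2_c14 LD3_c8)) :=
  Lre_c IH (LK LD1_c5 LD2_c41 LD3_c59) (LK LD1_c11 LD2_c14 LD3_c8) Lrfl Lrfl
theorem f961057 : Led Lsl_bt (LP (LK LD1_c20 LD2_c6 LD3_c51)) = v47982 :=
  Lgr Lrot130 (Lpr_ct (K74.f956046 IH) (Lpe (K74.f268978 IH) (Lpe (f268939 IH) (Lpr_bt (K16.f268931 IH) (Lpr_gf (K74.f281855 IH) (Lpe (K74.f281858 IH) (Lpr_ct (K74.f281860 IH) (Lpr_gf (K74.f956177 IH) (Lpr_cf (K74.f580148 IH) (Lpr_gf (f961055 IH) (Lpn v47982)))))))))))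
theorem f956139 : Led Lsl_ff K74.v46850 = (LP (LK LD1_c20 LD2_c0 LD3_c13)) :=
  Lgr Lrot3 (Lpr_ft (K74.f956132 IH) (Lpn (LP (LK LD1_c20 LD2_c0 LD3_c13))))
theorem f956140 : Led Lsl_ft (LP (LK LD1_c26 LD2_c49 LD3_c27)) = (LP (LK LD1_c20 LD2_c11 LD3_c21)) :=
  Lgr Lrot4 (Lpr_cf (K74.f955561 IH) (Lpr_ff (f956139 IH) (Lpr_cf (K74.f402607 IH) (Lpn (LP (LK LD1_c20 LD2_c11 LD3_c21))))))
theorem f566531 : Led Lsl_ct (LP (LK LD1_c26 LD2_c49 LD3_c10)) = (LP (LK LD1_c16 LD2_c52 LD3_c5)) :=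
  Lre_c IH (LK LD1_c26 LD2_c49 LD3_c10) (LK LD1_c16 LD2_c52 LD3_c5) Lrfl Lrfl
theorem f897579 : Led Lsl_af (LP (LK LD1_c9 LD2_c2 LD3_c10)) = K69.v37915 :=
  Lgr Lrot45 (Lpr_ft (K69.f897571 IH) (Lpe (K69.f897570 IH) (Lpr_ft (K69.f897578 IH) (Lpn K69.v37915))))
theorem f281851 : Led Lsl_ct (LP (LK LD1_c9 LD2_c2 LD3_c10)) = (LP (LK LD1_c16 LD2_c52 LD3_c24)) :=
  Lre_c IH (LK LD1_c9 LD2_c2 LD3_c10) (LK LD1_c16 LD2_c52 LD3_c24) Lrfl Lrfl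
theorem f897890 : Led Lsl_af (LP (LK LD1_c26 LD2_c49 LD3_c10)) = (LP (LK LD1_c16 LD2_c52 LD3_c24)) :=
  Lgr Lrot68 (Lpr_ct (f566531 IH) (Lpq (K69.f897715 IH) (Lpe (f897579 IH) (Lpr_ct (f281851 IH) (Lpn (LP (LK LD1_c16 LD2_c52 LD3_c24)))))))
theorem f897892 : Led Lsl_at (LP (LK LD1_c26 LD2_c49 LD3_c10)) = (LP (LK LD1_c16 LD2_c52 LD3_c24)) :=
  Lgr Lrot100 (Lpr_af (f897890 IH) (Lpn (LP (LK LD1_c16 LD2_c52 LD3_c24))))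
theorem f615835 : Led Lsl_ct (LP (LK LD1_c16 LD2_c52 LD3_c22)) = (LP (LK LD1_c9 LD2_c2 LD3_c9)) :=
  Lre_c IH (LK LD1_c16 LD2_c52 LD3_c22) (LK LD1_c9 LD2_c2 LD3_c9) Lrfl Lrfl
theorem f566528 : Led Lsl_ct (LP (LK LD1_c16 LD2_c52 LD3_c5)) = (LP (LK LD1_c26 LD2_c49 LD3_c10)) :=
  Lre_c IH (LK LD1_c16 LD2_c52 LD3_c5) (LK LD1_c26 LD2_c49 LD3_c10) Lrfl Lrfl
theorem f897720 : Led Lsl_ff (LP (LK LD1_c16 LD2_c52 LD3_c22)) = (LP (LK LD1_c26 LD2_c49 LD3_c10)) :=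
  Lgr Lrot23 (Lpr_ct (f615835 IH) (Lpr_ft (K69.f897578 IH) (Lpqs (K69.f897715 IH) (Lpr_ct (f566528 IH) (Lpn (LP (LK LD1_c26 LD2_c49 LD3_c10)))))))
theorem f897888 : Led Lsl_ft (LP (LK LD1_c16 LD2_c52 LD3_c22)) = (LP (LK LD1_c26 LD2_c49 LD3_c10)) :=
  Lgr Lrot48 (Lpr_ff (f897720 IH) (Lpn (LP (LK LD1_c26 LD2_c49 LD3_c10))))
theorem f897894 : Led Lsl_gt (LP (LK LD1_c26 LD2_c49 LD3_c27)) = (LP (LK LD1_c16 LD2_c52 LD3_c24)) :=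
  Lgr Lrot46 (Lpe (K74.f615834 IH) (Lpr_ft (f897888 IH) (Lpr_at (f897892 IH) (Lpn (LP (LK LD1_c16 LD2_c52 LD3_c24))))))
theorem f956149 : Led Lsl_gt (LP (LK LD1_c16 LD2_c52 LD3_c24)) = (LP (LK LD1_c20 LD2_c21 LD3_c42)) :=
  Lgr Lrot46 (Lpe (f897894 IH) (Lpr_ft (f956140 IH) (Lpe (K74.f589295 IH) (Lpn (LP (LK LD1_c20 LD2_c21 LD3_c42))))))
theorem f589297 : Led Lsl_at (LP (LK LD1_c20 LD2_c21 LD3_c42)) = (LP (LK LD1_c20 LD2_c11 LD3_c21)) :=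
  Lgr Lrot100 (Lpr_af (K74.f589295 IH) (Lpn (LP (LK LD1_c20 LD2_c11 LD3_c21))))
theorem f589385 : Led Lsl_cf (LP (LK LD1_c20 LD2_c21 LD3_c42)) = (LP (LK LD1_c17 LD2_c54 LD3_c57)) :=
  Lgr Lrot1 (Lpr_at (f589297 IH) (Lpe (K74.f402607 IH) (Lpe (K74.f589293 IH) (Lpn (LP (LK LD1_c17 LD2_c54 LD3_c57))))))
theorem f495877 : Led Lsl_gt (LP (LK LD1_c9 LD2_c45 LD3_c21)) = (LP (LK LD1_c17 LD2_c54 LD3_c61)) :=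
  Lre_g IH (LK LD1_c9 LD2_c45 LD3_c21) (LK LD1_c17 LD2_c54 LD3_c61) Lrfl Lrfl
theorem f956153 : Led Lsl_bt (LP (LK LD1_c20 LD2_c8 LD3_c60)) = (LP (LK LD1_c17 LD2_c54 LD3_c61)) :=
  Lgr Lrot92 (Lpr_ct (K74.f281850 IH) (Lpr_gt (K74.f281849 IH) (Lpe (K69.f281834 IH) (Lpr_bt (K16.f281832 IH) (Lpr_gt (K51.f281845 IH) (Lpr_ct (f281851 IH) (Lpr_gt (f956149 IH) (Lpr_cf (f589385 IH) (Lpr_bt (K74.f557346 IH) (Lpr_gt (f495877 IH) (Lpn (LP (LK LD1_c17 LD2_c54 LD3_c61)))))))))))))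
theorem f956156 : Led Lsl_bf (LP (LK LD1_c20 LD2_c8 LD3_c60)) = (LP (LK LD1_c17 LD2_c54 LD3_c61)) :=
  Lgr Lrot24 (Lpr_bt (f956153 IH) (Lpn (LP (LK LD1_c17 LD2_c54 LD3_c61))))
theorem f961062 : Led Lsl_ff (LP (LK LD1_c17 LD2_c54 LD3_c61)) = v47982 :=
  Lgr Lrot25 (Lpe (f956156 IH) (Lpr_ft (K74.f956056 IH) (Lpr_bt (f961057 IH) (Lpn v47982))))
theorem f956058 : Led Lsl_af (LP (LK LD1_c20 LD2_c8 LD3_c60)) = (LP (LK LD1_c16 LD2_c51 LD3_c27)) :=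
  Lgr Lrot45 (Lpr_ft (K74.f956056 IH) (Lpr_at (K74.f737794 IH) (Lpr_ft (K74.f896738 IH) (Lpn (LP (LK LD1_c16 LD2_c51 LD3_c27))))))
def v46866 : LQ := Led Lsl_at (LP (LK LD1_c11 LD2_c12 LD3_c12))
theorem f955619 : Led Lsl_at (LP (LK LD1_c11 LD2_c12 LD3_c12)) = v46866 :=
  Lrfl
theorem f955620 : Led Lsl_af (LP (LK LD1_c11 LD2_c12 LD3_c12)) = v46866 :=
  Lgr Lrot0 (Lpr_at (f955619 IH) (Lpn v46866))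
theorem f956158 : v46866 = (LP (LK LD1_c17 LD2_c54 LD3_c61)) :=
  (Llr Lrot36 (Lpe (f955620 IH) (Lpr_bt (K74.f613349 IH) (Lpr_at (K69.f737786 IH) (Lpqs (K69.f896730 IH) (Lpr_bt (K74.f896735 IH) (Lpe (f956058 IH) (Lpr_bt (f956153 IH) (Lpn (LP (LK LD1_c17 LD2_c54 LD3_c61))))))))))).symm
def v46865 : LQ := Led Lsl_gf (LP (LK LD1_c11 LD2_c12 LD3_c12))
theorem f955618 : Led Lsl_gf (LP (LK LD1_c11 LD2_c12 LD3_c12)) = v46865 :=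
  Lrfl
theorem f961065 : v46865 = (LP (LK LD1_c11 LD2_c24 LD3_c35)) :=
  (Llr Lrot76 (Lpe (f955618 IH) (Lpr_af (f955620 IH) (Lpqs (f956158 IH) (Lpr_ff (f961062 IH) (Lpe (f961055 IH) (Lpn (LP (LK LD1_c11 LD2_c24 LD3_c35))))))))).symm
theorem f961067 : Led Lsl_gt (LP (LK LD1_c11 LD2_c24 LD3_c35)) = (LP (LK LD1_c11 LD2_c12 LD3_c12)) :=
  Leop (Lpr_gf (f955618 IH) (Lpqs (f961065 IH) (Lpn (LP (LK LD1_c11 LD2_c24 LD3_c35)))))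
theorem seed_2831 : LEOK LG_g (LK LD1_c11 LD2_c24 LD3_c35) :=
  Leoe_g (LK LD1_c11 LD2_c24 LD3_c35) (f961067 IH)
def v46868 : LQ := Led Lsl_et (LP (LK LD1_c11 LD2_c12 LD3_c12))
theorem f955623 : Led Lsl_et (LP (LK LD1_c11 LD2_c12 LD3_c12)) = v46868 :=
  Lrfl
theorem f955625 : Led Lsl_ef (LP (LK LD1_c11 LD2_c12 LD3_c12)) = v46868 :=
  Lgr Lrot88 (Lpr_et (f955623 IH) (Lpn v46868))
theorem f613583 : Led Lsl_et (LP (LK LD1_c5 LD2_c40 LD3_c50)) = (LP (LK LD1_c11 LD2_c12 LD3_c14)) :=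
  Lre_e IH (LK LD1_c5 LD2_c40 LD3_c50) (LK LD1_c11 LD2_c12 LD3_c14) Lrfl Lrfl
theorem f955626 : Led Lsl_bt (LP (LK LD1_c11 LD2_c12 LD3_c14)) = v46868 :=
  Lgr Lrot119 (Lpe (f613583 IH) (Lpe (K74.f613349 IH) (Lpr_ef (f955625 IH) (Lpn v46868))))
def v42005 : LQ := Led Lsl_bt (LP (LK LD1_c10 LD2_c4 LD3_c54))
theorem f931440 : Led Lsl_bt (LP (LK LD1_c10 LD2_c4 LD3_c54)) = v42005 :=
  Lrfl
theorem f931441 : Led Lsl_bf (LP (LK LD1_c10 LD2_c4 LD3_c54)) = v42005 :=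
  Lgr Lrot24 (Lpr_bt (f931440 IH) (Lpn v42005))
theorem f955627 : Led Lsl_df v42005 = v46868 :=
  Lgr Lrot12 (Lpe (f931441 IH) (Lpe (K69.f622478 IH) (Lpr_bt (f955626 IH) (Lpn v46868))))
theorem f961068 : v42005 = (LP (LK LD1_c18 LD2_c23 LD3_c25)) :=
  (Llr Lrot136 (Lpr_df (f955627 IH) (Lpe (f955625 IH) (Lpr_gf (f955618 IH) (Lpqs (f961065 IH) (Lpe (K74.f542183 IH) (Lpr_dt (K66.f542181 IH) (Lpe (K37.f424029 IH) (Lpe (K36.f381792 IH) (Lpr_gf (K36.f542634 IH) (Lpe (K50.f541685 IH) (Lpr_dt (K50.f541691 IH) (Lpe (K73.f541692 IH) (Lpn (LP (LK LD1_c18 LD2_c23 LD3_c25)))))))))))))))).symm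
theorem f961069 : Led Lsl_bt (LP (LK LD1_c18 LD2_c23 LD3_c25)) = (LP (LK LD1_c10 LD2_c4 LD3_c54)) :=
  Leop (Lpr_bf (f931441 IH) (Lpqs (f961068 IH) (Lpn (LP (LK LD1_c18 LD2_c23 LD3_c25)))))
theorem seed_2832 : LEOK LG_b (LK LD1_c18 LD2_c23 LD3_c25) :=
  Leoe_b (LK LD1_c18 LD2_c23 LD3_c25) (f961069 IH)
theorem f495883 : Led Lsl_et (LP (LK LD1_c16 LD2_c51 LD3_c28)) = (LP (LK LD1_c9 LD2_c1 LD3_c30)) :=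
  Lre_e IH (LK LD1_c16 LD2_c51 LD3_c28) (LK LD1_c9 LD2_c1 LD3_c30) Lrfl Lrfl
theorem f896740 : Led Lsl_af (LP (LK LD1_c16 LD2_c51 LD3_c28)) = (LP (LK LD1_c11 LD2_c12 LD3_c14)) :=
  Lgr Lrot50 (Lpr_et (f495883 IH) (Lpq (K69.f896730 IH) (Lpe (K69.f737787 IH) (Lpr_et (f613583 IH) (Lpn (LP (LK LD1_c11 LD2_c12 LD3_c14)))))))
theorem f380703 : Led Lsl_et (LP (LK LD1_c2 LD2_c12 LD3_c56)) = (LP (LK LD1_c4 LD2_c31 LD3_c50)) :=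
  Lre_e IH (LK LD1_c2 LD2_c12 LD3_c56) (LK LD1_c4 LD2_c31 LD3_c50) Lrfl Lrfl
theorem f164102 : Led Lsl_gt (LP (LK LD1_c10 LD2_c2 LD3_c44)) = (LP (LK LD1_c5 LD2_c5 LD3_c53)) :=
  Lre_g IH (LK LD1_c10 LD2_c2 LD3_c44) (LK LD1_c5 LD2_c5 LD3_c53) Lrfl Lrfl
theorem f622442 : Led Lsl_dt (LP (LK LD1_c16 LD2_c51 LD3_c28)) = (LP (LK LD1_c10 LD2_c2 LD3_c44)) :=
  Lgr Lrot136 (Lpr_et (f495883 IH) (Lpe (K69.f390229 IH) (Lpe (f380703 IH) (Lpr_dt (K30.f379940 IH) (Lpe (K30.f381684 IH) (Lpr_df (K39.f495880 IH) (Lpr_gf (K39.f553717 IH) (Lpe (K50.f354425 IH) (Lpr_dt (K50.f622430 IH) (Lpe (f164102 IH) (Lpn (LP (LK LD1_c10 LD2_c2 LD3_c44)))))))))))))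
theorem f896744 : Led Lsl_at (LP (LK LD1_c10 LD2_c2 LD3_c44)) = (LP (LK LD1_c10 LD2_c4 LD3_c54)) :=
  Lgr Lrot51 (Lpe (f622442 IH) (Lpr_af (f896740 IH) (Lpr_df (K69.f622478 IH) (Lpn (LP (LK LD1_c10 LD2_c4 LD3_c54))))))
theorem f403058 : Led Lsl_gt (LP (LK LD1_c10 LD2_c2 LD3_c45)) = (LP (LK LD1_c10 LD2_c4 LD3_c54)) :=
  Lgr Lrot5 (Lpr_ft (K53.f177361 IH) (Lpr_at (K50.f313861 IH) (Lpe (K69.f250200 IH) (Lpn (LP (LK LD1_c10 LD2_c4 LD3_c54))))))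
theorem f896748 : Led Lsl_ff (LP (LK LD1_c10 LD2_c2 LD3_c44)) = (LP (LK LD1_c10 LD2_c4 LD3_c53)) :=
  Lgr Lrot52 (Lpr_at (f896744 IH) (Lpe (f403058 IH) (Lpe (K53.f722157 IH) (Lpn (LP (LK LD1_c10 LD2_c4 LD3_c53))))))
theorem f896750 : Led Lsl_ft (LP (LK LD1_c10 LD2_c2 LD3_c44)) = (LP (LK LD1_c10 LD2_c4 LD3_c53)) :=
  Lgr Lrot48 (Lpr_ff (f896748 IH) (Lpn (LP (LK LD1_c10 LD2_c4 LD3_c53))))
theorem f896752 : Led Lsl_af (LP (LK LD1_c10 LD2_c2 LD3_c43)) = (LP (LK LD1_c10 LD2_c4 LD3_c53)) :=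
  Lgr Lrot31 (Lpe (K72.f177203 IH) (Lpe (f164102 IH) (Lpr_ft (f896750 IH) (Lpn (LP (LK LD1_c10 LD2_c4 LD3_c53))))))
theorem f896746 : Led Lsl_af (LP (LK LD1_c10 LD2_c2 LD3_c44)) = (LP (LK LD1_c10 LD2_c4 LD3_c54)) :=
  Lgr Lrot0 (Lpr_at (f896744 IH) (Lpn (LP (LK LD1_c10 LD2_c4 LD3_c54))))
theorem f896756 : Led Lsl_ft (LP (LK LD1_c10 LD2_c2 LD3_c43)) = (LP (LK LD1_c10 LD2_c4 LD3_c54)) :=
  Lgr Lrot101 (Lpr_af (f896752 IH) (Lpe (f896750 IH) (Lpr_af (f896746 IH) (Lpn (LP (LK LD1_c10 LD2_c4 LD3_c54))))))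
theorem f721833 : Led Lsl_bt (LP (LK LD1_c18 LD2_c21 LD3_c4)) = (LP (LK LD1_c10 LD2_c2 LD3_c43)) :=
  Lre_b IH (LK LD1_c18 LD2_c21 LD3_c4) (LK LD1_c10 LD2_c2 LD3_c43) Lrfl Lrfl
theorem f931442 : Led Lsl_ff (LP (LK LD1_c18 LD2_c21 LD3_c4)) = v42005 :=
  Lgr Lrot25 (Lpr_bt (f721833 IH) (Lpr_ft (f896756 IH) (Lpr_bt (f931440 IH) (Lpn v42005))))
theorem f961071 : (LP (LK LD1_c18 LD2_c21 LD3_c4)) = K73.v42881 :=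
  Lefun (Lecon (Lfl_ff (f931442 IH)) (f961068 IH)) (K73.f936648 IH)
theorem f961072 : Led Lsl_gt (LP (LK LD1_c10 LD2_c18 LD3_c19)) = (LP (LK LD1_c18 LD2_c21 LD3_c4)) :=
  Leop (Lpqs (f961071 IH) (Lpe (K73.f936643 IH) (Lpn (LP (LK LD1_c10 LD2_c18 LD3_c19)))))
theorem seed_2833 : LEOK LG_g (LK LD1_c10 LD2_c18 LD3_c19) :=
  Leoe_g (LK LD1_c10 LD2_c18 LD3_c19) (f961072 IH)
def v24928 : LQ := Led Lsl_bt K64.v5099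
theorem f826239 : Led Lsl_bt K64.v5099 = v24928 :=
  Lrfl
def v24539 : LQ := Led Lsl_bt K64.v4801
theorem f824574 : Led Lsl_bt K64.v4801 = v24539 :=
  Lrfl
theorem f824575 : Led Lsl_bf K64.v4801 = v24539 :=
  Lgr Lrot24 (Lpr_bt (f824574 IH) (Lpn v24539))
theorem f826241 : Led Lsl_df v24539 = v24928 :=
  Lgr Lrot12 (Lpe (f824575 IH) (Lpr_dt (K64.f645934 IH) (Lpr_bt (f826239 IH) (Lpn v24928))))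
theorem f826242 : Led Lsl_dt v24539 = v24928 :=
  Lgr Lrot42 (Lpr_df (f826241 IH) (Lpn v24928))
def v25048 : LQ := Led Lsl_gf K66.v5163
theorem f826733 : Led Lsl_gf K66.v5163 = v25048 :=
  Lrfl
theorem f748627 : Led Lsl_et (LP (LK LD1_c11 LD2_c40 LD3_c60)) = (LP (LK LD1_c6 LD2_c8 LD3_c0)) :=
  Lgr Lrot87 (Lpr_ef (K56.f748572 IH) (Lpn (LP (LK LD1_c6 LD2_c8 LD3_c0))))
theorem f720265 : Led Lsl_at (LP (LK LD1_c6 LD2_c8 LD3_c7)) = (LP (LK LD1_c11 LD2_c40 LD3_c60)) :=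
  Lgr Lrot66 (Lpr_ff (K56.f720257 IH) (Lpe (K53.f720261 IH) (Lpr_ff (K53.f720263 IH) (Lpn (LP (LK LD1_c11 LD2_c40 LD3_c60))))))
theorem f426236 : Led Lsl_af (LP (LK LD1_c5 LD2_c58 LD3_c3)) = (LP (LK LD1_c5 LD2_c57 LD3_c47)) :=
  Lgr Lrot31 (Lpe (K38.f387166 IH) (Lpe (K28.f163944 IH) (Lpr_ft (K56.f426233 IH) (Lpn (LP (LK LD1_c5 LD2_c57 LD3_c47))))))
theorem f586840 : Led Lsl_af (LP (LK LD1_c10 LD2_c18 LD3_c47)) = (LP (LK LD1_c6 LD2_c8 LD3_c0)) :=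
  Lgr Lrot45 (Lpr_ft (K56.f426233 IH) (Lpe (f426236 IH) (Lpr_ft (K56.f586838 IH) (Lpn (LP (LK LD1_c6 LD2_c8 LD3_c0))))))
theorem f748629 : Led Lsl_ef (LP (LK LD1_c6 LD2_c8 LD3_c7)) = (LP (LK LD1_c10 LD2_c18 LD3_c47)) :=
  Lgr Lrot20 (Lpr_at (f720265 IH) (Lpr_et (f748627 IH) (Lpe (f586840 IH) (Lpn (LP (LK LD1_c10 LD2_c18 LD3_c47))))))
theorem f752038 : Led Lsl_dt (LP (LK LD1_c10 LD2_c18 LD3_c47)) = K72.v16856 :=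
  Lgr Lrot57 (Lpe (K28.f386897 IH) (Lpe (K28.f386872 IH) (Lpr_gt (K56.f387162 IH) (Lpr_dt (K38.f308062 IH) (Lpr_gt (K32.f186693 IH) (Lpr_dt (K40.f186709 IH) (Lpe (K64.f186666 IH) (Lpr_df (K55.f722054 IH) (Lpr_gf (K72.f752036 IH) (Lpn K72.v16856))))))))))
theorem f752039 : Led Lsl_df (LP (LK LD1_c10 LD2_c18 LD3_c47)) = K72.v16856 :=
  Lgr Lrot38 (Lpr_dt (f752038 IH) (Lpn K72.v16856))
theorem f825493 : Led Lsl_ef K72.v16856 = K65.v24762 :=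
  Lgr Lrot73 (Lpe (f752039 IH) (Lpe (f748629 IH) (Lpr_dt (K70.f720253 IH) (Lpr_et (K56.f749186 IH) (Lpr_dt (K65.f825490 IH) (Lpn K65.v24762))))))
theorem f752034 : Led Lsl_bf (LP (LK LD1_c6 LD2_c7 LD3_c51)) = K72.v16856 :=
  Lgr Lrot24 (Lpr_bt (K72.f752033 IH) (Lpn K72.v16856))
def v16858 : LQ := Led Lsl_et (LP (LK LD1_c6 LD2_c7 LD3_c51))
theorem f752056 : Led Lsl_et (LP (LK LD1_c6 LD2_c7 LD3_c51)) = v16858 :=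
  Lrfl
theorem f825501 : Led Lsl_bt v16858 = K65.v24762 :=
  Lgr Lrot119 (Lpe (f752056 IH) (Lpr_bf (f752034 IH) (Lpr_ef (f825493 IH) (Lpn K65.v24762))))
theorem f646303 : Led Lsl_ef (LP (LK LD1_c3 LD2_c0 LD3_c7)) = K66.v5163 :=
  Lgr Lrot88 (Lpr_et (K66.f646300 IH) (Lpn K66.v5163))
theorem f752058 : Led Lsl_cf K66.v5163 = v16858 :=
  Lgr Lrot39 (Lpe (f646303 IH) (Lpr_ct (K72.f182027 IH) (Lpr_et (f752056 IH) (Lpn v16858))))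
theorem f641050 : Led Lsl_bt (LP (LK LD1_c2 LD2_c53 LD3_c60)) = K56.v4956 :=
  Lgr Lrot95 (Lpe (K17.f180311 IH) (Lpe (K45.f442469 IH) (Lpr_df (K56.f641047 IH) (Lpn K56.v4956))))
def v16032 : LQ := Led Lsl_ct (LP (LK LD1_c5 LD2_c51 LD3_c53))
theorem f744913 : Led Lsl_ct (LP (LK LD1_c5 LD2_c51 LD3_c53)) = v16032 :=
  Lrfl
theorem f744915 : Led Lsl_gf K72.v4957 = v16032 :=
  Lgr Lrot104 (Lpe (K72.f641053 IH) (Lpe (K17.f180311 IH) (Lpe (K35.f180307 IH) (Lpr_gf (K24.f206542 IH) (Lpe (K24.f206520 IH) (Lpe (K60.f163611 IH) (Lpe (K35.f22377 IH) (Lpr_gt (K35.f24040 IH) (Lpr_ct (f744913 IH) (Lpn v16032))))))))))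
theorem f825504 : Led Lsl_gt K66.v5163 = K66.v16029 :=
  Lgr Lrot65 (Lpr_cf (f752058 IH) (Lpr_bt (f825501 IH) (Lpe (K65.f825487 IH) (Lpe (f641050 IH) (Lpr_ct (K72.f641052 IH) (Lpr_gf (f744915 IH) (Lpe (f744913 IH) (Lpe (K35.f24040 IH) (Lpe (K73.f535819 IH) (Lpr_ct (K66.f744902 IH) (Lpn K66.v16029)))))))))))
theorem f749619 : Led Lsl_cf K56.v15646 = K66.v14113 :=
  Lgr Lrot11 (Lpr_ct (K66.f749617 IH) (Lpn K66.v14113))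
theorem f744903 : Led Lsl_cf (LP (LK LD1_c5 LD2_c51 LD3_c51)) = K66.v16029 :=
  Lgr Lrot11 (Lpr_ct (K66.f744902 IH) (Lpn K66.v16029))
theorem f749620 : Led Lsl_at K56.v15646 = K66.v16029 :=
  Lgr Lrot107 (Lpr_cf (f749619 IH) (Lpe (K66.f719064 IH) (Lpr_cf (f744903 IH) (Lpn K66.v16029))))
theorem f826735 : Led Lsl_ff K56.v15646 = v25048 :=
  Lgr Lrot52 (Lpr_at (f749620 IH) (Lpe (f825504 IH) (Lpr_gf (f826733 IH) (Lpn v25048))))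
def v5160 : LQ := Led Lsl_gf (LP (LK LD1_c2 LD2_c59 LD3_c61))
def v25044 : LQ := Led Lsl_bt v5160
theorem f826711 : Led Lsl_bt v5160 = v25044 :=
  Lrfl
def v12825 : LQ := Led Lsl_et (LP (LK LD1_c4 LD2_c32 LD3_c17))
theorem f698411 : Led Lsl_et (LP (LK LD1_c4 LD2_c32 LD3_c17)) = v12825 :=
  Lrfl
theorem f824070 : K64.v24503 = v12825 :=
  Lefun (Lecon (K64.f824016 IH) (K69.f824053 IH)) (f698411 IH)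
theorem f281857 : Led Lsl_dt (LP (LK LD1_c4 LD2_c32 LD3_c17)) = (LP (LK LD1_c9 LD2_c2 LD3_c15)) :=
  Lre_d IH (LK LD1_c4 LD2_c32 LD3_c17) (LK LD1_c9 LD2_c2 LD3_c15) Lrfl Lrfl
theorem f23164 : Led Lsl_gt (LP (LK LD1_c9 LD2_c2 LD3_c15)) = (LP (LK LD1_c9 LD2_c5 LD3_c14)) :=
  Lre_g IH (LK LD1_c9 LD2_c2 LD3_c15) (LK LD1_c9 LD2_c5 LD3_c14) Lrfl Lrfl
theorem f698413 : Led Lsl_gt K55.v4224 = v12825 :=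
  Lgr Lrot131 (Lpe (K55.f632047 IH) (Lpr_dt (K50.f22988 IH) (Lpe (K0.f22998 IH) (Lpe (K46.f23245 IH) (Lpe (K32.f23121 IH) (Lpe (K55.f23114 IH) (Lpr_dt (K32.f23129 IH) (Lpe (f23164 IH) (Lpe (f281857 IH) (Lpr_et (f698411 IH) (Lpn v12825)))))))))))
theorem f646279 : Led Lsl_gf (LP (LK LD1_c2 LD2_c59 LD3_c61)) = v5160 :=
  Lrfl
theorem f698414 : Led Lsl_df v5160 = v12825 :=
  Lgr Lrot135 (Lpe (f646279 IH) (Lpr_df (K18.f175958 IH) (Lpr_et (K50.f173379 IH) (Lpr_gt (K9.f173380 IH) (Lpe (K54.f174604 IH) (Lpr_dt (K46.f23245 IH) (Lpr_gt (K0.f22998 IH) (Lpe (K50.f22988 IH) (Lpr_et (K55.f632047 IH) (Lpr_gt (f698413 IH) (Lpn v12825)))))))))))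
theorem f824071 : Led Lsl_ff K64.v4801 = v5160 :=
  Lgr Lrot19 (Lpr_dt (K64.f645934 IH) (Lpr_ft (K64.f824020 IH) (Lpqs (f824070 IH) (Lpe (f698414 IH) (Lpn v5160)))))
theorem f824072 : Led Lsl_ft K64.v4801 = v5160 :=
  Lgr Lrot48 (Lpr_ff (f824071 IH) (Lpn v5160))
theorem f826713 : Led Lsl_ff v24539 = v25044 :=
  Lgr Lrot25 (Lpe (f824575 IH) (Lpr_ft (f824072 IH) (Lpr_bt (f826711 IH) (Lpn v25044))))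
theorem f825505 : Led Lsl_gf v16858 = (LP (LK LD1_c11 LD2_c40 LD3_c21)) :=
  Lgr Lrot147 (Lpe (f752058 IH) (Lpr_gt (f825504 IH) (Lpe (f744903 IH) (Lpe (K53.f535820 IH) (Lpr_cf (K56.f640763 IH) (Lpe (K66.f643453 IH) (Lpe (K66.f426943 IH) (Lpe (K56.f161313 IH) (Lpe (K66.f428128 IH) (Lpn (LP (LK LD1_c11 LD2_c40 LD3_c21))))))))))))
theorem f825506 : Led Lsl_gt v16858 = (LP (LK LD1_c11 LD2_c40 LD3_c20)) :=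
  Lgr Lrot46 (Lpr_gf (f825505 IH) (Lpe (K56.f644327 IH) (Lpr_at (K73.f644301 IH) (Lpn (LP (LK LD1_c11 LD2_c40 LD3_c20))))))
theorem f752059 : Led Lsl_ef (LP (LK LD1_c6 LD2_c7 LD3_c51)) = v16858 :=
  Lgr Lrot88 (Lpr_et (f752056 IH) (Lpn v16858))
theorem f752061 : Led Lsl_ct K66.v5163 = v16858 :=
  Lgr Lrot15 (Lpe (K66.f646300 IH) (Lpe (K72.f501330 IH) (Lpr_ef (f752059 IH) (Lpn v16858))))
theorem f722156 : Led Lsl_ff (LP (LK LD1_c5 LD2_c7 LD3_c7)) = K53.v14356 :=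
  Lgr Lrot3 (Lpr_ft (K53.f722151 IH) (Lpn K53.v14356))
theorem f177359 : Led Lsl_ft (LP (LK LD1_c5 LD2_c5 LD3_c53)) = (LP (LK LD1_c10 LD2_c2 LD3_c45)) :=
  Lre_f IH (LK LD1_c5 LD2_c5 LD3_c53) (LK LD1_c10 LD2_c2 LD3_c45) Lrfl Lrfl
theorem f722159 : Led Lsl_at (LP (LK LD1_c10 LD2_c2 LD3_c45)) = K53.v14356 :=
  Lgr Lrot66 (Lpe (f177359 IH) (Lpr_af (K19.f313859 IH) (Lpr_ff (f722156 IH) (Lpn K53.v14356))))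
theorem f722164 : Led Lsl_gt (LP (LK LD1_c10 LD2_c2 LD3_c43)) = K53.v14356 :=
  Lgr Lrot46 (Lpe (K72.f177203 IH) (Lpr_ft (f177359 IH) (Lpr_at (f722159 IH) (Lpn K53.v14356))))
def v4758 : LQ := Led Lsl_ft (LP (LK LD1_c2 LD2_c46 LD3_c3))
theorem f638852 : Led Lsl_ft (LP (LK LD1_c2 LD2_c46 LD3_c3)) = v4758 :=
  Lrfl
theorem f722160 : Led Lsl_bt v4758 = K53.v14356 :=
  Lgr Lrot35 (Lpe (f638852 IH) (Lpr_bf (K72.f622474 IH) (Lpr_ff (f722156 IH) (Lpn K53.v14356))))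
def v4640 : LQ := Led Lsl_et (LP (LK LD1_c2 LD2_c39 LD3_c57))
def v24246 : LQ := Led Lsl_ft v4640
theorem f823079 : Led Lsl_ft v4640 = v24246 :=
  Lrfl
theorem f823082 : Led Lsl_ff v4640 = v24246 :=
  Lgr Lrot3 (Lpr_ft (f823079 IH) (Lpn v24246))
theorem f638283 : Led Lsl_et (LP (LK LD1_c2 LD2_c39 LD3_c57)) = v4640 :=
  Lrfl
theorem f638284 : Led Lsl_cf (LP (LK LD1_c2 LD2_c46 LD3_c3)) = v4640 :=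
  Lgr Lrot39 (Lpr_et (K54.f172048 IH) (Lpr_ct (K67.f195790 IH) (Lpr_et (f638283 IH) (Lpn v4640))))
theorem f823083 : Led Lsl_ct v4758 = v24246 :=
  Lgr Lrot40 (Lpe (f638852 IH) (Lpr_cf (f638284 IH) (Lpr_ff (f823082 IH) (Lpn v24246))))
def v5140 : LQ := Led Lsl_et (LP (LK LD1_c2 LD2_c59 LD3_c26))
def v24986 : LQ := Led Lsl_gf v5140
theorem f826479 : Led Lsl_gf v5140 = v24986 :=
  Lrfl
theorem f646191 : Led Lsl_et (LP (LK LD1_c2 LD2_c59 LD3_c26)) = v5140 :=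
  Lrfl
theorem f646194 : Led Lsl_ef (LP (LK LD1_c2 LD2_c59 LD3_c26)) = v5140 :=
  Lgr Lrot88 (Lpr_et (f646191 IH) (Lpn v5140))
theorem f334403 : Led Lsl_ft (LP (LK LD1_c2 LD2_c39 LD3_c54)) = (LP (LK LD1_c2 LD2_c59 LD3_c26)) :=
  Lgr Lrot54 (Lpe (K30.f179200 IH) (Lpr_ff (K22.f334399 IH) (Lpe (K14.f177470 IH) (Lpn (LP (LK LD1_c2 LD2_c59 LD3_c26))))))
theorem f334431 : Led Lsl_af (LP (LK LD1_c2 LD2_c39 LD3_c57)) = (LP (LK LD1_c2 LD2_c59 LD3_c26)) :=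
  Lgr Lrot45 (Lpr_ft (K22.f334429 IH) (Lpe (K22.f334411 IH) (Lpr_ft (f334403 IH) (Lpn (LP (LK LD1_c2 LD2_c59 LD3_c26))))))
theorem f646195 : Led Lsl_at v4640 = v5140 :=
  Lgr Lrot80 (Lpe (f638283 IH) (Lpr_af (f334431 IH) (Lpr_ef (f646194 IH) (Lpn v5140))))
theorem f826480 : Led Lsl_gt v24246 = v24986 :=
  Lgr Lrot5 (Lpe (f823082 IH) (Lpr_at (f646195 IH) (Lpr_gf (f826479 IH) (Lpn v24986))))
def v12859 : LQ := Led Lsl_ct (LP (LK LD1_c4 LD2_c33 LD3_c35))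
theorem f698632 : Led Lsl_ct (LP (LK LD1_c4 LD2_c33 LD3_c35)) = v12859 :=
  Lrfl
theorem f296989 : Led Lsl_af (LP (LK LD1_c2 LD2_c59 LD3_c61)) = (LP (LK LD1_c2 LD2_c48 LD3_c32)) :=
  Lgr Lrot0 (Lpr_at (K18.f296987 IH) (Lpn (LP (LK LD1_c2 LD2_c48 LD3_c32))))
theorem f646280 : Led Lsl_gt K69.v4803 = v5160 :=
  Lgr Lrot5 (Lpe (K72.f639068 IH) (Lpe (f296989 IH) (Lpr_gf (f646279 IH) (Lpn v5160))))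
def v25045 : LQ := Led Lsl_ct v5160
theorem f826715 : Led Lsl_ct v5160 = v25045 :=
  Lrfl
def v37766 : LQ := Led Lsl_gf (LP (LK LD1_c8 LD2_c59 LD3_c39))
theorem f896367 : Led Lsl_gf (LP (LK LD1_c8 LD2_c59 LD3_c39)) = v37766 :=
  Lrfl
theorem f9235 : Led Lsl_dt (LP (LK LD1_c8 LD2_c59 LD3_c39)) = (LP (LK LD1_c16 LD2_c49 LD3_c2)) :=
  Lre_d IH (LK LD1_c8 LD2_c59 LD3_c39) (LK LD1_c16 LD2_c49 LD3_c2) Lrfl Lrfl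
def v37619 : LQ := Led Lsl_dt (LP (LK LD1_c8 LD2_c58 LD3_c29))
theorem f895610 : Led Lsl_dt (LP (LK LD1_c8 LD2_c58 LD3_c29)) = v37619 :=
  Lrfl
theorem f698464 : Led Lsl_ef (LP (LK LD1_c6 LD2_c3 LD3_c2)) = K52.v12833 :=
  Lgr Lrot28 (Lpr_ct (K49.f501068 IH) (Lpe (K51.f501083 IH) (Lpr_ct (K52.f698461 IH) (Lpn K52.v12833))))
def v4811 : LQ := Led Lsl_gt (LP (LK LD1_c2 LD2_c48 LD3_c40))
theorem f639096 : Led Lsl_gt (LP (LK LD1_c2 LD2_c48 LD3_c40)) = v4811 :=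
  Lrfl
theorem f689262 : Led Lsl_dt v4811 = K49.v12302 :=
  Lgr Lrot113 (Lpe (f639096 IH) (Lpe (K52.f179320 IH) (Lpe (K35.f444591 IH) (Lpe (K35.f444605 IH) (Lpr_gt (K16.f40472 IH) (Lpr_dt (K24.f40464 IH) (Lpr_gt (K24.f40470 IH) (Lpr_dt (K24.f40471 IH) (Lpr_ct (K49.f689257 IH) (Lpn K49.v12302))))))))))
theorem f689270 : Led Lsl_df v4811 = K49.v12302 :=
  Lgr Lrot38 (Lpr_dt (f689262 IH) (Lpn K49.v12302))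
def v12871 : LQ := Led Lsl_ft (LP (LK LD1_c4 LD2_c33 LD3_c42))
theorem f698715 : Led Lsl_ft (LP (LK LD1_c4 LD2_c33 LD3_c42)) = v12871 :=
  Lrfl
theorem f698719 : Led Lsl_ff (LP (LK LD1_c4 LD2_c33 LD3_c42)) = v12871 :=
  Lgr Lrot3 (Lpr_ft (f698715 IH) (Lpn v12871))
theorem f634011 : Led Lsl_at (LP (LK LD1_c4 LD2_c33 LD3_c42)) = (LP (LK LD1_c2 LD2_c48 LD3_c40)) :=
  Lre_a IH (LK LD1_c4 LD2_c33 LD3_c42) (LK LD1_c2 LD2_c48 LD3_c40) Lrfl Lrfl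
theorem f698723 : Led Lsl_gf K53.v4812 = v12871 :=
  Lgr Lrot47 (Lpe (K53.f639101 IH) (Lpe (f634011 IH) (Lpr_ff (f698719 IH) (Lpn v12871))))
def v6461 : LQ := Led Lsl_dt (LP (LK LD1_c3 LD2_c22 LD3_c1))
theorem f653499 : Led Lsl_dt (LP (LK LD1_c3 LD2_c22 LD3_c1)) = v6461 :=
  Lrfl
theorem f653502 : Led Lsl_gf (LP (LK LD1_c9 LD2_c46 LD3_c35)) = v6461 :=
  Lgr Lrot143 (Lpr_dt (K2.f83269 IH) (Lpe (K2.f83246 IH) (Lpe (K31.f83264 IH) (Lpe (K9.f140231 IH) (Lpe (K32.f140240 IH) (Lpe (K32.f140241 IH) (Lpr_cf (K52.f505583 IH) (Lpr_gt (K46.f144080 IH) (Lpr_dt (f653499 IH) (Lpn v6461))))))))))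
theorem f698709 : Led Lsl_cf v6461 = K53.v12870 :=
  Lgr Lrot166 (Lpe (f653502 IH) (Lpr_dt (K2.f83269 IH) (Lpe (K52.f140908 IH) (Lpr_dt (K32.f23233 IH) (Lpe (K32.f503767 IH) (Lpe (K51.f415669 IH) (Lpe (K32.f415678 IH) (Lpe (K53.f415713 IH) (Lpr_gf (K53.f698704 IH) (Lpn K53.v12870))))))))))
theorem f416076 : Led Lsl_dt (LP (LK LD1_c9 LD2_c32 LD3_c39)) = (LP (LK LD1_c4 LD2_c50 LD3_c5)) :=
  Lre_d IH (LK LD1_c9 LD2_c32 LD3_c39) (LK LD1_c4 LD2_c50 LD3_c5) Lrfl Lrfl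
theorem f653500 : Led Lsl_af (LP (LK LD1_c9 LD2_c32 LD3_c39)) = v6461 :=
  Lgr Lrot117 (Lpr_dt (f416076 IH) (Lpe (K52.f633662 IH) (Lpr_dt (f653499 IH) (Lpn v6461))))
theorem f416090 : Led Lsl_ct (LP (LK LD1_c2 LD2_c48 LD3_c40)) = (LP (LK LD1_c5 LD2_c45 LD3_c48)) :=
  Lre_c IH (LK LD1_c2 LD2_c48 LD3_c40) (LK LD1_c5 LD2_c45 LD3_c48) Lrfl Lrfl
theorem f77709 : Led Lsl_bt (LP (LK LD1_c12 LD2_c16 LD3_c42)) = (LP (LK LD1_c6 LD2_c21 LD3_c21)) :=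
  Lre_b IH (LK LD1_c12 LD2_c16 LD3_c42) (LK LD1_c6 LD2_c21 LD3_c21) Lrfl Lrfl
theorem f67468 : Led Lsl_bt (LP (LK LD1_c6 LD2_c18 LD3_c55)) = (LP (LK LD1_c12 LD2_c13 LD3_c37)) :=
  Lre_b IH (LK LD1_c6 LD2_c18 LD3_c55) (LK LD1_c12 LD2_c13 LD3_c37) Lrfl Lrfl
theorem f77710 : Led Lsl_et (LP (LK LD1_c6 LD2_c21 LD3_c21)) = (LP (LK LD1_c6 LD2_c18 LD3_c55)) :=
  Lgr Lrot74 (Lpe (f77709 IH) (Lpr_ef (K2.f77705 IH) (Lpe (f67468 IH) (Lpn (LP (LK LD1_c6 LD2_c18 LD3_c55))))))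
theorem f83231 : Led Lsl_af (LP (LK LD1_c6 LD2_c21 LD3_c21)) = (LP (LK LD1_c6 LD2_c23 LD3_c23)) :=
  Lgr Lrot50 (Lpr_et (f77710 IH) (Lpr_at (K51.f67466 IH) (Lpr_et (K2.f83229 IH) (Lpn (LP (LK LD1_c6 LD2_c23 LD3_c23))))))
theorem f83249 : Led Lsl_ft (LP (LK LD1_c3 LD2_c9 LD3_c18)) = (LP (LK LD1_c6 LD2_c23 LD3_c23)) :=
  Lre_f IH (LK LD1_c3 LD2_c9 LD3_c18) (LK LD1_c6 LD2_c23 LD3_c23) Lrfl Lrfl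
theorem f416081 : Led Lsl_gf (LP (LK LD1_c4 LD2_c50 LD3_c11)) = (LP (LK LD1_c3 LD2_c9 LD3_c18)) :=
  Lgr Lrot47 (Lpr_gt (K58.f416078 IH) (Lpr_af (f83231 IH) (Lpe (f83249 IH) (Lpn (LP (LK LD1_c3 LD2_c9 LD3_c18))))))
theorem f415555 : Led Lsl_ct (LP (LK LD1_c4 LD2_c50 LD3_c5)) = (LP (LK LD1_c2 LD2_c22 LD3_c50)) :=
  Lre_c IH (LK LD1_c4 LD2_c50 LD3_c5) (LK LD1_c2 LD2_c22 LD3_c50) Lrfl Lrfl
theorem f444668 : Led Lsl_gt (LP (LK LD1_c6 LD2_c23 LD3_c22)) = (LP (LK LD1_c9 LD2_c32 LD3_c39)) :=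
  Lgr Lrot49 (Lpe (K52.f83276 IH) (Lpr_gf (K32.f444662 IH) (Lpe (K32.f415315 IH) (Lpr_gt (K16.f62600 IH) (Lpr_dt (K29.f135596 IH) (Lpr_gt (K29.f23819 IH) (Lpr_dt (K0.f23795 IH) (Lpe (f415555 IH) (Lpe (f416076 IH) (Lpn (LP (LK LD1_c9 LD2_c32 LD3_c39))))))))))))
theorem f639103 : Led Lsl_ct (LP (LK LD1_c9 LD2_c32 LD3_c39)) = K53.v4812 :=
  Lgr Lrot152 (Lpe (f444668 IH) (Lpe (K52.f83276 IH) (Lpe (f416081 IH) (Lpr_ct (K32.f416083 IH) (Lpr_gt (K32.f24671 IH) (Lpr_ct (K57.f62075 IH) (Lpe (K32.f7535 IH) (Lpe (f416090 IH) (Lpr_gf (K53.f639101 IH) (Lpn K53.v4812))))))))))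
theorem f698710 : Led Lsl_at K53.v4812 = K53.v12870 :=
  Lgr Lrot107 (Lpe (f639103 IH) (Lpr_af (f653500 IH) (Lpr_cf (f698709 IH) (Lpn K53.v12870))))
theorem f698711 : Led Lsl_af K53.v4812 = K53.v12870 :=
  Lgr Lrot0 (Lpr_at (f698710 IH) (Lpn K53.v12870))
theorem f698712 : Led Lsl_df (LP (LK LD1_c5 LD2_c0 LD3_c20)) = K53.v12870 :=
  Lgr Lrot18 (Lpe (K53.f633816 IH) (Lpr_dt (K53.f639102 IH) (Lpr_at (f698710 IH) (Lpn K53.v12870))))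
theorem f689260 : Led Lsl_ff (LP (LK LD1_c5 LD2_c0 LD3_c20)) = K49.v12302 :=
  Lgr Lrot23 (Lpr_ct (K52.f40959 IH) (Lpe (K51.f633837 IH) (Lpr_ct (K49.f689257 IH) (Lpn K49.v12302))))
theorem f689271 : Led Lsl_ft (LP (LK LD1_c5 LD2_c0 LD3_c20)) = K49.v12302 :=
  Lgr Lrot48 (Lpr_ff (f689260 IH) (Lpn K49.v12302))
theorem f698713 : Led Lsl_ft v4811 = K53.v12870 :=
  Lgr Lrot54 (Lpr_df (f689270 IH) (Lpe (f689271 IH) (Lpr_df (f698712 IH) (Lpn K53.v12870))))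
theorem f698724 : Led Lsl_gt v4811 = v12871 :=
  Lgr Lrot5 (Lpr_ft (f698713 IH) (Lpe (f698711 IH) (Lpr_gf (f698723 IH) (Lpn v12871))))
theorem f631691 : Led Lsl_ft (LP (LK LD1_c2 LD2_c13 LD3_c44)) = (LP (LK LD1_c4 LD2_c33 LD3_c43)) :=
  Lre_f IH (LK LD1_c2 LD2_c13 LD3_c44) (LK LD1_c4 LD2_c33 LD3_c43) Lrfl Lrfl
theorem f698722 : Led Lsl_dt (LP (LK LD1_c4 LD2_c33 LD3_c43)) = v12871 :=
  Lgr Lrot60 (Lpe (f631691 IH) (Lpe (K53.f415713 IH) (Lpr_ff (f698719 IH) (Lpn v12871))))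
theorem f9112 : Led Lsl_et (LP (LK LD1_c4 LD2_c33 LD3_c43)) = (LP (LK LD1_c2 LD2_c43 LD3_c19)) :=
  Lre_e IH (LK LD1_c4 LD2_c33 LD3_c43) (LK LD1_c2 LD2_c43 LD3_c19) Lrfl Lrfl
theorem f9234 : Led Lsl_et (LP (LK LD1_c8 LD2_c59 LD3_c39)) = (LP (LK LD1_c4 LD2_c30 LD3_c40)) :=
  Lre_e IH (LK LD1_c8 LD2_c59 LD3_c39) (LK LD1_c4 LD2_c30 LD3_c40) Lrfl Lrfl
theorem f895614 : Led Lsl_gt (LP (LK LD1_c16 LD2_c49 LD3_c2)) = v37619 :=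
  Lgr Lrot112 (Lpe (f9235 IH) (Lpr_et (f9234 IH) (Lpe (K71.f9116 IH) (Lpe (f9112 IH) (Lpr_dt (f698722 IH) (Lpe (f698724 IH) (Lpr_df (f689270 IH) (Lpe (K49.f689264 IH) (Lpr_ef (f698464 IH) (Lpq (K55.f743442 IH) (Lpr_dt (f895610 IH) (Lpn v37619))))))))))))
theorem f895612 : Led Lsl_df (LP (LK LD1_c8 LD2_c58 LD3_c29)) = v37619 :=
  Lgr Lrot38 (Lpr_dt (f895610 IH) (Lpn v37619))
theorem f698471 : Led Lsl_df (LP (LK LD1_c4 LD2_c32 LD3_c44)) = K64.v12834 :=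
  Lgr Lrot38 (Lpr_dt (K64.f698469 IH) (Lpn K64.v12834))
theorem f501097 : Led Lsl_gt (LP (LK LD1_c4 LD2_c33 LD3_c52)) = (LP (LK LD1_c2 LD2_c48 LD3_c52)) :=
  Lre_g IH (LK LD1_c4 LD2_c33 LD3_c52) (LK LD1_c2 LD2_c48 LD3_c52) Lrfl Lrfl
theorem f741563 : Led Lsl_gf K64.v12834 = K64.v15791 :=
  Lgr Lrot145 (Lpe (K64.f698469 IH) (Lpr_et (K51.f501087 IH) (Lpr_gt (K32.f501027 IH) (Lpr_dt (K32.f140711 IH) (Lpr_gt (K31.f27121 IH) (Lpe (K17.f180477 IH) (Lpr_et (K54.f180476 IH) (Lpr_gt (f501097 IH) (Lpe (K64.f501098 IH) (Lpr_dt (K64.f741560 IH) (Lpn K64.v15791)))))))))))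
def v15789 : LQ := Led Lsl_gf (LP (LK LD1_c5 LD2_c46 LD3_c17))
theorem f741555 : Led Lsl_gf (LP (LK LD1_c5 LD2_c46 LD3_c17)) = v15789 :=
  Lrfl
theorem f896370 : Led Lsl_cf v15789 = v37766 :=
  Lgr Lrot166 (Lpe (f741555 IH) (Lpr_dt (K64.f741560 IH) (Lpe (f741563 IH) (Lpe (f698471 IH) (Lpr_ct (K52.f698461 IH) (Lpq (K55.f743442 IH) (Lpr_df (f895612 IH) (Lpe (f895614 IH) (Lpe (f9235 IH) (Lpr_gf (f896367 IH) (Lpn v37766)))))))))))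
def v15712 : LQ := Led Lsl_at (LP (LK LD1_c5 LD2_c45 LD3_c33))
theorem f741043 : Led Lsl_at (LP (LK LD1_c5 LD2_c45 LD3_c33)) = v15712 :=
  Lrfl
theorem f741045 : Led Lsl_df K55.v4798 = v15712 :=
  Lgr Lrot18 (Lpe (K55.f639051 IH) (Lpr_dt (K55.f181166 IH) (Lpr_at (f741043 IH) (Lpn v15712))))
theorem f741046 : Led Lsl_dt K55.v4798 = v15712 :=
  Lgr Lrot42 (Lpr_df (f741045 IH) (Lpn v15712))
theorem f741361 : v15712 = K50.v12860 :=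
  Lefun (Lecon (f741046 IH) (K55.f741358 IH).symm) (K50.f698634 IH)
theorem f741047 : Led Lsl_ft K64.v7971 = v15712 :=
  Lgr Lrot54 (Lpe (K64.f669162 IH) (Lpr_ff (K55.f639054 IH) (Lpr_df (f741045 IH) (Lpn v15712))))
theorem f741048 : Led Lsl_ff K64.v7971 = v15712 :=
  Lgr Lrot3 (Lpr_ft (f741047 IH) (Lpn v15712))
def v15714 : LQ := Led Lsl_ft (LP (LK LD1_c5 LD2_c45 LD3_c33))
theorem f741051 : Led Lsl_ft (LP (LK LD1_c5 LD2_c45 LD3_c33)) = v15714 :=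
  Lrfl
theorem f741054 : Led Lsl_ff (LP (LK LD1_c5 LD2_c45 LD3_c33)) = v15714 :=
  Lgr Lrot3 (Lpr_ft (f741051 IH) (Lpn v15714))
theorem f741055 : Led Lsl_at K64.v7971 = v15714 :=
  Lgr Lrot66 (Lpr_ff (f741048 IH) (Lpe (f741043 IH) (Lpr_ff (f741054 IH) (Lpn v15714))))
theorem f741417 : Led Lsl_gf v15714 = K50.v5100 :=
  Lgr Lrot76 (Lpe (f741055 IH) (Lpr_ff (f741048 IH) (Lpqs (f741361 IH) (Lpe (K50.f698636 IH) (Lpn K50.v5100)))))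
theorem f741056 : Led Lsl_dt K55.v4800 = v15714 :=
  Lgr Lrot60 (Lpe (K55.f639057 IH) (Lpe (K55.f168239 IH) (Lpr_ff (f741054 IH) (Lpn v15714))))
theorem f741564 : K55.v15594 = v15789 :=
  (Llr Lrot121 (Lpe (K55.f738198 IH) (Lpq (K55.f741355 IH) (Lpr_dt (f741056 IH) (Lpr_gf (f741417 IH) (Lpe (K50.f645930 IH) (Lpr_et (K50.f454896 IH) (Lpe (K32.f501027 IH) (Lpe (K51.f501087 IH) (Lpr_dt (K64.f698469 IH) (Lpr_gf (f741563 IH) (Lpe (K64.f741560 IH) (Lpr_gf (f741555 IH) (Lpn v15789)))))))))))))).symm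
def v37620 : LQ := Led Lsl_dt (LP (LK LD1_c8 LD2_c58 LD3_c30))
theorem f895619 : Led Lsl_dt (LP (LK LD1_c8 LD2_c58 LD3_c30)) = v37620 :=
  Lrfl
def v12740 : LQ := Led Lsl_dt (LP (LK LD1_c4 LD2_c30 LD3_c9))
theorem f697928 : Led Lsl_dt (LP (LK LD1_c4 LD2_c30 LD3_c9)) = v12740 :=
  Lrfl
theorem f697930 : Led Lsl_df (LP (LK LD1_c4 LD2_c30 LD3_c9)) = v12740 :=
  Lgr Lrot38 (Lpr_dt (f697928 IH) (Lpn v12740))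
theorem f895622 : Led Lsl_ff v12740 = v37620 :=
  Lgr Lrot19 (Lpe (f697930 IH) (Lpr_ft (K40.f319855 IH) (Lpr_dt (f895619 IH) (Lpn v37620))))
def v4693 : LQ := Led Lsl_dt (LP (LK LD1_c2 LD2_c42 LD3_c48))
theorem f638504 : Led Lsl_dt (LP (LK LD1_c2 LD2_c42 LD3_c48)) = v4693 :=
  Lrfl
theorem f638505 : Led Lsl_df (LP (LK LD1_c2 LD2_c42 LD3_c48)) = v4693 :=
  Lgr Lrot38 (Lpr_dt (f638504 IH) (Lpn v4693))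
theorem f697929 : Led Lsl_af v4693 = v12740 :=
  Lgr Lrot117 (Lpe (f638505 IH) (Lpe (K20.f319867 IH) (Lpr_dt (f697928 IH) (Lpn v12740))))
def v24349 : LQ := Led Lsl_gf v4693
theorem f823403 : Led Lsl_gf v4693 = v24349 :=
  Lrfl
theorem f895625 : Led Lsl_gf v24349 = v37620 :=
  Lgr Lrot47 (Lpe (f823403 IH) (Lpr_af (f697929 IH) (Lpr_ff (f895622 IH) (Lpn v37620))))
theorem f896373 : Led Lsl_dt v24349 = v37766 :=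
  Lgr Lrot105 (Lpr_gf (f895625 IH) (Lpe (f895619 IH) (Lpr_gf (K52.f319892 IH) (Lpq (K52.f714311 IH) (Lpe (K52.f638926 IH) (Lpr_gt (K51.f412038 IH) (Lpr_dt (K55.f268757 IH) (Lpe (K54.f268753 IH) (Lpr_dt (K55.f738195 IH) (Lpqs (f741564 IH) (Lpr_cf (f896370 IH) (Lpn v37766))))))))))))
theorem f896374 : Led Lsl_df v24349 = v37766 :=
  Lgr Lrot38 (Lpr_dt (f896373 IH) (Lpn v37766))
theorem f225798 : Led Lsl_et (LP (LK LD1_c2 LD2_c42 LD3_c48)) = (LP (LK LD1_c1 LD2_c17 LD3_c55)) :=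
  Lre_e IH (LK LD1_c2 LD2_c42 LD3_c48) (LK LD1_c1 LD2_c17 LD3_c55) Lrfl Lrfl
def v4170 : LQ := Led Lsl_et (LP (LK LD1_c2 LD2_c12 LD3_c15))
theorem f631603 : Led Lsl_et (LP (LK LD1_c2 LD2_c12 LD3_c15)) = v4170 :=
  Lrfl
def v23777 : LQ := Led Lsl_gt v4170
theorem f820392 : Led Lsl_gt v4170 = v23777 :=
  Lrfl
theorem f896375 : Led Lsl_ef v23777 = v37766 :=
  Lgr Lrot17 (Lpe (f820392 IH) (Lpe (f631603 IH) (Lpe (K12.f225187 IH) (Lpr_gf (K12.f225703 IH) (Lpr_df (K12.f225705 IH) (Lpe (K9.f174127 IH) (Lpe (f225798 IH) (Lpr_dt (f638504 IH) (Lpr_gf (f823403 IH) (Lpr_df (f896374 IH) (Lpn v37766)))))))))))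
theorem f225745 : Led Lsl_dt (LP (LK LD1_c10 LD2_c58 LD3_c38)) = (LP (LK LD1_c5 LD2_c33 LD3_c19)) :=
  Lre_d IH (LK LD1_c10 LD2_c58 LD3_c38) (LK LD1_c5 LD2_c33 LD3_c19) Lrfl Lrfl
def v15280 : LQ := Led Lsl_gf (LP (LK LD1_c5 LD2_c34 LD3_c50))
theorem f733275 : Led Lsl_gf (LP (LK LD1_c5 LD2_c34 LD3_c50)) = v15280 :=
  Lrfl
theorem f824455 : Led Lsl_cf v15280 = K55.v7972 :=
  Lgr Lrot166 (Lpe (f733275 IH) (Lpr_dt (K52.f639120 IH) (Lpr_gt (K52.f714336 IH) (Lpr_dt (f225745 IH) (Lpq (K52.f714314 IH) (Lpe (K52.f638935 IH) (Lpr_df (K64.f638939 IH) (Lpr_gf (K64.f824185 IH) (Lpe (K64.f824186 IH) (Lpqs (K64.f824188 IH) (Lpe (K64.f741570 IH) (Lpn K55.v7972))))))))))))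
theorem f896371 : Led Lsl_at v15280 = v37766 :=
  Lgr Lrot107 (Lpr_cf (f824455 IH) (Lpr_af (K55.f741353 IH) (Lpqs (f741564 IH) (Lpr_cf (f896370 IH) (Lpn v37766)))))
def v7970 : LQ := Led Lsl_ct K55.v1503
theorem f669160 : Led Lsl_ct K55.v1503 = v7970 :=
  Lrfl
theorem f669161 : Led Lsl_cf K55.v1503 = v7970 :=
  Lgr Lrot11 (Lpr_ct (f669160 IH) (Lpn v7970))
theorem f824456 : Led Lsl_et v15280 = v7970 :=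
  Lgr Lrot158 (Lpr_cf (f824455 IH) (Lpe (K55.f669164 IH) (Lpr_cf (f669161 IH) (Lpn v7970))))
theorem f824457 : Led Lsl_ef v15280 = v7970 :=
  Lgr Lrot88 (Lpr_et (f824456 IH) (Lpn v7970))
def v1443 : LQ := Led Lsl_et (LP (LK LD1_c1 LD2_c18 LD3_c3))
def v7956 : LQ := Led Lsl_gt v1443
def v28087 : LQ := Led Lsl_ct v7956
theorem f842754 : Led Lsl_ct v7956 = v28087 :=
  Lrfl
theorem f842755 : Led Lsl_cf v7956 = v28087 :=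
  Lgr Lrot11 (Lpr_ct (f842754 IH) (Lpn v28087))
def v28126 : LQ := Led Lsl_ct K64.v7971
theorem f842928 : Led Lsl_ct K64.v7971 = v28126 :=
  Lrfl
def v4786 : LQ := Led Lsl_gt (LP (LK LD1_c2 LD2_c48 LD3_c8))
def v24520 : LQ := Led Lsl_dt v4786
theorem f824512 : Led Lsl_dt v4786 = v24520 :=
  Lrfl
theorem f824515 : Led Lsl_df v4786 = v24520 :=
  Lgr Lrot38 (Lpr_dt (f824512 IH) (Lpn v24520))
theorem f383655 : Led Lsl_ft (LP (LK LD1_c2 LD2_c48 LD3_c8)) = (LP (LK LD1_c5 LD2_c44 LD3_c28)) :=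
  Lre_f IH (LK LD1_c2 LD2_c48 LD3_c8) (LK LD1_c5 LD2_c44 LD3_c28) Lrfl Lrfl
theorem f738365 : Led Lsl_at (LP (LK LD1_c5 LD2_c44 LD3_c28)) = K56.v15626 :=
  Lgr Lrot66 (Lpe (f383655 IH) (Lpe (K66.f383752 IH) (Lpr_ff (K66.f738363 IH) (Lpn K56.v15626))))
theorem f638976 : Led Lsl_gt (LP (LK LD1_c2 LD2_c48 LD3_c8)) = v4786 :=
  Lrfl
theorem f738371 : Led Lsl_gt v4786 = K56.v15626 :=
  Lgr Lrot46 (Lpe (f638976 IH) (Lpr_ft (f383655 IH) (Lpr_at (f738365 IH) (Lpn K56.v15626))))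
theorem f738449 : Led Lsl_ft v4786 = K56.v15642 :=
  Lgr Lrot2 (Lpr_gt (f738371 IH) (Lpe (K66.f738367 IH) (Lpr_af (K56.f738447 IH) (Lpn K56.v15642))))
theorem f738450 : Led Lsl_ff v4786 = K56.v15642 :=
  Lgr Lrot3 (Lpr_ft (f738449 IH) (Lpn K56.v15642))
def v7969 : LQ := Led Lsl_bt K55.v1503
theorem f669158 : Led Lsl_bt K55.v1503 = v7969 :=
  Lrfl
theorem f669159 : Led Lsl_bf K55.v1503 = v7969 :=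
  Lgr Lrot24 (Lpr_bt (f669158 IH) (Lpn v7969))
theorem f741418 : Led Lsl_ff v7969 = (LP (LK LD1_c9 LD2_c4 LD3_c45)) :=
  Lgr Lrot25 (Lpe (f669159 IH) (Lpqs (K55.f741356 IH) (Lpe (K55.f698650 IH) (Lpr_bt (K69.f698628 IH) (Lpn (LP (LK LD1_c9 LD2_c4 LD3_c45)))))))
theorem f752199 : v4786 = v7969 :=
  Lefun (Lecon (Lfl_ff (f738450 IH)) (K56.f752194 IH)) (Lfl_ff (f741418 IH))
theorem f824517 : Led Lsl_bt K64.v7971 = v24520 :=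
  Lgr Lrot95 (Lpe (K64.f669162 IH) (Lpr_bf (f669159 IH) (Lpq (f752199 IH) (Lpr_df (f824515 IH) (Lpn v24520)))))
theorem f738461 : Led Lsl_at v4786 = K56.v15645 :=
  Lgr Lrot66 (Lpr_ff (f738450 IH) (Lpe (K56.f738446 IH) (Lpr_ff (K56.f738460 IH) (Lpn K56.v15645))))
theorem f824516 : Led Lsl_at K56.v14617 = v24520 :=
  Lgr Lrot51 (Lpr_df (K56.f748798 IH) (Lpe (f738461 IH) (Lpr_df (f824515 IH) (Lpn v24520))))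
theorem f724029 : Led Lsl_ft K55.v14401 = K56.v14617 :=
  Lgr Lrot48 (Lpr_ff (K56.f724028 IH) (Lpn K56.v14617))
theorem f824519 : Led Lsl_gt K56.v16870 = v24520 :=
  Lgr Lrot46 (Lpe (K56.f752184 IH) (Lpr_ft (f724029 IH) (Lpr_at (f824516 IH) (Lpn v24520))))
theorem f824520 : Led Lsl_gf K55.v16329 = v24520 :=
  Lgr Lrot76 (Lpr_af (K56.f748875 IH) (Lpr_ff (K56.f752180 IH) (Lpr_gt (f824519 IH) (Lpn v24520))))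
theorem f722335 : Led Lsl_bt K53.v12343 = K55.v14396 :=
  Lgr Lrot119 (Lpe (K53.f691627 IH) (Lpr_bf (K52.f691623 IH) (Lpq (K51.f707151 IH) (Lpr_ef (K55.f722332 IH) (Lpn K55.v14396)))))
def v25056 : LQ := Led Lsl_et K53.v5167
theorem f826829 : Led Lsl_et K53.v5167 = v25056 :=
  Lrfl
theorem f826831 : Led Lsl_ef K53.v5167 = v25056 :=
  Lgr Lrot88 (Lpr_et (f826829 IH) (Lpn v25056))
theorem f826832 : Led Lsl_ct K53.v12343 = v25056 :=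
  Lgr Lrot15 (Lpe (K53.f691627 IH) (Lpr_cf (K70.f646328 IH) (Lpr_ef (f826831 IH) (Lpn v25056))))
theorem f842930 : Led Lsl_gt v25056 = v28126 :=
  Lgr Lrot65 (Lpe (f826832 IH) (Lpr_bt (f722335 IH) (Lpe (K55.f722333 IH) (Lpe (K71.f622453 IH) (Lpe (K55.f748800 IH) (Lpe (K55.f500626 IH) (Lpr_cf (K56.f748500 IH) (Lpr_gf (f824520 IH) (Lpe (f824517 IH) (Lpr_ct (f842928 IH) (Lpn v28126)))))))))))
theorem f495596 : Led Lsl_et (LP (LK LD1_c1 LD2_c18 LD3_c3)) = v1443 :=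
  Lrfl
theorem f495598 : Led Lsl_ef (LP (LK LD1_c1 LD2_c18 LD3_c3)) = v1443 :=
  Lgr Lrot88 (Lpr_et (f495596 IH) (Lpn v1443))
theorem f495599 : Led Lsl_ct (LP (LK LD1_c1 LD2_c19 LD3_c23)) = v1443 :=
  Lgr Lrot15 (Lpe (K53.f172039 IH) (Lpe (K30.f179520 IH) (Lpr_ef (f495598 IH) (Lpn v1443))))
theorem f669110 : Led Lsl_gt v1443 = v7956 :=
  Lrfl
theorem f842929 : Led Lsl_cf K64.v7971 = v28126 :=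
  Lgr Lrot11 (Lpr_ct (f842928 IH) (Lpn v28126))
theorem f842931 : v28087 = K55.v1503 :=
  (Llr Lrot110 (Lpe (f842754 IH) (Lpe (f669110 IH) (Lpe (f495599 IH) (Lpe (K53.f172050 IH) (Lpr_df (K54.f638849 IH) (Lpe (K53.f720611 IH) (Lpr_ct (f826832 IH) (Lpr_gt (f842930 IH) (Lpe (f842929 IH) (Lpe (K64.f669162 IH) (Lpn K55.v1503)))))))))))).symm
theorem f842932 : v7956 = v7970 :=
  Lefun (Lecon (Lfl_cf (f842755 IH)) (f842931 IH)) (f669160 IH)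
def v28085 : LQ := Led Lsl_at v7956
theorem f842748 : Led Lsl_at v7956 = v28085 :=
  Lrfl
theorem f842749 : Led Lsl_af v7956 = v28085 :=
  Lgr Lrot0 (Lpr_at (f842748 IH) (Lpn v28085))
theorem f896376 : v23777 = v28085 :=
  (Llr Lrot123 (Lpr_ef (f896375 IH) (Lpe (f896371 IH) (Lpr_ef (f824457 IH) (Lpq (f842932 IH) (Lpr_af (f842749 IH) (Lpn v28085))))))).symm
def v23796 : LQ := Led Lsl_ct K55.v4180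
theorem f820505 : Led Lsl_ct K55.v4180 = v23796 :=
  Lrfl
def v4799 : LQ := Led Lsl_ct (LP (LK LD1_c2 LD2_c48 LD3_c31))
theorem f639055 : Led Lsl_ct (LP (LK LD1_c2 LD2_c48 LD3_c31)) = v4799 :=
  Lrfl
theorem f639056 : Led Lsl_cf (LP (LK LD1_c2 LD2_c48 LD3_c31)) = v4799 :=
  Lgr Lrot11 (Lpr_ct (f639055 IH) (Lpn v4799))
theorem f820508 : Led Lsl_ff v4799 = v23796 :=
  Lgr Lrot23 (Lpe (f639056 IH) (Lpqs (K55.f741357 IH) (Lpe (K55.f698631 IH) (Lpr_ct (f820505 IH) (Lpn v23796)))))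
theorem f698633 : Led Lsl_cf (LP (LK LD1_c4 LD2_c33 LD3_c35)) = v12859 :=
  Lgr Lrot11 (Lpr_ct (f698632 IH) (Lpn v12859))
theorem f741422 : Led Lsl_af v12859 = v4799 :=
  Lgr Lrot68 (Lpe (f698633 IH) (Lpr_at (K55.f698626 IH) (Lpq (K55.f741357 IH) (Lpr_ct (f639055 IH) (Lpn v4799)))))
theorem f741419 : Led Lsl_ff v7970 = v12859 :=
  Lgr Lrot23 (Lpe (f669161 IH) (Lpqs (K55.f741356 IH) (Lpe (K55.f698650 IH) (Lpr_ct (f698632 IH) (Lpn v12859)))))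
theorem f820509 : Led Lsl_at v7970 = v23796 :=
  Lgr Lrot66 (Lpr_ff (f741419 IH) (Lpr_af (f741422 IH) (Lpr_ff (f820508 IH) (Lpn v23796))))
theorem f842935 : v23796 = v28085 :=
  Lefun (Lecon (f820509 IH) (f842932 IH).symm) (f842748 IH)
def v23780 : LQ := Led Lsl_ft v4170
theorem f820401 : Led Lsl_ft v4170 = v23780 :=
  Lrfl
theorem f631606 : Led Lsl_ef (LP (LK LD1_c2 LD2_c12 LD3_c15)) = v4170 :=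
  Lgr Lrot88 (Lpr_et (f631603 IH) (Lpn v4170))
theorem f354341 : Led Lsl_af (LP (LK LD1_c1 LD2_c18 LD3_c3)) = (LP (LK LD1_c2 LD2_c12 LD3_c15)) :=
  Lgr Lrot117 (Lpe (K12.f179508 IH) (Lpr_at (K30.f354337 IH) (Lpr_dt (K12.f225241 IH) (Lpn (LP (LK LD1_c2 LD2_c12 LD3_c15))))))
theorem f631607 : Led Lsl_at v1443 = v4170 :=
  Lgr Lrot80 (Lpe (f495596 IH) (Lpr_af (f354341 IH) (Lpr_ef (f631606 IH) (Lpn v4170))))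
def v4759 : LQ := Led Lsl_ct (LP (LK LD1_c2 LD2_c46 LD3_c4))
theorem f638856 : Led Lsl_ct (LP (LK LD1_c2 LD2_c46 LD3_c4)) = v4759 :=
  Lrfl
theorem f495597 : Led Lsl_cf (LP (LK LD1_c1 LD2_c19 LD3_c23)) = v1443 :=
  Lgr Lrot39 (Lpr_et (K39.f172149 IH) (Lpr_ct (K9.f172139 IH) (Lpr_et (f495596 IH) (Lpn v1443))))
theorem f638858 : Led Lsl_ff v1443 = v4759 :=
  Lgr Lrot23 (Lpe (f495597 IH) (Lpr_ft (K54.f354375 IH) (Lpr_ct (f638856 IH) (Lpn v4759))))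
theorem f820402 : Led Lsl_af v4759 = v23780 :=
  Lgr Lrot45 (Lpe (f638858 IH) (Lpr_at (f631607 IH) (Lpr_ft (f820401 IH) (Lpn v23780))))
theorem f820406 : Led Lsl_gt v23777 = v4759 :=
  Lgr Lrot46 (Lpe (f820392 IH) (Lpr_ft (f820401 IH) (Lpe (f820402 IH) (Lpn v4759))))
def v23778 : LQ := Led Lsl_gf v4170
theorem f820393 : Led Lsl_gf v4170 = v23778 :=
  Lrfl
theorem f820394 : Led Lsl_gt v4759 = v23778 :=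
  Lgr Lrot5 (Lpe (f638858 IH) (Lpr_at (f631607 IH) (Lpr_gf (f820393 IH) (Lpn v23778))))
theorem f896377 : v12859 = v23778 :=
  (Llr Lrot26 (Lpr_af (f741422 IH) (Lpr_ff (f820508 IH) (Lpqs (f842935 IH) (Lpq (f896376 IH) (Lpr_gt (f820406 IH) (Lpr_gt (f820394 IH) (Lpn v23778)))))))).symm
theorem f631605 : Led Lsl_cf (LP (LK LD1_c2 LD2_c12 LD3_c53)) = v4170 :=
  Lgr Lrot39 (Lpr_et (K53.f168852 IH) (Lpr_ct (K9.f174735 IH) (Lpr_et (f631603 IH) (Lpn v4170))))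
theorem f646193 : Led Lsl_cf K54.v1753 = v5140 :=
  Lgr Lrot39 (Lpe (K54.f501294 IH) (Lpr_ct (K22.f177547 IH) (Lpr_et (f646191 IH) (Lpn v5140))))
theorem f896378 : v25045 = v24986 :=
  (Llr Lrot152 (Lpe (f826715 IH) (Lpe (f646280 IH) (Lpe (K72.f639069 IH) (Lpe (K50.f297000 IH) (Lpr_ct (f698632 IH) (Lpqs (f896377 IH) (Lpe (f820393 IH) (Lpe (f631605 IH) (Lpr_df (K54.f501293 IH) (Lpr_cf (f646193 IH) (Lpr_gf (f826479 IH) (Lpn v24986))))))))))))).symm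
theorem f961077 : v25048 = v25044 :=
  (Llr Lrot181 (Lpe (f826733 IH) (Lpr_ct (f752061 IH) (Lpr_gt (f825506 IH) (Lpr_cf (K73.f936644 IH) (Lpq (f961071 IH) (Lpr_bt (f721833 IH) (Lpr_gt (f722164 IH) (Lpe (f722160 IH) (Lpr_ct (f823083 IH) (Lpr_gt (f826480 IH) (Lpq (f896378 IH) (Lpe (f826715 IH) (Lpr_bt (f826711 IH) (Lpn v25044))))))))))))))).symm
theorem f961078 : K56.v15646 = v24539 :=
  Lefun (Lecon (Lfl_ff (f826735 IH)) (f961077 IH)) (Lfl_ff (f826713 IH))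
theorem f961079 : v24928 = K56.v16463 :=
  Lefun (Lecon (f826242 IH) (f961078 IH).symm) (K56.f749610 IH)
def v37923 : LQ := Led Lsl_et (LP (LK LD1_c9 LD2_c2 LD3_c14))
theorem f897622 : Led Lsl_et (LP (LK LD1_c9 LD2_c2 LD3_c14)) = v37923 :=
  Lrfl
theorem f897624 : Led Lsl_ef (LP (LK LD1_c9 LD2_c2 LD3_c14)) = v37923 :=
  Lgr Lrot88 (Lpr_et (f897622 IH) (Lpn v37923))
theorem f897625 : Led Lsl_bt v12825 = v37923 :=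
  Lgr Lrot119 (Lpe (f698411 IH) (Lpe (K74.f281858 IH) (Lpr_ef (f897624 IH) (Lpn v37923))))
theorem f826240 : Led Lsl_bf K64.v5099 = v24928 :=
  Lgr Lrot24 (Lpr_bt (f826239 IH) (Lpn v24928))
theorem f897627 : Led Lsl_ff v24928 = v37923 :=
  Lgr Lrot25 (Lpe (f826240 IH) (Lpr_ft (K64.f824020 IH) (Lpqs (f824070 IH) (Lpr_bt (f897625 IH) (Lpn v37923)))))
theorem f897629 : Led Lsl_ft v24928 = v37923 :=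
  Lgr Lrot48 (Lpr_ff (f897627 IH) (Lpn v37923))
def v15615 : LQ := Led Lsl_et (LP (LK LD1_c5 LD2_c43 LD3_c34))
theorem f738317 : Led Lsl_et (LP (LK LD1_c5 LD2_c43 LD3_c34)) = v15615 :=
  Lrfl
theorem f622105 : Led Lsl_dt (LP (LK LD1_c5 LD2_c43 LD3_c34)) = (LP (LK LD1_c11 LD2_c17 LD3_c15)) :=
  Lre_d IH (LK LD1_c5 LD2_c43 LD3_c34) (LK LD1_c11 LD2_c17 LD3_c15) Lrfl Lrfl
theorem f622112 : Led Lsl_gt (LP (LK LD1_c11 LD2_c17 LD3_c15)) = (LP (LK LD1_c11 LD2_c20 LD3_c18)) :=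
  Lre_g IH (LK LD1_c11 LD2_c17 LD3_c15) (LK LD1_c11 LD2_c20 LD3_c18) Lrfl Lrfl
theorem f76022 : Led Lsl_dt (LP (LK LD1_c5 LD2_c44 LD3_c59)) = (LP (LK LD1_c11 LD2_c20 LD3_c18)) :=
  Lre_d IH (LK LD1_c5 LD2_c44 LD3_c59) (LK LD1_c11 LD2_c20 LD3_c18) Lrfl Lrfl
theorem f75878 : Led Lsl_et (LP (LK LD1_c5 LD2_c44 LD3_c59)) = (LP (LK LD1_c2 LD2_c48 LD3_c16)) :=
  Lre_e IH (LK LD1_c5 LD2_c44 LD3_c59) (LK LD1_c2 LD2_c48 LD3_c16) Lrfl Lrfl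
theorem f738319 : Led Lsl_gt (LP (LK LD1_c6 LD2_c1 LD3_c12)) = v15615 :=
  Lgr Lrot131 (Lpe (K56.f645112 IH) (Lpr_dt (K53.f500842 IH) (Lpe (K32.f140847 IH) (Lpe (K41.f383329 IH) (Lpe (K5.f75865 IH) (Lpe (f75878 IH) (Lpr_dt (f76022 IH) (Lpe (f622112 IH) (Lpe (f622105 IH) (Lpr_et (f738317 IH) (Lpn v15615)))))))))))
theorem f961080 : Led Lsl_at v37923 = v15615 :=
  Lgr Lrot26 (Lpe (f897629 IH) (Lpqs (f961079 IH) (Lpe (K56.f749603 IH) (Lpr_gt (f738319 IH) (Lpn v15615)))))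
def v37922 : LQ := Led Lsl_at (LP (LK LD1_c9 LD2_c2 LD3_c14))
theorem f897611 : Led Lsl_at (LP (LK LD1_c9 LD2_c2 LD3_c14)) = v37922 :=
  Lrfl
theorem f897612 : Led Lsl_af (LP (LK LD1_c9 LD2_c2 LD3_c14)) = v37922 :=
  Lgr Lrot0 (Lpr_at (f897611 IH) (Lpn v37922))
theorem f738318 : Led Lsl_ef (LP (LK LD1_c5 LD2_c43 LD3_c34)) = v15615 :=
  Lgr Lrot88 (Lpr_et (f738317 IH) (Lpn v15615))
theorem f961083 : v37922 = (LP (LK LD1_c5 LD2_c43 LD3_c34)) :=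
  (Llr Lrot50 (Lpe (f897612 IH) (Lpr_et (f897622 IH) (Lpr_at (f961080 IH) (Lpe (f738318 IH) (Lpn (LP (LK LD1_c5 LD2_c43 LD3_c34)))))))).symm
theorem f638920 : Led Lsl_at (LP (LK LD1_c11 LD2_c14 LD3_c42)) = (LP (LK LD1_c5 LD2_c42 LD3_c14)) :=
  Lre_a IH (LK LD1_c11 LD2_c14 LD3_c42) (LK LD1_c5 LD2_c42 LD3_c14) Lrfl Lrfl
theorem f897614 : Led Lsl_ff (LP (LK LD1_c11 LD2_c14 LD3_c42)) = v37922 :=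
  Lgr Lrot30 (Lpr_at (f638920 IH) (Lpr_ft (K74.f738070 IH) (Lpqs (K74.f824058 IH) (Lpr_at (f897611 IH) (Lpn v37922)))))
theorem f638925 : Led Lsl_gt (LP (LK LD1_c11 LD2_c14 LD3_c41)) = (LP (LK LD1_c5 LD2_c42 LD3_c14)) :=
  Lre_g IH (LK LD1_c11 LD2_c14 LD3_c41) (LK LD1_c5 LD2_c42 LD3_c14) Lrfl Lrfl
theorem f897618 : Led Lsl_gf (LP (LK LD1_c11 LD2_c14 LD3_c41)) = v37922 :=
  Lgr Lrot47 (Lpr_gt (f638925 IH) (Lpe (f638920 IH) (Lpr_ff (f897614 IH) (Lpn v37922))))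
theorem f961085 : Led Lsl_gt (LP (LK LD1_c5 LD2_c43 LD3_c34)) = (LP (LK LD1_c11 LD2_c14 LD3_c41)) :=
  Leop (Lpr_gf (f897618 IH) (Lpqs (f961083 IH) (Lpn (LP (LK LD1_c5 LD2_c43 LD3_c34)))))
theorem seed_2834 : LEOK LG_g (LK LD1_c5 LD2_c43 LD3_c34) :=
  Leoe_g (LK LD1_c5 LD2_c43 LD3_c34) (f961085 IH)
def v47285 : LQ := Led Lsl_at (LP (LK LD1_c11 LD2_c17 LD3_c14))
theorem f957847 : Led Lsl_at (LP (LK LD1_c11 LD2_c17 LD3_c14)) = v47285 :=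
  Lrfl
theorem f622102 : Led Lsl_ct (LP (LK LD1_c5 LD2_c43 LD3_c34)) = (LP (LK LD1_c11 LD2_c17 LD3_c14)) :=
  Lre_c IH (LK LD1_c5 LD2_c43 LD3_c34) (LK LD1_c11 LD2_c17 LD3_c14) Lrfl Lrfl
def v15613 : LQ := Led Lsl_at (LP (LK LD1_c5 LD2_c43 LD3_c34))
theorem f738311 : Led Lsl_at (LP (LK LD1_c5 LD2_c43 LD3_c34)) = v15613 :=
  Lrfl
theorem f738312 : Led Lsl_af (LP (LK LD1_c5 LD2_c43 LD3_c34)) = v15613 :=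
  Lgr Lrot0 (Lpr_at (f738311 IH) (Lpn v15613))
theorem f957849 : Led Lsl_cf v15613 = v47285 :=
  Lgr Lrot1 (Lpe (f738312 IH) (Lpr_ct (f622102 IH) (Lpr_at (f957847 IH) (Lpn v47285))))
theorem f622101 : Led Lsl_gt (LP (LK LD1_c2 LD2_c47 LD3_c47)) = (LP (LK LD1_c5 LD2_c43 LD3_c34)) :=
  Lre_g IH (LK LD1_c2 LD2_c47 LD3_c47) (LK LD1_c5 LD2_c43 LD3_c34) Lrfl Lrfl
def v4782 : LQ := Led Lsl_gf (LP (LK LD1_c2 LD2_c47 LD3_c47))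
theorem f638958 : Led Lsl_gf (LP (LK LD1_c2 LD2_c47 LD3_c47)) = v4782 :=
  Lrfl
theorem f738313 : Led Lsl_ft v4782 = v15613 :=
  Lgr Lrot2 (Lpe (f638958 IH) (Lpr_gt (f622101 IH) (Lpr_af (f738312 IH) (Lpn v15613))))
theorem f738314 : Led Lsl_ff v4782 = v15613 :=
  Lgr Lrot3 (Lpr_ft (f738313 IH) (Lpn v15613))
def v24512 : LQ := Led Lsl_ct v4782
theorem f824494 : Led Lsl_ct v4782 = v24512 :=
  Lrfl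
theorem f957851 : Led Lsl_ft v24512 = v47285 :=
  Lgr Lrot4 (Lpe (f824494 IH) (Lpr_ff (f738314 IH) (Lpr_cf (f957849 IH) (Lpn v47285))))
theorem f957848 : Led Lsl_af (LP (LK LD1_c11 LD2_c17 LD3_c14)) = v47285 :=
  Lgr Lrot0 (Lpr_at (f957847 IH) (Lpn v47285))
def v47284 : LQ := Led Lsl_gf (LP (LK LD1_c11 LD2_c17 LD3_c14))
theorem f957846 : Led Lsl_gf (LP (LK LD1_c11 LD2_c17 LD3_c14)) = v47284 :=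
  Lrfl
theorem f957853 : Led Lsl_gt v24512 = v47284 :=
  Lgr Lrot5 (Lpr_ft (f957851 IH) (Lpe (f957848 IH) (Lpr_gf (f957846 IH) (Lpn v47284))))
def v47106 : LQ := Led Lsl_gt (LP (LK LD1_c11 LD2_c14 LD3_c43))
theorem f956908 : Led Lsl_gt (LP (LK LD1_c11 LD2_c14 LD3_c43)) = v47106 :=
  Lrfl
theorem f174307 : Led Lsl_ct (LP (LK LD1_c5 LD2_c42 LD3_c14)) = (LP (LK LD1_c11 LD2_c14 LD3_c43)) :=
  Lre_c IH (LK LD1_c5 LD2_c42 LD3_c14) (LK LD1_c11 LD2_c14 LD3_c43) Lrfl Lrfl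
theorem f738241 : Led Lsl_ff (LP (LK LD1_c5 LD2_c43 LD3_c15)) = K65.v15605 :=
  Lgr Lrot3 (Lpr_ft (K65.f738237 IH) (Lpn K65.v15605))
theorem f381771 : Led Lsl_at (LP (LK LD1_c5 LD2_c43 LD3_c15)) = (LP (LK LD1_c2 LD2_c47 LD3_c47)) :=
  Lre_a IH (LK LD1_c5 LD2_c43 LD3_c15) (LK LD1_c2 LD2_c47 LD3_c47) Lrfl Lrfl
theorem f738246 : Led Lsl_gf v4782 = K65.v15605 :=
  Lgr Lrot47 (Lpe (f638958 IH) (Lpe (f381771 IH) (Lpr_ff (f738241 IH) (Lpn K65.v15605))))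
theorem f738243 : Led Lsl_at (LP (LK LD1_c5 LD2_c43 LD3_c35)) = K65.v15605 :=
  Lgr Lrot66 (Lpe (K54.f622098 IH) (Lpe (f381771 IH) (Lpr_ff (f738241 IH) (Lpn K65.v15605))))
theorem f738247 : Led Lsl_gt (LP (LK LD1_c5 LD2_c43 LD3_c34)) = K65.v15605 :=
  Lgr Lrot46 (Lpe (f622101 IH) (Lpr_ft (K54.f622098 IH) (Lpr_at (f738243 IH) (Lpn K65.v15605))))
theorem f961084 : (LP (LK LD1_c11 LD2_c14 LD3_c41)) = K65.v15605 :=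
  Lefun (Lecon (Lfl_gf (f897618 IH)) (f961083 IH)) (f738247 IH)
theorem f961096 : v4782 = (LP (LK LD1_c5 LD2_c42 LD3_c14)) :=
  Lefun (Lecon (Lfl_gf (f738246 IH)) (f961084 IH).symm) (f638925 IH)
theorem f961136 : v24512 = (LP (LK LD1_c11 LD2_c14 LD3_c43)) :=
  Lefun (Lecon (f824494 IH) (f961096 IH)) (f174307 IH)
theorem f961139 : v47284 = v47106 :=
  Lefun (Lecon (f957853 IH) (f961136 IH)) (f956908 IH)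
def v15614 : LQ := Led Lsl_bt (LP (LK LD1_c5 LD2_c43 LD3_c34))
theorem f738315 : Led Lsl_bt (LP (LK LD1_c5 LD2_c43 LD3_c34)) = v15614 :=
  Lrfl
theorem f824050 : (LP (LK LD1_c2 LD2_c47 LD3_c4)) = K74.v12823 :=
  Lefun (Lecon (Lfl_ff (K69.f638918 IH)) (K69.f824031 IH)) (K74.f698406 IH)
theorem f281896 : Led Lsl_bt (LP (LK LD1_c5 LD2_c42 LD3_c12)) = (LP (LK LD1_c2 LD2_c47 LD3_c4)) :=
  Lre_b IH (LK LD1_c5 LD2_c42 LD3_c12) (LK LD1_c2 LD2_c47 LD3_c4) Lrfl Lrfl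
def v15560 : LQ := Led Lsl_at (LP (LK LD1_c5 LD2_c42 LD3_c12))
theorem f738032 : Led Lsl_at (LP (LK LD1_c5 LD2_c42 LD3_c12)) = v15560 :=
  Lrfl
theorem f738033 : Led Lsl_af (LP (LK LD1_c5 LD2_c42 LD3_c12)) = v15560 :=
  Lgr Lrot0 (Lpr_at (f738032 IH) (Lpn v15560))
theorem f897613 : Led Lsl_bf v15560 = v37922 :=
  Lgr Lrot81 (Lpe (f738033 IH) (Lpr_bt (f281896 IH) (Lpqs (f824050 IH) (Lpe (K74.f698404 IH) (Lpr_bt (K74.f698405 IH) (Lpr_at (f897611 IH) (Lpn v37922)))))))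
theorem f961090 : v15560 = v15614 :=
  Lefun (Lecon (Lfl_bf (f897613 IH)) (f961083 IH)) (f738315 IH)
def v15562 : LQ := Led Lsl_ft (LP (LK LD1_c5 LD2_c42 LD3_c12))
theorem f738039 : Led Lsl_ft (LP (LK LD1_c5 LD2_c42 LD3_c12)) = v15562 :=
  Lrfl
theorem f738041 : Led Lsl_ff (LP (LK LD1_c5 LD2_c42 LD3_c12)) = v15562 :=
  Lgr Lrot3 (Lpr_ft (f738039 IH) (Lpn v15562))
theorem f738043 : Led Lsl_bt K69.v4773 = v15562 :=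
  Lgr Lrot35 (Lpe (K69.f638916 IH) (Lpe (f281896 IH) (Lpr_ff (f738041 IH) (Lpn v15562))))
theorem f824037 : v15562 = (LP (LK LD1_c9 LD2_c2 LD3_c16)) :=
  Lefun (Lecon (f738043 IH) (K69.f824031 IH)) (K69.f698408 IH)
theorem f897137 : Led Lsl_ft v15560 = (LP (LK LD1_c16 LD2_c52 LD3_c27)) :=
  Lgr Lrot101 (Lpe (f738032 IH) (Lpr_ff (f738041 IH) (Lpqs (f824037 IH) (Lpr_af (K74.f897131 IH) (Lpn (LP (LK LD1_c16 LD2_c52 LD3_c27)))))))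
theorem f897639 : Led Lsl_gt v15560 = K69.v37926 :=
  Lgr Lrot5 (Lpr_ft (f897137 IH) (Lpe (K74.f897131 IH) (Lpr_gf (K69.f897638 IH) (Lpn K69.v37926))))
theorem f897994 : v15560 = (LP (LK LD1_c9 LD2_c3 LD3_c14)) :=
  Lefun (Lecon (Lfl_gt (f897639 IH)) (K69.f897991 IH)) (K69.f566542 IH)
theorem f613396 : Led Lsl_bt (LP (LK LD1_c9 LD2_c1 LD3_c31)) = (LP (LK LD1_c16 LD2_c51 LD3_c29)) :=
  Lre_b IH (LK LD1_c9 LD2_c1 LD3_c31) (LK LD1_c16 LD2_c51 LD3_c29) Lrfl Lrfl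
theorem f896726 : Led Lsl_ff (LP (LK LD1_c11 LD2_c12 LD3_c12)) = (LP (LK LD1_c16 LD2_c51 LD3_c29)) :=
  Lgr Lrot25 (Lpr_bt (K74.f613349 IH) (Lpr_ft (K69.f737790 IH) (Lpqs (K69.f896718 IH) (Lpr_bt (f613396 IH) (Lpn (LP (LK LD1_c16 LD2_c51 LD3_c29)))))))
def v40673 : LQ := Led Lsl_gf (LP (LK LD1_c9 LD2_c45 LD3_c21))
theorem f918407 : Led Lsl_gf (LP (LK LD1_c9 LD2_c45 LD3_c21)) = v40673 :=
  Lrfl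
theorem f956163 : (LP (LK LD1_c16 LD2_c51 LD3_c29)) = v40673 :=
  (Llr Lrot52 (Lpe (f896726 IH) (Lpr_at (f955619 IH) (Lpqs (f956158 IH) (Lpe (f495877 IH) (Lpr_gf (f918407 IH) (Lpn v40673))))))).symm
theorem f961200 : (LP (LK LD1_c17 LD2_c54 LD3_c60)) = v47106 :=
  (Llr Lrot91 (Lpe (K74.f580146 IH) (Lpr_gf (f918407 IH) (Lpq (f956163 IH) (Lpe (f613396 IH) (Lpr_ct (K69.f897179 IH) (Lpr_gf (K69.f897988 IH) (Lpe (K69.f897984 IH) (Lpr_bt (K66.f281864 IH) (Lpr_gf (K69.f566542 IH) (Lpq (f897994 IH) (Lpqs (f961090 IH) (Lpe (f738315 IH) (Lpr_ct (f622102 IH) (Lpr_gf (f957846 IH) (Lpqs (f961139 IH) (Lpn v47106))))))))))))))))).symm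
theorem f961201 : Led Lsl_gt (LP (LK LD1_c17 LD2_c54 LD3_c60)) = (LP (LK LD1_c11 LD2_c17 LD3_c14)) :=
  Leop (Lpr_gf (f957846 IH) (Lpqs (f961139 IH) (Lpq (f961200 IH) (Lpn (LP (LK LD1_c17 LD2_c54 LD3_c60))))))
theorem seed_2835 : LEOK LG_g (LK LD1_c17 LD2_c54 LD3_c60) :=
  Leoe_g (LK LD1_c17 LD2_c54 LD3_c60) (f961201 IH)
theorem f589389 : Led Lsl_bf (LP (LK LD1_c11 LD2_c24 LD3_c35)) = (LP (LK LD1_c7 LD2_c59 LD3_c18)) :=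
  Lgr Lrot24 (Lpr_bt (K74.f589387 IH) (Lpn (LP (LK LD1_c7 LD2_c59 LD3_c18))))
theorem f589392 : Led Lsl_bt (LP (LK LD1_c9 LD2_c45 LD3_c21)) = (LP (LK LD1_c17 LD2_c54 LD3_c57)) :=
  Lgr Lrot62 (Lpr_af (K74.f580142 IH) (Lpr_bf (f589389 IH) (Lpe (K74.f580157 IH) (Lpe (K74.f402609 IH) (Lpe (K74.f589289 IH) (Lpn (LP (LK LD1_c17 LD2_c54 LD3_c57))))))))
def v46816 : LQ := Led Lsl_ct (LP (LK LD1_c11 LD2_c11 LD3_c49))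
theorem f955409 : Led Lsl_ct (LP (LK LD1_c11 LD2_c11 LD3_c49)) = v46816 :=
  Lrfl
theorem f380523 : Led Lsl_bt (LP (LK LD1_c11 LD2_c11 LD3_c49)) = (LP (LK LD1_c5 LD2_c40 LD3_c33)) :=
  Lre_b IH (LK LD1_c11 LD2_c11 LD3_c49) (LK LD1_c5 LD2_c40 LD3_c33) Lrfl Lrfl
theorem f955412 : Led Lsl_gf (LP (LK LD1_c16 LD2_c52 LD3_c21)) = v46816 :=
  Lgr Lrot126 (Lpe (K16.f280337 IH) (Lpr_bt (K16.f280335 IH) (Lpe (K54.f281904 IH) (Lpr_ct (K54.f638922 IH) (Lpq (K54.f738100 IH) (Lpe (K54.f638519 IH) (Lpe (K69.f380510 IH) (Lpr_bt (K50.f380486 IH) (Lpr_gt (K74.f380497 IH) (Lpe (f380523 IH) (Lpr_ct (f955409 IH) (Lpn v46816))))))))))))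
def v46814 : LQ := Led Lsl_gf (LP (LK LD1_c11 LD2_c11 LD3_c49))
theorem f955404 : Led Lsl_gf (LP (LK LD1_c11 LD2_c11 LD3_c49)) = v46814 :=
  Lrfl
theorem f961214 : (LP (LK LD1_c17 LD2_c54 LD3_c57)) = v46814 :=
  (Llr Lrot130 (Lpe (f589392 IH) (Lpr_ct (K74.f580146 IH) (Lpqs (f961200 IH) (Lpe (f956908 IH) (Lpe (f174307 IH) (Lpr_bt (K74.f174306 IH) (Lpr_gf (K54.f281904 IH) (Lpe (K16.f280335 IH) (Lpr_ct (K16.f280337 IH) (Lpr_gf (f955412 IH) (Lpe (f955409 IH) (Lpr_gf (f955404 IH) (Lpn v46814)))))))))))))).symm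
theorem f961215 : Led Lsl_gt (LP (LK LD1_c17 LD2_c54 LD3_c57)) = (LP (LK LD1_c11 LD2_c11 LD3_c49)) :=
  Leop (Lpr_gf (f955404 IH) (Lpq (f961214 IH) (Lpn (LP (LK LD1_c17 LD2_c54 LD3_c57)))))
theorem seed_2836 : LEOK LG_g (LK LD1_c17 LD2_c54 LD3_c57) :=
  Leoe_g (LK LD1_c17 LD2_c54 LD3_c57) (f961215 IH)
def v46867 : LQ := Led Lsl_ct (LP (LK LD1_c11 LD2_c12 LD3_c12))
theorem f955621 : Led Lsl_ct (LP (LK LD1_c11 LD2_c12 LD3_c12)) = v46867 :=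
  Lrfl
theorem f697981 : Led Lsl_gf K54.v4697 = K64.v12750 :=
  Lgr Lrot47 (Lpe (K54.f638519 IH) (Lpr_af (K64.f390225 IH) (Lpr_ff (K64.f697976 IH) (Lpn K64.v12750))))
def v15566 : LQ := Led Lsl_gt (LP (LK LD1_c5 LD2_c42 LD3_c14))
theorem f738063 : Led Lsl_gt (LP (LK LD1_c5 LD2_c42 LD3_c14)) = v15566 :=
  Lrfl
theorem f897615 : Led Lsl_gt v15566 = v37922 :=
  Lgr Lrot46 (Lpe (f738063 IH) (Lpr_ft (K74.f738070 IH) (Lpqs (K74.f824058 IH) (Lpr_at (f897611 IH) (Lpn v37922)))))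
theorem f961086 : v15566 = (LP (LK LD1_c2 LD2_c47 LD3_c47)) :=
  Lefun (Lecon (Lfl_gt (f897615 IH)) (f961083 IH)) (Lfl_gt (f622101 IH))
theorem f382387 : Led Lsl_ct (LP (LK LD1_c2 LD2_c47 LD3_c47)) = (LP (LK LD1_c5 LD2_c43 LD3_c32)) :=
  Lre_c IH (LK LD1_c2 LD2_c47 LD3_c47) (LK LD1_c5 LD2_c43 LD3_c32) Lrfl Lrfl
theorem f381537 : Led Lsl_gt (LP (LK LD1_c5 LD2_c43 LD3_c32)) = (LP (LK LD1_c11 LD2_c17 LD3_c9)) :=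
  Lre_g IH (LK LD1_c5 LD2_c43 LD3_c32) (LK LD1_c11 LD2_c17 LD3_c9) Lrfl Lrfl
theorem f961221 : v46867 = (LP (LK LD1_c11 LD2_c17 LD3_c9)) :=
  (Llr Lrot63 (Lpe (f955621 IH) (Lpr_bt (K74.f613349 IH) (Lpe (K69.f613575 IH) (Lpe (K50.f379917 IH) (Lpr_ct (K64.f697979 IH) (Lpe (f697981 IH) (Lpqs (K54.f738100 IH) (Lpe (K54.f638922 IH) (Lpr_bt (K74.f638909 IH) (Lpr_gt (f738063 IH) (Lpqs (f961086 IH) (Lpr_ct (f382387 IH) (Lpr_gt (f381537 IH) (Lpn (LP (LK LD1_c11 LD2_c17 LD3_c9))))))))))))))))).symm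
theorem f961223 : Led Lsl_ct (LP (LK LD1_c11 LD2_c12 LD3_c12)) = (LP (LK LD1_c11 LD2_c17 LD3_c9)) :=
  Leop (Lpq (f961221 IH) (Lpe (f955621 IH) (Lpn (LP (LK LD1_c11 LD2_c12 LD3_c12)))))
theorem seed_2837 : LEOK LG_c (LK LD1_c11 LD2_c12 LD3_c12) :=
  Leoe_c (LK LD1_c11 LD2_c12 LD3_c12) (f961223 IH)
def v47278 : LQ := Led Lsl_ft (LP (LK LD1_c11 LD2_c17 LD3_c9))
theorem f957827 : Led Lsl_ft (LP (LK LD1_c11 LD2_c17 LD3_c9)) = v47278 :=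
  Lrfl
theorem f961225 : Led Lsl_cf (LP (LK LD1_c16 LD2_c51 LD3_c29)) = v47278 :=
  Lgr Lrot108 (Lpe (f896726 IH) (Lpr_ct (f955621 IH) (Lpqs (f961221 IH) (Lpr_ft (f957827 IH) (Lpn v47278)))))
theorem f896728 : Led Lsl_ft (LP (LK LD1_c11 LD2_c12 LD3_c12)) = (LP (LK LD1_c16 LD2_c51 LD3_c29)) :=
  Lgr Lrot48 (Lpr_ff (f896726 IH) (Lpn (LP (LK LD1_c16 LD2_c51 LD3_c29))))
theorem f961063 : Led Lsl_at (LP (LK LD1_c16 LD2_c51 LD3_c29)) = v47982 :=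
  Lgr Lrot66 (Lpe (f896728 IH) (Lpr_af (f955620 IH) (Lpqs (f956158 IH) (Lpr_ff (f961062 IH) (Lpn v47982)))))
theorem f957829 : Led Lsl_ff (LP (LK LD1_c11 LD2_c17 LD3_c9)) = v47278 :=
  Lgr Lrot3 (Lpr_ft (f957827 IH) (Lpn v47278))
def v47273 : LQ := Led Lsl_at (LP (LK LD1_c11 LD2_c17 LD3_c9))
theorem f957814 : Led Lsl_at (LP (LK LD1_c11 LD2_c17 LD3_c9)) = v47273 :=
  Lrfl
theorem f957815 : Led Lsl_af (LP (LK LD1_c11 LD2_c17 LD3_c9)) = v47273 :=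
  Lgr Lrot0 (Lpr_at (f957814 IH) (Lpn v47273))
theorem f381630 : Led Lsl_gt (LP (LK LD1_c11 LD2_c17 LD3_c10)) = (LP (LK LD1_c5 LD2_c43 LD3_c32)) :=
  Lre_g IH (LK LD1_c11 LD2_c17 LD3_c10) (LK LD1_c5 LD2_c43 LD3_c32) Lrfl Lrfl
theorem f957816 : Led Lsl_ft (LP (LK LD1_c11 LD2_c17 LD3_c10)) = v47273 :=
  Lgr Lrot2 (Lpr_gt (f381630 IH) (Lpr_gt (f381537 IH) (Lpr_af (f957815 IH) (Lpn v47273))))
theorem f957817 : Led Lsl_ff (LP (LK LD1_c11 LD2_c17 LD3_c10)) = v47273 :=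
  Lgr Lrot3 (Lpr_ft (f957816 IH) (Lpn v47273))
theorem f957830 : Led Lsl_at (LP (LK LD1_c11 LD2_c17 LD3_c10)) = v47278 :=
  Lgr Lrot66 (Lpr_ff (f957817 IH) (Lpe (f957814 IH) (Lpr_ff (f957829 IH) (Lpn v47278))))
theorem f622103 : Led Lsl_ct (LP (LK LD1_c20 LD2_c13 LD3_c13)) = (LP (LK LD1_c11 LD2_c17 LD3_c10)) :=
  Lre_c IH (LK LD1_c20 LD2_c13 LD3_c13) (LK LD1_c11 LD2_c17 LD3_c10) Lrfl Lrfl
theorem f961227 : v47982 = (LP (LK LD1_c20 LD2_c13 LD3_c13)) :=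
  (Llr Lrot107 (Lpe (f961063 IH) (Lpr_cf (f961225 IH) (Lpe (f957830 IH) (Lpe (f622103 IH) (Lpn (LP (LK LD1_c20 LD2_c13 LD3_c13)))))))).symm
theorem f961228 : Led Lsl_gt (LP (LK LD1_c20 LD2_c13 LD3_c13)) = (LP (LK LD1_c11 LD2_c24 LD3_c35)) :=
  Leop (Lpr_gf (f961055 IH) (Lpqs (f961227 IH) (Lpn (LP (LK LD1_c20 LD2_c13 LD3_c13)))))
theorem seed_2838 : LEOK LG_g (LK LD1_c20 LD2_c13 LD3_c13) :=
  Leoe_g (LK LD1_c20 LD2_c13 LD3_c13) (f961228 IH)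
def v14072 : LQ := Led Lsl_et (LP (LK LD1_c4 LD2_c57 LD3_c3))
theorem f718868 : Led Lsl_et (LP (LK LD1_c4 LD2_c57 LD3_c3)) = v14072 :=
  Lrfl
theorem f542192 : Led Lsl_et (LP (LK LD1_c11 LD2_c24 LD3_c35)) = (LP (LK LD1_c5 LD2_c47 LD3_c11)) :=
  Lre_e IH (LK LD1_c11 LD2_c24 LD3_c35) (LK LD1_c5 LD2_c47 LD3_c11) Lrfl Lrfl
theorem f718871 : Led Lsl_df (LP (LK LD1_c11 LD2_c24 LD3_c35)) = v14072 :=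
  Lgr Lrot70 (Lpr_et (f542192 IH) (Lpr_dt (K66.f542181 IH) (Lpe (K37.f542190 IH) (Lpq (K44.f579844 IH) (Lpr_dt (K66.f579839 IH) (Lpr_et (f718868 IH) (Lpn v14072)))))))
theorem f718872 : Led Lsl_ef (LP (LK LD1_c4 LD2_c57 LD3_c3)) = v14072 :=
  Lgr Lrot88 (Lpr_et (f718868 IH) (Lpn v14072))
theorem f157830 : Led Lsl_ct (LP (LK LD1_c7 LD2_c59 LD3_c19)) = (LP (LK LD1_c15 LD2_c3 LD3_c60)) :=
  Lre_c IH (LK LD1_c7 LD2_c59 LD3_c19) (LK LD1_c15 LD2_c3 LD3_c60) Lrfl Lrfl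
theorem f157831 : Led Lsl_ct (LP (LK LD1_c15 LD2_c3 LD3_c60)) = (LP (LK LD1_c7 LD2_c59 LD3_c19)) :=
  Lre_c IH (LK LD1_c15 LD2_c3 LD3_c60) (LK LD1_c7 LD2_c59 LD3_c19) Lrfl Lrfl
theorem f542212 : Led Lsl_gt (LP (LK LD1_c9 LD2_c2 LD3_c39)) = (LP (LK LD1_c15 LD2_c3 LD3_c60)) :=
  Lgr Lrot150 (Lpe (K42.f226760 IH) (Lpe (K39.f226738 IH) (Lpe (K16.f174567 IH) (Lpr_gt (K30.f174542 IH) (Lpr_ct (K30.f174543 IH) (Lpe (K39.f423602 IH) (Lpr_ct (K39.f542197 IH) (Lpe (K37.f157832 IH) (Lpe (f157831 IH) (Lpn (LP (LK LD1_c15 LD2_c3 LD3_c60))))))))))))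
theorem f606037 : Led Lsl_gf (LP (LK LD1_c2 LD2_c46 LD3_c14)) = (LP (LK LD1_c4 LD2_c57 LD3_c3)) :=
  Lgr Lrot124 (Lpe (K43.f226756 IH) (Lpr_ct (K12.f226736 IH) (Lpr_gt (K12.f165010 IH) (Lpe (K12.f181786 IH) (Lpr_bt (K39.f226712 IH) (Lpr_gt (K39.f226738 IH) (Lpr_ct (K42.f226760 IH) (Lpr_gt (f542212 IH) (Lpe (f157830 IH) (Lpr_bt (K71.f580259 IH) (Lpn (LP (LK LD1_c4 LD2_c57 LD3_c3)))))))))))))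
theorem f289468 : Led Lsl_dt (LP (LK LD1_c2 LD2_c46 LD3_c14)) = (LP (LK LD1_c2 LD2_c12 LD3_c30)) :=
  Lgr Lrot42 (Lpr_df (K20.f289442 IH) (Lpn (LP (LK LD1_c2 LD2_c12 LD3_c30))))
theorem f383291 : Led Lsl_et (LP (LK LD1_c2 LD2_c26 LD3_c38)) = (LP (LK LD1_c4 LD2_c57 LD3_c32)) :=
  Lre_e IH (LK LD1_c2 LD2_c26 LD3_c38) (LK LD1_c4 LD2_c57 LD3_c32) Lrfl Lrfl
theorem f383312 : Led Lsl_gt (LP (LK LD1_c4 LD2_c57 LD3_c32)) = (LP (LK LD1_c9 LD2_c45 LD3_c55)) :=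
  Lre_g IH (LK LD1_c4 LD2_c57 LD3_c32) (LK LD1_c9 LD2_c45 LD3_c55) Lrfl Lrfl
theorem f383313 : Led Lsl_et (LP (LK LD1_c17 LD2_c55 LD3_c37)) = (LP (LK LD1_c9 LD2_c45 LD3_c55)) :=
  Lre_e IH (LK LD1_c17 LD2_c55 LD3_c37) (LK LD1_c9 LD2_c45 LD3_c55) Lrfl Lrfl
theorem f961058 : Led Lsl_dt (LP (LK LD1_c17 LD2_c55 LD3_c37)) = v47982 :=
  Lgr Lrot136 (Lpr_et (f383313 IH) (Lpe (f383312 IH) (Lpe (f383291 IH) (Lpe (K39.f383289 IH) (Lpe (K39.f211836 IH) (Lpe (f289468 IH) (Lpr_gf (f606037 IH) (Lpr_ef (f718872 IH) (Lpe (f718871 IH) (Lpr_gf (f961055 IH) (Lpn v47982)))))))))))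
theorem f961059 : Led Lsl_df (LP (LK LD1_c17 LD2_c55 LD3_c37)) = v47982 :=
  Lgr Lrot38 (Lpr_dt (f961058 IH) (Lpn v47982))
theorem f961233 : Led Lsl_dt (LP (LK LD1_c20 LD2_c13 LD3_c13)) = (LP (LK LD1_c17 LD2_c55 LD3_c37)) :=
  Leop (Lpr_df (f961059 IH) (Lpqs (f961227 IH) (Lpn (LP (LK LD1_c20 LD2_c13 LD3_c13)))))
theorem seed_2839 : LEOK LG_d (LK LD1_c20 LD2_c13 LD3_c13) :=
  Leoe_d (LK LD1_c20 LD2_c13 LD3_c13) (f961233 IH)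
theorem f823214 : Led Lsl_dt (LP (LK LD1_c16 LD2_c49 LD3_c48)) = (LP (LK LD1_c9 LD2_c0 LD3_c24)) :=
  Lre_d IH (LK LD1_c16 LD2_c49 LD3_c48) (LK LD1_c9 LD2_c0 LD3_c24) Lrfl Lrfl
def v37819 : LQ := Led Lsl_gt (LP (LK LD1_c9 LD2_c0 LD3_c24))
theorem f896817 : Led Lsl_gt (LP (LK LD1_c9 LD2_c0 LD3_c24)) = v37819 :=
  Lrfl
def v15397 : LQ := Led Lsl_ft (LP (LK LD1_c5 LD2_c38 LD3_c29))
theorem f736118 : Led Lsl_ft (LP (LK LD1_c5 LD2_c38 LD3_c29)) = v15397 :=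
  Lrfl
theorem f736120 : Led Lsl_ff (LP (LK LD1_c5 LD2_c38 LD3_c29)) = v15397 :=
  Lgr Lrot3 (Lpr_ft (f736118 IH) (Lpn v15397))
theorem f319364 : Led Lsl_bt (LP (LK LD1_c5 LD2_c38 LD3_c29)) = (LP (LK LD1_c2 LD2_c45 LD3_c6)) :=
  Lre_b IH (LK LD1_c5 LD2_c38 LD3_c29) (LK LD1_c2 LD2_c45 LD3_c6) Lrfl Lrfl
theorem f736121 : Led Lsl_bt K69.v4735 = v15397 :=
  Lgr Lrot35 (Lpe (K69.f638764 IH) (Lpe (f319364 IH) (Lpr_ff (f736120 IH) (Lpn v15397))))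
theorem f698263 : Led Lsl_bt (LP (LK LD1_c4 LD2_c31 LD3_c11)) = (LP (LK LD1_c9 LD2_c0 LD3_c24)) :=
  Lre_b IH (LK LD1_c4 LD2_c31 LD3_c11) (LK LD1_c9 LD2_c0 LD3_c24) Lrfl Lrfl
theorem f896685 : v15397 = (LP (LK LD1_c9 LD2_c0 LD3_c24)) :=
  Lefun (Lecon (f736121 IH) (K69.f896679 IH)) (f698263 IH)
def v15395 : LQ := Led Lsl_at (LP (LK LD1_c5 LD2_c38 LD3_c29))
theorem f736113 : Led Lsl_at (LP (LK LD1_c5 LD2_c38 LD3_c29)) = v15395 :=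
  Lrfl
theorem f896818 : Led Lsl_gf v15395 = v37819 :=
  Lgr Lrot76 (Lpe (f736113 IH) (Lpr_ff (f736120 IH) (Lpqs (f896685 IH) (Lpr_gt (f896817 IH) (Lpn v37819)))))
def v46544 : LQ := Led Lsl_at (LP (LK LD1_c11 LD2_c8 LD3_c17))
theorem f954115 : Led Lsl_at (LP (LK LD1_c11 LD2_c8 LD3_c17)) = v46544 :=
  Lrfl
theorem f613406 : Led Lsl_et (LP (LK LD1_c5 LD2_c38 LD3_c29)) = (LP (LK LD1_c11 LD2_c8 LD3_c17)) :=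
  Lre_e IH (LK LD1_c5 LD2_c38 LD3_c29) (LK LD1_c11 LD2_c8 LD3_c17) Lrfl Lrfl
theorem f736114 : Led Lsl_af (LP (LK LD1_c5 LD2_c38 LD3_c29)) = v15395 :=
  Lgr Lrot0 (Lpr_at (f736113 IH) (Lpn v15395))
theorem f954117 : Led Lsl_ef v15395 = v46544 :=
  Lgr Lrot20 (Lpe (f736114 IH) (Lpr_et (f613406 IH) (Lpr_at (f954115 IH) (Lpn v46544))))
theorem f737795 : Led Lsl_at (LP (LK LD1_c11 LD2_c12 LD3_c15)) = (LP (LK LD1_c20 LD2_c6 LD3_c51)) :=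
  Lre_a IH (LK LD1_c11 LD2_c12 LD3_c15) (LK LD1_c20 LD2_c6 LD3_c51) Lrfl Lrfl
theorem f289456 : Led Lsl_bt (LP (LK LD1_c5 LD2_c40 LD3_c51)) = (LP (LK LD1_c11 LD2_c12 LD3_c15)) :=
  Lre_b IH (LK LD1_c5 LD2_c40 LD3_c51) (LK LD1_c11 LD2_c12 LD3_c15) Lrfl Lrfl
theorem f390232 : Led Lsl_bt (LP (LK LD1_c16 LD2_c51 LD3_c29)) = (LP (LK LD1_c9 LD2_c1 LD3_c31)) :=
  Lre_b IH (LK LD1_c16 LD2_c51 LD3_c29) (LK LD1_c9 LD2_c1 LD3_c31) Lrfl Lrfl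
theorem f961060 : Led Lsl_af (LP (LK LD1_c16 LD2_c51 LD3_c29)) = v47982 :=
  Lgr Lrot36 (Lpr_bt (f390232 IH) (Lpq (K69.f896718 IH) (Lpe (K69.f737791 IH) (Lpr_bt (f289456 IH) (Lpr_at (f737795 IH) (Lpr_bt (f961057 IH) (Lpn v47982)))))))
theorem f613397 : Led Lsl_bt (LP (LK LD1_c11 LD2_c8 LD3_c17)) = (LP (LK LD1_c5 LD2_c38 LD3_c31)) :=
  Lre_b IH (LK LD1_c11 LD2_c8 LD3_c17) (LK LD1_c5 LD2_c38 LD3_c31) Lrfl Lrfl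
theorem f613398 : Led Lsl_dt (LP (LK LD1_c16 LD2_c51 LD3_c29)) = (LP (LK LD1_c11 LD2_c8 LD3_c17)) :=
  Lgr Lrot79 (Lpe (f613396 IH) (Lpr_df (K69.f613394 IH) (Lpe (f613397 IH) (Lpn (LP (LK LD1_c11 LD2_c8 LD3_c17))))))
theorem f961239 : (LP (LK LD1_c17 LD2_c55 LD3_c37)) = v46544 :=
  (Llr Lrot18 (Lpr_dt (f961058 IH) (Lpqs (f961227 IH) (Lpq (f961227 IH) (Lpe (f961060 IH) (Lpr_dt (f613398 IH) (Lpr_at (f954115 IH) (Lpn v46544)))))))).symm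
theorem f961242 : v15395 = (LP (LK LD1_c9 LD2_c45 LD3_c55)) :=
  Lefun (Lecon (Lfl_ef (f954117 IH)) (f961239 IH).symm) (f383313 IH)
theorem f961244 : v37819 = (LP (LK LD1_c4 LD2_c57 LD3_c32)) :=
  Lefun (Lecon (f896818 IH) (f961242 IH)) (Lfl_gt (f383312 IH))
def v14085 : LQ := Led Lsl_dt (LP (LK LD1_c4 LD2_c57 LD3_c32))
theorem f718923 : Led Lsl_dt (LP (LK LD1_c4 LD2_c57 LD3_c32)) = v14085 :=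
  Lrfl
theorem f718924 : Led Lsl_df (LP (LK LD1_c4 LD2_c57 LD3_c32)) = v14085 :=
  Lgr Lrot38 (Lpr_dt (f718923 IH) (Lpn v14085))
theorem f718925 : Led Lsl_ef (LP (LK LD1_c5 LD2_c53 LD3_c0)) = v14085 :=
  Lgr Lrot73 (Lpr_dt (K40.f559505 IH) (Lpr_et (K40.f289405 IH) (Lpr_dt (K39.f383258 IH) (Lpr_et (f383291 IH) (Lpr_dt (f718923 IH) (Lpn v14085))))))
def v40906 : LQ := Led Lsl_gt (LP (LK LD1_c9 LD2_c48 LD3_c48))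
theorem f921056 : Led Lsl_gt (LP (LK LD1_c9 LD2_c48 LD3_c48)) = v40906 :=
  Lrfl
theorem f961254 : Led Lsl_et (LP (LK LD1_c16 LD2_c49 LD3_c48)) = v40906 :=
  Lgr Lrot122 (Lpr_dt (f823214 IH) (Lpr_gt (f896817 IH) (Lpqs (f961244 IH) (Lpr_df (f718924 IH) (Lpe (f718925 IH) (Lpr_gt (K40.f449354 IH) (Lpr_dt (K40.f211086 IH) (Lpr_gt (K37.f500372 IH) (Lpq (K38.f545736 IH) (Lpe (K38.f387210 IH) (Lpr_et (K72.f387205 IH) (Lpr_gt (f921056 IH) (Lpn v40906)))))))))))))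
theorem f832658 : Led Lsl_ct (LP (LK LD1_c26 LD2_c47 LD3_c3)) = (LP (LK LD1_c16 LD2_c49 LD3_c48)) :=
  Lre_c IH (LK LD1_c26 LD2_c47 LD3_c3) (LK LD1_c16 LD2_c49 LD3_c48) Lrfl Lrfl
theorem f539432 : Led Lsl_ft (LP (LK LD1_c11 LD2_c47 LD3_c29)) = (LP (LK LD1_c20 LD2_c49 LD3_c35)) :=
  Lre_f IH (LK LD1_c11 LD2_c47 LD3_c29) (LK LD1_c20 LD2_c49 LD3_c35) Lrfl Lrfl
theorem f539124 : Led Lsl_gt (LP (LK LD1_c11 LD2_c47 LD3_c29)) = (LP (LK LD1_c20 LD2_c49 LD3_c32)) :=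
  Lre_g IH (LK LD1_c11 LD2_c47 LD3_c29) (LK LD1_c20 LD2_c49 LD3_c32) Lrfl Lrfl
theorem f545483 : Led Lsl_gt (LP (LK LD1_c20 LD2_c49 LD3_c32)) = (LP (LK LD1_c29 LD2_c23 LD3_c40)) :=
  Lgr Lrot46 (Lpe (f539124 IH) (Lpr_ft (f539432 IH) (Lpr_at (K56.f545477 IH) (Lpn (LP (LK LD1_c29 LD2_c23 LD3_c40))))))
theorem f924609 : Led Lsl_ct v40906 = (LP (LK LD1_c20 LD2_c49 LD3_c32)) :=
  Lgr Lrot186 (Lpe (f921056 IH) (Lpr_dt (K72.f387206 IH) (Lpe (K72.f924607 IH) (Lpr_ct (K72.f924595 IH) (Lpr_gt (K53.f75980 IH) (Lpr_ct (K73.f748576 IH) (Lpe (K71.f621416 IH) (Lpe (K56.f545476 IH) (Lpe (f545483 IH) (Lpn (LP (LK LD1_c20 LD2_c49 LD3_c32))))))))))))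
theorem f961256 : Led Lsl_ef (LP (LK LD1_c26 LD2_c47 LD3_c3)) = (LP (LK LD1_c20 LD2_c49 LD3_c32)) :=
  Lgr Lrot28 (Lpr_ct (f832658 IH) (Lpr_et (f961254 IH) (Lpr_ct (f924609 IH) (Lpn (LP (LK LD1_c20 LD2_c49 LD3_c32))))))
theorem f961257 : Led Lsl_et (LP (LK LD1_c20 LD2_c49 LD3_c32)) = (LP (LK LD1_c26 LD2_c47 LD3_c3)) :=
  Leop (Lpr_ef (f961256 IH) (Lpn (LP (LK LD1_c20 LD2_c49 LD3_c32))))
theorem seed_2840 : LEOK LG_e (LK LD1_c20 LD2_c49 LD3_c32) :=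
  Leoe_e (LK LD1_c20 LD2_c49 LD3_c32) (f961257 IH)
theorem f961258 : Led Lsl_ef (LP (LK LD1_c16 LD2_c49 LD3_c48)) = v40906 :=
  Lgr Lrot88 (Lpr_et (f961254 IH) (Lpn v40906))
theorem f832657 : Led Lsl_ct (LP (LK LD1_c16 LD2_c49 LD3_c48)) = (LP (LK LD1_c26 LD2_c47 LD3_c3)) :=
  Lre_c IH (LK LD1_c16 LD2_c49 LD3_c48) (LK LD1_c26 LD2_c47 LD3_c3) Lrfl Lrfl
theorem f924612 : Led Lsl_cf v40906 = (LP (LK LD1_c20 LD2_c49 LD3_c32)) :=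
  Lgr Lrot11 (Lpr_ct (f924609 IH) (Lpn (LP (LK LD1_c20 LD2_c49 LD3_c32))))
theorem f961260 : Led Lsl_et (LP (LK LD1_c26 LD2_c47 LD3_c3)) = (LP (LK LD1_c20 LD2_c49 LD3_c32)) :=
  Lgr Lrot158 (Lpe (f832657 IH) (Lpr_ef (f961258 IH) (Lpr_cf (f924612 IH) (Lpn (LP (LK LD1_c20 LD2_c49 LD3_c32))))))
theorem f539426 : Led Lsl_et (LP (LK LD1_c6 LD2_c1 LD3_c27)) = (LP (LK LD1_c11 LD2_c47 LD3_c29)) :=
  Lre_e IH (LK LD1_c6 LD2_c1 LD3_c27) (LK LD1_c11 LD2_c47 LD3_c29) Lrfl Lrfl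
theorem f539106 : Led Lsl_gt (LP (LK LD1_c20 LD2_c49 LD3_c31)) = (LP (LK LD1_c11 LD2_c47 LD3_c28)) :=
  Lre_g IH (LK LD1_c20 LD2_c49 LD3_c31) (LK LD1_c11 LD2_c47 LD3_c28) Lrfl Lrfl
theorem f580807 : Led Lsl_gf (LP (LK LD1_c11 LD2_c47 LD3_c38)) = (LP (LK LD1_c6 LD2_c1 LD3_c34)) :=
  Lgr Lrot129 (Lpr_cf (K44.f580795 IH) (Lpe (K37.f450545 IH) (Lpe (K42.f565275 IH) (Lpe (K43.f565277 IH) (Lpr_ct (K43.f565278 IH) (Lpr_gt (K43.f572897 IH) (Lpe (K43.f500543 IH) (Lpr_bt (K37.f546063 IH) (Lpr_gt (K40.f452567 IH) (Lpr_ct (K69.f500917 IH) (Lpn (LP (LK LD1_c6 LD2_c1 LD3_c34)))))))))))))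
theorem f580809 : Led Lsl_dt (LP (LK LD1_c11 LD2_c47 LD3_c38)) = (LP (LK LD1_c20 LD2_c49 LD3_c31)) :=
  Lgr Lrot57 (Lpr_gf (f580807 IH) (Lpe (K69.f500917 IH) (Lpr_gt (K40.f176565 IH) (Lpr_dt (K36.f176564 IH) (Lpr_gt (K36.f9394 IH) (Lpr_dt (K36.f9395 IH) (Lpe (K36.f500894 IH) (Lpe (K40.f500895 IH) (Lpe (f539106 IH) (Lpn (LP (LK LD1_c20 LD2_c49 LD3_c31))))))))))))
theorem f564075 : Led Lsl_et (LP (LK LD1_c11 LD2_c47 LD3_c48)) = (LP (LK LD1_c6 LD2_c1 LD3_c34)) :=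
  Lre_e IH (LK LD1_c11 LD2_c47 LD3_c48) (LK LD1_c6 LD2_c1 LD3_c34) Lrfl Lrfl
theorem f564076 : Led Lsl_dt (LP (LK LD1_c11 LD2_c47 LD3_c48)) = (LP (LK LD1_c20 LD2_c50 LD3_c6)) :=
  Lre_d IH (LK LD1_c11 LD2_c47 LD3_c48) (LK LD1_c20 LD2_c50 LD3_c6) Lrfl Lrfl
theorem f580813 : Led Lsl_gt (LP (LK LD1_c29 LD2_c41 LD3_c52)) = (LP (LK LD1_c20 LD2_c50 LD3_c6)) :=
  Lre_g IH (LK LD1_c29 LD2_c41 LD3_c52) (LK LD1_c20 LD2_c50 LD3_c6) Lrfl Lrfl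
theorem f961262 : Led Lsl_dt (LP (LK LD1_c26 LD2_c47 LD3_c3)) = (LP (LK LD1_c29 LD2_c41 LD3_c52)) :=
  Lgr Lrot136 (Lpr_et (f961260 IH) (Lpe (f539124 IH) (Lpe (f539426 IH) (Lpr_dt (K36.f500897 IH) (Lpe (f539106 IH) (Lpe (f580809 IH) (Lpr_gf (f580807 IH) (Lpe (f564075 IH) (Lpr_dt (f564076 IH) (Lpe (f580813 IH) (Lpn (LP (LK LD1_c29 LD2_c41 LD3_c52)))))))))))))
theorem f597235 : Led Lsl_dt (LP (LK LD1_c20 LD2_c50 LD3_c6)) = (LP (LK LD1_c11 LD2_c47 LD3_c48)) :=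
  Lre_d IH (LK LD1_c20 LD2_c50 LD3_c6) (LK LD1_c11 LD2_c47 LD3_c48) Lrfl Lrfl
theorem f597232 : Led Lsl_ct (LP (LK LD1_c6 LD2_c1 LD3_c35)) = (LP (LK LD1_c11 LD2_c47 LD3_c48)) :=
  Lre_c IH (LK LD1_c6 LD2_c1 LD3_c35) (LK LD1_c11 LD2_c47 LD3_c48) Lrfl Lrfl
def v47378 : LQ := Led Lsl_gf (LP (LK LD1_c11 LD2_c18 LD3_c26))
theorem f958457 : Led Lsl_gf (LP (LK LD1_c11 LD2_c18 LD3_c26)) = v47378 :=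
  Lrfl
theorem f557474 : Led Lsl_dt (LP (LK LD1_c6 LD2_c1 LD3_c35)) = (LP (LK LD1_c11 LD2_c18 LD3_c26)) :=
  Lgr Lrot77 (Lpe (K69.f557473 IH) (Lpr_df (K40.f557463 IH) (Lpe (K40.f557450 IH) (Lpr_df (K40.f384171 IH) (Lpe (K69.f384168 IH) (Lpn (LP (LK LD1_c11 LD2_c18 LD3_c26))))))))
theorem f597233 : Led Lsl_et (LP (LK LD1_c6 LD2_c1 LD3_c35)) = (LP (LK LD1_c2 LD2_c56 LD3_c57)) :=
  Lre_e IH (LK LD1_c6 LD2_c1 LD3_c35) (LK LD1_c2 LD2_c56 LD3_c57) Lrfl Lrfl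
theorem f912795 : Led Lsl_ef (LP (LK LD1_c11 LD2_c47 LD3_c30)) = (LP (LK LD1_c17 LD2_c32 LD3_c11)) :=
  Lgr Lrot88 (Lpr_et (K70.f912791 IH) (Lpn (LP (LK LD1_c17 LD2_c32 LD3_c11))))
theorem f958459 : Led Lsl_dt (LP (LK LD1_c17 LD2_c32 LD3_c11)) = v47378 :=
  Lgr Lrot136 (Lpe (f912795 IH) (Lpe (K70.f539114 IH) (Lpe (K38.f500902 IH) (Lpr_dt (K36.f495291 IH) (Lpe (K36.f9394 IH) (Lpe (K36.f176564 IH) (Lpe (K40.f176565 IH) (Lpe (f597233 IH) (Lpr_dt (f557474 IH) (Lpr_gf (f958457 IH) (Lpn v47378)))))))))))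
theorem f705489 : Led Lsl_ct (LP (LK LD1_c17 LD2_c32 LD3_c10)) = (LP (LK LD1_c9 LD2_c30 LD3_c47)) :=
  Lre_c IH (LK LD1_c17 LD2_c32 LD3_c10) (LK LD1_c9 LD2_c30 LD3_c47) Lrfl Lrfl
theorem f961268 : Led Lsl_gf (LP (LK LD1_c26 LD2_c47 LD3_c3)) = (LP (LK LD1_c17 LD2_c32 LD3_c10)) :=
  Lgr Lrot144 (Lpr_dt (f961262 IH) (Lpr_gt (f580813 IH) (Lpr_dt (f597235 IH) (Lpe (f597232 IH) (Lpe (K69.f597228 IH) (Lpr_gf (f958457 IH) (Lpe (f958459 IH) (Lpe (K70.f75917 IH) (Lpe (f705489 IH) (Lpn (LP (LK LD1_c17 LD2_c32 LD3_c10))))))))))))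
theorem f961269 : Led Lsl_gt (LP (LK LD1_c17 LD2_c32 LD3_c10)) = (LP (LK LD1_c26 LD2_c47 LD3_c3)) :=
  Leop (Lpr_gf (f961268 IH) (Lpn (LP (LK LD1_c17 LD2_c32 LD3_c10))))
theorem seed_2841 : LEOK LG_g (LK LD1_c17 LD2_c32 LD3_c10) :=
  Leoe_g (LK LD1_c17 LD2_c32 LD3_c10) (f961269 IH)
def v40045 : LQ := Led Lsl_ct (LP (LK LD1_c9 LD2_c31 LD3_c27))
theorem f913021 : Led Lsl_ct (LP (LK LD1_c9 LD2_c31 LD3_c27)) = v40045 :=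
  Lrfl
theorem f913023 : Led Lsl_cf (LP (LK LD1_c9 LD2_c31 LD3_c27)) = v40045 :=
  Lgr Lrot11 (Lpr_ct (f913021 IH) (Lpn v40045))
def v47113 : LQ := Led Lsl_ct (LP (LK LD1_c11 LD2_c14 LD3_c46))
theorem f956930 : Led Lsl_ct (LP (LK LD1_c11 LD2_c14 LD3_c46)) = v47113 :=
  Lrfl
theorem f956931 : Led Lsl_cf (LP (LK LD1_c11 LD2_c14 LD3_c46)) = v47113 :=
  Lgr Lrot11 (Lpr_ct (f956930 IH) (Lpn v47113))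
theorem f699754 : Led Lsl_bt (LP (LK LD1_c16 LD2_c49 LD3_c48)) = (LP (LK LD1_c9 LD2_c0 LD3_c25)) :=
  Lre_b IH (LK LD1_c16 LD2_c49 LD3_c48) (LK LD1_c9 LD2_c0 LD3_c25) Lrfl Lrfl
theorem f832656 : Led Lsl_gt (LP (LK LD1_c9 LD2_c0 LD3_c25)) = K65.v19797 :=
  Lgr Lrot46 (Lpr_gf (K65.f832655 IH) (Lpe (K65.f832654 IH) (Lpr_at (K65.f782188 IH) (Lpn K65.v19797))))
theorem f454124 : Led Lsl_ct (LP (LK LD1_c6 LD2_c46 LD3_c44)) = (LP (LK LD1_c12 LD2_c56 LD3_c39)) :=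
  Lre_c IH (LK LD1_c6 LD2_c46 LD3_c44) (LK LD1_c12 LD2_c56 LD3_c39) Lrfl Lrfl
def v40116 : LQ := Led Lsl_gf (LP (LK LD1_c9 LD2_c32 LD3_c22))
theorem f913932 : Led Lsl_gf (LP (LK LD1_c9 LD2_c32 LD3_c22)) = v40116 :=
  Lrfl
theorem f414103 : Led Lsl_ct (LP (LK LD1_c3 LD2_c21 LD3_c30)) = (LP (LK LD1_c6 LD2_c46 LD3_c40)) :=
  Lre_c IH (LK LD1_c3 LD2_c21 LD3_c30) (LK LD1_c6 LD2_c46 LD3_c40) Lrfl Lrfl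
theorem f415266 : Led Lsl_ct (LP (LK LD1_c9 LD2_c32 LD3_c22)) = (LP (LK LD1_c4 LD2_c49 LD3_c54)) :=
  Lre_c IH (LK LD1_c9 LD2_c32 LD3_c22) (LK LD1_c4 LD2_c49 LD3_c54) Lrfl Lrfl
theorem f454110 : Led Lsl_at (LP (LK LD1_c6 LD2_c46 LD3_c40)) = (LP (LK LD1_c9 LD2_c32 LD3_c22)) :=
  Lgr Lrot107 (Lpe (f414103 IH) (Lpr_af (K24.f454106 IH) (Lpe (f415266 IH) (Lpn (LP (LK LD1_c9 LD2_c32 LD3_c22))))))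
theorem f454705 : Led Lsl_ft (LP (LK LD1_c12 LD2_c56 LD3_c39)) = (LP (LK LD1_c6 LD2_c46 LD3_c40)) :=
  Lre_f IH (LK LD1_c12 LD2_c56 LD3_c39) (LK LD1_c6 LD2_c46 LD3_c40) Lrfl Lrfl
theorem f913933 : Led Lsl_gt (LP (LK LD1_c12 LD2_c56 LD3_c39)) = v40116 :=
  Lgr Lrot5 (Lpr_ft (f454705 IH) (Lpr_at (f454110 IH) (Lpr_gf (f913932 IH) (Lpn v40116))))
theorem f705494 : Led Lsl_ct (LP (LK LD1_c9 LD2_c30 LD3_c47)) = (LP (LK LD1_c17 LD2_c32 LD3_c10)) :=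
  Lre_c IH (LK LD1_c9 LD2_c30 LD3_c47) (LK LD1_c17 LD2_c32 LD3_c10) Lrfl Lrfl
theorem f75927 : Led Lsl_gt (LP (LK LD1_c17 LD2_c32 LD3_c12)) = (LP (LK LD1_c9 LD2_c30 LD3_c47)) :=
  Lre_g IH (LK LD1_c17 LD2_c32 LD3_c12) (LK LD1_c9 LD2_c30 LD3_c47) Lrfl Lrfl
def v47377 : LQ := Led Lsl_gt (LP (LK LD1_c11 LD2_c18 LD3_c26))
theorem f958452 : Led Lsl_gt (LP (LK LD1_c11 LD2_c18 LD3_c26)) = v47377 :=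
  Lrfl
theorem f384173 : Led Lsl_et (LP (LK LD1_c5 LD2_c44 LD3_c10)) = (LP (LK LD1_c11 LD2_c18 LD3_c26)) :=
  Lre_e IH (LK LD1_c5 LD2_c44 LD3_c10) (LK LD1_c11 LD2_c18 LD3_c26) Lrfl Lrfl
theorem f542628 : Led Lsl_dt (LP (LK LD1_c5 LD2_c42 LD3_c50)) = (LP (LK LD1_c3 LD2_c0 LD3_c29)) :=
  Lgr Lrot42 (Lpr_df (K36.f542622 IH) (Lpn (LP (LK LD1_c3 LD2_c0 LD3_c29))))
theorem f542630 : Led Lsl_et (LP (LK LD1_c5 LD2_c42 LD3_c50)) = (LP (LK LD1_c9 LD2_c17 LD3_c6)) :=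
  Lgr Lrot71 (Lpr_df (K36.f542622 IH) (Lpe (K2.f72873 IH) (Lpe (K5.f72841 IH) (Lpe (K2.f74987 IH) (Lpe (K55.f75919 IH) (Lpn (LP (LK LD1_c9 LD2_c17 LD3_c6))))))))
theorem f68916 : Led Lsl_ft (LP (LK LD1_c9 LD2_c17 LD3_c17)) = (LP (LK LD1_c4 LD2_c40 LD3_c53)) :=
  Lre_f IH (LK LD1_c9 LD2_c17 LD3_c17) (LK LD1_c4 LD2_c40 LD3_c53) Lrfl Lrfl
theorem f75899 : Led Lsl_at (LP (LK LD1_c4 LD2_c40 LD3_c53)) = (LP (LK LD1_c9 LD2_c17 LD3_c6)) :=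
  Lre_a IH (LK LD1_c4 LD2_c40 LD3_c53) (LK LD1_c9 LD2_c17 LD3_c6) Lrfl Lrfl
theorem f75900 : Led Lsl_gt (LP (LK LD1_c9 LD2_c30 LD3_c48)) = (LP (LK LD1_c9 LD2_c17 LD3_c6)) :=
  Lgr Lrot46 (Lpr_gf (K56.f75896 IH) (Lpr_ft (f68916 IH) (Lpr_at (f75899 IH) (Lpn (LP (LK LD1_c9 LD2_c17 LD3_c6))))))
theorem f75915 : Led Lsl_et (LP (LK LD1_c17 LD2_c32 LD3_c13)) = (LP (LK LD1_c9 LD2_c30 LD3_c48)) :=
  Lre_e IH (LK LD1_c17 LD2_c32 LD3_c13) (LK LD1_c9 LD2_c30 LD3_c48) Lrfl Lrfl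
theorem f75916 : Led Lsl_dt (LP (LK LD1_c17 LD2_c32 LD3_c13)) = (LP (LK LD1_c9 LD2_c30 LD3_c47)) :=
  Lre_d IH (LK LD1_c17 LD2_c32 LD3_c13) (LK LD1_c9 LD2_c30 LD3_c47) Lrfl Lrfl
theorem f958453 : Led Lsl_df (LP (LK LD1_c17 LD2_c32 LD3_c12)) = v47377 :=
  Lgr Lrot135 (Lpr_gt (f75927 IH) (Lpe (f75916 IH) (Lpr_et (f75915 IH) (Lpr_gt (f75900 IH) (Lpe (f542630 IH) (Lpr_dt (f542628 IH) (Lpe (K36.f542632 IH) (Lpr_df (K40.f384171 IH) (Lpr_et (f384173 IH) (Lpr_gt (f958452 IH) (Lpn v47377)))))))))))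
def v47111 : LQ := Led Lsl_et (LP (LK LD1_c11 LD2_c14 LD3_c44))
theorem f956918 : Led Lsl_et (LP (LK LD1_c11 LD2_c14 LD3_c44)) = v47111 :=
  Lrfl
theorem f738065 : Led Lsl_dt (LP (LK LD1_c5 LD2_c42 LD3_c14)) = (LP (LK LD1_c11 LD2_c14 LD3_c44)) :=
  Lre_d IH (LK LD1_c5 LD2_c42 LD3_c14) (LK LD1_c11 LD2_c14 LD3_c44) Lrfl Lrfl
theorem f738067 : Led Lsl_et (LP (LK LD1_c11 LD2_c14 LD3_c45)) = (LP (LK LD1_c5 LD2_c42 LD3_c14)) :=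
  Lre_e IH (LK LD1_c11 LD2_c14 LD3_c45) (LK LD1_c5 LD2_c42 LD3_c14) Lrfl Lrfl
theorem f913019 : Led Lsl_dt (LP (LK LD1_c20 LD2_c9 LD3_c47)) = (LP (LK LD1_c11 LD2_c14 LD3_c45)) :=
  Lre_d IH (LK LD1_c20 LD2_c9 LD3_c47) (LK LD1_c11 LD2_c14 LD3_c45) Lrfl Lrfl
def v40044 : LQ := Led Lsl_bt (LP (LK LD1_c9 LD2_c31 LD3_c27))
theorem f913014 : Led Lsl_bt (LP (LK LD1_c9 LD2_c31 LD3_c27)) = v40044 :=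
  Lrfl
theorem f68686 : Led Lsl_bt (LP (LK LD1_c20 LD2_c9 LD3_c47)) = (LP (LK LD1_c11 LD2_c14 LD3_c47)) :=
  Lre_b IH (LK LD1_c20 LD2_c9 LD3_c47) (LK LD1_c11 LD2_c14 LD3_c47) Lrfl Lrfl
theorem f913016 : Led Lsl_ef (LP (LK LD1_c20 LD2_c9 LD3_c47)) = v40044 :=
  Lgr Lrot29 (Lpr_bt (f68686 IH) (Lpr_et (K50.f68682 IH) (Lpr_bt (f913014 IH) (Lpn v40044))))
theorem f956920 : Led Lsl_df v40044 = v47111 :=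
  Lgr Lrot70 (Lpe (f913016 IH) (Lpr_dt (f913019 IH) (Lpr_et (f738067 IH) (Lpr_dt (f738065 IH) (Lpr_et (f956918 IH) (Lpn v47111))))))
theorem f381778 : Led Lsl_et (LP (LK LD1_c5 LD2_c43 LD3_c17)) = (LP (LK LD1_c2 LD2_c47 LD3_c39)) :=
  Lre_e IH (LK LD1_c5 LD2_c43 LD3_c17) (LK LD1_c2 LD2_c47 LD3_c39) Lrfl Lrfl
def v24513 : LQ := Led Lsl_dt v4782
theorem f824496 : Led Lsl_dt v4782 = v24513 :=
  Lrfl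
theorem f824497 : Led Lsl_df v4782 = v24513 :=
  Lgr Lrot38 (Lpr_dt (f824496 IH) (Lpn v24513))
theorem f958454 : Led Lsl_et v24513 = v47377 :=
  Lgr Lrot122 (Lpe (f824497 IH) (Lpe (f638958 IH) (Lpe (K54.f622080 IH) (Lpr_et (f381778 IH) (Lpr_gt (K36.f423991 IH) (Lpr_dt (f542628 IH) (Lpe (K36.f542632 IH) (Lpr_df (K40.f384171 IH) (Lpr_et (f384173 IH) (Lpr_gt (f958452 IH) (Lpn v47377)))))))))))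
theorem f961137 : v24513 = (LP (LK LD1_c11 LD2_c14 LD3_c44)) :=
  Lefun (Lecon (f824496 IH) (f961096 IH)) (f738065 IH)
theorem f961154 : v47377 = v47111 :=
  Lefun (Lecon (f958454 IH) (f961137 IH)) (f956918 IH)
theorem f961166 : (LP (LK LD1_c17 LD2_c32 LD3_c12)) = v40044 :=
  Lefun (Lecon (Lfl_df (f958453 IH)) (f961154 IH)) (Lfl_df (f956920 IH))
theorem f961270 : v40116 = v40045 :=
  (Llr Lrot65 (Lpe (f913933 IH) (Lpe (f454124 IH) (Lpr_bt (K65.f782181 IH) (Lpe (f832656 IH) (Lpe (f699754 IH) (Lpr_ct (f832657 IH) (Lpr_gf (f961268 IH) (Lpe (f705494 IH) (Lpe (f75927 IH) (Lpqs (f961166 IH) (Lpe (f913014 IH) (Lpr_ct (f913021 IH) (Lpn v40045)))))))))))))).symm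
theorem f454114 : Led Lsl_at (LP (LK LD1_c6 LD2_c46 LD3_c44)) = (LP (LK LD1_c9 LD2_c32 LD3_c25)) :=
  Lgr Lrot66 (Lpe (K65.f454097 IH) (Lpr_af (K24.f454106 IH) (Lpe (K57.f415276 IH) (Lpn (LP (LK LD1_c9 LD2_c32 LD3_c25))))))
theorem f454119 : Led Lsl_af (LP (LK LD1_c6 LD2_c46 LD3_c44)) = (LP (LK LD1_c9 LD2_c32 LD3_c25)) :=
  Lgr Lrot0 (Lpr_at (f454114 IH) (Lpn (LP (LK LD1_c9 LD2_c32 LD3_c25))))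
theorem f454126 : Led Lsl_gf (LP (LK LD1_c6 LD2_c46 LD3_c44)) = (LP (LK LD1_c9 LD2_c32 LD3_c23)) :=
  Lgr Lrot76 (Lpr_af (f454119 IH) (Lpe (K57.f415261 IH) (Lpr_gt (K70.f414470 IH) (Lpn (LP (LK LD1_c9 LD2_c32 LD3_c23))))))
def v37805 : LQ := Led Lsl_gt (LP (LK LD1_c9 LD2_c0 LD3_c18))
theorem f896606 : Led Lsl_gt (LP (LK LD1_c9 LD2_c0 LD3_c18)) = v37805 :=
  Lrfl
theorem f961273 : v47113 = v37805 :=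
  (Llr Lrot99 (Lpe (f956931 IH) (Lpr_df (K53.f68671 IH) (Lpr_cf (f913023 IH) (Lpq (f961270 IH) (Lpe (f913933 IH) (Lpe (f454124 IH) (Lpr_gf (f454126 IH) (Lpr_df (K70.f613563 IH) (Lpr_gt (K70.f418714 IH) (Lpr_ct (K69.f418718 IH) (Lpr_gt (f896606 IH) (Lpn v37805))))))))))))).symm
theorem f956921 : Led Lsl_ef (LP (LK LD1_c11 LD2_c14 LD3_c44)) = v47111 :=
  Lgr Lrot88 (Lpr_et (f956918 IH) (Lpn v47111))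
theorem f140690 : Led Lsl_bt (LP (LK LD1_c11 LD2_c14 LD3_c44)) = (LP (LK LD1_c5 LD2_c42 LD3_c15)) :=
  Lre_b IH (LK LD1_c11 LD2_c14 LD3_c44) (LK LD1_c5 LD2_c42 LD3_c15) Lrfl Lrfl
theorem f956922 : Led Lsl_bt (LP (LK LD1_c11 LD2_c14 LD3_c46)) = v47111 :=
  Lgr Lrot119 (Lpe (K50.f68620 IH) (Lpe (f140690 IH) (Lpr_ef (f956921 IH) (Lpn v47111))))
def v47379 : LQ := Led Lsl_ft (LP (LK LD1_c11 LD2_c18 LD3_c26))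
theorem f958461 : Led Lsl_ft (LP (LK LD1_c11 LD2_c18 LD3_c26)) = v47379 :=
  Lrfl
def v15630 : LQ := Led Lsl_ft (LP (LK LD1_c5 LD2_c44 LD3_c12))
theorem f738394 : Led Lsl_ft (LP (LK LD1_c5 LD2_c44 LD3_c12)) = v15630 :=
  Lrfl
theorem f738396 : Led Lsl_ff (LP (LK LD1_c5 LD2_c44 LD3_c12)) = v15630 :=
  Lgr Lrot3 (Lpr_ft (f738394 IH) (Lpn v15630))
theorem f958462 : Led Lsl_af v15630 = v47379 :=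
  Lgr Lrot45 (Lpe (f738396 IH) (Lpr_at (K69.f383537 IH) (Lpr_ft (f958461 IH) (Lpn v47379))))
theorem f958465 : Led Lsl_gt v47377 = v15630 :=
  Lgr Lrot46 (Lpe (f958452 IH) (Lpr_ft (f958461 IH) (Lpe (f958462 IH) (Lpn v15630))))
theorem f383585 : Led Lsl_bt (LP (LK LD1_c5 LD2_c44 LD3_c12)) = (LP (LK LD1_c2 LD2_c48 LD3_c5)) :=
  Lre_b IH (LK LD1_c5 LD2_c44 LD3_c12) (LK LD1_c2 LD2_c48 LD3_c5) Lrfl Lrfl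
theorem f738397 : Led Lsl_bt (LP (LK LD1_c5 LD2_c44 LD3_c21)) = v15630 :=
  Lgr Lrot35 (Lpe (K27.f383524 IH) (Lpe (f383585 IH) (Lpr_ff (f738396 IH) (Lpn v15630))))
theorem f383477 : Led Lsl_af (LP (LK LD1_c11 LD2_c17 LD3_c58)) = (LP (LK LD1_c5 LD2_c44 LD3_c17)) :=
  Lgr Lrot0 (Lpr_at (K27.f383475 IH) (Lpn (LP (LK LD1_c5 LD2_c44 LD3_c17))))
theorem f383599 : Led Lsl_gt (LP (LK LD1_c20 LD2_c14 LD3_c8)) = (LP (LK LD1_c11 LD2_c17 LD3_c58)) :=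
  Lre_g IH (LK LD1_c20 LD2_c14 LD3_c8) (LK LD1_c11 LD2_c17 LD3_c58) Lrfl Lrfl
theorem f383455 : Led Lsl_ft (LP (LK LD1_c11 LD2_c18 LD3_c40)) = (LP (LK LD1_c5 LD2_c44 LD3_c17)) :=
  Lre_f IH (LK LD1_c11 LD2_c18 LD3_c40) (LK LD1_c5 LD2_c44 LD3_c17) Lrfl Lrfl
theorem f383600 : Led Lsl_gf (LP (LK LD1_c20 LD2_c14 LD3_c8)) = (LP (LK LD1_c11 LD2_c18 LD3_c40)) :=
  Lgr Lrot47 (Lpr_gt (f383599 IH) (Lpr_af (f383477 IH) (Lpe (f383455 IH) (Lpn (LP (LK LD1_c11 LD2_c18 LD3_c40))))))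
theorem f418715 : Led Lsl_bt (LP (LK LD1_c16 LD2_c49 LD3_c46)) = (LP (LK LD1_c9 LD2_c0 LD3_c20)) :=
  Lre_b IH (LK LD1_c16 LD2_c49 LD3_c46) (LK LD1_c9 LD2_c0 LD3_c20) Lrfl Lrfl
theorem f961274 : Led Lsl_cf (LP (LK LD1_c20 LD2_c14 LD3_c8)) = (LP (LK LD1_c16 LD2_c49 LD3_c46)) :=
  Lgr Lrot58 (Lpr_gf (f383600 IH) (Lpe (K27.f383504 IH) (Lpr_bt (f738397 IH) (Lpe (f958465 IH) (Lpqs (f961154 IH) (Lpe (f956922 IH) (Lpr_ct (f956930 IH) (Lpqs (f961273 IH) (Lpe (f896606 IH) (Lpe (K69.f418718 IH) (Lpe (K70.f418714 IH) (Lpe (f418715 IH) (Lpn (LP (LK LD1_c16 LD2_c49 LD3_c46)))))))))))))))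
theorem f961275 : Led Lsl_ct (LP (LK LD1_c16 LD2_c49 LD3_c46)) = (LP (LK LD1_c20 LD2_c14 LD3_c8)) :=
  Leop (Lpr_cf (f961274 IH) (Lpn (LP (LK LD1_c16 LD2_c49 LD3_c46))))
theorem seed_2842 : LEOK LG_c (LK LD1_c16 LD2_c49 LD3_c46) :=
  Leoe_c (LK LD1_c16 LD2_c49 LD3_c46) (f961275 IH)
def v15622 : LQ := Led Lsl_gt (LP (LK LD1_c5 LD2_c43 LD3_c60))
theorem f738351 : Led Lsl_gt (LP (LK LD1_c5 LD2_c43 LD3_c60)) = v15622 :=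
  Lrfl
theorem f383518 : Led Lsl_ft (LP (LK LD1_c5 LD2_c43 LD3_c60)) = (LP (LK LD1_c11 LD2_c17 LD3_c61)) :=
  Lre_f IH (LK LD1_c5 LD2_c43 LD3_c60) (LK LD1_c11 LD2_c17 LD3_c61) Lrfl Lrfl
theorem f738352 : Led Lsl_gf (LP (LK LD1_c5 LD2_c44 LD3_c21)) = v15622 :=
  Lgr Lrot76 (Lpe (K27.f383505 IH) (Lpe (f383518 IH) (Lpr_gt (f738351 IH) (Lpn v15622))))
theorem f698592 : Led Lsl_bt (LP (LK LD1_c4 LD2_c33 LD3_c29)) = (LP (LK LD1_c9 LD2_c4 LD3_c34)) :=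
  Lre_b IH (LK LD1_c4 LD2_c33 LD3_c29) (LK LD1_c9 LD2_c4 LD3_c34) Lrfl Lrfl
theorem f961278 : v15622 = (LP (LK LD1_c9 LD2_c4 LD3_c34)) :=
  (Llr Lrot181 (Lpe (f738352 IH) (Lpr_ct (K27.f383504 IH) (Lpe (f383600 IH) (Lpr_cf (f961274 IH) (Lpr_bt (f418715 IH) (Lpr_gt (K70.f418714 IH) (Lpe (K74.f319336 IH) (Lpr_ct (K20.f225168 IH) (Lpr_gt (K69.f698135 IH) (Lpq (K69.f896280 IH) (Lpe (K69.f698597 IH) (Lpr_bt (f698592 IH) (Lpn (LP (LK LD1_c9 LD2_c4 LD3_c34)))))))))))))))).symm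
theorem f961280 : Led Lsl_gt (LP (LK LD1_c9 LD2_c4 LD3_c34)) = (LP (LK LD1_c5 LD2_c44 LD3_c21)) :=
  Leop (Lpr_gf (f738352 IH) (Lpqs (f961278 IH) (Lpn (LP (LK LD1_c9 LD2_c4 LD3_c34)))))
theorem seed_2843 : LEOK LG_g (LK LD1_c9 LD2_c4 LD3_c34) :=
  Leoe_g (LK LD1_c9 LD2_c4 LD3_c34) (f961280 IH)
theorem f897238 : Led Lsl_ff (LP (LK LD1_c16 LD2_c54 LD3_c24)) = K69.v15678 :=
  Lgr Lrot3 (Lpr_ft (K69.f897236 IH) (Lpn K69.v15678))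
theorem f897239 : Led Lsl_at (LP (LK LD1_c16 LD2_c54 LD3_c24)) = K69.v15679 :=
  Lgr Lrot66 (Lpr_ff (f897238 IH) (Lpe (K69.f740895 IH) (Lpr_ff (K74.f740900 IH) (Lpn K69.v15679))))
theorem f740899 : Led Lsl_bf K69.v4791 = K69.v15679 :=
  Lgr Lrot61 (Lpe (K69.f639029 IH) (Lpr_bt (K74.f639019 IH) (Lpr_ft (K69.f740898 IH) (Lpn K69.v15679))))
def v4792 : LQ := Led Lsl_bt (LP (LK LD1_c2 LD2_c48 LD3_c25))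
theorem f639031 : Led Lsl_bt (LP (LK LD1_c2 LD2_c48 LD3_c25)) = v4792 :=
  Lrfl
def v24527 : LQ := Led Lsl_at v4792
theorem f824538 : Led Lsl_at v4792 = v24527 :=
  Lrfl
theorem f897240 : Led Lsl_bf (LP (LK LD1_c16 LD2_c54 LD3_c24)) = v24527 :=
  Lgr Lrot81 (Lpr_at (f897239 IH) (Lpe (f740899 IH) (Lpe (K69.f639028 IH) (Lpr_bt (f639031 IH) (Lpr_at (f824538 IH) (Lpn v24527))))))
theorem f897241 : Led Lsl_bt (LP (LK LD1_c16 LD2_c54 LD3_c24)) = v24527 :=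
  Lgr Lrot127 (Lpr_bf (f897240 IH) (Lpn v24527))
def v38059 : LQ := Led Lsl_gt (LP (LK LD1_c9 LD2_c4 LD3_c34))
theorem f898943 : Led Lsl_gt (LP (LK LD1_c9 LD2_c4 LD3_c34)) = v38059 :=
  Lrfl
def v24524 : LQ := Led Lsl_bt K55.v4789
theorem f824532 : Led Lsl_bt K55.v4789 = v24524 :=
  Lrfl
theorem f897687 : v24524 = (LP (LK LD1_c9 LD2_c4 LD3_c34)) :=
  Lefun (Lecon (f824532 IH) (K69.f897682 IH)) (f698592 IH)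
theorem f639032 : Led Lsl_bf (LP (LK LD1_c2 LD2_c48 LD3_c25)) = v4792 :=
  Lgr Lrot24 (Lpr_bt (f639031 IH) (Lpn v4792))
theorem f824534 : Led Lsl_ff v4792 = v24524 :=
  Lgr Lrot25 (Lpe (f639032 IH) (Lpr_ft (K55.f639020 IH) (Lpr_bt (f824532 IH) (Lpn v24524))))
theorem f898944 : Led Lsl_gf v24527 = v38059 :=
  Lgr Lrot76 (Lpe (f824538 IH) (Lpr_ff (f824534 IH) (Lpqs (f897687 IH) (Lpr_gt (f898943 IH) (Lpn v38059)))))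
theorem f961279 : (LP (LK LD1_c5 LD2_c44 LD3_c21)) = v38059 :=
  Lefun (Lecon (Lfl_gf (f738352 IH)) (f961278 IH)) (f898943 IH)
theorem f961288 : v24527 = (LP (LK LD1_c11 LD2_c17 LD3_c59)) :=
  Lefun (Lecon (Lfl_gf (f898944 IH)) (f961279 IH).symm) (Lfl_gf (f383588 IH))
theorem f961291 : Led Lsl_bt (LP (LK LD1_c16 LD2_c54 LD3_c24)) = (LP (LK LD1_c11 LD2_c17 LD3_c59)) :=
  Leop (Lpq (f961288 IH) (Lpe (f897241 IH) (Lpn (LP (LK LD1_c16 LD2_c54 LD3_c24)))))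
theorem seed_2844 : LEOK LG_b (LK LD1_c16 LD2_c54 LD3_c24) :=
  Leoe_b (LK LD1_c16 LD2_c54 LD3_c24) (f961291 IH)
def v37931 : LQ := Led Lsl_bt (LP (LK LD1_c9 LD2_c2 LD3_c19))
theorem f897946 : Led Lsl_bt (LP (LK LD1_c9 LD2_c2 LD3_c19)) = v37931 :=
  Lrfl
theorem f174305 : Led Lsl_bt (LP (LK LD1_c11 LD2_c14 LD3_c49)) = (LP (LK LD1_c5 LD2_c42 LD3_c18)) :=
  Lre_b IH (LK LD1_c11 LD2_c14 LD3_c49) (LK LD1_c5 LD2_c42 LD3_c18) Lrfl Lrfl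
theorem f897949 : Led Lsl_ff (LP (LK LD1_c11 LD2_c14 LD3_c49)) = v37931 :=
  Lgr Lrot25 (Lpr_bt (f174305 IH) (Lpr_ft (K69.f738111 IH) (Lpq (K69.f897701 IH) (Lpr_bt (f897946 IH) (Lpn v37931)))))
theorem f225947 : Led Lsl_bt (LP (LK LD1_c5 LD2_c42 LD3_c18)) = (LP (LK LD1_c11 LD2_c14 LD3_c49)) :=
  Lre_b IH (LK LD1_c5 LD2_c42 LD3_c18) (LK LD1_c11 LD2_c14 LD3_c49) Lrfl Lrfl
theorem f225948 : Led Lsl_bt (LP (LK LD1_c16 LD2_c56 LD3_c19)) = (LP (LK LD1_c9 LD2_c4 LD3_c36)) :=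
  Lre_b IH (LK LD1_c16 LD2_c56 LD3_c19) (LK LD1_c9 LD2_c4 LD3_c36) Lrfl Lrfl
theorem f225949 : Led Lsl_dt (LP (LK LD1_c11 LD2_c14 LD3_c49)) = (LP (LK LD1_c16 LD2_c56 LD3_c19)) :=
  Lgr Lrot79 (Lpe (f225947 IH) (Lpr_df (K32.f225944 IH) (Lpe (f225948 IH) (Lpn (LP (LK LD1_c16 LD2_c56 LD3_c19))))))
def v15764 : LQ := Led Lsl_bt (LP (LK LD1_c5 LD2_c46 LD3_c7))
theorem f741438 : Led Lsl_bt (LP (LK LD1_c5 LD2_c46 LD3_c7)) = v15764 :=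
  Lrfl
theorem f741439 : Led Lsl_bf (LP (LK LD1_c5 LD2_c46 LD3_c7)) = v15764 :=
  Lgr Lrot24 (Lpr_bt (f741438 IH) (Lpn v15764))
theorem f225957 : Led Lsl_bt (LP (LK LD1_c9 LD2_c4 LD3_c36)) = (LP (LK LD1_c16 LD2_c56 LD3_c19)) :=
  Lre_b IH (LK LD1_c9 LD2_c4 LD3_c36) (LK LD1_c16 LD2_c56 LD3_c19) Lrfl Lrfl
theorem f897700 : Led Lsl_ff v15764 = (LP (LK LD1_c16 LD2_c56 LD3_c19)) :=
  Lgr Lrot25 (Lpe (f741439 IH) (Lpr_ft (K55.f740931 IH) (Lpqs (K69.f897695 IH) (Lpr_bt (f225957 IH) (Lpn (LP (LK LD1_c16 LD2_c56 LD3_c19)))))))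
theorem f897950 : Led Lsl_dt v15764 = v37931 :=
  Lgr Lrot60 (Lpr_ff (f897700 IH) (Lpe (f225949 IH) (Lpr_ff (f897949 IH) (Lpn v37931))))
def v47232 : LQ := Led Lsl_at (LP (LK LD1_c11 LD2_c16 LD3_c44))
theorem f957539 : Led Lsl_at (LP (LK LD1_c11 LD2_c16 LD3_c44)) = v47232 :=
  Lrfl
theorem f957540 : Led Lsl_af (LP (LK LD1_c11 LD2_c16 LD3_c44)) = v47232 :=
  Lgr Lrot0 (Lpr_at (f957539 IH) (Lpn v47232))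
def v15607 : LQ := Led Lsl_gf (LP (LK LD1_c5 LD2_c43 LD3_c17))
theorem f738256 : Led Lsl_gf (LP (LK LD1_c5 LD2_c43 LD3_c17)) = v15607 :=
  Lrfl
theorem f957541 : Led Lsl_ft v15607 = v47232 :=
  Lgr Lrot2 (Lpe (f738256 IH) (Lpr_gt (K54.f495862 IH) (Lpr_af (f957540 IH) (Lpn v47232))))
theorem f897951 : Led Lsl_ft (LP (LK LD1_c11 LD2_c14 LD3_c49)) = v37931 :=
  Lgr Lrot48 (Lpr_ff (f897949 IH) (Lpn v37931))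
def v47375 : LQ := Led Lsl_gf (LP (LK LD1_c11 LD2_c18 LD3_c25))
theorem f958436 : Led Lsl_gf (LP (LK LD1_c11 LD2_c18 LD3_c25)) = v47375 :=
  Lrfl
theorem f958437 : Led Lsl_gt (LP (LK LD1_c11 LD2_c20 LD3_c19)) = v47375 :=
  Lgr Lrot5 (Lpr_ft (K65.f638996 IH) (Lpe (K65.f740275 IH) (Lpr_gf (f958436 IH) (Lpn v47375))))
theorem f618037 : Led Lsl_ft (LP (LK LD1_c11 LD2_c18 LD3_c22)) = (LP (LK LD1_c20 LD2_c14 LD3_c53)) :=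
  Lre_f IH (LK LD1_c11 LD2_c18 LD3_c22) (LK LD1_c20 LD2_c14 LD3_c53) Lrfl Lrfl
theorem f740102 : Led Lsl_df (LP (LK LD1_c11 LD2_c40 LD3_c36)) = (LP (LK LD1_c20 LD2_c14 LD3_c53)) :=
  Lgr Lrot78 (Lpr_ft (K55.f740100 IH) (Lpr_dt (K54.f618033 IH) (Lpr_ft (f618037 IH) (Lpn (LP (LK LD1_c20 LD2_c14 LD3_c53))))))
theorem f381140 : Led Lsl_et (LP (LK LD1_c2 LD2_c47 LD3_c47)) = (LP (LK LD1_c1 LD2_c20 LD3_c10)) :=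
  Lre_e IH (LK LD1_c2 LD2_c47 LD3_c47) (LK LD1_c1 LD2_c20 LD3_c10) Lrfl Lrfl
theorem f622091 : Led Lsl_df (LP (LK LD1_c5 LD2_c43 LD3_c17)) = (LP (LK LD1_c2 LD2_c47 LD3_c47)) :=
  Lgr Lrot18 (Lpr_at (K54.f381764 IH) (Lpr_dt (K65.f622082 IH) (Lpr_at (f381771 IH) (Lpn (LP (LK LD1_c2 LD2_c47 LD3_c47))))))
theorem f958438 : Led Lsl_df v15607 = v47375 :=
  Lgr Lrot135 (Lpe (f738256 IH) (Lpr_df (f622091 IH) (Lpr_et (f381140 IH) (Lpr_gt (K27.f76149 IH) (Lpe (K50.f381259 IH) (Lpe (K50.f618022 IH) (Lpr_gt (K54.f150325 IH) (Lpr_df (f740102 IH) (Lpr_et (K65.f740217 IH) (Lpr_gt (f958437 IH) (Lpn v47375)))))))))))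
theorem f225958 : Led Lsl_df (LP (LK LD1_c11 LD2_c14 LD3_c49)) = (LP (LK LD1_c16 LD2_c56 LD3_c19)) :=
  Lgr Lrot12 (Lpr_bt (f174305 IH) (Lpr_dt (K32.f225951 IH) (Lpr_bt (f225957 IH) (Lpn (LP (LK LD1_c16 LD2_c56 LD3_c19))))))
theorem f958440 : Led Lsl_ef v15622 = v47375 :=
  Lgr Lrot17 (Lpe (f738351 IH) (Lpe (K27.f383542 IH) (Lpr_dt (K27.f383970 IH) (Lpe (K27.f289385 IH) (Lpe (K27.f381147 IH) (Lpe (K27.f76149 IH) (Lpe (f381140 IH) (Lpe (f622091 IH) (Lpr_gf (f738256 IH) (Lpr_df (f958438 IH) (Lpn v47375)))))))))))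
theorem f958441 : Led Lsl_et v15622 = v47375 :=
  Lgr Lrot87 (Lpr_ef (f958440 IH) (Lpn v47375))
theorem f225962 : Led Lsl_et (LP (LK LD1_c9 LD2_c4 LD3_c34)) = (LP (LK LD1_c16 LD2_c56 LD3_c19)) :=
  Lre_e IH (LK LD1_c9 LD2_c4 LD3_c34) (LK LD1_c16 LD2_c56 LD3_c19) Lrfl Lrfl
theorem f961284 : v47375 = (LP (LK LD1_c16 LD2_c56 LD3_c19)) :=
  Lefun (Lecon (f958441 IH) (f961278 IH)) (f225962 IH)
theorem f961289 : v15607 = (LP (LK LD1_c11 LD2_c14 LD3_c49)) :=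
  Lefun (Lecon (Lfl_df (f958438 IH)) (f961284 IH)) (Lfl_df (f225958 IH))
theorem f961299 : v47232 = v37931 :=
  Lefun (Lecon (f957541 IH) (f961289 IH)) (f897951 IH)
theorem f961300 : Led Lsl_af v15764 = (LP (LK LD1_c20 LD2_c12 LD3_c44)) :=
  Lgr Lrot117 (Lpr_dt (f897950 IH) (Lpq (f961299 IH) (Lpe (f957540 IH) (Lpr_dt (K65.f495863 IH) (Lpn (LP (LK LD1_c20 LD2_c12 LD3_c44)))))))
theorem f740946 : Led Lsl_at (LP (LK LD1_c5 LD2_c46 LD3_c7)) = K69.v15688 :=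
  Lgr Lrot66 (Lpr_ff (K55.f740934 IH) (Lpe (K55.f740927 IH) (Lpr_ff (K69.f740945 IH) (Lpn K69.v15688))))
theorem f961302 : Led Lsl_bt (LP (LK LD1_c20 LD2_c20 LD3_c23)) = (LP (LK LD1_c20 LD2_c12 LD3_c44)) :=
  Lgr Lrot62 (Lpe (K69.f897726 IH) (Lpr_bf (K69.f897093 IH) (Lpqs (K69.f897728 IH) (Lpe (f740946 IH) (Lpr_bf (f741439 IH) (Lpr_af (f961300 IH) (Lpn (LP (LK LD1_c20 LD2_c12 LD3_c44)))))))))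
theorem f961303 : Led Lsl_bt (LP (LK LD1_c20 LD2_c20 LD3_c23)) = (LP (LK LD1_c20 LD2_c12 LD3_c44)) :=
  Leop (Lpe (f961302 IH) (Lpn (LP (LK LD1_c20 LD2_c20 LD3_c23))))
theorem seed_2845 : LEOK LG_b (LK LD1_c20 LD2_c20 LD3_c23) :=
  Leoe_b (LK LD1_c20 LD2_c20 LD3_c23) (f961303 IH)
theorem f383590 : Led Lsl_dt (LP (LK LD1_c11 LD2_c17 LD3_c59)) = (LP (LK LD1_c20 LD2_c14 LD3_c12)) :=
  Lre_d IH (LK LD1_c11 LD2_c17 LD3_c59) (LK LD1_c20 LD2_c14 LD3_c12) Lrfl Lrfl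
theorem f961315 : Led Lsl_bf (LP (LK LD1_c22 LD2_c4 LD3_c30)) = (LP (LK LD1_c20 LD2_c14 LD3_c12)) :=
  Lgr Lrot93 (Lpr_dt (K51.f707284 IH) (Lpr_bt (f897241 IH) (Lpqs (f961288 IH) (Lpr_dt (f383590 IH) (Lpn (LP (LK LD1_c20 LD2_c14 LD3_c12)))))))
theorem f500411 : Led Lsl_et (LP (LK LD1_c9 LD2_c7 LD3_c2)) = (LP (LK LD1_c16 LD2_c59 LD3_c13)) :=
  Lre_e IH (LK LD1_c9 LD2_c7 LD3_c2) (LK LD1_c16 LD2_c59 LD3_c13) Lrfl Lrfl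
theorem f599577 : Led Lsl_gt (LP (LK LD1_c16 LD2_c59 LD3_c13)) = (LP (LK LD1_c26 LD2_c54 LD3_c57)) :=
  Lre_g IH (LK LD1_c16 LD2_c59 LD3_c13) (LK LD1_c26 LD2_c54 LD3_c57) Lrfl Lrfl
theorem f707292 : Led Lsl_et (LP (LK LD1_c22 LD2_c4 LD3_c30)) = (LP (LK LD1_c26 LD2_c54 LD3_c57)) :=
  Lgr Lrot122 (Lpr_dt (K51.f707284 IH) (Lpr_gt (K51.f598104 IH) (Lpe (K51.f619278 IH) (Lpr_et (K51.f412375 IH) (Lpr_gt (K51.f570260 IH) (Lpr_dt (K70.f210982 IH) (Lpr_gt (K36.f26717 IH) (Lpe (K42.f500410 IH) (Lpr_et (f500411 IH) (Lpr_gt (f599577 IH) (Lpn (LP (LK LD1_c26 LD2_c54 LD3_c57)))))))))))))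
theorem f596993 : Led Lsl_et (LP (LK LD1_c20 LD2_c29 LD3_c13)) = (LP (LK LD1_c20 LD2_c14 LD3_c12)) :=
  Lgr Lrot87 (Lpr_ef (f596991 IH) (Lpn (LP (LK LD1_c20 LD2_c14 LD3_c12))))
theorem f961320 : Led Lsl_bt (LP (LK LD1_c26 LD2_c54 LD3_c57)) = (LP (LK LD1_c20 LD2_c29 LD3_c13)) :=
  Lgr Lrot119 (Lpe (f707292 IH) (Lpr_bf (f961315 IH) (Lpe (f596993 IH) (Lpn (LP (LK LD1_c20 LD2_c29 LD3_c13))))))
theorem f961324 : Led Lsl_bf (LP (LK LD1_c26 LD2_c54 LD3_c57)) = (LP (LK LD1_c20 LD2_c29 LD3_c13)) :=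
  Lgr Lrot24 (Lpr_bt (f961320 IH) (Lpn (LP (LK LD1_c20 LD2_c29 LD3_c13))))
theorem f897843 : Led Lsl_af (LP (LK LD1_c17 LD2_c2 LD3_c18)) = (LP (LK LD1_c26 LD2_c54 LD3_c57)) :=
  Lgr Lrot50 (Lpr_et (K69.f897841 IH) (Lpe (K70.f897797 IH) (Lpr_et (f707292 IH) (Lpn (LP (LK LD1_c26 LD2_c54 LD3_c57))))))
theorem f71395 : Led Lsl_bt (LP (LK LD1_c17 LD2_c2 LD3_c18)) = (LP (LK LD1_c9 LD2_c9 LD3_c16)) :=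
  Lre_b IH (LK LD1_c17 LD2_c2 LD3_c18) (LK LD1_c9 LD2_c9 LD3_c16) Lrfl Lrfl
theorem f193894 : Led Lsl_bt (LP (LK LD1_c5 LD2_c57 LD3_c28)) = (LP (LK LD1_c11 LD2_c40 LD3_c5)) :=
  Lre_b IH (LK LD1_c5 LD2_c57 LD3_c28) (LK LD1_c11 LD2_c40 LD3_c5) Lrfl Lrfl
theorem f961326 : Led Lsl_at (LP (LK LD1_c11 LD2_c40 LD3_c5)) = (LP (LK LD1_c20 LD2_c29 LD3_c13)) :=
  Lgr Lrot67 (Lpe (f193894 IH) (Lpr_af (K72.f748412 IH) (Lpqs (K72.f897662 IH) (Lpe (f71395 IH) (Lpr_af (f897843 IH) (Lpr_bf (f961324 IH) (Lpn (LP (LK LD1_c20 LD2_c29 LD3_c13)))))))))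
def v38358 : LQ := Led Lsl_bt (LP (LK LD1_c9 LD2_c9 LD3_c17))
theorem f901548 : Led Lsl_bt (LP (LK LD1_c9 LD2_c9 LD3_c17)) = v38358 :=
  Lrfl
theorem f193898 : Led Lsl_bt (LP (LK LD1_c11 LD2_c40 LD3_c5)) = (LP (LK LD1_c5 LD2_c57 LD3_c28)) :=
  Lre_b IH (LK LD1_c11 LD2_c40 LD3_c5) (LK LD1_c5 LD2_c57 LD3_c28) Lrfl Lrfl
theorem f901550 : Led Lsl_ff (LP (LK LD1_c11 LD2_c40 LD3_c5)) = v38358 :=
  Lgr Lrot25 (Lpr_bt (f193898 IH) (Lpr_ft (K72.f748426 IH) (Lpqs (K72.f897923 IH) (Lpr_bt (f901548 IH) (Lpn v38358)))))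
theorem f961329 : Led Lsl_gt v38358 = (LP (LK LD1_c11 LD2_c32 LD3_c24)) :=
  Lgr Lrot5 (Lpe (f901550 IH) (Lpr_at (f961326 IH) (Lpe (f539098 IH) (Lpn (LP (LK LD1_c11 LD2_c32 LD3_c24))))))
theorem f386825 : Led Lsl_ft (LP (LK LD1_c11 LD2_c42 LD3_c51)) = (LP (LK LD1_c5 LD2_c59 LD3_c20)) :=
  Lre_f IH (LK LD1_c11 LD2_c42 LD3_c51) (LK LD1_c5 LD2_c59 LD3_c20) Lrfl Lrfl
theorem f961330 : Led Lsl_gf v38358 = (LP (LK LD1_c11 LD2_c42 LD3_c51)) :=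
  Lgr Lrot47 (Lpr_gt (f961329 IH) (Lpr_af (K38.f545423 IH) (Lpe (f386825 IH) (Lpn (LP (LK LD1_c11 LD2_c42 LD3_c51))))))
theorem f901534 : Led Lsl_ff K72.v16317 = K72.v38356 :=
  Lgr Lrot23 (Lpe (K72.f748431 IH) (Lpr_ft (K72.f748415 IH) (Lpqs (K72.f897662 IH) (Lpr_ct (K72.f901530 IH) (Lpn K72.v38356)))))
theorem f898981 : Led Lsl_cf (LP (LK LD1_c9 LD2_c4 LD3_c37)) = K70.v38065 :=
  Lgr Lrot11 (Lpr_ct (K70.f898979 IH) (Lpn K70.v38065))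
theorem f901533 : Led Lsl_ef K70.v38065 = K72.v38356 :=
  Lgr Lrot28 (Lpe (f898981 IH) (Lpe (K35.f631672 IH) (Lpr_ct (K72.f901530 IH) (Lpn K72.v38356))))
theorem f748420 : Led Lsl_ef K70.v15690 = K72.v16314 :=
  Lgr Lrot28 (Lpe (K70.f740954 IH) (Lpe (K72.f193892 IH) (Lpr_ct (K72.f748418 IH) (Lpn K72.v16314))))
theorem f748421 : Led Lsl_et K70.v15690 = K72.v16314 :=
  Lgr Lrot87 (Lpr_ef (f748420 IH) (Lpn K72.v16314))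
theorem f901536 : Led Lsl_at K72.v16314 = K72.v38356 :=
  Lgr Lrot80 (Lpe (f748421 IH) (Lpr_af (K70.f898980 IH) (Lpr_ef (f901533 IH) (Lpn K72.v38356))))
theorem f901556 : Led Lsl_at K72.v16317 = K72.v38359 :=
  Lgr Lrot66 (Lpr_ff (f901534 IH) (Lpe (f901536 IH) (Lpr_ff (K72.f901555 IH) (Lpn K72.v38359))))
def v30225 : LQ := Led Lsl_gf K72.v9673
theorem f853198 : Led Lsl_gf K72.v9673 = v30225 :=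
  Lrfl
theorem f494380 : Led Lsl_af K35.v434 = K72.v1262 :=
  Lgr Lrot68 (Lpe (K35.f452806 IH) (Lpe (K65.f436276 IH) (Lpr_ct (K72.f494379 IH) (Lpn K72.v1262))))
theorem f536454 : Led Lsl_af K72.v1618 = K42.v3000 :=
  Lgr Lrot117 (Lpe (K72.f500392 IH) (Lpe (f494380 IH) (Lpr_dt (K42.f536453 IH) (Lpn K42.v3000))))
theorem f640961 : Led Lsl_et K72.v1618 = K72.v4932 :=
  Lgr Lrot87 (Lpr_ef (K72.f640960 IH) (Lpn K72.v4932))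
theorem f677136 : Led Lsl_at K72.v4932 = K72.v9673 :=
  Lgr Lrot80 (Lpe (f640961 IH) (Lpr_af (f536454 IH) (Lpr_ef (K72.f677135 IH) (Lpn K72.v9673))))
theorem f853199 : Led Lsl_gt K72.v16122 = v30225 :=
  Lgr Lrot5 (Lpe (K72.f746643 IH) (Lpr_at (f677136 IH) (Lpr_gf (f853198 IH) (Lpn v30225))))
theorem f924815 : K72.v38359 = v30225 :=
  (Llr Lrot26 (Lpe (f901556 IH) (Lpr_ff (f901534 IH) (Lpqs (K72.f924814 IH) (Lpe (K72.f853197 IH) (Lpr_gt (f853199 IH) (Lpn v30225))))))).symm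
theorem f677137 : Led Lsl_ct (LP (LK LD1_c4 LD2_c35 LD3_c10)) = K72.v9673 :=
  Lgr Lrot15 (Lpe (K7.f151845 IH) (Lpr_cf (K72.f536457 IH) (Lpr_ef (K72.f677135 IH) (Lpn K72.v9673))))
theorem f151763 : Led Lsl_bt (LP (LK LD1_c4 LD2_c35 LD3_c10)) = (LP (LK LD1_c9 LD2_c6 LD3_c51)) :=
  Lre_b IH (LK LD1_c4 LD2_c35 LD3_c10) (LK LD1_c9 LD2_c6 LD3_c51) Lrfl Lrfl
theorem f151781 : Led Lsl_gt (LP (LK LD1_c9 LD2_c6 LD3_c51)) = (LP (LK LD1_c16 LD2_c59 LD3_c1)) :=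
  Lre_g IH (LK LD1_c9 LD2_c6 LD3_c51) (LK LD1_c16 LD2_c59 LD3_c1) Lrfl Lrfl
theorem f151782 : Led Lsl_ct (LP (LK LD1_c16 LD2_c59 LD3_c1)) = (LP (LK LD1_c26 LD2_c54 LD3_c49)) :=
  Lre_c IH (LK LD1_c16 LD2_c59 LD3_c1) (LK LD1_c26 LD2_c54 LD3_c49) Lrfl Lrfl
theorem f930259 : Led Lsl_bt (LP (LK LD1_c20 LD2_c42 LD3_c6)) = (LP (LK LD1_c11 LD2_c42 LD3_c51)) :=
  Lre_b IH (LK LD1_c20 LD2_c42 LD3_c6) (LK LD1_c11 LD2_c42 LD3_c51) Lrfl Lrfl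
theorem f932614 : Led Lsl_ct (LP (LK LD1_c20 LD2_c42 LD3_c6)) = (LP (LK LD1_c29 LD2_c36 LD3_c4)) :=
  Lre_c IH (LK LD1_c20 LD2_c42 LD3_c6) (LK LD1_c29 LD2_c36 LD3_c4) Lrfl Lrfl
theorem f961331 : Led Lsl_gt (LP (LK LD1_c26 LD2_c54 LD3_c49)) = (LP (LK LD1_c29 LD2_c36 LD3_c4)) :=
  Lgr Lrot149 (Lpe (f151782 IH) (Lpe (f151781 IH) (Lpe (f151763 IH) (Lpr_ct (f677137 IH) (Lpr_gf (f853198 IH) (Lpq (f924815 IH) (Lpe (K72.f901552 IH) (Lpr_bt (f901548 IH) (Lpr_gf (f961330 IH) (Lpe (f930259 IH) (Lpr_ct (f932614 IH) (Lpn (LP (LK LD1_c29 LD2_c36 LD3_c4))))))))))))))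
theorem f961332 : Led Lsl_gt (LP (LK LD1_c26 LD2_c54 LD3_c49)) = (LP (LK LD1_c29 LD2_c36 LD3_c4)) :=
  Leop (Lpe (f961331 IH) (Lpn (LP (LK LD1_c26 LD2_c54 LD3_c49))))
theorem seed_2846 : LEOK LG_g (LK LD1_c26 LD2_c54 LD3_c49) :=
  Leoe_g (LK LD1_c26 LD2_c54 LD3_c49) (f961332 IH)
theorem f699756 : Led Lsl_bt (LP (LK LD1_c9 LD2_c0 LD3_c25)) = (LP (LK LD1_c16 LD2_c49 LD3_c48)) :=
  Lre_b IH (LK LD1_c9 LD2_c0 LD3_c25) (LK LD1_c16 LD2_c49 LD3_c48) Lrfl Lrfl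
theorem f699755 : Led Lsl_ef (LP (LK LD1_c9 LD2_c0 LD3_c25)) = K72.v12945 :=
  Lgr Lrot88 (Lpr_et (K72.f699753 IH) (Lpn K72.v12945))
theorem f961255 : Led Lsl_bf K72.v12945 = v40906 :=
  Lgr Lrot96 (Lpe (f699755 IH) (Lpr_bt (f699756 IH) (Lpr_et (f961254 IH) (Lpn v40906))))
def v16664 : LQ := Led Lsl_gf (LP (LK LD1_c6 LD2_c4 LD3_c5))
theorem f750894 : Led Lsl_gf (LP (LK LD1_c6 LD2_c4 LD3_c5)) = v16664 :=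
  Lrfl
theorem f904093 : Led Lsl_gf v16664 = K71.v38723 :=
  Lgr Lrot47 (Lpe (f750894 IH) (Lpr_af (K71.f701111 IH) (Lpr_ff (K71.f904089 IH) (Lpn K71.v38723))))
theorem f646325 : Led Lsl_gf (LP (LK LD1_c8 LD2_c12 LD3_c9)) = K49.v5166 :=
  Lgr Lrot47 (Lpr_gt (K50.f175348 IH) (Lpr_af (K36.f412396 IH) (Lpr_ff (K49.f646322 IH) (Lpn K49.v5166))))
theorem f646320 : Led Lsl_df (LP (LK LD1_c9 LD2_c14 LD3_c9)) = K49.v5166 :=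
  Lgr Lrot78 (Lpr_ft (K67.f176045 IH) (Lpe (K36.f176037 IH) (Lpr_ft (K49.f646319 IH) (Lpn K49.v5166))))
def v16631 : LQ := Led Lsl_ct (LP (LK LD1_c6 LD2_c3 LD3_c34))
theorem f750793 : Led Lsl_ct (LP (LK LD1_c6 LD2_c3 LD3_c34)) = v16631 :=
  Lrfl
theorem f172075 : Led Lsl_ct (LP (LK LD1_c6 LD2_c4 LD3_c5)) = (LP (LK LD1_c2 LD2_c58 LD3_c8)) :=
  Lre_c IH (LK LD1_c6 LD2_c4 LD3_c5) (LK LD1_c2 LD2_c58 LD3_c8) Lrfl Lrfl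
theorem f924059 : v16631 = v16664 :=
  (Llr Lrot152 (Lpe (f750793 IH) (Lpr_gf (K67.f412410 IH) (Lpr_df (f646320 IH) (Lpe (f646325 IH) (Lpr_ct (K72.f880920 IH) (Lpqs (K72.f924058 IH) (Lpe (K72.f823119 IH) (Lpe (K72.f638299 IH) (Lpe (K35.f172066 IH) (Lpe (f172075 IH) (Lpr_gf (f750894 IH) (Lpn v16664))))))))))))).symm
def v16630 : LQ := Led Lsl_bt (LP (LK LD1_c6 LD2_c3 LD3_c34))
theorem f750791 : Led Lsl_bt (LP (LK LD1_c6 LD2_c3 LD3_c34)) = v16630 :=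
  Lrfl
theorem f539110 : Led Lsl_ct (LP (LK LD1_c6 LD2_c1 LD3_c28)) = (LP (LK LD1_c11 LD2_c47 LD3_c29)) :=
  Lre_c IH (LK LD1_c6 LD2_c1 LD3_c28) (LK LD1_c11 LD2_c47 LD3_c29) Lrfl Lrfl
theorem f539117 : Led Lsl_gt (LP (LK LD1_c11 LD2_c47 LD3_c31)) = (LP (LK LD1_c6 LD2_c1 LD3_c28)) :=
  Lre_g IH (LK LD1_c11 LD2_c47 LD3_c31) (LK LD1_c6 LD2_c1 LD3_c28) Lrfl Lrfl
theorem f961347 : v16630 = (LP (LK LD1_c11 LD2_c47 LD3_c31)) :=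
  (Llr Lrot130 (Lpe (f750791 IH) (Lpr_ct (f750793 IH) (Lpqs (f924059 IH) (Lpr_gf (f904093 IH) (Lpe (K71.f904085 IH) (Lpe (K71.f548585 IH) (Lpr_gf (K72.f699752 IH) (Lpr_bf (f961255 IH) (Lpr_ct (f924609 IH) (Lpe (f539124 IH) (Lpe (f539110 IH) (Lpe (f539117 IH) (Lpn (LP (LK LD1_c11 LD2_c47 LD3_c31)))))))))))))))).symm
theorem f750792 : Led Lsl_bf (LP (LK LD1_c6 LD2_c3 LD3_c34)) = v16630 :=
  Lgr Lrot24 (Lpr_bt (f750791 IH) (Lpn v16630))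
theorem f961348 : Led Lsl_bt (LP (LK LD1_c11 LD2_c47 LD3_c31)) = (LP (LK LD1_c6 LD2_c3 LD3_c34)) :=
  Leop (Lpr_bf (f750792 IH) (Lpqs (f961347 IH) (Lpn (LP (LK LD1_c11 LD2_c47 LD3_c31)))))
theorem seed_2847 : LEOK LG_b (LK LD1_c11 LD2_c47 LD3_c31) :=
  Leoe_b (LK LD1_c11 LD2_c47 LD3_c31) (f961348 IH)
theorem f245608 : Led Lsl_gt (LP (LK LD1_c2 LD2_c48 LD3_c24)) = (LP (LK LD1_c4 LD2_c33 LD3_c31)) :=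
  Lgr Lrot46 (Lpe (K55.f172571 IH) (Lpr_ft (K30.f245570 IH) (Lpr_at (K30.f245595 IH) (Lpn (LP (LK LD1_c4 LD2_c33 LD3_c31))))))
theorem f245613 : Led Lsl_ct (LP (LK LD1_c5 LD2_c45 LD3_c17)) = (LP (LK LD1_c11 LD2_c21 LD3_c6)) :=
  Lre_c IH (LK LD1_c5 LD2_c45 LD3_c17) (LK LD1_c11 LD2_c21 LD3_c6) Lrfl Lrfl
def v47652 : LQ := Led Lsl_gf (LP (LK LD1_c11 LD2_c21 LD3_c6))
theorem f959568 : Led Lsl_gf (LP (LK LD1_c11 LD2_c21 LD3_c6)) = v47652 :=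
  Lrfl
theorem f961350 : v47652 = (LP (LK LD1_c16 LD2_c54 LD3_c29)) :=
  (Llr Lrot126 (Lpe (f959568 IH) (Lpe (f245613 IH) (Lpr_bt (K74.f245610 IH) (Lpr_gt (f245608 IH) (Lpr_ct (K69.f697771 IH) (Lpe (K69.f697773 IH) (Lpq (K64.f823193 IH) (Lpe (K64.f698274 IH) (Lpr_bt (f698263 IH) (Lpr_gt (f896817 IH) (Lpqs (f961244 IH) (Lpe (K54.f422820 IH) (Lpr_ct (K54.f422821 IH) (Lpn (LP (LK LD1_c16 LD2_c54 LD3_c29))))))))))))))))).symm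
theorem f961351 : Led Lsl_gt (LP (LK LD1_c16 LD2_c54 LD3_c29)) = (LP (LK LD1_c11 LD2_c21 LD3_c6)) :=
  Leop (Lpr_gf (f959568 IH) (Lpqs (f961350 IH) (Lpn (LP (LK LD1_c16 LD2_c54 LD3_c29)))))
theorem seed_2848 : LEOK LG_g (LK LD1_c16 LD2_c54 LD3_c29) :=
  Leoe_g (LK LD1_c16 LD2_c54 LD3_c29) (f961351 IH)
theorem f646305 : Led Lsl_dt (LP (LK LD1_c5 LD2_c44 LD3_c1)) = K66.v5163 :=
  Lgr Lrot77 (Lpe (f383756 IH) (Lpe (K32.f427505 IH) (Lpe (K36.f427511 IH) (Lpe (K72.f427512 IH) (Lpr_ef (f646303 IH) (Lpn K66.v5163))))))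
theorem f698415 : Led Lsl_dt v5160 = v12825 :=
  Lgr Lrot42 (Lpr_df (f698414 IH) (Lpn v12825))
theorem f826712 : Led Lsl_bf v5160 = v25044 :=
  Lgr Lrot24 (Lpr_bt (f826711 IH) (Lpn v25044))
theorem f897626 : Led Lsl_df v25044 = v37923 :=
  Lgr Lrot12 (Lpe (f826712 IH) (Lpr_dt (f698415 IH) (Lpr_bt (f897625 IH) (Lpn v37923))))
def v37921 : LQ := Led Lsl_gf (LP (LK LD1_c9 LD2_c2 LD3_c14))
theorem f897610 : Led Lsl_gf (LP (LK LD1_c9 LD2_c2 LD3_c14)) = v37921 :=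
  Lrfl
theorem f961376 : v37921 = (LP (LK LD1_c5 LD2_c43 LD3_c15)) :=
  (Llr Lrot141 (Lpe (f897610 IH) (Lpr_ef (f897624 IH) (Lpe (f897626 IH) (Lpq (f961077 IH) (Lpe (f826733 IH) (Lpe (f646305 IH) (Lpr_et (K66.f382419 IH) (Lpr_gt (K27.f40157 IH) (Lpr_dt (K27.f40156 IH) (Lpe (K27.f382406 IH) (Lpe (K27.f381648 IH) (Lpr_et (K54.f382418 IH) (Lpn (LP (LK LD1_c5 LD2_c43 LD3_c15)))))))))))))))).symm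
theorem f961378 : Led Lsl_gt (LP (LK LD1_c5 LD2_c43 LD3_c15)) = (LP (LK LD1_c9 LD2_c2 LD3_c14)) :=
  Leop (Lpr_gf (f897610 IH) (Lpqs (f961376 IH) (Lpn (LP (LK LD1_c5 LD2_c43 LD3_c15)))))
theorem seed_2849 : LEOK LG_g (LK LD1_c5 LD2_c43 LD3_c15) :=
  Leoe_g (LK LD1_c5 LD2_c43 LD3_c15) (f961378 IH)
def v47383 : LQ := Led Lsl_et (LP (LK LD1_c11 LD2_c18 LD3_c27))
theorem f958479 : Led Lsl_et (LP (LK LD1_c11 LD2_c18 LD3_c27)) = v47383 :=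
  Lrfl
theorem f619009 : Led Lsl_dt (LP (LK LD1_c11 LD2_c18 LD3_c27)) = (LP (LK LD1_c20 LD2_c14 LD3_c57)) :=
  Lre_d IH (LK LD1_c11 LD2_c18 LD3_c27) (LK LD1_c20 LD2_c14 LD3_c57) Lrfl Lrfl
theorem f619007 : Led Lsl_gt (LP (LK LD1_c5 LD2_c44 LD3_c12)) = (LP (LK LD1_c11 LD2_c18 LD3_c27)) :=
  Lre_g IH (LK LD1_c5 LD2_c44 LD3_c12) (LK LD1_c11 LD2_c18 LD3_c27) Lrfl Lrfl
theorem f619010 : Led Lsl_gf (LP (LK LD1_c17 LD2_c31 LD3_c50)) = (LP (LK LD1_c20 LD2_c14 LD3_c57)) :=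
  Lgr Lrot134 (Lpe (K57.f74589 IH) (Lpr_et (f74665 IH) (Lpr_gt (K2.f74566 IH) (Lpe (K74.f68908 IH) (Lpr_dt (K37.f68883 IH) (Lpr_gt (K39.f9540 IH) (Lpr_df (K40.f556092 IH) (Lpr_et (K40.f384106 IH) (Lpr_gt (f619007 IH) (Lpr_dt (f619009 IH) (Lpn (LP (LK LD1_c20 LD2_c14 LD3_c57)))))))))))))
def v47376 : LQ := Led Lsl_dt (LP (LK LD1_c11 LD2_c18 LD3_c25))
theorem f958442 : Led Lsl_dt (LP (LK LD1_c11 LD2_c18 LD3_c25)) = v47376 :=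
  Lrfl
theorem f738380 : Led Lsl_ft (LP (LK LD1_c20 LD2_c14 LD3_c56)) = (LP (LK LD1_c11 LD2_c18 LD3_c25)) :=
  Lre_f IH (LK LD1_c20 LD2_c14 LD3_c56) (LK LD1_c11 LD2_c18 LD3_c25) Lrfl Lrfl
def v47290 : LQ := Led Lsl_gf (LP (LK LD1_c11 LD2_c17 LD3_c15))
theorem f957869 : Led Lsl_gf (LP (LK LD1_c11 LD2_c17 LD3_c15)) = v47290 :=
  Lrfl
def v47093 : LQ := Led Lsl_et (LP (LK LD1_c11 LD2_c14 LD3_c34))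
theorem f956853 : Led Lsl_et (LP (LK LD1_c11 LD2_c14 LD3_c34)) = v47093 :=
  Lrfl
theorem f719989 : Led Lsl_ft (LP (LK LD1_c6 LD2_c1 LD3_c24)) = (LP (LK LD1_c11 LD2_c14 LD3_c34)) :=
  Lgr Lrot48 (Lpr_ff (K74.f719987 IH) (Lpn (LP (LK LD1_c11 LD2_c14 LD3_c34))))
theorem f641649 : Led Lsl_ff (LP (LK LD1_c2 LD2_c56 LD3_c52)) = K41.v5057 :=
  Lgr Lrot3 (Lpr_ft (K41.f641648 IH) (Lpn K41.v5057))
theorem f956857 : Led Lsl_ff K56.v16396 = v47093 :=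
  Lgr Lrot72 (Lpe (K56.f749153 IH) (Lpq (K56.f719912 IH) (Lpe (f641649 IH) (Lpr_et (K56.f383332 IH) (Lpr_ft (f719989 IH) (Lpr_et (f956853 IH) (Lpn v47093)))))))
theorem f564018 : Led Lsl_et (LP (LK LD1_c6 LD2_c1 LD3_c12)) = (LP (LK LD1_c2 LD2_c56 LD3_c48)) :=
  Lre_e IH (LK LD1_c6 LD2_c1 LD3_c12) (LK LD1_c2 LD2_c56 LD3_c48) Lrfl Lrfl
theorem f749152 : Led Lsl_af (LP (LK LD1_c6 LD2_c1 LD3_c12)) = K56.v16396 :=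
  Lgr Lrot50 (Lpr_et (f564018 IH) (Lpr_at (K41.f641644 IH) (Lpqs (K56.f719912 IH) (Lpr_et (K56.f749151 IH) (Lpn K56.v16396)))))
def v16465 : LQ := Led Lsl_ft (LP (LK LD1_c6 LD2_c1 LD3_c12))
theorem f749629 : Led Lsl_ft (LP (LK LD1_c6 LD2_c1 LD3_c12)) = v16465 :=
  Lrfl
theorem f956858 : Led Lsl_at v16465 = v47093 :=
  Lgr Lrot66 (Lpe (f749629 IH) (Lpr_af (f749152 IH) (Lpr_ff (f956857 IH) (Lpn v47093))))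
theorem f956862 : Led Lsl_gt v15615 = v47093 :=
  Lgr Lrot46 (Lpe (f738319 IH) (Lpr_ft (f749629 IH) (Lpr_at (f956858 IH) (Lpn v47093))))
def v47092 : LQ := Led Lsl_dt (LP (LK LD1_c11 LD2_c14 LD3_c34))
theorem f956847 : Led Lsl_dt (LP (LK LD1_c11 LD2_c14 LD3_c34)) = v47092 :=
  Lrfl
theorem f956848 : Led Lsl_df (LP (LK LD1_c11 LD2_c14 LD3_c34)) = v47092 :=
  Lgr Lrot38 (Lpr_dt (f956847 IH) (Lpn v47092))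
theorem f956849 : Led Lsl_ff K56.v16472 = v47092 :=
  Lgr Lrot19 (Lpe (K56.f749651 IH) (Lpr_ft (f719989 IH) (Lpr_dt (f956847 IH) (Lpn v47092))))
def v16474 : LQ := Led Lsl_dt (LP (LK LD1_c6 LD2_c1 LD3_c25))
theorem f749662 : Led Lsl_dt (LP (LK LD1_c6 LD2_c1 LD3_c25)) = v16474 :=
  Lrfl
theorem f749664 : Led Lsl_ff K56.v5066 = v16474 :=
  Lgr Lrot19 (Lpe (K56.f645159 IH) (Lpr_ft (K53.f500860 IH) (Lpr_dt (f749662 IH) (Lpn v16474))))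
theorem f749665 : Led Lsl_ft K56.v5066 = v16474 :=
  Lgr Lrot48 (Lpr_ff (f749664 IH) (Lpn v16474))
def v16862 : LQ := Led Lsl_dt (LP (LK LD1_c6 LD2_c8 LD3_c0))
theorem f752074 : Led Lsl_dt (LP (LK LD1_c6 LD2_c8 LD3_c0)) = v16862 :=
  Lrfl
theorem f722084 : Led Lsl_dt K55.v4576 = K53.v14347 :=
  Lgr Lrot77 (Lpe (K55.f636216 IH) (Lpe (K38.f169714 IH) (Lpe (K36.f308035 IH) (Lpe (K40.f308038 IH) (Lpr_ef (K55.f722073 IH) (Lpn K53.v14347))))))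
theorem f752079 : Led Lsl_gf K55.v4576 = v16862 :=
  Lgr Lrot143 (Lpr_dt (f722084 IH) (Lpe (K53.f722077 IH) (Lpe (K39.f308071 IH) (Lpr_gf (K32.f427801 IH) (Lpe (K72.f387189 IH) (Lpe (K32.f427591 IH) (Lpe (K72.f53226 IH) (Lpr_gt (K72.f539626 IH) (Lpr_dt (f752074 IH) (Lpn v16862))))))))))
theorem f386771 : Led Lsl_et (LP (LK LD1_c1 LD2_c23 LD3_c45)) = (LP (LK LD1_c2 LD2_c55 LD3_c35)) :=
  Lre_e IH (LK LD1_c1 LD2_c23 LD3_c45) (LK LD1_c2 LD2_c55 LD3_c35) Lrfl Lrfl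
def v5009 : LQ := Led Lsl_gt (LP (LK LD1_c2 LD2_c55 LD3_c35))
theorem f641302 : Led Lsl_gt (LP (LK LD1_c2 LD2_c55 LD3_c35)) = v5009 :=
  Lrfl
theorem f74549 : Led Lsl_ft (LP (LK LD1_c0 LD2_c38 LD3_c45)) = (LP (LK LD1_c1 LD2_c23 LD3_c29)) :=
  Lre_f IH (LK LD1_c0 LD2_c38 LD3_c45) (LK LD1_c1 LD2_c23 LD3_c29) Lrfl Lrfl
theorem f641250 : Led Lsl_ef (LP (LK LD1_c2 LD2_c55 LD3_c59)) = K41.v4997 :=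
  Lgr Lrot21 (Lpr_ft (K41.f641249 IH) (Lpr_et (K24.f442631 IH) (Lpr_ft (f74549 IH) (Lpr_et (K66.f426268 IH) (Lpr_ft (K41.f641247 IH) (Lpn K41.v4997))))))
def v16220 : LQ := Led Lsl_dt (LP (LK LD1_c5 LD2_c55 LD3_c16))
theorem f747101 : Led Lsl_dt (LP (LK LD1_c5 LD2_c55 LD3_c16)) = v16220 :=
  Lrfl
def v4996 : LQ := Led Lsl_dt (LP (LK LD1_c2 LD2_c55 LD3_c5))
theorem f641241 : Led Lsl_dt (LP (LK LD1_c2 LD2_c55 LD3_c5)) = v4996 :=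
  Lrfl
theorem f641243 : Led Lsl_df (LP (LK LD1_c2 LD2_c55 LD3_c5)) = v4996 :=
  Lgr Lrot38 (Lpr_dt (f641241 IH) (Lpn v4996))
theorem f747104 : Led Lsl_ff v4996 = v16220 :=
  Lgr Lrot19 (Lpe (f641243 IH) (Lpr_ft (K41.f641247 IH) (Lpqs (K55.f643432 IH) (Lpr_dt (f747101 IH) (Lpn v16220)))))
theorem f641242 : Led Lsl_af (LP (LK LD1_c2 LD2_c55 LD3_c35)) = v4996 :=
  Lgr Lrot117 (Lpr_dt (K56.f386686 IH) (Lpr_at (K41.f427125 IH) (Lpr_dt (f641241 IH) (Lpn v4996))))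
def v5012 : LQ := Led Lsl_ft (LP (LK LD1_c2 LD2_c55 LD3_c35))
theorem f641308 : Led Lsl_ft (LP (LK LD1_c2 LD2_c55 LD3_c35)) = v5012 :=
  Lrfl
theorem f747106 : Led Lsl_at v5012 = v16220 :=
  Lgr Lrot66 (Lpe (f641308 IH) (Lpr_af (f641242 IH) (Lpr_ff (f747104 IH) (Lpn v16220))))
theorem f747108 : Led Lsl_gt v5009 = v16220 :=
  Lgr Lrot46 (Lpe (f641302 IH) (Lpr_ft (f641308 IH) (Lpr_at (f747106 IH) (Lpn v16220))))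
theorem f749171 : Led Lsl_df v5009 = K56.v16399 :=
  Lgr Lrot135 (Lpr_gt (f747108 IH) (Lpe (f747101 IH) (Lpq (K55.f643432 IH) (Lpe (f641250 IH) (Lpr_gt (K41.f641334 IH) (Lpq (K41.f642149 IH) (Lpq (K41.f641739 IH) (Lpe (K41.f507053 IH) (Lpr_dt (K41.f641718 IH) (Lpr_gt (f711227 IH) (Lpe (K53.f384004 IH) (Lpr_et (K53.f384016 IH) (Lpr_gt (K56.f749169 IH) (Lpn K56.v16399))))))))))))))
theorem f749172 : Led Lsl_dt v5009 = K56.v16399 :=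
  Lgr Lrot42 (Lpr_df (f749171 IH) (Lpn K56.v16399))
theorem f749176 : Led Lsl_gf (LP (LK LD1_c6 LD2_c1 LD3_c25)) = K56.v16399 :=
  Lgr Lrot47 (Lpr_gt (K53.f720281 IH) (Lpe (K56.f700780 IH) (Lpr_ff (K56.f749174 IH) (Lpn K56.v16399))))
theorem f749663 : Led Lsl_df (LP (LK LD1_c6 LD2_c1 LD3_c25)) = v16474 :=
  Lgr Lrot38 (Lpr_dt (f749662 IH) (Lpn v16474))
theorem f752082 : Led Lsl_et v16474 = v16862 :=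
  Lgr Lrot185 (Lpe (f749663 IH) (Lpr_gf (f749176 IH) (Lpe (f749172 IH) (Lpe (f641302 IH) (Lpe (f386771 IH) (Lpr_dt (K43.f386670 IH) (Lpr_gf (K27.f386763 IH) (Lpe (K55.f169716 IH) (Lpr_et (K55.f636216 IH) (Lpr_gf (f752079 IH) (Lpn v16862)))))))))))
theorem f752078 : Led Lsl_ff K72.v16343 = v16862 :=
  Lgr Lrot19 (Lpe (K72.f748883 IH) (Lpr_ft (K56.f586838 IH) (Lpr_dt (f752074 IH) (Lpn v16862))))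
theorem f956850 : Led Lsl_et K72.v16343 = v47092 :=
  Lgr Lrot69 (Lpr_ff (f752078 IH) (Lpe (f752082 IH) (Lpe (f749665 IH) (Lpr_ef (K56.f749652 IH) (Lpr_ff (f956849 IH) (Lpn v47092))))))
theorem f956855 : Led Lsl_df K56.v16342 = v47093 :=
  Lgr Lrot70 (Lpe (K56.f748877 IH) (Lpr_dt (K72.f748881 IH) (Lpr_et (f956850 IH) (Lpe (f956848 IH) (Lpr_et (f956853 IH) (Lpn v47093))))))
def v38080 : LQ := Led Lsl_dt (LP (LK LD1_c9 LD2_c4 LD3_c45))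
theorem f899052 : Led Lsl_dt (LP (LK LD1_c9 LD2_c4 LD3_c45)) = v38080 :=
  Lrfl
theorem f741414 : Led Lsl_et (LP (LK LD1_c9 LD2_c4 LD3_c45)) = (LP (LK LD1_c16 LD2_c56 LD3_c27)) :=
  Lre_e IH (LK LD1_c9 LD2_c4 LD3_c45) (LK LD1_c16 LD2_c56 LD3_c27) Lrfl Lrfl
theorem f781035 : Led Lsl_et (LP (LK LD1_c17 LD2_c7 LD3_c31)) = (LP (LK LD1_c9 LD2_c13 LD3_c0)) :=
  Lre_e IH (LK LD1_c17 LD2_c7 LD3_c31) (LK LD1_c9 LD2_c13 LD3_c0) Lrfl Lrfl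
def v13050 : LQ := Led Lsl_bt (LP (LK LD1_c4 LD2_c38 LD3_c34))
theorem f700742 : Led Lsl_bt (LP (LK LD1_c4 LD2_c38 LD3_c34)) = v13050 :=
  Lrfl
theorem f700743 : Led Lsl_bf (LP (LK LD1_c4 LD2_c38 LD3_c34)) = v13050 :=
  Lgr Lrot24 (Lpr_bt (f700742 IH) (Lpn v13050))
theorem f700419 : Led Lsl_bt (LP (LK LD1_c9 LD2_c12 LD3_c50)) = (LP (LK LD1_c6 LD2_c25 LD3_c28)) :=
  Lgr Lrot127 (Lpr_bf (K60.f700417 IH) (Lpn (LP (LK LD1_c6 LD2_c25 LD3_c28))))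
theorem f781009 : v13050 = K55.v13304 :=
  (Llr Lrot61 (Lpe (f700743 IH) (Lpr_ft (K60.f700750 IH) (Lpqs (K60.f781004 IH) (Lpr_bt (f700419 IH) (Lpe (K55.f741389 IH) (Lpn K55.v13304))))))).symm
theorem f741391 : Led Lsl_af K55.v13304 = (LP (LK LD1_c6 LD2_c25 LD3_c27)) :=
  Lgr Lrot0 (Lpr_at (K55.f741390 IH) (Lpn (LP (LK LD1_c6 LD2_c25 LD3_c27))))
theorem f699156 : Led Lsl_bf (LP (LK LD1_c6 LD2_c25 LD3_c27)) = (LP (LK LD1_c11 LD2_c43 LD3_c44)) :=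
  Lgr Lrot24 (Lpr_bt (K55.f699154 IH) (Lpn (LP (LK LD1_c11 LD2_c43 LD3_c44))))
theorem f743817 : Led Lsl_ft (LP (LK LD1_c5 LD2_c59 LD3_c40)) = (LP (LK LD1_c11 LD2_c43 LD3_c44)) :=
  Lgr Lrot48 (Lpr_ff (K55.f743815 IH) (Lpn (LP (LK LD1_c11 LD2_c43 LD3_c44))))
theorem f743819 : Led Lsl_af (LP (LK LD1_c5 LD2_c59 LD3_c39)) = (LP (LK LD1_c11 LD2_c43 LD3_c44)) :=
  Lgr Lrot31 (Lpe (K32.f75845 IH) (Lpe (K56.f75847 IH) (Lpr_ft (f743817 IH) (Lpn (LP (LK LD1_c11 LD2_c43 LD3_c44))))))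
theorem f743821 : Led Lsl_at (LP (LK LD1_c5 LD2_c59 LD3_c39)) = (LP (LK LD1_c11 LD2_c43 LD3_c44)) :=
  Lgr Lrot100 (Lpr_af (f743819 IH) (Lpn (LP (LK LD1_c11 LD2_c43 LD3_c44))))
def v16403 : LQ := Led Lsl_bt (LP (LK LD1_c5 LD2_c59 LD3_c39))
theorem f749203 : Led Lsl_bt (LP (LK LD1_c5 LD2_c59 LD3_c39)) = v16403 :=
  Lrfl
theorem f749204 : Led Lsl_bf (LP (LK LD1_c5 LD2_c59 LD3_c39)) = v16403 :=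
  Lgr Lrot24 (Lpr_bt (f749203 IH) (Lpn v16403))
theorem f781024 : v16403 = (LP (LK LD1_c9 LD2_c12 LD3_c49)) :=
  (Llr Lrot81 (Lpe (f749204 IH) (Lpr_at (f743821 IH) (Lpe (f699156 IH) (Lpe (f741391 IH) (Lpq (f781009 IH) (Lpe (f700743 IH) (Lpr_at (K60.f700736 IH) (Lpq (K60.f781014 IH) (Lpn (LP (LK LD1_c9 LD2_c12 LD3_c49)))))))))))).symm
def v16402 : LQ := Led Lsl_gf (LP (LK LD1_c5 LD2_c59 LD3_c35))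
theorem f749197 : Led Lsl_gf (LP (LK LD1_c5 LD2_c59 LD3_c35)) = v16402 :=
  Lrfl
theorem f501902 : Led Lsl_gt (LP (LK LD1_c5 LD2_c59 LD3_c35)) = (LP (LK LD1_c11 LD2_c43 LD3_c44)) :=
  Lre_g IH (LK LD1_c5 LD2_c59 LD3_c35) (LK LD1_c11 LD2_c43 LD3_c44) Lrfl Lrfl
theorem f749199 : Led Lsl_ff (LP (LK LD1_c5 LD2_c59 LD3_c39)) = v16402 :=
  Lgr Lrot52 (Lpr_at (f743821 IH) (Lpe (f501902 IH) (Lpr_gf (f749197 IH) (Lpn v16402))))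
theorem f749201 : Led Lsl_ft (LP (LK LD1_c5 LD2_c59 LD3_c39)) = v16402 :=
  Lgr Lrot48 (Lpr_ff (f749199 IH) (Lpn v16402))
theorem f781027 : (LP (LK LD1_c9 LD2_c13 LD3_c0)) = v16402 :=
  (Llr Lrot61 (Lpr_bt (K55.f150572 IH) (Lpr_ft (K60.f700738 IH) (Lpq (K60.f781014 IH) (Lpq (f781024 IH) (Lpe (f749204 IH) (Lpr_ft (f749201 IH) (Lpn v16402)))))))).symm
theorem f500779 : Led Lsl_ft (LP (LK LD1_c5 LD2_c59 LD3_c42)) = (LP (LK LD1_c2 LD2_c56 LD3_c10)) :=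
  Lre_f IH (LK LD1_c5 LD2_c59 LD3_c42) (LK LD1_c2 LD2_c56 LD3_c10) Lrfl Lrfl
theorem f749198 : Led Lsl_gt (LP (LK LD1_c5 LD2_c59 LD3_c42)) = v16402 :=
  Lgr Lrot5 (Lpr_ft (f500779 IH) (Lpr_at (K42.f500809 IH) (Lpr_gf (f749197 IH) (Lpn v16402))))
theorem f502739 : Led Lsl_gt (LP (LK LD1_c11 LD2_c45 LD3_c6)) = (LP (LK LD1_c6 LD2_c0 LD3_c18)) :=
  Lre_g IH (LK LD1_c11 LD2_c45 LD3_c6) (LK LD1_c6 LD2_c0 LD3_c18) Lrfl Lrfl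
theorem f714106 : Led Lsl_ff (LP (LK LD1_c20 LD2_c40 LD3_c31)) = (LP (LK LD1_c20 LD2_c17 LD3_c0)) :=
  Lgr Lrot19 (Lpr_dt (K54.f549463 IH) (Lpr_ft (K54.f713978 IH) (Lpr_dt (K55.f714105 IH) (Lpn (LP (LK LD1_c20 LD2_c17 LD3_c0))))))
theorem f643351 : Led Lsl_ff (LP (LK LD1_c9 LD2_c30 LD3_c7)) = (LP (LK LD1_c6 LD2_c0 LD3_c21)) :=
  Lgr Lrot3 (Lpr_ft (K45.f643338 IH) (Lpn (LP (LK LD1_c6 LD2_c0 LD3_c21))))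
theorem f643321 : Led Lsl_af (LP (LK LD1_c6 LD2_c0 LD3_c18)) = (LP (LK LD1_c9 LD2_c30 LD3_c7)) :=
  Lgr Lrot0 (Lpr_at (K45.f643319 IH) (Lpn (LP (LK LD1_c9 LD2_c30 LD3_c7))))
theorem f643353 : Led Lsl_gf (LP (LK LD1_c11 LD2_c45 LD3_c6)) = (LP (LK LD1_c6 LD2_c0 LD3_c21)) :=
  Lgr Lrot47 (Lpr_gt (f502739 IH) (Lpr_af (f643321 IH) (Lpr_ff (f643351 IH) (Lpn (LP (LK LD1_c6 LD2_c0 LD3_c21))))))
theorem f740063 : Led Lsl_af (LP (LK LD1_c11 LD2_c45 LD3_c6)) = (LP (LK LD1_c17 LD2_c7 LD3_c57)) :=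
  Lgr Lrot31 (Lpr_gf (f643353 IH) (Lpe (K55.f644338 IH) (Lpr_ft (K55.f740059 IH) (Lpn (LP (LK LD1_c17 LD2_c7 LD3_c57))))))
theorem f740055 : Led Lsl_af (LP (LK LD1_c11 LD2_c45 LD3_c5)) = (LP (LK LD1_c17 LD2_c7 LD3_c58)) :=
  Lgr Lrot0 (Lpr_at (K55.f740053 IH) (Lpn (LP (LK LD1_c17 LD2_c7 LD3_c58))))
theorem f740067 : Led Lsl_ft (LP (LK LD1_c11 LD2_c45 LD3_c6)) = (LP (LK LD1_c17 LD2_c7 LD3_c58)) :=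
  Lgr Lrot101 (Lpr_af (f740063 IH) (Lpe (K55.f740059 IH) (Lpr_af (f740055 IH) (Lpn (LP (LK LD1_c17 LD2_c7 LD3_c58))))))
theorem f740104 : Led Lsl_ef (LP (LK LD1_c11 LD2_c45 LD3_c6)) = (LP (LK LD1_c11 LD2_c40 LD3_c12)) :=
  Lgr Lrot21 (Lpr_ft (f740067 IH) (Lpe (K55.f740051 IH) (Lpe (f714106 IH) (Lpr_et (K54.f150341 IH) (Lpr_ft (K55.f740100 IH) (Lpn (LP (LK LD1_c11 LD2_c40 LD3_c12))))))))
theorem f618038 : Led Lsl_gt (LP (LK LD1_c20 LD2_c14 LD3_c52)) = (LP (LK LD1_c11 LD2_c18 LD3_c22)) :=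
  Lre_g IH (LK LD1_c20 LD2_c14 LD3_c52) (LK LD1_c11 LD2_c18 LD3_c22) Lrfl Lrfl
theorem f781040 : Led Lsl_dt (LP (LK LD1_c17 LD2_c7 LD3_c31)) = (LP (LK LD1_c20 LD2_c14 LD3_c52)) :=
  Lgr Lrot136 (Lpr_et (f781035 IH) (Lpqs (f781027 IH) (Lpe (f749198 IH) (Lpe (K46.f501438 IH) (Lpr_dt (K49.f558639 IH) (Lpr_gf (K45.f502735 IH) (Lpe (K45.f76139 IH) (Lpe (f502739 IH) (Lpr_ef (f740104 IH) (Lpr_dt (K54.f618033 IH) (Lpe (f618038 IH) (Lpn (LP (LK LD1_c20 LD2_c14 LD3_c52))))))))))))))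
theorem f781039 : Led Lsl_bt (LP (LK LD1_c9 LD2_c13 LD3_c3)) = (LP (LK LD1_c17 LD2_c7 LD3_c31)) :=
  Lre_b IH (LK LD1_c9 LD2_c13 LD3_c3) (LK LD1_c17 LD2_c7 LD3_c31) Lrfl Lrfl
theorem f781044 : Led Lsl_bf (LP (LK LD1_c17 LD2_c7 LD3_c35)) = (LP (LK LD1_c20 LD2_c14 LD3_c52)) :=
  Lgr Lrot93 (Lpr_dt (K60.f141867 IH) (Lpr_bt (f781039 IH) (Lpr_dt (f781040 IH) (Lpn (LP (LK LD1_c20 LD2_c14 LD3_c52))))))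
theorem f781050 : Led Lsl_at K55.v15757 = (LP (LK LD1_c20 LD2_c14 LD3_c52)) :=
  Lgr Lrot67 (Lpe (K55.f741333 IH) (Lpr_af (K60.f741068 IH) (Lpr_bf (K69.f780982 IH) (Lpe (K60.f780988 IH) (Lpr_bf (f781044 IH) (Lpn (LP (LK LD1_c20 LD2_c14 LD3_c52))))))))
theorem f740096 : Led Lsl_at (LP (LK LD1_c5 LD2_c44 LD3_c55)) = (LP (LK LD1_c11 LD2_c18 LD3_c22)) :=
  Lgr Lrot51 (Lpe (K50.f618140 IH) (Lpr_af (K55.f740092 IH) (Lpr_df (K51.f618030 IH) (Lpn (LP (LK LD1_c11 LD2_c18 LD3_c22))))))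
theorem f639002 : Led Lsl_ft (LP (LK LD1_c11 LD2_c20 LD3_c7)) = (LP (LK LD1_c5 LD2_c44 LD3_c55)) :=
  Lre_f IH (LK LD1_c11 LD2_c20 LD3_c7) (LK LD1_c5 LD2_c44 LD3_c55) Lrfl Lrfl
theorem f740180 : Led Lsl_gt (LP (LK LD1_c11 LD2_c20 LD3_c7)) = (LP (LK LD1_c20 LD2_c14 LD3_c52)) :=
  Lgr Lrot5 (Lpr_ft (f639002 IH) (Lpr_at (f740096 IH) (Lpe (f618038 IH) (Lpn (LP (LK LD1_c20 LD2_c14 LD3_c52))))))
theorem f781056 : Led Lsl_gt (LP (LK LD1_c16 LD2_c56 LD3_c27)) = (LP (LK LD1_c11 LD2_c20 LD3_c7)) :=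
  Lgr Lrot5 (Lpe (K56.f741368 IH) (Lpr_at (f781050 IH) (Lpe (f740180 IH) (Lpn (LP (LK LD1_c11 LD2_c20 LD3_c7))))))
theorem f740085 : Led Lsl_bt K60.v13165 = (LP (LK LD1_c11 LD2_c20 LD3_c7)) :=
  Lgr Lrot35 (Lpr_ff (K60.f740084 IH) (Lpe (K55.f714076 IH) (Lpe (f639002 IH) (Lpn (LP (LK LD1_c11 LD2_c20 LD3_c7))))))
theorem f740090 : Led Lsl_df (LP (LK LD1_c9 LD2_c17 LD3_c8)) = (LP (LK LD1_c11 LD2_c20 LD3_c7)) :=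
  Lgr Lrot12 (Lpr_bt (K51.f414363 IH) (Lpr_dt (K60.f701486 IH) (Lpr_bt (f740085 IH) (Lpn (LP (LK LD1_c11 LD2_c20 LD3_c7))))))
theorem f740112 : Led Lsl_af (LP (LK LD1_c11 LD2_c20 LD3_c7)) = (LP (LK LD1_c20 LD2_c14 LD3_c53)) :=
  Lgr Lrot117 (Lpe (f740090 IH) (Lpr_at (K55.f740077 IH) (Lpr_dt (K56.f740110 IH) (Lpn (LP (LK LD1_c20 LD2_c14 LD3_c53))))))
theorem f781058 : Led Lsl_gf (LP (LK LD1_c16 LD2_c56 LD3_c27)) = (LP (LK LD1_c11 LD2_c18 LD3_c22)) :=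
  Lgr Lrot47 (Lpr_gt (f781056 IH) (Lpr_af (f740112 IH) (Lpe (f618037 IH) (Lpn (LP (LK LD1_c11 LD2_c18 LD3_c22))))))
theorem f618035 : Led Lsl_et (LP (LK LD1_c5 LD2_c44 LD3_c7)) = (LP (LK LD1_c11 LD2_c18 LD3_c22)) :=
  Lre_e IH (LK LD1_c5 LD2_c44 LD3_c7) (LK LD1_c11 LD2_c18 LD3_c22) Lrfl Lrfl
theorem f899057 : Led Lsl_gf K56.v16464 = v38080 :=
  Lgr Lrot145 (Lpe (K56.f749604 IH) (Lpr_et (f564018 IH) (Lpr_gt (K41.f564017 IH) (Lpr_dt (K41.f564002 IH) (Lpe (K55.f740255 IH) (Lpe (K55.f382413 IH) (Lpr_et (f618035 IH) (Lpe (f781058 IH) (Lpe (f741414 IH) (Lpr_dt (f899052 IH) (Lpn v38080)))))))))))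
theorem f752176 : Led Lsl_af K56.v16464 = K56.v16870 :=
  Lgr Lrot50 (Lpe (K56.f749606 IH) (Lpe (K53.f720259 IH) (Lpr_et (K56.f752175 IH) (Lpn K56.v16870))))
theorem f752183 : Led Lsl_ft K56.v16342 = K56.v16870 :=
  Lgr Lrot48 (Lpr_ff (K56.f752180 IH) (Lpn K56.v16870))
theorem f899058 : Led Lsl_gt K56.v16342 = v38080 :=
  Lgr Lrot5 (Lpr_ft (f752183 IH) (Lpe (f752176 IH) (Lpr_gf (f899057 IH) (Lpn v38080))))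
theorem f740273 : Led Lsl_ef (LP (LK LD1_c20 LD2_c14 LD3_c56)) = (LP (LK LD1_c11 LD2_c20 LD3_c7)) :=
  Lgr Lrot20 (Lpr_at (K65.f740267 IH) (Lpe (K65.f740210 IH) (Lpe (f740112 IH) (Lpn (LP (LK LD1_c11 LD2_c20 LD3_c7))))))
theorem f740367 : Led Lsl_et (LP (LK LD1_c20 LD2_c14 LD3_c56)) = (LP (LK LD1_c11 LD2_c20 LD3_c7)) :=
  Lgr Lrot87 (Lpr_ef (f740273 IH) (Lpn (LP (LK LD1_c11 LD2_c20 LD3_c7))))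
theorem f957870 : Led Lsl_dt (LP (LK LD1_c20 LD2_c14 LD3_c56)) = v47290 :=
  Lgr Lrot136 (Lpr_et (f740367 IH) (Lpe (f781056 IH) (Lpe (f741414 IH) (Lpr_dt (f899052 IH) (Lpe (f899058 IH) (Lpr_df (f956855 IH) (Lpe (f956862 IH) (Lpe (f738317 IH) (Lpr_dt (f622105 IH) (Lpr_gf (f957869 IH) (Lpn v47290)))))))))))
theorem f957872 : Led Lsl_df (LP (LK LD1_c20 LD2_c14 LD3_c56)) = v47290 :=
  Lgr Lrot38 (Lpr_dt (f957870 IH) (Lpn v47290))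
theorem f958447 : Led Lsl_ff v47290 = v47376 :=
  Lgr Lrot19 (Lpe (f957872 IH) (Lpr_ft (f738380 IH) (Lpr_dt (f958442 IH) (Lpn v47376))))
theorem f740073 : Led Lsl_dt (LP (LK LD1_c9 LD2_c17 LD3_c8)) = (LP (LK LD1_c11 LD2_c20 LD3_c7)) :=
  Lgr Lrot60 (Lpr_ff (K55.f740061 IH) (Lpe (K50.f383351 IH) (Lpe (f639002 IH) (Lpn (LP (LK LD1_c11 LD2_c20 LD3_c7))))))
theorem f74611 : Led Lsl_df (LP (LK LD1_c17 LD2_c12 LD3_c15)) = (LP (LK LD1_c11 LD2_c18 LD3_c23)) :=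
  Lgr Lrot12 (Lpr_bt (K52.f74609 IH) (Lpr_dt (K51.f74605 IH) (Lpr_bt (K51.f74610 IH) (Lpn (LP (LK LD1_c11 LD2_c18 LD3_c23))))))
theorem f957873 : Led Lsl_ef (LP (LK LD1_c11 LD2_c18 LD3_c23)) = v47290 :=
  Lgr Lrot73 (Lpe (f74611 IH) (Lpr_et (K51.f74658 IH) (Lpr_dt (f740073 IH) (Lpe (f740273 IH) (Lpr_dt (f957870 IH) (Lpn v47290))))))
theorem f958450 : Led Lsl_et K60.v13165 = v47376 :=
  Lgr Lrot69 (Lpr_ff (K60.f740084 IH) (Lpe (K69.f714075 IH) (Lpr_ff (K54.f738928 IH) (Lpqs (K55.f740016 IH) (Lpr_ef (f957873 IH) (Lpr_ff (f958447 IH) (Lpn v47376)))))))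
theorem f958481 : Led Lsl_gt v47376 = v47383 :=
  Lgr Lrot131 (Lpe (f958450 IH) (Lpe (K60.f701487 IH) (Lpe (K50.f74637 IH) (Lpe (K55.f74591 IH) (Lpe (K2.f74566 IH) (Lpe (f74665 IH) (Lpr_dt (K57.f74589 IH) (Lpr_gf (f619010 IH) (Lpe (f619009 IH) (Lpr_et (f958479 IH) (Lpn v47383)))))))))))
def v15604 : LQ := Led Lsl_gf (LP (LK LD1_c5 LD2_c43 LD3_c15))
theorem f738235 : Led Lsl_gf (LP (LK LD1_c5 LD2_c43 LD3_c15)) = v15604 :=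
  Lrfl
theorem f958483 : Led Lsl_df v15604 = v47383 :=
  Lgr Lrot135 (Lpe (f738235 IH) (Lpe (K65.f622082 IH) (Lpr_et (K54.f381763 IH) (Lpe (K37.f542147 IH) (Lpe (K55.f68915 IH) (Lpr_dt (K55.f74591 IH) (Lpr_gt (K50.f74637 IH) (Lpr_df (K60.f701487 IH) (Lpr_et (f958450 IH) (Lpr_gt (f958481 IH) (Lpn v47383)))))))))))
theorem f958484 : Led Lsl_dt v15604 = v47383 :=
  Lgr Lrot42 (Lpr_df (f958483 IH) (Lpn v47383))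
theorem f824103 : Led Lsl_dt (LP (LK LD1_c11 LD2_c14 LD3_c42)) = (LP (LK LD1_c20 LD2_c9 LD3_c40)) :=
  Lre_d IH (LK LD1_c11 LD2_c14 LD3_c42) (LK LD1_c20 LD2_c9 LD3_c40) Lrfl Lrfl
theorem f897617 : Led Lsl_ft (LP (LK LD1_c11 LD2_c14 LD3_c42)) = v37922 :=
  Lgr Lrot48 (Lpr_ff (f897614 IH) (Lpn v37922))
theorem f897621 : Led Lsl_gt (LP (LK LD1_c11 LD2_c14 LD3_c42)) = v37921 :=
  Lgr Lrot5 (Lpr_ft (f897617 IH) (Lpe (f897612 IH) (Lpr_gf (f897610 IH) (Lpn v37921))))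
theorem f961379 : (LP (LK LD1_c11 LD2_c14 LD3_c42)) = v15604 :=
  Lefun (Lecon (Lfl_gt (f897621 IH)) (f961376 IH)) (f738235 IH)
theorem f961384 : v47383 = (LP (LK LD1_c20 LD2_c9 LD3_c40)) :=
  Lefun (Lecon (f958484 IH) (f961379 IH).symm) (f824103 IH)
theorem f740271 : Led Lsl_af (LP (LK LD1_c20 LD2_c14 LD3_c56)) = (LP (LK LD1_c11 LD2_c20 LD3_c19)) :=
  Lgr Lrot0 (Lpr_at (K65.f740267 IH) (Lpn (LP (LK LD1_c11 LD2_c20 LD3_c19))))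
theorem f957871 : Led Lsl_af (LP (LK LD1_c20 LD2_c17 LD3_c36)) = v47290 :=
  Lgr Lrot117 (Lpr_dt (K65.f740214 IH) (Lpe (f740271 IH) (Lpr_dt (f957870 IH) (Lpn v47290))))
theorem f958482 : Led Lsl_gf (LP (LK LD1_c20 LD2_c17 LD3_c36)) = v47383 :=
  Lgr Lrot76 (Lpr_af (f957871 IH) (Lpr_ff (f958447 IH) (Lpr_gt (f958481 IH) (Lpn v47383))))
theorem f961385 : Led Lsl_gt (LP (LK LD1_c20 LD2_c9 LD3_c40)) = (LP (LK LD1_c20 LD2_c17 LD3_c36)) :=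
  Leop (Lpr_gf (f958482 IH) (Lpqs (f961384 IH) (Lpn (LP (LK LD1_c20 LD2_c9 LD3_c40)))))
theorem seed_2850 : LEOK LG_g (LK LD1_c20 LD2_c9 LD3_c40) :=
  Leoe_g (LK LD1_c20 LD2_c9 LD3_c40) (f961385 IH)
def v38057 : LQ := Led Lsl_bt (LP (LK LD1_c9 LD2_c4 LD3_c32))
theorem f898934 : Led Lsl_bt (LP (LK LD1_c9 LD2_c4 LD3_c32)) = v38057 :=
  Lrfl
theorem f898935 : Led Lsl_bf (LP (LK LD1_c9 LD2_c4 LD3_c32)) = v38057 :=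
  Lgr Lrot24 (Lpr_bt (f898934 IH) (Lpn v38057))
def v47381 : LQ := Led Lsl_bt (LP (LK LD1_c11 LD2_c18 LD3_c27))
theorem f958475 : Led Lsl_bt (LP (LK LD1_c11 LD2_c18 LD3_c27)) = v47381 :=
  Lrfl
theorem f958476 : Led Lsl_bf (LP (LK LD1_c11 LD2_c18 LD3_c27)) = v47381 :=
  Lgr Lrot24 (Lpr_bt (f958475 IH) (Lpn v47381))
theorem f897139 : Led Lsl_bf (LP (LK LD1_c11 LD2_c14 LD3_c42)) = (LP (LK LD1_c16 LD2_c52 LD3_c27)) :=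
  Lgr Lrot24 (Lpr_bt (K74.f897135 IH) (Lpn (LP (LK LD1_c16 LD2_c52 LD3_c27))))
theorem f897142 : Led Lsl_bt (LP (LK LD1_c20 LD2_c9 LD3_c40)) = (LP (LK LD1_c11 LD2_c22 LD3_c32)) :=
  Lgr Lrot95 (Lpe (f824103 IH) (Lpr_bf (f897139 IH) (Lpr_df (K69.f707041 IH) (Lpn (LP (LK LD1_c11 LD2_c22 LD3_c32))))))
theorem f961395 : v47381 = (LP (LK LD1_c16 LD2_c56 LD3_c2)) :=
  (Llr Lrot96 (Lpe (f958476 IH) (Lpr_et (f958479 IH) (Lpqs (f961384 IH) (Lpr_bt (f897142 IH) (Lpe (K69.f707047 IH) (Lpn (LP (LK LD1_c16 LD2_c56 LD3_c2))))))))).symm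
def v47384 : LQ := Led Lsl_ft (LP (LK LD1_c11 LD2_c18 LD3_c27))
theorem f958485 : Led Lsl_ft (LP (LK LD1_c11 LD2_c18 LD3_c27)) = v47384 :=
  Lrfl
theorem f961398 : v38057 = v47384 :=
  (Llr Lrot61 (Lpe (f898935 IH) (Lpr_ft (K69.f898043 IH) (Lpq (f961395 IH) (Lpe (f958476 IH) (Lpr_ft (f958485 IH) (Lpn v47384))))))).symm
theorem f619008 : Led Lsl_dt (LP (LK LD1_c20 LD2_c14 LD3_c57)) = (LP (LK LD1_c11 LD2_c18 LD3_c27)) :=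
  Lre_d IH (LK LD1_c20 LD2_c14 LD3_c57) (LK LD1_c11 LD2_c18 LD3_c27) Lrfl Lrfl
theorem f23984 : Led Lsl_bt (LP (LK LD1_c12 LD2_c55 LD3_c15)) = (LP (LK LD1_c6 LD2_c45 LD3_c34)) :=
  Lre_b IH (LK LD1_c12 LD2_c55 LD3_c15) (LK LD1_c6 LD2_c45 LD3_c34) Lrfl Lrfl
theorem f913017 : Led Lsl_ff (LP (LK LD1_c12 LD2_c55 LD3_c15)) = v40044 :=
  Lgr Lrot25 (Lpr_bt (f23984 IH) (Lpr_ft (K69.f781574 IH) (Lpqs (K69.f824122 IH) (Lpr_bt (f913014 IH) (Lpn v40044)))))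
theorem f961178 : Led Lsl_at (LP (LK LD1_c12 LD2_c55 LD3_c15)) = (LP (LK LD1_c17 LD2_c32 LD3_c11)) :=
  Lgr Lrot26 (Lpr_ff (f913017 IH) (Lpq (f961166 IH) (Lpr_gt (f75927 IH) (Lpr_gt (K70.f75917 IH) (Lpn (LP (LK LD1_c17 LD2_c32 LD3_c11)))))))
theorem f23991 : Led Lsl_bt (LP (LK LD1_c6 LD2_c45 LD3_c34)) = (LP (LK LD1_c12 LD2_c55 LD3_c15)) :=
  Lre_b IH (LK LD1_c6 LD2_c45 LD3_c34) (LK LD1_c12 LD2_c55 LD3_c15) Lrfl Lrfl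
theorem f898035 : Led Lsl_af (LP (LK LD1_c17 LD2_c33 LD3_c18)) = (LP (LK LD1_c12 LD2_c54 LD3_c17)) :=
  Lgr Lrot0 (Lpr_at (K69.f898033 IH) (Lpn (LP (LK LD1_c12 LD2_c54 LD3_c17))))
theorem f961182 : Led Lsl_bf (LP (LK LD1_c12 LD2_c54 LD3_c17)) = (LP (LK LD1_c17 LD2_c32 LD3_c11)) :=
  Lgr Lrot81 (Lpe (f898035 IH) (Lpr_bt (K69.f175451 IH) (Lpq (K69.f824137 IH) (Lpe (K69.f781568 IH) (Lpr_bt (f23991 IH) (Lpr_at (f961178 IH) (Lpn (LP (LK LD1_c17 LD2_c32 LD3_c11)))))))))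
theorem f958460 : Led Lsl_df (LP (LK LD1_c17 LD2_c32 LD3_c11)) = v47378 :=
  Lgr Lrot38 (Lpr_dt (f958459 IH) (Lpn v47378))
theorem f961192 : v38057 = v47378 :=
  (Llr Lrot95 (Lpe (f898934 IH) (Lpe (K50.f698572 IH) (Lpr_bf (f961182 IH) (Lpr_df (f958460 IH) (Lpn v47378)))))).symm
theorem f961399 : Led Lsl_ff (LP (LK LD1_c20 LD2_c14 LD3_c57)) = (LP (LK LD1_c17 LD2_c32 LD3_c11)) :=
  Lgr Lrot19 (Lpr_dt (f619008 IH) (Lpr_ft (f958485 IH) (Lpq (f961398 IH) (Lpqs (f961192 IH) (Lpe (f958460 IH) (Lpn (LP (LK LD1_c17 LD2_c32 LD3_c11))))))))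
theorem f961400 : Led Lsl_ft (LP (LK LD1_c17 LD2_c32 LD3_c11)) = (LP (LK LD1_c20 LD2_c14 LD3_c57)) :=
  Leop (Lpr_ff (f961399 IH) (Lpn (LP (LK LD1_c17 LD2_c32 LD3_c11))))
theorem seed_2851 : LEOK LG_f (LK LD1_c17 LD2_c32 LD3_c11) :=
  Leoe_f (LK LD1_c17 LD2_c32 LD3_c11) (f961400 IH)
theorem f913020 : Led Lsl_et (LP (LK LD1_c20 LD2_c9 LD3_c47)) = v40044 :=
  Lgr Lrot87 (Lpr_ef (f913016 IH) (Lpn v40044))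
def v47851 : LQ := Led Lsl_bt (LP (LK LD1_c11 LD2_c22 LD3_c44))
theorem f960357 : Led Lsl_bt (LP (LK LD1_c11 LD2_c22 LD3_c44)) = v47851 :=
  Lrfl
theorem f175461 : Led Lsl_ef (LP (LK LD1_c9 LD2_c31 LD3_c26)) = (LP (LK LD1_c6 LD2_c3 LD3_c33)) :=
  Lgr Lrot88 (Lpr_et (K69.f175459 IH) (Lpn (LP (LK LD1_c6 LD2_c3 LD3_c33))))
def v16625 : LQ := Led Lsl_at (LP (LK LD1_c6 LD2_c3 LD3_c33))
theorem f750774 : Led Lsl_at (LP (LK LD1_c6 LD2_c3 LD3_c33)) = v16625 :=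
  Lrfl
theorem f750775 : Led Lsl_af (LP (LK LD1_c6 LD2_c3 LD3_c33)) = v16625 :=
  Lgr Lrot0 (Lpr_at (f750774 IH) (Lpn v16625))
def v13096 : LQ := Led Lsl_gt (LP (LK LD1_c4 LD2_c39 LD3_c15))
theorem f701088 : Led Lsl_gt (LP (LK LD1_c4 LD2_c39 LD3_c15)) = v13096 :=
  Lrfl
theorem f701090 : Led Lsl_et (LP (LK LD1_c6 LD2_c45 LD3_c34)) = v13096 :=
  Lgr Lrot122 (Lpr_dt (K69.f23981 IH) (Lpr_gt (K69.f23977 IH) (Lpe (K55.f23944 IH) (Lpr_et (K55.f23973 IH) (Lpr_gt (K9.f23929 IH) (Lpr_dt (K9.f23946 IH) (Lpr_gt (K9.f23974 IH) (Lpe (K10.f23975 IH) (Lpr_et (K72.f23976 IH) (Lpr_gt (f701088 IH) (Lpn v13096)))))))))))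
theorem f824164 : v16625 = v13096 :=
  (Llr Lrot50 (Lpe (f750775 IH) (Lpe (f175461 IH) (Lpq (K69.f824137 IH) (Lpe (K69.f781568 IH) (Lpr_et (f701090 IH) (Lpn v13096))))))).symm
theorem f750776 : Led Lsl_ft (LP (LK LD1_c6 LD2_c3 LD3_c34)) = v16625 :=
  Lgr Lrot2 (Lpr_gt (K56.f175354 IH) (Lpr_gt (K69.f175349 IH) (Lpr_af (f750775 IH) (Lpn v16625))))
theorem f701091 : Led Lsl_ef (LP (LK LD1_c6 LD2_c45 LD3_c34)) = v13096 :=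
  Lgr Lrot88 (Lpr_et (f701090 IH) (Lpn v13096))
theorem f824165 : Led Lsl_ff (LP (LK LD1_c11 LD2_c22 LD3_c44)) = (LP (LK LD1_c11 LD2_c14 LD3_c47)) :=
  Lgr Lrot72 (Lpr_et (K67.f750802 IH) (Lpr_ft (f750776 IH) (Lpqs (f824164 IH) (Lpe (f701091 IH) (Lpr_ft (K69.f781574 IH) (Lpqs (K69.f824122 IH) (Lpe (K50.f68676 IH) (Lpn (LP (LK LD1_c11 LD2_c14 LD3_c47))))))))))
theorem f960361 : Led Lsl_ff (LP (LK LD1_c20 LD2_c9 LD3_c47)) = v47851 :=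
  Lgr Lrot25 (Lpr_bt (f68686 IH) (Lpe (f824165 IH) (Lpr_bt (f960357 IH) (Lpn v47851))))
theorem f960360 : Led Lsl_ef v16630 = v47851 :=
  Lgr Lrot29 (Lpe (f750792 IH) (Lpe (K56.f750800 IH) (Lpr_bt (f960357 IH) (Lpn v47851))))
theorem f960364 : Led Lsl_et v16630 = v47851 :=
  Lgr Lrot87 (Lpr_ef (f960360 IH) (Lpn v47851))
theorem f961403 : Led Lsl_ft (LP (LK LD1_c20 LD2_c14 LD3_c57)) = (LP (LK LD1_c17 LD2_c32 LD3_c11)) :=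
  Lgr Lrot48 (Lpr_ff (f961399 IH) (Lpn (LP (LK LD1_c17 LD2_c32 LD3_c11))))
theorem f961180 : Led Lsl_af (LP (LK LD1_c12 LD2_c55 LD3_c15)) = (LP (LK LD1_c17 LD2_c32 LD3_c11)) :=
  Lgr Lrot0 (Lpr_at (f961178 IH) (Lpn (LP (LK LD1_c17 LD2_c32 LD3_c11))))
theorem f961407 : v47387 = (LP (LK LD1_c12 LD2_c55 LD3_c15)) :=
  (Llr Lrot46 (Lpe (f958495 IH) (Lpr_gf (f619010 IH) (Lpr_ft (f961403 IH) (Lpe (f961180 IH) (Lpn (LP (LK LD1_c12 LD2_c55 LD3_c15)))))))).symm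
def v47585 : LQ := Led Lsl_gt (LP (LK LD1_c11 LD2_c20 LD3_c33))
theorem f959312 : Led Lsl_gt (LP (LK LD1_c11 LD2_c20 LD3_c33)) = v47585 :=
  Lrfl
theorem f539273 : Led Lsl_et (LP (LK LD1_c5 LD2_c45 LD3_c3)) = (LP (LK LD1_c11 LD2_c20 LD3_c33)) :=
  Lre_e IH (LK LD1_c5 LD2_c45 LD3_c3) (LK LD1_c11 LD2_c20 LD3_c33) Lrfl Lrfl
theorem f959314 : Led Lsl_et v47387 = v47585 :=
  Lgr Lrot122 (Lpe (f958494 IH) (Lpr_gt (f561709 IH) (Lpe (K69.f597227 IH) (Lpe (K40.f556094 IH) (Lpr_gt (K39.f72501 IH) (Lpr_dt (K40.f72500 IH) (Lpr_gt (K36.f75541 IH) (Lpe (K38.f500889 IH) (Lpr_et (f539273 IH) (Lpr_gt (f959312 IH) (Lpn v47585)))))))))))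
theorem f961411 : Led Lsl_ff v16630 = v47585 :=
  Lgr Lrot72 (Lpr_et (f960364 IH) (Lpe (f960361 IH) (Lpr_et (f913020 IH) (Lpe (f913017 IH) (Lpq (f961407 IH) (Lpr_et (f959314 IH) (Lpn v47585)))))))
theorem f959313 : Led Lsl_gf (LP (LK LD1_c11 LD2_c47 LD3_c32)) = v47585 :=
  Lgr Lrot76 (Lpr_af (K56.f545466 IH) (Lpe (K56.f545465 IH) (Lpr_gt (f959312 IH) (Lpn v47585))))
theorem f539274 : Led Lsl_gt (LP (LK LD1_c20 LD2_c17 LD3_c57)) = (LP (LK LD1_c11 LD2_c20 LD3_c33)) :=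
  Lre_g IH (LK LD1_c20 LD2_c17 LD3_c57) (LK LD1_c11 LD2_c20 LD3_c33) Lrfl Lrfl
theorem f545468 : Led Lsl_gt (LP (LK LD1_c11 LD2_c47 LD3_c32)) = (LP (LK LD1_c20 LD2_c17 LD3_c57)) :=
  Lgr Lrot5 (Lpr_ft (K56.f539121 IH) (Lpr_at (K38.f545452 IH) (Lpe (f539274 IH) (Lpn (LP (LK LD1_c20 LD2_c17 LD3_c57))))))
theorem f961414 : Led Lsl_at v16630 = (LP (LK LD1_c20 LD2_c17 LD3_c57)) :=
  Lgr Lrot26 (Lpr_ff (f961411 IH) (Lpe (f959313 IH) (Lpr_gt (f545468 IH) (Lpn (LP (LK LD1_c20 LD2_c17 LD3_c57))))))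
theorem f961415 : Led Lsl_at (LP (LK LD1_c11 LD2_c47 LD3_c31)) = (LP (LK LD1_c20 LD2_c17 LD3_c57)) :=
  Leop (Lpe (f961414 IH) (Lpqs (f961347 IH) (Lpn (LP (LK LD1_c11 LD2_c47 LD3_c31)))))
theorem seed_2852 : LEOK LG_a (LK LD1_c11 LD2_c47 LD3_c31) :=
  Leoe_a (LK LD1_c11 LD2_c47 LD3_c31) (f961415 IH)
theorem f913018 : Led Lsl_ft (LP (LK LD1_c12 LD2_c55 LD3_c15)) = v40044 :=
  Lgr Lrot48 (Lpr_ff (f913017 IH) (Lpn v40044))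
theorem f961405 : Led Lsl_af (LP (LK LD1_c20 LD2_c14 LD3_c57)) = v40044 :=
  Lgr Lrot45 (Lpr_ft (f961403 IH) (Lpe (f961180 IH) (Lpr_ft (f913018 IH) (Lpn v40044))))
def v47568 : LQ := Led Lsl_ft (LP (LK LD1_c11 LD2_c20 LD3_c22))
theorem f959250 : Led Lsl_ft (LP (LK LD1_c11 LD2_c20 LD3_c22)) = v47568 :=
  Lrfl
def v47564 : LQ := Led Lsl_gt (LP (LK LD1_c11 LD2_c20 LD3_c22))
theorem f959236 : Led Lsl_gt (LP (LK LD1_c11 LD2_c20 LD3_c22)) = v47564 :=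
  Lrfl
theorem f959251 : Led Lsl_af (LP (LK LD1_c11 LD2_c20 LD3_c26)) = v47568 :=
  Lgr Lrot45 (Lpr_ft (f959241 IH) (Lpe (f959238 IH) (Lpr_ft (f959250 IH) (Lpn v47568))))
theorem f959254 : Led Lsl_gt v47564 = (LP (LK LD1_c11 LD2_c20 LD3_c26)) :=
  Lgr Lrot46 (Lpe (f959236 IH) (Lpr_ft (f959250 IH) (Lpe (f959251 IH) (Lpn (LP (LK LD1_c11 LD2_c20 LD3_c26))))))
theorem f442644 : Led Lsl_dt (LP (LK LD1_c11 LD2_c20 LD3_c26)) = (LP (LK LD1_c5 LD2_c45 LD3_c0)) :=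
  Lre_d IH (LK LD1_c11 LD2_c20 LD3_c26) (LK LD1_c5 LD2_c45 LD3_c0) Lrfl Lrfl
theorem f442643 : Led Lsl_dt (LP (LK LD1_c5 LD2_c45 LD3_c1)) = (LP (LK LD1_c2 LD2_c48 LD3_c18)) :=
  Lre_d IH (LK LD1_c5 LD2_c45 LD3_c1) (LK LD1_c2 LD2_c48 LD3_c18) Lrfl Lrfl
theorem f442642 : Led Lsl_et (LP (LK LD1_c5 LD2_c45 LD3_c1)) = (LP (LK LD1_c2 LD2_c48 LD3_c20)) :=
  Lre_e IH (LK LD1_c5 LD2_c45 LD3_c1) (LK LD1_c2 LD2_c48 LD3_c20) Lrfl Lrfl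
theorem f959255 : Led Lsl_ef v47564 = (LP (LK LD1_c20 LD2_c14 LD3_c57)) :=
  Lgr Lrot167 (Lpr_gt (f959254 IH) (Lpr_dt (f442644 IH) (Lpr_gt (f381693 IH) (Lpe (f442643 IH) (Lpr_et (f442642 IH) (Lpr_gt (K37.f176455 IH) (Lpr_ef (K40.f556094 IH) (Lpr_dt (K69.f597227 IH) (Lpr_gt (f619007 IH) (Lpe (f619008 IH) (Lpn (LP (LK LD1_c20 LD2_c14 LD3_c57)))))))))))))
theorem f961438 : Led Lsl_at v47564 = (LP (LK LD1_c20 LD2_c9 LD3_c47)) :=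
  Lgr Lrot80 (Lpr_ef (f959255 IH) (Lpr_af (f961405 IH) (Lpq (f961166 IH) (Lpqs (f961166 IH) (Lpe (f913020 IH) (Lpn (LP (LK LD1_c20 LD2_c9 LD3_c47))))))))
theorem f961439 : Led Lsl_af v47564 = (LP (LK LD1_c20 LD2_c9 LD3_c47)) :=
  Lgr Lrot0 (Lpr_at (f961438 IH) (Lpn (LP (LK LD1_c20 LD2_c9 LD3_c47))))
theorem f961441 : (LP (LK LD1_c20 LD2_c17 LD3_c41)) = v47851 :=
  (Llr Lrot47 (Lpr_gt (f912789 IH) (Lpr_gt (f959236 IH) (Lpr_af (f961439 IH) (Lpr_ff (f960361 IH) (Lpn v47851)))))).symm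
theorem f960358 : Led Lsl_bf (LP (LK LD1_c11 LD2_c22 LD3_c44)) = v47851 :=
  Lgr Lrot24 (Lpr_bt (f960357 IH) (Lpn v47851))
theorem f961442 : Led Lsl_bt (LP (LK LD1_c20 LD2_c17 LD3_c41)) = (LP (LK LD1_c11 LD2_c22 LD3_c44)) :=
  Leop (Lpr_bf (f960358 IH) (Lpq (f961441 IH) (Lpn (LP (LK LD1_c20 LD2_c17 LD3_c41)))))
theorem seed_2853 : LEOK LG_b (LK LD1_c20 LD2_c17 LD3_c41) :=
  Leoe_b (LK LD1_c20 LD2_c17 LD3_c41) (f961442 IH)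
theorem f622096 : Led Lsl_ft (LP (LK LD1_c5 LD2_c43 LD3_c35)) = (LP (LK LD1_c2 LD2_c47 LD3_c47)) :=
  Lre_f IH (LK LD1_c5 LD2_c43 LD3_c35) (LK LD1_c2 LD2_c47 LD3_c47) Lrfl Lrfl
theorem f738261 : Led Lsl_df (LP (LK LD1_c5 LD2_c43 LD3_c35)) = K54.v15608 :=
  Lgr Lrot78 (Lpr_ft (f622096 IH) (Lpe (f622091 IH) (Lpr_ft (K54.f738258 IH) (Lpn K54.v15608))))
theorem f381774 : Led Lsl_gt (LP (LK LD1_c11 LD2_c16 LD3_c52)) = (LP (LK LD1_c5 LD2_c43 LD3_c24)) :=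
  Lre_g IH (LK LD1_c11 LD2_c16 LD3_c52) (LK LD1_c5 LD2_c43 LD3_c24) Lrfl Lrfl
theorem f738270 : Led Lsl_gf (LP (LK LD1_c11 LD2_c16 LD3_c52)) = K54.v15608 :=
  Lgr Lrot47 (Lpr_gt (f381774 IH) (Lpe (K54.f381764 IH) (Lpr_ff (K54.f738263 IH) (Lpn K54.v15608))))
def v47253 : LQ := Led Lsl_ct (LP (LK LD1_c11 LD2_c16 LD3_c52))
theorem f957675 : Led Lsl_ct (LP (LK LD1_c11 LD2_c16 LD3_c52)) = v47253 :=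
  Lrfl
theorem f738236 : Led Lsl_gt (LP (LK LD1_c5 LD2_c43 LD3_c35)) = v15604 :=
  Lgr Lrot5 (Lpr_ft (f622096 IH) (Lpr_at (K54.f381776 IH) (Lpr_gf (f738235 IH) (Lpn v15604))))
theorem f718875 : Led Lsl_dt (LP (LK LD1_c11 LD2_c24 LD3_c35)) = v14072 :=
  Lgr Lrot77 (Lpe (K74.f542183 IH) (Lpr_df (K37.f542151 IH) (Lpe (K39.f542193 IH) (Lpq (K44.f579844 IH) (Lpe (K43.f558327 IH) (Lpr_ef (f718872 IH) (Lpn v14072)))))))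
def v40668 : LQ := Led Lsl_et (LP (LK LD1_c9 LD2_c45 LD3_c13))
theorem f918376 : Led Lsl_et (LP (LK LD1_c9 LD2_c45 LD3_c13)) = v40668 :=
  Lrfl
theorem f918378 : Led Lsl_cf v14072 = v40668 :=
  Lgr Lrot39 (Lpe (f718872 IH) (Lpr_ct (K66.f579840 IH) (Lpr_et (f918376 IH) (Lpn v40668))))
theorem f961452 : Led Lsl_gt v47253 = v40668 :=
  Lgr Lrot187 (Lpe (f957675 IH) (Lpr_gf (f738270 IH) (Lpe (f738261 IH) (Lpr_gt (f738236 IH) (Lpq (f961379 IH) (Lpr_ct (K74.f824101 IH) (Lpr_gt (K74.f956708 IH) (Lpr_ct (K74.f580150 IH) (Lpr_dt (f718875 IH) (Lpr_cf (f918378 IH) (Lpn v40668)))))))))))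
theorem f381775 : Led Lsl_bt (LP (LK LD1_c5 LD2_c43 LD3_c17)) = (LP (LK LD1_c2 LD2_c47 LD3_c47)) :=
  Lre_b IH (LK LD1_c5 LD2_c43 LD3_c17) (LK LD1_c2 LD2_c47 LD3_c47) Lrfl Lrfl
theorem f738267 : Led Lsl_bt (LP (LK LD1_c5 LD2_c43 LD3_c35)) = K54.v15608 :=
  Lgr Lrot35 (Lpe (K54.f622098 IH) (Lpe (f381775 IH) (Lpr_ff (K54.f738263 IH) (Lpn K54.v15608))))
theorem f644617 : Led Lsl_ct (LP (LK LD1_c5 LD2_c43 LD3_c35)) = (LP (LK LD1_c11 LD2_c17 LD3_c12)) :=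
  Lre_c IH (LK LD1_c5 LD2_c43 LD3_c35) (LK LD1_c11 LD2_c17 LD3_c12) Lrfl Lrfl
theorem f918379 : Led Lsl_ef (LP (LK LD1_c9 LD2_c45 LD3_c13)) = v40668 :=
  Lgr Lrot88 (Lpr_et (f918376 IH) (Lpn v40668))
theorem f918381 : Led Lsl_ct v14072 = v40668 :=
  Lgr Lrot15 (Lpe (f718868 IH) (Lpe (K43.f558323 IH) (Lpr_ef (f918379 IH) (Lpn v40668))))
theorem f718870 : Led Lsl_bf (LP (LK LD1_c15 LD2_c3 LD3_c58)) = v14072 :=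
  Lgr Lrot96 (Lpr_et (K44.f157834 IH) (Lpr_bt (K71.f580259 IH) (Lpr_et (f718868 IH) (Lpn v14072))))
def v46872 : LQ := Led Lsl_gt (LP (LK LD1_c11 LD2_c12 LD3_c15))
theorem f955641 : Led Lsl_gt (LP (LK LD1_c11 LD2_c12 LD3_c15)) = v46872 :=
  Lrfl
theorem f956111 : v46872 = (LP (LK LD1_c15 LD2_c3 LD3_c58)) :=
  (Llr Lrot46 (Lpe (f955641 IH) (Lpr_gf (K74.f897164 IH) (Lpr_ft (K74.f956105 IH) (Lpe (K44.f580247 IH) (Lpn (LP (LK LD1_c15 LD2_c3 LD3_c58)))))))).symm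
theorem f956126 : Led Lsl_gf (LP (LK LD1_c20 LD2_c8 LD3_c60)) = (LP (LK LD1_c15 LD2_c3 LD3_c58)) :=
  Lgr Lrot76 (Lpr_af (f956058 IH) (Lpe (K74.f896738 IH) (Lpr_gt (f955641 IH) (Lpqs (f956111 IH) (Lpn (LP (LK LD1_c15 LD2_c3 LD3_c58)))))))
theorem f961064 : Led Lsl_ft (LP (LK LD1_c17 LD2_c54 LD3_c61)) = v47982 :=
  Lgr Lrot48 (Lpr_ff (f961062 IH) (Lpn v47982))
theorem f961237 : Led Lsl_cf (LP (LK LD1_c17 LD2_c54 LD3_c61)) = v47273 :=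
  Lgr Lrot108 (Lpr_ft (f961064 IH) (Lpqs (f961227 IH) (Lpr_ct (f622103 IH) (Lpr_ft (f957816 IH) (Lpn v47273)))))
theorem f961238 : Led Lsl_ct (LP (LK LD1_c17 LD2_c54 LD3_c61)) = v47273 :=
  Lgr Lrot59 (Lpr_cf (f961237 IH) (Lpn v47273))
theorem f961454 : (LP (LK LD1_c20 LD2_c12 LD3_c42)) = v47273 :=
  (Llr Lrot126 (Lpr_gt (f957531 IH) (Lpe (f644617 IH) (Lpr_bt (f738267 IH) (Lpe (f738270 IH) (Lpr_ct (f957675 IH) (Lpr_gt (f961452 IH) (Lpe (f918381 IH) (Lpe (f718870 IH) (Lpe (f956126 IH) (Lpr_bf (f956156 IH) (Lpr_ct (f961238 IH) (Lpn v47273))))))))))))).symm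
theorem f961455 : Led Lsl_at (LP (LK LD1_c20 LD2_c12 LD3_c42)) = (LP (LK LD1_c11 LD2_c17 LD3_c9)) :=
  Leop (Lpr_af (f957815 IH) (Lpq (f961454 IH) (Lpn (LP (LK LD1_c20 LD2_c12 LD3_c42)))))
theorem seed_2854 : LEOK LG_a (LK LD1_c20 LD2_c12 LD3_c42) :=
  Leoe_a (LK LD1_c20 LD2_c12 LD3_c42) (f961455 IH)
def v47252 : LQ := Led Lsl_bt (LP (LK LD1_c11 LD2_c16 LD3_c52))
theorem f957673 : Led Lsl_bt (LP (LK LD1_c11 LD2_c16 LD3_c52)) = v47252 :=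
  Lrfl
theorem f961461 : v47252 = (LP (LK LD1_c9 LD2_c2 LD3_c10)) :=
  (Llr Lrot92 (Lpe (f957673 IH) (Lpr_ct (f957675 IH) (Lpr_gt (f961452 IH) (Lpe (f918381 IH) (Lpe (f718870 IH) (Lpe (f956126 IH) (Lpr_ct (K74.f281850 IH) (Lpr_gt (K74.f281849 IH) (Lpe (K69.f281834 IH) (Lpr_bt (K16.f281832 IH) (Lpr_gt (K51.f281845 IH) (Lpn (LP (LK LD1_c9 LD2_c2 LD3_c10))))))))))))))).symm
theorem f961463 : Led Lsl_bt (LP (LK LD1_c11 LD2_c16 LD3_c52)) = (LP (LK LD1_c9 LD2_c2 LD3_c10)) :=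
  Leop (Lpq (f961461 IH) (Lpe (f957673 IH) (Lpn (LP (LK LD1_c11 LD2_c16 LD3_c52)))))
theorem seed_2855 : LEOK LG_b (LK LD1_c11 LD2_c16 LD3_c52) :=
  Leoe_b (LK LD1_c11 LD2_c16 LD3_c52) (f961463 IH)
def v47425 : LQ := Led Lsl_ft (LP (LK LD1_c11 LD2_c18 LD3_c46))
theorem f958658 : Led Lsl_ft (LP (LK LD1_c11 LD2_c18 LD3_c46)) = v47425 :=
  Lrfl
theorem f958660 : Led Lsl_ff (LP (LK LD1_c11 LD2_c18 LD3_c46)) = v47425 :=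
  Lgr Lrot3 (Lpr_ft (f958658 IH) (Lpn v47425))
theorem f383336 : Led Lsl_et (LP (LK LD1_c11 LD2_c18 LD3_c46)) = (LP (LK LD1_c5 LD2_c44 LD3_c19)) :=
  Lre_e IH (LK LD1_c11 LD2_c18 LD3_c46) (LK LD1_c5 LD2_c44 LD3_c19) Lrfl Lrfl
def v15632 : LQ := Led Lsl_at (LP (LK LD1_c5 LD2_c44 LD3_c18))
theorem f738402 : Led Lsl_at (LP (LK LD1_c5 LD2_c44 LD3_c18)) = v15632 :=
  Lrfl
theorem f738403 : Led Lsl_af (LP (LK LD1_c5 LD2_c44 LD3_c18)) = v15632 :=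
  Lgr Lrot0 (Lpr_at (f738402 IH) (Lpn v15632))
theorem f738404 : Led Lsl_ft (LP (LK LD1_c5 LD2_c44 LD3_c19)) = v15632 :=
  Lgr Lrot2 (Lpr_gt (f383335 IH) (Lpr_gt (f383338 IH) (Lpr_af (f738403 IH) (Lpn v15632))))
def v47416 : LQ := Led Lsl_at (LP (LK LD1_c11 LD2_c18 LD3_c43))
theorem f958620 : Led Lsl_at (LP (LK LD1_c11 LD2_c18 LD3_c43)) = v47416 :=
  Lrfl
theorem f622089 : Led Lsl_et (LP (LK LD1_c5 LD2_c44 LD3_c18)) = (LP (LK LD1_c11 LD2_c18 LD3_c43)) :=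
  Lre_e IH (LK LD1_c5 LD2_c44 LD3_c18) (LK LD1_c11 LD2_c18 LD3_c43) Lrfl Lrfl
theorem f958623 : Led Lsl_ef v15632 = v47416 :=
  Lgr Lrot20 (Lpe (f738403 IH) (Lpr_et (f622089 IH) (Lpr_at (f958620 IH) (Lpn v47416))))
theorem f958624 : Led Lsl_et v15632 = v47416 :=
  Lgr Lrot87 (Lpr_ef (f958623 IH) (Lpn v47416))
theorem f383337 : Led Lsl_et (LP (LK LD1_c5 LD2_c43 LD3_c15)) = (LP (LK LD1_c2 LD2_c47 LD3_c38)) :=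
  Lre_e IH (LK LD1_c5 LD2_c43 LD3_c15) (LK LD1_c2 LD2_c47 LD3_c38) Lrfl Lrfl
theorem f383339 : Led Lsl_et (LP (LK LD1_c11 LD2_c18 LD3_c43)) = (LP (LK LD1_c5 LD2_c44 LD3_c18)) :=
  Lre_e IH (LK LD1_c11 LD2_c18 LD3_c43) (LK LD1_c5 LD2_c44 LD3_c18) Lrfl Lrfl
theorem f622084 : Led Lsl_df (LP (LK LD1_c11 LD2_c16 LD3_c52)) = (LP (LK LD1_c11 LD2_c18 LD3_c43)) :=
  Lgr Lrot170 (Lpr_gt (f381774 IH) (Lpr_df (K54.f622078 IH) (Lpr_et (f383337 IH) (Lpr_gt (K37.f382451 IH) (Lpr_dt (K17.f211950 IH) (Lpr_gt (K27.f211949 IH) (Lpr_df (K28.f383254 IH) (Lpr_et (K40.f383256 IH) (Lpr_gt (f383338 IH) (Lpe (f383339 IH) (Lpn (LP (LK LD1_c11 LD2_c18 LD3_c43)))))))))))))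
theorem f622087 : Led Lsl_dt (LP (LK LD1_c11 LD2_c16 LD3_c52)) = (LP (LK LD1_c11 LD2_c18 LD3_c43)) :=
  Lgr Lrot42 (Lpr_df (f622084 IH) (Lpn (LP (LK LD1_c11 LD2_c18 LD3_c43))))
def v47251 : LQ := Led Lsl_ft (LP (LK LD1_c11 LD2_c16 LD3_c51))
theorem f957669 : Led Lsl_ft (LP (LK LD1_c11 LD2_c16 LD3_c51)) = v47251 :=
  Lrfl
def v47247 : LQ := Led Lsl_at (LP (LK LD1_c11 LD2_c16 LD3_c51))
theorem f957659 : Led Lsl_at (LP (LK LD1_c11 LD2_c16 LD3_c51)) = v47247 :=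
  Lrfl
theorem f957660 : Led Lsl_af (LP (LK LD1_c11 LD2_c16 LD3_c51)) = v47247 :=
  Lgr Lrot0 (Lpr_at (f957659 IH) (Lpn v47247))
theorem f957661 : Led Lsl_ft (LP (LK LD1_c11 LD2_c16 LD3_c52)) = v47247 :=
  Lgr Lrot2 (Lpr_gt (f381774 IH) (Lpr_gt (K54.f384187 IH) (Lpr_af (f957660 IH) (Lpn v47247))))
theorem f957670 : Led Lsl_af (LP (LK LD1_c11 LD2_c16 LD3_c52)) = v47251 :=
  Lgr Lrot45 (Lpr_ft (f957661 IH) (Lpe (f957660 IH) (Lpr_ft (f957669 IH) (Lpn v47251))))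
theorem f958622 : Led Lsl_df v47251 = v47416 :=
  Lgr Lrot18 (Lpe (f957670 IH) (Lpr_dt (f622087 IH) (Lpr_at (f958620 IH) (Lpn v47416))))
theorem f957671 : Led Lsl_ff (LP (LK LD1_c11 LD2_c16 LD3_c51)) = v47251 :=
  Lgr Lrot3 (Lpr_ft (f957669 IH) (Lpn v47251))
theorem f738275 : Led Lsl_dt (LP (LK LD1_c11 LD2_c16 LD3_c51)) = (LP (LK LD1_c11 LD2_c20 LD3_c17)) :=
  Lgr Lrot42 (Lpr_df (K54.f738273 IH) (Lpn (LP (LK LD1_c11 LD2_c20 LD3_c17))))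
theorem f958626 : Led Lsl_ft (LP (LK LD1_c11 LD2_c20 LD3_c17)) = v47416 :=
  Lgr Lrot54 (Lpe (f738275 IH) (Lpr_ff (f957671 IH) (Lpr_df (f958622 IH) (Lpn v47416))))
theorem f958627 : Led Lsl_ff (LP (LK LD1_c11 LD2_c20 LD3_c17)) = v47416 :=
  Lgr Lrot3 (Lpr_ft (f958626 IH) (Lpn v47416))
theorem f958661 : Led Lsl_et (LP (LK LD1_c11 LD2_c20 LD3_c17)) = v47425 :=
  Lgr Lrot69 (Lpr_ff (f958627 IH) (Lpe (f958624 IH) (Lpe (f738404 IH) (Lpe (f383336 IH) (Lpr_ff (f958660 IH) (Lpn v47425))))))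
theorem f958662 : Led Lsl_gf (LP (LK LD1_c11 LD2_c20 LD3_c23)) = v47425 :=
  Lgr Lrot138 (Lpe (K56.f387310 IH) (Lpr_gt (K56.f387305 IH) (Lpr_df (K42.f387301 IH) (Lpr_et (K27.f302425 IH) (Lpe (K39.f386617 IH) (Lpe (f383337 IH) (Lpe (K54.f622078 IH) (Lpr_gt (K54.f384187 IH) (Lpr_df (K54.f738273 IH) (Lpr_et (f958661 IH) (Lpn v47425)))))))))))
def v47422 : LQ := Led Lsl_at (LP (LK LD1_c11 LD2_c18 LD3_c46))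
theorem f958647 : Led Lsl_at (LP (LK LD1_c11 LD2_c18 LD3_c46)) = v47422 :=
  Lrfl
theorem f958663 : Led Lsl_gt (LP (LK LD1_c11 LD2_c20 LD3_c23)) = v47422 :=
  Lgr Lrot46 (Lpr_gf (f958662 IH) (Lpe (f958660 IH) (Lpr_at (f958647 IH) (Lpn v47422))))
def v15634 : LQ := Led Lsl_ft (LP (LK LD1_c5 LD2_c44 LD3_c18))
theorem f738411 : Led Lsl_ft (LP (LK LD1_c5 LD2_c44 LD3_c18)) = v15634 :=
  Lrfl
theorem f738412 : Led Lsl_af (LP (LK LD1_c5 LD2_c44 LD3_c19)) = v15634 :=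
  Lgr Lrot45 (Lpr_ft (f738404 IH) (Lpe (f738403 IH) (Lpr_ft (f738411 IH) (Lpn v15634))))
theorem f958649 : Led Lsl_ef v15634 = v47422 :=
  Lgr Lrot20 (Lpe (f738412 IH) (Lpr_et (f738407 IH) (Lpr_at (f958647 IH) (Lpn v47422))))
theorem f958650 : Led Lsl_et v15634 = v47422 :=
  Lgr Lrot87 (Lpr_ef (f958649 IH) (Lpn v47422))
theorem f596995 : Led Lsl_et (LP (LK LD1_c11 LD2_c17 LD3_c59)) = (LP (LK LD1_c20 LD2_c14 LD3_c13)) :=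
  Lre_e IH (LK LD1_c11 LD2_c17 LD3_c59) (LK LD1_c20 LD2_c14 LD3_c13) Lrfl Lrfl
def v38003 : LQ := Led Lsl_bt (LP (LK LD1_c9 LD2_c3 LD3_c45))
theorem f898608 : Led Lsl_bt (LP (LK LD1_c9 LD2_c3 LD3_c45)) = v38003 :=
  Lrfl
theorem f898611 : Led Lsl_ff v24527 = v38003 :=
  Lgr Lrot25 (Lpe (f897240 IH) (Lpr_ft (K69.f897236 IH) (Lpq (K69.f897782 IH) (Lpr_bt (f898608 IH) (Lpn v38003)))))
def v15633 : LQ := Led Lsl_bt (LP (LK LD1_c5 LD2_c44 LD3_c18))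
theorem f738408 : Led Lsl_bt (LP (LK LD1_c5 LD2_c44 LD3_c18)) = v15633 :=
  Lrfl
theorem f738409 : Led Lsl_bf (LP (LK LD1_c5 LD2_c44 LD3_c18)) = v15633 :=
  Lgr Lrot24 (Lpr_bt (f738408 IH) (Lpn v15633))
def v47417 : LQ := Led Lsl_bt (LP (LK LD1_c11 LD2_c18 LD3_c43))
theorem f958628 : Led Lsl_bt (LP (LK LD1_c11 LD2_c18 LD3_c43)) = v47417 :=
  Lrfl
theorem f958631 : Led Lsl_ef v15633 = v47417 :=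
  Lgr Lrot29 (Lpe (f738409 IH) (Lpr_et (f622089 IH) (Lpr_bt (f958628 IH) (Lpn v47417))))
theorem f957674 : Led Lsl_bf (LP (LK LD1_c11 LD2_c16 LD3_c52)) = v47252 :=
  Lgr Lrot24 (Lpr_bt (f957673 IH) (Lpn v47252))
theorem f958630 : Led Lsl_df v47252 = v47417 :=
  Lgr Lrot12 (Lpe (f957674 IH) (Lpr_dt (f622087 IH) (Lpr_bt (f958628 IH) (Lpn v47417))))
theorem f958633 : Led Lsl_dt v47252 = v47417 :=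
  Lgr Lrot42 (Lpr_df (f958630 IH) (Lpn v47417))
theorem f961465 : v47417 = (LP (LK LD1_c16 LD2_c52 LD3_c25)) :=
  Lefun (Lecon (f958633 IH) (f961461 IH)) (K51.f281846 IH)
theorem f961474 : v15633 = (LP (LK LD1_c9 LD2_c3 LD3_c45)) :=
  Lefun (Lecon (Lfl_ef (f958631 IH)) (f961465 IH)) (K69.f621380 IH)
theorem f961486 : (LP (LK LD1_c5 LD2_c44 LD3_c18)) = v38003 :=
  Lefun (Lecon (Lfl_bf (f738409 IH)) (f961474 IH)) (f898608 IH)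
theorem f961505 : v24527 = v15634 :=
  Lefun (Lecon (Lfl_ff (f898611 IH)) (f961486 IH).symm) (f738411 IH)
theorem f961529 : v47422 = (LP (LK LD1_c20 LD2_c14 LD3_c13)) :=
  Lefun (Lecon (f958650 IH) ((f961505 IH).symm.trans (f961288 IH))) (f596995 IH)
theorem f961530 : Led Lsl_gt (LP (LK LD1_c11 LD2_c20 LD3_c23)) = (LP (LK LD1_c20 LD2_c14 LD3_c13)) :=
  Leop (Lpq (f961529 IH) (Lpe (f958663 IH) (Lpn (LP (LK LD1_c11 LD2_c20 LD3_c23)))))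
theorem seed_2856 : LEOK LG_g (LK LD1_c11 LD2_c20 LD3_c23) :=
  Leoe_g (LK LD1_c11 LD2_c20 LD3_c23) (f961530 IH)
theorem f151860 : Led Lsl_et (LP (LK LD1_c4 LD2_c35 LD3_c10)) = (LP (LK LD1_c2 LD2_c14 LD3_c44)) :=
  Lre_e IH (LK LD1_c4 LD2_c35 LD3_c10) (LK LD1_c2 LD2_c14 LD3_c44) Lrfl Lrfl
theorem f677134 : Led Lsl_cf (LP (LK LD1_c4 LD2_c35 LD3_c10)) = K72.v9673 :=
  Lgr Lrot39 (Lpr_et (f151860 IH) (Lpr_ct (K42.f536459 IH) (Lpr_et (K72.f677132 IH) (Lpn K72.v9673))))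
theorem f843158 : Led Lsl_ct (LP (LK LD1_c9 LD2_c6 LD3_c53)) = K72.v28181 :=
  Lgr Lrot40 (Lpe (K72.f164584 IH) (Lpr_cf (f677134 IH) (Lpr_ff (K72.f843156 IH) (Lpn K72.v28181))))
theorem f548569 : Led Lsl_at (LP (LK LD1_c9 LD2_c6 LD3_c51)) = (LP (LK LD1_c6 LD2_c4 LD3_c3)) :=
  Lgr Lrot100 (Lpr_af (K38.f548565 IH) (Lpn (LP (LK LD1_c6 LD2_c4 LD3_c3))))
theorem f621181 : Led Lsl_gt (LP (LK LD1_c16 LD2_c58 LD3_c41)) = (LP (LK LD1_c11 LD2_c51 LD3_c47)) :=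
  Lgr Lrot5 (Lpr_ft (K7.f151757 IH) (Lpr_at (f548569 IH) (Lpe (K71.f172101 IH) (Lpn (LP (LK LD1_c11 LD2_c51 LD3_c47))))))
theorem f172102 : Led Lsl_ct (LP (LK LD1_c11 LD2_c51 LD3_c47)) = (LP (LK LD1_c20 LD2_c54 LD3_c25)) :=
  Lre_c IH (LK LD1_c11 LD2_c51 LD3_c47) (LK LD1_c20 LD2_c54 LD3_c25) Lrfl Lrfl
def v15689 : LQ := Led Lsl_bt (LP (LK LD1_c5 LD2_c45 LD3_c20))
theorem f740947 : Led Lsl_bt (LP (LK LD1_c5 LD2_c45 LD3_c20)) = v15689 :=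
  Lrfl
theorem f193896 : Led Lsl_et (LP (LK LD1_c5 LD2_c57 LD3_c28)) = (LP (LK LD1_c5 LD2_c45 LD3_c20)) :=
  Lgr Lrot87 (Lpr_ef (K72.f193892 IH) (Lpn (LP (LK LD1_c5 LD2_c45 LD3_c20))))
theorem f740950 : Led Lsl_ef (LP (LK LD1_c11 LD2_c40 LD3_c5)) = v15689 :=
  Lgr Lrot29 (Lpr_bt (f193898 IH) (Lpr_et (f193896 IH) (Lpr_bt (f740947 IH) (Lpn v15689))))
def v16391 : LQ := Led Lsl_gt (LP (LK LD1_c5 LD2_c59 LD3_c20))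
theorem f749106 : Led Lsl_gt (LP (LK LD1_c5 LD2_c59 LD3_c20)) = v16391 :=
  Lrfl
theorem f386824 : Led Lsl_et (LP (LK LD1_c2 LD2_c56 LD3_c1)) = (LP (LK LD1_c5 LD2_c59 LD3_c20)) :=
  Lre_e IH (LK LD1_c2 LD2_c56 LD3_c1) (LK LD1_c5 LD2_c59 LD3_c20) Lrfl Lrfl
theorem f749107 : Led Lsl_et (LP (LK LD1_c11 LD2_c18 LD3_c45)) = v16391 :=
  Lgr Lrot122 (Lpr_dt (f383555 IH) (Lpr_gt (f383335 IH) (Lpe (K43.f383323 IH) (Lpr_et (K40.f562468 IH) (Lpr_gt (K40.f450570 IH) (Lpr_dt (K38.f211091 IH) (Lpq (K36.f537904 IH) (Lpq (K39.f555895 IH) (Lpe (K40.f500705 IH) (Lpe (K36.f386805 IH) (Lpr_et (f386824 IH) (Lpr_gt (f749106 IH) (Lpn v16391)))))))))))))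
def v47412 : LQ := Led Lsl_at (LP (LK LD1_c11 LD2_c18 LD3_c42))
theorem f958599 : Led Lsl_at (LP (LK LD1_c11 LD2_c18 LD3_c42)) = v47412 :=
  Lrfl
theorem f958601 : Led Lsl_df v15632 = v47412 :=
  Lgr Lrot18 (Lpe (f738403 IH) (Lpr_dt (f383340 IH) (Lpr_at (f958599 IH) (Lpn v47412))))
theorem f738406 : Led Lsl_ff (LP (LK LD1_c5 LD2_c44 LD3_c19)) = v15632 :=
  Lgr Lrot3 (Lpr_ft (f738404 IH) (Lpn v15632))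
theorem f958603 : Led Lsl_ft (LP (LK LD1_c11 LD2_c18 LD3_c45)) = v47412 :=
  Lgr Lrot54 (Lpe (f383548 IH) (Lpr_ff (f738406 IH) (Lpr_df (f958601 IH) (Lpn v47412))))
theorem f958604 : Led Lsl_ff (LP (LK LD1_c11 LD2_c18 LD3_c45)) = v47412 :=
  Lgr Lrot3 (Lpr_ft (f958603 IH) (Lpn v47412))
theorem f740912 : Led Lsl_dt K55.v4789 = K69.v15682 :=
  Lgr Lrot42 (Lpr_df (K69.f740911 IH) (Lpn K69.v15682))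
theorem f897689 : K69.v15682 = (LP (LK LD1_c9 LD2_c4 LD3_c35)) :=
  Lefun (Lecon (f740912 IH) (K69.f897682 IH)) (K69.f174613 IH)
theorem f740948 : Led Lsl_bf (LP (LK LD1_c5 LD2_c45 LD3_c20)) = v15689 :=
  Lgr Lrot24 (Lpr_bt (f740947 IH) (Lpn v15689))
theorem f897694 : Led Lsl_bt (LP (LK LD1_c9 LD2_c4 LD3_c35)) = (LP (LK LD1_c16 LD2_c56 LD3_c18)) :=
  Lre_b IH (LK LD1_c9 LD2_c4 LD3_c35) (LK LD1_c16 LD2_c56 LD3_c18) Lrfl Lrfl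
theorem f897901 : Led Lsl_ff v15689 = (LP (LK LD1_c16 LD2_c56 LD3_c18)) :=
  Lgr Lrot25 (Lpe (f740948 IH) (Lpr_ft (K69.f740913 IH) (Lpqs (f897689 IH) (Lpr_bt (f897694 IH) (Lpn (LP (LK LD1_c16 LD2_c56 LD3_c18)))))))
theorem f958602 : Led Lsl_dt v15632 = v47412 :=
  Lgr Lrot42 (Lpr_df (f958601 IH) (Lpn v47412))
theorem f225967 : Led Lsl_dt (LP (LK LD1_c9 LD2_c4 LD3_c34)) = (LP (LK LD1_c16 LD2_c56 LD3_c18)) :=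
  Lre_d IH (LK LD1_c9 LD2_c4 LD3_c34) (LK LD1_c16 LD2_c56 LD3_c18) Lrfl Lrfl
theorem f225964 : Led Lsl_et (LP (LK LD1_c16 LD2_c56 LD3_c19)) = (LP (LK LD1_c9 LD2_c4 LD3_c34)) :=
  Lre_e IH (LK LD1_c16 LD2_c56 LD3_c19) (LK LD1_c9 LD2_c4 LD3_c34) Lrfl Lrfl
theorem f958625 : Led Lsl_dt v47251 = v47416 :=
  Lgr Lrot42 (Lpr_df (f958622 IH) (Lpn v47416))
def v37916 : LQ := Led Lsl_bt (LP (LK LD1_c9 LD2_c2 LD3_c10))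
theorem f897584 : Led Lsl_bt (LP (LK LD1_c9 LD2_c2 LD3_c10)) = v37916 :=
  Lrfl
theorem f738121 : Led Lsl_ff (LP (LK LD1_c5 LD2_c42 LD3_c17)) = K69.v15576 :=
  Lgr Lrot3 (Lpr_ft (K69.f738119 IH) (Lpn K69.v15576))
theorem f738112 : Led Lsl_ff (LP (LK LD1_c5 LD2_c42 LD3_c18)) = K69.v15573 :=
  Lgr Lrot3 (Lpr_ft (K69.f738111 IH) (Lpn K69.v15573))
theorem f738122 : Led Lsl_at (LP (LK LD1_c5 LD2_c42 LD3_c18)) = K69.v15576 :=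
  Lgr Lrot66 (Lpr_ff (f738112 IH) (Lpe (K69.f738109 IH) (Lpr_ff (f738121 IH) (Lpn K69.v15576))))
theorem f897585 : Led Lsl_af (LP (LK LD1_c11 LD2_c14 LD3_c49)) = v37916 :=
  Lgr Lrot36 (Lpr_bt (f174305 IH) (Lpr_at (f738122 IH) (Lpr_bt (K69.f897583 IH) (Lpe (f897579 IH) (Lpr_bt (f897584 IH) (Lpn v37916))))))
theorem f957662 : Led Lsl_ff (LP (LK LD1_c11 LD2_c16 LD3_c52)) = v47247 :=
  Lgr Lrot3 (Lpr_ft (f957661 IH) (Lpn v47247))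
theorem f957672 : Led Lsl_at (LP (LK LD1_c11 LD2_c16 LD3_c52)) = v47251 :=
  Lgr Lrot66 (Lpr_ff (f957662 IH) (Lpe (f957659 IH) (Lpr_ff (f957671 IH) (Lpn v47251))))
theorem f961462 : (LP (LK LD1_c11 LD2_c16 LD3_c52)) = v37916 :=
  Lefun (Lecon (Lfl_bf (f957674 IH)) (f961461 IH)) (f897584 IH)
theorem f961468 : (LP (LK LD1_c11 LD2_c14 LD3_c49)) = v47251 :=
  Lefun (Lecon (Lfl_af (f897585 IH)) (f961462 IH).symm) (f957672 IH)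
theorem f961475 : v47416 = (LP (LK LD1_c16 LD2_c56 LD3_c19)) :=
  Lefun (Lecon (f958625 IH) (f961468 IH).symm) (f225949 IH)
theorem f961492 : v15632 = (LP (LK LD1_c9 LD2_c4 LD3_c34)) :=
  Lefun (Lecon (Lfl_ef (f958623 IH)) (f961475 IH)) (f225964 IH)
theorem f961511 : v47412 = (LP (LK LD1_c16 LD2_c56 LD3_c18)) :=
  Lefun (Lecon (f958602 IH) (f961492 IH)) (f225967 IH)
theorem f961536 : (LP (LK LD1_c11 LD2_c18 LD3_c45)) = v15689 :=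
  Lefun (Lecon (Lfl_ff (f958604 IH)) (f961511 IH)) (Lfl_ff (f897901 IH))
theorem f961550 : (LP (LK LD1_c11 LD2_c40 LD3_c5)) = v16391 :=
  Lefun (Lecon (Lfl_ef (f740950 IH)) (f961536 IH).symm) (f749107 IH)
theorem f386828 : Led Lsl_ct (LP (LK LD1_c11 LD2_c42 LD3_c4)) = (LP (LK LD1_c20 LD2_c42 LD3_c16)) :=
  Lre_c IH (LK LD1_c11 LD2_c42 LD3_c4) (LK LD1_c20 LD2_c42 LD3_c16) Lrfl Lrfl
theorem f961562 : Led Lsl_gt (LP (LK LD1_c20 LD2_c54 LD3_c25)) = (LP (LK LD1_c20 LD2_c42 LD3_c16)) :=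
  Lgr Lrot149 (Lpe (f172102 IH) (Lpe (f621181 IH) (Lpe (K71.f151870 IH) (Lpr_ct (f843158 IH) (Lpe (K72.f843162 IH) (Lpqs (K72.f924785 IH) (Lpe (K72.f748418 IH) (Lpr_bt (f193894 IH) (Lpqs (f961550 IH) (Lpe (f749106 IH) (Lpe (K36.f386821 IH) (Lpr_ct (f386828 IH) (Lpn (LP (LK LD1_c20 LD2_c42 LD3_c16)))))))))))))))
theorem f961563 : Led Lsl_gt (LP (LK LD1_c20 LD2_c54 LD3_c25)) = (LP (LK LD1_c20 LD2_c42 LD3_c16)) :=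
  Leop (Lpe (f961562 IH) (Lpn (LP (LK LD1_c20 LD2_c54 LD3_c25))))
theorem seed_2857 : LEOK LG_g (LK LD1_c20 LD2_c54 LD3_c25) :=
  Leoe_g (LK LD1_c20 LD2_c54 LD3_c25) (f961563 IH)
theorem f735988 : Led Lsl_bt (LP (LK LD1_c11 LD2_c8 LD3_c16)) = (LP (LK LD1_c5 LD2_c38 LD3_c30)) :=
  Lre_b IH (LK LD1_c11 LD2_c8 LD3_c16) (LK LD1_c5 LD2_c38 LD3_c30) Lrfl Lrfl
theorem f735991 : Led Lsl_ct (LP (LK LD1_c11 LD2_c8 LD3_c16)) = (LP (LK LD1_c20 LD2_c1 LD3_c57)) :=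
  Lre_c IH (LK LD1_c11 LD2_c8 LD3_c16) (LK LD1_c20 LD2_c1 LD3_c57) Lrfl Lrfl
theorem f958600 : Led Lsl_af (LP (LK LD1_c11 LD2_c18 LD3_c42)) = v47412 :=
  Lgr Lrot0 (Lpr_at (f958599 IH) (Lpn v47412))
def v47411 : LQ := Led Lsl_gf (LP (LK LD1_c11 LD2_c18 LD3_c42))
theorem f958594 : Led Lsl_gf (LP (LK LD1_c11 LD2_c18 LD3_c42)) = v47411 :=
  Lrfl
theorem f958605 : Led Lsl_gt (LP (LK LD1_c11 LD2_c18 LD3_c45)) = v47411 :=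
  Lgr Lrot5 (Lpr_ft (f958603 IH) (Lpe (f958600 IH) (Lpr_gf (f958594 IH) (Lpn v47411))))
def v13840 : LQ := Led Lsl_dt (LP (LK LD1_c4 LD2_c49 LD3_c1))
theorem f705185 : Led Lsl_dt (LP (LK LD1_c4 LD2_c49 LD3_c1)) = v13840 :=
  Lrfl
theorem f705187 : Led Lsl_df (LP (LK LD1_c4 LD2_c49 LD3_c1)) = v13840 :=
  Lgr Lrot38 (Lpr_dt (f705185 IH) (Lpn v13840))
theorem f912582 : Led Lsl_af v13840 = v39991 :=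
  Lgr Lrot117 (Lpe (f705187 IH) (Lpr_at (K54.f634126 IH) (Lpr_dt (f912581 IH) (Lpn v39991))))
def v40002 : LQ := Led Lsl_bt (LP (LK LD1_c9 LD2_c30 LD3_c47))
theorem f912624 : Led Lsl_bt (LP (LK LD1_c9 LD2_c30 LD3_c47)) = v40002 :=
  Lrfl
theorem f634125 : Led Lsl_bt (LP (LK LD1_c2 LD2_c22 LD3_c22)) = (LP (LK LD1_c4 LD2_c49 LD3_c1)) :=
  Lre_b IH (LK LD1_c2 LD2_c22 LD3_c22) (LK LD1_c4 LD2_c49 LD3_c1) Lrfl Lrfl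
theorem f705186 : Led Lsl_bf (LP (LK LD1_c4 LD2_c49 LD3_c3)) = v13840 :=
  Lgr Lrot93 (Lpr_dt (K50.f618934 IH) (Lpr_bt (f634125 IH) (Lpr_dt (f705185 IH) (Lpn v13840))))
theorem f912627 : Led Lsl_ef v13840 = v40002 :=
  Lgr Lrot29 (Lpe (f705186 IH) (Lpr_et (K70.f618935 IH) (Lpr_bt (f912624 IH) (Lpn v40002))))
theorem f912629 : Led Lsl_et v13840 = v40002 :=
  Lgr Lrot87 (Lpr_ef (f912627 IH) (Lpn v40002))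
theorem f958587 : Led Lsl_at v40002 = v47410 :=
  Lgr Lrot80 (Lpe (f912629 IH) (Lpr_af (f912582 IH) (Lpr_ef (f958586 IH) (Lpn v47410))))
theorem f958595 : Led Lsl_ff v40002 = v47411 :=
  Lgr Lrot52 (Lpr_at (f958587 IH) (Lpe (f958582 IH) (Lpr_gf (f958594 IH) (Lpn v47411))))
theorem f912625 : Led Lsl_bf (LP (LK LD1_c9 LD2_c30 LD3_c47)) = v40002 :=
  Lgr Lrot24 (Lpr_bt (f912624 IH) (Lpn v40002))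
theorem f705265 : Led Lsl_ft (LP (LK LD1_c9 LD2_c30 LD3_c47)) = (LP (LK LD1_c17 LD2_c32 LD3_c14)) :=
  Lre_f IH (LK LD1_c9 LD2_c30 LD3_c47) (LK LD1_c17 LD2_c32 LD3_c14) Lrfl Lrfl
theorem f958596 : Led Lsl_bt (LP (LK LD1_c17 LD2_c32 LD3_c14)) = v47411 :=
  Lgr Lrot35 (Lpe (f705265 IH) (Lpr_bf (f912625 IH) (Lpr_ff (f958595 IH) (Lpn v47411))))
theorem f705493 : Led Lsl_ct (LP (LK LD1_c17 LD2_c32 LD3_c14)) = (LP (LK LD1_c27 LD2_c21 LD3_c34)) :=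
  Lre_c IH (LK LD1_c17 LD2_c32 LD3_c14) (LK LD1_c27 LD2_c21 LD3_c34) Lrfl Lrfl
theorem f961575 : Led Lsl_gf (LP (LK LD1_c20 LD2_c1 LD3_c57)) = (LP (LK LD1_c27 LD2_c21 LD3_c34)) :=
  Lgr Lrot126 (Lpe (f735991 IH) (Lpr_bt (f735988 IH) (Lpr_gt (K70.f735978 IH) (Lpr_ct (K70.f832673 IH) (Lpe (K70.f832676 IH) (Lpe (K70.f740953 IH) (Lpr_bt (f740947 IH) (Lpq (f961536 IH) (Lpr_gt (f958605 IH) (Lpe (f958596 IH) (Lpr_ct (f705493 IH) (Lpn (LP (LK LD1_c27 LD2_c21 LD3_c34))))))))))))))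
theorem f961576 : Led Lsl_gt (LP (LK LD1_c27 LD2_c21 LD3_c34)) = (LP (LK LD1_c20 LD2_c1 LD3_c57)) :=
  Leop (Lpr_gf (f961575 IH) (Lpn (LP (LK LD1_c27 LD2_c21 LD3_c34))))
theorem seed_2858 : LEOK LG_g (LK LD1_c27 LD2_c21 LD3_c34) :=
  Leoe_g (LK LD1_c27 LD2_c21 LD3_c34) (f961576 IH)
theorem f736117 : Led Lsl_dt (LP (LK LD1_c20 LD2_c1 LD3_c57)) = (LP (LK LD1_c29 LD2_c15 LD3_c24)) :=
  Lre_d IH (LK LD1_c20 LD2_c1 LD3_c57) (LK LD1_c29 LD2_c15 LD3_c24) Lrfl Lrfl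
theorem f705485 : Led Lsl_af (LP (LK LD1_c17 LD2_c31 LD3_c50)) = (LP (LK LD1_c9 LD2_c30 LD3_c47)) :=
  Lgr Lrot50 (Lpr_et (K57.f74588 IH) (Lpq (K65.f705334 IH) (Lpe (K56.f705250 IH) (Lpr_et (K70.f618935 IH) (Lpn (LP (LK LD1_c9 LD2_c30 LD3_c47)))))))
theorem f705261 : Led Lsl_ft (LP (LK LD1_c17 LD2_c32 LD3_c14)) = (LP (LK LD1_c9 LD2_c30 LD3_c47)) :=
  Lre_f IH (LK LD1_c17 LD2_c32 LD3_c14) (LK LD1_c9 LD2_c30 LD3_c47) Lrfl Lrfl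
theorem f705490 : Led Lsl_gf (LP (LK LD1_c20 LD2_c14 LD3_c57)) = (LP (LK LD1_c17 LD2_c32 LD3_c14)) :=
  Lgr Lrot47 (Lpe (f619010 IH) (Lpr_af (f705485 IH) (Lpe (f705261 IH) (Lpn (LP (LK LD1_c17 LD2_c32 LD3_c14))))))
theorem f958464 : Led Lsl_ff (LP (LK LD1_c11 LD2_c18 LD3_c26)) = v47379 :=
  Lgr Lrot3 (Lpr_ft (f958461 IH) (Lpn v47379))
theorem f383586 : Led Lsl_at (LP (LK LD1_c11 LD2_c18 LD3_c26)) = (LP (LK LD1_c5 LD2_c44 LD3_c12)) :=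
  Lre_a IH (LK LD1_c11 LD2_c18 LD3_c26) (LK LD1_c5 LD2_c44 LD3_c12) Lrfl Lrfl
theorem f958466 : Led Lsl_at v15630 = v47379 :=
  Lgr Lrot66 (Lpe (f738394 IH) (Lpe (f383586 IH) (Lpr_ff (f958464 IH) (Lpn v47379))))
theorem f958469 : Led Lsl_gt (LP (LK LD1_c11 LD2_c18 LD3_c27)) = v47379 :=
  Lgr Lrot46 (Lpe (f619007 IH) (Lpr_ft (f738394 IH) (Lpr_at (f958466 IH) (Lpn v47379))))
theorem f597230 : Led Lsl_ft (LP (LK LD1_c11 LD2_c47 LD3_c51)) = (LP (LK LD1_c6 LD2_c1 LD3_c35)) :=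
  Lre_f IH (LK LD1_c11 LD2_c47 LD3_c51) (LK LD1_c6 LD2_c1 LD3_c35) Lrfl Lrfl
theorem f958463 : Led Lsl_df (LP (LK LD1_c11 LD2_c47 LD3_c51)) = v47379 :=
  Lgr Lrot78 (Lpr_ft (f597230 IH) (Lpr_dt (f557474 IH) (Lpr_ft (f958461 IH) (Lpn v47379))))
theorem f597271 : Led Lsl_ct (LP (LK LD1_c20 LD2_c50 LD3_c7)) = (LP (LK LD1_c11 LD2_c47 LD3_c51)) :=
  Lre_c IH (LK LD1_c20 LD2_c50 LD3_c7) (LK LD1_c11 LD2_c47 LD3_c51) Lrfl Lrfl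
theorem f597270 : Led Lsl_dt (LP (LK LD1_c29 LD2_c41 LD3_c53)) = (LP (LK LD1_c20 LD2_c50 LD3_c7)) :=
  Lre_d IH (LK LD1_c29 LD2_c41 LD3_c53) (LK LD1_c20 LD2_c50 LD3_c7) Lrfl Lrfl
theorem f961577 : Led Lsl_gt (LP (LK LD1_c29 LD2_c15 LD3_c24)) = (LP (LK LD1_c29 LD2_c41 LD3_c53)) :=
  Lgr Lrot49 (Lpe (f736117 IH) (Lpr_gf (f961575 IH) (Lpe (f705493 IH) (Lpe (f705490 IH) (Lpr_dt (f619008 IH) (Lpr_gt (f958469 IH) (Lpe (f958463 IH) (Lpe (f597271 IH) (Lpe (f597270 IH) (Lpn (LP (LK LD1_c29 LD2_c41 LD3_c53))))))))))))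
theorem f961578 : Led Lsl_gt (LP (LK LD1_c29 LD2_c15 LD3_c24)) = (LP (LK LD1_c29 LD2_c41 LD3_c53)) :=
  Leop (Lpe (f961577 IH) (Lpn (LP (LK LD1_c29 LD2_c15 LD3_c24))))
theorem seed_2859 : LEOK LG_g (LK LD1_c29 LD2_c15 LD3_c24) :=
  Leoe_g (LK LD1_c29 LD2_c15 LD3_c24) (f961578 IH)
theorem f961514 : (LP (LK LD1_c5 LD2_c44 LD3_c19)) = v4792 :=
  Lefun (Lecon (Lfl_ff (f738406 IH)) ((f961492 IH).trans (f897687 IH).symm)) (Lfl_ff (f824534 IH))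
theorem f383494 : Led Lsl_ct (LP (LK LD1_c2 LD2_c48 LD3_c5)) = (LP (LK LD1_c5 LD2_c44 LD3_c17)) :=
  Lre_c IH (LK LD1_c2 LD2_c48 LD3_c5) (LK LD1_c5 LD2_c44 LD3_c17) Lrfl Lrfl
theorem f383282 : Led Lsl_gt (LP (LK LD1_c5 LD2_c44 LD3_c17)) = (LP (LK LD1_c11 LD2_c18 LD3_c37)) :=
  Lre_g IH (LK LD1_c5 LD2_c44 LD3_c17) (LK LD1_c11 LD2_c18 LD3_c37) Lrfl Lrfl
theorem f383510 : Led Lsl_ct (LP (LK LD1_c20 LD2_c15 LD3_c9)) = (LP (LK LD1_c11 LD2_c18 LD3_c37)) :=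
  Lre_c IH (LK LD1_c20 LD2_c15 LD3_c9) (LK LD1_c11 LD2_c18 LD3_c37) Lrfl Lrfl
theorem f961585 : Led Lsl_bf (LP (LK LD1_c11 LD2_c59 LD3_c26)) = (LP (LK LD1_c20 LD2_c15 LD3_c9)) :=
  Lgr Lrot156 (Lpr_gt (K60.f613554 IH) (Lpe (K39.f319356 IH) (Lpr_ct (K56.f698145 IH) (Lpe (K70.f698147 IH) (Lpqs (K69.f750545 IH) (Lpe (K69.f639034 IH) (Lpr_bt (f639031 IH) (Lpq (f961514 IH) (Lpr_gt (f383335 IH) (Lpr_ct (f383494 IH) (Lpr_gt (f383282 IH) (Lpe (f383510 IH) (Lpn (LP (LK LD1_c20 LD2_c15 LD3_c9)))))))))))))))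
theorem f961586 : Led Lsl_bt (LP (LK LD1_c20 LD2_c15 LD3_c9)) = (LP (LK LD1_c11 LD2_c59 LD3_c26)) :=
  Leop (Lpr_bf (f961585 IH) (Lpn (LP (LK LD1_c20 LD2_c15 LD3_c9))))
theorem seed_2860 : LEOK LG_b (LK LD1_c20 LD2_c15 LD3_c9) :=
  Leoe_b (LK LD1_c20 LD2_c15 LD3_c9) (f961586 IH)
theorem f737757 : Led Lsl_ef (LP (LK LD1_c5 LD2_c40 LD3_c46)) = K70.v15493 :=
  Lgr Lrot88 (Lpr_et (K70.f737756 IH) (Lpn K70.v15493))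
theorem f613410 : Led Lsl_ef (LP (LK LD1_c11 LD2_c59 LD3_c26)) = (LP (LK LD1_c9 LD2_c1 LD3_c36)) :=
  Lgr Lrot17 (Lpe (K57.f176746 IH) (Lpe (K36.f24235 IH) (Lpr_dt (K36.f24236 IH) (Lpr_gf (K19.f176755 IH) (Lpe (K9.f60726 IH) (Lpr_gf (K37.f495737 IH) (Lpqs (K37.f537458 IH) (Lpe (K24.f379927 IH) (Lpr_dt (K57.f613353 IH) (Lpe (K57.f168838 IH) (Lpe (K57.f380651 IH) (Lpn (LP (LK LD1_c9 LD2_c1 LD3_c36))))))))))))))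
theorem f823859 : Led Lsl_ff (LP (LK LD1_c9 LD2_c0 LD3_c20)) = (LP (LK LD1_c11 LD2_c59 LD3_c26)) :=
  Lgr Lrot72 (Lpr_et (K70.f613565 IH) (Lpr_ft (K70.f823858 IH) (Lpe (f737757 IH) (Lpr_ft (K69.f737759 IH) (Lpqs (K69.f823813 IH) (Lpe (f613410 IH) (Lpn (LP (LK LD1_c11 LD2_c59 LD3_c26)))))))))
theorem f613562 : Led Lsl_bt (LP (LK LD1_c9 LD2_c0 LD3_c20)) = (LP (LK LD1_c16 LD2_c49 LD3_c46)) :=
  Lre_b IH (LK LD1_c9 LD2_c0 LD3_c20) (LK LD1_c16 LD2_c49 LD3_c46) Lrfl Lrfl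
theorem f961593 : Led Lsl_ft (LP (LK LD1_c16 LD2_c49 LD3_c46)) = (LP (LK LD1_c20 LD2_c15 LD3_c9)) :=
  Lgr Lrot75 (Lpe (f613562 IH) (Lpr_ff (f823859 IH) (Lpr_bf (f961585 IH) (Lpn (LP (LK LD1_c20 LD2_c15 LD3_c9))))))
theorem f961276 : Led Lsl_ct (LP (LK LD1_c20 LD2_c14 LD3_c8)) = (LP (LK LD1_c16 LD2_c49 LD3_c46)) :=
  Lgr Lrot59 (Lpr_cf (f961274 IH) (Lpn (LP (LK LD1_c16 LD2_c49 LD3_c46))))
def v47400 : LQ := Led Lsl_ft (LP (LK LD1_c11 LD2_c18 LD3_c37))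
theorem f958541 : Led Lsl_ft (LP (LK LD1_c11 LD2_c18 LD3_c37)) = v47400 :=
  Lrfl
theorem f961599 : (LP (LK LD1_c20 LD2_c14 LD3_c8)) = v47400 :=
  (Llr Lrot108 (Lpr_ct (f961276 IH) (Lpr_ft (f961593 IH) (Lpr_ct (f383510 IH) (Lpr_ft (f958541 IH) (Lpn v47400)))))).symm
def v47399 : LQ := Led Lsl_at (LP (LK LD1_c11 LD2_c18 LD3_c37))
theorem f958534 : Led Lsl_at (LP (LK LD1_c11 LD2_c18 LD3_c37)) = v47399 :=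
  Lrfl
theorem f958535 : Led Lsl_af (LP (LK LD1_c11 LD2_c18 LD3_c37)) = v47399 :=
  Lgr Lrot0 (Lpr_at (f958534 IH) (Lpn v47399))
theorem f383491 : Led Lsl_gt (LP (LK LD1_c11 LD2_c18 LD3_c38)) = (LP (LK LD1_c5 LD2_c44 LD3_c17)) :=
  Lre_g IH (LK LD1_c11 LD2_c18 LD3_c38) (LK LD1_c5 LD2_c44 LD3_c17) Lrfl Lrfl
theorem f958538 : Led Lsl_ft (LP (LK LD1_c11 LD2_c18 LD3_c38)) = v47399 :=
  Lgr Lrot2 (Lpr_gt (f383491 IH) (Lpr_gt (f383282 IH) (Lpr_af (f958535 IH) (Lpn v47399))))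
theorem f958542 : Led Lsl_af (LP (LK LD1_c11 LD2_c18 LD3_c38)) = v47400 :=
  Lgr Lrot45 (Lpr_ft (f958538 IH) (Lpe (f958535 IH) (Lpr_ft (f958541 IH) (Lpn v47400))))
theorem f383499 : Led Lsl_ct (LP (LK LD1_c11 LD2_c18 LD3_c38)) = (LP (LK LD1_c20 LD2_c15 LD3_c12)) :=
  Lre_c IH (LK LD1_c11 LD2_c18 LD3_c38) (LK LD1_c20 LD2_c15 LD3_c12) Lrfl Lrfl
theorem f961609 : Led Lsl_af (LP (LK LD1_c16 LD2_c49 LD3_c46)) = (LP (LK LD1_c20 LD2_c15 LD3_c12)) :=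
  Lgr Lrot68 (Lpe (f961274 IH) (Lpqs (f961599 IH) (Lpe (f958542 IH) (Lpr_ct (f383499 IH) (Lpn (LP (LK LD1_c20 LD2_c15 LD3_c12)))))))
theorem f961611 : Led Lsl_at (LP (LK LD1_c16 LD2_c49 LD3_c46)) = (LP (LK LD1_c20 LD2_c15 LD3_c12)) :=
  Lgr Lrot100 (Lpr_af (f961609 IH) (Lpn (LP (LK LD1_c20 LD2_c15 LD3_c12))))
theorem f961597 : Led Lsl_ff (LP (LK LD1_c16 LD2_c49 LD3_c46)) = (LP (LK LD1_c20 LD2_c15 LD3_c9)) :=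
  Lgr Lrot3 (Lpr_ft (f961593 IH) (Lpn (LP (LK LD1_c20 LD2_c15 LD3_c9))))
theorem f904012 : Led Lsl_cf (LP (LK LD1_c18 LD2_c1 LD3_c56)) = (LP (LK LD1_c20 LD2_c15 LD3_c24)) :=
  Lgr Lrot11 (Lpr_ct (K69.f904008 IH) (Lpn (LP (LK LD1_c20 LD2_c15 LD3_c24))))
theorem f746411 : Led Lsl_at (LP (LK LD1_c9 LD2_c48 LD3_c22)) = (LP (LK LD1_c5 LD2_c52 LD3_c27)) :=
  Lgr Lrot66 (Lpr_ff (K56.f746409 IH) (Lpe (K55.f746384 IH) (Lpe (K55.f746243 IH) (Lpn (LP (LK LD1_c5 LD2_c52 LD3_c27))))))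
theorem f643018 : Led Lsl_dt (LP (LK LD1_c5 LD2_c52 LD3_c27)) = (LP (LK LD1_c11 LD2_c31 LD3_c25)) :=
  Lre_d IH (LK LD1_c5 LD2_c52 LD3_c27) (LK LD1_c11 LD2_c31 LD3_c25) Lrfl Lrfl
theorem f746429 : Led Lsl_af (LP (LK LD1_c17 LD2_c58 LD3_c35)) = (LP (LK LD1_c11 LD2_c31 LD3_c25)) :=
  Lgr Lrot117 (Lpr_dt (K55.f76268 IH) (Lpr_at (f746411 IH) (Lpr_dt (f643018 IH) (Lpn (LP (LK LD1_c11 LD2_c31 LD3_c25))))))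
theorem f581922 : Led Lsl_ft (LP (LK LD1_c9 LD2_c0 LD3_c9)) = (LP (LK LD1_c5 LD2_c38 LD3_c34)) :=
  Lgr Lrot4 (Lpe (K40.f559509 IH) (Lpr_ff (K44.f581918 IH) (Lpe (K40.f562618 IH) (Lpn (LP (LK LD1_c5 LD2_c38 LD3_c34))))))
theorem f596635 : Led Lsl_af (LP (LK LD1_c4 LD2_c7 LD3_c14)) = (LP (LK LD1_c5 LD2_c38 LD3_c34)) :=
  Lgr Lrot117 (Lpr_dt (K39.f556058 IH) (Lpr_at (K50.f596629 IH) (Lpr_dt (K50.f564173 IH) (Lpn (LP (LK LD1_c5 LD2_c38 LD3_c34))))))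
theorem f579423 : Led Lsl_ct (LP (LK LD1_c16 LD2_c59 LD3_c19)) = (LP (LK LD1_c9 LD2_c46 LD3_c24)) :=
  Lgr Lrot59 (Lpr_cf (K50.f579420 IH) (Lpn (LP (LK LD1_c9 LD2_c46 LD3_c24))))
theorem f597428 : Led Lsl_dt (LP (LK LD1_c20 LD2_c40 LD3_c7)) = (LP (LK LD1_c16 LD2_c59 LD3_c19)) :=
  Lgr Lrot140 (Lpr_cf (K50.f597416 IH) (Lpe (K41.f176492 IH) (Lpr_cf (K44.f557779 IH) (Lpr_df (K40.f559503 IH) (Lpr_ft (f581922 IH) (Lpe (f596635 IH) (Lpe (K39.f556062 IH) (Lpe (K50.f557776 IH) (Lpe (f579423 IH) (Lpn (LP (LK LD1_c16 LD2_c59 LD3_c19))))))))))))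
theorem f580816 : Led Lsl_cf (LP (LK LD1_c16 LD2_c59 LD3_c20)) = (LP (LK LD1_c20 LD2_c49 LD3_c31)) :=
  Lgr Lrot55 (Lpr_dt (K43.f180275 IH) (Lpr_ct (K43.f180274 IH) (Lpr_dt (K43.f418975 IH) (Lpe (K36.f418970 IH) (Lpr_dt (K36.f211801 IH) (Lpr_ct (K36.f380378 IH) (Lpr_dt (K38.f418976 IH) (Lpr_ct (K38.f418977 IH) (Lpr_dt (K38.f449313 IH) (Lpr_ct (K38.f211092 IH) (Lpr_dt (K38.f211091 IH) (Lpe (K36.f211084 IH) (Lpr_dt (K37.f211093 IH) (Lpe (K44.f580795 IH) (Lpr_dt (f580809 IH) (Lpn (LP (LK LD1_c20 LD2_c49 LD3_c31))))))))))))))))))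
theorem f598631 : Led Lsl_gf (LP (LK LD1_c20 LD2_c40 LD3_c7)) = (LP (LK LD1_c11 LD2_c42 LD3_c59)) :=
  Lgr Lrot144 (Lpr_dt (f597428 IH) (Lpr_gt (K50.f180277 IH) (Lpr_dt (K43.f418974 IH) (Lpr_cf (f580816 IH) (Lpe (f580809 IH) (Lpr_gf (f580807 IH) (Lpe (K50.f557476 IH) (Lpe (K50.f580868 IH) (Lpe (K41.f563924 IH) (Lpn (LP (LK LD1_c11 LD2_c42 LD3_c59))))))))))))
theorem f598645 : Led Lsl_gf (LP (LK LD1_c9 LD2_c14 LD3_c40)) = (LP (LK LD1_c4 LD2_c58 LD3_c61)) :=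
  Lgr Lrot104 (Lpr_ct (K41.f564098 IH) (Lpe (K50.f564095 IH) (Lpe (K41.f564087 IH) (Lpr_gf (K41.f558528 IH) (Lpe (K50.f597414 IH) (Lpr_gf (f598631 IH) (Lpe (K41.f545320 IH) (Lpe (K38.f545316 IH) (Lpr_ct (K38.f539824 IH) (Lpn (LP (LK LD1_c4 LD2_c58 LD3_c61))))))))))))
theorem f72496 : Led Lsl_et (LP (LK LD1_c9 LD2_c46 LD3_c23)) = (LP (LK LD1_c17 LD2_c56 LD3_c22)) :=
  Lre_e IH (LK LD1_c9 LD2_c46 LD3_c23) (LK LD1_c17 LD2_c56 LD3_c22) Lrfl Lrfl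
theorem f72515 : Led Lsl_gt (LP (LK LD1_c17 LD2_c56 LD3_c22)) = (LP (LK LD1_c27 LD2_c41 LD3_c15)) :=
  Lre_g IH (LK LD1_c17 LD2_c56 LD3_c22) (LK LD1_c27 LD2_c41 LD3_c15) Lrfl Lrfl
theorem f598647 : Led Lsl_et (LP (LK LD1_c9 LD2_c48 LD3_c23)) = (LP (LK LD1_c4 LD2_c58 LD3_c61)) :=
  Lre_e IH (LK LD1_c9 LD2_c48 LD3_c23) (LK LD1_c4 LD2_c58 LD3_c61) Lrfl Lrfl
theorem f598648 : Led Lsl_ef (LP (LK LD1_c27 LD2_c41 LD3_c15)) = (LP (LK LD1_c17 LD2_c58 LD3_c35)) :=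
  Lgr Lrot17 (Lpe (f72515 IH) (Lpe (f72496 IH) (Lpr_dt (K40.f72494 IH) (Lpr_gf (K40.f556080 IH) (Lpe (K41.f26696 IH) (Lpr_gf (f598645 IH) (Lpe (f598647 IH) (Lpr_dt (K55.f74982 IH) (Lpe (K55.f74980 IH) (Lpe (K55.f76268 IH) (Lpn (LP (LK LD1_c17 LD2_c58 LD3_c35)))))))))))))
theorem f719103 : Led Lsl_ef (LP (LK LD1_c11 LD2_c31 LD3_c25)) = (LP (LK LD1_c18 LD2_c1 LD3_c56)) :=
  Lgr Lrot88 (Lpr_et (K69.f719099 IH) (Lpn (LP (LK LD1_c18 LD2_c1 LD3_c56))))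
theorem f746433 : Led Lsl_at (LP (LK LD1_c27 LD2_c41 LD3_c15)) = (LP (LK LD1_c18 LD2_c1 LD3_c56)) :=
  Lgr Lrot80 (Lpr_ef (f598648 IH) (Lpr_af (f746429 IH) (Lpr_ef (f719103 IH) (Lpn (LP (LK LD1_c18 LD2_c1 LD3_c56))))))
theorem f746435 : Led Lsl_af (LP (LK LD1_c27 LD2_c41 LD3_c15)) = (LP (LK LD1_c18 LD2_c1 LD3_c56)) :=
  Lgr Lrot0 (Lpr_at (f746433 IH) (Lpn (LP (LK LD1_c18 LD2_c1 LD3_c56))))
theorem f564159 : Led Lsl_dt (LP (LK LD1_c11 LD2_c41 LD3_c30)) = (LP (LK LD1_c20 LD2_c41 LD3_c31)) :=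
  Lre_d IH (LK LD1_c11 LD2_c41 LD3_c30) (LK LD1_c20 LD2_c41 LD3_c31) Lrfl Lrfl
theorem f564158 : Led Lsl_et (LP (LK LD1_c11 LD2_c41 LD3_c30)) = (LP (LK LD1_c5 LD2_c58 LD3_c35)) :=
  Lre_e IH (LK LD1_c11 LD2_c41 LD3_c30) (LK LD1_c5 LD2_c58 LD3_c35) Lrfl Lrfl
theorem f596988 : Led Lsl_gt (LP (LK LD1_c20 LD2_c14 LD3_c14)) = (LP (LK LD1_c29 LD2_c22 LD3_c15)) :=
  Lre_g IH (LK LD1_c20 LD2_c14 LD3_c14) (LK LD1_c29 LD2_c22 LD3_c15) Lrfl Lrfl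
theorem f700096 : Led Lsl_et (LP (LK LD1_c27 LD2_c21 LD3_c48)) = (LP (LK LD1_c29 LD2_c22 LD3_c15)) :=
  Lgr Lrot122 (Lpr_dt (K50.f700091 IH) (Lpr_gt (K50.f428336 IH) (Lpe (f564159 IH) (Lpr_et (f564158 IH) (Lpr_gt (K41.f428277 IH) (Lpr_dt (K41.f428340 IH) (Lpr_gt (K41.f564154 IH) (Lpe (K50.f555919 IH) (Lpr_et (f596939 IH) (Lpr_gt (f596988 IH) (Lpn (LP (LK LD1_c29 LD2_c22 LD3_c15)))))))))))))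
theorem f700098 : Led Lsl_ef (LP (LK LD1_c27 LD2_c21 LD3_c48)) = (LP (LK LD1_c29 LD2_c22 LD3_c15)) :=
  Lgr Lrot88 (Lpr_et (f700096 IH) (Lpn (LP (LK LD1_c29 LD2_c22 LD3_c15))))
theorem f748295 : Led Lsl_cf (LP (LK LD1_c29 LD2_c22 LD3_c15)) = (LP (LK LD1_c27 LD2_c41 LD3_c15)) :=
  Lgr Lrot39 (Lpe (f700098 IH) (Lpr_ct (K55.f748291 IH) (Lpe (f598648 IH) (Lpn (LP (LK LD1_c27 LD2_c41 LD3_c15))))))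
theorem f904015 : Led Lsl_at (LP (LK LD1_c29 LD2_c22 LD3_c15)) = (LP (LK LD1_c20 LD2_c15 LD3_c24)) :=
  Lgr Lrot107 (Lpr_cf (f748295 IH) (Lpr_af (f746435 IH) (Lpr_cf (f904012 IH) (Lpn (LP (LK LD1_c20 LD2_c15 LD3_c24))))))
theorem f383569 : Led Lsl_gt (LP (LK LD1_c20 LD2_c15 LD3_c25)) = (LP (LK LD1_c11 LD2_c18 LD3_c48)) :=
  Lre_g IH (LK LD1_c20 LD2_c15 LD3_c25) (LK LD1_c11 LD2_c18 LD3_c48) Lrfl Lrfl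
theorem f904017 : Led Lsl_ff (LP (LK LD1_c29 LD2_c22 LD3_c15)) = (LP (LK LD1_c20 LD2_c15 LD3_c25)) :=
  Lgr Lrot52 (Lpr_at (f904015 IH) (Lpe (K69.f564055 IH) (Lpe (f383569 IH) (Lpn (LP (LK LD1_c20 LD2_c15 LD3_c25))))))
theorem f748297 : Led Lsl_ct (LP (LK LD1_c29 LD2_c22 LD3_c15)) = (LP (LK LD1_c27 LD2_c41 LD3_c15)) :=
  Lgr Lrot59 (Lpr_cf (f748295 IH) (Lpn (LP (LK LD1_c27 LD2_c41 LD3_c15))))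
theorem f558383 : Led Lsl_gt (LP (LK LD1_c18 LD2_c1 LD3_c57)) = (LP (LK LD1_c9 LD2_c50 LD3_c47)) :=
  Lre_g IH (LK LD1_c18 LD2_c1 LD3_c57) (LK LD1_c9 LD2_c50 LD3_c47) Lrfl Lrfl
theorem f746437 : Led Lsl_ff (LP (LK LD1_c27 LD2_c41 LD3_c15)) = (LP (LK LD1_c18 LD2_c1 LD3_c57)) :=
  Lgr Lrot52 (Lpr_at (f746433 IH) (Lpe (K69.f558385 IH) (Lpe (f558383 IH) (Lpn (LP (LK LD1_c18 LD2_c1 LD3_c57))))))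
theorem f746439 : Led Lsl_ft (LP (LK LD1_c27 LD2_c41 LD3_c15)) = (LP (LK LD1_c18 LD2_c1 LD3_c57)) :=
  Lgr Lrot48 (Lpr_ff (f746437 IH) (Lpn (LP (LK LD1_c18 LD2_c1 LD3_c57))))
theorem f904020 : Led Lsl_ct (LP (LK LD1_c18 LD2_c1 LD3_c57)) = (LP (LK LD1_c20 LD2_c15 LD3_c25)) :=
  Lgr Lrot40 (Lpe (f746439 IH) (Lpe (f748297 IH) (Lpr_ff (f904017 IH) (Lpn (LP (LK LD1_c20 LD2_c15 LD3_c25))))))
theorem f383977 : Led Lsl_cf (LP (LK LD1_c5 LD2_c44 LD3_c3)) = (LP (LK LD1_c11 LD2_c6 LD3_c36)) :=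
  Lgr Lrot11 (Lpr_ct (K40.f383973 IH) (Lpn (LP (LK LD1_c11 LD2_c6 LD3_c36))))
theorem f597953 : Led Lsl_ff (LP (LK LD1_c11 LD2_c6 LD3_c36)) = (LP (LK LD1_c5 LD2_c44 LD3_c30)) :=
  Lgr Lrot23 (Lpe (f383977 IH) (Lpr_ft (f597949 IH) (Lpr_ct (K74.f211909 IH) (Lpn (LP (LK LD1_c5 LD2_c44 LD3_c30))))))
theorem f174714 : Led Lsl_gt (LP (LK LD1_c9 LD2_c45 LD3_c19)) = (LP (LK LD1_c5 LD2_c44 LD3_c34)) :=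
  Lre_g IH (LK LD1_c9 LD2_c45 LD3_c19) (LK LD1_c5 LD2_c44 LD3_c34) Lrfl Lrfl
theorem f558396 : Led Lsl_df (LP (LK LD1_c2 LD2_c49 LD3_c27)) = (LP (LK LD1_c5 LD2_c44 LD3_c34)) :=
  Lgr Lrot153 (Lpr_gt (K40.f73151 IH) (Lpr_dt (K37.f80035 IH) (Lpr_cf (K40.f558353 IH) (Lpe (K27.f383829 IH) (Lpe (K27.f383861 IH) (Lpe (K27.f310103 IH) (Lpr_gf (K39.f382400 IH) (Lpr_cf (K39.f424032 IH) (Lpr_gt (f174714 IH) (Lpn (LP (LK LD1_c5 LD2_c44 LD3_c34))))))))))))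
theorem f581968 : Led Lsl_af (LP (LK LD1_c5 LD2_c44 LD3_c34)) = (LP (LK LD1_c11 LD2_c6 LD3_c36)) :=
  Lgr Lrot117 (Lpe (f558396 IH) (Lpr_at (K44.f581962 IH) (Lpr_dt (K36.f383981 IH) (Lpn (LP (LK LD1_c11 LD2_c6 LD3_c36))))))
theorem f427669 : Led Lsl_dt (LP (LK LD1_c7 LD2_c59 LD3_c33)) = (LP (LK LD1_c5 LD2_c37 LD3_c28)) :=
  Lgr Lrot27 (Lpr_cf (K38.f422841 IH) (Lpe (K38.f172373 IH) (Lpe (K38.f172372 IH) (Lpe (K27.f40157 IH) (Lpe (K32.f427505 IH) (Lpr_gt (K36.f427663 IH) (Lpr_ct (K38.f211941 IH) (Lpe (K38.f384159 IH) (Lpr_ct (K38.f381407 IH) (Lpn (LP (LK LD1_c5 LD2_c37 LD3_c28))))))))))))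
theorem f581960 : Led Lsl_ft (LP (LK LD1_c5 LD2_c44 LD3_c34)) = (LP (LK LD1_c7 LD2_c59 LD3_c33)) :=
  Lgr Lrot54 (Lpr_df (K50.f563761 IH) (Lpr_ff (K44.f581954 IH) (Lpe (f427669 IH) (Lpn (LP (LK LD1_c7 LD2_c59 LD3_c33))))))
theorem f597962 : Led Lsl_at (LP (LK LD1_c7 LD2_c59 LD3_c33)) = (LP (LK LD1_c5 LD2_c44 LD3_c30)) :=
  Lgr Lrot66 (Lpe (f581960 IH) (Lpr_af (f581968 IH) (Lpr_ff (f597953 IH) (Lpn (LP (LK LD1_c5 LD2_c44 LD3_c30))))))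
theorem f422843 : Led Lsl_et (LP (LK LD1_c15 LD2_c4 LD3_c13)) = (LP (LK LD1_c7 LD2_c59 LD3_c33)) :=
  Lre_e IH (LK LD1_c15 LD2_c4 LD3_c13) (LK LD1_c7 LD2_c59 LD3_c33) Lrfl Lrfl
theorem f211930 : Led Lsl_et (LP (LK LD1_c5 LD2_c44 LD3_c30)) = (LP (LK LD1_c11 LD2_c19 LD3_c5)) :=
  Lre_e IH (LK LD1_c5 LD2_c44 LD3_c30) (LK LD1_c11 LD2_c19 LD3_c5) Lrfl Lrfl
theorem f597966 : Led Lsl_af (LP (LK LD1_c15 LD2_c4 LD3_c13)) = (LP (LK LD1_c11 LD2_c19 LD3_c5)) :=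
  Lgr Lrot50 (Lpr_et (f422843 IH) (Lpr_at (f597962 IH) (Lpr_et (f211930 IH) (Lpn (LP (LK LD1_c11 LD2_c19 LD3_c5))))))
theorem f558374 : Led Lsl_df (LP (LK LD1_c15 LD2_c4 LD3_c13)) = (LP (LK LD1_c9 LD2_c50 LD3_c47)) :=
  Lgr Lrot70 (Lpr_et (f422843 IH) (Lpr_dt (f427669 IH) (Lpe (K40.f558355 IH) (Lpr_dt (K40.f558369 IH) (Lpr_et (K69.f558373 IH) (Lpn (LP (LK LD1_c9 LD2_c50 LD3_c47))))))))
theorem f558379 : Led Lsl_dt (LP (LK LD1_c15 LD2_c4 LD3_c13)) = (LP (LK LD1_c9 LD2_c50 LD3_c47)) :=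
  Lgr Lrot42 (Lpr_df (f558374 IH) (Lpn (LP (LK LD1_c9 LD2_c50 LD3_c47))))
theorem f72497 : Led Lsl_et (LP (LK LD1_c2 LD2_c49 LD3_c26)) = (LP (LK LD1_c5 LD2_c47 LD3_c9)) :=
  Lre_e IH (LK LD1_c2 LD2_c49 LD3_c26) (LK LD1_c5 LD2_c47 LD3_c9) Lrfl Lrfl
theorem f211913 : Led Lsl_et (LP (LK LD1_c11 LD2_c19 LD3_c5)) = (LP (LK LD1_c5 LD2_c44 LD3_c30)) :=
  Lre_e IH (LK LD1_c11 LD2_c19 LD3_c5) (LK LD1_c5 LD2_c44 LD3_c30) Lrfl Lrfl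
theorem f552494 : Led Lsl_dt (LP (LK LD1_c17 LD2_c56 LD3_c22)) = (LP (LK LD1_c11 LD2_c19 LD3_c5)) :=
  Lgr Lrot77 (Lpe (f72496 IH) (Lpr_df (K40.f72488 IH) (Lpe (f72497 IH) (Lpr_df (K39.f552485 IH) (Lpe (f211913 IH) (Lpn (LP (LK LD1_c11 LD2_c19 LD3_c5))))))))
theorem f597972 : Led Lsl_at (LP (LK LD1_c9 LD2_c50 LD3_c47)) = (LP (LK LD1_c17 LD2_c56 LD3_c22)) :=
  Lgr Lrot51 (Lpe (f558379 IH) (Lpr_af (f597966 IH) (Lpe (f552494 IH) (Lpn (LP (LK LD1_c17 LD2_c56 LD3_c22))))))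
theorem f597974 : Led Lsl_af (LP (LK LD1_c9 LD2_c50 LD3_c47)) = (LP (LK LD1_c17 LD2_c56 LD3_c22)) :=
  Lgr Lrot0 (Lpr_at (f597972 IH) (Lpn (LP (LK LD1_c17 LD2_c56 LD3_c22))))
theorem f597986 : Led Lsl_ft (LP (LK LD1_c27 LD2_c41 LD3_c16)) = (LP (LK LD1_c17 LD2_c56 LD3_c22)) :=
  Lre_f IH (LK LD1_c27 LD2_c41 LD3_c16) (LK LD1_c17 LD2_c56 LD3_c22) Lrfl Lrfl
theorem f598003 : Led Lsl_gf (LP (LK LD1_c18 LD2_c1 LD3_c57)) = (LP (LK LD1_c27 LD2_c41 LD3_c16)) :=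
  Lgr Lrot47 (Lpr_gt (f558383 IH) (Lpr_af (f597974 IH) (Lpe (f597986 IH) (Lpn (LP (LK LD1_c27 LD2_c41 LD3_c16))))))
theorem f597968 : Led Lsl_at (LP (LK LD1_c15 LD2_c4 LD3_c13)) = (LP (LK LD1_c11 LD2_c19 LD3_c5)) :=
  Lgr Lrot100 (Lpr_af (f597966 IH) (Lpn (LP (LK LD1_c11 LD2_c19 LD3_c5))))
theorem f598001 : Led Lsl_dt (LP (LK LD1_c11 LD2_c19 LD3_c5)) = (LP (LK LD1_c17 LD2_c56 LD3_c22)) :=
  Lgr Lrot44 (Lpe (f597968 IH) (Lpr_df (f558374 IH) (Lpr_af (f597974 IH) (Lpn (LP (LK LD1_c17 LD2_c56 LD3_c22))))))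
theorem f211931 : Led Lsl_ft (LP (LK LD1_c20 LD2_c15 LD3_c49)) = (LP (LK LD1_c11 LD2_c19 LD3_c5)) :=
  Lre_f IH (LK LD1_c20 LD2_c15 LD3_c49) (LK LD1_c11 LD2_c19 LD3_c5) Lrfl Lrfl
theorem f597978 : Led Lsl_ft (LP (LK LD1_c17 LD2_c56 LD3_c22)) = (LP (LK LD1_c27 LD2_c41 LD3_c16)) :=
  Lre_f IH (LK LD1_c17 LD2_c56 LD3_c22) (LK LD1_c27 LD2_c41 LD3_c16) Lrfl Lrfl
theorem f598007 : Led Lsl_df (LP (LK LD1_c20 LD2_c15 LD3_c49)) = (LP (LK LD1_c27 LD2_c41 LD3_c16)) :=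
  Lgr Lrot78 (Lpr_ft (f211931 IH) (Lpr_dt (f598001 IH) (Lpr_ft (f597978 IH) (Lpn (LP (LK LD1_c27 LD2_c41 LD3_c16))))))
theorem f383500 : Led Lsl_ct (LP (LK LD1_c20 LD2_c15 LD3_c12)) = (LP (LK LD1_c11 LD2_c18 LD3_c38)) :=
  Lre_c IH (LK LD1_c20 LD2_c15 LD3_c12) (LK LD1_c11 LD2_c18 LD3_c38) Lrfl Lrfl
theorem f904027 : Led Lsl_gt (LP (LK LD1_c20 LD2_c15 LD3_c49)) = (LP (LK LD1_c20 LD2_c15 LD3_c12)) :=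
  Lgr Lrot9 (Lpr_df (f598007 IH) (Lpe (f598003 IH) (Lpr_ct (f904020 IH) (Lpr_gt (f383569 IH) (Lpr_ct (f383495 IH) (Lpe (K40.f383257 IH) (Lpe (f383482 IH) (Lpe (f383491 IH) (Lpe (f383500 IH) (Lpn (LP (LK LD1_c20 LD2_c15 LD3_c12))))))))))))
theorem f961613 : Led Lsl_gt (LP (LK LD1_c20 LD2_c15 LD3_c9)) = (LP (LK LD1_c20 LD2_c15 LD3_c49)) :=
  Lgr Lrot5 (Lpe (f961597 IH) (Lpr_at (f961611 IH) (Lpe (f904027 IH) (Lpn (LP (LK LD1_c20 LD2_c15 LD3_c49))))))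
theorem f961587 : Led Lsl_bt (LP (LK LD1_c11 LD2_c59 LD3_c26)) = (LP (LK LD1_c20 LD2_c15 LD3_c9)) :=
  Lgr Lrot127 (Lpr_bf (f961585 IH) (Lpn (LP (LK LD1_c20 LD2_c15 LD3_c9))))
def v47133 : LQ := Led Lsl_gt (LP (LK LD1_c11 LD2_c15 LD3_c1))
theorem f957010 : Led Lsl_gt (LP (LK LD1_c11 LD2_c15 LD3_c1)) = v47133 :=
  Lrfl
theorem f509956 : Led Lsl_gf (LP (LK LD1_c6 LD2_c45 LD3_c37)) = (LP (LK LD1_c9 LD2_c31 LD3_c26)) :=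
  Lgr Lrot76 (Lpr_af (K35.f509951 IH) (Lpe (K35.f445868 IH) (Lpr_gt (K69.f175441 IH) (Lpn (LP (LK LD1_c9 LD2_c31 LD3_c26))))))
theorem f912990 : Led Lsl_gt K70.v19661 = K70.v40040 :=
  Lgr Lrot5 (Lpe (K70.f781565 IH) (Lpr_at (K35.f509970 IH) (Lpr_gf (K70.f912989 IH) (Lpn K70.v40040))))
theorem f957011 : Led Lsl_cf (LP (LK LD1_c11 LD2_c59 LD3_c26)) = v47133 :=
  Lgr Lrot99 (Lpe (K60.f416395 IH) (Lpe (K70.f416398 IH) (Lpqs (K70.f913965 IH) (Lpe (f912990 IH) (Lpe (K70.f781566 IH) (Lpr_gf (f509956 IH) (Lpr_df (K69.f175452 IH) (Lpr_gt (K69.f68665 IH) (Lpr_ct (K74.f268516 IH) (Lpr_gt (f957010 IH) (Lpn v47133)))))))))))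
theorem f957013 : Led Lsl_ct (LP (LK LD1_c11 LD2_c59 LD3_c26)) = v47133 :=
  Lgr Lrot59 (Lpr_cf (f957011 IH) (Lpn v47133))
theorem f383593 : Led Lsl_ct (LP (LK LD1_c11 LD2_c17 LD3_c59)) = (LP (LK LD1_c20 LD2_c14 LD3_c11)) :=
  Lre_c IH (LK LD1_c11 LD2_c17 LD3_c59) (LK LD1_c20 LD2_c14 LD3_c11) Lrfl Lrfl
theorem f598010 : Led Lsl_ct (LP (LK LD1_c20 LD2_c15 LD3_c49)) = (LP (LK LD1_c11 LD2_c19 LD3_c8)) :=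
  Lre_c IH (LK LD1_c20 LD2_c15 LD3_c49) (LK LD1_c11 LD2_c19 LD3_c8) Lrfl Lrfl
def v47356 : LQ := Led Lsl_gf (LP (LK LD1_c11 LD2_c18 LD3_c3))
theorem f958252 : Led Lsl_gf (LP (LK LD1_c11 LD2_c18 LD3_c3)) = v47356 :=
  Lrfl
theorem f386638 : Led Lsl_et (LP (LK LD1_c11 LD2_c18 LD3_c3)) = (LP (LK LD1_c5 LD2_c44 LD3_c2)) :=
  Lre_e IH (LK LD1_c11 LD2_c18 LD3_c3) (LK LD1_c5 LD2_c44 LD3_c2) Lrfl Lrfl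
theorem f383430 : Led Lsl_et (LP (LK LD1_c2 LD2_c48 LD3_c9)) = (LP (LK LD1_c5 LD2_c44 LD3_c32)) :=
  Lre_e IH (LK LD1_c2 LD2_c48 LD3_c9) (LK LD1_c5 LD2_c44 LD3_c32) Lrfl Lrfl
theorem f597938 : Led Lsl_af (LP (LK LD1_c11 LD2_c18 LD3_c3)) = (LP (LK LD1_c5 LD2_c44 LD3_c32)) :=
  Lgr Lrot50 (Lpr_et (f386638 IH) (Lpr_at (K56.f597929 IH) (Lpr_et (f383430 IH) (Lpn (LP (LK LD1_c5 LD2_c44 LD3_c32))))))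
theorem f597948 : Led Lsl_ft (LP (LK LD1_c11 LD2_c19 LD3_c8)) = (LP (LK LD1_c5 LD2_c44 LD3_c32)) :=
  Lre_f IH (LK LD1_c11 LD2_c19 LD3_c8) (LK LD1_c5 LD2_c44 LD3_c32) Lrfl Lrfl
theorem f958253 : Led Lsl_gt (LP (LK LD1_c11 LD2_c19 LD3_c8)) = v47356 :=
  Lgr Lrot5 (Lpr_ft (f597948 IH) (Lpe (f597938 IH) (Lpr_gf (f958252 IH) (Lpn v47356))))
theorem f961615 : (LP (LK LD1_c20 LD2_c14 LD3_c11)) = v47356 :=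
  (Llr Lrot63 (Lpe (f383593 IH) (Lpq (f961288 IH) (Lpe (f897240 IH) (Lpr_gt (K51.f598104 IH) (Lpe (K74.f619275 IH) (Lpr_ct (K74.f268516 IH) (Lpr_gt (f957010 IH) (Lpe (f957013 IH) (Lpr_bt (f961587 IH) (Lpr_gt (f961613 IH) (Lpr_ct (f598010 IH) (Lpr_gt (f958253 IH) (Lpn v47356)))))))))))))).symm
theorem f961616 : Led Lsl_gt (LP (LK LD1_c20 LD2_c14 LD3_c11)) = (LP (LK LD1_c11 LD2_c18 LD3_c3)) :=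
  Leop (Lpr_gf (f958252 IH) (Lpq (f961615 IH) (Lpn (LP (LK LD1_c20 LD2_c14 LD3_c11)))))
theorem seed_2861 : LEOK LG_g (LK LD1_c20 LD2_c14 LD3_c11) :=
  Leoe_g (LK LD1_c20 LD2_c14 LD3_c11) (f961616 IH)
def v46516 : LQ := Led Lsl_gt (LP (LK LD1_c11 LD2_c7 LD3_c58))
theorem f953991 : Led Lsl_gt (LP (LK LD1_c11 LD2_c7 LD3_c58)) = v46516 :=
  Lrfl
theorem f319367 : Led Lsl_bt (LP (LK LD1_c1 LD2_c18 LD3_c50)) = (LP (LK LD1_c2 LD2_c45 LD3_c1)) :=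
  Lre_b IH (LK LD1_c1 LD2_c18 LD3_c50) (LK LD1_c2 LD2_c45 LD3_c1) Lrfl Lrfl
theorem f418724 : Led Lsl_ct (LP (LK LD1_c5 LD2_c38 LD3_c18)) = (LP (LK LD1_c11 LD2_c7 LD3_c55)) :=
  Lre_c IH (LK LD1_c5 LD2_c38 LD3_c18) (LK LD1_c11 LD2_c7 LD3_c55) Lrfl Lrfl
def v46504 : LQ := Led Lsl_gt (LP (LK LD1_c11 LD2_c7 LD3_c55))
theorem f953913 : Led Lsl_gt (LP (LK LD1_c11 LD2_c7 LD3_c55)) = v46504 :=
  Lrfl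
theorem f383545 : Led Lsl_gt (LP (LK LD1_c11 LD2_c17 LD3_c61)) = (LP (LK LD1_c5 LD2_c44 LD3_c19)) :=
  Lgr Lrot5 (Lpr_ft (K27.f383523 IH) (Lpr_at (K27.f383525 IH) (Lpe (f383335 IH) (Lpn (LP (LK LD1_c5 LD2_c44 LD3_c19))))))
def v47335 : LQ := Led Lsl_ft (LP (LK LD1_c11 LD2_c17 LD3_c53))
theorem f958117 : Led Lsl_ft (LP (LK LD1_c11 LD2_c17 LD3_c53)) = v47335 :=
  Lrfl
theorem f383584 : Led Lsl_bt (LP (LK LD1_c5 LD2_c43 LD3_c60)) = (LP (LK LD1_c11 LD2_c17 LD3_c53)) :=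
  Lre_b IH (LK LD1_c5 LD2_c43 LD3_c60) (LK LD1_c11 LD2_c17 LD3_c53) Lrfl Lrfl
theorem f958118 : Led Lsl_bf (LP (LK LD1_c11 LD2_c17 LD3_c61)) = v47335 :=
  Lgr Lrot61 (Lpr_ft (K27.f383523 IH) (Lpr_bt (f383584 IH) (Lpr_ft (f958117 IH) (Lpn v47335))))
theorem f961584 : Led Lsl_cf v46504 = v47335 :=
  Lgr Lrot163 (Lpe (f953913 IH) (Lpe (f418724 IH) (Lpe (K71.f418723 IH) (Lpe (f319367 IH) (Lpr_ct (K67.f418716 IH) (Lpe (K56.f179314 IH) (Lpqs (K69.f750545 IH) (Lpe (K69.f639034 IH) (Lpr_bt (f639031 IH) (Lpq (f961514 IH) (Lpe (f383545 IH) (Lpr_bf (f958118 IH) (Lpn v47335)))))))))))))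
def v46509 : LQ := Led Lsl_ft (LP (LK LD1_c11 LD2_c7 LD3_c55))
theorem f953931 : Led Lsl_ft (LP (LK LD1_c11 LD2_c7 LD3_c55)) = v46509 :=
  Lrfl
def v46506 : LQ := Led Lsl_at (LP (LK LD1_c11 LD2_c7 LD3_c55))
theorem f953916 : Led Lsl_at (LP (LK LD1_c11 LD2_c7 LD3_c55)) = v46506 :=
  Lrfl
theorem f953917 : Led Lsl_af (LP (LK LD1_c11 LD2_c7 LD3_c55)) = v46506 :=
  Lgr Lrot0 (Lpr_at (f953916 IH) (Lpn v46506))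
theorem f953918 : Led Lsl_cf K74.v15386 = v46506 :=
  Lgr Lrot1 (Lpe (K74.f736057 IH) (Lpr_ct (f418724 IH) (Lpr_at (f953916 IH) (Lpn v46506))))
theorem f638724 : Led Lsl_ct (LP (LK LD1_c5 LD2_c38 LD3_c19)) = (LP (LK LD1_c11 LD2_c7 LD3_c59)) :=
  Lre_c IH (LK LD1_c5 LD2_c38 LD3_c19) (LK LD1_c11 LD2_c7 LD3_c59) Lrfl Lrfl
theorem f953920 : Led Lsl_ft (LP (LK LD1_c11 LD2_c7 LD3_c59)) = v46506 :=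
  Lgr Lrot4 (Lpe (f638724 IH) (Lpr_ff (K74.f736063 IH) (Lpr_cf (f953918 IH) (Lpn v46506))))
theorem f953932 : Led Lsl_af (LP (LK LD1_c11 LD2_c7 LD3_c59)) = v46509 :=
  Lgr Lrot45 (Lpr_ft (f953920 IH) (Lpe (f953917 IH) (Lpr_ft (f953931 IH) (Lpn v46509))))
theorem f953935 : Led Lsl_gt v46504 = (LP (LK LD1_c11 LD2_c7 LD3_c59)) :=
  Lgr Lrot46 (Lpe (f953913 IH) (Lpr_ft (f953931 IH) (Lpe (f953932 IH) (Lpn (LP (LK LD1_c11 LD2_c7 LD3_c59))))))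
theorem f736064 : Led Lsl_bt (LP (LK LD1_c5 LD2_c38 LD3_c19)) = (LP (LK LD1_c11 LD2_c7 LD3_c58)) :=
  Lre_b IH (LK LD1_c5 LD2_c38 LD3_c19) (LK LD1_c11 LD2_c7 LD3_c58) Lrfl Lrfl
theorem f383527 : Led Lsl_gf (LP (LK LD1_c11 LD2_c17 LD3_c61)) = (LP (LK LD1_c5 LD2_c44 LD3_c18)) :=
  Lgr Lrot76 (Lpr_af (K27.f383515 IH) (Lpe (K27.f383524 IH) (Lpr_gt (f383338 IH) (Lpn (LP (LK LD1_c5 LD2_c44 LD3_c18))))))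
theorem f621382 : Led Lsl_ct (LP (LK LD1_c9 LD2_c3 LD3_c45)) = (LP (LK LD1_c16 LD2_c54 LD3_c60)) :=
  Lre_c IH (LK LD1_c9 LD2_c3 LD3_c45) (LK LD1_c16 LD2_c54 LD3_c60) Lrfl Lrfl
theorem f245611 : Led Lsl_ct (LP (LK LD1_c11 LD2_c21 LD3_c6)) = (LP (LK LD1_c5 LD2_c45 LD3_c17)) :=
  Lre_c IH (LK LD1_c11 LD2_c21 LD3_c6) (LK LD1_c5 LD2_c45 LD3_c17) Lrfl Lrfl
theorem f897808 : Led Lsl_ff (LP (LK LD1_c11 LD2_c21 LD3_c6)) = (LP (LK LD1_c16 LD2_c54 LD3_c61)) :=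
  Lgr Lrot23 (Lpr_ct (f245611 IH) (Lpr_ft (K69.f740898 IH) (Lpqs (K69.f897801 IH) (Lpr_ct (K69.f698508 IH) (Lpn (LP (LK LD1_c16 LD2_c54 LD3_c61)))))))
theorem f698509 : Led Lsl_ct (LP (LK LD1_c16 LD2_c54 LD3_c61)) = (LP (LK LD1_c9 LD2_c3 LD3_c46)) :=
  Lre_c IH (LK LD1_c16 LD2_c54 LD3_c61) (LK LD1_c9 LD2_c3 LD3_c46) Lrfl Lrfl
theorem f598109 : Led Lsl_ct (LP (LK LD1_c16 LD2_c54 LD3_c24)) = (LP (LK LD1_c26 LD2_c50 LD3_c36)) :=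
  Lre_c IH (LK LD1_c16 LD2_c54 LD3_c24) (LK LD1_c26 LD2_c50 LD3_c36) Lrfl Lrfl
theorem f897873 : Led Lsl_af (LP (LK LD1_c16 LD2_c54 LD3_c61)) = (LP (LK LD1_c26 LD2_c50 LD3_c36)) :=
  Lgr Lrot68 (Lpr_ct (f698509 IH) (Lpq (K69.f897801 IH) (Lpe (K69.f897237 IH) (Lpr_ct (f598109 IH) (Lpn (LP (LK LD1_c26 LD2_c50 LD3_c36)))))))
theorem f598110 : Led Lsl_ct (LP (LK LD1_c26 LD2_c50 LD3_c36)) = (LP (LK LD1_c16 LD2_c54 LD3_c24)) :=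
  Lre_c IH (LK LD1_c26 LD2_c50 LD3_c36) (LK LD1_c16 LD2_c54 LD3_c24) Lrfl Lrfl
theorem f897787 : Led Lsl_ff (LP (LK LD1_c26 LD2_c50 LD3_c36)) = (LP (LK LD1_c16 LD2_c54 LD3_c60)) :=
  Lgr Lrot23 (Lpr_ct (f598110 IH) (Lpr_ft (K69.f897236 IH) (Lpq (K69.f897782 IH) (Lpr_ct (f621382 IH) (Lpn (LP (LK LD1_c16 LD2_c54 LD3_c60)))))))
theorem f897877 : Led Lsl_at (LP (LK LD1_c11 LD2_c21 LD3_c6)) = (LP (LK LD1_c16 LD2_c54 LD3_c60)) :=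
  Lgr Lrot66 (Lpr_ff (f897808 IH) (Lpr_af (f897873 IH) (Lpr_ff (f897787 IH) (Lpn (LP (LK LD1_c16 LD2_c54 LD3_c60))))))
def v38017 : LQ := Led Lsl_gt (LP (LK LD1_c9 LD2_c3 LD3_c56))
theorem f898671 : Led Lsl_gt (LP (LK LD1_c9 LD2_c3 LD3_c56)) = v38017 :=
  Lrfl
theorem f902259 : (LP (LK LD1_c16 LD2_c54 LD3_c60)) = v38017 :=
  (Llr Lrot26 (Lpe (f897877 IH) (Lpr_ff (f897808 IH) (Lpqs (K69.f902257 IH) (Lpe (K69.f898672 IH) (Lpr_gt (f898671 IH) (Lpn v38017))))))).symm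
theorem f961641 : v46516 = (LP (LK LD1_c16 LD2_c55 LD3_c10)) :=
  (Llr Lrot82 (Lpe (f953991 IH) (Lpe (f736064 IH) (Lpr_ct (f638724 IH) (Lpe (f953935 IH) (Lpr_cf (f961584 IH) (Lpe (f958118 IH) (Lpr_gf (f383527 IH) (Lpr_bf (f738409 IH) (Lpqs (f961474 IH) (Lpr_ct (f621382 IH) (Lpqs (f902259 IH) (Lpe (f898671 IH) (Lpe (K74.f569271 IH) (Lpn (LP (LK LD1_c16 LD2_c55 LD3_c10))))))))))))))))).symm
theorem f961642 : Led Lsl_gt (LP (LK LD1_c11 LD2_c7 LD3_c58)) = (LP (LK LD1_c16 LD2_c55 LD3_c10)) :=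
  Leop (Lpq (f961641 IH) (Lpe (f953991 IH) (Lpn (LP (LK LD1_c11 LD2_c7 LD3_c58)))))
theorem seed_2862 : LEOK LG_g (LK LD1_c11 LD2_c7 LD3_c58) :=
  Leoe_g (LK LD1_c11 LD2_c7 LD3_c58) (f961642 IH)
def v46787 : LQ := Led Lsl_et (LP (LK LD1_c11 LD2_c11 LD3_c27))
theorem f955212 : Led Lsl_et (LP (LK LD1_c11 LD2_c11 LD3_c27)) = v46787 :=
  Lrfl
theorem f955215 : Led Lsl_ef (LP (LK LD1_c11 LD2_c11 LD3_c27)) = v46787 :=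
  Lgr Lrot88 (Lpr_et (f955212 IH) (Lpn v46787))
theorem f561524 : Led Lsl_cf (LP (LK LD1_c5 LD2_c43 LD3_c21)) = (LP (LK LD1_c11 LD2_c11 LD3_c27)) :=
  Lgr Lrot99 (Lpe (K40.f181476 IH) (Lpr_cf (K27.f381970 IH) (Lpr_gf (K40.f381959 IH) (Lpe (K31.f181266 IH) (Lpr_gf (K30.f380248 IH) (Lpe (K30.f181699 IH) (Lpe (K38.f380624 IH) (Lpr_ct (K40.f380626 IH) (Lpr_gt (K40.f561517 IH) (Lpn (LP (LK LD1_c11 LD2_c11 LD3_c27))))))))))))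
def v15611 : LQ := Led Lsl_et (LP (LK LD1_c5 LD2_c43 LD3_c21))
theorem f738297 : Led Lsl_et (LP (LK LD1_c5 LD2_c43 LD3_c21)) = v15611 :=
  Lrfl
theorem f955217 : Led Lsl_ct v15611 = v46787 :=
  Lgr Lrot15 (Lpe (f738297 IH) (Lpr_cf (f561524 IH) (Lpr_ef (f955215 IH) (Lpn v46787))))
theorem f738299 : Led Lsl_bf (LP (LK LD1_c5 LD2_c43 LD3_c24)) = v15611 :=
  Lgr Lrot96 (Lpr_et (K54.f381763 IH) (Lpr_bt (K40.f381397 IH) (Lpr_et (f738297 IH) (Lpn v15611))))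
theorem f613299 : Led Lsl_bf (LP (LK LD1_c11 LD2_c11 LD3_c24)) = (LP (LK LD1_c5 LD2_c40 LD3_c53)) :=
  Lgr Lrot24 (Lpr_bt (K50.f613295 IH) (Lpn (LP (LK LD1_c5 LD2_c40 LD3_c53))))
theorem f380243 : Led Lsl_gt (LP (LK LD1_c11 LD2_c11 LD3_c24)) = (LP (LK LD1_c5 LD2_c40 LD3_c34)) :=
  Lre_g IH (LK LD1_c11 LD2_c11 LD3_c24) (LK LD1_c5 LD2_c40 LD3_c34) Lrfl Lrfl
theorem f613326 : Led Lsl_ct (LP (LK LD1_c5 LD2_c40 LD3_c34)) = (LP (LK LD1_c11 LD2_c11 LD3_c52)) :=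
  Lre_c IH (LK LD1_c5 LD2_c40 LD3_c34) (LK LD1_c11 LD2_c11 LD3_c52) Lrfl Lrfl
def v46823 : LQ := Led Lsl_gt (LP (LK LD1_c11 LD2_c11 LD3_c52))
theorem f955429 : Led Lsl_gt (LP (LK LD1_c11 LD2_c11 LD3_c52)) = v46823 :=
  Lrfl
theorem f961478 : (LP (LK LD1_c11 LD2_c16 LD3_c51)) = v37931 :=
  Lefun (Lecon (Lfl_ff (f957671 IH)) (f961468 IH).symm) (f897951 IH)
theorem f961664 : v46823 = v46787 :=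
  (Llr Lrot149 (Lpe (f955429 IH) (Lpe (f613326 IH) (Lpe (f380243 IH) (Lpr_bf (f613299 IH) (Lpr_ct (K74.f737805 IH) (Lpe (K69.f897072 IH) (Lpe (K69.f897327 IH) (Lpr_bt (f897946 IH) (Lpq (f961478 IH) (Lpe (K54.f384187 IH) (Lpr_bf (f738299 IH) (Lpr_ct (f955217 IH) (Lpn v46787)))))))))))))).symm
def v46829 : LQ := Led Lsl_ft (LP (LK LD1_c11 LD2_c11 LD3_c52))
theorem f955447 : Led Lsl_ft (LP (LK LD1_c11 LD2_c11 LD3_c52)) = v46829 :=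
  Lrfl
def v46825 : LQ := Led Lsl_at (LP (LK LD1_c11 LD2_c11 LD3_c52))
theorem f955431 : Led Lsl_at (LP (LK LD1_c11 LD2_c11 LD3_c52)) = v46825 :=
  Lrfl
theorem f955432 : Led Lsl_af (LP (LK LD1_c11 LD2_c11 LD3_c52)) = v46825 :=
  Lgr Lrot0 (Lpr_at (f955431 IH) (Lpn v46825))
theorem f955433 : Led Lsl_cf K74.v15484 = v46825 :=
  Lgr Lrot1 (Lpe (K74.f737716 IH) (Lpr_ct (f613326 IH) (Lpr_at (f955431 IH) (Lpn v46825))))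
def v15482 : LQ := Led Lsl_ct (LP (LK LD1_c5 LD2_c40 LD3_c33))
theorem f737710 : Led Lsl_ct (LP (LK LD1_c5 LD2_c40 LD3_c33)) = v15482 :=
  Lrfl
theorem f955435 : Led Lsl_ft v15482 = v46825 :=
  Lgr Lrot4 (Lpe (f737710 IH) (Lpr_ff (K74.f737717 IH) (Lpr_cf (f955433 IH) (Lpn v46825))))
theorem f955448 : Led Lsl_af v15482 = v46829 :=
  Lgr Lrot45 (Lpr_ft (f955435 IH) (Lpe (f955432 IH) (Lpr_ft (f955447 IH) (Lpn v46829))))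
theorem f955451 : Led Lsl_gt v46823 = v15482 :=
  Lgr Lrot46 (Lpe (f955429 IH) (Lpr_ft (f955447 IH) (Lpe (f955448 IH) (Lpn v15482))))
theorem f737707 : Led Lsl_bt (LP (LK LD1_c5 LD2_c40 LD3_c33)) = (LP (LK LD1_c11 LD2_c11 LD3_c49)) :=
  Lre_b IH (LK LD1_c5 LD2_c40 LD3_c33) (LK LD1_c11 LD2_c11 LD3_c49) Lrfl Lrfl
theorem f737712 : Led Lsl_gt (LP (LK LD1_c11 LD2_c11 LD3_c49)) = (LP (LK LD1_c20 LD2_c6 LD3_c33)) :=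
  Lre_g IH (LK LD1_c11 LD2_c11 LD3_c49) (LK LD1_c20 LD2_c6 LD3_c33) Lrfl Lrfl
theorem f961673 : K74.v46850 = (LP (LK LD1_c20 LD2_c6 LD3_c33)) :=
  (Llr Lrot125 (Lpe (K74.f955561 IH) (Lpr_gt (f897894 IH) (Lpe (f281851 IH) (Lpq (f961461 IH) (Lpe (f957674 IH) (Lpr_gt (f381774 IH) (Lpr_bf (f738299 IH) (Lpr_ct (f955217 IH) (Lpq (f961664 IH) (Lpr_gt (f955451 IH) (Lpe (f737710 IH) (Lpr_bt (f737707 IH) (Lpr_gt (f737712 IH) (Lpn (LP (LK LD1_c20 LD2_c6 LD3_c33))))))))))))))))).symm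
theorem f961674 : Led Lsl_bt (LP (LK LD1_c20 LD2_c6 LD3_c33)) = (LP (LK LD1_c11 LD2_c12 LD3_c6)) :=
  Leop (Lpr_bf (K74.f955560 IH) (Lpqs (f961673 IH) (Lpn (LP (LK LD1_c20 LD2_c6 LD3_c33)))))
theorem seed_2863 : LEOK LG_b (LK LD1_c20 LD2_c6 LD3_c33) :=
  Leoe_b (LK LD1_c20 LD2_c6 LD3_c33) (f961674 IH)
def v46819 : LQ := Led Lsl_gt (LP (LK LD1_c11 LD2_c11 LD3_c51))
theorem f955421 : Led Lsl_gt (LP (LK LD1_c11 LD2_c11 LD3_c51)) = v46819 :=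
  Lrfl
theorem f918402 : Led Lsl_ff (LP (LK LD1_c9 LD2_c45 LD3_c17)) = K71.v40672 :=
  Lgr Lrot3 (Lpr_ft (K71.f918399 IH) (Lpn K71.v40672))
theorem f589286 : Led Lsl_at (LP (LK LD1_c9 LD2_c45 LD3_c17)) = (LP (LK LD1_c16 LD2_c21 LD3_c41)) :=
  Lgr Lrot100 (Lpr_af (K71.f589284 IH) (Lpn (LP (LK LD1_c16 LD2_c21 LD3_c41))))
theorem f557341 : Led Lsl_dt (LP (LK LD1_c17 LD2_c54 LD3_c57)) = (LP (LK LD1_c9 LD2_c45 LD3_c17)) :=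
  Lre_d IH (LK LD1_c17 LD2_c54 LD3_c57) (LK LD1_c9 LD2_c45 LD3_c17) Lrfl Lrfl
theorem f589288 : Led Lsl_bt (LP (LK LD1_c9 LD2_c45 LD3_c17)) = (LP (LK LD1_c4 LD2_c57 LD3_c12)) :=
  Lre_b IH (LK LD1_c9 LD2_c45 LD3_c17) (LK LD1_c4 LD2_c57 LD3_c12) Lrfl Lrfl
theorem f589394 : Led Lsl_df (LP (LK LD1_c9 LD2_c45 LD3_c21)) = (LP (LK LD1_c4 LD2_c57 LD3_c12)) :=
  Lgr Lrot12 (Lpr_bt (f589392 IH) (Lpr_dt (f557341 IH) (Lpr_bt (f589288 IH) (Lpn (LP (LK LD1_c4 LD2_c57 LD3_c12))))))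
theorem f718881 : Led Lsl_ff (LP (LK LD1_c4 LD2_c57 LD3_c12)) = K74.v14075 :=
  Lgr Lrot3 (Lpr_ft (K74.f718879 IH) (Lpn K74.v14075))
theorem f918409 : Led Lsl_df K74.v14075 = K74.v40674 :=
  Lgr Lrot78 (Lpe (f718881 IH) (Lpe (f589394 IH) (Lpr_ft (K74.f918408 IH) (Lpn K74.v40674))))
theorem f955617 : Led Lsl_ct (LP (LK LD1_c26 LD2_c49 LD3_c31)) = K74.v46864 :=
  Lgr Lrot59 (Lpr_cf (K74.f955616 IH) (Lpn K74.v46864))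
def v47249 : LQ := Led Lsl_ct (LP (LK LD1_c11 LD2_c16 LD3_c51))
theorem f957665 : Led Lsl_ct (LP (LK LD1_c11 LD2_c16 LD3_c51)) = v47249 :=
  Lrfl
def v40688 : LQ := Led Lsl_ft (LP (LK LD1_c9 LD2_c45 LD3_c28))
theorem f918484 : Led Lsl_ft (LP (LK LD1_c9 LD2_c45 LD3_c28)) = v40688 :=
  Lrfl
theorem f618937 : Led Lsl_ct (LP (LK LD1_c4 LD2_c57 LD3_c12)) = (LP (LK LD1_c9 LD2_c45 LD3_c28)) :=
  Lre_c IH (LK LD1_c4 LD2_c57 LD3_c12) (LK LD1_c9 LD2_c45 LD3_c28) Lrfl Lrfl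
theorem f918485 : Led Lsl_cf K74.v14075 = v40688 :=
  Lgr Lrot108 (Lpe (f718881 IH) (Lpr_ct (f618937 IH) (Lpr_ft (f918484 IH) (Lpn v40688))))
theorem f961692 : Led Lsl_gt v47249 = v40688 :=
  Lgr Lrot187 (Lpe (f957665 IH) (Lpe (K54.f384187 IH) (Lpr_dt (K65.f622082 IH) (Lpq (f961376 IH) (Lpe (f897610 IH) (Lpr_ct (K74.f281860 IH) (Lpr_gt (K74.f824098 IH) (Lpr_ct (f955617 IH) (Lpqs (K74.f956716 IH) (Lpe (f918409 IH) (Lpr_cf (f918485 IH) (Lpn v40688))))))))))))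
theorem f613322 : Led Lsl_bt (LP (LK LD1_c5 LD2_c40 LD3_c34)) = (LP (LK LD1_c11 LD2_c11 LD3_c51)) :=
  Lre_b IH (LK LD1_c5 LD2_c40 LD3_c34) (LK LD1_c11 LD2_c11 LD3_c51) Lrfl Lrfl
def v46820 : LQ := Led Lsl_gf (LP (LK LD1_c11 LD2_c11 LD3_c51))
theorem f955422 : Led Lsl_gf (LP (LK LD1_c11 LD2_c11 LD3_c51)) = v46820 :=
  Lrfl
theorem f918486 : Led Lsl_ff (LP (LK LD1_c9 LD2_c45 LD3_c28)) = v40688 :=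
  Lgr Lrot3 (Lpr_ft (f918484 IH) (Lpn v40688))
theorem f589396 : Led Lsl_ct (LP (LK LD1_c9 LD2_c45 LD3_c28)) = (LP (LK LD1_c4 LD2_c57 LD3_c12)) :=
  Lre_c IH (LK LD1_c9 LD2_c45 LD3_c28) (LK LD1_c4 LD2_c57 LD3_c12) Lrfl Lrfl
theorem f918487 : Led Lsl_ct K74.v14075 = v40688 :=
  Lgr Lrot40 (Lpe (K74.f718879 IH) (Lpe (f589396 IH) (Lpr_ff (f918486 IH) (Lpn v40688))))
theorem f918406 : Led Lsl_bt K74.v14075 = K71.v40672 :=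
  Lgr Lrot35 (Lpe (K74.f718879 IH) (Lpe (f589288 IH) (Lpr_ff (f918402 IH) (Lpn K71.v40672))))
theorem f961693 : v46820 = K71.v40672 :=
  (Llr Lrot124 (Lpe (f955422 IH) (Lpe (f613322 IH) (Lpr_ct (f613326 IH) (Lpr_gt (f955429 IH) (Lpqs (f961664 IH) (Lpe (f955217 IH) (Lpe (f738299 IH) (Lpr_gt (K54.f384187 IH) (Lpr_ct (f957665 IH) (Lpr_gt (f961692 IH) (Lpe (f918487 IH) (Lpr_bt (f918406 IH) (Lpn K71.v40672)))))))))))))).symm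
theorem f961694 : (LP (LK LD1_c16 LD2_c21 LD3_c41)) = v46819 :=
  (Llr Lrot26 (Lpe (f589286 IH) (Lpr_ff (f918402 IH) (Lpq (f961693 IH) (Lpe (f955422 IH) (Lpr_gt (f955421 IH) (Lpn v46819))))))).symm
theorem f961695 : Led Lsl_gt (LP (LK LD1_c11 LD2_c11 LD3_c51)) = (LP (LK LD1_c16 LD2_c21 LD3_c41)) :=
  Leop (Lpqs (f961694 IH) (Lpe (f955421 IH) (Lpn (LP (LK LD1_c11 LD2_c11 LD3_c51)))))
theorem seed_2864 : LEOK LG_g (LK LD1_c11 LD2_c11 LD3_c51) :=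
  Leoe_g (LK LD1_c11 LD2_c11 LD3_c51) (f961695 IH)
theorem f211912 : Led Lsl_et (LP (LK LD1_c11 LD2_c7 LD3_c1)) = (LP (LK LD1_c20 LD2_c0 LD3_c20)) :=
  Lre_e IH (LK LD1_c11 LD2_c7 LD3_c1) (LK LD1_c20 LD2_c0 LD3_c20) Lrfl Lrfl
theorem f211914 : Led Lsl_bt (LP (LK LD1_c20 LD2_c0 LD3_c20)) = (LP (LK LD1_c11 LD2_c19 LD3_c5)) :=
  Lgr Lrot119 (Lpe (f211912 IH) (Lpr_bf (K39.f211901 IH) (Lpe (f211913 IH) (Lpn (LP (LK LD1_c11 LD2_c19 LD3_c5))))))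
theorem f211920 : Led Lsl_bf (LP (LK LD1_c20 LD2_c0 LD3_c20)) = (LP (LK LD1_c11 LD2_c19 LD3_c5)) :=
  Lgr Lrot24 (Lpr_bt (f211914 IH) (Lpn (LP (LK LD1_c11 LD2_c19 LD3_c5))))
theorem f211922 : Led Lsl_ct (LP (LK LD1_c11 LD2_c19 LD3_c5)) = (LP (LK LD1_c5 LD2_c44 LD3_c32)) :=
  Lre_c IH (LK LD1_c11 LD2_c19 LD3_c5) (LK LD1_c5 LD2_c44 LD3_c32) Lrfl Lrfl
def v15654 : LQ := Led Lsl_gf (LP (LK LD1_c5 LD2_c44 LD3_c32))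
theorem f738493 : Led Lsl_gf (LP (LK LD1_c5 LD2_c44 LD3_c32)) = v15654 :=
  Lrfl
theorem f589191 : Led Lsl_gf (LP (LK LD1_c5 LD2_c37 LD3_c50)) = (LP (LK LD1_c9 LD2_c1 LD3_c19)) :=
  Lgr Lrot147 (Lpe (K41.f552483 IH) (Lpe (K41.f565125 IH) (Lpr_ct (K39.f60132 IH) (Lpr_df (K39.f552594 IH) (Lpe (K36.f280306 IH) (Lpe (K40.f280307 IH) (Lpr_cf (K43.f579795 IH) (Lpe (K51.f589173 IH) (Lpr_df (K51.f589175 IH) (Lpn (LP (LK LD1_c9 LD2_c1 LD3_c19))))))))))))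
theorem f613332 : Led Lsl_bt (LP (LK LD1_c11 LD2_c7 LD3_c57)) = (LP (LK LD1_c20 LD2_c1 LD3_c30)) :=
  Lre_b IH (LK LD1_c11 LD2_c7 LD3_c57) (LK LD1_c20 LD2_c1 LD3_c30) Lrfl Lrfl
theorem f613333 : Led Lsl_dt (LP (LK LD1_c20 LD2_c1 LD3_c30)) = (LP (LK LD1_c11 LD2_c11 LD3_c51)) :=
  Lgr Lrot79 (Lpe (f613332 IH) (Lpr_df (K71.f613327 IH) (Lpe (K69.f380526 IH) (Lpn (LP (LK LD1_c11 LD2_c11 LD3_c51))))))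
theorem f613341 : Led Lsl_et (LP (LK LD1_c20 LD2_c1 LD3_c30)) = (LP (LK LD1_c11 LD2_c7 LD3_c54)) :=
  Lre_e IH (LK LD1_c20 LD2_c1 LD3_c30) (LK LD1_c11 LD2_c7 LD3_c54) Lrfl Lrfl
def v46502 : LQ := Led Lsl_gf (LP (LK LD1_c11 LD2_c7 LD3_c54))
theorem f953908 : Led Lsl_gf (LP (LK LD1_c11 LD2_c7 LD3_c54)) = v46502 :=
  Lrfl
theorem f961696 : (LP (LK LD1_c20 LD2_c0 LD3_c20)) = v46502 :=
  (Llr Lrot185 (Lpe (f211912 IH) (Lpr_dt (K40.f211897 IH) (Lpr_gf (f589191 IH) (Lpr_df (K51.f552646 IH) (Lpe (K68.f579343 IH) (Lpe (K74.f402605 IH) (Lpr_dt (K74.f589276 IH) (Lpqs (f961694 IH) (Lpe (f955421 IH) (Lpe (f613333 IH) (Lpr_et (f613341 IH) (Lpr_gf (f953908 IH) (Lpn v46502)))))))))))))).symm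
theorem f736059 : Led Lsl_bt (LP (LK LD1_c5 LD2_c38 LD3_c18)) = (LP (LK LD1_c11 LD2_c7 LD3_c54)) :=
  Lre_b IH (LK LD1_c5 LD2_c38 LD3_c18) (LK LD1_c11 LD2_c7 LD3_c54) Lrfl Lrfl
theorem f383551 : Led Lsl_ct (LP (LK LD1_c5 LD2_c44 LD3_c19)) = (LP (LK LD1_c11 LD2_c18 LD3_c44)) :=
  Lre_c IH (LK LD1_c5 LD2_c44 LD3_c19) (LK LD1_c11 LD2_c18 LD3_c44) Lrfl Lrfl
theorem f961698 : v15654 = (LP (LK LD1_c11 LD2_c18 LD3_c44)) :=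
  (Llr Lrot129 (Lpe (f738493 IH) (Lpe (f211922 IH) (Lpe (f211920 IH) (Lpqs (f961696 IH) (Lpe (f953908 IH) (Lpe (f736059 IH) (Lpr_ct (f418724 IH) (Lpr_gt (f953913 IH) (Lpr_cf (f961584 IH) (Lpe (f958118 IH) (Lpr_gt (f383545 IH) (Lpr_ct (f383551 IH) (Lpn (LP (LK LD1_c11 LD2_c18 LD3_c44)))))))))))))))).symm
theorem f961700 : Led Lsl_gt (LP (LK LD1_c11 LD2_c18 LD3_c44)) = (LP (LK LD1_c5 LD2_c44 LD3_c32)) :=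
  Leop (Lpr_gf (f738493 IH) (Lpqs (f961698 IH) (Lpn (LP (LK LD1_c11 LD2_c18 LD3_c44)))))
theorem seed_2865 : LEOK LG_g (LK LD1_c11 LD2_c18 LD3_c44) :=
  Leoe_g (LK LD1_c11 LD2_c18 LD3_c44) (f961700 IH)
theorem f383533 : Led Lsl_ct (LP (LK LD1_c5 LD2_c44 LD3_c18)) = (LP (LK LD1_c11 LD2_c18 LD3_c41)) :=
  Lre_c IH (LK LD1_c5 LD2_c44 LD3_c18) (LK LD1_c11 LD2_c18 LD3_c41) Lrfl Lrfl
theorem f898498 : Led Lsl_gt K69.v15678 = K74.v37988 :=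
  Lgr Lrot5 (Lpe (f897238 IH) (Lpr_at (f897239 IH) (Lpqs (K69.f897801 IH) (Lpr_gf (K74.f898497 IH) (Lpn K74.v37988)))))
theorem f957023 : Led Lsl_cf (LP (LK LD1_c11 LD2_c59 LD3_c27)) = K74.v47134 :=
  Lgr Lrot11 (Lpr_ct (K74.f957021 IH) (Lpn K74.v47134))
theorem f957027 : Led Lsl_ft K74.v37809 = K74.v47134 :=
  Lgr Lrot4 (Lpe (K74.f896618 IH) (Lpr_ff (K70.f823880 IH) (Lpr_cf (f957023 IH) (Lpn K74.v47134))))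
theorem f823918 : Led Lsl_at (LP (LK LD1_c9 LD2_c0 LD3_c20)) = (LP (LK LD1_c11 LD2_c59 LD3_c27)) :=
  Lgr Lrot51 (Lpe (K70.f613560 IH) (Lpq (K70.f823906 IH) (Lpe (K70.f782154 IH) (Lpr_df (K70.f414100 IH) (Lpn (LP (LK LD1_c11 LD2_c59 LD3_c27)))))))
def v37810 : LQ := Led Lsl_ct (LP (LK LD1_c9 LD2_c0 LD3_c20))
theorem f896622 : Led Lsl_ct (LP (LK LD1_c9 LD2_c0 LD3_c20)) = v37810 :=
  Lrfl
theorem f896623 : Led Lsl_cf (LP (LK LD1_c9 LD2_c0 LD3_c20)) = v37810 :=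
  Lgr Lrot11 (Lpr_ct (f896622 IH) (Lpn v37810))
theorem f957022 : Led Lsl_af v37810 = K74.v47134 :=
  Lgr Lrot68 (Lpe (f896623 IH) (Lpr_at (f823918 IH) (Lpr_ct (K74.f957021 IH) (Lpn K74.v47134))))
theorem f957039 : Led Lsl_gf v37810 = K74.v47136 :=
  Lgr Lrot76 (Lpr_af (f957022 IH) (Lpe (f957027 IH) (Lpr_gt (K74.f957038 IH) (Lpn K74.v47136))))
def v47407 : LQ := Led Lsl_gf (LP (LK LD1_c11 LD2_c18 LD3_c41))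
theorem f958564 : Led Lsl_gf (LP (LK LD1_c11 LD2_c18 LD3_c41)) = v47407 :=
  Lrfl
def v47408 : LQ := Led Lsl_at (LP (LK LD1_c11 LD2_c18 LD3_c41))
theorem f958565 : Led Lsl_at (LP (LK LD1_c11 LD2_c18 LD3_c41)) = v47408 :=
  Lrfl
theorem f958567 : Led Lsl_cf v15632 = v47408 :=
  Lgr Lrot1 (Lpe (f738403 IH) (Lpr_ct (f383533 IH) (Lpr_at (f958565 IH) (Lpn v47408))))
theorem f958569 : Led Lsl_ft (LP (LK LD1_c11 LD2_c18 LD3_c44)) = v47408 :=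
  Lgr Lrot4 (Lpe (f383551 IH) (Lpr_ff (f738406 IH) (Lpr_cf (f958567 IH) (Lpn v47408))))
theorem f958566 : Led Lsl_af (LP (LK LD1_c11 LD2_c18 LD3_c41)) = v47408 :=
  Lgr Lrot0 (Lpr_at (f958565 IH) (Lpn v47408))
theorem f958572 : Led Lsl_gt (LP (LK LD1_c11 LD2_c18 LD3_c44)) = v47407 :=
  Lgr Lrot5 (Lpr_ft (f958569 IH) (Lpe (f958566 IH) (Lpr_gf (f958564 IH) (Lpn v47407))))
theorem f961699 : (LP (LK LD1_c5 LD2_c44 LD3_c32)) = v47407 :=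
  Lefun (Lecon (Lfl_gf (f738493 IH)) (f961698 IH)) (f958572 IH)
def v47450 : LQ := Led Lsl_gf (LP (LK LD1_c11 LD2_c19 LD3_c5))
theorem f958749 : Led Lsl_gf (LP (LK LD1_c11 LD2_c19 LD3_c5)) = v47450 :=
  Lrfl
theorem f961707 : (LP (LK LD1_c16 LD2_c49 LD3_c46)) = v47450 :=
  (Llr Lrot130 (Lpe (f613562 IH) (Lpr_ct (f896622 IH) (Lpr_gf (f957039 IH) (Lpe (K74.f957036 IH) (Lpr_bt (K74.f898494 IH) (Lpe (f898498 IH) (Lpq (K69.f897782 IH) (Lpq (f961474 IH) (Lpe (f738408 IH) (Lpr_ct (f383533 IH) (Lpr_gf (f958564 IH) (Lpq (f961699 IH) (Lpe (f211922 IH) (Lpr_gf (f958749 IH) (Lpn v47450)))))))))))))))).symm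
theorem f961708 : Led Lsl_gt (LP (LK LD1_c16 LD2_c49 LD3_c46)) = (LP (LK LD1_c11 LD2_c19 LD3_c5)) :=
  Leop (Lpr_gf (f958749 IH) (Lpq (f961707 IH) (Lpn (LP (LK LD1_c16 LD2_c49 LD3_c46)))))
theorem seed_2866 : LEOK LG_g (LK LD1_c16 LD2_c49 LD3_c46) :=
  Leoe_g (LK LD1_c16 LD2_c49 LD3_c46) (f961708 IH)
def v40119 : LQ := Led Lsl_bt (LP (LK LD1_c9 LD2_c32 LD3_c23))
theorem f913949 : Led Lsl_bt (LP (LK LD1_c9 LD2_c32 LD3_c23)) = v40119 :=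
  Lrfl
theorem f913951 : Led Lsl_df (LP (LK LD1_c16 LD2_c49 LD3_c46)) = v40119 :=
  Lgr Lrot12 (Lpr_bt (f418715 IH) (Lpe (K70.f613563 IH) (Lpr_bt (f913949 IH) (Lpn v40119))))
theorem f172081 : Led Lsl_gt (LP (LK LD1_c2 LD2_c58 LD3_c8)) = (LP (LK LD1_c6 LD2_c4 LD3_c6)) :=
  Lre_g IH (LK LD1_c2 LD2_c58 LD3_c8) (LK LD1_c6 LD2_c4 LD3_c6) Lrfl Lrfl
theorem f613566 : Led Lsl_et (LP (LK LD1_c9 LD2_c32 LD3_c23)) = (LP (LK LD1_c6 LD2_c4 LD3_c6)) :=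
  Lgr Lrot122 (Lpr_dt (K70.f613560 IH) (Lpr_gt (K70.f418714 IH) (Lpe (K56.f613546 IH) (Lpr_et (K60.f186155 IH) (Lpr_gt (K11.f186148 IH) (Lpr_dt (K9.f100595 IH) (Lpe (K9.f172121 IH) (Lpe (K35.f22442 IH) (Lpr_et (K35.f22433 IH) (Lpr_gt (f172081 IH) (Lpn (LP (LK LD1_c6 LD2_c4 LD3_c6)))))))))))))
theorem f613568 : Led Lsl_ef (LP (LK LD1_c9 LD2_c32 LD3_c23)) = (LP (LK LD1_c6 LD2_c4 LD3_c6)) :=
  Lgr Lrot88 (Lpr_et (f613566 IH) (Lpn (LP (LK LD1_c6 LD2_c4 LD3_c6))))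
def v16668 : LQ := Led Lsl_bt (LP (LK LD1_c6 LD2_c4 LD3_c6))
theorem f750908 : Led Lsl_bt (LP (LK LD1_c6 LD2_c4 LD3_c6)) = v16668 :=
  Lrfl
theorem f750909 : Led Lsl_bf (LP (LK LD1_c6 LD2_c4 LD3_c6)) = v16668 :=
  Lgr Lrot24 (Lpr_bt (f750908 IH) (Lpn v16668))
theorem f913952 : Led Lsl_ef v16668 = v40119 :=
  Lgr Lrot29 (Lpe (f750909 IH) (Lpe (f613568 IH) (Lpr_bt (f913949 IH) (Lpn v40119))))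
theorem f72510 : Led Lsl_et (LP (LK LD1_c17 LD2_c56 LD3_c22)) = (LP (LK LD1_c9 LD2_c46 LD3_c23)) :=
  Lre_e IH (LK LD1_c17 LD2_c56 LD3_c22) (LK LD1_c9 LD2_c46 LD3_c23) Lrfl Lrfl
theorem f75511 : Led Lsl_gt (LP (LK LD1_c2 LD2_c26 LD3_c59)) = (LP (LK LD1_c4 LD2_c57 LD3_c44)) :=
  Lre_g IH (LK LD1_c2 LD2_c26 LD3_c59) (LK LD1_c4 LD2_c57 LD3_c44) Lrfl Lrfl
theorem f415229 : Led Lsl_dt (LP (LK LD1_c9 LD2_c46 LD3_c22)) = (LP (LK LD1_c4 LD2_c57 LD3_c44)) :=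
  Lre_d IH (LK LD1_c9 LD2_c46 LD3_c22) (LK LD1_c4 LD2_c57 LD3_c44) Lrfl Lrfl
def v40758 : LQ := Led Lsl_et (LP (LK LD1_c9 LD2_c46 LD3_c22))
theorem f919733 : Led Lsl_et (LP (LK LD1_c9 LD2_c46 LD3_c22)) = v40758 :=
  Lrfl
theorem f961751 : Led Lsl_gf v16668 = v40758 :=
  Lgr Lrot141 (Lpr_ef (f913952 IH) (Lpe (f913951 IH) (Lpqs (f961707 IH) (Lpe (f958749 IH) (Lpe (f552494 IH) (Lpr_et (f72510 IH) (Lpr_gt (K40.f72484 IH) (Lpr_dt (K40.f72498 IH) (Lpr_gt (f75511 IH) (Lpe (f415229 IH) (Lpr_et (f919733 IH) (Lpn v40758))))))))))))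
def v16669 : LQ := Led Lsl_ct (LP (LK LD1_c6 LD2_c4 LD3_c6))
theorem f750910 : Led Lsl_ct (LP (LK LD1_c6 LD2_c4 LD3_c6)) = v16669 :=
  Lrfl
theorem f748417 : Led Lsl_bt (LP (LK LD1_c5 LD2_c57 LD3_c29)) = (LP (LK LD1_c11 LD2_c40 LD3_c6)) :=
  Lre_b IH (LK LD1_c5 LD2_c57 LD3_c29) (LK LD1_c11 LD2_c40 LD3_c6) Lrfl Lrfl
theorem f82208 : Led Lsl_bt (LP (LK LD1_c11 LD2_c40 LD3_c6)) = (LP (LK LD1_c5 LD2_c57 LD3_c29)) :=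
  Lre_b IH (LK LD1_c11 LD2_c40 LD3_c6) (LK LD1_c5 LD2_c57 LD3_c29) Lrfl Lrfl
theorem f897909 : Led Lsl_ff (LP (LK LD1_c11 LD2_c40 LD3_c6)) = (LP (LK LD1_c17 LD2_c2 LD3_c18)) :=
  Lgr Lrot25 (Lpr_bt (f82208 IH) (Lpr_ft (K72.f748415 IH) (Lpqs (K72.f897662 IH) (Lpr_bt (K69.f631674 IH) (Lpn (LP (LK LD1_c17 LD2_c2 LD3_c18)))))))
theorem f897913 : Led Lsl_ft (LP (LK LD1_c11 LD2_c40 LD3_c6)) = (LP (LK LD1_c17 LD2_c2 LD3_c18)) :=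
  Lgr Lrot48 (Lpr_ff (f897909 IH) (Lpn (LP (LK LD1_c17 LD2_c2 LD3_c18))))
theorem f707294 : Led Lsl_ef (LP (LK LD1_c22 LD2_c4 LD3_c30)) = (LP (LK LD1_c26 LD2_c54 LD3_c57)) :=
  Lgr Lrot88 (Lpr_et (f707292 IH) (Lpn (LP (LK LD1_c26 LD2_c54 LD3_c57))))
theorem f897847 : Led Lsl_at (LP (LK LD1_c17 LD2_c2 LD3_c18)) = (LP (LK LD1_c26 LD2_c54 LD3_c57)) :=
  Lgr Lrot80 (Lpr_ef (K69.f897845 IH) (Lpe (K69.f897795 IH) (Lpr_ef (f707294 IH) (Lpn (LP (LK LD1_c26 LD2_c54 LD3_c57))))))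
theorem f897917 : Led Lsl_gt (LP (LK LD1_c11 LD2_c40 LD3_c6)) = (LP (LK LD1_c16 LD2_c59 LD3_c13)) :=
  Lgr Lrot5 (Lpr_ft (f897913 IH) (Lpr_at (f897847 IH) (Lpe (f599577 IH) (Lpn (LP (LK LD1_c16 LD2_c59 LD3_c13))))))
theorem f897919 : Led Lsl_gf (LP (LK LD1_c11 LD2_c40 LD3_c6)) = (LP (LK LD1_c17 LD2_c4 LD3_c5)) :=
  Lgr Lrot47 (Lpr_gt (f897917 IH) (Lpr_af (K42.f570292 IH) (Lpe (K55.f570300 IH) (Lpn (LP (LK LD1_c17 LD2_c4 LD3_c5))))))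
def v38672 : LQ := Led Lsl_ct (LP (LK LD1_c9 LD2_c14 LD3_c9))
theorem f903679 : Led Lsl_ct (LP (LK LD1_c9 LD2_c14 LD3_c9)) = v38672 :=
  Lrfl
theorem f903683 : Led Lsl_ff K72.v13095 = v38672 :=
  Lgr Lrot23 (Lpe (K72.f701083 IH) (Lpr_ft (K49.f176039 IH) (Lpr_ct (f903679 IH) (Lpn v38672))))
theorem f175674 : Led Lsl_et (LP (LK LD1_c6 LD2_c3 LD3_c32)) = (LP (LK LD1_c2 LD2_c57 LD3_c54)) :=
  Lre_e IH (LK LD1_c6 LD2_c3 LD3_c32) (LK LD1_c2 LD2_c57 LD3_c54) Lrfl Lrfl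
theorem f701082 : Led Lsl_af (LP (LK LD1_c6 LD2_c3 LD3_c32)) = K72.v13095 :=
  Lgr Lrot50 (Lpr_et (f175674 IH) (Lpr_at (K36.f268403 IH) (Lpr_et (K72.f701081 IH) (Lpn K72.v13095))))
def v16624 : LQ := Led Lsl_ft (LP (LK LD1_c6 LD2_c3 LD3_c32))
theorem f750770 : Led Lsl_ft (LP (LK LD1_c6 LD2_c3 LD3_c32)) = v16624 :=
  Lrfl
theorem f903684 : Led Lsl_at v16624 = v38672 :=
  Lgr Lrot66 (Lpe (f750770 IH) (Lpr_af (f701082 IH) (Lpr_ff (f903683 IH) (Lpn v38672))))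
def v16621 : LQ := Led Lsl_gt (LP (LK LD1_c6 LD2_c3 LD3_c32))
theorem f750766 : Led Lsl_gt (LP (LK LD1_c6 LD2_c3 LD3_c32)) = v16621 :=
  Lrfl
theorem f903688 : Led Lsl_gt v16621 = v38672 :=
  Lgr Lrot46 (Lpe (f750766 IH) (Lpr_ft (f750770 IH) (Lpr_at (f903684 IH) (Lpn v38672))))
theorem f151863 : Led Lsl_bt (LP (LK LD1_c9 LD2_c6 LD3_c51)) = (LP (LK LD1_c4 LD2_c35 LD3_c10)) :=
  Lre_b IH (LK LD1_c9 LD2_c6 LD3_c51) (LK LD1_c4 LD2_c35 LD3_c10) Lrfl Lrfl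
theorem f548571 : Led Lsl_bt (LP (LK LD1_c2 LD2_c52 LD3_c53)) = (LP (LK LD1_c4 LD2_c39 LD3_c31)) :=
  Lgr Lrot62 (Lpe (K7.f151847 IH) (Lpe (f151863 IH) (Lpr_af (K38.f548565 IH) (Lpe (K38.f172084 IH) (Lpe (K72.f334647 IH) (Lpn (LP (LK LD1_c4 LD2_c39 LD3_c31))))))))
def v13101 : LQ := Led Lsl_gt (LP (LK LD1_c4 LD2_c39 LD3_c31))
theorem f701119 : Led Lsl_gt (LP (LK LD1_c4 LD2_c39 LD3_c31)) = v13101 :=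
  Lrfl
theorem f924787 : Led Lsl_cf v16621 = v13101 :=
  Lgr Lrot125 (Lpr_gt (f903688 IH) (Lpe (f903679 IH) (Lpe (K55.f599497 IH) (Lpe (f897919 IH) (Lpe (f748417 IH) (Lpr_ct (K72.f748430 IH) (Lpqs (K72.f924786 IH) (Lpe (K72.f825353 IH) (Lpe (K72.f640958 IH) (Lpr_bt (f548571 IH) (Lpr_gt (f701119 IH) (Lpn v13101))))))))))))
def v16667 : LQ := Led Lsl_at (LP (LK LD1_c6 LD2_c4 LD3_c6))
theorem f750903 : Led Lsl_at (LP (LK LD1_c6 LD2_c4 LD3_c6)) = v16667 :=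
  Lrfl
theorem f750904 : Led Lsl_af (LP (LK LD1_c6 LD2_c4 LD3_c6)) = v16667 :=
  Lgr Lrot0 (Lpr_at (f750903 IH) (Lpn v16667))
theorem f701121 : Led Lsl_et (LP (LK LD1_c6 LD2_c46 LD3_c41)) = v13101 :=
  Lgr Lrot122 (Lpr_dt (K70.f414097 IH) (Lpr_gt (K56.f176745 IH) (Lpr_df (K70.f176738 IH) (Lpr_et (K36.f101581 IH) (Lpr_gt (K9.f26578 IH) (Lpr_dt (K9.f100600 IH) (Lpe (K10.f176553 IH) (Lpe (K10.f26685 IH) (Lpr_et (K35.f176574 IH) (Lpr_gt (f701119 IH) (Lpn v13101)))))))))))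
theorem f823911 : v16667 = v13101 :=
  (Llr Lrot50 (Lpe (f750904 IH) (Lpe (f613568 IH) (Lpq (K70.f823906 IH) (Lpe (K70.f782155 IH) (Lpr_et (f701121 IH) (Lpn v13101))))))).symm
theorem f750905 : Led Lsl_ft (LP (LK LD1_c6 LD2_c4 LD3_c7)) = v16667 :=
  Lgr Lrot2 (Lpr_gt (K72.f172080 IH) (Lpr_gt (f172081 IH) (Lpr_af (f750904 IH) (Lpn v16667))))
theorem f750921 : Led Lsl_cf (LP (LK LD1_c6 LD2_c4 LD3_c7)) = K72.v16672 :=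
  Lgr Lrot11 (Lpr_ct (K72.f750920 IH) (Lpn K72.v16672))
theorem f924791 : Led Lsl_ft v16621 = K72.v16672 :=
  Lgr Lrot4 (Lpr_cf (f924787 IH) (Lpq (f823911 IH) (Lpe (f750905 IH) (Lpr_cf (f750921 IH) (Lpn K72.v16672)))))
theorem f924801 : Led Lsl_ff v16621 = K72.v16672 :=
  Lgr Lrot3 (Lpr_ft (f924791 IH) (Lpn K72.v16672))
theorem f750911 : Led Lsl_cf (LP (LK LD1_c6 LD2_c4 LD3_c6)) = v16669 :=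
  Lgr Lrot11 (Lpr_ct (f750910 IH) (Lpn v16669))
theorem f924788 : Led Lsl_at v16621 = v16669 :=
  Lgr Lrot107 (Lpr_cf (f924787 IH) (Lpq (f823911 IH) (Lpe (f750903 IH) (Lpr_cf (f750911 IH) (Lpn v16669)))))
theorem f924820 : Led Lsl_gt K72.v13095 = v16669 :=
  Lgr Lrot46 (Lpr_gf (K72.f924818 IH) (Lpe (f924801 IH) (Lpr_at (f924788 IH) (Lpn v16669))))
theorem f903686 : Led Lsl_ft K72.v13095 = v38672 :=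
  Lgr Lrot48 (Lpr_ff (f903683 IH) (Lpn v38672))
theorem f412400 : Led Lsl_at (LP (LK LD1_c6 LD2_c3 LD3_c35)) = (LP (LK LD1_c9 LD2_c14 LD3_c9)) :=
  Lgr Lrot100 (Lpr_af (K49.f412398 IH) (Lpn (LP (LK LD1_c9 LD2_c14 LD3_c9))))
theorem f175346 : Led Lsl_ct (LP (LK LD1_c2 LD2_c57 LD3_c55)) = (LP (LK LD1_c6 LD2_c3 LD3_c32)) :=
  Lre_c IH (LK LD1_c2 LD2_c57 LD3_c55) (LK LD1_c6 LD2_c3 LD3_c32) Lrfl Lrfl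
theorem f750771 : Led Lsl_cf (LP (LK LD1_c6 LD2_c3 LD3_c35)) = v16624 :=
  Lgr Lrot108 (Lpr_ft (K49.f268290 IH) (Lpr_ct (f175346 IH) (Lpr_ft (f750770 IH) (Lpn v16624))))
theorem f903680 : Led Lsl_af v16624 = v38672 :=
  Lgr Lrot68 (Lpe (f750771 IH) (Lpr_at (f412400 IH) (Lpr_ct (f903679 IH) (Lpn v38672))))
theorem f924870 : Led Lsl_gf v16624 = v16669 :=
  Lgr Lrot76 (Lpr_af (f903680 IH) (Lpe (f903686 IH) (Lpr_gt (f924820 IH) (Lpn v16669))))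
theorem f750772 : Led Lsl_ff (LP (LK LD1_c6 LD2_c3 LD3_c32)) = v16624 :=
  Lgr Lrot3 (Lpr_ft (f750770 IH) (Lpn v16624))
theorem f175350 : Led Lsl_ct (LP (LK LD1_c6 LD2_c3 LD3_c32)) = (LP (LK LD1_c2 LD2_c57 LD3_c55)) :=
  Lre_c IH (LK LD1_c6 LD2_c3 LD3_c32) (LK LD1_c2 LD2_c57 LD3_c55) Lrfl Lrfl
theorem f750773 : Led Lsl_ct (LP (LK LD1_c6 LD2_c3 LD3_c35)) = v16624 :=
  Lgr Lrot40 (Lpe (K36.f175347 IH) (Lpe (f175350 IH) (Lpr_ff (f750772 IH) (Lpn v16624))))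
theorem f540040 : Led Lsl_at (LP (LK LD1_c6 LD2_c3 LD3_c28)) = (LP (LK LD1_c11 LD2_c33 LD3_c14)) :=
  Lgr Lrot100 (Lpr_af (K36.f540038 IH) (Lpn (LP (LK LD1_c11 LD2_c33 LD3_c14))))
theorem f175364 : Led Lsl_ft (LP (LK LD1_c11 LD2_c50 LD3_c41)) = (LP (LK LD1_c6 LD2_c3 LD3_c28)) :=
  Lre_f IH (LK LD1_c11 LD2_c50 LD3_c41) (LK LD1_c6 LD2_c3 LD3_c28) Lrfl Lrfl
theorem f540018 : Led Lsl_gt (LP (LK LD1_c20 LD2_c30 LD3_c26)) = (LP (LK LD1_c11 LD2_c33 LD3_c14)) :=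
  Lre_g IH (LK LD1_c20 LD2_c30 LD3_c26) (LK LD1_c11 LD2_c33 LD3_c14) Lrfl Lrfl
theorem f622190 : Led Lsl_gt (LP (LK LD1_c11 LD2_c50 LD3_c41)) = (LP (LK LD1_c20 LD2_c30 LD3_c26)) :=
  Lgr Lrot5 (Lpr_ft (f175364 IH) (Lpr_at (f540040 IH) (Lpe (f540018 IH) (Lpn (LP (LK LD1_c20 LD2_c30 LD3_c26))))))
theorem f919737 : Led Lsl_ef (LP (LK LD1_c9 LD2_c46 LD3_c22)) = v40758 :=
  Lgr Lrot88 (Lpr_et (f919733 IH) (Lpn v40758))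
theorem f565452 : Led Lsl_dt (LP (LK LD1_c5 LD2_c52 LD3_c56)) = (LP (LK LD1_c2 LD2_c52 LD3_c44)) :=
  Lre_d IH (LK LD1_c5 LD2_c52 LD3_c56) (LK LD1_c2 LD2_c52 LD3_c44) Lrfl Lrfl
theorem f565265 : Led Lsl_ct (LP (LK LD1_c4 LD2_c5 LD3_c57)) = (LP (LK LD1_c8 LD2_c12 LD3_c30)) :=
  Lre_c IH (LK LD1_c4 LD2_c5 LD3_c57) (LK LD1_c8 LD2_c12 LD3_c30) Lrfl Lrfl
theorem f565261 : Led Lsl_gt (LP (LK LD1_c4 LD2_c5 LD3_c57)) = (LP (LK LD1_c2 LD2_c45 LD3_c10)) :=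
  Lgr Lrot46 (Lpr_gf (K42.f565259 IH) (Lpr_ft (K39.f450391 IH) (Lpr_at (K55.f418979 IH) (Lpn (LP (LK LD1_c2 LD2_c45 LD3_c10))))))
theorem f596024 : Led Lsl_gf (LP (LK LD1_c5 LD2_c52 LD3_c56)) = (LP (LK LD1_c2 LD2_c52 LD3_c50)) :=
  Lgr Lrot143 (Lpr_dt (f565452 IH) (Lpe (K41.f210714 IH) (Lpe (K42.f564225 IH) (Lpr_gf (K46.f565486 IH) (Lpr_df (K46.f596019 IH) (Lpe (K45.f565266 IH) (Lpe (f565265 IH) (Lpr_gt (f565261 IH) (Lpe (K41.f211751 IH) (Lpn (LP (LK LD1_c2 LD2_c52 LD3_c50))))))))))))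
theorem f210674 : Led Lsl_ct (LP (LK LD1_c5 LD2_c52 LD3_c56)) = (LP (LK LD1_c11 LD2_c32 LD3_c2)) :=
  Lre_c IH (LK LD1_c5 LD2_c52 LD3_c56) (LK LD1_c11 LD2_c32 LD3_c2) Lrfl Lrfl
theorem f503142 : Led Lsl_et (LP (LK LD1_c1 LD2_c28 LD3_c41)) = (LP (LK LD1_c3 LD2_c5 LD3_c22)) :=
  Lre_e IH (LK LD1_c1 LD2_c28 LD3_c41) (LK LD1_c3 LD2_c5 LD3_c22) Lrfl Lrfl
theorem f546809 : Led Lsl_bf (LP (LK LD1_c6 LD2_c16 LD3_c14)) = (LP (LK LD1_c3 LD2_c5 LD3_c22)) :=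
  Lgr Lrot96 (Lpr_et (K37.f202234 IH) (Lpqs (K37.f546804 IH) (Lpe (K37.f503152 IH) (Lpr_et (f503142 IH) (Lpn (LP (LK LD1_c3 LD2_c5 LD3_c22)))))))
theorem f569093 : Led Lsl_gt (LP (LK LD1_c11 LD2_c6 LD3_c45)) = (LP (LK LD1_c6 LD2_c16 LD3_c28)) :=
  Lgr Lrot65 (Lpe (K42.f548972 IH) (Lpe (K50.f558365 IH) (Lpr_gf (K41.f450415 IH) (Lpe (K40.f450316 IH) (Lpr_ct (K43.f564261 IH) (Lpe (K43.f566880 IH) (Lpe (K43.f182423 IH) (Lpr_gf (K42.f569085 IH) (Lpr_bf (f546809 IH) (Lpr_ct (K43.f202631 IH) (Lpn (LP (LK LD1_c6 LD2_c16 LD3_c28)))))))))))))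
theorem f202638 : Led Lsl_ct (LP (LK LD1_c12 LD2_c10 LD3_c8)) = (LP (LK LD1_c6 LD2_c16 LD3_c31)) :=
  Lre_c IH (LK LD1_c12 LD2_c10 LD3_c8) (LK LD1_c6 LD2_c16 LD3_c31) Lrfl Lrfl
theorem f599157 : Led Lsl_gt (LP (LK LD1_c11 LD2_c32 LD3_c2)) = (LP (LK LD1_c12 LD2_c10 LD3_c8)) :=
  Lgr Lrot150 (Lpe (f210674 IH) (Lpr_gf (f596024 IH) (Lpr_df (K41.f211751 IH) (Lpe (K38.f548970 IH) (Lpr_ct (K42.f548972 IH) (Lpr_gt (f569093 IH) (Lpr_ct (K46.f202633 IH) (Lpe (K46.f202630 IH) (Lpe (f202638 IH) (Lpn (LP (LK LD1_c12 LD2_c10 LD3_c8))))))))))))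
theorem f202634 : Led Lsl_ct (LP (LK LD1_c6 LD2_c16 LD3_c31)) = (LP (LK LD1_c12 LD2_c10 LD3_c8)) :=
  Lre_c IH (LK LD1_c6 LD2_c16 LD3_c31) (LK LD1_c12 LD2_c10 LD3_c8) Lrfl Lrfl
theorem f539924 : Led Lsl_ct (LP (LK LD1_c4 LD2_c57 LD3_c44)) = K37.v1612 :=
  Lgr Lrot59 (Lpr_cf (K37.f539903 IH) (Lpn K37.v1612))
theorem f562623 : Led Lsl_gf (LP (LK LD1_c9 LD2_c46 LD3_c22)) = (LP (LK LD1_c11 LD2_c42 LD3_c61)) :=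
  Lgr Lrot154 (Lpr_dt (f415229 IH) (Lpr_ct (f539924 IH) (Lpq (K38.f545736 IH) (Lpe (K38.f387210 IH) (Lpr_gf (K40.f562536 IH) (Lpr_df (K40.f418606 IH) (Lpr_gf (K43.f450439 IH) (Lpr_ct (K40.f562618 IH) (Lpr_gt (K40.f450409 IH) (Lpe (K40.f562542 IH) (Lpn (LP (LK LD1_c11 LD2_c42 LD3_c61)))))))))))))
theorem f599162 : Led Lsl_bt (LP (LK LD1_c5 LD2_c52 LD3_c56)) = (LP (LK LD1_c9 LD2_c46 LD3_c22)) :=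
  Lgr Lrot92 (Lpr_ct (f210674 IH) (Lpr_gt (f599157 IH) (Lpe (f202634 IH) (Lpr_bt (K42.f569104 IH) (Lpr_gt (K43.f198303 IH) (Lpr_ct (K42.f202297 IH) (Lpr_gt (K43.f202298 IH) (Lpe (K43.f562933 IH) (Lpe (K44.f558510 IH) (Lpe (f562623 IH) (Lpn (LP (LK LD1_c9 LD2_c46 LD3_c22)))))))))))))
theorem f599165 : Led Lsl_bf (LP (LK LD1_c5 LD2_c52 LD3_c56)) = (LP (LK LD1_c9 LD2_c46 LD3_c22)) :=
  Lgr Lrot24 (Lpr_bt (f599162 IH) (Lpn (LP (LK LD1_c9 LD2_c46 LD3_c22))))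
theorem f565521 : Led Lsl_et (LP (LK LD1_c5 LD2_c52 LD3_c56)) = (LP (LK LD1_c11 LD2_c32 LD3_c3)) :=
  Lre_e IH (LK LD1_c5 LD2_c52 LD3_c56) (LK LD1_c11 LD2_c32 LD3_c3) Lrfl Lrfl
theorem f919739 : Led Lsl_bt (LP (LK LD1_c11 LD2_c32 LD3_c3)) = v40758 :=
  Lgr Lrot119 (Lpe (f565521 IH) (Lpr_bf (f599165 IH) (Lpr_ef (f919737 IH) (Lpn v40758))))
theorem f565527 : Led Lsl_ct (LP (LK LD1_c11 LD2_c32 LD3_c3)) = (LP (LK LD1_c20 LD2_c28 LD3_c44)) :=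
  Lre_c IH (LK LD1_c11 LD2_c32 LD3_c3) (LK LD1_c20 LD2_c28 LD3_c44) Lrfl Lrfl
theorem f565526 : Led Lsl_gt (LP (LK LD1_c29 LD2_c28 LD3_c2)) = (LP (LK LD1_c20 LD2_c28 LD3_c44)) :=
  Lre_g IH (LK LD1_c29 LD2_c28 LD3_c2) (LK LD1_c20 LD2_c28 LD3_c44) Lrfl Lrfl
theorem f961752 : Led Lsl_ct (LP (LK LD1_c20 LD2_c30 LD3_c26)) = (LP (LK LD1_c29 LD2_c28 LD3_c2)) :=
  Lgr Lrot91 (Lpe (f622190 IH) (Lpe (K36.f268286 IH) (Lpr_ct (f750773 IH) (Lpr_gf (f924870 IH) (Lpe (f750910 IH) (Lpr_bt (f750908 IH) (Lpr_gf (f961751 IH) (Lpe (f919739 IH) (Lpr_ct (f565527 IH) (Lpe (f565526 IH) (Lpn (LP (LK LD1_c29 LD2_c28 LD3_c2)))))))))))))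
theorem f961753 : Led Lsl_ct (LP (LK LD1_c20 LD2_c30 LD3_c26)) = (LP (LK LD1_c29 LD2_c28 LD3_c2)) :=
  Leop (Lpe (f961752 IH) (Lpn (LP (LK LD1_c20 LD2_c30 LD3_c26))))
theorem seed_2867 : LEOK LG_c (LK LD1_c20 LD2_c30 LD3_c26) :=
  Leoe_c (LK LD1_c20 LD2_c30 LD3_c26) (f961753 IH)
theorem f871499 : Led Lsl_ct (LP (LK LD1_c10 LD2_c18 LD3_c19)) = K66.v34532 :=
  Lgr Lrot111 (Lpr_af (K50.f597886 IH) (Lpr_cf (K73.f752153 IH) (Lpr_af (K66.f871498 IH) (Lpn K66.v34532))))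
def v12335 : LQ := Led Lsl_et (LP (LK LD1_c4 LD2_c5 LD3_c51))
theorem f691580 : Led Lsl_et (LP (LK LD1_c4 LD2_c5 LD3_c51)) = v12335 :=
  Lrfl
theorem f691582 : Led Lsl_ef (LP (LK LD1_c4 LD2_c5 LD3_c51)) = v12335 :=
  Lgr Lrot88 (Lpr_et (f691580 IH) (Lpn v12335))
theorem f691583 : Led Lsl_bt (LP (LK LD1_c10 LD2_c18 LD3_c19)) = v12335 :=
  Lgr Lrot119 (Lpe (K50.f597883 IH) (Lpr_bf (K73.f595193 IH) (Lpr_ef (f691582 IH) (Lpn v12335))))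
def v5131 : LQ := Led Lsl_et (LP (LK LD1_c2 LD2_c59 LD3_c18))
def v24968 : LQ := Led Lsl_ft v5131
theorem f826403 : Led Lsl_ft v5131 = v24968 :=
  Lrfl
theorem f826407 : Led Lsl_ff v5131 = v24968 :=
  Lgr Lrot3 (Lpr_ft (f826403 IH) (Lpn v24968))
theorem f646125 : Led Lsl_et (LP (LK LD1_c2 LD2_c59 LD3_c18)) = v5131 :=
  Lrfl
theorem f646127 : Led Lsl_cf (LP (LK LD1_c2 LD2_c59 LD3_c61)) = v5131 :=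
  Lgr Lrot39 (Lpr_et (K18.f175957 IH) (Lpe (K13.f183421 IH) (Lpr_et (f646125 IH) (Lpn v5131))))
theorem f826410 : Led Lsl_ct K55.v5161 = v24968 :=
  Lgr Lrot40 (Lpe (K55.f646281 IH) (Lpr_cf (f646127 IH) (Lpr_ff (f826407 IH) (Lpn v24968))))
theorem f646126 : Led Lsl_af K72.v4632 = v5131 :=
  Lgr Lrot50 (Lpe (K72.f638252 IH) (Lpr_at (K17.f285942 IH) (Lpr_et (f646125 IH) (Lpn v5131))))
def v24228 : LQ := Led Lsl_gf K72.v4632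
theorem f823032 : Led Lsl_gf K72.v4632 = v24228 :=
  Lrfl
theorem f826412 : Led Lsl_gf v24228 = v24968 :=
  Lgr Lrot47 (Lpe (f823032 IH) (Lpr_af (f646126 IH) (Lpr_ff (f826407 IH) (Lpn v24968))))
theorem f698359 : Led Lsl_ef (LP (LK LD1_c4 LD2_c31 LD3_c51)) = K71.v12815 :=
  Lgr Lrot88 (Lpr_et (K71.f698358 IH) (Lpn K71.v12815))
def v24321 : LQ := Led Lsl_et K69.v4678
theorem f823332 : Led Lsl_et K69.v4678 = v24321 :=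
  Lrfl
theorem f897286 : Led Lsl_cf K71.v12815 = v24321 :=
  Lgr Lrot39 (Lpe (f698359 IH) (Lpr_ct (K69.f698356 IH) (Lpq (K69.f823831 IH) (Lpq (K69.f897284 IH) (Lpr_et (f823332 IH) (Lpn v24321))))))
def v28324 : LQ := Led Lsl_ct K71.v8073
theorem f843896 : Led Lsl_ct K71.v8073 = v28324 :=
  Lrfl
theorem f843898 : Led Lsl_cf K71.v8073 = v28324 :=
  Lgr Lrot11 (Lpr_ct (f843896 IH) (Lpn v28324))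
def v24572 : LQ := Led Lsl_dt K69.v4823
theorem f824655 : Led Lsl_dt K69.v4823 = v24572 :=
  Lrfl
def v24320 : LQ := Led Lsl_dt K69.v4678
theorem f823330 : Led Lsl_dt K69.v4678 = v24320 :=
  Lrfl
theorem f824657 : Led Lsl_gt v24320 = v24572 :=
  Lgr Lrot139 (Lpe (f823330 IH) (Lpe (K69.f638457 IH) (Lpe (K20.f168118 IH) (Lpr_dt (K9.f168094 IH) (Lpr_gf (K9.f174106 IH) (Lpe (K9.f173647 IH) (Lpr_et (K41.f40990 IH) (Lpe (K51.f415846 IH) (Lpr_ef (K69.f640474 IH) (Lpr_dt (f824655 IH) (Lpn v24572)))))))))))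
def v5097 : LQ := Led Lsl_dt (LP (LK LD1_c2 LD2_c57 LD3_c37))
theorem f645922 : Led Lsl_dt (LP (LK LD1_c2 LD2_c57 LD3_c37)) = v5097 :=
  Lrfl
theorem f645923 : Led Lsl_df (LP (LK LD1_c2 LD2_c57 LD3_c37)) = v5097 :=
  Lgr Lrot38 (Lpr_dt (f645922 IH) (Lpn v5097))
theorem f645924 : Led Lsl_gt (LP (LK LD1_c4 LD2_c57 LD3_c50)) = v5097 :=
  Lgr Lrot49 (Lpe (K2.f40970 IH) (Lpe (K51.f415846 IH) (Lpe (K51.f140609 IH) (Lpr_gt (K1.f59814 IH) (Lpr_dt (K17.f140250 IH) (Lpr_gt (K9.f23899 IH) (Lpr_dt (K0.f23859 IH) (Lpe (K50.f140709 IH) (Lpr_df (f645923 IH) (Lpn v5097))))))))))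
def v5098 : LQ := Led Lsl_et (LP (LK LD1_c2 LD2_c57 LD3_c37))
theorem f645925 : Led Lsl_et (LP (LK LD1_c2 LD2_c57 LD3_c37)) = v5098 :=
  Lrfl
theorem f824658 : Led Lsl_gf v24321 = v5098 :=
  Lgr Lrot141 (Lpe (f823332 IH) (Lpr_dt (f823330 IH) (Lpr_gt (f824657 IH) (Lpe (f824655 IH) (Lpe (K69.f640474 IH) (Lpr_gt (K51.f415846 IH) (Lpr_dt (K2.f40970 IH) (Lpr_gt (f645924 IH) (Lpe (f645922 IH) (Lpr_et (f645925 IH) (Lpn v5098)))))))))))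
theorem f645927 : Led Lsl_ef (LP (LK LD1_c2 LD2_c57 LD3_c37)) = v5098 :=
  Lgr Lrot88 (Lpr_et (f645925 IH) (Lpn v5098))
theorem f645928 : Led Lsl_ct (LP (LK LD1_c2 LD2_c57 LD3_c38)) = v5098 :=
  Lgr Lrot15 (Lpe (K55.f501119 IH) (Lpe (K50.f140709 IH) (Lpr_ef (f645927 IH) (Lpn v5098))))
theorem f897289 : v28324 = v24228 :=
  (Llr Lrot99 (Lpe (f843898 IH) (Lpr_df (K71.f698361 IH) (Lpr_cf (f897286 IH) (Lpr_gf (f824658 IH) (Lpe (f645928 IH) (Lpr_gf (K64.f645929 IH) (Lpe (K64.f645934 IH) (Lpr_gt (K69.f646289 IH) (Lpr_ct (f826410 IH) (Lpe (f826412 IH) (Lpn v24228)))))))))))).symm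
def v28323 : LQ := Led Lsl_bt K71.v8073
theorem f843892 : Led Lsl_bt K71.v8073 = v28323 :=
  Lrfl
theorem f961778 : Led Lsl_gf v12335 = v28323 :=
  Lgr Lrot124 (Lpe (f691583 IH) (Lpr_ct (f871499 IH) (Lpe (K66.f871495 IH) (Lpe (K66.f749617 IH) (Lpqs (f961078 IH) (Lpe (f824575 IH) (Lpr_gt (K69.f646289 IH) (Lpr_ct (f826410 IH) (Lpe (f826412 IH) (Lpq (f897289 IH) (Lpe (f843896 IH) (Lpr_bt (f843892 IH) (Lpn v28323)))))))))))))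
def v35604 : LQ := Led Lsl_et (LP (LK LD1_c7 LD2_c59 LD3_c30))
theorem f876041 : Led Lsl_et (LP (LK LD1_c7 LD2_c59 LD3_c30)) = v35604 :=
  Lrfl
theorem f876044 : Led Lsl_df v12335 = v35604 :=
  Lgr Lrot70 (Lpe (f691582 IH) (Lpr_dt (K36.f137992 IH) (Lpr_et (K36.f137991 IH) (Lpe (K36.f137984 IH) (Lpr_et (f876041 IH) (Lpn v35604))))))
theorem f876045 : Led Lsl_ef (LP (LK LD1_c7 LD2_c59 LD3_c30)) = v35604 :=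
  Lgr Lrot88 (Lpr_et (f876041 IH) (Lpn v35604))
theorem f571862 : Led Lsl_ft (LP (LK LD1_c3 LD2_c59 LD3_c0)) = (LP (LK LD1_c1 LD2_c56 LD3_c14)) :=
  Lre_f IH (LK LD1_c3 LD2_c59 LD3_c0) (LK LD1_c1 LD2_c56 LD3_c14) Lrfl Lrfl
theorem f571868 : Led Lsl_gf (LP (LK LD1_c3 LD2_c58 LD3_c57)) = (LP (LK LD1_c1 LD2_c56 LD3_c16)) :=
  Lgr Lrot76 (Lpe (K44.f571867 IH) (Lpe (f571862 IH) (Lpr_gt (K42.f571863 IH) (Lpn (LP (LK LD1_c1 LD2_c56 LD3_c16))))))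
theorem f579093 : Led Lsl_df (LP (LK LD1_c3 LD2_c58 LD3_c57)) = (LP (LK LD1_c5 LD2_c37 LD3_c45)) :=
  Lgr Lrot38 (Lpr_dt (K43.f579087 IH) (Lpn (LP (LK LD1_c5 LD2_c37 LD3_c45))))
def v46439 : LQ := Led Lsl_gt (LP (LK LD1_c11 LD2_c6 LD3_c57))
theorem f953630 : Led Lsl_gt (LP (LK LD1_c11 LD2_c6 LD3_c57)) = v46439 :=
  Lrfl
def v37877 : LQ := Led Lsl_et (LP (LK LD1_c9 LD2_c1 LD3_c33))
theorem f897213 : Led Lsl_et (LP (LK LD1_c9 LD2_c1 LD3_c33)) = v37877 :=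
  Lrfl
theorem f897215 : Led Lsl_ef (LP (LK LD1_c9 LD2_c1 LD3_c33)) = v37877 :=
  Lgr Lrot88 (Lpr_et (f897213 IH) (Lpn v37877))
theorem f897216 : Led Lsl_bt K71.v12815 = v37877 :=
  Lgr Lrot119 (Lpe (K71.f698358 IH) (Lpe (K69.f380641 IH) (Lpr_ef (f897215 IH) (Lpn v37877))))
theorem f843893 : Led Lsl_bf K71.v8073 = v28323 :=
  Lgr Lrot24 (Lpr_bt (f843892 IH) (Lpn v28323))
theorem f897217 : Led Lsl_df v28323 = v37877 :=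
  Lgr Lrot12 (Lpe (f843893 IH) (Lpr_dt (K73.f698362 IH) (Lpr_bt (f897216 IH) (Lpn v37877))))
theorem f961779 : v46439 = (LP (LK LD1_c9 LD2_c1 LD3_c33)) :=
  (Llr Lrot131 (Lpe (f953630 IH) (Lpe (K44.f579095 IH) (Lpe (f579093 IH) (Lpr_gf (f571868 IH) (Lpe (K45.f40123 IH) (Lpe (K36.f40124 IH) (Lpr_ef (f876045 IH) (Lpe (f876044 IH) (Lpr_gf (f961778 IH) (Lpr_df (f897217 IH) (Lpe (f897215 IH) (Lpn (LP (LK LD1_c9 LD2_c1 LD3_c33))))))))))))))).symm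
theorem f580250 : Led Lsl_ft (LP (LK LD1_c15 LD2_c3 LD3_c59)) = (LP (LK LD1_c7 LD2_c59 LD3_c18)) :=
  Lre_f IH (LK LD1_c15 LD2_c3 LD3_c59) (LK LD1_c7 LD2_c59 LD3_c18) Lrfl Lrfl
theorem f953634 : Led Lsl_af (LP (LK LD1_c15 LD2_c3 LD3_c59)) = K74.v46441 :=
  Lgr Lrot45 (Lpr_ft (f580250 IH) (Lpr_at (K44.f580244 IH) (Lpr_ft (K74.f953633 IH) (Lpn K74.v46441))))
theorem f953637 : Led Lsl_gt v46439 = (LP (LK LD1_c15 LD2_c3 LD3_c59)) :=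
  Lgr Lrot46 (Lpe (f953630 IH) (Lpr_ft (K74.f953633 IH) (Lpe (f953634 IH) (Lpn (LP (LK LD1_c15 LD2_c3 LD3_c59))))))
theorem f961781 : Led Lsl_gt (LP (LK LD1_c9 LD2_c1 LD3_c33)) = (LP (LK LD1_c15 LD2_c3 LD3_c59)) :=
  Leop (Lpe (f953637 IH) (Lpqs (f961779 IH) (Lpn (LP (LK LD1_c9 LD2_c1 LD3_c33)))))
theorem seed_2868 : LEOK LG_g (LK LD1_c9 LD2_c1 LD3_c33) :=
  Leoe_g (LK LD1_c9 LD2_c1 LD3_c33) (f961781 IH)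
theorem f589278 : Led Lsl_df (LP (LK LD1_c11 LD2_c6 LD3_c57)) = (LP (LK LD1_c12 LD2_c8 LD3_c58)) :=
  Lgr Lrot12 (Lpr_bt (K74.f402615 IH) (Lpr_dt (K74.f589276 IH) (Lpe (K74.f589268 IH) (Lpn (LP (LK LD1_c12 LD2_c8 LD3_c58))))))
def v47068 : LQ := Led Lsl_ft (LP (LK LD1_c11 LD2_c14 LD3_c15))
theorem f956727 : Led Lsl_ft (LP (LK LD1_c11 LD2_c14 LD3_c15)) = v47068 :=
  Lrfl
theorem f956730 : Led Lsl_ff (LP (LK LD1_c11 LD2_c14 LD3_c15)) = v47068 :=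
  Lgr Lrot3 (Lpr_ft (f956727 IH) (Lpn v47068))
theorem f566454 : Led Lsl_at (LP (LK LD1_c11 LD2_c14 LD3_c15)) = (LP (LK LD1_c16 LD2_c53 LD3_c46)) :=
  Lgr Lrot100 (Lpr_af (K41.f566452 IH) (Lpn (LP (LK LD1_c16 LD2_c53 LD3_c46))))
theorem f956706 : Led Lsl_ft K74.v46854 = K74.v47067 :=
  Lgr Lrot48 (Lpr_ff (K74.f956704 IH) (Lpn K74.v47067))
theorem f956702 : Led Lsl_af K69.v37876 = K74.v47067 :=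
  Lgr Lrot0 (Lpr_at (K74.f956701 IH) (Lpn K74.v47067))
theorem f956726 : Led Lsl_gt K74.v46854 = (LP (LK LD1_c16 LD2_c53 LD3_c46)) :=
  Lgr Lrot5 (Lpr_ft (f956706 IH) (Lpe (f956702 IH) (Lpe (K69.f898111 IH) (Lpn (LP (LK LD1_c16 LD2_c53 LD3_c46))))))
theorem f956733 : Led Lsl_gf K74.v46854 = v47068 :=
  Lgr Lrot47 (Lpr_gt (f956726 IH) (Lpe (f566454 IH) (Lpr_ff (f956730 IH) (Lpn v47068))))
theorem f955574 : Led Lsl_at (LP (LK LD1_c11 LD2_c12 LD3_c8)) = K74.v46854 :=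
  Lgr Lrot107 (Lpe (K69.f380525 IH) (Lpe (K74.f638877 IH) (Lpr_cf (K74.f955573 IH) (Lpn K74.v46854))))
theorem f956734 : Led Lsl_gt K69.v37876 = v47068 :=
  Lgr Lrot5 (Lpe (K74.f897211 IH) (Lpr_at (f955574 IH) (Lpr_gf (f956733 IH) (Lpn v47068))))
theorem f956729 : Led Lsl_cf (LP (LK LD1_c11 LD2_c14 LD3_c16)) = v47068 :=
  Lgr Lrot108 (Lpr_ft (K41.f566470 IH) (Lpr_ct (K69.f566462 IH) (Lpr_ft (f956727 IH) (Lpn v47068))))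
theorem f961829 : Led Lsl_gt (LP (LK LD1_c12 LD2_c8 LD3_c58)) = (LP (LK LD1_c16 LD2_c51 LD3_c27)) :=
  Lgr Lrot146 (Lpe (f589278 IH) (Lpr_gt (f953630 IH) (Lpqs (f961779 IH) (Lpr_ct (K69.f897209 IH) (Lpr_gt (f956734 IH) (Lpe (f956729 IH) (Lpr_dt (K41.f268964 IH) (Lpe (K16.f268960 IH) (Lpr_gf (K74.f956035 IH) (Lpe (K74.f956036 IH) (Lpn (LP (LK LD1_c16 LD2_c51 LD3_c27)))))))))))))
theorem f961830 : Led Lsl_gt (LP (LK LD1_c12 LD2_c8 LD3_c58)) = (LP (LK LD1_c16 LD2_c51 LD3_c27)) :=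
  Leop (Lpe (f961829 IH) (Lpn (LP (LK LD1_c12 LD2_c8 LD3_c58))))
theorem seed_2869 : LEOK LG_g (LK LD1_c12 LD2_c8 LD3_c58) :=
  Leoe_g (LK LD1_c12 LD2_c8 LD3_c58) (f961830 IH)
theorem f961847 : Led Lsl_gf (LP (LK LD1_c20 LD2_c11 LD3_c21)) = (LP (LK LD1_c26 LD2_c49 LD3_c10)) :=
  Lgr Lrot129 (Lpe (K74.f402612 IH) (Lpr_bt (K74.f402609 IH) (Lpr_gt (f953630 IH) (Lpqs (f961779 IH) (Lpe (K74.f698352 IH) (Lpr_ct (K69.f698356 IH) (Lpq (K69.f823831 IH) (Lpq (K69.f897284 IH) (Lpr_gt (K69.f698442 IH) (Lpe (K69.f698433 IH) (Lpr_bt (K16.f280318 IH) (Lpr_gt (K69.f280346 IH) (Lpr_ct (f566528 IH) (Lpn (LP (LK LD1_c26 LD2_c49 LD3_c10))))))))))))))))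
theorem f961848 : Led Lsl_gt (LP (LK LD1_c26 LD2_c49 LD3_c10)) = (LP (LK LD1_c20 LD2_c11 LD3_c21)) :=
  Leop (Lpr_gf (f961847 IH) (Lpn (LP (LK LD1_c26 LD2_c49 LD3_c10))))
theorem seed_2870 : LEOK LG_g (LK LD1_c26 LD2_c49 LD3_c10) :=
  Leoe_g (LK LD1_c26 LD2_c49 LD3_c10) (f961848 IH)
def v48001 : LQ := Led Lsl_et (LP (LK LD1_c11 LD2_c24 LD3_c51))
theorem f961976 : Led Lsl_et (LP (LK LD1_c11 LD2_c24 LD3_c51)) = v48001 :=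
  Lrfl
theorem f961979 : Led Lsl_ef (LP (LK LD1_c11 LD2_c24 LD3_c51)) = v48001 :=
  Lgr Lrot88 (Lpr_et (f961976 IH) (Lpn v48001))
theorem f575414 : Led Lsl_df (LP (LK LD1_c13 LD2_c48 LD3_c29)) = (LP (LK LD1_c11 LD2_c24 LD3_c51)) :=
  Lgr Lrot38 (Lpr_dt (f575410 IH) (Lpn (LP (LK LD1_c11 LD2_c24 LD3_c51))))
def v23140 : LQ := Led Lsl_ct (LP (LK LD1_c7 LD2_c48 LD3_c24))
theorem f815126 : Led Lsl_ct (LP (LK LD1_c7 LD2_c48 LD3_c24)) = v23140 :=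
  Lrfl
theorem f567916 : Led Lsl_ff (LP (LK LD1_c7 LD2_c57 LD3_c15)) = (LP (LK LD1_c12 LD2_c7 LD3_c51)) :=
  Lgr Lrot30 (Lpr_at (K42.f567912 IH) (Lpr_ft (K42.f94563 IH) (Lpr_at (K48.f543490 IH) (Lpn (LP (LK LD1_c12 LD2_c7 LD3_c51))))))
theorem f121889 : Led Lsl_ft (LP (LK LD1_c7 LD2_c18 LD3_c57)) = (LP (LK LD1_c13 LD2_c50 LD3_c25)) :=
  Lre_f IH (LK LD1_c7 LD2_c18 LD3_c57) (LK LD1_c13 LD2_c50 LD3_c25) Lrfl Lrfl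
theorem f567918 : Led Lsl_dt (LP (LK LD1_c7 LD2_c57 LD3_c15)) = (LP (LK LD1_c7 LD2_c18 LD3_c57)) :=
  Lgr Lrot60 (Lpr_ff (f567916 IH) (Lpe (K48.f543502 IH) (Lpe (f121889 IH) (Lpn (LP (LK LD1_c7 LD2_c18 LD3_c57))))))
theorem f470999 : Led Lsl_et (LP (LK LD1_c13 LD2_c30 LD3_c29)) = (LP (LK LD1_c7 LD2_c7 LD3_c53)) :=
  Lre_e IH (LK LD1_c13 LD2_c30 LD3_c29) (LK LD1_c7 LD2_c7 LD3_c53) Lrfl Lrfl
theorem f553273 : Led Lsl_bt (LP (LK LD1_c12 LD2_c6 LD3_c23)) = (LP (LK LD1_c13 LD2_c30 LD3_c29)) :=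
  Lgr Lrot119 (Lpr_ef (K46.f553271 IH) (Lpr_bf (K41.f470992 IH) (Lpe (f470999 IH) (Lpn (LP (LK LD1_c13 LD2_c30 LD3_c29))))))
theorem f420661 : Led Lsl_bt (LP (LK LD1_c12 LD2_c6 LD3_c22)) = (LP (LK LD1_c6 LD2_c13 LD3_c53)) :=
  Lre_b IH (LK LD1_c12 LD2_c6 LD3_c22) (LK LD1_c6 LD2_c13 LD3_c53) Lrfl Lrfl
theorem f553276 : Led Lsl_df (LP (LK LD1_c12 LD2_c6 LD3_c22)) = (LP (LK LD1_c13 LD2_c30 LD3_c29)) :=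
  Lgr Lrot12 (Lpr_bt (f420661 IH) (Lpr_dt (K46.f75732 IH) (Lpr_bt (f553273 IH) (Lpn (LP (LK LD1_c13 LD2_c30 LD3_c29))))))
theorem f610548 : Led Lsl_gt (LP (LK LD1_c13 LD2_c50 LD3_c31)) = (LP (LK LD1_c12 LD2_c6 LD3_c22)) :=
  Lgr Lrot112 (Lpe (K48.f121845 IH) (Lpr_et (K4.f121833 IH) (Lpe (K43.f543766 IH) (Lpe (K62.f543779 IH) (Lpr_dt (K62.f610536 IH) (Lpe (K62.f610546 IH) (Lpr_df (K41.f566243 IH) (Lpe (K41.f425507 IH) (Lpe (f470999 IH) (Lpe (f553276 IH) (Lpn (LP (LK LD1_c12 LD2_c6 LD3_c22)))))))))))))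
theorem f488691 : Led Lsl_ft (LP (LK LD1_c13 LD2_c50 LD3_c31)) = (LP (LK LD1_c7 LD2_c18 LD3_c60)) :=
  Lre_f IH (LK LD1_c13 LD2_c50 LD3_c31) (LK LD1_c7 LD2_c18 LD3_c60) Lrfl Lrfl
theorem f207815 : Led Lsl_ff (LP (LK LD1_c4 LD2_c26 LD3_c35)) = (LP (LK LD1_c3 LD2_c57 LD3_c58)) :=
  Lgr Lrot23 (Lpe (K8.f156903 IH) (Lpr_ft (K28.f207809 IH) (Lpe (K7.f156728 IH) (Lpn (LP (LK LD1_c3 LD2_c57 LD3_c58))))))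
theorem f207739 : Led Lsl_af (LP (LK LD1_c3 LD2_c57 LD3_c59)) = (LP (LK LD1_c4 LD2_c26 LD3_c35)) :=
  Lgr Lrot0 (Lpr_at (K24.f207737 IH) (Lpn (LP (LK LD1_c4 LD2_c26 LD3_c35))))
theorem f207880 : Led Lsl_at (LP (LK LD1_c4 LD2_c26 LD3_c36)) = (LP (LK LD1_c3 LD2_c57 LD3_c58)) :=
  Lgr Lrot66 (Lpe (K42.f207728 IH) (Lpr_af (f207739 IH) (Lpr_ff (f207815 IH) (Lpn (LP (LK LD1_c3 LD2_c57 LD3_c58))))))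
theorem f207882 : Led Lsl_af (LP (LK LD1_c4 LD2_c26 LD3_c36)) = (LP (LK LD1_c3 LD2_c57 LD3_c58)) :=
  Lgr Lrot0 (Lpr_at (f207880 IH) (Lpn (LP (LK LD1_c3 LD2_c57 LD3_c58))))
theorem f100444 : Led Lsl_et (LP (LK LD1_c7 LD2_c57 LD3_c15)) = (LP (LK LD1_c3 LD2_c57 LD3_c58)) :=
  Lre_e IH (LK LD1_c7 LD2_c57 LD3_c15) (LK LD1_c3 LD2_c57 LD3_c58) Lrfl Lrfl
theorem f567898 : Led Lsl_af (LP (LK LD1_c7 LD2_c57 LD3_c15)) = (LP (LK LD1_c7 LD2_c18 LD3_c60)) :=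
  Lgr Lrot50 (Lpr_et (f100444 IH) (Lpe (f207882 IH) (Lpr_et (K42.f567896 IH) (Lpn (LP (LK LD1_c7 LD2_c18 LD3_c60))))))
theorem f610550 : Led Lsl_gf (LP (LK LD1_c7 LD2_c57 LD3_c15)) = (LP (LK LD1_c12 LD2_c6 LD3_c22)) :=
  Lgr Lrot76 (Lpr_af (f567898 IH) (Lpe (f488691 IH) (Lpr_gt (f610548 IH) (Lpn (LP (LK LD1_c12 LD2_c6 LD3_c22))))))
theorem f815131 : Led Lsl_gf (LP (LK LD1_c13 LD2_c30 LD3_c29)) = v23140 :=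
  Lgr Lrot148 (Lpe (f553276 IH) (Lpe (f610550 IH) (Lpr_dt (f567918 IH) (Lpr_ct (K28.f121871 IH) (Lpe (K34.f121873 IH) (Lpr_gf (K34.f472082 IH) (Lpe (K34.f129863 IH) (Lpe (K48.f129872 IH) (Lpr_ct (f815126 IH) (Lpn v23140))))))))))
theorem f121882 : Led Lsl_et (LP (LK LD1_c3 LD2_c39 LD3_c22)) = (LP (LK LD1_c7 LD2_c18 LD3_c57)) :=
  Lre_e IH (LK LD1_c3 LD2_c39 LD3_c22) (LK LD1_c7 LD2_c18 LD3_c57) Lrfl Lrfl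
theorem f559137 : Led Lsl_dt (LP (LK LD1_c7 LD2_c18 LD3_c57)) = (LP (LK LD1_c7 LD2_c57 LD3_c15)) :=
  Lgr Lrot77 (Lpe (f121882 IH) (Lpr_df (K40.f559104 IH) (Lpr_ef (K40.f559133 IH) (Lpe (K35.f156749 IH) (Lpe (f100444 IH) (Lpn (LP (LK LD1_c7 LD2_c57 LD3_c15))))))))
theorem f815133 : Led Lsl_et (LP (LK LD1_c13 LD2_c14 LD3_c47)) = v23140 :=
  Lgr Lrot121 (Lpe (K73.f482792 IH) (Lpr_gf (K43.f575401 IH) (Lpe (K43.f575450 IH) (Lpr_et (K43.f121894 IH) (Lpe (K32.f121892 IH) (Lpe (K28.f121853 IH) (Lpr_dt (f559137 IH) (Lpr_gf (f610550 IH) (Lpr_df (f553276 IH) (Lpr_gf (f815131 IH) (Lpn v23140)))))))))))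
theorem f961981 : Led Lsl_dt v23140 = v48001 :=
  Lgr Lrot77 (Lpe (f815133 IH) (Lpe (K43.f482785 IH) (Lpe (f486515 IH) (Lpr_df (f575414 IH) (Lpr_ef (f961979 IH) (Lpn v48001))))))
theorem f787210 : Led Lsl_cf (LP (LK LD1_c13 LD2_c14 LD3_c47)) = K61.v20471 :=
  Lgr Lrot97 (Lpr_bt (K43.f482784 IH) (Lpe (K29.f482798 IH) (Lpe (K32.f482919 IH) (Lpr_ct (K32.f491726 IH) (Lpr_bt (K61.f787208 IH) (Lpn K61.v20471))))))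
theorem f787213 : Led Lsl_ct (LP (LK LD1_c13 LD2_c14 LD3_c47)) = K61.v20471 :=
  Lgr Lrot59 (Lpr_cf (f787210 IH) (Lpn K61.v20471))
theorem f815129 : Led Lsl_ef (LP (LK LD1_c13 LD2_c14 LD3_c47)) = v23140 :=
  Lgr Lrot28 (Lpr_ct (f787213 IH) (Lpe (K61.f787211 IH) (Lpr_ct (f815126 IH) (Lpn v23140))))
theorem f160367 : Led Lsl_at (LP (LK LD1_c7 LD2_c14 LD3_c11)) = (LP (LK LD1_c13 LD2_c41 LD3_c30)) :=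
  Lre_a IH (LK LD1_c7 LD2_c14 LD3_c11) (LK LD1_c13 LD2_c41 LD3_c30) Lrfl Lrfl
theorem f489471 : Led Lsl_bt (LP (LK LD1_c6 LD2_c58 LD3_c15)) = (LP (LK LD1_c13 LD2_c14 LD3_c5)) :=
  Lre_b IH (LK LD1_c6 LD2_c58 LD3_c15) (LK LD1_c13 LD2_c14 LD3_c5) Lrfl Lrfl
theorem f160345 : Led Lsl_bt (LP (LK LD1_c7 LD2_c14 LD3_c11)) = (LP (LK LD1_c3 LD2_c36 LD3_c60)) :=
  Lre_b IH (LK LD1_c7 LD2_c14 LD3_c11) (LK LD1_c3 LD2_c36 LD3_c60) Lrfl Lrfl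
theorem f489472 : Led Lsl_ft (LP (LK LD1_c13 LD2_c14 LD3_c5)) = (LP (LK LD1_c7 LD2_c14 LD3_c11)) :=
  Lgr Lrot75 (Lpe (f489471 IH) (Lpr_ff (K33.f465644 IH) (Lpe (f160345 IH) (Lpn (LP (LK LD1_c7 LD2_c14 LD3_c11))))))
theorem f559203 : Led Lsl_gf (LP (LK LD1_c16 LD2_c21 LD3_c34)) = (LP (LK LD1_c13 LD2_c14 LD3_c5)) :=
  Lgr Lrot47 (Lpr_gt (K47.f559201 IH) (Lpe (f160367 IH) (Lpe (f489472 IH) (Lpn (LP (LK LD1_c13 LD2_c14 LD3_c5))))))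
theorem f465404 : Led Lsl_dt (LP (LK LD1_c6 LD2_c58 LD3_c14)) = (LP (LK LD1_c13 LD2_c14 LD3_c5)) :=
  Lre_d IH (LK LD1_c6 LD2_c58 LD3_c14) (LK LD1_c13 LD2_c14 LD3_c5) Lrfl Lrfl
theorem f559212 : Led Lsl_ef (LP (LK LD1_c13 LD2_c50 LD3_c25)) = (LP (LK LD1_c12 LD2_c7 LD3_c48)) :=
  Lgr Lrot17 (Lpe (K43.f464075 IH) (Lpe (K47.f441967 IH) (Lpe (K47.f552976 IH) (Lpr_gf (f559203 IH) (Lpe (f465404 IH) (Lpe (K28.f465394 IH) (Lpr_ef (K41.f548902 IH) (Lpr_dt (K41.f543596 IH) (Lpe (K41.f75740 IH) (Lpe (K41.f75754 IH) (Lpn (LP (LK LD1_c12 LD2_c7 LD3_c48)))))))))))))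
def v21417 : LQ := Led Lsl_dt (LP (LK LD1_c7 LD2_c18 LD3_c59))
theorem f797006 : Led Lsl_dt (LP (LK LD1_c7 LD2_c18 LD3_c59)) = v21417 :=
  Lrfl
theorem f961983 : Led Lsl_gt v21417 = v48001 :=
  Lgr Lrot139 (Lpe (f797006 IH) (Lpe (K28.f463892 IH) (Lpr_ef (f559212 IH) (Lpr_dt (K41.f75754 IH) (Lpe (K43.f75739 IH) (Lpe (K43.f202324 IH) (Lpe (K43.f575392 IH) (Lpe (K43.f486510 IH) (Lpr_ef (f815129 IH) (Lpr_dt (f961981 IH) (Lpn v48001)))))))))))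
theorem f464064 : Led Lsl_et (LP (LK LD1_c7 LD2_c18 LD3_c59)) = (LP (LK LD1_c13 LD2_c50 LD3_c29)) :=
  Lre_e IH (LK LD1_c7 LD2_c18 LD3_c59) (LK LD1_c13 LD2_c50 LD3_c29) Lrfl Lrfl
theorem f575394 : Led Lsl_dt (LP (LK LD1_c22 LD2_c29 LD3_c43)) = (LP (LK LD1_c20 LD2_c32 LD3_c16)) :=
  Lgr Lrot77 (Lpr_ef (K43.f575392 IH) (Lpe (K64.f202314 IH) (Lpe (K43.f202311 IH) (Lpe (K73.f202316 IH) (Lpe (K43.f202317 IH) (Lpn (LP (LK LD1_c20 LD2_c32 LD3_c16))))))))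
theorem f743073 : Led Lsl_gt (LP (LK LD1_c21 LD2_c13 LD3_c43)) = (LP (LK LD1_c22 LD2_c29 LD3_c2)) :=
  Lgr Lrot139 (Lpe (K64.f202314 IH) (Lpe (K43.f202310 IH) (Lpe (K37.f202309 IH) (Lpr_dt (K11.f202184 IH) (Lpe (K11.f202249 IH) (Lpr_df (K11.f138183 IH) (Lpr_et (K8.f138185 IH) (Lpe (K55.f138206 IH) (Lpe (K65.f138312 IH) (Lpr_dt (K63.f743047 IH) (Lpn (LP (LK LD1_c22 LD2_c29 LD3_c2)))))))))))))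
theorem f471435 : Led Lsl_dt (LP (LK LD1_c7 LD2_c16 LD3_c56)) = (LP (LK LD1_c13 LD2_c46 LD3_c47)) :=
  Lre_d IH (LK LD1_c7 LD2_c16 LD3_c56) (LK LD1_c13 LD2_c46 LD3_c47) Lrfl Lrfl
theorem f743077 : Led Lsl_gf (LP (LK LD1_c20 LD2_c32 LD3_c16)) = (LP (LK LD1_c13 LD2_c46 LD3_c47)) :=
  Lgr Lrot145 (Lpe (f575394 IH) (Lpr_et (K43.f575396 IH) (Lpr_gt (f743073 IH) (Lpe (K65.f743040 IH) (Lpr_gt (K63.f743055 IH) (Lpe (K65.f543773 IH) (Lpr_et (K65.f610508 IH) (Lpr_gt (K65.f610488 IH) (Lpe (K46.f471430 IH) (Lpr_dt (f471435 IH) (Lpn (LP (LK LD1_c13 LD2_c46 LD3_c47)))))))))))))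
theorem f526512 : Led Lsl_ft (LP (LK LD1_c13 LD2_c46 LD3_c47)) = (LP (LK LD1_c7 LD2_c17 LD3_c38)) :=
  Lgr Lrot54 (Lpe (f471435 IH) (Lpr_ff (K62.f526506 IH) (Lpe (K62.f442066 IH) (Lpn (LP (LK LD1_c7 LD2_c17 LD3_c38))))))
theorem f526516 : Led Lsl_at (LP (LK LD1_c7 LD2_c17 LD3_c38)) = (LP (LK LD1_c13 LD2_c47 LD3_c51)) :=
  Lre_a IH (LK LD1_c7 LD2_c17 LD3_c38) (LK LD1_c13 LD2_c47 LD3_c51) Lrfl Lrfl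
theorem f743079 : Led Lsl_gt (LP (LK LD1_c20 LD2_c32 LD3_c16)) = (LP (LK LD1_c13 LD2_c47 LD3_c51)) :=
  Lgr Lrot46 (Lpr_gf (f743077 IH) (Lpr_ft (f526512 IH) (Lpr_at (f526516 IH) (Lpn (LP (LK LD1_c13 LD2_c47 LD3_c51))))))
theorem f526511 : Led Lsl_dt (LP (LK LD1_c7 LD2_c17 LD3_c37)) = (LP (LK LD1_c13 LD2_c47 LD3_c51)) :=
  Lre_d IH (LK LD1_c7 LD2_c17 LD3_c37) (LK LD1_c13 LD2_c47 LD3_c51) Lrfl Lrfl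
theorem f961984 : Led Lsl_gf (LP (LK LD1_c13 LD2_c50 LD3_c29)) = (LP (LK LD1_c13 LD2_c47 LD3_c52)) :=
  Lgr Lrot141 (Lpe (f464064 IH) (Lpr_dt (f797006 IH) (Lpr_gt (f961983 IH) (Lpe (f961981 IH) (Lpe (f815129 IH) (Lpr_gt (K43.f486510 IH) (Lpr_dt (f575394 IH) (Lpr_gt (f743079 IH) (Lpe (f526511 IH) (Lpr_et (K47.f526510 IH) (Lpn (LP (LK LD1_c13 LD2_c47 LD3_c52)))))))))))))
theorem f961985 : Led Lsl_gt (LP (LK LD1_c13 LD2_c47 LD3_c52)) = (LP (LK LD1_c13 LD2_c50 LD3_c29)) :=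
  Leop (Lpr_gf (f961984 IH) (Lpn (LP (LK LD1_c13 LD2_c47 LD3_c52))))
theorem seed_2871 : LEOK LG_g (LK LD1_c13 LD2_c47 LD3_c52) :=
  Leoe_g (LK LD1_c13 LD2_c47 LD3_c52) (f961985 IH)
def v48020 : LQ := Led Lsl_ft (LP (LK LD1_c11 LD2_c24 LD3_c61))
theorem f962074 : Led Lsl_ft (LP (LK LD1_c11 LD2_c24 LD3_c61)) = v48020 :=
  Lrfl
theorem f962077 : Led Lsl_ff (LP (LK LD1_c11 LD2_c24 LD3_c61)) = v48020 :=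
  Lgr Lrot3 (Lpr_ft (f962074 IH) (Lpn v48020))
def v15810 : LQ := Led Lsl_ft (LP (LK LD1_c5 LD2_c47 LD3_c34))
theorem f741704 : Led Lsl_ft (LP (LK LD1_c5 LD2_c47 LD3_c34)) = v15810 :=
  Lrfl
theorem f962079 : Led Lsl_bt v15810 = v48020 :=
  Lgr Lrot35 (Lpe (f741704 IH) (Lpe (K55.f74228 IH) (Lpr_ff (f962077 IH) (Lpn v48020))))
theorem f741706 : Led Lsl_ff (LP (LK LD1_c5 LD2_c47 LD3_c34)) = v15810 :=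
  Lgr Lrot3 (Lpr_ft (f741704 IH) (Lpn v15810))
def v15809 : LQ := Led Lsl_at (LP (LK LD1_c5 LD2_c47 LD3_c34))
theorem f741698 : Led Lsl_at (LP (LK LD1_c5 LD2_c47 LD3_c34)) = v15809 :=
  Lrfl
theorem f741699 : Led Lsl_af (LP (LK LD1_c5 LD2_c47 LD3_c34)) = v15809 :=
  Lgr Lrot0 (Lpr_at (f741698 IH) (Lpn v15809))
theorem f741701 : Led Lsl_ft (LP (LK LD1_c5 LD2_c47 LD3_c35)) = v15809 :=
  Lgr Lrot2 (Lpr_gt (K56.f73262 IH) (Lpr_gt (K55.f73268 IH) (Lpr_af (f741699 IH) (Lpn v15809))))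
theorem f741702 : Led Lsl_ff (LP (LK LD1_c5 LD2_c47 LD3_c35)) = v15809 :=
  Lgr Lrot3 (Lpr_ft (f741701 IH) (Lpn v15809))
theorem f741707 : Led Lsl_at (LP (LK LD1_c5 LD2_c47 LD3_c35)) = v15810 :=
  Lgr Lrot66 (Lpr_ff (f741702 IH) (Lpe (f741698 IH) (Lpr_ff (f741706 IH) (Lpn v15810))))
def v48018 : LQ := Led Lsl_at (LP (LK LD1_c11 LD2_c24 LD3_c61))
theorem f962060 : Led Lsl_at (LP (LK LD1_c11 LD2_c24 LD3_c61)) = v48018 :=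
  Lrfl
theorem f962061 : Led Lsl_af (LP (LK LD1_c11 LD2_c24 LD3_c61)) = v48018 :=
  Lgr Lrot0 (Lpr_at (f962060 IH) (Lpn v48018))
theorem f962062 : Led Lsl_ft (LP (LK LD1_c17 LD2_c57 LD3_c55)) = v48018 :=
  Lgr Lrot2 (Lpr_gt (K65.f428353 IH) (Lpe (K65.f824846 IH) (Lpr_af (f962061 IH) (Lpn v48018))))
theorem f962075 : Led Lsl_af (LP (LK LD1_c17 LD2_c57 LD3_c55)) = v48020 :=
  Lgr Lrot45 (Lpr_ft (f962062 IH) (Lpe (f962061 IH) (Lpr_ft (f962074 IH) (Lpn v48020))))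
theorem f962080 : Led Lsl_af (LP (LK LD1_c11 LD2_c25 LD3_c3)) = (LP (LK LD1_c11 LD2_c29 LD3_c44)) :=
  Lgr Lrot36 (Lpr_bt (K56.f73270 IH) (Lpr_at (f741707 IH) (Lpr_bt (f962079 IH) (Lpe (f962075 IH) (Lpe (K65.f824824 IH) (Lpn (LP (LK LD1_c11 LD2_c29 LD3_c44))))))))
theorem f962081 : Led Lsl_at (LP (LK LD1_c11 LD2_c29 LD3_c44)) = (LP (LK LD1_c11 LD2_c25 LD3_c3)) :=
  Leop (Lpr_af (f962080 IH) (Lpn (LP (LK LD1_c11 LD2_c29 LD3_c44))))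
theorem seed_2872 : LEOK LG_a (LK LD1_c11 LD2_c29 LD3_c44) :=
  Leoe_a (LK LD1_c11 LD2_c29 LD3_c44) (f962081 IH)
def v47996 : LQ := Led Lsl_ft (LP (LK LD1_c11 LD2_c24 LD3_c46))
theorem f961953 : Led Lsl_ft (LP (LK LD1_c11 LD2_c24 LD3_c46)) = v47996 :=
  Lrfl
theorem f961955 : Led Lsl_ff (LP (LK LD1_c11 LD2_c24 LD3_c46)) = v47996 :=
  Lgr Lrot3 (Lpr_ft (f961953 IH) (Lpn v47996))
theorem f741705 : Led Lsl_af (LP (LK LD1_c5 LD2_c47 LD3_c35)) = v15810 :=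
  Lgr Lrot45 (Lpr_ft (f741701 IH) (Lpe (f741699 IH) (Lpr_ft (f741704 IH) (Lpn v15810))))
def v47995 : LQ := Led Lsl_at (LP (LK LD1_c11 LD2_c24 LD3_c46))
theorem f961949 : Led Lsl_at (LP (LK LD1_c11 LD2_c24 LD3_c46)) = v47995 :=
  Lrfl
theorem f961950 : Led Lsl_af (LP (LK LD1_c11 LD2_c24 LD3_c46)) = v47995 :=
  Lgr Lrot0 (Lpr_at (f961949 IH) (Lpn v47995))
theorem f961951 : Led Lsl_ft (LP (LK LD1_c11 LD2_c24 LD3_c47)) = v47995 :=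
  Lgr Lrot2 (Lpr_gt (K73.f73434 IH) (Lpr_gt (K60.f73446 IH) (Lpr_af (f961950 IH) (Lpn v47995))))
theorem f961952 : Led Lsl_ff (LP (LK LD1_c11 LD2_c24 LD3_c47)) = v47995 :=
  Lgr Lrot3 (Lpr_ft (f961951 IH) (Lpn v47995))
theorem f961956 : Led Lsl_at (LP (LK LD1_c11 LD2_c24 LD3_c47)) = v47996 :=
  Lgr Lrot66 (Lpr_ff (f961952 IH) (Lpe (f961949 IH) (Lpr_ff (f961955 IH) (Lpn v47996))))
theorem f962076 : Led Lsl_bf v15810 = v48020 :=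
  Lgr Lrot61 (Lpe (f741706 IH) (Lpr_bt (K70.f445949 IH) (Lpr_ft (f962074 IH) (Lpn v48020))))
theorem f73267 : Led Lsl_ct (LP (LK LD1_c5 LD2_c47 LD3_c35)) = (LP (LK LD1_c11 LD2_c25 LD3_c4)) :=
  Lre_c IH (LK LD1_c5 LD2_c47 LD3_c35) (LK LD1_c11 LD2_c25 LD3_c4) Lrfl Lrfl
theorem f752603 : Led Lsl_gt (LP (LK LD1_c11 LD2_c25 LD3_c4)) = (LP (LK LD1_c17 LD2_c15 LD3_c46)) :=
  Lgr Lrot149 (Lpe (f73267 IH) (Lpe (K56.f74225 IH) (Lpr_bf (K2.f74217 IH) (Lpr_ct (K2.f74219 IH) (Lpr_gf (K56.f76380 IH) (Lpr_cf (K56.f752494 IH) (Lpr_bt (K56.f745104 IH) (Lpe (K55.f132380 IH) (Lpe (K70.f545616 IH) (Lpr_ct (K38.f436713 IH) (Lpn (LP (LK LD1_c17 LD2_c15 LD3_c46)))))))))))))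
theorem f741703 : Led Lsl_bt (LP (LK LD1_c5 LD2_c47 LD3_c35)) = (LP (LK LD1_c11 LD2_c25 LD3_c3)) :=
  Lre_b IH (LK LD1_c5 LD2_c47 LD3_c35) (LK LD1_c11 LD2_c25 LD3_c3) Lrfl Lrfl
theorem f752606 : Led Lsl_gf (LP (LK LD1_c11 LD2_c25 LD3_c3)) = (LP (LK LD1_c11 LD2_c29 LD3_c45)) :=
  Lgr Lrot124 (Lpe (f741703 IH) (Lpr_ct (f73267 IH) (Lpr_gt (f752603 IH) (Lpe (K38.f436713 IH) (Lpr_bt (K70.f545616 IH) (Lpr_gt (K55.f132380 IH) (Lpr_ct (K55.f738963 IH) (Lpr_gt (K55.f440842 IH) (Lpe (K51.f24115 IH) (Lpr_bt (K4.f24106 IH) (Lpn (LP (LK LD1_c11 LD2_c29 LD3_c45)))))))))))))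
theorem f962090 : Led Lsl_ft (LP (LK LD1_c20 LD2_c26 LD3_c46)) = (LP (LK LD1_c11 LD2_c29 LD3_c44)) :=
  Lgr Lrot2 (Lpr_gt (K56.f24112 IH) (Lpe (f752606 IH) (Lpr_af (f962080 IH) (Lpn (LP (LK LD1_c11 LD2_c29 LD3_c44))))))
theorem f962096 : K56.v16913 = v48018 :=
  (Llr Lrot61 (Lpe (K56.f752430 IH) (Lpr_ft (f962090 IH) (Lpr_bt (K65.f824826 IH) (Lpr_ft (f962062 IH) (Lpn v48018)))))).symm
theorem f824822 : Led Lsl_ct (LP (LK LD1_c11 LD2_c40 LD3_c53)) = (LP (LK LD1_c17 LD2_c57 LD3_c55)) :=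
  Lgr Lrot59 (Lpr_cf (K65.f824820 IH) (Lpn (LP (LK LD1_c17 LD2_c57 LD3_c55))))
def v16915 : LQ := Led Lsl_ft (LP (LK LD1_c6 LD2_c8 LD3_c39))
theorem f752444 : Led Lsl_ft (LP (LK LD1_c6 LD2_c8 LD3_c39)) = v16915 :=
  Lrfl
theorem f962103 : (LP (LK LD1_c11 LD2_c40 LD3_c53)) = v16915 :=
  (Llr Lrot108 (Lpr_ct (f824822 IH) (Lpr_ft (f962062 IH) (Lpq (f962096 IH) (Lpqs (K56.f753306 IH) (Lpq (K56.f753306 IH) (Lpe (K56.f752428 IH) (Lpr_ft (f752444 IH) (Lpn v16915))))))))).symm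
theorem f752446 : Led Lsl_ff (LP (LK LD1_c6 LD2_c8 LD3_c39)) = v16915 :=
  Lgr Lrot3 (Lpr_ft (f752444 IH) (Lpn v16915))
def v16912 : LQ := Led Lsl_at (LP (LK LD1_c6 LD2_c8 LD3_c39))
theorem f752420 : Led Lsl_at (LP (LK LD1_c6 LD2_c8 LD3_c39)) = v16912 :=
  Lrfl
theorem f962108 : v16912 = (LP (LK LD1_c11 LD2_c40 LD3_c52)) :=
  (Llr Lrot26 (Lpe (f752420 IH) (Lpr_ff (f752446 IH) (Lpq (f962103 IH) (Lpr_gt (K65.f76232 IH) (Lpr_gt (K55.f76213 IH) (Lpn (LP (LK LD1_c11 LD2_c40 LD3_c52))))))))).symm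
theorem f752421 : Led Lsl_af (LP (LK LD1_c6 LD2_c8 LD3_c39)) = v16912 :=
  Lgr Lrot0 (Lpr_at (f752420 IH) (Lpn v16912))
theorem f752423 : Led Lsl_ft (LP (LK LD1_c6 LD2_c8 LD3_c40)) = v16912 :=
  Lgr Lrot2 (Lpr_gt (K73.f74889 IH) (Lpr_gt (K56.f74914 IH) (Lpr_af (f752421 IH) (Lpn v16912))))
theorem f445950 : Led Lsl_cf (LP (LK LD1_c11 LD2_c24 LD3_c61)) = (LP (LK LD1_c11 LD2_c40 LD3_c52)) :=
  Lgr Lrot11 (Lpr_ct (K55.f445947 IH) (Lpn (LP (LK LD1_c11 LD2_c40 LD3_c52))))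
theorem f962113 : K73.v16916 = v48020 :=
  (Llr Lrot108 (Lpe (K73.f752449 IH) (Lpr_ft (f752423 IH) (Lpqs (f962108 IH) (Lpe (f445950 IH) (Lpr_ft (f962074 IH) (Lpn v48020))))))).symm
theorem f962118 : v15810 = (LP (LK LD1_c11 LD2_c24 LD3_c47)) :=
  Lefun (Lecon (Lfl_bf (f962076 IH)) (f962113 IH).symm) (Lfl_bf (K73.f752450 IH))
theorem f962119 : (LP (LK LD1_c5 LD2_c47 LD3_c35)) = v47996 :=
  Lefun (Lecon (Lfl_af (f741705 IH)) (f962118 IH)) (f961956 IH)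
theorem f73263 : Led Lsl_dt (LP (LK LD1_c11 LD2_c25 LD3_c5)) = (LP (LK LD1_c5 LD2_c47 LD3_c35)) :=
  Lre_d IH (LK LD1_c11 LD2_c25 LD3_c5) (LK LD1_c5 LD2_c47 LD3_c35) Lrfl Lrfl
theorem f73482 : Led Lsl_dt (LP (LK LD1_c11 LD2_c24 LD3_c46)) = (LP (LK LD1_c20 LD2_c22 LD3_c29)) :=
  Lre_d IH (LK LD1_c11 LD2_c24 LD3_c46) (LK LD1_c20 LD2_c22 LD3_c29) Lrfl Lrfl
theorem f962134 : Led Lsl_ff (LP (LK LD1_c11 LD2_c25 LD3_c5)) = (LP (LK LD1_c20 LD2_c22 LD3_c29)) :=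
  Lgr Lrot19 (Lpr_dt (f73263 IH) (Lpqs (f962119 IH) (Lpe (f961955 IH) (Lpr_dt (f73482 IH) (Lpn (LP (LK LD1_c20 LD2_c22 LD3_c29)))))))
def v17772 : LQ := Led Lsl_dt (LP (LK LD1_c6 LD2_c22 LD3_c3))
theorem f762110 : Led Lsl_dt (LP (LK LD1_c6 LD2_c22 LD3_c3)) = v17772 :=
  Lrfl
theorem f643389 : Led Lsl_gt (LP (LK LD1_c3 LD2_c8 LD3_c42)) = (LP (LK LD1_c3 LD2_c23 LD3_c61)) :=
  Lgr Lrot5 (Lpe (K42.f506189 IH) (Lpr_at (K45.f500144 IH) (Lpr_gf (K45.f643387 IH) (Lpn (LP (LK LD1_c3 LD2_c23 LD3_c61))))))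
theorem f762113 : Led Lsl_gt (LP (LK LD1_c20 LD2_c22 LD3_c29)) = v17772 :=
  Lgr Lrot139 (Lpe (f73482 IH) (Lpe (K60.f73446 IH) (Lpe (K60.f73433 IH) (Lpr_dt (K57.f73407 IH) (Lpe (K4.f79922 IH) (Lpr_df (K60.f79931 IH) (Lpr_et (K65.f69052 IH) (Lpe (f643389 IH) (Lpe (K57.f506196 IH) (Lpr_dt (f762110 IH) (Lpn v17772)))))))))))
theorem f749982 : Led Lsl_et (LP (LK LD1_c12 LD2_c25 LD3_c4)) = (LP (LK LD1_c21 LD2_c31 LD3_c58)) :=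
  Lre_e IH (LK LD1_c12 LD2_c25 LD3_c4) (LK LD1_c21 LD2_c31 LD3_c58) Lrfl Lrfl
theorem f149227 : Led Lsl_dt (LP (LK LD1_c6 LD2_c51 LD3_c4)) = (LP (LK LD1_c3 LD2_c24 LD3_c2)) :=
  Lre_d IH (LK LD1_c6 LD2_c51 LD3_c4) (LK LD1_c3 LD2_c24 LD3_c2) Lrfl Lrfl
theorem f302052 : Led Lsl_et (LP (LK LD1_c9 LD2_c5 LD3_c42)) = (LP (LK LD1_c4 LD2_c34 LD3_c8)) :=
  Lre_e IH (LK LD1_c9 LD2_c5 LD3_c42) (LK LD1_c4 LD2_c34 LD3_c8) Lrfl Lrfl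
def v6595 : LQ := Led Lsl_gf (LP (LK LD1_c3 LD2_c24 LD3_c2))
theorem f654349 : Led Lsl_gf (LP (LK LD1_c3 LD2_c24 LD3_c2)) = v6595 :=
  Lrfl
theorem f689235 : Led Lsl_gf v6595 = K56.v12296 :=
  Lgr Lrot47 (Lpe (f654349 IH) (Lpr_af (K32.f497280 IH) (Lpr_ff (K57.f689231 IH) (Lpn K56.v12296))))
theorem f749914 : v6595 = (LP (LK LD1_c5 LD2_c48 LD3_c54)) :=
  Lefun (Lecon (Lfl_gf (f689235 IH)) (K56.f749907 IH)) (K57.f623304 IH)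
theorem f623258 : Led Lsl_dt (LP (LK LD1_c11 LD2_c27 LD3_c10)) = (LP (LK LD1_c5 LD2_c48 LD3_c54)) :=
  Lre_d IH (LK LD1_c11 LD2_c27 LD3_c10) (LK LD1_c5 LD2_c48 LD3_c54) Lrfl Lrfl
theorem f623288 : Led Lsl_et (LP (LK LD1_c21 LD2_c31 LD3_c58)) = (LP (LK LD1_c12 LD2_c25 LD3_c4)) :=
  Lre_e IH (LK LD1_c21 LD2_c31 LD3_c58) (LK LD1_c12 LD2_c25 LD3_c4) Lrfl Lrfl
theorem f749978 : Led Lsl_df (LP (LK LD1_c18 LD2_c43 LD3_c24)) = (LP (LK LD1_c21 LD2_c31 LD3_c58)) :=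
  Lgr Lrot168 (Lpe (K73.f616060 IH) (Lpr_df (K53.f565254 IH) (Lpr_et (f302052 IH) (Lpr_gf (K40.f428014 IH) (Lpr_ef (K8.f149218 IH) (Lpr_dt (f149227 IH) (Lpr_gf (f654349 IH) (Lpqs (f749914 IH) (Lpe (f623258 IH) (Lpe (K66.f623282 IH) (Lpe (f623288 IH) (Lpn (LP (LK LD1_c21 LD2_c31 LD3_c58))))))))))))))
theorem f847086 : Led Lsl_et (LP (LK LD1_c11 LD2_c24 LD3_c47)) = (LP (LK LD1_c11 LD2_c31 LD3_c52)) :=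
  Lgr Lrot71 (Lpe (K73.f73245 IH) (Lpr_ef (K73.f622194 IH) (Lpr_df (f749978 IH) (Lpe (f749982 IH) (Lpr_df (K66.f847082 IH) (Lpn (LP (LK LD1_c11 LD2_c31 LD3_c52))))))))
theorem f644967 : Led Lsl_gt (LP (LK LD1_c11 LD2_c31 LD3_c52)) = (LP (LK LD1_c20 LD2_c28 LD3_c28)) :=
  Lre_g IH (LK LD1_c11 LD2_c31 LD3_c52) (LK LD1_c20 LD2_c28 LD3_c28) Lrfl Lrfl
theorem f654351 : Led Lsl_ef (LP (LK LD1_c6 LD2_c22 LD3_c1)) = K57.v6596 :=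
  Lgr Lrot21 (Lpe (K60.f643919 IH) (Lpr_et (K60.f40690 IH) (Lpr_ft (K32.f497229 IH) (Lpr_et (K8.f149217 IH) (Lpr_ft (K57.f654350 IH) (Lpn K57.v6596))))))
theorem f847100 : Led Lsl_gf (LP (LK LD1_c20 LD2_c22 LD3_c30)) = v17772 :=
  Lgr Lrot145 (Lpe (K73.f73241 IH) (Lpr_et (f847086 IH) (Lpr_gt (f644967 IH) (Lpr_dt (K65.f711447 IH) (Lpe (K65.f711455 IH) (Lpe (K66.f623371 IH) (Lpq (K65.f711301 IH) (Lpe (f654351 IH) (Lpr_gt (K42.f443701 IH) (Lpe (K57.f506196 IH) (Lpr_dt (f762110 IH) (Lpn v17772))))))))))))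
theorem f962140 : Led Lsl_at (LP (LK LD1_c11 LD2_c25 LD3_c5)) = (LP (LK LD1_c20 LD2_c22 LD3_c30)) :=
  Lgr Lrot26 (Lpr_ff (f962134 IH) (Lpr_gt (f762113 IH) (Lpe (f847100 IH) (Lpn (LP (LK LD1_c20 LD2_c22 LD3_c30))))))
theorem f711385 : Led Lsl_et (LP (LK LD1_c20 LD2_c22 LD3_c37)) = (LP (LK LD1_c11 LD2_c25 LD3_c5)) :=
  Lre_e IH (LK LD1_c20 LD2_c22 LD3_c37) (LK LD1_c11 LD2_c25 LD3_c5) Lrfl Lrfl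
theorem f962144 : Led Lsl_af (LP (LK LD1_c20 LD2_c22 LD3_c37)) = (LP (LK LD1_c18 LD2_c43 LD3_c24)) :=
  Lgr Lrot50 (Lpr_et (f711385 IH) (Lpr_at (f962140 IH) (Lpr_et (K73.f622192 IH) (Lpn (LP (LK LD1_c18 LD2_c43 LD3_c24))))))
def v42888 : LQ := Led Lsl_at (LP (LK LD1_c10 LD2_c18 LD3_c26))
theorem f936717 : Led Lsl_at (LP (LK LD1_c10 LD2_c18 LD3_c26)) = v42888 :=
  Lrfl
def v14584 : LQ := Led Lsl_dt (LP (LK LD1_c5 LD2_c14 LD3_c23))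
theorem f723895 : Led Lsl_dt (LP (LK LD1_c5 LD2_c14 LD3_c23)) = v14584 :=
  Lrfl
theorem f723896 : Led Lsl_af (LP (LK LD1_c5 LD2_c14 LD3_c25)) = v14584 :=
  Lgr Lrot117 (Lpr_dt (K45.f421694 IH) (Lpr_at (K41.f495458 IH) (Lpr_dt (f723895 IH) (Lpn v14584))))
theorem f936720 : Led Lsl_ef v14584 = v42888 :=
  Lgr Lrot20 (Lpe (f723896 IH) (Lpr_et (K73.f544446 IH) (Lpr_at (f936717 IH) (Lpn v42888))))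
theorem f936722 : Led Lsl_et v14584 = v42888 :=
  Lgr Lrot87 (Lpr_ef (f936720 IH) (Lpn v42888))
theorem f723898 : Led Lsl_df (LP (LK LD1_c5 LD2_c14 LD3_c23)) = v14584 :=
  Lgr Lrot38 (Lpr_dt (f723895 IH) (Lpn v14584))
theorem f158446 : Led Lsl_at (LP (LK LD1_c2 LD2_c27 LD3_c20)) = (LP (LK LD1_c4 LD2_c58 LD3_c53)) :=
  Lre_a IH (LK LD1_c2 LD2_c27 LD3_c20) (LK LD1_c4 LD2_c58 LD3_c53) Lrfl Lrfl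
theorem f205808 : Led Lsl_af (LP (LK LD1_c4 LD2_c58 LD3_c16)) = (LP (LK LD1_c5 LD2_c49 LD3_c60)) :=
  Lgr Lrot45 (Lpr_ft (K11.f158457 IH) (Lpr_at (f158446 IH) (Lpr_ft (K11.f205802 IH) (Lpn (LP (LK LD1_c5 LD2_c49 LD3_c60))))))
theorem f205822 : Led Lsl_gt (LP (LK LD1_c2 LD2_c52 LD3_c20)) = (LP (LK LD1_c4 LD2_c58 LD3_c16)) :=
  Lgr Lrot46 (Lpr_gf (K11.f205820 IH) (Lpr_ft (K11.f205802 IH) (Lpe (f205808 IH) (Lpn (LP (LK LD1_c4 LD2_c58 LD3_c16))))))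
theorem f572352 : Led Lsl_gt (LP (LK LD1_c4 LD2_c58 LD3_c17)) = (LP (LK LD1_c5 LD2_c14 LD3_c23)) :=
  Lgr Lrot131 (Lpe (K35.f161113 IH) (Lpr_dt (K71.f158462 IH) (Lpe (f205822 IH) (Lpqs (K71.f537680 IH) (Lpe (K71.f506391 IH) (Lpe (K42.f402566 IH) (Lpr_ef (K42.f572342 IH) (Lpr_dt (K41.f450237 IH) (Lpr_gf (K42.f564309 IH) (Lpr_df (K40.f302050 IH) (Lpe (K41.f565252 IH) (Lpn (LP (LK LD1_c5 LD2_c14 LD3_c23))))))))))))))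
theorem f73200 : Led Lsl_dt (LP (LK LD1_c4 LD2_c6 LD3_c0)) = (LP (LK LD1_c2 LD2_c49 LD3_c45)) :=
  Lgr Lrot79 (Lpe (K67.f55694 IH) (Lpr_df (K2.f73196 IH) (Lpe (K70.f73199 IH) (Lpn (LP (LK LD1_c2 LD2_c49 LD3_c45))))))
theorem f79915 : Led Lsl_et (LP (LK LD1_c11 LD2_c25 LD3_c5)) = (LP (LK LD1_c20 LD2_c22 LD3_c37)) :=
  Lre_e IH (LK LD1_c11 LD2_c25 LD3_c5) (LK LD1_c20 LD2_c22 LD3_c37) Lrfl Lrfl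
theorem f936723 : Led Lsl_gf (LP (LK LD1_c20 LD2_c22 LD3_c37)) = v42888 :=
  Lgr Lrot141 (Lpe (f79915 IH) (Lpr_dt (f73263 IH) (Lpr_gt (K56.f73262 IH) (Lpe (f73200 IH) (Lpr_et (K2.f73255 IH) (Lpr_gt (K42.f55413 IH) (Lpe (K56.f572423 IH) (Lpr_gt (f572352 IH) (Lpr_df (f723898 IH) (Lpr_et (f936722 IH) (Lpn v42888)))))))))))
theorem f565336 : Led Lsl_ft (LP (LK LD1_c18 LD2_c43 LD3_c26)) = (LP (LK LD1_c10 LD2_c18 LD3_c26)) :=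
  Lre_f IH (LK LD1_c18 LD2_c43 LD3_c26) (LK LD1_c10 LD2_c18 LD3_c26) Lrfl Lrfl
theorem f936737 : Led Lsl_gt (LP (LK LD1_c18 LD2_c23 LD3_c33)) = v42888 :=
  Lgr Lrot46 (Lpr_gf (K73.f936735 IH) (Lpr_ft (f565336 IH) (Lpr_at (f936717 IH) (Lpn v42888))))
theorem f962150 : Led Lsl_ft (LP (LK LD1_c18 LD2_c23 LD3_c33)) = (LP (LK LD1_c18 LD2_c43 LD3_c24)) :=
  Lgr Lrot2 (Lpr_gt (f936737 IH) (Lpe (f936723 IH) (Lpr_af (f962144 IH) (Lpn (LP (LK LD1_c18 LD2_c43 LD3_c24))))))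
def v41994 : LQ := Led Lsl_at (LP (LK LD1_c10 LD2_c4 LD3_c50))
theorem f931372 : Led Lsl_at (LP (LK LD1_c10 LD2_c4 LD3_c50)) = v41994 :=
  Lrfl
theorem f931373 : Led Lsl_af (LP (LK LD1_c10 LD2_c4 LD3_c50)) = v41994 :=
  Lgr Lrot0 (Lpr_at (f931372 IH) (Lpn v41994))
theorem f931374 : Led Lsl_ft (LP (LK LD1_c10 LD2_c4 LD3_c51)) = v41994 :=
  Lgr Lrot2 (Lpr_gt (K73.f165682 IH) (Lpr_gt (K73.f165684 IH) (Lpr_af (f931373 IH) (Lpn v41994))))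
theorem f931375 : Led Lsl_ff (LP (LK LD1_c10 LD2_c4 LD3_c51)) = v41994 :=
  Lgr Lrot3 (Lpr_ft (f931374 IH) (Lpn v41994))
theorem f752562 : Led Lsl_bf (LP (LK LD1_c17 LD2_c58 LD3_c15)) = (LP (LK LD1_c18 LD2_c43 LD3_c24)) :=
  Lgr Lrot24 (Lpr_bt (K73.f752560 IH) (Lpn (LP (LK LD1_c18 LD2_c43 LD3_c24))))
theorem f962154 : v41994 = (LP (LK LD1_c17 LD2_c58 LD3_c15)) :=
  (Llr Lrot25 (Lpe (f931375 IH) (Lpr_bt (K73.f931376 IH) (Lpr_ft (f962150 IH) (Lpe (f752562 IH) (Lpn (LP (LK LD1_c17 LD2_c58 LD3_c15)))))))).symm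
theorem f615471 : Led Lsl_et (LP (LK LD1_c10 LD2_c4 LD3_c50)) = (LP (LK LD1_c18 LD2_c23 LD3_c32)) :=
  Lre_e IH (LK LD1_c10 LD2_c4 LD3_c50) (LK LD1_c18 LD2_c23 LD3_c32) Lrfl Lrfl
theorem f962164 : Led Lsl_af (LP (LK LD1_c20 LD2_c28 LD3_c4)) = (LP (LK LD1_c18 LD2_c23 LD3_c32)) :=
  Lgr Lrot50 (Lpe (K73.f615472 IH) (Lpq (f962154 IH) (Lpe (f931373 IH) (Lpr_et (f615471 IH) (Lpn (LP (LK LD1_c18 LD2_c23 LD3_c32)))))))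
theorem f962166 : Led Lsl_at (LP (LK LD1_c20 LD2_c28 LD3_c4)) = (LP (LK LD1_c18 LD2_c23 LD3_c32)) :=
  Lgr Lrot100 (Lpr_af (f962164 IH) (Lpn (LP (LK LD1_c18 LD2_c23 LD3_c32))))
theorem f428072 : Led Lsl_et (LP (LK LD1_c18 LD2_c23 LD3_c32)) = (LP (LK LD1_c10 LD2_c4 LD3_c50)) :=
  Lre_e IH (LK LD1_c18 LD2_c23 LD3_c32) (LK LD1_c10 LD2_c4 LD3_c50) Lrfl Lrfl
theorem f615467 : Led Lsl_dt (LP (LK LD1_c18 LD2_c23 LD3_c32)) = (LP (LK LD1_c17 LD2_c57 LD3_c55)) :=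
  Lgr Lrot136 (Lpr_et (f428072 IH) (Lpe (K73.f165684 IH) (Lpe (K50.f68566 IH) (Lpr_dt (K39.f68561 IH) (Lpr_gf (K32.f427805 IH) (Lpe (K32.f161212 IH) (Lpe (K36.f427589 IH) (Lpe (K73.f180690 IH) (Lpr_dt (K73.f615406 IH) (Lpe (K65.f428353 IH) (Lpn (LP (LK LD1_c17 LD2_c57 LD3_c55)))))))))))))
def v4892 : LQ := Led Lsl_gf (LP (LK LD1_c2 LD2_c52 LD3_c10))
theorem f640759 : Led Lsl_gf (LP (LK LD1_c2 LD2_c52 LD3_c10)) = v4892 :=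
  Lrfl
theorem f643095 : (LP (LK LD1_c4 LD2_c58 LD3_c19)) = v4892 :=
  (Llr Lrot185 (Lpe (K66.f139362 IH) (Lpr_dt (K6.f139178 IH) (Lpe (K8.f139355 IH) (Lpe (K1.f26397 IH) (Lpe (K0.f26396 IH) (Lpe (K42.f80044 IH) (Lpe (K50.f570764 IH) (Lpr_gf (K50.f643087 IH) (Lpe (K45.f622574 IH) (Lpr_et (K45.f535817 IH) (Lpr_gf (f640759 IH) (Lpn v4892))))))))))))).symm
theorem f643099 : Led Lsl_gf (LP (LK LD1_c18 LD2_c23 LD3_c32)) = (LP (LK LD1_c11 LD2_c30 LD3_c57)) :=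
  Lgr Lrot138 (Lpr_dt (f615467 IH) (Lpr_gt (K65.f428353 IH) (Lpe (K73.f615406 IH) (Lpr_et (K73.f180690 IH) (Lpr_gt (K36.f427589 IH) (Lpe (K73.f387186 IH) (Lpr_dt (K56.f427594 IH) (Lpqs (f643095 IH) (Lpe (f640759 IH) (Lpe (K56.f535822 IH) (Lpr_et (K65.f622576 IH) (Lpn (LP (LK LD1_c11 LD2_c30 LD3_c57))))))))))))))
theorem f962170 : Led Lsl_ff (LP (LK LD1_c20 LD2_c28 LD3_c4)) = (LP (LK LD1_c20 LD2_c22 LD3_c33)) :=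
  Lgr Lrot52 (Lpr_at (f962166 IH) (Lpr_gf (f643099 IH) (Lpe (K65.f824850 IH) (Lpn (LP (LK LD1_c20 LD2_c22 LD3_c33))))))
theorem f962174 : Led Lsl_ft (LP (LK LD1_c20 LD2_c28 LD3_c4)) = (LP (LK LD1_c20 LD2_c22 LD3_c33)) :=
  Lgr Lrot48 (Lpr_ff (f962170 IH) (Lpn (LP (LK LD1_c20 LD2_c22 LD3_c33))))
theorem f954227 : Led Lsl_bt (LP (LK LD1_c20 LD2_c22 LD3_c33)) = (LP (LK LD1_c11 LD2_c25 LD3_c1)) :=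
  Lre_b IH (LK LD1_c20 LD2_c22 LD3_c33) (LK LD1_c11 LD2_c25 LD3_c1) Lrfl Lrfl
theorem f962178 : Led Lsl_ff (LP (LK LD1_c20 LD2_c22 LD3_c30)) = (LP (LK LD1_c11 LD2_c25 LD3_c1)) :=
  Lgr Lrot25 (Lpe (K73.f752556 IH) (Lpr_ft (f962174 IH) (Lpr_bt (f954227 IH) (Lpn (LP (LK LD1_c11 LD2_c25 LD3_c1))))))
theorem f962142 : Led Lsl_af (LP (LK LD1_c11 LD2_c25 LD3_c5)) = (LP (LK LD1_c20 LD2_c22 LD3_c30)) :=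
  Lgr Lrot0 (Lpr_at (f962140 IH) (Lpn (LP (LK LD1_c20 LD2_c22 LD3_c30))))
theorem f962138 : Led Lsl_ft (LP (LK LD1_c11 LD2_c25 LD3_c5)) = (LP (LK LD1_c20 LD2_c22 LD3_c29)) :=
  Lgr Lrot48 (Lpr_ff (f962134 IH) (Lpn (LP (LK LD1_c20 LD2_c22 LD3_c29))))
theorem f962180 : Led Lsl_at (LP (LK LD1_c20 LD2_c22 LD3_c29)) = (LP (LK LD1_c11 LD2_c25 LD3_c1)) :=
  Lgr Lrot66 (Lpe (f962138 IH) (Lpr_af (f962142 IH) (Lpr_ff (f962178 IH) (Lpn (LP (LK LD1_c11 LD2_c25 LD3_c1))))))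
def v46564 : LQ := Led Lsl_et (LP (LK LD1_c11 LD2_c8 LD3_c36))
theorem f954219 : Led Lsl_et (LP (LK LD1_c11 LD2_c8 LD3_c36)) = v46564 :=
  Lrfl
theorem f954222 : Led Lsl_ef (LP (LK LD1_c11 LD2_c8 LD3_c36)) = v46564 :=
  Lgr Lrot88 (Lpr_et (f954219 IH) (Lpn v46564))
theorem f746635 : Led Lsl_dt (LP (LK LD1_c11 LD2_c8 LD3_c36)) = K73.v16120 :=
  Lgr Lrot42 (Lpr_df (K73.f746634 IH) (Lpn K73.v16120))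
theorem f954224 : Led Lsl_dt K57.v17773 = v46564 :=
  Lgr Lrot77 (Lpe (K57.f762120 IH) (Lpe (K65.f445653 IH) (Lpr_ef (K73.f746632 IH) (Lpe (f746635 IH) (Lpr_ef (f954222 IH) (Lpn v46564))))))
theorem f506203 : Led Lsl_et (LP (LK LD1_c3 LD2_c8 LD3_c42)) = (LP (LK LD1_c6 LD2_c22 LD3_c3)) :=
  Lre_e IH (LK LD1_c3 LD2_c8 LD3_c42) (LK LD1_c6 LD2_c22 LD3_c3) Lrfl Lrfl
theorem f505064 : Led Lsl_et (LP (LK LD1_c5 LD2_c50 LD3_c31)) = (LP (LK LD1_c2 LD2_c51 LD3_c25)) :=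
  Lre_e IH (LK LD1_c5 LD2_c50 LD3_c31) (LK LD1_c2 LD2_c51 LD3_c25) Lrfl Lrfl
theorem f762117 : Led Lsl_ef (LP (LK LD1_c9 LD2_c20 LD3_c40)) = K57.v17773 :=
  Lgr Lrot21 (Lpe (K65.f505010 IH) (Lpr_et (f505064 IH) (Lpr_ft (K42.f506197 IH) (Lpr_et (f506203 IH) (Lpr_ft (K57.f762115 IH) (Lpn K57.v17773))))))
theorem f414206 : Led Lsl_at (LP (LK LD1_c5 LD2_c51 LD3_c60)) = (LP (LK LD1_c11 LD2_c31 LD3_c0)) :=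
  Lre_a IH (LK LD1_c5 LD2_c51 LD3_c60) (LK LD1_c11 LD2_c31 LD3_c0) Lrfl Lrfl
theorem f782100 : Led Lsl_gf (LP (LK LD1_c11 LD2_c31 LD3_c0)) = (LP (LK LD1_c11 LD2_c25 LD3_c2)) :=
  Lgr Lrot76 (Lpe (f414206 IH) (Lpe (K49.f414191 IH) (Lpr_gt (K60.f782098 IH) (Lpn (LP (LK LD1_c11 LD2_c25 LD3_c2))))))
theorem f741700 : Led Lsl_et (LP (LK LD1_c5 LD2_c47 LD3_c34)) = (LP (LK LD1_c11 LD2_c25 LD3_c2)) :=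
  Lre_e IH (LK LD1_c5 LD2_c47 LD3_c34) (LK LD1_c11 LD2_c25 LD3_c2) Lrfl Lrfl
theorem f73519 : Led Lsl_dt (LP (LK LD1_c5 LD2_c47 LD3_c34)) = (LP (LK LD1_c11 LD2_c25 LD3_c1)) :=
  Lre_d IH (LK LD1_c5 LD2_c47 LD3_c34) (LK LD1_c11 LD2_c25 LD3_c1) Lrfl Lrfl
theorem f954226 : Led Lsl_gf (LP (LK LD1_c11 LD2_c25 LD3_c1)) = v46564 :=
  Lgr Lrot145 (Lpe (f73519 IH) (Lpr_et (f741700 IH) (Lpe (f782100 IH) (Lpe (K58.f414201 IH) (Lpr_gt (K58.f767319 IH) (Lpe (K58.f415159 IH) (Lpr_et (K55.f654361 IH) (Lpe (K58.f747884 IH) (Lpr_ef (f762117 IH) (Lpr_dt (f954224 IH) (Lpn v46564)))))))))))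
theorem f962184 : Led Lsl_gt (LP (LK LD1_c11 LD2_c25 LD3_c5)) = v46564 :=
  Lgr Lrot5 (Lpr_ft (f962138 IH) (Lpr_at (f962180 IH) (Lpr_gf (f954226 IH) (Lpn v46564))))
theorem f74226 : Led Lsl_dt (LP (LK LD1_c5 LD2_c47 LD3_c35)) = (LP (LK LD1_c11 LD2_c25 LD3_c5)) :=
  Lre_d IH (LK LD1_c5 LD2_c47 LD3_c35) (LK LD1_c11 LD2_c25 LD3_c5) Lrfl Lrfl
theorem f711384 : Led Lsl_et (LP (LK LD1_c5 LD2_c47 LD3_c35)) = (LP (LK LD1_c11 LD2_c25 LD3_c6)) :=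
  Lre_e IH (LK LD1_c5 LD2_c47 LD3_c35) (LK LD1_c11 LD2_c25 LD3_c6) Lrfl Lrfl
theorem f962185 : Led Lsl_gf (LP (LK LD1_c11 LD2_c25 LD3_c6)) = (LP (LK LD1_c11 LD2_c31 LD3_c49)) :=
  Lgr Lrot141 (Lpe (f711384 IH) (Lpr_dt (f74226 IH) (Lpr_gt (f962184 IH) (Lpe (f954224 IH) (Lpe (f762117 IH) (Lpr_gt (K65.f442828 IH) (Lpe (K65.f825102 IH) (Lpr_gt (K65.f746597 IH) (Lpe (K65.f746590 IH) (Lpr_et (K41.f56735 IH) (Lpn (LP (LK LD1_c11 LD2_c31 LD3_c49)))))))))))))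
theorem f962186 : Led Lsl_gt (LP (LK LD1_c11 LD2_c31 LD3_c49)) = (LP (LK LD1_c11 LD2_c25 LD3_c6)) :=
  Leop (Lpr_gf (f962185 IH) (Lpn (LP (LK LD1_c11 LD2_c31 LD3_c49))))
theorem seed_2873 : LEOK LG_g (LK LD1_c11 LD2_c31 LD3_c49) :=
  Leoe_g (LK LD1_c11 LD2_c31 LD3_c49) (f962186 IH)
theorem f623355 : Led Lsl_dt (LP (LK LD1_c6 LD2_c26 LD3_c34)) = (LP (LK LD1_c12 LD2_c25 LD3_c3)) :=
  Lre_d IH (LK LD1_c6 LD2_c26 LD3_c34) (LK LD1_c12 LD2_c25 LD3_c3) Lrfl Lrfl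
theorem f623356 : Led Lsl_ft (LP (LK LD1_c12 LD2_c25 LD3_c3)) = (LP (LK LD1_c11 LD2_c27 LD3_c10)) :=
  Lgr Lrot54 (Lpe (f623355 IH) (Lpr_ff (K66.f623299 IH) (Lpe (f623258 IH) (Lpn (LP (LK LD1_c11 LD2_c27 LD3_c10))))))
theorem f623259 : Led Lsl_at (LP (LK LD1_c11 LD2_c27 LD3_c10)) = (LP (LK LD1_c5 LD2_c48 LD3_c56)) :=
  Lre_a IH (LK LD1_c11 LD2_c27 LD3_c10) (LK LD1_c5 LD2_c48 LD3_c56) Lrfl Lrfl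
theorem f438397 : Led Lsl_gt (LP (LK LD1_c11 LD2_c27 LD3_c14)) = (LP (LK LD1_c5 LD2_c48 LD3_c56)) :=
  Lre_g IH (LK LD1_c11 LD2_c27 LD3_c14) (LK LD1_c5 LD2_c48 LD3_c56) Lrfl Lrfl
theorem f623359 : Led Lsl_gt (LP (LK LD1_c12 LD2_c25 LD3_c3)) = (LP (LK LD1_c11 LD2_c27 LD3_c14)) :=
  Lgr Lrot5 (Lpr_ft (f623356 IH) (Lpr_at (f623259 IH) (Lpe (f438397 IH) (Lpn (LP (LK LD1_c11 LD2_c27 LD3_c14))))))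
theorem f73271 : Led Lsl_et (LP (LK LD1_c11 LD2_c25 LD3_c6)) = (LP (LK LD1_c5 LD2_c47 LD3_c35)) :=
  Lre_e IH (LK LD1_c11 LD2_c25 LD3_c6) (LK LD1_c5 LD2_c47 LD3_c35) Lrfl Lrfl
theorem f711378 : Led Lsl_df (LP (LK LD1_c11 LD2_c27 LD3_c14)) = (LP (LK LD1_c11 LD2_c25 LD3_c6)) :=
  Lgr Lrot132 (Lpe (f623359 IH) (Lpe (f623355 IH) (Lpr_gf (K65.f640560 IH) (Lpqs (K65.f711296 IH) (Lpe (K32.f149988 IH) (Lpe (K8.f149985 IH) (Lpe (K7.f56587 IH) (Lpe (K6.f59475 IH) (Lpr_et (K2.f73257 IH) (Lpe (K56.f73262 IH) (Lpe (f73271 IH) (Lpn (LP (LK LD1_c11 LD2_c25 LD3_c6))))))))))))))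
theorem f623298 : Led Lsl_dt (LP (LK LD1_c2 LD2_c50 LD3_c29)) = (LP (LK LD1_c5 LD2_c48 LD3_c56)) :=
  Lre_d IH (LK LD1_c2 LD2_c50 LD3_c29) (LK LD1_c5 LD2_c48 LD3_c56) Lrfl Lrfl
theorem f438346 : Led Lsl_gt (LP (LK LD1_c5 LD2_c48 LD3_c57)) = (LP (LK LD1_c11 LD2_c27 LD3_c16)) :=
  Lre_g IH (LK LD1_c5 LD2_c48 LD3_c57) (LK LD1_c11 LD2_c27 LD3_c16) Lrfl Lrfl
theorem f962189 : (LP (LK LD1_c11 LD2_c27 LD3_c16)) = K65.v20162 :=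
  (Llr Lrot131 (Lpe (f438346 IH) (Lpe (K66.f623303 IH) (Lpr_dt (f623298 IH) (Lpe (f438397 IH) (Lpr_df (f711378 IH) (Lpr_gf (f962185 IH) (Lpe (K41.f56735 IH) (Lpr_dt (K65.f746590 IH) (Lpe (K65.f746597 IH) (Lpr_df (K65.f825102 IH) (Lpr_et (K66.f785256 IH) (Lpn K65.v20162))))))))))))).symm
theorem f962190 : Led Lsl_dt (LP (LK LD1_c11 LD2_c27 LD3_c16)) = (LP (LK LD1_c11 LD2_c30 LD3_c50)) :=
  Leop (Lpe (K65.f828274 IH) (Lpq (f962189 IH) (Lpn (LP (LK LD1_c11 LD2_c27 LD3_c16)))))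
theorem seed_2874 : LEOK LG_d (LK LD1_c11 LD2_c27 LD3_c16) :=
  Leoe_d (LK LD1_c11 LD2_c27 LD3_c16) (f962190 IH)
def v20161 : LQ := Led Lsl_at (LP (LK LD1_c6 LD2_c51 LD3_c9))
theorem f785121 : Led Lsl_at (LP (LK LD1_c6 LD2_c51 LD3_c9)) = v20161 :=
  Lrfl
def v28986 : LQ := Led Lsl_at K66.v8741
theorem f847101 : Led Lsl_at K66.v8741 = v28986 :=
  Lrfl
theorem f672152 : Led Lsl_ft (LP (LK LD1_c5 LD2_c48 LD3_c57)) = K66.v8741 :=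
  Lgr Lrot48 (Lpr_ff (K66.f672151 IH) (Lpn K66.v8741))
theorem f847105 : Led Lsl_gt (LP (LK LD1_c11 LD2_c27 LD3_c16)) = v28986 :=
  Lgr Lrot46 (Lpe (f438346 IH) (Lpr_ft (f672152 IH) (Lpr_at (f847101 IH) (Lpn v28986))))
theorem f743941 : Led Lsl_af (LP (LK LD1_c5 LD2_c48 LD3_c57)) = K66.v15860 :=
  Lgr Lrot50 (Lpr_et (K66.f623293 IH) (Lpr_at (K57.f496152 IH) (Lpr_et (K66.f743940 IH) (Lpn K66.v15860))))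
theorem f847104 : Led Lsl_ff K66.v15860 = v28986 :=
  Lgr Lrot30 (Lpe (f743941 IH) (Lpr_ft (f672152 IH) (Lpr_at (f847101 IH) (Lpn v28986))))
theorem f438347 : Led Lsl_gt (LP (LK LD1_c11 LD2_c27 LD3_c17)) = (LP (LK LD1_c5 LD2_c48 LD3_c57)) :=
  Lre_g IH (LK LD1_c11 LD2_c27 LD3_c17) (LK LD1_c5 LD2_c48 LD3_c57) Lrfl Lrfl
theorem f847108 : Led Lsl_gf (LP (LK LD1_c11 LD2_c27 LD3_c17)) = v28986 :=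
  Lgr Lrot47 (Lpr_gt (f438347 IH) (Lpr_af (f743941 IH) (Lpr_ff (f847104 IH) (Lpn v28986))))
theorem f962196 : v20161 = (LP (LK LD1_c11 LD2_c27 LD3_c17)) :=
  (Llr Lrot26 (Lpe (f785121 IH) (Lpr_ff (K66.f785126 IH) (Lpq (f962189 IH) (Lpr_gt (f847105 IH) (Lpe (f847108 IH) (Lpn (LP (LK LD1_c11 LD2_c27 LD3_c17))))))))).symm
theorem f785122 : Led Lsl_af (LP (LK LD1_c6 LD2_c51 LD3_c9)) = v20161 :=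
  Lgr Lrot0 (Lpr_at (f785121 IH) (Lpn v20161))
theorem f962197 : Led Lsl_at (LP (LK LD1_c11 LD2_c27 LD3_c17)) = (LP (LK LD1_c6 LD2_c51 LD3_c9)) :=
  Leop (Lpr_af (f785122 IH) (Lpqs (f962196 IH) (Lpn (LP (LK LD1_c11 LD2_c27 LD3_c17)))))
theorem seed_2875 : LEOK LG_a (LK LD1_c11 LD2_c27 LD3_c17) :=
  Leoe_a (LK LD1_c11 LD2_c27 LD3_c17) (f962197 IH)
theorem f962146 : Led Lsl_at (LP (LK LD1_c20 LD2_c22 LD3_c37)) = (LP (LK LD1_c18 LD2_c43 LD3_c24)) :=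
  Lgr Lrot100 (Lpr_af (f962144 IH) (Lpn (LP (LK LD1_c18 LD2_c43 LD3_c24))))
theorem f962305 : Led Lsl_ff (LP (LK LD1_c20 LD2_c22 LD3_c37)) = (LP (LK LD1_c18 LD2_c43 LD3_c25)) :=
  Lgr Lrot52 (Lpr_at (f962146 IH) (Lpe (K73.f616060 IH) (Lpe (K56.f544447 IH) (Lpn (LP (LK LD1_c18 LD2_c43 LD3_c25))))))
theorem f962311 : Led Lsl_ft (LP (LK LD1_c20 LD2_c22 LD3_c37)) = (LP (LK LD1_c18 LD2_c43 LD3_c25)) :=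
  Lgr Lrot48 (Lpr_ff (f962305 IH) (Lpn (LP (LK LD1_c18 LD2_c43 LD3_c25))))
theorem f962313 : Led Lsl_af (LP (LK LD1_c18 LD2_c23 LD3_c33)) = (LP (LK LD1_c18 LD2_c43 LD3_c25)) :=
  Lgr Lrot45 (Lpr_ft (f962150 IH) (Lpe (f962144 IH) (Lpr_ft (f962311 IH) (Lpn (LP (LK LD1_c18 LD2_c43 LD3_c25))))))
theorem f962317 : Led Lsl_gt (LP (LK LD1_c20 LD2_c22 LD3_c37)) = (LP (LK LD1_c18 LD2_c43 LD3_c26)) :=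
  Lgr Lrot5 (Lpr_ft (f962311 IH) (Lpe (f962313 IH) (Lpr_gf (K73.f936735 IH) (Lpn (LP (LK LD1_c18 LD2_c43 LD3_c26))))))
theorem f24116 : Led Lsl_ft (LP (LK LD1_c11 LD2_c29 LD3_c45)) = (LP (LK LD1_c5 LD2_c51 LD3_c8)) :=
  Lre_f IH (LK LD1_c11 LD2_c29 LD3_c45) (LK LD1_c5 LD2_c51 LD3_c8) Lrfl Lrfl
theorem f752608 : Led Lsl_gt (LP (LK LD1_c11 LD2_c25 LD3_c3)) = (LP (LK LD1_c11 LD2_c29 LD3_c42)) :=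
  Lgr Lrot46 (Lpr_gf (f752606 IH) (Lpr_ft (f24116 IH) (Lpr_at (K52.f24084 IH) (Lpn (LP (LK LD1_c11 LD2_c29 LD3_c42))))))
theorem f752614 : Led Lsl_dt (LP (LK LD1_c20 LD2_c22 LD3_c34)) = (LP (LK LD1_c11 LD2_c25 LD3_c3)) :=
  Lre_d IH (LK LD1_c20 LD2_c22 LD3_c34) (LK LD1_c11 LD2_c25 LD3_c3) Lrfl Lrfl
theorem f572913 : Led Lsl_df (LP (LK LD1_c11 LD2_c29 LD3_c42)) = (LP (LK LD1_c17 LD2_c57 LD3_c53)) :=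
  Lgr Lrot70 (Lpr_et (K4.f117500 IH) (Lpe (K4.f117508 IH) (Lpr_et (K42.f117512 IH) (Lpr_dt (K42.f572904 IH) (Lpr_et (K56.f572912 IH) (Lpn (LP (LK LD1_c17 LD2_c57 LD3_c53))))))))
theorem f601046 : Led Lsl_et (LP (LK LD1_c17 LD2_c57 LD3_c53)) = (LP (LK LD1_c9 LD2_c47 LD3_c34)) :=
  Lre_e IH (LK LD1_c17 LD2_c57 LD3_c53) (LK LD1_c9 LD2_c47 LD3_c34) Lrfl Lrfl
theorem f421441 : Led Lsl_dt (LP (LK LD1_c9 LD2_c47 LD3_c30)) = (LP (LK LD1_c4 LD2_c58 LD3_c24)) :=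
  Lre_d IH (LK LD1_c9 LD2_c47 LD3_c30) (LK LD1_c4 LD2_c58 LD3_c24) Lrfl Lrfl
theorem f567587 : Led Lsl_gt (LP (LK LD1_c17 LD2_c57 LD3_c50)) = (LP (LK LD1_c27 LD2_c42 LD3_c16)) :=
  Lre_g IH (LK LD1_c17 LD2_c57 LD3_c50) (LK LD1_c27 LD2_c42 LD3_c16) Lrfl Lrfl
theorem f752618 : Led Lsl_et (LP (LK LD1_c20 LD2_c22 LD3_c34)) = (LP (LK LD1_c27 LD2_c42 LD3_c16)) :=
  Lgr Lrot122 (Lpr_dt (f752614 IH) (Lpr_gt (f752608 IH) (Lpr_df (f572913 IH) (Lpr_et (f601046 IH) (Lpr_gt (K42.f148950 IH) (Lpr_dt (K42.f421414 IH) (Lpr_gt (K37.f157022 IH) (Lpe (f421441 IH) (Lpr_et (K45.f421442 IH) (Lpr_gt (f567587 IH) (Lpn (LP (LK LD1_c27 LD2_c42 LD3_c16)))))))))))))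
theorem f752620 : Led Lsl_bt (LP (LK LD1_c11 LD2_c25 LD3_c5)) = (LP (LK LD1_c20 LD2_c22 LD3_c34)) :=
  Lre_b IH (LK LD1_c11 LD2_c25 LD3_c5) (LK LD1_c20 LD2_c22 LD3_c34) Lrfl Lrfl
theorem f752621 : Led Lsl_bf (LP (LK LD1_c20 LD2_c22 LD3_c37)) = (LP (LK LD1_c27 LD2_c42 LD3_c16)) :=
  Lgr Lrot96 (Lpr_et (f711385 IH) (Lpr_bt (f752620 IH) (Lpr_et (f752618 IH) (Lpn (LP (LK LD1_c27 LD2_c42 LD3_c16))))))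
theorem f752712 : Led Lsl_bf (LP (LK LD1_c10 LD2_c4 LD3_c25)) = (LP (LK LD1_c10 LD2_c4 LD3_c5)) :=
  Lgr Lrot61 (Lpr_ft (K56.f752710 IH) (Lpr_bt (K74.f421768 IH) (Lpe (K73.f639438 IH) (Lpn (LP (LK LD1_c10 LD2_c4 LD3_c5))))))
theorem f636195 : Led Lsl_gt (LP (LK LD1_c10 LD2_c4 LD3_c23)) = (LP (LK LD1_c18 LD2_c23 LD3_c10)) :=
  Lre_g IH (LK LD1_c10 LD2_c4 LD3_c23) (LK LD1_c18 LD2_c23 LD3_c10) Lrfl Lrfl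
theorem f962319 : Led Lsl_ct (LP (LK LD1_c27 LD2_c42 LD3_c16)) = (LP (LK LD1_c18 LD2_c23 LD3_c10)) :=
  Lgr Lrot63 (Lpe (f752621 IH) (Lpr_gt (f962317 IH) (Lpe (K73.f616087 IH) (Lpr_ct (K73.f936724 IH) (Lpe (K73.f936730 IH) (Lpe (K73.f930362 IH) (Lpe (f752712 IH) (Lpr_gt (K56.f169819 IH) (Lpr_ct (K38.f169809 IH) (Lpr_gt (f636195 IH) (Lpn (LP (LK LD1_c18 LD2_c23 LD3_c10)))))))))))))
theorem f962320 : Led Lsl_ct (LP (LK LD1_c27 LD2_c42 LD3_c16)) = (LP (LK LD1_c18 LD2_c23 LD3_c10)) :=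
  Leop (Lpe (f962319 IH) (Lpn (LP (LK LD1_c27 LD2_c42 LD3_c16))))
theorem seed_2876 : LEOK LG_c (LK LD1_c27 LD2_c42 LD3_c16) :=
  Leoe_c (LK LD1_c27 LD2_c42 LD3_c16) (f962320 IH)
def v48043 : LQ := Led Lsl_at (LP (LK LD1_c11 LD2_c25 LD3_c28))
theorem f962541 : Led Lsl_at (LP (LK LD1_c11 LD2_c25 LD3_c28)) = v48043 :=
  Lrfl
theorem f100038 : Led Lsl_bt (LP (LK LD1_c26 LD2_c57 LD3_c51)) = (LP (LK LD1_c17 LD2_c3 LD3_c4)) :=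
  Lre_b IH (LK LD1_c26 LD2_c57 LD3_c51) (LK LD1_c17 LD2_c3 LD3_c4) Lrfl Lrfl
theorem f100154 : Led Lsl_bt (LP (LK LD1_c9 LD2_c9 LD3_c61)) = (LP (LK LD1_c5 LD2_c58 LD3_c10)) :=
  Lgr Lrot128 (Lpe (K6.f100028 IH) (Lpe (f100038 IH) (Lpr_cf (K6.f100151 IH) (Lpe (K6.f74904 IH) (Lpe (K2.f74896 IH) (Lpn (LP (LK LD1_c5 LD2_c58 LD3_c10))))))))
theorem f100039 : Led Lsl_ct (LP (LK LD1_c9 LD2_c9 LD3_c61)) = (LP (LK LD1_c17 LD2_c3 LD3_c4)) :=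
  Lre_c IH (LK LD1_c9 LD2_c9 LD3_c61) (LK LD1_c17 LD2_c3 LD3_c4) Lrfl Lrfl
theorem f100057 : Led Lsl_gt (LP (LK LD1_c4 LD2_c39 LD3_c61)) = (LP (LK LD1_c9 LD2_c15 LD3_c27)) :=
  Lre_g IH (LK LD1_c4 LD2_c39 LD3_c61) (LK LD1_c9 LD2_c15 LD3_c27) Lrfl Lrfl
theorem f100058 : Led Lsl_gf (LP (LK LD1_c17 LD2_c3 LD3_c4)) = (LP (LK LD1_c9 LD2_c15 LD3_c27)) :=
  Lgr Lrot76 (Lpr_af (K6.f100036 IH) (Lpe (K73.f100056 IH) (Lpr_gt (f100057 IH) (Lpn (LP (LK LD1_c9 LD2_c15 LD3_c27))))))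
theorem f100294 : Led Lsl_bt (LP (LK LD1_c2 LD2_c50 LD3_c3)) = (LP (LK LD1_c5 LD2_c47 LD3_c56)) :=
  Lre_b IH (LK LD1_c2 LD2_c50 LD3_c3) (LK LD1_c5 LD2_c47 LD3_c56) Lrfl Lrfl
theorem f100304 : Led Lsl_gt (LP (LK LD1_c5 LD2_c47 LD3_c56)) = (LP (LK LD1_c11 LD2_c25 LD3_c28)) :=
  Lre_g IH (LK LD1_c5 LD2_c47 LD3_c56) (LK LD1_c11 LD2_c25 LD3_c28) Lrfl Lrfl
theorem f712530 : Led Lsl_cf (LP (LK LD1_c9 LD2_c15 LD3_c27)) = (LP (LK LD1_c11 LD2_c25 LD3_c28)) :=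
  Lgr Lrot125 (Lpe (f100058 IH) (Lpe (f100039 IH) (Lpr_bt (f100154 IH) (Lpe (K73.f76247 IH) (Lpe (K56.f58505 IH) (Lpr_ct (K56.f712142 IH) (Lpr_gt (K52.f117187 IH) (Lpe (K52.f100326 IH) (Lpr_bt (f100294 IH) (Lpr_gt (f100304 IH) (Lpn (LP (LK LD1_c11 LD2_c25 LD3_c28)))))))))))))
theorem f712532 : Led Lsl_ct (LP (LK LD1_c9 LD2_c15 LD3_c27)) = (LP (LK LD1_c11 LD2_c25 LD3_c28)) :=
  Lgr Lrot59 (Lpr_cf (f712530 IH) (Lpn (LP (LK LD1_c11 LD2_c25 LD3_c28))))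
def v38769 : LQ := Led Lsl_at (LP (LK LD1_c9 LD2_c15 LD3_c27))
theorem f904398 : Led Lsl_at (LP (LK LD1_c9 LD2_c15 LD3_c27)) = v38769 :=
  Lrfl
theorem f904399 : Led Lsl_af (LP (LK LD1_c9 LD2_c15 LD3_c27)) = v38769 :=
  Lgr Lrot0 (Lpr_at (f904398 IH) (Lpn v38769))
theorem f962543 : Led Lsl_cf v38769 = v48043 :=
  Lgr Lrot1 (Lpe (f904399 IH) (Lpr_ct (f712532 IH) (Lpr_at (f962541 IH) (Lpn v48043))))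
theorem f904400 : Led Lsl_ft (LP (LK LD1_c9 LD2_c15 LD3_c28)) = v38769 :=
  Lgr Lrot2 (Lpr_gt (K69.f80105 IH) (Lpr_gt (f100057 IH) (Lpr_af (f904399 IH) (Lpn v38769))))
theorem f904401 : Led Lsl_ff (LP (LK LD1_c9 LD2_c15 LD3_c28)) = v38769 :=
  Lgr Lrot3 (Lpr_ft (f904400 IH) (Lpn v38769))
theorem f711847 : Led Lsl_gt (LP (LK LD1_c9 LD2_c15 LD3_c37)) = (LP (LK LD1_c16 LD2_c59 LD3_c37)) :=
  Lgr Lrot46 (Lpr_gf (K56.f711845 IH) (Lpr_ft (K4.f24117 IH) (Lpe (K4.f117481 IH) (Lpn (LP (LK LD1_c16 LD2_c59 LD3_c37))))))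
theorem f132452 : Led Lsl_bt (LP (LK LD1_c20 LD2_c26 LD3_c47)) = (LP (LK LD1_c20 LD2_c22 LD3_c51)) :=
  Lgr Lrot127 (Lpr_bf (K51.f132447 IH) (Lpn (LP (LK LD1_c20 LD2_c22 LD3_c51))))
theorem f132454 : Led Lsl_gt (LP (LK LD1_c20 LD2_c22 LD3_c51)) = (LP (LK LD1_c11 LD2_c25 LD3_c29)) :=
  Lre_g IH (LK LD1_c20 LD2_c22 LD3_c51) (LK LD1_c11 LD2_c25 LD3_c29) Lrfl Lrfl
theorem f711859 : Led Lsl_cf (LP (LK LD1_c9 LD2_c15 LD3_c28)) = (LP (LK LD1_c11 LD2_c25 LD3_c29)) :=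
  Lgr Lrot125 (Lpr_gt (K69.f80105 IH) (Lpe (K6.f100094 IH) (Lpr_bt (K65.f76218 IH) (Lpr_gt (K0.f20110 IH) (Lpe (K56.f58588 IH) (Lpr_ct (K56.f58589 IH) (Lpr_gt (f711847 IH) (Lpr_cf (K4.f117490 IH) (Lpr_bt (f132452 IH) (Lpr_gt (f132454 IH) (Lpn (LP (LK LD1_c11 LD2_c25 LD3_c29)))))))))))))
theorem f711862 : Led Lsl_ct (LP (LK LD1_c9 LD2_c15 LD3_c28)) = (LP (LK LD1_c11 LD2_c25 LD3_c29)) :=
  Lgr Lrot59 (Lpr_cf (f711859 IH) (Lpn (LP (LK LD1_c11 LD2_c25 LD3_c29))))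
theorem f962545 : Led Lsl_ft (LP (LK LD1_c11 LD2_c25 LD3_c29)) = v48043 :=
  Lgr Lrot4 (Lpe (f711862 IH) (Lpr_ff (f904401 IH) (Lpr_cf (f962543 IH) (Lpn v48043))))
theorem f962547 : Led Lsl_ff (LP (LK LD1_c11 LD2_c25 LD3_c29)) = v48043 :=
  Lgr Lrot3 (Lpr_ft (f962545 IH) (Lpn v48043))
theorem f74200 : Led Lsl_at (LP (LK LD1_c2 LD2_c52 LD3_c1)) = (LP (LK LD1_c4 LD2_c58 LD3_c36)) :=
  Lgr Lrot67 (Lpe (K32.f73614 IH) (Lpr_af (K2.f73605 IH) (Lpe (K70.f73199 IH) (Lpe (K73.f73246 IH) (Lpr_bf (K2.f74195 IH) (Lpn (LP (LK LD1_c4 LD2_c58 LD3_c36))))))))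
theorem f79694 : Led Lsl_gt (LP (LK LD1_c9 LD2_c47 LD3_c43)) = (LP (LK LD1_c4 LD2_c58 LD3_c36)) :=
  Lre_g IH (LK LD1_c9 LD2_c47 LD3_c43) (LK LD1_c4 LD2_c58 LD3_c36) Lrfl Lrfl
theorem f79695 : Led Lsl_gt (LP (LK LD1_c5 LD2_c51 LD3_c38)) = (LP (LK LD1_c9 LD2_c47 LD3_c43)) :=
  Lgr Lrot5 (Lpr_ft (K2.f74439 IH) (Lpr_at (f74200 IH) (Lpe (f79694 IH) (Lpn (LP (LK LD1_c9 LD2_c47 LD3_c43))))))
theorem f711866 : Led Lsl_bf (LP (LK LD1_c9 LD2_c47 LD3_c43)) = (LP (LK LD1_c11 LD2_c25 LD3_c29)) :=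
  Lgr Lrot34 (Lpe (f79695 IH) (Lpe (K2.f74220 IH) (Lpr_ct (K32.f76611 IH) (Lpe (K9.f68287 IH) (Lpe (K50.f140014 IH) (Lpe (K0.f20110 IH) (Lpe (K65.f76218 IH) (Lpr_ct (K6.f100094 IH) (Lpe (K69.f80105 IH) (Lpr_cf (f711859 IH) (Lpn (LP (LK LD1_c11 LD2_c25 LD3_c29)))))))))))))
def v40836 : LQ := Led Lsl_ft (LP (LK LD1_c9 LD2_c47 LD3_c43))
theorem f920608 : Led Lsl_ft (LP (LK LD1_c9 LD2_c47 LD3_c43)) = v40836 :=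
  Lrfl
theorem f962548 : Led Lsl_bt v40836 = v48043 :=
  Lgr Lrot35 (Lpe (f920608 IH) (Lpr_bf (f711866 IH) (Lpr_ff (f962547 IH) (Lpn v48043))))
theorem f920610 : Led Lsl_ff (LP (LK LD1_c9 LD2_c47 LD3_c43)) = v40836 :=
  Lgr Lrot3 (Lpr_ft (f920608 IH) (Lpn v40836))
def v40834 : LQ := Led Lsl_at (LP (LK LD1_c9 LD2_c47 LD3_c43))
theorem f920601 : Led Lsl_at (LP (LK LD1_c9 LD2_c47 LD3_c43)) = v40834 :=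
  Lrfl
theorem f920602 : Led Lsl_af (LP (LK LD1_c9 LD2_c47 LD3_c43)) = v40834 :=
  Lgr Lrot0 (Lpr_at (f920601 IH) (Lpn v40834))
def v14107 : LQ := Led Lsl_gt (LP (LK LD1_c4 LD2_c58 LD3_c36))
theorem f719036 : Led Lsl_gt (LP (LK LD1_c4 LD2_c58 LD3_c36)) = v14107 :=
  Lrfl
theorem f73231 : Led Lsl_at (LP (LK LD1_c5 LD2_c47 LD3_c36)) = (LP (LK LD1_c11 LD2_c24 LD3_c48)) :=
  Lre_a IH (LK LD1_c5 LD2_c47 LD3_c36) (LK LD1_c11 LD2_c24 LD3_c48) Lrfl Lrfl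
theorem f74215 : Led Lsl_af (LP (LK LD1_c5 LD2_c51 LD3_c38)) = (LP (LK LD1_c9 LD2_c47 LD3_c44)) :=
  Lgr Lrot36 (Lpr_bt (K32.f73600 IH) (Lpr_at (K2.f73596 IH) (Lpr_bt (K2.f73223 IH) (Lpr_at (f73231 IH) (Lpr_bt (K2.f74209 IH) (Lpn (LP (LK LD1_c9 LD2_c47 LD3_c44))))))))
theorem f719037 : Led Lsl_gf (LP (LK LD1_c5 LD2_c51 LD3_c38)) = v14107 :=
  Lgr Lrot76 (Lpr_af (f74215 IH) (Lpe (K71.f74224 IH) (Lpr_gt (f719036 IH) (Lpn v14107))))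
theorem f920603 : Led Lsl_ft v14107 = v40834 :=
  Lgr Lrot2 (Lpe (f719037 IH) (Lpr_gt (f79695 IH) (Lpr_af (f920602 IH) (Lpn v40834))))
theorem f920604 : Led Lsl_ff v14107 = v40834 :=
  Lgr Lrot3 (Lpr_ft (f920603 IH) (Lpn v40834))
theorem f920611 : Led Lsl_at v14107 = v40836 :=
  Lgr Lrot66 (Lpr_ff (f920604 IH) (Lpe (f920601 IH) (Lpr_ff (f920610 IH) (Lpn v40836))))
theorem f210023 : Led Lsl_gt (LP (LK LD1_c5 LD2_c49 LD3_c61)) = (LP (LK LD1_c11 LD2_c28 LD3_c25)) :=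
  Lre_g IH (LK LD1_c5 LD2_c49 LD3_c61) (LK LD1_c11 LD2_c28 LD3_c25) Lrfl Lrfl
theorem f138530 : Led Lsl_ft (LP (LK LD1_c12 LD2_c9 LD3_c33)) = (LP (LK LD1_c6 LD2_c15 LD3_c58)) :=
  Lre_f IH (LK LD1_c12 LD2_c9 LD3_c33) (LK LD1_c6 LD2_c15 LD3_c58) Lrfl Lrfl
theorem f906349 : Led Lsl_gt (LP (LK LD1_c12 LD2_c9 LD3_c33)) = K70.v39086 :=
  Lgr Lrot5 (Lpr_ft (f138530 IH) (Lpe (K38.f545637 IH) (Lpr_gf (K70.f906348 IH) (Lpn K70.v39086))))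
theorem f757885 : Led Lsl_at K70.v16176 = K69.v17234 :=
  Lgr Lrot66 (Lpe (K70.f746849 IH) (Lpe (K69.f138583 IH) (Lpr_ff (K69.f757884 IH) (Lpn K69.v17234))))
def v16173 : LQ := Led Lsl_gt (LP (LK LD1_c5 LD2_c54 LD3_c28))
theorem f746843 : Led Lsl_gt (LP (LK LD1_c5 LD2_c54 LD3_c28)) = v16173 :=
  Lrfl
theorem f757889 : Led Lsl_gt v16173 = K69.v17234 :=
  Lgr Lrot46 (Lpe (f746843 IH) (Lpr_ft (K70.f746849 IH) (Lpr_at (f757885 IH) (Lpn K69.v17234))))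
theorem f906355 : Led Lsl_ct (LP (LK LD1_c11 LD2_c28 LD3_c25)) = v16173 :=
  Lgr Lrot91 (Lpe (f210023 IH) (Lpe (K64.f210019 IH) (Lpr_ct (K64.f640638 IH) (Lpr_gf (K69.f824875 IH) (Lpe (K69.f824877 IH) (Lpr_bt (K70.f906351 IH) (Lpe (f906349 IH) (Lpe (K69.f138462 IH) (Lpr_ct (K69.f757886 IH) (Lpe (f757889 IH) (Lpn v16173)))))))))))
theorem f752885 : Led Lsl_bt (LP (LK LD1_c11 LD2_c29 LD3_c7)) = K56.v16931 :=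
  Lgr Lrot127 (Lpr_bf (K56.f752884 IH) (Lpn K56.v16931))
theorem f74213 : Led Lsl_ct (LP (LK LD1_c4 LD2_c58 LD3_c36)) = (LP (LK LD1_c9 LD2_c47 LD3_c42)) :=
  Lre_c IH (LK LD1_c4 LD2_c58 LD3_c36) (LK LD1_c9 LD2_c47 LD3_c42) Lrfl Lrfl
theorem f74214 : Led Lsl_gt (LP (LK LD1_c17 LD2_c57 LD3_c58)) = (LP (LK LD1_c9 LD2_c47 LD3_c42)) :=
  Lre_g IH (LK LD1_c17 LD2_c57 LD3_c58) (LK LD1_c9 LD2_c47 LD3_c42) Lrfl Lrfl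
theorem f753214 : Led Lsl_cf (LP (LK LD1_c17 LD2_c57 LD3_c58)) = (LP (LK LD1_c11 LD2_c29 LD3_c7)) :=
  Lgr Lrot125 (Lpr_gt (f74214 IH) (Lpe (f74213 IH) (Lpe (K2.f74195 IH) (Lpr_gt (K60.f73446 IH) (Lpr_bf (K60.f753208 IH) (Lpe (K60.f753201 IH) (Lpe (K60.f499887 IH) (Lpe (K60.f157098 IH) (Lpr_bt (K32.f157092 IH) (Lpr_gt (K60.f560109 IH) (Lpn (LP (LK LD1_c11 LD2_c29 LD3_c7)))))))))))))
theorem f74204 : Led Lsl_ct (LP (LK LD1_c9 LD2_c47 LD3_c42)) = (LP (LK LD1_c4 LD2_c58 LD3_c36)) :=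
  Lre_c IH (LK LD1_c9 LD2_c47 LD3_c42) (LK LD1_c4 LD2_c58 LD3_c36) Lrfl Lrfl
theorem f74241 : Led Lsl_at (LP (LK LD1_c5 LD2_c51 LD3_c35)) = (LP (LK LD1_c9 LD2_c47 LD3_c42)) :=
  Lgr Lrot107 (Lpe (K56.f74240 IH) (Lpr_af (K2.f74233 IH) (Lpe (f74204 IH) (Lpn (LP (LK LD1_c9 LD2_c47 LD3_c42))))))
theorem f79690 : Led Lsl_gt (LP (LK LD1_c11 LD2_c30 LD3_c36)) = (LP (LK LD1_c17 LD2_c57 LD3_c58)) :=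
  Lgr Lrot5 (Lpr_ft (K32.f76384 IH) (Lpr_at (f74241 IH) (Lpe (f74214 IH) (Lpn (LP (LK LD1_c17 LD2_c57 LD3_c58))))))
theorem f906357 : Led Lsl_bt (LP (LK LD1_c11 LD2_c28 LD3_c25)) = v14107 :=
  Lgr Lrot130 (Lpr_ct (f906355 IH) (Lpe (f746843 IH) (Lpe (K8.f138408 IH) (Lpr_bt (K69.f137313 IH) (Lpe (K56.f132399 IH) (Lpq (K56.f753031 IH) (Lpe (f752885 IH) (Lpe (f753214 IH) (Lpe (f79690 IH) (Lpe (K51.f74434 IH) (Lpr_gf (f719037 IH) (Lpn v14107))))))))))))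
theorem f962542 : Led Lsl_af (LP (LK LD1_c11 LD2_c25 LD3_c28)) = v48043 :=
  Lgr Lrot0 (Lpr_at (f962541 IH) (Lpn v48043))
theorem f712537 : Led Lsl_bt (LP (LK LD1_c11 LD2_c25 LD3_c28)) = (LP (LK LD1_c20 LD2_c22 LD3_c53)) :=
  Lre_b IH (LK LD1_c11 LD2_c25 LD3_c28) (LK LD1_c20 LD2_c22 LD3_c53) Lrfl Lrfl
theorem f962549 : Led Lsl_af (LP (LK LD1_c11 LD2_c28 LD3_c25)) = (LP (LK LD1_c20 LD2_c22 LD3_c53)) :=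
  Lgr Lrot36 (Lpr_bt (f906357 IH) (Lpr_at (f920611 IH) (Lpr_bt (f962548 IH) (Lpe (f962542 IH) (Lpr_bt (f712537 IH) (Lpn (LP (LK LD1_c20 LD2_c22 LD3_c53))))))))
theorem f962550 : Led Lsl_at (LP (LK LD1_c20 LD2_c22 LD3_c53)) = (LP (LK LD1_c11 LD2_c28 LD3_c25)) :=
  Leop (Lpr_af (f962549 IH) (Lpn (LP (LK LD1_c20 LD2_c22 LD3_c53))))
theorem seed_2877 : LEOK LG_a (LK LD1_c20 LD2_c22 LD3_c53) :=
  Leoe_a (LK LD1_c20 LD2_c22 LD3_c53) (f962550 IH)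
def v16009 : LQ := Led Lsl_at (LP (LK LD1_c5 LD2_c51 LD3_c36))
theorem f744797 : Led Lsl_at (LP (LK LD1_c5 LD2_c51 LD3_c36)) = v16009 :=
  Lrfl
theorem f744798 : Led Lsl_af (LP (LK LD1_c5 LD2_c51 LD3_c36)) = v16009 :=
  Lgr Lrot0 (Lpr_at (f744797 IH) (Lpn v16009))
theorem f744799 : Led Lsl_ft (LP (LK LD1_c5 LD2_c51 LD3_c37)) = v16009 :=
  Lgr Lrot2 (Lpr_gt (K65.f74246 IH) (Lpr_gt (K56.f74235 IH) (Lpr_af (f744798 IH) (Lpn v16009))))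
theorem f962554 : Led Lsl_ft (LP (LK LD1_c11 LD2_c28 LD3_c26)) = (LP (LK LD1_c20 LD2_c22 LD3_c53)) :=
  Lgr Lrot2 (Lpr_gt (K64.f210024 IH) (Lpr_gt (f210023 IH) (Lpr_af (f962549 IH) (Lpn (LP (LK LD1_c20 LD2_c22 LD3_c53))))))
theorem f962559 : Led Lsl_ff (LP (LK LD1_c11 LD2_c28 LD3_c26)) = (LP (LK LD1_c20 LD2_c22 LD3_c53)) :=
  Lgr Lrot3 (Lpr_ft (f962554 IH) (Lpn (LP (LK LD1_c20 LD2_c22 LD3_c53))))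
theorem f428347 : Led Lsl_cf (LP (LK LD1_c11 LD2_c40 LD3_c9)) = (LP (LK LD1_c9 LD2_c47 LD3_c39)) :=
  Lgr Lrot11 (Lpr_ct (K64.f426052 IH) (Lpn (LP (LK LD1_c9 LD2_c47 LD3_c39))))
theorem f752482 : Led Lsl_gf (LP (LK LD1_c20 LD2_c22 LD3_c53)) = (LP (LK LD1_c11 LD2_c28 LD3_c24)) :=
  Lgr Lrot124 (Lpe (f712537 IH) (Lpe (f712530 IH) (Lpe (f100058 IH) (Lpe (f100039 IH) (Lpr_bt (f100154 IH) (Lpe (K73.f76247 IH) (Lpr_ct (K56.f76251 IH) (Lpr_gt (K56.f752478 IH) (Lpr_cf (f428347 IH) (Lpe (K65.f499721 IH) (Lpn (LP (LK LD1_c11 LD2_c28 LD3_c24)))))))))))))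
theorem f752484 : Led Lsl_gt (LP (LK LD1_c20 LD2_c22 LD3_c53)) = (LP (LK LD1_c11 LD2_c28 LD3_c27)) :=
  Lgr Lrot46 (Lpr_gf (f752482 IH) (Lpr_ft (K53.f209999 IH) (Lpr_at (K64.f210011 IH) (Lpn (LP (LK LD1_c11 LD2_c28 LD3_c27))))))
theorem f962564 : Led Lsl_at (LP (LK LD1_c11 LD2_c28 LD3_c26)) = K70.v16014 :=
  Lgr Lrot26 (Lpr_ff (f962559 IH) (Lpr_gt (f752484 IH) (Lpr_gt (K70.f906382 IH) (Lpn K70.v16014))))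
theorem f962551 : Led Lsl_at (LP (LK LD1_c11 LD2_c28 LD3_c25)) = (LP (LK LD1_c20 LD2_c22 LD3_c53)) :=
  Lgr Lrot100 (Lpr_af (f962549 IH) (Lpn (LP (LK LD1_c20 LD2_c22 LD3_c53))))
theorem f962567 : Led Lsl_ff (LP (LK LD1_c11 LD2_c28 LD3_c25)) = K70.v16014 :=
  Lgr Lrot30 (Lpr_at (f962551 IH) (Lpe (f962559 IH) (Lpr_at (f962564 IH) (Lpn K70.v16014))))
theorem f962570 : v40834 = (LP (LK LD1_c5 LD2_c51 LD3_c37)) :=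
  (Llr Lrot75 (Lpe (f920603 IH) (Lpe (f906357 IH) (Lpr_ff (f962567 IH) (Lpe (K70.f744815 IH) (Lpn (LP (LK LD1_c5 LD2_c51 LD3_c37)))))))).symm
theorem f962574 : v14107 = v16009 :=
  Lefun (Lecon (Lfl_ff (f920604 IH)) (f962570 IH)) (f744799 IH)
def v41028 : LQ := Led Lsl_dt (LP (LK LD1_c9 LD2_c50 LD3_c39))
theorem f921648 : Led Lsl_dt (LP (LK LD1_c9 LD2_c50 LD3_c39)) = v41028 :=
  Lrfl
theorem f921649 : Led Lsl_df (LP (LK LD1_c9 LD2_c50 LD3_c39)) = v41028 :=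
  Lgr Lrot38 (Lpr_dt (f921648 IH) (Lpn v41028))
theorem f73950 : Led Lsl_gt (LP (LK LD1_c9 LD2_c50 LD3_c39)) = (LP (LK LD1_c5 LD2_c0 LD3_c2)) :=
  Lre_g IH (LK LD1_c9 LD2_c50 LD3_c39) (LK LD1_c5 LD2_c0 LD3_c2) Lrfl Lrfl
theorem f80046 : Led Lsl_dt (LP (LK LD1_c2 LD2_c27 LD3_c47)) = (LP (LK LD1_c5 LD2_c0 LD3_c2)) :=
  Lre_d IH (LK LD1_c2 LD2_c27 LD3_c47) (LK LD1_c5 LD2_c0 LD3_c2) Lrfl Lrfl
theorem f80045 : Led Lsl_et (LP (LK LD1_c2 LD2_c27 LD3_c47)) = (LP (LK LD1_c1 LD2_c11 LD3_c0)) :=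
  Lre_e IH (LK LD1_c2 LD2_c27 LD3_c47) (LK LD1_c1 LD2_c11 LD3_c0) Lrfl Lrfl
theorem f921650 : Led Lsl_ef v14107 = v41028 :=
  Lgr Lrot17 (Lpe (f719036 IH) (Lpe (K2.f74194 IH) (Lpe (K2.f74192 IH) (Lpr_gf (K4.f72858 IH) (Lpr_df (K4.f80023 IH) (Lpe (K0.f23455 IH) (Lpe (f80045 IH) (Lpr_dt (f80046 IH) (Lpe (f73950 IH) (Lpr_df (f921649 IH) (Lpn v41028)))))))))))
theorem f921651 : Led Lsl_et v14107 = v41028 :=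
  Lgr Lrot87 (Lpr_ef (f921650 IH) (Lpn v41028))
theorem f962747 : Led Lsl_af K71.v16012 = v41028 :=
  Lgr Lrot50 (Lpe (K71.f744807 IH) (Lpr_at (f744797 IH) (Lpq (f962574 IH) (Lpr_et (f921651 IH) (Lpn v41028)))))
def v41025 : LQ := Led Lsl_ft (LP (LK LD1_c9 LD2_c50 LD3_c38))
theorem f921637 : Led Lsl_ft (LP (LK LD1_c9 LD2_c50 LD3_c38)) = v41025 :=
  Lrfl
def v41021 : LQ := Led Lsl_at (LP (LK LD1_c9 LD2_c50 LD3_c38))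
theorem f921624 : Led Lsl_at (LP (LK LD1_c9 LD2_c50 LD3_c38)) = v41021 :=
  Lrfl
theorem f921625 : Led Lsl_af (LP (LK LD1_c9 LD2_c50 LD3_c38)) = v41021 :=
  Lgr Lrot0 (Lpr_at (f921624 IH) (Lpn v41021))
theorem f77029 : Led Lsl_gt (LP (LK LD1_c5 LD2_c0 LD3_c2)) = (LP (LK LD1_c9 LD2_c50 LD3_c38)) :=
  Lre_g IH (LK LD1_c5 LD2_c0 LD3_c2) (LK LD1_c9 LD2_c50 LD3_c38) Lrfl Lrfl
theorem f921626 : Led Lsl_ft (LP (LK LD1_c9 LD2_c50 LD3_c39)) = v41021 :=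
  Lgr Lrot2 (Lpr_gt (f73950 IH) (Lpr_gt (f77029 IH) (Lpr_af (f921625 IH) (Lpn v41021))))
theorem f921638 : Led Lsl_af (LP (LK LD1_c9 LD2_c50 LD3_c39)) = v41025 :=
  Lgr Lrot45 (Lpr_ft (f921626 IH) (Lpe (f921625 IH) (Lpr_ft (f921637 IH) (Lpn v41025))))
theorem f962749 : (LP (LK LD1_c17 LD2_c34 LD3_c22)) = v41025 :=
  (Llr Lrot44 (Lpr_df (K71.f744808 IH) (Lpr_af (f962747 IH) (Lpe (f921648 IH) (Lpr_af (f921638 IH) (Lpn v41025)))))).symm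
theorem f962750 : Led Lsl_at (LP (LK LD1_c17 LD2_c34 LD3_c22)) = (LP (LK LD1_c9 LD2_c50 LD3_c39)) :=
  Leop (Lpr_af (f921638 IH) (Lpq (f962749 IH) (Lpn (LP (LK LD1_c17 LD2_c34 LD3_c22)))))
theorem seed_2878 : LEOK LG_a (LK LD1_c17 LD2_c34 LD3_c22) :=
  Leoe_a (LK LD1_c17 LD2_c34 LD3_c22) (f962750 IH)
def v48047 : LQ := Led Lsl_et (LP (LK LD1_c11 LD2_c25 LD3_c37))
theorem f962778 : Led Lsl_et (LP (LK LD1_c11 LD2_c25 LD3_c37)) = v48047 :=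
  Lrfl
theorem f962780 : Led Lsl_ef (LP (LK LD1_c11 LD2_c25 LD3_c37)) = v48047 :=
  Lgr Lrot88 (Lpr_et (f962778 IH) (Lpn v48047))
theorem f65983 : Led Lsl_at (LP (LK LD1_c3 LD2_c51 LD3_c21)) = (LP (LK LD1_c1 LD2_c52 LD3_c30)) :=
  Lre_a IH (LK LD1_c3 LD2_c51 LD3_c21) (LK LD1_c1 LD2_c52 LD3_c30) Lrfl Lrfl
theorem f136267 : Led Lsl_ft (LP (LK LD1_c2 LD2_c50 LD3_c12)) = (LP (LK LD1_c3 LD2_c51 LD3_c21)) :=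
  Lgr Lrot142 (Lpe (K6.f135925 IH) (Lpr_ct (K4.f115835 IH) (Lpr_dt (K5.f130150 IH) (Lpr_ct (K6.f136255 IH) (Lpr_dt (K6.f8363 IH) (Lpr_ct (K6.f8371 IH) (Lpe (K6.f136246 IH) (Lpr_ct (K6.f135966 IH) (Lpe (f65983 IH) (Lpn (LP (LK LD1_c3 LD2_c51 LD3_c21))))))))))))
theorem f713830 : Led Lsl_et (LP (LK LD1_c6 LD2_c47 LD3_c18)) = (LP (LK LD1_c9 LD2_c50 LD3_c60)) :=
  Lgr Lrot69 (Lpe (K51.f707404 IH) (Lpe (K57.f65980 IH) (Lpe (f136267 IH) (Lpe (K6.f66383 IH) (Lpr_ff (K53.f713822 IH) (Lpn (LP (LK LD1_c9 LD2_c50 LD3_c60))))))))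
theorem f135970 : Led Lsl_gt (LP (LK LD1_c14 LD2_c35 LD3_c31)) = (LP (LK LD1_c7 LD2_c44 LD3_c12)) :=
  Lre_g IH (LK LD1_c14 LD2_c35 LD3_c31) (LK LD1_c7 LD2_c44 LD3_c12) Lrfl Lrfl
theorem f707423 : Led Lsl_gf (LP (LK LD1_c14 LD2_c35 LD3_c31)) = (LP (LK LD1_c12 LD2_c57 LD3_c38)) :=
  Lgr Lrot47 (Lpr_gt (f135970 IH) (Lpe (K52.f130614 IH) (Lpr_ff (K51.f707412 IH) (Lpn (LP (LK LD1_c12 LD2_c57 LD3_c38))))))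
theorem f962784 : Led Lsl_df (LP (LK LD1_c14 LD2_c35 LD3_c31)) = v48047 :=
  Lgr Lrot168 (Lpr_gf (f707423 IH) (Lpe (K51.f454461 IH) (Lpr_et (f713830 IH) (Lpe (K53.f714666 IH) (Lpe (K55.f714677 IH) (Lpr_dt (K55.f714678 IH) (Lpr_gf (K55.f440845 IH) (Lpe (K4.f112243 IH) (Lpe (K55.f440842 IH) (Lpr_ef (f962780 IH) (Lpn v48047)))))))))))
theorem f502704 : Led Lsl_et (LP (LK LD1_c11 LD2_c29 LD3_c47)) = (LP (LK LD1_c20 LD2_c26 LD3_c54)) :=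
  Lre_e IH (LK LD1_c11 LD2_c29 LD3_c47) (LK LD1_c20 LD2_c26 LD3_c54) Lrfl Lrfl
theorem f962783 : Led Lsl_at (LP (LK LD1_c20 LD2_c26 LD3_c54)) = v48047 :=
  Lgr Lrot80 (Lpe (f502704 IH) (Lpe (K56.f753041 IH) (Lpr_ef (f962780 IH) (Lpn v48047))))
theorem f135933 : Led Lsl_ft (LP (LK LD1_c3 LD2_c51 LD3_c21)) = (LP (LK LD1_c2 LD2_c50 LD3_c12)) :=
  Lgr Lrot54 (Lpe (K5.f65976 IH) (Lpe (K4.f115851 IH) (Lpr_df (K6.f135925 IH) (Lpn (LP (LK LD1_c2 LD2_c50 LD3_c12))))))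
theorem f160990 : Led Lsl_af (LP (LK LD1_c3 LD2_c29 LD3_c60)) = (LP (LK LD1_c2 LD2_c50 LD3_c12)) :=
  Lgr Lrot109 (Lpe (K3.f109918 IH) (Lpr_df (K8.f109935 IH) (Lpr_cf (K8.f157617 IH) (Lpe (K8.f160965 IH) (Lpr_cf (K8.f160978 IH) (Lpr_df (K32.f130218 IH) (Lpe (K4.f65934 IH) (Lpr_df (K5.f65971 IH) (Lpr_ft (f135933 IH) (Lpn (LP (LK LD1_c2 LD2_c50 LD3_c12))))))))))))
theorem f501743 : Led Lsl_gf (LP (LK LD1_c6 LD2_c0 LD3_c1)) = (LP (LK LD1_c3 LD2_c51 LD3_c21)) :=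
  Lgr Lrot47 (Lpr_gt (K36.f501741 IH) (Lpr_af (f160990 IH) (Lpe (f135933 IH) (Lpn (LP (LK LD1_c3 LD2_c51 LD3_c21))))))
theorem f130622 : Led Lsl_gt (LP (LK LD1_c24 LD2_c18 LD3_c35)) = (LP (LK LD1_c14 LD2_c35 LD3_c23)) :=
  Lre_g IH (LK LD1_c24 LD2_c18 LD3_c35) (LK LD1_c14 LD2_c35 LD3_c23) Lrfl Lrfl
theorem f112207 : Led Lsl_et (LP (LK LD1_c2 LD2_c51 LD3_c51)) = (LP (LK LD1_c5 LD2_c51 LD3_c10)) :=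
  Lre_e IH (LK LD1_c2 LD2_c51 LD3_c51) (LK LD1_c5 LD2_c51 LD3_c10) Lrfl Lrfl
theorem f112210 : Led Lsl_et (LP (LK LD1_c20 LD2_c26 LD3_c54)) = (LP (LK LD1_c11 LD2_c29 LD3_c47)) :=
  Lre_e IH (LK LD1_c20 LD2_c26 LD3_c54) (LK LD1_c11 LD2_c29 LD3_c47) Lrfl Lrfl
theorem f502699 : Led Lsl_df (LP (LK LD1_c24 LD2_c18 LD3_c35)) = (LP (LK LD1_c20 LD2_c26 LD3_c54)) :=
  Lgr Lrot170 (Lpr_gt (f130622 IH) (Lpe (K53.f65984 IH) (Lpr_et (K5.f65978 IH) (Lpe (f501743 IH) (Lpr_dt (K40.f501749 IH) (Lpr_gt (K6.f15206 IH) (Lpe (K4.f112189 IH) (Lpr_et (f112207 IH) (Lpr_gt (K56.f112208 IH) (Lpe (f112210 IH) (Lpn (LP (LK LD1_c20 LD2_c26 LD3_c54)))))))))))))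
theorem f502701 : Led Lsl_dt (LP (LK LD1_c24 LD2_c18 LD3_c35)) = (LP (LK LD1_c20 LD2_c26 LD3_c54)) :=
  Lgr Lrot42 (Lpr_df (f502699 IH) (Lpn (LP (LK LD1_c20 LD2_c26 LD3_c54))))
theorem f962785 : Led Lsl_at (LP (LK LD1_c14 LD2_c35 LD3_c31)) = (LP (LK LD1_c24 LD2_c18 LD3_c35)) :=
  Lgr Lrot51 (Lpr_df (f962784 IH) (Lpe (f962783 IH) (Lpe (f502701 IH) (Lpn (LP (LK LD1_c24 LD2_c18 LD3_c35))))))
theorem f962786 : Led Lsl_at (LP (LK LD1_c14 LD2_c35 LD3_c31)) = (LP (LK LD1_c24 LD2_c18 LD3_c35)) :=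
  Leop (Lpe (f962785 IH) (Lpn (LP (LK LD1_c14 LD2_c35 LD3_c31))))
theorem seed_2879 : LEOK LG_a (LK LD1_c14 LD2_c35 LD3_c31) :=
  Leoe_a (LK LD1_c14 LD2_c35 LD3_c31) (f962786 IH)
def v48055 : LQ := Led Lsl_at (LP (LK LD1_c11 LD2_c25 LD3_c47))
theorem f962868 : Led Lsl_at (LP (LK LD1_c11 LD2_c25 LD3_c47)) = v48055 :=
  Lrfl
theorem f545086 : Led Lsl_bt (LP (LK LD1_c11 LD2_c25 LD3_c47)) = (LP (LK LD1_c5 LD2_c48 LD3_c5)) :=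
  Lre_b IH (LK LD1_c11 LD2_c25 LD3_c47) (LK LD1_c5 LD2_c48 LD3_c5) Lrfl Lrfl
theorem f166238 : Led Lsl_bt (LP (LK LD1_c5 LD2_c7 LD3_c53)) = (LP (LK LD1_c10 LD2_c6 LD3_c6)) :=
  Lre_b IH (LK LD1_c5 LD2_c7 LD3_c53) (LK LD1_c10 LD2_c6 LD3_c6) Lrfl Lrfl
theorem f579147 : Led Lsl_ff (LP (LK LD1_c11 LD2_c25 LD3_c47)) = (LP (LK LD1_c10 LD2_c6 LD3_c6)) :=
  Lgr Lrot25 (Lpr_bt (f545086 IH) (Lpr_ft (K43.f579145 IH) (Lpr_bt (f166238 IH) (Lpn (LP (LK LD1_c10 LD2_c6 LD3_c6))))))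
def v42089 : LQ := Led Lsl_at (LP (LK LD1_c10 LD2_c6 LD3_c6))
theorem f932335 : Led Lsl_at (LP (LK LD1_c10 LD2_c6 LD3_c6)) = v42089 :=
  Lrfl
theorem f932336 : Led Lsl_af (LP (LK LD1_c10 LD2_c6 LD3_c6)) = v42089 :=
  Lgr Lrot0 (Lpr_at (f932335 IH) (Lpn v42089))
theorem f962870 : Led Lsl_ff v42089 = v48055 :=
  Lgr Lrot30 (Lpe (f932336 IH) (Lpe (f579147 IH) (Lpr_at (f962868 IH) (Lpn v48055))))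
theorem f169727 : Led Lsl_gt (LP (LK LD1_c18 LD2_c24 LD3_c60)) = (LP (LK LD1_c10 LD2_c6 LD3_c6)) :=
  Lre_g IH (LK LD1_c18 LD2_c24 LD3_c60) (LK LD1_c10 LD2_c6 LD3_c6) Lrfl Lrfl
theorem f962873 : Led Lsl_gf (LP (LK LD1_c18 LD2_c24 LD3_c60)) = v48055 :=
  Lgr Lrot47 (Lpr_gt (f169727 IH) (Lpr_af (f932336 IH) (Lpr_ff (f962870 IH) (Lpn v48055))))
theorem f166239 : Led Lsl_gt (LP (LK LD1_c10 LD2_c6 LD3_c6)) = (LP (LK LD1_c18 LD2_c24 LD3_c59)) :=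
  Lre_g IH (LK LD1_c10 LD2_c6 LD3_c6) (LK LD1_c18 LD2_c24 LD3_c59) Lrfl Lrfl
theorem f962871 : Led Lsl_gt (LP (LK LD1_c18 LD2_c24 LD3_c59)) = v48055 :=
  Lgr Lrot46 (Lpe (f166239 IH) (Lpe (f579147 IH) (Lpr_at (f962868 IH) (Lpn v48055))))
theorem f496046 : Led Lsl_bt (LP (LK LD1_c5 LD2_c48 LD3_c5)) = (LP (LK LD1_c11 LD2_c25 LD3_c47)) :=
  Lre_b IH (LK LD1_c5 LD2_c48 LD3_c5) (LK LD1_c11 LD2_c25 LD3_c47) Lrfl Lrfl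
theorem f496047 : Led Lsl_gt (LP (LK LD1_c11 LD2_c25 LD3_c47)) = (LP (LK LD1_c20 LD2_c23 LD3_c17)) :=
  Lre_g IH (LK LD1_c11 LD2_c25 LD3_c47) (LK LD1_c20 LD2_c23 LD3_c17) Lrfl Lrfl
theorem f200663 : Led Lsl_ct (LP (LK LD1_c1 LD2_c9 LD3_c15)) = (LP (LK LD1_c1 LD2_c3 LD3_c6)) :=
  Lgr Lrot8 (Lpr_gt (K16.f200654 IH) (Lpr_dt (K11.f200648 IH) (Lpr_gt (K10.f34678 IH) (Lpr_dt (K16.f37281 IH) (Lpr_cf (K0.f28588 IH) (Lpe (K2.f37110 IH) (Lpr_gf (K10.f197355 IH) (Lpe (K10.f20745 IH) (Lpe (K16.f20752 IH) (Lpn (LP (LK LD1_c1 LD2_c3 LD3_c6))))))))))))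
theorem f313475 : Led Lsl_gt (LP (LK LD1_c1 LD2_c3 LD3_c7)) = (LP (LK LD1_c1 LD2_c3 LD3_c6)) :=
  Lgr Lrot65 (Lpe (K11.f200679 IH) (Lpr_bt (K11.f200652 IH) (Lpr_gf (K19.f313467 IH) (Lpe (K10.f192641 IH) (Lpe (K12.f182511 IH) (Lpe (K12.f212096 IH) (Lpr_cf (K14.f167307 IH) (Lpe (K9.f21234 IH) (Lpr_bf (K16.f237389 IH) (Lpr_ct (f200663 IH) (Lpn (LP (LK LD1_c1 LD2_c3 LD3_c6)))))))))))))
theorem f315130 : Led Lsl_bf (LP (LK LD1_c0 LD2_c14 LD3_c15)) = (LP (LK LD1_c0 LD2_c12 LD3_c10)) :=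
  Lgr Lrot34 (Lpe (K9.f21234 IH) (Lpr_bf (K16.f237389 IH) (Lpr_ct (f200663 IH) (Lpe (f313475 IH) (Lpe (K11.f200679 IH) (Lpr_gf (K20.f315126 IH) (Lpe (K16.f177633 IH) (Lpr_ct (K9.f177192 IH) (Lpr_gf (K10.f185823 IH) (Lpe (K9.f31682 IH) (Lpn (LP (LK LD1_c0 LD2_c12 LD3_c10)))))))))))))
theorem f3398 : Led Lsl_ct (LP (LK LD1_c27 LD2_c45 LD3_c48)) = (LP (LK LD1_c18 LD2_c4 LD3_c8)) :=
  Lre_c IH (LK LD1_c27 LD2_c45 LD3_c48) (LK LD1_c18 LD2_c4 LD3_c8) Lrfl Lrfl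
theorem f621217 : Led Lsl_dt (LP (LK LD1_c20 LD2_c23 LD3_c17)) = (LP (LK LD1_c27 LD2_c45 LD3_c48)) :=
  Lgr Lrot182 (Lpe (f496047 IH) (Lpe (f496046 IH) (Lpe (K40.f496045 IH) (Lpe (K40.f132476 IH) (Lpr_gf (K35.f496044 IH) (Lpqs (K38.f547956 IH) (Lpe (K36.f186826 IH) (Lpe (K10.f165500 IH) (Lpe (K10.f186814 IH) (Lpe (K10.f178993 IH) (Lpr_bf (f315130 IH) (Lpe (K9.f31681 IH) (Lpr_df (K9.f171214 IH) (Lpe (K9.f165254 IH) (Lpe (K10.f3396 IH) (Lpe (K0.f3311 IH) (Lpe (K0.f3312 IH) (Lpr_gf (K14.f3389 IH) (Lpe (K73.f3397 IH) (Lpe (f3398 IH) (Lpn (LP (LK LD1_c27 LD2_c45 LD3_c48)))))))))))))))))))))))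
theorem f247780 : Led Lsl_ct (LP (LK LD1_c18 LD2_c8 LD3_c15)) = (LP (LK LD1_c9 LD2_c54 LD3_c35)) :=
  Lre_c IH (LK LD1_c18 LD2_c8 LD3_c15) (LK LD1_c9 LD2_c54 LD3_c35) Lrfl Lrfl
theorem f3399 : Led Lsl_ct (LP (LK LD1_c18 LD2_c4 LD3_c8)) = (LP (LK LD1_c27 LD2_c45 LD3_c48)) :=
  Lre_c IH (LK LD1_c18 LD2_c4 LD3_c8) (LK LD1_c27 LD2_c45 LD3_c48) Lrfl Lrfl
theorem f371875 : Led Lsl_ff (LP (LK LD1_c18 LD2_c8 LD3_c15)) = (LP (LK LD1_c27 LD2_c45 LD3_c48)) :=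
  Lgr Lrot23 (Lpr_ct (f247780 IH) (Lpr_ft (K73.f371873 IH) (Lpr_ct (f3399 IH) (Lpn (LP (LK LD1_c27 LD2_c45 LD3_c48))))))
theorem f267795 : Led Lsl_bf (LP (LK LD1_c0 LD2_c31 LD3_c59)) = (LP (LK LD1_c0 LD2_c27 LD3_c31)) :=
  Lgr Lrot34 (Lpr_gf (K15.f267787 IH) (Lpe (K10.f177634 IH) (Lpr_ct (K19.f182022 IH) (Lpe (K19.f267793 IH) (Lpe (K11.f200646 IH) (Lpe (K16.f200654 IH) (Lpe (K19.f237393 IH) (Lpr_ct (K16.f166692 IH) (Lpr_gf (K14.f250229 IH) (Lpe (K14.f250212 IH) (Lpn (LP (LK LD1_c0 LD2_c27 LD3_c31)))))))))))))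
theorem f3433 : Led Lsl_bt (LP (LK LD1_c9 LD2_c54 LD3_c35)) = (LP (LK LD1_c5 LD2_c1 LD3_c59)) :=
  Lre_b IH (LK LD1_c9 LD2_c54 LD3_c35) (LK LD1_c5 LD2_c1 LD3_c59) Lrfl Lrfl
theorem f621203 : Led Lsl_dt (LP (LK LD1_c18 LD2_c24 LD3_c59)) = (LP (LK LD1_c18 LD2_c8 LD3_c15)) :=
  Lgr Lrot182 (Lpe (f166239 IH) (Lpe (f166238 IH) (Lpe (K27.f165424 IH) (Lpr_df (K38.f548134 IH) (Lpqs (K38.f548366 IH) (Lpq (K38.f548366 IH) (Lpr_gf (K38.f501279 IH) (Lpqs (K38.f537804 IH) (Lpe (K36.f164694 IH) (Lpe (K9.f163700 IH) (Lpr_df (K9.f164683 IH) (Lpe (K15.f251285 IH) (Lpr_bf (f267795 IH) (Lpe (K14.f248860 IH) (Lpe (K19.f248695 IH) (Lpe (K9.f21275 IH) (Lpe (K14.f21845 IH) (Lpe (K15.f3571 IH) (Lpe (K0.f3570 IH) (Lpe (K15.f3421 IH) (Lpe (f3433 IH) (Lpe (f247780 IH) (Lpn (LP (LK LD1_c18 LD2_c8 LD3_c15)))))))))))))))))))))))))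
theorem f621205 : Led Lsl_df (LP (LK LD1_c18 LD2_c24 LD3_c59)) = (LP (LK LD1_c18 LD2_c8 LD3_c15)) :=
  Lgr Lrot38 (Lpr_dt (f621203 IH) (Lpn (LP (LK LD1_c18 LD2_c8 LD3_c15))))
theorem f621221 : Led Lsl_ff (LP (LK LD1_c20 LD2_c23 LD3_c17)) = (LP (LK LD1_c18 LD2_c24 LD3_c59)) :=
  Lgr Lrot19 (Lpr_dt (f621217 IH) (Lpe (f371875 IH) (Lpe (f621205 IH) (Lpn (LP (LK LD1_c18 LD2_c24 LD3_c59))))))
theorem f962874 : Led Lsl_af (LP (LK LD1_c18 LD2_c24 LD3_c60)) = (LP (LK LD1_c20 LD2_c23 LD3_c17)) :=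
  Lgr Lrot31 (Lpr_gf (f962873 IH) (Lpe (f962871 IH) (Lpe (f621221 IH) (Lpn (LP (LK LD1_c20 LD2_c23 LD3_c17))))))
theorem f962875 : Led Lsl_at (LP (LK LD1_c20 LD2_c23 LD3_c17)) = (LP (LK LD1_c18 LD2_c24 LD3_c60)) :=
  Leop (Lpr_af (f962874 IH) (Lpn (LP (LK LD1_c20 LD2_c23 LD3_c17))))
theorem seed_2880 : LEOK LG_a (LK LD1_c20 LD2_c23 LD3_c17) :=
  Leoe_a (LK LD1_c20 LD2_c23 LD3_c17) (f962875 IH)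
def v48060 : LQ := Led Lsl_ft (LP (LK LD1_c11 LD2_c25 LD3_c49))
theorem f962908 : Led Lsl_ft (LP (LK LD1_c11 LD2_c25 LD3_c49)) = v48060 :=
  Lrfl
theorem f962913 : Led Lsl_ff (LP (LK LD1_c11 LD2_c25 LD3_c49)) = v48060 :=
  Lgr Lrot3 (Lpr_ft (f962908 IH) (Lpn v48060))
theorem f57218 : Led Lsl_bt (LP (LK LD1_c6 LD2_c43 LD3_c13)) = (LP (LK LD1_c3 LD2_c19 LD3_c44)) :=
  Lre_b IH (LK LD1_c6 LD2_c43 LD3_c13) (LK LD1_c3 LD2_c19 LD3_c44) Lrfl Lrfl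
theorem f57219 : Led Lsl_at (LP (LK LD1_c2 LD2_c50 LD3_c17)) = (LP (LK LD1_c5 LD2_c48 LD3_c7)) :=
  Lre_a IH (LK LD1_c2 LD2_c50 LD3_c17) (LK LD1_c5 LD2_c48 LD3_c7) Lrfl Lrfl
theorem f57220 : Led Lsl_bt (LP (LK LD1_c5 LD2_c48 LD3_c7)) = (LP (LK LD1_c11 LD2_c25 LD3_c49)) :=
  Lre_b IH (LK LD1_c5 LD2_c48 LD3_c7) (LK LD1_c11 LD2_c25 LD3_c49) Lrfl Lrfl
theorem f57221 : Led Lsl_af (LP (LK LD1_c6 LD2_c43 LD3_c13)) = (LP (LK LD1_c11 LD2_c25 LD3_c49)) :=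
  Lgr Lrot36 (Lpr_bt (f57218 IH) (Lpr_at (K50.f57217 IH) (Lpr_bt (K1.f57209 IH) (Lpr_at (f57219 IH) (Lpr_bt (f57220 IH) (Lpn (LP (LK LD1_c11 LD2_c25 LD3_c49))))))))
theorem f57484 : Led Lsl_gt (LP (LK LD1_c12 LD2_c51 LD3_c17)) = (LP (LK LD1_c6 LD2_c43 LD3_c13)) :=
  Lre_g IH (LK LD1_c12 LD2_c51 LD3_c17) (LK LD1_c6 LD2_c43 LD3_c13) Lrfl Lrfl
theorem f962919 : Led Lsl_gf (LP (LK LD1_c12 LD2_c51 LD3_c17)) = v48060 :=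
  Lgr Lrot47 (Lpr_gt (f57484 IH) (Lpr_af (f57221 IH) (Lpr_ff (f962913 IH) (Lpn v48060))))
theorem f437462 : Led Lsl_bt (LP (LK LD1_c21 LD2_c59 LD3_c57)) = (LP (LK LD1_c12 LD2_c51 LD3_c17)) :=
  Lre_b IH (LK LD1_c21 LD2_c59 LD3_c57) (LK LD1_c12 LD2_c51 LD3_c17) Lrfl Lrfl
theorem f57441 : Led Lsl_bt (LP (LK LD1_c11 LD2_c25 LD3_c49)) = (LP (LK LD1_c5 LD2_c48 LD3_c7)) :=
  Lre_b IH (LK LD1_c11 LD2_c25 LD3_c49) (LK LD1_c5 LD2_c48 LD3_c7) Lrfl Lrfl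
theorem f962916 : Led Lsl_bt (LP (LK LD1_c11 LD2_c25 LD3_c52)) = v48060 :=
  Lgr Lrot35 (Lpe (K55.f135855 IH) (Lpe (f57441 IH) (Lpr_ff (f962913 IH) (Lpn v48060))))
theorem f136429 : Led Lsl_gt (LP (LK LD1_c18 LD2_c0 LD3_c18)) = (LP (LK LD1_c9 LD2_c49 LD3_c45)) :=
  Lre_g IH (LK LD1_c18 LD2_c0 LD3_c18) (LK LD1_c9 LD2_c49 LD3_c45) Lrfl Lrfl
theorem f962920 : Led Lsl_ct (LP (LK LD1_c21 LD2_c59 LD3_c57)) = (LP (LK LD1_c18 LD2_c0 LD3_c18)) :=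
  Lgr Lrot64 (Lpr_bt (f437462 IH) (Lpr_gf (f962919 IH) (Lpe (f962916 IH) (Lpr_ct (K56.f437164 IH) (Lpe (K7.f151589 IH) (Lpe (K55.f57527 IH) (Lpr_gf (K56.f669428 IH) (Lpe (K55.f66369 IH) (Lpr_ct (K55.f136411 IH) (Lpe (f136429 IH) (Lpn (LP (LK LD1_c18 LD2_c0 LD3_c18)))))))))))))
theorem f962921 : Led Lsl_ct (LP (LK LD1_c21 LD2_c59 LD3_c57)) = (LP (LK LD1_c18 LD2_c0 LD3_c18)) :=
  Leop (Lpe (f962920 IH) (Lpn (LP (LK LD1_c21 LD2_c59 LD3_c57))))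
theorem seed_2881 : LEOK LG_c (LK LD1_c21 LD2_c59 LD3_c57) :=
  Leoe_c (LK LD1_c21 LD2_c59 LD3_c57) (f962921 IH)
def v48071 : LQ := Led Lsl_et (LP (LK LD1_c11 LD2_c26 LD3_c3))
theorem f963010 : Led Lsl_et (LP (LK LD1_c11 LD2_c26 LD3_c3)) = v48071 :=
  Lrfl
theorem f963013 : Led Lsl_ef (LP (LK LD1_c11 LD2_c26 LD3_c3)) = v48071 :=
  Lgr Lrot88 (Lpr_et (f963010 IH) (Lpn v48071))
theorem f112224 : Led Lsl_gt (LP (LK LD1_c20 LD2_c26 LD3_c58)) = (LP (LK LD1_c11 LD2_c29 LD3_c49)) :=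
  Lre_g IH (LK LD1_c20 LD2_c26 LD3_c58) (LK LD1_c11 LD2_c29 LD3_c49) Lrfl Lrfl
theorem f117273 : Led Lsl_gt (LP (LK LD1_c20 LD2_c23 LD3_c9)) = (LP (LK LD1_c20 LD2_c26 LD3_c58)) :=
  Lgr Lrot5 (Lpr_ft (K4.f117207 IH) (Lpr_at (K4.f117265 IH) (Lpe (f112224 IH) (Lpn (LP (LK LD1_c20 LD2_c26 LD3_c58))))))
theorem f963016 : Led Lsl_df (LP (LK LD1_c20 LD2_c26 LD3_c58)) = v48071 :=
  Lgr Lrot132 (Lpe (f117273 IH) (Lpe (K4.f117198 IH) (Lpr_gf (K64.f117255 IH) (Lpe (f112210 IH) (Lpe (f502699 IH) (Lpe (K63.f502705 IH) (Lpe (K57.f439931 IH) (Lpe (K57.f711653 IH) (Lpe (K53.f713842 IH) (Lpr_ef (f963013 IH) (Lpn v48071)))))))))))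
theorem f714682 : Led Lsl_et (LP (LK LD1_c11 LD2_c43 LD3_c31)) = (LP (LK LD1_c20 LD2_c44 LD3_c39)) :=
  Lre_e IH (LK LD1_c11 LD2_c43 LD3_c31) (LK LD1_c20 LD2_c44 LD3_c39) Lrfl Lrfl
theorem f963014 : Led Lsl_at (LP (LK LD1_c20 LD2_c44 LD3_c39)) = v48071 :=
  Lgr Lrot80 (Lpe (f714682 IH) (Lpe (K53.f719857 IH) (Lpr_ef (f963013 IH) (Lpn v48071))))
theorem f963017 : Led Lsl_at (LP (LK LD1_c20 LD2_c26 LD3_c58)) = (LP (LK LD1_c20 LD2_c23 LD3_c7)) :=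
  Lgr Lrot51 (Lpr_df (f963016 IH) (Lpe (f963014 IH) (Lpr_df (K55.f714680 IH) (Lpn (LP (LK LD1_c20 LD2_c23 LD3_c7))))))
theorem f963018 : Led Lsl_at (LP (LK LD1_c20 LD2_c26 LD3_c58)) = (LP (LK LD1_c20 LD2_c23 LD3_c7)) :=
  Leop (Lpe (f963017 IH) (Lpn (LP (LK LD1_c20 LD2_c26 LD3_c58))))
theorem seed_2882 : LEOK LG_a (LK LD1_c20 LD2_c26 LD3_c58) :=
  Leoe_a (LK LD1_c20 LD2_c26 LD3_c58) (f963018 IH)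
theorem f438046 : Led Lsl_et (LP (LK LD1_c14 LD2_c32 LD3_c57)) = (LP (LK LD1_c24 LD2_c15 LD3_c23)) :=
  Lre_e IH (LK LD1_c14 LD2_c32 LD3_c57) (LK LD1_c24 LD2_c15 LD3_c23) Lrfl Lrfl
theorem f963015 : Led Lsl_bt (LP (LK LD1_c24 LD2_c15 LD3_c23)) = v48071 :=
  Lgr Lrot119 (Lpe (f438046 IH) (Lpr_bf (K58.f768392 IH) (Lpr_ef (f963013 IH) (Lpn v48071))))
theorem f127288 : Led Lsl_gt (LP (LK LD1_c27 LD2_c6 LD3_c36)) = (LP (LK LD1_c17 LD2_c17 LD3_c12)) :=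
  Lre_g IH (LK LD1_c27 LD2_c6 LD3_c36) (LK LD1_c17 LD2_c17 LD3_c12) Lrfl Lrfl
theorem f116590 : Led Lsl_et (LP (LK LD1_c24 LD2_c15 LD3_c23)) = (LP (LK LD1_c14 LD2_c32 LD3_c57)) :=
  Lre_e IH (LK LD1_c24 LD2_c15 LD3_c23) (LK LD1_c14 LD2_c32 LD3_c57) Lrfl Lrfl
theorem f438042 : Led Lsl_df (LP (LK LD1_c27 LD2_c6 LD3_c36)) = (LP (LK LD1_c24 LD2_c15 LD3_c23)) :=
  Lgr Lrot170 (Lpr_gt (f127288 IH) (Lpe (K5.f127224 IH) (Lpr_et (K5.f127239 IH) (Lpr_gt (K28.f142474 IH) (Lpe (K28.f116583 IH) (Lpr_gt (K7.f95399 IH) (Lpr_df (K7.f95359 IH) (Lpr_et (K47.f95389 IH) (Lpr_gt (K58.f95396 IH) (Lpe (f116590 IH) (Lpn (LP (LK LD1_c24 LD2_c15 LD3_c23)))))))))))))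
theorem f438044 : Led Lsl_dt (LP (LK LD1_c27 LD2_c6 LD3_c36)) = (LP (LK LD1_c24 LD2_c15 LD3_c23)) :=
  Lgr Lrot42 (Lpr_df (f438042 IH) (Lpn (LP (LK LD1_c24 LD2_c15 LD3_c23))))
theorem f963019 : Led Lsl_bt (LP (LK LD1_c20 LD2_c26 LD3_c58)) = (LP (LK LD1_c27 LD2_c6 LD3_c36)) :=
  Lgr Lrot95 (Lpr_df (f963016 IH) (Lpe (f963015 IH) (Lpe (f438044 IH) (Lpn (LP (LK LD1_c27 LD2_c6 LD3_c36))))))
theorem f963020 : Led Lsl_bt (LP (LK LD1_c20 LD2_c26 LD3_c58)) = (LP (LK LD1_c27 LD2_c6 LD3_c36)) :=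
  Leop (Lpe (f963019 IH) (Lpn (LP (LK LD1_c20 LD2_c26 LD3_c58))))
theorem seed_2883 : LEOK LG_b (LK LD1_c20 LD2_c26 LD3_c58) :=
  Leoe_b (LK LD1_c20 LD2_c26 LD3_c58) (f963020 IH)
def v20042 : LQ := Led Lsl_et (LP (LK LD1_c6 LD2_c50 LD3_c2))
theorem f784529 : Led Lsl_et (LP (LK LD1_c6 LD2_c50 LD3_c2)) = v20042 :=
  Lrfl
theorem f784531 : Led Lsl_ef (LP (LK LD1_c6 LD2_c50 LD3_c2)) = v20042 :=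
  Lgr Lrot88 (Lpr_et (f784529 IH) (Lpn v20042))
theorem f102905 : Led Lsl_et (LP (LK LD1_c6 LD2_c51 LD3_c46)) = (LP (LK LD1_c13 LD2_c3 LD3_c5)) :=
  Lre_e IH (LK LD1_c6 LD2_c51 LD3_c46) (LK LD1_c13 LD2_c3 LD3_c5) Lrfl Lrfl
theorem f784532 : Led Lsl_ct (LP (LK LD1_c13 LD2_c3 LD3_c5)) = v20042 :=
  Lgr Lrot15 (Lpe (f102905 IH) (Lpe (K6.f130248 IH) (Lpr_ef (f784531 IH) (Lpn v20042))))
theorem f102844 : Led Lsl_bt (LP (LK LD1_c13 LD2_c3 LD3_c5)) = (LP (LK LD1_c6 LD2_c51 LD3_c48)) :=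
  Lre_b IH (LK LD1_c13 LD2_c3 LD3_c5) (LK LD1_c6 LD2_c51 LD3_c48) Lrfl Lrfl
theorem f91180 : Led Lsl_gt (LP (LK LD1_c6 LD2_c51 LD3_c48)) = (LP (LK LD1_c13 LD2_c3 LD3_c7)) :=
  Lre_g IH (LK LD1_c6 LD2_c51 LD3_c48) (LK LD1_c13 LD2_c3 LD3_c7) Lrfl Lrfl
def v48075 : LQ := Led Lsl_et (LP (LK LD1_c11 LD2_c26 LD3_c5))
theorem f963045 : Led Lsl_et (LP (LK LD1_c11 LD2_c26 LD3_c5)) = v48075 :=
  Lrfl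
theorem f963049 : Led Lsl_ef (LP (LK LD1_c11 LD2_c26 LD3_c5)) = v48075 :=
  Lgr Lrot88 (Lpr_et (f963045 IH) (Lpn v48075))
theorem f963052 : Led Lsl_ct (LP (LK LD1_c11 LD2_c26 LD3_c6)) = v48075 :=
  Lgr Lrot15 (Lpe (K5.f130124 IH) (Lpe (K6.f130104 IH) (Lpr_ef (f963049 IH) (Lpn v48075))))
theorem f130189 : Led Lsl_bt (LP (LK LD1_c11 LD2_c26 LD3_c6)) = (LP (LK LD1_c5 LD2_c48 LD3_c19)) :=
  Lre_b IH (LK LD1_c11 LD2_c26 LD3_c6) (LK LD1_c5 LD2_c48 LD3_c19) Lrfl Lrfl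
theorem f715174 : Led Lsl_ff (LP (LK LD1_c11 LD2_c26 LD3_c6)) = (LP (LK LD1_c17 LD2_c34 LD3_c7)) :=
  Lgr Lrot25 (Lpr_bt (f130189 IH) (Lpr_ft (K55.f715171 IH) (Lpr_bt (K55.f715173 IH) (Lpn (LP (LK LD1_c17 LD2_c34 LD3_c7))))))
def v20126 : LQ := Led Lsl_gf (LP (LK LD1_c6 LD2_c50 LD3_c50))
theorem f784923 : Led Lsl_gf (LP (LK LD1_c6 LD2_c50 LD3_c50)) = v20126 :=
  Lrfl
theorem f414475 : Led Lsl_ct (LP (LK LD1_c13 LD2_c1 LD3_c60)) = (LP (LK LD1_c6 LD2_c50 LD3_c50)) :=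
  Lre_c IH (LK LD1_c13 LD2_c1 LD3_c60) (LK LD1_c6 LD2_c50 LD3_c50) Lrfl Lrfl
theorem f414474 : Led Lsl_bt (LP (LK LD1_c13 LD2_c1 LD3_c60)) = (LP (LK LD1_c6 LD2_c50 LD3_c48)) :=
  Lre_b IH (LK LD1_c13 LD2_c1 LD3_c60) (LK LD1_c6 LD2_c50 LD3_c48) Lrfl Lrfl
theorem f454332 : Led Lsl_bt (LP (LK LD1_c17 LD2_c34 LD3_c7)) = (LP (LK LD1_c9 LD2_c32 LD3_c2)) :=
  Lre_b IH (LK LD1_c17 LD2_c34 LD3_c7) (LK LD1_c9 LD2_c32 LD3_c2) Lrfl Lrfl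
theorem f784924 : Led Lsl_ct (LP (LK LD1_c17 LD2_c34 LD3_c7)) = v20126 :=
  Lgr Lrot64 (Lpr_bt (f454332 IH) (Lpe (K55.f414464 IH) (Lpe (K51.f416212 IH) (Lpr_ct (K51.f416175 IH) (Lpq (K51.f708041 IH) (Lpe (K51.f632906 IH) (Lpe (K51.f120394 IH) (Lpq (K51.f708050 IH) (Lpq (K51.f678951 IH) (Lpe (K51.f678954 IH) (Lpe (f414474 IH) (Lpr_ct (f414475 IH) (Lpr_gf (f784923 IH) (Lpn v20126))))))))))))))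
theorem f784925 : Led Lsl_cf (LP (LK LD1_c17 LD2_c34 LD3_c7)) = v20126 :=
  Lgr Lrot11 (Lpr_ct (f784924 IH) (Lpn v20126))
theorem f963053 : Led Lsl_ff v20126 = v48075 :=
  Lgr Lrot23 (Lpe (f784925 IH) (Lpe (f715174 IH) (Lpr_ct (f963052 IH) (Lpn v48075))))
theorem f963055 : Led Lsl_ft v20126 = v48075 :=
  Lgr Lrot48 (Lpr_ff (f963053 IH) (Lpn v48075))
def v20125 : LQ := Led Lsl_gt (LP (LK LD1_c6 LD2_c50 LD3_c50))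
theorem f784922 : Led Lsl_gt (LP (LK LD1_c6 LD2_c50 LD3_c50)) = v20125 :=
  Lrfl
theorem f130245 : Led Lsl_at (LP (LK LD1_c6 LD2_c50 LD3_c2)) = (LP (LK LD1_c11 LD2_c26 LD3_c5)) :=
  Lgr Lrot100 (Lpr_af (K6.f130243 IH) (Lpn (LP (LK LD1_c11 LD2_c26 LD3_c5))))
theorem f963046 : Led Lsl_af v20042 = v48075 :=
  Lgr Lrot50 (Lpe (f784531 IH) (Lpr_at (f130245 IH) (Lpr_et (f963045 IH) (Lpn v48075))))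
theorem f963056 : v20125 = v20042 :=
  (Llr Lrot46 (Lpe (f784922 IH) (Lpr_gf (f784923 IH) (Lpr_ft (f963055 IH) (Lpe (f963046 IH) (Lpn v20042)))))).symm
def v13894 : LQ := Led Lsl_bt (LP (LK LD1_c4 LD2_c49 LD3_c42))
theorem f705749 : Led Lsl_bt (LP (LK LD1_c4 LD2_c49 LD3_c42)) = v13894 :=
  Lrfl
theorem f705750 : Led Lsl_bf (LP (LK LD1_c4 LD2_c49 LD3_c42)) = v13894 :=
  Lgr Lrot24 (Lpr_bt (f705749 IH) (Lpn v13894))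
def v10139 : LQ := Led Lsl_bt K46.v3200
theorem f678971 : Led Lsl_bt K46.v3200 = v10139 :=
  Lrfl
theorem f678972 : Led Lsl_bf K46.v3200 = v10139 :=
  Lgr Lrot24 (Lpr_bt (f678971 IH) (Lpn v10139))
theorem f705751 : Led Lsl_ff v10139 = v13894 :=
  Lgr Lrot25 (Lpe (f678972 IH) (Lpr_ft (K46.f653348 IH) (Lpqs (K51.f678943 IH) (Lpr_bt (f705749 IH) (Lpn v13894)))))
theorem f705752 : Led Lsl_ft v10139 = v13894 :=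
  Lgr Lrot48 (Lpr_ff (f705751 IH) (Lpn v13894))
theorem f708072 : v10139 = (LP (LK LD1_c3 LD2_c44 LD3_c59)) :=
  Lefun (Lecon (f678971 IH) (K51.f708032 IH)) (Lfl_bf (K60.f91776 IH))
theorem f708125 : v13894 = (LP (LK LD1_c7 LD2_c30 LD3_c53)) :=
  Lefun (Lecon (f705752 IH) (f708072 IH)) (K60.f91846 IH)
theorem f94730 : Led Lsl_et (LP (LK LD1_c6 LD2_c49 LD3_c29)) = (LP (LK LD1_c3 LD2_c22 LD3_c60)) :=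
  Lre_e IH (LK LD1_c6 LD2_c49 LD3_c29) (LK LD1_c3 LD2_c22 LD3_c60) Lrfl Lrfl
theorem f664502 : Led Lsl_af (LP (LK LD1_c6 LD2_c49 LD3_c29)) = K62.v7317 :=
  Lgr Lrot50 (Lpr_et (f94730 IH) (Lpr_at (K8.f95531 IH) (Lpr_et (K62.f664501 IH) (Lpn K62.v7317))))
theorem f801055 : Led Lsl_at K60.v19998 = K62.v22073 :=
  Lgr Lrot66 (Lpe (K60.f784231 IH) (Lpr_af (f664502 IH) (Lpr_ff (K62.f801054 IH) (Lpn K62.v22073))))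
def v19996 : LQ := Led Lsl_gt (LP (LK LD1_c6 LD2_c49 LD3_c29))
theorem f784221 : Led Lsl_gt (LP (LK LD1_c6 LD2_c49 LD3_c29)) = v19996 :=
  Lrfl
theorem f801063 : Led Lsl_gt v19996 = K62.v22073 :=
  Lgr Lrot46 (Lpe (f784221 IH) (Lpr_ft (K60.f784231 IH) (Lpr_at (f801055 IH) (Lpn K62.v22073))))
theorem f963057 : Led Lsl_ct (LP (LK LD1_c13 LD2_c3 LD3_c7)) = v19996 :=
  Lgr Lrot91 (Lpe (f91180 IH) (Lpe (f102844 IH) (Lpr_ct (f784532 IH) (Lpq (f963056 IH) (Lpe (f784922 IH) (Lpe (f414475 IH) (Lpr_bt (f414474 IH) (Lpr_gf (K51.f414467 IH) (Lpr_bf (f705750 IH) (Lpqs (f708125 IH) (Lpr_ct (K62.f801050 IH) (Lpe (f801063 IH) (Lpn v19996)))))))))))))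
theorem f94724 : Led Lsl_gt (LP (LK LD1_c6 LD2_c56 LD3_c32)) = (LP (LK LD1_c3 LD2_c27 LD3_c17)) :=
  Lre_g IH (LK LD1_c6 LD2_c56 LD3_c32) (LK LD1_c3 LD2_c27 LD3_c17) Lrfl Lrfl
theorem f414472 : Led Lsl_ct (LP (LK LD1_c4 LD2_c49 LD3_c42)) = (LP (LK LD1_c2 LD2_c22 LD3_c36)) :=
  Lre_c IH (LK LD1_c4 LD2_c49 LD3_c42) (LK LD1_c2 LD2_c22 LD3_c36) Lrfl Lrfl
theorem f95448 : Led Lsl_gf (LP (LK LD1_c6 LD2_c56 LD3_c32)) = (LP (LK LD1_c7 LD2_c30 LD3_c53)) :=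
  Lgr Lrot47 (Lpr_gt (f94724 IH) (Lpr_af (K3.f95440 IH) (Lpe (K3.f91783 IH) (Lpn (LP (LK LD1_c7 LD2_c30 LD3_c53))))))
theorem f714824 : Led Lsl_bf (LP (LK LD1_c6 LD2_c56 LD3_c32)) = (LP (LK LD1_c7 LD2_c1 LD3_c28)) :=
  Lgr Lrot34 (Lpr_gf (f95448 IH) (Lpq (f708125 IH) (Lpe (f705749 IH) (Lpr_ct (f414472 IH) (Lpe (K49.f414463 IH) (Lpe (K51.f416175 IH) (Lpq (K51.f708438 IH) (Lpe (K51.f704649 IH) (Lpr_bf (K4.f120591 IH) (Lpr_ct (K3.f87851 IH) (Lpe (K65.f87866 IH) (Lpr_cf (K65.f714816 IH) (Lpn (LP (LK LD1_c7 LD2_c1 LD3_c28)))))))))))))))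
theorem f105347 : Led Lsl_gt (LP (LK LD1_c6 LD2_c39 LD3_c39)) = (LP (LK LD1_c12 LD2_c2 LD3_c4)) :=
  Lgr Lrot5 (Lpr_ft (K3.f105319 IH) (Lpr_at (K3.f105336 IH) (Lpe (K65.f87866 IH) (Lpn (LP (LK LD1_c12 LD2_c2 LD3_c4))))))
theorem f109874 : Led Lsl_cf (LP (LK LD1_c6 LD2_c39 LD3_c39)) = (LP (LK LD1_c3 LD2_c46 LD3_c48)) :=
  Lgr Lrot39 (Lpr_et (K3.f105324 IH) (Lpr_ct (K57.f65065 IH) (Lpr_et (K3.f109869 IH) (Lpn (LP (LK LD1_c3 LD2_c46 LD3_c48))))))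
theorem f109871 : Led Lsl_bt (LP (LK LD1_c3 LD2_c46 LD3_c48)) = (LP (LK LD1_c7 LD2_c34 LD3_c12)) :=
  Lre_b IH (LK LD1_c3 LD2_c46 LD3_c48) (LK LD1_c7 LD2_c34 LD3_c12) Lrfl Lrfl
theorem f712802 : Led Lsl_at (LP (LK LD1_c9 LD2_c32 LD3_c0)) = (LP (LK LD1_c7 LD2_c34 LD3_c12)) :=
  Lgr Lrot100 (Lpr_af (K70.f712797 IH) (Lpn (LP (LK LD1_c7 LD2_c34 LD3_c12))))
theorem f103549 : Led Lsl_gt (LP (LK LD1_c6 LD2_c43 LD3_c21)) = (LP (LK LD1_c12 LD2_c51 LD3_c35)) :=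
  Lre_g IH (LK LD1_c6 LD2_c43 LD3_c21) (LK LD1_c12 LD2_c51 LD3_c35) Lrfl Lrfl
theorem f712826 : Led Lsl_gf (LP (LK LD1_c7 LD2_c34 LD3_c12)) = (LP (LK LD1_c12 LD2_c51 LD3_c35)) :=
  Lgr Lrot76 (Lpe (f712802 IH) (Lpr_ff (K70.f712810 IH) (Lpr_gt (f103549 IH) (Lpn (LP (LK LD1_c12 LD2_c51 LD3_c35))))))
theorem f963059 : Led Lsl_bt (LP (LK LD1_c13 LD2_c3 LD3_c7)) = (LP (LK LD1_c12 LD2_c51 LD3_c35)) :=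
  Lgr Lrot22 (Lpr_ct (f963057 IH) (Lpe (f784221 IH) (Lpe (K60.f94711 IH) (Lpe (f94724 IH) (Lpr_bf (f714824 IH) (Lpe (K65.f714816 IH) (Lpe (f105347 IH) (Lpr_cf (f109874 IH) (Lpr_bt (f109871 IH) (Lpr_gf (f712826 IH) (Lpn (LP (LK LD1_c12 LD2_c51 LD3_c35)))))))))))))
theorem f963060 : Led Lsl_bt (LP (LK LD1_c13 LD2_c3 LD3_c7)) = (LP (LK LD1_c12 LD2_c51 LD3_c35)) :=
  Leop (Lpe (f963059 IH) (Lpn (LP (LK LD1_c13 LD2_c3 LD3_c7))))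
theorem seed_2884 : LEOK LG_b (LK LD1_c13 LD2_c3 LD3_c7) :=
  Leoe_b (LK LD1_c13 LD2_c3 LD3_c7) (f963060 IH)
def v48087 : LQ := Led Lsl_at (LP (LK LD1_c11 LD2_c26 LD3_c11))
theorem f963112 : Led Lsl_at (LP (LK LD1_c11 LD2_c26 LD3_c11)) = v48087 :=
  Lrfl
theorem f669295 : Led Lsl_bt (LP (LK LD1_c6 LD2_c1 LD3_c43)) = (LP (LK LD1_c9 LD2_c30 LD3_c13)) :=
  Lgr Lrot127 (Lpr_bf (K74.f669293 IH) (Lpn (LP (LK LD1_c9 LD2_c30 LD3_c13))))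
theorem f876623 : K56.v16496 = (LP (LK LD1_c9 LD2_c30 LD3_c13)) :=
  Lefun (Lecon (K56.f749839 IH) (K67.f876618 IH)) (f669295 IH)
theorem f741742 : Led Lsl_cf (LP (LK LD1_c6 LD2_c1 LD3_c52)) = K55.v15816 :=
  Lgr Lrot11 (Lpr_ct (K55.f741741 IH) (Lpn K55.v15816))
def v15828 : LQ := Led Lsl_at (LP (LK LD1_c5 LD2_c48 LD3_c22))
theorem f741906 : Led Lsl_at (LP (LK LD1_c5 LD2_c48 LD3_c22)) = v15828 :=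
  Lrfl
theorem f741907 : Led Lsl_af (LP (LK LD1_c5 LD2_c48 LD3_c22)) = v15828 :=
  Lgr Lrot0 (Lpr_at (f741906 IH) (Lpn v15828))
theorem f741908 : Led Lsl_ft (LP (LK LD1_c5 LD2_c48 LD3_c23)) = v15828 :=
  Lgr Lrot2 (Lpr_gt (K48.f57240 IH) (Lpr_gt (K52.f57236 IH) (Lpr_af (f741907 IH) (Lpn v15828))))
theorem f876658 : K55.v15816 = v15828 :=
  (Llr Lrot108 (Lpe (f741742 IH) (Lpr_ft (K56.f749834 IH) (Lpqs (f876623 IH) (Lpe (K48.f669283 IH) (Lpr_ft (f741908 IH) (Lpn v15828))))))).symm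
theorem f741909 : Led Lsl_ff (LP (LK LD1_c5 LD2_c48 LD3_c23)) = v15828 :=
  Lgr Lrot3 (Lpr_ft (f741908 IH) (Lpn v15828))
def v15830 : LQ := Led Lsl_ft (LP (LK LD1_c5 LD2_c48 LD3_c22))
theorem f741912 : Led Lsl_ft (LP (LK LD1_c5 LD2_c48 LD3_c22)) = v15830 :=
  Lrfl
theorem f741914 : Led Lsl_ff (LP (LK LD1_c5 LD2_c48 LD3_c22)) = v15830 :=
  Lgr Lrot3 (Lpr_ft (f741912 IH) (Lpn v15830))
theorem f741915 : Led Lsl_at (LP (LK LD1_c5 LD2_c48 LD3_c23)) = v15830 :=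
  Lgr Lrot66 (Lpr_ff (f741909 IH) (Lpe (f741906 IH) (Lpr_ff (f741914 IH) (Lpn v15830))))
theorem f876659 : v15830 = (LP (LK LD1_c11 LD2_c25 LD3_c50)) :=
  (Llr Lrot26 (Lpe (f741915 IH) (Lpr_ff (f741909 IH) (Lpq (f876658 IH) (Lpe (K55.f741739 IH) (Lpr_gt (K55.f57495 IH) (Lpn (LP (LK LD1_c11 LD2_c25 LD3_c50))))))))).symm
theorem f700830 : Led Lsl_dt (LP (LK LD1_c11 LD2_c26 LD3_c11)) = (LP (LK LD1_c5 LD2_c48 LD3_c22)) :=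
  Lre_d IH (LK LD1_c11 LD2_c26 LD3_c11) (LK LD1_c5 LD2_c48 LD3_c22) Lrfl Lrfl
theorem f57496 : Led Lsl_dt (LP (LK LD1_c11 LD2_c25 LD3_c50)) = (LP (LK LD1_c20 LD2_c23 LD3_c21)) :=
  Lre_d IH (LK LD1_c11 LD2_c25 LD3_c50) (LK LD1_c20 LD2_c23 LD3_c21) Lrfl Lrfl
theorem f876664 : Led Lsl_ff (LP (LK LD1_c11 LD2_c26 LD3_c11)) = (LP (LK LD1_c20 LD2_c23 LD3_c21)) :=
  Lgr Lrot19 (Lpr_dt (f700830 IH) (Lpr_ft (f741912 IH) (Lpqs (f876659 IH) (Lpr_dt (f57496 IH) (Lpn (LP (LK LD1_c20 LD2_c23 LD3_c21)))))))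
theorem f437247 : Led Lsl_dt (LP (LK LD1_c20 LD2_c23 LD3_c21)) = (LP (LK LD1_c11 LD2_c25 LD3_c50)) :=
  Lre_d IH (LK LD1_c20 LD2_c23 LD3_c21) (LK LD1_c11 LD2_c25 LD3_c50) Lrfl Lrfl
theorem f741913 : Led Lsl_af (LP (LK LD1_c5 LD2_c48 LD3_c23)) = v15830 :=
  Lgr Lrot45 (Lpr_ft (f741908 IH) (Lpe (f741907 IH) (Lpr_ft (f741912 IH) (Lpn v15830))))
theorem f437168 : Led Lsl_dt (LP (LK LD1_c5 LD2_c48 LD3_c23)) = (LP (LK LD1_c11 LD2_c26 LD3_c13)) :=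
  Lre_d IH (LK LD1_c5 LD2_c48 LD3_c23) (LK LD1_c11 LD2_c26 LD3_c13) Lrfl Lrfl
theorem f876681 : Led Lsl_af (LP (LK LD1_c20 LD2_c23 LD3_c21)) = (LP (LK LD1_c11 LD2_c26 LD3_c13)) :=
  Lgr Lrot117 (Lpr_dt (f437247 IH) (Lpq (f876659 IH) (Lpe (f741913 IH) (Lpr_dt (f437168 IH) (Lpn (LP (LK LD1_c11 LD2_c26 LD3_c13)))))))
theorem f963115 : Led Lsl_ff (LP (LK LD1_c11 LD2_c26 LD3_c13)) = v48087 :=
  Lgr Lrot30 (Lpe (f876681 IH) (Lpe (f876664 IH) (Lpr_at (f963112 IH) (Lpn v48087))))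
theorem f963117 : Led Lsl_ft (LP (LK LD1_c11 LD2_c26 LD3_c13)) = v48087 :=
  Lgr Lrot48 (Lpr_ff (f963115 IH) (Lpn v48087))
theorem f963113 : Led Lsl_af (LP (LK LD1_c11 LD2_c26 LD3_c11)) = v48087 :=
  Lgr Lrot0 (Lpr_at (f963112 IH) (Lpn v48087))
theorem f700831 : Led Lsl_gt (LP (LK LD1_c20 LD2_c23 LD3_c45)) = (LP (LK LD1_c11 LD2_c26 LD3_c11)) :=
  Lre_g IH (LK LD1_c20 LD2_c23 LD3_c45) (LK LD1_c11 LD2_c26 LD3_c11) Lrfl Lrfl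
theorem f963118 : Led Lsl_gt (LP (LK LD1_c11 LD2_c26 LD3_c13)) = (LP (LK LD1_c20 LD2_c23 LD3_c45)) :=
  Lgr Lrot5 (Lpr_ft (f963117 IH) (Lpe (f963113 IH) (Lpe (f700831 IH) (Lpn (LP (LK LD1_c20 LD2_c23 LD3_c45))))))
theorem f963119 : Led Lsl_gt (LP (LK LD1_c11 LD2_c26 LD3_c13)) = (LP (LK LD1_c20 LD2_c23 LD3_c45)) :=
  Leop (Lpe (f963118 IH) (Lpn (LP (LK LD1_c11 LD2_c26 LD3_c13))))
theorem seed_2885 : LEOK LG_g (LK LD1_c11 LD2_c26 LD3_c13) :=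
  Leoe_g (LK LD1_c11 LD2_c26 LD3_c13) (f963119 IH)
theorem f669289 : Led Lsl_dt (LP (LK LD1_c11 LD2_c26 LD3_c13)) = (LP (LK LD1_c5 LD2_c48 LD3_c23)) :=
  Lre_d IH (LK LD1_c11 LD2_c26 LD3_c13) (LK LD1_c5 LD2_c48 LD3_c23) Lrfl Lrfl
theorem f640519 : Led Lsl_ct (LP (LK LD1_c20 LD2_c24 LD3_c6)) = (LP (LK LD1_c11 LD2_c26 LD3_c23)) :=
  Lre_c IH (LK LD1_c20 LD2_c24 LD3_c6) (LK LD1_c11 LD2_c26 LD3_c23) Lrfl Lrfl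
theorem f962951 : Led Lsl_ct (LP (LK LD1_c20 LD2_c23 LD3_c45)) = (LP (LK LD1_c29 LD2_c26 LD3_c11)) :=
  Lre_c IH (LK LD1_c20 LD2_c23 LD3_c45) (LK LD1_c29 LD2_c26 LD3_c11) Lrfl Lrfl
theorem f963122 : Led Lsl_gf (LP (LK LD1_c20 LD2_c24 LD3_c6)) = (LP (LK LD1_c29 LD2_c26 LD3_c11)) :=
  Lgr Lrot104 (Lpr_ct (f640519 IH) (Lpe (K56.f669197 IH) (Lpe (K48.f57513 IH) (Lpe (K7.f57147 IH) (Lpe (K48.f57225 IH) (Lpe (K48.f57240 IH) (Lpe (f669289 IH) (Lpr_gt (f963118 IH) (Lpr_ct (f962951 IH) (Lpn (LP (LK LD1_c29 LD2_c26 LD3_c11))))))))))))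
theorem f741847 : Led Lsl_dt (LP (LK LD1_c20 LD2_c23 LD3_c25)) = (LP (LK LD1_c11 LD2_c25 LD3_c53)) :=
  Lre_d IH (LK LD1_c20 LD2_c23 LD3_c25) (LK LD1_c11 LD2_c25 LD3_c53) Lrfl Lrfl
theorem f741932 : Led Lsl_af (LP (LK LD1_c5 LD2_c48 LD3_c27)) = K55.v15835 :=
  Lgr Lrot0 (Lpr_at (K55.f741931 IH) (Lpn K55.v15835))
theorem f743848 : Led Lsl_af (LP (LK LD1_c20 LD2_c23 LD3_c25)) = (LP (LK LD1_c11 LD2_c26 LD3_c23)) :=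
  Lgr Lrot117 (Lpr_dt (f741847 IH) (Lpq (K55.f742068 IH) (Lpe (f741932 IH) (Lpr_dt (K56.f669197 IH) (Lpn (LP (LK LD1_c11 LD2_c26 LD3_c23)))))))
theorem f742106 : Led Lsl_ct (LP (LK LD1_c20 LD2_c23 LD3_c25)) = (LP (LK LD1_c29 LD2_c25 LD3_c59)) :=
  Lre_c IH (LK LD1_c20 LD2_c23 LD3_c25) (LK LD1_c29 LD2_c25 LD3_c59) Lrfl Lrfl
theorem f743852 : Led Lsl_at (LP (LK LD1_c29 LD2_c25 LD3_c59)) = (LP (LK LD1_c20 LD2_c24 LD3_c6)) :=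
  Lgr Lrot107 (Lpe (f742106 IH) (Lpr_af (f743848 IH) (Lpe (f640519 IH) (Lpn (LP (LK LD1_c20 LD2_c24 LD3_c6))))))
theorem f66357 : Led Lsl_dt (LP (LK LD1_c11 LD2_c26 LD3_c32)) = (LP (LK LD1_c5 LD2_c48 LD3_c31)) :=
  Lre_d IH (LK LD1_c11 LD2_c26 LD3_c32) (LK LD1_c5 LD2_c48 LD3_c31) Lrfl Lrfl
theorem f742073 : Led Lsl_dt (LP (LK LD1_c11 LD2_c25 LD3_c53)) = (LP (LK LD1_c20 LD2_c23 LD3_c25)) :=
  Lre_d IH (LK LD1_c11 LD2_c25 LD3_c53) (LK LD1_c20 LD2_c23 LD3_c25) Lrfl Lrfl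
theorem f743551 : Led Lsl_ff (LP (LK LD1_c11 LD2_c26 LD3_c32)) = (LP (LK LD1_c20 LD2_c23 LD3_c25)) :=
  Lgr Lrot19 (Lpr_dt (f66357 IH) (Lpr_ft (K55.f741935 IH) (Lpqs (K55.f742068 IH) (Lpr_dt (f742073 IH) (Lpn (LP (LK LD1_c20 LD2_c23 LD3_c25)))))))
theorem f669213 : Led Lsl_ct (LP (LK LD1_c11 LD2_c26 LD3_c32)) = (LP (LK LD1_c20 LD2_c24 LD3_c19)) :=
  Lre_c IH (LK LD1_c11 LD2_c26 LD3_c32) (LK LD1_c20 LD2_c24 LD3_c19) Lrfl Lrfl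
theorem f741848 : Led Lsl_ct (LP (LK LD1_c29 LD2_c25 LD3_c59)) = (LP (LK LD1_c20 LD2_c23 LD3_c25)) :=
  Lre_c IH (LK LD1_c29 LD2_c25 LD3_c59) (LK LD1_c20 LD2_c23 LD3_c25) Lrfl Lrfl
theorem f743554 : Led Lsl_ft (LP (LK LD1_c20 LD2_c24 LD3_c19)) = (LP (LK LD1_c29 LD2_c25 LD3_c59)) :=
  Lgr Lrot4 (Lpe (f669213 IH) (Lpr_ff (f743551 IH) (Lpe (f741848 IH) (Lpn (LP (LK LD1_c29 LD2_c25 LD3_c59))))))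
theorem f963124 : Led Lsl_gt (LP (LK LD1_c20 LD2_c24 LD3_c19)) = (LP (LK LD1_c29 LD2_c26 LD3_c11)) :=
  Lgr Lrot5 (Lpr_ft (f743554 IH) (Lpr_at (f743852 IH) (Lpr_gf (f963122 IH) (Lpn (LP (LK LD1_c29 LD2_c26 LD3_c11))))))
theorem f741966 : Led Lsl_gt (LP (LK LD1_c20 LD2_c24 LD3_c4)) = (LP (LK LD1_c11 LD2_c26 LD3_c32)) :=
  Lgr Lrot49 (Lpr_df (K56.f669433 IH) (Lpr_gf (K57.f720795 IH) (Lpe (K57.f146521 IH) (Lpe (K70.f720791 IH) (Lpr_dt (K53.f440851 IH) (Lpr_gt (K55.f741964 IH) (Lpr_dt (K55.f567550 IH) (Lpe (K59.f57523 IH) (Lpe (f66357 IH) (Lpn (LP (LK LD1_c11 LD2_c26 LD3_c32))))))))))))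
theorem f962952 : Led Lsl_ct (LP (LK LD1_c29 LD2_c26 LD3_c11)) = (LP (LK LD1_c20 LD2_c23 LD3_c45)) :=
  Lre_c IH (LK LD1_c29 LD2_c26 LD3_c11) (LK LD1_c20 LD2_c23 LD3_c45) Lrfl Lrfl
theorem f963126 : Led Lsl_dt (LP (LK LD1_c21 LD2_c36 LD3_c32)) = (LP (LK LD1_c20 LD2_c23 LD3_c45)) :=
  Lgr Lrot27 (Lpe (K70.f445964 IH) (Lpe (K70.f756190 IH) (Lpr_cf (K70.f756182 IH) (Lpe (K57.f669444 IH) (Lpe (K56.f669437 IH) (Lpr_gt (f741966 IH) (Lpr_ct (f669213 IH) (Lpr_gt (f963124 IH) (Lpr_ct (f962952 IH) (Lpn (LP (LK LD1_c20 LD2_c23 LD3_c45))))))))))))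
theorem f908037 : Led Lsl_ft (LP (LK LD1_c12 LD2_c4 LD3_c47)) = K70.v39259 :=
  Lgr Lrot4 (Lpe (K51.f415354 IH) (Lpr_ff (K51.f701594 IH) (Lpq (K51.f708757 IH) (Lpr_cf (K70.f908034 IH) (Lpn K70.v39259)))))
theorem f711777 : Led Lsl_bt (LP (LK LD1_c5 LD2_c51 LD3_c41)) = (LP (LK LD1_c11 LD2_c29 LD3_c55)) :=
  Lgr Lrot35 (Lpe (K35.f503441 IH) (Lpe (K53.f445963 IH) (Lpr_ff (K53.f711775 IH) (Lpn (LP (LK LD1_c11 LD2_c29 LD3_c55))))))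
theorem f415353 : Led Lsl_ct (LP (LK LD1_c12 LD2_c4 LD3_c47)) = (LP (LK LD1_c6 LD2_c12 LD3_c51)) :=
  Lre_c IH (LK LD1_c12 LD2_c4 LD3_c47) (LK LD1_c6 LD2_c12 LD3_c51) Lrfl Lrfl
theorem f711794 : Led Lsl_bf (LP (LK LD1_c12 LD2_c4 LD3_c47)) = (LP (LK LD1_c20 LD2_c27 LD3_c2)) :=
  Lgr Lrot90 (Lpr_ct (f415353 IH) (Lpr_bt (K51.f23285 IH) (Lpr_ct (K35.f438582 IH) (Lpr_bt (f711777 IH) (Lpr_ct (K69.f615516 IH) (Lpn (LP (LK LD1_c20 LD2_c27 LD3_c2))))))))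
theorem f711779 : Led Lsl_ft (LP (LK LD1_c21 LD2_c36 LD3_c32)) = (LP (LK LD1_c20 LD2_c27 LD3_c2)) :=
  Lgr Lrot4 (Lpe (K70.f445964 IH) (Lpr_ff (K53.f711775 IH) (Lpe (K53.f615519 IH) (Lpn (LP (LK LD1_c20 LD2_c27 LD3_c2))))))
theorem f908051 : Led Lsl_bf (LP (LK LD1_c21 LD2_c36 LD3_c32)) = K70.v39259 :=
  Lgr Lrot61 (Lpr_ft (f711779 IH) (Lpe (f711794 IH) (Lpr_ft (f908037 IH) (Lpn K70.v39259))))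
theorem f963128 : Led Lsl_bf (LP (LK LD1_c12 LD2_c51 LD3_c50)) = (LP (LK LD1_c20 LD2_c23 LD3_c45)) :=
  Lgr Lrot93 (Lpr_dt (K70.f908038 IH) (Lpe (f908051 IH) (Lpr_dt (f963126 IH) (Lpn (LP (LK LD1_c20 LD2_c23 LD3_c45))))))
theorem f963129 : Led Lsl_bt (LP (LK LD1_c20 LD2_c23 LD3_c45)) = (LP (LK LD1_c12 LD2_c51 LD3_c50)) :=
  Leop (Lpr_bf (f963128 IH) (Lpn (LP (LK LD1_c20 LD2_c23 LD3_c45))))
theorem seed_2886 : LEOK LG_b (LK LD1_c20 LD2_c23 LD3_c45) :=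
  Leoe_b (LK LD1_c20 LD2_c23 LD3_c45) (f963129 IH)
def v48101 : LQ := Led Lsl_ct (LP (LK LD1_c11 LD2_c26 LD3_c21))
theorem f963188 : Led Lsl_ct (LP (LK LD1_c11 LD2_c26 LD3_c21)) = v48101 :=
  Lrfl
theorem f712286 : Led Lsl_bt (LP (LK LD1_c11 LD2_c26 LD3_c21)) = (LP (LK LD1_c5 LD2_c48 LD3_c28)) :=
  Lre_b IH (LK LD1_c11 LD2_c26 LD3_c21) (LK LD1_c5 LD2_c48 LD3_c28) Lrfl Lrfl
theorem f712270 : Led Lsl_bt (LP (LK LD1_c5 LD2_c48 LD3_c52)) = (LP (LK LD1_c11 LD2_c26 LD3_c26)) :=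
  Lgr Lrot35 (Lpr_ff (K35.f503437 IH) (Lpe (K56.f438574 IH) (Lpr_ff (K53.f712268 IH) (Lpn (LP (LK LD1_c11 LD2_c26 LD3_c26))))))
def v15857 : LQ := Led Lsl_ct (LP (LK LD1_c5 LD2_c48 LD3_c52))
theorem f743920 : Led Lsl_ct (LP (LK LD1_c5 LD2_c48 LD3_c52)) = v15857 :=
  Lrfl
theorem f57149 : Led Lsl_ct (LP (LK LD1_c5 LD2_c48 LD3_c28)) = (LP (LK LD1_c11 LD2_c26 LD3_c27)) :=
  Lre_c IH (LK LD1_c5 LD2_c48 LD3_c28) (LK LD1_c11 LD2_c26 LD3_c27) Lrfl Lrfl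
theorem f712284 : Led Lsl_gt (LP (LK LD1_c11 LD2_c26 LD3_c27)) = (LP (LK LD1_c20 LD2_c24 LD3_c10)) :=
  Lre_g IH (LK LD1_c11 LD2_c26 LD3_c27) (LK LD1_c20 LD2_c24 LD3_c10) Lrfl Lrfl
theorem f76065 : Led Lsl_bt (LP (LK LD1_c11 LD2_c59 LD3_c3)) = (LP (LK LD1_c21 LD2_c3 LD3_c53)) :=
  Lre_b IH (LK LD1_c11 LD2_c59 LD3_c3) (LK LD1_c21 LD2_c3 LD3_c53) Lrfl Lrfl
theorem f669436 : Led Lsl_bt (LP (LK LD1_c29 LD2_c25 LD3_c43)) = (LP (LK LD1_c20 LD2_c23 LD3_c5)) :=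
  Lre_b IH (LK LD1_c29 LD2_c25 LD3_c43) (LK LD1_c20 LD2_c23 LD3_c5) Lrfl Lrfl
theorem f712519 : Led Lsl_cf (LP (LK LD1_c11 LD2_c59 LD3_c0)) = (LP (LK LD1_c20 LD2_c23 LD3_c5)) :=
  Lgr Lrot97 (Lpr_bt (K56.f76033 IH) (Lpr_ct (K55.f76059 IH) (Lpr_bt (f76065 IH) (Lpr_ct (K56.f712149 IH) (Lpr_bt (f669436 IH) (Lpn (LP (LK LD1_c20 LD2_c23 LD3_c5))))))))
theorem f712276 : Led Lsl_ft (LP (LK LD1_c12 LD2_c25 LD3_c7)) = (LP (LK LD1_c11 LD2_c26 LD3_c26)) :=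
  Lgr Lrot48 (Lpr_ff (K53.f712268 IH) (Lpn (LP (LK LD1_c11 LD2_c26 LD3_c26))))
theorem f712282 : Led Lsl_df (LP (LK LD1_c12 LD2_c29 LD3_c47)) = (LP (LK LD1_c11 LD2_c26 LD3_c26)) :=
  Lgr Lrot78 (Lpr_ft (K53.f711781 IH) (Lpe (K55.f711790 IH) (Lpr_ft (f712276 IH) (Lpn (LP (LK LD1_c11 LD2_c26 LD3_c26))))))
theorem f720799 : Led Lsl_cf (LP (LK LD1_c20 LD2_c45 LD3_c49)) = (LP (LK LD1_c20 LD2_c24 LD3_c10)) :=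
  Lgr Lrot99 (Lpr_df (K56.f76057 IH) (Lpr_cf (f712519 IH) (Lpr_gf (K57.f720795 IH) (Lpe (K57.f146521 IH) (Lpe (K53.f720789 IH) (Lpr_df (f712282 IH) (Lpr_gt (K53.f151601 IH) (Lpr_ct (f57149 IH) (Lpr_gt (f712284 IH) (Lpn (LP (LK LD1_c20 LD2_c24 LD3_c10))))))))))))
theorem f720804 : Led Lsl_ct (LP (LK LD1_c20 LD2_c45 LD3_c49)) = (LP (LK LD1_c20 LD2_c24 LD3_c10)) :=
  Lgr Lrot59 (Lpr_cf (f720799 IH) (Lpn (LP (LK LD1_c20 LD2_c24 LD3_c10))))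
theorem f76052 : Led Lsl_et (LP (LK LD1_c20 LD2_c45 LD3_c51)) = (LP (LK LD1_c11 LD2_c44 LD3_c23)) :=
  Lre_e IH (LK LD1_c20 LD2_c45 LD3_c51) (LK LD1_c11 LD2_c44 LD3_c23) Lrfl Lrfl
theorem f618450 : Led Lsl_gf (LP (LK LD1_c5 LD2_c59 LD3_c59)) = (LP (LK LD1_c11 LD2_c44 LD3_c23)) :=
  Lgr Lrot138 (Lpr_dt (K69.f75823 IH) (Lpr_gt (K48.f75822 IH) (Lpe (K69.f75819 IH) (Lpr_et (K32.f75532 IH) (Lpr_gt (K36.f75824 IH) (Lpe (K53.f75825 IH) (Lpe (K36.f539643 IH) (Lpr_gt (K69.f618448 IH) (Lpe (f76045 IH) (Lpr_et (f76052 IH) (Lpn (LP (LK LD1_c11 LD2_c44 LD3_c23)))))))))))))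
theorem f743923 : Led Lsl_gt (LP (LK LD1_c6 LD2_c2 LD3_c5)) = v15857 :=
  Lgr Lrot65 (Lpe (K74.f210116 IH) (Lpr_bt (K55.f645212 IH) (Lpqs (K70.f669229 IH) (Lpr_gf (f618450 IH) (Lpe (K56.f76055 IH) (Lpr_ct (f720804 IH) (Lpe (f712284 IH) (Lpe (f57149 IH) (Lpe (K53.f151601 IH) (Lpe (f712270 IH) (Lpr_ct (f743920 IH) (Lpn v15857))))))))))))
theorem f444227 : Led Lsl_bt (LP (LK LD1_c11 LD2_c48 LD3_c40)) = (LP (LK LD1_c6 LD2_c2 LD3_c2)) :=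
  Lre_b IH (LK LD1_c11 LD2_c48 LD3_c40) (LK LD1_c6 LD2_c2 LD3_c2) Lrfl Lrfl
theorem f444244 : Led Lsl_ct (LP (LK LD1_c11 LD2_c48 LD3_c40)) = (LP (LK LD1_c20 LD2_c51 LD3_c13)) :=
  Lre_c IH (LK LD1_c11 LD2_c48 LD3_c40) (LK LD1_c20 LD2_c51 LD3_c13) Lrfl Lrfl
theorem f963190 : Led Lsl_gf (LP (LK LD1_c20 LD2_c51 LD3_c13)) = v48101 :=
  Lgr Lrot126 (Lpe (f444244 IH) (Lpr_bt (f444227 IH) (Lpr_gt (K50.f444240 IH) (Lpr_ct (K74.f210116 IH) (Lpr_gt (f743923 IH) (Lpe (f743920 IH) (Lpr_bt (f712270 IH) (Lpr_gt (K53.f151601 IH) (Lpe (f712286 IH) (Lpr_ct (f963188 IH) (Lpn v48101)))))))))))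
theorem f444243 : Led Lsl_ct (LP (LK LD1_c20 LD2_c51 LD3_c13)) = (LP (LK LD1_c11 LD2_c48 LD3_c40)) :=
  Lre_c IH (LK LD1_c20 LD2_c51 LD3_c13) (LK LD1_c11 LD2_c48 LD3_c40) Lrfl Lrfl
theorem f444228 : Led Lsl_df (LP (LK LD1_c11 LD2_c48 LD3_c40)) = (LP (LK LD1_c6 LD2_c8 LD3_c60)) :=
  Lgr Lrot12 (Lpr_bt (f444227 IH) (Lpr_dt (K50.f444222 IH) (Lpr_bt (K63.f444226 IH) (Lpn (LP (LK LD1_c6 LD2_c8 LD3_c60))))))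
theorem f444217 : Led Lsl_ct (LP (LK LD1_c11 LD2_c59 LD3_c9)) = (LP (LK LD1_c6 LD2_c8 LD3_c60)) :=
  Lre_c IH (LK LD1_c11 LD2_c59 LD3_c9) (LK LD1_c6 LD2_c8 LD3_c60) Lrfl Lrfl
theorem f149731 : Led Lsl_et (LP (LK LD1_c11 LD2_c36 LD3_c56)) = (LP (LK LD1_c20 LD2_c35 LD3_c16)) :=
  Lre_e IH (LK LD1_c11 LD2_c36 LD3_c56) (LK LD1_c20 LD2_c35 LD3_c16) Lrfl Lrfl
theorem f616378 : Led Lsl_cf (LP (LK LD1_c16 LD2_c58 LD3_c21)) = (LP (LK LD1_c20 LD2_c35 LD3_c16)) :=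
  Lgr Lrot39 (Lpr_et (K57.f146528 IH) (Lpr_ct (K57.f616373 IH) (Lpr_et (f149731 IH) (Lpn (LP (LK LD1_c20 LD2_c35 LD3_c16))))))
theorem f616385 : Led Lsl_ct (LP (LK LD1_c16 LD2_c58 LD3_c21)) = (LP (LK LD1_c20 LD2_c35 LD3_c16)) :=
  Lgr Lrot59 (Lpr_cf (f616378 IH) (Lpn (LP (LK LD1_c20 LD2_c35 LD3_c16))))
theorem f720797 : Led Lsl_gf (LP (LK LD1_c11 LD2_c59 LD3_c9)) = (LP (LK LD1_c20 LD2_c35 LD3_c16)) :=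
  Lgr Lrot126 (Lpe (K56.f444248 IH) (Lpr_bt (K56.f444216 IH) (Lpe (K41.f507141 IH) (Lpr_ct (K32.f442917 IH) (Lpr_gt (K35.f507139 IH) (Lpe (K35.f504009 IH) (Lpr_bt (K53.f503449 IH) (Lpr_gt (K53.f720789 IH) (Lpe (K57.f146497 IH) (Lpr_ct (f616385 IH) (Lpn (LP (LK LD1_c20 LD2_c35 LD3_c16)))))))))))))
theorem f146527 : Led Lsl_gt (LP (LK LD1_c26 LD2_c53 LD3_c56)) = (LP (LK LD1_c16 LD2_c58 LD3_c21)) :=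
  Lre_g IH (LK LD1_c26 LD2_c53 LD3_c56) (LK LD1_c16 LD2_c58 LD3_c21) Lrfl Lrfl
def v48100 : LQ := Led Lsl_gf (LP (LK LD1_c11 LD2_c26 LD3_c21))
theorem f963184 : Led Lsl_gf (LP (LK LD1_c11 LD2_c26 LD3_c21)) = v48100 :=
  Lrfl
theorem f963192 : Led Lsl_df (LP (LK LD1_c26 LD2_c53 LD3_c56)) = v48100 :=
  Lgr Lrot155 (Lpr_gt (f146527 IH) (Lpr_ct (f616385 IH) (Lpe (f720797 IH) (Lpr_ct (f444217 IH) (Lpe (f444228 IH) (Lpe (f444243 IH) (Lpr_gf (f963190 IH) (Lpe (f963188 IH) (Lpr_gf (f963184 IH) (Lpn v48100))))))))))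
theorem f741948 : Led Lsl_at (LP (LK LD1_c20 LD2_c24 LD3_c0)) = (LP (LK LD1_c11 LD2_c26 LD3_c21)) :=
  Lre_a IH (LK LD1_c20 LD2_c24 LD3_c0) (LK LD1_c11 LD2_c26 LD3_c21) Lrfl Lrfl
theorem f963185 : Led Lsl_gt (LP (LK LD1_c27 LD2_c42 LD3_c52)) = v48100 :=
  Lgr Lrot5 (Lpe (K67.f743676 IH) (Lpr_at (f741948 IH) (Lpr_gf (f963184 IH) (Lpn v48100))))
theorem f438830 : Led Lsl_dt (LP (LK LD1_c20 LD2_c23 LD3_c27)) = (LP (LK LD1_c11 LD2_c25 LD3_c55)) :=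
  Lre_d IH (LK LD1_c20 LD2_c23 LD3_c27) (LK LD1_c11 LD2_c25 LD3_c55) Lrfl Lrfl
theorem f743698 : Led Lsl_af (LP (LK LD1_c20 LD2_c23 LD3_c27)) = (LP (LK LD1_c27 LD2_c42 LD3_c52)) :=
  Lgr Lrot117 (Lpr_dt (f438830 IH) (Lpr_at (K67.f743696 IH) (Lpr_dt (K67.f699136 IH) (Lpn (LP (LK LD1_c27 LD2_c42 LD3_c52))))))
theorem f742024 : Led Lsl_bf (LP (LK LD1_c20 LD2_c24 LD3_c0)) = (LP (LK LD1_c22 LD2_c3 LD3_c22)) :=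
  Lgr Lrot24 (Lpr_bt (K67.f742019 IH) (Lpn (LP (LK LD1_c22 LD2_c3 LD3_c22))))
theorem f743667 : Led Lsl_bt (LP (LK LD1_c27 LD2_c42 LD3_c52)) = (LP (LK LD1_c17 LD2_c59 LD3_c28)) :=
  Lre_b IH (LK LD1_c27 LD2_c42 LD3_c52) (LK LD1_c17 LD2_c59 LD3_c28) Lrfl Lrfl
theorem f743668 : Led Lsl_ft (LP (LK LD1_c20 LD2_c24 LD3_c0)) = (LP (LK LD1_c27 LD2_c42 LD3_c52)) :=
  Lgr Lrot75 (Lpr_bf (f742024 IH) (Lpr_ff (K67.f743663 IH) (Lpe (f743667 IH) (Lpn (LP (LK LD1_c27 LD2_c42 LD3_c52))))))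
theorem f743705 : Led Lsl_ft (LP (LK LD1_c20 LD2_c23 LD3_c27)) = (LP (LK LD1_c11 LD2_c26 LD3_c21)) :=
  Lgr Lrot101 (Lpr_af (f743698 IH) (Lpe (f743668 IH) (Lpe (K69.f741959 IH) (Lpn (LP (LK LD1_c11 LD2_c26 LD3_c21))))))
theorem f743707 : Led Lsl_ff (LP (LK LD1_c20 LD2_c23 LD3_c27)) = (LP (LK LD1_c11 LD2_c26 LD3_c21)) :=
  Lgr Lrot3 (Lpr_ft (f743705 IH) (Lpn (LP (LK LD1_c11 LD2_c26 LD3_c21))))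
theorem f743703 : Led Lsl_at (LP (LK LD1_c20 LD2_c23 LD3_c27)) = (LP (LK LD1_c27 LD2_c42 LD3_c52)) :=
  Lgr Lrot100 (Lpr_af (f743698 IH) (Lpn (LP (LK LD1_c27 LD2_c42 LD3_c52))))
theorem f741922 : Led Lsl_gt (LP (LK LD1_c11 LD2_c26 LD3_c21)) = (LP (LK LD1_c20 LD2_c24 LD3_c2)) :=
  Lre_g IH (LK LD1_c11 LD2_c26 LD3_c21) (LK LD1_c20 LD2_c24 LD3_c2) Lrfl Lrfl
theorem f743709 : Led Lsl_gf (LP (LK LD1_c27 LD2_c42 LD3_c52)) = (LP (LK LD1_c20 LD2_c24 LD3_c2)) :=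
  Lgr Lrot76 (Lpe (f743703 IH) (Lpr_ff (f743707 IH) (Lpr_gt (f741922 IH) (Lpn (LP (LK LD1_c20 LD2_c24 LD3_c2))))))
theorem f711383 : Led Lsl_et (LP (LK LD1_c11 LD2_c27 LD3_c14)) = (LP (LK LD1_c20 LD2_c25 LD3_c15)) :=
  Lre_e IH (LK LD1_c11 LD2_c27 LD3_c14) (LK LD1_c20 LD2_c25 LD3_c15) Lrfl Lrfl
theorem f711386 : Led Lsl_dt (LP (LK LD1_c20 LD2_c25 LD3_c15)) = (LP (LK LD1_c20 LD2_c22 LD3_c37)) :=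
  Lgr Lrot77 (Lpe (f711383 IH) (Lpr_df (f711378 IH) (Lpe (f711384 IH) (Lpe (f73263 IH) (Lpe (f711385 IH) (Lpn (LP (LK LD1_c20 LD2_c22 LD3_c37))))))))
theorem f711388 : Led Lsl_df (LP (LK LD1_c20 LD2_c25 LD3_c15)) = (LP (LK LD1_c20 LD2_c22 LD3_c37)) :=
  Lgr Lrot38 (Lpr_dt (f711386 IH) (Lpn (LP (LK LD1_c20 LD2_c22 LD3_c37))))
theorem f962148 : Led Lsl_at (LP (LK LD1_c20 LD2_c25 LD3_c15)) = (LP (LK LD1_c21 LD2_c31 LD3_c58)) :=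
  Lgr Lrot51 (Lpr_df (f711388 IH) (Lpr_af (f962144 IH) (Lpr_df (f749978 IH) (Lpn (LP (LK LD1_c21 LD2_c31 LD3_c58))))))
theorem f962217 : Led Lsl_af (LP (LK LD1_c11 LD2_c27 LD3_c14)) = (LP (LK LD1_c12 LD2_c25 LD3_c4)) :=
  Lgr Lrot50 (Lpr_et (f711383 IH) (Lpr_at (f962148 IH) (Lpr_et (f623288 IH) (Lpn (LP (LK LD1_c12 LD2_c25 LD3_c4))))))
theorem f438586 : Led Lsl_bt (LP (LK LD1_c6 LD2_c26 LD3_c35)) = (LP (LK LD1_c3 LD2_c11 LD3_c11)) :=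
  Lre_b IH (LK LD1_c6 LD2_c26 LD3_c35) (LK LD1_c3 LD2_c11 LD3_c11) Lrfl Lrfl
theorem f623265 : Led Lsl_ff (LP (LK LD1_c6 LD2_c26 LD3_c35)) = (LP (LK LD1_c5 LD2_c48 LD3_c56)) :=
  Lgr Lrot25 (Lpr_bt (f438586 IH) (Lpr_ft (K56.f623261 IH) (Lpr_bt (K57.f623165 IH) (Lpn (LP (LK LD1_c5 LD2_c48 LD3_c56))))))
theorem f623358 : Led Lsl_at (LP (LK LD1_c6 LD2_c26 LD3_c35)) = (LP (LK LD1_c12 LD2_c25 LD3_c3)) :=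
  Lre_a IH (LK LD1_c6 LD2_c26 LD3_c35) (LK LD1_c12 LD2_c25 LD3_c3) Lrfl Lrfl
theorem f623384 : Led Lsl_gt (LP (LK LD1_c5 LD2_c48 LD3_c56)) = (LP (LK LD1_c11 LD2_c27 LD3_c13)) :=
  Lre_g IH (LK LD1_c5 LD2_c48 LD3_c56) (LK LD1_c11 LD2_c27 LD3_c13) Lrfl Lrfl
theorem f623385 : Led Lsl_gf (LP (LK LD1_c12 LD2_c25 LD3_c3)) = (LP (LK LD1_c11 LD2_c27 LD3_c13)) :=
  Lgr Lrot76 (Lpe (f623358 IH) (Lpr_ff (f623265 IH) (Lpr_gt (f623384 IH) (Lpn (LP (LK LD1_c11 LD2_c27 LD3_c13))))))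
theorem f962223 : Led Lsl_ft (LP (LK LD1_c11 LD2_c27 LD3_c13)) = (LP (LK LD1_c12 LD2_c25 LD3_c4)) :=
  Lgr Lrot2 (Lpe (f623385 IH) (Lpr_gt (f623359 IH) (Lpr_af (f962217 IH) (Lpn (LP (LK LD1_c12 LD2_c25 LD3_c4))))))
theorem f962227 : Led Lsl_ff (LP (LK LD1_c11 LD2_c27 LD3_c13)) = (LP (LK LD1_c12 LD2_c25 LD3_c4)) :=
  Lgr Lrot3 (Lpr_ft (f962223 IH) (Lpn (LP (LK LD1_c12 LD2_c25 LD3_c4))))
theorem f623274 : Led Lsl_at (LP (LK LD1_c12 LD2_c25 LD3_c3)) = (LP (LK LD1_c6 LD2_c26 LD3_c35)) :=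
  Lre_a IH (LK LD1_c12 LD2_c25 LD3_c3) (LK LD1_c6 LD2_c26 LD3_c35) Lrfl Lrfl
theorem f623275 : Led Lsl_ff (LP (LK LD1_c12 LD2_c25 LD3_c3)) = (LP (LK LD1_c11 LD2_c27 LD3_c10)) :=
  Lgr Lrot30 (Lpr_at (f623274 IH) (Lpr_ft (K57.f623272 IH) (Lpr_at (K57.f623166 IH) (Lpn (LP (LK LD1_c11 LD2_c27 LD3_c10))))))
theorem f623378 : Led Lsl_gt (LP (LK LD1_c12 LD2_c25 LD3_c5)) = (LP (LK LD1_c6 LD2_c26 LD3_c35)) :=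
  Lre_g IH (LK LD1_c12 LD2_c25 LD3_c5) (LK LD1_c6 LD2_c26 LD3_c35) Lrfl Lrfl
theorem f623379 : Led Lsl_gf (LP (LK LD1_c12 LD2_c25 LD3_c5)) = (LP (LK LD1_c11 LD2_c27 LD3_c10)) :=
  Lgr Lrot47 (Lpr_gt (f623378 IH) (Lpe (f623274 IH) (Lpr_ff (f623275 IH) (Lpn (LP (LK LD1_c11 LD2_c27 LD3_c10))))))
theorem f962231 : Led Lsl_at (LP (LK LD1_c11 LD2_c27 LD3_c13)) = (LP (LK LD1_c12 LD2_c25 LD3_c5)) :=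
  Lgr Lrot26 (Lpr_ff (f962227 IH) (Lpr_gt (K66.f623282 IH) (Lpe (f623379 IH) (Lpn (LP (LK LD1_c12 LD2_c25 LD3_c5))))))
theorem f962219 : Led Lsl_at (LP (LK LD1_c11 LD2_c27 LD3_c14)) = (LP (LK LD1_c12 LD2_c25 LD3_c4)) :=
  Lgr Lrot100 (Lpr_af (f962217 IH) (Lpn (LP (LK LD1_c12 LD2_c25 LD3_c4))))
theorem f962237 : Led Lsl_ff (LP (LK LD1_c11 LD2_c27 LD3_c14)) = (LP (LK LD1_c12 LD2_c25 LD3_c5)) :=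
  Lgr Lrot30 (Lpr_at (f962219 IH) (Lpe (f962227 IH) (Lpr_at (f962231 IH) (Lpn (LP (LK LD1_c12 LD2_c25 LD3_c5))))))
theorem f752615 : Led Lsl_et (LP (LK LD1_c20 LD2_c22 LD3_c35)) = (LP (LK LD1_c11 LD2_c25 LD3_c3)) :=
  Lre_e IH (LK LD1_c20 LD2_c22 LD3_c35) (LK LD1_c11 LD2_c25 LD3_c3) Lrfl Lrfl
theorem f119884 : Led Lsl_gf (LP (LK LD1_c2 LD2_c49 LD3_c49)) = (LP (LK LD1_c3 LD2_c9 LD3_c51)) :=
  Lgr Lrot47 (Lpr_gt (K5.f66271 IH) (Lpe (K4.f117624 IH) (Lpr_ff (K4.f117533 IH) (Lpn (LP (LK LD1_c3 LD2_c9 LD3_c51))))))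
theorem f119876 : Led Lsl_et (LP (LK LD1_c5 LD2_c47 LD3_c42)) = (LP (LK LD1_c11 LD2_c25 LD3_c10)) :=
  Lre_e IH (LK LD1_c5 LD2_c47 LD3_c42) (LK LD1_c11 LD2_c25 LD3_c10) Lrfl Lrfl
theorem f415454 : Led Lsl_dt (LP (LK LD1_c5 LD2_c48 LD3_c26)) = (LP (LK LD1_c11 LD2_c26 LD3_c21)) :=
  Lre_d IH (LK LD1_c5 LD2_c48 LD3_c26) (LK LD1_c11 LD2_c26 LD3_c21) Lrfl Lrfl
theorem f752616 : Led Lsl_dt (LP (LK LD1_c20 LD2_c22 LD3_c35)) = (LP (LK LD1_c20 LD2_c24 LD3_c2)) :=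
  Lgr Lrot56 (Lpr_et (f752615 IH) (Lpr_gt (f752608 IH) (Lpe (K51.f117511 IH) (Lpe (K4.f117508 IH) (Lpe (f119884 IH) (Lpe (K6.f66272 IH) (Lpr_et (f119876 IH) (Lpqs (K67.f750015 IH) (Lpe (K67.f741921 IH) (Lpr_dt (f415454 IH) (Lpr_gt (f741922 IH) (Lpn (LP (LK LD1_c20 LD2_c24 LD3_c2))))))))))))))
theorem f752631 : Led Lsl_df (LP (LK LD1_c20 LD2_c22 LD3_c35)) = (LP (LK LD1_c20 LD2_c24 LD3_c2)) :=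
  Lgr Lrot38 (Lpr_dt (f752616 IH) (Lpn (LP (LK LD1_c20 LD2_c24 LD3_c2))))
theorem f711380 : Led Lsl_bt (LP (LK LD1_c20 LD2_c22 LD3_c35)) = (LP (LK LD1_c11 LD2_c25 LD3_c6)) :=
  Lre_b IH (LK LD1_c20 LD2_c22 LD3_c35) (LK LD1_c11 LD2_c25 LD3_c6) Lrfl Lrfl
theorem f752634 : Led Lsl_bt (LP (LK LD1_c11 LD2_c27 LD3_c14)) = (LP (LK LD1_c20 LD2_c24 LD3_c2)) :=
  Lgr Lrot95 (Lpr_df (f711378 IH) (Lpe (f711380 IH) (Lpr_df (f752631 IH) (Lpn (LP (LK LD1_c20 LD2_c24 LD3_c2))))))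
theorem f623382 : Led Lsl_bt (LP (LK LD1_c21 LD2_c31 LD3_c59)) = (LP (LK LD1_c12 LD2_c25 LD3_c5)) :=
  Lre_b IH (LK LD1_c21 LD2_c31 LD3_c59) (LK LD1_c12 LD2_c25 LD3_c5) Lrfl Lrfl
theorem f962239 : Led Lsl_ft (LP (LK LD1_c20 LD2_c24 LD3_c2)) = (LP (LK LD1_c21 LD2_c31 LD3_c59)) :=
  Lgr Lrot75 (Lpe (f752634 IH) (Lpr_ff (f962237 IH) (Lpe (f623382 IH) (Lpn (LP (LK LD1_c21 LD2_c31 LD3_c59))))))
theorem f963186 : Led Lsl_at (LP (LK LD1_c21 LD2_c31 LD3_c59)) = v48100 :=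
  Lgr Lrot26 (Lpe (f962239 IH) (Lpe (f743709 IH) (Lpr_gt (f963185 IH) (Lpn v48100))))
theorem f685985 : Led Lsl_gt (LP (LK LD1_c6 LD2_c51 LD3_c8)) = (LP (LK LD1_c12 LD2_c56 LD3_c30)) :=
  Lgr Lrot139 (Lpe (K65.f101707 IH) (Lpe (K17.f101701 IH) (Lpe (K17.f99549 IH) (Lpr_dt (K8.f99538 IH) (Lpe (K6.f59538 IH) (Lpr_df (K6.f137979 IH) (Lpr_et (K49.f137981 IH) (Lpqs (K49.f685983 IH) (Lpe (K49.f685967 IH) (Lpe (K58.f414203 IH) (Lpe (K58.f414201 IH) (Lpn (LP (LK LD1_c12 LD2_c56 LD3_c30))))))))))))))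
theorem f685987 : Led Lsl_gf (LP (LK LD1_c6 LD2_c51 LD3_c8)) = (LP (LK LD1_c9 LD2_c32 LD3_c20)) :=
  Lgr Lrot47 (Lpr_gt (f685985 IH) (Lpe (K58.f414185 IH) (Lpr_ff (K65.f623080 IH) (Lpn (LP (LK LD1_c9 LD2_c32 LD3_c20))))))
theorem f56717 : Led Lsl_gt (LP (LK LD1_c11 LD2_c31 LD3_c53)) = (LP (LK LD1_c5 LD2_c52 LD3_c45)) :=
  Lre_g IH (LK LD1_c11 LD2_c31 LD3_c53) (LK LD1_c5 LD2_c52 LD3_c45) Lrfl Lrfl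
theorem f876571 : Led Lsl_ef (LP (LK LD1_c11 LD2_c31 LD3_c53)) = (LP (LK LD1_c20 LD2_c27 LD3_c59)) :=
  Lgr Lrot114 (Lpr_gt (f56717 IH) (Lpe (K41.f56712 IH) (Lpr_dt (K65.f640863 IH) (Lpr_gt (K65.f825091 IH) (Lpe (K65.f825093 IH) (Lpe (K65.f782036 IH) (Lpr_gt (K17.f413859 IH) (Lpr_dt (K7.f40689 IH) (Lpr_gt (K60.f782086 IH) (Lpr_df (K67.f876567 IH) (Lpn (LP (LK LD1_c20 LD2_c27 LD3_c59)))))))))))))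
theorem f876574 : Led Lsl_et (LP (LK LD1_c11 LD2_c31 LD3_c53)) = (LP (LK LD1_c20 LD2_c27 LD3_c59)) :=
  Lgr Lrot87 (Lpr_ef (f876571 IH) (Lpn (LP (LK LD1_c20 LD2_c27 LD3_c59))))
theorem f904136 : Led Lsl_df (LP (LK LD1_c12 LD2_c25 LD3_c5)) = (LP (LK LD1_c11 LD2_c31 LD3_c53)) :=
  Lgr Lrot168 (Lpr_gf (f623379 IH) (Lpe (K57.f623251 IH) (Lpr_et (K66.f743940 IH) (Lpqs (K66.f822871 IH) (Lpe (K66.f785119 IH) (Lpe (K60.f654356 IH) (Lpr_dt (K65.f101707 IH) (Lpr_gf (f685987 IH) (Lpe (K65.f623088 IH) (Lpr_gf (K69.f904134 IH) (Lpe (f876574 IH) (Lpn (LP (LK LD1_c11 LD2_c31 LD3_c53))))))))))))))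
theorem f904141 : Led Lsl_dt (LP (LK LD1_c12 LD2_c25 LD3_c5)) = (LP (LK LD1_c11 LD2_c31 LD3_c53)) :=
  Lgr Lrot42 (Lpr_df (f904136 IH) (Lpn (LP (LK LD1_c11 LD2_c31 LD3_c53))))
theorem f876573 : Led Lsl_bt (LP (LK LD1_c11 LD2_c31 LD3_c53)) = (LP (LK LD1_c20 LD2_c28 LD3_c30)) :=
  Lre_b IH (LK LD1_c11 LD2_c31 LD3_c53) (LK LD1_c20 LD2_c28 LD3_c30) Lrfl Lrfl
theorem f904149 : Led Lsl_df (LP (LK LD1_c21 LD2_c31 LD3_c59)) = (LP (LK LD1_c20 LD2_c28 LD3_c30)) :=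
  Lgr Lrot12 (Lpr_bt (f623382 IH) (Lpr_dt (f904141 IH) (Lpr_bt (f876573 IH) (Lpn (LP (LK LD1_c20 LD2_c28 LD3_c30))))))
theorem f963193 : Led Lsl_at (LP (LK LD1_c26 LD2_c53 LD3_c56)) = (LP (LK LD1_c20 LD2_c28 LD3_c30)) :=
  Lgr Lrot51 (Lpr_df (f963192 IH) (Lpe (f963186 IH) (Lpr_df (f904149 IH) (Lpn (LP (LK LD1_c20 LD2_c28 LD3_c30))))))
theorem f963194 : Led Lsl_at (LP (LK LD1_c26 LD2_c53 LD3_c56)) = (LP (LK LD1_c20 LD2_c28 LD3_c30)) :=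
  Leop (Lpe (f963193 IH) (Lpn (LP (LK LD1_c26 LD2_c53 LD3_c56))))
theorem seed_2887 : LEOK LG_a (LK LD1_c26 LD2_c53 LD3_c56) :=
  Leoe_a (LK LD1_c26 LD2_c53 LD3_c56) (f963194 IH)
def v48103 : LQ := Led Lsl_dt (LP (LK LD1_c11 LD2_c26 LD3_c22))
theorem f963243 : Led Lsl_dt (LP (LK LD1_c11 LD2_c26 LD3_c22)) = v48103 :=
  Lrfl
theorem f57329 : Led Lsl_dt (LP (LK LD1_c5 LD2_c48 LD3_c24)) = (LP (LK LD1_c2 LD2_c50 LD3_c17)) :=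
  Lre_d IH (LK LD1_c5 LD2_c48 LD3_c24) (LK LD1_c2 LD2_c50 LD3_c17) Lrfl Lrfl
theorem f57388 : Led Lsl_ct (LP (LK LD1_c11 LD2_c26 LD3_c16)) = (LP (LK LD1_c5 LD2_c48 LD3_c24)) :=
  Lre_c IH (LK LD1_c11 LD2_c26 LD3_c16) (LK LD1_c5 LD2_c48 LD3_c24) Lrfl Lrfl
theorem f57425 : Led Lsl_gt (LP (LK LD1_c20 LD2_c23 LD3_c57)) = (LP (LK LD1_c11 LD2_c26 LD3_c16)) :=
  Lre_g IH (LK LD1_c20 LD2_c23 LD3_c57) (LK LD1_c11 LD2_c26 LD3_c16) Lrfl Lrfl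
theorem f151721 : Led Lsl_dt (LP (LK LD1_c5 LD2_c48 LD3_c35)) = (LP (LK LD1_c11 LD2_c26 LD3_c43)) :=
  Lre_d IH (LK LD1_c5 LD2_c48 LD3_c35) (LK LD1_c11 LD2_c26 LD3_c43) Lrfl Lrfl
theorem f66350 : Led Lsl_dt (LP (LK LD1_c7 LD2_c41 LD3_c56)) = (LP (LK LD1_c14 LD2_c30 LD3_c41)) :=
  Lre_d IH (LK LD1_c7 LD2_c41 LD3_c56) (LK LD1_c14 LD2_c30 LD3_c41) Lrfl Lrfl
theorem f137173 : Led Lsl_gt (LP (LK LD1_c24 LD2_c12 LD3_c1)) = (LP (LK LD1_c14 LD2_c30 LD3_c41)) :=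
  Lre_g IH (LK LD1_c24 LD2_c12 LD3_c1) (LK LD1_c14 LD2_c30 LD3_c41) Lrfl Lrfl
theorem f643606 : Led Lsl_df (LP (LK LD1_c24 LD2_c12 LD3_c1)) = (LP (LK LD1_c20 LD2_c24 LD3_c39)) :=
  Lgr Lrot170 (Lpr_gt (f137173 IH) (Lpe (f66350 IH) (Lpr_et (K41.f66386 IH) (Lpr_gt (K32.f137168 IH) (Lpe (K6.f65772 IH) (Lpe (K8.f124069 IH) (Lpe (K28.f137174 IH) (Lpr_et (K55.f137175 IH) (Lpr_gt (K52.f137176 IH) (Lpr_ef (K57.f643604 IH) (Lpn (LP (LK LD1_c20 LD2_c24 LD3_c39)))))))))))))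
theorem f643608 : Led Lsl_dt (LP (LK LD1_c24 LD2_c12 LD3_c1)) = (LP (LK LD1_c20 LD2_c24 LD3_c39)) :=
  Lgr Lrot42 (Lpr_df (f643606 IH) (Lpn (LP (LK LD1_c20 LD2_c24 LD3_c39))))
theorem f963247 : Led Lsl_gf (LP (LK LD1_c24 LD2_c12 LD3_c1)) = v48103 :=
  Lgr Lrot143 (Lpr_dt (f643608 IH) (Lpe (K57.f436308 IH) (Lpe (f151721 IH) (Lpe (K7.f66362 IH) (Lpe (K7.f66364 IH) (Lpe (K7.f151589 IH) (Lpe (K55.f57527 IH) (Lpr_gt (K48.f57514 IH) (Lpr_dt (f963243 IH) (Lpn v48103))))))))))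
theorem f963248 : Led Lsl_cf (LP (LK LD1_c20 LD2_c23 LD3_c57)) = (LP (LK LD1_c24 LD2_c12 LD3_c1)) :=
  Lgr Lrot188 (Lpr_gt (f57425 IH) (Lpr_ct (f57388 IH) (Lpr_dt (f57329 IH) (Lpe (K48.f57115 IH) (Lpe (K52.f57509 IH) (Lpe (K59.f57523 IH) (Lpe (K52.f669211 IH) (Lpr_dt (f963243 IH) (Lpe (f963247 IH) (Lpn (LP (LK LD1_c24 LD2_c12 LD3_c1))))))))))))
theorem f963249 : Led Lsl_ct (LP (LK LD1_c24 LD2_c12 LD3_c1)) = (LP (LK LD1_c20 LD2_c23 LD3_c57)) :=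
  Leop (Lpr_cf (f963248 IH) (Lpn (LP (LK LD1_c24 LD2_c12 LD3_c1))))
theorem seed_2888 : LEOK LG_c (LK LD1_c24 LD2_c12 LD3_c1) :=
  Leoe_c (LK LD1_c24 LD2_c12 LD3_c1) (f963249 IH)
def v48115 : LQ := Led Lsl_gt (LP (LK LD1_c11 LD2_c26 LD3_c30))
theorem f963344 : Led Lsl_gt (LP (LK LD1_c11 LD2_c26 LD3_c30)) = v48115 :=
  Lrfl
theorem f699174 : Led Lsl_dt (LP (LK LD1_c5 LD2_c48 LD3_c30)) = (LP (LK LD1_c11 LD2_c26 LD3_c29)) :=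
  Lre_d IH (LK LD1_c5 LD2_c48 LD3_c30) (LK LD1_c11 LD2_c26 LD3_c29) Lrfl Lrfl
theorem f699149 : Led Lsl_gt (LP (LK LD1_c20 LD2_c24 LD3_c15)) = (LP (LK LD1_c11 LD2_c26 LD3_c29)) :=
  Lre_g IH (LK LD1_c20 LD2_c24 LD3_c15) (LK LD1_c11 LD2_c26 LD3_c29) Lrfl Lrfl
theorem f743587 : Led Lsl_af (LP (LK LD1_c22 LD2_c3 LD3_c22)) = (LP (LK LD1_c17 LD2_c59 LD3_c26)) :=
  Lgr Lrot0 (Lpr_at (K69.f743585 IH) (Lpn (LP (LK LD1_c17 LD2_c59 LD3_c26))))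
theorem f743673 : Led Lsl_af (LP (LK LD1_c11 LD2_c26 LD3_c29)) = (LP (LK LD1_c17 LD2_c59 LD3_c28)) :=
  Lgr Lrot45 (Lpr_ft (K69.f743580 IH) (Lpe (f743587 IH) (Lpr_ft (K67.f743671 IH) (Lpn (LP (LK LD1_c17 LD2_c59 LD3_c28))))))
theorem f743678 : Led Lsl_gt (LP (LK LD1_c22 LD2_c3 LD3_c22)) = (LP (LK LD1_c20 LD2_c24 LD3_c15)) :=
  Lgr Lrot5 (Lpr_ft (K67.f743671 IH) (Lpe (f743673 IH) (Lpe (f699149 IH) (Lpn (LP (LK LD1_c20 LD2_c24 LD3_c15))))))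
theorem f699137 : Led Lsl_dt (LP (LK LD1_c12 LD2_c53 LD3_c40)) = (LP (LK LD1_c22 LD2_c3 LD3_c22)) :=
  Lre_d IH (LK LD1_c12 LD2_c53 LD3_c40) (LK LD1_c22 LD2_c3 LD3_c22) Lrfl Lrfl
theorem f100306 : Led Lsl_gt (LP (LK LD1_c11 LD2_c25 LD3_c29)) = (LP (LK LD1_c5 LD2_c47 LD3_c56)) :=
  Lre_g IH (LK LD1_c11 LD2_c25 LD3_c29) (LK LD1_c5 LD2_c47 LD3_c56) Lrfl Lrfl
theorem f142078 : Led Lsl_et (LP (LK LD1_c20 LD2_c22 LD3_c56)) = (LP (LK LD1_c11 LD2_c25 LD3_c29)) :=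
  Lre_e IH (LK LD1_c20 LD2_c22 LD3_c56) (LK LD1_c11 LD2_c25 LD3_c29) Lrfl Lrfl
theorem f743682 : Led Lsl_dt (LP (LK LD1_c20 LD2_c22 LD3_c56)) = (LP (LK LD1_c20 LD2_c24 LD3_c15)) :=
  Lgr Lrot56 (Lpr_et (f142078 IH) (Lpr_gt (f100306 IH) (Lpe (K8.f100284 IH) (Lpr_dt (K8.f100252 IH) (Lpr_gt (K8.f132406 IH) (Lpr_df (K8.f142039 IH) (Lpr_et (K32.f142043 IH) (Lpr_gt (K69.f700555 IH) (Lpr_dt (f699137 IH) (Lpr_gt (f743678 IH) (Lpn (LP (LK LD1_c20 LD2_c24 LD3_c15)))))))))))))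
theorem f157131 : Led Lsl_dt (LP (LK LD1_c17 LD2_c57 LD3_c47)) = (LP (LK LD1_c27 LD2_c42 LD3_c15)) :=
  Lre_d IH (LK LD1_c17 LD2_c57 LD3_c47) (LK LD1_c27 LD2_c42 LD3_c15) Lrfl Lrfl
theorem f589218 : Led Lsl_gf (LP (LK LD1_c27 LD2_c42 LD3_c15)) = (LP (LK LD1_c20 LD2_c5 LD3_c58)) :=
  Lgr Lrot76 (Lpr_af (K51.f589210 IH) (Lpe (K51.f418641 IH) (Lpr_gt (K53.f418644 IH) (Lpn (LP (LK LD1_c20 LD2_c5 LD3_c58))))))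
theorem f963345 : Led Lsl_df (LP (LK LD1_c20 LD2_c5 LD3_c58)) = v48115 :=
  Lgr Lrot135 (Lpe (f589218 IH) (Lpe (f157131 IH) (Lpr_et (K51.f157132 IH) (Lpr_gt (f132454 IH) (Lpe (f142078 IH) (Lpr_dt (f743682 IH) (Lpr_gt (f699149 IH) (Lpe (f699174 IH) (Lpr_et (K69.f699175 IH) (Lpr_gt (f963344 IH) (Lpn v48115)))))))))))
theorem f913617 : Led Lsl_af (LP (LK LD1_c20 LD2_c22 LD3_c15)) = (LP (LK LD1_c20 LD2_c5 LD3_c58)) :=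
  Lgr Lrot0 (Lpr_at (K70.f913613 IH) (Lpn (LP (LK LD1_c20 LD2_c5 LD3_c58))))
theorem f416544 : Led Lsl_bt (LP (LK LD1_c21 LD2_c32 LD3_c44)) = (LP (LK LD1_c12 LD2_c25 LD3_c41)) :=
  Lre_b IH (LK LD1_c21 LD2_c32 LD3_c44) (LK LD1_c12 LD2_c25 LD3_c41) Lrfl Lrfl
theorem f699044 : Led Lsl_df (LP (LK LD1_c21 LD2_c32 LD3_c44)) = (LP (LK LD1_c20 LD2_c22 LD3_c15)) :=
  Lgr Lrot12 (Lpr_bt (f416544 IH) (Lpr_dt (K65.f699042 IH) (Lpr_bt (K53.f586930 IH) (Lpn (LP (LK LD1_c20 LD2_c22 LD3_c15))))))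
theorem f963346 : Led Lsl_at (LP (LK LD1_c21 LD2_c32 LD3_c44)) = v48115 :=
  Lgr Lrot51 (Lpr_df (f699044 IH) (Lpr_af (f913617 IH) (Lpr_df (f963345 IH) (Lpn v48115))))
theorem f963358 : Led Lsl_gt (LP (LK LD1_c18 LD2_c1 LD3_c38)) = (LP (LK LD1_c11 LD2_c26 LD3_c30)) :=
  Lgr Lrot5 (Lpe (K70.f913571 IH) (Lpr_at (f963346 IH) (Lpe (f963344 IH) (Lpn (LP (LK LD1_c11 LD2_c26 LD3_c30))))))
theorem f963359 : Led Lsl_gt (LP (LK LD1_c18 LD2_c1 LD3_c38)) = (LP (LK LD1_c11 LD2_c26 LD3_c30)) :=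
  Leop (Lpe (f963358 IH) (Lpn (LP (LK LD1_c18 LD2_c1 LD3_c38))))
theorem seed_2889 : LEOK LG_g (LK LD1_c18 LD2_c1 LD3_c38) :=
  Leoe_g (LK LD1_c18 LD2_c1 LD3_c38) (f963359 IH)
def v48120 : LQ := Led Lsl_gt (LP (LK LD1_c11 LD2_c26 LD3_c35))
theorem f963377 : Led Lsl_gt (LP (LK LD1_c11 LD2_c26 LD3_c35)) = v48120 :=
  Lrfl
theorem f963383 : Led Lsl_et (LP (LK LD1_c16 LD2_c51 LD3_c49)) = v48120 :=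
  Lgr Lrot122 (Lpr_dt (K55.f380145 IH) (Lpr_gt (K52.f380014 IH) (Lpe (K55.f613716 IH) (Lpr_et (K55.f452605 IH) (Lpr_gt (K55.f438267 IH) (Lpr_dt (K48.f66361 IH) (Lpr_gt (K55.f66360 IH) (Lpe (K55.f567550 IH) (Lpr_et (K55.f567561 IH) (Lpr_gt (f963377 IH) (Lpn v48120)))))))))))
theorem f568488 : Led Lsl_ft (LP (LK LD1_c9 LD2_c1 LD3_c49)) = (LP (LK LD1_c16 LD2_c51 LD3_c49)) :=
  Lre_f IH (LK LD1_c9 LD2_c1 LD3_c49) (LK LD1_c16 LD2_c51 LD3_c49) Lrfl Lrfl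
theorem f568476 : Led Lsl_ff (LP (LK LD1_c4 LD2_c31 LD3_c60)) = (LP (LK LD1_c2 LD2_c13 LD3_c2)) :=
  Lgr Lrot52 (Lpr_at (K40.f181453 IH) (Lpr_gf (K42.f568454 IH) (Lpe (K41.f20781 IH) (Lpn (LP (LK LD1_c2 LD2_c13 LD3_c2))))))
theorem f571481 : Led Lsl_ft (LP (LK LD1_c5 LD2_c48 LD3_c42)) = (LP (LK LD1_c4 LD2_c32 LD3_c2)) :=
  Lgr Lrot54 (Lpr_df (K42.f571470 IH) (Lpr_ff (f568476 IH) (Lpe (K55.f181457 IH) (Lpn (LP (LK LD1_c4 LD2_c32 LD3_c2))))))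
theorem f963387 : Led Lsl_ff (LP (LK LD1_c11 LD2_c26 LD3_c51)) = v48120 :=
  Lgr Lrot72 (Lpr_et (K55.f613282 IH) (Lpr_ft (f571481 IH) (Lpr_et (K55.f567556 IH) (Lpr_ft (f568488 IH) (Lpr_et (f963383 IH) (Lpn v48120))))))
theorem f743966 : Led Lsl_ft (LP (LK LD1_c5 LD2_c49 LD3_c7)) = v15863 :=
  Lgr Lrot48 (Lpr_ff (f743965 IH) (Lpn v15863))
theorem f963388 : Led Lsl_bt v15863 = v48120 :=
  Lgr Lrot35 (Lpe (f743966 IH) (Lpe (K50.f571717 IH) (Lpr_ff (f963387 IH) (Lpn v48120))))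
theorem f799753 : Led Lsl_ct v15863 = v21879 :=
  Lgr Lrot40 (Lpe (f743966 IH) (Lpr_cf (K74.f664013 IH) (Lpr_ff (f799752 IH) (Lpn v21879))))
theorem f580470 : Led Lsl_bt (LP (LK LD1_c9 LD2_c3 LD3_c22)) = (LP (LK LD1_c5 LD2_c43 LD3_c9)) :=
  Lgr Lrot95 (Lpe (K69.f546695 IH) (Lpr_bf (K66.f580463 IH) (Lpr_df (K16.f281877 IH) (Lpn (LP (LK LD1_c5 LD2_c43 LD3_c9))))))
theorem f580474 : Led Lsl_ct (LP (LK LD1_c9 LD2_c3 LD3_c22)) = (LP (LK LD1_c16 LD2_c54 LD3_c15)) :=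
  Lre_c IH (LK LD1_c9 LD2_c3 LD3_c22) (LK LD1_c16 LD2_c54 LD3_c15) Lrfl Lrfl
theorem f580476 : Led Lsl_gt (LP (LK LD1_c26 LD2_c50 LD3_c29)) = (LP (LK LD1_c16 LD2_c54 LD3_c15)) :=
  Lre_g IH (LK LD1_c26 LD2_c50 LD3_c29) (LK LD1_c16 LD2_c54 LD3_c15) Lrfl Lrfl
theorem f743413 : Led Lsl_at (LP (LK LD1_c20 LD2_c24 LD3_c25)) = (LP (LK LD1_c16 LD2_c51 LD3_c48)) :=
  Lgr Lrot66 (Lpe (K55.f741958 IH) (Lpe (K55.f742218 IH) (Lpr_ff (K55.f743411 IH) (Lpn (LP (LK LD1_c16 LD2_c51 LD3_c48))))))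
theorem f963379 : Led Lsl_gf (LP (LK LD1_c16 LD2_c51 LD3_c48)) = v48120 :=
  Lgr Lrot76 (Lpe (f743413 IH) (Lpe (K55.f741958 IH) (Lpr_gt (f963377 IH) (Lpn v48120))))
theorem f380045 : Led Lsl_bt (LP (LK LD1_c26 LD2_c48 LD3_c57)) = (LP (LK LD1_c16 LD2_c51 LD3_c48)) :=
  Lre_b IH (LK LD1_c26 LD2_c48 LD3_c57) (LK LD1_c16 LD2_c51 LD3_c48) Lrfl Lrfl
theorem f963391 : Led Lsl_cf (LP (LK LD1_c26 LD2_c50 LD3_c29)) = (LP (LK LD1_c26 LD2_c48 LD3_c57)) :=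
  Lgr Lrot160 (Lpr_gt (f580476 IH) (Lpe (f580474 IH) (Lpr_bt (f580470 IH) (Lpr_gt (K16.f413425 IH) (Lpr_ct (f750216 IH) (Lpr_gt (f955022 IH) (Lpe (f799753 IH) (Lpr_bt (f963388 IH) (Lpe (f963379 IH) (Lpe (f380045 IH) (Lpn (LP (LK LD1_c26 LD2_c48 LD3_c57)))))))))))))
theorem f963392 : Led Lsl_ct (LP (LK LD1_c26 LD2_c48 LD3_c57)) = (LP (LK LD1_c26 LD2_c50 LD3_c29)) :=
  Leop (Lpr_cf (f963391 IH) (Lpn (LP (LK LD1_c26 LD2_c48 LD3_c57))))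
theorem seed_2890 : LEOK LG_c (LK LD1_c26 LD2_c48 LD3_c57) :=
  Leoe_c (LK LD1_c26 LD2_c48 LD3_c57) (f963392 IH)
def v48160 : LQ := Led Lsl_at (LP (LK LD1_c11 LD2_c27 LD3_c12))
theorem f963520 : Led Lsl_at (LP (LK LD1_c11 LD2_c27 LD3_c12)) = v48160 :=
  Lrfl
theorem f623285 : Led Lsl_dt (LP (LK LD1_c6 LD2_c26 LD3_c28)) = (LP (LK LD1_c12 LD2_c24 LD3_c52)) :=
  Lre_d IH (LK LD1_c6 LD2_c26 LD3_c28) (LK LD1_c12 LD2_c24 LD3_c52) Lrfl Lrfl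
theorem f438393 : Led Lsl_dt (LP (LK LD1_c11 LD2_c27 LD3_c12)) = (LP (LK LD1_c5 LD2_c48 LD3_c55)) :=
  Lre_d IH (LK LD1_c11 LD2_c27 LD3_c12) (LK LD1_c5 LD2_c48 LD3_c55) Lrfl Lrfl
theorem f623316 : Led Lsl_ft (LP (LK LD1_c12 LD2_c24 LD3_c52)) = (LP (LK LD1_c11 LD2_c27 LD3_c12)) :=
  Lgr Lrot54 (Lpe (f623285 IH) (Lpr_ff (K59.f623301 IH) (Lpe (f438393 IH) (Lpn (LP (LK LD1_c11 LD2_c27 LD3_c12))))))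
theorem f623320 : Led Lsl_at (LP (LK LD1_c21 LD2_c31 LD3_c43)) = (LP (LK LD1_c12 LD2_c24 LD3_c52)) :=
  Lre_a IH (LK LD1_c21 LD2_c31 LD3_c43) (LK LD1_c12 LD2_c24 LD3_c52) Lrfl Lrfl
theorem f963523 : Led Lsl_ff (LP (LK LD1_c21 LD2_c31 LD3_c43)) = v48160 :=
  Lgr Lrot30 (Lpr_at (f623320 IH) (Lpr_ft (f623316 IH) (Lpr_at (f963520 IH) (Lpn v48160))))
theorem f963526 : Led Lsl_ft (LP (LK LD1_c21 LD2_c31 LD3_c43)) = v48160 :=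
  Lgr Lrot48 (Lpr_ff (f963523 IH) (Lpn v48160))
theorem f963521 : Led Lsl_af (LP (LK LD1_c11 LD2_c27 LD3_c12)) = v48160 :=
  Lgr Lrot0 (Lpr_at (f963520 IH) (Lpn v48160))
theorem f438408 : Led Lsl_gt (LP (LK LD1_c20 LD2_c25 LD3_c10)) = (LP (LK LD1_c11 LD2_c27 LD3_c12)) :=
  Lre_g IH (LK LD1_c20 LD2_c25 LD3_c10) (LK LD1_c11 LD2_c27 LD3_c12) Lrfl Lrfl
theorem f963527 : Led Lsl_gt (LP (LK LD1_c21 LD2_c31 LD3_c43)) = (LP (LK LD1_c20 LD2_c25 LD3_c10)) :=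
  Lgr Lrot5 (Lpr_ft (f963526 IH) (Lpe (f963521 IH) (Lpe (f438408 IH) (Lpn (LP (LK LD1_c20 LD2_c25 LD3_c10))))))
theorem f963528 : Led Lsl_gt (LP (LK LD1_c21 LD2_c31 LD3_c43)) = (LP (LK LD1_c20 LD2_c25 LD3_c10)) :=
  Leop (Lpe (f963527 IH) (Lpn (LP (LK LD1_c21 LD2_c31 LD3_c43))))
theorem seed_2891 : LEOK LG_g (LK LD1_c21 LD2_c31 LD3_c43) :=
  Leoe_g (LK LD1_c21 LD2_c31 LD3_c43) (f963528 IH)
def v48176 : LQ := Led Lsl_ft (LP (LK LD1_c11 LD2_c27 LD3_c21))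
theorem f963636 : Led Lsl_ft (LP (LK LD1_c11 LD2_c27 LD3_c21)) = v48176 :=
  Lrfl
theorem f963639 : Led Lsl_ff (LP (LK LD1_c11 LD2_c27 LD3_c21)) = v48176 :=
  Lgr Lrot3 (Lpr_ft (f963636 IH) (Lpn v48176))
theorem f186091 : Led Lsl_ct (LP (LK LD1_c11 LD2_c12 LD3_c47)) = (LP (LK LD1_c20 LD2_c7 LD3_c14)) :=
  Lre_c IH (LK LD1_c11 LD2_c12 LD3_c47) (LK LD1_c20 LD2_c7 LD3_c14) Lrfl Lrfl
theorem f563823 : Led Lsl_ct (LP (LK LD1_c27 LD2_c40 LD3_c44)) = (LP (LK LD1_c17 LD2_c55 LD3_c27)) :=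
  Lre_c IH (LK LD1_c27 LD2_c40 LD3_c44) (LK LD1_c17 LD2_c55 LD3_c27) Lrfl Lrfl
theorem f644978 : Led Lsl_at (LP (LK LD1_c20 LD2_c7 LD3_c14)) = (LP (LK LD1_c27 LD2_c40 LD3_c44)) :=
  Lgr Lrot107 (Lpe (f186091 IH) (Lpr_af (K74.f644974 IH) (Lpe (f563823 IH) (Lpn (LP (LK LD1_c27 LD2_c40 LD3_c44))))))
theorem f645004 : Led Lsl_af (LP (LK LD1_c20 LD2_c7 LD3_c14)) = (LP (LK LD1_c27 LD2_c40 LD3_c44)) :=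
  Lgr Lrot0 (Lpr_at (f644978 IH) (Lpn (LP (LK LD1_c27 LD2_c40 LD3_c44))))
theorem f186081 : Led Lsl_ct (LP (LK LD1_c20 LD2_c7 LD3_c14)) = (LP (LK LD1_c11 LD2_c12 LD3_c47)) :=
  Lre_c IH (LK LD1_c20 LD2_c7 LD3_c14) (LK LD1_c11 LD2_c12 LD3_c47) Lrfl Lrfl
theorem f186082 : Led Lsl_et (LP (LK LD1_c11 LD2_c27 LD3_c21)) = (LP (LK LD1_c20 LD2_c7 LD3_c14)) :=
  Lgr Lrot158 (Lpe (K48.f146434 IH) (Lpr_ef (K52.f186079 IH) (Lpe (f186081 IH) (Lpn (LP (LK LD1_c20 LD2_c7 LD3_c14))))))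
theorem f186087 : Led Lsl_ef (LP (LK LD1_c11 LD2_c27 LD3_c21)) = (LP (LK LD1_c20 LD2_c7 LD3_c14)) :=
  Lgr Lrot88 (Lpr_et (f186082 IH) (Lpn (LP (LK LD1_c20 LD2_c7 LD3_c14))))
theorem f563824 : Led Lsl_et (LP (LK LD1_c17 LD2_c59 LD3_c50)) = (LP (LK LD1_c27 LD2_c40 LD3_c44)) :=
  Lgr Lrot158 (Lpe (K65.f563822 IH) (Lpr_ef (K74.f563820 IH) (Lpe (f563823 IH) (Lpn (LP (LK LD1_c27 LD2_c40 LD3_c44))))))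
theorem f645006 : Led Lsl_at (LP (LK LD1_c11 LD2_c27 LD3_c21)) = (LP (LK LD1_c17 LD2_c59 LD3_c50)) :=
  Lgr Lrot80 (Lpr_ef (f186087 IH) (Lpr_af (f645004 IH) (Lpe (f563824 IH) (Lpn (LP (LK LD1_c17 LD2_c59 LD3_c50))))))
theorem f963642 : Led Lsl_gf (LP (LK LD1_c15 LD2_c7 LD3_c52)) = v48176 :=
  Lgr Lrot47 (Lpr_gt (K65.f699107 IH) (Lpe (f645006 IH) (Lpr_ff (f963639 IH) (Lpn v48176))))
theorem f30790 : Led Lsl_at (LP (LK LD1_c8 LD2_c2 LD3_c30)) = (LP (LK LD1_c15 LD2_c7 LD3_c52)) :=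
  Lre_a IH (LK LD1_c8 LD2_c2 LD3_c30) (LK LD1_c15 LD2_c7 LD3_c52) Lrfl Lrfl
theorem f30783 : Led Lsl_ft (LP (LK LD1_c15 LD2_c8 LD3_c18)) = (LP (LK LD1_c8 LD2_c2 LD3_c30)) :=
  Lre_f IH (LK LD1_c15 LD2_c8 LD3_c18) (LK LD1_c8 LD2_c2 LD3_c30) Lrfl Lrfl
theorem f963643 : Led Lsl_gt (LP (LK LD1_c15 LD2_c8 LD3_c18)) = v48176 :=
  Lgr Lrot5 (Lpr_ft (f30783 IH) (Lpr_at (f30790 IH) (Lpr_gf (f963642 IH) (Lpn v48176))))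
theorem f30779 : Led Lsl_dt (LP (LK LD1_c15 LD2_c8 LD3_c18)) = (LP (LK LD1_c24 LD2_c57 LD3_c6)) :=
  Lre_d IH (LK LD1_c15 LD2_c8 LD3_c18) (LK LD1_c24 LD2_c57 LD3_c6) Lrfl Lrfl
theorem f30780 : Led Lsl_bf (LP (LK LD1_c15 LD2_c8 LD3_c18)) = (LP (LK LD1_c8 LD2_c2 LD3_c33)) :=
  Lgr Lrot93 (Lpr_dt (f30779 IH) (Lpr_bt (K53.f30774 IH) (Lpr_dt (K1.f29974 IH) (Lpn (LP (LK LD1_c8 LD2_c2 LD3_c33))))))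
theorem f445173 : Led Lsl_bt (LP (LK LD1_c4 LD2_c26 LD3_c39)) = (LP (LK LD1_c8 LD2_c50 LD3_c51)) :=
  Lre_b IH (LK LD1_c4 LD2_c26 LD3_c39) (LK LD1_c8 LD2_c50 LD3_c51) Lrfl Lrfl
def v37325 : LQ := Led Lsl_gf (LP (LK LD1_c8 LD2_c50 LD3_c51))
theorem f894047 : Led Lsl_gf (LP (LK LD1_c8 LD2_c50 LD3_c51)) = v37325 :=
  Lrfl
def v14127 : LQ := Led Lsl_gf (LP (LK LD1_c4 LD2_c59 LD3_c28))
theorem f719157 : Led Lsl_gf (LP (LK LD1_c4 LD2_c59 LD3_c28)) = v14127 :=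
  Lrfl
theorem f719158 : Led Lsl_ff (LP (LK LD1_c5 LD2_c48 LD3_c60)) = v14127 :=
  Lgr Lrot52 (Lpr_at (K74.f644968 IH) (Lpe (K52.f75482 IH) (Lpr_gf (f719157 IH) (Lpn v14127))))
theorem f963638 : Led Lsl_cf v14127 = v48176 :=
  Lgr Lrot108 (Lpe (f719158 IH) (Lpr_ct (K48.f146434 IH) (Lpr_ft (f963636 IH) (Lpn v48176))))
theorem f75489 : Led Lsl_ct (LP (LK LD1_c9 LD2_c49 LD3_c23)) = (LP (LK LD1_c4 LD2_c59 LD3_c28)) :=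
  Lre_c IH (LK LD1_c9 LD2_c49 LD3_c23) (LK LD1_c4 LD2_c59 LD3_c28) Lrfl Lrfl
theorem f963644 : v37325 = (LP (LK LD1_c8 LD2_c48 LD3_c8)) :=
  (Llr Lrot124 (Lpe (f894047 IH) (Lpe (f445173 IH) (Lpr_ct (K37.f445174 IH) (Lpr_gt (K40.f30121 IH) (Lpe (K1.f29973 IH) (Lpe (f30780 IH) (Lpr_gt (f963643 IH) (Lpe (f963638 IH) (Lpe (f719157 IH) (Lpe (f75489 IH) (Lpr_bt (K53.f613993 IH) (Lpn (LP (LK LD1_c8 LD2_c48 LD3_c8))))))))))))))).symm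
theorem f963646 : Led Lsl_gt (LP (LK LD1_c8 LD2_c48 LD3_c8)) = (LP (LK LD1_c8 LD2_c50 LD3_c51)) :=
  Leop (Lpr_gf (f894047 IH) (Lpqs (f963644 IH) (Lpn (LP (LK LD1_c8 LD2_c48 LD3_c8)))))
theorem seed_2892 : LEOK LG_g (LK LD1_c8 LD2_c48 LD3_c8) :=
  Leoe_g (LK LD1_c8 LD2_c48 LD3_c8) (f963646 IH)
def v48181 : LQ := Led Lsl_et (LP (LK LD1_c11 LD2_c27 LD3_c25))
theorem f963863 : Led Lsl_et (LP (LK LD1_c11 LD2_c27 LD3_c25)) = v48181 :=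
  Lrfl
theorem f559268 : Led Lsl_ff (LP (LK LD1_c8 LD2_c48 LD3_c4)) = (LP (LK LD1_c11 LD2_c27 LD3_c25)) :=
  Lgr Lrot25 (Lpr_bt (K36.f80765 IH) (Lpe (K69.f426432 IH) (Lpr_bt (K42.f559264 IH) (Lpn (LP (LK LD1_c11 LD2_c27 LD3_c25))))))
theorem f618472 : Led Lsl_ft (LP (LK LD1_c8 LD2_c48 LD3_c4)) = (LP (LK LD1_c11 LD2_c27 LD3_c25)) :=
  Lgr Lrot48 (Lpr_ff (f559268 IH) (Lpn (LP (LK LD1_c11 LD2_c27 LD3_c25))))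
theorem f499351 : Led Lsl_dt (LP (LK LD1_c17 LD2_c59 LD3_c54)) = (LP (LK LD1_c9 LD2_c49 LD3_c23)) :=
  Lre_d IH (LK LD1_c17 LD2_c59 LD3_c54) (LK LD1_c9 LD2_c49 LD3_c23) Lrfl Lrfl
theorem f613979 : Led Lsl_et (LP (LK LD1_c9 LD2_c49 LD3_c23)) = (LP (LK LD1_c8 LD2_c48 LD3_c4)) :=
  Lgr Lrot71 (Lpe (f499351 IH) (Lpr_ef (K53.f613969 IH) (Lpe (K42.f138764 IH) (Lpe (K42.f138772 IH) (Lpe (K40.f138754 IH) (Lpn (LP (LK LD1_c8 LD2_c48 LD3_c4))))))))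
theorem f711401 : Led Lsl_et (LP (LK LD1_c16 LD2_c30 LD3_c53)) = (LP (LK LD1_c17 LD2_c59 LD3_c55)) :=
  Lgr Lrot87 (Lpr_ef (K69.f711399 IH) (Lpn (LP (LK LD1_c17 LD2_c59 LD3_c55))))
theorem f963868 : Led Lsl_ff (LP (LK LD1_c16 LD2_c30 LD3_c53)) = v48181 :=
  Lgr Lrot72 (Lpr_et (f711401 IH) (Lpr_ft (K53.f499384 IH) (Lpr_et (f613979 IH) (Lpr_ft (f618472 IH) (Lpr_et (f963863 IH) (Lpn v48181))))))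
theorem f963870 : Led Lsl_ct (LP (LK LD1_c11 LD2_c27 LD3_c26)) = v48181 :=
  Lgr Lrot40 (Lpe (K57.f615265 IH) (Lpe (K52.f711292 IH) (Lpr_ff (f963868 IH) (Lpn v48181))))
theorem f825905 : Led Lsl_af (LP (LK LD1_c20 LD2_c25 LD3_c25)) = (LP (LK LD1_c11 LD2_c27 LD3_c58)) :=
  Lgr Lrot68 (Lpr_ct (K65.f825903 IH) (Lpe (K57.f746158 IH) (Lpe (K57.f698883 IH) (Lpn (LP (LK LD1_c11 LD2_c27 LD3_c58))))))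
theorem f825919 : Led Lsl_gf (LP (LK LD1_c11 LD2_c27 LD3_c26)) = (LP (LK LD1_c16 LD2_c57 LD3_c30)) :=
  Lgr Lrot47 (Lpr_gt (K65.f548729 IH) (Lpr_af (f825905 IH) (Lpr_ff (K57.f746143 IH) (Lpn (LP (LK LD1_c16 LD2_c57 LD3_c30))))))
def v38603 : LQ := Led Lsl_ct (LP (LK LD1_c9 LD2_c13 LD3_c13))
theorem f903201 : Led Lsl_ct (LP (LK LD1_c9 LD2_c13 LD3_c13)) = v38603 :=
  Lrfl
theorem f210145 : Led Lsl_bt (LP (LK LD1_c9 LD2_c13 LD3_c6)) = (LP (LK LD1_c4 LD2_c38 LD3_c42)) :=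
  Lre_b IH (LK LD1_c9 LD2_c13 LD3_c6) (LK LD1_c4 LD2_c38 LD3_c42) Lrfl Lrfl
theorem f538067 : Led Lsl_bf (LP (LK LD1_c6 LD2_c44 LD3_c44)) = (LP (LK LD1_c9 LD2_c13 LD3_c13)) :=
  Lgr Lrot96 (Lpr_et (K35.f538064 IH) (Lpr_bt (f210145 IH) (Lpr_et (K11.f26824 IH) (Lpn (LP (LK LD1_c9 LD2_c13 LD3_c13))))))
def v4218 : LQ := Led Lsl_gf (LP (LK LD1_c2 LD2_c16 LD3_c22))
theorem f632008 : Led Lsl_gf (LP (LK LD1_c2 LD2_c16 LD3_c22)) = v4218 :=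
  Lrfl
theorem f632011 : Led Lsl_dt (LP (LK LD1_c4 LD2_c36 LD3_c30)) = v4218 :=
  Lgr Lrot57 (Lpe (K32.f504734 IH) (Lpe (K32.f505477 IH) (Lpr_gt (K32.f26274 IH) (Lpe (K24.f26272 IH) (Lpr_gt (K24.f26269 IH) (Lpr_dt (K24.f26283 IH) (Lpe (K11.f150466 IH) (Lpe (K24.f26812 IH) (Lpr_gf (f632008 IH) (Lpn v4218))))))))))
theorem f700252 : Led Lsl_bt v4218 = K50.v13027 :=
  Lgr Lrot95 (Lpe (f632011 IH) (Lpe (K58.f504718 IH) (Lpr_df (K50.f700250 IH) (Lpn K50.v13027))))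
def v23799 : LQ := Led Lsl_gf K50.v4187
theorem f820529 : Led Lsl_gf K50.v4187 = v23799 :=
  Lrfl
theorem f26900 : Led Lsl_at (LP (LK LD1_c4 LD2_c38 LD3_c36)) = (LP (LK LD1_c9 LD2_c12 LD3_c51)) :=
  Lre_a IH (LK LD1_c4 LD2_c38 LD3_c36) (LK LD1_c9 LD2_c12 LD3_c51) Lrfl Lrfl
theorem f210073 : Led Lsl_af (LP (LK LD1_c2 LD2_c16 LD3_c22)) = (LP (LK LD1_c1 LD2_c24 LD3_c20)) :=
  Lgr Lrot36 (Lpr_bt (K8.f26827 IH) (Lpr_at (f26900 IH) (Lpr_bt (K16.f210071 IH) (Lpr_at (K56.f204760 IH) (Lpr_bt (K50.f204733 IH) (Lpn (LP (LK LD1_c1 LD2_c24 LD3_c20))))))))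
theorem f632009 : Led Lsl_gt (LP (LK LD1_c2 LD2_c57 LD3_c11)) = v4218 :=
  Lgr Lrot5 (Lpr_ft (K16.f69089 IH) (Lpe (f210073 IH) (Lpr_gf (f632008 IH) (Lpn v4218))))
theorem f820532 : Led Lsl_ct v4218 = v23799 :=
  Lgr Lrot152 (Lpe (f632009 IH) (Lpe (K11.f69096 IH) (Lpe (K29.f210130 IH) (Lpr_ct (K32.f416696 IH) (Lpr_gt (K24.f23279 IH) (Lpe (K32.f58848 IH) (Lpe (K17.f301917 IH) (Lpr_cf (K50.f631740 IH) (Lpr_gf (f820529 IH) (Lpn v23799))))))))))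
theorem f758022 : Led Lsl_ct K55.v15901 = K57.v17264 :=
  Lgr Lrot59 (Lpr_cf (K57.f758021 IH) (Lpn K57.v17264))
theorem f903206 : Led Lsl_gt K57.v17264 = v38603 :=
  Lgr Lrot149 (Lpe (f758022 IH) (Lpqs (K57.f746221 IH) (Lpe (K56.f494242 IH) (Lpe (K50.f437493 IH) (Lpr_ct (K50.f631738 IH) (Lpr_gf (f820529 IH) (Lpe (f820532 IH) (Lpr_bt (f700252 IH) (Lpe (K50.f700244 IH) (Lpr_bf (f538067 IH) (Lpr_ct (f903201 IH) (Lpn v38603))))))))))))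
theorem f758032 : Led Lsl_ff (LP (LK LD1_c11 LD2_c27 LD3_c60)) = K57.v17264 :=
  Lgr Lrot3 (Lpr_ft (K57.f758023 IH) (Lpn K57.v17264))
theorem f758034 : Led Lsl_at (LP (LK LD1_c11 LD2_c27 LD3_c60)) = K57.v17265 :=
  Lgr Lrot66 (Lpr_ff (f758032 IH) (Lpe (K57.f758019 IH) (Lpr_ff (K57.f758017 IH) (Lpn K57.v17265))))
theorem f903208 : Led Lsl_gf K57.v17265 = v38603 :=
  Lgr Lrot76 (Lpe (f758034 IH) (Lpr_ff (f758032 IH) (Lpr_gt (f903206 IH) (Lpn v38603))))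
theorem f80179 : Led Lsl_ft (LP (LK LD1_c4 LD2_c37 LD3_c53)) = (LP (LK LD1_c9 LD2_c11 LD3_c27)) :=
  Lre_f IH (LK LD1_c4 LD2_c37 LD3_c53) (LK LD1_c9 LD2_c11 LD3_c27) Lrfl Lrfl
theorem f207149 : Led Lsl_gt (LP (LK LD1_c9 LD2_c11 LD3_c25)) = (LP (LK LD1_c6 LD2_c44 LD3_c44)) :=
  Lgr Lrot46 (Lpe (K46.f80181 IH) (Lpr_ft (f80179 IH) (Lpr_at (K35.f207139 IH) (Lpn (LP (LK LD1_c6 LD2_c44 LD3_c44))))))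
theorem f963873 : Led Lsl_gf (LP (LK LD1_c11 LD2_c44 LD3_c29)) = v48181 :=
  Lgr Lrot129 (Lpe (K52.f502635 IH) (Lpe (K46.f644671 IH) (Lpr_gt (f207149 IH) (Lpr_bf (f538067 IH) (Lpr_ct (f903201 IH) (Lpe (f903208 IH) (Lpe (K57.f758013 IH) (Lpr_bt (K57.f700811 IH) (Lpe (f825919 IH) (Lpr_ct (f963870 IH) (Lpn v48181)))))))))))
theorem f538685 : Led Lsl_gf (LP (LK LD1_c8 LD2_c1 LD3_c19)) = (LP (LK LD1_c12 LD2_c22 LD3_c61)) :=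
  Lgr Lrot47 (Lpr_gt (K71.f445441 IH) (Lpr_af (K35.f538669 IH) (Lpe (K35.f538682 IH) (Lpn (LP (LK LD1_c12 LD2_c22 LD3_c61))))))
theorem f445442 : Led Lsl_bt (LP (LK LD1_c15 LD2_c6 LD3_c19)) = (LP (LK LD1_c8 LD2_c1 LD3_c19)) :=
  Lre_b IH (LK LD1_c15 LD2_c6 LD3_c19) (LK LD1_c8 LD2_c1 LD3_c19) Lrfl Lrfl
theorem f445443 : Led Lsl_ct (LP (LK LD1_c15 LD2_c6 LD3_c19)) = (LP (LK LD1_c24 LD2_c54 LD3_c25)) :=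
  Lre_c IH (LK LD1_c15 LD2_c6 LD3_c19) (LK LD1_c24 LD2_c54 LD3_c25) Lrfl Lrfl
theorem f963869 : Led Lsl_bt (LP (LK LD1_c12 LD2_c6 LD3_c19)) = v48181 :=
  Lgr Lrot35 (Lpr_ff (K69.f764313 IH) (Lpe (K69.f764303 IH) (Lpr_ff (f963868 IH) (Lpn v48181))))
theorem f426453 : Led Lsl_ct (LP (LK LD1_c12 LD2_c6 LD3_c19)) = (LP (LK LD1_c21 LD2_c12 LD3_c22)) :=
  Lre_c IH (LK LD1_c12 LD2_c6 LD3_c19) (LK LD1_c21 LD2_c12 LD3_c22) Lrfl Lrfl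
theorem f963874 : Led Lsl_gt (LP (LK LD1_c24 LD2_c54 LD3_c25)) = (LP (LK LD1_c21 LD2_c12 LD3_c22)) :=
  Lgr Lrot65 (Lpe (f445443 IH) (Lpr_bt (f445442 IH) (Lpr_gf (f538685 IH) (Lpe (K65.f538800 IH) (Lpr_ct (K64.f558579 IH) (Lpe (K50.f502633 IH) (Lpe (K52.f502637 IH) (Lpr_gf (f963873 IH) (Lpe (f963869 IH) (Lpr_ct (f426453 IH) (Lpn (LP (LK LD1_c21 LD2_c12 LD3_c22)))))))))))))
theorem f963875 : Led Lsl_gt (LP (LK LD1_c24 LD2_c54 LD3_c25)) = (LP (LK LD1_c21 LD2_c12 LD3_c22)) :=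
  Leop (Lpe (f963874 IH) (Lpn (LP (LK LD1_c24 LD2_c54 LD3_c25))))
theorem seed_2893 : LEOK LG_g (LK LD1_c24 LD2_c54 LD3_c25) :=
  Leoe_g (LK LD1_c24 LD2_c54 LD3_c25) (f963875 IH)
def v48185 : LQ := Led Lsl_ft (LP (LK LD1_c11 LD2_c27 LD3_c28))
theorem f963888 : Led Lsl_ft (LP (LK LD1_c11 LD2_c27 LD3_c28)) = v48185 :=
  Lrfl
theorem f568389 : Led Lsl_et (LP (LK LD1_c5 LD2_c49 LD3_c4)) = (LP (LK LD1_c11 LD2_c27 LD3_c28)) :=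
  Lre_e IH (LK LD1_c5 LD2_c49 LD3_c4) (LK LD1_c11 LD2_c27 LD3_c28) Lrfl Lrfl
theorem f580187 : Led Lsl_ft (LP (LK LD1_c21 LD2_c16 LD3_c19)) = (LP (LK LD1_c12 LD2_c11 LD3_c1)) :=
  Lre_f IH (LK LD1_c21 LD2_c16 LD3_c19) (LK LD1_c12 LD2_c11 LD3_c1) Lrfl Lrfl
theorem f963891 : Led Lsl_ef (LP (LK LD1_c21 LD2_c16 LD3_c19)) = v48185 :=
  Lgr Lrot21 (Lpr_ft (f580187 IH) (Lpr_et (K44.f450480 IH) (Lpe (K44.f582441 IH) (Lpr_et (f568389 IH) (Lpr_ft (f963888 IH) (Lpn v48185))))))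
theorem f963890 : Led Lsl_df (LP (LK LD1_c16 LD2_c51 LD3_c50)) = v48185 :=
  Lgr Lrot78 (Lpr_ft (K74.f644988 IH) (Lpe (K44.f582458 IH) (Lpr_ft (f963888 IH) (Lpn v48185))))
theorem f765411 : Led Lsl_df (LP (LK LD1_c6 LD2_c26 LD3_c55)) = K57.v18180 :=
  Lgr Lrot38 (Lpr_dt (K57.f765409 IH) (Lpn K57.v18180))
theorem f963901 : Led Lsl_gf (LP (LK LD1_c21 LD2_c16 LD3_c19)) = (LP (LK LD1_c12 LD2_c25 LD3_c40)) :=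
  Lgr Lrot141 (Lpr_ef (f963891 IH) (Lpe (f963890 IH) (Lpr_gt (K74.f644986 IH) (Lpe (K74.f563819 IH) (Lpe (K74.f563820 IH) (Lpr_gt (K57.f765416 IH) (Lpe (f765411 IH) (Lpr_gt (K52.f69116 IH) (Lpe (K51.f623182 IH) (Lpr_et (K52.f623186 IH) (Lpn (LP (LK LD1_c12 LD2_c25 LD3_c40)))))))))))))
theorem f963902 : Led Lsl_gt (LP (LK LD1_c12 LD2_c25 LD3_c40)) = (LP (LK LD1_c21 LD2_c16 LD3_c19)) :=
  Leop (Lpr_gf (f963901 IH) (Lpn (LP (LK LD1_c12 LD2_c25 LD3_c40))))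
theorem seed_2894 : LEOK LG_g (LK LD1_c12 LD2_c25 LD3_c40) :=
  Leoe_g (LK LD1_c12 LD2_c25 LD3_c40) (f963902 IH)
theorem f566725 : Led Lsl_af (LP (LK LD1_c15 LD2_c3 LD3_c61)) = (LP (LK LD1_c20 LD2_c0 LD3_c22)) :=
  Lgr Lrot0 (Lpr_at (K44.f566723 IH) (Lpn (LP (LK LD1_c20 LD2_c0 LD3_c22))))
theorem f580183 : Led Lsl_bt (LP (LK LD1_c11 LD2_c24 LD3_c34)) = (LP (LK LD1_c20 LD2_c0 LD3_c22)) :=
  Lgr Lrot62 (Lpr_af (K44.f580171 IH) (Lpr_bf (K44.f381228 IH) (Lpe (K44.f580165 IH) (Lpe (K44.f566729 IH) (Lpr_af (f566725 IH) (Lpn (LP (LK LD1_c20 LD2_c0 LD3_c22))))))))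
theorem f210801 : Led Lsl_et (LP (LK LD1_c21 LD2_c16 LD3_c17)) = (LP (LK LD1_c12 LD2_c11 LD3_c0)) :=
  Lre_e IH (LK LD1_c21 LD2_c16 LD3_c17) (LK LD1_c12 LD2_c11 LD3_c0) Lrfl Lrfl
theorem f571825 : Led Lsl_dt (LP (LK LD1_c20 LD2_c0 LD3_c22)) = (LP (LK LD1_c21 LD2_c16 LD3_c17)) :=
  Lgr Lrot77 (Lpe (K44.f561373 IH) (Lpe (K41.f566685 IH) (Lpr_ef (K42.f571821 IH) (Lpe (K42.f558291 IH) (Lpe (f210801 IH) (Lpn (LP (LK LD1_c21 LD2_c16 LD3_c17))))))))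
theorem f210808 : Led Lsl_bt (LP (LK LD1_c21 LD2_c16 LD3_c17)) = (LP (LK LD1_c12 LD2_c11 LD3_c1)) :=
  Lre_b IH (LK LD1_c21 LD2_c16 LD3_c17) (LK LD1_c12 LD2_c11 LD3_c1) Lrfl Lrfl
theorem f580185 : Led Lsl_df (LP (LK LD1_c11 LD2_c24 LD3_c34)) = (LP (LK LD1_c12 LD2_c11 LD3_c1)) :=
  Lgr Lrot12 (Lpr_bt (f580183 IH) (Lpr_dt (f571825 IH) (Lpr_bt (f210808 IH) (Lpn (LP (LK LD1_c12 LD2_c11 LD3_c1))))))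
theorem f580182 : Led Lsl_ft (LP (LK LD1_c11 LD2_c24 LD3_c34)) = (LP (LK LD1_c20 LD2_c22 LD3_c17)) :=
  Lre_f IH (LK LD1_c11 LD2_c24 LD3_c34) (LK LD1_c20 LD2_c22 LD3_c17) Lrfl Lrfl
theorem f580188 : Led Lsl_dt (LP (LK LD1_c20 LD2_c22 LD3_c17)) = (LP (LK LD1_c21 LD2_c16 LD3_c19)) :=
  Lgr Lrot60 (Lpe (f580182 IH) (Lpr_df (f580185 IH) (Lpe (f580187 IH) (Lpn (LP (LK LD1_c21 LD2_c16 LD3_c19))))))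
theorem f566731 : Led Lsl_ft (LP (LK LD1_c4 LD2_c57 LD3_c8)) = (LP (LK LD1_c5 LD2_c47 LD3_c10)) :=
  Lgr Lrot75 (Lpe (K44.f557343 IH) (Lpr_ff (K41.f566719 IH) (Lpr_bf (K40.f561369 IH) (Lpn (LP (LK LD1_c5 LD2_c47 LD3_c10))))))
theorem f918413 : Led Lsl_et (LP (LK LD1_c20 LD2_c22 LD3_c17)) = K74.v40674 :=
  Lgr Lrot69 (Lpe (f580182 IH) (Lpe (K44.f558318 IH) (Lpe (f566731 IH) (Lpe (K74.f541665 IH) (Lpr_ff (K74.f918411 IH) (Lpn K74.v40674))))))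
theorem f961056 : Led Lsl_gt K74.v40674 = v47982 :=
  Lgr Lrot5 (Lpe (K74.f918411 IH) (Lpr_at (K74.f580144 IH) (Lpr_gf (f961055 IH) (Lpn v47982))))
def v40745 : LQ := Led Lsl_gf (LP (LK LD1_c9 LD2_c46 LD3_c16))
theorem f919689 : Led Lsl_gf (LP (LK LD1_c9 LD2_c46 LD3_c16)) = v40745 :=
  Lrfl
theorem f963903 : (LP (LK LD1_c17 LD2_c55 LD3_c37)) = v40745 :=
  (Llr Lrot171 (Lpr_df (f961059 IH) (Lpe (f961056 IH) (Lpe (f918413 IH) (Lpr_dt (f580188 IH) (Lpr_gf (f963901 IH) (Lpe (K52.f669401 IH) (Lpr_et (K52.f623448 IH) (Lpr_gf (K65.f698961 IH) (Lpr_ef (f919692 IH) (Lpe (f919691 IH) (Lpr_gf (f919689 IH) (Lpn v40745))))))))))))).symm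
theorem f963904 : Led Lsl_gt (LP (LK LD1_c17 LD2_c55 LD3_c37)) = (LP (LK LD1_c9 LD2_c46 LD3_c16)) :=
  Leop (Lpr_gf (f919689 IH) (Lpq (f963903 IH) (Lpn (LP (LK LD1_c17 LD2_c55 LD3_c37)))))
theorem seed_2895 : LEOK LG_g (LK LD1_c17 LD2_c55 LD3_c37) :=
  Leoe_g (LK LD1_c17 LD2_c55 LD3_c37) (f963904 IH)
def v48201 : LQ := Led Lsl_gf (LP (LK LD1_c11 LD2_c27 LD3_c44))
theorem f963999 : Led Lsl_gf (LP (LK LD1_c11 LD2_c27 LD3_c44)) = v48201 :=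
  Lrfl
theorem f302027 : Led Lsl_ft (LP (LK LD1_c11 LD2_c27 LD3_c46)) = (LP (LK LD1_c5 LD2_c49 LD3_c23)) :=
  Lre_f IH (LK LD1_c11 LD2_c27 LD3_c46) (LK LD1_c5 LD2_c49 LD3_c23) Lrfl Lrfl
theorem f964000 : Led Lsl_gt (LP (LK LD1_c11 LD2_c27 LD3_c46)) = v48201 :=
  Lgr Lrot5 (Lpr_ft (f302027 IH) (Lpr_at (K72.f302016 IH) (Lpr_gf (f963999 IH) (Lpn v48201))))
theorem f931797 : Led Lsl_ct (LP (LK LD1_c12 LD2_c22 LD3_c27)) = (LP (LK LD1_c11 LD2_c27 LD3_c46)) :=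
  Lgr Lrot59 (Lpr_cf (K73.f931491 IH) (Lpn (LP (LK LD1_c11 LD2_c27 LD3_c46))))
theorem f80770 : Led Lsl_gt (LP (LK LD1_c8 LD2_c50 LD3_c32)) = (LP (LK LD1_c4 LD2_c26 LD3_c30)) :=
  Lre_g IH (LK LD1_c8 LD2_c50 LD3_c32) (LK LD1_c4 LD2_c26 LD3_c30) Lrfl Lrfl
def v37309 : LQ := Led Lsl_bt (LP (LK LD1_c8 LD2_c50 LD3_c32))
theorem f893985 : Led Lsl_bt (LP (LK LD1_c8 LD2_c50 LD3_c32)) = v37309 :=
  Lrfl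
theorem f893986 : Led Lsl_bf (LP (LK LD1_c8 LD2_c50 LD3_c32)) = v37309 :=
  Lgr Lrot24 (Lpr_bt (f893985 IH) (Lpn v37309))
theorem f964001 : Led Lsl_ct v37309 = v48201 :=
  Lgr Lrot63 (Lpe (f893986 IH) (Lpr_gt (f80770 IH) (Lpe (K43.f99269 IH) (Lpe (K4.f99303 IH) (Lpr_gt (K46.f80326 IH) (Lpe (K46.f607050 IH) (Lpr_bt (K73.f607056 IH) (Lpr_gt (K73.f607057 IH) (Lpr_ct (f931797 IH) (Lpr_gt (f964000 IH) (Lpn v48201)))))))))))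
theorem f205474 : Led Lsl_bt (LP (LK LD1_c6 LD2_c24 LD3_c44)) = (LP (LK LD1_c3 LD2_c10 LD3_c3)) :=
  Lre_b IH (LK LD1_c6 LD2_c24 LD3_c44) (LK LD1_c3 LD2_c10 LD3_c3) Lrfl Lrfl
theorem f205475 : Led Lsl_et (LP (LK LD1_c8 LD2_c45 LD3_c52)) = (LP (LK LD1_c6 LD2_c24 LD3_c44)) :=
  Lgr Lrot74 (Lpe (K4.f99285 IH) (Lpr_ef (K11.f205472 IH) (Lpe (f205474 IH) (Lpn (LP (LK LD1_c6 LD2_c24 LD3_c44))))))
theorem f205484 : Led Lsl_ct (LP (LK LD1_c6 LD2_c24 LD3_c44)) = (LP (LK LD1_c12 LD2_c22 LD3_c15)) :=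
  Lre_c IH (LK LD1_c6 LD2_c24 LD3_c44) (LK LD1_c12 LD2_c22 LD3_c15) Lrfl Lrfl
theorem f205682 : Led Lsl_ef (LP (LK LD1_c16 LD2_c24 LD3_c1)) = (LP (LK LD1_c12 LD2_c22 LD3_c15)) :=
  Lgr Lrot28 (Lpr_ct (K37.f99291 IH) (Lpr_et (f205475 IH) (Lpr_ct (f205484 IH) (Lpn (LP (LK LD1_c12 LD2_c22 LD3_c15))))))
theorem f205690 : Led Lsl_et (LP (LK LD1_c16 LD2_c24 LD3_c1)) = (LP (LK LD1_c12 LD2_c22 LD3_c15)) :=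
  Lgr Lrot87 (Lpr_ef (f205682 IH) (Lpn (LP (LK LD1_c12 LD2_c22 LD3_c15))))
theorem f573623 : Led Lsl_bt (LP (LK LD1_c13 LD2_c41 LD3_c44)) = (LP (LK LD1_c23 LD2_c7 LD3_c12)) :=
  Lre_b IH (LK LD1_c13 LD2_c41 LD3_c44) (LK LD1_c23 LD2_c7 LD3_c12) Lrfl Lrfl
theorem f591510 : Led Lsl_dt (LP (LK LD1_c23 LD2_c7 LD3_c12)) = (LP (LK LD1_c19 LD2_c12 LD3_c40)) :=
  Lgr Lrot79 (Lpe (f573623 IH) (Lpr_df (K71.f591507 IH) (Lpe (K71.f591509 IH) (Lpn (LP (LK LD1_c19 LD2_c12 LD3_c40))))))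
theorem f591552 : Led Lsl_et (LP (LK LD1_c13 LD2_c41 LD3_c49)) = (LP (LK LD1_c23 LD2_c7 LD3_c12)) :=
  Lre_e IH (LK LD1_c13 LD2_c41 LD3_c49) (LK LD1_c23 LD2_c7 LD3_c12) Lrfl Lrfl
theorem f591553 : Led Lsl_dt (LP (LK LD1_c12 LD2_c22 LD3_c15)) = (LP (LK LD1_c13 LD2_c41 LD3_c49)) :=
  Lgr Lrot77 (Lpe (f205690 IH) (Lpe (K37.f99289 IH) (Lpr_ef (K71.f591548 IH) (Lpe (f591510 IH) (Lpe (f591552 IH) (Lpn (LP (LK LD1_c13 LD2_c41 LD3_c49))))))))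
theorem f591576 : Led Lsl_df (LP (LK LD1_c12 LD2_c22 LD3_c15)) = (LP (LK LD1_c13 LD2_c41 LD3_c49)) :=
  Lgr Lrot38 (Lpr_dt (f591553 IH) (Lpn (LP (LK LD1_c13 LD2_c41 LD3_c49))))
theorem f160352 : Led Lsl_bt (LP (LK LD1_c7 LD2_c14 LD3_c18)) = (LP (LK LD1_c13 LD2_c41 LD3_c49)) :=
  Lre_b IH (LK LD1_c7 LD2_c14 LD3_c18) (LK LD1_c13 LD2_c41 LD3_c49) Lrfl Lrfl
theorem f591607 : Led Lsl_bt (LP (LK LD1_c12 LD2_c22 LD3_c15)) = (LP (LK LD1_c13 LD2_c41 LD3_c50)) :=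
  Lgr Lrot95 (Lpr_df (f591576 IH) (Lpe (f160352 IH) (Lpe (K28.f17492 IH) (Lpn (LP (LK LD1_c13 LD2_c41 LD3_c50))))))
theorem f205692 : Led Lsl_ft (LP (LK LD1_c6 LD2_c24 LD3_c40)) = (LP (LK LD1_c12 LD2_c22 LD3_c15)) :=
  Lre_f IH (LK LD1_c6 LD2_c24 LD3_c40) (LK LD1_c12 LD2_c22 LD3_c15) Lrfl Lrfl
theorem f591612 : Led Lsl_bf (LP (LK LD1_c6 LD2_c24 LD3_c40)) = (LP (LK LD1_c7 LD2_c19 LD3_c11)) :=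
  Lgr Lrot61 (Lpr_ft (f205692 IH) (Lpr_bt (f591607 IH) (Lpe (K28.f439596 IH) (Lpn (LP (LK LD1_c7 LD2_c19 LD3_c11))))))
theorem f591616 : Led Lsl_bt (LP (LK LD1_c6 LD2_c24 LD3_c40)) = (LP (LK LD1_c7 LD2_c19 LD3_c11)) :=
  Lgr Lrot127 (Lpr_bf (f591612 IH) (Lpn (LP (LK LD1_c7 LD2_c19 LD3_c11))))
theorem f591601 : Led Lsl_at (LP (LK LD1_c12 LD2_c22 LD3_c7)) = (LP (LK LD1_c6 LD2_c24 LD3_c40)) :=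
  Lre_a IH (LK LD1_c12 LD2_c22 LD3_c7) (LK LD1_c6 LD2_c24 LD3_c40) Lrfl Lrfl
theorem f439602 : Led Lsl_bt (LP (LK LD1_c7 LD2_c17 LD3_c15)) = (LP (LK LD1_c13 LD2_c47 LD3_c15)) :=
  Lre_b IH (LK LD1_c7 LD2_c17 LD3_c15) (LK LD1_c13 LD2_c47 LD3_c15) Lrfl Lrfl
theorem f591618 : Led Lsl_af (LP (LK LD1_c21 LD2_c28 LD3_c50)) = (LP (LK LD1_c13 LD2_c47 LD3_c15)) :=
  Lgr Lrot36 (Lpr_bt (K11.f202849 IH) (Lpr_at (f591601 IH) (Lpr_bt (f591616 IH) (Lpr_at (K28.f439598 IH) (Lpr_bt (f439602 IH) (Lpn (LP (LK LD1_c13 LD2_c47 LD3_c15))))))))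
theorem f75646 : Led Lsl_at (LP (LK LD1_c8 LD2_c46 LD3_c20)) = (LP (LK LD1_c16 LD2_c24 LD3_c29)) :=
  Lre_a IH (LK LD1_c8 LD2_c46 LD3_c20) (LK LD1_c16 LD2_c24 LD3_c29) Lrfl Lrfl
theorem f75648 : Led Lsl_at (LP (LK LD1_c12 LD2_c7 LD3_c28)) = (LP (LK LD1_c6 LD2_c14 LD3_c41)) :=
  Lre_a IH (LK LD1_c12 LD2_c7 LD3_c28) (LK LD1_c6 LD2_c14 LD3_c41) Lrfl Lrfl
theorem f75649 : Led Lsl_bt (LP (LK LD1_c21 LD2_c13 LD3_c37)) = (LP (LK LD1_c12 LD2_c7 LD3_c28)) :=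
  Lre_b IH (LK LD1_c21 LD2_c13 LD3_c37) (LK LD1_c12 LD2_c7 LD3_c28) Lrfl Lrfl
theorem f75650 : Led Lsl_at (LP (LK LD1_c26 LD2_c22 LD3_c5)) = (LP (LK LD1_c21 LD2_c13 LD3_c37)) :=
  Lgr Lrot67 (Lpe (K11.f75647 IH) (Lpe (f75646 IH) (Lpr_bf (K11.f75643 IH) (Lpe (f75648 IH) (Lpe (f75649 IH) (Lpn (LP (LK LD1_c21 LD2_c13 LD3_c37))))))))
theorem f591622 : Led Lsl_ct (LP (LK LD1_c21 LD2_c13 LD3_c37)) = (LP (LK LD1_c13 LD2_c47 LD3_c15)) :=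
  Lgr Lrot111 (Lpe (f75650 IH) (Lpr_cf (K11.f202859 IH) (Lpr_af (f591618 IH) (Lpn (LP (LK LD1_c13 LD2_c47 LD3_c15))))))
theorem f75786 : Led Lsl_bt (LP (LK LD1_c12 LD2_c7 LD3_c28)) = (LP (LK LD1_c21 LD2_c13 LD3_c37)) :=
  Lre_b IH (LK LD1_c12 LD2_c7 LD3_c28) (LK LD1_c21 LD2_c13 LD3_c37) Lrfl Lrfl
theorem f202179 : Led Lsl_ct (LP (LK LD1_c6 LD2_c14 LD3_c38)) = (LP (LK LD1_c12 LD2_c7 LD3_c28)) :=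
  Lre_c IH (LK LD1_c6 LD2_c14 LD3_c38) (LK LD1_c12 LD2_c7 LD3_c28) Lrfl Lrfl
theorem f439607 : Led Lsl_bt (LP (LK LD1_c13 LD2_c47 LD3_c15)) = (LP (LK LD1_c7 LD2_c17 LD3_c15)) :=
  Lre_b IH (LK LD1_c13 LD2_c47 LD3_c15) (LK LD1_c7 LD2_c17 LD3_c15) Lrfl Lrfl
theorem f591632 : Led Lsl_bf (LP (LK LD1_c6 LD2_c14 LD3_c38)) = (LP (LK LD1_c3 LD2_c38 LD3_c27)) :=
  Lgr Lrot90 (Lpr_ct (f202179 IH) (Lpr_bt (f75786 IH) (Lpr_ct (f591622 IH) (Lpr_bt (f439607 IH) (Lpr_ct (K28.f18036 IH) (Lpn (LP (LK LD1_c3 LD2_c38 LD3_c27))))))))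
theorem f591634 : Led Lsl_bt (LP (LK LD1_c12 LD2_c7 LD3_c31)) = (LP (LK LD1_c7 LD2_c17 LD3_c16)) :=
  Lgr Lrot35 (Lpe (K37.f420525 IH) (Lpr_bf (f591632 IH) (Lpe (K28.f18043 IH) (Lpn (LP (LK LD1_c7 LD2_c17 LD3_c16))))))
theorem f202200 : Led Lsl_et (LP (LK LD1_c4 LD2_c42 LD3_c36)) = (LP (LK LD1_c9 LD2_c19 LD3_c27)) :=
  Lre_e IH (LK LD1_c4 LD2_c42 LD3_c36) (LK LD1_c9 LD2_c19 LD3_c27) Lrfl Lrfl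
theorem f202201 : Led Lsl_ft (LP (LK LD1_c9 LD2_c19 LD3_c27)) = (LP (LK LD1_c17 LD2_c15 LD3_c2)) :=
  Lre_f IH (LK LD1_c9 LD2_c19 LD3_c27) (LK LD1_c17 LD2_c15 LD3_c2) Lrfl Lrfl
theorem f202203 : Led Lsl_et (LP (LK LD1_c17 LD2_c15 LD3_c2)) = (LP (LK LD1_c12 LD2_c7 LD3_c31)) :=
  Lgr Lrot69 (Lpe (f202201 IH) (Lpe (f202200 IH) (Lpr_ff (K11.f202192 IH) (Lpe (K37.f202191 IH) (Lpe (K43.f202202 IH) (Lpn (LP (LK LD1_c12 LD2_c7 LD3_c31))))))))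
theorem f121828 : Led Lsl_et (LP (LK LD1_c7 LD2_c17 LD3_c16)) = (LP (LK LD1_c13 LD2_c47 LD3_c16)) :=
  Lre_e IH (LK LD1_c7 LD2_c17 LD3_c16) (LK LD1_c13 LD2_c47 LD3_c16) Lrfl Lrfl
theorem f591636 : Led Lsl_bf (LP (LK LD1_c17 LD2_c15 LD3_c2)) = (LP (LK LD1_c13 LD2_c47 LD3_c16)) :=
  Lgr Lrot96 (Lpr_et (f202203 IH) (Lpr_bt (f591634 IH) (Lpr_et (f121828 IH) (Lpn (LP (LK LD1_c13 LD2_c47 LD3_c16))))))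
theorem f591638 : Led Lsl_bt (LP (LK LD1_c17 LD2_c15 LD3_c2)) = (LP (LK LD1_c13 LD2_c47 LD3_c16)) :=
  Lgr Lrot127 (Lpr_bf (f591636 IH) (Lpn (LP (LK LD1_c13 LD2_c47 LD3_c16))))
theorem f202196 : Led Lsl_bt (LP (LK LD1_c4 LD2_c42 LD3_c36)) = (LP (LK LD1_c4 LD2_c26 LD3_c28)) :=
  Lgr Lrot35 (Lpr_ff (K11.f202192 IH) (Lpe (K36.f38189 IH) (Lpe (K36.f38195 IH) (Lpn (LP (LK LD1_c4 LD2_c26 LD3_c28))))))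
theorem f38220 : Led Lsl_et (LP (LK LD1_c4 LD2_c26 LD3_c28)) = (LP (LK LD1_c8 LD2_c50 LD3_c26)) :=
  Lre_e IH (LK LD1_c4 LD2_c26 LD3_c28) (LK LD1_c8 LD2_c50 LD3_c26) Lrfl Lrfl
theorem f420570 : Led Lsl_bf (LP (LK LD1_c9 LD2_c19 LD3_c27)) = (LP (LK LD1_c8 LD2_c50 LD3_c26)) :=
  Lgr Lrot96 (Lpr_et (K37.f202073 IH) (Lpr_bt (f202196 IH) (Lpr_et (f38220 IH) (Lpn (LP (LK LD1_c8 LD2_c50 LD3_c26))))))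
theorem f591641 : Led Lsl_ff (LP (LK LD1_c8 LD2_c50 LD3_c26)) = (LP (LK LD1_c13 LD2_c47 LD3_c16)) :=
  Lgr Lrot25 (Lpe (f420570 IH) (Lpr_ft (f202201 IH) (Lpr_bt (f591638 IH) (Lpn (LP (LK LD1_c13 LD2_c47 LD3_c16))))))
theorem f201966 : Led Lsl_at (LP (LK LD1_c8 LD2_c50 LD3_c26)) = (LP (LK LD1_c4 LD2_c26 LD3_c30)) :=
  Lre_a IH (LK LD1_c8 LD2_c50 LD3_c26) (LK LD1_c4 LD2_c26 LD3_c30) Lrfl Lrfl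
theorem f591643 : Led Lsl_gf (LP (LK LD1_c8 LD2_c50 LD3_c32)) = (LP (LK LD1_c13 LD2_c47 LD3_c16)) :=
  Lgr Lrot47 (Lpr_gt (f80770 IH) (Lpe (f201966 IH) (Lpr_ff (f591641 IH) (Lpn (LP (LK LD1_c13 LD2_c47 LD3_c16))))))
theorem f420531 : Led Lsl_ct (LP (LK LD1_c17 LD2_c15 LD3_c2)) = (LP (LK LD1_c27 LD2_c5 LD3_c7)) :=
  Lre_c IH (LK LD1_c17 LD2_c15 LD3_c2) (LK LD1_c27 LD2_c5 LD3_c7) Lrfl Lrfl
theorem f420555 : Led Lsl_gt (LP (LK LD1_c17 LD2_c15 LD3_c3)) = (LP (LK LD1_c27 LD2_c5 LD3_c7)) :=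
  Lre_g IH (LK LD1_c17 LD2_c15 LD3_c3) (LK LD1_c27 LD2_c5 LD3_c7) Lrfl Lrfl
theorem f438215 : Led Lsl_et (LP (LK LD1_c4 LD2_c0 LD3_c50)) = (LP (LK LD1_c8 LD2_c2 LD3_c26)) :=
  Lre_e IH (LK LD1_c4 LD2_c0 LD3_c50) (LK LD1_c8 LD2_c2 LD3_c26) Lrfl Lrfl
theorem f176673 : Led Lsl_et (LP (LK LD1_c11 LD2_c27 LD3_c44)) = (LP (LK LD1_c5 LD2_c49 LD3_c21)) :=
  Lre_e IH (LK LD1_c11 LD2_c27 LD3_c44) (LK LD1_c5 LD2_c49 LD3_c21) Lrfl Lrfl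
theorem f541820 : Led Lsl_ct (LP (LK LD1_c8 LD2_c2 LD3_c26)) = (LP (LK LD1_c11 LD2_c27 LD3_c44)) :=
  Lgr Lrot15 (Lpe (f438215 IH) (Lpr_cf (K36.f541812 IH) (Lpe (f176673 IH) (Lpn (LP (LK LD1_c11 LD2_c27 LD3_c44))))))
theorem f438223 : Led Lsl_bt (LP (LK LD1_c8 LD2_c2 LD3_c26)) = (LP (LK LD1_c15 LD2_c8 LD3_c9)) :=
  Lre_b IH (LK LD1_c8 LD2_c2 LD3_c26) (LK LD1_c15 LD2_c8 LD3_c9) Lrfl Lrfl
theorem f438213 : Led Lsl_gt (LP (LK LD1_c15 LD2_c8 LD3_c9)) = (LP (LK LD1_c24 LD2_c56 LD3_c57)) :=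
  Lre_g IH (LK LD1_c15 LD2_c8 LD3_c9) (LK LD1_c24 LD2_c56 LD3_c57) Lrfl Lrfl
theorem f964003 : Led Lsl_cf (LP (LK LD1_c17 LD2_c15 LD3_c3)) = (LP (LK LD1_c24 LD2_c56 LD3_c57)) :=
  Lgr Lrot125 (Lpr_gt (f420555 IH) (Lpe (f420531 IH) (Lpr_bt (f591638 IH) (Lpe (f591643 IH) (Lpr_bf (f893986 IH) (Lpr_ct (f964001 IH) (Lpe (f963999 IH) (Lpe (f541820 IH) (Lpr_bt (f438223 IH) (Lpr_gt (f438213 IH) (Lpn (LP (LK LD1_c24 LD2_c56 LD3_c57)))))))))))))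
theorem f964004 : Led Lsl_ct (LP (LK LD1_c24 LD2_c56 LD3_c57)) = (LP (LK LD1_c17 LD2_c15 LD3_c3)) :=
  Leop (Lpr_cf (f964003 IH) (Lpn (LP (LK LD1_c24 LD2_c56 LD3_c57))))
theorem seed_2896 : LEOK LG_c (LK LD1_c24 LD2_c56 LD3_c57) :=
  Leoe_c (LK LD1_c24 LD2_c56 LD3_c57) (f964004 IH)
def v48249 : LQ := Led Lsl_gt (LP (LK LD1_c11 LD2_c28 LD3_c16))
theorem f964246 : Led Lsl_gt (LP (LK LD1_c11 LD2_c28 LD3_c16)) = v48249 :=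
  Lrfl
theorem f559278 : Led Lsl_gt (LP (LK LD1_c5 LD2_c49 LD3_c51)) = (LP (LK LD1_c11 LD2_c28 LD3_c16)) :=
  Lre_g IH (LK LD1_c5 LD2_c49 LD3_c51) (LK LD1_c11 LD2_c28 LD3_c16) Lrfl Lrfl
def v15911 : LQ := Led Lsl_ft (LP (LK LD1_c5 LD2_c49 LD3_c51))
theorem f744169 : Led Lsl_ft (LP (LK LD1_c5 LD2_c49 LD3_c51)) = v15911 :=
  Lrfl
theorem f964247 : Led Lsl_at v15911 = v48249 :=
  Lgr Lrot26 (Lpe (f744169 IH) (Lpr_gt (f559278 IH) (Lpr_gt (f964246 IH) (Lpn v48249))))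
def v15910 : LQ := Led Lsl_et (LP (LK LD1_c5 LD2_c49 LD3_c48))
theorem f744163 : Led Lsl_et (LP (LK LD1_c5 LD2_c49 LD3_c48)) = v15910 :=
  Lrfl
theorem f450095 : Led Lsl_et (LP (LK LD1_c5 LD2_c49 LD3_c51)) = (LP (LK LD1_c2 LD2_c51 LD3_c1)) :=
  Lre_e IH (LK LD1_c5 LD2_c49 LD3_c51) (LK LD1_c2 LD2_c51 LD3_c1) Lrfl Lrfl
theorem f744164 : Led Lsl_af (LP (LK LD1_c5 LD2_c49 LD3_c51)) = v15910 :=
  Lgr Lrot50 (Lpr_et (f450095 IH) (Lpr_at (K41.f450005 IH) (Lpr_et (f744163 IH) (Lpn v15910))))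
theorem f964249 : Led Lsl_ff v15910 = v48249 :=
  Lgr Lrot30 (Lpe (f744164 IH) (Lpr_ft (f744169 IH) (Lpr_at (f964247 IH) (Lpn v48249))))
theorem f496210 : Led Lsl_gt (LP (LK LD1_c11 LD2_c28 LD3_c17)) = (LP (LK LD1_c5 LD2_c49 LD3_c51)) :=
  Lre_g IH (LK LD1_c11 LD2_c28 LD3_c17) (LK LD1_c5 LD2_c49 LD3_c51) Lrfl Lrfl
theorem f964251 : Led Lsl_gf (LP (LK LD1_c11 LD2_c28 LD3_c17)) = v48249 :=
  Lgr Lrot47 (Lpr_gt (f496210 IH) (Lpr_af (f744164 IH) (Lpr_ff (f964249 IH) (Lpn v48249))))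
def v37166 : LQ := Led Lsl_ct (LP (LK LD1_c8 LD2_c47 LD3_c19))
theorem f893313 : Led Lsl_ct (LP (LK LD1_c8 LD2_c47 LD3_c19)) = v37166 :=
  Lrfl
theorem f35864 : Led Lsl_et (LP (LK LD1_c16 LD2_c26 LD3_c48)) = (LP (LK LD1_c8 LD2_c47 LD3_c19)) :=
  Lre_e IH (LK LD1_c16 LD2_c26 LD3_c48) (LK LD1_c8 LD2_c47 LD3_c19) Lrfl Lrfl
theorem f893315 : Led Lsl_ef (LP (LK LD1_c11 LD2_c44 LD3_c24)) = v37166 :=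
  Lgr Lrot28 (Lpe (K62.f793668 IH) (Lpr_et (f35864 IH) (Lpr_ct (f893313 IH) (Lpn v37166))))
theorem f893318 : Led Lsl_et (LP (LK LD1_c11 LD2_c44 LD3_c24)) = v37166 :=
  Lgr Lrot87 (Lpr_ef (f893315 IH) (Lpn v37166))
theorem f669254 : Led Lsl_gt K55.v5079 = (LP (LK LD1_c11 LD2_c44 LD3_c24)) :=
  Lgr Lrot5 (Lpe (K55.f645215 IH) (Lpr_at (K69.f669248 IH) (Lpe (K56.f501931 IH) (Lpn (LP (LK LD1_c11 LD2_c44 LD3_c24))))))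
theorem f752990 : Led Lsl_at (LP (LK LD1_c17 LD2_c7 LD3_c40)) = (LP (LK LD1_c11 LD2_c44 LD3_c24)) :=
  Lgr Lrot26 (Lpr_ff (K70.f752986 IH) (Lpe (f618450 IH) (Lpq (K70.f669229 IH) (Lpr_gt (f669254 IH) (Lpn (LP (LK LD1_c11 LD2_c44 LD3_c24)))))))
theorem f450091 : Led Lsl_et (LP (LK LD1_c2 LD2_c51 LD3_c1)) = (LP (LK LD1_c5 LD2_c49 LD3_c51)) :=
  Lre_e IH (LK LD1_c2 LD2_c51 LD3_c1) (LK LD1_c5 LD2_c49 LD3_c51) Lrfl Lrfl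
theorem f720288 : Led Lsl_ef (LP (LK LD1_c11 LD2_c28 LD3_c17)) = (LP (LK LD1_c17 LD2_c7 LD3_c40)) :=
  Lgr Lrot114 (Lpr_gt (f496210 IH) (Lpe (f450091 IH) (Lpr_dt (K41.f211018 IH) (Lpq (K41.f558695 IH) (Lpe (K41.f502796 IH) (Lpe (K32.f75531 IH) (Lpe (K32.f75816 IH) (Lpr_gt (K41.f75835 IH) (Lpr_dt (K41.f75836 IH) (Lpr_gt (K53.f641966 IH) (Lpr_df (K70.f720285 IH) (Lpn (LP (LK LD1_c17 LD2_c7 LD3_c40))))))))))))))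
theorem f720290 : Led Lsl_et (LP (LK LD1_c11 LD2_c28 LD3_c17)) = (LP (LK LD1_c17 LD2_c7 LD3_c40)) :=
  Lgr Lrot87 (Lpr_ef (f720288 IH) (Lpn (LP (LK LD1_c17 LD2_c7 LD3_c40))))
theorem f893319 : Led Lsl_af (LP (LK LD1_c11 LD2_c28 LD3_c17)) = v37166 :=
  Lgr Lrot50 (Lpr_et (f720290 IH) (Lpr_at (f752990 IH) (Lpr_et (f893318 IH) (Lpn v37166))))
def v40807 : LQ := Led Lsl_ct (LP (LK LD1_c9 LD2_c46 LD3_c55))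
theorem f920246 : Led Lsl_ct (LP (LK LD1_c9 LD2_c46 LD3_c55)) = v40807 :=
  Lrfl
theorem f35862 : Led Lsl_ft (LP (LK LD1_c26 LD2_c24 LD3_c2)) = (LP (LK LD1_c16 LD2_c26 LD3_c48)) :=
  Lre_f IH (LK LD1_c26 LD2_c24 LD3_c2) (LK LD1_c16 LD2_c26 LD3_c48) Lrfl Lrfl
theorem f35848 : Led Lsl_bt (LP (LK LD1_c24 LD2_c54 LD3_c33)) = (LP (LK LD1_c15 LD2_c6 LD3_c25)) :=
  Lre_b IH (LK LD1_c24 LD2_c54 LD3_c33) (LK LD1_c15 LD2_c6 LD3_c25) Lrfl Lrfl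
theorem f35849 : Led Lsl_bt (LP (LK LD1_c8 LD2_c47 LD3_c21)) = (LP (LK LD1_c16 LD2_c26 LD3_c48)) :=
  Lre_b IH (LK LD1_c8 LD2_c47 LD3_c21) (LK LD1_c16 LD2_c26 LD3_c48) Lrfl Lrfl
theorem f35850 : Led Lsl_df (LP (LK LD1_c24 LD2_c54 LD3_c33)) = (LP (LK LD1_c16 LD2_c26 LD3_c48)) :=
  Lgr Lrot12 (Lpr_bt (f35848 IH) (Lpr_dt (K37.f35838 IH) (Lpr_bt (f35849 IH) (Lpn (LP (LK LD1_c16 LD2_c26 LD3_c48))))))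
theorem f793685 : Led Lsl_ft (LP (LK LD1_c24 LD2_c54 LD3_c33)) = (LP (LK LD1_c24 LD2_c57 LD3_c0)) :=
  Lgr Lrot54 (Lpr_df (f35850 IH) (Lpe (f35862 IH) (Lpr_df (K62.f793677 IH) (Lpn (LP (LK LD1_c24 LD2_c57 LD3_c0))))))
theorem f793158 : Led Lsl_ff (LP (LK LD1_c16 LD2_c21 LD3_c8)) = (LP (LK LD1_c24 LD2_c57 LD3_c30)) :=
  Lgr Lrot3 (Lpr_ft (K62.f793154 IH) (Lpn (LP (LK LD1_c24 LD2_c57 LD3_c30))))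
theorem f793164 : Led Lsl_ft (LP (LK LD1_c17 LD2_c54 LD3_c45)) = (LP (LK LD1_c24 LD2_c54 LD3_c34)) :=
  Lgr Lrot101 (Lpe (K62.f793098 IH) (Lpr_ff (f793158 IH) (Lpe (K61.f792952 IH) (Lpn (LP (LK LD1_c24 LD2_c54 LD3_c34))))))
theorem f609593 : Led Lsl_bt (LP (LK LD1_c27 LD2_c40 LD3_c23)) = (LP (LK LD1_c17 LD2_c54 LD3_c45)) :=
  Lre_b IH (LK LD1_c27 LD2_c40 LD3_c23) (LK LD1_c17 LD2_c54 LD3_c45) Lrfl Lrfl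
theorem f272922 : Led Lsl_bt (LP (LK LD1_c24 LD2_c54 LD3_c34)) = (LP (LK LD1_c31 LD2_c42 LD3_c37)) :=
  Lre_b IH (LK LD1_c24 LD2_c54 LD3_c34) (LK LD1_c31 LD2_c42 LD3_c37) Lrfl Lrfl
theorem f793168 : Led Lsl_ff (LP (LK LD1_c27 LD2_c40 LD3_c23)) = (LP (LK LD1_c31 LD2_c42 LD3_c37)) :=
  Lgr Lrot25 (Lpr_bt (f609593 IH) (Lpr_ft (f793164 IH) (Lpr_bt (f272922 IH) (Lpn (LP (LK LD1_c31 LD2_c42 LD3_c37))))))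
theorem f793170 : Led Lsl_ft (LP (LK LD1_c27 LD2_c40 LD3_c23)) = (LP (LK LD1_c31 LD2_c42 LD3_c37)) :=
  Lgr Lrot48 (Lpr_ff (f793168 IH) (Lpn (LP (LK LD1_c31 LD2_c42 LD3_c37))))
theorem f610653 : Led Lsl_et (LP (LK LD1_c17 LD2_c54 LD3_c43)) = (LP (LK LD1_c27 LD2_c40 LD3_c23)) :=
  Lre_e IH (LK LD1_c17 LD2_c54 LD3_c43) (LK LD1_c27 LD2_c40 LD3_c23) Lrfl Lrfl
theorem f793689 : Led Lsl_ef (LP (LK LD1_c16 LD2_c21 LD3_c9)) = (LP (LK LD1_c24 LD2_c57 LD3_c0)) :=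
  Lgr Lrot21 (Lpr_ft (K62.f793183 IH) (Lpr_et (f610653 IH) (Lpr_ft (f793170 IH) (Lpr_et (K62.f35865 IH) (Lpr_ft (f793685 IH) (Lpn (LP (LK LD1_c24 LD2_c57 LD3_c0))))))))
theorem f576776 : Led Lsl_dt (LP (LK LD1_c16 LD2_c24 LD3_c13)) = (LP (LK LD1_c26 LD2_c21 LD3_c61)) :=
  Lre_d IH (LK LD1_c16 LD2_c24 LD3_c13) (LK LD1_c26 LD2_c21 LD3_c61) Lrfl Lrfl
theorem f793681 : Led Lsl_dt (LP (LK LD1_c26 LD2_c24 LD3_c2)) = (LP (LK LD1_c24 LD2_c57 LD3_c0)) :=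
  Lgr Lrot42 (Lpr_df (K62.f793677 IH) (Lpn (LP (LK LD1_c24 LD2_c57 LD3_c0))))
theorem f793735 : Led Lsl_et (LP (LK LD1_c26 LD2_c21 LD3_c61)) = (LP (LK LD1_c26 LD2_c24 LD3_c2)) :=
  Lgr Lrot71 (Lpe (f576776 IH) (Lpr_ef (K55.f576772 IH) (Lpe (K62.f576777 IH) (Lpr_ef (f793689 IH) (Lpe (f793681 IH) (Lpn (LP (LK LD1_c26 LD2_c24 LD3_c2))))))))
theorem f544273 : Led Lsl_bt (LP (LK LD1_c9 LD2_c46 LD3_c57)) = (LP (LK LD1_c17 LD2_c56 LD3_c57)) :=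
  Lre_b IH (LK LD1_c9 LD2_c46 LD3_c57) (LK LD1_c17 LD2_c56 LD3_c57) Lrfl Lrfl
theorem f81300 : Led Lsl_bt (LP (LK LD1_c26 LD2_c21 LD3_c61)) = (LP (LK LD1_c16 LD2_c24 LD3_c14)) :=
  Lre_b IH (LK LD1_c26 LD2_c21 LD3_c61) (LK LD1_c16 LD2_c24 LD3_c14) Lrfl Lrfl
theorem f792471 : Led Lsl_ft (LP (LK LD1_c17 LD2_c56 LD3_c57)) = (LP (LK LD1_c26 LD2_c21 LD3_c61)) :=
  Lgr Lrot75 (Lpe (f544273 IH) (Lpr_ff (K61.f792467 IH) (Lpe (f81300 IH) (Lpn (LP (LK LD1_c26 LD2_c21 LD3_c61))))))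
theorem f544267 : Led Lsl_et (LP (LK LD1_c9 LD2_c46 LD3_c55)) = (LP (LK LD1_c17 LD2_c56 LD3_c57)) :=
  Lre_e IH (LK LD1_c9 LD2_c46 LD3_c55) (LK LD1_c17 LD2_c56 LD3_c57) Lrfl Lrfl
theorem f793737 : Led Lsl_ff (LP (LK LD1_c9 LD2_c46 LD3_c55)) = (LP (LK LD1_c8 LD2_c47 LD3_c19)) :=
  Lgr Lrot72 (Lpr_et (f544267 IH) (Lpr_ft (f792471 IH) (Lpr_et (f793735 IH) (Lpr_ft (f35862 IH) (Lpr_et (f35864 IH) (Lpn (LP (LK LD1_c8 LD2_c47 LD3_c19))))))))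
theorem f893314 : Led Lsl_cf (LP (LK LD1_c8 LD2_c47 LD3_c19)) = v37166 :=
  Lgr Lrot11 (Lpr_ct (f893313 IH) (Lpn v37166))
theorem f920249 : Led Lsl_ff v37166 = v40807 :=
  Lgr Lrot23 (Lpe (f893314 IH) (Lpe (f793737 IH) (Lpr_ct (f920246 IH) (Lpn v40807))))
theorem f964252 : v40807 = (LP (LK LD1_c11 LD2_c28 LD3_c16)) :=
  (Llr Lrot52 (Lpe (f920249 IH) (Lpe (f893319 IH) (Lpr_gf (f964251 IH) (Lpe (f964246 IH) (Lpn (LP (LK LD1_c11 LD2_c28 LD3_c16)))))))).symm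
theorem f920248 : Led Lsl_cf (LP (LK LD1_c9 LD2_c46 LD3_c55)) = v40807 :=
  Lgr Lrot11 (Lpr_ct (f920246 IH) (Lpn v40807))
theorem f964253 : Led Lsl_ct (LP (LK LD1_c11 LD2_c28 LD3_c16)) = (LP (LK LD1_c9 LD2_c46 LD3_c55)) :=
  Leop (Lpr_cf (f920248 IH) (Lpqs (f964252 IH) (Lpn (LP (LK LD1_c11 LD2_c28 LD3_c16)))))
theorem seed_2897 : LEOK LG_c (LK LD1_c11 LD2_c28 LD3_c16) :=
  Leoe_c (LK LD1_c11 LD2_c28 LD3_c16) (f964253 IH)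
def v48250 : LQ := Led Lsl_at (LP (LK LD1_c11 LD2_c28 LD3_c16))
theorem f964281 : Led Lsl_at (LP (LK LD1_c11 LD2_c28 LD3_c16)) = v48250 :=
  Lrfl
theorem f920250 : Led Lsl_ft v37166 = v40807 :=
  Lgr Lrot48 (Lpr_ff (f920249 IH) (Lpn v40807))
theorem f752982 : Led Lsl_af (LP (LK LD1_c17 LD2_c7 LD3_c40)) = (LP (LK LD1_c11 LD2_c44 LD3_c24)) :=
  Lgr Lrot45 (Lpr_ft (K70.f752980 IH) (Lpe (K70.f752976 IH) (Lpr_ft (K62.f752966 IH) (Lpn (LP (LK LD1_c11 LD2_c44 LD3_c24))))))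
theorem f893316 : Led Lsl_at (LP (LK LD1_c11 LD2_c28 LD3_c17)) = v37166 :=
  Lgr Lrot80 (Lpr_ef (f720288 IH) (Lpr_af (f752982 IH) (Lpr_ef (f893315 IH) (Lpn v37166))))
theorem f964284 : Led Lsl_ff (LP (LK LD1_c11 LD2_c28 LD3_c17)) = v48250 :=
  Lgr Lrot30 (Lpr_at (f893316 IH) (Lpr_ft (f920250 IH) (Lpqs (f964252 IH) (Lpr_at (f964281 IH) (Lpn v48250)))))
def v37165 : LQ := Led Lsl_at (LP (LK LD1_c8 LD2_c47 LD3_c19))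
theorem f893309 : Led Lsl_at (LP (LK LD1_c8 LD2_c47 LD3_c19)) = v37165 :=
  Lrfl
theorem f893310 : Led Lsl_af (LP (LK LD1_c8 LD2_c47 LD3_c19)) = v37165 :=
  Lgr Lrot0 (Lpr_at (f893309 IH) (Lpn v37165))
theorem f893327 : Led Lsl_ct (LP (LK LD1_c11 LD2_c28 LD3_c17)) = v37165 :=
  Lgr Lrot111 (Lpr_af (f893319 IH) (Lpe (f893313 IH) (Lpr_af (f893310 IH) (Lpn v37165))))
def v40806 : LQ := Led Lsl_at (LP (LK LD1_c9 LD2_c46 LD3_c55))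
theorem f920236 : Led Lsl_at (LP (LK LD1_c9 LD2_c46 LD3_c55)) = v40806 :=
  Lrfl
theorem f920240 : Led Lsl_ff v37165 = v40806 :=
  Lgr Lrot30 (Lpe (f893310 IH) (Lpe (f793737 IH) (Lpr_at (f920236 IH) (Lpn v40806))))
theorem f920245 : Led Lsl_ft v37165 = v40806 :=
  Lgr Lrot48 (Lpr_ff (f920240 IH) (Lpn v40806))
theorem f964287 : Led Lsl_ct v40806 = v48250 :=
  Lgr Lrot40 (Lpe (f920245 IH) (Lpe (f893327 IH) (Lpr_ff (f964284 IH) (Lpn v48250))))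
theorem f590036 : Led Lsl_bt (LP (LK LD1_c4 LD2_c58 LD3_c0)) = (LP (LK LD1_c9 LD2_c46 LD3_c55)) :=
  Lre_b IH (LK LD1_c4 LD2_c58 LD3_c0) (LK LD1_c9 LD2_c46 LD3_c55) Lrfl Lrfl
theorem f920238 : Led Lsl_bf (LP (LK LD1_c16 LD2_c26 LD3_c40)) = v40806 :=
  Lgr Lrot81 (Lpr_at (K61.f608080 IH) (Lpr_bt (K68.f445725 IH) (Lpq (K61.f792757 IH) (Lpe (K61.f718994 IH) (Lpr_bt (f590036 IH) (Lpr_at (f920236 IH) (Lpn v40806)))))))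
def v38434 : LQ := Led Lsl_gf (LP (LK LD1_c9 LD2_c10 LD3_c28))
theorem f902203 : Led Lsl_gf (LP (LK LD1_c9 LD2_c10 LD3_c28)) = v38434 :=
  Lrfl
theorem f893321 : Led Lsl_gf v15910 = v37166 :=
  Lgr Lrot141 (Lpe (f744163 IH) (Lpr_dt (K40.f421061 IH) (Lpe (K40.f558530 IH) (Lpe (K40.f452873 IH) (Lpr_et (K40.f502618 IH) (Lpe (K50.f644905 IH) (Lpe (K41.f507148 IH) (Lpr_gt (K41.f642135 IH) (Lpe (K62.f749195 IH) (Lpr_et (f893318 IH) (Lpn v37166)))))))))))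
theorem f964285 : Led Lsl_gt v15910 = v48250 :=
  Lgr Lrot46 (Lpr_gf (f893321 IH) (Lpr_ft (f920250 IH) (Lpqs (f964252 IH) (Lpr_at (f964281 IH) (Lpn v48250)))))
theorem f964250 : Led Lsl_ft v15910 = v48249 :=
  Lgr Lrot48 (Lpr_ff (f964249 IH) (Lpn v48249))
theorem f964248 : Led Lsl_af v15911 = v48249 :=
  Lgr Lrot0 (Lpr_at (f964247 IH) (Lpn v48249))
theorem f964286 : Led Lsl_gf v15911 = v48250 :=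
  Lgr Lrot76 (Lpr_af (f964248 IH) (Lpe (f964250 IH) (Lpr_gt (f964285 IH) (Lpn v48250))))
def v48248 : LQ := Led Lsl_ft (LP (LK LD1_c11 LD2_c28 LD3_c15))
theorem f964238 : Led Lsl_ft (LP (LK LD1_c11 LD2_c28 LD3_c15)) = v48248 :=
  Lrfl
theorem f618594 : Led Lsl_ct (LP (LK LD1_c5 LD2_c49 LD3_c51)) = (LP (LK LD1_c11 LD2_c28 LD3_c15)) :=
  Lre_c IH (LK LD1_c5 LD2_c49 LD3_c51) (LK LD1_c11 LD2_c28 LD3_c15) Lrfl Lrfl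
theorem f744171 : Led Lsl_ff (LP (LK LD1_c5 LD2_c49 LD3_c51)) = v15911 :=
  Lgr Lrot3 (Lpr_ft (f744169 IH) (Lpn v15911))
theorem f964240 : Led Lsl_cf v15911 = v48248 :=
  Lgr Lrot108 (Lpe (f744171 IH) (Lpr_ct (f618594 IH) (Lpr_ft (f964238 IH) (Lpn v48248))))
theorem f558155 : Led Lsl_et (LP (LK LD1_c5 LD2_c49 LD3_c50)) = (LP (LK LD1_c11 LD2_c28 LD3_c15)) :=
  Lre_e IH (LK LD1_c5 LD2_c49 LD3_c50) (LK LD1_c11 LD2_c28 LD3_c15) Lrfl Lrfl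
theorem f615701 : Led Lsl_dt (LP (LK LD1_c11 LD2_c28 LD3_c15)) = (LP (LK LD1_c20 LD2_c25 LD3_c51)) :=
  Lre_d IH (LK LD1_c11 LD2_c28 LD3_c15) (LK LD1_c20 LD2_c25 LD3_c51) Lrfl Lrfl
theorem f618576 : Led Lsl_ef (LP (LK LD1_c15 LD2_c7 LD3_c60)) = (LP (LK LD1_c20 LD2_c25 LD3_c51)) :=
  Lgr Lrot73 (Lpr_dt (K42.f424936 IH) (Lpr_et (K39.f138822 IH) (Lpr_dt (K42.f558164 IH) (Lpr_et (f558155 IH) (Lpr_dt (f615701 IH) (Lpn (LP (LK LD1_c20 LD2_c25 LD3_c51))))))))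
theorem f618583 : Led Lsl_et (LP (LK LD1_c15 LD2_c7 LD3_c60)) = (LP (LK LD1_c20 LD2_c25 LD3_c51)) :=
  Lgr Lrot87 (Lpr_ef (f618576 IH) (Lpn (LP (LK LD1_c20 LD2_c25 LD3_c51))))
theorem f424971 : Led Lsl_et (LP (LK LD1_c16 LD2_c29 LD3_c36)) = (LP (LK LD1_c8 LD2_c49 LD3_c16)) :=
  Lre_e IH (LK LD1_c16 LD2_c29 LD3_c36) (LK LD1_c8 LD2_c49 LD3_c16) Lrfl Lrfl
theorem f618586 : Led Lsl_bf (LP (LK LD1_c16 LD2_c29 LD3_c36)) = (LP (LK LD1_c20 LD2_c25 LD3_c51)) :=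
  Lgr Lrot96 (Lpr_et (f424971 IH) (Lpe (K42.f424963 IH) (Lpr_et (f618583 IH) (Lpn (LP (LK LD1_c20 LD2_c25 LD3_c51))))))
theorem f602408 : Led Lsl_dt (LP (LK LD1_c16 LD2_c29 LD3_c36)) = (LP (LK LD1_c8 LD2_c49 LD3_c11)) :=
  Lre_d IH (LK LD1_c16 LD2_c29 LD3_c36) (LK LD1_c8 LD2_c49 LD3_c11) Lrfl Lrfl
theorem f618591 : Led Lsl_bt (LP (LK LD1_c8 LD2_c49 LD3_c11)) = (LP (LK LD1_c11 LD2_c28 LD3_c15)) :=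
  Lgr Lrot95 (Lpe (f602408 IH) (Lpr_bf (f618586 IH) (Lpe (f615701 IH) (Lpn (LP (LK LD1_c11 LD2_c28 LD3_c15))))))
theorem f964239 : Led Lsl_bf K68.v37201 = v48248 :=
  Lgr Lrot61 (Lpe (K68.f893487 IH) (Lpr_bt (f618591 IH) (Lpr_ft (f964238 IH) (Lpn v48248))))
theorem f893494 : Led Lsl_ct (LP (LK LD1_c8 LD2_c49 LD3_c27)) = (LP (LK LD1_c16 LD2_c30 LD3_c2)) :=
  Lre_c IH (LK LD1_c8 LD2_c49 LD3_c27) (LK LD1_c16 LD2_c30 LD3_c2) Lrfl Lrfl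
theorem f964289 : v38434 = (LP (LK LD1_c16 LD2_c30 LD3_c2)) :=
  (Llr Lrot129 (Lpe (f902203 IH) (Lpe (K8.f159606 IH) (Lpr_bt (K8.f142182 IH) (Lpr_gt (K61.f792693 IH) (Lpr_bf (f920238 IH) (Lpr_ct (f964287 IH) (Lpe (f964286 IH) (Lpr_cf (f964240 IH) (Lpe (f964239 IH) (Lpe (K68.f893491 IH) (Lpr_ct (f893494 IH) (Lpn (LP (LK LD1_c16 LD2_c30 LD3_c2))))))))))))))).symm
theorem f964290 : Led Lsl_gt (LP (LK LD1_c16 LD2_c30 LD3_c2)) = (LP (LK LD1_c9 LD2_c10 LD3_c28)) :=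
  Leop (Lpr_gf (f902203 IH) (Lpqs (f964289 IH) (Lpn (LP (LK LD1_c16 LD2_c30 LD3_c2)))))
theorem seed_2898 : LEOK LG_g (LK LD1_c16 LD2_c30 LD3_c2) :=
  Leoe_g (LK LD1_c16 LD2_c30 LD3_c2) (f964290 IH)
def v48261 : LQ := Led Lsl_ft (LP (LK LD1_c11 LD2_c28 LD3_c21))
theorem f964342 : Led Lsl_ft (LP (LK LD1_c11 LD2_c28 LD3_c21)) = v48261 :=
  Lrfl
theorem f964346 : Led Lsl_ff (LP (LK LD1_c11 LD2_c28 LD3_c21)) = v48261 :=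
  Lgr Lrot3 (Lpr_ft (f964342 IH) (Lpn v48261))
def v40068 : LQ := Led Lsl_bt (LP (LK LD1_c9 LD2_c31 LD3_c46))
theorem f913161 : Led Lsl_bt (LP (LK LD1_c9 LD2_c31 LD3_c46)) = v40068 :=
  Lrfl
theorem f699487 : Led Lsl_bt (LP (LK LD1_c11 LD2_c28 LD3_c21)) = (LP (LK LD1_c5 LD2_c49 LD3_c55)) :=
  Lre_b IH (LK LD1_c11 LD2_c28 LD3_c21) (LK LD1_c5 LD2_c49 LD3_c55) Lrfl Lrfl
theorem f913163 : Led Lsl_df (LP (LK LD1_c11 LD2_c28 LD3_c21)) = v40068 :=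
  Lgr Lrot12 (Lpr_bt (f699487 IH) (Lpe (K50.f699484 IH) (Lpr_bt (f913161 IH) (Lpn v40068))))
theorem f913168 : Led Lsl_dt (LP (LK LD1_c11 LD2_c28 LD3_c21)) = v40068 :=
  Lgr Lrot42 (Lpr_df (f913163 IH) (Lpn v40068))
def v13884 : LQ := Led Lsl_et (LP (LK LD1_c4 LD2_c49 LD3_c29))
theorem f705689 : Led Lsl_et (LP (LK LD1_c4 LD2_c49 LD3_c29)) = v13884 :=
  Lrfl
theorem f705690 : Led Lsl_bf (LP (LK LD1_c4 LD2_c49 LD3_c32)) = v13884 :=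
  Lgr Lrot96 (Lpr_et (K56.f421672 IH) (Lpr_bt (K69.f73946 IH) (Lpr_et (f705689 IH) (Lpn v13884))))
theorem f913165 : Led Lsl_ff v13884 = v40068 :=
  Lgr Lrot25 (Lpe (f705690 IH) (Lpr_ft (K50.f634221 IH) (Lpr_bt (f913161 IH) (Lpn v40068))))
theorem f964349 : Led Lsl_dt v13884 = v48261 :=
  Lgr Lrot60 (Lpr_ff (f913165 IH) (Lpe (f913168 IH) (Lpr_ff (f964346 IH) (Lpn v48261))))
theorem f510336 : Led Lsl_gt (LP (LK LD1_c6 LD2_c45 LD3_c46)) = (LP (LK LD1_c9 LD2_c31 LD3_c14)) :=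
  Lgr Lrot46 (Lpe (K66.f415009 IH) (Lpr_ft (K50.f510321 IH) (Lpr_at (K50.f510328 IH) (Lpn (LP (LK LD1_c9 LD2_c31 LD3_c14))))))
theorem f853329 : Led Lsl_et (LP (LK LD1_c12 LD2_c55 LD3_c26)) = K66.v25120 :=
  Lgr Lrot69 (Lpr_ff (K66.f853256 IH) (Lpe (K66.f843338 IH) (Lpqs (K66.f853274 IH) (Lpe (K66.f677153 IH) (Lpr_ef (K55.f677149 IH) (Lpr_ff (K66.f853327 IH) (Lpn K66.v25120)))))))
def v16512 : LQ := Led Lsl_gf (LP (LK LD1_c6 LD2_c1 LD3_c58))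
theorem f750133 : Led Lsl_gf (LP (LK LD1_c6 LD2_c1 LD3_c58)) = v16512 :=
  Lrfl
theorem f853360 : K52.v13863 = v16512 :=
  (Llr Lrot121 (Lpe (K52.f705582 IH) (Lpr_dt (K50.f510343 IH) (Lpe (f510336 IH) (Lpe (K66.f510339 IH) (Lpr_et (f853329 IH) (Lpe (K66.f827130 IH) (Lpe (K55.f646811 IH) (Lpr_dt (K52.f443752 IH) (Lpr_gf (K66.f739185 IH) (Lpe (K57.f210105 IH) (Lpr_gf (f750133 IH) (Lpn v16512))))))))))))).symm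
theorem f901301 : Led Lsl_df (LP (LK LD1_c11 LD2_c48 LD3_c22)) = K69.v38323 :=
  Lgr Lrot168 (Lpe (K56.f749879 IH) (Lpe (K56.f210093 IH) (Lpr_et (K56.f645180 IH) (Lpr_gf (f750133 IH) (Lpq (f853360 IH) (Lpe (K52.f705582 IH) (Lpr_dt (K50.f510343 IH) (Lpe (f510336 IH) (Lpe (K66.f510339 IH) (Lpr_gf (K69.f853337 IH) (Lpr_ef (K69.f901298 IH) (Lpn K69.v38323))))))))))))
theorem f901302 : Led Lsl_dt (LP (LK LD1_c11 LD2_c48 LD3_c22)) = K69.v38323 :=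
  Lgr Lrot42 (Lpr_df (f901301 IH) (Lpn K69.v38323))
theorem f964350 : Led Lsl_ef (LP (LK LD1_c11 LD2_c48 LD3_c22)) = v48261 :=
  Lgr Lrot73 (Lpr_dt (f901302 IH) (Lpe (K69.f901298 IH) (Lpe (K69.f705685 IH) (Lpr_et (f705689 IH) (Lpr_dt (f964349 IH) (Lpn v48261))))))
theorem f750189 : Led Lsl_ft (LP (LK LD1_c17 LD2_c7 LD3_c42)) = K56.v16523 :=
  Lgr Lrot48 (Lpr_ff (K56.f750188 IH) (Lpn K56.v16523))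
theorem f752578 : Led Lsl_at K56.v16523 = (LP (LK LD1_c20 LD2_c50 LD3_c41)) :=
  Lgr Lrot66 (Lpe (f750189 IH) (Lpe (K56.f752570 IH) (Lpr_ff (K56.f752576 IH) (Lpn (LP (LK LD1_c20 LD2_c50 LD3_c41))))))
def v48259 : LQ := Led Lsl_at (LP (LK LD1_c11 LD2_c28 LD3_c21))
theorem f964336 : Led Lsl_at (LP (LK LD1_c11 LD2_c28 LD3_c21)) = v48259 :=
  Lrfl
theorem f964337 : Led Lsl_af (LP (LK LD1_c11 LD2_c28 LD3_c21)) = v48259 :=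
  Lgr Lrot0 (Lpr_at (f964336 IH) (Lpn v48259))
theorem f210307 : Led Lsl_et (LP (LK LD1_c11 LD2_c28 LD3_c22)) = (LP (LK LD1_c5 LD2_c49 LD3_c55)) :=
  Lre_e IH (LK LD1_c11 LD2_c28 LD3_c22) (LK LD1_c5 LD2_c49 LD3_c55) Lrfl Lrfl
theorem f242736 : Led Lsl_dt (LP (LK LD1_c11 LD2_c28 LD3_c22)) = (LP (LK LD1_c10 LD2_c17 LD3_c22)) :=
  Lgr Lrot136 (Lpr_et (f210307 IH) (Lpe (K50.f186324 IH) (Lpe (K37.f186340 IH) (Lpr_dt (K11.f146334 IH) (Lpr_gf (K11.f210291 IH) (Lpe (K11.f25971 IH) (Lpr_gf (K32.f242728 IH) (Lpe (K50.f186351 IH) (Lpe (K50.f186362 IH) (Lpe (K73.f186375 IH) (Lpn (LP (LK LD1_c10 LD2_c17 LD3_c22)))))))))))))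
theorem f242742 : Led Lsl_df (LP (LK LD1_c11 LD2_c28 LD3_c22)) = (LP (LK LD1_c10 LD2_c17 LD3_c22)) :=
  Lgr Lrot38 (Lpr_dt (f242736 IH) (Lpn (LP (LK LD1_c10 LD2_c17 LD3_c22))))
theorem f242745 : Led Lsl_bt (LP (LK LD1_c11 LD2_c28 LD3_c22)) = (LP (LK LD1_c20 LD2_c25 LD3_c54)) :=
  Lre_b IH (LK LD1_c11 LD2_c28 LD3_c22) (LK LD1_c20 LD2_c25 LD3_c54) Lrfl Lrfl
theorem f186376 : Led Lsl_bt (LP (LK LD1_c18 LD2_c42 LD3_c16)) = (LP (LK LD1_c10 LD2_c17 LD3_c22)) :=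
  Lre_b IH (LK LD1_c18 LD2_c42 LD3_c16) (LK LD1_c10 LD2_c17 LD3_c22) Lrfl Lrfl
theorem f242746 : Led Lsl_dt (LP (LK LD1_c20 LD2_c25 LD3_c54)) = (LP (LK LD1_c18 LD2_c42 LD3_c16)) :=
  Lgr Lrot79 (Lpe (f242745 IH) (Lpr_df (f242742 IH) (Lpe (f186376 IH) (Lpn (LP (LK LD1_c18 LD2_c42 LD3_c16))))))
theorem f242749 : Led Lsl_et (LP (LK LD1_c20 LD2_c25 LD3_c54)) = (LP (LK LD1_c11 LD2_c28 LD3_c21)) :=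
  Lre_e IH (LK LD1_c20 LD2_c25 LD3_c54) (LK LD1_c11 LD2_c28 LD3_c21) Lrfl Lrfl
theorem f204741 : Led Lsl_et (LP (LK LD1_c3 LD2_c5 LD3_c21)) = (LP (LK LD1_c6 LD2_c16 LD3_c30)) :=
  Lre_e IH (LK LD1_c3 LD2_c5 LD3_c21) (LK LD1_c6 LD2_c16 LD3_c30) Lrfl Lrfl
theorem f752694 : Led Lsl_gf (LP (LK LD1_c11 LD2_c28 LD3_c21)) = (LP (LK LD1_c6 LD2_c16 LD3_c30)) :=
  Lgr Lrot141 (Lpe (f242749 IH) (Lpr_dt (f242746 IH) (Lpr_gt (K74.f752692 IH) (Lpe (K74.f420477 IH) (Lpr_et (K74.f420476 IH) (Lpr_gt (K40.f538158 IH) (Lpr_dt (K37.f538153 IH) (Lpr_gt (K36.f503148 IH) (Lpe (K43.f204740 IH) (Lpr_et (f204741 IH) (Lpn (LP (LK LD1_c6 LD2_c16 LD3_c30)))))))))))))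
theorem f204742 : Led Lsl_gt (LP (LK LD1_c12 LD2_c10 LD3_c6)) = (LP (LK LD1_c6 LD2_c16 LD3_c30)) :=
  Lre_g IH (LK LD1_c12 LD2_c10 LD3_c6) (LK LD1_c6 LD2_c16 LD3_c30) Lrfl Lrfl
theorem f964338 : Led Lsl_ft (LP (LK LD1_c12 LD2_c10 LD3_c6)) = v48259 :=
  Lgr Lrot2 (Lpr_gt (f204742 IH) (Lpe (f752694 IH) (Lpr_af (f964337 IH) (Lpn v48259))))
theorem f964339 : Led Lsl_ff (LP (LK LD1_c12 LD2_c10 LD3_c6)) = v48259 :=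
  Lgr Lrot3 (Lpr_ft (f964338 IH) (Lpn v48259))
theorem f964347 : Led Lsl_at (LP (LK LD1_c12 LD2_c10 LD3_c6)) = v48261 :=
  Lgr Lrot66 (Lpr_ff (f964339 IH) (Lpe (f964336 IH) (Lpr_ff (f964346 IH) (Lpn v48261))))
theorem f964355 : Led Lsl_et (LP (LK LD1_c20 LD2_c50 LD3_c41)) = (LP (LK LD1_c12 LD2_c10 LD3_c6)) :=
  Lgr Lrot123 (Lpe (f752578 IH) (Lpq (K56.f752582 IH) (Lpr_ef (f964350 IH) (Lpe (f964347 IH) (Lpn (LP (LK LD1_c12 LD2_c10 LD3_c6)))))))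
theorem f964356 : Led Lsl_et (LP (LK LD1_c20 LD2_c50 LD3_c41)) = (LP (LK LD1_c12 LD2_c10 LD3_c6)) :=
  Leop (Lpe (f964355 IH) (Lpn (LP (LK LD1_c20 LD2_c50 LD3_c41))))
theorem seed_2899 : LEOK LG_e (LK LD1_c20 LD2_c50 LD3_c41) :=
  Leoe_e (LK LD1_c20 LD2_c50 LD3_c41) (f964356 IH)
def v48270 : LQ := Led Lsl_dt (LP (LK LD1_c11 LD2_c28 LD3_c26))
theorem f964394 : Led Lsl_dt (LP (LK LD1_c11 LD2_c28 LD3_c26)) = v48270 :=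
  Lrfl
theorem f964396 : Led Lsl_df (LP (LK LD1_c11 LD2_c28 LD3_c26)) = v48270 :=
  Lgr Lrot38 (Lpr_dt (f964394 IH) (Lpn v48270))
theorem f288144 : Led Lsl_ft (LP (LK LD1_c10 LD2_c6 LD3_c60)) = (LP (LK LD1_c5 LD2_c8 LD3_c13)) :=
  Lre_f IH (LK LD1_c10 LD2_c6 LD3_c60) (LK LD1_c5 LD2_c8 LD3_c13) Lrfl Lrfl
theorem f210027 : Led Lsl_ft (LP (LK LD1_c5 LD2_c49 LD3_c61)) = (LP (LK LD1_c11 LD2_c28 LD3_c27)) :=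
  Lre_f IH (LK LD1_c5 LD2_c49 LD3_c61) (LK LD1_c11 LD2_c28 LD3_c27) Lrfl Lrfl
theorem f615448 : Led Lsl_dt (LP (LK LD1_c5 LD2_c8 LD3_c13)) = (LP (LK LD1_c5 LD2_c49 LD3_c61)) :=
  Lgr Lrot60 (Lpe (f288144 IH) (Lpr_df (K53.f615440 IH) (Lpe (f210027 IH) (Lpn (LP (LK LD1_c5 LD2_c49 LD3_c61))))))
theorem f177645 : Led Lsl_et (LP (LK LD1_c5 LD2_c8 LD3_c13)) = (LP (LK LD1_c2 LD2_c31 LD3_c19)) :=
  Lre_e IH (LK LD1_c5 LD2_c8 LD3_c13) (LK LD1_c2 LD2_c31 LD3_c19) Lrfl Lrfl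
theorem f61388 : Led Lsl_et (LP (LK LD1_c5 LD2_c13 LD3_c59)) = (LP (LK LD1_c10 LD2_c17 LD3_c60)) :=
  Lre_e IH (LK LD1_c5 LD2_c13 LD3_c59) (LK LD1_c10 LD2_c17 LD3_c60) Lrfl Lrfl
theorem f61403 : Led Lsl_gt (LP (LK LD1_c10 LD2_c17 LD3_c60)) = (LP (LK LD1_c18 LD2_c43 LD3_c3)) :=
  Lre_g IH (LK LD1_c10 LD2_c17 LD3_c60) (LK LD1_c18 LD2_c43 LD3_c3) Lrfl Lrfl
theorem f964398 : Led Lsl_ef (LP (LK LD1_c18 LD2_c43 LD3_c3)) = v48270 :=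
  Lgr Lrot17 (Lpe (f61403 IH) (Lpe (f61388 IH) (Lpr_dt (K32.f61394 IH) (Lpr_gf (K36.f428008 IH) (Lpe (K36.f421199 IH) (Lpr_gf (K39.f539776 IH) (Lpe (f177645 IH) (Lpr_dt (f615448 IH) (Lpe (K64.f210024 IH) (Lpr_df (f964396 IH) (Lpn v48270)))))))))))
def v42870 : LQ := Led Lsl_et (LP (LK LD1_c10 LD2_c18 LD3_c8))
theorem f936534 : Led Lsl_et (LP (LK LD1_c10 LD2_c18 LD3_c8)) = v42870 :=
  Lrfl
theorem f936535 : Led Lsl_ef (LP (LK LD1_c10 LD2_c18 LD3_c8)) = v42870 :=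
  Lgr Lrot88 (Lpr_et (f936534 IH) (Lpn v42870))
theorem f61358 : Led Lsl_gt (LP (LK LD1_c5 LD2_c14 LD3_c4)) = (LP (LK LD1_c10 LD2_c18 LD3_c8)) :=
  Lre_g IH (LK LD1_c5 LD2_c14 LD3_c4) (LK LD1_c10 LD2_c18 LD3_c8) Lrfl Lrfl
theorem f61409 : Led Lsl_et (LP (LK LD1_c2 LD2_c33 LD3_c55)) = (LP (LK LD1_c5 LD2_c14 LD3_c4)) :=
  Lre_e IH (LK LD1_c2 LD2_c33 LD3_c55) (LK LD1_c5 LD2_c14 LD3_c4) Lrfl Lrfl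
theorem f615450 : Led Lsl_df (LP (LK LD1_c5 LD2_c8 LD3_c13)) = (LP (LK LD1_c5 LD2_c49 LD3_c61)) :=
  Lgr Lrot38 (Lpr_dt (f615448 IH) (Lpn (LP (LK LD1_c5 LD2_c49 LD3_c61))))
theorem f386946 : Led Lsl_at (LP (LK LD1_c5 LD2_c8 LD3_c13)) = (LP (LK LD1_c10 LD2_c6 LD3_c54)) :=
  Lre_a IH (LK LD1_c5 LD2_c8 LD3_c13) (LK LD1_c10 LD2_c6 LD3_c54) Lrfl Lrfl
theorem f615452 : Led Lsl_dt (LP (LK LD1_c10 LD2_c6 LD3_c54)) = (LP (LK LD1_c11 LD2_c28 LD3_c24)) :=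
  Lgr Lrot44 (Lpe (f386946 IH) (Lpr_df (f615450 IH) (Lpe (K65.f210018 IH) (Lpn (LP (LK LD1_c11 LD2_c28 LD3_c24))))))
theorem f210022 : Led Lsl_ft (LP (LK LD1_c11 LD2_c28 LD3_c27)) = (LP (LK LD1_c5 LD2_c49 LD3_c61)) :=
  Lre_f IH (LK LD1_c11 LD2_c28 LD3_c27) (LK LD1_c5 LD2_c49 LD3_c61) Lrfl Lrfl
theorem f210026 : Led Lsl_at (LP (LK LD1_c5 LD2_c49 LD3_c61)) = (LP (LK LD1_c11 LD2_c28 LD3_c24)) :=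
  Lre_a IH (LK LD1_c5 LD2_c49 LD3_c61) (LK LD1_c11 LD2_c28 LD3_c24) Lrfl Lrfl
theorem f906383 : Led Lsl_gf (LP (LK LD1_c11 LD2_c28 LD3_c24)) = K70.v16014 :=
  Lgr Lrot76 (Lpe (f210026 IH) (Lpe (f210022 IH) (Lpr_gt (K70.f906382 IH) (Lpn K70.v16014))))
theorem f936536 : Led Lsl_df K70.v16014 = v42870 :=
  Lgr Lrot170 (Lpe (f906383 IH) (Lpe (f615452 IH) (Lpr_et (K36.f177303 IH) (Lpe (K36.f541267 IH) (Lpr_dt (K56.f308596 IH) (Lpr_gt (K32.f61383 IH) (Lpe (K36.f61350 IH) (Lpr_et (f61409 IH) (Lpr_gt (f61358 IH) (Lpr_ef (f936535 IH) (Lpn v42870)))))))))))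
theorem f936538 : Led Lsl_dt K70.v16014 = v42870 :=
  Lgr Lrot42 (Lpr_df (f936536 IH) (Lpn v42870))
theorem f964397 : Led Lsl_at v42870 = v48270 :=
  Lgr Lrot51 (Lpe (f936538 IH) (Lpe (f962564 IH) (Lpr_df (f964396 IH) (Lpn v48270))))
def v42866 : LQ := Led Lsl_at (LP (LK LD1_c10 LD2_c18 LD3_c8))
theorem f936523 : Led Lsl_at (LP (LK LD1_c10 LD2_c18 LD3_c8)) = v42866 :=
  Lrfl
theorem f936524 : Led Lsl_af (LP (LK LD1_c10 LD2_c18 LD3_c8)) = v42866 :=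
  Lgr Lrot0 (Lpr_at (f936523 IH) (Lpn v42866))
theorem f964400 : (LP (LK LD1_c18 LD2_c43 LD3_c3)) = v42866 :=
  (Llr Lrot123 (Lpr_ef (f964398 IH) (Lpe (f964397 IH) (Lpe (f936534 IH) (Lpr_af (f936524 IH) (Lpn v42866)))))).symm
theorem f964401 : Led Lsl_at (LP (LK LD1_c18 LD2_c43 LD3_c3)) = (LP (LK LD1_c10 LD2_c18 LD3_c8)) :=
  Leop (Lpr_af (f936524 IH) (Lpq (f964400 IH) (Lpn (LP (LK LD1_c18 LD2_c43 LD3_c3)))))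
theorem seed_2900 : LEOK LG_a (LK LD1_c18 LD2_c43 LD3_c3) :=
  Leoe_a (LK LD1_c18 LD2_c43 LD3_c3) (f964401 IH)
def v48336 : LQ := Led Lsl_ft (LP (LK LD1_c11 LD2_c29 LD3_c9))
theorem f964684 : Led Lsl_ft (LP (LK LD1_c11 LD2_c29 LD3_c9)) = v48336 :=
  Lrfl
theorem f964690 : Led Lsl_ff (LP (LK LD1_c11 LD2_c29 LD3_c9)) = v48336 :=
  Lgr Lrot3 (Lpr_ft (f964684 IH) (Lpn v48336))
theorem f901021 : Led Lsl_gf (LP (LK LD1_c9 LD2_c9 LD3_c31)) = (LP (LK LD1_c17 LD2_c1 LD3_c31)) :=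
  Lgr Lrot124 (Lpe (K35.f428492 IH) (Lpr_ct (K55.f428484 IH) (Lpr_gt (K55.f428493 IH) (Lpe (K55.f700545 IH) (Lpr_bt (K55.f700532 IH) (Lpr_gt (K7.f25248 IH) (Lpr_ct (K42.f25237 IH) (Lpr_gt (K60.f428847 IH) (Lpe (K60.f643641 IH) (Lpq (K69.f900723 IH) (Lpr_bt (K69.f900687 IH) (Lpn (LP (LK LD1_c17 LD2_c1 LD3_c31))))))))))))))
theorem f964696 : Led Lsl_gf (LP (LK LD1_c17 LD2_c1 LD3_c31)) = v48336 :=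
  Lgr Lrot47 (Lpe (f901021 IH) (Lpe (K69.f540070 IH) (Lpr_ff (f964690 IH) (Lpn v48336))))
theorem f900684 : Led Lsl_bf K69.v16379 = (LP (LK LD1_c17 LD2_c1 LD3_c31)) :=
  Lgr Lrot61 (Lpe (K69.f749029 IH) (Lpr_bt (K53.f642990 IH) (Lpr_ft (K69.f900682 IH) (Lpn (LP (LK LD1_c17 LD2_c1 LD3_c31))))))
theorem f425993 : Led Lsl_bt (LP (LK LD1_c2 LD2_c55 LD3_c59)) = (LP (LK LD1_c5 LD2_c58 LD3_c45)) :=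
  Lre_b IH (LK LD1_c2 LD2_c55 LD3_c59) (LK LD1_c5 LD2_c58 LD3_c45) Lrfl Lrfl
theorem f74979 : Led Lsl_gt (LP (LK LD1_c20 LD2_c22 LD3_c32)) = (LP (LK LD1_c11 LD2_c24 LD3_c53)) :=
  Lre_g IH (LK LD1_c20 LD2_c22 LD3_c32) (LK LD1_c11 LD2_c24 LD3_c53) Lrfl Lrfl
theorem f901023 : Led Lsl_ct (LP (LK LD1_c17 LD2_c1 LD3_c31)) = (LP (LK LD1_c20 LD2_c22 LD3_c32)) :=
  Lgr Lrot64 (Lpe (f900684 IH) (Lpqs (K69.f900723 IH) (Lpe (K60.f502249 IH) (Lpe (f425993 IH) (Lpr_ct (K55.f502248 IH) (Lpr_gf (K55.f502240 IH) (Lpe (K55.f643861 IH) (Lpe (K55.f74977 IH) (Lpr_bf (K4.f74970 IH) (Lpr_ct (K53.f74978 IH) (Lpe (f74979 IH) (Lpn (LP (LK LD1_c20 LD2_c22 LD3_c32))))))))))))))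
theorem f901026 : Led Lsl_cf (LP (LK LD1_c17 LD2_c1 LD3_c31)) = (LP (LK LD1_c20 LD2_c22 LD3_c32)) :=
  Lgr Lrot11 (Lpr_ct (f901023 IH) (Lpn (LP (LK LD1_c20 LD2_c22 LD3_c32))))
theorem f964693 : Led Lsl_ct (LP (LK LD1_c11 LD2_c31 LD3_c50)) = v48336 :=
  Lgr Lrot40 (Lpe (K69.f746608 IH) (Lpr_cf (K55.f540239 IH) (Lpr_ff (f964690 IH) (Lpn v48336))))
theorem f632820 : Led Lsl_bf (LP (LK LD1_c5 LD2_c52 LD3_c44)) = K59.v4345 :=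
  Lgr Lrot90 (Lpr_ct (K55.f436289 IH) (Lpr_bt (K55.f436288 IH) (Lpe (K24.f438449 IH) (Lpr_bt (K65.f438454 IH) (Lpr_ct (K59.f632819 IH) (Lpn K59.v4345))))))
theorem f85167 : Led Lsl_bt (LP (LK LD1_c3 LD2_c44 LD3_c51)) = (LP (LK LD1_c7 LD2_c30 LD3_c40)) :=
  Lre_b IH (LK LD1_c3 LD2_c44 LD3_c51) (LK LD1_c7 LD2_c30 LD3_c40) Lrfl Lrfl
theorem f527758 : Led Lsl_gt (LP (LK LD1_c14 LD2_c10 LD3_c55)) = (LP (LK LD1_c7 LD2_c30 LD3_c40)) :=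
  Lre_g IH (LK LD1_c14 LD2_c10 LD3_c55) (LK LD1_c7 LD2_c30 LD3_c40) Lrfl Lrfl
theorem f964698 : Led Lsl_bt (LP (LK LD1_c20 LD2_c22 LD3_c32)) = (LP (LK LD1_c14 LD2_c10 LD3_c55)) :=
  Lgr Lrot22 (Lpe (f901026 IH) (Lpr_gf (f964696 IH) (Lpe (f964693 IH) (Lpe (K55.f505702 IH) (Lpr_bf (f632820 IH) (Lpe (K66.f632821 IH) (Lpr_gf (K59.f632804 IH) (Lpq (K59.f771569 IH) (Lpe (K59.f85159 IH) (Lpr_bt (f85167 IH) (Lpe (f527758 IH) (Lpn (LP (LK LD1_c14 LD2_c10 LD3_c55))))))))))))))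
theorem f964699 : Led Lsl_bt (LP (LK LD1_c20 LD2_c22 LD3_c32)) = (LP (LK LD1_c14 LD2_c10 LD3_c55)) :=
  Leop (Lpe (f964698 IH) (Lpn (LP (LK LD1_c20 LD2_c22 LD3_c32))))
theorem seed_2901 : LEOK LG_b (LK LD1_c20 LD2_c22 LD3_c32) :=
  Leoe_b (LK LD1_c20 LD2_c22 LD3_c32) (f964699 IH)
def v48339 : LQ := Led Lsl_dt (LP (LK LD1_c11 LD2_c29 LD3_c15))
theorem f964711 : Led Lsl_dt (LP (LK LD1_c11 LD2_c29 LD3_c15)) = v48339 :=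
  Lrfl
theorem f892591 : Led Lsl_dt (LP (LK LD1_c23 LD2_c31 LD3_c5)) = (LP (LK LD1_c13 LD2_c58 LD3_c59)) :=
  Lre_d IH (LK LD1_c23 LD2_c31 LD3_c5) (LK LD1_c13 LD2_c58 LD3_c59) Lrfl Lrfl
theorem f964716 : Led Lsl_ff (LP (LK LD1_c23 LD2_c31 LD3_c5)) = v48339 :=
  Lgr Lrot19 (Lpr_dt (f892591 IH) (Lpe (K68.f892584 IH) (Lpr_dt (f964711 IH) (Lpn v48339))))
theorem f964717 : Led Lsl_ft (LP (LK LD1_c23 LD2_c31 LD3_c5)) = v48339 :=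
  Lgr Lrot48 (Lpr_ff (f964716 IH) (Lpn v48339))
theorem f892602 : Led Lsl_et (LP (LK LD1_c31 LD2_c5 LD3_c60)) = (LP (LK LD1_c23 LD2_c31 LD3_c5)) :=
  Lre_e IH (LK LD1_c31 LD2_c5 LD3_c60) (LK LD1_c23 LD2_c31 LD3_c5) Lrfl Lrfl
theorem f964715 : Led Lsl_ef (LP (LK LD1_c14 LD2_c7 LD3_c21)) = v48339 :=
  Lgr Lrot73 (Lpr_dt (K46.f155587 IH) (Lpr_et (K46.f147198 IH) (Lpr_dt (K39.f552179 IH) (Lpr_et (K68.f408043 IH) (Lpr_dt (f964711 IH) (Lpn v48339))))))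
theorem f147199 : Led Lsl_dt (LP (LK LD1_c7 LD2_c28 LD3_c53)) = (LP (LK LD1_c14 LD2_c7 LD3_c21)) :=
  Lre_d IH (LK LD1_c7 LD2_c28 LD3_c53) (LK LD1_c14 LD2_c7 LD3_c21) Lrfl Lrfl
theorem f456561 : Led Lsl_dt (LP (LK LD1_c13 LD2_c59 LD3_c39)) = (LP (LK LD1_c7 LD2_c23 LD3_c57)) :=
  Lre_d IH (LK LD1_c13 LD2_c59 LD3_c39) (LK LD1_c7 LD2_c23 LD3_c57) Lrfl Lrfl
theorem f543187 : Led Lsl_ft (LP (LK LD1_c14 LD2_c7 LD3_c21)) = (LP (LK LD1_c13 LD2_c59 LD3_c39)) :=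
  Lgr Lrot54 (Lpe (f147199 IH) (Lpr_ff (K46.f543184 IH) (Lpe (f456561 IH) (Lpn (LP (LK LD1_c13 LD2_c59 LD3_c39))))))
theorem f543196 : Led Lsl_et (LP (LK LD1_c13 LD2_c59 LD3_c39)) = (LP (LK LD1_c23 LD2_c31 LD3_c44)) :=
  Lre_e IH (LK LD1_c13 LD2_c59 LD3_c39) (LK LD1_c23 LD2_c31 LD3_c44) Lrfl Lrfl
theorem f964718 : Led Lsl_ff (LP (LK LD1_c31 LD2_c5 LD3_c60)) = (LP (LK LD1_c23 LD2_c31 LD3_c44)) :=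
  Lgr Lrot72 (Lpr_et (f892602 IH) (Lpr_ft (f964717 IH) (Lpe (f964715 IH) (Lpr_ft (f543187 IH) (Lpr_et (f543196 IH) (Lpn (LP (LK LD1_c23 LD2_c31 LD3_c44))))))))
theorem f964719 : Led Lsl_ft (LP (LK LD1_c23 LD2_c31 LD3_c44)) = (LP (LK LD1_c31 LD2_c5 LD3_c60)) :=
  Leop (Lpr_ff (f964718 IH) (Lpn (LP (LK LD1_c23 LD2_c31 LD3_c44))))
theorem seed_2902 : LEOK LG_f (LK LD1_c23 LD2_c31 LD3_c44) :=
  Leoe_f (LK LD1_c23 LD2_c31 LD3_c44) (f964719 IH)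
theorem f892652 : Led Lsl_ct (LP (LK LD1_c13 LD2_c58 LD3_c60)) = (LP (LK LD1_c12 LD2_c6 LD3_c27)) :=
  Lgr Lrot59 (Lpr_cf (K68.f892650 IH) (Lpn (LP (LK LD1_c12 LD2_c6 LD3_c27))))
theorem f892674 : Led Lsl_ct (LP (LK LD1_c16 LD2_c25 LD3_c12)) = (LP (LK LD1_c21 LD2_c30 LD3_c47)) :=
  Lgr Lrot40 (Lpr_ff (K68.f892672 IH) (Lpe (f892652 IH) (Lpe (K68.f892606 IH) (Lpn (LP (LK LD1_c21 LD2_c30 LD3_c47))))))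
theorem f123044 : Led Lsl_bt (LP (LK LD1_c14 LD2_c49 LD3_c5)) = (LP (LK LD1_c7 LD2_c51 LD3_c20)) :=
  Lre_b IH (LK LD1_c14 LD2_c49 LD3_c5) (LK LD1_c7 LD2_c51 LD3_c20) Lrfl Lrfl
theorem f443865 : Led Lsl_et (LP (LK LD1_c6 LD2_c13 LD3_c32)) = (LP (LK LD1_c12 LD2_c5 LD3_c51)) :=
  Lre_e IH (LK LD1_c6 LD2_c13 LD3_c32) (LK LD1_c12 LD2_c5 LD3_c51) Lrfl Lrfl
theorem f443866 : Led Lsl_bf (LP (LK LD1_c8 LD2_c1 LD3_c17)) = (LP (LK LD1_c12 LD2_c5 LD3_c51)) :=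
  Lgr Lrot96 (Lpr_et (K64.f36508 IH) (Lpr_bt (K37.f443859 IH) (Lpr_et (f443865 IH) (Lpn (LP (LK LD1_c12 LD2_c5 LD3_c51))))))
theorem f36811 : Led Lsl_ct (LP (LK LD1_c12 LD2_c5 LD3_c51)) = (LP (LK LD1_c6 LD2_c13 LD3_c33)) :=
  Lre_c IH (LK LD1_c12 LD2_c5 LD3_c51) (LK LD1_c6 LD2_c13 LD3_c33) Lrfl Lrfl
theorem f741812 : Led Lsl_ct (LP (LK LD1_c14 LD2_c49 LD3_c5)) = (LP (LK LD1_c12 LD2_c5 LD3_c52)) :=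
  Lgr Lrot10 (Lpr_bt (f123044 IH) (Lpr_gt (K7.f123043 IH) (Lpr_ct (K6.f123032 IH) (Lpr_gt (K64.f144564 IH) (Lpe (K64.f144573 IH) (Lpr_bt (K64.f741801 IH) (Lpr_gt (K64.f36510 IH) (Lpr_bf (f443866 IH) (Lpr_ct (f36811 IH) (Lpr_gt (K64.f36831 IH) (Lpn (LP (LK LD1_c12 LD2_c5 LD3_c52)))))))))))))
theorem f147624 : Led Lsl_ef (LP (LK LD1_c13 LD2_c59 LD3_c14)) = (LP (LK LD1_c7 LD2_c51 LD3_c20)) :=
  Lgr Lrot88 (Lpr_et (K7.f147609 IH) (Lpn (LP (LK LD1_c7 LD2_c51 LD3_c20))))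
theorem f437004 : Led Lsl_bt (LP (LK LD1_c13 LD2_c59 LD3_c14)) = (LP (LK LD1_c23 LD2_c31 LD3_c22)) :=
  Lre_b IH (LK LD1_c13 LD2_c59 LD3_c14) (LK LD1_c23 LD2_c31 LD3_c22) Lrfl Lrfl
theorem f437005 : Led Lsl_et (LP (LK LD1_c23 LD2_c31 LD3_c22)) = (LP (LK LD1_c14 LD2_c49 LD3_c5)) :=
  Lgr Lrot74 (Lpe (f437004 IH) (Lpr_ef (f147624 IH) (Lpe (f123044 IH) (Lpn (LP (LK LD1_c14 LD2_c49 LD3_c5))))))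
theorem f741817 : Led Lsl_cf (LP (LK LD1_c23 LD2_c31 LD3_c22)) = (LP (LK LD1_c21 LD2_c11 LD3_c41)) :=
  Lgr Lrot39 (Lpr_et (f437005 IH) (Lpr_ct (f741812 IH) (Lpr_et (K64.f618002 IH) (Lpn (LP (LK LD1_c21 LD2_c11 LD3_c41))))))
theorem f741819 : Led Lsl_ct (LP (LK LD1_c23 LD2_c31 LD3_c22)) = (LP (LK LD1_c21 LD2_c11 LD3_c41)) :=
  Lgr Lrot59 (Lpr_cf (f741817 IH) (Lpn (LP (LK LD1_c21 LD2_c11 LD3_c41))))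
theorem f437008 : Led Lsl_dt (LP (LK LD1_c13 LD2_c59 LD3_c12)) = (LP (LK LD1_c23 LD2_c31 LD3_c22)) :=
  Lre_d IH (LK LD1_c13 LD2_c59 LD3_c12) (LK LD1_c23 LD2_c31 LD3_c22) Lrfl Lrfl
theorem f892586 : Led Lsl_dt (LP (LK LD1_c13 LD2_c58 LD3_c59)) = (LP (LK LD1_c23 LD2_c31 LD3_c5)) :=
  Lre_d IH (LK LD1_c13 LD2_c58 LD3_c59) (LK LD1_c23 LD2_c31 LD3_c5) Lrfl Lrfl
theorem f892898 : Led Lsl_gf (LP (LK LD1_c13 LD2_c59 LD3_c12)) = (LP (LK LD1_c23 LD2_c31 LD3_c5)) :=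
  Lgr Lrot154 (Lpr_dt (f437008 IH) (Lpr_ct (f741819 IH) (Lpe (K64.f617999 IH) (Lpr_gf (K64.f394697 IH) (Lpe (K39.f554558 IH) (Lpr_gf (K68.f619084 IH) (Lpr_ct (f892674 IH) (Lpr_gt (K68.f892604 IH) (Lpr_dt (f892586 IH) (Lpn (LP (LK LD1_c23 LD2_c31 LD3_c5))))))))))))
theorem f239070 : Led Lsl_ct (LP (LK LD1_c11 LD2_c29 LD3_c15)) = (LP (LK LD1_c5 LD2_c50 LD3_c52)) :=
  Lre_c IH (LK LD1_c11 LD2_c29 LD3_c15) (LK LD1_c5 LD2_c50 LD3_c52) Lrfl Lrfl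
theorem f407915 : Led Lsl_af (LP (LK LD1_c11 LD2_c29 LD3_c15)) = (LP (LK LD1_c12 LD2_c23 LD3_c50)) :=
  Lgr Lrot68 (Lpr_ct (f239070 IH) (Lpr_at (K32.f407908 IH) (Lpr_ct (K69.f407914 IH) (Lpn (LP (LK LD1_c12 LD2_c23 LD3_c50))))))
theorem f407926 : Led Lsl_dt (LP (LK LD1_c21 LD2_c30 LD3_c48)) = (LP (LK LD1_c12 LD2_c23 LD3_c50)) :=
  Lre_d IH (LK LD1_c21 LD2_c30 LD3_c48) (LK LD1_c12 LD2_c23 LD3_c50) Lrfl Lrfl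
theorem f964712 : Led Lsl_af (LP (LK LD1_c21 LD2_c30 LD3_c48)) = v48339 :=
  Lgr Lrot117 (Lpr_dt (f407926 IH) (Lpe (f407915 IH) (Lpr_dt (f964711 IH) (Lpn v48339))))
theorem f964720 : Led Lsl_gt (LP (LK LD1_c13 LD2_c59 LD3_c12)) = (LP (LK LD1_c21 LD2_c30 LD3_c48)) :=
  Lgr Lrot46 (Lpr_gf (f892898 IH) (Lpr_ft (f964717 IH) (Lpe (f964712 IH) (Lpn (LP (LK LD1_c21 LD2_c30 LD3_c48))))))
theorem f964721 : Led Lsl_gt (LP (LK LD1_c13 LD2_c59 LD3_c12)) = (LP (LK LD1_c21 LD2_c30 LD3_c48)) :=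
  Leop (Lpe (f964720 IH) (Lpn (LP (LK LD1_c13 LD2_c59 LD3_c12))))
theorem seed_2903 : LEOK LG_g (LK LD1_c13 LD2_c59 LD3_c12) :=
  Leoe_g (LK LD1_c13 LD2_c59 LD3_c12) (f964721 IH)
def v48345 : LQ := Led Lsl_ft (LP (LK LD1_c11 LD2_c29 LD3_c21))
theorem f964767 : Led Lsl_ft (LP (LK LD1_c11 LD2_c29 LD3_c21)) = v48345 :=
  Lrfl
theorem f618117 : Led Lsl_bt (LP (LK LD1_c11 LD2_c29 LD3_c21)) = (LP (LK LD1_c5 LD2_c50 LD3_c54)) :=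
  Lre_b IH (LK LD1_c11 LD2_c29 LD3_c21) (LK LD1_c5 LD2_c50 LD3_c54) Lrfl Lrfl
theorem f618118 : Led Lsl_ct (LP (LK LD1_c9 LD2_c11 LD3_c52)) = (LP (LK LD1_c11 LD2_c29 LD3_c21)) :=
  Lgr Lrot83 (Lpr_bf (K7.f141805 IH) (Lpe (K69.f141809 IH) (Lpr_bf (K51.f618115 IH) (Lpe (K51.f381337 IH) (Lpe (f618117 IH) (Lpn (LP (LK LD1_c11 LD2_c29 LD3_c21))))))))
theorem f964769 : Led Lsl_cf (LP (LK LD1_c17 LD2_c5 LD3_c42)) = v48345 :=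
  Lgr Lrot108 (Lpr_ft (K56.f141825 IH) (Lpr_ct (f618118 IH) (Lpr_ft (f964767 IH) (Lpn v48345))))
theorem f499149 : Led Lsl_gt (LP (LK LD1_c6 LD2_c38 LD3_c58)) = (LP (LK LD1_c12 LD2_c43 LD3_c32)) :=
  Lre_g IH (LK LD1_c6 LD2_c38 LD3_c58) (LK LD1_c12 LD2_c43 LD3_c32) Lrfl Lrfl
theorem f499150 : Led Lsl_gf (LP (LK LD1_c17 LD2_c5 LD3_c42)) = (LP (LK LD1_c12 LD2_c43 LD3_c32)) :=
  Lgr Lrot76 (Lpr_af (K56.f499144 IH) (Lpe (K56.f499123 IH) (Lpr_gt (f499149 IH) (Lpn (LP (LK LD1_c12 LD2_c43 LD3_c32))))))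
theorem f406419 : Led Lsl_bt (LP (LK LD1_c5 LD2_c50 LD3_c54)) = (LP (LK LD1_c11 LD2_c29 LD3_c21)) :=
  Lre_b IH (LK LD1_c5 LD2_c50 LD3_c54) (LK LD1_c11 LD2_c29 LD3_c21) Lrfl Lrfl
def v15985 : LQ := Led Lsl_ft (LP (LK LD1_c5 LD2_c50 LD3_c54))
theorem f744526 : Led Lsl_ft (LP (LK LD1_c5 LD2_c50 LD3_c54)) = v15985 :=
  Lrfl
theorem f744528 : Led Lsl_ff (LP (LK LD1_c5 LD2_c50 LD3_c54)) = v15985 :=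
  Lgr Lrot3 (Lpr_ft (f744526 IH) (Lpn v15985))
theorem f964768 : Led Lsl_bf v15985 = v48345 :=
  Lgr Lrot61 (Lpe (f744528 IH) (Lpr_bt (f406419 IH) (Lpr_ft (f964767 IH) (Lpn v48345))))
theorem f622186 : Led Lsl_af (LP (LK LD1_c5 LD2_c52 LD3_c16)) = (LP (LK LD1_c5 LD2_c50 LD3_c54)) :=
  Lgr Lrot68 (Lpr_ct (K51.f622184 IH) (Lpr_at (K53.f289246 IH) (Lpr_ct (K51.f406418 IH) (Lpn (LP (LK LD1_c5 LD2_c50 LD3_c54))))))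
theorem f744530 : Led Lsl_gf (LP (LK LD1_c9 LD2_c17 LD3_c41)) = v15985 :=
  Lgr Lrot47 (Lpr_gt (K51.f706014 IH) (Lpr_af (f622186 IH) (Lpr_ff (f744528 IH) (Lpn v15985))))
theorem f503359 : Led Lsl_ct (LP (LK LD1_c4 LD2_c41 LD3_c11)) = (LP (LK LD1_c2 LD2_c17 LD3_c38)) :=
  Lre_c IH (LK LD1_c4 LD2_c41 LD3_c11) (LK LD1_c2 LD2_c17 LD3_c38) Lrfl Lrfl
theorem f209285 : Led Lsl_bt (LP (LK LD1_c3 LD2_c13 LD3_c57)) = (LP (LK LD1_c6 LD2_c31 LD3_c24)) :=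
  Lre_b IH (LK LD1_c3 LD2_c13 LD3_c57) (LK LD1_c6 LD2_c31 LD3_c24) Lrfl Lrfl
theorem f209288 : Led Lsl_gt (LP (LK LD1_c6 LD2_c31 LD3_c24)) = (LP (LK LD1_c12 LD2_c31 LD3_c7)) :=
  Lre_g IH (LK LD1_c6 LD2_c31 LD3_c24) (LK LD1_c12 LD2_c31 LD3_c7) Lrfl Lrfl
theorem f964773 : Led Lsl_cf (LP (LK LD1_c12 LD2_c43 LD3_c32)) = (LP (LK LD1_c12 LD2_c31 LD3_c7)) :=
  Lgr Lrot125 (Lpe (f499150 IH) (Lpr_cf (f964769 IH) (Lpe (f964768 IH) (Lpe (f744530 IH) (Lpe (K48.f504396 IH) (Lpr_ct (f503359 IH) (Lpr_gt (K48.f632208 IH) (Lpqs (K48.f662742 IH) (Lpe (K24.f207472 IH) (Lpr_bt (f209285 IH) (Lpr_gt (f209288 IH) (Lpn (LP (LK LD1_c12 LD2_c31 LD3_c7))))))))))))))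
theorem f964774 : Led Lsl_ct (LP (LK LD1_c12 LD2_c31 LD3_c7)) = (LP (LK LD1_c12 LD2_c43 LD3_c32)) :=
  Leop (Lpr_cf (f964773 IH) (Lpn (LP (LK LD1_c12 LD2_c31 LD3_c7))))
theorem seed_2904 : LEOK LG_c (LK LD1_c12 LD2_c31 LD3_c7) :=
  Leoe_c (LK LD1_c12 LD2_c31 LD3_c7) (f964774 IH)
def v48352 : LQ := Led Lsl_dt (LP (LK LD1_c11 LD2_c29 LD3_c29))
theorem f964823 : Led Lsl_dt (LP (LK LD1_c11 LD2_c29 LD3_c29)) = v48352 :=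
  Lrfl
theorem f739119 : Led Lsl_ff (LP (LK LD1_c11 LD2_c29 LD3_c29)) = (LP (LK LD1_c9 LD2_c30 LD3_c51)) :=
  Lgr Lrot3 (Lpr_ft (K54.f739027 IH) (Lpn (LP (LK LD1_c9 LD2_c30 LD3_c51))))
def v40006 : LQ := Led Lsl_dt (LP (LK LD1_c9 LD2_c30 LD3_c51))
theorem f912656 : Led Lsl_dt (LP (LK LD1_c9 LD2_c30 LD3_c51)) = v40006 :=
  Lrfl
theorem f912658 : Led Lsl_df (LP (LK LD1_c9 LD2_c30 LD3_c51)) = v40006 :=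
  Lgr Lrot38 (Lpr_dt (f912656 IH) (Lpn v40006))
theorem f964827 : Led Lsl_ff v40006 = v48352 :=
  Lgr Lrot19 (Lpe (f912658 IH) (Lpe (f739119 IH) (Lpr_dt (f964823 IH) (Lpn v48352))))
theorem f964830 : Led Lsl_ft v40006 = v48352 :=
  Lgr Lrot48 (Lpr_ff (f964827 IH) (Lpn v48352))
theorem f912659 : Led Lsl_gf (LP (LK LD1_c12 LD2_c55 LD3_c24)) = v40006 :=
  Lgr Lrot179 (Lpr_ct (K70.f416757 IH) (Lpr_gt (K70.f416756 IH) (Lpr_ct (K70.f416764 IH) (Lpr_dt (K52.f415292 IH) (Lpe (K65.f414798 IH) (Lpr_gf (K52.f705776 IH) (Lpqs (K52.f714863 IH) (Lpe (K8.f95220 IH) (Lpe (K55.f709906 IH) (Lpr_dt (f912656 IH) (Lpn v40006)))))))))))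
theorem f964824 : Led Lsl_af (LP (LK LD1_c17 LD2_c31 LD3_c47)) = v48352 :=
  Lgr Lrot117 (Lpr_dt (K57.f74675 IH) (Lpe (K54.f739023 IH) (Lpr_dt (f964823 IH) (Lpn v48352))))
theorem f964831 : Led Lsl_gt (LP (LK LD1_c12 LD2_c55 LD3_c24)) = (LP (LK LD1_c17 LD2_c31 LD3_c47)) :=
  Lgr Lrot46 (Lpr_gf (f912659 IH) (Lpr_ft (f964830 IH) (Lpe (f964824 IH) (Lpn (LP (LK LD1_c17 LD2_c31 LD3_c47))))))
theorem f964832 : Led Lsl_gt (LP (LK LD1_c12 LD2_c55 LD3_c24)) = (LP (LK LD1_c17 LD2_c31 LD3_c47)) :=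
  Leop (Lpe (f964831 IH) (Lpn (LP (LK LD1_c12 LD2_c55 LD3_c24))))
theorem seed_2905 : LEOK LG_g (LK LD1_c12 LD2_c55 LD3_c24) :=
  Leoe_g (LK LD1_c12 LD2_c55 LD3_c24) (f964832 IH)
def v48358 : LQ := Led Lsl_ft (LP (LK LD1_c11 LD2_c29 LD3_c36))
theorem f964857 : Led Lsl_ft (LP (LK LD1_c11 LD2_c29 LD3_c36)) = v48358 :=
  Lrfl
theorem f920360 : Led Lsl_gt (LP (LK LD1_c15 LD2_c0 LD3_c30)) = (LP (LK LD1_c17 LD2_c0 LD3_c19)) :=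
  Lgr Lrot46 (Lpr_gf (K71.f920338 IH) (Lpr_ft (K71.f104368 IH) (Lpe (K7.f149046 IH) (Lpn (LP (LK LD1_c17 LD2_c0 LD3_c19))))))
theorem f149071 : Led Lsl_ct (LP (LK LD1_c9 LD2_c7 LD3_c61)) = (LP (LK LD1_c17 LD2_c0 LD3_c19)) :=
  Lre_c IH (LK LD1_c9 LD2_c7 LD3_c61) (LK LD1_c17 LD2_c0 LD3_c19) Lrfl Lrfl
theorem f420316 : Led Lsl_bf (LP (LK LD1_c9 LD2_c9 LD3_c36)) = (LP (LK LD1_c14 LD2_c59 LD3_c28)) :=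
  Lgr Lrot24 (Lpr_bt (K71.f420306 IH) (Lpn (LP (LK LD1_c14 LD2_c59 LD3_c28))))
theorem f137521 : Led Lsl_bt (LP (LK LD1_c5 LD2_c53 LD3_c45)) = (LP (LK LD1_c8 LD2_c46 LD3_c15)) :=
  Lgr Lrot127 (Lpr_bf (K6.f137519 IH) (Lpn (LP (LK LD1_c8 LD2_c46 LD3_c15))))
theorem f149288 : Led Lsl_et (LP (LK LD1_c9 LD2_c7 LD3_c61)) = (LP (LK LD1_c4 LD2_c35 LD3_c48)) :=
  Lre_e IH (LK LD1_c9 LD2_c7 LD3_c61) (LK LD1_c4 LD2_c35 LD3_c48) Lrfl Lrfl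
theorem f149005 : Led Lsl_et (LP (LK LD1_c5 LD2_c51 LD3_c1)) = (LP (LK LD1_c11 LD2_c29 LD3_c36)) :=
  Lre_e IH (LK LD1_c5 LD2_c51 LD3_c1) (LK LD1_c11 LD2_c29 LD3_c36) Lrfl Lrfl
theorem f149924 : Led Lsl_bf (LP (LK LD1_c9 LD2_c7 LD3_c61)) = (LP (LK LD1_c11 LD2_c29 LD3_c36)) :=
  Lgr Lrot96 (Lpr_et (f149288 IH) (Lpr_bt (K7.f149920 IH) (Lpr_et (f149005 IH) (Lpn (LP (LK LD1_c11 LD2_c29 LD3_c36))))))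
theorem f420318 : Led Lsl_at (LP (LK LD1_c9 LD2_c9 LD3_c36)) = (LP (LK LD1_c11 LD2_c29 LD3_c36)) :=
  Lgr Lrot67 (Lpr_bf (f420316 IH) (Lpe (K71.f150138 IH) (Lpe (f137521 IH) (Lpe (K7.f149040 IH) (Lpr_bf (f149924 IH) (Lpn (LP (LK LD1_c11 LD2_c29 LD3_c36))))))))
theorem f420320 : Led Lsl_af (LP (LK LD1_c9 LD2_c9 LD3_c36)) = (LP (LK LD1_c11 LD2_c29 LD3_c36)) :=
  Lgr Lrot0 (Lpr_at (f420318 IH) (Lpn (LP (LK LD1_c11 LD2_c29 LD3_c36))))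
theorem f150140 : Led Lsl_af (LP (LK LD1_c8 LD2_c46 LD3_c15)) = (LP (LK LD1_c14 LD2_c59 LD3_c28)) :=
  Lgr Lrot0 (Lpr_at (K71.f150138 IH) (Lpn (LP (LK LD1_c14 LD2_c59 LD3_c28))))
theorem f149043 : Led Lsl_af (LP (LK LD1_c9 LD2_c7 LD3_c61)) = (LP (LK LD1_c5 LD2_c53 LD3_c45)) :=
  Lgr Lrot0 (Lpr_at (K7.f149040 IH) (Lpn (LP (LK LD1_c5 LD2_c53 LD3_c45))))
theorem f420322 : Led Lsl_bt (LP (LK LD1_c9 LD2_c7 LD3_c61)) = (LP (LK LD1_c11 LD2_c29 LD3_c36)) :=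
  Lgr Lrot62 (Lpr_af (f149043 IH) (Lpr_bf (K6.f137519 IH) (Lpr_af (f150140 IH) (Lpe (K71.f420306 IH) (Lpr_af (f420320 IH) (Lpn (LP (LK LD1_c11 LD2_c29 LD3_c36))))))))
theorem f920411 : Led Lsl_gf (LP (LK LD1_c15 LD2_c6 LD3_c16)) = (LP (LK LD1_c11 LD2_c29 LD3_c36)) :=
  Lgr Lrot181 (Lpe (K64.f407858 IH) (Lpr_gt (K64.f407857 IH) (Lpe (K64.f39995 IH) (Lpr_bt (K64.f39972 IH) (Lpr_gt (K37.f407849 IH) (Lpe (K71.f70298 IH) (Lpr_ct (K71.f70312 IH) (Lpr_gt (f920360 IH) (Lpe (f149071 IH) (Lpr_bt (f420322 IH) (Lpn (LP (LK LD1_c11 LD2_c29 LD3_c36)))))))))))))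
theorem f420310 : Led Lsl_ft (LP (LK LD1_c17 LD2_c2 LD3_c34)) = (LP (LK LD1_c9 LD2_c9 LD3_c36)) :=
  Lre_f IH (LK LD1_c17 LD2_c2 LD3_c34) (LK LD1_c9 LD2_c9 LD3_c36) Lrfl Lrfl
theorem f964858 : Led Lsl_af (LP (LK LD1_c17 LD2_c2 LD3_c34)) = v48358 :=
  Lgr Lrot45 (Lpr_ft (f420310 IH) (Lpr_at (f420318 IH) (Lpr_ft (f964857 IH) (Lpn v48358))))
theorem f964862 : Led Lsl_gt (LP (LK LD1_c15 LD2_c6 LD3_c16)) = (LP (LK LD1_c17 LD2_c2 LD3_c34)) :=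
  Lgr Lrot46 (Lpr_gf (f920411 IH) (Lpr_ft (f964857 IH) (Lpe (f964858 IH) (Lpn (LP (LK LD1_c17 LD2_c2 LD3_c34))))))
theorem f964863 : Led Lsl_gt (LP (LK LD1_c15 LD2_c6 LD3_c16)) = (LP (LK LD1_c17 LD2_c2 LD3_c34)) :=
  Leop (Lpe (f964862 IH) (Lpn (LP (LK LD1_c15 LD2_c6 LD3_c16))))
theorem seed_2906 : LEOK LG_g (LK LD1_c15 LD2_c6 LD3_c16) :=
  Leoe_g (LK LD1_c15 LD2_c6 LD3_c16) (f964863 IH)
theorem f964861 : Led Lsl_ff (LP (LK LD1_c11 LD2_c29 LD3_c36)) = v48358 :=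
  Lgr Lrot3 (Lpr_ft (f964857 IH) (Lpn v48358))
theorem f964867 : Led Lsl_gf K71.v38378 = v48358 :=
  Lgr Lrot47 (Lpe (K71.f901682 IH) (Lpr_af (f420320 IH) (Lpr_ff (f964861 IH) (Lpn v48358))))
theorem f443778 : Led Lsl_ct (LP (LK LD1_c4 LD2_c26 LD3_c43)) = (LP (LK LD1_c8 LD2_c51 LD3_c1)) :=
  Lre_c IH (LK LD1_c4 LD2_c26 LD3_c43) (LK LD1_c8 LD2_c51 LD3_c1) Lrfl Lrfl
theorem f696721 : Led Lsl_gt (LP (LK LD1_c8 LD2_c51 LD3_c1)) = (LP (LK LD1_c16 LD2_c32 LD3_c41)) :=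
  Lre_g IH (LK LD1_c8 LD2_c51 LD3_c1) (LK LD1_c16 LD2_c32 LD3_c41) Lrfl Lrfl
theorem f964865 : Led Lsl_bt (LP (LK LD1_c17 LD2_c0 LD3_c21)) = v48358 :=
  Lgr Lrot35 (Lpe (K71.f149060 IH) (Lpr_bf (f149924 IH) (Lpr_ff (f964861 IH) (Lpn v48358))))
theorem f964868 : Led Lsl_cf (LP (LK LD1_c16 LD2_c32 LD3_c41)) = (LP (LK LD1_c17 LD2_c0 LD3_c21)) :=
  Lgr Lrot58 (Lpe (f696721 IH) (Lpe (f443778 IH) (Lpr_bt (K65.f443775 IH) (Lpe (K8.f69509 IH) (Lpe (K65.f39930 IH) (Lpr_ct (K65.f444907 IH) (Lpe (K50.f438092 IH) (Lpe (K50.f39969 IH) (Lpq (K71.f920403 IH) (Lpr_gf (f964867 IH) (Lpe (f964865 IH) (Lpn (LP (LK LD1_c17 LD2_c0 LD3_c21))))))))))))))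
theorem f964869 : Led Lsl_ct (LP (LK LD1_c17 LD2_c0 LD3_c21)) = (LP (LK LD1_c16 LD2_c32 LD3_c41)) :=
  Leop (Lpr_cf (f964868 IH) (Lpn (LP (LK LD1_c17 LD2_c0 LD3_c21))))
theorem seed_2907 : LEOK LG_c (LK LD1_c17 LD2_c0 LD3_c21) :=
  Leoe_c (LK LD1_c17 LD2_c0 LD3_c21) (f964869 IH)
theorem f81567 : Led Lsl_et (LP (LK LD1_c24 LD2_c57 LD3_c22)) = (LP (LK LD1_c15 LD2_c8 LD3_c29)) :=
  Lre_e IH (LK LD1_c24 LD2_c57 LD3_c22) (LK LD1_c15 LD2_c8 LD3_c29) Lrfl Lrfl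
theorem f81550 : Led Lsl_at (LP (LK LD1_c24 LD2_c57 LD3_c22)) = (LP (LK LD1_c15 LD2_c8 LD3_c32)) :=
  Lre_a IH (LK LD1_c24 LD2_c57 LD3_c22) (LK LD1_c15 LD2_c8 LD3_c32) Lrfl Lrfl
theorem f81551 : Led Lsl_at (LP (LK LD1_c15 LD2_c10 LD3_c56)) = (LP (LK LD1_c25 LD2_c0 LD3_c7)) :=
  Lre_a IH (LK LD1_c15 LD2_c10 LD3_c56) (LK LD1_c25 LD2_c0 LD3_c7) Lrfl Lrfl
theorem f81552 : Led Lsl_df (LP (LK LD1_c24 LD2_c57 LD3_c22)) = (LP (LK LD1_c25 LD2_c0 LD3_c7)) :=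
  Lgr Lrot18 (Lpr_at (f81550 IH) (Lpr_dt (K71.f81548 IH) (Lpr_at (f81551 IH) (Lpn (LP (LK LD1_c25 LD2_c0 LD3_c7))))))
theorem f81565 : Led Lsl_dt (LP (LK LD1_c24 LD2_c57 LD3_c22)) = (LP (LK LD1_c25 LD2_c0 LD3_c7)) :=
  Lgr Lrot42 (Lpr_df (f81552 IH) (Lpn (LP (LK LD1_c25 LD2_c0 LD3_c7))))
def v35707 : LQ := Led Lsl_gt (LP (LK LD1_c8 LD2_c1 LD3_c24))
theorem f876986 : Led Lsl_gt (LP (LK LD1_c8 LD2_c1 LD3_c24)) = v35707 :=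
  Lrfl
theorem f689304 : Led Lsl_at (LP (LK LD1_c8 LD2_c2 LD3_c34)) = (LP (LK LD1_c15 LD2_c8 LD3_c29)) :=
  Lre_a IH (LK LD1_c8 LD2_c2 LD3_c34) (LK LD1_c15 LD2_c8 LD3_c29) Lrfl Lrfl
theorem f877952 : Led Lsl_gt v35707 = (LP (LK LD1_c15 LD2_c8 LD3_c29)) :=
  Lgr Lrot46 (Lpe (f876986 IH) (Lpq (K71.f877109 IH) (Lpe (K71.f877043 IH) (Lpr_at (f689304 IH) (Lpn (LP (LK LD1_c15 LD2_c8 LD3_c29)))))))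
def v37138 : LQ := Led Lsl_gf (LP (LK LD1_c8 LD2_c46 LD3_c15))
theorem f893192 : Led Lsl_gf (LP (LK LD1_c8 LD2_c46 LD3_c15)) = v37138 :=
  Lrfl
theorem f964876 : Led Lsl_ft (LP (LK LD1_c16 LD2_c32 LD3_c41)) = (LP (LK LD1_c17 LD2_c0 LD3_c19)) :=
  Lgr Lrot4 (Lpr_cf (f964868 IH) (Lpe (K71.f149060 IH) (Lpe (K7.f149045 IH) (Lpn (LP (LK LD1_c17 LD2_c0 LD3_c19))))))
theorem f104576 : Led Lsl_gt (LP (LK LD1_c20 LD2_c30 LD3_c39)) = (LP (LK LD1_c11 LD2_c33 LD3_c24)) :=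
  Lre_g IH (LK LD1_c20 LD2_c30 LD3_c39) (LK LD1_c11 LD2_c33 LD3_c24) Lrfl Lrfl
theorem f964884 : Led Lsl_gt (LP (LK LD1_c16 LD2_c32 LD3_c41)) = (LP (LK LD1_c20 LD2_c30 LD3_c39)) :=
  Lgr Lrot5 (Lpr_ft (f964876 IH) (Lpr_at (K7.f149068 IH) (Lpe (f104576 IH) (Lpn (LP (LK LD1_c20 LD2_c30 LD3_c39))))))
theorem f164925 : Led Lsl_ct (LP (LK LD1_c11 LD2_c6 LD3_c14)) = (LP (LK LD1_c19 LD2_c59 LD3_c42)) :=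
  Lre_c IH (LK LD1_c11 LD2_c6 LD3_c14) (LK LD1_c19 LD2_c59 LD3_c42) Lrfl Lrfl
theorem f180202 : Led Lsl_ct (LP (LK LD1_c26 LD2_c5 LD3_c25)) = (LP (LK LD1_c16 LD2_c8 LD3_c37)) :=
  Lre_c IH (LK LD1_c26 LD2_c5 LD3_c25) (LK LD1_c16 LD2_c8 LD3_c37) Lrfl Lrfl
theorem f696995 : Led Lsl_ft (LP (LK LD1_c19 LD2_c59 LD3_c42)) = (LP (LK LD1_c26 LD2_c5 LD3_c25)) :=
  Lgr Lrot4 (Lpe (f164925 IH) (Lpr_ff (K57.f696989 IH) (Lpe (f180202 IH) (Lpn (LP (LK LD1_c26 LD2_c5 LD3_c25))))))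
theorem f164957 : Led Lsl_ct (LP (LK LD1_c19 LD2_c59 LD3_c45)) = (LP (LK LD1_c11 LD2_c6 LD3_c15)) :=
  Lre_c IH (LK LD1_c19 LD2_c59 LD3_c45) (LK LD1_c11 LD2_c6 LD3_c15) Lrfl Lrfl
theorem f180201 : Led Lsl_ct (LP (LK LD1_c16 LD2_c8 LD3_c37)) = (LP (LK LD1_c26 LD2_c5 LD3_c25)) :=
  Lre_c IH (LK LD1_c16 LD2_c8 LD3_c37) (LK LD1_c26 LD2_c5 LD3_c25) Lrfl Lrfl
theorem f696967 : Led Lsl_af (LP (LK LD1_c19 LD2_c59 LD3_c45)) = (LP (LK LD1_c26 LD2_c5 LD3_c25)) :=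
  Lgr Lrot68 (Lpr_ct (f164957 IH) (Lpr_at (K57.f696962 IH) (Lpr_ct (f180201 IH) (Lpn (LP (LK LD1_c26 LD2_c5 LD3_c25))))))
theorem f164954 : Led Lsl_ct (LP (LK LD1_c11 LD2_c6 LD3_c15)) = (LP (LK LD1_c19 LD2_c59 LD3_c45)) :=
  Lre_c IH (LK LD1_c11 LD2_c6 LD3_c15) (LK LD1_c19 LD2_c59 LD3_c45) Lrfl Lrfl
theorem f211176 : Led Lsl_ct (LP (LK LD1_c16 LD2_c33 LD3_c27)) = (LP (LK LD1_c8 LD2_c51 LD3_c22)) :=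
  Lre_c IH (LK LD1_c16 LD2_c33 LD3_c27) (LK LD1_c8 LD2_c51 LD3_c22) Lrfl Lrfl
theorem f696958 : Led Lsl_ft (LP (LK LD1_c19 LD2_c59 LD3_c45)) = (LP (LK LD1_c16 LD2_c33 LD3_c27)) :=
  Lgr Lrot4 (Lpe (f164954 IH) (Lpr_ff (K57.f696953 IH) (Lpe (f211176 IH) (Lpn (LP (LK LD1_c16 LD2_c33 LD3_c27))))))
theorem f697201 : Led Lsl_af (LP (LK LD1_c19 LD2_c59 LD3_c42)) = (LP (LK LD1_c16 LD2_c33 LD3_c27)) :=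
  Lgr Lrot45 (Lpr_ft (f696995 IH) (Lpe (f696967 IH) (Lpr_ft (f696958 IH) (Lpn (LP (LK LD1_c16 LD2_c33 LD3_c27))))))
theorem f236527 : Led Lsl_ct (LP (LK LD1_c19 LD2_c59 LD3_c42)) = (LP (LK LD1_c11 LD2_c6 LD3_c14)) :=
  Lre_c IH (LK LD1_c19 LD2_c59 LD3_c42) (LK LD1_c11 LD2_c6 LD3_c14) Lrfl Lrfl
theorem f236528 : Led Lsl_et (LP (LK LD1_c15 LD2_c0 LD3_c33)) = (LP (LK LD1_c19 LD2_c59 LD3_c42)) :=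
  Lgr Lrot158 (Lpe (K40.f70317 IH) (Lpr_ef (K37.f236521 IH) (Lpe (f236527 IH) (Lpn (LP (LK LD1_c19 LD2_c59 LD3_c42))))))
theorem f236557 : Led Lsl_ef (LP (LK LD1_c15 LD2_c0 LD3_c33)) = (LP (LK LD1_c19 LD2_c59 LD3_c42)) :=
  Lgr Lrot88 (Lpr_et (f236528 IH) (Lpn (LP (LK LD1_c19 LD2_c59 LD3_c42))))
theorem f697213 : Led Lsl_at (LP (LK LD1_c15 LD2_c0 LD3_c33)) = (LP (LK LD1_c8 LD2_c51 LD3_c21)) :=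
  Lgr Lrot80 (Lpr_ef (f236557 IH) (Lpr_af (f697201 IH) (Lpe (K47.f444915 IH) (Lpn (LP (LK LD1_c8 LD2_c51 LD3_c21))))))
theorem f445288 : Led Lsl_gt (LP (LK LD1_c16 LD2_c33 LD3_c4)) = (LP (LK LD1_c8 LD2_c51 LD3_c21)) :=
  Lgr Lrot180 (Lpr_ct (K40.f445284 IH) (Lpe (K40.f272851 IH) (Lpr_dt (K37.f30086 IH) (Lpr_gt (K37.f30053 IH) (Lpr_dt (K1.f29995 IH) (Lpr_ct (K40.f30064 IH) (Lpe (K1.f29590 IH) (Lpr_gf (K43.f444917 IH) (Lpe (K37.f227635 IH) (Lpn (LP (LK LD1_c8 LD2_c51 LD3_c21))))))))))))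
theorem f697219 : Led Lsl_ff (LP (LK LD1_c15 LD2_c0 LD3_c33)) = (LP (LK LD1_c8 LD2_c51 LD3_c9)) :=
  Lgr Lrot52 (Lpr_at (f697213 IH) (Lpe (f445288 IH) (Lpe (K40.f241123 IH) (Lpn (LP (LK LD1_c8 LD2_c51 LD3_c9))))))
theorem f697225 : Led Lsl_ft (LP (LK LD1_c15 LD2_c0 LD3_c33)) = (LP (LK LD1_c8 LD2_c51 LD3_c9)) :=
  Lgr Lrot48 (Lpr_ff (f697219 IH) (Lpn (LP (LK LD1_c8 LD2_c51 LD3_c9))))
theorem f697231 : Led Lsl_af (LP (LK LD1_c15 LD2_c0 LD3_c26)) = (LP (LK LD1_c8 LD2_c51 LD3_c9)) :=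
  Lgr Lrot109 (Lpe (K40.f37808 IH) (Lpe (K1.f37781 IH) (Lpr_cf (K40.f445365 IH) (Lpe (K40.f59768 IH) (Lpe (K40.f443144 IH) (Lpr_df (K40.f445307 IH) (Lpe (K40.f445370 IH) (Lpe (K40.f70318 IH) (Lpr_ft (f697225 IH) (Lpn (LP (LK LD1_c8 LD2_c51 LD3_c9))))))))))))
theorem f697215 : Led Lsl_af (LP (LK LD1_c15 LD2_c0 LD3_c33)) = (LP (LK LD1_c8 LD2_c51 LD3_c21)) :=
  Lgr Lrot0 (Lpr_at (f697213 IH) (Lpn (LP (LK LD1_c8 LD2_c51 LD3_c21))))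
theorem f697238 : Led Lsl_ft (LP (LK LD1_c15 LD2_c0 LD3_c26)) = (LP (LK LD1_c8 LD2_c51 LD3_c21)) :=
  Lgr Lrot101 (Lpr_af (f697231 IH) (Lpe (f697225 IH) (Lpr_af (f697215 IH) (Lpn (LP (LK LD1_c8 LD2_c51 LD3_c21))))))
theorem f697246 : Led Lsl_ff (LP (LK LD1_c15 LD2_c0 LD3_c26)) = (LP (LK LD1_c8 LD2_c51 LD3_c21)) :=
  Lgr Lrot3 (Lpr_ft (f697238 IH) (Lpn (LP (LK LD1_c8 LD2_c51 LD3_c21))))
theorem f697250 : Led Lsl_ft (LP (LK LD1_c24 LD2_c47 LD3_c50)) = (LP (LK LD1_c16 LD2_c33 LD3_c26)) :=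
  Lgr Lrot54 (Lpe (K40.f407894 IH) (Lpr_ff (f697246 IH) (Lpe (K37.f227634 IH) (Lpn (LP (LK LD1_c16 LD2_c33 LD3_c26))))))
theorem f697258 : Led Lsl_ff (LP (LK LD1_c26 LD2_c30 LD3_c45)) = (LP (LK LD1_c26 LD2_c21 LD3_c5)) :=
  Lgr Lrot23 (Lpe (K40.f445309 IH) (Lpr_ft (f697250 IH) (Lpe (K37.f444919 IH) (Lpn (LP (LK LD1_c26 LD2_c21 LD3_c5))))))
theorem f697264 : Led Lsl_at (LP (LK LD1_c26 LD2_c30 LD3_c45)) = (LP (LK LD1_c26 LD2_c21 LD3_c4)) :=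
  Lgr Lrot26 (Lpr_ff (f697258 IH) (Lpr_gt (K37.f16298 IH) (Lpr_gt (K37.f16274 IH) (Lpn (LP (LK LD1_c26 LD2_c21 LD3_c4))))))
theorem f697268 : Led Lsl_af (LP (LK LD1_c21 LD2_c11 LD3_c52)) = (LP (LK LD1_c16 LD2_c33 LD3_c23)) :=
  Lgr Lrot117 (Lpe (K40.f407871 IH) (Lpr_at (f697264 IH) (Lpr_dt (K37.f444962 IH) (Lpn (LP (LK LD1_c16 LD2_c33 LD3_c23))))))
theorem f697276 : Led Lsl_ft (LP (LK LD1_c21 LD2_c11 LD3_c47)) = (LP (LK LD1_c16 LD2_c33 LD3_c23)) :=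
  Lgr Lrot142 (Lpr_dt (K64.f445422 IH) (Lpe (K61.f445398 IH) (Lpr_dt (K61.f70307 IH) (Lpr_ct (K40.f70306 IH) (Lpr_dt (K37.f70305 IH) (Lpr_ct (K37.f70296 IH) (Lpr_dt (K40.f36823 IH) (Lpr_ct (K40.f70308 IH) (Lpr_af (f697268 IH) (Lpn (LP (LK LD1_c16 LD2_c33 LD3_c23))))))))))))
theorem f697284 : Led Lsl_ff (LP (LK LD1_c21 LD2_c11 LD3_c47)) = (LP (LK LD1_c16 LD2_c33 LD3_c23)) :=
  Lgr Lrot3 (Lpr_ft (f697276 IH) (Lpn (LP (LK LD1_c16 LD2_c33 LD3_c23))))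
theorem f697293 : Led Lsl_at (LP (LK LD1_c21 LD2_c11 LD3_c47)) = (LP (LK LD1_c16 LD2_c32 LD3_c57)) :=
  Lgr Lrot26 (Lpr_ff (f697284 IH) (Lpr_gt (K46.f445253 IH) (Lpe (K46.f444973 IH) (Lpn (LP (LK LD1_c16 LD2_c32 LD3_c57))))))
theorem f697270 : Led Lsl_at (LP (LK LD1_c21 LD2_c11 LD3_c52)) = (LP (LK LD1_c16 LD2_c33 LD3_c23)) :=
  Lgr Lrot100 (Lpr_af (f697268 IH) (Lpn (LP (LK LD1_c16 LD2_c33 LD3_c23))))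
theorem f697302 : Led Lsl_ff (LP (LK LD1_c21 LD2_c11 LD3_c52)) = (LP (LK LD1_c16 LD2_c32 LD3_c57)) :=
  Lgr Lrot30 (Lpr_at (f697270 IH) (Lpe (f697284 IH) (Lpr_at (f697293 IH) (Lpn (LP (LK LD1_c16 LD2_c32 LD3_c57))))))
theorem f697306 : Led Lsl_ft (LP (LK LD1_c12 LD2_c5 LD3_c58)) = (LP (LK LD1_c8 LD2_c51 LD3_c5)) :=
  Lgr Lrot4 (Lpe (K40.f70309 IH) (Lpr_ff (f697302 IH) (Lpe (K37.f444950 IH) (Lpn (LP (LK LD1_c8 LD2_c51 LD3_c5))))))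
theorem f697313 : Led Lsl_ff (LP (LK LD1_c12 LD2_c5 LD3_c58)) = (LP (LK LD1_c8 LD2_c51 LD3_c5)) :=
  Lgr Lrot3 (Lpr_ft (f697306 IH) (Lpn (LP (LK LD1_c8 LD2_c51 LD3_c5))))
theorem f407874 : Led Lsl_bt (LP (LK LD1_c12 LD2_c5 LD3_c58)) = (LP (LK LD1_c21 LD2_c11 LD3_c50)) :=
  Lre_b IH (LK LD1_c12 LD2_c5 LD3_c58) (LK LD1_c21 LD2_c11 LD3_c50) Lrfl Lrfl
theorem f445048 : Led Lsl_bt (LP (LK LD1_c16 LD2_c32 LD3_c54)) = (LP (LK LD1_c8 LD2_c51 LD3_c5)) :=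
  Lre_b IH (LK LD1_c16 LD2_c32 LD3_c54) (LK LD1_c8 LD2_c51 LD3_c5) Lrfl Lrfl
theorem f697327 : Led Lsl_ft (LP (LK LD1_c21 LD2_c11 LD3_c50)) = (LP (LK LD1_c16 LD2_c32 LD3_c54)) :=
  Lgr Lrot75 (Lpe (f407874 IH) (Lpr_ff (f697313 IH) (Lpe (f445048 IH) (Lpn (LP (LK LD1_c16 LD2_c32 LD3_c54))))))
theorem f37381 : Led Lsl_dt (LP (LK LD1_c12 LD2_c5 LD3_c57)) = (LP (LK LD1_c21 LD2_c11 LD3_c50)) :=
  Lre_d IH (LK LD1_c12 LD2_c5 LD3_c57) (LK LD1_c21 LD2_c11 LD3_c50) Lrfl Lrfl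
theorem f697332 : Led Lsl_dt (LP (LK LD1_c16 LD2_c32 LD3_c54)) = (LP (LK LD1_c8 LD2_c51 LD3_c4)) :=
  Lre_d IH (LK LD1_c16 LD2_c32 LD3_c54) (LK LD1_c8 LD2_c51 LD3_c4) Lrfl Lrfl
theorem f697333 : Led Lsl_ff (LP (LK LD1_c12 LD2_c5 LD3_c57)) = (LP (LK LD1_c8 LD2_c51 LD3_c4)) :=
  Lgr Lrot19 (Lpr_dt (f37381 IH) (Lpr_ft (f697327 IH) (Lpr_dt (f697332 IH) (Lpn (LP (LK LD1_c8 LD2_c51 LD3_c4))))))
theorem f697339 : Led Lsl_ft (LP (LK LD1_c12 LD2_c5 LD3_c57)) = (LP (LK LD1_c8 LD2_c51 LD3_c4)) :=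
  Lgr Lrot48 (Lpr_ff (f697333 IH) (Lpn (LP (LK LD1_c8 LD2_c51 LD3_c4))))
theorem f444905 : Led Lsl_ct (LP (LK LD1_c8 LD2_c51 LD3_c4)) = (LP (LK LD1_c16 LD2_c32 LD3_c42)) :=
  Lre_c IH (LK LD1_c8 LD2_c51 LD3_c4) (LK LD1_c16 LD2_c32 LD3_c42) Lrfl Lrfl
theorem f697343 : Led Lsl_ff (LP (LK LD1_c21 LD2_c11 LD3_c49)) = (LP (LK LD1_c16 LD2_c32 LD3_c42)) :=
  Lgr Lrot23 (Lpr_ct (K71.f70313 IH) (Lpr_ft (f697339 IH) (Lpr_ct (f444905 IH) (Lpn (LP (LK LD1_c16 LD2_c32 LD3_c42))))))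
theorem f696723 : Led Lsl_bt (LP (LK LD1_c8 LD2_c51 LD3_c1)) = (LP (LK LD1_c16 LD2_c32 LD3_c42)) :=
  Lre_b IH (LK LD1_c8 LD2_c51 LD3_c1) (LK LD1_c16 LD2_c32 LD3_c42) Lrfl Lrfl
theorem f697348 : Led Lsl_ft (LP (LK LD1_c15 LD2_c0 LD3_c30)) = (LP (LK LD1_c8 LD2_c51 LD3_c1)) :=
  Lgr Lrot75 (Lpr_bf (K71.f70301 IH) (Lpr_ff (f697343 IH) (Lpe (f696723 IH) (Lpn (LP (LK LD1_c8 LD2_c51 LD3_c1))))))
theorem f697352 : Led Lsl_ff (LP (LK LD1_c15 LD2_c0 LD3_c30)) = (LP (LK LD1_c8 LD2_c51 LD3_c1)) :=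
  Lgr Lrot3 (Lpr_ft (f697348 IH) (Lpn (LP (LK LD1_c8 LD2_c51 LD3_c1))))
theorem f964886 : Led Lsl_at (LP (LK LD1_c15 LD2_c0 LD3_c30)) = (LP (LK LD1_c20 LD2_c30 LD3_c39)) :=
  Lgr Lrot26 (Lpr_ff (f697352 IH) (Lpr_gt (f696721 IH) (Lpr_gt (f964884 IH) (Lpn (LP (LK LD1_c20 LD2_c30 LD3_c39))))))
theorem f697356 : Led Lsl_at (LP (LK LD1_c16 LD2_c32 LD3_c38)) = (LP (LK LD1_c8 LD2_c51 LD3_c1)) :=
  Lre_a IH (LK LD1_c16 LD2_c32 LD3_c38) (LK LD1_c8 LD2_c51 LD3_c1) Lrfl Lrfl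
theorem f964892 : Led Lsl_ff (LP (LK LD1_c16 LD2_c32 LD3_c38)) = (LP (LK LD1_c20 LD2_c30 LD3_c39)) :=
  Lgr Lrot30 (Lpr_at (f697356 IH) (Lpe (f697352 IH) (Lpr_at (f964886 IH) (Lpn (LP (LK LD1_c20 LD2_c30 LD3_c39))))))
def v37331 : LQ := Led Lsl_gf (LP (LK LD1_c8 LD2_c51 LD3_c1))
theorem f894102 : Led Lsl_gf (LP (LK LD1_c8 LD2_c51 LD3_c1)) = v37331 :=
  Lrfl
theorem f964898 : v37331 = (LP (LK LD1_c11 LD2_c33 LD3_c24)) :=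
  (Llr Lrot76 (Lpe (f894102 IH) (Lpe (f697356 IH) (Lpr_ff (f964892 IH) (Lpr_gt (f104576 IH) (Lpn (LP (LK LD1_c11 LD2_c33 LD3_c24)))))))).symm
theorem f964900 : v37138 = (LP (LK LD1_c8 LD2_c1 LD3_c24)) :=
  (Llr Lrot124 (Lpe (f893192 IH) (Lpe (f137521 IH) (Lpr_ct (K6.f104580 IH) (Lpq (f964898 IH) (Lpe (f894102 IH) (Lpe (f443778 IH) (Lpr_bt (K65.f443775 IH) (Lpe (K37.f443766 IH) (Lpr_ct (K37.f38715 IH) (Lpr_gt (K37.f16551 IH) (Lpr_cf (K37.f70622 IH) (Lpr_bt (K71.f70619 IH) (Lpn (LP (LK LD1_c8 LD2_c1 LD3_c24)))))))))))))))).symm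
theorem f964901 : (LP (LK LD1_c8 LD2_c46 LD3_c15)) = v35707 :=
  Lefun (Lecon (Lfl_gf (f893192 IH)) (f964900 IH)) (f876986 IH)
theorem f36033 : Led Lsl_et (LP (LK LD1_c8 LD2_c47 LD3_c2)) = (LP (LK LD1_c4 LD2_c24 LD3_c47)) :=
  Lre_e IH (LK LD1_c8 LD2_c47 LD3_c2) (LK LD1_c4 LD2_c24 LD3_c47) Lrfl Lrfl
theorem f36034 : Led Lsl_dt (LP (LK LD1_c8 LD2_c47 LD3_c2)) = (LP (LK LD1_c16 LD2_c26 LD3_c9)) :=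
  Lre_d IH (LK LD1_c8 LD2_c47 LD3_c2) (LK LD1_c16 LD2_c26 LD3_c9) Lrfl Lrfl
theorem f964905 : Led Lsl_gt (LP (LK LD1_c25 LD2_c0 LD3_c7)) = (LP (LK LD1_c16 LD2_c26 LD3_c9)) :=
  Lgr Lrot112 (Lpe (f81565 IH) (Lpr_et (f81567 IH) (Lpe (f877952 IH) (Lpq (f964901 IH) (Lpe (K6.f137518 IH) (Lpe (K6.f137894 IH) (Lpe (K6.f35441 IH) (Lpe (K2.f35982 IH) (Lpe (K6.f36028 IH) (Lpe (f36033 IH) (Lpr_dt (f36034 IH) (Lpn (LP (LK LD1_c16 LD2_c26 LD3_c9))))))))))))))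
theorem f877170 : Led Lsl_ff (LP (LK LD1_c8 LD2_c5 LD3_c21)) = (LP (LK LD1_c8 LD2_c3 LD3_c53)) :=
  Lgr Lrot3 (Lpr_ft (K68.f877164 IH) (Lpn (LP (LK LD1_c8 LD2_c3 LD3_c53))))
theorem f445212 : Led Lsl_bt (LP (LK LD1_c8 LD2_c5 LD3_c21)) = (LP (LK LD1_c15 LD2_c13 LD3_c60)) :=
  Lre_b IH (LK LD1_c8 LD2_c5 LD3_c21) (LK LD1_c15 LD2_c13 LD3_c60) Lrfl Lrfl
theorem f877925 : Led Lsl_ft (LP (LK LD1_c15 LD2_c13 LD3_c60)) = (LP (LK LD1_c15 LD2_c10 LD3_c56)) :=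
  Lgr Lrot75 (Lpe (f445212 IH) (Lpr_ff (f877170 IH) (Lpe (K71.f34485 IH) (Lpn (LP (LK LD1_c15 LD2_c10 LD3_c56))))))
theorem f877927 : Led Lsl_at (LP (LK LD1_c25 LD2_c3 LD3_c1)) = (LP (LK LD1_c15 LD2_c13 LD3_c60)) :=
  Lre_a IH (LK LD1_c25 LD2_c3 LD3_c1) (LK LD1_c15 LD2_c13 LD3_c60) Lrfl Lrfl
theorem f877928 : Led Lsl_ff (LP (LK LD1_c25 LD2_c3 LD3_c1)) = (LP (LK LD1_c25 LD2_c0 LD3_c7)) :=
  Lgr Lrot30 (Lpr_at (f877927 IH) (Lpr_ft (f877925 IH) (Lpr_at (f81551 IH) (Lpn (LP (LK LD1_c25 LD2_c0 LD3_c7))))))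
theorem f964909 : Led Lsl_gf (LP (LK LD1_c15 LD2_c13 LD3_c60)) = (LP (LK LD1_c16 LD2_c26 LD3_c9)) :=
  Lgr Lrot76 (Lpe (f877927 IH) (Lpr_ff (f877928 IH) (Lpr_gt (f964905 IH) (Lpn (LP (LK LD1_c16 LD2_c26 LD3_c9))))))
theorem f764486 : Led Lsl_gt (LP (LK LD1_c15 LD2_c13 LD3_c60)) = (LP (LK LD1_c25 LD2_c3 LD3_c0)) :=
  Lre_g IH (LK LD1_c15 LD2_c13 LD3_c60) (LK LD1_c25 LD2_c3 LD3_c0) Lrfl Lrfl
theorem f589155 : Led Lsl_ft (LP (LK LD1_c5 LD2_c42 LD3_c43)) = (LP (LK LD1_c8 LD2_c43 LD3_c37)) :=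
  Lgr Lrot4 (Lpe (K51.f280491 IH) (Lpr_ff (K51.f589151 IH) (Lpe (K43.f280483 IH) (Lpn (LP (LK LD1_c8 LD2_c43 LD3_c37))))))
theorem f589035 : Led Lsl_bt (LP (LK LD1_c6 LD2_c15 LD3_c43)) = (LP (LK LD1_c5 LD2_c42 LD3_c43)) :=
  Lgr Lrot127 (Lpr_bf (K45.f589033 IH) (Lpn (LP (LK LD1_c5 LD2_c42 LD3_c43))))
theorem f589698 : Led Lsl_bf (LP (LK LD1_c12 LD2_c9 LD3_c17)) = (LP (LK LD1_c8 LD2_c43 LD3_c37)) :=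
  Lgr Lrot61 (Lpr_ft (K6.f132929 IH) (Lpr_bt (f589035 IH) (Lpr_ft (f589155 IH) (Lpn (LP (LK LD1_c8 LD2_c43 LD3_c37))))))
theorem f589055 : Led Lsl_bt (LP (LK LD1_c17 LD2_c15 LD3_c43)) = (LP (LK LD1_c13 LD2_c29 LD3_c25)) :=
  Lgr Lrot127 (Lpr_bf (K45.f589053 IH) (Lpn (LP (LK LD1_c13 LD2_c29 LD3_c25))))
theorem f574407 : Led Lsl_ft (LP (LK LD1_c8 LD2_c43 LD3_c36)) = (LP (LK LD1_c5 LD2_c42 LD3_c42)) :=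
  Lgr Lrot54 (Lpe (K39.f552690 IH) (Lpr_ff (K43.f574403 IH) (Lpe (K41.f549594 IH) (Lpn (LP (LK LD1_c5 LD2_c42 LD3_c42))))))
theorem f589187 : Led Lsl_af (LP (LK LD1_c8 LD2_c43 LD3_c37)) = (LP (LK LD1_c5 LD2_c42 LD3_c42)) :=
  Lgr Lrot109 (Lpe (K45.f280476 IH) (Lpe (K51.f579287 IH) (Lpe (K45.f385843 IH) (Lpr_df (K45.f588729 IH) (Lpe (K51.f589165 IH) (Lpr_df (K51.f589175 IH) (Lpr_cf (K68.f579345 IH) (Lpr_df (K68.f552693 IH) (Lpr_ft (f574407 IH) (Lpn (LP (LK LD1_c5 LD2_c42 LD3_c42))))))))))))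
theorem f589717 : Led Lsl_at (LP (LK LD1_c13 LD2_c29 LD3_c25)) = (LP (LK LD1_c11 LD2_c15 LD3_c34)) :=
  Lgr Lrot67 (Lpe (f589055 IH) (Lpe (K45.f132938 IH) (Lpr_bf (f589698 IH) (Lpr_af (f589187 IH) (Lpe (K42.f172765 IH) (Lpn (LP (LK LD1_c11 LD2_c15 LD3_c34))))))))
theorem f530803 : Led Lsl_et (LP (LK LD1_c22 LD2_c49 LD3_c54)) = (LP (LK LD1_c13 LD2_c29 LD3_c25)) :=
  Lre_e IH (LK LD1_c22 LD2_c49 LD3_c54) (LK LD1_c13 LD2_c29 LD3_c25) Lrfl Lrfl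
theorem f566644 : Led Lsl_et (LP (LK LD1_c11 LD2_c15 LD3_c34)) = (LP (LK LD1_c20 LD2_c10 LD3_c50)) :=
  Lre_e IH (LK LD1_c11 LD2_c15 LD3_c34) (LK LD1_c20 LD2_c10 LD3_c50) Lrfl Lrfl
theorem f589723 : Led Lsl_af (LP (LK LD1_c22 LD2_c49 LD3_c54)) = (LP (LK LD1_c20 LD2_c10 LD3_c50)) :=
  Lgr Lrot50 (Lpr_et (f530803 IH) (Lpr_at (f589717 IH) (Lpr_et (f566644 IH) (Lpn (LP (LK LD1_c20 LD2_c10 LD3_c50))))))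
theorem f481487 : Led Lsl_et (LP (LK LD1_c13 LD2_c49 LD3_c39)) = (LP (LK LD1_c7 LD2_c18 LD3_c28)) :=
  Lre_e IH (LK LD1_c13 LD2_c49 LD3_c39) (LK LD1_c7 LD2_c18 LD3_c28) Lrfl Lrfl
theorem f481488 : Led Lsl_dt (LP (LK LD1_c13 LD2_c49 LD3_c39)) = (LP (LK LD1_c7 LD2_c18 LD3_c26)) :=
  Lre_d IH (LK LD1_c13 LD2_c49 LD3_c39) (LK LD1_c7 LD2_c18 LD3_c26) Lrfl Lrfl
theorem f481471 : Led Lsl_gt (LP (LK LD1_c13 LD2_c49 LD3_c38)) = (LP (LK LD1_c7 LD2_c18 LD3_c26)) :=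
  Lre_g IH (LK LD1_c13 LD2_c49 LD3_c38) (LK LD1_c7 LD2_c18 LD3_c26) Lrfl Lrfl
theorem f530804 : Led Lsl_dt (LP (LK LD1_c22 LD2_c49 LD3_c54)) = (LP (LK LD1_c13 LD2_c49 LD3_c38)) :=
  Lgr Lrot136 (Lpr_et (f530803 IH) (Lpe (K45.f530802 IH) (Lpe (K8.f160236 IH) (Lpr_dt (K33.f11579 IH) (Lpe (K35.f11827 IH) (Lpe (K41.f160217 IH) (Lpr_gf (K60.f530799 IH) (Lpe (f481487 IH) (Lpr_dt (f481488 IH) (Lpe (f481471 IH) (Lpn (LP (LK LD1_c13 LD2_c49 LD3_c38)))))))))))))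
theorem f568821 : Led Lsl_gf (LP (LK LD1_c7 LD2_c0 LD3_c45)) = (LP (LK LD1_c4 LD2_c4 LD3_c50)) :=
  Lgr Lrot181 (Lpr_ct (K42.f441495 IH) (Lpr_gt (K42.f568815 IH) (Lpe (K42.f5627 IH) (Lpr_bt (K43.f565079 IH) (Lpr_gt (K41.f71077 IH) (Lpe (K40.f557801 IH) (Lpe (K13.f227321 IH) (Lpr_gt (K12.f60717 IH) (Lpe (K13.f192981 IH) (Lpr_bt (K42.f193095 IH) (Lpn (LP (LK LD1_c4 LD2_c4 LD3_c50)))))))))))))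
theorem f98537 : Led Lsl_dt (LP (LK LD1_c7 LD2_c0 LD3_c45)) = (LP (LK LD1_c13 LD2_c18 LD3_c8)) :=
  Lre_d IH (LK LD1_c7 LD2_c0 LD3_c45) (LK LD1_c13 LD2_c18 LD3_c8) Lrfl Lrfl
theorem f587537 : Led Lsl_gf (LP (LK LD1_c15 LD2_c13 LD3_c2)) = (LP (LK LD1_c13 LD2_c18 LD3_c8)) :=
  Lgr Lrot143 (Lpr_dt (K42.f225130 IH) (Lpr_cf (K18.f237445 IH) (Lpr_df (K45.f587513 IH) (Lpe (K42.f5521 IH) (Lpe (K41.f5121 IH) (Lpe (K41.f5196 IH) (Lpr_cf (K41.f566085 IH) (Lpe (f568821 IH) (Lpr_dt (f98537 IH) (Lpn (LP (LK LD1_c13 LD2_c18 LD3_c8))))))))))))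
theorem f488557 : Led Lsl_et (LP (LK LD1_c7 LD2_c17 LD3_c4)) = (LP (LK LD1_c13 LD2_c47 LD3_c2)) :=
  Lre_e IH (LK LD1_c7 LD2_c17 LD3_c4) (LK LD1_c13 LD2_c47 LD3_c2) Lrfl Lrfl
theorem f488558 : Led Lsl_gt (LP (LK LD1_c23 LD2_c14 LD3_c36)) = (LP (LK LD1_c13 LD2_c47 LD3_c2)) :=
  Lre_g IH (LK LD1_c23 LD2_c14 LD3_c36) (LK LD1_c13 LD2_c47 LD3_c2) Lrfl Lrfl
theorem f587547 : Led Lsl_et (LP (LK LD1_c15 LD2_c10 LD3_c22)) = (LP (LK LD1_c23 LD2_c14 LD3_c36)) :=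
  Lgr Lrot185 (Lpr_dt (K42.f242249 IH) (Lpe (K42.f386146 IH) (Lpe (K42.f225130 IH) (Lpr_gf (f587537 IH) (Lpe (K45.f441521 IH) (Lpr_dt (K30.f440661 IH) (Lpr_gf (K33.f488550 IH) (Lpe (K33.f92500 IH) (Lpr_et (f488557 IH) (Lpe (f488558 IH) (Lpn (LP (LK LD1_c23 LD2_c14 LD3_c36)))))))))))))
theorem f552671 : Led Lsl_et (LP (LK LD1_c20 LD2_c10 LD3_c50)) = (LP (LK LD1_c11 LD2_c15 LD3_c34)) :=
  Lre_e IH (LK LD1_c20 LD2_c10 LD3_c50) (LK LD1_c11 LD2_c15 LD3_c34) Lrfl Lrfl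
theorem f587551 : Led Lsl_df (LP (LK LD1_c20 LD2_c10 LD3_c50)) = (LP (LK LD1_c23 LD2_c14 LD3_c36)) :=
  Lgr Lrot70 (Lpr_et (f552671 IH) (Lpr_dt (K42.f549592 IH) (Lpe (K42.f569509 IH) (Lpr_dt (K42.f242248 IH) (Lpr_et (f587547 IH) (Lpn (LP (LK LD1_c23 LD2_c14 LD3_c36))))))))
theorem f589727 : Led Lsl_at (LP (LK LD1_c13 LD2_c49 LD3_c38)) = (LP (LK LD1_c23 LD2_c14 LD3_c36)) :=
  Lgr Lrot51 (Lpe (f530804 IH) (Lpr_af (f589723 IH) (Lpr_df (f587551 IH) (Lpn (LP (LK LD1_c23 LD2_c14 LD3_c36))))))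
theorem f518679 : Led Lsl_ft (LP (LK LD1_c13 LD2_c49 LD3_c40)) = (LP (LK LD1_c7 LD2_c18 LD3_c26)) :=
  Lre_f IH (LK LD1_c13 LD2_c49 LD3_c40) (LK LD1_c7 LD2_c18 LD3_c26) Lrfl Lrfl
theorem f518680 : Led Lsl_gt (LP (LK LD1_c13 LD2_c49 LD3_c40)) = (LP (LK LD1_c23 LD2_c14 LD3_c36)) :=
  Lgr Lrot5 (Lpr_ft (f518679 IH) (Lpr_at (K47.f517450 IH) (Lpe (f488558 IH) (Lpn (LP (LK LD1_c23 LD2_c14 LD3_c36))))))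
theorem f517438 : Led Lsl_af (LP (LK LD1_c13 LD2_c49 LD3_c40)) = (LP (LK LD1_c23 LD2_c14 LD3_c37)) :=
  Lgr Lrot0 (Lpr_at (K33.f517434 IH) (Lpn (LP (LK LD1_c23 LD2_c14 LD3_c37))))
theorem f488573 : Led Lsl_ft (LP (LK LD1_c13 LD2_c47 LD3_c2)) = (LP (LK LD1_c23 LD2_c14 LD3_c37)) :=
  Lre_f IH (LK LD1_c13 LD2_c47 LD3_c2) (LK LD1_c23 LD2_c14 LD3_c37) Lrfl Lrfl
theorem f488574 : Led Lsl_gt (LP (LK LD1_c13 LD2_c47 LD3_c2)) = (LP (LK LD1_c23 LD2_c14 LD3_c35)) :=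
  Lre_g IH (LK LD1_c13 LD2_c47 LD3_c2) (LK LD1_c23 LD2_c14 LD3_c35) Lrfl Lrfl
theorem f518692 : Led Lsl_gf (LP (LK LD1_c13 LD2_c49 LD3_c40)) = (LP (LK LD1_c23 LD2_c14 LD3_c35)) :=
  Lgr Lrot76 (Lpr_af (f517438 IH) (Lpe (f488573 IH) (Lpr_gt (f488574 IH) (Lpn (LP (LK LD1_c23 LD2_c14 LD3_c35))))))
theorem f589731 : Led Lsl_ff (LP (LK LD1_c13 LD2_c49 LD3_c38)) = (LP (LK LD1_c23 LD2_c14 LD3_c35)) :=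
  Lgr Lrot52 (Lpr_at (f589727 IH) (Lpe (f518680 IH) (Lpr_gf (f518692 IH) (Lpn (LP (LK LD1_c23 LD2_c14 LD3_c35))))))
theorem f589733 : Led Lsl_ft (LP (LK LD1_c13 LD2_c49 LD3_c38)) = (LP (LK LD1_c23 LD2_c14 LD3_c35)) :=
  Lgr Lrot48 (Lpr_ff (f589731 IH) (Lpn (LP (LK LD1_c23 LD2_c14 LD3_c35))))
theorem f481489 : Led Lsl_gt (LP (LK LD1_c7 LD2_c18 LD3_c26)) = (LP (LK LD1_c13 LD2_c49 LD3_c37)) :=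
  Lre_g IH (LK LD1_c7 LD2_c18 LD3_c26) (LK LD1_c13 LD2_c49 LD3_c37) Lrfl Lrfl
theorem f589735 : Led Lsl_af (LP (LK LD1_c13 LD2_c49 LD3_c37)) = (LP (LK LD1_c23 LD2_c14 LD3_c35)) :=
  Lgr Lrot31 (Lpe (f481489 IH) (Lpe (f481471 IH) (Lpr_ft (f589733 IH) (Lpn (LP (LK LD1_c23 LD2_c14 LD3_c35))))))
theorem f589729 : Led Lsl_af (LP (LK LD1_c13 LD2_c49 LD3_c38)) = (LP (LK LD1_c23 LD2_c14 LD3_c36)) :=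
  Lgr Lrot0 (Lpr_at (f589727 IH) (Lpn (LP (LK LD1_c23 LD2_c14 LD3_c36))))
theorem f589741 : Led Lsl_ft (LP (LK LD1_c13 LD2_c49 LD3_c37)) = (LP (LK LD1_c23 LD2_c14 LD3_c36)) :=
  Lgr Lrot101 (Lpr_af (f589735 IH) (Lpe (f589733 IH) (Lpr_af (f589729 IH) (Lpn (LP (LK LD1_c23 LD2_c14 LD3_c36))))))
theorem f481680 : Led Lsl_et (LP (LK LD1_c23 LD2_c18 LD3_c46)) = (LP (LK LD1_c13 LD2_c49 LD3_c37)) :=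
  Lre_e IH (LK LD1_c23 LD2_c18 LD3_c46) (LK LD1_c13 LD2_c49 LD3_c37) Lrfl Lrfl
theorem f587553 : Led Lsl_ef (LP (LK LD1_c15 LD2_c10 LD3_c22)) = (LP (LK LD1_c23 LD2_c14 LD3_c36)) :=
  Lgr Lrot88 (Lpr_et (f587547 IH) (Lpn (LP (LK LD1_c23 LD2_c14 LD3_c36))))
theorem f137919 : Led Lsl_ef (LP (LK LD1_c16 LD2_c26 LD3_c9)) = (LP (LK LD1_c14 LD2_c59 LD3_c25)) :=
  Lgr Lrot73 (Lpr_dt (K43.f137918 IH) (Lpr_et (f36033 IH) (Lpr_dt (K6.f137910 IH) (Lpr_et (K43.f133022 IH) (Lpr_dt (K43.f133031 IH) (Lpn (LP (LK LD1_c14 LD2_c59 LD3_c25))))))))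
theorem f589747 : Led Lsl_ff (LP (LK LD1_c23 LD2_c18 LD3_c46)) = (LP (LK LD1_c16 LD2_c26 LD3_c9)) :=
  Lgr Lrot72 (Lpr_et (f481680 IH) (Lpr_ft (f589741 IH) (Lpe (f587553 IH) (Lpe (K45.f574379 IH) (Lpe (f137919 IH) (Lpn (LP (LK LD1_c16 LD2_c26 LD3_c9))))))))
theorem f964911 : Led Lsl_af (LP (LK LD1_c25 LD2_c3 LD3_c0)) = (LP (LK LD1_c23 LD2_c18 LD3_c46)) :=
  Lgr Lrot31 (Lpe (f764486 IH) (Lpr_gf (f964909 IH) (Lpe (f589747 IH) (Lpn (LP (LK LD1_c23 LD2_c18 LD3_c46))))))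
theorem f589749 : Led Lsl_ff (LP (LK LD1_c13 LD2_c49 LD3_c37)) = (LP (LK LD1_c23 LD2_c14 LD3_c36)) :=
  Lgr Lrot3 (Lpr_ft (f589741 IH) (Lpn (LP (LK LD1_c23 LD2_c14 LD3_c36))))
theorem f589740 : Led Lsl_et (LP (LK LD1_c13 LD2_c49 LD3_c37)) = (LP (LK LD1_c23 LD2_c18 LD3_c46)) :=
  Lre_e IH (LK LD1_c13 LD2_c49 LD3_c37) (LK LD1_c23 LD2_c18 LD3_c46) Lrfl Lrfl
theorem f574295 : Led Lsl_bt (LP (LK LD1_c12 LD2_c22 LD3_c26)) = (LP (LK LD1_c14 LD2_c59 LD3_c25)) :=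
  Lgr Lrot127 (Lpr_bf (K43.f574287 IH) (Lpn (LP (LK LD1_c14 LD2_c59 LD3_c25))))
theorem f574370 : Led Lsl_ft (LP (LK LD1_c14 LD2_c59 LD3_c25)) = (LP (LK LD1_c15 LD2_c10 LD3_c22)) :=
  Lgr Lrot75 (Lpe (f574295 IH) (Lpr_ff (K43.f574368 IH) (Lpe (K42.f569511 IH) (Lpn (LP (LK LD1_c15 LD2_c10 LD3_c22))))))
theorem f589755 : Led Lsl_ft (LP (LK LD1_c23 LD2_c18 LD3_c46)) = (LP (LK LD1_c16 LD2_c26 LD3_c9)) :=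
  Lgr Lrot86 (Lpe (f589740 IH) (Lpr_ff (f589749 IH) (Lpe (f587547 IH) (Lpe (f574370 IH) (Lpe (K43.f138690 IH) (Lpn (LP (LK LD1_c16 LD2_c26 LD3_c9))))))))
theorem f138673 : Led Lsl_ft (LP (LK LD1_c8 LD2_c47 LD3_c2)) = (LP (LK LD1_c16 LD2_c26 LD3_c10)) :=
  Lre_f IH (LK LD1_c8 LD2_c47 LD3_c2) (LK LD1_c16 LD2_c26 LD3_c10) Lrfl Lrfl
theorem f589759 : Led Lsl_df (LP (LK LD1_c23 LD2_c18 LD3_c46)) = (LP (LK LD1_c16 LD2_c26 LD3_c10)) :=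
  Lgr Lrot78 (Lpr_ft (f589755 IH) (Lpr_dt (K43.f137918 IH) (Lpr_ft (f138673 IH) (Lpn (LP (LK LD1_c16 LD2_c26 LD3_c10))))))
theorem f964919 : Led Lsl_dt (LP (LK LD1_c25 LD2_c3 LD3_c0)) = (LP (LK LD1_c16 LD2_c24 LD3_c21)) :=
  Lgr Lrot44 (Lpr_af (f964911 IH) (Lpr_df (f589759 IH) (Lpr_af (K43.f138670 IH) (Lpn (LP (LK LD1_c16 LD2_c24 LD3_c21))))))
theorem f964929 : Led Lsl_df (LP (LK LD1_c25 LD2_c3 LD3_c0)) = (LP (LK LD1_c16 LD2_c24 LD3_c21)) :=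
  Lgr Lrot38 (Lpr_dt (f964919 IH) (Lpn (LP (LK LD1_c16 LD2_c24 LD3_c21))))
theorem f877935 : Led Lsl_gt (LP (LK LD1_c25 LD2_c3 LD3_c0)) = (LP (LK LD1_c25 LD2_c0 LD3_c7)) :=
  Lgr Lrot46 (Lpe (f764486 IH) (Lpr_ft (f877925 IH) (Lpr_at (f81551 IH) (Lpn (LP (LK LD1_c25 LD2_c0 LD3_c7))))))
theorem f877778 : Led Lsl_ff (LP (LK LD1_c24 LD2_c57 LD3_c21)) = (LP (LK LD1_c24 LD2_c54 LD3_c38)) :=
  Lgr Lrot3 (Lpr_ft (K71.f877770 IH) (Lpn (LP (LK LD1_c24 LD2_c54 LD3_c38))))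
theorem f877045 : Led Lsl_ct (LP (LK LD1_c24 LD2_c57 LD3_c21)) = (LP (LK LD1_c15 LD2_c8 LD3_c29)) :=
  Lre_c IH (LK LD1_c24 LD2_c57 LD3_c21) (LK LD1_c15 LD2_c8 LD3_c29) Lrfl Lrfl
theorem f877780 : Led Lsl_ct (LP (LK LD1_c15 LD2_c6 LD3_c30)) = (LP (LK LD1_c24 LD2_c54 LD3_c38)) :=
  Lre_c IH (LK LD1_c15 LD2_c6 LD3_c30) (LK LD1_c24 LD2_c54 LD3_c38) Lrfl Lrfl
theorem f877781 : Led Lsl_ft (LP (LK LD1_c15 LD2_c8 LD3_c29)) = (LP (LK LD1_c15 LD2_c6 LD3_c30)) :=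
  Lgr Lrot4 (Lpe (f877045 IH) (Lpr_ff (f877778 IH) (Lpe (f877780 IH) (Lpn (LP (LK LD1_c15 LD2_c6 LD3_c30))))))
theorem f689299 : Led Lsl_at (LP (LK LD1_c15 LD2_c6 LD3_c30)) = (LP (LK LD1_c8 LD2_c1 LD3_c24)) :=
  Lre_a IH (LK LD1_c15 LD2_c6 LD3_c30) (LK LD1_c8 LD2_c1 LD3_c24) Lrfl Lrfl
theorem f70651 : Led Lsl_gt (LP (LK LD1_c15 LD2_c6 LD3_c29)) = (LP (LK LD1_c8 LD2_c1 LD3_c24)) :=
  Lre_g IH (LK LD1_c15 LD2_c6 LD3_c29) (LK LD1_c8 LD2_c1 LD3_c24) Lrfl Lrfl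
theorem f877786 : Led Lsl_gt (LP (LK LD1_c15 LD2_c8 LD3_c29)) = (LP (LK LD1_c15 LD2_c6 LD3_c29)) :=
  Lgr Lrot5 (Lpr_ft (f877781 IH) (Lpr_at (f689299 IH) (Lpe (f70651 IH) (Lpn (LP (LK LD1_c15 LD2_c6 LD3_c29))))))
theorem f466675 : Led Lsl_gt (LP (LK LD1_c7 LD2_c9 LD3_c41)) = (LP (LK LD1_c13 LD2_c33 LD3_c52)) :=
  Lre_g IH (LK LD1_c7 LD2_c9 LD3_c41) (LK LD1_c13 LD2_c33 LD3_c52) Lrfl Lrfl
theorem f606829 : Led Lsl_gf (LP (LK LD1_c21 LD2_c11 LD3_c55)) = (LP (LK LD1_c13 LD2_c33 LD3_c52)) :=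
  Lgr Lrot76 (Lpr_af (K47.f606819 IH) (Lpe (K47.f519190 IH) (Lpr_gt (f466675 IH) (Lpn (LP (LK LD1_c13 LD2_c33 LD3_c52))))))
theorem f403079 : Led Lsl_et (LP (LK LD1_c4 LD2_c23 LD3_c3)) = (LP (LK LD1_c8 LD2_c43 LD3_c53)) :=
  Lre_e IH (LK LD1_c4 LD2_c23 LD3_c3) (LK LD1_c8 LD2_c43 LD3_c53) Lrfl Lrfl
theorem f225109 : Led Lsl_et (LP (LK LD1_c16 LD2_c20 LD3_c22)) = (LP (LK LD1_c8 LD2_c43 LD3_c28)) :=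
  Lre_e IH (LK LD1_c16 LD2_c20 LD3_c22) (LK LD1_c8 LD2_c43 LD3_c28) Lrfl Lrfl
theorem f403081 : Led Lsl_dt (LP (LK LD1_c26 LD2_c18 LD3_c22)) = (LP (LK LD1_c16 LD2_c20 LD3_c22)) :=
  Lre_d IH (LK LD1_c26 LD2_c18 LD3_c22) (LK LD1_c16 LD2_c20 LD3_c22) Lrfl Lrfl
theorem f403082 : Led Lsl_et (LP (LK LD1_c16 LD2_c21 LD3_c2)) = (LP (LK LD1_c26 LD2_c18 LD3_c22)) :=
  Lgr Lrot71 (Lpe (K43.f403080 IH) (Lpe (f403079 IH) (Lpr_df (K45.f403073 IH) (Lpe (f225109 IH) (Lpe (f403081 IH) (Lpn (LP (LK LD1_c26 LD2_c18 LD3_c22))))))))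
theorem f403084 : Led Lsl_et (LP (LK LD1_c8 LD2_c43 LD3_c28)) = (LP (LK LD1_c16 LD2_c20 LD3_c22)) :=
  Lre_e IH (LK LD1_c8 LD2_c43 LD3_c28) (LK LD1_c16 LD2_c20 LD3_c22) Lrfl Lrfl
theorem f553360 : Led Lsl_et (LP (LK LD1_c22 LD2_c51 LD3_c0)) = (LP (LK LD1_c13 LD2_c30 LD3_c7)) :=
  Lre_e IH (LK LD1_c22 LD2_c51 LD3_c0) (LK LD1_c13 LD2_c30 LD3_c7) Lrfl Lrfl
theorem f553387 : Led Lsl_at (LP (LK LD1_c16 LD2_c20 LD3_c22)) = (LP (LK LD1_c22 LD2_c51 LD3_c0)) :=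
  Lgr Lrot80 (Lpe (f403084 IH) (Lpr_af (K39.f553377 IH) (Lpe (f553360 IH) (Lpn (LP (LK LD1_c22 LD2_c51 LD3_c0))))))
theorem f553391 : Led Lsl_ft (LP (LK LD1_c26 LD2_c18 LD3_c23)) = (LP (LK LD1_c16 LD2_c20 LD3_c22)) :=
  Lre_f IH (LK LD1_c26 LD2_c18 LD3_c23) (LK LD1_c16 LD2_c20 LD3_c22) Lrfl Lrfl
theorem f440176 : Led Lsl_et (LP (LK LD1_c7 LD2_c7 LD3_c40)) = (LP (LK LD1_c3 LD2_c33 LD3_c25)) :=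
  Lre_e IH (LK LD1_c7 LD2_c7 LD3_c40) (LK LD1_c3 LD2_c33 LD3_c25) Lrfl Lrfl
theorem f511842 : Led Lsl_et (LP (LK LD1_c13 LD2_c30 LD3_c7)) = (LP (LK LD1_c22 LD2_c51 LD3_c0)) :=
  Lre_e IH (LK LD1_c13 LD2_c30 LD3_c7) (LK LD1_c22 LD2_c51 LD3_c0) Lrfl Lrfl
theorem f480611 : Led Lsl_et (LP (LK LD1_c13 LD2_c40 LD3_c46)) = (LP (LK LD1_c23 LD2_c6 LD3_c19)) :=
  Lre_e IH (LK LD1_c13 LD2_c40 LD3_c46) (LK LD1_c23 LD2_c6 LD3_c19) Lrfl Lrfl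
theorem f511843 : Led Lsl_gf (LP (LK LD1_c22 LD2_c51 LD3_c0)) = (LP (LK LD1_c23 LD2_c6 LD3_c19)) :=
  Lgr Lrot141 (Lpe (f511842 IH) (Lpr_dt (K39.f98109 IH) (Lpr_gt (K39.f97381 IH) (Lpe (K39.f98100 IH) (Lpr_et (f440176 IH) (Lpr_gt (K33.f96478 IH) (Lpe (K33.f511828 IH) (Lpr_gt (K33.f511831 IH) (Lpe (K33.f480603 IH) (Lpr_et (f480611 IH) (Lpn (LP (LK LD1_c23 LD2_c6 LD3_c19)))))))))))))
theorem f553392 : Led Lsl_gt (LP (LK LD1_c26 LD2_c18 LD3_c23)) = (LP (LK LD1_c23 LD2_c6 LD3_c19)) :=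
  Lgr Lrot5 (Lpr_ft (f553391 IH) (Lpr_at (f553387 IH) (Lpr_gf (f511843 IH) (Lpn (LP (LK LD1_c23 LD2_c6 LD3_c19))))))
theorem f463758 : Led Lsl_et (LP (LK LD1_c23 LD2_c6 LD3_c19)) = (LP (LK LD1_c13 LD2_c40 LD3_c46)) :=
  Lre_e IH (LK LD1_c23 LD2_c6 LD3_c19) (LK LD1_c13 LD2_c40 LD3_c46) Lrfl Lrfl
theorem f466639 : Led Lsl_et (LP (LK LD1_c13 LD2_c29 LD3_c11)) = (LP (LK LD1_c22 LD2_c49 LD3_c32)) :=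
  Lre_e IH (LK LD1_c13 LD2_c29 LD3_c11) (LK LD1_c22 LD2_c49 LD3_c32) Lrfl Lrfl
theorem f480607 : Led Lsl_df (LP (LK LD1_c23 LD2_c6 LD3_c19)) = (LP (LK LD1_c22 LD2_c49 LD3_c32)) :=
  Lgr Lrot70 (Lpr_et (f463758 IH) (Lpr_dt (K33.f480603 IH) (Lpr_et (K61.f466621 IH) (Lpe (K28.f466633 IH) (Lpr_et (f466639 IH) (Lpn (LP (LK LD1_c22 LD2_c49 LD3_c32))))))))
theorem f441993 : Led Lsl_et (LP (LK LD1_c22 LD2_c49 LD3_c32)) = (LP (LK LD1_c13 LD2_c29 LD3_c11)) :=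
  Lre_e IH (LK LD1_c22 LD2_c49 LD3_c32) (LK LD1_c13 LD2_c29 LD3_c11) Lrfl Lrfl
theorem f486654 : Led Lsl_gt (LP (LK LD1_c13 LD2_c29 LD3_c11)) = (LP (LK LD1_c7 LD2_c9 LD3_c15)) :=
  Lgr Lrot46 (Lpe (K28.f96953 IH) (Lpe (K34.f467947 IH) (Lpr_at (K34.f486633 IH) (Lpn (LP (LK LD1_c7 LD2_c9 LD3_c15))))))
theorem f486614 : Led Lsl_dt (LP (LK LD1_c7 LD2_c9 LD3_c15)) = (LP (LK LD1_c3 LD2_c34 LD3_c4)) :=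
  Lre_d IH (LK LD1_c7 LD2_c9 LD3_c15) (LK LD1_c3 LD2_c34 LD3_c4) Lrfl Lrfl
theorem f486628 : Led Lsl_et (LP (LK LD1_c22 LD2_c56 LD3_c53)) = (LP (LK LD1_c13 LD2_c33 LD3_c52)) :=
  Lre_e IH (LK LD1_c22 LD2_c56 LD3_c53) (LK LD1_c13 LD2_c33 LD3_c52) Lrfl Lrfl
theorem f553396 : Led Lsl_df (LP (LK LD1_c26 LD2_c18 LD3_c23)) = (LP (LK LD1_c22 LD2_c56 LD3_c53)) :=
  Lgr Lrot170 (Lpr_gt (f553392 IH) (Lpr_df (f480607 IH) (Lpr_et (f441993 IH) (Lpr_gt (f486654 IH) (Lpr_dt (f486614 IH) (Lpe (K34.f486621 IH) (Lpe (K41.f128140 IH) (Lpr_et (K41.f466656 IH) (Lpr_gt (f466675 IH) (Lpe (f486628 IH) (Lpn (LP (LK LD1_c22 LD2_c56 LD3_c53)))))))))))))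
theorem f225110 : Led Lsl_dt (LP (LK LD1_c16 LD2_c20 LD3_c22)) = (LP (LK LD1_c26 LD2_c18 LD3_c22)) :=
  Lre_d IH (LK LD1_c16 LD2_c20 LD3_c22) (LK LD1_c26 LD2_c18 LD3_c22) Lrfl Lrfl
theorem f553401 : Led Lsl_ft (LP (LK LD1_c26 LD2_c18 LD3_c22)) = (LP (LK LD1_c22 LD2_c56 LD3_c53)) :=
  Lgr Lrot54 (Lpe (f225110 IH) (Lpe (f553391 IH) (Lpr_df (f553396 IH) (Lpn (LP (LK LD1_c22 LD2_c56 LD3_c53))))))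
theorem f579488 : Led Lsl_ff (LP (LK LD1_c16 LD2_c24 LD3_c38)) = (LP (LK LD1_c13 LD2_c33 LD3_c52)) :=
  Lgr Lrot72 (Lpe (K39.f70495 IH) (Lpr_ft (K43.f579480 IH) (Lpr_et (f403082 IH) (Lpr_ft (f553401 IH) (Lpr_et (f486628 IH) (Lpn (LP (LK LD1_c13 LD2_c33 LD3_c52))))))))
theorem f540606 : Led Lsl_at (LP (LK LD1_c16 LD2_c24 LD3_c38)) = (LP (LK LD1_c13 LD2_c33 LD3_c53)) :=
  Lgr Lrot80 (Lpe (K39.f70517 IH) (Lpr_af (K39.f150084 IH) (Lpr_ef (K41.f540601 IH) (Lpn (LP (LK LD1_c13 LD2_c33 LD3_c53))))))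
theorem f606831 : Led Lsl_gt (LP (LK LD1_c21 LD2_c11 LD3_c55)) = (LP (LK LD1_c13 LD2_c33 LD3_c53)) :=
  Lgr Lrot46 (Lpr_gf (f606829 IH) (Lpe (f579488 IH) (Lpr_at (f540606 IH) (Lpn (LP (LK LD1_c13 LD2_c33 LD3_c53))))))
theorem f59777 : Led Lsl_dt (LP (LK LD1_c21 LD2_c12 LD3_c61)) = (LP (LK LD1_c21 LD2_c11 LD3_c55)) :=
  Lgr Lrot79 (Lpe (K46.f59776 IH) (Lpr_df (K40.f59744 IH) (Lpe (K47.f36825 IH) (Lpn (LP (LK LD1_c21 LD2_c11 LD3_c55))))))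
theorem f137927 : Led Lsl_et (LP (LK LD1_c4 LD2_c24 LD3_c47)) = (LP (LK LD1_c8 LD2_c47 LD3_c2)) :=
  Lre_e IH (LK LD1_c4 LD2_c24 LD3_c47) (LK LD1_c8 LD2_c47 LD3_c2) Lrfl Lrfl
theorem f606835 : Led Lsl_gf (LP (LK LD1_c12 LD2_c6 LD3_c53)) = (LP (LK LD1_c8 LD2_c47 LD3_c2)) :=
  Lgr Lrot141 (Lpe (K68.f59783 IH) (Lpr_dt (f59777 IH) (Lpr_gt (f606831 IH) (Lpe (K41.f540591 IH) (Lpr_et (K41.f150046 IH) (Lpr_gt (K11.f202902 IH) (Lpr_dt (K36.f80700 IH) (Lpr_gt (K32.f202805 IH) (Lpe (K6.f137910 IH) (Lpr_et (f137927 IH) (Lpn (LP (LK LD1_c8 LD2_c47 LD3_c2)))))))))))))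
theorem f138031 : Led Lsl_ef (LP (LK LD1_c16 LD2_c26 LD3_c6)) = (LP (LK LD1_c16 LD2_c24 LD3_c21)) :=
  Lgr Lrot21 (Lpr_ft (K8.f138030 IH) (Lpr_et (K39.f36042 IH) (Lpr_ft (K8.f138026 IH) (Lpr_et (K6.f81052 IH) (Lpr_ft (K8.f81037 IH) (Lpn (LP (LK LD1_c16 LD2_c24 LD3_c21))))))))
theorem f138665 : Led Lsl_at (LP (LK LD1_c16 LD2_c26 LD3_c10)) = (LP (LK LD1_c16 LD2_c24 LD3_c21)) :=
  Lgr Lrot80 (Lpr_ef (K43.f138663 IH) (Lpe (K8.f138067 IH) (Lpr_ef (f138031 IH) (Lpn (LP (LK LD1_c16 LD2_c24 LD3_c21))))))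
theorem f606837 : Led Lsl_gt (LP (LK LD1_c12 LD2_c6 LD3_c53)) = (LP (LK LD1_c16 LD2_c24 LD3_c21)) :=
  Lgr Lrot46 (Lpr_gf (f606835 IH) (Lpr_ft (f138673 IH) (Lpr_at (f138665 IH) (Lpn (LP (LK LD1_c16 LD2_c24 LD3_c21))))))
theorem f403085 : Led Lsl_ef (LP (LK LD1_c16 LD2_c21 LD3_c2)) = (LP (LK LD1_c26 LD2_c18 LD3_c22)) :=
  Lgr Lrot88 (Lpr_et (f403082 IH) (Lpn (LP (LK LD1_c26 LD2_c18 LD3_c22))))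
theorem f553403 : Led Lsl_ff (LP (LK LD1_c26 LD2_c18 LD3_c22)) = (LP (LK LD1_c22 LD2_c56 LD3_c53)) :=
  Lgr Lrot3 (Lpr_ft (f553401 IH) (Lpn (LP (LK LD1_c22 LD2_c56 LD3_c53))))
theorem f553400 : Led Lsl_et (LP (LK LD1_c13 LD2_c33 LD3_c52)) = (LP (LK LD1_c22 LD2_c56 LD3_c53)) :=
  Lre_e IH (LK LD1_c13 LD2_c33 LD3_c52) (LK LD1_c22 LD2_c56 LD3_c53) Lrfl Lrfl
theorem f579496 : Led Lsl_ft (LP (LK LD1_c16 LD2_c24 LD3_c38)) = (LP (LK LD1_c13 LD2_c33 LD3_c52)) :=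
  Lgr Lrot86 (Lpe (K39.f70517 IH) (Lpr_ff (K43.f579490 IH) (Lpr_ef (f403085 IH) (Lpr_ff (f553403 IH) (Lpe (f553400 IH) (Lpn (LP (LK LD1_c13 LD2_c33 LD3_c52))))))))
theorem f150112 : Led Lsl_ft (LP (LK LD1_c16 LD2_c24 LD3_c39)) = (LP (LK LD1_c8 LD2_c46 LD3_c18)) :=
  Lre_f IH (LK LD1_c16 LD2_c24 LD3_c39) (LK LD1_c8 LD2_c46 LD3_c18) Lrfl Lrfl
theorem f606196 : Led Lsl_df (LP (LK LD1_c16 LD2_c24 LD3_c39)) = (LP (LK LD1_c13 LD2_c33 LD3_c52)) :=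
  Lgr Lrot78 (Lpr_ft (f150112 IH) (Lpr_dt (K39.f70494 IH) (Lpr_ft (f579496 IH) (Lpn (LP (LK LD1_c13 LD2_c33 LD3_c52))))))
theorem f606202 : Led Lsl_dt (LP (LK LD1_c16 LD2_c24 LD3_c39)) = (LP (LK LD1_c13 LD2_c33 LD3_c52)) :=
  Lgr Lrot42 (Lpr_df (f606196 IH) (Lpn (LP (LK LD1_c13 LD2_c33 LD3_c52))))
theorem f964931 : Led Lsl_ef (LP (LK LD1_c15 LD2_c6 LD3_c29)) = (LP (LK LD1_c16 LD2_c24 LD3_c39)) :=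
  Lgr Lrot17 (Lpe (f877786 IH) (Lpe (f81567 IH) (Lpr_dt (f81565 IH) (Lpe (f877935 IH) (Lpr_df (f964929 IH) (Lpe (f606837 IH) (Lpe (K68.f59783 IH) (Lpr_dt (f59777 IH) (Lpr_gf (f606829 IH) (Lpe (f606202 IH) (Lpn (LP (LK LD1_c16 LD2_c24 LD3_c39)))))))))))))
theorem f876987 : Led Lsl_dt (LP (LK LD1_c8 LD2_c1 LD3_c24)) = (LP (LK LD1_c15 LD2_c6 LD3_c32)) :=
  Lre_d IH (LK LD1_c8 LD2_c1 LD3_c24) (LK LD1_c15 LD2_c6 LD3_c32) Lrfl Lrfl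
theorem f964939 : Led Lsl_gt (LP (LK LD1_c15 LD2_c6 LD3_c32)) = (LP (LK LD1_c13 LD2_c30 LD3_c15)) :=
  Lgr Lrot139 (Lpe (f876987 IH) (Lpe (f70651 IH) (Lpr_ef (f964931 IH) (Lpr_dt (f606202 IH) (Lpe (f466675 IH) (Lpe (K41.f466674 IH) (Lpr_et (K41.f466673 IH) (Lpe (K34.f466654 IH) (Lpe (K34.f466593 IH) (Lpr_dt (K43.f488630 IH) (Lpn (LP (LK LD1_c13 LD2_c30 LD3_c15)))))))))))))
def v35723 : LQ := Led Lsl_ft (LP (LK LD1_c8 LD2_c2 LD3_c35))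
theorem f877052 : Led Lsl_ft (LP (LK LD1_c8 LD2_c2 LD3_c35)) = v35723 :=
  Lrfl
theorem f877055 : Led Lsl_ff (LP (LK LD1_c8 LD2_c2 LD3_c35)) = v35723 :=
  Lgr Lrot3 (Lpr_ft (f877052 IH) (Lpn v35723))
theorem f877057 : Led Lsl_dt K68.v12311 = v35723 :=
  Lgr Lrot60 (Lpe (K68.f689307 IH) (Lpe (K61.f30630 IH) (Lpr_ff (f877055 IH) (Lpn v35723))))
theorem f877113 : v35723 = (LP (LK LD1_c8 LD2_c1 LD3_c25)) :=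
  Lefun (Lecon (f877057 IH) (K68.f877095 IH).symm) (K40.f30107 IH)
theorem f272919 : Led Lsl_bt (LP (LK LD1_c15 LD2_c6 LD3_c32)) = (LP (LK LD1_c8 LD2_c1 LD3_c25)) :=
  Lre_b IH (LK LD1_c15 LD2_c6 LD3_c32) (LK LD1_c8 LD2_c1 LD3_c25) Lrfl Lrfl
theorem f38757 : Led Lsl_bt (LP (LK LD1_c8 LD2_c2 LD3_c35)) = (LP (LK LD1_c15 LD2_c8 LD3_c31)) :=
  Lre_b IH (LK LD1_c8 LD2_c2 LD3_c35) (LK LD1_c15 LD2_c8 LD3_c31) Lrfl Lrfl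
theorem f877947 : Led Lsl_ff (LP (LK LD1_c15 LD2_c6 LD3_c32)) = (LP (LK LD1_c15 LD2_c8 LD3_c31)) :=
  Lgr Lrot25 (Lpr_bt (f272919 IH) (Lpq (f877113 IH) (Lpe (f877055 IH) (Lpr_bt (f38757 IH) (Lpn (LP (LK LD1_c15 LD2_c8 LD3_c31)))))))
theorem f877949 : Led Lsl_ft (LP (LK LD1_c15 LD2_c6 LD3_c32)) = (LP (LK LD1_c15 LD2_c8 LD3_c31)) :=
  Lgr Lrot48 (Lpr_ff (f877947 IH) (Lpn (LP (LK LD1_c15 LD2_c8 LD3_c31))))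
theorem f480612 : Led Lsl_gt (LP (LK LD1_c13 LD2_c30 LD3_c15)) = (LP (LK LD1_c22 LD2_c51 LD3_c6)) :=
  Lre_g IH (LK LD1_c13 LD2_c30 LD3_c15) (LK LD1_c22 LD2_c51 LD3_c6) Lrfl Lrfl
theorem f964941 : Led Lsl_at (LP (LK LD1_c15 LD2_c8 LD3_c31)) = (LP (LK LD1_c22 LD2_c51 LD3_c6)) :=
  Lgr Lrot26 (Lpe (f877949 IH) (Lpr_gt (f964939 IH) (Lpr_gt (f480612 IH) (Lpn (LP (LK LD1_c22 LD2_c51 LD3_c6))))))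
theorem f36023 : Led Lsl_gt (LP (LK LD1_c16 LD2_c25 LD3_c59)) = (LP (LK LD1_c8 LD2_c46 LD3_c58)) :=
  Lre_g IH (LK LD1_c16 LD2_c25 LD3_c59) (LK LD1_c8 LD2_c46 LD3_c58) Lrfl Lrfl
theorem f514278 : Led Lsl_bt (LP (LK LD1_c13 LD2_c43 LD3_c41)) = (LP (LK LD1_c23 LD2_c10 LD3_c12)) :=
  Lre_b IH (LK LD1_c13 LD2_c43 LD3_c41) (LK LD1_c23 LD2_c10 LD3_c12) Lrfl Lrfl
theorem f578558 : Led Lsl_dt (LP (LK LD1_c8 LD2_c47 LD3_c6)) = (LP (LK LD1_c13 LD2_c43 LD3_c41)) :=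
  Lgr Lrot79 (Lpe (K43.f81731 IH) (Lpr_df (K62.f578556 IH) (Lpe (f514278 IH) (Lpn (LP (LK LD1_c13 LD2_c43 LD3_c41))))))
theorem f513101 : Led Lsl_ff (LP (LK LD1_c7 LD2_c12 LD3_c38)) = (LP (LK LD1_c7 LD2_c19 LD3_c55)) :=
  Lgr Lrot25 (Lpr_bt (K33.f441666 IH) (Lpr_ft (K33.f513099 IH) (Lpr_bt (K33.f511793 IH) (Lpn (LP (LK LD1_c7 LD2_c19 LD3_c55))))))
theorem f512060 : Led Lsl_ff (LP (LK LD1_c3 LD2_c32 LD3_c22)) = (LP (LK LD1_c3 LD2_c36 LD3_c8)) :=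
  Lgr Lrot23 (Lpe (K33.f464567 IH) (Lpr_ft (K33.f512056 IH) (Lpe (K28.f466267 IH) (Lpn (LP (LK LD1_c3 LD2_c36 LD3_c8))))))
theorem f511833 : Led Lsl_et (LP (LK LD1_c7 LD2_c19 LD3_c55)) = (LP (LK LD1_c7 LD2_c18 LD3_c16)) :=
  Lgr Lrot121 (Lpr_dt (K33.f511713 IH) (Lpe (K33.f96478 IH) (Lpe (K28.f96477 IH) (Lpr_et (K28.f96476 IH) (Lpr_gf (K3.f96329 IH) (Lpe (K28.f11561 IH) (Lpr_dt (K28.f11562 IH) (Lpe (K28.f467970 IH) (Lpe (K28.f4441 IH) (Lpe (K48.f97304 IH) (Lpn (LP (LK LD1_c7 LD2_c18 LD3_c16)))))))))))))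
theorem f511835 : Led Lsl_ef (LP (LK LD1_c7 LD2_c19 LD3_c55)) = (LP (LK LD1_c7 LD2_c18 LD3_c16)) :=
  Lgr Lrot88 (Lpr_et (f511833 IH) (Lpn (LP (LK LD1_c7 LD2_c18 LD3_c16))))
theorem f514262 : Led Lsl_ft (LP (LK LD1_c7 LD2_c5 LD3_c47)) = (LP (LK LD1_c7 LD2_c18 LD3_c16)) :=
  Lgr Lrot86 (Lpe (K47.f464569 IH) (Lpr_ff (f512060 IH) (Lpe (K33.f108419 IH) (Lpr_ff (f513101 IH) (Lpr_ef (f511835 IH) (Lpn (LP (LK LD1_c7 LD2_c18 LD3_c16))))))))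
theorem f514264 : Led Lsl_ff (LP (LK LD1_c7 LD2_c5 LD3_c47)) = (LP (LK LD1_c7 LD2_c18 LD3_c16)) :=
  Lgr Lrot3 (Lpr_ft (f514262 IH) (Lpn (LP (LK LD1_c7 LD2_c18 LD3_c16))))
theorem f486520 : Led Lsl_gt (LP (LK LD1_c3 LD2_c38 LD3_c56)) = (LP (LK LD1_c7 LD2_c12 LD3_c41)) :=
  Lgr Lrot137 (Lpe (K33.f468008 IH) (Lpr_dt (K28.f467091 IH) (Lpe (K29.f467086 IH) (Lpr_df (K30.f482612 IH) (Lpe (K30.f482440 IH) (Lpe (K29.f467513 IH) (Lpe (K43.f477586 IH) (Lpr_dt (K33.f97100 IH) (Lpe (K43.f478167 IH) (Lpr_df (K41.f478149 IH) (Lpn (LP (LK LD1_c7 LD2_c12 LD3_c41)))))))))))))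
theorem f514266 : Led Lsl_at (LP (LK LD1_c7 LD2_c5 LD3_c47)) = (LP (LK LD1_c7 LD2_c12 LD3_c41)) :=
  Lgr Lrot26 (Lpr_ff (f514264 IH) (Lpr_gt (K48.f97304 IH) (Lpr_gt (f486520 IH) (Lpn (LP (LK LD1_c7 LD2_c12 LD3_c41))))))
theorem f514270 : Led Lsl_af (LP (LK LD1_c13 LD2_c26 LD3_c58)) = (LP (LK LD1_c7 LD2_c15 LD3_c13)) :=
  Lgr Lrot117 (Lpr_dt (K60.f479584 IH) (Lpr_at (f514266 IH) (Lpe (K41.f478149 IH) (Lpn (LP (LK LD1_c7 LD2_c15 LD3_c13))))))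
theorem f486519 : Led Lsl_et (LP (LK LD1_c13 LD2_c26 LD3_c58)) = (LP (LK LD1_c22 LD2_c46 LD3_c29)) :=
  Lre_e IH (LK LD1_c13 LD2_c26 LD3_c58) (LK LD1_c22 LD2_c46 LD3_c29) Lrfl Lrfl
theorem f514274 : Led Lsl_at (LP (LK LD1_c22 LD2_c46 LD3_c29)) = (LP (LK LD1_c13 LD2_c43 LD3_c41)) :=
  Lgr Lrot80 (Lpe (f486519 IH) (Lpr_af (f514270 IH) (Lpe (K43.f478171 IH) (Lpn (LP (LK LD1_c13 LD2_c43 LD3_c41))))))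
theorem f514276 : Led Lsl_af (LP (LK LD1_c22 LD2_c46 LD3_c29)) = (LP (LK LD1_c13 LD2_c43 LD3_c41)) :=
  Lgr Lrot0 (Lpr_at (f514274 IH) (Lpn (LP (LK LD1_c13 LD2_c43 LD3_c41))))
theorem f578564 : Led Lsl_af (LP (LK LD1_c8 LD2_c47 LD3_c6)) = (LP (LK LD1_c13 LD2_c26 LD3_c57)) :=
  Lgr Lrot117 (Lpr_dt (f578558 IH) (Lpe (f514276 IH) (Lpr_dt (K36.f479587 IH) (Lpn (LP (LK LD1_c13 LD2_c26 LD3_c57))))))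
theorem f99417 : Led Lsl_gt (LP (LK LD1_c8 LD2_c47 LD3_c7)) = (LP (LK LD1_c4 LD2_c24 LD3_c49)) :=
  Lre_g IH (LK LD1_c8 LD2_c47 LD3_c7) (LK LD1_c4 LD2_c24 LD3_c49) Lrfl Lrfl
theorem f578578 : Led Lsl_ft (LP (LK LD1_c8 LD2_c47 LD3_c7)) = (LP (LK LD1_c13 LD2_c26 LD3_c57)) :=
  Lgr Lrot2 (Lpr_gt (f99417 IH) (Lpr_gt (K43.f70527 IH) (Lpr_af (f578564 IH) (Lpn (LP (LK LD1_c13 LD2_c26 LD3_c57))))))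
theorem f578585 : Led Lsl_ff (LP (LK LD1_c8 LD2_c47 LD3_c7)) = (LP (LK LD1_c13 LD2_c26 LD3_c57)) :=
  Lgr Lrot3 (Lpr_ft (f578578 IH) (Lpn (LP (LK LD1_c13 LD2_c26 LD3_c57))))
theorem f540577 : Led Lsl_gf (LP (LK LD1_c8 LD2_c47 LD3_c9)) = (LP (LK LD1_c13 LD2_c26 LD3_c57)) :=
  Lgr Lrot76 (Lpe (K2.f35920 IH) (Lpe (K2.f36027 IH) (Lpr_gt (K36.f540575 IH) (Lpn (LP (LK LD1_c13 LD2_c26 LD3_c57))))))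
theorem f35943 : Led Lsl_gt (LP (LK LD1_c8 LD2_c47 LD3_c9)) = (LP (LK LD1_c16 LD2_c25 LD3_c59)) :=
  Lre_g IH (LK LD1_c8 LD2_c47 LD3_c9) (LK LD1_c16 LD2_c25 LD3_c59) Lrfl Lrfl
theorem f578592 : Led Lsl_at (LP (LK LD1_c8 LD2_c47 LD3_c7)) = (LP (LK LD1_c16 LD2_c25 LD3_c59)) :=
  Lgr Lrot26 (Lpr_ff (f578585 IH) (Lpe (f540577 IH) (Lpr_gt (f35943 IH) (Lpn (LP (LK LD1_c16 LD2_c25 LD3_c59))))))
theorem f578576 : Led Lsl_at (LP (LK LD1_c8 LD2_c47 LD3_c6)) = (LP (LK LD1_c13 LD2_c26 LD3_c57)) :=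
  Lgr Lrot100 (Lpr_af (f578564 IH) (Lpn (LP (LK LD1_c13 LD2_c26 LD3_c57))))
theorem f578596 : Led Lsl_ff (LP (LK LD1_c8 LD2_c47 LD3_c6)) = (LP (LK LD1_c16 LD2_c25 LD3_c59)) :=
  Lgr Lrot30 (Lpr_at (f578576 IH) (Lpe (f578585 IH) (Lpr_at (f578592 IH) (Lpn (LP (LK LD1_c16 LD2_c25 LD3_c59))))))
theorem f514173 : Led Lsl_bt (LP (LK LD1_c7 LD2_c12 LD3_c40)) = (LP (LK LD1_c13 LD2_c39 LD3_c0)) :=
  Lre_b IH (LK LD1_c7 LD2_c12 LD3_c40) (LK LD1_c13 LD2_c39 LD3_c0) Lrfl Lrfl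
theorem f578547 : Led Lsl_et (LP (LK LD1_c8 LD2_c47 LD3_c6)) = (LP (LK LD1_c7 LD2_c12 LD3_c40)) :=
  Lgr Lrot74 (Lpe (K43.f81731 IH) (Lpr_ef (K43.f578545 IH) (Lpe (f514173 IH) (Lpn (LP (LK LD1_c7 LD2_c12 LD3_c40))))))
theorem f488632 : Led Lsl_ft (LP (LK LD1_c13 LD2_c26 LD3_c51)) = (LP (LK LD1_c22 LD2_c46 LD3_c26)) :=
  Lre_f IH (LK LD1_c13 LD2_c26 LD3_c51) (LK LD1_c22 LD2_c46 LD3_c26) Lrfl Lrfl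
theorem f578600 : Led Lsl_et (LP (LK LD1_c22 LD2_c46 LD3_c26)) = (LP (LK LD1_c16 LD2_c25 LD3_c59)) :=
  Lgr Lrot69 (Lpe (f488632 IH) (Lpe (K34.f98583 IH) (Lpe (K41.f514154 IH) (Lpe (f578547 IH) (Lpr_ff (f578596 IH) (Lpn (LP (LK LD1_c16 LD2_c25 LD3_c59))))))))
theorem f488633 : Led Lsl_ft (LP (LK LD1_c22 LD2_c51 LD3_c7)) = (LP (LK LD1_c13 LD2_c30 LD3_c15)) :=
  Lre_f IH (LK LD1_c22 LD2_c51 LD3_c7) (LK LD1_c13 LD2_c30 LD3_c15) Lrfl Lrfl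
theorem f488634 : Led Lsl_dt (LP (LK LD1_c22 LD2_c46 LD3_c26)) = (LP (LK LD1_c22 LD2_c51 LD3_c7)) :=
  Lgr Lrot60 (Lpe (f488632 IH) (Lpr_df (K34.f466611 IH) (Lpe (f488633 IH) (Lpn (LP (LK LD1_c22 LD2_c51 LD3_c7))))))
theorem f81575 : Led Lsl_dt (LP (LK LD1_c8 LD2_c2 LD3_c34)) = (LP (LK LD1_c15 LD2_c8 LD3_c31)) :=
  Lre_d IH (LK LD1_c8 LD2_c2 LD3_c34) (LK LD1_c15 LD2_c8 LD3_c31) Lrfl Lrfl
theorem f920375 : Led Lsl_gf (LP (LK LD1_c22 LD2_c51 LD3_c7)) = (LP (LK LD1_c15 LD2_c8 LD3_c31)) :=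
  Lgr Lrot134 (Lpe (f488634 IH) (Lpr_et (f578600 IH) (Lpr_gt (f36023 IH) (Lpe (K36.f36022 IH) (Lpr_dt (K2.f35963 IH) (Lpe (K6.f36019 IH) (Lpr_df (K28.f150110 IH) (Lpr_et (K71.f150113 IH) (Lpqs (K71.f920370 IH) (Lpe (K71.f877040 IH) (Lpr_dt (f81575 IH) (Lpn (LP (LK LD1_c15 LD2_c8 LD3_c31))))))))))))))
theorem f513408 : Led Lsl_af (LP (LK LD1_c13 LD2_c40 LD3_c54)) = (LP (LK LD1_c13 LD2_c30 LD3_c15)) :=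
  Lgr Lrot0 (Lpr_at (K34.f513404 IH) (Lpn (LP (LK LD1_c13 LD2_c30 LD3_c15))))
theorem f441660 : Led Lsl_gt (LP (LK LD1_c23 LD2_c6 LD3_c24)) = (LP (LK LD1_c13 LD2_c40 LD3_c54)) :=
  Lre_g IH (LK LD1_c23 LD2_c6 LD3_c24) (LK LD1_c13 LD2_c40 LD3_c54) Lrfl Lrfl
theorem f514027 : Led Lsl_gf (LP (LK LD1_c23 LD2_c6 LD3_c24)) = (LP (LK LD1_c22 LD2_c51 LD3_c7)) :=
  Lgr Lrot47 (Lpr_gt (f441660 IH) (Lpr_af (f513408 IH) (Lpe (f488633 IH) (Lpn (LP (LK LD1_c22 LD2_c51 LD3_c7))))))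
theorem f920377 : Led Lsl_af (LP (LK LD1_c23 LD2_c6 LD3_c24)) = (LP (LK LD1_c15 LD2_c6 LD3_c32)) :=
  Lgr Lrot31 (Lpr_gf (f514027 IH) (Lpr_gf (f920375 IH) (Lpe (f877947 IH) (Lpn (LP (LK LD1_c15 LD2_c6 LD3_c32))))))
theorem f920379 : Led Lsl_at (LP (LK LD1_c23 LD2_c6 LD3_c24)) = (LP (LK LD1_c15 LD2_c6 LD3_c32)) :=
  Lgr Lrot100 (Lpr_af (f920377 IH) (Lpn (LP (LK LD1_c15 LD2_c6 LD3_c32))))
theorem f964959 : Led Lsl_ff (LP (LK LD1_c23 LD2_c6 LD3_c24)) = (LP (LK LD1_c22 LD2_c51 LD3_c6)) :=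
  Lgr Lrot30 (Lpr_at (f920379 IH) (Lpr_ft (f877949 IH) (Lpr_at (f964941 IH) (Lpn (LP (LK LD1_c22 LD2_c51 LD3_c6))))))
theorem f920383 : Led Lsl_dt (LP (LK LD1_c23 LD2_c6 LD3_c24)) = (LP (LK LD1_c15 LD2_c6 LD3_c30)) :=
  Lgr Lrot44 (Lpr_af (f920377 IH) (Lpe (f876987 IH) (Lpe (f689299 IH) (Lpn (LP (LK LD1_c15 LD2_c6 LD3_c30))))))
theorem f964961 : Led Lsl_dt (LP (LK LD1_c15 LD2_c8 LD3_c29)) = (LP (LK LD1_c22 LD2_c51 LD3_c6)) :=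
  Lgr Lrot60 (Lpr_ff (K71.f877776 IH) (Lpe (f920383 IH) (Lpr_ff (f964959 IH) (Lpn (LP (LK LD1_c22 LD2_c51 LD3_c6))))))
theorem f81573 : Led Lsl_et (LP (LK LD1_c15 LD2_c8 LD3_c29)) = (LP (LK LD1_c24 LD2_c57 LD3_c22)) :=
  Lre_e IH (LK LD1_c15 LD2_c8 LD3_c29) (LK LD1_c24 LD2_c57 LD3_c22) Lrfl Lrfl
theorem f964979 : Led Lsl_gt (LP (LK LD1_c24 LD2_c57 LD3_c22)) = (LP (LK LD1_c16 LD2_c24 LD3_c52)) :=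
  Lgr Lrot137 (Lpe (f81573 IH) (Lpr_dt (f964961 IH) (Lpe (f480612 IH) (Lpe (K43.f488630 IH) (Lpr_et (K34.f466593 IH) (Lpr_gf (K68.f790286 IH) (Lpr_ef (K68.f893106 IH) (Lpe (K68.f893096 IH) (Lpe (K68.f481611 IH) (Lpe (K68.f893107 IH) (Lpn (LP (LK LD1_c16 LD2_c24 LD3_c52)))))))))))))
theorem f964980 : Led Lsl_gt (LP (LK LD1_c24 LD2_c57 LD3_c22)) = (LP (LK LD1_c16 LD2_c24 LD3_c52)) :=
  Leop (Lpe (f964979 IH) (Lpn (LP (LK LD1_c24 LD2_c57 LD3_c22))))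
theorem seed_2908 : LEOK LG_g (LK LD1_c24 LD2_c57 LD3_c22) :=
  Leoe_g (LK LD1_c24 LD2_c57 LD3_c22) (f964980 IH)
theorem f696729 : Led Lsl_ct (LP (LK LD1_c16 LD2_c32 LD3_c38)) = (LP (LK LD1_c8 LD2_c51 LD3_c0)) :=
  Lre_c IH (LK LD1_c16 LD2_c32 LD3_c38) (LK LD1_c8 LD2_c51 LD3_c0) Lrfl Lrfl
theorem f964894 : Led Lsl_ct (LP (LK LD1_c11 LD2_c34 LD3_c2)) = (LP (LK LD1_c20 LD2_c30 LD3_c39)) :=
  Lgr Lrot40 (Lpr_ff (K65.f743265 IH) (Lpe (f696729 IH) (Lpr_ff (f964892 IH) (Lpn (LP (LK LD1_c20 LD2_c30 LD3_c39))))))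
theorem f697598 : Led Lsl_bf (LP (LK LD1_c8 LD2_c51 LD3_c0)) = (LP (LK LD1_c15 LD2_c0 LD3_c21)) :=
  Lgr Lrot81 (Lpr_at (K65.f631460 IH) (Lpr_bt (K65.f443775 IH) (Lpqs (K57.f696821 IH) (Lpe (K57.f688391 IH) (Lpr_bt (K69.f445367 IH) (Lpr_at (K69.f688393 IH) (Lpn (LP (LK LD1_c15 LD2_c0 LD3_c21)))))))))
theorem f697589 : Led Lsl_ft (LP (LK LD1_c8 LD2_c51 LD3_c14)) = (LP (LK LD1_c15 LD2_c0 LD3_c21)) :=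
  Lgr Lrot48 (Lpr_ff (K69.f697585 IH) (Lpn (LP (LK LD1_c15 LD2_c0 LD3_c21))))
theorem f743271 : Led Lsl_bt (LP (LK LD1_c11 LD2_c34 LD3_c2)) = (LP (LK LD1_c8 LD2_c51 LD3_c14)) :=
  Lgr Lrot35 (Lpr_ff (K65.f743265 IH) (Lpr_bf (f697598 IH) (Lpe (f697589 IH) (Lpn (LP (LK LD1_c8 LD2_c51 LD3_c14))))))
theorem f160726 : Led Lsl_et (LP (LK LD1_c8 LD2_c48 LD3_c18)) = (LP (LK LD1_c4 LD2_c25 LD3_c23)) :=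
  Lre_e IH (LK LD1_c8 LD2_c48 LD3_c18) (LK LD1_c4 LD2_c25 LD3_c23) Lrfl Lrfl
theorem f56132 : Led Lsl_et (LP (LK LD1_c24 LD2_c47 LD3_c41)) = (LP (LK LD1_c15 LD2_c0 LD3_c21)) :=
  Lre_e IH (LK LD1_c24 LD2_c47 LD3_c41) (LK LD1_c15 LD2_c0 LD3_c21) Lrfl Lrfl
theorem f56104 : Led Lsl_dt (LP (LK LD1_c8 LD2_c26 LD3_c5)) = (LP (LK LD1_c7 LD2_c57 LD3_c27)) :=
  Lgr Lrot42 (Lpr_df (K2.f56098 IH) (Lpn (LP (LK LD1_c7 LD2_c57 LD3_c27))))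
theorem f46889 : Led Lsl_bt (LP (LK LD1_c15 LD2_c50 LD3_c35)) = (LP (LK LD1_c8 LD2_c26 LD3_c5)) :=
  Lre_b IH (LK LD1_c15 LD2_c50 LD3_c35) (LK LD1_c8 LD2_c26 LD3_c5) Lrfl Lrfl
theorem f56117 : Led Lsl_bt (LP (LK LD1_c7 LD2_c57 LD3_c27)) = (LP (LK LD1_c15 LD2_c0 LD3_c23)) :=
  Lre_b IH (LK LD1_c7 LD2_c57 LD3_c27) (LK LD1_c15 LD2_c0 LD3_c23) Lrfl Lrfl
theorem f56118 : Led Lsl_df (LP (LK LD1_c15 LD2_c50 LD3_c35)) = (LP (LK LD1_c15 LD2_c0 LD3_c23)) :=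
  Lgr Lrot12 (Lpr_bt (f46889 IH) (Lpr_dt (f56104 IH) (Lpr_bt (f56117 IH) (Lpn (LP (LK LD1_c15 LD2_c0 LD3_c23))))))
theorem f56120 : Led Lsl_at (LP (LK LD1_c15 LD2_c50 LD3_c35)) = (LP (LK LD1_c25 LD2_c46 LD3_c41)) :=
  Lre_a IH (LK LD1_c15 LD2_c50 LD3_c35) (LK LD1_c25 LD2_c46 LD3_c41) Lrfl Lrfl
theorem f56121 : Led Lsl_at (LP (LK LD1_c24 LD2_c47 LD3_c41)) = (LP (LK LD1_c15 LD2_c0 LD3_c23)) :=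
  Lre_a IH (LK LD1_c24 LD2_c47 LD3_c41) (LK LD1_c15 LD2_c0 LD3_c23) Lrfl Lrfl
theorem f56122 : Led Lsl_dt (LP (LK LD1_c25 LD2_c46 LD3_c41)) = (LP (LK LD1_c24 LD2_c47 LD3_c41)) :=
  Lgr Lrot44 (Lpe (f56120 IH) (Lpr_df (f56118 IH) (Lpe (f56121 IH) (Lpn (LP (LK LD1_c24 LD2_c47 LD3_c41))))))
theorem f56130 : Led Lsl_df (LP (LK LD1_c25 LD2_c46 LD3_c41)) = (LP (LK LD1_c24 LD2_c47 LD3_c41)) :=
  Lgr Lrot38 (Lpr_dt (f56122 IH) (Lpn (LP (LK LD1_c24 LD2_c47 LD3_c41))))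
theorem f764320 : Led Lsl_gf (LP (LK LD1_c16 LD2_c28 LD3_c26)) = (LP (LK LD1_c25 LD2_c46 LD3_c41)) :=
  Lgr Lrot145 (Lpe (K43.f160727 IH) (Lpr_et (f160726 IH) (Lpr_gt (K28.f38248 IH) (Lpr_dt (K4.f38515 IH) (Lpr_gt (K6.f38008 IH) (Lpe (K6.f38548 IH) (Lpr_et (K41.f203361 IH) (Lpqs (K69.f764315 IH) (Lpr_gt (K69.f697587 IH) (Lpe (f56132 IH) (Lpe (f56130 IH) (Lpn (LP (LK LD1_c25 LD2_c46 LD3_c41))))))))))))))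
theorem f697025 : Led Lsl_ef (LP (LK LD1_c8 LD2_c51 LD3_c25)) = (LP (LK LD1_c15 LD2_c0 LD3_c29)) :=
  Lgr Lrot73 (Lpr_dt (K50.f609947 IH) (Lpr_et (K57.f697021 IH) (Lpe (K64.f418391 IH) (Lpr_et (K47.f46744 IH) (Lpe (K57.f696882 IH) (Lpn (LP (LK LD1_c15 LD2_c0 LD3_c29))))))))
theorem f617216 : Led Lsl_bt (LP (LK LD1_c8 LD2_c51 LD3_c25)) = (LP (LK LD1_c16 LD2_c33 LD3_c20)) :=
  Lre_b IH (LK LD1_c8 LD2_c51 LD3_c25) (LK LD1_c16 LD2_c33 LD3_c20) Lrfl Lrfl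
theorem f696811 : Led Lsl_bt (LP (LK LD1_c24 LD2_c47 LD3_c43)) = (LP (LK LD1_c15 LD2_c0 LD3_c29)) :=
  Lre_b IH (LK LD1_c24 LD2_c47 LD3_c43) (LK LD1_c15 LD2_c0 LD3_c29) Lrfl Lrfl
theorem f697162 : Led Lsl_et (LP (LK LD1_c16 LD2_c33 LD3_c20)) = (LP (LK LD1_c24 LD2_c47 LD3_c43)) :=
  Lgr Lrot74 (Lpe (f617216 IH) (Lpr_ef (f697025 IH) (Lpe (f696811 IH) (Lpn (LP (LK LD1_c24 LD2_c47 LD3_c43))))))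
theorem f697165 : Led Lsl_ef (LP (LK LD1_c16 LD2_c33 LD3_c20)) = (LP (LK LD1_c24 LD2_c47 LD3_c43)) :=
  Lgr Lrot88 (Lpr_et (f697162 IH) (Lpn (LP (LK LD1_c24 LD2_c47 LD3_c43))))
theorem f697167 : Led Lsl_dt (LP (LK LD1_c16 LD2_c33 LD3_c20)) = (LP (LK LD1_c26 LD2_c30 LD3_c2)) :=
  Lre_d IH (LK LD1_c16 LD2_c33 LD3_c20) (LK LD1_c26 LD2_c30 LD3_c2) Lrfl Lrfl
theorem f609948 : Led Lsl_bt (LP (LK LD1_c16 LD2_c33 LD3_c30)) = (LP (LK LD1_c26 LD2_c30 LD3_c2)) :=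
  Lre_b IH (LK LD1_c16 LD2_c33 LD3_c30) (LK LD1_c26 LD2_c30 LD3_c2) Lrfl Lrfl
theorem f308370 : Led Lsl_bt (LP (LK LD1_c18 LD2_c42 LD3_c40)) = (LP (LK LD1_c10 LD2_c17 LD3_c36)) :=
  Lre_b IH (LK LD1_c18 LD2_c42 LD3_c40) (LK LD1_c10 LD2_c17 LD3_c36) Lrfl Lrfl
theorem f697017 : Led Lsl_et (LP (LK LD1_c26 LD2_c30 LD3_c2)) = (LP (LK LD1_c18 LD2_c42 LD3_c40)) :=
  Lgr Lrot74 (Lpe (f609948 IH) (Lpr_ef (K57.f697015 IH) (Lpe (f308370 IH) (Lpn (LP (LK LD1_c18 LD2_c42 LD3_c40))))))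
theorem f418387 : Led Lsl_bt (LP (LK LD1_c25 LD2_c16 LD3_c24)) = (LP (LK LD1_c15 LD2_c23 LD3_c56)) :=
  Lre_b IH (LK LD1_c25 LD2_c16 LD3_c24) (LK LD1_c15 LD2_c23 LD3_c56) Lrfl Lrfl
theorem f418388 : Led Lsl_bt (LP (LK LD1_c10 LD2_c17 LD3_c36)) = (LP (LK LD1_c18 LD2_c42 LD3_c40)) :=
  Lre_b IH (LK LD1_c10 LD2_c17 LD3_c36) (LK LD1_c18 LD2_c42 LD3_c40) Lrfl Lrfl
theorem f418389 : Led Lsl_df (LP (LK LD1_c25 LD2_c16 LD3_c24)) = (LP (LK LD1_c18 LD2_c42 LD3_c40)) :=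
  Lgr Lrot12 (Lpr_bt (f418387 IH) (Lpr_dt (K47.f229365 IH) (Lpr_bt (f418388 IH) (Lpn (LP (LK LD1_c18 LD2_c42 LD3_c40))))))
theorem f418400 : Led Lsl_et (LP (LK LD1_c25 LD2_c16 LD3_c24)) = (LP (LK LD1_c15 LD2_c23 LD3_c55)) :=
  Lre_e IH (LK LD1_c25 LD2_c16 LD3_c24) (LK LD1_c15 LD2_c23 LD3_c55) Lrfl Lrfl
theorem f697168 : Led Lsl_dt (LP (LK LD1_c15 LD2_c23 LD3_c55)) = (LP (LK LD1_c24 LD2_c47 LD3_c43)) :=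
  Lgr Lrot77 (Lpe (f418400 IH) (Lpr_df (f418389 IH) (Lpe (f697017 IH) (Lpe (f697167 IH) (Lpr_ef (f697165 IH) (Lpn (LP (LK LD1_c24 LD2_c47 LD3_c43))))))))
theorem f56126 : Led Lsl_ft (LP (LK LD1_c24 LD2_c47 LD3_c43)) = (LP (LK LD1_c15 LD2_c0 LD3_c23)) :=
  Lre_f IH (LK LD1_c24 LD2_c47 LD3_c43) (LK LD1_c15 LD2_c0 LD3_c23) Lrfl Lrfl
theorem f697170 : Led Lsl_ff (LP (LK LD1_c15 LD2_c23 LD3_c55)) = (LP (LK LD1_c15 LD2_c50 LD3_c35)) :=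
  Lgr Lrot19 (Lpr_dt (f697168 IH) (Lpr_ft (f56126 IH) (Lpe (f56118 IH) (Lpn (LP (LK LD1_c15 LD2_c50 LD3_c35))))))
theorem f697172 : Led Lsl_at (LP (LK LD1_c15 LD2_c23 LD3_c55)) = (LP (LK LD1_c25 LD2_c16 LD3_c22)) :=
  Lre_a IH (LK LD1_c15 LD2_c23 LD3_c55) (LK LD1_c25 LD2_c16 LD3_c22) Lrfl Lrfl
theorem f56133 : Led Lsl_at (LP (LK LD1_c25 LD2_c46 LD3_c41)) = (LP (LK LD1_c15 LD2_c50 LD3_c35)) :=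
  Lre_a IH (LK LD1_c25 LD2_c46 LD3_c41) (LK LD1_c15 LD2_c50 LD3_c35) Lrfl Lrfl
theorem f697173 : Led Lsl_ft (LP (LK LD1_c25 LD2_c16 LD3_c22)) = (LP (LK LD1_c25 LD2_c46 LD3_c41)) :=
  Lgr Lrot101 (Lpe (f697172 IH) (Lpr_ff (f697170 IH) (Lpe (f56133 IH) (Lpn (LP (LK LD1_c25 LD2_c46 LD3_c41))))))
theorem f697175 : Led Lsl_ff (LP (LK LD1_c25 LD2_c16 LD3_c22)) = (LP (LK LD1_c25 LD2_c46 LD3_c41)) :=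
  Lgr Lrot3 (Lpr_ft (f697173 IH) (Lpn (LP (LK LD1_c25 LD2_c46 LD3_c41))))
theorem f696911 : Led Lsl_at (LP (LK LD1_c25 LD2_c16 LD3_c22)) = (LP (LK LD1_c15 LD2_c23 LD3_c55)) :=
  Lre_a IH (LK LD1_c25 LD2_c16 LD3_c22) (LK LD1_c15 LD2_c23 LD3_c55) Lrfl Lrfl
theorem f764324 : Led Lsl_gt (LP (LK LD1_c16 LD2_c28 LD3_c26)) = (LP (LK LD1_c15 LD2_c23 LD3_c55)) :=
  Lgr Lrot46 (Lpr_gf (f764320 IH) (Lpe (f697175 IH) (Lpr_at (f696911 IH) (Lpn (LP (LK LD1_c15 LD2_c23 LD3_c55))))))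
theorem f455395 : Led Lsl_et (LP (LK LD1_c6 LD2_c58 LD3_c24)) = (LP (LK LD1_c13 LD2_c14 LD3_c19)) :=
  Lre_e IH (LK LD1_c6 LD2_c58 LD3_c24) (LK LD1_c13 LD2_c14 LD3_c19) Lrfl Lrfl
theorem f696886 : Led Lsl_bt (LP (LK LD1_c15 LD2_c0 LD3_c29)) = (LP (LK LD1_c24 LD2_c47 LD3_c43)) :=
  Lre_b IH (LK LD1_c15 LD2_c0 LD3_c29) (LK LD1_c24 LD2_c47 LD3_c43) Lrfl Lrfl
theorem f46741 : Led Lsl_bt (LP (LK LD1_c15 LD2_c23 LD3_c55)) = (LP (LK LD1_c8 LD2_c10 LD3_c42)) :=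
  Lre_b IH (LK LD1_c15 LD2_c23 LD3_c55) (LK LD1_c8 LD2_c10 LD3_c42) Lrfl Lrfl
theorem f696887 : Led Lsl_dt (LP (LK LD1_c24 LD2_c47 LD3_c43)) = (LP (LK LD1_c15 LD2_c23 LD3_c55)) :=
  Lgr Lrot79 (Lpe (f696886 IH) (Lpr_df (K57.f696882 IH) (Lpe (f46741 IH) (Lpn (LP (LK LD1_c15 LD2_c23 LD3_c55))))))
theorem f764326 : Led Lsl_gf (LP (LK LD1_c13 LD2_c14 LD3_c19)) = (LP (LK LD1_c16 LD2_c33 LD3_c20)) :=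
  Lgr Lrot141 (Lpe (f455395 IH) (Lpr_dt (K47.f455148 IH) (Lpr_gt (K47.f455169 IH) (Lpr_df (K47.f511158 IH) (Lpe (K47.f574115 IH) (Lpr_gt (K47.f574105 IH) (Lpr_dt (K43.f160727 IH) (Lpr_gt (f764324 IH) (Lpe (f696887 IH) (Lpe (f697165 IH) (Lpn (LP (LK LD1_c16 LD2_c33 LD3_c20)))))))))))))
theorem f696778 : Led Lsl_ft (LP (LK LD1_c16 LD2_c33 LD3_c20)) = (LP (LK LD1_c8 LD2_c51 LD3_c17)) :=
  Lre_f IH (LK LD1_c16 LD2_c33 LD3_c20) (LK LD1_c8 LD2_c51 LD3_c17) Lrfl Lrfl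
theorem f697567 : Led Lsl_at (LP (LK LD1_c8 LD2_c51 LD3_c17)) = (LP (LK LD1_c16 LD2_c33 LD3_c13)) :=
  Lre_a IH (LK LD1_c8 LD2_c51 LD3_c17) (LK LD1_c16 LD2_c33 LD3_c13) Lrfl Lrfl
theorem f764328 : Led Lsl_gt (LP (LK LD1_c13 LD2_c14 LD3_c19)) = (LP (LK LD1_c16 LD2_c33 LD3_c13)) :=
  Lgr Lrot46 (Lpr_gf (f764326 IH) (Lpr_ft (f696778 IH) (Lpr_at (f697567 IH) (Lpn (LP (LK LD1_c16 LD2_c33 LD3_c13))))))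
theorem f487923 : Led Lsl_et (LP (LK LD1_c7 LD2_c14 LD3_c53)) = (LP (LK LD1_c13 LD2_c42 LD3_c47)) :=
  Lre_e IH (LK LD1_c7 LD2_c14 LD3_c53) (LK LD1_c13 LD2_c42 LD3_c47) Lrfl Lrfl
theorem f569931 : Led Lsl_et (LP (LK LD1_c13 LD2_c47 LD3_c38)) = (LP (LK LD1_c7 LD2_c17 LD3_c31)) :=
  Lre_e IH (LK LD1_c13 LD2_c47 LD3_c38) (LK LD1_c7 LD2_c17 LD3_c31) Lrfl Lrfl
theorem f481573 : Led Lsl_et (LP (LK LD1_c7 LD2_c17 LD3_c31)) = (LP (LK LD1_c13 LD2_c47 LD3_c38)) :=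
  Lre_e IH (LK LD1_c7 LD2_c17 LD3_c31) (LK LD1_c13 LD2_c47 LD3_c38) Lrfl Lrfl
theorem f569617 : Led Lsl_df (LP (LK LD1_c7 LD2_c56 LD3_c61)) = (LP (LK LD1_c13 LD2_c47 LD3_c38)) :=
  Lgr Lrot70 (Lpr_et (K6.f38585 IH) (Lpr_dt (K8.f37078 IH) (Lpr_et (K42.f569609 IH) (Lpr_dt (K42.f5041 IH) (Lpr_et (f481573 IH) (Lpn (LP (LK LD1_c13 LD2_c47 LD3_c38))))))))
theorem f70287 : Led Lsl_gt (LP (LK LD1_c14 LD2_c59 LD3_c46)) = (LP (LK LD1_c7 LD2_c56 LD3_c61)) :=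
  Lre_g IH (LK LD1_c14 LD2_c59 LD3_c46) (LK LD1_c7 LD2_c56 LD3_c61) Lrfl Lrfl
theorem f112770 : Led Lsl_dt (LP (LK LD1_c24 LD2_c47 LD3_c10)) = (LP (LK LD1_c14 LD2_c59 LD3_c46)) :=
  Lre_d IH (LK LD1_c24 LD2_c47 LD3_c10) (LK LD1_c14 LD2_c59 LD3_c46) Lrfl Lrfl
theorem f573795 : Led Lsl_ef (LP (LK LD1_c30 LD2_c53 LD3_c30)) = (LP (LK LD1_c24 LD2_c47 LD3_c10)) :=
  Lgr Lrot17 (Lpr_gf (K47.f573776 IH) (Lpe (K47.f573202 IH) (Lpr_dt (K43.f17621 IH) (Lpr_gf (K43.f573193 IH) (Lpr_df (K43.f573764 IH) (Lpr_gf (K43.f573788 IH) (Lpe (f569931 IH) (Lpe (f569617 IH) (Lpe (f70287 IH) (Lpe (f112770 IH) (Lpn (LP (LK LD1_c24 LD2_c47 LD3_c10)))))))))))))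
theorem f112765 : Led Lsl_dt (LP (LK LD1_c14 LD2_c59 LD3_c46)) = (LP (LK LD1_c24 LD2_c47 LD3_c10)) :=
  Lre_d IH (LK LD1_c14 LD2_c59 LD3_c46) (LK LD1_c24 LD2_c47 LD3_c10) Lrfl Lrfl
theorem f719226 : Led Lsl_ef (LP (LK LD1_c14 LD2_c59 LD3_c46)) = (LP (LK LD1_c23 LD2_c8 LD3_c55)) :=
  Lgr Lrot73 (Lpr_dt (f112765 IH) (Lpe (f573795 IH) (Lpr_dt (K47.f442062 IH) (Lpe (K53.f719218 IH) (Lpr_dt (K53.f719222 IH) (Lpn (LP (LK LD1_c23 LD2_c8 LD3_c55))))))))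
theorem f719228 : Led Lsl_et (LP (LK LD1_c14 LD2_c59 LD3_c46)) = (LP (LK LD1_c23 LD2_c8 LD3_c55)) :=
  Lgr Lrot87 (Lpr_ef (f719226 IH) (Lpn (LP (LK LD1_c23 LD2_c8 LD3_c55))))
theorem f697597 : Led Lsl_dt (LP (LK LD1_c16 LD2_c33 LD3_c13)) = (LP (LK LD1_c26 LD2_c29 LD3_c57)) :=
  Lre_d IH (LK LD1_c16 LD2_c33 LD3_c13) (LK LD1_c26 LD2_c29 LD3_c57) Lrfl Lrfl
theorem f764330 : Led Lsl_gf (LP (LK LD1_c24 LD2_c47 LD3_c10)) = (LP (LK LD1_c26 LD2_c29 LD3_c57)) :=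
  Lgr Lrot134 (Lpe (f112765 IH) (Lpr_et (f719228 IH) (Lpr_gt (K53.f481308 IH) (Lpe (f487923 IH) (Lpr_dt (K33.f470690 IH) (Lpe (K33.f487917 IH) (Lpe (K47.f455148 IH) (Lpr_et (f455395 IH) (Lpr_gt (f764328 IH) (Lpr_dt (f697597 IH) (Lpn (LP (LK LD1_c26 LD2_c29 LD3_c57)))))))))))))
theorem f550021 : Led Lsl_gt (LP (LK LD1_c16 LD2_c21 LD3_c27)) = (LP (LK LD1_c26 LD2_c19 LD3_c33)) :=
  Lre_g IH (LK LD1_c16 LD2_c21 LD3_c27) (LK LD1_c26 LD2_c19 LD3_c33) Lrfl Lrfl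
theorem f573781 : Led Lsl_dt (LP (LK LD1_c32 LD2_c7 LD3_c35)) = (LP (LK LD1_c26 LD2_c19 LD3_c33)) :=
  Lre_d IH (LK LD1_c32 LD2_c7 LD3_c35) (LK LD1_c26 LD2_c19 LD3_c33) Lrfl Lrfl
theorem f764338 : Led Lsl_et (LP (LK LD1_c32 LD2_c7 LD3_c35)) = (LP (LK LD1_c26 LD2_c29 LD3_c57)) :=
  Lgr Lrot121 (Lpr_dt (f573781 IH) (Lpe (f550021 IH) (Lpe (K43.f573772 IH) (Lpr_et (K43.f573774 IH) (Lpr_gf (K43.f573788 IH) (Lpe (f569931 IH) (Lpe (f569617 IH) (Lpe (f70287 IH) (Lpe (f112770 IH) (Lpr_gf (f764330 IH) (Lpn (LP (LK LD1_c26 LD2_c29 LD3_c57)))))))))))))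
theorem f550022 : Led Lsl_dt (LP (LK LD1_c26 LD2_c19 LD3_c33)) = (LP (LK LD1_c32 LD2_c7 LD3_c35)) :=
  Lre_d IH (LK LD1_c26 LD2_c19 LD3_c33) (LK LD1_c32 LD2_c7 LD3_c35) Lrfl Lrfl
theorem f743363 : Led Lsl_dt (LP (LK LD1_c26 LD2_c29 LD3_c57)) = (LP (LK LD1_c16 LD2_c33 LD3_c13)) :=
  Lre_d IH (LK LD1_c26 LD2_c29 LD3_c57) (LK LD1_c16 LD2_c33 LD3_c13) Lrfl Lrfl
theorem f697594 : Led Lsl_et (LP (LK LD1_c16 LD2_c33 LD3_c13)) = (LP (LK LD1_c8 LD2_c51 LD3_c14)) :=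
  Lre_e IH (LK LD1_c16 LD2_c33 LD3_c13) (LK LD1_c8 LD2_c51 LD3_c14) Lrfl Lrfl
theorem f764344 : Led Lsl_ef (LP (LK LD1_c26 LD2_c19 LD3_c33)) = (LP (LK LD1_c16 LD2_c33 LD3_c12)) :=
  Lgr Lrot73 (Lpr_dt (f550022 IH) (Lpr_et (f764338 IH) (Lpr_dt (f743363 IH) (Lpr_et (f697594 IH) (Lpr_dt (K69.f697583 IH) (Lpn (LP (LK LD1_c16 LD2_c33 LD3_c12))))))))
theorem f38212 : Led Lsl_dt (LP (LK LD1_c12 LD2_c6 LD3_c19)) = (LP (LK LD1_c21 LD2_c12 LD3_c23)) :=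
  Lre_d IH (LK LD1_c12 LD2_c6 LD3_c19) (LK LD1_c21 LD2_c12 LD3_c23) Lrfl Lrfl
theorem f565652 : Led Lsl_dt (LP (LK LD1_c13 LD2_c30 LD3_c37)) = (LP (LK LD1_c7 LD2_c7 LD3_c57)) :=
  Lre_d IH (LK LD1_c13 LD2_c30 LD3_c37) (LK LD1_c7 LD2_c7 LD3_c57) Lrfl Lrfl
theorem f569640 : Led Lsl_et (LP (LK LD1_c21 LD2_c12 LD3_c23)) = (LP (LK LD1_c13 LD2_c30 LD3_c37)) :=
  Lgr Lrot71 (Lpe (f38212 IH) (Lpe (K69.f420438 IH) (Lpr_df (K28.f202787 IH) (Lpr_ef (K42.f569631 IH) (Lpe (f565652 IH) (Lpn (LP (LK LD1_c13 LD2_c30 LD3_c37))))))))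
theorem f697593 : Led Lsl_dt (LP (LK LD1_c16 LD2_c33 LD3_c12)) = (LP (LK LD1_c8 LD2_c51 LD3_c14)) :=
  Lre_d IH (LK LD1_c16 LD2_c33 LD3_c12) (LK LD1_c8 LD2_c51 LD3_c14) Lrfl Lrfl
theorem f764443 : Led Lsl_gf (LP (LK LD1_c12 LD2_c6 LD3_c19)) = (LP (LK LD1_c8 LD2_c51 LD3_c14)) :=
  Lgr Lrot145 (Lpe (K69.f420439 IH) (Lpr_et (f569640 IH) (Lpr_gt (K41.f565642 IH) (Lpe (K18.f210742 IH) (Lpr_gt (K38.f2987 IH) (Lpe (K38.f550013 IH) (Lpr_et (K43.f550015 IH) (Lpr_gt (f550021 IH) (Lpr_ef (f764344 IH) (Lpr_dt (f697593 IH) (Lpn (LP (LK LD1_c8 LD2_c51 LD3_c14)))))))))))))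
theorem f963865 : Led Lsl_bf (LP (LK LD1_c12 LD2_c6 LD3_c19)) = v48181 :=
  Lgr Lrot96 (Lpr_et (K69.f38211 IH) (Lpr_bt (K42.f559264 IH) (Lpr_et (f963863 IH) (Lpn v48181))))
theorem f963866 : Led Lsl_cf (LP (LK LD1_c11 LD2_c27 LD3_c26)) = v48181 :=
  Lgr Lrot39 (Lpr_et (K38.f548722 IH) (Lpr_ct (K40.f211003 IH) (Lpr_et (f963863 IH) (Lpn v48181))))
theorem f825907 : Led Lsl_cf (LP (LK LD1_c20 LD2_c25 LD3_c25)) = (LP (LK LD1_c15 LD2_c8 LD3_c4)) :=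
  Lgr Lrot11 (Lpr_ct (K65.f825903 IH) (Lpn (LP (LK LD1_c15 LD2_c8 LD3_c4))))
theorem f101754 : Led Lsl_gt (LP (LK LD1_c5 LD2_c53 LD3_c45)) = (LP (LK LD1_c11 LD2_c33 LD3_c25)) :=
  Lre_g IH (LK LD1_c5 LD2_c53 LD3_c45) (LK LD1_c11 LD2_c33 LD3_c25) Lrfl Lrfl
theorem f149057 : Led Lsl_gf (LP (LK LD1_c17 LD2_c0 LD3_c21)) = (LP (LK LD1_c11 LD2_c33 LD3_c25)) :=
  Lgr Lrot76 (Lpr_af (K71.f149049 IH) (Lpe (K71.f137526 IH) (Lpr_gt (f101754 IH) (Lpn (LP (LK LD1_c11 LD2_c33 LD3_c25))))))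
theorem f964996 : Led Lsl_bt (LP (LK LD1_c15 LD2_c8 LD3_c4)) = (LP (LK LD1_c11 LD2_c33 LD3_c25)) :=
  Lgr Lrot130 (Lpe (f825907 IH) (Lpe (K65.f548729 IH) (Lpr_cf (f963866 IH) (Lpe (f963865 IH) (Lpr_gf (f764443 IH) (Lpe (f743271 IH) (Lpr_ct (f964894 IH) (Lpe (f964884 IH) (Lpr_cf (f964868 IH) (Lpr_gf (f149057 IH) (Lpn (LP (LK LD1_c11 LD2_c33 LD3_c25)))))))))))))
theorem f964997 : Led Lsl_bt (LP (LK LD1_c15 LD2_c8 LD3_c4)) = (LP (LK LD1_c11 LD2_c33 LD3_c25)) :=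
  Leop (Lpe (f964996 IH) (Lpn (LP (LK LD1_c15 LD2_c8 LD3_c4))))
theorem seed_2909 : LEOK LG_b (LK LD1_c15 LD2_c8 LD3_c4) :=
  Leoe_b (LK LD1_c15 LD2_c8 LD3_c4) (f964997 IH)
def v48366 : LQ := Led Lsl_et (LP (LK LD1_c11 LD2_c29 LD3_c40))
theorem f965142 : Led Lsl_et (LP (LK LD1_c11 LD2_c29 LD3_c40)) = v48366 :=
  Lrfl
theorem f965145 : Led Lsl_ef (LP (LK LD1_c11 LD2_c29 LD3_c40)) = v48366 :=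
  Lgr Lrot88 (Lpr_et (f965142 IH) (Lpn v48366))
theorem f965146 : Led Lsl_bt K55.v15991 = v48366 :=
  Lgr Lrot119 (Lpe (K55.f744615 IH) (Lpe (K55.f22346 IH) (Lpr_ef (f965145 IH) (Lpn v48366))))
theorem f965148 : Led Lsl_df (LP (LK LD1_c17 LD2_c34 LD3_c25)) = v48366 :=
  Lgr Lrot12 (Lpr_bt (K56.f414971 IH) (Lpr_dt (K55.f744620 IH) (Lpr_bt (f965146 IH) (Lpn v48366))))
theorem f510244 : Led Lsl_dt (LP (LK LD1_c22 LD2_c4 LD3_c36)) = (LP (LK LD1_c12 LD2_c54 LD3_c54)) :=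
  Lre_d IH (LK LD1_c22 LD2_c4 LD3_c36) (LK LD1_c12 LD2_c54 LD3_c54) Lrfl Lrfl
theorem f752775 : Led Lsl_ft (LP (LK LD1_c22 LD2_c5 LD3_c25)) = (LP (LK LD1_c22 LD2_c4 LD3_c36)) :=
  Lgr Lrot54 (Lpr_df (K56.f752769 IH) (Lpr_ff (K56.f744658 IH) (Lpe (f510244 IH) (Lpn (LP (LK LD1_c22 LD2_c4 LD3_c36))))))
theorem f639639 : Led Lsl_gt (LP (LK LD1_c12 LD2_c55 LD3_c40)) = (LP (LK LD1_c22 LD2_c5 LD3_c24)) :=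
  Lre_g IH (LK LD1_c12 LD2_c55 LD3_c40) (LK LD1_c22 LD2_c5 LD3_c24) Lrfl Lrfl
theorem f752779 : Led Lsl_af (LP (LK LD1_c22 LD2_c5 LD3_c24)) = (LP (LK LD1_c22 LD2_c4 LD3_c36)) :=
  Lgr Lrot31 (Lpe (f639639 IH) (Lpe (K56.f98999 IH) (Lpr_ft (f752775 IH) (Lpn (LP (LK LD1_c22 LD2_c4 LD3_c36))))))
theorem f752785 : Led Lsl_dt (LP (LK LD1_c22 LD2_c5 LD3_c24)) = (LP (LK LD1_c17 LD2_c33 LD3_c32)) :=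
  Lgr Lrot44 (Lpr_af (f752779 IH) (Lpe (K70.f652969 IH) (Lpe (K56.f744662 IH) (Lpn (LP (LK LD1_c17 LD2_c33 LD3_c32))))))
theorem f752788 : Led Lsl_df (LP (LK LD1_c22 LD2_c5 LD3_c24)) = (LP (LK LD1_c17 LD2_c33 LD3_c32)) :=
  Lgr Lrot38 (Lpr_dt (f752785 IH) (Lpn (LP (LK LD1_c17 LD2_c33 LD3_c32))))
theorem f752784 : Led Lsl_ct (LP (LK LD1_c22 LD2_c5 LD3_c24)) = (LP (LK LD1_c30 LD2_c17 LD3_c59)) :=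
  Lre_c IH (LK LD1_c22 LD2_c5 LD3_c24) (LK LD1_c30 LD2_c17 LD3_c59) Lrfl Lrfl
theorem f435439 : Led Lsl_et (LP (LK LD1_c9 LD2_c7 LD3_c28)) = (LP (LK LD1_c16 LD2_c59 LD3_c42)) :=
  Lre_e IH (LK LD1_c9 LD2_c7 LD3_c28) (LK LD1_c16 LD2_c59 LD3_c42) Lrfl Lrfl
theorem f965147 : Led Lsl_ct (LP (LK LD1_c16 LD2_c59 LD3_c42)) = v48366 :=
  Lgr Lrot15 (Lpe (f435439 IH) (Lpe (K55.f435434 IH) (Lpr_ef (f965145 IH) (Lpn v48366))))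
theorem f781518 : Led Lsl_dt (LP (LK LD1_c17 LD2_c33 LD3_c26)) = (LP (LK LD1_c16 LD2_c59 LD3_c42)) :=
  Lgr Lrot42 (Lpr_df (K60.f781516 IH) (Lpn (LP (LK LD1_c16 LD2_c59 LD3_c42))))
theorem f510296 : Led Lsl_ct (LP (LK LD1_c27 LD2_c22 LD3_c7)) = (LP (LK LD1_c17 LD2_c33 LD3_c26)) :=
  Lre_c IH (LK LD1_c27 LD2_c22 LD3_c7) (LK LD1_c17 LD2_c33 LD3_c26) Lrfl Lrfl
theorem f965150 : Led Lsl_dt (LP (LK LD1_c30 LD2_c17 LD3_c59)) = (LP (LK LD1_c27 LD2_c22 LD3_c7)) :=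
  Lgr Lrot32 (Lpe (f752784 IH) (Lpr_df (f752788 IH) (Lpr_ft (K56.f744671 IH) (Lpe (K56.f744666 IH) (Lpr_cf (K56.f414972 IH) (Lpr_df (f965148 IH) (Lpe (f965147 IH) (Lpe (f781518 IH) (Lpe (f510296 IH) (Lpn (LP (LK LD1_c27 LD2_c22 LD3_c7))))))))))))
theorem f965151 : Led Lsl_dt (LP (LK LD1_c30 LD2_c17 LD3_c59)) = (LP (LK LD1_c27 LD2_c22 LD3_c7)) :=
  Leop (Lpe (f965150 IH) (Lpn (LP (LK LD1_c30 LD2_c17 LD3_c59))))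
theorem seed_2910 : LEOK LG_d (LK LD1_c30 LD2_c17 LD3_c59) :=
  Leoe_d (LK LD1_c30 LD2_c17 LD3_c59) (f965151 IH)
def v48383 : LQ := Led Lsl_dt (LP (LK LD1_c11 LD2_c30 LD3_c13))
theorem f965270 : Led Lsl_dt (LP (LK LD1_c11 LD2_c30 LD3_c13)) = v48383 :=
  Lrfl
theorem f789350 : Led Lsl_ft (LP (LK LD1_c7 LD2_c4 LD3_c16)) = K62.v20713 :=
  Lgr Lrot48 (Lpr_ff (K62.f789348 IH) (Lpn K62.v20713))
theorem f965274 : Led Lsl_ff (LP (LK LD1_c13 LD2_c24 LD3_c17)) = v48383 :=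
  Lgr Lrot19 (Lpr_dt (K61.f458458 IH) (Lpr_ft (f789350 IH) (Lpqs (K62.f801904 IH) (Lpr_dt (f965270 IH) (Lpn v48383)))))
theorem f965277 : Led Lsl_ft (LP (LK LD1_c13 LD2_c24 LD3_c17)) = v48383 :=
  Lgr Lrot48 (Lpr_ff (f965274 IH) (Lpn v48383))
theorem f112191 : Led Lsl_et (LP (LK LD1_c20 LD2_c27 LD3_c27)) = (LP (LK LD1_c11 LD2_c30 LD3_c12)) :=
  Lre_e IH (LK LD1_c20 LD2_c27 LD3_c27) (LK LD1_c11 LD2_c30 LD3_c12) Lrfl Lrfl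
theorem f489345 : Led Lsl_bt (LP (LK LD1_c6 LD2_c59 LD3_c51)) = (LP (LK LD1_c13 LD2_c16 LD3_c39)) :=
  Lre_b IH (LK LD1_c6 LD2_c59 LD3_c51) (LK LD1_c13 LD2_c16 LD3_c39) Lrfl Lrfl
theorem f533977 : Led Lsl_bt (LP (LK LD1_c13 LD2_c16 LD3_c59)) = (LP (LK LD1_c22 LD2_c32 LD3_c9)) :=
  Lgr Lrot35 (Lpe (K34.f533377 IH) (Lpe (K4.f103634 IH) (Lpr_ff (K39.f533973 IH) (Lpn (LP (LK LD1_c22 LD2_c32 LD3_c9))))))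
theorem f428857 : Led Lsl_cf (LP (LK LD1_c12 LD2_c33 LD3_c37)) = (LP (LK LD1_c13 LD2_c5 LD3_c25)) :=
  Lgr Lrot11 (Lpr_ct (K62.f157322 IH) (Lpn (LP (LK LD1_c13 LD2_c5 LD3_c25))))
theorem f115889 : Led Lsl_gt (LP (LK LD1_c22 LD2_c16 LD3_c11)) = (LP (LK LD1_c13 LD2_c5 LD3_c25)) :=
  Lre_g IH (LK LD1_c22 LD2_c16 LD3_c11) (LK LD1_c13 LD2_c5 LD3_c25) Lrfl Lrfl
theorem f802368 : Led Lsl_bt (LP (LK LD1_c22 LD2_c34 LD3_c8)) = (LP (LK LD1_c22 LD2_c16 LD3_c11)) :=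
  Lgr Lrot130 (Lpe (K39.f489415 IH) (Lpr_gf (K39.f535034 IH) (Lpe (K34.f469854 IH) (Lpr_bt (f533977 IH) (Lpe (K39.f425679 IH) (Lpe (f489345 IH) (Lpr_ct (K64.f18756 IH) (Lpr_gf (K62.f802360 IH) (Lpr_cf (f428857 IH) (Lpe (f115889 IH) (Lpn (LP (LK LD1_c22 LD2_c16 LD3_c11)))))))))))))
theorem f461770 : Led Lsl_bt (LP (LK LD1_c7 LD2_c22 LD3_c53)) = (LP (LK LD1_c13 LD2_c57 LD3_c21)) :=
  Lre_b IH (LK LD1_c7 LD2_c22 LD3_c53) (LK LD1_c13 LD2_c57 LD3_c21) Lrfl Lrfl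
theorem f461767 : Led Lsl_bf (LP (LK LD1_c13 LD2_c57 LD3_c22)) = (LP (LK LD1_c13 LD2_c16 LD3_c32)) :=
  Lgr Lrot24 (Lpr_bt (K39.f461579 IH) (Lpn (LP (LK LD1_c13 LD2_c16 LD3_c32))))
theorem f804201 : Led Lsl_cf (LP (LK LD1_c13 LD2_c16 LD3_c32)) = (LP (LK LD1_c22 LD2_c16 LD3_c11)) :=
  Lgr Lrot97 (Lpe (f461767 IH) (Lpr_ct (K39.f116489 IH) (Lpr_bt (f461770 IH) (Lpr_ct (K39.f489413 IH) (Lpr_bt (f802368 IH) (Lpn (LP (LK LD1_c22 LD2_c16 LD3_c11))))))))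
theorem f804203 : Led Lsl_ct (LP (LK LD1_c13 LD2_c16 LD3_c32)) = (LP (LK LD1_c22 LD2_c16 LD3_c11)) :=
  Lgr Lrot59 (Lpr_cf (f804201 IH) (Lpn (LP (LK LD1_c22 LD2_c16 LD3_c11))))
def v20769 : LQ := Led Lsl_at (LP (LK LD1_c7 LD2_c4 LD3_c16))
theorem f789828 : Led Lsl_at (LP (LK LD1_c7 LD2_c4 LD3_c16)) = v20769 :=
  Lrfl
theorem f654701 : Led Lsl_af (LP (LK LD1_c3 LD2_c31 LD3_c14)) = (LP (LK LD1_c7 LD2_c4 LD3_c12)) :=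
  Lgr Lrot0 (Lpr_at (K46.f654699 IH) (Lpn (LP (LK LD1_c7 LD2_c4 LD3_c12))))
theorem f789830 : Led Lsl_bf (LP (LK LD1_c13 LD2_c6 LD3_c37)) = v20769 :=
  Lgr Lrot81 (Lpe (K60.f654905 IH) (Lpr_bt (K46.f463955 IH) (Lpe (f654701 IH) (Lpr_bt (K28.f458454 IH) (Lpr_at (f789828 IH) (Lpn v20769))))))
theorem f789831 : Led Lsl_bt (LP (LK LD1_c13 LD2_c6 LD3_c37)) = v20769 :=
  Lgr Lrot127 (Lpr_bf (f789830 IH) (Lpn v20769))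
theorem f151512 : Led Lsl_af (LP (LK LD1_c13 LD2_c5 LD3_c25)) = (LP (LK LD1_c12 LD2_c33 LD3_c37)) :=
  Lgr Lrot0 (Lpr_at (K7.f151496 IH) (Lpn (LP (LK LD1_c12 LD2_c33 LD3_c37))))
theorem f436314 : Led Lsl_gf (LP (LK LD1_c22 LD2_c16 LD3_c11)) = (LP (LK LD1_c21 LD2_c39 LD3_c56)) :=
  Lgr Lrot47 (Lpr_gt (f115889 IH) (Lpr_af (f151512 IH) (Lpe (K62.f58832 IH) (Lpn (LP (LK LD1_c21 LD2_c39 LD3_c56))))))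
theorem f151528 : Led Lsl_gf (LP (LK LD1_c13 LD2_c5 LD3_c28)) = (LP (LK LD1_c11 LD2_c30 LD3_c12)) :=
  Lgr Lrot76 (Lpr_af (K7.f151523 IH) (Lpe (K7.f24162 IH) (Lpr_gt (K62.f24166 IH) (Lpn (LP (LK LD1_c11 LD2_c30 LD3_c12))))))
theorem f804209 : v20769 = (LP (LK LD1_c11 LD2_c30 LD3_c12)) :=
  (Llr Lrot22 (Lpe (f789831 IH) (Lpe (K46.f654897 IH) (Lpr_gf (K64.f654893 IH) (Lpe (K4.f103636 IH) (Lpe (K39.f534076 IH) (Lpr_bf (f461767 IH) (Lpr_ct (f804203 IH) (Lpr_gf (f436314 IH) (Lpr_cf (K62.f428859 IH) (Lpr_bt (K7.f151520 IH) (Lpr_gf (f151528 IH) (Lpn (LP (LK LD1_c11 LD2_c30 LD3_c12))))))))))))))).symm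
theorem f529571 : Led Lsl_et (LP (LK LD1_c13 LD2_c6 LD3_c37)) = (LP (LK LD1_c14 LD2_c14 LD3_c54)) :=
  Lgr Lrot122 (Lpr_dt (K33.f116476 IH) (Lpe (K33.f483918 IH) (Lpe (K33.f477385 IH) (Lpr_et (K33.f477340 IH) (Lpr_gt (K33.f483564 IH) (Lpr_dt (K60.f96146 IH) (Lpe (K60.f522800 IH) (Lpr_df (K60.f529569 IH) (Lpe (K60.f529559 IH) (Lpe (K60.f518373 IH) (Lpn (LP (LK LD1_c14 LD2_c14 LD3_c54)))))))))))))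
theorem f804216 : Led Lsl_bf (LP (LK LD1_c20 LD2_c27 LD3_c27)) = (LP (LK LD1_c14 LD2_c14 LD3_c54)) :=
  Lgr Lrot96 (Lpr_et (f112191 IH) (Lpq (f804209 IH) (Lpe (f789830 IH) (Lpr_et (f529571 IH) (Lpn (LP (LK LD1_c14 LD2_c14 LD3_c54)))))))
theorem f654669 : Led Lsl_af (LP (LK LD1_c6 LD2_c52 LD3_c19)) = (LP (LK LD1_c7 LD2_c4 LD3_c18)) :=
  Lgr Lrot68 (Lpr_ct (K28.f90862 IH) (Lpr_at (K46.f654665 IH) (Lpr_ct (K28.f98732 IH) (Lpn (LP (LK LD1_c7 LD2_c4 LD3_c18))))))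
theorem f804218 : Led Lsl_at (LP (LK LD1_c20 LD2_c27 LD3_c27)) = (LP (LK LD1_c13 LD2_c24 LD3_c18)) :=
  Lgr Lrot67 (Lpr_bf (f804216 IH) (Lpe (K60.f654909 IH) (Lpe (K28.f15827 IH) (Lpr_af (f654669 IH) (Lpe (K28.f458463 IH) (Lpn (LP (LK LD1_c13 LD2_c24 LD3_c18))))))))
theorem f458466 : Led Lsl_ct (LP (LK LD1_c13 LD2_c24 LD3_c18)) = (LP (LK LD1_c7 LD2_c46 LD3_c20)) :=
  Lgr Lrot59 (Lpr_cf (K28.f458460 IH) (Lpn (LP (LK LD1_c7 LD2_c46 LD3_c20))))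
theorem f64248 : Led Lsl_at (LP (LK LD1_c7 LD2_c46 LD3_c20)) = (LP (LK LD1_c14 LD2_c39 LD3_c28)) :=
  Lre_a IH (LK LD1_c7 LD2_c46 LD3_c20) (LK LD1_c14 LD2_c39 LD3_c28) Lrfl Lrfl
theorem f804222 : Led Lsl_cf (LP (LK LD1_c20 LD2_c27 LD3_c27)) = (LP (LK LD1_c14 LD2_c39 LD3_c28)) :=
  Lgr Lrot1 (Lpr_at (f804218 IH) (Lpr_ct (f458466 IH) (Lpr_at (f64248 IH) (Lpn (LP (LK LD1_c14 LD2_c39 LD3_c28))))))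
theorem f24168 : Led Lsl_ct (LP (LK LD1_c11 LD2_c30 LD3_c12)) = (LP (LK LD1_c20 LD2_c27 LD3_c25)) :=
  Lre_c IH (LK LD1_c11 LD2_c30 LD3_c12) (LK LD1_c20 LD2_c27 LD3_c25) Lrfl Lrfl
theorem f804226 : Led Lsl_et (LP (LK LD1_c20 LD2_c27 LD3_c25)) = (LP (LK LD1_c14 LD2_c39 LD3_c28)) :=
  Lgr Lrot158 (Lpe (f24168 IH) (Lpe (f112191 IH) (Lpr_cf (f804222 IH) (Lpn (LP (LK LD1_c14 LD2_c39 LD3_c28))))))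
theorem f804231 : Led Lsl_ef (LP (LK LD1_c20 LD2_c27 LD3_c25)) = (LP (LK LD1_c14 LD2_c39 LD3_c28)) :=
  Lgr Lrot88 (Lpr_et (f804226 IH) (Lpn (LP (LK LD1_c14 LD2_c39 LD3_c28))))
theorem f785675 : Led Lsl_dt (LP (LK LD1_c14 LD2_c39 LD3_c28)) = (LP (LK LD1_c7 LD2_c46 LD3_c18)) :=
  Lre_d IH (LK LD1_c14 LD2_c39 LD3_c28) (LK LD1_c7 LD2_c46 LD3_c18) Lrfl Lrfl
theorem f477449 : Led Lsl_bt (LP (LK LD1_c7 LD2_c34 LD3_c47)) = (LP (LK LD1_c14 LD2_c17 LD3_c39)) :=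
  Lre_b IH (LK LD1_c7 LD2_c34 LD3_c47) (LK LD1_c14 LD2_c17 LD3_c39) Lrfl Lrfl
theorem f481905 : Led Lsl_et (LP (LK LD1_c14 LD2_c17 LD3_c39)) = (LP (LK LD1_c14 LD2_c1 LD3_c22)) :=
  Lgr Lrot74 (Lpe (f477449 IH) (Lpr_ef (K48.f481902 IH) (Lpe (K62.f481904 IH) (Lpn (LP (LK LD1_c14 LD2_c1 LD3_c22))))))
theorem f11241 : Led Lsl_bt (LP (LK LD1_c7 LD2_c36 LD3_c58)) = (LP (LK LD1_c3 LD2_c47 LD3_c58)) :=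
  Lre_b IH (LK LD1_c7 LD2_c36 LD3_c58) (LK LD1_c3 LD2_c47 LD3_c58) Lrfl Lrfl
theorem f477839 : Led Lsl_dt (LP (LK LD1_c14 LD2_c17 LD3_c39)) = (LP (LK LD1_c7 LD2_c36 LD3_c58)) :=
  Lgr Lrot79 (Lpe (f477449 IH) (Lpr_df (K46.f477424 IH) (Lpe (f11241 IH) (Lpn (LP (LK LD1_c7 LD2_c36 LD3_c58))))))
theorem f785666 : Led Lsl_gf (LP (LK LD1_c7 LD2_c36 LD3_c58)) = (LP (LK LD1_c14 LD2_c18 LD3_c33)) :=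
  Lgr Lrot145 (Lpe (f477839 IH) (Lpr_et (f481905 IH) (Lpr_gt (K60.f785662 IH) (Lpe (K43.f501756 IH) (Lpr_gt (K43.f136532 IH) (Lpe (K43.f136531 IH) (Lpr_et (K29.f136523 IH) (Lpr_gt (K6.f136527 IH) (Lpe (K36.f112949 IH) (Lpr_dt (K36.f112950 IH) (Lpn (LP (LK LD1_c14 LD2_c18 LD3_c33)))))))))))))
theorem f492497 : Led Lsl_dt (LP (LK LD1_c7 LD2_c45 LD3_c60)) = (LP (LK LD1_c3 LD2_c52 LD3_c4)) :=
  Lre_d IH (LK LD1_c7 LD2_c45 LD3_c60) (LK LD1_c3 LD2_c52 LD3_c4) Lrfl Lrfl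
theorem f564747 : Led Lsl_ft (LP (LK LD1_c14 LD2_c18 LD3_c33)) = (LP (LK LD1_c7 LD2_c45 LD3_c60)) :=
  Lgr Lrot54 (Lpe (K36.f112950 IH) (Lpr_ff (K41.f564741 IH) (Lpe (f492497 IH) (Lpn (LP (LK LD1_c7 LD2_c45 LD3_c60))))))
theorem f493258 : Led Lsl_dt (LP (LK LD1_c14 LD2_c21 LD3_c14)) = (LP (LK LD1_c7 LD2_c36 LD3_c47)) :=
  Lre_d IH (LK LD1_c14 LD2_c21 LD3_c14) (LK LD1_c7 LD2_c36 LD3_c47) Lrfl Lrfl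
theorem f564737 : Led Lsl_af (LP (LK LD1_c14 LD2_c21 LD3_c14)) = (LP (LK LD1_c7 LD2_c45 LD3_c60)) :=
  Lgr Lrot117 (Lpr_dt (f493258 IH) (Lpr_at (K41.f564731 IH) (Lpr_dt (K41.f492494 IH) (Lpn (LP (LK LD1_c7 LD2_c45 LD3_c60))))))
theorem f785668 : Led Lsl_gt (LP (LK LD1_c7 LD2_c36 LD3_c58)) = (LP (LK LD1_c14 LD2_c21 LD3_c14)) :=
  Lgr Lrot46 (Lpr_gf (f785666 IH) (Lpr_ft (f564747 IH) (Lpe (f564737 IH) (Lpn (LP (LK LD1_c14 LD2_c21 LD3_c14))))))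
theorem f451324 : Led Lsl_bt (LP (LK LD1_c3 LD2_c52 LD3_c15)) = (LP (LK LD1_c1 LD2_c52 LD3_c48)) :=
  Lre_b IH (LK LD1_c3 LD2_c52 LD3_c15) (LK LD1_c1 LD2_c52 LD3_c48) Lrfl Lrfl
theorem f463972 : Led Lsl_bt (LP (LK LD1_c3 LD2_c47 LD3_c58)) = (LP (LK LD1_c7 LD2_c36 LD3_c58)) :=
  Lre_b IH (LK LD1_c3 LD2_c47 LD3_c58) (LK LD1_c7 LD2_c36 LD3_c58) Lrfl Lrfl
theorem f655364 : Led Lsl_ff (LP (LK LD1_c3 LD2_c52 LD3_c15)) = (LP (LK LD1_c7 LD2_c36 LD3_c58)) :=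
  Lgr Lrot25 (Lpr_bt (f451324 IH) (Lpr_ft (K46.f530408 IH) (Lpq (K46.f655359 IH) (Lpr_bt (f463972 IH) (Lpn (LP (LK LD1_c7 LD2_c36 LD3_c58)))))))
theorem f530419 : Led Lsl_at (LP (LK LD1_c3 LD2_c52 LD3_c15)) = (LP (LK LD1_c7 LD2_c46 LD3_c18)) :=
  Lre_a IH (LK LD1_c3 LD2_c52 LD3_c15) (LK LD1_c7 LD2_c46 LD3_c18) Lrfl Lrfl
theorem f785670 : Led Lsl_gf (LP (LK LD1_c7 LD2_c46 LD3_c18)) = (LP (LK LD1_c14 LD2_c21 LD3_c14)) :=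
  Lgr Lrot76 (Lpe (f530419 IH) (Lpr_ff (f655364 IH) (Lpr_gt (f785668 IH) (Lpn (LP (LK LD1_c14 LD2_c21 LD3_c14))))))
theorem f564727 : Led Lsl_ff (LP (LK LD1_c14 LD2_c21 LD3_c14)) = (LP (LK LD1_c7 LD2_c41 LD3_c52)) :=
  Lgr Lrot19 (Lpr_dt (f493258 IH) (Lpr_ft (K41.f564527 IH) (Lpr_dt (K8.f136351 IH) (Lpn (LP (LK LD1_c7 LD2_c41 LD3_c52))))))
theorem f564729 : Led Lsl_ft (LP (LK LD1_c14 LD2_c21 LD3_c14)) = (LP (LK LD1_c7 LD2_c41 LD3_c52)) :=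
  Lgr Lrot48 (Lpr_ff (f564727 IH) (Lpn (LP (LK LD1_c7 LD2_c41 LD3_c52))))
theorem f785672 : Led Lsl_gt (LP (LK LD1_c7 LD2_c46 LD3_c18)) = (LP (LK LD1_c14 LD2_c18 LD3_c33)) :=
  Lgr Lrot46 (Lpr_gf (f785670 IH) (Lpr_ft (f564729 IH) (Lpr_at (K36.f501838 IH) (Lpn (LP (LK LD1_c14 LD2_c18 LD3_c33))))))
theorem f157606 : Led Lsl_et (LP (LK LD1_c5 LD2_c58 LD3_c40)) = (LP (LK LD1_c11 LD2_c41 LD3_c47)) :=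
  Lre_e IH (LK LD1_c5 LD2_c58 LD3_c40) (LK LD1_c11 LD2_c41 LD3_c47) Lrfl Lrfl
theorem f804238 : Led Lsl_gf (LP (LK LD1_c20 LD2_c27 LD3_c25)) = (LP (LK LD1_c11 LD2_c41 LD3_c47)) :=
  Lgr Lrot141 (Lpr_ef (f804231 IH) (Lpr_dt (f785675 IH) (Lpr_gt (f785672 IH) (Lpe (K36.f112950 IH) (Lpr_et (K36.f112949 IH) (Lpr_gt (K6.f15206 IH) (Lpe (K5.f112106 IH) (Lpr_gt (K8.f157598 IH) (Lpe (K8.f124068 IH) (Lpr_et (f157606 IH) (Lpn (LP (LK LD1_c11 LD2_c41 LD3_c47)))))))))))))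
theorem f578384 : Led Lsl_gf (LP (LK LD1_c13 LD2_c18 LD3_c3)) = (LP (LK LD1_c13 LD2_c38 LD3_c61)) :=
  Lgr Lrot47 (Lpr_gt (K43.f578378 IH) (Lpe (K34.f476564 IH) (Lpe (K41.f514137 IH) (Lpn (LP (LK LD1_c13 LD2_c38 LD3_c61))))))
theorem f804240 : Led Lsl_bf (LP (LK LD1_c20 LD2_c27 LD3_c25)) = (LP (LK LD1_c13 LD2_c19 LD3_c1)) :=
  Lgr Lrot34 (Lpr_gf (f804238 IH) (Lpe (K36.f426552 IH) (Lpe (K28.f426650 IH) (Lpr_gf (f578384 IH) (Lpr_cf (K47.f514128 IH) (Lpe (K37.f419741 IH) (Lpe (K28.f419654 IH) (Lpe (K73.f468179 IH) (Lpr_gf (K35.f488315 IH) (Lpr_cf (K61.f533638 IH) (Lpn (LP (LK LD1_c13 LD2_c19 LD3_c1)))))))))))))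
theorem f654923 : Led Lsl_ft (LP (LK LD1_c21 LD2_c41 LD3_c14)) = (LP (LK LD1_c13 LD2_c19 LD3_c1)) :=
  Lgr Lrot4 (Lpe (K43.f533330 IH) (Lpr_ff (K46.f654921 IH) (Lpr_cf (K61.f533638 IH) (Lpn (LP (LK LD1_c13 LD2_c19 LD3_c1))))))
theorem f804242 : Led Lsl_ft (LP (LK LD1_c20 LD2_c27 LD3_c25)) = (LP (LK LD1_c13 LD2_c19 LD3_c34)) :=
  Lgr Lrot75 (Lpr_bf (f804240 IH) (Lpe (f654923 IH) (Lpe (K62.f575238 IH) (Lpn (LP (LK LD1_c13 LD2_c19 LD3_c34))))))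
theorem f804244 : Led Lsl_ff (LP (LK LD1_c11 LD2_c30 LD3_c12)) = (LP (LK LD1_c13 LD2_c5 LD3_c26)) :=
  Lgr Lrot23 (Lpr_ct (f24168 IH) (Lpr_ft (f804242 IH) (Lpr_ct (K62.f801960 IH) (Lpn (LP (LK LD1_c13 LD2_c5 LD3_c26))))))
theorem f804252 : Led Lsl_ft (LP (LK LD1_c11 LD2_c30 LD3_c12)) = (LP (LK LD1_c13 LD2_c5 LD3_c26)) :=
  Lgr Lrot48 (Lpr_ff (f804244 IH) (Lpn (LP (LK LD1_c13 LD2_c5 LD3_c26))))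
theorem f804254 : Led Lsl_af K62.v20713 = (LP (LK LD1_c13 LD2_c5 LD3_c26)) :=
  Lgr Lrot45 (Lpe (K62.f789348 IH) (Lpr_at (f789828 IH) (Lpqs (f804209 IH) (Lpr_ft (f804252 IH) (Lpn (LP (LK LD1_c13 LD2_c5 LD3_c26)))))))
theorem f115888 : Led Lsl_dt (LP (LK LD1_c22 LD2_c16 LD3_c13)) = (LP (LK LD1_c13 LD2_c5 LD3_c26)) :=
  Lre_d IH (LK LD1_c22 LD2_c16 LD3_c13) (LK LD1_c13 LD2_c5 LD3_c26) Lrfl Lrfl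
theorem f965271 : Led Lsl_af (LP (LK LD1_c22 LD2_c16 LD3_c13)) = v48383 :=
  Lgr Lrot117 (Lpr_dt (f115888 IH) (Lpe (f804254 IH) (Lpqs (K62.f801904 IH) (Lpr_dt (f965270 IH) (Lpn v48383)))))
theorem f965278 : Led Lsl_gt (LP (LK LD1_c22 LD2_c40 LD3_c27)) = (LP (LK LD1_c22 LD2_c16 LD3_c13)) :=
  Lgr Lrot46 (Lpr_gf (K61.f789821 IH) (Lpr_ft (f965277 IH) (Lpe (f965271 IH) (Lpn (LP (LK LD1_c22 LD2_c16 LD3_c13))))))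
theorem f965279 : Led Lsl_gt (LP (LK LD1_c22 LD2_c40 LD3_c27)) = (LP (LK LD1_c22 LD2_c16 LD3_c13)) :=
  Leop (Lpe (f965278 IH) (Lpn (LP (LK LD1_c22 LD2_c40 LD3_c27))))
theorem seed_2911 : LEOK LG_g (LK LD1_c22 LD2_c40 LD3_c27) :=
  Leoe_g (LK LD1_c22 LD2_c40 LD3_c27) (f965279 IH)
def v48394 : LQ := Led Lsl_ft (LP (LK LD1_c11 LD2_c30 LD3_c19))
theorem f965333 : Led Lsl_ft (LP (LK LD1_c11 LD2_c30 LD3_c19)) = v48394 :=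
  Lrfl
theorem f643344 : Led Lsl_bt (LP (LK LD1_c17 LD2_c12 LD3_c19)) = (LP (LK LD1_c9 LD2_c17 LD3_c13)) :=
  Lre_b IH (LK LD1_c17 LD2_c12 LD3_c19) (LK LD1_c9 LD2_c17 LD3_c13) Lrfl Lrfl
theorem f713748 : Led Lsl_et (LP (LK LD1_c17 LD2_c12 LD3_c19)) = (LP (LK LD1_c9 LD2_c17 LD3_c11)) :=
  Lre_e IH (LK LD1_c17 LD2_c12 LD3_c19) (LK LD1_c9 LD2_c17 LD3_c11) Lrfl Lrfl
theorem f713749 : Led Lsl_et (LP (LK LD1_c11 LD2_c30 LD3_c0)) = (LP (LK LD1_c20 LD2_c27 LD3_c12)) :=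
  Lre_e IH (LK LD1_c11 LD2_c30 LD3_c0) (LK LD1_c20 LD2_c27 LD3_c12) Lrfl Lrfl
theorem f713750 : Led Lsl_cf (LP (LK LD1_c17 LD2_c12 LD3_c19)) = (LP (LK LD1_c20 LD2_c27 LD3_c12)) :=
  Lgr Lrot39 (Lpr_et (f713748 IH) (Lpr_ct (K53.f713743 IH) (Lpr_et (f713749 IH) (Lpn (LP (LK LD1_c20 LD2_c27 LD3_c12))))))
theorem f713788 : Led Lsl_ct (LP (LK LD1_c17 LD2_c12 LD3_c19)) = (LP (LK LD1_c20 LD2_c27 LD3_c12)) :=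
  Lgr Lrot59 (Lpr_cf (f713750 IH) (Lpn (LP (LK LD1_c20 LD2_c27 LD3_c12))))
theorem f643513 : Led Lsl_bf (LP (LK LD1_c11 LD2_c45 LD3_c11)) = (LP (LK LD1_c6 LD2_c2 LD3_c41)) :=
  Lgr Lrot24 (Lpr_bt (K50.f643511 IH) (Lpn (LP (LK LD1_c6 LD2_c2 LD3_c41))))
theorem f615525 : Led Lsl_ct (LP (LK LD1_c5 LD2_c51 LD3_c28)) = (LP (LK LD1_c11 LD2_c30 LD3_c19)) :=
  Lre_c IH (LK LD1_c5 LD2_c51 LD3_c28) (LK LD1_c11 LD2_c30 LD3_c19) Lrfl Lrfl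
theorem f825498 : Led Lsl_gf (LP (LK LD1_c20 LD2_c27 LD3_c12)) = (LP (LK LD1_c11 LD2_c30 LD3_c19)) :=
  Lgr Lrot129 (Lpe (f713788 IH) (Lpr_bt (f643344 IH) (Lpqs (K65.f825495 IH) (Lpe (K65.f748942 IH) (Lpr_bf (f643513 IH) (Lpe (K29.f444003 IH) (Lpr_gt (K32.f503641 IH) (Lpe (K41.f535810 IH) (Lpe (K55.f710440 IH) (Lpr_gt (K55.f615496 IH) (Lpr_ct (f615525 IH) (Lpn (LP (LK LD1_c11 LD2_c30 LD3_c19))))))))))))))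
def v48362 : LQ := Led Lsl_et (LP (LK LD1_c11 LD2_c29 LD3_c37))
theorem f965111 : Led Lsl_et (LP (LK LD1_c11 LD2_c29 LD3_c37)) = v48362 :=
  Lrfl
theorem f713219 : Led Lsl_et (LP (LK LD1_c11 LD2_c30 LD3_c19)) = (LP (LK LD1_c5 LD2_c51 LD3_c26)) :=
  Lre_e IH (LK LD1_c11 LD2_c30 LD3_c19) (LK LD1_c5 LD2_c51 LD3_c26) Lrfl Lrfl
theorem f965112 : Led Lsl_af (LP (LK LD1_c11 LD2_c30 LD3_c19)) = v48362 :=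
  Lgr Lrot50 (Lpr_et (f713219 IH) (Lpe (K55.f713215 IH) (Lpr_et (f965111 IH) (Lpn v48362))))
theorem f965114 : Led Lsl_ef (LP (LK LD1_c11 LD2_c29 LD3_c37)) = v48362 :=
  Lgr Lrot88 (Lpr_et (f965111 IH) (Lpn v48362))
theorem f965116 : Led Lsl_ct (LP (LK LD1_c11 LD2_c29 LD3_c39)) = v48362 :=
  Lgr Lrot15 (Lpe (K53.f699528 IH) (Lpe (K55.f22365 IH) (Lpr_ef (f965114 IH) (Lpn v48362))))
theorem f615493 : Led Lsl_ct (LP (LK LD1_c16 LD2_c57 LD3_c49)) = (LP (LK LD1_c9 LD2_c5 LD3_c61)) :=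
  Lre_c IH (LK LD1_c16 LD2_c57 LD3_c49) (LK LD1_c9 LD2_c5 LD3_c61) Lrfl Lrfl
theorem f965117 : Led Lsl_ff (LP (LK LD1_c16 LD2_c57 LD3_c49)) = v48362 :=
  Lgr Lrot23 (Lpr_ct (f615493 IH) (Lpr_ft (K53.f713114 IH) (Lpr_ct (f965116 IH) (Lpn v48362))))
theorem f965119 : Led Lsl_ft (LP (LK LD1_c16 LD2_c57 LD3_c49)) = v48362 :=
  Lgr Lrot48 (Lpr_ff (f965117 IH) (Lpn v48362))
theorem f965334 : Led Lsl_af (LP (LK LD1_c16 LD2_c57 LD3_c49)) = v48394 :=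
  Lgr Lrot45 (Lpr_ft (f965119 IH) (Lpe (f965112 IH) (Lpr_ft (f965333 IH) (Lpn v48394))))
theorem f965337 : Led Lsl_gt (LP (LK LD1_c20 LD2_c27 LD3_c12)) = (LP (LK LD1_c16 LD2_c57 LD3_c49)) :=
  Lgr Lrot46 (Lpr_gf (f825498 IH) (Lpr_ft (f965333 IH) (Lpe (f965334 IH) (Lpn (LP (LK LD1_c16 LD2_c57 LD3_c49))))))
theorem f965338 : Led Lsl_gt (LP (LK LD1_c20 LD2_c27 LD3_c12)) = (LP (LK LD1_c16 LD2_c57 LD3_c49)) :=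
  Leop (Lpe (f965337 IH) (Lpn (LP (LK LD1_c20 LD2_c27 LD3_c12))))
theorem seed_2912 : LEOK LG_g (LK LD1_c20 LD2_c27 LD3_c12) :=
  Leoe_g (LK LD1_c20 LD2_c27 LD3_c12) (f965338 IH)
theorem f699589 : Led Lsl_cf (LP (LK LD1_c4 LD2_c34 LD3_c33)) = K50.v12918 :=
  Lgr Lrot11 (Lpr_ct (K50.f699588 IH) (Lpn K50.v12918))
theorem f501821 : Led Lsl_ct (LP (LK LD1_c6 LD2_c0 LD3_c2)) = (LP (LK LD1_c11 LD2_c44 LD3_c31)) :=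
  Lre_c IH (LK LD1_c6 LD2_c0 LD3_c2) (LK LD1_c11 LD2_c44 LD3_c31) Lrfl Lrfl
theorem f700927 : Led Lsl_gf K50.v12918 = (LP (LK LD1_c11 LD2_c44 LD3_c31)) :=
  Lgr Lrot126 (Lpe (K50.f699588 IH) (Lpr_bt (K50.f699574 IH) (Lpr_gt (K69.f700917 IH) (Lpr_ct (K42.f443705 IH) (Lpr_gt (K45.f614961 IH) (Lpe (K45.f204220 IH) (Lpr_bt (K45.f643406 IH) (Lpr_gt (K45.f76131 IH) (Lpe (K42.f559373 IH) (Lpr_ct (f501821 IH) (Lpn (LP (LK LD1_c11 LD2_c44 LD3_c31)))))))))))))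
theorem f965339 : Led Lsl_gf (LP (LK LD1_c17 LD2_c12 LD3_c19)) = K66.v30233 :=
  Lgr Lrot147 (Lpr_ct (f713788 IH) (Lpr_gt (f965337 IH) (Lpr_ct (f615493 IH) (Lpe (K50.f92163 IH) (Lpr_cf (f699589 IH) (Lpr_gf (f700927 IH) (Lpe (f501821 IH) (Lpe (K70.f501823 IH) (Lpr_df (K66.f853485 IH) (Lpn K66.v30233))))))))))
theorem f853488 : Led Lsl_ff (LP (LK LD1_c11 LD2_c44 LD3_c40)) = K66.v30233 :=
  Lgr Lrot3 (Lpr_ft (K66.f853487 IH) (Lpn K66.v30233))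
theorem f644129 : Led Lsl_dt (LP (LK LD1_c17 LD2_c7 LD3_c49)) = (LP (LK LD1_c9 LD2_c13 LD3_c25)) :=
  Lre_d IH (LK LD1_c17 LD2_c7 LD3_c49) (LK LD1_c9 LD2_c13 LD3_c25) Lrfl Lrfl
theorem f853438 : Led Lsl_af (LP (LK LD1_c17 LD2_c7 LD3_c49)) = (LP (LK LD1_c11 LD2_c44 LD3_c40)) :=
  Lgr Lrot117 (Lpr_dt (f644129 IH) (Lpqs (K66.f853307 IH) (Lpe (K66.f749270 IH) (Lpr_dt (K66.f76158 IH) (Lpn (LP (LK LD1_c11 LD2_c44 LD3_c40)))))))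
theorem f965340 : Led Lsl_gt (LP (LK LD1_c17 LD2_c12 LD3_c19)) = (LP (LK LD1_c17 LD2_c7 LD3_c49)) :=
  Lgr Lrot46 (Lpr_gf (f965339 IH) (Lpe (f853488 IH) (Lpe (f853438 IH) (Lpn (LP (LK LD1_c17 LD2_c7 LD3_c49))))))
theorem f965341 : Led Lsl_gt (LP (LK LD1_c17 LD2_c12 LD3_c19)) = (LP (LK LD1_c17 LD2_c7 LD3_c49)) :=
  Leop (Lpe (f965340 IH) (Lpn (LP (LK LD1_c17 LD2_c12 LD3_c19))))
theorem seed_2913 : LEOK LG_g (LK LD1_c17 LD2_c12 LD3_c19) :=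
  Leoe_g (LK LD1_c17 LD2_c12 LD3_c19) (f965341 IH)
def v48407 : LQ := Led Lsl_ft (LP (LK LD1_c11 LD2_c30 LD3_c27))
theorem f965399 : Led Lsl_ft (LP (LK LD1_c11 LD2_c30 LD3_c27)) = v48407 :=
  Lrfl
theorem f621202 : Led Lsl_et (LP (LK LD1_c5 LD2_c51 LD3_c29)) = (LP (LK LD1_c11 LD2_c30 LD3_c27)) :=
  Lre_e IH (LK LD1_c5 LD2_c51 LD3_c29) (LK LD1_c11 LD2_c30 LD3_c27) Lrfl Lrfl
theorem f713105 : Led Lsl_ff (LP (LK LD1_c17 LD2_c57 LD3_c48)) = (LP (LK LD1_c16 LD2_c57 LD3_c47)) :=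
  Lgr Lrot19 (Lpe (K50.f644225 IH) (Lpr_ft (K53.f713103 IH) (Lpr_dt (K53.f669593 IH) (Lpn (LP (LK LD1_c16 LD2_c57 LD3_c47))))))
theorem f965402 : Led Lsl_ef (LP (LK LD1_c16 LD2_c57 LD3_c47)) = v48407 :=
  Lgr Lrot21 (Lpe (f713105 IH) (Lpr_et (K50.f149887 IH) (Lpe (K56.f713125 IH) (Lpr_et (f621202 IH) (Lpr_ft (f965399 IH) (Lpn v48407))))))
theorem f643768 : Led Lsl_dt (LP (LK LD1_c12 LD2_c43 LD3_c30)) = (LP (LK LD1_c12 LD2_c17 LD3_c43)) :=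
  Lgr Lrot27 (Lpe (K50.f499102 IH) (Lpr_gf (K49.f643766 IH) (Lpe (K49.f207331 IH) (Lpe (K42.f207327 IH) (Lpq (K35.f538049 IH) (Lpe (K35.f500974 IH) (Lpr_gt (K42.f69213 IH) (Lpr_ct (K42.f443703 IH) (Lpr_gt (K42.f443704 IH) (Lpe (K60.f443710 IH) (Lpn (LP (LK LD1_c12 LD2_c17 LD3_c43)))))))))))))
theorem f75502 : Led Lsl_dt (LP (LK LD1_c17 LD2_c59 LD3_c29)) = (LP (LK LD1_c27 LD2_c42 LD3_c54)) :=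
  Lre_d IH (LK LD1_c17 LD2_c59 LD3_c29) (LK LD1_c27 LD2_c42 LD3_c54) Lrfl Lrfl
theorem f902690 : Led Lsl_gf (LP (LK LD1_c20 LD2_c27 LD3_c5)) = (LP (LK LD1_c27 LD2_c42 LD3_c54)) :=
  Lgr Lrot145 (Lpe (K52.f158125 IH) (Lpr_et (K53.f713063 IH) (Lpr_gt (K69.f902688 IH) (Lpr_dt (K69.f669589 IH) (Lpr_gt (K69.f700917 IH) (Lpe (f643768 IH) (Lpe (K69.f499100 IH) (Lpr_gt (K67.f498240 IH) (Lpe (K69.f75501 IH) (Lpr_dt (f75502 IH) (Lpn (LP (LK LD1_c27 LD2_c42 LD3_c54)))))))))))))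
theorem f740471 : Led Lsl_et (LP (LK LD1_c6 LD2_c39 LD3_c23)) = (LP (LK LD1_c12 LD2_c44 LD3_c30)) :=
  Lre_e IH (LK LD1_c6 LD2_c39 LD3_c23) (LK LD1_c12 LD2_c44 LD3_c30) Lrfl Lrfl
def v19175 : LQ := Led Lsl_dt (LP (LK LD1_c6 LD2_c39 LD3_c23))
theorem f778238 : Led Lsl_dt (LP (LK LD1_c6 LD2_c39 LD3_c23)) = v19175 :=
  Lrfl
theorem f710236 : Led Lsl_bt (LP (LK LD1_c11 LD2_c30 LD3_c27)) = (LP (LK LD1_c5 LD2_c51 LD3_c32)) :=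
  Lre_b IH (LK LD1_c11 LD2_c30 LD3_c27) (LK LD1_c5 LD2_c51 LD3_c32) Lrfl Lrfl
theorem f710237 : Led Lsl_bt (LP (LK LD1_c6 LD2_c47 LD3_c21)) = (LP (LK LD1_c12 LD2_c57 LD3_c44)) :=
  Lre_b IH (LK LD1_c6 LD2_c47 LD3_c21) (LK LD1_c12 LD2_c57 LD3_c44) Lrfl Lrfl
theorem f710238 : Led Lsl_df (LP (LK LD1_c11 LD2_c30 LD3_c27)) = (LP (LK LD1_c12 LD2_c57 LD3_c44)) :=
  Lgr Lrot12 (Lpr_bt (f710236 IH) (Lpr_dt (K51.f710234 IH) (Lpr_bt (f710237 IH) (Lpn (LP (LK LD1_c12 LD2_c57 LD3_c44))))))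
theorem f744633 : Led Lsl_bt (LP (LK LD1_c9 LD2_c32 LD3_c15)) = (LP (LK LD1_c17 LD2_c34 LD3_c28)) :=
  Lre_b IH (LK LD1_c9 LD2_c32 LD3_c15) (LK LD1_c17 LD2_c34 LD3_c28) Lrfl Lrfl
theorem f744634 : Led Lsl_ft (LP (LK LD1_c17 LD2_c34 LD3_c28)) = (LP (LK LD1_c12 LD2_c57 LD3_c44)) :=
  Lgr Lrot75 (Lpe (f744633 IH) (Lpr_ff (K56.f744631 IH) (Lpe (K55.f417142 IH) (Lpn (LP (LK LD1_c12 LD2_c57 LD3_c44))))))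
theorem f965401 : Led Lsl_df (LP (LK LD1_c17 LD2_c34 LD3_c28)) = v48407 :=
  Lgr Lrot78 (Lpr_ft (f744634 IH) (Lpe (f710238 IH) (Lpr_ft (f965399 IH) (Lpn v48407))))
theorem f965407 : Led Lsl_gf v19175 = (LP (LK LD1_c17 LD2_c34 LD3_c28)) :=
  Lgr Lrot145 (Lpe (f778238 IH) (Lpr_et (f740471 IH) (Lpe (K69.f778336 IH) (Lpr_dt (f75502 IH) (Lpe (f902690 IH) (Lpe (K52.f158125 IH) (Lpr_et (K53.f713063 IH) (Lpr_gt (K69.f902688 IH) (Lpr_ef (f965402 IH) (Lpe (f965401 IH) (Lpn (LP (LK LD1_c17 LD2_c34 LD3_c28)))))))))))))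
theorem f913783 : Led Lsl_af (LP (LK LD1_c18 LD2_c1 LD3_c37)) = v19175 :=
  Lgr Lrot117 (Lpr_dt (K55.f76986 IH) (Lpq (K70.f913496 IH) (Lpe (K70.f778224 IH) (Lpr_dt (f778238 IH) (Lpn v19175)))))
theorem f913784 : Led Lsl_at (LP (LK LD1_c18 LD2_c1 LD3_c37)) = v19175 :=
  Lgr Lrot100 (Lpr_af (f913783 IH) (Lpn v19175))
theorem f913771 : Led Lsl_ff (LP (LK LD1_c12 LD2_c44 LD3_c40)) = (LP (LK LD1_c18 LD2_c1 LD3_c37)) :=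
  Lgr Lrot19 (Lpr_dt (K69.f413696 IH) (Lpr_ft (K70.f778227 IH) (Lpqs (K70.f913496 IH) (Lpr_dt (K55.f77013 IH) (Lpn (LP (LK LD1_c18 LD2_c1 LD3_c37)))))))
theorem f913775 : Led Lsl_ft (LP (LK LD1_c12 LD2_c44 LD3_c40)) = (LP (LK LD1_c18 LD2_c1 LD3_c37)) :=
  Lgr Lrot48 (Lpr_ff (f913771 IH) (Lpn (LP (LK LD1_c18 LD2_c1 LD3_c37))))
theorem f965408 : Led Lsl_gt (LP (LK LD1_c12 LD2_c44 LD3_c40)) = (LP (LK LD1_c17 LD2_c34 LD3_c28)) :=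
  Lgr Lrot5 (Lpr_ft (f913775 IH) (Lpr_at (f913784 IH) (Lpr_gf (f965407 IH) (Lpn (LP (LK LD1_c17 LD2_c34 LD3_c28))))))
theorem f965409 : Led Lsl_gt (LP (LK LD1_c12 LD2_c44 LD3_c40)) = (LP (LK LD1_c17 LD2_c34 LD3_c28)) :=
  Leop (Lpe (f965408 IH) (Lpn (LP (LK LD1_c12 LD2_c44 LD3_c40))))
theorem seed_2914 : LEOK LG_g (LK LD1_c12 LD2_c44 LD3_c40) :=
  Leoe_g (LK LD1_c12 LD2_c44 LD3_c40) (f965409 IH)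
def v48422 : LQ := Led Lsl_et (LP (LK LD1_c11 LD2_c30 LD3_c37))
theorem f965471 : Led Lsl_et (LP (LK LD1_c11 LD2_c30 LD3_c37)) = v48422 :=
  Lrfl
theorem f156979 : Led Lsl_et (LP (LK LD1_c1 LD2_c35 LD3_c28)) = (LP (LK LD1_c0 LD2_c44 LD3_c19)) :=
  Lre_e IH (LK LD1_c1 LD2_c35 LD3_c28) (LK LD1_c0 LD2_c44 LD3_c19) Lrfl Lrfl
theorem f156980 : Led Lsl_dt (LP (LK LD1_c1 LD2_c35 LD3_c28)) = (LP (LK LD1_c3 LD2_c17 LD3_c56)) :=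
  Lre_d IH (LK LD1_c1 LD2_c35 LD3_c28) (LK LD1_c3 LD2_c17 LD3_c56) Lrfl Lrfl
theorem f156981 : Led Lsl_gt (LP (LK LD1_c6 LD2_c39 LD3_c31)) = (LP (LK LD1_c3 LD2_c17 LD3_c56)) :=
  Lre_g IH (LK LD1_c6 LD2_c39 LD3_c31) (LK LD1_c3 LD2_c17 LD3_c56) Lrfl Lrfl
theorem f156982 : Led Lsl_dt (LP (LK LD1_c12 LD2_c44 LD3_c53)) = (LP (LK LD1_c6 LD2_c39 LD3_c31)) :=
  Lre_d IH (LK LD1_c12 LD2_c44 LD3_c53) (LK LD1_c6 LD2_c39 LD3_c31) Lrfl Lrfl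
theorem f156983 : Led Lsl_ef (LP (LK LD1_c17 LD2_c3 LD3_c1)) = (LP (LK LD1_c12 LD2_c44 LD3_c53)) :=
  Lgr Lrot17 (Lpe (K42.f99959 IH) (Lpe (K42.f99920 IH) (Lpr_dt (K8.f156966 IH) (Lpe (K8.f156960 IH) (Lpe (K8.f132534 IH) (Lpe (K7.f26508 IH) (Lpe (f156979 IH) (Lpr_dt (f156980 IH) (Lpe (f156981 IH) (Lpe (f156982 IH) (Lpn (LP (LK LD1_c12 LD2_c44 LD3_c53)))))))))))))
theorem f965474 : Led Lsl_cf (LP (LK LD1_c12 LD2_c44 LD3_c53)) = v48422 :=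
  Lgr Lrot39 (Lpe (f156983 IH) (Lpe (K73.f444271 IH) (Lpr_et (f965471 IH) (Lpn v48422))))
theorem f965473 : Led Lsl_bf K71.v16012 = v48422 :=
  Lgr Lrot96 (Lpe (K71.f744807 IH) (Lpr_bt (K56.f444270 IH) (Lpr_et (f965471 IH) (Lpn v48422))))
theorem f622892 : Led Lsl_ef (LP (LK LD1_c12 LD2_c25 LD3_c49)) = (LP (LK LD1_c11 LD2_c30 LD3_c60)) :=
  Lgr Lrot88 (Lpr_et (K42.f622888 IH) (Lpn (LP (LK LD1_c11 LD2_c30 LD3_c60))))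
theorem f744810 : Led Lsl_gt (LP (LK LD1_c12 LD2_c25 LD3_c49)) = K71.v16012 :=
  Lgr Lrot137 (Lpr_ef (f622892 IH) (Lpe (K45.f622890 IH) (Lpr_gf (K42.f643174 IH) (Lpe (K42.f76110 IH) (Lpr_et (K57.f76091 IH) (Lpe (K4.f40382 IH) (Lpe (K71.f76097 IH) (Lpr_dt (K71.f76098 IH) (Lpe (K71.f415227 IH) (Lpr_df (K71.f744808 IH) (Lpn K71.v16012)))))))))))
theorem f416527 : Led Lsl_bt (LP (LK LD1_c9 LD2_c7 LD3_c54)) = (LP (LK LD1_c4 LD2_c35 LD3_c43)) :=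
  Lre_b IH (LK LD1_c9 LD2_c7 LD3_c54) (LK LD1_c4 LD2_c35 LD3_c43) Lrfl Lrfl
theorem f416529 : Led Lsl_ct (LP (LK LD1_c9 LD2_c7 LD3_c54)) = (LP (LK LD1_c17 LD2_c0 LD3_c13)) :=
  Lre_c IH (LK LD1_c9 LD2_c7 LD3_c54) (LK LD1_c17 LD2_c0 LD3_c13) Lrfl Lrfl
theorem f965481 : Led Lsl_gt (LP (LK LD1_c12 LD2_c44 LD3_c53)) = (LP (LK LD1_c17 LD2_c0 LD3_c13)) :=
  Lgr Lrot65 (Lpr_cf (f965474 IH) (Lpe (f965473 IH) (Lpe (f744810 IH) (Lpe (K42.f67313 IH) (Lpr_ct (K17.f67205 IH) (Lpe (K17.f67051 IH) (Lpr_cf (K24.f414595 IH) (Lpr_gf (K24.f416520 IH) (Lpe (f416527 IH) (Lpr_ct (f416529 IH) (Lpn (LP (LK LD1_c17 LD2_c0 LD3_c13)))))))))))))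
theorem f965482 : Led Lsl_gt (LP (LK LD1_c12 LD2_c44 LD3_c53)) = (LP (LK LD1_c17 LD2_c0 LD3_c13)) :=
  Leop (Lpe (f965481 IH) (Lpn (LP (LK LD1_c12 LD2_c44 LD3_c53))))
theorem seed_2915 : LEOK LG_g (LK LD1_c12 LD2_c44 LD3_c53) :=
  Leoe_g (LK LD1_c12 LD2_c44 LD3_c53) (f965482 IH)
def v48426 : LQ := Led Lsl_bt (LP (LK LD1_c11 LD2_c30 LD3_c39))
theorem f965493 : Led Lsl_bt (LP (LK LD1_c11 LD2_c30 LD3_c39)) = v48426 :=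
  Lrfl
theorem f699041 : Led Lsl_et (LP (LK LD1_c5 LD2_c51 LD3_c37)) = (LP (LK LD1_c11 LD2_c30 LD3_c39)) :=
  Lre_e IH (LK LD1_c5 LD2_c51 LD3_c37) (LK LD1_c11 LD2_c30 LD3_c39) Lrfl Lrfl
theorem f965496 : Led Lsl_ef K70.v16014 = v48426 :=
  Lgr Lrot29 (Lpe (K70.f744816 IH) (Lpr_et (f699041 IH) (Lpr_bt (f965493 IH) (Lpn v48426))))
theorem f965499 : Led Lsl_et K70.v16014 = v48426 :=
  Lgr Lrot87 (Lpr_ef (f965496 IH) (Lpn v48426))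
theorem f752523 : Led Lsl_cf K70.v16014 = (LP (LK LD1_c12 LD2_c9 LD3_c45)) :=
  Lgr Lrot11 (Lpr_ct (K70.f752521 IH) (Lpn (LP (LK LD1_c12 LD2_c9 LD3_c45))))
theorem f137440 : Led Lsl_et (LP (LK LD1_c21 LD2_c15 LD3_c45)) = (LP (LK LD1_c12 LD2_c9 LD3_c45)) :=
  Lre_e IH (LK LD1_c21 LD2_c15 LD3_c45) (LK LD1_c12 LD2_c9 LD3_c45) Lrfl Lrfl
theorem f965500 : Led Lsl_cf (LP (LK LD1_c21 LD2_c15 LD3_c45)) = v48426 :=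
  Lgr Lrot39 (Lpr_et (f137440 IH) (Lpe (f752523 IH) (Lpr_et (f965499 IH) (Lpn v48426))))
theorem f965495 : Led Lsl_bf (LP (LK LD1_c11 LD2_c30 LD3_c39)) = v48426 :=
  Lgr Lrot24 (Lpr_bt (f965493 IH) (Lpn v48426))
theorem f825131 : Led Lsl_gt (LP (LK LD1_c11 LD2_c30 LD3_c39)) = (LP (LK LD1_c11 LD2_c27 LD3_c22)) :=
  Lgr Lrot46 (Lpr_gf (K65.f825129 IH) (Lpr_ft (K52.f644936 IH) (Lpe (K74.f644938 IH) (Lpn (LP (LK LD1_c11 LD2_c27 LD3_c22))))))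
theorem f445636 : Led Lsl_ct (LP (LK LD1_c9 LD2_c8 LD3_c46)) = (LP (LK LD1_c17 LD2_c1 LD3_c29)) :=
  Lre_c IH (LK LD1_c9 LD2_c8 LD3_c46) (LK LD1_c17 LD2_c1 LD3_c29) Lrfl Lrfl
theorem f965501 : Led Lsl_gf (LP (LK LD1_c21 LD2_c15 LD3_c45)) = (LP (LK LD1_c17 LD2_c1 LD3_c29)) :=
  Lgr Lrot129 (Lpr_cf (f965500 IH) (Lpe (f965495 IH) (Lpr_gt (f825131 IH) (Lpe (K41.f442847 IH) (Lpe (K69.f505136 IH) (Lpe (K32.f505475 IH) (Lpr_cf (K52.f505479 IH) (Lpr_bt (K69.f901299 IH) (Lpe (K69.f901294 IH) (Lpr_ct (f445636 IH) (Lpn (LP (LK LD1_c17 LD2_c1 LD3_c29)))))))))))))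
theorem f965502 : Led Lsl_gt (LP (LK LD1_c17 LD2_c1 LD3_c29)) = (LP (LK LD1_c21 LD2_c15 LD3_c45)) :=
  Leop (Lpr_gf (f965501 IH) (Lpn (LP (LK LD1_c17 LD2_c1 LD3_c29))))
theorem seed_2916 : LEOK LG_g (LK LD1_c17 LD2_c1 LD3_c29) :=
  Leoe_g (LK LD1_c17 LD2_c1 LD3_c29) (f965502 IH)
def v46542 : LQ := Led Lsl_gt (LP (LK LD1_c11 LD2_c8 LD3_c17))
theorem f954113 : Led Lsl_gt (LP (LK LD1_c11 LD2_c8 LD3_c17)) = v46542 :=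
  Lrfl
theorem f75462 : Led Lsl_et (LP (LK LD1_c9 LD2_c46 LD3_c16)) = (LP (LK LD1_c4 LD2_c57 LD3_c40)) :=
  Lre_e IH (LK LD1_c9 LD2_c46 LD3_c16) (LK LD1_c4 LD2_c57 LD3_c40) Lrfl Lrfl
theorem f104920 : Led Lsl_et (LP (LK LD1_c9 LD2_c45 LD3_c50)) = (LP (LK LD1_c17 LD2_c55 LD3_c32)) :=
  Lre_e IH (LK LD1_c9 LD2_c45 LD3_c50) (LK LD1_c17 LD2_c55 LD3_c32) Lrfl Lrfl
theorem f919654 : Led Lsl_af (LP (LK LD1_c9 LD2_c46 LD3_c16)) = (LP (LK LD1_c17 LD2_c55 LD3_c32)) :=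
  Lgr Lrot50 (Lpr_et (f75462 IH) (Lpr_at (K71.f718956 IH) (Lpqs (K71.f918965 IH) (Lpr_et (f104920 IH) (Lpn (LP (LK LD1_c17 LD2_c55 LD3_c32)))))))
theorem f919658 : Led Lsl_at (LP (LK LD1_c9 LD2_c46 LD3_c16)) = (LP (LK LD1_c17 LD2_c55 LD3_c32)) :=
  Lgr Lrot100 (Lpr_af (f919654 IH) (Lpn (LP (LK LD1_c17 LD2_c55 LD3_c32))))
def v48431 : LQ := Led Lsl_dt (LP (LK LD1_c11 LD2_c30 LD3_c44))
theorem f965532 : Led Lsl_dt (LP (LK LD1_c11 LD2_c30 LD3_c44)) = v48431 :=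
  Lrfl
theorem f140570 : Led Lsl_dt (LP (LK LD1_c11 LD2_c19 LD3_c44)) = (LP (LK LD1_c20 LD2_c16 LD3_c46)) :=
  Lre_d IH (LK LD1_c11 LD2_c19 LD3_c44) (LK LD1_c20 LD2_c16 LD3_c46) Lrfl Lrfl
theorem f959009 : Led Lsl_ef (LP (LK LD1_c11 LD2_c19 LD3_c44)) = v47515 :=
  Lgr Lrot88 (Lpr_et (f959006 IH) (Lpn v47515))
theorem f965536 : Led Lsl_ef v40747 = v48431 :=
  Lgr Lrot73 (Lpr_dt (f959011 IH) (Lpe (f959009 IH) (Lpr_dt (f140570 IH) (Lpe (K52.f149263 IH) (Lpr_dt (f965532 IH) (Lpn v48431))))))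
theorem f965535 : Led Lsl_df (LP (LK LD1_c11 LD2_c30 LD3_c44)) = v48431 :=
  Lgr Lrot38 (Lpr_dt (f965532 IH) (Lpn v48431))
theorem f613403 : Led Lsl_bt (LP (LK LD1_c5 LD2_c38 LD3_c31)) = (LP (LK LD1_c11 LD2_c8 LD3_c17)) :=
  Lre_b IH (LK LD1_c5 LD2_c38 LD3_c31) (LK LD1_c11 LD2_c8 LD3_c17) Lrfl Lrfl
theorem f613404 : Led Lsl_df (LP (LK LD1_c16 LD2_c51 LD3_c29)) = (LP (LK LD1_c11 LD2_c8 LD3_c17)) :=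
  Lgr Lrot12 (Lpr_bt (f390232 IH) (Lpr_dt (f613400 IH) (Lpr_bt (f613403 IH) (Lpn (LP (LK LD1_c11 LD2_c8 LD3_c17))))))
def v46543 : LQ := Led Lsl_gf (LP (LK LD1_c11 LD2_c8 LD3_c17))
theorem f954114 : Led Lsl_gf (LP (LK LD1_c11 LD2_c8 LD3_c17)) = v46543 :=
  Lrfl
theorem f965543 : v40747 = v46543 :=
  (Llr Lrot121 (Lpr_ef (f965536 IH) (Lpe (f965535 IH) (Lpe (K52.f706069 IH) (Lpe (K41.f615422 IH) (Lpr_et (K36.f381368 IH) (Lpe (K27.f76115 IH) (Lpe (K74.f381379 IH) (Lpe (f589394 IH) (Lpr_gf (f918407 IH) (Lpq (f956163 IH) (Lpr_df (f613404 IH) (Lpr_gf (f954114 IH) (Lpn v46543)))))))))))))).symm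
theorem f965544 : (LP (LK LD1_c17 LD2_c55 LD3_c32)) = v46542 :=
  (Llr Lrot26 (Lpe (f919658 IH) (Lpr_ff (f919695 IH) (Lpqs (f965543 IH) (Lpe (f954114 IH) (Lpr_gt (f954113 IH) (Lpn v46542))))))).symm
theorem f965545 : Led Lsl_gt (LP (LK LD1_c11 LD2_c8 LD3_c17)) = (LP (LK LD1_c17 LD2_c55 LD3_c32)) :=
  Leop (Lpqs (f965544 IH) (Lpe (f954113 IH) (Lpn (LP (LK LD1_c11 LD2_c8 LD3_c17)))))
theorem seed_2917 : LEOK LG_g (LK LD1_c11 LD2_c8 LD3_c17) :=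
  Leoe_g (LK LD1_c11 LD2_c8 LD3_c17) (f965545 IH)
def v48445 : LQ := Led Lsl_ct (LP (LK LD1_c11 LD2_c30 LD3_c59))
theorem f965623 : Led Lsl_ct (LP (LK LD1_c11 LD2_c30 LD3_c59)) = v48445 :=
  Lrfl
def v38630 : LQ := Led Lsl_ct (LP (LK LD1_c9 LD2_c13 LD3_c36))
theorem f903348 : Led Lsl_ct (LP (LK LD1_c9 LD2_c13 LD3_c36)) = v38630 :=
  Lrfl
theorem f903350 : Led Lsl_cf (LP (LK LD1_c9 LD2_c13 LD3_c36)) = v38630 :=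
  Lgr Lrot11 (Lpr_ct (f903348 IH) (Lpn v38630))
theorem f965627 : Led Lsl_gf v38630 = v48445 :=
  Lgr Lrot104 (Lpe (f903350 IH) (Lpe (K45.f507818 IH) (Lpr_cf (K59.f700909 IH) (Lpe (K50.f700912 IH) (Lpr_cf (K42.f570797 IH) (Lpr_gf (K50.f643747 IH) (Lpe (K52.f643804 IH) (Lpe (K71.f643192 IH) (Lpr_ct (f965623 IH) (Lpn v48445))))))))))
theorem f903351 : Led Lsl_ef K73.v16339 = v38630 :=
  Lgr Lrot28 (Lpe (K73.f748854 IH) (Lpe (K56.f643147 IH) (Lpr_ct (f903348 IH) (Lpn v38630))))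
theorem f748853 : Led Lsl_af (LP (LK LD1_c9 LD2_c47 LD3_c55)) = K73.v16339 :=
  Lgr Lrot68 (Lpr_ct (K66.f644291 IH) (Lpe (K56.f644285 IH) (Lpr_ct (K73.f748852 IH) (Lpn K73.v16339))))
theorem f501430 : Led Lsl_ct (LP (LK LD1_c11 LD2_c45 LD3_c9)) = (LP (LK LD1_c6 LD2_c0 LD3_c21)) :=
  Lre_c IH (LK LD1_c11 LD2_c45 LD3_c9) (LK LD1_c6 LD2_c0 LD3_c21) Lrfl Lrfl
theorem f644293 : Led Lsl_et (LP (LK LD1_c9 LD2_c47 LD3_c55)) = (LP (LK LD1_c11 LD2_c45 LD3_c9)) :=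
  Lgr Lrot158 (Lpr_cf (K45.f644289 IH) (Lpr_ef (K45.f559354 IH) (Lpe (f501430 IH) (Lpn (LP (LK LD1_c11 LD2_c45 LD3_c9))))))
theorem f903354 : Led Lsl_at (LP (LK LD1_c11 LD2_c45 LD3_c9)) = v38630 :=
  Lgr Lrot80 (Lpe (f644293 IH) (Lpr_af (f748853 IH) (Lpr_ef (f903351 IH) (Lpn v38630))))
def v39962 : LQ := Led Lsl_ct (LP (LK LD1_c9 LD2_c30 LD3_c7))
theorem f912332 : Led Lsl_ct (LP (LK LD1_c9 LD2_c30 LD3_c7)) = v39962 :=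
  Lrfl
theorem f912335 : Led Lsl_ff (LP (LK LD1_c11 LD2_c45 LD3_c9)) = v39962 :=
  Lgr Lrot23 (Lpr_ct (f501430 IH) (Lpe (f643351 IH) (Lpr_ct (f912332 IH) (Lpn v39962))))
theorem f965628 : Led Lsl_gt v39962 = v48445 :=
  Lgr Lrot5 (Lpe (f912335 IH) (Lpr_at (f903354 IH) (Lpr_gf (f965627 IH) (Lpn v48445))))
def v16359 : LQ := Led Lsl_ct (LP (LK LD1_c5 LD2_c58 LD3_c27))
theorem f748943 : Led Lsl_ct (LP (LK LD1_c5 LD2_c58 LD3_c27)) = v16359 :=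
  Lrfl
theorem f965624 : Led Lsl_cf (LP (LK LD1_c11 LD2_c30 LD3_c59)) = v48445 :=
  Lgr Lrot11 (Lpr_ct (f965623 IH) (Lpn v48445))
theorem f719189 : Led Lsl_df (LP (LK LD1_c11 LD2_c30 LD3_c59)) = (LP (LK LD1_c12 LD2_c17 LD3_c8)) :=
  Lgr Lrot38 (Lpr_dt (K53.f719187 IH) (Lpn (LP (LK LD1_c12 LD2_c17 LD3_c8))))
def v38851 : LQ := Led Lsl_et (LP (LK LD1_c9 LD2_c16 LD3_c37))
theorem f904904 : Led Lsl_et (LP (LK LD1_c9 LD2_c16 LD3_c37)) = v38851 :=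
  Lrfl
theorem f643810 : Led Lsl_df (LP (LK LD1_c17 LD2_c58 LD3_c12)) = (LP (LK LD1_c11 LD2_c44 LD3_c56)) :=
  Lgr Lrot38 (Lpr_dt (K52.f643804 IH) (Lpn (LP (LK LD1_c11 LD2_c44 LD3_c56))))
theorem f496469 : Led Lsl_et (LP (LK LD1_c2 LD2_c51 LD3_c12)) = (LP (LK LD1_c5 LD2_c50 LD3_c5)) :=
  Lre_e IH (LK LD1_c2 LD2_c51 LD3_c12) (LK LD1_c5 LD2_c50 LD3_c5) Lrfl Lrfl
theorem f499932 : Led Lsl_gt (LP (LK LD1_c11 LD2_c28 LD3_c34)) = (LP (LK LD1_c5 LD2_c50 LD3_c5)) :=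
  Lre_g IH (LK LD1_c11 LD2_c28 LD3_c34) (LK LD1_c5 LD2_c50 LD3_c5) Lrfl Lrfl
theorem f719290 : Led Lsl_ef (LP (LK LD1_c11 LD2_c28 LD3_c34)) = (LP (LK LD1_c12 LD2_c17 LD3_c8)) :=
  Lgr Lrot114 (Lpr_gt (f499932 IH) (Lpe (f496469 IH) (Lpr_dt (K36.f496615 IH) (Lpr_gt (K37.f496616 IH) (Lpe (K55.f161283 IH) (Lpr_et (K52.f210040 IH) (Lpr_gt (K49.f643743 IH) (Lpe (f643810 IH) (Lpe (K71.f643192 IH) (Lpr_df (f719189 IH) (Lpn (LP (LK LD1_c12 LD2_c17 LD3_c8)))))))))))))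
theorem f904905 : Led Lsl_cf (LP (LK LD1_c12 LD2_c17 LD3_c8)) = v38851 :=
  Lgr Lrot39 (Lpe (f719290 IH) (Lpr_ct (K71.f785063 IH) (Lpr_et (f904904 IH) (Lpn v38851))))
theorem f965630 : Led Lsl_gt v16359 = v38851 :=
  Lgr Lrot150 (Lpe (f748943 IH) (Lpe (K65.f502747 IH) (Lpe (K50.f643157 IH) (Lpr_gt (K50.f643323 IH) (Lpr_ct (f912332 IH) (Lpr_gt (f965628 IH) (Lpe (f965624 IH) (Lpr_df (f719189 IH) (Lpr_cf (f904905 IH) (Lpn v38851))))))))))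
def v4239 : LQ := Led Lsl_gt (LP (LK LD1_c2 LD2_c17 LD3_c22))
def v23859 : LQ := Led Lsl_et v4239
theorem f820949 : Led Lsl_et v4239 = v23859 :=
  Lrfl
theorem f820952 : Led Lsl_ef v4239 = v23859 :=
  Lgr Lrot88 (Lpr_et (f820949 IH) (Lpn v23859))
theorem f632125 : Led Lsl_gt (LP (LK LD1_c2 LD2_c17 LD3_c22)) = v4239 :=
  Lrfl
theorem f426301 : Led Lsl_dt (LP (LK LD1_c5 LD2_c59 LD3_c52)) = (LP (LK LD1_c5 LD2_c57 LD3_c33)) :=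
  Lgr Lrot42 (Lpr_df (K28.f426297 IH) (Lpn (LP (LK LD1_c5 LD2_c57 LD3_c33))))
theorem f632129 : Led Lsl_cf (LP (LK LD1_c2 LD2_c27 LD3_c6)) = v4239 :=
  Lgr Lrot169 (Lpr_gt (K24.f81952 IH) (Lpe (K24.f426047 IH) (Lpe (f426301 IH) (Lpe (K28.f150261 IH) (Lpr_gf (K28.f104979 IH) (Lpe (K4.f79306 IH) (Lpe (K4.f104946 IH) (Lpe (K2.f72820 IH) (Lpr_gt (f632125 IH) (Lpn v4239))))))))))
def v4547 : LQ := Led Lsl_et (LP (LK LD1_c2 LD2_c27 LD3_c6))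
theorem f636058 : Led Lsl_et (LP (LK LD1_c2 LD2_c27 LD3_c6)) = v4547 :=
  Lrfl
theorem f820954 : Led Lsl_ct v4547 = v23859 :=
  Lgr Lrot15 (Lpe (f636058 IH) (Lpr_cf (f632129 IH) (Lpr_ef (f820952 IH) (Lpn v23859))))
def v14105 : LQ := Led Lsl_et (LP (LK LD1_c4 LD2_c58 LD3_c29))
theorem f719021 : Led Lsl_et (LP (LK LD1_c4 LD2_c58 LD3_c29)) = v14105 :=
  Lrfl
theorem f719024 : Led Lsl_ef (LP (LK LD1_c4 LD2_c58 LD3_c29)) = v14105 :=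
  Lgr Lrot88 (Lpr_et (f719021 IH) (Lpn v14105))
theorem f719027 : Led Lsl_bt v4547 = v14105 :=
  Lgr Lrot119 (Lpe (f636058 IH) (Lpe (K8.f139276 IH) (Lpr_ef (f719024 IH) (Lpn v14105))))
theorem f615532 : Led Lsl_et (LP (LK LD1_c11 LD2_c30 LD3_c17)) = (LP (LK LD1_c5 LD2_c51 LD3_c25)) :=
  Lre_e IH (LK LD1_c11 LD2_c30 LD3_c17) (LK LD1_c5 LD2_c51 LD3_c25) Lrfl Lrfl
theorem f719025 : Led Lsl_gf (LP (LK LD1_c5 LD2_c51 LD3_c25)) = v14105 :=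
  Lgr Lrot141 (Lpe (f615532 IH) (Lpr_dt (K52.f615523 IH) (Lpe (K50.f644273 IH) (Lpe (K42.f570768 IH) (Lpr_et (K52.f157857 IH) (Lpe (K8.f161621 IH) (Lpr_dt (K6.f81999 IH) (Lpr_gt (K6.f119668 IH) (Lpe (K6.f24077 IH) (Lpr_et (f719021 IH) (Lpn v14105)))))))))))
theorem f22288 : Led Lsl_bt (LP (LK LD1_c0 LD2_c37 LD3_c60)) = (LP (LK LD1_c1 LD2_c22 LD3_c0)) :=
  Lre_b IH (LK LD1_c0 LD2_c37 LD3_c60) (LK LD1_c1 LD2_c22 LD3_c0) Lrfl Lrfl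
theorem f442421 : Led Lsl_bt (LP (LK LD1_c4 LD2_c35 LD3_c32)) = (LP (LK LD1_c2 LD2_c15 LD3_c2)) :=
  Lre_b IH (LK LD1_c4 LD2_c35 LD3_c32) (LK LD1_c2 LD2_c15 LD3_c2) Lrfl Lrfl
def v12959 : LQ := Led Lsl_ft (LP (LK LD1_c4 LD2_c35 LD3_c28))
theorem f699869 : Led Lsl_ft (LP (LK LD1_c4 LD2_c35 LD3_c28)) = v12959 :=
  Lrfl
theorem f699873 : Led Lsl_ff (LP (LK LD1_c4 LD2_c35 LD3_c28)) = v12959 :=
  Lgr Lrot3 (Lpr_ft (f699869 IH) (Lpn v12959))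
theorem f435440 : Led Lsl_ct (LP (LK LD1_c4 LD2_c35 LD3_c28)) = (LP (LK LD1_c2 LD2_c14 LD3_c56)) :=
  Lre_c IH (LK LD1_c4 LD2_c35 LD3_c28) (LK LD1_c2 LD2_c14 LD3_c56) Lrfl Lrfl
theorem f442489 : Led Lsl_ft (LP (LK LD1_c2 LD2_c14 LD3_c56)) = (LP (LK LD1_c4 LD2_c35 LD3_c32)) :=
  Lre_f IH (LK LD1_c2 LD2_c14 LD3_c56) (LK LD1_c4 LD2_c35 LD3_c32) Lrfl Lrfl
theorem f699875 : Led Lsl_ct (LP (LK LD1_c4 LD2_c35 LD3_c32)) = v12959 :=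
  Lgr Lrot40 (Lpe (f442489 IH) (Lpe (f435440 IH) (Lpr_ff (f699873 IH) (Lpn v12959))))
theorem f744714 : Led Lsl_gf v12959 = K55.v15998 :=
  Lgr Lrot126 (Lpe (f699875 IH) (Lpr_bt (f442421 IH) (Lpr_gt (K24.f442466 IH) (Lpr_ct (K55.f24044 IH) (Lpr_gt (K24.f24043 IH) (Lpe (K24.f24022 IH) (Lpr_bt (f22288 IH) (Lpr_gt (K50.f22303 IH) (Lpe (K55.f22362 IH) (Lpr_ct (K55.f744711 IH) (Lpn K55.v15998)))))))))))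
def v4955 : LQ := Led Lsl_ct (LP (LK LD1_c2 LD2_c53 LD3_c59))
theorem f641041 : Led Lsl_ct (LP (LK LD1_c2 LD2_c53 LD3_c59)) = v4955 :=
  Lrfl
theorem f820955 : Led Lsl_gt v4955 = v23859 :=
  Lgr Lrot65 (Lpe (f641041 IH) (Lpr_bt (K45.f442469 IH) (Lpe (K24.f442466 IH) (Lpe (f442421 IH) (Lpr_ct (f699875 IH) (Lpr_gf (f744714 IH) (Lpe (K55.f744711 IH) (Lpr_gf (f719025 IH) (Lpe (f719027 IH) (Lpr_ct (f820954 IH) (Lpn v23859)))))))))))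
def v23822 : LQ := Led Lsl_ct K45.v4201
theorem f820698 : Led Lsl_ct K45.v4201 = v23822 :=
  Lrfl
theorem f641043 : Led Lsl_cf (LP (LK LD1_c2 LD2_c53 LD3_c59)) = v4955 :=
  Lgr Lrot11 (Lpr_ct (f641041 IH) (Lpn v4955))
theorem f820702 : Led Lsl_ff v4955 = v23822 :=
  Lgr Lrot23 (Lpe (f641043 IH) (Lpr_ft (K65.f631842 IH) (Lpr_ct (f820698 IH) (Lpn v23822))))
theorem f820704 : Led Lsl_ft v4955 = v23822 :=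
  Lgr Lrot48 (Lpr_ff (f820702 IH) (Lpn v23822))
def v5006 : LQ := Led Lsl_ct (LP (LK LD1_c2 LD2_c55 LD3_c34))
theorem f641291 : Led Lsl_ct (LP (LK LD1_c2 LD2_c55 LD3_c34)) = v5006 :=
  Lrfl
theorem f641292 : Led Lsl_cf (LP (LK LD1_c2 LD2_c55 LD3_c34)) = v5006 :=
  Lgr Lrot11 (Lpr_ct (f641291 IH) (Lpn v5006))
theorem f820699 : Led Lsl_af v5006 = v23822 :=
  Lgr Lrot68 (Lpe (f641292 IH) (Lpr_at (K45.f641284 IH) (Lpqs (K45.f643428 IH) (Lpr_ct (f820698 IH) (Lpn v23822)))))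
theorem f820956 : Led Lsl_gf v5006 = v23859 :=
  Lgr Lrot76 (Lpr_af (f820699 IH) (Lpe (f820704 IH) (Lpr_gt (f820955 IH) (Lpn v23859))))
theorem f748945 : Led Lsl_ef v5006 = v16359 :=
  Lgr Lrot28 (Lpe (f641292 IH) (Lpr_et (K45.f641286 IH) (Lpr_ct (f748943 IH) (Lpn v16359))))
theorem f632128 : Led Lsl_df (LP (LK LD1_c2 LD2_c56 LD3_c38)) = v4239 :=
  Lgr Lrot153 (Lpr_gt (K8.f14139 IH) (Lpr_dt (K8.f74323 IH) (Lpe (K4.f26423 IH) (Lpe (K32.f56897 IH) (Lpe (K2.f56896 IH) (Lpe (K2.f72401 IH) (Lpe (K2.f74540 IH) (Lpe (K2.f22838 IH) (Lpr_gt (f632125 IH) (Lpn v4239))))))))))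
def v16436 : LQ := Led Lsl_gf (LP (LK LD1_c6 LD2_c0 LD3_c44))
theorem f749337 : Led Lsl_gf (LP (LK LD1_c6 LD2_c0 LD3_c44)) = v16436 :=
  Lrfl
theorem f820957 : Led Lsl_dt v16359 = v16436 :=
  Lgr Lrot136 (Lpe (f748945 IH) (Lpr_gf (f820956 IH) (Lpe (f820949 IH) (Lpe (f632128 IH) (Lpe (K6.f13749 IH) (Lpe (K4.f72644 IH) (Lpe (K2.f68994 IH) (Lpe (K32.f497061 IH) (Lpr_dt (K32.f497051 IH) (Lpr_gf (f749337 IH) (Lpn v16436)))))))))))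
theorem f497071 : Led Lsl_ct (LP (LK LD1_c6 LD2_c0 LD3_c44)) = (LP (LK LD1_c11 LD2_c45 LD3_c50)) :=
  Lre_c IH (LK LD1_c6 LD2_c0 LD3_c44) (LK LD1_c11 LD2_c45 LD3_c50) Lrfl Lrfl
theorem f749338 : Led Lsl_gt (LP (LK LD1_c11 LD2_c45 LD3_c50)) = (LP (LK LD1_c20 LD2_c47 LD3_c12)) :=
  Lre_g IH (LK LD1_c11 LD2_c45 LD3_c50) (LK LD1_c20 LD2_c47 LD3_c12) Lrfl Lrfl
theorem f965631 : Led Lsl_ct (LP (LK LD1_c20 LD2_c47 LD3_c12)) = K70.v39959 :=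
  Lgr Lrot110 (Lpe (f749338 IH) (Lpe (f497071 IH) (Lpr_gf (f749337 IH) (Lpe (f820957 IH) (Lpr_gt (f965630 IH) (Lpe (f904905 IH) (Lpr_gt (K53.f615260 IH) (Lpr_ct (K70.f761851 IH) (Lpr_df (K70.f912307 IH) (Lpn K70.v39959))))))))))
theorem f643949 : Led Lsl_ct (LP (LK LD1_c11 LD2_c45 LD3_c0)) = (LP (LK LD1_c20 LD2_c46 LD3_c21)) :=
  Lre_c IH (LK LD1_c11 LD2_c45 LD3_c0) (LK LD1_c20 LD2_c46 LD3_c21) Lrfl Lrfl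
theorem f965632 : Led Lsl_af (LP (LK LD1_c20 LD2_c47 LD3_c12)) = (LP (LK LD1_c20 LD2_c46 LD3_c21)) :=
  Lgr Lrot68 (Lpr_ct (f965631 IH) (Lpe (K70.f912311 IH) (Lpr_ct (f643949 IH) (Lpn (LP (LK LD1_c20 LD2_c46 LD3_c21))))))
theorem f965633 : Led Lsl_at (LP (LK LD1_c20 LD2_c46 LD3_c21)) = (LP (LK LD1_c20 LD2_c47 LD3_c12)) :=
  Leop (Lpr_af (f965632 IH) (Lpn (LP (LK LD1_c20 LD2_c46 LD3_c21))))
theorem seed_2918 : LEOK LG_a (LK LD1_c20 LD2_c46 LD3_c21) :=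
  Leoe_a (LK LD1_c20 LD2_c46 LD3_c21) (f965633 IH)
theorem f912334 : Led Lsl_cf (LP (LK LD1_c9 LD2_c30 LD3_c7)) = v39962 :=
  Lgr Lrot11 (Lpr_ct (f912332 IH) (Lpn v39962))
theorem f643345 : Led Lsl_dt (LP (LK LD1_c17 LD2_c7 LD3_c58)) = (LP (LK LD1_c9 LD2_c17 LD3_c13)) :=
  Lgr Lrot42 (Lpr_df (K53.f643342 IH) (Lpn (LP (LK LD1_c9 LD2_c17 LD3_c13))))
theorem f615269 : Led Lsl_dt (LP (LK LD1_c18 LD2_c0 LD3_c3)) = (LP (LK LD1_c9 LD2_c49 LD3_c34)) :=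
  Lre_d IH (LK LD1_c18 LD2_c0 LD3_c3) (LK LD1_c9 LD2_c49 LD3_c34) Lrfl Lrfl
theorem f615270 : Led Lsl_gt (LP (LK LD1_c27 LD2_c43 LD3_c3)) = (LP (LK LD1_c18 LD2_c0 LD3_c3)) :=
  Lre_g IH (LK LD1_c27 LD2_c43 LD3_c3) (LK LD1_c18 LD2_c0 LD3_c3) Lrfl Lrfl
theorem f965629 : Led Lsl_df (LP (LK LD1_c27 LD2_c43 LD3_c3)) = v48445 :=
  Lgr Lrot153 (Lpr_gt (f615270 IH) (Lpr_dt (f615269 IH) (Lpr_cf (K50.f643480 IH) (Lpe (K50.f75034 IH) (Lpr_gf (K65.f748942 IH) (Lpq (K65.f825495 IH) (Lpe (f643345 IH) (Lpr_gf (K53.f643340 IH) (Lpr_cf (f912334 IH) (Lpr_gt (f965628 IH) (Lpn v48445)))))))))))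
theorem f965637 : Led Lsl_dt (LP (LK LD1_c27 LD2_c43 LD3_c3)) = v48445 :=
  Lgr Lrot42 (Lpr_df (f965629 IH) (Lpn v48445))
theorem f615208 : Led Lsl_dt (LP (LK LD1_c9 LD2_c49 LD3_c35)) = (LP (LK LD1_c18 LD2_c0 LD3_c6)) :=
  Lre_d IH (LK LD1_c9 LD2_c49 LD3_c35) (LK LD1_c18 LD2_c0 LD3_c6) Lrfl Lrfl
theorem f965638 : Led Lsl_gf (LP (LK LD1_c27 LD2_c43 LD3_c3)) = (LP (LK LD1_c18 LD2_c0 LD3_c6)) :=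
  Lgr Lrot143 (Lpr_dt (f965637 IH) (Lpe (f965623 IH) (Lpr_df (f719189 IH) (Lpr_gf (K53.f719170 IH) (Lpe (K53.f719164 IH) (Lpe (K53.f615244 IH) (Lpe (K50.f615147 IH) (Lpr_gt (K50.f615274 IH) (Lpr_dt (f615208 IH) (Lpn (LP (LK LD1_c18 LD2_c0 LD3_c6))))))))))))
theorem f965639 : Led Lsl_gt (LP (LK LD1_c18 LD2_c0 LD3_c6)) = (LP (LK LD1_c27 LD2_c43 LD3_c3)) :=
  Leop (Lpr_gf (f965638 IH) (Lpn (LP (LK LD1_c18 LD2_c0 LD3_c6))))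
theorem seed_2919 : LEOK LG_g (LK LD1_c18 LD2_c0 LD3_c6) :=
  Leoe_g (LK LD1_c18 LD2_c0 LD3_c6) (f965639 IH)
def v48494 : LQ := Led Lsl_ct (LP (LK LD1_c11 LD2_c31 LD3_c25))
theorem f965890 : Led Lsl_ct (LP (LK LD1_c11 LD2_c31 LD3_c25)) = v48494 :=
  Lrfl
def v40877 : LQ := Led Lsl_ft (LP (LK LD1_c9 LD2_c48 LD3_c23))
theorem f920897 : Led Lsl_ft (LP (LK LD1_c9 LD2_c48 LD3_c23)) = v40877 :=
  Lrfl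
theorem f920899 : Led Lsl_df K53.v14118 = v40877 :=
  Lgr Lrot78 (Lpe (K53.f719093 IH) (Lpr_dt (K44.f74976 IH) (Lpr_ft (f920897 IH) (Lpn v40877))))
theorem f920900 : Led Lsl_ff (LP (LK LD1_c9 LD2_c48 LD3_c23)) = v40877 :=
  Lgr Lrot3 (Lpr_ft (f920897 IH) (Lpn v40877))
theorem f581843 : Led Lsl_df (LP (LK LD1_c17 LD2_c56 LD3_c21)) = (LP (LK LD1_c9 LD2_c47 LD3_c40)) :=
  Lgr Lrot38 (Lpr_dt (K44.f581839 IH) (Lpn (LP (LK LD1_c9 LD2_c47 LD3_c40))))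
theorem f643178 : Led Lsl_gt (LP (LK LD1_c11 LD2_c31 LD3_c34)) = (LP (LK LD1_c17 LD2_c56 LD3_c21)) :=
  Lgr Lrot112 (Lpr_df (K45.f615685 IH) (Lpr_et (K46.f615688 IH) (Lpr_gf (K42.f643174 IH) (Lpe (K42.f570780 IH) (Lpe (K4.f76094 IH) (Lpe (K40.f496291 IH) (Lpe (K32.f496303 IH) (Lpr_gf (K32.f496305 IH) (Lpe (K44.f139268 IH) (Lpe (f581843 IH) (Lpn (LP (LK LD1_c17 LD2_c56 LD3_c21)))))))))))))
theorem f920903 : Led Lsl_gf (LP (LK LD1_c11 LD2_c31 LD3_c34)) = v40877 :=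
  Lgr Lrot47 (Lpr_gt (f643178 IH) (Lpr_af (K44.f581835 IH) (Lpr_ff (f920900 IH) (Lpn v40877))))
theorem f920904 : Led Lsl_gt (LP (LK LD1_c20 LD2_c43 LD3_c23)) = v40877 :=
  Lgr Lrot5 (Lpe (K55.f643853 IH) (Lpr_at (K55.f643845 IH) (Lpr_gf (f920903 IH) (Lpn v40877))))
theorem f452985 : Led Lsl_ct (LP (LK LD1_c11 LD2_c42 LD3_c46)) = (LP (LK LD1_c20 LD2_c43 LD3_c23)) :=
  Lre_c IH (LK LD1_c11 LD2_c42 LD3_c46) (LK LD1_c20 LD2_c43 LD3_c23) Lrfl Lrfl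
theorem f605205 : Led Lsl_at (LP (LK LD1_c20 LD2_c41 LD3_c31)) = (LP (LK LD1_c11 LD2_c42 LD3_c49)) :=
  Lre_a IH (LK LD1_c20 LD2_c41 LD3_c31) (LK LD1_c11 LD2_c42 LD3_c49) Lrfl Lrfl
theorem f641907 : Led Lsl_ff (LP (LK LD1_c20 LD2_c41 LD3_c31)) = (LP (LK LD1_c29 LD2_c34 LD3_c37)) :=
  Lgr Lrot30 (Lpr_at (f605205 IH) (Lpr_ft (K55.f641898 IH) (Lpr_at (K55.f641899 IH) (Lpn (LP (LK LD1_c29 LD2_c34 LD3_c37))))))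
theorem f616241 : Led Lsl_gt (LP (LK LD1_c20 LD2_c43 LD3_c29)) = (LP (LK LD1_c11 LD2_c42 LD3_c49)) :=
  Lre_g IH (LK LD1_c20 LD2_c43 LD3_c29) (LK LD1_c11 LD2_c42 LD3_c49) Lrfl Lrfl
theorem f641914 : Led Lsl_gf (LP (LK LD1_c20 LD2_c43 LD3_c29)) = (LP (LK LD1_c29 LD2_c34 LD3_c37)) :=
  Lgr Lrot47 (Lpr_gt (f616241 IH) (Lpe (f605205 IH) (Lpr_ff (f641907 IH) (Lpn (LP (LK LD1_c29 LD2_c34 LD3_c37))))))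
theorem f965894 : Led Lsl_dt (LP (LK LD1_c20 LD2_c43 LD3_c29)) = v48494 :=
  Lgr Lrot113 (Lpr_gf (f641914 IH) (Lpe (K55.f641888 IH) (Lpe (K55.f641937 IH) (Lpr_ct (f452985 IH) (Lpr_gt (f920904 IH) (Lpe (f920899 IH) (Lpe (K53.f719095 IH) (Lpr_dt (f643018 IH) (Lpr_ct (f965890 IH) (Lpn v48494))))))))))
theorem f746431 : Led Lsl_at (LP (LK LD1_c17 LD2_c58 LD3_c35)) = (LP (LK LD1_c11 LD2_c31 LD3_c25)) :=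
  Lgr Lrot100 (Lpr_af (f746429 IH) (Lpn (LP (LK LD1_c11 LD2_c31 LD3_c25))))
theorem f965891 : Led Lsl_af (LP (LK LD1_c27 LD2_c21 LD3_c48)) = v48494 :=
  Lgr Lrot68 (Lpr_ct (K55.f748291 IH) (Lpr_at (f746431 IH) (Lpr_ct (f965890 IH) (Lpn v48494))))
theorem f965895 : Led Lsl_af (LP (LK LD1_c20 LD2_c43 LD3_c29)) = (LP (LK LD1_c29 LD2_c35 LD3_c29)) :=
  Lgr Lrot117 (Lpr_dt (f965894 IH) (Lpe (f965891 IH) (Lpr_dt (K50.f700091 IH) (Lpn (LP (LK LD1_c29 LD2_c35 LD3_c29))))))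
theorem f965896 : Led Lsl_at (LP (LK LD1_c29 LD2_c35 LD3_c29)) = (LP (LK LD1_c20 LD2_c43 LD3_c29)) :=
  Leop (Lpr_af (f965895 IH) (Lpn (LP (LK LD1_c29 LD2_c35 LD3_c29))))
theorem seed_2920 : LEOK LG_a (LK LD1_c29 LD2_c35 LD3_c29) :=
  Leoe_a (LK LD1_c29 LD2_c35 LD3_c29) (f965896 IH)
theorem f965892 : Led Lsl_cf (LP (LK LD1_c11 LD2_c31 LD3_c25)) = v48494 :=
  Lgr Lrot11 (Lpr_ct (f965890 IH) (Lpn v48494))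
theorem f746255 : Led Lsl_af (LP (LK LD1_c5 LD2_c59 LD3_c2)) = (LP (LK LD1_c11 LD2_c41 LD3_c27)) :=
  Lgr Lrot0 (Lpr_at (K55.f746253 IH) (Lpn (LP (LK LD1_c11 LD2_c41 LD3_c27))))
theorem f746323 : Led Lsl_dt (LP (LK LD1_c20 LD2_c42 LD3_c59)) = (LP (LK LD1_c29 LD2_c36 LD3_c49)) :=
  Lre_d IH (LK LD1_c20 LD2_c42 LD3_c59) (LK LD1_c29 LD2_c36 LD3_c49) Lrfl Lrfl
theorem f965898 : Led Lsl_cf (LP (LK LD1_c20 LD2_c43 LD3_c29)) = (LP (LK LD1_c29 LD2_c36 LD3_c49)) :=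
  Lgr Lrot116 (Lpr_dt (f965894 IH) (Lpe (f965892 IH) (Lpr_dt (K69.f642998 IH) (Lpr_ct (K53.f642988 IH) (Lpr_af (f746255 IH) (Lpr_ff (K55.f746314 IH) (Lpr_dt (K70.f500738 IH) (Lpr_ct (K70.f653309 IH) (Lpr_dt (f746323 IH) (Lpn (LP (LK LD1_c29 LD2_c36 LD3_c49))))))))))))
theorem f965899 : Led Lsl_ct (LP (LK LD1_c29 LD2_c36 LD3_c49)) = (LP (LK LD1_c20 LD2_c43 LD3_c29)) :=
  Leop (Lpr_cf (f965898 IH) (Lpn (LP (LK LD1_c29 LD2_c36 LD3_c49))))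
theorem seed_2921 : LEOK LG_c (LK LD1_c29 LD2_c36 LD3_c49) :=
  Leoe_c (LK LD1_c29 LD2_c36 LD3_c49) (f965899 IH)
def v48495 : LQ := Led Lsl_dt (LP (LK LD1_c11 LD2_c31 LD3_c26))
theorem f965912 : Led Lsl_dt (LP (LK LD1_c11 LD2_c31 LD3_c26)) = v48495 :=
  Lrfl
theorem f644915 : Led Lsl_gt (LP (LK LD1_c6 LD2_c1 LD3_c11)) = (LP (LK LD1_c11 LD2_c47 LD3_c0)) :=
  Lre_g IH (LK LD1_c6 LD2_c1 LD3_c11) (LK LD1_c11 LD2_c47 LD3_c0) Lrfl Lrfl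
theorem f719975 : Led Lsl_dt (LP (LK LD1_c11 LD2_c47 LD3_c0)) = (LP (LK LD1_c20 LD2_c49 LD3_c5)) :=
  Lre_d IH (LK LD1_c11 LD2_c47 LD3_c0) (LK LD1_c20 LD2_c49 LD3_c5) Lrfl Lrfl
theorem f740382 : Led Lsl_gf (LP (LK LD1_c20 LD2_c14 LD3_c51)) = (LP (LK LD1_c20 LD2_c49 LD3_c5)) :=
  Lgr Lrot143 (Lpr_dt (K65.f645020 IH) (Lpe (K66.f645019 IH) (Lpe (K55.f502741 IH) (Lpr_gf (K55.f740255 IH) (Lpe (K41.f564002 IH) (Lpe (K41.f564017 IH) (Lpe (K53.f641529 IH) (Lpr_gt (f644915 IH) (Lpr_dt (f719975 IH) (Lpn (LP (LK LD1_c20 LD2_c49 LD3_c5))))))))))))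
theorem f740303 : Led Lsl_af (LP (LK LD1_c20 LD2_c14 LD3_c51)) = (LP (LK LD1_c11 LD2_c20 LD3_c0)) :=
  Lgr Lrot0 (Lpr_at (K65.f740301 IH) (Lpn (LP (LK LD1_c11 LD2_c20 LD3_c0))))
theorem f740319 : Led Lsl_ft (LP (LK LD1_c20 LD2_c14 LD3_c54)) = (LP (LK LD1_c11 LD2_c20 LD3_c0)) :=
  Lgr Lrot48 (Lpr_ff (K65.f740308 IH) (Lpn (LP (LK LD1_c11 LD2_c20 LD3_c0))))
theorem f740384 : Led Lsl_gt (LP (LK LD1_c20 LD2_c14 LD3_c54)) = (LP (LK LD1_c20 LD2_c49 LD3_c5)) :=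
  Lgr Lrot5 (Lpr_ft (f740319 IH) (Lpe (f740303 IH) (Lpr_gf (f740382 IH) (Lpn (LP (LK LD1_c20 LD2_c49 LD3_c5))))))
theorem f719974 : Led Lsl_dt (LP (LK LD1_c20 LD2_c49 LD3_c5)) = (LP (LK LD1_c11 LD2_c47 LD3_c0)) :=
  Lre_d IH (LK LD1_c20 LD2_c49 LD3_c5) (LK LD1_c11 LD2_c47 LD3_c0) Lrfl Lrfl
theorem f965919 : Led Lsl_cf (LP (LK LD1_c11 LD2_c47 LD3_c0)) = v48495 :=
  Lgr Lrot14 (Lpe (f719974 IH) (Lpe (f740384 IH) (Lpe (K65.f74615 IH) (Lpe (K65.f720352 IH) (Lpe (K66.f749418 IH) (Lpe (K66.f749414 IH) (Lpr_dt (f140570 IH) (Lpe (f958423 IH) (Lpr_dt (f965912 IH) (Lpn v48495))))))))))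
theorem f381645 : Led Lsl_et (LP (LK LD1_c5 LD2_c43 LD3_c33)) = (LP (LK LD1_c11 LD2_c17 LD3_c13)) :=
  Lre_e IH (LK LD1_c5 LD2_c43 LD3_c33) (LK LD1_c11 LD2_c17 LD3_c13) Lrfl Lrfl
theorem f381907 : Led Lsl_gt (LP (LK LD1_c20 LD2_c13 LD3_c19)) = (LP (LK LD1_c11 LD2_c17 LD3_c13)) :=
  Lre_g IH (LK LD1_c20 LD2_c13 LD3_c19) (LK LD1_c11 LD2_c17 LD3_c13) Lrfl Lrfl
theorem f740299 : Led Lsl_ft (LP (LK LD1_c20 LD2_c14 LD3_c51)) = (LP (LK LD1_c11 LD2_c20 LD3_c14)) :=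
  Lgr Lrot48 (Lpr_ff (K65.f740294 IH) (Lpn (LP (LK LD1_c11 LD2_c20 LD3_c14))))
theorem f740324 : Led Lsl_af (LP (LK LD1_c20 LD2_c14 LD3_c54)) = (LP (LK LD1_c11 LD2_c20 LD3_c14)) :=
  Lgr Lrot45 (Lpr_ft (f740319 IH) (Lpe (f740303 IH) (Lpr_ft (f740299 IH) (Lpn (LP (LK LD1_c11 LD2_c20 LD3_c14))))))
theorem f720321 : Led Lsl_af (LP (LK LD1_c6 LD2_c1 LD3_c11)) = (LP (LK LD1_c11 LD2_c43 LD3_c37)) :=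
  Lgr Lrot45 (Lpr_ft (K56.f719954 IH) (Lpe (K56.f719962 IH) (Lpr_ft (K65.f720317 IH) (Lpn (LP (LK LD1_c11 LD2_c43 LD3_c37))))))
theorem f641530 : Led Lsl_gt (LP (LK LD1_c11 LD2_c47 LD3_c1)) = (LP (LK LD1_c6 LD2_c1 LD3_c11)) :=
  Lre_g IH (LK LD1_c11 LD2_c47 LD3_c1) (LK LD1_c6 LD2_c1 LD3_c11) Lrfl Lrfl
theorem f720327 : Led Lsl_gt (LP (LK LD1_c6 LD2_c1 LD3_c23)) = (LP (LK LD1_c11 LD2_c47 LD3_c1)) :=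
  Lgr Lrot5 (Lpr_ft (K65.f720317 IH) (Lpe (f720321 IH) (Lpe (f641530 IH) (Lpn (LP (LK LD1_c11 LD2_c47 LD3_c1))))))
theorem f720329 : Led Lsl_dt (LP (LK LD1_c11 LD2_c47 LD3_c1)) = (LP (LK LD1_c20 LD2_c49 LD3_c7)) :=
  Lre_d IH (LK LD1_c11 LD2_c47 LD3_c1) (LK LD1_c20 LD2_c49 LD3_c7) Lrfl Lrfl
theorem f720330 : Led Lsl_gf (LP (LK LD1_c20 LD2_c14 LD3_c54)) = (LP (LK LD1_c20 LD2_c49 LD3_c7)) :=
  Lgr Lrot143 (Lpr_dt (K65.f74626 IH) (Lpe (K51.f74614 IH) (Lpe (K51.f74605 IH) (Lpe (K52.f644911 IH) (Lpe (K41.f641652 IH) (Lpe (K41.f641650 IH) (Lpe (K41.f564027 IH) (Lpr_gt (f720327 IH) (Lpr_dt (f720329 IH) (Lpn (LP (LK LD1_c20 LD2_c49 LD3_c7))))))))))))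
theorem f740333 : Led Lsl_gf (LP (LK LD1_c20 LD2_c49 LD3_c7)) = (LP (LK LD1_c20 LD2_c14 LD3_c51)) :=
  Lgr Lrot47 (Lpe (f720330 IH) (Lpr_af (f740324 IH) (Lpe (f740299 IH) (Lpn (LP (LK LD1_c20 LD2_c14 LD3_c51))))))
theorem f740341 : Led Lsl_ef (LP (LK LD1_c20 LD2_c13 LD3_c19)) = (LP (LK LD1_c11 LD2_c47 LD3_c1)) :=
  Lgr Lrot114 (Lpr_gt (f381907 IH) (Lpe (f381645 IH) (Lpr_dt (K39.f381581 IH) (Lpr_gt (K27.f270605 IH) (Lpe (K27.f381985 IH) (Lpr_et (K51.f381989 IH) (Lpr_gt (K65.f740336 IH) (Lpr_dt (K65.f645022 IH) (Lpe (f740333 IH) (Lpe (f720329 IH) (Lpn (LP (LK LD1_c11 LD2_c47 LD3_c1)))))))))))))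
theorem f740343 : Led Lsl_et (LP (LK LD1_c20 LD2_c13 LD3_c19)) = (LP (LK LD1_c11 LD2_c47 LD3_c1)) :=
  Lgr Lrot87 (Lpr_ef (f740341 IH) (Lpn (LP (LK LD1_c11 LD2_c47 LD3_c1))))
theorem f750973 : Led Lsl_af (LP (LK LD1_c20 LD2_c13 LD3_c52)) = (LP (LK LD1_c11 LD2_c47 LD3_c1)) :=
  Lgr Lrot50 (Lpr_et (f381545 IH) (Lpr_at (f750967 IH) (Lpr_et (f740343 IH) (Lpn (LP (LK LD1_c11 LD2_c47 LD3_c1))))))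
theorem f750979 : Led Lsl_ft (LP (LK LD1_c20 LD2_c44 LD3_c49)) = (LP (LK LD1_c11 LD2_c47 LD3_c1)) :=
  Lgr Lrot2 (Lpe (K56.f720319 IH) (Lpe (f746483 IH) (Lpr_af (f750973 IH) (Lpn (LP (LK LD1_c11 LD2_c47 LD3_c1))))))
theorem f750983 : Led Lsl_ff (LP (LK LD1_c20 LD2_c44 LD3_c49)) = (LP (LK LD1_c11 LD2_c47 LD3_c1)) :=
  Lgr Lrot3 (Lpr_ft (f750979 IH) (Lpn (LP (LK LD1_c11 LD2_c47 LD3_c1))))
theorem f750987 : Led Lsl_at (LP (LK LD1_c20 LD2_c44 LD3_c49)) = (LP (LK LD1_c11 LD2_c47 LD3_c0)) :=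
  Lgr Lrot26 (Lpr_ff (f750983 IH) (Lpr_gt (f641530 IH) (Lpr_gt (f644915 IH) (Lpn (LP (LK LD1_c11 LD2_c47 LD3_c0))))))
theorem f750989 : Led Lsl_af (LP (LK LD1_c20 LD2_c44 LD3_c49)) = (LP (LK LD1_c11 LD2_c47 LD3_c0)) :=
  Lgr Lrot0 (Lpr_at (f750987 IH) (Lpn (LP (LK LD1_c11 LD2_c47 LD3_c0))))
theorem f965921 : Led Lsl_at (LP (LK LD1_c20 LD2_c47 LD3_c60)) = v48495 :=
  Lgr Lrot107 (Lpr_cf (K56.f746423 IH) (Lpr_af (f750989 IH) (Lpr_cf (f965919 IH) (Lpn v48495))))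
theorem f381995 : Led Lsl_dt (LP (LK LD1_c29 LD2_c22 LD3_c12)) = (LP (LK LD1_c20 LD2_c14 LD3_c3)) :=
  Lre_d IH (LK LD1_c29 LD2_c22 LD3_c12) (LK LD1_c20 LD2_c14 LD3_c3) Lrfl Lrfl
theorem f749389 : Led Lsl_gf (LP (LK LD1_c11 LD2_c46 LD3_c23)) = (LP (LK LD1_c20 LD2_c47 LD3_c60)) :=
  Lgr Lrot144 (Lpr_dt (K66.f140223 IH) (Lpr_gt (K56.f749383 IH) (Lpr_dt (K50.f555976 IH) (Lpe (K51.f382430 IH) (Lpe (f381995 IH) (Lpe (K65.f720340 IH) (Lpe (K65.f384019 IH) (Lpr_gf (K56.f720319 IH) (Lpe (K56.f746425 IH) (Lpn (LP (LK LD1_c20 LD2_c47 LD3_c60))))))))))))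
theorem f444677 : Led Lsl_bt (LP (LK LD1_c2 LD2_c57 LD3_c32)) = (LP (LK LD1_c1 LD2_c24 LD3_c31)) :=
  Lre_b IH (LK LD1_c2 LD2_c57 LD3_c32) (LK LD1_c1 LD2_c24 LD3_c31) Lrfl Lrfl
theorem f444678 : Led Lsl_ct (LP (LK LD1_c2 LD2_c57 LD3_c32)) = (LP (LK LD1_c6 LD2_c2 LD3_c55)) :=
  Lre_c IH (LK LD1_c2 LD2_c57 LD3_c32) (LK LD1_c6 LD2_c2 LD3_c55) Lrfl Lrfl
theorem f641714 : Led Lsl_gt (LP (LK LD1_c6 LD2_c2 LD3_c55)) = (LP (LK LD1_c11 LD2_c49 LD3_c48)) :=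
  Lre_g IH (LK LD1_c6 LD2_c2 LD3_c55) (LK LD1_c11 LD2_c49 LD3_c48) Lrfl Lrfl
theorem f641715 : Led Lsl_ct (LP (LK LD1_c20 LD2_c52 LD3_c2)) = (LP (LK LD1_c11 LD2_c49 LD3_c48)) :=
  Lre_c IH (LK LD1_c20 LD2_c52 LD3_c2) (LK LD1_c11 LD2_c49 LD3_c48) Lrfl Lrfl
theorem f749406 : Led Lsl_bt (LP (LK LD1_c20 LD2_c52 LD3_c2)) = (LP (LK LD1_c20 LD2_c47 LD3_c60)) :=
  Lgr Lrot130 (Lpr_ct (f641715 IH) (Lpe (f641714 IH) (Lpe (f444678 IH) (Lpr_bt (f444677 IH) (Lpe (K32.f501027 IH) (Lpr_bf (K41.f641702 IH) (Lpr_ct (K41.f641654 IH) (Lpe (K53.f642078 IH) (Lpr_cf (K66.f564042 IH) (Lpr_gf (f749389 IH) (Lpn (LP (LK LD1_c20 LD2_c47 LD3_c60)))))))))))))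
theorem f643012 : Led Lsl_bt (LP (LK LD1_c5 LD2_c52 LD3_c30)) = (LP (LK LD1_c11 LD2_c31 LD3_c26)) :=
  Lre_b IH (LK LD1_c5 LD2_c52 LD3_c30) (LK LD1_c11 LD2_c31 LD3_c26) Lrfl Lrfl
theorem f965914 : Led Lsl_bf (LP (LK LD1_c11 LD2_c31 LD3_c29)) = v48495 :=
  Lgr Lrot93 (Lpr_dt (K53.f622523 IH) (Lpr_bt (f643012 IH) (Lpr_dt (f965912 IH) (Lpn v48495))))
def v41041 : LQ := Led Lsl_bt (LP (LK LD1_c9 LD2_c50 LD3_c55))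
theorem f921704 : Led Lsl_bt (LP (LK LD1_c9 LD2_c50 LD3_c55)) = v41041 :=
  Lrfl
theorem f965924 : Led Lsl_af (LP (LK LD1_c20 LD2_c52 LD3_c2)) = v41041 :=
  Lgr Lrot36 (Lpr_bt (f749406 IH) (Lpr_at (f965921 IH) (Lpe (f965914 IH) (Lpe (K55.f746441 IH) (Lpr_bt (f921704 IH) (Lpn v41041))))))
theorem f921705 : Led Lsl_bf (LP (LK LD1_c9 LD2_c50 LD3_c55)) = v41041 :=
  Lgr Lrot24 (Lpr_bt (f921704 IH) (Lpn v41041))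
theorem f507722 : Led Lsl_ct (LP (LK LD1_c4 LD2_c39 LD3_c10)) = (LP (LK LD1_c9 LD2_c14 LD3_c4)) :=
  Lre_c IH (LK LD1_c4 LD2_c39 LD3_c10) (LK LD1_c9 LD2_c14 LD3_c4) Lrfl Lrfl
def v38661 : LQ := Led Lsl_gf (LP (LK LD1_c9 LD2_c14 LD3_c4))
theorem f903625 : Led Lsl_gf (LP (LK LD1_c9 LD2_c14 LD3_c4)) = v38661 :=
  Lrfl
theorem f921710 : Led Lsl_cf v38661 = v41041 :=
  Lgr Lrot160 (Lpe (f903625 IH) (Lpe (f507722 IH) (Lpr_bt (K53.f507645 IH) (Lpe (K46.f507641 IH) (Lpr_ct (K52.f507636 IH) (Lpr_gt (K52.f636103 IH) (Lpe (K52.f636099 IH) (Lpr_bt (K53.f633824 IH) (Lpr_gt (K55.f633880 IH) (Lpr_bf (f921705 IH) (Lpn v41041)))))))))))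
theorem f921711 : Led Lsl_ct v38661 = v41041 :=
  Lgr Lrot59 (Lpr_cf (f921710 IH) (Lpn v41041))
theorem f965926 : Led Lsl_at (LP (LK LD1_c11 LD2_c49 LD3_c48)) = v38661 :=
  Lgr Lrot107 (Lpe (f641715 IH) (Lpr_af (f965924 IH) (Lpe (f921711 IH) (Lpn v38661))))
theorem f632071 : Led Lsl_at (LP (LK LD1_c17 LD2_c8 LD3_c22)) = (LP (LK LD1_c9 LD2_c14 LD3_c4)) :=
  Lre_a IH (LK LD1_c17 LD2_c8 LD3_c22) (LK LD1_c9 LD2_c14 LD3_c4) Lrfl Lrfl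
theorem f903626 : Led Lsl_gt K56.v16556 = v38661 :=
  Lgr Lrot5 (Lpe (K56.f750404 IH) (Lpr_at (f632071 IH) (Lpr_gf (f903625 IH) (Lpn v38661))))
def v38660 : LQ := Led Lsl_gt (LP (LK LD1_c9 LD2_c14 LD3_c4))
theorem f903621 : Led Lsl_gt (LP (LK LD1_c9 LD2_c14 LD3_c4)) = v38660 :=
  Lrfl
theorem f645747 : Led Lsl_ft (LP (LK LD1_c9 LD2_c14 LD3_c4)) = (LP (LK LD1_c6 LD2_c2 LD3_c55)) :=
  Lgr Lrot4 (Lpe (f507722 IH) (Lpr_ff (K53.f645706 IH) (Lpe (K56.f500999 IH) (Lpn (LP (LK LD1_c6 LD2_c2 LD3_c55))))))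
theorem f750405 : Led Lsl_at (LP (LK LD1_c6 LD2_c2 LD3_c55)) = K56.v16556 :=
  Lgr Lrot66 (Lpe (f645747 IH) (Lpe (f632071 IH) (Lpr_ff (K56.f750404 IH) (Lpn K56.v16556))))
theorem f903622 : Led Lsl_gf K56.v16556 = v38660 :=
  Lgr Lrot76 (Lpe (f750405 IH) (Lpe (f645747 IH) (Lpr_gt (f903621 IH) (Lpn v38660))))
theorem f965929 : Led Lsl_ff (LP (LK LD1_c11 LD2_c49 LD3_c48)) = v38660 :=
  Lgr Lrot52 (Lpr_at (f965926 IH) (Lpe (f903626 IH) (Lpr_gf (f903622 IH) (Lpn v38660))))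
theorem f645770 : Led Lsl_ct (LP (LK LD1_c11 LD2_c49 LD3_c48)) = (LP (LK LD1_c20 LD2_c52 LD3_c2)) :=
  Lre_c IH (LK LD1_c11 LD2_c49 LD3_c48) (LK LD1_c20 LD2_c52 LD3_c2) Lrfl Lrfl
theorem f750403 : Led Lsl_cf (LP (LK LD1_c6 LD2_c2 LD3_c51)) = K56.v16556 :=
  Lgr Lrot11 (Lpr_ct (K56.f750401 IH) (Lpn K56.v16556))
theorem f645473 : Led Lsl_dt (LP (LK LD1_c6 LD2_c2 LD3_c51)) = (LP (LK LD1_c2 LD2_c57 LD3_c31)) :=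
  Lre_d IH (LK LD1_c6 LD2_c2 LD3_c51) (LK LD1_c2 LD2_c57 LD3_c31) Lrfl Lrfl
theorem f140810 : Led Lsl_dt (LP (LK LD1_c4 LD2_c59 LD3_c58)) = (LP (LK LD1_c9 LD2_c50 LD3_c28)) :=
  Lre_d IH (LK LD1_c4 LD2_c59 LD3_c58) (LK LD1_c9 LD2_c50 LD3_c28) Lrfl Lrfl
theorem f720510 : Led Lsl_gt (LP (LK LD1_c9 LD2_c50 LD3_c28)) = (LP (LK LD1_c18 LD2_c1 LD3_c31)) :=
  Lre_g IH (LK LD1_c9 LD2_c50 LD3_c28) (LK LD1_c18 LD2_c1 LD3_c31) Lrfl Lrfl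
theorem f903623 : Led Lsl_ct (LP (LK LD1_c18 LD2_c1 LD3_c31)) = v38660 :=
  Lgr Lrot152 (Lpe (f720510 IH) (Lpe (f140810 IH) (Lpr_gt (K56.f720508 IH) (Lpqs (K56.f748826 IH) (Lpe (K56.f719086 IH) (Lpr_gt (K56.f748827 IH) (Lpe (K54.f645897 IH) (Lpe (f645473 IH) (Lpr_cf (f750403 IH) (Lpr_gf (f903622 IH) (Lpn v38660)))))))))))
theorem f965930 : Led Lsl_ft (LP (LK LD1_c20 LD2_c52 LD3_c2)) = (LP (LK LD1_c18 LD2_c1 LD3_c31)) :=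
  Lgr Lrot4 (Lpe (f645770 IH) (Lpr_ff (f965929 IH) (Lpe (f903623 IH) (Lpn (LP (LK LD1_c18 LD2_c1 LD3_c31))))))
theorem f965931 : Led Lsl_ft (LP (LK LD1_c20 LD2_c52 LD3_c2)) = (LP (LK LD1_c18 LD2_c1 LD3_c31)) :=
  Leop (Lpe (f965930 IH) (Lpn (LP (LK LD1_c20 LD2_c52 LD3_c2))))
theorem seed_2922 : LEOK LG_f (LK LD1_c20 LD2_c52 LD3_c2) :=
  Leoe_f (LK LD1_c20 LD2_c52 LD3_c2) (f965931 IH)
def v48497 : LQ := Led Lsl_gf (LP (LK LD1_c11 LD2_c31 LD3_c27))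
theorem f965943 : Led Lsl_gf (LP (LK LD1_c11 LD2_c31 LD3_c27)) = v48497 :=
  Lrfl
theorem f22602 : Led Lsl_bt (LP (LK LD1_c5 LD2_c52 LD3_c28)) = (LP (LK LD1_c11 LD2_c31 LD3_c27)) :=
  Lre_b IH (LK LD1_c5 LD2_c52 LD3_c28) (LK LD1_c11 LD2_c31 LD3_c27) Lrfl Lrfl
theorem f22601 : Led Lsl_ct (LP (LK LD1_c5 LD2_c52 LD3_c28)) = (LP (LK LD1_c2 LD2_c52 LD3_c31)) :=
  Lre_c IH (LK LD1_c5 LD2_c52 LD3_c28) (LK LD1_c2 LD2_c52 LD3_c31) Lrfl Lrfl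
def v9362 : LQ := Led Lsl_gt K59.v2622
theorem f675514 : Led Lsl_gt K59.v2622 = v9362 :=
  Lrfl
theorem f772573 : K58.v9215 = v9362 :=
  Lefun (Lecon (K62.f674414 IH) ((K62.f769997 IH).symm.trans (K59.f772572 IH))) (f675514 IH)
theorem f770884 : Led Lsl_ft K65.v7145 = K65.v5860 :=
  Lgr Lrot48 (Lpr_ff (K65.f770881 IH) (Lpn K65.v5860))
theorem f661538 : Led Lsl_ef (LP (LK LD1_c3 LD2_c39 LD3_c54)) = K65.v7145 :=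
  Lgr Lrot88 (Lpr_et (K65.f661535 IH) (Lpn K65.v7145))
theorem f661540 : Led Lsl_ct K58.v2506 = K65.v7145 :=
  Lgr Lrot15 (Lpe (K58.f523670 IH) (Lpe (K4.f107289 IH) (Lpr_ef (f661538 IH) (Lpn K65.v7145))))
theorem f770121 : K58.v8329 = K58.v2506 :=
  Lefun (Lecon (K58.f670821 IH) (K58.f770114 IH)) (K65.f523673 IH)
theorem f770125 : K58.v18606 = K65.v7145 :=
  Lefun (Lecon (K58.f767689 IH) (f770121 IH)) (f661540 IH)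
def v18605 : LQ := Led Lsl_gt (LP (LK LD1_c6 LD2_c31 LD3_c15))
theorem f767685 : Led Lsl_gt (LP (LK LD1_c6 LD2_c31 LD3_c15)) = v18605 :=
  Lrfl
theorem f770887 : Led Lsl_af v18605 = K65.v5860 :=
  Lgr Lrot31 (Lpe (f767685 IH) (Lpr_gf (K58.f767687 IH) (Lpqs (f770125 IH) (Lpr_ft (f770884 IH) (Lpn K65.v5860)))))
theorem f124197 : Led Lsl_at (LP (LK LD1_c1 LD2_c47 LD3_c59)) = (LP (LK LD1_c1 LD2_c46 LD3_c55)) :=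
  Lgr Lrot67 (Lpr_bf (K4.f104135 IH) (Lpe (K3.f98906 IH) (Lpe (K28.f110934 IH) (Lpr_af (K58.f110325 IH) (Lpr_bf (K4.f124195 IH) (Lpn (LP (LK LD1_c1 LD2_c46 LD3_c55))))))))
theorem f527238 : Led Lsl_at K58.v2506 = K58.v2537 :=
  Lgr Lrot80 (Lpe (K58.f523670 IH) (Lpe (f124197 IH) (Lpr_ef (K60.f527237 IH) (Lpn K58.v2537))))
theorem f673931 : Led Lsl_ff K58.v2506 = K62.v9182 :=
  Lgr Lrot3 (Lpr_ft (K62.f673929 IH) (Lpn K62.v9182))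
theorem f674406 : Led Lsl_af K62.v9182 = K58.v9215 :=
  Lgr Lrot45 (Lpe (f673931 IH) (Lpr_at (f527238 IH) (Lpr_ft (K58.f674405 IH) (Lpn K58.v9215))))
theorem f770889 : Led Lsl_ct v18605 = K58.v9215 :=
  Lgr Lrot111 (Lpr_af (f770887 IH) (Lpe (K65.f770882 IH) (Lpr_af (f674406 IH) (Lpn K58.v9215))))
theorem f965945 : Led Lsl_bt v18605 = v48497 :=
  Lgr Lrot22 (Lpr_ct (f770889 IH) (Lpqs (f772573 IH) (Lpe (f675514 IH) (Lpq (K59.f772572 IH) (Lpe (K59.f649822 IH) (Lpe (K50.f22595 IH) (Lpr_bf (K8.f22575 IH) (Lpr_ct (K55.f22509 IH) (Lpe (K55.f22540 IH) (Lpe (f22601 IH) (Lpr_bt (f22602 IH) (Lpr_gf (f965943 IH) (Lpn v48497)))))))))))))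
theorem f661539 : Led Lsl_at K58.v5832 = K65.v7145 :=
  Lgr Lrot80 (Lpe (K58.f649714 IH) (Lpe (K58.f436738 IH) (Lpr_ef (f661538 IH) (Lpn K65.v7145))))
theorem f770890 : Led Lsl_ft v18605 = K58.v5832 :=
  Lgr Lrot101 (Lpr_af (f770887 IH) (Lpe (f770884 IH) (Lpe (f661539 IH) (Lpn K58.v5832))))
theorem f649715 : Led Lsl_cf K58.v2537 = K58.v5832 :=
  Lgr Lrot39 (Lpe (K60.f527237 IH) (Lpr_ct (K7.f147467 IH) (Lpr_et (K58.f649714 IH) (Lpn K58.v5832))))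
theorem f770891 : Led Lsl_cf v18605 = K58.v9215 :=
  Lgr Lrot108 (Lpr_ft (f770890 IH) (Lpe (f649715 IH) (Lpr_ft (K58.f674405 IH) (Lpn K58.v9215))))
theorem f443018 : Led Lsl_bt (LP (LK LD1_c12 LD2_c32 LD3_c31)) = (LP (LK LD1_c6 LD2_c32 LD3_c29)) :=
  Lre_b IH (LK LD1_c12 LD2_c32 LD3_c31) (LK LD1_c6 LD2_c32 LD3_c29) Lrfl Lrfl
theorem f965947 : Led Lsl_cf (LP (LK LD1_c12 LD2_c32 LD3_c31)) = v48497 :=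
  Lgr Lrot97 (Lpr_bt (f443018 IH) (Lpqs (K58.f769999 IH) (Lpe (K58.f703390 IH) (Lpr_bt (K58.f674411 IH) (Lpe (f770891 IH) (Lpr_bt (f965945 IH) (Lpn v48497)))))))
theorem f768223 : Led Lsl_gt (LP (LK LD1_c21 LD2_c38 LD3_c26)) = (LP (LK LD1_c12 LD2_c32 LD3_c31)) :=
  Lre_g IH (LK LD1_c21 LD2_c38 LD3_c26) (LK LD1_c12 LD2_c32 LD3_c31) Lrfl Lrfl
theorem f965946 : Led Lsl_bf v18605 = v48497 :=
  Lgr Lrot24 (Lpr_bt (f965945 IH) (Lpn v48497))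
theorem f649862 : Led Lsl_ff (LP (LK LD1_c3 LD2_c14 LD3_c21)) = K58.v5862 :=
  Lgr Lrot3 (Lpr_ft (K58.f649860 IH) (Lpn K58.v5862))
theorem f649871 : Led Lsl_at (LP (LK LD1_c3 LD2_c14 LD3_c21)) = K58.v5863 :=
  Lgr Lrot66 (Lpr_ff (f649862 IH) (Lpe (K58.f649856 IH) (Lpr_ff (K58.f649869 IH) (Lpn K58.v5863))))
theorem f767686 : Led Lsl_gf K58.v5863 = v18605 :=
  Lgr Lrot76 (Lpe (f649871 IH) (Lpr_ff (f649862 IH) (Lpqs (K58.f663639 IH) (Lpr_gt (f767685 IH) (Lpn v18605)))))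
theorem f22577 : Led Lsl_ct (LP (LK LD1_c6 LD2_c31 LD3_c18)) = (LP (LK LD1_c3 LD2_c13 LD3_c51)) :=
  Lre_c IH (LK LD1_c6 LD2_c31 LD3_c18) (LK LD1_c3 LD2_c13 LD3_c51) Lrfl Lrfl
theorem f22579 : Led Lsl_bt (LP (LK LD1_c3 LD2_c13 LD3_c49)) = (LP (LK LD1_c6 LD2_c31 LD3_c12)) :=
  Lre_b IH (LK LD1_c3 LD2_c13 LD3_c49) (LK LD1_c6 LD2_c31 LD3_c12) Lrfl Lrfl
theorem f156534 : Led Lsl_gt (LP (LK LD1_c6 LD2_c31 LD3_c12)) = (LP (LK LD1_c12 LD2_c30 LD3_c58)) :=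
  Lre_g IH (LK LD1_c6 LD2_c31 LD3_c12) (LK LD1_c12 LD2_c30 LD3_c58) Lrfl Lrfl
theorem f663845 : Led Lsl_bt (LP (LK LD1_c21 LD2_c37 LD3_c20)) = (LP (LK LD1_c12 LD2_c30 LD3_c58)) :=
  Lre_b IH (LK LD1_c21 LD2_c37 LD3_c20) (LK LD1_c12 LD2_c30 LD3_c58) Lrfl Lrfl
theorem f965956 : Led Lsl_cf (LP (LK LD1_c21 LD2_c38 LD3_c26)) = (LP (LK LD1_c21 LD2_c37 LD3_c20)) :=
  Lgr Lrot160 (Lpr_gt (f768223 IH) (Lpr_cf (f965947 IH) (Lpe (f965946 IH) (Lpe (f767686 IH) (Lpqs (K58.f663665 IH) (Lpr_ct (f22577 IH) (Lpr_gt (K46.f148400 IH) (Lpe (K50.f23773 IH) (Lpr_bt (f22579 IH) (Lpr_gt (f156534 IH) (Lpe (f663845 IH) (Lpn (LP (LK LD1_c21 LD2_c37 LD3_c20))))))))))))))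
theorem f965957 : Led Lsl_ct (LP (LK LD1_c21 LD2_c37 LD3_c20)) = (LP (LK LD1_c21 LD2_c38 LD3_c26)) :=
  Leop (Lpr_cf (f965956 IH) (Lpn (LP (LK LD1_c21 LD2_c37 LD3_c20))))
theorem seed_2923 : LEOK LG_c (LK LD1_c21 LD2_c37 LD3_c20) :=
  Leoe_c (LK LD1_c21 LD2_c37 LD3_c20) (f965957 IH)
def v48454 : LQ := Led Lsl_ft (LP (LK LD1_c11 LD2_c31 LD3_c4))
theorem f965691 : Led Lsl_ft (LP (LK LD1_c11 LD2_c31 LD3_c4)) = v48454 :=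
  Lrfl
theorem f965694 : Led Lsl_ff (LP (LK LD1_c11 LD2_c31 LD3_c4)) = v48454 :=
  Lgr Lrot3 (Lpr_ft (f965691 IH) (Lpn v48454))
theorem f22675 : Led Lsl_et (LP (LK LD1_c6 LD2_c31 LD3_c12)) = (LP (LK LD1_c3 LD2_c13 LD3_c48)) :=
  Lre_e IH (LK LD1_c6 LD2_c31 LD3_c12) (LK LD1_c3 LD2_c13 LD3_c48) Lrfl Lrfl
theorem f22676 : Led Lsl_et (LP (LK LD1_c5 LD2_c52 LD3_c1)) = (LP (LK LD1_c11 LD2_c31 LD3_c4)) :=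
  Lre_e IH (LK LD1_c5 LD2_c52 LD3_c1) (LK LD1_c11 LD2_c31 LD3_c4) Lrfl Lrfl
theorem f22677 : Led Lsl_af (LP (LK LD1_c6 LD2_c31 LD3_c12)) = (LP (LK LD1_c11 LD2_c31 LD3_c4)) :=
  Lgr Lrot50 (Lpr_et (f22675 IH) (Lpr_at (K8.f22666 IH) (Lpr_et (f22676 IH) (Lpn (LP (LK LD1_c11 LD2_c31 LD3_c4))))))
def v18597 : LQ := Led Lsl_ft (LP (LK LD1_c6 LD2_c31 LD3_c12))
theorem f767642 : Led Lsl_ft (LP (LK LD1_c6 LD2_c31 LD3_c12)) = v18597 :=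
  Lrfl
theorem f965696 : Led Lsl_at v18597 = v48454 :=
  Lgr Lrot66 (Lpe (f767642 IH) (Lpr_af (f22677 IH) (Lpr_ff (f965694 IH) (Lpn v48454))))
theorem f965700 : Led Lsl_gt (LP (LK LD1_c12 LD2_c30 LD3_c58)) = v48454 :=
  Lgr Lrot46 (Lpe (f156534 IH) (Lpr_ft (f767642 IH) (Lpr_at (f965696 IH) (Lpn v48454))))
theorem f22581 : Led Lsl_bt (LP (LK LD1_c11 LD2_c31 LD3_c4)) = (LP (LK LD1_c5 LD2_c52 LD3_c2)) :=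
  Lre_b IH (LK LD1_c11 LD2_c31 LD3_c4) (LK LD1_c5 LD2_c52 LD3_c2) Lrfl Lrfl
theorem f965697 : Led Lsl_bt (LP (LK LD1_c11 LD2_c31 LD3_c6)) = v48454 :=
  Lgr Lrot35 (Lpe (K55.f206171 IH) (Lpe (f22581 IH) (Lpr_ff (f965694 IH) (Lpn v48454))))
theorem f151959 : Led Lsl_ct (LP (LK LD1_c11 LD2_c31 LD3_c6)) = (LP (LK LD1_c5 LD2_c52 LD3_c5)) :=
  Lre_c IH (LK LD1_c11 LD2_c31 LD3_c6) (LK LD1_c5 LD2_c52 LD3_c5) Lrfl Lrfl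
def v48496 : LQ := Led Lsl_gt (LP (LK LD1_c11 LD2_c31 LD3_c27))
theorem f965942 : Led Lsl_gt (LP (LK LD1_c11 LD2_c31 LD3_c27)) = v48496 :=
  Lrfl
theorem f770892 : Led Lsl_ff v18605 = K58.v5832 :=
  Lgr Lrot3 (Lpr_ft (f770890 IH) (Lpn K58.v5832))
def v18615 : LQ := Led Lsl_et (LP (LK LD1_c6 LD2_c31 LD3_c20))
theorem f767744 : Led Lsl_et (LP (LK LD1_c6 LD2_c31 LD3_c20)) = v18615 :=
  Lrfl
theorem f148077 : Led Lsl_bt (LP (LK LD1_c3 LD2_c13 LD3_c54)) = (LP (LK LD1_c6 LD2_c31 LD3_c20)) :=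
  Lre_b IH (LK LD1_c3 LD2_c13 LD3_c54) (LK LD1_c6 LD2_c31 LD3_c20) Lrfl Lrfl
theorem f767745 : Led Lsl_bf K58.v5832 = v18615 :=
  Lgr Lrot96 (Lpe (K58.f649716 IH) (Lpr_bt (f148077 IH) (Lpr_et (f767744 IH) (Lpn v18615))))
theorem f965948 : Led Lsl_ff v18615 = v48497 :=
  Lgr Lrot25 (Lpe (f767745 IH) (Lpe (f770892 IH) (Lpr_bt (f965945 IH) (Lpn v48497))))
theorem f965950 : Led Lsl_at v18615 = v48496 :=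
  Lgr Lrot26 (Lpr_ff (f965948 IH) (Lpe (f965943 IH) (Lpr_gt (f965942 IH) (Lpn v48496))))
theorem f767747 : Led Lsl_ef (LP (LK LD1_c6 LD2_c31 LD3_c20)) = v18615 :=
  Lgr Lrot88 (Lpr_et (f767744 IH) (Lpn v18615))
theorem f147502 : Led Lsl_bt (LP (LK LD1_c6 LD2_c31 LD3_c20)) = (LP (LK LD1_c3 LD2_c13 LD3_c54)) :=
  Lre_b IH (LK LD1_c6 LD2_c31 LD3_c20) (LK LD1_c3 LD2_c13 LD3_c54) Lrfl Lrfl
theorem f420115 : Led Lsl_ct (LP (LK LD1_c6 LD2_c31 LD3_c20)) = (LP (LK LD1_c4 LD2_c44 LD3_c38)) :=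
  Lgr Lrot10 (Lpr_bt (f147502 IH) (Lpr_gt (K7.f147466 IH) (Lpr_ct (K6.f22622 IH) (Lpr_gt (K7.f147777 IH) (Lpe (K8.f148440 IH) (Lpr_bt (K8.f155516 IH) (Lpr_gt (K8.f155517 IH) (Lpe (K37.f162603 IH) (Lpr_ct (K42.f420110 IH) (Lpr_gt (K41.f103251 IH) (Lpn (LP (LK LD1_c4 LD2_c44 LD3_c38)))))))))))))
theorem f767749 : Led Lsl_ct (LP (LK LD1_c9 LD2_c22 LD3_c1)) = v18615 :=
  Lgr Lrot15 (Lpe (K37.f110705 IH) (Lpe (f420115 IH) (Lpr_ef (f767747 IH) (Lpn v18615))))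
theorem f965952 : Led Lsl_cf (LP (LK LD1_c17 LD2_c18 LD3_c13)) = v48496 :=
  Lgr Lrot1 (Lpr_at (K42.f110645 IH) (Lpr_ct (f767749 IH) (Lpr_at (f965950 IH) (Lpn v48496))))
theorem f965963 : Led Lsl_gf (LP (LK LD1_c21 LD2_c38 LD3_c26)) = (LP (LK LD1_c17 LD2_c18 LD3_c13)) :=
  Lgr Lrot129 (Lpr_cf (f965956 IH) (Lpr_bt (f663845 IH) (Lpr_gt (f965700 IH) (Lpe (f965697 IH) (Lpr_ct (f151959 IH) (Lpr_gt (K53.f436226 IH) (Lpe (f22601 IH) (Lpr_bt (f22602 IH) (Lpr_gt (f965942 IH) (Lpe (f965952 IH) (Lpn (LP (LK LD1_c17 LD2_c18 LD3_c13)))))))))))))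
theorem f965964 : Led Lsl_gt (LP (LK LD1_c17 LD2_c18 LD3_c13)) = (LP (LK LD1_c21 LD2_c38 LD3_c26)) :=
  Leop (Lpr_gf (f965963 IH) (Lpn (LP (LK LD1_c17 LD2_c18 LD3_c13))))
theorem seed_2924 : LEOK LG_g (LK LD1_c17 LD2_c18 LD3_c13) :=
  Leoe_g (LK LD1_c17 LD2_c18 LD3_c13) (f965964 IH)
def v48519 : LQ := Led Lsl_gt (LP (LK LD1_c11 LD2_c31 LD3_c40))
theorem f966066 : Led Lsl_gt (LP (LK LD1_c11 LD2_c31 LD3_c40)) = v48519 :=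
  Lrfl
theorem f782033 : Led Lsl_df (LP (LK LD1_c6 LD2_c46 LD3_c25)) = K65.v19768 :=
  Lgr Lrot38 (Lpr_dt (K65.f782032 IH) (Lpn K65.v19768))
theorem f966067 : Led Lsl_et K65.v19768 = v48519 :=
  Lgr Lrot122 (Lpe (f782033 IH) (Lpr_gt (K17.f413859 IH) (Lpe (K60.f100470 IH) (Lpr_et (K7.f100453 IH) (Lpr_gt (K43.f100472 IH) (Lpe (K43.f575929 IH) (Lpr_gt (K44.f575937 IH) (Lpe (K42.f548976 IH) (Lpr_et (K55.f548978 IH) (Lpr_gt (f966066 IH) (Lpn v48519)))))))))))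
theorem f966069 : Led Lsl_ef K65.v19768 = v48519 :=
  Lgr Lrot88 (Lpr_et (f966067 IH) (Lpn v48519))
theorem f785107 : Led Lsl_af (LP (LK LD1_c6 LD2_c51 LD3_c8)) = K65.v20157 :=
  Lgr Lrot0 (Lpr_at (K65.f785106 IH) (Lpn K65.v20157))
theorem f785114 : Led Lsl_af (LP (LK LD1_c6 LD2_c51 LD3_c12)) = K65.v20158 :=
  Lgr Lrot45 (Lpr_ft (K65.f785110 IH) (Lpe (f785107 IH) (Lpr_ft (K65.f785113 IH) (Lpn K65.v20158))))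
theorem f966070 : Led Lsl_at (LP (LK LD1_c13 LD2_c2 LD3_c21)) = v48519 :=
  Lgr Lrot80 (Lpe (K55.f101706 IH) (Lpr_af (f785114 IH) (Lpqs (K65.f785159 IH) (Lpr_ef (f966069 IH) (Lpn v48519)))))
theorem f563037 : Led Lsl_gt (LP (LK LD1_c20 LD2_c28 LD3_c16)) = (LP (LK LD1_c11 LD2_c31 LD3_c40)) :=
  Lre_g IH (LK LD1_c20 LD2_c28 LD3_c16) (LK LD1_c11 LD2_c31 LD3_c40) Lrfl Lrfl
theorem f966071 : Led Lsl_ff (LP (LK LD1_c13 LD2_c2 LD3_c21)) = (LP (LK LD1_c20 LD2_c28 LD3_c16)) :=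
  Lgr Lrot52 (Lpr_at (f966070 IH) (Lpe (f966066 IH) (Lpe (f563037 IH) (Lpn (LP (LK LD1_c20 LD2_c28 LD3_c16))))))
theorem f966072 : Led Lsl_ft (LP (LK LD1_c20 LD2_c28 LD3_c16)) = (LP (LK LD1_c13 LD2_c2 LD3_c21)) :=
  Leop (Lpr_ff (f966071 IH) (Lpn (LP (LK LD1_c20 LD2_c28 LD3_c16))))
theorem seed_2925 : LEOK LG_f (LK LD1_c20 LD2_c28 LD3_c16) :=
  Leoe_f (LK LD1_c20 LD2_c28 LD3_c16) (f966072 IH)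
def v48574 : LQ := Led Lsl_gf (LP (LK LD1_c11 LD2_c32 LD3_c15))
theorem f966298 : Led Lsl_gf (LP (LK LD1_c11 LD2_c32 LD3_c15)) = v48574 :=
  Lrfl
theorem f710877 : Led Lsl_bt (LP (LK LD1_c4 LD2_c57 LD3_c58)) = (LP (LK LD1_c9 LD2_c46 LD3_c45)) :=
  Lre_b IH (LK LD1_c4 LD2_c57 LD3_c58) (LK LD1_c9 LD2_c46 LD3_c45) Lrfl Lrfl
theorem f9268 : Led Lsl_bt (LP (LK LD1_c2 LD2_c48 LD3_c50)) = (LP (LK LD1_c5 LD2_c44 LD3_c60)) :=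
  Lre_b IH (LK LD1_c2 LD2_c48 LD3_c50) (LK LD1_c5 LD2_c44 LD3_c60) Lrfl Lrfl
theorem f9269 : Led Lsl_gt (LP (LK LD1_c5 LD2_c44 LD3_c60)) = (LP (LK LD1_c11 LD2_c16 LD3_c35)) :=
  Lre_g IH (LK LD1_c5 LD2_c44 LD3_c60) (LK LD1_c11 LD2_c16 LD3_c35) Lrfl Lrfl
theorem f638617 : Led Lsl_ct (LP (LK LD1_c11 LD2_c16 LD3_c35)) = (LP (LK LD1_c20 LD2_c12 LD3_c36)) :=
  Lre_c IH (LK LD1_c11 LD2_c16 LD3_c35) (LK LD1_c20 LD2_c12 LD3_c36) Lrfl Lrfl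
theorem f931540 : Led Lsl_gf (LP (LK LD1_c11 LD2_c18 LD3_c31)) = (LP (LK LD1_c20 LD2_c12 LD3_c36)) :=
  Lgr Lrot129 (Lpe (K39.f424406 IH) (Lpr_bt (K50.f424400 IH) (Lpr_gt (K73.f737504 IH) (Lpq (K73.f931513 IH) (Lpe (f710877 IH) (Lpqs (K53.f710874 IH) (Lpe (K53.f638611 IH) (Lpr_gt (K53.f9272 IH) (Lpe (K40.f9264 IH) (Lpr_bt (f9268 IH) (Lpr_gt (f9269 IH) (Lpr_ct (f638617 IH) (Lpn (LP (LK LD1_c20 LD2_c12 LD3_c36)))))))))))))))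
theorem f966299 : Led Lsl_ct (LP (LK LD1_c17 LD2_c32 LD3_c60)) = v48574 :=
  Lgr Lrot152 (Lpe (K74.f9297 IH) (Lpe (K74.f74655 IH) (Lpr_gt (f9269 IH) (Lpr_ct (f638617 IH) (Lpe (f931540 IH) (Lpe (K39.f424398 IH) (Lpe (K50.f559532 IH) (Lpe (K40.f539870 IH) (Lpr_gf (f966298 IH) (Lpn v48574))))))))))
theorem f957736 : Led Lsl_ct (LP (LK LD1_c20 LD2_c17 LD3_c47)) = (LP (LK LD1_c11 LD2_c20 LD3_c28)) :=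
  Lre_c IH (LK LD1_c20 LD2_c17 LD3_c47) (LK LD1_c11 LD2_c20 LD3_c28) Lrfl Lrfl
theorem f966302 : Led Lsl_ff (LP (LK LD1_c20 LD2_c17 LD3_c47)) = v48574 :=
  Lgr Lrot23 (Lpr_ct (f957736 IH) (Lpr_ft (f957732 IH) (Lpr_ct (f966299 IH) (Lpn v48574))))
theorem f539424 : Led Lsl_gt (LP (LK LD1_c11 LD2_c32 LD3_c15)) = (LP (LK LD1_c20 LD2_c28 LD3_c59)) :=
  Lre_g IH (LK LD1_c11 LD2_c32 LD3_c15) (LK LD1_c20 LD2_c28 LD3_c59) Lrfl Lrfl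
theorem f966304 : Led Lsl_at (LP (LK LD1_c20 LD2_c17 LD3_c47)) = (LP (LK LD1_c20 LD2_c28 LD3_c59)) :=
  Lgr Lrot26 (Lpr_ff (f966302 IH) (Lpe (f966298 IH) (Lpr_gt (f539424 IH) (Lpn (LP (LK LD1_c20 LD2_c28 LD3_c59))))))
theorem f966305 : Led Lsl_at (LP (LK LD1_c20 LD2_c17 LD3_c47)) = (LP (LK LD1_c20 LD2_c28 LD3_c59)) :=
  Leop (Lpe (f966304 IH) (Lpn (LP (LK LD1_c20 LD2_c17 LD3_c47))))
theorem seed_2926 : LEOK LG_a (LK LD1_c20 LD2_c17 LD3_c47) :=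
  Leoe_a (LK LD1_c20 LD2_c17 LD3_c47) (f966305 IH)
def v48661 : LQ := Led Lsl_bt (LP (LK LD1_c11 LD2_c33 LD3_c26))
theorem f966693 : Led Lsl_bt (LP (LK LD1_c11 LD2_c33 LD3_c26)) = v48661 :=
  Lrfl
theorem f966695 : Led Lsl_bf (LP (LK LD1_c11 LD2_c33 LD3_c26)) = v48661 :=
  Lgr Lrot24 (Lpr_bt (f966693 IH) (Lpn v48661))
theorem f104582 : Led Lsl_gt (LP (LK LD1_c11 LD2_c33 LD3_c26)) = (LP (LK LD1_c5 LD2_c53 LD3_c45)) :=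
  Lre_g IH (LK LD1_c11 LD2_c33 LD3_c26) (LK LD1_c5 LD2_c53 LD3_c45) Lrfl Lrfl
theorem f408070 : Led Lsl_ct (LP (LK LD1_c7 LD2_c57 LD3_c24)) = (LP (LK LD1_c15 LD2_c0 LD3_c12)) :=
  Lre_c IH (LK LD1_c7 LD2_c57 LD3_c24) (LK LD1_c15 LD2_c0 LD3_c12) Lrfl Lrfl
theorem f443780 : Led Lsl_gt (LP (LK LD1_c15 LD2_c0 LD3_c12)) = (LP (LK LD1_c24 LD2_c47 LD3_c19)) :=
  Lre_g IH (LK LD1_c15 LD2_c0 LD3_c12) (LK LD1_c24 LD2_c47 LD3_c19) Lrfl Lrfl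
theorem f966699 : Led Lsl_cf (LP (LK LD1_c24 LD2_c47 LD3_c19)) = v48661 :=
  Lgr Lrot58 (Lpe (f443780 IH) (Lpe (f408070 IH) (Lpr_bt (K1.f39949 IH) (Lpr_gf (K37.f443766 IH) (Lpe (K65.f443775 IH) (Lpr_ct (f443778 IH) (Lpr_gf (f894102 IH) (Lpqs (f964898 IH) (Lpe (K6.f104580 IH) (Lpe (f104582 IH) (Lpr_bf (f966695 IH) (Lpn v48661))))))))))))
theorem f445038 : Led Lsl_bt (LP (LK LD1_c15 LD2_c8 LD3_c14)) = (LP (LK LD1_c8 LD2_c2 LD3_c28)) :=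
  Lre_b IH (LK LD1_c15 LD2_c8 LD3_c14) (LK LD1_c8 LD2_c2 LD3_c28) Lrfl Lrfl
theorem f965007 : Led Lsl_ff (LP (LK LD1_c15 LD2_c8 LD3_c14)) = (LP (LK LD1_c11 LD2_c33 LD3_c25)) :=
  Lgr Lrot25 (Lpr_bt (f445038 IH) (Lpr_ft (K57.f746174 IH) (Lpr_bt (f964996 IH) (Lpn (LP (LK LD1_c11 LD2_c33 LD3_c25))))))
theorem f149051 : Led Lsl_gt (LP (LK LD1_c17 LD2_c0 LD3_c21)) = (LP (LK LD1_c11 LD2_c33 LD3_c26)) :=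
  Lgr Lrot5 (Lpr_ft (K71.f149048 IH) (Lpr_at (K7.f149040 IH) (Lpe (f104582 IH) (Lpn (LP (LK LD1_c11 LD2_c33 LD3_c26))))))
theorem f965011 : Led Lsl_at (LP (LK LD1_c15 LD2_c8 LD3_c14)) = (LP (LK LD1_c11 LD2_c33 LD3_c26)) :=
  Lgr Lrot26 (Lpr_ff (f965007 IH) (Lpe (f149057 IH) (Lpr_gt (f149051 IH) (Lpn (LP (LK LD1_c11 LD2_c33 LD3_c26))))))
theorem f965013 : Led Lsl_af (LP (LK LD1_c15 LD2_c8 LD3_c14)) = (LP (LK LD1_c11 LD2_c33 LD3_c26)) :=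
  Lgr Lrot0 (Lpr_at (f965011 IH) (Lpn (LP (LK LD1_c11 LD2_c33 LD3_c26))))
theorem f697350 : Led Lsl_at (LP (LK LD1_c8 LD2_c51 LD3_c1)) = (LP (LK LD1_c16 LD2_c32 LD3_c38)) :=
  Lre_a IH (LK LD1_c8 LD2_c51 LD3_c1) (LK LD1_c16 LD2_c32 LD3_c38) Lrfl Lrfl
theorem f920409 : Led Lsl_gf (LP (LK LD1_c16 LD2_c32 LD3_c38)) = (LP (LK LD1_c17 LD2_c0 LD3_c19)) :=
  Lgr Lrot76 (Lpe (f697350 IH) (Lpe (f697348 IH) (Lpr_gt (f920360 IH) (Lpn (LP (LK LD1_c17 LD2_c0 LD3_c19))))))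
theorem f697354 : Led Lsl_ct (LP (LK LD1_c8 LD2_c51 LD3_c0)) = (LP (LK LD1_c16 LD2_c32 LD3_c38)) :=
  Lre_c IH (LK LD1_c8 LD2_c51 LD3_c0) (LK LD1_c16 LD2_c32 LD3_c38) Lrfl Lrfl
theorem f697600 : Led Lsl_bt (LP (LK LD1_c8 LD2_c51 LD3_c0)) = (LP (LK LD1_c15 LD2_c0 LD3_c21)) :=
  Lgr Lrot127 (Lpr_bf (f697598 IH) (Lpn (LP (LK LD1_c15 LD2_c0 LD3_c21))))
theorem f558628 : Led Lsl_ct (LP (LK LD1_c8 LD2_c2 LD3_c28)) = (LP (LK LD1_c15 LD2_c8 LD3_c15)) :=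
  Lre_c IH (LK LD1_c8 LD2_c2 LD3_c28) (LK LD1_c15 LD2_c8 LD3_c15) Lrfl Lrfl
theorem f746184 : Led Lsl_bt (LP (LK LD1_c8 LD2_c2 LD3_c28)) = (LP (LK LD1_c15 LD2_c8 LD3_c14)) :=
  Lre_b IH (LK LD1_c8 LD2_c2 LD3_c28) (LK LD1_c15 LD2_c8 LD3_c14) Lrfl Lrfl
def v38282 : LQ := Led Lsl_gf (LP (LK LD1_c9 LD2_c7 LD3_c61))
theorem f900439 : Led Lsl_gf (LP (LK LD1_c9 LD2_c7 LD3_c61)) = v38282 :=
  Lrfl
theorem f920433 : (LP (LK LD1_c15 LD2_c8 LD3_c14)) = v38282 :=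
  (Llr Lrot130 (Lpe (f746184 IH) (Lpr_ct (f558628 IH) (Lpe (K57.f764283 IH) (Lpe (K52.f711292 IH) (Lpr_bt (K69.f764303 IH) (Lpr_gf (K69.f697591 IH) (Lpe (f697600 IH) (Lpr_ct (f697354 IH) (Lpr_gf (f920409 IH) (Lpe (f149071 IH) (Lpr_gf (f900439 IH) (Lpn v38282))))))))))))).symm
theorem f149061 : Led Lsl_ft (LP (LK LD1_c11 LD2_c33 LD3_c27)) = (LP (LK LD1_c5 LD2_c53 LD3_c45)) :=
  Lre_f IH (LK LD1_c11 LD2_c33 LD3_c27) (LK LD1_c5 LD2_c53 LD3_c45) Lrfl Lrfl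
theorem f900440 : Led Lsl_gt (LP (LK LD1_c11 LD2_c33 LD3_c27)) = v38282 :=
  Lgr Lrot5 (Lpr_ft (f149061 IH) (Lpe (f149043 IH) (Lpr_gf (f900439 IH) (Lpn v38282))))
theorem f965015 : Led Lsl_ft (LP (LK LD1_c17 LD2_c0 LD3_c20)) = (LP (LK LD1_c11 LD2_c33 LD3_c26)) :=
  Lgr Lrot2 (Lpr_gt (K71.f149063 IH) (Lpr_gt (f900440 IH) (Lpq (f920433 IH) (Lpr_af (f965013 IH) (Lpn (LP (LK LD1_c11 LD2_c33 LD3_c26)))))))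
theorem f444720 : Led Lsl_bt (LP (LK LD1_c3 LD2_c57 LD3_c61)) = (LP (LK LD1_c1 LD2_c55 LD3_c46)) :=
  Lre_b IH (LK LD1_c3 LD2_c57 LD3_c61) (LK LD1_c1 LD2_c55 LD3_c46) Lrfl Lrfl
theorem f445489 : Led Lsl_gt (LP (LK LD1_c7 LD2_c57 LD3_c21)) = (LP (LK LD1_c15 LD2_c0 LD3_c9)) :=
  Lre_g IH (LK LD1_c7 LD2_c57 LD3_c21) (LK LD1_c15 LD2_c0 LD3_c9) Lrfl Lrfl
theorem f697568 : Led Lsl_ct (LP (LK LD1_c24 LD2_c47 LD3_c26)) = (LP (LK LD1_c15 LD2_c0 LD3_c9)) :=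
  Lre_c IH (LK LD1_c24 LD2_c47 LD3_c26) (LK LD1_c15 LD2_c0 LD3_c9) Lrfl Lrfl
theorem f920363 : Led Lsl_bt (LP (LK LD1_c24 LD2_c47 LD3_c26)) = (LP (LK LD1_c17 LD2_c0 LD3_c20)) :=
  Lgr Lrot130 (Lpr_ct (f697568 IH) (Lpe (f445489 IH) (Lpe (K67.f38703 IH) (Lpr_bt (f444720 IH) (Lpe (K37.f38734 IH) (Lpe (K71.f70298 IH) (Lpr_ct (K71.f70312 IH) (Lpr_gf (K71.f920338 IH) (Lpe (K71.f104575 IH) (Lpe (K71.f149063 IH) (Lpn (LP (LK LD1_c17 LD2_c0 LD3_c20)))))))))))))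
theorem f966696 : Led Lsl_ff (LP (LK LD1_c24 LD2_c47 LD3_c26)) = v48661 :=
  Lgr Lrot25 (Lpr_bt (f920363 IH) (Lpr_ft (f965015 IH) (Lpr_bt (f966693 IH) (Lpn v48661))))
theorem f965021 : Led Lsl_ff (LP (LK LD1_c17 LD2_c0 LD3_c20)) = (LP (LK LD1_c11 LD2_c33 LD3_c26)) :=
  Lgr Lrot3 (Lpr_ft (f965015 IH) (Lpn (LP (LK LD1_c11 LD2_c33 LD3_c26))))
theorem f965023 : Led Lsl_at (LP (LK LD1_c17 LD2_c0 LD3_c20)) = (LP (LK LD1_c11 LD2_c33 LD3_c25)) :=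
  Lgr Lrot66 (Lpr_ff (f965021 IH) (Lpe (f965011 IH) (Lpr_ff (f965007 IH) (Lpn (LP (LK LD1_c11 LD2_c33 LD3_c25))))))
theorem f964998 : Led Lsl_bf (LP (LK LD1_c15 LD2_c8 LD3_c4)) = (LP (LK LD1_c11 LD2_c33 LD3_c25)) :=
  Lgr Lrot24 (Lpr_bt (f964996 IH) (Lpn (LP (LK LD1_c11 LD2_c33 LD3_c25))))
theorem f698882 : Led Lsl_bt (LP (LK LD1_c8 LD2_c2 LD3_c27)) = (LP (LK LD1_c15 LD2_c8 LD3_c11)) :=
  Lre_b IH (LK LD1_c8 LD2_c2 LD3_c27) (LK LD1_c15 LD2_c8 LD3_c11) Lrfl Lrfl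
theorem f965027 : Led Lsl_af (LP (LK LD1_c24 LD2_c47 LD3_c26)) = (LP (LK LD1_c15 LD2_c8 LD3_c11)) :=
  Lgr Lrot36 (Lpr_bt (f920363 IH) (Lpr_at (f965023 IH) (Lpe (f964998 IH) (Lpe (K57.f746158 IH) (Lpr_bt (f698882 IH) (Lpn (LP (LK LD1_c15 LD2_c8 LD3_c11))))))))
theorem f965041 : Led Lsl_at (LP (LK LD1_c24 LD2_c47 LD3_c26)) = (LP (LK LD1_c15 LD2_c8 LD3_c11)) :=
  Lgr Lrot100 (Lpr_af (f965027 IH) (Lpn (LP (LK LD1_c15 LD2_c8 LD3_c11))))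
theorem f445374 : Led Lsl_gf (LP (LK LD1_c8 LD2_c2 LD3_c33)) = (LP (LK LD1_c6 LD2_c13 LD3_c34)) :=
  Lgr Lrot144 (Lpr_dt (K40.f29933 IH) (Lpe (K40.f36793 IH) (Lpe (K40.f59744 IH) (Lpe (K40.f445205 IH) (Lpr_df (K37.f210927 IH) (Lpe (K37.f210932 IH) (Lpe (K1.f16230 IH) (Lpe (K2.f39984 IH) (Lpr_cf (K40.f445365 IH) (Lpn (LP (LK LD1_c6 LD2_c13 LD3_c34))))))))))))
theorem f158962 : Led Lsl_gt (LP (LK LD1_c15 LD2_c0 LD3_c10)) = (LP (LK LD1_c7 LD2_c57 LD3_c21)) :=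
  Lre_g IH (LK LD1_c15 LD2_c0 LD3_c10) (LK LD1_c7 LD2_c57 LD3_c21) Lrfl Lrfl
theorem f445380 : Led Lsl_ct (LP (LK LD1_c24 LD2_c47 LD3_c27)) = (LP (LK LD1_c15 LD2_c0 LD3_c10)) :=
  Lre_c IH (LK LD1_c24 LD2_c47 LD3_c27) (LK LD1_c15 LD2_c0 LD3_c10) Lrfl Lrfl
theorem f445381 : Led Lsl_bf (LP (LK LD1_c15 LD2_c8 LD3_c5)) = (LP (LK LD1_c24 LD2_c47 LD3_c27)) :=
  Lgr Lrot34 (Lpe (K50.f445379 IH) (Lpe (K40.f30118 IH) (Lpr_ct (K40.f29932 IH) (Lpr_gf (f445374 IH) (Lpe (K64.f445368 IH) (Lpe (K1.f37777 IH) (Lpe (f444720 IH) (Lpr_ct (K67.f38703 IH) (Lpe (f158962 IH) (Lpe (f445380 IH) (Lpn (LP (LK LD1_c24 LD2_c47 LD3_c27)))))))))))))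
theorem f746151 : Led Lsl_ft (LP (LK LD1_c15 LD2_c8 LD3_c11)) = (LP (LK LD1_c24 LD2_c47 LD3_c27)) :=
  Lgr Lrot75 (Lpe (f698882 IH) (Lpr_ff (K57.f746149 IH) (Lpr_bf (f445381 IH) (Lpn (LP (LK LD1_c24 LD2_c47 LD3_c27))))))
theorem f966697 : Led Lsl_at (LP (LK LD1_c24 LD2_c47 LD3_c27)) = v48661 :=
  Lgr Lrot66 (Lpe (f746151 IH) (Lpe (f965041 IH) (Lpr_ff (f966696 IH) (Lpn v48661))))
theorem f445385 : Led Lsl_ct (LP (LK LD1_c15 LD2_c0 LD3_c10)) = (LP (LK LD1_c24 LD2_c47 LD3_c27)) :=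
  Lre_c IH (LK LD1_c15 LD2_c0 LD3_c10) (LK LD1_c24 LD2_c47 LD3_c27) Lrfl Lrfl
theorem f966700 : Led Lsl_at (LP (LK LD1_c24 LD2_c47 LD3_c19)) = (LP (LK LD1_c15 LD2_c0 LD3_c10)) :=
  Lgr Lrot107 (Lpr_cf (f966699 IH) (Lpe (f966697 IH) (Lpe (f445385 IH) (Lpn (LP (LK LD1_c15 LD2_c0 LD3_c10))))))
theorem f966701 : Led Lsl_at (LP (LK LD1_c24 LD2_c47 LD3_c19)) = (LP (LK LD1_c15 LD2_c0 LD3_c10)) :=
  Leop (Lpe (f966700 IH) (Lpn (LP (LK LD1_c24 LD2_c47 LD3_c19))))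
theorem seed_2927 : LEOK LG_a (LK LD1_c24 LD2_c47 LD3_c19) :=
  Leoe_a (LK LD1_c24 LD2_c47 LD3_c19) (f966701 IH)
theorem f966698 : Led Lsl_ft (LP (LK LD1_c24 LD2_c47 LD3_c26)) = v48661 :=
  Lgr Lrot48 (Lpr_ff (f966696 IH) (Lpn v48661))
theorem f445491 : Led Lsl_ct (LP (LK LD1_c15 LD2_c0 LD3_c9)) = (LP (LK LD1_c24 LD2_c47 LD3_c26)) :=
  Lre_c IH (LK LD1_c15 LD2_c0 LD3_c9) (LK LD1_c24 LD2_c47 LD3_c26) Lrfl Lrfl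
theorem f966703 : Led Lsl_ft (LP (LK LD1_c24 LD2_c47 LD3_c19)) = (LP (LK LD1_c15 LD2_c0 LD3_c9)) :=
  Lgr Lrot4 (Lpr_cf (f966699 IH) (Lpe (f966698 IH) (Lpe (f445491 IH) (Lpn (LP (LK LD1_c15 LD2_c0 LD3_c9))))))
theorem f966704 : Led Lsl_ft (LP (LK LD1_c24 LD2_c47 LD3_c19)) = (LP (LK LD1_c15 LD2_c0 LD3_c9)) :=
  Leop (Lpe (f966703 IH) (Lpn (LP (LK LD1_c24 LD2_c47 LD3_c19))))
theorem seed_2928 : LEOK LG_f (LK LD1_c24 LD2_c47 LD3_c19) :=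
  Leoe_f (LK LD1_c24 LD2_c47 LD3_c19) (f966704 IH)
def v42827 : LQ := Led Lsl_gt (LP (LK LD1_c10 LD2_c17 LD3_c26))
theorem f936184 : Led Lsl_gt (LP (LK LD1_c10 LD2_c17 LD3_c26)) = v42827 :=
  Lrfl
def v48686 : LQ := Led Lsl_gf (LP (LK LD1_c11 LD2_c33 LD3_c44))
theorem f966827 : Led Lsl_gf (LP (LK LD1_c11 LD2_c33 LD3_c44)) = v48686 :=
  Lrfl
def v42828 : LQ := Led Lsl_at (LP (LK LD1_c10 LD2_c17 LD3_c26))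
theorem f936185 : Led Lsl_at (LP (LK LD1_c10 LD2_c17 LD3_c26)) = v42828 :=
  Lrfl
theorem f936186 : Led Lsl_af (LP (LK LD1_c10 LD2_c17 LD3_c26)) = v42828 :=
  Lgr Lrot0 (Lpr_at (f936185 IH) (Lpn v42828))
theorem f966829 : Led Lsl_ff v42828 = v48686 :=
  Lgr Lrot52 (Lpe (f936186 IH) (Lpr_gf (K70.f906360 IH) (Lpr_gf (f966827 IH) (Lpn v48686))))
def v4572 : LQ := Led Lsl_gf (LP (LK LD1_c2 LD2_c30 LD3_c45))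
theorem f636193 : Led Lsl_gf (LP (LK LD1_c2 LD2_c30 LD3_c45)) = v4572 :=
  Lrfl
theorem f722033 : Led Lsl_ft v4572 = K73.v14340 :=
  Lgr Lrot2 (Lpe (f636193 IH) (Lpr_gt (K69.f166381 IH) (Lpr_af (K73.f722031 IH) (Lpn K73.v14340))))
theorem f722034 : Led Lsl_ff v4572 = K73.v14340 :=
  Lgr Lrot3 (Lpr_ft (f722033 IH) (Lpn K73.v14340))
theorem f308001 : Led Lsl_bt (LP (LK LD1_c10 LD2_c17 LD3_c26)) = (LP (LK LD1_c5 LD2_c13 LD3_c35)) :=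
  Lre_b IH (LK LD1_c10 LD2_c17 LD3_c26) (LK LD1_c5 LD2_c13 LD3_c35) Lrfl Lrfl
def v24130 : LQ := Led Lsl_bt v4572
theorem f822540 : Led Lsl_bt v4572 = v24130 :=
  Lrfl
theorem f901881 : Led Lsl_ff (LP (LK LD1_c10 LD2_c17 LD3_c26)) = v24130 :=
  Lgr Lrot25 (Lpr_bt (f308001 IH) (Lpq (K73.f901857 IH) (Lpe (f722034 IH) (Lpr_bt (f822540 IH) (Lpn v24130)))))
theorem f901887 : Led Lsl_ft (LP (LK LD1_c10 LD2_c17 LD3_c26)) = v24130 :=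
  Lgr Lrot48 (Lpr_ff (f901881 IH) (Lpn v24130))
theorem f966830 : Led Lsl_at v24130 = v48686 :=
  Lgr Lrot66 (Lpe (f901887 IH) (Lpr_af (f936186 IH) (Lpr_ff (f966829 IH) (Lpn v48686))))
theorem f567001 : Led Lsl_ft (LP (LK LD1_c11 LD2_c35 LD3_c19)) = (LP (LK LD1_c5 LD2_c54 LD3_c55)) :=
  Lre_f IH (LK LD1_c11 LD2_c35 LD3_c19) (LK LD1_c5 LD2_c54 LD3_c55) Lrfl Lrfl
theorem f966828 : Led Lsl_gt (LP (LK LD1_c11 LD2_c35 LD3_c19)) = v48686 :=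
  Lgr Lrot5 (Lpr_ft (f567001 IH) (Lpr_at (K41.f566991 IH) (Lpr_gf (f966827 IH) (Lpn v48686))))
theorem f966833 : v42827 = (LP (LK LD1_c11 LD2_c35 LD3_c19)) :=
  (Llr Lrot5 (Lpe (f936184 IH) (Lpr_ft (f901887 IH) (Lpr_at (f966830 IH) (Lpe (f966828 IH) (Lpn (LP (LK LD1_c11 LD2_c35 LD3_c19)))))))).symm
theorem f966834 : Led Lsl_gt (LP (LK LD1_c10 LD2_c17 LD3_c26)) = (LP (LK LD1_c11 LD2_c35 LD3_c19)) :=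
  Leop (Lpq (f966833 IH) (Lpe (f936184 IH) (Lpn (LP (LK LD1_c10 LD2_c17 LD3_c26)))))
theorem seed_2929 : LEOK LG_g (LK LD1_c10 LD2_c17 LD3_c26) :=
  Leoe_g (LK LD1_c10 LD2_c17 LD3_c26) (f966834 IH)
def v48691 : LQ := Led Lsl_et (LP (LK LD1_c11 LD2_c33 LD3_c49))
theorem f966863 : Led Lsl_et (LP (LK LD1_c11 LD2_c33 LD3_c49)) = v48691 :=
  Lrfl
theorem f966866 : Led Lsl_ef (LP (LK LD1_c11 LD2_c33 LD3_c49)) = v48691 :=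
  Lgr Lrot88 (Lpr_et (f966863 IH) (Lpn v48691))
theorem f966868 : Led Lsl_ct (LP (LK LD1_c11 LD2_c33 LD3_c50)) = v48691 :=
  Lgr Lrot15 (Lpe (K38.f436710 IH) (Lpe (K45.f71751 IH) (Lpr_ef (f966866 IH) (Lpn v48691))))
theorem f288220 : Led Lsl_gt (LP (LK LD1_c10 LD2_c10 LD3_c47)) = (LP (LK LD1_c9 LD2_c56 LD3_c14)) :=
  Lgr Lrot5 (Lpr_ft (K17.f180727 IH) (Lpr_at (K17.f288209 IH) (Lpe (K54.f165761 IH) (Lpn (LP (LK LD1_c9 LD2_c56 LD3_c14))))))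
theorem f180721 : Led Lsl_ct (LP (LK LD1_c5 LD2_c14 LD3_c42)) = (LP (LK LD1_c10 LD2_c10 LD3_c47)) :=
  Lgr Lrot59 (Lpr_cf (K17.f180714 IH) (Lpn (LP (LK LD1_c10 LD2_c10 LD3_c47))))
theorem f180718 : Led Lsl_bt (LP (LK LD1_c5 LD2_c14 LD3_c42)) = (LP (LK LD1_c10 LD2_c18 LD3_c50)) :=
  Lre_b IH (LK LD1_c5 LD2_c14 LD3_c42) (LK LD1_c10 LD2_c18 LD3_c50) Lrfl Lrfl
theorem f299955 : Led Lsl_ft (LP (LK LD1_c10 LD2_c18 LD3_c50)) = (LP (LK LD1_c5 LD2_c14 LD3_c39)) :=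
  Lre_f IH (LK LD1_c10 LD2_c18 LD3_c50) (LK LD1_c5 LD2_c14 LD3_c39) Lrfl Lrfl
theorem f936864 : Led Lsl_gt (LP (LK LD1_c10 LD2_c18 LD3_c50)) = K73.v42918 :=
  Lgr Lrot5 (Lpr_ft (f299955 IH) (Lpr_at (K73.f386949 IH) (Lpr_gf (K73.f936863 IH) (Lpn K73.v42918))))
theorem f936884 : Led Lsl_gt K67.v35911 = (LP (LK LD1_c10 LD2_c18 LD3_c50)) :=
  Lgr Lrot5 (Lpe (K67.f881077 IH) (Lpr_at (K73.f936873 IH) (Lpe (f936864 IH) (Lpn (LP (LK LD1_c10 LD2_c18 LD3_c50))))))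
def v35912 : LQ := Led Lsl_ct (LP (LK LD1_c8 LD2_c12 LD3_c47))
theorem f881097 : Led Lsl_ct (LP (LK LD1_c8 LD2_c12 LD3_c47)) = v35912 :=
  Lrfl
theorem f966869 : Led Lsl_gf v35912 = v48691 :=
  Lgr Lrot129 (Lpe (f881097 IH) (Lpr_bt (K67.f881075 IH) (Lpr_gt (f936884 IH) (Lpe (f180718 IH) (Lpr_ct (f180721 IH) (Lpr_gt (f288220 IH) (Lpq (K54.f739441 IH) (Lpe (K54.f723719 IH) (Lpr_bt (K53.f719522 IH) (Lpr_gt (K55.f739789 IH) (Lpr_ct (f966868 IH) (Lpn v48691))))))))))))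

end

end K75

end

end Cfsg.Agent.Helper28.S1692
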